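import Cfsg.Agent.Lib.Helper28.S1692.Seeds55

set_option autoImplicit false
set_option maxRecDepth 100000
set_option linter.all false

namespace Cfsg.Agent.Helper28.S1692

open Cfsg.Agent.Helper28
open Cfsg.Spor.ON (Gen)

noncomputable section

namespace K56
abbrev LD1_c0 := D1.c0
abbrev LD1_c1 := D1.c1
abbrev LD1_c2 := D1.c2
abbrev LD1_c3 := D1.c3
abbrev LD1_c4 := D1.c4
abbrev LD1_c5 := D1.c5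
abbrev LD1_c6 := D1.c6
abbrev LD1_c7 := D1.c7
abbrev LD1_c8 := D1.c8
abbrev LD1_c9 := D1.c9
abbrev LD1_c10 := D1.c10
abbrev LD1_c11 := D1.c11
abbrev LD1_c12 := D1.c12
abbrev LD1_c13 := D1.c13
abbrev LD1_c14 := D1.c14
abbrev LD1_c15 := D1.c15
abbrev LD1_c16 := D1.c16
abbrev LD1_c17 := D1.c17
abbrev LD1_c18 := D1.c18
abbrev LD1_c19 := D1.c19
abbrev LD1_c20 := D1.c20
abbrev LD1_c21 := D1.c21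
abbrev LD1_c22 := D1.c22
abbrev LD1_c23 := D1.c23
abbrev LD1_c24 := D1.c24
abbrev LD1_c25 := D1.c25
abbrev LD1_c26 := D1.c26
abbrev LD1_c27 := D1.c27
abbrev LD1_c28 := D1.c28
abbrev LD1_c29 := D1.c29
abbrev LD1_c30 := D1.c30
abbrev LD1_c31 := D1.c31
abbrev LD1_c32 := D1.c32
abbrev LD2_c0 := D2.c0
abbrev LD2_c1 := D2.c1
abbrev LD2_c2 := D2.c2
abbrev LD2_c3 := D2.c3
abbrev LD2_c4 := D2.c4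
abbrev LD2_c5 := D2.c5
abbrev LD2_c6 := D2.c6
abbrev LD2_c7 := D2.c7
abbrev LD2_c8 := D2.c8
abbrev LD2_c9 := D2.c9
abbrev LD2_c10 := D2.c10
abbrev LD2_c11 := D2.c11
abbrev LD2_c12 := D2.c12
abbrev LD2_c13 := D2.c13
abbrev LD2_c14 := D2.c14
abbrev LD2_c15 := D2.c15
abbrev LD2_c16 := D2.c16
abbrev LD2_c17 := D2.c17
abbrev LD2_c18 := D2.c18
abbrev LD2_c19 := D2.c19
abbrev LD2_c20 := D2.c20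
abbrev LD2_c21 := D2.c21
abbrev LD2_c22 := D2.c22
abbrev LD2_c23 := D2.c23
abbrev LD2_c24 := D2.c24
abbrev LD2_c25 := D2.c25
abbrev LD2_c26 := D2.c26
abbrev LD2_c27 := D2.c27
abbrev LD2_c28 := D2.c28
abbrev LD2_c29 := D2.c29
abbrev LD2_c30 := D2.c30
abbrev LD2_c31 := D2.c31
abbrev LD2_c32 := D2.c32
abbrev LD2_c33 := D2.c33
abbrev LD2_c34 := D2.c34
abbrev LD2_c35 := D2.c35
abbrev LD2_c36 := D2.c36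
abbrev LD2_c37 := D2.c37
abbrev LD2_c38 := D2.c38
abbrev LD2_c39 := D2.c39
abbrev LD2_c40 := D2.c40
abbrev LD2_c41 := D2.c41
abbrev LD2_c42 := D2.c42
abbrev LD2_c43 := D2.c43
abbrev LD2_c44 := D2.c44
abbrev LD2_c45 := D2.c45
abbrev LD2_c46 := D2.c46
abbrev LD2_c47 := D2.c47
abbrev LD2_c48 := D2.c48
abbrev LD2_c49 := D2.c49
abbrev LD2_c50 := D2.c50
abbrev LD2_c51 := D2.c51
abbrev LD2_c52 := D2.c52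
abbrev LD2_c53 := D2.c53
abbrev LD2_c54 := D2.c54
abbrev LD2_c55 := D2.c55
abbrev LD2_c56 := D2.c56
abbrev LD2_c57 := D2.c57
abbrev LD2_c58 := D2.c58
abbrev LD2_c59 := D2.c59
abbrev LD3_c0 := D3.c0
abbrev LD3_c1 := D3.c1
abbrev LD3_c2 := D3.c2
abbrev LD3_c3 := D3.c3
abbrev LD3_c4 := D3.c4
abbrev LD3_c5 := D3.c5
abbrev LD3_c6 := D3.c6
abbrev LD3_c7 := D3.c7
abbrev LD3_c8 := D3.c8
abbrev LD3_c9 := D3.c9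
abbrev LD3_c10 := D3.c10
abbrev LD3_c11 := D3.c11
abbrev LD3_c12 := D3.c12
abbrev LD3_c13 := D3.c13
abbrev LD3_c14 := D3.c14
abbrev LD3_c15 := D3.c15
abbrev LD3_c16 := D3.c16
abbrev LD3_c17 := D3.c17
abbrev LD3_c18 := D3.c18
abbrev LD3_c19 := D3.c19
abbrev LD3_c20 := D3.c20
abbrev LD3_c21 := D3.c21
abbrev LD3_c22 := D3.c22
abbrev LD3_c23 := D3.c23
abbrev LD3_c24 := D3.c24
abbrev LD3_c25 := D3.c25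
abbrev LD3_c26 := D3.c26
abbrev LD3_c27 := D3.c27
abbrev LD3_c28 := D3.c28
abbrev LD3_c29 := D3.c29
abbrev LD3_c30 := D3.c30
abbrev LD3_c31 := D3.c31
abbrev LD3_c32 := D3.c32
abbrev LD3_c33 := D3.c33
abbrev LD3_c34 := D3.c34
abbrev LD3_c35 := D3.c35
abbrev LD3_c36 := D3.c36
abbrev LD3_c37 := D3.c37
abbrev LD3_c38 := D3.c38
abbrev LD3_c39 := D3.c39
abbrev LD3_c40 := D3.c40
abbrev LD3_c41 := D3.c41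
abbrev LD3_c42 := D3.c42
abbrev LD3_c43 := D3.c43
abbrev LD3_c44 := D3.c44
abbrev LD3_c45 := D3.c45
abbrev LD3_c46 := D3.c46
abbrev LD3_c47 := D3.c47
abbrev LD3_c48 := D3.c48
abbrev LD3_c49 := D3.c49
abbrev LD3_c50 := D3.c50
abbrev LD3_c51 := D3.c51
abbrev LD3_c52 := D3.c52
abbrev LD3_c53 := D3.c53
abbrev LD3_c54 := D3.c54
abbrev LD3_c55 := D3.c55
abbrev LD3_c56 := D3.c56
abbrev LD3_c57 := D3.c57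
abbrev LD3_c58 := D3.c58
abbrev LD3_c59 := D3.c59
abbrev LD3_c60 := D3.c60
abbrev LD3_c61 := D3.c61
abbrev LG_g := Gen.g
abbrev Lsl_gt : Gen × Bool := sl_gt
alias Lfl_gt := fl_gt
alias Lpr_gt := pr_gt
abbrev Lsl_gf : Gen × Bool := sl_gf
alias Lfl_gf := fl_gf
alias Lpr_gf := pr_gf
alias Lre_g := re_g
alias Leoe_g := eoe_g
abbrev LG_a := Gen.a
abbrev Lsl_at : Gen × Bool := sl_at
alias Lfl_at := fl_at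
alias Lpr_at := pr_at
abbrev Lsl_af : Gen × Bool := sl_af
alias Lfl_af := fl_af
alias Lpr_af := pr_af
alias Lre_a := re_a
alias Leoe_a := eoe_a
abbrev LG_b := Gen.b
abbrev Lsl_bt : Gen × Bool := sl_bt
alias Lfl_bt := fl_bt
alias Lpr_bt := pr_bt
abbrev Lsl_bf : Gen × Bool := sl_bf
alias Lfl_bf := fl_bf
alias Lpr_bf := pr_bf
alias Lre_b := re_b
alias Leoe_b := eoe_b
abbrev LG_c := Gen.c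
abbrev Lsl_ct : Gen × Bool := sl_ct
alias Lfl_ct := fl_ct
alias Lpr_ct := pr_ct
abbrev Lsl_cf : Gen × Bool := sl_cf
alias Lfl_cf := fl_cf
alias Lpr_cf := pr_cf
alias Lre_c := re_c
alias Leoe_c := eoe_c
abbrev LG_d := Gen.d
abbrev Lsl_dt : Gen × Bool := sl_dt
alias Lfl_dt := fl_dt
alias Lpr_dt := pr_dt
abbrev Lsl_df : Gen × Bool := sl_df
alias Lfl_df := fl_df
alias Lpr_df := pr_df
alias Lre_d := re_d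
alias Leoe_d := eoe_d
abbrev LG_e := Gen.e
abbrev Lsl_et : Gen × Bool := sl_et
alias Lfl_et := fl_et
alias Lpr_et := pr_et
abbrev Lsl_ef : Gen × Bool := sl_ef
alias Lfl_ef := fl_ef
alias Lpr_ef := pr_ef
alias Lre_e := re_e
alias Leoe_e := eoe_e
abbrev LG_f := Gen.f
abbrev Lsl_ft : Gen × Bool := sl_ft
alias Lfl_ft := fl_ft
alias Lpr_ft := pr_ft
abbrev Lsl_ff : Gen × Bool := sl_ff
alias Lfl_ff := fl_ff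
alias Lpr_ff := pr_ff
alias Lre_f := re_f
alias Leoe_f := eoe_f
abbrev LK := Pt.mk
abbrev LQ : Type := Qt rels S
abbrev LP (p : Pt) : LQ := P p
abbrev Led (l : Gen × Bool) (c : LQ) : LQ := ed l c
abbrev LEOK (x : Gen) (p : Pt) : Prop := EntryOK rels S fwd inv o plet idx x p
alias Lpe := pe
alias Lpn := pn
alias Lgr := gr
alias Lpq := pq
alias Lpqs := pqs
alias Llr := lr
alias Leop := eop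
alias Lefun := efun
alias Lecon := econ
theorem Lrfl {α : Sort _} {a : α} : a = a := rfl
alias Lrot0 := rot0
alias Lrot1 := rot1
alias Lrot2 := rot2
alias Lrot3 := rot3
alias Lrot4 := rot4
alias Lrot5 := rot5
alias Lrot6 := rot6
alias Lrot7 := rot7
alias Lrot8 := rot8
alias Lrot9 := rot9
alias Lrot10 := rot10
alias Lrot11 := rot11
alias Lrot12 := rot12
alias Lrot14 := rot14
alias Lrot15 := rot15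
alias Lrot16 := rot16
alias Lrot17 := rot17
alias Lrot18 := rot18
alias Lrot19 := rot19
alias Lrot20 := rot20
alias Lrot21 := rot21
alias Lrot22 := rot22
alias Lrot23 := rot23
alias Lrot24 := rot24
alias Lrot25 := rot25
alias Lrot26 := rot26
alias Lrot27 := rot27
alias Lrot28 := rot28
alias Lrot29 := rot29
alias Lrot30 := rot30
alias Lrot31 := rot31
alias Lrot32 := rot32
alias Lrot33 := rot33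
alias Lrot34 := rot34
alias Lrot35 := rot35
alias Lrot36 := rot36
alias Lrot37 := rot37
alias Lrot38 := rot38
alias Lrot39 := rot39
alias Lrot40 := rot40
alias Lrot42 := rot42
alias Lrot43 := rot43
alias Lrot44 := rot44
alias Lrot45 := rot45
alias Lrot46 := rot46
alias Lrot47 := rot47
alias Lrot48 := rot48
alias Lrot49 := rot49
alias Lrot50 := rot50
alias Lrot51 := rot51
alias Lrot52 := rot52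
alias Lrot53 := rot53
alias Lrot54 := rot54
alias Lrot56 := rot56
alias Lrot57 := rot57
alias Lrot58 := rot58
alias Lrot59 := rot59
alias Lrot60 := rot60
alias Lrot61 := rot61
alias Lrot62 := rot62
alias Lrot63 := rot63
alias Lrot64 := rot64
alias Lrot65 := rot65
alias Lrot66 := rot66
alias Lrot67 := rot67
alias Lrot68 := rot68
alias Lrot69 := rot69
alias Lrot70 := rot70
alias Lrot71 := rot71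
alias Lrot72 := rot72
alias Lrot73 := rot73
alias Lrot74 := rot74
alias Lrot75 := rot75
alias Lrot76 := rot76
alias Lrot77 := rot77
alias Lrot78 := rot78
alias Lrot79 := rot79
alias Lrot80 := rot80
alias Lrot81 := rot81
alias Lrot82 := rot82
alias Lrot83 := rot83
alias Lrot84 := rot84
alias Lrot86 := rot86
alias Lrot87 := rot87
alias Lrot88 := rot88
alias Lrot90 := rot90
alias Lrot91 := rot91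
alias Lrot92 := rot92
alias Lrot93 := rot93
alias Lrot94 := rot94
alias Lrot95 := rot95
alias Lrot96 := rot96
alias Lrot97 := rot97
alias Lrot98 := rot98
alias Lrot99 := rot99
alias Lrot100 := rot100
alias Lrot101 := rot101
alias Lrot102 := rot102
alias Lrot103 := rot103
alias Lrot104 := rot104
alias Lrot105 := rot105
alias Lrot107 := rot107
alias Lrot108 := rot108
alias Lrot109 := rot109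
alias Lrot110 := rot110
alias Lrot111 := rot111
alias Lrot112 := rot112
alias Lrot113 := rot113
alias Lrot114 := rot114
alias Lrot117 := rot117
alias Lrot118 := rot118
alias Lrot119 := rot119
alias Lrot120 := rot120
alias Lrot121 := rot121
alias Lrot122 := rot122
alias Lrot123 := rot123
alias Lrot124 := rot124
alias Lrot125 := rot125
alias Lrot126 := rot126
alias Lrot127 := rot127
alias Lrot128 := rot128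
alias Lrot129 := rot129
alias Lrot130 := rot130
alias Lrot131 := rot131
alias Lrot132 := rot132
alias Lrot133 := rot133
alias Lrot134 := rot134
alias Lrot135 := rot135
alias Lrot136 := rot136
alias Lrot137 := rot137
alias Lrot138 := rot138
alias Lrot139 := rot139
alias Lrot141 := rot141
alias Lrot143 := rot143
alias Lrot144 := rot144
alias Lrot145 := rot145
alias Lrot147 := rot147
alias Lrot148 := rot148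
alias Lrot149 := rot149
alias Lrot150 := rot150
alias Lrot152 := rot152
alias Lrot153 := rot153
alias Lrot155 := rot155
alias Lrot156 := rot156
alias Lrot157 := rot157
alias Lrot158 := rot158
alias Lrot160 := rot160
alias Lrot162 := rot162
alias Lrot163 := rot163
alias Lrot164 := rot164
alias Lrot165 := rot165
alias Lrot166 := rot166
alias Lrot167 := rot167
alias Lrot168 := rot168
alias Lrot169 := rot169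
alias Lrot170 := rot170
alias Lrot171 := rot171
alias Lrot172 := rot172
alias Lrot173 := rot173
alias Lrot176 := rot176
alias Lrot181 := rot181
alias Lrot184 := rot184
alias Lrot185 := rot185
alias Lrot189 := rot189

section
variable (IH : IHT)
include IH

theorem f75895 : Led Lsl_dt (LP (LK LD1_c4 LD2_c40 LD3_c54)) = (LP (LK LD1_c9 LD2_c17 LD3_c17)) :=
  Lre_d IH (LK LD1_c4 LD2_c40 LD3_c54) (LK LD1_c9 LD2_c17 LD3_c17) Lrfl Lrfl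
theorem f75896 : Led Lsl_gf (LP (LK LD1_c9 LD2_c30 LD3_c48)) = (LP (LK LD1_c9 LD2_c17 LD3_c17)) :=
  Lgr Lrot134 (Lpe (K52.f75894 IH) (Lpr_et (K55.f75893 IH) (Lpr_gt (K17.f75892 IH) (Lpe (K50.f75891 IH) (Lpr_dt (K5.f75883 IH) (Lpr_gt (K5.f75882 IH) (Lpe (K5.f75866 IH) (Lpr_et (K5.f75868 IH) (Lpr_gt (K5.f75887 IH) (Lpr_dt (f75895 IH) (Lpn (LP (LK LD1_c9 LD2_c17 LD3_c17)))))))))))))
theorem f705499 : Led Lsl_ff (LP (LK LD1_c9 LD2_c17 LD3_c15)) = (LP (LK LD1_c17 LD2_c12 LD3_c11)) :=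
  Lgr Lrot52 (Lpr_at (K55.f705315 IH) (Lpr_gf (f75896 IH) (Lpe (K55.f75898 IH) (Lpn (LP (LK LD1_c17 LD2_c12 LD3_c11))))))
theorem f740483 : Led Lsl_ff (LP (LK LD1_c12 LD2_c56 LD3_c49)) = (LP (LK LD1_c9 LD2_c30 LD3_c28)) :=
  Lgr Lrot19 (Lpr_dt (K55.f740477 IH) (Lpe (f705499 IH) (Lpr_dt (K52.f74583 IH) (Lpn (LP (LK LD1_c9 LD2_c30 LD3_c28))))))
theorem f740491 : Led Lsl_ft (LP (LK LD1_c12 LD2_c56 LD3_c49)) = (LP (LK LD1_c9 LD2_c30 LD3_c28)) :=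
  Lgr Lrot48 (Lpr_ff (f740483 IH) (Lpn (LP (LK LD1_c9 LD2_c30 LD3_c28))))
def v13838 : LQ := Led Lsl_ft (LP (LK LD1_c4 LD2_c48 LD3_c59))
theorem f705176 : Led Lsl_ft (LP (LK LD1_c4 LD2_c48 LD3_c59)) = v13838 :=
  Lrfl
theorem f705339 : (LP (LK LD1_c2 LD2_c22 LD3_c23)) = v13838 :=
  Lefun (Lecon (Lfl_ff (K50.f634136 IH)) (K52.f705322 IH)) (f705176 IH)
theorem f740495 : Led Lsl_ef (LP (LK LD1_c12 LD2_c56 LD3_c49)) = (LP (LK LD1_c9 LD2_c30 LD3_c61)) :=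
  Lgr Lrot21 (Lpr_ft (f740491 IH) (Lpr_et (K2.f74570 IH) (Lpr_ft (f705176 IH) (Lpq (f705339 IH) (Lpr_et (K50.f634139 IH) (Lpr_ft (K50.f634140 IH) (Lpn (LP (LK LD1_c9 LD2_c30 LD3_c61)))))))))
theorem f452963 : Led Lsl_et (LP (LK LD1_c9 LD2_c30 LD3_c22)) = (LP (LK LD1_c4 LD2_c48 LD3_c56)) :=
  Lre_e IH (LK LD1_c9 LD2_c30 LD3_c22) (LK LD1_c4 LD2_c48 LD3_c56) Lrfl Lrfl
theorem f698997 : Led Lsl_af (LP (LK LD1_c9 LD2_c30 LD3_c22)) = (LP (LK LD1_c5 LD2_c59 LD3_c60)) :=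
  Lgr Lrot50 (Lpr_et (f452963 IH) (Lpq (K52.f698977 IH) (Lpe (K55.f641427 IH) (Lpr_et (K53.f618454 IH) (Lpn (LP (LK LD1_c5 LD2_c59 LD3_c60)))))))
def v13849 : LQ := Led Lsl_gf (LP (LK LD1_c4 LD2_c49 LD3_c4))
theorem f705268 : Led Lsl_gf (LP (LK LD1_c4 LD2_c49 LD3_c4)) = v13849 :=
  Lrfl
theorem f740497 : (LP (LK LD1_c6 LD2_c46 LD3_c47)) = v13849 :=
  (Llr Lrot5 (Lpe (K55.f414539 IH) (Lpr_ft (f740491 IH) (Lpqs (K52.f705319 IH) (Lpe (K52.f705270 IH) (Lpr_gf (f705268 IH) (Lpn v13849))))))).symm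
def v13848 : LQ := Led Lsl_gt (LP (LK LD1_c4 LD2_c49 LD3_c4))
theorem f705266 : Led Lsl_gt (LP (LK LD1_c4 LD2_c49 LD3_c4)) = v13848 :=
  Lrfl
theorem f740499 : (LP (LK LD1_c9 LD2_c30 LD3_c22)) = v13848 :=
  (Llr Lrot26 (Lpr_af (f698997 IH) (Lpq (K53.f669234 IH) (Lpe (K53.f645223 IH) (Lpqs (f740497 IH) (Lpe (f705268 IH) (Lpr_gt (f705266 IH) (Lpn v13848)))))))).symm
theorem f705503 : Led Lsl_ft (LP (LK LD1_c9 LD2_c17 LD3_c15)) = (LP (LK LD1_c17 LD2_c12 LD3_c11)) :=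
  Lgr Lrot48 (Lpr_ff (f705499 IH) (Lpn (LP (LK LD1_c17 LD2_c12 LD3_c11))))
theorem f705505 : Led Lsl_af (LP (LK LD1_c9 LD2_c17 LD3_c14)) = (LP (LK LD1_c17 LD2_c12 LD3_c11)) :=
  Lgr Lrot45 (Lpr_ft (K52.f705307 IH) (Lpe (K52.f705313 IH) (Lpr_ft (f705503 IH) (Lpn (LP (LK LD1_c17 LD2_c12 LD3_c11))))))
theorem f740479 : Led Lsl_af (LP (LK LD1_c12 LD2_c56 LD3_c49)) = (LP (LK LD1_c9 LD2_c30 LD3_c49)) :=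
  Lgr Lrot117 (Lpr_dt (K55.f740477 IH) (Lpe (f705505 IH) (Lpr_dt (K52.f705305 IH) (Lpn (LP (LK LD1_c9 LD2_c30 LD3_c49))))))
theorem f740501 : Led Lsl_gf (LP (LK LD1_c12 LD2_c56 LD3_c49)) = (LP (LK LD1_c9 LD2_c30 LD3_c22)) :=
  Lgr Lrot76 (Lpr_af (f740479 IH) (Lpe (K50.f634150 IH) (Lpr_gt (f705266 IH) (Lpq (f740499 IH) (Lpn (LP (LK LD1_c9 LD2_c30 LD3_c22)))))))
theorem f698984 : Led Lsl_et (LP (LK LD1_c4 LD2_c48 LD3_c56)) = (LP (LK LD1_c9 LD2_c30 LD3_c22)) :=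
  Lre_e IH (LK LD1_c4 LD2_c48 LD3_c56) (LK LD1_c9 LD2_c30 LD3_c22) Lrfl Lrfl
theorem f645218 : Led Lsl_gt (LP (LK LD1_c9 LD2_c13 LD3_c7)) = (LP (LK LD1_c17 LD2_c7 LD3_c39)) :=
  Lre_g IH (LK LD1_c9 LD2_c13 LD3_c7) (LK LD1_c17 LD2_c7 LD3_c39) Lrfl Lrfl
theorem f698995 : Led Lsl_gt (LP (LK LD1_c17 LD2_c7 LD3_c39)) = (LP (LK LD1_c9 LD2_c30 LD3_c21)) :=
  Lgr Lrot46 (Lpe (f645218 IH) (Lpr_ft (K55.f645217 IH) (Lpr_at (K55.f698987 IH) (Lpn (LP (LK LD1_c9 LD2_c30 LD3_c21))))))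
def v16347 : LQ := Led Lsl_et (LP (LK LD1_c5 LD2_c58 LD3_c8))
theorem f748907 : Led Lsl_et (LP (LK LD1_c5 LD2_c58 LD3_c8)) = v16347 :=
  Lrfl
theorem f748908 : Led Lsl_ef (LP (LK LD1_c5 LD2_c58 LD3_c8)) = v16347 :=
  Lgr Lrot88 (Lpr_et (f748907 IH) (Lpn v16347))
theorem f748909 : Led Lsl_df (LP (LK LD1_c17 LD2_c7 LD3_c39)) = v16347 :=
  Lgr Lrot168 (Lpe (f645218 IH) (Lpe (K53.f508515 IH) (Lpr_et (K53.f700770 IH) (Lpe (K53.f720281 IH) (Lpe (K53.f720233 IH) (Lpr_dt (K53.f720267 IH) (Lpe (K53.f75971 IH) (Lpe (K5.f75957 IH) (Lpe (K54.f75966 IH) (Lpr_ef (f748908 IH) (Lpn v16347)))))))))))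
theorem f507051 : Led Lsl_et (LP (LK LD1_c2 LD2_c54 LD3_c53)) = (LP (LK LD1_c5 LD2_c57 LD3_c17)) :=
  Lre_e IH (LK LD1_c2 LD2_c54 LD3_c53) (LK LD1_c5 LD2_c57 LD3_c17) Lrfl Lrfl
theorem f442900 : Led Lsl_gt (LP (LK LD1_c5 LD2_c57 LD3_c17)) = (LP (LK LD1_c11 LD2_c39 LD3_c54)) :=
  Lre_g IH (LK LD1_c5 LD2_c57 LD3_c17) (LK LD1_c11 LD2_c39 LD3_c54) Lrfl Lrfl
theorem f749067 : v16347 = (LP (LK LD1_c11 LD2_c39 LD3_c54)) :=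
  (Llr Lrot135 (Lpe (f748909 IH) (Lpr_gt (f698995 IH) (Lpe (K55.f502759 IH) (Lpr_et (f698984 IH) (Lpe (f740501 IH) (Lpr_ef (f740495 IH) (Lpr_dt (K55.f749064 IH) (Lpe (K55.f749056 IH) (Lpe (K55.f641154 IH) (Lpr_et (f507051 IH) (Lpr_gt (f442900 IH) (Lpn (LP (LK LD1_c11 LD2_c39 LD3_c54))))))))))))))).symm
theorem f749068 : Led Lsl_dt (LP (LK LD1_c11 LD2_c39 LD3_c54)) = (LP (LK LD1_c17 LD2_c7 LD3_c39)) :=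
  Leop (Lpr_df (f748909 IH) (Lpqs (f749067 IH) (Lpn (LP (LK LD1_c11 LD2_c39 LD3_c54)))))
theorem seed_1011 : LEOK LG_d (LK LD1_c11 LD2_c39 LD3_c54) :=
  Leoe_d (LK LD1_c11 LD2_c39 LD3_c54) (f749068 IH)
def v16393 : LQ := Led Lsl_et (LP (LK LD1_c5 LD2_c59 LD3_c24))
theorem f749117 : Led Lsl_et (LP (LK LD1_c5 LD2_c59 LD3_c24)) = v16393 :=
  Lrfl
theorem f749119 : Led Lsl_ef (LP (LK LD1_c5 LD2_c59 LD3_c24)) = v16393 :=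
  Lgr Lrot88 (Lpr_et (f749117 IH) (Lpn v16393))
theorem f139232 : Led Lsl_et (LP (LK LD1_c1 LD2_c23 LD3_c59)) = (LP (LK LD1_c2 LD2_c56 LD3_c4)) :=
  Lre_e IH (LK LD1_c1 LD2_c23 LD3_c59) (LK LD1_c2 LD2_c56 LD3_c4) Lrfl Lrfl
theorem f74881 : Led Lsl_et (LP (LK LD1_c3 LD2_c0 LD3_c39)) = (LP (LK LD1_c1 LD2_c26 LD3_c8)) :=
  Lre_e IH (LK LD1_c3 LD2_c0 LD3_c39) (LK LD1_c1 LD2_c26 LD3_c8) Lrfl Lrfl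
theorem f58641 : Led Lsl_gt (LP (LK LD1_c11 LD2_c58 LD3_c55)) = (LP (LK LD1_c6 LD2_c8 LD3_c41)) :=
  Lre_g IH (LK LD1_c11 LD2_c58 LD3_c55) (LK LD1_c6 LD2_c8 LD3_c41) Lrfl Lrfl
theorem f749121 : Led Lsl_df (LP (LK LD1_c11 LD2_c58 LD3_c55)) = v16393 :=
  Lgr Lrot170 (Lpr_gt (f58641 IH) (Lpe (K2.f74866 IH) (Lpr_et (f74881 IH) (Lpr_gt (K6.f75079 IH) (Lpr_dt (K8.f139184 IH) (Lpr_gt (K6.f14126 IH) (Lpe (K4.f26445 IH) (Lpr_et (f139232 IH) (Lpr_gt (K24.f139233 IH) (Lpr_ef (f749119 IH) (Lpn v16393)))))))))))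
theorem f749125 : Led Lsl_et (LP (LK LD1_c11 LD2_c58 LD3_c55)) = (LP (LK LD1_c21 LD2_c3 LD3_c43)) :=
  Lre_e IH (LK LD1_c11 LD2_c58 LD3_c55) (LK LD1_c21 LD2_c3 LD3_c43) Lrfl Lrfl
theorem f415617 : Led Lsl_dt (LP (LK LD1_c11 LD2_c43 LD3_c26)) = (LP (LK LD1_c5 LD2_c59 LD3_c24)) :=
  Lre_d IH (LK LD1_c11 LD2_c43 LD3_c26) (LK LD1_c5 LD2_c59 LD3_c24) Lrfl Lrfl
theorem f749118 : Led Lsl_et (LP (LK LD1_c20 LD2_c44 LD3_c29)) = (LP (LK LD1_c11 LD2_c43 LD3_c26)) :=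
  Lre_e IH (LK LD1_c20 LD2_c44 LD3_c29) (LK LD1_c11 LD2_c43 LD3_c26) Lrfl Lrfl
theorem f749126 : Led Lsl_dt (LP (LK LD1_c21 LD2_c3 LD3_c43)) = (LP (LK LD1_c20 LD2_c44 LD3_c29)) :=
  Lgr Lrot77 (Lpe (f749125 IH) (Lpr_df (f749121 IH) (Lpe (f749117 IH) (Lpe (f415617 IH) (Lpe (f749118 IH) (Lpn (LP (LK LD1_c20 LD2_c44 LD3_c29))))))))
theorem f749127 : Led Lsl_dt (LP (LK LD1_c21 LD2_c3 LD3_c43)) = (LP (LK LD1_c20 LD2_c44 LD3_c29)) :=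
  Leop (Lpe (f749126 IH) (Lpn (LP (LK LD1_c21 LD2_c3 LD3_c43))))
theorem seed_1012 : LEOK LG_d (LK LD1_c21 LD2_c3 LD3_c43) :=
  Leoe_d (LK LD1_c21 LD2_c3 LD3_c43) (f749127 IH)
def v16399 : LQ := Led Lsl_gt (LP (LK LD1_c5 LD2_c59 LD3_c34))
theorem f749169 : Led Lsl_gt (LP (LK LD1_c5 LD2_c59 LD3_c34)) = v16399 :=
  Lrfl
theorem f749170 : Led Lsl_at K53.v8066 = v16399 :=
  Lgr Lrot26 (Lpr_ff (K53.f700774 IH) (Lpe (K53.f720282 IH) (Lpqs (K53.f719943 IH) (Lpr_gt (f749169 IH) (Lpn v16399)))))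
def v5032 : LQ := Led Lsl_et (LP (LK LD1_c2 LD2_c56 LD3_c16))
theorem f641424 : Led Lsl_et (LP (LK LD1_c2 LD2_c56 LD3_c16)) = v5032 :=
  Lrfl
theorem f700780 : Led Lsl_at v5032 = K53.v13057 :=
  Lgr Lrot80 (Lpe (f641424 IH) (Lpr_af (K51.f641415 IH) (Lpq (K51.f669240 IH) (Lpr_ef (K53.f700773 IH) (Lpn K53.v13057)))))
theorem f749174 : Led Lsl_ff v5032 = v16399 :=
  Lgr Lrot30 (Lpr_at (f700780 IH) (Lpe (K53.f700774 IH) (Lpr_at (f749170 IH) (Lpn v16399))))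
theorem f749175 : Led Lsl_ft v5032 = v16399 :=
  Lgr Lrot48 (Lpr_ff (f749174 IH) (Lpn v16399))
theorem f749173 : Led Lsl_af K53.v8066 = v16399 :=
  Lgr Lrot0 (Lpr_at (f749170 IH) (Lpn v16399))
def v16401 : LQ := Led Lsl_ft (LP (LK LD1_c5 LD2_c59 LD3_c34))
theorem f749181 : Led Lsl_ft (LP (LK LD1_c5 LD2_c59 LD3_c34)) = v16401 :=
  Lrfl
theorem f749184 : Led Lsl_ff (LP (LK LD1_c5 LD2_c59 LD3_c34)) = v16401 :=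
  Lgr Lrot3 (Lpr_ft (f749181 IH) (Lpn v16401))
theorem f645153 : Led Lsl_af (LP (LK LD1_c2 LD2_c56 LD3_c53)) = K53.v5065 :=
  Lgr Lrot0 (Lpr_at (K53.f645152 IH) (Lpn K53.v5065))
def v5064 : LQ := Led Lsl_gf (LP (LK LD1_c2 LD2_c56 LD3_c53))
theorem f645151 : Led Lsl_gf (LP (LK LD1_c2 LD2_c56 LD3_c53)) = v5064 :=
  Lrfl
theorem f749187 : Led Lsl_gf v5064 = v16401 :=
  Lgr Lrot47 (Lpe (f645151 IH) (Lpr_af (f645153 IH) (Lpqs (K53.f719943 IH) (Lpr_ff (f749184 IH) (Lpn v16401)))))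
theorem f384005 : Led Lsl_et (LP (LK LD1_c5 LD2_c59 LD3_c34)) = (LP (LK LD1_c2 LD2_c56 LD3_c6)) :=
  Lre_e IH (LK LD1_c5 LD2_c59 LD3_c34) (LK LD1_c2 LD2_c56 LD3_c6) Lrfl Lrfl
def v5026 : LQ := Led Lsl_at (LP (LK LD1_c2 LD2_c56 LD3_c5))
theorem f641391 : Led Lsl_at (LP (LK LD1_c2 LD2_c56 LD3_c5)) = v5026 :=
  Lrfl
theorem f641392 : Led Lsl_af (LP (LK LD1_c2 LD2_c56 LD3_c5)) = v5026 :=
  Lgr Lrot0 (Lpr_at (f641391 IH) (Lpn v5026))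
theorem f641394 : Led Lsl_ft (LP (LK LD1_c2 LD2_c56 LD3_c6)) = v5026 :=
  Lgr Lrot2 (Lpr_gt (K32.f383995 IH) (Lpr_gt (K53.f75996 IH) (Lpr_af (f641392 IH) (Lpn v5026))))
theorem f719902 : (LP (LK LD1_c1 LD2_c24 LD3_c9)) = v5026 :=
  Lefun (Lecon (Lfl_af (K41.f500839 IH)) (K53.f719899 IH)) (f641391 IH)
theorem f749186 : Led Lsl_et (LP (LK LD1_c6 LD2_c1 LD3_c15)) = v16401 :=
  Lgr Lrot69 (Lpe (K53.f500870 IH) (Lpe (K53.f500846 IH) (Lpqs (f719902 IH) (Lpe (f641394 IH) (Lpe (f384005 IH) (Lpr_ff (f749184 IH) (Lpn v16401)))))))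
theorem f75008 : Led Lsl_dt (LP (LK LD1_c1 LD2_c26 LD3_c9)) = (LP (LK LD1_c3 LD2_c0 LD3_c16)) :=
  Lre_d IH (LK LD1_c1 LD2_c26 LD3_c9) (LK LD1_c3 LD2_c0 LD3_c16) Lrfl Lrfl
theorem f75860 : Led Lsl_et (LP (LK LD1_c6 LD2_c8 LD3_c50)) = (LP (LK LD1_c3 LD2_c0 LD3_c41)) :=
  Lre_e IH (LK LD1_c6 LD2_c8 LD3_c50) (LK LD1_c3 LD2_c0 LD3_c41) Lrfl Lrfl
theorem f75859 : Led Lsl_gt (LP (LK LD1_c5 LD2_c59 LD3_c57)) = (LP (LK LD1_c11 LD2_c44 LD3_c23)) :=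
  Lre_g IH (LK LD1_c5 LD2_c59 LD3_c57) (LK LD1_c11 LD2_c44 LD3_c23) Lrfl Lrfl
theorem f75861 : Led Lsl_df (LP (LK LD1_c11 LD2_c44 LD3_c23)) = (LP (LK LD1_c6 LD2_c8 LD3_c50)) :=
  Lgr Lrot132 (Lpe (f75859 IH) (Lpe (K55.f75858 IH) (Lpe (K51.f75820 IH) (Lpe (K32.f75528 IH) (Lpr_dt (K5.f75526 IH) (Lpe (K4.f20241 IH) (Lpe (K2.f37268 IH) (Lpr_et (K2.f75035 IH) (Lpe (K52.f58504 IH) (Lpe (f75860 IH) (Lpn (LP (LK LD1_c6 LD2_c8 LD3_c50)))))))))))))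
theorem f749188 : v5064 = v5032 :=
  (Llr Lrot131 (Lpr_gf (f749187 IH) (Lpe (f749186 IH) (Lpe (K53.f720251 IH) (Lpe (K53.f76014 IH) (Lpe (f75008 IH) (Lpe (K52.f58504 IH) (Lpe (f75860 IH) (Lpe (f75861 IH) (Lpe (f75859 IH) (Lpe (K55.f75858 IH) (Lpr_et (f641424 IH) (Lpn v5032))))))))))))).symm
def v5063 : LQ := Led Lsl_gt (LP (LK LD1_c2 LD2_c56 LD3_c53))
theorem f645150 : Led Lsl_gt (LP (LK LD1_c2 LD2_c56 LD3_c53)) = v5063 :=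
  Lrfl
theorem f749189 : K53.v8066 = v5063 :=
  (Llr Lrot26 (Lpr_af (f749173 IH) (Lpe (f749175 IH) (Lpq (f749188 IH) (Lpe (f645151 IH) (Lpr_gt (f645150 IH) (Lpn v5063))))))).symm
theorem f495313 : Led Lsl_ct K35.v570 = K48.v1391 :=
  Lgr Lrot15 (Lpe (K35.f454809 IH) (Lpr_cf (K32.f140862 IH) (Lpr_ef (K48.f495312 IH) (Lpn K48.v1391))))
theorem f669027 : Led Lsl_cf K35.v3213 = K48.v7930 :=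
  Lgr Lrot108 (Lpe (K35.f624631 IH) (Lpr_ct (f495313 IH) (Lpr_ft (K48.f669026 IH) (Lpn K48.v7930))))
theorem f151602 : Led Lsl_ct (LP (LK LD1_c5 LD2_c48 LD3_c29)) = (LP (LK LD1_c11 LD2_c26 LD3_c24)) :=
  Lre_c IH (LK LD1_c5 LD2_c48 LD3_c29) (LK LD1_c11 LD2_c26 LD3_c24) Lrfl Lrfl
theorem f645146 : Led Lsl_bt (LP (LK LD1_c6 LD2_c1 LD3_c20)) = (LP (LK LD1_c2 LD2_c56 LD3_c53)) :=
  Lre_b IH (LK LD1_c6 LD2_c1 LD3_c20) (LK LD1_c2 LD2_c56 LD3_c53) Lrfl Lrfl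
theorem f645149 : Led Lsl_ct (LP (LK LD1_c6 LD2_c1 LD3_c20)) = (LP (LK LD1_c11 LD2_c47 LD3_c13)) :=
  Lre_c IH (LK LD1_c6 LD2_c1 LD3_c20) (LK LD1_c11 LD2_c47 LD3_c13) Lrfl Lrfl
theorem f749191 : Led Lsl_gt (LP (LK LD1_c11 LD2_c26 LD3_c24)) = (LP (LK LD1_c11 LD2_c47 LD3_c13)) :=
  Lgr Lrot149 (Lpe (f151602 IH) (Lpr_gf (K55.f741977 IH) (Lpe (K55.f741982 IH) (Lpe (f669027 IH) (Lpqs (K35.f633550 IH) (Lpe (K35.f624583 IH) (Lpe (K35.f509519 IH) (Lpr_bt (K53.f669830 IH) (Lpqs (f749189 IH) (Lpe (f645150 IH) (Lpe (f645146 IH) (Lpr_ct (f645149 IH) (Lpn (LP (LK LD1_c11 LD2_c47 LD3_c13)))))))))))))))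
theorem f749192 : Led Lsl_gt (LP (LK LD1_c11 LD2_c26 LD3_c24)) = (LP (LK LD1_c11 LD2_c47 LD3_c13)) :=
  Leop (Lpe (f749191 IH) (Lpn (LP (LK LD1_c11 LD2_c26 LD3_c24))))
theorem seed_1013 : LEOK LG_g (LK LD1_c11 LD2_c26 LD3_c24) :=
  Leoe_g (LK LD1_c11 LD2_c26 LD3_c24) (f749192 IH)
theorem f501931 : Led Lsl_gt (LP (LK LD1_c11 LD2_c44 LD3_c24)) = (LP (LK LD1_c5 LD2_c59 LD3_c57)) :=
  Lre_g IH (LK LD1_c11 LD2_c44 LD3_c24) (LK LD1_c5 LD2_c59 LD3_c57) Lrfl Lrfl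
theorem f749193 : Led Lsl_df (LP (LK LD1_c11 LD2_c44 LD3_c24)) = (LP (LK LD1_c17 LD2_c32 LD3_c40)) :=
  Lgr Lrot135 (Lpr_gt (f501931 IH) (Lpe (K55.f75858 IH) (Lpr_et (f641424 IH) (Lpq (f749188 IH) (Lpe (f645151 IH) (Lpe (K53.f500859 IH) (Lpr_dt (K41.f500850 IH) (Lpr_gt (K41.f641650 IH) (Lpe (K41.f641664 IH) (Lpe (K41.f642133 IH) (Lpr_gt (K41.f642135 IH) (Lpn (LP (LK LD1_c17 LD2_c32 LD3_c40))))))))))))))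
theorem f749194 : Led Lsl_dt (LP (LK LD1_c17 LD2_c32 LD3_c40)) = (LP (LK LD1_c11 LD2_c44 LD3_c24)) :=
  Leop (Lpr_df (f749193 IH) (Lpn (LP (LK LD1_c17 LD2_c32 LD3_c40))))
theorem seed_1014 : LEOK LG_d (LK LD1_c17 LD2_c32 LD3_c40) :=
  Leoe_d (LK LD1_c17 LD2_c32 LD3_c40) (f749194 IH)
def v16440 : LQ := Led Lsl_at (LP (LK LD1_c6 LD2_c0 LD3_c53))
theorem f749377 : Led Lsl_at (LP (LK LD1_c6 LD2_c0 LD3_c53)) = v16440 :=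
  Lrfl
theorem f749379 : Led Lsl_cf K41.v5047 = v16440 :=
  Lgr Lrot1 (Lpe (K41.f641473 IH) (Lpr_ct (K41.f414699 IH) (Lpr_at (f749377 IH) (Lpn v16440))))
theorem f641477 : Led Lsl_ff (LP (LK LD1_c2 LD2_c56 LD3_c43)) = K41.v5047 :=
  Lgr Lrot3 (Lpr_ft (K41.f641475 IH) (Lpn K41.v5047))
theorem f140218 : Led Lsl_ct (LP (LK LD1_c2 LD2_c56 LD3_c43)) = (LP (LK LD1_c6 LD2_c0 LD3_c56)) :=
  Lre_c IH (LK LD1_c2 LD2_c56 LD3_c43) (LK LD1_c6 LD2_c0 LD3_c56) Lrfl Lrfl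
theorem f749381 : Led Lsl_ft (LP (LK LD1_c6 LD2_c0 LD3_c56)) = v16440 :=
  Lgr Lrot4 (Lpe (f140218 IH) (Lpr_ff (f641477 IH) (Lpr_cf (f749379 IH) (Lpn v16440))))
theorem f749378 : Led Lsl_af (LP (LK LD1_c6 LD2_c0 LD3_c53)) = v16440 :=
  Lgr Lrot0 (Lpr_at (f749377 IH) (Lpn v16440))
theorem f749383 : Led Lsl_gt (LP (LK LD1_c6 LD2_c0 LD3_c56)) = (LP (LK LD1_c9 LD2_c5 LD3_c28)) :=
  Lgr Lrot5 (Lpr_ft (f749381 IH) (Lpe (f749378 IH) (Lpe (K52.f706075 IH) (Lpn (LP (LK LD1_c9 LD2_c5 LD3_c28))))))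
theorem f749384 : Led Lsl_gt (LP (LK LD1_c6 LD2_c0 LD3_c56)) = (LP (LK LD1_c9 LD2_c5 LD3_c28)) :=
  Leop (Lpe (f749383 IH) (Lpn (LP (LK LD1_c6 LD2_c0 LD3_c56))))
theorem seed_1015 : LEOK LG_g (LK LD1_c6 LD2_c0 LD3_c56) :=
  Leoe_g (LK LD1_c6 LD2_c0 LD3_c56) (f749384 IH)
def v16335 : LQ := Led Lsl_et (LP (LK LD1_c5 LD2_c57 LD3_c50))
theorem f748818 : Led Lsl_et (LP (LK LD1_c5 LD2_c57 LD3_c50)) = v16335 :=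
  Lrfl
theorem f203168 : Led Lsl_at (LP (LK LD1_c4 LD2_c33 LD3_c59)) = (LP (LK LD1_c5 LD2_c57 LD3_c50)) :=
  Lgr Lrot66 (Lpr_ff (K35.f203094 IH) (Lpe (K8.f163231 IH) (Lpr_ff (K8.f163259 IH) (Lpn (LP (LK LD1_c5 LD2_c57 LD3_c50))))))
theorem f748819 : Led Lsl_af (LP (LK LD1_c9 LD2_c5 LD3_c28)) = v16335 :=
  Lgr Lrot50 (Lpr_et (K51.f58870 IH) (Lpr_at (f203168 IH) (Lpr_et (f748818 IH) (Lpn v16335))))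
def v16395 : LQ := Led Lsl_gt (LP (LK LD1_c5 LD2_c59 LD3_c28))
theorem f749141 : Led Lsl_gt (LP (LK LD1_c5 LD2_c59 LD3_c28)) = v16395 :=
  Lrfl
theorem f641546 : Led Lsl_ff (LP (LK LD1_c2 LD2_c56 LD3_c51)) = K41.v5055 :=
  Lgr Lrot3 (Lpr_ft (K41.f641544 IH) (Lpn K41.v5055))
theorem f641639 : Led Lsl_at (LP (LK LD1_c2 LD2_c56 LD3_c51)) = K41.v5056 :=
  Lgr Lrot66 (Lpr_ff (f641546 IH) (Lpe (K41.f641539 IH) (Lpr_ff (K53.f641565 IH) (Lpn K41.v5056))))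
theorem f749143 : Led Lsl_gf K41.v5056 = v16395 :=
  Lgr Lrot76 (Lpe (f641639 IH) (Lpr_ff (f641546 IH) (Lpqs (K55.f719905 IH) (Lpr_gt (f749141 IH) (Lpn v16395)))))
theorem f415628 : Led Lsl_ct (LP (LK LD1_c5 LD2_c59 LD3_c32)) = (LP (LK LD1_c2 LD2_c56 LD3_c6)) :=
  Lre_c IH (LK LD1_c5 LD2_c59 LD3_c32) (LK LD1_c2 LD2_c56 LD3_c6) Lrfl Lrfl
theorem f384001 : Led Lsl_ct (LP (LK LD1_c11 LD2_c43 LD3_c43)) = (LP (LK LD1_c5 LD2_c59 LD3_c33)) :=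
  Lre_c IH (LK LD1_c11 LD2_c43 LD3_c43) (LK LD1_c5 LD2_c59 LD3_c33) Lrfl Lrfl
theorem f641647 : Led Lsl_dt K41.v1693 = K41.v5057 :=
  Lgr Lrot42 (Lpr_df (K41.f641646 IH) (Lpn K41.v5057))
theorem f719912 : K41.v5057 = (LP (LK LD1_c5 LD2_c59 LD3_c29)) :=
  Lefun (Lecon (f641647 IH) (K53.f719899 IH)) (K53.f76003 IH)
theorem f641399 : Led Lsl_ct (LP (LK LD1_c5 LD2_c59 LD3_c29)) = (LP (LK LD1_c11 LD2_c43 LD3_c37)) :=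
  Lre_c IH (LK LD1_c5 LD2_c59 LD3_c29) (LK LD1_c11 LD2_c43 LD3_c37) Lrfl Lrfl
theorem f720309 : Led Lsl_ff (LP (LK LD1_c6 LD2_c1 LD3_c23)) = (LP (LK LD1_c11 LD2_c43 LD3_c37)) :=
  Lgr Lrot23 (Lpr_ct (K41.f564027 IH) (Lpr_ft (K41.f641648 IH) (Lpqs (f719912 IH) (Lpr_ct (f641399 IH) (Lpn (LP (LK LD1_c11 LD2_c43 LD3_c37)))))))
def v5058 : LQ := Led Lsl_ft (LP (LK LD1_c2 LD2_c56 LD3_c48))
theorem f645113 : Led Lsl_ft (LP (LK LD1_c2 LD2_c56 LD3_c48)) = v5058 :=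
  Lrfl
theorem f645116 : Led Lsl_ff (LP (LK LD1_c2 LD2_c56 LD3_c48)) = v5058 :=
  Lgr Lrot3 (Lpr_ft (f645113 IH) (Lpn v5058))
theorem f645118 : Led Lsl_dt K52.v1694 = v5058 :=
  Lgr Lrot60 (Lpe (K52.f500861 IH) (Lpe (K53.f500842 IH) (Lpr_ff (f645116 IH) (Lpn v5058))))
theorem f719938 : v5058 = (LP (LK LD1_c5 LD2_c59 LD3_c33)) :=
  Lefun (Lecon (f645118 IH) (K53.f719923 IH)) (K53.f384004 IH)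
theorem f384013 : Led Lsl_ct (LP (LK LD1_c5 LD2_c59 LD3_c33)) = (LP (LK LD1_c11 LD2_c43 LD3_c43)) :=
  Lre_c IH (LK LD1_c5 LD2_c59 LD3_c33) (LK LD1_c11 LD2_c43 LD3_c43) Lrfl Lrfl
theorem f719948 : Led Lsl_ff (LP (LK LD1_c6 LD2_c1 LD3_c11)) = (LP (LK LD1_c11 LD2_c43 LD3_c43)) :=
  Lgr Lrot23 (Lpr_ct (K53.f641529 IH) (Lpr_ft (f645113 IH) (Lpqs (f719938 IH) (Lpr_ct (f384013 IH) (Lpn (LP (LK LD1_c11 LD2_c43 LD3_c43)))))))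
theorem f719954 : Led Lsl_ft (LP (LK LD1_c6 LD2_c1 LD3_c11)) = (LP (LK LD1_c11 LD2_c43 LD3_c43)) :=
  Lgr Lrot48 (Lpr_ff (f719948 IH) (Lpn (LP (LK LD1_c11 LD2_c43 LD3_c43))))
theorem f719962 : Led Lsl_af (LP (LK LD1_c6 LD2_c1 LD3_c23)) = (LP (LK LD1_c11 LD2_c43 LD3_c43)) :=
  Lgr Lrot109 (Lpe (K41.f500851 IH) (Lpe (K41.f500850 IH) (Lpe (K41.f500853 IH) (Lpe (K53.f500867 IH) (Lpe (K53.f500868 IH) (Lpe (K53.f642106 IH) (Lpr_cf (K53.f642087 IH) (Lpe (K53.f500866 IH) (Lpr_ft (f719954 IH) (Lpn (LP (LK LD1_c11 LD2_c43 LD3_c43))))))))))))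
theorem f719964 : Led Lsl_at (LP (LK LD1_c6 LD2_c1 LD3_c23)) = (LP (LK LD1_c11 LD2_c43 LD3_c43)) :=
  Lgr Lrot100 (Lpr_af (f719962 IH) (Lpn (LP (LK LD1_c11 LD2_c43 LD3_c43))))
theorem f642157 : Led Lsl_gt (LP (LK LD1_c11 LD2_c43 LD3_c37)) = (LP (LK LD1_c20 LD2_c44 LD3_c49)) :=
  Lre_g IH (LK LD1_c11 LD2_c43 LD3_c37) (LK LD1_c20 LD2_c44 LD3_c49) Lrfl Lrfl
theorem f720319 : Led Lsl_gf (LP (LK LD1_c11 LD2_c43 LD3_c43)) = (LP (LK LD1_c20 LD2_c44 LD3_c49)) :=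
  Lgr Lrot76 (Lpe (f719964 IH) (Lpr_ff (f720309 IH) (Lpr_gt (f642157 IH) (Lpn (LP (LK LD1_c20 LD2_c44 LD3_c49))))))
theorem f746409 : Led Lsl_ff (LP (LK LD1_c9 LD2_c48 LD3_c22)) = (LP (LK LD1_c11 LD2_c42 LD3_c31)) :=
  Lgr Lrot3 (Lpr_ft (K55.f746403 IH) (Lpn (LP (LK LD1_c11 LD2_c42 LD3_c31))))
theorem f645088 : Led Lsl_ct (LP (LK LD1_c5 LD2_c59 LD3_c1)) = (LP (LK LD1_c11 LD2_c42 LD3_c31)) :=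
  Lre_c IH (LK LD1_c5 LD2_c59 LD3_c1) (LK LD1_c11 LD2_c42 LD3_c31) Lrfl Lrfl
theorem f746413 : Led Lsl_ct (LP (LK LD1_c9 LD2_c48 LD3_c22)) = (LP (LK LD1_c11 LD2_c41 LD3_c27)) :=
  Lgr Lrot40 (Lpr_ff (f746409 IH) (Lpe (f645088 IH) (Lpe (K55.f746321 IH) (Lpn (LP (LK LD1_c11 LD2_c41 LD3_c27))))))
theorem f424547 : Led Lsl_et (LP (LK LD1_c17 LD2_c58 LD3_c36)) = (LP (LK LD1_c9 LD2_c48 LD3_c22)) :=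
  Lre_e IH (LK LD1_c17 LD2_c58 LD3_c36) (LK LD1_c9 LD2_c48 LD3_c22) Lrfl Lrfl
theorem f746417 : Led Lsl_cf (LP (LK LD1_c17 LD2_c58 LD3_c36)) = (LP (LK LD1_c20 LD2_c17 LD3_c16)) :=
  Lgr Lrot39 (Lpr_et (f424547 IH) (Lpr_ct (f746413 IH) (Lpe (K55.f746259 IH) (Lpn (LP (LK LD1_c20 LD2_c17 LD3_c16))))))
theorem f74983 : Led Lsl_et (LP (LK LD1_c2 LD2_c27 LD3_c22)) = (LP (LK LD1_c4 LD2_c58 LD3_c60)) :=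
  Lre_e IH (LK LD1_c2 LD2_c27 LD3_c22) (LK LD1_c4 LD2_c58 LD3_c60) Lrfl Lrfl
theorem f641672 : Led Lsl_gt (LP (LK LD1_c11 LD2_c46 LD3_c15)) = (LP (LK LD1_c20 LD2_c47 LD3_c60)) :=
  Lre_g IH (LK LD1_c11 LD2_c46 LD3_c15) (LK LD1_c20 LD2_c47 LD3_c60) Lrfl Lrfl
theorem f706083 : Led Lsl_dt (LP (LK LD1_c17 LD2_c58 LD3_c36)) = (LP (LK LD1_c20 LD2_c47 LD3_c60)) :=
  Lgr Lrot56 (Lpr_et (f424547 IH) (Lpr_gt (K55.f74980 IH) (Lpe (f74983 IH) (Lpr_dt (K4.f74365 IH) (Lpr_gt (K55.f424541 IH) (Lpe (K35.f424532 IH) (Lpr_et (K50.f58884 IH) (Lpr_gt (K52.f706075 IH) (Lpr_dt (K41.f641653 IH) (Lpr_gt (f641672 IH) (Lpn (LP (LK LD1_c20 LD2_c47 LD3_c60)))))))))))))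
theorem f746103 : Led Lsl_af (LP (LK LD1_c20 LD2_c17 LD3_c16)) = (LP (LK LD1_c11 LD2_c42 LD3_c36)) :=
  Lgr Lrot45 (Lpr_ft (K55.f746101 IH) (Lpe (K55.f746096 IH) (Lpr_ft (K55.f746084 IH) (Lpn (LP (LK LD1_c11 LD2_c42 LD3_c36))))))
theorem f746111 : Led Lsl_gf (LP (LK LD1_c20 LD2_c17 LD3_c16)) = (LP (LK LD1_c11 LD2_c20 LD3_c16)) :=
  Lgr Lrot76 (Lpr_af (f746103 IH) (Lpe (K55.f746084 IH) (Lpe (K55.f739987 IH) (Lpn (LP (LK LD1_c11 LD2_c20 LD3_c16))))))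
theorem f746423 : Led Lsl_cf (LP (LK LD1_c20 LD2_c47 LD3_c60)) = (LP (LK LD1_c20 LD2_c44 LD3_c49)) :=
  Lgr Lrot99 (Lpe (f706083 IH) (Lpr_cf (f746417 IH) (Lpr_gf (f746111 IH) (Lpe (K41.f76018 IH) (Lpr_gf (K54.f616286 IH) (Lpe (K41.f616277 IH) (Lpr_gt (K53.f642154 IH) (Lpr_ct (f641399 IH) (Lpr_gt (f642157 IH) (Lpn (LP (LK LD1_c20 LD2_c44 LD3_c49))))))))))))
theorem f746425 : Led Lsl_ct (LP (LK LD1_c20 LD2_c47 LD3_c60)) = (LP (LK LD1_c20 LD2_c44 LD3_c49)) :=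
  Lgr Lrot59 (Lpr_cf (f746423 IH) (Lpn (LP (LK LD1_c20 LD2_c44 LD3_c49))))
theorem f414692 : Led Lsl_gt (LP (LK LD1_c6 LD2_c0 LD3_c53)) = (LP (LK LD1_c11 LD2_c46 LD3_c13)) :=
  Lre_g IH (LK LD1_c6 LD2_c0 LD3_c53) (LK LD1_c11 LD2_c46 LD3_c13) Lrfl Lrfl
theorem f749145 : Led Lsl_ct (LP (LK LD1_c11 LD2_c46 LD3_c13)) = v16395 :=
  Lgr Lrot152 (Lpe (f414692 IH) (Lpe (K41.f641476 IH) (Lpr_gt (f641672 IH) (Lpr_ct (f746425 IH) (Lpe (f720319 IH) (Lpr_ct (f384001 IH) (Lpe (K53.f384004 IH) (Lpe (f415628 IH) (Lpq (K53.f719933 IH) (Lpr_gf (f749143 IH) (Lpn v16395)))))))))))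
theorem f58885 : Led Lsl_et (LP (LK LD1_c9 LD2_c29 LD3_c58)) = (LP (LK LD1_c4 LD2_c48 LD3_c43)) :=
  Lre_e IH (LK LD1_c9 LD2_c29 LD3_c58) (LK LD1_c4 LD2_c48 LD3_c43) Lrfl Lrfl
theorem f203080 : Led Lsl_af (LP (LK LD1_c9 LD2_c29 LD3_c58)) = (LP (LK LD1_c5 LD2_c59 LD3_c45)) :=
  Lgr Lrot50 (Lpr_et (f58885 IH) (Lpr_at (K28.f203071 IH) (Lpr_et (K53.f150418 IH) (Lpn (LP (LK LD1_c5 LD2_c59 LD3_c45))))))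
theorem f749144 : Led Lsl_ff (LP (LK LD1_c5 LD2_c59 LD3_c45)) = v16395 :=
  Lgr Lrot52 (Lpe (f203080 IH) (Lpe (K51.f707125 IH) (Lpq (K53.f719933 IH) (Lpr_gf (f749143 IH) (Lpn v16395)))))
theorem f748822 : Led Lsl_ef (LP (LK LD1_c5 LD2_c57 LD3_c50)) = v16335 :=
  Lgr Lrot88 (Lpr_et (f748818 IH) (Lpn v16335))
theorem f748825 : Led Lsl_ct (LP (LK LD1_c5 LD2_c59 LD3_c45)) = v16335 :=
  Lgr Lrot15 (Lpe (K53.f150418 IH) (Lpr_cf (K37.f150377 IH) (Lpr_ef (f748822 IH) (Lpn v16335))))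
theorem f749147 : Led Lsl_ff (LP (LK LD1_c11 LD2_c46 LD3_c13)) = v16335 :=
  Lgr Lrot23 (Lpr_ct (f749145 IH) (Lpe (f749144 IH) (Lpr_ct (f748825 IH) (Lpn v16335))))
theorem f749148 : Led Lsl_ft (LP (LK LD1_c11 LD2_c46 LD3_c13)) = v16335 :=
  Lgr Lrot48 (Lpr_ff (f749147 IH) (Lpn v16335))
theorem f749385 : Led Lsl_gf (LP (LK LD1_c6 LD2_c0 LD3_c56)) = (LP (LK LD1_c11 LD2_c46 LD3_c13)) :=
  Lgr Lrot47 (Lpr_gt (f749383 IH) (Lpr_af (f748819 IH) (Lpe (f749148 IH) (Lpn (LP (LK LD1_c11 LD2_c46 LD3_c13))))))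
theorem f749386 : Led Lsl_gt (LP (LK LD1_c11 LD2_c46 LD3_c13)) = (LP (LK LD1_c6 LD2_c0 LD3_c56)) :=
  Leop (Lpr_gf (f749385 IH) (Lpn (LP (LK LD1_c11 LD2_c46 LD3_c13))))
theorem seed_1016 : LEOK LG_g (LK LD1_c11 LD2_c46 LD3_c13) :=
  Leoe_g (LK LD1_c11 LD2_c46 LD3_c13) (f749386 IH)
def v16443 : LQ := Led Lsl_at (LP (LK LD1_c6 LD2_c0 LD3_c54))
theorem f749455 : Led Lsl_at (LP (LK LD1_c6 LD2_c0 LD3_c54)) = v16443 :=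
  Lrfl
theorem f749457 : Led Lsl_df K41.v5047 = v16443 :=
  Lgr Lrot18 (Lpe (K41.f641473 IH) (Lpr_dt (K41.f76289 IH) (Lpr_at (f749455 IH) (Lpn v16443))))
theorem f749459 : Led Lsl_ft (LP (LK LD1_c6 LD2_c0 LD3_c57)) = v16443 :=
  Lgr Lrot54 (Lpe (K41.f564044 IH) (Lpr_ff (f641477 IH) (Lpr_df (f749457 IH) (Lpn v16443))))
theorem f749456 : Led Lsl_af (LP (LK LD1_c6 LD2_c0 LD3_c54)) = v16443 :=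
  Lgr Lrot0 (Lpr_at (f749455 IH) (Lpn v16443))
theorem f641489 : Led Lsl_gt (LP (LK LD1_c11 LD2_c46 LD3_c17)) = (LP (LK LD1_c6 LD2_c0 LD3_c54)) :=
  Lre_g IH (LK LD1_c11 LD2_c46 LD3_c17) (LK LD1_c6 LD2_c0 LD3_c54) Lrfl Lrfl
theorem f749462 : Led Lsl_gt (LP (LK LD1_c6 LD2_c0 LD3_c57)) = (LP (LK LD1_c11 LD2_c46 LD3_c17)) :=
  Lgr Lrot5 (Lpr_ft (f749459 IH) (Lpe (f749456 IH) (Lpe (f641489 IH) (Lpn (LP (LK LD1_c11 LD2_c46 LD3_c17))))))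
theorem f749463 : Led Lsl_gt (LP (LK LD1_c6 LD2_c0 LD3_c57)) = (LP (LK LD1_c11 LD2_c46 LD3_c17)) :=
  Leop (Lpe (f749462 IH) (Lpn (LP (LK LD1_c6 LD2_c0 LD3_c57))))
theorem seed_1017 : LEOK LG_g (LK LD1_c6 LD2_c0 LD3_c57) :=
  Leoe_g (LK LD1_c6 LD2_c0 LD3_c57) (f749463 IH)
def v16460 : LQ := Led Lsl_ct (LP (LK LD1_c6 LD2_c1 LD3_c5))
theorem f749577 : Led Lsl_ct (LP (LK LD1_c6 LD2_c1 LD3_c5)) = v16460 :=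
  Lrfl
theorem f163172 : Led Lsl_af (LP (LK LD1_c9 LD2_c47 LD3_c52)) = (LP (LK LD1_c11 LD2_c40 LD3_c27)) :=
  Lgr Lrot117 (Lpr_dt (K28.f94941 IH) (Lpr_at (K8.f163168 IH) (Lpr_dt (K8.f26556 IH) (Lpn (LP (LK LD1_c11 LD2_c40 LD3_c27))))))
theorem f203128 : Led Lsl_at (LP (LK LD1_c9 LD2_c29 LD3_c57)) = (LP (LK LD1_c5 LD2_c58 LD3_c23)) :=
  Lgr Lrot107 (Lpr_cf (K28.f203105 IH) (Lpr_af (f163172 IH) (Lpe (K28.f150355 IH) (Lpn (LP (LK LD1_c5 LD2_c58 LD3_c23))))))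
theorem f203107 : Led Lsl_et (LP (LK LD1_c17 LD2_c31 LD3_c10)) = (LP (LK LD1_c9 LD2_c29 LD3_c57)) :=
  Lre_e IH (LK LD1_c17 LD2_c31 LD3_c10) (LK LD1_c9 LD2_c29 LD3_c57) Lrfl Lrfl
theorem f150376 : Led Lsl_et (LP (LK LD1_c5 LD2_c58 LD3_c23)) = (LP (LK LD1_c11 LD2_c41 LD3_c23)) :=
  Lre_e IH (LK LD1_c5 LD2_c58 LD3_c23) (LK LD1_c11 LD2_c41 LD3_c23) Lrfl Lrfl
theorem f203138 : Led Lsl_af (LP (LK LD1_c17 LD2_c31 LD3_c10)) = (LP (LK LD1_c11 LD2_c41 LD3_c23)) :=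
  Lgr Lrot50 (Lpr_et (f203107 IH) (Lpr_at (f203128 IH) (Lpr_et (f150376 IH) (Lpn (LP (LK LD1_c11 LD2_c41 LD3_c23))))))
theorem f203126 : Led Lsl_dt (LP (LK LD1_c17 LD2_c31 LD3_c10)) = (LP (LK LD1_c27 LD2_c20 LD3_c59)) :=
  Lre_d IH (LK LD1_c17 LD2_c31 LD3_c10) (LK LD1_c27 LD2_c20 LD3_c59) Lrfl Lrfl
theorem f203142 : Led Lsl_dt (LP (LK LD1_c20 LD2_c41 LD3_c16)) = (LP (LK LD1_c11 LD2_c41 LD3_c23)) :=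
  Lre_d IH (LK LD1_c20 LD2_c41 LD3_c16) (LK LD1_c11 LD2_c41 LD3_c23) Lrfl Lrfl
theorem f203143 : Led Lsl_at (LP (LK LD1_c27 LD2_c20 LD3_c59)) = (LP (LK LD1_c20 LD2_c41 LD3_c16)) :=
  Lgr Lrot51 (Lpe (f203126 IH) (Lpr_af (f203138 IH) (Lpe (f203142 IH) (Lpn (LP (LK LD1_c20 LD2_c41 LD3_c16))))))
theorem f203147 : Led Lsl_et (LP (LK LD1_c17 LD2_c31 LD3_c11)) = (LP (LK LD1_c27 LD2_c20 LD3_c59)) :=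
  Lre_e IH (LK LD1_c17 LD2_c31 LD3_c11) (LK LD1_c27 LD2_c20 LD3_c59) Lrfl Lrfl
theorem f150412 : Led Lsl_et (LP (LK LD1_c20 LD2_c41 LD3_c16)) = (LP (LK LD1_c11 LD2_c44 LD3_c0)) :=
  Lre_e IH (LK LD1_c20 LD2_c41 LD3_c16) (LK LD1_c11 LD2_c44 LD3_c0) Lrfl Lrfl
theorem f203148 : Led Lsl_af (LP (LK LD1_c17 LD2_c31 LD3_c11)) = (LP (LK LD1_c11 LD2_c44 LD3_c0)) :=
  Lgr Lrot50 (Lpr_et (f203147 IH) (Lpr_at (f203143 IH) (Lpr_et (f150412 IH) (Lpn (LP (LK LD1_c11 LD2_c44 LD3_c0))))))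
theorem f58880 : Led Lsl_dt (LP (LK LD1_c17 LD2_c31 LD3_c11)) = (LP (LK LD1_c9 LD2_c29 LD3_c58)) :=
  Lre_d IH (LK LD1_c17 LD2_c31 LD3_c11) (LK LD1_c9 LD2_c29 LD3_c58) Lrfl Lrfl
theorem f203154 : Led Lsl_at (LP (LK LD1_c9 LD2_c29 LD3_c58)) = (LP (LK LD1_c5 LD2_c59 LD3_c45)) :=
  Lgr Lrot51 (Lpe (f58880 IH) (Lpr_af (f203148 IH) (Lpe (K53.f150404 IH) (Lpn (LP (LK LD1_c5 LD2_c59 LD3_c45))))))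
theorem f715500 : Led Lsl_ff (LP (LK LD1_c9 LD2_c29 LD3_c58)) = (LP (LK LD1_c6 LD2_c1 LD3_c5)) :=
  Lgr Lrot52 (Lpr_at (f203154 IH) (Lpq (K53.f715407 IH) (Lpe (K55.f641547 IH) (Lpe (K41.f641566 IH) (Lpn (LP (LK LD1_c6 LD2_c1 LD3_c5)))))))
theorem f715506 : Led Lsl_ft (LP (LK LD1_c9 LD2_c29 LD3_c58)) = (LP (LK LD1_c6 LD2_c1 LD3_c5)) :=
  Lgr Lrot48 (Lpr_ff (f715500 IH) (Lpn (LP (LK LD1_c6 LD2_c1 LD3_c5))))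
theorem f749580 : Led Lsl_ff (LP (LK LD1_c9 LD2_c5 LD3_c28)) = v16460 :=
  Lgr Lrot23 (Lpr_ct (K51.f58878 IH) (Lpr_ft (f715506 IH) (Lpr_ct (f749577 IH) (Lpn v16460))))
theorem f748823 : Led Lsl_at (LP (LK LD1_c9 LD2_c5 LD3_c28)) = v16335 :=
  Lgr Lrot80 (Lpe (K50.f58884 IH) (Lpr_af (K39.f203076 IH) (Lpr_ef (f748822 IH) (Lpn v16335))))
theorem f749581 : Led Lsl_at (LP (LK LD1_c11 LD2_c46 LD3_c13)) = v16460 :=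
  Lgr Lrot66 (Lpr_ff (f749147 IH) (Lpe (f748823 IH) (Lpr_ff (f749580 IH) (Lpn v16460))))
def v14117 : LQ := Led Lsl_et (LP (LK LD1_c4 LD2_c58 LD3_c52))
theorem f719084 : Led Lsl_et (LP (LK LD1_c4 LD2_c58 LD3_c52)) = v14117 :=
  Lrfl
theorem f149398 : Led Lsl_ff (LP (LK LD1_c4 LD2_c38 LD3_c45)) = (LP (LK LD1_c2 LD2_c56 LD3_c61)) :=
  Lgr Lrot19 (Lpr_dt (K7.f149394 IH) (Lpr_ft (K6.f139458 IH) (Lpe (K6.f139469 IH) (Lpn (LP (LK LD1_c2 LD2_c56 LD3_c61))))))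
theorem f163276 : Led Lsl_ct (LP (LK LD1_c4 LD2_c38 LD3_c45)) = (LP (LK LD1_c4 LD2_c58 LD3_c52)) :=
  Lgr Lrot40 (Lpr_ff (f149398 IH) (Lpe (K4.f69012 IH) (Lpr_ff (K8.f163272 IH) (Lpn (LP (LK LD1_c4 LD2_c58 LD3_c52))))))
def v13062 : LQ := Led Lsl_et (LP (LK LD1_c4 LD2_c38 LD3_c45))
theorem f700866 : Led Lsl_et (LP (LK LD1_c4 LD2_c38 LD3_c45)) = v13062 :=
  Lrfl
theorem f700868 : Led Lsl_ef (LP (LK LD1_c4 LD2_c38 LD3_c45)) = v13062 :=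
  Lgr Lrot88 (Lpr_et (f700866 IH) (Lpn v13062))
theorem f719086 : Led Lsl_cf v13062 = v14117 :=
  Lgr Lrot39 (Lpe (f700868 IH) (Lpr_ct (f163276 IH) (Lpr_et (f719084 IH) (Lpn v14117))))
theorem f748821 : Led Lsl_cf (LP (LK LD1_c5 LD2_c59 LD3_c45)) = v16335 :=
  Lgr Lrot39 (Lpr_et (K53.f150379 IH) (Lpr_ct (K8.f150374 IH) (Lpr_et (f748818 IH) (Lpn v16335))))
theorem f500843 : Led Lsl_bt (LP (LK LD1_c1 LD2_c24 LD3_c9)) = (LP (LK LD1_c2 LD2_c56 LD3_c46)) :=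
  Lre_b IH (LK LD1_c1 LD2_c24 LD3_c9) (LK LD1_c2 LD2_c56 LD3_c46) Lrfl Lrfl
theorem f636085 : Led Lsl_bt (LP (LK LD1_c2 LD2_c27 LD3_c45)) = (LP (LK LD1_c4 LD2_c59 LD3_c58)) :=
  Lre_b IH (LK LD1_c2 LD2_c27 LD3_c45) (LK LD1_c4 LD2_c59 LD3_c58) Lrfl Lrfl
def v14145 : LQ := Led Lsl_gt (LP (LK LD1_c4 LD2_c59 LD3_c58))
theorem f720508 : Led Lsl_gt (LP (LK LD1_c4 LD2_c59 LD3_c58)) = v14145 :=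
  Lrfl
theorem f719087 : Led Lsl_ef (LP (LK LD1_c4 LD2_c58 LD3_c52)) = v14117 :=
  Lgr Lrot88 (Lpr_et (f719084 IH) (Lpn v14117))
theorem f748820 : Led Lsl_bf v14117 = v16335 :=
  Lgr Lrot96 (Lpe (f719087 IH) (Lpr_bt (K8.f161317 IH) (Lpr_et (f748818 IH) (Lpn v16335))))
theorem f748826 : v14145 = v14117 :=
  (Llr Lrot164 (Lpe (f720508 IH) (Lpe (f636085 IH) (Lpr_ct (K53.f415089 IH) (Lpe (K53.f719468 IH) (Lpr_cf (K46.f645950 IH) (Lpqs (K52.f713990 IH) (Lpe (K52.f140179 IH) (Lpe (f500843 IH) (Lpr_ct (K41.f444599 IH) (Lpr_gf (K53.f641523 IH) (Lpqs (K53.f715407 IH) (Lpr_cf (f748821 IH) (Lpe (f748820 IH) (Lpn v14117))))))))))))))).symm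
theorem f645461 : Led Lsl_bf (LP (LK LD1_c4 LD2_c39 LD3_c0)) = (LP (LK LD1_c2 LD2_c57 LD3_c31)) :=
  Lgr Lrot24 (Lpr_bt (K53.f645459 IH) (Lpn (LP (LK LD1_c2 LD2_c57 LD3_c31))))
theorem f748827 : Led Lsl_gt v13062 = K54.v5091 :=
  Lgr Lrot149 (Lpr_cf (f719086 IH) (Lpq (f748826 IH) (Lpe (f720508 IH) (Lpe (f636085 IH) (Lpr_ct (K53.f415089 IH) (Lpe (K53.f719468 IH) (Lpr_cf (K46.f645950 IH) (Lpe (K46.f645948 IH) (Lpr_gf (K52.f645603 IH) (Lpr_bf (f645461 IH) (Lpr_ct (K54.f645895 IH) (Lpn K54.v5091))))))))))))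
theorem f452890 : Led Lsl_at (LP (LK LD1_c2 LD2_c57 LD3_c31)) = (LP (LK LD1_c1 LD2_c24 LD3_c29)) :=
  Lre_a IH (LK LD1_c2 LD2_c57 LD3_c31) (LK LD1_c1 LD2_c24 LD3_c29) Lrfl Lrfl
theorem f645898 : Led Lsl_at K54.v1715 = K54.v5091 :=
  Lgr Lrot107 (Lpe (K54.f501004 IH) (Lpe (f452890 IH) (Lpr_cf (K54.f645897 IH) (Lpn K54.v5091))))
def v4228 : LQ := Led Lsl_ct (LP (LK LD1_c2 LD2_c16 LD3_c34))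
theorem f632068 : Led Lsl_ct (LP (LK LD1_c2 LD2_c16 LD3_c34)) = v4228 :=
  Lrfl
theorem f632069 : Led Lsl_cf (LP (LK LD1_c2 LD2_c16 LD3_c34)) = v4228 :=
  Lgr Lrot11 (Lpr_ct (f632068 IH) (Lpn v4228))
theorem f645803 : Led Lsl_ff v4228 = K54.v1715 :=
  Lgr Lrot23 (Lpe (f632069 IH) (Lpq (K53.f645304 IH) (Lpe (K53.f501017 IH) (Lpr_ct (K54.f501004 IH) (Lpn K54.v1715)))))
theorem f645805 : Led Lsl_ft v4228 = K54.v1715 :=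
  Lgr Lrot48 (Lpr_ff (f645803 IH) (Lpn K54.v1715))
theorem f748828 : Led Lsl_gf v13062 = v4228 :=
  Lgr Lrot47 (Lpr_gt (f748827 IH) (Lpe (f645898 IH) (Lpe (f645805 IH) (Lpn v4228))))
theorem f748824 : Led Lsl_bt v14117 = v16335 :=
  Lgr Lrot119 (Lpe (f719084 IH) (Lpe (K42.f163274 IH) (Lpr_ef (f748822 IH) (Lpn v16335))))
theorem f415623 : Led Lsl_bt (LP (LK LD1_c2 LD2_c16 LD3_c34)) = (LP (LK LD1_c1 LD2_c5 LD3_c9)) :=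
  Lre_b IH (LK LD1_c2 LD2_c16 LD3_c34) (LK LD1_c1 LD2_c5 LD3_c9) Lrfl Lrfl
theorem f748829 : Led Lsl_gt v16335 = (LP (LK LD1_c8 LD2_c0 LD3_c44)) :=
  Lgr Lrot82 (Lpe (f748824 IH) (Lpe (f719086 IH) (Lpr_gf (f748828 IH) (Lpe (f632068 IH) (Lpr_bt (f415623 IH) (Lpe (K24.f140933 IH) (Lpe (K24.f415622 IH) (Lpr_ct (K24.f415621 IH) (Lpe (K24.f105083 IH) (Lpr_cf (K24.f415604 IH) (Lpn (LP (LK LD1_c8 LD2_c0 LD3_c44)))))))))))))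
theorem f749585 : Led Lsl_gt (LP (LK LD1_c8 LD2_c0 LD3_c44)) = v16460 :=
  Lgr Lrot46 (Lpe (f748829 IH) (Lpe (f749147 IH) (Lpr_at (f749581 IH) (Lpn v16460))))
theorem f105067 : Led Lsl_dt (LP (LK LD1_c2 LD2_c56 LD3_c4)) = (LP (LK LD1_c5 LD2_c59 LD3_c25)) :=
  Lre_d IH (LK LD1_c2 LD2_c56 LD3_c4) (LK LD1_c5 LD2_c59 LD3_c25) Lrfl Lrfl
theorem f415801 : Led Lsl_gt (LP (LK LD1_c5 LD2_c59 LD3_c25)) = (LP (LK LD1_c11 LD2_c43 LD3_c27)) :=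
  Lre_g IH (LK LD1_c5 LD2_c59 LD3_c25) (LK LD1_c11 LD2_c43 LD3_c27) Lrfl Lrfl
theorem f415802 : Led Lsl_ct (LP (LK LD1_c11 LD2_c43 LD3_c27)) = (LP (LK LD1_c20 LD2_c44 LD3_c31)) :=
  Lre_c IH (LK LD1_c11 LD2_c43 LD3_c27) (LK LD1_c20 LD2_c44 LD3_c31) Lrfl Lrfl
theorem f749579 : Led Lsl_cf (LP (LK LD1_c6 LD2_c1 LD3_c5)) = v16460 :=
  Lgr Lrot11 (Lpr_ct (f749577 IH) (Lpn v16460))
theorem f641568 : Led Lsl_dt (LP (LK LD1_c11 LD2_c46 LD3_c47)) = (LP (LK LD1_c6 LD2_c1 LD3_c5)) :=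
  Lre_d IH (LK LD1_c11 LD2_c46 LD3_c47) (LK LD1_c6 LD2_c1 LD3_c5) Lrfl Lrfl
theorem f641584 : Led Lsl_ct (LP (LK LD1_c20 LD2_c48 LD3_c43)) = (LP (LK LD1_c11 LD2_c46 LD3_c47)) :=
  Lre_c IH (LK LD1_c20 LD2_c48 LD3_c43) (LK LD1_c11 LD2_c46 LD3_c47) Lrfl Lrfl
theorem f749586 : Led Lsl_gt (LP (LK LD1_c20 LD2_c44 LD3_c31)) = (LP (LK LD1_c20 LD2_c48 LD3_c43)) :=
  Lgr Lrot150 (Lpe (f415802 IH) (Lpe (f415801 IH) (Lpe (f105067 IH) (Lpr_gt (K24.f139233 IH) (Lpr_ct (K53.f415612 IH) (Lpr_gt (f749585 IH) (Lpe (f749579 IH) (Lpe (f641568 IH) (Lpe (f641584 IH) (Lpn (LP (LK LD1_c20 LD2_c48 LD3_c43))))))))))))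
theorem f749587 : Led Lsl_gt (LP (LK LD1_c20 LD2_c44 LD3_c31)) = (LP (LK LD1_c20 LD2_c48 LD3_c43)) :=
  Leop (Lpe (f749586 IH) (Lpn (LP (LK LD1_c20 LD2_c44 LD3_c31))))
theorem seed_1018 : LEOK LG_g (LK LD1_c20 LD2_c44 LD3_c31) :=
  Leoe_g (LK LD1_c20 LD2_c44 LD3_c31) (f749587 IH)
theorem f415608 : Led Lsl_bt (LP (LK LD1_c3 LD2_c59 LD3_c50)) = (LP (LK LD1_c8 LD2_c0 LD3_c44)) :=
  Lre_b IH (LK LD1_c3 LD2_c59 LD3_c50) (LK LD1_c8 LD2_c0 LD3_c44) Lrfl Lrfl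
theorem f749588 : Led Lsl_gf (LP (LK LD1_c8 LD2_c0 LD3_c45)) = (LP (LK LD1_c15 LD2_c5 LD3_c7)) :=
  Lgr Lrot126 (Lpe (K53.f40480 IH) (Lpr_bt (f415608 IH) (Lpr_gt (f749585 IH) (Lpe (f749579 IH) (Lpr_gt (K41.f641566 IH) (Lpe (K41.f500858 IH) (Lpr_bt (K53.f500857 IH) (Lpr_gt (K55.f645127 IH) (Lpq (K55.f739851 IH) (Lpe (K43.f208480 IH) (Lpr_ct (K55.f208427 IH) (Lpn (LP (LK LD1_c15 LD2_c5 LD3_c7))))))))))))))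
theorem f749589 : Led Lsl_gt (LP (LK LD1_c15 LD2_c5 LD3_c7)) = (LP (LK LD1_c8 LD2_c0 LD3_c45)) :=
  Leop (Lpr_gf (f749588 IH) (Lpn (LP (LK LD1_c15 LD2_c5 LD3_c7))))
theorem seed_1019 : LEOK LG_g (LK LD1_c15 LD2_c5 LD3_c7) :=
  Leoe_g (LK LD1_c15 LD2_c5 LD3_c7) (f749589 IH)
def v16464 : LQ := Led Lsl_dt (LP (LK LD1_c6 LD2_c1 LD3_c12))
theorem f749604 : Led Lsl_dt (LP (LK LD1_c6 LD2_c1 LD3_c12)) = v16464 :=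
  Lrfl
theorem f645112 : Led Lsl_et (LP (LK LD1_c2 LD2_c56 LD3_c48)) = (LP (LK LD1_c6 LD2_c1 LD3_c12)) :=
  Lre_e IH (LK LD1_c2 LD2_c56 LD3_c48) (LK LD1_c6 LD2_c1 LD3_c12) Lrfl Lrfl
theorem f749606 : Led Lsl_ef (LP (LK LD1_c6 LD2_c1 LD3_c14)) = v16464 :=
  Lgr Lrot73 (Lpr_dt (K53.f75935 IH) (Lpr_et (K5.f75885 IH) (Lpr_dt (K41.f500845 IH) (Lpr_et (f645112 IH) (Lpr_dt (f749604 IH) (Lpn v16464))))))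
theorem f75961 : Led Lsl_ef (LP (LK LD1_c5 LD2_c58 LD3_c9)) = (LP (LK LD1_c3 LD2_c0 LD3_c13)) :=
  Lgr Lrot88 (Lpr_et (K5.f75954 IH) (Lpn (LP (LK LD1_c3 LD2_c0 LD3_c13))))
theorem f383642 : Led Lsl_et (LP (LK LD1_c2 LD2_c48 LD3_c8)) = (LP (LK LD1_c1 LD2_c20 LD3_c18)) :=
  Lre_e IH (LK LD1_c2 LD2_c48 LD3_c8) (LK LD1_c1 LD2_c20 LD3_c18) Lrfl Lrfl
theorem f427734 : Led Lsl_et (LP (LK LD1_c6 LD2_c7 LD3_c50)) = (LP (LK LD1_c5 LD2_c44 LD3_c27)) :=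
  Lgr Lrot71 (Lpe (K36.f427733 IH) (Lpr_ef (K36.f427728 IH) (Lpr_df (K50.f384032 IH) (Lpe (f383642 IH) (Lpe (K55.f383750 IH) (Lpn (LP (LK LD1_c5 LD2_c44 LD3_c27))))))))
def v15646 : LQ := Led Lsl_gt (LP (LK LD1_c5 LD2_c44 LD3_c27))
theorem f738462 : Led Lsl_gt (LP (LK LD1_c5 LD2_c44 LD3_c27)) = v15646 :=
  Lrfl
theorem f749605 : Led Lsl_df (LP (LK LD1_c6 LD2_c1 LD3_c12)) = v16464 :=
  Lgr Lrot38 (Lpr_dt (f749604 IH) (Lpn v16464))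
def v16463 : LQ := Led Lsl_gf (LP (LK LD1_c6 LD2_c1 LD3_c12))
theorem f749603 : Led Lsl_gf (LP (LK LD1_c6 LD2_c1 LD3_c12)) = v16463 :=
  Lrfl
theorem f749610 : Led Lsl_dt v15646 = v16463 :=
  Lgr Lrot171 (Lpe (f738462 IH) (Lpe (f427734 IH) (Lpr_dt (K55.f427747 IH) (Lpr_gf (K36.f427738 IH) (Lpe (K5.f56283 IH) (Lpe (f75961 IH) (Lpe (K5.f75931 IH) (Lpr_ef (f749606 IH) (Lpe (f749605 IH) (Lpr_gf (f749603 IH) (Lpn v16463)))))))))))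
theorem f427766 : Led Lsl_ct (LP (LK LD1_c5 LD2_c44 LD3_c27)) = (LP (LK LD1_c11 LD2_c18 LD3_c60)) :=
  Lre_c IH (LK LD1_c5 LD2_c44 LD3_c27) (LK LD1_c11 LD2_c18 LD3_c60) Lrfl Lrfl
theorem f748523 : Led Lsl_ft (LP (LK LD1_c11 LD2_c47 LD3_c6)) = (LP (LK LD1_c11 LD2_c40 LD3_c26)) :=
  Lgr Lrot2 (Lpr_gt (K54.f739428 IH) (Lpr_gt (K55.f748521 IH) (Lpe (K38.f545550 IH) (Lpn (LP (LK LD1_c11 LD2_c40 LD3_c26))))))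
theorem f748551 : Led Lsl_ff (LP (LK LD1_c11 LD2_c47 LD3_c6)) = (LP (LK LD1_c11 LD2_c40 LD3_c26)) :=
  Lgr Lrot3 (Lpr_ft (f748523 IH) (Lpn (LP (LK LD1_c11 LD2_c40 LD3_c26))))
theorem f426230 : Led Lsl_et (LP (LK LD1_c5 LD2_c57 LD3_c48)) = (LP (LK LD1_c11 LD2_c40 LD3_c26)) :=
  Lre_e IH (LK LD1_c5 LD2_c57 LD3_c48) (LK LD1_c11 LD2_c40 LD3_c26) Lrfl Lrfl
theorem f748508 : Led Lsl_ff (LP (LK LD1_c5 LD2_c57 LD3_c43)) = K55.v16330 :=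
  Lgr Lrot3 (Lpr_ft (K55.f748504 IH) (Lpn K55.v16330))
theorem f748559 : Led Lsl_et (LP (LK LD1_c11 LD2_c47 LD3_c6)) = K55.v16330 :=
  Lgr Lrot69 (Lpr_ff (f748551 IH) (Lpe (f426230 IH) (Lpe (K40.f426235 IH) (Lpe (K24.f426177 IH) (Lpr_ff (f748508 IH) (Lpn K55.v16330))))))
theorem f749607 : Led Lsl_ct K55.v16330 = v16464 :=
  Lgr Lrot15 (Lpe (f748559 IH) (Lpe (K54.f75941 IH) (Lpr_ef (f749606 IH) (Lpn v16464))))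
theorem f748513 : Led Lsl_dt (LP (LK LD1_c5 LD2_c57 LD3_c44)) = K55.v16330 :=
  Lgr Lrot60 (Lpe (K50.f426144 IH) (Lpe (K24.f426164 IH) (Lpr_ff (f748508 IH) (Lpn K55.v16330))))
theorem f426153 : Led Lsl_dt (LP (LK LD1_c11 LD2_c40 LD3_c41)) = (LP (LK LD1_c5 LD2_c57 LD3_c59)) :=
  Lre_d IH (LK LD1_c11 LD2_c40 LD3_c41) (LK LD1_c5 LD2_c57 LD3_c59) Lrfl Lrfl
theorem f749612 : Led Lsl_gt (LP (LK LD1_c11 LD2_c18 LD3_c60)) = (LP (LK LD1_c11 LD2_c40 LD3_c41)) :=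
  Lgr Lrot94 (Lpe (f427766 IH) (Lpr_gt (f738462 IH) (Lpr_dt (f749610 IH) (Lpe (f749603 IH) (Lpr_dt (f749604 IH) (Lpe (f749607 IH) (Lpe (f748513 IH) (Lpe (K52.f426150 IH) (Lpe (f426153 IH) (Lpn (LP (LK LD1_c11 LD2_c40 LD3_c41))))))))))))
theorem f749613 : Led Lsl_gt (LP (LK LD1_c11 LD2_c18 LD3_c60)) = (LP (LK LD1_c11 LD2_c40 LD3_c41)) :=
  Leop (Lpe (f749612 IH) (Lpn (LP (LK LD1_c11 LD2_c18 LD3_c60))))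
theorem seed_1020 : LEOK LG_g (LK LD1_c11 LD2_c18 LD3_c60) :=
  Leoe_g (LK LD1_c11 LD2_c18 LD3_c60) (f749613 IH)
def v16221 : LQ := Led Lsl_gt (LP (LK LD1_c5 LD2_c55 LD3_c17))
theorem f747109 : Led Lsl_gt (LP (LK LD1_c5 LD2_c55 LD3_c17)) = v16221 :=
  Lrfl
def v16472 : LQ := Led Lsl_dt (LP (LK LD1_c6 LD2_c1 LD3_c24))
theorem f749650 : Led Lsl_dt (LP (LK LD1_c6 LD2_c1 LD3_c24)) = v16472 :=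
  Lrfl
theorem f383332 : Led Lsl_et (LP (LK LD1_c2 LD2_c56 LD3_c52)) = (LP (LK LD1_c6 LD2_c1 LD3_c24)) :=
  Lre_e IH (LK LD1_c2 LD2_c56 LD3_c52) (LK LD1_c6 LD2_c1 LD3_c24) Lrfl Lrfl
theorem f500854 : Led Lsl_et (LP (LK LD1_c2 LD2_c56 LD3_c53)) = (LP (LK LD1_c1 LD2_c24 LD3_c10)) :=
  Lre_e IH (LK LD1_c2 LD2_c56 LD3_c53) (LK LD1_c1 LD2_c24 LD3_c10) Lrfl Lrfl
def v5066 : LQ := Led Lsl_dt (LP (LK LD1_c2 LD2_c56 LD3_c53))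
theorem f645158 : Led Lsl_dt (LP (LK LD1_c2 LD2_c56 LD3_c53)) = v5066 :=
  Lrfl
theorem f645159 : Led Lsl_df (LP (LK LD1_c2 LD2_c56 LD3_c53)) = v5066 :=
  Lgr Lrot38 (Lpr_dt (f645158 IH) (Lpn v5066))
theorem f749652 : Led Lsl_ef v5066 = v16472 :=
  Lgr Lrot73 (Lpe (f645159 IH) (Lpr_et (f500854 IH) (Lpr_dt (K41.f500850 IH) (Lpr_et (f383332 IH) (Lpr_dt (f749650 IH) (Lpn v16472))))))
theorem f749651 : Led Lsl_df (LP (LK LD1_c6 LD2_c1 LD3_c24)) = v16472 :=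
  Lgr Lrot38 (Lpr_dt (f749650 IH) (Lpn v16472))
theorem f302422 : Led Lsl_et (LP (LK LD1_c5 LD2_c42 LD3_c7)) = (LP (LK LD1_c11 LD2_c14 LD3_c30)) :=
  Lre_e IH (LK LD1_c5 LD2_c42 LD3_c7) (LK LD1_c11 LD2_c14 LD3_c30) Lrfl Lrfl
theorem f383333 : Led Lsl_gt (LP (LK LD1_c11 LD2_c14 LD3_c30)) = (LP (LK LD1_c6 LD2_c1 LD3_c24)) :=
  Lgr Lrot131 (Lpe (f302422 IH) (Lpe (K42.f302420 IH) (Lpe (K36.f289380 IH) (Lpr_df (K28.f383254 IH) (Lpe (K27.f75568 IH) (Lpe (K41.f383328 IH) (Lpr_dt (K41.f383329 IH) (Lpe (K41.f383330 IH) (Lpe (K41.f383331 IH) (Lpr_et (f383332 IH) (Lpn (LP (LK LD1_c6 LD2_c1 LD3_c24)))))))))))))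
theorem f386704 : Led Lsl_et (LP (LK LD1_c5 LD2_c58 LD3_c31)) = (LP (LK LD1_c2 LD2_c55 LD3_c39)) :=
  Lre_e IH (LK LD1_c5 LD2_c58 LD3_c31) (LK LD1_c2 LD2_c55 LD3_c39) Lrfl Lrfl
theorem f386685 : Led Lsl_et (LP (LK LD1_c2 LD2_c55 LD3_c35)) = (LP (LK LD1_c1 LD2_c23 LD3_c45)) :=
  Lre_e IH (LK LD1_c2 LD2_c55 LD3_c35) (LK LD1_c1 LD2_c23 LD3_c45) Lrfl Lrfl
theorem f386686 : Led Lsl_dt (LP (LK LD1_c2 LD2_c55 LD3_c35)) = (LP (LK LD1_c1 LD2_c23 LD3_c42)) :=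
  Lre_d IH (LK LD1_c2 LD2_c55 LD3_c35) (LK LD1_c1 LD2_c23 LD3_c42) Lrfl Lrfl
def v4956 : LQ := Led Lsl_dt (LP (LK LD1_c2 LD2_c53 LD3_c59))
theorem f641045 : Led Lsl_dt (LP (LK LD1_c2 LD2_c53 LD3_c59)) = v4956 :=
  Lrfl
theorem f641047 : Led Lsl_df (LP (LK LD1_c2 LD2_c53 LD3_c59)) = v4956 :=
  Lgr Lrot38 (Lpr_dt (f641045 IH) (Lpn v4956))
theorem f749654 : Led Lsl_gt v5066 = v4956 :=
  Lgr Lrot137 (Lpr_ef (f749652 IH) (Lpe (f749651 IH) (Lpe (f383333 IH) (Lpe (K42.f386862 IH) (Lpr_et (f386704 IH) (Lpe (K27.f384042 IH) (Lpe (f386685 IH) (Lpr_dt (f386686 IH) (Lpr_gf (K45.f500674 IH) (Lpqs (K45.f643429 IH) (Lpr_df (f641047 IH) (Lpn v4956))))))))))))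
theorem f705522 : Led Lsl_et (LP (LK LD1_c17 LD2_c32 LD3_c40)) = (LP (LK LD1_c9 LD2_c31 LD3_c1)) :=
  Lre_e IH (LK LD1_c17 LD2_c32 LD3_c40) (LK LD1_c9 LD2_c31 LD3_c1) Lrfl Lrfl
theorem f631840 : Led Lsl_et (LP (LK LD1_c2 LD2_c53 LD3_c59)) = (LP (LK LD1_c5 LD2_c55 LD3_c17)) :=
  Lre_e IH (LK LD1_c2 LD2_c53 LD3_c59) (LK LD1_c5 LD2_c55 LD3_c17) Lrfl Lrfl
theorem f749655 : (LP (LK LD1_c9 LD2_c31 LD3_c1)) = v16221 :=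
  (Llr Lrot122 (Lpe (f705522 IH) (Lpe (f749193 IH) (Lpr_gt (f501931 IH) (Lpe (K55.f75858 IH) (Lpr_et (f641424 IH) (Lpq (f749188 IH) (Lpe (f645151 IH) (Lpr_dt (f645158 IH) (Lpr_gt (f749654 IH) (Lpe (f641045 IH) (Lpr_et (f631840 IH) (Lpr_gt (f747109 IH) (Lpn v16221)))))))))))))).symm
theorem f749656 : Led Lsl_gt (LP (LK LD1_c5 LD2_c55 LD3_c17)) = (LP (LK LD1_c9 LD2_c31 LD3_c1)) :=
  Leop (Lpqs (f749655 IH) (Lpe (f747109 IH) (Lpn (LP (LK LD1_c5 LD2_c55 LD3_c17)))))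
theorem seed_1021 : LEOK LG_g (LK LD1_c5 LD2_c55 LD3_c17) :=
  Leoe_g (LK LD1_c5 LD2_c55 LD3_c17) (f749656 IH)
def v16475 : LQ := Led Lsl_et (LP (LK LD1_c6 LD2_c1 LD3_c26))
theorem f749666 : Led Lsl_et (LP (LK LD1_c6 LD2_c1 LD3_c26)) = v16475 :=
  Lrfl
theorem f749671 : Led Lsl_ef (LP (LK LD1_c6 LD2_c1 LD3_c26)) = v16475 :=
  Lgr Lrot88 (Lpr_et (f749666 IH) (Lpn v16475))
def v4990 : LQ := Led Lsl_et (LP (LK LD1_c2 LD2_c54 LD3_c61))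
theorem f641210 : Led Lsl_et (LP (LK LD1_c2 LD2_c54 LD3_c61)) = v4990 :=
  Lrfl
theorem f749678 : Led Lsl_dt v4990 = v16475 :=
  Lgr Lrot77 (Lpe (f641210 IH) (Lpr_df (K39.f24466 IH) (Lpe (K40.f24499 IH) (Lpe (K41.f563127 IH) (Lpr_ef (f749671 IH) (Lpn v16475))))))
theorem f641212 : Led Lsl_ef (LP (LK LD1_c2 LD2_c54 LD3_c61)) = v4990 :=
  Lgr Lrot88 (Lpr_et (f641210 IH) (Lpn v4990))
theorem f500698 : Led Lsl_et (LP (LK LD1_c2 LD2_c55 LD3_c60)) = (LP (LK LD1_c5 LD2_c59 LD3_c12)) :=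
  Lre_e IH (LK LD1_c2 LD2_c55 LD3_c60) (LK LD1_c5 LD2_c59 LD3_c12) Lrfl Lrfl
theorem f500699 : Led Lsl_gt (LP (LK LD1_c5 LD2_c59 LD3_c12)) = (LP (LK LD1_c11 LD2_c42 LD3_c55)) :=
  Lre_g IH (LK LD1_c5 LD2_c59 LD3_c12) (LK LD1_c11 LD2_c42 LD3_c55) Lrfl Lrfl
theorem f500700 : Led Lsl_et (LP (LK LD1_c20 LD2_c43 LD3_c41)) = (LP (LK LD1_c11 LD2_c42 LD3_c55)) :=
  Lre_e IH (LK LD1_c20 LD2_c43 LD3_c41) (LK LD1_c11 LD2_c42 LD3_c55) Lrfl Lrfl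
theorem f387420 : Led Lsl_et (LP (LK LD1_c4 LD2_c48 LD3_c61)) = (LP (LK LD1_c2 LD2_c55 LD3_c1)) :=
  Lre_e IH (LK LD1_c4 LD2_c48 LD3_c61) (LK LD1_c2 LD2_c55 LD3_c1) Lrfl Lrfl
theorem f75023 : Led Lsl_dt (LP (LK LD1_c4 LD2_c48 LD3_c61)) = (LP (LK LD1_c2 LD2_c22 LD3_c21)) :=
  Lre_d IH (LK LD1_c4 LD2_c48 LD3_c61) (LK LD1_c2 LD2_c22 LD3_c21) Lrfl Lrfl
theorem f387421 : Led Lsl_dt (LP (LK LD1_c9 LD2_c30 LD3_c31)) = (LP (LK LD1_c4 LD2_c48 LD3_c60)) :=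
  Lre_d IH (LK LD1_c9 LD2_c30 LD3_c31) (LK LD1_c4 LD2_c48 LD3_c60) Lrfl Lrfl
theorem f387422 : Led Lsl_et (LP (LK LD1_c9 LD2_c30 LD3_c31)) = (LP (LK LD1_c17 LD2_c31 LD3_c54)) :=
  Lre_e IH (LK LD1_c9 LD2_c30 LD3_c31) (LK LD1_c17 LD2_c31 LD3_c54) Lrfl Lrfl
theorem f749672 : Led Lsl_gf (LP (LK LD1_c17 LD2_c31 LD3_c54)) = v16475 :=
  Lgr Lrot141 (Lpe (f387422 IH) (Lpr_dt (f387421 IH) (Lpr_gt (K17.f77002 IH) (Lpe (f75023 IH) (Lpr_et (f387420 IH) (Lpr_gt (K27.f386660 IH) (Lpr_dt (K40.f386648 IH) (Lpe (K40.f558453 IH) (Lpe (K41.f563127 IH) (Lpr_et (f749666 IH) (Lpn v16475)))))))))))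
theorem f705360 : Led Lsl_et (LP (LK LD1_c17 LD2_c31 LD3_c54)) = (LP (LK LD1_c9 LD2_c30 LD3_c31)) :=
  Lre_e IH (LK LD1_c17 LD2_c31 LD3_c54) (LK LD1_c9 LD2_c30 LD3_c31) Lrfl Lrfl
def v13847 : LQ := Led Lsl_ft (LP (LK LD1_c4 LD2_c49 LD3_c3))
theorem f705258 : Led Lsl_ft (LP (LK LD1_c4 LD2_c49 LD3_c3)) = v13847 :=
  Lrfl
theorem f705262 : Led Lsl_ff (LP (LK LD1_c4 LD2_c49 LD3_c3)) = v13847 :=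
  Lgr Lrot3 (Lpr_ft (f705258 IH) (Lpn v13847))
theorem f705264 : Led Lsl_dt K50.v4484 = v13847 :=
  Lgr Lrot60 (Lpe (K50.f634141 IH) (Lpe (K50.f618934 IH) (Lpr_ff (f705262 IH) (Lpn v13847))))
theorem f415090 : Led Lsl_dt (LP (LK LD1_c4 LD2_c48 LD3_c60)) = (LP (LK LD1_c9 LD2_c30 LD3_c31)) :=
  Lre_d IH (LK LD1_c4 LD2_c48 LD3_c60) (LK LD1_c9 LD2_c30 LD3_c31) Lrfl Lrfl
theorem f705355 : v13847 = (LP (LK LD1_c9 LD2_c30 LD3_c31)) :=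
  Lefun (Lecon (f705264 IH) (K52.f705342 IH).symm) (f415090 IH)
def v13846 : LQ := Led Lsl_at (LP (LK LD1_c4 LD2_c49 LD3_c3))
theorem f705249 : Led Lsl_at (LP (LK LD1_c4 LD2_c49 LD3_c3)) = v13846 :=
  Lrfl
theorem f705250 : Led Lsl_af (LP (LK LD1_c4 LD2_c49 LD3_c3)) = v13846 :=
  Lgr Lrot0 (Lpr_at (f705249 IH) (Lpn v13846))
theorem f426266 : Led Lsl_dt (LP (LK LD1_c2 LD2_c22 LD3_c22)) = (LP (LK LD1_c4 LD2_c49 LD3_c3)) :=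
  Lre_d IH (LK LD1_c2 LD2_c22 LD3_c22) (LK LD1_c4 LD2_c49 LD3_c3) Lrfl Lrfl
theorem f705251 : Led Lsl_df K50.v4483 = v13846 :=
  Lgr Lrot18 (Lpe (K50.f634122 IH) (Lpr_dt (f426266 IH) (Lpr_at (f705249 IH) (Lpn v13846))))
theorem f705253 : Led Lsl_ft (LP (LK LD1_c4 LD2_c49 LD3_c7)) = v13846 :=
  Lgr Lrot54 (Lpe (K50.f634131 IH) (Lpr_ff (K50.f634136 IH) (Lpr_df (f705251 IH) (Lpn v13846))))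
theorem f705259 : Led Lsl_af (LP (LK LD1_c4 LD2_c49 LD3_c7)) = v13847 :=
  Lgr Lrot45 (Lpr_ft (f705253 IH) (Lpe (f705250 IH) (Lpr_ft (f705258 IH) (Lpn v13847))))
theorem f387465 : Led Lsl_et (LP (LK LD1_c4 LD2_c49 LD3_c7)) = (LP (LK LD1_c9 LD2_c30 LD3_c59)) :=
  Lre_e IH (LK LD1_c4 LD2_c49 LD3_c7) (LK LD1_c9 LD2_c30 LD3_c59) Lrfl Lrfl
theorem f705417 : Led Lsl_af (LP (LK LD1_c17 LD2_c31 LD3_c54)) = (LP (LK LD1_c9 LD2_c30 LD3_c59)) :=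
  Lgr Lrot50 (Lpr_et (f705360 IH) (Lpq (f705355 IH) (Lpe (f705259 IH) (Lpr_et (f387465 IH) (Lpn (LP (LK LD1_c9 LD2_c30 LD3_c59)))))))
theorem f705254 : Led Lsl_ft (LP (LK LD1_c17 LD2_c32 LD3_c36)) = (LP (LK LD1_c9 LD2_c30 LD3_c59)) :=
  Lre_f IH (LK LD1_c17 LD2_c32 LD3_c36) (LK LD1_c9 LD2_c30 LD3_c59) Lrfl Lrfl
theorem f749673 : Led Lsl_gt (LP (LK LD1_c17 LD2_c32 LD3_c36)) = v16475 :=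
  Lgr Lrot5 (Lpr_ft (f705254 IH) (Lpe (f705417 IH) (Lpr_gf (f749672 IH) (Lpn v16475))))
theorem f749679 : Led Lsl_dt (LP (LK LD1_c20 LD2_c43 LD3_c41)) = (LP (LK LD1_c17 LD2_c32 LD3_c36)) :=
  Lgr Lrot136 (Lpr_et (f500700 IH) (Lpe (f500699 IH) (Lpe (f500698 IH) (Lpr_dt (K36.f500697 IH) (Lpr_gf (K36.f500691 IH) (Lpqs (K36.f539211 IH) (Lpe (K38.f539091 IH) (Lpe (K50.f597409 IH) (Lpr_ef (f641212 IH) (Lpr_dt (f749678 IH) (Lpe (f749673 IH) (Lpn (LP (LK LD1_c17 LD2_c32 LD3_c36))))))))))))))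
theorem f749680 : Led Lsl_dt (LP (LK LD1_c20 LD2_c43 LD3_c41)) = (LP (LK LD1_c17 LD2_c32 LD3_c36)) :=
  Leop (Lpe (f749679 IH) (Lpn (LP (LK LD1_c20 LD2_c43 LD3_c41))))
theorem seed_1022 : LEOK LG_d (LK LD1_c20 LD2_c43 LD3_c41) :=
  Leoe_d (LK LD1_c20 LD2_c43 LD3_c41) (f749680 IH)
def v16486 : LQ := Led Lsl_gf (LP (LK LD1_c6 LD2_c1 LD3_c44))
theorem f749730 : Led Lsl_gf (LP (LK LD1_c6 LD2_c1 LD3_c44)) = v16486 :=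
  Lrfl
theorem f202364 : Led Lsl_et (LP (LK LD1_c2 LD2_c56 LD3_c60)) = (LP (LK LD1_c1 LD2_c24 LD3_c15)) :=
  Lre_e IH (LK LD1_c2 LD2_c56 LD3_c60) (LK LD1_c1 LD2_c24 LD3_c15) Lrfl Lrfl
theorem f420494 : Led Lsl_et (LP (LK LD1_c1 LD2_c4 LD3_c44)) = (LP (LK LD1_c2 LD2_c15 LD3_c19)) :=
  Lre_e IH (LK LD1_c1 LD2_c4 LD3_c44) (LK LD1_c2 LD2_c15 LD3_c19) Lrfl Lrfl
theorem f420495 : Led Lsl_et (LP (LK LD1_c9 LD2_c8 LD3_c46)) = (LP (LK LD1_c4 LD2_c36 LD3_c18)) :=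
  Lre_e IH (LK LD1_c9 LD2_c8 LD3_c46) (LK LD1_c4 LD2_c36 LD3_c18) Lrfl Lrfl
theorem f749732 : Led Lsl_dt (LP (LK LD1_c9 LD2_c8 LD3_c46)) = v16486 :=
  Lgr Lrot136 (Lpr_et (f420495 IH) (Lpe (K42.f83081 IH) (Lpe (f420494 IH) (Lpr_dt (K8.f37766 IH) (Lpe (K7.f37767 IH) (Lpe (K7.f37816 IH) (Lpr_gf (K35.f202354 IH) (Lpe (f202364 IH) (Lpr_dt (K16.f202217 IH) (Lpr_gf (f749730 IH) (Lpn v16486)))))))))))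
theorem f749734 : Led Lsl_df (LP (LK LD1_c9 LD2_c8 LD3_c46)) = v16486 :=
  Lgr Lrot38 (Lpr_dt (f749732 IH) (Lpn v16486))
theorem f445641 : Led Lsl_bt (LP (LK LD1_c9 LD2_c8 LD3_c46)) = (LP (LK LD1_c17 LD2_c1 LD3_c27)) :=
  Lre_b IH (LK LD1_c9 LD2_c8 LD3_c46) (LK LD1_c17 LD2_c1 LD3_c27) Lrfl Lrfl
theorem f136279 : Led Lsl_dt (LP (LK LD1_c4 LD2_c48 LD3_c52)) = (LP (LK LD1_c9 LD2_c30 LD3_c14)) :=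
  Lre_d IH (LK LD1_c4 LD2_c48 LD3_c52) (LK LD1_c9 LD2_c30 LD3_c14) Lrfl Lrfl
theorem f136280 : Led Lsl_gt (LP (LK LD1_c17 LD2_c31 LD3_c33)) = (LP (LK LD1_c9 LD2_c30 LD3_c14)) :=
  Lre_g IH (LK LD1_c17 LD2_c31 LD3_c33) (LK LD1_c9 LD2_c30 LD3_c14) Lrfl Lrfl
theorem f445632 : Led Lsl_et (LP (LK LD1_c17 LD2_c1 LD3_c27)) = (LP (LK LD1_c9 LD2_c8 LD3_c44)) :=
  Lre_e IH (LK LD1_c17 LD2_c1 LD3_c27) (LK LD1_c9 LD2_c8 LD3_c44) Lrfl Lrfl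
theorem f642534 : Led Lsl_df (LP (LK LD1_c17 LD2_c31 LD3_c33)) = (LP (LK LD1_c17 LD2_c1 LD3_c27)) :=
  Lgr Lrot170 (Lpr_gt (f136280 IH) (Lpe (f136279 IH) (Lpr_et (K40.f136278 IH) (Lpr_gt (K6.f136271 IH) (Lpr_dt (K6.f8363 IH) (Lpe (K24.f426091 IH) (Lpe (K24.f425957 IH) (Lpr_et (K24.f425965 IH) (Lpr_gt (K42.f642528 IH) (Lpe (f445632 IH) (Lpn (LP (LK LD1_c17 LD2_c1 LD3_c27)))))))))))))
theorem f749735 : Led Lsl_bt (LP (LK LD1_c17 LD2_c31 LD3_c33)) = v16486 :=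
  Lgr Lrot95 (Lpr_df (f642534 IH) (Lpe (f445641 IH) (Lpr_df (f749734 IH) (Lpn v16486))))
theorem f615542 : Led Lsl_ft (LP (LK LD1_c5 LD2_c48 LD3_c10)) = (LP (LK LD1_c11 LD2_c25 LD3_c59)) :=
  Lre_f IH (LK LD1_c5 LD2_c48 LD3_c10) (LK LD1_c11 LD2_c25 LD3_c59) Lrfl Lrfl
theorem f615558 : Led Lsl_cf (LP (LK LD1_c5 LD2_c48 LD3_c10)) = (LP (LK LD1_c7 LD2_c51 LD3_c15)) :=
  Lgr Lrot108 (Lpr_ft (f615542 IH) (Lpr_ct (K48.f615545 IH) (Lpr_ft (K48.f531364 IH) (Lpn (LP (LK LD1_c7 LD2_c51 LD3_c15))))))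
theorem f146599 : Led Lsl_ct (LP (LK LD1_c11 LD2_c25 LD3_c51)) = (LP (LK LD1_c20 LD2_c23 LD3_c24)) :=
  Lre_c IH (LK LD1_c11 LD2_c25 LD3_c51) (LK LD1_c20 LD2_c23 LD3_c24) Lrfl Lrfl
theorem f615565 : Led Lsl_dt (LP (LK LD1_c20 LD2_c23 LD3_c24)) = (LP (LK LD1_c29 LD2_c25 LD3_c58)) :=
  Lre_d IH (LK LD1_c20 LD2_c23 LD3_c24) (LK LD1_c29 LD2_c25 LD3_c58) Lrfl Lrfl
theorem f615566 : Led Lsl_ct (LP (LK LD1_c29 LD2_c25 LD3_c58)) = (LP (LK LD1_c20 LD2_c24 LD3_c45)) :=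
  Lre_c IH (LK LD1_c29 LD2_c25 LD3_c58) (LK LD1_c20 LD2_c24 LD3_c45) Lrfl Lrfl
theorem f615567 : Led Lsl_dt (LP (LK LD1_c20 LD2_c24 LD3_c45)) = (LP (LK LD1_c11 LD2_c26 LD3_c47)) :=
  Lre_d IH (LK LD1_c20 LD2_c24 LD3_c45) (LK LD1_c11 LD2_c26 LD3_c47) Lrfl Lrfl
theorem f57356 : Led Lsl_ct (LP (LK LD1_c11 LD2_c26 LD3_c17)) = (LP (LK LD1_c20 LD2_c23 LD3_c60)) :=
  Lre_c IH (LK LD1_c11 LD2_c26 LD3_c17) (LK LD1_c20 LD2_c23 LD3_c60) Lrfl Lrfl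
theorem f615568 : Led Lsl_dt (LP (LK LD1_c14 LD2_c48 LD3_c55)) = (LP (LK LD1_c7 LD2_c51 LD3_c15)) :=
  Lre_d IH (LK LD1_c14 LD2_c48 LD3_c55) (LK LD1_c7 LD2_c51 LD3_c15) Lrfl Lrfl
theorem f615569 : Led Lsl_ct (LP (LK LD1_c24 LD2_c35 LD3_c6)) = (LP (LK LD1_c14 LD2_c48 LD3_c55)) :=
  Lre_c IH (LK LD1_c24 LD2_c35 LD3_c6) (LK LD1_c14 LD2_c48 LD3_c55) Lrfl Lrfl
theorem f615570 : Led Lsl_dt (LP (LK LD1_c20 LD2_c23 LD3_c60)) = (LP (LK LD1_c24 LD2_c35 LD3_c6)) :=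
  Lgr Lrot173 (Lpe (f57356 IH) (Lpe (K55.f57352 IH) (Lpe (K1.f57190 IH) (Lpe (K55.f57214 IH) (Lpe (K48.f146522 IH) (Lpe (f615567 IH) (Lpe (f615566 IH) (Lpe (f615565 IH) (Lpe (f146599 IH) (Lpe (K55.f146470 IH) (Lpe (K55.f146512 IH) (Lpe (K55.f146507 IH) (Lpr_cf (f615558 IH) (Lpe (f615568 IH) (Lpe (f615569 IH) (Lpn (LP (LK LD1_c24 LD2_c35 LD3_c6))))))))))))))))))
theorem f615582 : Led Lsl_ft (LP (LK LD1_c20 LD2_c24 LD3_c45)) = (LP (LK LD1_c11 LD2_c26 LD3_c46)) :=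
  Lre_f IH (LK LD1_c20 LD2_c24 LD3_c45) (LK LD1_c11 LD2_c26 LD3_c46) Lrfl Lrfl
theorem f615583 : Led Lsl_at (LP (LK LD1_c11 LD2_c26 LD3_c46)) = (LP (LK LD1_c14 LD2_c48 LD3_c55)) :=
  Lgr Lrot33 (Lpe (f615582 IH) (Lpr_dt (f615567 IH) (Lpr_ct (K48.f146522 IH) (Lpr_dt (K55.f57214 IH) (Lpr_ct (K1.f57190 IH) (Lpr_dt (K55.f57352 IH) (Lpr_ct (f57356 IH) (Lpr_dt (f615570 IH) (Lpr_ct (f615569 IH) (Lpn (LP (LK LD1_c14 LD2_c48 LD3_c55))))))))))))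
theorem f544118 : Led Lsl_dt (LP (LK LD1_c5 LD2_c48 LD3_c36)) = (LP (LK LD1_c11 LD2_c26 LD3_c46)) :=
  Lre_d IH (LK LD1_c5 LD2_c48 LD3_c36) (LK LD1_c11 LD2_c26 LD3_c46) Lrfl Lrfl
theorem f615592 : Led Lsl_af (LP (LK LD1_c5 LD2_c48 LD3_c36)) = (LP (LK LD1_c7 LD2_c51 LD3_c15)) :=
  Lgr Lrot117 (Lpr_dt (f544118 IH) (Lpr_at (f615583 IH) (Lpr_dt (f615568 IH) (Lpn (LP (LK LD1_c7 LD2_c51 LD3_c15))))))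
theorem f615614 : Led Lsl_gf (LP (LK LD1_c11 LD2_c26 LD3_c45)) = (LP (LK LD1_c14 LD2_c48 LD3_c56)) :=
  Lgr Lrot47 (Lpr_gt (K48.f544127 IH) (Lpr_af (f615592 IH) (Lpe (K48.f531364 IH) (Lpn (LP (LK LD1_c14 LD2_c48 LD3_c56))))))
theorem f146416 : Led Lsl_bt (LP (LK LD1_c9 LD2_c5 LD3_c39)) = (LP (LK LD1_c4 LD2_c34 LD3_c7)) :=
  Lre_b IH (LK LD1_c9 LD2_c5 LD3_c39) (LK LD1_c4 LD2_c34 LD3_c7) Lrfl Lrfl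
theorem f567730 : Led Lsl_bt (LP (LK LD1_c11 LD2_c25 LD3_c59)) = (LP (LK LD1_c5 LD2_c49 LD3_c1)) :=
  Lgr Lrot62 (Lpe (K48.f437487 IH) (Lpe (K50.f146525 IH) (Lpe (K32.f146417 IH) (Lpe (f146416 IH) (Lpr_af (K41.f567720 IH) (Lpn (LP (LK LD1_c5 LD2_c49 LD3_c1))))))))
theorem f567728 : Led Lsl_at (LP (LK LD1_c9 LD2_c5 LD3_c39)) = (LP (LK LD1_c5 LD2_c49 LD3_c1)) :=
  Lgr Lrot100 (Lpr_af (K41.f567720 IH) (Lpn (LP (LK LD1_c5 LD2_c49 LD3_c1))))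
theorem f567741 : Led Lsl_ft (LP (LK LD1_c4 LD2_c34 LD3_c3)) = (LP (LK LD1_c9 LD2_c5 LD3_c39)) :=
  Lre_f IH (LK LD1_c4 LD2_c34 LD3_c3) (LK LD1_c9 LD2_c5 LD3_c39) Lrfl Lrfl
theorem f494242 : Led Lsl_gt (LP (LK LD1_c4 LD2_c34 LD3_c3)) = (LP (LK LD1_c9 LD2_c5 LD3_c36)) :=
  Lre_g IH (LK LD1_c4 LD2_c34 LD3_c3) (LK LD1_c9 LD2_c5 LD3_c36) Lrfl Lrfl
theorem f615694 : Led Lsl_gt (LP (LK LD1_c9 LD2_c5 LD3_c36)) = (LP (LK LD1_c5 LD2_c49 LD3_c1)) :=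
  Lgr Lrot46 (Lpe (f494242 IH) (Lpr_ft (f567741 IH) (Lpr_at (f567728 IH) (Lpn (LP (LK LD1_c5 LD2_c49 LD3_c1))))))
theorem f615696 : Led Lsl_bt (LP (LK LD1_c16 LD2_c57 LD3_c29)) = (LP (LK LD1_c9 LD2_c5 LD3_c36)) :=
  Lre_b IH (LK LD1_c16 LD2_c57 LD3_c29) (LK LD1_c9 LD2_c5 LD3_c36) Lrfl Lrfl
theorem f204753 : Led Lsl_ct (LP (LK LD1_c6 LD2_c1 LD3_c44)) = (LP (LK LD1_c11 LD2_c48 LD3_c8)) :=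
  Lre_c IH (LK LD1_c6 LD2_c1 LD3_c44) (LK LD1_c11 LD2_c48 LD3_c8) Lrfl Lrfl
theorem f204749 : Led Lsl_gt (LP (LK LD1_c11 LD2_c48 LD3_c8)) = (LP (LK LD1_c20 LD2_c50 LD3_c43)) :=
  Lre_g IH (LK LD1_c11 LD2_c48 LD3_c8) (LK LD1_c20 LD2_c50 LD3_c43) Lrfl Lrfl
theorem f749736 : Led Lsl_ct (LP (LK LD1_c16 LD2_c57 LD3_c29)) = (LP (LK LD1_c20 LD2_c50 LD3_c43)) :=
  Lgr Lrot63 (Lpr_bt (f615696 IH) (Lpr_gt (f615694 IH) (Lpe (f567730 IH) (Lpr_ct (K48.f615545 IH) (Lpe (f615614 IH) (Lpr_cf (K48.f669291 IH) (Lpr_bt (f749735 IH) (Lpe (f749730 IH) (Lpr_ct (f204753 IH) (Lpr_gt (f204749 IH) (Lpn (LP (LK LD1_c20 LD2_c50 LD3_c43)))))))))))))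
theorem f749737 : Led Lsl_ct (LP (LK LD1_c16 LD2_c57 LD3_c29)) = (LP (LK LD1_c20 LD2_c50 LD3_c43)) :=
  Leop (Lpe (f749736 IH) (Lpn (LP (LK LD1_c16 LD2_c57 LD3_c29))))
theorem seed_1023 : LEOK LG_c (LK LD1_c16 LD2_c57 LD3_c29) :=
  Leoe_c (LK LD1_c16 LD2_c57 LD3_c29) (f749737 IH)
def v16487 : LQ := Led Lsl_ft (LP (LK LD1_c6 LD2_c1 LD3_c44))
theorem f749766 : Led Lsl_ft (LP (LK LD1_c6 LD2_c1 LD3_c44)) = v16487 :=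
  Lrfl
theorem f749770 : Led Lsl_ff (LP (LK LD1_c6 LD2_c1 LD3_c44)) = v16487 :=
  Lgr Lrot3 (Lpr_ft (f749766 IH) (Lpn v16487))
theorem f204760 : Led Lsl_at (LP (LK LD1_c6 LD2_c1 LD3_c44)) = (LP (LK LD1_c2 LD2_c57 LD3_c4)) :=
  Lre_a IH (LK LD1_c6 LD2_c1 LD3_c44) (LK LD1_c2 LD2_c57 LD3_c4) Lrfl Lrfl
theorem f204736 : Led Lsl_ft (LP (LK LD1_c2 LD2_c57 LD3_c4)) = (LP (LK LD1_c6 LD2_c1 LD3_c61)) :=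
  Lre_f IH (LK LD1_c2 LD2_c57 LD3_c4) (LK LD1_c6 LD2_c1 LD3_c61) Lrfl Lrfl
theorem f749772 : Led Lsl_at (LP (LK LD1_c6 LD2_c1 LD3_c61)) = v16487 :=
  Lgr Lrot66 (Lpe (f204736 IH) (Lpe (f204760 IH) (Lpr_ff (f749770 IH) (Lpn v16487))))
theorem f749778 : Led Lsl_gt (LP (LK LD1_c6 LD2_c1 LD3_c59)) = v16487 :=
  Lgr Lrot46 (Lpe (K48.f204738 IH) (Lpr_ft (f204736 IH) (Lpr_at (f749772 IH) (Lpn v16487))))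
theorem f420606 : Led Lsl_dt (LP (LK LD1_c11 LD2_c48 LD3_c31)) = (LP (LK LD1_c6 LD2_c1 LD3_c59)) :=
  Lre_d IH (LK LD1_c11 LD2_c48 LD3_c31) (LK LD1_c6 LD2_c1 LD3_c59) Lrfl Lrfl
theorem f739203 : Led Lsl_af (LP (LK LD1_c12 LD2_c9 LD3_c20)) = (LP (LK LD1_c9 LD2_c5 LD3_c10)) :=
  Lgr Lrot50 (Lpr_et (K54.f137367 IH) (Lpqs (K54.f739173 IH) (Lpe (K55.f701500 IH) (Lpr_et (K55.f23111 IH) (Lpn (LP (LK LD1_c9 LD2_c5 LD3_c10)))))))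
theorem f640434 : Led Lsl_ft (LP (LK LD1_c5 LD2_c45 LD3_c52)) = (LP (LK LD1_c9 LD2_c5 LD3_c10)) :=
  Lgr Lrot48 (Lpr_ff (K55.f640430 IH) (Lpn (LP (LK LD1_c9 LD2_c5 LD3_c10))))
theorem f140598 : Led Lsl_gt (LP (LK LD1_c5 LD2_c45 LD3_c52)) = (LP (LK LD1_c11 LD2_c22 LD3_c8)) :=
  Lre_g IH (LK LD1_c5 LD2_c45 LD3_c52) (LK LD1_c11 LD2_c22 LD3_c8) Lrfl Lrfl
theorem f740684 : Led Lsl_gf (LP (LK LD1_c12 LD2_c9 LD3_c20)) = (LP (LK LD1_c11 LD2_c22 LD3_c8)) :=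
  Lgr Lrot76 (Lpr_af (f739203 IH) (Lpe (f640434 IH) (Lpr_gt (f140598 IH) (Lpn (LP (LK LD1_c11 LD2_c22 LD3_c8))))))
theorem f139491 : Led Lsl_et (LP (LK LD1_c1 LD2_c24 LD3_c17)) = (LP (LK LD1_c0 LD2_c38 LD3_c53)) :=
  Lre_e IH (LK LD1_c1 LD2_c24 LD3_c17) (LK LD1_c0 LD2_c38 LD3_c53) Lrfl Lrfl
theorem f139492 : Led Lsl_dt (LP (LK LD1_c1 LD2_c24 LD3_c17)) = (LP (LK LD1_c2 LD2_c57 LD3_c4)) :=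
  Lre_d IH (LK LD1_c1 LD2_c24 LD3_c17) (LK LD1_c2 LD2_c57 LD3_c4) Lrfl Lrfl
theorem f740687 : Led Lsl_et (LP (LK LD1_c11 LD2_c48 LD3_c31)) = (LP (LK LD1_c11 LD2_c22 LD3_c8)) :=
  Lgr Lrot121 (Lpr_dt (f420606 IH) (Lpe (K48.f204738 IH) (Lpe (f139492 IH) (Lpr_et (f139491 IH) (Lpe (K4.f68997 IH) (Lpe (K7.f149109 IH) (Lpr_dt (K54.f614366 IH) (Lpqs (K54.f739216 IH) (Lpe (K54.f640298 IH) (Lpq (K54.f739213 IH) (Lpe (K54.f737920 IH) (Lpr_gf (f740684 IH) (Lpn (LP (LK LD1_c11 LD2_c22 LD3_c8)))))))))))))))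
theorem f741224 : Led Lsl_ft K55.v5256 = K55.v15748 :=
  Lgr Lrot48 (Lpr_ff (K55.f741221 IH) (Lpn K55.v15748))
theorem f746956 : Led Lsl_df (LP (LK LD1_c17 LD2_c7 LD3_c54)) = K55.v15748 :=
  Lgr Lrot78 (Lpr_ft (K55.f746952 IH) (Lpr_dt (K55.f646816 IH) (Lpr_ft (f741224 IH) (Lpn K55.v15748))))
theorem f210102 : Led Lsl_ft (LP (LK LD1_c2 LD2_c56 LD3_c60)) = (LP (LK LD1_c6 LD2_c1 LD3_c45)) :=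
  Lre_f IH (LK LD1_c2 LD2_c56 LD3_c60) (LK LD1_c6 LD2_c1 LD3_c45) Lrfl Lrfl
theorem f749773 : Led Lsl_dt (LP (LK LD1_c6 LD2_c1 LD3_c45)) = v16487 :=
  Lgr Lrot60 (Lpe (f210102 IH) (Lpe (K16.f202270 IH) (Lpr_ff (f749770 IH) (Lpn v16487))))
theorem f150512 : Led Lsl_bt (LP (LK LD1_c4 LD2_c38 LD3_c37)) = (LP (LK LD1_c2 LD2_c16 LD3_c23)) :=
  Lre_b IH (LK LD1_c4 LD2_c38 LD3_c37) (LK LD1_c2 LD2_c16 LD3_c23) Lrfl Lrfl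
theorem f204500 : Led Lsl_ef (LP (LK LD1_c4 LD2_c38 LD3_c37)) = (LP (LK LD1_c2 LD2_c57 LD3_c20)) :=
  Lgr Lrot29 (Lpr_bt (f150512 IH) (Lpr_et (K16.f204497 IH) (Lpr_bt (K11.f204222 IH) (Lpn (LP (LK LD1_c2 LD2_c57 LD3_c20))))))
theorem f204502 : Led Lsl_at (LP (LK LD1_c4 LD2_c38 LD3_c37)) = (LP (LK LD1_c9 LD2_c12 LD3_c52)) :=
  Lre_a IH (LK LD1_c4 LD2_c38 LD3_c37) (LK LD1_c9 LD2_c12 LD3_c52) Lrfl Lrfl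
theorem f204503 : Led Lsl_et (LP (LK LD1_c9 LD2_c12 LD3_c52)) = (LP (LK LD1_c6 LD2_c2 LD3_c16)) :=
  Lgr Lrot123 (Lpe (f204502 IH) (Lpr_ef (f204500 IH) (Lpe (K32.f204209 IH) (Lpn (LP (LK LD1_c6 LD2_c2 LD3_c16))))))
theorem f204617 : Led Lsl_ef (LP (LK LD1_c9 LD2_c12 LD3_c52)) = (LP (LK LD1_c6 LD2_c2 LD3_c16)) :=
  Lgr Lrot88 (Lpr_et (f204503 IH) (Lpn (LP (LK LD1_c6 LD2_c2 LD3_c16))))
theorem f210090 : Led Lsl_ef (LP (LK LD1_c9 LD2_c13 LD3_c19)) = (LP (LK LD1_c6 LD2_c1 LD3_c45)) :=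
  Lgr Lrot29 (Lpe (K11.f204205 IH) (Lpe (f204617 IH) (Lpr_bt (K55.f210085 IH) (Lpn (LP (LK LD1_c6 LD2_c1 LD3_c45))))))
theorem f204233 : Led Lsl_dt (LP (LK LD1_c4 LD2_c38 LD3_c50)) = (LP (LK LD1_c9 LD2_c13 LD3_c31)) :=
  Lre_d IH (LK LD1_c4 LD2_c38 LD3_c50) (LK LD1_c9 LD2_c13 LD3_c31) Lrfl Lrfl
theorem f749780 : Led Lsl_gf (LP (LK LD1_c17 LD2_c7 LD3_c54)) = (LP (LK LD1_c9 LD2_c13 LD3_c31)) :=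
  Lgr Lrot134 (Lpr_df (f746956 IH) (Lpe (K55.f741220 IH) (Lpr_gt (f140598 IH) (Lpe (f740687 IH) (Lpr_dt (f420606 IH) (Lpr_gt (f749778 IH) (Lpe (f749773 IH) (Lpe (f210090 IH) (Lpr_gt (K50.f204232 IH) (Lpr_dt (f204233 IH) (Lpn (LP (LK LD1_c9 LD2_c13 LD3_c31)))))))))))))
theorem f749781 : Led Lsl_gt (LP (LK LD1_c9 LD2_c13 LD3_c31)) = (LP (LK LD1_c17 LD2_c7 LD3_c54)) :=
  Leop (Lpr_gf (f749780 IH) (Lpn (LP (LK LD1_c9 LD2_c13 LD3_c31))))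
theorem seed_1024 : LEOK LG_g (LK LD1_c9 LD2_c13 LD3_c31) :=
  Leoe_g (LK LD1_c9 LD2_c13 LD3_c31) (f749781 IH)
def v16490 : LQ := Led Lsl_gf (LP (LK LD1_c6 LD2_c1 LD3_c46))
theorem f749799 : Led Lsl_gf (LP (LK LD1_c6 LD2_c1 LD3_c46)) = v16490 :=
  Lrfl
theorem f79154 : Led Lsl_ct (LP (LK LD1_c12 LD2_c39 LD3_c5)) = (LP (LK LD1_c6 LD2_c36 LD3_c37)) :=
  Lre_c IH (LK LD1_c12 LD2_c39 LD3_c5) (LK LD1_c6 LD2_c36 LD3_c37) Lrfl Lrfl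
theorem f749803 : Led Lsl_bt (LP (LK LD1_c12 LD2_c39 LD3_c5)) = v16490 :=
  Lgr Lrot130 (Lpr_ct (f79154 IH) (Lpe (K7.f79123 IH) (Lpe (K7.f79127 IH) (Lpr_bt (K7.f79116 IH) (Lpr_gf (K5.f125689 IH) (Lpe (K8.f125693 IH) (Lpe (K8.f125685 IH) (Lpe (K8.f76272 IH) (Lpe (K8.f125694 IH) (Lpr_gf (f749799 IH) (Lpn v16490)))))))))))
theorem f14072 : Led Lsl_bt (LP (LK LD1_c9 LD2_c23 LD3_c15)) = (LP (LK LD1_c4 LD2_c45 LD3_c17)) :=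
  Lre_b IH (LK LD1_c9 LD2_c23 LD3_c15) (LK LD1_c4 LD2_c45 LD3_c17) Lrfl Lrfl
theorem f749805 : Led Lsl_cf (LP (LK LD1_c9 LD2_c23 LD3_c15)) = v16490 :=
  Lgr Lrot97 (Lpr_bt (f14072 IH) (Lpr_ct (K11.f79246 IH) (Lpr_bt (K7.f94123 IH) (Lpr_ct (K41.f79137 IH) (Lpr_bt (f749803 IH) (Lpn v16490))))))
theorem f420214 : Led Lsl_dt (LP (LK LD1_c9 LD2_c23 LD3_c15)) = (LP (LK LD1_c17 LD2_c19 LD3_c45)) :=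
  Lre_d IH (LK LD1_c9 LD2_c23 LD3_c15) (LK LD1_c17 LD2_c19 LD3_c45) Lrfl Lrfl
theorem f428628 : Led Lsl_af (LP (LK LD1_c7 LD2_c31 LD3_c21)) = (LP (LK LD1_c4 LD2_c37 LD3_c30)) :=
  Lgr Lrot117 (Lpr_dt (K36.f428624 IH) (Lpe (K6.f141340 IH) (Lpr_dt (K32.f108704 IH) (Lpn (LP (LK LD1_c4 LD2_c37 LD3_c30))))))
theorem f428457 : Led Lsl_ff (LP (LK LD1_c4 LD2_c37 LD3_c30)) = (LP (LK LD1_c7 LD2_c31 LD3_c20)) :=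
  Lgr Lrot3 (Lpr_ft (K32.f428453 IH) (Lpn (LP (LK LD1_c7 LD2_c31 LD3_c20))))
theorem f749807 : Led Lsl_dt (LP (LK LD1_c12 LD2_c14 LD3_c59)) = v16490 :=
  Lgr Lrot32 (Lpe (K40.f124775 IH) (Lpr_df (K32.f428445 IH) (Lpe (f428457 IH) (Lpe (f428628 IH) (Lpr_cf (K36.f148591 IH) (Lpr_df (K41.f567653 IH) (Lpe (K41.f567641 IH) (Lpe (f420214 IH) (Lpr_cf (f749805 IH) (Lpn v16490))))))))))
theorem f439950 : Led Lsl_ct (LP (LK LD1_c7 LD2_c26 LD3_c49)) = (LP (LK LD1_c13 LD2_c1 LD3_c3)) :=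
  Lgr Lrot111 (Lpe (K40.f439949 IH) (Lpr_cf (K40.f439944 IH) (Lpe (K40.f124735 IH) (Lpn (LP (LK LD1_c13 LD2_c1 LD3_c3))))))
theorem f439992 : Led Lsl_bt (LP (LK LD1_c13 LD2_c1 LD3_c3)) = (LP (LK LD1_c12 LD2_c14 LD3_c59)) :=
  Lgr Lrot128 (Lpe (f439950 IH) (Lpr_bf (K40.f439990 IH) (Lpe (K6.f141303 IH) (Lpe (K32.f141221 IH) (Lpe (K8.f124776 IH) (Lpn (LP (LK LD1_c12 LD2_c14 LD3_c59))))))))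
theorem f749804 : Led Lsl_bf (LP (LK LD1_c12 LD2_c39 LD3_c5)) = v16490 :=
  Lgr Lrot24 (Lpr_bt (f749803 IH) (Lpn v16490))
theorem f749808 : Led Lsl_df (LP (LK LD1_c13 LD2_c1 LD3_c3)) = (LP (LK LD1_c12 LD2_c39 LD3_c5)) :=
  Lgr Lrot12 (Lpr_bt (f439992 IH) (Lpr_dt (f749807 IH) (Lpe (f749804 IH) (Lpn (LP (LK LD1_c12 LD2_c39 LD3_c5))))))
theorem f749809 : Led Lsl_dt (LP (LK LD1_c12 LD2_c39 LD3_c5)) = (LP (LK LD1_c13 LD2_c1 LD3_c3)) :=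
  Leop (Lpr_df (f749808 IH) (Lpn (LP (LK LD1_c12 LD2_c39 LD3_c5))))
theorem seed_1025 : LEOK LG_d (LK LD1_c12 LD2_c39 LD3_c5) :=
  Leoe_d (LK LD1_c12 LD2_c39 LD3_c5) (f749809 IH)
def v16496 : LQ := Led Lsl_ft (LP (LK LD1_c6 LD2_c1 LD3_c52))
theorem f749834 : Led Lsl_ft (LP (LK LD1_c6 LD2_c1 LD3_c52)) = v16496 :=
  Lrfl
theorem f749837 : Led Lsl_ff (LP (LK LD1_c6 LD2_c1 LD3_c52)) = v16496 :=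
  Lgr Lrot3 (Lpr_ft (f749834 IH) (Lpn v16496))
def v5071 : LQ := Led Lsl_ft (LP (LK LD1_c2 LD2_c57 LD3_c2))
theorem f645184 : Led Lsl_ft (LP (LK LD1_c2 LD2_c57 LD3_c2)) = v5071 :=
  Lrfl
theorem f749839 : Led Lsl_bt v5071 = v16496 :=
  Lgr Lrot35 (Lpe (f645184 IH) (Lpe (K55.f69117 IH) (Lpr_ff (f749837 IH) (Lpn v16496))))
theorem f645186 : Led Lsl_ff (LP (LK LD1_c2 LD2_c57 LD3_c2)) = v5071 :=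
  Lgr Lrot3 (Lpr_ft (f645184 IH) (Lpn v5071))
def v5069 : LQ := Led Lsl_at (LP (LK LD1_c2 LD2_c57 LD3_c2))
theorem f645174 : Led Lsl_at (LP (LK LD1_c2 LD2_c57 LD3_c2)) = v5069 :=
  Lrfl
theorem f645175 : Led Lsl_af (LP (LK LD1_c2 LD2_c57 LD3_c2)) = v5069 :=
  Lgr Lrot0 (Lpr_at (f645174 IH) (Lpn v5069))
theorem f69074 : Led Lsl_gt (LP (LK LD1_c1 LD2_c24 LD3_c17)) = (LP (LK LD1_c2 LD2_c57 LD3_c2)) :=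
  Lre_g IH (LK LD1_c1 LD2_c24 LD3_c17) (LK LD1_c2 LD2_c57 LD3_c2) Lrfl Lrfl
theorem f69122 : Led Lsl_gt (LP (LK LD1_c2 LD2_c57 LD3_c3)) = (LP (LK LD1_c1 LD2_c24 LD3_c17)) :=
  Lre_g IH (LK LD1_c2 LD2_c57 LD3_c3) (LK LD1_c1 LD2_c24 LD3_c17) Lrfl Lrfl
theorem f645177 : Led Lsl_ft (LP (LK LD1_c2 LD2_c57 LD3_c3)) = v5069 :=
  Lgr Lrot2 (Lpr_gt (f69122 IH) (Lpr_gt (f69074 IH) (Lpr_af (f645175 IH) (Lpn v5069))))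
theorem f645178 : Led Lsl_ff (LP (LK LD1_c2 LD2_c57 LD3_c3)) = v5069 :=
  Lgr Lrot3 (Lpr_ft (f645177 IH) (Lpn v5069))
theorem f645188 : Led Lsl_at (LP (LK LD1_c2 LD2_c57 LD3_c3)) = v5071 :=
  Lgr Lrot66 (Lpr_ff (f645178 IH) (Lpe (f645174 IH) (Lpr_ff (f645186 IH) (Lpn v5071))))
theorem f69123 : Led Lsl_bt (LP (LK LD1_c6 LD2_c1 LD3_c55)) = (LP (LK LD1_c2 LD2_c57 LD3_c3)) :=
  Lre_b IH (LK LD1_c6 LD2_c1 LD3_c55) (LK LD1_c2 LD2_c57 LD3_c3) Lrfl Lrfl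
def v16494 : LQ := Led Lsl_at (LP (LK LD1_c6 LD2_c1 LD3_c52))
theorem f749826 : Led Lsl_at (LP (LK LD1_c6 LD2_c1 LD3_c52)) = v16494 :=
  Lrfl
theorem f749827 : Led Lsl_af (LP (LK LD1_c6 LD2_c1 LD3_c52)) = v16494 :=
  Lgr Lrot0 (Lpr_at (f749826 IH) (Lpn v16494))
theorem f437246 : Led Lsl_gt (LP (LK LD1_c11 LD2_c25 LD3_c50)) = (LP (LK LD1_c5 LD2_c48 LD3_c7)) :=
  Lre_g IH (LK LD1_c11 LD2_c25 LD3_c50) (LK LD1_c5 LD2_c48 LD3_c7) Lrfl Lrfl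
theorem f146508 : Led Lsl_ct (LP (LK LD1_c5 LD2_c48 LD3_c7)) = (LP (LK LD1_c2 LD2_c50 LD3_c6)) :=
  Lre_c IH (LK LD1_c5 LD2_c48 LD3_c7) (LK LD1_c2 LD2_c50 LD3_c6) Lrfl Lrfl
theorem f144638 : Led Lsl_gt (LP (LK LD1_c14 LD2_c48 LD3_c54)) = (LP (LK LD1_c7 LD2_c51 LD3_c15)) :=
  Lre_g IH (LK LD1_c14 LD2_c48 LD3_c54) (LK LD1_c7 LD2_c51 LD3_c15) Lrfl Lrfl
theorem f122929 : Led Lsl_bt (LP (LK LD1_c3 LD2_c54 LD3_c50)) = (LP (LK LD1_c7 LD2_c51 LD3_c15)) :=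
  Lre_b IH (LK LD1_c3 LD2_c54 LD3_c50) (LK LD1_c7 LD2_c51 LD3_c15) Lrfl Lrfl
theorem f134715 : Led Lsl_et (LP (LK LD1_c3 LD2_c54 LD3_c50)) = (LP (LK LD1_c1 LD2_c53 LD3_c61)) :=
  Lre_e IH (LK LD1_c3 LD2_c54 LD3_c50) (LK LD1_c1 LD2_c53 LD3_c61) Lrfl Lrfl
theorem f129151 : Led Lsl_et (LP (LK LD1_c1 LD2_c36 LD3_c0)) = (LP (LK LD1_c3 LD2_c19 LD3_c7)) :=
  Lre_e IH (LK LD1_c1 LD2_c36 LD3_c0) (LK LD1_c3 LD2_c19 LD3_c7) Lrfl Lrfl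
theorem f134716 : Led Lsl_cf (LP (LK LD1_c3 LD2_c54 LD3_c50)) = (LP (LK LD1_c3 LD2_c19 LD3_c7)) :=
  Lgr Lrot39 (Lpr_et (f134715 IH) (Lpr_ct (K5.f134709 IH) (Lpr_et (f129151 IH) (Lpn (LP (LK LD1_c3 LD2_c19 LD3_c7))))))
theorem f439629 : Led Lsl_df (LP (LK LD1_c14 LD2_c1 LD3_c55)) = (LP (LK LD1_c7 LD2_c27 LD3_c42)) :=
  Lgr Lrot12 (Lpr_bt (K42.f108150 IH) (Lpr_dt (K39.f439627 IH) (Lpr_bt (K24.f439224 IH) (Lpn (LP (LK LD1_c7 LD2_c27 LD3_c42))))))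
theorem f20804 : Led Lsl_dt (LP (LK LD1_c4 LD2_c34 LD3_c14)) = (LP (LK LD1_c2 LD2_c14 LD3_c0)) :=
  Lre_d IH (LK LD1_c4 LD2_c34 LD3_c14) (LK LD1_c2 LD2_c14 LD3_c0) Lrfl Lrfl
theorem f571659 : Led Lsl_bf (LP (LK LD1_c7 LD2_c51 LD3_c57)) = (LP (LK LD1_c4 LD2_c34 LD3_c5)) :=
  Lgr Lrot184 (Lpr_gt (K41.f206141 IH) (Lpr_dt (K24.f206094 IH) (Lpe (K8.f156559 IH) (Lpr_bt (K8.f126496 IH) (Lpr_gt (K8.f126490 IH) (Lpr_dt (K4.f111276 IH) (Lpe (K4.f111337 IH) (Lpr_bt (K24.f147791 IH) (Lpr_gt (K24.f439249 IH) (Lpe (f439629 IH) (Lpe (K42.f571642 IH) (Lpr_bt (K42.f571653 IH) (Lpe (K40.f558463 IH) (Lpr_dt (f20804 IH) (Lpr_ct (K37.f210984 IH) (Lpr_bt (K37.f171787 IH) (Lpr_gt (K40.f452226 IH) (Lpq (K36.f536763 IH) (Lpr_dt (K38.f452210 IH) (Lpr_ct (K38.f301935 IH) (Lpn (LP (LK LD1_c4 LD2_c34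 LD3_c5)))))))))))))))))))))))
theorem f567691 : Led Lsl_et (LP (LK LD1_c7 LD2_c51 LD3_c57)) = (LP (LK LD1_c14 LD2_c50 LD3_c2)) :=
  Lre_e IH (LK LD1_c7 LD2_c51 LD3_c57) (LK LD1_c14 LD2_c50 LD3_c2) Lrfl Lrfl
theorem f613730 : Led Lsl_bt (LP (LK LD1_c14 LD2_c50 LD3_c2)) = (LP (LK LD1_c9 LD2_c5 LD3_c38)) :=
  Lgr Lrot119 (Lpe (f567691 IH) (Lpr_bf (f571659 IH) (Lpe (K41.f548859 IH) (Lpn (LP (LK LD1_c9 LD2_c5 LD3_c38))))))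
theorem f123000 : Led Lsl_at (LP (LK LD1_c7 LD2_c51 LD3_c58)) = (LP (LK LD1_c14 LD2_c50 LD3_c2)) :=
  Lre_a IH (LK LD1_c7 LD2_c51 LD3_c58) (LK LD1_c14 LD2_c50 LD3_c2) Lrfl Lrfl
theorem f144393 : Led Lsl_ct (LP (LK LD1_c7 LD2_c51 LD3_c61)) = (LP (LK LD1_c14 LD2_c50 LD3_c14)) :=
  Lre_c IH (LK LD1_c7 LD2_c51 LD3_c61) (LK LD1_c14 LD2_c50 LD3_c14) Lrfl Lrfl
theorem f144460 : Led Lsl_ct (LP (LK LD1_c12 LD2_c49 LD3_c1)) = (LP (LK LD1_c6 LD2_c41 LD3_c56)) :=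
  Lre_c IH (LK LD1_c12 LD2_c49 LD3_c1) (LK LD1_c6 LD2_c41 LD3_c56) Lrfl Lrfl
theorem f144461 : Led Lsl_et (LP (LK LD1_c14 LD2_c50 LD3_c14)) = (LP (LK LD1_c12 LD2_c49 LD3_c1)) :=
  Lgr Lrot158 (Lpe (f144393 IH) (Lpr_ef (K6.f144451 IH) (Lpe (f144460 IH) (Lpn (LP (LK LD1_c12 LD2_c49 LD3_c1))))))
theorem f144466 : Led Lsl_at (LP (LK LD1_c12 LD2_c49 LD3_c1)) = (LP (LK LD1_c6 LD2_c42 LD3_c25)) :=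
  Lre_a IH (LK LD1_c12 LD2_c49 LD3_c1) (LK LD1_c6 LD2_c42 LD3_c25) Lrfl Lrfl
theorem f144467 : Led Lsl_et (LP (LK LD1_c6 LD2_c42 LD3_c25)) = (LP (LK LD1_c12 LD2_c49 LD3_c40)) :=
  Lre_e IH (LK LD1_c6 LD2_c42 LD3_c25) (LK LD1_c12 LD2_c49 LD3_c40) Lrfl Lrfl
theorem f144468 : Led Lsl_af (LP (LK LD1_c14 LD2_c50 LD3_c14)) = (LP (LK LD1_c12 LD2_c49 LD3_c40)) :=
  Lgr Lrot50 (Lpr_et (f144461 IH) (Lpr_at (f144466 IH) (Lpr_et (f144467 IH) (Lpn (LP (LK LD1_c12 LD2_c49 LD3_c40))))))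
theorem f144477 : Led Lsl_dt (LP (LK LD1_c14 LD2_c50 LD3_c14)) = (LP (LK LD1_c24 LD2_c36 LD3_c34)) :=
  Lre_d IH (LK LD1_c14 LD2_c50 LD3_c14) (LK LD1_c24 LD2_c36 LD3_c34) Lrfl Lrfl
theorem f144488 : Led Lsl_dt (LP (LK LD1_c21 LD2_c57 LD3_c57)) = (LP (LK LD1_c12 LD2_c49 LD3_c40)) :=
  Lre_d IH (LK LD1_c21 LD2_c57 LD3_c57) (LK LD1_c12 LD2_c49 LD3_c40) Lrfl Lrfl
theorem f144489 : Led Lsl_at (LP (LK LD1_c24 LD2_c36 LD3_c34)) = (LP (LK LD1_c21 LD2_c57 LD3_c57)) :=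
  Lgr Lrot51 (Lpe (f144477 IH) (Lpr_af (f144468 IH) (Lpe (f144488 IH) (Lpn (LP (LK LD1_c21 LD2_c57 LD3_c57))))))
theorem f144497 : Led Lsl_ft (LP (LK LD1_c31 LD2_c35 LD3_c10)) = (LP (LK LD1_c24 LD2_c36 LD3_c34)) :=
  Lre_f IH (LK LD1_c31 LD2_c35 LD3_c10) (LK LD1_c24 LD2_c36 LD3_c34) Lrfl Lrfl
theorem f144501 : Led Lsl_dt (LP (LK LD1_c31 LD2_c35 LD3_c10)) = (LP (LK LD1_c24 LD2_c36 LD3_c35)) :=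
  Lre_d IH (LK LD1_c31 LD2_c35 LD3_c10) (LK LD1_c24 LD2_c36 LD3_c35) Lrfl Lrfl
theorem f144502 : Led Lsl_ct (LP (LK LD1_c24 LD2_c36 LD3_c35)) = (LP (LK LD1_c14 LD2_c50 LD3_c15)) :=
  Lre_c IH (LK LD1_c24 LD2_c36 LD3_c35) (LK LD1_c14 LD2_c50 LD3_c15) Lrfl Lrfl
theorem f123309 : Led Lsl_dt (LP (LK LD1_c14 LD2_c50 LD3_c15)) = (LP (LK LD1_c7 LD2_c52 LD3_c0)) :=
  Lre_d IH (LK LD1_c14 LD2_c50 LD3_c15) (LK LD1_c7 LD2_c52 LD3_c0) Lrfl Lrfl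
theorem f123307 : Led Lsl_ct (LP (LK LD1_c7 LD2_c52 LD3_c0)) = (LP (LK LD1_c3 LD2_c55 LD3_c12)) :=
  Lre_c IH (LK LD1_c7 LD2_c52 LD3_c0) (LK LD1_c3 LD2_c55 LD3_c12) Lrfl Lrfl
theorem f122884 : Led Lsl_ct (LP (LK LD1_c7 LD2_c52 LD3_c12)) = (LP (LK LD1_c14 LD2_c50 LD3_c47)) :=
  Lre_c IH (LK LD1_c7 LD2_c52 LD3_c12) (LK LD1_c14 LD2_c50 LD3_c47) Lrfl Lrfl
theorem f144503 : Led Lsl_dt (LP (LK LD1_c14 LD2_c50 LD3_c47)) = (LP (LK LD1_c24 LD2_c37 LD3_c4)) :=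
  Lre_d IH (LK LD1_c14 LD2_c50 LD3_c47) (LK LD1_c24 LD2_c37 LD3_c4) Lrfl Lrfl
theorem f144504 : Led Lsl_ct (LP (LK LD1_c24 LD2_c37 LD3_c4)) = (LP (LK LD1_c21 LD2_c57 LD3_c57)) :=
  Lgr Lrot98 (Lpe (f144503 IH) (Lpe (f122884 IH) (Lpe (K6.f123035 IH) (Lpe (f123307 IH) (Lpe (f123309 IH) (Lpe (f144502 IH) (Lpe (f144501 IH) (Lpr_ft (f144497 IH) (Lpr_at (f144489 IH) (Lpn (LP (LK LD1_c21 LD2_c57 LD3_c57))))))))))))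
theorem f144506 : Led Lsl_cf (LP (LK LD1_c24 LD2_c37 LD3_c4)) = (LP (LK LD1_c21 LD2_c57 LD3_c57)) :=
  Lgr Lrot11 (Lpr_ct (f144504 IH) (Lpn (LP (LK LD1_c21 LD2_c57 LD3_c57))))
theorem f123320 : Led Lsl_dt (LP (LK LD1_c24 LD2_c37 LD3_c4)) = (LP (LK LD1_c14 LD2_c50 LD3_c47)) :=
  Lre_d IH (LK LD1_c24 LD2_c37 LD3_c4) (LK LD1_c14 LD2_c50 LD3_c47) Lrfl Lrfl
theorem f123289 : Led Lsl_ct (LP (LK LD1_c14 LD2_c50 LD3_c47)) = (LP (LK LD1_c7 LD2_c52 LD3_c12)) :=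
  Lre_c IH (LK LD1_c14 LD2_c50 LD3_c47) (LK LD1_c7 LD2_c52 LD3_c12) Lrfl Lrfl
theorem f122890 : Led Lsl_dt (LP (LK LD1_c7 LD2_c52 LD3_c12)) = (LP (LK LD1_c3 LD2_c55 LD3_c12)) :=
  Lre_d IH (LK LD1_c7 LD2_c52 LD3_c12) (LK LD1_c3 LD2_c55 LD3_c12) Lrfl Lrfl
theorem f144518 : Led Lsl_dt (LP (LK LD1_c12 LD2_c49 LD3_c40)) = (LP (LK LD1_c21 LD2_c57 LD3_c57)) :=
  Lre_d IH (LK LD1_c12 LD2_c49 LD3_c40) (LK LD1_c21 LD2_c57 LD3_c57) Lrfl Lrfl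
theorem f144487 : Led Lsl_ct (LP (LK LD1_c6 LD2_c42 LD3_c16)) = (LP (LK LD1_c12 LD2_c49 LD3_c40)) :=
  Lre_c IH (LK LD1_c6 LD2_c42 LD3_c16) (LK LD1_c12 LD2_c49 LD3_c40) Lrfl Lrfl
theorem f144527 : Led Lsl_dt (LP (LK LD1_c3 LD2_c19 LD3_c7)) = (LP (LK LD1_c6 LD2_c42 LD3_c16)) :=
  Lre_d IH (LK LD1_c3 LD2_c19 LD3_c7) (LK LD1_c6 LD2_c42 LD3_c16) Lrfl Lrfl
theorem f144536 : Led Lsl_ft (LP (LK LD1_c3 LD2_c19 LD3_c7)) = (LP (LK LD1_c6 LD2_c42 LD3_c17)) :=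
  Lre_f IH (LK LD1_c3 LD2_c19 LD3_c7) (LK LD1_c6 LD2_c42 LD3_c17) Lrfl Lrfl
theorem f144537 : Led Lsl_af (LP (LK LD1_c7 LD2_c52 LD3_c0)) = (LP (LK LD1_c6 LD2_c42 LD3_c17)) :=
  Lgr Lrot109 (Lpe (K6.f123032 IH) (Lpe (f122890 IH) (Lpe (f123289 IH) (Lpe (f123320 IH) (Lpr_cf (f144506 IH) (Lpe (f144518 IH) (Lpe (f144487 IH) (Lpe (f144527 IH) (Lpr_ft (f144536 IH) (Lpn (LP (LK LD1_c6 LD2_c42 LD3_c17))))))))))))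
theorem f144548 : Led Lsl_at (LP (LK LD1_c3 LD2_c55 LD3_c8)) = (LP (LK LD1_c3 LD2_c19 LD3_c7)) :=
  Lgr Lrot66 (Lpe (K6.f144547 IH) (Lpr_af (f144537 IH) (Lpe (f144536 IH) (Lpn (LP (LK LD1_c3 LD2_c19 LD3_c7))))))
theorem f144561 : Led Lsl_af (LP (LK LD1_c3 LD2_c55 LD3_c8)) = (LP (LK LD1_c3 LD2_c19 LD3_c7)) :=
  Lgr Lrot0 (Lpr_at (f144548 IH) (Lpn (LP (LK LD1_c3 LD2_c19 LD3_c7))))
theorem f567706 : Led Lsl_at (LP (LK LD1_c9 LD2_c5 LD3_c38)) = (LP (LK LD1_c5 LD2_c49 LD3_c35)) :=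
  Lgr Lrot100 (Lpr_af (K41.f567704 IH) (Lpn (LP (LK LD1_c5 LD2_c49 LD3_c35))))
theorem f613732 : Led Lsl_bf (LP (LK LD1_c3 LD2_c19 LD3_c7)) = (LP (LK LD1_c5 LD2_c49 LD3_c35)) :=
  Lgr Lrot81 (Lpe (f144561 IH) (Lpr_bt (K6.f122934 IH) (Lpr_at (f123000 IH) (Lpr_bt (f613730 IH) (Lpr_at (f567706 IH) (Lpn (LP (LK LD1_c5 LD2_c49 LD3_c35))))))))
theorem f615563 : Led Lsl_bt (LP (LK LD1_c5 LD2_c48 LD3_c10)) = (LP (LK LD1_c2 LD2_c50 LD3_c55)) :=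
  Lgr Lrot128 (Lpr_cf (f615558 IH) (Lpe (f122929 IH) (Lpr_cf (f134716 IH) (Lpr_bf (f613732 IH) (Lpe (K41.f567708 IH) (Lpn (LP (LK LD1_c2 LD2_c50 LD3_c55))))))))
theorem f496053 : Led Lsl_et (LP (LK LD1_c2 LD2_c50 LD3_c8)) = (LP (LK LD1_c5 LD2_c48 LD3_c10)) :=
  Lre_e IH (LK LD1_c2 LD2_c50 LD3_c8) (LK LD1_c5 LD2_c48 LD3_c10) Lrfl Lrfl
theorem f544145 : Led Lsl_cf (LP (LK LD1_c7 LD2_c51 LD3_c15)) = (LP (LK LD1_c5 LD2_c48 LD3_c10)) :=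
  Lgr Lrot39 (Lpr_et (K48.f202550 IH) (Lpr_ct (K37.f544143 IH) (Lpr_et (f496053 IH) (Lpn (LP (LK LD1_c5 LD2_c48 LD3_c10))))))
theorem f558614 : Led Lsl_gt (LP (LK LD1_c8 LD2_c2 LD3_c27)) = (LP (LK LD1_c15 LD2_c8 LD3_c6)) :=
  Lre_g IH (LK LD1_c8 LD2_c2 LD3_c27) (LK LD1_c15 LD2_c8 LD3_c6) Lrfl Lrfl
theorem f502631 : Led Lsl_bt (LP (LK LD1_c9 LD2_c30 LD3_c24)) = (LP (LK LD1_c17 LD2_c31 LD3_c35)) :=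
  Lre_b IH (LK LD1_c9 LD2_c30 LD3_c24) (LK LD1_c17 LD2_c31 LD3_c35) Lrfl Lrfl
theorem f698888 : Led Lsl_cf (LP (LK LD1_c14 LD2_c48 LD3_c54)) = (LP (LK LD1_c20 LD2_c41 LD3_c60)) :=
  Lgr Lrot125 (Lpr_gt (f144638 IH) (Lpr_cf (f544145 IH) (Lpr_bt (f615563 IH) (Lpr_gt (K50.f418504 IH) (Lpe (K50.f567738 IH) (Lpr_ct (K50.f698879 IH) (Lpr_gt (f558614 IH) (Lpr_cf (K40.f558620 IH) (Lpr_bt (f502631 IH) (Lpe (K55.f502691 IH) (Lpn (LP (LK LD1_c20 LD2_c41 LD3_c60)))))))))))))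
theorem f501952 : Led Lsl_dt (LP (LK LD1_c17 LD2_c31 LD3_c35)) = (LP (LK LD1_c9 LD2_c30 LD3_c15)) :=
  Lre_d IH (LK LD1_c17 LD2_c31 LD3_c35) (LK LD1_c9 LD2_c30 LD3_c15) Lrfl Lrfl
theorem f700377 : Led Lsl_gt (LP (LK LD1_c9 LD2_c30 LD3_c15)) = (LP (LK LD1_c17 LD2_c4 LD3_c40)) :=
  Lgr Lrot9 (Lpe (f501952 IH) (Lpe (K55.f502691 IH) (Lpe (f698888 IH) (Lpr_gt (f144638 IH) (Lpe (f615558 IH) (Lpe (K53.f146493 IH) (Lpe (f146508 IH) (Lpe (f437246 IH) (Lpr_cf (K55.f700371 IH) (Lpn (LP (LK LD1_c17 LD2_c4 LD3_c40))))))))))))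
theorem f700385 : Led Lsl_gf (LP (LK LD1_c9 LD2_c30 LD3_c9)) = (LP (LK LD1_c17 LD2_c4 LD3_c40)) :=
  Lgr Lrot76 (Lpe (K41.f501894 IH) (Lpe (K52.f502528 IH) (Lpr_gt (f700377 IH) (Lpn (LP (LK LD1_c17 LD2_c4 LD3_c40))))))
theorem f749828 : Led Lsl_ft (LP (LK LD1_c17 LD2_c4 LD3_c40)) = v16494 :=
  Lgr Lrot2 (Lpe (f700385 IH) (Lpe (K55.f741747 IH) (Lpr_af (f749827 IH) (Lpn v16494))))
theorem f749835 : Led Lsl_af (LP (LK LD1_c17 LD2_c4 LD3_c40)) = v16496 :=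
  Lgr Lrot45 (Lpr_ft (f749828 IH) (Lpe (f749827 IH) (Lpr_ft (f749834 IH) (Lpn v16496))))
theorem f749840 : Led Lsl_af (LP (LK LD1_c6 LD2_c1 LD3_c55)) = (LP (LK LD1_c9 LD2_c11 LD3_c11)) :=
  Lgr Lrot36 (Lpr_bt (f69123 IH) (Lpr_at (f645188 IH) (Lpr_bt (f749839 IH) (Lpe (f749835 IH) (Lpr_bt (K55.f40636 IH) (Lpn (LP (LK LD1_c9 LD2_c11 LD3_c11))))))))
theorem f749841 : Led Lsl_at (LP (LK LD1_c9 LD2_c11 LD3_c11)) = (LP (LK LD1_c6 LD2_c1 LD3_c55)) :=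
  Leop (Lpr_af (f749840 IH) (Lpn (LP (LK LD1_c9 LD2_c11 LD3_c11))))
theorem seed_1026 : LEOK LG_a (LK LD1_c9 LD2_c11 LD3_c11) :=
  Leoe_a (LK LD1_c9 LD2_c11 LD3_c11) (f749841 IH)
def v16501 : LQ := Led Lsl_ft (LP (LK LD1_c6 LD2_c1 LD3_c53))
theorem f749864 : Led Lsl_ft (LP (LK LD1_c6 LD2_c1 LD3_c53)) = v16501 :=
  Lrfl
theorem f69114 : Led Lsl_gt (LP (LK LD1_c6 LD2_c1 LD3_c53)) = (LP (LK LD1_c11 LD2_c48 LD3_c19)) :=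
  Lre_g IH (LK LD1_c6 LD2_c1 LD3_c53) (LK LD1_c11 LD2_c48 LD3_c19) Lrfl Lrfl
def v16498 : LQ := Led Lsl_at (LP (LK LD1_c6 LD2_c1 LD3_c53))
theorem f749851 : Led Lsl_at (LP (LK LD1_c6 LD2_c1 LD3_c53)) = v16498 :=
  Lrfl
theorem f749852 : Led Lsl_af (LP (LK LD1_c6 LD2_c1 LD3_c53)) = v16498 :=
  Lgr Lrot0 (Lpr_at (f749851 IH) (Lpn v16498))
theorem f69113 : Led Lsl_ct (LP (LK LD1_c2 LD2_c57 LD3_c2)) = (LP (LK LD1_c6 LD2_c1 LD3_c53)) :=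
  Lre_c IH (LK LD1_c2 LD2_c57 LD3_c2) (LK LD1_c6 LD2_c1 LD3_c53) Lrfl Lrfl
theorem f749853 : Led Lsl_cf v5069 = v16498 :=
  Lgr Lrot1 (Lpe (f645175 IH) (Lpr_ct (f69113 IH) (Lpr_at (f749851 IH) (Lpn v16498))))
theorem f210098 : Led Lsl_ct (LP (LK LD1_c2 LD2_c57 LD3_c3)) = (LP (LK LD1_c6 LD2_c1 LD3_c56)) :=
  Lre_c IH (LK LD1_c2 LD2_c57 LD3_c3) (LK LD1_c6 LD2_c1 LD3_c56) Lrfl Lrfl
theorem f749855 : Led Lsl_ft (LP (LK LD1_c6 LD2_c1 LD3_c56)) = v16498 :=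
  Lgr Lrot4 (Lpe (f210098 IH) (Lpr_ff (f645178 IH) (Lpr_cf (f749853 IH) (Lpn v16498))))
theorem f749865 : Led Lsl_af (LP (LK LD1_c6 LD2_c1 LD3_c56)) = v16501 :=
  Lgr Lrot45 (Lpr_ft (f749855 IH) (Lpe (f749852 IH) (Lpr_ft (f749864 IH) (Lpn v16501))))
theorem f749868 : Led Lsl_gt (LP (LK LD1_c11 LD2_c48 LD3_c19)) = (LP (LK LD1_c6 LD2_c1 LD3_c56)) :=
  Lgr Lrot46 (Lpe (f69114 IH) (Lpr_ft (f749864 IH) (Lpe (f749865 IH) (Lpn (LP (LK LD1_c6 LD2_c1 LD3_c56))))))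
theorem f749869 : Led Lsl_gt (LP (LK LD1_c11 LD2_c48 LD3_c19)) = (LP (LK LD1_c6 LD2_c1 LD3_c56)) :=
  Leop (Lpe (f749868 IH) (Lpn (LP (LK LD1_c11 LD2_c48 LD3_c19))))
theorem seed_1027 : LEOK LG_g (LK LD1_c11 LD2_c48 LD3_c19) :=
  Leoe_g (LK LD1_c11 LD2_c48 LD3_c19) (f749869 IH)
def v16502 : LQ := Led Lsl_at (LP (LK LD1_c6 LD2_c1 LD3_c54))
theorem f749872 : Led Lsl_at (LP (LK LD1_c6 LD2_c1 LD3_c54)) = v16502 :=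
  Lrfl
theorem f69075 : Led Lsl_dt (LP (LK LD1_c2 LD2_c57 LD3_c2)) = (LP (LK LD1_c6 LD2_c1 LD3_c54)) :=
  Lre_d IH (LK LD1_c2 LD2_c57 LD3_c2) (LK LD1_c6 LD2_c1 LD3_c54) Lrfl Lrfl
theorem f749874 : Led Lsl_df v5069 = v16502 :=
  Lgr Lrot18 (Lpe (f645175 IH) (Lpr_dt (f69075 IH) (Lpr_at (f749872 IH) (Lpn v16502))))
theorem f210093 : Led Lsl_dt (LP (LK LD1_c2 LD2_c57 LD3_c3)) = (LP (LK LD1_c6 LD2_c1 LD3_c57)) :=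
  Lre_d IH (LK LD1_c2 LD2_c57 LD3_c3) (LK LD1_c6 LD2_c1 LD3_c57) Lrfl Lrfl
theorem f749876 : Led Lsl_ft (LP (LK LD1_c6 LD2_c1 LD3_c57)) = v16502 :=
  Lgr Lrot54 (Lpe (f210093 IH) (Lpr_ff (f645178 IH) (Lpr_df (f749874 IH) (Lpn v16502))))
theorem f749873 : Led Lsl_af (LP (LK LD1_c6 LD2_c1 LD3_c54)) = v16502 :=
  Lgr Lrot0 (Lpr_at (f749872 IH) (Lpn v16502))
theorem f645183 : Led Lsl_gt (LP (LK LD1_c11 LD2_c48 LD3_c22)) = (LP (LK LD1_c6 LD2_c1 LD3_c54)) :=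
  Lre_g IH (LK LD1_c11 LD2_c48 LD3_c22) (LK LD1_c6 LD2_c1 LD3_c54) Lrfl Lrfl
theorem f749879 : Led Lsl_gt (LP (LK LD1_c6 LD2_c1 LD3_c57)) = (LP (LK LD1_c11 LD2_c48 LD3_c22)) :=
  Lgr Lrot5 (Lpr_ft (f749876 IH) (Lpe (f749873 IH) (Lpe (f645183 IH) (Lpn (LP (LK LD1_c11 LD2_c48 LD3_c22))))))
theorem f749880 : Led Lsl_gt (LP (LK LD1_c6 LD2_c1 LD3_c57)) = (LP (LK LD1_c11 LD2_c48 LD3_c22)) :=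
  Leop (Lpe (f749879 IH) (Lpn (LP (LK LD1_c6 LD2_c1 LD3_c57))))
theorem seed_1028 : LEOK LG_g (LK LD1_c6 LD2_c1 LD3_c57) :=
  Leoe_g (LK LD1_c6 LD2_c1 LD3_c57) (f749880 IH)
def v16503 : LQ := Led Lsl_ft (LP (LK LD1_c6 LD2_c1 LD3_c54))
theorem f749881 : Led Lsl_ft (LP (LK LD1_c6 LD2_c1 LD3_c54)) = v16503 :=
  Lrfl
theorem f420586 : Led Lsl_gt (LP (LK LD1_c6 LD2_c1 LD3_c54)) = (LP (LK LD1_c11 LD2_c48 LD3_c21)) :=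
  Lre_g IH (LK LD1_c6 LD2_c1 LD3_c54) (LK LD1_c11 LD2_c48 LD3_c21) Lrfl Lrfl
theorem f749882 : Led Lsl_af (LP (LK LD1_c6 LD2_c1 LD3_c57)) = v16503 :=
  Lgr Lrot45 (Lpr_ft (f749876 IH) (Lpe (f749873 IH) (Lpr_ft (f749881 IH) (Lpn v16503))))
theorem f749885 : Led Lsl_gt (LP (LK LD1_c11 LD2_c48 LD3_c21)) = (LP (LK LD1_c6 LD2_c1 LD3_c57)) :=
  Lgr Lrot46 (Lpe (f420586 IH) (Lpr_ft (f749881 IH) (Lpe (f749882 IH) (Lpn (LP (LK LD1_c6 LD2_c1 LD3_c57))))))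
theorem f749886 : Led Lsl_gt (LP (LK LD1_c11 LD2_c48 LD3_c21)) = (LP (LK LD1_c6 LD2_c1 LD3_c57)) :=
  Leop (Lpe (f749885 IH) (Lpn (LP (LK LD1_c11 LD2_c48 LD3_c21))))
theorem seed_1029 : LEOK LG_g (LK LD1_c11 LD2_c48 LD3_c21) :=
  Leoe_g (LK LD1_c11 LD2_c48 LD3_c21) (f749886 IH)
def v16506 : LQ := Led Lsl_ct (LP (LK LD1_c6 LD2_c1 LD3_c55))
theorem f749891 : Led Lsl_ct (LP (LK LD1_c6 LD2_c1 LD3_c55)) = v16506 :=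
  Lrfl
theorem f210092 : Led Lsl_gt (LP (LK LD1_c6 LD2_c1 LD3_c45)) = (LP (LK LD1_c2 LD2_c57 LD3_c3)) :=
  Lre_g IH (LK LD1_c6 LD2_c1 LD3_c45) (LK LD1_c2 LD2_c57 LD3_c3) Lrfl Lrfl
theorem f210097 : Led Lsl_gt (LP (LK LD1_c9 LD2_c12 LD3_c58)) = (LP (LK LD1_c17 LD2_c7 LD3_c19)) :=
  Lre_g IH (LK LD1_c9 LD2_c12 LD3_c58) (LK LD1_c17 LD2_c7 LD3_c19) Lrfl Lrfl
theorem f741929 : Led Lsl_ff (LP (LK LD1_c5 LD2_c48 LD3_c26)) = K55.v15834 :=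
  Lgr Lrot3 (Lpr_ft (K55.f741927 IH) (Lpn K55.v15834))
theorem f640516 : Led Lsl_at (LP (LK LD1_c5 LD2_c48 LD3_c26)) = (LP (LK LD1_c11 LD2_c26 LD3_c19)) :=
  Lre_a IH (LK LD1_c5 LD2_c48 LD3_c26) (LK LD1_c11 LD2_c26 LD3_c19) Lrfl Lrfl
theorem f119873 : Led Lsl_ft (LP (LK LD1_c20 LD2_c22 LD3_c41)) = (LP (LK LD1_c11 LD2_c25 LD3_c10)) :=
  Lre_f IH (LK LD1_c20 LD2_c22 LD3_c41) (LK LD1_c11 LD2_c25 LD3_c10) Lrfl Lrfl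
theorem f711391 : Led Lsl_gt (LP (LK LD1_c11 LD2_c25 LD3_c55)) = (LP (LK LD1_c6 LD2_c51 LD3_c0)) :=
  Lgr Lrot46 (Lpr_gf (K52.f711294 IH) (Lpr_ft (f119873 IH) (Lpe (K36.f498356 IH) (Lpn (LP (LK LD1_c6 LD2_c51 LD3_c0))))))
theorem f743864 : Led Lsl_gf (LP (LK LD1_c11 LD2_c26 LD3_c19)) = (LP (LK LD1_c6 LD2_c51 LD3_c0)) :=
  Lgr Lrot76 (Lpe (f640516 IH) (Lpr_ff (f741929 IH) (Lpqs (K55.f742044 IH) (Lpr_gt (f711391 IH) (Lpn (LP (LK LD1_c6 LD2_c51 LD3_c0)))))))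
theorem f425754 : Led Lsl_bt (LP (LK LD1_c3 LD2_c24 LD3_c2)) = (LP (LK LD1_c6 LD2_c51 LD3_c0)) :=
  Lre_b IH (LK LD1_c3 LD2_c24 LD3_c2) (LK LD1_c6 LD2_c51 LD3_c0) Lrfl Lrfl
theorem f749894 : Led Lsl_gf (LP (LK LD1_c6 LD2_c51 LD3_c3)) = v16506 :=
  Lgr Lrot126 (Lpe (K32.f425760 IH) (Lpr_bt (f425754 IH) (Lpe (f743864 IH) (Lpr_ct (K55.f742026 IH) (Lpr_gt (f210097 IH) (Lpe (K55.f204621 IH) (Lpr_bt (K55.f210085 IH) (Lpr_gt (f210092 IH) (Lpe (f69123 IH) (Lpr_ct (f749891 IH) (Lpn v16506)))))))))))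
theorem f497278 : Led Lsl_af (LP (LK LD1_c6 LD2_c51 LD3_c3)) = (LP (LK LD1_c8 LD2_c0 LD3_c28)) :=
  Lgr Lrot0 (Lpr_at (K32.f497274 IH) (Lpn (LP (LK LD1_c8 LD2_c0 LD3_c28))))
theorem f69118 : Led Lsl_ct (LP (LK LD1_c1 LD2_c32 LD3_c0)) = (LP (LK LD1_c0 LD2_c42 LD3_c35)) :=
  Lre_c IH (LK LD1_c1 LD2_c32 LD3_c0) (LK LD1_c0 LD2_c42 LD3_c35) Lrfl Lrfl
theorem f69119 : Led Lsl_bt (LP (LK LD1_c1 LD2_c32 LD3_c0)) = (LP (LK LD1_c3 LD2_c11 LD3_c10)) :=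
  Lre_b IH (LK LD1_c1 LD2_c32 LD3_c0) (LK LD1_c3 LD2_c11 LD3_c10) Lrfl Lrfl
theorem f69120 : Led Lsl_gt (LP (LK LD1_c3 LD2_c11 LD3_c10)) = (LP (LK LD1_c6 LD2_c26 LD3_c33)) :=
  Lre_g IH (LK LD1_c3 LD2_c11 LD3_c10) (LK LD1_c6 LD2_c26 LD3_c33) Lrfl Lrfl
theorem f69124 : Led Lsl_ct (LP (LK LD1_c6 LD2_c26 LD3_c33)) = (LP (LK LD1_c12 LD2_c25 LD3_c1)) :=
  Lre_c IH (LK LD1_c6 LD2_c26 LD3_c33) (LK LD1_c12 LD2_c25 LD3_c1) Lrfl Lrfl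
theorem f749893 : Led Lsl_gt (LP (LK LD1_c12 LD2_c25 LD3_c1)) = v16506 :=
  Lgr Lrot149 (Lpe (f69124 IH) (Lpe (f69120 IH) (Lpe (f69119 IH) (Lpr_ct (f69118 IH) (Lpe (K17.f25849 IH) (Lpe (K24.f69058 IH) (Lpr_bt (K16.f69056 IH) (Lpe (f69122 IH) (Lpe (f69123 IH) (Lpr_ct (f749891 IH) (Lpn v16506)))))))))))
theorem f749895 : Led Lsl_ff (LP (LK LD1_c8 LD2_c0 LD3_c28)) = (LP (LK LD1_c12 LD2_c25 LD3_c1)) :=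
  Lgr Lrot52 (Lpe (f497278 IH) (Lpr_gf (f749894 IH) (Lpe (f749893 IH) (Lpn (LP (LK LD1_c12 LD2_c25 LD3_c1))))))
theorem f749896 : Led Lsl_ft (LP (LK LD1_c12 LD2_c25 LD3_c1)) = (LP (LK LD1_c8 LD2_c0 LD3_c28)) :=
  Leop (Lpr_ff (f749895 IH) (Lpn (LP (LK LD1_c12 LD2_c25 LD3_c1))))
theorem seed_1030 : LEOK LG_f (LK LD1_c12 LD2_c25 LD3_c1) :=
  Leoe_f (LK LD1_c12 LD2_c25 LD3_c1) (f749896 IH)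
def v16505 : LQ := Led Lsl_gf (LP (LK LD1_c6 LD2_c1 LD3_c55))
theorem f749890 : Led Lsl_gf (LP (LK LD1_c6 LD2_c1 LD3_c55)) = v16505 :=
  Lrfl
theorem f749897 : (LP (LK LD1_c9 LD2_c11 LD3_c13)) = v16505 :=
  (Llr Lrot130 (Lpe (K40.f152555 IH) (Lpr_ct (K52.f152550 IH) (Lpr_gf (K55.f207215 IH) (Lpe (K55.f207218 IH) (Lpe (K55.f742014 IH) (Lpr_gf (f743864 IH) (Lpe (f425754 IH) (Lpr_ct (K32.f425760 IH) (Lpr_gf (f749894 IH) (Lpe (f749891 IH) (Lpr_gf (f749890 IH) (Lpn v16505))))))))))))).symm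
theorem f749898 : Led Lsl_gt (LP (LK LD1_c9 LD2_c11 LD3_c13)) = (LP (LK LD1_c6 LD2_c1 LD3_c55)) :=
  Leop (Lpr_gf (f749890 IH) (Lpq (f749897 IH) (Lpn (LP (LK LD1_c9 LD2_c11 LD3_c13)))))
theorem seed_1031 : LEOK LG_g (LK LD1_c9 LD2_c11 LD3_c13) :=
  Leoe_g (LK LD1_c9 LD2_c11 LD3_c13) (f749898 IH)
def v16414 : LQ := Led Lsl_gf (LP (LK LD1_c5 LD2_c59 LD3_c58))
theorem f749236 : Led Lsl_gf (LP (LK LD1_c5 LD2_c59 LD3_c58)) = v16414 :=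
  Lrfl
theorem f704119 : Led Lsl_ff (LP (LK LD1_c4 LD2_c46 LD3_c39)) = K52.v13662 :=
  Lgr Lrot3 (Lpr_ft (K52.f704116 IH) (Lpn K52.v13662))
def v5042 : LQ := Led Lsl_gf (LP (LK LD1_c2 LD2_c56 LD3_c33))
theorem f641458 : Led Lsl_gf (LP (LK LD1_c2 LD2_c56 LD3_c33)) = v5042 :=
  Lrfl
theorem f704123 : Led Lsl_gf v5042 = K52.v13662 :=
  Lgr Lrot47 (Lpe (f641458 IH) (Lpe (K52.f498366 IH) (Lpr_ff (f704119 IH) (Lpn K52.v13662))))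
def v12296 : LQ := Led Lsl_ft (LP (LK LD1_c3 LD2_c59 LD3_c43))
theorem f689228 : Led Lsl_ft (LP (LK LD1_c3 LD2_c59 LD3_c43)) = v12296 :=
  Lrfl
theorem f749907 : v12296 = (LP (LK LD1_c6 LD2_c26 LD3_c33)) :=
  (Llr Lrot4 (Lpe (f689228 IH) (Lpe (K32.f150015 IH) (Lpr_ff (f749895 IH) (Lpe (f69124 IH) (Lpn (LP (LK LD1_c6 LD2_c26 LD3_c33)))))))).symm
theorem f749239 : Led Lsl_bt (LP (LK LD1_c6 LD2_c26 LD3_c33)) = (LP (LK LD1_c12 LD2_c25 LD3_c0)) :=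
  Lre_b IH (LK LD1_c6 LD2_c26 LD3_c33) (LK LD1_c12 LD2_c25 LD3_c0) Lrfl Lrfl
theorem f749985 : Led Lsl_ff (LP (LK LD1_c8 LD2_c0 LD3_c25)) = (LP (LK LD1_c12 LD2_c25 LD3_c0)) :=
  Lgr Lrot25 (Lpr_bt (K52.f150019 IH) (Lpr_ft (f689228 IH) (Lpqs (f749907 IH) (Lpr_bt (f749239 IH) (Lpn (LP (LK LD1_c12 LD2_c25 LD3_c0)))))))
theorem f502755 : Led Lsl_ct (LP (LK LD1_c2 LD2_c56 LD3_c17)) = (LP (LK LD1_c5 LD2_c59 LD3_c58)) :=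
  Lre_c IH (LK LD1_c2 LD2_c56 LD3_c17) (LK LD1_c5 LD2_c59 LD3_c58) Lrfl Lrfl
def v5034 : LQ := Led Lsl_bt (LP (LK LD1_c2 LD2_c56 LD3_c17))
theorem f641430 : Led Lsl_bt (LP (LK LD1_c2 LD2_c56 LD3_c17)) = v5034 :=
  Lrfl
theorem f669223 : (LP (LK LD1_c1 LD2_c24 LD3_c19)) = v5034 :=
  Lefun (Lecon (Lfl_bf (K51.f500961 IH)) (K48.f669222 IH)) (f641430 IH)
theorem f69121 : Led Lsl_bt (LP (LK LD1_c12 LD2_c25 LD3_c0)) = (LP (LK LD1_c6 LD2_c26 LD3_c33)) :=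
  Lre_b IH (LK LD1_c12 LD2_c25 LD3_c0) (LK LD1_c6 LD2_c26 LD3_c33) Lrfl Lrfl
theorem f749238 : Led Lsl_ct (LP (LK LD1_c12 LD2_c25 LD3_c0)) = v16414 :=
  Lgr Lrot64 (Lpr_bt (f69121 IH) (Lpe (f69120 IH) (Lpe (f69119 IH) (Lpr_ct (f69118 IH) (Lpe (K17.f25849 IH) (Lpe (K24.f69058 IH) (Lpe (K16.f59823 IH) (Lpqs (f669223 IH) (Lpe (f641430 IH) (Lpr_ct (f502755 IH) (Lpr_gf (f749236 IH) (Lpn v16414))))))))))))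
theorem f749240 : Led Lsl_cf (LP (LK LD1_c12 LD2_c25 LD3_c0)) = v16414 :=
  Lgr Lrot11 (Lpr_ct (f749238 IH) (Lpn v16414))
theorem f749994 : K52.v13662 = v16414 :=
  (Llr Lrot4 (Lpe (K52.f704116 IH) (Lpe (K52.f156816 IH) (Lpr_ff (f749985 IH) (Lpr_cf (f749240 IH) (Lpn v16414)))))).symm
theorem f749995 : (LP (LK LD1_c5 LD2_c59 LD3_c58)) = v5042 :=
  Lefun (Lecon (Lfl_gf (f749236 IH)) (f749994 IH).symm) (Lfl_gf (f704123 IH))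
theorem f749998 : Led Lsl_gt (LP (LK LD1_c5 LD2_c59 LD3_c58)) = (LP (LK LD1_c2 LD2_c56 LD3_c33)) :=
  Leop (Lpr_gf (f641458 IH) (Lpq (f749995 IH) (Lpn (LP (LK LD1_c5 LD2_c59 LD3_c58)))))
theorem seed_1032 : LEOK LG_g (LK LD1_c5 LD2_c59 LD3_c58) :=
  Leoe_g (LK LD1_c5 LD2_c59 LD3_c58) (f749998 IH)
theorem f119867 : Led Lsl_ct (LP (LK LD1_c6 LD2_c0 LD3_c32)) = (LP (LK LD1_c2 LD2_c56 LD3_c33)) :=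
  Lre_c IH (LK LD1_c6 LD2_c0 LD3_c32) (LK LD1_c2 LD2_c56 LD3_c33) Lrfl Lrfl
def v16432 : LQ := Led Lsl_gf (LP (LK LD1_c6 LD2_c0 LD3_c32))
theorem f749320 : Led Lsl_gf (LP (LK LD1_c6 LD2_c0 LD3_c32)) = v16432 :=
  Lrfl
def v5041 : LQ := Led Lsl_gt (LP (LK LD1_c2 LD2_c56 LD3_c33))
theorem f641455 : Led Lsl_gt (LP (LK LD1_c2 LD2_c56 LD3_c33)) = v5041 :=
  Lrfl
theorem f502756 : Led Lsl_ct (LP (LK LD1_c5 LD2_c59 LD3_c58)) = (LP (LK LD1_c2 LD2_c56 LD3_c17)) :=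
  Lre_c IH (LK LD1_c5 LD2_c59 LD3_c58) (LK LD1_c2 LD2_c56 LD3_c17) Lrfl Lrfl
theorem f705165 : Led Lsl_af (LP (LK LD1_c5 LD2_c59 LD3_c58)) = K52.v13836 :=
  Lgr Lrot68 (Lpr_ct (f502756 IH) (Lpr_at (K52.f641429 IH) (Lpqs (K52.f698977 IH) (Lpr_ct (K52.f705164 IH) (Lpn K52.v13836)))))
theorem f705169 : Led Lsl_ft K52.v5031 = K52.v13836 :=
  Lgr Lrot48 (Lpr_ff (K52.f705167 IH) (Lpn K52.v13836))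
theorem f749237 : Led Lsl_gt K52.v5031 = v16414 :=
  Lgr Lrot5 (Lpr_ft (f705169 IH) (Lpe (f705165 IH) (Lpr_gf (f749236 IH) (Lpn v16414))))
theorem f497134 : Led Lsl_ft (LP (LK LD1_c2 LD2_c56 LD3_c33)) = (LP (LK LD1_c6 LD2_c0 LD3_c36)) :=
  Lre_f IH (LK LD1_c2 LD2_c56 LD3_c33) (LK LD1_c6 LD2_c0 LD3_c36) Lrfl Lrfl
theorem f704121 : Led Lsl_at (LP (LK LD1_c6 LD2_c0 LD3_c36)) = K52.v13662 :=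
  Lgr Lrot66 (Lpe (f497134 IH) (Lpe (K52.f498366 IH) (Lpr_ff (f704119 IH) (Lpn K52.v13662))))
theorem f704125 : Led Lsl_gt v5041 = K52.v13662 :=
  Lgr Lrot46 (Lpe (f641455 IH) (Lpr_ft (f497134 IH) (Lpr_at (f704121 IH) (Lpn K52.v13662))))
theorem f749996 : K52.v5031 = v5041 :=
  Lefun (Lecon (Lfl_gt (f749237 IH)) (f749994 IH).symm) (Lfl_gt (f704125 IH))
theorem f567511 : Led Lsl_cf (LP (LK LD1_c17 LD2_c9 LD3_c54)) = (LP (LK LD1_c9 LD2_c23 LD3_c21)) :=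
  Lgr Lrot1 (Lpr_at (K41.f567507 IH) (Lpr_ct (K6.f40544 IH) (Lpe (K37.f419479 IH) (Lpn (LP (LK LD1_c9 LD2_c23 LD3_c21))))))
theorem f80185 : Led Lsl_et (LP (LK LD1_c9 LD2_c15 LD3_c22)) = (LP (LK LD1_c9 LD2_c11 LD3_c26)) :=
  Lgr Lrot158 (Lpe (K35.f80183 IH) (Lpr_ef (K51.f80177 IH) (Lpe (K46.f80184 IH) (Lpn (LP (LK LD1_c9 LD2_c11 LD3_c26))))))
theorem f80192 : Led Lsl_bt (LP (LK LD1_c9 LD2_c11 LD3_c26)) = (LP (LK LD1_c17 LD2_c4 LD3_c61)) :=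
  Lre_b IH (LK LD1_c9 LD2_c11 LD3_c26) (LK LD1_c17 LD2_c4 LD3_c61) Lrfl Lrfl
theorem f80193 : Led Lsl_ef (LP (LK LD1_c17 LD2_c9 LD3_c54)) = (LP (LK LD1_c17 LD2_c4 LD3_c61)) :=
  Lgr Lrot29 (Lpr_bt (K41.f80191 IH) (Lpr_et (f80185 IH) (Lpr_bt (f80192 IH) (Lpn (LP (LK LD1_c17 LD2_c4 LD3_c61))))))
theorem f80200 : Led Lsl_et (LP (LK LD1_c17 LD2_c9 LD3_c54)) = (LP (LK LD1_c17 LD2_c4 LD3_c61)) :=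
  Lgr Lrot87 (Lpr_ef (f80193 IH) (Lpn (LP (LK LD1_c17 LD2_c4 LD3_c61))))
theorem f615703 : Led Lsl_ct (LP (LK LD1_c17 LD2_c4 LD3_c61)) = (LP (LK LD1_c17 LD2_c19 LD3_c55)) :=
  Lgr Lrot15 (Lpe (f80200 IH) (Lpr_cf (f567511 IH) (Lpe (K37.f14359 IH) (Lpn (LP (LK LD1_c17 LD2_c19 LD3_c55))))))
theorem f615709 : Led Lsl_cf (LP (LK LD1_c17 LD2_c4 LD3_c61)) = (LP (LK LD1_c17 LD2_c19 LD3_c55)) :=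
  Lgr Lrot11 (Lpr_ct (f615703 IH) (Lpn (LP (LK LD1_c17 LD2_c19 LD3_c55))))
theorem f80204 : Led Lsl_bt (LP (LK LD1_c17 LD2_c4 LD3_c61)) = (LP (LK LD1_c9 LD2_c11 LD3_c26)) :=
  Lre_b IH (LK LD1_c17 LD2_c4 LD3_c61) (LK LD1_c9 LD2_c11 LD3_c26) Lrfl Lrfl
theorem f80172 : Led Lsl_bt (LP (LK LD1_c4 LD2_c37 LD3_c53)) = (LP (LK LD1_c9 LD2_c11 LD3_c12)) :=
  Lre_b IH (LK LD1_c4 LD2_c37 LD3_c53) (LK LD1_c9 LD2_c11 LD3_c12) Lrfl Lrfl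
theorem f40616 : Led Lsl_ct (LP (LK LD1_c9 LD2_c11 LD3_c12)) = (LP (LK LD1_c17 LD2_c4 LD3_c43)) :=
  Lre_c IH (LK LD1_c9 LD2_c11 LD3_c12) (LK LD1_c17 LD2_c4 LD3_c43) Lrfl Lrfl
theorem f615711 : Led Lsl_bt (LP (LK LD1_c17 LD2_c4 LD3_c43)) = (LP (LK LD1_c17 LD2_c19 LD3_c55)) :=
  Lgr Lrot128 (Lpe (f40616 IH) (Lpe (f80172 IH) (Lpe (K46.f80184 IH) (Lpe (f80204 IH) (Lpr_cf (f615709 IH) (Lpn (LP (LK LD1_c17 LD2_c19 LD3_c55))))))))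
theorem f204748 : Led Lsl_ft (LP (LK LD1_c12 LD2_c9 LD3_c58)) = (LP (LK LD1_c6 LD2_c16 LD3_c19)) :=
  Lre_f IH (LK LD1_c12 LD2_c9 LD3_c58) (LK LD1_c6 LD2_c16 LD3_c19) Lrfl Lrfl
theorem f558812 : Led Lsl_bf (LP (LK LD1_c12 LD2_c9 LD3_c58)) = (LP (LK LD1_c9 LD2_c23 LD3_c21)) :=
  Lgr Lrot61 (Lpr_ft (f204748 IH) (Lpr_bt (K40.f558799 IH) (Lpe (K37.f419534 IH) (Lpn (LP (LK LD1_c9 LD2_c23 LD3_c21))))))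
theorem f615717 : Led Lsl_ef (LP (LK LD1_c17 LD2_c4 LD3_c43)) = (LP (LK LD1_c12 LD2_c9 LD3_c58)) :=
  Lgr Lrot29 (Lpr_bt (f615711 IH) (Lpr_et (K37.f14359 IH) (Lpe (f558812 IH) (Lpn (LP (LK LD1_c12 LD2_c9 LD3_c58))))))
theorem f615723 : Led Lsl_et (LP (LK LD1_c17 LD2_c4 LD3_c43)) = (LP (LK LD1_c12 LD2_c9 LD3_c58)) :=
  Lgr Lrot87 (Lpr_ef (f615717 IH) (Lpn (LP (LK LD1_c12 LD2_c9 LD3_c58))))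
theorem f615725 : Led Lsl_ef (LP (LK LD1_c9 LD2_c11 LD3_c12)) = (LP (LK LD1_c6 LD2_c16 LD3_c20)) :=
  Lgr Lrot28 (Lpr_ct (f40616 IH) (Lpr_et (f615723 IH) (Lpr_ct (K37.f543822 IH) (Lpn (LP (LK LD1_c6 LD2_c16 LD3_c20))))))
theorem f204779 : Led Lsl_at (LP (LK LD1_c3 LD2_c5 LD3_c26)) = (LP (LK LD1_c6 LD2_c16 LD3_c20)) :=
  Lre_a IH (LK LD1_c3 LD2_c5 LD3_c26) (LK LD1_c6 LD2_c16 LD3_c20) Lrfl Lrfl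
theorem f202285 : Led Lsl_et (LP (LK LD1_c6 LD2_c16 LD3_c43)) = (LP (LK LD1_c3 LD2_c5 LD3_c26)) :=
  Lre_e IH (LK LD1_c6 LD2_c16 LD3_c43) (LK LD1_c3 LD2_c5 LD3_c26) Lrfl Lrfl
theorem f615736 : Led Lsl_at (LP (LK LD1_c9 LD2_c11 LD3_c12)) = (LP (LK LD1_c6 LD2_c16 LD3_c43)) :=
  Lgr Lrot80 (Lpr_ef (f615725 IH) (Lpe (f204779 IH) (Lpe (f202285 IH) (Lpn (LP (LK LD1_c6 LD2_c16 LD3_c43))))))
theorem f615740 : Led Lsl_ft (LP (LK LD1_c17 LD2_c4 LD3_c44)) = (LP (LK LD1_c9 LD2_c11 LD3_c12)) :=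
  Lre_f IH (LK LD1_c17 LD2_c4 LD3_c44) (LK LD1_c9 LD2_c11 LD3_c12) Lrfl Lrfl
theorem f204652 : Led Lsl_bt (LP (LK LD1_c11 LD2_c48 LD3_c36)) = (LP (LK LD1_c6 LD2_c2 LD3_c10)) :=
  Lre_b IH (LK LD1_c11 LD2_c48 LD3_c36) (LK LD1_c6 LD2_c2 LD3_c10) Lrfl Lrfl
theorem f204462 : Led Lsl_bt (LP (LK LD1_c3 LD2_c5 LD3_c35)) = (LP (LK LD1_c6 LD2_c16 LD3_c43)) :=
  Lre_b IH (LK LD1_c3 LD2_c5 LD3_c35) (LK LD1_c6 LD2_c16 LD3_c43) Lrfl Lrfl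
theorem f204669 : Led Lsl_ff (LP (LK LD1_c11 LD2_c48 LD3_c36)) = (LP (LK LD1_c6 LD2_c16 LD3_c43)) :=
  Lgr Lrot25 (Lpr_bt (f204652 IH) (Lpr_ft (K11.f204663 IH) (Lpr_bt (f204462 IH) (Lpn (LP (LK LD1_c6 LD2_c16 LD3_c43))))))
theorem f615741 : Led Lsl_af (LP (LK LD1_c17 LD2_c4 LD3_c44)) = (LP (LK LD1_c11 LD2_c48 LD3_c36)) :=
  Lgr Lrot45 (Lpr_ft (f615740 IH) (Lpr_at (f615736 IH) (Lpe (f204669 IH) (Lpn (LP (LK LD1_c11 LD2_c48 LD3_c36))))))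
theorem f204657 : Led Lsl_bt (LP (LK LD1_c6 LD2_c2 LD3_c10)) = (LP (LK LD1_c11 LD2_c48 LD3_c36)) :=
  Lre_b IH (LK LD1_c6 LD2_c2 LD3_c10) (LK LD1_c11 LD2_c48 LD3_c36) Lrfl Lrfl
theorem f615745 : Led Lsl_bt (LP (LK LD1_c6 LD2_c44 LD3_c44)) = (LP (LK LD1_c9 LD2_c13 LD3_c13)) :=
  Lgr Lrot62 (Lpe (K35.f207139 IH) (Lpe (K46.f207143 IH) (Lpr_af (f615741 IH) (Lpe (f204657 IH) (Lpr_af (K11.f204650 IH) (Lpn (LP (LK LD1_c9 LD2_c13 LD3_c13))))))))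
theorem f615749 : Led Lsl_bf (LP (LK LD1_c3 LD2_c20 LD3_c29)) = (LP (LK LD1_c6 LD2_c2 LD3_c49)) :=
  Lgr Lrot93 (Lpr_dt (K35.f207156 IH) (Lpr_bt (f615745 IH) (Lpr_dt (K11.f204483 IH) (Lpn (LP (LK LD1_c6 LD2_c2 LD3_c49))))))
theorem f437341 : Led Lsl_ct (LP (LK LD1_c9 LD2_c5 LD3_c33)) = (LP (LK LD1_c4 LD2_c34 LD3_c1)) :=
  Lre_c IH (LK LD1_c9 LD2_c5 LD3_c33) (LK LD1_c4 LD2_c34 LD3_c1) Lrfl Lrfl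
theorem f737617 : Led Lsl_ff (LP (LK LD1_c9 LD2_c5 LD3_c33)) = (LP (LK LD1_c12 LD2_c10 LD3_c50)) :=
  Lgr Lrot23 (Lpr_ct (f437341 IH) (Lpr_ft (K54.f698860 IH) (Lpq (K54.f737612 IH) (Lpe (K52.f698897 IH) (Lpn (LP (LK LD1_c12 LD2_c10 LD3_c50)))))))
theorem f210185 : Led Lsl_gt (LP (LK LD1_c6 LD2_c16 LD3_c56)) = (LP (LK LD1_c12 LD2_c10 LD3_c49)) :=
  Lre_g IH (LK LD1_c6 LD2_c16 LD3_c56) (LK LD1_c12 LD2_c10 LD3_c49) Lrfl Lrfl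
theorem f737621 : Led Lsl_at (LP (LK LD1_c9 LD2_c5 LD3_c33)) = (LP (LK LD1_c12 LD2_c10 LD3_c49)) :=
  Lgr Lrot26 (Lpr_ff (f737617 IH) (Lpr_gt (K52.f210180 IH) (Lpr_gt (f210185 IH) (Lpn (LP (LK LD1_c12 LD2_c10 LD3_c49))))))
theorem f437402 : Led Lsl_ct (LP (LK LD1_c4 LD2_c34 LD3_c1)) = (LP (LK LD1_c9 LD2_c5 LD3_c33)) :=
  Lre_c IH (LK LD1_c4 LD2_c34 LD3_c1) (LK LD1_c9 LD2_c5 LD3_c33) Lrfl Lrfl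
theorem f437272 : Led Lsl_bf (LP (LK LD1_c4 LD2_c33 LD3_c57)) = (LP (LK LD1_c2 LD2_c50 LD3_c6)) :=
  Lgr Lrot24 (Lpr_bt (K32.f437263 IH) (Lpn (LP (LK LD1_c2 LD2_c50 LD3_c6))))
theorem f437468 : Led Lsl_gt (LP (LK LD1_c4 LD2_c33 LD3_c57)) = (LP (LK LD1_c9 LD2_c5 LD3_c25)) :=
  Lre_g IH (LK LD1_c4 LD2_c33 LD3_c57) (LK LD1_c9 LD2_c5 LD3_c25) Lrfl Lrfl
theorem f557946 : Led Lsl_gt (LP (LK LD1_c17 LD2_c4 LD3_c39)) = (LP (LK LD1_c9 LD2_c11 LD3_c11)) :=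
  Lre_g IH (LK LD1_c17 LD2_c4 LD3_c39) (LK LD1_c9 LD2_c11 LD3_c11) Lrfl Lrfl
theorem f210199 : Led Lsl_gf (LP (LK LD1_c17 LD2_c8 LD3_c1)) = (LP (LK LD1_c12 LD2_c10 LD3_c49)) :=
  Lgr Lrot76 (Lpe (K11.f204322 IH) (Lpr_ff (K11.f210191 IH) (Lpr_gt (f210185 IH) (Lpn (LP (LK LD1_c12 LD2_c10 LD3_c49))))))
theorem f700381 : Led Lsl_ct (LP (LK LD1_c9 LD2_c5 LD3_c25)) = (LP (LK LD1_c12 LD2_c10 LD3_c49)) :=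
  Lgr Lrot91 (Lpe (f437468 IH) (Lpr_bf (f437272 IH) (Lpr_ct (K55.f146512 IH) (Lpe (f437246 IH) (Lpr_cf (K55.f700371 IH) (Lpr_bt (K55.f40636 IH) (Lpe (f557946 IH) (Lpr_bf (K40.f557936 IH) (Lpr_ct (K11.f104851 IH) (Lpr_gf (f210199 IH) (Lpn (LP (LK LD1_c12 LD2_c10 LD3_c49)))))))))))))
theorem f700383 : Led Lsl_cf (LP (LK LD1_c9 LD2_c5 LD3_c25)) = (LP (LK LD1_c12 LD2_c10 LD3_c49)) :=
  Lgr Lrot11 (Lpr_ct (f700381 IH) (Lpn (LP (LK LD1_c12 LD2_c10 LD3_c49))))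
theorem f737625 : K54.v12889 = (LP (LK LD1_c9 LD2_c5 LD3_c25)) :=
  (Llr Lrot68 (Lpe (K54.f698848 IH) (Lpr_ct (f437402 IH) (Lpr_at (f737621 IH) (Lpe (f700383 IH) (Lpn (LP (LK LD1_c9 LD2_c5 LD3_c25)))))))).symm
theorem f437452 : Led Lsl_ct (LP (LK LD1_c9 LD2_c5 LD3_c35)) = (LP (LK LD1_c4 LD2_c34 LD3_c2)) :=
  Lre_c IH (LK LD1_c9 LD2_c5 LD3_c35) (LK LD1_c4 LD2_c34 LD3_c2) Lrfl Lrfl
theorem f737630 : Led Lsl_ff (LP (LK LD1_c9 LD2_c5 LD3_c35)) = (LP (LK LD1_c12 LD2_c10 LD3_c49)) :=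
  Lgr Lrot23 (Lpr_ct (f437452 IH) (Lpr_ft (K54.f698849 IH) (Lpqs (f737625 IH) (Lpr_ct (f700381 IH) (Lpn (LP (LK LD1_c12 LD2_c10 LD3_c49)))))))
theorem f737634 : Led Lsl_ft (LP (LK LD1_c9 LD2_c5 LD3_c35)) = (LP (LK LD1_c12 LD2_c10 LD3_c49)) :=
  Lgr Lrot48 (Lpr_ff (f737630 IH) (Lpn (LP (LK LD1_c12 LD2_c10 LD3_c49))))
theorem f737623 : Led Lsl_af (LP (LK LD1_c9 LD2_c5 LD3_c33)) = (LP (LK LD1_c12 LD2_c10 LD3_c49)) :=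
  Lgr Lrot0 (Lpr_at (f737621 IH) (Lpn (LP (LK LD1_c12 LD2_c10 LD3_c49))))
theorem f437270 : Led Lsl_bt (LP (LK LD1_c1 LD2_c4 LD3_c0)) = (LP (LK LD1_c2 LD2_c13 LD3_c55)) :=
  Lre_b IH (LK LD1_c1 LD2_c4 LD3_c0) (LK LD1_c2 LD2_c13 LD3_c55) Lrfl Lrfl
theorem f700365 : Led Lsl_gt (LP (LK LD1_c9 LD2_c5 LD3_c33)) = (LP (LK LD1_c11 LD2_c49 LD3_c41)) :=
  Lgr Lrot149 (Lpe (f437402 IH) (Lpe (K54.f437401 IH) (Lpe (f437270 IH) (Lpr_ct (K32.f437345 IH) (Lpe (K24.f23279 IH) (Lpe (K32.f416696 IH) (Lpr_bt (K51.f631998 IH) (Lpq (K51.f700271 IH) (Lpr_gf (K51.f209305 IH) (Lpr_bf (f615749 IH) (Lpr_ct (K11.f68931 IH) (Lpn (LP (LK LD1_c11 LD2_c49 LD3_c41))))))))))))))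
theorem f210186 : Led Lsl_ff (LP (LK LD1_c17 LD2_c8 LD3_c1)) = (LP (LK LD1_c9 LD2_c18 LD3_c3)) :=
  Lgr Lrot30 (Lpe (K11.f204317 IH) (Lpr_ft (K11.f210183 IH) (Lpe (K11.f210173 IH) (Lpn (LP (LK LD1_c9 LD2_c18 LD3_c3))))))
theorem f700423 : Led Lsl_gf (LP (LK LD1_c9 LD2_c5 LD3_c33)) = (LP (LK LD1_c9 LD2_c18 LD3_c3)) :=
  Lgr Lrot47 (Lpr_gt (f700365 IH) (Lpr_af (K11.f204317 IH) (Lpr_ff (f210186 IH) (Lpn (LP (LK LD1_c9 LD2_c18 LD3_c3))))))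
theorem f737638 : Led Lsl_gt (LP (LK LD1_c9 LD2_c5 LD3_c35)) = (LP (LK LD1_c9 LD2_c18 LD3_c3)) :=
  Lgr Lrot5 (Lpr_ft (f737634 IH) (Lpe (f737623 IH) (Lpr_gf (f700423 IH) (Lpn (LP (LK LD1_c9 LD2_c18 LD3_c3))))))
theorem f737640 : Led Lsl_gf (LP (LK LD1_c9 LD2_c5 LD3_c35)) = (LP (LK LD1_c11 LD2_c49 LD3_c41)) :=
  Lgr Lrot47 (Lpr_gt (f737638 IH) (Lpr_af (K11.f210173 IH) (Lpe (K11.f210183 IH) (Lpn (LP (LK LD1_c11 LD2_c49 LD3_c41))))))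
theorem f437266 : Led Lsl_ct (LP (LK LD1_c4 LD2_c34 LD3_c2)) = (LP (LK LD1_c9 LD2_c5 LD3_c35)) :=
  Lre_c IH (LK LD1_c4 LD2_c34 LD3_c2) (LK LD1_c9 LD2_c5 LD3_c35) Lrfl Lrfl
theorem f698851 : Led Lsl_bt (LP (LK LD1_c4 LD2_c34 LD3_c2)) = (LP (LK LD1_c9 LD2_c5 LD3_c34)) :=
  Lre_b IH (LK LD1_c4 LD2_c34 LD3_c2) (LK LD1_c9 LD2_c5 LD3_c34) Lrfl Lrfl
theorem f750018 : v16432 = (LP (LK LD1_c9 LD2_c5 LD3_c34)) :=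
  (Llr Lrot181 (Lpe (f749320 IH) (Lpr_ct (f119867 IH) (Lpr_gt (f641455 IH) (Lpq (f749996 IH) (Lpe (K52.f641420 IH) (Lpr_bt (K51.f641418 IH) (Lpqs (K51.f700261 IH) (Lpr_gt (K50.f207251 IH) (Lpr_bf (f615749 IH) (Lpr_ct (K11.f68931 IH) (Lpe (f737640 IH) (Lpe (f437266 IH) (Lpr_bt (f698851 IH) (Lpn (LP (LK LD1_c9 LD2_c5 LD3_c34))))))))))))))))).symm
theorem f750019 : Led Lsl_gt (LP (LK LD1_c9 LD2_c5 LD3_c34)) = (LP (LK LD1_c6 LD2_c0 LD3_c32)) :=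
  Leop (Lpr_gf (f749320 IH) (Lpqs (f750018 IH) (Lpn (LP (LK LD1_c9 LD2_c5 LD3_c34)))))
theorem seed_1033 : LEOK LG_g (LK LD1_c9 LD2_c5 LD3_c34) :=
  Leoe_g (LK LD1_c9 LD2_c5 LD3_c34) (f750019 IH)
def v13834 : LQ := Led Lsl_gf (LP (LK LD1_c4 LD2_c48 LD3_c55))
theorem f705144 : Led Lsl_gf (LP (LK LD1_c4 LD2_c48 LD3_c55)) = v13834 :=
  Lrfl
theorem f501399 : Led Lsl_bt (LP (LK LD1_c2 LD2_c22 LD3_c20)) = (LP (LK LD1_c4 LD2_c48 LD3_c52)) :=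
  Lre_b IH (LK LD1_c2 LD2_c22 LD3_c20) (LK LD1_c4 LD2_c48 LD3_c52) Lrfl Lrfl
theorem f136288 : Led Lsl_gt (LP (LK LD1_c4 LD2_c48 LD3_c52)) = (LP (LK LD1_c9 LD2_c30 LD3_c12)) :=
  Lre_g IH (LK LD1_c4 LD2_c48 LD3_c52) (LK LD1_c9 LD2_c30 LD3_c12) Lrfl Lrfl
theorem f146421 : Led Lsl_at (LP (LK LD1_c11 LD2_c25 LD3_c59)) = (LP (LK LD1_c5 LD2_c48 LD3_c37)) :=
  Lre_a IH (LK LD1_c11 LD2_c25 LD3_c59) (LK LD1_c5 LD2_c48 LD3_c37) Lrfl Lrfl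
theorem f615543 : Led Lsl_at (LP (LK LD1_c11 LD2_c26 LD3_c47)) = (LP (LK LD1_c14 LD2_c48 LD3_c56)) :=
  Lgr Lrot107 (Lpe (K48.f146524 IH) (Lpe (f146421 IH) (Lpr_cf (K48.f615540 IH) (Lpn (LP (LK LD1_c14 LD2_c48 LD3_c56))))))
theorem f544125 : Led Lsl_gt (LP (LK LD1_c5 LD2_c48 LD3_c36)) = (LP (LK LD1_c11 LD2_c26 LD3_c44)) :=
  Lre_g IH (LK LD1_c5 LD2_c48 LD3_c36) (LK LD1_c11 LD2_c26 LD3_c44) Lrfl Lrfl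
theorem f615649 : Led Lsl_gt (LP (LK LD1_c11 LD2_c26 LD3_c44)) = (LP (LK LD1_c14 LD2_c48 LD3_c56)) :=
  Lgr Lrot46 (Lpe (f544125 IH) (Lpr_ft (K48.f544122 IH) (Lpr_at (f615543 IH) (Lpn (LP (LK LD1_c14 LD2_c48 LD3_c56))))))
theorem f158648 : Led Lsl_gt (LP (LK LD1_c15 LD2_c8 LD3_c5)) = (LP (LK LD1_c8 LD2_c2 LD3_c23)) :=
  Lre_g IH (LK LD1_c15 LD2_c8 LD3_c5) (LK LD1_c8 LD2_c2 LD3_c23) Lrfl Lrfl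
theorem f136296 : Led Lsl_gt (LP (LK LD1_c9 LD2_c30 LD3_c14)) = (LP (LK LD1_c17 LD2_c31 LD3_c32)) :=
  Lre_g IH (LK LD1_c9 LD2_c30 LD3_c14) (LK LD1_c17 LD2_c31 LD3_c32) Lrfl Lrfl
theorem f700814 : Led Lsl_cf (LP (LK LD1_c11 LD2_c26 LD3_c44)) = (LP (LK LD1_c17 LD2_c31 LD3_c32)) :=
  Lgr Lrot125 (Lpr_gt (f615649 IH) (Lpe (K48.f615545 IH) (Lpr_bt (f567730 IH) (Lpe (K55.f615697 IH) (Lpe (K50.f437448 IH) (Lpr_ct (K50.f700809 IH) (Lpr_gt (f158648 IH) (Lpr_cf (K40.f558557 IH) (Lpr_bt (K40.f136300 IH) (Lpr_gt (f136296 IH) (Lpn (LP (LK LD1_c17 LD2_c31 LD3_c32)))))))))))))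
theorem f437164 : Led Lsl_ct (LP (LK LD1_c11 LD2_c25 LD3_c52)) = (LP (LK LD1_c5 LD2_c48 LD3_c11)) :=
  Lre_c IH (LK LD1_c11 LD2_c25 LD3_c52) (LK LD1_c5 LD2_c48 LD3_c11) Lrfl Lrfl
theorem f437167 : Led Lsl_gt (LP (LK LD1_c5 LD2_c48 LD3_c22)) = (LP (LK LD1_c11 LD2_c25 LD3_c52)) :=
  Lre_g IH (LK LD1_c5 LD2_c48 LD3_c22) (LK LD1_c11 LD2_c25 LD3_c52) Lrfl Lrfl
theorem f700821 : Led Lsl_cf (LP (LK LD1_c5 LD2_c48 LD3_c22)) = (LP (LK LD1_c9 LD2_c30 LD3_c12)) :=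
  Lgr Lrot169 (Lpr_gt (f437167 IH) (Lpr_ct (f437164 IH) (Lpe (K48.f66361 IH) (Lpr_cf (K48.f615540 IH) (Lpe (f615649 IH) (Lpr_cf (f700814 IH) (Lpe (f136296 IH) (Lpe (f136279 IH) (Lpr_gt (f136288 IH) (Lpn (LP (LK LD1_c9 LD2_c30 LD3_c12))))))))))))
theorem f415456 : Led Lsl_ct (LP (LK LD1_c5 LD2_c48 LD3_c11)) = (LP (LK LD1_c11 LD2_c25 LD3_c52)) :=
  Lre_c IH (LK LD1_c5 LD2_c48 LD3_c11) (LK LD1_c11 LD2_c25 LD3_c52) Lrfl Lrfl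
theorem f437265 : Led Lsl_gt (LP (LK LD1_c9 LD2_c5 LD3_c27)) = (LP (LK LD1_c4 LD2_c34 LD3_c2)) :=
  Lre_g IH (LK LD1_c9 LD2_c5 LD3_c27) (LK LD1_c4 LD2_c34 LD3_c2) Lrfl Lrfl
theorem f437267 : Led Lsl_bt (LP (LK LD1_c9 LD2_c5 LD3_c34)) = (LP (LK LD1_c4 LD2_c34 LD3_c2)) :=
  Lre_b IH (LK LD1_c9 LD2_c5 LD3_c34) (LK LD1_c4 LD2_c34 LD3_c2) Lrfl Lrfl
theorem f705146 : Led Lsl_ct (LP (LK LD1_c9 LD2_c5 LD3_c34)) = v13834 :=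
  Lgr Lrot64 (Lpr_bt (f437267 IH) (Lpe (f437265 IH) (Lpr_bf (K32.f146438 IH) (Lpr_ct (f415456 IH) (Lpe (f437167 IH) (Lpr_cf (f700821 IH) (Lpe (f136288 IH) (Lpe (f501399 IH) (Lpr_ct (K52.f427467 IH) (Lpr_gf (f705144 IH) (Lpn v13834)))))))))))
theorem f705148 : Led Lsl_cf (LP (LK LD1_c9 LD2_c5 LD3_c34)) = v13834 :=
  Lgr Lrot11 (Lpr_ct (f705146 IH) (Lpn v13834))
theorem f500796 : Led Lsl_ft (LP (LK LD1_c5 LD2_c59 LD3_c56)) = (LP (LK LD1_c2 LD2_c56 LD3_c15)) :=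
  Lre_f IH (LK LD1_c5 LD2_c59 LD3_c56) (LK LD1_c2 LD2_c56 LD3_c15) Lrfl Lrfl
theorem f705145 : Led Lsl_gt (LP (LK LD1_c5 LD2_c59 LD3_c56)) = v13834 :=
  Lgr Lrot5 (Lpr_ft (f500796 IH) (Lpr_at (K55.f502188 IH) (Lpr_gf (f705144 IH) (Lpn v13834))))
theorem f119866 : Led Lsl_dt (LP (LK LD1_c6 LD2_c0 LD3_c35)) = (LP (LK LD1_c2 LD2_c56 LD3_c33)) :=
  Lre_d IH (LK LD1_c6 LD2_c0 LD3_c35) (LK LD1_c2 LD2_c56 LD3_c33) Lrfl Lrfl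
theorem f498364 : Led Lsl_ct (LP (LK LD1_c11 LD2_c45 LD3_c33)) = (LP (LK LD1_c6 LD2_c0 LD3_c35)) :=
  Lre_c IH (LK LD1_c11 LD2_c45 LD3_c33) (LK LD1_c6 LD2_c0 LD3_c35) Lrfl Lrfl
theorem f498387 : Led Lsl_gt (LP (LK LD1_c20 LD2_c46 LD3_c50)) = (LP (LK LD1_c11 LD2_c45 LD3_c33)) :=
  Lre_g IH (LK LD1_c20 LD2_c46 LD3_c50) (LK LD1_c11 LD2_c45 LD3_c33) Lrfl Lrfl
theorem f750021 : Led Lsl_ct (LP (LK LD1_c17 LD2_c31 LD3_c43)) = (LP (LK LD1_c20 LD2_c46 LD3_c50)) :=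
  Lgr Lrot152 (Lpe (K55.f502235 IH) (Lpe (K55.f501458 IH) (Lpr_gt (f705145 IH) (Lpe (f705148 IH) (Lpq (f750018 IH) (Lpe (f749320 IH) (Lpr_ct (f119867 IH) (Lpe (f119866 IH) (Lpe (f498364 IH) (Lpe (f498387 IH) (Lpn (LP (LK LD1_c20 LD2_c46 LD3_c50)))))))))))))
theorem f750022 : Led Lsl_ct (LP (LK LD1_c17 LD2_c31 LD3_c43)) = (LP (LK LD1_c20 LD2_c46 LD3_c50)) :=
  Leop (Lpe (f750021 IH) (Lpn (LP (LK LD1_c17 LD2_c31 LD3_c43))))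
theorem seed_1034 : LEOK LG_c (LK LD1_c17 LD2_c31 LD3_c43) :=
  Leoe_c (LK LD1_c17 LD2_c31 LD3_c43) (f750022 IH)
def v16508 : LQ := Led Lsl_et (LP (LK LD1_c6 LD2_c1 LD3_c55))
theorem f750107 : Led Lsl_et (LP (LK LD1_c6 LD2_c1 LD3_c55)) = v16508 :=
  Lrfl
theorem f750109 : Led Lsl_ef (LP (LK LD1_c6 LD2_c1 LD3_c55)) = v16508 :=
  Lgr Lrot88 (Lpr_et (f750107 IH) (Lpn v16508))
theorem f209300 : Led Lsl_ef (LP (LK LD1_c9 LD2_c11 LD3_c13)) = (LP (LK LD1_c6 LD2_c44 LD3_c18)) :=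
  Lgr Lrot88 (Lpr_et (K40.f209297 IH) (Lpn (LP (LK LD1_c6 LD2_c44 LD3_c18))))
theorem f557979 : Led Lsl_df (LP (LK LD1_c9 LD2_c13 LD3_c19)) = (LP (LK LD1_c6 LD2_c44 LD3_c18)) :=
  Lgr Lrot12 (Lpe (K11.f204205 IH) (Lpr_dt (K45.f557977 IH) (Lpr_bt (K50.f207321 IH) (Lpn (LP (LK LD1_c6 LD2_c44 LD3_c18))))))
theorem f204236 : Led Lsl_gt (LP (LK LD1_c4 LD2_c38 LD3_c49)) = (LP (LK LD1_c9 LD2_c13 LD3_c19)) :=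
  Lre_g IH (LK LD1_c4 LD2_c38 LD3_c49) (LK LD1_c9 LD2_c13 LD3_c19) Lrfl Lrfl
theorem f104830 : Led Lsl_dt (LP (LK LD1_c9 LD2_c13 LD3_c27)) = (LP (LK LD1_c4 LD2_c38 LD3_c49)) :=
  Lre_d IH (LK LD1_c9 LD2_c13 LD3_c27) (LK LD1_c4 LD2_c38 LD3_c49) Lrfl Lrfl
theorem f741227 : Led Lsl_df (LP (LK LD1_c5 LD2_c45 LD3_c53)) = K55.v15749 :=
  Lgr Lrot38 (Lpr_dt (K55.f741225 IH) (Lpn K55.v15749))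
theorem f739220 : Led Lsl_gt (LP (LK LD1_c11 LD2_c22 LD3_c10)) = (LP (LK LD1_c5 LD2_c45 LD3_c53)) :=
  Lre_g IH (LK LD1_c11 LD2_c22 LD3_c10) (LK LD1_c5 LD2_c45 LD3_c53) Lrfl Lrfl
theorem f750111 : Led Lsl_df (LP (LK LD1_c11 LD2_c22 LD3_c10)) = v16508 :=
  Lgr Lrot170 (Lpr_gt (f739220 IH) (Lpr_df (f741227 IH) (Lpe (K55.f746962 IH) (Lpr_gt (K55.f557987 IH) (Lpr_dt (f104830 IH) (Lpr_gt (f204236 IH) (Lpr_df (f557979 IH) (Lpe (f209300 IH) (Lpqs (f749897 IH) (Lpe (f749890 IH) (Lpr_ef (f750109 IH) (Lpn v16508))))))))))))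
theorem f645180 : Led Lsl_et (LP (LK LD1_c2 LD2_c57 LD3_c3)) = (LP (LK LD1_c6 LD2_c1 LD3_c58)) :=
  Lre_e IH (LK LD1_c2 LD2_c57 LD3_c3) (LK LD1_c6 LD2_c1 LD3_c58) Lrfl Lrfl
theorem f750110 : Led Lsl_bt (LP (LK LD1_c6 LD2_c1 LD3_c58)) = v16508 :=
  Lgr Lrot119 (Lpe (f645180 IH) (Lpe (f69123 IH) (Lpr_ef (f750109 IH) (Lpn v16508))))
theorem f420600 : Led Lsl_dt (LP (LK LD1_c11 LD2_c48 LD3_c28)) = (LP (LK LD1_c6 LD2_c1 LD3_c58)) :=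
  Lre_d IH (LK LD1_c11 LD2_c48 LD3_c28) (LK LD1_c6 LD2_c1 LD3_c58) Lrfl Lrfl
theorem f750112 : Led Lsl_bt (LP (LK LD1_c11 LD2_c22 LD3_c10)) = (LP (LK LD1_c11 LD2_c48 LD3_c28)) :=
  Lgr Lrot95 (Lpr_df (f750111 IH) (Lpe (f750110 IH) (Lpe (f420600 IH) (Lpn (LP (LK LD1_c11 LD2_c48 LD3_c28))))))
theorem f750113 : Led Lsl_bt (LP (LK LD1_c11 LD2_c22 LD3_c10)) = (LP (LK LD1_c11 LD2_c48 LD3_c28)) :=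
  Leop (Lpe (f750112 IH) (Lpn (LP (LK LD1_c11 LD2_c22 LD3_c10))))
theorem seed_1035 : LEOK LG_b (LK LD1_c11 LD2_c22 LD3_c10) :=
  Leoe_b (LK LD1_c11 LD2_c22 LD3_c10) (f750113 IH)
def v16516 : LQ := Led Lsl_et (LP (LK LD1_c6 LD2_c1 LD3_c59))
theorem f750144 : Led Lsl_et (LP (LK LD1_c6 LD2_c1 LD3_c59)) = v16516 :=
  Lrfl
theorem f750145 : Led Lsl_ef (LP (LK LD1_c6 LD2_c1 LD3_c59)) = v16516 :=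
  Lgr Lrot88 (Lpr_et (f750144 IH) (Lpn v16516))
theorem f204677 : Led Lsl_ct (LP (LK LD1_c11 LD2_c48 LD3_c36)) = (LP (LK LD1_c20 LD2_c51 LD3_c5)) :=
  Lre_c IH (LK LD1_c11 LD2_c48 LD3_c36) (LK LD1_c20 LD2_c51 LD3_c5) Lrfl Lrfl
theorem f204680 : Led Lsl_ct (LP (LK LD1_c12 LD2_c10 LD3_c29)) = (LP (LK LD1_c6 LD2_c16 LD3_c43)) :=
  Lre_c IH (LK LD1_c12 LD2_c10 LD3_c29) (LK LD1_c6 LD2_c16 LD3_c43) Lrfl Lrfl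
theorem f204681 : Led Lsl_ft (LP (LK LD1_c20 LD2_c51 LD3_c5)) = (LP (LK LD1_c12 LD2_c10 LD3_c29)) :=
  Lgr Lrot4 (Lpe (f204677 IH) (Lpr_ff (f204669 IH) (Lpe (f204680 IH) (Lpn (LP (LK LD1_c12 LD2_c10 LD3_c29))))))
theorem f204697 : Led Lsl_ff (LP (LK LD1_c20 LD2_c51 LD3_c5)) = (LP (LK LD1_c12 LD2_c10 LD3_c29)) :=
  Lgr Lrot3 (Lpr_ft (f204681 IH) (Lpn (LP (LK LD1_c12 LD2_c10 LD3_c29))))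
theorem f204705 : Led Lsl_et (LP (LK LD1_c20 LD2_c51 LD3_c5)) = (LP (LK LD1_c11 LD2_c48 LD3_c35)) :=
  Lre_e IH (LK LD1_c20 LD2_c51 LD3_c5) (LK LD1_c11 LD2_c48 LD3_c35) Lrfl Lrfl
theorem f204706 : Led Lsl_ft (LP (LK LD1_c11 LD2_c48 LD3_c35)) = (LP (LK LD1_c6 LD2_c1 LD3_c60)) :=
  Lre_f IH (LK LD1_c11 LD2_c48 LD3_c35) (LK LD1_c6 LD2_c1 LD3_c60) Lrfl Lrfl
theorem f204707 : Led Lsl_et (LP (LK LD1_c6 LD2_c16 LD3_c42)) = (LP (LK LD1_c12 LD2_c10 LD3_c29)) :=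
  Lre_e IH (LK LD1_c6 LD2_c16 LD3_c42) (LK LD1_c12 LD2_c10 LD3_c29) Lrfl Lrfl
theorem f204708 : Led Lsl_ft (LP (LK LD1_c3 LD2_c5 LD3_c25)) = (LP (LK LD1_c6 LD2_c16 LD3_c42)) :=
  Lre_f IH (LK LD1_c3 LD2_c5 LD3_c25) (LK LD1_c6 LD2_c16 LD3_c42) Lrfl Lrfl
theorem f204709 : Led Lsl_et (LP (LK LD1_c6 LD2_c1 LD3_c60)) = (LP (LK LD1_c3 LD2_c5 LD3_c25)) :=
  Lgr Lrot69 (Lpe (f204706 IH) (Lpe (f204705 IH) (Lpr_ff (f204697 IH) (Lpe (f204707 IH) (Lpe (f204708 IH) (Lpn (LP (LK LD1_c3 LD2_c5 LD3_c25))))))))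
theorem f204718 : Led Lsl_ef (LP (LK LD1_c2 LD2_c57 LD3_c4)) = (LP (LK LD1_c1 LD2_c28 LD3_c42)) :=
  Lgr Lrot28 (Lpr_ct (K50.f204717 IH) (Lpr_et (f204709 IH) (Lpr_ct (K37.f186353 IH) (Lpn (LP (LK LD1_c1 LD2_c28 LD3_c42))))))
theorem f559221 : Led Lsl_gf (LP (LK LD1_c3 LD2_c5 LD3_c21)) = (LP (LK LD1_c6 LD2_c16 LD3_c24)) :=
  Lgr Lrot143 (Lpr_dt (K43.f204740 IH) (Lpe (K38.f210466 IH) (Lpr_df (K41.f559199 IH) (Lpe (K6.f88497 IH) (Lpr_df (K43.f556422 IH) (Lpe (K42.f556311 IH) (Lpe (K39.f202276 IH) (Lpr_gt (K39.f551655 IH) (Lpe (K39.f556397 IH) (Lpn (LP (LK LD1_c6 LD2_c16 LD3_c24))))))))))))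
theorem f613032 : Led Lsl_et (LP (LK LD1_c12 LD2_c10 LD3_c0)) = (LP (LK LD1_c6 LD2_c16 LD3_c24)) :=
  Lre_e IH (LK LD1_c12 LD2_c10 LD3_c0) (LK LD1_c6 LD2_c16 LD3_c24) Lrfl Lrfl
theorem f556408 : Led Lsl_et (LP (LK LD1_c6 LD2_c16 LD3_c24)) = (LP (LK LD1_c12 LD2_c10 LD3_c0)) :=
  Lre_e IH (LK LD1_c6 LD2_c16 LD3_c24) (LK LD1_c12 LD2_c10 LD3_c0) Lrfl Lrfl
theorem f280572 : Led Lsl_et (LP (LK LD1_c9 LD2_c2 LD3_c33)) = (LP (LK LD1_c4 LD2_c32 LD3_c29)) :=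
  Lre_e IH (LK LD1_c9 LD2_c2 LD3_c33) (LK LD1_c4 LD2_c32 LD3_c29) Lrfl Lrfl
theorem f556409 : Led Lsl_dt (LP (LK LD1_c12 LD2_c10 LD3_c0)) = (LP (LK LD1_c9 LD2_c2 LD3_c33)) :=
  Lgr Lrot77 (Lpe (f556408 IH) (Lpr_df (K39.f556397 IH) (Lpe (K39.f268868 IH) (Lpe (K16.f268840 IH) (Lpe (f280572 IH) (Lpn (LP (LK LD1_c9 LD2_c2 LD3_c33))))))))
theorem f280551 : Led Lsl_gt (LP (LK LD1_c16 LD2_c52 LD3_c55)) = (LP (LK LD1_c9 LD2_c2 LD3_c33)) :=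
  Lre_g IH (LK LD1_c16 LD2_c52 LD3_c55) (LK LD1_c9 LD2_c2 LD3_c33) Lrfl Lrfl
theorem f750146 : Led Lsl_df (LP (LK LD1_c16 LD2_c52 LD3_c55)) = v16516 :=
  Lgr Lrot170 (Lpr_gt (f280551 IH) (Lpe (f556409 IH) (Lpr_et (f613032 IH) (Lpe (f559221 IH) (Lpr_dt (K43.f204740 IH) (Lpr_gt (K36.f202625 IH) (Lpe (K37.f202611 IH) (Lpe (f204718 IH) (Lpr_gt (K48.f204738 IH) (Lpr_ef (f750145 IH) (Lpn v16516)))))))))))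
theorem f268970 : Led Lsl_gt (LP (LK LD1_c9 LD2_c2 LD3_c49)) = (LP (LK LD1_c16 LD2_c52 LD3_c55)) :=
  Lre_g IH (LK LD1_c9 LD2_c2 LD3_c49) (LK LD1_c16 LD2_c52 LD3_c55) Lrfl Lrfl
theorem f268944 : Led Lsl_dt (LP (LK LD1_c16 LD2_c53 LD3_c27)) = (LP (LK LD1_c9 LD2_c2 LD3_c49)) :=
  Lre_d IH (LK LD1_c16 LD2_c53 LD3_c27) (LK LD1_c9 LD2_c2 LD3_c49) Lrfl Lrfl
theorem f396292 : Led Lsl_bt (LP (LK LD1_c20 LD2_c25 LD3_c50)) = (LP (LK LD1_c11 LD2_c28 LD3_c11)) :=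
  Lre_b IH (LK LD1_c20 LD2_c25 LD3_c50) (LK LD1_c11 LD2_c28 LD3_c11) Lrfl Lrfl
theorem f268766 : Led Lsl_bt (LP (LK LD1_c9 LD2_c2 LD3_c56)) = (LP (LK LD1_c16 LD2_c53 LD3_c27)) :=
  Lre_b IH (LK LD1_c9 LD2_c2 LD3_c56) (LK LD1_c16 LD2_c53 LD3_c27) Lrfl Lrfl
theorem f396293 : Led Lsl_ef (LP (LK LD1_c20 LD2_c25 LD3_c50)) = (LP (LK LD1_c16 LD2_c53 LD3_c27)) :=
  Lgr Lrot29 (Lpr_bt (f396292 IH) (Lpr_et (K39.f396290 IH) (Lpr_bt (f268766 IH) (Lpn (LP (LK LD1_c16 LD2_c53 LD3_c27))))))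
theorem f749768 : Led Lsl_df (LP (LK LD1_c6 LD2_c1 LD3_c45)) = v16487 :=
  Lgr Lrot78 (Lpr_ft (K55.f210084 IH) (Lpr_dt (K16.f202217 IH) (Lpr_ft (f749766 IH) (Lpn v16487))))
theorem f420474 : Led Lsl_dt (LP (LK LD1_c6 LD2_c1 LD3_c57)) = (LP (LK LD1_c2 LD2_c57 LD3_c3)) :=
  Lre_d IH (LK LD1_c6 LD2_c1 LD3_c57) (LK LD1_c2 LD2_c57 LD3_c3) Lrfl Lrfl
theorem f420475 : Led Lsl_et (LP (LK LD1_c6 LD2_c1 LD3_c57)) = (LP (LK LD1_c11 LD2_c48 LD3_c27)) :=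
  Lre_e IH (LK LD1_c6 LD2_c1 LD3_c57) (LK LD1_c11 LD2_c48 LD3_c27) Lrfl Lrfl
theorem f750148 : Led Lsl_gf (LP (LK LD1_c20 LD2_c25 LD3_c50)) = (LP (LK LD1_c11 LD2_c48 LD3_c27)) :=
  Lgr Lrot141 (Lpr_ef (f396293 IH) (Lpr_dt (f268944 IH) (Lpr_gt (f268970 IH) (Lpr_df (f750146 IH) (Lpe (f750145 IH) (Lpr_gt (f749778 IH) (Lpe (f749768 IH) (Lpr_gt (f210092 IH) (Lpe (f420474 IH) (Lpr_et (f420475 IH) (Lpn (LP (LK LD1_c11 LD2_c48 LD3_c27)))))))))))))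
theorem f750149 : Led Lsl_gt (LP (LK LD1_c11 LD2_c48 LD3_c27)) = (LP (LK LD1_c20 LD2_c25 LD3_c50)) :=
  Leop (Lpr_gf (f750148 IH) (Lpn (LP (LK LD1_c11 LD2_c48 LD3_c27))))
theorem seed_1036 : LEOK LG_g (LK LD1_c11 LD2_c48 LD3_c27) :=
  Leoe_g (LK LD1_c11 LD2_c48 LD3_c27) (f750149 IH)
def v16522 : LQ := Led Lsl_ct (LP (LK LD1_c6 LD2_c2 LD3_c2))
theorem f750172 : Led Lsl_ct (LP (LK LD1_c6 LD2_c2 LD3_c2)) = v16522 :=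
  Lrfl
theorem f444224 : Led Lsl_bt (LP (LK LD1_c6 LD2_c2 LD3_c1)) = (LP (LK LD1_c2 LD2_c57 LD3_c7)) :=
  Lre_b IH (LK LD1_c6 LD2_c2 LD3_c1) (LK LD1_c2 LD2_c57 LD3_c7) Lrfl Lrfl
theorem f632004 : Led Lsl_ct (LP (LK LD1_c6 LD2_c2 LD3_c1)) = (LP (LK LD1_c11 LD2_c48 LD3_c39)) :=
  Lre_c IH (LK LD1_c6 LD2_c2 LD3_c1) (LK LD1_c11 LD2_c48 LD3_c39) Lrfl Lrfl
theorem f698941 : Led Lsl_gt (LP (LK LD1_c20 LD2_c51 LD3_c12)) = (LP (LK LD1_c11 LD2_c48 LD3_c39)) :=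
  Lre_g IH (LK LD1_c20 LD2_c51 LD3_c12) (LK LD1_c11 LD2_c48 LD3_c39) Lrfl Lrfl
theorem f416389 : Led Lsl_ct (LP (LK LD1_c6 LD2_c26 LD3_c59)) = (LP (LK LD1_c3 LD2_c11 LD3_c21)) :=
  Lre_c IH (LK LD1_c6 LD2_c26 LD3_c59) (LK LD1_c3 LD2_c11 LD3_c21) Lrfl Lrfl
theorem f750174 : Led Lsl_gf (LP (LK LD1_c6 LD2_c26 LD3_c59)) = v16522 :=
  Lgr Lrot104 (Lpr_ct (f416389 IH) (Lpe (K32.f414848 IH) (Lpe (K32.f155863 IH) (Lpr_gf (K32.f435519 IH) (Lpe (K32.f150499 IH) (Lpe (K32.f419065 IH) (Lpe (K50.f419056 IH) (Lpr_gt (K50.f69070 IH) (Lpr_ct (f750172 IH) (Lpn v16522))))))))))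
theorem f416388 : Led Lsl_ct (LP (LK LD1_c3 LD2_c11 LD3_c21)) = (LP (LK LD1_c6 LD2_c26 LD3_c59)) :=
  Lre_c IH (LK LD1_c3 LD2_c11 LD3_c21) (LK LD1_c6 LD2_c26 LD3_c59) Lrfl Lrfl
theorem f623171 : Led Lsl_bt (LP (LK LD1_c3 LD2_c11 LD3_c21)) = (LP (LK LD1_c6 LD2_c26 LD3_c57)) :=
  Lre_b IH (LK LD1_c3 LD2_c11 LD3_c21) (LK LD1_c6 LD2_c26 LD3_c57) Lrfl Lrfl
theorem f623248 : Led Lsl_gt (LP (LK LD1_c6 LD2_c26 LD3_c57)) = (LP (LK LD1_c12 LD2_c25 LD3_c37)) :=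
  Lre_g IH (LK LD1_c6 LD2_c26 LD3_c57) (LK LD1_c12 LD2_c25 LD3_c37) Lrfl Lrfl
theorem f699083 : Led Lsl_bt (LP (LK LD1_c21 LD2_c32 LD3_c38)) = (LP (LK LD1_c12 LD2_c25 LD3_c37)) :=
  Lre_b IH (LK LD1_c21 LD2_c32 LD3_c38) (LK LD1_c12 LD2_c25 LD3_c37) Lrfl Lrfl
theorem f750175 : Led Lsl_cf (LP (LK LD1_c20 LD2_c51 LD3_c12)) = (LP (LK LD1_c21 LD2_c32 LD3_c38)) :=
  Lgr Lrot160 (Lpr_gt (f698941 IH) (Lpe (f632004 IH) (Lpr_bt (f444224 IH) (Lpr_gt (K50.f69070 IH) (Lpr_ct (f750172 IH) (Lpe (f750174 IH) (Lpe (f416388 IH) (Lpr_bt (f623171 IH) (Lpr_gt (f623248 IH) (Lpe (f699083 IH) (Lpn (LP (LK LD1_c21 LD2_c32 LD3_c38)))))))))))))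
theorem f750176 : Led Lsl_ct (LP (LK LD1_c21 LD2_c32 LD3_c38)) = (LP (LK LD1_c20 LD2_c51 LD3_c12)) :=
  Leop (Lpr_cf (f750175 IH) (Lpn (LP (LK LD1_c21 LD2_c32 LD3_c38))))
theorem seed_1037 : LEOK LG_c (LK LD1_c21 LD2_c32 LD3_c38) :=
  Leoe_c (LK LD1_c21 LD2_c32 LD3_c38) (f750176 IH)
def v16548 : LQ := Led Lsl_ft (LP (LK LD1_c6 LD2_c2 LD3_c43))
theorem f750336 : Led Lsl_ft (LP (LK LD1_c6 LD2_c2 LD3_c43)) = v16548 :=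
  Lrfl
theorem f104847 : Led Lsl_et (LP (LK LD1_c9 LD2_c13 LD3_c39)) = (LP (LK LD1_c4 LD2_c38 LD3_c57)) :=
  Lre_e IH (LK LD1_c9 LD2_c13 LD3_c39) (LK LD1_c4 LD2_c38 LD3_c57) Lrfl Lrfl
theorem f750338 : Led Lsl_ef (LP (LK LD1_c17 LD2_c7 LD3_c61)) = v16548 :=
  Lgr Lrot21 (Lpr_ft (K50.f508160 IH) (Lpr_et (f104847 IH) (Lpe (K41.f508240 IH) (Lpr_et (K55.f387380 IH) (Lpr_ft (f750336 IH) (Lpn v16548))))))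
def v12924 : LQ := Led Lsl_gf (LP (LK LD1_c4 LD2_c34 LD3_c41))
theorem f699619 : Led Lsl_gf (LP (LK LD1_c4 LD2_c34 LD3_c41)) = v12924 :=
  Lrfl
theorem f699620 : Led Lsl_gt (LP (LK LD1_c5 LD2_c50 LD3_c47)) = v12924 :=
  Lgr Lrot5 (Lpr_ft (K50.f22154 IH) (Lpe (K50.f302469 IH) (Lpr_gf (f699619 IH) (Lpn v12924))))
theorem f185767 : Led Lsl_gt (LP (LK LD1_c2 LD2_c33 LD3_c41)) = (LP (LK LD1_c5 LD2_c13 LD3_c35)) :=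
  Lre_g IH (LK LD1_c2 LD2_c33 LD3_c41) (LK LD1_c5 LD2_c13 LD3_c35) Lrfl Lrfl
theorem f185768 : Led Lsl_et (LP (LK LD1_c10 LD2_c17 LD3_c27)) = (LP (LK LD1_c5 LD2_c13 LD3_c35)) :=
  Lre_e IH (LK LD1_c10 LD2_c17 LD3_c27) (LK LD1_c5 LD2_c13 LD3_c35) Lrfl Lrfl
theorem f699621 : Led Lsl_dt (LP (LK LD1_c10 LD2_c17 LD3_c27)) = v12924 :=
  Lgr Lrot136 (Lpr_et (f185768 IH) (Lpe (f185767 IH) (Lpe (K40.f185756 IH) (Lpr_dt (K15.f185752 IH) (Lpe (K10.f185750 IH) (Lpe (K9.f35185 IH) (Lpr_gf (K10.f185153 IH) (Lpe (K35.f20499 IH) (Lpr_dt (K50.f20506 IH) (Lpr_gf (f699619 IH) (Lpn v12924)))))))))))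
theorem f699623 : Led Lsl_df (LP (LK LD1_c10 LD2_c17 LD3_c27)) = v12924 :=
  Lgr Lrot38 (Lpr_dt (f699621 IH) (Lpn v12924))
theorem f169792 : Led Lsl_dt (LP (LK LD1_c5 LD2_c55 LD3_c14)) = (LP (LK LD1_c6 LD2_c2 LD3_c43)) :=
  Lre_d IH (LK LD1_c5 LD2_c55 LD3_c14) (LK LD1_c6 LD2_c2 LD3_c43) Lrfl Lrfl
theorem f750337 : Led Lsl_df (LP (LK LD1_c11 LD2_c35 LD3_c60)) = v16548 :=
  Lgr Lrot78 (Lpr_ft (K53.f631858 IH) (Lpr_dt (f169792 IH) (Lpr_ft (f750336 IH) (Lpn v16548))))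
theorem f750344 : Led Lsl_gt (LP (LK LD1_c10 LD2_c17 LD3_c27)) = (LP (LK LD1_c11 LD2_c35 LD3_c60)) :=
  Lgr Lrot139 (Lpr_df (f699623 IH) (Lpe (f699620 IH) (Lpe (K50.f302476 IH) (Lpr_dt (K53.f242704 IH) (Lpr_gf (K17.f289263 IH) (Lpe (K35.f225977 IH) (Lpr_et (K35.f494571 IH) (Lpr_gf (K50.f508163 IH) (Lpr_ef (f750338 IH) (Lpe (f750337 IH) (Lpn (LP (LK LD1_c11 LD2_c35 LD3_c60)))))))))))))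
theorem f750345 : Led Lsl_gt (LP (LK LD1_c10 LD2_c17 LD3_c27)) = (LP (LK LD1_c11 LD2_c35 LD3_c60)) :=
  Leop (Lpe (f750344 IH) (Lpn (LP (LK LD1_c10 LD2_c17 LD3_c27))))
theorem seed_1038 : LEOK LG_g (LK LD1_c10 LD2_c17 LD3_c27) :=
  Leoe_g (LK LD1_c10 LD2_c17 LD3_c27) (f750345 IH)
def v16556 : LQ := Led Lsl_ct (LP (LK LD1_c6 LD2_c2 LD3_c51))
theorem f750401 : Led Lsl_ct (LP (LK LD1_c6 LD2_c2 LD3_c51)) = v16556 :=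
  Lrfl
theorem f632056 : Led Lsl_at (LP (LK LD1_c4 LD2_c39 LD3_c10)) = (LP (LK LD1_c9 LD2_c14 LD3_c1)) :=
  Lre_a IH (LK LD1_c4 LD2_c39 LD3_c10) (LK LD1_c9 LD2_c14 LD3_c1) Lrfl Lrfl
theorem f501049 : Led Lsl_at (LP (LK LD1_c6 LD2_c2 LD3_c51)) = (LP (LK LD1_c2 LD2_c57 LD3_c32)) :=
  Lre_a IH (LK LD1_c6 LD2_c2 LD3_c51) (LK LD1_c2 LD2_c57 LD3_c32) Lrfl Lrfl
theorem f645745 : Led Lsl_ft (LP (LK LD1_c9 LD2_c14 LD3_c1)) = (LP (LK LD1_c6 LD2_c2 LD3_c51)) :=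
  Lgr Lrot101 (Lpe (f632056 IH) (Lpr_ff (K53.f645706 IH) (Lpe (f501049 IH) (Lpn (LP (LK LD1_c6 LD2_c2 LD3_c51))))))
theorem f645754 : Led Lsl_ct (LP (LK LD1_c17 LD2_c8 LD3_c22)) = (LP (LK LD1_c9 LD2_c14 LD3_c1)) :=
  Lre_c IH (LK LD1_c17 LD2_c8 LD3_c22) (LK LD1_c9 LD2_c14 LD3_c1) Lrfl Lrfl
theorem f750404 : Led Lsl_ff (LP (LK LD1_c17 LD2_c8 LD3_c22)) = v16556 :=
  Lgr Lrot23 (Lpr_ct (f645754 IH) (Lpr_ft (f645745 IH) (Lpr_ct (f750401 IH) (Lpn v16556))))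
theorem f750406 : Led Lsl_ft (LP (LK LD1_c17 LD2_c8 LD3_c22)) = v16556 :=
  Lgr Lrot48 (Lpr_ff (f750404 IH) (Lpn v16556))
theorem f500999 : Led Lsl_ct (LP (LK LD1_c6 LD2_c2 LD3_c55)) = (LP (LK LD1_c2 LD2_c57 LD3_c32)) :=
  Lre_c IH (LK LD1_c6 LD2_c2 LD3_c55) (LK LD1_c2 LD2_c57 LD3_c32) Lrfl Lrfl
theorem f750402 : Led Lsl_af (LP (LK LD1_c6 LD2_c2 LD3_c55)) = v16556 :=
  Lgr Lrot68 (Lpr_ct (f500999 IH) (Lpr_at (K53.f501118 IH) (Lpr_ct (f750401 IH) (Lpn v16556))))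
theorem f444679 : Led Lsl_gt (LP (LK LD1_c11 LD2_c49 LD3_c49)) = (LP (LK LD1_c6 LD2_c2 LD3_c55)) :=
  Lre_g IH (LK LD1_c11 LD2_c49 LD3_c49) (LK LD1_c6 LD2_c2 LD3_c55) Lrfl Lrfl
theorem f750407 : Led Lsl_gt (LP (LK LD1_c17 LD2_c8 LD3_c22)) = (LP (LK LD1_c11 LD2_c49 LD3_c49)) :=
  Lgr Lrot5 (Lpr_ft (f750406 IH) (Lpe (f750402 IH) (Lpe (f444679 IH) (Lpn (LP (LK LD1_c11 LD2_c49 LD3_c49))))))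
theorem f750408 : Led Lsl_gt (LP (LK LD1_c17 LD2_c8 LD3_c22)) = (LP (LK LD1_c11 LD2_c49 LD3_c49)) :=
  Leop (Lpe (f750407 IH) (Lpn (LP (LK LD1_c17 LD2_c8 LD3_c22))))
theorem seed_1039 : LEOK LG_g (LK LD1_c17 LD2_c8 LD3_c22) :=
  Leoe_g (LK LD1_c17 LD2_c8 LD3_c22) (f750408 IH)
def v13067 : LQ := Led Lsl_et (LP (LK LD1_c4 LD2_c38 LD3_c50))
theorem f700891 : Led Lsl_et (LP (LK LD1_c4 LD2_c38 LD3_c50)) = v13067 :=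
  Lrfl
def v16561 : LQ := Led Lsl_ft (LP (LK LD1_c6 LD2_c2 LD3_c52))
theorem f750422 : Led Lsl_ft (LP (LK LD1_c6 LD2_c2 LD3_c52)) = v16561 :=
  Lrfl
def v16558 : LQ := Led Lsl_gt (LP (LK LD1_c6 LD2_c2 LD3_c52))
theorem f750413 : Led Lsl_gt (LP (LK LD1_c6 LD2_c2 LD3_c52)) = v16558 :=
  Lrfl
def v5093 : LQ := Led Lsl_ft (LP (LK LD1_c2 LD2_c57 LD3_c33))
theorem f645904 : Led Lsl_ft (LP (LK LD1_c2 LD2_c57 LD3_c33)) = v5093 :=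
  Lrfl
theorem f645907 : Led Lsl_ff (LP (LK LD1_c2 LD2_c57 LD3_c33)) = v5093 :=
  Lgr Lrot3 (Lpr_ft (f645904 IH) (Lpn v5093))
theorem f750423 : Led Lsl_af v5093 = v16561 :=
  Lgr Lrot45 (Lpe (f645907 IH) (Lpr_at (K53.f501147 IH) (Lpr_ft (f750422 IH) (Lpn v16561))))
theorem f746946 : Led Lsl_ef (LP (LK LD1_c17 LD2_c7 LD3_c53)) = (LP (LK LD1_c16 LD2_c55 LD3_c40)) :=
  Lgr Lrot88 (Lpr_et (K55.f746940 IH) (Lpn (LP (LK LD1_c16 LD2_c55 LD3_c40))))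
theorem f99568 : Led Lsl_et (LP (LK LD1_c9 LD2_c9 LD3_c23)) = (LP (LK LD1_c4 LD2_c36 LD3_c41)) :=
  Lre_e IH (LK LD1_c9 LD2_c9 LD3_c23) (LK LD1_c4 LD2_c36 LD3_c41) Lrfl Lrfl
theorem f40598 : Led Lsl_at (LP (LK LD1_c4 LD2_c37 LD3_c46)) = (LP (LK LD1_c2 LD2_c16 LD3_c3)) :=
  Lre_a IH (LK LD1_c4 LD2_c37 LD3_c46) (LK LD1_c2 LD2_c16 LD3_c3) Lrfl Lrfl
theorem f509233 : Led Lsl_ff (LP (LK LD1_c4 LD2_c37 LD3_c46)) = K32.v2148 :=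
  Lgr Lrot30 (Lpr_at (f40598 IH) (Lpr_ft (K32.f206888 IH) (Lpr_at (K32.f509230 IH) (Lpn K32.v2148))))
theorem f509239 : Led Lsl_ft (LP (LK LD1_c4 LD2_c37 LD3_c46)) = K32.v2148 :=
  Lgr Lrot48 (Lpr_ff (f509233 IH) (Lpn K32.v2148))
theorem f538177 : (LP (LK LD1_c2 LD2_c18 LD3_c60)) = K32.v2148 :=
  (Llr Lrot78 (Lpr_dt (K11.f104813 IH) (Lpr_ft (K35.f204472 IH) (Lpq (K35.f538159 IH) (Lpe (K35.f503114 IH) (Lpr_ft (f509239 IH) (Lpn K32.v2148))))))).symm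
theorem f61127 : Led Lsl_dt (LP (LK LD1_c4 LD2_c38 LD3_c51)) = (LP (LK LD1_c2 LD2_c16 LD3_c26)) :=
  Lre_d IH (LK LD1_c4 LD2_c38 LD3_c51) (LK LD1_c2 LD2_c16 LD3_c26) Lrfl Lrfl
theorem f61130 : Led Lsl_gt (LP (LK LD1_c4 LD2_c38 LD3_c50)) = (LP (LK LD1_c2 LD2_c16 LD3_c26)) :=
  Lre_g IH (LK LD1_c4 LD2_c38 LD3_c50) (LK LD1_c2 LD2_c16 LD3_c26) Lrfl Lrfl
theorem f104829 : Led Lsl_dt (LP (LK LD1_c9 LD2_c13 LD3_c31)) = (LP (LK LD1_c4 LD2_c38 LD3_c50)) :=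
  Lre_d IH (LK LD1_c9 LD2_c13 LD3_c31) (LK LD1_c4 LD2_c38 LD3_c50) Lrfl Lrfl
theorem f746948 : Led Lsl_gt (LP (LK LD1_c17 LD2_c7 LD3_c53)) = (LP (LK LD1_c9 LD2_c13 LD3_c31)) :=
  Lgr Lrot137 (Lpr_ef (f746946 IH) (Lpr_dt (K55.f140513 IH) (Lpe (K52.f715069 IH) (Lpe (K52.f569134 IH) (Lpr_et (f99568 IH) (Lpr_gf (K32.f509236 IH) (Lpq (f538177 IH) (Lpr_ef (K11.f104815 IH) (Lpr_dt (f61127 IH) (Lpe (f61130 IH) (Lpe (f104829 IH) (Lpn (LP (LK LD1_c9 LD2_c13 LD3_c31))))))))))))))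
theorem f138460 : Led Lsl_at (LP (LK LD1_c6 LD2_c16 LD3_c7)) = (LP (LK LD1_c5 LD2_c54 LD3_c31)) :=
  Lgr Lrot100 (Lpr_af (K8.f138458 IH) (Lpn (LP (LK LD1_c5 LD2_c54 LD3_c31))))
theorem f138472 : Led Lsl_et (LP (LK LD1_c5 LD2_c54 LD3_c31)) = (LP (LK LD1_c6 LD2_c15 LD3_c50)) :=
  Lgr Lrot123 (Lpe (f138460 IH) (Lpr_ef (K8.f138469 IH) (Lpr_af (K6.f137353 IH) (Lpn (LP (LK LD1_c6 LD2_c15 LD3_c50))))))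
theorem f138431 : Led Lsl_dt (LP (LK LD1_c5 LD2_c54 LD3_c31)) = (LP (LK LD1_c11 LD2_c34 LD3_c52)) :=
  Lre_d IH (LK LD1_c5 LD2_c54 LD3_c31) (LK LD1_c11 LD2_c34 LD3_c52) Lrfl Lrfl
theorem f23158 : Led Lsl_gt (LP (LK LD1_c9 LD2_c5 LD3_c7)) = (LP (LK LD1_c4 LD2_c33 LD3_c48)) :=
  Lre_g IH (LK LD1_c9 LD2_c5 LD3_c7) (LK LD1_c4 LD2_c33 LD3_c48) Lrfl Lrfl
theorem f715036 : Led Lsl_ff (LP (LK LD1_c5 LD2_c41 LD3_c30)) = (LP (LK LD1_c9 LD2_c5 LD3_c7)) :=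
  Lgr Lrot52 (Lpr_at (K54.f423479 IH) (Lpqs (K53.f715029 IH) (Lpe (K53.f698753 IH) (Lpe (f23158 IH) (Lpn (LP (LK LD1_c9 LD2_c5 LD3_c7)))))))
theorem f614368 : Led Lsl_df (LP (LK LD1_c2 LD2_c53 LD3_c15)) = (LP (LK LD1_c5 LD2_c41 LD3_c30)) :=
  Lgr Lrot38 (Lpr_dt (K54.f614366 IH) (Lpn (LP (LK LD1_c5 LD2_c41 LD3_c30))))
theorem f715040 : Led Lsl_dt K53.v4943 = (LP (LK LD1_c9 LD2_c5 LD3_c7)) :=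
  Lgr Lrot60 (Lpe (K53.f640994 IH) (Lpr_df (f614368 IH) (Lpr_ff (f715036 IH) (Lpn (LP (LK LD1_c9 LD2_c5 LD3_c7))))))
theorem f645476 : Led Lsl_et (LP (LK LD1_c6 LD2_c2 LD3_c52)) = (LP (LK LD1_c2 LD2_c57 LD3_c31)) :=
  Lre_e IH (LK LD1_c6 LD2_c2 LD3_c52) (LK LD1_c2 LD2_c57 LD3_c31) Lrfl Lrfl
theorem f645477 : Led Lsl_dt (LP (LK LD1_c6 LD2_c2 LD3_c52)) = (LP (LK LD1_c11 LD2_c49 LD3_c43)) :=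
  Lre_d IH (LK LD1_c6 LD2_c2 LD3_c52) (LK LD1_c11 LD2_c49 LD3_c43) Lrfl Lrfl
theorem f720659 : Led Lsl_gf (LP (LK LD1_c11 LD2_c49 LD3_c43)) = (LP (LK LD1_c11 LD2_c34 LD3_c52)) :=
  Lgr Lrot145 (Lpe (f645477 IH) (Lpr_et (f645476 IH) (Lpe (K53.f645786 IH) (Lpq (K53.f720637 IH) (Lpr_dt (f715040 IH) (Lpr_gt (f23158 IH) (Lpe (K53.f23148 IH) (Lpe (K53.f23126 IH) (Lpr_gt (K52.f701496 IH) (Lpqs (K52.f715019 IH) (Lpe (f138472 IH) (Lpr_dt (f138431 IH) (Lpn (LP (LK LD1_c11 LD2_c34 LD3_c52)))))))))))))))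
theorem f645374 : Led Lsl_at (LP (LK LD1_c6 LD2_c2 LD3_c59)) = (LP (LK LD1_c11 LD2_c49 LD3_c43)) :=
  Lre_a IH (LK LD1_c6 LD2_c2 LD3_c59) (LK LD1_c11 LD2_c49 LD3_c43) Lrfl Lrfl
theorem f645359 : Led Lsl_bt (LP (LK LD1_c3 LD2_c0 LD3_c25)) = (LP (LK LD1_c6 LD2_c8 LD3_c26)) :=
  Lre_b IH (LK LD1_c3 LD2_c0 LD3_c25) (LK LD1_c6 LD2_c8 LD3_c26) Lrfl Lrfl
theorem f23884 : Led Lsl_bt (LP (LK LD1_c6 LD2_c2 LD3_c59)) = (LP (LK LD1_c2 LD2_c57 LD3_c40)) :=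
  Lre_b IH (LK LD1_c6 LD2_c2 LD3_c59) (LK LD1_c2 LD2_c57 LD3_c40) Lrfl Lrfl
theorem f645375 : Led Lsl_ft (LP (LK LD1_c6 LD2_c8 LD3_c26)) = (LP (LK LD1_c6 LD2_c2 LD3_c59)) :=
  Lgr Lrot75 (Lpe (f645359 IH) (Lpr_ff (K55.f645367 IH) (Lpe (f23884 IH) (Lpn (LP (LK LD1_c6 LD2_c2 LD3_c59))))))
theorem f720661 : Led Lsl_gt (LP (LK LD1_c6 LD2_c8 LD3_c26)) = (LP (LK LD1_c11 LD2_c34 LD3_c52)) :=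
  Lgr Lrot5 (Lpr_ft (f645375 IH) (Lpr_at (f645374 IH) (Lpr_gf (f720659 IH) (Lpn (LP (LK LD1_c11 LD2_c34 LD3_c52))))))
theorem f645377 : Led Lsl_dt (LP (LK LD1_c6 LD2_c2 LD3_c59)) = (LP (LK LD1_c2 LD2_c57 LD3_c33)) :=
  Lre_d IH (LK LD1_c6 LD2_c2 LD3_c59) (LK LD1_c2 LD2_c57 LD3_c33) Lrfl Lrfl
theorem f645906 : Led Lsl_df (LP (LK LD1_c6 LD2_c8 LD3_c26)) = v5093 :=
  Lgr Lrot78 (Lpr_ft (f645375 IH) (Lpr_dt (f645377 IH) (Lpr_ft (f645904 IH) (Lpn v5093))))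
theorem f746950 : Led Lsl_gf v5093 = v13067 :=
  Lgr Lrot138 (Lpe (f645906 IH) (Lpr_gt (f720661 IH) (Lpe (f138431 IH) (Lpr_et (f138472 IH) (Lpe (K52.f438252 IH) (Lpr_ef (K55.f746931 IH) (Lpe (K55.f746934 IH) (Lpr_gt (f746948 IH) (Lpe (f204233 IH) (Lpr_et (f700891 IH) (Lpn v13067)))))))))))
theorem f750426 : v16558 = v13067 :=
  (Llr Lrot5 (Lpe (f750413 IH) (Lpr_ft (f750422 IH) (Lpe (f750423 IH) (Lpr_gf (f746950 IH) (Lpn v13067)))))).symm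
theorem f632065 : Led Lsl_gt (LP (LK LD1_c4 LD2_c39 LD3_c10)) = (LP (LK LD1_c9 LD2_c14 LD3_c2)) :=
  Lre_g IH (LK LD1_c4 LD2_c39 LD3_c10) (LK LD1_c9 LD2_c14 LD3_c2) Lrfl Lrfl
theorem f645762 : Led Lsl_gt (LP (LK LD1_c9 LD2_c14 LD3_c2)) = (LP (LK LD1_c6 LD2_c2 LD3_c51)) :=
  Lgr Lrot46 (Lpe (f632065 IH) (Lpr_ft (K53.f645750 IH) (Lpr_at (K53.f501118 IH) (Lpn (LP (LK LD1_c6 LD2_c2 LD3_c51))))))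
theorem f750427 : Led Lsl_dt (LP (LK LD1_c11 LD2_c22 LD3_c8)) = (LP (LK LD1_c9 LD2_c14 LD3_c2)) :=
  Lgr Lrot171 (Lpe (f140598 IH) (Lpr_ef (K55.f741220 IH) (Lpe (f746956 IH) (Lpr_gf (f749780 IH) (Lpe (f204233 IH) (Lpr_et (f700891 IH) (Lpq (f750426 IH) (Lpe (f750413 IH) (Lpe (K53.f645458 IH) (Lpr_dt (K53.f645464 IH) (Lpe (f645762 IH) (Lpn (LP (LK LD1_c9 LD2_c14 LD3_c2))))))))))))))
theorem f750428 : Led Lsl_dt (LP (LK LD1_c11 LD2_c22 LD3_c8)) = (LP (LK LD1_c9 LD2_c14 LD3_c2)) :=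
  Leop (Lpe (f750427 IH) (Lpn (LP (LK LD1_c11 LD2_c22 LD3_c8))))
theorem seed_1040 : LEOK LG_d (LK LD1_c11 LD2_c22 LD3_c8) :=
  Leoe_d (LK LD1_c11 LD2_c22 LD3_c8) (f750428 IH)
def v15262 : LQ := Led Lsl_ct (LP (LK LD1_c5 LD2_c34 LD3_c43))
theorem f733199 : Led Lsl_ct (LP (LK LD1_c5 LD2_c34 LD3_c43)) = v15262 :=
  Lrfl
def v16585 : LQ := Led Lsl_et (LP (LK LD1_c6 LD2_c3 LD3_c1))
theorem f750538 : Led Lsl_et (LP (LK LD1_c6 LD2_c3 LD3_c1)) = v16585 :=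
  Lrfl
theorem f750540 : Led Lsl_ef (LP (LK LD1_c6 LD2_c3 LD3_c1)) = v16585 :=
  Lgr Lrot88 (Lpr_et (f750538 IH) (Lpn v16585))
theorem f179450 : Led Lsl_gt (LP (LK LD1_c5 LD2_c34 LD3_c44)) = (LP (LK LD1_c11 LD2_c1 LD3_c46)) :=
  Lre_g IH (LK LD1_c5 LD2_c34 LD3_c44) (LK LD1_c11 LD2_c1 LD3_c46) Lrfl Lrfl
theorem f750542 : Led Lsl_df (LP (LK LD1_c11 LD2_c1 LD3_c46)) = v16585 :=
  Lgr Lrot168 (Lpe (f179450 IH) (Lpe (K30.f179184 IH) (Lpr_et (K20.f179448 IH) (Lpe (K9.f168230 IH) (Lpe (K53.f179319 IH) (Lpr_dt (K52.f179320 IH) (Lpr_gf (K53.f639101 IH) (Lpe (K53.f639102 IH) (Lpr_gf (K53.f444660 IH) (Lpr_ef (f750540 IH) (Lpn v16585)))))))))))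
theorem f750543 : Led Lsl_dt (LP (LK LD1_c11 LD2_c1 LD3_c46)) = v16585 :=
  Lgr Lrot42 (Lpr_df (f750542 IH) (Lpn v16585))
theorem f179314 : Led Lsl_gt (LP (LK LD1_c5 LD2_c34 LD3_c43)) = (LP (LK LD1_c2 LD2_c43 LD3_c16)) :=
  Lre_g IH (LK LD1_c5 LD2_c34 LD3_c43) (LK LD1_c2 LD2_c43 LD3_c16) Lrfl Lrfl
theorem f750541 : Led Lsl_ct K50.v5096 = v16585 :=
  Lgr Lrot15 (Lpe (K50.f645918 IH) (Lpe (K49.f416150 IH) (Lpr_ef (f750540 IH) (Lpn v16585))))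
theorem f645921 : Led Lsl_dt K50.v4794 = K50.v5096 :=
  Lgr Lrot77 (Lpe (K50.f639037 IH) (Lpe (K50.f82919 IH) (Lpe (K0.f23856 IH) (Lpe (K35.f416151 IH) (Lpr_ef (K50.f645920 IH) (Lpn K50.v5096))))))
theorem f172586 : Led Lsl_dt (LP (LK LD1_c1 LD2_c20 LD3_c24)) = (LP (LK LD1_c2 LD2_c48 LD3_c26)) :=
  Lre_d IH (LK LD1_c1 LD2_c20 LD3_c24) (LK LD1_c2 LD2_c48 LD3_c26) Lrfl Lrfl
theorem f750544 : v15262 = (LP (LK LD1_c2 LD2_c48 LD3_c25)) :=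
  (Llr Lrot8 (Lpe (f733199 IH) (Lpr_gt (f179314 IH) (Lpr_dt (K30.f179184 IH) (Lpr_gt (f179450 IH) (Lpr_dt (f750543 IH) (Lpe (f750541 IH) (Lpe (f645921 IH) (Lpe (K50.f639036 IH) (Lpe (f172586 IH) (Lpe (K50.f172568 IH) (Lpn (LP (LK LD1_c2 LD2_c48 LD3_c25)))))))))))))).symm
theorem f750546 : Led Lsl_ct (LP (LK LD1_c5 LD2_c34 LD3_c43)) = (LP (LK LD1_c2 LD2_c48 LD3_c25)) :=
  Leop (Lpq (f750544 IH) (Lpe (f733199 IH) (Lpn (LP (LK LD1_c5 LD2_c34 LD3_c43)))))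
theorem seed_1041 : LEOK LG_c (LK LD1_c5 LD2_c34 LD3_c43) :=
  Leoe_c (LK LD1_c5 LD2_c34 LD3_c43) (f750546 IH)
def v15257 : LQ := Led Lsl_ct (LP (LK LD1_c5 LD2_c34 LD3_c42))
theorem f733187 : Led Lsl_ct (LP (LK LD1_c5 LD2_c34 LD3_c42)) = v15257 :=
  Lrfl
def v15255 : LQ := Led Lsl_at (LP (LK LD1_c5 LD2_c34 LD3_c42))
theorem f733180 : Led Lsl_at (LP (LK LD1_c5 LD2_c34 LD3_c42)) = v15255 :=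
  Lrfl
theorem f733181 : Led Lsl_af (LP (LK LD1_c5 LD2_c34 LD3_c42)) = v15255 :=
  Lgr Lrot0 (Lpr_at (f733180 IH) (Lpn v15255))
theorem f179442 : Led Lsl_gt (LP (LK LD1_c2 LD2_c43 LD3_c16)) = (LP (LK LD1_c5 LD2_c34 LD3_c42)) :=
  Lre_g IH (LK LD1_c2 LD2_c43 LD3_c16) (LK LD1_c5 LD2_c34 LD3_c42) Lrfl Lrfl
theorem f733182 : Led Lsl_ft (LP (LK LD1_c5 LD2_c34 LD3_c43)) = v15255 :=
  Lgr Lrot2 (Lpr_gt (f179314 IH) (Lpr_gt (f179442 IH) (Lpr_af (f733181 IH) (Lpn v15255))))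
theorem f733183 : Led Lsl_ff (LP (LK LD1_c5 LD2_c34 LD3_c43)) = v15255 :=
  Lgr Lrot3 (Lpr_ft (f733182 IH) (Lpn v15255))
theorem f750551 : Led Lsl_cf v15255 = K55.v4789 :=
  Lgr Lrot108 (Lpe (f733183 IH) (Lpr_ct (f733199 IH) (Lpqs (f750544 IH) (Lpr_ft (K55.f639020 IH) (Lpn K55.v4789)))))
theorem f750553 : v15257 = (LP (LK LD1_c2 LD2_c48 LD3_c24)) :=
  (Llr Lrot111 (Lpe (f733187 IH) (Lpr_af (f733181 IH) (Lpr_cf (f750551 IH) (Lpe (K55.f639017 IH) (Lpn (LP (LK LD1_c2 LD2_c48 LD3_c24)))))))).symm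
theorem f750555 : Led Lsl_ct (LP (LK LD1_c5 LD2_c34 LD3_c42)) = (LP (LK LD1_c2 LD2_c48 LD3_c24)) :=
  Leop (Lpq (f750553 IH) (Lpe (f733187 IH) (Lpn (LP (LK LD1_c5 LD2_c34 LD3_c42)))))
theorem seed_1042 : LEOK LG_c (LK LD1_c5 LD2_c34 LD3_c42) :=
  Leoe_c (LK LD1_c5 LD2_c34 LD3_c42) (f750555 IH)
theorem f733188 : Led Lsl_cf (LP (LK LD1_c5 LD2_c34 LD3_c42)) = v15257 :=
  Lgr Lrot11 (Lpr_ct (f733187 IH) (Lpn v15257))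
theorem f245635 : Led Lsl_bt (LP (LK LD1_c2 LD2_c48 LD3_c23)) = (LP (LK LD1_c1 LD2_c20 LD3_c24)) :=
  Lre_b IH (LK LD1_c2 LD2_c48 LD3_c23) (LK LD1_c1 LD2_c20 LD3_c24) Lrfl Lrfl
theorem f386197 : Led Lsl_ct (LP (LK LD1_c2 LD2_c48 LD3_c23)) = (LP (LK LD1_c5 LD2_c45 LD3_c12)) :=
  Lre_c IH (LK LD1_c2 LD2_c48 LD3_c23) (LK LD1_c5 LD2_c45 LD3_c12) Lrfl Lrfl
theorem f386234 : Led Lsl_gt (LP (LK LD1_c11 LD2_c20 LD3_c56)) = (LP (LK LD1_c5 LD2_c45 LD3_c12)) :=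
  Lre_g IH (LK LD1_c11 LD2_c20 LD3_c56) (LK LD1_c5 LD2_c45 LD3_c12) Lrfl Lrfl
theorem f639026 : Led Lsl_ct (LP (LK LD1_c20 LD2_c18 LD3_c38)) = (LP (LK LD1_c11 LD2_c20 LD3_c56)) :=
  Lre_c IH (LK LD1_c20 LD2_c18 LD3_c38) (LK LD1_c11 LD2_c20 LD3_c56) Lrfl Lrfl
def v12778 : LQ := Led Lsl_ft (LP (LK LD1_c4 LD2_c30 LD3_c38))
theorem f698138 : Led Lsl_ft (LP (LK LD1_c4 LD2_c30 LD3_c38)) = v12778 :=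
  Lrfl
theorem f698142 : Led Lsl_ff (LP (LK LD1_c4 LD2_c30 LD3_c38)) = v12778 :=
  Lgr Lrot3 (Lpr_ft (f698138 IH) (Lpn v12778))
def v4708 : LQ := Led Lsl_ft (LP (LK LD1_c2 LD2_c43 LD3_c16))
theorem f638594 : Led Lsl_ft (LP (LK LD1_c2 LD2_c43 LD3_c16)) = v4708 :=
  Lrfl
theorem f698144 : Led Lsl_at v4708 = v12778 :=
  Lgr Lrot66 (Lpe (f638594 IH) (Lpe (K20.f319322 IH) (Lpr_ff (f698142 IH) (Lpn v12778))))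
theorem f698148 : Led Lsl_gt (LP (LK LD1_c5 LD2_c34 LD3_c42)) = v12778 :=
  Lgr Lrot46 (Lpe (f179442 IH) (Lpr_ft (f638594 IH) (Lpr_at (f698144 IH) (Lpn v12778))))
theorem f418710 : Led Lsl_cf (LP (LK LD1_c2 LD2_c12 LD3_c32)) = (LP (LK LD1_c4 LD2_c30 LD3_c38)) :=
  Lgr Lrot11 (Lpr_ct (K20.f225168 IH) (Lpn (LP (LK LD1_c4 LD2_c30 LD3_c38))))
theorem f698145 : Led Lsl_ct (LP (LK LD1_c4 LD2_c31 LD3_c12)) = v12778 :=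
  Lgr Lrot40 (Lpe (K39.f319340 IH) (Lpr_cf (f418710 IH) (Lpr_ff (f698142 IH) (Lpn v12778))))
theorem f553724 : Led Lsl_dt (LP (LK LD1_c4 LD2_c31 LD3_c49)) = (LP (LK LD1_c6 LD2_c9 LD3_c9)) :=
  Lgr Lrot42 (Lpr_df (K39.f553720 IH) (Lpn (LP (LK LD1_c6 LD2_c9 LD3_c9))))
theorem f613430 : Led Lsl_at (LP (LK LD1_c6 LD2_c9 LD3_c9)) = (LP (LK LD1_c4 LD2_c31 LD3_c8)) :=
  Lgr Lrot51 (Lpe (f553724 IH) (Lpr_af (K52.f613425 IH) (Lpr_df (K39.f549360 IH) (Lpn (LP (LK LD1_c4 LD2_c31 LD3_c8))))))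
theorem f553550 : Led Lsl_et (LP (LK LD1_c11 LD2_c59 LD3_c25)) = (LP (LK LD1_c6 LD2_c9 LD3_c9)) :=
  Lre_e IH (LK LD1_c11 LD2_c59 LD3_c25) (LK LD1_c6 LD2_c9 LD3_c9) Lrfl Lrfl
theorem f354408 : Led Lsl_et (LP (LK LD1_c4 LD2_c31 LD3_c8)) = (LP (LK LD1_c9 LD2_c0 LD3_c18)) :=
  Lre_e IH (LK LD1_c4 LD2_c31 LD3_c8) (LK LD1_c9 LD2_c0 LD3_c18) Lrfl Lrfl
theorem f613540 : Led Lsl_af (LP (LK LD1_c11 LD2_c59 LD3_c25)) = (LP (LK LD1_c9 LD2_c0 LD3_c18)) :=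
  Lgr Lrot50 (Lpr_et (f553550 IH) (Lpr_at (f613430 IH) (Lpr_et (f354408 IH) (Lpn (LP (LK LD1_c9 LD2_c0 LD3_c18))))))
theorem f613542 : Led Lsl_at (LP (LK LD1_c11 LD2_c59 LD3_c25)) = (LP (LK LD1_c9 LD2_c0 LD3_c18)) :=
  Lgr Lrot100 (Lpr_af (f613540 IH) (Lpn (LP (LK LD1_c9 LD2_c0 LD3_c18))))
theorem f176754 : Led Lsl_ct (LP (LK LD1_c6 LD2_c9 LD3_c10)) = (LP (LK LD1_c11 LD2_c59 LD3_c25)) :=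
  Lre_c IH (LK LD1_c6 LD2_c9 LD3_c10) (LK LD1_c11 LD2_c59 LD3_c25) Lrfl Lrfl
theorem f418709 : Led Lsl_ct (LP (LK LD1_c9 LD2_c0 LD3_c18)) = (LP (LK LD1_c4 LD2_c31 LD3_c9)) :=
  Lre_c IH (LK LD1_c9 LD2_c0 LD3_c18) (LK LD1_c4 LD2_c31 LD3_c9) Lrfl Lrfl
theorem f613544 : Led Lsl_af (LP (LK LD1_c6 LD2_c9 LD3_c10)) = (LP (LK LD1_c4 LD2_c31 LD3_c9)) :=
  Lgr Lrot68 (Lpr_ct (f176754 IH) (Lpr_at (f613542 IH) (Lpr_ct (f418709 IH) (Lpn (LP (LK LD1_c4 LD2_c31 LD3_c9))))))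
theorem f176745 : Led Lsl_gt (LP (LK LD1_c11 LD2_c59 LD3_c27)) = (LP (LK LD1_c6 LD2_c9 LD3_c10)) :=
  Lre_g IH (LK LD1_c11 LD2_c59 LD3_c27) (LK LD1_c6 LD2_c9 LD3_c10) Lrfl Lrfl
theorem f354413 : Led Lsl_ft (LP (LK LD1_c9 LD2_c0 LD3_c21)) = (LP (LK LD1_c4 LD2_c31 LD3_c9)) :=
  Lre_f IH (LK LD1_c9 LD2_c0 LD3_c21) (LK LD1_c4 LD2_c31 LD3_c9) Lrfl Lrfl
theorem f613550 : Led Lsl_gf (LP (LK LD1_c11 LD2_c59 LD3_c27)) = (LP (LK LD1_c9 LD2_c0 LD3_c21)) :=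
  Lgr Lrot47 (Lpr_gt (f176745 IH) (Lpr_af (f613544 IH) (Lpe (f354413 IH) (Lpn (LP (LK LD1_c9 LD2_c0 LD3_c21))))))
theorem f750560 : Led Lsl_bt (LP (LK LD1_c20 LD2_c18 LD3_c38)) = (LP (LK LD1_c11 LD2_c59 LD3_c27)) :=
  Lgr Lrot92 (Lpr_ct (f639026 IH) (Lpr_gt (f386234 IH) (Lpe (f386197 IH) (Lpr_bt (f245635 IH) (Lpr_gt (K55.f172571 IH) (Lpq (f750553 IH) (Lpe (f733188 IH) (Lpr_gt (f698148 IH) (Lpe (f698145 IH) (Lpr_bt (K39.f319356 IH) (Lpe (f613550 IH) (Lpn (LP (LK LD1_c11 LD2_c59 LD3_c27))))))))))))))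
theorem f750561 : Led Lsl_bt (LP (LK LD1_c20 LD2_c18 LD3_c38)) = (LP (LK LD1_c11 LD2_c59 LD3_c27)) :=
  Leop (Lpe (f750560 IH) (Lpn (LP (LK LD1_c20 LD2_c18 LD3_c38))))
theorem seed_1043 : LEOK LG_b (LK LD1_c20 LD2_c18 LD3_c38) :=
  Leoe_b (LK LD1_c20 LD2_c18 LD3_c38) (f750561 IH)
def v16590 : LQ := Led Lsl_dt (LP (LK LD1_c6 LD2_c3 LD3_c5))
theorem f750610 : Led Lsl_dt (LP (LK LD1_c6 LD2_c3 LD3_c5)) = v16590 :=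
  Lrfl
def v12877 : LQ := Led Lsl_dt (LP (LK LD1_c4 LD2_c33 LD3_c49))
theorem f698755 : Led Lsl_dt (LP (LK LD1_c4 LD2_c33 LD3_c49)) = v12877 :=
  Lrfl
theorem f698758 : Led Lsl_df (LP (LK LD1_c4 LD2_c33 LD3_c49)) = v12877 :=
  Lgr Lrot38 (Lpr_dt (f698755 IH) (Lpn v12877))
theorem f750614 : Led Lsl_gf v12877 = v16590 :=
  Lgr Lrot143 (Lpe (f698758 IH) (Lpe (K24.f140941 IH) (Lpe (K32.f22932 IH) (Lpr_gf (K46.f501076 IH) (Lpe (K32.f501057 IH) (Lpe (K32.f501055 IH) (Lpe (K46.f415896 IH) (Lpr_gt (K50.f505573 IH) (Lpr_dt (f750610 IH) (Lpn v16590))))))))))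
def v4817 : LQ := Led Lsl_ft (LP (LK LD1_c2 LD2_c48 LD3_c43))
theorem f639147 : Led Lsl_ft (LP (LK LD1_c2 LD2_c48 LD3_c43)) = v4817 :=
  Lrfl
theorem f639150 : Led Lsl_ff (LP (LK LD1_c2 LD2_c48 LD3_c43)) = v4817 :=
  Lgr Lrot3 (Lpr_ft (f639147 IH) (Lpn v4817))
theorem f639152 : Led Lsl_ct K48.v1505 = v4817 :=
  Lgr Lrot40 (Lpe (K48.f495942 IH) (Lpe (K31.f140576 IH) (Lpr_ff (f639150 IH) (Lpn v4817))))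
theorem f639225 : v4817 = (LP (LK LD1_c4 LD2_c33 LD3_c49)) :=
  Lefun (Lecon (f639152 IH) (K48.f639217 IH)) (K24.f140941 IH)
theorem f698759 : Led Lsl_ff (LP (LK LD1_c5 LD2_c45 LD3_c56)) = v12877 :=
  Lgr Lrot19 (Lpr_dt (K31.f140262 IH) (Lpr_ft (f639147 IH) (Lpqs (f639225 IH) (Lpr_dt (f698755 IH) (Lpn v12877)))))
theorem f7523 : Led Lsl_dt (LP (LK LD1_c9 LD2_c32 LD3_c53)) = (LP (LK LD1_c4 LD2_c50 LD3_c16)) :=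
  Lre_d IH (LK LD1_c9 LD2_c32 LD3_c53) (LK LD1_c4 LD2_c50 LD3_c16) Lrfl Lrfl
theorem f639299 : Led Lsl_ff (LP (LK LD1_c9 LD2_c32 LD3_c53)) = (LP (LK LD1_c6 LD2_c47 LD3_c55)) :=
  Lgr Lrot19 (Lpr_dt (f7523 IH) (Lpr_ft (K48.f639293 IH) (Lpr_dt (K50.f84032 IH) (Lpn (LP (LK LD1_c6 LD2_c47 LD3_c55))))))
theorem f416160 : Led Lsl_dt (LP (LK LD1_c6 LD2_c47 LD3_c58)) = (LP (LK LD1_c3 LD2_c22 LD3_c10)) :=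
  Lre_d IH (LK LD1_c6 LD2_c47 LD3_c58) (LK LD1_c3 LD2_c22 LD3_c10) Lrfl Lrfl
theorem f415855 : Led Lsl_ct (LP (LK LD1_c6 LD2_c3 LD3_c20)) = (LP (LK LD1_c2 LD2_c57 LD3_c46)) :=
  Lre_c IH (LK LD1_c6 LD2_c3 LD3_c20) (LK LD1_c2 LD2_c57 LD3_c46) Lrfl Lrfl
theorem f415854 : Led Lsl_ct (LP (LK LD1_c2 LD2_c57 LD3_c46)) = (LP (LK LD1_c6 LD2_c3 LD3_c20)) :=
  Lre_c IH (LK LD1_c2 LD2_c57 LD3_c46) (LK LD1_c6 LD2_c3 LD3_c20) Lrfl Lrfl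
theorem f501080 : Led Lsl_gf (LP (LK LD1_c9 LD2_c32 LD3_c37)) = (LP (LK LD1_c6 LD2_c3 LD3_c20)) :=
  Lgr Lrot172 (Lpr_ct (K49.f146151 IH) (Lpr_dt (K32.f438689 IH) (Lpr_cf (K32.f501060 IH) (Lpe (K32.f501078 IH) (Lpr_cf (K24.f454831 IH) (Lpe (K24.f82719 IH) (Lpr_dt (K24.f82690 IH) (Lpe (K32.f415852 IH) (Lpr_ct (f415854 IH) (Lpn (LP (LK LD1_c6 LD2_c3 LD3_c20))))))))))))
theorem f505577 : Led Lsl_gf (LP (LK LD1_c6 LD2_c47 LD3_c58)) = (LP (LK LD1_c12 LD2_c58 LD3_c37)) :=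
  Lgr Lrot143 (Lpr_dt (f416160 IH) (Lpr_cf (K24.f454897 IH) (Lpe (K32.f83697 IH) (Lpe (K48.f505120 IH) (Lpr_df (K46.f505103 IH) (Lpr_gf (K46.f505550 IH) (Lpe (f415855 IH) (Lpe (f501080 IH) (Lpr_dt (K50.f503682 IH) (Lpn (LP (LK LD1_c12 LD2_c58 LD3_c37))))))))))))
theorem f639312 : Led Lsl_at (LP (LK LD1_c9 LD2_c32 LD3_c53)) = (LP (LK LD1_c6 LD2_c47 LD3_c58)) :=
  Lgr Lrot26 (Lpr_ff (f639299 IH) (Lpr_gt (K50.f84033 IH) (Lpe (f505577 IH) (Lpn (LP (LK LD1_c6 LD2_c47 LD3_c58))))))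
theorem f495933 : Led Lsl_ct (LP (LK LD1_c5 LD2_c45 LD3_c56)) = (LP (LK LD1_c9 LD2_c32 LD3_c53)) :=
  Lgr Lrot59 (Lpr_cf (K31.f495930 IH) (Lpn (LP (LK LD1_c9 LD2_c32 LD3_c53))))
theorem f639316 : Led Lsl_af (LP (LK LD1_c5 LD2_c45 LD3_c56)) = (LP (LK LD1_c9 LD2_c5 LD3_c3)) :=
  Lgr Lrot68 (Lpr_ct (f495933 IH) (Lpr_at (f639312 IH) (Lpe (K35.f631697 IH) (Lpn (LP (LK LD1_c9 LD2_c5 LD3_c3))))))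
theorem f639318 : Led Lsl_at (LP (LK LD1_c5 LD2_c45 LD3_c56)) = (LP (LK LD1_c9 LD2_c5 LD3_c3)) :=
  Lgr Lrot100 (Lpr_af (f639316 IH) (Lpn (LP (LK LD1_c9 LD2_c5 LD3_c3))))
def v4822 : LQ := Led Lsl_dt (LP (LK LD1_c2 LD2_c48 LD3_c47))
theorem f640468 : Led Lsl_dt (LP (LK LD1_c2 LD2_c48 LD3_c47)) = v4822 :=
  Lrfl
theorem f639143 : Led Lsl_ft (LP (LK LD1_c2 LD2_c48 LD3_c47)) = K50.v4816 :=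
  Lgr Lrot4 (Lpe (K51.f140609 IH) (Lpr_ff (K38.f495940 IH) (Lpr_cf (K50.f639141 IH) (Lpn K50.v4816))))
theorem f639144 : Led Lsl_ff (LP (LK LD1_c2 LD2_c48 LD3_c47)) = K50.v4816 :=
  Lgr Lrot3 (Lpr_ft (f639143 IH) (Lpn K50.v4816))
theorem f640470 : Led Lsl_ff (LP (LK LD1_c9 LD2_c5 LD3_c3)) = v4822 :=
  Lgr Lrot19 (Lpr_dt (K35.f140293 IH) (Lpq (K50.f639238 IH) (Lpe (f639144 IH) (Lpr_dt (f640468 IH) (Lpn v4822)))))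
theorem f640471 : Led Lsl_ft (LP (LK LD1_c9 LD2_c5 LD3_c3)) = v4822 :=
  Lgr Lrot48 (Lpr_ff (f640470 IH) (Lpn v4822))
theorem f698760 : Led Lsl_at v4822 = v12877 :=
  Lgr Lrot66 (Lpe (f640471 IH) (Lpe (f639318 IH) (Lpr_ff (f698759 IH) (Lpn v12877))))
theorem f750615 : Led Lsl_gt (LP (LK LD1_c9 LD2_c5 LD3_c3)) = v16590 :=
  Lgr Lrot5 (Lpr_ft (f640471 IH) (Lpr_at (f698760 IH) (Lpr_gf (f750614 IH) (Lpn v16590))))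
theorem f140277 : Led Lsl_dt (LP (LK LD1_c4 LD2_c33 LD3_c45)) = (LP (LK LD1_c9 LD2_c5 LD3_c3)) :=
  Lre_d IH (LK LD1_c4 LD2_c33 LD3_c45) (LK LD1_c9 LD2_c5 LD3_c3) Lrfl Lrfl
def v12723 : LQ := Led Lsl_gf (LP (LK LD1_c4 LD2_c29 LD3_c38))
theorem f697836 : Led Lsl_gf (LP (LK LD1_c4 LD2_c29 LD3_c38)) = v12723 :=
  Lrfl
theorem f505559 : Led Lsl_ef (LP (LK LD1_c5 LD2_c41 LD3_c10)) = (LP (LK LD1_c6 LD2_c3 LD3_c5)) :=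
  Lgr Lrot28 (Lpr_ct (K55.f225750 IH) (Lpr_et (K54.f505531 IH) (Lpr_ct (K50.f505552 IH) (Lpn (LP (LK LD1_c6 LD2_c3 LD3_c5))))))
theorem f750617 : v12723 = (LP (LK LD1_c5 LD2_c41 LD3_c10)) :=
  (Llr Lrot141 (Lpe (f697836 IH) (Lpe (K20.f173176 IH) (Lpr_dt (K12.f165009 IH) (Lpe (K9.f173161 IH) (Lpe (K9.f40753 IH) (Lpr_et (K1.f40971 IH) (Lpe (K32.f140275 IH) (Lpr_dt (f140277 IH) (Lpr_gt (f750615 IH) (Lpe (f750610 IH) (Lpe (f505559 IH) (Lpn (LP (LK LD1_c5 LD2_c41 LD3_c10))))))))))))))).symm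
theorem f750619 : Led Lsl_gt (LP (LK LD1_c5 LD2_c41 LD3_c10)) = (LP (LK LD1_c4 LD2_c29 LD3_c38)) :=
  Leop (Lpr_gf (f697836 IH) (Lpqs (f750617 IH) (Lpn (LP (LK LD1_c5 LD2_c41 LD3_c10)))))
theorem seed_1044 : LEOK LG_g (LK LD1_c5 LD2_c41 LD3_c10) :=
  Leoe_g (LK LD1_c5 LD2_c41 LD3_c10) (f750619 IH)
def v15532 : LQ := Led Lsl_ct (LP (LK LD1_c5 LD2_c41 LD3_c12))
theorem f737890 : Led Lsl_ct (LP (LK LD1_c5 LD2_c41 LD3_c12)) = v15532 :=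
  Lrfl
def v15525 : LQ := Led Lsl_gt (LP (LK LD1_c5 LD2_c41 LD3_c8))
theorem f737864 : Led Lsl_gt (LP (LK LD1_c5 LD2_c41 LD3_c8)) = v15525 :=
  Lrfl
theorem f697837 : Led Lsl_gt (LP (LK LD1_c5 LD2_c31 LD3_c54)) = v12723 :=
  Lgr Lrot5 (Lpr_ft (K20.f280934 IH) (Lpr_at (K51.f280951 IH) (Lpr_gf (f697836 IH) (Lpn v12723))))
theorem f698390 : Led Lsl_ft (LP (LK LD1_c5 LD2_c41 LD3_c8)) = K55.v12821 :=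
  Lgr Lrot48 (Lpr_ff (K55.f698388 IH) (Lpn K55.v12821))
theorem f698386 : Led Lsl_af (LP (LK LD1_c5 LD2_c41 LD3_c10)) = K55.v12821 :=
  Lgr Lrot68 (Lpr_ct (K55.f225750 IH) (Lpr_at (K55.f505613 IH) (Lpr_ct (K55.f698385 IH) (Lpn K55.v12821))))
theorem f737865 : Led Lsl_gf (LP (LK LD1_c5 LD2_c41 LD3_c10)) = v15525 :=
  Lgr Lrot76 (Lpr_af (f698386 IH) (Lpe (f698390 IH) (Lpr_gt (f737864 IH) (Lpn v15525))))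
theorem f750620 : (LP (LK LD1_c5 LD2_c31 LD3_c54)) = v15525 :=
  Lefun (Lecon (Lfl_gt (f697837 IH)) (f750617 IH)) (f737865 IH)
def v15599 : LQ := Led Lsl_ft (LP (LK LD1_c5 LD2_c43 LD3_c5))
theorem f738208 : Led Lsl_ft (LP (LK LD1_c5 LD2_c43 LD3_c5)) = v15599 :=
  Lrfl
theorem f738209 : Led Lsl_cf (LP (LK LD1_c5 LD2_c43 LD3_c6)) = v15599 :=
  Lgr Lrot108 (Lpr_ft (K55.f280938 IH) (Lpr_ct (K41.f268743 IH) (Lpr_ft (f738208 IH) (Lpn v15599))))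
theorem f750625 : Led Lsl_gt v15532 = v15599 :=
  Lgr Lrot150 (Lpe (f737890 IH) (Lpe (K54.f225442 IH) (Lpe (K54.f225431 IH) (Lpr_gt (K55.f171848 IH) (Lpr_ct (K55.f225743 IH) (Lpr_gt (f737864 IH) (Lpq (f750620 IH) (Lpr_ct (K20.f280922 IH) (Lpe (K16.f268789 IH) (Lpr_cf (f738209 IH) (Lpn v15599)))))))))))
theorem f280946 : Led Lsl_gt (LP (LK LD1_c11 LD2_c16 LD3_c27)) = (LP (LK LD1_c5 LD2_c43 LD3_c5)) :=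
  Lre_g IH (LK LD1_c11 LD2_c16 LD3_c27) (LK LD1_c5 LD2_c43 LD3_c5) Lrfl Lrfl
theorem f225766 : Led Lsl_ft (LP (LK LD1_c5 LD2_c41 LD3_c14)) = (LP (LK LD1_c2 LD2_c46 LD3_c38)) :=
  Lre_f IH (LK LD1_c5 LD2_c41 LD3_c14) (LK LD1_c2 LD2_c46 LD3_c38) Lrfl Lrfl
theorem f380081 : Led Lsl_gf (LP (LK LD1_c9 LD2_c1 LD3_c55)) = (LP (LK LD1_c5 LD2_c41 LD3_c14)) :=
  Lgr Lrot47 (Lpr_gt (K54.f177659 IH) (Lpr_af (K55.f379971 IH) (Lpe (f225766 IH) (Lpn (LP (LK LD1_c5 LD2_c41 LD3_c14))))))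
theorem f741300 : Led Lsl_cf (LP (LK LD1_c11 LD2_c16 LD3_c27)) = (LP (LK LD1_c9 LD2_c1 LD3_c55)) :=
  Lgr Lrot169 (Lpr_gt (f280946 IH) (Lpr_ct (K54.f268755 IH) (Lpe (K55.f174238 IH) (Lpe (K20.f280936 IH) (Lpe (K55.f173932 IH) (Lpqs (K55.f741250 IH) (Lpe (K55.f698385 IH) (Lpr_gf (K50.f380077 IH) (Lpe (K50.f225765 IH) (Lpe (f380081 IH) (Lpn (LP (LK LD1_c9 LD2_c1 LD3_c55)))))))))))))
theorem f737891 : Led Lsl_cf (LP (LK LD1_c5 LD2_c41 LD3_c12)) = v15532 :=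
  Lgr Lrot11 (Lpr_ct (f737890 IH) (Lpn v15532))
theorem f741306 : Led Lsl_ft (LP (LK LD1_c11 LD2_c16 LD3_c27)) = v15532 :=
  Lgr Lrot4 (Lpr_cf (f741300 IH) (Lpe (K54.f737557 IH) (Lpr_cf (f737891 IH) (Lpn v15532))))
theorem f741307 : Led Lsl_ff (LP (LK LD1_c11 LD2_c16 LD3_c27)) = v15532 :=
  Lgr Lrot3 (Lpr_ft (f741306 IH) (Lpn v15532))
theorem f737565 : Led Lsl_at (LP (LK LD1_c5 LD2_c41 LD3_c13)) = (LP (LK LD1_c9 LD2_c1 LD3_c55)) :=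
  Lgr Lrot100 (Lpr_af (K54.f737563 IH) (Lpn (LP (LK LD1_c9 LD2_c1 LD3_c55))))
def v15535 : LQ := Led Lsl_ct (LP (LK LD1_c5 LD2_c41 LD3_c13))
theorem f737902 : Led Lsl_ct (LP (LK LD1_c5 LD2_c41 LD3_c13)) = v15535 :=
  Lrfl
theorem f737903 : Led Lsl_cf (LP (LK LD1_c5 LD2_c41 LD3_c13)) = v15535 :=
  Lgr Lrot11 (Lpr_ct (f737902 IH) (Lpn v15535))
theorem f741302 : Led Lsl_at (LP (LK LD1_c11 LD2_c16 LD3_c27)) = v15535 :=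
  Lgr Lrot107 (Lpr_cf (f741300 IH) (Lpe (f737565 IH) (Lpr_cf (f737903 IH) (Lpn v15535))))
theorem f750626 : Led Lsl_gf v15535 = v15599 :=
  Lgr Lrot76 (Lpe (f741302 IH) (Lpr_ff (f741307 IH) (Lpr_gt (f750625 IH) (Lpn v15599))))
theorem f738210 : Led Lsl_ff (LP (LK LD1_c5 LD2_c43 LD3_c5)) = v15599 :=
  Lgr Lrot3 (Lpr_ft (f738208 IH) (Lpn v15599))
theorem f750627 : Led Lsl_gt v15535 = (LP (LK LD1_c9 LD2_c2 LD3_c55)) :=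
  Lgr Lrot46 (Lpr_gf (f750626 IH) (Lpe (f738210 IH) (Lpr_at (K41.f268745 IH) (Lpn (LP (LK LD1_c9 LD2_c2 LD3_c55))))))
theorem f379984 : Led Lsl_bt (LP (LK LD1_c16 LD2_c51 LD3_c49)) = (LP (LK LD1_c9 LD2_c1 LD3_c56)) :=
  Lre_b IH (LK LD1_c16 LD2_c51 LD3_c49) (LK LD1_c9 LD2_c1 LD3_c56) Lrfl Lrfl
theorem f13187 : Led Lsl_ft (LP (LK LD1_c14 LD2_c3 LD3_c61)) = (LP (LK LD1_c7 LD2_c26 LD3_c34)) :=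
  Lre_f IH (LK LD1_c14 LD2_c3 LD3_c61) (LK LD1_c7 LD2_c26 LD3_c34) Lrfl Lrfl
theorem f13188 : Led Lsl_ft (LP (LK LD1_c7 LD2_c21 LD3_c27)) = (LP (LK LD1_c13 LD2_c54 LD3_c35)) :=
  Lre_f IH (LK LD1_c7 LD2_c21 LD3_c27) (LK LD1_c13 LD2_c54 LD3_c35) Lrfl Lrfl
theorem f13189 : Led Lsl_af (LP (LK LD1_c14 LD2_c3 LD3_c61)) = (LP (LK LD1_c13 LD2_c54 LD3_c35)) :=
  Lgr Lrot45 (Lpr_ft (f13187 IH) (Lpr_at (K55.f13179 IH) (Lpr_ft (f13188 IH) (Lpn (LP (LK LD1_c13 LD2_c54 LD3_c35))))))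
theorem f13207 : Led Lsl_gt (LP (LK LD1_c7 LD2_c21 LD3_c27)) = (LP (LK LD1_c13 LD2_c54 LD3_c32)) :=
  Lre_g IH (LK LD1_c7 LD2_c21 LD3_c27) (LK LD1_c13 LD2_c54 LD3_c32) Lrfl Lrfl
theorem f13208 : Led Lsl_gf (LP (LK LD1_c14 LD2_c3 LD3_c61)) = (LP (LK LD1_c13 LD2_c54 LD3_c32)) :=
  Lgr Lrot76 (Lpr_af (f13189 IH) (Lpe (f13188 IH) (Lpr_gt (f13207 IH) (Lpn (LP (LK LD1_c13 LD2_c54 LD3_c32))))))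
theorem f13211 : Led Lsl_ct (LP (LK LD1_c23 LD2_c24 LD3_c42)) = (LP (LK LD1_c13 LD2_c54 LD3_c32)) :=
  Lre_c IH (LK LD1_c23 LD2_c24 LD3_c42) (LK LD1_c13 LD2_c54 LD3_c32) Lrfl Lrfl
theorem f268783 : Led Lsl_ct (LP (LK LD1_c4 LD2_c32 LD3_c45)) = (LP (LK LD1_c9 LD2_c2 LD3_c55)) :=
  Lre_c IH (LK LD1_c4 LD2_c32 LD3_c45) (LK LD1_c9 LD2_c2 LD3_c55) Lrfl Lrfl
theorem f412085 : Led Lsl_bt (LP (LK LD1_c4 LD2_c32 LD3_c45)) = (LP (LK LD1_c9 LD2_c2 LD3_c48)) :=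
  Lre_b IH (LK LD1_c4 LD2_c32 LD3_c45) (LK LD1_c9 LD2_c2 LD3_c48) Lrfl Lrfl
theorem f543903 : Led Lsl_gt (LP (LK LD1_c9 LD2_c2 LD3_c48)) = (LP (LK LD1_c16 LD2_c53 LD3_c24)) :=
  Lre_g IH (LK LD1_c9 LD2_c2 LD3_c48) (LK LD1_c16 LD2_c53 LD3_c24) Lrfl Lrfl
theorem f750629 : Led Lsl_bt (LP (LK LD1_c23 LD2_c24 LD3_c42)) = (LP (LK LD1_c16 LD2_c53 LD3_c24)) :=
  Lgr Lrot92 (Lpr_ct (f13211 IH) (Lpe (f13208 IH) (Lpe (K55.f613764 IH) (Lpr_bt (f379984 IH) (Lpr_gt (K54.f379980 IH) (Lpr_ct (f737902 IH) (Lpr_gt (f750627 IH) (Lpe (f268783 IH) (Lpr_bt (f412085 IH) (Lpr_gt (f543903 IH) (Lpn (LP (LK LD1_c16 LD2_c53 LD3_c24)))))))))))))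
theorem f750630 : Led Lsl_bt (LP (LK LD1_c23 LD2_c24 LD3_c42)) = (LP (LK LD1_c16 LD2_c53 LD3_c24)) :=
  Leop (Lpe (f750629 IH) (Lpn (LP (LK LD1_c23 LD2_c24 LD3_c42))))
theorem seed_1045 : LEOK LG_b (LK LD1_c23 LD2_c24 LD3_c42) :=
  Leoe_b (LK LD1_c23 LD2_c24 LD3_c42) (f750630 IH)
def v16632 : LQ := Led Lsl_dt (LP (LK LD1_c6 LD2_c3 LD3_c34))
theorem f750795 : Led Lsl_dt (LP (LK LD1_c6 LD2_c3 LD3_c34)) = v16632 :=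
  Lrfl
theorem f750796 : Led Lsl_df (LP (LK LD1_c6 LD2_c3 LD3_c34)) = v16632 :=
  Lgr Lrot38 (Lpr_dt (f750795 IH) (Lpn v16632))
theorem f175354 : Led Lsl_gt (LP (LK LD1_c6 LD2_c3 LD3_c34)) = (LP (LK LD1_c2 LD2_c57 LD3_c55)) :=
  Lre_g IH (LK LD1_c6 LD2_c3 LD3_c34) (LK LD1_c2 LD2_c57 LD3_c55) Lrfl Lrfl
theorem f23894 : Led Lsl_dt (LP (LK LD1_c4 LD2_c40 LD3_c4)) = (LP (LK LD1_c2 LD2_c17 LD3_c4)) :=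
  Lre_d IH (LK LD1_c4 LD2_c40 LD3_c4) (LK LD1_c2 LD2_c17 LD3_c4) Lrfl Lrfl
def v13114 : LQ := Led Lsl_et (LP (LK LD1_c4 LD2_c40 LD3_c4))
theorem f701179 : Led Lsl_et (LP (LK LD1_c4 LD2_c40 LD3_c4)) = v13114 :=
  Lrfl
theorem f750797 : Led Lsl_gt v13114 = v16632 :=
  Lgr Lrot137 (Lpe (f701179 IH) (Lpr_dt (f23894 IH) (Lpe (K0.f20110 IH) (Lpe (K0.f23814 IH) (Lpr_et (K16.f175355 IH) (Lpr_gf (K9.f175312 IH) (Lpe (K50.f175321 IH) (Lpe (K36.f175340 IH) (Lpe (f175354 IH) (Lpr_df (f750796 IH) (Lpn v16632)))))))))))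
theorem f701182 : Led Lsl_ef (LP (LK LD1_c4 LD2_c40 LD3_c4)) = v13114 :=
  Lgr Lrot88 (Lpr_et (f701179 IH) (Lpn v13114))
theorem f701184 : Led Lsl_dt (LP (LK LD1_c4 LD2_c49 LD3_c35)) = v13114 :=
  Lgr Lrot77 (Lpe (K49.f27103 IH) (Lpr_df (K0.f27062 IH) (Lpe (K46.f27079 IH) (Lpe (f23894 IH) (Lpr_ef (f701182 IH) (Lpn v13114))))))
theorem f180502 : Led Lsl_gt (LP (LK LD1_c9 LD2_c31 LD3_c51)) = (LP (LK LD1_c4 LD2_c49 LD3_c35)) :=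
  Lre_g IH (LK LD1_c9 LD2_c31 LD3_c51) (LK LD1_c4 LD2_c49 LD3_c35) Lrfl Lrfl
theorem f507526 : Led Lsl_et (LP (LK LD1_c5 LD2_c49 LD3_c56)) = (LP (LK LD1_c9 LD2_c13 LD3_c9)) :=
  Lgr Lrot87 (Lpr_ef (K50.f507524 IH) (Lpn (LP (LK LD1_c9 LD2_c13 LD3_c9))))
theorem f699462 : Led Lsl_af (LP (LK LD1_c5 LD2_c49 LD3_c56)) = K50.v12906 :=
  Lgr Lrot50 (Lpr_et (f507526 IH) (Lpr_at (K51.f639577 IH) (Lpr_et (K50.f699461 IH) (Lpn K50.v12906))))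
theorem f699486 : Led Lsl_ff K50.v12906 = (LP (LK LD1_c5 LD2_c49 LD3_c55)) :=
  Lgr Lrot30 (Lpe (f699462 IH) (Lpe (K50.f699479 IH) (Lpr_at (K50.f699481 IH) (Lpn (LP (LK LD1_c5 LD2_c49 LD3_c55))))))
theorem f421672 : Led Lsl_et (LP (LK LD1_c4 LD2_c49 LD3_c32)) = (LP (LK LD1_c2 LD2_c22 LD3_c32)) :=
  Lre_e IH (LK LD1_c4 LD2_c49 LD3_c32) (LK LD1_c2 LD2_c22 LD3_c32) Lrfl Lrfl
theorem f699463 : Led Lsl_df (LP (LK LD1_c4 LD2_c49 LD3_c32)) = K50.v12906 :=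
  Lgr Lrot70 (Lpr_et (f421672 IH) (Lpr_dt (K24.f73939 IH) (Lpr_et (K50.f506744 IH) (Lpe (K50.f507533 IH) (Lpr_et (K50.f699461 IH) (Lpn K50.v12906))))))
theorem f699488 : Led Lsl_dt (LP (LK LD1_c9 LD2_c31 LD3_c46)) = (LP (LK LD1_c5 LD2_c49 LD3_c55)) :=
  Lgr Lrot60 (Lpe (K50.f634221 IH) (Lpr_df (f699463 IH) (Lpr_ff (f699486 IH) (Lpn (LP (LK LD1_c5 LD2_c49 LD3_c55))))))
theorem f639949 : Led Lsl_af (LP (LK LD1_c4 LD2_c49 LD3_c35)) = (LP (LK LD1_c3 LD2_c21 LD3_c6)) :=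
  Lgr Lrot0 (Lpr_at (K50.f639945 IH) (Lpn (LP (LK LD1_c3 LD2_c21 LD3_c6))))
theorem f639960 : Led Lsl_gf (LP (LK LD1_c9 LD2_c31 LD3_c51)) = (LP (LK LD1_c6 LD2_c46 LD3_c6)) :=
  Lgr Lrot47 (Lpr_gt (f180502 IH) (Lpr_af (f639949 IH) (Lpe (K50.f509452 IH) (Lpn (LP (LK LD1_c6 LD2_c46 LD3_c6))))))
theorem f176040 : Led Lsl_gt (LP (LK LD1_c6 LD2_c8 LD3_c18)) = (LP (LK LD1_c3 LD2_c0 LD3_c22)) :=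
  Lre_g IH (LK LD1_c6 LD2_c8 LD3_c18) (LK LD1_c3 LD2_c0 LD3_c22) Lrfl Lrfl
theorem f699491 : Led Lsl_dt (LP (LK LD1_c9 LD2_c31 LD3_c51)) = (LP (LK LD1_c6 LD2_c8 LD3_c18)) :=
  Lgr Lrot171 (Lpr_gf (f639960 IH) (Lpr_ef (K50.f639537 IH) (Lpr_dt (f699488 IH) (Lpe (K50.f186324 IH) (Lpe (K37.f186122 IH) (Lpr_et (K37.f186121 IH) (Lpr_gf (K11.f186322 IH) (Lpe (K36.f175912 IH) (Lpe (K36.f176037 IH) (Lpe (f176040 IH) (Lpn (LP (LK LD1_c6 LD2_c8 LD3_c18)))))))))))))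
theorem f691538 : Led Lsl_gf (LP (LK LD1_c6 LD2_c8 LD3_c18)) = K49.v12331 :=
  Lgr Lrot47 (Lpr_gt (f176040 IH) (Lpe (K49.f412408 IH) (Lpr_ff (K49.f691523 IH) (Lpn K49.v12331))))
theorem f285151 : Led Lsl_af (LP (LK LD1_c9 LD2_c14 LD3_c25)) = (LP (LK LD1_c6 LD2_c3 LD3_c47)) :=
  Lgr Lrot0 (Lpr_at (K39.f285146 IH) (Lpn (LP (LK LD1_c6 LD2_c3 LD3_c47))))
theorem f186202 : Led Lsl_ft (LP (LK LD1_c2 LD2_c57 LD3_c60)) = (LP (LK LD1_c6 LD2_c3 LD3_c47)) :=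
  Lre_f IH (LK LD1_c2 LD2_c57 LD3_c60) (LK LD1_c6 LD2_c3 LD3_c47) Lrfl Lrfl
theorem f175805 : Led Lsl_gt (LP (LK LD1_c2 LD2_c57 LD3_c60)) = (LP (LK LD1_c6 LD2_c3 LD3_c45)) :=
  Lre_g IH (LK LD1_c2 LD2_c57 LD3_c60) (LK LD1_c6 LD2_c3 LD3_c45) Lrfl Lrfl
theorem f285336 : Led Lsl_gf (LP (LK LD1_c9 LD2_c14 LD3_c25)) = (LP (LK LD1_c6 LD2_c3 LD3_c45)) :=
  Lgr Lrot76 (Lpr_af (f285151 IH) (Lpe (f186202 IH) (Lpr_gt (f175805 IH) (Lpn (LP (LK LD1_c6 LD2_c3 LD3_c45))))))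
theorem f699496 : Led Lsl_et (LP (LK LD1_c9 LD2_c31 LD3_c51)) = (LP (LK LD1_c6 LD2_c3 LD3_c45)) :=
  Lgr Lrot121 (Lpr_dt (f699491 IH) (Lpr_gf (f691538 IH) (Lpe (K49.f691536 IH) (Lpr_et (K36.f268278 IH) (Lpe (K55.f268354 IH) (Lpe (K55.f186208 IH) (Lpr_dt (K55.f186209 IH) (Lpe (K55.f285140 IH) (Lpe (K39.f285162 IH) (Lpr_gf (f285336 IH) (Lpn (LP (LK LD1_c6 LD2_c3 LD3_c45)))))))))))))
theorem f699499 : Led Lsl_ef (LP (LK LD1_c9 LD2_c31 LD3_c51)) = (LP (LK LD1_c6 LD2_c3 LD3_c45)) :=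
  Lgr Lrot88 (Lpr_et (f699496 IH) (Lpn (LP (LK LD1_c6 LD2_c3 LD3_c45))))
theorem f175806 : Led Lsl_dt (LP (LK LD1_c6 LD2_c3 LD3_c45)) = (LP (LK LD1_c11 LD2_c51 LD3_c4)) :=
  Lre_d IH (LK LD1_c6 LD2_c3 LD3_c45) (LK LD1_c11 LD2_c51 LD3_c4) Lrfl Lrfl
theorem f180482 : Led Lsl_df (LP (LK LD1_c10 LD2_c3 LD3_c5)) = (LP (LK LD1_c11 LD2_c22 LD3_c46)) :=
  Lgr Lrot38 (Lpr_dt (K17.f180473 IH) (Lpn (LP (LK LD1_c11 LD2_c22 LD3_c46))))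
theorem f699501 : Led Lsl_gt (LP (LK LD1_c10 LD2_c3 LD3_c5)) = (LP (LK LD1_c11 LD2_c51 LD3_c4)) :=
  Lgr Lrot139 (Lpr_df (f180482 IH) (Lpe (K17.f180486 IH) (Lpe (K17.f180330 IH) (Lpr_dt (K17.f180322 IH) (Lpr_gf (K17.f180494 IH) (Lpe (K17.f27101 IH) (Lpr_et (K49.f27103 IH) (Lpe (f180502 IH) (Lpr_ef (f699499 IH) (Lpr_dt (f175806 IH) (Lpn (LP (LK LD1_c11 LD2_c51 LD3_c4)))))))))))))
theorem f750800 : Led Lsl_ef (LP (LK LD1_c11 LD2_c22 LD3_c44)) = (LP (LK LD1_c6 LD2_c3 LD3_c34)) :=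
  Lgr Lrot114 (Lpr_gt (K55.f180507 IH) (Lpe (K17.f26996 IH) (Lpe (f180482 IH) (Lpr_gt (f699501 IH) (Lpe (f175806 IH) (Lpe (f699499 IH) (Lpr_gt (f180502 IH) (Lpr_dt (f701184 IH) (Lpr_gt (f750797 IH) (Lpe (f750795 IH) (Lpn (LP (LK LD1_c6 LD2_c3 LD3_c34)))))))))))))
theorem f750801 : Led Lsl_et (LP (LK LD1_c6 LD2_c3 LD3_c34)) = (LP (LK LD1_c11 LD2_c22 LD3_c44)) :=
  Leop (Lpr_ef (f750800 IH) (Lpn (LP (LK LD1_c6 LD2_c3 LD3_c34))))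
theorem seed_1046 : LEOK LG_e (LK LD1_c6 LD2_c3 LD3_c34) :=
  Leoe_e (LK LD1_c6 LD2_c3 LD3_c34) (f750801 IH)
def v16676 : LQ := Led Lsl_gf (LP (LK LD1_c6 LD2_c4 LD3_c13))
theorem f750940 : Led Lsl_gf (LP (LK LD1_c6 LD2_c4 LD3_c13)) = v16676 :=
  Lrfl
def v16675 : LQ := Led Lsl_gt (LP (LK LD1_c6 LD2_c4 LD3_c13))
theorem f750930 : Led Lsl_gt (LP (LK LD1_c6 LD2_c4 LD3_c13)) = v16675 :=
  Lrfl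
theorem f176699 : Led Lsl_et (LP (LK LD1_c4 LD2_c39 LD3_c27)) = (LP (LK LD1_c9 LD2_c14 LD3_c36)) :=
  Lre_e IH (LK LD1_c4 LD2_c39 LD3_c27) (LK LD1_c9 LD2_c14 LD3_c36) Lrfl Lrfl
theorem f186158 : Led Lsl_et (LP (LK LD1_c6 LD2_c3 LD3_c58)) = (LP (LK LD1_c2 LD2_c58 LD3_c3)) :=
  Lre_e IH (LK LD1_c6 LD2_c3 LD3_c58) (LK LD1_c2 LD2_c58 LD3_c3) Lrfl Lrfl
theorem f334696 : Led Lsl_at (LP (LK LD1_c9 LD2_c14 LD3_c36)) = (LP (LK LD1_c6 LD2_c3 LD3_c58)) :=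
  Lgr Lrot80 (Lpe (f176699 IH) (Lpr_af (K36.f334689 IH) (Lpe (f186158 IH) (Lpn (LP (LK LD1_c6 LD2_c3 LD3_c58))))))
theorem f176520 : Led Lsl_et (LP (LK LD1_c9 LD2_c14 LD3_c36)) = (LP (LK LD1_c4 LD2_c39 LD3_c27)) :=
  Lre_e IH (LK LD1_c9 LD2_c14 LD3_c36) (LK LD1_c4 LD2_c39 LD3_c27) Lrfl Lrfl
theorem f176521 : Led Lsl_et (LP (LK LD1_c2 LD2_c27 LD3_c57)) = (LP (LK LD1_c5 LD2_c0 LD3_c26)) :=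
  Lre_e IH (LK LD1_c2 LD2_c27 LD3_c57) (LK LD1_c5 LD2_c0 LD3_c26) Lrfl Lrfl
theorem f176522 : Led Lsl_cf (LP (LK LD1_c9 LD2_c14 LD3_c36)) = (LP (LK LD1_c5 LD2_c0 LD3_c26)) :=
  Lgr Lrot39 (Lpr_et (f176520 IH) (Lpr_ct (K9.f176126 IH) (Lpr_et (f176521 IH) (Lpn (LP (LK LD1_c5 LD2_c0 LD3_c26))))))
theorem f176870 : Led Lsl_et (LP (LK LD1_c2 LD2_c58 LD3_c14)) = (LP (LK LD1_c6 LD2_c4 LD3_c13)) :=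
  Lre_e IH (LK LD1_c2 LD2_c58 LD3_c14) (LK LD1_c6 LD2_c4 LD3_c13) Lrfl Lrfl
theorem f186159 : Led Lsl_ct (LP (LK LD1_c6 LD2_c4 LD3_c13)) = (LP (LK LD1_c6 LD2_c3 LD3_c58)) :=
  Lgr Lrot15 (Lpe (f176870 IH) (Lpr_cf (K11.f186150 IH) (Lpe (f186158 IH) (Lpn (LP (LK LD1_c6 LD2_c3 LD3_c58))))))
theorem f186317 : Led Lsl_cf (LP (LK LD1_c6 LD2_c4 LD3_c13)) = (LP (LK LD1_c6 LD2_c3 LD3_c58)) :=
  Lgr Lrot11 (Lpr_ct (f186159 IH) (Lpn (LP (LK LD1_c6 LD2_c3 LD3_c58))))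
theorem f334700 : Led Lsl_af (LP (LK LD1_c5 LD2_c0 LD3_c26)) = (LP (LK LD1_c6 LD2_c4 LD3_c13)) :=
  Lgr Lrot68 (Lpe (f176522 IH) (Lpr_at (f334696 IH) (Lpe (f186317 IH) (Lpn (LP (LK LD1_c6 LD2_c4 LD3_c13))))))
theorem f334702 : Led Lsl_at (LP (LK LD1_c5 LD2_c0 LD3_c26)) = (LP (LK LD1_c6 LD2_c4 LD3_c13)) :=
  Lgr Lrot100 (Lpr_af (f334700 IH) (Lpn (LP (LK LD1_c6 LD2_c4 LD3_c13))))
theorem f613546 : Led Lsl_dt (LP (LK LD1_c6 LD2_c4 LD3_c13)) = (LP (LK LD1_c4 LD2_c31 LD3_c9)) :=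
  Lgr Lrot44 (Lpe (f334702 IH) (Lpe (K36.f176733 IH) (Lpr_af (f613544 IH) (Lpn (LP (LK LD1_c4 LD2_c31 LD3_c9))))))
theorem f613558 : Led Lsl_df (LP (LK LD1_c6 LD2_c4 LD3_c13)) = (LP (LK LD1_c4 LD2_c31 LD3_c9)) :=
  Lgr Lrot38 (Lpr_dt (f613546 IH) (Lpn (LP (LK LD1_c4 LD2_c31 LD3_c9))))
theorem f354412 : Led Lsl_et (LP (LK LD1_c4 LD2_c31 LD3_c9)) = (LP (LK LD1_c2 LD2_c12 LD3_c31)) :=
  Lre_e IH (LK LD1_c4 LD2_c31 LD3_c9) (LK LD1_c2 LD2_c12 LD3_c31) Lrfl Lrfl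
theorem f494062 : Led Lsl_et (LP (LK LD1_c9 LD2_c0 LD3_c15)) = (LP (LK LD1_c4 LD2_c31 LD3_c7)) :=
  Lre_e IH (LK LD1_c9 LD2_c0 LD3_c15) (LK LD1_c4 LD2_c31 LD3_c7) Lrfl Lrfl
theorem f58882 : Led Lsl_bt (LP (LK LD1_c4 LD2_c33 LD3_c60)) = (LP (LK LD1_c9 LD2_c5 LD3_c28)) :=
  Lre_b IH (LK LD1_c4 LD2_c33 LD3_c60) (LK LD1_c9 LD2_c5 LD3_c28) Lrfl Lrfl
theorem f555978 : Led Lsl_df (LP (LK LD1_c4 LD2_c33 LD3_c60)) = (LP (LK LD1_c9 LD2_c0 LD3_c15)) :=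
  Lgr Lrot12 (Lpr_bt (f58882 IH) (Lpr_dt (K50.f555976 IH) (Lpr_bt (K51.f382433 IH) (Lpn (LP (LK LD1_c9 LD2_c0 LD3_c15))))))
def v12886 : LQ := Led Lsl_gf (LP (LK LD1_c4 LD2_c33 LD3_c60))
theorem f698830 : Led Lsl_gf (LP (LK LD1_c4 LD2_c33 LD3_c60)) = v12886 :=
  Lrfl
theorem f495296 : Led Lsl_at (LP (LK LD1_c5 LD2_c0 LD3_c9)) = (LP (LK LD1_c2 LD2_c27 LD3_c50)) :=
  Lre_a IH (LK LD1_c5 LD2_c0 LD3_c9) (LK LD1_c2 LD2_c27 LD3_c50) Lrfl Lrfl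
theorem f633891 : Led Lsl_ft (LP (LK LD1_c8 LD2_c0 LD3_c57)) = (LP (LK LD1_c5 LD2_c0 LD3_c9)) :=
  Lgr Lrot101 (Lpe (K53.f629282 IH) (Lpr_ff (K53.f633889 IH) (Lpe (f495296 IH) (Lpn (LP (LK LD1_c5 LD2_c0 LD3_c9))))))
theorem f636098 : Led Lsl_gt (LP (LK LD1_c8 LD2_c0 LD3_c57)) = K51.v4553 :=
  Lgr Lrot5 (Lpr_ft (f633891 IH) (Lpr_at (f495296 IH) (Lpr_gf (K51.f636097 IH) (Lpn K51.v4553))))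
theorem f707132 : (LP (LK LD1_c8 LD2_c0 LD3_c57)) = v12886 :=
  Lefun (Lecon (Lfl_gt (f636098 IH)) (K51.f707129 IH)) (f698830 IH)
theorem f171842 : Led Lsl_at (LP (LK LD1_c8 LD2_c0 LD3_c58)) = (LP (LK LD1_c15 LD2_c5 LD3_c41)) :=
  Lre_a IH (LK LD1_c8 LD2_c0 LD3_c58) (LK LD1_c15 LD2_c5 LD3_c41) Lrfl Lrfl
theorem f633881 : Led Lsl_gf (LP (LK LD1_c15 LD2_c5 LD3_c41)) = (LP (LK LD1_c9 LD2_c50 LD3_c55)) :=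
  Lgr Lrot76 (Lpe (f171842 IH) (Lpr_ff (K53.f633825 IH) (Lpr_gt (K55.f633880 IH) (Lpn (LP (LK LD1_c9 LD2_c50 LD3_c55))))))
theorem f750933 : Led Lsl_dt (LP (LK LD1_c12 LD2_c56 LD3_c43)) = v16675 :=
  Lgr Lrot37 (Lpe (K55.f745060 IH) (Lpe (f633881 IH) (Lpr_dt (K53.f633883 IH) (Lpqs (f707132 IH) (Lpe (f698830 IH) (Lpr_df (f555978 IH) (Lpr_et (f494062 IH) (Lpr_gt (K30.f382420 IH) (Lpe (f354412 IH) (Lpe (f613558 IH) (Lpr_gt (f750930 IH) (Lpn v16675))))))))))))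
def v16055 : LQ := Led Lsl_dt (LP (LK LD1_c5 LD2_c52 LD3_c4))
theorem f745050 : Led Lsl_dt (LP (LK LD1_c5 LD2_c52 LD3_c4)) = v16055 :=
  Lrfl
theorem f745051 : Led Lsl_df (LP (LK LD1_c5 LD2_c52 LD3_c4)) = v16055 :=
  Lgr Lrot38 (Lpr_dt (f745050 IH) (Lpn v16055))
theorem f750935 : Led Lsl_ef v16055 = v16675 :=
  Lgr Lrot73 (Lpe (f745051 IH) (Lpr_et (K55.f745052 IH) (Lpe (K55.f745054 IH) (Lpr_et (K55.f745057 IH) (Lpr_dt (f750933 IH) (Lpn v16675))))))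
def v16102 : LQ := Led Lsl_ft (LP (LK LD1_c5 LD2_c52 LD3_c25))
theorem f746053 : Led Lsl_ft (LP (LK LD1_c5 LD2_c52 LD3_c25)) = v16102 :=
  Lrfl
theorem f746056 : Led Lsl_ff (LP (LK LD1_c5 LD2_c52 LD3_c25)) = v16102 :=
  Lgr Lrot3 (Lpr_ft (f746053 IH) (Lpn v16102))
theorem f599773 : Led Lsl_dt (LP (LK LD1_c5 LD2_c52 LD3_c25)) = (LP (LK LD1_c2 LD2_c52 LD3_c30)) :=
  Lre_d IH (LK LD1_c5 LD2_c52 LD3_c25) (LK LD1_c2 LD2_c52 LD3_c30) Lrfl Lrfl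
theorem f746058 : Led Lsl_dt K55.v4905 = v16102 :=
  Lgr Lrot60 (Lpe (K55.f640844 IH) (Lpe (f599773 IH) (Lpr_ff (f746056 IH) (Lpn v16102))))
theorem f746125 : v16102 = v16055 :=
  Lefun (Lecon (f746058 IH) (K55.f746117 IH).symm) (f745050 IH)
def v16099 : LQ := Led Lsl_at (LP (LK LD1_c5 LD2_c52 LD3_c25))
theorem f746040 : Led Lsl_at (LP (LK LD1_c5 LD2_c52 LD3_c25)) = v16099 :=
  Lrfl
theorem f746041 : Led Lsl_af (LP (LK LD1_c5 LD2_c52 LD3_c25)) = v16099 :=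
  Lgr Lrot0 (Lpr_at (f746040 IH) (Lpn v16099))
theorem f22732 : Led Lsl_dt (LP (LK LD1_c2 LD2_c52 LD3_c30)) = (LP (LK LD1_c5 LD2_c52 LD3_c25)) :=
  Lre_d IH (LK LD1_c2 LD2_c52 LD3_c30) (LK LD1_c5 LD2_c52 LD3_c25) Lrfl Lrfl
theorem f746042 : Led Lsl_df K55.v4904 = v16099 :=
  Lgr Lrot18 (Lpe (K55.f640838 IH) (Lpr_dt (f22732 IH) (Lpr_at (f746040 IH) (Lpn v16099))))
theorem f436227 : Led Lsl_dt (LP (LK LD1_c2 LD2_c52 LD3_c31)) = (LP (LK LD1_c5 LD2_c52 LD3_c29)) :=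
  Lre_d IH (LK LD1_c2 LD2_c52 LD3_c31) (LK LD1_c5 LD2_c52 LD3_c29) Lrfl Lrfl
theorem f746044 : Led Lsl_ft (LP (LK LD1_c5 LD2_c52 LD3_c29)) = v16099 :=
  Lgr Lrot54 (Lpe (f436227 IH) (Lpr_ff (K55.f640842 IH) (Lpr_df (f746042 IH) (Lpn v16099))))
theorem f746054 : Led Lsl_af (LP (LK LD1_c5 LD2_c52 LD3_c29)) = v16102 :=
  Lgr Lrot45 (Lpr_ft (f746044 IH) (Lpe (f746041 IH) (Lpr_ft (f746053 IH) (Lpn v16102))))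
theorem f501229 : Led Lsl_df (LP (LK LD1_c2 LD2_c45 LD3_c11)) = K40.v1742 :=
  Lgr Lrot38 (Lpr_dt (K45.f501227 IH) (Lpn K40.v1742))
theorem f176735 : Led Lsl_gt (LP (LK LD1_c5 LD2_c0 LD3_c26)) = (LP (LK LD1_c9 LD2_c51 LD3_c13)) :=
  Lre_g IH (LK LD1_c5 LD2_c0 LD3_c26) (LK LD1_c9 LD2_c51 LD3_c13) Lrfl Lrfl
theorem f500298 : Led Lsl_et (LP (LK LD1_c2 LD2_c52 LD3_c32)) = (LP (LK LD1_c1 LD2_c22 LD3_c20)) :=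
  Lre_e IH (LK LD1_c2 LD2_c52 LD3_c32) (LK LD1_c1 LD2_c22 LD3_c20) Lrfl Lrfl
theorem f598762 : Led Lsl_dt (LP (LK LD1_c5 LD2_c52 LD3_c29)) = (LP (LK LD1_c2 LD2_c52 LD3_c31)) :=
  Lre_d IH (LK LD1_c5 LD2_c52 LD3_c29) (LK LD1_c2 LD2_c52 LD3_c31) Lrfl Lrfl
theorem f622520 : Led Lsl_ef (LP (LK LD1_c9 LD2_c51 LD3_c13)) = (LP (LK LD1_c5 LD2_c52 LD3_c29)) :=
  Lgr Lrot17 (Lpe (f176735 IH) (Lpe (f176521 IH) (Lpe (K10.f176718 IH) (Lpr_gf (K12.f211730 IH) (Lpr_df (f501229 IH) (Lpqs (K40.f537736 IH) (Lpe (K35.f452779 IH) (Lpe (f500298 IH) (Lpr_dt (K55.f22598 IH) (Lpe (K55.f22540 IH) (Lpe (f598762 IH) (Lpn (LP (LK LD1_c5 LD2_c52 LD3_c29))))))))))))))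
theorem f750939 : Led Lsl_at (LP (LK LD1_c9 LD2_c51 LD3_c13)) = v16675 :=
  Lgr Lrot80 (Lpr_ef (f622520 IH) (Lpr_af (f746054 IH) (Lpqs (f746125 IH) (Lpr_ef (f750935 IH) (Lpn v16675)))))
theorem f750942 : Led Lsl_ff (LP (LK LD1_c9 LD2_c51 LD3_c13)) = v16676 :=
  Lgr Lrot52 (Lpr_at (f750939 IH) (Lpe (f750930 IH) (Lpr_gf (f750940 IH) (Lpn v16676))))
theorem f720035 : Led Lsl_df (LP (LK LD1_c12 LD2_c58 LD3_c8)) = (LP (LK LD1_c9 LD2_c51 LD3_c13)) :=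
  Lgr Lrot70 (Lpr_et (K55.f720032 IH) (Lpr_dt (K53.f622523 IH) (Lpr_et (K55.f163568 IH) (Lpr_dt (f436227 IH) (Lpe (f622520 IH) (Lpn (LP (LK LD1_c9 LD2_c51 LD3_c13))))))))
theorem f746449 : Led Lsl_ff (LP (LK LD1_c12 LD2_c56 LD3_c44)) = (LP (LK LD1_c12 LD2_c58 LD3_c8)) :=
  Lgr Lrot3 (Lpr_ft (K55.f746447 IH) (Lpn (LP (LK LD1_c12 LD2_c58 LD3_c8))))
theorem f750944 : Led Lsl_dt (LP (LK LD1_c12 LD2_c56 LD3_c44)) = v16676 :=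
  Lgr Lrot60 (Lpr_ff (f746449 IH) (Lpr_df (f720035 IH) (Lpr_ff (f750942 IH) (Lpn v16676))))
theorem f176752 : Led Lsl_ft (LP (LK LD1_c9 LD2_c51 LD3_c14)) = (LP (LK LD1_c5 LD2_c0 LD3_c26)) :=
  Lre_f IH (LK LD1_c9 LD2_c51 LD3_c14) (LK LD1_c5 LD2_c0 LD3_c26) Lrfl Lrfl
theorem f750941 : Led Lsl_gt (LP (LK LD1_c9 LD2_c51 LD3_c14)) = v16676 :=
  Lgr Lrot5 (Lpr_ft (f176752 IH) (Lpr_at (f334702 IH) (Lpr_gf (f750940 IH) (Lpn v16676))))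
theorem f176740 : Led Lsl_ft (LP (LK LD1_c11 LD2_c59 LD3_c28)) = (LP (LK LD1_c6 LD2_c9 LD3_c10)) :=
  Lre_f IH (LK LD1_c11 LD2_c59 LD3_c28) (LK LD1_c6 LD2_c9 LD3_c10) Lrfl Lrfl
theorem f176741 : Led Lsl_ft (LP (LK LD1_c5 LD2_c0 LD3_c26)) = (LP (LK LD1_c9 LD2_c51 LD3_c14)) :=
  Lre_f IH (LK LD1_c5 LD2_c0 LD3_c26) (LK LD1_c9 LD2_c51 LD3_c14) Lrfl Lrfl
theorem f176742 : Led Lsl_df (LP (LK LD1_c11 LD2_c59 LD3_c28)) = (LP (LK LD1_c9 LD2_c51 LD3_c14)) :=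
  Lgr Lrot78 (Lpr_ft (f176740 IH) (Lpr_dt (K36.f176733 IH) (Lpr_ft (f176741 IH) (Lpn (LP (LK LD1_c9 LD2_c51 LD3_c14))))))
theorem f176750 : Led Lsl_dt (LP (LK LD1_c11 LD2_c59 LD3_c28)) = (LP (LK LD1_c9 LD2_c51 LD3_c14)) :=
  Lgr Lrot42 (Lpr_df (f176742 IH) (Lpn (LP (LK LD1_c9 LD2_c51 LD3_c14))))
def v15460 : LQ := Led Lsl_ft (LP (LK LD1_c5 LD2_c40 LD3_c0))
theorem f737494 : Led Lsl_ft (LP (LK LD1_c5 LD2_c40 LD3_c0)) = v15460 :=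
  Lrfl
theorem f737498 : Led Lsl_ff (LP (LK LD1_c5 LD2_c40 LD3_c0)) = v15460 :=
  Lgr Lrot3 (Lpr_ft (f737494 IH) (Lpn v15460))
def v2879 : LQ := Led Lsl_dt K37.v377
theorem f536044 : Led Lsl_dt K37.v377 = v2879 :=
  Lrfl
theorem f537912 : v2879 = (LP (LK LD1_c2 LD2_c45 LD3_c58)) :=
  Lefun (Lecon (f536044 IH) (K38.f537760 IH).symm) (K38.f354400 IH)
theorem f452516 : Led Lsl_ff (LP (LK LD1_c1 LD2_c26 LD3_c17)) = K37.v377 :=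
  Lgr Lrot23 (Lpr_ct (K19.f24230 IH) (Lpr_ft (K19.f313663 IH) (Lpr_ct (K37.f452513 IH) (Lpn K37.v377))))
theorem f452520 : Led Lsl_ft (LP (LK LD1_c1 LD2_c26 LD3_c17)) = K37.v377 :=
  Lgr Lrot48 (Lpr_ff (f452516 IH) (Lpn K37.v377))
theorem f536046 : Led Lsl_ff (LP (LK LD1_c3 LD2_c0 LD3_c58)) = v2879 :=
  Lgr Lrot19 (Lpr_dt (K36.f24236 IH) (Lpr_ft (f452520 IH) (Lpr_dt (f536044 IH) (Lpn v2879))))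
theorem f176744 : Led Lsl_ft (LP (LK LD1_c6 LD2_c9 LD3_c10)) = (LP (LK LD1_c11 LD2_c59 LD3_c28)) :=
  Lre_f IH (LK LD1_c6 LD2_c9 LD3_c10) (LK LD1_c11 LD2_c59 LD3_c28) Lrfl Lrfl
theorem f737501 : Led Lsl_et (LP (LK LD1_c11 LD2_c59 LD3_c28)) = v15460 :=
  Lgr Lrot69 (Lpe (f176744 IH) (Lpe (K36.f24235 IH) (Lpr_ff (f536046 IH) (Lpqs (f537912 IH) (Lpe (K50.f354425 IH) (Lpr_ff (f737498 IH) (Lpn v15460)))))))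
theorem f354435 : Led Lsl_at (LP (LK LD1_c5 LD2_c40 LD3_c0)) = (LP (LK LD1_c2 LD2_c46 LD3_c0)) :=
  Lre_a IH (LK LD1_c5 LD2_c40 LD3_c0) (LK LD1_c2 LD2_c46 LD3_c0) Lrfl Lrfl
theorem f737502 : Led Lsl_gf (LP (LK LD1_c5 LD2_c40 LD3_c12)) = v15460 :=
  Lgr Lrot47 (Lpr_gt (K50.f452503 IH) (Lpe (f354435 IH) (Lpr_ff (f737498 IH) (Lpn v15460))))
theorem f737503 : Led Lsl_gt (LP (LK LD1_c5 LD2_c40 LD3_c11)) = v15460 :=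
  Lgr Lrot5 (Lpe (K53.f724073 IH) (Lpe (K53.f623750 IH) (Lpr_gf (f737502 IH) (Lpn v15460))))
def v15865 : LQ := Led Lsl_ft (LP (LK LD1_c5 LD2_c48 LD3_c58))
theorem f743972 : Led Lsl_ft (LP (LK LD1_c5 LD2_c48 LD3_c58)) = v15865 :=
  Lrfl
theorem f743975 : Led Lsl_ff (LP (LK LD1_c5 LD2_c48 LD3_c58)) = v15865 :=
  Lgr Lrot3 (Lpr_ft (f743972 IH) (Lpn v15865))
theorem f416643 : Led Lsl_dt (LP (LK LD1_c5 LD2_c48 LD3_c58)) = (LP (LK LD1_c11 LD2_c27 LD3_c19)) :=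
  Lre_d IH (LK LD1_c5 LD2_c48 LD3_c58) (LK LD1_c11 LD2_c27 LD3_c19) Lrfl Lrfl
theorem f743977 : Led Lsl_dt (LP (LK LD1_c11 LD2_c11 LD3_c12)) = v15865 :=
  Lgr Lrot60 (Lpe (K53.f724079 IH) (Lpe (f416643 IH) (Lpr_ff (f743975 IH) (Lpn v15865))))
theorem f743978 : Led Lsl_gf (LP (LK LD1_c5 LD2_c49 LD3_c7)) = v15865 :=
  Lgr Lrot47 (Lpe (K24.f416360 IH) (Lpr_af (K51.f623154 IH) (Lpr_ff (f743975 IH) (Lpn v15865))))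
theorem f613373 : Led Lsl_at (LP (LK LD1_c5 LD2_c41 LD3_c5)) = (LP (LK LD1_c5 LD2_c49 LD3_c7)) :=
  Lgr Lrot100 (Lpr_af (K55.f613369 IH) (Lpn (LP (LK LD1_c5 LD2_c49 LD3_c7))))
theorem f613385 : Led Lsl_ft (LP (LK LD1_c11 LD2_c12 LD3_c42)) = (LP (LK LD1_c5 LD2_c41 LD3_c5)) :=
  Lre_f IH (LK LD1_c11 LD2_c12 LD3_c42) (LK LD1_c5 LD2_c41 LD3_c5) Lrfl Lrfl
theorem f743979 : Led Lsl_gt (LP (LK LD1_c11 LD2_c12 LD3_c42)) = v15865 :=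
  Lgr Lrot5 (Lpr_ft (f613385 IH) (Lpr_at (f613373 IH) (Lpr_gf (f743978 IH) (Lpn v15865))))
theorem f380103 : Led Lsl_gt (LP (LK LD1_c5 LD2_c40 LD3_c59)) = (LP (LK LD1_c11 LD2_c12 LD3_c31)) :=
  Lre_g IH (LK LD1_c5 LD2_c40 LD3_c59) (LK LD1_c11 LD2_c12 LD3_c31) Lrfl Lrfl
theorem f613367 : Led Lsl_gf (LP (LK LD1_c5 LD2_c41 LD3_c6)) = (LP (LK LD1_c11 LD2_c12 LD3_c31)) :=
  Lgr Lrot76 (Lpr_af (K55.f613361 IH) (Lpe (K50.f380101 IH) (Lpr_gt (f380103 IH) (Lpn (LP (LK LD1_c11 LD2_c12 LD3_c31))))))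
theorem f750948 : K55.v15511 = (LP (LK LD1_c11 LD2_c12 LD3_c31)) :=
  (Llr Lrot121 (Lpe (K55.f746464 IH) (Lpr_dt (f750944 IH) (Lpe (f750941 IH) (Lpe (f176750 IH) (Lpr_et (f737501 IH) (Lpe (f737503 IH) (Lpe (K53.f622388 IH) (Lpr_dt (f743977 IH) (Lpe (f743979 IH) (Lpe (K50.f379932 IH) (Lpr_gf (f613367 IH) (Lpn (LP (LK LD1_c11 LD2_c12 LD3_c31))))))))))))))).symm
theorem f750949 : Led Lsl_at (LP (LK LD1_c11 LD2_c12 LD3_c31)) = (LP (LK LD1_c5 LD2_c41 LD3_c3)) :=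
  Leop (Lpr_af (K55.f737816 IH) (Lpqs (f750948 IH) (Lpn (LP (LK LD1_c11 LD2_c12 LD3_c31)))))
theorem seed_1047 : LEOK LG_a (LK LD1_c11 LD2_c12 LD3_c31) :=
  Leoe_a (LK LD1_c11 LD2_c12 LD3_c31) (f750949 IH)
def v16679 : LQ := Led Lsl_gt (LP (LK LD1_c6 LD2_c5 LD3_c36))
theorem f751050 : Led Lsl_gt (LP (LK LD1_c6 LD2_c5 LD3_c36)) = v16679 :=
  Lrfl
theorem f252121 : Led Lsl_bt (LP (LK LD1_c11 LD2_c54 LD3_c45)) = (LP (LK LD1_c8 LD2_c13 LD3_c19)) :=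
  Lgr Lrot127 (Lpr_bf (K17.f252116 IH) (Lpn (LP (LK LD1_c8 LD2_c13 LD3_c19))))
theorem f586603 : Led Lsl_ct (LP (LK LD1_c15 LD2_c29 LD3_c20)) = (LP (LK LD1_c18 LD2_c52 LD3_c24)) :=
  Lgr Lrot59 (Lpr_cf (K45.f586599 IH) (Lpn (LP (LK LD1_c18 LD2_c52 LD3_c24))))
theorem f265235 : Led Lsl_bt (LP (LK LD1_c15 LD2_c29 LD3_c20)) = (LP (LK LD1_c8 LD2_c14 LD3_c2)) :=
  Lre_b IH (LK LD1_c15 LD2_c29 LD3_c20) (LK LD1_c8 LD2_c14 LD3_c2) Lrfl Lrfl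
theorem f602530 : Led Lsl_bf (LP (LK LD1_c11 LD2_c52 LD3_c40)) = (LP (LK LD1_c6 LD2_c4 LD3_c48)) :=
  Lgr Lrot156 (Lpr_gt (K17.f265228 IH) (Lpe (f265235 IH) (Lpr_ct (f586603 IH) (Lpr_gt (K45.f214733 IH) (Lpr_cf (K45.f217585 IH) (Lpr_bt (K45.f217566 IH) (Lpe (K54.f263506 IH) (Lpr_ct (K16.f260378 IH) (Lpr_gt (K16.f256255 IH) (Lpe (K16.f187842 IH) (Lpn (LP (LK LD1_c6 LD2_c4 LD3_c48)))))))))))))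
theorem f602534 : Led Lsl_bt (LP (LK LD1_c11 LD2_c52 LD3_c40)) = (LP (LK LD1_c6 LD2_c4 LD3_c48)) :=
  Lgr Lrot127 (Lpr_bf (f602530 IH) (Lpn (LP (LK LD1_c6 LD2_c4 LD3_c48))))
theorem f183866 : Led Lsl_bt (LP (LK LD1_c2 LD2_c58 LD3_c24)) = (LP (LK LD1_c2 LD2_c58 LD3_c35)) :=
  Lgr Lrot95 (Lpe (K15.f22403 IH) (Lpr_bf (K9.f183860 IH) (Lpe (K16.f183865 IH) (Lpn (LP (LK LD1_c2 LD2_c58 LD3_c35))))))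
theorem f273935 : Led Lsl_bt (LP (LK LD1_c11 LD2_c52 LD3_c16)) = (LP (LK LD1_c6 LD2_c4 LD3_c24)) :=
  Lre_b IH (LK LD1_c11 LD2_c52 LD3_c16) (LK LD1_c6 LD2_c4 LD3_c24) Lrfl Lrfl
theorem f602536 : Led Lsl_ct (LP (LK LD1_c11 LD2_c52 LD3_c40)) = (LP (LK LD1_c11 LD2_c52 LD3_c16)) :=
  Lgr Lrot83 (Lpr_bf (f602530 IH) (Lpe (K17.f187843 IH) (Lpe (f183866 IH) (Lpe (K39.f190115 IH) (Lpe (f273935 IH) (Lpn (LP (LK LD1_c11 LD2_c52 LD3_c16))))))))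
theorem f312331 : Led Lsl_ff (LP (LK LD1_c8 LD2_c13 LD3_c61)) = (LP (LK LD1_c11 LD2_c52 LD3_c40)) :=
  Lgr Lrot19 (Lpe (K16.f274384 IH) (Lpr_ft (K19.f312327 IH) (Lpr_dt (K17.f256832 IH) (Lpn (LP (LK LD1_c11 LD2_c52 LD3_c40))))))
theorem f602542 : Led Lsl_bt (LP (LK LD1_c8 LD2_c13 LD3_c61)) = (LP (LK LD1_c6 LD2_c4 LD3_c34)) :=
  Lgr Lrot35 (Lpr_ff (f312331 IH) (Lpr_bf (f602530 IH) (Lpr_ff (K19.f312321 IH) (Lpn (LP (LK LD1_c6 LD2_c4 LD3_c34))))))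
theorem f54945 : Led Lsl_et (LP (LK LD1_c15 LD2_c29 LD3_c24)) = (LP (LK LD1_c8 LD2_c13 LD3_c61)) :=
  Lre_e IH (LK LD1_c15 LD2_c29 LD3_c24) (LK LD1_c8 LD2_c13 LD3_c61) Lrfl Lrfl
theorem f602548 : Led Lsl_bf (LP (LK LD1_c15 LD2_c29 LD3_c24)) = (LP (LK LD1_c11 LD2_c52 LD3_c41)) :=
  Lgr Lrot96 (Lpr_et (f54945 IH) (Lpr_bt (f602542 IH) (Lpr_et (K26.f265240 IH) (Lpn (LP (LK LD1_c11 LD2_c52 LD3_c41))))))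
theorem f403349 : Led Lsl_ft (LP (LK LD1_c15 LD2_c29 LD3_c24)) = (LP (LK LD1_c25 LD2_c22 LD3_c22)) :=
  Lre_f IH (LK LD1_c15 LD2_c29 LD3_c24) (LK LD1_c25 LD2_c22 LD3_c22) Lrfl Lrfl
theorem f602558 : Led Lsl_bt (LP (LK LD1_c25 LD2_c22 LD3_c22)) = (LP (LK LD1_c19 LD2_c58 LD3_c17)) :=
  Lgr Lrot35 (Lpe (f403349 IH) (Lpr_bf (f602548 IH) (Lpe (K23.f340057 IH) (Lpn (LP (LK LD1_c19 LD2_c58 LD3_c17))))))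
theorem f337619 : Led Lsl_bt (LP (LK LD1_c11 LD2_c5 LD3_c14)) = (LP (LK LD1_c19 LD2_c58 LD3_c15)) :=
  Lre_b IH (LK LD1_c11 LD2_c5 LD3_c14) (LK LD1_c19 LD2_c58 LD3_c15) Lrfl Lrfl
theorem f602564 : Led Lsl_ef (LP (LK LD1_c25 LD2_c22 LD3_c22)) = (LP (LK LD1_c19 LD2_c58 LD3_c15)) :=
  Lgr Lrot29 (Lpr_bt (f602558 IH) (Lpr_et (K26.f254114 IH) (Lpr_bt (f337619 IH) (Lpn (LP (LK LD1_c19 LD2_c58 LD3_c15))))))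
theorem f403359 : Led Lsl_ft (LP (LK LD1_c25 LD2_c22 LD3_c22)) = (LP (LK LD1_c15 LD2_c29 LD3_c24)) :=
  Lre_f IH (LK LD1_c25 LD2_c22 LD3_c22) (LK LD1_c15 LD2_c29 LD3_c24) Lrfl Lrfl
theorem f194177 : Led Lsl_dt (LP (LK LD1_c11 LD2_c52 LD3_c40)) = (LP (LK LD1_c6 LD2_c4 LD3_c34)) :=
  Lre_d IH (LK LD1_c11 LD2_c52 LD3_c40) (LK LD1_c6 LD2_c4 LD3_c34) Lrfl Lrfl
theorem f312325 : Led Lsl_ft (LP (LK LD1_c8 LD2_c13 LD3_c61)) = (LP (LK LD1_c11 LD2_c52 LD3_c40)) :=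
  Lgr Lrot54 (Lpe (K16.f274380 IH) (Lpr_ff (K19.f312321 IH) (Lpe (f194177 IH) (Lpn (LP (LK LD1_c11 LD2_c52 LD3_c40))))))
theorem f256839 : Led Lsl_et (LP (LK LD1_c11 LD2_c52 LD3_c40)) = (LP (LK LD1_c20 LD2_c55 LD3_c49)) :=
  Lre_e IH (LK LD1_c11 LD2_c52 LD3_c40) (LK LD1_c20 LD2_c55 LD3_c49) Lrfl Lrfl
theorem f602572 : Led Lsl_ft (LP (LK LD1_c20 LD2_c55 LD3_c49)) = (LP (LK LD1_c19 LD2_c58 LD3_c15)) :=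
  Lgr Lrot86 (Lpe (f256839 IH) (Lpe (f312325 IH) (Lpe (f54945 IH) (Lpe (f403359 IH) (Lpr_ef (f602564 IH) (Lpn (LP (LK LD1_c19 LD2_c58 LD3_c15))))))))
theorem f602580 : Led Lsl_ff (LP (LK LD1_c20 LD2_c55 LD3_c49)) = (LP (LK LD1_c19 LD2_c58 LD3_c15)) :=
  Lgr Lrot3 (Lpr_ft (f602572 IH) (Lpn (LP (LK LD1_c19 LD2_c58 LD3_c15))))
theorem f337622 : Led Lsl_cf (LP (LK LD1_c10 LD2_c46 LD3_c34)) = (LP (LK LD1_c11 LD2_c5 LD3_c14)) :=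
  Lgr Lrot11 (Lpr_ct (K22.f337615 IH) (Lpn (LP (LK LD1_c11 LD2_c5 LD3_c14))))
theorem f333941 : Led Lsl_bt (LP (LK LD1_c19 LD2_c54 LD3_c55)) = (LP (LK LD1_c29 LD2_c10 LD3_c40)) :=
  Lre_b IH (LK LD1_c19 LD2_c54 LD3_c55) (LK LD1_c29 LD2_c10 LD3_c40) Lrfl Lrfl
theorem f340048 : Led Lsl_bt (LP (LK LD1_c19 LD2_c58 LD3_c15)) = (LP (LK LD1_c11 LD2_c5 LD3_c14)) :=
  Lre_b IH (LK LD1_c19 LD2_c58 LD3_c15) (LK LD1_c11 LD2_c5 LD3_c14) Lrfl Lrfl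
theorem f395941 : Led Lsl_ct (LP (LK LD1_c29 LD2_c10 LD3_c40)) = (LP (LK LD1_c19 LD2_c58 LD3_c15)) :=
  Lgr Lrot83 (Lpe (f333941 IH) (Lpe (K22.f335418 IH) (Lpe (K27.f337601 IH) (Lpr_cf (f337622 IH) (Lpe (f340048 IH) (Lpn (LP (LK LD1_c19 LD2_c58 LD3_c15))))))))
theorem f261311 : Led Lsl_bt (LP (LK LD1_c11 LD2_c52 LD3_c17)) = (LP (LK LD1_c20 LD2_c55 LD3_c3)) :=
  Lre_b IH (LK LD1_c11 LD2_c52 LD3_c17) (LK LD1_c20 LD2_c55 LD3_c3) Lrfl Lrfl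
theorem f271028 : Led Lsl_bt (LP (LK LD1_c29 LD2_c10 LD3_c40)) = (LP (LK LD1_c19 LD2_c54 LD3_c55)) :=
  Lre_b IH (LK LD1_c29 LD2_c10 LD3_c40) (LK LD1_c19 LD2_c54 LD3_c55) Lrfl Lrfl
theorem f335416 : Led Lsl_ft (LP (LK LD1_c20 LD2_c55 LD3_c3)) = (LP (LK LD1_c29 LD2_c10 LD3_c40)) :=
  Lgr Lrot75 (Lpe (f261311 IH) (Lpr_ff (K22.f335414 IH) (Lpe (f271028 IH) (Lpn (LP (LK LD1_c29 LD2_c10 LD3_c40))))))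
theorem f602584 : Led Lsl_ct (LP (LK LD1_c20 LD2_c55 LD3_c49)) = (LP (LK LD1_c20 LD2_c55 LD3_c3)) :=
  Lgr Lrot40 (Lpr_ff (f602580 IH) (Lpe (f395941 IH) (Lpe (f335416 IH) (Lpn (LP (LK LD1_c20 LD2_c55 LD3_c3))))))
theorem f335402 : Led Lsl_et (LP (LK LD1_c20 LD2_c55 LD3_c3)) = (LP (LK LD1_c11 LD2_c52 LD3_c16)) :=
  Lre_e IH (LK LD1_c20 LD2_c55 LD3_c3) (LK LD1_c11 LD2_c52 LD3_c16) Lrfl Lrfl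
theorem f602590 : Led Lsl_cf (LP (LK LD1_c11 LD2_c52 LD3_c40)) = (LP (LK LD1_c11 LD2_c52 LD3_c16)) :=
  Lgr Lrot39 (Lpr_et (f256839 IH) (Lpr_ct (f602584 IH) (Lpr_et (f335402 IH) (Lpn (LP (LK LD1_c11 LD2_c52 LD3_c16))))))
theorem f266662 : Led Lsl_cf (LP (LK LD1_c5 LD2_c4 LD3_c55)) = (LP (LK LD1_c8 LD2_c13 LD3_c21)) :=
  Lgr Lrot11 (Lpr_ct (K15.f266650 IH) (Lpn (LP (LK LD1_c8 LD2_c13 LD3_c21))))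
theorem f602600 : Led Lsl_gt (LP (LK LD1_c10 LD2_c37 LD3_c11)) = (LP (LK LD1_c11 LD2_c52 LD3_c16)) :=
  Lgr Lrot150 (Lpr_cf (K16.f190125 IH) (Lpe (K17.f274134 IH) (Lpe (K16.f265087 IH) (Lpr_gt (K15.f266671 IH) (Lpe (f266662 IH) (Lpe (K16.f256833 IH) (Lpr_ct (K16.f194188 IH) (Lpe (f194177 IH) (Lpr_cf (f602590 IH) (Lpn (LP (LK LD1_c11 LD2_c52 LD3_c16))))))))))))
theorem f274139 : Led Lsl_bt (LP (LK LD1_c15 LD2_c28 LD3_c20)) = (LP (LK LD1_c8 LD2_c13 LD3_c34)) :=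
  Lre_b IH (LK LD1_c15 LD2_c28 LD3_c20) (LK LD1_c8 LD2_c13 LD3_c34) Lrfl Lrfl
theorem f751053 : Led Lsl_ct (LP (LK LD1_c15 LD2_c28 LD3_c20)) = v16679 :=
  Lgr Lrot10 (Lpr_bt (f274139 IH) (Lpr_gt (K17.f274134 IH) (Lpe (K16.f190125 IH) (Lpr_gt (f602600 IH) (Lpe (f602536 IH) (Lpr_bt (f602534 IH) (Lpr_gt (K16.f274389 IH) (Lpe (f252121 IH) (Lpr_ct (K17.f183477 IH) (Lpr_gt (f751050 IH) (Lpn v16679)))))))))))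
theorem f375010 : Led Lsl_dt (LP (LK LD1_c8 LD2_c13 LD3_c33)) = (LP (LK LD1_c15 LD2_c28 LD3_c20)) :=
  Lre_d IH (LK LD1_c8 LD2_c13 LD3_c33) (LK LD1_c15 LD2_c28 LD3_c20) Lrfl Lrfl
theorem f252596 : Led Lsl_gt (LP (LK LD1_c15 LD2_c28 LD3_c18)) = (LP (LK LD1_c8 LD2_c13 LD3_c33)) :=
  Lre_g IH (LK LD1_c15 LD2_c28 LD3_c18) (LK LD1_c8 LD2_c13 LD3_c33) Lrfl Lrfl
theorem f602631 : Led Lsl_df (LP (LK LD1_c6 LD2_c4 LD3_c24)) = (LP (LK LD1_c11 LD2_c52 LD3_c16)) :=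
  Lgr Lrot153 (Lpr_gt (K39.f273933 IH) (Lpe (K39.f555224 IH) (Lpr_cf (K39.f555232 IH) (Lpe (K17.f191962 IH) (Lpe (K15.f191961 IH) (Lpe (K16.f192501 IH) (Lpr_gf (K16.f194331 IH) (Lpe (K16.f190109 IH) (Lpr_gt (f602600 IH) (Lpn (LP (LK LD1_c11 LD2_c52 LD3_c16))))))))))))
theorem f192209 : Led Lsl_dt (LP (LK LD1_c1 LD2_c58 LD3_c31)) = (LP (LK LD1_c4 LD2_c3 LD3_c1)) :=
  Lre_d IH (LK LD1_c1 LD2_c58 LD3_c31) (LK LD1_c4 LD2_c3 LD3_c1) Lrfl Lrfl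
theorem f291397 : Led Lsl_cf (LP (LK LD1_c11 LD2_c52 LD3_c15)) = (LP (LK LD1_c15 LD2_c16 LD3_c22)) :=
  Lgr Lrot166 (Lpe (K16.f274084 IH) (Lpr_dt (K16.f42509 IH) (Lpr_gt (K10.f42506 IH) (Lpr_dt (K15.f42529 IH) (Lpr_ct (K15.f190161 IH) (Lpr_df (K17.f266705 IH) (Lpe (K10.f177481 IH) (Lpe (K1.f54577 IH) (Lpr_gf (K17.f291375 IH) (Lpn (LP (LK LD1_c15 LD2_c16 LD3_c22))))))))))))
theorem f250443 : Led Lsl_bt (LP (LK LD1_c2 LD2_c58 LD3_c31)) = (LP (LK LD1_c6 LD2_c4 LD3_c40)) :=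
  Lre_b IH (LK LD1_c2 LD2_c58 LD3_c31) (LK LD1_c6 LD2_c4 LD3_c40) Lrfl Lrfl
theorem f335394 : Led Lsl_ff (LP (LK LD1_c11 LD2_c52 LD3_c16)) = (LP (LK LD1_c6 LD2_c4 LD3_c40)) :=
  Lgr Lrot25 (Lpr_bt (f273935 IH) (Lpr_ft (K22.f335390 IH) (Lpr_bt (f250443 IH) (Lpn (LP (LK LD1_c6 LD2_c4 LD3_c40))))))
theorem f335400 : Led Lsl_ft (LP (LK LD1_c11 LD2_c52 LD3_c16)) = (LP (LK LD1_c6 LD2_c4 LD3_c40)) :=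
  Lgr Lrot48 (Lpr_ff (f335394 IH) (Lpn (LP (LK LD1_c6 LD2_c4 LD3_c40))))
theorem f602635 : Led Lsl_af (LP (LK LD1_c11 LD2_c52 LD3_c15)) = (LP (LK LD1_c6 LD2_c4 LD3_c40)) :=
  Lgr Lrot109 (Lpr_cf (f291397 IH) (Lpe (K17.f291377 IH) (Lpe (K17.f192210 IH) (Lpe (f192209 IH) (Lpr_cf (K22.f192193 IH) (Lpe (K15.f41753 IH) (Lpe (K39.f190115 IH) (Lpr_df (f602631 IH) (Lpr_ft (f335400 IH) (Lpn (LP (LK LD1_c6 LD2_c4 LD3_c40))))))))))))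
theorem f42594 : Led Lsl_et (LP (LK LD1_c11 LD2_c52 LD3_c15)) = (LP (LK LD1_c20 LD2_c55 LD3_c2)) :=
  Lre_e IH (LK LD1_c11 LD2_c52 LD3_c15) (LK LD1_c20 LD2_c55 LD3_c2) Lrfl Lrfl
theorem f335398 : Led Lsl_et (LP (LK LD1_c11 LD2_c52 LD3_c54)) = (LP (LK LD1_c6 LD2_c4 LD3_c40)) :=
  Lre_e IH (LK LD1_c11 LD2_c52 LD3_c54) (LK LD1_c6 LD2_c4 LD3_c40) Lrfl Lrfl
theorem f602641 : Led Lsl_at (LP (LK LD1_c20 LD2_c55 LD3_c2)) = (LP (LK LD1_c11 LD2_c52 LD3_c54)) :=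
  Lgr Lrot80 (Lpe (f42594 IH) (Lpr_af (f602635 IH) (Lpe (f335398 IH) (Lpn (LP (LK LD1_c11 LD2_c52 LD3_c54))))))
theorem f42602 : Led Lsl_ft (LP (LK LD1_c29 LD2_c43 LD3_c60)) = (LP (LK LD1_c20 LD2_c55 LD3_c2)) :=
  Lre_f IH (LK LD1_c29 LD2_c43 LD3_c60) (LK LD1_c20 LD2_c55 LD3_c2) Lrfl Lrfl
theorem f335404 : Led Lsl_ft (LP (LK LD1_c11 LD2_c52 LD3_c54)) = (LP (LK LD1_c20 LD2_c56 LD3_c8)) :=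
  Lre_f IH (LK LD1_c11 LD2_c52 LD3_c54) (LK LD1_c20 LD2_c56 LD3_c8) Lrfl Lrfl
theorem f602652 : Led Lsl_af (LP (LK LD1_c29 LD2_c43 LD3_c60)) = (LP (LK LD1_c20 LD2_c56 LD3_c8)) :=
  Lgr Lrot45 (Lpr_ft (f42602 IH) (Lpr_at (f602641 IH) (Lpr_ft (f335404 IH) (Lpn (LP (LK LD1_c20 LD2_c56 LD3_c8))))))
theorem f338321 : Led Lsl_ft (LP (LK LD1_c4 LD2_c3 LD3_c3)) = (LP (LK LD1_c8 LD2_c2 LD3_c46)) :=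
  Lgr Lrot4 (Lpe (K27.f30993 IH) (Lpr_ff (K22.f338317 IH) (Lpe (K15.f194413 IH) (Lpn (LP (LK LD1_c8 LD2_c2 LD3_c46))))))
theorem f338315 : Led Lsl_af (LP (LK LD1_c4 LD2_c3 LD3_c3)) = (LP (LK LD1_c6 LD2_c4 LD3_c46)) :=
  Lgr Lrot68 (Lpr_ct (K14.f187856 IH) (Lpr_at (K22.f338311 IH) (Lpr_ct (K15.f187854 IH) (Lpn (LP (LK LD1_c6 LD2_c4 LD3_c46))))))
theorem f338401 : Led Lsl_ff (LP (LK LD1_c6 LD2_c4 LD3_c46)) = (LP (LK LD1_c4 LD2_c2 LD3_c59)) :=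
  Lgr Lrot30 (Lpe (f338315 IH) (Lpr_ft (f338321 IH) (Lpr_at (K23.f338394 IH) (Lpn (LP (LK LD1_c4 LD2_c2 LD3_c59))))))
theorem f338407 : Led Lsl_et (LP (LK LD1_c15 LD2_c22 LD3_c25)) = (LP (LK LD1_c15 LD2_c16 LD3_c19)) :=
  Lgr Lrot69 (Lpr_ff (K22.f338354 IH) (Lpe (K16.f244109 IH) (Lpr_ff (f338401 IH) (Lpe (K19.f259144 IH) (Lpe (K22.f338379 IH) (Lpn (LP (LK LD1_c15 LD2_c16 LD3_c19))))))))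
theorem f253138 : Led Lsl_bt (LP (LK LD1_c25 LD2_c14 LD3_c10)) = (LP (LK LD1_c15 LD2_c22 LD3_c25)) :=
  Lre_b IH (LK LD1_c25 LD2_c14 LD3_c10) (LK LD1_c15 LD2_c22 LD3_c25) Lrfl Lrfl
theorem f194511 : Led Lsl_bt (LP (LK LD1_c15 LD2_c16 LD3_c19)) = (LP (LK LD1_c25 LD2_c6 LD3_c13)) :=
  Lre_b IH (LK LD1_c15 LD2_c16 LD3_c19) (LK LD1_c25 LD2_c6 LD3_c13) Lrfl Lrfl
theorem f338409 : Led Lsl_ef (LP (LK LD1_c25 LD2_c14 LD3_c10)) = (LP (LK LD1_c25 LD2_c6 LD3_c13)) :=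
  Lgr Lrot29 (Lpr_bt (f253138 IH) (Lpr_et (f338407 IH) (Lpr_bt (f194511 IH) (Lpn (LP (LK LD1_c25 LD2_c6 LD3_c13))))))
theorem f338413 : Led Lsl_et (LP (LK LD1_c25 LD2_c14 LD3_c10)) = (LP (LK LD1_c25 LD2_c6 LD3_c13)) :=
  Lgr Lrot87 (Lpr_ef (f338409 IH) (Lpn (LP (LK LD1_c25 LD2_c6 LD3_c13))))
theorem f244112 : Led Lsl_bt (LP (LK LD1_c11 LD2_c8 LD3_c43)) = (LP (LK LD1_c20 LD2_c2 LD3_c19)) :=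
  Lre_b IH (LK LD1_c11 LD2_c8 LD3_c43) (LK LD1_c20 LD2_c2 LD3_c19) Lrfl Lrfl
theorem f338347 : Led Lsl_ff (LP (LK LD1_c25 LD2_c14 LD3_c10)) = (LP (LK LD1_c20 LD2_c2 LD3_c19)) :=
  Lgr Lrot25 (Lpr_bt (f253138 IH) (Lpr_ft (K22.f338345 IH) (Lpr_bt (f244112 IH) (Lpn (LP (LK LD1_c20 LD2_c2 LD3_c19))))))
theorem f187857 : Led Lsl_bt (LP (LK LD1_c6 LD2_c4 LD3_c46)) = (LP (LK LD1_c11 LD2_c52 LD3_c61)) :=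
  Lre_b IH (LK LD1_c6 LD2_c4 LD3_c46) (LK LD1_c11 LD2_c52 LD3_c61) Lrfl Lrfl
theorem f244122 : Led Lsl_bt (LP (LK LD1_c20 LD2_c2 LD3_c19)) = (LP (LK LD1_c11 LD2_c8 LD3_c43)) :=
  Lre_b IH (LK LD1_c20 LD2_c2 LD3_c19) (LK LD1_c11 LD2_c8 LD3_c43) Lrfl Lrfl
theorem f244123 : Led Lsl_et (LP (LK LD1_c11 LD2_c52 LD3_c61)) = (LP (LK LD1_c20 LD2_c2 LD3_c19)) :=
  Lgr Lrot74 (Lpe (f187857 IH) (Lpr_ef (K16.f244120 IH) (Lpe (f244122 IH) (Lpn (LP (LK LD1_c20 LD2_c2 LD3_c19))))))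
theorem f194578 : Led Lsl_ft (LP (LK LD1_c25 LD2_c6 LD3_c13)) = (LP (LK LD1_c15 LD2_c16 LD3_c14)) :=
  Lre_f IH (LK LD1_c25 LD2_c6 LD3_c13) (LK LD1_c15 LD2_c16 LD3_c14) Lrfl Lrfl
theorem f194544 : Led Lsl_et (LP (LK LD1_c15 LD2_c16 LD3_c14)) = (LP (LK LD1_c8 LD2_c6 LD3_c34)) :=
  Lre_e IH (LK LD1_c15 LD2_c16 LD3_c14) (LK LD1_c8 LD2_c6 LD3_c34) Lrfl Lrfl
theorem f338417 : Led Lsl_ff (LP (LK LD1_c11 LD2_c52 LD3_c61)) = (LP (LK LD1_c8 LD2_c6 LD3_c34)) :=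
  Lgr Lrot72 (Lpr_et (f244123 IH) (Lpe (f338347 IH) (Lpr_et (f338413 IH) (Lpr_ft (f194578 IH) (Lpr_et (f194544 IH) (Lpn (LP (LK LD1_c8 LD2_c6 LD3_c34))))))))
theorem f216204 : Led Lsl_ct (LP (LK LD1_c11 LD2_c52 LD3_c61)) = (LP (LK LD1_c6 LD2_c4 LD3_c50)) :=
  Lre_c IH (LK LD1_c11 LD2_c52 LD3_c61) (LK LD1_c6 LD2_c4 LD3_c50) Lrfl Lrfl
theorem f42588 : Led Lsl_bt (LP (LK LD1_c6 LD2_c4 LD3_c23)) = (LP (LK LD1_c11 LD2_c52 LD3_c14)) :=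
  Lre_b IH (LK LD1_c6 LD2_c4 LD3_c23) (LK LD1_c11 LD2_c52 LD3_c14) Lrfl Lrfl
theorem f194524 : Led Lsl_bt (LP (LK LD1_c8 LD2_c6 LD3_c34)) = (LP (LK LD1_c4 LD2_c2 LD3_c59)) :=
  Lre_b IH (LK LD1_c8 LD2_c6 LD3_c34) (LK LD1_c4 LD2_c2 LD3_c59) Lrfl Lrfl
theorem f194525 : Led Lsl_ct (LP (LK LD1_c11 LD2_c52 LD3_c14)) = (LP (LK LD1_c8 LD2_c6 LD3_c34)) :=
  Lgr Lrot83 (Lpe (f42588 IH) (Lpe (K17.f42503 IH) (Lpr_bf (K22.f194522 IH) (Lpe (K19.f194409 IH) (Lpe (f194524 IH) (Lpn (LP (LK LD1_c8 LD2_c6 LD3_c34))))))))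
theorem f338421 : Led Lsl_ft (LP (LK LD1_c6 LD2_c4 LD3_c50)) = (LP (LK LD1_c11 LD2_c52 LD3_c14)) :=
  Lgr Lrot4 (Lpe (f216204 IH) (Lpr_ff (f338417 IH) (Lpe (f194525 IH) (Lpn (LP (LK LD1_c11 LD2_c52 LD3_c14))))))
theorem f338438 : Led Lsl_ff (LP (LK LD1_c6 LD2_c4 LD3_c50)) = (LP (LK LD1_c11 LD2_c52 LD3_c14)) :=
  Lgr Lrot3 (Lpr_ft (f338421 IH) (Lpn (LP (LK LD1_c11 LD2_c52 LD3_c14))))
theorem f216208 : Led Lsl_bt (LP (LK LD1_c6 LD2_c4 LD3_c50)) = (LP (LK LD1_c2 LD2_c58 LD3_c37)) :=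
  Lre_b IH (LK LD1_c6 LD2_c4 LD3_c50) (LK LD1_c2 LD2_c58 LD3_c37) Lrfl Lrfl
theorem f338446 : Led Lsl_ft (LP (LK LD1_c2 LD2_c58 LD3_c37)) = (LP (LK LD1_c6 LD2_c4 LD3_c23)) :=
  Lgr Lrot75 (Lpe (f216208 IH) (Lpr_ff (f338438 IH) (Lpe (f42588 IH) (Lpn (LP (LK LD1_c6 LD2_c4 LD3_c23))))))
theorem f256257 : Led Lsl_dt (LP (LK LD1_c6 LD2_c4 LD3_c51)) = (LP (LK LD1_c2 LD2_c58 LD3_c37)) :=
  Lre_d IH (LK LD1_c6 LD2_c4 LD3_c51) (LK LD1_c2 LD2_c58 LD3_c37) Lrfl Lrfl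
theorem f338455 : Led Lsl_ff (LP (LK LD1_c6 LD2_c4 LD3_c51)) = (LP (LK LD1_c11 LD2_c52 LD3_c15)) :=
  Lgr Lrot19 (Lpr_dt (f256257 IH) (Lpr_ft (f338446 IH) (Lpr_dt (K16.f42584 IH) (Lpn (LP (LK LD1_c11 LD2_c52 LD3_c15))))))
theorem f338494 : Led Lsl_ft (LP (LK LD1_c6 LD2_c4 LD3_c51)) = (LP (LK LD1_c11 LD2_c52 LD3_c15)) :=
  Lgr Lrot48 (Lpr_ff (f338455 IH) (Lpn (LP (LK LD1_c11 LD2_c52 LD3_c15))))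
theorem f338496 : Led Lsl_et (LP (LK LD1_c11 LD2_c53 LD3_c5)) = (LP (LK LD1_c6 LD2_c4 LD3_c51)) :=
  Lre_e IH (LK LD1_c11 LD2_c53 LD3_c5) (LK LD1_c6 LD2_c4 LD3_c51) Lrfl Lrfl
theorem f338497 : Led Lsl_ft (LP (LK LD1_c20 LD2_c56 LD3_c29)) = (LP (LK LD1_c11 LD2_c53 LD3_c5)) :=
  Lre_f IH (LK LD1_c20 LD2_c56 LD3_c29) (LK LD1_c11 LD2_c53 LD3_c5) Lrfl Lrfl
theorem f42605 : Led Lsl_ft (LP (LK LD1_c20 LD2_c55 LD3_c2)) = (LP (LK LD1_c29 LD2_c43 LD3_c60)) :=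
  Lre_f IH (LK LD1_c20 LD2_c55 LD3_c2) (LK LD1_c29 LD2_c43 LD3_c60) Lrfl Lrfl
theorem f338498 : Led Lsl_ef (LP (LK LD1_c20 LD2_c56 LD3_c29)) = (LP (LK LD1_c29 LD2_c43 LD3_c60)) :=
  Lgr Lrot21 (Lpr_ft (f338497 IH) (Lpr_et (f338496 IH) (Lpr_ft (f338494 IH) (Lpr_et (f42594 IH) (Lpr_ft (f42605 IH) (Lpn (LP (LK LD1_c29 LD2_c43 LD3_c60))))))))
theorem f335384 : Led Lsl_ff (LP (LK LD1_c6 LD2_c4 LD3_c24)) = (LP (LK LD1_c2 LD2_c58 LD3_c31)) :=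
  Lgr Lrot23 (Lpr_ct (K39.f190115 IH) (Lpr_ft (K22.f335380 IH) (Lpr_ct (K15.f182766 IH) (Lpn (LP (LK LD1_c2 LD2_c58 LD3_c31))))))
theorem f335430 : Led Lsl_ft (LP (LK LD1_c11 LD2_c52 LD3_c58)) = (LP (LK LD1_c6 LD2_c4 LD3_c41)) :=
  Lre_f IH (LK LD1_c11 LD2_c52 LD3_c58) (LK LD1_c6 LD2_c4 LD3_c41) Lrfl Lrfl
theorem f335431 : Led Lsl_ef (LP (LK LD1_c11 LD2_c52 LD3_c58)) = (LP (LK LD1_c19 LD2_c54 LD3_c55)) :=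
  Lgr Lrot21 (Lpr_ft (f335430 IH) (Lpr_et (K22.f256897 IH) (Lpe (f335384 IH) (Lpr_et (K22.f335407 IH) (Lpr_ft (K22.f335424 IH) (Lpn (LP (LK LD1_c19 LD2_c54 LD3_c55))))))))
theorem f42229 : Led Lsl_bt (LP (LK LD1_c11 LD2_c52 LD3_c58)) = (LP (LK LD1_c20 LD2_c56 LD3_c8)) :=
  Lre_b IH (LK LD1_c11 LD2_c52 LD3_c58) (LK LD1_c20 LD2_c56 LD3_c8) Lrfl Lrfl
theorem f396153 : Led Lsl_et (LP (LK LD1_c20 LD2_c56 LD3_c8)) = (LP (LK LD1_c29 LD2_c10 LD3_c40)) :=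
  Lgr Lrot74 (Lpe (f42229 IH) (Lpr_ef (f335431 IH) (Lpe (f271028 IH) (Lpn (LP (LK LD1_c29 LD2_c10 LD3_c40))))))
theorem f396155 : Led Lsl_ef (LP (LK LD1_c20 LD2_c56 LD3_c8)) = (LP (LK LD1_c29 LD2_c10 LD3_c40)) :=
  Lgr Lrot88 (Lpr_et (f396153 IH) (Lpn (LP (LK LD1_c29 LD2_c10 LD3_c40))))
theorem f602666 : Led Lsl_at (LP (LK LD1_c20 LD2_c56 LD3_c29)) = (LP (LK LD1_c29 LD2_c10 LD3_c40)) :=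
  Lgr Lrot80 (Lpr_ef (f338498 IH) (Lpr_af (f602652 IH) (Lpr_ef (f396155 IH) (Lpn (LP (LK LD1_c29 LD2_c10 LD3_c40))))))
theorem f329755 : Led Lsl_bt (LP (LK LD1_c11 LD2_c53 LD3_c8)) = (LP (LK LD1_c20 LD2_c56 LD3_c25)) :=
  Lre_b IH (LK LD1_c11 LD2_c53 LD3_c8) (LK LD1_c20 LD2_c56 LD3_c25) Lrfl Lrfl
theorem f333952 : Led Lsl_at (LP (LK LD1_c20 LD2_c56 LD3_c25)) = (LP (LK LD1_c29 LD2_c45 LD3_c11)) :=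
  Lre_a IH (LK LD1_c20 LD2_c56 LD3_c25) (LK LD1_c29 LD2_c45 LD3_c11) Lrfl Lrfl
theorem f602675 : Led Lsl_bf (LP (LK LD1_c20 LD2_c56 LD3_c29)) = (LP (LK LD1_c29 LD2_c45 LD3_c11)) :=
  Lgr Lrot81 (Lpr_at (f602666 IH) (Lpr_bt (f271028 IH) (Lpe (K22.f333938 IH) (Lpr_bt (f329755 IH) (Lpr_at (f333952 IH) (Lpn (LP (LK LD1_c29 LD2_c45 LD3_c11))))))))
theorem f338512 : Led Lsl_ft (LP (LK LD1_c20 LD2_c56 LD3_c21)) = (LP (LK LD1_c29 LD2_c45 LD3_c11)) :=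
  Lre_f IH (LK LD1_c20 LD2_c56 LD3_c21) (LK LD1_c29 LD2_c45 LD3_c11) Lrfl Lrfl
theorem f602682 : Led Lsl_bt (LP (LK LD1_c11 LD2_c53 LD3_c5)) = (LP (LK LD1_c20 LD2_c56 LD3_c21)) :=
  Lgr Lrot35 (Lpe (f338497 IH) (Lpr_bf (f602675 IH) (Lpe (f338512 IH) (Lpn (LP (LK LD1_c20 LD2_c56 LD3_c21))))))
theorem f256863 : Led Lsl_et (LP (LK LD1_c6 LD2_c4 LD3_c51)) = (LP (LK LD1_c11 LD2_c53 LD3_c5)) :=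
  Lre_e IH (LK LD1_c6 LD2_c4 LD3_c51) (LK LD1_c11 LD2_c53 LD3_c5) Lrfl Lrfl
theorem f338450 : Led Lsl_et (LP (LK LD1_c20 LD2_c56 LD3_c21)) = (LP (LK LD1_c11 LD2_c53 LD3_c3)) :=
  Lre_e IH (LK LD1_c20 LD2_c56 LD3_c21) (LK LD1_c11 LD2_c53 LD3_c3) Lrfl Lrfl
theorem f602688 : Led Lsl_bf (LP (LK LD1_c6 LD2_c4 LD3_c51)) = (LP (LK LD1_c11 LD2_c53 LD3_c3)) :=
  Lgr Lrot96 (Lpr_et (f256863 IH) (Lpr_bt (f602682 IH) (Lpr_et (f338450 IH) (Lpn (LP (LK LD1_c11 LD2_c53 LD3_c3))))))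
theorem f194170 : Led Lsl_bt (LP (LK LD1_c2 LD2_c58 LD3_c37)) = (LP (LK LD1_c6 LD2_c4 LD3_c50)) :=
  Lre_b IH (LK LD1_c2 LD2_c58 LD3_c37) (LK LD1_c6 LD2_c4 LD3_c50) Lrfl Lrfl
theorem f602695 : Led Lsl_dt (LP (LK LD1_c6 LD2_c4 LD3_c50)) = (LP (LK LD1_c11 LD2_c53 LD3_c3)) :=
  Lgr Lrot79 (Lpe (f194170 IH) (Lpe (f256257 IH) (Lpr_bf (f602688 IH) (Lpn (LP (LK LD1_c11 LD2_c53 LD3_c3))))))
theorem f338443 : Led Lsl_at (LP (LK LD1_c6 LD2_c4 LD3_c50)) = (LP (LK LD1_c11 LD2_c53 LD3_c3)) :=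
  Lre_a IH (LK LD1_c6 LD2_c4 LD3_c50) (LK LD1_c11 LD2_c53 LD3_c3) Lrfl Lrfl
theorem f42614 : Led Lsl_at (LP (LK LD1_c20 LD2_c55 LD3_c1)) = (LP (LK LD1_c11 LD2_c52 LD3_c14)) :=
  Lre_a IH (LK LD1_c20 LD2_c55 LD3_c1) (LK LD1_c11 LD2_c52 LD3_c14) Lrfl Lrfl
theorem f338444 : Led Lsl_ft (LP (LK LD1_c11 LD2_c53 LD3_c3)) = (LP (LK LD1_c20 LD2_c55 LD3_c1)) :=
  Lgr Lrot101 (Lpe (f338443 IH) (Lpr_ff (f338438 IH) (Lpe (f42614 IH) (Lpn (LP (LK LD1_c20 LD2_c55 LD3_c1))))))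
theorem f602701 : Led Lsl_df (LP (LK LD1_c11 LD2_c52 LD3_c14)) = (LP (LK LD1_c20 LD2_c55 LD3_c1)) :=
  Lgr Lrot78 (Lpe (f338438 IH) (Lpr_dt (f602695 IH) (Lpr_ft (f338444 IH) (Lpn (LP (LK LD1_c20 LD2_c55 LD3_c1))))))
theorem f42579 : Led Lsl_et (LP (LK LD1_c5 LD2_c24 LD3_c49)) = (LP (LK LD1_c6 LD2_c4 LD3_c23)) :=
  Lgr Lrot87 (Lpr_ef (K25.f42565 IH) (Lpn (LP (LK LD1_c6 LD2_c4 LD3_c23))))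
theorem f42587 : Led Lsl_bt (LP (LK LD1_c10 LD2_c40 LD3_c16)) = (LP (LK LD1_c5 LD2_c24 LD3_c49)) :=
  Lre_b IH (LK LD1_c10 LD2_c40 LD3_c16) (LK LD1_c5 LD2_c24 LD3_c49) Lrfl Lrfl
theorem f42589 : Led Lsl_ef (LP (LK LD1_c10 LD2_c40 LD3_c16)) = (LP (LK LD1_c11 LD2_c52 LD3_c14)) :=
  Lgr Lrot29 (Lpr_bt (f42587 IH) (Lpr_et (f42579 IH) (Lpr_bt (f42588 IH) (Lpn (LP (LK LD1_c11 LD2_c52 LD3_c14))))))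
theorem f42617 : Led Lsl_dt (LP (LK LD1_c10 LD2_c40 LD3_c16)) = (LP (LK LD1_c19 LD2_c19 LD3_c25)) :=
  Lre_d IH (LK LD1_c10 LD2_c40 LD3_c16) (LK LD1_c19 LD2_c19 LD3_c25) Lrfl Lrfl
theorem f42613 : Led Lsl_at (LP (LK LD1_c10 LD2_c40 LD3_c16)) = (LP (LK LD1_c19 LD2_c19 LD3_c24)) :=
  Lre_a IH (LK LD1_c10 LD2_c40 LD3_c16) (LK LD1_c19 LD2_c19 LD3_c24) Lrfl Lrfl
theorem f42615 : Led Lsl_et (LP (LK LD1_c19 LD2_c19 LD3_c24)) = (LP (LK LD1_c20 LD2_c55 LD3_c1)) :=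
  Lgr Lrot123 (Lpe (f42613 IH) (Lpr_ef (f42589 IH) (Lpe (f42614 IH) (Lpn (LP (LK LD1_c20 LD2_c55 LD3_c1))))))
theorem f42622 : Led Lsl_dt (LP (LK LD1_c28 LD2_c44 LD3_c35)) = (LP (LK LD1_c19 LD2_c19 LD3_c24)) :=
  Lre_d IH (LK LD1_c28 LD2_c44 LD3_c35) (LK LD1_c19 LD2_c19 LD3_c24) Lrfl Lrfl
theorem f602705 : Led Lsl_et (LP (LK LD1_c19 LD2_c19 LD3_c25)) = (LP (LK LD1_c28 LD2_c44 LD3_c35)) :=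
  Lgr Lrot71 (Lpe (f42617 IH) (Lpr_ef (f42589 IH) (Lpr_df (f602701 IH) (Lpe (f42615 IH) (Lpe (f42622 IH) (Lpn (LP (LK LD1_c28 LD2_c44 LD3_c35))))))))
theorem f338489 : Led Lsl_bt (LP (LK LD1_c10 LD2_c40 LD3_c17)) = (LP (LK LD1_c19 LD2_c19 LD3_c25)) :=
  Lre_b IH (LK LD1_c10 LD2_c40 LD3_c17) (LK LD1_c19 LD2_c19 LD3_c25) Lrfl Lrfl
theorem f42593 : Led Lsl_et (LP (LK LD1_c19 LD2_c19 LD3_c27)) = (LP (LK LD1_c10 LD2_c40 LD3_c17)) :=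
  Lre_e IH (LK LD1_c19 LD2_c19 LD3_c27) (LK LD1_c10 LD2_c40 LD3_c17) Lrfl Lrfl
theorem f602707 : Led Lsl_bf (LP (LK LD1_c19 LD2_c19 LD3_c27)) = (LP (LK LD1_c28 LD2_c44 LD3_c35)) :=
  Lgr Lrot96 (Lpr_et (f42593 IH) (Lpr_bt (f338489 IH) (Lpr_et (f602705 IH) (Lpn (LP (LK LD1_c28 LD2_c44 LD3_c35))))))
theorem f194584 : Led Lsl_at (LP (LK LD1_c19 LD2_c19 LD3_c25)) = (LP (LK LD1_c28 LD2_c44 LD3_c35)) :=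
  Lre_a IH (LK LD1_c19 LD2_c19 LD3_c25) (LK LD1_c28 LD2_c44 LD3_c35) Lrfl Lrfl
theorem f333953 : Led Lsl_ft (LP (LK LD1_c11 LD2_c53 LD3_c8)) = (LP (LK LD1_c6 LD2_c4 LD3_c52)) :=
  Lre_f IH (LK LD1_c11 LD2_c53 LD3_c8) (LK LD1_c6 LD2_c4 LD3_c52) Lrfl Lrfl
theorem f42581 : Led Lsl_ft (LP (LK LD1_c5 LD2_c24 LD3_c49)) = (LP (LK LD1_c10 LD2_c40 LD3_c18)) :=
  Lre_f IH (LK LD1_c5 LD2_c24 LD3_c49) (LK LD1_c10 LD2_c40 LD3_c18) Lrfl Lrfl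
theorem f338457 : Led Lsl_ef (LP (LK LD1_c11 LD2_c53 LD3_c8)) = (LP (LK LD1_c10 LD2_c40 LD3_c18)) :=
  Lgr Lrot21 (Lpr_ft (f333953 IH) (Lpr_et (K22.f256868 IH) (Lpr_ft (f338446 IH) (Lpe (K25.f42565 IH) (Lpr_ft (f42581 IH) (Lpn (LP (LK LD1_c10 LD2_c40 LD3_c18))))))))
theorem f338460 : Led Lsl_et (LP (LK LD1_c11 LD2_c53 LD3_c8)) = (LP (LK LD1_c10 LD2_c40 LD3_c18)) :=
  Lgr Lrot87 (Lpr_ef (f338457 IH) (Lpn (LP (LK LD1_c10 LD2_c40 LD3_c18))))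
theorem f273936 : Led Lsl_et (LP (LK LD1_c11 LD2_c52 LD3_c17)) = (LP (LK LD1_c6 LD2_c4 LD3_c24)) :=
  Lre_e IH (LK LD1_c11 LD2_c52 LD3_c17) (LK LD1_c6 LD2_c4 LD3_c24) Lrfl Lrfl
theorem f42340 : Led Lsl_et (LP (LK LD1_c2 LD2_c58 LD3_c31)) = (LP (LK LD1_c6 LD2_c4 LD3_c41)) :=
  Lre_e IH (LK LD1_c2 LD2_c58 LD3_c31) (LK LD1_c6 LD2_c4 LD3_c41) Lrfl Lrfl
theorem f335396 : Led Lsl_ft (LP (LK LD1_c6 LD2_c4 LD3_c41)) = (LP (LK LD1_c11 LD2_c52 LD3_c58)) :=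
  Lre_f IH (LK LD1_c6 LD2_c4 LD3_c41) (LK LD1_c11 LD2_c52 LD3_c58) Lrfl Lrfl
theorem f335422 : Led Lsl_et (LP (LK LD1_c11 LD2_c52 LD3_c58)) = (LP (LK LD1_c19 LD2_c54 LD3_c55)) :=
  Lgr Lrot69 (Lpe (f335396 IH) (Lpe (f42340 IH) (Lpe (K22.f335390 IH) (Lpe (f273936 IH) (Lpr_ff (K22.f335414 IH) (Lpn (LP (LK LD1_c19 LD2_c54 LD3_c55))))))))
theorem f338462 : Led Lsl_af (LP (LK LD1_c11 LD2_c52 LD3_c58)) = (LP (LK LD1_c10 LD2_c40 LD3_c18)) :=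
  Lgr Lrot50 (Lpr_et (f335422 IH) (Lpe (K22.f333938 IH) (Lpr_et (f338460 IH) (Lpn (LP (LK LD1_c10 LD2_c40 LD3_c18))))))
theorem f338465 : Led Lsl_at (LP (LK LD1_c6 LD2_c4 LD3_c41)) = (LP (LK LD1_c5 LD2_c24 LD3_c49)) :=
  Lgr Lrot66 (Lpe (f335430 IH) (Lpr_af (f338462 IH) (Lpe (f42581 IH) (Lpn (LP (LK LD1_c5 LD2_c24 LD3_c49))))))
theorem f42574 : Led Lsl_dt (LP (LK LD1_c5 LD2_c24 LD3_c49)) = (LP (LK LD1_c10 LD2_c40 LD3_c17)) :=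
  Lre_d IH (LK LD1_c5 LD2_c24 LD3_c49) (LK LD1_c10 LD2_c40 LD3_c17) Lrfl Lrfl
theorem f338470 : Led Lsl_af (LP (LK LD1_c11 LD2_c52 LD3_c57)) = (LP (LK LD1_c10 LD2_c40 LD3_c17)) :=
  Lgr Lrot117 (Lpr_dt (K22.f42197 IH) (Lpr_at (f338465 IH) (Lpr_dt (f42574 IH) (Lpn (LP (LK LD1_c10 LD2_c40 LD3_c17))))))
theorem f338479 : Led Lsl_at (LP (LK LD1_c11 LD2_c52 LD3_c57)) = (LP (LK LD1_c10 LD2_c40 LD3_c17)) :=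
  Lgr Lrot100 (Lpr_af (f338470 IH) (Lpn (LP (LK LD1_c10 LD2_c40 LD3_c17))))
theorem f338488 : Led Lsl_bt (LP (LK LD1_c20 LD2_c56 LD3_c7)) = (LP (LK LD1_c11 LD2_c52 LD3_c57)) :=
  Lre_b IH (LK LD1_c20 LD2_c56 LD3_c7) (LK LD1_c11 LD2_c52 LD3_c57) Lrfl Lrfl
theorem f602714 : Led Lsl_at (LP (LK LD1_c19 LD2_c19 LD3_c27)) = (LP (LK LD1_c20 LD2_c56 LD3_c7)) :=
  Lgr Lrot67 (Lpr_bf (f602707 IH) (Lpe (f194584 IH) (Lpe (f338489 IH) (Lpe (f338479 IH) (Lpe (f338488 IH) (Lpn (LP (LK LD1_c20 LD2_c56 LD3_c7))))))))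
theorem f42575 : Led Lsl_et (LP (LK LD1_c10 LD2_c40 LD3_c17)) = (LP (LK LD1_c19 LD2_c19 LD3_c27)) :=
  Lre_e IH (LK LD1_c10 LD2_c40 LD3_c17) (LK LD1_c19 LD2_c19 LD3_c27) Lrfl Lrfl
theorem f602723 : Led Lsl_ef (LP (LK LD1_c11 LD2_c52 LD3_c57)) = (LP (LK LD1_c20 LD2_c56 LD3_c7)) :=
  Lgr Lrot20 (Lpr_at (f338479 IH) (Lpr_et (f42575 IH) (Lpr_at (f602714 IH) (Lpn (LP (LK LD1_c20 LD2_c56 LD3_c7))))))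
theorem f602725 : Led Lsl_et (LP (LK LD1_c11 LD2_c52 LD3_c57)) = (LP (LK LD1_c20 LD2_c56 LD3_c7)) :=
  Lgr Lrot87 (Lpr_ef (f602723 IH) (Lpn (LP (LK LD1_c20 LD2_c56 LD3_c7))))
theorem f602722 : Led Lsl_dt (LP (LK LD1_c20 LD2_c56 LD3_c7)) = (LP (LK LD1_c11 LD2_c52 LD3_c54)) :=
  Lre_d IH (LK LD1_c20 LD2_c56 LD3_c7) (LK LD1_c11 LD2_c52 LD3_c54) Lrfl Lrfl
theorem f602727 : Led Lsl_df (LP (LK LD1_c2 LD2_c58 LD3_c31)) = (LP (LK LD1_c6 LD2_c4 LD3_c40)) :=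
  Lgr Lrot70 (Lpr_et (f42340 IH) (Lpr_dt (K22.f42187 IH) (Lpr_et (f602725 IH) (Lpr_dt (f602722 IH) (Lpr_et (f335398 IH) (Lpn (LP (LK LD1_c6 LD2_c4 LD3_c40))))))))
theorem f250444 : Led Lsl_gt (LP (LK LD1_c11 LD2_c52 LD3_c53)) = (LP (LK LD1_c6 LD2_c4 LD3_c40)) :=
  Lre_g IH (LK LD1_c11 LD2_c52 LD3_c53) (LK LD1_c6 LD2_c4 LD3_c40) Lrfl Lrfl
theorem f602734 : Led Lsl_ct (LP (LK LD1_c16 LD2_c12 LD3_c57)) = (LP (LK LD1_c11 LD2_c52 LD3_c53)) :=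
  Lgr Lrot8 (Lpr_gt (K15.f187983 IH) (Lpr_dt (K15.f187982 IH) (Lpr_gt (K26.f265011 IH) (Lpe (K17.f274311 IH) (Lpr_cf (K16.f274299 IH) (Lpe (K16.f256889 IH) (Lpe (K15.f250434 IH) (Lpr_df (f602727 IH) (Lpe (f250444 IH) (Lpn (LP (LK LD1_c11 LD2_c52 LD3_c53))))))))))))
theorem f602596 : Led Lsl_ct (LP (LK LD1_c8 LD2_c13 LD3_c61)) = (LP (LK LD1_c6 LD2_c4 LD3_c40)) :=
  Lgr Lrot40 (Lpr_ff (f312331 IH) (Lpr_cf (f602590 IH) (Lpr_ff (f335394 IH) (Lpn (LP (LK LD1_c6 LD2_c4 LD3_c40))))))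
theorem f175310 : Led Lsl_gt (LP (LK LD1_c15 LD2_c27 LD3_c28)) = (LP (LK LD1_c25 LD2_c19 LD3_c8)) :=
  Lre_g IH (LK LD1_c15 LD2_c27 LD3_c28) (LK LD1_c25 LD2_c19 LD3_c8) Lrfl Lrfl
theorem f602821 : Led Lsl_bt (LP (LK LD1_c16 LD2_c12 LD3_c57)) = (LP (LK LD1_c25 LD2_c19 LD3_c8)) :=
  Lgr Lrot92 (Lpr_ct (f602734 IH) (Lpr_gt (f250444 IH) (Lpe (f602596 IH) (Lpr_bt (f602542 IH) (Lpr_gt (K16.f256830 IH) (Lpr_ct (K16.f189572 IH) (Lpr_gt (K14.f254228 IH) (Lpe (K15.f187981 IH) (Lpr_bt (K27.f175309 IH) (Lpr_gt (f175310 IH) (Lpn (LP (LK LD1_c25 LD2_c19 LD3_c8)))))))))))))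
theorem f256825 : Led Lsl_ct (LP (LK LD1_c6 LD2_c4 LD3_c38)) = (LP (LK LD1_c5 LD2_c8 LD3_c47)) :=
  Lgr Lrot110 (Lpe (K15.f250434 IH) (Lpe (K15.f182766 IH) (Lpr_gf (K15.f256823 IH) (Lpe (K15.f184390 IH) (Lpr_gt (K14.f42501 IH) (Lpr_ct (K15.f42526 IH) (Lpr_gt (K15.f251034 IH) (Lpe (K15.f190331 IH) (Lpe (K24.f190333 IH) (Lpn (LP (LK LD1_c5 LD2_c8 LD3_c47))))))))))))
theorem f256829 : Led Lsl_gt (LP (LK LD1_c6 LD2_c4 LD3_c40)) = (LP (LK LD1_c11 LD2_c52 LD3_c52)) :=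
  Lre_g IH (LK LD1_c6 LD2_c4 LD3_c40) (LK LD1_c11 LD2_c52 LD3_c52) Lrfl Lrfl
theorem f602738 : Led Lsl_cf (LP (LK LD1_c8 LD2_c29 LD3_c9)) = (LP (LK LD1_c11 LD2_c52 LD3_c52)) :=
  Lgr Lrot169 (Lpr_gt (K15.f216111 IH) (Lpr_ct (K15.f265121 IH) (Lpr_df (K15.f264866 IH) (Lpe (K15.f264860 IH) (Lpe (K14.f251603 IH) (Lpe (f256825 IH) (Lpe (K15.f250434 IH) (Lpr_df (f602727 IH) (Lpr_gt (f256829 IH) (Lpn (LP (LK LD1_c11 LD2_c52 LD3_c52))))))))))))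
theorem f602749 : Led Lsl_gf (LP (LK LD1_c6 LD2_c4 LD3_c51)) = (LP (LK LD1_c11 LD2_c52 LD3_c52)) :=
  Lgr Lrot144 (Lpr_dt (f256257 IH) (Lpr_gt (K15.f266740 IH) (Lpe (K15.f266728 IH) (Lpr_cf (K17.f274235 IH) (Lpe (K16.f274243 IH) (Lpr_gf (K54.f263506 IH) (Lpe (K15.f182533 IH) (Lpe (K15.f216111 IH) (Lpr_cf (f602738 IH) (Lpn (LP (LK LD1_c11 LD2_c52 LD3_c52))))))))))))
theorem f256258 : Led Lsl_dt (LP (LK LD1_c2 LD2_c58 LD3_c37)) = (LP (LK LD1_c6 LD2_c4 LD3_c51)) :=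
  Lre_d IH (LK LD1_c2 LD2_c58 LD3_c37) (LK LD1_c6 LD2_c4 LD3_c51) Lrfl Lrfl
theorem f266722 : Led Lsl_ct (LP (LK LD1_c6 LD2_c4 LD3_c51)) = (LP (LK LD1_c8 LD2_c13 LD3_c60)) :=
  Lgr Lrot7 (Lpe (f256258 IH) (Lpe (K15.f256849 IH) (Lpr_df (K16.f256847 IH) (Lpe (K16.f190111 IH) (Lpe (K15.f42530 IH) (Lpr_gt (K15.f266710 IH) (Lpr_dt (K16.f252113 IH) (Lpe (K16.f252594 IH) (Lpr_dt (K16.f182767 IH) (Lpn (LP (LK LD1_c8 LD2_c13 LD3_c60))))))))))))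
theorem f602751 : Led Lsl_df (LP (LK LD1_c6 LD2_c4 LD3_c58)) = (LP (LK LD1_c11 LD2_c52 LD3_c52)) :=
  Lgr Lrot155 (Lpr_gt (K14.f194766 IH) (Lpr_ct (K14.f42151 IH) (Lpr_gt (K9.f42114 IH) (Lpr_ct (K10.f42153 IH) (Lpr_dt (K16.f187485 IH) (Lpe (K16.f187781 IH) (Lpe (K16.f274118 IH) (Lpe (f266722 IH) (Lpr_gf (f602749 IH) (Lpn (LP (LK LD1_c11 LD2_c52 LD3_c52))))))))))))
theorem f602743 : Led Lsl_ct (LP (LK LD1_c8 LD2_c29 LD3_c9)) = (LP (LK LD1_c11 LD2_c52 LD3_c52)) :=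
  Lgr Lrot59 (Lpr_cf (f602738 IH) (Lpn (LP (LK LD1_c11 LD2_c52 LD3_c52))))
theorem f602753 : Led Lsl_dt (LP (LK LD1_c11 LD2_c52 LD3_c53)) = (LP (LK LD1_c6 LD2_c4 LD3_c59)) :=
  Lgr Lrot173 (Lpe (f602734 IH) (Lpe (K15.f28695 IH) (Lpe (K10.f28694 IH) (Lpe (K9.f28693 IH) (Lpe (K0.f28681 IH) (Lpe (K10.f28689 IH) (Lpe (K10.f182099 IH) (Lpr_df (f602751 IH) (Lpe (f602743 IH) (Lpe (K12.f54388 IH) (Lpe (K10.f54375 IH) (Lpe (K9.f45740 IH) (Lpe (K9.f54068 IH) (Lpe (K9.f47790 IH) (Lpr_cf (K20.f190206 IH) (Lpn (LP (LK LD1_c6 LD2_c4 LD3_c59))))))))))))))))))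
theorem f554638 : Led Lsl_df (LP (LK LD1_c8 LD2_c13 LD3_c53)) = (LP (LK LD1_c4 LD2_c6 LD3_c39)) :=
  Lgr Lrot162 (Lpe (K39.f182883 IH) (Lpe (K39.f42519 IH) (Lpr_cf (K39.f554620 IH) (Lpr_gf (K18.f274100 IH) (Lpr_dt (K21.f187985 IH) (Lpe (K10.f187977 IH) (Lpr_ct (K10.f28685 IH) (Lpe (K9.f182095 IH) (Lpr_ct (K9.f182571 IH) (Lpn (LP (LK LD1_c4 LD2_c6 LD3_c39))))))))))))
theorem f602765 : Led Lsl_gf (LP (LK LD1_c11 LD2_c52 LD3_c53)) = (LP (LK LD1_c6 LD2_c4 LD3_c51)) :=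
  Lgr Lrot144 (Lpr_dt (f602753 IH) (Lpr_gt (K10.f190189 IH) (Lpe (K39.f555213 IH) (Lpr_cf (K39.f182575 IH) (Lpr_df (f554638 IH) (Lpe (K9.f55050 IH) (Lpr_df (K16.f274102 IH) (Lpe (K16.f274118 IH) (Lpe (f266722 IH) (Lpn (LP (LK LD1_c6 LD2_c4 LD3_c51))))))))))))
theorem f266724 : Led Lsl_cf (LP (LK LD1_c6 LD2_c4 LD3_c51)) = (LP (LK LD1_c8 LD2_c13 LD3_c60)) :=
  Lgr Lrot14 (Lpe (f256258 IH) (Lpe (K15.f256849 IH) (Lpr_df (K16.f256847 IH) (Lpe (K16.f190111 IH) (Lpr_ct (K15.f190161 IH) (Lpr_gt (K15.f266710 IH) (Lpr_dt (K16.f252113 IH) (Lpe (K16.f252594 IH) (Lpr_dt (K16.f182767 IH) (Lpn (LP (LK LD1_c8 LD2_c13 LD3_c60))))))))))))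
theorem f182776 : Led Lsl_bt (LP (LK LD1_c8 LD2_c13 LD3_c58)) = (LP (LK LD1_c4 LD2_c6 LD3_c41)) :=
  Lre_b IH (LK LD1_c8 LD2_c13 LD3_c58) (LK LD1_c4 LD2_c6 LD3_c41) Lrfl Lrfl
theorem f191960 : Led Lsl_bt (LP (LK LD1_c8 LD2_c13 LD3_c22)) = (LP (LK LD1_c4 LD2_c6 LD3_c24)) :=
  Lre_b IH (LK LD1_c8 LD2_c13 LD3_c22) (LK LD1_c4 LD2_c6 LD3_c24) Lrfl Lrfl
theorem f363771 : Led Lsl_ft (LP (LK LD1_c15 LD2_c27 LD3_c28)) = (LP (LK LD1_c8 LD2_c13 LD3_c22)) :=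
  Lgr Lrot75 (Lpe (K27.f175309 IH) (Lpr_ff (K26.f363767 IH) (Lpe (f191960 IH) (Lpn (LP (LK LD1_c8 LD2_c13 LD3_c22))))))
theorem f378026 : Led Lsl_at (LP (LK LD1_c8 LD2_c13 LD3_c22)) = (LP (LK LD1_c15 LD2_c28 LD3_c2)) :=
  Lre_a IH (LK LD1_c8 LD2_c13 LD3_c22) (LK LD1_c15 LD2_c28 LD3_c2) Lrfl Lrfl
theorem f378077 : Led Lsl_gt (LP (LK LD1_c25 LD2_c19 LD3_c8)) = (LP (LK LD1_c15 LD2_c28 LD3_c2)) :=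
  Lgr Lrot46 (Lpe (f175310 IH) (Lpr_ft (f363771 IH) (Lpr_at (f378026 IH) (Lpn (LP (LK LD1_c15 LD2_c28 LD3_c2))))))
theorem f217582 : Led Lsl_at (LP (LK LD1_c15 LD2_c27 LD3_c26)) = (LP (LK LD1_c25 LD2_c19 LD3_c6)) :=
  Lre_a IH (LK LD1_c15 LD2_c27 LD3_c26) (LK LD1_c25 LD2_c19 LD3_c6) Lrfl Lrfl
theorem f191956 : Led Lsl_at (LP (LK LD1_c15 LD2_c28 LD3_c2)) = (LP (LK LD1_c8 LD2_c13 LD3_c22)) :=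
  Lre_a IH (LK LD1_c15 LD2_c28 LD3_c2) (LK LD1_c8 LD2_c13 LD3_c22) Lrfl Lrfl
theorem f363789 : Led Lsl_bt (LP (LK LD1_c25 LD2_c19 LD3_c6)) = (LP (LK LD1_c15 LD2_c28 LD3_c2)) :=
  Lgr Lrot62 (Lpe (f217582 IH) (Lpe (K45.f182213 IH) (Lpr_af (K26.f363787 IH) (Lpe (f191960 IH) (Lpe (f191956 IH) (Lpn (LP (LK LD1_c15 LD2_c28 LD3_c2))))))))
theorem f217604 : Led Lsl_cf (LP (LK LD1_c18 LD2_c52 LD3_c25)) = (LP (LK LD1_c25 LD2_c19 LD3_c6)) :=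
  Lgr Lrot1 (Lpr_at (K45.f214735 IH) (Lpr_ct (K45.f217602 IH) (Lpr_at (f217582 IH) (Lpn (LP (LK LD1_c25 LD2_c19 LD3_c6))))))
theorem f602827 : Led Lsl_gf (LP (LK LD1_c15 LD2_c29 LD3_c18)) = (LP (LK LD1_c18 LD2_c52 LD3_c25)) :=
  Lgr Lrot126 (Lpe (K45.f55485 IH) (Lpr_bt (f182776 IH) (Lpr_gt (K16.f54675 IH) (Lpe (f266724 IH) (Lpe (f602765 IH) (Lpe (f602734 IH) (Lpr_bt (f602821 IH) (Lpr_gt (f378077 IH) (Lpe (f363789 IH) (Lpe (f217604 IH) (Lpn (LP (LK LD1_c18 LD2_c52 LD3_c25)))))))))))))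
theorem f602831 : Led Lsl_gt (LP (LK LD1_c15 LD2_c29 LD3_c18)) = (LP (LK LD1_c15 LD2_c28 LD3_c13)) :=
  Lgr Lrot46 (Lpr_gf (f602827 IH) (Lpe (K45.f375013 IH) (Lpr_at (K27.f287894 IH) (Lpn (LP (LK LD1_c15 LD2_c28 LD3_c13))))))
theorem f204987 : Led Lsl_gt (LP (LK LD1_c15 LD2_c28 LD3_c13)) = (LP (LK LD1_c25 LD2_c20 LD3_c12)) :=
  Lre_g IH (LK LD1_c15 LD2_c28 LD3_c13) (LK LD1_c25 LD2_c20 LD3_c12) Lrfl Lrfl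
theorem f602845 : Led Lsl_at (LP (LK LD1_c18 LD2_c52 LD3_c24)) = (LP (LK LD1_c25 LD2_c20 LD3_c12)) :=
  Lgr Lrot26 (Lpe (K45.f586607 IH) (Lpr_gt (f602831 IH) (Lpr_gt (f204987 IH) (Lpn (LP (LK LD1_c25 LD2_c20 LD3_c12))))))
theorem f291517 : Led Lsl_at (LP (LK LD1_c25 LD2_c21 LD3_c50)) = (LP (LK LD1_c15 LD2_c29 LD3_c20)) :=
  Lre_a IH (LK LD1_c25 LD2_c21 LD3_c50) (LK LD1_c15 LD2_c29 LD3_c20) Lrfl Lrfl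
theorem f603037 : Led Lsl_cf (LP (LK LD1_c25 LD2_c21 LD3_c50)) = (LP (LK LD1_c25 LD2_c20 LD3_c12)) :=
  Lgr Lrot1 (Lpr_at (f291517 IH) (Lpr_ct (f586603 IH) (Lpr_at (f602845 IH) (Lpn (LP (LK LD1_c25 LD2_c20 LD3_c12))))))
theorem f291518 : Led Lsl_dt (LP (LK LD1_c25 LD2_c21 LD3_c50)) = (LP (LK LD1_c15 LD2_c29 LD3_c8)) :=
  Lre_d IH (LK LD1_c25 LD2_c21 LD3_c50) (LK LD1_c15 LD2_c29 LD3_c8) Lrfl Lrfl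
theorem f554905 : Led Lsl_ct (LP (LK LD1_c8 LD2_c14 LD3_c27)) = (LP (LK LD1_c15 LD2_c29 LD3_c8)) :=
  Lre_c IH (LK LD1_c8 LD2_c14 LD3_c27) (LK LD1_c15 LD2_c29 LD3_c8) Lrfl Lrfl
theorem f554652 : Led Lsl_gt (LP (LK LD1_c4 LD2_c6 LD3_c59)) = (LP (LK LD1_c8 LD2_c14 LD3_c27)) :=
  Lre_g IH (LK LD1_c4 LD2_c6 LD3_c59) (LK LD1_c8 LD2_c14 LD3_c27) Lrfl Lrfl
theorem f554725 : Led Lsl_gt (LP (LK LD1_c15 LD2_c30 LD3_c17)) = (LP (LK LD1_c8 LD2_c14 LD3_c30)) :=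
  Lre_g IH (LK LD1_c15 LD2_c30 LD3_c17) (LK LD1_c8 LD2_c14 LD3_c30) Lrfl Lrfl
theorem f603043 : Led Lsl_dt (LP (LK LD1_c15 LD2_c30 LD3_c17)) = (LP (LK LD1_c15 LD2_c28 LD3_c18)) :=
  Lgr Lrot6 (Lpr_gt (f554725 IH) (Lpr_ct (K39.f182925 IH) (Lpr_gt (f554652 IH) (Lpr_ct (f554905 IH) (Lpe (f291518 IH) (Lpr_cf (f603037 IH) (Lpe (f204987 IH) (Lpe (K45.f266678 IH) (Lpe (f252596 IH) (Lpn (LP (LK LD1_c15 LD2_c28 LD3_c18))))))))))))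
theorem f216271 : Led Lsl_gt (LP (LK LD1_c8 LD2_c14 LD3_c34)) = (LP (LK LD1_c15 LD2_c30 LD3_c17)) :=
  Lre_g IH (LK LD1_c8 LD2_c14 LD3_c34) (LK LD1_c15 LD2_c30 LD3_c17) Lrfl Lrfl
theorem f194289 : Led Lsl_ct (LP (LK LD1_c4 LD2_c6 LD3_c60)) = (LP (LK LD1_c8 LD2_c14 LD3_c34)) :=
  Lre_c IH (LK LD1_c4 LD2_c6 LD3_c60) (LK LD1_c8 LD2_c14 LD3_c34) Lrfl Lrfl
theorem f54889 : Led Lsl_gt (LP (LK LD1_c4 LD2_c6 LD3_c60)) = (LP (LK LD1_c2 LD2_c0 LD3_c51)) :=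
  Lre_g IH (LK LD1_c4 LD2_c6 LD3_c60) (LK LD1_c2 LD2_c0 LD3_c51) Lrfl Lrfl
theorem f54800 : Led Lsl_dt (LP (LK LD1_c2 LD2_c0 LD3_c51)) = (LP (LK LD1_c4 LD2_c7 LD3_c0)) :=
  Lre_d IH (LK LD1_c2 LD2_c0 LD3_c51) (LK LD1_c4 LD2_c7 LD3_c0) Lrfl Lrfl
theorem f751054 : Led Lsl_dt (LP (LK LD1_c8 LD2_c14 LD3_c36)) = v16679 :=
  Lgr Lrot113 (Lpe (K30.f54806 IH) (Lpe (f54800 IH) (Lpe (f54889 IH) (Lpr_ct (f194289 IH) (Lpr_gt (f216271 IH) (Lpr_dt (f603043 IH) (Lpr_gt (f252596 IH) (Lpr_dt (f375010 IH) (Lpr_ct (f751053 IH) (Lpn v16679))))))))))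
theorem f444467 : Led Lsl_ct (LP (LK LD1_c15 LD2_c30 LD3_c27)) = (LP (LK LD1_c8 LD2_c14 LD3_c36)) :=
  Lre_c IH (LK LD1_c15 LD2_c30 LD3_c27) (LK LD1_c8 LD2_c14 LD3_c36) Lrfl Lrfl
theorem f603491 : Led Lsl_dt (LP (LK LD1_c25 LD2_c23 LD3_c40)) = (LP (LK LD1_c15 LD2_c30 LD3_c27)) :=
  Lre_d IH (LK LD1_c25 LD2_c23 LD3_c40) (LK LD1_c15 LD2_c30 LD3_c27) Lrfl Lrfl
theorem f226063 : Led Lsl_bt (LP (LK LD1_c2 LD2_c58 LD3_c53)) = (LP (LK LD1_c6 LD2_c5 LD3_c36)) :=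
  Lre_b IH (LK LD1_c2 LD2_c58 LD3_c53) (LK LD1_c6 LD2_c5 LD3_c36) Lrfl Lrfl
theorem f226115 : Led Lsl_gt (LP (LK LD1_c8 LD2_c14 LD3_c17)) = (LP (LK LD1_c4 LD2_c6 LD3_c52)) :=
  Lre_g IH (LK LD1_c8 LD2_c14 LD3_c17) (LK LD1_c4 LD2_c6 LD3_c52) Lrfl Lrfl
theorem f226116 : Led Lsl_bt (LP (LK LD1_c15 LD2_c29 LD3_c56)) = (LP (LK LD1_c8 LD2_c14 LD3_c17)) :=
  Lre_b IH (LK LD1_c15 LD2_c29 LD3_c56) (LK LD1_c8 LD2_c14 LD3_c17) Lrfl Lrfl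
theorem f182796 : Led Lsl_bt (LP (LK LD1_c8 LD2_c13 LD3_c60)) = (LP (LK LD1_c15 LD2_c29 LD3_c22)) :=
  Lre_b IH (LK LD1_c8 LD2_c13 LD3_c60) (LK LD1_c15 LD2_c29 LD3_c22) Lrfl Lrfl
theorem f338428 : Led Lsl_ct (LP (LK LD1_c20 LD2_c56 LD3_c15)) = (LP (LK LD1_c11 LD2_c53 LD3_c3)) :=
  Lre_c IH (LK LD1_c20 LD2_c56 LD3_c15) (LK LD1_c11 LD2_c53 LD3_c3) Lrfl Lrfl
theorem f253045 : Led Lsl_bt (LP (LK LD1_c8 LD2_c6 LD3_c42)) = (LP (LK LD1_c4 LD2_c3 LD3_c3)) :=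
  Lre_b IH (LK LD1_c8 LD2_c6 LD3_c42) (LK LD1_c4 LD2_c3 LD3_c3) Lrfl Lrfl
theorem f338333 : Led Lsl_at (LP (LK LD1_c15 LD2_c16 LD3_c27)) = (LP (LK LD1_c8 LD2_c6 LD3_c42)) :=
  Lre_a IH (LK LD1_c15 LD2_c16 LD3_c27) (LK LD1_c8 LD2_c6 LD3_c42) Lrfl Lrfl
theorem f216203 : Led Lsl_at (LP (LK LD1_c11 LD2_c52 LD3_c61)) = (LP (LK LD1_c20 LD2_c56 LD3_c15)) :=
  Lre_a IH (LK LD1_c11 LD2_c52 LD3_c61) (LK LD1_c20 LD2_c56 LD3_c15) Lrfl Lrfl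
theorem f338334 : Led Lsl_bf (LP (LK LD1_c15 LD2_c16 LD3_c27)) = (LP (LK LD1_c20 LD2_c56 LD3_c15)) :=
  Lgr Lrot81 (Lpr_at (f338333 IH) (Lpr_bt (f253045 IH) (Lpr_at (K22.f338331 IH) (Lpr_bt (f187857 IH) (Lpr_at (f216203 IH) (Lpn (LP (LK LD1_c20 LD2_c56 LD3_c15))))))))
theorem f395781 : Led Lsl_bt (LP (LK LD1_c15 LD2_c16 LD3_c27)) = (LP (LK LD1_c20 LD2_c56 LD3_c15)) :=
  Lgr Lrot127 (Lpr_bf (f338334 IH) (Lpn (LP (LK LD1_c20 LD2_c56 LD3_c15))))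
theorem f602693 : Led Lsl_ct (LP (LK LD1_c15 LD2_c29 LD3_c22)) = (LP (LK LD1_c15 LD2_c16 LD3_c27)) :=
  Lgr Lrot83 (Lpe (f182796 IH) (Lpe (f266722 IH) (Lpr_bf (f602688 IH) (Lpe (f338428 IH) (Lpe (f395781 IH) (Lpn (LP (LK LD1_c15 LD2_c16 LD3_c27))))))))
theorem f182763 : Led Lsl_bt (LP (LK LD1_c15 LD2_c29 LD3_c22)) = (LP (LK LD1_c8 LD2_c13 LD3_c60)) :=
  Lre_b IH (LK LD1_c15 LD2_c29 LD3_c22) (LK LD1_c8 LD2_c13 LD3_c60) Lrfl Lrfl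
theorem f274125 : Led Lsl_bt (LP (LK LD1_c8 LD2_c13 LD3_c34)) = (LP (LK LD1_c15 LD2_c28 LD3_c20)) :=
  Lre_b IH (LK LD1_c8 LD2_c13 LD3_c34) (LK LD1_c15 LD2_c28 LD3_c20) Lrfl Lrfl
theorem f274126 : Led Lsl_gt (LP (LK LD1_c15 LD2_c28 LD3_c20)) = (LP (LK LD1_c25 LD2_c20 LD3_c22)) :=
  Lre_g IH (LK LD1_c15 LD2_c28 LD3_c20) (LK LD1_c25 LD2_c20 LD3_c22) Lrfl Lrfl
theorem f30994 : Led Lsl_bt (LP (LK LD1_c4 LD2_c3 LD3_c3)) = (LP (LK LD1_c8 LD2_c6 LD3_c42)) :=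
  Lre_b IH (LK LD1_c4 LD2_c3 LD3_c3) (LK LD1_c8 LD2_c6 LD3_c42) Lrfl Lrfl
theorem f253028 : Led Lsl_bt (LP (LK LD1_c15 LD2_c8 LD3_c61)) = (LP (LK LD1_c8 LD2_c2 LD3_c46)) :=
  Lre_b IH (LK LD1_c15 LD2_c8 LD3_c61) (LK LD1_c8 LD2_c2 LD3_c46) Lrfl Lrfl
theorem f338327 : Led Lsl_ft (LP (LK LD1_c8 LD2_c6 LD3_c42)) = (LP (LK LD1_c15 LD2_c8 LD3_c61)) :=
  Lgr Lrot75 (Lpe (f30994 IH) (Lpr_ff (K22.f338325 IH) (Lpe (f253028 IH) (Lpn (LP (LK LD1_c15 LD2_c8 LD3_c61))))))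
theorem f395786 : Led Lsl_ff (LP (LK LD1_c8 LD2_c6 LD3_c42)) = (LP (LK LD1_c15 LD2_c8 LD3_c61)) :=
  Lgr Lrot3 (Lpr_ft (f338327 IH) (Lpn (LP (LK LD1_c15 LD2_c8 LD3_c61))))
theorem f395784 : Led Lsl_at (LP (LK LD1_c8 LD2_c6 LD3_c42)) = (LP (LK LD1_c15 LD2_c16 LD3_c27)) :=
  Lre_a IH (LK LD1_c8 LD2_c6 LD3_c42) (LK LD1_c15 LD2_c16 LD3_c27) Lrfl Lrfl
theorem f31027 : Led Lsl_gt (LP (LK LD1_c15 LD2_c8 LD3_c61)) = (LP (LK LD1_c24 LD2_c57 LD3_c53)) :=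
  Lre_g IH (LK LD1_c15 LD2_c8 LD3_c61) (LK LD1_c24 LD2_c57 LD3_c53) Lrfl Lrfl
theorem f395789 : Led Lsl_gf (LP (LK LD1_c15 LD2_c16 LD3_c27)) = (LP (LK LD1_c24 LD2_c57 LD3_c53)) :=
  Lgr Lrot76 (Lpe (f395784 IH) (Lpr_ff (f395786 IH) (Lpr_gt (f31027 IH) (Lpn (LP (LK LD1_c24 LD2_c57 LD3_c53))))))
theorem f253030 : Led Lsl_ct (LP (LK LD1_c31 LD2_c43 LD3_c37)) = (LP (LK LD1_c24 LD2_c57 LD3_c53)) :=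
  Lre_c IH (LK LD1_c31 LD2_c43 LD3_c37) (LK LD1_c24 LD2_c57 LD3_c53) Lrfl Lrfl
theorem f603157 : Led Lsl_bf (LP (LK LD1_c25 LD2_c20 LD3_c22)) = (LP (LK LD1_c31 LD2_c43 LD3_c37)) :=
  Lgr Lrot34 (Lpe (f274126 IH) (Lpe (f274125 IH) (Lpe (K16.f274092 IH) (Lpe (K16.f187486 IH) (Lpe (K16.f187781 IH) (Lpe (K16.f274118 IH) (Lpe (f182763 IH) (Lpr_ct (f602693 IH) (Lpr_gf (f395789 IH) (Lpe (f253030 IH) (Lpn (LP (LK LD1_c31 LD2_c43 LD3_c37)))))))))))))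
theorem f253029 : Led Lsl_ct (LP (LK LD1_c24 LD2_c57 LD3_c53)) = (LP (LK LD1_c31 LD2_c43 LD3_c37)) :=
  Lre_c IH (LK LD1_c24 LD2_c57 LD3_c53) (LK LD1_c31 LD2_c43 LD3_c37) Lrfl Lrfl
theorem f31026 : Led Lsl_bt (LP (LK LD1_c8 LD2_c2 LD3_c46)) = (LP (LK LD1_c15 LD2_c8 LD3_c61)) :=
  Lre_b IH (LK LD1_c8 LD2_c2 LD3_c46) (LK LD1_c15 LD2_c8 LD3_c61) Lrfl Lrfl
theorem f265726 : Led Lsl_ct (LP (LK LD1_c15 LD2_c29 LD3_c57)) = (LP (LK LD1_c8 LD2_c14 LD3_c17)) :=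
  Lre_c IH (LK LD1_c15 LD2_c29 LD3_c57) (LK LD1_c8 LD2_c14 LD3_c17) Lrfl Lrfl
theorem f265727 : Led Lsl_bf (LP (LK LD1_c24 LD2_c57 LD3_c53)) = (LP (LK LD1_c15 LD2_c29 LD3_c57)) :=
  Lgr Lrot34 (Lpe (f31027 IH) (Lpe (f31026 IH) (Lpr_ct (K15.f194413 IH) (Lpe (K15.f265034 IH) (Lpr_cf (K15.f265714 IH) (Lpe (K15.f233750 IH) (Lpe (K25.f265725 IH) (Lpr_ct (K45.f226076 IH) (Lpe (f226115 IH) (Lpe (f265726 IH) (Lpn (LP (LK LD1_c15 LD2_c29 LD3_c57)))))))))))))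
theorem f265734 : Led Lsl_ct (LP (LK LD1_c8 LD2_c14 LD3_c17)) = (LP (LK LD1_c15 LD2_c29 LD3_c57)) :=
  Lre_c IH (LK LD1_c8 LD2_c14 LD3_c17) (LK LD1_c15 LD2_c29 LD3_c57) Lrfl Lrfl
theorem f603161 : Led Lsl_ct (LP (LK LD1_c25 LD2_c20 LD3_c22)) = (LP (LK LD1_c15 LD2_c29 LD3_c56)) :=
  Lgr Lrot83 (Lpr_bf (f603157 IH) (Lpe (f253029 IH) (Lpr_bf (f265727 IH) (Lpe (f265734 IH) (Lpe (f226116 IH) (Lpn (LP (LK LD1_c15 LD2_c29 LD3_c56))))))))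
theorem f603163 : Led Lsl_cf (LP (LK LD1_c25 LD2_c20 LD3_c22)) = (LP (LK LD1_c15 LD2_c29 LD3_c56)) :=
  Lgr Lrot11 (Lpr_ct (f603161 IH) (Lpn (LP (LK LD1_c15 LD2_c29 LD3_c56))))
theorem f751052 : Led Lsl_cf (LP (LK LD1_c15 LD2_c28 LD3_c20)) = v16679 :=
  Lgr Lrot125 (Lpr_gt (f274126 IH) (Lpr_cf (f603163 IH) (Lpr_bt (f226116 IH) (Lpr_gt (f226115 IH) (Lpe (K25.f187533 IH) (Lpr_ct (K14.f187532 IH) (Lpe (K14.f226065 IH) (Lpe (K15.f183881 IH) (Lpr_bt (f226063 IH) (Lpr_gt (f751050 IH) (Lpn v16679)))))))))))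
theorem f375019 : Led Lsl_dt (LP (LK LD1_c15 LD2_c28 LD3_c20)) = (LP (LK LD1_c8 LD2_c13 LD3_c33)) :=
  Lre_d IH (LK LD1_c15 LD2_c28 LD3_c20) (LK LD1_c8 LD2_c13 LD3_c33) Lrfl Lrfl
theorem f191492 : Led Lsl_bt (LP (LK LD1_c8 LD2_c15 LD3_c33)) = (LP (LK LD1_c15 LD2_c31 LD3_c51)) :=
  Lre_b IH (LK LD1_c8 LD2_c15 LD3_c33) (LK LD1_c15 LD2_c31 LD3_c51) Lrfl Lrfl
theorem f191171 : Led Lsl_bt (LP (LK LD1_c10 LD2_c24 LD3_c4)) = (LP (LK LD1_c5 LD2_c17 LD3_c15)) :=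
  Lre_b IH (LK LD1_c10 LD2_c24 LD3_c4) (LK LD1_c5 LD2_c17 LD3_c15) Lrfl Lrfl
theorem f214715 : Led Lsl_dt (LP (LK LD1_c15 LD2_c31 LD3_c51)) = (LP (LK LD1_c10 LD2_c24 LD3_c4)) :=
  Lgr Lrot79 (Lpe (f191492 IH) (Lpr_df (K13.f214711 IH) (Lpe (f191171 IH) (Lpn (LP (LK LD1_c10 LD2_c24 LD3_c4))))))
theorem f214724 : Led Lsl_at (LP (LK LD1_c25 LD2_c24 LD3_c57)) = (LP (LK LD1_c15 LD2_c31 LD3_c51)) :=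
  Lre_a IH (LK LD1_c25 LD2_c24 LD3_c57) (LK LD1_c15 LD2_c31 LD3_c51) Lrfl Lrfl
theorem f214726 : Led Lsl_df (LP (LK LD1_c25 LD2_c24 LD3_c57)) = (LP (LK LD1_c18 LD2_c52 LD3_c25)) :=
  Lgr Lrot18 (Lpr_at (f214724 IH) (Lpr_dt (f214715 IH) (Lpr_at (K45.f214725 IH) (Lpn (LP (LK LD1_c18 LD2_c52 LD3_c25))))))
theorem f751056 : Led Lsl_cf (LP (LK LD1_c25 LD2_c23 LD3_c40)) = (LP (LK LD1_c25 LD2_c24 LD3_c57)) :=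
  Lgr Lrot118 (Lpr_dt (f603491 IH) (Lpr_ct (f444467 IH) (Lpr_dt (f751054 IH) (Lpe (f751052 IH) (Lpr_dt (f375019 IH) (Lpr_ct (K45.f266678 IH) (Lpe (K27.f287894 IH) (Lpr_ff (K45.f375013 IH) (Lpe (f214726 IH) (Lpn (LP (LK LD1_c25 LD2_c24 LD3_c57))))))))))))
theorem f751057 : Led Lsl_ct (LP (LK LD1_c25 LD2_c24 LD3_c57)) = (LP (LK LD1_c25 LD2_c23 LD3_c40)) :=
  Leop (Lpr_cf (f751056 IH) (Lpn (LP (LK LD1_c25 LD2_c24 LD3_c57))))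
theorem seed_1048 : LEOK LG_c (LK LD1_c25 LD2_c24 LD3_c57) :=
  Leoe_c (LK LD1_c25 LD2_c24 LD3_c57) (f751057 IH)
def v16693 : LQ := Led Lsl_et (LP (LK LD1_c6 LD2_c5 LD3_c47))
theorem f751128 : Led Lsl_et (LP (LK LD1_c6 LD2_c5 LD3_c47)) = v16693 :=
  Lrfl
theorem f366167 : Led Lsl_df (LP (LK LD1_c10 LD2_c44 LD3_c1)) = (LP (LK LD1_c6 LD2_c5 LD3_c47)) :=
  Lgr Lrot38 (Lpr_dt (K27.f366163 IH) (Lpn (LP (LK LD1_c6 LD2_c5 LD3_c47))))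
theorem f285656 : Led Lsl_et (LP (LK LD1_c2 LD2_c39 LD3_c38)) = (LP (LK LD1_c5 LD2_c26 LD3_c26)) :=
  Lre_e IH (LK LD1_c2 LD2_c39 LD3_c38) (LK LD1_c5 LD2_c26 LD3_c26) Lrfl Lrfl
theorem f245109 : Led Lsl_gt (LP (LK LD1_c5 LD2_c26 LD3_c26)) = (LP (LK LD1_c10 LD2_c44 LD3_c3)) :=
  Lre_g IH (LK LD1_c5 LD2_c26 LD3_c26) (LK LD1_c10 LD2_c44 LD3_c3) Lrfl Lrfl
theorem f285616 : Led Lsl_dt (LP (LK LD1_c10 LD2_c44 LD3_c3)) = (LP (LK LD1_c19 LD2_c25 LD3_c32)) :=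
  Lre_d IH (LK LD1_c10 LD2_c44 LD3_c3) (LK LD1_c19 LD2_c25 LD3_c32) Lrfl Lrfl
theorem f236432 : Led Lsl_dt (LP (LK LD1_c25 LD2_c32 LD3_c20)) = (LP (LK LD1_c15 LD2_c37 LD3_c28)) :=
  Lre_d IH (LK LD1_c25 LD2_c32 LD3_c20) (LK LD1_c15 LD2_c37 LD3_c28) Lrfl Lrfl
theorem f285617 : Led Lsl_gt (LP (LK LD1_c19 LD2_c25 LD3_c32)) = (LP (LK LD1_c25 LD2_c32 LD3_c20)) :=
  Lgr Lrot49 (Lpe (f285616 IH) (Lpe (f245109 IH) (Lpe (K22.f285615 IH) (Lpr_gt (K21.f285597 IH) (Lpr_dt (K21.f285603 IH) (Lpr_gt (K22.f285611 IH) (Lpr_dt (K22.f236420 IH) (Lpe (K23.f236431 IH) (Lpe (f236432 IH) (Lpn (LP (LK LD1_c25 LD2_c32 LD3_c20))))))))))))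
theorem f236424 : Led Lsl_dt (LP (LK LD1_c15 LD2_c37 LD3_c28)) = (LP (LK LD1_c25 LD2_c32 LD3_c20)) :=
  Lre_d IH (LK LD1_c15 LD2_c37 LD3_c28) (LK LD1_c25 LD2_c32 LD3_c20) Lrfl Lrfl
theorem f263026 : Led Lsl_ct (LP (LK LD1_c18 LD2_c54 LD3_c11)) = (LP (LK LD1_c10 LD2_c25 LD3_c9)) :=
  Lre_c IH (LK LD1_c18 LD2_c54 LD3_c11) (LK LD1_c10 LD2_c25 LD3_c9) Lrfl Lrfl
theorem f285627 : Led Lsl_ef (LP (LK LD1_c18 LD2_c54 LD3_c11)) = (LP (LK LD1_c15 LD2_c37 LD3_c28)) :=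
  Lgr Lrot28 (Lpr_ct (f263026 IH) (Lpr_et (K22.f285625 IH) (Lpr_ct (K23.f236423 IH) (Lpn (LP (LK LD1_c15 LD2_c37 LD3_c28))))))
theorem f751132 : Led Lsl_gt (LP (LK LD1_c18 LD2_c54 LD3_c11)) = v16693 :=
  Lgr Lrot131 (Lpr_ef (f285627 IH) (Lpr_dt (f236424 IH) (Lpe (f285617 IH) (Lpe (f285616 IH) (Lpe (f245109 IH) (Lpe (f285656 IH) (Lpr_dt (K18.f195800 IH) (Lpe (K18.f8515 IH) (Lpr_df (f366167 IH) (Lpr_et (f751128 IH) (Lpn v16693)))))))))))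
theorem f263024 : Led Lsl_ct (LP (LK LD1_c10 LD2_c25 LD3_c9)) = (LP (LK LD1_c18 LD2_c54 LD3_c11)) :=
  Lre_c IH (LK LD1_c10 LD2_c25 LD3_c9) (LK LD1_c18 LD2_c54 LD3_c11) Lrfl Lrfl
theorem f237842 : Led Lsl_bf (LP (LK LD1_c5 LD2_c4 LD3_c54)) = (LP (LK LD1_c5 LD2_c25 LD3_c51)) :=
  Lgr Lrot24 (Lpr_bt (K15.f237839 IH) (Lpn (LP (LK LD1_c5 LD2_c25 LD3_c51))))
theorem f273427 : Led Lsl_bf (LP (LK LD1_c8 LD2_c56 LD3_c42)) = (LP (LK LD1_c10 LD2_c0 LD3_c54)) :=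
  Lgr Lrot61 (Lpr_ft (K16.f273417 IH) (Lpe (f237842 IH) (Lpr_ft (K17.f192613 IH) (Lpn (LP (LK LD1_c10 LD2_c0 LD3_c54))))))
theorem f751135 : Led Lsl_ct (LP (LK LD1_c11 LD2_c4 LD3_c30)) = v16693 :=
  Lgr Lrot63 (Lpr_bt (K16.f274770 IH) (Lpr_gt (K16.f189277 IH) (Lpe (K24.f322765 IH) (Lpr_ct (K25.f341956 IH) (Lpe (K53.f345025 IH) (Lpe (K23.f192622 IH) (Lpe (f273427 IH) (Lpr_gt (K22.f275786 IH) (Lpr_ct (f263024 IH) (Lpr_gt (f751132 IH) (Lpn v16693)))))))))))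
theorem f323672 : Led Lsl_dt (LP (LK LD1_c19 LD2_c57 LD3_c4)) = (LP (LK LD1_c18 LD2_c13 LD3_c40)) :=
  Lgr Lrot42 (Lpr_df (K26.f323617 IH) (Lpn (LP (LK LD1_c18 LD2_c13 LD3_c40))))
theorem f353091 : Led Lsl_dt (LP (LK LD1_c15 LD2_c51 LD3_c10)) = (LP (LK LD1_c10 LD2_c24 LD3_c20)) :=
  Lgr Lrot42 (Lpr_df (K25.f353089 IH) (Lpn (LP (LK LD1_c10 LD2_c24 LD3_c20))))
theorem f201159 : Led Lsl_et (LP (LK LD1_c2 LD2_c4 LD3_c28)) = (LP (LK LD1_c4 LD2_c14 LD3_c10)) :=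
  Lre_e IH (LK LD1_c2 LD2_c4 LD3_c28) (LK LD1_c4 LD2_c14 LD3_c10) Lrfl Lrfl
theorem f201146 : Led Lsl_gt (LP (LK LD1_c4 LD2_c14 LD3_c10)) = (LP (LK LD1_c8 LD2_c26 LD3_c52)) :=
  Lre_g IH (LK LD1_c4 LD2_c14 LD3_c10) (LK LD1_c8 LD2_c26 LD3_c52) Lrfl Lrfl
theorem f353097 : Led Lsl_et (LP (LK LD1_c15 LD2_c51 LD3_c10)) = (LP (LK LD1_c8 LD2_c26 LD3_c52)) :=
  Lgr Lrot122 (Lpr_dt (f353091 IH) (Lpr_gt (K25.f187708 IH) (Lpr_df (K10.f191730 IH) (Lpr_et (K25.f187211 IH) (Lpr_gt (K14.f213778 IH) (Lpr_dt (K14.f168529 IH) (Lpr_gt (K12.f168344 IH) (Lpr_df (K14.f220528 IH) (Lpr_et (f201159 IH) (Lpr_gt (f201146 IH) (Lpn (LP (LK LD1_c8 LD2_c26 LD3_c52)))))))))))))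
theorem f353099 : Led Lsl_ef (LP (LK LD1_c15 LD2_c51 LD3_c10)) = (LP (LK LD1_c8 LD2_c26 LD3_c52)) :=
  Lgr Lrot88 (Lpr_et (f353097 IH) (Lpn (LP (LK LD1_c8 LD2_c26 LD3_c52))))
theorem f323682 : Led Lsl_et (LP (LK LD1_c5 LD2_c36 LD3_c5)) = (LP (LK LD1_c11 LD2_c4 LD3_c30)) :=
  Lre_e IH (LK LD1_c5 LD2_c36 LD3_c5) (LK LD1_c11 LD2_c4 LD3_c30) Lrfl Lrfl
theorem f201147 : Led Lsl_dt (LP (LK LD1_c8 LD2_c26 LD3_c52)) = (LP (LK LD1_c15 LD2_c51 LD3_c40)) :=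
  Lre_d IH (LK LD1_c8 LD2_c26 LD3_c52) (LK LD1_c15 LD2_c51 LD3_c40) Lrfl Lrfl
theorem f353102 : Led Lsl_gt (LP (LK LD1_c18 LD2_c13 LD3_c40)) = (LP (LK LD1_c15 LD2_c51 LD3_c40)) :=
  Lgr Lrot139 (Lpe (f323672 IH) (Lpe (K26.f274759 IH) (Lpe (f323682 IH) (Lpr_dt (K16.f263665 IH) (Lpr_gf (K15.f263661 IH) (Lpe (K12.f189622 IH) (Lpr_et (K12.f189651 IH) (Lpe (K25.f189646 IH) (Lpr_ef (f353099 IH) (Lpr_dt (f201147 IH) (Lpn (LP (LK LD1_c15 LD2_c51 LD3_c40)))))))))))))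
theorem f259624 : Led Lsl_dt (LP (LK LD1_c15 LD2_c51 LD3_c40)) = (LP (LK LD1_c8 LD2_c26 LD3_c52)) :=
  Lre_d IH (LK LD1_c15 LD2_c51 LD3_c40) (LK LD1_c8 LD2_c26 LD3_c52) Lrfl Lrfl
theorem f281379 : Led Lsl_ct (LP (LK LD1_c8 LD2_c57 LD3_c14)) = (LP (LK LD1_c16 LD2_c45 LD3_c53)) :=
  Lre_c IH (LK LD1_c8 LD2_c57 LD3_c14) (LK LD1_c16 LD2_c45 LD3_c53) Lrfl Lrfl
theorem f201140 : Led Lsl_ct (LP (LK LD1_c9 LD2_c40 LD3_c44)) = (LP (LK LD1_c4 LD2_c54 LD3_c35)) :=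
  Lre_c IH (LK LD1_c9 LD2_c40 LD3_c44) (LK LD1_c4 LD2_c54 LD3_c35) Lrfl Lrfl
theorem f364991 : Led Lsl_gt (LP (LK LD1_c16 LD2_c45 LD3_c53)) = (LP (LK LD1_c9 LD2_c40 LD3_c44)) :=
  Lgr Lrot150 (Lpe (f281379 IH) (Lpe (K23.f342613 IH) (Lpe (K21.f330458 IH) (Lpr_gt (K26.f364983 IH) (Lpe (K26.f364029 IH) (Lpr_gt (K26.f257616 IH) (Lpr_ct (K23.f257613 IH) (Lpr_df (K15.f259592 IH) (Lpe (f201140 IH) (Lpn (LP (LK LD1_c9 LD2_c40 LD3_c44))))))))))))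
theorem f281378 : Led Lsl_bt (LP (LK LD1_c8 LD2_c57 LD3_c14)) = (LP (LK LD1_c4 LD2_c29 LD3_c30)) :=
  Lre_b IH (LK LD1_c8 LD2_c57 LD3_c14) (LK LD1_c4 LD2_c29 LD3_c30) Lrfl Lrfl
theorem f221347 : Led Lsl_gt (LP (LK LD1_c5 LD2_c31 LD3_c14)) = (LP (LK LD1_c10 LD2_c53 LD3_c34)) :=
  Lre_g IH (LK LD1_c5 LD2_c31 LD3_c14) (LK LD1_c10 LD2_c53 LD3_c34) Lrfl Lrfl
theorem f377849 : Led Lsl_cf (LP (LK LD1_c5 LD2_c31 LD3_c14)) = (LP (LK LD1_c8 LD2_c26 LD3_c52)) :=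
  Lgr Lrot125 (Lpr_gt (f221347 IH) (Lpe (K19.f221423 IH) (Lpe (K15.f261615 IH) (Lpr_gt (K23.f282493 IH) (Lpe (f281378 IH) (Lpr_ct (f281379 IH) (Lpr_gt (f364991 IH) (Lpe (K26.f201148 IH) (Lpe (K15.f201135 IH) (Lpr_gt (f201146 IH) (Lpn (LP (LK LD1_c8 LD2_c26 LD3_c52)))))))))))))
theorem f377852 : Led Lsl_ct (LP (LK LD1_c5 LD2_c31 LD3_c14)) = (LP (LK LD1_c8 LD2_c26 LD3_c52)) :=
  Lgr Lrot59 (Lpr_cf (f377849 IH) (Lpn (LP (LK LD1_c8 LD2_c26 LD3_c52))))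
theorem f377857 : Led Lsl_dt (LP (LK LD1_c10 LD2_c54 LD3_c5)) = (LP (LK LD1_c5 LD2_c31 LD3_c14)) :=
  Lre_d IH (LK LD1_c10 LD2_c54 LD3_c5) (LK LD1_c5 LD2_c31 LD3_c14) Lrfl Lrfl
theorem f377858 : Led Lsl_gt (LP (LK LD1_c19 LD2_c42 LD3_c3)) = (LP (LK LD1_c10 LD2_c54 LD3_c5)) :=
  Lre_g IH (LK LD1_c19 LD2_c42 LD3_c3) (LK LD1_c10 LD2_c54 LD3_c5) Lrfl Lrfl
theorem f630027 : Led Lsl_ft (LP (LK LD1_c2 LD2_c34 LD3_c58)) = (LP (LK LD1_c2 LD2_c35 LD3_c52)) :=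
  Lgr Lrot54 (Lpr_df (K19.f309776 IH) (Lpr_ff (K54.f630021 IH) (Lpe (K21.f185443 IH) (Lpn (LP (LK LD1_c2 LD2_c35 LD3_c52))))))
theorem f630035 : Led Lsl_ff (LP (LK LD1_c2 LD2_c34 LD3_c58)) = (LP (LK LD1_c2 LD2_c35 LD3_c52)) :=
  Lgr Lrot3 (Lpr_ft (f630027 IH) (Lpn (LP (LK LD1_c2 LD2_c35 LD3_c52))))
theorem f248715 : Led Lsl_ct (LP (LK LD1_c1 LD2_c11 LD3_c46)) = (LP (LK LD1_c2 LD2_c29 LD3_c16)) :=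
  Lre_c IH (LK LD1_c1 LD2_c11 LD3_c46) (LK LD1_c2 LD2_c29 LD3_c16) Lrfl Lrfl
theorem f285092 : Led Lsl_gt (LP (LK LD1_c2 LD2_c29 LD3_c16)) = (LP (LK LD1_c5 LD2_c3 LD3_c32)) :=
  Lre_g IH (LK LD1_c2 LD2_c29 LD3_c16) (LK LD1_c5 LD2_c3 LD3_c32) Lrfl Lrfl
theorem f351273 : Led Lsl_cf (LP (LK LD1_c5 LD2_c3 LD3_c32)) = (LP (LK LD1_c2 LD2_c35 LD3_c52)) :=
  Lgr Lrot58 (Lpe (f285092 IH) (Lpe (f248715 IH) (Lpr_bt (K23.f248619 IH) (Lpe (K17.f248485 IH) (Lpe (K25.f323608 IH) (Lpr_ct (K25.f323609 IH) (Lpe (K25.f351269 IH) (Lpe (K20.f180976 IH) (Lpr_gf (K25.f351265 IH) (Lpe (K22.f333384 IH) (Lpn (LP (LK LD1_c2 LD2_c35 LD3_c52)))))))))))))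
theorem f351279 : Led Lsl_ct (LP (LK LD1_c5 LD2_c3 LD3_c32)) = (LP (LK LD1_c2 LD2_c35 LD3_c52)) :=
  Lgr Lrot59 (Lpr_cf (f351273 IH) (Lpn (LP (LK LD1_c2 LD2_c35 LD3_c52))))
theorem f630041 : Led Lsl_ft (LP (LK LD1_c5 LD2_c10 LD3_c44)) = (LP (LK LD1_c5 LD2_c3 LD3_c32)) :=
  Lgr Lrot4 (Lpr_cf (K19.f255004 IH) (Lpr_ff (f630035 IH) (Lpe (f351279 IH) (Lpn (LP (LK LD1_c5 LD2_c3 LD3_c32))))))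
theorem f370948 : Led Lsl_bt (LP (LK LD1_c10 LD2_c12 LD3_c8)) = (LP (LK LD1_c5 LD2_c10 LD3_c44)) :=
  Lre_b IH (LK LD1_c10 LD2_c12 LD3_c8) (LK LD1_c5 LD2_c10 LD3_c44) Lrfl Lrfl
theorem f351275 : Led Lsl_bt (LP (LK LD1_c5 LD2_c3 LD3_c32)) = (LP (LK LD1_c9 LD2_c57 LD3_c61)) :=
  Lre_b IH (LK LD1_c5 LD2_c3 LD3_c32) (LK LD1_c9 LD2_c57 LD3_c61) Lrfl Lrfl
theorem f630043 : Led Lsl_ff (LP (LK LD1_c10 LD2_c12 LD3_c8)) = (LP (LK LD1_c9 LD2_c57 LD3_c61)) :=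
  Lgr Lrot25 (Lpr_bt (f370948 IH) (Lpr_ft (f630041 IH) (Lpr_bt (f351275 IH) (Lpn (LP (LK LD1_c9 LD2_c57 LD3_c61))))))
theorem f630071 : Led Lsl_ft (LP (LK LD1_c10 LD2_c12 LD3_c8)) = (LP (LK LD1_c9 LD2_c57 LD3_c61)) :=
  Lgr Lrot48 (Lpr_ff (f630043 IH) (Lpn (LP (LK LD1_c9 LD2_c57 LD3_c61))))
theorem f370949 : Led Lsl_ct (LP (LK LD1_c18 LD2_c35 LD3_c3)) = (LP (LK LD1_c10 LD2_c12 LD3_c8)) :=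
  Lre_c IH (LK LD1_c18 LD2_c35 LD3_c3) (LK LD1_c10 LD2_c12 LD3_c8) Lrfl Lrfl
theorem f351276 : Led Lsl_ct (LP (LK LD1_c9 LD2_c57 LD3_c61)) = (LP (LK LD1_c18 LD2_c14 LD3_c8)) :=
  Lre_c IH (LK LD1_c9 LD2_c57 LD3_c61) (LK LD1_c18 LD2_c14 LD3_c8) Lrfl Lrfl
theorem f630073 : Led Lsl_ff (LP (LK LD1_c18 LD2_c35 LD3_c3)) = (LP (LK LD1_c18 LD2_c14 LD3_c8)) :=
  Lgr Lrot23 (Lpr_ct (f370949 IH) (Lpr_ft (f630071 IH) (Lpr_ct (f351276 IH) (Lpn (LP (LK LD1_c18 LD2_c14 LD3_c8))))))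
theorem f370524 : Led Lsl_ct (LP (LK LD1_c5 LD2_c10 LD3_c44)) = (LP (LK LD1_c2 LD2_c34 LD3_c58)) :=
  Lgr Lrot8 (Lpr_gt (K19.f249946 IH) (Lpr_dt (K19.f171631 IH) (Lpe (K19.f249940 IH) (Lpr_dt (K19.f249945 IH) (Lpr_cf (K44.f370522 IH) (Lpr_df (K14.f185632 IH) (Lpe (K14.f254993 IH) (Lpr_df (K14.f254998 IH) (Lpe (K14.f170023 IH) (Lpn (LP (LK LD1_c2 LD2_c34 LD3_c58))))))))))))
theorem f370950 : Led Lsl_bf (LP (LK LD1_c18 LD2_c35 LD3_c3)) = (LP (LK LD1_c10 LD2_c21 LD3_c1)) :=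
  Lgr Lrot90 (Lpr_ct (f370949 IH) (Lpr_bt (f370948 IH) (Lpr_ct (f370524 IH) (Lpr_bt (K25.f336177 IH) (Lpr_ct (K22.f271605 IH) (Lpn (LP (LK LD1_c10 LD2_c21 LD3_c1))))))))
theorem f370952 : Led Lsl_bt (LP (LK LD1_c18 LD2_c35 LD3_c3)) = (LP (LK LD1_c10 LD2_c21 LD3_c1)) :=
  Lgr Lrot127 (Lpr_bf (f370950 IH) (Lpn (LP (LK LD1_c10 LD2_c21 LD3_c1))))
theorem f351284 : Led Lsl_bt (LP (LK LD1_c9 LD2_c57 LD3_c61)) = (LP (LK LD1_c5 LD2_c3 LD3_c32)) :=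
  Lre_b IH (LK LD1_c9 LD2_c57 LD3_c61) (LK LD1_c5 LD2_c3 LD3_c32) Lrfl Lrfl
theorem f351285 : Led Lsl_ct (LP (LK LD1_c18 LD2_c14 LD3_c8)) = (LP (LK LD1_c9 LD2_c57 LD3_c61)) :=
  Lre_c IH (LK LD1_c18 LD2_c14 LD3_c8) (LK LD1_c9 LD2_c57 LD3_c61) Lrfl Lrfl
theorem f351286 : Led Lsl_bf (LP (LK LD1_c18 LD2_c14 LD3_c8)) = (LP (LK LD1_c10 LD2_c26 LD3_c37)) :=
  Lgr Lrot90 (Lpr_ct (f351285 IH) (Lpr_bt (f351284 IH) (Lpr_ct (f351279 IH) (Lpr_bt (K22.f333384 IH) (Lpr_ct (K22.f333435 IH) (Lpn (LP (LK LD1_c10 LD2_c26 LD3_c37))))))))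
theorem f630075 : Led Lsl_ft (LP (LK LD1_c10 LD2_c21 LD3_c1)) = (LP (LK LD1_c10 LD2_c26 LD3_c37)) :=
  Lgr Lrot75 (Lpe (f370952 IH) (Lpr_ff (f630073 IH) (Lpr_bf (f351286 IH) (Lpn (LP (LK LD1_c10 LD2_c26 LD3_c37))))))
theorem f286390 : Led Lsl_af (LP (LK LD1_c18 LD2_c27 LD3_c57)) = (LP (LK LD1_c10 LD2_c21 LD3_c30)) :=
  Lgr Lrot0 (Lpr_at (K17.f286382 IH) (Lpn (LP (LK LD1_c10 LD2_c21 LD3_c30))))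
theorem f286486 : Led Lsl_ft (LP (LK LD1_c5 LD2_c16 LD3_c0)) = (LP (LK LD1_c10 LD2_c21 LD3_c30)) :=
  Lre_f IH (LK LD1_c5 LD2_c16 LD3_c0) (LK LD1_c10 LD2_c21 LD3_c30) Lrfl Lrfl
theorem f286487 : Led Lsl_gf (LP (LK LD1_c10 LD2_c20 LD3_c61)) = (LP (LK LD1_c5 LD2_c16 LD3_c0)) :=
  Lgr Lrot47 (Lpr_gt (K20.f286483 IH) (Lpr_af (f286390 IH) (Lpe (f286486 IH) (Lpn (LP (LK LD1_c5 LD2_c16 LD3_c0))))))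
theorem f630081 : Led Lsl_af (LP (LK LD1_c10 LD2_c20 LD3_c61)) = (LP (LK LD1_c10 LD2_c26 LD3_c37)) :=
  Lgr Lrot31 (Lpr_gf (f286487 IH) (Lpe (K22.f320036 IH) (Lpr_ft (f630075 IH) (Lpn (LP (LK LD1_c10 LD2_c26 LD3_c37))))))
theorem f286489 : Led Lsl_ct (LP (LK LD1_c10 LD2_c20 LD3_c61)) = (LP (LK LD1_c5 LD2_c15 LD3_c49)) :=
  Lre_c IH (LK LD1_c10 LD2_c20 LD3_c61) (LK LD1_c5 LD2_c15 LD3_c49) Lrfl Lrfl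
theorem f630085 : Led Lsl_at (LP (LK LD1_c5 LD2_c15 LD3_c49)) = (LP (LK LD1_c5 LD2_c18 LD3_c26)) :=
  Lgr Lrot107 (Lpe (f286489 IH) (Lpr_af (f630081 IH) (Lpe (K22.f333435 IH) (Lpn (LP (LK LD1_c5 LD2_c18 LD3_c26))))))
theorem f630101 : Led Lsl_ff (LP (LK LD1_c5 LD2_c15 LD3_c49)) = (LP (LK LD1_c10 LD2_c19 LD3_c38)) :=
  Lgr Lrot52 (Lpr_at (f630085 IH) (Lpr_gf (K22.f333442 IH) (Lpe (K21.f214827 IH) (Lpn (LP (LK LD1_c10 LD2_c19 LD3_c38))))))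
theorem f630111 : Led Lsl_ft (LP (LK LD1_c5 LD2_c15 LD3_c49)) = (LP (LK LD1_c10 LD2_c19 LD3_c38)) :=
  Lgr Lrot48 (Lpr_ff (f630101 IH) (Lpn (LP (LK LD1_c10 LD2_c19 LD3_c38))))
theorem f630119 : Led Lsl_ff (LP (LK LD1_c10 LD2_c21 LD3_c0)) = (LP (LK LD1_c10 LD2_c46 LD3_c4)) :=
  Lgr Lrot19 (Lpr_dt (K25.f271611 IH) (Lpr_ft (f630111 IH) (Lpe (K21.f317714 IH) (Lpn (LP (LK LD1_c10 LD2_c46 LD3_c4))))))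
theorem f630123 : Led Lsl_at (LP (LK LD1_c10 LD2_c21 LD3_c0)) = (LP (LK LD1_c10 LD2_c26 LD3_c38)) :=
  Lgr Lrot26 (Lpr_ff (f630119 IH) (Lpr_gt (K25.f335550 IH) (Lpe (K22.f335529 IH) (Lpn (LP (LK LD1_c10 LD2_c26 LD3_c38))))))
theorem f309725 : Led Lsl_bt (LP (LK LD1_c5 LD2_c18 LD3_c27)) = (LP (LK LD1_c10 LD2_c26 LD3_c38)) :=
  Lre_b IH (LK LD1_c5 LD2_c18 LD3_c27) (LK LD1_c10 LD2_c26 LD3_c38) Lrfl Lrfl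
theorem f309726 : Led Lsl_bt (LP (LK LD1_c8 LD2_c22 LD3_c27)) = (LP (LK LD1_c4 LD2_c11 LD3_c21)) :=
  Lre_b IH (LK LD1_c8 LD2_c22 LD3_c27) (LK LD1_c4 LD2_c11 LD3_c21) Lrfl Lrfl
theorem f309727 : Led Lsl_et (LP (LK LD1_c10 LD2_c26 LD3_c38)) = (LP (LK LD1_c8 LD2_c22 LD3_c27)) :=
  Lgr Lrot74 (Lpe (f309725 IH) (Lpr_ef (K21.f309723 IH) (Lpe (f309726 IH) (Lpn (LP (LK LD1_c8 LD2_c22 LD3_c27))))))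
theorem f630127 : Led Lsl_af (LP (LK LD1_c8 LD2_c31 LD3_c25)) = (LP (LK LD1_c8 LD2_c22 LD3_c27)) :=
  Lgr Lrot50 (Lpe (K25.f348034 IH) (Lpr_at (f630123 IH) (Lpr_et (f309727 IH) (Lpn (LP (LK LD1_c8 LD2_c22 LD3_c27))))))
theorem f630135 : Led Lsl_ft (LP (LK LD1_c8 LD2_c31 LD3_c27)) = (LP (LK LD1_c8 LD2_c22 LD3_c27)) :=
  Lgr Lrot2 (Lpr_gt (K22.f324009 IH) (Lpr_gt (K27.f366198 IH) (Lpr_af (f630127 IH) (Lpn (LP (LK LD1_c8 LD2_c22 LD3_c27))))))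
theorem f630137 : Led Lsl_ff (LP (LK LD1_c4 LD2_c16 LD3_c9)) = (LP (LK LD1_c4 LD2_c11 LD3_c20)) :=
  Lgr Lrot19 (Lpr_dt (K21.f301444 IH) (Lpr_ft (f630135 IH) (Lpr_dt (K22.f309760 IH) (Lpn (LP (LK LD1_c4 LD2_c11 LD3_c20))))))
theorem f630141 : Led Lsl_at (LP (LK LD1_c4 LD2_c16 LD3_c9)) = (LP (LK LD1_c8 LD2_c29 LD3_c51)) :=
  Lgr Lrot26 (Lpr_ff (f630137 IH) (Lpr_gt (K22.f335525 IH) (Lpr_gt (K25.f323235 IH) (Lpn (LP (LK LD1_c8 LD2_c29 LD3_c51))))))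
theorem f630133 : Led Lsl_at (LP (LK LD1_c4 LD2_c16 LD3_c8)) = (LP (LK LD1_c4 LD2_c11 LD3_c20)) :=
  Lgr Lrot51 (Lpe (K25.f260429 IH) (Lpr_af (f630127 IH) (Lpe (K22.f309759 IH) (Lpn (LP (LK LD1_c4 LD2_c11 LD3_c20))))))
theorem f630153 : Led Lsl_ff (LP (LK LD1_c4 LD2_c16 LD3_c8)) = (LP (LK LD1_c8 LD2_c29 LD3_c51)) :=
  Lgr Lrot30 (Lpr_at (f630133 IH) (Lpe (f630137 IH) (Lpr_at (f630141 IH) (Lpn (LP (LK LD1_c8 LD2_c29 LD3_c51))))))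
theorem f630161 : Led Lsl_ft (LP (LK LD1_c4 LD2_c16 LD3_c8)) = (LP (LK LD1_c8 LD2_c29 LD3_c51)) :=
  Lgr Lrot48 (Lpr_ff (f630153 IH) (Lpn (LP (LK LD1_c8 LD2_c29 LD3_c51))))
theorem f630169 : Led Lsl_ff (LP (LK LD1_c8 LD2_c31 LD3_c25)) = (LP (LK LD1_c15 LD2_c56 LD3_c4)) :=
  Lgr Lrot19 (Lpr_dt (K25.f260429 IH) (Lpr_ft (f630161 IH) (Lpr_dt (K20.f323244 IH) (Lpn (LP (LK LD1_c15 LD2_c56 LD3_c4))))))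
theorem f630109 : Led Lsl_ft (LP (LK LD1_c10 LD2_c21 LD3_c0)) = (LP (LK LD1_c10 LD2_c46 LD3_c4)) :=
  Lgr Lrot54 (Lpe (K25.f180937 IH) (Lpr_ff (f630101 IH) (Lpe (K21.f317711 IH) (Lpn (LP (LK LD1_c10 LD2_c46 LD3_c4))))))
theorem f630175 : Led Lsl_ft (LP (LK LD1_c5 LD2_c27 LD3_c29)) = (LP (LK LD1_c8 LD2_c29 LD3_c6)) :=
  Lgr Lrot86 (Lpe (K21.f317710 IH) (Lpe (f630109 IH) (Lpr_ef (K25.f348034 IH) (Lpr_ff (f630169 IH) (Lpe (K20.f323229 IH) (Lpn (LP (LK LD1_c8 LD2_c29 LD3_c6))))))))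
theorem f630185 : Led Lsl_af (LP (LK LD1_c4 LD2_c30 LD3_c49)) = (LP (LK LD1_c8 LD2_c29 LD3_c6)) :=
  Lgr Lrot31 (Lpe (K21.f323961 IH) (Lpr_gf (K21.f295208 IH) (Lpr_ft (f630175 IH) (Lpn (LP (LK LD1_c8 LD2_c29 LD3_c6))))))
theorem f630015 : Led Lsl_ff (LP (LK LD1_c2 LD2_c43 LD3_c23)) = (LP (LK LD1_c4 LD2_c30 LD3_c49)) :=
  Lgr Lrot25 (Lpr_bt (K21.f309789 IH) (Lpr_ft (K54.f495611 IH) (Lpqs (K54.f630010 IH) (Lpr_bt (K21.f183299 IH) (Lpn (LP (LK LD1_c4 LD2_c30 LD3_c49)))))))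
theorem f630195 : Led Lsl_at (LP (LK LD1_c2 LD2_c43 LD3_c23)) = (LP (LK LD1_c5 LD2_c27 LD3_c29)) :=
  Lgr Lrot66 (Lpr_ff (f630015 IH) (Lpr_af (f630185 IH) (Lpe (f630175 IH) (Lpn (LP (LK LD1_c5 LD2_c27 LD3_c29))))))
theorem f630205 : Led Lsl_af (LP (LK LD1_c5 LD2_c35 LD3_c0)) = (LP (LK LD1_c10 LD2_c46 LD3_c4)) :=
  Lgr Lrot50 (Lpr_et (K21.f309823 IH) (Lpr_at (f630195 IH) (Lpr_et (K23.f317716 IH) (Lpn (LP (LK LD1_c10 LD2_c46 LD3_c4))))))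
theorem f309775 : Led Lsl_ct (LP (LK LD1_c5 LD2_c35 LD3_c0)) = (LP (LK LD1_c11 LD2_c2 LD3_c16)) :=
  Lre_c IH (LK LD1_c5 LD2_c35 LD3_c0) (LK LD1_c11 LD2_c2 LD3_c16) Lrfl Lrfl
theorem f630211 : Led Lsl_at (LP (LK LD1_c11 LD2_c2 LD3_c16)) = (LP (LK LD1_c19 LD2_c28 LD3_c24)) :=
  Lgr Lrot107 (Lpe (f309775 IH) (Lpr_af (f630205 IH) (Lpe (K21.f317713 IH) (Lpn (LP (LK LD1_c19 LD2_c28 LD3_c24))))))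
theorem f630213 : Led Lsl_af (LP (LK LD1_c11 LD2_c2 LD3_c16)) = (LP (LK LD1_c19 LD2_c28 LD3_c24)) :=
  Lgr Lrot0 (Lpr_at (f630211 IH) (Lpn (LP (LK LD1_c19 LD2_c28 LD3_c24))))
theorem f324267 : Led Lsl_et (LP (LK LD1_c10 LD2_c46 LD3_c2)) = (LP (LK LD1_c19 LD2_c28 LD3_c24)) :=
  Lre_e IH (LK LD1_c10 LD2_c46 LD3_c2) (LK LD1_c19 LD2_c28 LD3_c24) Lrfl Lrfl
theorem f630223 : Led Lsl_at (LP (LK LD1_c5 LD2_c34 LD3_c60)) = (LP (LK LD1_c10 LD2_c46 LD3_c2)) :=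
  Lgr Lrot80 (Lpe (K25.f310368 IH) (Lpr_af (f630213 IH) (Lpe (f324267 IH) (Lpn (LP (LK LD1_c10 LD2_c46 LD3_c2))))))
theorem f630227 : Led Lsl_ff (LP (LK LD1_c5 LD2_c34 LD3_c60)) = (LP (LK LD1_c8 LD2_c59 LD3_c53)) :=
  Lgr Lrot52 (Lpr_at (f630223 IH) (Lpe (K25.f324270 IH) (Lpe (K22.f329909 IH) (Lpn (LP (LK LD1_c8 LD2_c59 LD3_c53))))))
theorem f309790 : Led Lsl_ct (LP (LK LD1_c5 LD2_c34 LD3_c60)) = (LP (LK LD1_c2 LD2_c43 LD3_c23)) :=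
  Lre_c IH (LK LD1_c5 LD2_c34 LD3_c60) (LK LD1_c2 LD2_c43 LD3_c23) Lrfl Lrfl
theorem f630231 : Led Lsl_ft (LP (LK LD1_c2 LD2_c43 LD3_c23)) = (LP (LK LD1_c4 LD2_c30 LD3_c49)) :=
  Lgr Lrot4 (Lpe (f309790 IH) (Lpr_ff (f630227 IH) (Lpe (K22.f320522 IH) (Lpn (LP (LK LD1_c4 LD2_c30 LD3_c49))))))
theorem f630275 : Led Lsl_ff (LP (LK LD1_c5 LD2_c34 LD3_c61)) = (LP (LK LD1_c8 LD2_c59 LD3_c54)) :=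
  Lgr Lrot19 (Lpr_dt (K25.f309813 IH) (Lpr_ft (f630231 IH) (Lpr_dt (K21.f323965 IH) (Lpn (LP (LK LD1_c8 LD2_c59 LD3_c54))))))
theorem f630289 : Led Lsl_at (LP (LK LD1_c5 LD2_c34 LD3_c61)) = (LP (LK LD1_c10 LD2_c46 LD3_c3)) :=
  Lgr Lrot26 (Lpr_ff (f630275 IH) (Lpe (K22.f335581 IH) (Lpr_gt (K25.f335579 IH) (Lpn (LP (LK LD1_c10 LD2_c46 LD3_c3))))))
theorem f630293 : Led Lsl_af (LP (LK LD1_c10 LD2_c17 LD3_c4)) = (LP (LK LD1_c10 LD2_c42 LD3_c57)) :=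
  Lgr Lrot50 (Lpr_et (K25.f309804 IH) (Lpr_at (f630289 IH) (Lpr_et (K23.f317722 IH) (Lpn (LP (LK LD1_c10 LD2_c42 LD3_c57))))))
theorem f271594 : Led Lsl_et (LP (LK LD1_c10 LD2_c21 LD3_c2)) = (LP (LK LD1_c5 LD2_c15 LD3_c50)) :=
  Lre_e IH (LK LD1_c10 LD2_c21 LD3_c2) (LK LD1_c5 LD2_c15 LD3_c50) Lrfl Lrfl
theorem f324320 : Led Lsl_df (LP (LK LD1_c10 LD2_c17 LD3_c4)) = (LP (LK LD1_c10 LD2_c21 LD3_c2)) :=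
  Lgr Lrot70 (Lpr_et (K25.f309804 IH) (Lpr_dt (K25.f309813 IH) (Lpr_et (K25.f309814 IH) (Lpr_dt (K21.f324313 IH) (Lpr_et (K25.f324319 IH) (Lpn (LP (LK LD1_c10 LD2_c21 LD3_c2))))))))
theorem f328316 : Led Lsl_gf (LP (LK LD1_c10 LD2_c17 LD3_c4)) = (LP (LK LD1_c5 LD2_c17 LD3_c46)) :=
  Lgr Lrot134 (Lpr_df (f324320 IH) (Lpr_et (f271594 IH) (Lpr_gt (K21.f180951 IH) (Lpe (K27.f271601 IH) (Lpr_dt (K21.f328301 IH) (Lpe (K27.f328309 IH) (Lpe (K15.f259223 IH) (Lpe (K17.f263075 IH) (Lpr_gt (K15.f48339 IH) (Lpr_dt (K22.f250174 IH) (Lpn (LP (LK LD1_c5 LD2_c17 LD3_c46)))))))))))))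
theorem f630301 : Led Lsl_ft (LP (LK LD1_c10 LD2_c25 LD3_c9)) = (LP (LK LD1_c10 LD2_c42 LD3_c57)) :=
  Lgr Lrot2 (Lpr_gt (K22.f250175 IH) (Lpe (f328316 IH) (Lpr_af (f630293 IH) (Lpn (LP (LK LD1_c10 LD2_c42 LD3_c57))))))
theorem f630309 : Led Lsl_ff (LP (LK LD1_c10 LD2_c25 LD3_c9)) = (LP (LK LD1_c10 LD2_c42 LD3_c57)) :=
  Lgr Lrot3 (Lpr_ft (f630301 IH) (Lpn (LP (LK LD1_c10 LD2_c42 LD3_c57))))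
theorem f259220 : Led Lsl_ct (LP (LK LD1_c19 LD2_c23 LD3_c45)) = (LP (LK LD1_c10 LD2_c42 LD3_c57)) :=
  Lre_c IH (LK LD1_c19 LD2_c23 LD3_c45) (LK LD1_c10 LD2_c42 LD3_c57) Lrfl Lrfl
theorem f630313 : Led Lsl_ft (LP (LK LD1_c18 LD2_c54 LD3_c11)) = (LP (LK LD1_c19 LD2_c23 LD3_c45)) :=
  Lgr Lrot4 (Lpe (f263024 IH) (Lpr_ff (f630309 IH) (Lpe (f259220 IH) (Lpn (LP (LK LD1_c19 LD2_c23 LD3_c45))))))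
theorem f630319 : Led Lsl_at (LP (LK LD1_c10 LD2_c25 LD3_c9)) = (LP (LK LD1_c10 LD2_c3 LD3_c50)) :=
  Lgr Lrot26 (Lpr_ff (f630309 IH) (Lpe (K25.f273419 IH) (Lpe (K25.f353289 IH) (Lpn (LP (LK LD1_c10 LD2_c3 LD3_c50))))))
theorem f630295 : Led Lsl_at (LP (LK LD1_c10 LD2_c17 LD3_c4)) = (LP (LK LD1_c10 LD2_c42 LD3_c57)) :=
  Lgr Lrot100 (Lpr_af (f630293 IH) (Lpn (LP (LK LD1_c10 LD2_c42 LD3_c57))))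
theorem f630329 : Led Lsl_ff (LP (LK LD1_c10 LD2_c17 LD3_c4)) = (LP (LK LD1_c10 LD2_c3 LD3_c50)) :=
  Lgr Lrot30 (Lpr_at (f630295 IH) (Lpe (f630309 IH) (Lpr_at (f630319 IH) (Lpn (LP (LK LD1_c10 LD2_c3 LD3_c50))))))
theorem f630339 : Led Lsl_ft (LP (LK LD1_c10 LD2_c17 LD3_c4)) = (LP (LK LD1_c10 LD2_c3 LD3_c50)) :=
  Lgr Lrot48 (Lpr_ff (f630329 IH) (Lpn (LP (LK LD1_c10 LD2_c3 LD3_c50))))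
theorem f309815 : Led Lsl_ef (LP (LK LD1_c10 LD2_c17 LD3_c4)) = (LP (LK LD1_c5 LD2_c34 LD3_c61)) :=
  Lgr Lrot88 (Lpr_et (K25.f309804 IH) (Lpn (LP (LK LD1_c5 LD2_c34 LD3_c61))))
theorem f180557 : Led Lsl_bt (LP (LK LD1_c5 LD2_c6 LD3_c25)) = (LP (LK LD1_c10 LD2_c3 LD3_c50)) :=
  Lre_b IH (LK LD1_c5 LD2_c6 LD3_c25) (LK LD1_c10 LD2_c3 LD3_c50) Lrfl Lrfl
theorem f333661 : Led Lsl_et (LP (LK LD1_c10 LD2_c3 LD3_c50)) = (LP (LK LD1_c5 LD2_c27 LD3_c41)) :=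
  Lgr Lrot74 (Lpe (f180557 IH) (Lpr_ef (K22.f333659 IH) (Lpe (K25.f325860 IH) (Lpn (LP (LK LD1_c5 LD2_c27 LD3_c41))))))
theorem f630347 : Led Lsl_ff (LP (LK LD1_c8 LD2_c18 LD3_c26)) = (LP (LK LD1_c5 LD2_c27 LD3_c41)) :=
  Lgr Lrot72 (Lpr_et (K22.f323975 IH) (Lpe (f630275 IH) (Lpe (f309815 IH) (Lpr_ft (f630339 IH) (Lpr_et (f333661 IH) (Lpn (LP (LK LD1_c5 LD2_c27 LD3_c41))))))))
theorem f630355 : Led Lsl_at (LP (LK LD1_c8 LD2_c18 LD3_c26)) = (LP (LK LD1_c5 LD2_c27 LD3_c40)) :=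
  Lgr Lrot26 (Lpr_ff (f630347 IH) (Lpr_gt (K21.f235809 IH) (Lpr_gt (K20.f235804 IH) (Lpn (LP (LK LD1_c5 LD2_c27 LD3_c40))))))
theorem f630361 : Led Lsl_af (LP (LK LD1_c8 LD2_c59 LD3_c54)) = (LP (LK LD1_c10 LD2_c46 LD3_c29)) :=
  Lgr Lrot50 (Lpe (K21.f323967 IH) (Lpr_at (f630355 IH) (Lpr_et (K20.f250744 IH) (Lpn (LP (LK LD1_c10 LD2_c46 LD3_c29))))))
theorem f630365 : Led Lsl_ft (LP (LK LD1_c10 LD2_c46 LD3_c3)) = (LP (LK LD1_c10 LD2_c46 LD3_c29)) :=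
  Lgr Lrot101 (Lpe (f630289 IH) (Lpr_ff (f630275 IH) (Lpr_af (f630361 IH) (Lpn (LP (LK LD1_c10 LD2_c46 LD3_c29))))))
theorem f630371 : Led Lsl_ff (LP (LK LD1_c8 LD2_c18 LD3_c27)) = (LP (LK LD1_c5 LD2_c27 LD3_c40)) :=
  Lgr Lrot72 (Lpe (K22.f285621 IH) (Lpr_ft (f630301 IH) (Lpe (K23.f317717 IH) (Lpr_ft (f630365 IH) (Lpr_et (K20.f236002 IH) (Lpn (LP (LK LD1_c5 LD2_c27 LD3_c40))))))))
theorem f630379 : Led Lsl_ft (LP (LK LD1_c15 LD2_c34 LD3_c7)) = (LP (LK LD1_c10 LD2_c46 LD3_c28)) :=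
  Lgr Lrot54 (Lpr_df (K22.f236425 IH) (Lpr_ff (f630371 IH) (Lpe (K20.f236020 IH) (Lpn (LP (LK LD1_c10 LD2_c46 LD3_c28))))))
theorem f630389 : Led Lsl_ff (LP (LK LD1_c15 LD2_c34 LD3_c7)) = (LP (LK LD1_c10 LD2_c46 LD3_c28)) :=
  Lgr Lrot3 (Lpr_ft (f630379 IH) (Lpn (LP (LK LD1_c10 LD2_c46 LD3_c28))))
theorem f630397 : Led Lsl_at (LP (LK LD1_c15 LD2_c34 LD3_c7)) = (LP (LK LD1_c8 LD2_c19 LD3_c15)) :=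
  Lgr Lrot26 (Lpr_ff (f630389 IH) (Lpe (K21.f282565 IH) (Lpr_gt (K21.f250693 IH) (Lpn (LP (LK LD1_c8 LD2_c19 LD3_c15))))))
theorem f323992 : Led Lsl_bt (LP (LK LD1_c8 LD2_c31 LD3_c28)) = (LP (LK LD1_c4 LD2_c17 LD3_c59)) :=
  Lgr Lrot119 (Lpe (K22.f301442 IH) (Lpr_bf (K35.f323987 IH) (Lpe (K13.f7925 IH) (Lpn (LP (LK LD1_c4 LD2_c17 LD3_c59))))))
theorem f353266 : Led Lsl_bt (LP (LK LD1_c4 LD2_c11 LD3_c40)) = (LP (LK LD1_c8 LD2_c19 LD3_c15)) :=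
  Lgr Lrot127 (Lpr_bf (K25.f353264 IH) (Lpn (LP (LK LD1_c8 LD2_c19 LD3_c15))))
theorem f629867 : Led Lsl_ff (LP (LK LD1_c8 LD2_c31 LD3_c28)) = (LP (LK LD1_c8 LD2_c19 LD3_c15)) :=
  Lgr Lrot25 (Lpr_bt (f323992 IH) (Lpr_ft (K54.f629865 IH) (Lpr_bt (f353266 IH) (Lpn (LP (LK LD1_c8 LD2_c19 LD3_c15))))))
theorem f630405 : Led Lsl_af (LP (LK LD1_c10 LD2_c46 LD3_c28)) = (LP (LK LD1_c8 LD2_c31 LD3_c28)) :=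
  Lgr Lrot45 (Lpe (f630389 IH) (Lpr_at (f630397 IH) (Lpe (f629867 IH) (Lpn (LP (LK LD1_c8 LD2_c31 LD3_c28))))))
theorem f630407 : Led Lsl_at (LP (LK LD1_c19 LD2_c29 LD3_c8)) = (LP (LK LD1_c16 LD2_c0 LD3_c6)) :=
  Lgr Lrot107 (Lpe (K27.f235806 IH) (Lpr_af (f630405 IH) (Lpe (K26.f301439 IH) (Lpn (LP (LK LD1_c16 LD2_c0 LD3_c6))))))
theorem f630393 : Led Lsl_ft (LP (LK LD1_c25 LD2_c27 LD3_c50)) = (LP (LK LD1_c19 LD2_c29 LD3_c8)) :=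
  Lgr Lrot4 (Lpe (K22.f236434 IH) (Lpr_ff (f630389 IH) (Lpe (K27.f236017 IH) (Lpn (LP (LK LD1_c19 LD2_c29 LD3_c8))))))
theorem f236422 : Led Lsl_ct (LP (LK LD1_c25 LD2_c27 LD3_c50)) = (LP (LK LD1_c15 LD2_c34 LD3_c7)) :=
  Lre_c IH (LK LD1_c25 LD2_c27 LD3_c50) (LK LD1_c15 LD2_c34 LD3_c7) Lrfl Lrfl
theorem f630401 : Led Lsl_af (LP (LK LD1_c25 LD2_c27 LD3_c50)) = (LP (LK LD1_c15 LD2_c39 LD3_c4)) :=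
  Lgr Lrot68 (Lpr_ct (f236422 IH) (Lpr_at (f630397 IH) (Lpr_ct (K25.f250703 IH) (Lpn (LP (LK LD1_c15 LD2_c39 LD3_c4))))))
theorem f630413 : Led Lsl_ff (LP (LK LD1_c15 LD2_c39 LD3_c4)) = (LP (LK LD1_c16 LD2_c0 LD3_c6)) :=
  Lgr Lrot30 (Lpe (f630401 IH) (Lpr_ft (f630393 IH) (Lpr_at (f630407 IH) (Lpn (LP (LK LD1_c16 LD2_c0 LD3_c6))))))
theorem f630415 : Led Lsl_ft (LP (LK LD1_c15 LD2_c39 LD3_c4)) = (LP (LK LD1_c16 LD2_c0 LD3_c6)) :=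
  Lgr Lrot48 (Lpr_ff (f630413 IH) (Lpn (LP (LK LD1_c16 LD2_c0 LD3_c6))))
theorem f378642 : Led Lsl_et (LP (LK LD1_c16 LD2_c0 LD3_c6)) = (LP (LK LD1_c8 LD2_c31 LD3_c26)) :=
  Lre_e IH (LK LD1_c16 LD2_c0 LD3_c6) (LK LD1_c8 LD2_c31 LD3_c26) Lrfl Lrfl
theorem f310288 : Led Lsl_ct (LP (LK LD1_c8 LD2_c22 LD3_c26)) = (LP (LK LD1_c4 LD2_c11 LD3_c20)) :=
  Lre_c IH (LK LD1_c8 LD2_c22 LD3_c26) (LK LD1_c4 LD2_c11 LD3_c20) Lrfl Lrfl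
theorem f630139 : Led Lsl_ft (LP (LK LD1_c8 LD2_c31 LD3_c26)) = (LP (LK LD1_c8 LD2_c22 LD3_c26)) :=
  Lgr Lrot4 (Lpe (K35.f301468 IH) (Lpr_ff (f630137 IH) (Lpe (f310288 IH) (Lpn (LP (LK LD1_c8 LD2_c22 LD3_c26))))))
theorem f365219 : Led Lsl_df (LP (LK LD1_c5 LD2_c16 LD3_c33)) = (LP (LK LD1_c4 LD2_c18 LD3_c14)) :=
  Lgr Lrot135 (Lpr_gt (K22.f335518 IH) (Lpe (K13.f243051 IH) (Lpr_et (K17.f243111 IH) (Lpr_gt (K15.f761 IH) (Lpe (K21.f243387 IH) (Lpe (K21.f263150 IH) (Lpr_gt (K21.f263171 IH) (Lpr_df (K27.f362184 IH) (Lpe (K27.f365181 IH) (Lpr_gt (K26.f365209 IH) (Lpn (LP (LK LD1_c4 LD2_c18 LD3_c14)))))))))))))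
theorem f377832 : Led Lsl_ef (LP (LK LD1_c4 LD2_c11 LD3_c20)) = (LP (LK LD1_c4 LD2_c18 LD3_c14)) :=
  Lgr Lrot17 (Lpr_gf (K26.f335527 IH) (Lpe (K16.f250740 IH) (Lpr_dt (K26.f262980 IH) (Lpe (K15.f257934 IH) (Lpr_df (K18.f262855 IH) (Lpe (K15.f761 IH) (Lpe (K17.f243111 IH) (Lpr_dt (K13.f243051 IH) (Lpe (K22.f335518 IH) (Lpr_df (f365219 IH) (Lpn (LP (LK LD1_c4 LD2_c18 LD3_c14)))))))))))))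
theorem f167541 : Led Lsl_ct (LP (LK LD1_c8 LD2_c35 LD3_c16)) = (LP (LK LD1_c4 LD2_c18 LD3_c14)) :=
  Lre_c IH (LK LD1_c8 LD2_c35 LD3_c16) (LK LD1_c4 LD2_c18 LD3_c14) Lrfl Lrfl
theorem f377834 : Led Lsl_et (LP (LK LD1_c8 LD2_c22 LD3_c26)) = (LP (LK LD1_c8 LD2_c35 LD3_c16)) :=
  Lgr Lrot158 (Lpe (K20.f310289 IH) (Lpr_ef (f377832 IH) (Lpe (f167541 IH) (Lpn (LP (LK LD1_c8 LD2_c35 LD3_c16))))))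
theorem f630419 : Led Lsl_ff (LP (LK LD1_c8 LD2_c19 LD3_c14)) = (LP (LK LD1_c8 LD2_c35 LD3_c16)) :=
  Lgr Lrot72 (Lpr_et (K25.f323315 IH) (Lpr_ft (f630415 IH) (Lpr_et (f378642 IH) (Lpr_ft (f630139 IH) (Lpr_et (f377834 IH) (Lpn (LP (LK LD1_c8 LD2_c35 LD3_c16))))))))
theorem f630427 : Led Lsl_at (LP (LK LD1_c8 LD2_c19 LD3_c14)) = (LP (LK LD1_c15 LD2_c34 LD3_c6)) :=
  Lgr Lrot26 (Lpr_ff (f630419 IH) (Lpe (K26.f336514 IH) (Lpr_gt (K23.f341726 IH) (Lpn (LP (LK LD1_c15 LD2_c34 LD3_c6))))))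
theorem f285640 : Led Lsl_ct (LP (LK LD1_c15 LD2_c34 LD3_c6)) = (LP (LK LD1_c8 LD2_c16 LD3_c46)) :=
  Lre_c IH (LK LD1_c15 LD2_c34 LD3_c6) (LK LD1_c8 LD2_c16 LD3_c46) Lrfl Lrfl
theorem f630431 : Led Lsl_af (LP (LK LD1_c4 LD2_c9 LD3_c36)) = (LP (LK LD1_c8 LD2_c16 LD3_c46)) :=
  Lgr Lrot68 (Lpr_ct (K25.f312544 IH) (Lpr_at (f630427 IH) (Lpr_ct (f285640 IH) (Lpn (LP (LK LD1_c8 LD2_c16 LD3_c46))))))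
theorem f323304 : Led Lsl_ct (LP (LK LD1_c8 LD2_c19 LD3_c14)) = (LP (LK LD1_c4 LD2_c9 LD3_c36)) :=
  Lre_c IH (LK LD1_c8 LD2_c19 LD3_c14) (LK LD1_c4 LD2_c9 LD3_c36) Lrfl Lrfl
theorem f630421 : Led Lsl_ft (LP (LK LD1_c4 LD2_c9 LD3_c36)) = (LP (LK LD1_c4 LD2_c18 LD3_c14)) :=
  Lgr Lrot4 (Lpe (f323304 IH) (Lpr_ff (f630419 IH) (Lpe (K26.f333431 IH) (Lpn (LP (LK LD1_c4 LD2_c18 LD3_c14))))))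
theorem f630387 : Led Lsl_ff (LP (LK LD1_c8 LD2_c16 LD3_c46)) = (LP (LK LD1_c4 LD2_c9 LD3_c37)) :=
  Lgr Lrot72 (Lpr_et (K22.f236427 IH) (Lpr_ft (f630379 IH) (Lpr_et (K20.f250733 IH) (Lpe (f630153 IH) (Lpe (K27.f366194 IH) (Lpn (LP (LK LD1_c4 LD2_c9 LD3_c37))))))))
theorem f630437 : Led Lsl_at (LP (LK LD1_c4 LD2_c18 LD3_c14)) = (LP (LK LD1_c4 LD2_c9 LD3_c37)) :=
  Lgr Lrot66 (Lpe (f630421 IH) (Lpr_af (f630431 IH) (Lpr_ff (f630387 IH) (Lpn (LP (LK LD1_c4 LD2_c9 LD3_c37))))))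
theorem f366184 : Led Lsl_dt (LP (LK LD1_c4 LD2_c9 LD3_c37)) = (LP (LK LD1_c5 LD2_c17 LD3_c61)) :=
  Lgr Lrot42 (Lpr_df (K27.f366179 IH) (Lpn (LP (LK LD1_c5 LD2_c17 LD3_c61))))
theorem f630445 : Led Lsl_af (LP (LK LD1_c5 LD2_c16 LD3_c33)) = (LP (LK LD1_c5 LD2_c17 LD3_c61)) :=
  Lgr Lrot117 (Lpe (K22.f333427 IH) (Lpr_at (f630437 IH) (Lpr_dt (f366184 IH) (Lpn (LP (LK LD1_c5 LD2_c17 LD3_c61))))))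
theorem f630449 : Led Lsl_ft (LP (LK LD1_c8 LD2_c30 LD3_c41)) = (LP (LK LD1_c5 LD2_c17 LD3_c61)) :=
  Lgr Lrot2 (Lpe (K22.f285636 IH) (Lpe (K22.f335516 IH) (Lpr_af (f630445 IH) (Lpn (LP (LK LD1_c5 LD2_c17 LD3_c61))))))
theorem f630455 : Led Lsl_ff (LP (LK LD1_c8 LD2_c30 LD3_c41)) = (LP (LK LD1_c5 LD2_c17 LD3_c61)) :=
  Lgr Lrot3 (Lpr_ft (f630449 IH) (Lpn (LP (LK LD1_c5 LD2_c17 LD3_c61))))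
theorem f630459 : Led Lsl_at (LP (LK LD1_c8 LD2_c30 LD3_c41)) = (LP (LK LD1_c5 LD2_c17 LD3_c60)) :=
  Lgr Lrot26 (Lpr_ff (f630455 IH) (Lpr_gt (K25.f48287 IH) (Lpr_gt (K25.f48291 IH) (Lpn (LP (LK LD1_c5 LD2_c17 LD3_c60))))))
theorem f630099 : Led Lsl_af (LP (LK LD1_c5 LD2_c17 LD3_c61)) = (LP (LK LD1_c5 LD2_c16 LD3_c33)) :=
  Lgr Lrot50 (Lpe (K27.f351329 IH) (Lpr_at (f630085 IH) (Lpe (K22.f333385 IH) (Lpn (LP (LK LD1_c5 LD2_c16 LD3_c33))))))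
theorem f630461 : Led Lsl_ff (LP (LK LD1_c5 LD2_c16 LD3_c33)) = (LP (LK LD1_c5 LD2_c17 LD3_c60)) :=
  Lgr Lrot30 (Lpe (f630099 IH) (Lpe (f630455 IH) (Lpr_at (f630459 IH) (Lpn (LP (LK LD1_c5 LD2_c17 LD3_c60))))))
theorem f353276 : Led Lsl_bt (LP (LK LD1_c2 LD2_c35 LD3_c57)) = (LP (LK LD1_c5 LD2_c17 LD3_c60)) :=
  Lgr Lrot127 (Lpr_bf (K25.f353274 IH) (Lpn (LP (LK LD1_c5 LD2_c17 LD3_c60))))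
theorem f630463 : Led Lsl_ft (LP (LK LD1_c2 LD2_c35 LD3_c1)) = (LP (LK LD1_c2 LD2_c35 LD3_c57)) :=
  Lgr Lrot75 (Lpe (K22.f166069 IH) (Lpr_ff (f630461 IH) (Lpe (f353276 IH) (Lpn (LP (LK LD1_c2 LD2_c35 LD3_c57))))))
theorem f630473 : Led Lsl_ff (LP (LK LD1_c2 LD2_c35 LD3_c1)) = (LP (LK LD1_c2 LD2_c35 LD3_c57)) :=
  Lgr Lrot3 (Lpr_ft (f630463 IH) (Lpn (LP (LK LD1_c2 LD2_c35 LD3_c57))))
theorem f630479 : Led Lsl_ft (LP (LK LD1_c5 LD2_c16 LD3_c25)) = (LP (LK LD1_c5 LD2_c18 LD3_c36)) :=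
  Lgr Lrot86 (Lpe (K22.f255012 IH) (Lpr_ff (f630035 IH) (Lpe (K22.f333378 IH) (Lpr_ff (f630473 IH) (Lpe (K18.f178741 IH) (Lpn (LP (LK LD1_c5 LD2_c18 LD3_c36))))))))
theorem f373319 : Led Lsl_bt (LP (LK LD1_c10 LD2_c40 LD3_c39)) = (LP (LK LD1_c5 LD2_c24 LD3_c58)) :=
  Lre_b IH (LK LD1_c10 LD2_c40 LD3_c39) (LK LD1_c5 LD2_c24 LD3_c58) Lrfl Lrfl
theorem f373320 : Led Lsl_at (LP (LK LD1_c9 LD2_c51 LD3_c27)) = (LP (LK LD1_c10 LD2_c40 LD3_c39)) :=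
  Lgr Lrot67 (Lpr_bf (K15.f233859 IH) (Lpr_af (K44.f373206 IH) (Lpe (K23.f167963 IH) (Lpr_af (K44.f373315 IH) (Lpe (f373319 IH) (Lpn (LP (LK LD1_c10 LD2_c40 LD3_c39))))))))
theorem f292191 : Led Lsl_ft (LP (LK LD1_c15 LD2_c19 LD3_c18)) = (LP (LK LD1_c8 LD2_c8 LD3_c13)) :=
  Lre_f IH (LK LD1_c15 LD2_c19 LD3_c18) (LK LD1_c8 LD2_c8 LD3_c13) Lrfl Lrfl
theorem f293953 : Led Lsl_gt (LP (LK LD1_c15 LD2_c19 LD3_c18)) = (LP (LK LD1_c8 LD2_c54 LD3_c26)) :=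
  Lgr Lrot5 (Lpr_ft (f292191 IH) (Lpr_at (K18.f293839 IH) (Lpe (K22.f276568 IH) (Lpn (LP (LK LD1_c8 LD2_c54 LD3_c26))))))
theorem f333861 : Led Lsl_dt (LP (LK LD1_c20 LD2_c56 LD3_c33)) = (LP (LK LD1_c16 LD2_c39 LD3_c50)) :=
  Lgr Lrot42 (Lpr_df (K22.f333859 IH) (Lpn (LP (LK LD1_c16 LD2_c39 LD3_c50))))
theorem f333875 : Led Lsl_cf (LP (LK LD1_c16 LD2_c39 LD3_c50)) = (LP (LK LD1_c17 LD2_c50 LD3_c37)) :=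
  Lgr Lrot14 (Lpe (f333861 IH) (Lpe (K22.f256870 IH) (Lpe (K22.f256869 IH) (Lpr_gf (K22.f333868 IH) (Lpr_ct (K22.f246988 IH) (Lpe (K20.f271023 IH) (Lpr_dt (K14.f237086 IH) (Lpr_gt (K14.f237095 IH) (Lpr_dt (K26.f251607 IH) (Lpn (LP (LK LD1_c17 LD2_c50 LD3_c37))))))))))))
theorem f333884 : Led Lsl_ct (LP (LK LD1_c8 LD2_c54 LD3_c26)) = (LP (LK LD1_c9 LD2_c42 LD3_c3)) :=
  Lgr Lrot15 (Lpe (K22.f276569 IH) (Lpr_cf (f333875 IH) (Lpe (K14.f251395 IH) (Lpn (LP (LK LD1_c9 LD2_c42 LD3_c3))))))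
theorem f333887 : Led Lsl_cf (LP (LK LD1_c8 LD2_c54 LD3_c26)) = (LP (LK LD1_c9 LD2_c42 LD3_c3)) :=
  Lgr Lrot11 (Lpr_ct (f333884 IH) (Lpn (LP (LK LD1_c9 LD2_c42 LD3_c3))))
theorem f333886 : Led Lsl_bt (LP (LK LD1_c9 LD2_c42 LD3_c3)) = (LP (LK LD1_c17 LD2_c50 LD3_c35)) :=
  Lre_b IH (LK LD1_c9 LD2_c42 LD3_c3) (LK LD1_c17 LD2_c50 LD3_c35) Lrfl Lrfl
theorem f195907 : Led Lsl_ct (LP (LK LD1_c2 LD2_c38 LD3_c44)) = (LP (LK LD1_c5 LD2_c24 LD3_c23)) :=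
  Lre_c IH (LK LD1_c2 LD2_c38 LD3_c44) (LK LD1_c5 LD2_c24 LD3_c23) Lrfl Lrfl
theorem f345399 : Led Lsl_ef (LP (LK LD1_c5 LD2_c21 LD3_c58)) = (LP (LK LD1_c2 LD2_c38 LD3_c44)) :=
  Lgr Lrot17 (Lpr_gf (K25.f345393 IH) (Lpr_ef (K14.f253355 IH) (Lpr_dt (K23.f284156 IH) (Lpe (K17.f187041 IH) (Lpe (K17.f187040 IH) (Lpe (K18.f284172 IH) (Lpe (K21.f325640 IH) (Lpr_dt (K21.f325720 IH) (Lpe (K21.f325719 IH) (Lpe (K21.f288622 IH) (Lpn (LP (LK LD1_c2 LD2_c38 LD3_c44)))))))))))))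
theorem f345332 : Led Lsl_ct (LP (LK LD1_c5 LD2_c24 LD3_c23)) = (LP (LK LD1_c2 LD2_c38 LD3_c44)) :=
  Lre_c IH (LK LD1_c5 LD2_c24 LD3_c23) (LK LD1_c2 LD2_c38 LD3_c44) Lrfl Lrfl
theorem f345401 : Led Lsl_et (LP (LK LD1_c10 LD2_c34 LD3_c14)) = (LP (LK LD1_c5 LD2_c24 LD3_c23)) :=
  Lgr Lrot158 (Lpe (K25.f199031 IH) (Lpr_ef (f345399 IH) (Lpe (f345332 IH) (Lpn (LP (LK LD1_c5 LD2_c24 LD3_c23))))))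
theorem f246584 : Led Lsl_et (LP (LK LD1_c1 LD2_c16 LD3_c20)) = (LP (LK LD1_c2 LD2_c39 LD3_c0)) :=
  Lre_e IH (LK LD1_c1 LD2_c16 LD3_c20) (LK LD1_c2 LD2_c39 LD3_c0) Lrfl Lrfl
theorem f345426 : Led Lsl_gf (LP (LK LD1_c5 LD2_c24 LD3_c23)) = (LP (LK LD1_c2 LD2_c39 LD3_c0)) :=
  Lgr Lrot141 (Lpe (f345401 IH) (Lpr_dt (K25.f345372 IH) (Lpr_gt (K25.f345424 IH) (Lpe (K22.f187263 IH) (Lpr_et (K25.f221627 IH) (Lpe (K14.f226913 IH) (Lpr_dt (K14.f246551 IH) (Lpr_gt (K14.f213037 IH) (Lpe (K14.f195890 IH) (Lpr_et (f246584 IH) (Lpn (LP (LK LD1_c2 LD2_c39 LD3_c0)))))))))))))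
theorem f320130 : Led Lsl_ct (LP (LK LD1_c5 LD2_c24 LD3_c58)) = (LP (LK LD1_c2 LD2_c39 LD3_c0)) :=
  Lre_c IH (LK LD1_c5 LD2_c24 LD3_c58) (LK LD1_c2 LD2_c39 LD3_c0) Lrfl Lrfl
theorem f284839 : Led Lsl_bt (LP (LK LD1_c5 LD2_c24 LD3_c58)) = (LP (LK LD1_c10 LD2_c40 LD3_c39)) :=
  Lre_b IH (LK LD1_c5 LD2_c24 LD3_c58) (LK LD1_c10 LD2_c40 LD3_c39) Lrfl Lrfl
theorem f352147 : Led Lsl_gt (LP (LK LD1_c17 LD2_c50 LD3_c35)) = (LP (LK LD1_c10 LD2_c40 LD3_c39)) :=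
  Lgr Lrot164 (Lpe (f333886 IH) (Lpe (f333887 IH) (Lpe (f293953 IH) (Lpe (K18.f269306 IH) (Lpe (K25.f345342 IH) (Lpr_bf (K25.f352139 IH) (Lpr_ct (f195907 IH) (Lpr_gf (f345426 IH) (Lpe (f320130 IH) (Lpr_bt (f284839 IH) (Lpn (LP (LK LD1_c10 LD2_c40 LD3_c39)))))))))))))
theorem f373561 : Led Lsl_gt (LP (LK LD1_c18 LD2_c2 LD3_c39)) = (LP (LK LD1_c17 LD2_c50 LD3_c35)) :=
  Lgr Lrot5 (Lpr_ft (K44.f233863 IH) (Lpr_at (f373320 IH) (Lpe (f352147 IH) (Lpn (LP (LK LD1_c17 LD2_c50 LD3_c35))))))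
theorem f359871 : Led Lsl_ef (LP (LK LD1_c10 LD2_c20 LD3_c0)) = (LP (LK LD1_c15 LD2_c24 LD3_c61)) :=
  Lgr Lrot88 (Lpr_et (K26.f359869 IH) (Lpn (LP (LK LD1_c15 LD2_c24 LD3_c61))))
theorem f359652 : Led Lsl_et (LP (LK LD1_c11 LD2_c54 LD3_c57)) = (LP (LK LD1_c18 LD2_c4 LD3_c17)) :=
  Lgr Lrot87 (Lpr_ef (K26.f359650 IH) (Lpn (LP (LK LD1_c18 LD2_c4 LD3_c17))))
theorem f363545 : Led Lsl_df (LP (LK LD1_c11 LD2_c54 LD3_c57)) = (LP (LK LD1_c18 LD2_c2 LD3_c39)) :=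
  Lgr Lrot70 (Lpr_et (f359652 IH) (Lpe (K16.f252644 IH) (Lpe (f359871 IH) (Lpe (K26.f223100 IH) (Lpr_et (K44.f363543 IH) (Lpn (LP (LK LD1_c18 LD2_c2 LD3_c39))))))))
theorem f282474 : Led Lsl_gt (LP (LK LD1_c10 LD2_c3 LD3_c48)) = (LP (LK LD1_c18 LD2_c22 LD3_c25)) :=
  Lre_g IH (LK LD1_c10 LD2_c3 LD3_c48) (LK LD1_c18 LD2_c22 LD3_c25) Lrfl Lrfl
theorem f251422 : Led Lsl_bt (LP (LK LD1_c5 LD2_c15 LD3_c32)) = (LP (LK LD1_c2 LD2_c34 LD3_c41)) :=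
  Lre_b IH (LK LD1_c5 LD2_c15 LD3_c32) (LK LD1_c2 LD2_c34 LD3_c41) Lrfl Lrfl
theorem f282477 : Led Lsl_cf (LP (LK LD1_c18 LD2_c22 LD3_c25)) = (LP (LK LD1_c15 LD2_c50 LD3_c54)) :=
  Lgr Lrot163 (Lpe (f282474 IH) (Lpe (K22.f261900 IH) (Lpr_gf (K17.f282443 IH) (Lpe (f251422 IH) (Lpr_ct (K26.f251421 IH) (Lpe (K26.f251414 IH) (Lpe (K22.f251349 IH) (Lpr_bt (K14.f251346 IH) (Lpe (K16.f279321 IH) (Lpr_bf (K14.f192312 IH) (Lpn (LP (LK LD1_c15 LD2_c50 LD3_c54)))))))))))))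
theorem f340299 : Led Lsl_bf (LP (LK LD1_c5 LD2_c17 LD3_c45)) = (LP (LK LD1_c5 LD2_c15 LD3_c40)) :=
  Lgr Lrot96 (Lpr_et (K15.f262993 IH) (Lpr_bt (K26.f285005 IH) (Lpr_et (K23.f340295 IH) (Lpn (LP (LK LD1_c5 LD2_c15 LD3_c40))))))
theorem f340301 : Led Lsl_ct (LP (LK LD1_c5 LD2_c15 LD3_c40)) = (LP (LK LD1_c10 LD2_c20 LD3_c40)) :=
  Lre_c IH (LK LD1_c5 LD2_c15 LD3_c40) (LK LD1_c10 LD2_c20 LD3_c40) Lrfl Lrfl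
theorem f345027 : Led Lsl_gt (LP (LK LD1_c10 LD2_c20 LD3_c40)) = (LP (LK LD1_c11 LD2_c54 LD3_c56)) :=
  Lgr Lrot65 (Lpe (f340301 IH) (Lpe (f340299 IH) (Lpr_gf (K16.f273396 IH) (Lpr_bf (K16.f273520 IH) (Lpr_ct (K16.f192627 IH) (Lpr_gf (K23.f345021 IH) (Lpe (K23.f195635 IH) (Lpe (K23.f190247 IH) (Lpe (K14.f195617 IH) (Lpr_ct (K22.f195634 IH) (Lpn (LP (LK LD1_c11 LD2_c54 LD3_c56)))))))))))))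
theorem f345029 : Led Lsl_ft (LP (LK LD1_c10 LD2_c20 LD3_c40)) = (LP (LK LD1_c18 LD2_c22 LD3_c24)) :=
  Lgr Lrot2 (Lpr_gt (f345027 IH) (Lpe (K22.f319990 IH) (Lpe (K25.f263089 IH) (Lpn (LP (LK LD1_c18 LD2_c22 LD3_c24))))))
theorem f185016 : Led Lsl_ct (LP (LK LD1_c8 LD2_c57 LD3_c18)) = (LP (LK LD1_c4 LD2_c29 LD3_c31)) :=
  Lre_c IH (LK LD1_c8 LD2_c57 LD3_c18) (LK LD1_c4 LD2_c29 LD3_c31) Lrfl Lrfl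
theorem f282487 : Led Lsl_ft (LP (LK LD1_c10 LD2_c3 LD3_c48)) = (LP (LK LD1_c8 LD2_c57 LD3_c18)) :=
  Lgr Lrot4 (Lpe (K22.f261900 IH) (Lpr_ff (K17.f282485 IH) (Lpe (f185016 IH) (Lpn (LP (LK LD1_c8 LD2_c57 LD3_c18))))))
theorem f345032 : Led Lsl_af (LP (LK LD1_c10 LD2_c20 LD3_c40)) = (LP (LK LD1_c8 LD2_c57 LD3_c18)) :=
  Lgr Lrot45 (Lpr_ft (f345029 IH) (Lpr_at (K25.f263089 IH) (Lpr_ft (f282487 IH) (Lpn (LP (LK LD1_c8 LD2_c57 LD3_c18))))))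
theorem f345038 : Led Lsl_gf (LP (LK LD1_c10 LD2_c20 LD3_c40)) = (LP (LK LD1_c18 LD2_c22 LD3_c25)) :=
  Lgr Lrot76 (Lpr_af (f345032 IH) (Lpe (f282487 IH) (Lpr_gt (f282474 IH) (Lpn (LP (LK LD1_c18 LD2_c22 LD3_c25))))))
theorem f340312 : Led Lsl_ct (LP (LK LD1_c10 LD2_c20 LD3_c40)) = (LP (LK LD1_c5 LD2_c15 LD3_c40)) :=
  Lre_c IH (LK LD1_c10 LD2_c20 LD3_c40) (LK LD1_c5 LD2_c15 LD3_c40) Lrfl Lrfl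
theorem f213286 : Led Lsl_gt (LP (LK LD1_c15 LD2_c15 LD3_c18)) = (LP (LK LD1_c8 LD2_c6 LD3_c10)) :=
  Lre_g IH (LK LD1_c15 LD2_c15 LD3_c18) (LK LD1_c8 LD2_c6 LD3_c10) Lrfl Lrfl
theorem f373563 : Led Lsl_cf (LP (LK LD1_c15 LD2_c15 LD3_c18)) = (LP (LK LD1_c17 LD2_c50 LD3_c35)) :=
  Lgr Lrot169 (Lpr_gt (f213286 IH) (Lpr_ct (K20.f261608 IH) (Lpr_df (K23.f340304 IH) (Lpe (f340312 IH) (Lpr_gf (f345038 IH) (Lpr_cf (f282477 IH) (Lpe (K26.f252178 IH) (Lpr_df (f363545 IH) (Lpr_gt (f373561 IH) (Lpn (LP (LK LD1_c17 LD2_c50 LD3_c35))))))))))))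
theorem f168594 : Led Lsl_bt (LP (LK LD1_c17 LD2_c50 LD3_c35)) = (LP (LK LD1_c9 LD2_c42 LD3_c3)) :=
  Lre_b IH (LK LD1_c17 LD2_c50 LD3_c35) (LK LD1_c9 LD2_c42 LD3_c3) Lrfl Lrfl
theorem f373574 : Led Lsl_gf (LP (LK LD1_c15 LD2_c15 LD3_c18)) = (LP (LK LD1_c8 LD2_c57 LD3_c11)) :=
  Lgr Lrot129 (Lpr_cf (f373563 IH) (Lpr_bt (f168594 IH) (Lpr_gt (K14.f168578 IH) (Lpe (K22.f168587 IH) (Lpr_ct (K22.f168564 IH) (Lpr_gt (K25.f298681 IH) (Lpe (K25.f353744 IH) (Lpr_bt (K25.f353775 IH) (Lpe (K23.f261896 IH) (Lpr_ct (K23.f261780 IH) (Lpn (LP (LK LD1_c8 LD2_c57 LD3_c11)))))))))))))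
theorem f367623 : Led Lsl_af (LP (LK LD1_c8 LD2_c54 LD3_c56)) = (LP (LK LD1_c16 LD2_c36 LD3_c36)) :=
  Lgr Lrot0 (Lpr_at (K27.f367621 IH) (Lpn (LP (LK LD1_c16 LD2_c36 LD3_c36))))
theorem f367829 : Led Lsl_gf (LP (LK LD1_c5 LD2_c31 LD3_c61)) = (LP (LK LD1_c8 LD2_c53 LD3_c3)) :=
  Lgr Lrot47 (Lpr_gt (K27.f367827 IH) (Lpr_af (f367623 IH) (Lpe (K27.f168586 IH) (Lpn (LP (LK LD1_c8 LD2_c53 LD3_c3))))))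
theorem f373576 : Led Lsl_gf (LP (LK LD1_c2 LD2_c11 LD3_c56)) = (LP (LK LD1_c1 LD2_c17 LD3_c41)) :=
  Lgr Lrot124 (Lpe (K22.f261776 IH) (Lpr_ct (K23.f261780 IH) (Lpe (f373574 IH) (Lpr_cf (f373563 IH) (Lpr_bt (f168594 IH) (Lpr_gt (K14.f168578 IH) (Lpr_ct (K25.f168565 IH) (Lpe (f367829 IH) (Lpe (K27.f309594 IH) (Lpr_bt (K35.f309593 IH) (Lpn (LP (LK LD1_c1 LD2_c17 LD3_c41)))))))))))))
theorem f212142 : Led Lsl_dt (LP (LK LD1_c2 LD2_c42 LD3_c12)) = (LP (LK LD1_c1 LD2_c17 LD3_c41)) :=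
  Lre_d IH (LK LD1_c2 LD2_c42 LD3_c12) (LK LD1_c1 LD2_c17 LD3_c41) Lrfl Lrfl
theorem f373581 : Led Lsl_gt (LP (LK LD1_c5 LD2_c16 LD3_c25)) = (LP (LK LD1_c2 LD2_c42 LD3_c12)) :=
  Lgr Lrot137 (Lpe (K22.f255012 IH) (Lpr_dt (K35.f309778 IH) (Lpe (K19.f309767 IH) (Lpr_df (K22.f179055 IH) (Lpr_et (K21.f309705 IH) (Lpe (K19.f309521 IH) (Lpe (K16.f276115 IH) (Lpe (K15.f261784 IH) (Lpr_gf (f373576 IH) (Lpe (f212142 IH) (Lpn (LP (LK LD1_c2 LD2_c42 LD3_c12)))))))))))))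
theorem f630481 : Led Lsl_af (LP (LK LD1_c5 LD2_c16 LD3_c32)) = (LP (LK LD1_c5 LD2_c18 LD3_c36)) :=
  Lgr Lrot31 (Lpe (K35.f348475 IH) (Lpe (f373581 IH) (Lpr_ft (f630479 IH) (Lpn (LP (LK LD1_c5 LD2_c18 LD3_c36))))))
theorem f630485 : Led Lsl_at (LP (LK LD1_c5 LD2_c13 LD3_c24)) = (LP (LK LD1_c5 LD2_c6 LD3_c25)) :=
  Lgr Lrot51 (Lpe (K22.f333361 IH) (Lpr_af (f630481 IH) (Lpr_df (K22.f180558 IH) (Lpn (LP (LK LD1_c5 LD2_c6 LD3_c25))))))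
theorem f630493 : Led Lsl_ff (LP (LK LD1_c5 LD2_c13 LD3_c24)) = (LP (LK LD1_c5 LD2_c6 LD3_c24)) :=
  Lgr Lrot52 (Lpr_at (f630485 IH) (Lpr_gf (K18.f304447 IH) (Lpe (K18.f304419 IH) (Lpn (LP (LK LD1_c5 LD2_c6 LD3_c24))))))
theorem f630501 : Led Lsl_ft (LP (LK LD1_c5 LD2_c13 LD3_c24)) = (LP (LK LD1_c5 LD2_c6 LD3_c24)) :=
  Lgr Lrot48 (Lpr_ff (f630493 IH) (Lpn (LP (LK LD1_c5 LD2_c6 LD3_c24))))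
theorem f629974 : Led Lsl_ff (LP (LK LD1_c2 LD2_c43 LD3_c29)) = (LP (LK LD1_c4 LD2_c30 LD3_c47)) :=
  Lgr Lrot19 (Lpr_dt (K15.f7611 IH) (Lpr_ft (K54.f495609 IH) (Lpq (K54.f629965 IH) (Lpr_dt (K22.f8627 IH) (Lpn (LP (LK LD1_c4 LD2_c30 LD3_c47)))))))
theorem f630509 : Led Lsl_ff (LP (LK LD1_c4 LD2_c10 LD3_c59)) = (LP (LK LD1_c2 LD2_c40 LD3_c35)) :=
  Lgr Lrot72 (Lpr_et (K23.f348198 IH) (Lpr_ft (f630501 IH) (Lpr_et (K22.f198685 IH) (Lpe (f629974 IH) (Lpe (K15.f181800 IH) (Lpn (LP (LK LD1_c2 LD2_c40 LD3_c35))))))))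
theorem f630519 : Led Lsl_ft (LP (LK LD1_c4 LD2_c10 LD3_c59)) = (LP (LK LD1_c2 LD2_c40 LD3_c35)) :=
  Lgr Lrot48 (Lpr_ff (f630509 IH) (Lpn (LP (LK LD1_c2 LD2_c40 LD3_c35))))
theorem f630529 : Led Lsl_ff (LP (LK LD1_c4 LD2_c30 LD3_c47)) = (LP (LK LD1_c2 LD2_c43 LD3_c29)) :=
  Lgr Lrot72 (Lpe (K18.f198678 IH) (Lpe (f630493 IH) (Lpe (K35.f348202 IH) (Lpr_ft (f630519 IH) (Lpr_et (K19.f181813 IH) (Lpn (LP (LK LD1_c2 LD2_c43 LD3_c29))))))))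
theorem f309798 : Led Lsl_gt (LP (LK LD1_c2 LD2_c40 LD3_c53)) = (LP (LK LD1_c2 LD2_c43 LD3_c25)) :=
  Lgr Lrot137 (Lpe (K22.f264662 IH) (Lpr_dt (K21.f264660 IH) (Lpe (K21.f8553 IH) (Lpr_df (K21.f8427 IH) (Lpr_et (K19.f8552 IH) (Lpe (K9.f8545 IH) (Lpe (K15.f8527 IH) (Lpr_dt (K0.f8616 IH) (Lpr_gf (K19.f309784 IH) (Lpe (K22.f7628 IH) (Lpn (LP (LK LD1_c2 LD2_c43 LD3_c25)))))))))))))
theorem f630535 : Led Lsl_at (LP (LK LD1_c4 LD2_c30 LD3_c47)) = (LP (LK LD1_c2 LD2_c43 LD3_c25)) :=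
  Lgr Lrot26 (Lpr_ff (f630529 IH) (Lpe (K21.f264674 IH) (Lpr_gt (f309798 IH) (Lpn (LP (LK LD1_c2 LD2_c43 LD3_c25))))))
theorem f183275 : Led Lsl_bt (LP (LK LD1_c4 LD2_c30 LD3_c51)) = (LP (LK LD1_c8 LD2_c59 LD3_c54)) :=
  Lre_b IH (LK LD1_c4 LD2_c30 LD3_c51) (LK LD1_c8 LD2_c59 LD3_c54) Lrfl Lrfl
theorem f630283 : Led Lsl_ft (LP (LK LD1_c2 LD2_c43 LD3_c25)) = (LP (LK LD1_c4 LD2_c30 LD3_c51)) :=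
  Lgr Lrot75 (Lpe (K25.f309801 IH) (Lpr_ff (f630275 IH) (Lpe (f183275 IH) (Lpn (LP (LK LD1_c4 LD2_c30 LD3_c51))))))
theorem f630543 : Led Lsl_af (LP (LK LD1_c2 LD2_c43 LD3_c29)) = (LP (LK LD1_c4 LD2_c30 LD3_c51)) :=
  Lgr Lrot45 (Lpe (f630529 IH) (Lpr_at (f630535 IH) (Lpr_ft (f630283 IH) (Lpn (LP (LK LD1_c4 LD2_c30 LD3_c51))))))
theorem f7654 : Led Lsl_ct (LP (LK LD1_c8 LD2_c59 LD3_c56)) = (LP (LK LD1_c4 LD2_c30 LD3_c51)) :=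
  Lre_c IH (LK LD1_c8 LD2_c59 LD3_c56) (LK LD1_c4 LD2_c30 LD3_c51) Lrfl Lrfl
theorem f630549 : Led Lsl_at (LP (LK LD1_c5 LD2_c35 LD3_c10)) = (LP (LK LD1_c8 LD2_c59 LD3_c56)) :=
  Lgr Lrot107 (Lpe (K19.f8599 IH) (Lpr_af (f630543 IH) (Lpe (f7654 IH) (Lpn (LP (LK LD1_c8 LD2_c59 LD3_c56))))))
theorem f8598 : Led Lsl_ct (LP (LK LD1_c5 LD2_c35 LD3_c10)) = (LP (LK LD1_c2 LD2_c43 LD3_c29)) :=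
  Lre_c IH (LK LD1_c5 LD2_c35 LD3_c10) (LK LD1_c2 LD2_c43 LD3_c29) Lrfl Lrfl
theorem f181809 : Led Lsl_et (LP (LK LD1_c5 LD2_c28 LD3_c37)) = (LP (LK LD1_c5 LD2_c35 LD3_c10)) :=
  Lgr Lrot158 (Lpe (K19.f7763 IH) (Lpr_ef (K15.f181800 IH) (Lpe (f8598 IH) (Lpn (LP (LK LD1_c5 LD2_c35 LD3_c10))))))
theorem f630555 : Led Lsl_af (LP (LK LD1_c5 LD2_c28 LD3_c37)) = (LP (LK LD1_c5 LD2_c36 LD3_c22)) :=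
  Lgr Lrot50 (Lpr_et (f181809 IH) (Lpr_at (f630549 IH) (Lpr_et (K23.f340409 IH) (Lpn (LP (LK LD1_c5 LD2_c36 LD3_c22))))))
theorem f630602 : Led Lsl_ft (LP (LK LD1_c5 LD2_c28 LD3_c38)) = (LP (LK LD1_c5 LD2_c36 LD3_c22)) :=
  Lgr Lrot2 (Lpr_gt (K25.f267686 IH) (Lpe (K19.f305033 IH) (Lpr_af (f630555 IH) (Lpn (LP (LK LD1_c5 LD2_c36 LD3_c22))))))
theorem f630610 : Led Lsl_ff (LP (LK LD1_c5 LD2_c28 LD3_c38)) = (LP (LK LD1_c5 LD2_c36 LD3_c22)) :=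
  Lgr Lrot3 (Lpr_ft (f630602 IH) (Lpn (LP (LK LD1_c5 LD2_c36 LD3_c22))))
theorem f267691 : Led Lsl_bt (LP (LK LD1_c5 LD2_c28 LD3_c38)) = (LP (LK LD1_c10 LD2_c48 LD3_c20)) :=
  Lre_b IH (LK LD1_c5 LD2_c28 LD3_c38) (LK LD1_c10 LD2_c48 LD3_c20) Lrfl Lrfl
theorem f340422 : Led Lsl_bt (LP (LK LD1_c11 LD2_c4 LD3_c57)) = (LP (LK LD1_c5 LD2_c36 LD3_c22)) :=
  Lre_b IH (LK LD1_c11 LD2_c4 LD3_c57) (LK LD1_c5 LD2_c36 LD3_c22) Lrfl Lrfl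
theorem f630614 : Led Lsl_ft (LP (LK LD1_c10 LD2_c48 LD3_c20)) = (LP (LK LD1_c11 LD2_c4 LD3_c57)) :=
  Lgr Lrot75 (Lpe (f267691 IH) (Lpr_ff (f630610 IH) (Lpe (f340422 IH) (Lpn (LP (LK LD1_c11 LD2_c4 LD3_c57))))))
theorem f353268 : Led Lsl_bt (LP (LK LD1_c2 LD2_c40 LD3_c36)) = (LP (LK LD1_c5 LD2_c27 LD3_c41)) :=
  Lgr Lrot95 (Lpe (K22.f333653 IH) (Lpr_bf (K25.f353264 IH) (Lpr_df (K27.f250697 IH) (Lpn (LP (LK LD1_c5 LD2_c27 LD3_c41))))))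
theorem f7758 : Led Lsl_ct (LP (LK LD1_c5 LD2_c28 LD3_c38)) = (LP (LK LD1_c2 LD2_c40 LD3_c36)) :=
  Lre_c IH (LK LD1_c5 LD2_c28 LD3_c38) (LK LD1_c2 LD2_c40 LD3_c36) Lrfl Lrfl
theorem f267693 : Led Lsl_bt (LP (LK LD1_c10 LD2_c48 LD3_c20)) = (LP (LK LD1_c5 LD2_c28 LD3_c38)) :=
  Lre_b IH (LK LD1_c10 LD2_c48 LD3_c20) (LK LD1_c5 LD2_c28 LD3_c38) Lrfl Lrfl
theorem f250702 : Led Lsl_bt (LP (LK LD1_c10 LD2_c46 LD3_c30)) = (LP (LK LD1_c19 LD2_c29 LD3_c9)) :=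
  Lre_b IH (LK LD1_c10 LD2_c46 LD3_c30) (LK LD1_c19 LD2_c29 LD3_c9) Lrfl Lrfl
theorem f379469 : Led Lsl_cf (LP (LK LD1_c10 LD2_c48 LD3_c20)) = (LP (LK LD1_c19 LD2_c29 LD3_c9)) :=
  Lgr Lrot97 (Lpr_bt (f267693 IH) (Lpr_ct (f7758 IH) (Lpr_bt (f353268 IH) (Lpr_ct (K21.f236039 IH) (Lpr_bt (f250702 IH) (Lpn (LP (LK LD1_c19 LD2_c29 LD3_c9))))))))
theorem f340425 : Led Lsl_ct (LP (LK LD1_c11 LD2_c4 LD3_c57)) = (LP (LK LD1_c19 LD2_c57 LD3_c42)) :=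
  Lre_c IH (LK LD1_c11 LD2_c4 LD3_c57) (LK LD1_c19 LD2_c57 LD3_c42) Lrfl Lrfl
theorem f630625 : Led Lsl_ff (LP (LK LD1_c19 LD2_c29 LD3_c9)) = (LP (LK LD1_c19 LD2_c57 LD3_c42)) :=
  Lgr Lrot23 (Lpe (f379469 IH) (Lpr_ft (f630614 IH) (Lpr_ct (f340425 IH) (Lpn (LP (LK LD1_c19 LD2_c57 LD3_c42))))))
theorem f324210 : Led Lsl_bt (LP (LK LD1_c19 LD2_c29 LD3_c9)) = (LP (LK LD1_c10 LD2_c46 LD3_c30)) :=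
  Lre_b IH (LK LD1_c19 LD2_c29 LD3_c9) (LK LD1_c10 LD2_c46 LD3_c30) Lrfl Lrfl
theorem f323969 : Led Lsl_bt (LP (LK LD1_c8 LD2_c18 LD3_c26)) = (LP (LK LD1_c4 LD2_c10 LD3_c58)) :=
  Lgr Lrot119 (Lpr_ef (K21.f323967 IH) (Lpe (f183275 IH) (Lpe (K20.f183273 IH) (Lpn (LP (LK LD1_c4 LD2_c10 LD3_c58))))))
theorem f340411 : Led Lsl_bt (LP (LK LD1_c5 LD2_c36 LD3_c22)) = (LP (LK LD1_c11 LD2_c4 LD3_c57)) :=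
  Lre_b IH (LK LD1_c5 LD2_c36 LD3_c22) (LK LD1_c11 LD2_c4 LD3_c57) Lrfl Lrfl
theorem f340426 : Led Lsl_bf (LP (LK LD1_c15 LD2_c37 LD3_c27)) = (LP (LK LD1_c19 LD2_c57 LD3_c42)) :=
  Lgr Lrot90 (Lpr_ct (K22.f295891 IH) (Lpr_bt (f323969 IH) (Lpr_ct (K23.f340420 IH) (Lpr_bt (f340411 IH) (Lpr_ct (f340425 IH) (Lpn (LP (LK LD1_c19 LD2_c57 LD3_c42))))))))
theorem f395551 : Led Lsl_bt (LP (LK LD1_c15 LD2_c37 LD3_c27)) = (LP (LK LD1_c19 LD2_c57 LD3_c42)) :=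
  Lgr Lrot127 (Lpr_bf (f340426 IH) (Lpn (LP (LK LD1_c19 LD2_c57 LD3_c42))))
theorem f630627 : Led Lsl_ft (LP (LK LD1_c10 LD2_c46 LD3_c30)) = (LP (LK LD1_c15 LD2_c37 LD3_c27)) :=
  Lgr Lrot75 (Lpe (f324210 IH) (Lpr_ff (f630625 IH) (Lpe (f395551 IH) (Lpn (LP (LK LD1_c15 LD2_c37 LD3_c27))))))
theorem f366202 : Led Lsl_et (LP (LK LD1_c5 LD2_c27 LD3_c41)) = (LP (LK LD1_c10 LD2_c3 LD3_c50)) :=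
  Lgr Lrot122 (Lpe (K27.f250697 IH) (Lpe (K25.f323310 IH) (Lpr_df (K23.f283161 IH) (Lpr_et (K17.f236276 IH) (Lpr_gt (K27.f366198 IH) (Lpr_dt (K25.f260429 IH) (Lpr_gt (K25.f353291 IH) (Lpr_df (K21.f301516 IH) (Lpe (K18.f301518 IH) (Lpe (K25.f353289 IH) (Lpn (LP (LK LD1_c10 LD2_c3 LD3_c50)))))))))))))
theorem f236040 : Led Lsl_ct (LP (LK LD1_c10 LD2_c46 LD3_c30)) = (LP (LK LD1_c5 LD2_c27 LD3_c41)) :=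
  Lre_c IH (LK LD1_c10 LD2_c46 LD3_c30) (LK LD1_c5 LD2_c27 LD3_c41) Lrfl Lrfl
theorem f304449 : Led Lsl_ct (LP (LK LD1_c10 LD2_c3 LD3_c50)) = (LP (LK LD1_c18 LD2_c22 LD3_c27)) :=
  Lre_c IH (LK LD1_c10 LD2_c3 LD3_c50) (LK LD1_c18 LD2_c22 LD3_c27) Lrfl Lrfl
theorem f377661 : Led Lsl_ef (LP (LK LD1_c10 LD2_c46 LD3_c30)) = (LP (LK LD1_c18 LD2_c22 LD3_c27)) :=
  Lgr Lrot28 (Lpr_ct (f236040 IH) (Lpr_et (f366202 IH) (Lpr_ct (f304449 IH) (Lpn (LP (LK LD1_c18 LD2_c22 LD3_c27))))))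
theorem f309810 : Led Lsl_ct (LP (LK LD1_c10 LD2_c17 LD3_c4)) = (LP (LK LD1_c18 LD2_c41 LD3_c55)) :=
  Lre_c IH (LK LD1_c10 LD2_c17 LD3_c4) (LK LD1_c18 LD2_c41 LD3_c55) Lrfl Lrfl
theorem f353286 : Led Lsl_ct (LP (LK LD1_c18 LD2_c22 LD3_c27)) = (LP (LK LD1_c10 LD2_c3 LD3_c50)) :=
  Lre_c IH (LK LD1_c18 LD2_c22 LD3_c27) (LK LD1_c10 LD2_c3 LD3_c50) Lrfl Lrfl
theorem f630333 : Led Lsl_ft (LP (LK LD1_c18 LD2_c41 LD3_c55)) = (LP (LK LD1_c18 LD2_c22 LD3_c27)) :=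
  Lgr Lrot4 (Lpe (f309810 IH) (Lpr_ff (f630329 IH) (Lpe (f353286 IH) (Lpn (LP (LK LD1_c18 LD2_c22 LD3_c27))))))
theorem f309809 : Led Lsl_ct (LP (LK LD1_c18 LD2_c41 LD3_c55)) = (LP (LK LD1_c10 LD2_c17 LD3_c4)) :=
  Lre_c IH (LK LD1_c18 LD2_c41 LD3_c55) (LK LD1_c10 LD2_c17 LD3_c4) Lrfl Lrfl
theorem f309802 : Led Lsl_ct (LP (LK LD1_c5 LD2_c34 LD3_c61)) = (LP (LK LD1_c11 LD2_c2 LD3_c18)) :=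
  Lre_c IH (LK LD1_c5 LD2_c34 LD3_c61) (LK LD1_c11 LD2_c2 LD3_c18) Lrfl Lrfl
theorem f309811 : Led Lsl_ef (LP (LK LD1_c18 LD2_c41 LD3_c55)) = (LP (LK LD1_c11 LD2_c2 LD3_c18)) :=
  Lgr Lrot28 (Lpr_ct (f309809 IH) (Lpr_et (K25.f309804 IH) (Lpr_ct (f309802 IH) (Lpn (LP (LK LD1_c11 LD2_c2 LD3_c18))))))
theorem f323971 : Led Lsl_et (LP (LK LD1_c15 LD2_c37 LD3_c27)) = (LP (LK LD1_c16 LD2_c49 LD3_c14)) :=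
  Lgr Lrot158 (Lpe (K22.f295882 IH) (Lpr_ef (K21.f323967 IH) (Lpe (K27.f264559 IH) (Lpn (LP (LK LD1_c16 LD2_c49 LD3_c14))))))
theorem f631162 : Led Lsl_ff (LP (LK LD1_c11 LD2_c2 LD3_c18)) = (LP (LK LD1_c16 LD2_c49 LD3_c14)) :=
  Lgr Lrot72 (Lpe (f309811 IH) (Lpr_ft (f630333 IH) (Lpe (f377661 IH) (Lpr_ft (f630627 IH) (Lpr_et (f323971 IH) (Lpn (LP (LK LD1_c16 LD2_c49 LD3_c14))))))))
theorem f630631 : Led Lsl_ft (LP (LK LD1_c19 LD2_c29 LD3_c9)) = (LP (LK LD1_c19 LD2_c57 LD3_c42)) :=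
  Lgr Lrot48 (Lpr_ff (f630625 IH) (Lpn (LP (LK LD1_c19 LD2_c57 LD3_c42))))
theorem f379474 : Led Lsl_dt (LP (LK LD1_c28 LD2_c51 LD3_c18)) = (LP (LK LD1_c19 LD2_c29 LD3_c9)) :=
  Lre_d IH (LK LD1_c28 LD2_c51 LD3_c18) (LK LD1_c19 LD2_c29 LD3_c9) Lrfl Lrfl
theorem f395560 : Led Lsl_dt (LP (LK LD1_c19 LD2_c57 LD3_c42)) = (LP (LK LD1_c29 LD2_c12 LD3_c59)) :=
  Lre_d IH (LK LD1_c19 LD2_c57 LD3_c42) (LK LD1_c29 LD2_c12 LD3_c59) Lrfl Lrfl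
theorem f630633 : Led Lsl_ff (LP (LK LD1_c28 LD2_c51 LD3_c18)) = (LP (LK LD1_c29 LD2_c12 LD3_c59)) :=
  Lgr Lrot19 (Lpr_dt (f379474 IH) (Lpr_ft (f630631 IH) (Lpr_dt (f395560 IH) (Lpn (LP (LK LD1_c29 LD2_c12 LD3_c59))))))
theorem f282595 : Led Lsl_bt (LP (LK LD1_c28 LD2_c51 LD3_c18)) = (LP (LK LD1_c19 LD2_c29 LD3_c10)) :=
  Lre_b IH (LK LD1_c28 LD2_c51 LD3_c18) (LK LD1_c19 LD2_c29 LD3_c10) Lrfl Lrfl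
theorem f295892 : Led Lsl_dt (LP (LK LD1_c15 LD2_c37 LD3_c27)) = (LP (LK LD1_c25 LD2_c32 LD3_c18)) :=
  Lre_d IH (LK LD1_c15 LD2_c37 LD3_c27) (LK LD1_c25 LD2_c32 LD3_c18) Lrfl Lrfl
theorem f340424 : Led Lsl_dt (LP (LK LD1_c29 LD2_c12 LD3_c59)) = (LP (LK LD1_c19 LD2_c57 LD3_c42)) :=
  Lre_d IH (LK LD1_c29 LD2_c12 LD3_c59) (LK LD1_c19 LD2_c57 LD3_c42) Lrfl Lrfl
theorem f395553 : Led Lsl_bt (LP (LK LD1_c25 LD2_c32 LD3_c18)) = (LP (LK LD1_c29 LD2_c12 LD3_c59)) :=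
  Lgr Lrot95 (Lpe (f295892 IH) (Lpr_bf (f340426 IH) (Lpe (f340424 IH) (Lpn (LP (LK LD1_c29 LD2_c12 LD3_c59))))))
theorem f630635 : Led Lsl_ft (LP (LK LD1_c19 LD2_c29 LD3_c10)) = (LP (LK LD1_c25 LD2_c32 LD3_c18)) :=
  Lgr Lrot75 (Lpe (f282595 IH) (Lpr_ff (f630633 IH) (Lpe (f395553 IH) (Lpn (LP (LK LD1_c25 LD2_c32 LD3_c18))))))
theorem f630639 : Led Lsl_ff (LP (LK LD1_c19 LD2_c29 LD3_c10)) = (LP (LK LD1_c25 LD2_c32 LD3_c18)) :=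
  Lgr Lrot3 (Lpr_ft (f630635 IH) (Lpn (LP (LK LD1_c25 LD2_c32 LD3_c18))))
theorem f166502 : Led Lsl_bt (LP (LK LD1_c2 LD2_c5 LD3_c61)) = (LP (LK LD1_c4 LD2_c17 LD3_c17)) :=
  Lre_b IH (LK LD1_c2 LD2_c5 LD3_c61) (LK LD1_c4 LD2_c17 LD3_c17) Lrfl Lrfl
theorem f276711 : Led Lsl_bt (LP (LK LD1_c8 LD2_c30 LD3_c52)) = (LP (LK LD1_c4 LD2_c17 LD3_c19)) :=
  Lgr Lrot119 (Lpr_ef (K16.f276707 IH) (Lpe (f166502 IH) (Lpe (K17.f7875 IH) (Lpn (LP (LK LD1_c4 LD2_c17 LD3_c19))))))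
theorem f322246 : Led Lsl_gt (LP (LK LD1_c8 LD2_c33 LD3_c40)) = (LP (LK LD1_c15 LD2_c49 LD3_c53)) :=
  Lgr Lrot65 (Lpe (K20.f267637 IH) (Lpr_bt (K15.f267629 IH) (Lpr_gf (K16.f276743 IH) (Lpe (f276711 IH) (Lpr_ct (K17.f276713 IH) (Lpe (K20.f309986 IH) (Lpe (K20.f271141 IH) (Lpr_gf (K20.f322238 IH) (Lpe (K21.f271125 IH) (Lpr_ct (K23.f322245 IH) (Lpn (LP (LK LD1_c15 LD2_c49 LD3_c53)))))))))))))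
theorem f322244 : Led Lsl_ct (LP (LK LD1_c15 LD2_c49 LD3_c53)) = (LP (LK LD1_c8 LD2_c25 LD3_c40)) :=
  Lre_c IH (LK LD1_c15 LD2_c49 LD3_c53) (LK LD1_c8 LD2_c25 LD3_c40) Lrfl Lrfl
theorem f348531 : Led Lsl_df (LP (LK LD1_c15 LD2_c25 LD3_c8)) = (LP (LK LD1_c8 LD2_c25 LD3_c40)) :=
  Lgr Lrot162 (Lpe (K39.f182951 IH) (Lpr_gf (K23.f348527 IH) (Lpe (K23.f315946 IH) (Lpe (K21.f274554 IH) (Lpr_dt (K20.f315936 IH) (Lpe (K20.f315938 IH) (Lpr_ct (K20.f267637 IH) (Lpr_gt (f322246 IH) (Lpr_ct (f322244 IH) (Lpn (LP (LK LD1_c8 LD2_c25 LD3_c40))))))))))))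
theorem f257346 : Led Lsl_gt (LP (LK LD1_c8 LD2_c38 LD3_c31)) = (LP (LK LD1_c16 LD2_c11 LD3_c5)) :=
  Lre_g IH (LK LD1_c8 LD2_c38 LD3_c31) (LK LD1_c16 LD2_c11 LD3_c5) Lrfl Lrfl
theorem f324772 : Led Lsl_gf (LP (LK LD1_c15 LD2_c25 LD3_c8)) = (LP (LK LD1_c16 LD2_c11 LD3_c5)) :=
  Lgr Lrot76 (Lpr_af (K21.f324766 IH) (Lpe (K21.f257353 IH) (Lpr_gt (f257346 IH) (Lpn (LP (LK LD1_c16 LD2_c11 LD3_c5))))))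
theorem f324774 : Led Lsl_dt (LP (LK LD1_c26 LD2_c7 LD3_c50)) = (LP (LK LD1_c16 LD2_c11 LD3_c5)) :=
  Lre_d IH (LK LD1_c26 LD2_c7 LD3_c50) (LK LD1_c16 LD2_c11 LD3_c5) Lrfl Lrfl
theorem f368652 : Led Lsl_et (LP (LK LD1_c26 LD2_c7 LD3_c50)) = (LP (LK LD1_c27 LD2_c23 LD3_c48)) :=
  Lgr Lrot122 (Lpr_dt (f324774 IH) (Lpe (f324772 IH) (Lpr_df (f348531 IH) (Lpr_et (K21.f324742 IH) (Lpe (K25.f357315 IH) (Lpr_dt (K26.f357499 IH) (Lpe (K27.f357497 IH) (Lpe (K21.f322670 IH) (Lpr_et (K20.f322672 IH) (Lpr_gt (K27.f368646 IH) (Lpn (LP (LK LD1_c27 LD2_c23 LD3_c48)))))))))))))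
theorem f368549 : Led Lsl_df (LP (LK LD1_c10 LD2_c41 LD3_c3)) = (LP (LK LD1_c16 LD2_c41 LD3_c2)) :=
  Lgr Lrot155 (Lpr_gt (K27.f223929 IH) (Lpr_ct (K26.f223940 IH) (Lpe (K27.f352267 IH) (Lpr_ct (K27.f322687 IH) (Lpr_dt (K22.f322691 IH) (Lpe (K27.f265533 IH) (Lpr_gf (K27.f368541 IH) (Lpe (K27.f187441 IH) (Lpe (K27.f187422 IH) (Lpn (LP (LK LD1_c16 LD2_c41 LD3_c2))))))))))))
theorem f291404 : Led Lsl_gf (LP (LK LD1_c10 LD2_c29 LD3_c41)) = (LP (LK LD1_c10 LD2_c3 LD3_c32)) :=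
  Lgr Lrot147 (Lpr_ct (K20.f256245 IH) (Lpe (K17.f284104 IH) (Lpr_ct (K17.f42503 IH) (Lpe (K25.f42500 IH) (Lpr_cf (f291397 IH) (Lpe (K22.f291373 IH) (Lpr_cf (K15.f265136 IH) (Lpe (K15.f195315 IH) (Lpr_df (K15.f264866 IH) (Lpn (LP (LK LD1_c10 LD2_c3 LD3_c32))))))))))))
theorem f321256 : Led Lsl_gt (LP (LK LD1_c2 LD2_c31 LD3_c34)) = (LP (LK LD1_c4 LD2_c54 LD3_c53)) :=
  Lgr Lrot9 (Lpe (K24.f190333 IH) (Lpr_gt (K14.f251603 IH) (Lpr_ct (K15.f264860 IH) (Lpe (f291404 IH) (Lpr_ct (K20.f256245 IH) (Lpe (K17.f256248 IH) (Lpr_cf (K17.f256229 IH) (Lpr_gf (K20.f321246 IH) (Lpe (K20.f265106 IH) (Lpn (LP (LK LD1_c4 LD2_c54 LD3_c53))))))))))))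
theorem f368567 : Led Lsl_ef (LP (LK LD1_c16 LD2_c11 LD3_c5)) = (LP (LK LD1_c16 LD2_c41 LD3_c2)) :=
  Lgr Lrot17 (Lpe (f257346 IH) (Lpe (K21.f257330 IH) (Lpr_dt (K20.f321342 IH) (Lpe (f321256 IH) (Lpe (K24.f190333 IH) (Lpr_gf (K13.f191105 IH) (Lpe (K15.f191116 IH) (Lpe (K25.f223922 IH) (Lpe (K27.f223929 IH) (Lpr_df (f368549 IH) (Lpn (LP (LK LD1_c16 LD2_c41 LD3_c2)))))))))))))
theorem f368571 : Led Lsl_et (LP (LK LD1_c16 LD2_c11 LD3_c5)) = (LP (LK LD1_c16 LD2_c41 LD3_c2)) :=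
  Lgr Lrot87 (Lpr_ef (f368567 IH) (Lpn (LP (LK LD1_c16 LD2_c41 LD3_c2))))
theorem f368553 : Led Lsl_bf (LP (LK LD1_c15 LD2_c51 LD3_c55)) = (LP (LK LD1_c16 LD2_c41 LD3_c2)) :=
  Lgr Lrot24 (Lpr_bt (K27.f368551 IH) (Lpn (LP (LK LD1_c16 LD2_c41 LD3_c2))))
theorem f368573 : Led Lsl_bf (LP (LK LD1_c16 LD2_c11 LD3_c5)) = (LP (LK LD1_c10 LD2_c24 LD3_c15)) :=
  Lgr Lrot96 (Lpr_et (f368571 IH) (Lpe (f368553 IH) (Lpe (K26.f322069 IH) (Lpn (LP (LK LD1_c10 LD2_c24 LD3_c15))))))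
theorem f257347 : Led Lsl_dt (LP (LK LD1_c16 LD2_c11 LD3_c5)) = (LP (LK LD1_c26 LD2_c7 LD3_c50)) :=
  Lre_d IH (LK LD1_c16 LD2_c11 LD3_c5) (LK LD1_c26 LD2_c7 LD3_c50) Lrfl Lrfl
theorem f368577 : Led Lsl_bt (LP (LK LD1_c26 LD2_c7 LD3_c50)) = (LP (LK LD1_c18 LD2_c52 LD3_c36)) :=
  Lgr Lrot95 (Lpe (f257347 IH) (Lpr_bf (f368573 IH) (Lpe (K26.f251713 IH) (Lpn (LP (LK LD1_c18 LD2_c52 LD3_c36))))))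
theorem f368612 : Led Lsl_bf (LP (LK LD1_c26 LD2_c7 LD3_c50)) = (LP (LK LD1_c18 LD2_c52 LD3_c36)) :=
  Lgr Lrot24 (Lpr_bt (f368577 IH) (Lpn (LP (LK LD1_c18 LD2_c52 LD3_c36))))
theorem f368654 : Led Lsl_bf (LP (LK LD1_c25 LD2_c47 LD3_c2)) = (LP (LK LD1_c27 LD2_c23 LD3_c48)) :=
  Lgr Lrot96 (Lpr_et (K26.f361696 IH) (Lpe (f368612 IH) (Lpr_et (f368652 IH) (Lpn (LP (LK LD1_c27 LD2_c23 LD3_c48))))))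
theorem f194785 : Led Lsl_dt (LP (LK LD1_c17 LD2_c35 LD3_c44)) = (LP (LK LD1_c27 LD2_c23 LD3_c48)) :=
  Lre_d IH (LK LD1_c17 LD2_c35 LD3_c44) (LK LD1_c27 LD2_c23 LD3_c48) Lrfl Lrfl
theorem f368658 : Led Lsl_bt (LP (LK LD1_c15 LD2_c51 LD3_c8)) = (LP (LK LD1_c17 LD2_c35 LD3_c44)) :=
  Lgr Lrot95 (Lpe (K26.f271069 IH) (Lpr_bf (f368654 IH) (Lpe (f194785 IH) (Lpn (LP (LK LD1_c17 LD2_c35 LD3_c44))))))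
theorem f368660 : Led Lsl_ct (LP (LK LD1_c15 LD2_c51 LD3_c8)) = (LP (LK LD1_c10 LD2_c44 LD3_c3)) :=
  Lgr Lrot63 (Lpr_bt (f368658 IH) (Lpe (K27.f368639 IH) (Lpe (K26.f182638 IH) (Lpr_ct (K21.f182647 IH) (Lpr_gt (K25.f328380 IH) (Lpe (K54.f301492 IH) (Lpr_bt (K22.f298856 IH) (Lpr_gt (K21.f285645 IH) (Lpr_ct (K22.f285615 IH) (Lpr_gt (f245109 IH) (Lpn (LP (LK LD1_c10 LD2_c44 LD3_c3)))))))))))))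
theorem f285659 : Led Lsl_dt (LP (LK LD1_c19 LD2_c25 LD3_c32)) = (LP (LK LD1_c10 LD2_c44 LD3_c3)) :=
  Lre_d IH (LK LD1_c19 LD2_c25 LD3_c32) (LK LD1_c10 LD2_c44 LD3_c3) Lrfl Lrfl
theorem f368671 : Led Lsl_gt (LP (LK LD1_c25 LD2_c32 LD3_c18)) = (LP (LK LD1_c19 LD2_c25 LD3_c32)) :=
  Lgr Lrot189 (Lpe (f295892 IH) (Lpe (K23.f295888 IH) (Lpr_ct (K14.f213792 IH) (Lpr_gt (K22.f213811 IH) (Lpr_dt (K27.f358602 IH) (Lpr_gt (K27.f365875 IH) (Lpr_dt (K26.f271069 IH) (Lpr_ct (f368660 IH) (Lpe (f285659 IH) (Lpn (LP (LK LD1_c19 LD2_c25 LD3_c32))))))))))))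
theorem f630643 : Led Lsl_at (LP (LK LD1_c19 LD2_c29 LD3_c10)) = (LP (LK LD1_c25 LD2_c32 LD3_c20)) :=
  Lgr Lrot26 (Lpr_ff (f630639 IH) (Lpr_gt (f368671 IH) (Lpr_gt (f285617 IH) (Lpn (LP (LK LD1_c25 LD2_c32 LD3_c20))))))
theorem f250695 : Led Lsl_dt (LP (LK LD1_c10 LD2_c46 LD3_c30)) = (LP (LK LD1_c19 LD2_c29 LD3_c10)) :=
  Lre_d IH (LK LD1_c10 LD2_c46 LD3_c30) (LK LD1_c19 LD2_c29 LD3_c10) Lrfl Lrfl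
theorem f630647 : Led Lsl_af (LP (LK LD1_c10 LD2_c46 LD3_c30)) = (LP (LK LD1_c15 LD2_c37 LD3_c28)) :=
  Lgr Lrot117 (Lpr_dt (f250695 IH) (Lpr_at (f630643 IH) (Lpr_dt (f236432 IH) (Lpn (LP (LK LD1_c15 LD2_c37 LD3_c28))))))
theorem f630651 : Led Lsl_ft (LP (LK LD1_c10 LD2_c46 LD3_c27)) = (LP (LK LD1_c15 LD2_c37 LD3_c28)) :=
  Lgr Lrot2 (Lpr_gt (K20.f298879 IH) (Lpe (K25.f324206 IH) (Lpr_af (f630647 IH) (Lpn (LP (LK LD1_c15 LD2_c37 LD3_c28))))))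
theorem f298964 : Led Lsl_et (LP (LK LD1_c19 LD2_c29 LD3_c7)) = (LP (LK LD1_c10 LD2_c46 LD3_c27)) :=
  Lre_e IH (LK LD1_c19 LD2_c29 LD3_c7) (LK LD1_c10 LD2_c46 LD3_c27) Lrfl Lrfl
theorem f237852 : Led Lsl_ct (LP (LK LD1_c10 LD2_c42 LD3_c57)) = (LP (LK LD1_c19 LD2_c23 LD3_c45)) :=
  Lre_c IH (LK LD1_c10 LD2_c42 LD3_c57) (LK LD1_c19 LD2_c23 LD3_c45) Lrfl Lrfl
theorem f317725 : Led Lsl_ef (LP (LK LD1_c19 LD2_c28 LD3_c25)) = (LP (LK LD1_c19 LD2_c23 LD3_c45)) :=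
  Lgr Lrot28 (Lpr_ct (K53.f317724 IH) (Lpr_et (K23.f317722 IH) (Lpr_ct (f237852 IH) (Lpn (LP (LK LD1_c19 LD2_c23 LD3_c45))))))
theorem f630659 : Led Lsl_ff (LP (LK LD1_c19 LD2_c29 LD3_c7)) = (LP (LK LD1_c19 LD2_c28 LD3_c25)) :=
  Lgr Lrot72 (Lpr_et (f298964 IH) (Lpr_ft (f630651 IH) (Lpe (f285627 IH) (Lpr_ft (f630313 IH) (Lpe (f317725 IH) (Lpn (LP (LK LD1_c19 LD2_c28 LD3_c25))))))))
theorem f630661 : Led Lsl_at (LP (LK LD1_c19 LD2_c29 LD3_c7)) = (LP (LK LD1_c16 LD2_c49 LD3_c14)) :=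
  Lgr Lrot26 (Lpr_ff (f630659 IH) (Lpe (K53.f378801 IH) (Lpe (K27.f363513 IH) (Lpn (LP (LK LD1_c16 LD2_c49 LD3_c14))))))
theorem f631164 : Led Lsl_at (LP (LK LD1_c11 LD2_c2 LD3_c18)) = (LP (LK LD1_c19 LD2_c28 LD3_c25)) :=
  Lgr Lrot66 (Lpr_ff (f631162 IH) (Lpe (f630661 IH) (Lpr_ff (f630659 IH) (Lpn (LP (LK LD1_c19 LD2_c28 LD3_c25))))))
theorem f309819 : Led Lsl_ct (LP (LK LD1_c11 LD2_c2 LD3_c18)) = (LP (LK LD1_c5 LD2_c34 LD3_c61)) :=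
  Lre_c IH (LK LD1_c11 LD2_c2 LD3_c18) (LK LD1_c5 LD2_c34 LD3_c61) Lrfl Lrfl
theorem f309820 : Led Lsl_et (LP (LK LD1_c18 LD2_c41 LD3_c55)) = (LP (LK LD1_c11 LD2_c2 LD3_c18)) :=
  Lgr Lrot158 (Lpe (f309810 IH) (Lpr_ef (f309815 IH) (Lpe (f309819 IH) (Lpn (LP (LK LD1_c11 LD2_c2 LD3_c18))))))
theorem f317720 : Led Lsl_et (LP (LK LD1_c19 LD2_c28 LD3_c25)) = (LP (LK LD1_c19 LD2_c23 LD3_c45)) :=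
  Lgr Lrot158 (Lpe (K53.f317719 IH) (Lpr_ef (K23.f317717 IH) (Lpe (f259220 IH) (Lpn (LP (LK LD1_c19 LD2_c23 LD3_c45))))))
theorem f631166 : Led Lsl_af (LP (LK LD1_c18 LD2_c41 LD3_c55)) = (LP (LK LD1_c19 LD2_c23 LD3_c45)) :=
  Lgr Lrot50 (Lpr_et (f309820 IH) (Lpr_at (f631164 IH) (Lpr_et (f317720 IH) (Lpn (LP (LK LD1_c19 LD2_c23 LD3_c45))))))
theorem f751134 : Led Lsl_gf (LP (LK LD1_c18 LD2_c41 LD3_c55)) = v16693 :=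
  Lgr Lrot76 (Lpr_af (f631166 IH) (Lpe (f630313 IH) (Lpr_gt (f751132 IH) (Lpn v16693))))
theorem f751136 : Led Lsl_df (LP (LK LD1_c19 LD2_c42 LD3_c3)) = (LP (LK LD1_c18 LD2_c41 LD3_c55)) :=
  Lgr Lrot16 (Lpr_gt (f377858 IH) (Lpr_dt (f377857 IH) (Lpr_ct (f377852 IH) (Lpe (f259624 IH) (Lpe (f353102 IH) (Lpe (f323672 IH) (Lpe (K26.f274759 IH) (Lpr_ct (f751135 IH) (Lpe (f751134 IH) (Lpn (LP (LK LD1_c18 LD2_c41 LD3_c55))))))))))))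
theorem f751137 : Led Lsl_dt (LP (LK LD1_c18 LD2_c41 LD3_c55)) = (LP (LK LD1_c19 LD2_c42 LD3_c3)) :=
  Leop (Lpr_df (f751136 IH) (Lpn (LP (LK LD1_c18 LD2_c41 LD3_c55))))
theorem seed_1049 : LEOK LG_d (LK LD1_c18 LD2_c41 LD3_c55) :=
  Leoe_d (LK LD1_c18 LD2_c41 LD3_c55) (f751137 IH)
def v16696 : LQ := Led Lsl_bt (LP (LK LD1_c6 LD2_c5 LD3_c53))
theorem f751150 : Led Lsl_bt (LP (LK LD1_c6 LD2_c5 LD3_c53)) = v16696 :=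
  Lrfl
theorem f751151 : Led Lsl_bf (LP (LK LD1_c6 LD2_c5 LD3_c53)) = v16696 :=
  Lgr Lrot24 (Lpr_bt (f751150 IH) (Lpn v16696))
theorem f179062 : Led Lsl_gt (LP (LK LD1_c2 LD2_c59 LD3_c2)) = (LP (LK LD1_c6 LD2_c5 LD3_c53)) :=
  Lre_g IH (LK LD1_c2 LD2_c59 LD3_c2) (LK LD1_c6 LD2_c5 LD3_c53) Lrfl Lrfl
theorem f179047 : Led Lsl_bt (LP (LK LD1_c1 LD2_c25 LD3_c15)) = (LP (LK LD1_c2 LD2_c59 LD3_c2)) :=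
  Lre_b IH (LK LD1_c1 LD2_c25 LD3_c15) (LK LD1_c2 LD2_c59 LD3_c2) Lrfl Lrfl
theorem f177500 : Led Lsl_bt (LP (LK LD1_c2 LD2_c59 LD3_c38)) = (LP (LK LD1_c1 LD2_c25 LD3_c31)) :=
  Lre_b IH (LK LD1_c2 LD2_c59 LD3_c38) (LK LD1_c1 LD2_c25 LD3_c31) Lrfl Lrfl
theorem f179059 : Led Lsl_ct (LP (LK LD1_c2 LD2_c59 LD3_c38)) = (LP (LK LD1_c6 LD2_c6 LD3_c59)) :=
  Lre_c IH (LK LD1_c2 LD2_c59 LD3_c38) (LK LD1_c6 LD2_c6 LD3_c59) Lrfl Lrfl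
theorem f184970 : Led Lsl_gt (LP (LK LD1_c11 LD2_c56 LD3_c52)) = (LP (LK LD1_c6 LD2_c6 LD3_c59)) :=
  Lre_g IH (LK LD1_c11 LD2_c56 LD3_c52) (LK LD1_c6 LD2_c6 LD3_c59) Lrfl Lrfl
theorem f751153 : Led Lsl_cf (LP (LK LD1_c11 LD2_c56 LD3_c52)) = v16696 :=
  Lgr Lrot160 (Lpr_gt (f184970 IH) (Lpe (f179059 IH) (Lpr_bt (f177500 IH) (Lpe (K10.f184968 IH) (Lpr_ct (K10.f184905 IH) (Lpr_gt (K10.f184926 IH) (Lpe (K10.f177791 IH) (Lpr_bt (f179047 IH) (Lpr_gt (f179062 IH) (Lpr_bf (f751151 IH) (Lpn v16696)))))))))))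
theorem f751154 : Led Lsl_bt (LP (LK LD1_c11 LD2_c56 LD3_c52)) = (LP (LK LD1_c21 LD2_c1 LD3_c49)) :=
  Lre_b IH (LK LD1_c11 LD2_c56 LD3_c52) (LK LD1_c21 LD2_c1 LD3_c49) Lrfl Lrfl
theorem f377712 : Led Lsl_ct (LP (LK LD1_c11 LD2_c55 LD3_c12)) = (LP (LK LD1_c6 LD2_c5 LD3_c53)) :=
  Lre_c IH (LK LD1_c11 LD2_c55 LD3_c12) (LK LD1_c6 LD2_c5 LD3_c53) Lrfl Lrfl
theorem f751152 : Led Lsl_bt (LP (LK LD1_c21 LD2_c0 LD3_c3)) = (LP (LK LD1_c11 LD2_c55 LD3_c12)) :=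
  Lre_b IH (LK LD1_c21 LD2_c0 LD3_c3) (LK LD1_c11 LD2_c55 LD3_c12) Lrfl Lrfl
theorem f751155 : Led Lsl_ct (LP (LK LD1_c21 LD2_c1 LD3_c49)) = (LP (LK LD1_c21 LD2_c0 LD3_c3)) :=
  Lgr Lrot83 (Lpe (f751154 IH) (Lpr_cf (f751153 IH) (Lpe (f751150 IH) (Lpe (f377712 IH) (Lpe (f751152 IH) (Lpn (LP (LK LD1_c21 LD2_c0 LD3_c3))))))))
theorem f751156 : Led Lsl_ct (LP (LK LD1_c21 LD2_c1 LD3_c49)) = (LP (LK LD1_c21 LD2_c0 LD3_c3)) :=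
  Leop (Lpe (f751155 IH) (Lpn (LP (LK LD1_c21 LD2_c1 LD3_c49))))
theorem seed_1050 : LEOK LG_c (LK LD1_c21 LD2_c1 LD3_c49) :=
  Leoe_c (LK LD1_c21 LD2_c1 LD3_c49) (f751156 IH)
def v16709 : LQ := Led Lsl_gf (LP (LK LD1_c6 LD2_c5 LD3_c60))
theorem f751216 : Led Lsl_gf (LP (LK LD1_c6 LD2_c5 LD3_c60)) = v16709 :=
  Lrfl
theorem f181241 : Led Lsl_ct (LP (LK LD1_c2 LD2_c59 LD3_c9)) = (LP (LK LD1_c6 LD2_c5 LD3_c60)) :=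
  Lre_c IH (LK LD1_c2 LD2_c59 LD3_c9) (LK LD1_c6 LD2_c5 LD3_c60) Lrfl Lrfl
theorem f181238 : Led Lsl_bt (LP (LK LD1_c2 LD2_c59 LD3_c9)) = (LP (LK LD1_c1 LD2_c25 LD3_c18)) :=
  Lre_b IH (LK LD1_c2 LD2_c59 LD3_c9) (LK LD1_c1 LD2_c25 LD3_c18) Lrfl Lrfl
def v14889 : LQ := Led Lsl_bt (LP (LK LD1_c5 LD2_c26 LD3_c60))
theorem f727121 : Led Lsl_bt (LP (LK LD1_c5 LD2_c26 LD3_c60)) = v14889 :=
  Lrfl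
theorem f727122 : Led Lsl_bf (LP (LK LD1_c5 LD2_c26 LD3_c60)) = v14889 :=
  Lgr Lrot24 (Lpr_bt (f727121 IH) (Lpn v14889))
theorem f751219 : Led Lsl_ct v14889 = v16709 :=
  Lgr Lrot64 (Lpe (f727122 IH) (Lpe (K45.f187526 IH) (Lpe (K39.f187515 IH) (Lpr_ct (K39.f187519 IH) (Lpe (K9.f178241 IH) (Lpe (K1.f47978 IH) (Lpe (K10.f181231 IH) (Lpe (f181238 IH) (Lpr_ct (f181241 IH) (Lpr_gf (f751216 IH) (Lpn v16709)))))))))))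
theorem f396434 : Led Lsl_ct (LP (LK LD1_c5 LD2_c26 LD3_c55)) = (LP (LK LD1_c10 LD2_c44 LD3_c52)) :=
  Lre_c IH (LK LD1_c5 LD2_c26 LD3_c55) (LK LD1_c10 LD2_c44 LD3_c52) Lrfl Lrfl
theorem f294448 : Led Lsl_at (LP (LK LD1_c11 LD2_c55 LD3_c22)) = (LP (LK LD1_c6 LD2_c5 LD3_c60)) :=
  Lre_a IH (LK LD1_c11 LD2_c55 LD3_c22) (LK LD1_c6 LD2_c5 LD3_c60) Lrfl Lrfl
theorem f230028 : Led Lsl_ct (LP (LK LD1_c28 LD2_c19 LD3_c61)) = (LP (LK LD1_c18 LD2_c51 LD3_c45)) :=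
  Lre_c IH (LK LD1_c28 LD2_c19 LD3_c61) (LK LD1_c18 LD2_c51 LD3_c45) Lrfl Lrfl
theorem f188383 : Led Lsl_ct (LP (LK LD1_c10 LD2_c25 LD3_c34)) = (LP (LK LD1_c18 LD2_c54 LD3_c46)) :=
  Lre_c IH (LK LD1_c10 LD2_c25 LD3_c34) (LK LD1_c18 LD2_c54 LD3_c46) Lrfl Lrfl
theorem f294413 : Led Lsl_ff (LP (LK LD1_c28 LD2_c19 LD3_c61)) = (LP (LK LD1_c18 LD2_c54 LD3_c46)) :=
  Lgr Lrot23 (Lpr_ct (f230028 IH) (Lpr_ft (K44.f294403 IH) (Lpr_ct (f188383 IH) (Lpn (LP (LK LD1_c18 LD2_c54 LD3_c46))))))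
theorem f251212 : Led Lsl_bt (LP (LK LD1_c10 LD2_c44 LD3_c35)) = (LP (LK LD1_c5 LD2_c26 LD3_c44)) :=
  Lre_b IH (LK LD1_c10 LD2_c44 LD3_c35) (LK LD1_c5 LD2_c26 LD3_c44) Lrfl Lrfl
theorem f251213 : Led Lsl_ct (LP (LK LD1_c19 LD2_c26 LD3_c1)) = (LP (LK LD1_c10 LD2_c44 LD3_c35)) :=
  Lre_c IH (LK LD1_c19 LD2_c26 LD3_c1) (LK LD1_c10 LD2_c44 LD3_c35) Lrfl Lrfl
theorem f230021 : Led Lsl_ct (LP (LK LD1_c18 LD2_c51 LD3_c45)) = (LP (LK LD1_c28 LD2_c19 LD3_c61)) :=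
  Lre_c IH (LK LD1_c18 LD2_c51 LD3_c45) (LK LD1_c28 LD2_c19 LD3_c61) Lrfl Lrfl
theorem f251215 : Led Lsl_bf (LP (LK LD1_c19 LD2_c26 LD3_c1)) = (LP (LK LD1_c28 LD2_c19 LD3_c61)) :=
  Lgr Lrot90 (Lpr_ct (f251213 IH) (Lpr_bt (f251212 IH) (Lpr_ct (K17.f251210 IH) (Lpr_bt (K37.f251214 IH) (Lpr_ct (f230021 IH) (Lpn (LP (LK LD1_c28 LD2_c19 LD3_c61))))))))
theorem f188342 : Led Lsl_bt (LP (LK LD1_c6 LD2_c5 LD3_c61)) = (LP (LK LD1_c11 LD2_c55 LD3_c23)) :=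
  Lre_b IH (LK LD1_c6 LD2_c5 LD3_c61) (LK LD1_c11 LD2_c55 LD3_c23) Lrfl Lrfl
theorem f188345 : Led Lsl_ct (LP (LK LD1_c11 LD2_c55 LD3_c23)) = (LP (LK LD1_c21 LD2_c0 LD3_c17)) :=
  Lre_c IH (LK LD1_c11 LD2_c55 LD3_c23) (LK LD1_c21 LD2_c0 LD3_c17) Lrfl Lrfl
theorem f188346 : Led Lsl_bt (LP (LK LD1_c10 LD2_c25 LD3_c34)) = (LP (LK LD1_c5 LD2_c17 LD3_c58)) :=
  Lre_b IH (LK LD1_c10 LD2_c25 LD3_c34) (LK LD1_c5 LD2_c17 LD3_c58) Lrfl Lrfl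
theorem f188347 : Led Lsl_ct (LP (LK LD1_c18 LD2_c54 LD3_c46)) = (LP (LK LD1_c10 LD2_c25 LD3_c34)) :=
  Lre_c IH (LK LD1_c18 LD2_c54 LD3_c46) (LK LD1_c10 LD2_c25 LD3_c34) Lrfl Lrfl
theorem f188348 : Led Lsl_bt (LP (LK LD1_c21 LD2_c0 LD3_c17)) = (LP (LK LD1_c18 LD2_c54 LD3_c46)) :=
  Lgr Lrot128 (Lpe (f188345 IH) (Lpe (f188342 IH) (Lpr_cf (K17.f188339 IH) (Lpe (f188346 IH) (Lpe (f188347 IH) (Lpn (LP (LK LD1_c18 LD2_c54 LD3_c46))))))))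
theorem f294416 : Led Lsl_ft (LP (LK LD1_c19 LD2_c26 LD3_c1)) = (LP (LK LD1_c21 LD2_c0 LD3_c17)) :=
  Lgr Lrot75 (Lpr_bf (f251215 IH) (Lpr_ff (f294413 IH) (Lpe (f188348 IH) (Lpn (LP (LK LD1_c21 LD2_c0 LD3_c17))))))
theorem f251224 : Led Lsl_ct (LP (LK LD1_c10 LD2_c44 LD3_c35)) = (LP (LK LD1_c19 LD2_c26 LD3_c1)) :=
  Lre_c IH (LK LD1_c10 LD2_c44 LD3_c35) (LK LD1_c19 LD2_c26 LD3_c1) Lrfl Lrfl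
theorem f188381 : Led Lsl_ct (LP (LK LD1_c21 LD2_c0 LD3_c17)) = (LP (LK LD1_c11 LD2_c55 LD3_c23)) :=
  Lre_c IH (LK LD1_c21 LD2_c0 LD3_c17) (LK LD1_c11 LD2_c55 LD3_c23) Lrfl Lrfl
theorem f294422 : Led Lsl_ff (LP (LK LD1_c10 LD2_c44 LD3_c35)) = (LP (LK LD1_c11 LD2_c55 LD3_c23)) :=
  Lgr Lrot23 (Lpr_ct (f251224 IH) (Lpr_ft (f294416 IH) (Lpr_ct (f188381 IH) (Lpn (LP (LK LD1_c11 LD2_c55 LD3_c23))))))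
theorem f294424 : Led Lsl_at (LP (LK LD1_c10 LD2_c44 LD3_c35)) = (LP (LK LD1_c19 LD2_c25 LD3_c60)) :=
  Lre_a IH (LK LD1_c10 LD2_c44 LD3_c35) (LK LD1_c19 LD2_c25 LD3_c60) Lrfl Lrfl
theorem f294425 : Led Lsl_at (LP (LK LD1_c21 LD2_c0 LD3_c15)) = (LP (LK LD1_c11 LD2_c55 LD3_c23)) :=
  Lre_a IH (LK LD1_c21 LD2_c0 LD3_c15) (LK LD1_c11 LD2_c55 LD3_c23) Lrfl Lrfl
theorem f294426 : Led Lsl_ft (LP (LK LD1_c19 LD2_c25 LD3_c60)) = (LP (LK LD1_c21 LD2_c0 LD3_c15)) :=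
  Lgr Lrot101 (Lpe (f294424 IH) (Lpr_ff (f294422 IH) (Lpe (f294425 IH) (Lpn (LP (LK LD1_c21 LD2_c0 LD3_c15))))))
theorem f294435 : Led Lsl_ff (LP (LK LD1_c19 LD2_c25 LD3_c60)) = (LP (LK LD1_c21 LD2_c0 LD3_c15)) :=
  Lgr Lrot3 (Lpr_ft (f294426 IH) (Lpn (LP (LK LD1_c21 LD2_c0 LD3_c15))))
theorem f294437 : Led Lsl_dt (LP (LK LD1_c19 LD2_c25 LD3_c60)) = (LP (LK LD1_c10 LD2_c44 LD3_c34)) :=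
  Lre_d IH (LK LD1_c19 LD2_c25 LD3_c60) (LK LD1_c10 LD2_c44 LD3_c34) Lrfl Lrfl
theorem f294440 : Led Lsl_dt (LP (LK LD1_c11 LD2_c55 LD3_c22)) = (LP (LK LD1_c21 LD2_c0 LD3_c15)) :=
  Lre_d IH (LK LD1_c11 LD2_c55 LD3_c22) (LK LD1_c21 LD2_c0 LD3_c15) Lrfl Lrfl
theorem f294441 : Led Lsl_ft (LP (LK LD1_c10 LD2_c44 LD3_c34)) = (LP (LK LD1_c11 LD2_c55 LD3_c22)) :=
  Lgr Lrot54 (Lpe (f294437 IH) (Lpr_ff (f294435 IH) (Lpe (f294440 IH) (Lpn (LP (LK LD1_c11 LD2_c55 LD3_c22))))))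
theorem f751217 : Led Lsl_gt (LP (LK LD1_c10 LD2_c44 LD3_c34)) = v16709 :=
  Lgr Lrot5 (Lpr_ft (f294441 IH) (Lpr_at (f294448 IH) (Lpr_gf (f751216 IH) (Lpn v16709))))
theorem f294449 : Led Lsl_ct (LP (LK LD1_c5 LD2_c26 LD3_c51)) = (LP (LK LD1_c10 LD2_c44 LD3_c34)) :=
  Lre_c IH (LK LD1_c5 LD2_c26 LD3_c51) (LK LD1_c10 LD2_c44 LD3_c34) Lrfl Lrfl
theorem f285909 : Led Lsl_ct (LP (LK LD1_c11 LD2_c55 LD3_c22)) = (LP (LK LD1_c6 LD2_c6 LD3_c6)) :=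
  Lre_c IH (LK LD1_c11 LD2_c55 LD3_c22) (LK LD1_c6 LD2_c6 LD3_c6) Lrfl Lrfl
theorem f294450 : Led Lsl_ff (LP (LK LD1_c5 LD2_c26 LD3_c51)) = (LP (LK LD1_c6 LD2_c6 LD3_c6)) :=
  Lgr Lrot23 (Lpr_ct (f294449 IH) (Lpr_ft (f294441 IH) (Lpr_ct (f285909 IH) (Lpn (LP (LK LD1_c6 LD2_c6 LD3_c6))))))
theorem f294457 : Led Lsl_ft (LP (LK LD1_c5 LD2_c26 LD3_c51)) = (LP (LK LD1_c6 LD2_c6 LD3_c6)) :=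
  Lgr Lrot48 (Lpr_ff (f294450 IH) (Lpn (LP (LK LD1_c6 LD2_c6 LD3_c6))))
theorem f294464 : Led Lsl_at (LP (LK LD1_c2 LD2_c39 LD3_c48)) = (LP (LK LD1_c5 LD2_c26 LD3_c51)) :=
  Lre_a IH (LK LD1_c2 LD2_c39 LD3_c48) (LK LD1_c5 LD2_c26 LD3_c51) Lrfl Lrfl
theorem f285860 : Led Lsl_at (LP (LK LD1_c6 LD2_c6 LD3_c6)) = (LP (LK LD1_c2 LD2_c59 LD3_c9)) :=
  Lre_a IH (LK LD1_c6 LD2_c6 LD3_c6) (LK LD1_c2 LD2_c59 LD3_c9) Lrfl Lrfl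
theorem f294465 : Led Lsl_ff (LP (LK LD1_c2 LD2_c39 LD3_c48)) = (LP (LK LD1_c2 LD2_c59 LD3_c9)) :=
  Lgr Lrot30 (Lpr_at (f294464 IH) (Lpr_ft (f294457 IH) (Lpr_at (f285860 IH) (Lpn (LP (LK LD1_c2 LD2_c59 LD3_c9))))))
theorem f187660 : Led Lsl_gt (LP (LK LD1_c2 LD2_c59 LD3_c9)) = (LP (LK LD1_c6 LD2_c6 LD3_c4)) :=
  Lre_g IH (LK LD1_c2 LD2_c59 LD3_c9) (LK LD1_c6 LD2_c6 LD3_c4) Lrfl Lrfl
theorem f294476 : Led Lsl_gf (LP (LK LD1_c5 LD2_c26 LD3_c51)) = (LP (LK LD1_c6 LD2_c6 LD3_c4)) :=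
  Lgr Lrot76 (Lpe (f294464 IH) (Lpr_ff (f294465 IH) (Lpr_gt (f187660 IH) (Lpn (LP (LK LD1_c6 LD2_c6 LD3_c4))))))
theorem f294478 : Led Lsl_bt (LP (LK LD1_c11 LD2_c55 LD3_c36)) = (LP (LK LD1_c6 LD2_c6 LD3_c4)) :=
  Lre_b IH (LK LD1_c11 LD2_c55 LD3_c36) (LK LD1_c6 LD2_c6 LD3_c4) Lrfl Lrfl
theorem f294480 : Led Lsl_ct (LP (LK LD1_c11 LD2_c55 LD3_c36)) = (LP (LK LD1_c11 LD2_c56 LD3_c22)) :=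
  Lre_c IH (LK LD1_c11 LD2_c55 LD3_c36) (LK LD1_c11 LD2_c56 LD3_c22) Lrfl Lrfl
theorem f751221 : Led Lsl_gt (LP (LK LD1_c10 LD2_c44 LD3_c52)) = (LP (LK LD1_c11 LD2_c56 LD3_c22)) :=
  Lgr Lrot65 (Lpe (f396434 IH) (Lpr_bt (K53.f396432 IH) (Lpe (K53.f396413 IH) (Lpr_bf (f727122 IH) (Lpr_ct (f751219 IH) (Lpe (f751217 IH) (Lpe (f294449 IH) (Lpr_gf (f294476 IH) (Lpe (f294478 IH) (Lpr_ct (f294480 IH) (Lpn (LP (LK LD1_c11 LD2_c56 LD3_c22)))))))))))))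
theorem f751222 : Led Lsl_gt (LP (LK LD1_c10 LD2_c44 LD3_c52)) = (LP (LK LD1_c11 LD2_c56 LD3_c22)) :=
  Leop (Lpe (f751221 IH) (Lpn (LP (LK LD1_c10 LD2_c44 LD3_c52))))
theorem seed_1051 : LEOK LG_g (LK LD1_c10 LD2_c44 LD3_c52) :=
  Leoe_g (LK LD1_c10 LD2_c44 LD3_c52) (f751222 IH)
def v16743 : LQ := Led Lsl_bt (LP (LK LD1_c6 LD2_c6 LD3_c30))
theorem f751365 : Led Lsl_bt (LP (LK LD1_c6 LD2_c6 LD3_c30)) = v16743 :=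
  Lrfl
theorem f751366 : Led Lsl_bf (LP (LK LD1_c6 LD2_c6 LD3_c30)) = v16743 :=
  Lgr Lrot24 (Lpr_bt (f751365 IH) (Lpn v16743))
theorem f396395 : Led Lsl_at (LP (LK LD1_c2 LD2_c39 LD3_c56)) = (LP (LK LD1_c5 LD2_c27 LD3_c0)) :=
  Lre_a IH (LK LD1_c2 LD2_c39 LD3_c56) (LK LD1_c5 LD2_c27 LD3_c0) Lrfl Lrfl
theorem f198841 : Led Lsl_gt (LP (LK LD1_c2 LD2_c59 LD3_c22)) = (LP (LK LD1_c6 LD2_c6 LD3_c30)) :=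
  Lre_g IH (LK LD1_c2 LD2_c59 LD3_c22) (LK LD1_c6 LD2_c6 LD3_c30) Lrfl Lrfl
theorem f396405 : Led Lsl_gf (LP (LK LD1_c5 LD2_c27 LD3_c0)) = (LP (LK LD1_c6 LD2_c6 LD3_c30)) :=
  Lgr Lrot76 (Lpe (f396395 IH) (Lpr_ff (K45.f396397 IH) (Lpr_gt (f198841 IH) (Lpn (LP (LK LD1_c6 LD2_c6 LD3_c30))))))
theorem f285915 : Led Lsl_ct (LP (LK LD1_c6 LD2_c6 LD3_c6)) = (LP (LK LD1_c11 LD2_c55 LD3_c22)) :=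
  Lre_c IH (LK LD1_c6 LD2_c6 LD3_c6) (LK LD1_c11 LD2_c55 LD3_c22) Lrfl Lrfl
theorem f294431 : Led Lsl_dt (LP (LK LD1_c10 LD2_c44 LD3_c34)) = (LP (LK LD1_c19 LD2_c25 LD3_c60)) :=
  Lre_d IH (LK LD1_c10 LD2_c44 LD3_c34) (LK LD1_c19 LD2_c25 LD3_c60) Lrfl Lrfl
theorem f285914 : Led Lsl_dt (LP (LK LD1_c21 LD2_c0 LD3_c15)) = (LP (LK LD1_c11 LD2_c55 LD3_c22)) :=
  Lre_d IH (LK LD1_c21 LD2_c0 LD3_c15) (LK LD1_c11 LD2_c55 LD3_c22) Lrfl Lrfl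
theorem f294432 : Led Lsl_ff (LP (LK LD1_c10 LD2_c44 LD3_c34)) = (LP (LK LD1_c11 LD2_c55 LD3_c22)) :=
  Lgr Lrot19 (Lpr_dt (f294431 IH) (Lpr_ft (f294426 IH) (Lpr_dt (f285914 IH) (Lpn (LP (LK LD1_c11 LD2_c55 LD3_c22))))))
theorem f294486 : Led Lsl_at (LP (LK LD1_c10 LD2_c44 LD3_c34)) = (LP (LK LD1_c5 LD2_c26 LD3_c43)) :=
  Lre_a IH (LK LD1_c10 LD2_c44 LD3_c34) (LK LD1_c5 LD2_c26 LD3_c43) Lrfl Lrfl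
theorem f182548 : Led Lsl_gt (LP (LK LD1_c10 LD2_c44 LD3_c33)) = (LP (LK LD1_c5 LD2_c26 LD3_c43)) :=
  Lre_g IH (LK LD1_c10 LD2_c44 LD3_c33) (LK LD1_c5 LD2_c26 LD3_c43) Lrfl Lrfl
theorem f294488 : Led Lsl_gf (LP (LK LD1_c10 LD2_c44 LD3_c33)) = (LP (LK LD1_c11 LD2_c55 LD3_c22)) :=
  Lgr Lrot47 (Lpr_gt (f182548 IH) (Lpe (f294486 IH) (Lpr_ff (f294432 IH) (Lpn (LP (LK LD1_c11 LD2_c55 LD3_c22))))))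
theorem f751368 : Led Lsl_cf (LP (LK LD1_c10 LD2_c44 LD3_c33)) = v16743 :=
  Lgr Lrot58 (Lpr_gf (f294488 IH) (Lpe (f285915 IH) (Lpe (K17.f285904 IH) (Lpr_gf (K53.f285994 IH) (Lpe (K53.f183359 IH) (Lpr_ct (K53.f198822 IH) (Lpe (K53.f396424 IH) (Lpe (K53.f396408 IH) (Lpr_gf (f396405 IH) (Lpr_bf (f751366 IH) (Lpn v16743)))))))))))
theorem f751369 : Led Lsl_bt (LP (LK LD1_c10 LD2_c44 LD3_c33)) = (LP (LK LD1_c19 LD2_c25 LD3_c58)) :=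
  Lre_b IH (LK LD1_c10 LD2_c44 LD3_c33) (LK LD1_c19 LD2_c25 LD3_c58) Lrfl Lrfl
theorem f198842 : Led Lsl_ct (LP (LK LD1_c11 LD2_c56 LD3_c9)) = (LP (LK LD1_c6 LD2_c6 LD3_c30)) :=
  Lre_c IH (LK LD1_c11 LD2_c56 LD3_c9) (LK LD1_c6 LD2_c6 LD3_c30) Lrfl Lrfl
theorem f751367 : Led Lsl_bt (LP (LK LD1_c21 LD2_c0 LD3_c61)) = (LP (LK LD1_c11 LD2_c56 LD3_c9)) :=
  Lre_b IH (LK LD1_c21 LD2_c0 LD3_c61) (LK LD1_c11 LD2_c56 LD3_c9) Lrfl Lrfl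
theorem f751370 : Led Lsl_ct (LP (LK LD1_c19 LD2_c25 LD3_c58)) = (LP (LK LD1_c21 LD2_c0 LD3_c61)) :=
  Lgr Lrot83 (Lpe (f751369 IH) (Lpr_cf (f751368 IH) (Lpe (f751365 IH) (Lpe (f198842 IH) (Lpe (f751367 IH) (Lpn (LP (LK LD1_c21 LD2_c0 LD3_c61))))))))
theorem f751371 : Led Lsl_ct (LP (LK LD1_c19 LD2_c25 LD3_c58)) = (LP (LK LD1_c21 LD2_c0 LD3_c61)) :=
  Leop (Lpe (f751370 IH) (Lpn (LP (LK LD1_c19 LD2_c25 LD3_c58))))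
theorem seed_1052 : LEOK LG_c (LK LD1_c19 LD2_c25 LD3_c58) :=
  Leoe_c (LK LD1_c19 LD2_c25 LD3_c58) (f751371 IH)
def v16762 : LQ := Led Lsl_bt (LP (LK LD1_c6 LD2_c6 LD3_c38))
theorem f751452 : Led Lsl_bt (LP (LK LD1_c6 LD2_c6 LD3_c38)) = v16762 :=
  Lrfl
theorem f751453 : Led Lsl_bf (LP (LK LD1_c6 LD2_c6 LD3_c38)) = v16762 :=
  Lgr Lrot24 (Lpr_bt (f751452 IH) (Lpn v16762))
theorem f396443 : Led Lsl_ff (LP (LK LD1_c2 LD2_c39 LD3_c53)) = (LP (LK LD1_c2 LD2_c59 LD3_c25)) :=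
  Lgr Lrot3 (Lpr_ft (K53.f334401 IH) (Lpn (LP (LK LD1_c2 LD2_c59 LD3_c25))))
theorem f396436 : Led Lsl_at (LP (LK LD1_c2 LD2_c39 LD3_c53)) = (LP (LK LD1_c5 LD2_c26 LD3_c55)) :=
  Lre_a IH (LK LD1_c2 LD2_c39 LD3_c53) (LK LD1_c5 LD2_c26 LD3_c55) Lrfl Lrfl
theorem f177471 : Led Lsl_gt (LP (LK LD1_c2 LD2_c59 LD3_c25)) = (LP (LK LD1_c6 LD2_c6 LD3_c38)) :=
  Lre_g IH (LK LD1_c2 LD2_c59 LD3_c25) (LK LD1_c6 LD2_c6 LD3_c38) Lrfl Lrfl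
theorem f396448 : Led Lsl_gf (LP (LK LD1_c5 LD2_c26 LD3_c55)) = (LP (LK LD1_c6 LD2_c6 LD3_c38)) :=
  Lgr Lrot76 (Lpe (f396436 IH) (Lpr_ff (f396443 IH) (Lpr_gt (f177471 IH) (Lpn (LP (LK LD1_c6 LD2_c6 LD3_c38))))))
theorem f285987 : Led Lsl_at (LP (LK LD1_c6 LD2_c6 LD3_c26)) = (LP (LK LD1_c2 LD2_c59 LD3_c17)) :=
  Lre_a IH (LK LD1_c6 LD2_c6 LD3_c26) (LK LD1_c2 LD2_c59 LD3_c17) Lrfl Lrfl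
theorem f285988 : Led Lsl_ft (LP (LK LD1_c5 LD2_c26 LD3_c32)) = (LP (LK LD1_c6 LD2_c6 LD3_c26)) :=
  Lgr Lrot101 (Lpe (K53.f285859 IH) (Lpr_ff (K17.f285977 IH) (Lpe (f285987 IH) (Lpn (LP (LK LD1_c6 LD2_c6 LD3_c26))))))
theorem f294467 : Led Lsl_bf (LP (LK LD1_c5 LD2_c26 LD3_c51)) = (LP (LK LD1_c6 LD2_c6 LD3_c26)) :=
  Lgr Lrot61 (Lpr_ft (f294457 IH) (Lpe (K17.f285904 IH) (Lpr_ft (f285988 IH) (Lpn (LP (LK LD1_c6 LD2_c6 LD3_c26))))))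
theorem f285985 : Led Lsl_ct (LP (LK LD1_c6 LD2_c6 LD3_c26)) = (LP (LK LD1_c11 LD2_c55 LD3_c57)) :=
  Lre_c IH (LK LD1_c6 LD2_c6 LD3_c26) (LK LD1_c11 LD2_c55 LD3_c57) Lrfl Lrfl
theorem f183069 : Led Lsl_gt (LP (LK LD1_c10 LD2_c43 LD3_c59)) = (LP (LK LD1_c5 LD2_c26 LD3_c24)) :=
  Lre_g IH (LK LD1_c10 LD2_c43 LD3_c59) (LK LD1_c5 LD2_c26 LD3_c24) Lrfl Lrfl
theorem f409030 : Led Lsl_gf (LP (LK LD1_c10 LD2_c43 LD3_c59)) = (LP (LK LD1_c11 LD2_c55 LD3_c57)) :=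
  Lgr Lrot47 (Lpr_gt (f183069 IH) (Lpe (K53.f285999 IH) (Lpr_ff (K53.f286001 IH) (Lpn (LP (LK LD1_c11 LD2_c55 LD3_c57))))))
theorem f751455 : Led Lsl_cf (LP (LK LD1_c10 LD2_c43 LD3_c59)) = v16762 :=
  Lgr Lrot58 (Lpr_gf (f409030 IH) (Lpe (f285985 IH) (Lpe (f294467 IH) (Lpr_gf (f294476 IH) (Lpe (f294478 IH) (Lpr_ct (f294480 IH) (Lpe (f751221 IH) (Lpe (f396434 IH) (Lpr_gf (f396448 IH) (Lpr_bf (f751453 IH) (Lpn v16762)))))))))))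
theorem f751456 : Led Lsl_bt (LP (LK LD1_c10 LD2_c43 LD3_c59)) = (LP (LK LD1_c19 LD2_c25 LD3_c17)) :=
  Lre_b IH (LK LD1_c10 LD2_c43 LD3_c59) (LK LD1_c19 LD2_c25 LD3_c17) Lrfl Lrfl
theorem f396450 : Led Lsl_ct (LP (LK LD1_c11 LD2_c56 LD3_c19)) = (LP (LK LD1_c6 LD2_c6 LD3_c38)) :=
  Lre_c IH (LK LD1_c11 LD2_c56 LD3_c19) (LK LD1_c6 LD2_c6 LD3_c38) Lrfl Lrfl
theorem f751454 : Led Lsl_bt (LP (LK LD1_c21 LD2_c1 LD3_c8)) = (LP (LK LD1_c11 LD2_c56 LD3_c19)) :=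
  Lre_b IH (LK LD1_c21 LD2_c1 LD3_c8) (LK LD1_c11 LD2_c56 LD3_c19) Lrfl Lrfl
theorem f751457 : Led Lsl_ct (LP (LK LD1_c19 LD2_c25 LD3_c17)) = (LP (LK LD1_c21 LD2_c1 LD3_c8)) :=
  Lgr Lrot83 (Lpe (f751456 IH) (Lpr_cf (f751455 IH) (Lpe (f751452 IH) (Lpe (f396450 IH) (Lpe (f751454 IH) (Lpn (LP (LK LD1_c21 LD2_c1 LD3_c8))))))))
theorem f751458 : Led Lsl_ct (LP (LK LD1_c19 LD2_c25 LD3_c17)) = (LP (LK LD1_c21 LD2_c1 LD3_c8)) :=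
  Leop (Lpe (f751457 IH) (Lpn (LP (LK LD1_c19 LD2_c25 LD3_c17))))
theorem seed_1053 : LEOK LG_c (LK LD1_c19 LD2_c25 LD3_c17) :=
  Leoe_c (LK LD1_c19 LD2_c25 LD3_c17) (f751458 IH)
def v16772 : LQ := Led Lsl_ft (LP (LK LD1_c6 LD2_c6 LD3_c42))
theorem f751513 : Led Lsl_ft (LP (LK LD1_c6 LD2_c6 LD3_c42)) = v16772 :=
  Lrfl
theorem f618658 : Led Lsl_gt (LP (LK LD1_c6 LD2_c6 LD3_c42)) = (LP (LK LD1_c11 LD2_c56 LD3_c26)) :=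
  Lre_g IH (LK LD1_c6 LD2_c6 LD3_c42) (LK LD1_c11 LD2_c56 LD3_c26) Lrfl Lrfl
theorem f646204 : Led Lsl_at (LP (LK LD1_c11 LD2_c56 LD3_c25)) = (LP (LK LD1_c6 LD2_c6 LD3_c42)) :=
  Lre_a IH (LK LD1_c11 LD2_c56 LD3_c25) (LK LD1_c6 LD2_c6 LD3_c42) Lrfl Lrfl
theorem f646205 : Led Lsl_ft (LP (LK LD1_c6 LD2_c6 LD3_c44)) = (LP (LK LD1_c11 LD2_c56 LD3_c25)) :=
  Lre_f IH (LK LD1_c6 LD2_c6 LD3_c44) (LK LD1_c11 LD2_c56 LD3_c25) Lrfl Lrfl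
theorem f751514 : Led Lsl_af (LP (LK LD1_c6 LD2_c6 LD3_c44)) = v16772 :=
  Lgr Lrot45 (Lpr_ft (f646205 IH) (Lpr_at (f646204 IH) (Lpr_ft (f751513 IH) (Lpn v16772))))
theorem f751518 : Led Lsl_gt (LP (LK LD1_c11 LD2_c56 LD3_c26)) = (LP (LK LD1_c6 LD2_c6 LD3_c44)) :=
  Lgr Lrot46 (Lpe (f618658 IH) (Lpr_ft (f751513 IH) (Lpe (f751514 IH) (Lpn (LP (LK LD1_c6 LD2_c6 LD3_c44))))))
theorem f751519 : Led Lsl_gt (LP (LK LD1_c11 LD2_c56 LD3_c26)) = (LP (LK LD1_c6 LD2_c6 LD3_c44)) :=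
  Leop (Lpe (f751518 IH) (Lpn (LP (LK LD1_c11 LD2_c56 LD3_c26))))
theorem seed_1054 : LEOK LG_g (LK LD1_c11 LD2_c56 LD3_c26) :=
  Leoe_g (LK LD1_c11 LD2_c56 LD3_c26) (f751519 IH)
def v16795 : LQ := Led Lsl_ft (LP (LK LD1_c6 LD2_c6 LD3_c52))
theorem f751595 : Led Lsl_ft (LP (LK LD1_c6 LD2_c6 LD3_c52)) = v16795 :=
  Lrfl
def v16794 : LQ := Led Lsl_gt (LP (LK LD1_c6 LD2_c6 LD3_c52))
theorem f751594 : Led Lsl_gt (LP (LK LD1_c6 LD2_c6 LD3_c52)) = v16794 :=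
  Lrfl
theorem f622499 : Led Lsl_at (LP (LK LD1_c5 LD2_c14 LD3_c30)) = (LP (LK LD1_c6 LD2_c7 LD3_c11)) :=
  Lgr Lrot51 (Lpe (K54.f164368 IH) (Lpe (K55.f152049 IH) (Lpr_df (K55.f622497 IH) (Lpn (LP (LK LD1_c6 LD2_c7 LD3_c11))))))
theorem f164402 : Led Lsl_ft (LP (LK LD1_c2 LD2_c34 LD3_c5)) = (LP (LK LD1_c5 LD2_c14 LD3_c30)) :=
  Lre_f IH (LK LD1_c2 LD2_c34 LD3_c5) (LK LD1_c5 LD2_c14 LD3_c30) Lrfl Lrfl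
theorem f622505 : Led Lsl_af (LP (LK LD1_c2 LD2_c34 LD3_c5)) = (LP (LK LD1_c2 LD2_c59 LD3_c44)) :=
  Lgr Lrot45 (Lpr_ft (f164402 IH) (Lpr_at (f622499 IH) (Lpr_ft (K54.f177437 IH) (Lpn (LP (LK LD1_c2 LD2_c59 LD3_c44))))))
theorem f164396 : Led Lsl_ct (LP (LK LD1_c2 LD2_c34 LD3_c5)) = (LP (LK LD1_c5 LD2_c14 LD3_c28)) :=
  Lre_c IH (LK LD1_c2 LD2_c34 LD3_c5) (LK LD1_c5 LD2_c14 LD3_c28) Lrfl Lrfl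
theorem f177406 : Led Lsl_et (LP (LK LD1_c2 LD2_c59 LD3_c33)) = (LP (LK LD1_c6 LD2_c6 LD3_c52)) :=
  Lre_e IH (LK LD1_c2 LD2_c59 LD3_c33) (LK LD1_c6 LD2_c6 LD3_c52) Lrfl Lrfl
theorem f177402 : Led Lsl_et (LP (LK LD1_c2 LD2_c59 LD3_c44)) = (LP (LK LD1_c1 LD2_c25 LD3_c34)) :=
  Lre_e IH (LK LD1_c2 LD2_c59 LD3_c44) (LK LD1_c1 LD2_c25 LD3_c34) Lrfl Lrfl
theorem f177407 : Led Lsl_ct (LP (LK LD1_c6 LD2_c6 LD3_c52)) = (LP (LK LD1_c2 LD2_c59 LD3_c44)) :=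
  Lgr Lrot15 (Lpe (f177406 IH) (Lpr_cf (K10.f177393 IH) (Lpe (f177402 IH) (Lpn (LP (LK LD1_c2 LD2_c59 LD3_c44))))))
theorem f622509 : Led Lsl_at (LP (LK LD1_c5 LD2_c14 LD3_c28)) = (LP (LK LD1_c6 LD2_c6 LD3_c52)) :=
  Lgr Lrot107 (Lpe (f164396 IH) (Lpr_af (f622505 IH) (Lpe (f177407 IH) (Lpn (LP (LK LD1_c6 LD2_c6 LD3_c52))))))
def v14589 : LQ := Led Lsl_ft (LP (LK LD1_c5 LD2_c14 LD3_c28))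
theorem f723926 : Led Lsl_ft (LP (LK LD1_c5 LD2_c14 LD3_c28)) = v14589 :=
  Lrfl
theorem f723928 : Led Lsl_ff (LP (LK LD1_c5 LD2_c14 LD3_c28)) = v14589 :=
  Lgr Lrot3 (Lpr_ft (f723926 IH) (Lpn v14589))
theorem f751596 : Led Lsl_af v14589 = v16795 :=
  Lgr Lrot45 (Lpe (f723928 IH) (Lpr_at (f622509 IH) (Lpr_ft (f751595 IH) (Lpn v16795))))
theorem f751599 : Led Lsl_gt v16794 = v14589 :=
  Lgr Lrot46 (Lpe (f751594 IH) (Lpr_ft (f751595 IH) (Lpe (f751596 IH) (Lpn v14589))))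
theorem f723927 : Led Lsl_cf (LP (LK LD1_c5 LD2_c14 LD3_c30)) = v14589 :=
  Lgr Lrot108 (Lpr_ft (K54.f164411 IH) (Lpr_ct (f164396 IH) (Lpr_ft (f723926 IH) (Lpn v14589))))
def v7265 : LQ := Led Lsl_ft (LP (LK LD1_c3 LD2_c43 LD3_c26))
theorem f664003 : Led Lsl_ft (LP (LK LD1_c3 LD2_c43 LD3_c26)) = v7265 :=
  Lrfl
theorem f664005 : Led Lsl_cf (LP (LK LD1_c4 LD2_c34 LD3_c46)) = v7265 :=
  Lgr Lrot108 (Lpr_ft (K7.f152035 IH) (Lpr_ct (K24.f206508 IH) (Lpr_ft (f664003 IH) (Lpn v7265))))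
def v16545 : LQ := Led Lsl_et (LP (LK LD1_c6 LD2_c2 LD3_c38))
theorem f750313 : Led Lsl_et (LP (LK LD1_c6 LD2_c2 LD3_c38)) = v16545 :=
  Lrfl
theorem f750316 : Led Lsl_ef (LP (LK LD1_c6 LD2_c2 LD3_c38)) = v16545 :=
  Lgr Lrot88 (Lpr_et (f750313 IH) (Lpn v16545))
theorem f435529 : Led Lsl_ct (LP (LK LD1_c6 LD2_c2 LD3_c38)) = (LP (LK LD1_c2 LD2_c57 LD3_c24)) :=
  Lre_c IH (LK LD1_c6 LD2_c2 LD3_c38) (LK LD1_c2 LD2_c57 LD3_c24) Lrfl Lrfl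
theorem f750319 : Led Lsl_ct (LP (LK LD1_c6 LD2_c2 LD3_c39)) = v16545 :=
  Lgr Lrot15 (Lpe (K32.f68652 IH) (Lpe (f435529 IH) (Lpr_ef (f750316 IH) (Lpn v16545))))
theorem f615309 : Led Lsl_ef (LP (LK LD1_c6 LD2_c2 LD3_c36)) = (LP (LK LD1_c4 LD2_c35 LD3_c29)) :=
  Lgr Lrot88 (Lpr_et (K52.f615301 IH) (Lpn (LP (LK LD1_c4 LD2_c35 LD3_c29))))
theorem f443738 : Led Lsl_bt (LP (LK LD1_c6 LD2_c2 LD3_c36)) = (LP (LK LD1_c2 LD2_c57 LD3_c24)) :=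
  Lre_b IH (LK LD1_c6 LD2_c2 LD3_c36) (LK LD1_c2 LD2_c57 LD3_c24) Lrfl Lrfl
theorem f615313 : Led Lsl_bt (LP (LK LD1_c6 LD2_c2 LD3_c39)) = (LP (LK LD1_c4 LD2_c35 LD3_c29)) :=
  Lgr Lrot119 (Lpe (K32.f68652 IH) (Lpe (f443738 IH) (Lpr_ef (f615309 IH) (Lpn (LP (LK LD1_c4 LD2_c35 LD3_c29))))))
theorem f442477 : Led Lsl_bt (LP (LK LD1_c1 LD2_c4 LD3_c37)) = (LP (LK LD1_c2 LD2_c14 LD3_c56)) :=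
  Lre_b IH (LK LD1_c1 LD2_c4 LD3_c37) (LK LD1_c2 LD2_c14 LD3_c56) Lrfl Lrfl
theorem f445858 : Led Lsl_ct (LP (LK LD1_c1 LD2_c4 LD3_c37)) = (LP (LK LD1_c0 LD2_c30 LD3_c48)) :=
  Lgr Lrot59 (Lpr_cf (K42.f27170 IH) (Lpn (LP (LK LD1_c0 LD2_c30 LD3_c48))))
def v2822 : LQ := Led Lsl_ct K35.v347
theorem f535769 : Led Lsl_ct K35.v347 = v2822 :=
  Lrfl
theorem f535770 : Led Lsl_cf K35.v347 = v2822 :=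
  Lgr Lrot11 (Lpr_ct (f535769 IH) (Lpn v2822))
theorem f535784 : (LP (LK LD1_c1 LD2_c22 LD3_c6)) = v2822 :=
  Lefun (Lecon (Lfl_cf (K53.f500222 IH)) (K35.f535783 IH)) (f535769 IH)
theorem f414142 : Led Lsl_et (LP (LK LD1_c0 LD2_c44 LD3_c57)) = (LP (LK LD1_c1 LD2_c37 LD3_c11)) :=
  Lre_e IH (LK LD1_c0 LD2_c44 LD3_c57) (LK LD1_c1 LD2_c37 LD3_c11) Lrfl Lrfl
theorem f414571 : Led Lsl_gf (LP (LK LD1_c1 LD2_c22 LD3_c6)) = (LP (LK LD1_c2 LD2_c14 LD3_c26)) :=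
  Lgr Lrot141 (Lpe (K17.f20292 IH) (Lpe (K17.f414095 IH) (Lpr_gt (K17.f414127 IH) (Lpe (K24.f139999 IH) (Lpr_et (f414142 IH) (Lpr_gt (K35.f414556 IH) (Lpe (K32.f140756 IH) (Lpr_gt (K35.f151884 IH) (Lpe (K10.f22556 IH) (Lpe (K7.f152053 IH) (Lpn (LP (LK LD1_c2 LD2_c14 LD3_c26)))))))))))))
theorem f664007 : Led Lsl_ff (LP (LK LD1_c3 LD2_c43 LD3_c26)) = v7265 :=
  Lgr Lrot3 (Lpr_ft (f664003 IH) (Lpn v7265))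
theorem f152055 : Led Lsl_ft (LP (LK LD1_c2 LD2_c14 LD3_c25)) = (LP (LK LD1_c4 LD2_c34 LD3_c46)) :=
  Lre_f IH (LK LD1_c2 LD2_c14 LD3_c25) (LK LD1_c4 LD2_c34 LD3_c46) Lrfl Lrfl
theorem f664009 : Led Lsl_ct (LP (LK LD1_c4 LD2_c34 LD3_c46)) = v7265 :=
  Lgr Lrot40 (Lpe (f152055 IH) (Lpr_cf (K24.f206503 IH) (Lpr_ff (f664007 IH) (Lpn v7265))))
theorem f750321 : Led Lsl_gf v7265 = v16545 :=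
  Lgr Lrot126 (Lpe (f664009 IH) (Lpr_bt (K10.f152043 IH) (Lpe (f414571 IH) (Lpqs (f535784 IH) (Lpe (f535770 IH) (Lpe (K35.f452333 IH) (Lpe (f445858 IH) (Lpr_bt (f442477 IH) (Lpr_gt (K52.f160865 IH) (Lpe (f615313 IH) (Lpr_ct (f750319 IH) (Lpn v16545))))))))))))
theorem f181162 : Led Lsl_gt (LP (LK LD1_c3 LD2_c0 LD3_c20)) = (LP (LK LD1_c6 LD2_c8 LD3_c11)) :=
  Lre_g IH (LK LD1_c3 LD2_c0 LD3_c20) (LK LD1_c6 LD2_c8 LD3_c11) Lrfl Lrfl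
theorem f751600 : Led Lsl_cf v16794 = (LP (LK LD1_c6 LD2_c8 LD3_c11)) :=
  Lgr Lrot169 (Lpr_gt (f751599 IH) (Lpe (f723927 IH) (Lpe (K54.f164368 IH) (Lpr_cf (f664005 IH) (Lpr_gf (f750321 IH) (Lpe (f750319 IH) (Lpr_gf (K32.f411187 IH) (Lpe (K16.f59955 IH) (Lpr_gt (f181162 IH) (Lpn (LP (LK LD1_c6 LD2_c8 LD3_c11))))))))))))
theorem f164406 : Led Lsl_ct (LP (LK LD1_c5 LD2_c14 LD3_c28)) = (LP (LK LD1_c2 LD2_c34 LD3_c5)) :=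
  Lre_c IH (LK LD1_c5 LD2_c14 LD3_c28) (LK LD1_c2 LD2_c34 LD3_c5) Lrfl Lrfl
theorem f723929 : Led Lsl_ct (LP (LK LD1_c5 LD2_c14 LD3_c30)) = v14589 :=
  Lgr Lrot40 (Lpe (f164402 IH) (Lpe (f164406 IH) (Lpr_ff (f723928 IH) (Lpn v14589))))
theorem f164375 : Led Lsl_ft (LP (LK LD1_c2 LD2_c34 LD3_c14)) = (LP (LK LD1_c1 LD2_c14 LD3_c4)) :=
  Lre_f IH (LK LD1_c2 LD2_c34 LD3_c14) (LK LD1_c1 LD2_c14 LD3_c4) Lrfl Lrfl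
theorem f164422 : Led Lsl_gf (LP (LK LD1_c2 LD2_c31 LD3_c24)) = (LP (LK LD1_c2 LD2_c34 LD3_c14)) :=
  Lgr Lrot47 (Lpr_gt (K35.f22249 IH) (Lpr_af (K10.f164376 IH) (Lpe (f164375 IH) (Lpn (LP (LK LD1_c2 LD2_c34 LD3_c14))))))
def v4585 : LQ := Led Lsl_ct (LP (LK LD1_c2 LD2_c31 LD3_c24))
theorem f636259 : Led Lsl_ct (LP (LK LD1_c2 LD2_c31 LD3_c24)) = v4585 :=
  Lrfl
def v4205 : LQ := Led Lsl_ct (LP (LK LD1_c2 LD2_c15 LD3_c1))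
theorem f631864 : Led Lsl_ct (LP (LK LD1_c2 LD2_c15 LD3_c1)) = v4205 :=
  Lrfl
theorem f631866 : Led Lsl_cf (LP (LK LD1_c2 LD2_c15 LD3_c1)) = v4205 :=
  Lgr Lrot11 (Lpr_ct (f631864 IH) (Lpn v4205))
theorem f636261 : Led Lsl_gf v4205 = v4585 :=
  Lgr Lrot104 (Lpe (f631866 IH) (Lpe (K35.f27165 IH) (Lpr_cf (K42.f27170 IH) (Lpr_gf (K35.f452333 IH) (Lpq (K35.f535783 IH) (Lpe (K35.f500221 IH) (Lpr_gf (f414571 IH) (Lpr_df (K10.f164362 IH) (Lpe (f164422 IH) (Lpr_ct (f636259 IH) (Lpn v4585)))))))))))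
theorem f442791 : Led Lsl_bt (LP (LK LD1_c2 LD2_c15 LD3_c1)) = (LP (LK LD1_c4 LD2_c35 LD3_c31)) :=
  Lre_b IH (LK LD1_c2 LD2_c15 LD3_c1) (LK LD1_c4 LD2_c35 LD3_c31) Lrfl Lrfl
theorem f117018 : Led Lsl_gt (LP (LK LD1_c4 LD2_c35 LD3_c31)) = (LP (LK LD1_c9 LD2_c7 LD3_c33)) :=
  Lre_g IH (LK LD1_c4 LD2_c35 LD3_c31) (LK LD1_c9 LD2_c7 LD3_c33) Lrfl Lrfl
theorem f751601 : Led Lsl_bt (LP (LK LD1_c6 LD2_c8 LD3_c11)) = (LP (LK LD1_c9 LD2_c7 LD3_c33)) :=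
  Lgr Lrot92 (Lpe (f751600 IH) (Lpr_gt (f751599 IH) (Lpe (f723929 IH) (Lpr_bt (K54.f164367 IH) (Lpe (f164422 IH) (Lpr_ct (f636259 IH) (Lpe (f636261 IH) (Lpe (f631864 IH) (Lpr_bt (f442791 IH) (Lpr_gt (f117018 IH) (Lpn (LP (LK LD1_c9 LD2_c7 LD3_c33)))))))))))))
theorem f751602 : Led Lsl_bt (LP (LK LD1_c6 LD2_c8 LD3_c11)) = (LP (LK LD1_c9 LD2_c7 LD3_c33)) :=
  Leop (Lpe (f751601 IH) (Lpn (LP (LK LD1_c6 LD2_c8 LD3_c11))))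
theorem seed_1055 : LEOK LG_b (LK LD1_c6 LD2_c8 LD3_c11) :=
  Leoe_b (LK LD1_c6 LD2_c8 LD3_c11) (f751602 IH)
def v14932 : LQ := Led Lsl_ft (LP (LK LD1_c5 LD2_c27 LD3_c21))
theorem f727315 : Led Lsl_ft (LP (LK LD1_c5 LD2_c27 LD3_c21)) = v14932 :=
  Lrfl
theorem f727317 : Led Lsl_ff (LP (LK LD1_c5 LD2_c27 LD3_c21)) = v14932 :=
  Lgr Lrot3 (Lpr_ft (f727315 IH) (Lpn v14932))
def v14928 : LQ := Led Lsl_at (LP (LK LD1_c5 LD2_c27 LD3_c21))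
theorem f727303 : Led Lsl_at (LP (LK LD1_c5 LD2_c27 LD3_c21)) = v14928 :=
  Lrfl
theorem f727304 : Led Lsl_af (LP (LK LD1_c5 LD2_c27 LD3_c21)) = v14928 :=
  Lgr Lrot0 (Lpr_at (f727303 IH) (Lpn v14928))
theorem f727305 : Led Lsl_ft (LP (LK LD1_c5 LD2_c27 LD3_c22)) = v14928 :=
  Lgr Lrot2 (Lpr_gt (K53.f211869 IH) (Lpr_gt (K53.f412150 IH) (Lpr_af (f727304 IH) (Lpn v14928))))
theorem f727306 : Led Lsl_ff (LP (LK LD1_c5 LD2_c27 LD3_c22)) = v14928 :=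
  Lgr Lrot3 (Lpr_ft (f727305 IH) (Lpn v14928))
theorem f727318 : Led Lsl_at (LP (LK LD1_c5 LD2_c27 LD3_c22)) = v14932 :=
  Lgr Lrot66 (Lpr_ff (f727306 IH) (Lpe (f727303 IH) (Lpr_ff (f727317 IH) (Lpn v14932))))
def v16801 : LQ := Led Lsl_dt (LP (LK LD1_c6 LD2_c6 LD3_c54))
theorem f751668 : Led Lsl_dt (LP (LK LD1_c6 LD2_c6 LD3_c54)) = v16801 :=
  Lrfl
theorem f751669 : Led Lsl_df (LP (LK LD1_c6 LD2_c6 LD3_c54)) = v16801 :=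
  Lgr Lrot38 (Lpr_dt (f751668 IH) (Lpn v16801))
theorem f9233 : Led Lsl_gt (LP (LK LD1_c6 LD2_c6 LD3_c54)) = (LP (LK LD1_c2 LD2_c59 LD3_c34)) :=
  Lre_g IH (LK LD1_c6 LD2_c6 LD3_c54) (LK LD1_c2 LD2_c59 LD3_c34) Lrfl Lrfl
theorem f9231 : Led Lsl_et (LP (LK LD1_c2 LD2_c12 LD3_c17)) = (LP (LK LD1_c1 LD2_c3 LD3_c1)) :=
  Lre_e IH (LK LD1_c2 LD2_c12 LD3_c17) (LK LD1_c1 LD2_c3 LD3_c1) Lrfl Lrfl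
theorem f751670 : Led Lsl_ef (LP (LK LD1_c10 LD2_c58 LD3_c33)) = v16801 :=
  Lgr Lrot17 (Lpe (K50.f225364 IH) (Lpe (K17.f225362 IH) (Lpe (K14.f225342 IH) (Lpe (K13.f225244 IH) (Lpr_df (K12.f225187 IH) (Lpe (K9.f9232 IH) (Lpe (f9231 IH) (Lpr_dt (K0.f9187 IH) (Lpe (f9233 IH) (Lpr_df (f751669 IH) (Lpn v16801)))))))))))
theorem f751673 : Led Lsl_et (LP (LK LD1_c10 LD2_c58 LD3_c33)) = v16801 :=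
  Lgr Lrot87 (Lpr_ef (f751670 IH) (Lpn v16801))
def v14933 : LQ := Led Lsl_dt (LP (LK LD1_c5 LD2_c27 LD3_c22))
theorem f727321 : Led Lsl_dt (LP (LK LD1_c5 LD2_c27 LD3_c22)) = v14933 :=
  Lrfl
theorem f413609 : Led Lsl_et (LP (LK LD1_c6 LD2_c46 LD3_c31)) = (LP (LK LD1_c3 LD2_c21 LD3_c24)) :=
  Lre_e IH (LK LD1_c6 LD2_c46 LD3_c31) (LK LD1_c3 LD2_c21 LD3_c24) Lrfl Lrfl
theorem f100726 : Led Lsl_et (LP (LK LD1_c1 LD2_c38 LD3_c21)) = (LP (LK LD1_c1 LD2_c27 LD3_c40)) :=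
  Lgr Lrot158 (Lpe (K2.f73702 IH) (Lpr_ef (K9.f100720 IH) (Lpe (K9.f100690 IH) (Lpn (LP (LK LD1_c1 LD2_c27 LD3_c40))))))
theorem f413610 : Led Lsl_ff (LP (LK LD1_c6 LD2_c46 LD3_c31)) = (LP (LK LD1_c6 LD2_c13 LD3_c30)) :=
  Lgr Lrot72 (Lpr_et (f413609 IH) (Lpr_ft (K16.f413565 IH) (Lpr_et (f100726 IH) (Lpr_ft (K10.f100626 IH) (Lpr_et (K9.f100917 IH) (Lpn (LP (LK LD1_c6 LD2_c13 LD3_c30))))))))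
theorem f413746 : Led Lsl_af (LP (LK LD1_c9 LD2_c32 LD3_c12)) = (LP (LK LD1_c6 LD2_c46 LD3_c31)) :=
  Lgr Lrot45 (Lpr_ft (K17.f413744 IH) (Lpe (K9.f100914 IH) (Lpe (f413610 IH) (Lpn (LP (LK LD1_c6 LD2_c46 LD3_c31))))))
theorem f413755 : Led Lsl_df (LP (LK LD1_c6 LD2_c46 LD3_c31)) = (LP (LK LD1_c7 LD2_c59 LD3_c50)) :=
  Lgr Lrot18 (Lpe (f413746 IH) (Lpr_dt (K17.f413753 IH) (Lpe (K1.f40883 IH) (Lpn (LP (LK LD1_c7 LD2_c59 LD3_c50))))))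
theorem f54849 : Led Lsl_gt (LP (LK LD1_c9 LD2_c46 LD3_c52)) = (LP (LK LD1_c4 LD2_c57 LD3_c60)) :=
  Lre_g IH (LK LD1_c9 LD2_c46 LD3_c52) (LK LD1_c4 LD2_c57 LD3_c60) Lrfl Lrfl
theorem f413935 : Led Lsl_gt (LP (LK LD1_c6 LD2_c46 LD3_c31)) = (LP (LK LD1_c9 LD2_c46 LD3_c52)) :=
  Lgr Lrot5 (Lpr_ft (K24.f413927 IH) (Lpe (K53.f100519 IH) (Lpe (f54849 IH) (Lpn (LP (LK LD1_c9 LD2_c46 LD3_c52))))))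
theorem f319433 : Led Lsl_et (LP (LK LD1_c11 LD2_c7 LD3_c0)) = (LP (LK LD1_c5 LD2_c37 LD3_c47)) :=
  Lre_e IH (LK LD1_c11 LD2_c7 LD3_c0) (LK LD1_c5 LD2_c37 LD3_c47) Lrfl Lrfl
theorem f319434 : Led Lsl_dt (LP (LK LD1_c11 LD2_c7 LD3_c0)) = (LP (LK LD1_c9 LD2_c46 LD3_c52)) :=
  Lgr Lrot136 (Lpr_et (f319433 IH) (Lpe (K41.f319431 IH) (Lpe (K20.f319430 IH) (Lpr_dt (K20.f172330 IH) (Lpr_gf (K20.f319414 IH) (Lpe (K9.f165210 IH) (Lpr_gf (K9.f172135 IH) (Lpe (K1.f40756 IH) (Lpr_dt (K9.f40880 IH) (Lpe (f54849 IH) (Lpn (LP (LK LD1_c9 LD2_c46 LD3_c52)))))))))))))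
theorem f319436 : Led Lsl_df (LP (LK LD1_c11 LD2_c7 LD3_c0)) = (LP (LK LD1_c9 LD2_c46 LD3_c52)) :=
  Lgr Lrot38 (Lpr_dt (f319434 IH) (Lpn (LP (LK LD1_c9 LD2_c46 LD3_c52))))
theorem f727324 : Led Lsl_ct (LP (LK LD1_c11 LD2_c7 LD3_c0)) = v14933 :=
  Lgr Lrot7 (Lpr_df (f319436 IH) (Lpe (f413935 IH) (Lpr_df (f413755 IH) (Lpr_gf (K53.f40904 IH) (Lpqs (K53.f710874 IH) (Lpe (K53.f638610 IH) (Lpr_gt (K53.f9272 IH) (Lpr_dt (K40.f9247 IH) (Lpe (K53.f446624 IH) (Lpr_dt (f727321 IH) (Lpn v14933)))))))))))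
theorem f319438 : Led Lsl_et (LP (LK LD1_c5 LD2_c37 LD3_c47)) = (LP (LK LD1_c11 LD2_c7 LD3_c0)) :=
  Lre_e IH (LK LD1_c5 LD2_c37 LD3_c47) (LK LD1_c11 LD2_c7 LD3_c0) Lrfl Lrfl
theorem f727325 : Led Lsl_ef (LP (LK LD1_c10 LD2_c48 LD3_c8)) = v14933 :=
  Lgr Lrot28 (Lpr_ct (K41.f640786 IH) (Lpr_et (f319438 IH) (Lpr_ct (f727324 IH) (Lpn v14933))))
theorem f751674 : Led Lsl_af v14933 = v16801 :=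
  Lgr Lrot50 (Lpe (f727325 IH) (Lpe (K50.f705969 IH) (Lpr_et (f751673 IH) (Lpn v16801))))
theorem f727322 : Led Lsl_df (LP (LK LD1_c5 LD2_c27 LD3_c22)) = v14933 :=
  Lgr Lrot38 (Lpr_dt (f727321 IH) (Lpn v14933))
theorem f751678 : v14932 = (LP (LK LD1_c6 LD2_c6 LD3_c54)) :=
  (Llr Lrot51 (Lpe (f727318 IH) (Lpr_df (f727322 IH) (Lpr_af (f751674 IH) (Lpe (f751668 IH) (Lpn (LP (LK LD1_c6 LD2_c6 LD3_c54)))))))).symm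
theorem f751680 : Led Lsl_at (LP (LK LD1_c5 LD2_c27 LD3_c22)) = (LP (LK LD1_c6 LD2_c6 LD3_c54)) :=
  Leop (Lpq (f751678 IH) (Lpe (f727318 IH) (Lpn (LP (LK LD1_c5 LD2_c27 LD3_c22)))))
theorem seed_1056 : LEOK LG_a (LK LD1_c5 LD2_c27 LD3_c22) :=
  Leoe_a (LK LD1_c5 LD2_c27 LD3_c22) (f751680 IH)
def v16803 : LQ := Led Lsl_bt (LP (LK LD1_c6 LD2_c7 LD3_c3))
theorem f751786 : Led Lsl_bt (LP (LK LD1_c6 LD2_c7 LD3_c3)) = v16803 :=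
  Lrfl
theorem f751787 : Led Lsl_bf (LP (LK LD1_c6 LD2_c7 LD3_c3)) = v16803 :=
  Lgr Lrot24 (Lpr_bt (f751786 IH) (Lpn v16803))
theorem f169004 : Led Lsl_gt (LP (LK LD1_c2 LD2_c59 LD3_c38)) = (LP (LK LD1_c6 LD2_c7 LD3_c3)) :=
  Lre_g IH (LK LD1_c2 LD2_c59 LD3_c38) (LK LD1_c6 LD2_c7 LD3_c3) Lrfl Lrfl
theorem f396243 : Led Lsl_gt (LP (LK LD1_c6 LD2_c7 LD3_c3)) = (LP (LK LD1_c8 LD2_c14 LD3_c18)) :=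
  Lgr Lrot46 (Lpe (f169004 IH) (Lpr_ft (K45.f334963 IH) (Lpr_at (K25.f334954 IH) (Lpn (LP (LK LD1_c8 LD2_c14 LD3_c18))))))
theorem f348858 : Led Lsl_cf (LP (LK LD1_c16 LD2_c11 LD3_c16)) = (LP (LK LD1_c17 LD2_c35 LD3_c55)) :=
  Lgr Lrot11 (Lpr_ct (K25.f348854 IH) (Lpn (LP (LK LD1_c17 LD2_c35 LD3_c55))))
theorem f348849 : Led Lsl_ct (LP (LK LD1_c11 LD2_c57 LD3_c15)) = (LP (LK LD1_c6 LD2_c7 LD3_c18)) :=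
  Lre_c IH (LK LD1_c11 LD2_c57 LD3_c15) (LK LD1_c6 LD2_c7 LD3_c18) Lrfl Lrfl
theorem f338941 : Led Lsl_bt (LP (LK LD1_c15 LD2_c29 LD3_c50)) = (LP (LK LD1_c17 LD2_c35 LD3_c55)) :=
  Lgr Lrot127 (Lpr_bf (K25.f338939 IH) (Lpn (LP (LK LD1_c17 LD2_c35 LD3_c55))))
theorem f338909 : Led Lsl_ct (LP (LK LD1_c8 LD2_c14 LD3_c18)) = (LP (LK LD1_c15 LD2_c29 LD3_c50)) :=
  Lre_c IH (LK LD1_c8 LD2_c14 LD3_c18) (LK LD1_c15 LD2_c29 LD3_c50) Lrfl Lrfl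
theorem f348922 : Led Lsl_bt (LP (LK LD1_c6 LD2_c7 LD3_c18)) = (LP (LK LD1_c8 LD2_c14 LD3_c18)) :=
  Lgr Lrot128 (Lpe (f348849 IH) (Lpe (K25.f348843 IH) (Lpr_cf (f348858 IH) (Lpe (f338941 IH) (Lpe (f338909 IH) (Lpn (LP (LK LD1_c8 LD2_c14 LD3_c18))))))))
theorem f338936 : Led Lsl_gt (LP (LK LD1_c15 LD2_c29 LD3_c50)) = (LP (LK LD1_c11 LD2_c56 LD3_c52)) :=
  Lgr Lrot5 (Lpr_ft (K25.f338901 IH) (Lpr_at (K25.f338900 IH) (Lpe (f184970 IH) (Lpn (LP (LK LD1_c11 LD2_c56 LD3_c52))))))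
theorem f275135 : Led Lsl_af (LP (LK LD1_c8 LD2_c29 LD3_c12)) = (LP (LK LD1_c6 LD2_c5 LD3_c49)) :=
  Lgr Lrot117 (Lpr_dt (K14.f45145 IH) (Lpr_at (K16.f275128 IH) (Lpr_dt (K15.f231697 IH) (Lpn (LP (LK LD1_c6 LD2_c5 LD3_c49))))))
theorem f275142 : Led Lsl_ft (LP (LK LD1_c5 LD2_c25 LD3_c56)) = (LP (LK LD1_c6 LD2_c5 LD3_c49)) :=
  Lgr Lrot54 (Lpe (K15.f252241 IH) (Lpr_ff (K16.f275137 IH) (Lpe (K13.f179042 IH) (Lpn (LP (LK LD1_c6 LD2_c5 LD3_c49))))))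
theorem f282328 : Led Lsl_af (LP (LK LD1_c5 LD2_c25 LD3_c56)) = (LP (LK LD1_c8 LD2_c28 LD3_c41)) :=
  Lgr Lrot45 (Lpr_ft (f275142 IH) (Lpe (f275135 IH) (Lpr_ft (K17.f282224 IH) (Lpn (LP (LK LD1_c8 LD2_c28 LD3_c41))))))
theorem f263646 : Led Lsl_bt (LP (LK LD1_c5 LD2_c25 LD3_c56)) = (LP (LK LD1_c10 LD2_c43 LD3_c2)) :=
  Lre_b IH (LK LD1_c5 LD2_c25 LD3_c56) (LK LD1_c10 LD2_c43 LD3_c2) Lrfl Lrfl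
theorem f409672 : Led Lsl_at (LP (LK LD1_c10 LD2_c43 LD3_c2)) = (LP (LK LD1_c19 LD2_c23 LD3_c58)) :=
  Lre_a IH (LK LD1_c10 LD2_c43 LD3_c2) (LK LD1_c19 LD2_c23 LD3_c58) Lrfl Lrfl
theorem f231893 : Led Lsl_bt (LP (LK LD1_c15 LD2_c55 LD3_c5)) = (LP (LK LD1_c8 LD2_c28 LD3_c41)) :=
  Lre_b IH (LK LD1_c15 LD2_c55 LD3_c5) (LK LD1_c8 LD2_c28 LD3_c41) Lrfl Lrfl
theorem f282333 : Led Lsl_at (LP (LK LD1_c25 LD2_c51 LD3_c23)) = (LP (LK LD1_c15 LD2_c55 LD3_c5)) :=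
  Lre_a IH (LK LD1_c25 LD2_c51 LD3_c23) (LK LD1_c15 LD2_c55 LD3_c5) Lrfl Lrfl
theorem f409673 : Led Lsl_bt (LP (LK LD1_c19 LD2_c23 LD3_c58)) = (LP (LK LD1_c25 LD2_c51 LD3_c23)) :=
  Lgr Lrot62 (Lpe (f409672 IH) (Lpe (f263646 IH) (Lpr_af (f282328 IH) (Lpe (f231893 IH) (Lpe (f282333 IH) (Lpn (LP (LK LD1_c25 LD2_c51 LD3_c23))))))))
theorem f409677 : Led Lsl_dt (LP (LK LD1_c10 LD2_c43 LD3_c1)) = (LP (LK LD1_c19 LD2_c23 LD3_c58)) :=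
  Lre_d IH (LK LD1_c10 LD2_c43 LD3_c1) (LK LD1_c19 LD2_c23 LD3_c58) Lrfl Lrfl
theorem f231784 : Led Lsl_dt (LP (LK LD1_c25 LD2_c51 LD3_c23)) = (LP (LK LD1_c15 LD2_c55 LD3_c4)) :=
  Lre_d IH (LK LD1_c25 LD2_c51 LD3_c23) (LK LD1_c15 LD2_c55 LD3_c4) Lrfl Lrfl
theorem f409678 : Led Lsl_bf (LP (LK LD1_c10 LD2_c43 LD3_c1)) = (LP (LK LD1_c15 LD2_c55 LD3_c4)) :=
  Lgr Lrot93 (Lpr_dt (f409677 IH) (Lpr_bt (f409673 IH) (Lpr_dt (f231784 IH) (Lpn (LP (LK LD1_c15 LD2_c55 LD3_c4))))))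
theorem f189835 : Led Lsl_bt (LP (LK LD1_c8 LD2_c29 LD3_c11)) = (LP (LK LD1_c4 LD2_c15 LD3_c7)) :=
  Lre_b IH (LK LD1_c8 LD2_c29 LD3_c11) (LK LD1_c4 LD2_c15 LD3_c7) Lrfl Lrfl
theorem f189821 : Led Lsl_at (LP (LK LD1_c15 LD2_c56 LD3_c12)) = (LP (LK LD1_c8 LD2_c29 LD3_c11)) :=
  Lre_a IH (LK LD1_c15 LD2_c56 LD3_c12) (LK LD1_c8 LD2_c29 LD3_c11) Lrfl Lrfl
theorem f183678 : Led Lsl_bt (LP (LK LD1_c2 LD2_c59 LD3_c0)) = (LP (LK LD1_c6 LD2_c5 LD3_c48)) :=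
  Lre_b IH (LK LD1_c2 LD2_c59 LD3_c0) (LK LD1_c6 LD2_c5 LD3_c48) Lrfl Lrfl
theorem f275132 : Led Lsl_at (LP (LK LD1_c6 LD2_c5 LD3_c48)) = (LP (LK LD1_c11 LD2_c55 LD3_c2)) :=
  Lre_a IH (LK LD1_c6 LD2_c5 LD3_c48) (LK LD1_c11 LD2_c55 LD3_c2) Lrfl Lrfl
theorem f275133 : Led Lsl_bf (LP (LK LD1_c15 LD2_c56 LD3_c12)) = (LP (LK LD1_c11 LD2_c55 LD3_c2)) :=
  Lgr Lrot81 (Lpr_at (f189821 IH) (Lpr_bt (f189835 IH) (Lpr_at (K16.f275128 IH) (Lpr_bt (f183678 IH) (Lpr_at (f275132 IH) (Lpn (LP (LK LD1_c11 LD2_c55 LD3_c2))))))))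
theorem f409687 : Led Lsl_ft (LP (LK LD1_c10 LD2_c43 LD3_c1)) = (LP (LK LD1_c11 LD2_c55 LD3_c2)) :=
  Lgr Lrot75 (Lpr_bf (f409678 IH) (Lpe (K17.f282346 IH) (Lpr_bf (f275133 IH) (Lpn (LP (LK LD1_c11 LD2_c55 LD3_c2))))))
theorem f409702 : Led Lsl_ff (LP (LK LD1_c10 LD2_c43 LD3_c1)) = (LP (LK LD1_c11 LD2_c55 LD3_c2)) :=
  Lgr Lrot3 (Lpr_ft (f409687 IH) (Lpn (LP (LK LD1_c11 LD2_c55 LD3_c2))))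
theorem f409683 : Led Lsl_ct (LP (LK LD1_c10 LD2_c43 LD3_c1)) = (LP (LK LD1_c5 LD2_c26 LD3_c2)) :=
  Lre_c IH (LK LD1_c10 LD2_c43 LD3_c1) (LK LD1_c5 LD2_c26 LD3_c2) Lrfl Lrfl
theorem f282354 : Led Lsl_ct (LP (LK LD1_c6 LD2_c5 LD3_c55)) = (LP (LK LD1_c11 LD2_c55 LD3_c2)) :=
  Lre_c IH (LK LD1_c6 LD2_c5 LD3_c55) (LK LD1_c11 LD2_c55 LD3_c2) Lrfl Lrfl
theorem f409710 : Led Lsl_ft (LP (LK LD1_c5 LD2_c26 LD3_c2)) = (LP (LK LD1_c6 LD2_c5 LD3_c55)) :=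
  Lgr Lrot4 (Lpe (f409683 IH) (Lpr_ff (f409702 IH) (Lpe (f282354 IH) (Lpn (LP (LK LD1_c6 LD2_c5 LD3_c55))))))
theorem f409744 : Led Lsl_at (LP (LK LD1_c2 LD2_c39 LD3_c24)) = (LP (LK LD1_c5 LD2_c26 LD3_c2)) :=
  Lre_a IH (LK LD1_c2 LD2_c39 LD3_c24) (LK LD1_c5 LD2_c26 LD3_c2) Lrfl Lrfl
theorem f268169 : Led Lsl_at (LP (LK LD1_c6 LD2_c5 LD3_c55)) = (LP (LK LD1_c2 LD2_c59 LD3_c2)) :=
  Lre_a IH (LK LD1_c6 LD2_c5 LD3_c55) (LK LD1_c2 LD2_c59 LD3_c2) Lrfl Lrfl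
theorem f409745 : Led Lsl_ff (LP (LK LD1_c2 LD2_c39 LD3_c24)) = (LP (LK LD1_c2 LD2_c59 LD3_c2)) :=
  Lgr Lrot30 (Lpr_at (f409744 IH) (Lpr_ft (f409710 IH) (Lpr_at (f268169 IH) (Lpn (LP (LK LD1_c2 LD2_c59 LD3_c2))))))
theorem f409760 : Led Lsl_gf (LP (LK LD1_c5 LD2_c26 LD3_c2)) = (LP (LK LD1_c6 LD2_c5 LD3_c53)) :=
  Lgr Lrot76 (Lpe (f409744 IH) (Lpr_ff (f409745 IH) (Lpr_gt (f179062 IH) (Lpn (LP (LK LD1_c6 LD2_c5 LD3_c53))))))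
theorem f409681 : Led Lsl_bt (LP (LK LD1_c10 LD2_c43 LD3_c1)) = (LP (LK LD1_c15 LD2_c55 LD3_c4)) :=
  Lgr Lrot127 (Lpr_bf (f409678 IH) (Lpn (LP (LK LD1_c15 LD2_c55 LD3_c4))))
theorem f409708 : Led Lsl_bt (LP (LK LD1_c15 LD2_c56 LD3_c12)) = (LP (LK LD1_c11 LD2_c55 LD3_c2)) :=
  Lgr Lrot35 (Lpr_ff (K17.f282350 IH) (Lpe (f409681 IH) (Lpr_ff (f409702 IH) (Lpn (LP (LK LD1_c11 LD2_c55 LD3_c2))))))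
theorem f189823 : Led Lsl_cf (LP (LK LD1_c15 LD2_c56 LD3_c12)) = (LP (LK LD1_c15 LD2_c32 LD3_c22)) :=
  Lgr Lrot1 (Lpr_at (f189821 IH) (Lpr_ct (K17.f189819 IH) (Lpr_at (K17.f189822 IH) (Lpn (LP (LK LD1_c15 LD2_c32 LD3_c22))))))
theorem f252590 : Led Lsl_bt (LP (LK LD1_c2 LD2_c58 LD3_c51)) = (LP (LK LD1_c6 LD2_c5 LD3_c30)) :=
  Lre_b IH (LK LD1_c2 LD2_c58 LD3_c51) (LK LD1_c6 LD2_c5 LD3_c30) Lrfl Lrfl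
theorem f282393 : Led Lsl_at (LP (LK LD1_c6 LD2_c5 LD3_c30)) = (LP (LK LD1_c11 LD2_c54 LD3_c36)) :=
  Lre_a IH (LK LD1_c6 LD2_c5 LD3_c30) (LK LD1_c11 LD2_c54 LD3_c36) Lrfl Lrfl
theorem f231720 : Led Lsl_bt (LP (LK LD1_c8 LD2_c15 LD3_c11)) = (LP (LK LD1_c4 LD2_c7 LD3_c37)) :=
  Lre_b IH (LK LD1_c8 LD2_c15 LD3_c11) (LK LD1_c4 LD2_c7 LD3_c37) Lrfl Lrfl
theorem f282394 : Led Lsl_bt (LP (LK LD1_c11 LD2_c54 LD3_c36)) = (LP (LK LD1_c15 LD2_c31 LD3_c8)) :=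
  Lgr Lrot62 (Lpe (f282393 IH) (Lpe (f252590 IH) (Lpr_af (K17.f282389 IH) (Lpe (f231720 IH) (Lpe (K17.f231768 IH) (Lpn (LP (LK LD1_c15 LD2_c31 LD3_c8))))))))
theorem f409661 : Led Lsl_bf (LP (LK LD1_c11 LD2_c54 LD3_c36)) = (LP (LK LD1_c15 LD2_c31 LD3_c8)) :=
  Lgr Lrot24 (Lpr_bt (f282394 IH) (Lpn (LP (LK LD1_c15 LD2_c31 LD3_c8))))
theorem f409663 : Led Lsl_bt (LP (LK LD1_c10 LD2_c43 LD3_c37)) = (LP (LK LD1_c15 LD2_c32 LD3_c22)) :=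
  Lgr Lrot35 (Lpe (K53.f409466 IH) (Lpr_bf (f409661 IH) (Lpe (K17.f282356 IH) (Lpn (LP (LK LD1_c15 LD2_c32 LD3_c22))))))
theorem f282355 : Led Lsl_ct (LP (LK LD1_c11 LD2_c55 LD3_c2)) = (LP (LK LD1_c6 LD2_c5 LD3_c55)) :=
  Lre_c IH (LK LD1_c11 LD2_c55 LD3_c2) (LK LD1_c6 LD2_c5 LD3_c55) Lrfl Lrfl
theorem f409770 : Led Lsl_bf (LP (LK LD1_c5 LD2_c26 LD3_c16)) = (LP (LK LD1_c6 LD2_c5 LD3_c55)) :=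
  Lgr Lrot90 (Lpr_ct (K53.f409478 IH) (Lpr_bt (f409663 IH) (Lpe (f189823 IH) (Lpr_bt (f409708 IH) (Lpr_ct (f282355 IH) (Lpn (LP (LK LD1_c6 LD2_c5 LD3_c55))))))))
theorem f409451 : Led Lsl_ct (LP (LK LD1_c6 LD2_c5 LD3_c39)) = (LP (LK LD1_c11 LD2_c54 LD3_c36)) :=
  Lre_c IH (LK LD1_c6 LD2_c5 LD3_c39) (LK LD1_c11 LD2_c54 LD3_c36) Lrfl Lrfl
theorem f409470 : Led Lsl_ct (LP (LK LD1_c10 LD2_c43 LD3_c37)) = (LP (LK LD1_c5 LD2_c26 LD3_c16)) :=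
  Lre_c IH (LK LD1_c10 LD2_c43 LD3_c37) (LK LD1_c5 LD2_c26 LD3_c16) Lrfl Lrfl
theorem f409471 : Led Lsl_ff (LP (LK LD1_c6 LD2_c5 LD3_c39)) = (LP (LK LD1_c5 LD2_c26 LD3_c16)) :=
  Lgr Lrot23 (Lpr_ct (f409451 IH) (Lpr_ft (K53.f409466 IH) (Lpr_ct (f409470 IH) (Lpn (LP (LK LD1_c5 LD2_c26 LD3_c16))))))
theorem f409774 : Led Lsl_bt (LP (LK LD1_c6 LD2_c5 LD3_c39)) = (LP (LK LD1_c5 LD2_c26 LD3_c2)) :=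
  Lgr Lrot35 (Lpr_ff (f409471 IH) (Lpr_bf (f409770 IH) (Lpe (f409710 IH) (Lpn (LP (LK LD1_c5 LD2_c26 LD3_c2))))))
def v14824 : LQ := Led Lsl_gf (LP (LK LD1_c5 LD2_c26 LD3_c9))
theorem f726808 : Led Lsl_gf (LP (LK LD1_c5 LD2_c26 LD3_c9)) = v14824 :=
  Lrfl
theorem f263453 : Led Lsl_at (LP (LK LD1_c10 LD2_c43 LD3_c37)) = (LP (LK LD1_c5 LD2_c26 LD3_c9)) :=
  Lre_a IH (LK LD1_c10 LD2_c43 LD3_c37) (LK LD1_c5 LD2_c26 LD3_c9) Lrfl Lrfl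
theorem f726809 : Led Lsl_gt (LP (LK LD1_c11 LD2_c54 LD3_c36)) = v14824 :=
  Lgr Lrot5 (Lpr_ft (K53.f409466 IH) (Lpr_at (f263453 IH) (Lpr_gf (f726808 IH) (Lpn v14824))))
theorem f751789 : Led Lsl_cf v14824 = v16803 :=
  Lgr Lrot58 (Lpe (f726809 IH) (Lpe (f409451 IH) (Lpr_bt (f409774 IH) (Lpr_gf (f409760 IH) (Lpr_bf (f751151 IH) (Lpe (f751153 IH) (Lpe (f338936 IH) (Lpe (f338909 IH) (Lpe (f396243 IH) (Lpr_bf (f751787 IH) (Lpn v16803)))))))))))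
theorem f409484 : Led Lsl_at (LP (LK LD1_c2 LD2_c58 LD3_c54)) = (LP (LK LD1_c6 LD2_c5 LD3_c39)) :=
  Lre_a IH (LK LD1_c2 LD2_c58 LD3_c54) (LK LD1_c6 LD2_c5 LD3_c39) Lrfl Lrfl
theorem f409485 : Led Lsl_at (LP (LK LD1_c5 LD2_c26 LD3_c16)) = (LP (LK LD1_c2 LD2_c39 LD3_c33)) :=
  Lre_a IH (LK LD1_c5 LD2_c26 LD3_c16) (LK LD1_c2 LD2_c39 LD3_c33) Lrfl Lrfl
theorem f409486 : Led Lsl_ff (LP (LK LD1_c2 LD2_c58 LD3_c54)) = (LP (LK LD1_c2 LD2_c39 LD3_c33)) :=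
  Lgr Lrot30 (Lpr_at (f409484 IH) (Lpr_ft (K53.f409479 IH) (Lpr_at (f409485 IH) (Lpn (LP (LK LD1_c2 LD2_c39 LD3_c33))))))
theorem f191464 : Led Lsl_gt (LP (LK LD1_c2 LD2_c39 LD3_c33)) = (LP (LK LD1_c5 LD2_c26 LD3_c14)) :=
  Lre_g IH (LK LD1_c2 LD2_c39 LD3_c33) (LK LD1_c5 LD2_c26 LD3_c14) Lrfl Lrfl
theorem f409499 : Led Lsl_gf (LP (LK LD1_c6 LD2_c5 LD3_c39)) = (LP (LK LD1_c5 LD2_c26 LD3_c14)) :=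
  Lgr Lrot76 (Lpe (f409484 IH) (Lpr_ff (f409486 IH) (Lpr_gt (f191464 IH) (Lpn (LP (LK LD1_c5 LD2_c26 LD3_c14))))))
theorem f198720 : Led Lsl_bt (LP (LK LD1_c10 LD2_c43 LD3_c44)) = (LP (LK LD1_c5 LD2_c26 LD3_c14)) :=
  Lre_b IH (LK LD1_c10 LD2_c43 LD3_c44) (LK LD1_c5 LD2_c26 LD3_c14) Lrfl Lrfl
theorem f191463 : Led Lsl_bt (LP (LK LD1_c1 LD2_c16 LD3_c33)) = (LP (LK LD1_c2 LD2_c39 LD3_c33)) :=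
  Lre_b IH (LK LD1_c1 LD2_c16 LD3_c33) (LK LD1_c2 LD2_c39 LD3_c33) Lrfl Lrfl
theorem f187560 : Led Lsl_bt (LP (LK LD1_c4 LD2_c6 LD3_c46)) = (LP (LK LD1_c2 LD2_c0 LD3_c43)) :=
  Lre_b IH (LK LD1_c4 LD2_c6 LD3_c46) (LK LD1_c2 LD2_c0 LD3_c43) Lrfl Lrfl
theorem f187567 : Led Lsl_ct (LP (LK LD1_c4 LD2_c6 LD3_c46)) = (LP (LK LD1_c8 LD2_c14 LD3_c6)) :=
  Lre_c IH (LK LD1_c4 LD2_c6 LD3_c46) (LK LD1_c8 LD2_c14 LD3_c6) Lrfl Lrfl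
theorem f187571 : Led Lsl_gt (LP (LK LD1_c15 LD2_c29 LD3_c39)) = (LP (LK LD1_c8 LD2_c14 LD3_c6)) :=
  Lre_g IH (LK LD1_c15 LD2_c29 LD3_c39) (LK LD1_c8 LD2_c14 LD3_c6) Lrfl Lrfl
theorem f198721 : Led Lsl_ct (LP (LK LD1_c10 LD2_c43 LD3_c44)) = (LP (LK LD1_c15 LD2_c29 LD3_c39)) :=
  Lgr Lrot64 (Lpr_bt (f198720 IH) (Lpe (f191464 IH) (Lpe (f191463 IH) (Lpr_ct (K9.f182493 IH) (Lpe (K14.f198718 IH) (Lpe (K14.f166140 IH) (Lpr_gf (K14.f198716 IH) (Lpe (f187560 IH) (Lpr_ct (f187567 IH) (Lpe (f187571 IH) (Lpn (LP (LK LD1_c15 LD2_c29 LD3_c39)))))))))))))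
theorem f751790 : Led Lsl_gt (LP (LK LD1_c11 LD2_c57 LD3_c15)) = (LP (LK LD1_c15 LD2_c29 LD3_c39)) :=
  Lgr Lrot65 (Lpe (K25.f338943 IH) (Lpr_bt (f348922 IH) (Lpe (f396243 IH) (Lpr_bf (f751787 IH) (Lpe (f751789 IH) (Lpe (f726809 IH) (Lpe (f409451 IH) (Lpr_gf (f409499 IH) (Lpe (f198720 IH) (Lpr_ct (f198721 IH) (Lpn (LP (LK LD1_c15 LD2_c29 LD3_c39)))))))))))))
theorem f751791 : Led Lsl_gt (LP (LK LD1_c11 LD2_c57 LD3_c15)) = (LP (LK LD1_c15 LD2_c29 LD3_c39)) :=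
  Leop (Lpe (f751790 IH) (Lpn (LP (LK LD1_c11 LD2_c57 LD3_c15))))
theorem seed_1057 : LEOK LG_g (LK LD1_c11 LD2_c57 LD3_c15) :=
  Leoe_g (LK LD1_c11 LD2_c57 LD3_c15) (f751791 IH)
def v16818 : LQ := Led Lsl_bt (LP (LK LD1_c6 LD2_c7 LD3_c17))
theorem f751849 : Led Lsl_bt (LP (LK LD1_c6 LD2_c7 LD3_c17)) = v16818 :=
  Lrfl
theorem f751850 : Led Lsl_bf (LP (LK LD1_c6 LD2_c7 LD3_c17)) = v16818 :=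
  Lgr Lrot24 (Lpr_bt (f751849 IH) (Lpn v16818))
def v12346 : LQ := Led Lsl_at (LP (LK LD1_c4 LD2_c6 LD3_c46))
theorem f691634 : Led Lsl_at (LP (LK LD1_c4 LD2_c6 LD3_c46)) = v12346 :=
  Lrfl
theorem f177458 : Led Lsl_bt (LP (LK LD1_c1 LD2_c25 LD3_c37)) = (LP (LK LD1_c2 LD2_c59 LD3_c48)) :=
  Lre_b IH (LK LD1_c1 LD2_c25 LD3_c37) (LK LD1_c2 LD2_c59 LD3_c48) Lrfl Lrfl
theorem f334943 : Led Lsl_ft (LP (LK LD1_c2 LD2_c59 LD3_c48)) = (LP (LK LD1_c4 LD2_c6 LD3_c46)) :=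
  Lgr Lrot75 (Lpe (f177458 IH) (Lpr_ff (K22.f334941 IH) (Lpe (f187560 IH) (Lpn (LP (LK LD1_c4 LD2_c6 LD3_c46))))))
theorem f177459 : Led Lsl_gt (LP (LK LD1_c2 LD2_c59 LD3_c48)) = (LP (LK LD1_c6 LD2_c7 LD3_c17)) :=
  Lre_g IH (LK LD1_c2 LD2_c59 LD3_c48) (LK LD1_c6 LD2_c7 LD3_c17) Lrfl Lrfl
theorem f691639 : Led Lsl_gt (LP (LK LD1_c6 LD2_c7 LD3_c17)) = v12346 :=
  Lgr Lrot46 (Lpe (f177459 IH) (Lpr_ft (f334943 IH) (Lpr_at (f691634 IH) (Lpn v12346))))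
theorem f691638 : Led Lsl_ff (LP (LK LD1_c6 LD2_c7 LD3_c18)) = v12346 :=
  Lgr Lrot30 (Lpr_at (K25.f177534 IH) (Lpr_ft (f334943 IH) (Lpr_at (f691634 IH) (Lpn v12346))))
theorem f691641 : Led Lsl_bt (LP (LK LD1_c6 LD2_c7 LD3_c5)) = v12346 :=
  Lgr Lrot35 (Lpe (K45.f338922 IH) (Lpe (f348922 IH) (Lpr_ff (f691638 IH) (Lpn v12346))))
theorem f226079 : Led Lsl_gt (LP (LK LD1_c15 LD2_c29 LD3_c49)) = (LP (LK LD1_c8 LD2_c14 LD3_c13)) :=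
  Lre_g IH (LK LD1_c15 LD2_c29 LD3_c49) (LK LD1_c8 LD2_c14 LD3_c13) Lrfl Lrfl
theorem f338924 : Led Lsl_gf (LP (LK LD1_c15 LD2_c29 LD3_c49)) = (LP (LK LD1_c11 LD2_c56 LD3_c53)) :=
  Lgr Lrot47 (Lpr_gt (f226079 IH) (Lpe (K25.f338913 IH) (Lpr_ff (K45.f338914 IH) (Lpn (LP (LK LD1_c11 LD2_c56 LD3_c53))))))
theorem f226078 : Led Lsl_ct (LP (LK LD1_c4 LD2_c6 LD3_c52)) = (LP (LK LD1_c8 LD2_c14 LD3_c13)) :=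
  Lre_c IH (LK LD1_c4 LD2_c6 LD3_c52) (LK LD1_c8 LD2_c14 LD3_c13) Lrfl Lrfl
theorem f166145 : Led Lsl_bt (LP (LK LD1_c1 LD2_c16 LD3_c29)) = (LP (LK LD1_c2 LD2_c39 LD3_c24)) :=
  Lre_b IH (LK LD1_c1 LD2_c16 LD3_c29) (LK LD1_c2 LD2_c39 LD3_c24) Lrfl Lrfl
theorem f212477 : Led Lsl_gt (LP (LK LD1_c2 LD2_c39 LD3_c24)) = (LP (LK LD1_c5 LD2_c26 LD3_c0)) :=
  Lre_g IH (LK LD1_c2 LD2_c39 LD3_c24) (LK LD1_c5 LD2_c26 LD3_c0) Lrfl Lrfl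
theorem f226080 : Led Lsl_bt (LP (LK LD1_c10 LD2_c43 LD3_c16)) = (LP (LK LD1_c5 LD2_c26 LD3_c0)) :=
  Lre_b IH (LK LD1_c10 LD2_c43 LD3_c16) (LK LD1_c5 LD2_c26 LD3_c0) Lrfl Lrfl
theorem f226081 : Led Lsl_cf (LP (LK LD1_c15 LD2_c29 LD3_c49)) = (LP (LK LD1_c10 LD2_c43 LD3_c16)) :=
  Lgr Lrot160 (Lpr_gt (f226079 IH) (Lpe (f226078 IH) (Lpr_bt (K45.f226075 IH) (Lpr_gt (K14.f226067 IH) (Lpr_ct (K18.f183043 IH) (Lpr_gt (K12.f166122 IH) (Lpe (K9.f166128 IH) (Lpr_bt (f166145 IH) (Lpr_gt (f212477 IH) (Lpe (f226080 IH) (Lpn (LP (LK LD1_c10 LD2_c43 LD3_c16)))))))))))))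
theorem f409758 : Led Lsl_ft (LP (LK LD1_c2 LD2_c39 LD3_c24)) = (LP (LK LD1_c2 LD2_c59 LD3_c2)) :=
  Lgr Lrot48 (Lpr_ff (f409745 IH) (Lpn (LP (LK LD1_c2 LD2_c59 LD3_c2))))
theorem f409763 : Led Lsl_at (LP (LK LD1_c2 LD2_c59 LD3_c2)) = (LP (LK LD1_c6 LD2_c5 LD3_c55)) :=
  Lre_a IH (LK LD1_c2 LD2_c59 LD3_c2) (LK LD1_c6 LD2_c5 LD3_c55) Lrfl Lrfl
theorem f409766 : Led Lsl_gt (LP (LK LD1_c5 LD2_c26 LD3_c0)) = (LP (LK LD1_c6 LD2_c5 LD3_c55)) :=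
  Lgr Lrot46 (Lpe (f212477 IH) (Lpr_ft (f409758 IH) (Lpr_at (f409763 IH) (Lpn (LP (LK LD1_c6 LD2_c5 LD3_c55))))))
theorem f409680 : Led Lsl_at (LP (LK LD1_c10 LD2_c43 LD3_c1)) = (LP (LK LD1_c5 LD2_c25 LD3_c55)) :=
  Lre_a IH (LK LD1_c10 LD2_c43 LD3_c1) (LK LD1_c5 LD2_c25 LD3_c55) Lrfl Lrfl
theorem f210493 : Led Lsl_gt (LP (LK LD1_c10 LD2_c43 LD3_c0)) = (LP (LK LD1_c5 LD2_c25 LD3_c55)) :=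
  Lre_g IH (LK LD1_c10 LD2_c43 LD3_c0) (LK LD1_c5 LD2_c25 LD3_c55) Lrfl Lrfl
theorem f409716 : Led Lsl_gf (LP (LK LD1_c10 LD2_c43 LD3_c0)) = (LP (LK LD1_c11 LD2_c55 LD3_c2)) :=
  Lgr Lrot47 (Lpr_gt (f210493 IH) (Lpe (f409680 IH) (Lpr_ff (f409702 IH) (Lpn (LP (LK LD1_c11 LD2_c55 LD3_c2))))))
theorem f751852 : Led Lsl_cf (LP (LK LD1_c10 LD2_c43 LD3_c0)) = v16818 :=
  Lgr Lrot163 (Lpr_gf (f409716 IH) (Lpe (f282354 IH) (Lpe (f409766 IH) (Lpe (f226080 IH) (Lpe (f226081 IH) (Lpr_gf (f338924 IH) (Lpe (K45.f338920 IH) (Lpr_bt (f691641 IH) (Lpe (f691639 IH) (Lpr_bf (f751850 IH) (Lpn v16818)))))))))))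
theorem f751853 : Led Lsl_bt (LP (LK LD1_c10 LD2_c43 LD3_c0)) = (LP (LK LD1_c19 LD2_c23 LD3_c56)) :=
  Lre_b IH (LK LD1_c10 LD2_c43 LD3_c0) (LK LD1_c19 LD2_c23 LD3_c56) Lrfl Lrfl
theorem f183416 : Led Lsl_ct (LP (LK LD1_c11 LD2_c57 LD3_c22)) = (LP (LK LD1_c6 LD2_c7 LD3_c17)) :=
  Lre_c IH (LK LD1_c11 LD2_c57 LD3_c22) (LK LD1_c6 LD2_c7 LD3_c17) Lrfl Lrfl
theorem f751851 : Led Lsl_bt (LP (LK LD1_c21 LD2_c2 LD3_c30)) = (LP (LK LD1_c11 LD2_c57 LD3_c22)) :=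
  Lre_b IH (LK LD1_c21 LD2_c2 LD3_c30) (LK LD1_c11 LD2_c57 LD3_c22) Lrfl Lrfl
theorem f751854 : Led Lsl_ct (LP (LK LD1_c19 LD2_c23 LD3_c56)) = (LP (LK LD1_c21 LD2_c2 LD3_c30)) :=
  Lgr Lrot83 (Lpe (f751853 IH) (Lpr_cf (f751852 IH) (Lpe (f751849 IH) (Lpe (f183416 IH) (Lpe (f751851 IH) (Lpn (LP (LK LD1_c21 LD2_c2 LD3_c30))))))))
theorem f751855 : Led Lsl_ct (LP (LK LD1_c19 LD2_c23 LD3_c56)) = (LP (LK LD1_c21 LD2_c2 LD3_c30)) :=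
  Leop (Lpe (f751854 IH) (Lpn (LP (LK LD1_c19 LD2_c23 LD3_c56))))
theorem seed_1058 : LEOK LG_c (LK LD1_c19 LD2_c23 LD3_c56) :=
  Leoe_c (LK LD1_c19 LD2_c23 LD3_c56) (f751855 IH)
def v16850 : LQ := Led Lsl_et (LP (LK LD1_c6 LD2_c7 LD3_c46))
theorem f751995 : Led Lsl_et (LP (LK LD1_c6 LD2_c7 LD3_c46)) = v16850 :=
  Lrfl
theorem f691563 : Led Lsl_ft (LP (LK LD1_c8 LD2_c12 LD3_c14)) = (LP (LK LD1_c6 LD2_c7 LD3_c46)) :=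
  Lgr Lrot48 (Lpr_ff (K49.f691558 IH) (Lpn (LP (LK LD1_c6 LD2_c7 LD3_c46))))
theorem f751997 : Led Lsl_ff (LP (LK LD1_c17 LD2_c7 LD3_c59)) = v16850 :=
  Lgr Lrot72 (Lpr_et (K11.f27080 IH) (Lpe (K35.f506991 IH) (Lpe (K49.f641195 IH) (Lpr_ft (f691563 IH) (Lpr_et (f751995 IH) (Lpn v16850))))))
theorem f752000 : Led Lsl_ft (LP (LK LD1_c17 LD2_c7 LD3_c59)) = v16850 :=
  Lgr Lrot48 (Lpr_ff (f751997 IH) (Lpn v16850))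
theorem f643147 : Led Lsl_ef (LP (LK LD1_c9 LD2_c13 LD3_c36)) = (LP (LK LD1_c5 LD2_c57 LD3_c59)) :=
  Lgr Lrot88 (Lpr_et (K52.f643143 IH) (Lpn (LP (LK LD1_c5 LD2_c57 LD3_c59))))
theorem f643149 : Led Lsl_bt (LP (LK LD1_c9 LD2_c13 LD3_c37)) = (LP (LK LD1_c5 LD2_c57 LD3_c59)) :=
  Lgr Lrot119 (Lpe (K11.f177088 IH) (Lpe (K45.f412335 IH) (Lpr_ef (f643147 IH) (Lpn (LP (LK LD1_c5 LD2_c57 LD3_c59))))))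
theorem f206036 : Led Lsl_dt (LP (LK LD1_c5 LD2_c57 LD3_c59)) = (LP (LK LD1_c11 LD2_c40 LD3_c41)) :=
  Lre_d IH (LK LD1_c5 LD2_c57 LD3_c59) (LK LD1_c11 LD2_c40 LD3_c41) Lrfl Lrfl
theorem f643151 : Led Lsl_bf (LP (LK LD1_c17 LD2_c7 LD3_c59)) = (LP (LK LD1_c11 LD2_c40 LD3_c41)) :=
  Lgr Lrot93 (Lpr_dt (K11.f27081 IH) (Lpr_bt (f643149 IH) (Lpr_dt (f206036 IH) (Lpn (LP (LK LD1_c11 LD2_c40 LD3_c41))))))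
theorem f557984 : Led Lsl_et (LP (LK LD1_c9 LD2_c7 LD3_c16)) = (LP (LK LD1_c9 LD2_c11 LD3_c37)) :=
  Lgr Lrot87 (Lpr_ef (K45.f557982 IH) (Lpn (LP (LK LD1_c9 LD2_c11 LD3_c37))))
theorem f615303 : Led Lsl_af (LP (LK LD1_c9 LD2_c7 LD3_c16)) = (LP (LK LD1_c4 LD2_c35 LD3_c29)) :=
  Lgr Lrot50 (Lpr_et (f557984 IH) (Lpe (K51.f614676 IH) (Lpr_et (K52.f615301 IH) (Lpn (LP (LK LD1_c4 LD2_c35 LD3_c29))))))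
theorem f506971 : Led Lsl_bt (LP (LK LD1_c4 LD2_c38 LD3_c55)) = (LP (LK LD1_c9 LD2_c13 LD3_c36)) :=
  Lre_b IH (LK LD1_c4 LD2_c38 LD3_c55) (LK LD1_c9 LD2_c13 LD3_c36) Lrfl Lrfl
theorem f412333 : Led Lsl_et (LP (LK LD1_c9 LD2_c13 LD3_c37)) = (LP (LK LD1_c4 LD2_c38 LD3_c55)) :=
  Lre_e IH (LK LD1_c9 LD2_c13 LD3_c37) (LK LD1_c4 LD2_c38 LD3_c55) Lrfl Lrfl
theorem f643145 : Led Lsl_bf (LP (LK LD1_c9 LD2_c13 LD3_c37)) = (LP (LK LD1_c5 LD2_c57 LD3_c59)) :=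
  Lgr Lrot96 (Lpr_et (f412333 IH) (Lpr_bt (f506971 IH) (Lpr_et (K52.f643143 IH) (Lpn (LP (LK LD1_c5 LD2_c57 LD3_c59))))))
theorem f644285 : Led Lsl_af (LP (LK LD1_c5 LD2_c57 LD3_c59)) = (LP (LK LD1_c5 LD2_c57 LD3_c41)) :=
  Lgr Lrot36 (Lpe (f643145 IH) (Lpe (K35.f506972 IH) (Lpr_bt (f615313 IH) (Lpe (f615303 IH) (Lpr_bt (K45.f643355 IH) (Lpn (LP (LK LD1_c5 LD2_c57 LD3_c41))))))))
theorem f206031 : Led Lsl_gt (LP (LK LD1_c5 LD2_c57 LD3_c60)) = (LP (LK LD1_c2 LD2_c55 LD3_c21)) :=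
  Lre_g IH (LK LD1_c5 LD2_c57 LD3_c60) (LK LD1_c2 LD2_c55 LD3_c21) Lrfl Lrfl
theorem f644303 : Led Lsl_ft (LP (LK LD1_c5 LD2_c57 LD3_c60)) = (LP (LK LD1_c5 LD2_c57 LD3_c41)) :=
  Lgr Lrot2 (Lpr_gt (f206031 IH) (Lpr_gt (K52.f72599 IH) (Lpr_af (f644285 IH) (Lpn (LP (LK LD1_c5 LD2_c57 LD3_c41))))))
theorem f644309 : Led Lsl_ff (LP (LK LD1_c5 LD2_c57 LD3_c60)) = (LP (LK LD1_c5 LD2_c57 LD3_c41)) :=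
  Lgr Lrot3 (Lpr_ft (f644303 IH) (Lpn (LP (LK LD1_c5 LD2_c57 LD3_c41))))
theorem f426154 : Led Lsl_at (LP (LK LD1_c2 LD2_c55 LD3_c21)) = (LP (LK LD1_c2 LD2_c55 LD3_c10)) :=
  Lgr Lrot100 (Lpr_af (K24.f426148 IH) (Lpn (LP (LK LD1_c2 LD2_c55 LD3_c10))))
theorem f428124 : Led Lsl_ft (LP (LK LD1_c5 LD2_c58 LD3_c0)) = (LP (LK LD1_c2 LD2_c55 LD3_c21)) :=
  Lre_f IH (LK LD1_c5 LD2_c58 LD3_c0) (LK LD1_c2 LD2_c55 LD3_c21) Lrfl Lrfl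
theorem f161313 : Led Lsl_gt (LP (LK LD1_c5 LD2_c57 LD3_c42)) = (LP (LK LD1_c2 LD2_c55 LD3_c10)) :=
  Lre_g IH (LK LD1_c5 LD2_c57 LD3_c42) (LK LD1_c2 LD2_c55 LD3_c10) Lrfl Lrfl
theorem f428125 : Led Lsl_gt (LP (LK LD1_c5 LD2_c58 LD3_c0)) = (LP (LK LD1_c5 LD2_c57 LD3_c42)) :=
  Lgr Lrot5 (Lpr_ft (f428124 IH) (Lpr_at (f426154 IH) (Lpe (f161313 IH) (Lpn (LP (LK LD1_c5 LD2_c57 LD3_c42))))))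
theorem f644315 : Led Lsl_at (LP (LK LD1_c5 LD2_c57 LD3_c60)) = (LP (LK LD1_c5 LD2_c57 LD3_c42)) :=
  Lgr Lrot26 (Lpr_ff (f644309 IH) (Lpe (K50.f428130 IH) (Lpr_gt (f428125 IH) (Lpn (LP (LK LD1_c5 LD2_c57 LD3_c42))))))
theorem f643336 : Led Lsl_at (LP (LK LD1_c5 LD2_c57 LD3_c59)) = (LP (LK LD1_c5 LD2_c57 LD3_c41)) :=
  Lgr Lrot80 (Lpe (K52.f643143 IH) (Lpr_af (K45.f643330 IH) (Lpe (K45.f559358 IH) (Lpn (LP (LK LD1_c5 LD2_c57 LD3_c41))))))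
theorem f644321 : Led Lsl_ff (LP (LK LD1_c5 LD2_c57 LD3_c59)) = (LP (LK LD1_c5 LD2_c57 LD3_c42)) :=
  Lgr Lrot30 (Lpr_at (f643336 IH) (Lpe (f644309 IH) (Lpr_at (f644315 IH) (Lpn (LP (LK LD1_c5 LD2_c57 LD3_c42))))))
theorem f644325 : Led Lsl_ft (LP (LK LD1_c5 LD2_c57 LD3_c59)) = (LP (LK LD1_c5 LD2_c57 LD3_c42)) :=
  Lgr Lrot48 (Lpr_ff (f644321 IH) (Lpn (LP (LK LD1_c5 LD2_c57 LD3_c42))))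
theorem f428127 : Led Lsl_dt (LP (LK LD1_c5 LD2_c57 LD3_c42)) = (LP (LK LD1_c11 LD2_c40 LD3_c21)) :=
  Lre_d IH (LK LD1_c5 LD2_c57 LD3_c42) (LK LD1_c11 LD2_c40 LD3_c21) Lrfl Lrfl
theorem f644327 : Led Lsl_ff (LP (LK LD1_c11 LD2_c40 LD3_c41)) = (LP (LK LD1_c11 LD2_c40 LD3_c21)) :=
  Lgr Lrot19 (Lpr_dt (f426153 IH) (Lpr_ft (f644325 IH) (Lpr_dt (f428127 IH) (Lpn (LP (LK LD1_c11 LD2_c40 LD3_c21))))))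
theorem f752001 : Led Lsl_bf (LP (LK LD1_c11 LD2_c40 LD3_c21)) = v16850 :=
  Lgr Lrot61 (Lpe (f644327 IH) (Lpe (f643151 IH) (Lpr_ft (f752000 IH) (Lpn v16850))))
theorem f691560 : Led Lsl_bt (LP (LK LD1_c11 LD2_c57 LD3_c56)) = (LP (LK LD1_c6 LD2_c7 LD3_c46)) :=
  Lre_b IH (LK LD1_c11 LD2_c57 LD3_c56) (LK LD1_c6 LD2_c7 LD3_c46) Lrfl Lrfl
theorem f752003 : Led Lsl_et (LP (LK LD1_c11 LD2_c40 LD3_c21)) = (LP (LK LD1_c11 LD2_c57 LD3_c56)) :=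
  Lgr Lrot74 (Lpr_bf (f752001 IH) (Lpe (f751995 IH) (Lpe (f691560 IH) (Lpn (LP (LK LD1_c11 LD2_c57 LD3_c56))))))
theorem f752004 : Led Lsl_et (LP (LK LD1_c11 LD2_c40 LD3_c21)) = (LP (LK LD1_c11 LD2_c57 LD3_c56)) :=
  Leop (Lpe (f752003 IH) (Lpn (LP (LK LD1_c11 LD2_c40 LD3_c21))))
theorem seed_1059 : LEOK LG_e (LK LD1_c11 LD2_c40 LD3_c21) :=
  Leoe_e (LK LD1_c11 LD2_c40 LD3_c21) (f752004 IH)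
def v16867 : LQ := Led Lsl_gf (LP (LK LD1_c6 LD2_c8 LD3_c4))
theorem f752099 : Led Lsl_gf (LP (LK LD1_c6 LD2_c8 LD3_c4)) = v16867 :=
  Lrfl
theorem f56279 : Led Lsl_dt (LP (LK LD1_c3 LD2_c0 LD3_c15)) = (LP (LK LD1_c6 LD2_c8 LD3_c4)) :=
  Lre_d IH (LK LD1_c3 LD2_c0 LD3_c15) (LK LD1_c6 LD2_c8 LD3_c4) Lrfl Lrfl
theorem f646306 : Led Lsl_et (LP (LK LD1_c3 LD2_c0 LD3_c15)) = (LP (LK LD1_c6 LD2_c8 LD3_c5)) :=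
  Lre_e IH (LK LD1_c3 LD2_c0 LD3_c15) (LK LD1_c6 LD2_c8 LD3_c5) Lrfl Lrfl
theorem f55974 : Led Lsl_dt (LP (LK LD1_c6 LD2_c8 LD3_c4)) = (LP (LK LD1_c3 LD2_c0 LD3_c15)) :=
  Lre_d IH (LK LD1_c6 LD2_c8 LD3_c4) (LK LD1_c3 LD2_c0 LD3_c15) Lrfl Lrfl
theorem f55973 : Led Lsl_ct (LP (LK LD1_c3 LD2_c0 LD3_c15)) = (LP (LK LD1_c1 LD2_c25 LD3_c53)) :=
  Lre_c IH (LK LD1_c3 LD2_c0 LD3_c15) (LK LD1_c1 LD2_c25 LD3_c53) Lrfl Lrfl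
theorem f55985 : Led Lsl_gt (LP (LK LD1_c1 LD2_c25 LD3_c51)) = (LP (LK LD1_c0 LD2_c39 LD3_c40)) :=
  Lre_g IH (LK LD1_c1 LD2_c25 LD3_c51) (LK LD1_c0 LD2_c39 LD3_c40) Lrfl Lrfl
theorem f55987 : Led Lsl_dt (LP (LK LD1_c3 LD2_c0 LD3_c11)) = (LP (LK LD1_c1 LD2_c25 LD3_c51)) :=
  Lre_d IH (LK LD1_c3 LD2_c0 LD3_c11) (LK LD1_c1 LD2_c25 LD3_c51) Lrfl Lrfl
theorem f539651 : Led Lsl_at (LP (LK LD1_c5 LD2_c57 LD3_c45)) = (LP (LK LD1_c5 LD2_c6 LD3_c39)) :=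
  Lgr Lrot100 (Lpr_af (K36.f539649 IH) (Lpn (LP (LK LD1_c5 LD2_c6 LD3_c39))))
theorem f427762 : Led Lsl_at (LP (LK LD1_c6 LD2_c7 LD3_c50)) = (LP (LK LD1_c3 LD2_c0 LD3_c7)) :=
  Lre_a IH (LK LD1_c6 LD2_c7 LD3_c50) (LK LD1_c3 LD2_c0 LD3_c7) Lrfl Lrfl
theorem f427767 : Led Lsl_ft (LP (LK LD1_c3 LD2_c0 LD3_c11)) = (LP (LK LD1_c6 LD2_c7 LD3_c50)) :=
  Lre_f IH (LK LD1_c3 LD2_c0 LD3_c11) (LK LD1_c6 LD2_c7 LD3_c50) Lrfl Lrfl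
theorem f539674 : Led Lsl_gf (LP (LK LD1_c5 LD2_c6 LD3_c39)) = (LP (LK LD1_c3 LD2_c0 LD3_c11)) :=
  Lgr Lrot47 (Lpr_gt (K36.f539672 IH) (Lpe (f427762 IH) (Lpe (f427767 IH) (Lpn (LP (LK LD1_c3 LD2_c0 LD3_c11))))))
theorem f539705 : Led Lsl_gf (LP (LK LD1_c3 LD2_c0 LD3_c11)) = (LP (LK LD1_c5 LD2_c58 LD3_c2)) :=
  Lgr Lrot47 (Lpe (f539674 IH) (Lpe (f539651 IH) (Lpr_ff (K40.f539701 IH) (Lpn (LP (LK LD1_c5 LD2_c58 LD3_c2))))))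
def v14353 : LQ := Led Lsl_ct (LP (LK LD1_c5 LD2_c7 LD3_c4))
theorem f722131 : Led Lsl_ct (LP (LK LD1_c5 LD2_c7 LD3_c4)) = v14353 :=
  Lrfl
theorem f722132 : Led Lsl_cf (LP (LK LD1_c5 LD2_c7 LD3_c4)) = v14353 :=
  Lgr Lrot11 (Lpr_ct (f722131 IH) (Lpn v14353))
theorem f55873 : Led Lsl_ct (LP (LK LD1_c2 LD2_c0 LD3_c59)) = (LP (LK LD1_c4 LD2_c7 LD3_c12)) :=
  Lre_c IH (LK LD1_c2 LD2_c0 LD3_c59) (LK LD1_c4 LD2_c7 LD3_c12) Lrfl Lrfl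
theorem f55865 : Led Lsl_gt (LP (LK LD1_c4 LD2_c7 LD3_c6)) = (LP (LK LD1_c2 LD2_c0 LD3_c59)) :=
  Lre_g IH (LK LD1_c4 LD2_c7 LD3_c6) (LK LD1_c2 LD2_c0 LD3_c59) Lrfl Lrfl
theorem f501332 : Led Lsl_at (LP (LK LD1_c6 LD2_c7 LD3_c52)) = (LP (LK LD1_c3 LD2_c0 LD3_c11)) :=
  Lre_a IH (LK LD1_c6 LD2_c7 LD3_c52) (LK LD1_c3 LD2_c0 LD3_c11) Lrfl Lrfl
theorem f501331 : Led Lsl_ft (LP (LK LD1_c3 LD2_c0 LD3_c7)) = (LP (LK LD1_c6 LD2_c7 LD3_c52)) :=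
  Lre_f IH (LK LD1_c3 LD2_c0 LD3_c7) (LK LD1_c6 LD2_c7 LD3_c52) Lrfl Lrfl
theorem f539707 : Led Lsl_gt (LP (LK LD1_c3 LD2_c0 LD3_c7)) = (LP (LK LD1_c5 LD2_c58 LD3_c2)) :=
  Lgr Lrot5 (Lpr_ft (f501331 IH) (Lpr_at (f501332 IH) (Lpr_gf (f539705 IH) (Lpn (LP (LK LD1_c5 LD2_c58 LD3_c2))))))
theorem f722136 : Led Lsl_gt (LP (LK LD1_c5 LD2_c14 LD3_c17)) = v14353 :=
  Lgr Lrot150 (Lpr_cf (K53.f699264 IH) (Lpe (f539707 IH) (Lpe (K36.f55981 IH) (Lpr_gt (K40.f56272 IH) (Lpe (K36.f55945 IH) (Lpr_gt (f55865 IH) (Lpr_ct (f55873 IH) (Lpr_df (K50.f558484 IH) (Lpr_cf (f722132 IH) (Lpn v14353))))))))))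
theorem f752100 : Led Lsl_dt v14353 = v16867 :=
  Lgr Lrot57 (Lpe (f722136 IH) (Lpr_cf (K53.f699264 IH) (Lpe (f539705 IH) (Lpr_dt (f55987 IH) (Lpr_gt (f55985 IH) (Lpr_dt (K36.f56277 IH) (Lpe (f55973 IH) (Lpe (f55974 IH) (Lpr_gf (f752099 IH) (Lpn v16867))))))))))
theorem f387102 : Led Lsl_et (LP (LK LD1_c2 LD2_c33 LD3_c60)) = (LP (LK LD1_c5 LD2_c14 LD3_c17)) :=
  Lre_e IH (LK LD1_c2 LD2_c33 LD3_c60) (LK LD1_c5 LD2_c14 LD3_c17) Lrfl Lrfl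
theorem f308057 : Led Lsl_dt (LP (LK LD1_c2 LD2_c33 LD3_c60)) = (LP (LK LD1_c1 LD2_c13 LD3_c58)) :=
  Lre_d IH (LK LD1_c2 LD2_c33 LD3_c60) (LK LD1_c1 LD2_c13 LD3_c58) Lrfl Lrfl
theorem f387160 : Led Lsl_et (LP (LK LD1_c5 LD2_c14 LD3_c11)) = (LP (LK LD1_c10 LD2_c18 LD3_c15)) :=
  Lre_e IH (LK LD1_c5 LD2_c14 LD3_c11) (LK LD1_c10 LD2_c18 LD3_c15) Lrfl Lrfl
theorem f752101 : Led Lsl_gt (LP (LK LD1_c6 LD2_c8 LD3_c5)) = (LP (LK LD1_c10 LD2_c18 LD3_c15)) :=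
  Lgr Lrot131 (Lpe (f646306 IH) (Lpr_dt (f56279 IH) (Lpr_gf (f752099 IH) (Lpe (f752100 IH) (Lpe (f722136 IH) (Lpe (f387102 IH) (Lpr_dt (f308057 IH) (Lpe (K32.f186693 IH) (Lpe (K38.f308062 IH) (Lpr_et (f387160 IH) (Lpn (LP (LK LD1_c10 LD2_c18 LD3_c15)))))))))))))
theorem f752102 : Led Lsl_gt (LP (LK LD1_c6 LD2_c8 LD3_c5)) = (LP (LK LD1_c10 LD2_c18 LD3_c15)) :=
  Leop (Lpe (f752101 IH) (Lpn (LP (LK LD1_c6 LD2_c8 LD3_c5))))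
theorem seed_1060 : LEOK LG_g (LK LD1_c6 LD2_c8 LD3_c5) :=
  Leoe_g (LK LD1_c6 LD2_c8 LD3_c5) (f752102 IH)
theorem f646333 : Led Lsl_gt (LP (LK LD1_c11 LD2_c58 LD3_c13)) = (LP (LK LD1_c6 LD2_c8 LD3_c5)) :=
  Lre_g IH (LK LD1_c11 LD2_c58 LD3_c13) (LK LD1_c6 LD2_c8 LD3_c5) Lrfl Lrfl
theorem f387190 : Led Lsl_et (LP (LK LD1_c4 LD2_c58 LD3_c50)) = (LP (LK LD1_c9 LD2_c48 LD3_c6)) :=
  Lre_e IH (LK LD1_c4 LD2_c58 LD3_c50) (LK LD1_c9 LD2_c48 LD3_c6) Lrfl Lrfl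
theorem f387169 : Led Lsl_et (LP (LK LD1_c10 LD2_c18 LD3_c15)) = (LP (LK LD1_c5 LD2_c14 LD3_c11)) :=
  Lre_e IH (LK LD1_c10 LD2_c18 LD3_c15) (LK LD1_c5 LD2_c14 LD3_c11) Lrfl Lrfl
theorem f387191 : Led Lsl_at (LP (LK LD1_c9 LD2_c48 LD3_c6)) = (LP (LK LD1_c10 LD2_c18 LD3_c15)) :=
  Lgr Lrot80 (Lpe (f387190 IH) (Lpr_af (K32.f387184 IH) (Lpe (f387169 IH) (Lpn (LP (LK LD1_c10 LD2_c18 LD3_c15))))))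
theorem f752103 : Led Lsl_ft (LP (LK LD1_c11 LD2_c58 LD3_c13)) = (LP (LK LD1_c9 LD2_c48 LD3_c6)) :=
  Lgr Lrot2 (Lpr_gt (f646333 IH) (Lpr_gt (f752101 IH) (Lpe (f387191 IH) (Lpn (LP (LK LD1_c9 LD2_c48 LD3_c6))))))
theorem f387195 : Led Lsl_et (LP (LK LD1_c9 LD2_c48 LD3_c6)) = (LP (LK LD1_c4 LD2_c58 LD3_c50)) :=
  Lre_e IH (LK LD1_c9 LD2_c48 LD3_c6) (LK LD1_c4 LD2_c58 LD3_c50) Lrfl Lrfl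
theorem f387100 : Led Lsl_et (LP (LK LD1_c2 LD2_c27 LD3_c14)) = (LP (LK LD1_c4 LD2_c58 LD3_c44)) :=
  Lre_e IH (LK LD1_c2 LD2_c27 LD3_c14) (LK LD1_c4 LD2_c58 LD3_c44) Lrfl Lrfl
theorem f752111 : Led Lsl_ef (LP (LK LD1_c11 LD2_c58 LD3_c13)) = (LP (LK LD1_c9 LD2_c47 LD3_c61)) :=
  Lgr Lrot21 (Lpr_ft (f752103 IH) (Lpr_et (f387195 IH) (Lpr_ft (K32.f387183 IH) (Lpr_et (f387100 IH) (Lpr_ft (K53.f643546 IH) (Lpn (LP (LK LD1_c9 LD2_c47 LD3_c61))))))))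
def v16866 : LQ := Led Lsl_gt (LP (LK LD1_c6 LD2_c8 LD3_c4))
theorem f752096 : Led Lsl_gt (LP (LK LD1_c6 LD2_c8 LD3_c4)) = v16866 :=
  Lrfl
theorem f183431 : Led Lsl_gt (LP (LK LD1_c6 LD2_c8 LD3_c2)) = (LP (LK LD1_c3 LD2_c0 LD3_c15)) :=
  Lre_g IH (LK LD1_c6 LD2_c8 LD3_c2) (LK LD1_c3 LD2_c0 LD3_c15) Lrfl Lrfl
theorem f541259 : Led Lsl_cf (LP (LK LD1_c4 LD2_c42 LD3_c35)) = (LP (LK LD1_c4 LD2_c53 LD3_c55)) :=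
  Lgr Lrot11 (Lpr_ct (K36.f541257 IH) (Lpn (LP (LK LD1_c4 LD2_c53 LD3_c55))))
theorem f569374 : Led Lsl_gf (LP (LK LD1_c10 LD2_c17 LD3_c57)) = (LP (LK LD1_c6 LD2_c16 LD3_c1)) :=
  Lgr Lrot76 (Lpr_af (K43.f421389 IH) (Lpe (K39.f421214 IH) (Lpr_gt (K42.f569372 IH) (Lpn (LP (LK LD1_c6 LD2_c16 LD3_c1))))))
theorem f308596 : Led Lsl_dt (LP (LK LD1_c5 LD2_c13 LD3_c57)) = (LP (LK LD1_c2 LD2_c33 LD3_c52)) :=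
  Lre_d IH (LK LD1_c5 LD2_c13 LD3_c57) (LK LD1_c2 LD2_c33 LD3_c52) Lrfl Lrfl
theorem f569448 : Led Lsl_gf (LP (LK LD1_c4 LD2_c53 LD3_c55)) = (LP (LK LD1_c4 LD2_c7 LD3_c11)) :=
  Lgr Lrot144 (Lpr_dt (K36.f177301 IH) (Lpe (K36.f541267 IH) (Lpr_dt (f308596 IH) (Lpe (K32.f201594 IH) (Lpe (K39.f308595 IH) (Lpr_gf (f569374 IH) (Lpe (K5.f80274 IH) (Lpe (K42.f81009 IH) (Lpr_cf (K42.f569434 IH) (Lpn (LP (LK LD1_c4 LD2_c7 LD3_c11))))))))))))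
theorem f569445 : Led Lsl_bt (LP (LK LD1_c2 LD2_c0 LD3_c59)) = (LP (LK LD1_c4 LD2_c7 LD3_c11)) :=
  Lre_b IH (LK LD1_c2 LD2_c0 LD3_c59) (LK LD1_c4 LD2_c7 LD3_c11) Lrfl Lrfl
theorem f569489 : Led Lsl_gf (LP (LK LD1_c4 LD2_c7 LD3_c12)) = (LP (LK LD1_c4 LD2_c53 LD3_c52)) :=
  Lgr Lrot126 (Lpe (f55873 IH) (Lpr_bt (f569445 IH) (Lpe (f569448 IH) (Lpe (f541259 IH) (Lpr_gt (K42.f569483 IH) (Lpe (K39.f176008 IH) (Lpr_bt (K39.f551755 IH) (Lpr_gt (K43.f406468 IH) (Lpe (K18.f302407 IH) (Lpr_ct (K28.f289419 IH) (Lpn (LP (LK LD1_c4 LD2_c53 LD3_c52)))))))))))))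
theorem f387162 : Led Lsl_gt (LP (LK LD1_c4 LD2_c58 LD3_c48)) = (LP (LK LD1_c5 LD2_c14 LD3_c11)) :=
  Lgr Lrot5 (Lpr_ft (K28.f386878 IH) (Lpr_at (K32.f180679 IH) (Lpr_gf (K32.f387158 IH) (Lpn (LP (LK LD1_c5 LD2_c14 LD3_c11))))))
theorem f614306 : Led Lsl_cf (LP (LK LD1_c6 LD2_c8 LD3_c2)) = (LP (LK LD1_c5 LD2_c14 LD3_c11)) :=
  Lgr Lrot169 (Lpr_gt (f183431 IH) (Lpr_ct (f55973 IH) (Lpe (K36.f56277 IH) (Lpe (K40.f55968 IH) (Lpe (K39.f55999 IH) (Lpe (K44.f56000 IH) (Lpr_gf (f569489 IH) (Lpe (K28.f386873 IH) (Lpr_gt (f387162 IH) (Lpn (LP (LK LD1_c5 LD2_c14 LD3_c11))))))))))))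
theorem f614309 : Led Lsl_ct (LP (LK LD1_c6 LD2_c8 LD3_c2)) = (LP (LK LD1_c5 LD2_c14 LD3_c11)) :=
  Lgr Lrot59 (Lpr_cf (f614306 IH) (Lpn (LP (LK LD1_c5 LD2_c14 LD3_c11))))
theorem f165701 : Led Lsl_ct (LP (LK LD1_c5 LD2_c7 LD3_c3)) = (LP (LK LD1_c10 LD2_c4 LD3_c45)) :=
  Lre_c IH (LK LD1_c5 LD2_c7 LD3_c3) (LK LD1_c10 LD2_c4 LD3_c45) Lrfl Lrfl
theorem f752097 : Led Lsl_df (LP (LK LD1_c10 LD2_c4 LD3_c45)) = v16866 :=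
  Lgr Lrot84 (Lpe (f165701 IH) (Lpr_df (K39.f541678 IH) (Lpe (K36.f542640 IH) (Lpr_df (K32.f180673 IH) (Lpr_gf (K32.f387158 IH) (Lpe (f614309 IH) (Lpr_gt (f183431 IH) (Lpr_dt (f56279 IH) (Lpr_gt (f752096 IH) (Lpn v16866))))))))))
theorem f752098 : Led Lsl_dt (LP (LK LD1_c10 LD2_c4 LD3_c45)) = v16866 :=
  Lgr Lrot42 (Lpr_df (f752097 IH) (Lpn v16866))
theorem f642447 : Led Lsl_dt (LP (LK LD1_c9 LD2_c47 LD3_c61)) = (LP (LK LD1_c4 LD2_c58 LD3_c45)) :=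
  Lre_d IH (LK LD1_c9 LD2_c47 LD3_c61) (LK LD1_c4 LD2_c58 LD3_c45) Lrfl Lrfl
theorem f535822 : Led Lsl_dt (LP (LK LD1_c5 LD2_c51 LD3_c51)) = (LP (LK LD1_c2 LD2_c52 LD3_c10)) :=
  Lre_d IH (LK LD1_c5 LD2_c51 LD3_c51) (LK LD1_c2 LD2_c52 LD3_c10) Lrfl Lrfl
theorem f640757 : Led Lsl_gt (LP (LK LD1_c11 LD2_c30 LD3_c56)) = (LP (LK LD1_c5 LD2_c51 LD3_c51)) :=
  Lre_g IH (LK LD1_c11 LD2_c30 LD3_c56) (LK LD1_c5 LD2_c51 LD3_c51) Lrfl Lrfl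
theorem f752151 : Led Lsl_et (LP (LK LD1_c10 LD2_c4 LD3_c45)) = (LP (LK LD1_c11 LD2_c30 LD3_c56)) :=
  Lgr Lrot121 (Lpr_dt (f752098 IH) (Lpe (f752096 IH) (Lpe (f56279 IH) (Lpr_et (f646306 IH) (Lpe (f646333 IH) (Lpr_ef (f752111 IH) (Lpr_dt (f642447 IH) (Lpqs (K53.f643543 IH) (Lpe (K53.f640756 IH) (Lpe (f535822 IH) (Lpe (f640757 IH) (Lpn (LP (LK LD1_c11 LD2_c30 LD3_c56))))))))))))))
theorem f752152 : Led Lsl_et (LP (LK LD1_c10 LD2_c4 LD3_c45)) = (LP (LK LD1_c11 LD2_c30 LD3_c56)) :=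
  Leop (Lpe (f752151 IH) (Lpn (LP (LK LD1_c10 LD2_c4 LD3_c45))))
theorem seed_1061 : LEOK LG_e (LK LD1_c10 LD2_c4 LD3_c45) :=
  Leoe_e (LK LD1_c10 LD2_c4 LD3_c45) (f752152 IH)
def v16870 : LQ := Led Lsl_et (LP (LK LD1_c6 LD2_c8 LD3_c8))
theorem f752175 : Led Lsl_et (LP (LK LD1_c6 LD2_c8 LD3_c8)) = v16870 :=
  Lrfl
theorem f752179 : Led Lsl_ef (LP (LK LD1_c6 LD2_c8 LD3_c8)) = v16870 :=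
  Lgr Lrot88 (Lpr_et (f752175 IH) (Lpn v16870))
def v16396 : LQ := Led Lsl_et (LP (LK LD1_c5 LD2_c59 LD3_c29))
theorem f749151 : Led Lsl_et (LP (LK LD1_c5 LD2_c59 LD3_c29)) = v16396 :=
  Lrfl
theorem f752185 : Led Lsl_dt v16396 = v16870 :=
  Lgr Lrot77 (Lpe (f749151 IH) (Lpe (K53.f76003 IH) (Lpe (K53.f74631 IH) (Lpr_df (K53.f75990 IH) (Lpr_ef (f752179 IH) (Lpn v16870))))))
theorem f749153 : Led Lsl_ef (LP (LK LD1_c5 LD2_c59 LD3_c29)) = v16396 :=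
  Lgr Lrot88 (Lpr_et (f749151 IH) (Lpn v16396))
theorem f638992 : Led Lsl_et (LP (LK LD1_c2 LD2_c48 LD3_c15)) = (LP (LK LD1_c5 LD2_c44 LD3_c55)) :=
  Lre_e IH (LK LD1_c2 LD2_c48 LD3_c15) (LK LD1_c5 LD2_c44 LD3_c55) Lrfl Lrfl
def v15666 : LQ := Led Lsl_gt (LP (LK LD1_c5 LD2_c44 LD3_c55))
theorem f740833 : Led Lsl_gt (LP (LK LD1_c5 LD2_c44 LD3_c55)) = v15666 :=
  Lrfl
theorem f539121 : Led Lsl_ft (LP (LK LD1_c11 LD2_c47 LD3_c32)) = (LP (LK LD1_c6 LD2_c1 LD3_c28)) :=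
  Lre_f IH (LK LD1_c11 LD2_c47 LD3_c32) (LK LD1_c6 LD2_c1 LD3_c28) Lrfl Lrfl
theorem f748557 : Led Lsl_dt (LP (LK LD1_c11 LD2_c47 LD3_c6)) = (LP (LK LD1_c11 LD2_c47 LD3_c32)) :=
  Lgr Lrot60 (Lpr_ff (f748551 IH) (Lpe (K38.f545438 IH) (Lpe (f539121 IH) (Lpn (LP (LK LD1_c11 LD2_c47 LD3_c32))))))
theorem f75940 : Led Lsl_ct (LP (LK LD1_c6 LD2_c1 LD3_c8)) = (LP (LK LD1_c2 LD2_c56 LD3_c49)) :=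
  Lre_c IH (LK LD1_c6 LD2_c1 LD3_c8) (LK LD1_c2 LD2_c56 LD3_c49) Lrfl Lrfl
theorem f75938 : Led Lsl_dt (LP (LK LD1_c11 LD2_c46 LD3_c57)) = (LP (LK LD1_c6 LD2_c1 LD3_c8)) :=
  Lre_d IH (LK LD1_c11 LD2_c46 LD3_c57) (LK LD1_c6 LD2_c1 LD3_c8) Lrfl Lrfl
theorem f645126 : Led Lsl_ct (LP (LK LD1_c20 LD2_c49 LD3_c0)) = (LP (LK LD1_c11 LD2_c46 LD3_c57)) :=
  Lre_c IH (LK LD1_c20 LD2_c49 LD3_c0) (LK LD1_c11 LD2_c46 LD3_c57) Lrfl Lrfl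
theorem f545471 : Led Lsl_ct (LP (LK LD1_c11 LD2_c47 LD3_c32)) = (LP (LK LD1_c20 LD2_c49 LD3_c35)) :=
  Lre_c IH (LK LD1_c11 LD2_c47 LD3_c32) (LK LD1_c20 LD2_c49 LD3_c35) Lrfl Lrfl
theorem f545465 : Led Lsl_ft (LP (LK LD1_c11 LD2_c20 LD3_c33)) = (LP (LK LD1_c20 LD2_c17 LD3_c58)) :=
  Lre_f IH (LK LD1_c11 LD2_c20 LD3_c33) (LK LD1_c20 LD2_c17 LD3_c58) Lrfl Lrfl
theorem f545466 : Led Lsl_af (LP (LK LD1_c11 LD2_c47 LD3_c32)) = (LP (LK LD1_c20 LD2_c17 LD3_c58)) :=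
  Lgr Lrot45 (Lpr_ft (f539121 IH) (Lpr_at (K38.f545452 IH) (Lpr_ft (f545465 IH) (Lpn (LP (LK LD1_c20 LD2_c17 LD3_c58))))))
theorem f545476 : Led Lsl_ct (LP (LK LD1_c29 LD2_c23 LD3_c40)) = (LP (LK LD1_c20 LD2_c17 LD3_c58)) :=
  Lre_c IH (LK LD1_c29 LD2_c23 LD3_c40) (LK LD1_c20 LD2_c17 LD3_c58) Lrfl Lrfl
theorem f545477 : Led Lsl_at (LP (LK LD1_c20 LD2_c49 LD3_c35)) = (LP (LK LD1_c29 LD2_c23 LD3_c40)) :=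
  Lgr Lrot107 (Lpe (f545471 IH) (Lpr_af (f545466 IH) (Lpe (f545476 IH) (Lpn (LP (LK LD1_c29 LD2_c23 LD3_c40))))))
theorem f545479 : Led Lsl_af (LP (LK LD1_c20 LD2_c49 LD3_c35)) = (LP (LK LD1_c29 LD2_c23 LD3_c40)) :=
  Lgr Lrot0 (Lpr_at (f545477 IH) (Lpn (LP (LK LD1_c29 LD2_c23 LD3_c40))))
theorem f545487 : Led Lsl_ft (LP (LK LD1_c20 LD2_c17 LD3_c56)) = (LP (LK LD1_c29 LD2_c23 LD3_c40)) :=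
  Lre_f IH (LK LD1_c20 LD2_c17 LD3_c56) (LK LD1_c29 LD2_c23 LD3_c40) Lrfl Lrfl
theorem f748560 : Led Lsl_df (LP (LK LD1_c20 LD2_c49 LD3_c0)) = (LP (LK LD1_c20 LD2_c17 LD3_c56)) :=
  Lgr Lrot157 (Lpr_ct (f645126 IH) (Lpr_dt (f75938 IH) (Lpr_ct (f75940 IH) (Lpr_dt (K5.f75886 IH) (Lpr_ct (K54.f75941 IH) (Lpr_dt (f748557 IH) (Lpr_ct (f545471 IH) (Lpr_af (f545479 IH) (Lpe (f545487 IH) (Lpn (LP (LK LD1_c20 LD2_c17 LD3_c56))))))))))))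
theorem f545462 : Led Lsl_ct (LP (LK LD1_c11 LD2_c20 LD3_c33)) = (LP (LK LD1_c20 LD2_c17 LD3_c56)) :=
  Lre_c IH (LK LD1_c11 LD2_c20 LD3_c33) (LK LD1_c20 LD2_c17 LD3_c56) Lrfl Lrfl
theorem f748568 : Led Lsl_ct (LP (LK LD1_c11 LD2_c40 LD3_c60)) = (LP (LK LD1_c6 LD2_c8 LD3_c1)) :=
  Lgr Lrot133 (Lpe (K53.f720267 IH) (Lpr_ft (K53.f75994 IH) (Lpq (K53.f719917 IH) (Lpe (K53.f645122 IH) (Lpe (f75940 IH) (Lpe (f75938 IH) (Lpe (f645126 IH) (Lpr_df (f748560 IH) (Lpe (f545462 IH) (Lpr_df (K38.f539617 IH) (Lpn (LP (LK LD1_c6 LD2_c8 LD3_c1)))))))))))))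
theorem f545559 : Led Lsl_et (LP (LK LD1_c6 LD2_c8 LD3_c1)) = (LP (LK LD1_c3 LD2_c0 LD3_c14)) :=
  Lre_e IH (LK LD1_c6 LD2_c8 LD3_c1) (LK LD1_c3 LD2_c0 LD3_c14) Lrfl Lrfl
theorem f539612 : Led Lsl_ct (LP (LK LD1_c3 LD2_c0 LD3_c14)) = (LP (LK LD1_c6 LD2_c8 LD3_c0)) :=
  Lre_c IH (LK LD1_c3 LD2_c0 LD3_c14) (LK LD1_c6 LD2_c8 LD3_c0) Lrfl Lrfl
theorem f748572 : Led Lsl_ef (LP (LK LD1_c11 LD2_c40 LD3_c60)) = (LP (LK LD1_c6 LD2_c8 LD3_c0)) :=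
  Lgr Lrot28 (Lpr_ct (f748568 IH) (Lpr_et (f545559 IH) (Lpr_ct (f539612 IH) (Lpn (LP (LK LD1_c6 LD2_c8 LD3_c0))))))
theorem f586828 : Led Lsl_gt (LP (LK LD1_c9 LD2_c15 LD3_c6)) = (LP (LK LD1_c16 LD2_c59 LD3_c30)) :=
  Lgr Lrot46 (Lpe (K37.f422807 IH) (Lpe (K45.f547884 IH) (Lpr_at (K45.f586817 IH) (Lpn (LP (LK LD1_c16 LD2_c59 LD3_c30))))))
theorem f559484 : Led Lsl_bt (LP (LK LD1_c9 LD2_c7 LD3_c21)) = (LP (LK LD1_c5 LD2_c57 LD3_c46)) :=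
  Lgr Lrot95 (Lpr_df (K38.f546517 IH) (Lpe (K36.f56266 IH) (Lpr_df (K40.f559479 IH) (Lpn (LP (LK LD1_c5 LD2_c57 LD3_c46))))))
theorem f586830 : Led Lsl_gf (LP (LK LD1_c10 LD2_c18 LD3_c45)) = (LP (LK LD1_c6 LD2_c8 LD3_c0)) :=
  Lgr Lrot129 (Lpe (K32.f180686 IH) (Lpr_bt (K36.f386939 IH) (Lpe (K36.f541267 IH) (Lpe (K37.f421457 IH) (Lpe (K37.f542346 IH) (Lpr_gt (f586828 IH) (Lpe (K45.f239283 IH) (Lpr_bt (f559484 IH) (Lpe (K40.f559468 IH) (Lpr_ct (f539612 IH) (Lpn (LP (LK LD1_c6 LD2_c8 LD3_c0)))))))))))))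
theorem f426190 : Led Lsl_at (LP (LK LD1_c5 LD2_c58 LD3_c3)) = (LP (LK LD1_c5 LD2_c57 LD3_c47)) :=
  Lgr Lrot107 (Lpe (K38.f386723 IH) (Lpr_af (K24.f426178 IH) (Lpe (K32.f386689 IH) (Lpn (LP (LK LD1_c5 LD2_c57 LD3_c47))))))
theorem f586832 : Led Lsl_ff (LP (LK LD1_c5 LD2_c58 LD3_c3)) = (LP (LK LD1_c6 LD2_c8 LD3_c0)) :=
  Lgr Lrot52 (Lpr_at (f426190 IH) (Lpe (K32.f387064 IH) (Lpr_gf (f586830 IH) (Lpn (LP (LK LD1_c6 LD2_c8 LD3_c0))))))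
theorem f586838 : Led Lsl_ft (LP (LK LD1_c5 LD2_c58 LD3_c3)) = (LP (LK LD1_c6 LD2_c8 LD3_c0)) :=
  Lgr Lrot48 (Lpr_ff (f586832 IH) (Lpn (LP (LK LD1_c6 LD2_c8 LD3_c0))))
def v16342 : LQ := Led Lsl_ct (LP (LK LD1_c5 LD2_c57 LD3_c61))
theorem f748874 : Led Lsl_ct (LP (LK LD1_c5 LD2_c57 LD3_c61)) = v16342 :=
  Lrfl
theorem f748877 : Led Lsl_ef (LP (LK LD1_c5 LD2_c58 LD3_c3)) = v16342 :=
  Lgr Lrot28 (Lpr_ct (K38.f386765 IH) (Lpr_et (K24.f426176 IH) (Lpr_ct (f748874 IH) (Lpn v16342))))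
theorem f752180 : Led Lsl_ff v16342 = v16870 :=
  Lgr Lrot72 (Lpe (f748877 IH) (Lpr_ft (f586838 IH) (Lpe (f748572 IH) (Lpe (K53.f720263 IH) (Lpr_et (f752175 IH) (Lpn v16870))))))
theorem f426172 : Led Lsl_af (LP (LK LD1_c5 LD2_c57 LD3_c61)) = (LP (LK LD1_c5 LD2_c57 LD3_c43)) :=
  Lgr Lrot0 (Lpr_at (K24.f426165 IH) (Lpn (LP (LK LD1_c5 LD2_c57 LD3_c43))))
theorem f748500 : Led Lsl_cf (LP (LK LD1_c5 LD2_c57 LD3_c43)) = K55.v16329 :=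
  Lgr Lrot11 (Lpr_ct (K55.f748499 IH) (Lpn K55.v16329))
theorem f748875 : Led Lsl_af K55.v16329 = v16342 :=
  Lgr Lrot68 (Lpe (f748500 IH) (Lpe (f426172 IH) (Lpr_ct (f748874 IH) (Lpn v16342))))
theorem f720257 : Led Lsl_ff (LP (LK LD1_c6 LD2_c8 LD3_c7)) = (LP (LK LD1_c6 LD2_c1 LD3_c14)) :=
  Lgr Lrot3 (Lpr_ft (K53.f720255 IH) (Lpn (LP (LK LD1_c6 LD2_c1 LD3_c14))))
theorem f720269 : Led Lsl_ft (LP (LK LD1_c6 LD2_c8 LD3_c8)) = (LP (LK LD1_c11 LD2_c40 LD3_c60)) :=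
  Lgr Lrot48 (Lpr_ff (K53.f720263 IH) (Lpn (LP (LK LD1_c11 LD2_c40 LD3_c60))))
theorem f720271 : Led Lsl_af (LP (LK LD1_c6 LD2_c8 LD3_c7)) = (LP (LK LD1_c11 LD2_c40 LD3_c60)) :=
  Lgr Lrot45 (Lpr_ft (K53.f720255 IH) (Lpe (K53.f720259 IH) (Lpr_ft (f720269 IH) (Lpn (LP (LK LD1_c11 LD2_c40 LD3_c60))))))
theorem f426194 : Led Lsl_ft (LP (LK LD1_c5 LD2_c57 LD3_c48)) = (LP (LK LD1_c2 LD2_c55 LD3_c12)) :=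
  Lre_f IH (LK LD1_c5 LD2_c57 LD3_c48) (LK LD1_c2 LD2_c55 LD3_c12) Lrfl Lrfl
theorem f426231 : Led Lsl_ff (LP (LK LD1_c10 LD2_c18 LD3_c47)) = (LP (LK LD1_c5 LD2_c57 LD3_c47)) :=
  Lgr Lrot23 (Lpr_ct (K28.f426226 IH) (Lpr_ft (f426194 IH) (Lpr_ct (K32.f386678 IH) (Lpn (LP (LK LD1_c5 LD2_c57 LD3_c47))))))
theorem f586834 : Led Lsl_at (LP (LK LD1_c10 LD2_c18 LD3_c47)) = (LP (LK LD1_c6 LD2_c8 LD3_c0)) :=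
  Lgr Lrot66 (Lpr_ff (f426231 IH) (Lpe (f426190 IH) (Lpr_ff (f586832 IH) (Lpn (LP (LK LD1_c6 LD2_c8 LD3_c0))))))
theorem f748625 : Led Lsl_et (LP (LK LD1_c6 LD2_c8 LD3_c7)) = (LP (LK LD1_c10 LD2_c18 LD3_c47)) :=
  Lgr Lrot123 (Lpr_af (f720271 IH) (Lpr_ef (f748572 IH) (Lpe (f586834 IH) (Lpn (LP (LK LD1_c10 LD2_c18 LD3_c47))))))
theorem f426233 : Led Lsl_ft (LP (LK LD1_c10 LD2_c18 LD3_c47)) = (LP (LK LD1_c5 LD2_c57 LD3_c47)) :=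
  Lgr Lrot48 (Lpr_ff (f426231 IH) (Lpn (LP (LK LD1_c5 LD2_c57 LD3_c47))))
theorem f749609 : Led Lsl_ft K55.v16329 = v16464 :=
  Lgr Lrot86 (Lpe (K55.f748503 IH) (Lpe (f426233 IH) (Lpe (f748625 IH) (Lpr_ff (f720257 IH) (Lpr_ef (f749606 IH) (Lpn v16464))))))
theorem f752181 : Led Lsl_at v16464 = v16870 :=
  Lgr Lrot66 (Lpe (f749609 IH) (Lpr_af (f748875 IH) (Lpr_ff (f752180 IH) (Lpn v16870))))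
theorem f752184 : Led Lsl_gt K55.v14401 = v16870 :=
  Lgr Lrot46 (Lpr_gf (K55.f748502 IH) (Lpr_ft (f749609 IH) (Lpr_at (f752181 IH) (Lpn v16870))))
theorem f738448 : Led Lsl_et (LP (LK LD1_c5 LD2_c44 LD3_c26)) = (LP (LK LD1_c11 LD2_c18 LD3_c59)) :=
  Lre_e IH (LK LD1_c5 LD2_c44 LD3_c26) (LK LD1_c11 LD2_c18 LD3_c59) Lrfl Lrfl
theorem f752186 : v15666 = (LP (LK LD1_c11 LD2_c18 LD3_c59)) :=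
  (Llr Lrot131 (Lpe (f740833 IH) (Lpe (f638992 IH) (Lpr_dt (K50.f414693 IH) (Lpr_gf (K50.f642122 IH) (Lpe (K50.f641723 IH) (Lpr_gf (K53.f642152 IH) (Lpr_ef (f749153 IH) (Lpr_dt (f752185 IH) (Lpe (f752184 IH) (Lpq (K55.f748797 IH) (Lpe (K55.f738454 IH) (Lpr_et (f738448 IH) (Lpn (LP (LK LD1_c11 LD2_c18 LD3_c59)))))))))))))))).symm
theorem f639008 : Led Lsl_ft (LP (LK LD1_c5 LD2_c44 LD3_c55)) = (LP (LK LD1_c11 LD2_c20 LD3_c7)) :=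
  Lre_f IH (LK LD1_c5 LD2_c44 LD3_c55) (LK LD1_c11 LD2_c20 LD3_c7) Lrfl Lrfl
theorem f618036 : Led Lsl_ft (LP (LK LD1_c20 LD2_c14 LD3_c53)) = (LP (LK LD1_c11 LD2_c18 LD3_c22)) :=
  Lre_f IH (LK LD1_c20 LD2_c14 LD3_c53) (LK LD1_c11 LD2_c18 LD3_c22) Lrfl Lrfl
theorem f740110 : Led Lsl_dt (LP (LK LD1_c11 LD2_c40 LD3_c36)) = (LP (LK LD1_c20 LD2_c14 LD3_c53)) :=
  Lgr Lrot60 (Lpr_ff (K55.f740106 IH) (Lpr_df (K51.f618030 IH) (Lpe (f618036 IH) (Lpn (LP (LK LD1_c20 LD2_c14 LD3_c53))))))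
theorem f75847 : Led Lsl_gt (LP (LK LD1_c5 LD2_c59 LD3_c40)) = (LP (LK LD1_c2 LD2_c56 LD3_c10)) :=
  Lre_g IH (LK LD1_c5 LD2_c59 LD3_c40) (LK LD1_c2 LD2_c56 LD3_c10) Lrfl Lrfl
theorem f740114 : Led Lsl_gf (LP (LK LD1_c11 LD2_c20 LD3_c5)) = (LP (LK LD1_c20 LD2_c14 LD3_c53)) :=
  Lgr Lrot134 (Lpr_df (K55.f643325 IH) (Lpr_et (K55.f76073 IH) (Lpr_gt (f75847 IH) (Lpe (K32.f75838 IH) (Lpr_dt (K32.f75524 IH) (Lpr_gt (K54.f424635 IH) (Lpr_df (K32.f150337 IH) (Lpr_et (K32.f150339 IH) (Lpr_gt (K54.f150325 IH) (Lpr_dt (f740110 IH) (Lpn (LP (LK LD1_c20 LD2_c14 LD3_c53)))))))))))))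
theorem f740116 : Led Lsl_af (LP (LK LD1_c5 LD2_c44 LD3_c55)) = (LP (LK LD1_c11 LD2_c18 LD3_c22)) :=
  Lgr Lrot31 (Lpe (K55.f618139 IH) (Lpr_gf (f740114 IH) (Lpr_ft (f618036 IH) (Lpn (LP (LK LD1_c11 LD2_c18 LD3_c22))))))
theorem f740118 : Led Lsl_at (LP (LK LD1_c11 LD2_c20 LD3_c7)) = (LP (LK LD1_c20 LD2_c14 LD3_c53)) :=
  Lgr Lrot66 (Lpe (f639008 IH) (Lpr_af (f740116 IH) (Lpe (f618036 IH) (Lpn (LP (LK LD1_c20 LD2_c14 LD3_c53))))))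
theorem f740834 : Led Lsl_gf (LP (LK LD1_c20 LD2_c14 LD3_c53)) = v15666 :=
  Lgr Lrot76 (Lpe (f740118 IH) (Lpe (f639008 IH) (Lpr_gt (f740833 IH) (Lpn v15666))))
theorem f752187 : Led Lsl_gt (LP (LK LD1_c11 LD2_c18 LD3_c59)) = (LP (LK LD1_c20 LD2_c14 LD3_c53)) :=
  Leop (Lpr_gf (f740834 IH) (Lpqs (f752186 IH) (Lpn (LP (LK LD1_c11 LD2_c18 LD3_c59)))))
theorem seed_1062 : LEOK LG_g (LK LD1_c11 LD2_c18 LD3_c59) :=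
  Leoe_g (LK LD1_c11 LD2_c18 LD3_c59) (f752187 IH)
def v15642 : LQ := Led Lsl_at (LP (LK LD1_c5 LD2_c44 LD3_c26))
theorem f738446 : Led Lsl_at (LP (LK LD1_c5 LD2_c44 LD3_c26)) = v15642 :=
  Lrfl
theorem f738447 : Led Lsl_af (LP (LK LD1_c5 LD2_c44 LD3_c26)) = v15642 :=
  Lgr Lrot0 (Lpr_at (f738446 IH) (Lpn v15642))
theorem f741367 : Led Lsl_bt (LP (LK LD1_c9 LD2_c4 LD3_c46)) = (LP (LK LD1_c16 LD2_c56 LD3_c27)) :=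
  Lre_b IH (LK LD1_c9 LD2_c4 LD3_c46) (LK LD1_c16 LD2_c56 LD3_c27) Lrfl Lrfl
theorem f741368 : Led Lsl_ff K55.v15757 = (LP (LK LD1_c16 LD2_c56 LD3_c27)) :=
  Lgr Lrot25 (Lpe (K55.f741334 IH) (Lpr_ft (K55.f741061 IH) (Lpqs (K55.f741362 IH) (Lpr_bt (f741367 IH) (Lpn (LP (LK LD1_c16 LD2_c56 LD3_c27)))))))
theorem f741415 : Led Lsl_ft K55.v15757 = (LP (LK LD1_c16 LD2_c56 LD3_c27)) :=
  Lgr Lrot48 (Lpr_ff (f741368 IH) (Lpn (LP (LK LD1_c16 LD2_c56 LD3_c27))))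
theorem f743829 : Led Lsl_at (LP (LK LD1_c16 LD2_c56 LD3_c27)) = v15666 :=
  Lgr Lrot26 (Lpe (f741415 IH) (Lpq (K55.f743824 IH) (Lpr_gt (K55.f618139 IH) (Lpr_gt (f740833 IH) (Lpn v15666)))))
theorem f743830 : Led Lsl_af (LP (LK LD1_c16 LD2_c56 LD3_c27)) = v15666 :=
  Lgr Lrot0 (Lpr_at (f743829 IH) (Lpn v15666))
theorem f741416 : Led Lsl_et (LP (LK LD1_c16 LD2_c56 LD3_c27)) = (LP (LK LD1_c9 LD2_c4 LD3_c45)) :=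
  Lre_e IH (LK LD1_c16 LD2_c56 LD3_c27) (LK LD1_c9 LD2_c4 LD3_c45) Lrfl Lrfl
theorem f752194 : v15642 = (LP (LK LD1_c9 LD2_c4 LD3_c45)) :=
  (Llr Lrot50 (Lpe (f738447 IH) (Lpr_et (f738448 IH) (Lpq (f752186 IH) (Lpe (f743830 IH) (Lpr_et (f741416 IH) (Lpn (LP (LK LD1_c9 LD2_c4 LD3_c45))))))))).symm
theorem f749625 : Led Lsl_ff K55.v16329 = v16464 :=
  Lgr Lrot3 (Lpr_ft (f749609 IH) (Lpn v16464))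
theorem f748878 : Led Lsl_at K55.v16329 = v16342 :=
  Lgr Lrot80 (Lpe (K55.f748503 IH) (Lpe (f426190 IH) (Lpr_ef (f748877 IH) (Lpn v16342))))
theorem f748876 : Led Lsl_cf (LP (LK LD1_c5 LD2_c57 LD3_c61)) = v16342 :=
  Lgr Lrot11 (Lpr_ct (f748874 IH) (Lpn v16342))
theorem f426947 : Led Lsl_dt (LP (LK LD1_c5 LD2_c57 LD3_c61)) = (LP (LK LD1_c2 LD2_c55 LD3_c21)) :=
  Lre_d IH (LK LD1_c5 LD2_c57 LD3_c61) (LK LD1_c2 LD2_c55 LD3_c21) Lrfl Lrfl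
theorem f206025 : Led Lsl_ct (LP (LK LD1_c5 LD2_c57 LD3_c58)) = (LP (LK LD1_c2 LD2_c55 LD3_c21)) :=
  Lre_c IH (LK LD1_c5 LD2_c57 LD3_c58) (LK LD1_c2 LD2_c55 LD3_c21) Lrfl Lrfl
def v16326 : LQ := Led Lsl_ft (LP (LK LD1_c5 LD2_c57 LD3_c40))
theorem f748473 : Led Lsl_ft (LP (LK LD1_c5 LD2_c57 LD3_c40)) = v16326 :=
  Lrfl
theorem f748476 : Led Lsl_ff (LP (LK LD1_c5 LD2_c57 LD3_c40)) = v16326 :=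
  Lgr Lrot3 (Lpr_ft (f748473 IH) (Lpn v16326))
theorem f426161 : Led Lsl_ct (LP (LK LD1_c5 LD2_c57 LD3_c40)) = (LP (LK LD1_c2 LD2_c55 LD3_c10)) :=
  Lre_c IH (LK LD1_c5 LD2_c57 LD3_c40) (LK LD1_c2 LD2_c55 LD3_c10) Lrfl Lrfl
theorem f748477 : Led Lsl_ct (LP (LK LD1_c5 LD2_c57 LD3_c44)) = v16326 :=
  Lgr Lrot40 (Lpe (K50.f426144 IH) (Lpe (f426161 IH) (Lpr_ff (f748476 IH) (Lpn v16326))))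
theorem f627862 : Led Lsl_bf K35.v1118 = K42.v3911 :=
  Lgr Lrot24 (Lpr_bt (K42.f627861 IH) (Lpn K42.v3911))
def v1117 : LQ := Led Lsl_bt K32.v267
def v3908 : LQ := Led Lsl_ct v1117
def v11843 : LQ := Led Lsl_bt v3908
theorem f686121 : Led Lsl_bt v3908 = v11843 :=
  Lrfl
def v2816 : LQ := Led Lsl_bt K35.v346
def v9612 : LQ := Led Lsl_ct v2816
theorem f676841 : Led Lsl_ct v2816 = v9612 :=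
  Lrfl
theorem f491585 : Led Lsl_bt K32.v267 = v1117 :=
  Lrfl
theorem f491586 : Led Lsl_bf K32.v267 = v1117 :=
  Lgr Lrot24 (Lpr_bt (f491585 IH) (Lpn v1117))
theorem f535752 : Led Lsl_bt K35.v346 = v2816 :=
  Lrfl
theorem f623424 : Led Lsl_ff v1117 = v2816 :=
  Lgr Lrot25 (Lpe (f491586 IH) (Lpq (K35.f623409 IH) (Lpe (K49.f535765 IH) (Lpr_bt (f535752 IH) (Lpn v2816)))))
theorem f623433 : Led Lsl_ft v1117 = v2816 :=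
  Lgr Lrot48 (Lpr_ff (f623424 IH) (Lpn v2816))
theorem f627849 : Led Lsl_ct v1117 = v3908 :=
  Lrfl
theorem f627850 : Led Lsl_cf v1117 = v3908 :=
  Lgr Lrot11 (Lpr_ct (f627849 IH) (Lpn v3908))
theorem f676844 : Led Lsl_ff v3908 = v9612 :=
  Lgr Lrot23 (Lpe (f627850 IH) (Lpr_ft (f623433 IH) (Lpr_ct (f676841 IH) (Lpn v9612))))
theorem f676843 : Led Lsl_cf v2816 = v9612 :=
  Lgr Lrot11 (Lpr_ct (f676841 IH) (Lpn v9612))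
theorem f535753 : Led Lsl_bf K35.v346 = v2816 :=
  Lgr Lrot24 (Lpr_bt (f535752 IH) (Lpn v2816))
def v2817 : LQ := Led Lsl_ct K35.v346
theorem f535754 : Led Lsl_ct K35.v346 = v2817 :=
  Lrfl
theorem f500212 : Led Lsl_cf (LP (LK LD1_c1 LD2_c22 LD3_c5)) = K35.v1586 :=
  Lgr Lrot11 (Lpr_ct (K35.f500211 IH) (Lpn K35.v1586))
theorem f535788 : (LP (LK LD1_c1 LD2_c22 LD3_c5)) = v2817 :=
  Lefun (Lecon (Lfl_cf (f500212 IH)) (K35.f535787 IH)) (f535754 IH)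
theorem f500206 : Led Lsl_bt (LP (LK LD1_c1 LD2_c22 LD3_c5)) = (LP (LK LD1_c2 LD2_c52 LD3_c10)) :=
  Lre_b IH (LK LD1_c1 LD2_c22 LD3_c5) (LK LD1_c2 LD2_c52 LD3_c10) Lrfl Lrfl
def v4894 : LQ := Led Lsl_ct (LP (LK LD1_c2 LD2_c52 LD3_c10))
theorem f640762 : Led Lsl_ct (LP (LK LD1_c2 LD2_c52 LD3_c10)) = v4894 :=
  Lrfl
theorem f676846 : Led Lsl_bt v4894 = v9612 :=
  Lgr Lrot128 (Lpe (f640762 IH) (Lpe (f500206 IH) (Lpqs (f535788 IH) (Lpe (f535754 IH) (Lpr_bf (f535753 IH) (Lpr_cf (f676843 IH) (Lpn v9612)))))))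
theorem f686124 : Led Lsl_ff v4894 = v11843 :=
  Lgr Lrot25 (Lpr_bt (f676846 IH) (Lpe (f676844 IH) (Lpr_bt (f686121 IH) (Lpn v11843))))
theorem f640763 : Led Lsl_cf (LP (LK LD1_c2 LD2_c52 LD3_c10)) = v4894 :=
  Lgr Lrot11 (Lpr_ct (f640762 IH) (Lpn v4894))
theorem f627864 : Led Lsl_ft (LP (LK LD1_c2 LD2_c52 LD3_c10)) = K42.v3911 :=
  Lgr Lrot48 (Lpr_ff (K45.f627863 IH) (Lpn K42.v3911))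
theorem f686125 : Led Lsl_ct K42.v3911 = v11843 :=
  Lgr Lrot40 (Lpe (f627864 IH) (Lpr_cf (f640763 IH) (Lpr_ff (f686124 IH) (Lpn v11843))))
theorem f748479 : Led Lsl_gf v11843 = v16326 :=
  Lgr Lrot126 (Lpe (f686125 IH) (Lpe (f627862 IH) (Lpq (K35.f623411 IH) (Lpqs (K49.f623415 IH) (Lpe (K49.f494348 IH) (Lpr_ct (K53.f206517 IH) (Lpr_gt (K32.f206522 IH) (Lpr_cf (K55.f435429 IH) (Lpr_bt (K45.f631837 IH) (Lpqs (K55.f699899 IH) (Lpr_gt (K55.f641252 IH) (Lpe (K55.f426134 IH) (Lpr_ct (f748477 IH) (Lpn v16326))))))))))))))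
theorem f72526 : Led Lsl_et (LP (LK LD1_c5 LD2_c57 LD3_c58)) = (LP (LK LD1_c2 LD2_c55 LD3_c20)) :=
  Lre_e IH (LK LD1_c5 LD2_c57 LD3_c58) (LK LD1_c2 LD2_c55 LD3_c20) Lrfl Lrfl
theorem f137611 : Led Lsl_et (LP (LK LD1_c2 LD2_c55 LD3_c9)) = (LP (LK LD1_c5 LD2_c57 LD3_c40)) :=
  Lre_e IH (LK LD1_c2 LD2_c55 LD3_c9) (LK LD1_c5 LD2_c57 LD3_c40) Lrfl Lrfl
theorem f426940 : Led Lsl_af (LP (LK LD1_c5 LD2_c57 LD3_c58)) = (LP (LK LD1_c5 LD2_c57 LD3_c40)) :=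
  Lgr Lrot50 (Lpr_et (f72526 IH) (Lpr_at (K41.f426930 IH) (Lpr_et (f137611 IH) (Lpn (LP (LK LD1_c5 LD2_c57 LD3_c40))))))
theorem f748481 : Led Lsl_gt v11843 = (LP (LK LD1_c5 LD2_c57 LD3_c58)) :=
  Lgr Lrot46 (Lpr_gf (f748479 IH) (Lpe (f748476 IH) (Lpe (f426940 IH) (Lpn (LP (LK LD1_c5 LD2_c57 LD3_c58))))))
def v11851 : LQ := Led Lsl_gf K42.v3911
theorem f686139 : Led Lsl_gf K42.v3911 = v11851 :=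
  Lrfl
theorem f138965 : Led Lsl_at (LP (LK LD1_c4 LD2_c58 LD3_c19)) = (LP (LK LD1_c2 LD2_c27 LD3_c11)) :=
  Lre_a IH (LK LD1_c4 LD2_c58 LD3_c19) (LK LD1_c2 LD2_c27 LD3_c11) Lrfl Lrfl
theorem f686140 : Led Lsl_ff (LP (LK LD1_c4 LD2_c58 LD3_c19)) = v11851 :=
  Lgr Lrot52 (Lpr_at (f138965 IH) (Lpr_gf (K45.f636060 IH) (Lpq (K45.f643197 IH) (Lpr_gf (f686139 IH) (Lpn v11851)))))
theorem f686144 : Led Lsl_ft (LP (LK LD1_c4 LD2_c58 LD3_c19)) = v11851 :=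
  Lgr Lrot48 (Lpr_ff (f686140 IH) (Lpn v11851))
theorem f427594 : Led Lsl_dt (LP (LK LD1_c9 LD2_c47 LD3_c22)) = (LP (LK LD1_c4 LD2_c58 LD3_c19)) :=
  Lre_d IH (LK LD1_c9 LD2_c47 LD3_c22) (LK LD1_c4 LD2_c58 LD3_c19) Lrfl Lrfl
theorem f643101 : Led Lsl_at (LP (LK LD1_c9 LD2_c47 LD3_c22)) = (LP (LK LD1_c4 LD2_c58 LD3_c44)) :=
  Lre_a IH (LK LD1_c9 LD2_c47 LD3_c22) (LK LD1_c4 LD2_c58 LD3_c44) Lrfl Lrfl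
theorem f669351 : Led Lsl_ff (LP (LK LD1_c9 LD2_c47 LD3_c22)) = (LP (LK LD1_c10 LD2_c19 LD3_c2)) :=
  Lgr Lrot52 (Lpr_at (f643101 IH) (Lpr_gf (K48.f669349 IH) (Lpe (K53.f636379 IH) (Lpn (LP (LK LD1_c10 LD2_c19 LD3_c2))))))
theorem f686146 : Led Lsl_df (LP (LK LD1_c10 LD2_c19 LD3_c2)) = v11851 :=
  Lgr Lrot78 (Lpe (f669351 IH) (Lpr_dt (f427594 IH) (Lpr_ft (f686144 IH) (Lpn v11851))))
def v14617 : LQ := Led Lsl_ct (LP (LK LD1_c5 LD2_c14 LD3_c49))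
theorem f724026 : Led Lsl_ct (LP (LK LD1_c5 LD2_c14 LD3_c49)) = v14617 :=
  Lrfl
theorem f748880 : Led Lsl_gt v14617 = v16342 :=
  Lgr Lrot150 (Lpe (f724026 IH) (Lpe (K53.f636379 IH) (Lpr_df (f686146 IH) (Lpe (f686139 IH) (Lpr_ct (f686125 IH) (Lpr_gt (f748481 IH) (Lpr_ct (f206025 IH) (Lpe (f426947 IH) (Lpr_cf (f748876 IH) (Lpn v16342))))))))))
theorem f749626 : Led Lsl_gf v14617 = v16464 :=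
  Lgr Lrot47 (Lpr_gt (f748880 IH) (Lpe (f748878 IH) (Lpr_ff (f749625 IH) (Lpn v16464))))
theorem f724028 : Led Lsl_ff K55.v14401 = v14617 :=
  Lgr Lrot23 (Lpe (K55.f722362 IH) (Lpr_ft (K53.f623743 IH) (Lpr_ct (f724026 IH) (Lpn v14617))))
def v15645 : LQ := Led Lsl_ft (LP (LK LD1_c5 LD2_c44 LD3_c26))
theorem f738458 : Led Lsl_ft (LP (LK LD1_c5 LD2_c44 LD3_c26)) = v15645 :=
  Lrfl
theorem f748798 : Led Lsl_df v14617 = v15645 :=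
  Lgr Lrot78 (Lpe (f724028 IH) (Lpq (K55.f748797 IH) (Lpe (K55.f738455 IH) (Lpr_ft (f738458 IH) (Lpn v15645)))))
theorem f748799 : Led Lsl_dt v14617 = v15645 :=
  Lgr Lrot42 (Lpr_df (f748798 IH) (Lpn v15645))
theorem f749608 : Led Lsl_et (LP (LK LD1_c6 LD2_c1 LD3_c14)) = v16464 :=
  Lgr Lrot87 (Lpr_ef (f749606 IH) (Lpn v16464))
theorem f642932 : Led Lsl_dt (LP (LK LD1_c11 LD2_c47 LD3_c5)) = (LP (LK LD1_c6 LD2_c1 LD3_c13)) :=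
  Lre_d IH (LK LD1_c11 LD2_c47 LD3_c5) (LK LD1_c6 LD2_c1 LD3_c13) Lrfl Lrfl
theorem f642933 : Led Lsl_bf (LP (LK LD1_c6 LD2_c3 LD3_c7)) = (LP (LK LD1_c11 LD2_c47 LD3_c5)) :=
  Lgr Lrot93 (Lpr_dt (K35.f23874 IH) (Lpr_bt (K55.f642930 IH) (Lpr_dt (K55.f642927 IH) (Lpn (LP (LK LD1_c11 LD2_c47 LD3_c5))))))
theorem f641191 : Led Lsl_bt (LP (LK LD1_c8 LD2_c12 LD3_c14)) = (LP (LK LD1_c15 LD2_c26 LD3_c16)) :=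
  Lre_b IH (LK LD1_c8 LD2_c12 LD3_c14) (LK LD1_c15 LD2_c26 LD3_c16) Lrfl Lrfl
theorem f642941 : Led Lsl_et (LP (LK LD1_c15 LD2_c26 LD3_c16)) = (LP (LK LD1_c11 LD2_c47 LD3_c5)) :=
  Lgr Lrot74 (Lpe (f641191 IH) (Lpr_ef (K49.f641195 IH) (Lpr_bf (f642933 IH) (Lpn (LP (LK LD1_c11 LD2_c47 LD3_c5))))))
theorem f642944 : Led Lsl_ef (LP (LK LD1_c15 LD2_c26 LD3_c16)) = (LP (LK LD1_c11 LD2_c47 LD3_c5)) :=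
  Lgr Lrot88 (Lpr_et (f642941 IH) (Lpn (LP (LK LD1_c11 LD2_c47 LD3_c5))))
theorem f720273 : Led Lsl_df (LP (LK LD1_c11 LD2_c43 LD3_c38)) = (LP (LK LD1_c11 LD2_c40 LD3_c60)) :=
  Lgr Lrot78 (Lpr_ft (K53.f75994 IH) (Lpr_dt (K53.f75982 IH) (Lpr_ft (f720269 IH) (Lpn (LP (LK LD1_c11 LD2_c40 LD3_c60))))))
theorem f720242 : Led Lsl_gt (LP (LK LD1_c11 LD2_c43 LD3_c38)) = (LP (LK LD1_c6 LD2_c1 LD3_c13)) :=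
  Lgr Lrot5 (Lpr_ft (K53.f75994 IH) (Lpq (K53.f719917 IH) (Lpe (K53.f645122 IH) (Lpe (K55.f641367 IH) (Lpn (LP (LK LD1_c6 LD2_c1 LD3_c13)))))))
theorem f427758 : Led Lsl_et (LP (LK LD1_c6 LD2_c7 LD3_c52)) = (LP (LK LD1_c11 LD2_c57 LD3_c58)) :=
  Lre_e IH (LK LD1_c6 LD2_c7 LD3_c52) (LK LD1_c11 LD2_c57 LD3_c58) Lrfl Lrfl
theorem f720275 : Led Lsl_gt (LP (LK LD1_c15 LD2_c26 LD3_c16)) = (LP (LK LD1_c11 LD2_c57 LD3_c58)) :=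
  Lgr Lrot131 (Lpr_ef (f642944 IH) (Lpr_dt (f642932 IH) (Lpe (f720242 IH) (Lpr_df (f720273 IH) (Lpe (K53.f75971 IH) (Lpr_ef (f75961 IH) (Lpr_dt (K5.f56283 IH) (Lpe (K43.f427741 IH) (Lpe (K40.f427752 IH) (Lpr_et (f427758 IH) (Lpn (LP (LK LD1_c11 LD2_c57 LD3_c58)))))))))))))
theorem f427769 : Led Lsl_ft (LP (LK LD1_c11 LD2_c58 LD3_c2)) = (LP (LK LD1_c6 LD2_c7 LD3_c57)) :=
  Lre_f IH (LK LD1_c11 LD2_c58 LD3_c2) (LK LD1_c6 LD2_c7 LD3_c57) Lrfl Lrfl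
theorem f720277 : Led Lsl_gf (LP (LK LD1_c15 LD2_c26 LD3_c16)) = (LP (LK LD1_c11 LD2_c58 LD3_c2)) :=
  Lgr Lrot47 (Lpr_gt (f720275 IH) (Lpe (K40.f562507 IH) (Lpe (f427769 IH) (Lpn (LP (LK LD1_c11 LD2_c58 LD3_c2))))))
def v15649 : LQ := Led Lsl_ft (LP (LK LD1_c5 LD2_c44 LD3_c27))
theorem f738472 : Led Lsl_ft (LP (LK LD1_c5 LD2_c44 LD3_c27)) = v15649 :=
  Lrfl
theorem f427768 : Led Lsl_et (LP (LK LD1_c6 LD2_c7 LD3_c57)) = (LP (LK LD1_c3 LD2_c0 LD3_c11)) :=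
  Lre_e IH (LK LD1_c6 LD2_c7 LD3_c57) (LK LD1_c3 LD2_c0 LD3_c11) Lrfl Lrfl
theorem f738474 : Led Lsl_ef (LP (LK LD1_c11 LD2_c58 LD3_c2)) = v15649 :=
  Lgr Lrot21 (Lpr_ft (f427769 IH) (Lpr_et (f427768 IH) (Lpr_ft (f427767 IH) (Lpr_et (f427734 IH) (Lpr_ft (f738472 IH) (Lpn v15649))))))
theorem f383643 : Led Lsl_ft (LP (LK LD1_c5 LD2_c44 LD3_c28)) = (LP (LK LD1_c2 LD2_c48 LD3_c8)) :=
  Lre_f IH (LK LD1_c5 LD2_c44 LD3_c28) (LK LD1_c2 LD2_c48 LD3_c8) Lrfl Lrfl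
theorem f738473 : Led Lsl_df (LP (LK LD1_c5 LD2_c44 LD3_c28)) = v15649 :=
  Lgr Lrot78 (Lpr_ft (f383643 IH) (Lpr_dt (K55.f383755 IH) (Lpr_ft (f738472 IH) (Lpn v15649))))
def v15626 : LQ := Led Lsl_ft (LP (LK LD1_c5 LD2_c44 LD3_c1))
theorem f738360 : Led Lsl_ft (LP (LK LD1_c5 LD2_c44 LD3_c1)) = v15626 :=
  Lrfl
def v15624 : LQ := Led Lsl_gt (LP (LK LD1_c5 LD2_c44 LD3_c1))
theorem f738357 : Led Lsl_gt (LP (LK LD1_c5 LD2_c44 LD3_c1)) = v15624 :=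
  Lrfl
theorem f383726 : Led Lsl_ff (LP (LK LD1_c15 LD2_c49 LD3_c38)) = (LP (LK LD1_c11 LD2_c18 LD3_c52)) :=
  Lgr Lrot3 (Lpr_ft (K28.f383711 IH) (Lpn (LP (LK LD1_c11 LD2_c18 LD3_c52))))
theorem f311363 : Led Lsl_ff (LP (LK LD1_c8 LD2_c36 LD3_c15)) = (LP (LK LD1_c8 LD2_c25 LD3_c25)) :=
  Lgr Lrot19 (Lpr_dt (K17.f258338 IH) (Lpr_ft (K19.f311355 IH) (Lpr_dt (K19.f178366 IH) (Lpn (LP (LK LD1_c8 LD2_c25 LD3_c25))))))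
theorem f383733 : Led Lsl_bt (LP (LK LD1_c8 LD2_c36 LD3_c15)) = (LP (LK LD1_c11 LD2_c18 LD3_c52)) :=
  Lgr Lrot35 (Lpr_ff (f311363 IH) (Lpe (K28.f310059 IH) (Lpr_ff (f383726 IH) (Lpn (LP (LK LD1_c11 LD2_c18 LD3_c52))))))
theorem f304549 : Led Lsl_dt (LP (LK LD1_c4 LD2_c53 LD3_c29)) = (LP (LK LD1_c8 LD2_c34 LD3_c26)) :=
  Lgr Lrot27 (Lpe (K18.f166639 IH) (Lpr_gf (K18.f304541 IH) (Lpe (K12.f188812 IH) (Lpr_gf (K13.f232895 IH) (Lpe (K16.f232890 IH) (Lpr_gt (K16.f270759 IH) (Lpr_ct (K18.f300835 IH) (Lpe (K18.f300833 IH) (Lpr_ct (K18.f7987 IH) (Lpn (LP (LK LD1_c8 LD2_c34 LD3_c26))))))))))))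
theorem f304775 : Led Lsl_gf (LP (LK LD1_c8 LD2_c25 LD3_c28)) = (LP (LK LD1_c8 LD2_c34 LD3_c26)) :=
  Lgr Lrot143 (Lpr_dt (K27.f184316 IH) (Lpr_cf (K15.f184300 IH) (Lpe (K14.f169148 IH) (Lpe (K14.f255991 IH) (Lpr_df (K14.f216740 IH) (Lpe (K13.f232257 IH) (Lpe (K16.f232212 IH) (Lpr_gt (K19.f304773 IH) (Lpr_dt (f304549 IH) (Lpn (LP (LK LD1_c8 LD2_c34 LD3_c26))))))))))))
theorem f311365 : Led Lsl_at (LP (LK LD1_c8 LD2_c36 LD3_c15)) = (LP (LK LD1_c8 LD2_c25 LD3_c28)) :=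
  Lgr Lrot26 (Lpr_ff (f311363 IH) (Lpr_gt (K19.f310057 IH) (Lpe (f304775 IH) (Lpn (LP (LK LD1_c8 LD2_c25 LD3_c28))))))
theorem f311367 : Led Lsl_af (LP (LK LD1_c8 LD2_c36 LD3_c15)) = (LP (LK LD1_c8 LD2_c25 LD3_c28)) :=
  Lgr Lrot0 (Lpr_at (f311365 IH) (Lpn (LP (LK LD1_c8 LD2_c25 LD3_c28))))
theorem f383739 : Led Lsl_af (LP (LK LD1_c5 LD2_c44 LD3_c0)) = (LP (LK LD1_c2 LD2_c48 LD3_c7)) :=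
  Lgr Lrot36 (Lpr_bt (K27.f310088 IH) (Lpe (f311367 IH) (Lpr_bt (f383733 IH) (Lpr_at (K28.f383710 IH) (Lpr_bt (K49.f381535 IH) (Lpn (LP (LK LD1_c2 LD2_c48 LD3_c7))))))))
theorem f310105 : Led Lsl_et (LP (LK LD1_c5 LD2_c44 LD3_c0)) = (LP (LK LD1_c11 LD2_c18 LD3_c0)) :=
  Lre_e IH (LK LD1_c5 LD2_c44 LD3_c0) (LK LD1_c11 LD2_c18 LD3_c0) Lrfl Lrfl
theorem f381538 : Led Lsl_et (LP (LK LD1_c5 LD2_c44 LD3_c25)) = (LP (LK LD1_c2 LD2_c48 LD3_c7)) :=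
  Lre_e IH (LK LD1_c5 LD2_c44 LD3_c25) (LK LD1_c2 LD2_c48 LD3_c7) Lrfl Lrfl
theorem f383741 : Led Lsl_at (LP (LK LD1_c11 LD2_c18 LD3_c0)) = (LP (LK LD1_c5 LD2_c44 LD3_c25)) :=
  Lgr Lrot80 (Lpe (f310105 IH) (Lpr_af (f383739 IH) (Lpe (f381538 IH) (Lpn (LP (LK LD1_c5 LD2_c44 LD3_c25))))))
theorem f383745 : Led Lsl_ct (LP (LK LD1_c5 LD2_c44 LD3_c1)) = (LP (LK LD1_c11 LD2_c18 LD3_c0)) :=
  Lre_c IH (LK LD1_c5 LD2_c44 LD3_c1) (LK LD1_c11 LD2_c18 LD3_c0) Lrfl Lrfl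
theorem f383746 : Led Lsl_ct (LP (LK LD1_c5 LD2_c44 LD3_c25)) = (LP (LK LD1_c2 LD2_c48 LD3_c8)) :=
  Lre_c IH (LK LD1_c5 LD2_c44 LD3_c25) (LK LD1_c2 LD2_c48 LD3_c8) Lrfl Lrfl
theorem f383747 : Led Lsl_af (LP (LK LD1_c5 LD2_c44 LD3_c1)) = (LP (LK LD1_c2 LD2_c48 LD3_c8)) :=
  Lgr Lrot68 (Lpr_ct (f383745 IH) (Lpr_at (f383741 IH) (Lpr_ct (f383746 IH) (Lpn (LP (LK LD1_c2 LD2_c48 LD3_c8))))))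
theorem f738361 : Led Lsl_af (LP (LK LD1_c5 LD2_c44 LD3_c28)) = v15626 :=
  Lgr Lrot45 (Lpr_ft (f383643 IH) (Lpe (f383747 IH) (Lpr_ft (f738360 IH) (Lpn v15626))))
theorem f738364 : Led Lsl_gt v15624 = (LP (LK LD1_c5 LD2_c44 LD3_c28)) :=
  Lgr Lrot46 (Lpe (f738357 IH) (Lpr_ft (f738360 IH) (Lpe (f738361 IH) (Lpn (LP (LK LD1_c5 LD2_c44 LD3_c28))))))
theorem f749627 : v15645 = v15624 :=
  (Llr Lrot171 (Lpe (f748799 IH) (Lpr_gf (f749626 IH) (Lpe (f749608 IH) (Lpr_dt (K53.f75935 IH) (Lpe (K55.f641367 IH) (Lpe (f642932 IH) (Lpe (f642944 IH) (Lpr_gf (f720277 IH) (Lpr_ef (f738474 IH) (Lpe (f738473 IH) (Lpe (f738364 IH) (Lpn v15624))))))))))))).symm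
theorem f738460 : Led Lsl_ff (LP (LK LD1_c5 LD2_c44 LD3_c26)) = v15645 :=
  Lgr Lrot3 (Lpr_ft (f738458 IH) (Lpn v15645))
def v15625 : LQ := Led Lsl_gf (LP (LK LD1_c5 LD2_c44 LD3_c1))
theorem f738358 : Led Lsl_gf (LP (LK LD1_c5 LD2_c44 LD3_c1)) = v15625 :=
  Lrfl
theorem f738359 : Led Lsl_gt (LP (LK LD1_c5 LD2_c44 LD3_c28)) = v15625 :=
  Lgr Lrot5 (Lpr_ft (f383643 IH) (Lpe (f383747 IH) (Lpr_gf (f738358 IH) (Lpn v15625))))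
theorem f749628 : v15642 = v15625 :=
  (Llr Lrot26 (Lpe (f738446 IH) (Lpr_ff (f738460 IH) (Lpqs (f749627 IH) (Lpr_gt (f738364 IH) (Lpr_gt (f738359 IH) (Lpn v15625))))))).symm
theorem f752195 : Led Lsl_gt (LP (LK LD1_c9 LD2_c4 LD3_c45)) = (LP (LK LD1_c5 LD2_c44 LD3_c1)) :=
  Leop (Lpr_gf (f738358 IH) (Lpq (f749628 IH) (Lpqs (f752194 IH) (Lpn (LP (LK LD1_c9 LD2_c4 LD3_c45))))))
theorem seed_1063 : LEOK LG_g (LK LD1_c9 LD2_c4 LD3_c45) :=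
  Leoe_g (LK LD1_c9 LD2_c4 LD3_c45) (f752195 IH)
def v16873 : LQ := Led Lsl_ft (LP (LK LD1_c6 LD2_c8 LD3_c13))
theorem f752218 : Led Lsl_ft (LP (LK LD1_c6 LD2_c8 LD3_c13)) = v16873 :=
  Lrfl
theorem f752222 : Led Lsl_ff (LP (LK LD1_c6 LD2_c8 LD3_c13)) = v16873 :=
  Lgr Lrot3 (Lpr_ft (f752218 IH) (Lpn v16873))
def v15971 : LQ := Led Lsl_gf (LP (LK LD1_c5 LD2_c50 LD3_c44))
theorem f744471 : Led Lsl_gf (LP (LK LD1_c5 LD2_c50 LD3_c44)) = v15971 :=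
  Lrfl
theorem f752226 : Led Lsl_gf v15971 = v16873 :=
  Lgr Lrot47 (Lpe (f744471 IH) (Lpe (K16.f411173 IH) (Lpr_ff (f752222 IH) (Lpn v16873))))
theorem f506974 : Led Lsl_at (LP (LK LD1_c6 LD2_c2 LD3_c39)) = (LP (LK LD1_c9 LD2_c13 LD3_c37)) :=
  Lgr Lrot100 (Lpr_af (K35.f506972 IH) (Lpn (LP (LK LD1_c9 LD2_c13 LD3_c37))))
theorem f744472 : Led Lsl_ff (LP (LK LD1_c6 LD2_c2 LD3_c39)) = v15971 :=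
  Lgr Lrot52 (Lpr_at (f506974 IH) (Lpr_gf (K11.f420998 IH) (Lpr_gf (f744471 IH) (Lpn v15971))))
theorem f744474 : Led Lsl_ft (LP (LK LD1_c6 LD2_c2 LD3_c39)) = v15971 :=
  Lgr Lrot48 (Lpr_ff (f744472 IH) (Lpn v15971))
theorem f506964 : Led Lsl_bt (LP (LK LD1_c2 LD2_c57 LD3_c24)) = (LP (LK LD1_c6 LD2_c2 LD3_c36)) :=
  Lre_b IH (LK LD1_c2 LD2_c57 LD3_c24) (LK LD1_c6 LD2_c2 LD3_c36) Lrfl Lrfl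
theorem f615305 : Led Lsl_bf (LP (LK LD1_c6 LD2_c2 LD3_c39)) = (LP (LK LD1_c4 LD2_c35 LD3_c29)) :=
  Lgr Lrot96 (Lpr_et (K35.f443741 IH) (Lpr_bt (f506964 IH) (Lpr_et (K52.f615301 IH) (Lpn (LP (LK LD1_c4 LD2_c35 LD3_c29))))))
theorem f614697 : Led Lsl_at (LP (LK LD1_c6 LD2_c2 LD3_c36)) = (LP (LK LD1_c9 LD2_c11 LD3_c37)) :=
  Lgr Lrot100 (Lpr_af (K51.f614676 IH) (Lpn (LP (LK LD1_c9 LD2_c11 LD3_c37))))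
theorem f615311 : Led Lsl_at (LP (LK LD1_c9 LD2_c7 LD3_c16)) = (LP (LK LD1_c4 LD2_c35 LD3_c29)) :=
  Lgr Lrot80 (Lpr_ef (K45.f557982 IH) (Lpe (f614697 IH) (Lpr_ef (f615309 IH) (Lpn (LP (LK LD1_c4 LD2_c35 LD3_c29))))))
theorem f615321 : Led Lsl_ff (LP (LK LD1_c9 LD2_c7 LD3_c16)) = (LP (LK LD1_c4 LD2_c35 LD3_c30)) :=
  Lgr Lrot52 (Lpr_at (f615311 IH) (Lpe (K52.f160865 IH) (Lpe (K51.f445863 IH) (Lpn (LP (LK LD1_c4 LD2_c35 LD3_c30))))))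
theorem f615323 : Led Lsl_ft (LP (LK LD1_c9 LD2_c7 LD3_c16)) = (LP (LK LD1_c4 LD2_c35 LD3_c30)) :=
  Lgr Lrot48 (Lpr_ff (f615321 IH) (Lpn (LP (LK LD1_c4 LD2_c35 LD3_c30))))
theorem f442427 : Led Lsl_gt (LP (LK LD1_c4 LD2_c35 LD3_c32)) = (LP (LK LD1_c9 LD2_c7 LD3_c17)) :=
  Lre_g IH (LK LD1_c4 LD2_c35 LD3_c32) (LK LD1_c9 LD2_c7 LD3_c17) Lrfl Lrfl
theorem f615326 : Led Lsl_af (LP (LK LD1_c9 LD2_c7 LD3_c17)) = (LP (LK LD1_c4 LD2_c35 LD3_c30)) :=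
  Lgr Lrot31 (Lpe (f442427 IH) (Lpe (K45.f442429 IH) (Lpr_ft (f615323 IH) (Lpn (LP (LK LD1_c4 LD2_c35 LD3_c30))))))
theorem f615330 : Led Lsl_ft (LP (LK LD1_c9 LD2_c7 LD3_c17)) = (LP (LK LD1_c4 LD2_c35 LD3_c29)) :=
  Lgr Lrot101 (Lpr_af (f615326 IH) (Lpe (f615323 IH) (Lpr_af (f615303 IH) (Lpn (LP (LK LD1_c4 LD2_c35 LD3_c29))))))
theorem f744475 : Led Lsl_bf (LP (LK LD1_c9 LD2_c7 LD3_c17)) = v15971 :=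
  Lgr Lrot61 (Lpr_ft (f615330 IH) (Lpe (f615305 IH) (Lpr_ft (f744474 IH) (Lpn v15971))))
theorem f163596 : Led Lsl_bt (LP (LK LD1_c2 LD2_c14 LD3_c25)) = (LP (LK LD1_c1 LD2_c4 LD3_c19)) :=
  Lre_b IH (LK LD1_c2 LD2_c14 LD3_c25) (LK LD1_c1 LD2_c4 LD3_c19) Lrfl Lrfl
def v7264 : LQ := Led Lsl_gf (LP (LK LD1_c3 LD2_c43 LD3_c26))
theorem f664002 : Led Lsl_gf (LP (LK LD1_c3 LD2_c43 LD3_c26)) = v7264 :=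
  Lrfl
theorem f744476 : Led Lsl_cf v7264 = v15971 :=
  Lgr Lrot160 (Lpe (f664002 IH) (Lpe (K24.f206508 IH) (Lpr_bt (f163596 IH) (Lpr_gt (K49.f494346 IH) (Lpqs (K49.f535846 IH) (Lpe (K49.f491571 IH) (Lpr_gt (K29.f452351 IH) (Lpe (K42.f452348 IH) (Lpr_bt (K45.f82220 IH) (Lpr_gt (f442427 IH) (Lpr_bf (f744475 IH) (Lpn v15971))))))))))))
theorem f164409 : Led Lsl_gt (LP (LK LD1_c10 LD2_c18 LD3_c32)) = (LP (LK LD1_c5 LD2_c14 LD3_c28)) :=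
  Lre_g IH (LK LD1_c10 LD2_c18 LD3_c32) (LK LD1_c5 LD2_c14 LD3_c28) Lrfl Lrfl
theorem f268216 : Led Lsl_ft (LP (LK LD1_c3 LD2_c0 LD3_c20)) = (LP (LK LD1_c6 LD2_c8 LD3_c14)) :=
  Lre_f IH (LK LD1_c3 LD2_c0 LD3_c20) (LK LD1_c6 LD2_c8 LD3_c14) Lrfl Lrfl
theorem f752224 : Led Lsl_dt (LP (LK LD1_c6 LD2_c8 LD3_c14)) = v16873 :=
  Lgr Lrot60 (Lpe (f268216 IH) (Lpe (K16.f181157 IH) (Lpr_ff (f752222 IH) (Lpn v16873))))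
theorem f411159 : Led Lsl_ft (LP (LK LD1_c6 LD2_c8 LD3_c14)) = (LP (LK LD1_c3 LD2_c0 LD3_c20)) :=
  Lre_f IH (LK LD1_c6 LD2_c8 LD3_c14) (LK LD1_c3 LD2_c0 LD3_c20) Lrfl Lrfl
theorem f198669 : Led Lsl_gt (LP (LK LD1_c8 LD2_c12 LD3_c3)) = (LP (LK LD1_c4 LD2_c5 LD3_c37)) :=
  Lre_g IH (LK LD1_c8 LD2_c12 LD3_c3) (LK LD1_c4 LD2_c5 LD3_c37) Lrfl Lrfl
theorem f411163 : Led Lsl_gt (LP (LK LD1_c6 LD2_c8 LD3_c14)) = (LP (LK LD1_c8 LD2_c12 LD3_c3)) :=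
  Lgr Lrot5 (Lpr_ft (f411159 IH) (Lpr_at (K16.f411155 IH) (Lpe (f198669 IH) (Lpn (LP (LK LD1_c8 LD2_c12 LD3_c3))))))
theorem f752228 : Led Lsl_cf (LP (LK LD1_c10 LD2_c18 LD3_c32)) = (LP (LK LD1_c8 LD2_c12 LD3_c3)) :=
  Lgr Lrot169 (Lpr_gt (f164409 IH) (Lpr_ct (f164406 IH) (Lpe (K38.f164389 IH) (Lpr_cf (K24.f206503 IH) (Lpr_gf (f664002 IH) (Lpr_cf (f744476 IH) (Lpr_gf (f752226 IH) (Lpe (f752224 IH) (Lpr_gt (f411163 IH) (Lpn (LP (LK LD1_c8 LD2_c12 LD3_c3))))))))))))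
theorem f752229 : Led Lsl_ct (LP (LK LD1_c8 LD2_c12 LD3_c3)) = (LP (LK LD1_c10 LD2_c18 LD3_c32)) :=
  Leop (Lpr_cf (f752228 IH) (Lpn (LP (LK LD1_c8 LD2_c12 LD3_c3))))
theorem seed_1064 : LEOK LG_c (LK LD1_c8 LD2_c12 LD3_c3) :=
  Leoe_c (LK LD1_c8 LD2_c12 LD3_c3) (f752229 IH)
theorem f210570 : Led Lsl_et (LP (LK LD1_c6 LD2_c25 LD3_c27)) = (LP (LK LD1_c11 LD2_c58 LD3_c21)) :=
  Lgr Lrot87 (Lpr_ef (K55.f210566 IH) (Lpn (LP (LK LD1_c11 LD2_c58 LD3_c21))))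
theorem f741396 : Led Lsl_ff (LP (LK LD1_c15 LD2_c26 LD3_c9)) = (LP (LK LD1_c11 LD2_c58 LD3_c21)) :=
  Lgr Lrot72 (Lpr_et (K50.f698643 IH) (Lpe (K55.f741369 IH) (Lpe (K55.f741339 IH) (Lpr_ft (K55.f741395 IH) (Lpr_et (f210570 IH) (Lpn (LP (LK LD1_c11 LD2_c58 LD3_c21))))))))
theorem f210568 : Led Lsl_dt (LP (LK LD1_c6 LD2_c8 LD3_c12)) = (LP (LK LD1_c11 LD2_c58 LD3_c21)) :=
  Lre_d IH (LK LD1_c6 LD2_c8 LD3_c12) (LK LD1_c11 LD2_c58 LD3_c21) Lrfl Lrfl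
theorem f741398 : Led Lsl_ft (LP (LK LD1_c8 LD2_c12 LD3_c2)) = (LP (LK LD1_c6 LD2_c8 LD3_c12)) :=
  Lgr Lrot54 (Lpe (K50.f204843 IH) (Lpr_ff (f741396 IH) (Lpe (f210568 IH) (Lpn (LP (LK LD1_c6 LD2_c8 LD3_c12))))))
theorem f411160 : Led Lsl_ft (LP (LK LD1_c4 LD2_c5 LD3_c37)) = (LP (LK LD1_c8 LD2_c12 LD3_c4)) :=
  Lre_f IH (LK LD1_c4 LD2_c5 LD3_c37) (LK LD1_c8 LD2_c12 LD3_c4) Lrfl Lrfl
theorem f411161 : Led Lsl_af (LP (LK LD1_c6 LD2_c8 LD3_c14)) = (LP (LK LD1_c8 LD2_c12 LD3_c4)) :=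
  Lgr Lrot45 (Lpr_ft (f411159 IH) (Lpr_at (K16.f411155 IH) (Lpr_ft (f411160 IH) (Lpn (LP (LK LD1_c8 LD2_c12 LD3_c4))))))
theorem f411167 : Led Lsl_gf (LP (LK LD1_c6 LD2_c8 LD3_c14)) = (LP (LK LD1_c8 LD2_c12 LD3_c2)) :=
  Lgr Lrot76 (Lpr_af (f411161 IH) (Lpe (f411160 IH) (Lpr_gt (K50.f185108 IH) (Lpn (LP (LK LD1_c8 LD2_c12 LD3_c2))))))
theorem f741402 : Led Lsl_af (LP (LK LD1_c8 LD2_c12 LD3_c3)) = (LP (LK LD1_c6 LD2_c8 LD3_c12)) :=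
  Lgr Lrot31 (Lpe (f411163 IH) (Lpr_gf (f411167 IH) (Lpr_ft (f741398 IH) (Lpn (LP (LK LD1_c6 LD2_c8 LD3_c12))))))
def v16872 : LQ := Led Lsl_ct (LP (LK LD1_c6 LD2_c8 LD3_c12))
theorem f752216 : Led Lsl_ct (LP (LK LD1_c6 LD2_c8 LD3_c12)) = v16872 :=
  Lrfl
theorem f752217 : Led Lsl_cf (LP (LK LD1_c6 LD2_c8 LD3_c12)) = v16872 :=
  Lgr Lrot11 (Lpr_ct (f752216 IH) (Lpn v16872))
theorem f752230 : Led Lsl_at (LP (LK LD1_c10 LD2_c18 LD3_c32)) = v16872 :=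
  Lgr Lrot107 (Lpr_cf (f752228 IH) (Lpr_af (f741402 IH) (Lpr_cf (f752217 IH) (Lpn v16872))))
theorem f741404 : Led Lsl_at (LP (LK LD1_c8 LD2_c12 LD3_c3)) = (LP (LK LD1_c6 LD2_c8 LD3_c12)) :=
  Lgr Lrot100 (Lpr_af (f741402 IH) (Lpn (LP (LK LD1_c6 LD2_c8 LD3_c12))))
theorem f411170 : Led Lsl_ft (LP (LK LD1_c8 LD2_c12 LD3_c4)) = (LP (LK LD1_c4 LD2_c5 LD3_c37)) :=
  Lre_f IH (LK LD1_c8 LD2_c12 LD3_c4) (LK LD1_c4 LD2_c5 LD3_c37) Lrfl Lrfl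
theorem f411175 : Led Lsl_gf (LP (LK LD1_c6 LD2_c8 LD3_c12)) = (LP (LK LD1_c8 LD2_c12 LD3_c4)) :=
  Lgr Lrot47 (Lpr_gt (K55.f181158 IH) (Lpr_af (K16.f411157 IH) (Lpe (f411170 IH) (Lpn (LP (LK LD1_c8 LD2_c12 LD3_c4))))))
theorem f411165 : Led Lsl_at (LP (LK LD1_c6 LD2_c8 LD3_c14)) = (LP (LK LD1_c8 LD2_c12 LD3_c4)) :=
  Lgr Lrot100 (Lpr_af (f411161 IH) (Lpn (LP (LK LD1_c8 LD2_c12 LD3_c4))))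
theorem f411171 : Led Lsl_gt (LP (LK LD1_c6 LD2_c8 LD3_c11)) = (LP (LK LD1_c8 LD2_c12 LD3_c4)) :=
  Lgr Lrot46 (Lpe (f181162 IH) (Lpr_ft (f268216 IH) (Lpr_at (f411165 IH) (Lpn (LP (LK LD1_c8 LD2_c12 LD3_c4))))))
theorem f741406 : Led Lsl_ff (LP (LK LD1_c8 LD2_c12 LD3_c3)) = (LP (LK LD1_c6 LD2_c8 LD3_c11)) :=
  Lgr Lrot52 (Lpr_at (f741404 IH) (Lpr_gf (f411175 IH) (Lpe (f411171 IH) (Lpn (LP (LK LD1_c6 LD2_c8 LD3_c11))))))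
theorem f751646 : Led Lsl_ct v16794 = (LP (LK LD1_c6 LD2_c8 LD3_c11)) :=
  Lgr Lrot59 (Lpr_cf (f751600 IH) (Lpn (LP (LK LD1_c6 LD2_c8 LD3_c11))))
theorem f752233 : Led Lsl_ft (LP (LK LD1_c10 LD2_c18 LD3_c32)) = v16794 :=
  Lgr Lrot4 (Lpr_cf (f752228 IH) (Lpr_ff (f741406 IH) (Lpe (f751646 IH) (Lpn v16794))))
def v14588 : LQ := Led Lsl_gt (LP (LK LD1_c5 LD2_c14 LD3_c28))
theorem f723925 : Led Lsl_gt (LP (LK LD1_c5 LD2_c14 LD3_c28)) = v14588 :=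
  Lrfl
theorem f752235 : Led Lsl_af v14588 = v16794 :=
  Lgr Lrot31 (Lpe (f723925 IH) (Lpe (f164409 IH) (Lpr_ft (f752233 IH) (Lpn v16794))))
theorem f741400 : Led Lsl_ff (LP (LK LD1_c8 LD2_c12 LD3_c2)) = (LP (LK LD1_c6 LD2_c8 LD3_c12)) :=
  Lgr Lrot3 (Lpr_ft (f741398 IH) (Lpn (LP (LK LD1_c6 LD2_c8 LD3_c12))))
theorem f741408 : Led Lsl_at (LP (LK LD1_c8 LD2_c12 LD3_c2)) = (LP (LK LD1_c6 LD2_c8 LD3_c11)) :=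
  Lgr Lrot66 (Lpr_ff (f741400 IH) (Lpe (f741404 IH) (Lpr_ff (f741406 IH) (Lpn (LP (LK LD1_c6 LD2_c8 LD3_c11))))))
theorem f752237 : Led Lsl_ct v14588 = (LP (LK LD1_c8 LD2_c12 LD3_c2)) :=
  Lgr Lrot111 (Lpr_af (f752235 IH) (Lpr_cf (f751600 IH) (Lpe (f741408 IH) (Lpn (LP (LK LD1_c8 LD2_c12 LD3_c2))))))
theorem f752239 : Led Lsl_ff v14588 = v16872 :=
  Lgr Lrot23 (Lpr_ct (f752237 IH) (Lpr_ft (f741398 IH) (Lpr_ct (f752216 IH) (Lpn v16872))))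
theorem f752236 : Led Lsl_at v14588 = v16794 :=
  Lgr Lrot100 (Lpr_af (f752235 IH) (Lpn v16794))
theorem f177434 : Led Lsl_gt (LP (LK LD1_c11 LD2_c56 LD3_c44)) = (LP (LK LD1_c6 LD2_c6 LD3_c52)) :=
  Lre_g IH (LK LD1_c11 LD2_c56 LD3_c44) (LK LD1_c6 LD2_c6 LD3_c52) Lrfl Lrfl
theorem f752241 : (LP (LK LD1_c11 LD2_c56 LD3_c44)) = v16872 :=
  (Llr Lrot47 (Lpr_gt (f177434 IH) (Lpr_gt (f751594 IH) (Lpe (f752236 IH) (Lpr_ff (f752239 IH) (Lpn v16872)))))).symm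
theorem f752242 : Led Lsl_at (LP (LK LD1_c10 LD2_c18 LD3_c32)) = (LP (LK LD1_c11 LD2_c56 LD3_c44)) :=
  Leop (Lpqs (f752241 IH) (Lpe (f752230 IH) (Lpn (LP (LK LD1_c10 LD2_c18 LD3_c32)))))
theorem seed_1065 : LEOK LG_a (LK LD1_c10 LD2_c18 LD3_c32) :=
  Leoe_a (LK LD1_c10 LD2_c18 LD3_c32) (f752242 IH)
def v16871 : LQ := Led Lsl_bt (LP (LK LD1_c6 LD2_c8 LD3_c12))
theorem f752214 : Led Lsl_bt (LP (LK LD1_c6 LD2_c8 LD3_c12)) = v16871 :=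
  Lrfl
theorem f723930 : Led Lsl_gf (LP (LK LD1_c11 LD2_c56 LD3_c44)) = v14589 :=
  Lgr Lrot47 (Lpr_gt (f177434 IH) (Lpe (f622509 IH) (Lpr_ff (f723928 IH) (Lpn v14589))))
theorem f161300 : Led Lsl_gt (LP (LK LD1_c11 LD2_c40 LD3_c23)) = (LP (LK LD1_c5 LD2_c57 LD3_c43)) :=
  Lre_g IH (LK LD1_c11 LD2_c40 LD3_c23) (LK LD1_c5 LD2_c57 LD3_c43) Lrfl Lrfl
theorem f752247 : v16871 = (LP (LK LD1_c11 LD2_c40 LD3_c23)) :=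
  (Llr Lrot130 (Lpe (f752214 IH) (Lpr_ct (f752216 IH) (Lpq (f752241 IH) (Lpr_gf (f723930 IH) (Lpe (f723929 IH) (Lpr_bt (K54.f164367 IH) (Lpe (K50.f164648 IH) (Lpe (K53.f164650 IH) (Lpr_ct (K55.f722361 IH) (Lpr_gf (K55.f748502 IH) (Lpe (K55.f748499 IH) (Lpe (f161300 IH) (Lpn (LP (LK LD1_c11 LD2_c40 LD3_c23)))))))))))))))).symm
theorem f752215 : Led Lsl_bf (LP (LK LD1_c6 LD2_c8 LD3_c12)) = v16871 :=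
  Lgr Lrot24 (Lpr_bt (f752214 IH) (Lpn v16871))
theorem f752248 : Led Lsl_bt (LP (LK LD1_c11 LD2_c40 LD3_c23)) = (LP (LK LD1_c6 LD2_c8 LD3_c12)) :=
  Leop (Lpr_bf (f752215 IH) (Lpqs (f752247 IH) (Lpn (LP (LK LD1_c11 LD2_c40 LD3_c23)))))
theorem seed_1066 : LEOK LG_b (LK LD1_c11 LD2_c40 LD3_c23) :=
  Leoe_b (LK LD1_c11 LD2_c40 LD3_c23) (f752248 IH)
theorem f752238 : Led Lsl_cf v14588 = (LP (LK LD1_c8 LD2_c12 LD3_c2)) :=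
  Lgr Lrot11 (Lpr_ct (f752237 IH) (Lpn (LP (LK LD1_c8 LD2_c12 LD3_c2))))
theorem f428121 : Led Lsl_ft (LP (LK LD1_c5 LD2_c57 LD3_c61)) = (LP (LK LD1_c11 LD2_c40 LD3_c45)) :=
  Lre_f IH (LK LD1_c5 LD2_c57 LD3_c61) (LK LD1_c11 LD2_c40 LD3_c45) Lrfl Lrfl
theorem f748511 : Led Lsl_at (LP (LK LD1_c11 LD2_c40 LD3_c45)) = K55.v16330 :=
  Lgr Lrot66 (Lpe (f428121 IH) (Lpr_af (f426172 IH) (Lpr_ff (f748508 IH) (Lpn K55.v16330))))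
theorem f539718 : Led Lsl_gt (LP (LK LD1_c5 LD2_c57 LD3_c61)) = (LP (LK LD1_c11 LD2_c40 LD3_c43)) :=
  Lre_g IH (LK LD1_c5 LD2_c57 LD3_c61) (LK LD1_c11 LD2_c40 LD3_c43) Lrfl Lrfl
theorem f748515 : Led Lsl_gt (LP (LK LD1_c11 LD2_c40 LD3_c43)) = K55.v16330 :=
  Lgr Lrot46 (Lpe (f539718 IH) (Lpr_ft (f428121 IH) (Lpr_at (f748511 IH) (Lpn K55.v16330))))
theorem f752250 : Led Lsl_bf (LP (LK LD1_c11 LD2_c40 LD3_c43)) = (LP (LK LD1_c8 LD2_c12 LD3_c2)) :=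
  Lgr Lrot165 (Lpr_gt (f748515 IH) (Lpr_ct (f749607 IH) (Lpe (f749626 IH) (Lpe (f724026 IH) (Lpr_bt (K48.f164392 IH) (Lpr_gt (K35.f164387 IH) (Lpe (K38.f164388 IH) (Lpr_ct (f164396 IH) (Lpr_gt (f723925 IH) (Lpr_cf (f752238 IH) (Lpn (LP (LK LD1_c8 LD2_c12 LD3_c2)))))))))))))
theorem f752251 : Led Lsl_bt (LP (LK LD1_c8 LD2_c12 LD3_c2)) = (LP (LK LD1_c11 LD2_c40 LD3_c43)) :=
  Leop (Lpr_bf (f752250 IH) (Lpn (LP (LK LD1_c8 LD2_c12 LD3_c2))))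
theorem seed_1067 : LEOK LG_b (LK LD1_c8 LD2_c12 LD3_c2) :=
  Leoe_b (LK LD1_c8 LD2_c12 LD3_c2) (f752251 IH)
theorem f752254 : Led Lsl_ft (LP (LK LD1_c11 LD2_c40 LD3_c43)) = v16871 :=
  Lgr Lrot75 (Lpr_bf (f752250 IH) (Lpr_ff (f741400 IH) (Lpr_bf (f752215 IH) (Lpn v16871))))
theorem f748514 : Led Lsl_gf (LP (LK LD1_c11 LD2_c40 LD3_c44)) = K55.v16330 :=
  Lgr Lrot47 (Lpr_gt (K32.f428122 IH) (Lpr_af (f426172 IH) (Lpr_ff (f748508 IH) (Lpn K55.v16330))))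
theorem f752258 : Led Lsl_af (LP (LK LD1_c11 LD2_c40 LD3_c44)) = (LP (LK LD1_c11 LD2_c40 LD3_c23)) :=
  Lgr Lrot31 (Lpr_gf (f748514 IH) (Lpe (f748515 IH) (Lpr_ft (f752254 IH) (Lpqs (f752247 IH) (Lpn (LP (LK LD1_c11 LD2_c40 LD3_c23)))))))
theorem f752260 : Led Lsl_at (LP (LK LD1_c11 LD2_c40 LD3_c44)) = (LP (LK LD1_c11 LD2_c40 LD3_c23)) :=
  Lgr Lrot100 (Lpr_af (f752258 IH) (Lpn (LP (LK LD1_c11 LD2_c40 LD3_c23))))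
theorem f426181 : Led Lsl_gt (LP (LK LD1_c11 LD2_c40 LD3_c45)) = (LP (LK LD1_c11 LD2_c40 LD3_c23)) :=
  Lgr Lrot5 (Lpr_ft (K55.f426180 IH) (Lpr_at (K24.f426165 IH) (Lpe (f161300 IH) (Lpn (LP (LK LD1_c11 LD2_c40 LD3_c23))))))
theorem f752262 : Led Lsl_ff (LP (LK LD1_c11 LD2_c40 LD3_c44)) = (LP (LK LD1_c11 LD2_c40 LD3_c22)) :=
  Lgr Lrot52 (Lpr_at (f752260 IH) (Lpe (f426181 IH) (Lpe (K55.f748509 IH) (Lpn (LP (LK LD1_c11 LD2_c40 LD3_c22))))))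
theorem f622470 : Led Lsl_ft (LP (LK LD1_c18 LD2_c26 LD3_c22)) = (LP (LK LD1_c10 LD2_c7 LD3_c10)) :=
  Lre_f IH (LK LD1_c18 LD2_c26 LD3_c22) (LK LD1_c10 LD2_c7 LD3_c10) Lrfl Lrfl
theorem f752266 : Led Lsl_ct (LP (LK LD1_c11 LD2_c40 LD3_c44)) = (LP (LK LD1_c18 LD2_c26 LD3_c22)) :=
  Lgr Lrot40 (Lpr_ff (f752262 IH) (Lpr_cf (K55.f748800 IH) (Lpe (f622470 IH) (Lpn (LP (LK LD1_c18 LD2_c26 LD3_c22))))))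
theorem f161299 : Led Lsl_dt (LP (LK LD1_c2 LD2_c55 LD3_c10)) = (LP (LK LD1_c5 LD2_c57 LD3_c43)) :=
  Lre_d IH (LK LD1_c2 LD2_c55 LD3_c10) (LK LD1_c5 LD2_c57 LD3_c43) Lrfl Lrfl
theorem f748507 : Led Lsl_df (LP (LK LD1_c5 LD2_c57 LD3_c44)) = K55.v16330 :=
  Lgr Lrot78 (Lpr_ft (K24.f426129 IH) (Lpr_dt (f161299 IH) (Lpr_ft (K55.f748504 IH) (Lpn K55.v16330))))
theorem f426168 : Led Lsl_gf (LP (LK LD1_c5 LD2_c57 LD3_c60)) = (LP (LK LD1_c5 LD2_c57 LD3_c44)) :=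
  Lgr Lrot47 (Lpr_gt (f206031 IH) (Lpr_af (K24.f426148 IH) (Lpe (K24.f426129 IH) (Lpn (LP (LK LD1_c5 LD2_c57 LD3_c44))))))
def v16340 : LQ := Led Lsl_ct (LP (LK LD1_c5 LD2_c57 LD3_c60))
theorem f748859 : Led Lsl_ct (LP (LK LD1_c5 LD2_c57 LD3_c60)) = v16340 :=
  Lrfl
theorem f644311 : Led Lsl_bt (LP (LK LD1_c5 LD2_c57 LD3_c60)) = (LP (LK LD1_c4 LD2_c35 LD3_c30)) :=
  Lgr Lrot35 (Lpr_ff (f644309 IH) (Lpe (K45.f643355 IH) (Lpr_ff (f615321 IH) (Lpn (LP (LK LD1_c4 LD2_c35 LD3_c30))))))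
theorem f744720 : Led Lsl_cf (LP (LK LD1_c9 LD2_c7 LD3_c27)) = (LP (LK LD1_c11 LD2_c30 LD3_c16)) :=
  Lgr Lrot11 (Lpr_ct (K55.f744718 IH) (Lpn (LP (LK LD1_c11 LD2_c30 LD3_c16))))
theorem f22307 : Led Lsl_bt (LP (LK LD1_c5 LD2_c51 LD3_c29)) = (LP (LK LD1_c2 LD2_c51 LD3_c60)) :=
  Lre_b IH (LK LD1_c5 LD2_c51 LD3_c29) (LK LD1_c2 LD2_c51 LD3_c60) Lrfl Lrfl
theorem f699533 : Led Lsl_bf (LP (LK LD1_c5 LD2_c51 LD3_c4)) = (LP (LK LD1_c9 LD2_c47 LD3_c26)) :=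
  Lgr Lrot96 (Lpr_et (K53.f699528 IH) (Lpr_bt (K50.f699529 IH) (Lpr_et (K50.f149887 IH) (Lpn (LP (LK LD1_c9 LD2_c47 LD3_c26))))))
theorem f699535 : Led Lsl_bt (LP (LK LD1_c5 LD2_c51 LD3_c4)) = (LP (LK LD1_c9 LD2_c47 LD3_c26)) :=
  Lgr Lrot127 (Lpr_bf (f699533 IH) (Lpn (LP (LK LD1_c9 LD2_c47 LD3_c26))))
theorem f713125 : Led Lsl_ff (LP (LK LD1_c5 LD2_c51 LD3_c29)) = (LP (LK LD1_c9 LD2_c47 LD3_c26)) :=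
  Lgr Lrot25 (Lpr_bt (f22307 IH) (Lpr_ft (K53.f640705 IH) (Lpqs (K53.f713120 IH) (Lpr_bt (f699535 IH) (Lpn (LP (LK LD1_c9 LD2_c47 LD3_c26)))))))
theorem f713138 : Led Lsl_ft (LP (LK LD1_c5 LD2_c51 LD3_c29)) = (LP (LK LD1_c9 LD2_c47 LD3_c26)) :=
  Lgr Lrot48 (Lpr_ff (f713125 IH) (Lpn (LP (LK LD1_c9 LD2_c47 LD3_c26))))
theorem f99715 : Led Lsl_gt (LP (LK LD1_c8 LD2_c49 LD3_c1)) = (LP (LK LD1_c16 LD2_c29 LD3_c26)) :=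
  Lre_g IH (LK LD1_c8 LD2_c49 LD3_c1) (LK LD1_c16 LD2_c29 LD3_c26) Lrfl Lrfl
theorem f748151 : Led Lsl_at (LP (LK LD1_c9 LD2_c47 LD3_c26)) = (LP (LK LD1_c16 LD2_c29 LD3_c26)) :=
  Lgr Lrot26 (Lpe (f713138 IH) (Lpr_gt (K55.f744752 IH) (Lpqs (K55.f748143 IH) (Lpr_gt (f99715 IH) (Lpn (LP (LK LD1_c16 LD2_c29 LD3_c26)))))))
theorem f748155 : Led Lsl_bf (LP (LK LD1_c11 LD2_c30 LD3_c16)) = (LP (LK LD1_c16 LD2_c29 LD3_c26)) :=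
  Lgr Lrot81 (Lpr_at (K55.f640702 IH) (Lpr_bt (K55.f22362 IH) (Lpr_at (K53.f640700 IH) (Lpqs (K53.f713120 IH) (Lpr_bt (f699535 IH) (Lpr_at (f748151 IH) (Lpn (LP (LK LD1_c16 LD2_c29 LD3_c26)))))))))
theorem f748177 : Led Lsl_bt (LP (LK LD1_c11 LD2_c30 LD3_c16)) = (LP (LK LD1_c16 LD2_c29 LD3_c26)) :=
  Lgr Lrot127 (Lpr_bf (f748155 IH) (Lpn (LP (LK LD1_c16 LD2_c29 LD3_c26))))
def v16005 : LQ := Led Lsl_at (LP (LK LD1_c5 LD2_c51 LD3_c29))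
theorem f744754 : Led Lsl_at (LP (LK LD1_c5 LD2_c51 LD3_c29)) = v16005 :=
  Lrfl
theorem f744755 : Led Lsl_af (LP (LK LD1_c5 LD2_c51 LD3_c29)) = v16005 :=
  Lgr Lrot0 (Lpr_at (f744754 IH) (Lpn v16005))
theorem f748157 : Led Lsl_ff v16005 = (LP (LK LD1_c16 LD2_c29 LD3_c26)) :=
  Lgr Lrot30 (Lpe (f744755 IH) (Lpr_ft (f713138 IH) (Lpr_at (f748151 IH) (Lpn (LP (LK LD1_c16 LD2_c29 LD3_c26))))))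
def v16004 : LQ := Led Lsl_gf (LP (LK LD1_c5 LD2_c51 LD3_c29))
theorem f744753 : Led Lsl_gf (LP (LK LD1_c5 LD2_c51 LD3_c29)) = v16004 :=
  Lrfl
theorem f748159 : Led Lsl_gf v16004 = (LP (LK LD1_c16 LD2_c29 LD3_c26)) :=
  Lgr Lrot47 (Lpe (f744753 IH) (Lpr_af (f744755 IH) (Lpr_ff (f748157 IH) (Lpn (LP (LK LD1_c16 LD2_c29 LD3_c26))))))
theorem f138958 : Led Lsl_af (LP (LK LD1_c8 LD2_c49 LD3_c1)) = (LP (LK LD1_c4 LD2_c58 LD3_c23)) :=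
  Lgr Lrot0 (Lpr_at (K45.f138956 IH) (Lpn (LP (LK LD1_c4 LD2_c58 LD3_c23))))
theorem f138967 : Led Lsl_ft (LP (LK LD1_c9 LD2_c47 LD3_c29)) = (LP (LK LD1_c4 LD2_c58 LD3_c23)) :=
  Lre_f IH (LK LD1_c9 LD2_c47 LD3_c29) (LK LD1_c4 LD2_c58 LD3_c23) Lrfl Lrfl
theorem f748149 : (LP (LK LD1_c9 LD2_c47 LD3_c29)) = v16004 :=
  (Llr Lrot52 (Lpr_ft (f138967 IH) (Lpe (f138958 IH) (Lpq (K55.f748143 IH) (Lpe (K55.f744752 IH) (Lpr_gf (f744753 IH) (Lpn v16004))))))).symm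
theorem f642264 : Led Lsl_bt (LP (LK LD1_c4 LD2_c58 LD3_c45)) = (LP (LK LD1_c9 LD2_c47 LD3_c29)) :=
  Lre_b IH (LK LD1_c4 LD2_c58 LD3_c45) (LK LD1_c9 LD2_c47 LD3_c29) Lrfl Lrfl
theorem f642267 : Led Lsl_ct (LP (LK LD1_c4 LD2_c58 LD3_c45)) = (LP (LK LD1_c9 LD2_c47 LD3_c56)) :=
  Lre_c IH (LK LD1_c4 LD2_c58 LD3_c45) (LK LD1_c9 LD2_c47 LD3_c56) Lrfl Lrfl
theorem f748863 : Led Lsl_gt (LP (LK LD1_c9 LD2_c47 LD3_c56)) = v16340 :=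
  Lgr Lrot65 (Lpe (f642267 IH) (Lpr_bt (f642264 IH) (Lpqs (f748149 IH) (Lpr_gf (f748159 IH) (Lpe (f748177 IH) (Lpe (f744720 IH) (Lpe (K55.f103601 IH) (Lpe (K55.f435433 IH) (Lpe (K51.f445863 IH) (Lpe (f644311 IH) (Lpr_ct (f748859 IH) (Lpn v16340))))))))))))
theorem f642275 : Led Lsl_ft (LP (LK LD1_c9 LD2_c47 LD3_c56)) = (LP (LK LD1_c4 LD2_c58 LD3_c41)) :=
  Lre_f IH (LK LD1_c9 LD2_c47 LD3_c56) (LK LD1_c4 LD2_c58 LD3_c41) Lrfl Lrfl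
def v14104 : LQ := Led Lsl_et (LP (LK LD1_c4 LD2_c58 LD3_c18))
theorem f719015 : Led Lsl_et (LP (LK LD1_c4 LD2_c58 LD3_c18)) = v14104 :=
  Lrfl
theorem f719018 : Led Lsl_ef (LP (LK LD1_c4 LD2_c58 LD3_c18)) = v14104 :=
  Lgr Lrot88 (Lpr_et (f719015 IH) (Lpn v14104))
theorem f74520 : Led Lsl_at (LP (LK LD1_c4 LD2_c58 LD3_c18)) = (LP (LK LD1_c2 LD2_c27 LD3_c10)) :=
  Lre_a IH (LK LD1_c4 LD2_c58 LD3_c18) (LK LD1_c2 LD2_c27 LD3_c10) Lrfl Lrfl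
theorem f74385 : Led Lsl_et (LP (LK LD1_c2 LD2_c27 LD3_c10)) = (LP (LK LD1_c4 LD2_c58 LD3_c41)) :=
  Lre_e IH (LK LD1_c2 LD2_c27 LD3_c10) (LK LD1_c4 LD2_c58 LD3_c41) Lrfl Lrfl
theorem f719019 : Led Lsl_at (LP (LK LD1_c4 LD2_c58 LD3_c41)) = v14104 :=
  Lgr Lrot80 (Lpe (f74385 IH) (Lpe (f74520 IH) (Lpr_ef (f719018 IH) (Lpn v14104))))
theorem f748865 : Led Lsl_gf v14104 = v16340 :=
  Lgr Lrot76 (Lpe (f719019 IH) (Lpe (f642275 IH) (Lpr_gt (f748863 IH) (Lpn v16340))))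
theorem f719017 : Led Lsl_cf (LP (LK LD1_c4 LD2_c58 LD3_c19)) = v14104 :=
  Lgr Lrot39 (Lpr_et (K53.f139347 IH) (Lpr_ct (K6.f139158 IH) (Lpr_et (f719015 IH) (Lpn v14104))))
theorem f643098 : Led Lsl_ct (LP (LK LD1_c17 LD2_c57 LD3_c43)) = (LP (LK LD1_c9 LD2_c47 LD3_c22)) :=
  Lre_c IH (LK LD1_c17 LD2_c57 LD3_c43) (LK LD1_c9 LD2_c47 LD3_c22) Lrfl Lrfl
theorem f752274 : Led Lsl_gf (LP (LK LD1_c17 LD2_c57 LD3_c43)) = (LP (LK LD1_c18 LD2_c26 LD3_c22)) :=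
  Lgr Lrot104 (Lpr_ct (f643098 IH) (Lpe (K53.f139348 IH) (Lpr_cf (f719017 IH) (Lpr_gf (f748865 IH) (Lpe (f748859 IH) (Lpr_gf (f426168 IH) (Lpr_df (f748507 IH) (Lpe (f748514 IH) (Lpr_ct (f752266 IH) (Lpn (LP (LK LD1_c18 LD2_c26 LD3_c22))))))))))))
theorem f752275 : Led Lsl_gt (LP (LK LD1_c18 LD2_c26 LD3_c22)) = (LP (LK LD1_c17 LD2_c57 LD3_c43)) :=
  Leop (Lpr_gf (f752274 IH) (Lpn (LP (LK LD1_c18 LD2_c26 LD3_c22))))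
theorem seed_1068 : LEOK LG_g (LK LD1_c18 LD2_c26 LD3_c22) :=
  Leoe_g (LK LD1_c18 LD2_c26 LD3_c22) (f752275 IH)
def v16885 : LQ := Led Lsl_dt (LP (LK LD1_c6 LD2_c8 LD3_c19))
theorem f752317 : Led Lsl_dt (LP (LK LD1_c6 LD2_c8 LD3_c19)) = v16885 :=
  Lrfl
theorem f752318 : Led Lsl_df (LP (LK LD1_c6 LD2_c8 LD3_c19)) = v16885 :=
  Lgr Lrot38 (Lpr_dt (f752317 IH) (Lpn v16885))
theorem f8984 : Led Lsl_gt (LP (LK LD1_c3 LD2_c0 LD3_c23)) = (LP (LK LD1_c6 LD2_c8 LD3_c19)) :=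
  Lre_g IH (LK LD1_c3 LD2_c0 LD3_c23) (LK LD1_c6 LD2_c8 LD3_c19) Lrfl Lrfl
theorem f8988 : Led Lsl_et (LP (LK LD1_c2 LD2_c40 LD3_c0)) = (LP (LK LD1_c5 LD2_c27 LD3_c19)) :=
  Lre_e IH (LK LD1_c2 LD2_c40 LD3_c0) (LK LD1_c5 LD2_c27 LD3_c19) Lrfl Lrfl
theorem f8990 : Led Lsl_gt (LP (LK LD1_c10 LD2_c45 LD3_c47)) = (LP (LK LD1_c5 LD2_c27 LD3_c19)) :=
  Lre_g IH (LK LD1_c10 LD2_c45 LD3_c47) (LK LD1_c5 LD2_c27 LD3_c19) Lrfl Lrfl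
theorem f8991 : Led Lsl_et (LP (LK LD1_c19 LD2_c27 LD3_c52)) = (LP (LK LD1_c10 LD2_c45 LD3_c47)) :=
  Lre_e IH (LK LD1_c19 LD2_c27 LD3_c52) (LK LD1_c10 LD2_c45 LD3_c47) Lrfl Lrfl
theorem f277139 : Led Lsl_dt (LP (LK LD1_c5 LD2_c28 LD3_c43)) = (LP (LK LD1_c10 LD2_c48 LD3_c32)) :=
  Lre_d IH (LK LD1_c5 LD2_c28 LD3_c43) (LK LD1_c10 LD2_c48 LD3_c32) Lrfl Lrfl
theorem f277143 : Led Lsl_gt (LP (LK LD1_c19 LD2_c32 LD3_c41)) = (LP (LK LD1_c10 LD2_c48 LD3_c32)) :=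
  Lre_g IH (LK LD1_c19 LD2_c32 LD3_c41) (LK LD1_c10 LD2_c48 LD3_c32) Lrfl Lrfl
theorem f172984 : Led Lsl_et (LP (LK LD1_c2 LD2_c42 LD3_c59)) = (LP (LK LD1_c5 LD2_c33 LD3_c45)) :=
  Lre_e IH (LK LD1_c2 LD2_c42 LD3_c59) (LK LD1_c5 LD2_c33 LD3_c45) Lrfl Lrfl
theorem f277363 : Led Lsl_gt (LP (LK LD1_c5 LD2_c33 LD3_c45)) = (LP (LK LD1_c10 LD2_c45 LD3_c47)) :=
  Lre_g IH (LK LD1_c5 LD2_c33 LD3_c45) (LK LD1_c10 LD2_c45 LD3_c47) Lrfl Lrfl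
theorem f277364 : Led Lsl_df (LP (LK LD1_c19 LD2_c32 LD3_c41)) = (LP (LK LD1_c19 LD2_c27 LD3_c52)) :=
  Lgr Lrot170 (Lpr_gt (f277143 IH) (Lpe (f277139 IH) (Lpr_et (K21.f277116 IH) (Lpr_gt (K30.f267733 IH) (Lpr_dt (K30.f277345 IH) (Lpr_gt (K30.f175234 IH) (Lpe (K30.f172983 IH) (Lpr_et (f172984 IH) (Lpr_gt (f277363 IH) (Lpe (f8991 IH) (Lpn (LP (LK LD1_c19 LD2_c27 LD3_c52)))))))))))))
theorem f8909 : Led Lsl_at (LP (LK LD1_c6 LD2_c8 LD3_c21)) = (LP (LK LD1_c3 LD2_c0 LD3_c23)) :=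
  Lre_a IH (LK LD1_c6 LD2_c8 LD3_c21) (LK LD1_c3 LD2_c0 LD3_c23) Lrfl Lrfl
theorem f8910 : Led Lsl_ff (LP (LK LD1_c2 LD2_c39 LD3_c61)) = (LP (LK LD1_c3 LD2_c0 LD3_c23)) :=
  Lgr Lrot30 (Lpr_at (K30.f8852 IH) (Lpr_ft (K0.f8881 IH) (Lpr_at (f8909 IH) (Lpn (LP (LK LD1_c3 LD2_c0 LD3_c23))))))
theorem f446652 : Led Lsl_gf (LP (LK LD1_c5 LD2_c27 LD3_c14)) = (LP (LK LD1_c6 LD2_c8 LD3_c19)) :=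
  Lgr Lrot76 (Lpe (K30.f8852 IH) (Lpr_ff (f8910 IH) (Lpr_gt (f8984 IH) (Lpn (LP (LK LD1_c6 LD2_c8 LD3_c19))))))
theorem f8794 : Led Lsl_et (LP (LK LD1_c2 LD2_c39 LD3_c60)) = (LP (LK LD1_c1 LD2_c18 LD3_c0)) :=
  Lre_e IH (LK LD1_c2 LD2_c39 LD3_c60) (LK LD1_c1 LD2_c18 LD3_c0) Lrfl Lrfl
theorem f277165 : Led Lsl_et (LP (LK LD1_c2 LD2_c40 LD3_c38)) = (LP (LK LD1_c5 LD2_c28 LD3_c43)) :=
  Lre_e IH (LK LD1_c2 LD2_c40 LD3_c38) (LK LD1_c5 LD2_c28 LD3_c43) Lrfl Lrfl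
theorem f277141 : Led Lsl_gt (LP (LK LD1_c5 LD2_c28 LD3_c43)) = (LP (LK LD1_c10 LD2_c48 LD3_c30)) :=
  Lre_g IH (LK LD1_c5 LD2_c28 LD3_c43) (LK LD1_c10 LD2_c48 LD3_c30) Lrfl Lrfl
theorem f752319 : Led Lsl_ef (LP (LK LD1_c10 LD2_c48 LD3_c30)) = v16885 :=
  Lgr Lrot17 (Lpe (f277141 IH) (Lpe (f277165 IH) (Lpr_dt (K31.f172999 IH) (Lpe (K31.f390754 IH) (Lpe (K31.f390753 IH) (Lpr_gf (K31.f390744 IH) (Lpe (f8794 IH) (Lpr_dt (K0.f8862 IH) (Lpr_gf (f446652 IH) (Lpr_df (f752318 IH) (Lpn v16885)))))))))))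
theorem f277226 : Led Lsl_gf (LP (LK LD1_c19 LD2_c25 LD3_c10)) = (LP (LK LD1_c10 LD2_c48 LD3_c30)) :=
  Lgr Lrot76 (Lpe (K53.f267877 IH) (Lpr_ff (K53.f277220 IH) (Lpr_gt (f277141 IH) (Lpn (LP (LK LD1_c10 LD2_c48 LD3_c30))))))
theorem f267888 : Led Lsl_dt (LP (LK LD1_c19 LD2_c25 LD3_c10)) = (LP (LK LD1_c28 LD2_c48 LD3_c36)) :=
  Lre_d IH (LK LD1_c19 LD2_c25 LD3_c10) (LK LD1_c28 LD2_c48 LD3_c36) Lrfl Lrfl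
theorem f752320 : Led Lsl_gf (LP (LK LD1_c19 LD2_c32 LD3_c41)) = (LP (LK LD1_c28 LD2_c48 LD3_c36)) :=
  Lgr Lrot134 (Lpr_df (f277364 IH) (Lpr_et (f8991 IH) (Lpr_gt (f8990 IH) (Lpe (f8988 IH) (Lpr_dt (K0.f8935 IH) (Lpr_gt (f8984 IH) (Lpr_df (f752318 IH) (Lpe (f752319 IH) (Lpe (f277226 IH) (Lpr_dt (f267888 IH) (Lpn (LP (LK LD1_c28 LD2_c48 LD3_c36)))))))))))))
theorem f752321 : Led Lsl_gt (LP (LK LD1_c28 LD2_c48 LD3_c36)) = (LP (LK LD1_c19 LD2_c32 LD3_c41)) :=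
  Leop (Lpr_gf (f752320 IH) (Lpn (LP (LK LD1_c28 LD2_c48 LD3_c36))))
theorem seed_1069 : LEOK LG_g (LK LD1_c28 LD2_c48 LD3_c36) :=
  Leoe_g (LK LD1_c28 LD2_c48 LD3_c36) (f752321 IH)
def v16899 : LQ := Led Lsl_gf (LP (LK LD1_c6 LD2_c8 LD3_c27))
theorem f752367 : Led Lsl_gf (LP (LK LD1_c6 LD2_c8 LD3_c27)) = v16899 :=
  Lrfl
def v5118 : LQ := Led Lsl_ft (LP (LK LD1_c2 LD2_c57 LD3_c49))
theorem f646023 : Led Lsl_ft (LP (LK LD1_c2 LD2_c57 LD3_c49)) = v5118 :=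
  Lrfl
theorem f646027 : Led Lsl_ff (LP (LK LD1_c2 LD2_c57 LD3_c49)) = v5118 :=
  Lgr Lrot3 (Lpr_ft (f646023 IH) (Lpn v5118))
theorem f645833 : Led Lsl_ft (LP (LK LD1_c6 LD2_c3 LD3_c23)) = (LP (LK LD1_c10 LD2_c17 LD3_c50)) :=
  Lgr Lrot54 (Lpe (K50.f180292 IH) (Lpr_ff (K53.f645829 IH) (Lpe (K53.f186516 IH) (Lpn (LP (LK LD1_c10 LD2_c17 LD3_c50))))))
theorem f646030 : Led Lsl_et (LP (LK LD1_c5 LD2_c6 LD3_c61)) = v5118 :=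
  Lgr Lrot69 (Lpe (K46.f645407 IH) (Lpe (K53.f186515 IH) (Lpe (f645833 IH) (Lpe (K50.f180345 IH) (Lpr_ff (f646027 IH) (Lpn v5118))))))
theorem f646024 : Led Lsl_af K49.v4951 = v5118 :=
  Lgr Lrot45 (Lpr_ft (K49.f646019 IH) (Lpe (K49.f646013 IH) (Lpr_ft (f646023 IH) (Lpn v5118))))
theorem f646033 : Led Lsl_ef K46.v4594 = K49.v4951 :=
  Lgr Lrot20 (Lpr_at (K55.f645406 IH) (Lpr_et (f646030 IH) (Lpe (f646024 IH) (Lpn K49.v4951))))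
theorem f646034 : Led Lsl_et K46.v4594 = K49.v4951 :=
  Lgr Lrot87 (Lpr_ef (f646033 IH) (Lpn K49.v4951))
theorem f22156 : Led Lsl_df (LP (LK LD1_c5 LD2_c50 LD3_c47)) = (LP (LK LD1_c5 LD2_c6 LD3_c38)) :=
  Lgr Lrot78 (Lpr_ft (K50.f22154 IH) (Lpr_dt (K11.f22145 IH) (Lpr_ft (K50.f22155 IH) (Lpn (LP (LK LD1_c5 LD2_c6 LD3_c38))))))
theorem f387372 : Led Lsl_ef (LP (LK LD1_c9 LD2_c6 LD3_c11)) = (LP (LK LD1_c5 LD2_c50 LD3_c47)) :=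
  Lgr Lrot73 (Lpr_dt (K53.f242704 IH) (Lpr_et (K17.f289233 IH) (Lpe (K54.f387347 IH) (Lpr_et (K54.f387363 IH) (Lpe (f22156 IH) (Lpn (LP (LK LD1_c5 LD2_c50 LD3_c47))))))))
theorem f22173 : Led Lsl_dt (LP (LK LD1_c5 LD2_c50 LD3_c47)) = (LP (LK LD1_c5 LD2_c6 LD3_c38)) :=
  Lgr Lrot42 (Lpr_df (f22156 IH) (Lpn (LP (LK LD1_c5 LD2_c6 LD3_c38))))
theorem f302687 : Led Lsl_at (LP (LK LD1_c5 LD2_c13 LD3_c32)) = (LP (LK LD1_c5 LD2_c6 LD3_c38)) :=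
  Lgr Lrot100 (Lpr_af (K50.f302683 IH) (Lpn (LP (LK LD1_c5 LD2_c6 LD3_c38))))
theorem f20508 : Led Lsl_ft (LP (LK LD1_c2 LD2_c33 LD3_c37)) = (LP (LK LD1_c5 LD2_c13 LD3_c32)) :=
  Lre_f IH (LK LD1_c2 LD2_c33 LD3_c37) (LK LD1_c5 LD2_c13 LD3_c32) Lrfl Lrfl
theorem f302717 : Led Lsl_gt (LP (LK LD1_c5 LD2_c13 LD3_c30)) = (LP (LK LD1_c5 LD2_c6 LD3_c38)) :=
  Lgr Lrot46 (Lpe (K53.f20509 IH) (Lpr_ft (f20508 IH) (Lpr_at (f302687 IH) (Lpn (LP (LK LD1_c5 LD2_c6 LD3_c38))))))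
theorem f20511 : Led Lsl_dt (LP (LK LD1_c10 LD2_c17 LD3_c17)) = (LP (LK LD1_c5 LD2_c13 LD3_c30)) :=
  Lre_d IH (LK LD1_c10 LD2_c17 LD3_c17) (LK LD1_c5 LD2_c13 LD3_c30) Lrfl Lrfl
theorem f507808 : Led Lsl_gt (LP (LK LD1_c6 LD2_c2 LD3_c43)) = (LP (LK LD1_c10 LD2_c17 LD3_c17)) :=
  Lgr Lrot137 (Lpe (K55.f387380 IH) (Lpr_dt (K35.f204309 IH) (Lpe (K48.f419102 IH) (Lpe (K50.f507800 IH) (Lpr_et (K50.f507802 IH) (Lpe (K17.f289268 IH) (Lpr_ef (f387372 IH) (Lpr_dt (f22173 IH) (Lpe (f302717 IH) (Lpe (f20511 IH) (Lpn (LP (LK LD1_c10 LD2_c17 LD3_c17)))))))))))))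
theorem f20510 : Led Lsl_dt (LP (LK LD1_c5 LD2_c13 LD3_c30)) = (LP (LK LD1_c10 LD2_c17 LD3_c17)) :=
  Lre_d IH (LK LD1_c5 LD2_c13 LD3_c30) (LK LD1_c10 LD2_c17 LD3_c17) Lrfl Lrfl
theorem f186179 : Led Lsl_et (LP (LK LD1_c5 LD2_c13 LD3_c30)) = (LP (LK LD1_c10 LD2_c17 LD3_c18)) :=
  Lre_e IH (LK LD1_c5 LD2_c13 LD3_c30) (LK LD1_c10 LD2_c17 LD3_c18) Lrfl Lrfl
theorem f442468 : Led Lsl_dt (LP (LK LD1_c4 LD2_c35 LD3_c45)) = (LP (LK LD1_c2 LD2_c15 LD3_c2)) :=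
  Lre_d IH (LK LD1_c4 LD2_c35 LD3_c45) (LK LD1_c2 LD2_c15 LD3_c2) Lrfl Lrfl
theorem f35105 : Led Lsl_ct (LP (LK LD1_c2 LD2_c35 LD3_c6)) = (LP (LK LD1_c5 LD2_c16 LD3_c48)) :=
  Lre_c IH (LK LD1_c2 LD2_c35 LD3_c6) (LK LD1_c5 LD2_c16 LD3_c48) Lrfl Lrfl
theorem f35106 : Led Lsl_ff (LP (LK LD1_c9 LD2_c7 LD3_c48)) = (LP (LK LD1_c5 LD2_c16 LD3_c48)) :=
  Lgr Lrot23 (Lpr_ct (K53.f35052 IH) (Lpr_ft (K10.f35025 IH) (Lpr_ct (f35105 IH) (Lpn (LP (LK LD1_c5 LD2_c16 LD3_c48))))))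
theorem f35119 : Led Lsl_ft (LP (LK LD1_c9 LD2_c7 LD3_c48)) = (LP (LK LD1_c5 LD2_c16 LD3_c48)) :=
  Lgr Lrot48 (Lpr_ff (f35106 IH) (Lpn (LP (LK LD1_c5 LD2_c16 LD3_c48))))
theorem f35125 : Led Lsl_bt (LP (LK LD1_c4 LD2_c35 LD3_c39)) = (LP (LK LD1_c9 LD2_c7 LD3_c48)) :=
  Lre_b IH (LK LD1_c4 LD2_c35 LD3_c39) (LK LD1_c9 LD2_c7 LD3_c48) Lrfl Lrfl
theorem f35126 : Led Lsl_ft (LP (LK LD1_c9 LD2_c7 LD3_c50)) = (LP (LK LD1_c4 LD2_c35 LD3_c39)) :=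
  Lre_f IH (LK LD1_c9 LD2_c7 LD3_c50) (LK LD1_c4 LD2_c35 LD3_c39) Lrfl Lrfl
theorem f35127 : Led Lsl_bf (LP (LK LD1_c9 LD2_c7 LD3_c50)) = (LP (LK LD1_c5 LD2_c16 LD3_c48)) :=
  Lgr Lrot61 (Lpr_ft (f35126 IH) (Lpr_bt (f35125 IH) (Lpr_ft (f35119 IH) (Lpn (LP (LK LD1_c5 LD2_c16 LD3_c48))))))
theorem f35148 : Led Lsl_et (LP (LK LD1_c9 LD2_c7 LD3_c50)) = (LP (LK LD1_c17 LD2_c0 LD3_c9)) :=
  Lre_e IH (LK LD1_c9 LD2_c7 LD3_c50) (LK LD1_c17 LD2_c0 LD3_c9) Lrfl Lrfl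
theorem f35118 : Led Lsl_et (LP (LK LD1_c10 LD2_c23 LD3_c11)) = (LP (LK LD1_c5 LD2_c16 LD3_c48)) :=
  Lre_e IH (LK LD1_c10 LD2_c23 LD3_c11) (LK LD1_c5 LD2_c16 LD3_c48) Lrfl Lrfl
theorem f35149 : Led Lsl_bt (LP (LK LD1_c17 LD2_c0 LD3_c9)) = (LP (LK LD1_c10 LD2_c23 LD3_c11)) :=
  Lgr Lrot119 (Lpe (f35148 IH) (Lpr_bf (f35127 IH) (Lpe (f35118 IH) (Lpn (LP (LK LD1_c10 LD2_c23 LD3_c11))))))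
theorem f35160 : Led Lsl_ct (LP (LK LD1_c9 LD2_c7 LD3_c51)) = (LP (LK LD1_c17 LD2_c0 LD3_c9)) :=
  Lre_c IH (LK LD1_c9 LD2_c7 LD3_c51) (LK LD1_c17 LD2_c0 LD3_c9) Lrfl Lrfl
theorem f35161 : Led Lsl_bt (LP (LK LD1_c4 LD2_c35 LD3_c47)) = (LP (LK LD1_c9 LD2_c7 LD3_c51)) :=
  Lre_b IH (LK LD1_c4 LD2_c35 LD3_c47) (LK LD1_c9 LD2_c7 LD3_c51) Lrfl Lrfl
theorem f35162 : Led Lsl_ct (LP (LK LD1_c10 LD2_c23 LD3_c11)) = (LP (LK LD1_c5 LD2_c16 LD3_c49)) :=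
  Lre_c IH (LK LD1_c10 LD2_c23 LD3_c11) (LK LD1_c5 LD2_c16 LD3_c49) Lrfl Lrfl
theorem f35163 : Led Lsl_cf (LP (LK LD1_c4 LD2_c35 LD3_c47)) = (LP (LK LD1_c2 LD2_c35 LD3_c8)) :=
  Lgr Lrot97 (Lpr_bt (f35161 IH) (Lpr_ct (f35160 IH) (Lpr_bt (f35149 IH) (Lpr_ct (f35162 IH) (Lpr_bt (K19.f32642 IH) (Lpn (LP (LK LD1_c2 LD2_c35 LD3_c8))))))))
theorem f71769 : Led Lsl_af (LP (LK LD1_c2 LD2_c54 LD3_c4)) = (LP (LK LD1_c4 LD2_c35 LD3_c47)) :=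
  Lgr Lrot68 (Lpr_ct (K2.f71757 IH) (Lpr_at (K2.f32612 IH) (Lpe (f35163 IH) (Lpn (LP (LK LD1_c4 LD2_c35 LD3_c47))))))
theorem f71284 : Led Lsl_gt (LP (LK LD1_c5 LD2_c55 LD3_c28)) = (LP (LK LD1_c2 LD2_c54 LD3_c4)) :=
  Lre_g IH (LK LD1_c5 LD2_c55 LD3_c28) (LK LD1_c2 LD2_c54 LD3_c4) Lrfl Lrfl
theorem f35197 : Led Lsl_ft (LP (LK LD1_c9 LD2_c7 LD3_c55)) = (LP (LK LD1_c4 LD2_c35 LD3_c47)) :=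
  Lre_f IH (LK LD1_c9 LD2_c7 LD3_c55) (LK LD1_c4 LD2_c35 LD3_c47) Lrfl Lrfl
theorem f442707 : Led Lsl_gf (LP (LK LD1_c5 LD2_c55 LD3_c28)) = (LP (LK LD1_c9 LD2_c7 LD3_c55)) :=
  Lgr Lrot47 (Lpr_gt (f71284 IH) (Lpr_af (f71769 IH) (Lpe (f35197 IH) (Lpn (LP (LK LD1_c9 LD2_c7 LD3_c55))))))
theorem f71287 : Led Lsl_et (LP (LK LD1_c11 LD2_c36 LD3_c15)) = (LP (LK LD1_c5 LD2_c55 LD3_c28)) :=
  Lre_e IH (LK LD1_c11 LD2_c36 LD3_c15) (LK LD1_c5 LD2_c55 LD3_c28) Lrfl Lrfl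
theorem f752369 : Led Lsl_dt (LP (LK LD1_c11 LD2_c36 LD3_c15)) = v16899 :=
  Lgr Lrot136 (Lpr_et (f71287 IH) (Lpr_gf (f442707 IH) (Lpe (K2.f82215 IH) (Lpr_dt (f442468 IH) (Lpe (K24.f452820 IH) (Lpe (K49.f169776 IH) (Lpr_gf (K49.f641033 IH) (Lpe (f646034 IH) (Lpe (K46.f636310 IH) (Lpr_gf (f752367 IH) (Lpn v16899)))))))))))
theorem f752370 : Led Lsl_gt (LP (LK LD1_c10 LD2_c17 LD3_c18)) = (LP (LK LD1_c11 LD2_c36 LD3_c15)) :=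
  Lgr Lrot137 (Lpe (f186179 IH) (Lpr_dt (f20510 IH) (Lpe (f507808 IH) (Lpe (f169792 IH) (Lpr_et (K53.f289285 IH) (Lpr_gf (K49.f641033 IH) (Lpe (f646034 IH) (Lpe (K46.f636310 IH) (Lpr_gf (f752367 IH) (Lpe (f752369 IH) (Lpn (LP (LK LD1_c11 LD2_c36 LD3_c15)))))))))))))
theorem f752371 : Led Lsl_gt (LP (LK LD1_c10 LD2_c17 LD3_c18)) = (LP (LK LD1_c11 LD2_c36 LD3_c15)) :=
  Leop (Lpe (f752370 IH) (Lpn (LP (LK LD1_c10 LD2_c17 LD3_c18))))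
theorem seed_1070 : LEOK LG_g (LK LD1_c10 LD2_c17 LD3_c18) :=
  Leoe_g (LK LD1_c10 LD2_c17 LD3_c18) (f752371 IH)
def v16901 : LQ := Led Lsl_ct (LP (LK LD1_c6 LD2_c8 LD3_c28))
theorem f752377 : Led Lsl_ct (LP (LK LD1_c6 LD2_c8 LD3_c28)) = v16901 :=
  Lrfl
def v5560 : LQ := Led Lsl_gf (LP (LK LD1_c3 LD2_c10 LD3_c14))
theorem f648262 : Led Lsl_gf (LP (LK LD1_c3 LD2_c10 LD3_c14)) = v5560 :=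
  Lrfl
theorem f648263 : Led Lsl_gt (LP (LK LD1_c5 LD2_c56 LD3_c40)) = v5560 :=
  Lgr Lrot5 (Lpr_ft (K32.f496739 IH) (Lpr_at (K52.f496791 IH) (Lpr_gf (f648262 IH) (Lpn v5560))))
theorem f714141 : (LP (LK LD1_c3 LD2_c0 LD3_c49)) = v5560 :=
  Lefun (Lecon (Lfl_gf (K52.f646374 IH)) (K52.f714139 IH)) (f648263 IH)
theorem f443950 : Led Lsl_ct (LP (LK LD1_c2 LD2_c49 LD3_c46)) = (LP (LK LD1_c1 LD2_c29 LD3_c7)) :=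
  Lgr Lrot8 (Lpe (K16.f79881 IH) (Lpe (K32.f79673 IH) (Lpe (K32.f55704 IH) (Lpr_dt (K32.f73214 IH) (Lpe (K32.f415650 IH) (Lpe (K32.f25513 IH) (Lpr_gf (K0.f25526 IH) (Lpe (K0.f23254 IH) (Lpr_gf (K29.f443948 IH) (Lpn (LP (LK LD1_c1 LD2_c29 LD3_c7))))))))))))
theorem f58502 : Led Lsl_bt (LP (LK LD1_c3 LD2_c0 LD3_c49)) = (LP (LK LD1_c1 LD2_c26 LD3_c12)) :=
  Lre_b IH (LK LD1_c3 LD2_c0 LD3_c49) (LK LD1_c1 LD2_c26 LD3_c12) Lrfl Lrfl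
theorem f712506 : Led Lsl_gf (LP (LK LD1_c6 LD2_c8 LD3_c58)) = (LP (LK LD1_c11 LD2_c38 LD3_c45)) :=
  Lgr Lrot126 (Lpe (K52.f58503 IH) (Lpr_bt (f58502 IH) (Lpr_gt (K32.f58490 IH) (Lpr_ct (K1.f58472 IH) (Lpr_gt (K29.f57673 IH) (Lpe (f443950 IH) (Lpr_bt (K52.f413631 IH) (Lpqs (K52.f712151 IH) (Lpe (K52.f640495 IH) (Lpe (K51.f24113 IH) (Lpr_ct (K4.f24093 IH) (Lpn (LP (LK LD1_c11 LD2_c38 LD3_c45))))))))))))))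
theorem f712508 : Led Lsl_gt (LP (LK LD1_c6 LD2_c8 LD3_c58)) = (LP (LK LD1_c9 LD2_c7 LD3_c24)) :=
  Lgr Lrot46 (Lpr_gf (f712506 IH) (Lpr_ft (K4.f24092 IH) (Lpe (K4.f117470 IH) (Lpn (LP (LK LD1_c9 LD2_c7 LD3_c24))))))
theorem f590689 : Led Lsl_dt (LP (LK LD1_c15 LD2_c23 LD3_c46)) = (LP (LK LD1_c25 LD2_c16 LD3_c10)) :=
  Lre_d IH (LK LD1_c15 LD2_c23 LD3_c46) (LK LD1_c25 LD2_c16 LD3_c10) Lrfl Lrfl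
theorem f572423 : Led Lsl_df (LP (LK LD1_c4 LD2_c58 LD3_c17)) = (LP (LK LD1_c4 LD2_c5 LD3_c59)) :=
  Lgr Lrot38 (Lpr_dt (K42.f572416 IH) (Lpn (LP (LK LD1_c4 LD2_c5 LD3_c59))))
theorem f572427 : Led Lsl_dt (LP (LK LD1_c15 LD2_c26 LD3_c46)) = (LP (LK LD1_c8 LD2_c12 LD3_c38)) :=
  Lre_d IH (LK LD1_c15 LD2_c26 LD3_c46) (LK LD1_c8 LD2_c12 LD3_c38) Lrfl Lrfl
theorem f573144 : Led Lsl_dt (LP (LK LD1_c15 LD2_c23 LD3_c47)) = (LP (LK LD1_c25 LD2_c16 LD3_c11)) :=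
  Lre_d IH (LK LD1_c15 LD2_c23 LD3_c47) (LK LD1_c25 LD2_c16 LD3_c11) Lrfl Lrfl
theorem f548086 : Led Lsl_dt (LP (LK LD1_c15 LD2_c26 LD3_c49)) = (LP (LK LD1_c8 LD2_c12 LD3_c40)) :=
  Lre_d IH (LK LD1_c15 LD2_c26 LD3_c49) (LK LD1_c8 LD2_c12 LD3_c40) Lrfl Lrfl
theorem f590692 : Led Lsl_ct (LP (LK LD1_c25 LD2_c16 LD3_c10)) = (LP (LK LD1_c15 LD2_c26 LD3_c49)) :=
  Lgr Lrot176 (Lpe (f590689 IH) (Lpr_cf (K45.f590686 IH) (Lpe (K39.f37825 IH) (Lpr_cf (K35.f161114 IH) (Lpr_df (f572423 IH) (Lpe (K42.f548082 IH) (Lpe (f572427 IH) (Lpr_cf (K43.f575701 IH) (Lpe (f573144 IH) (Lpe (K43.f573142 IH) (Lpe (K43.f565360 IH) (Lpe (K43.f565358 IH) (Lpr_df (K43.f573140 IH) (Lpe (K45.f548089 IH) (Lpe (f548086 IH) (Lpn (LP (LK LD1_c15 LD2_c26 LD3_c49))))))))))))))))))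
theorem f545718 : Led Lsl_df (LP (LK LD1_c5 LD2_c14 LD3_c10)) = (LP (LK LD1_c8 LD2_c12 LD3_c35)) :=
  Lgr Lrot38 (Lpr_dt (K38.f545711 IH) (Lpn (LP (LK LD1_c8 LD2_c12 LD3_c35))))
theorem f572425 : Led Lsl_ff (LP (LK LD1_c8 LD2_c12 LD3_c35)) = (LP (LK LD1_c4 LD2_c5 LD3_c59)) :=
  Lgr Lrot19 (Lpe (f545718 IH) (Lpe (K35.f387198 IH) (Lpr_dt (K42.f572416 IH) (Lpn (LP (LK LD1_c4 LD2_c5 LD3_c59))))))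
theorem f590698 : Led Lsl_af (LP (LK LD1_c4 LD2_c5 LD3_c60)) = (LP (LK LD1_c8 LD2_c12 LD3_c35)) :=
  Lgr Lrot109 (Lpe (K45.f548089 IH) (Lpe (f548086 IH) (Lpe (f590692 IH) (Lpe (f590689 IH) (Lpr_cf (K45.f590686 IH) (Lpe (K39.f37825 IH) (Lpr_cf (K35.f161114 IH) (Lpr_df (f572423 IH) (Lpe (f572425 IH) (Lpn (LP (LK LD1_c8 LD2_c12 LD3_c35))))))))))))
theorem f565372 : Led Lsl_et (LP (LK LD1_c4 LD2_c5 LD3_c60)) = (LP (LK LD1_c8 LD2_c12 LD3_c41)) :=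
  Lre_e IH (LK LD1_c4 LD2_c5 LD3_c60) (LK LD1_c8 LD2_c12 LD3_c41) Lrfl Lrfl
theorem f73484 : Led Lsl_et (LP (LK LD1_c15 LD2_c26 LD3_c42)) = (LP (LK LD1_c8 LD2_c12 LD3_c35)) :=
  Lre_e IH (LK LD1_c15 LD2_c26 LD3_c42) (LK LD1_c8 LD2_c12 LD3_c35) Lrfl Lrfl
theorem f600988 : Led Lsl_at (LP (LK LD1_c8 LD2_c12 LD3_c41)) = (LP (LK LD1_c15 LD2_c26 LD3_c42)) :=
  Lgr Lrot80 (Lpe (f565372 IH) (Lpr_af (f590698 IH) (Lpe (f73484 IH) (Lpn (LP (LK LD1_c15 LD2_c26 LD3_c42))))))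
theorem f600992 : Led Lsl_bt (LP (LK LD1_c15 LD2_c26 LD3_c47)) = (LP (LK LD1_c8 LD2_c12 LD3_c41)) :=
  Lre_b IH (LK LD1_c15 LD2_c26 LD3_c47) (LK LD1_c8 LD2_c12 LD3_c41) Lrfl Lrfl
theorem f545713 : Led Lsl_bt (LP (LK LD1_c10 LD2_c18 LD3_c15)) = (LP (LK LD1_c15 LD2_c26 LD3_c42)) :=
  Lgr Lrot119 (Lpe (f387160 IH) (Lpr_bf (K38.f545701 IH) (Lpe (f73484 IH) (Lpn (LP (LK LD1_c15 LD2_c26 LD3_c42))))))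
theorem f545715 : Led Lsl_bf (LP (LK LD1_c10 LD2_c18 LD3_c15)) = (LP (LK LD1_c15 LD2_c26 LD3_c42)) :=
  Lgr Lrot24 (Lpr_bt (f545713 IH) (Lpn (LP (LK LD1_c15 LD2_c26 LD3_c42))))
theorem f387193 : Led Lsl_af (LP (LK LD1_c9 LD2_c48 LD3_c6)) = (LP (LK LD1_c10 LD2_c18 LD3_c15)) :=
  Lgr Lrot0 (Lpr_at (f387191 IH) (Lpn (LP (LK LD1_c10 LD2_c18 LD3_c15))))
theorem f138938 : Led Lsl_bt (LP (LK LD1_c9 LD2_c48 LD3_c6)) = (LP (LK LD1_c17 LD2_c57 LD3_c54)) :=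
  Lre_b IH (LK LD1_c9 LD2_c48 LD3_c6) (LK LD1_c17 LD2_c57 LD3_c54) Lrfl Lrfl
theorem f600993 : Led Lsl_af (LP (LK LD1_c15 LD2_c26 LD3_c47)) = (LP (LK LD1_c17 LD2_c57 LD3_c54)) :=
  Lgr Lrot36 (Lpr_bt (f600992 IH) (Lpr_at (f600988 IH) (Lpe (f545715 IH) (Lpe (f387193 IH) (Lpr_bt (f138938 IH) (Lpn (LP (LK LD1_c17 LD2_c57 LD3_c54))))))))
theorem f138932 : Led Lsl_et (LP (LK LD1_c26 LD2_c26 LD3_c49)) = (LP (LK LD1_c16 LD2_c29 LD3_c61)) :=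
  Lre_e IH (LK LD1_c26 LD2_c26 LD3_c49) (LK LD1_c16 LD2_c29 LD3_c61) Lrfl Lrfl
theorem f138934 : Led Lsl_et (LP (LK LD1_c9 LD2_c47 LD3_c36)) = (LP (LK LD1_c17 LD2_c57 LD3_c54)) :=
  Lre_e IH (LK LD1_c9 LD2_c47 LD3_c36) (LK LD1_c17 LD2_c57 LD3_c54) Lrfl Lrfl
theorem f138935 : Led Lsl_df (LP (LK LD1_c26 LD2_c26 LD3_c49)) = (LP (LK LD1_c17 LD2_c57 LD3_c54)) :=
  Lgr Lrot70 (Lpr_et (f138932 IH) (Lpr_dt (K44.f138931 IH) (Lpr_et (K39.f138927 IH) (Lpr_dt (K36.f138933 IH) (Lpr_et (f138934 IH) (Lpn (LP (LK LD1_c17 LD2_c57 LD3_c54))))))))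
theorem f138939 : Led Lsl_dt (LP (LK LD1_c26 LD2_c26 LD3_c49)) = (LP (LK LD1_c17 LD2_c57 LD3_c54)) :=
  Lgr Lrot42 (Lpr_df (f138935 IH) (Lpn (LP (LK LD1_c17 LD2_c57 LD3_c54))))
theorem f72369 : Led Lsl_gt (LP (LK LD1_c5 LD2_c53 LD3_c33)) = (LP (LK LD1_c11 LD2_c33 LD3_c7)) :=
  Lre_g IH (LK LD1_c5 LD2_c53 LD3_c33) (LK LD1_c11 LD2_c33 LD3_c7) Lrfl Lrfl
theorem f597741 : Led Lsl_df (LP (LK LD1_c12 LD2_c10 LD3_c57)) = (LP (LK LD1_c11 LD2_c33 LD3_c7)) :=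
  Lgr Lrot84 (Lpe (K42.f186473 IH) (Lpr_df (K50.f597730 IH) (Lpe (K50.f449400 IH) (Lpe (K36.f449396 IH) (Lpr_gf (K41.f500350 IH) (Lpqs (K41.f565528 IH) (Lpe (K8.f158365 IH) (Lpr_gt (K38.f549834 IH) (Lpr_dt (K39.f72284 IH) (Lpr_gt (f72369 IH) (Lpn (LP (LK LD1_c11 LD2_c33 LD3_c7)))))))))))))
theorem f564247 : Led Lsl_cf (LP (LK LD1_c3 LD2_c5 LD3_c41)) = (LP (LK LD1_c6 LD2_c14 LD3_c48)) :=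
  Lgr Lrot108 (Lpr_ft (K43.f450294 IH) (Lpr_ct (K41.f211748 IH) (Lpr_ft (K41.f564243 IH) (Lpn (LP (LK LD1_c6 LD2_c14 LD3_c48))))))
theorem f210693 : Led Lsl_ct (LP (LK LD1_c5 LD2_c52 LD3_c58)) = (LP (LK LD1_c11 LD2_c32 LD3_c6)) :=
  Lre_c IH (LK LD1_c5 LD2_c52 LD3_c58) (LK LD1_c11 LD2_c32 LD3_c6) Lrfl Lrfl
theorem f210694 : Led Lsl_gt (LP (LK LD1_c11 LD2_c32 LD3_c6)) = (LP (LK LD1_c20 LD2_c28 LD3_c46)) :=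
  Lre_g IH (LK LD1_c11 LD2_c32 LD3_c6) (LK LD1_c20 LD2_c28 LD3_c46) Lrfl Lrfl
theorem f598390 : Led Lsl_ct (LP (LK LD1_c20 LD2_c28 LD3_c46)) = (LP (LK LD1_c11 LD2_c33 LD3_c7)) :=
  Lgr Lrot110 (Lpe (f210694 IH) (Lpe (f210693 IH) (Lpe (K41.f210680 IH) (Lpe (K41.f547213 IH) (Lpr_gt (K41.f566862 IH) (Lpe (f564247 IH) (Lpr_gt (K42.f186472 IH) (Lpr_ct (K42.f186473 IH) (Lpr_df (f597741 IH) (Lpn (LP (LK LD1_c11 LD2_c33 LD3_c7))))))))))))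
theorem f598395 : Led Lsl_cf (LP (LK LD1_c20 LD2_c28 LD3_c46)) = (LP (LK LD1_c11 LD2_c33 LD3_c7)) :=
  Lgr Lrot11 (Lpr_ct (f598390 IH) (Lpn (LP (LK LD1_c11 LD2_c33 LD3_c7))))
theorem f555893 : Led Lsl_ct (LP (LK LD1_c3 LD2_c59 LD3_c36)) = (LP (LK LD1_c5 LD2_c41 LD3_c37)) :=
  Lgr Lrot64 (Lpr_bt (K40.f549844 IH) (Lpq (K36.f539826 IH) (Lpe (K36.f500368 IH) (Lpr_bf (K39.f539818 IH) (Lpr_ct (K39.f428063 IH) (Lpr_gf (K39.f555889 IH) (Lpe (K39.f81945 IH) (Lpr_gf (K36.f500517 IH) (Lpq (K36.f541553 IH) (Lpq (K35.f541554 IH) (Lpr_bf (K36.f538213 IH) (Lpe (K38.f538215 IH) (Lpe (K38.f547274 IH) (Lpn (LP (LK LD1_c5 LD2_c41 LD3_c37))))))))))))))))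
theorem f598407 : Led Lsl_gt (LP (LK LD1_c20 LD2_c28 LD3_c46)) = (LP (LK LD1_c20 LD2_c8 LD3_c0)) :=
  Lgr Lrot150 (Lpr_cf (f598395 IH) (Lpe (f72369 IH) (Lpe (K39.f72284 IH) (Lpe (K42.f569382 IH) (Lpr_ct (K41.f210714 IH) (Lpe (K42.f571888 IH) (Lpr_ct (f555893 IH) (Lpe (K38.f547251 IH) (Lpe (K38.f547262 IH) (Lpn (LP (LK LD1_c20 LD2_c8 LD3_c0))))))))))))
theorem f137817 : Led Lsl_ct (LP (LK LD1_c11 LD2_c37 LD3_c28)) = (LP (LK LD1_c5 LD2_c56 LD3_c6)) :=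
  Lre_c IH (LK LD1_c11 LD2_c37 LD3_c28) (LK LD1_c5 LD2_c56 LD3_c6) Lrfl Lrfl
theorem f438145 : Led Lsl_gt (LP (LK LD1_c20 LD2_c35 LD3_c60)) = (LP (LK LD1_c11 LD2_c37 LD3_c28)) :=
  Lre_g IH (LK LD1_c20 LD2_c35 LD3_c60) (LK LD1_c11 LD2_c37 LD3_c28) Lrfl Lrfl
theorem f580601 : Led Lsl_ct (LP (LK LD1_c16 LD2_c27 LD3_c36)) = (LP (LK LD1_c20 LD2_c35 LD3_c60)) :=
  Lgr Lrot152 (Lpr_gf (K44.f580595 IH) (Lpe (K44.f571898 IH) (Lpr_gt (K42.f99752 IH) (Lpr_ct (K42.f425924 IH) (Lpe (K40.f557781 IH) (Lpr_ct (K37.f112854 IH) (Lpe (K43.f112850 IH) (Lpe (f137817 IH) (Lpe (f438145 IH) (Lpn (LP (LK LD1_c20 LD2_c35 LD3_c60))))))))))))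
theorem f112855 : Led Lsl_ct (LP (LK LD1_c5 LD2_c56 LD3_c6)) = (LP (LK LD1_c11 LD2_c37 LD3_c28)) :=
  Lre_c IH (LK LD1_c5 LD2_c56 LD3_c6) (LK LD1_c11 LD2_c37 LD3_c28) Lrfl Lrfl
theorem f137677 : Led Lsl_bt (LP (LK LD1_c16 LD2_c25 LD3_c19)) = (LP (LK LD1_c8 LD2_c46 LD3_c41)) :=
  Lre_b IH (LK LD1_c16 LD2_c25 LD3_c19) (LK LD1_c8 LD2_c46 LD3_c41) Lrfl Lrfl
theorem f137815 : Led Lsl_at (LP (LK LD1_c8 LD2_c46 LD3_c41)) = (LP (LK LD1_c5 LD2_c56 LD3_c6)) :=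
  Lgr Lrot100 (Lpr_af (K6.f137811 IH) (Lpn (LP (LK LD1_c5 LD2_c56 LD3_c6))))
theorem f573098 : Led Lsl_bt (LP (LK LD1_c5 LD2_c56 LD3_c6)) = (LP (LK LD1_c9 LD2_c8 LD3_c52)) :=
  Lgr Lrot62 (Lpe (f137815 IH) (Lpe (f137677 IH) (Lpr_af (K43.f573039 IH) (Lpr_bf (K43.f573061 IH) (Lpr_af (K43.f573095 IH) (Lpn (LP (LK LD1_c9 LD2_c8 LD3_c52))))))))
theorem f598409 : Led Lsl_bf (LP (LK LD1_c17 LD2_c1 LD3_c38)) = (LP (LK LD1_c11 LD2_c33 LD3_c7)) :=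
  Lgr Lrot34 (Lpe (K42.f549024 IH) (Lpe (f573098 IH) (Lpr_ct (f112855 IH) (Lpe (f438145 IH) (Lpe (f580601 IH) (Lpr_gf (K44.f580595 IH) (Lpe (K44.f580635 IH) (Lpr_ct (K38.f547256 IH) (Lpe (f598407 IH) (Lpr_cf (f598395 IH) (Lpn (LP (LK LD1_c11 LD2_c33 LD3_c7)))))))))))))
theorem f598411 : Led Lsl_gf (LP (LK LD1_c17 LD2_c53 LD3_c52)) = (LP (LK LD1_c17 LD2_c1 LD3_c46)) :=
  Lgr Lrot129 (Lpe (K42.f210413 IH) (Lpr_bt (K30.f210393 IH) (Lpr_gt (K12.f227536 IH) (Lpe (K36.f210685 IH) (Lpr_ct (f210693 IH) (Lpr_gt (f210694 IH) (Lpr_cf (f598395 IH) (Lpe (f598409 IH) (Lpr_gt (K42.f569422 IH) (Lpr_ct (K44.f210647 IH) (Lpn (LP (LK LD1_c17 LD2_c1 LD3_c46)))))))))))))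
theorem f547300 : Led Lsl_dt (LP (LK LD1_c17 LD2_c1 LD3_c10)) = (LP (LK LD1_c26 LD2_c56 LD3_c19)) :=
  Lre_d IH (LK LD1_c17 LD2_c1 LD3_c10) (LK LD1_c26 LD2_c56 LD3_c19) Lrfl Lrfl
theorem f540572 : Led Lsl_dt (LP (LK LD1_c26 LD2_c55 LD3_c45)) = (LP (LK LD1_c17 LD2_c2 LD3_c3)) :=
  Lre_d IH (LK LD1_c26 LD2_c55 LD3_c45) (LK LD1_c17 LD2_c2 LD3_c3) Lrfl Lrfl
theorem f594919 : Led Lsl_df (LP (LK LD1_c17 LD2_c1 LD3_c46)) = (LP (LK LD1_c26 LD2_c56 LD3_c34)) :=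
  Lgr Lrot84 (Lpe (K44.f210647 IH) (Lpe (K42.f210664 IH) (Lpe (K39.f546820 IH) (Lpe (K39.f539927 IH) (Lpe (K45.f539928 IH) (Lpr_cf (K45.f594909 IH) (Lpr_gt (K43.f565088 IH) (Lpr_dt (f540572 IH) (Lpr_gt (K44.f540573 IH) (Lpn (LP (LK LD1_c26 LD2_c56 LD3_c34))))))))))))
theorem f540570 : Led Lsl_ct (LP (LK LD1_c17 LD2_c1 LD3_c20)) = (LP (LK LD1_c26 LD2_c55 LD3_c59)) :=
  Lre_c IH (LK LD1_c17 LD2_c1 LD3_c20) (LK LD1_c26 LD2_c55 LD3_c59) Lrfl Lrfl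
theorem f548669 : Led Lsl_gt (LP (LK LD1_c26 LD2_c55 LD3_c59)) = (LP (LK LD1_c17 LD2_c2 LD3_c2)) :=
  Lre_g IH (LK LD1_c26 LD2_c55 LD3_c59) (LK LD1_c17 LD2_c2 LD3_c2) Lrfl Lrfl
theorem f598413 : Led Lsl_cf (LP (LK LD1_c26 LD2_c56 LD3_c19)) = (LP (LK LD1_c17 LD2_c2 LD3_c2)) :=
  Lgr Lrot99 (Lpe (f547300 IH) (Lpe (K42.f420761 IH) (Lpe (K38.f547294 IH) (Lpe (K42.f210448 IH) (Lpr_gf (f598411 IH) (Lpr_df (f594919 IH) (Lpr_gt (K44.f420775 IH) (Lpr_ct (f540570 IH) (Lpr_gt (f548669 IH) (Lpn (LP (LK LD1_c17 LD2_c2 LD3_c2))))))))))))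
theorem f598418 : Led Lsl_ct (LP (LK LD1_c26 LD2_c56 LD3_c19)) = (LP (LK LD1_c17 LD2_c2 LD3_c2)) :=
  Lgr Lrot59 (Lpr_cf (f598413 IH) (Lpn (LP (LK LD1_c17 LD2_c2 LD3_c2))))
theorem f175507 : Led Lsl_gt (LP (LK LD1_c17 LD2_c2 LD3_c2)) = (LP (LK LD1_c9 LD2_c9 LD3_c2)) :=
  Lre_g IH (LK LD1_c17 LD2_c2 LD3_c2) (LK LD1_c9 LD2_c9 LD3_c2) Lrfl Lrfl
theorem f548680 : Led Lsl_ct (LP (LK LD1_c9 LD2_c9 LD3_c2)) = (LP (LK LD1_c17 LD2_c2 LD3_c3)) :=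
  Lre_c IH (LK LD1_c9 LD2_c9 LD3_c2) (LK LD1_c17 LD2_c2 LD3_c3) Lrfl Lrfl
theorem f101734 : Led Lsl_dt (LP (LK LD1_c27 LD2_c42 LD3_c25)) = (LP (LK LD1_c17 LD2_c58 LD3_c25)) :=
  Lre_d IH (LK LD1_c27 LD2_c42 LD3_c25) (LK LD1_c17 LD2_c58 LD3_c25) Lrfl Lrfl
theorem f598479 : Led Lsl_gf (LP (LK LD1_c26 LD2_c56 LD3_c19)) = (LP (LK LD1_c27 LD2_c42 LD3_c25)) :=
  Lgr Lrot147 (Lpr_ct (f598418 IH) (Lpr_gt (f175507 IH) (Lpr_ct (f548680 IH) (Lpe (f540572 IH) (Lpe (K41.f540518 IH) (Lpe (K41.f71076 IH) (Lpe (K43.f540522 IH) (Lpr_gf (K43.f569348 IH) (Lpe (f101734 IH) (Lpn (LP (LK LD1_c27 LD2_c42 LD3_c25))))))))))))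
theorem f548670 : Led Lsl_dt (LP (LK LD1_c17 LD2_c0 LD3_c54)) = (LP (LK LD1_c26 LD2_c55 LD3_c59)) :=
  Lre_d IH (LK LD1_c17 LD2_c0 LD3_c54) (LK LD1_c26 LD2_c55 LD3_c59) Lrfl Lrfl
theorem f572394 : Led Lsl_dt (LP (LK LD1_c17 LD2_c58 LD3_c34)) = (LP (LK LD1_c9 LD2_c48 LD3_c20)) :=
  Lre_d IH (LK LD1_c17 LD2_c58 LD3_c34) (LK LD1_c9 LD2_c48 LD3_c20) Lrfl Lrfl
theorem f572395 : Led Lsl_ct (LP (LK LD1_c27 LD2_c42 LD3_c26)) = (LP (LK LD1_c17 LD2_c58 LD3_c34)) :=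
  Lre_c IH (LK LD1_c27 LD2_c42 LD3_c26) (LK LD1_c17 LD2_c58 LD3_c34) Lrfl Lrfl
theorem f598422 : Led Lsl_gt (LP (LK LD1_c26 LD2_c56 LD3_c19)) = (LP (LK LD1_c27 LD2_c42 LD3_c26)) :=
  Lgr Lrot150 (Lpr_cf (f598413 IH) (Lpe (f548669 IH) (Lpe (f548670 IH) (Lpr_gt (K38.f202302 IH) (Lpe (K38.f548656 IH) (Lpr_gt (K42.f572386 IH) (Lpr_ct (K46.f569247 IH) (Lpe (f572394 IH) (Lpe (f572395 IH) (Lpn (LP (LK LD1_c27 LD2_c42 LD3_c26))))))))))))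
theorem f565501 : Led Lsl_dt (LP (LK LD1_c17 LD2_c58 LD3_c25)) = (LP (LK LD1_c27 LD2_c42 LD3_c25)) :=
  Lre_d IH (LK LD1_c17 LD2_c58 LD3_c25) (LK LD1_c27 LD2_c42 LD3_c25) Lrfl Lrfl
theorem f569302 : Led Lsl_ft (LP (LK LD1_c27 LD2_c42 LD3_c25)) = (LP (LK LD1_c29 LD2_c52 LD3_c45)) :=
  Lgr Lrot54 (Lpe (f565501 IH) (Lpr_ff (K42.f565499 IH) (Lpr_df (K42.f569298 IH) (Lpn (LP (LK LD1_c29 LD2_c52 LD3_c45))))))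
theorem f598484 : Led Lsl_af (LP (LK LD1_c27 LD2_c42 LD3_c26)) = (LP (LK LD1_c29 LD2_c52 LD3_c45)) :=
  Lgr Lrot31 (Lpe (f598422 IH) (Lpr_gf (f598479 IH) (Lpr_ft (f569302 IH) (Lpn (LP (LK LD1_c29 LD2_c52 LD3_c45))))))
theorem f569334 : Led Lsl_at (LP (LK LD1_c29 LD2_c52 LD3_c46)) = (LP (LK LD1_c27 LD2_c42 LD3_c25)) :=
  Lgr Lrot51 (Lpe (K42.f569320 IH) (Lpr_af (K42.f569328 IH) (Lpe (f101734 IH) (Lpn (LP (LK LD1_c27 LD2_c42 LD3_c25))))))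
theorem f598492 : Led Lsl_ft (LP (LK LD1_c27 LD2_c42 LD3_c26)) = (LP (LK LD1_c29 LD2_c52 LD3_c46)) :=
  Lgr Lrot101 (Lpr_af (f598484 IH) (Lpe (f569302 IH) (Lpe (f569334 IH) (Lpn (LP (LK LD1_c29 LD2_c52 LD3_c46))))))
theorem f598496 : Led Lsl_ff (LP (LK LD1_c27 LD2_c42 LD3_c26)) = (LP (LK LD1_c29 LD2_c52 LD3_c46)) :=
  Lgr Lrot3 (Lpr_ft (f598492 IH) (Lpn (LP (LK LD1_c29 LD2_c52 LD3_c46))))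
theorem f598498 : Led Lsl_ft (LP (LK LD1_c17 LD2_c58 LD3_c34)) = (LP (LK LD1_c21 LD2_c11 LD3_c14)) :=
  Lgr Lrot4 (Lpe (f572395 IH) (Lpr_ff (f598496 IH) (Lpe (K44.f569318 IH) (Lpn (LP (LK LD1_c21 LD2_c11 LD3_c14))))))
theorem f572396 : Led Lsl_dt (LP (LK LD1_c9 LD2_c48 LD3_c20)) = (LP (LK LD1_c17 LD2_c58 LD3_c34)) :=
  Lre_d IH (LK LD1_c9 LD2_c48 LD3_c20) (LK LD1_c17 LD2_c58 LD3_c34) Lrfl Lrfl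
theorem f598500 : Led Lsl_ff (LP (LK LD1_c9 LD2_c48 LD3_c20)) = (LP (LK LD1_c12 LD2_c5 LD3_c32)) :=
  Lgr Lrot19 (Lpr_dt (f572396 IH) (Lpr_ft (f598498 IH) (Lpr_dt (K42.f548997 IH) (Lpn (LP (LK LD1_c12 LD2_c5 LD3_c32))))))
theorem f598506 : Led Lsl_at (LP (LK LD1_c9 LD2_c48 LD3_c20)) = (LP (LK LD1_c12 LD2_c5 LD3_c36)) :=
  Lgr Lrot26 (Lpr_ff (f598500 IH) (Lpr_gt (K42.f569097 IH) (Lpe (K45.f565427 IH) (Lpn (LP (LK LD1_c12 LD2_c5 LD3_c36))))))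
theorem f598510 : Led Lsl_af (LP (LK LD1_c4 LD2_c58 LD3_c59)) = (LP (LK LD1_c6 LD2_c13 LD3_c24)) :=
  Lgr Lrot68 (Lpr_ct (K46.f569247 IH) (Lpr_at (f598506 IH) (Lpr_ct (K45.f564212 IH) (Lpn (LP (LK LD1_c6 LD2_c13 LD3_c24))))))
theorem f598502 : Led Lsl_ft (LP (LK LD1_c4 LD2_c58 LD3_c59)) = (LP (LK LD1_c6 LD2_c13 LD3_c21)) :=
  Lgr Lrot4 (Lpe (K44.f562945 IH) (Lpr_ff (f598500 IH) (Lpe (K42.f101513 IH) (Lpn (LP (LK LD1_c6 LD2_c13 LD3_c21))))))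
theorem f594901 : Led Lsl_at (LP (LK LD1_c6 LD2_c13 LD3_c21)) = (LP (LK LD1_c11 LD2_c27 LD3_c42)) :=
  Lgr Lrot51 (Lpe (K38.f99565 IH) (Lpr_af (K45.f594899 IH) (Lpr_df (K45.f571947 IH) (Lpn (LP (LK LD1_c11 LD2_c27 LD3_c42))))))
theorem f598516 : Led Lsl_ft (LP (LK LD1_c11 LD2_c27 LD3_c42)) = (LP (LK LD1_c6 LD2_c13 LD3_c24)) :=
  Lgr Lrot101 (Lpe (f594901 IH) (Lpe (f598502 IH) (Lpr_af (f598510 IH) (Lpn (LP (LK LD1_c6 LD2_c13 LD3_c24))))))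
theorem f598520 : Led Lsl_ff (LP (LK LD1_c11 LD2_c27 LD3_c42)) = (LP (LK LD1_c6 LD2_c13 LD3_c24)) :=
  Lgr Lrot3 (Lpr_ft (f598516 IH) (Lpn (LP (LK LD1_c6 LD2_c13 LD3_c24))))
theorem f598514 : Led Lsl_at (LP (LK LD1_c4 LD2_c58 LD3_c59)) = (LP (LK LD1_c6 LD2_c13 LD3_c24)) :=
  Lgr Lrot100 (Lpr_af (f598510 IH) (Lpn (LP (LK LD1_c6 LD2_c13 LD3_c24))))
theorem f545803 : Led Lsl_ft (LP (LK LD1_c2 LD2_c27 LD3_c27)) = (LP (LK LD1_c4 LD2_c59 LD3_c9)) :=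
  Lre_f IH (LK LD1_c2 LD2_c27 LD3_c27) (LK LD1_c4 LD2_c59 LD3_c9) Lrfl Lrfl
theorem f139020 : Led Lsl_bt (LP (LK LD1_c4 LD2_c58 LD3_c59)) = (LP (LK LD1_c2 LD2_c27 LD3_c27)) :=
  Lre_b IH (LK LD1_c4 LD2_c58 LD3_c59) (LK LD1_c2 LD2_c27 LD3_c27) Lrfl Lrfl
theorem f563013 : Led Lsl_ft (LP (LK LD1_c6 LD2_c13 LD3_c21)) = (LP (LK LD1_c4 LD2_c58 LD3_c59)) :=
  Lgr Lrot75 (Lpr_bf (K40.f563007 IH) (Lpe (f545803 IH) (Lpe (f139020 IH) (Lpn (LP (LK LD1_c4 LD2_c58 LD3_c59))))))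
theorem f598522 : Led Lsl_at (LP (LK LD1_c11 LD2_c27 LD3_c42)) = (LP (LK LD1_c6 LD2_c13 LD3_c21)) :=
  Lgr Lrot66 (Lpr_ff (f598520 IH) (Lpe (f598514 IH) (Lpe (f563013 IH) (Lpn (LP (LK LD1_c6 LD2_c13 LD3_c21))))))
theorem f563009 : Led Lsl_bt (LP (LK LD1_c6 LD2_c13 LD3_c21)) = (LP (LK LD1_c4 LD2_c59 LD3_c9)) :=
  Lgr Lrot127 (Lpr_bf (K40.f563007 IH) (Lpn (LP (LK LD1_c4 LD2_c59 LD3_c9))))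
theorem f545804 : Led Lsl_at (LP (LK LD1_c4 LD2_c59 LD3_c9)) = (LP (LK LD1_c9 LD2_c6 LD3_c54)) :=
  Lgr Lrot66 (Lpe (f545803 IH) (Lpe (K37.f139003 IH) (Lpr_ff (K37.f545800 IH) (Lpn (LP (LK LD1_c9 LD2_c6 LD3_c54))))))
theorem f598530 : Led Lsl_af (LP (LK LD1_c11 LD2_c29 LD3_c25)) = (LP (LK LD1_c16 LD2_c29 LD3_c61)) :=
  Lgr Lrot36 (Lpr_bt (K42.f571944 IH) (Lpr_at (f598522 IH) (Lpr_bt (f563009 IH) (Lpr_at (f545804 IH) (Lpr_bt (K44.f563141 IH) (Lpn (LP (LK LD1_c16 LD2_c29 LD3_c61))))))))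
theorem f571946 : Led Lsl_et (LP (LK LD1_c11 LD2_c29 LD3_c25)) = (LP (LK LD1_c20 LD2_c26 LD3_c29)) :=
  Lre_e IH (LK LD1_c11 LD2_c29 LD3_c25) (LK LD1_c20 LD2_c26 LD3_c29) Lrfl Lrfl
theorem f598532 : Led Lsl_at (LP (LK LD1_c20 LD2_c26 LD3_c29)) = (LP (LK LD1_c26 LD2_c26 LD3_c49)) :=
  Lgr Lrot80 (Lpe (f571946 IH) (Lpr_af (f598530 IH) (Lpe (f138932 IH) (Lpn (LP (LK LD1_c26 LD2_c26 LD3_c49))))))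
theorem f601001 : Led Lsl_dt (LP (LK LD1_c15 LD2_c26 LD3_c47)) = (LP (LK LD1_c20 LD2_c26 LD3_c29)) :=
  Lgr Lrot44 (Lpr_af (f600993 IH) (Lpe (f138939 IH) (Lpe (f598532 IH) (Lpn (LP (LK LD1_c20 LD2_c26 LD3_c29))))))
theorem f601009 : Led Lsl_et (LP (LK LD1_c8 LD2_c12 LD3_c39)) = (LP (LK LD1_c15 LD2_c26 LD3_c47)) :=
  Lre_e IH (LK LD1_c8 LD2_c12 LD3_c39) (LK LD1_c15 LD2_c26 LD3_c47) Lrfl Lrfl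
theorem f571949 : Led Lsl_et (LP (LK LD1_c20 LD2_c26 LD3_c29)) = (LP (LK LD1_c11 LD2_c29 LD3_c25)) :=
  Lre_e IH (LK LD1_c20 LD2_c26 LD3_c29) (LK LD1_c11 LD2_c29 LD3_c25) Lrfl Lrfl
theorem f601010 : Led Lsl_df (LP (LK LD1_c8 LD2_c12 LD3_c39)) = (LP (LK LD1_c8 LD2_c49 LD3_c4)) :=
  Lgr Lrot70 (Lpr_et (f601009 IH) (Lpr_dt (f601001 IH) (Lpr_et (f571949 IH) (Lpr_dt (K42.f571934 IH) (Lpe (K45.f594893 IH) (Lpn (LP (LK LD1_c8 LD2_c49 LD3_c4))))))))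
theorem f597920 : Led Lsl_ff (LP (LK LD1_c5 LD2_c44 LD3_c2)) = (LP (LK LD1_c2 LD2_c48 LD3_c10)) :=
  Lgr Lrot3 (Lpr_ft (K50.f597914 IH) (Lpn (LP (LK LD1_c2 LD2_c48 LD3_c10))))
theorem f597929 : Led Lsl_at (LP (LK LD1_c5 LD2_c44 LD3_c2)) = (LP (LK LD1_c2 LD2_c48 LD3_c9)) :=
  Lgr Lrot26 (Lpr_ff (f597920 IH) (Lpr_gt (K50.f174698 IH) (Lpr_gt (K36.f211899 IH) (Lpn (LP (LK LD1_c2 LD2_c48 LD3_c9))))))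
theorem f597909 : Led Lsl_at (LP (LK LD1_c5 LD2_c44 LD3_c3)) = (LP (LK LD1_c2 LD2_c48 LD3_c10)) :=
  Lgr Lrot100 (Lpr_af (K50.f597906 IH) (Lpn (LP (LK LD1_c2 LD2_c48 LD3_c10))))
theorem f597940 : Led Lsl_ff (LP (LK LD1_c5 LD2_c44 LD3_c3)) = (LP (LK LD1_c2 LD2_c48 LD3_c9)) :=
  Lgr Lrot30 (Lpr_at (f597909 IH) (Lpe (f597920 IH) (Lpr_at (f597929 IH) (Lpn (LP (LK LD1_c2 LD2_c48 LD3_c9))))))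
theorem f597944 : Led Lsl_ft (LP (LK LD1_c11 LD2_c6 LD3_c36)) = (LP (LK LD1_c5 LD2_c44 LD3_c30)) :=
  Lgr Lrot4 (Lpe (K40.f383973 IH) (Lpr_ff (f597940 IH) (Lpe (K39.f211900 IH) (Lpn (LP (LK LD1_c5 LD2_c44 LD3_c30))))))
theorem f549309 : Led Lsl_at (LP (LK LD1_c15 LD2_c4 LD3_c15)) = (LP (LK LD1_c7 LD2_c59 LD3_c36)) :=
  Lre_a IH (LK LD1_c15 LD2_c4 LD3_c15) (LK LD1_c7 LD2_c59 LD3_c36) Lrfl Lrfl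
theorem f549310 : Led Lsl_ft (LP (LK LD1_c11 LD2_c7 LD3_c1)) = (LP (LK LD1_c15 LD2_c4 LD3_c15)) :=
  Lgr Lrot2 (Lpr_gt (K39.f211895 IH) (Lpr_gt (K39.f549307 IH) (Lpe (f549309 IH) (Lpn (LP (LK LD1_c15 LD2_c4 LD3_c15))))))
theorem f598026 : Led Lsl_bf (LP (LK LD1_c11 LD2_c6 LD3_c36)) = (LP (LK LD1_c15 LD2_c4 LD3_c15)) :=
  Lgr Lrot61 (Lpr_ft (f597944 IH) (Lpe (K39.f211901 IH) (Lpr_ft (f549310 IH) (Lpn (LP (LK LD1_c15 LD2_c4 LD3_c15))))))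
theorem f381807 : Led Lsl_bt (LP (LK LD1_c1 LD2_c20 LD3_c17)) = (LP (LK LD1_c2 LD2_c48 LD3_c3)) :=
  Lre_b IH (LK LD1_c1 LD2_c20 LD3_c17) (LK LD1_c2 LD2_c48 LD3_c3) Lrfl Lrfl
theorem f424046 : Led Lsl_bt (LP (LK LD1_c2 LD2_c47 LD3_c15)) = (LP (LK LD1_c5 LD2_c42 LD3_c30)) :=
  Lre_b IH (LK LD1_c2 LD2_c47 LD3_c15) (LK LD1_c5 LD2_c42 LD3_c30) Lrfl Lrfl
theorem f423906 : Led Lsl_gt (LP (LK LD1_c11 LD2_c15 LD3_c8)) = (LP (LK LD1_c5 LD2_c42 LD3_c28)) :=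
  Lre_g IH (LK LD1_c11 LD2_c15 LD3_c8) (LK LD1_c5 LD2_c42 LD3_c28) Lrfl Lrfl
theorem f423907 : Led Lsl_dt (LP (LK LD1_c20 LD2_c10 LD3_c5)) = (LP (LK LD1_c11 LD2_c15 LD3_c8)) :=
  Lre_d IH (LK LD1_c20 LD2_c10 LD3_c5) (LK LD1_c11 LD2_c15 LD3_c8) Lrfl Lrfl
theorem f588753 : Led Lsl_gf (LP (LK LD1_c20 LD2_c10 LD3_c5)) = (LP (LK LD1_c16 LD2_c52 LD3_c8)) :=
  Lgr Lrot148 (Lpr_dt (f423907 IH) (Lpr_gt (f423906 IH) (Lpr_dt (K45.f422922 IH) (Lpr_ct (K38.f423905 IH) (Lpe (K36.f423897 IH) (Lpr_gf (K31.f411695 IH) (Lpr_df (K30.f385394 IH) (Lpe (K45.f385400 IH) (Lpr_ct (K45.f588740 IH) (Lpn (LP (LK LD1_c16 LD2_c52 LD3_c8))))))))))))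
theorem f561941 : Led Lsl_af (LP (LK LD1_c11 LD2_c23 LD3_c51)) = (LP (LK LD1_c11 LD2_c15 LD3_c56)) :=
  Lgr Lrot0 (Lpr_at (K40.f561939 IH) (Lpn (LP (LK LD1_c11 LD2_c15 LD3_c56))))
theorem f588756 : Led Lsl_gt (LP (LK LD1_c20 LD2_c10 LD3_c5)) = (LP (LK LD1_c11 LD2_c23 LD3_c51)) :=
  Lgr Lrot46 (Lpr_gf (f588753 IH) (Lpe (K45.f586887 IH) (Lpe (f561941 IH) (Lpn (LP (LK LD1_c11 LD2_c23 LD3_c51))))))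
theorem f424378 : Led Lsl_dt (LP (LK LD1_c11 LD2_c15 LD3_c8)) = (LP (LK LD1_c20 LD2_c10 LD3_c5)) :=
  Lre_d IH (LK LD1_c11 LD2_c15 LD3_c8) (LK LD1_c20 LD2_c10 LD3_c5) Lrfl Lrfl
theorem f588760 : Led Lsl_gf (LP (LK LD1_c11 LD2_c15 LD3_c8)) = (LP (LK LD1_c5 LD2_c42 LD3_c32)) :=
  Lgr Lrot144 (Lpr_dt (f424378 IH) (Lpr_gt (f588756 IH) (Lpr_dt (K40.f73060 IH) (Lpe (K40.f68607 IH) (Lpe (K37.f73015 IH) (Lpr_gf (K39.f495976 IH) (Lpq (K39.f547709 IH) (Lpr_df (K18.f168221 IH) (Lpe (K36.f423863 IH) (Lpe (K36.f280529 IH) (Lpn (LP (LK LD1_c5 LD2_c42 LD3_c32)))))))))))))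
theorem f598035 : Led Lsl_cf (LP (LK LD1_c11 LD2_c15 LD3_c8)) = (LP (LK LD1_c15 LD2_c4 LD3_c15)) :=
  Lgr Lrot58 (Lpr_gf (f588760 IH) (Lpe (K36.f280527 IH) (Lpr_bt (f424046 IH) (Lpe (K39.f424042 IH) (Lpe (f381807 IH) (Lpr_ct (K27.f381609 IH) (Lpe (K36.f381512 IH) (Lpr_cf (K36.f381804 IH) (Lpr_gf (K36.f542634 IH) (Lpr_bf (f598026 IH) (Lpn (LP (LK LD1_c15 LD2_c4 LD3_c15)))))))))))))
theorem f598045 : Led Lsl_gt (LP (LK LD1_c11 LD2_c7 LD3_c31)) = (LP (LK LD1_c15 LD2_c4 LD3_c15)) :=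
  Lgr Lrot9 (Lpr_df (K31.f424088 IH) (Lpe (K41.f566691 IH) (Lpr_ct (K43.f566683 IH) (Lpe (K39.f552581 IH) (Lpr_ct (K38.f172748 IH) (Lpe (K31.f412032 IH) (Lpe (K31.f271572 IH) (Lpe (f423906 IH) (Lpr_cf (f598035 IH) (Lpn (LP (LK LD1_c15 LD2_c4 LD3_c15))))))))))))
theorem f598033 : Led Lsl_dt (LP (LK LD1_c9 LD2_c1 LD3_c18)) = (LP (LK LD1_c15 LD2_c4 LD3_c15)) :=
  Lgr Lrot79 (Lpe (K39.f418926 IH) (Lpe (K35.f383972 IH) (Lpr_bf (f598026 IH) (Lpn (LP (LK LD1_c15 LD2_c4 LD3_c15))))))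
theorem f427545 : Led Lsl_et (LP (LK LD1_c9 LD2_c1 LD3_c18)) = (LP (LK LD1_c8 LD2_c14 LD3_c48)) :=
  Lgr Lrot87 (Lpr_ef (K43.f427543 IH) (Lpn (LP (LK LD1_c8 LD2_c14 LD3_c48))))
theorem f601025 : Led Lsl_gf (LP (LK LD1_c8 LD2_c12 LD3_c39)) = (LP (LK LD1_c9 LD2_c47 LD3_c33)) :=
  Lgr Lrot134 (Lpr_df (f601010 IH) (Lpe (K42.f572017 IH) (Lpe (K43.f573021 IH) (Lpr_ef (K43.f573003 IH) (Lpe (K31.f424088 IH) (Lpr_gt (f598045 IH) (Lpe (f598033 IH) (Lpr_et (f427545 IH) (Lpr_gt (K42.f55997 IH) (Lpe (K44.f557623 IH) (Lpn (LP (LK LD1_c9 LD2_c47 LD3_c33)))))))))))))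
theorem f601019 : Led Lsl_gt (LP (LK LD1_c8 LD2_c12 LD3_c39)) = (LP (LK LD1_c9 LD2_c47 LD3_c34)) :=
  Lgr Lrot49 (Lpr_df (f601010 IH) (Lpr_gf (K37.f421439 IH) (Lpr_cf (K41.f567231 IH) (Lpe (K40.f557795 IH) (Lpr_dt (K16.f242843 IH) (Lpr_gt (K40.f557789 IH) (Lpr_dt (K43.f117593 IH) (Lpe (K42.f117571 IH) (Lpr_df (K45.f572910 IH) (Lpn (LP (LK LD1_c9 LD2_c47 LD3_c34))))))))))))
theorem f586713 : Led Lsl_ft (LP (LK LD1_c9 LD2_c47 LD3_c33)) = (LP (LK LD1_c5 LD2_c7 LD3_c55)) :=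
  Lgr Lrot48 (Lpr_ff (K45.f586709 IH) (Lpn (LP (LK LD1_c5 LD2_c7 LD3_c55))))
theorem f601029 : Led Lsl_af (LP (LK LD1_c9 LD2_c47 LD3_c34)) = (LP (LK LD1_c5 LD2_c7 LD3_c55)) :=
  Lgr Lrot31 (Lpe (f601019 IH) (Lpr_gf (f601025 IH) (Lpr_ft (f586713 IH) (Lpn (LP (LK LD1_c5 LD2_c7 LD3_c55))))))
theorem f572912 : Led Lsl_et (LP (LK LD1_c9 LD2_c47 LD3_c34)) = (LP (LK LD1_c17 LD2_c57 LD3_c53)) :=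
  Lre_e IH (LK LD1_c9 LD2_c47 LD3_c34) (LK LD1_c17 LD2_c57 LD3_c53) Lrfl Lrfl
theorem f545046 : Led Lsl_et (LP (LK LD1_c10 LD2_c6 LD3_c13)) = (LP (LK LD1_c5 LD2_c7 LD3_c55)) :=
  Lre_e IH (LK LD1_c10 LD2_c6 LD3_c13) (LK LD1_c5 LD2_c7 LD3_c55) Lrfl Lrfl
theorem f601036 : Led Lsl_at (LP (LK LD1_c17 LD2_c57 LD3_c53)) = (LP (LK LD1_c10 LD2_c6 LD3_c13)) :=
  Lgr Lrot80 (Lpe (f572912 IH) (Lpr_af (f601029 IH) (Lpe (f545046 IH) (Lpn (LP (LK LD1_c10 LD2_c6 LD3_c13))))))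
theorem f601042 : Led Lsl_df (LP (LK LD1_c17 LD2_c57 LD3_c53)) = (LP (LK LD1_c11 LD2_c29 LD3_c42)) :=
  Lgr Lrot18 (Lpr_at (f601036 IH) (Lpe (K38.f545034 IH) (Lpr_at (K52.f24084 IH) (Lpn (LP (LK LD1_c11 LD2_c29 LD3_c42))))))
theorem f494453 : Led Lsl_ct (LP (LK LD1_c4 LD2_c37 LD3_c20)) = (LP (LK LD1_c2 LD2_c15 LD3_c50)) :=
  Lre_c IH (LK LD1_c4 LD2_c37 LD3_c20) (LK LD1_c2 LD2_c15 LD3_c50) Lrfl Lrfl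
theorem f540027 : Led Lsl_gt (LP (LK LD1_c9 LD2_c10 LD3_c17)) = (LP (LK LD1_c4 LD2_c37 LD3_c20)) :=
  Lre_g IH (LK LD1_c9 LD2_c10 LD3_c17) (LK LD1_c4 LD2_c37 LD3_c20) Lrfl Lrfl
theorem f601021 : Led Lsl_ct (LP (LK LD1_c9 LD2_c47 LD3_c34)) = (LP (LK LD1_c9 LD2_c10 LD3_c17)) :=
  Lgr Lrot152 (Lpe (f601019 IH) (Lpr_df (f601010 IH) (Lpr_gt (K42.f421450 IH) (Lpr_ct (K45.f571585 IH) (Lpr_gt (K42.f439085 IH) (Lpr_ct (K35.f494435 IH) (Lpe (K53.f494436 IH) (Lpe (f494453 IH) (Lpe (f540027 IH) (Lpn (LP (LK LD1_c9 LD2_c10 LD3_c17))))))))))))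
theorem f601034 : Led Lsl_at (LP (LK LD1_c9 LD2_c10 LD3_c17)) = (LP (LK LD1_c10 LD2_c6 LD3_c12)) :=
  Lgr Lrot107 (Lpe (f601021 IH) (Lpr_af (f601029 IH) (Lpe (K45.f3293 IH) (Lpn (LP (LK LD1_c10 LD2_c6 LD3_c12))))))
theorem f601054 : Led Lsl_et (LP (LK LD1_c17 LD2_c3 LD3_c28)) = (LP (LK LD1_c9 LD2_c10 LD3_c17)) :=
  Lre_e IH (LK LD1_c17 LD2_c3 LD3_c28) (LK LD1_c9 LD2_c10 LD3_c17) Lrfl Lrfl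
theorem f590512 : Led Lsl_et (LP (LK LD1_c10 LD2_c6 LD3_c12)) = (LP (LK LD1_c18 LD2_c25 LD3_c13)) :=
  Lre_e IH (LK LD1_c10 LD2_c6 LD3_c12) (LK LD1_c18 LD2_c25 LD3_c13) Lrfl Lrfl
theorem f601055 : Led Lsl_af (LP (LK LD1_c17 LD2_c3 LD3_c28)) = (LP (LK LD1_c18 LD2_c25 LD3_c13)) :=
  Lgr Lrot50 (Lpr_et (f601054 IH) (Lpr_at (f601034 IH) (Lpr_et (f590512 IH) (Lpn (LP (LK LD1_c18 LD2_c25 LD3_c13))))))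
theorem f601059 : Led Lsl_ct (LP (LK LD1_c17 LD2_c3 LD3_c28)) = (LP (LK LD1_c17 LD2_c57 LD3_c53)) :=
  Lgr Lrot111 (Lpr_af (f601055 IH) (Lpe (K52.f545103 IH) (Lpe (f601036 IH) (Lpn (LP (LK LD1_c17 LD2_c57 LD3_c53))))))
theorem f752380 : Led Lsl_gf (LP (LK LD1_c17 LD2_c3 LD3_c28)) = v16901 :=
  Lgr Lrot104 (Lpr_ct (f601059 IH) (Lpr_df (f601042 IH) (Lpe (K4.f117497 IH) (Lpe (f712508 IH) (Lpe (K52.f58503 IH) (Lpqs (f714141 IH) (Lpe (f648263 IH) (Lpe (K50.f496809 IH) (Lpe (K52.f714122 IH) (Lpr_ct (f752377 IH) (Lpn v16901)))))))))))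
theorem f58583 : Led Lsl_ct (LP (LK LD1_c17 LD2_c9 LD3_c49)) = (LP (LK LD1_c9 LD2_c15 LD3_c17)) :=
  Lre_c IH (LK LD1_c17 LD2_c9 LD3_c49) (LK LD1_c9 LD2_c15 LD3_c17) Lrfl Lrfl
theorem f752379 : Led Lsl_ff (LP (LK LD1_c17 LD2_c9 LD3_c49)) = v16901 :=
  Lgr Lrot23 (Lpr_ct (f58583 IH) (Lpe (K52.f645393 IH) (Lpr_ct (f752377 IH) (Lpn v16901))))
theorem f185710 : Led Lsl_ct (LP (LK LD1_c10 LD2_c17 LD3_c14)) = (LP (LK LD1_c18 LD2_c42 LD3_c10)) :=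
  Lre_c IH (LK LD1_c10 LD2_c17 LD3_c14) (LK LD1_c18 LD2_c42 LD3_c10) Lrfl Lrfl
theorem f714462 : Led Lsl_af (LP (LK LD1_c17 LD2_c9 LD3_c49)) = (LP (LK LD1_c18 LD2_c42 LD3_c10)) :=
  Lgr Lrot68 (Lpr_ct (f58583 IH) (Lpr_at (K53.f714422 IH) (Lpr_ct (f185710 IH) (Lpn (LP (LK LD1_c18 LD2_c42 LD3_c10))))))
theorem f714641 : Led Lsl_at (LP (LK LD1_c17 LD2_c9 LD3_c49)) = (LP (LK LD1_c18 LD2_c42 LD3_c10)) :=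
  Lgr Lrot100 (Lpr_af (f714462 IH) (Lpn (LP (LK LD1_c18 LD2_c42 LD3_c10))))
theorem f752381 : Led Lsl_gt (LP (LK LD1_c17 LD2_c3 LD3_c28)) = (LP (LK LD1_c18 LD2_c42 LD3_c10)) :=
  Lgr Lrot46 (Lpr_gf (f752380 IH) (Lpe (f752379 IH) (Lpr_at (f714641 IH) (Lpn (LP (LK LD1_c18 LD2_c42 LD3_c10))))))
theorem f752382 : Led Lsl_gt (LP (LK LD1_c17 LD2_c3 LD3_c28)) = (LP (LK LD1_c18 LD2_c42 LD3_c10)) :=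
  Leop (Lpe (f752381 IH) (Lpn (LP (LK LD1_c17 LD2_c3 LD3_c28))))
theorem seed_1071 : LEOK LG_g (LK LD1_c17 LD2_c3 LD3_c28) :=
  Leoe_g (LK LD1_c17 LD2_c3 LD3_c28) (f752382 IH)
def v16913 : LQ := Led Lsl_ct (LP (LK LD1_c6 LD2_c8 LD3_c39))
theorem f752427 : Led Lsl_ct (LP (LK LD1_c6 LD2_c8 LD3_c39)) = v16913 :=
  Lrfl
theorem f752428 : Led Lsl_cf (LP (LK LD1_c6 LD2_c8 LD3_c39)) = v16913 :=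
  Lgr Lrot11 (Lpr_ct (f752427 IH) (Lpn v16913))
theorem f74914 : Led Lsl_gt (LP (LK LD1_c3 LD2_c0 LD3_c39)) = (LP (LK LD1_c6 LD2_c8 LD3_c39)) :=
  Lre_g IH (LK LD1_c3 LD2_c0 LD3_c39) (LK LD1_c6 LD2_c8 LD3_c39) Lrfl Lrfl
theorem f58606 : Led Lsl_ct (LP (LK LD1_c1 LD2_c26 LD3_c9)) = (LP (LK LD1_c3 LD2_c0 LD3_c39)) :=
  Lre_c IH (LK LD1_c1 LD2_c26 LD3_c9) (LK LD1_c3 LD2_c0 LD3_c39) Lrfl Lrfl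
theorem f58505 : Led Lsl_bt (LP (LK LD1_c6 LD2_c8 LD3_c47)) = (LP (LK LD1_c3 LD2_c0 LD3_c41)) :=
  Lre_b IH (LK LD1_c6 LD2_c8 LD3_c47) (LK LD1_c3 LD2_c0 LD3_c41) Lrfl Lrfl
theorem f712140 : Led Lsl_bt (LP (LK LD1_c11 LD2_c59 LD3_c1)) = (LP (LK LD1_c6 LD2_c8 LD3_c48)) :=
  Lre_b IH (LK LD1_c11 LD2_c59 LD3_c1) (LK LD1_c6 LD2_c8 LD3_c48) Lrfl Lrfl
theorem f646359 : Led Lsl_bt (LP (LK LD1_c3 LD2_c0 LD3_c41)) = (LP (LK LD1_c6 LD2_c8 LD3_c47)) :=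
  Lre_b IH (LK LD1_c3 LD2_c0 LD3_c41) (LK LD1_c6 LD2_c8 LD3_c47) Lrfl Lrfl
theorem f712141 : Led Lsl_bt (LP (LK LD1_c11 LD2_c25 LD3_c38)) = (LP (LK LD1_c20 LD2_c23 LD3_c3)) :=
  Lre_b IH (LK LD1_c11 LD2_c25 LD3_c38) (LK LD1_c20 LD2_c23 LD3_c3) Lrfl Lrfl
theorem f712142 : Led Lsl_ct (LP (LK LD1_c6 LD2_c8 LD3_c47)) = (LP (LK LD1_c11 LD2_c25 LD3_c38)) :=
  Lgr Lrot83 (Lpe (f646359 IH) (Lpe (K52.f58625 IH) (Lpe (f712140 IH) (Lpr_cf (K52.f712138 IH) (Lpe (f712141 IH) (Lpn (LP (LK LD1_c11 LD2_c25 LD3_c38))))))))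
theorem f24112 : Led Lsl_gt (LP (LK LD1_c20 LD2_c26 LD3_c46)) = (LP (LK LD1_c11 LD2_c29 LD3_c45)) :=
  Lre_g IH (LK LD1_c20 LD2_c26 LD3_c46) (LK LD1_c11 LD2_c29 LD3_c45) Lrfl Lrfl
theorem f752430 : Led Lsl_bf (LP (LK LD1_c20 LD2_c26 LD3_c46)) = v16913 :=
  Lgr Lrot156 (Lpr_gt (f24112 IH) (Lpe (K4.f24106 IH) (Lpr_ct (K51.f24115 IH) (Lpe (K52.f440859 IH) (Lpe (f712142 IH) (Lpr_bt (f58505 IH) (Lpr_gt (K52.f58504 IH) (Lpr_ct (f58606 IH) (Lpr_gt (f74914 IH) (Lpr_cf (f752428 IH) (Lpn v16913)))))))))))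
theorem f117503 : Led Lsl_gt (LP (LK LD1_c11 LD2_c29 LD3_c42)) = (LP (LK LD1_c20 LD2_c26 LD3_c46)) :=
  Lre_g IH (LK LD1_c11 LD2_c29 LD3_c42) (LK LD1_c20 LD2_c26 LD3_c46) Lrfl Lrfl
theorem f132445 : Led Lsl_bf (LP (LK LD1_c11 LD2_c29 LD3_c42)) = (LP (LK LD1_c11 LD2_c25 LD3_c25)) :=
  Lgr Lrot24 (Lpr_bt (K51.f132441 IH) (Lpn (LP (LK LD1_c11 LD2_c25 LD3_c25))))
theorem f206943 : Led Lsl_df (LP (LK LD1_c6 LD2_c28 LD3_c60)) = (LP (LK LD1_c9 LD2_c9 LD3_c20)) :=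
  Lgr Lrot38 (Lpr_dt (K36.f206934 IH) (Lpn (LP (LK LD1_c9 LD2_c9 LD3_c20))))
theorem f207016 : Led Lsl_af (LP (LK LD1_c9 LD2_c9 LD3_c20)) = (LP (LK LD1_c4 LD2_c37 LD3_c8)) :=
  Lgr Lrot117 (Lpe (f206943 IH) (Lpr_at (K36.f207014 IH) (Lpe (K6.f141755 IH) (Lpn (LP (LK LD1_c4 LD2_c37 LD3_c8))))))
theorem f157884 : Led Lsl_et (LP (LK LD1_c9 LD2_c9 LD3_c20)) = (LP (LK LD1_c17 LD2_c2 LD3_c21)) :=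
  Lre_e IH (LK LD1_c9 LD2_c9 LD3_c20) (LK LD1_c17 LD2_c2 LD3_c21) Lrfl Lrfl
theorem f100285 : Led Lsl_et (LP (LK LD1_c9 LD2_c10 LD3_c0)) = (LP (LK LD1_c4 LD2_c37 LD3_c8)) :=
  Lre_e IH (LK LD1_c9 LD2_c10 LD3_c0) (LK LD1_c4 LD2_c37 LD3_c8) Lrfl Lrfl
theorem f207026 : Led Lsl_at (LP (LK LD1_c17 LD2_c2 LD3_c21)) = (LP (LK LD1_c9 LD2_c10 LD3_c0)) :=
  Lgr Lrot80 (Lpe (f157884 IH) (Lpr_af (f207016 IH) (Lpe (f100285 IH) (Lpn (LP (LK LD1_c9 LD2_c10 LD3_c0))))))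
theorem f100286 : Led Lsl_ct (LP (LK LD1_c5 LD2_c47 LD3_c56)) = (LP (LK LD1_c9 LD2_c10 LD3_c0)) :=
  Lgr Lrot15 (Lpe (K8.f100284 IH) (Lpr_cf (K4.f100250 IH) (Lpe (f100285 IH) (Lpn (LP (LK LD1_c9 LD2_c10 LD3_c0))))))
theorem f100296 : Led Lsl_cf (LP (LK LD1_c5 LD2_c47 LD3_c56)) = (LP (LK LD1_c9 LD2_c10 LD3_c0)) :=
  Lgr Lrot11 (Lpr_ct (f100286 IH) (Lpn (LP (LK LD1_c9 LD2_c10 LD3_c0))))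
theorem f100325 : Led Lsl_at (LP (LK LD1_c5 LD2_c47 LD3_c56)) = (LP (LK LD1_c11 LD2_c25 LD3_c25)) :=
  Lre_a IH (LK LD1_c5 LD2_c47 LD3_c56) (LK LD1_c11 LD2_c25 LD3_c25) Lrfl Lrfl
theorem f207030 : Led Lsl_cf (LP (LK LD1_c17 LD2_c2 LD3_c21)) = (LP (LK LD1_c11 LD2_c25 LD3_c25)) :=
  Lgr Lrot1 (Lpr_at (f207026 IH) (Lpe (f100296 IH) (Lpr_at (f100325 IH) (Lpn (LP (LK LD1_c11 LD2_c25 LD3_c25))))))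
theorem f74915 : Led Lsl_gt (LP (LK LD1_c6 LD2_c8 LD3_c39)) = (LP (LK LD1_c11 LD2_c40 LD3_c55)) :=
  Lgr Lrot46 (Lpe (f74914 IH) (Lpr_ft (K2.f74885 IH) (Lpr_at (K2.f74887 IH) (Lpn (LP (LK LD1_c11 LD2_c40 LD3_c55))))))
theorem f75000 : Led Lsl_bt (LP (LK LD1_c4 LD2_c40 LD3_c2)) = (LP (LK LD1_c2 LD2_c17 LD3_c6)) :=
  Lre_b IH (LK LD1_c4 LD2_c40 LD3_c2) (LK LD1_c2 LD2_c17 LD3_c6) Lrfl Lrfl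
theorem f58568 : Led Lsl_at (LP (LK LD1_c2 LD2_c17 LD3_c6)) = (LP (LK LD1_c1 LD2_c26 LD3_c13)) :=
  Lre_a IH (LK LD1_c2 LD2_c17 LD3_c6) (LK LD1_c1 LD2_c26 LD3_c13) Lrfl Lrfl
theorem f100066 : Led Lsl_bf (LP (LK LD1_c9 LD2_c9 LD3_c61)) = (LP (LK LD1_c5 LD2_c58 LD3_c10)) :=
  Lgr Lrot81 (Lpr_at (K6.f100054 IH) (Lpr_bt (f75000 IH) (Lpr_at (f58568 IH) (Lpr_bt (K55.f58587 IH) (Lpr_at (K2.f74994 IH) (Lpn (LP (LK LD1_c5 LD2_c58 LD3_c10))))))))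
theorem f99646 : Led Lsl_ft (LP (LK LD1_c9 LD2_c9 LD3_c61)) = (LP (LK LD1_c4 LD2_c37 LD3_c7)) :=
  Lre_f IH (LK LD1_c9 LD2_c9 LD3_c61) (LK LD1_c4 LD2_c37 LD3_c7) Lrfl Lrfl
theorem f79978 : Led Lsl_gt (LP (LK LD1_c4 LD2_c40 LD3_c1)) = (LP (LK LD1_c2 LD2_c17 LD3_c3)) :=
  Lre_g IH (LK LD1_c4 LD2_c40 LD3_c1) (LK LD1_c2 LD2_c17 LD3_c3) Lrfl Lrfl
theorem f100100 : Led Lsl_gt (LP (LK LD1_c9 LD2_c9 LD3_c61)) = (LP (LK LD1_c4 LD2_c40 LD3_c1)) :=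
  Lgr Lrot5 (Lpr_ft (f99646 IH) (Lpr_at (K6.f100083 IH) (Lpe (f79978 IH) (Lpn (LP (LK LD1_c4 LD2_c40 LD3_c1))))))
theorem f100106 : Led Lsl_ct (LP (LK LD1_c4 LD2_c40 LD3_c1)) = (LP (LK LD1_c9 LD2_c15 LD3_c34)) :=
  Lre_c IH (LK LD1_c4 LD2_c40 LD3_c1) (LK LD1_c9 LD2_c15 LD3_c34) Lrfl Lrfl
theorem f752432 : Led Lsl_gf (LP (LK LD1_c17 LD2_c2 LD3_c21)) = (LP (LK LD1_c9 LD2_c15 LD3_c34)) :=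
  Lgr Lrot129 (Lpr_cf (f207030 IH) (Lpe (f132445 IH) (Lpr_gt (f117503 IH) (Lpr_bf (f752430 IH) (Lpe (f752428 IH) (Lpr_gt (f74915 IH) (Lpe (K2.f74896 IH) (Lpe (f100066 IH) (Lpr_gt (f100100 IH) (Lpr_ct (f100106 IH) (Lpn (LP (LK LD1_c9 LD2_c15 LD3_c34)))))))))))))
theorem f752433 : Led Lsl_gt (LP (LK LD1_c9 LD2_c15 LD3_c34)) = (LP (LK LD1_c17 LD2_c2 LD3_c21)) :=
  Leop (Lpr_gf (f752432 IH) (Lpn (LP (LK LD1_c9 LD2_c15 LD3_c34))))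
theorem seed_1072 : LEOK LG_g (LK LD1_c9 LD2_c15 LD3_c34) :=
  Leoe_g (LK LD1_c9 LD2_c15 LD3_c34) (f752433 IH)
def v16922 : LQ := Led Lsl_at (LP (LK LD1_c6 LD2_c8 LD3_c44))
theorem f752471 : Led Lsl_at (LP (LK LD1_c6 LD2_c8 LD3_c44)) = v16922 :=
  Lrfl
def v5173 : LQ := Led Lsl_at (LP (LK LD1_c3 LD2_c0 LD3_c40))
theorem f646352 : Led Lsl_at (LP (LK LD1_c3 LD2_c0 LD3_c40)) = v5173 :=
  Lrfl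
theorem f646353 : Led Lsl_af (LP (LK LD1_c3 LD2_c0 LD3_c40)) = v5173 :=
  Lgr Lrot0 (Lpr_at (f646352 IH) (Lpn v5173))
theorem f752473 : Led Lsl_cf v5173 = v16922 :=
  Lgr Lrot1 (Lpe (f646353 IH) (Lpr_ct (K55.f58499 IH) (Lpr_at (f752471 IH) (Lpn v16922))))
theorem f646355 : Led Lsl_ft (LP (LK LD1_c3 LD2_c0 LD3_c41)) = v5173 :=
  Lgr Lrot2 (Lpr_gt (K52.f58504 IH) (Lpr_gt (K2.f58498 IH) (Lpr_af (f646353 IH) (Lpn v5173))))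
theorem f646358 : Led Lsl_ff (LP (LK LD1_c3 LD2_c0 LD3_c41)) = v5173 :=
  Lgr Lrot3 (Lpr_ft (f646355 IH) (Lpn v5173))
theorem f76251 : Led Lsl_ct (LP (LK LD1_c3 LD2_c0 LD3_c41)) = (LP (LK LD1_c6 LD2_c8 LD3_c48)) :=
  Lre_c IH (LK LD1_c3 LD2_c0 LD3_c41) (LK LD1_c6 LD2_c8 LD3_c48) Lrfl Lrfl
theorem f752475 : Led Lsl_ft (LP (LK LD1_c6 LD2_c8 LD3_c48)) = v16922 :=
  Lgr Lrot4 (Lpe (f76251 IH) (Lpr_ff (f646358 IH) (Lpr_cf (f752473 IH) (Lpn v16922))))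
theorem f752472 : Led Lsl_af (LP (LK LD1_c6 LD2_c8 LD3_c44)) = v16922 :=
  Lgr Lrot0 (Lpr_at (f752471 IH) (Lpn v16922))
theorem f428356 : Led Lsl_ft (LP (LK LD1_c11 LD2_c40 LD3_c9)) = (LP (LK LD1_c20 LD2_c40 LD3_c16)) :=
  Lre_f IH (LK LD1_c11 LD2_c40 LD3_c9) (LK LD1_c20 LD2_c40 LD3_c16) Lrfl Lrfl
theorem f499706 : Led Lsl_af (LP (LK LD1_c11 LD2_c41 LD3_c5)) = (LP (LK LD1_c20 LD2_c40 LD3_c16)) :=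
  Lgr Lrot45 (Lpr_ft (K55.f74737 IH) (Lpr_at (K55.f499698 IH) (Lpr_ft (f428356 IH) (Lpn (LP (LK LD1_c20 LD2_c40 LD3_c16))))))
theorem f720177 : Led Lsl_gf (LP (LK LD1_c6 LD2_c8 LD3_c44)) = (LP (LK LD1_c11 LD2_c40 LD3_c9)) :=
  Lgr Lrot47 (Lpr_gt (K55.f720175 IH) (Lpr_af (f499706 IH) (Lpe (f428356 IH) (Lpn (LP (LK LD1_c11 LD2_c40 LD3_c9))))))
theorem f752478 : Led Lsl_gt (LP (LK LD1_c6 LD2_c8 LD3_c48)) = (LP (LK LD1_c11 LD2_c40 LD3_c9)) :=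
  Lgr Lrot5 (Lpr_ft (f752475 IH) (Lpe (f752472 IH) (Lpr_gf (f720177 IH) (Lpn (LP (LK LD1_c11 LD2_c40 LD3_c9))))))
theorem f752479 : Led Lsl_gt (LP (LK LD1_c6 LD2_c8 LD3_c48)) = (LP (LK LD1_c11 LD2_c40 LD3_c9)) :=
  Leop (Lpe (f752478 IH) (Lpn (LP (LK LD1_c6 LD2_c8 LD3_c48))))
theorem seed_1073 : LEOK LG_g (LK LD1_c6 LD2_c8 LD3_c48) :=
  Leoe_g (LK LD1_c6 LD2_c8 LD3_c48) (f752479 IH)
theorem f752480 : Led Lsl_gf (LP (LK LD1_c6 LD2_c8 LD3_c48)) = (LP (LK LD1_c11 LD2_c41 LD3_c5)) :=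
  Lgr Lrot47 (Lpr_gt (f752478 IH) (Lpe (K55.f499698 IH) (Lpe (K55.f74737 IH) (Lpn (LP (LK LD1_c11 LD2_c41 LD3_c5))))))
theorem f741749 : Led Lsl_dt (LP (LK LD1_c6 LD2_c1 LD3_c52)) = (LP (LK LD1_c11 LD2_c48 LD3_c18)) :=
  Lre_d IH (LK LD1_c6 LD2_c1 LD3_c52) (LK LD1_c11 LD2_c48 LD3_c18) Lrfl Lrfl
theorem f669188 : Led Lsl_af (LP (LK LD1_c11 LD2_c26 LD3_c22)) = (LP (LK LD1_c14 LD2_c30 LD3_c42)) :=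
  Lgr Lrot68 (Lpr_ct (K48.f669186 IH) (Lpr_at (K37.f501915 IH) (Lpe (K55.f502526 IH) (Lpn (LP (LK LD1_c14 LD2_c30 LD3_c42))))))
theorem f137185 : Led Lsl_ft (LP (LK LD1_c7 LD2_c41 LD3_c56)) = (LP (LK LD1_c14 LD2_c30 LD3_c42)) :=
  Lre_f IH (LK LD1_c7 LD2_c41 LD3_c56) (LK LD1_c14 LD2_c30 LD3_c42) Lrfl Lrfl
theorem f669428 : Led Lsl_gf (LP (LK LD1_c5 LD2_c48 LD3_c27)) = (LP (LK LD1_c7 LD2_c41 LD3_c56)) :=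
  Lgr Lrot47 (Lpr_gt (K48.f57514 IH) (Lpr_af (f669188 IH) (Lpe (f137185 IH) (Lpn (LP (LK LD1_c7 LD2_c41 LD3_c56))))))
theorem f669197 : Led Lsl_dt (LP (LK LD1_c5 LD2_c48 LD3_c27)) = (LP (LK LD1_c11 LD2_c26 LD3_c23)) :=
  Lre_d IH (LK LD1_c5 LD2_c48 LD3_c27) (LK LD1_c11 LD2_c26 LD3_c23) Lrfl Lrfl
theorem f669198 : Led Lsl_gt (LP (LK LD1_c11 LD2_c26 LD3_c23)) = (LP (LK LD1_c20 LD2_c24 LD3_c4)) :=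
  Lre_g IH (LK LD1_c11 LD2_c26 LD3_c23) (LK LD1_c20 LD2_c24 LD3_c4) Lrfl Lrfl
theorem f136514 : Led Lsl_et (LP (LK LD1_c20 LD2_c23 LD3_c5)) = (LP (LK LD1_c11 LD2_c25 LD3_c38)) :=
  Lre_e IH (LK LD1_c20 LD2_c23 LD3_c5) (LK LD1_c11 LD2_c25 LD3_c38) Lrfl Lrfl
theorem f669433 : Led Lsl_df (LP (LK LD1_c20 LD2_c24 LD3_c4)) = (LP (LK LD1_c20 LD2_c23 LD3_c5)) :=
  Lgr Lrot132 (Lpe (f669198 IH) (Lpe (f669197 IH) (Lpr_gf (f669428 IH) (Lpe (K52.f66341 IH) (Lpr_dt (K36.f64344 IH) (Lpr_gf (K6.f136508 IH) (Lpe (K5.f117226 IH) (Lpr_et (K4.f117218 IH) (Lpe (K52.f117187 IH) (Lpe (f136514 IH) (Lpn (LP (LK LD1_c20 LD2_c23 LD3_c5)))))))))))))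
theorem f669437 : Led Lsl_dt (LP (LK LD1_c20 LD2_c24 LD3_c4)) = (LP (LK LD1_c20 LD2_c23 LD3_c5)) :=
  Lgr Lrot42 (Lpr_df (f669433 IH) (Lpn (LP (LK LD1_c20 LD2_c23 LD3_c5))))
theorem f712147 : Led Lsl_et (LP (LK LD1_c11 LD2_c59 LD3_c1)) = (LP (LK LD1_c21 LD2_c3 LD3_c53)) :=
  Lre_e IH (LK LD1_c11 LD2_c59 LD3_c1) (LK LD1_c21 LD2_c3 LD3_c53) Lrfl Lrfl
theorem f712148 : Led Lsl_et (LP (LK LD1_c29 LD2_c25 LD3_c43)) = (LP (LK LD1_c20 LD2_c23 LD3_c3)) :=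
  Lre_e IH (LK LD1_c29 LD2_c25 LD3_c43) (LK LD1_c20 LD2_c23 LD3_c3) Lrfl Lrfl
theorem f712149 : Led Lsl_ct (LP (LK LD1_c21 LD2_c3 LD3_c53)) = (LP (LK LD1_c29 LD2_c25 LD3_c43)) :=
  Lgr Lrot15 (Lpe (f712147 IH) (Lpr_cf (K52.f712138 IH) (Lpe (f712148 IH) (Lpn (LP (LK LD1_c29 LD2_c25 LD3_c43))))))
theorem f712521 : Led Lsl_cf (LP (LK LD1_c21 LD2_c3 LD3_c53)) = (LP (LK LD1_c29 LD2_c25 LD3_c43)) :=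
  Lgr Lrot11 (Lpr_ct (f712149 IH) (Lpn (LP (LK LD1_c29 LD2_c25 LD3_c43))))
theorem f712523 : Led Lsl_bt (LP (LK LD1_c21 LD2_c3 LD3_c53)) = (LP (LK LD1_c11 LD2_c59 LD3_c3)) :=
  Lre_b IH (LK LD1_c21 LD2_c3 LD3_c53) (LK LD1_c11 LD2_c59 LD3_c3) Lrfl Lrfl
theorem f76038 : Led Lsl_ct (LP (LK LD1_c11 LD2_c59 LD3_c3)) = (LP (LK LD1_c6 LD2_c8 LD3_c50)) :=
  Lre_c IH (LK LD1_c11 LD2_c59 LD3_c3) (LK LD1_c6 LD2_c8 LD3_c50) Lrfl Lrfl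
theorem f76056 : Led Lsl_bt (LP (LK LD1_c6 LD2_c8 LD3_c50)) = (LP (LK LD1_c11 LD2_c59 LD3_c0)) :=
  Lre_b IH (LK LD1_c6 LD2_c8 LD3_c50) (LK LD1_c11 LD2_c59 LD3_c0) Lrfl Lrfl
theorem f669446 : Led Lsl_bt (LP (LK LD1_c20 LD2_c23 LD3_c5)) = (LP (LK LD1_c29 LD2_c25 LD3_c43)) :=
  Lre_b IH (LK LD1_c20 LD2_c23 LD3_c5) (LK LD1_c29 LD2_c25 LD3_c43) Lrfl Lrfl
theorem f712524 : Led Lsl_ct (LP (LK LD1_c11 LD2_c59 LD3_c0)) = (LP (LK LD1_c20 LD2_c23 LD3_c5)) :=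
  Lgr Lrot83 (Lpe (f76056 IH) (Lpe (f76038 IH) (Lpe (f712523 IH) (Lpr_cf (f712521 IH) (Lpe (f669446 IH) (Lpn (LP (LK LD1_c20 LD2_c23 LD3_c5))))))))
theorem f76032 : Led Lsl_bt (LP (LK LD1_c11 LD2_c44 LD3_c23)) = (LP (LK LD1_c20 LD2_c45 LD3_c49)) :=
  Lre_b IH (LK LD1_c11 LD2_c44 LD3_c23) (LK LD1_c20 LD2_c45 LD3_c49) Lrfl Lrfl
theorem f76033 : Led Lsl_bt (LP (LK LD1_c11 LD2_c59 LD3_c0)) = (LP (LK LD1_c6 LD2_c8 LD3_c50)) :=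
  Lre_b IH (LK LD1_c11 LD2_c59 LD3_c0) (LK LD1_c6 LD2_c8 LD3_c50) Lrfl Lrfl
theorem f76034 : Led Lsl_dt (LP (LK LD1_c20 LD2_c45 LD3_c49)) = (LP (LK LD1_c11 LD2_c59 LD3_c0)) :=
  Lgr Lrot79 (Lpe (f76032 IH) (Lpr_df (f75861 IH) (Lpe (f76033 IH) (Lpn (LP (LK LD1_c11 LD2_c59 LD3_c0))))))
theorem f741750 : Led Lsl_gt (LP (LK LD1_c11 LD2_c48 LD3_c18)) = (LP (LK LD1_c20 LD2_c45 LD3_c49)) :=
  Lgr Lrot49 (Lpe (f741749 IH) (Lpr_gf (K55.f741747 IH) (Lpe (K55.f502521 IH) (Lpe (f669428 IH) (Lpr_dt (f669197 IH) (Lpr_gt (f669198 IH) (Lpr_dt (f669437 IH) (Lpe (f712524 IH) (Lpe (f76034 IH) (Lpn (LP (LK LD1_c20 LD2_c45 LD3_c49))))))))))))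
theorem f76039 : Led Lsl_dt (LP (LK LD1_c11 LD2_c44 LD3_c23)) = (LP (LK LD1_c6 LD2_c8 LD3_c50)) :=
  Lgr Lrot42 (Lpr_df (f75861 IH) (Lpn (LP (LK LD1_c6 LD2_c8 LD3_c50))))
theorem f76055 : Led Lsl_bt (LP (LK LD1_c20 LD2_c45 LD3_c49)) = (LP (LK LD1_c11 LD2_c44 LD3_c23)) :=
  Lre_b IH (LK LD1_c20 LD2_c45 LD3_c49) (LK LD1_c11 LD2_c44 LD3_c23) Lrfl Lrfl
theorem f76057 : Led Lsl_df (LP (LK LD1_c20 LD2_c45 LD3_c49)) = (LP (LK LD1_c11 LD2_c59 LD3_c0)) :=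
  Lgr Lrot12 (Lpr_bt (f76055 IH) (Lpr_dt (f76039 IH) (Lpr_bt (f76056 IH) (Lpn (LP (LK LD1_c11 LD2_c59 LD3_c0))))))
theorem f76068 : Led Lsl_et (LP (LK LD1_c11 LD2_c59 LD3_c0)) = (LP (LK LD1_c6 LD2_c8 LD3_c47)) :=
  Lre_e IH (LK LD1_c11 LD2_c59 LD3_c0) (LK LD1_c6 LD2_c8 LD3_c47) Lrfl Lrfl
theorem f741755 : Led Lsl_gt (LP (LK LD1_c6 LD2_c8 LD3_c47)) = (LP (LK LD1_c9 LD2_c5 LD3_c47)) :=
  Lgr Lrot131 (Lpe (f76068 IH) (Lpe (f76057 IH) (Lpe (f741750 IH) (Lpe (f741749 IH) (Lpr_gf (K55.f741747 IH) (Lpe (K37.f501862 IH) (Lpe (K36.f501860 IH) (Lpr_gf (K32.f425866 IH) (Lpe (K5.f112202 IH) (Lpr_et (K38.f117893 IH) (Lpn (LP (LK LD1_c9 LD2_c5 LD3_c47)))))))))))))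
theorem f157959 : Led Lsl_et (LP (LK LD1_c5 LD2_c51 LD3_c21)) = (LP (LK LD1_c2 LD2_c51 LD3_c56)) :=
  Lre_e IH (LK LD1_c5 LD2_c51 LD3_c21) (LK LD1_c2 LD2_c51 LD3_c56) Lrfl Lrfl
theorem f157960 : Led Lsl_cf (LP (LK LD1_c5 LD2_c51 LD3_c21)) = (LP (LK LD1_c9 LD2_c5 LD3_c47)) :=
  Lgr Lrot39 (Lpr_et (f157959 IH) (Lpr_ct (K8.f157938 IH) (Lpr_et (K38.f117893 IH) (Lpn (LP (LK LD1_c9 LD2_c5 LD3_c47))))))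
def v15995 : LQ := Led Lsl_gt (LP (LK LD1_c5 LD2_c51 LD3_c21))
theorem f744699 : Led Lsl_gt (LP (LK LD1_c5 LD2_c51 LD3_c21)) = v15995 :=
  Lrfl
theorem f496494 : Led Lsl_af (LP (LK LD1_c5 LD2_c52 LD3_c14)) = (LP (LK LD1_c5 LD2_c50 LD3_c2)) :=
  Lgr Lrot0 (Lpr_at (K41.f496488 IH) (Lpn (LP (LK LD1_c5 LD2_c50 LD3_c2))))
theorem f640640 : Led Lsl_gf (LP (LK LD1_c5 LD2_c52 LD3_c14)) = K55.v4866 :=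
  Lgr Lrot76 (Lpr_af (f496494 IH) (Lpe (K41.f496440 IH) (Lpr_gt (K55.f640639 IH) (Lpn K55.v4866))))
theorem f720189 : Led Lsl_bt (LP (LK LD1_c5 LD2_c51 LD3_c11)) = K55.v4866 :=
  Lgr Lrot127 (Lpr_bf (K55.f720188 IH) (Lpn K55.v4866))
theorem f752488 : v15995 = (LP (LK LD1_c11 LD2_c29 LD3_c51)) :=
  (Llr Lrot149 (Lpe (f744699 IH) (Lpr_cf (f157960 IH) (Lpe (f741755 IH) (Lpe (f646359 IH) (Lpr_ct (f76251 IH) (Lpr_gf (f752480 IH) (Lpe (K55.f74738 IH) (Lpr_bt (K41.f74751 IH) (Lpr_gf (f640640 IH) (Lpe (f720189 IH) (Lpr_ct (K52.f24128 IH) (Lpn (LP (LK LD1_c11 LD2_c29 LD3_c51))))))))))))))).symm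
theorem f427266 : Led Lsl_ft (LP (LK LD1_c5 LD2_c51 LD3_c21)) = (LP (LK LD1_c11 LD2_c30 LD3_c8)) :=
  Lre_f IH (LK LD1_c5 LD2_c51 LD3_c21) (LK LD1_c11 LD2_c30 LD3_c8) Lrfl Lrfl
theorem f427208 : Led Lsl_df (LP (LK LD1_c3 LD2_c26 LD3_c48)) = (LP (LK LD1_c5 LD2_c51 LD3_c20)) :=
  Lgr Lrot155 (Lpe (K5.f127929 IH) (Lpr_ct (K5.f126463 IH) (Lpr_gt (K6.f95859 IH) (Lpr_ct (K6.f95899 IH) (Lpr_dt (K8.f129410 IH) (Lpe (K8.f129472 IH) (Lpe (K8.f93597 IH) (Lpe (K5.f93596 IH) (Lpr_gf (K34.f427200 IH) (Lpn (LP (LK LD1_c5 LD2_c51 LD3_c20))))))))))))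
theorem f427217 : Led Lsl_ft (LP (LK LD1_c7 LD2_c37 LD3_c54)) = (LP (LK LD1_c5 LD2_c51 LD3_c20)) :=
  Lgr Lrot54 (Lpe (K36.f114459 IH) (Lpr_ff (K5.f114457 IH) (Lpr_df (f427208 IH) (Lpn (LP (LK LD1_c5 LD2_c51 LD3_c20))))))
theorem f127939 : Led Lsl_at (LP (LK LD1_c3 LD2_c55 LD3_c46)) = (LP (LK LD1_c7 LD2_c37 LD3_c54)) :=
  Lgr Lrot51 (Lpe (K8.f96140 IH) (Lpr_af (K5.f127931 IH) (Lpe (K48.f88235 IH) (Lpn (LP (LK LD1_c7 LD2_c37 LD3_c54))))))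
theorem f97725 : Led Lsl_bt (LP (LK LD1_c3 LD2_c55 LD3_c46)) = (LP (LK LD1_c1 LD2_c54 LD3_c31)) :=
  Lre_b IH (LK LD1_c3 LD2_c55 LD3_c46) (LK LD1_c1 LD2_c54 LD3_c31) Lrfl Lrfl
theorem f125859 : Led Lsl_ff (LP (LK LD1_c3 LD2_c55 LD3_c46)) = (LP (LK LD1_c3 LD2_c26 LD3_c49)) :=
  Lgr Lrot25 (Lpr_bt (f97725 IH) (Lpr_ft (K5.f125855 IH) (Lpr_bt (K4.f91286 IH) (Lpn (LP (LK LD1_c3 LD2_c26 LD3_c49))))))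
theorem f427220 : Led Lsl_af (LP (LK LD1_c3 LD2_c26 LD3_c49)) = (LP (LK LD1_c5 LD2_c51 LD3_c20)) :=
  Lgr Lrot45 (Lpe (f125859 IH) (Lpr_at (f127939 IH) (Lpr_ft (f427217 IH) (Lpn (LP (LK LD1_c5 LD2_c51 LD3_c20))))))
theorem f111357 : Led Lsl_et (LP (LK LD1_c3 LD2_c26 LD3_c49)) = (LP (LK LD1_c6 LD2_c55 LD3_c25)) :=
  Lre_e IH (LK LD1_c3 LD2_c26 LD3_c49) (LK LD1_c6 LD2_c55 LD3_c25) Lrfl Lrfl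
theorem f427210 : Led Lsl_et (LP (LK LD1_c11 LD2_c30 LD3_c6)) = (LP (LK LD1_c5 LD2_c51 LD3_c20)) :=
  Lre_e IH (LK LD1_c11 LD2_c30 LD3_c6) (LK LD1_c5 LD2_c51 LD3_c20) Lrfl Lrfl
theorem f427222 : Led Lsl_at (LP (LK LD1_c6 LD2_c55 LD3_c25)) = (LP (LK LD1_c11 LD2_c30 LD3_c6)) :=
  Lgr Lrot80 (Lpe (f111357 IH) (Lpr_af (f427220 IH) (Lpe (f427210 IH) (Lpn (LP (LK LD1_c11 LD2_c30 LD3_c6))))))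
theorem f427229 : Led Lsl_dt (LP (LK LD1_c13 LD2_c9 LD3_c4)) = (LP (LK LD1_c6 LD2_c55 LD3_c25)) :=
  Lre_d IH (LK LD1_c13 LD2_c9 LD3_c4) (LK LD1_c6 LD2_c55 LD3_c25) Lrfl Lrfl
theorem f427211 : Led Lsl_dt (LP (LK LD1_c11 LD2_c30 LD3_c6)) = (LP (LK LD1_c20 LD2_c27 LD3_c18)) :=
  Lre_d IH (LK LD1_c11 LD2_c30 LD3_c6) (LK LD1_c20 LD2_c27 LD3_c18) Lrfl Lrfl
theorem f427230 : Led Lsl_af (LP (LK LD1_c13 LD2_c9 LD3_c4)) = (LP (LK LD1_c20 LD2_c27 LD3_c18)) :=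
  Lgr Lrot117 (Lpr_dt (f427229 IH) (Lpr_at (f427222 IH) (Lpr_dt (f427211 IH) (Lpn (LP (LK LD1_c20 LD2_c27 LD3_c18))))))
theorem f136579 : Led Lsl_bt (LP (LK LD1_c13 LD2_c9 LD3_c4)) = (LP (LK LD1_c6 LD2_c55 LD3_c31)) :=
  Lre_b IH (LK LD1_c13 LD2_c9 LD3_c4) (LK LD1_c6 LD2_c55 LD3_c31) Lrfl Lrfl
theorem f12255 : Led Lsl_bf (LP (LK LD1_c14 LD2_c30 LD3_c54)) = (LP (LK LD1_c7 LD2_c53 LD3_c9)) :=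
  Lgr Lrot24 (Lpr_bt (K5.f12251 IH) (Lpn (LP (LK LD1_c7 LD2_c53 LD3_c9))))
theorem f427234 : Led Lsl_bt (LP (LK LD1_c11 LD2_c30 LD3_c7)) = (LP (LK LD1_c20 LD2_c27 LD3_c18)) :=
  Lre_b IH (LK LD1_c11 LD2_c30 LD3_c7) (LK LD1_c20 LD2_c27 LD3_c18) Lrfl Lrfl
theorem f427235 : Led Lsl_at (LP (LK LD1_c14 LD2_c30 LD3_c54)) = (LP (LK LD1_c11 LD2_c30 LD3_c7)) :=
  Lgr Lrot67 (Lpr_bf (f12255 IH) (Lpr_af (K8.f136574 IH) (Lpe (f136579 IH) (Lpr_af (f427230 IH) (Lpe (f427234 IH) (Lpn (LP (LK LD1_c11 LD2_c30 LD3_c7))))))))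
theorem f427240 : Led Lsl_af (LP (LK LD1_c14 LD2_c30 LD3_c54)) = (LP (LK LD1_c11 LD2_c30 LD3_c7)) :=
  Lgr Lrot0 (Lpr_at (f427235 IH) (Lpn (LP (LK LD1_c11 LD2_c30 LD3_c7))))
theorem f12299 : Led Lsl_dt (LP (LK LD1_c14 LD2_c30 LD3_c54)) = (LP (LK LD1_c7 LD2_c42 LD3_c4)) :=
  Lre_d IH (LK LD1_c14 LD2_c30 LD3_c54) (LK LD1_c7 LD2_c42 LD3_c4) Lrfl Lrfl
theorem f157991 : Led Lsl_dt (LP (LK LD1_c5 LD2_c51 LD3_c21)) = (LP (LK LD1_c11 LD2_c30 LD3_c7)) :=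
  Lre_d IH (LK LD1_c5 LD2_c51 LD3_c21) (LK LD1_c11 LD2_c30 LD3_c7) Lrfl Lrfl
theorem f427255 : Led Lsl_at (LP (LK LD1_c7 LD2_c42 LD3_c4)) = (LP (LK LD1_c5 LD2_c51 LD3_c21)) :=
  Lgr Lrot51 (Lpe (f12299 IH) (Lpr_af (f427240 IH) (Lpe (f157991 IH) (Lpn (LP (LK LD1_c5 LD2_c51 LD3_c21))))))
theorem f427267 : Led Lsl_af (LP (LK LD1_c14 LD2_c30 LD3_c55)) = (LP (LK LD1_c11 LD2_c30 LD3_c8)) :=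
  Lgr Lrot45 (Lpr_ft (K8.f12278 IH) (Lpr_at (f427255 IH) (Lpr_ft (f427266 IH) (Lpn (LP (LK LD1_c11 LD2_c30 LD3_c8))))))
theorem f744700 : Led Lsl_gf (LP (LK LD1_c14 LD2_c30 LD3_c55)) = v15995 :=
  Lgr Lrot76 (Lpr_af (f427267 IH) (Lpe (f427266 IH) (Lpr_gt (f744699 IH) (Lpn v15995))))
theorem f752489 : Led Lsl_gt (LP (LK LD1_c11 LD2_c29 LD3_c51)) = (LP (LK LD1_c14 LD2_c30 LD3_c55)) :=
  Leop (Lpr_gf (f744700 IH) (Lpqs (f752488 IH) (Lpn (LP (LK LD1_c11 LD2_c29 LD3_c51)))))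
theorem seed_1074 : LEOK LG_g (LK LD1_c11 LD2_c29 LD3_c51) :=
  Leoe_g (LK LD1_c11 LD2_c29 LD3_c51) (f752489 IH)
theorem f138594 : Led Lsl_et (LP (LK LD1_c12 LD2_c9 LD3_c48)) = (LP (LK LD1_c6 LD2_c16 LD3_c5)) :=
  Lre_e IH (LK LD1_c12 LD2_c9 LD3_c48) (LK LD1_c6 LD2_c16 LD3_c5) Lrfl Lrfl
def v13117 : LQ := Led Lsl_at (LP (LK LD1_c4 LD2_c40 LD3_c6))
theorem f701188 : Led Lsl_at (LP (LK LD1_c4 LD2_c40 LD3_c6)) = v13117 :=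
  Lrfl
theorem f76216 : Led Lsl_bt (LP (LK LD1_c4 LD2_c40 LD3_c6)) = (LP (LK LD1_c2 LD2_c17 LD3_c5)) :=
  Lre_b IH (LK LD1_c4 LD2_c40 LD3_c6) (LK LD1_c2 LD2_c17 LD3_c5) Lrfl Lrfl
theorem f140088 : Led Lsl_bt (LP (LK LD1_c1 LD2_c26 LD3_c11)) = (LP (LK LD1_c3 LD2_c0 LD3_c46)) :=
  Lre_b IH (LK LD1_c1 LD2_c26 LD3_c11) (LK LD1_c3 LD2_c0 LD3_c46) Lrfl Lrfl
theorem f639413 : Led Lsl_ff (LP (LK LD1_c4 LD2_c40 LD3_c6)) = (LP (LK LD1_c3 LD2_c0 LD3_c46)) :=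
  Lgr Lrot25 (Lpr_bt (f76216 IH) (Lpq (K50.f639397 IH) (Lpe (K50.f502839 IH) (Lpr_bt (f140088 IH) (Lpn (LP (LK LD1_c3 LD2_c0 LD3_c46)))))))
def v5175 : LQ := Led Lsl_gt (LP (LK LD1_c3 LD2_c0 LD3_c46))
theorem f646364 : Led Lsl_gt (LP (LK LD1_c3 LD2_c0 LD3_c46)) = v5175 :=
  Lrfl
theorem f701192 : Led Lsl_gt v5175 = v13117 :=
  Lgr Lrot46 (Lpe (f646364 IH) (Lpe (f639413 IH) (Lpr_at (f701188 IH) (Lpn v13117))))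
theorem f138452 : Led Lsl_af (LP (LK LD1_c3 LD2_c5 LD3_c8)) = (LP (LK LD1_c2 LD2_c53 LD3_c38)) :=
  Lgr Lrot0 (Lpr_at (K8.f138449 IH) (Lpn (LP (LK LD1_c2 LD2_c53 LD3_c38))))
theorem f138587 : Led Lsl_gt (LP (LK LD1_c6 LD2_c16 LD3_c5)) = (LP (LK LD1_c3 LD2_c5 LD3_c8)) :=
  Lre_g IH (LK LD1_c6 LD2_c16 LD3_c5) (LK LD1_c3 LD2_c5 LD3_c8) Lrfl Lrfl
theorem f138588 : Led Lsl_gf (LP (LK LD1_c6 LD2_c16 LD3_c5)) = (LP (LK LD1_c5 LD2_c54 LD3_c31)) :=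
  Lgr Lrot47 (Lpr_gt (f138587 IH) (Lpr_af (f138452 IH) (Lpe (K8.f137321 IH) (Lpn (LP (LK LD1_c5 LD2_c54 LD3_c31))))))
theorem f64355 : Led Lsl_ct (LP (LK LD1_c11 LD2_c25 LD3_c41)) = (LP (LK LD1_c5 LD2_c48 LD3_c2)) :=
  Lre_c IH (LK LD1_c11 LD2_c25 LD3_c41) (LK LD1_c5 LD2_c48 LD3_c2) Lrfl Lrfl
theorem f712167 : Led Lsl_ft (LP (LK LD1_c11 LD2_c29 LD3_c51)) = (LP (LK LD1_c11 LD2_c25 LD3_c41)) :=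
  Lgr Lrot4 (Lpe (K52.f24128 IH) (Lpr_ff (K52.f712165 IH) (Lpe (f64355 IH) (Lpn (LP (LK LD1_c11 LD2_c25 LD3_c41))))))
theorem f712158 : Led Lsl_af (LP (LK LD1_c11 LD2_c29 LD3_c53)) = (LP (LK LD1_c11 LD2_c25 LD3_c41)) :=
  Lgr Lrot68 (Lpr_ct (K52.f112302 IH) (Lpq (K52.f711766 IH) (Lpr_at (K52.f712154 IH) (Lpr_ct (K52.f64359 IH) (Lpn (LP (LK LD1_c11 LD2_c25 LD3_c41)))))))
def v15996 : LQ := Led Lsl_gf (LP (LK LD1_c5 LD2_c51 LD3_c21))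
theorem f744701 : Led Lsl_gf (LP (LK LD1_c5 LD2_c51 LD3_c21)) = v15996 :=
  Lrfl
theorem f744702 : Led Lsl_gt (LP (LK LD1_c14 LD2_c30 LD3_c55)) = v15996 :=
  Lgr Lrot5 (Lpr_ft (K8.f12278 IH) (Lpr_at (f427255 IH) (Lpr_gf (f744701 IH) (Lpn v15996))))
theorem f752491 : (LP (LK LD1_c11 LD2_c29 LD3_c53)) = v15996 :=
  (Llr Lrot26 (Lpr_af (f712158 IH) (Lpe (f712167 IH) (Lpq (f752488 IH) (Lpe (f744700 IH) (Lpr_gt (f744702 IH) (Lpn v15996))))))).symm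
theorem f138422 : Led Lsl_bt (LP (LK LD1_c11 LD2_c25 LD3_c36)) = (LP (LK LD1_c5 LD2_c54 LD3_c31)) :=
  Lgr Lrot127 (Lpr_bf (K8.f138418 IH) (Lpn (LP (LK LD1_c5 LD2_c54 LD3_c31))))
theorem f752498 : v5175 = (LP (LK LD1_c5 LD2_c54 LD3_c31)) :=
  (Llr Lrot164 (Lpe (f646364 IH) (Lpe (f140088 IH) (Lpr_ct (K32.f140089 IH) (Lpe (K31.f61832 IH) (Lpe (K31.f73615 IH) (Lpe (K32.f73619 IH) (Lpr_bf (K55.f640726 IH) (Lpqs (K52.f711766 IH) (Lpr_ct (K52.f132468 IH) (Lpqs (f752491 IH) (Lpe (f744702 IH) (Lpr_cf (K8.f136613 IH) (Lpr_bt (f138422 IH) (Lpn (LP (LK LD1_c5 LD2_c54 LD3_c31))))))))))))))))).symm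
theorem f752499 : v13117 = (LP (LK LD1_c6 LD2_c16 LD3_c5)) :=
  Lefun (Lecon (f701192 IH) (f752498 IH)) (Lfl_gf (f138588 IH))
theorem f701189 : Led Lsl_af (LP (LK LD1_c4 LD2_c40 LD3_c6)) = v13117 :=
  Lgr Lrot0 (Lpr_at (f701188 IH) (Lpn v13117))
theorem f446041 : Led Lsl_et (LP (LK LD1_c4 LD2_c40 LD3_c6)) = (LP (LK LD1_c9 LD2_c15 LD3_c42)) :=
  Lre_e IH (LK LD1_c4 LD2_c40 LD3_c6) (LK LD1_c9 LD2_c15 LD3_c42) Lrfl Lrfl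
theorem f752566 : Led Lsl_af (LP (LK LD1_c12 LD2_c9 LD3_c48)) = (LP (LK LD1_c9 LD2_c15 LD3_c42)) :=
  Lgr Lrot50 (Lpr_et (f138594 IH) (Lpq (f752499 IH) (Lpe (f701189 IH) (Lpr_et (f446041 IH) (Lpn (LP (LK LD1_c9 LD2_c15 LD3_c42)))))))
theorem f138456 : Led Lsl_et (LP (LK LD1_c1 LD2_c28 LD3_c37)) = (LP (LK LD1_c3 LD2_c5 LD3_c8)) :=
  Lre_e IH (LK LD1_c1 LD2_c28 LD3_c37) (LK LD1_c3 LD2_c5 LD3_c8) Lrfl Lrfl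
theorem f202612 : Led Lsl_et (LP (LK LD1_c0 LD2_c38 LD3_c53)) = (LP (LK LD1_c1 LD2_c24 LD3_c17)) :=
  Lre_e IH (LK LD1_c0 LD2_c38 LD3_c53) (LK LD1_c1 LD2_c24 LD3_c17) Lrfl Lrfl
theorem f420587 : Led Lsl_dt (LP (LK LD1_c12 LD2_c9 LD3_c48)) = (LP (LK LD1_c11 LD2_c48 LD3_c21)) :=
  Lgr Lrot56 (Lpr_et (f138594 IH) (Lpr_gt (f138587 IH) (Lpe (f138456 IH) (Lpr_dt (K6.f80266 IH) (Lpr_gt (K5.f60870 IH) (Lpr_df (K52.f202115 IH) (Lpr_et (f202612 IH) (Lpr_gt (f69074 IH) (Lpr_dt (f69075 IH) (Lpr_gt (f420586 IH) (Lpn (LP (LK LD1_c11 LD2_c48 LD3_c21)))))))))))))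
theorem f445895 : Led Lsl_bt (LP (LK LD1_c9 LD2_c13 LD3_c8)) = (LP (LK LD1_c17 LD2_c7 LD3_c42)) :=
  Lre_b IH (LK LD1_c9 LD2_c13 LD3_c8) (LK LD1_c17 LD2_c7 LD3_c42) Lrfl Lrfl
theorem f421009 : Led Lsl_bt (LP (LK LD1_c9 LD2_c15 LD3_c42)) = (LP (LK LD1_c4 LD2_c40 LD3_c8)) :=
  Lre_b IH (LK LD1_c9 LD2_c15 LD3_c42) (LK LD1_c4 LD2_c40 LD3_c8) Lrfl Lrfl
theorem f445896 : Led Lsl_dt (LP (LK LD1_c17 LD2_c7 LD3_c42)) = (LP (LK LD1_c9 LD2_c15 LD3_c42)) :=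
  Lgr Lrot79 (Lpe (f445895 IH) (Lpr_df (K11.f445893 IH) (Lpe (f421009 IH) (Lpn (LP (LK LD1_c9 LD2_c15 LD3_c42))))))
theorem f752570 : Led Lsl_at (LP (LK LD1_c11 LD2_c48 LD3_c21)) = (LP (LK LD1_c17 LD2_c7 LD3_c42)) :=
  Lgr Lrot51 (Lpe (f420587 IH) (Lpr_af (f752566 IH) (Lpe (f445896 IH) (Lpn (LP (LK LD1_c17 LD2_c7 LD3_c42))))))
theorem f446045 : Led Lsl_et (LP (LK LD1_c9 LD2_c15 LD3_c42)) = (LP (LK LD1_c4 LD2_c40 LD3_c6)) :=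
  Lre_e IH (LK LD1_c9 LD2_c15 LD3_c42) (LK LD1_c4 LD2_c40 LD3_c6) Lrfl Lrfl
theorem f445900 : Led Lsl_bt (LP (LK LD1_c17 LD2_c7 LD3_c42)) = (LP (LK LD1_c9 LD2_c13 LD3_c8)) :=
  Lre_b IH (LK LD1_c17 LD2_c7 LD3_c42) (LK LD1_c9 LD2_c13 LD3_c8) Lrfl Lrfl
theorem f445901 : Led Lsl_bt (LP (LK LD1_c4 LD2_c40 LD3_c8)) = (LP (LK LD1_c9 LD2_c15 LD3_c42)) :=
  Lre_b IH (LK LD1_c4 LD2_c40 LD3_c8) (LK LD1_c9 LD2_c15 LD3_c42) Lrfl Lrfl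
theorem f445902 : Led Lsl_df (LP (LK LD1_c17 LD2_c7 LD3_c42)) = (LP (LK LD1_c9 LD2_c15 LD3_c42)) :=
  Lgr Lrot12 (Lpr_bt (f445900 IH) (Lpr_dt (K11.f445898 IH) (Lpr_bt (f445901 IH) (Lpn (LP (LK LD1_c9 LD2_c15 LD3_c42))))))
theorem f137312 : Led Lsl_et (LP (LK LD1_c1 LD2_c22 LD3_c51)) = (LP (LK LD1_c2 LD2_c53 LD3_c38)) :=
  Lre_e IH (LK LD1_c1 LD2_c22 LD3_c51) (LK LD1_c2 LD2_c53 LD3_c38) Lrfl Lrfl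
theorem f202271 : Led Lsl_gt (LP (LK LD1_c2 LD2_c56 LD3_c60)) = (LP (LK LD1_c6 LD2_c1 LD3_c42)) :=
  Lre_g IH (LK LD1_c2 LD2_c56 LD3_c60) (LK LD1_c6 LD2_c1 LD3_c42) Lrfl Lrfl
theorem f420492 : Led Lsl_dt (LP (LK LD1_c6 LD2_c1 LD3_c42)) = (LP (LK LD1_c11 LD2_c48 LD3_c5)) :=
  Lre_d IH (LK LD1_c6 LD2_c1 LD3_c42) (LK LD1_c11 LD2_c48 LD3_c5) Lrfl Lrfl
theorem f712206 : Led Lsl_gf (LP (LK LD1_c17 LD2_c7 LD3_c42)) = (LP (LK LD1_c11 LD2_c48 LD3_c5)) :=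
  Lgr Lrot134 (Lpr_df (f445902 IH) (Lpr_et (f446045 IH) (Lpr_gt (K52.f701185 IH) (Lpqs (K52.f712197 IH) (Lpe (f137312 IH) (Lpr_dt (K6.f137310 IH) (Lpr_gt (K36.f202243 IH) (Lpe (K11.f202214 IH) (Lpr_et (K16.f202216 IH) (Lpr_gt (f202271 IH) (Lpr_dt (f420492 IH) (Lpn (LP (LK LD1_c11 LD2_c48 LD3_c5))))))))))))))
theorem f615757 : Led Lsl_gt (LP (LK LD1_c20 LD2_c50 LD3_c41)) = (LP (LK LD1_c11 LD2_c48 LD3_c5)) :=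
  Lre_g IH (LK LD1_c20 LD2_c50 LD3_c41) (LK LD1_c11 LD2_c48 LD3_c5) Lrfl Lrfl
theorem f752576 : Led Lsl_ff (LP (LK LD1_c11 LD2_c48 LD3_c21)) = (LP (LK LD1_c20 LD2_c50 LD3_c41)) :=
  Lgr Lrot52 (Lpr_at (f752570 IH) (Lpr_gf (f712206 IH) (Lpe (f615757 IH) (Lpn (LP (LK LD1_c20 LD2_c50 LD3_c41))))))
theorem f752579 : Led Lsl_ft (LP (LK LD1_c11 LD2_c48 LD3_c21)) = (LP (LK LD1_c20 LD2_c50 LD3_c41)) :=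
  Lgr Lrot48 (Lpr_ff (f752576 IH) (Lpn (LP (LK LD1_c20 LD2_c50 LD3_c41))))
theorem f752572 : Led Lsl_af (LP (LK LD1_c11 LD2_c48 LD3_c21)) = (LP (LK LD1_c17 LD2_c7 LD3_c42)) :=
  Lgr Lrot0 (Lpr_at (f752570 IH) (Lpn (LP (LK LD1_c17 LD2_c7 LD3_c42))))
def v16523 : LQ := Led Lsl_bt (LP (LK LD1_c6 LD2_c2 LD3_c3))
theorem f750186 : Led Lsl_bt (LP (LK LD1_c6 LD2_c2 LD3_c3)) = v16523 :=
  Lrfl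
theorem f750188 : Led Lsl_ff (LP (LK LD1_c17 LD2_c7 LD3_c42)) = v16523 :=
  Lgr Lrot25 (Lpr_bt (f445900 IH) (Lpr_ft (K50.f639555 IH) (Lpr_bt (f750186 IH) (Lpn v16523))))
theorem f752581 : Led Lsl_af v16523 = (LP (LK LD1_c20 LD2_c50 LD3_c41)) :=
  Lgr Lrot45 (Lpe (f750188 IH) (Lpe (f752572 IH) (Lpr_ft (f752579 IH) (Lpn (LP (LK LD1_c20 LD2_c50 LD3_c41))))))
theorem f752582 : (LP (LK LD1_c11 LD2_c48 LD3_c22)) = v16523 :=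
  (Llr Lrot46 (Lpe (f749879 IH) (Lpe (f749885 IH) (Lpr_ft (f752579 IH) (Lpe (f752581 IH) (Lpn v16523)))))).symm
def v16524 : LQ := Led Lsl_ct (LP (LK LD1_c6 LD2_c2 LD3_c3))
theorem f750190 : Led Lsl_ct (LP (LK LD1_c6 LD2_c2 LD3_c3)) = v16524 :=
  Lrfl
def v5647 : LQ := Led Lsl_ct (LP (LK LD1_c3 LD2_c11 LD3_c11))
theorem f648679 : Led Lsl_ct (LP (LK LD1_c3 LD2_c11 LD3_c11)) = v5647 :=
  Lrfl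
theorem f648681 : Led Lsl_cf (LP (LK LD1_c3 LD2_c11 LD3_c11)) = v5647 :=
  Lgr Lrot11 (Lpr_ct (f648679 IH) (Lpn v5647))
theorem f750192 : Led Lsl_gf v5647 = v16524 :=
  Lgr Lrot104 (Lpe (f648681 IH) (Lpe (K32.f69112 IH) (Lpe (K32.f69108 IH) (Lpe (K17.f25849 IH) (Lpe (K24.f69058 IH) (Lpe (K16.f59823 IH) (Lpe (K16.f69111 IH) (Lpe (K51.f507540 IH) (Lpr_ct (f750190 IH) (Lpn v16524))))))))))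
theorem f623162 : Led Lsl_af (LP (LK LD1_c3 LD2_c11 LD3_c21)) = (LP (LK LD1_c2 LD2_c50 LD3_c30)) :=
  Lgr Lrot0 (Lpr_at (K51.f623160 IH) (Lpn (LP (LK LD1_c2 LD2_c50 LD3_c30))))
theorem f623261 : Led Lsl_ft (LP (LK LD1_c3 LD2_c11 LD3_c11)) = (LP (LK LD1_c2 LD2_c50 LD3_c30)) :=
  Lgr Lrot2 (Lpr_gt (K32.f438556 IH) (Lpr_gt (K32.f438572 IH) (Lpr_af (f623162 IH) (Lpn (LP (LK LD1_c2 LD2_c50 LD3_c30))))))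
theorem f623267 : Led Lsl_ff (LP (LK LD1_c3 LD2_c11 LD3_c11)) = (LP (LK LD1_c2 LD2_c50 LD3_c30)) :=
  Lgr Lrot3 (Lpr_ft (f623261 IH) (Lpn (LP (LK LD1_c2 LD2_c50 LD3_c30))))
def v4844 : LQ := Led Lsl_ct (LP (LK LD1_c2 LD2_c50 LD3_c30))
theorem f640564 : Led Lsl_ct (LP (LK LD1_c2 LD2_c50 LD3_c30)) = v4844 :=
  Lrfl
theorem f640566 : Led Lsl_cf (LP (LK LD1_c2 LD2_c50 LD3_c30)) = v4844 :=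
  Lgr Lrot11 (Lpr_ct (f640564 IH) (Lpn v4844))
theorem f648682 : Led Lsl_ff v4844 = v5647 :=
  Lgr Lrot23 (Lpe (f640566 IH) (Lpe (f623267 IH) (Lpr_ct (f648679 IH) (Lpn v5647))))
theorem f640565 : Led Lsl_af (LP (LK LD1_c6 LD2_c26 LD3_c59)) = v4844 :=
  Lgr Lrot68 (Lpr_ct (f416389 IH) (Lpr_at (K51.f623160 IH) (Lpr_ct (f640564 IH) (Lpn v4844))))
def v4841 : LQ := Led Lsl_ct (LP (LK LD1_c2 LD2_c50 LD3_c28))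
theorem f640550 : Led Lsl_ct (LP (LK LD1_c2 LD2_c50 LD3_c28)) = v4841 :=
  Lrfl
theorem f640552 : Led Lsl_ff (LP (LK LD1_c6 LD2_c26 LD3_c59)) = v4841 :=
  Lgr Lrot23 (Lpr_ct (f416389 IH) (Lpr_ft (K51.f623174 IH) (Lpr_ct (f640550 IH) (Lpn v4841))))
theorem f640553 : Led Lsl_ft (LP (LK LD1_c6 LD2_c26 LD3_c59)) = v4841 :=
  Lgr Lrot48 (Lpr_ff (f640552 IH) (Lpn v4841))
theorem f648683 : Led Lsl_at v4841 = v5647 :=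
  Lgr Lrot66 (Lpe (f640553 IH) (Lpr_af (f640565 IH) (Lpr_ff (f648682 IH) (Lpn v5647))))
theorem f750193 : Led Lsl_gt (LP (LK LD1_c6 LD2_c26 LD3_c59)) = v16524 :=
  Lgr Lrot5 (Lpr_ft (f640553 IH) (Lpr_at (f648683 IH) (Lpr_gf (f750192 IH) (Lpn v16524))))
theorem f438574 : Led Lsl_bt (LP (LK LD1_c12 LD2_c25 LD3_c7)) = (LP (LK LD1_c6 LD2_c26 LD3_c36)) :=
  Lre_b IH (LK LD1_c12 LD2_c25 LD3_c7) (LK LD1_c6 LD2_c26 LD3_c36) Lrfl Lrfl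
theorem f438576 : Led Lsl_ct (LP (LK LD1_c12 LD2_c25 LD3_c7)) = (LP (LK LD1_c21 LD2_c31 LD3_c61)) :=
  Lre_c IH (LK LD1_c12 LD2_c25 LD3_c7) (LK LD1_c21 LD2_c31 LD3_c61) Lrfl Lrfl
theorem f420597 : Led Lsl_bt (LP (LK LD1_c11 LD2_c48 LD3_c18)) = (LP (LK LD1_c6 LD2_c1 LD3_c54)) :=
  Lre_b IH (LK LD1_c11 LD2_c48 LD3_c18) (LK LD1_c6 LD2_c1 LD3_c54) Lrfl Lrfl
theorem f741752 : Led Lsl_ct (LP (LK LD1_c11 LD2_c48 LD3_c18)) = (LP (LK LD1_c20 LD2_c50 LD3_c50)) :=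
  Lre_c IH (LK LD1_c11 LD2_c48 LD3_c18) (LK LD1_c20 LD2_c50 LD3_c50) Lrfl Lrfl
theorem f752593 : Led Lsl_gf (LP (LK LD1_c21 LD2_c31 LD3_c61)) = (LP (LK LD1_c20 LD2_c50 LD3_c50)) :=
  Lgr Lrot126 (Lpe (f438576 IH) (Lpr_bt (f438574 IH) (Lpr_gt (K32.f438572 IH) (Lpr_ct (f416388 IH) (Lpr_gt (f750193 IH) (Lpe (f750190 IH) (Lpr_bt (f750186 IH) (Lpq (f752582 IH) (Lpr_gt (f645183 IH) (Lpe (f420597 IH) (Lpr_ct (f741752 IH) (Lpn (LP (LK LD1_c20 LD2_c50 LD3_c50))))))))))))))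
theorem f752594 : Led Lsl_gt (LP (LK LD1_c20 LD2_c50 LD3_c50)) = (LP (LK LD1_c21 LD2_c31 LD3_c61)) :=
  Leop (Lpr_gf (f752593 IH) (Lpn (LP (LK LD1_c20 LD2_c50 LD3_c50))))
theorem seed_1075 : LEOK LG_g (LK LD1_c20 LD2_c50 LD3_c50) :=
  Leoe_g (LK LD1_c20 LD2_c50 LD3_c50) (f752594 IH)
theorem f639614 : Led Lsl_dt (LP (LK LD1_c6 LD2_c45 LD3_c55)) = (LP (LK LD1_c3 LD2_c21 LD3_c0)) :=
  Lre_d IH (LK LD1_c6 LD2_c45 LD3_c55) (LK LD1_c3 LD2_c21 LD3_c0) Lrfl Lrfl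
def v6371 : LQ := Led Lsl_gt (LP (LK LD1_c3 LD2_c21 LD3_c0))
theorem f653072 : Led Lsl_gt (LP (LK LD1_c3 LD2_c21 LD3_c0)) = v6371 :=
  Lrfl
theorem f752662 : Led Lsl_et (LP (LK LD1_c20 LD2_c37 LD3_c47)) = (LP (LK LD1_c11 LD2_c38 LD3_c35)) :=
  Lre_e IH (LK LD1_c20 LD2_c37 LD3_c47) (LK LD1_c11 LD2_c38 LD3_c35) Lrfl Lrfl
def v16277 : LQ := Led Lsl_gf (LP (LK LD1_c5 LD2_c56 LD3_c43))
theorem f747479 : Led Lsl_gf (LP (LK LD1_c5 LD2_c56 LD3_c43)) = v16277 :=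
  Lrfl
theorem f58588 : Led Lsl_bt (LP (LK LD1_c4 LD2_c40 LD3_c3)) = (LP (LK LD1_c2 LD2_c17 LD3_c4)) :=
  Lre_b IH (LK LD1_c4 LD2_c40 LD3_c3) (LK LD1_c2 LD2_c17 LD3_c4) Lrfl Lrfl
theorem f58589 : Led Lsl_ct (LP (LK LD1_c4 LD2_c40 LD3_c3)) = (LP (LK LD1_c9 LD2_c15 LD3_c37)) :=
  Lre_c IH (LK LD1_c4 LD2_c40 LD3_c3) (LK LD1_c9 LD2_c15 LD3_c37) Lrfl Lrfl
theorem f24085 : Led Lsl_bt (LP (LK LD1_c5 LD2_c51 LD3_c8)) = (LP (LK LD1_c2 LD2_c51 LD3_c52)) :=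
  Lre_b IH (LK LD1_c5 LD2_c51 LD3_c8) (LK LD1_c2 LD2_c51 LD3_c52) Lrfl Lrfl
theorem f24087 : Led Lsl_ct (LP (LK LD1_c5 LD2_c51 LD3_c8)) = (LP (LK LD1_c5 LD2_c56 LD3_c43)) :=
  Lgr Lrot59 (Lpr_cf (K4.f24068 IH) (Lpn (LP (LK LD1_c5 LD2_c56 LD3_c43))))
theorem f711845 : Led Lsl_gf (LP (LK LD1_c9 LD2_c15 LD3_c37)) = (LP (LK LD1_c5 LD2_c56 LD3_c43)) :=
  Lgr Lrot126 (Lpe (f58589 IH) (Lpr_bt (f58588 IH) (Lpr_gt (K0.f27074 IH) (Lpr_ct (K1.f58565 IH) (Lpe (K32.f437962 IH) (Lpr_cf (K52.f438599 IH) (Lpr_bt (K52.f640725 IH) (Lpqs (K52.f711766 IH) (Lpr_gt (K52.f24129 IH) (Lpe (f24085 IH) (Lpr_ct (f24087 IH) (Lpn (LP (LK LD1_c5 LD2_c56 LD3_c43))))))))))))))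
theorem f714404 : Led Lsl_af (LP (LK LD1_c12 LD2_c23 LD3_c22)) = (LP (LK LD1_c9 LD2_c15 LD3_c37)) :=
  Lgr Lrot68 (Lpr_ct (K52.f116849 IH) (Lpq (K52.f714134 IH) (Lpe (K53.f701165 IH) (Lpr_ct (f58589 IH) (Lpn (LP (LK LD1_c9 LD2_c15 LD3_c37)))))))
theorem f714406 : Led Lsl_at (LP (LK LD1_c12 LD2_c23 LD3_c22)) = (LP (LK LD1_c9 LD2_c15 LD3_c37)) :=
  Lgr Lrot100 (Lpr_af (f714404 IH) (Lpn (LP (LK LD1_c9 LD2_c15 LD3_c37))))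
theorem f747481 : Led Lsl_ff (LP (LK LD1_c12 LD2_c23 LD3_c22)) = v16277 :=
  Lgr Lrot52 (Lpr_at (f714406 IH) (Lpr_gf (f711845 IH) (Lpr_gf (f747479 IH) (Lpn v16277))))
theorem f747483 : Led Lsl_ct K52.v5181 = v16277 :=
  Lgr Lrot40 (Lpr_ff (K52.f701167 IH) (Lpqs (K52.f714134 IH) (Lpe (K52.f116849 IH) (Lpr_ff (f747481 IH) (Lpn v16277)))))
theorem f496803 : Led Lsl_ct (LP (LK LD1_c5 LD2_c56 LD3_c38)) = (LP (LK LD1_c11 LD2_c38 LD3_c35)) :=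
  Lre_c IH (LK LD1_c5 LD2_c56 LD3_c38) (LK LD1_c11 LD2_c38 LD3_c35) Lrfl Lrfl
def v13110 : LQ := Led Lsl_gt (LP (LK LD1_c4 LD2_c40 LD3_c3))
theorem f701161 : Led Lsl_gt (LP (LK LD1_c4 LD2_c40 LD3_c3)) = v13110 :=
  Lrfl
theorem f639477 : Led Lsl_ft (LP (LK LD1_c4 LD2_c40 LD3_c3)) = (LP (LK LD1_c3 LD2_c0 LD3_c49)) :=
  Lgr Lrot48 (Lpr_ff (K52.f639471 IH) (Lpn (LP (LK LD1_c3 LD2_c0 LD3_c49))))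
theorem f701162 : Led Lsl_gf K52.v5181 = v13110 :=
  Lgr Lrot76 (Lpe (K52.f646375 IH) (Lpe (f639477 IH) (Lpr_gt (f701161 IH) (Lpn v13110))))
theorem f496798 : Led Lsl_gf (LP (LK LD1_c5 LD2_c56 LD3_c38)) = (LP (LK LD1_c6 LD2_c25 LD3_c11)) :=
  Lgr Lrot47 (Lpr_gt (K49.f157108 IH) (Lpr_af (K32.f496789 IH) (Lpe (K32.f496775 IH) (Lpn (LP (LK LD1_c6 LD2_c25 LD3_c11))))))
theorem f74239 : Led Lsl_bt (LP (LK LD1_c2 LD2_c52 LD3_c1)) = (LP (LK LD1_c1 LD2_c22 LD3_c2)) :=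
  Lre_b IH (LK LD1_c2 LD2_c52 LD3_c1) (LK LD1_c1 LD2_c22 LD3_c2) Lrfl Lrfl
theorem f74240 : Led Lsl_ct (LP (LK LD1_c2 LD2_c52 LD3_c1)) = (LP (LK LD1_c5 LD2_c51 LD3_c35)) :=
  Lre_c IH (LK LD1_c2 LD2_c52 LD3_c1) (LK LD1_c5 LD2_c51 LD3_c35) Lrfl Lrfl
theorem f76079 : Led Lsl_gt (LP (LK LD1_c5 LD2_c51 LD3_c35)) = (LP (LK LD1_c11 LD2_c30 LD3_c33)) :=
  Lre_g IH (LK LD1_c5 LD2_c51 LD3_c35) (LK LD1_c11 LD2_c30 LD3_c33) Lrfl Lrfl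
theorem f745104 : Led Lsl_bt (LP (LK LD1_c11 LD2_c38 LD3_c25)) = (LP (LK LD1_c16 LD2_c57 LD3_c36)) :=
  Lgr Lrot127 (Lpr_bf (K55.f745102 IH) (Lpn (LP (LK LD1_c16 LD2_c57 LD3_c36))))
theorem f752494 : Led Lsl_cf (LP (LK LD1_c11 LD2_c30 LD3_c33)) = (LP (LK LD1_c11 LD2_c38 LD3_c25)) :=
  Lgr Lrot58 (Lpe (f76079 IH) (Lpe (f74240 IH) (Lpr_bt (f74239 IH) (Lpe (K32.f73619 IH) (Lpr_bf (K55.f640726 IH) (Lpqs (K52.f711766 IH) (Lpr_ct (K52.f132468 IH) (Lpqs (f752491 IH) (Lpe (f744702 IH) (Lpr_cf (K8.f136613 IH) (Lpe (K55.f132381 IH) (Lpe (f745104 IH) (Lpn (LP (LK LD1_c11 LD2_c38 LD3_c25)))))))))))))))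
theorem f76370 : Led Lsl_ft (LP (LK LD1_c5 LD2_c51 LD3_c35)) = (LP (LK LD1_c11 LD2_c30 LD3_c36)) :=
  Lre_f IH (LK LD1_c5 LD2_c51 LD3_c35) (LK LD1_c11 LD2_c30 LD3_c36) Lrfl Lrfl
theorem f76371 : Led Lsl_af (LP (LK LD1_c17 LD2_c57 LD3_c60)) = (LP (LK LD1_c11 LD2_c30 LD3_c36)) :=
  Lgr Lrot45 (Lpr_ft (K55.f74291 IH) (Lpr_at (K55.f74500 IH) (Lpr_ft (f76370 IH) (Lpn (LP (LK LD1_c11 LD2_c30 LD3_c36))))))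
theorem f76380 : Led Lsl_gf (LP (LK LD1_c17 LD2_c57 LD3_c60)) = (LP (LK LD1_c11 LD2_c30 LD3_c33)) :=
  Lgr Lrot76 (Lpr_af (f76371 IH) (Lpe (f76370 IH) (Lpr_gt (f76079 IH) (Lpn (LP (LK LD1_c11 LD2_c30 LD3_c33))))))
theorem f74225 : Led Lsl_gt (LP (LK LD1_c11 LD2_c24 LD3_c48)) = (LP (LK LD1_c5 LD2_c47 LD3_c35)) :=
  Lre_g IH (LK LD1_c11 LD2_c24 LD3_c48) (LK LD1_c5 LD2_c47 LD3_c35) Lrfl Lrfl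
theorem f73270 : Led Lsl_bt (LP (LK LD1_c11 LD2_c25 LD3_c3)) = (LP (LK LD1_c5 LD2_c47 LD3_c35)) :=
  Lre_b IH (LK LD1_c11 LD2_c25 LD3_c3) (LK LD1_c5 LD2_c47 LD3_c35) Lrfl Lrfl
theorem f157121 : Led Lsl_gt (LP (LK LD1_c11 LD2_c38 LD3_c32)) = (LP (LK LD1_c5 LD2_c56 LD3_c37)) :=
  Lre_g IH (LK LD1_c11 LD2_c38 LD3_c32) (LK LD1_c5 LD2_c56 LD3_c37) Lrfl Lrfl
theorem f752601 : Led Lsl_ct (LP (LK LD1_c11 LD2_c25 LD3_c3)) = (LP (LK LD1_c11 LD2_c38 LD3_c32)) :=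
  Lgr Lrot64 (Lpr_bt (f73270 IH) (Lpe (f74225 IH) (Lpr_bf (K2.f74217 IH) (Lpr_ct (K2.f74219 IH) (Lpr_gf (f76380 IH) (Lpr_cf (f752494 IH) (Lpe (K55.f157089 IH) (Lpe (K32.f157102 IH) (Lpr_ct (K32.f157078 IH) (Lpe (f157121 IH) (Lpn (LP (LK LD1_c11 LD2_c38 LD3_c32)))))))))))))
theorem f73262 : Led Lsl_gt (LP (LK LD1_c5 LD2_c47 LD3_c35)) = (LP (LK LD1_c2 LD2_c49 LD3_c45)) :=
  Lre_g IH (LK LD1_c5 LD2_c47 LD3_c35) (LK LD1_c2 LD2_c49 LD3_c45) Lrfl Lrfl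
theorem f141825 : Led Lsl_ft (LP (LK LD1_c17 LD2_c5 LD3_c42)) = (LP (LK LD1_c9 LD2_c11 LD3_c52)) :=
  Lre_f IH (LK LD1_c17 LD2_c5 LD3_c42) (LK LD1_c9 LD2_c11 LD3_c52) Lrfl Lrfl
theorem f499123 : Led Lsl_ft (LP (LK LD1_c6 LD2_c38 LD3_c58)) = (LP (LK LD1_c12 LD2_c43 LD3_c34)) :=
  Lre_f IH (LK LD1_c6 LD2_c38 LD3_c58) (LK LD1_c12 LD2_c43 LD3_c34) Lrfl Lrfl
theorem f499144 : Led Lsl_af (LP (LK LD1_c17 LD2_c5 LD3_c42)) = (LP (LK LD1_c12 LD2_c43 LD3_c34)) :=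
  Lgr Lrot45 (Lpr_ft (f141825 IH) (Lpr_at (K42.f499134 IH) (Lpr_ft (f499123 IH) (Lpn (LP (LK LD1_c12 LD2_c43 LD3_c34))))))
theorem f499147 : Led Lsl_at (LP (LK LD1_c17 LD2_c5 LD3_c42)) = (LP (LK LD1_c12 LD2_c43 LD3_c34)) :=
  Lgr Lrot100 (Lpr_af (f499144 IH) (Lpn (LP (LK LD1_c12 LD2_c43 LD3_c34))))
theorem f80059 : Led Lsl_et (LP (LK LD1_c9 LD2_c11 LD3_c44)) = (LP (LK LD1_c4 LD2_c38 LD3_c1)) :=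
  Lre_e IH (LK LD1_c9 LD2_c11 LD3_c44) (LK LD1_c4 LD2_c38 LD3_c1) Lrfl Lrfl
theorem f499121 : Led Lsl_ft (LP (LK LD1_c17 LD2_c5 LD3_c28)) = (LP (LK LD1_c9 LD2_c11 LD3_c44)) :=
  Lre_f IH (LK LD1_c17 LD2_c5 LD3_c28) (LK LD1_c9 LD2_c11 LD3_c44) Lrfl Lrfl
theorem f499122 : Led Lsl_et (LP (LK LD1_c3 LD2_c17 LD3_c43)) = (LP (LK LD1_c6 LD2_c38 LD3_c58)) :=
  Lre_e IH (LK LD1_c3 LD2_c17 LD3_c43) (LK LD1_c6 LD2_c38 LD3_c58) Lrfl Lrfl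
theorem f499124 : Led Lsl_ef (LP (LK LD1_c17 LD2_c5 LD3_c28)) = (LP (LK LD1_c12 LD2_c43 LD3_c34)) :=
  Lgr Lrot21 (Lpr_ft (f499121 IH) (Lpr_et (f80059 IH) (Lpr_ft (K42.f499115 IH) (Lpr_et (f499122 IH) (Lpr_ft (f499123 IH) (Lpn (LP (LK LD1_c12 LD2_c43 LD3_c34))))))))
theorem f499153 : Led Lsl_ef (LP (LK LD1_c17 LD2_c5 LD3_c42)) = (LP (LK LD1_c12 LD2_c43 LD3_c45)) :=
  Lgr Lrot20 (Lpr_at (f499147 IH) (Lpe (f499124 IH) (Lpr_at (K32.f498158 IH) (Lpn (LP (LK LD1_c12 LD2_c43 LD3_c45))))))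
theorem f499156 : Led Lsl_et (LP (LK LD1_c17 LD2_c5 LD3_c42)) = (LP (LK LD1_c12 LD2_c43 LD3_c45)) :=
  Lgr Lrot87 (Lpr_ef (f499153 IH) (Lpn (LP (LK LD1_c12 LD2_c43 LD3_c45))))
theorem f141811 : Led Lsl_ft (LP (LK LD1_c9 LD2_c11 LD3_c52)) = (LP (LK LD1_c17 LD2_c5 LD3_c42)) :=
  Lre_f IH (LK LD1_c9 LD2_c11 LD3_c52) (LK LD1_c17 LD2_c5 LD3_c42) Lrfl Lrfl
theorem f141813 : Led Lsl_bt (LP (LK LD1_c17 LD2_c5 LD3_c42)) = (LP (LK LD1_c11 LD2_c38 LD3_c22)) :=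
  Lgr Lrot35 (Lpe (f141811 IH) (Lpr_bf (K7.f141805 IH) (Lpe (K32.f141812 IH) (Lpn (LP (LK LD1_c11 LD2_c38 LD3_c22))))))
theorem f141819 : Led Lsl_bf (LP (LK LD1_c17 LD2_c5 LD3_c42)) = (LP (LK LD1_c11 LD2_c38 LD3_c22)) :=
  Lgr Lrot24 (Lpr_bt (f141813 IH) (Lpn (LP (LK LD1_c11 LD2_c38 LD3_c22))))
theorem f116844 : Led Lsl_ft (LP (LK LD1_c6 LD2_c39 LD3_c2)) = (LP (LK LD1_c12 LD2_c43 LD3_c45)) :=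
  Lre_f IH (LK LD1_c6 LD2_c39 LD3_c2) (LK LD1_c12 LD2_c43 LD3_c45) Lrfl Lrfl
theorem f116845 : Led Lsl_ft (LP (LK LD1_c12 LD2_c23 LD3_c21)) = (LP (LK LD1_c6 LD2_c25 LD3_c9)) :=
  Lre_f IH (LK LD1_c12 LD2_c23 LD3_c21) (LK LD1_c6 LD2_c25 LD3_c9) Lrfl Lrfl
theorem f116846 : Led Lsl_bt (LP (LK LD1_c12 LD2_c43 LD3_c45)) = (LP (LK LD1_c12 LD2_c23 LD3_c21)) :=
  Lgr Lrot35 (Lpe (f116844 IH) (Lpr_bf (K6.f116837 IH) (Lpe (f116845 IH) (Lpn (LP (LK LD1_c12 LD2_c23 LD3_c21))))))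
theorem f499170 : Led Lsl_ef (LP (LK LD1_c11 LD2_c38 LD3_c22)) = (LP (LK LD1_c12 LD2_c23 LD3_c21)) :=
  Lgr Lrot29 (Lpe (f141819 IH) (Lpr_et (f499156 IH) (Lpr_bt (f116846 IH) (Lpn (LP (LK LD1_c12 LD2_c23 LD3_c21))))))
theorem f161865 : Led Lsl_et (LP (LK LD1_c3 LD2_c10 LD3_c17)) = (LP (LK LD1_c6 LD2_c25 LD3_c17)) :=
  Lre_e IH (LK LD1_c3 LD2_c10 LD3_c17) (LK LD1_c6 LD2_c25 LD3_c17) Lrfl Lrfl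
theorem f161240 : Led Lsl_et (LP (LK LD1_c5 LD2_c56 LD3_c37)) = (LP (LK LD1_c2 LD2_c54 LD3_c37)) :=
  Lre_e IH (LK LD1_c5 LD2_c56 LD3_c37) (LK LD1_c2 LD2_c54 LD3_c37) Lrfl Lrfl
theorem f496908 : Led Lsl_ft (LP (LK LD1_c11 LD2_c38 LD3_c34)) = (LP (LK LD1_c5 LD2_c56 LD3_c37)) :=
  Lre_f IH (LK LD1_c11 LD2_c38 LD3_c34) (LK LD1_c5 LD2_c56 LD3_c37) Lrfl Lrfl
theorem f496909 : Led Lsl_et (LP (LK LD1_c12 LD2_c23 LD3_c30)) = (LP (LK LD1_c11 LD2_c38 LD3_c34)) :=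
  Lgr Lrot69 (Lpe (K32.f496828 IH) (Lpe (f161865 IH) (Lpr_ff (K32.f496904 IH) (Lpe (f161240 IH) (Lpe (f496908 IH) (Lpn (LP (LK LD1_c11 LD2_c38 LD3_c34))))))))
theorem f499172 : Led Lsl_at (LP (LK LD1_c11 LD2_c38 LD3_c34)) = (LP (LK LD1_c12 LD2_c23 LD3_c21)) :=
  Lgr Lrot80 (Lpe (f496909 IH) (Lpr_af (K55.f496822 IH) (Lpr_ef (f499170 IH) (Lpn (LP (LK LD1_c12 LD2_c23 LD3_c21))))))
theorem f499175 : Led Lsl_ft (LP (LK LD1_c5 LD2_c56 LD3_c37)) = (LP (LK LD1_c11 LD2_c38 LD3_c34)) :=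
  Lre_f IH (LK LD1_c5 LD2_c56 LD3_c37) (LK LD1_c11 LD2_c38 LD3_c34) Lrfl Lrfl
theorem f499176 : Led Lsl_af (LP (LK LD1_c5 LD2_c56 LD3_c37)) = (LP (LK LD1_c6 LD2_c25 LD3_c9)) :=
  Lgr Lrot45 (Lpr_ft (f499175 IH) (Lpr_at (f499172 IH) (Lpr_ft (f116845 IH) (Lpn (LP (LK LD1_c6 LD2_c25 LD3_c9))))))
theorem f499185 : Led Lsl_gf (LP (LK LD1_c11 LD2_c38 LD3_c32)) = (LP (LK LD1_c12 LD2_c23 LD3_c21)) :=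
  Lgr Lrot47 (Lpr_gt (f157121 IH) (Lpr_af (f499176 IH) (Lpe (f116845 IH) (Lpn (LP (LK LD1_c12 LD2_c23 LD3_c21))))))
theorem f116854 : Led Lsl_ct (LP (LK LD1_c6 LD2_c25 LD3_c11)) = (LP (LK LD1_c12 LD2_c23 LD3_c21)) :=
  Lre_c IH (LK LD1_c6 LD2_c25 LD3_c11) (LK LD1_c12 LD2_c23 LD3_c21) Lrfl Lrfl
theorem f752642 : v13110 = (LP (LK LD1_c6 LD2_c25 LD3_c11)) :=
  (Llr Lrot82 (Lpe (f701161 IH) (Lpe (K52.f140013 IH) (Lpr_ct (K50.f140014 IH) (Lpe (K9.f59486 IH) (Lpe (K2.f59449 IH) (Lpr_bt (K8.f73249 IH) (Lpe (f73262 IH) (Lpe (f73270 IH) (Lpr_ct (f752601 IH) (Lpr_gf (f499185 IH) (Lpe (f116854 IH) (Lpn (LP (LK LD1_c6 LD2_c25 LD3_c11))))))))))))))).symm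
theorem f752643 : K52.v5181 = (LP (LK LD1_c5 LD2_c56 LD3_c38)) :=
  Lefun (Lecon (Lfl_gf (f701162 IH)) (f752642 IH)) (Lfl_gf (f496798 IH))
theorem f752654 : v16277 = (LP (LK LD1_c11 LD2_c38 LD3_c35)) :=
  Lefun (Lecon (f747483 IH) (f752643 IH)) (f496803 IH)
theorem f747484 : Led Lsl_ft (LP (LK LD1_c12 LD2_c23 LD3_c22)) = v16277 :=
  Lgr Lrot48 (Lpr_ff (f747481 IH) (Lpn v16277))
theorem f140020 : Led Lsl_ct (LP (LK LD1_c9 LD2_c15 LD3_c37)) = (LP (LK LD1_c4 LD2_c40 LD3_c3)) :=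
  Lre_c IH (LK LD1_c9 LD2_c15 LD3_c37) (LK LD1_c4 LD2_c40 LD3_c3) Lrfl Lrfl
theorem f639480 : Led Lsl_ff (LP (LK LD1_c9 LD2_c15 LD3_c37)) = (LP (LK LD1_c6 LD2_c8 LD3_c58)) :=
  Lgr Lrot23 (Lpr_ct (f140020 IH) (Lpr_ft (f639477 IH) (Lpr_ct (K52.f58503 IH) (Lpn (LP (LK LD1_c6 LD2_c8 LD3_c58))))))
theorem f747485 : Led Lsl_af (LP (LK LD1_c6 LD2_c8 LD3_c58)) = v16277 :=
  Lgr Lrot45 (Lpe (f639480 IH) (Lpe (f714404 IH) (Lpr_ft (f747484 IH) (Lpn v16277))))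
theorem f444259 : Led Lsl_et (LP (LK LD1_c6 LD2_c8 LD3_c58)) = (LP (LK LD1_c11 LD2_c59 LD3_c9)) :=
  Lre_e IH (LK LD1_c6 LD2_c8 LD3_c58) (LK LD1_c11 LD2_c59 LD3_c9) Lrfl Lrfl
theorem f752738 : Led Lsl_af (LP (LK LD1_c20 LD2_c37 LD3_c47)) = (LP (LK LD1_c11 LD2_c59 LD3_c9)) :=
  Lgr Lrot50 (Lpr_et (f752662 IH) (Lpq (f752654 IH) (Lpe (f747485 IH) (Lpr_et (f444259 IH) (Lpn (LP (LK LD1_c11 LD2_c59 LD3_c9)))))))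
theorem f714227 : Led Lsl_ct (LP (LK LD1_c20 LD2_c37 LD3_c47)) = (LP (LK LD1_c11 LD2_c38 LD3_c37)) :=
  Lre_c IH (LK LD1_c20 LD2_c37 LD3_c47) (LK LD1_c11 LD2_c38 LD3_c37) Lrfl Lrfl
theorem f444248 : Led Lsl_ct (LP (LK LD1_c6 LD2_c8 LD3_c60)) = (LP (LK LD1_c11 LD2_c59 LD3_c9)) :=
  Lre_c IH (LK LD1_c6 LD2_c8 LD3_c60) (LK LD1_c11 LD2_c59 LD3_c9) Lrfl Lrfl
theorem f752742 : Led Lsl_at (LP (LK LD1_c11 LD2_c38 LD3_c37)) = (LP (LK LD1_c6 LD2_c8 LD3_c60)) :=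
  Lgr Lrot107 (Lpe (f714227 IH) (Lpr_af (f752738 IH) (Lpe (f444248 IH) (Lpn (LP (LK LD1_c6 LD2_c8 LD3_c60))))))
def v16303 : LQ := Led Lsl_bt (LP (LK LD1_c5 LD2_c57 LD3_c18))
theorem f748350 : Led Lsl_bt (LP (LK LD1_c5 LD2_c57 LD3_c18)) = v16303 :=
  Lrfl
theorem f639571 : Led Lsl_ff (LP (LK LD1_c5 LD2_c57 LD3_c18)) = (LP (LK LD1_c3 LD2_c0 LD3_c51)) :=
  Lgr Lrot19 (Lpr_dt (K46.f507518 IH) (Lpr_ft (K50.f639567 IH) (Lpr_dt (K50.f444222 IH) (Lpn (LP (LK LD1_c3 LD2_c0 LD3_c51))))))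
theorem f444216 : Led Lsl_bt (LP (LK LD1_c6 LD2_c8 LD3_c60)) = (LP (LK LD1_c3 LD2_c0 LD3_c51)) :=
  Lre_b IH (LK LD1_c6 LD2_c8 LD3_c60) (LK LD1_c3 LD2_c0 LD3_c51) Lrfl Lrfl
theorem f748353 : Led Lsl_ff (LP (LK LD1_c6 LD2_c8 LD3_c60)) = v16303 :=
  Lgr Lrot25 (Lpr_bt (f444216 IH) (Lpe (f639571 IH) (Lpr_bt (f748350 IH) (Lpn v16303))))
theorem f748355 : Led Lsl_ft (LP (LK LD1_c6 LD2_c8 LD3_c60)) = v16303 :=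
  Lgr Lrot48 (Lpr_ff (f748353 IH) (Lpn v16303))
theorem f747872 : Led Lsl_af (LP (LK LD1_c5 LD2_c56 LD3_c54)) = (LP (LK LD1_c11 LD2_c36 LD3_c60)) :=
  Lgr Lrot45 (Lpr_ft (K55.f747789 IH) (Lpe (K55.f747794 IH) (Lpr_ft (K55.f747870 IH) (Lpn (LP (LK LD1_c11 LD2_c36 LD3_c60))))))
theorem f747787 : Led Lsl_et (LP (LK LD1_c5 LD2_c56 LD3_c54)) = (LP (LK LD1_c11 LD2_c39 LD3_c6)) :=
  Lre_e IH (LK LD1_c5 LD2_c56 LD3_c54) (LK LD1_c11 LD2_c39 LD3_c6) Lrfl Lrfl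
theorem f506707 : Led Lsl_ct (LP (LK LD1_c11 LD2_c36 LD3_c60)) = (LP (LK LD1_c5 LD2_c55 LD3_c55)) :=
  Lre_c IH (LK LD1_c11 LD2_c36 LD3_c60) (LK LD1_c5 LD2_c55 LD3_c55) Lrfl Lrfl
theorem f140703 : Led Lsl_ct (LP (LK LD1_c11 LD2_c22 LD3_c29)) = (LP (LK LD1_c20 LD2_c20 LD3_c16)) :=
  Lre_c IH (LK LD1_c11 LD2_c22 LD3_c29) (LK LD1_c20 LD2_c20 LD3_c16) Lrfl Lrfl
theorem f714366 : Led Lsl_ef (LP (LK LD1_c11 LD2_c36 LD3_c60)) = (LP (LK LD1_c20 LD2_c20 LD3_c16)) :=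
  Lgr Lrot28 (Lpr_ct (f506707 IH) (Lpr_et (K55.f714364 IH) (Lpr_ct (f140703 IH) (Lpn (LP (LK LD1_c20 LD2_c20 LD3_c16))))))
theorem f747888 : Led Lsl_at (LP (LK LD1_c11 LD2_c39 LD3_c6)) = (LP (LK LD1_c20 LD2_c20 LD3_c16)) :=
  Lgr Lrot80 (Lpe (f747787 IH) (Lpr_af (f747872 IH) (Lpr_ef (f714366 IH) (Lpn (LP (LK LD1_c20 LD2_c20 LD3_c16))))))
theorem f642329 : Led Lsl_ct (LP (LK LD1_c5 LD2_c56 LD3_c56)) = (LP (LK LD1_c11 LD2_c39 LD3_c6)) :=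
  Lre_c IH (LK LD1_c5 LD2_c56 LD3_c56) (LK LD1_c11 LD2_c39 LD3_c6) Lrfl Lrfl
theorem f140620 : Led Lsl_ct (LP (LK LD1_c20 LD2_c20 LD3_c16)) = (LP (LK LD1_c11 LD2_c22 LD3_c29)) :=
  Lre_c IH (LK LD1_c20 LD2_c20 LD3_c16) (LK LD1_c11 LD2_c22 LD3_c29) Lrfl Lrfl
theorem f747892 : Led Lsl_af (LP (LK LD1_c5 LD2_c56 LD3_c56)) = (LP (LK LD1_c11 LD2_c22 LD3_c29)) :=
  Lgr Lrot68 (Lpr_ct (f642329 IH) (Lpr_at (f747888 IH) (Lpr_ct (f140620 IH) (Lpn (LP (LK LD1_c11 LD2_c22 LD3_c29))))))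
theorem f747902 : Led Lsl_ft (LP (LK LD1_c11 LD2_c50 LD3_c13)) = (LP (LK LD1_c11 LD2_c22 LD3_c29)) :=
  Lgr Lrot2 (Lpe (K55.f714561 IH) (Lpr_gt (K55.f714581 IH) (Lpr_af (f747892 IH) (Lpn (LP (LK LD1_c11 LD2_c22 LD3_c29))))))
theorem f747910 : Led Lsl_ff (LP (LK LD1_c11 LD2_c50 LD3_c13)) = (LP (LK LD1_c11 LD2_c22 LD3_c29)) :=
  Lgr Lrot3 (Lpr_ft (f747902 IH) (Lpn (LP (LK LD1_c11 LD2_c22 LD3_c29))))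
theorem f747580 : (LP (LK LD1_c2 LD2_c54 LD3_c43)) = K55.v16259 :=
  Lefun (Lecon (Lfl_ff (K55.f641141 IH)) (K55.f747576 IH)) (K55.f747386 IH)
theorem f425726 : Led Lsl_et (LP (LK LD1_c5 LD2_c56 LD3_c52)) = (LP (LK LD1_c2 LD2_c54 LD3_c43)) :=
  Lre_e IH (LK LD1_c5 LD2_c56 LD3_c52) (LK LD1_c2 LD2_c54 LD3_c43) Lrfl Lrfl
theorem f641140 : Led Lsl_ft (LP (LK LD1_c11 LD2_c39 LD3_c1)) = (LP (LK LD1_c5 LD2_c56 LD3_c52)) :=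
  Lre_f IH (LK LD1_c11 LD2_c39 LD3_c1) (LK LD1_c5 LD2_c56 LD3_c52) Lrfl Lrfl
theorem f747916 : Led Lsl_et (LP (LK LD1_c11 LD2_c50 LD3_c13)) = (LP (LK LD1_c11 LD2_c39 LD3_c1)) :=
  Lgr Lrot69 (Lpr_ff (f747910 IH) (Lpe (K55.f714364 IH) (Lpr_ff (K55.f747388 IH) (Lpq (f747580 IH) (Lpe (f425726 IH) (Lpe (f641140 IH) (Lpn (LP (LK LD1_c11 LD2_c39 LD3_c1)))))))))
theorem f645572 : Led Lsl_dt (LP (LK LD1_c11 LD2_c50 LD3_c13)) = (LP (LK LD1_c6 LD2_c3 LD3_c13)) :=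
  Lre_d IH (LK LD1_c11 LD2_c50 LD3_c13) (LK LD1_c6 LD2_c3 LD3_c13) Lrfl Lrfl
theorem f645475 : Led Lsl_et (LP (LK LD1_c4 LD2_c39 LD3_c0)) = (LP (LK LD1_c9 LD2_c13 LD3_c48)) :=
  Lre_e IH (LK LD1_c4 LD2_c39 LD3_c0) (LK LD1_c9 LD2_c13 LD3_c48) Lrfl Lrfl
theorem f714563 : Led Lsl_gt (LP (LK LD1_c9 LD2_c5 LD3_c1)) = (LP (LK LD1_c11 LD2_c50 LD3_c13)) :=
  Lgr Lrot5 (Lpe (K51.f639249 IH) (Lpr_at (K55.f140699 IH) (Lpr_gf (K55.f714561 IH) (Lpn (LP (LK LD1_c11 LD2_c50 LD3_c13))))))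
theorem f706495 : Led Lsl_ef (LP (LK LD1_c9 LD2_c5 LD3_c1)) = (LP (LK LD1_c11 LD2_c49 LD3_c26)) :=
  Lgr Lrot88 (Lpr_et (K51.f706492 IH) (Lpn (LP (LK LD1_c11 LD2_c49 LD3_c26))))
theorem f116924 : Led Lsl_et (LP (LK LD1_c6 LD2_c44 LD3_c40)) = (LP (LK LD1_c12 LD2_c53 LD3_c50)) :=
  Lre_e IH (LK LD1_c6 LD2_c44 LD3_c40) (LK LD1_c12 LD2_c53 LD3_c50) Lrfl Lrfl
theorem f568457 : Led Lsl_et (LP (LK LD1_c5 LD2_c42 LD3_c37)) = (LP (LK LD1_c11 LD2_c15 LD3_c25)) :=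
  Lre_e IH (LK LD1_c5 LD2_c42 LD3_c37) (LK LD1_c11 LD2_c15 LD3_c25) Lrfl Lrfl
theorem f568458 : Led Lsl_gf (LP (LK LD1_c12 LD2_c53 LD3_c50)) = (LP (LK LD1_c11 LD2_c15 LD3_c25)) :=
  Lgr Lrot141 (Lpe (f116924 IH) (Lpr_dt (K55.f116912 IH) (Lpr_gt (K55.f116904 IH) (Lpe (K46.f116897 IH) (Lpr_et (K35.f538079 IH) (Lpr_gt (K40.f562686 IH) (Lpe (K40.f186360 IH) (Lpr_gt (K42.f568444 IH) (Lpe (K42.f268863 IH) (Lpr_et (f568457 IH) (Lpn (LP (LK LD1_c11 LD2_c15 LD3_c25)))))))))))))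
theorem f268816 : Led Lsl_dt (LP (LK LD1_c5 LD2_c42 LD3_c36)) = (LP (LK LD1_c11 LD2_c15 LD3_c25)) :=
  Lre_d IH (LK LD1_c5 LD2_c42 LD3_c36) (LK LD1_c11 LD2_c15 LD3_c25) Lrfl Lrfl
theorem f568466 : Led Lsl_gt (LP (LK LD1_c12 LD2_c3 LD3_c33)) = (LP (LK LD1_c6 LD2_c11 LD3_c57)) :=
  Lgr Lrot137 (Lpe (K55.f116922 IH) (Lpe (K55.f116915 IH) (Lpr_gf (f568458 IH) (Lpe (f268816 IH) (Lpr_et (K16.f268817 IH) (Lpr_gf (K37.f542254 IH) (Lpr_ef (K40.f73040 IH) (Lpr_dt (K40.f73017 IH) (Lpe (K50.f73029 IH) (Lpe (K50.f73054 IH) (Lpn (LP (LK LD1_c6 LD2_c11 LD3_c57)))))))))))))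
theorem f100206 : Led Lsl_dt (LP (LK LD1_c3 LD2_c2 LD3_c31)) = (LP (LK LD1_c6 LD2_c11 LD3_c57)) :=
  Lre_d IH (LK LD1_c3 LD2_c2 LD3_c31) (LK LD1_c6 LD2_c11 LD3_c57) Lrfl Lrfl
theorem f568471 : Led Lsl_gf (LP (LK LD1_c6 LD2_c2 LD3_c28)) = (LP (LK LD1_c6 LD2_c11 LD3_c58)) :=
  Lgr Lrot138 (Lpr_dt (K45.f116997 IH) (Lpr_gt (K45.f117000 IH) (Lpe (K49.f538058 IH) (Lpe (K35.f206906 IH) (Lpr_gt (K55.f207128 IH) (Lpe (K55.f116905 IH) (Lpr_dt (K55.f116906 IH) (Lpr_gt (f568466 IH) (Lpe (f100206 IH) (Lpr_et (K51.f568470 IH) (Lpn (LP (LK LD1_c6 LD2_c11 LD3_c58)))))))))))))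
theorem f614930 : Led Lsl_gf (LP (LK LD1_c6 LD2_c11 LD3_c58)) = (LP (LK LD1_c6 LD2_c2 LD3_c31)) :=
  Lgr Lrot47 (Lpe (f568471 IH) (Lpe (K45.f614902 IH) (Lpr_ff (K45.f614922 IH) (Lpn (LP (LK LD1_c6 LD2_c2 LD3_c31))))))
theorem f714612 : Led Lsl_gf (LP (LK LD1_c6 LD2_c2 LD3_c32)) = (LP (LK LD1_c9 LD2_c13 LD3_c48)) :=
  Lgr Lrot141 (Lpe (K52.f614924 IH) (Lpr_dt (K45.f204218 IH) (Lpe (f614930 IH) (Lpe (K53.f615025 IH) (Lpe (f706495 IH) (Lpr_gt (f714563 IH) (Lpr_dt (f645572 IH) (Lpr_gt (K55.f645510 IH) (Lpe (K52.f645472 IH) (Lpr_et (f645475 IH) (Lpn (LP (LK LD1_c9 LD2_c13 LD3_c48)))))))))))))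
theorem f444250 : Led Lsl_dt (LP (LK LD1_c3 LD2_c0 LD3_c49)) = (LP (LK LD1_c6 LD2_c8 LD3_c59)) :=
  Lre_d IH (LK LD1_c3 LD2_c0 LD3_c49) (LK LD1_c6 LD2_c8 LD3_c59) Lrfl Lrfl
theorem f444252 : Led Lsl_et (LP (LK LD1_c3 LD2_c0 LD3_c49)) = (LP (LK LD1_c6 LD2_c8 LD3_c60)) :=
  Lre_e IH (LK LD1_c3 LD2_c0 LD3_c49) (LK LD1_c6 LD2_c8 LD3_c60) Lrfl Lrfl
theorem f748052 : Led Lsl_gt (LP (LK LD1_c6 LD2_c8 LD3_c60)) = (LP (LK LD1_c11 LD2_c39 LD3_c1)) :=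
  Lgr Lrot131 (Lpe (f444252 IH) (Lpr_dt (f444250 IH) (Lpr_gf (K52.f714146 IH) (Lpe (K53.f69225 IH) (Lpr_gf (f714612 IH) (Lpe (f645475 IH) (Lpr_dt (K52.f645472 IH) (Lpe (K55.f645510 IH) (Lpe (f645572 IH) (Lpr_et (f747916 IH) (Lpn (LP (LK LD1_c11 LD2_c39 LD3_c1)))))))))))))
theorem f745995 : Led Lsl_et (LP (LK LD1_c5 LD2_c56 LD3_c50)) = (LP (LK LD1_c11 LD2_c38 LD3_c58)) :=
  Lre_e IH (LK LD1_c5 LD2_c56 LD3_c50) (LK LD1_c11 LD2_c38 LD3_c58) Lrfl Lrfl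
theorem f747788 : Led Lsl_et (LP (LK LD1_c20 LD2_c35 LD3_c20)) = (LP (LK LD1_c11 LD2_c36 LD3_c58)) :=
  Lre_e IH (LK LD1_c20 LD2_c35 LD3_c20) (LK LD1_c11 LD2_c36 LD3_c58) Lrfl Lrfl
theorem f747800 : Led Lsl_at (LP (LK LD1_c11 LD2_c38 LD3_c58)) = (LP (LK LD1_c20 LD2_c35 LD3_c20)) :=
  Lgr Lrot80 (Lpe (f745995 IH) (Lpr_af (K55.f747794 IH) (Lpe (f747788 IH) (Lpn (LP (LK LD1_c20 LD2_c35 LD3_c20))))))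
theorem f425736 : Led Lsl_ct (LP (LK LD1_c5 LD2_c56 LD3_c52)) = (LP (LK LD1_c11 LD2_c38 LD3_c58)) :=
  Lre_c IH (LK LD1_c5 LD2_c56 LD3_c52) (LK LD1_c11 LD2_c38 LD3_c58) Lrfl Lrfl
theorem f700758 : Led Lsl_ct (LP (LK LD1_c20 LD2_c35 LD3_c20)) = (LP (LK LD1_c11 LD2_c36 LD3_c59)) :=
  Lre_c IH (LK LD1_c20 LD2_c35 LD3_c20) (LK LD1_c11 LD2_c36 LD3_c59) Lrfl Lrfl
theorem f747804 : Led Lsl_af (LP (LK LD1_c5 LD2_c56 LD3_c52)) = (LP (LK LD1_c11 LD2_c36 LD3_c59)) :=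
  Lgr Lrot68 (Lpr_ct (f425736 IH) (Lpr_at (f747800 IH) (Lpr_ct (f700758 IH) (Lpn (LP (LK LD1_c11 LD2_c36 LD3_c59))))))
theorem f747807 : Led Lsl_at (LP (LK LD1_c5 LD2_c56 LD3_c52)) = (LP (LK LD1_c11 LD2_c36 LD3_c59)) :=
  Lgr Lrot100 (Lpr_af (f747804 IH) (Lpn (LP (LK LD1_c11 LD2_c36 LD3_c59))))
theorem f700757 : Led Lsl_gt (LP (LK LD1_c20 LD2_c35 LD3_c21)) = (LP (LK LD1_c11 LD2_c36 LD3_c59)) :=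
  Lre_g IH (LK LD1_c20 LD2_c35 LD3_c21) (LK LD1_c11 LD2_c36 LD3_c59) Lrfl Lrfl
theorem f747811 : Led Lsl_gt (LP (LK LD1_c11 LD2_c39 LD3_c1)) = (LP (LK LD1_c20 LD2_c35 LD3_c21)) :=
  Lgr Lrot5 (Lpr_ft (f641140 IH) (Lpr_at (f747807 IH) (Lpe (f700757 IH) (Lpn (LP (LK LD1_c20 LD2_c35 LD3_c21))))))
theorem f748356 : Led Lsl_af (LP (LK LD1_c20 LD2_c35 LD3_c21)) = v16303 :=
  Lgr Lrot31 (Lpe (f747811 IH) (Lpe (f748052 IH) (Lpr_ft (f748355 IH) (Lpn v16303))))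
theorem f752748 : Led Lsl_ff (LP (LK LD1_c11 LD2_c38 LD3_c37)) = (LP (LK LD1_c20 LD2_c35 LD3_c21)) :=
  Lgr Lrot30 (Lpr_at (f752742 IH) (Lpr_ft (f748355 IH) (Lpe (f748356 IH) (Lpn (LP (LK LD1_c20 LD2_c35 LD3_c21))))))
theorem f752750 : Led Lsl_ft (LP (LK LD1_c11 LD2_c38 LD3_c37)) = (LP (LK LD1_c20 LD2_c35 LD3_c21)) :=
  Lgr Lrot48 (Lpr_ff (f752748 IH) (Lpn (LP (LK LD1_c20 LD2_c35 LD3_c21))))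
theorem f714205 : Led Lsl_dt (LP (LK LD1_c9 LD2_c13 LD3_c55)) = (LP (LK LD1_c11 LD2_c35 LD3_c57)) :=
  Lgr Lrot44 (Lpr_af (K52.f714201 IH) (Lpe (K50.f69229 IH) (Lpr_af (K50.f700176 IH) (Lpn (LP (LK LD1_c11 LD2_c35 LD3_c57))))))
theorem f496802 : Led Lsl_dt (LP (LK LD1_c5 LD2_c56 LD3_c38)) = (LP (LK LD1_c11 LD2_c38 LD3_c36)) :=
  Lre_d IH (LK LD1_c5 LD2_c56 LD3_c38) (LK LD1_c11 LD2_c38 LD3_c36) Lrfl Lrfl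
theorem f621445 : Led Lsl_et (LP (LK LD1_c5 LD2_c56 LD3_c38)) = (LP (LK LD1_c11 LD2_c38 LD3_c37)) :=
  Lre_e IH (LK LD1_c5 LD2_c56 LD3_c38) (LK LD1_c11 LD2_c38 LD3_c37) Lrfl Lrfl
theorem f714223 : Led Lsl_et (LP (LK LD1_c11 LD2_c22 LD3_c30)) = (LP (LK LD1_c20 LD2_c20 LD3_c18)) :=
  Lre_e IH (LK LD1_c11 LD2_c22 LD3_c30) (LK LD1_c20 LD2_c20 LD3_c18) Lrfl Lrfl
theorem f714224 : Led Lsl_gt (LP (LK LD1_c11 LD2_c38 LD3_c37)) = (LP (LK LD1_c20 LD2_c20 LD3_c18)) :=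
  Lgr Lrot131 (Lpe (f621445 IH) (Lpr_dt (f496802 IH) (Lpr_gf (K49.f691516 IH) (Lpe (f714205 IH) (Lpe (K52.f23064 IH) (Lpe (K52.f23059 IH) (Lpr_dt (K52.f23073 IH) (Lpe (K52.f140966 IH) (Lpr_df (K52.f714217 IH) (Lpr_et (f714223 IH) (Lpn (LP (LK LD1_c20 LD2_c20 LD3_c18)))))))))))))
theorem f747918 : Led Lsl_at (LP (LK LD1_c11 LD2_c50 LD3_c13)) = (LP (LK LD1_c11 LD2_c22 LD3_c30)) :=
  Lgr Lrot26 (Lpr_ff (f747910 IH) (Lpr_gt (K55.f640133 IH) (Lpe (K52.f640266 IH) (Lpn (LP (LK LD1_c11 LD2_c22 LD3_c30))))))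
theorem f747898 : Led Lsl_at (LP (LK LD1_c5 LD2_c56 LD3_c56)) = (LP (LK LD1_c11 LD2_c22 LD3_c29)) :=
  Lgr Lrot100 (Lpr_af (f747892 IH) (Lpn (LP (LK LD1_c11 LD2_c22 LD3_c29))))
theorem f747928 : Led Lsl_ff (LP (LK LD1_c5 LD2_c56 LD3_c56)) = (LP (LK LD1_c11 LD2_c22 LD3_c30)) :=
  Lgr Lrot30 (Lpr_at (f747898 IH) (Lpe (f747910 IH) (Lpr_at (f747918 IH) (Lpn (LP (LK LD1_c11 LD2_c22 LD3_c30))))))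
theorem f747936 : Led Lsl_ft (LP (LK LD1_c5 LD2_c56 LD3_c56)) = (LP (LK LD1_c11 LD2_c22 LD3_c30)) :=
  Lgr Lrot48 (Lpr_ff (f747928 IH) (Lpn (LP (LK LD1_c11 LD2_c22 LD3_c30))))
theorem f747583 : (LP (LK LD1_c5 LD2_c55 LD3_c54)) = K55.v4974 :=
  Lefun (Lecon (Lfl_ff (K55.f747397 IH)) (K55.f747577 IH).symm) (K55.f641130 IH)
theorem f117003 : Led Lsl_et (LP (LK LD1_c11 LD2_c36 LD3_c59)) = (LP (LK LD1_c5 LD2_c55 LD3_c54)) :=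
  Lre_e IH (LK LD1_c11 LD2_c36 LD3_c59) (LK LD1_c5 LD2_c55 LD3_c54) Lrfl Lrfl
theorem f747942 : Led Lsl_ff (LP (LK LD1_c11 LD2_c36 LD3_c59)) = (LP (LK LD1_c20 LD2_c20 LD3_c18)) :=
  Lgr Lrot72 (Lpr_et (f117003 IH) (Lpqs (f747583 IH) (Lpe (K55.f641134 IH) (Lpr_et (K55.f641137 IH) (Lpr_ft (f747936 IH) (Lpr_et (f714223 IH) (Lpn (LP (LK LD1_c20 LD2_c20 LD3_c18)))))))))
theorem f425730 : Led Lsl_gt (LP (LK LD1_c11 LD2_c38 LD3_c61)) = (LP (LK LD1_c5 LD2_c56 LD3_c52)) :=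
  Lre_g IH (LK LD1_c11 LD2_c38 LD3_c61) (LK LD1_c5 LD2_c56 LD3_c52) Lrfl Lrfl
theorem f747946 : Led Lsl_gf (LP (LK LD1_c11 LD2_c38 LD3_c61)) = (LP (LK LD1_c20 LD2_c20 LD3_c18)) :=
  Lgr Lrot47 (Lpr_gt (f425730 IH) (Lpr_af (f747804 IH) (Lpr_ff (f747942 IH) (Lpn (LP (LK LD1_c20 LD2_c20 LD3_c18))))))
theorem f748357 : Led Lsl_at (LP (LK LD1_c20 LD2_c35 LD3_c21)) = v16303 :=
  Lgr Lrot100 (Lpr_af (f748356 IH) (Lpn v16303))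
theorem f752752 : (LP (LK LD1_c11 LD2_c38 LD3_c61)) = v16303 :=
  (Llr Lrot46 (Lpr_gf (f747946 IH) (Lpe (f714224 IH) (Lpr_ft (f752750 IH) (Lpr_at (f748357 IH) (Lpn v16303)))))).symm
theorem f444249 : Led Lsl_et (LP (LK LD1_c6 LD2_c8 LD3_c60)) = (LP (LK LD1_c3 LD2_c0 LD3_c49)) :=
  Lre_e IH (LK LD1_c6 LD2_c8 LD3_c60) (LK LD1_c3 LD2_c0 LD3_c49) Lrfl Lrfl
theorem f445884 : Led Lsl_et (LP (LK LD1_c4 LD2_c40 LD3_c3)) = (LP (LK LD1_c9 LD2_c15 LD3_c39)) :=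
  Lre_e IH (LK LD1_c4 LD2_c40 LD3_c3) (LK LD1_c9 LD2_c15 LD3_c39) Lrfl Lrfl
theorem f414594 : Led Lsl_bt (LP (LK LD1_c3 LD2_c21 LD3_c2)) = (LP (LK LD1_c6 LD2_c45 LD3_c55)) :=
  Lre_b IH (LK LD1_c3 LD2_c21 LD3_c2) (LK LD1_c6 LD2_c45 LD3_c55) Lrfl Lrfl
theorem f27097 : Led Lsl_bt (LP (LK LD1_c9 LD2_c15 LD3_c39)) = (LP (LK LD1_c4 LD2_c40 LD3_c5)) :=
  Lre_b IH (LK LD1_c9 LD2_c15 LD3_c39) (LK LD1_c4 LD2_c40 LD3_c5) Lrfl Lrfl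
theorem f639592 : Led Lsl_ft (LP (LK LD1_c6 LD2_c45 LD3_c55)) = (LP (LK LD1_c9 LD2_c15 LD3_c39)) :=
  Lgr Lrot75 (Lpe (f414594 IH) (Lpr_ff (K51.f639590 IH) (Lpe (f27097 IH) (Lpn (LP (LK LD1_c9 LD2_c15 LD3_c39))))))
theorem f639612 : Led Lsl_ff (LP (LK LD1_c6 LD2_c45 LD3_c55)) = (LP (LK LD1_c9 LD2_c15 LD3_c39)) :=
  Lgr Lrot3 (Lpr_ft (f639592 IH) (Lpn (LP (LK LD1_c9 LD2_c15 LD3_c39))))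
theorem f748354 : Led Lsl_et (LP (LK LD1_c6 LD2_c45 LD3_c55)) = v16303 :=
  Lgr Lrot69 (Lpr_ff (f639612 IH) (Lpe (f445884 IH) (Lpr_ff (K52.f639471 IH) (Lpe (f444249 IH) (Lpr_ff (f748353 IH) (Lpn v16303))))))
theorem f645504 : Led Lsl_dt (LP (LK LD1_c2 LD2_c57 LD3_c42)) = (LP (LK LD1_c6 LD2_c3 LD3_c10)) :=
  Lre_d IH (LK LD1_c2 LD2_c57 LD3_c42) (LK LD1_c6 LD2_c3 LD3_c10) Lrfl Lrfl
theorem f700972 : Led Lsl_ef (LP (LK LD1_c4 LD2_c38 LD3_c61)) = K55.v13077 :=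
  Lgr Lrot88 (Lpr_et (K55.f700971 IH) (Lpn K55.v13077))
def v6351 : LQ := Led Lsl_dt (LP (LK LD1_c3 LD2_c20 LD3_c42))
theorem f652944 : Led Lsl_dt (LP (LK LD1_c3 LD2_c20 LD3_c42)) = v6351 :=
  Lrfl
theorem f752761 : v6371 = v6351 :=
  (Llr Lrot112 (Lpe (f653072 IH) (Lpe (f639614 IH) (Lpr_et (f748354 IH) (Lpq (f752752 IH) (Lpr_gf (f747946 IH) (Lpe (f714223 IH) (Lpe (K52.f714217 IH) (Lpe (K52.f645666 IH) (Lpe (f645504 IH) (Lpr_gf (K52.f645702 IH) (Lpr_ef (f700972 IH) (Lpq (K55.f713948 IH) (Lpqs (K51.f707329 IH) (Lpr_dt (f652944 IH) (Lpn v6351)))))))))))))))).symm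
def v5108 : LQ := Led Lsl_et (LP (LK LD1_c2 LD2_c57 LD3_c42))
theorem f645969 : Led Lsl_et (LP (LK LD1_c2 LD2_c57 LD3_c42)) = v5108 :=
  Lrfl
theorem f645971 : Led Lsl_ef (LP (LK LD1_c2 LD2_c57 LD3_c42)) = v5108 :=
  Lgr Lrot88 (Lpr_et (f645969 IH) (Lpn v5108))
def v16606 : LQ := Led Lsl_at (LP (LK LD1_c6 LD2_c3 LD3_c19))
theorem f750686 : Led Lsl_at (LP (LK LD1_c6 LD2_c3 LD3_c19)) = v16606 :=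
  Lrfl
theorem f645851 : Led Lsl_et (LP (LK LD1_c11 LD2_c50 LD3_c21)) = (LP (LK LD1_c6 LD2_c3 LD3_c19)) :=
  Lre_e IH (LK LD1_c11 LD2_c50 LD3_c21) (LK LD1_c6 LD2_c3 LD3_c19) Lrfl Lrfl
theorem f750689 : Led Lsl_ef (LP (LK LD1_c20 LD2_c11 LD3_c37)) = v16606 :=
  Lgr Lrot20 (Lpe (K55.f714537 IH) (Lpr_et (f645851 IH) (Lpr_at (f750686 IH) (Lpn v16606))))
theorem f501162 : Led Lsl_et (LP (LK LD1_c2 LD2_c57 LD3_c44)) = (LP (LK LD1_c6 LD2_c3 LD3_c16)) :=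
  Lre_e IH (LK LD1_c2 LD2_c57 LD3_c44) (LK LD1_c6 LD2_c3 LD3_c16) Lrfl Lrfl
theorem f714539 : Led Lsl_ef (LP (LK LD1_c6 LD2_c3 LD3_c10)) = (LP (LK LD1_c11 LD2_c15 LD3_c53)) :=
  Lgr Lrot20 (Lpr_at (K52.f501139 IH) (Lpr_et (f501162 IH) (Lpr_at (K55.f714531 IH) (Lpn (LP (LK LD1_c11 LD2_c15 LD3_c53))))))
theorem f645497 : Led Lsl_dt (LP (LK LD1_c6 LD2_c3 LD3_c10)) = (LP (LK LD1_c2 LD2_c57 LD3_c42)) :=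
  Lre_d IH (LK LD1_c6 LD2_c3 LD3_c10) (LK LD1_c2 LD2_c57 LD3_c42) Lrfl Lrfl
theorem f750690 : Led Lsl_dt v5108 = v16606 :=
  Lgr Lrot77 (Lpe (f645969 IH) (Lpe (f645497 IH) (Lpr_ef (f714539 IH) (Lpe (K55.f552631 IH) (Lpr_ef (f750689 IH) (Lpn v16606))))))
theorem f750691 : Led Lsl_et (LP (LK LD1_c20 LD2_c11 LD3_c37)) = v16606 :=
  Lgr Lrot87 (Lpr_ef (f750689 IH) (Lpn v16606))
theorem f547939 : Led Lsl_et (LP (LK LD1_c4 LD2_c35 LD3_c31)) = (LP (LK LD1_c2 LD2_c14 LD3_c59)) :=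
  Lre_e IH (LK LD1_c4 LD2_c35 LD3_c31) (LK LD1_c2 LD2_c14 LD3_c59) Lrfl Lrfl
theorem f435441 : Led Lsl_dt (LP (LK LD1_c4 LD2_c35 LD3_c31)) = (LP (LK LD1_c2 LD2_c14 LD3_c56)) :=
  Lre_d IH (LK LD1_c4 LD2_c35 LD3_c31) (LK LD1_c2 LD2_c14 LD3_c56) Lrfl Lrfl
theorem f547971 : Led Lsl_dt (LP (LK LD1_c9 LD2_c7 LD3_c31)) = (LP (LK LD1_c4 LD2_c35 LD3_c30)) :=
  Lre_d IH (LK LD1_c9 LD2_c7 LD3_c31) (LK LD1_c4 LD2_c35 LD3_c30) Lrfl Lrfl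
theorem f750692 : Led Lsl_gf (LP (LK LD1_c9 LD2_c7 LD3_c31)) = v16606 :=
  Lgr Lrot138 (Lpr_dt (f547971 IH) (Lpr_gt (K51.f445863 IH) (Lpe (f435441 IH) (Lpr_et (f547939 IH) (Lpr_gt (K36.f35189 IH) (Lpe (K40.f547886 IH) (Lpr_dt (K40.f552605 IH) (Lpr_gt (K55.f552617 IH) (Lpe (K55.f552631 IH) (Lpr_et (f750691 IH) (Lpn v16606)))))))))))
theorem f442686 : Led Lsl_dt (LP (LK LD1_c4 LD2_c35 LD3_c30)) = (LP (LK LD1_c9 LD2_c7 LD3_c31)) :=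
  Lre_d IH (LK LD1_c4 LD2_c35 LD3_c30) (LK LD1_c9 LD2_c7 LD3_c31) Lrfl Lrfl
theorem f615325 : Led Lsl_et (LP (LK LD1_c4 LD2_c35 LD3_c30)) = (LP (LK LD1_c9 LD2_c7 LD3_c32)) :=
  Lre_e IH (LK LD1_c4 LD2_c35 LD3_c30) (LK LD1_c9 LD2_c7 LD3_c32) Lrfl Lrfl
theorem f752767 : Led Lsl_gf (LP (LK LD1_c6 LD2_c45 LD3_c55)) = (LP (LK LD1_c9 LD2_c7 LD3_c32)) :=
  Lgr Lrot138 (Lpr_dt (f639614 IH) (Lpr_gt (f653072 IH) (Lpqs (f752761 IH) (Lpe (f652944 IH) (Lpr_et (K52.f652951 IH) (Lpq (K52.f707338 IH) (Lpqs (K52.f713935 IH) (Lpe (K52.f645702 IH) (Lpr_ef (f645971 IH) (Lpr_dt (f750690 IH) (Lpe (f750692 IH) (Lpe (f442686 IH) (Lpr_et (f615325 IH) (Lpn (LP (LK LD1_c9 LD2_c7 LD3_c32))))))))))))))))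
theorem f752768 : Led Lsl_gt (LP (LK LD1_c9 LD2_c7 LD3_c32)) = (LP (LK LD1_c6 LD2_c45 LD3_c55)) :=
  Leop (Lpr_gf (f752767 IH) (Lpn (LP (LK LD1_c9 LD2_c7 LD3_c32))))
theorem seed_1076 : LEOK LG_g (LK LD1_c9 LD2_c7 LD3_c32) :=
  Leoe_g (LK LD1_c9 LD2_c7 LD3_c32) (f752768 IH)
theorem f98998 : Led Lsl_dt (LP (LK LD1_c12 LD2_c55 LD3_c40)) = (LP (LK LD1_c6 LD2_c45 LD3_c54)) :=
  Lre_d IH (LK LD1_c12 LD2_c55 LD3_c40) (LK LD1_c6 LD2_c45 LD3_c54) Lrfl Lrfl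
theorem f98999 : Led Lsl_gt (LP (LK LD1_c22 LD2_c5 LD3_c25)) = (LP (LK LD1_c12 LD2_c55 LD3_c40)) :=
  Lre_g IH (LK LD1_c22 LD2_c5 LD3_c25) (LK LD1_c12 LD2_c55 LD3_c40) Lrfl Lrfl
theorem f707298 : Led Lsl_dt K51.v13875 = (LP (LK LD1_c9 LD2_c7 LD3_c32)) :=
  Lgr Lrot42 (Lpr_df (K51.f707297 IH) (Lpn (LP (LK LD1_c9 LD2_c7 LD3_c32))))
theorem f744631 : Led Lsl_ff (LP (LK LD1_c9 LD2_c32 LD3_c15)) = (LP (LK LD1_c6 LD2_c47 LD3_c21)) :=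
  Lgr Lrot3 (Lpr_ft (K55.f744627 IH) (Lpn (LP (LK LD1_c6 LD2_c47 LD3_c21))))
theorem f416516 : Led Lsl_gt (LP (LK LD1_c3 LD2_c21 LD3_c50)) = (LP (LK LD1_c6 LD2_c47 LD3_c20)) :=
  Lre_g IH (LK LD1_c3 LD2_c21 LD3_c50) (LK LD1_c6 LD2_c47 LD3_c20) Lrfl Lrfl
theorem f744636 : Led Lsl_at (LP (LK LD1_c9 LD2_c32 LD3_c15)) = (LP (LK LD1_c6 LD2_c47 LD3_c20)) :=
  Lgr Lrot26 (Lpr_ff (f744631 IH) (Lpr_gt (K51.f417141 IH) (Lpr_gt (f416516 IH) (Lpn (LP (LK LD1_c6 LD2_c47 LD3_c20))))))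
theorem f744623 : Led Lsl_at (LP (LK LD1_c9 LD2_c32 LD3_c14)) = (LP (LK LD1_c6 LD2_c47 LD3_c21)) :=
  Lgr Lrot100 (Lpr_af (K55.f744621 IH) (Lpn (LP (LK LD1_c6 LD2_c47 LD3_c21))))
theorem f744640 : Led Lsl_ff (LP (LK LD1_c9 LD2_c32 LD3_c14)) = (LP (LK LD1_c6 LD2_c47 LD3_c20)) :=
  Lgr Lrot30 (Lpr_at (f744623 IH) (Lpe (f744631 IH) (Lpr_at (f744636 IH) (Lpn (LP (LK LD1_c6 LD2_c47 LD3_c20))))))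
theorem f744646 : Led Lsl_ft (LP (LK LD1_c9 LD2_c32 LD3_c14)) = (LP (LK LD1_c6 LD2_c47 LD3_c20)) :=
  Lgr Lrot48 (Lpr_ff (f744640 IH) (Lpn (LP (LK LD1_c6 LD2_c47 LD3_c20))))
theorem f414971 : Led Lsl_bt (LP (LK LD1_c17 LD2_c34 LD3_c25)) = (LP (LK LD1_c9 LD2_c32 LD3_c14)) :=
  Lre_b IH (LK LD1_c17 LD2_c34 LD3_c25) (LK LD1_c9 LD2_c32 LD3_c14) Lrfl Lrfl
theorem f643450 : Led Lsl_bt (LP (LK LD1_c6 LD2_c47 LD3_c20)) = (LP (LK LD1_c12 LD2_c57 LD3_c42)) :=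
  Lre_b IH (LK LD1_c6 LD2_c47 LD3_c20) (LK LD1_c12 LD2_c57 LD3_c42) Lrfl Lrfl
theorem f744648 : Led Lsl_ff (LP (LK LD1_c17 LD2_c34 LD3_c25)) = (LP (LK LD1_c12 LD2_c57 LD3_c42)) :=
  Lgr Lrot25 (Lpr_bt (f414971 IH) (Lpr_ft (f744646 IH) (Lpr_bt (f643450 IH) (Lpn (LP (LK LD1_c12 LD2_c57 LD3_c42))))))
theorem f414947 : Led Lsl_bt (LP (LK LD1_c4 LD2_c49 LD3_c24)) = (LP (LK LD1_c2 LD2_c22 LD3_c30)) :=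
  Lre_b IH (LK LD1_c4 LD2_c49 LD3_c24) (LK LD1_c2 LD2_c22 LD3_c30) Lrfl Lrfl
theorem f414948 : Led Lsl_ct (LP (LK LD1_c4 LD2_c49 LD3_c24)) = (LP (LK LD1_c9 LD2_c31 LD3_c35)) :=
  Lre_c IH (LK LD1_c4 LD2_c49 LD3_c24) (LK LD1_c9 LD2_c31 LD3_c35) Lrfl Lrfl
theorem f414969 : Led Lsl_gt (LP (LK LD1_c17 LD2_c33 LD3_c33)) = (LP (LK LD1_c9 LD2_c31 LD3_c35)) :=
  Lre_g IH (LK LD1_c17 LD2_c33 LD3_c33) (LK LD1_c9 LD2_c31 LD3_c35) Lrfl Lrfl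
theorem f414955 : Led Lsl_bt (LP (LK LD1_c2 LD2_c22 LD3_c40)) = (LP (LK LD1_c4 LD2_c49 LD3_c50)) :=
  Lre_b IH (LK LD1_c2 LD2_c22 LD3_c40) (LK LD1_c4 LD2_c49 LD3_c50) Lrfl Lrfl
theorem f414972 : Led Lsl_cf (LP (LK LD1_c17 LD2_c33 LD3_c33)) = (LP (LK LD1_c17 LD2_c34 LD3_c25)) :=
  Lgr Lrot160 (Lpr_gt (f414969 IH) (Lpe (f414948 IH) (Lpr_bt (f414947 IH) (Lpe (K35.f414967 IH) (Lpr_ct (K24.f414416 IH) (Lpr_gt (K24.f414964 IH) (Lpe (K24.f414357 IH) (Lpr_bt (f414955 IH) (Lpr_gt (K52.f414970 IH) (Lpe (f414971 IH) (Lpn (LP (LK LD1_c17 LD2_c34 LD3_c25)))))))))))))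
theorem f705846 : Led Lsl_ct (LP (LK LD1_c12 LD2_c54 LD3_c54)) = (LP (LK LD1_c12 LD2_c57 LD3_c42)) :=
  Lre_c IH (LK LD1_c12 LD2_c54 LD3_c54) (LK LD1_c12 LD2_c57 LD3_c42) Lrfl Lrfl
theorem f744655 : Led Lsl_ft (LP (LK LD1_c17 LD2_c33 LD3_c33)) = (LP (LK LD1_c12 LD2_c54 LD3_c54)) :=
  Lgr Lrot4 (Lpr_cf (f414972 IH) (Lpr_ff (f744648 IH) (Lpe (f705846 IH) (Lpn (LP (LK LD1_c12 LD2_c54 LD3_c54))))))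
theorem f744658 : Led Lsl_ff (LP (LK LD1_c17 LD2_c33 LD3_c33)) = (LP (LK LD1_c12 LD2_c54 LD3_c54)) :=
  Lgr Lrot3 (Lpr_ft (f744655 IH) (Lpn (LP (LK LD1_c12 LD2_c54 LD3_c54))))
theorem f510243 : Led Lsl_gt (LP (LK LD1_c12 LD2_c54 LD3_c54)) = (LP (LK LD1_c6 LD2_c45 LD3_c19)) :=
  Lre_g IH (LK LD1_c12 LD2_c54 LD3_c54) (LK LD1_c6 LD2_c45 LD3_c19) Lrfl Lrfl
theorem f510302 : Led Lsl_gt (LP (LK LD1_c6 LD2_c45 LD3_c19)) = (LP (LK LD1_c12 LD2_c54 LD3_c53)) :=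
  Lre_g IH (LK LD1_c6 LD2_c45 LD3_c19) (LK LD1_c12 LD2_c54 LD3_c53) Lrfl Lrfl
theorem f744664 : Led Lsl_at (LP (LK LD1_c17 LD2_c33 LD3_c33)) = (LP (LK LD1_c12 LD2_c54 LD3_c53)) :=
  Lgr Lrot26 (Lpr_ff (f744658 IH) (Lpr_gt (f510243 IH) (Lpr_gt (f510302 IH) (Lpn (LP (LK LD1_c12 LD2_c54 LD3_c53))))))
theorem f414949 : Led Lsl_gt (LP (LK LD1_c9 LD2_c31 LD3_c35)) = (LP (LK LD1_c17 LD2_c33 LD3_c32)) :=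
  Lre_g IH (LK LD1_c9 LD2_c31 LD3_c35) (LK LD1_c17 LD2_c33 LD3_c32) Lrfl Lrfl
theorem f744660 : Led Lsl_af (LP (LK LD1_c17 LD2_c33 LD3_c32)) = (LP (LK LD1_c12 LD2_c54 LD3_c54)) :=
  Lgr Lrot31 (Lpe (f414949 IH) (Lpe (f414969 IH) (Lpr_ft (f744655 IH) (Lpn (LP (LK LD1_c12 LD2_c54 LD3_c54))))))
theorem f744662 : Led Lsl_at (LP (LK LD1_c17 LD2_c33 LD3_c32)) = (LP (LK LD1_c12 LD2_c54 LD3_c54)) :=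
  Lgr Lrot100 (Lpr_af (f744660 IH) (Lpn (LP (LK LD1_c12 LD2_c54 LD3_c54))))
theorem f744668 : Led Lsl_ff (LP (LK LD1_c17 LD2_c33 LD3_c32)) = (LP (LK LD1_c12 LD2_c54 LD3_c53)) :=
  Lgr Lrot30 (Lpr_at (f744662 IH) (Lpe (f744658 IH) (Lpr_at (f744664 IH) (Lpn (LP (LK LD1_c12 LD2_c54 LD3_c53))))))
theorem f744671 : Led Lsl_ft (LP (LK LD1_c17 LD2_c33 LD3_c32)) = (LP (LK LD1_c12 LD2_c54 LD3_c53)) :=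
  Lgr Lrot48 (Lpr_ff (f744668 IH) (Lpn (LP (LK LD1_c12 LD2_c54 LD3_c53))))
theorem f510203 : Led Lsl_at (LP (LK LD1_c12 LD2_c54 LD3_c55)) = (LP (LK LD1_c22 LD2_c4 LD3_c28)) :=
  Lre_a IH (LK LD1_c12 LD2_c54 LD3_c55) (LK LD1_c22 LD2_c4 LD3_c28) Lrfl Lrfl
theorem f414980 : Led Lsl_ct (LP (LK LD1_c9 LD2_c31 LD3_c35)) = (LP (LK LD1_c4 LD2_c49 LD3_c24)) :=
  Lre_c IH (LK LD1_c9 LD2_c31 LD3_c35) (LK LD1_c4 LD2_c49 LD3_c24) Lrfl Lrfl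
theorem f414984 : Led Lsl_dt (LP (LK LD1_c17 LD2_c33 LD3_c34)) = (LP (LK LD1_c9 LD2_c31 LD3_c35)) :=
  Lre_d IH (LK LD1_c17 LD2_c33 LD3_c34) (LK LD1_c9 LD2_c31 LD3_c35) Lrfl Lrfl
theorem f510204 : Led Lsl_ff (LP (LK LD1_c12 LD2_c54 LD3_c55)) = (LP (LK LD1_c17 LD2_c33 LD3_c34)) :=
  Lgr Lrot103 (Lpr_at (f510203 IH) (Lpr_cf (K49.f510191 IH) (Lpe (K49.f510190 IH) (Lpe (K49.f510189 IH) (Lpe (K49.f77065 IH) (Lpe (K49.f76931 IH) (Lpe (K49.f77072 IH) (Lpe (f414980 IH) (Lpe (f414984 IH) (Lpn (LP (LK LD1_c17 LD2_c33 LD3_c34))))))))))))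
theorem f510275 : Led Lsl_ft (LP (LK LD1_c12 LD2_c54 LD3_c55)) = (LP (LK LD1_c17 LD2_c33 LD3_c34)) :=
  Lgr Lrot48 (Lpr_ff (f510204 IH) (Lpn (LP (LK LD1_c17 LD2_c33 LD3_c34))))
theorem f509385 : Led Lsl_dt (LP (LK LD1_c6 LD2_c45 LD3_c19)) = (LP (LK LD1_c12 LD2_c54 LD3_c55)) :=
  Lre_d IH (LK LD1_c6 LD2_c45 LD3_c19) (LK LD1_c12 LD2_c54 LD3_c55) Lrfl Lrfl
theorem f510280 : Led Lsl_ff (LP (LK LD1_c6 LD2_c45 LD3_c19)) = (LP (LK LD1_c9 LD2_c31 LD3_c35)) :=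
  Lgr Lrot19 (Lpr_dt (f509385 IH) (Lpr_ft (f510275 IH) (Lpr_dt (f414984 IH) (Lpn (LP (LK LD1_c9 LD2_c31 LD3_c35))))))
theorem f510285 : Led Lsl_at (LP (LK LD1_c6 LD2_c45 LD3_c19)) = (LP (LK LD1_c12 LD2_c54 LD3_c46)) :=
  Lre_a IH (LK LD1_c6 LD2_c45 LD3_c19) (LK LD1_c12 LD2_c54 LD3_c46) Lrfl Lrfl
theorem f510288 : Led Lsl_gf (LP (LK LD1_c12 LD2_c54 LD3_c46)) = (LP (LK LD1_c17 LD2_c33 LD3_c32)) :=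
  Lgr Lrot76 (Lpe (f510285 IH) (Lpr_ff (f510280 IH) (Lpr_gt (f414949 IH) (Lpn (LP (LK LD1_c17 LD2_c33 LD3_c32))))))
theorem f744666 : Led Lsl_af (LP (LK LD1_c17 LD2_c33 LD3_c33)) = (LP (LK LD1_c12 LD2_c54 LD3_c53)) :=
  Lgr Lrot0 (Lpr_at (f744664 IH) (Lpn (LP (LK LD1_c12 LD2_c54 LD3_c53))))
theorem f744673 : Led Lsl_gt (LP (LK LD1_c12 LD2_c54 LD3_c46)) = (LP (LK LD1_c17 LD2_c33 LD3_c33)) :=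
  Lgr Lrot46 (Lpr_gf (f510288 IH) (Lpr_ft (f744671 IH) (Lpe (f744666 IH) (Lpn (LP (LK LD1_c17 LD2_c33 LD3_c33))))))
theorem f752769 : Led Lsl_df (LP (LK LD1_c22 LD2_c5 LD3_c25)) = (LP (LK LD1_c17 LD2_c33 LD3_c33)) :=
  Lgr Lrot153 (Lpr_gt (f98999 IH) (Lpr_dt (f98998 IH) (Lpe (K55.f414069 IH) (Lpe (f639614 IH) (Lpr_gf (f752767 IH) (Lpe (f707298 IH) (Lpe (K51.f705635 IH) (Lpe (K49.f510187 IH) (Lpr_gt (f744673 IH) (Lpn (LP (LK LD1_c17 LD2_c33 LD3_c33))))))))))))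
theorem f752770 : Led Lsl_dt (LP (LK LD1_c17 LD2_c33 LD3_c33)) = (LP (LK LD1_c22 LD2_c5 LD3_c25)) :=
  Leop (Lpr_df (f752769 IH) (Lpn (LP (LK LD1_c17 LD2_c33 LD3_c33))))
theorem seed_1077 : LEOK LG_d (LK LD1_c17 LD2_c33 LD3_c33) :=
  Leoe_d (LK LD1_c17 LD2_c33 LD3_c33) (f752770 IH)
def v16931 : LQ := Led Lsl_at (LP (LK LD1_c6 LD2_c8 LD3_c47))
theorem f752882 : Led Lsl_at (LP (LK LD1_c6 LD2_c8 LD3_c47)) = v16931 :=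
  Lrfl
theorem f752883 : Led Lsl_af (LP (LK LD1_c6 LD2_c8 LD3_c47)) = v16931 :=
  Lgr Lrot0 (Lpr_at (f752882 IH) (Lpn v16931))
theorem f741758 : Led Lsl_gf (LP (LK LD1_c6 LD2_c8 LD3_c47)) = (LP (LK LD1_c11 LD2_c25 LD3_c36)) :=
  Lgr Lrot47 (Lpr_gt (f741755 IH) (Lpr_af (K5.f132367 IH) (Lpe (K5.f132372 IH) (Lpn (LP (LK LD1_c11 LD2_c25 LD3_c36))))))
theorem f752886 : Led Lsl_ft (LP (LK LD1_c16 LD2_c57 LD3_c36)) = v16931 :=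
  Lgr Lrot2 (Lpr_gt (K55.f132381 IH) (Lpe (f741758 IH) (Lpr_af (f752883 IH) (Lpn v16931))))
def v5174 : LQ := Led Lsl_ft (LP (LK LD1_c3 LD2_c0 LD3_c40))
theorem f646360 : Led Lsl_ft (LP (LK LD1_c3 LD2_c0 LD3_c40)) = v5174 :=
  Lrfl
theorem f646361 : Led Lsl_af (LP (LK LD1_c3 LD2_c0 LD3_c41)) = v5174 :=
  Lgr Lrot45 (Lpr_ft (f646355 IH) (Lpe (f646353 IH) (Lpr_ft (f646360 IH) (Lpn v5174))))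
def v16921 : LQ := Led Lsl_ft (LP (LK LD1_c6 LD2_c8 LD3_c43))
theorem f752465 : Led Lsl_ft (LP (LK LD1_c6 LD2_c8 LD3_c43)) = v16921 :=
  Lrfl
theorem f646362 : Led Lsl_ff (LP (LK LD1_c3 LD2_c0 LD3_c40)) = v5174 :=
  Lgr Lrot3 (Lpr_ft (f646360 IH) (Lpn v5174))
theorem f752467 : Led Lsl_bf v5174 = v16921 :=
  Lgr Lrot61 (Lpe (f646362 IH) (Lpr_bt (K55.f646354 IH) (Lpr_ft (f752465 IH) (Lpn v16921))))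
theorem f752468 : Led Lsl_ff (LP (LK LD1_c6 LD2_c8 LD3_c43)) = v16921 :=
  Lgr Lrot3 (Lpr_ft (f752465 IH) (Lpn v16921))
def v16918 : LQ := Led Lsl_at (LP (LK LD1_c6 LD2_c8 LD3_c43))
theorem f752453 : Led Lsl_at (LP (LK LD1_c6 LD2_c8 LD3_c43)) = v16918 :=
  Lrfl
theorem f752454 : Led Lsl_af (LP (LK LD1_c6 LD2_c8 LD3_c43)) = v16918 :=
  Lgr Lrot0 (Lpr_at (f752453 IH) (Lpn v16918))
theorem f22195 : Led Lsl_gt (LP (LK LD1_c11 LD2_c29 LD3_c7)) = (LP (LK LD1_c5 LD2_c50 LD3_c41)) :=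
  Lre_g IH (LK LD1_c11 LD2_c29 LD3_c7) (LK LD1_c5 LD2_c50 LD3_c41) Lrfl Lrfl
theorem f752455 : Led Lsl_ft (LP (LK LD1_c11 LD2_c29 LD3_c7)) = v16918 :=
  Lgr Lrot2 (Lpr_gt (f22195 IH) (Lpe (K55.f741720 IH) (Lpr_af (f752454 IH) (Lpn v16918))))
theorem f752456 : Led Lsl_ff (LP (LK LD1_c11 LD2_c29 LD3_c7)) = v16918 :=
  Lgr Lrot3 (Lpr_ft (f752455 IH) (Lpn v16918))
theorem f752469 : Led Lsl_at (LP (LK LD1_c11 LD2_c29 LD3_c7)) = v16921 :=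
  Lgr Lrot66 (Lpr_ff (f752456 IH) (Lpe (f752453 IH) (Lpr_ff (f752468 IH) (Lpn v16921))))
theorem f752884 : Led Lsl_bf (LP (LK LD1_c11 LD2_c29 LD3_c7)) = v16931 :=
  Lgr Lrot81 (Lpr_at (f752469 IH) (Lpe (f752467 IH) (Lpe (f646361 IH) (Lpr_bt (f646359 IH) (Lpr_at (f752882 IH) (Lpn v16931))))))
theorem f752888 : (LP (LK LD1_c11 LD2_c38 LD3_c25)) = v16918 :=
  (Llr Lrot61 (Lpr_bt (f745104 IH) (Lpr_ft (f752886 IH) (Lpe (f752884 IH) (Lpr_ft (f752455 IH) (Lpn v16918)))))).symm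
theorem f752889 : Led Lsl_at (LP (LK LD1_c11 LD2_c38 LD3_c25)) = (LP (LK LD1_c6 LD2_c8 LD3_c43)) :=
  Leop (Lpr_af (f752454 IH) (Lpq (f752888 IH) (Lpn (LP (LK LD1_c11 LD2_c38 LD3_c25)))))
theorem seed_1078 : LEOK LG_a (LK LD1_c11 LD2_c38 LD3_c25) :=
  Leoe_a (LK LD1_c11 LD2_c38 LD3_c25) (f752889 IH)
def v15979 : LQ := Led Lsl_bt (LP (LK LD1_c5 LD2_c50 LD3_c46))
theorem f744510 : Led Lsl_bt (LP (LK LD1_c5 LD2_c50 LD3_c46)) = v15979 :=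
  Lrfl
def v16925 : LQ := Led Lsl_at (LP (LK LD1_c6 LD2_c8 LD3_c45))
theorem f752860 : Led Lsl_at (LP (LK LD1_c6 LD2_c8 LD3_c45)) = v16925 :=
  Lrfl
theorem f752862 : Led Lsl_df v5173 = v16925 :=
  Lgr Lrot18 (Lpe (f646353 IH) (Lpr_dt (K55.f75013 IH) (Lpr_at (f752860 IH) (Lpn v16925))))
theorem f752863 : Led Lsl_dt v5173 = v16925 :=
  Lgr Lrot42 (Lpr_df (f752862 IH) (Lpn v16925))
theorem f76196 : Led Lsl_dt (LP (LK LD1_c5 LD2_c58 LD3_c7)) = (LP (LK LD1_c11 LD2_c40 LD3_c57)) :=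
  Lre_d IH (LK LD1_c5 LD2_c58 LD3_c7) (LK LD1_c11 LD2_c40 LD3_c57) Lrfl Lrfl
def v16345 : LQ := Led Lsl_ft (LP (LK LD1_c5 LD2_c58 LD3_c7))
theorem f748891 : Led Lsl_ft (LP (LK LD1_c5 LD2_c58 LD3_c7)) = v16345 :=
  Lrfl
theorem f748893 : Led Lsl_ff (LP (LK LD1_c5 LD2_c58 LD3_c7)) = v16345 :=
  Lgr Lrot3 (Lpr_ft (f748891 IH) (Lpn v16345))
def v16344 : LQ := Led Lsl_at (LP (LK LD1_c5 LD2_c58 LD3_c7))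
theorem f748887 : Led Lsl_at (LP (LK LD1_c5 LD2_c58 LD3_c7)) = v16344 :=
  Lrfl
theorem f748888 : Led Lsl_af (LP (LK LD1_c5 LD2_c58 LD3_c7)) = v16344 :=
  Lgr Lrot0 (Lpr_at (f748887 IH) (Lpn v16344))
theorem f75964 : Led Lsl_gt (LP (LK LD1_c2 LD2_c55 LD3_c27)) = (LP (LK LD1_c5 LD2_c58 LD3_c7)) :=
  Lre_g IH (LK LD1_c2 LD2_c55 LD3_c27) (LK LD1_c5 LD2_c58 LD3_c7) Lrfl Lrfl
theorem f748889 : Led Lsl_ft (LP (LK LD1_c5 LD2_c58 LD3_c8)) = v16344 :=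
  Lgr Lrot2 (Lpr_gt (K54.f75966 IH) (Lpr_gt (f75964 IH) (Lpr_af (f748888 IH) (Lpn v16344))))
theorem f748890 : Led Lsl_ff (LP (LK LD1_c5 LD2_c58 LD3_c8)) = v16344 :=
  Lgr Lrot3 (Lpr_ft (f748889 IH) (Lpn v16344))
theorem f748894 : Led Lsl_at (LP (LK LD1_c5 LD2_c58 LD3_c8)) = v16345 :=
  Lgr Lrot66 (Lpr_ff (f748890 IH) (Lpe (f748887 IH) (Lpr_ff (f748893 IH) (Lpn v16345))))
theorem f752599 : Led Lsl_ct (LP (LK LD1_c11 LD2_c30 LD3_c33)) = (LP (LK LD1_c11 LD2_c38 LD3_c25)) :=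
  Lgr Lrot59 (Lpr_cf (f752494 IH) (Lpn (LP (LK LD1_c11 LD2_c38 LD3_c25))))
theorem f58501 : Led Lsl_ct (LP (LK LD1_c6 LD2_c8 LD3_c43)) = (LP (LK LD1_c11 LD2_c58 LD3_c58)) :=
  Lre_c IH (LK LD1_c6 LD2_c8 LD3_c43) (LK LD1_c11 LD2_c58 LD3_c58) Lrfl Lrfl
theorem f752899 : Led Lsl_af (LP (LK LD1_c11 LD2_c30 LD3_c33)) = (LP (LK LD1_c11 LD2_c58 LD3_c58)) :=
  Lgr Lrot68 (Lpr_ct (f752599 IH) (Lpqs (f752888 IH) (Lpe (f752454 IH) (Lpr_ct (f58501 IH) (Lpn (LP (LK LD1_c11 LD2_c58 LD3_c58)))))))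
theorem f752905 : Led Lsl_ft (LP (LK LD1_c11 LD2_c30 LD3_c34)) = (LP (LK LD1_c11 LD2_c58 LD3_c58)) :=
  Lgr Lrot2 (Lpr_gt (K55.f75395 IH) (Lpr_gt (f76079 IH) (Lpr_af (f752899 IH) (Lpn (LP (LK LD1_c11 LD2_c58 LD3_c58))))))
theorem f75014 : Led Lsl_ct (LP (LK LD1_c11 LD2_c58 LD3_c58)) = (LP (LK LD1_c6 LD2_c8 LD3_c43)) :=
  Lre_c IH (LK LD1_c11 LD2_c58 LD3_c58) (LK LD1_c6 LD2_c8 LD3_c43) Lrfl Lrfl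
theorem f752913 : K55.v16346 = v16921 :=
  (Llr Lrot108 (Lpe (K55.f748897 IH) (Lpr_ft (f752905 IH) (Lpr_ct (f75014 IH) (Lpr_ft (f752465 IH) (Lpn v16921)))))).symm
theorem f752916 : (LP (LK LD1_c5 LD2_c58 LD3_c8)) = v5174 :=
  Lefun (Lecon (Lfl_bf (K55.f748896 IH)) (f752913 IH)) (Lfl_bf (f752467 IH))
theorem f752919 : (LP (LK LD1_c3 LD2_c0 LD3_c41)) = v16345 :=
  Lefun (Lecon (Lfl_af (f646361 IH)) (f752916 IH).symm) (f748894 IH)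
theorem f752935 : (LP (LK LD1_c5 LD2_c58 LD3_c7)) = v5173 :=
  Lefun (Lecon (Lfl_ff (f748893 IH)) (f752919 IH).symm) (f646355 IH)
theorem f752945 : v16925 = (LP (LK LD1_c11 LD2_c40 LD3_c57)) :=
  Lefun (Lecon (f752863 IH) (f752935 IH).symm) (f76196 IH)
theorem f752864 : Led Lsl_ft (LP (LK LD1_c6 LD2_c8 LD3_c49)) = v16925 :=
  Lgr Lrot54 (Lpe (K55.f76053 IH) (Lpr_ff (f646358 IH) (Lpr_df (f752862 IH) (Lpn v16925))))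
theorem f618447 : Led Lsl_bt (LP (LK LD1_c11 LD2_c58 LD3_c61)) = (LP (LK LD1_c6 LD2_c8 LD3_c49)) :=
  Lre_b IH (LK LD1_c11 LD2_c58 LD3_c61) (LK LD1_c6 LD2_c8 LD3_c49) Lrfl Lrfl
theorem f136588 : Led Lsl_bt (LP (LK LD1_c3 LD2_c26 LD3_c51)) = (LP (LK LD1_c6 LD2_c55 LD3_c25)) :=
  Lre_b IH (LK LD1_c3 LD2_c26 LD3_c51) (LK LD1_c6 LD2_c55 LD3_c25) Lrfl Lrfl
theorem f12264 : Led Lsl_bt (LP (LK LD1_c7 LD2_c42 LD3_c4)) = (LP (LK LD1_c3 LD2_c55 LD3_c42)) :=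
  Lgr Lrot127 (Lpr_bf (K5.f12261 IH) (Lpn (LP (LK LD1_c3 LD2_c55 LD3_c42))))
theorem f427226 : Led Lsl_bt (LP (LK LD1_c11 LD2_c30 LD3_c6)) = (LP (LK LD1_c5 LD2_c51 LD3_c21)) :=
  Lre_b IH (LK LD1_c11 LD2_c30 LD3_c6) (LK LD1_c5 LD2_c51 LD3_c21) Lrfl Lrfl
theorem f427227 : Led Lsl_af (LP (LK LD1_c7 LD2_c42 LD3_c4)) = (LP (LK LD1_c5 LD2_c51 LD3_c21)) :=
  Lgr Lrot36 (Lpr_bt (f12264 IH) (Lpr_at (K8.f136583 IH) (Lpr_bt (f136588 IH) (Lpr_at (f427222 IH) (Lpr_bt (f427226 IH) (Lpn (LP (LK LD1_c5 LD2_c51 LD3_c21))))))))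
theorem f427279 : Led Lsl_ft (LP (LK LD1_c11 LD2_c30 LD3_c8)) = (LP (LK LD1_c5 LD2_c51 LD3_c21)) :=
  Lre_f IH (LK LD1_c11 LD2_c30 LD3_c8) (LK LD1_c5 LD2_c51 LD3_c21) Lrfl Lrfl
theorem f427280 : Led Lsl_gf (LP (LK LD1_c11 LD2_c25 LD3_c41)) = (LP (LK LD1_c11 LD2_c30 LD3_c8)) :=
  Lgr Lrot47 (Lpr_gt (K52.f64353 IH) (Lpr_af (f427227 IH) (Lpe (f427279 IH) (Lpn (LP (LK LD1_c11 LD2_c30 LD3_c8))))))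
theorem f136615 : Led Lsl_ct (LP (LK LD1_c14 LD2_c30 LD3_c55)) = (LP (LK LD1_c11 LD2_c25 LD3_c36)) :=
  Lgr Lrot59 (Lpr_cf (K8.f136613 IH) (Lpn (LP (LK LD1_c11 LD2_c25 LD3_c36))))
theorem f132376 : Led Lsl_af (LP (LK LD1_c16 LD2_c57 LD3_c38)) = (LP (LK LD1_c11 LD2_c25 LD3_c36)) :=
  Lgr Lrot0 (Lpr_at (K5.f132373 IH) (Lpn (LP (LK LD1_c11 LD2_c25 LD3_c36))))
theorem f427271 : Led Lsl_ct (LP (LK LD1_c16 LD2_c57 LD3_c38)) = (LP (LK LD1_c11 LD2_c30 LD3_c8)) :=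
  Lgr Lrot111 (Lpr_af (f132376 IH) (Lpe (f136615 IH) (Lpr_af (f427267 IH) (Lpn (LP (LK LD1_c11 LD2_c30 LD3_c8))))))
theorem f132407 : Led Lsl_gt (LP (LK LD1_c5 LD2_c47 LD3_c60)) = (LP (LK LD1_c11 LD2_c25 LD3_c33)) :=
  Lre_g IH (LK LD1_c5 LD2_c47 LD3_c60) (LK LD1_c11 LD2_c25 LD3_c33) Lrfl Lrfl
theorem f132410 : Led Lsl_gf (LP (LK LD1_c16 LD2_c57 LD3_c38)) = (LP (LK LD1_c11 LD2_c25 LD3_c33)) :=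
  Lgr Lrot76 (Lpr_af (f132376 IH) (Lpe (K5.f132386 IH) (Lpr_gt (f132407 IH) (Lpn (LP (LK LD1_c11 LD2_c25 LD3_c33))))))
theorem f74758 : Led Lsl_et (LP (LK LD1_c5 LD2_c58 LD3_c13)) = (LP (LK LD1_c2 LD2_c55 LD3_c28)) :=
  Lre_e IH (LK LD1_c5 LD2_c58 LD3_c13) (LK LD1_c2 LD2_c55 LD3_c28) Lrfl Lrfl
theorem f74756 : Led Lsl_dt (LP (LK LD1_c5 LD2_c58 LD3_c13)) = (LP (LK LD1_c11 LD2_c41 LD3_c4)) :=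
  Lre_d IH (LK LD1_c5 LD2_c58 LD3_c13) (LK LD1_c11 LD2_c41 LD3_c4) Lrfl Lrfl
theorem f76029 : Led Lsl_et (LP (LK LD1_c6 LD2_c1 LD3_c8)) = (LP (LK LD1_c2 LD2_c56 LD3_c47)) :=
  Lre_e IH (LK LD1_c6 LD2_c1 LD3_c8) (LK LD1_c2 LD2_c56 LD3_c47) Lrfl Lrfl
theorem f76030 : Led Lsl_dt (LP (LK LD1_c6 LD2_c1 LD3_c8)) = (LP (LK LD1_c11 LD2_c46 LD3_c57)) :=
  Lre_d IH (LK LD1_c6 LD2_c1 LD3_c8) (LK LD1_c11 LD2_c46 LD3_c57) Lrfl Lrfl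
theorem f715410 : Led Lsl_gf (LP (LK LD1_c11 LD2_c41 LD3_c4)) = (LP (LK LD1_c11 LD2_c46 LD3_c57)) :=
  Lgr Lrot145 (Lpe (f74756 IH) (Lpr_et (f74758 IH) (Lpr_gt (K7.f72553 IH) (Lpr_dt (K2.f72552 IH) (Lpr_gt (K2.f72639 IH) (Lpe (K28.f137229 IH) (Lpr_et (K53.f150418 IH) (Lpq (K53.f715407 IH) (Lpe (K53.f641523 IH) (Lpe (f76029 IH) (Lpr_dt (f76030 IH) (Lpn (LP (LK LD1_c11 LD2_c46 LD3_c57))))))))))))))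
theorem f75939 : Led Lsl_gt (LP (LK LD1_c20 LD2_c48 LD3_c61)) = (LP (LK LD1_c11 LD2_c46 LD3_c57)) :=
  Lre_g IH (LK LD1_c20 LD2_c48 LD3_c61) (LK LD1_c11 LD2_c46 LD3_c57) Lrfl Lrfl
theorem f715434 : Led Lsl_ff (LP (LK LD1_c20 LD2_c40 LD3_c15)) = (LP (LK LD1_c20 LD2_c48 LD3_c61)) :=
  Lgr Lrot52 (Lpe (K55.f499704 IH) (Lpr_gf (f715410 IH) (Lpe (f75939 IH) (Lpn (LP (LK LD1_c20 LD2_c48 LD3_c61))))))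
theorem f426304 : Led Lsl_dt (LP (LK LD1_c20 LD2_c40 LD3_c15)) = (LP (LK LD1_c11 LD2_c40 LD3_c9)) :=
  Lre_d IH (LK LD1_c20 LD2_c40 LD3_c15) (LK LD1_c11 LD2_c40 LD3_c9) Lrfl Lrfl
theorem f715444 : Led Lsl_dt (LP (LK LD1_c20 LD2_c40 LD3_c16)) = (LP (LK LD1_c20 LD2_c48 LD3_c61)) :=
  Lgr Lrot60 (Lpe (f428356 IH) (Lpe (f426304 IH) (Lpr_ff (f715434 IH) (Lpn (LP (LK LD1_c20 LD2_c48 LD3_c61))))))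
theorem f74897 : Led Lsl_ct (LP (LK LD1_c11 LD2_c40 LD3_c55)) = (LP (LK LD1_c5 LD2_c58 LD3_c10)) :=
  Lre_c IH (LK LD1_c11 LD2_c40 LD3_c55) (LK LD1_c5 LD2_c58 LD3_c10) Lrfl Lrfl
theorem f74908 : Led Lsl_af (LP (LK LD1_c3 LD2_c0 LD3_c42)) = (LP (LK LD1_c5 LD2_c58 LD3_c10)) :=
  Lgr Lrot68 (Lpr_ct (K55.f74907 IH) (Lpr_at (K2.f74887 IH) (Lpr_ct (f74897 IH) (Lpn (LP (LK LD1_c5 LD2_c58 LD3_c10))))))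
theorem f76191 : Led Lsl_gf (LP (LK LD1_c3 LD2_c0 LD3_c42)) = (LP (LK LD1_c5 LD2_c58 LD3_c7)) :=
  Lgr Lrot76 (Lpr_af (f74908 IH) (Lpe (K2.f74989 IH) (Lpr_gt (f75964 IH) (Lpn (LP (LK LD1_c5 LD2_c58 LD3_c7))))))
theorem f76194 : Led Lsl_ct (LP (LK LD1_c11 LD2_c40 LD3_c56)) = (LP (LK LD1_c5 LD2_c58 LD3_c7)) :=
  Lre_c IH (LK LD1_c11 LD2_c40 LD3_c56) (LK LD1_c5 LD2_c58 LD3_c7) Lrfl Lrfl
theorem f715452 : Led Lsl_gf (LP (LK LD1_c20 LD2_c40 LD3_c16)) = (LP (LK LD1_c11 LD2_c40 LD3_c56)) :=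
  Lgr Lrot144 (Lpr_dt (f715444 IH) (Lpr_gt (f75939 IH) (Lpr_dt (f75938 IH) (Lpe (K55.f75937 IH) (Lpe (K53.f75935 IH) (Lpr_gf (K5.f75889 IH) (Lpe (K5.f74870 IH) (Lpr_gf (f76191 IH) (Lpe (f76194 IH) (Lpn (LP (LK LD1_c11 LD2_c40 LD3_c56))))))))))))
theorem f499708 : Led Lsl_at (LP (LK LD1_c11 LD2_c41 LD3_c5)) = (LP (LK LD1_c20 LD2_c40 LD3_c16)) :=
  Lgr Lrot100 (Lpr_af (f499706 IH) (Lpn (LP (LK LD1_c20 LD2_c40 LD3_c16))))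
theorem f74753 : Led Lsl_ft (LP (LK LD1_c5 LD2_c58 LD3_c13)) = (LP (LK LD1_c11 LD2_c41 LD3_c5)) :=
  Lre_f IH (LK LD1_c5 LD2_c58 LD3_c13) (LK LD1_c11 LD2_c41 LD3_c5) Lrfl Lrfl
theorem f715455 : Led Lsl_gt (LP (LK LD1_c5 LD2_c58 LD3_c13)) = (LP (LK LD1_c11 LD2_c40 LD3_c56)) :=
  Lgr Lrot5 (Lpr_ft (f74753 IH) (Lpr_at (f499708 IH) (Lpr_gf (f715452 IH) (Lpn (LP (LK LD1_c11 LD2_c40 LD3_c56))))))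
theorem f76195 : Led Lsl_ct (LP (LK LD1_c5 LD2_c58 LD3_c7)) = (LP (LK LD1_c11 LD2_c40 LD3_c56)) :=
  Lre_c IH (LK LD1_c5 LD2_c58 LD3_c7) (LK LD1_c11 LD2_c40 LD3_c56) Lrfl Lrfl
theorem f739466 : Led Lsl_bf (LP (LK LD1_c11 LD2_c25 LD3_c33)) = (LP (LK LD1_c5 LD2_c58 LD3_c7)) :=
  Lgr Lrot165 (Lpe (f132410 IH) (Lpr_ct (f427271 IH) (Lpe (f427280 IH) (Lpe (K52.f64359 IH) (Lpr_bt (K55.f739461 IH) (Lpr_gt (K53.f74761 IH) (Lpe (K55.f74731 IH) (Lpr_ct (K55.f74733 IH) (Lpr_gt (f715455 IH) (Lpe (f76195 IH) (Lpn (LP (LK LD1_c5 LD2_c58 LD3_c7)))))))))))))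
theorem f132408 : Led Lsl_dt (LP (LK LD1_c11 LD2_c25 LD3_c33)) = (LP (LK LD1_c20 LD2_c22 LD3_c60)) :=
  Lre_d IH (LK LD1_c11 LD2_c25 LD3_c33) (LK LD1_c20 LD2_c22 LD3_c60) Lrfl Lrfl
theorem f75965 : Led Lsl_dt (LP (LK LD1_c11 LD2_c40 LD3_c57)) = (LP (LK LD1_c5 LD2_c58 LD3_c7)) :=
  Lre_d IH (LK LD1_c11 LD2_c40 LD3_c57) (LK LD1_c5 LD2_c58 LD3_c7) Lrfl Lrfl
theorem f739470 : Led Lsl_bt (LP (LK LD1_c20 LD2_c22 LD3_c60)) = (LP (LK LD1_c11 LD2_c40 LD3_c57)) :=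
  Lgr Lrot95 (Lpe (f132408 IH) (Lpr_bf (f739466 IH) (Lpe (f75965 IH) (Lpn (LP (LK LD1_c11 LD2_c40 LD3_c57))))))
theorem f739480 : Led Lsl_bf (LP (LK LD1_c20 LD2_c22 LD3_c60)) = (LP (LK LD1_c11 LD2_c40 LD3_c57)) :=
  Lgr Lrot24 (Lpr_bt (f739470 IH) (Lpn (LP (LK LD1_c11 LD2_c40 LD3_c57))))
theorem f753019 : Led Lsl_ff (LP (LK LD1_c11 LD2_c58 LD3_c61)) = (LP (LK LD1_c20 LD2_c22 LD3_c60)) :=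
  Lgr Lrot25 (Lpr_bt (f618447 IH) (Lpr_ft (f752864 IH) (Lpqs (f752945 IH) (Lpe (f739480 IH) (Lpn (LP (LK LD1_c20 LD2_c22 LD3_c60)))))))
theorem f753023 : Led Lsl_ft (LP (LK LD1_c11 LD2_c58 LD3_c61)) = (LP (LK LD1_c20 LD2_c22 LD3_c60)) :=
  Lgr Lrot48 (Lpr_ff (f753019 IH) (Lpn (LP (LK LD1_c20 LD2_c22 LD3_c60))))
theorem f76069 : Led Lsl_dt (LP (LK LD1_c6 LD2_c8 LD3_c47)) = (LP (LK LD1_c11 LD2_c58 LD3_c61)) :=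
  Lre_d IH (LK LD1_c6 LD2_c8 LD3_c47) (LK LD1_c11 LD2_c58 LD3_c61) Lrfl Lrfl
theorem f132413 : Led Lsl_dt (LP (LK LD1_c20 LD2_c22 LD3_c60)) = (LP (LK LD1_c11 LD2_c25 LD3_c33)) :=
  Lre_d IH (LK LD1_c20 LD2_c22 LD3_c60) (LK LD1_c11 LD2_c25 LD3_c33) Lrfl Lrfl
theorem f753025 : Led Lsl_ff (LP (LK LD1_c6 LD2_c8 LD3_c47)) = (LP (LK LD1_c11 LD2_c25 LD3_c33)) :=
  Lgr Lrot19 (Lpr_dt (f76069 IH) (Lpr_ft (f753023 IH) (Lpr_dt (f132413 IH) (Lpn (LP (LK LD1_c11 LD2_c25 LD3_c33))))))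
theorem f132370 : Led Lsl_at (LP (LK LD1_c9 LD2_c5 LD3_c47)) = (LP (LK LD1_c5 LD2_c47 LD3_c60)) :=
  Lgr Lrot100 (Lpr_af (K5.f132367 IH) (Lpn (LP (LK LD1_c5 LD2_c47 LD3_c60))))
theorem f132399 : Led Lsl_gt (LP (LK LD1_c11 LD2_c25 LD3_c34)) = (LP (LK LD1_c5 LD2_c47 LD3_c60)) :=
  Lre_g IH (LK LD1_c11 LD2_c25 LD3_c34) (LK LD1_c5 LD2_c47 LD3_c60) Lrfl Lrfl
theorem f132415 : Led Lsl_gt (LP (LK LD1_c16 LD2_c57 LD3_c38)) = (LP (LK LD1_c11 LD2_c25 LD3_c34)) :=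
  Lgr Lrot5 (Lpr_ft (K5.f117856 IH) (Lpr_at (f132370 IH) (Lpe (f132399 IH) (Lpn (LP (LK LD1_c11 LD2_c25 LD3_c34))))))
theorem f753031 : v16931 = (LP (LK LD1_c11 LD2_c25 LD3_c34)) :=
  (Llr Lrot26 (Lpe (f752882 IH) (Lpr_ff (f753025 IH) (Lpe (f132410 IH) (Lpr_gt (f132415 IH) (Lpn (LP (LK LD1_c11 LD2_c25 LD3_c34)))))))).symm
theorem f76067 : Led Lsl_dt (LP (LK LD1_c11 LD2_c58 LD3_c61)) = (LP (LK LD1_c6 LD2_c8 LD3_c47)) :=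
  Lre_d IH (LK LD1_c11 LD2_c58 LD3_c61) (LK LD1_c6 LD2_c8 LD3_c47) Lrfl Lrfl
theorem f753021 : Led Lsl_ft (LP (LK LD1_c6 LD2_c8 LD3_c47)) = (LP (LK LD1_c11 LD2_c25 LD3_c33)) :=
  Lgr Lrot54 (Lpe (f76067 IH) (Lpr_ff (f753019 IH) (Lpe (f132408 IH) (Lpn (LP (LK LD1_c11 LD2_c25 LD3_c33))))))
theorem f753039 : Led Lsl_af (LP (LK LD1_c16 LD2_c57 LD3_c36)) = (LP (LK LD1_c11 LD2_c25 LD3_c33)) :=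
  Lgr Lrot45 (Lpr_ft (f752886 IH) (Lpqs (f753031 IH) (Lpq (f753031 IH) (Lpe (f752883 IH) (Lpr_ft (f753021 IH) (Lpn (LP (LK LD1_c11 LD2_c25 LD3_c33))))))))
theorem f739468 : Led Lsl_bt (LP (LK LD1_c11 LD2_c25 LD3_c33)) = (LP (LK LD1_c5 LD2_c58 LD3_c7)) :=
  Lgr Lrot127 (Lpr_bf (f739466 IH) (Lpn (LP (LK LD1_c5 LD2_c58 LD3_c7))))
theorem f24086 : Led Lsl_ct (LP (LK LD1_c2 LD2_c51 LD3_c52)) = (LP (LK LD1_c5 LD2_c51 LD3_c10)) :=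
  Lre_c IH (LK LD1_c2 LD2_c51 LD3_c52) (LK LD1_c5 LD2_c51 LD3_c10) Lrfl Lrfl
theorem f112208 : Led Lsl_gt (LP (LK LD1_c5 LD2_c51 LD3_c10)) = (LP (LK LD1_c11 LD2_c29 LD3_c47)) :=
  Lre_g IH (LK LD1_c5 LD2_c51 LD3_c10) (LK LD1_c11 LD2_c29 LD3_c47) Lrfl Lrfl
theorem f739482 : Led Lsl_ct (LP (LK LD1_c11 LD2_c25 LD3_c33)) = (LP (LK LD1_c11 LD2_c29 LD3_c47)) :=
  Lgr Lrot63 (Lpr_bt (f739468 IH) (Lpe (f76191 IH) (Lpe (K55.f58587 IH) (Lpr_ct (K1.f58565 IH) (Lpe (K32.f437962 IH) (Lpr_cf (K52.f438599 IH) (Lpr_bt (K52.f640725 IH) (Lpqs (K52.f711766 IH) (Lpr_gt (K52.f24129 IH) (Lpr_ct (f24086 IH) (Lpr_gt (f112208 IH) (Lpn (LP (LK LD1_c11 LD2_c29 LD3_c47))))))))))))))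
theorem f739485 : Led Lsl_cf (LP (LK LD1_c11 LD2_c25 LD3_c33)) = (LP (LK LD1_c11 LD2_c29 LD3_c47)) :=
  Lgr Lrot11 (Lpr_ct (f739482 IH) (Lpn (LP (LK LD1_c11 LD2_c29 LD3_c47))))
theorem f753041 : Led Lsl_at (LP (LK LD1_c11 LD2_c25 LD3_c37)) = (LP (LK LD1_c11 LD2_c29 LD3_c47)) :=
  Lgr Lrot107 (Lpe (K55.f738963 IH) (Lpr_af (f753039 IH) (Lpr_cf (f739485 IH) (Lpn (LP (LK LD1_c11 LD2_c29 LD3_c47))))))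
theorem f112212 : Led Lsl_gt (LP (LK LD1_c11 LD2_c29 LD3_c48)) = (LP (LK LD1_c5 LD2_c51 LD3_c10)) :=
  Lre_g IH (LK LD1_c11 LD2_c29 LD3_c48) (LK LD1_c5 LD2_c51 LD3_c10) Lrfl Lrfl
theorem f753047 : Led Lsl_ff (LP (LK LD1_c11 LD2_c25 LD3_c37)) = (LP (LK LD1_c11 LD2_c29 LD3_c48)) :=
  Lgr Lrot52 (Lpr_at (f753041 IH) (Lpe (f112208 IH) (Lpe (f112212 IH) (Lpn (LP (LK LD1_c11 LD2_c29 LD3_c48))))))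
theorem f76011 : Led Lsl_ct (LP (LK LD1_c11 LD2_c43 LD3_c33)) = (LP (LK LD1_c20 LD2_c44 LD3_c39)) :=
  Lre_c IH (LK LD1_c11 LD2_c43 LD3_c33) (LK LD1_c20 LD2_c44 LD3_c39) Lrfl Lrfl
theorem f738965 : Led Lsl_cf (LP (LK LD1_c16 LD2_c57 LD3_c36)) = (LP (LK LD1_c11 LD2_c25 LD3_c37)) :=
  Lgr Lrot166 (Lpr_gt (K55.f132381 IH) (Lpr_dt (K8.f132375 IH) (Lpr_gt (K54.f738959 IH) (Lpe (K55.f75986 IH) (Lpr_ct (f76011 IH) (Lpr_df (K55.f714680 IH) (Lpr_gf (K55.f440845 IH) (Lpe (K4.f112243 IH) (Lpe (K55.f440842 IH) (Lpn (LP (LK LD1_c11 LD2_c25 LD3_c37))))))))))))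
theorem f753049 : Led Lsl_ct v16931 = (LP (LK LD1_c11 LD2_c29 LD3_c48)) :=
  Lgr Lrot40 (Lpe (f752886 IH) (Lpr_cf (f738965 IH) (Lpr_ff (f753047 IH) (Lpn (LP (LK LD1_c11 LD2_c29 LD3_c48))))))
theorem f22202 : Led Lsl_ct (LP (LK LD1_c5 LD2_c50 LD3_c41)) = (LP (LK LD1_c11 LD2_c29 LD3_c6)) :=
  Lre_c IH (LK LD1_c5 LD2_c50 LD3_c41) (LK LD1_c11 LD2_c29 LD3_c6) Lrfl Lrfl
theorem f117242 : Led Lsl_gt (LP (LK LD1_c11 LD2_c25 LD3_c40)) = (LP (LK LD1_c11 LD2_c29 LD3_c48)) :=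
  Lgr Lrot5 (Lpr_ft (K4.f117199 IH) (Lpr_at (K4.f117228 IH) (Lpe (f112212 IH) (Lpn (LP (LK LD1_c11 LD2_c29 LD3_c48))))))
theorem f100310 : Led Lsl_ct (LP (LK LD1_c5 LD2_c48 LD3_c4)) = (LP (LK LD1_c11 LD2_c25 LD3_c40)) :=
  Lre_c IH (LK LD1_c5 LD2_c48 LD3_c4) (LK LD1_c11 LD2_c25 LD3_c40) Lrfl Lrfl
theorem f100024 : Led Lsl_at (LP (LK LD1_c6 LD2_c11 LD3_c0)) = (LP (LK LD1_c12 LD2_c2 LD3_c16)) :=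
  Lre_a IH (LK LD1_c6 LD2_c11 LD3_c0) (LK LD1_c12 LD2_c2 LD3_c16) Lrfl Lrfl
theorem f80082 : Led Lsl_et (LP (LK LD1_c9 LD2_c15 LD3_c30)) = (LP (LK LD1_c6 LD2_c11 LD3_c0)) :=
  Lre_e IH (LK LD1_c9 LD2_c15 LD3_c30) (LK LD1_c6 LD2_c11 LD3_c0) Lrfl Lrfl
theorem f100025 : Led Lsl_at (LP (LK LD1_c17 LD2_c3 LD3_c4)) = (LP (LK LD1_c9 LD2_c15 LD3_c30)) :=
  Lgr Lrot80 (Lpr_ef (K6.f99940 IH) (Lpe (f100024 IH) (Lpe (f80082 IH) (Lpn (LP (LK LD1_c9 LD2_c15 LD3_c30))))))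
theorem f100041 : Led Lsl_ft (LP (LK LD1_c9 LD2_c9 LD3_c58)) = (LP (LK LD1_c17 LD2_c3 LD3_c4)) :=
  Lre_f IH (LK LD1_c9 LD2_c9 LD3_c58) (LK LD1_c17 LD2_c3 LD3_c4) Lrfl Lrfl
theorem f100207 : Led Lsl_gt (LP (LK LD1_c17 LD2_c3 LD3_c1)) = (LP (LK LD1_c9 LD2_c15 LD3_c30)) :=
  Lgr Lrot46 (Lpe (K42.f99959 IH) (Lpr_ft (f100041 IH) (Lpr_at (f100025 IH) (Lpn (LP (LK LD1_c9 LD2_c15 LD3_c30))))))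
theorem f74235 : Led Lsl_gt (LP (LK LD1_c2 LD2_c52 LD3_c1)) = (LP (LK LD1_c5 LD2_c51 LD3_c36)) :=
  Lre_g IH (LK LD1_c2 LD2_c52 LD3_c1) (LK LD1_c5 LD2_c51 LD3_c36) Lrfl Lrfl
theorem f74238 : Led Lsl_bt (LP (LK LD1_c11 LD2_c30 LD3_c37)) = (LP (LK LD1_c5 LD2_c51 LD3_c36)) :=
  Lre_b IH (LK LD1_c11 LD2_c30 LD3_c37) (LK LD1_c5 LD2_c51 LD3_c36) Lrfl Lrfl
theorem f444268 : Led Lsl_ct (LP (LK LD1_c11 LD2_c30 LD3_c37)) = (LP (LK LD1_c17 LD2_c3 LD3_c1)) :=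
  Lgr Lrot64 (Lpr_bt (f74238 IH) (Lpe (f74235 IH) (Lpe (K32.f73614 IH) (Lpr_ct (K31.f73615 IH) (Lpe (K17.f61680 IH) (Lpr_cf (K32.f444204 IH) (Lpe (K51.f100209 IH) (Lpe (f75000 IH) (Lpr_ct (K6.f100053 IH) (Lpe (f100207 IH) (Lpn (LP (LK LD1_c17 LD2_c3 LD3_c1)))))))))))))
theorem f117475 : Led Lsl_cf (LP (LK LD1_c9 LD2_c7 LD3_c24)) = (LP (LK LD1_c11 LD2_c29 LD3_c42)) :=
  Lgr Lrot1 (Lpr_at (K4.f117468 IH) (Lpe (K4.f24068 IH) (Lpr_at (K52.f24084 IH) (Lpn (LP (LK LD1_c11 LD2_c29 LD3_c42))))))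
theorem f712515 : Led Lsl_gf (LP (LK LD1_c11 LD2_c30 LD3_c37)) = (LP (LK LD1_c11 LD2_c25 LD3_c25)) :=
  Lgr Lrot181 (Lpr_ct (f444268 IH) (Lpr_gt (f100207 IH) (Lpe (K6.f100053 IH) (Lpr_bt (f75000 IH) (Lpr_gt (K51.f100209 IH) (Lpe (f58502 IH) (Lpr_ct (K52.f58503 IH) (Lpr_gt (f712508 IH) (Lpr_cf (f117475 IH) (Lpr_bt (K51.f132441 IH) (Lpn (LP (LK LD1_c11 LD2_c25 LD3_c25)))))))))))))
theorem f100314 : Led Lsl_at (LP (LK LD1_c20 LD2_c22 LD3_c51)) = (LP (LK LD1_c11 LD2_c25 LD3_c31)) :=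
  Lre_a IH (LK LD1_c20 LD2_c22 LD3_c51) (LK LD1_c11 LD2_c25 LD3_c31) Lrfl Lrfl
theorem f712517 : Led Lsl_gt (LP (LK LD1_c11 LD2_c30 LD3_c37)) = (LP (LK LD1_c11 LD2_c25 LD3_c31)) :=
  Lgr Lrot46 (Lpr_gf (f712515 IH) (Lpr_ft (K51.f100315 IH) (Lpr_at (f100314 IH) (Lpn (LP (LK LD1_c11 LD2_c25 LD3_c31))))))
theorem f444270 : Led Lsl_bt (LP (LK LD1_c5 LD2_c51 LD3_c36)) = (LP (LK LD1_c11 LD2_c30 LD3_c37)) :=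
  Lre_b IH (LK LD1_c5 LD2_c51 LD3_c36) (LK LD1_c11 LD2_c30 LD3_c37) Lrfl Lrfl
def v16010 : LQ := Led Lsl_ct (LP (LK LD1_c5 LD2_c51 LD3_c36))
theorem f744801 : Led Lsl_ct (LP (LK LD1_c5 LD2_c51 LD3_c36)) = v16010 :=
  Lrfl
theorem f753200 : Led Lsl_gt (LP (LK LD1_c11 LD2_c29 LD3_c6)) = v16010 :=
  Lgr Lrot149 (Lpe (f22202 IH) (Lpe (f22195 IH) (Lpr_bf (f752884 IH) (Lpr_ct (f753049 IH) (Lpe (f117242 IH) (Lpe (f100310 IH) (Lpr_bt (K51.f100319 IH) (Lpe (f712517 IH) (Lpe (f444270 IH) (Lpr_ct (f744801 IH) (Lpn v16010)))))))))))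
theorem f22159 : Led Lsl_gt (LP (LK LD1_c5 LD2_c50 LD3_c46)) = (LP (LK LD1_c2 LD2_c51 LD3_c35)) :=
  Lre_g IH (LK LD1_c5 LD2_c50 LD3_c46) (LK LD1_c2 LD2_c51 LD3_c35) Lrfl Lrfl
theorem f744511 : Led Lsl_bf (LP (LK LD1_c5 LD2_c50 LD3_c46)) = v15979 :=
  Lgr Lrot24 (Lpr_bt (f744510 IH) (Lpn v15979))
theorem f100299 : Led Lsl_ft (LP (LK LD1_c11 LD2_c25 LD3_c31)) = (LP (LK LD1_c5 LD2_c47 LD3_c56)) :=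
  Lre_f IH (LK LD1_c11 LD2_c25 LD3_c31) (LK LD1_c5 LD2_c47 LD3_c56) Lrfl Lrfl
theorem f100300 : Led Lsl_ft (LP (LK LD1_c9 LD2_c10 LD3_c0)) = (LP (LK LD1_c17 LD2_c3 LD3_c8)) :=
  Lre_f IH (LK LD1_c9 LD2_c10 LD3_c0) (LK LD1_c17 LD2_c3 LD3_c8) Lrfl Lrfl
theorem f100301 : Led Lsl_cf (LP (LK LD1_c11 LD2_c25 LD3_c31)) = (LP (LK LD1_c17 LD2_c3 LD3_c8)) :=
  Lgr Lrot108 (Lpr_ft (f100299 IH) (Lpr_ct (f100286 IH) (Lpr_ft (f100300 IH) (Lpn (LP (LK LD1_c17 LD2_c3 LD3_c8))))))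
theorem f100311 : Led Lsl_ct (LP (LK LD1_c11 LD2_c25 LD3_c31)) = (LP (LK LD1_c17 LD2_c3 LD3_c8)) :=
  Lgr Lrot59 (Lpr_cf (f100301 IH) (Lpn (LP (LK LD1_c17 LD2_c3 LD3_c8))))
theorem f207028 : Led Lsl_af (LP (LK LD1_c17 LD2_c2 LD3_c21)) = (LP (LK LD1_c9 LD2_c10 LD3_c0)) :=
  Lgr Lrot0 (Lpr_at (f207026 IH) (Lpn (LP (LK LD1_c9 LD2_c10 LD3_c0))))
theorem f100322 : Led Lsl_ft (LP (LK LD1_c17 LD2_c3 LD3_c8)) = (LP (LK LD1_c9 LD2_c10 LD3_c0)) :=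
  Lre_f IH (LK LD1_c17 LD2_c3 LD3_c8) (LK LD1_c9 LD2_c10 LD3_c0) Lrfl Lrfl
theorem f752434 : Led Lsl_gt (LP (LK LD1_c17 LD2_c3 LD3_c8)) = (LP (LK LD1_c9 LD2_c15 LD3_c34)) :=
  Lgr Lrot5 (Lpr_ft (f100322 IH) (Lpe (f207028 IH) (Lpr_gf (f752432 IH) (Lpn (LP (LK LD1_c9 LD2_c15 LD3_c34))))))
theorem f753275 : v15979 = (LP (LK LD1_c4 LD2_c40 LD3_c1)) :=
  (Llr Lrot156 (Lpe (f744511 IH) (Lpr_gt (f22159 IH) (Lpe (K50.f22148 IH) (Lpr_ct (f22202 IH) (Lpr_gt (f753200 IH) (Lpe (f744801 IH) (Lpr_bt (f444270 IH) (Lpr_gt (f712517 IH) (Lpr_ct (f100311 IH) (Lpr_gt (f752434 IH) (Lpe (f100106 IH) (Lpn (LP (LK LD1_c4 LD2_c40 LD3_c1))))))))))))))).symm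
theorem f753277 : Led Lsl_bt (LP (LK LD1_c5 LD2_c50 LD3_c46)) = (LP (LK LD1_c4 LD2_c40 LD3_c1)) :=
  Leop (Lpq (f753275 IH) (Lpe (f744510 IH) (Lpn (LP (LK LD1_c5 LD2_c50 LD3_c46)))))
theorem seed_1079 : LEOK LG_b (LK LD1_c5 LD2_c50 LD3_c46) :=
  Leoe_b (LK LD1_c5 LD2_c50 LD3_c46) (f753277 IH)
def v15980 : LQ := Led Lsl_ct (LP (LK LD1_c5 LD2_c50 LD3_c46))
theorem f744512 : Led Lsl_ct (LP (LK LD1_c5 LD2_c50 LD3_c46)) = v15980 :=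
  Lrfl
theorem f76246 : Led Lsl_bt (LP (LK LD1_c1 LD2_c5 LD3_c29)) = (LP (LK LD1_c2 LD2_c17 LD3_c3)) :=
  Lre_b IH (LK LD1_c1 LD2_c5 LD3_c29) (LK LD1_c2 LD2_c17 LD3_c3) Lrfl Lrfl
def v15924 : LQ := Led Lsl_ct (LP (LK LD1_c5 LD2_c50 LD3_c2))
theorem f744236 : Led Lsl_ct (LP (LK LD1_c5 LD2_c50 LD3_c2)) = v15924 :=
  Lrfl
theorem f753297 : Led Lsl_gf v15980 = v15924 :=
  Lgr Lrot129 (Lpe (f744512 IH) (Lpr_bt (f744510 IH) (Lpqs (f753275 IH) (Lpr_gt (f79978 IH) (Lpe (f76246 IH) (Lpr_ct (K0.f20109 IH) (Lpr_gt (K24.f20095 IH) (Lpr_cf (K32.f416055 IH) (Lpr_bt (K54.f640721 IH) (Lpqs (K55.f739451 IH) (Lpe (K55.f640830 IH) (Lpr_ct (f744236 IH) (Lpn v15924)))))))))))))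
def v4865 : LQ := Led Lsl_et (LP (LK LD1_c2 LD2_c51 LD3_c9))
theorem f640635 : Led Lsl_et (LP (LK LD1_c2 LD2_c51 LD3_c9)) = v4865 :=
  Lrfl
theorem f209994 : Led Lsl_et (LP (LK LD1_c2 LD2_c51 LD3_c10)) = (LP (LK LD1_c1 LD2_c21 LD3_c39)) :=
  Lre_e IH (LK LD1_c2 LD2_c51 LD3_c10) (LK LD1_c1 LD2_c21 LD3_c39) Lrfl Lrfl
theorem f640636 : Led Lsl_cf (LP (LK LD1_c2 LD2_c51 LD3_c10)) = v4865 :=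
  Lgr Lrot39 (Lpr_et (f209994 IH) (Lpr_ct (K36.f16660 IH) (Lpr_et (f640635 IH) (Lpn v4865))))
theorem f744238 : Led Lsl_ff v4865 = v15924 :=
  Lgr Lrot23 (Lpe (f640636 IH) (Lpr_ft (K41.f496440 IH) (Lpr_ct (f744236 IH) (Lpn v15924))))
def v4901 : LQ := Led Lsl_et (LP (LK LD1_c2 LD2_c52 LD3_c24))
theorem f640823 : Led Lsl_et (LP (LK LD1_c2 LD2_c52 LD3_c24)) = v4901 :=
  Lrfl
theorem f640826 : Led Lsl_ef (LP (LK LD1_c2 LD2_c52 LD3_c24)) = v4901 :=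
  Lgr Lrot88 (Lpr_et (f640823 IH) (Lpn v4901))
theorem f496337 : Led Lsl_cf (LP (LK LD1_c4 LD2_c44 LD3_c57)) = (LP (LK LD1_c9 LD2_c8 LD3_c38)) :=
  Lgr Lrot11 (Lpr_ct (K32.f496315 IH) (Lpn (LP (LK LD1_c9 LD2_c8 LD3_c38))))
theorem f496542 : Led Lsl_bt (LP (LK LD1_c2 LD2_c53 LD3_c42)) = (LP (LK LD1_c5 LD2_c54 LD3_c40)) :=
  Lre_b IH (LK LD1_c2 LD2_c53 LD3_c42) (LK LD1_c5 LD2_c54 LD3_c40) Lrfl Lrfl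
theorem f496543 : Led Lsl_ff (LP (LK LD1_c9 LD2_c8 LD3_c38)) = (LP (LK LD1_c5 LD2_c54 LD3_c40)) :=
  Lgr Lrot25 (Lpr_bt (K32.f138850 IH) (Lpr_ft (K32.f496540 IH) (Lpr_bt (f496542 IH) (Lpn (LP (LK LD1_c5 LD2_c54 LD3_c40))))))
theorem f499632 : Led Lsl_ct (LP (LK LD1_c9 LD2_c16 LD3_c15)) = (LP (LK LD1_c5 LD2_c54 LD3_c40)) :=
  Lgr Lrot40 (Lpr_ff (K55.f499626 IH) (Lpr_cf (f496337 IH) (Lpr_ff (f496543 IH) (Lpn (LP (LK LD1_c5 LD2_c54 LD3_c40))))))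
theorem f441934 : Led Lsl_ct (LP (LK LD1_c9 LD2_c22 LD3_c31)) = (LP (LK LD1_c4 LD2_c44 LD3_c56)) :=
  Lre_c IH (LK LD1_c9 LD2_c22 LD3_c31) (LK LD1_c4 LD2_c44 LD3_c56) Lrfl Lrfl
theorem f499634 : Led Lsl_af (LP (LK LD1_c9 LD2_c22 LD3_c31)) = (LP (LK LD1_c5 LD2_c54 LD3_c40)) :=
  Lgr Lrot68 (Lpr_ct (f441934 IH) (Lpe (K55.f499620 IH) (Lpr_ct (f499632 IH) (Lpn (LP (LK LD1_c5 LD2_c54 LD3_c40))))))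
theorem f497262 : Led Lsl_at (LP (LK LD1_c8 LD2_c0 LD3_c34)) = (LP (LK LD1_c6 LD2_c50 LD3_c60)) :=
  Lgr Lrot100 (Lpr_af (K32.f497249 IH) (Lpn (LP (LK LD1_c6 LD2_c50 LD3_c60))))
theorem f499638 : Led Lsl_bt (LP (LK LD1_c9 LD2_c22 LD3_c31)) = (LP (LK LD1_c8 LD2_c0 LD3_c34)) :=
  Lgr Lrot62 (Lpr_af (f499634 IH) (Lpe (f496542 IH) (Lpe (K32.f496552 IH) (Lpr_bf (K32.f112382 IH) (Lpe (f497262 IH) (Lpn (LP (LK LD1_c8 LD2_c0 LD3_c34))))))))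
theorem f98953 : Led Lsl_ct (LP (LK LD1_c4 LD2_c44 LD3_c56)) = (LP (LK LD1_c9 LD2_c22 LD3_c31)) :=
  Lre_c IH (LK LD1_c4 LD2_c44 LD3_c56) (LK LD1_c9 LD2_c22 LD3_c31) Lrfl Lrfl
theorem f499608 : Led Lsl_cf (LP (LK LD1_c9 LD2_c22 LD3_c30)) = (LP (LK LD1_c11 LD2_c31 LD3_c18)) :=
  Lgr Lrot11 (Lpr_ct (K41.f499595 IH) (Lpn (LP (LK LD1_c11 LD2_c31 LD3_c18))))
theorem f205775 : Led Lsl_bt (LP (LK LD1_c2 LD2_c51 LD3_c8)) = (LP (LK LD1_c1 LD2_c21 LD3_c39)) :=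
  Lre_b IH (LK LD1_c2 LD2_c51 LD3_c8) (LK LD1_c1 LD2_c21 LD3_c39) Lrfl Lrfl
theorem f205776 : Led Lsl_cf (LP (LK LD1_c6 LD2_c50 LD3_c60)) = (LP (LK LD1_c5 LD2_c50 LD3_c1)) :=
  Lgr Lrot97 (Lpe (K32.f112382 IH) (Lpr_ct (K11.f205767 IH) (Lpr_bt (f205775 IH) (Lpr_ct (K36.f16660 IH) (Lpr_bt (K36.f16661 IH) (Lpn (LP (LK LD1_c5 LD2_c50 LD3_c1))))))))
theorem f210031 : Led Lsl_at (LP (LK LD1_c11 LD2_c28 LD3_c29)) = (LP (LK LD1_c5 LD2_c50 LD3_c1)) :=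
  Lre_a IH (LK LD1_c11 LD2_c28 LD3_c29) (LK LD1_c5 LD2_c50 LD3_c1) Lrfl Lrfl
theorem f497264 : Led Lsl_ct (LP (LK LD1_c8 LD2_c0 LD3_c34)) = (LP (LK LD1_c11 LD2_c28 LD3_c29)) :=
  Lgr Lrot111 (Lpr_af (K32.f497249 IH) (Lpr_cf (f205776 IH) (Lpe (f210031 IH) (Lpn (LP (LK LD1_c11 LD2_c28 LD3_c29))))))
theorem f499647 : Led Lsl_bf (LP (LK LD1_c11 LD2_c31 LD3_c18)) = (LP (LK LD1_c11 LD2_c28 LD3_c29)) :=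
  Lgr Lrot90 (Lpe (f499608 IH) (Lpr_bt (K41.f98954 IH) (Lpr_ct (f98953 IH) (Lpr_bt (f499638 IH) (Lpr_ct (f497264 IH) (Lpn (LP (LK LD1_c11 LD2_c28 LD3_c29))))))))
theorem f210030 : Led Lsl_at (LP (LK LD1_c5 LD2_c50 LD3_c1)) = (LP (LK LD1_c11 LD2_c28 LD3_c29)) :=
  Lre_a IH (LK LD1_c5 LD2_c50 LD3_c1) (LK LD1_c11 LD2_c28 LD3_c29) Lrfl Lrfl
theorem f499649 : Led Lsl_at (LP (LK LD1_c2 LD2_c52 LD3_c24)) = (LP (LK LD1_c2 LD2_c51 LD3_c9)) :=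
  Lgr Lrot67 (Lpe (K50.f74717 IH) (Lpe (K41.f74768 IH) (Lpr_bf (f499647 IH) (Lpe (f210030 IH) (Lpe (K36.f16661 IH) (Lpn (LP (LK LD1_c2 LD2_c51 LD3_c9))))))))
theorem f640827 : Led Lsl_at v4865 = v4901 :=
  Lgr Lrot80 (Lpe (f640635 IH) (Lpe (f499649 IH) (Lpr_ef (f640826 IH) (Lpn v4901))))
theorem f753298 : Led Lsl_gt v15980 = v4901 :=
  Lgr Lrot46 (Lpr_gf (f753297 IH) (Lpe (f744238 IH) (Lpr_at (f640827 IH) (Lpn v4901))))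
theorem f699631 : Led Lsl_ff (LP (LK LD1_c4 LD2_c34 LD3_c41)) = K50.v12925 :=
  Lgr Lrot3 (Lpr_ft (K50.f699626 IH) (Lpn K50.v12925))
theorem f302679 : Led Lsl_af (LP (LK LD1_c2 LD2_c33 LD3_c37)) = (LP (LK LD1_c2 LD2_c30 LD3_c35)) :=
  Lgr Lrot0 (Lpr_at (K50.f302677 IH) (Lpn (LP (LK LD1_c2 LD2_c30 LD3_c35))))
theorem f302724 : Led Lsl_at (LP (LK LD1_c4 LD2_c34 LD3_c41)) = (LP (LK LD1_c2 LD2_c51 LD3_c35)) :=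
  Lgr Lrot51 (Lpe (K50.f20506 IH) (Lpr_af (f302679 IH) (Lpe (K11.f22145 IH) (Lpn (LP (LK LD1_c2 LD2_c51 LD3_c35))))))
theorem f699637 : Led Lsl_gf (LP (LK LD1_c5 LD2_c50 LD3_c46)) = K50.v12925 :=
  Lgr Lrot47 (Lpr_gt (f22159 IH) (Lpe (f302724 IH) (Lpr_ff (f699631 IH) (Lpn K50.v12925))))
theorem f22184 : Led Lsl_ct (LP (LK LD1_c5 LD2_c6 LD3_c37)) = (LP (LK LD1_c10 LD2_c3 LD3_c61)) :=
  Lre_c IH (LK LD1_c5 LD2_c6 LD3_c37) (LK LD1_c10 LD2_c3 LD3_c61) Lrfl Lrfl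
theorem f640825 : Led Lsl_cf (LP (LK LD1_c2 LD2_c52 LD3_c25)) = v4901 :=
  Lgr Lrot39 (Lpr_et (K41.f163570 IH) (Lpr_ct (K32.f74762 IH) (Lpr_et (f640823 IH) (Lpn v4901))))
theorem f753299 : (LP (LK LD1_c10 LD2_c3 LD3_c61)) = K54.v14431 :=
  (Llr Lrot152 (Lpe (f22184 IH) (Lpe (K55.f302685 IH) (Lpr_df (K50.f699629 IH) (Lpe (f699637 IH) (Lpr_ct (f744512 IH) (Lpr_gt (f753298 IH) (Lpe (f640825 IH) (Lpe (K41.f615395 IH) (Lpr_cf (K41.f180710 IH) (Lpr_gf (K54.f722488 IH) (Lpn K54.v14431)))))))))))).symm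
theorem f753300 : Led Lsl_gt (LP (LK LD1_c10 LD2_c3 LD3_c61)) = (LP (LK LD1_c5 LD2_c9 LD3_c59)) :=
  Leop (Lpr_gf (K54.f722488 IH) (Lpq (f753299 IH) (Lpn (LP (LK LD1_c10 LD2_c3 LD3_c61)))))
theorem seed_1080 : LEOK LG_g (LK LD1_c10 LD2_c3 LD3_c61) :=
  Leoe_g (LK LD1_c10 LD2_c3 LD3_c61) (f753300 IH)
theorem f739431 : Led Lsl_af K54.v14553 = K54.v14431 :=
  Lgr Lrot68 (Lpe (K54.f723720 IH) (Lpr_at (K53.f723166 IH) (Lpr_ct (K54.f739430 IH) (Lpn K54.v14431))))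
theorem f753302 : Led Lsl_at (LP (LK LD1_c10 LD2_c3 LD3_c61)) = (LP (LK LD1_c9 LD2_c56 LD3_c14)) :=
  Leop (Lpq (K54.f739441 IH) (Lpr_af (f739431 IH) (Lpq (f753299 IH) (Lpn (LP (LK LD1_c10 LD2_c3 LD3_c61))))))
theorem seed_1081 : LEOK LG_a (LK LD1_c10 LD2_c3 LD3_c61) :=
  Leoe_a (LK LD1_c10 LD2_c3 LD3_c61) (f753302 IH)
theorem f640828 : Led Lsl_ct (LP (LK LD1_c2 LD2_c52 LD3_c25)) = v4901 :=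
  Lgr Lrot15 (Lpe (K41.f496460 IH) (Lpe (K32.f22821 IH) (Lpr_ef (f640826 IH) (Lpn v4901))))
theorem f74741 : Led Lsl_gt (LP (LK LD1_c5 LD2_c52 LD3_c11)) = (LP (LK LD1_c11 LD2_c31 LD3_c15)) :=
  Lre_g IH (LK LD1_c5 LD2_c52 LD3_c11) (LK LD1_c11 LD2_c31 LD3_c15) Lrfl Lrfl
theorem f753306 : v16913 = (LP (LK LD1_c11 LD2_c31 LD3_c15)) :=
  (Llr Lrot125 (Lpe (f752428 IH) (Lpr_gt (f74915 IH) (Lpe (K2.f74896 IH) (Lpe (f100066 IH) (Lpr_gt (f100100 IH) (Lpq (f753275 IH) (Lpe (f744510 IH) (Lpr_ct (f744512 IH) (Lpr_gt (f753298 IH) (Lpe (f640828 IH) (Lpr_bt (K41.f74755 IH) (Lpr_gt (f74741 IH) (Lpn (LP (LK LD1_c11 LD2_c31 LD3_c15)))))))))))))))).symm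
theorem f753307 : Led Lsl_bt (LP (LK LD1_c11 LD2_c31 LD3_c15)) = (LP (LK LD1_c20 LD2_c26 LD3_c46)) :=
  Leop (Lpr_bf (f752430 IH) (Lpqs (f753306 IH) (Lpn (LP (LK LD1_c11 LD2_c31 LD3_c15)))))
theorem seed_1082 : LEOK LG_b (LK LD1_c11 LD2_c31 LD3_c15) :=
  Leoe_b (LK LD1_c11 LD2_c31 LD3_c15) (f753307 IH)
theorem f715107 : Led Lsl_dt (LP (LK LD1_c17 LD2_c6 LD3_c40)) = (LP (LK LD1_c9 LD2_c12 LD3_c28)) :=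
  Lre_d IH (LK LD1_c17 LD2_c6 LD3_c40) (LK LD1_c9 LD2_c12 LD3_c28) Lrfl Lrfl
def v13044 : LQ := Led Lsl_ft (LP (LK LD1_c4 LD2_c38 LD3_c19))
theorem f700706 : Led Lsl_ft (LP (LK LD1_c4 LD2_c38 LD3_c19)) = v13044 :=
  Lrfl
theorem f700709 : Led Lsl_ff (LP (LK LD1_c4 LD2_c38 LD3_c19)) = v13044 :=
  Lgr Lrot3 (Lpr_ft (f700706 IH) (Lpn v13044))
theorem f415660 : Led Lsl_bt (LP (LK LD1_c4 LD2_c38 LD3_c19)) = (LP (LK LD1_c2 LD2_c16 LD3_c13)) :=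
  Lre_b IH (LK LD1_c4 LD2_c38 LD3_c19) (LK LD1_c2 LD2_c16 LD3_c13) Lrfl Lrfl
theorem f700710 : Led Lsl_bt K45.v4214 = v13044 :=
  Lgr Lrot35 (Lpe (K45.f631942 IH) (Lpe (f415660 IH) (Lpr_ff (f700709 IH) (Lpn v13044))))
theorem f700217 : Led Lsl_bt (LP (LK LD1_c4 LD2_c37 LD3_c43)) = (LP (LK LD1_c9 LD2_c11 LD3_c1)) :=
  Lre_b IH (LK LD1_c4 LD2_c37 LD3_c43) (LK LD1_c9 LD2_c11 LD3_c1) Lrfl Lrfl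
theorem f719584 : v13044 = (LP (LK LD1_c9 LD2_c11 LD3_c1)) :=
  Lefun (Lecon (f700710 IH) (K53.f719579 IH).symm) (f700217 IH)
theorem f747029 : Led Lsl_bt K53.v14550 = K55.v16207 :=
  Lgr Lrot35 (Lpe (K53.f723159 IH) (Lpe (K53.f20519 IH) (Lpr_ff (K55.f747028 IH) (Lpn K55.v16207))))
theorem f710737 : Led Lsl_bt (LP (LK LD1_c5 LD2_c6 LD3_c36)) = (LP (LK LD1_c10 LD2_c3 LD3_c57)) :=
  Lre_b IH (LK LD1_c5 LD2_c6 LD3_c36) (LK LD1_c10 LD2_c3 LD3_c57) Lrfl Lrfl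
def v14332 : LQ := Led Lsl_ft (LP (LK LD1_c5 LD2_c6 LD3_c36))
theorem f721964 : Led Lsl_ft (LP (LK LD1_c5 LD2_c6 LD3_c36)) = v14332 :=
  Lrfl
theorem f721966 : Led Lsl_ff (LP (LK LD1_c5 LD2_c6 LD3_c36)) = v14332 :=
  Lgr Lrot3 (Lpr_ft (f721964 IH) (Lpn v14332))
theorem f723164 : Led Lsl_af (LP (LK LD1_c5 LD2_c13 LD3_c31)) = K53.v14552 :=
  Lgr Lrot45 (Lpr_ft (K53.f723159 IH) (Lpe (K53.f723157 IH) (Lpr_ft (K53.f723163 IH) (Lpn K53.v14552))))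
def v14331 : LQ := Led Lsl_at (LP (LK LD1_c5 LD2_c6 LD3_c36))
theorem f721960 : Led Lsl_at (LP (LK LD1_c5 LD2_c6 LD3_c36)) = v14331 :=
  Lrfl
theorem f721961 : Led Lsl_af (LP (LK LD1_c5 LD2_c6 LD3_c36)) = v14331 :=
  Lgr Lrot0 (Lpr_at (f721960 IH) (Lpn v14331))
theorem f721962 : Led Lsl_ft (LP (LK LD1_c5 LD2_c6 LD3_c37)) = v14331 :=
  Lgr Lrot2 (Lpr_gt (K55.f22165 IH) (Lpr_gt (K50.f22160 IH) (Lpr_af (f721961 IH) (Lpn v14331))))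
theorem f721963 : Led Lsl_ff (LP (LK LD1_c5 LD2_c6 LD3_c37)) = v14331 :=
  Lgr Lrot3 (Lpr_ft (f721962 IH) (Lpn v14331))
theorem f721967 : Led Lsl_at (LP (LK LD1_c5 LD2_c6 LD3_c37)) = v14332 :=
  Lgr Lrot66 (Lpr_ff (f721963 IH) (Lpe (f721960 IH) (Lpr_ff (f721966 IH) (Lpn v14332))))
theorem f739432 : Led Lsl_cf K53.v14552 = K54.v14431 :=
  Lgr Lrot11 (Lpr_ct (K54.f739430 IH) (Lpn K54.v14431))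
theorem f22183 : Led Lsl_ct (LP (LK LD1_c10 LD2_c3 LD3_c61)) = (LP (LK LD1_c5 LD2_c6 LD3_c37)) :=
  Lre_c IH (LK LD1_c10 LD2_c3 LD3_c61) (LK LD1_c5 LD2_c6 LD3_c37) Lrfl Lrfl
theorem f753311 : K53.v14552 = (LP (LK LD1_c5 LD2_c6 LD3_c37)) :=
  Lefun (Lecon (Lfl_cf (f739432 IH)) (f753299 IH).symm) (f22183 IH)
theorem f753312 : (LP (LK LD1_c5 LD2_c13 LD3_c31)) = v14332 :=
  Lefun (Lecon (Lfl_af (f723164 IH)) (f753311 IH)) (f721967 IH)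
theorem f753321 : (LP (LK LD1_c5 LD2_c6 LD3_c36)) = K53.v14550 :=
  Lefun (Lecon (Lfl_ff (f721966 IH)) (f753312 IH).symm) (K53.f723159 IH)
theorem f753326 : K55.v16207 = (LP (LK LD1_c10 LD2_c3 LD3_c57)) :=
  Lefun (Lecon (f747029 IH) (f753321 IH).symm) (f710737 IH)
theorem f710746 : Led Lsl_dt (LP (LK LD1_c10 LD2_c3 LD3_c57)) = (LP (LK LD1_c18 LD2_c22 LD3_c32)) :=
  Lre_d IH (LK LD1_c10 LD2_c3 LD3_c57) (LK LD1_c18 LD2_c22 LD3_c32) Lrfl Lrfl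
theorem f753412 : Led Lsl_ff (LP (LK LD1_c17 LD2_c6 LD3_c16)) = (LP (LK LD1_c18 LD2_c22 LD3_c32)) :=
  Lgr Lrot19 (Lpe (K55.f719527 IH) (Lpr_ft (K55.f747030 IH) (Lpqs (f753326 IH) (Lpr_dt (f710746 IH) (Lpn (LP (LK LD1_c18 LD2_c22 LD3_c32)))))))
theorem f753419 : Led Lsl_ft (LP (LK LD1_c17 LD2_c6 LD3_c16)) = (LP (LK LD1_c18 LD2_c22 LD3_c32)) :=
  Lgr Lrot48 (Lpr_ff (f753412 IH) (Lpn (LP (LK LD1_c18 LD2_c22 LD3_c32))))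
theorem f719520 : Led Lsl_bt (LP (LK LD1_c10 LD2_c17 LD3_c20)) = (LP (LK LD1_c17 LD2_c6 LD3_c16)) :=
  Lgr Lrot127 (Lpr_bf (K53.f719518 IH) (Lpn (LP (LK LD1_c17 LD2_c6 LD3_c16))))
theorem f699643 : Led Lsl_bt (LP (LK LD1_c18 LD2_c22 LD3_c32)) = (LP (LK LD1_c10 LD2_c3 LD3_c59)) :=
  Lre_b IH (LK LD1_c18 LD2_c22 LD3_c32) (LK LD1_c10 LD2_c3 LD3_c59) Lrfl Lrfl
theorem f753425 : Led Lsl_ff (LP (LK LD1_c10 LD2_c17 LD3_c20)) = (LP (LK LD1_c10 LD2_c3 LD3_c59)) :=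
  Lgr Lrot25 (Lpr_bt (f719520 IH) (Lpr_ft (f753419 IH) (Lpr_bt (f699643 IH) (Lpn (LP (LK LD1_c10 LD2_c3 LD3_c59))))))
theorem f750339 : Led Lsl_ff (LP (LK LD1_c6 LD2_c2 LD3_c43)) = v16548 :=
  Lgr Lrot3 (Lpr_ft (f750336 IH) (Lpn v16548))
theorem f750340 : Led Lsl_dt (LP (LK LD1_c11 LD2_c35 LD3_c60)) = v16548 :=
  Lgr Lrot60 (Lpe (K53.f169791 IH) (Lpe (K55.f68946 IH) (Lpr_ff (f750339 IH) (Lpn v16548))))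
theorem f22161 : Led Lsl_dt (LP (LK LD1_c5 LD2_c6 LD3_c36)) = (LP (LK LD1_c10 LD2_c3 LD3_c59)) :=
  Lre_d IH (LK LD1_c5 LD2_c6 LD3_c36) (LK LD1_c10 LD2_c3 LD3_c59) Lrfl Lrfl
theorem f750343 : Led Lsl_gt (LP (LK LD1_c10 LD2_c3 LD3_c59)) = v16548 :=
  Lgr Lrot139 (Lpe (f22161 IH) (Lpe (K50.f22160 IH) (Lpe (K53.f22182 IH) (Lpr_dt (K9.f22143 IH) (Lpe (K9.f177757 IH) (Lpe (K11.f166187 IH) (Lpr_et (K36.f166188 IH) (Lpe (K50.f166191 IH) (Lpr_ef (K53.f722013 IH) (Lpr_dt (f750340 IH) (Lpn v16548)))))))))))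
theorem f750342 : Led Lsl_gf (LP (LK LD1_c10 LD2_c4 LD3_c0)) = v16548 :=
  Lgr Lrot47 (Lpr_gt (K55.f747071 IH) (Lpe (K55.f508252 IH) (Lpr_ff (f750339 IH) (Lpn v16548))))
theorem f753431 : Led Lsl_at (LP (LK LD1_c10 LD2_c17 LD3_c20)) = (LP (LK LD1_c10 LD2_c4 LD3_c0)) :=
  Lgr Lrot26 (Lpr_ff (f753425 IH) (Lpr_gt (f750343 IH) (Lpe (f750342 IH) (Lpn (LP (LK LD1_c10 LD2_c4 LD3_c0))))))
theorem f536570 : Led Lsl_ef (LP (LK LD1_c10 LD2_c17 LD3_c20)) = (LP (LK LD1_c6 LD2_c25 LD3_c22)) :=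
  Lgr Lrot88 (Lpr_et (K35.f536565 IH) (Lpn (LP (LK LD1_c6 LD2_c25 LD3_c22))))
theorem f719502 : Led Lsl_af (LP (LK LD1_c6 LD2_c25 LD3_c22)) = v13044 :=
  Lgr Lrot45 (Lpr_ft (K53.f719500 IH) (Lpr_at (K53.f631965 IH) (Lpr_ft (f700706 IH) (Lpn v13044))))
def v13301 : LQ := Led Lsl_gt (LP (LK LD1_c4 LD2_c42 LD3_c59))
theorem f702235 : Led Lsl_gt (LP (LK LD1_c4 LD2_c42 LD3_c59)) = v13301 :=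
  Lrfl
theorem f22166 : Led Lsl_dt (LP (LK LD1_c10 LD2_c4 LD3_c0)) = (LP (LK LD1_c5 LD2_c6 LD3_c37)) :=
  Lre_d IH (LK LD1_c10 LD2_c4 LD3_c0) (LK LD1_c5 LD2_c6 LD3_c37) Lrfl Lrfl
theorem f702236 : Led Lsl_et (LP (LK LD1_c10 LD2_c4 LD3_c0)) = v13301 :=
  Lgr Lrot122 (Lpr_dt (f22166 IH) (Lpr_gt (K55.f22165 IH) (Lpe (K11.f22145 IH) (Lpr_et (K50.f22163 IH) (Lpr_gt (K30.f22164 IH) (Lpr_dt (K30.f494537 IH) (Lpe (K30.f494535 IH) (Lpr_df (K11.f177076 IH) (Lpr_et (K35.f177079 IH) (Lpr_gt (f702235 IH) (Lpn v13301)))))))))))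
theorem f753437 : v13044 = v13301 :=
  (Llr Lrot50 (Lpe (f719502 IH) (Lpe (f536570 IH) (Lpr_at (f753431 IH) (Lpr_et (f702236 IH) (Lpn v13301)))))).symm
theorem f406410 : Led Lsl_gt (LP (LK LD1_c9 LD2_c6 LD3_c10)) = (LP (LK LD1_c5 LD2_c50 LD3_c56)) :=
  Lgr Lrot46 (Lpe (K50.f242649 IH) (Lpr_ft (K50.f242700 IH) (Lpr_at (K50.f406404 IH) (Lpn (LP (LK LD1_c5 LD2_c50 LD3_c56))))))
theorem f68644 : Led Lsl_ft (LP (LK LD1_c11 LD2_c12 LD3_c36)) = (LP (LK LD1_c5 LD2_c41 LD3_c1)) :=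
  Lre_f IH (LK LD1_c11 LD2_c12 LD3_c36) (LK LD1_c5 LD2_c41 LD3_c1) Lrfl Lrfl
theorem f639732 : Led Lsl_gf (LP (LK LD1_c12 LD2_c3 LD3_c58)) = (LP (LK LD1_c11 LD2_c12 LD3_c36)) :=
  Lgr Lrot47 (Lpr_gt (K50.f639730 IH) (Lpe (K39.f450576 IH) (Lpe (f68644 IH) (Lpn (LP (LK LD1_c11 LD2_c12 LD3_c36))))))
theorem f648269 : Led Lsl_df (LP (LK LD1_c11 LD2_c12 LD3_c36)) = K53.v5563 :=
  Lgr Lrot78 (Lpr_ft (f68644 IH) (Lpr_dt (K51.f68635 IH) (Lpr_ft (K53.f648267 IH) (Lpn K53.v5563))))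
theorem f702238 : Led Lsl_gf K53.v5563 = v13301 :=
  Lgr Lrot138 (Lpe (f648269 IH) (Lpe (f639732 IH) (Lpr_df (K50.f639735 IH) (Lpr_et (K50.f242650 IH) (Lpr_gt (f406410 IH) (Lpr_ef (K50.f699630 IH) (Lpe (K50.f699629 IH) (Lpr_gt (K55.f302685 IH) (Lpe (f22166 IH) (Lpr_et (f702236 IH) (Lpn v13301)))))))))))
def v13302 : LQ := Led Lsl_gf (LP (LK LD1_c4 LD2_c42 LD3_c59))
theorem f702240 : Led Lsl_gf (LP (LK LD1_c4 LD2_c42 LD3_c59)) = v13302 :=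
  Lrfl
theorem f450574 : Led Lsl_at (LP (LK LD1_c3 LD2_c10 LD3_c20)) = (LP (LK LD1_c4 LD2_c42 LD3_c59)) :=
  Lgr Lrot100 (Lpr_af (K39.f449224 IH) (Lpn (LP (LK LD1_c4 LD2_c42 LD3_c59))))
theorem f648270 : Led Lsl_ff (LP (LK LD1_c3 LD2_c10 LD3_c20)) = K53.v5563 :=
  Lgr Lrot3 (Lpr_ft (K53.f648267 IH) (Lpn K53.v5563))
theorem f702241 : Led Lsl_gt K53.v5563 = v13302 :=
  Lgr Lrot5 (Lpe (f648270 IH) (Lpr_at (f450574 IH) (Lpr_gf (f702240 IH) (Lpn v13302))))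
theorem f753459 : (LP (LK LD1_c9 LD2_c12 LD3_c28)) = v13302 :=
  (Llr Lrot26 (Lpe (K52.f631966 IH) (Lpr_ff (f700709 IH) (Lpqs (f719584 IH) (Lpq (f719584 IH) (Lpqs (f753437 IH) (Lpe (f702238 IH) (Lpr_gt (f702241 IH) (Lpn v13302))))))))).symm
theorem f68637 : Led Lsl_ft (LP (LK LD1_c5 LD2_c41 LD3_c1)) = (LP (LK LD1_c11 LD2_c12 LD3_c36)) :=
  Lre_f IH (LK LD1_c5 LD2_c41 LD3_c1) (LK LD1_c11 LD2_c12 LD3_c36) Lrfl Lrfl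
theorem f648272 : Led Lsl_dt (LP (LK LD1_c11 LD2_c12 LD3_c36)) = K53.v5563 :=
  Lgr Lrot60 (Lpe (f68637 IH) (Lpr_df (K32.f68631 IH) (Lpr_ff (f648270 IH) (Lpn K53.v5563))))
theorem f706848 : Led Lsl_af (LP (LK LD1_c12 LD2_c3 LD3_c58)) = (LP (LK LD1_c9 LD2_c4 LD3_c15)) :=
  Lgr Lrot45 (Lpr_ft (K50.f443745 IH) (Lpr_at (K50.f639722 IH) (Lpr_ft (K55.f706846 IH) (Lpn (LP (LK LD1_c9 LD2_c4 LD3_c15))))))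
theorem f706854 : Led Lsl_gt (LP (LK LD1_c9 LD2_c17 LD3_c25)) = (LP (LK LD1_c11 LD2_c12 LD3_c36)) :=
  Lgr Lrot5 (Lpr_ft (K55.f706846 IH) (Lpe (f706848 IH) (Lpr_gf (f639732 IH) (Lpn (LP (LK LD1_c11 LD2_c12 LD3_c36))))))
theorem f68827 : Led Lsl_gt (LP (LK LD1_c5 LD2_c42 LD3_c22)) = (LP (LK LD1_c11 LD2_c14 LD3_c56)) :=
  Lre_g IH (LK LD1_c5 LD2_c42 LD3_c22) (LK LD1_c11 LD2_c14 LD3_c56) Lrfl Lrfl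
theorem f68828 : Led Lsl_gt (LP (LK LD1_c11 LD2_c14 LD3_c56)) = (LP (LK LD1_c6 LD2_c12 LD3_c17)) :=
  Lgr Lrot46 (Lpe (f68827 IH) (Lpr_ft (K36.f68820 IH) (Lpr_at (K36.f59974 IH) (Lpn (LP (LK LD1_c6 LD2_c12 LD3_c17))))))
theorem f753461 : Led Lsl_et (LP (LK LD1_c17 LD2_c6 LD3_c40)) = (LP (LK LD1_c11 LD2_c14 LD3_c56)) :=
  Lgr Lrot185 (Lpr_dt (f715107 IH) (Lpqs (f753459 IH) (Lpe (f702241 IH) (Lpe (f648272 IH) (Lpe (f706854 IH) (Lpe (K35.f27046 IH) (Lpr_dt (K24.f27038 IH) (Lpe (K17.f22917 IH) (Lpe (K24.f22916 IH) (Lpr_et (K40.f23163 IH) (Lpe (f68828 IH) (Lpn (LP (LK LD1_c11 LD2_c14 LD3_c56))))))))))))))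
theorem f68645 : Led Lsl_dt (LP (LK LD1_c6 LD2_c25 LD3_c22)) = (LP (LK LD1_c12 LD2_c23 LD3_c37)) :=
  Lre_d IH (LK LD1_c6 LD2_c25 LD3_c22) (LK LD1_c12 LD2_c23 LD3_c37) Lrfl Lrfl
theorem f719512 : Led Lsl_ft (LP (LK LD1_c12 LD2_c23 LD3_c37)) = (LP (LK LD1_c17 LD2_c6 LD3_c40)) :=
  Lgr Lrot54 (Lpe (f68645 IH) (Lpr_ff (K53.f719507 IH) (Lpe (f715107 IH) (Lpn (LP (LK LD1_c17 LD2_c6 LD3_c40))))))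
theorem f387379 : Led Lsl_et (LP (LK LD1_c5 LD2_c13 LD3_c31)) = (LP (LK LD1_c10 LD2_c17 LD3_c21)) :=
  Lre_e IH (LK LD1_c5 LD2_c13 LD3_c31) (LK LD1_c10 LD2_c17 LD3_c21) Lrfl Lrfl
theorem f20521 : Led Lsl_dt (LP (LK LD1_c10 LD2_c17 LD3_c21)) = (LP (LK LD1_c18 LD2_c42 LD3_c15)) :=
  Lre_d IH (LK LD1_c10 LD2_c17 LD3_c21) (LK LD1_c18 LD2_c42 LD3_c15) Lrfl Lrfl
theorem f68646 : Led Lsl_dt (LP (LK LD1_c12 LD2_c23 LD3_c37)) = (LP (LK LD1_c6 LD2_c25 LD3_c22)) :=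
  Lre_d IH (LK LD1_c12 LD2_c23 LD3_c37) (LK LD1_c6 LD2_c25 LD3_c22) Lrfl Lrfl
theorem f536572 : Led Lsl_et (LP (LK LD1_c18 LD2_c42 LD3_c15)) = (LP (LK LD1_c12 LD2_c23 LD3_c37)) :=
  Lgr Lrot71 (Lpe (f20521 IH) (Lpe (f387379 IH) (Lpe (K35.f20514 IH) (Lpr_ef (f536570 IH) (Lpe (f68646 IH) (Lpn (LP (LK LD1_c12 LD2_c23 LD3_c37))))))))
theorem f753340 : Led Lsl_et (LP (LK LD1_c18 LD2_c22 LD3_c35)) = (LP (LK LD1_c10 LD2_c3 LD3_c58)) :=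
  Lre_e IH (LK LD1_c18 LD2_c22 LD3_c35) (LK LD1_c10 LD2_c3 LD3_c58) Lrfl Lrfl
theorem f739438 : Led Lsl_ct K53.v14550 = K54.v14430 :=
  Lgr Lrot59 (Lpr_cf (K54.f739437 IH) (Lpn K54.v14430))
theorem f22162 : Led Lsl_ct (LP (LK LD1_c5 LD2_c6 LD3_c36)) = (LP (LK LD1_c10 LD2_c3 LD3_c58)) :=
  Lre_c IH (LK LD1_c5 LD2_c6 LD3_c36) (LK LD1_c10 LD2_c3 LD3_c58) Lrfl Lrfl
theorem f753332 : K54.v14430 = (LP (LK LD1_c10 LD2_c3 LD3_c58)) :=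
  Lefun (Lecon (f739438 IH) (f753321 IH).symm) (f22162 IH)
theorem f723189 : Led Lsl_et (LP (LK LD1_c9 LD2_c56 LD3_c13)) = (LP (LK LD1_c18 LD2_c11 LD3_c2)) :=
  Lre_e IH (LK LD1_c9 LD2_c56 LD3_c13) (LK LD1_c18 LD2_c11 LD3_c2) Lrfl Lrfl
theorem f753347 : Led Lsl_af (LP (LK LD1_c18 LD2_c22 LD3_c35)) = (LP (LK LD1_c18 LD2_c11 LD3_c2)) :=
  Lgr Lrot50 (Lpr_et (f753340 IH) (Lpq (f753332 IH) (Lpe (K54.f739436 IH) (Lpq (K53.f723185 IH) (Lpr_et (f723189 IH) (Lpn (LP (LK LD1_c18 LD2_c11 LD3_c2))))))))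
theorem f198586 : Led Lsl_ct (LP (LK LD1_c18 LD2_c22 LD3_c35)) = (LP (LK LD1_c10 LD2_c3 LD3_c60)) :=
  Lre_c IH (LK LD1_c18 LD2_c22 LD3_c35) (LK LD1_c10 LD2_c3 LD3_c60) Lrfl Lrfl
theorem f288216 : Led Lsl_et (LP (LK LD1_c18 LD2_c11 LD3_c2)) = (LP (LK LD1_c9 LD2_c56 LD3_c13)) :=
  Lre_e IH (LK LD1_c18 LD2_c11 LD3_c2) (LK LD1_c9 LD2_c56 LD3_c13) Lrfl Lrfl
theorem f723190 : Led Lsl_cf (LP (LK LD1_c18 LD2_c11 LD3_c2)) = (LP (LK LD1_c10 LD2_c17 LD3_c18)) :=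
  Lgr Lrot39 (Lpr_et (f288216 IH) (Lpqs (K53.f723185 IH) (Lpe (K53.f723162 IH) (Lpr_et (f186179 IH) (Lpn (LP (LK LD1_c10 LD2_c17 LD3_c18)))))))
theorem f753352 : Led Lsl_at (LP (LK LD1_c10 LD2_c3 LD3_c60)) = (LP (LK LD1_c10 LD2_c17 LD3_c18)) :=
  Lgr Lrot107 (Lpe (f198586 IH) (Lpr_af (f753347 IH) (Lpr_cf (f723190 IH) (Lpn (LP (LK LD1_c10 LD2_c17 LD3_c18))))))
theorem f198591 : Led Lsl_ft (LP (LK LD1_c18 LD2_c22 LD3_c37)) = (LP (LK LD1_c10 LD2_c3 LD3_c60)) :=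
  Lre_f IH (LK LD1_c18 LD2_c22 LD3_c37) (LK LD1_c10 LD2_c3 LD3_c60) Lrfl Lrfl
theorem f186172 : Led Lsl_gt (LP (LK LD1_c18 LD2_c42 LD3_c13)) = (LP (LK LD1_c10 LD2_c17 LD3_c18)) :=
  Lre_g IH (LK LD1_c18 LD2_c42 LD3_c13) (LK LD1_c10 LD2_c17 LD3_c18) Lrfl Lrfl
theorem f753360 : Led Lsl_gt (LP (LK LD1_c18 LD2_c22 LD3_c37)) = (LP (LK LD1_c18 LD2_c42 LD3_c13)) :=
  Lgr Lrot5 (Lpr_ft (f198591 IH) (Lpr_at (f753352 IH) (Lpe (f186172 IH) (Lpn (LP (LK LD1_c18 LD2_c42 LD3_c13))))))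
def v16883 : LQ := Led Lsl_et (LP (LK LD1_c6 LD2_c8 LD3_c18))
theorem f752306 : Led Lsl_et (LP (LK LD1_c6 LD2_c8 LD3_c18)) = v16883 :=
  Lrfl
theorem f186173 : Led Lsl_dt (LP (LK LD1_c11 LD2_c51 LD3_c4)) = (LP (LK LD1_c6 LD2_c3 LD3_c45)) :=
  Lre_d IH (LK LD1_c11 LD2_c51 LD3_c4) (LK LD1_c6 LD2_c3 LD3_c45) Lrfl Lrfl
theorem f166263 : Led Lsl_dt (LP (LK LD1_c2 LD2_c30 LD3_c50)) = (LP (LK LD1_c5 LD2_c7 LD3_c0)) :=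
  Lre_d IH (LK LD1_c2 LD2_c30 LD3_c50) (LK LD1_c5 LD2_c7 LD3_c0) Lrfl Lrfl
theorem f166269 : Led Lsl_gt (LP (LK LD1_c10 LD2_c4 LD3_c41)) = (LP (LK LD1_c5 LD2_c7 LD3_c0)) :=
  Lre_g IH (LK LD1_c10 LD2_c4 LD3_c41) (LK LD1_c5 LD2_c7 LD3_c0) Lrfl Lrfl
theorem f185157 : Led Lsl_et (LP (LK LD1_c10 LD2_c17 LD3_c18)) = (LP (LK LD1_c5 LD2_c13 LD3_c30)) :=
  Lre_e IH (LK LD1_c10 LD2_c17 LD3_c18) (LK LD1_c5 LD2_c13 LD3_c30) Lrfl Lrfl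
theorem f186170 : Led Lsl_df (LP (LK LD1_c10 LD2_c4 LD3_c41)) = (LP (LK LD1_c10 LD2_c17 LD3_c18)) :=
  Lgr Lrot170 (Lpr_gt (f166269 IH) (Lpe (f166263 IH) (Lpr_et (K40.f166256 IH) (Lpr_gt (K14.f186166 IH) (Lpe (K15.f186168 IH) (Lpr_gt (K10.f185149 IH) (Lpe (K10.f20498 IH) (Lpr_et (K18.f20516 IH) (Lpr_gt (K53.f20509 IH) (Lpe (f185157 IH) (Lpn (LP (LK LD1_c10 LD2_c17 LD3_c18)))))))))))))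
theorem f186174 : Led Lsl_ef (LP (LK LD1_c18 LD2_c42 LD3_c13)) = (LP (LK LD1_c11 LD2_c51 LD3_c4)) :=
  Lgr Lrot167 (Lpr_gt (f186172 IH) (Lpe (f186170 IH) (Lpr_gt (f166269 IH) (Lpe (f166263 IH) (Lpr_et (K40.f166256 IH) (Lpr_gt (K14.f186166 IH) (Lpe (K39.f166404 IH) (Lpr_dt (K39.f185140 IH) (Lpr_gt (f175805 IH) (Lpe (f186173 IH) (Lpn (LP (LK LD1_c11 LD2_c51 LD3_c4)))))))))))))
theorem f186177 : Led Lsl_et (LP (LK LD1_c18 LD2_c42 LD3_c13)) = (LP (LK LD1_c11 LD2_c51 LD3_c4)) :=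
  Lgr Lrot87 (Lpr_ef (f186174 IH) (Lpn (LP (LK LD1_c11 LD2_c51 LD3_c4))))
theorem f752307 : Led Lsl_df (LP (LK LD1_c18 LD2_c42 LD3_c13)) = v16883 :=
  Lgr Lrot70 (Lpr_et (f186177 IH) (Lpr_dt (f186173 IH) (Lpe (f699499 IH) (Lpr_dt (f699491 IH) (Lpr_et (f752306 IH) (Lpn v16883))))))
theorem f752308 : Led Lsl_ef (LP (LK LD1_c6 LD2_c8 LD3_c18)) = v16883 :=
  Lgr Lrot88 (Lpr_et (f752306 IH) (Lpn v16883))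
theorem f21260 : Led Lsl_dt (LP (LK LD1_c2 LD2_c30 LD3_c51)) = (LP (LK LD1_c1 LD2_c12 LD3_c26)) :=
  Lre_d IH (LK LD1_c2 LD2_c30 LD3_c51) (LK LD1_c1 LD2_c12 LD3_c26) Lrfl Lrfl
theorem f177441 : Led Lsl_et (LP (LK LD1_c2 LD2_c30 LD3_c51)) = (LP (LK LD1_c5 LD2_c7 LD3_c0)) :=
  Lre_e IH (LK LD1_c2 LD2_c30 LD3_c51) (LK LD1_c5 LD2_c7 LD3_c0) Lrfl Lrfl
theorem f177442 : Led Lsl_gt (LP (LK LD1_c5 LD2_c7 LD3_c0)) = (LP (LK LD1_c10 LD2_c4 LD3_c40)) :=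
  Lre_g IH (LK LD1_c5 LD2_c7 LD3_c0) (LK LD1_c10 LD2_c4 LD3_c40) Lrfl Lrfl
theorem f753362 : Led Lsl_df (LP (LK LD1_c18 LD2_c22 LD3_c37)) = (LP (LK LD1_c10 LD2_c4 LD3_c40)) :=
  Lgr Lrot135 (Lpr_gt (f753360 IH) (Lpr_df (f752307 IH) (Lpe (f752308 IH) (Lpr_gt (f176040 IH) (Lpe (K36.f175924 IH) (Lpr_dt (K10.f175922 IH) (Lpr_gt (K10.f177438 IH) (Lpe (f21260 IH) (Lpr_et (f177441 IH) (Lpr_gt (f177442 IH) (Lpn (LP (LK LD1_c10 LD2_c4 LD3_c40)))))))))))))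
theorem f753364 : Led Lsl_dt (LP (LK LD1_c18 LD2_c22 LD3_c37)) = (LP (LK LD1_c10 LD2_c4 LD3_c40)) :=
  Lgr Lrot42 (Lpr_df (f753362 IH) (Lpn (LP (LK LD1_c10 LD2_c4 LD3_c40))))
theorem f421542 : Led Lsl_gt (LP (LK LD1_c11 LD2_c36 LD3_c0)) = (LP (LK LD1_c5 LD2_c55 LD3_c21)) :=
  Lre_g IH (LK LD1_c11 LD2_c36 LD3_c0) (LK LD1_c5 LD2_c55 LD3_c21) Lrfl Lrfl
theorem f753390 : Led Lsl_et (LP (LK LD1_c18 LD2_c22 LD3_c37)) = (LP (LK LD1_c11 LD2_c36 LD3_c0)) :=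
  Lgr Lrot121 (Lpr_dt (f753364 IH) (Lpe (f177442 IH) (Lpe (f166263 IH) (Lpr_et (K40.f166256 IH) (Lpr_gf (K10.f194029 IH) (Lpe (K35.f166402 IH) (Lpe (K35.f194027 IH) (Lpe (K35.f421540 IH) (Lpe (K35.f166170 IH) (Lpe (f421542 IH) (Lpn (LP (LK LD1_c11 LD2_c36 LD3_c0)))))))))))))
theorem f198592 : Led Lsl_ft (LP (LK LD1_c10 LD2_c3 LD3_c60)) = (LP (LK LD1_c18 LD2_c22 LD3_c37)) :=
  Lre_f IH (LK LD1_c10 LD2_c3 LD3_c60) (LK LD1_c18 LD2_c22 LD3_c37) Lrfl Lrfl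
theorem f198589 : Led Lsl_et (LP (LK LD1_c5 LD2_c6 LD3_c36)) = (LP (LK LD1_c10 LD2_c3 LD3_c60)) :=
  Lre_e IH (LK LD1_c5 LD2_c6 LD3_c36) (LK LD1_c10 LD2_c3 LD3_c60) Lrfl Lrfl
theorem f20520 : Led Lsl_et (LP (LK LD1_c10 LD2_c17 LD3_c21)) = (LP (LK LD1_c5 LD2_c13 LD3_c31)) :=
  Lre_e IH (LK LD1_c10 LD2_c17 LD3_c21) (LK LD1_c5 LD2_c13 LD3_c31) Lrfl Lrfl
theorem f753394 : Led Lsl_ff (LP (LK LD1_c10 LD2_c17 LD3_c21)) = (LP (LK LD1_c11 LD2_c36 LD3_c0)) :=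
  Lgr Lrot72 (Lpr_et (f20520 IH) (Lpqs (f753312 IH) (Lpe (f721966 IH) (Lpr_et (f198589 IH) (Lpr_ft (f198592 IH) (Lpr_et (f753390 IH) (Lpn (LP (LK LD1_c11 LD2_c36 LD3_c0)))))))))
theorem f753398 : Led Lsl_ft (LP (LK LD1_c10 LD2_c17 LD3_c21)) = (LP (LK LD1_c11 LD2_c36 LD3_c0)) :=
  Lgr Lrot48 (Lpr_ff (f753394 IH) (Lpn (LP (LK LD1_c11 LD2_c36 LD3_c0))))
theorem f536567 : Led Lsl_dt (LP (LK LD1_c18 LD2_c42 LD3_c15)) = (LP (LK LD1_c10 LD2_c17 LD3_c21)) :=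
  Lre_d IH (LK LD1_c18 LD2_c42 LD3_c15) (LK LD1_c10 LD2_c17 LD3_c21) Lrfl Lrfl
theorem f634182 : Led Lsl_ef (LP (LK LD1_c6 LD2_c12 LD3_c3)) = (LP (LK LD1_c11 LD2_c36 LD3_c1)) :=
  Lgr Lrot88 (Lpr_et (K35.f634176 IH) (Lpn (LP (LK LD1_c11 LD2_c36 LD3_c1))))
theorem f68894 : Led Lsl_at (LP (LK LD1_c4 LD2_c39 LD3_c55)) = (LP (LK LD1_c3 LD2_c0 LD3_c28)) :=
  Lre_a IH (LK LD1_c4 LD2_c39 LD3_c55) (LK LD1_c3 LD2_c0 LD3_c28) Lrfl Lrfl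
theorem f68895 : Led Lsl_at (LP (LK LD1_c5 LD2_c42 LD3_c22)) = (LP (LK LD1_c5 LD2_c46 LD3_c60)) :=
  Lgr Lrot51 (Lpr_df (K53.f68825 IH) (Lpe (f68894 IH) (Lpr_df (K40.f59939 IH) (Lpn (LP (LK LD1_c5 LD2_c46 LD3_c60))))))
theorem f59952 : Led Lsl_gt (LP (LK LD1_c11 LD2_c24 LD3_c10)) = (LP (LK LD1_c5 LD2_c46 LD3_c60)) :=
  Lre_g IH (LK LD1_c11 LD2_c24 LD3_c10) (LK LD1_c5 LD2_c46 LD3_c60) Lrfl Lrfl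
theorem f68899 : Led Lsl_gt (LP (LK LD1_c9 LD2_c17 LD3_c30)) = (LP (LK LD1_c11 LD2_c24 LD3_c10)) :=
  Lgr Lrot5 (Lpe (K53.f68805 IH) (Lpr_at (f68895 IH) (Lpe (f59952 IH) (Lpn (LP (LK LD1_c11 LD2_c24 LD3_c10))))))
theorem f60140 : Led Lsl_et (LP (LK LD1_c20 LD2_c21 LD3_c60)) = (LP (LK LD1_c11 LD2_c24 LD3_c10)) :=
  Lre_e IH (LK LD1_c20 LD2_c21 LD3_c60) (LK LD1_c11 LD2_c24 LD3_c10) Lrfl Lrfl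
theorem f421545 : Led Lsl_dt (LP (LK LD1_c11 LD2_c36 LD3_c1)) = (LP (LK LD1_c5 LD2_c55 LD3_c21)) :=
  Lre_d IH (LK LD1_c11 LD2_c36 LD3_c1) (LK LD1_c5 LD2_c55 LD3_c21) Lrfl Lrfl
theorem f634188 : Led Lsl_dt (LP (LK LD1_c20 LD2_c21 LD3_c60)) = (LP (LK LD1_c11 LD2_c36 LD3_c0)) :=
  Lgr Lrot136 (Lpr_et (f60140 IH) (Lpe (f68899 IH) (Lpe (K53.f59969 IH) (Lpr_dt (K16.f59970 IH) (Lpe (K1.f27146 IH) (Lpe (K17.f59846 IH) (Lpe (K24.f59829 IH) (Lpr_ef (f634182 IH) (Lpr_dt (f421545 IH) (Lpe (f421542 IH) (Lpn (LP (LK LD1_c11 LD2_c36 LD3_c0)))))))))))))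
theorem f634190 : Led Lsl_df (LP (LK LD1_c20 LD2_c21 LD3_c60)) = (LP (LK LD1_c11 LD2_c36 LD3_c0)) :=
  Lgr Lrot38 (Lpr_dt (f634188 IH) (Lpn (LP (LK LD1_c11 LD2_c36 LD3_c0))))
theorem f753404 : Led Lsl_ff (LP (LK LD1_c18 LD2_c42 LD3_c15)) = (LP (LK LD1_c20 LD2_c21 LD3_c60)) :=
  Lgr Lrot19 (Lpr_dt (f536567 IH) (Lpr_ft (f753398 IH) (Lpe (f634190 IH) (Lpn (LP (LK LD1_c20 LD2_c21 LD3_c60))))))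
theorem f634192 : Led Lsl_et (LP (LK LD1_c11 LD2_c24 LD3_c10)) = (LP (LK LD1_c20 LD2_c21 LD3_c60)) :=
  Lre_e IH (LK LD1_c11 LD2_c24 LD3_c10) (LK LD1_c20 LD2_c21 LD3_c60) Lrfl Lrfl
theorem f753467 : Led Lsl_ff (LP (LK LD1_c11 LD2_c24 LD3_c10)) = (LP (LK LD1_c11 LD2_c14 LD3_c56)) :=
  Lgr Lrot72 (Lpr_et (f634192 IH) (Lpe (f753404 IH) (Lpr_et (f536572 IH) (Lpr_ft (f719512 IH) (Lpr_et (f753461 IH) (Lpn (LP (LK LD1_c11 LD2_c14 LD3_c56))))))))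
theorem f68822 : Led Lsl_af (LP (LK LD1_c5 LD2_c42 LD3_c22)) = (LP (LK LD1_c5 LD2_c46 LD3_c60)) :=
  Lgr Lrot45 (Lpr_ft (K36.f68820 IH) (Lpr_at (K36.f59974 IH) (Lpr_ft (K1.f59964 IH) (Lpn (LP (LK LD1_c5 LD2_c46 LD3_c60))))))
theorem f68840 : Led Lsl_gt (LP (LK LD1_c11 LD2_c14 LD3_c57)) = (LP (LK LD1_c5 LD2_c42 LD3_c22)) :=
  Lre_g IH (LK LD1_c11 LD2_c14 LD3_c57) (LK LD1_c5 LD2_c42 LD3_c22) Lrfl Lrfl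
theorem f68904 : Led Lsl_gf (LP (LK LD1_c11 LD2_c14 LD3_c57)) = (LP (LK LD1_c6 LD2_c12 LD3_c17)) :=
  Lgr Lrot47 (Lpr_gt (f68840 IH) (Lpr_af (f68822 IH) (Lpe (K1.f59964 IH) (Lpn (LP (LK LD1_c6 LD2_c12 LD3_c17))))))
theorem f753471 : Led Lsl_at (LP (LK LD1_c11 LD2_c24 LD3_c10)) = (LP (LK LD1_c11 LD2_c14 LD3_c57)) :=
  Lgr Lrot26 (Lpr_ff (f753467 IH) (Lpr_gt (f68828 IH) (Lpe (f68904 IH) (Lpn (LP (LK LD1_c11 LD2_c14 LD3_c57))))))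
theorem f753473 : Led Lsl_af (LP (LK LD1_c11 LD2_c24 LD3_c10)) = (LP (LK LD1_c11 LD2_c14 LD3_c57)) :=
  Lgr Lrot0 (Lpr_at (f753471 IH) (Lpn (LP (LK LD1_c11 LD2_c14 LD3_c57))))
theorem f753469 : Led Lsl_ft (LP (LK LD1_c11 LD2_c24 LD3_c10)) = (LP (LK LD1_c11 LD2_c14 LD3_c56)) :=
  Lgr Lrot48 (Lpr_ff (f753467 IH) (Lpn (LP (LK LD1_c11 LD2_c14 LD3_c56))))
theorem f700689 : Led Lsl_at (LP (LK LD1_c9 LD2_c12 LD3_c29)) = (LP (LK LD1_c17 LD2_c6 LD3_c40)) :=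
  Lre_a IH (LK LD1_c9 LD2_c12 LD3_c29) (LK LD1_c17 LD2_c6 LD3_c40) Lrfl Lrfl
theorem f59944 : Led Lsl_gt (LP (LK LD1_c5 LD2_c46 LD3_c60)) = (LP (LK LD1_c11 LD2_c24 LD3_c9)) :=
  Lre_g IH (LK LD1_c5 LD2_c46 LD3_c60) (LK LD1_c11 LD2_c24 LD3_c9) Lrfl Lrfl
theorem f700698 : Led Lsl_dt (LP (LK LD1_c9 LD2_c12 LD3_c29)) = (LP (LK LD1_c4 LD2_c38 LD3_c19)) :=
  Lre_d IH (LK LD1_c9 LD2_c12 LD3_c29) (LK LD1_c4 LD2_c38 LD3_c19) Lrfl Lrfl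
theorem f719841 : Led Lsl_ef (LP (LK LD1_c11 LD2_c24 LD3_c9)) = (LP (LK LD1_c9 LD2_c12 LD3_c29)) :=
  Lgr Lrot17 (Lpe (f59944 IH) (Lpe (K16.f59960 IH) (Lpr_dt (K1.f59931 IH) (Lpr_gf (K10.f175930 IH) (Lpe (K16.f22900 IH) (Lpe (K32.f268489 IH) (Lpe (K32.f60182 IH) (Lpr_dt (K51.f68635 IH) (Lpr_gf (K53.f648266 IH) (Lpqs (K53.f719496 IH) (Lpe (f700698 IH) (Lpn (LP (LK LD1_c9 LD2_c12 LD3_c29))))))))))))))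
theorem f719849 : Led Lsl_et (LP (LK LD1_c11 LD2_c24 LD3_c9)) = (LP (LK LD1_c9 LD2_c12 LD3_c29)) :=
  Lgr Lrot87 (Lpr_ef (f719841 IH) (Lpn (LP (LK LD1_c9 LD2_c12 LD3_c29))))
theorem f753463 : Led Lsl_af (LP (LK LD1_c11 LD2_c24 LD3_c9)) = (LP (LK LD1_c11 LD2_c14 LD3_c56)) :=
  Lgr Lrot50 (Lpr_et (f719849 IH) (Lpr_at (f700689 IH) (Lpr_et (f753461 IH) (Lpn (LP (LK LD1_c11 LD2_c14 LD3_c56))))))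
theorem f753479 : Led Lsl_ft (LP (LK LD1_c11 LD2_c24 LD3_c9)) = (LP (LK LD1_c11 LD2_c14 LD3_c57)) :=
  Lgr Lrot101 (Lpr_af (f753463 IH) (Lpe (f753469 IH) (Lpr_af (f753473 IH) (Lpn (LP (LK LD1_c11 LD2_c14 LD3_c57))))))
theorem f642690 : Led Lsl_bt (LP (LK LD1_c9 LD2_c12 LD3_c29)) = (LP (LK LD1_c4 LD2_c38 LD3_c21)) :=
  Lre_b IH (LK LD1_c9 LD2_c12 LD3_c29) (LK LD1_c4 LD2_c38 LD3_c21) Lrfl Lrfl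
theorem f552467 : Led Lsl_et (LP (LK LD1_c4 LD2_c38 LD3_c21)) = (LP (LK LD1_c9 LD2_c12 LD3_c35)) :=
  Lre_e IH (LK LD1_c4 LD2_c38 LD3_c21) (LK LD1_c9 LD2_c12 LD3_c35) Lrfl Lrfl
theorem f719851 : Led Lsl_bf (LP (LK LD1_c11 LD2_c24 LD3_c9)) = (LP (LK LD1_c9 LD2_c12 LD3_c35)) :=
  Lgr Lrot96 (Lpr_et (f719849 IH) (Lpr_bt (f642690 IH) (Lpr_et (f552467 IH) (Lpn (LP (LK LD1_c9 LD2_c12 LD3_c35))))))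
theorem f713602 : Led Lsl_et (LP (LK LD1_c9 LD2_c12 LD3_c34)) = (LP (LK LD1_c17 LD2_c6 LD3_c50)) :=
  Lre_e IH (LK LD1_c9 LD2_c12 LD3_c34) (LK LD1_c17 LD2_c6 LD3_c50) Lrfl Lrfl
theorem f381260 : Led Lsl_ft (LP (LK LD1_c11 LD2_c14 LD3_c30)) = (LP (LK LD1_c20 LD2_c9 LD3_c31)) :=
  Lre_f IH (LK LD1_c11 LD2_c14 LD3_c30) (LK LD1_c20 LD2_c9 LD3_c31) Lrfl Lrfl
theorem f302436 : Led Lsl_at (LP (LK LD1_c20 LD2_c9 LD3_c31)) = (LP (LK LD1_c11 LD2_c14 LD3_c35)) :=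
  Lre_a IH (LK LD1_c20 LD2_c9 LD3_c31) (LK LD1_c11 LD2_c14 LD3_c35) Lrfl Lrfl
theorem f383341 : Led Lsl_gf (LP (LK LD1_c11 LD2_c14 LD3_c35)) = (LP (LK LD1_c6 LD2_c1 LD3_c24)) :=
  Lgr Lrot76 (Lpe (f302436 IH) (Lpe (f381260 IH) (Lpr_gt (f383333 IH) (Lpn (LP (LK LD1_c6 LD2_c1 LD3_c24))))))
theorem f383348 : Led Lsl_et (LP (LK LD1_c5 LD2_c44 LD3_c9)) = (LP (LK LD1_c11 LD2_c16 LD3_c37)) :=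
  Lre_e IH (LK LD1_c5 LD2_c44 LD3_c9) (LK LD1_c11 LD2_c16 LD3_c37) Lrfl Lrfl
theorem f383349 : Led Lsl_gt (LP (LK LD1_c5 LD2_c44 LD3_c61)) = (LP (LK LD1_c11 LD2_c16 LD3_c37)) :=
  Lre_g IH (LK LD1_c5 LD2_c44 LD3_c61) (LK LD1_c11 LD2_c16 LD3_c37) Lrfl Lrfl
theorem f382445 : Led Lsl_et (LP (LK LD1_c11 LD2_c20 LD3_c23)) = (LP (LK LD1_c5 LD2_c44 LD3_c61)) :=
  Lre_e IH (LK LD1_c11 LD2_c20 LD3_c23) (LK LD1_c5 LD2_c44 LD3_c61) Lrfl Lrfl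
theorem f387305 : Led Lsl_gt (LP (LK LD1_c11 LD2_c41 LD3_c31)) = (LP (LK LD1_c5 LD2_c58 LD3_c31)) :=
  Lre_g IH (LK LD1_c11 LD2_c41 LD3_c31) (LK LD1_c5 LD2_c58 LD3_c31) Lrfl Lrfl
theorem f381692 : Led Lsl_et (LP (LK LD1_c1 LD2_c20 LD3_c21)) = (LP (LK LD1_c2 LD2_c48 LD3_c18)) :=
  Lre_e IH (LK LD1_c1 LD2_c20 LD3_c21) (LK LD1_c2 LD2_c48 LD3_c18) Lrfl Lrfl
theorem f382444 : Led Lsl_gt (LP (LK LD1_c2 LD2_c48 LD3_c18)) = (LP (LK LD1_c5 LD2_c44 LD3_c61)) :=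
  Lre_g IH (LK LD1_c2 LD2_c48 LD3_c18) (LK LD1_c5 LD2_c44 LD3_c61) Lrfl Lrfl
theorem f387310 : Led Lsl_df (LP (LK LD1_c11 LD2_c41 LD3_c31)) = (LP (LK LD1_c11 LD2_c20 LD3_c23)) :=
  Lgr Lrot170 (Lpr_gt (f387305 IH) (Lpr_df (K42.f387301 IH) (Lpr_et (K27.f302425 IH) (Lpe (K39.f386617 IH) (Lpr_dt (K27.f381648 IH) (Lpr_gt (K31.f381672 IH) (Lpe (K30.f171854 IH) (Lpr_et (f381692 IH) (Lpr_gt (f382444 IH) (Lpe (f382445 IH) (Lpn (LP (LK LD1_c11 LD2_c20 LD3_c23)))))))))))))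
theorem f387340 : Led Lsl_gt (LP (LK LD1_c10 LD2_c15 LD3_c27)) = (LP (LK LD1_c11 LD2_c41 LD3_c31)) :=
  Lgr Lrot139 (Lpr_df (K54.f387326 IH) (Lpr_gf (f383341 IH) (Lpe (f383332 IH) (Lpr_dt (K41.f383331 IH) (Lpe (K41.f383346 IH) (Lpe (K52.f383347 IH) (Lpr_et (f383348 IH) (Lpe (f383349 IH) (Lpe (f382445 IH) (Lpe (f387310 IH) (Lpn (LP (LK LD1_c11 LD2_c41 LD3_c31)))))))))))))
theorem f387342 : Led Lsl_at (LP (LK LD1_c5 LD2_c12 LD3_c30)) = (LP (LK LD1_c5 LD2_c58 LD3_c31)) :=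
  Lgr Lrot26 (Lpe (K54.f302660 IH) (Lpr_gt (f387340 IH) (Lpr_gt (f387305 IH) (Lpn (LP (LK LD1_c5 LD2_c58 LD3_c31))))))
theorem f387322 : Led Lsl_bt (LP (LK LD1_c2 LD2_c33 LD3_c8)) = (LP (LK LD1_c5 LD2_c12 LD3_c30)) :=
  Lre_b IH (LK LD1_c2 LD2_c33 LD3_c8) (LK LD1_c5 LD2_c12 LD3_c30) Lrfl Lrfl
theorem f164755 : Led Lsl_bt (LP (LK LD1_c5 LD2_c5 LD3_c61)) = (LP (LK LD1_c2 LD2_c30 LD3_c19)) :=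
  Lre_b IH (LK LD1_c5 LD2_c5 LD3_c61) (LK LD1_c2 LD2_c30 LD3_c19) Lrfl Lrfl
theorem f560019 : Led Lsl_at (LP (LK LD1_c9 LD2_c10 LD3_c16)) = (LP (LK LD1_c5 LD2_c5 LD3_c61)) :=
  Lgr Lrot67 (Lpr_bf (K42.f560015 IH) (Lpe (f387342 IH) (Lpe (f387322 IH) (Lpr_af (K50.f289301 IH) (Lpe (f164755 IH) (Lpn (LP (LK LD1_c5 LD2_c5 LD3_c61))))))))
theorem f164807 : Led Lsl_gt (LP (LK LD1_c10 LD2_c2 LD3_c59)) = (LP (LK LD1_c5 LD2_c5 LD3_c61)) :=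
  Lre_g IH (LK LD1_c10 LD2_c2 LD3_c59) (LK LD1_c5 LD2_c5 LD3_c61) Lrfl Lrfl
theorem f618180 : Led Lsl_gt (LP (LK LD1_c17 LD2_c3 LD3_c26)) = (LP (LK LD1_c10 LD2_c2 LD3_c59)) :=
  Lgr Lrot5 (Lpr_ft (K42.f546450 IH) (Lpr_at (f560019 IH) (Lpe (f164807 IH) (Lpn (LP (LK LD1_c10 LD2_c2 LD3_c59))))))
theorem f408232 : Led Lsl_gt (LP (LK LD1_c11 LD2_c6 LD3_c22)) = (LP (LK LD1_c19 LD2_c59 LD3_c48)) :=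
  Lre_g IH (LK LD1_c11 LD2_c6 LD3_c22) (LK LD1_c19 LD2_c59 LD3_c48) Lrfl Lrfl
theorem f164808 : Led Lsl_dt (LP (LK LD1_c18 LD2_c21 LD3_c26)) = (LP (LK LD1_c10 LD2_c2 LD3_c59)) :=
  Lre_d IH (LK LD1_c18 LD2_c21 LD3_c26) (LK LD1_c10 LD2_c2 LD3_c59) Lrfl Lrfl
theorem f164801 : Led Lsl_et (LP (LK LD1_c5 LD2_c37 LD3_c15)) = (LP (LK LD1_c2 LD2_c44 LD3_c33)) :=
  Lre_e IH (LK LD1_c5 LD2_c37 LD3_c15) (LK LD1_c2 LD2_c44 LD3_c33) Lrfl Lrfl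
theorem f164756 : Led Lsl_dt (LP (LK LD1_c5 LD2_c37 LD3_c15)) = (LP (LK LD1_c5 LD2_c5 LD3_c61)) :=
  Lgr Lrot79 (Lpe (K42.f164754 IH) (Lpr_df (K17.f164749 IH) (Lpe (f164755 IH) (Lpn (LP (LK LD1_c5 LD2_c5 LD3_c61))))))
theorem f545995 : Led Lsl_gt (LP (LK LD1_c9 LD2_c2 LD3_c59)) = (LP (LK LD1_c16 LD2_c53 LD3_c38)) :=
  Lre_g IH (LK LD1_c9 LD2_c2 LD3_c59) (LK LD1_c16 LD2_c53 LD3_c38) Lrfl Lrfl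
theorem f561167 : Led Lsl_et (LP (LK LD1_c18 LD2_c21 LD3_c26)) = (LP (LK LD1_c16 LD2_c53 LD3_c38)) :=
  Lgr Lrot122 (Lpr_dt (f164808 IH) (Lpr_gt (f164807 IH) (Lpe (f164756 IH) (Lpr_et (f164801 IH) (Lpr_gt (K40.f561157 IH) (Lpr_dt (K40.f494133 IH) (Lpr_gt (K30.f494130 IH) (Lpe (K39.f382035 IH) (Lpr_et (K37.f545964 IH) (Lpr_gt (f545995 IH) (Lpn (LP (LK LD1_c16 LD2_c53 LD3_c38)))))))))))))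
theorem f617158 : Led Lsl_gt (LP (LK LD1_c16 LD2_c53 LD3_c38)) = (LP (LK LD1_c9 LD2_c4 LD3_c19)) :=
  Lre_g IH (LK LD1_c16 LD2_c53 LD3_c38) (LK LD1_c9 LD2_c4 LD3_c19) Lrfl Lrfl
theorem f509362 : Led Lsl_et (LP (LK LD1_c4 LD2_c33 LD3_c23)) = (LP (LK LD1_c9 LD2_c4 LD3_c19)) :=
  Lre_e IH (LK LD1_c4 LD2_c33 LD3_c23) (LK LD1_c9 LD2_c4 LD3_c19) Lrfl Lrfl
theorem f415969 : Led Lsl_dt (LP (LK LD1_c9 LD2_c11 LD3_c7)) = (LP (LK LD1_c4 LD2_c37 LD3_c44)) :=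
  Lre_d IH (LK LD1_c9 LD2_c11 LD3_c7) (LK LD1_c4 LD2_c37 LD3_c44) Lrfl Lrfl
theorem f618182 : Led Lsl_ef (LP (LK LD1_c11 LD2_c6 LD3_c22)) = (LP (LK LD1_c9 LD2_c11 LD3_c7)) :=
  Lgr Lrot167 (Lpr_gt (f408232 IH) (Lpe (K42.f560007 IH) (Lpr_gt (f618180 IH) (Lpe (f164808 IH) (Lpr_et (f561167 IH) (Lpr_gt (f617158 IH) (Lpe (f509362 IH) (Lpr_dt (K51.f415835 IH) (Lpr_gt (K24.f415559 IH) (Lpe (f415969 IH) (Lpn (LP (LK LD1_c9 LD2_c11 LD3_c7)))))))))))))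
theorem f618185 : Led Lsl_ct (LP (LK LD1_c17 LD2_c4 LD3_c38)) = (LP (LK LD1_c9 LD2_c11 LD3_c7)) :=
  Lre_c IH (LK LD1_c17 LD2_c4 LD3_c38) (LK LD1_c9 LD2_c11 LD3_c7) Lrfl Lrfl
theorem f618186 : Led Lsl_et (LP (LK LD1_c19 LD2_c59 LD3_c52)) = (LP (LK LD1_c17 LD2_c4 LD3_c38)) :=
  Lgr Lrot158 (Lpe (K54.f164813 IH) (Lpr_ef (f618182 IH) (Lpe (f618185 IH) (Lpn (LP (LK LD1_c17 LD2_c4 LD3_c38))))))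
theorem f719788 : Led Lsl_at (LP (LK LD1_c17 LD2_c6 LD3_c50)) = (LP (LK LD1_c19 LD2_c59 LD3_c52)) :=
  Lgr Lrot80 (Lpe (f713602 IH) (Lpr_af (K55.f719732 IH) (Lpe (f618186 IH) (Lpn (LP (LK LD1_c19 LD2_c59 LD3_c52))))))
theorem f618156 : Led Lsl_ct (LP (LK LD1_c9 LD2_c12 LD3_c35)) = (LP (LK LD1_c17 LD2_c6 LD3_c50)) :=
  Lre_c IH (LK LD1_c9 LD2_c12 LD3_c35) (LK LD1_c17 LD2_c6 LD3_c50) Lrfl Lrfl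
theorem f180445 : Led Lsl_ct (LP (LK LD1_c19 LD2_c59 LD3_c52)) = (LP (LK LD1_c11 LD2_c6 LD3_c22)) :=
  Lre_c IH (LK LD1_c19 LD2_c59 LD3_c52) (LK LD1_c11 LD2_c6 LD3_c22) Lrfl Lrfl
theorem f719793 : Led Lsl_af (LP (LK LD1_c9 LD2_c12 LD3_c35)) = (LP (LK LD1_c11 LD2_c6 LD3_c22)) :=
  Lgr Lrot68 (Lpr_ct (f618156 IH) (Lpr_at (f719788 IH) (Lpr_ct (f180445 IH) (Lpn (LP (LK LD1_c11 LD2_c6 LD3_c22))))))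
theorem f719799 : Led Lsl_at (LP (LK LD1_c9 LD2_c12 LD3_c35)) = (LP (LK LD1_c11 LD2_c6 LD3_c22)) :=
  Lgr Lrot100 (Lpr_af (f719793 IH) (Lpn (LP (LK LD1_c11 LD2_c6 LD3_c22))))
theorem f164821 : Led Lsl_gt (LP (LK LD1_c11 LD2_c6 LD3_c23)) = (LP (LK LD1_c5 LD2_c37 LD3_c15)) :=
  Lre_g IH (LK LD1_c11 LD2_c6 LD3_c23) (LK LD1_c5 LD2_c37 LD3_c15) Lrfl Lrfl
theorem f719801 : Led Lsl_ff (LP (LK LD1_c9 LD2_c12 LD3_c35)) = (LP (LK LD1_c11 LD2_c6 LD3_c23)) :=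
  Lgr Lrot52 (Lpr_at (f719799 IH) (Lpe (K54.f164809 IH) (Lpe (f164821 IH) (Lpn (LP (LK LD1_c11 LD2_c6 LD3_c23))))))
theorem f753481 : Led Lsl_bf (LP (LK LD1_c11 LD2_c6 LD3_c23)) = (LP (LK LD1_c11 LD2_c14 LD3_c57)) :=
  Lgr Lrot61 (Lpe (f719801 IH) (Lpe (f719851 IH) (Lpr_ft (f753479 IH) (Lpn (LP (LK LD1_c11 LD2_c14 LD3_c57))))))
theorem f171823 : Led Lsl_bt (LP (LK LD1_c5 LD2_c37 LD3_c33)) = (LP (LK LD1_c11 LD2_c6 LD3_c42)) :=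
  Lre_b IH (LK LD1_c5 LD2_c37 LD3_c33) (LK LD1_c11 LD2_c6 LD3_c42) Lrfl Lrfl
theorem f536083 : Led Lsl_et (LP (LK LD1_c5 LD2_c40 LD3_c3)) = (LP (LK LD1_c2 LD2_c45 LD3_c59)) :=
  Lre_e IH (LK LD1_c5 LD2_c40 LD3_c3) (LK LD1_c2 LD2_c45 LD3_c59) Lrfl Lrfl
theorem f452494 : Led Lsl_dt (LP (LK LD1_c2 LD2_c45 LD3_c57)) = (LP (LK LD1_c1 LD2_c19 LD3_c20)) :=
  Lre_d IH (LK LD1_c2 LD2_c45 LD3_c57) (LK LD1_c1 LD2_c19 LD3_c20) Lrfl Lrfl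
theorem f494078 : Led Lsl_et (LP (LK LD1_c2 LD2_c45 LD3_c57)) = (LP (LK LD1_c5 LD2_c39 LD3_c60)) :=
  Lre_e IH (LK LD1_c2 LD2_c45 LD3_c57) (LK LD1_c5 LD2_c39 LD3_c60) Lrfl Lrfl
def v15459 : LQ := Led Lsl_gt (LP (LK LD1_c5 LD2_c39 LD3_c60))
theorem f737492 : Led Lsl_gt (LP (LK LD1_c5 LD2_c39 LD3_c60)) = v15459 :=
  Lrfl
theorem f739612 : v15459 = (LP (LK LD1_c11 LD2_c6 LD3_c42)) :=
  (Llr Lrot131 (Lpe (f737492 IH) (Lpe (f494078 IH) (Lpr_dt (f452494 IH) (Lpqs (K39.f537769 IH) (Lpe (K39.f452600 IH) (Lpe (K36.f24236 IH) (Lpr_gf (K36.f495731 IH) (Lpq (K36.f537436 IH) (Lpe (f536083 IH) (Lpr_dt (K50.f606370 IH) (Lpr_gf (K54.f640651 IH) (Lpqs (K54.f739351 IH) (Lpe (K53.f171841 IH) (Lpe (K53.f171832 IH) (Lpn (LP (LK LD1_c11 LD2_c6 LD3_c42)))))))))))))))))).symm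
theorem f172202 : Led Lsl_ef (LP (LK LD1_c5 LD2_c51 LD3_c50)) = (LP (LK LD1_c11 LD2_c12 LD3_c25)) :=
  Lgr Lrot28 (Lpr_ct (K16.f73679 IH) (Lpr_et (K24.f73923 IH) (Lpr_ct (K17.f172197 IH) (Lpn (LP (LK LD1_c11 LD2_c12 LD3_c25))))))
theorem f553637 : Led Lsl_af (LP (LK LD1_c11 LD2_c12 LD3_c25)) = (LP (LK LD1_c11 LD2_c10 LD3_c54)) :=
  Lgr Lrot50 (Lpe (f172202 IH) (Lpe (K2.f73659 IH) (Lpr_et (K53.f553635 IH) (Lpn (LP (LK LD1_c11 LD2_c10 LD3_c54))))))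
theorem f737493 : Led Lsl_gf (LP (LK LD1_c11 LD2_c12 LD3_c25)) = v15459 :=
  Lgr Lrot76 (Lpr_af (f553637 IH) (Lpe (K53.f553624 IH) (Lpr_gt (f737492 IH) (Lpn v15459))))
theorem f553599 : Led Lsl_at (LP (LK LD1_c11 LD2_c12 LD3_c23)) = (LP (LK LD1_c11 LD2_c10 LD3_c52)) :=
  Lgr Lrot66 (Lpe (K24.f172187 IH) (Lpe (K9.f100740 IH) (Lpr_ff (K40.f553597 IH) (Lpn (LP (LK LD1_c11 LD2_c10 LD3_c52))))))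
theorem f553591 : Led Lsl_gt (LP (LK LD1_c20 LD2_c5 LD3_c37)) = (LP (LK LD1_c11 LD2_c10 LD3_c52)) :=
  Lre_g IH (LK LD1_c20 LD2_c5 LD3_c37) (LK LD1_c11 LD2_c10 LD3_c52) Lrfl Lrfl
theorem f553700 : Led Lsl_gt (LP (LK LD1_c18 LD2_c2 LD3_c16)) = (LP (LK LD1_c20 LD2_c5 LD3_c37)) :=
  Lgr Lrot5 (Lpr_ft (K24.f172187 IH) (Lpr_at (f553599 IH) (Lpe (f553591 IH) (Lpn (LP (LK LD1_c20 LD2_c5 LD3_c37))))))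
theorem f753495 : Led Lsl_cf (LP (LK LD1_c20 LD2_c5 LD3_c37)) = (LP (LK LD1_c11 LD2_c14 LD3_c57)) :=
  Lgr Lrot163 (Lpe (f553700 IH) (Lpr_cf (K17.f172200 IH) (Lpr_gf (f737493 IH) (Lpqs (f739612 IH) (Lpe (f171823 IH) (Lpr_ct (K54.f727484 IH) (Lpe (K53.f727478 IH) (Lpe (K30.f180397 IH) (Lpr_bt (K42.f164754 IH) (Lpe (f164821 IH) (Lpr_bf (f753481 IH) (Lpn (LP (LK LD1_c11 LD2_c14 LD3_c57))))))))))))))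
theorem f753496 : Led Lsl_ct (LP (LK LD1_c11 LD2_c14 LD3_c57)) = (LP (LK LD1_c20 LD2_c5 LD3_c37)) :=
  Leop (Lpr_cf (f753495 IH) (Lpn (LP (LK LD1_c11 LD2_c14 LD3_c57))))
theorem seed_1083 : LEOK LG_c (LK LD1_c11 LD2_c14 LD3_c57) :=
  Leoe_c (LK LD1_c11 LD2_c14 LD3_c57) (f753496 IH)
def v16947 : LQ := Led Lsl_dt (LP (LK LD1_c6 LD2_c8 LD3_c61))
theorem f753693 : Led Lsl_dt (LP (LK LD1_c6 LD2_c8 LD3_c61)) = v16947 :=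
  Lrfl
theorem f639455 : Led Lsl_et (LP (LK LD1_c6 LD2_c8 LD3_c61)) = (LP (LK LD1_c11 LD2_c59 LD3_c13)) :=
  Lre_e IH (LK LD1_c6 LD2_c8 LD3_c61) (LK LD1_c11 LD2_c59 LD3_c13) Lrfl Lrfl
def v16941 : LQ := Led Lsl_gt (LP (LK LD1_c6 LD2_c8 LD3_c57))
theorem f753670 : Led Lsl_gt (LP (LK LD1_c6 LD2_c8 LD3_c57)) = v16941 :=
  Lrfl
theorem f421004 : Led Lsl_ct (LP (LK LD1_c9 LD2_c15 LD3_c43)) = (LP (LK LD1_c4 LD2_c40 LD3_c7)) :=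
  Lre_c IH (LK LD1_c9 LD2_c15 LD3_c43) (LK LD1_c4 LD2_c40 LD3_c7) Lrfl Lrfl
theorem f140091 : Led Lsl_ct (LP (LK LD1_c3 LD2_c0 LD3_c47)) = (LP (LK LD1_c6 LD2_c8 LD3_c57)) :=
  Lre_c IH (LK LD1_c3 LD2_c0 LD3_c47) (LK LD1_c6 LD2_c8 LD3_c57) Lrfl Lrfl
theorem f639503 : Led Lsl_ff (LP (LK LD1_c9 LD2_c15 LD3_c43)) = (LP (LK LD1_c6 LD2_c8 LD3_c57)) :=
  Lgr Lrot23 (Lpr_ct (f421004 IH) (Lpr_ft (K52.f639422 IH) (Lpr_ct (f140091 IH) (Lpn (LP (LK LD1_c6 LD2_c8 LD3_c57))))))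
theorem f411197 : Led Lsl_ct (LP (LK LD1_c3 LD2_c0 LD3_c50)) = (LP (LK LD1_c6 LD2_c8 LD3_c61)) :=
  Lre_c IH (LK LD1_c3 LD2_c0 LD3_c50) (LK LD1_c6 LD2_c8 LD3_c61) Lrfl Lrfl
theorem f639429 : Led Lsl_af (LP (LK LD1_c9 LD2_c15 LD3_c43)) = (LP (LK LD1_c6 LD2_c8 LD3_c61)) :=
  Lgr Lrot68 (Lpr_ct (f421004 IH) (Lpr_at (K52.f639424 IH) (Lpr_ct (f411197 IH) (Lpn (LP (LK LD1_c6 LD2_c8 LD3_c61))))))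
theorem f639452 : Led Lsl_at (LP (LK LD1_c9 LD2_c15 LD3_c43)) = (LP (LK LD1_c6 LD2_c8 LD3_c61)) :=
  Lgr Lrot100 (Lpr_af (f639429 IH) (Lpn (LP (LK LD1_c6 LD2_c8 LD3_c61))))
theorem f753671 : Led Lsl_gf (LP (LK LD1_c6 LD2_c8 LD3_c61)) = v16941 :=
  Lgr Lrot76 (Lpe (f639452 IH) (Lpr_ff (f639503 IH) (Lpr_gt (f753670 IH) (Lpn v16941))))
theorem f445923 : Led Lsl_cf (LP (LK LD1_c3 LD2_c11 LD3_c47)) = (LP (LK LD1_c6 LD2_c12 LD3_c60)) :=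
  Lgr Lrot11 (Lpr_ct (K29.f445918 IH) (Lpn (LP (LK LD1_c6 LD2_c12 LD3_c60))))
theorem f25550 : Led Lsl_at (LP (LK LD1_c3 LD2_c6 LD3_c11)) = (LP (LK LD1_c3 LD2_c3 LD3_c13)) :=
  Lgr Lrot107 (Lpe (K1.f25523 IH) (Lpr_af (K0.f25529 IH) (Lpe (K29.f25549 IH) (Lpn (LP (LK LD1_c3 LD2_c3 LD3_c13))))))
theorem f58540 : Led Lsl_ft (LP (LK LD1_c6 LD2_c17 LD3_c60)) = (LP (LK LD1_c3 LD2_c6 LD3_c11)) :=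
  Lre_f IH (LK LD1_c6 LD2_c17 LD3_c60) (LK LD1_c3 LD2_c6 LD3_c11) Lrfl Lrfl
theorem f446088 : Led Lsl_gt (LP (LK LD1_c6 LD2_c17 LD3_c60)) = (LP (LK LD1_c6 LD2_c12 LD3_c60)) :=
  Lgr Lrot5 (Lpr_ft (f58540 IH) (Lpr_at (f25550 IH) (Lpe (K29.f7506 IH) (Lpn (LP (LK LD1_c6 LD2_c12 LD3_c60))))))
theorem f501034 : Led Lsl_ct (LP (LK LD1_c1 LD2_c24 LD3_c32)) = K32.v1719 :=
  Lgr Lrot110 (Lpe (K0.f23861 IH) (Lpr_cf (K0.f23872 IH) (Lpe (K32.f446082 IH) (Lpr_df (K32.f446078 IH) (Lpe (K32.f446069 IH) (Lpr_ct (K1.f25589 IH) (Lpr_gt (f446088 IH) (Lpe (f445923 IH) (Lpr_df (K35.f501032 IH) (Lpn K32.v1719))))))))))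
theorem f753672 : Led Lsl_cf (LP (LK LD1_c6 LD2_c22 LD3_c6)) = v16941 :=
  Lgr Lrot99 (Lpe (K31.f79846 IH) (Lpe (K31.f79839 IH) (Lpr_gf (K32.f504813 IH) (Lpq (K32.f504832 IH) (Lpe (f501034 IH) (Lpe (K0.f23861 IH) (Lpe (K35.f23874 IH) (Lpe (K35.f452321 IH) (Lpr_ct (f140091 IH) (Lpr_gt (f753670 IH) (Lpn v16941)))))))))))
theorem f753696 : Led Lsl_gf (LP (LK LD1_c8 LD2_c14 LD3_c57)) = v16947 :=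
  Lgr Lrot143 (Lpr_dt (K2.f55447 IH) (Lpe (K2.f55658 IH) (Lpr_df (K2.f73593 IH) (Lpe (K32.f73619 IH) (Lpe (K32.f73625 IH) (Lpe (K35.f438595 IH) (Lpr_cf (f753672 IH) (Lpe (f753671 IH) (Lpr_dt (f753693 IH) (Lpn v16947))))))))))
def v4596 : LQ := Led Lsl_ct (LP (LK LD1_c2 LD2_c34 LD3_c3))
theorem f636316 : Led Lsl_ct (LP (LK LD1_c2 LD2_c34 LD3_c3)) = v4596 :=
  Lrfl
theorem f164419 : Led Lsl_dt (LP (LK LD1_c1 LD2_c13 LD3_c61)) = (LP (LK LD1_c2 LD2_c34 LD3_c3)) :=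
  Lre_d IH (LK LD1_c1 LD2_c13 LD3_c61) (LK LD1_c2 LD2_c34 LD3_c3) Lrfl Lrfl
theorem f495462 : Led Lsl_cf (LP (LK LD1_c1 LD2_c13 LD3_c61)) = K37.v1418 :=
  Lgr Lrot11 (Lpr_ct (K37.f495461 IH) (Lpn K37.v1418))
def v4562 : LQ := Led Lsl_dt (LP (LK LD1_c2 LD2_c29 LD3_c11))
theorem f636144 : Led Lsl_dt (LP (LK LD1_c2 LD2_c29 LD3_c11)) = v4562 :=
  Lrfl
theorem f636145 : Led Lsl_df (LP (LK LD1_c2 LD2_c29 LD3_c11)) = v4562 :=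
  Lgr Lrot38 (Lpr_dt (f636144 IH) (Lpn v4562))
theorem f636148 : Led Lsl_ct (LP (LK LD1_c2 LD2_c34 LD3_c1)) = v4562 :=
  Lgr Lrot7 (Lpe (K18.f56666 IH) (Lpe (K51.f193922 IH) (Lpr_df (K9.f172060 IH) (Lpe (K9.f55811 IH) (Lpe (K1.f55522 IH) (Lpe (K10.f183362 IH) (Lpr_dt (K10.f181177 IH) (Lpe (K15.f193955 IH) (Lpr_dt (f636144 IH) (Lpn v4562))))))))))
theorem f179866 : Led Lsl_ct (LP (LK LD1_c1 LD2_c0 LD3_c28)) = (LP (LK LD1_c0 LD2_c27 LD3_c28)) :=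
  Lre_c IH (LK LD1_c1 LD2_c0 LD3_c28) (LK LD1_c0 LD2_c27 LD3_c28) Lrfl Lrfl
theorem f636318 : Led Lsl_df (LP (LK LD1_c2 LD2_c58 LD3_c53)) = v4596 :=
  Lgr Lrot43 (Lpr_ct (K15.f183881 IH) (Lpr_dt (K14.f226059 IH) (Lpr_ct (f179866 IH) (Lpe (K13.f181214 IH) (Lpr_ct (K18.f193789 IH) (Lpr_dt (K18.f56666 IH) (Lpr_ct (f636148 IH) (Lpe (f636145 IH) (Lpr_ct (K15.f21301 IH) (Lpr_dt (K8.f21291 IH) (Lpr_ct (K14.f28355 IH) (Lpe (K8.f28332 IH) (Lpqs (K37.f537506 IH) (Lpe (f495462 IH) (Lpr_dt (f164419 IH) (Lpr_ct (f636316 IH) (Lpn v4596)))))))))))))))))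
def v14586 : LQ := Led Lsl_ct (LP (LK LD1_c5 LD2_c14 LD3_c26))
theorem f723913 : Led Lsl_ct (LP (LK LD1_c5 LD2_c14 LD3_c26)) = v14586 :=
  Lrfl
theorem f495449 : Led Lsl_et (LP (LK LD1_c2 LD2_c34 LD3_c3)) = (LP (LK LD1_c5 LD2_c14 LD3_c26)) :=
  Lre_e IH (LK LD1_c2 LD2_c34 LD3_c3) (LK LD1_c5 LD2_c14 LD3_c26) Lrfl Lrfl
theorem f636317 : Led Lsl_cf (LP (LK LD1_c2 LD2_c34 LD3_c3)) = v4596 :=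
  Lgr Lrot11 (Lpr_ct (f636316 IH) (Lpn v4596))
theorem f723915 : Led Lsl_ef v4596 = v14586 :=
  Lgr Lrot28 (Lpe (f636317 IH) (Lpr_et (f495449 IH) (Lpr_ct (f723913 IH) (Lpn v14586))))
theorem f723917 : Led Lsl_et v4596 = v14586 :=
  Lgr Lrot87 (Lpr_ef (f723915 IH) (Lpn v14586))
theorem f753697 : Led Lsl_gf (LP (LK LD1_c11 LD2_c59 LD3_c13)) = v14586 :=
  Lgr Lrot141 (Lpe (f639455 IH) (Lpr_dt (f753693 IH) (Lpe (f753696 IH) (Lpe (K2.f55655 IH) (Lpr_et (K2.f55446 IH) (Lpr_gt (K10.f183432 IH) (Lpr_dt (K10.f179061 IH) (Lpr_gt (K15.f195585 IH) (Lpr_df (f636318 IH) (Lpr_et (f723917 IH) (Lpn v14586)))))))))))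
theorem f421766 : Led Lsl_ct (LP (LK LD1_c6 LD2_c9 LD3_c0)) = (LP (LK LD1_c11 LD2_c59 LD3_c13)) :=
  Lre_c IH (LK LD1_c6 LD2_c9 LD3_c0) (LK LD1_c11 LD2_c59 LD3_c13) Lrfl Lrfl
theorem f444239 : Led Lsl_bt (LP (LK LD1_c6 LD2_c9 LD3_c0)) = (LP (LK LD1_c11 LD2_c59 LD3_c12)) :=
  Lre_b IH (LK LD1_c6 LD2_c9 LD3_c0) (LK LD1_c11 LD2_c59 LD3_c12) Lrfl Lrfl
theorem f444251 : Led Lsl_et (LP (LK LD1_c6 LD2_c8 LD3_c59)) = (LP (LK LD1_c11 LD2_c59 LD3_c12)) :=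
  Lre_e IH (LK LD1_c6 LD2_c8 LD3_c59) (LK LD1_c11 LD2_c59 LD3_c12) Lrfl Lrfl
theorem f560084 : Led Lsl_gf (LP (LK LD1_c11 LD2_c38 LD3_c40)) = (LP (LK LD1_c10 LD2_c17 LD3_c14)) :=
  Lgr Lrot76 (Lpr_af (K50.f560076 IH) (Lpe (K18.f302378 IH) (Lpr_gt (K53.f185709 IH) (Lpn (LP (LK LD1_c10 LD2_c17 LD3_c14))))))
theorem f714144 : Led Lsl_gt (LP (LK LD1_c11 LD2_c59 LD3_c12)) = (LP (LK LD1_c10 LD2_c4 LD3_c26)) :=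
  Lgr Lrot131 (Lpe (f444251 IH) (Lpr_dt (K52.f444253 IH) (Lpr_gf (K52.f646374 IH) (Lpqs (K52.f714139 IH) (Lpe (K50.f496809 IH) (Lpr_gf (f560084 IH) (Lpe (K53.f495419 IH) (Lpe (K53.f600400 IH) (Lpe (K53.f699394 IH) (Lpr_df (K53.f699352 IH) (Lpr_et (K19.f308118 IH) (Lpn (LP (LK LD1_c10 LD2_c4 LD3_c26))))))))))))))
theorem f308005 : Led Lsl_ct (LP (LK LD1_c10 LD2_c4 LD3_c26)) = (LP (LK LD1_c18 LD2_c23 LD3_c12)) :=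
  Lre_c IH (LK LD1_c10 LD2_c4 LD3_c26) (LK LD1_c18 LD2_c23 LD3_c12) Lrfl Lrfl
theorem f405164 : Led Lsl_ft (LP (LK LD1_c18 LD2_c23 LD3_c12)) = (LP (LK LD1_c10 LD2_c4 LD3_c23)) :=
  Lre_f IH (LK LD1_c18 LD2_c23 LD3_c12) (LK LD1_c10 LD2_c4 LD3_c23) Lrfl Lrfl
theorem f542445 : Led Lsl_gt (LP (LK LD1_c26 LD2_c57 LD3_c58)) = (LP (LK LD1_c17 LD2_c3 LD3_c21)) :=
  Lre_g IH (LK LD1_c26 LD2_c57 LD3_c58) (LK LD1_c17 LD2_c3 LD3_c21) Lrfl Lrfl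
theorem f542446 : Led Lsl_gt (LP (LK LD1_c18 LD2_c23 LD3_c12)) = (LP (LK LD1_c26 LD2_c57 LD3_c58)) :=
  Lgr Lrot5 (Lpr_ft (f405164 IH) (Lpr_at (K38.f542437 IH) (Lpe (f542445 IH) (Lpn (LP (LK LD1_c26 LD2_c57 LD3_c58))))))
theorem f544447 : Led Lsl_gt (LP (LK LD1_c18 LD2_c43 LD3_c25)) = (LP (LK LD1_c10 LD2_c18 LD3_c26)) :=
  Lre_g IH (LK LD1_c18 LD2_c43 LD3_c25) (LK LD1_c10 LD2_c18 LD3_c26) Lrfl Lrfl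
theorem f616065 : Led Lsl_bt (LP (LK LD1_c28 LD2_c13 LD3_c57)) = (LP (LK LD1_c18 LD2_c43 LD3_c25)) :=
  Lre_b IH (LK LD1_c28 LD2_c13 LD3_c57) (LK LD1_c18 LD2_c43 LD3_c25) Lrfl Lrfl
theorem f753698 : Led Lsl_cf (LP (LK LD1_c26 LD2_c57 LD3_c58)) = (LP (LK LD1_c28 LD2_c13 LD3_c57)) :=
  Lgr Lrot163 (Lpe (f542446 IH) (Lpe (f308005 IH) (Lpe (f714144 IH) (Lpe (f444239 IH) (Lpr_ct (f421766 IH) (Lpr_gf (f753697 IH) (Lpe (f723913 IH) (Lpr_bt (K53.f616061 IH) (Lpe (f544447 IH) (Lpe (f616065 IH) (Lpn (LP (LK LD1_c28 LD2_c13 LD3_c57)))))))))))))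
theorem f753699 : Led Lsl_ct (LP (LK LD1_c28 LD2_c13 LD3_c57)) = (LP (LK LD1_c26 LD2_c57 LD3_c58)) :=
  Leop (Lpr_cf (f753698 IH) (Lpn (LP (LK LD1_c28 LD2_c13 LD3_c57))))
theorem seed_1084 : LEOK LG_c (LK LD1_c28 LD2_c13 LD3_c57) :=
  Leoe_c (LK LD1_c28 LD2_c13 LD3_c57) (f753699 IH)
theorem f307998 : Led Lsl_bt (LP (LK LD1_c5 LD2_c6 LD3_c56)) = (LP (LK LD1_c10 LD2_c4 LD3_c26)) :=
  Lre_b IH (LK LD1_c5 LD2_c6 LD3_c56) (LK LD1_c10 LD2_c4 LD3_c26) Lrfl Lrfl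
def v14260 : LQ := Led Lsl_ft (LP (LK LD1_c5 LD2_c4 LD3_c18))
theorem f721543 : Led Lsl_ft (LP (LK LD1_c5 LD2_c4 LD3_c18)) = v14260 :=
  Lrfl
theorem f721545 : Led Lsl_ff (LP (LK LD1_c5 LD2_c4 LD3_c18)) = v14260 :=
  Lgr Lrot3 (Lpr_ft (f721543 IH) (Lpn v14260))
theorem f165412 : Led Lsl_et (LP (LK LD1_c2 LD2_c29 LD3_c33)) = (LP (LK LD1_c5 LD2_c4 LD3_c18)) :=
  Lre_e IH (LK LD1_c2 LD2_c29 LD3_c33) (LK LD1_c5 LD2_c4 LD3_c18) Lrfl Lrfl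
theorem f169800 : Led Lsl_ct (LP (LK LD1_c5 LD2_c4 LD3_c18)) = (LP (LK LD1_c2 LD2_c30 LD3_c45)) :=
  Lgr Lrot15 (Lpe (f165412 IH) (Lpr_cf (K15.f169770 IH) (Lpe (K19.f166392 IH) (Lpn (LP (LK LD1_c2 LD2_c30 LD3_c45))))))
theorem f166399 : Led Lsl_ft (LP (LK LD1_c2 LD2_c30 LD3_c45)) = (LP (LK LD1_c5 LD2_c6 LD3_c56)) :=
  Lre_f IH (LK LD1_c2 LD2_c30 LD3_c45) (LK LD1_c5 LD2_c6 LD3_c56) Lrfl Lrfl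
theorem f721546 : Led Lsl_ct (LP (LK LD1_c5 LD2_c6 LD3_c56)) = v14260 :=
  Lgr Lrot40 (Lpe (f166399 IH) (Lpe (f169800 IH) (Lpr_ff (f721545 IH) (Lpn v14260))))
theorem f267916 : Led Lsl_at (LP (LK LD1_c2 LD2_c29 LD3_c30)) = (LP (LK LD1_c2 LD2_c32 LD3_c36)) :=
  Lgr Lrot100 (Lpr_af (K15.f267914 IH) (Lpn (LP (LK LD1_c2 LD2_c32 LD3_c36))))
theorem f267912 : Led Lsl_ff (LP (LK LD1_c2 LD2_c29 LD3_c33)) = (LP (LK LD1_c2 LD2_c32 LD3_c36)) :=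
  Lgr Lrot3 (Lpr_ft (K15.f267906 IH) (Lpn (LP (LK LD1_c2 LD2_c32 LD3_c36))))
theorem f307973 : Led Lsl_af (LP (LK LD1_c2 LD2_c32 LD3_c39)) = (LP (LK LD1_c2 LD2_c29 LD3_c33)) :=
  Lgr Lrot45 (Lpr_ft (K19.f307971 IH) (Lpr_at (f267916 IH) (Lpe (f267912 IH) (Lpn (LP (LK LD1_c2 LD2_c29 LD3_c33))))))
theorem f163795 : Led Lsl_et (LP (LK LD1_c2 LD2_c32 LD3_c39)) = (LP (LK LD1_c5 LD2_c11 LD3_c25)) :=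
  Lre_e IH (LK LD1_c2 LD2_c32 LD3_c39) (LK LD1_c5 LD2_c11 LD3_c25) Lrfl Lrfl
theorem f169818 : Led Lsl_et (LP (LK LD1_c5 LD2_c4 LD3_c18)) = (LP (LK LD1_c2 LD2_c29 LD3_c33)) :=
  Lre_e IH (LK LD1_c5 LD2_c4 LD3_c18) (LK LD1_c2 LD2_c29 LD3_c33) Lrfl Lrfl
theorem f405238 : Led Lsl_at (LP (LK LD1_c5 LD2_c11 LD3_c25)) = (LP (LK LD1_c5 LD2_c4 LD3_c18)) :=
  Lgr Lrot80 (Lpe (f163795 IH) (Lpr_af (f307973 IH) (Lpe (f169818 IH) (Lpn (LP (LK LD1_c5 LD2_c4 LD3_c18))))))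
theorem f405240 : Led Lsl_af (LP (LK LD1_c5 LD2_c11 LD3_c25)) = (LP (LK LD1_c5 LD2_c4 LD3_c18)) :=
  Lgr Lrot0 (Lpr_at (f405238 IH) (Lpn (LP (LK LD1_c5 LD2_c4 LD3_c18))))
theorem f405246 : Led Lsl_gt (LP (LK LD1_c10 LD2_c13 LD3_c25)) = (LP (LK LD1_c5 LD2_c11 LD3_c25)) :=
  Lre_g IH (LK LD1_c10 LD2_c13 LD3_c25) (LK LD1_c5 LD2_c11 LD3_c25) Lrfl Lrfl
theorem f721547 : Led Lsl_gf (LP (LK LD1_c10 LD2_c13 LD3_c25)) = v14260 :=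
  Lgr Lrot47 (Lpr_gt (f405246 IH) (Lpr_af (f405240 IH) (Lpr_ff (f721545 IH) (Lpn v14260))))
def v14585 : LQ := Led Lsl_gf (LP (LK LD1_c5 LD2_c14 LD3_c26))
theorem f723905 : Led Lsl_gf (LP (LK LD1_c5 LD2_c14 LD3_c26)) = v14585 :=
  Lrfl
theorem f720194 : Led Lsl_bt (LP (LK LD1_c5 LD2_c7 LD3_c10)) = (LP (LK LD1_c10 LD2_c4 LD3_c59)) :=
  Lre_b IH (LK LD1_c5 LD2_c7 LD3_c10) (LK LD1_c10 LD2_c4 LD3_c59) Lrfl Lrfl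
theorem f720195 : Led Lsl_et (LP (LK LD1_c10 LD2_c4 LD3_c59)) = (LP (LK LD1_c5 LD2_c47 LD3_c40)) :=
  Lgr Lrot74 (Lpe (f720194 IH) (Lpe (K41.f301782 IH) (Lpr_bf (K55.f720190 IH) (Lpn (LP (LK LD1_c5 LD2_c47 LD3_c40))))))
theorem f720199 : Led Lsl_ef (LP (LK LD1_c10 LD2_c4 LD3_c59)) = (LP (LK LD1_c5 LD2_c47 LD3_c40)) :=
  Lgr Lrot88 (Lpr_et (f720195 IH) (Lpn (LP (LK LD1_c5 LD2_c47 LD3_c40))))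
theorem f438570 : Led Lsl_et (LP (LK LD1_c6 LD2_c26 LD3_c36)) = (LP (LK LD1_c12 LD2_c25 LD3_c8)) :=
  Lre_e IH (LK LD1_c6 LD2_c26 LD3_c36) (LK LD1_c12 LD2_c25 LD3_c8) Lrfl Lrfl
theorem f616073 : Led Lsl_et (LP (LK LD1_c10 LD2_c18 LD3_c27)) = (LP (LK LD1_c5 LD2_c51 LD3_c40)) :=
  Lgr Lrot71 (Lpr_df (K53.f616069 IH) (Lpe (f438570 IH) (Lpr_df (K32.f438565 IH) (Lpe (K32.f438571 IH) (Lpe (K32.f73625 IH) (Lpn (LP (LK LD1_c5 LD2_c51 LD3_c40))))))))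
theorem f720201 : Led Lsl_at (LP (LK LD1_c10 LD2_c4 LD3_c59)) = (LP (LK LD1_c10 LD2_c18 LD3_c27)) :=
  Lgr Lrot80 (Lpr_ef (f720199 IH) (Lpr_af (K32.f503459 IH) (Lpe (f616073 IH) (Lpn (LP (LK LD1_c10 LD2_c18 LD3_c27))))))
theorem f723907 : Led Lsl_ff (LP (LK LD1_c10 LD2_c4 LD3_c59)) = v14585 :=
  Lgr Lrot52 (Lpr_at (f720201 IH) (Lpe (K53.f495472 IH) (Lpr_gf (f723905 IH) (Lpn v14585))))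
theorem f301781 : Led Lsl_bt (LP (LK LD1_c10 LD2_c4 LD3_c59)) = (LP (LK LD1_c5 LD2_c7 LD3_c10)) :=
  Lre_b IH (LK LD1_c10 LD2_c4 LD3_c59) (LK LD1_c5 LD2_c7 LD3_c10) Lrfl Lrfl
def v14360 : LQ := Led Lsl_ft (LP (LK LD1_c5 LD2_c7 LD3_c10))
theorem f722174 : Led Lsl_ft (LP (LK LD1_c5 LD2_c7 LD3_c10)) = v14360 :=
  Lrfl
theorem f723909 : Led Lsl_bt v14360 = v14585 :=
  Lgr Lrot35 (Lpe (f722174 IH) (Lpe (f301781 IH) (Lpr_ff (f723907 IH) (Lpn v14585))))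
theorem f723810 : Led Lsl_bt (LP (LK LD1_c5 LD2_c14 LD3_c8)) = (LP (LK LD1_c10 LD2_c18 LD3_c14)) :=
  Lre_b IH (LK LD1_c5 LD2_c14 LD3_c8) (LK LD1_c10 LD2_c18 LD3_c14) Lrfl Lrfl
def v14569 : LQ := Led Lsl_at (LP (LK LD1_c5 LD2_c14 LD3_c7))
theorem f723805 : Led Lsl_at (LP (LK LD1_c5 LD2_c14 LD3_c7)) = v14569 :=
  Lrfl
theorem f723806 : Led Lsl_af (LP (LK LD1_c5 LD2_c14 LD3_c7)) = v14569 :=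
  Lgr Lrot0 (Lpr_at (f723805 IH) (Lpn v14569))
theorem f61330 : Led Lsl_gt (LP (LK LD1_c5 LD2_c14 LD3_c8)) = (LP (LK LD1_c2 LD2_c33 LD3_c57)) :=
  Lre_g IH (LK LD1_c5 LD2_c14 LD3_c8) (LK LD1_c2 LD2_c33 LD3_c57) Lrfl Lrfl
theorem f723808 : Led Lsl_ft (LP (LK LD1_c5 LD2_c14 LD3_c8)) = v14569 :=
  Lgr Lrot2 (Lpr_gt (f61330 IH) (Lpr_gt (K53.f61327 IH) (Lpr_af (f723806 IH) (Lpn v14569))))
theorem f723809 : Led Lsl_ff (LP (LK LD1_c5 LD2_c14 LD3_c8)) = v14569 :=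
  Lgr Lrot3 (Lpr_ft (f723808 IH) (Lpn v14569))
def v14357 : LQ := Led Lsl_at (LP (LK LD1_c5 LD2_c7 LD3_c10))
theorem f722165 : Led Lsl_at (LP (LK LD1_c5 LD2_c7 LD3_c10)) = v14357 :=
  Lrfl
theorem f722166 : Led Lsl_af (LP (LK LD1_c5 LD2_c7 LD3_c10)) = v14357 :=
  Lgr Lrot0 (Lpr_at (f722165 IH) (Lpn v14357))
theorem f615405 : Led Lsl_et (LP (LK LD1_c5 LD2_c14 LD3_c7)) = (LP (LK LD1_c10 LD2_c18 LD3_c13)) :=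
  Lre_e IH (LK LD1_c5 LD2_c14 LD3_c7) (LK LD1_c10 LD2_c18 LD3_c13) Lrfl Lrfl
theorem f301774 : Led Lsl_bt (LP (LK LD1_c10 LD2_c18 LD3_c12)) = (LP (LK LD1_c5 LD2_c14 LD3_c7)) :=
  Lre_b IH (LK LD1_c10 LD2_c18 LD3_c12) (LK LD1_c5 LD2_c14 LD3_c7) Lrfl Lrfl
theorem f739509 : Led Lsl_et (LP (LK LD1_c11 LD2_c25 LD3_c42)) = (LP (LK LD1_c10 LD2_c18 LD3_c12)) :=
  Lgr Lrot74 (Lpr_bf (K55.f739464 IH) (Lpe (f615405 IH) (Lpe (f301774 IH) (Lpn (LP (LK LD1_c10 LD2_c18 LD3_c12))))))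
theorem f739515 : Led Lsl_ef (LP (LK LD1_c11 LD2_c25 LD3_c42)) = (LP (LK LD1_c10 LD2_c18 LD3_c12)) :=
  Lgr Lrot88 (Lpr_et (f739509 IH) (Lpn (LP (LK LD1_c10 LD2_c18 LD3_c12))))
theorem f22370 : Led Lsl_et (LP (LK LD1_c5 LD2_c7 LD3_c57)) = (LP (LK LD1_c2 LD2_c31 LD3_c13)) :=
  Lre_e IH (LK LD1_c5 LD2_c7 LD3_c57) (LK LD1_c2 LD2_c31 LD3_c13) Lrfl Lrfl
theorem f427495 : Led Lsl_dt (LP (LK LD1_c2 LD2_c31 LD3_c5)) = (LP (LK LD1_c1 LD2_c12 LD3_c33)) :=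
  Lre_d IH (LK LD1_c2 LD2_c31 LD3_c5) (LK LD1_c1 LD2_c12 LD3_c33) Lrfl Lrfl
theorem f495347 : Led Lsl_et (LP (LK LD1_c2 LD2_c31 LD3_c5)) = (LP (LK LD1_c5 LD2_c7 LD3_c41)) :=
  Lre_e IH (LK LD1_c2 LD2_c31 LD3_c5) (LK LD1_c5 LD2_c7 LD3_c41) Lrfl Lrfl
theorem f496107 : Led Lsl_gt (LP (LK LD1_c5 LD2_c7 LD3_c41)) = (LP (LK LD1_c10 LD2_c5 LD3_c39)) :=
  Lre_g IH (LK LD1_c5 LD2_c7 LD3_c41) (LK LD1_c10 LD2_c5 LD3_c39) Lrfl Lrfl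
theorem f545013 : Led Lsl_et (LP (LK LD1_c11 LD2_c29 LD3_c54)) = (LP (LK LD1_c10 LD2_c5 LD3_c39)) :=
  Lgr Lrot122 (Lpr_dt (K55.f132471 IH) (Lpr_gt (K52.f24129 IH) (Lpr_df (K38.f544993 IH) (Lpr_et (f22370 IH) (Lpr_gt (K38.f3254 IH) (Lpr_dt (K27.f3250 IH) (Lpr_gt (K27.f3278 IH) (Lpe (f427495 IH) (Lpr_et (f495347 IH) (Lpr_gt (f496107 IH) (Lpn (LP (LK LD1_c10 LD2_c5 LD3_c39)))))))))))))
theorem f739521 : Led Lsl_at (LP (LK LD1_c10 LD2_c5 LD3_c39)) = (LP (LK LD1_c10 LD2_c18 LD3_c12)) :=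
  Lgr Lrot80 (Lpe (f545013 IH) (Lpr_af (K55.f712160 IH) (Lpr_ef (f739515 IH) (Lpn (LP (LK LD1_c10 LD2_c18 LD3_c12))))))
theorem f616075 : Led Lsl_ef (LP (LK LD1_c10 LD2_c18 LD3_c27)) = (LP (LK LD1_c5 LD2_c51 LD3_c40)) :=
  Lgr Lrot88 (Lpr_et (f616073 IH) (Lpn (LP (LK LD1_c5 LD2_c51 LD3_c40))))
theorem f545016 : Led Lsl_ef (LP (LK LD1_c11 LD2_c29 LD3_c54)) = (LP (LK LD1_c10 LD2_c5 LD3_c39)) :=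
  Lgr Lrot88 (Lpr_et (f545013 IH) (Lpn (LP (LK LD1_c10 LD2_c5 LD3_c39))))
theorem f711802 : Led Lsl_bt (LP (LK LD1_c10 LD2_c18 LD3_c27)) = (LP (LK LD1_c10 LD2_c5 LD3_c39)) :=
  Lgr Lrot119 (Lpr_ef (f616075 IH) (Lpr_bf (K55.f711800 IH) (Lpr_ef (f545016 IH) (Lpn (LP (LK LD1_c10 LD2_c5 LD3_c39))))))
theorem f739527 : v14357 = (LP (LK LD1_c5 LD2_c14 LD3_c7)) :=
  (Llr Lrot36 (Lpe (f722166 IH) (Lpr_bt (f720194 IH) (Lpr_at (f720201 IH) (Lpr_bt (f711802 IH) (Lpr_at (f739521 IH) (Lpr_bt (f301774 IH) (Lpn (LP (LK LD1_c5 LD2_c14 LD3_c7)))))))))).symm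
theorem f739528 : (LP (LK LD1_c5 LD2_c7 LD3_c10)) = v14569 :=
  Lefun (Lecon (Lfl_af (f722166 IH)) (f739527 IH)) (f723805 IH)
theorem f739532 : (LP (LK LD1_c5 LD2_c14 LD3_c8)) = v14360 :=
  Lefun (Lecon (Lfl_ff (f723809 IH)) (f739528 IH).symm) (f722174 IH)
theorem f739535 : v14585 = (LP (LK LD1_c10 LD2_c18 LD3_c14)) :=
  Lefun (Lecon (f723909 IH) (f739532 IH).symm) (f723810 IH)
def v14573 : LQ := Led Lsl_ct (LP (LK LD1_c5 LD2_c14 LD3_c8))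
theorem f723820 : Led Lsl_ct (LP (LK LD1_c5 LD2_c14 LD3_c8)) = v14573 :=
  Lrfl
theorem f753700 : (LP (LK LD1_c10 LD2_c13 LD3_c25)) = v14573 :=
  (Llr Lrot65 (Lpr_gf (f721547 IH) (Lpe (f721546 IH) (Lpr_bt (f307998 IH) (Lpe (f714144 IH) (Lpe (f444239 IH) (Lpr_ct (f421766 IH) (Lpr_gf (f753697 IH) (Lpe (f723913 IH) (Lpr_gf (f723905 IH) (Lpqs (f739535 IH) (Lpe (f723810 IH) (Lpr_ct (f723820 IH) (Lpn v14573)))))))))))))).symm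
theorem f723821 : Led Lsl_cf (LP (LK LD1_c5 LD2_c14 LD3_c8)) = v14573 :=
  Lgr Lrot11 (Lpr_ct (f723820 IH) (Lpn v14573))
theorem f753701 : Led Lsl_ct (LP (LK LD1_c10 LD2_c13 LD3_c25)) = (LP (LK LD1_c5 LD2_c14 LD3_c8)) :=
  Leop (Lpr_cf (f723821 IH) (Lpq (f753700 IH) (Lpn (LP (LK LD1_c10 LD2_c13 LD3_c25)))))
theorem seed_1085 : LEOK LG_c (LK LD1_c10 LD2_c13 LD3_c25) :=
  Leoe_c (LK LD1_c10 LD2_c13 LD3_c25) (f753701 IH)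
def v14358 : LQ := Led Lsl_ct (LP (LK LD1_c5 LD2_c7 LD3_c10))
theorem f722169 : Led Lsl_ct (LP (LK LD1_c5 LD2_c7 LD3_c10)) = v14358 :=
  Lrfl
theorem f722170 : Led Lsl_cf (LP (LK LD1_c5 LD2_c7 LD3_c10)) = v14358 :=
  Lgr Lrot11 (Lpr_ct (f722169 IH) (Lpn v14358))
theorem f739542 : Led Lsl_ff v14358 = v14573 :=
  Lgr Lrot23 (Lpe (f722170 IH) (Lpqs (f739528 IH) (Lpe (f723809 IH) (Lpr_ct (f723820 IH) (Lpn v14573)))))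
def v14570 : LQ := Led Lsl_ct (LP (LK LD1_c5 LD2_c14 LD3_c7))
theorem f723811 : Led Lsl_ct (LP (LK LD1_c5 LD2_c14 LD3_c7)) = v14570 :=
  Lrfl
theorem f739548 : Led Lsl_af v14358 = v14570 :=
  Lgr Lrot68 (Lpe (f722170 IH) (Lpr_at (f722165 IH) (Lpqs (f739527 IH) (Lpr_ct (f723811 IH) (Lpn v14570)))))
theorem f739549 : Led Lsl_at v14358 = v14570 :=
  Lgr Lrot100 (Lpr_af (f739548 IH) (Lpn v14570))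
def v14494 : LQ := Led Lsl_gt (LP (LK LD1_c5 LD2_c11 LD3_c25))
theorem f722826 : Led Lsl_gt (LP (LK LD1_c5 LD2_c11 LD3_c25)) = v14494 :=
  Lrfl
theorem f753703 : v14570 = v14494 :=
  (Llr Lrot26 (Lpe (f739549 IH) (Lpr_ff (f739542 IH) (Lpq (f753700 IH) (Lpr_gt (f405246 IH) (Lpr_gt (f722826 IH) (Lpn v14494))))))).symm
theorem f61346 : Led Lsl_ct (LP (LK LD1_c5 LD2_c14 LD3_c4)) = (LP (LK LD1_c10 LD2_c18 LD3_c7)) :=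
  Lre_c IH (LK LD1_c5 LD2_c14 LD3_c4) (LK LD1_c10 LD2_c18 LD3_c7) Lrfl Lrfl
theorem f61363 : Led Lsl_gt (LP (LK LD1_c18 LD2_c43 LD3_c14)) = (LP (LK LD1_c10 LD2_c18 LD3_c7)) :=
  Lre_g IH (LK LD1_c18 LD2_c43 LD3_c14) (LK LD1_c10 LD2_c18 LD3_c7) Lrfl Lrfl
def v14496 : LQ := Led Lsl_ft (LP (LK LD1_c5 LD2_c11 LD3_c25))
theorem f722833 : Led Lsl_ft (LP (LK LD1_c5 LD2_c11 LD3_c25)) = v14496 :=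
  Lrfl
theorem f722834 : Led Lsl_af v14260 = v14496 :=
  Lgr Lrot45 (Lpe (f721545 IH) (Lpe (f405240 IH) (Lpr_ft (f722833 IH) (Lpn v14496))))
theorem f722838 : Led Lsl_gt v14494 = v14260 :=
  Lgr Lrot46 (Lpe (f722826 IH) (Lpr_ft (f722833 IH) (Lpe (f722834 IH) (Lpn v14260))))
theorem f542449 : Led Lsl_at (LP (LK LD1_c5 LD2_c6 LD3_c50)) = (LP (LK LD1_c9 LD2_c10 LD3_c14)) :=
  Lgr Lrot100 (Lpr_af (K38.f542442 IH) (Lpn (LP (LK LD1_c9 LD2_c10 LD3_c14))))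
theorem f542394 : Led Lsl_gt (LP (LK LD1_c17 LD2_c3 LD3_c22)) = (LP (LK LD1_c9 LD2_c10 LD3_c14)) :=
  Lre_g IH (LK LD1_c17 LD2_c3 LD3_c22) (LK LD1_c9 LD2_c10 LD3_c14) Lrfl Lrfl
theorem f542466 : Led Lsl_gt (LP (LK LD1_c10 LD2_c4 LD3_c26)) = (LP (LK LD1_c17 LD2_c3 LD3_c22)) :=
  Lgr Lrot5 (Lpr_ft (K19.f308124 IH) (Lpr_at (f542449 IH) (Lpe (f542394 IH) (Lpn (LP (LK LD1_c17 LD2_c3 LD3_c22))))))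
theorem f701169 : Led Lsl_ft K52.v5181 = K52.v13112 :=
  Lgr Lrot48 (Lpr_ff (K52.f701167 IH) (Lpn K52.v13112))
theorem f752666 : Led Lsl_ff (LP (LK LD1_c11 LD2_c38 LD3_c36)) = (LP (LK LD1_c12 LD2_c23 LD3_c23)) :=
  Lgr Lrot19 (Lpr_dt (K49.f161051 IH) (Lpq (f752643 IH) (Lpr_ft (f701169 IH) (Lpqs (K52.f714134 IH) (Lpr_dt (K53.f69226 IH) (Lpn (LP (LK LD1_c12 LD2_c23 LD3_c23))))))))
theorem f752672 : Led Lsl_ft (LP (LK LD1_c11 LD2_c38 LD3_c36)) = (LP (LK LD1_c12 LD2_c23 LD3_c23)) :=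
  Lgr Lrot48 (Lpr_ff (f752666 IH) (Lpn (LP (LK LD1_c12 LD2_c23 LD3_c23))))
theorem f138420 : Led Lsl_dt (LP (LK LD1_c5 LD2_c54 LD3_c29)) = (LP (LK LD1_c11 LD2_c34 LD3_c49)) :=
  Lre_d IH (LK LD1_c5 LD2_c54 LD3_c29) (LK LD1_c11 LD2_c34 LD3_c49) Lrfl Lrfl
theorem f714386 : Led Lsl_bf (LP (LK LD1_c12 LD2_c23 LD3_c23)) = (LP (LK LD1_c11 LD2_c34 LD3_c49)) :=
  Lgr Lrot93 (Lpr_dt (K53.f69234 IH) (Lpq (K52.f714134 IH) (Lpe (K52.f701166 IH) (Lpqs (K52.f712198 IH) (Lpr_dt (f138420 IH) (Lpn (LP (LK LD1_c11 LD2_c34 LD3_c49))))))))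
theorem f714390 : Led Lsl_bt (LP (LK LD1_c12 LD2_c23 LD3_c23)) = (LP (LK LD1_c11 LD2_c34 LD3_c49)) :=
  Lgr Lrot127 (Lpr_bf (f714386 IH) (Lpn (LP (LK LD1_c11 LD2_c34 LD3_c49))))
theorem f701191 : Led Lsl_ff K52.v5177 = v13117 :=
  Lgr Lrot30 (Lpe (K52.f646367 IH) (Lpe (f639413 IH) (Lpr_at (f701188 IH) (Lpn v13117))))
theorem f701194 : Led Lsl_ft K52.v5177 = v13117 :=
  Lgr Lrot48 (Lpr_ff (f701191 IH) (Lpn v13117))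
theorem f138443 : Led Lsl_dt (LP (LK LD1_c11 LD2_c34 LD3_c49)) = (LP (LK LD1_c5 LD2_c54 LD3_c29)) :=
  Lre_d IH (LK LD1_c11 LD2_c34 LD3_c49) (LK LD1_c5 LD2_c54 LD3_c29) Lrfl Lrfl
theorem f138590 : Led Lsl_dt (LP (LK LD1_c6 LD2_c16 LD3_c5)) = (LP (LK LD1_c12 LD2_c9 LD3_c47)) :=
  Lre_d IH (LK LD1_c6 LD2_c16 LD3_c5) (LK LD1_c12 LD2_c9 LD3_c47) Lrfl Lrfl
theorem f752527 : Led Lsl_ff (LP (LK LD1_c11 LD2_c34 LD3_c49)) = (LP (LK LD1_c12 LD2_c9 LD3_c47)) :=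
  Lgr Lrot19 (Lpr_dt (f138443 IH) (Lpq (K52.f712198 IH) (Lpr_ft (f701194 IH) (Lpqs (f752499 IH) (Lpr_dt (f138590 IH) (Lpn (LP (LK LD1_c12 LD2_c9 LD3_c47))))))))
theorem f752531 : Led Lsl_ft (LP (LK LD1_c11 LD2_c34 LD3_c49)) = (LP (LK LD1_c12 LD2_c9 LD3_c47)) :=
  Lgr Lrot48 (Lpr_ff (f752527 IH) (Lpn (LP (LK LD1_c12 LD2_c9 LD3_c47))))
theorem f752676 : Led Lsl_bf (LP (LK LD1_c11 LD2_c38 LD3_c36)) = (LP (LK LD1_c12 LD2_c9 LD3_c47)) :=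
  Lgr Lrot61 (Lpr_ft (f752672 IH) (Lpr_bt (f714390 IH) (Lpr_ft (f752531 IH) (Lpn (LP (LK LD1_c12 LD2_c9 LD3_c47))))))
theorem f405193 : Led Lsl_et (LP (LK LD1_c2 LD2_c30 LD3_c41)) = (LP (LK LD1_c5 LD2_c6 LD3_c50)) :=
  Lre_e IH (LK LD1_c2 LD2_c30 LD3_c41) (LK LD1_c5 LD2_c6 LD3_c50) Lrfl Lrfl
theorem f169812 : Led Lsl_gt (LP (LK LD1_c5 LD2_c6 LD3_c50)) = (LP (LK LD1_c10 LD2_c4 LD3_c24)) :=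
  Lre_g IH (LK LD1_c5 LD2_c6 LD3_c50) (LK LD1_c10 LD2_c4 LD3_c24) Lrfl Lrfl
theorem f621439 : Led Lsl_ef (LP (LK LD1_c10 LD2_c4 LD3_c24)) = (LP (LK LD1_c11 LD2_c38 LD3_c36)) :=
  Lgr Lrot17 (Lpe (f169812 IH) (Lpe (f405193 IH) (Lpr_dt (K40.f201384 IH) (Lpr_gf (K38.f495329 IH) (Lpq (K38.f542384 IH) (Lpe (K35.f211641 IH) (Lpr_gf (K38.f545116 IH) (Lpe (K42.f161040 IH) (Lpr_dt (K49.f161050 IH) (Lpe (K49.f157108 IH) (Lpe (K49.f161051 IH) (Lpn (LP (LK LD1_c11 LD2_c38 LD3_c36))))))))))))))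
theorem f621441 : Led Lsl_bt (LP (LK LD1_c10 LD2_c4 LD3_c24)) = (LP (LK LD1_c18 LD2_c23 LD3_c13)) :=
  Lre_b IH (LK LD1_c10 LD2_c4 LD3_c24) (LK LD1_c18 LD2_c23 LD3_c13) Lrfl Lrfl
theorem f752678 : Led Lsl_et (LP (LK LD1_c18 LD2_c23 LD3_c13)) = (LP (LK LD1_c12 LD2_c9 LD3_c47)) :=
  Lgr Lrot74 (Lpe (f621441 IH) (Lpr_ef (f621439 IH) (Lpr_bf (f752676 IH) (Lpn (LP (LK LD1_c12 LD2_c9 LD3_c47))))))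
theorem f752684 : Led Lsl_ef (LP (LK LD1_c18 LD2_c23 LD3_c13)) = (LP (LK LD1_c12 LD2_c9 LD3_c47)) :=
  Lgr Lrot88 (Lpr_et (f752678 IH) (Lpn (LP (LK LD1_c12 LD2_c9 LD3_c47))))
theorem f712229 : Led Lsl_af (LP (LK LD1_c11 LD2_c34 LD3_c49)) = (LP (LK LD1_c6 LD2_c8 LD3_c55)) :=
  Lgr Lrot117 (Lpr_dt (f138443 IH) (Lpq (K52.f712198 IH) (Lpe (K52.f646367 IH) (Lpr_dt (K52.f23104 IH) (Lpn (LP (LK LD1_c6 LD2_c8 LD3_c55)))))))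
theorem f712231 : Led Lsl_at (LP (LK LD1_c11 LD2_c34 LD3_c49)) = (LP (LK LD1_c6 LD2_c8 LD3_c55)) :=
  Lgr Lrot100 (Lpr_af (f712229 IH) (Lpn (LP (LK LD1_c6 LD2_c8 LD3_c55))))
theorem f752529 : Led Lsl_at (LP (LK LD1_c9 LD2_c15 LD3_c41)) = (LP (LK LD1_c12 LD2_c9 LD3_c47)) :=
  Lgr Lrot66 (Lpr_ff (K52.f639501 IH) (Lpe (f712231 IH) (Lpr_ff (f752527 IH) (Lpn (LP (LK LD1_c12 LD2_c9 LD3_c47))))))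
theorem f446043 : Led Lsl_et (LP (LK LD1_c17 LD2_c10 LD3_c9)) = (LP (LK LD1_c9 LD2_c15 LD3_c41)) :=
  Lre_e IH (LK LD1_c17 LD2_c10 LD3_c9) (LK LD1_c9 LD2_c15 LD3_c41) Lrfl Lrfl
theorem f752686 : Led Lsl_at (LP (LK LD1_c18 LD2_c23 LD3_c13)) = (LP (LK LD1_c17 LD2_c10 LD3_c9)) :=
  Lgr Lrot80 (Lpr_ef (f752684 IH) (Lpe (f752529 IH) (Lpe (f446043 IH) (Lpn (LP (LK LD1_c17 LD2_c10 LD3_c9))))))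
theorem f198673 : Led Lsl_bt (LP (LK LD1_c17 LD2_c10 LD3_c9)) = (LP (LK LD1_c9 LD2_c15 LD3_c44)) :=
  Lre_b IH (LK LD1_c17 LD2_c10 LD3_c9) (LK LD1_c9 LD2_c15 LD3_c44) Lrfl Lrfl
theorem f421002 : Led Lsl_et (LP (LK LD1_c9 LD2_c15 LD3_c44)) = (LP (LK LD1_c4 LD2_c40 LD3_c7)) :=
  Lre_e IH (LK LD1_c9 LD2_c15 LD3_c44) (LK LD1_c4 LD2_c40 LD3_c7) Lrfl Lrfl
theorem f639431 : Led Lsl_af (LP (LK LD1_c9 LD2_c15 LD3_c44)) = (LP (LK LD1_c6 LD2_c9 LD3_c0)) :=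
  Lgr Lrot50 (Lpr_et (f421002 IH) (Lpr_at (K52.f639424 IH) (Lpr_et (K50.f421761 IH) (Lpn (LP (LK LD1_c6 LD2_c9 LD3_c0))))))
theorem f639433 : Led Lsl_at (LP (LK LD1_c9 LD2_c15 LD3_c44)) = (LP (LK LD1_c6 LD2_c9 LD3_c0)) :=
  Lgr Lrot100 (Lpr_af (f639431 IH) (Lpn (LP (LK LD1_c6 LD2_c9 LD3_c0))))
theorem f752696 : Led Lsl_af (LP (LK LD1_c10 LD2_c4 LD3_c24)) = (LP (LK LD1_c11 LD2_c59 LD3_c12)) :=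
  Lgr Lrot36 (Lpr_bt (f621441 IH) (Lpr_at (f752686 IH) (Lpr_bt (f198673 IH) (Lpr_at (f639433 IH) (Lpr_bt (f444239 IH) (Lpn (LP (LK LD1_c11 LD2_c59 LD3_c12))))))))
theorem f169819 : Led Lsl_gt (LP (LK LD1_c10 LD2_c4 LD3_c25)) = (LP (LK LD1_c5 LD2_c6 LD3_c50)) :=
  Lre_g IH (LK LD1_c10 LD2_c4 LD3_c25) (LK LD1_c5 LD2_c6 LD3_c50) Lrfl Lrfl
theorem f752710 : Led Lsl_ft (LP (LK LD1_c10 LD2_c4 LD3_c25)) = (LP (LK LD1_c11 LD2_c59 LD3_c12)) :=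
  Lgr Lrot2 (Lpr_gt (f169819 IH) (Lpr_gt (f169812 IH) (Lpr_af (f752696 IH) (Lpn (LP (LK LD1_c11 LD2_c59 LD3_c12))))))
theorem f752716 : Led Lsl_ff (LP (LK LD1_c10 LD2_c4 LD3_c25)) = (LP (LK LD1_c11 LD2_c59 LD3_c12)) :=
  Lgr Lrot3 (Lpr_ft (f752710 IH) (Lpn (LP (LK LD1_c11 LD2_c59 LD3_c12))))
theorem f752722 : Led Lsl_at (LP (LK LD1_c10 LD2_c4 LD3_c25)) = (LP (LK LD1_c17 LD2_c3 LD3_c22)) :=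
  Lgr Lrot26 (Lpr_ff (f752716 IH) (Lpr_gt (f714144 IH) (Lpr_gt (f542466 IH) (Lpn (LP (LK LD1_c17 LD2_c3 LD3_c22))))))
theorem f752706 : Led Lsl_at (LP (LK LD1_c10 LD2_c4 LD3_c24)) = (LP (LK LD1_c11 LD2_c59 LD3_c12)) :=
  Lgr Lrot100 (Lpr_af (f752696 IH) (Lpn (LP (LK LD1_c11 LD2_c59 LD3_c12))))
theorem f752728 : Led Lsl_ff (LP (LK LD1_c10 LD2_c4 LD3_c24)) = (LP (LK LD1_c17 LD2_c3 LD3_c22)) :=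
  Lgr Lrot30 (Lpr_at (f752706 IH) (Lpe (f752716 IH) (Lpr_at (f752722 IH) (Lpn (LP (LK LD1_c17 LD2_c3 LD3_c22))))))
theorem f446047 : Led Lsl_et (LP (LK LD1_c9 LD2_c15 LD3_c41)) = (LP (LK LD1_c17 LD2_c10 LD3_c9)) :=
  Lre_e IH (LK LD1_c9 LD2_c15 LD3_c41) (LK LD1_c17 LD2_c10 LD3_c9) Lrfl Lrfl
theorem f138411 : Led Lsl_dt (LP (LK LD1_c5 LD2_c54 LD3_c30)) = (LP (LK LD1_c2 LD2_c53 LD3_c38)) :=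
  Lre_d IH (LK LD1_c5 LD2_c54 LD3_c30) (LK LD1_c2 LD2_c53 LD3_c38) Lrfl Lrfl
theorem f412429 : Led Lsl_ft (LP (LK LD1_c4 LD2_c5 LD3_c41)) = (LP (LK LD1_c3 LD2_c0 LD3_c19)) :=
  Lgr Lrot54 (Lpe (K38.f175382 IH) (Lpr_ff (K36.f412427 IH) (Lpe (K43.f181144 IH) (Lpn (LP (LK LD1_c3 LD2_c0 LD3_c19))))))
theorem f538394 : Led Lsl_gt (LP (LK LD1_c4 LD2_c42 LD3_c50)) = (LP (LK LD1_c4 LD2_c36 LD3_c50)) :=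
  Lgr Lrot46 (Lpr_gf (K38.f538270 IH) (Lpr_ft (f412429 IH) (Lpr_at (K35.f538387 IH) (Lpn (LP (LK LD1_c4 LD2_c36 LD3_c50))))))
theorem f571396 : Led Lsl_dt (LP (LK LD1_c6 LD2_c7 LD3_c37)) = (LP (LK LD1_c4 LD2_c5 LD3_c39)) :=
  Lgr Lrot105 (Lpr_gf (K42.f571392 IH) (Lpe (K42.f138513 IH) (Lpr_gf (K42.f571376 IH) (Lpe (K43.f193617 IH) (Lpe (K42.f569452 IH) (Lpr_dt (K45.f503130 IH) (Lpr_gt (K45.f569436 IH) (Lpr_dt (K45.f428049 IH) (Lpr_cf (K39.f556437 IH) (Lpn (LP (LK LD1_c4 LD2_c5 LD3_c39))))))))))))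
theorem f598922 : Led Lsl_et (LP (LK LD1_c6 LD2_c7 LD3_c37)) = (LP (LK LD1_c11 LD2_c57 LD3_c43)) :=
  Lre_e IH (LK LD1_c6 LD2_c7 LD3_c37) (LK LD1_c11 LD2_c57 LD3_c43) Lrfl Lrfl
theorem f712209 : Led Lsl_gf (LP (LK LD1_c17 LD2_c10 LD3_c9)) = (LP (LK LD1_c11 LD2_c57 LD3_c43)) :=
  Lgr Lrot141 (Lpe (f446047 IH) (Lpr_dt (K52.f446042 IH) (Lpr_gt (K52.f701185 IH) (Lpqs (K52.f712197 IH) (Lpe (f138411 IH) (Lpe (K8.f138436 IH) (Lpr_gt (f538394 IH) (Lpr_dt (K35.f159185 IH) (Lpr_gt (K41.f538298 IH) (Lpe (f571396 IH) (Lpr_et (f598922 IH) (Lpn (LP (LK LD1_c11 LD2_c57 LD3_c43))))))))))))))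
theorem f598937 : Led Lsl_gt (LP (LK LD1_c21 LD2_c2 LD3_c46)) = (LP (LK LD1_c11 LD2_c57 LD3_c43)) :=
  Lre_g IH (LK LD1_c21 LD2_c2 LD3_c46) (LK LD1_c11 LD2_c57 LD3_c43) Lrfl Lrfl
theorem f752698 : Led Lsl_ff (LP (LK LD1_c18 LD2_c23 LD3_c13)) = (LP (LK LD1_c21 LD2_c2 LD3_c46)) :=
  Lgr Lrot52 (Lpr_at (f752686 IH) (Lpr_gf (f712209 IH) (Lpe (f598937 IH) (Lpn (LP (LK LD1_c21 LD2_c2 LD3_c46))))))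
theorem f752702 : Led Lsl_ft (LP (LK LD1_c18 LD2_c23 LD3_c13)) = (LP (LK LD1_c21 LD2_c2 LD3_c46)) :=
  Lgr Lrot48 (Lpr_ff (f752698 IH) (Lpn (LP (LK LD1_c21 LD2_c2 LD3_c46))))
theorem f752730 : Led Lsl_bt (LP (LK LD1_c21 LD2_c2 LD3_c46)) = (LP (LK LD1_c17 LD2_c3 LD3_c22)) :=
  Lgr Lrot35 (Lpe (f752702 IH) (Lpe (f621441 IH) (Lpr_ff (f752728 IH) (Lpn (LP (LK LD1_c17 LD2_c3 LD3_c22))))))
theorem f753704 : Led Lsl_cf (LP (LK LD1_c18 LD2_c43 LD3_c14)) = (LP (LK LD1_c21 LD2_c2 LD3_c46)) :=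
  Lgr Lrot160 (Lpr_gt (f61363 IH) (Lpe (f61346 IH) (Lpr_bt (K36.f61335 IH) (Lpr_gt (K53.f61327 IH) (Lpr_ct (f723811 IH) (Lpqs (f753703 IH) (Lpr_gt (f722838 IH) (Lpe (f721546 IH) (Lpr_bt (f307998 IH) (Lpr_gt (f542466 IH) (Lpe (f752730 IH) (Lpn (LP (LK LD1_c21 LD2_c2 LD3_c46))))))))))))))
theorem f753705 : Led Lsl_ct (LP (LK LD1_c21 LD2_c2 LD3_c46)) = (LP (LK LD1_c18 LD2_c43 LD3_c14)) :=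
  Leop (Lpr_cf (f753704 IH) (Lpn (LP (LK LD1_c21 LD2_c2 LD3_c46))))
theorem seed_1086 : LEOK LG_c (LK LD1_c21 LD2_c2 LD3_c46) :=
  Leoe_c (LK LD1_c21 LD2_c2 LD3_c46) (f753705 IH)
def v16951 : LQ := Led Lsl_ft (LP (LK LD1_c6 LD2_c9 LD3_c4))
theorem f753735 : Led Lsl_ft (LP (LK LD1_c6 LD2_c9 LD3_c4)) = v16951 :=
  Lrfl
theorem f753739 : Led Lsl_ff (LP (LK LD1_c6 LD2_c9 LD3_c4)) = v16951 :=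
  Lgr Lrot3 (Lpr_ft (f753735 IH) (Lpn v16951))
theorem f268457 : Led Lsl_ff (LP (LK LD1_c2 LD2_c49 LD3_c13)) = (LP (LK LD1_c3 LD2_c0 LD3_c53)) :=
  Lgr Lrot19 (Lpr_dt (K10.f175858 IH) (Lpr_ft (K15.f268451 IH) (Lpr_dt (K15.f23933 IH) (Lpn (LP (LK LD1_c3 LD2_c0 LD3_c53))))))
theorem f180374 : Led Lsl_ft (LP (LK LD1_c5 LD2_c46 LD3_c55)) = (LP (LK LD1_c11 LD2_c23 LD3_c60)) :=
  Lre_f IH (LK LD1_c5 LD2_c46 LD3_c55) (LK LD1_c11 LD2_c23 LD3_c60) Lrfl Lrfl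
theorem f753742 : Led Lsl_et (LP (LK LD1_c11 LD2_c23 LD3_c60)) = v16951 :=
  Lgr Lrot69 (Lpe (f180374 IH) (Lpe (K32.f180365 IH) (Lpr_ff (f268457 IH) (Lpe (K55.f23943 IH) (Lpr_ff (f753739 IH) (Lpn v16951))))))
theorem f180371 : Led Lsl_ft (LP (LK LD1_c11 LD2_c23 LD3_c60)) = (LP (LK LD1_c5 LD2_c46 LD3_c55)) :=
  Lre_f IH (LK LD1_c11 LD2_c23 LD3_c60) (LK LD1_c5 LD2_c46 LD3_c55) Lrfl Lrfl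
theorem f180372 : Led Lsl_dt (LP (LK LD1_c10 LD2_c2 LD3_c50)) = (LP (LK LD1_c11 LD2_c23 LD3_c60)) :=
  Lgr Lrot60 (Lpe (K39.f180370 IH) (Lpr_df (K32.f180366 IH) (Lpe (f180371 IH) (Lpn (LP (LK LD1_c11 LD2_c23 LD3_c60))))))
theorem f180379 : Led Lsl_df (LP (LK LD1_c10 LD2_c2 LD3_c50)) = (LP (LK LD1_c11 LD2_c23 LD3_c60)) :=
  Lgr Lrot38 (Lpr_dt (f180372 IH) (Lpn (LP (LK LD1_c11 LD2_c23 LD3_c60))))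
theorem f285192 : Led Lsl_at (LP (LK LD1_c5 LD2_c5 LD3_c56)) = (LP (LK LD1_c5 LD2_c6 LD3_c52)) :=
  Lgr Lrot100 (Lpr_af (K39.f285181 IH) (Lpn (LP (LK LD1_c5 LD2_c6 LD3_c52))))
theorem f180381 : Led Lsl_ft (LP (LK LD1_c10 LD2_c2 LD3_c50)) = (LP (LK LD1_c5 LD2_c5 LD3_c56)) :=
  Lre_f IH (LK LD1_c10 LD2_c2 LD3_c50) (LK LD1_c5 LD2_c5 LD3_c56) Lrfl Lrfl
theorem f285184 : Led Lsl_gt (LP (LK LD1_c10 LD2_c4 LD3_c28)) = (LP (LK LD1_c5 LD2_c6 LD3_c52)) :=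
  Lre_g IH (LK LD1_c10 LD2_c4 LD3_c28) (LK LD1_c5 LD2_c6 LD3_c52) Lrfl Lrfl
theorem f285334 : Led Lsl_gt (LP (LK LD1_c10 LD2_c2 LD3_c50)) = (LP (LK LD1_c10 LD2_c4 LD3_c28)) :=
  Lgr Lrot5 (Lpr_ft (f180381 IH) (Lpr_at (f285192 IH) (Lpe (f285184 IH) (Lpn (LP (LK LD1_c10 LD2_c4 LD3_c28))))))
theorem f68722 : Led Lsl_et (LP (LK LD1_c1 LD2_c19 LD3_c57)) = (LP (LK LD1_c2 LD2_c47 LD3_c6)) :=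
  Lre_e IH (LK LD1_c1 LD2_c19 LD3_c57) (LK LD1_c2 LD2_c47 LD3_c6) Lrfl Lrfl
theorem f68723 : Led Lsl_gt (LP (LK LD1_c2 LD2_c47 LD3_c6)) = (LP (LK LD1_c5 LD2_c42 LD3_c17)) :=
  Lre_g IH (LK LD1_c2 LD2_c47 LD3_c6) (LK LD1_c5 LD2_c42 LD3_c17) Lrfl Lrfl
theorem f68724 : Led Lsl_et (LP (LK LD1_c11 LD2_c14 LD3_c48)) = (LP (LK LD1_c5 LD2_c42 LD3_c17)) :=
  Lre_e IH (LK LD1_c11 LD2_c14 LD3_c48) (LK LD1_c5 LD2_c42 LD3_c17) Lrfl Lrfl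
theorem f285185 : Led Lsl_dt (LP (LK LD1_c11 LD2_c14 LD3_c48)) = (LP (LK LD1_c10 LD2_c4 LD3_c28)) :=
  Lgr Lrot136 (Lpr_et (f68724 IH) (Lpe (f68723 IH) (Lpe (f68722 IH) (Lpr_dt (K10.f68599 IH) (Lpr_gf (K11.f68596 IH) (Lpe (K10.f60181 IH) (Lpe (K10.f60213 IH) (Lpe (K35.f60217 IH) (Lpr_dt (K39.f285179 IH) (Lpe (f285184 IH) (Lpn (LP (LK LD1_c10 LD2_c4 LD3_c28)))))))))))))
theorem f174304 : Led Lsl_ft (LP (LK LD1_c2 LD2_c47 LD3_c6)) = (LP (LK LD1_c5 LD2_c42 LD3_c20)) :=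
  Lre_f IH (LK LD1_c2 LD2_c47 LD3_c6) (LK LD1_c5 LD2_c42 LD3_c20) Lrfl Lrfl
theorem f281867 : Led Lsl_gt (LP (LK LD1_c5 LD2_c42 LD3_c17)) = (LP (LK LD1_c9 LD2_c2 LD3_c21)) :=
  Lgr Lrot46 (Lpe (f68723 IH) (Lpr_ft (f174304 IH) (Lpr_at (K16.f281853 IH) (Lpn (LP (LK LD1_c9 LD2_c2 LD3_c21))))))
theorem f753744 : Led Lsl_gt (LP (LK LD1_c11 LD2_c14 LD3_c46)) = v16951 :=
  Lgr Lrot131 (Lpe (K50.f68620 IH) (Lpr_dt (K50.f68619 IH) (Lpr_gf (K54.f281904 IH) (Lpe (K16.f281852 IH) (Lpe (f281867 IH) (Lpe (f68724 IH) (Lpr_dt (f285185 IH) (Lpe (f285334 IH) (Lpr_df (f180379 IH) (Lpr_et (f753742 IH) (Lpn v16951)))))))))))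
theorem f68685 : Led Lsl_et (LP (LK LD1_c16 LD2_c57 LD3_c16)) = (LP (LK LD1_c9 LD2_c5 LD3_c16)) :=
  Lre_e IH (LK LD1_c16 LD2_c57 LD3_c16) (LK LD1_c9 LD2_c5 LD3_c16) Lrfl Lrfl
theorem f408207 : Led Lsl_et (LP (LK LD1_c5 LD2_c12 LD3_c32)) = (LP (LK LD1_c10 LD2_c15 LD3_c32)) :=
  Lre_e IH (LK LD1_c5 LD2_c12 LD3_c32) (LK LD1_c10 LD2_c15 LD3_c32) Lrfl Lrfl
theorem f408208 : Led Lsl_et (LP (LK LD1_c4 LD2_c33 LD3_c53)) = (LP (LK LD1_c9 LD2_c5 LD3_c17)) :=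
  Lre_e IH (LK LD1_c4 LD2_c33 LD3_c53) (LK LD1_c9 LD2_c5 LD3_c17) Lrfl Lrfl
theorem f23088 : Led Lsl_dt (LP (LK LD1_c9 LD2_c5 LD3_c16)) = (LP (LK LD1_c4 LD2_c33 LD3_c53)) :=
  Lre_d IH (LK LD1_c9 LD2_c5 LD3_c16) (LK LD1_c4 LD2_c33 LD3_c53) Lrfl Lrfl
theorem f408209 : Led Lsl_dt (LP (LK LD1_c10 LD2_c15 LD3_c32)) = (LP (LK LD1_c16 LD2_c57 LD3_c16)) :=
  Lgr Lrot77 (Lpe (f408207 IH) (Lpr_df (K50.f408195 IH) (Lpe (f408208 IH) (Lpe (f23088 IH) (Lpe (f68685 IH) (Lpn (LP (LK LD1_c16 LD2_c57 LD3_c16))))))))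
theorem f408213 : Led Lsl_df (LP (LK LD1_c10 LD2_c15 LD3_c32)) = (LP (LK LD1_c16 LD2_c57 LD3_c16)) :=
  Lgr Lrot38 (Lpr_dt (f408209 IH) (Lpn (LP (LK LD1_c16 LD2_c57 LD3_c16))))
theorem f23965 : Led Lsl_df (LP (LK LD1_c4 LD2_c39 LD3_c25)) = (LP (LK LD1_c6 LD2_c9 LD3_c4)) :=
  Lgr Lrot38 (Lpr_dt (K55.f23944 IH) (Lpn (LP (LK LD1_c6 LD2_c9 LD3_c4))))
theorem f753741 : Led Lsl_dt (LP (LK LD1_c9 LD2_c14 LD3_c32)) = v16951 :=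
  Lgr Lrot60 (Lpe (K55.f23968 IH) (Lpr_df (f23965 IH) (Lpr_ff (f753739 IH) (Lpn v16951))))
theorem f185971 : Led Lsl_gt (LP (LK LD1_c9 LD2_c14 LD3_c24)) = (LP (LK LD1_c4 LD2_c39 LD3_c22)) :=
  Lre_g IH (LK LD1_c9 LD2_c14 LD3_c24) (LK LD1_c4 LD2_c39 LD3_c22) Lrfl Lrfl
theorem f285148 : Led Lsl_gf (LP (LK LD1_c9 LD2_c14 LD3_c24)) = (LP (LK LD1_c6 LD2_c3 LD3_c47)) :=
  Lgr Lrot47 (Lpr_gt (f185971 IH) (Lpr_af (K39.f285138 IH) (Lpe (K39.f186198 IH) (Lpn (LP (LK LD1_c6 LD2_c3 LD3_c47))))))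
theorem f285166 : Led Lsl_df (LP (LK LD1_c4 LD2_c39 LD3_c22)) = (LP (LK LD1_c5 LD2_c5 LD3_c54)) :=
  Lgr Lrot78 (Lpr_ft (K39.f268432 IH) (Lpr_dt (K39.f285162 IH) (Lpr_ft (K55.f285137 IH) (Lpn (LP (LK LD1_c5 LD2_c5 LD3_c54))))))
theorem f71286 : Led Lsl_gt (LP (LK LD1_c2 LD2_c54 LD3_c4)) = (LP (LK LD1_c5 LD2_c55 LD3_c27)) :=
  Lre_g IH (LK LD1_c2 LD2_c54 LD3_c4) (LK LD1_c5 LD2_c55 LD3_c27) Lrfl Lrfl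
theorem f185757 : Led Lsl_et (LP (LK LD1_c11 LD2_c36 LD3_c14)) = (LP (LK LD1_c5 LD2_c55 LD3_c27)) :=
  Lre_e IH (LK LD1_c11 LD2_c36 LD3_c14) (LK LD1_c5 LD2_c55 LD3_c27) Lrfl Lrfl
theorem f285169 : Led Lsl_df (LP (LK LD1_c9 LD2_c14 LD3_c24)) = (LP (LK LD1_c11 LD2_c36 LD3_c14)) :=
  Lgr Lrot170 (Lpr_gt (f185971 IH) (Lpr_df (f285166 IH) (Lpr_et (K36.f177749 IH) (Lpr_gt (K15.f185825 IH) (Lpr_dt (K15.f185752 IH) (Lpe (K10.f185747 IH) (Lpe (K10.f71296 IH) (Lpr_et (K2.f71279 IH) (Lpr_gt (f71286 IH) (Lpe (f185757 IH) (Lpn (LP (LK LD1_c11 LD2_c36 LD3_c14)))))))))))))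
theorem f285172 : Led Lsl_dt (LP (LK LD1_c9 LD2_c14 LD3_c24)) = (LP (LK LD1_c11 LD2_c36 LD3_c14)) :=
  Lgr Lrot42 (Lpr_df (f285169 IH) (Lpn (LP (LK LD1_c11 LD2_c36 LD3_c14))))
theorem f753745 : Led Lsl_gf (LP (LK LD1_c10 LD2_c15 LD3_c32)) = (LP (LK LD1_c11 LD2_c36 LD3_c14)) :=
  Lgr Lrot134 (Lpr_df (f408213 IH) (Lpr_et (f68685 IH) (Lpr_gt (K53.f68684 IH) (Lpr_ef (K50.f68676 IH) (Lpe (K53.f68671 IH) (Lpr_gt (f753744 IH) (Lpe (f753741 IH) (Lpr_et (K55.f285281 IH) (Lpe (f285148 IH) (Lpr_dt (f285172 IH) (Lpn (LP (LK LD1_c11 LD2_c36 LD3_c14)))))))))))))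
theorem f753746 : Led Lsl_gt (LP (LK LD1_c11 LD2_c36 LD3_c14)) = (LP (LK LD1_c10 LD2_c15 LD3_c32)) :=
  Leop (Lpr_gf (f753745 IH) (Lpn (LP (LK LD1_c11 LD2_c36 LD3_c14))))
theorem seed_1087 : LEOK LG_g (LK LD1_c11 LD2_c36 LD3_c14) :=
  Leoe_g (LK LD1_c11 LD2_c36 LD3_c14) (f753746 IH)
def v16976 : LQ := Led Lsl_gt (LP (LK LD1_c6 LD2_c9 LD3_c49))
theorem f753850 : Led Lsl_gt (LP (LK LD1_c6 LD2_c9 LD3_c49)) = v16976 :=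
  Lrfl
theorem f64286 : Led Lsl_et (LP (LK LD1_c3 LD2_c1 LD3_c22)) = (LP (LK LD1_c6 LD2_c9 LD3_c49)) :=
  Lre_e IH (LK LD1_c3 LD2_c1 LD3_c22) (LK LD1_c6 LD2_c9 LD3_c49) Lrfl Lrfl
theorem f87378 : Led Lsl_et (LP (LK LD1_c0 LD2_c44 LD3_c21)) = (LP (LK LD1_c0 LD2_c19 LD3_c45)) :=
  Lre_e IH (LK LD1_c0 LD2_c44 LD3_c21) (LK LD1_c0 LD2_c19 LD3_c45) Lrfl Lrfl
theorem f87379 : Led Lsl_dt (LP (LK LD1_c0 LD2_c44 LD3_c21)) = (LP (LK LD1_c1 LD2_c35 LD3_c36)) :=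
  Lre_d IH (LK LD1_c0 LD2_c44 LD3_c21) (LK LD1_c1 LD2_c35 LD3_c36) Lrfl Lrfl
theorem f87380 : Led Lsl_gt (LP (LK LD1_c3 LD2_c18 LD3_c15)) = (LP (LK LD1_c1 LD2_c35 LD3_c36)) :=
  Lre_g IH (LK LD1_c3 LD2_c18 LD3_c15) (LK LD1_c1 LD2_c35 LD3_c36) Lrfl Lrfl
def v6133 : LQ := Led Lsl_dt (LP (LK LD1_c3 LD2_c18 LD3_c15))
theorem f651434 : Led Lsl_dt (LP (LK LD1_c3 LD2_c18 LD3_c15)) = v6133 :=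
  Lrfl
theorem f651435 : Led Lsl_df (LP (LK LD1_c3 LD2_c18 LD3_c15)) = v6133 :=
  Lgr Lrot38 (Lpr_dt (f651434 IH) (Lpn v6133))
theorem f753855 : Led Lsl_et v6133 = v16976 :=
  Lgr Lrot122 (Lpe (f651435 IH) (Lpr_gt (f87380 IH) (Lpe (f87379 IH) (Lpr_et (f87378 IH) (Lpr_gt (K1.f61914 IH) (Lpr_dt (K3.f62304 IH) (Lpr_gt (K2.f87353 IH) (Lpe (K1.f63114 IH) (Lpr_et (f64286 IH) (Lpr_gt (f753850 IH) (Lpn v16976)))))))))))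
theorem f753856 : Led Lsl_ef v6133 = v16976 :=
  Lgr Lrot88 (Lpr_et (f753855 IH) (Lpn v16976))
theorem f58459 : Led Lsl_gt (LP (LK LD1_c12 LD2_c0 LD3_c39)) = (LP (LK LD1_c6 LD2_c9 LD3_c49)) :=
  Lre_g IH (LK LD1_c12 LD2_c0 LD3_c39) (LK LD1_c6 LD2_c9 LD3_c49) Lrfl Lrfl
def v7351 : LQ := Led Lsl_bt (LP (LK LD1_c3 LD2_c45 LD3_c26))
theorem f664690 : Led Lsl_bt (LP (LK LD1_c3 LD2_c45 LD3_c26)) = v7351 :=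
  Lrfl
theorem f58360 : Led Lsl_gt (LP (LK LD1_c12 LD2_c0 LD3_c41)) = (LP (LK LD1_c6 LD2_c11 LD3_c14)) :=
  Lre_g IH (LK LD1_c12 LD2_c0 LD3_c41) (LK LD1_c6 LD2_c11 LD3_c14) Lrfl Lrfl
theorem f58359 : Led Lsl_ct (LP (LK LD1_c6 LD2_c9 LD3_c53)) = (LP (LK LD1_c12 LD2_c0 LD3_c41)) :=
  Lre_c IH (LK LD1_c6 LD2_c9 LD3_c53) (LK LD1_c12 LD2_c0 LD3_c41) Lrfl Lrfl
theorem f58321 : Led Lsl_gt (LP (LK LD1_c3 LD2_c5 LD3_c58)) = (LP (LK LD1_c6 LD2_c17 LD3_c23)) :=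
  Lre_g IH (LK LD1_c3 LD2_c5 LD3_c58) (LK LD1_c6 LD2_c17 LD3_c23) Lrfl Lrfl
theorem f58361 : Led Lsl_bt (LP (LK LD1_c6 LD2_c17 LD3_c30)) = (LP (LK LD1_c3 LD2_c5 LD3_c58)) :=
  Lre_b IH (LK LD1_c6 LD2_c17 LD3_c30) (LK LD1_c3 LD2_c5 LD3_c58) Lrfl Lrfl
theorem f58362 : Led Lsl_ct (LP (LK LD1_c6 LD2_c17 LD3_c30)) = (LP (LK LD1_c12 LD2_c11 LD3_c31)) :=
  Lre_c IH (LK LD1_c6 LD2_c17 LD3_c30) (LK LD1_c12 LD2_c11 LD3_c31) Lrfl Lrfl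
theorem f66930 : Led Lsl_ct (LP (LK LD1_c3 LD2_c12 LD3_c52)) = (LP (LK LD1_c6 LD2_c29 LD3_c43)) :=
  Lre_c IH (LK LD1_c3 LD2_c12 LD3_c52) (LK LD1_c6 LD2_c29 LD3_c43) Lrfl Lrfl
theorem f58493 : Led Lsl_gt (LP (LK LD1_c1 LD2_c29 LD3_c4)) = (LP (LK LD1_c3 LD2_c5 LD3_c58)) :=
  Lre_g IH (LK LD1_c1 LD2_c29 LD3_c4) (LK LD1_c3 LD2_c5 LD3_c58) Lrfl Lrfl
theorem f444209 : Led Lsl_gf (LP (LK LD1_c6 LD2_c29 LD3_c43)) = (LP (LK LD1_c12 LD2_c11 LD3_c31)) :=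
  Lgr Lrot126 (Lpe (f66930 IH) (Lpr_bt (K1.f66927 IH) (Lpr_gt (K32.f443219 IH) (Lpr_ct (K32.f444198 IH) (Lpr_gt (K32.f58490 IH) (Lpe (K29.f25168 IH) (Lpr_bt (K1.f58368 IH) (Lpr_gt (f58493 IH) (Lpe (f58361 IH) (Lpr_ct (f58362 IH) (Lpn (LP (LK LD1_c12 LD2_c11 LD3_c31)))))))))))))
theorem f68226 : Led Lsl_at (LP (LK LD1_c12 LD2_c29 LD3_c12)) = (LP (LK LD1_c6 LD2_c29 LD3_c43)) :=
  Lre_a IH (LK LD1_c12 LD2_c29 LD3_c12) (LK LD1_c6 LD2_c29 LD3_c43) Lrfl Lrfl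
theorem f68227 : Led Lsl_ft (LP (LK LD1_c6 LD2_c29 LD3_c35)) = (LP (LK LD1_c12 LD2_c29 LD3_c12)) :=
  Lre_f IH (LK LD1_c6 LD2_c29 LD3_c35) (LK LD1_c12 LD2_c29 LD3_c12) Lrfl Lrfl
theorem f444213 : Led Lsl_gt (LP (LK LD1_c6 LD2_c29 LD3_c35)) = (LP (LK LD1_c12 LD2_c11 LD3_c31)) :=
  Lgr Lrot5 (Lpr_ft (f68227 IH) (Lpr_at (f68226 IH) (Lpr_gf (f444209 IH) (Lpn (LP (LK LD1_c12 LD2_c11 LD3_c31))))))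
theorem f79661 : Led Lsl_ct (LP (LK LD1_c3 LD2_c12 LD3_c47)) = (LP (LK LD1_c6 LD2_c29 LD3_c35)) :=
  Lre_c IH (LK LD1_c3 LD2_c12 LD3_c47) (LK LD1_c6 LD2_c29 LD3_c35) Lrfl Lrfl
theorem f66751 : Led Lsl_gt (LP (LK LD1_c6 LD2_c29 LD3_c37)) = (LP (LK LD1_c3 LD2_c12 LD3_c47)) :=
  Lre_g IH (LK LD1_c6 LD2_c29 LD3_c37) (LK LD1_c3 LD2_c12 LD3_c47) Lrfl Lrfl
theorem f670926 : v7351 = (LP (LK LD1_c6 LD2_c29 LD3_c37)) :=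
  (Llr Lrot130 (Lpe (f664690 IH) (Lpr_ct (K49.f664692 IH) (Lpq (K49.f670913 IH) (Lpe (f58360 IH) (Lpe (f58359 IH) (Lpr_bt (K1.f58332 IH) (Lpe (f58321 IH) (Lpe (f58361 IH) (Lpr_ct (f58362 IH) (Lpe (f444213 IH) (Lpe (f79661 IH) (Lpe (f66751 IH) (Lpn (LP (LK LD1_c6 LD2_c29 LD3_c37)))))))))))))))).symm
def v7350 : LQ := Led Lsl_ft (LP (LK LD1_c3 LD2_c45 LD3_c25))
theorem f664686 : Led Lsl_ft (LP (LK LD1_c3 LD2_c45 LD3_c25)) = v7350 :=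
  Lrfl
def v7347 : LQ := Led Lsl_at (LP (LK LD1_c3 LD2_c45 LD3_c25))
theorem f664677 : Led Lsl_at (LP (LK LD1_c3 LD2_c45 LD3_c25)) = v7347 :=
  Lrfl
theorem f664678 : Led Lsl_af (LP (LK LD1_c3 LD2_c45 LD3_c25)) = v7347 :=
  Lgr Lrot0 (Lpr_at (f664677 IH) (Lpn v7347))
theorem f664679 : Led Lsl_ft (LP (LK LD1_c3 LD2_c45 LD3_c26)) = v7347 :=
  Lgr Lrot2 (Lpr_gt (K49.f155074 IH) (Lpr_gt (K48.f126263 IH) (Lpr_af (f664678 IH) (Lpn v7347))))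
theorem f664687 : Led Lsl_af (LP (LK LD1_c3 LD2_c45 LD3_c26)) = v7350 :=
  Lgr Lrot45 (Lpr_ft (f664679 IH) (Lpe (f664678 IH) (Lpr_ft (f664686 IH) (Lpn v7350))))
theorem f709700 : Led Lsl_at K51.v13452 = (LP (LK LD1_c6 LD2_c33 LD3_c12)) :=
  Lgr Lrot26 (Lpr_ff (K52.f709697 IH) (Lpr_gt (K52.f112984 IH) (Lpr_gt (K51.f112981 IH) (Lpn (LP (LK LD1_c6 LD2_c33 LD3_c12))))))
theorem f709061 : Led Lsl_cf (LP (LK LD1_c6 LD2_c19 LD3_c9)) = (LP (LK LD1_c6 LD2_c33 LD3_c12)) :=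
  Lgr Lrot11 (Lpr_ct (K51.f709052 IH) (Lpn (LP (LK LD1_c6 LD2_c33 LD3_c12))))
theorem f709701 : Led Lsl_af (LP (LK LD1_c7 LD2_c31 LD3_c10)) = (LP (LK LD1_c6 LD2_c19 LD3_c9)) :=
  Lgr Lrot68 (Lpe (K51.f703111 IH) (Lpr_at (f709700 IH) (Lpe (f709061 IH) (Lpn (LP (LK LD1_c6 LD2_c19 LD3_c9))))))
def v5749 : LQ := Led Lsl_bt (LP (LK LD1_c3 LD2_c12 LD3_c50))
theorem f649189 : Led Lsl_bt (LP (LK LD1_c3 LD2_c12 LD3_c50)) = v5749 :=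
  Lrfl
theorem f649190 : Led Lsl_bf (LP (LK LD1_c3 LD2_c12 LD3_c50)) = v5749 :=
  Lgr Lrot24 (Lpr_bt (f649189 IH) (Lpn v5749))
theorem f709725 : v7347 = v5749 :=
  (Llr Lrot67 (Lpe (f664677 IH) (Lpr_bf (K51.f664683 IH) (Lpqs (K51.f708879 IH) (Lpr_af (f709701 IH) (Lpr_bf (K52.f709065 IH) (Lpq (K51.f709667 IH) (Lpe (K51.f649184 IH) (Lpr_bf (f649190 IH) (Lpn v5749)))))))))).symm
theorem f664691 : Led Lsl_bf (LP (LK LD1_c3 LD2_c45 LD3_c26)) = v7351 :=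
  Lgr Lrot24 (Lpr_bt (f664690 IH) (Lpn v7351))
def v5751 : LQ := Led Lsl_ft (LP (LK LD1_c3 LD2_c12 LD3_c50))
theorem f649195 : Led Lsl_ft (LP (LK LD1_c3 LD2_c12 LD3_c50)) = v5751 :=
  Lrfl
theorem f709726 : v7351 = v5751 :=
  (Llr Lrot61 (Lpe (f664691 IH) (Lpr_ft (f664679 IH) (Lpqs (f709725 IH) (Lpe (f649190 IH) (Lpr_ft (f649195 IH) (Lpn v5751))))))).symm
theorem f649196 : Led Lsl_af (LP (LK LD1_c3 LD2_c12 LD3_c51)) = v5751 :=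
  Lgr Lrot45 (Lpr_ft (K52.f649186 IH) (Lpe (K51.f649185 IH) (Lpr_ft (f649195 IH) (Lpn v5751))))
theorem f108716 : Led Lsl_gt (LP (LK LD1_c6 LD2_c58 LD3_c58)) = (LP (LK LD1_c3 LD2_c28 LD3_c32)) :=
  Lre_g IH (LK LD1_c6 LD2_c58 LD3_c58) (LK LD1_c3 LD2_c28 LD3_c32) Lrfl Lrfl
theorem f709223 : Led Lsl_bf (LP (LK LD1_c6 LD2_c58 LD3_c58)) = (LP (LK LD1_c6 LD2_c19 LD3_c10)) :=
  Lgr Lrot156 (Lpr_gt (f108716 IH) (Lpe (K48.f109368 IH) (Lpr_ct (K51.f148065 IH) (Lpr_gt (K48.f662701 IH) (Lpqs (K51.f662987 IH) (Lpe (K51.f208777 IH) (Lpq (K48.f662980 IH) (Lpqs (K51.f708768 IH) (Lpe (K51.f650031 IH) (Lpe (K51.f440268 IH) (Lpr_ct (K51.f127214 IH) (Lpr_gt (K52.f440271 IH) (Lpr_cf (K52.f709211 IH) (Lpn (LP (LK LD1_c6 LD2_c19 LD3_c10))))))))))))))))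
theorem f709731 : v7350 = (LP (LK LD1_c6 LD2_c58 LD3_c58)) :=
  (Llr Lrot36 (Lpe (f664687 IH) (Lpr_bt (f664690 IH) (Lpqs (f670926 IH) (Lpq (f670926 IH) (Lpqs (f709726 IH) (Lpe (f649196 IH) (Lpr_bt (K51.f649188 IH) (Lpr_at (K52.f709683 IH) (Lpe (f709223 IH) (Lpn (LP (LK LD1_c6 LD2_c58 LD3_c58))))))))))))).symm
theorem f209244 : Led Lsl_gt (LP (LK LD1_c3 LD2_c45 LD3_c28)) = (LP (LK LD1_c6 LD2_c58 LD3_c58)) :=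
  Lgr Lrot5 (Lpr_ft (K34.f209236 IH) (Lpr_at (K34.f209237 IH) (Lpe (f108716 IH) (Lpn (LP (LK LD1_c6 LD2_c58 LD3_c58))))))
theorem f506418 : Led Lsl_bf (LP (LK LD1_c3 LD2_c45 LD3_c28)) = K46.v1926 :=
  Lgr Lrot61 (Lpr_ft (K34.f209236 IH) (Lpe (K48.f209258 IH) (Lpr_ft (K46.f506416 IH) (Lpn K46.v1926))))
def v1924 : LQ := Led Lsl_ct (LP (LK LD1_c1 LD2_c31 LD3_c40))
def v8216 : LQ := Led Lsl_ft v1924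
theorem f670383 : Led Lsl_ft v1924 = v8216 :=
  Lrfl
theorem f670387 : Led Lsl_ff v1924 = v8216 :=
  Lgr Lrot3 (Lpr_ft (f670383 IH) (Lpn v8216))
theorem f506404 : Led Lsl_ct (LP (LK LD1_c1 LD2_c31 LD3_c40)) = v1924 :=
  Lrfl
theorem f506406 : Led Lsl_cf (LP (LK LD1_c1 LD2_c31 LD3_c40)) = v1924 :=
  Lgr Lrot11 (Lpr_ct (f506404 IH) (Lpn v1924))
theorem f670390 : Led Lsl_ct K46.v1926 = v8216 :=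
  Lgr Lrot40 (Lpe (K46.f506416 IH) (Lpr_cf (f506406 IH) (Lpr_ff (f670387 IH) (Lpn v8216))))
theorem f506405 : Led Lsl_af (LP (LK LD1_c3 LD2_c13 LD3_c23)) = v1924 :=
  Lgr Lrot68 (Lpr_ct (K8.f68497 IH) (Lpe (K46.f209252 IH) (Lpr_ct (f506404 IH) (Lpn v1924))))
def v5786 : LQ := Led Lsl_ft (LP (LK LD1_c3 LD2_c13 LD3_c23))
theorem f649343 : Led Lsl_ft (LP (LK LD1_c3 LD2_c13 LD3_c23)) = v5786 :=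
  Lrfl
theorem f670389 : Led Lsl_at v5786 = v8216 :=
  Lgr Lrot66 (Lpe (f649343 IH) (Lpr_af (f506405 IH) (Lpr_ff (f670387 IH) (Lpn v8216))))
def v5784 : LQ := Led Lsl_gt (LP (LK LD1_c3 LD2_c13 LD3_c23))
theorem f649340 : Led Lsl_gt (LP (LK LD1_c3 LD2_c13 LD3_c23)) = v5784 :=
  Lrfl
theorem f670393 : Led Lsl_gt v5784 = v8216 :=
  Lgr Lrot46 (Lpe (f649340 IH) (Lpr_ft (f649343 IH) (Lpr_at (f670389 IH) (Lpn v8216))))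
def v8428 : LQ := Led Lsl_gt K51.v2034
theorem f671201 : Led Lsl_gt K51.v2034 = v8428 :=
  Lrfl
theorem f709227 : Led Lsl_cf v5784 = v8428 :=
  Lgr Lrot125 (Lpr_gt (f670393 IH) (Lpe (f670390 IH) (Lpe (f506418 IH) (Lpr_gt (f209244 IH) (Lpr_bf (f709223 IH) (Lpe (K52.f709211 IH) (Lpr_gt (K52.f112984 IH) (Lpe (K52.f113007 IH) (Lpr_bt (K51.f507850 IH) (Lpr_gt (f671201 IH) (Lpn v8428)))))))))))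
theorem f68475 : Led Lsl_ct (LP (LK LD1_c1 LD2_c33 LD3_c8)) = (LP (LK LD1_c3 LD2_c13 LD3_c23)) :=
  Lre_c IH (LK LD1_c1 LD2_c33 LD3_c8) (LK LD1_c3 LD2_c13 LD3_c23) Lrfl Lrfl
def v1993 : LQ := Led Lsl_gf (LP (LK LD1_c1 LD2_c33 LD3_c8))
theorem f506783 : Led Lsl_gf (LP (LK LD1_c1 LD2_c33 LD3_c8)) = v1993 :=
  Lrfl
theorem f506784 : Led Lsl_gt K46.v1926 = v1993 :=
  Lgr Lrot5 (Lpe (K48.f506419 IH) (Lpr_at (K48.f209260 IH) (Lpr_gf (f506783 IH) (Lpn v1993))))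
theorem f670896 : (LP (LK LD1_c3 LD2_c12 LD3_c54)) = v1993 :=
  Lefun (Lecon (Lfl_gf (K48.f649207 IH)) (K48.f670892 IH)) (f506784 IH)
def v5314 : LQ := Led Lsl_gt (LP (LK LD1_c3 LD2_c5 LD3_c54))
theorem f647009 : Led Lsl_gt (LP (LK LD1_c3 LD2_c5 LD3_c54)) = v5314 :=
  Lrfl
theorem f58339 : Led Lsl_ft (LP (LK LD1_c3 LD2_c5 LD3_c54)) = (LP (LK LD1_c6 LD2_c17 LD3_c23)) :=
  Lre_f IH (LK LD1_c3 LD2_c5 LD3_c54) (LK LD1_c6 LD2_c17 LD3_c23) Lrfl Lrfl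
theorem f647010 : Led Lsl_gf (LP (LK LD1_c3 LD2_c5 LD3_c61)) = v5314 :=
  Lgr Lrot76 (Lpe (K29.f58306 IH) (Lpe (f58339 IH) (Lpr_gt (f647009 IH) (Lpn v5314))))
theorem f709229 : Led Lsl_bf v5314 = v8428 :=
  Lgr Lrot156 (Lpe (f647010 IH) (Lpe (K1.f58571 IH) (Lpe (K46.f58482 IH) (Lpr_gt (K48.f58579 IH) (Lpe (K29.f445910 IH) (Lpr_bt (K48.f445920 IH) (Lpqs (f670896 IH) (Lpe (f506783 IH) (Lpr_ct (f68475 IH) (Lpr_gt (f649340 IH) (Lpr_cf (f709227 IH) (Lpn v8428))))))))))))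
theorem f58371 : Led Lsl_bt (LP (LK LD1_c3 LD2_c1 LD3_c23)) = (LP (LK LD1_c3 LD2_c5 LD3_c54)) :=
  Lgr Lrot127 (Lpr_bf (K1.f58355 IH) (Lpn (LP (LK LD1_c3 LD2_c5 LD3_c54))))
theorem f58373 : Led Lsl_ct (LP (LK LD1_c3 LD2_c1 LD3_c23)) = (LP (LK LD1_c6 LD2_c9 LD3_c49)) :=
  Lre_c IH (LK LD1_c3 LD2_c1 LD3_c23) (LK LD1_c6 LD2_c9 LD3_c49) Lrfl Lrfl
theorem f709231 : Led Lsl_cf (LP (LK LD1_c12 LD2_c0 LD3_c39)) = (LP (LK LD1_c6 LD2_c58 LD3_c58)) :=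
  Lgr Lrot125 (Lpr_gt (f58459 IH) (Lpe (f58373 IH) (Lpr_bt (f58371 IH) (Lpr_gt (f647009 IH) (Lpr_bf (f709229 IH) (Lpe (f709227 IH) (Lpr_gt (f670393 IH) (Lpe (f670390 IH) (Lpe (f506418 IH) (Lpr_gt (f209244 IH) (Lpn (LP (LK LD1_c6 LD2_c58 LD3_c58)))))))))))))
theorem f709736 : Led Lsl_ff (LP (LK LD1_c6 LD2_c11 LD3_c13)) = (LP (LK LD1_c12 LD2_c0 LD3_c39)) :=
  Lgr Lrot23 (Lpe (K52.f664666 IH) (Lpr_ft (f664686 IH) (Lpqs (f709731 IH) (Lpe (f709231 IH) (Lpn (LP (LK LD1_c12 LD2_c0 LD3_c39)))))))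
theorem f753851 : Led Lsl_at (LP (LK LD1_c6 LD2_c11 LD3_c13)) = v16976 :=
  Lgr Lrot26 (Lpr_ff (f709736 IH) (Lpr_gt (f58459 IH) (Lpr_gt (f753850 IH) (Lpn v16976))))
theorem f753857 : Led Lsl_at v6133 = (LP (LK LD1_c12 LD2_c2 LD3_c46)) :=
  Lgr Lrot80 (Lpr_ef (f753856 IH) (Lpe (f753851 IH) (Lpe (K48.f113033 IH) (Lpn (LP (LK LD1_c12 LD2_c2 LD3_c46))))))
def v6132 : LQ := Led Lsl_ft (LP (LK LD1_c3 LD2_c18 LD3_c14))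
theorem f651426 : Led Lsl_ft (LP (LK LD1_c3 LD2_c18 LD3_c14)) = v6132 :=
  Lrfl
def v6130 : LQ := Led Lsl_at (LP (LK LD1_c3 LD2_c18 LD3_c14))
theorem f651403 : Led Lsl_at (LP (LK LD1_c3 LD2_c18 LD3_c14)) = v6130 :=
  Lrfl
theorem f651404 : Led Lsl_af (LP (LK LD1_c3 LD2_c18 LD3_c14)) = v6130 :=
  Lgr Lrot0 (Lpr_at (f651403 IH) (Lpn v6130))
theorem f651409 : Led Lsl_ft (LP (LK LD1_c3 LD2_c18 LD3_c15)) = v6130 :=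
  Lgr Lrot2 (Lpr_gt (f87380 IH) (Lpr_gt (K46.f508816 IH) (Lpr_af (f651404 IH) (Lpn v6130))))
theorem f651427 : Led Lsl_af (LP (LK LD1_c3 LD2_c18 LD3_c15)) = v6132 :=
  Lgr Lrot45 (Lpr_ft (f651409 IH) (Lpe (f651404 IH) (Lpr_ft (f651426 IH) (Lpn v6132))))
theorem f753859 : v6132 = (LP (LK LD1_c6 LD2_c36 LD3_c6)) :=
  (Llr Lrot117 (Lpe (f651427 IH) (Lpr_dt (f651434 IH) (Lpr_at (f753857 IH) (Lpe (K48.f113034 IH) (Lpn (LP (LK LD1_c6 LD2_c36 LD3_c6)))))))).symm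
theorem f753860 : Led Lsl_at (LP (LK LD1_c6 LD2_c36 LD3_c6)) = (LP (LK LD1_c3 LD2_c18 LD3_c15)) :=
  Leop (Lpr_af (f651427 IH) (Lpqs (f753859 IH) (Lpn (LP (LK LD1_c6 LD2_c36 LD3_c6)))))
theorem seed_1088 : LEOK LG_a (LK LD1_c6 LD2_c36 LD3_c6) :=
  Leoe_a (LK LD1_c6 LD2_c36 LD3_c6) (f753860 IH)
def v16978 : LQ := Led Lsl_et (LP (LK LD1_c6 LD2_c9 LD3_c51))
theorem f753939 : Led Lsl_et (LP (LK LD1_c6 LD2_c9 LD3_c51)) = v16978 :=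
  Lrfl
theorem f62174 : Led Lsl_dt (LP (LK LD1_c6 LD2_c9 LD3_c51)) = (LP (LK LD1_c12 LD2_c0 LD3_c42)) :=
  Lre_d IH (LK LD1_c6 LD2_c9 LD3_c51) (LK LD1_c12 LD2_c0 LD3_c42) Lrfl Lrfl
def v6100 : LQ := Led Lsl_et (LP (LK LD1_c3 LD2_c17 LD3_c24))
theorem f651053 : Led Lsl_et (LP (LK LD1_c3 LD2_c17 LD3_c24)) = v6100 :=
  Lrfl
theorem f651055 : Led Lsl_ef (LP (LK LD1_c3 LD2_c17 LD3_c24)) = v6100 :=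
  Lgr Lrot88 (Lpr_et (f651053 IH) (Lpn v6100))
def v5969 : LQ := Led Lsl_et (LP (LK LD1_c3 LD2_c15 LD3_c43))
theorem f650306 : Led Lsl_et (LP (LK LD1_c3 LD2_c15 LD3_c43)) = v5969 :=
  Lrfl
theorem f651056 : Led Lsl_dt v5969 = v6100 :=
  Lgr Lrot77 (Lpe (f650306 IH) (Lpe (K46.f65479 IH) (Lpe (K49.f119514 IH) (Lpe (K46.f119503 IH) (Lpr_ef (f651055 IH) (Lpn v6100))))))
theorem f650307 : Led Lsl_ef (LP (LK LD1_c3 LD2_c15 LD3_c43)) = v5969 :=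
  Lgr Lrot88 (Lpr_et (f650306 IH) (Lpn v5969))
theorem f651057 : Led Lsl_gt (LP (LK LD1_c12 LD2_c0 LD3_c42)) = v6100 :=
  Lgr Lrot139 (Lpe (f62174 IH) (Lpe (K50.f62173 IH) (Lpe (K24.f62172 IH) (Lpr_dt (K24.f62171 IH) (Lpe (K32.f62086 IH) (Lpe (K46.f62125 IH) (Lpe (K46.f62102 IH) (Lpe (K49.f62170 IH) (Lpr_ef (f650307 IH) (Lpr_dt (f651056 IH) (Lpn v6100)))))))))))
theorem f753945 : Led Lsl_gt K46.v5973 = v16978 :=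
  Lgr Lrot131 (Lpe (K46.f650322 IH) (Lpqs (K46.f651808 IH) (Lpr_dt (K35.f624113 IH) (Lpe (K35.f62129 IH) (Lpe (K46.f62100 IH) (Lpe (K49.f62170 IH) (Lpr_ef (f650307 IH) (Lpr_dt (f651056 IH) (Lpe (f651057 IH) (Lpe (f62174 IH) (Lpr_et (f753939 IH) (Lpn v16978))))))))))))
theorem f651043 : Led Lsl_df K46.v5973 = K46.v6098 :=
  Lgr Lrot78 (Lpr_ft (K46.f650999 IH) (Lpr_dt (K46.f62051 IH) (Lpr_ft (K46.f651041 IH) (Lpn K46.v6098))))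
theorem f118067 : Led Lsl_gt (LP (LK LD1_c12 LD2_c37 LD3_c6)) = (LP (LK LD1_c6 LD2_c35 LD3_c33)) :=
  Lre_g IH (LK LD1_c12 LD2_c37 LD3_c6) (LK LD1_c6 LD2_c35 LD3_c33) Lrfl Lrfl
theorem f118068 : Led Lsl_gf (LP (LK LD1_c12 LD2_c37 LD3_c6)) = (LP (LK LD1_c6 LD2_c38 LD3_c12)) :=
  Lgr Lrot47 (Lpr_gt (f118067 IH) (Lpr_af (K4.f118048 IH) (Lpe (K4.f118047 IH) (Lpn (LP (LK LD1_c6 LD2_c38 LD3_c12))))))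
theorem f118070 : Led Lsl_dt (LP (LK LD1_c12 LD2_c37 LD3_c6)) = (LP (LK LD1_c21 LD2_c43 LD3_c29)) :=
  Lre_d IH (LK LD1_c12 LD2_c37 LD3_c6) (LK LD1_c21 LD2_c43 LD3_c29) Lrfl Lrfl
theorem f434721 : Led Lsl_dt (LP (LK LD1_c12 LD2_c0 LD3_c42)) = (LP (LK LD1_c6 LD2_c9 LD3_c51)) :=
  Lre_d IH (LK LD1_c12 LD2_c0 LD3_c42) (LK LD1_c6 LD2_c9 LD3_c51) Lrfl Lrfl
theorem f114320 : Led Lsl_et (LP (LK LD1_c6 LD2_c9 LD3_c52)) = (LP (LK LD1_c3 LD2_c1 LD3_c24)) :=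
  Lre_e IH (LK LD1_c6 LD2_c9 LD3_c52) (LK LD1_c3 LD2_c1 LD3_c24) Lrfl Lrfl
theorem f58463 : Led Lsl_dt (LP (LK LD1_c6 LD2_c9 LD3_c52)) = (LP (LK LD1_c3 LD2_c1 LD3_c23)) :=
  Lre_d IH (LK LD1_c6 LD2_c9 LD3_c52) (LK LD1_c3 LD2_c1 LD3_c23) Lrfl Lrfl
theorem f58385 : Led Lsl_gt (LP (LK LD1_c6 LD2_c9 LD3_c51)) = (LP (LK LD1_c3 LD2_c1 LD3_c23)) :=
  Lre_g IH (LK LD1_c6 LD2_c9 LD3_c51) (LK LD1_c3 LD2_c1 LD3_c23) Lrfl Lrfl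
theorem f154333 : Led Lsl_et (LP (LK LD1_c1 LD2_c31 LD3_c0)) = (LP (LK LD1_c3 LD2_c9 LD3_c43)) :=
  Lre_e IH (LK LD1_c1 LD2_c31 LD3_c0) (LK LD1_c3 LD2_c9 LD3_c43) Lrfl Lrfl
theorem f154340 : Led Lsl_gt (LP (LK LD1_c3 LD2_c9 LD3_c43)) = (LP (LK LD1_c6 LD2_c24 LD3_c9)) :=
  Lre_g IH (LK LD1_c3 LD2_c9 LD3_c43) (LK LD1_c6 LD2_c24 LD3_c9) Lrfl Lrfl
theorem f434722 : Led Lsl_et (LP (LK LD1_c12 LD2_c0 LD3_c42)) = (LP (LK LD1_c6 LD2_c24 LD3_c9)) :=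
  Lgr Lrot122 (Lpr_dt (f434721 IH) (Lpr_gt (f58385 IH) (Lpe (f58463 IH) (Lpr_et (f114320 IH) (Lpr_gt (K4.f86282 IH) (Lpr_dt (K34.f155122 IH) (Lpr_gt (K7.f145652 IH) (Lpe (K46.f154335 IH) (Lpr_et (f154333 IH) (Lpr_gt (f154340 IH) (Lpn (LP (LK LD1_c6 LD2_c24 LD3_c9)))))))))))))
theorem f434724 : Led Lsl_ef (LP (LK LD1_c12 LD2_c0 LD3_c42)) = (LP (LK LD1_c6 LD2_c24 LD3_c9)) :=
  Lgr Lrot88 (Lpr_et (f434722 IH) (Lpn (LP (LK LD1_c6 LD2_c24 LD3_c9))))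
theorem f154330 : Led Lsl_dt (LP (LK LD1_c12 LD2_c21 LD3_c36)) = (LP (LK LD1_c6 LD2_c24 LD3_c9)) :=
  Lre_d IH (LK LD1_c12 LD2_c21 LD3_c36) (LK LD1_c6 LD2_c24 LD3_c9) Lrfl Lrfl
theorem f154336 : Led Lsl_et (LP (LK LD1_c3 LD2_c9 LD3_c43)) = (LP (LK LD1_c1 LD2_c31 LD3_c0)) :=
  Lre_e IH (LK LD1_c3 LD2_c9 LD3_c43) (LK LD1_c1 LD2_c31 LD3_c0) Lrfl Lrfl
theorem f154206 : Led Lsl_bt (LP (LK LD1_c1 LD2_c31 LD3_c2)) = (LP (LK LD1_c3 LD2_c9 LD3_c43)) :=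
  Lre_b IH (LK LD1_c1 LD2_c31 LD3_c2) (LK LD1_c3 LD2_c9 LD3_c43) Lrfl Lrfl
theorem f154207 : Led Lsl_bt (LP (LK LD1_c3 LD2_c9 LD3_c43)) = (LP (LK LD1_c1 LD2_c31 LD3_c2)) :=
  Lre_b IH (LK LD1_c3 LD2_c9 LD3_c43) (LK LD1_c1 LD2_c31 LD3_c2) Lrfl Lrfl
theorem f154208 : Led Lsl_dt (LP (LK LD1_c3 LD2_c9 LD3_c43)) = (LP (LK LD1_c3 LD2_c9 LD3_c43)) :=
  Lgr Lrot79 (Lpe (f154206 IH) (Lpr_df (K11.f154204 IH) (Lpe (f154207 IH) (Lpn (LP (LK LD1_c3 LD2_c9 LD3_c43))))))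
theorem f650948 : Led Lsl_ef (LP (LK LD1_c6 LD2_c37 LD3_c60)) = (LP (LK LD1_c12 LD2_c21 LD3_c36)) :=
  Lgr Lrot167 (Lpr_gt (K46.f650944 IH) (Lpr_dt (K46.f119412 IH) (Lpr_gt (K46.f62021 IH) (Lpe (K1.f61985 IH) (Lpe (K46.f61967 IH) (Lpr_gt (K7.f155201 IH) (Lpe (f154336 IH) (Lpr_dt (f154208 IH) (Lpr_gt (f154340 IH) (Lpe (f154330 IH) (Lpn (LP (LK LD1_c12 LD2_c21 LD3_c36)))))))))))))
theorem f650952 : Led Lsl_et (LP (LK LD1_c6 LD2_c37 LD3_c60)) = (LP (LK LD1_c12 LD2_c21 LD3_c36)) :=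
  Lgr Lrot87 (Lpr_ef (f650948 IH) (Lpn (LP (LK LD1_c12 LD2_c21 LD3_c36))))
theorem f753942 : Led Lsl_df (LP (LK LD1_c6 LD2_c37 LD3_c60)) = v16978 :=
  Lgr Lrot70 (Lpr_et (f650952 IH) (Lpr_dt (f154330 IH) (Lpe (f434724 IH) (Lpr_dt (f434721 IH) (Lpr_et (f753939 IH) (Lpn v16978))))))
theorem f650946 : Led Lsl_ct (LP (LK LD1_c12 LD2_c41 LD3_c51)) = (LP (LK LD1_c6 LD2_c37 LD3_c60)) :=
  Lre_c IH (LK LD1_c12 LD2_c41 LD3_c51) (LK LD1_c6 LD2_c37 LD3_c60) Lrfl Lrfl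
theorem f650958 : Led Lsl_dt (LP (LK LD1_c21 LD2_c48 LD3_c53)) = (LP (LK LD1_c12 LD2_c41 LD3_c51)) :=
  Lre_d IH (LK LD1_c21 LD2_c48 LD3_c53) (LK LD1_c12 LD2_c41 LD3_c51) Lrfl Lrfl
theorem f753947 : Led Lsl_gt (LP (LK LD1_c21 LD2_c43 LD3_c29)) = (LP (LK LD1_c21 LD2_c48 LD3_c53)) :=
  Lgr Lrot49 (Lpe (f118070 IH) (Lpr_gf (f118068 IH) (Lpe (K4.f118026 IH) (Lpr_gt (K46.f650474 IH) (Lpq (K46.f651807 IH) (Lpe (f651043 IH) (Lpr_gt (f753945 IH) (Lpe (f753942 IH) (Lpe (f650946 IH) (Lpe (f650958 IH) (Lpn (LP (LK LD1_c21 LD2_c48 LD3_c53)))))))))))))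
theorem f753948 : Led Lsl_gt (LP (LK LD1_c21 LD2_c43 LD3_c29)) = (LP (LK LD1_c21 LD2_c48 LD3_c53)) :=
  Leop (Lpe (f753947 IH) (Lpn (LP (LK LD1_c21 LD2_c43 LD3_c29))))
theorem seed_1089 : LEOK LG_g (LK LD1_c21 LD2_c43 LD3_c29) :=
  Leoe_g (LK LD1_c21 LD2_c43 LD3_c29) (f753948 IH)
theorem f650318 : Led Lsl_ef K46.v1788 = K46.v5972 :=
  Lgr Lrot88 (Lpr_et (K46.f650317 IH) (Lpn K46.v5972))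
theorem f753944 : Led Lsl_ff K46.v5972 = v16978 :=
  Lgr Lrot72 (Lpe (f650318 IH) (Lpr_ft (K49.f646725 IH) (Lpqs (K48.f663197 IH) (Lpe (K48.f646485 IH) (Lpr_ft (K50.f646752 IH) (Lpqs (K50.f663373 IH) (Lpr_et (f753939 IH) (Lpn v16978))))))))
theorem f753950 : Led Lsl_ft K46.v5972 = v16978 :=
  Lgr Lrot48 (Lpr_ff (f753944 IH) (Lpn v16978))
def v5971 : LQ := Led Lsl_gt (LP (LK LD1_c3 LD2_c15 LD3_c44))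
theorem f650315 : Led Lsl_gt (LP (LK LD1_c3 LD2_c15 LD3_c44)) = v5971 :=
  Lrfl
theorem f646754 : Led Lsl_ff (LP (LK LD1_c3 LD2_c2 LD3_c23)) = K50.v5241 :=
  Lgr Lrot3 (Lpr_ft (K50.f646752 IH) (Lpn K50.v5241))
theorem f646747 : Led Lsl_ff (LP (LK LD1_c3 LD2_c2 LD3_c24)) = K48.v5239 :=
  Lgr Lrot3 (Lpr_ft (K50.f646743 IH) (Lpn K48.v5239))
theorem f646757 : Led Lsl_at (LP (LK LD1_c3 LD2_c2 LD3_c24)) = K50.v5241 :=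
  Lgr Lrot66 (Lpr_ff (f646747 IH) (Lpe (K48.f646741 IH) (Lpr_ff (f646754 IH) (Lpn K50.v5241))))
theorem f441147 : Led Lsl_et (LP (LK LD1_c6 LD2_c11 LD3_c42)) = (LP (LK LD1_c3 LD2_c2 LD3_c24)) :=
  Lre_e IH (LK LD1_c6 LD2_c11 LD3_c42) (LK LD1_c3 LD2_c2 LD3_c24) Lrfl Lrfl
theorem f753940 : Led Lsl_af (LP (LK LD1_c6 LD2_c11 LD3_c42)) = v16978 :=
  Lgr Lrot50 (Lpr_et (f441147 IH) (Lpr_at (f646757 IH) (Lpqs (K50.f663373 IH) (Lpr_et (f753939 IH) (Lpn v16978)))))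
theorem f753951 : v5971 = (LP (LK LD1_c6 LD2_c11 LD3_c42)) :=
  (Llr Lrot46 (Lpe (f650315 IH) (Lpr_gf (K46.f650316 IH) (Lpr_ft (f753950 IH) (Lpe (f753940 IH) (Lpn (LP (LK LD1_c6 LD2_c11 LD3_c42)))))))).symm
theorem f650995 : Led Lsl_at (LP (LK LD1_c6 LD2_c34 LD3_c48)) = (LP (LK LD1_c6 LD2_c38 LD3_c6)) :=
  Lgr Lrot100 (Lpr_af (K46.f650992 IH) (Lpn (LP (LK LD1_c6 LD2_c38 LD3_c6))))
theorem f651012 : Led Lsl_gt v5971 = (LP (LK LD1_c6 LD2_c38 LD3_c6)) :=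
  Lgr Lrot46 (Lpe (f650315 IH) (Lpr_ft (K46.f508638 IH) (Lpr_at (f650995 IH) (Lpn (LP (LK LD1_c6 LD2_c38 LD3_c6))))))
theorem f753952 : Led Lsl_gt (LP (LK LD1_c6 LD2_c11 LD3_c42)) = (LP (LK LD1_c6 LD2_c38 LD3_c6)) :=
  Leop (Lpe (f651012 IH) (Lpqs (f753951 IH) (Lpn (LP (LK LD1_c6 LD2_c11 LD3_c42)))))
theorem seed_1090 : LEOK LG_g (LK LD1_c6 LD2_c11 LD3_c42) :=
  Leoe_g (LK LD1_c6 LD2_c11 LD3_c42) (f753952 IH)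
def v17001 : LQ := Led Lsl_et (LP (LK LD1_c6 LD2_c10 LD3_c18))
theorem f754122 : Led Lsl_et (LP (LK LD1_c6 LD2_c10 LD3_c18)) = v17001 :=
  Lrfl
theorem f754125 : Led Lsl_ef (LP (LK LD1_c6 LD2_c10 LD3_c18)) = v17001 :=
  Lgr Lrot88 (Lpr_et (f754122 IH) (Lpn v17001))
theorem f453909 : Led Lsl_dt (LP (LK LD1_c6 LD2_c40 LD3_c55)) = (LP (LK LD1_c3 LD2_c18 LD3_c27)) :=
  Lre_d IH (LK LD1_c6 LD2_c40 LD3_c55) (LK LD1_c3 LD2_c18 LD3_c27) Lrfl Lrfl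
def v6191 : LQ := Led Lsl_et (LP (LK LD1_c3 LD2_c18 LD3_c47))
theorem f651993 : Led Lsl_et (LP (LK LD1_c3 LD2_c18 LD3_c47)) = v6191 :=
  Lrfl
theorem f651994 : Led Lsl_ef (LP (LK LD1_c3 LD2_c18 LD3_c47)) = v6191 :=
  Lgr Lrot88 (Lpr_et (f651993 IH) (Lpn v6191))
theorem f754124 : Led Lsl_df v6191 = v17001 :=
  Lgr Lrot70 (Lpe (f651994 IH) (Lpr_dt (K49.f441158 IH) (Lpr_et (K46.f441149 IH) (Lpr_dt (K49.f103214 IH) (Lpr_et (f754122 IH) (Lpn v17001))))))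
theorem f754132 : (LP (LK LD1_c6 LD2_c37 LD3_c61)) = v6191 :=
  (Llr Lrot112 (Lpe (K46.f650928 IH) (Lpe (K46.f119400 IH) (Lpr_et (K46.f155222 IH) (Lpqs (K49.f678502 IH) (Lpe (K49.f624544 IH) (Lpe (K24.f453905 IH) (Lpr_dt (K32.f130874 IH) (Lpe (K32.f453908 IH) (Lpe (f453909 IH) (Lpe (K49.f678538 IH) (Lpqs (K49.f663219 IH) (Lpr_ef (f754125 IH) (Lpe (f754124 IH) (Lpn v6191))))))))))))))).symm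
theorem f754133 : Led Lsl_et (LP (LK LD1_c6 LD2_c37 LD3_c61)) = (LP (LK LD1_c3 LD2_c18 LD3_c47)) :=
  Leop (Lpr_ef (f651994 IH) (Lpq (f754132 IH) (Lpn (LP (LK LD1_c6 LD2_c37 LD3_c61)))))
theorem seed_1091 : LEOK LG_e (LK LD1_c6 LD2_c37 LD3_c61) :=
  Leoe_e (LK LD1_c6 LD2_c37 LD3_c61) (f754133 IH)
theorem f441161 : Led Lsl_dt (LP (LK LD1_c6 LD2_c10 LD3_c18)) = (LP (LK LD1_c3 LD2_c1 LD3_c45)) :=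
  Lre_d IH (LK LD1_c6 LD2_c10 LD3_c18) (LK LD1_c3 LD2_c1 LD3_c45) Lrfl Lrfl
theorem f754127 : Led Lsl_gf K46.v5973 = v17001 :=
  Lgr Lrot141 (Lpe (K46.f650322 IH) (Lpqs (K46.f651808 IH) (Lpr_dt (K35.f624113 IH) (Lpe (K35.f624115 IH) (Lpe (K24.f453915 IH) (Lpr_et (K35.f441540 IH) (Lpr_gt (K32.f62965 IH) (Lpr_dt (K46.f110218 IH) (Lpr_gt (K46.f103213 IH) (Lpe (f441161 IH) (Lpr_et (f754122 IH) (Lpn v17001))))))))))))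
theorem f754128 : Led Lsl_gt (LP (LK LD1_c6 LD2_c34 LD3_c48)) = v17001 :=
  Lgr Lrot5 (Lpr_ft (K46.f508635 IH) (Lpr_at (K46.f650319 IH) (Lpr_gf (f754127 IH) (Lpn v17001))))
theorem f650988 : Led Lsl_df (LP (LK LD1_c6 LD2_c34 LD3_c48)) = K46.v6095 :=
  Lgr Lrot78 (Lpr_ft (K46.f508635 IH) (Lpr_dt (K46.f66063 IH) (Lpr_ft (K46.f650987 IH) (Lpn K46.v6095))))
theorem f118086 : Led Lsl_gt (LP (LK LD1_c6 LD2_c35 LD3_c33)) = (LP (LK LD1_c12 LD2_c37 LD3_c5)) :=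
  Lre_g IH (LK LD1_c6 LD2_c35 LD3_c33) (LK LD1_c12 LD2_c37 LD3_c5) Lrfl Lrfl
theorem f118090 : Led Lsl_dt (LP (LK LD1_c12 LD2_c37 LD3_c5)) = (LP (LK LD1_c21 LD2_c43 LD3_c27)) :=
  Lre_d IH (LK LD1_c12 LD2_c37 LD3_c5) (LK LD1_c21 LD2_c43 LD3_c27) Lrfl Lrfl
theorem f118267 : Led Lsl_ct (LP (LK LD1_c12 LD2_c41 LD3_c52)) = (LP (LK LD1_c6 LD2_c37 LD3_c61)) :=
  Lre_c IH (LK LD1_c12 LD2_c41 LD3_c52) (LK LD1_c6 LD2_c37 LD3_c61) Lrfl Lrfl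
theorem f650930 : Led Lsl_dt (LP (LK LD1_c21 LD2_c48 LD3_c54)) = (LP (LK LD1_c12 LD2_c41 LD3_c52)) :=
  Lre_d IH (LK LD1_c21 LD2_c48 LD3_c54) (LK LD1_c12 LD2_c41 LD3_c52) Lrfl Lrfl
theorem f754139 : Led Lsl_gt (LP (LK LD1_c21 LD2_c43 LD3_c27)) = (LP (LK LD1_c21 LD2_c48 LD3_c54)) :=
  Lgr Lrot49 (Lpe (f118090 IH) (Lpe (f118086 IH) (Lpe (K4.f118033 IH) (Lpr_gt (K46.f118245 IH) (Lpq (K46.f651744 IH) (Lpe (f650988 IH) (Lpr_gt (f754128 IH) (Lpe (f754124 IH) (Lpq (f754132 IH) (Lpe (f118267 IH) (Lpe (f650930 IH) (Lpn (LP (LK LD1_c21 LD2_c48 LD3_c54))))))))))))))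
theorem f754140 : Led Lsl_gt (LP (LK LD1_c21 LD2_c43 LD3_c27)) = (LP (LK LD1_c21 LD2_c48 LD3_c54)) :=
  Leop (Lpe (f754139 IH) (Lpn (LP (LK LD1_c21 LD2_c43 LD3_c27))))
theorem seed_1092 : LEOK LG_g (LK LD1_c21 LD2_c43 LD3_c27) :=
  Leoe_g (LK LD1_c21 LD2_c43 LD3_c27) (f754140 IH)
def v7326 : LQ := Led Lsl_gf (LP (LK LD1_c3 LD2_c45 LD3_c6))
theorem f664578 : Led Lsl_gf (LP (LK LD1_c3 LD2_c45 LD3_c6)) = v7326 :=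
  Lrfl
def v6177 : LQ := Led Lsl_at (LP (LK LD1_c3 LD2_c18 LD3_c42))
theorem f651653 : Led Lsl_at (LP (LK LD1_c3 LD2_c18 LD3_c42)) = v6177 :=
  Lrfl
theorem f441180 : Led Lsl_ct (LP (LK LD1_c1 LD2_c35 LD3_c47)) = (LP (LK LD1_c3 LD2_c18 LD3_c42)) :=
  Lre_c IH (LK LD1_c1 LD2_c35 LD3_c47) (LK LD1_c3 LD2_c18 LD3_c42) Lrfl Lrfl
theorem f651655 : Led Lsl_cf K46.v2112 = v6177 :=
  Lgr Lrot1 (Lpe (K46.f509052 IH) (Lpr_ct (f441180 IH) (Lpr_at (f651653 IH) (Lpn v6177))))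
theorem f114240 : Led Lsl_ct (LP (LK LD1_c1 LD2_c35 LD3_c48)) = (LP (LK LD1_c3 LD2_c18 LD3_c44)) :=
  Lre_c IH (LK LD1_c1 LD2_c35 LD3_c48) (LK LD1_c3 LD2_c18 LD3_c44) Lrfl Lrfl
theorem f651657 : Led Lsl_ft (LP (LK LD1_c3 LD2_c18 LD3_c44)) = v6177 :=
  Lgr Lrot4 (Lpe (f114240 IH) (Lpr_ff (K46.f509056 IH) (Lpr_cf (f651655 IH) (Lpn v6177))))
theorem f651654 : Led Lsl_af (LP (LK LD1_c3 LD2_c18 LD3_c42)) = v6177 :=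
  Lgr Lrot0 (Lpr_at (f651653 IH) (Lpn v6177))
def v6176 : LQ := Led Lsl_gf (LP (LK LD1_c3 LD2_c18 LD3_c42))
theorem f651650 : Led Lsl_gf (LP (LK LD1_c3 LD2_c18 LD3_c42)) = v6176 :=
  Lrfl
theorem f651659 : Led Lsl_gt (LP (LK LD1_c3 LD2_c18 LD3_c44)) = v6176 :=
  Lgr Lrot5 (Lpr_ft (f651657 IH) (Lpe (f651654 IH) (Lpr_gf (f651650 IH) (Lpn v6176))))
theorem f114194 : Led Lsl_gt (LP (LK LD1_c7 LD2_c31 LD3_c2)) = (LP (LK LD1_c6 LD2_c41 LD3_c34)) :=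
  Lgr Lrot49 (Lpe (K6.f105669 IH) (Lpr_gf (K5.f114162 IH) (Lpe (K4.f114161 IH) (Lpr_gt (K7.f12167 IH) (Lpr_dt (K11.f12166 IH) (Lpr_gt (K3.f7445 IH) (Lpr_dt (K4.f7446 IH) (Lpe (K5.f113942 IH) (Lpe (K34.f114193 IH) (Lpn (LP (LK LD1_c6 LD2_c41 LD3_c34))))))))))))
theorem f114207 : Led Lsl_et (LP (LK LD1_c3 LD2_c45 LD3_c8)) = (LP (LK LD1_c7 LD2_c31 LD3_c0)) :=
  Lre_e IH (LK LD1_c3 LD2_c45 LD3_c8) (LK LD1_c7 LD2_c31 LD3_c0) Lrfl Lrfl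
theorem f650931 : Led Lsl_dt (LP (LK LD1_c12 LD2_c41 LD3_c52)) = (LP (LK LD1_c21 LD2_c48 LD3_c54)) :=
  Lre_d IH (LK LD1_c12 LD2_c41 LD3_c52) (LK LD1_c21 LD2_c48 LD3_c54) Lrfl Lrfl
theorem f441166 : Led Lsl_ct (LP (LK LD1_c6 LD2_c41 LD3_c24)) = (LP (LK LD1_c3 LD2_c18 LD3_c47)) :=
  Lre_c IH (LK LD1_c6 LD2_c41 LD3_c24) (LK LD1_c3 LD2_c18 LD3_c47) Lrfl Lrfl
theorem f118265 : Led Lsl_ct (LP (LK LD1_c6 LD2_c37 LD3_c61)) = (LP (LK LD1_c12 LD2_c41 LD3_c52)) :=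
  Lre_c IH (LK LD1_c6 LD2_c37 LD3_c61) (LK LD1_c12 LD2_c41 LD3_c52) Lrfl Lrfl
theorem f754135 : Led Lsl_ef (LP (LK LD1_c6 LD2_c41 LD3_c24)) = (LP (LK LD1_c12 LD2_c41 LD3_c52)) :=
  Lgr Lrot28 (Lpr_ct (f441166 IH) (Lpr_et (f651993 IH) (Lpq (f754132 IH) (Lpr_ct (f118265 IH) (Lpn (LP (LK LD1_c12 LD2_c41 LD3_c52)))))))
theorem f754142 : Led Lsl_gf (LP (LK LD1_c7 LD2_c31 LD3_c0)) = (LP (LK LD1_c6 LD2_c41 LD3_c24)) :=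
  Lgr Lrot141 (Lpe (f114207 IH) (Lpr_dt (K6.f105669 IH) (Lpr_gt (f114194 IH) (Lpe (K7.f114199 IH) (Lpe (K7.f119226 IH) (Lpr_gt (f118086 IH) (Lpr_dt (f118090 IH) (Lpr_gt (f754139 IH) (Lpe (f650931 IH) (Lpe (f754135 IH) (Lpn (LP (LK LD1_c6 LD2_c41 LD3_c24)))))))))))))
theorem f12481 : Led Lsl_dt (LP (LK LD1_c3 LD2_c45 LD3_c7)) = (LP (LK LD1_c1 LD2_c49 LD3_c40)) :=
  Lre_d IH (LK LD1_c3 LD2_c45 LD3_c7) (LK LD1_c1 LD2_c49 LD3_c40) Lrfl Lrfl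
theorem f441156 : Led Lsl_ct (LP (LK LD1_c3 LD2_c18 LD3_c47)) = (LP (LK LD1_c6 LD2_c41 LD3_c24)) :=
  Lre_c IH (LK LD1_c3 LD2_c18 LD3_c47) (LK LD1_c6 LD2_c41 LD3_c24) Lrfl Lrfl
theorem f441168 : Led Lsl_gt (LP (LK LD1_c6 LD2_c33 LD3_c50)) = (LP (LK LD1_c3 LD2_c18 LD3_c47)) :=
  Lre_g IH (LK LD1_c6 LD2_c33 LD3_c50) (LK LD1_c3 LD2_c18 LD3_c47) Lrfl Lrfl
theorem f754146 : v7326 = (LP (LK LD1_c3 LD2_c18 LD3_c44)) :=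
  (Llr Lrot104 (Lpe (f664578 IH) (Lpr_ct (K7.f12478 IH) (Lpe (f12481 IH) (Lpe (K6.f12460 IH) (Lpr_gf (f754142 IH) (Lpe (f441156 IH) (Lpe (f441168 IH) (Lpe (K46.f441169 IH) (Lpr_gt (K46.f434170 IH) (Lpr_ct (f114240 IH) (Lpn (LP (LK LD1_c3 LD2_c18 LD3_c44)))))))))))))).symm
theorem f754147 : (LP (LK LD1_c3 LD2_c45 LD3_c6)) = v6176 :=
  Lefun (Lecon (Lfl_gf (f664578 IH)) (f754146 IH)) (f651659 IH)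
theorem f754151 : Led Lsl_gt (LP (LK LD1_c3 LD2_c45 LD3_c6)) = (LP (LK LD1_c3 LD2_c18 LD3_c42)) :=
  Leop (Lpr_gf (f651650 IH) (Lpq (f754147 IH) (Lpn (LP (LK LD1_c3 LD2_c45 LD3_c6)))))
theorem seed_1093 : LEOK LG_g (LK LD1_c3 LD2_c45 LD3_c6) :=
  Leoe_g (LK LD1_c3 LD2_c45 LD3_c6) (f754151 IH)
def v1297 : LQ := Led Lsl_et (LP (LK LD1_c1 LD2_c6 LD3_c3))
theorem f494688 : Led Lsl_et (LP (LK LD1_c1 LD2_c6 LD3_c3)) = v1297 :=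
  Lrfl
theorem f494691 : Led Lsl_ef (LP (LK LD1_c1 LD2_c6 LD3_c3)) = v1297 :=
  Lgr Lrot88 (Lpr_et (f494688 IH) (Lpn v1297))
def v790 : LQ := Led Lsl_et (LP (LK LD1_c0 LD2_c50 LD3_c53))
theorem f459397 : Led Lsl_et (LP (LK LD1_c0 LD2_c50 LD3_c53)) = v790 :=
  Lrfl
theorem f494693 : Led Lsl_bt v790 = v1297 :=
  Lgr Lrot119 (Lpe (f459397 IH) (Lpe (K4.f124114 IH) (Lpr_ef (f494691 IH) (Lpn v1297))))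
def v2545 : LQ := Led Lsl_et (LP (LK LD1_c1 LD2_c48 LD3_c14))
theorem f527303 : Led Lsl_et (LP (LK LD1_c1 LD2_c48 LD3_c14)) = v2545 :=
  Lrfl
theorem f527306 : Led Lsl_ef (LP (LK LD1_c1 LD2_c48 LD3_c14)) = v2545 :=
  Lgr Lrot88 (Lpr_et (f527303 IH) (Lpn v2545))
theorem f527308 : Led Lsl_ct v790 = v2545 :=
  Lgr Lrot15 (Lpe (f459397 IH) (Lpe (K5.f124131 IH) (Lpr_ef (f527306 IH) (Lpn v2545))))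
def v9226 : LQ := Led Lsl_gt v2545
theorem f674760 : Led Lsl_gt v2545 = v9226 :=
  Lrfl
def v7800 : LQ := Led Lsl_gf v1297
theorem f668471 : Led Lsl_gf v1297 = v7800 :=
  Lrfl
def v3214 : LQ := Led Lsl_bt K24.v573
def v10167 : LQ := Led Lsl_gf v3214
theorem f679045 : Led Lsl_gf v3214 = v10167 :=
  Lrfl
theorem f126340 : Led Lsl_af (LP (LK LD1_c0 LD2_c42 LD3_c28)) = (LP (LK LD1_c1 LD2_c6 LD3_c3)) :=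
  Lgr Lrot36 (Lpr_bt (K5.f79115 IH) (Lpr_at (K5.f126336 IH) (Lpe (K4.f12410 IH) (Lpr_at (K5.f125572 IH) (Lpe (K5.f124119 IH) (Lpn (LP (LK LD1_c1 LD2_c6 LD3_c3))))))))
def v488 : LQ := Led Lsl_et (LP (LK LD1_c0 LD2_c42 LD3_c28))
theorem f453591 : Led Lsl_et (LP (LK LD1_c0 LD2_c42 LD3_c28)) = v488 :=
  Lrfl
theorem f494692 : Led Lsl_at v488 = v1297 :=
  Lgr Lrot80 (Lpe (f453591 IH) (Lpr_af (f126340 IH) (Lpr_ef (f494691 IH) (Lpn v1297))))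
def v3063 : LQ := Led Lsl_ft v488
theorem f622722 : Led Lsl_ft v488 = v3063 :=
  Lrfl
theorem f622724 : Led Lsl_ff v488 = v3063 :=
  Lgr Lrot3 (Lpr_ft (f622722 IH) (Lpn v3063))
theorem f668472 : Led Lsl_gt v3063 = v7800 :=
  Lgr Lrot5 (Lpe (f622724 IH) (Lpr_at (f494692 IH) (Lpr_gf (f668471 IH) (Lpn v7800))))
theorem f624632 : Led Lsl_bt K24.v573 = v3214 :=
  Lrfl
def v6175 : LQ := Led Lsl_gt (LP (LK LD1_c3 LD2_c18 LD3_c42))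
theorem f651646 : Led Lsl_gt (LP (LK LD1_c3 LD2_c18 LD3_c42)) = v6175 :=
  Lrfl
theorem f79122 : Led Lsl_et (LP (LK LD1_c1 LD2_c34 LD3_c61)) = (LP (LK LD1_c3 LD2_c16 LD3_c39)) :=
  Lre_e IH (LK LD1_c1 LD2_c34 LD3_c61) (LK LD1_c3 LD2_c16 LD3_c39) Lrfl Lrfl
theorem f96633 : Led Lsl_et (LP (LK LD1_c3 LD2_c45 LD3_c6)) = (LP (LK LD1_c1 LD2_c49 LD3_c39)) :=
  Lre_e IH (LK LD1_c3 LD2_c45 LD3_c6) (LK LD1_c1 LD2_c49 LD3_c39) Lrfl Lrfl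
theorem f126350 : Led Lsl_at (LP (LK LD1_c3 LD2_c16 LD3_c39)) = (LP (LK LD1_c3 LD2_c45 LD3_c6)) :=
  Lgr Lrot80 (Lpe (f79122 IH) (Lpr_af (K5.f126342 IH) (Lpe (f96633 IH) (Lpn (LP (LK LD1_c3 LD2_c45 LD3_c6))))))
def v6033 : LQ := Led Lsl_ft (LP (LK LD1_c3 LD2_c16 LD3_c39))
theorem f650640 : Led Lsl_ft (LP (LK LD1_c3 LD2_c16 LD3_c39)) = v6033 :=
  Lrfl
theorem f650642 : Led Lsl_ff (LP (LK LD1_c3 LD2_c16 LD3_c39)) = v6033 :=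
  Lgr Lrot3 (Lpr_ft (f650640 IH) (Lpn v6033))
theorem f664579 : Led Lsl_gt v6033 = v7326 :=
  Lgr Lrot5 (Lpe (f650642 IH) (Lpr_at (f126350 IH) (Lpr_gf (f664578 IH) (Lpn v7326))))
def v6179 : LQ := Led Lsl_ft (LP (LK LD1_c3 LD2_c18 LD3_c42))
theorem f651669 : Led Lsl_ft (LP (LK LD1_c3 LD2_c18 LD3_c42)) = v6179 :=
  Lrfl
theorem f651670 : Led Lsl_af (LP (LK LD1_c3 LD2_c18 LD3_c44)) = v6179 :=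
  Lgr Lrot45 (Lpr_ft (f651657 IH) (Lpe (f651654 IH) (Lpr_ft (f651669 IH) (Lpn v6179))))
theorem f651673 : Led Lsl_gt v6175 = (LP (LK LD1_c3 LD2_c18 LD3_c44)) :=
  Lgr Lrot46 (Lpe (f651646 IH) (Lpr_ft (f651669 IH) (Lpe (f651670 IH) (Lpn (LP (LK LD1_c3 LD2_c18 LD3_c44))))))
theorem f754149 : v6033 = v6175 :=
  Lefun (Lecon (Lfl_gt (f664579 IH)) (f754146 IH)) (Lfl_gt (f651673 IH))
def v1933 : LQ := Led Lsl_et (LP (LK LD1_c1 LD2_c31 LD3_c46))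
def v8229 : LQ := Led Lsl_ft v1933
theorem f670449 : Led Lsl_ft v1933 = v8229 :=
  Lrfl
theorem f506454 : Led Lsl_et (LP (LK LD1_c1 LD2_c31 LD3_c46)) = v1933 :=
  Lrfl
theorem f506458 : Led Lsl_ef (LP (LK LD1_c1 LD2_c31 LD3_c46)) = v1933 :=
  Lgr Lrot88 (Lpr_et (f506454 IH) (Lpn v1933))
theorem f506461 : Led Lsl_ct (LP (LK LD1_c3 LD2_c16 LD3_c39)) = v1933 :=
  Lgr Lrot15 (Lpe (f79122 IH) (Lpe (K2.f79113 IH) (Lpr_ef (f506458 IH) (Lpn v1933))))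
theorem f670452 : Led Lsl_cf v6033 = v8229 :=
  Lgr Lrot108 (Lpe (f650642 IH) (Lpr_ct (f506461 IH) (Lpr_ft (f670449 IH) (Lpn v8229))))
theorem f506460 : Led Lsl_bt v488 = v1933 :=
  Lgr Lrot119 (Lpe (f453591 IH) (Lpe (K2.f61253 IH) (Lpr_ef (f506458 IH) (Lpn v1933))))
theorem f670451 : Led Lsl_bf v3063 = v8229 :=
  Lgr Lrot61 (Lpe (f622724 IH) (Lpr_bt (f506460 IH) (Lpr_ft (f670449 IH) (Lpn v8229))))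
theorem f754156 : v10167 = v3063 :=
  (Llr Lrot124 (Lpe (f679045 IH) (Lpe (f624632 IH) (Lpe (K24.f454830 IH) (Lpr_gt (K24.f174605 IH) (Lpe (K32.f23248 IH) (Lpr_bt (K51.f140115 IH) (Lpr_gt (K46.f439798 IH) (Lpr_ct (f441180 IH) (Lpr_gt (f651646 IH) (Lpq (f754149 IH) (Lpr_cf (f670452 IH) (Lpe (f670451 IH) (Lpn v3063)))))))))))))).symm
theorem f754157 : v3214 = v7800 :=
  Lefun (Lecon (Lfl_gf (f679045 IH)) (f754156 IH)) (f668472 IH)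
theorem f415743 : Led Lsl_bt (LP (LK LD1_c1 LD2_c37 LD3_c16)) = (LP (LK LD1_c0 LD2_c44 LD3_c61)) :=
  Lre_b IH (LK LD1_c1 LD2_c37 LD3_c16) (LK LD1_c0 LD2_c44 LD3_c61) Lrfl Lrfl
theorem f415645 : Led Lsl_ct (LP (LK LD1_c1 LD2_c37 LD3_c16)) = (LP (LK LD1_c3 LD2_c21 LD3_c59)) :=
  Lre_c IH (LK LD1_c1 LD2_c37 LD3_c16) (LK LD1_c3 LD2_c21 LD3_c59) Lrfl Lrfl
theorem f754161 : v9226 = (LP (LK LD1_c3 LD2_c21 LD3_c59)) :=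
  (Llr Lrot65 (Lpe (f674760 IH) (Lpe (f527308 IH) (Lpr_bt (f494693 IH) (Lpr_gf (f668471 IH) (Lpq (f754157 IH) (Lpe (f624632 IH) (Lpe (K24.f454830 IH) (Lpe (K24.f140933 IH) (Lpe (K32.f140112 IH) (Lpe (K0.f23255 IH) (Lpe (f415743 IH) (Lpr_ct (f415645 IH) (Lpn (LP (LK LD1_c3 LD2_c21 LD3_c59)))))))))))))))).symm
def v9229 : LQ := Led Lsl_ft v2545
theorem f674769 : Led Lsl_ft v2545 = v9229 :=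
  Lrfl
theorem f129261 : Led Lsl_ff (LP (LK LD1_c1 LD2_c48 LD3_c14)) = (LP (LK LD1_c1 LD2_c35 LD3_c61)) :=
  Lgr Lrot3 (Lpr_ft (K5.f129253 IH) (Lpn (LP (LK LD1_c1 LD2_c35 LD3_c61))))
theorem f146840 : Led Lsl_af (LP (LK LD1_c1 LD2_c35 LD3_c60)) = (LP (LK LD1_c1 LD2_c48 LD3_c14)) :=
  Lgr Lrot109 (Lpe (K1.f66453 IH) (Lpe (K4.f12489 IH) (Lpe (K1.f12339 IH) (Lpe (K5.f12405 IH) (Lpe (K4.f12359 IH) (Lpe (K6.f12365 IH) (Lpr_cf (K6.f146832 IH) (Lpr_df (K6.f144139 IH) (Lpe (f129261 IH) (Lpn (LP (LK LD1_c1 LD2_c48 LD3_c14))))))))))))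
theorem f527307 : Led Lsl_at (LP (LK LD1_c3 LD2_c19 LD3_c2)) = v2545 :=
  Lgr Lrot80 (Lpe (K7.f66464 IH) (Lpr_af (f146840 IH) (Lpr_ef (f527306 IH) (Lpn v2545))))
theorem f66480 : Led Lsl_ft (LP (LK LD1_c6 LD2_c42 LD3_c7)) = (LP (LK LD1_c3 LD2_c19 LD3_c2)) :=
  Lre_f IH (LK LD1_c6 LD2_c42 LD3_c7) (LK LD1_c3 LD2_c19 LD3_c2) Lrfl Lrfl
theorem f674770 : Led Lsl_af (LP (LK LD1_c6 LD2_c42 LD3_c7)) = v9229 :=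
  Lgr Lrot45 (Lpr_ft (f66480 IH) (Lpr_at (f527307 IH) (Lpr_ft (f674769 IH) (Lpn v9229))))
theorem f674774 : Led Lsl_gt v9226 = (LP (LK LD1_c6 LD2_c42 LD3_c7)) :=
  Lgr Lrot46 (Lpe (f674760 IH) (Lpr_ft (f674769 IH) (Lpe (f674770 IH) (Lpn (LP (LK LD1_c6 LD2_c42 LD3_c7))))))
theorem f754163 : Led Lsl_gt (LP (LK LD1_c3 LD2_c21 LD3_c59)) = (LP (LK LD1_c6 LD2_c42 LD3_c7)) :=
  Leop (Lpe (f674774 IH) (Lpqs (f754161 IH) (Lpn (LP (LK LD1_c3 LD2_c21 LD3_c59)))))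
theorem seed_1094 : LEOK LG_g (LK LD1_c3 LD2_c21 LD3_c59) :=
  Leoe_g (LK LD1_c3 LD2_c21 LD3_c59) (f754163 IH)
def v6031 : LQ := Led Lsl_gt (LP (LK LD1_c3 LD2_c16 LD3_c39))
theorem f650638 : Led Lsl_gt (LP (LK LD1_c3 LD2_c16 LD3_c39)) = v6031 :=
  Lrfl
def v3376 : LQ := Led Lsl_gf v790
theorem f625376 : Led Lsl_gf v790 = v3376 :=
  Lrfl
def v10544 : LQ := Led Lsl_bt v3376
theorem f680814 : Led Lsl_bt v3376 = v10544 :=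
  Lrfl
theorem f680815 : Led Lsl_bf v3376 = v10544 :=
  Lgr Lrot24 (Lpr_bt (f680814 IH) (Lpn v10544))
def v13495 : LQ := Led Lsl_gf (LP (LK LD1_c4 LD2_c44 LD3_c29))
theorem f703294 : Led Lsl_gf (LP (LK LD1_c4 LD2_c44 LD3_c29)) = v13495 :=
  Lrfl
theorem f703296 : Led Lsl_gt (LP (LK LD1_c4 LD2_c47 LD3_c11)) = v13495 :=
  Lgr Lrot5 (Lpr_ft (K50.f703295 IH) (Lpr_at (K50.f633331 IH) (Lpr_gf (f703294 IH) (Lpn v13495))))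
theorem f712648 : Led Lsl_bt (LP (LK LD1_c6 LD2_c19 LD3_c52)) = (LP (LK LD1_c12 LD2_c14 LD3_c34)) :=
  Lre_b IH (LK LD1_c6 LD2_c19 LD3_c52) (LK LD1_c12 LD2_c14 LD3_c34) Lrfl Lrfl
theorem f650140 : Led Lsl_bt (LP (LK LD1_c12 LD2_c34 LD3_c25)) = (LP (LK LD1_c6 LD2_c33 LD3_c44)) :=
  Lre_b IH (LK LD1_c12 LD2_c34 LD3_c25) (LK LD1_c6 LD2_c33 LD3_c44) Lrfl Lrfl
def v5938 : LQ := Led Lsl_bt (LP (LK LD1_c3 LD2_c15 LD3_c9))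
theorem f650138 : Led Lsl_bt (LP (LK LD1_c3 LD2_c15 LD3_c9)) = v5938 :=
  Lrfl
theorem f712649 : Led Lsl_cf (LP (LK LD1_c6 LD2_c19 LD3_c52)) = v5938 :=
  Lgr Lrot97 (Lpr_bt (f712648 IH) (Lpr_ct (K52.f712644 IH) (Lpr_bt (f650140 IH) (Lpr_ct (K52.f62066 IH) (Lpr_bt (f650138 IH) (Lpn v5938))))))
theorem f702355 : Led Lsl_ct K51.v4313 = K52.v13326 :=
  Lgr Lrot40 (Lpe (K51.f632599 IH) (Lpe (K51.f126965 IH) (Lpr_ff (K52.f702352 IH) (Lpn K52.v13326))))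
theorem f702334 : Led Lsl_ff (LP (LK LD1_c4 LD2_c43 LD3_c7)) = K51.v13322 :=
  Lgr Lrot3 (Lpr_ft (K51.f702330 IH) (Lpn K51.v13322))
theorem f702337 : Led Lsl_bt K51.v4313 = K51.v13322 :=
  Lgr Lrot35 (Lpe (K51.f632599 IH) (Lpe (K51.f126962 IH) (Lpr_ff (f702334 IH) (Lpn K51.v13322))))
def v13503 : LQ := Led Lsl_gf (LP (LK LD1_c4 LD2_c44 LD3_c35))
theorem f703381 : Led Lsl_gf (LP (LK LD1_c4 LD2_c44 LD3_c35)) = v13503 :=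
  Lrfl
theorem f126963 : Led Lsl_dt (LP (LK LD1_c6 LD2_c20 LD3_c60)) = (LP (LK LD1_c4 LD2_c43 LD3_c7)) :=
  Lgr Lrot79 (Lpe (K52.f126961 IH) (Lpr_df (K5.f126957 IH) (Lpe (K51.f126962 IH) (Lpn (LP (LK LD1_c4 LD2_c43 LD3_c7))))))
theorem f136142 : Led Lsl_af (LP (LK LD1_c4 LD2_c44 LD3_c35)) = (LP (LK LD1_c4 LD2_c43 LD3_c7)) :=
  Lgr Lrot117 (Lpr_dt (K2.f23520 IH) (Lpr_at (K52.f136086 IH) (Lpr_dt (f126963 IH) (Lpn (LP (LK LD1_c4 LD2_c43 LD3_c7))))))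
theorem f703382 : Led Lsl_gt K51.v13322 = v13503 :=
  Lgr Lrot5 (Lpe (f702334 IH) (Lpe (f136142 IH) (Lpr_gf (f703381 IH) (Lpn v13503))))
theorem f650139 : Led Lsl_bf (LP (LK LD1_c3 LD2_c15 LD3_c9)) = v5938 :=
  Lgr Lrot24 (Lpr_bt (f650138 IH) (Lpn v5938))
theorem f62032 : Led Lsl_gt (LP (LK LD1_c1 LD2_c34 LD3_c14)) = (LP (LK LD1_c3 LD2_c15 LD3_c9)) :=
  Lre_g IH (LK LD1_c1 LD2_c34 LD3_c14) (LK LD1_c3 LD2_c15 LD3_c9) Lrfl Lrfl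
theorem f78022 : Led Lsl_ct (LP (LK LD1_c2 LD2_c20 LD3_c18)) = (LP (LK LD1_c4 LD2_c44 LD3_c29)) :=
  Lre_c IH (LK LD1_c2 LD2_c20 LD3_c18) (LK LD1_c4 LD2_c44 LD3_c29) Lrfl Lrfl
theorem f712654 : Led Lsl_ct v13503 = v13495 :=
  Lgr Lrot91 (Lpe (f703382 IH) (Lpe (f702337 IH) (Lpr_ct (f702355 IH) (Lpe (K52.f702358 IH) (Lpr_cf (f712649 IH) (Lpe (f650139 IH) (Lpe (f62032 IH) (Lpe (K51.f79475 IH) (Lpr_ct (f78022 IH) (Lpr_gf (f703294 IH) (Lpn v13495)))))))))))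
theorem f754166 : v10544 = v13503 :=
  (Llr Lrot165 (Lpe (f680815 IH) (Lpe (f625376 IH) (Lpr_ct (f527308 IH) (Lpr_gt (f674760 IH) (Lpqs (f754161 IH) (Lpe (f415645 IH) (Lpr_bt (f415743 IH) (Lpr_gt (K0.f23255 IH) (Lpe (K51.f140885 IH) (Lpr_ct (K51.f140886 IH) (Lpr_gt (f703296 IH) (Lpe (f712654 IH) (Lpn v13503)))))))))))))).symm
theorem f62068 : Led Lsl_ct (LP (LK LD1_c3 LD2_c15 LD3_c9)) = (LP (LK LD1_c6 LD2_c33 LD3_c44)) :=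
  Lre_c IH (LK LD1_c3 LD2_c15 LD3_c9) (LK LD1_c6 LD2_c33 LD3_c44) Lrfl Lrfl
theorem f459399 : Led Lsl_ef (LP (LK LD1_c0 LD2_c50 LD3_c53)) = v790 :=
  Lgr Lrot88 (Lpr_et (f459397 IH) (Lpn v790))
theorem f12476 : Led Lsl_et (LP (LK LD1_c0 LD2_c50 LD3_c16)) = (LP (LK LD1_c1 LD2_c46 LD3_c58)) :=
  Lre_e IH (LK LD1_c0 LD2_c50 LD3_c16) (LK LD1_c1 LD2_c46 LD3_c58) Lrfl Lrfl
theorem f459400 : Led Lsl_at (LP (LK LD1_c1 LD2_c46 LD3_c58)) = v790 :=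
  Lgr Lrot80 (Lpe (f12476 IH) (Lpr_af (K5.f125570 IH) (Lpr_ef (f459399 IH) (Lpn v790))))
def v2510 : LQ := Led Lsl_ft (LP (LK LD1_c1 LD2_c46 LD3_c58))
theorem f523685 : Led Lsl_ft (LP (LK LD1_c1 LD2_c46 LD3_c58)) = v2510 :=
  Lrfl
theorem f523688 : Led Lsl_ff (LP (LK LD1_c1 LD2_c46 LD3_c58)) = v2510 :=
  Lgr Lrot3 (Lpr_ft (f523685 IH) (Lpn v2510))
theorem f625377 : Led Lsl_gt v2510 = v3376 :=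
  Lgr Lrot5 (Lpe (f523688 IH) (Lpr_at (f459400 IH) (Lpr_gf (f625376 IH) (Lpn v3376))))
def v2612 : LQ := Led Lsl_ft (LP (LK LD1_c1 LD2_c49 LD3_c40))
theorem f527782 : Led Lsl_ft (LP (LK LD1_c1 LD2_c49 LD3_c40)) = v2612 :=
  Lrfl
theorem f527783 : Led Lsl_bf v2510 = v2612 :=
  Lgr Lrot61 (Lpe (f523688 IH) (Lpr_bt (K1.f12466 IH) (Lpr_ft (f527782 IH) (Lpn v2612))))
def v7327 : LQ := Led Lsl_ft (LP (LK LD1_c3 LD2_c45 LD3_c6))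
theorem f664580 : Led Lsl_ft (LP (LK LD1_c3 LD2_c45 LD3_c6)) = v7327 :=
  Lrfl
theorem f664584 : Led Lsl_ff (LP (LK LD1_c3 LD2_c45 LD3_c6)) = v7327 :=
  Lgr Lrot3 (Lpr_ft (f664580 IH) (Lpn v7327))
theorem f664587 : Led Lsl_ct v2612 = v7327 :=
  Lgr Lrot40 (Lpe (f527782 IH) (Lpe (K7.f12478 IH) (Lpr_ff (f664584 IH) (Lpn v7327))))
theorem f88450 : Led Lsl_dt (LP (LK LD1_c7 LD2_c30 LD3_c60)) = (LP (LK LD1_c14 LD2_c11 LD3_c19)) :=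
  Lre_d IH (LK LD1_c7 LD2_c30 LD3_c60) (LK LD1_c14 LD2_c11 LD3_c19) Lrfl Lrfl
theorem f103892 : Led Lsl_dt (LP (LK LD1_c12 LD2_c35 LD3_c22)) = (LP (LK LD1_c6 LD2_c34 LD3_c30)) :=
  Lre_d IH (LK LD1_c12 LD2_c35 LD3_c22) (LK LD1_c6 LD2_c34 LD3_c30) Lrfl Lrfl
theorem f141453 : Led Lsl_at (LP (LK LD1_c14 LD2_c11 LD3_c19)) = (LP (LK LD1_c12 LD2_c35 LD3_c22)) :=
  Lgr Lrot51 (Lpe (f88450 IH) (Lpr_af (K6.f141437 IH) (Lpe (f103892 IH) (Lpn (LP (LK LD1_c12 LD2_c35 LD3_c22))))))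
theorem f141459 : Led Lsl_et (LP (LK LD1_c7 LD2_c30 LD3_c61)) = (LP (LK LD1_c14 LD2_c11 LD3_c19)) :=
  Lre_e IH (LK LD1_c7 LD2_c30 LD3_c61) (LK LD1_c14 LD2_c11 LD3_c19) Lrfl Lrfl
theorem f103855 : Led Lsl_dt (LP (LK LD1_c6 LD2_c34 LD3_c30)) = (LP (LK LD1_c12 LD2_c35 LD3_c22)) :=
  Lre_d IH (LK LD1_c6 LD2_c34 LD3_c30) (LK LD1_c12 LD2_c35 LD3_c22) Lrfl Lrfl
theorem f79129 : Led Lsl_et (LP (LK LD1_c3 LD2_c16 LD3_c39)) = (LP (LK LD1_c1 LD2_c34 LD3_c61)) :=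
  Lre_e IH (LK LD1_c3 LD2_c16 LD3_c39) (LK LD1_c1 LD2_c34 LD3_c61) Lrfl Lrfl
theorem f103927 : Led Lsl_dt (LP (LK LD1_c6 LD2_c36 LD3_c40)) = (LP (LK LD1_c3 LD2_c16 LD3_c39)) :=
  Lre_d IH (LK LD1_c6 LD2_c36 LD3_c40) (LK LD1_c3 LD2_c16 LD3_c39) Lrfl Lrfl
theorem f103928 : Led Lsl_et (LP (LK LD1_c12 LD2_c35 LD3_c22)) = (LP (LK LD1_c6 LD2_c36 LD3_c40)) :=
  Lgr Lrot71 (Lpe (f103855 IH) (Lpe (K6.f103838 IH) (Lpr_df (K3.f103832 IH) (Lpe (f79129 IH) (Lpe (f103927 IH) (Lpn (LP (LK LD1_c6 LD2_c36 LD3_c40))))))))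
theorem f141460 : Led Lsl_af (LP (LK LD1_c7 LD2_c30 LD3_c61)) = (LP (LK LD1_c6 LD2_c36 LD3_c40)) :=
  Lgr Lrot50 (Lpr_et (f141459 IH) (Lpr_at (f141453 IH) (Lpr_et (f103928 IH) (Lpn (LP (LK LD1_c6 LD2_c36 LD3_c40))))))
theorem f12486 : Led Lsl_dt (LP (LK LD1_c7 LD2_c30 LD3_c61)) = (LP (LK LD1_c3 LD2_c45 LD3_c6)) :=
  Lre_d IH (LK LD1_c7 LD2_c30 LD3_c61) (LK LD1_c3 LD2_c45 LD3_c6) Lrfl Lrfl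
theorem f103816 : Led Lsl_dt (LP (LK LD1_c3 LD2_c16 LD3_c39)) = (LP (LK LD1_c6 LD2_c36 LD3_c40)) :=
  Lre_d IH (LK LD1_c3 LD2_c16 LD3_c39) (LK LD1_c6 LD2_c36 LD3_c40) Lrfl Lrfl
theorem f141471 : Led Lsl_at (LP (LK LD1_c3 LD2_c45 LD3_c6)) = (LP (LK LD1_c3 LD2_c16 LD3_c39)) :=
  Lgr Lrot51 (Lpe (f12486 IH) (Lpr_af (f141460 IH) (Lpe (f103816 IH) (Lpn (LP (LK LD1_c3 LD2_c16 LD3_c39))))))
theorem f664586 : Led Lsl_at v6033 = v7327 :=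
  Lgr Lrot66 (Lpe (f650640 IH) (Lpe (f141471 IH) (Lpr_ff (f664584 IH) (Lpn v7327))))
theorem f664590 : Led Lsl_gt v6031 = v7327 :=
  Lgr Lrot46 (Lpe (f650638 IH) (Lpr_ft (f650640 IH) (Lpr_at (f664586 IH) (Lpn v7327))))
theorem f754167 : (LP (LK LD1_c6 LD2_c33 LD3_c44)) = v6031 :=
  (Llr Lrot91 (Lpe (f62068 IH) (Lpe (f62032 IH) (Lpe (K51.f79475 IH) (Lpr_ct (f78022 IH) (Lpr_gf (f703294 IH) (Lpe (f712654 IH) (Lpq (f754166 IH) (Lpe (f680815 IH) (Lpe (f625377 IH) (Lpr_bf (f527783 IH) (Lpr_ct (f664587 IH) (Lpe (f664590 IH) (Lpn v6031)))))))))))))).symm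
theorem f754168 : Led Lsl_gt (LP (LK LD1_c3 LD2_c16 LD3_c39)) = (LP (LK LD1_c6 LD2_c33 LD3_c44)) :=
  Leop (Lpqs (f754167 IH) (Lpe (f650638 IH) (Lpn (LP (LK LD1_c3 LD2_c16 LD3_c39)))))
theorem seed_1095 : LEOK LG_g (LK LD1_c3 LD2_c16 LD3_c39) :=
  Leoe_g (LK LD1_c3 LD2_c16 LD3_c39) (f754168 IH)
def v13930 : LQ := Led Lsl_gf (LP (LK LD1_c4 LD2_c50 LD3_c7))
theorem f716246 : Led Lsl_gf (LP (LK LD1_c4 LD2_c50 LD3_c7)) = v13930 :=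
  Lrfl
theorem f674773 : Led Lsl_ff v2545 = v9229 :=
  Lgr Lrot3 (Lpr_ft (f674769 IH) (Lpn v9229))
theorem f66493 : Led Lsl_et (LP (LK LD1_c3 LD2_c19 LD3_c2)) = (LP (LK LD1_c1 LD2_c35 LD3_c60)) :=
  Lre_e IH (LK LD1_c3 LD2_c19 LD3_c2) (LK LD1_c1 LD2_c35 LD3_c60) Lrfl Lrfl
theorem f527304 : Led Lsl_af (LP (LK LD1_c3 LD2_c19 LD3_c2)) = v2545 :=
  Lgr Lrot50 (Lpr_et (f66493 IH) (Lpr_at (K5.f125574 IH) (Lpr_et (f527303 IH) (Lpn v2545))))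
def v6203 : LQ := Led Lsl_gf (LP (LK LD1_c3 LD2_c19 LD3_c2))
theorem f652062 : Led Lsl_gf (LP (LK LD1_c3 LD2_c19 LD3_c2)) = v6203 :=
  Lrfl
theorem f674778 : Led Lsl_gf v6203 = v9229 :=
  Lgr Lrot47 (Lpe (f652062 IH) (Lpr_af (f527304 IH) (Lpr_ff (f674773 IH) (Lpn v9229))))
theorem f12474 : Led Lsl_ct (LP (LK LD1_c1 LD2_c49 LD3_c40)) = (LP (LK LD1_c3 LD2_c45 LD3_c6)) :=
  Lre_c IH (LK LD1_c1 LD2_c49 LD3_c40) (LK LD1_c3 LD2_c45 LD3_c6) Lrfl Lrfl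
def v2508 : LQ := Led Lsl_gt (LP (LK LD1_c1 LD2_c46 LD3_c58))
theorem f523681 : Led Lsl_gt (LP (LK LD1_c1 LD2_c46 LD3_c58)) = v2508 :=
  Lrfl
def v9187 : LQ := Led Lsl_bt v2508
theorem f673950 : Led Lsl_bt v2508 = v9187 :=
  Lrfl
theorem f673951 : Led Lsl_bf v2508 = v9187 :=
  Lgr Lrot24 (Lpr_bt (f673950 IH) (Lpn v9187))
theorem f443646 : Led Lsl_bt (LP (LK LD1_c1 LD2_c34 LD3_c14)) = (LP (LK LD1_c2 LD2_c20 LD3_c18)) :=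
  Lre_b IH (LK LD1_c1 LD2_c34 LD3_c14) (LK LD1_c2 LD2_c20 LD3_c18) Lrfl Lrfl
theorem f633055 : Led Lsl_ft (LP (LK LD1_c3 LD2_c15 LD3_c12)) = (LP (LK LD1_c1 LD2_c34 LD3_c14)) :=
  Lre_f IH (LK LD1_c3 LD2_c15 LD3_c12) (LK LD1_c1 LD2_c34 LD3_c14) Lrfl Lrfl
theorem f633056 : Led Lsl_bf (LP (LK LD1_c3 LD2_c15 LD3_c12)) = K51.v4386 :=
  Lgr Lrot61 (Lpr_ft (f633055 IH) (Lpr_bt (f443646 IH) (Lpr_ft (K51.f633053 IH) (Lpn K51.v4386))))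
theorem f703306 : Led Lsl_ff (LP (LK LD1_c4 LD2_c44 LD3_c29)) = K50.v13496 :=
  Lgr Lrot3 (Lpr_ft (K50.f703302 IH) (Lpn K50.v13496))
theorem f78023 : Led Lsl_ct (LP (LK LD1_c4 LD2_c44 LD3_c29)) = (LP (LK LD1_c2 LD2_c20 LD3_c18)) :=
  Lre_c IH (LK LD1_c4 LD2_c44 LD3_c29) (LK LD1_c2 LD2_c20 LD3_c18) Lrfl Lrfl
theorem f703321 : Led Lsl_ct K51.v4386 = K50.v13496 :=
  Lgr Lrot40 (Lpe (K51.f633053 IH) (Lpe (f78023 IH) (Lpr_ff (f703306 IH) (Lpn K50.v13496))))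
theorem f703301 : Led Lsl_at (LP (LK LD1_c4 LD2_c44 LD3_c29)) = (LP (LK LD1_c2 LD2_c21 LD3_c28)) :=
  Lre_a IH (LK LD1_c4 LD2_c44 LD3_c29) (LK LD1_c2 LD2_c21 LD3_c28) Lrfl Lrfl
theorem f633332 : Led Lsl_ft (LP (LK LD1_c2 LD2_c21 LD3_c28)) = (LP (LK LD1_c4 LD2_c47 LD3_c11)) :=
  Lre_f IH (LK LD1_c2 LD2_c21 LD3_c28) (LK LD1_c4 LD2_c47 LD3_c11) Lrfl Lrfl
theorem f703320 : Led Lsl_at (LP (LK LD1_c4 LD2_c47 LD3_c11)) = K50.v13496 :=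
  Lgr Lrot66 (Lpe (f633332 IH) (Lpe (f703301 IH) (Lpr_ff (f703306 IH) (Lpn K50.v13496))))
theorem f101964 : Led Lsl_gt (LP (LK LD1_c2 LD2_c21 LD3_c28)) = (LP (LK LD1_c4 LD2_c47 LD3_c12)) :=
  Lre_g IH (LK LD1_c2 LD2_c21 LD3_c28) (LK LD1_c4 LD2_c47 LD3_c12) Lrfl Lrfl
theorem f703333 : Led Lsl_gt (LP (LK LD1_c4 LD2_c47 LD3_c12)) = K50.v13496 :=
  Lgr Lrot46 (Lpe (f101964 IH) (Lpr_ft (f633332 IH) (Lpr_at (f703320 IH) (Lpn K50.v13496))))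
def v13692 : LQ := Led Lsl_ct (LP (LK LD1_c4 LD2_c47 LD3_c12))
theorem f704372 : Led Lsl_ct (LP (LK LD1_c4 LD2_c47 LD3_c12)) = v13692 :=
  Lrfl
theorem f704373 : Led Lsl_cf (LP (LK LD1_c4 LD2_c47 LD3_c12)) = v13692 :=
  Lgr Lrot11 (Lpr_ct (f704372 IH) (Lpn v13692))
theorem f754192 : v9187 = v13692 :=
  (Llr Lrot34 (Lpe (f673951 IH) (Lpe (f523681 IH) (Lpr_bf (K1.f12472 IH) (Lpr_ct (f12474 IH) (Lpr_gf (f664578 IH) (Lpqs (f754146 IH) (Lpe (f114240 IH) (Lpe (K46.f434170 IH) (Lpr_bf (f633056 IH) (Lpr_ct (f703321 IH) (Lpe (f703333 IH) (Lpr_cf (f704373 IH) (Lpn v13692)))))))))))))).symm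
theorem f444657 : Led Lsl_bt (LP (LK LD1_c2 LD2_c22 LD3_c52)) = (LP (LK LD1_c1 LD2_c8 LD3_c33)) :=
  Lre_b IH (LK LD1_c2 LD2_c22 LD3_c52) (LK LD1_c1 LD2_c8 LD3_c33) Lrfl Lrfl
theorem f444588 : Led Lsl_ct (LP (LK LD1_c2 LD2_c22 LD3_c52)) = (LP (LK LD1_c4 LD2_c50 LD3_c7)) :=
  Lre_c IH (LK LD1_c2 LD2_c22 LD3_c52) (LK LD1_c4 LD2_c50 LD3_c7) Lrfl Lrfl
def v3377 : LQ := Led Lsl_ft v790
theorem f625378 : Led Lsl_ft v790 = v3377 :=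
  Lrfl
theorem f625381 : Led Lsl_ff v790 = v3377 :=
  Lgr Lrot3 (Lpr_ft (f625378 IH) (Lpn v3377))
theorem f459398 : Led Lsl_af (LP (LK LD1_c1 LD2_c46 LD3_c58)) = v790 :=
  Lgr Lrot50 (Lpr_et (K1.f12482 IH) (Lpr_at (K5.f125572 IH) (Lpr_et (f459397 IH) (Lpn v790))))
theorem f625383 : Led Lsl_at v2510 = v3377 :=
  Lgr Lrot66 (Lpe (f523685 IH) (Lpr_af (f459398 IH) (Lpr_ff (f625381 IH) (Lpn v3377))))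
theorem f625386 : Led Lsl_gt v2508 = v3377 :=
  Lgr Lrot46 (Lpe (f523681 IH) (Lpr_ft (f523685 IH) (Lpr_at (f625383 IH) (Lpn v3377))))
theorem f527305 : Led Lsl_cf v790 = v2545 :=
  Lgr Lrot39 (Lpe (f459399 IH) (Lpr_ct (K5.f124121 IH) (Lpr_et (f527303 IH) (Lpn v2545))))
theorem f674776 : Led Lsl_ct v3377 = v9229 :=
  Lgr Lrot40 (Lpe (f625378 IH) (Lpr_cf (f527305 IH) (Lpr_ff (f674773 IH) (Lpn v9229))))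
theorem f754193 : v13930 = v9229 :=
  (Llr Lrot129 (Lpe (f716246 IH) (Lpe (f444588 IH) (Lpr_bt (f444657 IH) (Lpr_gt (K32.f135597 IH) (Lpe (K52.f416080 IH) (Lpr_ct (K52.f99167 IH) (Lpr_gt (f101964 IH) (Lpr_cf (f704373 IH) (Lpq (f754192 IH) (Lpe (f673951 IH) (Lpr_gt (f625386 IH) (Lpr_ct (f674776 IH) (Lpn v9229)))))))))))))).symm
theorem f754194 : (LP (LK LD1_c4 LD2_c50 LD3_c7)) = v6203 :=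
  Lefun (Lecon (Lfl_gf (f716246 IH)) (f754193 IH)) (Lfl_gf (f674778 IH))
theorem f754197 : Led Lsl_gt (LP (LK LD1_c4 LD2_c50 LD3_c7)) = (LP (LK LD1_c3 LD2_c19 LD3_c2)) :=
  Leop (Lpr_gf (f652062 IH) (Lpq (f754194 IH) (Lpn (LP (LK LD1_c4 LD2_c50 LD3_c7)))))
theorem seed_1096 : LEOK LG_g (LK LD1_c4 LD2_c50 LD3_c7) :=
  Leoe_g (LK LD1_c4 LD2_c50 LD3_c7) (f754197 IH)
def v6590 : LQ := Led Lsl_bt (LP (LK LD1_c3 LD2_c23 LD3_c56))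
theorem f654332 : Led Lsl_bt (LP (LK LD1_c3 LD2_c23 LD3_c56)) = v6590 :=
  Lrfl
def v2610 : LQ := Led Lsl_gt (LP (LK LD1_c1 LD2_c49 LD3_c40))
def v9333 : LQ := Led Lsl_ct v2610
theorem f675427 : Led Lsl_ct v2610 = v9333 :=
  Lrfl
theorem f675428 : Led Lsl_cf v2610 = v9333 :=
  Lgr Lrot11 (Lpr_ct (f675427 IH) (Lpn v9333))
theorem f654333 : Led Lsl_bf (LP (LK LD1_c3 LD2_c23 LD3_c56)) = v6590 :=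
  Lgr Lrot24 (Lpr_bt (f654332 IH) (Lpn v6590))
theorem f444664 : Led Lsl_bt (LP (LK LD1_c1 LD2_c35 LD3_c46)) = (LP (LK LD1_c0 LD2_c44 LD3_c60)) :=
  Lre_b IH (LK LD1_c1 LD2_c35 LD3_c46) (LK LD1_c0 LD2_c44 LD3_c60) Lrfl Lrfl
theorem f444665 : Led Lsl_ct (LP (LK LD1_c1 LD2_c35 LD3_c46)) = (LP (LK LD1_c3 LD2_c18 LD3_c18)) :=
  Lre_c IH (LK LD1_c1 LD2_c35 LD3_c46) (LK LD1_c3 LD2_c18 LD3_c18) Lrfl Lrfl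
def v5935 : LQ := Led Lsl_gt (LP (LK LD1_c3 LD2_c15 LD3_c8))
theorem f650110 : Led Lsl_gt (LP (LK LD1_c3 LD2_c15 LD3_c8)) = v5935 :=
  Lrfl
theorem f650111 : Led Lsl_ft (LP (LK LD1_c3 LD2_c15 LD3_c8)) = (LP (LK LD1_c6 LD2_c33 LD3_c43)) :=
  Lre_f IH (LK LD1_c3 LD2_c15 LD3_c8) (LK LD1_c6 LD2_c33 LD3_c43) Lrfl Lrfl
theorem f650112 : Led Lsl_at (LP (LK LD1_c6 LD2_c33 LD3_c43)) = (LP (LK LD1_c3 LD2_c18 LD3_c18)) :=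
  Lre_a IH (LK LD1_c6 LD2_c33 LD3_c43) (LK LD1_c3 LD2_c18 LD3_c18) Lrfl Lrfl
theorem f650113 : Led Lsl_gf (LP (LK LD1_c3 LD2_c18 LD3_c18)) = v5935 :=
  Lgr Lrot76 (Lpe (f650112 IH) (Lpe (f650111 IH) (Lpr_gt (f650110 IH) (Lpn v5935))))
theorem f654334 : Led Lsl_cf v5935 = v6590 :=
  Lgr Lrot160 (Lpe (f650113 IH) (Lpe (f444665 IH) (Lpr_bt (f444664 IH) (Lpr_gt (K32.f25586 IH) (Lpe (K32.f444589 IH) (Lpr_gt (K32.f35538 IH) (Lpe (K24.f36246 IH) (Lpr_bt (K2.f40435 IH) (Lpr_gt (K2.f40448 IH) (Lpr_bf (f654333 IH) (Lpn v6590)))))))))))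
theorem f654335 : Led Lsl_ct v5935 = v6590 :=
  Lgr Lrot59 (Lpr_cf (f654334 IH) (Lpn v6590))
theorem f527780 : Led Lsl_gt (LP (LK LD1_c1 LD2_c49 LD3_c40)) = v2610 :=
  Lrfl
theorem f754198 : v9333 = v5935 :=
  (Llr Lrot91 (Lpe (f675427 IH) (Lpe (f527780 IH) (Lpe (K1.f12466 IH) (Lpr_ct (K7.f66473 IH) (Lpr_gf (f652062 IH) (Lpq (f754194 IH) (Lpe (f444588 IH) (Lpr_bt (f444657 IH) (Lpe (K32.f25586 IH) (Lpe (f444664 IH) (Lpr_ct (f444665 IH) (Lpr_gf (f650113 IH) (Lpn v5935)))))))))))))).symm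
theorem f754199 : v2610 = v6590 :=
  Lefun (Lecon (Lfl_cf (f675428 IH)) (f754198 IH)) (f654335 IH)
def v9335 : LQ := Led Lsl_et v2610
theorem f675431 : Led Lsl_et v2610 = v9335 :=
  Lrfl
theorem f754205 : Led Lsl_bf (LP (LK LD1_c6 LD2_c50 LD3_c54)) = v9335 :=
  Lgr Lrot96 (Lpr_et (K2.f76836 IH) (Lpr_bt (f654332 IH) (Lpq (f754199 IH) (Lpr_et (f675431 IH) (Lpn v9335)))))
theorem f675432 : Led Lsl_ef v2610 = v9335 :=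
  Lgr Lrot88 (Lpr_et (f675431 IH) (Lpn v9335))
theorem f85133 : Led Lsl_et (LP (LK LD1_c1 LD2_c49 LD3_c52)) = (LP (LK LD1_c0 LD2_c51 LD3_c46)) :=
  Lre_e IH (LK LD1_c1 LD2_c49 LD3_c52) (LK LD1_c0 LD2_c51 LD3_c46) Lrfl Lrfl
theorem f85134 : Led Lsl_dt (LP (LK LD1_c1 LD2_c49 LD3_c52)) = (LP (LK LD1_c3 LD2_c45 LD3_c27)) :=
  Lre_d IH (LK LD1_c1 LD2_c49 LD3_c52) (LK LD1_c3 LD2_c45 LD3_c27) Lrfl Lrfl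
theorem f85135 : Led Lsl_gt (LP (LK LD1_c7 LD2_c31 LD3_c34)) = (LP (LK LD1_c3 LD2_c45 LD3_c27)) :=
  Lre_g IH (LK LD1_c7 LD2_c31 LD3_c34) (LK LD1_c3 LD2_c45 LD3_c27) Lrfl Lrfl
theorem f675433 : Led Lsl_df (LP (LK LD1_c7 LD2_c31 LD3_c34)) = v9335 :=
  Lgr Lrot170 (Lpr_gt (f85135 IH) (Lpe (f85134 IH) (Lpr_et (f85133 IH) (Lpr_gt (K3.f62948 IH) (Lpr_dt (K1.f62853 IH) (Lpr_gt (K0.f5713 IH) (Lpe (K1.f5828 IH) (Lpr_et (K1.f12483 IH) (Lpr_gt (f527780 IH) (Lpr_ef (f675432 IH) (Lpn v9335)))))))))))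
theorem f675434 : Led Lsl_dt (LP (LK LD1_c7 LD2_c31 LD3_c34)) = v9335 :=
  Lgr Lrot42 (Lpr_df (f675433 IH) (Lpn v9335))
theorem f754207 : Led Lsl_bt (LP (LK LD1_c12 LD2_c26 LD3_c32)) = (LP (LK LD1_c7 LD2_c31 LD3_c34)) :=
  Lgr Lrot95 (Lpe (K2.f90590 IH) (Lpr_bf (f754205 IH) (Lpe (f675434 IH) (Lpn (LP (LK LD1_c7 LD2_c31 LD3_c34))))))
theorem f754208 : Led Lsl_bt (LP (LK LD1_c12 LD2_c26 LD3_c32)) = (LP (LK LD1_c7 LD2_c31 LD3_c34)) :=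
  Leop (Lpe (f754207 IH) (Lpn (LP (LK LD1_c12 LD2_c26 LD3_c32))))
theorem seed_1097 : LEOK LG_b (LK LD1_c12 LD2_c26 LD3_c32) :=
  Leoe_b (LK LD1_c12 LD2_c26 LD3_c32) (f754208 IH)
theorem f140714 : Led Lsl_bt (LP (LK LD1_c0 LD2_c44 LD3_c60)) = (LP (LK LD1_c1 LD2_c35 LD3_c46)) :=
  Lre_b IH (LK LD1_c0 LD2_c44 LD3_c60) (LK LD1_c1 LD2_c35 LD3_c46) Lrfl Lrfl
theorem f62070 : Led Lsl_gt (LP (LK LD1_c1 LD2_c35 LD3_c46)) = (LP (LK LD1_c3 LD2_c15 LD3_c10)) :=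
  Lre_g IH (LK LD1_c1 LD2_c35 LD3_c46) (LK LD1_c3 LD2_c15 LD3_c10) Lrfl Lrfl
theorem f62071 : Led Lsl_ct (LP (LK LD1_c3 LD2_c15 LD3_c10)) = (LP (LK LD1_c6 LD2_c33 LD3_c46)) :=
  Lre_c IH (LK LD1_c3 LD2_c15 LD3_c10) (LK LD1_c6 LD2_c33 LD3_c46) Lrfl Lrfl
def v1718 : LQ := Led Lsl_bt (LP (LK LD1_c1 LD2_c24 LD3_c30))
theorem f501025 : Led Lsl_bt (LP (LK LD1_c1 LD2_c24 LD3_c30)) = v1718 :=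
  Lrfl
def v8055 : LQ := Led Lsl_gf v1718
theorem f669797 : Led Lsl_gf v1718 = v8055 :=
  Lrfl
def v10168 : LQ := Led Lsl_at v3214
theorem f679046 : Led Lsl_at v3214 = v10168 :=
  Lrfl
theorem f624633 : Led Lsl_bf K24.v573 = v3214 :=
  Lgr Lrot24 (Lpr_bt (f624632 IH) (Lpn v3214))
theorem f645801 : Led Lsl_ff v3214 = v1718 :=
  Lgr Lrot25 (Lpe (f624633 IH) (Lpq (K49.f645305 IH) (Lpe (K49.f501044 IH) (Lpr_bt (f501025 IH) (Lpn v1718)))))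
def v8056 : LQ := Led Lsl_at v1718
theorem f669798 : Led Lsl_at v1718 = v8056 :=
  Lrfl
theorem f669799 : Led Lsl_af v1718 = v8056 :=
  Lgr Lrot0 (Lpr_at (f669798 IH) (Lpn v8056))
theorem f679049 : Led Lsl_ff v8056 = v10168 :=
  Lgr Lrot30 (Lpe (f669799 IH) (Lpe (f645801 IH) (Lpr_at (f679046 IH) (Lpn v10168))))
theorem f679053 : Led Lsl_gf v8055 = v10168 :=
  Lgr Lrot47 (Lpe (f669797 IH) (Lpr_af (f669799 IH) (Lpr_ff (f679049 IH) (Lpn v10168))))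
def v3062 : LQ := Led Lsl_gf v488
theorem f622721 : Led Lsl_gf v488 = v3062 :=
  Lrfl
def v8054 : LQ := Led Lsl_gt v1718
theorem f669796 : Led Lsl_gt v1718 = v8054 :=
  Lrfl
theorem f679050 : Led Lsl_gt v8054 = v10168 :=
  Lgr Lrot46 (Lpe (f669796 IH) (Lpe (f645801 IH) (Lpr_at (f679046 IH) (Lpn v10168))))
def v7801 : LQ := Led Lsl_ft v1297
theorem f668473 : Led Lsl_ft v1297 = v7801 :=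
  Lrfl
theorem f668477 : Led Lsl_ff v1297 = v7801 :=
  Lgr Lrot3 (Lpr_ft (f668473 IH) (Lpn v7801))
theorem f436554 : Led Lsl_at (LP (LK LD1_c0 LD2_c42 LD3_c28)) = (LP (LK LD1_c1 LD2_c6 LD3_c3)) :=
  Lgr Lrot107 (Lpe (K5.f69135 IH) (Lpr_af (K46.f150686 IH) (Lpe (K2.f60964 IH) (Lpn (LP (LK LD1_c1 LD2_c6 LD3_c3))))))
theorem f453592 : Led Lsl_ef (LP (LK LD1_c0 LD2_c42 LD3_c28)) = v488 :=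
  Lgr Lrot88 (Lpr_et (f453591 IH) (Lpn v488))
theorem f494689 : Led Lsl_af v488 = v1297 :=
  Lgr Lrot50 (Lpe (f453592 IH) (Lpr_at (f436554 IH) (Lpr_et (f494688 IH) (Lpn v1297))))
theorem f668482 : Led Lsl_gf v3062 = v7801 :=
  Lgr Lrot47 (Lpe (f622721 IH) (Lpr_af (f494689 IH) (Lpr_ff (f668477 IH) (Lpn v7801))))
theorem f494690 : Led Lsl_bf v790 = v1297 :=
  Lgr Lrot96 (Lpe (f459399 IH) (Lpe (K5.f124119 IH) (Lpr_et (f494688 IH) (Lpn v1297))))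
theorem f668480 : Led Lsl_bt v3377 = v7801 :=
  Lgr Lrot35 (Lpe (f625378 IH) (Lpr_bf (f494690 IH) (Lpr_ff (f668477 IH) (Lpn v7801))))
theorem f754219 : v8054 = v7801 :=
  (Llr Lrot164 (Lpe (f669796 IH) (Lpe (f501025 IH) (Lpr_ct (K31.f140236 IH) (Lpe (K9.f23899 IH) (Lpe (K32.f415323 IH) (Lpe (K32.f135597 IH) (Lpe (f444657 IH) (Lpr_ct (f444588 IH) (Lpr_gf (f716246 IH) (Lpqs (f754193 IH) (Lpe (f674776 IH) (Lpr_bt (f668480 IH) (Lpn v7801)))))))))))))).symm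
theorem f754220 : v10168 = v3062 :=
  Lefun (Lecon (f679050 IH) (f754219 IH)) (Lfl_gf (f668482 IH))
theorem f754222 : v8055 = v488 :=
  Lefun (Lecon (Lfl_gf (f679053 IH)) (f754220 IH)) (Lfl_gf (f622721 IH))
theorem f506456 : Led Lsl_bf v488 = v1933 :=
  Lgr Lrot96 (Lpe (f453592 IH) (Lpr_bt (K5.f79115 IH) (Lpr_et (f506454 IH) (Lpn v1933))))
theorem f506457 : Led Lsl_cf (LP (LK LD1_c3 LD2_c16 LD3_c39)) = v1933 :=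
  Lgr Lrot39 (Lpr_et (f79129 IH) (Lpe (K2.f79120 IH) (Lpr_et (f506454 IH) (Lpn v1933))))
def v6032 : LQ := Led Lsl_gf (LP (LK LD1_c3 LD2_c16 LD3_c39))
theorem f650639 : Led Lsl_gf (LP (LK LD1_c3 LD2_c16 LD3_c39)) = v6032 :=
  Lrfl
theorem f754235 : (LP (LK LD1_c6 LD2_c33 LD3_c46)) = v6032 :=
  (Llr Lrot91 (Lpe (f62071 IH) (Lpe (f62070 IH) (Lpe (f140714 IH) (Lpr_ct (K32.f140713 IH) (Lpe (K31.f27121 IH) (Lpe (K31.f140236 IH) (Lpr_bt (f501025 IH) (Lpr_gf (f669797 IH) (Lpqs (f754222 IH) (Lpr_bf (f506456 IH) (Lpe (f506457 IH) (Lpr_gf (f650639 IH) (Lpn v6032)))))))))))))).symm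
theorem f754236 : Led Lsl_gt (LP (LK LD1_c6 LD2_c33 LD3_c46)) = (LP (LK LD1_c3 LD2_c16 LD3_c39)) :=
  Leop (Lpr_gf (f650639 IH) (Lpq (f754235 IH) (Lpn (LP (LK LD1_c6 LD2_c33 LD3_c46)))))
theorem seed_1098 : LEOK LG_g (LK LD1_c6 LD2_c33 LD3_c46) :=
  Leoe_g (LK LD1_c6 LD2_c33 LD3_c46) (f754236 IH)
def v17007 : LQ := Led Lsl_dt (LP (LK LD1_c6 LD2_c10 LD3_c22))
theorem f754290 : Led Lsl_dt (LP (LK LD1_c6 LD2_c10 LD3_c22)) = v17007 :=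
  Lrfl
theorem f754291 : Led Lsl_af (LP (LK LD1_c6 LD2_c11 LD3_c34)) = v17007 :=
  Lgr Lrot117 (Lpr_dt (K5.f130833 IH) (Lpr_at (K49.f646736 IH) (Lpqs (K49.f663198 IH) (Lpr_dt (f754290 IH) (Lpn v17007)))))
theorem f754298 : Led Lsl_ft (LP (LK LD1_c6 LD2_c37 LD3_c10)) = v17007 :=
  Lgr Lrot2 (Lpr_gt (K46.f118509 IH) (Lpe (K5.f130831 IH) (Lpr_af (f754291 IH) (Lpn v17007))))
theorem f114006 : Led Lsl_dt (LP (LK LD1_c6 LD2_c11 LD3_c38)) = (LP (LK LD1_c3 LD2_c2 LD3_c23)) :=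
  Lre_d IH (LK LD1_c6 LD2_c11 LD3_c38) (LK LD1_c3 LD2_c2 LD3_c23) Lrfl Lrfl
theorem f754293 : Led Lsl_ef (LP (LK LD1_c6 LD2_c11 LD3_c38)) = v17007 :=
  Lgr Lrot73 (Lpr_dt (f114006 IH) (Lpr_et (K48.f646486 IH) (Lpe (K48.f646484 IH) (Lpr_et (K49.f646478 IH) (Lpr_dt (f754290 IH) (Lpn v17007))))))
theorem f663380 : Led Lsl_ff (LP (LK LD1_c6 LD2_c11 LD3_c38)) = (LP (LK LD1_c12 LD2_c0 LD3_c42)) :=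
  Lgr Lrot19 (Lpr_dt (f114006 IH) (Lpr_ft (K50.f646752 IH) (Lpqs (K50.f663373 IH) (Lpr_dt (f62174 IH) (Lpn (LP (LK LD1_c12 LD2_c0 LD3_c42)))))))
theorem f663382 : Led Lsl_ft (LP (LK LD1_c6 LD2_c11 LD3_c38)) = (LP (LK LD1_c12 LD2_c0 LD3_c42)) :=
  Lgr Lrot48 (Lpr_ff (f663380 IH) (Lpn (LP (LK LD1_c12 LD2_c0 LD3_c42))))
theorem f444303 : Led Lsl_dt (LP (LK LD1_c3 LD2_c2 LD3_c24)) = (LP (LK LD1_c6 LD2_c11 LD3_c41)) :=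
  Lre_d IH (LK LD1_c3 LD2_c2 LD3_c24) (LK LD1_c6 LD2_c11 LD3_c41) Lrfl Lrfl
theorem f663393 : Led Lsl_af (LP (LK LD1_c12 LD2_c0 LD3_c42)) = (LP (LK LD1_c6 LD2_c11 LD3_c41)) :=
  Lgr Lrot117 (Lpr_dt (f434721 IH) (Lpq (K50.f663373 IH) (Lpe (K50.f646753 IH) (Lpr_dt (f444303 IH) (Lpn (LP (LK LD1_c6 LD2_c11 LD3_c41)))))))
theorem f663397 : Led Lsl_et (LP (LK LD1_c12 LD2_c3 LD3_c16)) = (LP (LK LD1_c6 LD2_c11 LD3_c41)) :=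
  Lre_e IH (LK LD1_c12 LD2_c3 LD3_c16) (LK LD1_c6 LD2_c11 LD3_c41) Lrfl Lrfl
theorem f663398 : Led Lsl_at (LP (LK LD1_c6 LD2_c24 LD3_c9)) = (LP (LK LD1_c12 LD2_c3 LD3_c16)) :=
  Lgr Lrot80 (Lpe (f434722 IH) (Lpr_af (f663393 IH) (Lpe (f663397 IH) (Lpn (LP (LK LD1_c12 LD2_c3 LD3_c16))))))
theorem f113967 : Led Lsl_ft (LP (LK LD1_c1 LD2_c26 LD3_c50)) = (LP (LK LD1_c0 LD2_c40 LD3_c11)) :=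
  Lre_f IH (LK LD1_c1 LD2_c26 LD3_c50) (LK LD1_c0 LD2_c40 LD3_c11) Lrfl Lrfl
theorem f433237 : Led Lsl_gf (LP (LK LD1_c1 LD2_c30 LD3_c61)) = (LP (LK LD1_c1 LD2_c26 LD3_c50)) :=
  Lgr Lrot47 (Lpr_gt (K11.f433235 IH) (Lpe (K4.f114018 IH) (Lpe (f113967 IH) (Lpn (LP (LK LD1_c1 LD2_c26 LD3_c50))))))
theorem f114004 : Led Lsl_et (LP (LK LD1_c3 LD2_c2 LD3_c25)) = (LP (LK LD1_c1 LD2_c27 LD3_c12)) :=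
  Lre_e IH (LK LD1_c3 LD2_c2 LD3_c25) (LK LD1_c1 LD2_c27 LD3_c12) Lrfl Lrfl
theorem f114005 : Led Lsl_dt (LP (LK LD1_c3 LD2_c2 LD3_c25)) = (LP (LK LD1_c1 LD2_c27 LD3_c10)) :=
  Lre_d IH (LK LD1_c3 LD2_c2 LD3_c25) (LK LD1_c1 LD2_c27 LD3_c10) Lrfl Lrfl
theorem f114400 : Led Lsl_dt (LP (LK LD1_c6 LD2_c11 LD3_c41)) = (LP (LK LD1_c3 LD2_c2 LD3_c24)) :=
  Lre_d IH (LK LD1_c6 LD2_c11 LD3_c41) (LK LD1_c3 LD2_c2 LD3_c24) Lrfl Lrfl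
theorem f114401 : Led Lsl_et (LP (LK LD1_c6 LD2_c11 LD3_c41)) = (LP (LK LD1_c12 LD2_c3 LD3_c16)) :=
  Lre_e IH (LK LD1_c6 LD2_c11 LD3_c41) (LK LD1_c12 LD2_c3 LD3_c16) Lrfl Lrfl
theorem f434174 : Led Lsl_gt (LP (LK LD1_c6 LD2_c24 LD3_c4)) = (LP (LK LD1_c12 LD2_c3 LD3_c16)) :=
  Lgr Lrot131 (Lpe (K11.f154301 IH) (Lpr_dt (K11.f154300 IH) (Lpr_gf (f433237 IH) (Lpe (K7.f87540 IH) (Lpe (K4.f114387 IH) (Lpe (f114004 IH) (Lpr_dt (f114005 IH) (Lpe (K50.f114399 IH) (Lpe (f114400 IH) (Lpr_et (f114401 IH) (Lpn (LP (LK LD1_c12 LD2_c3 LD3_c16)))))))))))))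
theorem f154307 : Led Lsl_gt (LP (LK LD1_c12 LD2_c21 LD3_c21)) = (LP (LK LD1_c6 LD2_c24 LD3_c4)) :=
  Lre_g IH (LK LD1_c12 LD2_c21 LD3_c21) (LK LD1_c6 LD2_c24 LD3_c4) Lrfl Lrfl
theorem f663404 : Led Lsl_ff (LP (LK LD1_c6 LD2_c24 LD3_c9)) = (LP (LK LD1_c12 LD2_c21 LD3_c21)) :=
  Lgr Lrot52 (Lpr_at (f663398 IH) (Lpe (f434174 IH) (Lpe (f154307 IH) (Lpn (LP (LK LD1_c12 LD2_c21 LD3_c21))))))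
theorem f663410 : Led Lsl_ft (LP (LK LD1_c6 LD2_c24 LD3_c9)) = (LP (LK LD1_c12 LD2_c21 LD3_c21)) :=
  Lgr Lrot48 (Lpr_ff (f663404 IH) (Lpn (LP (LK LD1_c12 LD2_c21 LD3_c21))))
theorem f754299 : Led Lsl_ef (LP (LK LD1_c6 LD2_c37 LD3_c10)) = (LP (LK LD1_c12 LD2_c21 LD3_c21)) :=
  Lgr Lrot21 (Lpr_ft (f754298 IH) (Lpe (f754293 IH) (Lpr_ft (f663382 IH) (Lpr_et (f434722 IH) (Lpr_ft (f663410 IH) (Lpn (LP (LK LD1_c12 LD2_c21 LD3_c21))))))))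
theorem f754300 : Led Lsl_et (LP (LK LD1_c12 LD2_c21 LD3_c21)) = (LP (LK LD1_c6 LD2_c37 LD3_c10)) :=
  Leop (Lpr_ef (f754299 IH) (Lpn (LP (LK LD1_c12 LD2_c21 LD3_c21))))
theorem seed_1099 : LEOK LG_e (LK LD1_c12 LD2_c21 LD3_c21) :=
  Leoe_e (LK LD1_c12 LD2_c21 LD3_c21) (f754300 IH)
def v2089 : LQ := Led Lsl_gt (LP (LK LD1_c1 LD2_c35 LD3_c20))
def v8561 : LQ := Led Lsl_et v2089
theorem f671602 : Led Lsl_et v2089 = v8561 :=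
  Lrfl
theorem f671603 : Led Lsl_ef v2089 = v8561 :=
  Lgr Lrot88 (Lpr_et (f671602 IH) (Lpn v8561))
theorem f624501 : Led Lsl_et (LP (LK LD1_c6 LD2_c37 LD3_c9)) = (LP (LK LD1_c3 LD2_c16 LD3_c53)) :=
  Lre_e IH (LK LD1_c6 LD2_c37 LD3_c9) (LK LD1_c3 LD2_c16 LD3_c53) Lrfl Lrfl
def v17035 : LQ := Led Lsl_gf (LP (LK LD1_c6 LD2_c10 LD3_c49))
theorem f754445 : Led Lsl_gf (LP (LK LD1_c6 LD2_c10 LD3_c49)) = v17035 :=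
  Lrfl
theorem f87365 : Led Lsl_et (LP (LK LD1_c3 LD2_c2 LD3_c2)) = (LP (LK LD1_c1 LD2_c27 LD3_c2)) :=
  Lre_e IH (LK LD1_c3 LD2_c2 LD3_c2) (LK LD1_c1 LD2_c27 LD3_c2) Lrfl Lrfl
theorem f62267 : Led Lsl_et (LP (LK LD1_c0 LD2_c44 LD3_c17)) = (LP (LK LD1_c1 LD2_c35 LD3_c20)) :=
  Lre_e IH (LK LD1_c0 LD2_c44 LD3_c17) (LK LD1_c1 LD2_c35 LD3_c20) Lrfl Lrfl
theorem f508760 : Led Lsl_gt (LP (LK LD1_c1 LD2_c35 LD3_c20)) = v2089 :=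
  Lrfl
theorem f754447 : Led Lsl_dt v8561 = v17035 :=
  Lgr Lrot136 (Lpe (f671603 IH) (Lpe (f508760 IH) (Lpe (f62267 IH) (Lpr_dt (K3.f62304 IH) (Lpr_gf (K2.f87350 IH) (Lpe (K3.f63116 IH) (Lpe (K3.f59459 IH) (Lpe (f87365 IH) (Lpr_dt (K46.f87366 IH) (Lpr_gf (f754445 IH) (Lpn v17035)))))))))))
theorem f754448 : Led Lsl_df v8561 = v17035 :=
  Lgr Lrot38 (Lpr_dt (f754447 IH) (Lpn v17035))
theorem f85110 : Led Lsl_ft (LP (LK LD1_c7 LD2_c31 LD3_c49)) = (LP (LK LD1_c3 LD2_c45 LD3_c33)) :=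
  Lre_f IH (LK LD1_c7 LD2_c31 LD3_c49) (LK LD1_c3 LD2_c45 LD3_c33) Lrfl Lrfl
theorem f754446 : Led Lsl_gt (LP (LK LD1_c7 LD2_c31 LD3_c49)) = v17035 :=
  Lgr Lrot5 (Lpr_ft (f85110 IH) (Lpr_at (K4.f105355 IH) (Lpr_gf (f754445 IH) (Lpn v17035))))
theorem f85105 : Led Lsl_dt (LP (LK LD1_c3 LD2_c45 LD3_c34)) = (LP (LK LD1_c7 LD2_c31 LD3_c49)) :=
  Lre_d IH (LK LD1_c3 LD2_c45 LD3_c34) (LK LD1_c7 LD2_c31 LD3_c49) Lrfl Lrfl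
def v5211 : LQ := Led Lsl_gt (LP (LK LD1_c3 LD2_c2 LD3_c2))
theorem f646554 : Led Lsl_gt (LP (LK LD1_c3 LD2_c2 LD3_c2)) = v5211 :=
  Lrfl
theorem f96026 : Led Lsl_ft (LP (LK LD1_c3 LD2_c2 LD3_c2)) = (LP (LK LD1_c6 LD2_c10 LD3_c50)) :=
  Lre_f IH (LK LD1_c3 LD2_c2 LD3_c2) (LK LD1_c6 LD2_c10 LD3_c50) Lrfl Lrfl
theorem f85102 : Led Lsl_dt (LP (LK LD1_c7 LD2_c31 LD3_c49)) = (LP (LK LD1_c3 LD2_c45 LD3_c34)) :=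
  Lre_d IH (LK LD1_c7 LD2_c31 LD3_c49) (LK LD1_c3 LD2_c45 LD3_c34) Lrfl Lrfl
theorem f85101 : Led Lsl_ct (LP (LK LD1_c3 LD2_c45 LD3_c34)) = (LP (LK LD1_c1 LD2_c49 LD3_c56)) :=
  Lre_c IH (LK LD1_c3 LD2_c45 LD3_c34) (LK LD1_c1 LD2_c49 LD3_c56) Lrfl Lrfl
theorem f85082 : Led Lsl_ft (LP (LK LD1_c3 LD2_c45 LD3_c17)) = (LP (LK LD1_c1 LD2_c49 LD3_c46)) :=
  Lre_f IH (LK LD1_c3 LD2_c45 LD3_c17) (LK LD1_c1 LD2_c49 LD3_c46) Lrfl Lrfl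
theorem f85083 : Led Lsl_ft (LP (LK LD1_c1 LD2_c49 LD3_c46)) = (LP (LK LD1_c3 LD2_c45 LD3_c17)) :=
  Lre_f IH (LK LD1_c1 LD2_c49 LD3_c46) (LK LD1_c3 LD2_c45 LD3_c17) Lrfl Lrfl
theorem f85084 : Led Lsl_df (LP (LK LD1_c3 LD2_c45 LD3_c17)) = (LP (LK LD1_c3 LD2_c45 LD3_c17)) :=
  Lgr Lrot78 (Lpr_ft (f85082 IH) (Lpr_dt (K3.f85070 IH) (Lpr_ft (f85083 IH) (Lpn (LP (LK LD1_c3 LD2_c45 LD3_c17))))))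
theorem f85097 : Led Lsl_bt (LP (LK LD1_c3 LD2_c45 LD3_c17)) = (LP (LK LD1_c1 LD2_c49 LD3_c56)) :=
  Lre_b IH (LK LD1_c3 LD2_c45 LD3_c17) (LK LD1_c1 LD2_c49 LD3_c56) Lrfl Lrfl
theorem f85098 : Led Lsl_bt (LP (LK LD1_c1 LD2_c49 LD3_c56)) = (LP (LK LD1_c3 LD2_c45 LD3_c17)) :=
  Lre_b IH (LK LD1_c1 LD2_c49 LD3_c56) (LK LD1_c3 LD2_c45 LD3_c17) Lrfl Lrfl
theorem f85099 : Led Lsl_dt (LP (LK LD1_c1 LD2_c49 LD3_c56)) = (LP (LK LD1_c1 LD2_c49 LD3_c56)) :=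
  Lgr Lrot79 (Lpe (f85097 IH) (Lpr_df (f85084 IH) (Lpe (f85098 IH) (Lpn (LP (LK LD1_c1 LD2_c49 LD3_c56))))))
theorem f85104 : Led Lsl_ct (LP (LK LD1_c1 LD2_c49 LD3_c56)) = (LP (LK LD1_c3 LD2_c45 LD3_c34)) :=
  Lre_c IH (LK LD1_c1 LD2_c49 LD3_c56) (LK LD1_c3 LD2_c45 LD3_c34) Lrfl Lrfl
theorem f85106 : Led Lsl_ct (LP (LK LD1_c7 LD2_c31 LD3_c49)) = (LP (LK LD1_c14 LD2_c12 LD3_c16)) :=
  Lre_c IH (LK LD1_c7 LD2_c31 LD3_c49) (LK LD1_c14 LD2_c12 LD3_c16) Lrfl Lrfl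
theorem f105372 : Led Lsl_ct (LP (LK LD1_c12 LD2_c2 LD3_c8)) = (LP (LK LD1_c6 LD2_c10 LD3_c49)) :=
  Lre_c IH (LK LD1_c12 LD2_c2 LD3_c8) (LK LD1_c6 LD2_c10 LD3_c49) Lrfl Lrfl
theorem f105373 : Led Lsl_dt (LP (LK LD1_c14 LD2_c12 LD3_c16)) = (LP (LK LD1_c12 LD2_c2 LD3_c8)) :=
  Lgr Lrot120 (Lpe (f85106 IH) (Lpe (f85105 IH) (Lpe (f85104 IH) (Lpe (f85099 IH) (Lpe (f85101 IH) (Lpe (f85102 IH) (Lpr_ft (f85110 IH) (Lpr_at (K4.f105355 IH) (Lpe (f105372 IH) (Lpn (LP (LK LD1_c12 LD2_c2 LD3_c8))))))))))))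
theorem f105380 : Led Lsl_ft (LP (LK LD1_c7 LD2_c31 LD3_c48)) = (LP (LK LD1_c14 LD2_c12 LD3_c16)) :=
  Lre_f IH (LK LD1_c7 LD2_c31 LD3_c48) (LK LD1_c14 LD2_c12 LD3_c16) Lrfl Lrfl
theorem f85121 : Led Lsl_dt (LP (LK LD1_c14 LD2_c12 LD3_c15)) = (LP (LK LD1_c7 LD2_c31 LD3_c48)) :=
  Lre_d IH (LK LD1_c14 LD2_c12 LD3_c15) (LK LD1_c7 LD2_c31 LD3_c48) Lrfl Lrfl
theorem f105381 : Led Lsl_ff (LP (LK LD1_c14 LD2_c12 LD3_c15)) = (LP (LK LD1_c12 LD2_c2 LD3_c8)) :=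
  Lgr Lrot19 (Lpr_dt (f85121 IH) (Lpr_ft (f105380 IH) (Lpr_dt (f105373 IH) (Lpn (LP (LK LD1_c12 LD2_c2 LD3_c8))))))
theorem f85120 : Led Lsl_ct (LP (LK LD1_c7 LD2_c31 LD3_c48)) = (LP (LK LD1_c3 LD2_c45 LD3_c33)) :=
  Lre_c IH (LK LD1_c7 LD2_c31 LD3_c48) (LK LD1_c3 LD2_c45 LD3_c33) Lrfl Lrfl
theorem f105366 : Led Lsl_ct (LP (LK LD1_c6 LD2_c10 LD3_c49)) = (LP (LK LD1_c12 LD2_c2 LD3_c8)) :=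
  Lre_c IH (LK LD1_c6 LD2_c10 LD3_c49) (LK LD1_c12 LD2_c2 LD3_c8) Lrfl Lrfl
theorem f105367 : Led Lsl_af (LP (LK LD1_c7 LD2_c31 LD3_c48)) = (LP (LK LD1_c12 LD2_c2 LD3_c8)) :=
  Lgr Lrot68 (Lpr_ct (f85120 IH) (Lpr_at (K4.f105355 IH) (Lpr_ct (f105366 IH) (Lpn (LP (LK LD1_c12 LD2_c2 LD3_c8))))))
theorem f85118 : Led Lsl_dt (LP (LK LD1_c7 LD2_c31 LD3_c48)) = (LP (LK LD1_c14 LD2_c12 LD3_c15)) :=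
  Lre_d IH (LK LD1_c7 LD2_c31 LD3_c48) (LK LD1_c14 LD2_c12 LD3_c15) Lrfl Lrfl
theorem f105375 : Led Lsl_af (LP (LK LD1_c14 LD2_c12 LD3_c16)) = (LP (LK LD1_c14 LD2_c12 LD3_c15)) :=
  Lgr Lrot117 (Lpr_dt (f105373 IH) (Lpe (f105367 IH) (Lpr_dt (f85118 IH) (Lpn (LP (LK LD1_c14 LD2_c12 LD3_c15))))))
theorem f105383 : Led Lsl_ft (LP (LK LD1_c14 LD2_c12 LD3_c16)) = (LP (LK LD1_c7 LD2_c31 LD3_c48)) :=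
  Lre_f IH (LK LD1_c14 LD2_c12 LD3_c16) (LK LD1_c7 LD2_c31 LD3_c48) Lrfl Lrfl
theorem f105385 : Led Lsl_at (LP (LK LD1_c7 LD2_c31 LD3_c48)) = (LP (LK LD1_c12 LD2_c2 LD3_c8)) :=
  Lgr Lrot66 (Lpe (f105383 IH) (Lpr_af (f105375 IH) (Lpr_ff (f105381 IH) (Lpn (LP (LK LD1_c12 LD2_c2 LD3_c8))))))
theorem f105369 : Led Lsl_dt (LP (LK LD1_c6 LD2_c10 LD3_c49)) = (LP (LK LD1_c3 LD2_c2 LD3_c2)) :=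
  Lre_d IH (LK LD1_c6 LD2_c10 LD3_c49) (LK LD1_c3 LD2_c2 LD3_c2) Lrfl Lrfl
theorem f95723 : Led Lsl_ct (LP (LK LD1_c3 LD2_c2 LD3_c2)) = (LP (LK LD1_c1 LD2_c49 LD3_c26)) :=
  Lgr Lrot15 (Lpe (K46.f95722 IH) (Lpr_cf (K3.f95715 IH) (Lpe (K2.f85139 IH) (Lpn (LP (LK LD1_c1 LD2_c49 LD3_c26))))))
theorem f105399 : Led Lsl_ct (LP (LK LD1_c1 LD2_c49 LD3_c26)) = (LP (LK LD1_c3 LD2_c2 LD3_c2)) :=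
  Lgr Lrot53 (Lpe (K3.f85114 IH) (Lpe (f95723 IH) (Lpe (f105369 IH) (Lpe (f105372 IH) (Lpe (f105373 IH) (Lpr_ft (f105383 IH) (Lpr_at (f105385 IH) (Lpe (f105366 IH) (Lpe (K46.f87366 IH) (Lpn (LP (LK LD1_c3 LD2_c2 LD3_c2))))))))))))
theorem f96007 : Led Lsl_ft (LP (LK LD1_c3 LD2_c45 LD3_c34)) = (LP (LK LD1_c1 LD2_c49 LD3_c54)) :=
  Lre_f IH (LK LD1_c3 LD2_c45 LD3_c34) (LK LD1_c1 LD2_c49 LD3_c54) Lrfl Lrfl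
theorem f105401 : Led Lsl_at (LP (LK LD1_c1 LD2_c49 LD3_c54)) = (LP (LK LD1_c3 LD2_c2 LD3_c2)) :=
  Lgr Lrot33 (Lpe (f96007 IH) (Lpr_dt (f85105 IH) (Lpr_ct (f85106 IH) (Lpr_dt (f105373 IH) (Lpr_ct (f105372 IH) (Lpr_dt (f105369 IH) (Lpr_ct (f95723 IH) (Lpr_dt (K3.f85114 IH) (Lpr_ct (f105399 IH) (Lpn (LP (LK LD1_c3 LD2_c2 LD3_c2))))))))))))
theorem f105406 : Led Lsl_af (LP (LK LD1_c3 LD2_c45 LD3_c34)) = (LP (LK LD1_c6 LD2_c10 LD3_c50)) :=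
  Lgr Lrot45 (Lpr_ft (f96007 IH) (Lpr_at (f105401 IH) (Lpr_ft (f96026 IH) (Lpn (LP (LK LD1_c6 LD2_c10 LD3_c50))))))
theorem f646555 : Led Lsl_gf (LP (LK LD1_c3 LD2_c45 LD3_c34)) = v5211 :=
  Lgr Lrot76 (Lpr_af (f105406 IH) (Lpe (f96026 IH) (Lpr_gt (f646554 IH) (Lpn v5211))))
theorem f651968 : K49.v5965 = v5211 :=
  (Llr Lrot26 (Lpe (K49.f650276 IH) (Lpr_ff (K49.f650290 IH) (Lpqs (K49.f651822 IH) (Lpe (K46.f439860 IH) (Lpr_gt (f646554 IH) (Lpn v5211))))))).symm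
theorem f650280 : Led Lsl_ct K46.v2058 = K49.v5965 :=
  Lgr Lrot59 (Lpr_cf (K49.f650279 IH) (Lpn K49.v5965))
theorem f130812 : Led Lsl_ct (LP (LK LD1_c6 LD2_c37 LD3_c9)) = (LP (LK LD1_c3 LD2_c16 LD3_c55)) :=
  Lre_c IH (LK LD1_c6 LD2_c37 LD3_c9) (LK LD1_c3 LD2_c16 LD3_c55) Lrfl Lrfl
theorem f754449 : v8561 = (LP (LK LD1_c6 LD2_c37 LD3_c9)) :=
  (Llr Lrot105 (Lpr_df (f754448 IH) (Lpe (f754446 IH) (Lpe (f85105 IH) (Lpr_gf (f646555 IH) (Lpq (f651968 IH) (Lpe (f650280 IH) (Lpqs (K46.f651808 IH) (Lpe (K35.f502888 IH) (Lpr_dt (K35.f453819 IH) (Lpe (K46.f453820 IH) (Lpr_dt (K46.f130813 IH) (Lpe (f130812 IH) (Lpn (LP (LK LD1_c6 LD2_c37 LD3_c9)))))))))))))))).symm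
theorem f754450 : v2089 = (LP (LK LD1_c3 LD2_c16 LD3_c53)) :=
  Lefun (Lecon (Lfl_ef (f671603 IH)) (f754449 IH)) (f624501 IH)
theorem f93312 : Led Lsl_af (LP (LK LD1_c6 LD2_c35 LD3_c36)) = (LP (LK LD1_c3 LD2_c17 LD3_c35)) :=
  Lgr Lrot0 (Lpr_at (K3.f93308 IH) (Lpn (LP (LK LD1_c3 LD2_c17 LD3_c35))))
theorem f508761 : Led Lsl_gf (LP (LK LD1_c6 LD2_c35 LD3_c36)) = v2089 :=
  Lgr Lrot76 (Lpr_af (f93312 IH) (Lpe (K3.f62219 IH) (Lpr_gt (f508760 IH) (Lpn v2089))))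
theorem f754452 : Led Lsl_gt (LP (LK LD1_c3 LD2_c16 LD3_c53)) = (LP (LK LD1_c6 LD2_c35 LD3_c36)) :=
  Leop (Lpr_gf (f508761 IH) (Lpqs (f754450 IH) (Lpn (LP (LK LD1_c3 LD2_c16 LD3_c53)))))
theorem seed_1100 : LEOK LG_g (LK LD1_c3 LD2_c16 LD3_c53) :=
  Leoe_g (LK LD1_c3 LD2_c16 LD3_c53) (f754452 IH)
theorem f119187 : Led Lsl_ct (LP (LK LD1_c1 LD2_c35 LD3_c5)) = (LP (LK LD1_c3 LD2_c16 LD3_c56)) :=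
  Lre_c IH (LK LD1_c1 LD2_c35 LD3_c5) (LK LD1_c3 LD2_c16 LD3_c56) Lrfl Lrfl
def v6041 : LQ := Led Lsl_at (LP (LK LD1_c3 LD2_c16 LD3_c53))
theorem f650682 : Led Lsl_at (LP (LK LD1_c3 LD2_c16 LD3_c53)) = v6041 :=
  Lrfl
theorem f118512 : Led Lsl_ct (LP (LK LD1_c1 LD2_c35 LD3_c4)) = (LP (LK LD1_c3 LD2_c16 LD3_c53)) :=
  Lre_c IH (LK LD1_c1 LD2_c35 LD3_c4) (LK LD1_c3 LD2_c16 LD3_c53) Lrfl Lrfl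
theorem f650684 : Led Lsl_cf K46.v2078 = v6041 :=
  Lgr Lrot1 (Lpe (K46.f508718 IH) (Lpr_ct (f118512 IH) (Lpr_at (f650682 IH) (Lpn v6041))))
theorem f650686 : Led Lsl_ft (LP (LK LD1_c3 LD2_c16 LD3_c56)) = v6041 :=
  Lgr Lrot4 (Lpe (f119187 IH) (Lpr_ff (K46.f508723 IH) (Lpr_cf (f650684 IH) (Lpn v6041))))
theorem f650683 : Led Lsl_af (LP (LK LD1_c3 LD2_c16 LD3_c53)) = v6041 :=
  Lgr Lrot0 (Lpr_at (f650682 IH) (Lpn v6041))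
def v6040 : LQ := Led Lsl_gf (LP (LK LD1_c3 LD2_c16 LD3_c53))
theorem f650679 : Led Lsl_gf (LP (LK LD1_c3 LD2_c16 LD3_c53)) = v6040 :=
  Lrfl
theorem f650688 : Led Lsl_gt (LP (LK LD1_c3 LD2_c16 LD3_c56)) = v6040 :=
  Lgr Lrot5 (Lpr_ft (f650686 IH) (Lpe (f650683 IH) (Lpr_gf (f650679 IH) (Lpn v6040))))
theorem f754453 : (LP (LK LD1_c1 LD2_c35 LD3_c20)) = v6040 :=
  Lefun (Lecon (Lfl_gt (f508760 IH)) (f754450 IH)) (f650679 IH)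
theorem f118389 : Led Lsl_ct (LP (LK LD1_c3 LD2_c15 LD3_c61)) = (LP (LK LD1_c1 LD2_c34 LD3_c46)) :=
  Lre_c IH (LK LD1_c3 LD2_c15 LD3_c61) (LK LD1_c1 LD2_c34 LD3_c46) Lrfl Lrfl
theorem f118390 : Led Lsl_ct (LP (LK LD1_c0 LD2_c44 LD3_c13)) = (LP (LK LD1_c1 LD2_c35 LD3_c3)) :=
  Lre_c IH (LK LD1_c0 LD2_c44 LD3_c13) (LK LD1_c1 LD2_c35 LD3_c3) Lrfl Lrfl
theorem f118391 : Led Lsl_at (LP (LK LD1_c1 LD2_c34 LD3_c46)) = (LP (LK LD1_c0 LD2_c44 LD3_c13)) :=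
  Lgr Lrot107 (Lpe (f118389 IH) (Lpr_af (K4.f118379 IH) (Lpe (f118390 IH) (Lpn (LP (LK LD1_c0 LD2_c44 LD3_c13))))))
theorem f118505 : Led Lsl_ft (LP (LK LD1_c3 LD2_c16 LD3_c2)) = (LP (LK LD1_c1 LD2_c34 LD3_c46)) :=
  Lre_f IH (LK LD1_c3 LD2_c16 LD3_c2) (LK LD1_c1 LD2_c34 LD3_c46) Lrfl Lrfl
theorem f119181 : Led Lsl_gt (LP (LK LD1_c3 LD2_c16 LD3_c2)) = (LP (LK LD1_c1 LD2_c35 LD3_c5)) :=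
  Lgr Lrot5 (Lpr_ft (f118505 IH) (Lpr_at (f118391 IH) (Lpe (K46.f114318 IH) (Lpn (LP (LK LD1_c1 LD2_c35 LD3_c5))))))
theorem f650444 : Led Lsl_df (LP (LK LD1_c3 LD2_c16 LD3_c2)) = K46.v5998 :=
  Lgr Lrot78 (Lpr_ft (f118505 IH) (Lpr_dt (K49.f103592 IH) (Lpr_ft (K46.f650442 IH) (Lpn K46.v5998))))
theorem f650462 : Led Lsl_gf (LP (LK LD1_c3 LD2_c16 LD3_c59)) = K46.v5998 :=
  Lgr Lrot47 (Lpr_gt (K49.f78968 IH) (Lpe (K49.f118531 IH) (Lpr_ff (K49.f650445 IH) (Lpn K46.v5998))))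
theorem f624095 : Led Lsl_ct (LP (LK LD1_c3 LD2_c16 LD3_c59)) = (LP (LK LD1_c6 LD2_c37 LD3_c17)) :=
  Lre_c IH (LK LD1_c3 LD2_c16 LD3_c59) (LK LD1_c6 LD2_c37 LD3_c17) Lrfl Lrfl
theorem f754472 : Led Lsl_gf (LP (LK LD1_c6 LD2_c41 LD3_c39)) = (LP (LK LD1_c6 LD2_c37 LD3_c17)) :=
  Lgr Lrot104 (Lpe (K3.f88993 IH) (Lpe (K3.f62264 IH) (Lpr_cf (K3.f62212 IH) (Lpqs (f754453 IH) (Lpe (f650688 IH) (Lpe (f119187 IH) (Lpe (f119181 IH) (Lpr_df (f650444 IH) (Lpe (f650462 IH) (Lpr_ct (f624095 IH) (Lpn (LP (LK LD1_c6 LD2_c37 LD3_c17)))))))))))))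
theorem f754473 : Led Lsl_gt (LP (LK LD1_c6 LD2_c37 LD3_c17)) = (LP (LK LD1_c6 LD2_c41 LD3_c39)) :=
  Leop (Lpr_gf (f754472 IH) (Lpn (LP (LK LD1_c6 LD2_c37 LD3_c17))))
theorem seed_1101 : LEOK LG_g (LK LD1_c6 LD2_c37 LD3_c17) :=
  Leoe_g (LK LD1_c6 LD2_c37 LD3_c17) (f754473 IH)
def v17036 : LQ := Led Lsl_ft (LP (LK LD1_c6 LD2_c10 LD3_c49))
theorem f754488 : Led Lsl_ft (LP (LK LD1_c6 LD2_c10 LD3_c49)) = v17036 :=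
  Lrfl
theorem f754489 : Led Lsl_af (LP (LK LD1_c7 LD2_c31 LD3_c49)) = v17036 :=
  Lgr Lrot45 (Lpr_ft (f85110 IH) (Lpr_at (K4.f105355 IH) (Lpr_ft (f754488 IH) (Lpn v17036))))
theorem f754493 : Led Lsl_gt (LP (LK LD1_c12 LD2_c2 LD3_c7)) = (LP (LK LD1_c7 LD2_c31 LD3_c49)) :=
  Lgr Lrot46 (Lpe (K46.f439862 IH) (Lpr_ft (f754488 IH) (Lpe (f754489 IH) (Lpn (LP (LK LD1_c7 LD2_c31 LD3_c49))))))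
theorem f754494 : Led Lsl_gt (LP (LK LD1_c12 LD2_c2 LD3_c7)) = (LP (LK LD1_c7 LD2_c31 LD3_c49)) :=
  Leop (Lpe (f754493 IH) (Lpn (LP (LK LD1_c12 LD2_c2 LD3_c7))))
theorem seed_1102 : LEOK LG_g (LK LD1_c12 LD2_c2 LD3_c7) :=
  Leoe_g (LK LD1_c12 LD2_c2 LD3_c7) (f754494 IH)
theorem f650660 : Led Lsl_dt (LP (LK LD1_c12 LD2_c1 LD3_c46)) = K46.v6036 :=
  Lgr Lrot42 (Lpr_df (K46.f650659 IH) (Lpn K46.v6036))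
theorem f651626 : Led Lsl_df (LP (LK LD1_c12 LD2_c2 LD3_c7)) = K46.v6173 :=
  Lgr Lrot162 (Lpe (K46.f651624 IH) (Lpe (K46.f151000 IH) (Lpe (K46.f130794 IH) (Lpe (K46.f96113 IH) (Lpr_dt (f650660 IH) (Lpe (K46.f650662 IH) (Lpr_ct (K46.f509029 IH) (Lpr_gt (K35.f62129 IH) (Lpr_ct (K46.f651621 IH) (Lpn K46.v6173))))))))))
def v2605 : LQ := Led Lsl_ft (LP (LK LD1_c1 LD2_c49 LD3_c26))
theorem f527741 : Led Lsl_ft (LP (LK LD1_c1 LD2_c49 LD3_c26)) = v2605 :=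
  Lrfl
def v2603 : LQ := Led Lsl_gt (LP (LK LD1_c1 LD2_c49 LD3_c26))
theorem f527738 : Led Lsl_gt (LP (LK LD1_c1 LD2_c49 LD3_c26)) = v2603 :=
  Lrfl
theorem f85108 : Led Lsl_ft (LP (LK LD1_c1 LD2_c49 LD3_c56)) = (LP (LK LD1_c0 LD2_c51 LD3_c48)) :=
  Lre_f IH (LK LD1_c1 LD2_c49 LD3_c56) (LK LD1_c0 LD2_c51 LD3_c48) Lrfl Lrfl
theorem f527742 : Led Lsl_af (LP (LK LD1_c1 LD2_c49 LD3_c56)) = v2605 :=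
  Lgr Lrot45 (Lpr_ft (f85108 IH) (Lpr_at (K2.f85109 IH) (Lpr_ft (f527741 IH) (Lpn v2605))))
theorem f527747 : Led Lsl_gt v2603 = (LP (LK LD1_c1 LD2_c49 LD3_c56)) :=
  Lgr Lrot46 (Lpe (f527738 IH) (Lpr_ft (f527741 IH) (Lpe (f527742 IH) (Lpn (LP (LK LD1_c1 LD2_c49 LD3_c56))))))
def v9314 : LQ := Led Lsl_dt v2603
theorem f675356 : Led Lsl_dt v2603 = v9314 :=
  Lrfl
theorem f675357 : Led Lsl_df v2603 = v9314 :=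
  Lgr Lrot38 (Lpr_dt (f675356 IH) (Lpn v9314))
def v831 : LQ := Led Lsl_gf (LP (LK LD1_c0 LD2_c52 LD3_c3))
def v3445 : LQ := Led Lsl_et v831
def v10728 : LQ := Led Lsl_dt v3445
theorem f681520 : Led Lsl_dt v3445 = v10728 :=
  Lrfl
theorem f625674 : Led Lsl_et v831 = v3445 :=
  Lrfl
theorem f625675 : Led Lsl_ef v831 = v3445 :=
  Lgr Lrot88 (Lpr_et (f625674 IH) (Lpn v3445))
theorem f459619 : Led Lsl_gf (LP (LK LD1_c0 LD2_c52 LD3_c3)) = v831 :=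
  Lrfl
theorem f66437 : Led Lsl_et (LP (LK LD1_c0 LD2_c23 LD3_c34)) = (LP (LK LD1_c0 LD2_c52 LD3_c3)) :=
  Lre_e IH (LK LD1_c0 LD2_c23 LD3_c34) (LK LD1_c0 LD2_c52 LD3_c3) Lrfl Lrfl
theorem f508989 : Led Lsl_dt (LP (LK LD1_c3 LD2_c18 LD3_c7)) = (LP (LK LD1_c6 LD2_c40 LD3_c7)) :=
  Lre_d IH (LK LD1_c3 LD2_c18 LD3_c7) (LK LD1_c6 LD2_c40 LD3_c7) Lrfl Lrfl
theorem f681522 : Led Lsl_gt (LP (LK LD1_c6 LD2_c40 LD3_c7)) = v10728 :=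
  Lgr Lrot139 (Lpe (f508989 IH) (Lpqs (K46.f649461 IH) (Lpe (K46.f527786 IH) (Lpe (K5.f105629 IH) (Lpr_dt (K1.f62309 IH) (Lpe (K1.f14704 IH) (Lpe (K3.f5766 IH) (Lpr_et (f66437 IH) (Lpr_gf (f459619 IH) (Lpr_ef (f625675 IH) (Lpr_dt (f681520 IH) (Lpn v10728))))))))))))
theorem f416433 : Led Lsl_dt (LP (LK LD1_c6 LD2_c40 LD3_c17)) = (LP (LK LD1_c3 LD2_c18 LD3_c11)) :=
  Lre_d IH (LK LD1_c6 LD2_c40 LD3_c17) (LK LD1_c3 LD2_c18 LD3_c11) Lrfl Lrfl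
theorem f76821 : Led Lsl_gt (LP (LK LD1_c1 LD2_c38 LD3_c11)) = (LP (LK LD1_c3 LD2_c23 LD3_c10)) :=
  Lre_g IH (LK LD1_c1 LD2_c38 LD3_c11) (LK LD1_c3 LD2_c23 LD3_c10) Lrfl Lrfl
theorem f76833 : Led Lsl_et (LP (LK LD1_c3 LD2_c23 LD3_c50)) = (LP (LK LD1_c1 LD2_c38 LD3_c11)) :=
  Lre_e IH (LK LD1_c3 LD2_c23 LD3_c50) (LK LD1_c1 LD2_c38 LD3_c11) Lrfl Lrfl
theorem f90588 : Led Lsl_dt (LP (LK LD1_c3 LD2_c23 LD3_c50)) = (LP (LK LD1_c3 LD2_c23 LD3_c9)) :=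
  Lgr Lrot37 (Lpr_et (f76833 IH) (Lpr_gt (f76821 IH) (Lpr_dt (K2.f76800 IH) (Lpr_gt (K2.f66990 IH) (Lpe (K2.f76834 IH) (Lpr_et (K2.f90584 IH) (Lpr_gt (K2.f66934 IH) (Lpe (K1.f66919 IH) (Lpe (K2.f76810 IH) (Lpr_gt (K46.f76865 IH) (Lpn (LP (LK LD1_c3 LD2_c23 LD3_c9)))))))))))))
theorem f93231 : Led Lsl_df (LP (LK LD1_c3 LD2_c23 LD3_c50)) = (LP (LK LD1_c3 LD2_c23 LD3_c9)) :=
  Lgr Lrot38 (Lpr_dt (f90588 IH) (Lpn (LP (LK LD1_c3 LD2_c23 LD3_c9))))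
theorem f416434 : Led Lsl_bf (LP (LK LD1_c6 LD2_c40 LD3_c17)) = (LP (LK LD1_c3 LD2_c23 LD3_c50)) :=
  Lgr Lrot93 (Lpr_dt (f416433 IH) (Lpr_bt (K46.f416427 IH) (Lpe (f93231 IH) (Lpn (LP (LK LD1_c3 LD2_c23 LD3_c50))))))
theorem f93233 : Led Lsl_et (LP (LK LD1_c1 LD2_c38 LD3_c11)) = (LP (LK LD1_c3 LD2_c23 LD3_c50)) :=
  Lre_e IH (LK LD1_c1 LD2_c38 LD3_c11) (LK LD1_c3 LD2_c23 LD3_c50) Lrfl Lrfl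
theorem f416457 : Led Lsl_et (LP (LK LD1_c6 LD2_c40 LD3_c17)) = (LP (LK LD1_c3 LD2_c23 LD3_c47)) :=
  Lgr Lrot74 (Lpr_bf (f416434 IH) (Lpe (f93233 IH) (Lpe (K46.f76827 IH) (Lpn (LP (LK LD1_c3 LD2_c23 LD3_c47))))))
theorem f416460 : Led Lsl_ef (LP (LK LD1_c6 LD2_c40 LD3_c17)) = (LP (LK LD1_c3 LD2_c23 LD3_c47)) :=
  Lgr Lrot88 (Lpr_et (f416457 IH) (Lpn (LP (LK LD1_c3 LD2_c23 LD3_c47))))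
theorem f650522 : Led Lsl_ct (LP (LK LD1_c6 LD2_c40 LD3_c17)) = K46.v6011 :=
  Lgr Lrot15 (Lpr_ef (f416460 IH) (Lpr_cf (K46.f414284 IH) (Lpr_ef (K46.f650521 IH) (Lpn K46.v6011))))
theorem f651354 : Led Lsl_af (LP (LK LD1_c3 LD2_c18 LD3_c9)) = K46.v6122 :=
  Lgr Lrot0 (Lpr_at (K46.f651353 IH) (Lpn K46.v6122))
theorem f654173 : Led Lsl_af (LP (LK LD1_c6 LD2_c40 LD3_c17)) = K46.v6116 :=
  Lgr Lrot68 (Lpr_ct (f650522 IH) (Lpq (K46.f654019 IH) (Lpe (f651354 IH) (Lpr_ct (K46.f651286 IH) (Lpn K46.v6116)))))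
theorem f681523 : Led Lsl_gf (LP (LK LD1_c6 LD2_c40 LD3_c17)) = v10728 :=
  Lgr Lrot76 (Lpr_af (f654173 IH) (Lpe (K49.f654200 IH) (Lpr_gt (f681522 IH) (Lpn v10728))))
theorem f416459 : Led Lsl_dt (LP (LK LD1_c3 LD2_c18 LD3_c11)) = (LP (LK LD1_c6 LD2_c40 LD3_c17)) :=
  Lre_d IH (LK LD1_c3 LD2_c18 LD3_c11) (LK LD1_c6 LD2_c40 LD3_c17) Lrfl Lrfl
def v6127 : LQ := Led Lsl_et (LP (LK LD1_c3 LD2_c18 LD3_c11))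
theorem f651388 : Led Lsl_et (LP (LK LD1_c3 LD2_c18 LD3_c11)) = v6127 :=
  Lrfl
def v2624 : LQ := Led Lsl_et (LP (LK LD1_c1 LD2_c49 LD3_c56))
theorem f527920 : Led Lsl_et (LP (LK LD1_c1 LD2_c49 LD3_c56)) = v2624 :=
  Lrfl
theorem f85107 : Led Lsl_ft (LP (LK LD1_c0 LD2_c51 LD3_c48)) = (LP (LK LD1_c1 LD2_c49 LD3_c56)) :=
  Lre_f IH (LK LD1_c0 LD2_c51 LD3_c48) (LK LD1_c1 LD2_c49 LD3_c56) Lrfl Lrfl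
theorem f85123 : Led Lsl_et (LP (LK LD1_c0 LD2_c23 LD3_c25)) = (LP (LK LD1_c0 LD2_c51 LD3_c48)) :=
  Lre_e IH (LK LD1_c0 LD2_c23 LD3_c25) (LK LD1_c0 LD2_c51 LD3_c48) Lrfl Lrfl
def v820 : LQ := Led Lsl_et (LP (LK LD1_c0 LD2_c51 LD3_c49))
theorem f459555 : Led Lsl_et (LP (LK LD1_c0 LD2_c51 LD3_c49)) = v820 :=
  Lrfl
theorem f459558 : Led Lsl_ef (LP (LK LD1_c0 LD2_c51 LD3_c49)) = v820 :=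
  Lgr Lrot88 (Lpr_et (f459555 IH) (Lpn v820))
theorem f527923 : Led Lsl_ff v820 = v2624 :=
  Lgr Lrot72 (Lpe (f459558 IH) (Lpr_ft (K3.f95732 IH) (Lpr_et (f85123 IH) (Lpr_ft (f85107 IH) (Lpr_et (f527920 IH) (Lpn v2624))))))
theorem f441539 : Led Lsl_et (LP (LK LD1_c0 LD2_c52 LD3_c3)) = (LP (LK LD1_c0 LD2_c23 LD3_c34)) :=
  Lre_e IH (LK LD1_c0 LD2_c52 LD3_c3) (LK LD1_c0 LD2_c23 LD3_c34) Lrfl Lrfl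
theorem f459556 : Led Lsl_af (LP (LK LD1_c0 LD2_c52 LD3_c3)) = v820 :=
  Lgr Lrot50 (Lpr_et (f441539 IH) (Lpr_at (K3.f95982 IH) (Lpr_et (f459555 IH) (Lpn v820))))
theorem f527926 : Led Lsl_gf v831 = v2624 :=
  Lgr Lrot47 (Lpe (f459619 IH) (Lpr_af (f459556 IH) (Lpr_ff (f527923 IH) (Lpn v2624))))
theorem f681527 : Led Lsl_gt v6127 = v9314 :=
  Lgr Lrot137 (Lpe (f651388 IH) (Lpr_dt (f416459 IH) (Lpr_gf (f681523 IH) (Lpe (f681520 IH) (Lpe (f625675 IH) (Lpr_gf (f527926 IH) (Lpe (f527920 IH) (Lpr_dt (f85099 IH) (Lpe (f527747 IH) (Lpr_df (f675357 IH) (Lpn v9314)))))))))))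
theorem f651390 : Led Lsl_ef (LP (LK LD1_c3 LD2_c18 LD3_c11)) = v6127 :=
  Lgr Lrot88 (Lpr_et (f651388 IH) (Lpn v6127))
theorem f508805 : Led Lsl_et (LP (LK LD1_c1 LD2_c35 LD3_c35)) = (LP (LK LD1_c3 LD2_c18 LD3_c13)) :=
  Lre_e IH (LK LD1_c1 LD2_c35 LD3_c35) (LK LD1_c3 LD2_c18 LD3_c13) Lrfl Lrfl
theorem f651391 : Led Lsl_ct (LP (LK LD1_c3 LD2_c18 LD3_c13)) = v6127 :=
  Lgr Lrot15 (Lpe (f508805 IH) (Lpe (K46.f416426 IH) (Lpr_ef (f651390 IH) (Lpn v6127))))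
theorem f651345 : Led Lsl_gt (LP (LK LD1_c3 LD2_c18 LD3_c13)) = (LP (LK LD1_c6 LD2_c40 LD3_c20)) :=
  Lre_g IH (LK LD1_c3 LD2_c18 LD3_c13) (LK LD1_c6 LD2_c40 LD3_c20) Lrfl Lrfl
theorem f754495 : K46.v6173 = (LP (LK LD1_c6 LD2_c40 LD3_c20)) :=
  (Llr Lrot153 (Lpe (f651626 IH) (Lpr_gt (f754493 IH) (Lpr_dt (f85102 IH) (Lpe (f85104 IH) (Lpe (f85099 IH) (Lpe (f527747 IH) (Lpr_df (f675357 IH) (Lpe (f681527 IH) (Lpe (f651391 IH) (Lpr_gt (f651345 IH) (Lpn (LP (LK LD1_c6 LD2_c40 LD3_c20)))))))))))))).symm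
theorem f65481 : Led Lsl_ct (LP (LK LD1_c6 LD2_c34 LD3_c47)) = (LP (LK LD1_c3 LD2_c15 LD3_c43)) :=
  Lre_c IH (LK LD1_c6 LD2_c34 LD3_c47) (LK LD1_c3 LD2_c15 LD3_c43) Lrfl Lrfl
theorem f651983 : Led Lsl_af (LP (LK LD1_c6 LD2_c34 LD3_c47)) = K46.v6173 :=
  Lgr Lrot68 (Lpr_ct (f65481 IH) (Lpr_at (K46.f650295 IH) (Lpqs (K46.f651810 IH) (Lpr_ct (K46.f651621 IH) (Lpn K46.v6173)))))
theorem f754496 : Led Lsl_at (LP (LK LD1_c6 LD2_c40 LD3_c20)) = (LP (LK LD1_c6 LD2_c34 LD3_c47)) :=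
  Leop (Lpr_af (f651983 IH) (Lpqs (f754495 IH) (Lpn (LP (LK LD1_c6 LD2_c40 LD3_c20)))))
theorem seed_1103 : LEOK LG_a (LK LD1_c6 LD2_c40 LD3_c20) :=
  Leoe_a (LK LD1_c6 LD2_c40 LD3_c20) (f754496 IH)
theorem f130826 : Led Lsl_ct (LP (LK LD1_c3 LD2_c16 LD3_c55)) = (LP (LK LD1_c6 LD2_c37 LD3_c9)) :=
  Lre_c IH (LK LD1_c3 LD2_c16 LD3_c55) (LK LD1_c6 LD2_c37 LD3_c9) Lrfl Lrfl
theorem f65480 : Led Lsl_ct (LP (LK LD1_c3 LD2_c15 LD3_c43)) = (LP (LK LD1_c6 LD2_c34 LD3_c47)) :=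
  Lre_c IH (LK LD1_c3 LD2_c15 LD3_c43) (LK LD1_c6 LD2_c34 LD3_c47) Lrfl Lrfl
theorem f651984 : Led Lsl_at (LP (LK LD1_c6 LD2_c34 LD3_c47)) = K46.v6173 :=
  Lgr Lrot100 (Lpr_af (f651983 IH) (Lpn K46.v6173))
theorem f650736 : Led Lsl_ff (LP (LK LD1_c3 LD2_c16 LD3_c55)) = K46.v6048 :=
  Lgr Lrot3 (Lpr_ft (K46.f650733 IH) (Lpn K46.v6048))
theorem f650738 : Led Lsl_dt K46.v5206 = K46.v6048 :=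
  Lgr Lrot60 (Lpe (K46.f646527 IH) (Lpr_df (K5.f130808 IH) (Lpr_ff (f650736 IH) (Lpn K46.v6048))))
theorem f651812 : K46.v6048 = (LP (LK LD1_c3 LD2_c15 LD3_c43)) :=
  Lefun (Lecon (f650738 IH) (K46.f651809 IH).symm) (K46.f65479 IH)
theorem f651970 : Led Lsl_ff (LP (LK LD1_c6 LD2_c34 LD3_c47)) = (LP (LK LD1_c6 LD2_c37 LD3_c9)) :=
  Lgr Lrot23 (Lpr_ct (f65481 IH) (Lpq (f651812 IH) (Lpe (f650736 IH) (Lpr_ct (f130826 IH) (Lpn (LP (LK LD1_c6 LD2_c37 LD3_c9)))))))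
def v6128 : LQ := Led Lsl_gf (LP (LK LD1_c3 LD2_c18 LD3_c13))
theorem f651397 : Led Lsl_gf (LP (LK LD1_c3 LD2_c18 LD3_c13)) = v6128 :=
  Lrfl
theorem f754503 : (LP (LK LD1_c6 LD2_c37 LD3_c9)) = v6128 :=
  (Llr Lrot52 (Lpe (f651970 IH) (Lpr_at (f651984 IH) (Lpqs (f754495 IH) (Lpe (f651345 IH) (Lpr_gf (f651397 IH) (Lpn v6128))))))).symm
def v7361 : LQ := Led Lsl_gt (LP (LK LD1_c3 LD2_c45 LD3_c36))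
theorem f664724 : Led Lsl_gt (LP (LK LD1_c3 LD2_c45 LD3_c36)) = v7361 :=
  Lrfl
theorem f85126 : Led Lsl_dt (LP (LK LD1_c1 LD2_c49 LD3_c55)) = (LP (LK LD1_c3 LD2_c45 LD3_c36)) :=
  Lre_d IH (LK LD1_c1 LD2_c49 LD3_c55) (LK LD1_c3 LD2_c45 LD3_c36) Lrfl Lrfl
theorem f85125 : Led Lsl_gt (LP (LK LD1_c0 LD2_c51 LD3_c48)) = (LP (LK LD1_c1 LD2_c49 LD3_c55)) :=
  Lre_g IH (LK LD1_c0 LD2_c51 LD3_c48) (LK LD1_c1 LD2_c49 LD3_c55) Lrfl Lrfl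
def v2614 : LQ := Led Lsl_gf (LP (LK LD1_c1 LD2_c49 LD3_c43))
theorem f527787 : Led Lsl_gf (LP (LK LD1_c1 LD2_c49 LD3_c43)) = v2614 :=
  Lrfl
theorem f634285 : v2614 = (LP (LK LD1_c3 LD2_c18 LD3_c11)) :=
  (Llr Lrot145 (Lpe (f527787 IH) (Lpr_df (K34.f105636 IH) (Lpr_et (K5.f65568 IH) (Lpe (K3.f96721 IH) (Lpr_dt (K3.f95985 IH) (Lpe (K3.f104098 IH) (Lpe (K3.f5393 IH) (Lpr_et (K5.f26242 IH) (Lpr_gt (K46.f634281 IH) (Lpe (f416457 IH) (Lpr_dt (f416433 IH) (Lpn (LP (LK LD1_c3 LD2_c18 LD3_c11))))))))))))))).symm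
theorem f664725 : Led Lsl_dt v6127 = v7361 :=
  Lgr Lrot56 (Lpe (f651390 IH) (Lpq (f634285 IH) (Lpe (f527787 IH) (Lpe (K5.f105629 IH) (Lpr_dt (K1.f62309 IH) (Lpr_gt (K1.f62308 IH) (Lpe (K1.f62853 IH) (Lpr_et (f85123 IH) (Lpr_gt (f85125 IH) (Lpr_dt (f85126 IH) (Lpr_gt (f664724 IH) (Lpn v7361))))))))))))
theorem f664727 : Led Lsl_df v6127 = v7361 :=
  Lgr Lrot38 (Lpr_dt (f664725 IH) (Lpn v7361))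
def v6572 : LQ := Led Lsl_dt (LP (LK LD1_c3 LD2_c23 LD3_c47))
theorem f653961 : Led Lsl_dt (LP (LK LD1_c3 LD2_c23 LD3_c47)) = v6572 :=
  Lrfl
theorem f653963 : Led Lsl_df (LP (LK LD1_c3 LD2_c23 LD3_c47)) = v6572 :=
  Lgr Lrot38 (Lpr_dt (f653961 IH) (Lpn v6572))
theorem f664728 : Led Lsl_ef v6572 = v7361 :=
  Lgr Lrot73 (Lpe (f653963 IH) (Lpe (f416460 IH) (Lpr_dt (f416433 IH) (Lpr_et (f651388 IH) (Lpr_dt (f664725 IH) (Lpn v7361))))))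
theorem f654219 : Led Lsl_ff v6572 = (LP (LK LD1_c6 LD2_c40 LD3_c17)) :=
  Lgr Lrot19 (Lpe (f653963 IH) (Lpq (K46.f653996 IH) (Lpe (K46.f651279 IH) (Lpr_dt (f416459 IH) (Lpn (LP (LK LD1_c6 LD2_c40 LD3_c17)))))))
theorem f654223 : Led Lsl_ft v6572 = (LP (LK LD1_c6 LD2_c40 LD3_c17)) :=
  Lgr Lrot48 (Lpr_ff (f654219 IH) (Lpn (LP (LK LD1_c6 LD2_c40 LD3_c17))))
theorem f654006 : (LP (LK LD1_c3 LD2_c18 LD3_c11)) = K46.v6573 :=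
  Lefun (Lecon (Lfl_ff (K46.f651279 IH)) (K46.f653996 IH)) (K46.f653965 IH)
theorem f664731 : Led Lsl_ft v6127 = v7361 :=
  Lgr Lrot86 (Lpe (f651388 IH) (Lpqs (f654006 IH) (Lpe (K46.f653965 IH) (Lpe (f416457 IH) (Lpe (f654223 IH) (Lpr_ef (f664728 IH) (Lpn v7361)))))))
theorem f664733 : Led Lsl_ff v6127 = v7361 :=
  Lgr Lrot3 (Lpr_ft (f664731 IH) (Lpn v7361))
theorem f65264 : Led Lsl_et (LP (LK LD1_c3 LD2_c18 LD3_c13)) = (LP (LK LD1_c1 LD2_c35 LD3_c35)) :=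
  Lre_e IH (LK LD1_c3 LD2_c18 LD3_c13) (LK LD1_c1 LD2_c35 LD3_c35) Lrfl Lrfl
theorem f651389 : Led Lsl_cf (LP (LK LD1_c3 LD2_c18 LD3_c13)) = v6127 :=
  Lgr Lrot39 (Lpr_et (f65264 IH) (Lpr_ct (K46.f416431 IH) (Lpr_et (f651388 IH) (Lpn v6127))))
theorem f508806 : Led Lsl_ft (LP (LK LD1_c3 LD2_c18 LD3_c13)) = (LP (LK LD1_c6 LD2_c40 LD3_c22)) :=
  Lre_f IH (LK LD1_c3 LD2_c18 LD3_c13) (LK LD1_c6 LD2_c40 LD3_c22) Lrfl Lrfl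
theorem f664734 : Led Lsl_ct (LP (LK LD1_c6 LD2_c40 LD3_c22)) = v7361 :=
  Lgr Lrot40 (Lpe (f508806 IH) (Lpr_cf (f651389 IH) (Lpr_ff (f664733 IH) (Lpn v7361))))
theorem f754506 : Led Lsl_gt (LP (LK LD1_c6 LD2_c34 LD3_c47)) = (LP (LK LD1_c6 LD2_c40 LD3_c22)) :=
  Lgr Lrot150 (Lpe (f65480 IH) (Lpe (K49.f624291 IH) (Lpr_df (K49.f453922 IH) (Lpr_gt (K5.f130822 IH) (Lpr_ct (f130826 IH) (Lpqs (f754503 IH) (Lpe (f651397 IH) (Lpr_ct (f651391 IH) (Lpr_df (f664727 IH) (Lpe (f664734 IH) (Lpn (LP (LK LD1_c6 LD2_c40 LD3_c22)))))))))))))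
theorem f754507 : Led Lsl_gt (LP (LK LD1_c6 LD2_c34 LD3_c47)) = (LP (LK LD1_c6 LD2_c40 LD3_c22)) :=
  Leop (Lpe (f754506 IH) (Lpn (LP (LK LD1_c6 LD2_c34 LD3_c47))))
theorem seed_1104 : LEOK LG_g (LK LD1_c6 LD2_c34 LD3_c47) :=
  Leoe_g (LK LD1_c6 LD2_c34 LD3_c47) (f754507 IH)
def v5963 : LQ := Led Lsl_gt (LP (LK LD1_c3 LD2_c15 LD3_c42))
theorem f650268 : Led Lsl_gt (LP (LK LD1_c3 LD2_c15 LD3_c42)) = v5963 :=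
  Lrfl
theorem f651974 : Led Lsl_ft (LP (LK LD1_c6 LD2_c34 LD3_c47)) = (LP (LK LD1_c6 LD2_c37 LD3_c9)) :=
  Lgr Lrot48 (Lpr_ff (f651970 IH) (Lpn (LP (LK LD1_c6 LD2_c37 LD3_c9))))
def v10013 : LQ := Led Lsl_ct K46.v3147
theorem f678371 : Led Lsl_ct K46.v3147 = v10013 :=
  Lrfl
theorem f678375 : Led Lsl_ff K46.v6173 = v10013 :=
  Lgr Lrot23 (Lpe (K46.f651622 IH) (Lpq (K46.f651810 IH) (Lpe (K46.f650300 IH) (Lpr_ct (f678371 IH) (Lpn v10013)))))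
theorem f678376 : Led Lsl_at (LP (LK LD1_c6 LD2_c37 LD3_c9)) = v10013 :=
  Lgr Lrot66 (Lpe (f651974 IH) (Lpr_af (f651983 IH) (Lpr_ff (f678375 IH) (Lpn v10013))))
theorem f754508 : Led Lsl_gf v10013 = (LP (LK LD1_c6 LD2_c40 LD3_c22)) :=
  Lgr Lrot76 (Lpe (f678376 IH) (Lpe (f651974 IH) (Lpr_gt (f754506 IH) (Lpn (LP (LK LD1_c6 LD2_c40 LD3_c22))))))
theorem f678373 : Led Lsl_cf K46.v3147 = v10013 :=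
  Lgr Lrot11 (Lpr_ct (f678371 IH) (Lpn v10013))
theorem f650291 : Led Lsl_gt v5963 = K49.v3146 :=
  Lgr Lrot46 (Lpe (f650268 IH) (Lpr_ft (K49.f650286 IH) (Lpe (K49.f650287 IH) (Lpn K49.v3146))))
theorem f508803 : Led Lsl_ft (LP (LK LD1_c6 LD2_c40 LD3_c22)) = (LP (LK LD1_c3 LD2_c18 LD3_c13)) :=
  Lre_f IH (LK LD1_c6 LD2_c40 LD3_c22) (LK LD1_c3 LD2_c18 LD3_c13) Lrfl Lrfl
theorem f664732 : Led Lsl_cf (LP (LK LD1_c6 LD2_c40 LD3_c22)) = v7361 :=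
  Lgr Lrot108 (Lpr_ft (f508803 IH) (Lpr_ct (f651391 IH) (Lpr_ft (f664731 IH) (Lpn v7361))))
theorem f527746 : Led Lsl_ff (LP (LK LD1_c1 LD2_c49 LD3_c26)) = v2605 :=
  Lgr Lrot3 (Lpr_ft (f527741 IH) (Lpn v2605))
theorem f527748 : Led Lsl_at (LP (LK LD1_c1 LD2_c49 LD3_c56)) = v2605 :=
  Lgr Lrot66 (Lpe (f85107 IH) (Lpe (K3.f85113 IH) (Lpr_ff (f527746 IH) (Lpn v2605))))
theorem f527754 : Led Lsl_gt (LP (LK LD1_c1 LD2_c49 LD3_c55)) = v2605 :=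
  Lgr Lrot46 (Lpe (f85125 IH) (Lpr_ft (f85107 IH) (Lpr_at (f527748 IH) (Lpn v2605))))
theorem f105412 : Led Lsl_ft (LP (LK LD1_c6 LD2_c10 LD3_c50)) = (LP (LK LD1_c3 LD2_c2 LD3_c2)) :=
  Lre_f IH (LK LD1_c6 LD2_c10 LD3_c50) (LK LD1_c3 LD2_c2 LD3_c2) Lrfl Lrfl
theorem f527744 : Led Lsl_cf (LP (LK LD1_c6 LD2_c10 LD3_c50)) = v2605 :=
  Lgr Lrot108 (Lpr_ft (f105412 IH) (Lpr_ct (f95723 IH) (Lpr_ft (f527741 IH) (Lpn v2605))))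
theorem f754511 : v5963 = (LP (LK LD1_c6 LD2_c10 LD3_c50)) :=
  (Llr Lrot104 (Lpr_gt (f650291 IH) (Lpe (K49.f624032 IH) (Lpr_df (K46.f624034 IH) (Lpr_cf (f678373 IH) (Lpr_gf (f754508 IH) (Lpr_cf (f664732 IH) (Lpe (f664724 IH) (Lpe (f85126 IH) (Lpr_gt (f527754 IH) (Lpe (f527744 IH) (Lpn (LP (LK LD1_c6 LD2_c10 LD3_c50)))))))))))))).symm
theorem f754514 : Led Lsl_gt (LP (LK LD1_c3 LD2_c15 LD3_c42)) = (LP (LK LD1_c6 LD2_c10 LD3_c50)) :=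
  Leop (Lpq (f754511 IH) (Lpe (f650268 IH) (Lpn (LP (LK LD1_c3 LD2_c15 LD3_c42)))))
theorem seed_1105 : LEOK LG_g (LK LD1_c3 LD2_c15 LD3_c42) :=
  Leoe_g (LK LD1_c3 LD2_c15 LD3_c42) (f754514 IH)
def v6129 : LQ := Led Lsl_at (LP (LK LD1_c3 LD2_c18 LD3_c13))
theorem f651399 : Led Lsl_at (LP (LK LD1_c3 LD2_c18 LD3_c13)) = v6129 :=
  Lrfl
def v2094 : LQ := Led Lsl_ft (LP (LK LD1_c1 LD2_c35 LD3_c34))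
theorem f508807 : Led Lsl_ft (LP (LK LD1_c1 LD2_c35 LD3_c34)) = v2094 :=
  Lrfl
theorem f508808 : Led Lsl_af (LP (LK LD1_c1 LD2_c35 LD3_c35)) = v2094 :=
  Lgr Lrot45 (Lpr_ft (K46.f508799 IH) (Lpe (K46.f508791 IH) (Lpr_ft (f508807 IH) (Lpn v2094))))
theorem f651401 : Led Lsl_ef v2094 = v6129 :=
  Lgr Lrot20 (Lpe (f508808 IH) (Lpr_et (f508805 IH) (Lpr_at (f651399 IH) (Lpn v6129))))
theorem f651402 : Led Lsl_et v2094 = v6129 :=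
  Lgr Lrot87 (Lpr_ef (f651401 IH) (Lpn v6129))
theorem f650516 : Led Lsl_et (LP (LK LD1_c3 LD2_c16 LD3_c20)) = (LP (LK LD1_c6 LD2_c36 LD3_c4)) :=
  Lre_e IH (LK LD1_c3 LD2_c16 LD3_c20) (LK LD1_c6 LD2_c36 LD3_c4) Lrfl Lrfl
theorem f654009 : K46.v6009 = (LP (LK LD1_c1 LD2_c35 LD3_c34)) :=
  Lefun (Lecon (Lfl_cf (K46.f653957 IH)) (K46.f654002 IH).symm) (K46.f140079 IH)
theorem f654023 : (LP (LK LD1_c3 LD2_c16 LD3_c20)) = v2094 :=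
  Lefun (Lecon (Lfl_ff (K46.f650514 IH)) (f654009 IH)) (f508807 IH)
theorem f654044 : v6129 = (LP (LK LD1_c6 LD2_c36 LD3_c4)) :=
  Lefun (Lecon (f651402 IH) (f654023 IH).symm) (f650516 IH)
def v5964 : LQ := Led Lsl_gf (LP (LK LD1_c3 LD2_c15 LD3_c42))
theorem f650273 : Led Lsl_gf (LP (LK LD1_c3 LD2_c15 LD3_c42)) = v5964 :=
  Lrfl
theorem f650283 : Led Lsl_gt K49.v3146 = v5964 :=
  Lgr Lrot5 (Lpr_ft (K49.f650281 IH) (Lpe (K49.f650277 IH) (Lpr_gf (f650273 IH) (Lpn v5964))))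
def v2620 : LQ := Led Lsl_gf (LP (LK LD1_c1 LD2_c49 LD3_c54))
theorem f527902 : Led Lsl_gf (LP (LK LD1_c1 LD2_c49 LD3_c54)) = v2620 :=
  Lrfl
theorem f62942 : Led Lsl_dt (LP (LK LD1_c1 LD2_c49 LD3_c54)) = (LP (LK LD1_c3 LD2_c45 LD3_c33)) :=
  Lre_d IH (LK LD1_c1 LD2_c49 LD3_c54) (LK LD1_c3 LD2_c45 LD3_c33) Lrfl Lrfl
theorem f105370 : Led Lsl_af (LP (LK LD1_c1 LD2_c49 LD3_c54)) = (LP (LK LD1_c3 LD2_c2 LD3_c2)) :=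
  Lgr Lrot117 (Lpr_dt (f62942 IH) (Lpr_at (K4.f105355 IH) (Lpr_dt (f105369 IH) (Lpn (LP (LK LD1_c3 LD2_c2 LD3_c2))))))
theorem f527903 : Led Lsl_gt (LP (LK LD1_c6 LD2_c10 LD3_c50)) = v2620 :=
  Lgr Lrot5 (Lpr_ft (f105412 IH) (Lpe (f105370 IH) (Lpr_gf (f527902 IH) (Lpn v2620))))
theorem f754512 : K49.v3146 = v2620 :=
  Lefun (Lecon (f650291 IH) (f754511 IH)) (f527903 IH)
theorem f754515 : v5964 = (LP (LK LD1_c1 LD2_c49 LD3_c54)) :=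
  Lefun (Lecon (f650283 IH) (f754512 IH)) (Lfl_gf (f527902 IH))
theorem f85116 : Led Lsl_ct (LP (LK LD1_c0 LD2_c51 LD3_c48)) = (LP (LK LD1_c1 LD2_c49 LD3_c54)) :=
  Lre_c IH (LK LD1_c0 LD2_c51 LD3_c48) (LK LD1_c1 LD2_c49 LD3_c54) Lrfl Lrfl
def v819 : LQ := Led Lsl_gf (LP (LK LD1_c0 LD2_c51 LD3_c48))
theorem f459553 : Led Lsl_gf (LP (LK LD1_c0 LD2_c51 LD3_c48)) = v819 :=
  Lrfl
def v3420 : LQ := Led Lsl_dt v819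
theorem f625580 : Led Lsl_dt v819 = v3420 :=
  Lrfl
def v7363 : LQ := Led Lsl_at (LP (LK LD1_c3 LD2_c45 LD3_c36))
theorem f664737 : Led Lsl_at (LP (LK LD1_c3 LD2_c45 LD3_c36)) = v7363 :=
  Lrfl
def v2621 : LQ := Led Lsl_at (LP (LK LD1_c1 LD2_c49 LD3_c55))
theorem f527909 : Led Lsl_at (LP (LK LD1_c1 LD2_c49 LD3_c55)) = v2621 :=
  Lrfl
theorem f527910 : Led Lsl_af (LP (LK LD1_c1 LD2_c49 LD3_c55)) = v2621 :=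
  Lgr Lrot0 (Lpr_at (f527909 IH) (Lpn v2621))
theorem f664739 : Led Lsl_df v2621 = v7363 :=
  Lgr Lrot18 (Lpe (f527910 IH) (Lpr_dt (f85126 IH) (Lpr_at (f664737 IH) (Lpn v7363))))
theorem f527911 : Led Lsl_ft v819 = v2621 :=
  Lgr Lrot2 (Lpe (f459553 IH) (Lpr_gt (f85125 IH) (Lpr_af (f527910 IH) (Lpn v2621))))
theorem f527912 : Led Lsl_ff v819 = v2621 :=
  Lgr Lrot3 (Lpr_ft (f527911 IH) (Lpn v2621))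
theorem f664741 : Led Lsl_ft v3420 = v7363 :=
  Lgr Lrot54 (Lpe (f625580 IH) (Lpr_ff (f527912 IH) (Lpr_df (f664739 IH) (Lpn v7363))))
theorem f664738 : Led Lsl_af (LP (LK LD1_c3 LD2_c45 LD3_c36)) = v7363 :=
  Lgr Lrot0 (Lpr_at (f664737 IH) (Lpn v7363))
def v7362 : LQ := Led Lsl_gf (LP (LK LD1_c3 LD2_c45 LD3_c36))
theorem f664736 : Led Lsl_gf (LP (LK LD1_c3 LD2_c45 LD3_c36)) = v7362 :=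
  Lrfl
theorem f664743 : Led Lsl_gt v3420 = v7362 :=
  Lgr Lrot5 (Lpr_ft (f664741 IH) (Lpe (f664738 IH) (Lpr_gf (f664736 IH) (Lpn v7362))))
theorem f664730 : Led Lsl_et v6572 = v7361 :=
  Lgr Lrot87 (Lpr_ef (f664728 IH) (Lpn v7361))
theorem f85122 : Led Lsl_et (LP (LK LD1_c0 LD2_c51 LD3_c48)) = (LP (LK LD1_c0 LD2_c23 LD3_c25)) :=
  Lre_e IH (LK LD1_c0 LD2_c51 LD3_c48) (LK LD1_c0 LD2_c23 LD3_c25) Lrfl Lrfl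
theorem f625581 : Led Lsl_df v819 = v3420 :=
  Lgr Lrot38 (Lpr_dt (f625580 IH) (Lpn v3420))
theorem f664735 : Led Lsl_gf v3420 = v7361 :=
  Lgr Lrot138 (Lpe (f625581 IH) (Lpe (f459553 IH) (Lpr_df (K3.f85074 IH) (Lpr_et (f85122 IH) (Lpr_gt (K3.f62931 IH) (Lpe (K5.f85136 IH) (Lpr_dt (K5.f105615 IH) (Lpr_gt (K46.f634281 IH) (Lpr_df (f653963 IH) (Lpr_et (f664730 IH) (Lpn v7361)))))))))))
theorem f664744 : Led Lsl_at v6127 = v7362 :=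
  Lgr Lrot26 (Lpr_ff (f664733 IH) (Lpe (f664735 IH) (Lpr_gt (f664743 IH) (Lpn v7362))))
theorem f651400 : Led Lsl_af (LP (LK LD1_c3 LD2_c18 LD3_c13)) = v6129 :=
  Lgr Lrot0 (Lpr_at (f651399 IH) (Lpn v6129))
theorem f664746 : Led Lsl_cf v6129 = v7362 :=
  Lgr Lrot1 (Lpe (f651400 IH) (Lpr_ct (f651391 IH) (Lpr_at (f664744 IH) (Lpn v7362))))
theorem f754556 : Led Lsl_gf (LP (LK LD1_c6 LD2_c34 LD3_c47)) = v6129 :=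
  Lgr Lrot172 (Lpr_ct (f65481 IH) (Lpr_dt (K49.f65486 IH) (Lpe (K49.f453816 IH) (Lpr_gf (f650273 IH) (Lpqs (f754515 IH) (Lpe (f85116 IH) (Lpr_gf (f459553 IH) (Lpr_dt (f625580 IH) (Lpr_gt (f664743 IH) (Lpe (f664746 IH) (Lpn v6129)))))))))))
theorem f754557 : Led Lsl_gt (LP (LK LD1_c6 LD2_c36 LD3_c4)) = (LP (LK LD1_c6 LD2_c34 LD3_c47)) :=
  Leop (Lpr_gf (f754556 IH) (Lpqs (f654044 IH) (Lpn (LP (LK LD1_c6 LD2_c36 LD3_c4)))))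
theorem seed_1106 : LEOK LG_g (LK LD1_c6 LD2_c36 LD3_c4) :=
  Leoe_g (LK LD1_c6 LD2_c36 LD3_c4) (f754557 IH)
theorem f62943 : Led Lsl_gt (LP (LK LD1_c3 LD2_c45 LD3_c33)) = (LP (LK LD1_c7 LD2_c31 LD3_c46)) :=
  Lre_g IH (LK LD1_c3 LD2_c45 LD3_c33) (LK LD1_c7 LD2_c31 LD3_c46) Lrfl Lrfl
theorem f754558 : Led Lsl_df (LP (LK LD1_c6 LD2_c34 LD3_c47)) = (LP (LK LD1_c7 LD2_c31 LD3_c46)) :=
  Lgr Lrot84 (Lpe (f65480 IH) (Lpe (K46.f65479 IH) (Lpe (K24.f65478 IH) (Lpr_df (K5.f65408 IH) (Lpr_gf (K46.f453808 IH) (Lpr_cf (K49.f624032 IH) (Lpqs (f754512 IH) (Lpe (f527902 IH) (Lpr_dt (f62942 IH) (Lpr_gt (f62943 IH) (Lpn (LP (LK LD1_c7 LD2_c31 LD3_c46)))))))))))))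
theorem f754559 : Led Lsl_dt (LP (LK LD1_c7 LD2_c31 LD3_c46)) = (LP (LK LD1_c6 LD2_c34 LD3_c47)) :=
  Leop (Lpr_df (f754558 IH) (Lpn (LP (LK LD1_c7 LD2_c31 LD3_c46))))
theorem seed_1107 : LEOK LG_d (LK LD1_c7 LD2_c31 LD3_c46) :=
  Leoe_d (LK LD1_c7 LD2_c31 LD3_c46) (f754559 IH)
theorem f754560 : Led Lsl_at (LP (LK LD1_c12 LD2_c2 LD3_c7)) = (LP (LK LD1_c7 LD2_c31 LD3_c46)) :=
  Lgr Lrot51 (Lpr_df (f651626 IH) (Lpe (f651984 IH) (Lpr_df (f754558 IH) (Lpn (LP (LK LD1_c7 LD2_c31 LD3_c46))))))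
theorem f62956 : Led Lsl_gt (LP (LK LD1_c7 LD2_c31 LD3_c47)) = (LP (LK LD1_c3 LD2_c45 LD3_c33)) :=
  Lre_g IH (LK LD1_c7 LD2_c31 LD3_c47) (LK LD1_c3 LD2_c45 LD3_c33) Lrfl Lrfl
theorem f754593 : Led Lsl_ff (LP (LK LD1_c12 LD2_c2 LD3_c7)) = (LP (LK LD1_c7 LD2_c31 LD3_c47)) :=
  Lgr Lrot52 (Lpr_at (f754560 IH) (Lpe (f62943 IH) (Lpe (f62956 IH) (Lpn (LP (LK LD1_c7 LD2_c31 LD3_c47))))))
theorem f754598 : Led Lsl_ft (LP (LK LD1_c12 LD2_c2 LD3_c7)) = (LP (LK LD1_c7 LD2_c31 LD3_c47)) :=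
  Lgr Lrot48 (Lpr_ff (f754593 IH) (Lpn (LP (LK LD1_c7 LD2_c31 LD3_c47))))
theorem f754604 : Led Lsl_df v10013 = (LP (LK LD1_c7 LD2_c31 LD3_c47)) :=
  Lgr Lrot78 (Lpe (f678375 IH) (Lpe (f651626 IH) (Lpr_ft (f754598 IH) (Lpn (LP (LK LD1_c7 LD2_c31 LD3_c47))))))
theorem f754565 : Led Lsl_dt (LP (LK LD1_c6 LD2_c34 LD3_c47)) = (LP (LK LD1_c7 LD2_c31 LD3_c46)) :=
  Lgr Lrot42 (Lpr_df (f754558 IH) (Lpn (LP (LK LD1_c7 LD2_c31 LD3_c46))))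
def v6117 : LQ := Led Lsl_ft (LP (LK LD1_c3 LD2_c18 LD3_c7))
theorem f651289 : Led Lsl_ft (LP (LK LD1_c3 LD2_c18 LD3_c7)) = v6117 :=
  Lrfl
theorem f651290 : Led Lsl_af (LP (LK LD1_c3 LD2_c18 LD3_c11)) = v6117 :=
  Lgr Lrot45 (Lpr_ft (K46.f651278 IH) (Lpe (K46.f651275 IH) (Lpr_ft (f651289 IH) (Lpn v6117))))
theorem f664747 : Led Lsl_ef v6117 = v7362 :=
  Lgr Lrot20 (Lpe (f651290 IH) (Lpr_et (f651388 IH) (Lpr_at (f664744 IH) (Lpn v7362))))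
theorem f654012 : K46.v6013 = v6117 :=
  Lefun (Lecon (Lfl_ff (K46.f653960 IH)) (K46.f654002 IH).symm) (f651289 IH)
theorem f664748 : Led Lsl_ct (LP (LK LD1_c6 LD2_c36 LD3_c4)) = v7362 :=
  Lgr Lrot15 (Lpe (f650516 IH) (Lpr_cf (K46.f650534 IH) (Lpqs (f654012 IH) (Lpr_ef (f664747 IH) (Lpn v7362)))))
theorem f85132 : Led Lsl_dt (LP (LK LD1_c3 LD2_c45 LD3_c36)) = (LP (LK LD1_c1 LD2_c49 LD3_c55)) :=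
  Lre_d IH (LK LD1_c3 LD2_c45 LD3_c36) (LK LD1_c1 LD2_c49 LD3_c55) Lrfl Lrfl
theorem f527751 : Led Lsl_dt v2605 = v2605 :=
  Lgr Lrot60 (Lpe (f527741 IH) (Lpe (K3.f85114 IH) (Lpr_ff (f527746 IH) (Lpn v2605))))
theorem f754491 : Led Lsl_df (LP (LK LD1_c6 LD2_c10 LD3_c50)) = v17036 :=
  Lgr Lrot78 (Lpr_ft (f105412 IH) (Lpr_dt (K46.f87366 IH) (Lpr_ft (f754488 IH) (Lpn v17036))))
theorem f754576 : Led Lsl_gf v17036 = (LP (LK LD1_c7 LD2_c31 LD3_c46)) :=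
  Lgr Lrot143 (Lpe (f754491 IH) (Lpr_cf (f527744 IH) (Lpe (f527751 IH) (Lpe (f527754 IH) (Lpe (f85132 IH) (Lpr_gf (f664736 IH) (Lpe (f664748 IH) (Lpq (f654044 IH) (Lpe (f754556 IH) (Lpr_dt (f754565 IH) (Lpn (LP (LK LD1_c7 LD2_c31 LD3_c46)))))))))))))
theorem f85124 : Led Lsl_ft (LP (LK LD1_c3 LD2_c45 LD3_c33)) = (LP (LK LD1_c7 LD2_c31 LD3_c49)) :=
  Lre_f IH (LK LD1_c3 LD2_c45 LD3_c33) (LK LD1_c7 LD2_c31 LD3_c49) Lrfl Lrfl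
theorem f754577 : Led Lsl_af v17036 = (LP (LK LD1_c7 LD2_c31 LD3_c49)) :=
  Lgr Lrot31 (Lpr_gf (f754576 IH) (Lpe (f62943 IH) (Lpr_ft (f85124 IH) (Lpn (LP (LK LD1_c7 LD2_c31 LD3_c49))))))
theorem f85119 : Led Lsl_ct (LP (LK LD1_c1 LD2_c49 LD3_c54)) = (LP (LK LD1_c0 LD2_c51 LD3_c48)) :=
  Lre_c IH (LK LD1_c1 LD2_c49 LD3_c54) (LK LD1_c0 LD2_c51 LD3_c48) Lrfl Lrfl
theorem f85117 : Led Lsl_ct (LP (LK LD1_c3 LD2_c45 LD3_c33)) = (LP (LK LD1_c7 LD2_c31 LD3_c48)) :=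
  Lre_c IH (LK LD1_c3 LD2_c45 LD3_c33) (LK LD1_c7 LD2_c31 LD3_c48) Lrfl Lrfl
theorem f754580 : Led Lsl_cf v17036 = (LP (LK LD1_c14 LD2_c12 LD3_c15)) :=
  Lgr Lrot102 (Lpr_af (f754577 IH) (Lpe (f85124 IH) (Lpr_dt (K4.f65249 IH) (Lpr_ct (f85119 IH) (Lpe (K3.f85074 IH) (Lpr_ct (f85116 IH) (Lpr_dt (f62942 IH) (Lpr_ct (f85117 IH) (Lpr_dt (f85118 IH) (Lpn (LP (LK LD1_c14 LD2_c12 LD3_c15))))))))))))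
theorem f527750 : Led Lsl_ct (LP (LK LD1_c6 LD2_c10 LD3_c50)) = v2605 :=
  Lgr Lrot40 (Lpe (f96026 IH) (Lpe (f105399 IH) (Lpr_ff (f527746 IH) (Lpn v2605))))
theorem f105387 : Led Lsl_ft (LP (LK LD1_c14 LD2_c12 LD3_c15)) = (LP (LK LD1_c12 LD2_c2 LD3_c8)) :=
  Lgr Lrot48 (Lpr_ff (f105381 IH) (Lpn (LP (LK LD1_c12 LD2_c2 LD3_c8))))
theorem f754490 : Led Lsl_cf (LP (LK LD1_c14 LD2_c12 LD3_c15)) = v17036 :=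
  Lgr Lrot108 (Lpr_ft (f105387 IH) (Lpr_ct (f105372 IH) (Lpr_ft (f754488 IH) (Lpn v17036))))
theorem f754581 : Led Lsl_dt (LP (LK LD1_c6 LD2_c10 LD3_c50)) = v17036 :=
  Lgr Lrot173 (Lpr_cf (f527744 IH) (Lpe (f527751 IH) (Lpe (f527750 IH) (Lpr_df (f754491 IH) (Lpr_cf (f754580 IH) (Lpe (f85118 IH) (Lpe (f85117 IH) (Lpe (f62942 IH) (Lpe (f85116 IH) (Lpr_df (K3.f85074 IH) (Lpe (f85119 IH) (Lpe (K4.f65249 IH) (Lpe (f85120 IH) (Lpe (f85121 IH) (Lpr_cf (f754490 IH) (Lpn v17036))))))))))))))))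
theorem f754605 : Led Lsl_gt v17036 = (LP (LK LD1_c7 LD2_c31 LD3_c47)) :=
  Lgr Lrot49 (Lpe (f754581 IH) (Lpq (f754511 IH) (Lpe (f650268 IH) (Lpe (K49.f65482 IH) (Lpr_gt (K24.f453814 IH) (Lpr_dt (K49.f130797 IH) (Lpr_gt (K49.f453809 IH) (Lpr_dt (K46.f624033 IH) (Lpr_cf (f678373 IH) (Lpr_df (f754604 IH) (Lpn (LP (LK LD1_c7 LD2_c31 LD3_c47)))))))))))))
def v9356 : LQ := Led Lsl_ct v2620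
theorem f675500 : Led Lsl_ct v2620 = v9356 :=
  Lrfl
theorem f754519 : K46.v531 = v9356 :=
  Lefun (Lecon (Lfl_cf (K49.f624032 IH)) (f754512 IH)) (f675500 IH)
theorem f65469 : Led Lsl_ct (LP (LK LD1_c0 LD2_c43 LD3_c57)) = (LP (LK LD1_c1 LD2_c34 LD3_c33)) :=
  Lre_c IH (LK LD1_c0 LD2_c43 LD3_c57) (LK LD1_c1 LD2_c34 LD3_c33) Lrfl Lrfl
theorem f65475 : Led Lsl_ct (LP (LK LD1_c6 LD2_c34 LD3_c43)) = (LP (LK LD1_c3 LD2_c15 LD3_c41)) :=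
  Lre_c IH (LK LD1_c6 LD2_c34 LD3_c43) (LK LD1_c3 LD2_c15 LD3_c41) Lrfl Lrfl
theorem f150985 : Led Lsl_gt (LP (LK LD1_c12 LD2_c35 LD3_c52)) = (LP (LK LD1_c6 LD2_c34 LD3_c43)) :=
  Lre_g IH (LK LD1_c12 LD2_c35 LD3_c52) (LK LD1_c6 LD2_c34 LD3_c43) Lrfl Lrfl
theorem f754606 : Led Lsl_cf (LP (LK LD1_c12 LD2_c35 LD3_c52)) = (LP (LK LD1_c7 LD2_c31 LD3_c47)) :=
  Lgr Lrot169 (Lpr_gt (f150985 IH) (Lpr_ct (f65475 IH) (Lpe (K46.f65470 IH) (Lpe (f65469 IH) (Lpr_gf (K46.f453808 IH) (Lpqs (f754519 IH) (Lpe (f675500 IH) (Lpe (f527903 IH) (Lpr_df (f754491 IH) (Lpr_gt (f754605 IH) (Lpn (LP (LK LD1_c7 LD2_c31 LD3_c47)))))))))))))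
theorem f754607 : Led Lsl_ct (LP (LK LD1_c7 LD2_c31 LD3_c47)) = (LP (LK LD1_c12 LD2_c35 LD3_c52)) :=
  Leop (Lpr_cf (f754606 IH) (Lpn (LP (LK LD1_c7 LD2_c31 LD3_c47))))
theorem seed_1108 : LEOK LG_c (LK LD1_c7 LD2_c31 LD3_c47) :=
  Leoe_c (LK LD1_c7 LD2_c31 LD3_c47) (f754607 IH)
theorem f130820 : Led Lsl_dt (LP (LK LD1_c12 LD2_c1 LD3_c50)) = (LP (LK LD1_c6 LD2_c10 LD3_c37)) :=
  Lre_d IH (LK LD1_c12 LD2_c1 LD3_c50) (LK LD1_c6 LD2_c10 LD3_c37) Lrfl Lrfl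
theorem f754509 : Led Lsl_gt v10013 = v6129 :=
  Lgr Lrot46 (Lpr_gf (f754508 IH) (Lpr_ft (f508803 IH) (Lpr_at (f651399 IH) (Lpn v6129))))
theorem f443306 : Led Lsl_dt (LP (LK LD1_c6 LD2_c36 LD3_c4)) = (LP (LK LD1_c12 LD2_c38 LD3_c16)) :=
  Lre_d IH (LK LD1_c6 LD2_c36 LD3_c4) (LK LD1_c12 LD2_c38 LD3_c16) Lrfl Lrfl
theorem f754653 : Led Lsl_gf (LP (LK LD1_c12 LD2_c1 LD3_c50)) = (LP (LK LD1_c12 LD2_c38 LD3_c16)) :=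
  Lgr Lrot143 (Lpr_dt (f130820 IH) (Lpe (K46.f130801 IH) (Lpr_df (K5.f130808 IH) (Lpe (K5.f130822 IH) (Lpe (K24.f453915 IH) (Lpqs (K46.f624122 IH) (Lpr_gf (K49.f624164 IH) (Lpr_cf (f678373 IH) (Lpr_gt (f754509 IH) (Lpqs (f654044 IH) (Lpr_dt (f443306 IH) (Lpn (LP (LK LD1_c12 LD2_c38 LD3_c16))))))))))))))
theorem f754654 : Led Lsl_gt (LP (LK LD1_c12 LD2_c38 LD3_c16)) = (LP (LK LD1_c12 LD2_c1 LD3_c50)) :=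
  Leop (Lpr_gf (f754653 IH) (Lpn (LP (LK LD1_c12 LD2_c38 LD3_c16))))
theorem seed_1109 : LEOK LG_g (LK LD1_c12 LD2_c38 LD3_c16) :=
  Leoe_g (LK LD1_c12 LD2_c38 LD3_c16) (f754654 IH)
def v6042 : LQ := Led Lsl_ft (LP (LK LD1_c3 LD2_c16 LD3_c53))
theorem f650690 : Led Lsl_ft (LP (LK LD1_c3 LD2_c16 LD3_c53)) = v6042 :=
  Lrfl
theorem f650693 : Led Lsl_ff (LP (LK LD1_c3 LD2_c16 LD3_c53)) = v6042 :=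
  Lgr Lrot3 (Lpr_ft (f650690 IH) (Lpn v6042))
theorem f118508 : Led Lsl_ct (LP (LK LD1_c3 LD2_c16 LD3_c53)) = (LP (LK LD1_c1 LD2_c35 LD3_c4)) :=
  Lre_c IH (LK LD1_c3 LD2_c16 LD3_c53) (LK LD1_c1 LD2_c35 LD3_c4) Lrfl Lrfl
def v2080 : LQ := Led Lsl_ft (LP (LK LD1_c1 LD2_c35 LD3_c4))
theorem f508728 : Led Lsl_ft (LP (LK LD1_c1 LD2_c35 LD3_c4)) = v2080 :=
  Lrfl
theorem f650696 : Led Lsl_ct v2080 = v6042 :=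
  Lgr Lrot40 (Lpe (f508728 IH) (Lpe (f118508 IH) (Lpr_ff (f650693 IH) (Lpn v6042))))
theorem f118595 : Led Lsl_ct (LP (LK LD1_c3 LD2_c16 LD3_c0)) = (LP (LK LD1_c6 LD2_c35 LD3_c22)) :=
  Lre_c IH (LK LD1_c3 LD2_c16 LD3_c0) (LK LD1_c6 LD2_c35 LD3_c22) Lrfl Lrfl
def v5996 : LQ := Led Lsl_ft (LP (LK LD1_c3 LD2_c16 LD3_c0))
theorem f650433 : Led Lsl_ft (LP (LK LD1_c3 LD2_c16 LD3_c0)) = v5996 :=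
  Lrfl
theorem f650435 : Led Lsl_ff (LP (LK LD1_c3 LD2_c16 LD3_c0)) = v5996 :=
  Lgr Lrot3 (Lpr_ft (f650433 IH) (Lpn v5996))
theorem f650427 : Led Lsl_ff K46.v2071 = K46.v5993 :=
  Lgr Lrot3 (Lpr_ft (K46.f650426 IH) (Lpn K46.v5993))
theorem f650436 : Led Lsl_at K46.v2071 = v5996 :=
  Lgr Lrot66 (Lpr_ff (f650427 IH) (Lpe (K46.f650424 IH) (Lpr_ff (f650435 IH) (Lpn v5996))))
def v5970 : LQ := Led Lsl_ft (LP (LK LD1_c3 LD2_c15 LD3_c43))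
theorem f650309 : Led Lsl_ft (LP (LK LD1_c3 LD2_c15 LD3_c43)) = v5970 :=
  Lrfl
theorem f650296 : Led Lsl_af (LP (LK LD1_c3 LD2_c15 LD3_c43)) = K46.v5967 :=
  Lgr Lrot0 (Lpr_at (K46.f650295 IH) (Lpn K46.v5967))
theorem f650310 : Led Lsl_af K46.v3147 = v5970 :=
  Lgr Lrot45 (Lpr_ft (K46.f650299 IH) (Lpe (f650296 IH) (Lpr_ft (f650309 IH) (Lpn v5970))))
theorem f650437 : Led Lsl_ef v5970 = v5996 :=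
  Lgr Lrot20 (Lpe (f650310 IH) (Lpe (K46.f624036 IH) (Lpr_at (f650436 IH) (Lpn v5996))))
theorem f650438 : Led Lsl_et v5970 = v5996 :=
  Lgr Lrot87 (Lpr_ef (f650437 IH) (Lpn v5996))
theorem f651819 : (LP (LK LD1_c3 LD2_c16 LD3_c55)) = v5970 :=
  Lefun (Lecon (Lfl_ff (f650736 IH)) (f651812 IH)) (f650309 IH)
theorem f651830 : v5996 = (LP (LK LD1_c1 LD2_c35 LD3_c4)) :=
  Lefun (Lecon (f650438 IH) (f651819 IH).symm) (K5.f118516 IH)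
theorem f651832 : (LP (LK LD1_c3 LD2_c16 LD3_c0)) = v2080 :=
  Lefun (Lecon (Lfl_ff (f650435 IH)) (f651830 IH)) (f508728 IH)
theorem f651837 : v6042 = (LP (LK LD1_c6 LD2_c35 LD3_c22)) :=
  Lefun (Lecon (f650696 IH) (f651832 IH).symm) (f118595 IH)
theorem f19127 : Led Lsl_dt (LP (LK LD1_c1 LD2_c26 LD3_c56)) = (LP (LK LD1_c3 LD2_c1 LD3_c43)) :=
  Lre_d IH (LK LD1_c1 LD2_c26 LD3_c56) (LK LD1_c3 LD2_c1 LD3_c43) Lrfl Lrfl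
def v6004 : LQ := Led Lsl_gt (LP (LK LD1_c3 LD2_c16 LD3_c9))
theorem f650488 : Led Lsl_gt (LP (LK LD1_c3 LD2_c16 LD3_c9)) = v6004 :=
  Lrfl
theorem f754510 : Led Lsl_dt v10013 = (LP (LK LD1_c7 LD2_c31 LD3_c47)) :=
  Lgr Lrot57 (Lpr_gf (f754508 IH) (Lpr_cf (f664732 IH) (Lpe (f664735 IH) (Lpe (f625581 IH) (Lpe (f459553 IH) (Lpe (K3.f85074 IH) (Lpe (f85119 IH) (Lpe (K4.f65249 IH) (Lpe (f62956 IH) (Lpn (LP (LK LD1_c7 LD2_c31 LD3_c47))))))))))))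
theorem f624037 : Led Lsl_et K46.v2071 = K46.v3147 :=
  Lgr Lrot87 (Lpr_ef (K46.f624036 IH) (Lpn K46.v3147))
theorem f678374 : Led Lsl_ef v6041 = v10013 :=
  Lgr Lrot28 (Lpe (f650684 IH) (Lpqs (K46.f651829 IH) (Lpr_et (f624037 IH) (Lpr_ct (f678371 IH) (Lpn v10013)))))
theorem f754655 : v6004 = v6041 :=
  (Llr Lrot131 (Lpe (f650488 IH) (Lpe (K3.f69280 IH) (Lpe (K44.f113024 IH) (Lpr_gf (K4.f112086 IH) (Lpe (f19127 IH) (Lpr_gf (K2.f62929 IH) (Lpe (K4.f62941 IH) (Lpr_dt (f62942 IH) (Lpe (f62956 IH) (Lpe (f754510 IH) (Lpe (f678374 IH) (Lpn v6041))))))))))))).symm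
theorem f650687 : Led Lsl_ff (LP (LK LD1_c3 LD2_c16 LD3_c56)) = v6041 :=
  Lgr Lrot3 (Lpr_ft (f650686 IH) (Lpn v6041))
theorem f650695 : Led Lsl_at (LP (LK LD1_c3 LD2_c16 LD3_c56)) = v6042 :=
  Lgr Lrot66 (Lpr_ff (f650687 IH) (Lpe (f650682 IH) (Lpr_ff (f650693 IH) (Lpn v6042))))
theorem f650489 : Led Lsl_gf (LP (LK LD1_c3 LD2_c17 LD3_c35)) = v6004 :=
  Lgr Lrot76 (Lpe (K3.f93308 IH) (Lpe (K3.f69308 IH) (Lpr_gt (f650488 IH) (Lpn v6004))))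
def v6005 : LQ := Led Lsl_gf (LP (LK LD1_c3 LD2_c16 LD3_c9))
theorem f650491 : Led Lsl_gf (LP (LK LD1_c3 LD2_c16 LD3_c9)) = v6005 :=
  Lrfl
theorem f62257 : Led Lsl_ft (LP (LK LD1_c3 LD2_c17 LD3_c35)) = (LP (LK LD1_c1 LD2_c35 LD3_c20)) :=
  Lre_f IH (LK LD1_c3 LD2_c17 LD3_c35) (LK LD1_c1 LD2_c35 LD3_c20) Lrfl Lrfl
theorem f650492 : Led Lsl_gt (LP (LK LD1_c3 LD2_c17 LD3_c35)) = v6005 :=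
  Lgr Lrot5 (Lpr_ft (f62257 IH) (Lpe (K7.f93294 IH) (Lpr_gf (f650491 IH) (Lpn v6005))))
theorem f754656 : v6042 = v6005 :=
  (Llr Lrot26 (Lpe (f650695 IH) (Lpr_ff (f650687 IH) (Lpq (f754655 IH) (Lpe (f650489 IH) (Lpr_gt (f650492 IH) (Lpn v6005))))))).symm
theorem f754657 : Led Lsl_gt (LP (LK LD1_c6 LD2_c35 LD3_c22)) = (LP (LK LD1_c3 LD2_c16 LD3_c9)) :=
  Leop (Lpr_gf (f650491 IH) (Lpq (f754656 IH) (Lpqs (f651837 IH) (Lpn (LP (LK LD1_c6 LD2_c35 LD3_c22))))))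
theorem seed_1110 : LEOK LG_g (LK LD1_c6 LD2_c35 LD3_c22) :=
  Leoe_g (LK LD1_c6 LD2_c35 LD3_c22) (f754657 IH)
theorem f118463 : Led Lsl_gt (LP (LK LD1_c12 LD2_c36 LD3_c44)) = (LP (LK LD1_c21 LD2_c42 LD3_c55)) :=
  Lre_g IH (LK LD1_c12 LD2_c36 LD3_c44) (LK LD1_c21 LD2_c42 LD3_c55) Lrfl Lrfl
theorem f118464 : Led Lsl_gt (LP (LK LD1_c21 LD2_c42 LD3_c55)) = (LP (LK LD1_c12 LD2_c40 LD3_c5)) :=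
  Lgr Lrot46 (Lpe (f118463 IH) (Lpr_ft (K4.f118449 IH) (Lpr_at (K4.f118450 IH) (Lpn (LP (LK LD1_c12 LD2_c40 LD3_c5))))))
theorem f113047 : Led Lsl_gt (LP (LK LD1_c6 LD2_c35 LD3_c35)) = (LP (LK LD1_c12 LD2_c37 LD3_c10)) :=
  Lre_g IH (LK LD1_c6 LD2_c35 LD3_c35) (LK LD1_c12 LD2_c37 LD3_c10) Lrfl Lrfl
theorem f754668 : Led Lsl_cf (LP (LK LD1_c21 LD2_c42 LD3_c55)) = (LP (LK LD1_c12 LD2_c37 LD3_c10)) :=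
  Lgr Lrot169 (Lpr_gt (f118464 IH) (Lpr_ct (K4.f118455 IH) (Lpe (K4.f118358 IH) (Lpe (K46.f118412 IH) (Lpr_gf (K46.f508685 IH) (Lpq (K46.f651829 IH) (Lpr_cf (f650684 IH) (Lpq (f754655 IH) (Lpe (f650488 IH) (Lpe (K3.f69289 IH) (Lpr_gt (f113047 IH) (Lpn (LP (LK LD1_c12 LD2_c37 LD3_c10))))))))))))))
theorem f754669 : Led Lsl_ct (LP (LK LD1_c12 LD2_c37 LD3_c10)) = (LP (LK LD1_c21 LD2_c42 LD3_c55)) :=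
  Leop (Lpr_cf (f754668 IH) (Lpn (LP (LK LD1_c12 LD2_c37 LD3_c10))))
theorem seed_1111 : LEOK LG_c (LK LD1_c12 LD2_c37 LD3_c10) :=
  Leoe_c (LK LD1_c12 LD2_c37 LD3_c10) (f754669 IH)
def v17042 : LQ := Led Lsl_gf (LP (LK LD1_c6 LD2_c10 LD3_c56))
theorem f754704 : Led Lsl_gf (LP (LK LD1_c6 LD2_c10 LD3_c56)) = v17042 :=
  Lrfl
theorem f617076 : Led Lsl_ct (LP (LK LD1_c6 LD2_c10 LD3_c56)) = (LP (LK LD1_c3 LD2_c2 LD3_c29)) :=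
  Lre_c IH (LK LD1_c6 LD2_c10 LD3_c56) (LK LD1_c3 LD2_c2 LD3_c29) Lrfl Lrfl
theorem f561787 : Led Lsl_ct (LP (LK LD1_c11 LD2_c15 LD3_c57)) = (LP (LK LD1_c5 LD2_c42 LD3_c52)) :=
  Lre_c IH (LK LD1_c11 LD2_c15 LD3_c57) (LK LD1_c5 LD2_c42 LD3_c52) Lrfl Lrfl
theorem f561797 : Led Lsl_gt (LP (LK LD1_c20 LD2_c11 LD3_c44)) = (LP (LK LD1_c11 LD2_c15 LD3_c57)) :=
  Lre_g IH (LK LD1_c20 LD2_c11 LD3_c44) (LK LD1_c11 LD2_c15 LD3_c57) Lrfl Lrfl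
theorem f561824 : Led Lsl_af (LP (LK LD1_c11 LD2_c15 LD3_c57)) = (LP (LK LD1_c6 LD2_c11 LD3_c61)) :=
  Lgr Lrot68 (Lpr_ct (f561787 IH) (Lpr_at (K40.f561822 IH) (Lpr_ct (K52.f73037 IH) (Lpn (LP (LK LD1_c6 LD2_c11 LD3_c61))))))
theorem f73113 : Led Lsl_ft (LP (LK LD1_c12 LD2_c3 LD3_c46)) = (LP (LK LD1_c6 LD2_c11 LD3_c61)) :=
  Lre_f IH (LK LD1_c12 LD2_c3 LD3_c46) (LK LD1_c6 LD2_c11 LD3_c61) Lrfl Lrfl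
theorem f617074 : Led Lsl_gf (LP (LK LD1_c20 LD2_c11 LD3_c44)) = (LP (LK LD1_c12 LD2_c3 LD3_c46)) :=
  Lgr Lrot47 (Lpr_gt (f561797 IH) (Lpr_af (f561824 IH) (Lpe (f73113 IH) (Lpn (LP (LK LD1_c12 LD2_c3 LD3_c46))))))
theorem f319502 : Led Lsl_bt (LP (LK LD1_c2 LD2_c44 LD3_c50)) = (LP (LK LD1_c5 LD2_c37 LD3_c46)) :=
  Lre_b IH (LK LD1_c2 LD2_c44 LD3_c50) (LK LD1_c5 LD2_c37 LD3_c46) Lrfl Lrfl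
theorem f319518 : Led Lsl_gt (LP (LK LD1_c11 LD2_c6 LD3_c59)) = (LP (LK LD1_c5 LD2_c37 LD3_c46)) :=
  Lre_g IH (LK LD1_c11 LD2_c6 LD3_c59) (LK LD1_c5 LD2_c37 LD3_c46) Lrfl Lrfl
theorem f319519 : Led Lsl_bt (LP (LK LD1_c20 LD2_c0 LD3_c19)) = (LP (LK LD1_c11 LD2_c6 LD3_c59)) :=
  Lre_b IH (LK LD1_c20 LD2_c0 LD3_c19) (LK LD1_c11 LD2_c6 LD3_c59) Lrfl Lrfl
theorem f653322 : Led Lsl_cf (LP (LK LD1_c20 LD2_c11 LD3_c44)) = (LP (LK LD1_c20 LD2_c0 LD3_c19)) :=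
  Lgr Lrot163 (Lpr_gf (f617074 IH) (Lpe (K53.f22922 IH) (Lpr_gf (K53.f653317 IH) (Lpe (K53.f408466 IH) (Lpe (K53.f408461 IH) (Lpe (K53.f173939 IH) (Lpe (K20.f319505 IH) (Lpr_bt (f319502 IH) (Lpe (f319518 IH) (Lpe (f319519 IH) (Lpn (LP (LK LD1_c20 LD2_c0 LD3_c19)))))))))))))
theorem f75918 : Led Lsl_gt (LP (LK LD1_c9 LD2_c17 LD3_c6)) = (LP (LK LD1_c17 LD2_c12 LD3_c11)) :=
  Lre_g IH (LK LD1_c9 LD2_c17 LD3_c6) (LK LD1_c17 LD2_c12 LD3_c11) Lrfl Lrfl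
theorem f561795 : Led Lsl_ct (LP (LK LD1_c5 LD2_c42 LD3_c52)) = (LP (LK LD1_c11 LD2_c15 LD3_c57)) :=
  Lre_c IH (LK LD1_c5 LD2_c42 LD3_c52) (LK LD1_c11 LD2_c15 LD3_c57) Lrfl Lrfl
theorem f740462 : Led Lsl_gf (LP (LK LD1_c20 LD2_c0 LD3_c19)) = (LP (LK LD1_c20 LD2_c5 LD3_c60)) :=
  Lgr Lrot181 (Lpe (f653322 IH) (Lpr_gt (f561797 IH) (Lpe (f561795 IH) (Lpr_bt (K40.f561780 IH) (Lpr_gt (f75918 IH) (Lpe (K55.f740460 IH) (Lpr_ct (K55.f740454 IH) (Lpr_gt (K55.f589551 IH) (Lpe (K53.f418652 IH) (Lpr_bt (K51.f418647 IH) (Lpn (LP (LK LD1_c20 LD2_c5 LD3_c60)))))))))))))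
theorem f157142 : Led Lsl_gt (LP (LK LD1_c17 LD2_c57 LD3_c45)) = (LP (LK LD1_c9 LD2_c47 LD3_c25)) :=
  Lre_g IH (LK LD1_c17 LD2_c57 LD3_c45) (LK LD1_c9 LD2_c47 LD3_c25) Lrfl Lrfl
theorem f428748 : Led Lsl_gf (LP (LK LD1_c17 LD2_c57 LD3_c45)) = (LP (LK LD1_c11 LD2_c29 LD3_c59)) :=
  Lgr Lrot47 (Lpr_gt (f157142 IH) (Lpr_af (K52.f158119 IH) (Lpe (K8.f157898 IH) (Lpn (LP (LK LD1_c11 LD2_c29 LD3_c59))))))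
theorem f754706 : Led Lsl_ct (LP (LK LD1_c17 LD2_c57 LD3_c45)) = v17042 :=
  Lgr Lrot152 (Lpr_gf (f428748 IH) (Lpr_df (K51.f589222 IH) (Lpe (f740462 IH) (Lpe (f653322 IH) (Lpr_gt (f561797 IH) (Lpr_ct (f561787 IH) (Lpr_df (K55.f561788 IH) (Lpe (f617076 IH) (Lpr_gf (f754704 IH) (Lpn v17042))))))))))
theorem f754708 : Led Lsl_cf (LP (LK LD1_c17 LD2_c57 LD3_c45)) = v17042 :=
  Lgr Lrot11 (Lpr_ct (f754706 IH) (Lpn v17042))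
theorem f119947 : Led Lsl_bt (LP (LK LD1_c11 LD2_c38 LD3_c41)) = (LP (LK LD1_c5 LD2_c56 LD3_c42)) :=
  Lre_b IH (LK LD1_c11 LD2_c38 LD3_c41) (LK LD1_c5 LD2_c56 LD3_c42) Lrfl Lrfl
theorem f119609 : Led Lsl_et (LP (LK LD1_c3 LD2_c15 LD3_c51)) = (LP (LK LD1_c6 LD2_c34 LD3_c60)) :=
  Lre_e IH (LK LD1_c3 LD2_c15 LD3_c51) (LK LD1_c6 LD2_c34 LD3_c60) Lrfl Lrfl
theorem f119988 : Led Lsl_cf (LP (LK LD1_c11 LD2_c38 LD3_c41)) = (LP (LK LD1_c6 LD2_c34 LD3_c60)) :=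
  Lgr Lrot39 (Lpr_et (K4.f119974 IH) (Lpr_ct (K4.f119983 IH) (Lpr_et (f119609 IH) (Lpn (LP (LK LD1_c6 LD2_c34 LD3_c60))))))
theorem f141615 : Led Lsl_et (LP (LK LD1_c4 LD2_c37 LD3_c9)) = (LP (LK LD1_c9 LD2_c10 LD3_c1)) :=
  Lre_e IH (LK LD1_c4 LD2_c37 LD3_c9) (LK LD1_c9 LD2_c10 LD3_c1) Lrfl Lrfl
theorem f119604 : Led Lsl_et (LP (LK LD1_c6 LD2_c34 LD3_c60)) = (LP (LK LD1_c3 LD2_c15 LD3_c51)) :=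
  Lre_e IH (LK LD1_c6 LD2_c34 LD3_c60) (LK LD1_c3 LD2_c15 LD3_c51) Lrfl Lrfl
theorem f141616 : Led Lsl_bt (LP (LK LD1_c9 LD2_c10 LD3_c1)) = (LP (LK LD1_c6 LD2_c34 LD3_c60)) :=
  Lgr Lrot119 (Lpe (f141615 IH) (Lpr_bf (K6.f141606 IH) (Lpe (f119604 IH) (Lpn (LP (LK LD1_c6 LD2_c34 LD3_c60))))))
theorem f157140 : Led Lsl_ct (LP (LK LD1_c9 LD2_c47 LD3_c25)) = (LP (LK LD1_c9 LD2_c10 LD3_c1)) :=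
  Lgr Lrot83 (Lpr_bf (K8.f157123 IH) (Lpe (K4.f119942 IH) (Lpe (f119947 IH) (Lpr_cf (f119988 IH) (Lpe (f141616 IH) (Lpn (LP (LK LD1_c9 LD2_c10 LD3_c1))))))))
theorem f157143 : Led Lsl_cf (LP (LK LD1_c9 LD2_c47 LD3_c25)) = (LP (LK LD1_c9 LD2_c10 LD3_c1)) :=
  Lgr Lrot11 (Lpr_ct (f157140 IH) (Lpn (LP (LK LD1_c9 LD2_c10 LD3_c1))))
theorem f621106 : Led Lsl_at (LP (LK LD1_c3 LD2_c2 LD3_c7)) = (LP (LK LD1_c6 LD2_c10 LD3_c56)) :=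
  Lre_a IH (LK LD1_c3 LD2_c2 LD3_c7) (LK LD1_c6 LD2_c10 LD3_c56) Lrfl Lrfl
theorem f621107 : Led Lsl_ft (LP (LK LD1_c6 LD2_c11 LD3_c0)) = (LP (LK LD1_c3 LD2_c2 LD3_c7)) :=
  Lre_f IH (LK LD1_c6 LD2_c11 LD3_c0) (LK LD1_c3 LD2_c2 LD3_c7) Lrfl Lrfl
theorem f754705 : Led Lsl_gt (LP (LK LD1_c6 LD2_c11 LD3_c0)) = v17042 :=
  Lgr Lrot5 (Lpr_ft (f621107 IH) (Lpr_at (f621106 IH) (Lpr_gf (f754704 IH) (Lpn v17042))))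
theorem f624414 : Led Lsl_bt (LP (LK LD1_c3 LD2_c2 LD3_c13)) = (LP (LK LD1_c6 LD2_c11 LD3_c0)) :=
  Lre_b IH (LK LD1_c3 LD2_c2 LD3_c13) (LK LD1_c6 LD2_c11 LD3_c0) Lrfl Lrfl
theorem f453930 : Led Lsl_ct (LP (LK LD1_c6 LD2_c10 LD3_c17)) = (LP (LK LD1_c3 LD2_c1 LD3_c45)) :=
  Lre_c IH (LK LD1_c6 LD2_c10 LD3_c17) (LK LD1_c3 LD2_c1 LD3_c45) Lrfl Lrfl
theorem f651209 : Led Lsl_bt (LP (LK LD1_c6 LD2_c10 LD3_c17)) = (LP (LK LD1_c12 LD2_c1 LD3_c22)) :=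
  Lre_b IH (LK LD1_c6 LD2_c10 LD3_c17) (LK LD1_c12 LD2_c1 LD3_c22) Lrfl Lrfl
theorem f754709 : Led Lsl_gt (LP (LK LD1_c6 LD2_c34 LD3_c60)) = (LP (LK LD1_c12 LD2_c1 LD3_c22)) :=
  Lgr Lrot164 (Lpe (f141616 IH) (Lpe (f157143 IH) (Lpe (f157142 IH) (Lpr_cf (f754708 IH) (Lpe (f754705 IH) (Lpe (f624414 IH) (Lpr_ct (K46.f414290 IH) (Lpe (K51.f61060 IH) (Lpe (f453930 IH) (Lpr_bt (f651209 IH) (Lpn (LP (LK LD1_c12 LD2_c1 LD3_c22)))))))))))))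
theorem f754710 : Led Lsl_gt (LP (LK LD1_c6 LD2_c34 LD3_c60)) = (LP (LK LD1_c12 LD2_c1 LD3_c22)) :=
  Leop (Lpe (f754709 IH) (Lpn (LP (LK LD1_c6 LD2_c34 LD3_c60))))
theorem seed_1112 : LEOK LG_g (LK LD1_c6 LD2_c34 LD3_c60) :=
  Leoe_g (LK LD1_c6 LD2_c34 LD3_c60) (f754710 IH)
def v17055 : LQ := Led Lsl_gf (LP (LK LD1_c6 LD2_c11 LD3_c3))
theorem f754758 : Led Lsl_gf (LP (LK LD1_c6 LD2_c11 LD3_c3)) = v17055 :=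
  Lrfl
theorem f63523 : Led Lsl_dt (LP (LK LD1_c3 LD2_c2 LD3_c8)) = (LP (LK LD1_c6 LD2_c11 LD3_c3)) :=
  Lre_d IH (LK LD1_c3 LD2_c2 LD3_c8) (LK LD1_c6 LD2_c11 LD3_c3) Lrfl Lrfl
theorem f63529 : Led Lsl_et (LP (LK LD1_c3 LD2_c2 LD3_c8)) = (LP (LK LD1_c1 LD2_c27 LD3_c4)) :=
  Lre_e IH (LK LD1_c3 LD2_c2 LD3_c8) (LK LD1_c1 LD2_c27 LD3_c4) Lrfl Lrfl
theorem f87357 : Led Lsl_et (LP (LK LD1_c0 LD2_c52 LD3_c59)) = (LP (LK LD1_c1 LD2_c52 LD3_c33)) :=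
  Lre_e IH (LK LD1_c0 LD2_c52 LD3_c59) (LK LD1_c1 LD2_c52 LD3_c33) Lrfl Lrfl
theorem f87358 : Led Lsl_gt (LP (LK LD1_c1 LD2_c52 LD3_c33)) = (LP (LK LD1_c3 LD2_c51 LD3_c31)) :=
  Lre_g IH (LK LD1_c1 LD2_c52 LD3_c33) (LK LD1_c3 LD2_c51 LD3_c31) Lrfl Lrfl
theorem f87359 : Led Lsl_et (LP (LK LD1_c7 LD2_c44 LD3_c32)) = (LP (LK LD1_c3 LD2_c51 LD3_c31)) :=
  Lre_e IH (LK LD1_c7 LD2_c44 LD3_c32) (LK LD1_c3 LD2_c51 LD3_c31) Lrfl Lrfl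
theorem f754760 : Led Lsl_dt (LP (LK LD1_c7 LD2_c44 LD3_c32)) = v17055 :=
  Lgr Lrot136 (Lpr_et (f87359 IH) (Lpe (f87358 IH) (Lpe (f87357 IH) (Lpr_dt (K1.f64605 IH) (Lpe (K1.f62191 IH) (Lpe (K2.f62184 IH) (Lpr_gf (K2.f87350 IH) (Lpe (f63529 IH) (Lpr_dt (f63523 IH) (Lpr_gf (f754758 IH) (Lpn v17055)))))))))))
theorem f754761 : Led Lsl_gt (LP (LK LD1_c14 LD2_c36 LD3_c8)) = (LP (LK LD1_c7 LD2_c44 LD3_c32)) :=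
  Lre_g IH (LK LD1_c14 LD2_c36 LD3_c8) (LK LD1_c7 LD2_c44 LD3_c32) Lrfl Lrfl
theorem f63369 : Led Lsl_cf (LP (LK LD1_c3 LD2_c2 LD3_c8)) = (LP (LK LD1_c3 LD2_c50 LD3_c14)) :=
  Lgr Lrot11 (Lpr_ct (K2.f63358 IH) (Lpn (LP (LK LD1_c3 LD2_c50 LD3_c14))))
theorem f63124 : Led Lsl_dt (LP (LK LD1_c7 LD2_c41 LD3_c32)) = (LP (LK LD1_c3 LD2_c50 LD3_c14)) :=
  Lre_d IH (LK LD1_c7 LD2_c41 LD3_c32) (LK LD1_c3 LD2_c50 LD3_c14) Lrfl Lrfl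
theorem f19105 : Led Lsl_ft (LP (LK LD1_c13 LD2_c20 LD3_c58)) = (LP (LK LD1_c7 LD2_c2 LD3_c24)) :=
  Lre_f IH (LK LD1_c13 LD2_c20 LD3_c58) (LK LD1_c7 LD2_c2 LD3_c24) Lrfl Lrfl
theorem f18340 : Led Lsl_at (LP (LK LD1_c6 LD2_c58 LD3_c46)) = (LP (LK LD1_c3 LD2_c30 LD3_c34)) :=
  Lre_a IH (LK LD1_c6 LD2_c58 LD3_c46) (LK LD1_c3 LD2_c30 LD3_c34) Lrfl Lrfl
theorem f19087 : Led Lsl_et (LP (LK LD1_c3 LD2_c30 LD3_c34)) = (LP (LK LD1_c7 LD2_c2 LD3_c24)) :=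
  Lre_e IH (LK LD1_c3 LD2_c30 LD3_c34) (LK LD1_c7 LD2_c2 LD3_c24) Lrfl Lrfl
theorem f63307 : Led Lsl_at (LP (LK LD1_c7 LD2_c2 LD3_c24)) = (LP (LK LD1_c7 LD2_c41 LD3_c32)) :=
  Lgr Lrot80 (Lpe (f19087 IH) (Lpe (f18340 IH) (Lpr_ef (K2.f63286 IH) (Lpn (LP (LK LD1_c7 LD2_c41 LD3_c32))))))
theorem f65131 : Led Lsl_gt (LP (LK LD1_c7 LD2_c44 LD3_c53)) = (LP (LK LD1_c7 LD2_c41 LD3_c32)) :=
  Lgr Lrot46 (Lpr_gf (K1.f65129 IH) (Lpr_ft (f19105 IH) (Lpr_at (f63307 IH) (Lpn (LP (LK LD1_c7 LD2_c41 LD3_c32))))))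
theorem f443242 : Led Lsl_gt (LP (LK LD1_c7 LD2_c44 LD3_c52)) = (LP (LK LD1_c3 LD2_c51 LD3_c38)) :=
  Lre_g IH (LK LD1_c7 LD2_c44 LD3_c52) (LK LD1_c3 LD2_c51 LD3_c38) Lrfl Lrfl
theorem f754764 : Led Lsl_ct (LP (LK LD1_c14 LD2_c36 LD3_c8)) = (LP (LK LD1_c7 LD2_c44 LD3_c52)) :=
  Lgr Lrot8 (Lpr_gt (f754761 IH) (Lpr_dt (f754760 IH) (Lpe (f754758 IH) (Lpr_dt (K2.f63357 IH) (Lpr_cf (f63369 IH) (Lpe (f63124 IH) (Lpe (f65131 IH) (Lpe (K1.f65128 IH) (Lpe (f443242 IH) (Lpn (LP (LK LD1_c7 LD2_c44 LD3_c52))))))))))))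
theorem f754765 : Led Lsl_ct (LP (LK LD1_c14 LD2_c36 LD3_c8)) = (LP (LK LD1_c7 LD2_c44 LD3_c52)) :=
  Leop (Lpe (f754764 IH) (Lpn (LP (LK LD1_c14 LD2_c36 LD3_c8))))
theorem seed_1113 : LEOK LG_c (LK LD1_c14 LD2_c36 LD3_c8) :=
  Leoe_c (LK LD1_c14 LD2_c36 LD3_c8) (f754765 IH)
def v17066 : LQ := Led Lsl_at (LP (LK LD1_c6 LD2_c11 LD3_c8))
theorem f754820 : Led Lsl_at (LP (LK LD1_c6 LD2_c11 LD3_c8)) = v17066 :=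
  Lrfl
theorem f443662 : Led Lsl_et (LP (LK LD1_c3 LD2_c2 LD3_c10)) = (LP (LK LD1_c6 LD2_c11 LD3_c8)) :=
  Lre_e IH (LK LD1_c3 LD2_c2 LD3_c10) (LK LD1_c6 LD2_c11 LD3_c8) Lrfl Lrfl
def v5212 : LQ := Led Lsl_at (LP (LK LD1_c3 LD2_c2 LD3_c10))
theorem f646557 : Led Lsl_at (LP (LK LD1_c3 LD2_c2 LD3_c10)) = v5212 :=
  Lrfl
theorem f646558 : Led Lsl_af (LP (LK LD1_c3 LD2_c2 LD3_c10)) = v5212 :=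
  Lgr Lrot0 (Lpr_at (f646557 IH) (Lpn v5212))
theorem f754823 : Led Lsl_ef v5212 = v17066 :=
  Lgr Lrot20 (Lpe (f646558 IH) (Lpr_et (f443662 IH) (Lpr_at (f754820 IH) (Lpn v17066))))
theorem f67012 : Led Lsl_ct (LP (LK LD1_c3 LD2_c12 LD3_c36)) = (LP (LK LD1_c6 LD2_c29 LD3_c17)) :=
  Lre_c IH (LK LD1_c3 LD2_c12 LD3_c36) (LK LD1_c6 LD2_c29 LD3_c17) Lrfl Lrfl
theorem f414634 : Led Lsl_bt (LP (LK LD1_c3 LD2_c2 LD3_c15)) = (LP (LK LD1_c1 LD2_c27 LD3_c7)) :=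
  Lre_b IH (LK LD1_c3 LD2_c2 LD3_c15) (LK LD1_c1 LD2_c27 LD3_c7) Lrfl Lrfl
theorem f414636 : Led Lsl_gf (LP (LK LD1_c6 LD2_c29 LD3_c27)) = (LP (LK LD1_c6 LD2_c11 LD3_c17)) :=
  Lgr Lrot126 (Lpe (K2.f61485 IH) (Lpr_bt (K51.f61471 IH) (Lpe (K9.f66969 IH) (Lpr_ct (K17.f414621 IH) (Lpr_gt (K16.f59890 IH) (Lpe (K16.f27135 IH) (Lpr_bt (K46.f140039 IH) (Lpr_gt (K32.f62013 IH) (Lpe (f414634 IH) (Lpr_ct (K48.f414635 IH) (Lpn (LP (LK LD1_c6 LD2_c11 LD3_c17)))))))))))))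
theorem f61494 : Led Lsl_at (LP (LK LD1_c12 LD2_c28 LD3_c52)) = (LP (LK LD1_c6 LD2_c29 LD3_c27)) :=
  Lre_a IH (LK LD1_c12 LD2_c28 LD3_c52) (LK LD1_c6 LD2_c29 LD3_c27) Lrfl Lrfl
theorem f76449 : Led Lsl_ft (LP (LK LD1_c6 LD2_c29 LD3_c17)) = (LP (LK LD1_c12 LD2_c28 LD3_c52)) :=
  Lre_f IH (LK LD1_c6 LD2_c29 LD3_c17) (LK LD1_c12 LD2_c28 LD3_c52) Lrfl Lrfl
theorem f414640 : Led Lsl_gt (LP (LK LD1_c6 LD2_c29 LD3_c17)) = (LP (LK LD1_c6 LD2_c11 LD3_c17)) :=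
  Lgr Lrot5 (Lpr_ft (f76449 IH) (Lpr_at (f61494 IH) (Lpr_gf (f414636 IH) (Lpn (LP (LK LD1_c6 LD2_c11 LD3_c17))))))
theorem f414652 : Led Lsl_gt (LP (LK LD1_c6 LD2_c10 LD3_c15)) = (LP (LK LD1_c3 LD2_c2 LD3_c11)) :=
  Lre_g IH (LK LD1_c6 LD2_c10 LD3_c15) (LK LD1_c3 LD2_c2 LD3_c11) Lrfl Lrfl
theorem f413549 : Led Lsl_ct (LP (LK LD1_c6 LD2_c11 LD3_c9)) = (LP (LK LD1_c3 LD2_c2 LD3_c11)) :=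
  Lre_c IH (LK LD1_c6 LD2_c11 LD3_c9) (LK LD1_c3 LD2_c2 LD3_c11) Lrfl Lrfl
theorem f647261 : Led Lsl_bt (LP (LK LD1_c6 LD2_c11 LD3_c9)) = K51.v5363 :=
  Lgr Lrot22 (Lpr_ct (f413549 IH) (Lpe (f414652 IH) (Lpe (K46.f414651 IH) (Lpe (K32.f62081 IH) (Lpe (f414634 IH) (Lpr_ct (K48.f414635 IH) (Lpe (f414640 IH) (Lpe (f67012 IH) (Lpe (K2.f66999 IH) (Lpr_gf (K51.f647259 IH) (Lpn K51.v5363)))))))))))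
theorem f647262 : Led Lsl_bf (LP (LK LD1_c6 LD2_c11 LD3_c9)) = K51.v5363 :=
  Lgr Lrot24 (Lpr_bt (f647261 IH) (Lpn K51.v5363))
theorem f709641 : K51.v7342 = (LP (LK LD1_c6 LD2_c11 LD3_c9)) :=
  Lefun (Lecon (K51.f664653 IH) (K51.f709640 IH)) (Lfl_bf (f647262 IH))
theorem f646453 : Led Lsl_cf (LP (LK LD1_c3 LD2_c45 LD3_c20)) = K46.v5191 :=
  Lgr Lrot11 (Lpr_ct (K46.f646445 IH) (Lpn K46.v5191))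
theorem f87361 : Led Lsl_gt (LP (LK LD1_c3 LD2_c2 LD3_c11)) = (LP (LK LD1_c1 LD2_c27 LD3_c5)) :=
  Lre_g IH (LK LD1_c3 LD2_c2 LD3_c11) (LK LD1_c1 LD2_c27 LD3_c5) Lrfl Lrfl
theorem f646562 : Led Lsl_ft (LP (LK LD1_c3 LD2_c2 LD3_c11)) = v5212 :=
  Lgr Lrot2 (Lpr_gt (f87361 IH) (Lpr_gt (K46.f443625 IH) (Lpr_af (f646558 IH) (Lpn v5212))))
theorem f709646 : K46.v5191 = v5212 :=
  (Llr Lrot108 (Lpe (f646453 IH) (Lpr_ft (K51.f664648 IH) (Lpqs (f709641 IH) (Lpr_ct (f413549 IH) (Lpr_ft (f646562 IH) (Lpn v5212))))))).symm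
def v5219 : LQ := Led Lsl_ft (LP (LK LD1_c3 LD2_c2 LD3_c12))
theorem f646585 : Led Lsl_ft (LP (LK LD1_c3 LD2_c2 LD3_c12)) = v5219 :=
  Lrfl
theorem f646588 : Led Lsl_ff (LP (LK LD1_c3 LD2_c2 LD3_c12)) = v5219 :=
  Lgr Lrot3 (Lpr_ft (f646585 IH) (Lpn v5219))
theorem f502892 : Led Lsl_ft (LP (LK LD1_c1 LD2_c27 LD3_c5)) = (LP (LK LD1_c3 LD2_c2 LD3_c13)) :=
  Lre_f IH (LK LD1_c1 LD2_c27 LD3_c5) (LK LD1_c3 LD2_c2 LD3_c13) Lrfl Lrfl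
theorem f646589 : Led Lsl_dt (LP (LK LD1_c3 LD2_c2 LD3_c13)) = v5219 :=
  Lgr Lrot60 (Lpe (f502892 IH) (Lpe (K46.f504423 IH) (Lpr_ff (f646588 IH) (Lpn v5219))))
theorem f646454 : Led Lsl_at (LP (LK LD1_c3 LD2_c1 LD3_c44)) = (LP (LK LD1_c1 LD2_c27 LD3_c5)) :=
  Lre_a IH (LK LD1_c3 LD2_c1 LD3_c44) (LK LD1_c1 LD2_c27 LD3_c5) Lrfl Lrfl
theorem f646461 : Led Lsl_at (LP (LK LD1_c3 LD2_c2 LD3_c12)) = K46.v5192 :=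
  Lgr Lrot51 (Lpe (K46.f63854 IH) (Lpe (f646454 IH) (Lpr_df (K46.f646457 IH) (Lpn K46.v5192))))
theorem f651361 : Led Lsl_gt v5219 = K46.v6123 :=
  Lgr Lrot5 (Lpe (f646588 IH) (Lpr_at (f646461 IH) (Lpr_gf (K46.f651360 IH) (Lpn K46.v6123))))
theorem f651320 : Led Lsl_et (LP (LK LD1_c6 LD2_c33 LD3_c43)) = (LP (LK LD1_c3 LD2_c16 LD3_c22)) :=
  Lre_e IH (LK LD1_c6 LD2_c33 LD3_c43) (LK LD1_c3 LD2_c16 LD3_c22) Lrfl Lrfl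
theorem f651321 : Led Lsl_dt (LP (LK LD1_c6 LD2_c33 LD3_c43)) = (LP (LK LD1_c12 LD2_c34 LD3_c24)) :=
  Lre_d IH (LK LD1_c6 LD2_c33 LD3_c43) (LK LD1_c12 LD2_c34 LD3_c24) Lrfl Lrfl
theorem f651359 : Led Lsl_gt (LP (LK LD1_c12 LD2_c34 LD3_c24)) = (LP (LK LD1_c6 LD2_c40 LD3_c41)) :=
  Lre_g IH (LK LD1_c12 LD2_c34 LD3_c24) (LK LD1_c6 LD2_c40 LD3_c41) Lrfl Lrfl
theorem f754826 : Led Lsl_df (LP (LK LD1_c6 LD2_c40 LD3_c41)) = v17066 :=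
  Lgr Lrot168 (Lpe (f651359 IH) (Lpe (f651321 IH) (Lpr_et (f651320 IH) (Lpe (K46.f495074 IH) (Lpe (K46.f65678 IH) (Lpr_dt (K46.f651357 IH) (Lpe (f651361 IH) (Lpe (f646589 IH) (Lpr_gf (K46.f646441 IH) (Lpqs (f709646 IH) (Lpr_ef (f754823 IH) (Lpn v17066))))))))))))
theorem f443644 : Led Lsl_dt (LP (LK LD1_c12 LD2_c2 LD3_c38)) = (LP (LK LD1_c6 LD2_c11 LD3_c8)) :=
  Lre_d IH (LK LD1_c12 LD2_c2 LD3_c38) (LK LD1_c6 LD2_c11 LD3_c8) Lrfl Lrfl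
theorem f754827 : Led Lsl_at (LP (LK LD1_c6 LD2_c40 LD3_c41)) = (LP (LK LD1_c12 LD2_c2 LD3_c38)) :=
  Lgr Lrot51 (Lpr_df (f754826 IH) (Lpe (f754820 IH) (Lpe (f443644 IH) (Lpn (LP (LK LD1_c12 LD2_c2 LD3_c38))))))
theorem f754828 : Led Lsl_at (LP (LK LD1_c6 LD2_c40 LD3_c41)) = (LP (LK LD1_c12 LD2_c2 LD3_c38)) :=
  Leop (Lpe (f754827 IH) (Lpn (LP (LK LD1_c6 LD2_c40 LD3_c41))))
theorem seed_1114 : LEOK LG_a (LK LD1_c6 LD2_c40 LD3_c41) :=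
  Leoe_a (LK LD1_c6 LD2_c40 LD3_c41) (f754828 IH)
def v17069 : LQ := Led Lsl_gf (LP (LK LD1_c6 LD2_c11 LD3_c10))
theorem f754899 : Led Lsl_gf (LP (LK LD1_c6 LD2_c11 LD3_c10)) = v17069 :=
  Lrfl
theorem f87363 : Led Lsl_dt (LP (LK LD1_c6 LD2_c11 LD3_c10)) = (LP (LK LD1_c12 LD2_c2 LD3_c41)) :=
  Lre_d IH (LK LD1_c6 LD2_c11 LD3_c10) (LK LD1_c12 LD2_c2 LD3_c41) Lrfl Lrfl
theorem f118598 : Led Lsl_dt (LP (LK LD1_c12 LD2_c36 LD3_c47)) = (LP (LK LD1_c6 LD2_c35 LD3_c22)) :=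
  Lre_d IH (LK LD1_c12 LD2_c36 LD3_c47) (LK LD1_c6 LD2_c35 LD3_c22) Lrfl Lrfl
theorem f650691 : Led Lsl_af (LP (LK LD1_c3 LD2_c16 LD3_c56)) = v6042 :=
  Lgr Lrot45 (Lpr_ft (f650686 IH) (Lpe (f650683 IH) (Lpr_ft (f650690 IH) (Lpn v6042))))
theorem f119190 : Led Lsl_dt (LP (LK LD1_c3 LD2_c16 LD3_c56)) = (LP (LK LD1_c6 LD2_c37 LD3_c13)) :=
  Lre_d IH (LK LD1_c3 LD2_c16 LD3_c56) (LK LD1_c6 LD2_c37 LD3_c13) Lrfl Lrfl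
theorem f651900 : Led Lsl_af (LP (LK LD1_c12 LD2_c36 LD3_c47)) = (LP (LK LD1_c6 LD2_c37 LD3_c13)) :=
  Lgr Lrot117 (Lpr_dt (f118598 IH) (Lpq (f651837 IH) (Lpe (f650691 IH) (Lpr_dt (f119190 IH) (Lpn (LP (LK LD1_c6 LD2_c37 LD3_c13)))))))
theorem f651902 : Led Lsl_at (LP (LK LD1_c12 LD2_c36 LD3_c47)) = (LP (LK LD1_c6 LD2_c37 LD3_c13)) :=
  Lgr Lrot100 (Lpr_af (f651900 IH) (Lpn (LP (LK LD1_c6 LD2_c37 LD3_c13))))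
theorem f508720 : Led Lsl_dt (LP (LK LD1_c6 LD2_c37 LD3_c8)) = (LP (LK LD1_c3 LD2_c16 LD3_c53)) :=
  Lre_d IH (LK LD1_c6 LD2_c37 LD3_c8) (LK LD1_c3 LD2_c16 LD3_c53) Lrfl Lrfl
theorem f118596 : Led Lsl_dt (LP (LK LD1_c6 LD2_c35 LD3_c22)) = (LP (LK LD1_c12 LD2_c36 LD3_c47)) :=
  Lre_d IH (LK LD1_c6 LD2_c35 LD3_c22) (LK LD1_c12 LD2_c36 LD3_c47) Lrfl Lrfl
theorem f651872 : Led Lsl_ff (LP (LK LD1_c6 LD2_c37 LD3_c8)) = (LP (LK LD1_c12 LD2_c36 LD3_c47)) :=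
  Lgr Lrot19 (Lpr_dt (f508720 IH) (Lpr_ft (f650690 IH) (Lpqs (f651837 IH) (Lpr_dt (f118596 IH) (Lpn (LP (LK LD1_c12 LD2_c36 LD3_c47)))))))
theorem f651880 : Led Lsl_ft (LP (LK LD1_c6 LD2_c37 LD3_c8)) = (LP (LK LD1_c12 LD2_c36 LD3_c47)) :=
  Lgr Lrot48 (Lpr_ff (f651872 IH) (Lpn (LP (LK LD1_c12 LD2_c36 LD3_c47))))
def v8560 : LQ := Led Lsl_dt v2089
theorem f671599 : Led Lsl_dt v2089 = v8560 :=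
  Lrfl
theorem f650678 : Led Lsl_dt (LP (LK LD1_c3 LD2_c16 LD3_c53)) = (LP (LK LD1_c6 LD2_c37 LD3_c8)) :=
  Lre_d IH (LK LD1_c3 LD2_c16 LD3_c53) (LK LD1_c6 LD2_c37 LD3_c8) Lrfl Lrfl
theorem f754458 : v8560 = (LP (LK LD1_c6 LD2_c37 LD3_c8)) :=
  Lefun (Lecon (f671599 IH) (f754450 IH)) (f650678 IH)
theorem f87362 : Led Lsl_et (LP (LK LD1_c6 LD2_c11 LD3_c10)) = (LP (LK LD1_c3 LD2_c2 LD3_c11)) :=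
  Lre_e IH (LK LD1_c6 LD2_c11 LD3_c10) (LK LD1_c3 LD2_c2 LD3_c11) Lrfl Lrfl
theorem f671601 : Led Lsl_gf (LP (LK LD1_c12 LD2_c2 LD3_c41)) = v8560 :=
  Lgr Lrot134 (Lpe (f87363 IH) (Lpr_et (f87362 IH) (Lpr_gt (f87361 IH) (Lpe (K46.f87360 IH) (Lpr_dt (K3.f63116 IH) (Lpe (K2.f87350 IH) (Lpe (K3.f62304 IH) (Lpr_et (f62267 IH) (Lpr_gt (f508760 IH) (Lpr_dt (f671599 IH) (Lpn v8560)))))))))))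
theorem f754470 : Led Lsl_gt (LP (LK LD1_c12 LD2_c2 LD3_c41)) = (LP (LK LD1_c6 LD2_c37 LD3_c13)) :=
  Lgr Lrot46 (Lpr_gf (f671601 IH) (Lpqs (f754458 IH) (Lpr_ft (f651880 IH) (Lpr_at (f651902 IH) (Lpn (LP (LK LD1_c6 LD2_c37 LD3_c13)))))))
theorem f119188 : Led Lsl_dt (LP (LK LD1_c6 LD2_c37 LD3_c13)) = (LP (LK LD1_c3 LD2_c16 LD3_c56)) :=
  Lre_d IH (LK LD1_c6 LD2_c37 LD3_c13) (LK LD1_c3 LD2_c16 LD3_c56) Lrfl Lrfl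
theorem f114319 : Led Lsl_dt (LP (LK LD1_c3 LD2_c16 LD3_c57)) = (LP (LK LD1_c1 LD2_c35 LD3_c5)) :=
  Lre_d IH (LK LD1_c3 LD2_c16 LD3_c57) (LK LD1_c1 LD2_c35 LD3_c5) Lrfl Lrfl
def v5237 : LQ := Led Lsl_gf (LP (LK LD1_c3 LD2_c2 LD3_c21))
theorem f646734 : Led Lsl_gf (LP (LK LD1_c3 LD2_c2 LD3_c21)) = v5237 :=
  Lrfl
theorem f754901 : Led Lsl_cf v5237 = v17069 :=
  Lgr Lrot166 (Lpe (f646734 IH) (Lpr_dt (K5.f130830 IH) (Lpr_gt (K46.f650715 IH) (Lpr_dt (f114319 IH) (Lpr_ct (f119187 IH) (Lpe (f119188 IH) (Lpe (f754470 IH) (Lpe (f87363 IH) (Lpr_gf (f754899 IH) (Lpn v17069))))))))))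
theorem f678594 : v5237 = K49.v9701 :=
  (Llr Lrot47 (Lpe (f646734 IH) (Lpr_gt (K46.f130834 IH) (Lpe (K49.f678530 IH) (Lpr_ff (K49.f678498 IH) (Lpqs (K49.f678579 IH) (Lpn K49.v9701))))))).symm
theorem f677232 : Led Lsl_dt (LP (LK LD1_c6 LD2_c35 LD3_c24)) = K49.v9701 :=
  Lgr Lrot42 (Lpr_df (K49.f677231 IH) (Lpn K49.v9701))
theorem f650685 : Led Lsl_ct K46.v2078 = v6041 :=
  Lgr Lrot59 (Lpr_cf (f650684 IH) (Lpn v6041))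
theorem f62253 : Led Lsl_dt (LP (LK LD1_c3 LD2_c17 LD3_c35)) = (LP (LK LD1_c6 LD2_c38 LD3_c36)) :=
  Lre_d IH (LK LD1_c3 LD2_c17 LD3_c35) (LK LD1_c6 LD2_c38 LD3_c36) Lrfl Lrfl
theorem f93440 : Led Lsl_at (LP (LK LD1_c3 LD2_c16 LD3_c9)) = (LP (LK LD1_c1 LD2_c35 LD3_c20)) :=
  Lgr Lrot80 (Lpe (K3.f69280 IH) (Lpr_af (K3.f93436 IH) (Lpe (K3.f62186 IH) (Lpn (LP (LK LD1_c1 LD2_c35 LD3_c20))))))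
theorem f62215 : Led Lsl_dt (LP (LK LD1_c1 LD2_c35 LD3_c20)) = (LP (LK LD1_c3 LD2_c17 LD3_c34)) :=
  Lre_d IH (LK LD1_c1 LD2_c35 LD3_c20) (LK LD1_c3 LD2_c17 LD3_c34) Lrfl Lrfl
theorem f93913 : Led Lsl_af (LP (LK LD1_c6 LD2_c35 LD3_c35)) = (LP (LK LD1_c3 LD2_c17 LD3_c34)) :=
  Lgr Lrot117 (Lpr_dt (K3.f69289 IH) (Lpr_at (f93440 IH) (Lpr_dt (f62215 IH) (Lpn (LP (LK LD1_c3 LD2_c17 LD3_c34))))))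
theorem f63839 : Led Lsl_gt (LP (LK LD1_c12 LD2_c37 LD3_c11)) = (LP (LK LD1_c6 LD2_c35 LD3_c35)) :=
  Lre_g IH (LK LD1_c12 LD2_c37 LD3_c11) (LK LD1_c6 LD2_c35 LD3_c35) Lrfl Lrfl
theorem f62245 : Led Lsl_ft (LP (LK LD1_c6 LD2_c38 LD3_c36)) = (LP (LK LD1_c3 LD2_c17 LD3_c34)) :=
  Lre_f IH (LK LD1_c6 LD2_c38 LD3_c36) (LK LD1_c3 LD2_c17 LD3_c34) Lrfl Lrfl
theorem f93921 : Led Lsl_gf (LP (LK LD1_c12 LD2_c37 LD3_c11)) = (LP (LK LD1_c6 LD2_c38 LD3_c36)) :=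
  Lgr Lrot47 (Lpr_gt (f63839 IH) (Lpr_af (f93913 IH) (Lpe (f62245 IH) (Lpn (LP (LK LD1_c6 LD2_c38 LD3_c36))))))
theorem f754904 : Led Lsl_dt (LP (LK LD1_c12 LD2_c37 LD3_c11)) = v17069 :=
  Lgr Lrot105 (Lpr_gf (f93921 IH) (Lpe (f62253 IH) (Lpr_gf (f650489 IH) (Lpqs (f754655 IH) (Lpe (f650685 IH) (Lpqs (K46.f651829 IH) (Lpe (K46.f508685 IH) (Lpr_dt (K46.f118520 IH) (Lpe (K49.f119147 IH) (Lpr_dt (f677232 IH) (Lpq (f678594 IH) (Lpr_cf (f754901 IH) (Lpn v17069)))))))))))))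
theorem f754905 : Led Lsl_df (LP (LK LD1_c12 LD2_c37 LD3_c11)) = v17069 :=
  Lgr Lrot38 (Lpr_dt (f754904 IH) (Lpn v17069))
def v3161 : LQ := Led Lsl_ct K49.v540
theorem f624088 : Led Lsl_ct K49.v540 = v3161 :=
  Lrfl
theorem f624085 : Led Lsl_ff K35.v541 = K49.v3159 :=
  Lgr Lrot3 (Lpr_ft (K49.f624084 IH) (Lpn K49.v3159))
def v3166 : LQ := Led Lsl_ct K35.v541
theorem f624105 : Led Lsl_ct K35.v541 = v3166 :=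
  Lrfl
def v2636 : LQ := Led Lsl_gf (LP (LK LD1_c1 LD2_c50 LD3_c22))
def v9394 : LQ := Led Lsl_et v2636
theorem f675666 : Led Lsl_et v2636 = v9394 :=
  Lrfl
theorem f675667 : Led Lsl_ef v2636 = v9394 :=
  Lgr Lrot88 (Lpr_et (f675666 IH) (Lpn v9394))
theorem f529945 : Led Lsl_gf (LP (LK LD1_c1 LD2_c50 LD3_c22)) = v2636 :=
  Lrfl
theorem f65703 : Led Lsl_et (LP (LK LD1_c0 LD2_c52 LD3_c2)) = (LP (LK LD1_c1 LD2_c50 LD3_c22)) :=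
  Lre_e IH (LK LD1_c0 LD2_c52 LD3_c2) (LK LD1_c1 LD2_c50 LD3_c22) Lrfl Lrfl
theorem f675668 : Led Lsl_df (LP (LK LD1_c6 LD2_c40 LD3_c8)) = v9394 :=
  Lgr Lrot132 (Lpe (K46.f65705 IH) (Lpe (K46.f65704 IH) (Lpe (K46.f65677 IH) (Lpe (K46.f65262 IH) (Lpr_dt (K1.f62196 IH) (Lpe (K1.f24618 IH) (Lpe (K1.f65666 IH) (Lpr_et (f65703 IH) (Lpr_gf (f529945 IH) (Lpr_ef (f675667 IH) (Lpn v9394)))))))))))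
theorem f675669 : Led Lsl_dt (LP (LK LD1_c6 LD2_c40 LD3_c8)) = v9394 :=
  Lgr Lrot42 (Lpr_df (f675668 IH) (Lpn v9394))
theorem f624504 : Led Lsl_dt (LP (LK LD1_c3 LD2_c18 LD3_c26)) = K35.v3168 :=
  Lgr Lrot42 (Lpr_df (K35.f624111 IH) (Lpn K35.v3168))
theorem f675673 : Led Lsl_cf K35.v3168 = v9394 :=
  Lgr Lrot14 (Lpe (f624504 IH) (Lpe (K32.f453865 IH) (Lpe (K32.f130874 IH) (Lpe (K5.f62968 IH) (Lpr_ct (K32.f140078 IH) (Lpr_gt (K46.f65677 IH) (Lpr_dt (K46.f65704 IH) (Lpr_gt (K46.f65705 IH) (Lpr_dt (f675669 IH) (Lpn v9394))))))))))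
theorem f675674 : v3166 = v2636 :=
  (Llr Lrot15 (Lpe (f624105 IH) (Lpr_ef (K35.f624110 IH) (Lpr_cf (f675673 IH) (Lpe (f675666 IH) (Lpn v2636)))))).symm
def v2635 : LQ := Led Lsl_gt (LP (LK LD1_c1 LD2_c50 LD3_c22))
def v9385 : LQ := Led Lsl_at v2635
theorem f675641 : Led Lsl_at v2635 = v9385 :=
  Lrfl
theorem f675642 : Led Lsl_af v2635 = v9385 :=
  Lgr Lrot0 (Lpr_at (f675641 IH) (Lpn v9385))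
theorem f529944 : Led Lsl_gt (LP (LK LD1_c1 LD2_c50 LD3_c22)) = v2635 :=
  Lrfl
theorem f675643 : Led Lsl_ft v2636 = v9385 :=
  Lgr Lrot2 (Lpe (f529945 IH) (Lpr_gt (f529944 IH) (Lpr_af (f675642 IH) (Lpn v9385))))
theorem f675676 : Led Lsl_cf K49.v3159 = v9385 :=
  Lgr Lrot108 (Lpe (f624085 IH) (Lpr_ct (f624105 IH) (Lpqs (f675674 IH) (Lpr_ft (f675643 IH) (Lpn v9385)))))
theorem f675678 : v3161 = v2635 :=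
  (Llr Lrot111 (Lpe (f624088 IH) (Lpr_af (K49.f624083 IH) (Lpr_cf (f675676 IH) (Lpe (f675641 IH) (Lpn v2635)))))).symm
def v9389 : LQ := Led Lsl_et v2635
theorem f675651 : Led Lsl_et v2635 = v9389 :=
  Lrfl
theorem f675682 : Led Lsl_cf K49.v3163 = v9389 :=
  Lgr Lrot39 (Lpe (K49.f624093 IH) (Lpr_ct (f624088 IH) (Lpqs (f675678 IH) (Lpr_et (f675651 IH) (Lpn v9389)))))
theorem f675683 : Led Lsl_ct K49.v3163 = v9389 :=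
  Lgr Lrot59 (Lpr_cf (f675682 IH) (Lpn v9389))
theorem f754902 : Led Lsl_at v9389 = v17069 :=
  Lgr Lrot107 (Lpe (f675683 IH) (Lpr_af (K49.f678491 IH) (Lpqs (K49.f678579 IH) (Lpq (f678594 IH) (Lpr_cf (f754901 IH) (Lpn v17069))))))
theorem f675652 : Led Lsl_ef v2635 = v9389 :=
  Lgr Lrot88 (Lpr_et (f675651 IH) (Lpn v9389))
theorem f62226 : Led Lsl_gt (LP (LK LD1_c6 LD2_c38 LD3_c34)) = (LP (LK LD1_c3 LD2_c17 LD3_c34)) :=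
  Lre_g IH (LK LD1_c6 LD2_c38 LD3_c34) (LK LD1_c3 LD2_c17 LD3_c34) Lrfl Lrfl
theorem f675653 : Led Lsl_df (LP (LK LD1_c6 LD2_c38 LD3_c34)) = v9389 :=
  Lgr Lrot170 (Lpr_gt (f62226 IH) (Lpe (f62215 IH) (Lpr_et (K3.f62186 IH) (Lpr_gt (K1.f62191 IH) (Lpr_dt (K1.f62192 IH) (Lpr_gt (K1.f62193 IH) (Lpe (K1.f65666 IH) (Lpr_et (f65703 IH) (Lpr_gt (f529944 IH) (Lpr_ef (f675652 IH) (Lpn v9389)))))))))))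
theorem f675654 : Led Lsl_dt (LP (LK LD1_c6 LD2_c38 LD3_c34)) = v9389 :=
  Lgr Lrot42 (Lpr_df (f675653 IH) (Lpn v9389))
theorem f754906 : Led Lsl_at (LP (LK LD1_c12 LD2_c37 LD3_c11)) = (LP (LK LD1_c6 LD2_c38 LD3_c34)) :=
  Lgr Lrot51 (Lpr_df (f754905 IH) (Lpe (f754902 IH) (Lpe (f675654 IH) (Lpn (LP (LK LD1_c6 LD2_c38 LD3_c34))))))
theorem f754907 : Led Lsl_at (LP (LK LD1_c12 LD2_c37 LD3_c11)) = (LP (LK LD1_c6 LD2_c38 LD3_c34)) :=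
  Leop (Lpe (f754906 IH) (Lpn (LP (LK LD1_c12 LD2_c37 LD3_c11))))
theorem seed_1115 : LEOK LG_a (LK LD1_c12 LD2_c37 LD3_c11) :=
  Leoe_a (LK LD1_c12 LD2_c37 LD3_c11) (f754907 IH)

end

end K56

end

end Cfsg.Agent.Helper28.S1692
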