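import Cfsg.Agent.Lib.Helper28.S1692.Seeds56

set_option autoImplicit false
set_option maxRecDepth 100000
set_option linter.all false

namespace Cfsg.Agent.Helper28.S1692

open Cfsg.Agent.Helper28
open Cfsg.Spor.ON (Gen)

noncomputable section

namespace K57
abbrev LD1_c0 := D1.c0
abbrev LD1_c1 := D1.c1
abbrev LD1_c2 := D1.c2
abbrev LD1_c3 := D1.c3
abbrev LD1_c4 := D1.c4
abbrev LD1_c5 := D1.c5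
abbrev LD1_c6 := D1.c6
abbrev LD1_c7 := D1.c7
abbrev LD1_c8 := D1.c8
abbrev LD1_c9 := D1.c9
abbrev LD1_c10 := D1.c10
abbrev LD1_c11 := D1.c11
abbrev LD1_c12 := D1.c12
abbrev LD1_c13 := D1.c13
abbrev LD1_c14 := D1.c14
abbrev LD1_c15 := D1.c15
abbrev LD1_c16 := D1.c16
abbrev LD1_c17 := D1.c17
abbrev LD1_c18 := D1.c18
abbrev LD1_c19 := D1.c19
abbrev LD1_c20 := D1.c20
abbrev LD1_c21 := D1.c21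
abbrev LD1_c22 := D1.c22
abbrev LD1_c23 := D1.c23
abbrev LD1_c24 := D1.c24
abbrev LD1_c25 := D1.c25
abbrev LD1_c26 := D1.c26
abbrev LD1_c27 := D1.c27
abbrev LD1_c28 := D1.c28
abbrev LD1_c29 := D1.c29
abbrev LD1_c30 := D1.c30
abbrev LD1_c31 := D1.c31
abbrev LD1_c32 := D1.c32
abbrev LD2_c0 := D2.c0
abbrev LD2_c1 := D2.c1
abbrev LD2_c2 := D2.c2
abbrev LD2_c3 := D2.c3
abbrev LD2_c4 := D2.c4
abbrev LD2_c5 := D2.c5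
abbrev LD2_c6 := D2.c6
abbrev LD2_c7 := D2.c7
abbrev LD2_c8 := D2.c8
abbrev LD2_c9 := D2.c9
abbrev LD2_c10 := D2.c10
abbrev LD2_c11 := D2.c11
abbrev LD2_c12 := D2.c12
abbrev LD2_c13 := D2.c13
abbrev LD2_c14 := D2.c14
abbrev LD2_c15 := D2.c15
abbrev LD2_c16 := D2.c16
abbrev LD2_c17 := D2.c17
abbrev LD2_c18 := D2.c18
abbrev LD2_c19 := D2.c19
abbrev LD2_c20 := D2.c20
abbrev LD2_c21 := D2.c21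
abbrev LD2_c22 := D2.c22
abbrev LD2_c23 := D2.c23
abbrev LD2_c24 := D2.c24
abbrev LD2_c25 := D2.c25
abbrev LD2_c26 := D2.c26
abbrev LD2_c27 := D2.c27
abbrev LD2_c28 := D2.c28
abbrev LD2_c29 := D2.c29
abbrev LD2_c30 := D2.c30
abbrev LD2_c31 := D2.c31
abbrev LD2_c32 := D2.c32
abbrev LD2_c33 := D2.c33
abbrev LD2_c34 := D2.c34
abbrev LD2_c35 := D2.c35
abbrev LD2_c36 := D2.c36
abbrev LD2_c37 := D2.c37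
abbrev LD2_c38 := D2.c38
abbrev LD2_c39 := D2.c39
abbrev LD2_c40 := D2.c40
abbrev LD2_c41 := D2.c41
abbrev LD2_c42 := D2.c42
abbrev LD2_c43 := D2.c43
abbrev LD2_c44 := D2.c44
abbrev LD2_c45 := D2.c45
abbrev LD2_c46 := D2.c46
abbrev LD2_c47 := D2.c47
abbrev LD2_c48 := D2.c48
abbrev LD2_c49 := D2.c49
abbrev LD2_c50 := D2.c50
abbrev LD2_c51 := D2.c51
abbrev LD2_c52 := D2.c52
abbrev LD2_c53 := D2.c53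
abbrev LD2_c54 := D2.c54
abbrev LD2_c55 := D2.c55
abbrev LD2_c56 := D2.c56
abbrev LD2_c57 := D2.c57
abbrev LD2_c58 := D2.c58
abbrev LD2_c59 := D2.c59
abbrev LD3_c0 := D3.c0
abbrev LD3_c1 := D3.c1
abbrev LD3_c2 := D3.c2
abbrev LD3_c3 := D3.c3
abbrev LD3_c4 := D3.c4
abbrev LD3_c5 := D3.c5
abbrev LD3_c6 := D3.c6
abbrev LD3_c7 := D3.c7
abbrev LD3_c8 := D3.c8
abbrev LD3_c9 := D3.c9
abbrev LD3_c10 := D3.c10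
abbrev LD3_c11 := D3.c11
abbrev LD3_c12 := D3.c12
abbrev LD3_c13 := D3.c13
abbrev LD3_c14 := D3.c14
abbrev LD3_c15 := D3.c15
abbrev LD3_c16 := D3.c16
abbrev LD3_c17 := D3.c17
abbrev LD3_c18 := D3.c18
abbrev LD3_c19 := D3.c19
abbrev LD3_c20 := D3.c20
abbrev LD3_c21 := D3.c21
abbrev LD3_c22 := D3.c22
abbrev LD3_c23 := D3.c23
abbrev LD3_c24 := D3.c24
abbrev LD3_c25 := D3.c25
abbrev LD3_c26 := D3.c26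
abbrev LD3_c27 := D3.c27
abbrev LD3_c28 := D3.c28
abbrev LD3_c29 := D3.c29
abbrev LD3_c30 := D3.c30
abbrev LD3_c31 := D3.c31
abbrev LD3_c32 := D3.c32
abbrev LD3_c33 := D3.c33
abbrev LD3_c34 := D3.c34
abbrev LD3_c35 := D3.c35
abbrev LD3_c36 := D3.c36
abbrev LD3_c37 := D3.c37
abbrev LD3_c38 := D3.c38
abbrev LD3_c39 := D3.c39
abbrev LD3_c40 := D3.c40
abbrev LD3_c41 := D3.c41
abbrev LD3_c42 := D3.c42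
abbrev LD3_c43 := D3.c43
abbrev LD3_c44 := D3.c44
abbrev LD3_c45 := D3.c45
abbrev LD3_c46 := D3.c46
abbrev LD3_c47 := D3.c47
abbrev LD3_c48 := D3.c48
abbrev LD3_c49 := D3.c49
abbrev LD3_c50 := D3.c50
abbrev LD3_c51 := D3.c51
abbrev LD3_c52 := D3.c52
abbrev LD3_c53 := D3.c53
abbrev LD3_c54 := D3.c54
abbrev LD3_c55 := D3.c55
abbrev LD3_c56 := D3.c56
abbrev LD3_c57 := D3.c57
abbrev LD3_c58 := D3.c58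
abbrev LD3_c59 := D3.c59
abbrev LD3_c60 := D3.c60
abbrev LD3_c61 := D3.c61
abbrev LG_g := Gen.g
abbrev Lsl_gt : Gen × Bool := sl_gt
alias Lfl_gt := fl_gt
alias Lpr_gt := pr_gt
abbrev Lsl_gf : Gen × Bool := sl_gf
alias Lfl_gf := fl_gf
alias Lpr_gf := pr_gf
alias Lre_g := re_g
alias Leoe_g := eoe_g
abbrev LG_a := Gen.a
abbrev Lsl_at : Gen × Bool := sl_at
alias Lfl_at := fl_at
alias Lpr_at := pr_at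
abbrev Lsl_af : Gen × Bool := sl_af
alias Lfl_af := fl_af
alias Lpr_af := pr_af
alias Lre_a := re_a
alias Leoe_a := eoe_a
abbrev LG_b := Gen.b
abbrev Lsl_bt : Gen × Bool := sl_bt
alias Lfl_bt := fl_bt
alias Lpr_bt := pr_bt
abbrev Lsl_bf : Gen × Bool := sl_bf
alias Lfl_bf := fl_bf
alias Lpr_bf := pr_bf
alias Lre_b := re_b
alias Leoe_b := eoe_b
abbrev LG_c := Gen.c
abbrev Lsl_ct : Gen × Bool := sl_ct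
alias Lfl_ct := fl_ct
alias Lpr_ct := pr_ct
abbrev Lsl_cf : Gen × Bool := sl_cf
alias Lfl_cf := fl_cf
alias Lpr_cf := pr_cf
alias Lre_c := re_c
alias Leoe_c := eoe_c
abbrev LG_d := Gen.d
abbrev Lsl_dt : Gen × Bool := sl_dt
alias Lfl_dt := fl_dt
alias Lpr_dt := pr_dt
abbrev Lsl_df : Gen × Bool := sl_df
alias Lfl_df := fl_df
alias Lpr_df := pr_df
alias Lre_d := re_d
alias Leoe_d := eoe_d
abbrev LG_e := Gen.e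
abbrev Lsl_et : Gen × Bool := sl_et
alias Lfl_et := fl_et
alias Lpr_et := pr_et
abbrev Lsl_ef : Gen × Bool := sl_ef
alias Lfl_ef := fl_ef
alias Lpr_ef := pr_ef
alias Lre_e := re_e
alias Leoe_e := eoe_e
abbrev LG_f := Gen.f
abbrev Lsl_ft : Gen × Bool := sl_ft
alias Lfl_ft := fl_ft
alias Lpr_ft := pr_ft
abbrev Lsl_ff : Gen × Bool := sl_ff
alias Lfl_ff := fl_ff
alias Lpr_ff := pr_ff
alias Lre_f := re_f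
alias Leoe_f := eoe_f
abbrev LK := Pt.mk
abbrev LQ : Type := Qt rels S
abbrev LP (p : Pt) : LQ := P p
abbrev Led (l : Gen × Bool) (c : LQ) : LQ := ed l c
abbrev LEOK (x : Gen) (p : Pt) : Prop := EntryOK rels S fwd inv o plet idx x p
alias Lpe := pe
alias Lpn := pn
alias Lgr := gr
alias Lpq := pq
alias Lpqs := pqs
alias Llr := lr
alias Leop := eop
alias Lefun := efun
alias Lecon := econ
theorem Lrfl {α : Sort _} {a : α} : a = a := rfl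
alias Lrot0 := rot0
alias Lrot1 := rot1
alias Lrot2 := rot2
alias Lrot3 := rot3
alias Lrot4 := rot4
alias Lrot5 := rot5
alias Lrot6 := rot6
alias Lrot7 := rot7
alias Lrot8 := rot8
alias Lrot9 := rot9
alias Lrot10 := rot10
alias Lrot11 := rot11
alias Lrot12 := rot12
alias Lrot13 := rot13
alias Lrot14 := rot14
alias Lrot15 := rot15
alias Lrot17 := rot17
alias Lrot18 := rot18
alias Lrot19 := rot19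
alias Lrot20 := rot20
alias Lrot21 := rot21
alias Lrot22 := rot22
alias Lrot23 := rot23
alias Lrot24 := rot24
alias Lrot25 := rot25
alias Lrot26 := rot26
alias Lrot27 := rot27
alias Lrot28 := rot28
alias Lrot29 := rot29
alias Lrot30 := rot30
alias Lrot31 := rot31
alias Lrot32 := rot32
alias Lrot34 := rot34
alias Lrot35 := rot35
alias Lrot36 := rot36
alias Lrot37 := rot37
alias Lrot38 := rot38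
alias Lrot39 := rot39
alias Lrot40 := rot40
alias Lrot42 := rot42
alias Lrot44 := rot44
alias Lrot45 := rot45
alias Lrot46 := rot46
alias Lrot47 := rot47
alias Lrot48 := rot48
alias Lrot49 := rot49
alias Lrot50 := rot50
alias Lrot51 := rot51
alias Lrot52 := rot52
alias Lrot54 := rot54
alias Lrot56 := rot56
alias Lrot57 := rot57
alias Lrot58 := rot58
alias Lrot59 := rot59
alias Lrot60 := rot60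
alias Lrot61 := rot61
alias Lrot62 := rot62
alias Lrot63 := rot63
alias Lrot64 := rot64
alias Lrot65 := rot65
alias Lrot66 := rot66
alias Lrot67 := rot67
alias Lrot68 := rot68
alias Lrot69 := rot69
alias Lrot70 := rot70
alias Lrot71 := rot71
alias Lrot72 := rot72
alias Lrot73 := rot73
alias Lrot74 := rot74
alias Lrot75 := rot75
alias Lrot76 := rot76
alias Lrot77 := rot77
alias Lrot78 := rot78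
alias Lrot79 := rot79
alias Lrot80 := rot80
alias Lrot81 := rot81
alias Lrot82 := rot82
alias Lrot83 := rot83
alias Lrot84 := rot84
alias Lrot86 := rot86
alias Lrot87 := rot87
alias Lrot88 := rot88
alias Lrot89 := rot89
alias Lrot90 := rot90
alias Lrot91 := rot91
alias Lrot92 := rot92
alias Lrot93 := rot93
alias Lrot94 := rot94
alias Lrot95 := rot95
alias Lrot96 := rot96
alias Lrot97 := rot97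
alias Lrot98 := rot98
alias Lrot99 := rot99
alias Lrot100 := rot100
alias Lrot101 := rot101
alias Lrot102 := rot102
alias Lrot104 := rot104
alias Lrot105 := rot105
alias Lrot107 := rot107
alias Lrot108 := rot108
alias Lrot109 := rot109
alias Lrot110 := rot110
alias Lrot111 := rot111
alias Lrot112 := rot112
alias Lrot113 := rot113
alias Lrot114 := rot114
alias Lrot116 := rot116
alias Lrot117 := rot117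
alias Lrot118 := rot118
alias Lrot119 := rot119
alias Lrot120 := rot120
alias Lrot121 := rot121
alias Lrot122 := rot122
alias Lrot123 := rot123
alias Lrot124 := rot124
alias Lrot125 := rot125
alias Lrot126 := rot126
alias Lrot127 := rot127
alias Lrot128 := rot128
alias Lrot129 := rot129
alias Lrot130 := rot130
alias Lrot131 := rot131
alias Lrot132 := rot132
alias Lrot134 := rot134
alias Lrot135 := rot135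
alias Lrot136 := rot136
alias Lrot137 := rot137
alias Lrot138 := rot138
alias Lrot139 := rot139
alias Lrot140 := rot140
alias Lrot141 := rot141
alias Lrot142 := rot142
alias Lrot143 := rot143
alias Lrot144 := rot144
alias Lrot145 := rot145
alias Lrot147 := rot147
alias Lrot148 := rot148
alias Lrot149 := rot149
alias Lrot150 := rot150
alias Lrot152 := rot152
alias Lrot153 := rot153
alias Lrot154 := rot154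
alias Lrot155 := rot155
alias Lrot156 := rot156
alias Lrot158 := rot158
alias Lrot160 := rot160
alias Lrot161 := rot161
alias Lrot162 := rot162
alias Lrot163 := rot163
alias Lrot164 := rot164
alias Lrot165 := rot165
alias Lrot166 := rot166
alias Lrot168 := rot168
alias Lrot169 := rot169
alias Lrot170 := rot170
alias Lrot171 := rot171
alias Lrot172 := rot172
alias Lrot173 := rot173
alias Lrot174 := rot174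
alias Lrot175 := rot175
alias Lrot177 := rot177
alias Lrot180 := rot180
alias Lrot181 := rot181
alias Lrot182 := rot182
alias Lrot183 := rot183
alias Lrot185 := rot185

section
variable (IH : IHT)
include IH

def v17073 : LQ := Led Lsl_at (LP (LK LD1_c6 LD2_c11 LD3_c11))
theorem f754926 : Led Lsl_at (LP (LK LD1_c6 LD2_c11 LD3_c11)) = v17073 :=
  Lrfl
theorem f646470 : Led Lsl_ct (LP (LK LD1_c3 LD2_c2 LD3_c12)) = (LP (LK LD1_c6 LD2_c11 LD3_c11)) :=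
  Lre_c IH (LK LD1_c3 LD2_c2 LD3_c12) (LK LD1_c6 LD2_c11 LD3_c11) Lrfl Lrfl
theorem f502889 : Led Lsl_at (LP (LK LD1_c1 LD2_c27 LD3_c5)) = (LP (LK LD1_c3 LD2_c1 LD3_c44)) :=
  Lre_a IH (LK LD1_c1 LD2_c27 LD3_c5) (LK LD1_c3 LD2_c1 LD3_c44) Lrfl Lrfl
theorem f646456 : Led Lsl_af (LP (LK LD1_c3 LD2_c2 LD3_c12)) = K46.v5192 :=
  Lgr Lrot117 (Lpr_dt (K46.f504423 IH) (Lpr_at (f502889 IH) (Lpr_dt (K46.f646455 IH) (Lpn K46.v5192))))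
theorem f754928 : Led Lsl_cf K46.v5192 = v17073 :=
  Lgr Lrot1 (Lpe (f646456 IH) (Lpr_ct (f646470 IH) (Lpr_at (f754926 IH) (Lpn v17073))))
def v16998 : LQ := Led Lsl_dt (LP (LK LD1_c6 LD2_c10 LD3_c15))
theorem f754091 : Led Lsl_dt (LP (LK LD1_c6 LD2_c10 LD3_c15)) = v16998 :=
  Lrfl
theorem f754094 : Led Lsl_ff K46.v5192 = v16998 :=
  Lgr Lrot19 (Lpe (K46.f646457 IH) (Lpr_ft (K46.f646439 IH) (Lpr_dt (f754091 IH) (Lpn v16998))))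
theorem f754105 : Led Lsl_ft K46.v5192 = v16998 :=
  Lgr Lrot48 (Lpr_ff (f754094 IH) (Lpn v16998))
theorem f646458 : Led Lsl_ft (LP (LK LD1_c6 LD2_c10 LD3_c15)) = (LP (LK LD1_c3 LD2_c1 LD3_c44)) :=
  Lre_f IH (LK LD1_c6 LD2_c10 LD3_c15) (LK LD1_c3 LD2_c1 LD3_c44) Lrfl Lrfl
theorem f453893 : Led Lsl_ct (LP (LK LD1_c0 LD2_c44 LD3_c21)) = (LP (LK LD1_c0 LD2_c19 LD3_c46)) :=
  Lre_c IH (LK LD1_c0 LD2_c44 LD3_c21) (LK LD1_c0 LD2_c19 LD3_c46) Lrfl Lrfl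
theorem f508922 : Led Lsl_dt (LP (LK LD1_c6 LD2_c40 LD3_c32)) = (LP (LK LD1_c3 LD2_c18 LD3_c16)) :=
  Lre_d IH (LK LD1_c6 LD2_c40 LD3_c32) (LK LD1_c3 LD2_c18 LD3_c16) Lrfl Lrfl
theorem f754095 : Led Lsl_cf (LP (LK LD1_c6 LD2_c40 LD3_c32)) = v16998 :=
  Lgr Lrot118 (Lpr_dt (f508922 IH) (Lpr_ct (K32.f508894 IH) (Lpr_dt (K32.f454786 IH) (Lpr_ct (f453893 IH) (Lpr_dt (K24.f66027 IH) (Lpr_ct (K51.f413548 IH) (Lpe (K56.f646454 IH) (Lpe (f646458 IH) (Lpr_dt (f754091 IH) (Lpn v16998))))))))))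
theorem f754930 : Led Lsl_ft (LP (LK LD1_c6 LD2_c40 LD3_c32)) = v17073 :=
  Lgr Lrot4 (Lpr_cf (f754095 IH) (Lpe (f754105 IH) (Lpr_cf (f754928 IH) (Lpn v17073))))
theorem f754927 : Led Lsl_af (LP (LK LD1_c6 LD2_c11 LD3_c11)) = v17073 :=
  Lgr Lrot0 (Lpr_at (f754926 IH) (Lpn v17073))
theorem f646583 : Led Lsl_gt (LP (LK LD1_c12 LD2_c2 LD3_c42)) = (LP (LK LD1_c6 LD2_c11 LD3_c11)) :=
  Lre_g IH (LK LD1_c12 LD2_c2 LD3_c42) (LK LD1_c6 LD2_c11 LD3_c11) Lrfl Lrfl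
theorem f754939 : Led Lsl_gt (LP (LK LD1_c6 LD2_c40 LD3_c32)) = (LP (LK LD1_c12 LD2_c2 LD3_c42)) :=
  Lgr Lrot5 (Lpr_ft (f754930 IH) (Lpe (f754927 IH) (Lpe (f646583 IH) (Lpn (LP (LK LD1_c12 LD2_c2 LD3_c42))))))
theorem f754940 : Led Lsl_gt (LP (LK LD1_c6 LD2_c40 LD3_c32)) = (LP (LK LD1_c12 LD2_c2 LD3_c42)) :=
  Leop (Lpe (f754939 IH) (Lpn (LP (LK LD1_c6 LD2_c40 LD3_c32))))
theorem seed_1116 : LEOK LG_g (LK LD1_c6 LD2_c40 LD3_c32) :=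
  Leoe_g (LK LD1_c6 LD2_c40 LD3_c32) (f754940 IH)
def v17075 : LQ := Led Lsl_dt (LP (LK LD1_c6 LD2_c11 LD3_c11))
theorem f754952 : Led Lsl_dt (LP (LK LD1_c6 LD2_c11 LD3_c11)) = v17075 :=
  Lrfl
theorem f646561 : Led Lsl_ct (LP (LK LD1_c3 LD2_c2 LD3_c10)) = (LP (LK LD1_c6 LD2_c11 LD3_c7)) :=
  Lre_c IH (LK LD1_c3 LD2_c2 LD3_c10) (LK LD1_c6 LD2_c11 LD3_c7) Lrfl Lrfl
theorem f651184 : Led Lsl_gf K56.v2614 = K46.v6113 :=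
  Lgr Lrot47 (Lpe (K56.f527787 IH) (Lpr_af (K5.f130889 IH) (Lpr_ff (K46.f651178 IH) (Lpn K46.v6113))))
theorem f650524 : Led Lsl_dt K46.v5218 = K46.v6011 :=
  Lgr Lrot42 (Lpr_df (K46.f650523 IH) (Lpn K46.v6011))
theorem f754097 : Led Lsl_gf K46.v5218 = v16998 :=
  Lgr Lrot143 (Lpr_dt (f650524 IH) (Lpe (K56.f650522 IH) (Lpe (K56.f416459 IH) (Lpq (K56.f634285 IH) (Lpr_gf (f651184 IH) (Lpe (K46.f651181 IH) (Lpe (K46.f649363 IH) (Lpq (K46.f649454 IH) (Lpe (f646561 IH) (Lpr_gt (K46.f443695 IH) (Lpr_dt (f754091 IH) (Lpn v16998))))))))))))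
theorem f654171 : Led Lsl_af K46.v5218 = K46.v6123 :=
  Lgr Lrot117 (Lpr_dt (f650524 IH) (Lpq (K46.f654019 IH) (Lpe (K56.f651354 IH) (Lpr_dt (K46.f651357 IH) (Lpn K46.v6123)))))
def v5789 : LQ := Led Lsl_gf (LP (LK LD1_c3 LD2_c13 LD3_c25))
theorem f649354 : Led Lsl_gf (LP (LK LD1_c3 LD2_c13 LD3_c25)) = v5789 :=
  Lrfl
theorem f209019 : Led Lsl_bf (LP (LK LD1_c3 LD2_c45 LD3_c22)) = (LP (LK LD1_c6 LD2_c52 LD3_c45)) :=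
  Lgr Lrot24 (Lpr_bt (K48.f209016 IH) (Lpn (LP (LK LD1_c6 LD2_c52 LD3_c45))))
theorem f649355 : Led Lsl_gt (LP (LK LD1_c3 LD2_c45 LD3_c22)) = v5789 :=
  Lgr Lrot5 (Lpr_ft (K46.f130985 IH) (Lpe (K34.f130960 IH) (Lpr_gf (f649354 IH) (Lpn v5789))))
theorem f413547 : Led Lsl_bt (LP (LK LD1_c0 LD2_c40 LD3_c20)) = (LP (LK LD1_c0 LD2_c18 LD3_c5)) :=
  Lre_b IH (LK LD1_c0 LD2_c40 LD3_c20) (LK LD1_c0 LD2_c18 LD3_c5) Lrfl Lrfl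
theorem f649431 : v5789 = (LP (LK LD1_c6 LD2_c11 LD3_c9)) :=
  (Llr Lrot82 (Lpe (f649355 IH) (Lpr_bf (f209019 IH) (Lpr_ct (K51.f649415 IH) (Lpe (K46.f502936 IH) (Lpe (K46.f414633 IH) (Lpr_bt (K46.f414632 IH) (Lpe (K16.f59833 IH) (Lpe (f413547 IH) (Lpr_ct (K51.f413548 IH) (Lpe (K56.f87361 IH) (Lpe (K56.f413549 IH) (Lpn (LP (LK LD1_c6 LD2_c11 LD3_c9))))))))))))))).symm
def v5217 : LQ := Led Lsl_gt (LP (LK LD1_c3 LD2_c2 LD3_c12))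
theorem f646582 : Led Lsl_gt (LP (LK LD1_c3 LD2_c2 LD3_c12)) = v5217 :=
  Lrfl
theorem f654203 : Led Lsl_dt v5217 = (LP (LK LD1_c6 LD2_c40 LD3_c12)) :=
  Lgr Lrot105 (Lpe (f646582 IH) (Lpe (K46.f63854 IH) (Lpe (K56.f87361 IH) (Lpe (K56.f413549 IH) (Lpq (f649431 IH) (Lpe (f649354 IH) (Lpe (K34.f105636 IH) (Lpr_gt (K46.f527786 IH) (Lpq (K46.f649461 IH) (Lpr_dt (K56.f508989 IH) (Lpr_cf (K49.f654201 IH) (Lpn (LP (LK LD1_c6 LD2_c40 LD3_c12))))))))))))))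
theorem f654207 : Led Lsl_ff v5217 = K46.v6123 :=
  Lgr Lrot19 (Lpr_dt (f654203 IH) (Lpr_ft (K46.f508809 IH) (Lpr_dt (K46.f651357 IH) (Lpn K46.v6123))))
theorem f654208 : Led Lsl_ft v5217 = K46.v6123 :=
  Lgr Lrot48 (Lpr_ff (f654207 IH) (Lpn K46.v6123))
theorem f754099 : Led Lsl_gt v5217 = v16998 :=
  Lgr Lrot5 (Lpr_ft (f654208 IH) (Lpe (f654171 IH) (Lpr_gf (f754097 IH) (Lpn v16998))))
theorem f62140 : Led Lsl_dt (LP (LK LD1_c3 LD2_c18 LD3_c38)) = (LP (LK LD1_c6 LD2_c41 LD3_c12)) :=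
  Lre_d IH (LK LD1_c3 LD2_c18 LD3_c38) (LK LD1_c6 LD2_c41 LD3_c12) Lrfl Lrfl
theorem f754943 : Led Lsl_cf (LP (LK LD1_c6 LD2_c41 LD3_c12)) = (LP (LK LD1_c12 LD2_c2 LD3_c42)) :=
  Lgr Lrot99 (Lpe (f62140 IH) (Lpe (K49.f62119 IH) (Lpe (K32.f508997 IH) (Lpe (K49.f508999 IH) (Lpe (K46.f654175 IH) (Lpe (f654203 IH) (Lpr_gt (f754099 IH) (Lpe (f754095 IH) (Lpr_gt (f754939 IH) (Lpn (LP (LK LD1_c12 LD2_c2 LD3_c42))))))))))))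
theorem f62134 : Led Lsl_dt (LP (LK LD1_c6 LD2_c41 LD3_c12)) = (LP (LK LD1_c3 LD2_c18 LD3_c38)) :=
  Lre_d IH (LK LD1_c6 LD2_c41 LD3_c12) (LK LD1_c3 LD2_c18 LD3_c38) Lrfl Lrfl
theorem f62094 : Led Lsl_ct (LP (LK LD1_c3 LD2_c18 LD3_c38)) = (LP (LK LD1_c1 LD2_c35 LD3_c44)) :=
  Lre_c IH (LK LD1_c3 LD2_c18 LD3_c38) (LK LD1_c1 LD2_c35 LD3_c44) Lrfl Lrfl
theorem f66033 : Led Lsl_dt (LP (LK LD1_c1 LD2_c35 LD3_c43)) = (LP (LK LD1_c3 LD2_c18 LD3_c36)) :=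
  Lre_d IH (LK LD1_c1 LD2_c35 LD3_c43) (LK LD1_c3 LD2_c18 LD3_c36) Lrfl Lrfl
theorem f508870 : Led Lsl_ct (LP (LK LD1_c3 LD2_c18 LD3_c36)) = (LP (LK LD1_c6 LD2_c41 LD3_c6)) :=
  Lre_c IH (LK LD1_c3 LD2_c18 LD3_c36) (LK LD1_c6 LD2_c41 LD3_c6) Lrfl Lrfl
def v17072 : LQ := Led Lsl_gt (LP (LK LD1_c6 LD2_c11 LD3_c11))
theorem f754918 : Led Lsl_gt (LP (LK LD1_c6 LD2_c11 LD3_c11)) = v17072 :=
  Lrfl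
theorem f678620 : Led Lsl_af (LP (LK LD1_c6 LD2_c40 LD3_c54)) = (LP (LK LD1_c6 LD2_c38 LD3_c3)) :=
  Lgr Lrot45 (Lpr_ft (K49.f678619 IH) (Lpe (K49.f678617 IH) (Lpe (K49.f678554 IH) (Lpn (LP (LK LD1_c6 LD2_c38 LD3_c3))))))
theorem f678627 : Led Lsl_gt K46.v6011 = (LP (LK LD1_c6 LD2_c40 LD3_c54)) :=
  Lgr Lrot46 (Lpe (K46.f650525 IH) (Lpe (K49.f678554 IH) (Lpe (f678620 IH) (Lpn (LP (LK LD1_c6 LD2_c40 LD3_c54))))))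
theorem f508991 : Led Lsl_ct (LP (LK LD1_c6 LD2_c40 LD3_c54)) = (LP (LK LD1_c3 LD2_c18 LD3_c27)) :=
  Lre_c IH (LK LD1_c6 LD2_c40 LD3_c54) (LK LD1_c3 LD2_c18 LD3_c27) Lrfl Lrfl
theorem f130875 : Led Lsl_ct (LP (LK LD1_c1 LD2_c35 LD3_c41)) = (LP (LK LD1_c3 LD2_c18 LD3_c28)) :=
  Lre_c IH (LK LD1_c1 LD2_c35 LD3_c41) (LK LD1_c3 LD2_c18 LD3_c28) Lrfl Lrfl
def v6155 : LQ := Led Lsl_dt (LP (LK LD1_c3 LD2_c18 LD3_c28))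
theorem f651543 : Led Lsl_dt (LP (LK LD1_c3 LD2_c18 LD3_c28)) = v6155 :=
  Lrfl
theorem f754919 : Led Lsl_cf v6155 = v17072 :=
  Lgr Lrot99 (Lpe (f651543 IH) (Lpe (f130875 IH) (Lpe (K32.f453908 IH) (Lpe (f508991 IH) (Lpe (f678627 IH) (Lpe (f650524 IH) (Lpe (K46.f646584 IH) (Lpr_ct (f646470 IH) (Lpr_gt (f754918 IH) (Lpn v17072))))))))))
theorem f651544 : Led Lsl_df (LP (LK LD1_c3 LD2_c18 LD3_c28)) = v6155 :=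
  Lgr Lrot38 (Lpr_dt (f651543 IH) (Lpn v6155))
theorem f130877 : Led Lsl_ct (LP (LK LD1_c3 LD2_c18 LD3_c28)) = (LP (LK LD1_c1 LD2_c35 LD3_c41)) :=
  Lre_c IH (LK LD1_c3 LD2_c18 LD3_c28) (LK LD1_c1 LD2_c35 LD3_c41) Lrfl Lrfl
theorem f754922 : Led Lsl_dt (LP (LK LD1_c6 LD2_c41 LD3_c6)) = v17072 :=
  Lgr Lrot140 (Lpe (f508870 IH) (Lpe (f66033 IH) (Lpe (K5.f66031 IH) (Lpe (K32.f62084 IH) (Lpr_ft (K32.f508984 IH) (Lpe (K32.f508981 IH) (Lpe (f130877 IH) (Lpr_df (f651544 IH) (Lpr_cf (f754919 IH) (Lpn v17072))))))))))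
theorem f508853 : Led Lsl_dt (LP (LK LD1_c1 LD2_c35 LD3_c40)) = (LP (LK LD1_c3 LD2_c18 LD3_c25)) :=
  Lre_d IH (LK LD1_c1 LD2_c35 LD3_c40) (LK LD1_c3 LD2_c18 LD3_c25) Lrfl Lrfl
theorem f508854 : Led Lsl_ct (LP (LK LD1_c3 LD2_c18 LD3_c25)) = (LP (LK LD1_c6 LD2_c40 LD3_c51)) :=
  Lre_c IH (LK LD1_c3 LD2_c18 LD3_c25) (LK LD1_c6 LD2_c40 LD3_c51) Lrfl Lrfl
theorem f754947 : Led Lsl_dt (LP (LK LD1_c6 LD2_c40 LD3_c51)) = (LP (LK LD1_c12 LD2_c2 LD3_c42)) :=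
  Lgr Lrot173 (Lpe (f508854 IH) (Lpe (f508853 IH) (Lpe (K32.f414627 IH) (Lpe (K5.f130806 IH) (Lpe (f130877 IH) (Lpr_df (f651544 IH) (Lpr_cf (f754919 IH) (Lpe (f754922 IH) (Lpe (f508870 IH) (Lpe (f66033 IH) (Lpe (K5.f66031 IH) (Lpe (K32.f62084 IH) (Lpe (f62094 IH) (Lpe (f62134 IH) (Lpr_cf (f754943 IH) (Lpn (LP (LK LD1_c12 LD2_c2 LD3_c42))))))))))))))))))
theorem f416436 : Led Lsl_dt (LP (LK LD1_c3 LD2_c18 LD3_c12)) = (LP (LK LD1_c1 LD2_c35 LD3_c35)) :=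
  Lre_d IH (LK LD1_c3 LD2_c18 LD3_c12) (LK LD1_c1 LD2_c35 LD3_c35) Lrfl Lrfl
theorem f453903 : Led Lsl_ct (LP (LK LD1_c6 LD2_c40 LD3_c51)) = (LP (LK LD1_c3 LD2_c18 LD3_c25)) :=
  Lre_c IH (LK LD1_c6 LD2_c40 LD3_c51) (LK LD1_c3 LD2_c18 LD3_c25) Lrfl Lrfl
theorem f651314 : Led Lsl_ct (LP (LK LD1_c6 LD2_c40 LD3_c9)) = (LP (LK LD1_c12 LD2_c46 LD3_c11)) :=
  Lre_c IH (LK LD1_c6 LD2_c40 LD3_c9) (LK LD1_c12 LD2_c46 LD3_c11) Lrfl Lrfl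
theorem f651315 : Led Lsl_gf (LP (LK LD1_c6 LD2_c40 LD3_c51)) = (LP (LK LD1_c12 LD2_c46 LD3_c11)) :=
  Lgr Lrot104 (Lpr_ct (f453903 IH) (Lpe (f508853 IH) (Lpe (K32.f414627 IH) (Lpe (K5.f62968 IH) (Lpe (f453893 IH) (Lpe (K46.f65263 IH) (Lpe (f416436 IH) (Lpr_gt (K46.f651307 IH) (Lpr_ct (f651314 IH) (Lpn (LP (LK LD1_c12 LD2_c46 LD3_c11))))))))))))
theorem f651317 : Led Lsl_ct (LP (LK LD1_c12 LD2_c46 LD3_c11)) = (LP (LK LD1_c6 LD2_c40 LD3_c9)) :=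
  Lre_c IH (LK LD1_c12 LD2_c46 LD3_c11) (LK LD1_c6 LD2_c40 LD3_c9) Lrfl Lrfl
theorem f508794 : Led Lsl_dt (LP (LK LD1_c3 LD2_c18 LD3_c8)) = (LP (LK LD1_c1 LD2_c35 LD3_c34)) :=
  Lre_d IH (LK LD1_c3 LD2_c18 LD3_c8) (LK LD1_c1 LD2_c35 LD3_c34) Lrfl Lrfl
theorem f508855 : Led Lsl_dt (LP (LK LD1_c3 LD2_c16 LD3_c22)) = (LP (LK LD1_c6 LD2_c36 LD3_c8)) :=
  Lre_d IH (LK LD1_c3 LD2_c16 LD3_c22) (LK LD1_c6 LD2_c36 LD3_c8) Lrfl Lrfl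
theorem f754957 : Led Lsl_ct (LP (LK LD1_c6 LD2_c36 LD3_c8)) = v17075 :=
  Lgr Lrot7 (Lpe (f508855 IH) (Lpe (K46.f495074 IH) (Lpe (f508794 IH) (Lpe (K46.f649463 IH) (Lpe (f651317 IH) (Lpe (f651315 IH) (Lpr_dt (f754947 IH) (Lpr_gt (f646583 IH) (Lpr_dt (f754952 IH) (Lpn v17075))))))))))
theorem f646459 : Led Lsl_ft (LP (LK LD1_c3 LD2_c16 LD3_c21)) = (LP (LK LD1_c6 LD2_c36 LD3_c8)) :=
  Lre_f IH (LK LD1_c3 LD2_c16 LD3_c21) (LK LD1_c6 LD2_c36 LD3_c8) Lrfl Lrfl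
theorem f624301 : Led Lsl_ct (LP (LK LD1_c6 LD2_c36 LD3_c7)) = (LP (LK LD1_c3 LD2_c16 LD3_c21)) :=
  Lre_c IH (LK LD1_c6 LD2_c36 LD3_c7) (LK LD1_c3 LD2_c16 LD3_c21) Lrfl Lrfl
theorem f754959 : Led Lsl_ff (LP (LK LD1_c6 LD2_c36 LD3_c7)) = v17075 :=
  Lgr Lrot23 (Lpr_ct (f624301 IH) (Lpr_ft (f646459 IH) (Lpr_ct (f754957 IH) (Lpn v17075))))
theorem f754968 : Led Lsl_ft (LP (LK LD1_c6 LD2_c36 LD3_c7)) = v17075 :=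
  Lgr Lrot48 (Lpr_ff (f754959 IH) (Lpn v17075))
theorem f113046 : Led Lsl_gt (LP (LK LD1_c6 LD2_c36 LD3_c7)) = (LP (LK LD1_c12 LD2_c38 LD3_c21)) :=
  Lre_g IH (LK LD1_c6 LD2_c36 LD3_c7) (LK LD1_c12 LD2_c38 LD3_c21) Lrfl Lrfl
theorem f646586 : Led Lsl_ft (LP (LK LD1_c3 LD2_c2 LD3_c13)) = (LP (LK LD1_c1 LD2_c27 LD3_c5)) :=
  Lre_f IH (LK LD1_c3 LD2_c2 LD3_c13) (LK LD1_c1 LD2_c27 LD3_c5) Lrfl Lrfl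
theorem f646587 : Led Lsl_df (LP (LK LD1_c3 LD2_c2 LD3_c13)) = K56.v5219 :=
  Lgr Lrot78 (Lpr_ft (f646586 IH) (Lpr_dt (K46.f63854 IH) (Lpr_ft (K56.f646585 IH) (Lpn K56.v5219))))
theorem f113054 : Led Lsl_ct (LP (LK LD1_c3 LD2_c18 LD3_c17)) = (LP (LK LD1_c6 LD2_c40 LD3_c33)) :=
  Lre_c IH (LK LD1_c3 LD2_c18 LD3_c17) (LK LD1_c6 LD2_c40 LD3_c33) Lrfl Lrfl
theorem f754931 : Led Lsl_dt (LP (LK LD1_c6 LD2_c40 LD3_c33)) = v17073 :=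
  Lgr Lrot120 (Lpe (f113054 IH) (Lpe (K48.f113049 IH) (Lpe (K46.f414280 IH) (Lpe (K24.f62171 IH) (Lpe (K46.f414290 IH) (Lpr_df (f646587 IH) (Lpe (K56.f646588 IH) (Lpr_at (K56.f646461 IH) (Lpr_cf (f754928 IH) (Lpn v17073))))))))))
theorem f754953 : Led Lsl_af (LP (LK LD1_c6 LD2_c40 LD3_c33)) = v17075 :=
  Lgr Lrot117 (Lpr_dt (f754931 IH) (Lpe (f754927 IH) (Lpr_dt (f754952 IH) (Lpn v17075))))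
theorem f754971 : Led Lsl_gt (LP (LK LD1_c12 LD2_c38 LD3_c21)) = (LP (LK LD1_c6 LD2_c40 LD3_c33)) :=
  Lgr Lrot46 (Lpe (f113046 IH) (Lpr_ft (f754968 IH) (Lpe (f754953 IH) (Lpn (LP (LK LD1_c6 LD2_c40 LD3_c33))))))
theorem f754972 : Led Lsl_gt (LP (LK LD1_c12 LD2_c38 LD3_c21)) = (LP (LK LD1_c6 LD2_c40 LD3_c33)) :=
  Leop (Lpe (f754971 IH) (Lpn (LP (LK LD1_c12 LD2_c38 LD3_c21))))
theorem seed_1117 : LEOK LG_g (LK LD1_c12 LD2_c38 LD3_c21) :=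
  Leoe_g (LK LD1_c12 LD2_c38 LD3_c21) (f754972 IH)
def v17086 : LQ := Led Lsl_dt (LP (LK LD1_c6 LD2_c11 LD3_c19))
theorem f755021 : Led Lsl_dt (LP (LK LD1_c6 LD2_c11 LD3_c19)) = v17086 :=
  Lrfl
theorem f755024 : Led Lsl_gf (LP (LK LD1_c6 LD2_c41 LD3_c12)) = v17086 :=
  Lgr Lrot143 (Lpr_dt (f62134 IH) (Lpe (K49.f62119 IH) (Lpe (K32.f62098 IH) (Lpe (K5.f62083 IH) (Lpe (K5.f62082 IH) (Lpe (K32.f62081 IH) (Lpe (K32.f502895 IH) (Lpr_gt (K46.f414639 IH) (Lpr_dt (f755021 IH) (Lpn v17086))))))))))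
def v8584 : LQ := Led Lsl_dt K49.v2103
theorem f671677 : Led Lsl_dt K49.v2103 = v8584 :=
  Lrfl
theorem f624369 : Led Lsl_at (LP (LK LD1_c3 LD2_c18 LD3_c38)) = K49.v2103 :=
  Lgr Lrot100 (Lpr_af (K49.f624368 IH) (Lpn K49.v2103))
theorem f671678 : Led Lsl_af (LP (LK LD1_c6 LD2_c41 LD3_c12)) = v8584 :=
  Lgr Lrot117 (Lpr_dt (f62134 IH) (Lpr_at (f624369 IH) (Lpr_dt (f671677 IH) (Lpn v8584))))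
theorem f671680 : Led Lsl_ff v6155 = v8584 :=
  Lgr Lrot19 (Lpe (f651544 IH) (Lpr_ft (K49.f624370 IH) (Lpr_dt (f671677 IH) (Lpn v8584))))
theorem f671682 : Led Lsl_ft v6155 = v8584 :=
  Lgr Lrot48 (Lpr_ff (f671680 IH) (Lpn v8584))
theorem f755025 : Led Lsl_gt v6155 = v17086 :=
  Lgr Lrot5 (Lpr_ft (f671682 IH) (Lpe (f671678 IH) (Lpr_gf (f755024 IH) (Lpn v17086))))
theorem f754921 : Led Lsl_ct v6155 = v17072 :=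
  Lgr Lrot59 (Lpr_cf (f754919 IH) (Lpn v17072))
theorem f624397 : Led Lsl_gt (LP (LK LD1_c12 LD2_c46 LD3_c9)) = (LP (LK LD1_c6 LD2_c41 LD3_c6)) :=
  Lre_g IH (LK LD1_c12 LD2_c46 LD3_c9) (LK LD1_c6 LD2_c41 LD3_c6) Lrfl Lrfl
theorem f624450 : Led Lsl_ct (LP (LK LD1_c12 LD2_c46 LD3_c9)) = (LP (LK LD1_c6 LD2_c40 LD3_c8)) :=
  Lre_c IH (LK LD1_c12 LD2_c46 LD3_c9) (LK LD1_c6 LD2_c40 LD3_c8) Lrfl Lrfl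
theorem f508819 : Led Lsl_ct (LP (LK LD1_c1 LD2_c35 LD3_c36)) = (LP (LK LD1_c3 LD2_c18 LD3_c16)) :=
  Lre_c IH (LK LD1_c1 LD2_c35 LD3_c36) (LK LD1_c3 LD2_c18 LD3_c16) Lrfl Lrfl
theorem f754924 : Led Lsl_gf (LP (LK LD1_c6 LD2_c40 LD3_c32)) = v17072 :=
  Lgr Lrot143 (Lpr_dt (f508922 IH) (Lpe (f508819 IH) (Lpe (K56.f87379 IH) (Lpe (K46.f65263 IH) (Lpe (f416436 IH) (Lpe (K46.f651340 IH) (Lpe (f624450 IH) (Lpr_gt (f624397 IH) (Lpr_dt (f754922 IH) (Lpn v17072))))))))))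
theorem f651416 : Led Lsl_gt (LP (LK LD1_c3 LD2_c18 LD3_c16)) = (LP (LK LD1_c6 LD2_c40 LD3_c29)) :=
  Lre_g IH (LK LD1_c3 LD2_c18 LD3_c16) (LK LD1_c6 LD2_c40 LD3_c29) Lrfl Lrfl
theorem f755022 : Led Lsl_df (LP (LK LD1_c6 LD2_c11 LD3_c19)) = v17086 :=
  Lgr Lrot38 (Lpr_dt (f755021 IH) (Lpn v17086))
theorem f646636 : Led Lsl_gf (LP (LK LD1_c3 LD2_c2 LD3_c19)) = (LP (LK LD1_c6 LD2_c11 LD3_c19)) :=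
  Lgr Lrot47 (Lpr_gt (K5.f130871 IH) (Lpe (K46.f207618 IH) (Lpr_ff (K46.f646627 IH) (Lpn (LP (LK LD1_c6 LD2_c11 LD3_c19))))))
theorem f502914 : Led Lsl_ct (LP (LK LD1_c12 LD2_c3 LD3_c0)) = (LP (LK LD1_c6 LD2_c11 LD3_c30)) :=
  Lre_c IH (LK LD1_c12 LD2_c3 LD3_c0) (LK LD1_c6 LD2_c11 LD3_c30) Lrfl Lrfl
theorem f755026 : Led Lsl_dt (LP (LK LD1_c6 LD2_c40 LD3_c29)) = (LP (LK LD1_c12 LD2_c3 LD3_c0)) :=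
  Lgr Lrot105 (Lpe (f651416 IH) (Lpe (f508922 IH) (Lpr_gf (f754924 IH) (Lpe (f754921 IH) (Lpr_gt (f755025 IH) (Lpe (f755022 IH) (Lpe (f646636 IH) (Lpr_dt (K49.f130878 IH) (Lpe (f502914 IH) (Lpn (LP (LK LD1_c12 LD2_c3 LD3_c0))))))))))))
theorem f755027 : Led Lsl_dt (LP (LK LD1_c6 LD2_c40 LD3_c29)) = (LP (LK LD1_c12 LD2_c3 LD3_c0)) :=
  Leop (Lpe (f755026 IH) (Lpn (LP (LK LD1_c6 LD2_c40 LD3_c29))))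
theorem seed_1118 : LEOK LG_d (LK LD1_c6 LD2_c40 LD3_c29) :=
  Leoe_d (LK LD1_c6 LD2_c40 LD3_c29) (f755027 IH)
def v17109 : LQ := Led Lsl_ct (LP (LK LD1_c6 LD2_c11 LD3_c33))
theorem f755125 : Led Lsl_ct (LP (LK LD1_c6 LD2_c11 LD3_c33)) = v17109 :=
  Lrfl
theorem f118603 : Led Lsl_ct (LP (LK LD1_c6 LD2_c35 LD3_c22)) = (LP (LK LD1_c3 LD2_c16 LD3_c0)) :=
  Lre_c IH (LK LD1_c6 LD2_c35 LD3_c22) (LK LD1_c3 LD2_c16 LD3_c0) Lrfl Lrfl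
theorem f755129 : Led Lsl_dt (LP (LK LD1_c12 LD2_c37 LD3_c10)) = v17109 :=
  Lgr Lrot113 (Lpe (K56.f113047 IH) (Lpe (K3.f63838 IH) (Lpr_gf (K56.f650491 IH) (Lpq (K56.f754656 IH) (Lpqs (K56.f651837 IH) (Lpr_ct (f118603 IH) (Lpr_gt (K46.f110220 IH) (Lpr_dt (K49.f103592 IH) (Lpr_gt (K46.f650441 IH) (Lpr_dt (K49.f650448 IH) (Lpr_ct (f755125 IH) (Lpn v17109))))))))))))
theorem f755128 : Led Lsl_ff K56.v9389 = v17109 :=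
  Lgr Lrot23 (Lpe (K56.f675682 IH) (Lpr_ft (K49.f678532 IH) (Lpr_ct (f755125 IH) (Lpn v17109))))
theorem f755131 : Led Lsl_ff (LP (LK LD1_c12 LD2_c37 LD3_c10)) = (LP (LK LD1_c6 LD2_c38 LD3_c34)) :=
  Lgr Lrot19 (Lpr_dt (f755129 IH) (Lpe (f755128 IH) (Lpe (K56.f675653 IH) (Lpn (LP (LK LD1_c6 LD2_c38 LD3_c34))))))
theorem f755132 : Led Lsl_ft (LP (LK LD1_c6 LD2_c38 LD3_c34)) = (LP (LK LD1_c12 LD2_c37 LD3_c10)) :=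
  Leop (Lpr_ff (f755131 IH) (Lpn (LP (LK LD1_c6 LD2_c38 LD3_c34))))
theorem seed_1119 : LEOK LG_f (LK LD1_c6 LD2_c38 LD3_c34) :=
  Leoe_f (LK LD1_c6 LD2_c38 LD3_c34) (f755132 IH)
theorem f508762 : Led Lsl_gt (LP (LK LD1_c3 LD2_c17 LD3_c34)) = (LP (LK LD1_c6 LD2_c38 LD3_c33)) :=
  Lre_g IH (LK LD1_c3 LD2_c17 LD3_c34) (LK LD1_c6 LD2_c38 LD3_c33) Lrfl Lrfl
theorem f755135 : Led Lsl_at (LP (LK LD1_c12 LD2_c37 LD3_c10)) = (LP (LK LD1_c6 LD2_c38 LD3_c33)) :=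
  Lgr Lrot26 (Lpr_ff (f755131 IH) (Lpr_gt (K56.f62226 IH) (Lpr_gt (f508762 IH) (Lpn (LP (LK LD1_c6 LD2_c38 LD3_c33))))))
theorem f118504 : Led Lsl_ct (LP (LK LD1_c3 LD2_c16 LD3_c2)) = (LP (LK LD1_c6 LD2_c35 LD3_c21)) :=
  Lre_c IH (LK LD1_c3 LD2_c16 LD3_c2) (LK LD1_c6 LD2_c35 LD3_c21) Lrfl Lrfl
theorem f118457 : Led Lsl_af (LP (LK LD1_c21 LD2_c42 LD3_c58)) = (LP (LK LD1_c12 LD2_c40 LD3_c5)) :=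
  Lgr Lrot0 (Lpr_at (K4.f118450 IH) (Lpn (LP (LK LD1_c12 LD2_c40 LD3_c5))))
theorem f118421 : Led Lsl_ft (LP (LK LD1_c6 LD2_c37 LD3_c5)) = (LP (LK LD1_c12 LD2_c40 LD3_c5)) :=
  Lre_f IH (LK LD1_c6 LD2_c37 LD3_c5) (LK LD1_c12 LD2_c40 LD3_c5) Lrfl Lrfl
theorem f119125 : Led Lsl_gt (LP (LK LD1_c6 LD2_c37 LD3_c5)) = (LP (LK LD1_c12 LD2_c40 LD3_c1)) :=
  Lre_g IH (LK LD1_c6 LD2_c37 LD3_c5) (LK LD1_c12 LD2_c40 LD3_c1) Lrfl Lrfl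
theorem f119126 : Led Lsl_gf (LP (LK LD1_c21 LD2_c42 LD3_c58)) = (LP (LK LD1_c12 LD2_c40 LD3_c1)) :=
  Lgr Lrot76 (Lpr_af (f118457 IH) (Lpe (f118421 IH) (Lpr_gt (f119125 IH) (Lpn (LP (LK LD1_c12 LD2_c40 LD3_c1))))))
theorem f754475 : Led Lsl_ct (LP (LK LD1_c6 LD2_c38 LD3_c33)) = (LP (LK LD1_c12 LD2_c40 LD3_c1)) :=
  Lgr Lrot152 (Lpe (f508762 IH) (Lpe (K56.f62215 IH) (Lpqs (K56.f754453 IH) (Lpe (K56.f650679 IH) (Lpr_ct (K56.f118508 IH) (Lpe (K46.f118506 IH) (Lpr_ct (f118504 IH) (Lpe (K4.f118470 IH) (Lpe (K4.f118480 IH) (Lpr_gf (f119126 IH) (Lpn (LP (LK LD1_c12 LD2_c40 LD3_c1)))))))))))))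
theorem f754480 : Led Lsl_cf (LP (LK LD1_c6 LD2_c38 LD3_c33)) = (LP (LK LD1_c12 LD2_c40 LD3_c1)) :=
  Lgr Lrot11 (Lpr_ct (f754475 IH) (Lpn (LP (LK LD1_c12 LD2_c40 LD3_c1))))
theorem f119128 : Led Lsl_dt (LP (LK LD1_c21 LD2_c46 LD3_c21)) = (LP (LK LD1_c12 LD2_c40 LD3_c1)) :=
  Lre_d IH (LK LD1_c21 LD2_c46 LD3_c21) (LK LD1_c12 LD2_c40 LD3_c1) Lrfl Lrfl
theorem f624096 : Led Lsl_dt (LP (LK LD1_c6 LD2_c37 LD3_c17)) = (LP (LK LD1_c12 LD2_c40 LD3_c22)) :=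
  Lre_d IH (LK LD1_c6 LD2_c37 LD3_c17) (LK LD1_c12 LD2_c40 LD3_c22) Lrfl Lrfl
theorem f755137 : Led Lsl_cf (LP (LK LD1_c21 LD2_c46 LD3_c21)) = (LP (LK LD1_c12 LD2_c40 LD3_c22)) :=
  Lgr Lrot161 (Lpr_dt (f119128 IH) (Lpe (f754480 IH) (Lpe (f755135 IH) (Lpr_ff (f755131 IH) (Lpr_dt (K56.f675654 IH) (Lpe (K56.f675682 IH) (Lpe (K49.f624094 IH) (Lpr_ct (K56.f624095 IH) (Lpr_dt (f624096 IH) (Lpn (LP (LK LD1_c12 LD2_c40 LD3_c22))))))))))))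
theorem f755138 : Led Lsl_ct (LP (LK LD1_c12 LD2_c40 LD3_c22)) = (LP (LK LD1_c21 LD2_c46 LD3_c21)) :=
  Leop (Lpr_cf (f755137 IH) (Lpn (LP (LK LD1_c12 LD2_c40 LD3_c22))))
theorem seed_1120 : LEOK LG_c (LK LD1_c12 LD2_c40 LD3_c22) :=
  Leoe_c (LK LD1_c12 LD2_c40 LD3_c22) (f755138 IH)
def v17110 : LQ := Led Lsl_ft (LP (LK LD1_c6 LD2_c11 LD3_c34))
theorem f755186 : Led Lsl_ft (LP (LK LD1_c6 LD2_c11 LD3_c34)) = v17110 :=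
  Lrfl
theorem f755190 : Led Lsl_ff (LP (LK LD1_c6 LD2_c11 LD3_c34)) = v17110 :=
  Lgr Lrot3 (Lpr_ft (f755186 IH) (Lpn v17110))
def v16977 : LQ := Led Lsl_dt (LP (LK LD1_c6 LD2_c9 LD3_c50))
theorem f753928 : Led Lsl_dt (LP (LK LD1_c6 LD2_c9 LD3_c50)) = v16977 :=
  Lrfl
theorem f443619 : Led Lsl_et (LP (LK LD1_c6 LD2_c9 LD3_c50)) = (LP (LK LD1_c3 LD2_c2 LD3_c20)) :=
  Lgr Lrot87 (Lpr_ef (K24.f443615 IH) (Lpn (LP (LK LD1_c3 LD2_c2 LD3_c20))))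
theorem f753933 : Led Lsl_gt K56.v6100 = v16977 :=
  Lgr Lrot112 (Lpe (K56.f651056 IH) (Lpe (K56.f650307 IH) (Lpe (K49.f624291 IH) (Lpe (K24.f453914 IH) (Lpr_dt (K46.f453913 IH) (Lpr_gf (K46.f624546 IH) (Lpr_df (K49.f651922 IH) (Lpe (K49.f646710 IH) (Lpe (f443619 IH) (Lpr_dt (f753928 IH) (Lpn v16977)))))))))))
theorem f753936 : Led Lsl_at (LP (LK LD1_c6 LD2_c11 LD3_c38)) = v16977 :=
  Lgr Lrot26 (Lpr_ff (K56.f663380 IH) (Lpr_gt (K56.f651057 IH) (Lpr_gt (f753933 IH) (Lpn v16977))))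
theorem f753931 : Led Lsl_ef (LP (LK LD1_c6 LD2_c11 LD3_c34)) = v16977 :=
  Lgr Lrot73 (Lpr_dt (K5.f130833 IH) (Lpr_et (K5.f130829 IH) (Lpr_dt (K32.f443618 IH) (Lpe (K24.f443615 IH) (Lpr_dt (f753928 IH) (Lpn v16977))))))
theorem f754297 : Led Lsl_at (LP (LK LD1_c6 LD2_c11 LD3_c34)) = K56.v17007 :=
  Lgr Lrot80 (Lpr_ef (f753931 IH) (Lpe (f753936 IH) (Lpr_ef (K56.f754293 IH) (Lpn K56.v17007))))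
theorem f62169 : Led Lsl_et (LP (LK LD1_c6 LD2_c10 LD3_c22)) = (LP (LK LD1_c3 LD2_c1 LD3_c46)) :=
  Lre_e IH (LK LD1_c6 LD2_c10 LD3_c22) (LK LD1_c3 LD2_c1 LD3_c46) Lrfl Lrfl
theorem f650700 : Led Lsl_dt K46.v2078 = K46.v6043 :=
  Lgr Lrot42 (Lpr_df (K46.f650699 IH) (Lpn K46.v6043))
theorem f754294 : Led Lsl_gt K46.v6043 = K56.v17007 :=
  Lgr Lrot112 (Lpe (f650700 IH) (Lpqs (K46.f651829 IH) (Lpr_et (K56.f624037 IH) (Lpe (K46.f624035 IH) (Lpr_ef (K46.f62102 IH) (Lpr_dt (K46.f62125 IH) (Lpe (K32.f62109 IH) (Lpe (K46.f62166 IH) (Lpe (K9.f62168 IH) (Lpe (f62169 IH) (Lpr_dt (K56.f754290 IH) (Lpn K56.v17007))))))))))))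
theorem f755194 : Led Lsl_gf K46.v6043 = v17110 :=
  Lgr Lrot47 (Lpr_gt (f754294 IH) (Lpe (f754297 IH) (Lpr_ff (f755190 IH) (Lpn v17110))))
theorem f650714 : Led Lsl_ff (LP (LK LD1_c3 LD2_c16 LD3_c54)) = K46.v6045 :=
  Lgr Lrot3 (Lpr_ft (K46.f650711 IH) (Lpn K46.v6045))
theorem f755195 : Led Lsl_gt K46.v6045 = v17110 :=
  Lgr Lrot5 (Lpe (f650714 IH) (Lpr_at (K46.f650697 IH) (Lpr_gf (f755194 IH) (Lpn v17110))))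
theorem f650718 : Led Lsl_dt K56.v2080 = K46.v6045 :=
  Lgr Lrot60 (Lpe (K56.f508728 IH) (Lpe (K46.f114227 IH) (Lpr_ff (f650714 IH) (Lpn K46.v6045))))
theorem f118591 : Led Lsl_dt (LP (LK LD1_c3 LD2_c16 LD3_c0)) = (LP (LK LD1_c6 LD2_c35 LD3_c23)) :=
  Lre_d IH (LK LD1_c3 LD2_c16 LD3_c0) (LK LD1_c6 LD2_c35 LD3_c23) Lrfl Lrfl
theorem f651842 : K46.v6045 = (LP (LK LD1_c6 LD2_c35 LD3_c23)) :=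
  Lefun (Lecon (f650718 IH) (K56.f651832 IH).symm) (f118591 IH)
theorem f93559 : Led Lsl_gt (LP (LK LD1_c6 LD2_c35 LD3_c19)) = (LP (LK LD1_c3 LD2_c15 LD3_c61)) :=
  Lre_g IH (LK LD1_c6 LD2_c35 LD3_c19) (LK LD1_c3 LD2_c15 LD3_c61) Lrfl Lrfl
theorem f118400 : Led Lsl_gf (LP (LK LD1_c6 LD2_c35 LD3_c19)) = (LP (LK LD1_c3 LD2_c16 LD3_c52)) :=
  Lgr Lrot47 (Lpr_gt (f93559 IH) (Lpr_af (K4.f118379 IH) (Lpe (K4.f118362 IH) (Lpn (LP (LK LD1_c3 LD2_c16 LD3_c52))))))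
theorem f118592 : Led Lsl_dt (LP (LK LD1_c6 LD2_c35 LD3_c19)) = (LP (LK LD1_c12 LD2_c36 LD3_c42)) :=
  Lre_d IH (LK LD1_c6 LD2_c35 LD3_c19) (LK LD1_c12 LD2_c36 LD3_c42) Lrfl Lrfl
theorem f755188 : Led Lsl_df (LP (LK LD1_c6 LD2_c11 LD3_c35)) = v17110 :=
  Lgr Lrot78 (Lpr_ft (K49.f502901 IH) (Lpr_dt (K5.f130830 IH) (Lpr_ft (f755186 IH) (Lpn v17110))))
theorem f663267 : Led Lsl_ct (LP (LK LD1_c12 LD2_c3 LD3_c4)) = (LP (LK LD1_c6 LD2_c11 LD3_c35)) :=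
  Lre_c IH (LK LD1_c12 LD2_c3 LD3_c4) (LK LD1_c6 LD2_c11 LD3_c35) Lrfl Lrfl
theorem f663350 : Led Lsl_dt (LP (LK LD1_c21 LD2_c8 LD3_c20)) = (LP (LK LD1_c12 LD2_c3 LD3_c4)) :=
  Lre_d IH (LK LD1_c21 LD2_c8 LD3_c20) (LK LD1_c12 LD2_c3 LD3_c4) Lrfl Lrfl
theorem f755196 : Led Lsl_gt (LP (LK LD1_c12 LD2_c36 LD3_c42)) = (LP (LK LD1_c21 LD2_c8 LD3_c20)) :=
  Lgr Lrot49 (Lpe (f118592 IH) (Lpr_gf (f118400 IH) (Lpe (K46.f118412 IH) (Lpe (K46.f118535 IH) (Lpr_dt (f118591 IH) (Lpq (f651842 IH) (Lpr_gt (f755195 IH) (Lpe (f755188 IH) (Lpe (f663267 IH) (Lpe (f663350 IH) (Lpn (LP (LK LD1_c21 LD2_c8 LD3_c20)))))))))))))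
theorem f755197 : Led Lsl_gt (LP (LK LD1_c12 LD2_c36 LD3_c42)) = (LP (LK LD1_c21 LD2_c8 LD3_c20)) :=
  Leop (Lpe (f755196 IH) (Lpn (LP (LK LD1_c12 LD2_c36 LD3_c42))))
theorem seed_1121 : LEOK LG_g (LK LD1_c12 LD2_c36 LD3_c42) :=
  Leoe_g (LK LD1_c12 LD2_c36 LD3_c42) (f755197 IH)
def v17126 : LQ := Led Lsl_ct (LP (LK LD1_c6 LD2_c11 LD3_c54))
theorem f755326 : Led Lsl_ct (LP (LK LD1_c6 LD2_c11 LD3_c54)) = v17126 :=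
  Lrfl
theorem f700663 : Led Lsl_ff (LP (LK LD1_c4 LD2_c38 LD3_c16)) = K50.v13037 :=
  Lgr Lrot3 (Lpr_ft (K50.f700659 IH) (Lpn K50.v13037))
theorem f700670 : Led Lsl_ct K45.v4215 = K50.v13037 :=
  Lgr Lrot40 (Lpe (K45.f631955 IH) (Lpe (K55.f631938 IH) (Lpr_ff (f700663 IH) (Lpn K50.v13037))))
theorem f719560 : K50.v13037 = (LP (LK LD1_c9 LD2_c11 LD3_c6)) :=
  Lefun (Lecon (f700670 IH) (K53.f719556 IH)) (K52.f415563 IH)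
theorem f642376 : Led Lsl_dt (LP (LK LD1_c9 LD2_c11 LD3_c6)) = (LP (LK LD1_c17 LD2_c4 LD3_c36)) :=
  Lre_d IH (LK LD1_c9 LD2_c11 LD3_c6) (LK LD1_c17 LD2_c4 LD3_c36) Lrfl Lrfl
theorem f719811 : Led Lsl_ff (LP (LK LD1_c9 LD2_c12 LD3_c19)) = (LP (LK LD1_c17 LD2_c4 LD3_c36)) :=
  Lgr Lrot19 (Lpr_dt (K55.f631943 IH) (Lpr_ft (K50.f700659 IH) (Lpqs (f719560 IH) (Lpr_dt (f642376 IH) (Lpn (LP (LK LD1_c17 LD2_c4 LD3_c36)))))))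
theorem f719817 : Led Lsl_ft (LP (LK LD1_c9 LD2_c12 LD3_c19)) = (LP (LK LD1_c17 LD2_c4 LD3_c36)) :=
  Lgr Lrot48 (Lpr_ff (f719811 IH) (Lpn (LP (LK LD1_c17 LD2_c4 LD3_c36))))
theorem f642641 : Led Lsl_gt (LP (LK LD1_c9 LD2_c12 LD3_c19)) = (LP (LK LD1_c17 LD2_c6 LD3_c25)) :=
  Lre_g IH (LK LD1_c9 LD2_c12 LD3_c19) (LK LD1_c17 LD2_c6 LD3_c25) Lrfl Lrfl
theorem f700648 : Led Lsl_ct K45.v4214 = K50.v13036 :=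
  Lgr Lrot59 (Lpr_cf (K50.f700647 IH) (Lpn K50.v13036))
theorem f116959 : Led Lsl_ct (LP (LK LD1_c4 LD2_c37 LD3_c43)) = (LP (LK LD1_c9 LD2_c11 LD3_c2)) :=
  Lre_c IH (LK LD1_c4 LD2_c37 LD3_c43) (LK LD1_c9 LD2_c11 LD3_c2) Lrfl Lrfl
theorem f719591 : K50.v13036 = (LP (LK LD1_c9 LD2_c11 LD3_c2)) :=
  Lefun (Lecon (f700648 IH) (K53.f719579 IH).symm) (f116959 IH)
theorem f644802 : Led Lsl_dt (LP (LK LD1_c9 LD2_c11 LD3_c2)) = (LP (LK LD1_c17 LD2_c4 LD3_c31)) :=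
  Lre_d IH (LK LD1_c9 LD2_c11 LD3_c2) (LK LD1_c17 LD2_c4 LD3_c31) Lrfl Lrfl
theorem f719692 : Led Lsl_ff (LP (LK LD1_c9 LD2_c12 LD3_c32)) = (LP (LK LD1_c17 LD2_c4 LD3_c31)) :=
  Lgr Lrot19 (Lpr_dt (K45.f631961 IH) (Lpr_ft (K50.f700649 IH) (Lpqs (f719591 IH) (Lpr_dt (f644802 IH) (Lpn (LP (LK LD1_c17 LD2_c4 LD3_c31)))))))
theorem f719696 : Led Lsl_ft (LP (LK LD1_c9 LD2_c12 LD3_c32)) = (LP (LK LD1_c17 LD2_c4 LD3_c31)) :=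
  Lgr Lrot48 (Lpr_ff (f719692 IH) (Lpn (LP (LK LD1_c17 LD2_c4 LD3_c31))))
theorem f719702 : Led Lsl_af (LP (LK LD1_c9 LD2_c12 LD3_c19)) = (LP (LK LD1_c17 LD2_c4 LD3_c31)) :=
  Lgr Lrot109 (Lpe (K55.f631944 IH) (Lpr_df (K55.f706929 IH) (Lpe (K55.f706922 IH) (Lpe (K55.f631947 IH) (Lpe (K55.f631946 IH) (Lpe (K45.f631945 IH) (Lpe (K45.f631948 IH) (Lpe (K45.f631961 IH) (Lpr_ft (f719696 IH) (Lpn (LP (LK LD1_c17 LD2_c4 LD3_c31))))))))))))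
theorem f719819 : Led Lsl_af (LP (LK LD1_c9 LD2_c12 LD3_c32)) = (LP (LK LD1_c17 LD2_c4 LD3_c36)) :=
  Lgr Lrot45 (Lpr_ft (f719696 IH) (Lpe (f719702 IH) (Lpr_ft (f719817 IH) (Lpn (LP (LK LD1_c17 LD2_c4 LD3_c36))))))
theorem f719823 : Led Lsl_gt (LP (LK LD1_c17 LD2_c6 LD3_c25)) = (LP (LK LD1_c9 LD2_c12 LD3_c32)) :=
  Lgr Lrot46 (Lpe (f642641 IH) (Lpr_ft (f719817 IH) (Lpe (f719819 IH) (Lpn (LP (LK LD1_c9 LD2_c12 LD3_c32))))))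
theorem f141215 : Led Lsl_dt (LP (LK LD1_c4 LD2_c37 LD3_c49)) = (LP (LK LD1_c9 LD2_c10 LD3_c4)) :=
  Lgr Lrot6 (Lpr_gt (K7.f79967 IH) (Lpr_ct (K7.f40600 IH) (Lpr_gt (K4.f26401 IH) (Lpr_ct (K0.f26400 IH) (Lpe (K6.f75057 IH) (Lpe (K6.f15585 IH) (Lpe (K6.f139769 IH) (Lpr_cf (K6.f141189 IH) (Lpe (K7.f141197 IH) (Lpn (LP (LK LD1_c9 LD2_c10 LD3_c4))))))))))))
theorem f148806 : Led Lsl_et (LP (LK LD1_c2 LD2_c15 LD3_c58)) = (LP (LK LD1_c4 LD2_c37 LD3_c32)) :=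
  Lre_e IH (LK LD1_c2 LD2_c15 LD3_c58) (LK LD1_c4 LD2_c37 LD3_c32) Lrfl Lrfl
theorem f438123 : Led Lsl_et (LP (LK LD1_c17 LD2_c3 LD3_c58)) = (LP (LK LD1_c9 LD2_c10 LD3_c41)) :=
  Lre_e IH (LK LD1_c17 LD2_c3 LD3_c58) (LK LD1_c9 LD2_c10 LD3_c41) Lrfl Lrfl
theorem f642635 : Led Lsl_dt (LP (LK LD1_c4 LD2_c38 LD3_c16)) = (LP (LK LD1_c9 LD2_c12 LD3_c19)) :=
  Lre_d IH (LK LD1_c4 LD2_c38 LD3_c16) (LK LD1_c9 LD2_c12 LD3_c19) Lrfl Lrfl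
theorem f713023 : Led Lsl_dt (LP (LK LD1_c17 LD2_c3 LD3_c58)) = (LP (LK LD1_c17 LD2_c6 LD3_c25)) :=
  Lgr Lrot56 (Lpr_et (f438123 IH) (Lpr_gt (K55.f438122 IH) (Lpe (f148806 IH) (Lpr_dt (K6.f99929 IH) (Lpr_gt (K7.f100290 IH) (Lpe (f141215 IH) (Lpr_et (K52.f148855 IH) (Lpqs (K52.f713020 IH) (Lpe (K52.f700639 IH) (Lpr_dt (f642635 IH) (Lpr_gt (f642641 IH) (Lpn (LP (LK LD1_c17 LD2_c6 LD3_c25))))))))))))))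
theorem f755331 : Led Lsl_gf (LP (LK LD1_c17 LD2_c3 LD3_c58)) = v17126 :=
  Lgr Lrot148 (Lpr_dt (f713023 IH) (Lpr_gt (f719823 IH) (Lpr_dt (K45.f631961 IH) (Lpr_ct (K45.f631948 IH) (Lpe (K45.f552466 IH) (Lpr_gf (K45.f644445 IH) (Lpe (K45.f615052 IH) (Lpr_gf (K52.f644692 IH) (Lpr_ct (f755326 IH) (Lpn v17126))))))))))
theorem f711511 : Led Lsl_et (LP (LK LD1_c9 LD2_c10 LD3_c41)) = (LP (LK LD1_c17 LD2_c3 LD3_c58)) :=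
  Lre_e IH (LK LD1_c9 LD2_c10 LD3_c41) (LK LD1_c17 LD2_c3 LD3_c58) Lrfl Lrfl
theorem f711512 : Led Lsl_cf (LP (LK LD1_c16 LD2_c58 LD3_c26)) = (LP (LK LD1_c17 LD2_c3 LD3_c58)) :=
  Lgr Lrot39 (Lpr_et (K55.f711498 IH) (Lpr_ct (K55.f711492 IH) (Lpr_et (f711511 IH) (Lpn (LP (LK LD1_c17 LD2_c3 LD3_c58))))))
theorem f711520 : Led Lsl_ct (LP (LK LD1_c16 LD2_c58 LD3_c26)) = (LP (LK LD1_c17 LD2_c3 LD3_c58)) :=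
  Lgr Lrot59 (Lpr_cf (f711512 IH) (Lpn (LP (LK LD1_c17 LD2_c3 LD3_c58))))
theorem f711514 : Led Lsl_bt (LP (LK LD1_c16 LD2_c58 LD3_c26)) = (LP (LK LD1_c9 LD2_c6 LD3_c34)) :=
  Lre_b IH (LK LD1_c16 LD2_c58 LD3_c26) (LK LD1_c9 LD2_c6 LD3_c34) Lrfl Lrfl
theorem f755332 : Led Lsl_gf (LP (LK LD1_c12 LD2_c30 LD3_c11)) = (LP (LK LD1_c9 LD2_c6 LD3_c34)) :=
  Lgr Lrot124 (Lpe (K52.f454669 IH) (Lpe (K35.f503755 IH) (Lpr_gt (K55.f503651 IH) (Lpr_cf (K35.f444626 IH) (Lpr_bt (K45.f444641 IH) (Lpr_gt (K51.f644690 IH) (Lpr_ct (f755326 IH) (Lpe (f755331 IH) (Lpe (f711520 IH) (Lpr_bt (f711514 IH) (Lpn (LP (LK LD1_c9 LD2_c6 LD3_c34)))))))))))))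
theorem f755333 : Led Lsl_gt (LP (LK LD1_c9 LD2_c6 LD3_c34)) = (LP (LK LD1_c12 LD2_c30 LD3_c11)) :=
  Leop (Lpr_gf (f755332 IH) (Lpn (LP (LK LD1_c9 LD2_c6 LD3_c34))))
theorem seed_1122 : LEOK LG_g (LK LD1_c9 LD2_c6 LD3_c34) :=
  Leoe_g (LK LD1_c9 LD2_c6 LD3_c34) (f755333 IH)
theorem f699681 : Led Lsl_ft (LP (LK LD1_c9 LD2_c6 LD3_c34)) = (LP (LK LD1_c16 LD2_c58 LD3_c31)) :=
  Lre_f IH (LK LD1_c9 LD2_c6 LD3_c34) (LK LD1_c16 LD2_c58 LD3_c31) Lrfl Lrfl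
theorem f755334 : Led Lsl_af (LP (LK LD1_c18 LD2_c2 LD3_c10)) = (LP (LK LD1_c16 LD2_c58 LD3_c31)) :=
  Lgr Lrot31 (Lpr_gf (K52.f714275 IH) (Lpr_gf (f755332 IH) (Lpr_ft (f699681 IH) (Lpn (LP (LK LD1_c16 LD2_c58 LD3_c31))))))
theorem f714269 : Led Lsl_bt (LP (LK LD1_c18 LD2_c2 LD3_c10)) = (LP (LK LD1_c27 LD2_c44 LD3_c12)) :=
  Lre_b IH (LK LD1_c18 LD2_c2 LD3_c10) (LK LD1_c27 LD2_c44 LD3_c12) Lrfl Lrfl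
theorem f719777 : Led Lsl_bt (LP (LK LD1_c26 LD2_c54 LD3_c3)) = (LP (LK LD1_c16 LD2_c58 LD3_c31)) :=
  Lre_b IH (LK LD1_c26 LD2_c54 LD3_c3) (LK LD1_c16 LD2_c58 LD3_c31) Lrfl Lrfl
theorem f619131 : Led Lsl_at (LP (LK LD1_c20 LD2_c1 LD3_c9)) = (LP (LK LD1_c16 LD2_c54 LD3_c50)) :=
  Lgr Lrot100 (Lpr_af (K52.f619129 IH) (Lpn (LP (LK LD1_c16 LD2_c54 LD3_c50))))
theorem f713037 : Led Lsl_ff (LP (LK LD1_c20 LD2_c1 LD3_c9)) = (LP (LK LD1_c16 LD2_c55 LD3_c41)) :=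
  Lgr Lrot52 (Lpr_at (f619131 IH) (Lpr_gf (K52.f713035 IH) (Lpe (K55.f706916 IH) (Lpn (LP (LK LD1_c16 LD2_c55 LD3_c41))))))
theorem f713590 : Led Lsl_ft (LP (LK LD1_c20 LD2_c1 LD3_c9)) = (LP (LK LD1_c16 LD2_c55 LD3_c41)) :=
  Lgr Lrot48 (Lpr_ff (f713037 IH) (Lpn (LP (LK LD1_c16 LD2_c55 LD3_c41))))
theorem f424188 : Led Lsl_dt (LP (LK LD1_c29 LD2_c14 LD3_c52)) = (LP (LK LD1_c20 LD2_c1 LD3_c9)) :=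
  Lre_d IH (LK LD1_c29 LD2_c14 LD3_c52) (LK LD1_c20 LD2_c1 LD3_c9) Lrfl Lrfl
theorem f713595 : Led Lsl_ff (LP (LK LD1_c29 LD2_c14 LD3_c52)) = (LP (LK LD1_c26 LD2_c52 LD3_c3)) :=
  Lgr Lrot19 (Lpr_dt (f424188 IH) (Lpr_ft (f713590 IH) (Lpr_dt (K55.f706919 IH) (Lpn (LP (LK LD1_c26 LD2_c52 LD3_c3))))))
theorem f172360 : Led Lsl_dt (LP (LK LD1_c20 LD2_c1 LD3_c9)) = (LP (LK LD1_c29 LD2_c14 LD3_c52)) :=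
  Lre_d IH (LK LD1_c20 LD2_c1 LD3_c9) (LK LD1_c29 LD2_c14 LD3_c52) Lrfl Lrfl
theorem f612937 : Led Lsl_dt (LP (LK LD1_c26 LD2_c50 LD3_c56)) = (LP (LK LD1_c16 LD2_c54 LD3_c50)) :=
  Lre_d IH (LK LD1_c26 LD2_c50 LD3_c56) (LK LD1_c16 LD2_c54 LD3_c50) Lrfl Lrfl
theorem f619135 : Led Lsl_at (LP (LK LD1_c29 LD2_c14 LD3_c52)) = (LP (LK LD1_c26 LD2_c50 LD3_c56)) :=
  Lgr Lrot51 (Lpe (f172360 IH) (Lpr_af (K52.f619129 IH) (Lpe (f612937 IH) (Lpn (LP (LK LD1_c26 LD2_c50 LD3_c56))))))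
theorem f713606 : Led Lsl_gf (LP (LK LD1_c26 LD2_c50 LD3_c56)) = (LP (LK LD1_c17 LD2_c6 LD3_c49)) :=
  Lgr Lrot76 (Lpe (f619135 IH) (Lpr_ff (f713595 IH) (Lpr_gt (K55.f706920 IH) (Lpn (LP (LK LD1_c17 LD2_c6 LD3_c49))))))
theorem f642388 : Led Lsl_dt (LP (LK LD1_c26 LD2_c58 LD3_c45)) = (LP (LK LD1_c17 LD2_c4 LD3_c24)) :=
  Lre_d IH (LK LD1_c26 LD2_c58 LD3_c45) (LK LD1_c17 LD2_c4 LD3_c24) Lrfl Lrfl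
theorem f719750 : Led Lsl_gf (LP (LK LD1_c26 LD2_c58 LD3_c45)) = (LP (LK LD1_c18 LD2_c1 LD3_c16)) :=
  Lgr Lrot144 (Lpr_dt (f642388 IH) (Lpe (K52.f710554 IH) (Lpr_dt (K52.f612919 IH) (Lpr_cf (K52.f549327 IH) (Lpe (f612937 IH) (Lpr_gf (f713606 IH) (Lpe (K55.f631947 IH) (Lpe (K55.f719736 IH) (Lpr_cf (K55.f719738 IH) (Lpn (LP (LK LD1_c18 LD2_c1 LD3_c16))))))))))))
theorem f116950 : Led Lsl_dt (LP (LK LD1_c9 LD2_c11 LD3_c3)) = (LP (LK LD1_c4 LD2_c37 LD3_c43)) :=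
  Lre_d IH (LK LD1_c9 LD2_c11 LD3_c3) (LK LD1_c4 LD2_c37 LD3_c43) Lrfl Lrfl
theorem f642383 : Led Lsl_dt (LP (LK LD1_c17 LD2_c4 LD3_c24)) = (LP (LK LD1_c26 LD2_c58 LD3_c45)) :=
  Lre_d IH (LK LD1_c17 LD2_c4 LD3_c24) (LK LD1_c26 LD2_c58 LD3_c45) Lrfl Lrfl
theorem f501131 : Led Lsl_ct (LP (LK LD1_c6 LD2_c3 LD3_c0)) = (LP (LK LD1_c11 LD2_c49 LD3_c56)) :=
  Lre_c IH (LK LD1_c6 LD2_c3 LD3_c0) (LK LD1_c11 LD2_c49 LD3_c56) Lrfl Lrfl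
theorem f642384 : Led Lsl_gt (LP (LK LD1_c11 LD2_c49 LD3_c56)) = (LP (LK LD1_c20 LD2_c52 LD3_c7)) :=
  Lre_g IH (LK LD1_c11 LD2_c49 LD3_c56) (LK LD1_c20 LD2_c52 LD3_c7) Lrfl Lrfl
theorem f642385 : Led Lsl_cf (LP (LK LD1_c26 LD2_c58 LD3_c45)) = (LP (LK LD1_c20 LD2_c52 LD3_c7)) :=
  Lgr Lrot99 (Lpe (f642383 IH) (Lpe (K52.f642382 IH) (Lpe (K52.f501010 IH) (Lpe (K31.f415836 IH) (Lpe (K36.f116940 IH) (Lpe (f116950 IH) (Lpr_gt (K46.f642374 IH) (Lpr_ct (f501131 IH) (Lpr_gt (f642384 IH) (Lpn (LP (LK LD1_c20 LD2_c52 LD3_c7))))))))))))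
theorem f642424 : Led Lsl_ct (LP (LK LD1_c26 LD2_c58 LD3_c45)) = (LP (LK LD1_c20 LD2_c52 LD3_c7)) :=
  Lgr Lrot59 (Lpr_cf (f642385 IH) (Lpn (LP (LK LD1_c20 LD2_c52 LD3_c7))))
theorem f644526 : Led Lsl_af (LP (LK LD1_c26 LD2_c50 LD3_c27)) = (LP (LK LD1_c17 LD2_c6 LD3_c33)) :=
  Lgr Lrot0 (Lpr_at (K45.f644484 IH) (Lpn (LP (LK LD1_c17 LD2_c6 LD3_c33))))
theorem f642672 : Led Lsl_ft (LP (LK LD1_c11 LD2_c49 LD3_c56)) = (LP (LK LD1_c17 LD2_c6 LD3_c33)) :=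
  Lgr Lrot4 (Lpe (f501131 IH) (Lpr_ff (K45.f642667 IH) (Lpe (K45.f642671 IH) (Lpn (LP (LK LD1_c17 LD2_c6 LD3_c33))))))
theorem f644568 : Led Lsl_gf (LP (LK LD1_c26 LD2_c50 LD3_c27)) = (LP (LK LD1_c20 LD2_c52 LD3_c7)) :=
  Lgr Lrot76 (Lpr_af (f644526 IH) (Lpe (f642672 IH) (Lpr_gt (f642384 IH) (Lpn (LP (LK LD1_c20 LD2_c52 LD3_c7))))))
theorem f644406 : Led Lsl_af (LP (LK LD1_c26 LD2_c52 LD3_c10)) = (LP (LK LD1_c20 LD2_c19 LD3_c60)) :=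
  Lgr Lrot45 (Lpr_ft (K45.f644401 IH) (Lpe (K45.f642584 IH) (Lpr_ft (K45.f507577 IH) (Lpn (LP (LK LD1_c20 LD2_c19 LD3_c60))))))
theorem f644821 : Led Lsl_gt (LP (LK LD1_c17 LD2_c6 LD3_c11)) = (LP (LK LD1_c26 LD2_c52 LD3_c10)) :=
  Lgr Lrot46 (Lpr_gf (K54.f644809 IH) (Lpr_ft (K45.f507577 IH) (Lpe (f644406 IH) (Lpn (LP (LK LD1_c26 LD2_c52 LD3_c10))))))
theorem f719767 : Led Lsl_gf (LP (LK LD1_c26 LD2_c51 LD3_c43)) = (LP (LK LD1_c16 LD2_c58 LD3_c26)) :=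
  Lgr Lrot147 (Lpe (K54.f644843 IH) (Lpr_gt (f644821 IH) (Lpr_ct (K45.f140538 IH) (Lpe (K45.f140547 IH) (Lpe (K45.f644422 IH) (Lpr_gf (f644568 IH) (Lpe (f642424 IH) (Lpr_gf (f719750 IH) (Lpe (K55.f711541 IH) (Lpn (LP (LK LD1_c16 LD2_c58 LD3_c26))))))))))))
theorem f642605 : Led Lsl_dt (LP (LK LD1_c17 LD2_c6 LD3_c1)) = (LP (LK LD1_c17 LD2_c4 LD3_c0)) :=
  Lre_d IH (LK LD1_c17 LD2_c6 LD3_c1) (LK LD1_c17 LD2_c4 LD3_c0) Lrfl Lrfl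
theorem f415829 : Led Lsl_gt (LP (LK LD1_c26 LD2_c58 LD3_c42)) = (LP (LK LD1_c17 LD2_c4 LD3_c22)) :=
  Lre_g IH (LK LD1_c26 LD2_c58 LD3_c42) (LK LD1_c17 LD2_c4 LD3_c22) Lrfl Lrfl
theorem f642601 : Led Lsl_ft (LP (LK LD1_c26 LD2_c58 LD3_c42)) = (LP (LK LD1_c17 LD2_c6 LD3_c1)) :=
  Lgr Lrot2 (Lpr_gt (f415829 IH) (Lpr_gt (K46.f642372 IH) (Lpr_af (K45.f642590 IH) (Lpn (LP (LK LD1_c17 LD2_c6 LD3_c1))))))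
theorem f644418 : Led Lsl_dt (LP (LK LD1_c26 LD2_c52 LD3_c10)) = (LP (LK LD1_c26 LD2_c58 LD3_c42)) :=
  Lgr Lrot60 (Lpr_ff (K45.f644412 IH) (Lpe (f642605 IH) (Lpe (f642601 IH) (Lpn (LP (LK LD1_c26 LD2_c58 LD3_c42))))))
theorem f415828 : Led Lsl_dt (LP (LK LD1_c17 LD2_c4 LD3_c22)) = (LP (LK LD1_c9 LD2_c10 LD3_c59)) :=
  Lre_d IH (LK LD1_c17 LD2_c4 LD3_c22) (LK LD1_c9 LD2_c10 LD3_c59) Lrfl Lrfl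
theorem f415830 : Led Lsl_gt (LP (LK LD1_c18 LD2_c1 LD3_c17)) = (LP (LK LD1_c9 LD2_c50 LD3_c16)) :=
  Lre_g IH (LK LD1_c18 LD2_c1 LD3_c17) (LK LD1_c9 LD2_c50 LD3_c16) Lrfl Lrfl
theorem f415831 : Led Lsl_dt (LP (LK LD1_c27 LD2_c43 LD3_c37)) = (LP (LK LD1_c18 LD2_c1 LD3_c17)) :=
  Lre_d IH (LK LD1_c27 LD2_c43 LD3_c37) (LK LD1_c18 LD2_c1 LD3_c17) Lrfl Lrfl
theorem f644845 : Led Lsl_gf (LP (LK LD1_c27 LD2_c43 LD3_c37)) = (LP (LK LD1_c26 LD2_c51 LD3_c43)) :=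
  Lgr Lrot148 (Lpr_dt (f415831 IH) (Lpr_gt (f415830 IH) (Lpr_dt (K55.f415821 IH) (Lpe (K31.f415601 IH) (Lpe (f415828 IH) (Lpe (f415829 IH) (Lpe (f644418 IH) (Lpe (f644821 IH) (Lpr_ct (K54.f644823 IH) (Lpn (LP (LK LD1_c26 LD2_c51 LD3_c43))))))))))))
theorem f711522 : Led Lsl_ft (LP (LK LD1_c16 LD2_c58 LD3_c26)) = (LP (LK LD1_c26 LD2_c54 LD3_c3)) :=
  Lre_f IH (LK LD1_c16 LD2_c58 LD3_c26) (LK LD1_c26 LD2_c54 LD3_c3) Lrfl Lrfl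
theorem f719769 : Led Lsl_af (LP (LK LD1_c27 LD2_c43 LD3_c37)) = (LP (LK LD1_c26 LD2_c54 LD3_c3)) :=
  Lgr Lrot31 (Lpr_gf (f644845 IH) (Lpr_gf (f719767 IH) (Lpr_ft (f711522 IH) (Lpn (LP (LK LD1_c26 LD2_c54 LD3_c3))))))
theorem f719774 : Led Lsl_at (LP (LK LD1_c27 LD2_c43 LD3_c37)) = (LP (LK LD1_c26 LD2_c54 LD3_c3)) :=
  Lgr Lrot100 (Lpr_af (f719769 IH) (Lpn (LP (LK LD1_c26 LD2_c54 LD3_c3))))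
theorem f645558 : Led Lsl_ct (LP (LK LD1_c11 LD2_c50 LD3_c10)) = (LP (LK LD1_c6 LD2_c3 LD3_c12)) :=
  Lre_c IH (LK LD1_c11 LD2_c50 LD3_c10) (LK LD1_c6 LD2_c3 LD3_c12) Lrfl Lrfl
theorem f645533 : Led Lsl_gt (LP (LK LD1_c20 LD2_c52 LD3_c21)) = (LP (LK LD1_c11 LD2_c50 LD3_c10)) :=
  Lre_g IH (LK LD1_c20 LD2_c52 LD3_c21) (LK LD1_c11 LD2_c50 LD3_c10) Lrfl Lrfl
theorem f710968 : Led Lsl_dt (LP (LK LD1_c20 LD2_c34 LD3_c40)) = (LP (LK LD1_c11 LD2_c36 LD3_c29)) :=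
  Lre_d IH (LK LD1_c20 LD2_c34 LD3_c40) (LK LD1_c11 LD2_c36 LD3_c29) Lrfl Lrfl
theorem f713969 : Led Lsl_cf (LP (LK LD1_c20 LD2_c52 LD3_c21)) = (LP (LK LD1_c20 LD2_c38 LD3_c30)) :=
  Lgr Lrot169 (Lpr_gt (f645533 IH) (Lpr_ct (f645558 IH) (Lpe (K52.f645512 IH) (Lpe (K52.f415566 IH) (Lpe (K46.f415849 IH) (Lpe (K46.f645608 IH) (Lpr_gf (K52.f713967 IH) (Lpe (f710968 IH) (Lpr_gt (K52.f710966 IH) (Lpn (LP (LK LD1_c20 LD2_c38 LD3_c30))))))))))))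
theorem f714113 : Led Lsl_ct (LP (LK LD1_c20 LD2_c52 LD3_c21)) = (LP (LK LD1_c20 LD2_c38 LD3_c30)) :=
  Lgr Lrot59 (Lpr_cf (f713969 IH) (Lpn (LP (LK LD1_c20 LD2_c38 LD3_c30))))
theorem f140956 : Led Lsl_ct (LP (LK LD1_c9 LD2_c13 LD3_c50)) = (LP (LK LD1_c17 LD2_c8 LD3_c10)) :=
  Lre_c IH (LK LD1_c9 LD2_c13 LD3_c50) (LK LD1_c17 LD2_c8 LD3_c10) Lrfl Lrfl
theorem f645559 : Led Lsl_ff (LP (LK LD1_c11 LD2_c50 LD3_c10)) = (LP (LK LD1_c17 LD2_c8 LD3_c10)) :=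
  Lgr Lrot23 (Lpr_ct (f645558 IH) (Lpr_ft (K55.f645548 IH) (Lpr_ct (f140956 IH) (Lpn (LP (LK LD1_c17 LD2_c8 LD3_c10))))))
theorem f645576 : Led Lsl_at (LP (LK LD1_c11 LD2_c50 LD3_c10)) = (LP (LK LD1_c20 LD2_c52 LD3_c11)) :=
  Lre_a IH (LK LD1_c11 LD2_c50 LD3_c10) (LK LD1_c20 LD2_c52 LD3_c11) Lrfl Lrfl
theorem f645568 : Led Lsl_at (LP (LK LD1_c27 LD2_c0 LD3_c53)) = (LP (LK LD1_c17 LD2_c8 LD3_c10)) :=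
  Lre_a IH (LK LD1_c27 LD2_c0 LD3_c53) (LK LD1_c17 LD2_c8 LD3_c10) Lrfl Lrfl
theorem f645577 : Led Lsl_ft (LP (LK LD1_c20 LD2_c52 LD3_c11)) = (LP (LK LD1_c27 LD2_c0 LD3_c53)) :=
  Lgr Lrot101 (Lpe (f645576 IH) (Lpr_ff (f645559 IH) (Lpe (f645568 IH) (Lpn (LP (LK LD1_c27 LD2_c0 LD3_c53))))))
theorem f645580 : Led Lsl_ff (LP (LK LD1_c20 LD2_c52 LD3_c11)) = (LP (LK LD1_c27 LD2_c0 LD3_c53)) :=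
  Lgr Lrot3 (Lpr_ft (f645577 IH) (Lpn (LP (LK LD1_c27 LD2_c0 LD3_c53))))
theorem f645584 : Led Lsl_at (LP (LK LD1_c20 LD2_c52 LD3_c11)) = (LP (LK LD1_c11 LD2_c50 LD3_c10)) :=
  Lre_a IH (LK LD1_c20 LD2_c52 LD3_c11) (LK LD1_c11 LD2_c50 LD3_c10) Lrfl Lrfl
theorem f645587 : Led Lsl_gf (LP (LK LD1_c20 LD2_c52 LD3_c21)) = (LP (LK LD1_c27 LD2_c0 LD3_c53)) :=
  Lgr Lrot47 (Lpr_gt (f645533 IH) (Lpe (f645584 IH) (Lpr_ff (f645580 IH) (Lpn (LP (LK LD1_c27 LD2_c0 LD3_c53))))))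
theorem f645522 : Led Lsl_ct (LP (LK LD1_c17 LD2_c8 LD3_c3)) = (LP (LK LD1_c27 LD2_c0 LD3_c53)) :=
  Lre_c IH (LK LD1_c17 LD2_c8 LD3_c3) (LK LD1_c27 LD2_c0 LD3_c53) Lrfl Lrfl
theorem f645563 : Led Lsl_gt (LP (LK LD1_c6 LD2_c3 LD3_c12)) = (LP (LK LD1_c11 LD2_c50 LD3_c8)) :=
  Lre_g IH (LK LD1_c6 LD2_c3 LD3_c12) (LK LD1_c11 LD2_c50 LD3_c8) Lrfl Lrfl
theorem f645564 : Led Lsl_gt (LP (LK LD1_c11 LD2_c50 LD3_c8)) = (LP (LK LD1_c17 LD2_c8 LD3_c3)) :=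
  Lgr Lrot46 (Lpe (f645563 IH) (Lpr_ft (K55.f645548 IH) (Lpr_at (K55.f140958 IH) (Lpn (LP (LK LD1_c17 LD2_c8 LD3_c3))))))
theorem f645571 : Led Lsl_dt (LP (LK LD1_c20 LD2_c52 LD3_c16)) = (LP (LK LD1_c11 LD2_c50 LD3_c8)) :=
  Lre_d IH (LK LD1_c20 LD2_c52 LD3_c16) (LK LD1_c11 LD2_c50 LD3_c8) Lrfl Lrfl
theorem f714585 : Led Lsl_gf (LP (LK LD1_c20 LD2_c20 LD3_c3)) = (LP (LK LD1_c20 LD2_c52 LD3_c16)) :=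
  Lgr Lrot147 (Lpr_ct (K55.f640124 IH) (Lpr_gt (K55.f714581 IH) (Lpr_ct (K56.f642329 IH) (Lpe (K52.f710942 IH) (Lpe (f714113 IH) (Lpr_gf (f645587 IH) (Lpe (f645522 IH) (Lpe (f645564 IH) (Lpe (f645571 IH) (Lpn (LP (LK LD1_c20 LD2_c52 LD3_c16))))))))))))
theorem f714587 : Led Lsl_gt (LP (LK LD1_c16 LD2_c56 LD3_c60)) = (LP (LK LD1_c20 LD2_c52 LD3_c16)) :=
  Lgr Lrot5 (Lpe (K55.f640129 IH) (Lpr_at (K55.f140624 IH) (Lpr_gf (f714585 IH) (Lpn (LP (LK LD1_c20 LD2_c52 LD3_c16))))))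
theorem f445601 : Led Lsl_bt (LP (LK LD1_c11 LD2_c31 LD3_c58)) = (LP (LK LD1_c5 LD2_c52 LD3_c50)) :=
  Lre_b IH (LK LD1_c11 LD2_c31 LD3_c58) (LK LD1_c5 LD2_c52 LD3_c50) Lrfl Lrfl
theorem f642480 : Led Lsl_bf (LP (LK LD1_c9 LD2_c50 LD3_c23)) = (LP (LK LD1_c5 LD2_c0 LD3_c14)) :=
  Lgr Lrot61 (Lpr_ft (K52.f642478 IH) (Lpr_bt (f445601 IH) (Lpr_ft (K46.f505527 IH) (Lpn (LP (LK LD1_c5 LD2_c0 LD3_c14))))))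
theorem f642494 : Led Lsl_bt (LP (LK LD1_c9 LD2_c50 LD3_c16)) = (LP (LK LD1_c4 LD2_c59 LD3_c56)) :=
  Lre_b IH (LK LD1_c9 LD2_c50 LD3_c16) (LK LD1_c4 LD2_c59 LD3_c56) Lrfl Lrfl
theorem f415966 : Led Lsl_ct (LP (LK LD1_c9 LD2_c50 LD3_c16)) = (LP (LK LD1_c18 LD2_c1 LD3_c18)) :=
  Lre_c IH (LK LD1_c9 LD2_c50 LD3_c16) (LK LD1_c18 LD2_c1 LD3_c18) Lrfl Lrfl
theorem f642495 : Led Lsl_gt (LP (LK LD1_c18 LD2_c1 LD3_c18)) = (LP (LK LD1_c11 LD2_c49 LD3_c56)) :=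
  Lgr Lrot65 (Lpe (f415966 IH) (Lpr_bt (f642494 IH) (Lpe (K52.f642477 IH) (Lpr_bf (f642480 IH) (Lpr_ct (K50.f505552 IH) (Lpe (K50.f505573 IH) (Lpe (K50.f452893 IH) (Lpe (K32.f501124 IH) (Lpe (K55.f501128 IH) (Lpr_ct (f501131 IH) (Lpn (LP (LK LD1_c11 LD2_c49 LD3_c56)))))))))))))
theorem f644403 : Led Lsl_gf (LP (LK LD1_c20 LD2_c22 LD3_c11)) = (LP (LK LD1_c27 LD2_c43 LD3_c37)) :=
  Lgr Lrot147 (Lpr_ct (K45.f80072 IH) (Lpr_gt (K45.f644384 IH) (Lpr_ct (K54.f454891 IH) (Lpe (K46.f507614 IH) (Lpe (K45.f501129 IH) (Lpe (f642495 IH) (Lpe (f415966 IH) (Lpe (f415830 IH) (Lpe (f415831 IH) (Lpn (LP (LK LD1_c27 LD2_c43 LD3_c37))))))))))))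
theorem f714589 : Led Lsl_ct (LP (LK LD1_c29 LD2_c42 LD3_c33)) = (LP (LK LD1_c20 LD2_c52 LD3_c16)) :=
  Lre_c IH (LK LD1_c29 LD2_c42 LD3_c33) (LK LD1_c20 LD2_c52 LD3_c16) Lrfl Lrfl
theorem f714595 : Led Lsl_bf (LP (LK LD1_c27 LD2_c43 LD3_c37)) = (LP (LK LD1_c29 LD2_c42 LD3_c33)) :=
  Lgr Lrot165 (Lpe (f644403 IH) (Lpr_ct (K45.f80072 IH) (Lpr_gt (K45.f644384 IH) (Lpe (K45.f454887 IH) (Lpr_bt (K45.f454886 IH) (Lpe (K35.f454880 IH) (Lpe (K53.f454878 IH) (Lpr_ct (K55.f454863 IH) (Lpr_gt (f714587 IH) (Lpe (f714589 IH) (Lpn (LP (LK LD1_c29 LD2_c42 LD3_c33)))))))))))))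
theorem f755343 : Led Lsl_at (LP (LK LD1_c27 LD2_c44 LD3_c12)) = (LP (LK LD1_c29 LD2_c42 LD3_c33)) :=
  Lgr Lrot67 (Lpe (f714269 IH) (Lpr_af (f755334 IH) (Lpe (f719777 IH) (Lpe (f719774 IH) (Lpr_bf (f714595 IH) (Lpn (LP (LK LD1_c29 LD2_c42 LD3_c33))))))))
theorem f501133 : Led Lsl_gt (LP (LK LD1_c6 LD2_c3 LD3_c15)) = (LP (LK LD1_c11 LD2_c50 LD3_c16)) :=
  Lre_g IH (LK LD1_c6 LD2_c3 LD3_c15) (LK LD1_c11 LD2_c50 LD3_c16) Lrfl Lrfl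
theorem f642504 : Led Lsl_ct (LP (LK LD1_c11 LD2_c50 LD3_c16)) = (LP (LK LD1_c20 LD2_c52 LD3_c30)) :=
  Lre_c IH (LK LD1_c11 LD2_c50 LD3_c16) (LK LD1_c20 LD2_c52 LD3_c30) Lrfl Lrfl
theorem f714590 : Led Lsl_ct (LP (LK LD1_c20 LD2_c52 LD3_c16)) = (LP (LK LD1_c29 LD2_c42 LD3_c33)) :=
  Lre_c IH (LK LD1_c20 LD2_c52 LD3_c16) (LK LD1_c29 LD2_c42 LD3_c33) Lrfl Lrfl
theorem f714593 : Led Lsl_df (LP (LK LD1_c20 LD2_c52 LD3_c30)) = (LP (LK LD1_c29 LD2_c42 LD3_c33)) :=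
  Lgr Lrot162 (Lpe (f642504 IH) (Lpe (f501133 IH) (Lpe (K41.f501065 IH) (Lpe (K52.f501152 IH) (Lpr_dt (K52.f710943 IH) (Lpe (K55.f714583 IH) (Lpr_ct (K55.f454863 IH) (Lpr_gt (f714587 IH) (Lpr_ct (f714590 IH) (Lpn (LP (LK LD1_c29 LD2_c42 LD3_c33))))))))))))
theorem f755357 : Led Lsl_af (LP (LK LD1_c18 LD2_c2 LD3_c9)) = (LP (LK LD1_c20 LD2_c52 LD3_c30)) :=
  Lgr Lrot117 (Lpr_dt (K55.f140907 IH) (Lpr_at (f755343 IH) (Lpe (f714593 IH) (Lpn (LP (LK LD1_c20 LD2_c52 LD3_c30))))))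
theorem f755361 : Led Lsl_at (LP (LK LD1_c17 LD2_c8 LD3_c17)) = (LP (LK LD1_c11 LD2_c50 LD3_c16)) :=
  Lgr Lrot107 (Lpr_cf (K52.f140894 IH) (Lpr_af (f755357 IH) (Lpe (f642504 IH) (Lpn (LP (LK LD1_c11 LD2_c50 LD3_c16))))))
theorem f755365 : Led Lsl_ff (LP (LK LD1_c17 LD2_c8 LD3_c17)) = (LP (LK LD1_c11 LD2_c50 LD3_c17)) :=
  Lgr Lrot52 (Lpr_at (f755361 IH) (Lpe (f501133 IH) (Lpe (K41.f501066 IH) (Lpn (LP (LK LD1_c11 LD2_c50 LD3_c17))))))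
theorem f755371 : Led Lsl_ft (LP (LK LD1_c17 LD2_c8 LD3_c17)) = (LP (LK LD1_c11 LD2_c50 LD3_c17)) :=
  Lgr Lrot48 (Lpr_ff (f755365 IH) (Lpn (LP (LK LD1_c11 LD2_c50 LD3_c17))))
theorem f755373 : Led Lsl_ff (LP (LK LD1_c18 LD2_c2 LD3_c9)) = (LP (LK LD1_c20 LD2_c52 LD3_c32)) :=
  Lgr Lrot23 (Lpe (K52.f140894 IH) (Lpr_ft (f755371 IH) (Lpr_ct (K55.f645644 IH) (Lpn (LP (LK LD1_c20 LD2_c52 LD3_c32))))))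
theorem f755379 : Led Lsl_ft (LP (LK LD1_c27 LD2_c44 LD3_c12)) = (LP (LK LD1_c20 LD2_c38 LD3_c8)) :=
  Lgr Lrot54 (Lpe (K55.f140907 IH) (Lpr_ff (f755373 IH) (Lpe (K52.f713016 IH) (Lpn (LP (LK LD1_c20 LD2_c38 LD3_c8))))))
theorem f755385 : Led Lsl_ff (LP (LK LD1_c27 LD2_c44 LD3_c12)) = (LP (LK LD1_c20 LD2_c38 LD3_c8)) :=
  Lgr Lrot3 (Lpr_ft (f755379 IH) (Lpn (LP (LK LD1_c20 LD2_c38 LD3_c8))))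
theorem f755389 : Led Lsl_ft (LP (LK LD1_c20 LD2_c20 LD3_c20)) = (LP (LK LD1_c11 LD2_c38 LD3_c53)) :=
  Lgr Lrot4 (Lpe (K52.f714267 IH) (Lpr_ff (f755385 IH) (Lpe (K55.f443035 IH) (Lpn (LP (LK LD1_c11 LD2_c38 LD3_c53))))))
theorem f140631 : Led Lsl_gt (LP (LK LD1_c11 LD2_c22 LD3_c31)) = (LP (LK LD1_c20 LD2_c20 LD3_c19)) :=
  Lre_g IH (LK LD1_c11 LD2_c22 LD3_c31) (LK LD1_c20 LD2_c20 LD3_c19) Lrfl Lrfl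
theorem f755393 : Led Lsl_af (LP (LK LD1_c20 LD2_c20 LD3_c19)) = (LP (LK LD1_c11 LD2_c38 LD3_c53)) :=
  Lgr Lrot31 (Lpe (f140631 IH) (Lpe (K52.f140632 IH) (Lpr_ft (f755389 IH) (Lpn (LP (LK LD1_c11 LD2_c38 LD3_c53))))))
theorem f501171 : Led Lsl_dt (LP (LK LD1_c11 LD2_c50 LD3_c3)) = (LP (LK LD1_c6 LD2_c3 LD3_c9)) :=
  Lre_d IH (LK LD1_c11 LD2_c50 LD3_c3) (LK LD1_c6 LD2_c3 LD3_c9) Lrfl Lrfl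
theorem f140944 : Led Lsl_dt (LP (LK LD1_c4 LD2_c39 LD3_c1)) = (LP (LK LD1_c9 LD2_c13 LD3_c50)) :=
  Lre_d IH (LK LD1_c4 LD2_c39 LD3_c1) (LK LD1_c9 LD2_c13 LD3_c50) Lrfl Lrfl
theorem f645541 : Led Lsl_ff (LP (LK LD1_c6 LD2_c3 LD3_c12)) = (LP (LK LD1_c9 LD2_c13 LD3_c50)) :=
  Lgr Lrot19 (Lpr_dt (K55.f645540 IH) (Lpr_ft (K52.f645531 IH) (Lpr_dt (f140944 IH) (Lpn (LP (LK LD1_c9 LD2_c13 LD3_c50))))))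
theorem f645589 : Led Lsl_at (LP (LK LD1_c6 LD2_c3 LD3_c12)) = (LP (LK LD1_c11 LD2_c50 LD3_c3)) :=
  Lre_a IH (LK LD1_c6 LD2_c3 LD3_c12) (LK LD1_c11 LD2_c50 LD3_c3) Lrfl Lrfl
theorem f140962 : Led Lsl_gt (LP (LK LD1_c9 LD2_c13 LD3_c50)) = (LP (LK LD1_c17 LD2_c8 LD3_c8)) :=
  Lre_g IH (LK LD1_c9 LD2_c13 LD3_c50) (LK LD1_c17 LD2_c8 LD3_c8) Lrfl Lrfl
theorem f645613 : Led Lsl_gf (LP (LK LD1_c11 LD2_c50 LD3_c3)) = (LP (LK LD1_c17 LD2_c8 LD3_c8)) :=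
  Lgr Lrot76 (Lpe (f645589 IH) (Lpr_ff (f645541 IH) (Lpr_gt (f140962 IH) (Lpn (LP (LK LD1_c17 LD2_c8 LD3_c8))))))
theorem f714358 : Led Lsl_df (LP (LK LD1_c17 LD2_c8 LD3_c8)) = (LP (LK LD1_c20 LD2_c20 LD3_c19)) :=
  Lgr Lrot153 (Lpe (f645613 IH) (Lpr_dt (f501171 IH) (Lpe (K52.f645499 IH) (Lpe (K56.f645497 IH) (Lpr_gf (K55.f645493 IH) (Lpr_df (K55.f714354 IH) (Lpe (K55.f140611 IH) (Lpe (K38.f140619 IH) (Lpr_gt (f140631 IH) (Lpn (LP (LK LD1_c20 LD2_c20 LD3_c19))))))))))))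
theorem f72038 : Led Lsl_gt (LP (LK LD1_c11 LD2_c36 LD3_c57)) = (LP (LK LD1_c5 LD2_c55 LD3_c53)) :=
  Lre_g IH (LK LD1_c11 LD2_c36 LD3_c57) (LK LD1_c5 LD2_c55 LD3_c53) Lrfl Lrfl
theorem f714372 : Led Lsl_ef (LP (LK LD1_c11 LD2_c36 LD3_c57)) = (LP (LK LD1_c20 LD2_c20 LD3_c19)) :=
  Lgr Lrot114 (Lpr_gt (f72038 IH) (Lpe (K55.f83063 IH) (Lpr_dt (K52.f83017 IH) (Lpe (K6.f139073 IH) (Lpr_df (K36.f161459 IH) (Lpr_et (K52.f161461 IH) (Lpq (K52.f713883 IH) (Lpe (K52.f700977 IH) (Lpr_dt (f140944 IH) (Lpr_gt (f140962 IH) (Lpr_df (f714358 IH) (Lpn (LP (LK LD1_c20 LD2_c20 LD3_c19))))))))))))))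
theorem f710572 : Led Lsl_et (LP (LK LD1_c5 LD2_c56 LD3_c47)) = (LP (LK LD1_c11 LD2_c38 LD3_c53)) :=
  Lre_e IH (LK LD1_c5 LD2_c56 LD3_c47) (LK LD1_c11 LD2_c38 LD3_c53) Lrfl Lrfl
def v16282 : LQ := Led Lsl_ft (LP (LK LD1_c5 LD2_c56 LD3_c46))
theorem f747511 : Led Lsl_ft (LP (LK LD1_c5 LD2_c56 LD3_c46)) = v16282 :=
  Lrfl
def v16281 : LQ := Led Lsl_at (LP (LK LD1_c5 LD2_c56 LD3_c46))
theorem f747507 : Led Lsl_at (LP (LK LD1_c5 LD2_c56 LD3_c46)) = v16281 :=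
  Lrfl
theorem f747508 : Led Lsl_af (LP (LK LD1_c5 LD2_c56 LD3_c46)) = v16281 :=
  Lgr Lrot0 (Lpr_at (f747507 IH) (Lpn v16281))
theorem f747509 : Led Lsl_ft (LP (LK LD1_c5 LD2_c56 LD3_c47)) = v16281 :=
  Lgr Lrot2 (Lpr_gt (K52.f82989 IH) (Lpr_gt (K51.f82958 IH) (Lpr_af (f747508 IH) (Lpn v16281))))
theorem f747512 : Led Lsl_af (LP (LK LD1_c5 LD2_c56 LD3_c47)) = v16282 :=
  Lgr Lrot45 (Lpr_ft (f747509 IH) (Lpe (f747508 IH) (Lpr_ft (f747511 IH) (Lpn v16282))))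
theorem f755401 : (LP (LK LD1_c11 LD2_c36 LD3_c57)) = v16282 :=
  (Llr Lrot123 (Lpr_ef (f714372 IH) (Lpr_af (f755393 IH) (Lpe (f710572 IH) (Lpr_af (f747512 IH) (Lpn v16282)))))).symm
theorem f747514 : Led Lsl_ff (LP (LK LD1_c5 LD2_c56 LD3_c46)) = v16282 :=
  Lgr Lrot3 (Lpr_ft (f747511 IH) (Lpn v16282))
theorem f755442 : v16281 = (LP (LK LD1_c11 LD2_c36 LD3_c56)) :=
  (Llr Lrot26 (Lpe (f747507 IH) (Lpr_ff (f747514 IH) (Lpq (f755401 IH) (Lpr_gt (f72038 IH) (Lpr_gt (K55.f72036 IH) (Lpn (LP (LK LD1_c11 LD2_c36 LD3_c56))))))))).symm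
theorem f151969 : Led Lsl_gt (LP (LK LD1_c11 LD2_c31 LD3_c6)) = (LP (LK LD1_c5 LD2_c52 LD3_c20)) :=
  Lre_g IH (LK LD1_c11 LD2_c31 LD3_c6) (LK LD1_c5 LD2_c52 LD3_c20) Lrfl Lrfl
theorem f25234 : Led Lsl_bt (LP (LK LD1_c9 LD2_c6 LD3_c27)) = (LP (LK LD1_c4 LD2_c34 LD3_c54)) :=
  Lre_b IH (LK LD1_c9 LD2_c6 LD3_c27) (LK LD1_c4 LD2_c34 LD3_c54) Lrfl Lrfl
theorem f616373 : Led Lsl_ct (LP (LK LD1_c9 LD2_c6 LD3_c27)) = (LP (LK LD1_c11 LD2_c36 LD3_c56)) :=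
  Lgr Lrot63 (Lpr_bt (f25234 IH) (Lpr_gt (K52.f146514 IH) (Lpr_bf (K7.f151954 IH) (Lpr_ct (K55.f151967 IH) (Lpr_gt (f151969 IH) (Lpr_cf (K55.f616352 IH) (Lpe (K55.f616371 IH) (Lpr_gt (K55.f424776 IH) (Lpr_ct (K55.f72035 IH) (Lpr_gt (K55.f72036 IH) (Lpn (LP (LK LD1_c11 LD2_c36 LD3_c56)))))))))))))
theorem f616376 : Led Lsl_cf (LP (LK LD1_c9 LD2_c6 LD3_c27)) = (LP (LK LD1_c11 LD2_c36 LD3_c56)) :=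
  Lgr Lrot11 (Lpr_ct (f616373 IH) (Lpn (LP (LK LD1_c11 LD2_c36 LD3_c56))))
theorem f755447 : Led Lsl_ff (LP (LK LD1_c11 LD2_c38 LD3_c51)) = (LP (LK LD1_c9 LD2_c6 LD3_c27)) :=
  Lgr Lrot23 (Lpr_ct (K52.f443019 IH) (Lpr_ft (f747509 IH) (Lpqs (f755442 IH) (Lpe (f616376 IH) (Lpn (LP (LK LD1_c9 LD2_c6 LD3_c27)))))))
theorem f616375 : Led Lsl_bt (LP (LK LD1_c4 LD2_c34 LD3_c54)) = (LP (LK LD1_c9 LD2_c6 LD3_c27)) :=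
  Lre_b IH (LK LD1_c4 LD2_c34 LD3_c54) (LK LD1_c9 LD2_c6 LD3_c27) Lrfl Lrfl
def v12935 : LQ := Led Lsl_ft (LP (LK LD1_c4 LD2_c34 LD3_c54))
theorem f699682 : Led Lsl_ft (LP (LK LD1_c4 LD2_c34 LD3_c54)) = v12935 :=
  Lrfl
theorem f699684 : Led Lsl_ff (LP (LK LD1_c4 LD2_c34 LD3_c54)) = v12935 :=
  Lgr Lrot3 (Lpr_ft (f699682 IH) (Lpn v12935))
theorem f755461 : (LP (LK LD1_c9 LD2_c6 LD3_c18)) = v12935 :=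
  (Llr Lrot35 (Lpe (K52.f443020 IH) (Lpr_ff (f755447 IH) (Lpe (f616375 IH) (Lpr_ff (f699684 IH) (Lpn v12935)))))).symm
theorem f443031 : Led Lsl_bt (LP (LK LD1_c20 LD2_c38 LD3_c8)) = (LP (LK LD1_c16 LD2_c58 LD3_c2)) :=
  Lgr Lrot127 (Lpr_bf (K52.f443028 IH) (Lpn (LP (LK LD1_c16 LD2_c58 LD3_c2))))
theorem f755381 : Led Lsl_ff (LP (LK LD1_c18 LD2_c2 LD3_c10)) = (LP (LK LD1_c16 LD2_c58 LD3_c2)) :=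
  Lgr Lrot25 (Lpr_bt (f714269 IH) (Lpr_ft (f755379 IH) (Lpr_bt (f443031 IH) (Lpn (LP (LK LD1_c16 LD2_c58 LD3_c2))))))
theorem f613722 : Led Lsl_et (LP (LK LD1_c5 LD2_c48 LD3_c34)) = (LP (LK LD1_c11 LD2_c26 LD3_c40)) :=
  Lre_e IH (LK LD1_c5 LD2_c48 LD3_c34) (LK LD1_c11 LD2_c26 LD3_c40) Lrfl Lrfl
theorem f438268 : Led Lsl_dt (LP (LK LD1_c11 LD2_c26 LD3_c39)) = (LP (LK LD1_c5 LD2_c48 LD3_c34)) :=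
  Lre_d IH (LK LD1_c11 LD2_c26 LD3_c39) (LK LD1_c5 LD2_c48 LD3_c34) Lrfl Lrfl
theorem f714292 : Led Lsl_et (LP (LK LD1_c18 LD2_c2 LD3_c10)) = (LP (LK LD1_c11 LD2_c26 LD3_c39)) :=
  Lgr Lrot71 (Lpe (K52.f698714 IH) (Lpr_ef (K52.f714285 IH) (Lpe (K55.f613716 IH) (Lpe (f613722 IH) (Lpe (f438268 IH) (Lpn (LP (LK LD1_c11 LD2_c26 LD3_c39))))))))
theorem f755470 : Led Lsl_ff (LP (LK LD1_c9 LD2_c6 LD3_c30)) = (LP (LK LD1_c11 LD2_c26 LD3_c39)) :=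
  Lgr Lrot72 (Lpr_et (K53.f130552 IH) (Lpr_ft (f699682 IH) (Lpq (f755461 IH) (Lpr_et (K52.f443027 IH) (Lpe (f755381 IH) (Lpr_et (f714292 IH) (Lpn (LP (LK LD1_c11 LD2_c26 LD3_c39)))))))))
theorem f66354 : Led Lsl_dt (LP (LK LD1_c5 LD2_c48 LD3_c34)) = (LP (LK LD1_c11 LD2_c26 LD3_c39)) :=
  Lre_d IH (LK LD1_c5 LD2_c48 LD3_c34) (LK LD1_c11 LD2_c26 LD3_c39) Lrfl Lrfl
def v15846 : LQ := Led Lsl_ft (LP (LK LD1_c5 LD2_c48 LD3_c34))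
theorem f743875 : Led Lsl_ft (LP (LK LD1_c5 LD2_c48 LD3_c34)) = v15846 :=
  Lrfl
theorem f743877 : Led Lsl_ff (LP (LK LD1_c5 LD2_c48 LD3_c34)) = v15846 :=
  Lgr Lrot3 (Lpr_ft (f743875 IH) (Lpn v15846))
theorem f755478 : (LP (LK LD1_c11 LD2_c25 LD3_c58)) = v15846 :=
  (Llr Lrot60 (Lpe (K53.f146495 IH) (Lpr_ff (f755470 IH) (Lpe (f66354 IH) (Lpr_ff (f743877 IH) (Lpn v15846)))))).symm
theorem f615517 : Led Lsl_ct (LP (LK LD1_c11 LD2_c26 LD3_c38)) = (LP (LK LD1_c5 LD2_c48 LD3_c34)) :=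
  Lre_c IH (LK LD1_c11 LD2_c26 LD3_c38) (LK LD1_c5 LD2_c48 LD3_c34) Lrfl Lrfl
theorem f755485 : Led Lsl_ff (LP (LK LD1_c11 LD2_c26 LD3_c38)) = (LP (LK LD1_c20 LD2_c23 LD3_c32)) :=
  Lgr Lrot23 (Lpr_ct (f615517 IH) (Lpr_ft (f743875 IH) (Lpq (f755478 IH) (Lpr_ct (K50.f146502 IH) (Lpn (LP (LK LD1_c20 LD2_c23 LD3_c32)))))))
theorem f704976 : Led Lsl_ct (LP (LK LD1_c7 LD2_c50 LD3_c8)) = (LP (LK LD1_c12 LD2_c22 LD3_c59)) :=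
  Lgr Lrot59 (Lpr_cf (K50.f704962 IH) (Lpn (LP (LK LD1_c12 LD2_c22 LD3_c59))))
theorem f544123 : Led Lsl_bf (LP (LK LD1_c7 LD2_c49 LD3_c30)) = (LP (LK LD1_c11 LD2_c26 LD3_c47)) :=
  Lgr Lrot61 (Lpr_ft (K50.f148472 IH) (Lpr_bt (K37.f544111 IH) (Lpr_ft (K48.f544122 IH) (Lpn (LP (LK LD1_c11 LD2_c26 LD3_c47))))))
theorem f57215 : Led Lsl_gt (LP (LK LD1_c11 LD2_c25 LD3_c57)) = (LP (LK LD1_c5 LD2_c48 LD3_c37)) :=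
  Lre_g IH (LK LD1_c11 LD2_c25 LD3_c57) (LK LD1_c5 LD2_c48 LD3_c37) Lrfl Lrfl
theorem f613093 : Led Lsl_ct (LP (LK LD1_c20 LD2_c23 LD3_c30)) = (LP (LK LD1_c11 LD2_c25 LD3_c57)) :=
  Lre_c IH (LK LD1_c20 LD2_c23 LD3_c30) (LK LD1_c11 LD2_c25 LD3_c57) Lrfl Lrfl
theorem f538675 : Led Lsl_ct (LP (LK LD1_c12 LD2_c22 LD3_c57)) = (LP (LK LD1_c6 LD2_c24 LD3_c59)) :=
  Lre_c IH (LK LD1_c12 LD2_c22 LD3_c57) (LK LD1_c6 LD2_c24 LD3_c59) Lrfl Lrfl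
theorem f704983 : Led Lsl_gf (LP (LK LD1_c20 LD2_c23 LD3_c30)) = (LP (LK LD1_c17 LD2_c31 LD3_c34)) :=
  Lgr Lrot181 (Lpr_ct (f613093 IH) (Lpr_gt (f57215 IH) (Lpe (K48.f146522 IH) (Lpe (f544123 IH) (Lpr_gt (K50.f437690 IH) (Lpe (K50.f123024 IH) (Lpr_ct (f704976 IH) (Lpr_gt (K50.f538822 IH) (Lpe (f538675 IH) (Lpr_bt (K40.f558552 IH) (Lpn (LP (LK LD1_c17 LD2_c31 LD3_c34)))))))))))))
theorem f755490 : Led Lsl_at (LP (LK LD1_c11 LD2_c26 LD3_c38)) = (LP (LK LD1_c20 LD2_c23 LD3_c30)) :=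
  Lgr Lrot26 (Lpr_ff (f755485 IH) (Lpe (K50.f700801 IH) (Lpe (f704983 IH) (Lpn (LP (LK LD1_c20 LD2_c23 LD3_c30))))))
def v15845 : LQ := Led Lsl_at (LP (LK LD1_c5 LD2_c48 LD3_c34))
theorem f743870 : Led Lsl_at (LP (LK LD1_c5 LD2_c48 LD3_c34)) = v15845 :=
  Lrfl
theorem f743871 : Led Lsl_af (LP (LK LD1_c5 LD2_c48 LD3_c34)) = v15845 :=
  Lgr Lrot0 (Lpr_at (f743870 IH) (Lpn v15845))
theorem f755497 : v15845 = (LP (LK LD1_c11 LD2_c25 LD3_c57)) :=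
  (Llr Lrot68 (Lpe (f743871 IH) (Lpr_ct (K48.f496157 IH) (Lpr_at (f755490 IH) (Lpr_ct (f613093 IH) (Lpn (LP (LK LD1_c11 LD2_c25 LD3_c57)))))))).symm
theorem f743873 : Led Lsl_ft (LP (LK LD1_c5 LD2_c48 LD3_c35)) = v15845 :=
  Lgr Lrot2 (Lpr_gt (K7.f57521 IH) (Lpr_gt (K48.f66353 IH) (Lpr_af (f743871 IH) (Lpn v15845))))
def v14566 : LQ := Led Lsl_et (LP (LK LD1_c5 LD2_c13 LD3_c57))
theorem f723787 : Led Lsl_et (LP (LK LD1_c5 LD2_c13 LD3_c57)) = v14566 :=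
  Lrfl
def v12287 : LQ := Led Lsl_dt (LP (LK LD1_c3 LD2_c59 LD3_c25))
theorem f689197 : Led Lsl_dt (LP (LK LD1_c3 LD2_c59 LD3_c25)) = v12287 :=
  Lrfl
theorem f101698 : Led Lsl_et (LP (LK LD1_c1 LD2_c56 LD3_c24)) = (LP (LK LD1_c3 LD2_c59 LD3_c25)) :=
  Lre_e IH (LK LD1_c1 LD2_c56 LD3_c24) (LK LD1_c3 LD2_c59 LD3_c25) Lrfl Lrfl
theorem f689199 : Led Lsl_ef (LP (LK LD1_c3 LD2_c59 LD3_c26)) = v12287 :=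
  Lgr Lrot73 (Lpr_dt (K36.f421199 IH) (Lpr_et (K39.f101696 IH) (Lpr_dt (K6.f59885 IH) (Lpr_et (f101698 IH) (Lpr_dt (f689197 IH) (Lpn v12287))))))
theorem f723788 : Led Lsl_af v12287 = v14566 :=
  Lgr Lrot50 (Lpe (f689199 IH) (Lpe (K36.f421455 IH) (Lpr_et (f723787 IH) (Lpn v14566))))
theorem f73407 : Led Lsl_dt (LP (LK LD1_c2 LD2_c49 LD3_c38)) = (LP (LK LD1_c1 LD2_c20 LD3_c57)) :=
  Lre_d IH (LK LD1_c2 LD2_c49 LD3_c38) (LK LD1_c1 LD2_c20 LD3_c57) Lrfl Lrfl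
theorem f139429 : Led Lsl_et (LP (LK LD1_c3 LD2_c59 LD3_c25)) = (LP (LK LD1_c1 LD2_c56 LD3_c24)) :=
  Lre_e IH (LK LD1_c3 LD2_c59 LD3_c25) (LK LD1_c1 LD2_c56 LD3_c24) Lrfl Lrfl
def v6594 : LQ := Led Lsl_gt (LP (LK LD1_c3 LD2_c24 LD3_c2))
theorem f654348 : Led Lsl_gt (LP (LK LD1_c3 LD2_c24 LD3_c2)) = v6594 :=
  Lrfl
theorem f689231 : Led Lsl_ff (LP (LK LD1_c3 LD2_c59 LD3_c43)) = K56.v12296 :=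
  Lgr Lrot3 (Lpr_ft (K56.f689228 IH) (Lpn K56.v12296))
def v6596 : LQ := Led Lsl_ft (LP (LK LD1_c3 LD2_c24 LD3_c2))
theorem f654350 : Led Lsl_ft (LP (LK LD1_c3 LD2_c24 LD3_c2)) = v6596 :=
  Lrfl
theorem f689233 : Led Lsl_at v6596 = K56.v12296 :=
  Lgr Lrot66 (Lpe (f654350 IH) (Lpr_af (K32.f497280 IH) (Lpr_ff (f689231 IH) (Lpn K56.v12296))))
theorem f689236 : Led Lsl_gt v6594 = K56.v12296 :=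
  Lgr Lrot46 (Lpe (f654348 IH) (Lpr_ft (f654350 IH) (Lpr_at (f689233 IH) (Lpn K56.v12296))))
theorem f749915 : v6594 = (LP (LK LD1_c3 LD2_c11 LD3_c10)) :=
  Lefun (Lecon (Lfl_gt (f689236 IH)) (K56.f749907 IH)) (Lfl_gt (K56.f69120 IH))
def v5645 : LQ := Led Lsl_et (LP (LK LD1_c3 LD2_c11 LD3_c10))
theorem f648653 : Led Lsl_et (LP (LK LD1_c3 LD2_c11 LD3_c10)) = v5645 :=
  Lrfl
theorem f648655 : Led Lsl_ef (LP (LK LD1_c3 LD2_c11 LD3_c10)) = v5645 :=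
  Lgr Lrot88 (Lpr_et (f648653 IH) (Lpn v5645))
theorem f648656 : Led Lsl_bt K35.v1951 = v5645 :=
  Lgr Lrot119 (Lpe (K35.f506549 IH) (Lpe (K55.f438557 IH) (Lpr_ef (f648655 IH) (Lpn v5645))))
theorem f22376 : Led Lsl_bt (LP (LK LD1_c5 LD2_c8 LD3_c23)) = (LP (LK LD1_c2 LD2_c31 LD3_c24)) :=
  Lre_b IH (LK LD1_c5 LD2_c8 LD3_c23) (LK LD1_c2 LD2_c31 LD3_c24) Lrfl Lrfl
theorem f648657 : Led Lsl_df (LP (LK LD1_c5 LD2_c8 LD3_c23)) = v5645 :=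
  Lgr Lrot12 (Lpr_bt (f22376 IH) (Lpr_dt (K53.f506555 IH) (Lpr_bt (f648656 IH) (Lpn v5645))))
def v14403 : LQ := Led Lsl_gt (LP (LK LD1_c5 LD2_c8 LD3_c23))
theorem f722367 : Led Lsl_gt (LP (LK LD1_c5 LD2_c8 LD3_c23)) = v14403 :=
  Lrfl
theorem f749919 : v12287 = v14403 :=
  (Llr Lrot37 (Lpe (f689197 IH) (Lpr_et (f139429 IH) (Lpe (K50.f149351 IH) (Lpr_dt (f73407 IH) (Lpe (K8.f73426 IH) (Lpr_df (K8.f149215 IH) (Lpr_et (K8.f149217 IH) (Lpr_gt (f654348 IH) (Lpqs (f749915 IH) (Lpr_ef (f648655 IH) (Lpe (f648657 IH) (Lpr_gt (f722367 IH) (Lpn v14403)))))))))))))).symm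
def v14404 : LQ := Led Lsl_gf (LP (LK LD1_c5 LD2_c8 LD3_c23))
theorem f722368 : Led Lsl_gf (LP (LK LD1_c5 LD2_c8 LD3_c23)) = v14404 :=
  Lrfl
theorem f749920 : Led Lsl_ff v14566 = v14404 :=
  Lgr Lrot52 (Lpe (f723788 IH) (Lpqs (f749919 IH) (Lpe (f722367 IH) (Lpr_gf (f722368 IH) (Lpn v14404)))))
theorem f73274 : Led Lsl_et (LP (LK LD1_c5 LD2_c47 LD3_c30)) = (LP (LK LD1_c2 LD2_c49 LD3_c43)) :=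
  Lre_e IH (LK LD1_c5 LD2_c47 LD3_c30) (LK LD1_c2 LD2_c49 LD3_c43) Lrfl Lrfl
theorem f723789 : Led Lsl_df (LP (LK LD1_c5 LD2_c47 LD3_c30)) = v14566 :=
  Lgr Lrot70 (Lpr_et (f73274 IH) (Lpe (K6.f137979 IH) (Lpe (K32.f421277 IH) (Lpr_dt (K36.f308591 IH) (Lpr_et (f723787 IH) (Lpn v14566))))))
def v15804 : LQ := Led Lsl_ft (LP (LK LD1_c5 LD2_c47 LD3_c30))
theorem f741671 : Led Lsl_ft (LP (LK LD1_c5 LD2_c47 LD3_c30)) = v15804 :=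
  Lrfl
theorem f749921 : Led Lsl_dt v15804 = v14404 :=
  Lgr Lrot60 (Lpe (f741671 IH) (Lpr_df (f723789 IH) (Lpr_ff (f749920 IH) (Lpn v14404))))
theorem f149349 : Led Lsl_ft (LP (LK LD1_c1 LD2_c56 LD3_c28)) = (LP (LK LD1_c2 LD2_c49 LD3_c43)) :=
  Lgr Lrot2 (Lpr_gt (K5.f112520 IH) (Lpr_gt (K7.f149347 IH) (Lpr_af (K6.f139414 IH) (Lpn (LP (LK LD1_c2 LD2_c49 LD3_c43))))))
theorem f112526 : Led Lsl_et (LP (LK LD1_c3 LD2_c59 LD3_c35)) = (LP (LK LD1_c1 LD2_c56 LD3_c28)) :=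
  Lre_e IH (LK LD1_c3 LD2_c59 LD3_c35) (LK LD1_c1 LD2_c56 LD3_c28) Lrfl Lrfl
theorem f741673 : Led Lsl_ef (LP (LK LD1_c6 LD2_c30 LD3_c20)) = v15804 :=
  Lgr Lrot21 (Lpe (K52.f641797 IH) (Lpr_et (f112526 IH) (Lpr_ft (f149349 IH) (Lpr_et (K49.f137981 IH) (Lpr_ft (f741671 IH) (Lpn v15804))))))
theorem f56730 : Led Lsl_et (LP (LK LD1_c11 LD2_c31 LD3_c49)) = (LP (LK LD1_c5 LD2_c52 LD3_c43)) :=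
  Lre_e IH (LK LD1_c11 LD2_c31 LD3_c49) (LK LD1_c5 LD2_c52 LD3_c43) Lrfl Lrfl
theorem f56705 : Led Lsl_at (LP (LK LD1_c11 LD2_c31 LD3_c49)) = (LP (LK LD1_c5 LD2_c52 LD3_c45)) :=
  Lre_a IH (LK LD1_c11 LD2_c31 LD3_c49) (LK LD1_c5 LD2_c52 LD3_c45) Lrfl Lrfl
theorem f56706 : Led Lsl_at (LP (LK LD1_c5 LD2_c49 LD3_c0)) = (LP (LK LD1_c11 LD2_c27 LD3_c23)) :=
  Lre_a IH (LK LD1_c5 LD2_c49 LD3_c0) (LK LD1_c11 LD2_c27 LD3_c23) Lrfl Lrfl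
theorem f56707 : Led Lsl_df (LP (LK LD1_c11 LD2_c31 LD3_c49)) = (LP (LK LD1_c11 LD2_c27 LD3_c23)) :=
  Lgr Lrot18 (Lpr_at (f56705 IH) (Lpr_dt (K52.f56703 IH) (Lpr_at (f56706 IH) (Lpn (LP (LK LD1_c11 LD2_c27 LD3_c23))))))
theorem f56728 : Led Lsl_dt (LP (LK LD1_c11 LD2_c31 LD3_c49)) = (LP (LK LD1_c11 LD2_c27 LD3_c23)) :=
  Lgr Lrot42 (Lpr_df (f56707 IH) (Lpn (LP (LK LD1_c11 LD2_c27 LD3_c23))))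
theorem f623311 : Led Lsl_dt (LP (LK LD1_c6 LD2_c26 LD3_c33)) = (LP (LK LD1_c12 LD2_c25 LD3_c2)) :=
  Lre_d IH (LK LD1_c6 LD2_c26 LD3_c33) (LK LD1_c12 LD2_c25 LD3_c2) Lrfl Lrfl
theorem f749924 : Led Lsl_gf (LP (LK LD1_c11 LD2_c27 LD3_c23)) = (LP (LK LD1_c12 LD2_c25 LD3_c2)) :=
  Lgr Lrot134 (Lpe (f56728 IH) (Lpr_et (f56730 IH) (Lpr_gt (K52.f505706 IH) (Lpr_ef (f741673 IH) (Lpr_dt (f749921 IH) (Lpe (f722368 IH) (Lpr_df (f648657 IH) (Lpe (f648655 IH) (Lpr_gt (K56.f69120 IH) (Lpr_dt (f623311 IH) (Lpn (LP (LK LD1_c12 LD2_c25 LD3_c2)))))))))))))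
theorem f56734 : Led Lsl_ct (LP (LK LD1_c11 LD2_c27 LD3_c23)) = (LP (LK LD1_c20 LD2_c25 LD3_c22)) :=
  Lre_c IH (LK LD1_c11 LD2_c27 LD3_c23) (LK LD1_c20 LD2_c25 LD3_c22) Lrfl Lrfl
theorem f623271 : Led Lsl_bt (LP (LK LD1_c3 LD2_c11 LD3_c11)) = (LP (LK LD1_c6 LD2_c26 LD3_c35)) :=
  Lre_b IH (LK LD1_c3 LD2_c11 LD3_c11) (LK LD1_c6 LD2_c26 LD3_c35) Lrfl Lrfl
theorem f416641 : Led Lsl_bt (LP (LK LD1_c5 LD2_c48 LD3_c56)) = (LP (LK LD1_c2 LD2_c50 LD3_c30)) :=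
  Lre_b IH (LK LD1_c5 LD2_c48 LD3_c56) (LK LD1_c2 LD2_c50 LD3_c30) Lrfl Lrfl
theorem f623272 : Led Lsl_ft (LP (LK LD1_c6 LD2_c26 LD3_c35)) = (LP (LK LD1_c5 LD2_c48 LD3_c56)) :=
  Lgr Lrot75 (Lpe (f623271 IH) (Lpr_ff (K56.f623267 IH) (Lpe (f416641 IH) (Lpn (LP (LK LD1_c5 LD2_c48 LD3_c56))))))
theorem f623277 : Led Lsl_dt (LP (LK LD1_c3 LD2_c11 LD3_c10)) = (LP (LK LD1_c6 LD2_c26 LD3_c35)) :=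
  Lre_d IH (LK LD1_c3 LD2_c11 LD3_c10) (LK LD1_c6 LD2_c26 LD3_c35) Lrfl Lrfl
theorem f438396 : Led Lsl_dt (LP (LK LD1_c5 LD2_c48 LD3_c56)) = (LP (LK LD1_c2 LD2_c50 LD3_c29)) :=
  Lre_d IH (LK LD1_c5 LD2_c48 LD3_c56) (LK LD1_c2 LD2_c50 LD3_c29) Lrfl Lrfl
theorem f623278 : Led Lsl_ff (LP (LK LD1_c3 LD2_c11 LD3_c10)) = (LP (LK LD1_c2 LD2_c50 LD3_c29)) :=
  Lgr Lrot19 (Lpr_dt (f623277 IH) (Lpr_ft (f623272 IH) (Lpr_dt (f438396 IH) (Lpn (LP (LK LD1_c2 LD2_c50 LD3_c29))))))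
theorem f623294 : Led Lsl_ft (LP (LK LD1_c3 LD2_c11 LD3_c10)) = (LP (LK LD1_c2 LD2_c50 LD3_c29)) :=
  Lgr Lrot48 (Lpr_ff (f623278 IH) (Lpn (LP (LK LD1_c2 LD2_c50 LD3_c29))))
theorem f496152 : Led Lsl_at (LP (LK LD1_c2 LD2_c50 LD3_c29)) = (LP (LK LD1_c5 LD2_c48 LD3_c54)) :=
  Lre_a IH (LK LD1_c2 LD2_c50 LD3_c29) (LK LD1_c5 LD2_c48 LD3_c54) Lrfl Lrfl
theorem f623304 : Led Lsl_gt (LP (LK LD1_c6 LD2_c26 LD3_c33)) = (LP (LK LD1_c5 LD2_c48 LD3_c54)) :=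
  Lgr Lrot46 (Lpe (K56.f69120 IH) (Lpr_ft (f623294 IH) (Lpr_at (f496152 IH) (Lpn (LP (LK LD1_c5 LD2_c48 LD3_c54))))))
def v15859 : LQ := Led Lsl_ct (LP (LK LD1_c5 LD2_c48 LD3_c54))
theorem f743932 : Led Lsl_ct (LP (LK LD1_c5 LD2_c48 LD3_c54)) = v15859 :=
  Lrfl
theorem f623164 : Led Lsl_at (LP (LK LD1_c12 LD2_c25 LD3_c35)) = (LP (LK LD1_c6 LD2_c26 LD3_c57)) :=
  Lre_a IH (LK LD1_c12 LD2_c25 LD3_c35) (LK LD1_c6 LD2_c26 LD3_c57) Lrfl Lrfl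
theorem f623165 : Led Lsl_bt (LP (LK LD1_c2 LD2_c50 LD3_c30)) = (LP (LK LD1_c5 LD2_c48 LD3_c56)) :=
  Lre_b IH (LK LD1_c2 LD2_c50 LD3_c30) (LK LD1_c5 LD2_c48 LD3_c56) Lrfl Lrfl
theorem f623166 : Led Lsl_at (LP (LK LD1_c5 LD2_c48 LD3_c56)) = (LP (LK LD1_c11 LD2_c27 LD3_c10)) :=
  Lre_a IH (LK LD1_c5 LD2_c48 LD3_c56) (LK LD1_c11 LD2_c27 LD3_c10) Lrfl Lrfl
theorem f623167 : Led Lsl_bf (LP (LK LD1_c12 LD2_c25 LD3_c35)) = (LP (LK LD1_c11 LD2_c27 LD3_c10)) :=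
  Lgr Lrot81 (Lpr_at (f623164 IH) (Lpr_bt (K51.f438577 IH) (Lpr_at (K51.f623160 IH) (Lpr_bt (f623165 IH) (Lpr_at (f623166 IH) (Lpn (LP (LK LD1_c11 LD2_c27 LD3_c10))))))))
theorem f623194 : Led Lsl_dt (LP (LK LD1_c12 LD2_c25 LD3_c35)) = (LP (LK LD1_c6 LD2_c26 LD3_c56)) :=
  Lre_d IH (LK LD1_c12 LD2_c25 LD3_c35) (LK LD1_c6 LD2_c26 LD3_c56) Lrfl Lrfl
theorem f623251 : Led Lsl_dt (LP (LK LD1_c5 LD2_c48 LD3_c54)) = (LP (LK LD1_c11 LD2_c27 LD3_c10)) :=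
  Lre_d IH (LK LD1_c5 LD2_c48 LD3_c54) (LK LD1_c11 LD2_c27 LD3_c10) Lrfl Lrfl
theorem f623252 : Led Lsl_bt (LP (LK LD1_c6 LD2_c26 LD3_c56)) = (LP (LK LD1_c5 LD2_c48 LD3_c54)) :=
  Lgr Lrot95 (Lpe (f623194 IH) (Lpr_bf (f623167 IH) (Lpe (f623251 IH) (Lpn (LP (LK LD1_c5 LD2_c48 LD3_c54))))))
theorem f623255 : Led Lsl_bf (LP (LK LD1_c6 LD2_c26 LD3_c56)) = (LP (LK LD1_c5 LD2_c48 LD3_c54)) :=
  Lgr Lrot24 (Lpr_bt (f623252 IH) (Lpn (LP (LK LD1_c5 LD2_c48 LD3_c54))))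
theorem f743936 : Led Lsl_gf (LP (LK LD1_c6 LD2_c50 LD3_c25)) = v15859 :=
  Lgr Lrot126 (Lpe (K35.f40613 IH) (Lpr_bt (K55.f40611 IH) (Lpr_gt (K50.f40625 IH) (Lpr_ct (K51.f40635 IH) (Lpe (K50.f700254 IH) (Lpr_cf (K4.f57002 IH) (Lpr_bt (K4.f57038 IH) (Lpqs (K51.f669416 IH) (Lpe (K51.f640530 IH) (Lpr_bf (f623255 IH) (Lpr_ct (f743932 IH) (Lpn v15859))))))))))))
theorem f40622 : Led Lsl_dt (LP (LK LD1_c9 LD2_c11 LD3_c12)) = (LP (LK LD1_c4 LD2_c37 LD3_c47)) :=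
  Lre_d IH (LK LD1_c9 LD2_c11 LD3_c12) (LK LD1_c4 LD2_c37 LD3_c47) Lrfl Lrfl
theorem f40624 : Led Lsl_ct (LP (LK LD1_c17 LD2_c4 LD3_c43)) = (LP (LK LD1_c9 LD2_c11 LD3_c12)) :=
  Lre_c IH (LK LD1_c17 LD2_c4 LD3_c43) (LK LD1_c9 LD2_c11 LD3_c12) Lrfl Lrfl
theorem f749931 : Led Lsl_gt (LP (LK LD1_c20 LD2_c25 LD3_c22)) = (LP (LK LD1_c17 LD2_c4 LD3_c43)) :=
  Lgr Lrot150 (Lpe (f56734 IH) (Lpr_gf (f749924 IH) (Lpe (f623311 IH) (Lpr_gt (f623304 IH) (Lpr_ct (f743932 IH) (Lpe (f743936 IH) (Lpe (K35.f40605 IH) (Lpe (f40622 IH) (Lpe (f40624 IH) (Lpn (LP (LK LD1_c17 LD2_c4 LD3_c43))))))))))))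
theorem f40634 : Led Lsl_ft (LP (LK LD1_c9 LD2_c11 LD3_c12)) = (LP (LK LD1_c17 LD2_c4 LD3_c44)) :=
  Lre_f IH (LK LD1_c9 LD2_c11 LD3_c12) (LK LD1_c17 LD2_c4 LD3_c44) Lrfl Lrfl
theorem f645247 : Led Lsl_ft (LP (LK LD1_c20 LD2_c25 LD3_c23)) = (LP (LK LD1_c17 LD2_c4 LD3_c43)) :=
  Lgr Lrot4 (Lpr_cf (K46.f645228 IH) (Lpe (f40634 IH) (Lpe (f40624 IH) (Lpn (LP (LK LD1_c17 LD2_c4 LD3_c43))))))
theorem f204693 : Led Lsl_et (LP (LK LD1_c12 LD2_c10 LD3_c29)) = (LP (LK LD1_c6 LD2_c16 LD3_c42)) :=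
  Lre_e IH (LK LD1_c12 LD2_c10 LD3_c29) (LK LD1_c6 LD2_c16 LD3_c42) Lrfl Lrfl
theorem f615719 : Led Lsl_at (LP (LK LD1_c17 LD2_c4 LD3_c43)) = (LP (LK LD1_c12 LD2_c10 LD3_c29)) :=
  Lgr Lrot80 (Lpr_ef (K56.f615717 IH) (Lpe (K42.f568290 IH) (Lpe (f204693 IH) (Lpn (LP (LK LD1_c12 LD2_c10 LD3_c29))))))
theorem f645255 : Led Lsl_gt (LP (LK LD1_c11 LD2_c27 LD3_c24)) = (LP (LK LD1_c12 LD2_c10 LD3_c29)) :=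
  Lgr Lrot46 (Lpe (K45.f56722 IH) (Lpr_ft (f645247 IH) (Lpr_at (f615719 IH) (Lpn (LP (LK LD1_c12 LD2_c10 LD3_c29))))))
theorem f505155 : Led Lsl_ft (LP (LK LD1_c4 LD2_c34 LD3_c6)) = (LP (LK LD1_c2 LD2_c50 LD3_c33)) :=
  Lgr Lrot54 (Lpr_df (K32.f505146 IH) (Lpe (K32.f56699 IH) (Lpr_df (K24.f56695 IH) (Lpn (LP (LK LD1_c2 LD2_c50 LD3_c33))))))
theorem f505159 : Led Lsl_ff (LP (LK LD1_c4 LD2_c34 LD3_c6)) = (LP (LK LD1_c2 LD2_c50 LD3_c33)) :=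
  Lgr Lrot3 (Lpr_ft (f505155 IH) (Lpn (LP (LK LD1_c2 LD2_c50 LD3_c33))))
theorem f505150 : Led Lsl_bt (LP (LK LD1_c4 LD2_c34 LD3_c6)) = (LP (LK LD1_c9 LD2_c5 LD3_c40)) :=
  Lre_b IH (LK LD1_c4 LD2_c34 LD3_c6) (LK LD1_c9 LD2_c5 LD3_c40) Lrfl Lrfl
theorem f505161 : Led Lsl_ft (LP (LK LD1_c9 LD2_c5 LD3_c40)) = (LP (LK LD1_c5 LD2_c49 LD3_c0)) :=
  Lgr Lrot75 (Lpe (f505150 IH) (Lpr_ff (f505159 IH) (Lpe (K45.f56702 IH) (Lpn (LP (LK LD1_c5 LD2_c49 LD3_c0))))))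
theorem f437491 : Led Lsl_ct (LP (LK LD1_c16 LD2_c57 LD3_c31)) = (LP (LK LD1_c9 LD2_c5 LD3_c40)) :=
  Lre_c IH (LK LD1_c16 LD2_c57 LD3_c31) (LK LD1_c9 LD2_c5 LD3_c40) Lrfl Lrfl
theorem f505163 : Led Lsl_ff (LP (LK LD1_c16 LD2_c57 LD3_c31)) = (LP (LK LD1_c11 LD2_c27 LD3_c24)) :=
  Lgr Lrot23 (Lpr_ct (f437491 IH) (Lpr_ft (f505161 IH) (Lpr_ct (K45.f56710 IH) (Lpn (LP (LK LD1_c11 LD2_c27 LD3_c24))))))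
theorem f204711 : Led Lsl_gt (LP (LK LD1_c12 LD2_c10 LD3_c29)) = (LP (LK LD1_c21 LD2_c16 LD3_c10)) :=
  Lre_g IH (LK LD1_c12 LD2_c10 LD3_c29) (LK LD1_c21 LD2_c16 LD3_c10) Lrfl Lrfl
theorem f645257 : Led Lsl_at (LP (LK LD1_c16 LD2_c57 LD3_c31)) = (LP (LK LD1_c21 LD2_c16 LD3_c10)) :=
  Lgr Lrot26 (Lpr_ff (f505163 IH) (Lpr_gt (f645255 IH) (Lpr_gt (f204711 IH) (Lpn (LP (LK LD1_c21 LD2_c16 LD3_c10))))))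
theorem f56716 : Led Lsl_at (LP (LK LD1_c20 LD2_c25 LD3_c22)) = (LP (LK LD1_c11 LD2_c27 LD3_c24)) :=
  Lre_a IH (LK LD1_c20 LD2_c25 LD3_c22) (LK LD1_c11 LD2_c27 LD3_c24) Lrfl Lrfl
theorem f645262 : Led Lsl_ff (LP (LK LD1_c20 LD2_c25 LD3_c22)) = (LP (LK LD1_c21 LD2_c16 LD3_c10)) :=
  Lgr Lrot30 (Lpr_at (f56716 IH) (Lpe (f505163 IH) (Lpr_at (f645257 IH) (Lpn (LP (LK LD1_c21 LD2_c16 LD3_c10))))))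
theorem f645264 : Led Lsl_ft (LP (LK LD1_c20 LD2_c25 LD3_c22)) = (LP (LK LD1_c21 LD2_c16 LD3_c10)) :=
  Lgr Lrot48 (Lpr_ff (f645262 IH) (Lpn (LP (LK LD1_c21 LD2_c16 LD3_c10))))
theorem f645260 : Led Lsl_af (LP (LK LD1_c16 LD2_c57 LD3_c31)) = (LP (LK LD1_c21 LD2_c16 LD3_c10)) :=
  Lgr Lrot0 (Lpr_at (f645257 IH) (Lpn (LP (LK LD1_c21 LD2_c16 LD3_c10))))
theorem f749935 : Led Lsl_gf (LP (LK LD1_c16 LD2_c57 LD3_c31)) = (LP (LK LD1_c17 LD2_c4 LD3_c43)) :=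
  Lgr Lrot76 (Lpr_af (f645260 IH) (Lpe (f645264 IH) (Lpr_gt (f749931 IH) (Lpn (LP (LK LD1_c17 LD2_c4 LD3_c43))))))
theorem f437492 : Led Lsl_ct (LP (LK LD1_c9 LD2_c5 LD3_c40)) = (LP (LK LD1_c16 LD2_c57 LD3_c31)) :=
  Lre_c IH (LK LD1_c9 LD2_c5 LD3_c40) (LK LD1_c16 LD2_c57 LD3_c31) Lrfl Lrfl
theorem f437490 : Led Lsl_bt (LP (LK LD1_c9 LD2_c5 LD3_c40)) = (LP (LK LD1_c4 LD2_c34 LD3_c6)) :=
  Lre_b IH (LK LD1_c9 LD2_c5 LD3_c40) (LK LD1_c4 LD2_c34 LD3_c6) Lrfl Lrfl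
theorem f122931 : Led Lsl_bt (LP (LK LD1_c1 LD2_c54 LD3_c10)) = (LP (LK LD1_c1 LD2_c53 LD3_c45)) :=
  Lgr Lrot127 (Lpr_bf (K6.f122913 IH) (Lpn (LP (LK LD1_c1 LD2_c53 LD3_c45))))
theorem f123008 : Led Lsl_at (LP (LK LD1_c3 LD2_c54 LD3_c50)) = (LP (LK LD1_c1 LD2_c54 LD3_c10)) :=
  Lre_a IH (LK LD1_c3 LD2_c54 LD3_c50) (LK LD1_c1 LD2_c54 LD3_c10) Lrfl Lrfl
theorem f123009 : Led Lsl_bt (LP (LK LD1_c7 LD2_c51 LD3_c15)) = (LP (LK LD1_c3 LD2_c54 LD3_c50)) :=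
  Lre_b IH (LK LD1_c7 LD2_c51 LD3_c15) (LK LD1_c3 LD2_c54 LD3_c50) Lrfl Lrfl
theorem f544114 : Led Lsl_af (LP (LK LD1_c7 LD2_c51 LD3_c15)) = (LP (LK LD1_c5 LD2_c48 LD3_c36)) :=
  Lgr Lrot36 (Lpr_bt (f123009 IH) (Lpr_at (f123008 IH) (Lpr_bt (f122931 IH) (Lpr_at (K50.f123010 IH) (Lpr_bt (K37.f544111 IH) (Lpn (LP (LK LD1_c5 LD2_c48 LD3_c36))))))))
theorem f615636 : Led Lsl_ft (LP (LK LD1_c11 LD2_c26 LD3_c47)) = (LP (LK LD1_c5 LD2_c48 LD3_c36)) :=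
  Lre_f IH (LK LD1_c11 LD2_c26 LD3_c47) (LK LD1_c5 LD2_c48 LD3_c36) Lrfl Lrfl
theorem f621863 : Led Lsl_gf (LP (LK LD1_c14 LD2_c48 LD3_c54)) = (LP (LK LD1_c11 LD2_c26 LD3_c47)) :=
  Lgr Lrot47 (Lpr_gt (K56.f144638 IH) (Lpr_af (f544114 IH) (Lpe (f615636 IH) (Lpn (LP (LK LD1_c11 LD2_c26 LD3_c47))))))
theorem f40623 : Led Lsl_gt (LP (LK LD1_c17 LD2_c4 LD3_c42)) = (LP (LK LD1_c9 LD2_c11 LD3_c12)) :=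
  Lre_g IH (LK LD1_c17 LD2_c4 LD3_c42) (LK LD1_c9 LD2_c11 LD3_c12) Lrfl Lrfl
theorem f749942 : Led Lsl_bt (LP (LK LD1_c20 LD2_c41 LD3_c60)) = (LP (LK LD1_c17 LD2_c4 LD3_c42)) :=
  Lgr Lrot130 (Lpe (K56.f698888 IH) (Lpr_gf (f621863 IH) (Lpe (K48.f146524 IH) (Lpr_bt (K48.f146420 IH) (Lpe (K32.f437488 IH) (Lpe (f437490 IH) (Lpr_ct (f437492 IH) (Lpr_gf (f749935 IH) (Lpe (K56.f40616 IH) (Lpe (f40623 IH) (Lpn (LP (LK LD1_c17 LD2_c4 LD3_c42)))))))))))))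
theorem f80198 : Led Lsl_gt (LP (LK LD1_c9 LD2_c11 LD3_c26)) = (LP (LK LD1_c17 LD2_c4 LD3_c59)) :=
  Lre_g IH (LK LD1_c9 LD2_c11 LD3_c26) (LK LD1_c17 LD2_c4 LD3_c59) Lrfl Lrfl
theorem f207151 : Led Lsl_ct (LP (LK LD1_c12 LD2_c53 LD3_c57)) = (LP (LK LD1_c6 LD2_c44 LD3_c44)) :=
  Lre_c IH (LK LD1_c12 LD2_c53 LD3_c57) (LK LD1_c6 LD2_c44 LD3_c44) Lrfl Lrfl
theorem f207170 : Led Lsl_gt (LP (LK LD1_c17 LD2_c4 LD3_c59)) = (LP (LK LD1_c12 LD2_c53 LD3_c57)) :=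
  Lgr Lrot46 (Lpe (f80198 IH) (Lpr_ft (K35.f80196 IH) (Lpr_at (K35.f207157 IH) (Lpn (LP (LK LD1_c12 LD2_c53 LD3_c57))))))
theorem f75498 : Led Lsl_gt (LP (LK LD1_c9 LD2_c49 LD3_c5)) = (LP (LK LD1_c17 LD2_c59 LD3_c30)) :=
  Lre_g IH (LK LD1_c9 LD2_c49 LD3_c5) (LK LD1_c17 LD2_c59 LD3_c30) Lrfl Lrfl
theorem f743800 : Led Lsl_cf (LP (LK LD1_c17 LD2_c4 LD3_c59)) = (LP (LK LD1_c17 LD2_c59 LD3_c30)) :=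
  Lgr Lrot169 (Lpr_gt (f207170 IH) (Lpr_ct (f207151 IH) (Lpe (K35.f207156 IH) (Lpe (K55.f207135 IH) (Lpe (K55.f207247 IH) (Lpr_cf (K55.f741852 IH) (Lpq (K55.f743565 IH) (Lpe (K55.f57005 IH) (Lpe (K8.f57011 IH) (Lpr_gt (f75498 IH) (Lpn (LP (LK LD1_c17 LD2_c59 LD3_c30)))))))))))))
theorem f749946 : Led Lsl_bf (LP (LK LD1_c11 LD2_c25 LD3_c57)) = (LP (LK LD1_c17 LD2_c59 LD3_c30)) :=
  Lgr Lrot165 (Lpr_gt (f57215 IH) (Lpr_ct (K48.f146524 IH) (Lpe (f621863 IH) (Lpr_cf (K56.f698888 IH) (Lpr_bt (f749942 IH) (Lpr_gt (f40623 IH) (Lpe (K56.f80172 IH) (Lpr_ct (K35.f80174 IH) (Lpr_gt (f80198 IH) (Lpr_cf (f743800 IH) (Lpn (LP (LK LD1_c17 LD2_c59 LD3_c30)))))))))))))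
theorem f749948 : Led Lsl_bt (LP (LK LD1_c11 LD2_c25 LD3_c57)) = (LP (LK LD1_c17 LD2_c59 LD3_c30)) :=
  Lgr Lrot127 (Lpr_bf (f749946 IH) (Lpn (LP (LK LD1_c17 LD2_c59 LD3_c30))))
theorem f755502 : Led Lsl_ff (LP (LK LD1_c11 LD2_c26 LD3_c41)) = (LP (LK LD1_c17 LD2_c59 LD3_c30)) :=
  Lgr Lrot25 (Lpr_bt (K46.f57522 IH) (Lpr_ft (f743873 IH) (Lpqs (f755497 IH) (Lpr_bt (f749948 IH) (Lpn (LP (LK LD1_c17 LD2_c59 LD3_c30)))))))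
theorem f142044 : Led Lsl_ef (LP (LK LD1_c11 LD2_c25 LD3_c24)) = (LP (LK LD1_c17 LD2_c5 LD3_c23)) :=
  Lgr Lrot73 (Lpr_dt (K41.f142042 IH) (Lpr_et (K41.f142041 IH) (Lpr_dt (K8.f142036 IH) (Lpr_et (K32.f142043 IH) (Lpr_dt (K52.f135965 IH) (Lpn (LP (LK LD1_c17 LD2_c5 LD3_c23))))))))
theorem f142068 : Led Lsl_et (LP (LK LD1_c11 LD2_c25 LD3_c24)) = (LP (LK LD1_c17 LD2_c5 LD3_c23)) :=
  Lgr Lrot87 (Lpr_ef (f142044 IH) (Lpn (LP (LK LD1_c17 LD2_c5 LD3_c23))))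
theorem f75473 : Led Lsl_bt (LP (LK LD1_c4 LD2_c59 LD3_c28)) = (LP (LK LD1_c9 LD2_c49 LD3_c5)) :=
  Lre_b IH (LK LD1_c4 LD2_c59 LD3_c28) (LK LD1_c9 LD2_c49 LD3_c5) Lrfl Lrfl
theorem f75475 : Led Lsl_et (LP (LK LD1_c9 LD2_c49 LD3_c5)) = (LP (LK LD1_c11 LD2_c51 LD3_c59)) :=
  Lgr Lrot74 (Lpe (f75473 IH) (Lpr_ef (K8.f75446 IH) (Lpe (K32.f75474 IH) (Lpn (LP (LK LD1_c11 LD2_c51 LD3_c59))))))
theorem f499304 : Led Lsl_at (LP (LK LD1_c17 LD2_c5 LD3_c23)) = (LP (LK LD1_c9 LD2_c49 LD3_c5)) :=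
  Lgr Lrot80 (Lpe (f142068 IH) (Lpr_af (K41.f499300 IH) (Lpe (f75475 IH) (Lpn (LP (LK LD1_c9 LD2_c49 LD3_c5))))))
theorem f142070 : Led Lsl_ft (LP (LK LD1_c26 LD2_c59 LD3_c5)) = (LP (LK LD1_c17 LD2_c5 LD3_c23)) :=
  Lre_f IH (LK LD1_c26 LD2_c59 LD3_c5) (LK LD1_c17 LD2_c5 LD3_c23) Lrfl Lrfl
theorem f57084 : Led Lsl_ft (LP (LK LD1_c9 LD2_c49 LD3_c5)) = (LP (LK LD1_c17 LD2_c59 LD3_c33)) :=
  Lre_f IH (LK LD1_c9 LD2_c49 LD3_c5) (LK LD1_c17 LD2_c59 LD3_c33) Lrfl Lrfl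
theorem f499306 : Led Lsl_af (LP (LK LD1_c26 LD2_c59 LD3_c5)) = (LP (LK LD1_c17 LD2_c59 LD3_c33)) :=
  Lgr Lrot45 (Lpr_ft (f142070 IH) (Lpr_at (f499304 IH) (Lpr_ft (f57084 IH) (Lpn (LP (LK LD1_c17 LD2_c59 LD3_c33))))))
theorem f499311 : Led Lsl_gf (LP (LK LD1_c26 LD2_c59 LD3_c5)) = (LP (LK LD1_c17 LD2_c59 LD3_c30)) :=
  Lgr Lrot76 (Lpr_af (f499306 IH) (Lpe (f57084 IH) (Lpr_gt (f75498 IH) (Lpn (LP (LK LD1_c17 LD2_c59 LD3_c30))))))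
theorem f57012 : Led Lsl_gt (LP (LK LD1_c17 LD2_c59 LD3_c31)) = (LP (LK LD1_c9 LD2_c49 LD3_c5)) :=
  Lre_g IH (LK LD1_c17 LD2_c59 LD3_c31) (LK LD1_c9 LD2_c49 LD3_c5) Lrfl Lrfl
theorem f499308 : Led Lsl_gt (LP (LK LD1_c26 LD2_c59 LD3_c5)) = (LP (LK LD1_c17 LD2_c59 LD3_c31)) :=
  Lgr Lrot5 (Lpr_ft (f142070 IH) (Lpr_at (f499304 IH) (Lpe (f57012 IH) (Lpn (LP (LK LD1_c17 LD2_c59 LD3_c31))))))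
theorem f755620 : Led Lsl_at (LP (LK LD1_c11 LD2_c26 LD3_c41)) = (LP (LK LD1_c17 LD2_c59 LD3_c31)) :=
  Lgr Lrot26 (Lpr_ff (f755502 IH) (Lpe (f499311 IH) (Lpr_gt (f499308 IH) (Lpn (LP (LK LD1_c17 LD2_c59 LD3_c31))))))
theorem f741854 : Led Lsl_ct (LP (LK LD1_c9 LD2_c11 LD3_c17)) = K55.v15818 :=
  Lgr Lrot59 (Lpr_cf (K55.f741852 IH) (Lpn K55.v15818))
theorem f207231 : Led Lsl_dt (LP (LK LD1_c6 LD2_c44 LD3_c39)) = (LP (LK LD1_c12 LD2_c53 LD3_c48)) :=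
  Lre_d IH (LK LD1_c6 LD2_c44 LD3_c39) (LK LD1_c12 LD2_c53 LD3_c48) Lrfl Lrfl
theorem f207084 : Led Lsl_af (LP (LK LD1_c9 LD2_c11 LD3_c19)) = (LP (LK LD1_c6 LD2_c44 LD3_c38)) :=
  Lgr Lrot0 (Lpr_at (K35.f207082 IH) (Lpn (LP (LK LD1_c6 LD2_c44 LD3_c38))))
theorem f148811 : Led Lsl_gt (LP (LK LD1_c17 LD2_c4 LD3_c52)) = (LP (LK LD1_c9 LD2_c11 LD3_c19)) :=
  Lre_g IH (LK LD1_c17 LD2_c4 LD3_c52) (LK LD1_c9 LD2_c11 LD3_c19) Lrfl Lrfl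
theorem f207226 : Led Lsl_ft (LP (LK LD1_c12 LD2_c53 LD3_c48)) = (LP (LK LD1_c6 LD2_c44 LD3_c38)) :=
  Lre_f IH (LK LD1_c12 LD2_c53 LD3_c48) (LK LD1_c6 LD2_c44 LD3_c38) Lrfl Lrfl
theorem f207277 : Led Lsl_gf (LP (LK LD1_c17 LD2_c4 LD3_c52)) = (LP (LK LD1_c12 LD2_c53 LD3_c48)) :=
  Lgr Lrot47 (Lpr_gt (f148811 IH) (Lpr_af (f207084 IH) (Lpe (f207226 IH) (Lpn (LP (LK LD1_c12 LD2_c53 LD3_c48))))))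
theorem f148807 : Led Lsl_gt (LP (LK LD1_c4 LD2_c37 LD3_c32)) = (LP (LK LD1_c9 LD2_c10 LD3_c40)) :=
  Lre_g IH (LK LD1_c4 LD2_c37 LD3_c32) (LK LD1_c9 LD2_c10 LD3_c40) Lrfl Lrfl
theorem f148808 : Led Lsl_et (LP (LK LD1_c17 LD2_c3 LD3_c55)) = (LP (LK LD1_c9 LD2_c10 LD3_c40)) :=
  Lre_e IH (LK LD1_c17 LD2_c3 LD3_c55) (LK LD1_c9 LD2_c10 LD3_c40) Lrfl Lrfl
theorem f148809 : Led Lsl_et (LP (LK LD1_c4 LD2_c37 LD3_c50)) = (LP (LK LD1_c2 LD2_c16 LD3_c4)) :=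
  Lre_e IH (LK LD1_c4 LD2_c37 LD3_c50) (LK LD1_c2 LD2_c16 LD3_c4) Lrfl Lrfl
theorem f148812 : Led Lsl_dt (LP (LK LD1_c17 LD2_c3 LD3_c55)) = (LP (LK LD1_c17 LD2_c4 LD3_c52)) :=
  Lgr Lrot136 (Lpr_et (f148808 IH) (Lpe (f148807 IH) (Lpe (f148806 IH) (Lpr_dt (K6.f99929 IH) (Lpr_gf (K7.f141381 IH) (Lpr_df (K7.f148794 IH) (Lpe (K5.f99567 IH) (Lpe (f148809 IH) (Lpr_dt (K35.f148810 IH) (Lpe (f148811 IH) (Lpn (LP (LK LD1_c17 LD2_c4 LD3_c52)))))))))))))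
theorem f148820 : Led Lsl_df (LP (LK LD1_c17 LD2_c3 LD3_c55)) = (LP (LK LD1_c17 LD2_c4 LD3_c52)) :=
  Lgr Lrot38 (Lpr_dt (f148812 IH) (Lpn (LP (LK LD1_c17 LD2_c4 LD3_c52))))
theorem f148819 : Led Lsl_ct (LP (LK LD1_c26 LD2_c58 LD3_c19)) = (LP (LK LD1_c17 LD2_c3 LD3_c55)) :=
  Lre_c IH (LK LD1_c26 LD2_c58 LD3_c19) (LK LD1_c17 LD2_c3 LD3_c55) Lrfl Lrfl
theorem f743752 : Led Lsl_df (LP (LK LD1_c26 LD2_c58 LD3_c19)) = (LP (LK LD1_c17 LD2_c59 LD3_c31)) :=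
  Lgr Lrot174 (Lpr_ct (f148819 IH) (Lpr_df (f148820 IH) (Lpr_gf (f207277 IH) (Lpe (f207231 IH) (Lpe (K55.f207247 IH) (Lpr_ct (f741854 IH) (Lpq (K55.f743565 IH) (Lpe (K55.f498230 IH) (Lpr_dt (K46.f498202 IH) (Lpr_gt (f499308 IH) (Lpn (LP (LK LD1_c17 LD2_c59 LD3_c31)))))))))))))
theorem f755628 : Led Lsl_af (LP (LK LD1_c20 LD2_c24 LD3_c36)) = (LP (LK LD1_c26 LD2_c58 LD3_c19)) :=
  Lgr Lrot117 (Lpr_dt (K52.f645239 IH) (Lpr_at (f755620 IH) (Lpe (f743752 IH) (Lpn (LP (LK LD1_c26 LD2_c58 LD3_c19))))))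
theorem f743757 : Led Lsl_et (LP (LK LD1_c17 LD2_c3 LD3_c53)) = (LP (LK LD1_c26 LD2_c58 LD3_c19)) :=
  Lre_e IH (LK LD1_c17 LD2_c3 LD3_c53) (LK LD1_c26 LD2_c58 LD3_c19) Lrfl Lrfl
theorem f755634 : Led Lsl_at (LP (LK LD1_c16 LD2_c29 LD3_c56)) = (LP (LK LD1_c17 LD2_c3 LD3_c53)) :=
  Lgr Lrot80 (Lpr_ef (K52.f700530 IH) (Lpr_af (f755628 IH) (Lpe (f743757 IH) (Lpn (LP (LK LD1_c17 LD2_c3 LD3_c53))))))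
theorem f743754 : Led Lsl_dt (LP (LK LD1_c26 LD2_c58 LD3_c19)) = (LP (LK LD1_c17 LD2_c59 LD3_c31)) :=
  Lgr Lrot42 (Lpr_df (f743752 IH) (Lpn (LP (LK LD1_c17 LD2_c59 LD3_c31))))
theorem f743756 : Led Lsl_et (LP (LK LD1_c26 LD2_c58 LD3_c19)) = (LP (LK LD1_c17 LD2_c3 LD3_c53)) :=
  Lre_e IH (LK LD1_c26 LD2_c58 LD3_c19) (LK LD1_c17 LD2_c3 LD3_c53) Lrfl Lrfl
theorem f743760 : Led Lsl_gf (LP (LK LD1_c17 LD2_c3 LD3_c53)) = (LP (LK LD1_c11 LD2_c25 LD3_c27)) :=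
  Lgr Lrot141 (Lpe (f743756 IH) (Lpr_dt (f743754 IH) (Lpr_gt (f57012 IH) (Lpe (K52.f56998 IH) (Lpr_et (K4.f56854 IH) (Lpe (K7.f148910 IH) (Lpr_dt (K5.f130553 IH) (Lpr_gt (K8.f148938 IH) (Lpr_df (K8.f158139 IH) (Lpr_et (K42.f142104 IH) (Lpn (LP (LK LD1_c11 LD2_c25 LD3_c27)))))))))))))
theorem f755640 : Led Lsl_ff (LP (LK LD1_c16 LD2_c29 LD3_c56)) = (LP (LK LD1_c9 LD2_c6 LD3_c31)) :=
  Lgr Lrot52 (Lpr_at (f755634 IH) (Lpr_gf (f743760 IH) (Lpe (K55.f711489 IH) (Lpn (LP (LK LD1_c9 LD2_c6 LD3_c31))))))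
def v12934 : LQ := Led Lsl_at (LP (LK LD1_c4 LD2_c34 LD3_c54))
theorem f699674 : Led Lsl_at (LP (LK LD1_c4 LD2_c34 LD3_c54)) = v12934 :=
  Lrfl
theorem f699675 : Led Lsl_af (LP (LK LD1_c4 LD2_c34 LD3_c54)) = v12934 :=
  Lgr Lrot0 (Lpr_at (f699674 IH) (Lpn v12934))
theorem f699676 : Led Lsl_ft (LP (LK LD1_c4 LD2_c34 LD3_c55)) = v12934 :=
  Lgr Lrot2 (Lpr_gt (K52.f25230 IH) (Lpr_gt (K52.f25233 IH) (Lpr_af (f699675 IH) (Lpn v12934))))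
theorem f699678 : Led Lsl_ff (LP (LK LD1_c4 LD2_c34 LD3_c55)) = v12934 :=
  Lgr Lrot3 (Lpr_ft (f699676 IH) (Lpn v12934))
theorem f755648 : (LP (LK LD1_c9 LD2_c6 LD3_c17)) = v12934 :=
  (Llr Lrot35 (Lpe (K55.f700532 IH) (Lpr_ff (f755640 IH) (Lpe (K55.f699679 IH) (Lpr_ff (f699678 IH) (Lpn v12934)))))).symm
theorem f755653 : Led Lsl_ff (LP (LK LD1_c9 LD2_c6 LD3_c32)) = (LP (LK LD1_c11 LD2_c41 LD3_c48)) :=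
  Lgr Lrot23 (Lpr_ct (K52.f25282 IH) (Lpr_ft (f699676 IH) (Lpq (f755648 IH) (Lpe (K52.f643598 IH) (Lpn (LP (LK LD1_c11 LD2_c41 LD3_c48)))))))
theorem f755659 : Led Lsl_at (LP (LK LD1_c9 LD2_c6 LD3_c32)) = (LP (LK LD1_c11 LD2_c41 LD3_c49)) :=
  Lgr Lrot26 (Lpr_ff (f755653 IH) (Lpe (K52.f426767 IH) (Lpr_gt (K52.f426827 IH) (Lpn (LP (LK LD1_c11 LD2_c41 LD3_c49))))))
theorem f755466 : Led Lsl_ff (LP (LK LD1_c9 LD2_c6 LD3_c28)) = (LP (LK LD1_c11 LD2_c41 LD3_c49)) :=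
  Lgr Lrot23 (Lpr_ct (K52.f25286 IH) (Lpr_ft (f699682 IH) (Lpq (f755461 IH) (Lpe (K48.f645089 IH) (Lpn (LP (LK LD1_c11 LD2_c41 LD3_c49)))))))
theorem f755667 : Led Lsl_af (LP (LK LD1_c11 LD2_c41 LD3_c48)) = (LP (LK LD1_c9 LD2_c6 LD3_c28)) :=
  Lgr Lrot45 (Lpe (f755653 IH) (Lpr_at (f755659 IH) (Lpe (f755466 IH) (Lpn (LP (LK LD1_c9 LD2_c6 LD3_c28))))))
theorem f151720 : Led Lsl_ct (LP (LK LD1_c20 LD2_c24 LD3_c39)) = (LP (LK LD1_c11 LD2_c26 LD3_c43)) :=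
  Lre_c IH (LK LD1_c20 LD2_c24 LD3_c39) (LK LD1_c11 LD2_c26 LD3_c43) Lrfl Lrfl
theorem f643602 : Led Lsl_et (LP (LK LD1_c11 LD2_c41 LD3_c48)) = (LP (LK LD1_c20 LD2_c24 LD3_c39)) :=
  Lgr Lrot158 (Lpr_cf (K52.f643598 IH) (Lpr_ef (K7.f151717 IH) (Lpe (f151720 IH) (Lpn (LP (LK LD1_c20 LD2_c24 LD3_c39))))))
theorem f644871 : Led Lsl_et (LP (LK LD1_c16 LD2_c58 LD3_c23)) = (LP (LK LD1_c9 LD2_c6 LD3_c28)) :=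
  Lre_e IH (LK LD1_c16 LD2_c58 LD3_c23) (LK LD1_c9 LD2_c6 LD3_c28) Lrfl Lrfl
theorem f755673 : Led Lsl_at (LP (LK LD1_c20 LD2_c24 LD3_c39)) = (LP (LK LD1_c16 LD2_c58 LD3_c23)) :=
  Lgr Lrot80 (Lpe (f643602 IH) (Lpr_af (f755667 IH) (Lpe (f644871 IH) (Lpn (LP (LK LD1_c16 LD2_c58 LD3_c23))))))
theorem f146513 : Led Lsl_gt (LP (LK LD1_c26 LD2_c53 LD3_c61)) = (LP (LK LD1_c16 LD2_c58 LD3_c23)) :=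
  Lre_g IH (LK LD1_c26 LD2_c53 LD3_c61) (LK LD1_c16 LD2_c58 LD3_c23) Lrfl Lrfl
theorem f753053 : Led Lsl_ft (LP (LK LD1_c11 LD2_c25 LD3_c37)) = (LP (LK LD1_c11 LD2_c29 LD3_c48)) :=
  Lgr Lrot48 (Lpr_ff (K56.f753047 IH) (Lpn (LP (LK LD1_c11 LD2_c29 LD3_c48))))
theorem f752887 : Led Lsl_ff (LP (LK LD1_c16 LD2_c57 LD3_c36)) = K56.v16931 :=
  Lgr Lrot3 (Lpr_ft (K56.f752886 IH) (Lpn K56.v16931))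
theorem f753057 : Led Lsl_cf K56.v16931 = (LP (LK LD1_c11 LD2_c29 LD3_c48)) :=
  Lgr Lrot108 (Lpe (f752887 IH) (Lpr_ct (K55.f738963 IH) (Lpr_ft (f753053 IH) (Lpn (LP (LK LD1_c11 LD2_c29 LD3_c48))))))
theorem f753063 : Led Lsl_at (LP (LK LD1_c11 LD2_c25 LD3_c38)) = (LP (LK LD1_c11 LD2_c29 LD3_c48)) :=
  Lgr Lrot107 (Lpe (K56.f712142 IH) (Lpr_af (K56.f752883 IH) (Lpr_cf (f753057 IH) (Lpn (LP (LK LD1_c11 LD2_c29 LD3_c48))))))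
theorem f753061 : Led Lsl_et (LP (LK LD1_c11 LD2_c29 LD3_c48)) = (LP (LK LD1_c20 LD2_c26 LD3_c56)) :=
  Lre_e IH (LK LD1_c11 LD2_c29 LD3_c48) (LK LD1_c20 LD2_c26 LD3_c56) Lrfl Lrfl
theorem f753180 : Led Lsl_af (LP (LK LD1_c20 LD2_c23 LD3_c5)) = (LP (LK LD1_c20 LD2_c26 LD3_c56)) :=
  Lgr Lrot50 (Lpr_et (K56.f136514 IH) (Lpr_at (f753063 IH) (Lpr_et (f753061 IH) (Lpn (LP (LK LD1_c20 LD2_c26 LD3_c56))))))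
theorem f146521 : Led Lsl_ct (LP (LK LD1_c9 LD2_c6 LD3_c30)) = (LP (LK LD1_c16 LD2_c58 LD3_c23)) :=
  Lre_c IH (LK LD1_c9 LD2_c6 LD3_c30) (LK LD1_c16 LD2_c58 LD3_c23) Lrfl Lrfl
theorem f720795 : Led Lsl_gf (LP (LK LD1_c20 LD2_c23 LD3_c5)) = (LP (LK LD1_c16 LD2_c58 LD3_c23)) :=
  Lgr Lrot129 (Lpe (K56.f712524 IH) (Lpr_bt (K56.f76033 IH) (Lpe (K55.f645056 IH) (Lpe (K41.f442911 IH) (Lpr_ct (K32.f442917 IH) (Lpr_gt (K35.f507139 IH) (Lpe (K35.f504009 IH) (Lpr_bt (K53.f503449 IH) (Lpr_gt (K53.f720789 IH) (Lpr_ct (f146521 IH) (Lpn (LP (LK LD1_c16 LD2_c58 LD3_c23)))))))))))))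
theorem f753186 : Led Lsl_ft (LP (LK LD1_c26 LD2_c53 LD3_c61)) = (LP (LK LD1_c20 LD2_c26 LD3_c56)) :=
  Lgr Lrot2 (Lpr_gt (f146513 IH) (Lpe (f720795 IH) (Lpr_af (f753180 IH) (Lpn (LP (LK LD1_c20 LD2_c26 LD3_c56))))))
theorem f669442 : Led Lsl_ft (LP (LK LD1_c20 LD2_c23 LD3_c5)) = (LP (LK LD1_c29 LD2_c25 LD3_c46)) :=
  Lre_f IH (LK LD1_c20 LD2_c23 LD3_c5) (LK LD1_c29 LD2_c25 LD3_c46) Lrfl Lrfl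
theorem f753188 : Led Lsl_af (LP (LK LD1_c26 LD2_c53 LD3_c61)) = (LP (LK LD1_c29 LD2_c25 LD3_c46)) :=
  Lgr Lrot45 (Lpr_ft (f753186 IH) (Lpe (f753180 IH) (Lpr_ft (f669442 IH) (Lpn (LP (LK LD1_c29 LD2_c25 LD3_c46))))))
theorem f669444 : Led Lsl_gt (LP (LK LD1_c20 LD2_c23 LD3_c5)) = (LP (LK LD1_c29 LD2_c25 LD3_c45)) :=
  Lre_g IH (LK LD1_c20 LD2_c23 LD3_c5) (LK LD1_c29 LD2_c25 LD3_c45) Lrfl Lrfl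
theorem f753196 : Led Lsl_gf (LP (LK LD1_c26 LD2_c53 LD3_c61)) = (LP (LK LD1_c29 LD2_c25 LD3_c45)) :=
  Lgr Lrot76 (Lpr_af (f753188 IH) (Lpe (f669442 IH) (Lpr_gt (f669444 IH) (Lpn (LP (LK LD1_c29 LD2_c25 LD3_c45))))))
theorem f755679 : Led Lsl_ff (LP (LK LD1_c20 LD2_c24 LD3_c39)) = (LP (LK LD1_c29 LD2_c25 LD3_c45)) :=
  Lgr Lrot52 (Lpr_at (f755673 IH) (Lpe (f146513 IH) (Lpr_gf (f753196 IH) (Lpn (LP (LK LD1_c29 LD2_c25 LD3_c45))))))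
theorem f643604 : Led Lsl_ef (LP (LK LD1_c11 LD2_c41 LD3_c48)) = (LP (LK LD1_c20 LD2_c24 LD3_c39)) :=
  Lgr Lrot88 (Lpr_et (f643602 IH) (Lpn (LP (LK LD1_c20 LD2_c24 LD3_c39))))
theorem f719773 : Led Lsl_et (LP (LK LD1_c9 LD2_c6 LD3_c32)) = (LP (LK LD1_c16 LD2_c58 LD3_c29)) :=
  Lre_e IH (LK LD1_c9 LD2_c6 LD3_c32) (LK LD1_c16 LD2_c58 LD3_c29) Lrfl Lrfl
theorem f755352 : Led Lsl_ft (LP (LK LD1_c16 LD2_c58 LD3_c29)) = (LP (LK LD1_c26 LD2_c54 LD3_c9)) :=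
  Lre_f IH (LK LD1_c16 LD2_c58 LD3_c29) (LK LD1_c26 LD2_c54 LD3_c9) Lrfl Lrfl
theorem f755683 : Led Lsl_et (LP (LK LD1_c26 LD2_c54 LD3_c9)) = (LP (LK LD1_c29 LD2_c25 LD3_c45)) :=
  Lgr Lrot69 (Lpe (f755352 IH) (Lpe (f719773 IH) (Lpr_ff (f755653 IH) (Lpr_ef (f643604 IH) (Lpr_ff (f755679 IH) (Lpn (LP (LK LD1_c29 LD2_c25 LD3_c45))))))))
def v13904 : LQ := Led Lsl_at (LP (LK LD1_c4 LD2_c49 LD3_c48))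
theorem f705818 : Led Lsl_at (LP (LK LD1_c4 LD2_c49 LD3_c48)) = v13904 :=
  Lrfl
theorem f710134 : K52.v12916 = v13904 :=
  Lefun (Lecon (K54.f699568 IH) (K52.f710129 IH)) (f705818 IH)
theorem f712729 : Led Lsl_at (LP (LK LD1_c6 LD2_c47 LD3_c17)) = (LP (LK LD1_c12 LD2_c44 LD3_c29)) :=
  Lgr Lrot67 (Lpe (K52.f652824 IH) (Lpq (K54.f707388 IH) (Lpqs (f710134 IH) (Lpe (f705818 IH) (Lpe (K52.f454498 IH) (Lpr_af (K53.f710165 IH) (Lpr_bf (K54.f712723 IH) (Lpn (LP (LK LD1_c12 LD2_c44 LD3_c29))))))))))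
theorem f710195 : Led Lsl_ft (LP (LK LD1_c9 LD2_c5 LD3_c54)) = (LP (LK LD1_c6 LD2_c47 LD3_c17)) :=
  Lgr Lrot4 (Lpr_cf (K5.f130570 IH) (Lpr_ff (K53.f710191 IH) (Lpe (K54.f454464 IH) (Lpn (LP (LK LD1_c6 LD2_c47 LD3_c17))))))
theorem f624496 : Led Lsl_gt (LP (LK LD1_c6 LD2_c39 LD3_c23)) = (LP (LK LD1_c12 LD2_c44 LD3_c29)) :=
  Lre_g IH (LK LD1_c6 LD2_c39 LD3_c23) (LK LD1_c12 LD2_c44 LD3_c29) Lrfl Lrfl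
theorem f712899 : Led Lsl_gt (LP (LK LD1_c9 LD2_c5 LD3_c54)) = (LP (LK LD1_c6 LD2_c39 LD3_c23)) :=
  Lgr Lrot5 (Lpr_ft (f710195 IH) (Lpr_at (f712729 IH) (Lpe (f624496 IH) (Lpn (LP (LK LD1_c6 LD2_c39 LD3_c23))))))
theorem f510312 : Led Lsl_ct (LP (LK LD1_c6 LD2_c39 LD3_c23)) = (LP (LK LD1_c3 LD2_c17 LD3_c54)) :=
  Lre_c IH (LK LD1_c6 LD2_c39 LD3_c23) (LK LD1_c3 LD2_c17 LD3_c54) Lrfl Lrfl
theorem f80080 : Led Lsl_gt (LP (LK LD1_c3 LD2_c17 LD3_c54)) = (LP (LK LD1_c6 LD2_c39 LD3_c10)) :=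
  Lre_g IH (LK LD1_c3 LD2_c17 LD3_c54) (LK LD1_c6 LD2_c39 LD3_c10) Lrfl Lrfl
theorem f712905 : Led Lsl_gf (LP (LK LD1_c7 LD2_c44 LD3_c9)) = (LP (LK LD1_c9 LD2_c30 LD3_c52)) :=
  Lgr Lrot126 (Lpe (K5.f130544 IH) (Lpr_bt (K51.f130568 IH) (Lpr_gt (f712899 IH) (Lpr_ct (f510312 IH) (Lpr_gt (f80080 IH) (Lpe (K17.f413702 IH) (Lpr_bt (K17.f413703 IH) (Lpr_gt (K50.f634145 IH) (Lpe (K54.f454784 IH) (Lpr_ct (K55.f454785 IH) (Lpn (LP (LK LD1_c9 LD2_c30 LD3_c52)))))))))))))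
theorem f65980 : Led Lsl_et (LP (LK LD1_c3 LD2_c51 LD3_c21)) = (LP (LK LD1_c7 LD2_c44 LD3_c9)) :=
  Lre_e IH (LK LD1_c3 LD2_c51 LD3_c21) (LK LD1_c7 LD2_c44 LD3_c9) Lrfl Lrfl
theorem f643645 : Led Lsl_dt (LP (LK LD1_c9 LD2_c6 LD3_c28)) = (LP (LK LD1_c16 LD2_c58 LD3_c22)) :=
  Lre_d IH (LK LD1_c9 LD2_c6 LD3_c28) (LK LD1_c16 LD2_c58 LD3_c22) Lrfl Lrfl
theorem f643646 : Led Lsl_gt (LP (LK LD1_c16 LD2_c58 LD3_c22)) = (LP (LK LD1_c26 LD2_c53 LD3_c57)) :=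
  Lre_g IH (LK LD1_c16 LD2_c58 LD3_c22) (LK LD1_c26 LD2_c53 LD3_c57) Lrfl Lrfl
theorem f712911 : Led Lsl_df (LP (LK LD1_c26 LD2_c53 LD3_c57)) = (LP (LK LD1_c17 LD2_c32 LD3_c18)) :=
  Lgr Lrot132 (Lpe (f643646 IH) (Lpe (f643645 IH) (Lpr_gf (K52.f644864 IH) (Lpe (K36.f151607 IH) (Lpr_dt (K36.f151605 IH) (Lpr_gf (K24.f115853 IH) (Lpr_df (K5.f65971 IH) (Lpr_et (f65980 IH) (Lpr_gf (f712905 IH) (Lpe (K55.f705825 IH) (Lpn (LP (LK LD1_c17 LD2_c32 LD3_c18)))))))))))))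
theorem f712918 : Led Lsl_et (LP (LK LD1_c9 LD2_c6 LD3_c28)) = (LP (LK LD1_c16 LD2_c58 LD3_c23)) :=
  Lre_e IH (LK LD1_c9 LD2_c6 LD3_c28) (LK LD1_c16 LD2_c58 LD3_c23) Lrfl Lrfl
theorem f720785 : Led Lsl_et (LP (LK LD1_c20 LD2_c27 LD3_c33)) = (LP (LK LD1_c26 LD2_c53 LD3_c61)) :=
  Lgr Lrot185 (Lpr_dt (K53.f720781 IH) (Lpe (K53.f130539 IH) (Lpe (K53.f65984 IH) (Lpr_gf (f712905 IH) (Lpe (K55.f705825 IH) (Lpe (f712911 IH) (Lpe (f643646 IH) (Lpe (f643645 IH) (Lpr_et (f712918 IH) (Lpe (f146513 IH) (Lpn (LP (LK LD1_c26 LD2_c53 LD3_c61)))))))))))))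
theorem f439931 : Led Lsl_dt (LP (LK LD1_c7 LD2_c44 LD3_c13)) = (LP (LK LD1_c14 LD2_c35 LD3_c33)) :=
  Lre_d IH (LK LD1_c7 LD2_c44 LD3_c13) (LK LD1_c14 LD2_c35 LD3_c33) Lrfl Lrfl
theorem f65753 : Led Lsl_bt (LP (LK LD1_c3 LD2_c51 LD3_c26)) = (LP (LK LD1_c7 LD2_c44 LD3_c13)) :=
  Lre_b IH (LK LD1_c3 LD2_c51 LD3_c26) (LK LD1_c7 LD2_c44 LD3_c13) Lrfl Lrfl
theorem f711653 : Led Lsl_ef (LP (LK LD1_c11 LD2_c47 LD3_c10)) = (LP (LK LD1_c7 LD2_c44 LD3_c13)) :=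
  Lgr Lrot29 (Lpr_bt (K52.f711649 IH) (Lpr_et (K52.f130662 IH) (Lpr_bt (f65753 IH) (Lpn (LP (LK LD1_c7 LD2_c44 LD3_c13))))))
theorem f415580 : Led Lsl_dt (LP (LK LD1_c6 LD2_c1 LD3_c18)) = (LP (LK LD1_c11 LD2_c47 LD3_c12)) :=
  Lre_d IH (LK LD1_c6 LD2_c1 LD3_c18) (LK LD1_c11 LD2_c47 LD3_c12) Lrfl Lrfl
theorem f415581 : Led Lsl_gt (LP (LK LD1_c11 LD2_c47 LD3_c12)) = (LP (LK LD1_c20 LD2_c49 LD3_c17)) :=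
  Lre_g IH (LK LD1_c11 LD2_c47 LD3_c12) (LK LD1_c20 LD2_c49 LD3_c17) Lrfl Lrfl
theorem f755693 : Led Lsl_dt (LP (LK LD1_c26 LD2_c54 LD3_c9)) = (LP (LK LD1_c20 LD2_c49 LD3_c17)) :=
  Lgr Lrot56 (Lpr_et (f755683 IH) (Lpe (f753196 IH) (Lpe (f720785 IH) (Lpr_dt (K53.f720781 IH) (Lpe (K53.f715999 IH) (Lpe (f439931 IH) (Lpe (f711653 IH) (Lpr_gt (K52.f415573 IH) (Lpr_dt (f415580 IH) (Lpr_gt (f415581 IH) (Lpn (LP (LK LD1_c20 LD2_c49 LD3_c17)))))))))))))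
theorem f714683 : Led Lsl_dt (LP (LK LD1_c26 LD2_c54 LD3_c8)) = (LP (LK LD1_c16 LD2_c58 LD3_c29)) :=
  Lre_d IH (LK LD1_c26 LD2_c54 LD3_c8) (LK LD1_c16 LD2_c58 LD3_c29) Lrfl Lrfl
theorem f755703 : Led Lsl_ff (LP (LK LD1_c26 LD2_c54 LD3_c8)) = (LP (LK LD1_c20 LD2_c49 LD3_c17)) :=
  Lgr Lrot19 (Lpr_dt (f714683 IH) (Lpr_ft (f755352 IH) (Lpr_dt (f755693 IH) (Lpn (LP (LK LD1_c20 LD2_c49 LD3_c17))))))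
theorem f719884 : Led Lsl_gf (LP (LK LD1_c20 LD2_c23 LD3_c36)) = (LP (LK LD1_c20 LD2_c49 LD3_c17)) :=
  Lgr Lrot76 (Lpr_af (K53.f719878 IH) (Lpe (K53.f719882 IH) (Lpr_gt (f415581 IH) (Lpn (LP (LK LD1_c20 LD2_c49 LD3_c17))))))
theorem f711664 : Led Lsl_gt (LP (LK LD1_c20 LD2_c49 LD3_c18)) = (LP (LK LD1_c11 LD2_c47 LD3_c12)) :=
  Lre_g IH (LK LD1_c20 LD2_c49 LD3_c18) (LK LD1_c11 LD2_c47 LD3_c12) Lrfl Lrfl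
theorem f713857 : Led Lsl_gt (LP (LK LD1_c20 LD2_c23 LD3_c36)) = (LP (LK LD1_c20 LD2_c49 LD3_c18)) :=
  Lgr Lrot5 (Lpr_ft (K53.f713854 IH) (Lpr_at (K53.f713856 IH) (Lpe (f711664 IH) (Lpn (LP (LK LD1_c20 LD2_c49 LD3_c18))))))
theorem f755707 : Led Lsl_at (LP (LK LD1_c26 LD2_c54 LD3_c8)) = (LP (LK LD1_c20 LD2_c49 LD3_c18)) :=
  Lgr Lrot26 (Lpr_ff (f755703 IH) (Lpe (f719884 IH) (Lpr_gt (f713857 IH) (Lpn (LP (LK LD1_c20 LD2_c49 LD3_c18))))))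
theorem f755709 : Led Lsl_af (LP (LK LD1_c26 LD2_c54 LD3_c8)) = (LP (LK LD1_c20 LD2_c49 LD3_c18)) :=
  Lgr Lrot0 (Lpr_at (f755707 IH) (Lpn (LP (LK LD1_c20 LD2_c49 LD3_c18))))
theorem f135939 : Led Lsl_et (LP (LK LD1_c2 LD2_c50 LD3_c12)) = (LP (LK LD1_c5 LD2_c48 LD3_c17)) :=
  Lre_e IH (LK LD1_c2 LD2_c50 LD3_c12) (LK LD1_c5 LD2_c48 LD3_c17) Lrfl Lrfl
theorem f426834 : Led Lsl_et (LP (LK LD1_c20 LD2_c41 LD3_c54)) = (LP (LK LD1_c11 LD2_c41 LD3_c49)) :=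
  Lre_e IH (LK LD1_c20 LD2_c41 LD3_c54) (LK LD1_c11 LD2_c41 LD3_c49) Lrfl Lrfl
theorem f713861 : Led Lsl_dt (LP (LK LD1_c20 LD2_c41 LD3_c54)) = (LP (LK LD1_c20 LD2_c49 LD3_c18)) :=
  Lgr Lrot56 (Lpr_et (f426834 IH) (Lpr_gt (K48.f426826 IH) (Lpe (K55.f137175 IH) (Lpr_dt (K28.f137174 IH) (Lpr_gt (K28.f157992 IH) (Lpr_df (K6.f135925 IH) (Lpr_et (f135939 IH) (Lpr_gt (K53.f135940 IH) (Lpr_dt (K53.f135941 IH) (Lpr_gt (f713857 IH) (Lpn (LP (LK LD1_c20 LD2_c49 LD3_c18)))))))))))))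
theorem f755711 : Led Lsl_at (LP (LK LD1_c16 LD2_c58 LD3_c29)) = (LP (LK LD1_c20 LD2_c41 LD3_c54)) :=
  Lgr Lrot51 (Lpe (f714683 IH) (Lpr_af (f755709 IH) (Lpe (f713861 IH) (Lpn (LP (LK LD1_c20 LD2_c41 LD3_c54))))))
theorem f755350 : Led Lsl_ft (LP (LK LD1_c26 LD2_c54 LD3_c9)) = (LP (LK LD1_c16 LD2_c58 LD3_c29)) :=
  Lre_f IH (LK LD1_c26 LD2_c54 LD3_c9) (LK LD1_c16 LD2_c58 LD3_c29) Lrfl Lrfl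
theorem f742171 : Led Lsl_at (LP (LK LD1_c11 LD2_c26 LD3_c33)) = (LP (LK LD1_c12 LD2_c58 LD3_c1)) :=
  Lgr Lrot100 (Lpr_af (K55.f742169 IH) (Lpn (LP (LK LD1_c12 LD2_c58 LD3_c1))))
theorem f454678 : Led Lsl_gt (LP (LK LD1_c22 LD2_c7 LD3_c56)) = (LP (LK LD1_c12 LD2_c58 LD3_c1)) :=
  Lre_g IH (LK LD1_c22 LD2_c7 LD3_c56) (LK LD1_c12 LD2_c58 LD3_c1) Lrfl Lrfl
theorem f743508 : Led Lsl_gt (LP (LK LD1_c12 LD2_c58 LD3_c4)) = (LP (LK LD1_c22 LD2_c7 LD3_c56)) :=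
  Lgr Lrot5 (Lpe (K55.f742137 IH) (Lpr_at (f742171 IH) (Lpe (f454678 IH) (Lpn (LP (LK LD1_c22 LD2_c7 LD3_c56))))))
theorem f710110 : Led Lsl_ct (LP (LK LD1_c20 LD2_c0 LD3_c49)) = (LP (LK LD1_c19 LD2_c59 LD3_c60)) :=
  Lgr Lrot59 (Lpr_cf (K53.f710107 IH) (Lpn (LP (LK LD1_c19 LD2_c59 LD3_c60))))
theorem f743512 : Led Lsl_cf (LP (LK LD1_c20 LD2_c26 LD3_c31)) = (LP (LK LD1_c22 LD2_c7 LD3_c56)) :=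
  Lgr Lrot99 (Lpr_df (K54.f739006 IH) (Lpe (f710110 IH) (Lpr_gf (K53.f589564 IH) (Lpe (K53.f418652 IH) (Lpr_gf (K53.f710057 IH) (Lpe (K51.f643236 IH) (Lpr_gt (K55.f454531 IH) (Lpr_ct (K55.f454535 IH) (Lpr_gt (f743508 IH) (Lpn (LP (LK LD1_c22 LD2_c7 LD3_c56))))))))))))
theorem f381275 : Led Lsl_gt (LP (LK LD1_c11 LD2_c16 LD3_c59)) = (LP (LK LD1_c5 LD2_c43 LD3_c27)) :=
  Lre_g IH (LK LD1_c11 LD2_c16 LD3_c59) (LK LD1_c5 LD2_c43 LD3_c27) Lrfl Lrfl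
theorem f381276 : Led Lsl_gf (LP (LK LD1_c11 LD2_c16 LD3_c59)) = (LP (LK LD1_c11 LD2_c6 LD3_c32)) :=
  Lgr Lrot47 (Lpr_gt (f381275 IH) (Lpr_af (K27.f381262 IH) (Lpe (K27.f381261 IH) (Lpn (LP (LK LD1_c11 LD2_c6 LD3_c32))))))
theorem f381279 : Led Lsl_ct (LP (LK LD1_c11 LD2_c16 LD3_c59)) = (LP (LK LD1_c20 LD2_c12 LD3_c56)) :=
  Lre_c IH (LK LD1_c11 LD2_c16 LD3_c59) (LK LD1_c20 LD2_c12 LD3_c56) Lrfl Lrfl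
theorem f73970 : Led Lsl_bt (LP (LK LD1_c5 LD2_c47 LD3_c7)) = (LP (LK LD1_c2 LD2_c49 LD3_c29)) :=
  Lre_b IH (LK LD1_c5 LD2_c47 LD3_c7) (LK LD1_c2 LD2_c49 LD3_c29) Lrfl Lrfl
theorem f707317 : Led Lsl_gt (LP (LK LD1_c20 LD2_c12 LD3_c56)) = (LP (LK LD1_c11 LD2_c17 LD3_c1)) :=
  Lgr Lrot149 (Lpe (f381279 IH) (Lpr_gf (f381276 IH) (Lpe (K17.f242707 IH) (Lpr_ct (K51.f381331 IH) (Lpr_gf (K50.f289191 IH) (Lpe (K51.f615477 IH) (Lpqs (K50.f705921 IH) (Lpe (K51.f653282 IH) (Lpr_gf (K16.f139928 IH) (Lpe (f73970 IH) (Lpr_ct (K50.f558394 IH) (Lpn (LP (LK LD1_c11 LD2_c17 LD3_c1))))))))))))))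
theorem f716033 : Led Lsl_bt (LP (LK LD1_c11 LD2_c16 LD3_c59)) = (LP (LK LD1_c9 LD2_c30 LD3_c48)) :=
  Lgr Lrot92 (Lpr_ct (f381279 IH) (Lpr_gt (f707317 IH) (Lpe (K50.f558394 IH) (Lpr_bt (f73970 IH) (Lpe (K16.f139928 IH) (Lpe (K16.f413445 IH) (Lpr_gt (K16.f9202 IH) (Lpe (K24.f75911 IH) (Lpr_bt (K45.f75906 IH) (Lpe (K56.f75896 IH) (Lpn (LP (LK LD1_c9 LD2_c30 LD3_c48)))))))))))))
theorem f705311 : Led Lsl_ff (LP (LK LD1_c9 LD2_c17 LD3_c14)) = (LP (LK LD1_c9 LD2_c30 LD3_c48)) :=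
  Lgr Lrot3 (Lpr_ft (K52.f705307 IH) (Lpn (LP (LK LD1_c9 LD2_c30 LD3_c48))))
theorem f706006 : Led Lsl_bt (LP (LK LD1_c9 LD2_c17 LD3_c14)) = (LP (LK LD1_c11 LD2_c6 LD3_c30)) :=
  Lgr Lrot127 (Lpr_bf (K52.f706004 IH) (Lpn (LP (LK LD1_c11 LD2_c6 LD3_c30))))
theorem f716039 : Led Lsl_ff (LP (LK LD1_c11 LD2_c16 LD3_c59)) = (LP (LK LD1_c11 LD2_c6 LD3_c30)) :=
  Lgr Lrot25 (Lpr_bt (f716033 IH) (Lpe (f705311 IH) (Lpr_bt (f706006 IH) (Lpn (LP (LK LD1_c11 LD2_c6 LD3_c30))))))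
theorem f289359 : Led Lsl_ef (LP (LK LD1_c11 LD2_c6 LD3_c32)) = (LP (LK LD1_c11 LD2_c14 LD3_c35)) :=
  Lgr Lrot88 (Lpr_et (K17.f289357 IH) (Lpn (LP (LK LD1_c11 LD2_c14 LD3_c35))))
theorem f381252 : Led Lsl_af (LP (LK LD1_c11 LD2_c16 LD3_c60)) = (LP (LK LD1_c11 LD2_c6 LD3_c32)) :=
  Lgr Lrot50 (Lpr_et (K27.f381250 IH) (Lpr_at (K56.f302436 IH) (Lpe (f289359 IH) (Lpn (LP (LK LD1_c11 LD2_c6 LD3_c32))))))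
theorem f381352 : Led Lsl_gf (LP (LK LD1_c11 LD2_c16 LD3_c60)) = (LP (LK LD1_c11 LD2_c6 LD3_c30)) :=
  Lgr Lrot76 (Lpr_af (f381252 IH) (Lpe (K17.f289361 IH) (Lpr_gt (K50.f381326 IH) (Lpn (LP (LK LD1_c11 LD2_c6 LD3_c30))))))
theorem f716047 : Led Lsl_at (LP (LK LD1_c11 LD2_c16 LD3_c59)) = (LP (LK LD1_c11 LD2_c6 LD3_c31)) :=
  Lgr Lrot26 (Lpr_ff (f716039 IH) (Lpe (f381352 IH) (Lpr_gt (K55.f381356 IH) (Lpn (LP (LK LD1_c11 LD2_c6 LD3_c31))))))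
theorem f716035 : Led Lsl_bf (LP (LK LD1_c11 LD2_c16 LD3_c59)) = (LP (LK LD1_c9 LD2_c30 LD3_c48)) :=
  Lgr Lrot24 (Lpr_bt (f716033 IH) (Lpn (LP (LK LD1_c9 LD2_c30 LD3_c48))))
theorem f716051 : Led Lsl_af (LP (LK LD1_c17 LD2_c12 LD3_c20)) = (LP (LK LD1_c19 LD2_c59 LD3_c60)) :=
  Lgr Lrot36 (Lpr_bt (K54.f74680 IH) (Lpr_at (K55.f705315 IH) (Lpe (f716035 IH) (Lpr_at (f716047 IH) (Lpr_bt (K54.f710109 IH) (Lpn (LP (LK LD1_c19 LD2_c59 LD3_c60))))))))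
theorem f716053 : Led Lsl_at (LP (LK LD1_c17 LD2_c12 LD3_c20)) = (LP (LK LD1_c19 LD2_c59 LD3_c60)) :=
  Lgr Lrot100 (Lpr_af (f716051 IH) (Lpn (LP (LK LD1_c19 LD2_c59 LD3_c60))))
theorem f74585 : Led Lsl_et (LP (LK LD1_c9 LD2_c17 LD3_c15)) = (LP (LK LD1_c17 LD2_c12 LD3_c22)) :=
  Lre_e IH (LK LD1_c9 LD2_c17 LD3_c15) (LK LD1_c17 LD2_c12 LD3_c22) Lrfl Lrfl
theorem f74586 : Led Lsl_et (LP (LK LD1_c4 LD2_c48 LD3_c59)) = (LP (LK LD1_c9 LD2_c30 LD3_c28)) :=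
  Lre_e IH (LK LD1_c4 LD2_c48 LD3_c59) (LK LD1_c9 LD2_c30 LD3_c28) Lrfl Lrfl
theorem f74587 : Led Lsl_dt (LP (LK LD1_c9 LD2_c30 LD3_c27)) = (LP (LK LD1_c4 LD2_c48 LD3_c59)) :=
  Lre_d IH (LK LD1_c9 LD2_c30 LD3_c27) (LK LD1_c4 LD2_c48 LD3_c59) Lrfl Lrfl
theorem f74588 : Led Lsl_et (LP (LK LD1_c17 LD2_c31 LD3_c50)) = (LP (LK LD1_c9 LD2_c30 LD3_c27)) :=
  Lre_e IH (LK LD1_c17 LD2_c31 LD3_c50) (LK LD1_c9 LD2_c30 LD3_c27) Lrfl Lrfl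
theorem f74589 : Led Lsl_dt (LP (LK LD1_c17 LD2_c12 LD3_c22)) = (LP (LK LD1_c17 LD2_c31 LD3_c50)) :=
  Lgr Lrot77 (Lpe (f74585 IH) (Lpr_df (K2.f74571 IH) (Lpe (f74586 IH) (Lpe (f74587 IH) (Lpe (f74588 IH) (Lpn (LP (LK LD1_c17 LD2_c31 LD3_c50))))))))
theorem f74663 : Led Lsl_df (LP (LK LD1_c17 LD2_c12 LD3_c22)) = (LP (LK LD1_c17 LD2_c31 LD3_c50)) :=
  Lgr Lrot38 (Lpr_dt (f74589 IH) (Lpn (LP (LK LD1_c17 LD2_c31 LD3_c50))))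
theorem f74666 : Led Lsl_bt (LP (LK LD1_c17 LD2_c12 LD3_c22)) = (LP (LK LD1_c27 LD2_c3 LD3_c20)) :=
  Lre_b IH (LK LD1_c17 LD2_c12 LD3_c22) (LK LD1_c27 LD2_c3 LD3_c20) Lrfl Lrfl
theorem f74667 : Led Lsl_bt (LP (LK LD1_c27 LD2_c21 LD3_c17)) = (LP (LK LD1_c17 LD2_c31 LD3_c50)) :=
  Lre_b IH (LK LD1_c27 LD2_c21 LD3_c17) (LK LD1_c17 LD2_c31 LD3_c50) Lrfl Lrfl
theorem f74668 : Led Lsl_dt (LP (LK LD1_c27 LD2_c3 LD3_c20)) = (LP (LK LD1_c27 LD2_c21 LD3_c17)) :=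
  Lgr Lrot79 (Lpe (f74666 IH) (Lpr_df (f74663 IH) (Lpe (f74667 IH) (Lpn (LP (LK LD1_c27 LD2_c21 LD3_c17))))))
theorem f74673 : Led Lsl_et (LP (LK LD1_c17 LD2_c12 LD3_c20)) = (LP (LK LD1_c27 LD2_c3 LD3_c20)) :=
  Lre_e IH (LK LD1_c17 LD2_c12 LD3_c20) (LK LD1_c27 LD2_c3 LD3_c20) Lrfl Lrfl
theorem f74674 : Led Lsl_et (LP (LK LD1_c27 LD2_c21 LD3_c17)) = (LP (LK LD1_c17 LD2_c31 LD3_c47)) :=
  Lre_e IH (LK LD1_c27 LD2_c21 LD3_c17) (LK LD1_c17 LD2_c31 LD3_c47) Lrfl Lrfl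
theorem f74675 : Led Lsl_dt (LP (LK LD1_c17 LD2_c31 LD3_c47)) = (LP (LK LD1_c9 LD2_c30 LD3_c25)) :=
  Lre_d IH (LK LD1_c17 LD2_c31 LD3_c47) (LK LD1_c9 LD2_c30 LD3_c25) Lrfl Lrfl
theorem f74677 : Led Lsl_df (LP (LK LD1_c17 LD2_c12 LD3_c20)) = (LP (LK LD1_c17 LD2_c31 LD3_c48)) :=
  Lgr Lrot70 (Lpr_et (f74673 IH) (Lpr_dt (f74668 IH) (Lpr_et (f74674 IH) (Lpr_dt (f74675 IH) (Lpr_et (K54.f74676 IH) (Lpn (LP (LK LD1_c17 LD2_c31 LD3_c48))))))))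
theorem f739009 : Led Lsl_at (LP (LK LD1_c20 LD2_c26 LD3_c31)) = (LP (LK LD1_c17 LD2_c31 LD3_c48)) :=
  Lgr Lrot51 (Lpr_df (K54.f739006 IH) (Lpe (f716053 IH) (Lpr_df (f74677 IH) (Lpn (LP (LK LD1_c17 LD2_c31 LD3_c48))))))
theorem f743514 : Led Lsl_at (LP (LK LD1_c14 LD2_c35 LD3_c26)) = (LP (LK LD1_c22 LD2_c7 LD3_c56)) :=
  Lgr Lrot107 (Lpe (K54.f709861 IH) (Lpe (f739009 IH) (Lpr_cf (f743512 IH) (Lpn (LP (LK LD1_c22 LD2_c7 LD3_c56))))))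
theorem f414586 : Led Lsl_bt (LP (LK LD1_c12 LD2_c56 LD3_c49)) = (LP (LK LD1_c22 LD2_c6 LD3_c29)) :=
  Lre_b IH (LK LD1_c12 LD2_c56 LD3_c49) (LK LD1_c22 LD2_c6 LD3_c29) Lrfl Lrfl
theorem f644044 : Led Lsl_bt (LP (LK LD1_c17 LD2_c32 LD3_c25)) = (LP (LK LD1_c9 LD2_c30 LD3_c61)) :=
  Lre_b IH (LK LD1_c17 LD2_c32 LD3_c25) (LK LD1_c9 LD2_c30 LD3_c61) Lrfl Lrfl
theorem f740503 : Led Lsl_et (LP (LK LD1_c22 LD2_c6 LD3_c29)) = (LP (LK LD1_c17 LD2_c32 LD3_c25)) :=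
  Lgr Lrot74 (Lpe (f414586 IH) (Lpr_ef (K56.f740495 IH) (Lpe (f644044 IH) (Lpn (LP (LK LD1_c17 LD2_c32 LD3_c25))))))
theorem f740507 : Led Lsl_ef (LP (LK LD1_c22 LD2_c6 LD3_c29)) = (LP (LK LD1_c17 LD2_c32 LD3_c25)) :=
  Lgr Lrot88 (Lpr_et (f740503 IH) (Lpn (LP (LK LD1_c17 LD2_c32 LD3_c25))))
theorem f595826 : Led Lsl_af (LP (LK LD1_c21 LD2_c15 LD3_c20)) = (LP (LK LD1_c20 LD2_c0 LD3_c42)) :=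
  Lgr Lrot0 (Lpr_at (K54.f595824 IH) (Lpn (LP (LK LD1_c20 LD2_c0 LD3_c42))))
theorem f595544 : Led Lsl_ft (LP (LK LD1_c11 LD2_c7 LD3_c19)) = (LP (LK LD1_c20 LD2_c0 LD3_c42)) :=
  Lre_f IH (LK LD1_c11 LD2_c7 LD3_c19) (LK LD1_c20 LD2_c0 LD3_c42) Lrfl Lrfl
theorem f595836 : Led Lsl_gf (LP (LK LD1_c21 LD2_c15 LD3_c20)) = (LP (LK LD1_c20 LD2_c0 LD3_c41)) :=
  Lgr Lrot76 (Lpr_af (f595826 IH) (Lpe (f595544 IH) (Lpr_gt (K54.f556143 IH) (Lpn (LP (LK LD1_c20 LD2_c0 LD3_c41))))))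
theorem f716057 : Led Lsl_ft (LP (LK LD1_c20 LD2_c0 LD3_c41)) = (LP (LK LD1_c19 LD2_c59 LD3_c60)) :=
  Lgr Lrot2 (Lpe (f595836 IH) (Lpe (K54.f714943 IH) (Lpr_af (f716051 IH) (Lpn (LP (LK LD1_c19 LD2_c59 LD3_c60))))))
theorem f716063 : Led Lsl_ff (LP (LK LD1_c20 LD2_c0 LD3_c41)) = (LP (LK LD1_c19 LD2_c59 LD3_c60)) :=
  Lgr Lrot3 (Lpr_ft (f716057 IH) (Lpn (LP (LK LD1_c19 LD2_c59 LD3_c60))))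
theorem f716065 : Led Lsl_ft (LP (LK LD1_c11 LD2_c16 LD3_c58)) = (LP (LK LD1_c11 LD2_c6 LD3_c31)) :=
  Lgr Lrot75 (Lpr_bf (K54.f714956 IH) (Lpr_ff (f716063 IH) (Lpe (K54.f710109 IH) (Lpn (LP (LK LD1_c11 LD2_c6 LD3_c31))))))
theorem f381268 : Led Lsl_dt (LP (LK LD1_c20 LD2_c12 LD3_c55)) = (LP (LK LD1_c11 LD2_c16 LD3_c58)) :=
  Lre_d IH (LK LD1_c20 LD2_c12 LD3_c55) (LK LD1_c11 LD2_c16 LD3_c58) Lrfl Lrfl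
theorem f710656 : Led Lsl_dt (LP (LK LD1_c11 LD2_c6 LD3_c31)) = (LP (LK LD1_c17 LD2_c31 LD3_c59)) :=
  Lgr Lrot42 (Lpr_df (K54.f710654 IH) (Lpn (LP (LK LD1_c17 LD2_c31 LD3_c59))))
theorem f716073 : Led Lsl_ff (LP (LK LD1_c20 LD2_c12 LD3_c55)) = (LP (LK LD1_c17 LD2_c31 LD3_c59)) :=
  Lgr Lrot19 (Lpr_dt (f381268 IH) (Lpr_ft (f716065 IH) (Lpr_dt (f710656 IH) (Lpn (LP (LK LD1_c17 LD2_c31 LD3_c59))))))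
theorem f716077 : Led Lsl_ft (LP (LK LD1_c20 LD2_c12 LD3_c55)) = (LP (LK LD1_c17 LD2_c31 LD3_c59)) :=
  Lgr Lrot48 (Lpr_ff (f716073 IH) (Lpn (LP (LK LD1_c17 LD2_c31 LD3_c59))))
theorem f705271 : Led Lsl_at (LP (LK LD1_c17 LD2_c31 LD3_c59)) = (LP (LK LD1_c9 LD2_c30 LD3_c40)) :=
  Lre_a IH (LK LD1_c17 LD2_c31 LD3_c59) (LK LD1_c9 LD2_c30 LD3_c40) Lrfl Lrfl
theorem f716079 : Led Lsl_af (LP (LK LD1_c20 LD2_c12 LD3_c55)) = (LP (LK LD1_c17 LD2_c32 LD3_c0)) :=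
  Lgr Lrot45 (Lpr_ft (f716077 IH) (Lpr_at (f705271 IH) (Lpr_ft (K52.f705199 IH) (Lpn (LP (LK LD1_c17 LD2_c32 LD3_c0))))))
theorem f150371 : Led Lsl_dt (LP (LK LD1_c2 LD2_c55 LD3_c52)) = (LP (LK LD1_c5 LD2_c58 LD3_c55)) :=
  Lre_d IH (LK LD1_c2 LD2_c55 LD3_c52) (LK LD1_c5 LD2_c58 LD3_c55) Lrfl Lrfl
theorem f150370 : Led Lsl_et (LP (LK LD1_c2 LD2_c55 LD3_c52)) = (LP (LK LD1_c1 LD2_c23 LD3_c52)) :=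
  Lre_e IH (LK LD1_c2 LD2_c55 LD3_c52) (LK LD1_c1 LD2_c23 LD3_c52) Lrfl Lrfl
theorem f618026 : Led Lsl_dt (LP (LK LD1_c5 LD2_c57 LD3_c56)) = (LP (LK LD1_c5 LD2_c43 LD3_c27)) :=
  Lgr Lrot44 (Lpr_af (K50.f496714 IH) (Lpr_df (K51.f618024 IH) (Lpe (K51.f381150 IH) (Lpn (LP (LK LD1_c5 LD2_c43 LD3_c27))))))
theorem f618468 : Led Lsl_et (LP (LK LD1_c20 LD2_c12 LD3_c55)) = (LP (LK LD1_c20 LD2_c46 LD3_c27)) :=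
  Lgr Lrot121 (Lpr_dt (f381268 IH) (Lpe (K54.f381264 IH) (Lpe (f618026 IH) (Lpr_et (K32.f150316 IH) (Lpe (K8.f150359 IH) (Lpe (f150370 IH) (Lpr_dt (f150371 IH) (Lpe (K50.f150372 IH) (Lpr_df (K50.f618460 IH) (Lpe (K50.f618467 IH) (Lpn (LP (LK LD1_c20 LD2_c46 LD3_c27)))))))))))))
theorem f454601 : Led Lsl_bt (LP (LK LD1_c12 LD2_c32 LD3_c45)) = (LP (LK LD1_c21 LD2_c38 LD3_c47)) :=
  Lre_b IH (LK LD1_c12 LD2_c32 LD3_c45) (LK LD1_c21 LD2_c38 LD3_c47) Lrfl Lrfl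
theorem f705296 : Led Lsl_bt (LP (LK LD1_c17 LD2_c32 LD3_c0)) = (LP (LK LD1_c9 LD2_c30 LD3_c49)) :=
  Lre_b IH (LK LD1_c17 LD2_c32 LD3_c0) (LK LD1_c9 LD2_c30 LD3_c49) Lrfl Lrfl
theorem f705297 : Led Lsl_et (LP (LK LD1_c21 LD2_c38 LD3_c47)) = (LP (LK LD1_c17 LD2_c32 LD3_c0)) :=
  Lgr Lrot74 (Lpe (f454601 IH) (Lpr_ef (K50.f705294 IH) (Lpe (f705296 IH) (Lpn (LP (LK LD1_c17 LD2_c32 LD3_c0))))))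
theorem f716085 : Led Lsl_at (LP (LK LD1_c20 LD2_c46 LD3_c27)) = (LP (LK LD1_c21 LD2_c38 LD3_c47)) :=
  Lgr Lrot80 (Lpe (f618468 IH) (Lpr_af (f716079 IH) (Lpe (f705297 IH) (Lpn (LP (LK LD1_c21 LD2_c38 LD3_c47))))))
theorem f643982 : Led Lsl_cf (LP (LK LD1_c20 LD2_c46 LD3_c27)) = (LP (LK LD1_c21 LD2_c36 LD3_c29)) :=
  Lgr Lrot166 (Lpr_gt (K50.f618467 IH) (Lpe (K50.f618460 IH) (Lpr_gt (K50.f150372 IH) (Lpr_dt (K50.f427043 IH) (Lpr_ct (K41.f427042 IH) (Lpe (K50.f427049 IH) (Lpe (K50.f74307 IH) (Lpr_df (K50.f559457 IH) (Lpr_gf (K50.f643978 IH) (Lpn (LP (LK LD1_c21 LD2_c36 LD3_c29))))))))))))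
theorem f716091 : Led Lsl_af (LP (LK LD1_c21 LD2_c36 LD3_c29)) = (LP (LK LD1_c21 LD2_c22 LD3_c8)) :=
  Lgr Lrot68 (Lpe (f643982 IH) (Lpr_at (f716085 IH) (Lpe (K52.f454599 IH) (Lpn (LP (LK LD1_c21 LD2_c22 LD3_c8))))))
theorem f454604 : Led Lsl_ct (LP (LK LD1_c21 LD2_c22 LD3_c8)) = (LP (LK LD1_c21 LD2_c38 LD3_c47)) :=
  Lgr Lrot59 (Lpr_cf (K52.f454599 IH) (Lpn (LP (LK LD1_c21 LD2_c38 LD3_c47))))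
theorem f414221 : Led Lsl_et (LP (LK LD1_c9 LD2_c50 LD3_c13)) = (LP (LK LD1_c18 LD2_c1 LD3_c12)) :=
  Lre_e IH (LK LD1_c9 LD2_c50 LD3_c13) (LK LD1_c18 LD2_c1 LD3_c12) Lrfl Lrfl
theorem f414222 : Led Lsl_cf (LP (LK LD1_c17 LD2_c31 LD3_c51)) = (LP (LK LD1_c18 LD2_c1 LD3_c12)) :=
  Lgr Lrot39 (Lpr_et (K52.f414220 IH) (Lpr_ct (K17.f414090 IH) (Lpr_et (f414221 IH) (Lpn (LP (LK LD1_c18 LD2_c1 LD3_c12))))))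
theorem f415113 : Led Lsl_ct (LP (LK LD1_c17 LD2_c31 LD3_c51)) = (LP (LK LD1_c18 LD2_c1 LD3_c12)) :=
  Lgr Lrot59 (Lpr_cf (f414222 IH) (Lpn (LP (LK LD1_c18 LD2_c1 LD3_c12))))
theorem f705380 : Led Lsl_ff (LP (LK LD1_c21 LD2_c22 LD3_c8)) = (LP (LK LD1_c18 LD2_c1 LD3_c12)) :=
  Lgr Lrot23 (Lpr_ct (f454604 IH) (Lpr_ft (K52.f705378 IH) (Lpr_ct (f415113 IH) (Lpn (LP (LK LD1_c18 LD2_c1 LD3_c12))))))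
theorem f716097 : Led Lsl_gf (LP (LK LD1_c12 LD2_c29 LD3_c40)) = (LP (LK LD1_c18 LD2_c1 LD3_c12)) :=
  Lgr Lrot47 (Lpr_gt (K50.f414568 IH) (Lpr_af (f716091 IH) (Lpr_ff (f705380 IH) (Lpn (LP (LK LD1_c18 LD2_c1 LD3_c12))))))
theorem f24660 : Led Lsl_ct (LP (LK LD1_c3 LD2_c21 LD3_c38)) = (LP (LK LD1_c1 LD2_c37 LD3_c2)) :=
  Lre_c IH (LK LD1_c3 LD2_c21 LD3_c38) (LK LD1_c1 LD2_c37 LD3_c2) Lrfl Lrfl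
theorem f454597 : Led Lsl_gt (LP (LK LD1_c3 LD2_c13 LD3_c3)) = (LP (LK LD1_c3 LD2_c21 LD3_c38)) :=
  Lgr Lrot150 (Lpe (K32.f13576 IH) (Lpe (K11.f79774 IH) (Lpe (K24.f445965 IH) (Lpr_gt (K24.f82576 IH) (Lpr_ct (K48.f82645 IH) (Lpr_gt (K32.f454595 IH) (Lpr_ct (K24.f446136 IH) (Lpr_df (K24.f446137 IH) (Lpe (f24660 IH) (Lpn (LP (LK LD1_c3 LD2_c21 LD3_c38))))))))))))
theorem f146023 : Led Lsl_bt (LP (LK LD1_c1 LD2_c36 LD3_c6)) = (LP (LK LD1_c0 LD2_c44 LD3_c33)) :=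
  Lre_b IH (LK LD1_c1 LD2_c36 LD3_c6) (LK LD1_c0 LD2_c44 LD3_c33) Lrfl Lrfl
theorem f146024 : Led Lsl_ct (LP (LK LD1_c3 LD2_c19 LD3_c23)) = (LP (LK LD1_c1 LD2_c36 LD3_c6)) :=
  Lre_c IH (LK LD1_c3 LD2_c19 LD3_c23) (LK LD1_c1 LD2_c36 LD3_c6) Lrfl Lrfl
theorem f644213 : Led Lsl_bf (LP (LK LD1_c3 LD2_c19 LD3_c23)) = (LP (LK LD1_c6 LD2_c0 LD3_c17)) :=
  Lgr Lrot90 (Lpr_ct (f146024 IH) (Lpr_bt (f146023 IH) (Lpr_ct (K35.f435571 IH) (Lpq (K45.f643295 IH) (Lpe (K45.f641443 IH) (Lpr_ct (K50.f502740 IH) (Lpn (LP (LK LD1_c6 LD2_c0 LD3_c17)))))))))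
theorem f507245 : Led Lsl_et (LP (LK LD1_c3 LD2_c19 LD3_c23)) = (LP (LK LD1_c6 LD2_c42 LD3_c49)) :=
  Lre_e IH (LK LD1_c3 LD2_c19 LD3_c23) (LK LD1_c6 LD2_c42 LD3_c49) Lrfl Lrfl
theorem f644204 : Led Lsl_et (LP (LK LD1_c11 LD2_c45 LD3_c4)) = (LP (LK LD1_c6 LD2_c0 LD3_c17)) :=
  Lre_e IH (LK LD1_c11 LD2_c45 LD3_c4) (LK LD1_c6 LD2_c0 LD3_c17) Lrfl Lrfl
theorem f644235 : Led Lsl_bt (LP (LK LD1_c6 LD2_c42 LD3_c49)) = (LP (LK LD1_c11 LD2_c45 LD3_c4)) :=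
  Lgr Lrot119 (Lpe (f507245 IH) (Lpr_bf (f644213 IH) (Lpe (f644204 IH) (Lpn (LP (LK LD1_c11 LD2_c45 LD3_c4))))))
theorem f144096 : Led Lsl_bt (LP (LK LD1_c1 LD2_c36 LD3_c8)) = (LP (LK LD1_c3 LD2_c19 LD3_c25)) :=
  Lre_b IH (LK LD1_c1 LD2_c36 LD3_c8) (LK LD1_c3 LD2_c19 LD3_c25) Lrfl Lrfl
theorem f446156 : Led Lsl_bt (LP (LK LD1_c3 LD2_c14 LD3_c25)) = (LP (LK LD1_c1 LD2_c33 LD3_c44)) :=
  Lre_b IH (LK LD1_c3 LD2_c14 LD3_c25) (LK LD1_c1 LD2_c33 LD3_c44) Lrfl Lrfl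
theorem f507234 : Led Lsl_ft (LP (LK LD1_c3 LD2_c19 LD3_c25)) = (LP (LK LD1_c3 LD2_c14 LD3_c25)) :=
  Lgr Lrot75 (Lpe (f144096 IH) (Lpr_ff (K35.f507230 IH) (Lpe (f446156 IH) (Lpn (LP (LK LD1_c3 LD2_c14 LD3_c25))))))
theorem f435632 : Led Lsl_ct (LP (LK LD1_c6 LD2_c42 LD3_c49)) = (LP (LK LD1_c3 LD2_c19 LD3_c25)) :=
  Lre_c IH (LK LD1_c6 LD2_c42 LD3_c49) (LK LD1_c3 LD2_c19 LD3_c25) Lrfl Lrfl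
theorem f446157 : Led Lsl_ct (LP (LK LD1_c3 LD2_c14 LD3_c25)) = (LP (LK LD1_c6 LD2_c32 LD3_c32)) :=
  Lre_c IH (LK LD1_c3 LD2_c14 LD3_c25) (LK LD1_c6 LD2_c32 LD3_c32) Lrfl Lrfl
theorem f507236 : Led Lsl_ff (LP (LK LD1_c6 LD2_c42 LD3_c49)) = (LP (LK LD1_c6 LD2_c32 LD3_c32)) :=
  Lgr Lrot23 (Lpr_ct (f435632 IH) (Lpr_ft (f507234 IH) (Lpr_ct (f446157 IH) (Lpn (LP (LK LD1_c6 LD2_c32 LD3_c32))))))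
theorem f446110 : Led Lsl_bt (LP (LK LD1_c12 LD2_c32 LD3_c42)) = (LP (LK LD1_c6 LD2_c32 LD3_c32)) :=
  Lre_b IH (LK LD1_c12 LD2_c32 LD3_c42) (LK LD1_c6 LD2_c32 LD3_c32) Lrfl Lrfl
theorem f644243 : Led Lsl_ff (LP (LK LD1_c12 LD2_c32 LD3_c42)) = (LP (LK LD1_c11 LD2_c45 LD3_c4)) :=
  Lgr Lrot25 (Lpr_bt (f446110 IH) (Lpe (f507236 IH) (Lpr_bt (f644235 IH) (Lpn (LP (LK LD1_c11 LD2_c45 LD3_c4))))))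
theorem f644247 : Led Lsl_ft (LP (LK LD1_c12 LD2_c32 LD3_c42)) = (LP (LK LD1_c11 LD2_c45 LD3_c4)) :=
  Lgr Lrot48 (Lpr_ff (f644243 IH) (Lpn (LP (LK LD1_c11 LD2_c45 LD3_c4))))
theorem f446106 : Led Lsl_ct (LP (LK LD1_c6 LD2_c32 LD3_c35)) = (LP (LK LD1_c12 LD2_c32 LD3_c42)) :=
  Lre_c IH (LK LD1_c6 LD2_c32 LD3_c35) (LK LD1_c12 LD2_c32 LD3_c42) Lrfl Lrfl
theorem f644210 : Led Lsl_ct (LP (LK LD1_c11 LD2_c45 LD3_c4)) = (LP (LK LD1_c6 LD2_c0 LD3_c19)) :=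
  Lre_c IH (LK LD1_c11 LD2_c45 LD3_c4) (LK LD1_c6 LD2_c0 LD3_c19) Lrfl Lrfl
theorem f644249 : Led Lsl_ff (LP (LK LD1_c6 LD2_c32 LD3_c35)) = (LP (LK LD1_c6 LD2_c0 LD3_c19)) :=
  Lgr Lrot23 (Lpr_ct (f446106 IH) (Lpr_ft (f644247 IH) (Lpr_ct (f644210 IH) (Lpn (LP (LK LD1_c6 LD2_c0 LD3_c19))))))
theorem f644253 : Led Lsl_bt (LP (LK LD1_c2 LD2_c57 LD3_c22)) = (LP (LK LD1_c6 LD2_c0 LD3_c19)) :=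
  Lgr Lrot35 (Lpr_ff (K50.f507228 IH) (Lpe (K42.f23853 IH) (Lpr_ff (f644249 IH) (Lpn (LP (LK LD1_c6 LD2_c0 LD3_c19))))))
theorem f415110 : Led Lsl_bt (LP (LK LD1_c17 LD2_c31 LD3_c51)) = (LP (LK LD1_c9 LD2_c30 LD3_c32)) :=
  Lre_b IH (LK LD1_c17 LD2_c31 LD3_c51) (LK LD1_c9 LD2_c30 LD3_c32) Lrfl Lrfl
theorem f716101 : Led Lsl_gt (LP (LK LD1_c6 LD2_c0 LD3_c19)) = (LP (LK LD1_c9 LD2_c30 LD3_c32)) :=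
  Lgr Lrot164 (Lpe (f644253 IH) (Lpe (K35.f435576 IH) (Lpr_gf (K32.f24658 IH) (Lpe (f24660 IH) (Lpe (f454597 IH) (Lpe (K35.f140767 IH) (Lpr_ct (K32.f140784 IH) (Lpr_gf (f716097 IH) (Lpe (f415113 IH) (Lpr_bt (f415110 IH) (Lpn (LP (LK LD1_c9 LD2_c30 LD3_c32)))))))))))))
theorem f716103 : Led Lsl_gf (LP (LK LD1_c6 LD2_c0 LD3_c19)) = (LP (LK LD1_c9 LD2_c30 LD3_c61)) :=
  Lgr Lrot47 (Lpr_gt (f716101 IH) (Lpq (K52.f705361 IH) (Lpe (K50.f705288 IH) (Lpe (K50.f634135 IH) (Lpn (LP (LK LD1_c9 LD2_c30 LD3_c61)))))))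
theorem f446242 : Led Lsl_gt (LP (LK LD1_c12 LD2_c57 LD3_c53)) = (LP (LK LD1_c22 LD2_c7 LD3_c45)) :=
  Lre_g IH (LK LD1_c12 LD2_c57 LD3_c53) (LK LD1_c22 LD2_c7 LD3_c45) Lrfl Lrfl
theorem f716113 : Led Lsl_cf (LP (LK LD1_c22 LD2_c7 LD3_c45)) = (LP (LK LD1_c17 LD2_c32 LD3_c25)) :=
  Lgr Lrot163 (Lpe (f446242 IH) (Lpe (K52.f446241 IH) (Lpe (K52.f446238 IH) (Lpe (K24.f442854 IH) (Lpr_ct (K24.f22729 IH) (Lpe (K32.f446233 IH) (Lpr_cf (K35.f435576 IH) (Lpr_bt (f644253 IH) (Lpr_gf (f716103 IH) (Lpe (f644044 IH) (Lpn (LP (LK LD1_c17 LD2_c32 LD3_c25)))))))))))))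
theorem f716115 : Led Lsl_ct (LP (LK LD1_c22 LD2_c7 LD3_c45)) = (LP (LK LD1_c17 LD2_c32 LD3_c25)) :=
  Lgr Lrot59 (Lpr_cf (f716113 IH) (Lpn (LP (LK LD1_c17 LD2_c32 LD3_c25))))
theorem f740509 : Led Lsl_et (LP (LK LD1_c22 LD2_c7 LD3_c55)) = (LP (LK LD1_c22 LD2_c7 LD3_c45)) :=
  Lgr Lrot158 (Lpr_cf (K55.f414541 IH) (Lpr_ef (f740507 IH) (Lpe (f716115 IH) (Lpn (LP (LK LD1_c22 LD2_c7 LD3_c45))))))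
theorem f705287 : Led Lsl_ft (LP (LK LD1_c9 LD2_c30 LD3_c54)) = (LP (LK LD1_c17 LD2_c32 LD3_c25)) :=
  Lre_f IH (LK LD1_c9 LD2_c30 LD3_c54) (LK LD1_c17 LD2_c32 LD3_c25) Lrfl Lrfl
theorem f716117 : Led Lsl_ft (LP (LK LD1_c22 LD2_c7 LD3_c45)) = (LP (LK LD1_c17 LD2_c32 LD3_c18)) :=
  Lgr Lrot4 (Lpr_cf (f716113 IH) (Lpe (f705287 IH) (Lpe (K55.f644039 IH) (Lpn (LP (LK LD1_c17 LD2_c32 LD3_c18))))))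
theorem f206020 : Led Lsl_et (LP (LK LD1_c7 LD2_c44 LD3_c10)) = (LP (LK LD1_c14 LD2_c35 LD3_c26)) :=
  Lre_e IH (LK LD1_c7 LD2_c44 LD3_c10) (LK LD1_c14 LD2_c35 LD3_c26) Lrfl Lrfl
theorem f740511 : Led Lsl_ff (LP (LK LD1_c22 LD2_c7 LD3_c55)) = (LP (LK LD1_c14 LD2_c35 LD3_c26)) :=
  Lgr Lrot72 (Lpr_et (f740509 IH) (Lpr_ft (f716117 IH) (Lpr_et (K55.f705825 IH) (Lpr_ft (K55.f709863 IH) (Lpr_et (f206020 IH) (Lpn (LP (LK LD1_c14 LD2_c35 LD3_c26))))))))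
theorem f740552 : Led Lsl_ft (LP (LK LD1_c22 LD2_c7 LD3_c55)) = (LP (LK LD1_c14 LD2_c35 LD3_c26)) :=
  Lgr Lrot48 (Lpr_ff (f740511 IH) (Lpn (LP (LK LD1_c14 LD2_c35 LD3_c26))))
theorem f743535 : Led Lsl_gt (LP (LK LD1_c22 LD2_c7 LD3_c55)) = (LP (LK LD1_c12 LD2_c58 LD3_c4)) :=
  Lgr Lrot5 (Lpr_ft (f740552 IH) (Lpr_at (f743514 IH) (Lpe (f743508 IH) (Lpn (LP (LK LD1_c12 LD2_c58 LD3_c4))))))
theorem f740505 : Led Lsl_ef (LP (LK LD1_c22 LD2_c7 LD3_c55)) = (LP (LK LD1_c22 LD2_c7 LD3_c45)) :=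
  Lgr Lrot28 (Lpr_ct (K55.f414587 IH) (Lpr_et (f740503 IH) (Lpe (f716113 IH) (Lpn (LP (LK LD1_c22 LD2_c7 LD3_c45))))))
theorem f716121 : Led Lsl_ff (LP (LK LD1_c22 LD2_c7 LD3_c45)) = (LP (LK LD1_c17 LD2_c32 LD3_c18)) :=
  Lgr Lrot3 (Lpr_ft (f716117 IH) (Lpn (LP (LK LD1_c17 LD2_c32 LD3_c18))))
theorem f712915 : Led Lsl_dt (LP (LK LD1_c26 LD2_c53 LD3_c57)) = (LP (LK LD1_c17 LD2_c32 LD3_c18)) :=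
  Lgr Lrot42 (Lpr_df (f712911 IH) (Lpn (LP (LK LD1_c17 LD2_c32 LD3_c18))))
theorem f712913 : Led Lsl_at (LP (LK LD1_c26 LD2_c53 LD3_c57)) = (LP (LK LD1_c24 LD2_c18 LD3_c40)) :=
  Lgr Lrot51 (Lpr_df (f712911 IH) (Lpr_af (K55.f709886 IH) (Lpe (K55.f440357 IH) (Lpn (LP (LK LD1_c24 LD2_c18 LD3_c40))))))
theorem f426772 : Led Lsl_gt (LP (LK LD1_c29 LD2_c35 LD3_c45)) = (LP (LK LD1_c20 LD2_c41 LD3_c52)) :=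
  Lre_g IH (LK LD1_c29 LD2_c35 LD3_c45) (LK LD1_c20 LD2_c41 LD3_c52) Lrfl Lrfl
theorem f712934 : Led Lsl_ff (LP (LK LD1_c26 LD2_c53 LD3_c57)) = (LP (LK LD1_c29 LD2_c35 LD3_c45)) :=
  Lgr Lrot52 (Lpr_at (f712913 IH) (Lpe (K55.f440354 IH) (Lpe (f426772 IH) (Lpn (LP (LK LD1_c29 LD2_c35 LD3_c45))))))
theorem f716123 : Led Lsl_dt (LP (LK LD1_c22 LD2_c7 LD3_c45)) = (LP (LK LD1_c29 LD2_c35 LD3_c45)) :=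
  Lgr Lrot60 (Lpr_ff (f716121 IH) (Lpe (f712915 IH) (Lpr_ff (f712934 IH) (Lpn (LP (LK LD1_c29 LD2_c35 LD3_c45))))))
theorem f136938 : Led Lsl_et (LP (LK LD1_c7 LD2_c42 LD3_c9)) = (LP (LK LD1_c3 LD2_c50 LD3_c33)) :=
  Lre_e IH (LK LD1_c7 LD2_c42 LD3_c9) (LK LD1_c3 LD2_c50 LD3_c33) Lrfl Lrfl
theorem f710096 : Led Lsl_gf (LP (LK LD1_c14 LD2_c30 LD3_c59)) = (LP (LK LD1_c22 LD2_c7 LD3_c47)) :=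
  Lgr Lrot76 (Lpr_af (K36.f426733 IH) (Lpe (K52.f426742 IH) (Lpr_gt (K55.f710092 IH) (Lpn (LP (LK LD1_c22 LD2_c7 LD3_c47))))))
theorem f740513 : Led Lsl_gf (LP (LK LD1_c12 LD2_c57 LD3_c56)) = (LP (LK LD1_c22 LD2_c7 LD3_c45)) :=
  Lgr Lrot138 (Lpr_dt (K55.f710089 IH) (Lpe (f710096 IH) (Lpe (K36.f136939 IH) (Lpr_et (f136938 IH) (Lpr_gt (K24.f12295 IH) (Lpe (K6.f66318 IH) (Lpr_dt (K54.f66316 IH) (Lpr_gt (K55.f428765 IH) (Lpr_df (K55.f710105 IH) (Lpr_et (f740509 IH) (Lpn (LP (LK LD1_c22 LD2_c7 LD3_c45)))))))))))))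
theorem f709888 : Led Lsl_at (LP (LK LD1_c17 LD2_c32 LD3_c18)) = (LP (LK LD1_c14 LD2_c35 LD3_c29)) :=
  Lgr Lrot100 (Lpr_af (K55.f709886 IH) (Lpn (LP (LK LD1_c14 LD2_c35 LD3_c29))))
theorem f740515 : Led Lsl_gt (LP (LK LD1_c12 LD2_c57 LD3_c56)) = (LP (LK LD1_c14 LD2_c35 LD3_c29)) :=
  Lgr Lrot46 (Lpr_gf (f740513 IH) (Lpr_ft (f716117 IH) (Lpr_at (f709888 IH) (Lpn (LP (LK LD1_c14 LD2_c35 LD3_c29))))))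
theorem f509650 : Led Lsl_dt (LP (LK LD1_c3 LD2_c21 LD3_c51)) = (LP (LK LD1_c6 LD2_c47 LD3_c26)) :=
  Lre_d IH (LK LD1_c3 LD2_c21 LD3_c51) (LK LD1_c6 LD2_c47 LD3_c26) Lrfl Lrfl
theorem f426833 : Led Lsl_dt (LP (LK LD1_c20 LD2_c41 LD3_c53)) = (LP (LK LD1_c11 LD2_c41 LD3_c49)) :=
  Lre_d IH (LK LD1_c20 LD2_c41 LD3_c53) (LK LD1_c11 LD2_c41 LD3_c49) Lrfl Lrfl
theorem f740529 : Led Lsl_gf (LP (LK LD1_c20 LD2_c41 LD3_c53)) = (LP (LK LD1_c24 LD2_c18 LD3_c40)) :=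
  Lgr Lrot143 (Lpr_dt (f426833 IH) (Lpr_cf (K48.f645089 IH) (Lpr_df (K54.f736094 IH) (Lpe (K54.f653445 IH) (Lpe (f509650 IH) (Lpe (K55.f442855 IH) (Lpe (K55.f710064 IH) (Lpr_gt (f740515 IH) (Lpr_dt (K55.f65988 IH) (Lpn (LP (LK LD1_c24 LD2_c18 LD3_c40))))))))))))
theorem f712919 : Led Lsl_af (LP (LK LD1_c26 LD2_c53 LD3_c57)) = (LP (LK LD1_c24 LD2_c18 LD3_c40)) :=
  Lgr Lrot117 (Lpr_dt (f712915 IH) (Lpr_at (f709888 IH) (Lpr_dt (K55.f65988 IH) (Lpn (LP (LK LD1_c24 LD2_c18 LD3_c40))))))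
theorem f644866 : Led Lsl_gt (LP (LK LD1_c26 LD2_c53 LD3_c58)) = (LP (LK LD1_c16 LD2_c58 LD3_c22)) :=
  Lre_g IH (LK LD1_c26 LD2_c53 LD3_c58) (LK LD1_c16 LD2_c58 LD3_c22) Lrfl Lrfl
theorem f712924 : Led Lsl_ft (LP (LK LD1_c26 LD2_c53 LD3_c58)) = (LP (LK LD1_c24 LD2_c18 LD3_c40)) :=
  Lgr Lrot2 (Lpr_gt (f644866 IH) (Lpr_gt (f643646 IH) (Lpr_af (f712919 IH) (Lpn (LP (LK LD1_c24 LD2_c18 LD3_c40))))))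
theorem f712928 : Led Lsl_ff (LP (LK LD1_c26 LD2_c53 LD3_c58)) = (LP (LK LD1_c24 LD2_c18 LD3_c40)) :=
  Lgr Lrot3 (Lpr_ft (f712924 IH) (Lpn (LP (LK LD1_c24 LD2_c18 LD3_c40))))
theorem f712936 : Led Lsl_at (LP (LK LD1_c26 LD2_c53 LD3_c58)) = (LP (LK LD1_c29 LD2_c35 LD3_c45)) :=
  Lgr Lrot66 (Lpr_ff (f712928 IH) (Lpe (f712913 IH) (Lpr_ff (f712934 IH) (Lpn (LP (LK LD1_c29 LD2_c35 LD3_c45))))))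
theorem f740531 : Led Lsl_gt (LP (LK LD1_c20 LD2_c41 LD3_c53)) = (LP (LK LD1_c29 LD2_c35 LD3_c45)) :=
  Lgr Lrot46 (Lpr_gf (f740529 IH) (Lpe (f712928 IH) (Lpr_at (f712936 IH) (Lpn (LP (LK LD1_c29 LD2_c35 LD3_c45))))))
theorem f426830 : Led Lsl_dt (LP (LK LD1_c11 LD2_c41 LD3_c49)) = (LP (LK LD1_c20 LD2_c41 LD3_c53)) :=
  Lre_d IH (LK LD1_c11 LD2_c41 LD3_c49) (LK LD1_c20 LD2_c41 LD3_c53) Lrfl Lrfl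
theorem f645093 : Led Lsl_et (LP (LK LD1_c11 LD2_c41 LD3_c49)) = (LP (LK LD1_c20 LD2_c41 LD3_c54)) :=
  Lre_e IH (LK LD1_c11 LD2_c41 LD3_c49) (LK LD1_c20 LD2_c41 LD3_c54) Lrfl Lrfl
theorem f454537 : Led Lsl_dt (LP (LK LD1_c12 LD2_c58 LD3_c4)) = (LP (LK LD1_c22 LD2_c7 LD3_c60)) :=
  Lre_d IH (LK LD1_c12 LD2_c58 LD3_c4) (LK LD1_c22 LD2_c7 LD3_c60) Lrfl Lrfl
theorem f742180 : Led Lsl_gf (LP (LK LD1_c20 LD2_c27 LD3_c8)) = (LP (LK LD1_c22 LD2_c7 LD3_c60)) :=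
  Lgr Lrot47 (Lpr_gt (K55.f742178 IH) (Lpe (K55.f742167 IH) (Lpr_ff (K55.f742151 IH) (Lpn (LP (LK LD1_c22 LD2_c7 LD3_c60))))))
theorem f714951 : Led Lsl_et (LP (LK LD1_c11 LD2_c29 LD3_c61)) = (LP (LK LD1_c20 LD2_c27 LD3_c9)) :=
  Lre_e IH (LK LD1_c11 LD2_c29 LD3_c61) (LK LD1_c20 LD2_c27 LD3_c9) Lrfl Lrfl
theorem f743537 : Led Lsl_gf (LP (LK LD1_c20 LD2_c41 LD3_c54)) = (LP (LK LD1_c20 LD2_c27 LD3_c9)) :=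
  Lgr Lrot141 (Lpe (f645093 IH) (Lpr_dt (f426830 IH) (Lpr_gt (f740531 IH) (Lpe (f716123 IH) (Lpe (f740505 IH) (Lpr_gt (f743535 IH) (Lpr_dt (f454537 IH) (Lpe (f742180 IH) (Lpe (K55.f157990 IH) (Lpr_et (f714951 IH) (Lpn (LP (LK LD1_c20 LD2_c27 LD3_c9)))))))))))))
theorem f755717 : Led Lsl_gt (LP (LK LD1_c26 LD2_c54 LD3_c9)) = (LP (LK LD1_c20 LD2_c27 LD3_c9)) :=
  Lgr Lrot5 (Lpr_ft (f755350 IH) (Lpr_at (f755711 IH) (Lpr_gf (f743537 IH) (Lpn (LP (LK LD1_c20 LD2_c27 LD3_c9))))))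
theorem f755685 : Led Lsl_ft (LP (LK LD1_c20 LD2_c24 LD3_c39)) = (LP (LK LD1_c29 LD2_c25 LD3_c45)) :=
  Lgr Lrot48 (Lpr_ff (f755679 IH) (Lpn (LP (LK LD1_c29 LD2_c25 LD3_c45))))
theorem f755657 : Led Lsl_ft (LP (LK LD1_c9 LD2_c6 LD3_c32)) = (LP (LK LD1_c11 LD2_c41 LD3_c48)) :=
  Lgr Lrot48 (Lpr_ff (f755653 IH) (Lpn (LP (LK LD1_c11 LD2_c41 LD3_c48))))
theorem f711486 : Led Lsl_et (LP (LK LD1_c16 LD2_c58 LD3_c29)) = (LP (LK LD1_c9 LD2_c6 LD3_c32)) :=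
  Lre_e IH (LK LD1_c16 LD2_c58 LD3_c29) (LK LD1_c9 LD2_c6 LD3_c32) Lrfl Lrfl
theorem f755687 : Led Lsl_ef (LP (LK LD1_c26 LD2_c54 LD3_c9)) = (LP (LK LD1_c29 LD2_c25 LD3_c45)) :=
  Lgr Lrot21 (Lpr_ft (f755350 IH) (Lpr_et (f711486 IH) (Lpr_ft (f755657 IH) (Lpr_et (f643602 IH) (Lpr_ft (f755685 IH) (Lpn (LP (LK LD1_c29 LD2_c25 LD3_c45))))))))
theorem f109427 : Led Lsl_gt (LP (LK LD1_c17 LD2_c31 LD3_c30)) = (LP (LK LD1_c27 LD2_c21 LD3_c9)) :=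
  Lre_g IH (LK LD1_c17 LD2_c31 LD3_c30) (LK LD1_c27 LD2_c21 LD3_c9) Lrfl Lrfl
theorem f755721 : Led Lsl_dt (LP (LK LD1_c29 LD2_c25 LD3_c45)) = (LP (LK LD1_c27 LD2_c21 LD3_c9)) :=
  Lgr Lrot56 (Lpe (f755687 IH) (Lpr_gt (f755717 IH) (Lpe (f714951 IH) (Lpr_dt (K55.f157990 IH) (Lpr_gt (K55.f742178 IH) (Lpe (K55.f414590 IH) (Lpe (K55.f742177 IH) (Lpqs (K55.f742051 IH) (Lpe (K55.f741864 IH) (Lpr_dt (K8.f109404 IH) (Lpr_gt (f109427 IH) (Lpn (LP (LK LD1_c27 LD2_c21 LD3_c9))))))))))))))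
theorem f755722 : Led Lsl_dt (LP (LK LD1_c29 LD2_c25 LD3_c45)) = (LP (LK LD1_c27 LD2_c21 LD3_c9)) :=
  Leop (Lpe (f755721 IH) (Lpn (LP (LK LD1_c29 LD2_c25 LD3_c45))))
theorem seed_1123 : LEOK LG_d (LK LD1_c29 LD2_c25 LD3_c45) :=
  Leoe_d (LK LD1_c29 LD2_c25 LD3_c45) (f755722 IH)
theorem f436308 : Led Lsl_ct (LP (LK LD1_c11 LD2_c26 LD3_c43)) = (LP (LK LD1_c20 LD2_c24 LD3_c39)) :=
  Lre_c IH (LK LD1_c11 LD2_c26 LD3_c43) (LK LD1_c20 LD2_c24 LD3_c39) Lrfl Lrfl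
theorem f146501 : Led Lsl_ct (LP (LK LD1_c16 LD2_c58 LD3_c23)) = (LP (LK LD1_c9 LD2_c6 LD3_c30)) :=
  Lre_c IH (LK LD1_c16 LD2_c58 LD3_c23) (LK LD1_c9 LD2_c6 LD3_c30) Lrfl Lrfl
theorem f755677 : Led Lsl_af (LP (LK LD1_c11 LD2_c26 LD3_c43)) = (LP (LK LD1_c9 LD2_c6 LD3_c30)) :=
  Lgr Lrot68 (Lpr_ct (f436308 IH) (Lpr_at (f755673 IH) (Lpr_ct (f146501 IH) (Lpn (LP (LK LD1_c9 LD2_c6 LD3_c30))))))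
theorem f755630 : Led Lsl_at (LP (LK LD1_c20 LD2_c24 LD3_c36)) = (LP (LK LD1_c26 LD2_c58 LD3_c19)) :=
  Lgr Lrot100 (Lpr_af (f755628 IH) (Lpn (LP (LK LD1_c26 LD2_c58 LD3_c19))))
theorem f499089 : Led Lsl_ft (LP (LK LD1_c9 LD2_c11 LD3_c43)) = (LP (LK LD1_c17 LD2_c5 LD3_c24)) :=
  Lre_f IH (LK LD1_c9 LD2_c11 LD3_c43) (LK LD1_c17 LD2_c5 LD3_c24) Lrfl Lrfl
theorem f499090 : Led Lsl_ft (LP (LK LD1_c12 LD2_c43 LD3_c30)) = (LP (LK LD1_c6 LD2_c38 LD3_c55)) :=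
  Lre_f IH (LK LD1_c12 LD2_c43 LD3_c30) (LK LD1_c6 LD2_c38 LD3_c55) Lrfl Lrfl
theorem f499091 : Led Lsl_et (LP (LK LD1_c17 LD2_c5 LD3_c24)) = (LP (LK LD1_c12 LD2_c43 LD3_c30)) :=
  Lgr Lrot69 (Lpe (f499089 IH) (Lpe (K32.f142043 IH) (Lpr_ff (K42.f499083 IH) (Lpe (K50.f132529 IH) (Lpe (f499090 IH) (Lpn (LP (LK LD1_c12 LD2_c43 LD3_c30))))))))
theorem f615157 : Led Lsl_at (LP (LK LD1_c12 LD2_c17 LD3_c2)) = (LP (LK LD1_c12 LD2_c43 LD3_c30)) :=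
  Lgr Lrot66 (Lpr_ff (K42.f615155 IH) (Lpr_af (K42.f499253 IH) (Lpe (f499090 IH) (Lpn (LP (LK LD1_c12 LD2_c43 LD3_c30))))))
theorem f643957 : Led Lsl_gt (LP (LK LD1_c12 LD2_c53 LD3_c26)) = (LP (LK LD1_c12 LD2_c43 LD3_c30)) :=
  Lgr Lrot46 (Lpr_gf (K52.f643955 IH) (Lpe (K42.f615155 IH) (Lpr_at (f615157 IH) (Lpn (LP (LK LD1_c12 LD2_c43 LD3_c30))))))
theorem f82960 : Led Lsl_dt (LP (LK LD1_c12 LD2_c29 LD3_c41)) = (LP (LK LD1_c21 LD2_c36 LD3_c30)) :=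
  Lre_d IH (LK LD1_c12 LD2_c29 LD3_c41) (LK LD1_c21 LD2_c36 LD3_c30) Lrfl Lrfl
theorem f743758 : Led Lsl_gt (LP (LK LD1_c17 LD2_c3 LD3_c53)) = (LP (LK LD1_c12 LD2_c29 LD3_c41)) :=
  Lgr Lrot137 (Lpe (f743756 IH) (Lpr_dt (f743754 IH) (Lpe (f499308 IH) (Lpe (K46.f498202 IH) (Lpr_et (f499091 IH) (Lpe (f643957 IH) (Lpr_ef (K52.f710076 IH) (Lpe (K52.f710087 IH) (Lpr_gf (K52.f710103 IH) (Lpe (f82960 IH) (Lpn (LP (LK LD1_c12 LD2_c29 LD3_c41)))))))))))))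
theorem f82959 : Led Lsl_ct (LP (LK LD1_c11 LD2_c38 LD3_c47)) = (LP (LK LD1_c5 LD2_c56 LD3_c46)) :=
  Lre_c IH (LK LD1_c11 LD2_c38 LD3_c47) (LK LD1_c5 LD2_c56 LD3_c46) Lrfl Lrfl
theorem f743763 : Led Lsl_bf (LP (LK LD1_c17 LD2_c3 LD3_c53)) = (LP (LK LD1_c11 LD2_c38 LD3_c47)) :=
  Lgr Lrot165 (Lpr_gt (f743758 IH) (Lpe (K45.f82940 IH) (Lpr_gt (K45.f82935 IH) (Lpe (K45.f82934 IH) (Lpr_bt (K45.f82933 IH) (Lpr_gt (K0.f23783 IH) (Lpe (K4.f71332 IH) (Lpr_ct (K52.f82890 IH) (Lpr_gt (K51.f82958 IH) (Lpe (f82959 IH) (Lpn (LP (LK LD1_c11 LD2_c38 LD3_c47)))))))))))))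
theorem f743770 : Led Lsl_et (LP (LK LD1_c20 LD2_c38 LD3_c0)) = (LP (LK LD1_c11 LD2_c38 LD3_c47)) :=
  Lre_e IH (LK LD1_c20 LD2_c38 LD3_c0) (LK LD1_c11 LD2_c38 LD3_c47) Lrfl Lrfl
theorem f743771 : Led Lsl_bt (LP (LK LD1_c26 LD2_c58 LD3_c19)) = (LP (LK LD1_c20 LD2_c38 LD3_c0)) :=
  Lgr Lrot119 (Lpe (f743757 IH) (Lpr_bf (f743763 IH) (Lpe (f743770 IH) (Lpn (LP (LK LD1_c20 LD2_c38 LD3_c0))))))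
theorem f146497 : Led Lsl_bt (LP (LK LD1_c16 LD2_c58 LD3_c21)) = (LP (LK LD1_c9 LD2_c6 LD3_c30)) :=
  Lre_b IH (LK LD1_c16 LD2_c58 LD3_c21) (LK LD1_c9 LD2_c6 LD3_c30) Lrfl Lrfl
theorem f755822 : Led Lsl_at (LP (LK LD1_c20 LD2_c38 LD3_c0)) = (LP (LK LD1_c16 LD2_c58 LD3_c21)) :=
  Lgr Lrot67 (Lpe (f743771 IH) (Lpe (f755630 IH) (Lpe (K55.f436307 IH) (Lpr_af (f755677 IH) (Lpe (f146497 IH) (Lpn (LP (LK LD1_c16 LD2_c58 LD3_c21))))))))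
theorem f743782 : Led Lsl_et (LP (LK LD1_c11 LD2_c38 LD3_c47)) = (LP (LK LD1_c20 LD2_c38 LD3_c0)) :=
  Lre_e IH (LK LD1_c11 LD2_c38 LD3_c47) (LK LD1_c20 LD2_c38 LD3_c0) Lrfl Lrfl
theorem f146528 : Led Lsl_et (LP (LK LD1_c16 LD2_c58 LD3_c21)) = (LP (LK LD1_c9 LD2_c6 LD3_c27)) :=
  Lre_e IH (LK LD1_c16 LD2_c58 LD3_c21) (LK LD1_c9 LD2_c6 LD3_c27) Lrfl Lrfl
theorem f755830 : Led Lsl_af (LP (LK LD1_c11 LD2_c38 LD3_c47)) = (LP (LK LD1_c9 LD2_c6 LD3_c27)) :=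
  Lgr Lrot50 (Lpr_et (f743782 IH) (Lpr_at (f755822 IH) (Lpr_et (f146528 IH) (Lpn (LP (LK LD1_c9 LD2_c6 LD3_c27))))))
theorem f755457 : Led Lsl_ft (LP (LK LD1_c11 LD2_c38 LD3_c51)) = (LP (LK LD1_c9 LD2_c6 LD3_c27)) :=
  Lgr Lrot48 (Lpr_ff (f755447 IH) (Lpn (LP (LK LD1_c9 LD2_c6 LD3_c27))))
theorem f755834 : Led Lsl_gf (LP (LK LD1_c11 LD2_c38 LD3_c47)) = (LP (LK LD1_c8 LD2_c0 LD3_c7)) :=
  Lgr Lrot76 (Lpr_af (f755830 IH) (Lpe (f755457 IH) (Lpr_gt (K52.f711239 IH) (Lpn (LP (LK LD1_c8 LD2_c0 LD3_c7))))))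
def v16258 : LQ := Led Lsl_ft (LP (LK LD1_c5 LD2_c55 LD3_c53))
theorem f747373 : Led Lsl_ft (LP (LK LD1_c5 LD2_c55 LD3_c53)) = v16258 :=
  Lrfl
theorem f747376 : Led Lsl_ff (LP (LK LD1_c5 LD2_c55 LD3_c53)) = v16258 :=
  Lgr Lrot3 (Lpr_ft (f747373 IH) (Lpn v16258))
theorem f83082 : Led Lsl_at (LP (LK LD1_c5 LD2_c55 LD3_c53)) = (LP (LK LD1_c2 LD2_c54 LD3_c42)) :=
  Lre_a IH (LK LD1_c5 LD2_c55 LD3_c53) (LK LD1_c2 LD2_c54 LD3_c42) Lrfl Lrfl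
theorem f82984 : Led Lsl_ft (LP (LK LD1_c2 LD2_c54 LD3_c42)) = (LP (LK LD1_c5 LD2_c56 LD3_c48)) :=
  Lre_f IH (LK LD1_c2 LD2_c54 LD3_c42) (LK LD1_c5 LD2_c56 LD3_c48) Lrfl Lrfl
theorem f747377 : Led Lsl_at (LP (LK LD1_c5 LD2_c56 LD3_c48)) = v16258 :=
  Lgr Lrot66 (Lpe (f82984 IH) (Lpe (f83082 IH) (Lpr_ff (f747376 IH) (Lpn v16258))))
theorem f747382 : Led Lsl_gt (LP (LK LD1_c5 LD2_c56 LD3_c46)) = v16258 :=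
  Lgr Lrot46 (Lpe (K51.f82958 IH) (Lpr_ft (f82984 IH) (Lpr_at (f747377 IH) (Lpn v16258))))
theorem f72034 : Led Lsl_ft (LP (LK LD1_c5 LD2_c55 LD3_c57)) = (LP (LK LD1_c2 LD2_c54 LD3_c18)) :=
  Lre_f IH (LK LD1_c5 LD2_c55 LD3_c57) (LK LD1_c2 LD2_c54 LD3_c18) Lrfl Lrfl
theorem f747375 : Led Lsl_cf (LP (LK LD1_c5 LD2_c55 LD3_c57)) = v16258 :=
  Lgr Lrot108 (Lpr_ft (f72034 IH) (Lpr_ct (K55.f72035 IH) (Lpr_ft (f747373 IH) (Lpn v16258))))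
theorem f616419 : Led Lsl_ct (LP (LK LD1_c20 LD2_c35 LD3_c30)) = (LP (LK LD1_c11 LD2_c37 LD3_c3)) :=
  Lre_c IH (LK LD1_c20 LD2_c35 LD3_c30) (LK LD1_c11 LD2_c37 LD3_c3) Lrfl Lrfl
theorem f616425 : Led Lsl_gt (LP (LK LD1_c11 LD2_c39 LD3_c13)) = (LP (LK LD1_c20 LD2_c35 LD3_c30)) :=
  Lre_g IH (LK LD1_c11 LD2_c39 LD3_c13) (LK LD1_c20 LD2_c35 LD3_c30) Lrfl Lrfl
theorem f669698 : Led Lsl_ct (LP (LK LD1_c20 LD2_c38 LD3_c40)) = (LP (LK LD1_c11 LD2_c39 LD3_c13)) :=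
  Lre_c IH (LK LD1_c20 LD2_c38 LD3_c40) (LK LD1_c11 LD2_c39 LD3_c13) Lrfl Lrfl
theorem f112508 : Led Lsl_dt (LP (LK LD1_c15 LD2_c4 LD3_c48)) = (LP (LK LD1_c8 LD2_c0 LD3_c7)) :=
  Lre_d IH (LK LD1_c15 LD2_c4 LD3_c48) (LK LD1_c8 LD2_c0 LD3_c7) Lrfl Lrfl
theorem f755836 : Led Lsl_gf (LP (LK LD1_c20 LD2_c38 LD3_c40)) = (LP (LK LD1_c15 LD2_c4 LD3_c48)) :=
  Lgr Lrot147 (Lpr_ct (f669698 IH) (Lpr_gt (f616425 IH) (Lpr_ct (f616419 IH) (Lpe (K51.f425739 IH) (Lpr_cf (f747375 IH) (Lpe (f747382 IH) (Lpe (f82959 IH) (Lpr_gf (f755834 IH) (Lpe (f112508 IH) (Lpn (LP (LK LD1_c15 LD2_c4 LD3_c48))))))))))))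
theorem f755837 : Led Lsl_gt (LP (LK LD1_c15 LD2_c4 LD3_c48)) = (LP (LK LD1_c20 LD2_c38 LD3_c40)) :=
  Leop (Lpr_gf (f755836 IH) (Lpn (LP (LK LD1_c15 LD2_c4 LD3_c48))))
theorem seed_1124 : LEOK LG_g (LK LD1_c15 LD2_c4 LD3_c48) :=
  Leoe_g (LK LD1_c15 LD2_c4 LD3_c48) (f755837 IH)
def v17146 : LQ := Led Lsl_ct (LP (LK LD1_c6 LD2_c12 LD3_c24))
theorem f756344 : Led Lsl_ct (LP (LK LD1_c6 LD2_c12 LD3_c24)) = v17146 :=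
  Lrfl
def v5868 : LQ := Led Lsl_gf (LP (LK LD1_c3 LD2_c14 LD3_c20))
theorem f649895 : Led Lsl_gf (LP (LK LD1_c3 LD2_c14 LD3_c20)) = v5868 :=
  Lrfl
theorem f416131 : Led Lsl_et (LP (LK LD1_c3 LD2_c2 LD3_c46)) = (LP (LK LD1_c6 LD2_c12 LD3_c24)) :=
  Lre_e IH (LK LD1_c3 LD2_c2 LD3_c46) (LK LD1_c6 LD2_c12 LD3_c24) Lrfl Lrfl
theorem f663884 : v5868 = (LP (LK LD1_c6 LD2_c12 LD3_c24)) :=
  (Llr Lrot141 (Lpe (f649895 IH) (Lpe (K48.f506899 IH) (Lpr_dt (K46.f22530 IH) (Lpr_gt (K46.f506863 IH) (Lpqs (K48.f662762 IH) (Lpe (K48.f653192 IH) (Lpr_et (K46.f454623 IH) (Lpe (K48.f454772 IH) (Lpqs (K49.f662785 IH) (Lpr_dt (K48.f148095 IH) (Lpr_gt (K48.f527500 IH) (Lpq (K48.f662781 IH) (Lpe (K48.f416115 IH) (Lpr_et (f416131 IH) (Lpn (LP (LK LD1_c6 LD2_c12 LD3_c24)))))))))))))))))).symm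
theorem f437458 : Led Lsl_ct (LP (LK LD1_c4 LD2_c48 LD3_c13)) = (LP (LK LD1_c2 LD2_c22 LD3_c1)) :=
  Lre_c IH (LK LD1_c4 LD2_c48 LD3_c13) (LK LD1_c2 LD2_c22 LD3_c1) Lrfl Lrfl
theorem f148508 : Led Lsl_dt (LP (LK LD1_c9 LD2_c29 LD3_c12)) = (LP (LK LD1_c4 LD2_c48 LD3_c13)) :=
  Lre_d IH (LK LD1_c9 LD2_c29 LD3_c12) (LK LD1_c4 LD2_c48 LD3_c13) Lrfl Lrfl
theorem f22738 : Led Lsl_et (LP (LK LD1_c0 LD2_c43 LD3_c24)) = (LP (LK LD1_c1 LD2_c33 LD3_c39)) :=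
  Lre_e IH (LK LD1_c0 LD2_c43 LD3_c24) (LK LD1_c1 LD2_c33 LD3_c39) Lrfl Lrfl
theorem f437800 : Led Lsl_et (LP (LK LD1_c6 LD2_c32 LD3_c7)) = (LP (LK LD1_c3 LD2_c14 LD3_c13)) :=
  Lre_e IH (LK LD1_c6 LD2_c32 LD3_c7) (LK LD1_c3 LD2_c14 LD3_c13) Lrfl Lrfl
theorem f437801 : Led Lsl_dt (LP (LK LD1_c6 LD2_c32 LD3_c7)) = (LP (LK LD1_c12 LD2_c32 LD3_c4)) :=
  Lre_d IH (LK LD1_c6 LD2_c32 LD3_c7) (LK LD1_c12 LD2_c32 LD3_c4) Lrfl Lrfl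
theorem f143191 : Led Lsl_et (LP (LK LD1_c4 LD2_c48 LD3_c13)) = (LP (LK LD1_c2 LD2_c22 LD3_c0)) :=
  Lre_e IH (LK LD1_c4 LD2_c48 LD3_c13) (LK LD1_c2 LD2_c22 LD3_c0) Lrfl Lrfl
theorem f143192 : Led Lsl_dt (LP (LK LD1_c4 LD2_c48 LD3_c13)) = (LP (LK LD1_c9 LD2_c29 LD3_c12)) :=
  Lre_d IH (LK LD1_c4 LD2_c48 LD3_c13) (LK LD1_c9 LD2_c29 LD3_c12) Lrfl Lrfl
theorem f437802 : Led Lsl_gt (LP (LK LD1_c12 LD2_c32 LD3_c4)) = (LP (LK LD1_c9 LD2_c29 LD3_c12)) :=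
  Lgr Lrot112 (Lpe (f437801 IH) (Lpr_et (f437800 IH) (Lpe (K50.f22595 IH) (Lpe (f22738 IH) (Lpr_dt (K5.f22664 IH) (Lpe (K6.f22640 IH) (Lpr_df (K6.f144139 IH) (Lpr_gf (K6.f143186 IH) (Lpe (f143191 IH) (Lpr_dt (f143192 IH) (Lpn (LP (LK LD1_c9 LD2_c29 LD3_c12)))))))))))))
theorem f756348 : Led Lsl_gf (LP (LK LD1_c6 LD2_c32 LD3_c7)) = v17146 :=
  Lgr Lrot148 (Lpr_dt (f437801 IH) (Lpr_gt (f437802 IH) (Lpr_dt (f148508 IH) (Lpr_ct (f437458 IH) (Lpe (K49.f84604 IH) (Lpe (K48.f144147 IH) (Lpe (K48.f144146 IH) (Lpr_gf (f649895 IH) (Lpqs (f663884 IH) (Lpr_ct (f756344 IH) (Lpn v17146)))))))))))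
theorem f57606 : Led Lsl_bt (LP (LK LD1_c6 LD2_c17 LD3_c51)) = (LP (LK LD1_c3 LD2_c6 LD3_c8)) :=
  Lre_b IH (LK LD1_c6 LD2_c17 LD3_c51) (LK LD1_c3 LD2_c6 LD3_c8) Lrfl Lrfl
theorem f57156 : Led Lsl_bt (LP (LK LD1_c3 LD2_c2 LD3_c53)) = (LP (LK LD1_c6 LD2_c12 LD3_c24)) :=
  Lre_b IH (LK LD1_c3 LD2_c2 LD3_c53) (LK LD1_c6 LD2_c12 LD3_c24) Lrfl Lrfl
theorem f503223 : Led Lsl_ff (LP (LK LD1_c6 LD2_c17 LD3_c51)) = (LP (LK LD1_c6 LD2_c12 LD3_c24)) :=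
  Lgr Lrot25 (Lpr_bt (f57606 IH) (Lpr_ft (K32.f503221 IH) (Lpr_bt (f57156 IH) (Lpn (LP (LK LD1_c6 LD2_c12 LD3_c24))))))
theorem f504464 : Led Lsl_ft (LP (LK LD1_c6 LD2_c17 LD3_c51)) = (LP (LK LD1_c6 LD2_c12 LD3_c24)) :=
  Lgr Lrot48 (Lpr_ff (f503223 IH) (Lpn (LP (LK LD1_c6 LD2_c12 LD3_c24))))
theorem f57652 : Led Lsl_ct (LP (LK LD1_c12 LD2_c12 LD3_c0)) = (LP (LK LD1_c6 LD2_c17 LD3_c51)) :=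
  Lre_c IH (LK LD1_c12 LD2_c12 LD3_c0) (LK LD1_c6 LD2_c17 LD3_c51) Lrfl Lrfl
theorem f756347 : Led Lsl_ff (LP (LK LD1_c12 LD2_c12 LD3_c0)) = v17146 :=
  Lgr Lrot23 (Lpr_ct (f57652 IH) (Lpr_ft (f504464 IH) (Lpr_ct (f756344 IH) (Lpn v17146))))
theorem f662880 : Led Lsl_et (LP (LK LD1_c6 LD2_c31 LD3_c40)) = (LP (LK LD1_c12 LD2_c31 LD3_c20)) :=
  Lre_e IH (LK LD1_c6 LD2_c31 LD3_c40) (LK LD1_c12 LD2_c31 LD3_c20) Lrfl Lrfl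
theorem f646925 : Led Lsl_et (LP (LK LD1_c12 LD2_c12 LD3_c0)) = (LP (LK LD1_c6 LD2_c17 LD3_c49)) :=
  Lre_e IH (LK LD1_c12 LD2_c12 LD3_c0) (LK LD1_c6 LD2_c17 LD3_c49) Lrfl Lrfl
theorem f662885 : Led Lsl_at (LP (LK LD1_c12 LD2_c31 LD3_c20)) = (LP (LK LD1_c12 LD2_c12 LD3_c0)) :=
  Lgr Lrot80 (Lpe (f662880 IH) (Lpr_af (K48.f662882 IH) (Lpe (f646925 IH) (Lpn (LP (LK LD1_c12 LD2_c12 LD3_c0))))))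
theorem f662887 : Led Lsl_af (LP (LK LD1_c12 LD2_c31 LD3_c20)) = (LP (LK LD1_c12 LD2_c12 LD3_c0)) :=
  Lgr Lrot0 (Lpr_at (f662885 IH) (Lpn (LP (LK LD1_c12 LD2_c12 LD3_c0))))
theorem f756349 : Led Lsl_gt (LP (LK LD1_c6 LD2_c32 LD3_c7)) = (LP (LK LD1_c12 LD2_c31 LD3_c20)) :=
  Lgr Lrot46 (Lpr_gf (f756348 IH) (Lpe (f756347 IH) (Lpe (f662887 IH) (Lpn (LP (LK LD1_c12 LD2_c31 LD3_c20))))))
theorem f756350 : Led Lsl_gt (LP (LK LD1_c6 LD2_c32 LD3_c7)) = (LP (LK LD1_c12 LD2_c31 LD3_c20)) :=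
  Leop (Lpe (f756349 IH) (Lpn (LP (LK LD1_c6 LD2_c32 LD3_c7))))
theorem seed_1125 : LEOK LG_g (LK LD1_c6 LD2_c32 LD3_c7) :=
  Leoe_g (LK LD1_c6 LD2_c32 LD3_c7) (f756350 IH)
def v17150 : LQ := Led Lsl_ct (LP (LK LD1_c6 LD2_c12 LD3_c28))
theorem f756373 : Led Lsl_ct (LP (LK LD1_c6 LD2_c12 LD3_c28)) = v17150 :=
  Lrfl
theorem f413520 : Led Lsl_bt (LP (LK LD1_c11 LD2_c27 LD3_c18)) = (LP (LK LD1_c5 LD2_c48 LD3_c59)) :=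
  Lre_b IH (LK LD1_c11 LD2_c27 LD3_c18) (LK LD1_c5 LD2_c48 LD3_c59) Lrfl Lrfl
theorem f141066 : Led Lsl_bt (LP (LK LD1_c4 LD2_c40 LD3_c58)) = (LP (LK LD1_c9 LD2_c17 LD3_c22)) :=
  Lre_b IH (LK LD1_c4 LD2_c40 LD3_c58) (LK LD1_c9 LD2_c17 LD3_c22) Lrfl Lrfl
theorem f181163 : Led Lsl_et (LP (LK LD1_c5 LD2_c45 LD3_c33)) = (LP (LK LD1_c6 LD2_c8 LD3_c11)) :=
  Lgr Lrot122 (Lpr_dt (K55.f168239 IH) (Lpr_gt (K55.f168238 IH) (Lpe (K18.f168237 IH) (Lpe (K18.f168227 IH) (Lpr_gt (K9.f168201 IH) (Lpr_dt (K56.f21260 IH) (Lpr_gt (K9.f181150 IH) (Lpr_df (K9.f177798 IH) (Lpr_et (K16.f181146 IH) (Lpr_gt (K56.f181162 IH) (Lpn (LP (LK LD1_c6 LD2_c8 LD3_c11)))))))))))))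
theorem f181165 : Led Lsl_bt (LP (LK LD1_c11 LD2_c21 LD3_c33)) = (LP (LK LD1_c5 LD2_c45 LD3_c33)) :=
  Lre_b IH (LK LD1_c11 LD2_c21 LD3_c33) (LK LD1_c5 LD2_c45 LD3_c33) Lrfl Lrfl
theorem f751607 : Led Lsl_ef (LP (LK LD1_c11 LD2_c21 LD3_c33)) = (LP (LK LD1_c9 LD2_c7 LD3_c33)) :=
  Lgr Lrot29 (Lpr_bt (f181165 IH) (Lpr_et (f181163 IH) (Lpr_bt (K56.f751601 IH) (Lpn (LP (LK LD1_c9 LD2_c7 LD3_c33))))))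
theorem f751611 : Led Lsl_et (LP (LK LD1_c11 LD2_c21 LD3_c33)) = (LP (LK LD1_c9 LD2_c7 LD3_c33)) :=
  Lgr Lrot87 (Lpr_ef (f751607 IH) (Lpn (LP (LK LD1_c9 LD2_c7 LD3_c33))))
theorem f741013 : Led Lsl_dt (LP (LK LD1_c5 LD2_c45 LD3_c32)) = (LP (LK LD1_c11 LD2_c21 LD3_c33)) :=
  Lre_d IH (LK LD1_c5 LD2_c45 LD3_c32) (LK LD1_c11 LD2_c21 LD3_c33) Lrfl Lrfl
theorem f741014 : Led Lsl_et (LP (LK LD1_c11 LD2_c21 LD3_c34)) = (LP (LK LD1_c5 LD2_c45 LD3_c32)) :=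
  Lre_e IH (LK LD1_c11 LD2_c21 LD3_c34) (LK LD1_c5 LD2_c45 LD3_c32) Lrfl Lrfl
theorem f501156 : Led Lsl_dt (LP (LK LD1_c1 LD2_c24 LD3_c33)) = (LP (LK LD1_c2 LD2_c57 LD3_c44)) :=
  Lre_d IH (LK LD1_c1 LD2_c24 LD3_c33) (LK LD1_c2 LD2_c57 LD3_c44) Lrfl Lrfl
theorem f501163 : Led Lsl_et (LP (LK LD1_c1 LD2_c24 LD3_c33)) = (LP (LK LD1_c2 LD2_c57 LD3_c45)) :=
  Lre_e IH (LK LD1_c1 LD2_c24 LD3_c33) (LK LD1_c2 LD2_c57 LD3_c45) Lrfl Lrfl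
theorem f501183 : Led Lsl_gt (LP (LK LD1_c2 LD2_c57 LD3_c45)) = (LP (LK LD1_c6 LD2_c3 LD3_c17)) :=
  Lre_g IH (LK LD1_c2 LD2_c57 LD3_c45) (LK LD1_c6 LD2_c3 LD3_c17) Lrfl Lrfl
theorem f442458 : Led Lsl_gt (LP (LK LD1_c5 LD2_c55 LD3_c57)) = (LP (LK LD1_c2 LD2_c54 LD3_c44)) :=
  Lre_g IH (LK LD1_c5 LD2_c55 LD3_c57) (LK LD1_c2 LD2_c54 LD3_c44) Lrfl Lrfl
theorem f442417 : Led Lsl_at (LP (LK LD1_c4 LD2_c35 LD3_c32)) = (LP (LK LD1_c9 LD2_c7 LD3_c19)) :=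
  Lre_a IH (LK LD1_c4 LD2_c35 LD3_c32) (LK LD1_c9 LD2_c7 LD3_c19) Lrfl Lrfl
theorem f442418 : Led Lsl_at (LP (LK LD1_c5 LD2_c55 LD3_c57)) = (LP (LK LD1_c2 LD2_c54 LD3_c46)) :=
  Lre_a IH (LK LD1_c5 LD2_c55 LD3_c57) (LK LD1_c2 LD2_c54 LD3_c46) Lrfl Lrfl
theorem f442419 : Led Lsl_et (LP (LK LD1_c9 LD2_c7 LD3_c19)) = (LP (LK LD1_c5 LD2_c55 LD3_c57)) :=
  Lgr Lrot123 (Lpe (f442417 IH) (Lpr_ef (K45.f442415 IH) (Lpe (f442418 IH) (Lpn (LP (LK LD1_c5 LD2_c55 LD3_c57))))))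
theorem f442455 : Led Lsl_dt (LP (LK LD1_c9 LD2_c7 LD3_c19)) = (LP (LK LD1_c16 LD2_c59 LD3_c29)) :=
  Lre_d IH (LK LD1_c9 LD2_c7 LD3_c19) (LK LD1_c16 LD2_c59 LD3_c29) Lrfl Lrfl
theorem f442457 : Led Lsl_gt (LP (LK LD1_c9 LD2_c7 LD3_c33)) = (LP (LK LD1_c16 LD2_c59 LD3_c29)) :=
  Lre_g IH (LK LD1_c9 LD2_c7 LD3_c33) (LK LD1_c16 LD2_c59 LD3_c29) Lrfl Lrfl
theorem f710949 : Led Lsl_dt (LP (LK LD1_c6 LD2_c3 LD3_c17)) = (LP (LK LD1_c9 LD2_c7 LD3_c33)) :=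
  Lgr Lrot171 (Lpe (f501183 IH) (Lpe (f501163 IH) (Lpr_dt (f501156 IH) (Lpe (K52.f501152 IH) (Lpr_df (K52.f710940 IH) (Lpr_et (K52.f442459 IH) (Lpe (f442458 IH) (Lpe (f442419 IH) (Lpr_dt (f442455 IH) (Lpe (f442457 IH) (Lpn (LP (LK LD1_c9 LD2_c7 LD3_c33)))))))))))))
theorem f710951 : Led Lsl_df (LP (LK LD1_c6 LD2_c3 LD3_c17)) = (LP (LK LD1_c9 LD2_c7 LD3_c33)) :=
  Lgr Lrot38 (Lpr_dt (f710949 IH) (Lpn (LP (LK LD1_c9 LD2_c7 LD3_c33))))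
theorem f710953 : Led Lsl_et (LP (LK LD1_c6 LD2_c3 LD3_c17)) = (LP (LK LD1_c11 LD2_c50 LD3_c23)) :=
  Lre_e IH (LK LD1_c6 LD2_c3 LD3_c17) (LK LD1_c11 LD2_c50 LD3_c23) Lrfl Lrfl
theorem f751613 : Led Lsl_df (LP (LK LD1_c11 LD2_c21 LD3_c34)) = (LP (LK LD1_c11 LD2_c50 LD3_c23)) :=
  Lgr Lrot70 (Lpr_et (f741014 IH) (Lpr_dt (f741013 IH) (Lpr_et (f751611 IH) (Lpe (f710951 IH) (Lpr_et (f710953 IH) (Lpn (LP (LK LD1_c11 LD2_c50 LD3_c23))))))))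
theorem f112491 : Led Lsl_dt (LP (LK LD1_c2 LD2_c14 LD3_c56)) = (LP (LK LD1_c4 LD2_c35 LD3_c31)) :=
  Lre_d IH (LK LD1_c2 LD2_c14 LD3_c56) (LK LD1_c4 LD2_c35 LD3_c31) Lrfl Lrfl
theorem f710954 : Led Lsl_gt (LP (LK LD1_c11 LD2_c50 LD3_c23)) = (LP (LK LD1_c6 LD2_c45 LD3_c15)) :=
  Lgr Lrot137 (Lpe (f710953 IH) (Lpr_dt (f710949 IH) (Lpe (K56.f117018 IH) (Lpe (f112491 IH) (Lpr_et (K45.f112490 IH) (Lpe (K8.f116978 IH) (Lpe (K51.f116990 IH) (Lpr_dt (K51.f116991 IH) (Lpe (K51.f117015 IH) (Lpe (K51.f707250 IH) (Lpn (LP (LK LD1_c6 LD2_c45 LD3_c15)))))))))))))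
theorem f509424 : Led Lsl_at (LP (LK LD1_c3 LD2_c20 LD3_c46)) = (LP (LK LD1_c6 LD2_c45 LD3_c15)) :=
  Lre_a IH (LK LD1_c3 LD2_c20 LD3_c46) (LK LD1_c6 LD2_c45 LD3_c15) Lrfl Lrfl
theorem f509383 : Led Lsl_ft (LP (LK LD1_c6 LD2_c45 LD3_c24)) = (LP (LK LD1_c3 LD2_c20 LD3_c46)) :=
  Lre_f IH (LK LD1_c6 LD2_c45 LD3_c24) (LK LD1_c3 LD2_c20 LD3_c46) Lrfl Lrfl
theorem f710956 : Led Lsl_gf (LP (LK LD1_c11 LD2_c50 LD3_c23)) = (LP (LK LD1_c6 LD2_c45 LD3_c24)) :=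
  Lgr Lrot47 (Lpr_gt (f710954 IH) (Lpe (f509424 IH) (Lpe (f509383 IH) (Lpn (LP (LK LD1_c6 LD2_c45 LD3_c24))))))
theorem f510138 : Led Lsl_et (LP (LK LD1_c9 LD2_c31 LD3_c38)) = (LP (LK LD1_c6 LD2_c45 LD3_c24)) :=
  Lgr Lrot87 (Lpr_ef (K55.f510136 IH) (Lpn (LP (LK LD1_c6 LD2_c45 LD3_c24))))
theorem f509902 : Led Lsl_ft (LP (LK LD1_c4 LD2_c49 LD3_c25)) = (LP (LK LD1_c9 LD2_c31 LD3_c38)) :=
  Lre_f IH (LK LD1_c4 LD2_c49 LD3_c25) (LK LD1_c9 LD2_c31 LD3_c38) Lrfl Lrfl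
theorem f748088 : Led Lsl_dt (LP (LK LD1_c9 LD2_c31 LD3_c38)) = K55.v16287 :=
  Lgr Lrot60 (Lpe (f509902 IH) (Lpr_df (K55.f705643 IH) (Lpr_ff (K55.f748086 IH) (Lpn K55.v16287))))
theorem f751625 : Led Lsl_gt (LP (LK LD1_c11 LD2_c21 LD3_c34)) = (LP (LK LD1_c11 LD2_c38 LD3_c24)) :=
  Lgr Lrot139 (Lpr_df (f751613 IH) (Lpr_gf (f710956 IH) (Lpe (f510138 IH) (Lpr_dt (f748088 IH) (Lpe (K55.f748085 IH) (Lpe (K55.f442460 IH) (Lpr_et (K55.f641137 IH) (Lpe (K55.f714581 IH) (Lpr_ef (K51.f646801 IH) (Lpq (K51.f706306 IH) (Lpr_dt (K51.f141860 IH) (Lpn (LP (LK LD1_c11 LD2_c38 LD3_c24))))))))))))))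
theorem f140665 : Led Lsl_at (LP (LK LD1_c20 LD2_c20 LD3_c4)) = (LP (LK LD1_c11 LD2_c22 LD3_c33)) :=
  Lre_a IH (LK LD1_c20 LD2_c20 LD3_c4) (LK LD1_c11 LD2_c22 LD3_c33) Lrfl Lrfl
theorem f706302 : Led Lsl_af (LP (LK LD1_c11 LD2_c38 LD3_c24)) = (LP (LK LD1_c6 LD2_c12 LD3_c2)) :=
  Lgr Lrot50 (Lpr_et (K51.f706300 IH) (Lpr_at (f140665 IH) (Lpr_et (K50.f140662 IH) (Lpn (LP (LK LD1_c6 LD2_c12 LD3_c2))))))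
theorem f639690 : Led Lsl_ff (LP (LK LD1_c6 LD2_c12 LD3_c2)) = (LP (LK LD1_c9 LD2_c17 LD3_c22)) :=
  Lgr Lrot25 (Lpr_bt (K50.f59847 IH) (Lpr_ft (K50.f639686 IH) (Lpr_bt (f141066 IH) (Lpn (LP (LK LD1_c9 LD2_c17 LD3_c22))))))
theorem f751627 : Led Lsl_gf (LP (LK LD1_c11 LD2_c21 LD3_c34)) = (LP (LK LD1_c9 LD2_c17 LD3_c22)) :=
  Lgr Lrot47 (Lpr_gt (f751625 IH) (Lpr_af (f706302 IH) (Lpr_ff (f639690 IH) (Lpn (LP (LK LD1_c9 LD2_c17 LD3_c22))))))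
theorem f741036 : Led Lsl_bt (LP (LK LD1_c5 LD2_c45 LD3_c34)) = (LP (LK LD1_c11 LD2_c21 LD3_c34)) :=
  Lre_b IH (LK LD1_c5 LD2_c45 LD3_c34) (LK LD1_c11 LD2_c21 LD3_c34) Lrfl Lrfl
def v15716 : LQ := Led Lsl_ct (LP (LK LD1_c5 LD2_c45 LD3_c34))
theorem f741063 : Led Lsl_ct (LP (LK LD1_c5 LD2_c45 LD3_c34)) = v15716 :=
  Lrfl
theorem f756377 : Led Lsl_gt v15716 = v17150 :=
  Lgr Lrot65 (Lpe (f741063 IH) (Lpr_bt (f741036 IH) (Lpr_gf (f751627 IH) (Lpe (f141066 IH) (Lpr_ct (K24.f61052 IH) (Lpr_gf (K24.f413516 IH) (Lpe (K24.f413515 IH) (Lpe (K24.f413480 IH) (Lpe (K55.f413518 IH) (Lpr_ct (f756373 IH) (Lpn v17150)))))))))))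
theorem f640402 : Led Lsl_bt (LP (LK LD1_c5 LD2_c45 LD3_c53)) = (LP (LK LD1_c2 LD2_c48 LD3_c45)) :=
  Lre_b IH (LK LD1_c5 LD2_c45 LD3_c53) (LK LD1_c2 LD2_c48 LD3_c45) Lrfl Lrfl
theorem f640462 : Led Lsl_ct (LP (LK LD1_c5 LD2_c45 LD3_c53)) = (LP (LK LD1_c11 LD2_c22 LD3_c7)) :=
  Lre_c IH (LK LD1_c5 LD2_c45 LD3_c53) (LK LD1_c11 LD2_c22 LD3_c7) Lrfl Lrfl
theorem f640463 : Led Lsl_gt (LP (LK LD1_c20 LD2_c19 LD3_c49)) = (LP (LK LD1_c11 LD2_c22 LD3_c7)) :=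
  Lre_g IH (LK LD1_c20 LD2_c19 LD3_c49) (LK LD1_c11 LD2_c22 LD3_c7) Lrfl Lrfl
theorem f756378 : Led Lsl_ct (LP (LK LD1_c11 LD2_c27 LD3_c18)) = (LP (LK LD1_c20 LD2_c19 LD3_c49)) :=
  Lgr Lrot64 (Lpr_bt (f413520 IH) (Lpe (K24.f413480 IH) (Lpe (K55.f413518 IH) (Lpr_ct (f756373 IH) (Lpe (f756377 IH) (Lpe (f741063 IH) (Lpq (K55.f741033 IH) (Lpe (K55.f640459 IH) (Lpe (f640402 IH) (Lpr_ct (f640462 IH) (Lpe (f640463 IH) (Lpn (LP (LK LD1_c20 LD2_c19 LD3_c49))))))))))))))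
theorem f756379 : Led Lsl_ct (LP (LK LD1_c11 LD2_c27 LD3_c18)) = (LP (LK LD1_c20 LD2_c19 LD3_c49)) :=
  Leop (Lpe (f756378 IH) (Lpn (LP (LK LD1_c11 LD2_c27 LD3_c18))))
theorem seed_1126 : LEOK LG_c (LK LD1_c11 LD2_c27 LD3_c18) :=
  Leoe_c (LK LD1_c11 LD2_c27 LD3_c18) (f756379 IH)
def v17153 : LQ := Led Lsl_ft (LP (LK LD1_c6 LD2_c12 LD3_c32))
theorem f756400 : Led Lsl_ft (LP (LK LD1_c6 LD2_c12 LD3_c32)) = v17153 :=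
  Lrfl
theorem f756405 : Led Lsl_ff (LP (LK LD1_c6 LD2_c12 LD3_c32)) = v17153 :=
  Lgr Lrot3 (Lpr_ft (f756400 IH) (Lpn v17153))
theorem f504197 : Led Lsl_ft (LP (LK LD1_c4 LD2_c57 LD3_c52)) = (LP (LK LD1_c7 LD2_c59 LD3_c49)) :=
  Lgr Lrot48 (Lpr_ff (K51.f504194 IH) (Lpn (LP (LK LD1_c7 LD2_c59 LD3_c49))))
theorem f756409 : Led Lsl_et (LP (LK LD1_c7 LD2_c59 LD3_c49)) = v17153 :=
  Lgr Lrot69 (Lpe (f504197 IH) (Lpq (K51.f706122 IH) (Lpe (K51.f701631 IH) (Lpe (K50.f504078 IH) (Lpe (K49.f413497 IH) (Lpr_ff (f756405 IH) (Lpn v17153)))))))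
theorem f415261 : Led Lsl_ft (LP (LK LD1_c4 LD2_c49 LD3_c54)) = (LP (LK LD1_c9 LD2_c32 LD3_c25)) :=
  Lre_f IH (LK LD1_c4 LD2_c49 LD3_c54) (LK LD1_c9 LD2_c32 LD3_c25) Lrfl Lrfl
theorem f415263 : Led Lsl_dt (LP (LK LD1_c9 LD2_c32 LD3_c25)) = (LP (LK LD1_c12 LD2_c58 LD3_c9)) :=
  Lgr Lrot60 (Lpe (f415261 IH) (Lpr_df (K24.f415254 IH) (Lpe (K55.f415262 IH) (Lpn (LP (LK LD1_c12 LD2_c58 LD3_c9))))))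
theorem f415274 : Led Lsl_df (LP (LK LD1_c9 LD2_c32 LD3_c25)) = (LP (LK LD1_c12 LD2_c58 LD3_c9)) :=
  Lgr Lrot38 (Lpr_dt (f415263 IH) (Lpn (LP (LK LD1_c12 LD2_c58 LD3_c9))))
theorem f413939 : Led Lsl_gt (LP (LK LD1_c6 LD2_c46 LD3_c42)) = (LP (LK LD1_c3 LD2_c21 LD3_c30)) :=
  Lre_g IH (LK LD1_c6 LD2_c46 LD3_c42) (LK LD1_c3 LD2_c21 LD3_c30) Lrfl Lrfl
theorem f415276 : Led Lsl_ft (LP (LK LD1_c9 LD2_c32 LD3_c25)) = (LP (LK LD1_c4 LD2_c49 LD3_c54)) :=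
  Lre_f IH (LK LD1_c9 LD2_c32 LD3_c25) (LK LD1_c4 LD2_c49 LD3_c54) Lrfl Lrfl
theorem f454116 : Led Lsl_gf (LP (LK LD1_c6 LD2_c46 LD3_c42)) = (LP (LK LD1_c9 LD2_c32 LD3_c25)) :=
  Lgr Lrot47 (Lpr_gt (f413939 IH) (Lpr_af (K24.f454106 IH) (Lpe (f415276 IH) (Lpn (LP (LK LD1_c9 LD2_c32 LD3_c25))))))
theorem f413648 : Led Lsl_et (LP (LK LD1_c6 LD2_c46 LD3_c43)) = (LP (LK LD1_c3 LD2_c21 LD3_c32)) :=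
  Lre_e IH (LK LD1_c6 LD2_c46 LD3_c43) (LK LD1_c3 LD2_c21 LD3_c32) Lrfl Lrfl
theorem f413649 : Led Lsl_dt (LP (LK LD1_c6 LD2_c46 LD3_c43)) = (LP (LK LD1_c3 LD2_c21 LD3_c30)) :=
  Lre_d IH (LK LD1_c6 LD2_c46 LD3_c43) (LK LD1_c3 LD2_c21 LD3_c30) Lrfl Lrfl
theorem f176746 : Led Lsl_gt (LP (LK LD1_c6 LD2_c9 LD3_c10)) = (LP (LK LD1_c11 LD2_c59 LD3_c26)) :=
  Lre_g IH (LK LD1_c6 LD2_c9 LD3_c10) (LK LD1_c11 LD2_c59 LD3_c26) Lrfl Lrfl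
theorem f416391 : Led Lsl_df (LP (LK LD1_c6 LD2_c46 LD3_c42)) = (LP (LK LD1_c11 LD2_c59 LD3_c26)) :=
  Lgr Lrot135 (Lpr_gt (f413939 IH) (Lpe (f413649 IH) (Lpr_et (f413648 IH) (Lpr_gt (K17.f413638 IH) (Lpe (K50.f73866 IH) (Lpr_dt (K9.f60726 IH) (Lpe (K19.f176755 IH) (Lpe (K36.f24236 IH) (Lpr_et (K36.f24235 IH) (Lpr_gt (f176746 IH) (Lpn (LP (LK LD1_c11 LD2_c59 LD3_c26)))))))))))))
theorem f613353 : Led Lsl_dt (LP (LK LD1_c4 LD2_c31 LD3_c50)) = (LP (LK LD1_c2 LD2_c12 LD3_c57)) :=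
  Lgr Lrot44 (Lpr_af (K50.f613346 IH) (Lpe (K55.f225535 IH) (Lpr_af (K50.f380643 IH) (Lpn (LP (LK LD1_c2 LD2_c12 LD3_c57))))))
theorem f413666 : Led Lsl_et (LP (LK LD1_c4 LD2_c41 LD3_c5)) = (LP (LK LD1_c9 LD2_c17 LD3_c40)) :=
  Lre_e IH (LK LD1_c4 LD2_c41 LD3_c5) (LK LD1_c9 LD2_c17 LD3_c40) Lrfl Lrfl
theorem f168838 : Led Lsl_gt (LP (LK LD1_c4 LD2_c31 LD3_c52)) = (LP (LK LD1_c2 LD2_c12 LD3_c57)) :=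
  Lre_g IH (LK LD1_c4 LD2_c31 LD3_c52) (LK LD1_c2 LD2_c12 LD3_c57) Lrfl Lrfl
theorem f380651 : Led Lsl_dt (LP (LK LD1_c9 LD2_c1 LD3_c36)) = (LP (LK LD1_c4 LD2_c31 LD3_c52)) :=
  Lre_d IH (LK LD1_c9 LD2_c1 LD3_c36) (LK LD1_c4 LD2_c31 LD3_c52) Lrfl Lrfl
theorem f613412 : Led Lsl_gt (LP (LK LD1_c9 LD2_c17 LD3_c40)) = (LP (LK LD1_c9 LD2_c1 LD3_c36)) :=
  Lgr Lrot137 (Lpe (f413666 IH) (Lpr_dt (K51.f180334 IH) (Lpr_gf (K17.f413652 IH) (Lpe (K2.f73672 IH) (Lpe (K24.f73849 IH) (Lpr_gf (K37.f495737 IH) (Lpqs (K37.f537458 IH) (Lpe (K24.f379927 IH) (Lpr_dt (f613353 IH) (Lpe (f168838 IH) (Lpe (f380651 IH) (Lpn (LP (LK LD1_c9 LD2_c1 LD3_c36))))))))))))))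
theorem f613419 : Led Lsl_et (LP (LK LD1_c11 LD2_c59 LD3_c26)) = (LP (LK LD1_c9 LD2_c1 LD3_c36)) :=
  Lgr Lrot122 (Lpe (f416391 IH) (Lpr_gt (f413939 IH) (Lpe (f413649 IH) (Lpr_et (f413648 IH) (Lpr_gt (K17.f413638 IH) (Lpr_dt (K2.f73672 IH) (Lpe (K17.f413652 IH) (Lpe (K51.f180334 IH) (Lpr_et (f413666 IH) (Lpr_gt (f613412 IH) (Lpn (LP (LK LD1_c9 LD2_c1 LD3_c36)))))))))))))
theorem f756411 : Led Lsl_gt (LP (LK LD1_c9 LD2_c1 LD3_c36)) = v17153 :=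
  Lgr Lrot131 (Lpe (f613419 IH) (Lpe (f416391 IH) (Lpr_gf (f454116 IH) (Lpr_df (f415274 IH) (Lpr_gf (K55.f746467 IH) (Lpe (K55.f745057 IH) (Lpr_dt (K55.f745055 IH) (Lpe (K55.f745062 IH) (Lpr_df (K51.f413491 IH) (Lpr_et (f756409 IH) (Lpn v17153)))))))))))
theorem f380649 : Led Lsl_dt (LP (LK LD1_c4 LD2_c31 LD3_c52)) = (LP (LK LD1_c9 LD2_c1 LD3_c36)) :=
  Lre_d IH (LK LD1_c4 LD2_c31 LD3_c52) (LK LD1_c9 LD2_c1 LD3_c36) Lrfl Lrfl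
theorem f613418 : Led Lsl_et (LP (LK LD1_c4 LD2_c31 LD3_c52)) = (LP (LK LD1_c9 LD2_c1 LD3_c37)) :=
  Lre_e IH (LK LD1_c4 LD2_c31 LD3_c52) (LK LD1_c9 LD2_c1 LD3_c37) Lrfl Lrfl
theorem f689166 : Led Lsl_dt (LP (LK LD1_c6 LD2_c12 LD3_c32)) = K49.v12282 :=
  Lgr Lrot77 (Lpe (K54.f413483 IH) (Lpe (K24.f413465 IH) (Lpe (K16.f413486 IH) (Lpr_df (K24.f413494 IH) (Lpr_ef (K49.f689163 IH) (Lpn K49.v12282))))))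
def v17151 : LQ := Led Lsl_et (LP (LK LD1_c6 LD2_c12 LD3_c28))
theorem f756385 : Led Lsl_et (LP (LK LD1_c6 LD2_c12 LD3_c28)) = v17151 :=
  Lrfl
theorem f503743 : Led Lsl_ff (LP (LK LD1_c2 LD2_c26 LD3_c46)) = (LP (LK LD1_c3 LD2_c59 LD3_c14)) :=
  Lgr Lrot19 (Lpr_dt (K32.f140575 IH) (Lpr_ft (K32.f503738 IH) (Lpr_dt (K16.f413487 IH) (Lpn (LP (LK LD1_c3 LD2_c59 LD3_c14))))))
theorem f756389 : Led Lsl_ff K49.v12282 = v17151 :=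
  Lgr Lrot72 (Lpe (K49.f689163 IH) (Lpe (f503743 IH) (Lpr_et (K41.f415708 IH) (Lpqs (K51.f706046 IH) (Lpe (K51.f701624 IH) (Lpr_et (f756385 IH) (Lpn v17151)))))))
theorem f756392 : Led Lsl_ft K49.v12282 = v17151 :=
  Lgr Lrot48 (Lpr_ff (f756389 IH) (Lpn v17151))
theorem f756408 : Led Lsl_dt v17151 = v17153 :=
  Lgr Lrot60 (Lpe (f756392 IH) (Lpe (f689166 IH) (Lpr_ff (f756405 IH) (Lpn v17153))))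
theorem f756388 : Led Lsl_ef (LP (LK LD1_c6 LD2_c12 LD3_c28)) = v17151 :=
  Lgr Lrot88 (Lpr_et (f756385 IH) (Lpn v17151))
theorem f707195 : Led Lsl_dt (LP (LK LD1_c12 LD2_c4 LD3_c23)) = (LP (LK LD1_c6 LD2_c46 LD3_c33)) :=
  Lgr Lrot42 (Lpr_df (K51.f707189 IH) (Lpn (LP (LK LD1_c6 LD2_c46 LD3_c33))))
theorem f454213 : Led Lsl_gt (LP (LK LD1_c6 LD2_c46 LD3_c33)) = (LP (LK LD1_c6 LD2_c46 LD3_c53)) :=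
  Lgr Lrot46 (Lpe (K51.f446273 IH) (Lpr_ft (K24.f454180 IH) (Lpr_at (K24.f454208 IH) (Lpn (LP (LK LD1_c6 LD2_c46 LD3_c53))))))
theorem f756412 : Led Lsl_gf (LP (LK LD1_c9 LD2_c1 LD3_c37)) = (LP (LK LD1_c11 LD2_c7 LD3_c0)) :=
  Lgr Lrot141 (Lpe (f613418 IH) (Lpr_dt (f380649 IH) (Lpr_gt (f756411 IH) (Lpe (f756408 IH) (Lpe (f756388 IH) (Lpr_gt (K51.f416488 IH) (Lpr_dt (f707195 IH) (Lpr_gt (f454213 IH) (Lpr_df (K46.f643234 IH) (Lpr_et (K56.f319438 IH) (Lpn (LP (LK LD1_c11 LD2_c7 LD3_c0)))))))))))))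
theorem f756413 : Led Lsl_gt (LP (LK LD1_c11 LD2_c7 LD3_c0)) = (LP (LK LD1_c9 LD2_c1 LD3_c37)) :=
  Leop (Lpr_gf (f756412 IH) (Lpn (LP (LK LD1_c11 LD2_c7 LD3_c0))))
theorem seed_1127 : LEOK LG_g (LK LD1_c11 LD2_c7 LD3_c0) :=
  Leoe_g (LK LD1_c11 LD2_c7 LD3_c0) (f756413 IH)
def v13286 : LQ := Led Lsl_ct (LP (LK LD1_c4 LD2_c42 LD3_c22))
theorem f702153 : Led Lsl_ct (LP (LK LD1_c4 LD2_c42 LD3_c22)) = v13286 :=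
  Lrfl
theorem f435104 : Led Lsl_ct (LP (LK LD1_c6 LD2_c23 LD3_c7)) = (LP (LK LD1_c3 LD2_c9 LD3_c12)) :=
  Lre_c IH (LK LD1_c6 LD2_c23 LD3_c7) (LK LD1_c3 LD2_c9 LD3_c12) Lrfl Lrfl
theorem f702157 : Led Lsl_ff (LP (LK LD1_c6 LD2_c23 LD3_c7)) = v13286 :=
  Lgr Lrot23 (Lpr_ct (f435104 IH) (Lpe (K48.f639375 IH) (Lpr_ct (f702153 IH) (Lpn v13286))))
theorem f640082 : Led Lsl_ef (LP (LK LD1_c4 LD2_c42 LD3_c23)) = (LP (LK LD1_c3 LD2_c8 LD3_c33)) :=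
  Lgr Lrot88 (Lpr_et (K52.f640076 IH) (Lpn (LP (LK LD1_c3 LD2_c8 LD3_c33))))
theorem f152261 : Led Lsl_ct (LP (LK LD1_c4 LD2_c42 LD3_c23)) = (LP (LK LD1_c9 LD2_c19 LD3_c5)) :=
  Lre_c IH (LK LD1_c4 LD2_c42 LD3_c23) (LK LD1_c9 LD2_c19 LD3_c5) Lrfl Lrfl
theorem f640084 : Led Lsl_et (LP (LK LD1_c9 LD2_c19 LD3_c5)) = (LP (LK LD1_c6 LD2_c21 LD3_c43)) :=
  Lgr Lrot158 (Lpe (f152261 IH) (Lpr_ef (f640082 IH) (Lpe (K50.f435555 IH) (Lpn (LP (LK LD1_c6 LD2_c21 LD3_c43))))))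
theorem f640019 : Led Lsl_at (LP (LK LD1_c6 LD2_c21 LD3_c43)) = (LP (LK LD1_c9 LD2_c18 LD3_c32)) :=
  Lgr Lrot26 (Lpr_ff (K51.f640015 IH) (Lpr_gt (K50.f204626 IH) (Lpe (K50.f507367 IH) (Lpn (LP (LK LD1_c9 LD2_c18 LD3_c32))))))
theorem f627819 : Led Lsl_ef (LP (LK LD1_c4 LD2_c43 LD3_c52)) = K35.v3903 :=
  Lgr Lrot88 (Lpr_et (K35.f627816 IH) (Lpn K35.v3903))
theorem f435684 : Led Lsl_dt (LP (LK LD1_c6 LD2_c22 LD3_c18)) = (LP (LK LD1_c3 LD2_c8 LD3_c52)) :=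
  Lre_d IH (LK LD1_c6 LD2_c22 LD3_c18) (LK LD1_c3 LD2_c8 LD3_c52) Lrfl Lrfl
theorem f504240 : Led Lsl_ff (LP (LK LD1_c12 LD2_c17 LD3_c12)) = (LP (LK LD1_c12 LD2_c17 LD3_c60)) :=
  Lgr Lrot19 (Lpr_dt (K50.f435716 IH) (Lpr_ft (K35.f504233 IH) (Lpr_dt (K32.f503567 IH) (Lpn (LP (LK LD1_c12 LD2_c17 LD3_c60))))))
theorem f135630 : Led Lsl_af (LP (LK LD1_c2 LD2_c21 LD3_c60)) = (LP (LK LD1_c1 LD2_c36 LD3_c13)) :=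
  Lgr Lrot68 (Lpr_ct (K32.f92142 IH) (Lpr_at (K6.f135624 IH) (Lpr_ct (K5.f24676 IH) (Lpn (LP (LK LD1_c1 LD2_c36 LD3_c13))))))
theorem f24940 : Led Lsl_ft (LP (LK LD1_c3 LD2_c19 LD3_c40)) = (LP (LK LD1_c1 LD2_c36 LD3_c13)) :=
  Lre_f IH (LK LD1_c3 LD2_c19 LD3_c40) (LK LD1_c1 LD2_c36 LD3_c13) Lrfl Lrfl
theorem f435690 : Led Lsl_gf (LP (LK LD1_c3 LD2_c8 LD3_c52)) = (LP (LK LD1_c3 LD2_c19 LD3_c40)) :=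
  Lgr Lrot47 (Lpr_gt (K32.f435681 IH) (Lpr_af (f135630 IH) (Lpe (f24940 IH) (Lpn (LP (LK LD1_c3 LD2_c19 LD3_c40))))))
theorem f435683 : Led Lsl_dt (LP (LK LD1_c3 LD2_c8 LD3_c52)) = (LP (LK LD1_c6 LD2_c22 LD3_c18)) :=
  Lre_d IH (LK LD1_c3 LD2_c8 LD3_c52) (LK LD1_c6 LD2_c22 LD3_c18) Lrfl Lrfl
theorem f443987 : Led Lsl_gt (LP (LK LD1_c6 LD2_c22 LD3_c18)) = (LP (LK LD1_c12 LD2_c4 LD3_c41)) :=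
  Lgr Lrot49 (Lpe (f435683 IH) (Lpr_gf (f435690 IH) (Lpe (K32.f135702 IH) (Lpr_gt (K32.f206548 IH) (Lpr_dt (K32.f206550 IH) (Lpr_gt (K32.f443985 IH) (Lpr_dt (K9.f24624 IH) (Lpe (K35.f24649 IH) (Lpe (K50.f24642 IH) (Lpn (LP (LK LD1_c12 LD2_c4 LD3_c41))))))))))))
theorem f504270 : Led Lsl_gf (LP (LK LD1_c6 LD2_c22 LD3_c18)) = (LP (LK LD1_c12 LD2_c17 LD3_c60)) :=
  Lgr Lrot47 (Lpr_gt (f443987 IH) (Lpe (K50.f504231 IH) (Lpr_ff (f504240 IH) (Lpn (LP (LK LD1_c12 LD2_c17 LD3_c60))))))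
theorem f435460 : Led Lsl_gf (LP (LK LD1_c4 LD2_c42 LD3_c3)) = (LP (LK LD1_c2 LD2_c18 LD3_c23)) :=
  Lgr Lrot147 (Lpr_ct (K50.f153581 IH) (Lpr_gt (K50.f415390 IH) (Lpr_ct (K49.f68409 IH) (Lpe (K24.f68373 IH) (Lpr_cf (K41.f435405 IH) (Lpe (K8.f27026 IH) (Lpr_cf (K8.f61062 IH) (Lpe (K31.f59488 IH) (Lpe (K35.f61085 IH) (Lpn (LP (LK LD1_c2 LD2_c18 LD3_c23))))))))))))
theorem f627813 : Led Lsl_dt (LP (LK LD1_c4 LD2_c42 LD3_c3)) = K35.v3903 :=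
  Lgr Lrot57 (Lpr_gf (f435460 IH) (Lpe (K32.f82834 IH) (Lpe (K32.f503612 IH) (Lpr_dt (K32.f503567 IH) (Lpe (f504270 IH) (Lpr_dt (f435684 IH) (Lpe (K32.f435680 IH) (Lpr_df (K29.f491576 IH) (Lpr_gf (K35.f627810 IH) (Lpn K35.v3903))))))))))
theorem f627820 : Led Lsl_et (LP (LK LD1_c3 LD2_c9 LD3_c12)) = (LP (LK LD1_c4 LD2_c42 LD3_c3)) :=
  Lgr Lrot71 (Lpe (K35.f435098 IH) (Lpe (K46.f140819 IH) (Lpr_df (K35.f445977 IH) (Lpr_ef (f627819 IH) (Lpe (f627813 IH) (Lpn (LP (LK LD1_c4 LD2_c42 LD3_c3))))))))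
theorem f627822 : Led Lsl_ef (LP (LK LD1_c6 LD2_c23 LD3_c7)) = (LP (LK LD1_c9 LD2_c18 LD3_c32)) :=
  Lgr Lrot28 (Lpr_ct (f435104 IH) (Lpr_et (f627820 IH) (Lpr_ct (K50.f153581 IH) (Lpn (LP (LK LD1_c9 LD2_c18 LD3_c32))))))
theorem f640086 : Led Lsl_af (LP (LK LD1_c9 LD2_c19 LD3_c5)) = (LP (LK LD1_c6 LD2_c23 LD3_c7)) :=
  Lgr Lrot50 (Lpr_et (f640084 IH) (Lpr_at (f640019 IH) (Lpe (f627822 IH) (Lpn (LP (LK LD1_c6 LD2_c23 LD3_c7))))))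
def v17189 : LQ := Led Lsl_gf (LP (LK LD1_c6 LD2_c13 LD3_c0))
theorem f756555 : Led Lsl_gf (LP (LK LD1_c6 LD2_c13 LD3_c0)) = v17189 :=
  Lrfl
theorem f154400 : Led Lsl_et (LP (LK LD1_c2 LD2_c18 LD3_c40)) = (LP (LK LD1_c4 LD2_c42 LD3_c31)) :=
  Lre_e IH (LK LD1_c2 LD2_c18 LD3_c40) (LK LD1_c4 LD2_c42 LD3_c31) Lrfl Lrfl
def v13294 : LQ := Led Lsl_gt (LP (LK LD1_c4 LD2_c42 LD3_c31))
theorem f702200 : Led Lsl_gt (LP (LK LD1_c4 LD2_c42 LD3_c31)) = v13294 :=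
  Lrfl
theorem f756558 : Led Lsl_dt (LP (LK LD1_c6 LD2_c29 LD3_c51)) = v17189 :=
  Lgr Lrot57 (Lpr_gf (K51.f445945 IH) (Lpe (K49.f20114 IH) (Lpr_gt (K32.f146100 IH) (Lpr_dt (K32.f23289 IH) (Lpr_gt (K32.f20961 IH) (Lpr_dt (K0.f23290 IH) (Lpe (K29.f25549 IH) (Lpe (K0.f7493 IH) (Lpr_gf (f756555 IH) (Lpn v17189))))))))))
theorem f627826 : Led Lsl_et (LP (LK LD1_c6 LD2_c23 LD3_c7)) = (LP (LK LD1_c9 LD2_c18 LD3_c32)) :=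
  Lgr Lrot87 (Lpr_ef (f627822 IH) (Lpn (LP (LK LD1_c9 LD2_c18 LD3_c32))))
theorem f640005 : Led Lsl_at (LP (LK LD1_c6 LD2_c21 LD3_c42)) = (LP (LK LD1_c9 LD2_c18 LD3_c31)) :=
  Lgr Lrot100 (Lpr_af (K51.f640003 IH) (Lpn (LP (LK LD1_c9 LD2_c18 LD3_c31))))
theorem f640025 : Led Lsl_ff (LP (LK LD1_c6 LD2_c21 LD3_c42)) = (LP (LK LD1_c9 LD2_c18 LD3_c32)) :=
  Lgr Lrot30 (Lpr_at (f640005 IH) (Lpe (K51.f640015 IH) (Lpr_at (f640019 IH) (Lpn (LP (LK LD1_c9 LD2_c18 LD3_c32))))))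
theorem f639977 : Led Lsl_ff (LP (LK LD1_c6 LD2_c29 LD3_c51)) = (LP (LK LD1_c6 LD2_c18 LD3_c49)) :=
  Lgr Lrot23 (Lpr_ct (K51.f435260 IH) (Lpr_ft (K50.f639975 IH) (Lpr_ct (K32.f140969 IH) (Lpn (LP (LK LD1_c6 LD2_c18 LD3_c49))))))
theorem f702159 : Led Lsl_et (LP (LK LD1_c6 LD2_c29 LD3_c51)) = v13286 :=
  Lgr Lrot69 (Lpr_ff (f639977 IH) (Lpr_ef (K32.f444127 IH) (Lpr_ff (f640025 IH) (Lpe (f627826 IH) (Lpr_ff (f702157 IH) (Lpn v13286))))))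
theorem f756559 : v13294 = v13286 :=
  (Llr Lrot131 (Lpe (f702200 IH) (Lpe (f154400 IH) (Lpr_dt (K11.f154182 IH) (Lpr_gf (K7.f154383 IH) (Lpe (K7.f152743 IH) (Lpr_gf (K7.f152781 IH) (Lpe (K0.f7492 IH) (Lpr_dt (K29.f58563 IH) (Lpr_gf (f756555 IH) (Lpe (f756558 IH) (Lpr_et (f702159 IH) (Lpn v13286))))))))))))).symm
theorem f702201 : Led Lsl_gf (LP (LK LD1_c6 LD2_c24 LD3_c16)) = v13294 :=
  Lgr Lrot76 (Lpe (K11.f433532 IH) (Lpe (K11.f433531 IH) (Lpr_gt (f702200 IH) (Lpn v13294))))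
def v13295 : LQ := Led Lsl_gf (LP (LK LD1_c4 LD2_c42 LD3_c31))
theorem f702205 : Led Lsl_gf (LP (LK LD1_c4 LD2_c42 LD3_c31)) = v13295 :=
  Lrfl
theorem f702206 : Led Lsl_gt (LP (LK LD1_c6 LD2_c24 LD3_c16)) = v13295 :=
  Lgr Lrot5 (Lpr_ft (K11.f433499 IH) (Lpe (K11.f433520 IH) (Lpr_gf (f702205 IH) (Lpn v13295))))
theorem f756560 : (LP (LK LD1_c9 LD2_c19 LD3_c5)) = v13295 :=
  (Llr Lrot26 (Lpr_af (f640086 IH) (Lpr_ff (f702157 IH) (Lpq (f756559 IH) (Lpe (f702201 IH) (Lpr_gt (f702206 IH) (Lpn v13295))))))).symm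
theorem f756561 : Led Lsl_gt (LP (LK LD1_c9 LD2_c19 LD3_c5)) = (LP (LK LD1_c4 LD2_c42 LD3_c31)) :=
  Leop (Lpr_gf (f702205 IH) (Lpq (f756560 IH) (Lpn (LP (LK LD1_c9 LD2_c19 LD3_c5)))))
theorem seed_1128 : LEOK LG_g (LK LD1_c9 LD2_c19 LD3_c5) :=
  Leoe_g (LK LD1_c9 LD2_c19 LD3_c5) (f756561 IH)
def v13248 : LQ := Led Lsl_gt (LP (LK LD1_c4 LD2_c41 LD3_c57))
theorem f701904 : Led Lsl_gt (LP (LK LD1_c4 LD2_c41 LD3_c57)) = v13248 :=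
  Lrfl
theorem f430504 : Led Lsl_et (LP (LK LD1_c2 LD2_c18 LD3_c17)) = (LP (LK LD1_c4 LD2_c41 LD3_c57)) :=
  Lre_e IH (LK LD1_c2 LD2_c18 LD3_c17) (LK LD1_c4 LD2_c41 LD3_c57) Lrfl Lrfl
theorem f104606 : Led Lsl_dt (LP (LK LD1_c2 LD2_c18 LD3_c17)) = (LP (LK LD1_c1 LD2_c6 LD3_c8)) :=
  Lre_d IH (LK LD1_c2 LD2_c18 LD3_c17) (LK LD1_c1 LD2_c6 LD3_c8) Lrfl Lrfl
def v1941 : LQ := Led Lsl_et (LP (LK LD1_c1 LD2_c31 LD3_c54))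
theorem f506499 : Led Lsl_et (LP (LK LD1_c1 LD2_c31 LD3_c54)) = v1941 :=
  Lrfl
theorem f506502 : Led Lsl_ef (LP (LK LD1_c1 LD2_c31 LD3_c54)) = v1941 :=
  Lgr Lrot88 (Lpr_et (f506499 IH) (Lpn v1941))
theorem f506501 : Led Lsl_df (LP (LK LD1_c1 LD2_c33 LD3_c8)) = v1941 :=
  Lgr Lrot70 (Lpr_et (K5.f129069 IH) (Lpe (K5.f128915 IH) (Lpe (K5.f108864 IH) (Lpr_dt (K6.f79147 IH) (Lpr_et (f506499 IH) (Lpn v1941))))))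
def v5757 : LQ := Led Lsl_dt (LP (LK LD1_c3 LD2_c12 LD3_c54))
theorem f649223 : Led Lsl_dt (LP (LK LD1_c3 LD2_c12 LD3_c54)) = v5757 :=
  Lrfl
theorem f649225 : Led Lsl_df (LP (LK LD1_c3 LD2_c12 LD3_c54)) = v5757 :=
  Lgr Lrot38 (Lpr_dt (f649223 IH) (Lpn v5757))
theorem f701905 : Led Lsl_et v5757 = v13248 :=
  Lgr Lrot122 (Lpe (f649225 IH) (Lpqs (K56.f670896 IH) (Lpe (K56.f506783 IH) (Lpr_df (f506501 IH) (Lpe (f506502 IH) (Lpr_gt (K5.f79148 IH) (Lpe (K11.f131363 IH) (Lpr_gt (K6.f104662 IH) (Lpe (f104606 IH) (Lpr_et (f430504 IH) (Lpr_gt (f701904 IH) (Lpn v13248))))))))))))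
theorem f649226 : Led Lsl_ff K50.v5353 = v5757 :=
  Lgr Lrot19 (Lpe (K50.f647231 IH) (Lpe (K48.f639967 IH) (Lpr_dt (f649223 IH) (Lpn v5757))))
theorem f649228 : Led Lsl_ft K50.v5353 = v5757 :=
  Lgr Lrot48 (Lpr_ff (f649226 IH) (Lpn v5757))
theorem f701819 : Led Lsl_ft K50.v5489 = K50.v13232 :=
  Lgr Lrot48 (Lpr_ff (K50.f701816 IH) (Lpn K50.v13232))
theorem f639371 : Led Lsl_ft (LP (LK LD1_c4 LD2_c42 LD3_c22)) = (LP (LK LD1_c3 LD2_c9 LD3_c12)) :=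
  Lgr Lrot54 (Lpe (K24.f152210 IH) (Lpr_ff (K48.f639369 IH) (Lpr_df (K35.f435101 IH) (Lpn (LP (LK LD1_c3 LD2_c9 LD3_c12))))))
theorem f639973 : Led Lsl_ft (LP (LK LD1_c4 LD2_c42 LD3_c3)) = (LP (LK LD1_c3 LD2_c8 LD3_c32)) :=
  Lgr Lrot86 (Lpe (f627820 IH) (Lpe (f639371 IH) (Lpr_ef (K24.f435258 IH) (Lpr_ff (K50.f639969 IH) (Lpr_ef (K32.f444125 IH) (Lpn (LP (LK LD1_c3 LD2_c8 LD3_c32))))))))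
theorem f701820 : Led Lsl_bf (LP (LK LD1_c4 LD2_c42 LD3_c3)) = K50.v13232 :=
  Lgr Lrot61 (Lpr_ft (f639973 IH) (Lpr_bt (K50.f647913 IH) (Lpr_ft (f701819 IH) (Lpn K50.v13232))))
def v5531 : LQ := Led Lsl_bt (LP (LK LD1_c3 LD2_c9 LD3_c12))
theorem f648111 : Led Lsl_bt (LP (LK LD1_c3 LD2_c9 LD3_c12)) = v5531 :=
  Lrfl
theorem f701822 : Led Lsl_et v5531 = K50.v13232 :=
  Lgr Lrot74 (Lpe (f648111 IH) (Lpr_ef (K35.f627817 IH) (Lpr_bf (f701820 IH) (Lpn K50.v13232))))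
theorem f701909 : Led Lsl_ff v5531 = v13248 :=
  Lgr Lrot72 (Lpr_et (f701822 IH) (Lpe (K50.f701816 IH) (Lpe (K50.f647915 IH) (Lpr_ft (f649228 IH) (Lpr_et (f701905 IH) (Lpn v13248))))))
theorem f648112 : Led Lsl_bf (LP (LK LD1_c3 LD2_c9 LD3_c12)) = v5531 :=
  Lgr Lrot24 (Lpr_bt (f648111 IH) (Lpn v5531))
theorem f701910 : Led Lsl_bt (LP (LK LD1_c4 LD2_c42 LD3_c22)) = v13248 :=
  Lgr Lrot35 (Lpr_ff (K48.f639375 IH) (Lpr_bf (f648112 IH) (Lpr_ff (f701909 IH) (Lpn v13248))))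
theorem f104603 : Led Lsl_dt (LP (LK LD1_c1 LD2_c6 LD3_c8)) = (LP (LK LD1_c2 LD2_c18 LD3_c17)) :=
  Lre_d IH (LK LD1_c1 LD2_c6 LD3_c8) (LK LD1_c2 LD2_c18 LD3_c17) Lrfl Lrfl
theorem f447909 : Led Lsl_bf (LP (LK LD1_c3 LD2_c28 LD3_c45)) = (LP (LK LD1_c2 LD2_c18 LD3_c17)) :=
  Lgr Lrot93 (Lpr_dt (K11.f89000 IH) (Lpr_bt (K11.f447905 IH) (Lpr_dt (f104603 IH) (Lpn (LP (LK LD1_c2 LD2_c18 LD3_c17))))))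
theorem f429702 : Led Lsl_et (LP (LK LD1_c3 LD2_c28 LD3_c45)) = (LP (LK LD1_c6 LD2_c59 LD3_c9)) :=
  Lre_e IH (LK LD1_c3 LD2_c28 LD3_c45) (LK LD1_c6 LD2_c59 LD3_c9) Lrfl Lrfl
theorem f430503 : Led Lsl_et (LP (LK LD1_c4 LD2_c41 LD3_c57)) = (LP (LK LD1_c2 LD2_c18 LD3_c17)) :=
  Lre_e IH (LK LD1_c4 LD2_c41 LD3_c57) (LK LD1_c2 LD2_c18 LD3_c17) Lrfl Lrfl
theorem f447916 : Led Lsl_bt (LP (LK LD1_c6 LD2_c59 LD3_c9)) = (LP (LK LD1_c4 LD2_c41 LD3_c57)) :=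
  Lgr Lrot119 (Lpe (f429702 IH) (Lpr_bf (f447909 IH) (Lpe (f430503 IH) (Lpn (LP (LK LD1_c4 LD2_c41 LD3_c57))))))
theorem f126145 : Led Lsl_gf (LP (LK LD1_c7 LD2_c31 LD3_c2)) = (LP (LK LD1_c6 LD2_c41 LD3_c35)) :=
  Lgr Lrot47 (Lpr_gt (K56.f114194 IH) (Lpr_af (K7.f119309 IH) (Lpr_ff (K7.f126118 IH) (Lpn (LP (LK LD1_c6 LD2_c41 LD3_c35))))))
theorem f126147 : Led Lsl_at (LP (LK LD1_c6 LD2_c11 LD3_c45)) = (LP (LK LD1_c3 LD2_c18 LD3_c51)) :=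
  Lgr Lrot100 (Lpr_af (K5.f126116 IH) (Lpn (LP (LK LD1_c3 LD2_c18 LD3_c51))))
theorem f114202 : Led Lsl_gt (LP (LK LD1_c3 LD2_c18 LD3_c50)) = (LP (LK LD1_c6 LD2_c41 LD3_c31)) :=
  Lre_g IH (LK LD1_c3 LD2_c18 LD3_c50) (LK LD1_c6 LD2_c41 LD3_c31) Lrfl Lrfl
theorem f126188 : Led Lsl_gf (LP (LK LD1_c3 LD2_c18 LD3_c51)) = (LP (LK LD1_c6 LD2_c41 LD3_c31)) :=
  Lgr Lrot76 (Lpe (f126147 IH) (Lpr_ff (K34.f126182 IH) (Lpr_gt (f114202 IH) (Lpn (LP (LK LD1_c6 LD2_c41 LD3_c31))))))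
theorem f432816 : Led Lsl_cf (LP (LK LD1_c3 LD2_c28 LD3_c45)) = (LP (LK LD1_c6 LD2_c41 LD3_c31)) :=
  Lgr Lrot166 (Lpr_gt (K11.f432806 IH) (Lpr_dt (K3.f64517 IH) (Lpr_gt (K3.f105644 IH) (Lpr_dt (K3.f12551 IH) (Lpr_ct (K5.f12446 IH) (Lpe (K6.f12553 IH) (Lpr_gf (f126145 IH) (Lpe (K7.f114321 IH) (Lpr_gf (f126188 IH) (Lpn (LP (LK LD1_c6 LD2_c41 LD3_c31))))))))))))
theorem f119247 : Led Lsl_et (LP (LK LD1_c12 LD2_c48 LD3_c10)) = (LP (LK LD1_c6 LD2_c41 LD3_c31)) :=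
  Lre_e IH (LK LD1_c12 LD2_c48 LD3_c10) (LK LD1_c6 LD2_c41 LD3_c31) Lrfl Lrfl
theorem f432827 : Led Lsl_ct (LP (LK LD1_c6 LD2_c59 LD3_c9)) = (LP (LK LD1_c12 LD2_c48 LD3_c10)) :=
  Lgr Lrot15 (Lpe (f429702 IH) (Lpr_cf (f432816 IH) (Lpe (f119247 IH) (Lpn (LP (LK LD1_c12 LD2_c48 LD3_c10))))))
theorem f154256 : Led Lsl_ct (LP (LK LD1_c3 LD2_c9 LD3_c48)) = (LP (LK LD1_c6 LD2_c24 LD3_c16)) :=
  Lre_c IH (LK LD1_c3 LD2_c9 LD3_c48) (LK LD1_c6 LD2_c24 LD3_c16) Lrfl Lrfl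
theorem f154277 : Led Lsl_gt (LP (LK LD1_c6 LD2_c24 LD3_c11)) = (LP (LK LD1_c12 LD2_c21 LD3_c21)) :=
  Lre_g IH (LK LD1_c6 LD2_c24 LD3_c11) (LK LD1_c12 LD2_c21 LD3_c21) Lrfl Lrfl
theorem f154278 : Led Lsl_ct (LP (LK LD1_c12 LD2_c21 LD3_c21)) = (LP (LK LD1_c21 LD2_c27 LD3_c48)) :=
  Lre_c IH (LK LD1_c12 LD2_c21 LD3_c21) (LK LD1_c21 LD2_c27 LD3_c48) Lrfl Lrfl
theorem f756563 : Led Lsl_gf (LP (LK LD1_c12 LD2_c48 LD3_c10)) = (LP (LK LD1_c21 LD2_c27 LD3_c48)) :=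
  Lgr Lrot129 (Lpe (f432827 IH) (Lpr_bt (f447916 IH) (Lpr_gt (f701904 IH) (Lpe (f701910 IH) (Lpr_ct (f702153 IH) (Lpq (f756559 IH) (Lpe (f702201 IH) (Lpe (f154256 IH) (Lpr_bt (K11.f154252 IH) (Lpr_gt (f154277 IH) (Lpr_ct (f154278 IH) (Lpn (LP (LK LD1_c21 LD2_c27 LD3_c48))))))))))))))
theorem f756564 : Led Lsl_gt (LP (LK LD1_c21 LD2_c27 LD3_c48)) = (LP (LK LD1_c12 LD2_c48 LD3_c10)) :=
  Leop (Lpr_gf (f756563 IH) (Lpn (LP (LK LD1_c21 LD2_c27 LD3_c48))))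
theorem seed_1129 : LEOK LG_g (LK LD1_c21 LD2_c27 LD3_c48) :=
  Leoe_g (LK LD1_c21 LD2_c27 LD3_c48) (f756564 IH)
def v17195 : LQ := Led Lsl_gt (LP (LK LD1_c6 LD2_c13 LD3_c30))
theorem f756601 : Led Lsl_gt (LP (LK LD1_c6 LD2_c13 LD3_c30)) = v17195 :=
  Lrfl
theorem f756602 : Led Lsl_gf (LP (LK LD1_c9 LD2_c32 LD3_c12)) = v17195 :=
  Lgr Lrot76 (Lpr_af (K56.f413746 IH) (Lpr_ff (K56.f413610 IH) (Lpr_gt (f756601 IH) (Lpn v17195))))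
theorem f413751 : Led Lsl_df (LP (LK LD1_c9 LD2_c32 LD3_c12)) = (LP (LK LD1_c4 LD2_c57 LD3_c57)) :=
  Lgr Lrot78 (Lpr_ft (K17.f413744 IH) (Lpr_dt (K53.f54848 IH) (Lpr_ft (K1.f40882 IH) (Lpn (LP (LK LD1_c4 LD2_c57 LD3_c57))))))
theorem f40932 : Led Lsl_et (LP (LK LD1_c4 LD2_c57 LD3_c57)) = (LP (LK LD1_c2 LD2_c26 LD3_c48)) :=
  Lre_e IH (LK LD1_c4 LD2_c57 LD3_c57) (LK LD1_c2 LD2_c26 LD3_c48) Lrfl Lrfl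
theorem f73145 : Led Lsl_et (LP (LK LD1_c2 LD2_c49 LD3_c29)) = (LP (LK LD1_c1 LD2_c20 LD3_c54)) :=
  Lre_e IH (LK LD1_c2 LD2_c49 LD3_c29) (LK LD1_c1 LD2_c20 LD3_c54) Lrfl Lrfl
theorem f172287 : Led Lsl_et (LP (LK LD1_c2 LD2_c46 LD3_c20)) = (LP (LK LD1_c1 LD2_c19 LD3_c34)) :=
  Lre_e IH (LK LD1_c2 LD2_c46 LD3_c20) (LK LD1_c1 LD2_c19 LD3_c34) Lrfl Lrfl
theorem f172290 : Led Lsl_dt (LP (LK LD1_c5 LD2_c40 LD3_c48)) = (LP (LK LD1_c2 LD2_c46 LD3_c19)) :=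
  Lre_d IH (LK LD1_c5 LD2_c40 LD3_c48) (LK LD1_c2 LD2_c46 LD3_c19) Lrfl Lrfl
theorem f413484 : Led Lsl_gt (LP (LK LD1_c6 LD2_c12 LD3_c32)) = (LP (LK LD1_c5 LD2_c40 LD3_c48)) :=
  Lgr Lrot137 (Lpe (K54.f413483 IH) (Lpr_dt (K24.f413482 IH) (Lpr_gf (K16.f413459 IH) (Lpe (K17.f61428 IH) (Lpr_et (f73145 IH) (Lpr_gf (K9.f172276 IH) (Lpe (f172287 IH) (Lpr_dt (K54.f172288 IH) (Lpe (K54.f172289 IH) (Lpe (f172290 IH) (Lpn (LP (LK LD1_c5 LD2_c40 LD3_c48)))))))))))))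
theorem f413512 : Led Lsl_gt (LP (LK LD1_c5 LD2_c40 LD3_c49)) = (LP (LK LD1_c11 LD2_c12 LD3_c10)) :=
  Lre_g IH (LK LD1_c5 LD2_c40 LD3_c49) (LK LD1_c11 LD2_c12 LD3_c10) Lrfl Lrfl
theorem f756609 : Led Lsl_dt (LP (LK LD1_c11 LD2_c12 LD3_c10)) = v17195 :=
  Lgr Lrot171 (Lpe (f413512 IH) (Lpe (K54.f413511 IH) (Lpr_dt (K54.f380522 IH) (Lpe (f413484 IH) (Lpr_df (K49.f689162 IH) (Lpe (K49.f689163 IH) (Lpr_gf (K16.f40945 IH) (Lpe (f40932 IH) (Lpe (f413751 IH) (Lpr_gf (f756602 IH) (Lpn v17195)))))))))))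
theorem f100935 : Led Lsl_gt (LP (LK LD1_c3 LD2_c59 LD3_c16)) = (LP (LK LD1_c7 LD2_c59 LD3_c51)) :=
  Lre_g IH (LK LD1_c3 LD2_c59 LD3_c16) (LK LD1_c7 LD2_c59 LD3_c51) Lrfl Lrfl
theorem f9130 : Led Lsl_at (LP (LK LD1_c6 LD2_c8 LD3_c29)) = (LP (LK LD1_c9 LD2_c15 LD3_c19)) :=
  Lre_a IH (LK LD1_c6 LD2_c8 LD3_c29) (LK LD1_c9 LD2_c15 LD3_c19) Lrfl Lrfl
theorem f9132 : Led Lsl_af (LP (LK LD1_c5 LD2_c27 LD3_c23)) = (LP (LK LD1_c6 LD2_c6 LD3_c55)) :=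
  Lgr Lrot68 (Lpr_ct (K0.f9124 IH) (Lpr_at (f9130 IH) (Lpr_ct (K0.f9131 IH) (Lpn (LP (LK LD1_c6 LD2_c6 LD3_c55))))))
theorem f9225 : Led Lsl_gt (LP (LK LD1_c2 LD2_c59 LD3_c34)) = (LP (LK LD1_c6 LD2_c6 LD3_c53)) :=
  Lre_g IH (LK LD1_c2 LD2_c59 LD3_c34) (LK LD1_c6 LD2_c6 LD3_c53) Lrfl Lrfl
theorem f446634 : Led Lsl_gf (LP (LK LD1_c5 LD2_c27 LD3_c23)) = (LP (LK LD1_c6 LD2_c6 LD3_c53)) :=
  Lgr Lrot76 (Lpr_af (f9132 IH) (Lpe (K0.f9217 IH) (Lpr_gt (f9225 IH) (Lpn (LP (LK LD1_c6 LD2_c6 LD3_c53))))))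
theorem f55724 : Led Lsl_gt (LP (LK LD1_c4 LD2_c7 LD3_c28)) = (LP (LK LD1_c8 LD2_c14 LD3_c61)) :=
  Lre_g IH (LK LD1_c4 LD2_c7 LD3_c28) (LK LD1_c8 LD2_c14 LD3_c61) Lrfl Lrfl
theorem f739646 : Led Lsl_cf (LP (LK LD1_c6 LD2_c6 LD3_c53)) = (LP (LK LD1_c8 LD2_c14 LD3_c61)) :=
  Lgr Lrot169 (Lpe (f446634 IH) (Lpr_ct (K0.f9124 IH) (Lpe (K53.f9161 IH) (Lpe (K53.f9162 IH) (Lpe (K54.f9163 IH) (Lpr_cf (K54.f731552 IH) (Lpq (K56.f739612 IH) (Lpe (K56.f737492 IH) (Lpe (K53.f553614 IH) (Lpr_gt (f55724 IH) (Lpn (LP (LK LD1_c8 LD2_c14 LD3_c61)))))))))))))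
theorem f739649 : Led Lsl_ct (LP (LK LD1_c6 LD2_c6 LD3_c53)) = (LP (LK LD1_c8 LD2_c14 LD3_c61)) :=
  Lgr Lrot59 (Lpr_cf (f739646 IH) (Lpn (LP (LK LD1_c8 LD2_c14 LD3_c61))))
theorem f9211 : Led Lsl_df (LP (LK LD1_c2 LD2_c12 LD3_c17)) = (LP (LK LD1_c2 LD2_c59 LD3_c34)) :=
  Lgr Lrot38 (Lpr_dt (K0.f9187 IH) (Lpn (LP (LK LD1_c2 LD2_c59 LD3_c34))))
theorem f9227 : Led Lsl_gt (LP (LK LD1_c2 LD2_c12 LD3_c17)) = (LP (LK LD1_c4 LD2_c30 LD3_c39)) :=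
  Lre_g IH (LK LD1_c2 LD2_c12 LD3_c17) (LK LD1_c4 LD2_c30 LD3_c39) Lrfl Lrfl
def v12780 : LQ := Led Lsl_ct (LP (LK LD1_c4 LD2_c30 LD3_c39))
theorem f698157 : Led Lsl_ct (LP (LK LD1_c4 LD2_c30 LD3_c39)) = v12780 :=
  Lrfl
theorem f55725 : Led Lsl_gf (LP (LK LD1_c8 LD2_c12 LD3_c55)) = (LP (LK LD1_c8 LD2_c14 LD3_c61)) :=
  Lgr Lrot76 (Lpr_af (K9.f55712 IH) (Lpe (K9.f55721 IH) (Lpr_gt (f55724 IH) (Lpn (LP (LK LD1_c8 LD2_c14 LD3_c61))))))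
theorem f165090 : Led Lsl_dt (LP (LK LD1_c10 LD2_c6 LD3_c51)) = (LP (LK LD1_c5 LD2_c8 LD3_c9)) :=
  Lre_d IH (LK LD1_c10 LD2_c6 LD3_c51) (LK LD1_c5 LD2_c8 LD3_c9) Lrfl Lrfl
theorem f168840 : Led Lsl_ef (LP (LK LD1_c7 LD2_c59 LD3_c51)) = (LP (LK LD1_c10 LD2_c6 LD3_c51)) :=
  Lgr Lrot17 (Lpe (f100935 IH) (Lpe (K1.f40855 IH) (Lpr_dt (K1.f40841 IH) (Lpr_gf (K9.f168826 IH) (Lpe (K15.f164713 IH) (Lpe (K15.f164714 IH) (Lpe (K17.f164997 IH) (Lpr_dt (K54.f165070 IH) (Lpe (K53.f53219 IH) (Lpe (f165090 IH) (Lpn (LP (LK LD1_c10 LD2_c6 LD3_c51)))))))))))))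
theorem f444583 : Led Lsl_gt (LP (LK LD1_c7 LD2_c59 LD3_c51)) = (LP (LK LD1_c4 LD2_c57 LD3_c57)) :=
  Lgr Lrot131 (Lpr_ef (f168840 IH) (Lpr_dt (f165090 IH) (Lpe (K53.f288075 IH) (Lpr_df (K17.f225469 IH) (Lpr_gf (K50.f288058 IH) (Lpr_ef (K48.f171820 IH) (Lpr_dt (K48.f40474 IH) (Lpr_gf (K32.f444578 IH) (Lpe (K2.f40916 IH) (Lpr_et (K1.f40900 IH) (Lpn (LP (LK LD1_c4 LD2_c57 LD3_c57)))))))))))))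
theorem f739651 : v12780 = (LP (LK LD1_c7 LD2_c59 LD3_c51)) :=
  (Llr Lrot152 (Lpe (f698157 IH) (Lpe (f9227 IH) (Lpr_df (f9211 IH) (Lpr_gt (f9225 IH) (Lpr_ct (f739649 IH) (Lpe (f55725 IH) (Lpe (K17.f55566 IH) (Lpe (K17.f54839 IH) (Lpe (K17.f140469 IH) (Lpe (f444583 IH) (Lpn (LP (LK LD1_c7 LD2_c59 LD3_c51)))))))))))))).symm
theorem f698158 : Led Lsl_cf (LP (LK LD1_c4 LD2_c30 LD3_c39)) = v12780 :=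
  Lgr Lrot11 (Lpr_ct (f698157 IH) (Lpn v12780))
theorem f9117 : Led Lsl_gt (LP (LK LD1_c4 LD2_c30 LD3_c39)) = (LP (LK LD1_c2 LD2_c43 LD3_c19)) :=
  Lre_g IH (LK LD1_c4 LD2_c30 LD3_c39) (LK LD1_c2 LD2_c43 LD3_c19) Lrfl Lrfl
theorem f68901 : Led Lsl_ct (LP (LK LD1_c2 LD2_c43 LD3_c19)) = (LP (LK LD1_c4 LD2_c33 LD3_c52)) :=
  Lre_c IH (LK LD1_c2 LD2_c43 LD3_c19) (LK LD1_c4 LD2_c33 LD3_c52) Lrfl Lrfl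
theorem f9141 : Led Lsl_ct (LP (LK LD1_c6 LD2_c46 LD3_c14)) = (LP (LK LD1_c3 LD2_c21 LD3_c12)) :=
  Lre_c IH (LK LD1_c6 LD2_c46 LD3_c14) (LK LD1_c3 LD2_c21 LD3_c12) Lrfl Lrfl
theorem f9321 : Led Lsl_gt (LP (LK LD1_c11 LD2_c22 LD3_c56)) = (LP (LK LD1_c6 LD2_c46 LD3_c14)) :=
  Lre_g IH (LK LD1_c11 LD2_c22 LD3_c56) (LK LD1_c6 LD2_c46 LD3_c14) Lrfl Lrfl
theorem f756603 : Led Lsl_cf (LP (LK LD1_c11 LD2_c22 LD3_c56)) = v17195 :=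
  Lgr Lrot169 (Lpr_gt (f9321 IH) (Lpr_ct (f9141 IH) (Lpe (K17.f68902 IH) (Lpe (f68901 IH) (Lpe (f9117 IH) (Lpr_cf (f698158 IH) (Lpqs (f739651 IH) (Lpe (f100935 IH) (Lpe (K9.f100922 IH) (Lpr_gt (f756601 IH) (Lpn v17195)))))))))))
def v16799 : LQ := Led Lsl_ft (LP (LK LD1_c6 LD2_c6 LD3_c53))
theorem f751662 : Led Lsl_ft (LP (LK LD1_c6 LD2_c6 LD3_c53)) = v16799 :=
  Lrfl
theorem f751664 : Led Lsl_ff (LP (LK LD1_c6 LD2_c6 LD3_c53)) = v16799 :=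
  Lgr Lrot3 (Lpr_ft (f751662 IH) (Lpn v16799))
theorem f727316 : Led Lsl_af (LP (LK LD1_c5 LD2_c27 LD3_c22)) = K56.v14932 :=
  Lgr Lrot45 (Lpr_ft (K56.f727305 IH) (Lpe (K56.f727304 IH) (Lpr_ft (K56.f727315 IH) (Lpn K56.v14932))))
def v16796 : LQ := Led Lsl_at (LP (LK LD1_c6 LD2_c6 LD3_c53))
theorem f751653 : Led Lsl_at (LP (LK LD1_c6 LD2_c6 LD3_c53)) = v16796 :=
  Lrfl
theorem f751654 : Led Lsl_af (LP (LK LD1_c6 LD2_c6 LD3_c53)) = v16796 :=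
  Lgr Lrot0 (Lpr_at (f751653 IH) (Lpn v16796))
theorem f751655 : Led Lsl_ft (LP (LK LD1_c6 LD2_c6 LD3_c54)) = v16796 :=
  Lgr Lrot2 (Lpr_gt (K56.f9233 IH) (Lpr_gt (f9225 IH) (Lpr_af (f751654 IH) (Lpn v16796))))
theorem f751656 : Led Lsl_ff (LP (LK LD1_c6 LD2_c6 LD3_c54)) = v16796 :=
  Lgr Lrot3 (Lpr_ft (f751655 IH) (Lpn v16796))
theorem f751665 : Led Lsl_at (LP (LK LD1_c6 LD2_c6 LD3_c54)) = v16799 :=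
  Lgr Lrot66 (Lpr_ff (f751656 IH) (Lpe (f751653 IH) (Lpr_ff (f751664 IH) (Lpn v16799))))
theorem f751679 : (LP (LK LD1_c5 LD2_c27 LD3_c22)) = v16799 :=
  Lefun (Lecon (Lfl_af (f727316 IH)) (K56.f751678 IH)) (f751665 IH)
theorem f751692 : Led Lsl_ff (LP (LK LD1_c8 LD2_c12 LD3_c57)) = (LP (LK LD1_c8 LD2_c14 LD3_c61)) :=
  Lgr Lrot23 (Lpr_ct (K53.f710825 IH) (Lpqs (f751679 IH) (Lpe (f751664 IH) (Lpr_ct (f739649 IH) (Lpn (LP (LK LD1_c8 LD2_c14 LD3_c61)))))))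
theorem f55735 : Led Lsl_gt (LP (LK LD1_c8 LD2_c15 LD3_c0)) = (LP (LK LD1_c4 LD2_c7 LD3_c28)) :=
  Lre_g IH (LK LD1_c8 LD2_c15 LD3_c0) (LK LD1_c4 LD2_c7 LD3_c28) Lrfl Lrfl
theorem f55736 : Led Lsl_gt (LP (LK LD1_c8 LD2_c12 LD3_c55)) = (LP (LK LD1_c8 LD2_c15 LD3_c0)) :=
  Lgr Lrot5 (Lpr_ft (K9.f55552 IH) (Lpr_at (K9.f55722 IH) (Lpe (f55735 IH) (Lpn (LP (LK LD1_c8 LD2_c15 LD3_c0))))))
theorem f751703 : Led Lsl_at (LP (LK LD1_c8 LD2_c12 LD3_c57)) = (LP (LK LD1_c8 LD2_c15 LD3_c0)) :=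
  Lgr Lrot26 (Lpr_ff (f751692 IH) (Lpe (f55725 IH) (Lpr_gt (f55736 IH) (Lpn (LP (LK LD1_c8 LD2_c15 LD3_c0))))))
theorem f751705 : Led Lsl_af (LP (LK LD1_c8 LD2_c12 LD3_c57)) = (LP (LK LD1_c8 LD2_c15 LD3_c0)) :=
  Lgr Lrot0 (Lpr_at (f751703 IH) (Lpn (LP (LK LD1_c8 LD2_c15 LD3_c0))))
theorem f751711 : Led Lsl_ft (LP (LK LD1_c8 LD2_c12 LD3_c56)) = (LP (LK LD1_c8 LD2_c15 LD3_c0)) :=
  Lgr Lrot2 (Lpr_gt (K53.f55782 IH) (Lpe (K53.f55780 IH) (Lpr_af (f751705 IH) (Lpn (LP (LK LD1_c8 LD2_c15 LD3_c0))))))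
theorem f751717 : Led Lsl_ff (LP (LK LD1_c8 LD2_c12 LD3_c56)) = (LP (LK LD1_c8 LD2_c15 LD3_c0)) :=
  Lgr Lrot3 (Lpr_ft (f751711 IH) (Lpn (LP (LK LD1_c8 LD2_c15 LD3_c0))))
theorem f55556 : Led Lsl_dt (LP (LK LD1_c8 LD2_c12 LD3_c56)) = (LP (LK LD1_c15 LD2_c27 LD3_c12)) :=
  Lre_d IH (LK LD1_c8 LD2_c12 LD3_c56) (LK LD1_c15 LD2_c27 LD3_c12) Lrfl Lrfl
theorem f55741 : Led Lsl_dt (LP (LK LD1_c15 LD2_c30 LD3_c48)) = (LP (LK LD1_c8 LD2_c15 LD3_c0)) :=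
  Lre_d IH (LK LD1_c15 LD2_c30 LD3_c48) (LK LD1_c8 LD2_c15 LD3_c0) Lrfl Lrfl
theorem f751721 : Led Lsl_ft (LP (LK LD1_c15 LD2_c27 LD3_c12)) = (LP (LK LD1_c15 LD2_c30 LD3_c48)) :=
  Lgr Lrot54 (Lpe (f55556 IH) (Lpr_ff (f751717 IH) (Lpe (f55741 IH) (Lpn (LP (LK LD1_c15 LD2_c30 LD3_c48))))))
theorem f9170 : Led Lsl_at (LP (LK LD1_c5 LD2_c46 LD3_c20)) = (LP (LK LD1_c6 LD2_c4 LD3_c1)) :=
  Lgr Lrot51 (Lpr_df (K0.f9154 IH) (Lpe (K54.f9158 IH) (Lpe (K0.f9169 IH) (Lpn (LP (LK LD1_c6 LD2_c4 LD3_c1))))))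
theorem f9275 : Led Lsl_ft (LP (LK LD1_c9 LD2_c31 LD3_c60)) = (LP (LK LD1_c5 LD2_c46 LD3_c20)) :=
  Lre_f IH (LK LD1_c9 LD2_c31 LD3_c60) (LK LD1_c5 LD2_c46 LD3_c20) Lrfl Lrfl
theorem f414435 : Led Lsl_gt (LP (LK LD1_c11 LD2_c51 LD3_c42)) = (LP (LK LD1_c6 LD2_c4 LD3_c1)) :=
  Lre_g IH (LK LD1_c11 LD2_c51 LD3_c42) (LK LD1_c6 LD2_c4 LD3_c1) Lrfl Lrfl
theorem f446630 : Led Lsl_gt (LP (LK LD1_c9 LD2_c31 LD3_c60)) = (LP (LK LD1_c11 LD2_c51 LD3_c42)) :=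
  Lgr Lrot5 (Lpr_ft (f9275 IH) (Lpr_at (f9170 IH) (Lpe (f414435 IH) (Lpn (LP (LK LD1_c11 LD2_c51 LD3_c42))))))
theorem f446598 : Led Lsl_dt (LP (LK LD1_c11 LD2_c51 LD3_c42)) = (LP (LK LD1_c20 LD2_c54 LD3_c12)) :=
  Lre_d IH (LK LD1_c11 LD2_c51 LD3_c42) (LK LD1_c20 LD2_c54 LD3_c12) Lrfl Lrfl
theorem f710823 : Led Lsl_cf (LP (LK LD1_c15 LD2_c27 LD3_c12)) = (LP (LK LD1_c20 LD2_c54 LD3_c12)) :=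
  Lgr Lrot14 (Lpe (f55556 IH) (Lpe (K53.f55555 IH) (Lpr_df (K53.f172162 IH) (Lpr_gf (K53.f707147 IH) (Lpr_ct (K53.f710776 IH) (Lpe (K53.f412280 IH) (Lpr_dt (K40.f412135 IH) (Lpr_gt (f446630 IH) (Lpr_dt (f446598 IH) (Lpn (LP (LK LD1_c20 LD2_c54 LD3_c12))))))))))))
theorem f731560 : Led Lsl_ct (LP (LK LD1_c12 LD2_c56 LD3_c17)) = (LP (LK LD1_c11 LD2_c6 LD3_c42)) :=
  Lgr Lrot59 (Lpr_cf (K54.f731552 IH) (Lpn (LP (LK LD1_c11 LD2_c6 LD3_c42))))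
theorem f9192 : Led Lsl_gt (LP (LK LD1_c5 LD2_c46 LD3_c20)) = (LP (LK LD1_c11 LD2_c22 LD3_c56)) :=
  Lre_g IH (LK LD1_c5 LD2_c46 LD3_c20) (LK LD1_c11 LD2_c22 LD3_c56) Lrfl Lrfl
theorem f9193 : Led Lsl_dt (LP (LK LD1_c11 LD2_c22 LD3_c56)) = (LP (LK LD1_c20 LD2_c20 LD3_c39)) :=
  Lre_d IH (LK LD1_c11 LD2_c22 LD3_c56) (LK LD1_c20 LD2_c20 LD3_c39) Lrfl Lrfl
theorem f55738 : Led Lsl_dt (LP (LK LD1_c8 LD2_c15 LD3_c0)) = (LP (LK LD1_c15 LD2_c30 LD3_c48)) :=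
  Lre_d IH (LK LD1_c8 LD2_c15 LD3_c0) (LK LD1_c15 LD2_c30 LD3_c48) Lrfl Lrfl
theorem f739642 : Led Lsl_cf (LP (LK LD1_c20 LD2_c20 LD3_c39)) = (LP (LK LD1_c15 LD2_c30 LD3_c48)) :=
  Lgr Lrot14 (Lpe (f9193 IH) (Lpe (f9192 IH) (Lpr_df (K0.f9154 IH) (Lpe (K54.f9163 IH) (Lpr_ct (f731560 IH) (Lpq (K56.f739612 IH) (Lpe (K56.f737493 IH) (Lpe (K17.f172204 IH) (Lpr_gt (f55736 IH) (Lpr_dt (f55738 IH) (Lpn (LP (LK LD1_c15 LD2_c30 LD3_c48)))))))))))))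
theorem f751725 : Led Lsl_ff (LP (LK LD1_c20 LD2_c54 LD3_c12)) = (LP (LK LD1_c20 LD2_c20 LD3_c39)) :=
  Lgr Lrot23 (Lpe (f710823 IH) (Lpr_ft (f751721 IH) (Lpe (f739642 IH) (Lpn (LP (LK LD1_c20 LD2_c20 LD3_c39))))))
theorem f751730 : Led Lsl_ft (LP (LK LD1_c20 LD2_c54 LD3_c12)) = (LP (LK LD1_c20 LD2_c20 LD3_c39)) :=
  Lgr Lrot48 (Lpr_ff (f751725 IH) (Lpn (LP (LK LD1_c20 LD2_c20 LD3_c39))))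
theorem f9200 : Led Lsl_dt (LP (LK LD1_c20 LD2_c20 LD3_c39)) = (LP (LK LD1_c11 LD2_c22 LD3_c56)) :=
  Lre_d IH (LK LD1_c20 LD2_c20 LD3_c39) (LK LD1_c11 LD2_c22 LD3_c56) Lrfl Lrfl
theorem f751732 : Led Lsl_ff (LP (LK LD1_c11 LD2_c51 LD3_c42)) = (LP (LK LD1_c11 LD2_c22 LD3_c56)) :=
  Lgr Lrot19 (Lpr_dt (f446598 IH) (Lpr_ft (f751730 IH) (Lpr_dt (f9200 IH) (Lpn (LP (LK LD1_c11 LD2_c22 LD3_c56))))))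
theorem f40890 : Led Lsl_ct (LP (LK LD1_c9 LD2_c46 LD3_c49)) = (LP (LK LD1_c17 LD2_c56 LD3_c51)) :=
  Lre_c IH (LK LD1_c9 LD2_c46 LD3_c49) (LK LD1_c17 LD2_c56 LD3_c51) Lrfl Lrfl
theorem f710898 : Led Lsl_ct (LP (LK LD1_c17 LD2_c34 LD3_c5)) = (LP (LK LD1_c11 LD2_c12 LD3_c24)) :=
  Lgr Lrot98 (Lpe (K53.f710864 IH) (Lpe (f40890 IH) (Lpe (K53.f40888 IH) (Lpqs (K53.f710850 IH) (Lpe (K53.f638627 IH) (Lpe (K53.f9270 IH) (Lpe (K53.f9265 IH) (Lpr_df (K53.f710892 IH) (Lpe (K53.f633799 IH) (Lpe (K53.f707145 IH) (Lpn (LP (LK LD1_c11 LD2_c12 LD3_c24)))))))))))))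
theorem f553639 : Led Lsl_cf (LP (LK LD1_c13 LD2_c2 LD3_c30)) = (LP (LK LD1_c11 LD2_c10 LD3_c54)) :=
  Lgr Lrot39 (Lpr_et (K9.f73686 IH) (Lpe (K2.f73676 IH) (Lpr_et (K53.f553635 IH) (Lpn (LP (LK LD1_c11 LD2_c10 LD3_c54))))))
theorem f40906 : Led Lsl_ct (LP (LK LD1_c4 LD2_c57 LD3_c60)) = (LP (LK LD1_c9 LD2_c46 LD3_c53)) :=
  Lre_c IH (LK LD1_c4 LD2_c57 LD3_c60) (LK LD1_c9 LD2_c46 LD3_c53) Lrfl Lrfl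
theorem f710902 : Led Lsl_ct (LP (LK LD1_c11 LD2_c51 LD3_c42)) = (LP (LK LD1_c9 LD2_c46 LD3_c52)) :=
  Lgr Lrot152 (Lpe (f446630 IH) (Lpe (K40.f412135 IH) (Lpr_gt (K53.f412133 IH) (Lpr_ct (f710898 IH) (Lpr_gt (K53.f553654 IH) (Lpe (f553639 IH) (Lpr_df (K9.f100738 IH) (Lpe (f40906 IH) (Lpe (K56.f54849 IH) (Lpn (LP (LK LD1_c9 LD2_c46 LD3_c52))))))))))))
theorem f756606 : Led Lsl_ft (LP (LK LD1_c9 LD2_c46 LD3_c52)) = v17195 :=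
  Lgr Lrot4 (Lpe (f710902 IH) (Lpr_ff (f751732 IH) (Lpr_cf (f756603 IH) (Lpn v17195))))
theorem f756607 : Led Lsl_ff (LP (LK LD1_c9 LD2_c46 LD3_c52)) = v17195 :=
  Lgr Lrot3 (Lpr_ft (f756606 IH) (Lpn v17195))
theorem f756611 : Led Lsl_ff (LP (LK LD1_c11 LD2_c12 LD3_c10)) = (LP (LK LD1_c11 LD2_c7 LD3_c0)) :=
  Lgr Lrot19 (Lpr_dt (f756609 IH) (Lpe (f756607 IH) (Lpe (K56.f319436 IH) (Lpn (LP (LK LD1_c11 LD2_c7 LD3_c0))))))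
theorem f756612 : Led Lsl_ft (LP (LK LD1_c11 LD2_c7 LD3_c0)) = (LP (LK LD1_c11 LD2_c12 LD3_c10)) :=
  Leop (Lpr_ff (f756611 IH) (Lpn (LP (LK LD1_c11 LD2_c7 LD3_c0))))
theorem seed_1130 : LEOK LG_f (LK LD1_c11 LD2_c7 LD3_c0) :=
  Leoe_f (LK LD1_c11 LD2_c7 LD3_c0) (f756612 IH)
def v17196 : LQ := Led Lsl_gf (LP (LK LD1_c6 LD2_c13 LD3_c30))
theorem f756617 : Led Lsl_gf (LP (LK LD1_c6 LD2_c13 LD3_c30)) = v17196 :=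
  Lrfl
theorem f289448 : Led Lsl_et (LP (LK LD1_c11 LD2_c11 LD3_c60)) = (LP (LK LD1_c5 LD2_c40 LD3_c38)) :=
  Lre_e IH (LK LD1_c11 LD2_c11 LD3_c60) (LK LD1_c5 LD2_c40 LD3_c38) Lrfl Lrfl
theorem f756621 : Led Lsl_dt (LP (LK LD1_c11 LD2_c11 LD3_c60)) = v17196 :=
  Lgr Lrot136 (Lpr_et (f289448 IH) (Lpe (K50.f289447 IH) (Lpe (K54.f289446 IH) (Lpr_dt (K20.f289440 IH) (Lpr_gf (K12.f211982 IH) (Lpe (K9.f168831 IH) (Lpe (K9.f168832 IH) (Lpe (K9.f100931 IH) (Lpe (K17.f100929 IH) (Lpr_gf (f756617 IH) (Lpn v17196)))))))))))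
theorem f751675 : Led Lsl_cf (LP (LK LD1_c11 LD2_c11 LD3_c60)) = K56.v16801 :=
  Lgr Lrot39 (Lpr_et (f289448 IH) (Lpr_ct (K51.f615477 IH) (Lpr_et (K56.f751673 IH) (Lpn K56.v16801))))
theorem f633803 : Led Lsl_ff (LP (LK LD1_c5 LD2_c37 LD3_c33)) = (LP (LK LD1_c5 LD2_c40 LD3_c44)) :=
  Lgr Lrot3 (Lpr_ft (K53.f633797 IH) (Lpn (LP (LK LD1_c5 LD2_c40 LD3_c44))))
theorem f633805 : Led Lsl_ft (LP (LK LD1_c11 LD2_c6 LD3_c42)) = (LP (LK LD1_c11 LD2_c12 LD3_c4)) :=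
  Lgr Lrot75 (Lpe (K56.f171823 IH) (Lpr_ff (f633803 IH) (Lpe (K53.f225479 IH) (Lpn (LP (LK LD1_c11 LD2_c12 LD3_c4))))))
theorem f553645 : Led Lsl_at (LP (LK LD1_c5 LD2_c40 LD3_c56)) = (LP (LK LD1_c5 LD2_c39 LD3_c60)) :=
  Lgr Lrot66 (Lpe (K17.f172196 IH) (Lpr_af (K56.f553637 IH) (Lpe (K53.f553624 IH) (Lpn (LP (LK LD1_c5 LD2_c39 LD3_c60))))))
theorem f553616 : Led Lsl_gt (LP (LK LD1_c11 LD2_c10 LD3_c53)) = (LP (LK LD1_c5 LD2_c39 LD3_c60)) :=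
  Lre_g IH (LK LD1_c11 LD2_c10 LD3_c53) (LK LD1_c5 LD2_c39 LD3_c60) Lrfl Lrfl
theorem f553649 : Led Lsl_gt (LP (LK LD1_c11 LD2_c12 LD3_c25)) = (LP (LK LD1_c11 LD2_c10 LD3_c53)) :=
  Lgr Lrot5 (Lpr_ft (K17.f172196 IH) (Lpr_at (f553645 IH) (Lpe (f553616 IH) (Lpn (LP (LK LD1_c11 LD2_c10 LD3_c53))))))
theorem f739615 : Led Lsl_at (LP (LK LD1_c11 LD2_c12 LD3_c4)) = (LP (LK LD1_c11 LD2_c10 LD3_c53)) :=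
  Lgr Lrot26 (Lpe (f633805 IH) (Lpq (K56.f739612 IH) (Lpe (K56.f737493 IH) (Lpr_gt (f553649 IH) (Lpn (LP (LK LD1_c11 LD2_c10 LD3_c53)))))))
theorem f710821 : Led Lsl_cf (LP (LK LD1_c11 LD2_c12 LD3_c4)) = (LP (LK LD1_c17 LD2_c34 LD3_c4)) :=
  Lgr Lrot11 (Lpr_ct (K53.f710776 IH) (Lpn (LP (LK LD1_c17 LD2_c34 LD3_c4))))
theorem f731562 : Led Lsl_ft (LP (LK LD1_c12 LD2_c56 LD3_c17)) = (LP (LK LD1_c17 LD2_c34 LD3_c4)) :=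
  Lgr Lrot4 (Lpr_cf (K54.f731552 IH) (Lpr_ff (K53.f633799 IH) (Lpr_cf (f710821 IH) (Lpn (LP (LK LD1_c17 LD2_c34 LD3_c4))))))
theorem f9195 : Led Lsl_gt (LP (LK LD1_c6 LD2_c46 LD3_c13)) = (LP (LK LD1_c12 LD2_c56 LD3_c16)) :=
  Lre_g IH (LK LD1_c6 LD2_c46 LD3_c13) (LK LD1_c12 LD2_c56 LD3_c16) Lrfl Lrfl
theorem f731566 : Led Lsl_af (LP (LK LD1_c12 LD2_c56 LD3_c16)) = (LP (LK LD1_c17 LD2_c34 LD3_c4)) :=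
  Lgr Lrot31 (Lpe (f9195 IH) (Lpe (K54.f9163 IH) (Lpr_ft (f731562 IH) (Lpn (LP (LK LD1_c17 LD2_c34 LD3_c4))))))
theorem f731568 : Led Lsl_at (LP (LK LD1_c12 LD2_c56 LD3_c16)) = (LP (LK LD1_c17 LD2_c34 LD3_c4)) :=
  Lgr Lrot100 (Lpr_af (f731566 IH) (Lpn (LP (LK LD1_c17 LD2_c34 LD3_c4))))
theorem f739621 : Led Lsl_cf (LP (LK LD1_c12 LD2_c56 LD3_c16)) = (LP (LK LD1_c11 LD2_c10 LD3_c53)) :=
  Lgr Lrot1 (Lpr_at (f731568 IH) (Lpe (f710821 IH) (Lpr_at (f739615 IH) (Lpn (LP (LK LD1_c11 LD2_c10 LD3_c53))))))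
theorem f73049 : Led Lsl_et (LP (LK LD1_c5 LD2_c46 LD3_c50)) = (LP (LK LD1_c6 LD2_c11 LD3_c61)) :=
  Lgr Lrot158 (Lpe (K40.f68607 IH) (Lpr_ef (K40.f73040 IH) (Lpe (K52.f73048 IH) (Lpn (LP (LK LD1_c6 LD2_c11 LD3_c61))))))
theorem f73057 : Led Lsl_bt (LP (LK LD1_c6 LD2_c11 LD3_c61)) = (LP (LK LD1_c12 LD2_c3 LD3_c44)) :=
  Lre_b IH (LK LD1_c6 LD2_c11 LD3_c61) (LK LD1_c12 LD2_c3 LD3_c44) Lrfl Lrfl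
theorem f73058 : Led Lsl_ef (LP (LK LD1_c11 LD2_c23 LD3_c50)) = (LP (LK LD1_c12 LD2_c3 LD3_c44)) :=
  Lgr Lrot29 (Lpr_bt (K52.f68712 IH) (Lpr_et (f73049 IH) (Lpr_bt (f73057 IH) (Lpn (LP (LK LD1_c12 LD2_c3 LD3_c44))))))
theorem f73071 : Led Lsl_at (LP (LK LD1_c21 LD2_c9 LD3_c19)) = (LP (LK LD1_c12 LD2_c3 LD3_c44)) :=
  Lre_a IH (LK LD1_c21 LD2_c9 LD3_c19) (LK LD1_c12 LD2_c3 LD3_c44) Lrfl Lrfl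
theorem f73072 : Led Lsl_et (LP (LK LD1_c20 LD2_c21 LD3_c45)) = (LP (LK LD1_c21 LD2_c9 LD3_c19)) :=
  Lgr Lrot123 (Lpe (K52.f73070 IH) (Lpr_ef (f73058 IH) (Lpe (f73071 IH) (Lpn (LP (LK LD1_c21 LD2_c9 LD3_c19))))))
theorem f73083 : Led Lsl_ct (LP (LK LD1_c21 LD2_c9 LD3_c19)) = (LP (LK LD1_c12 LD2_c4 LD3_c12)) :=
  Lre_c IH (LK LD1_c21 LD2_c9 LD3_c19) (LK LD1_c12 LD2_c4 LD3_c12) Lrfl Lrfl
theorem f73084 : Led Lsl_ef (LP (LK LD1_c11 LD2_c24 LD3_c6)) = (LP (LK LD1_c12 LD2_c4 LD3_c12)) :=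
  Lgr Lrot28 (Lpr_ct (K51.f73082 IH) (Lpr_et (f73072 IH) (Lpr_ct (f73083 IH) (Lpn (LP (LK LD1_c12 LD2_c4 LD3_c12))))))
theorem f73095 : Led Lsl_bt (LP (LK LD1_c17 LD2_c12 LD3_c36)) = (LP (LK LD1_c12 LD2_c4 LD3_c12)) :=
  Lre_b IH (LK LD1_c17 LD2_c12 LD3_c36) (LK LD1_c12 LD2_c4 LD3_c12) Lrfl Lrfl
theorem f73096 : Led Lsl_et (LP (LK LD1_c11 LD2_c59 LD3_c23)) = (LP (LK LD1_c17 LD2_c12 LD3_c36)) :=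
  Lre_e IH (LK LD1_c11 LD2_c59 LD3_c23) (LK LD1_c17 LD2_c12 LD3_c36) Lrfl Lrfl
theorem f73097 : Led Lsl_bt (LP (LK LD1_c11 LD2_c24 LD3_c6)) = (LP (LK LD1_c11 LD2_c59 LD3_c23)) :=
  Lgr Lrot119 (Lpr_ef (f73084 IH) (Lpe (f73095 IH) (Lpe (f73096 IH) (Lpn (LP (LK LD1_c11 LD2_c59 LD3_c23))))))
theorem f412252 : Led Lsl_bt (LP (LK LD1_c20 LD2_c7 LD3_c1)) = (LP (LK LD1_c20 LD2_c21 LD3_c52)) :=
  Lgr Lrot35 (Lpr_ff (K51.f412246 IH) (Lpe (f73097 IH) (Lpe (K40.f73105 IH) (Lpn (LP (LK LD1_c20 LD2_c21 LD3_c52))))))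
theorem f412240 : Led Lsl_et (LP (LK LD1_c29 LD2_c18 LD3_c25)) = (LP (LK LD1_c20 LD2_c7 LD3_c1)) :=
  Lre_e IH (LK LD1_c29 LD2_c18 LD3_c25) (LK LD1_c20 LD2_c7 LD3_c1) Lrfl Lrfl
theorem f73100 : Led Lsl_et (LP (LK LD1_c20 LD2_c21 LD3_c52)) = (LP (LK LD1_c29 LD2_c25 LD3_c29)) :=
  Lre_e IH (LK LD1_c20 LD2_c21 LD3_c52) (LK LD1_c29 LD2_c25 LD3_c29) Lrfl Lrfl
theorem f412268 : Led Lsl_bf (LP (LK LD1_c29 LD2_c18 LD3_c25)) = (LP (LK LD1_c29 LD2_c25 LD3_c29)) :=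
  Lgr Lrot96 (Lpr_et (f412240 IH) (Lpr_bt (f412252 IH) (Lpr_et (f73100 IH) (Lpn (LP (LK LD1_c29 LD2_c25 LD3_c29))))))
theorem f412227 : Led Lsl_at (LP (LK LD1_c29 LD2_c18 LD3_c25)) = (LP (LK LD1_c20 LD2_c7 LD3_c2)) :=
  Lre_a IH (LK LD1_c29 LD2_c18 LD3_c25) (LK LD1_c20 LD2_c7 LD3_c2) Lrfl Lrfl
theorem f60049 : Led Lsl_at (LP (LK LD1_c20 LD2_c21 LD3_c59)) = (LP (LK LD1_c29 LD2_c25 LD3_c29)) :=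
  Lre_a IH (LK LD1_c20 LD2_c21 LD3_c59) (LK LD1_c29 LD2_c25 LD3_c29) Lrfl Lrfl
theorem f412270 : Led Lsl_at (LP (LK LD1_c11 LD2_c12 LD3_c27)) = (LP (LK LD1_c11 LD2_c24 LD3_c8)) :=
  Lgr Lrot67 (Lpe (K40.f412126 IH) (Lpe (f412227 IH) (Lpr_bf (f412268 IH) (Lpe (f60049 IH) (Lpe (K40.f59949 IH) (Lpn (LP (LK LD1_c11 LD2_c24 LD3_c8))))))))
theorem f412131 : Led Lsl_ff (LP (LK LD1_c11 LD2_c12 LD3_c27)) = (LP (LK LD1_c6 LD2_c46 LD3_c13)) :=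
  Lgr Lrot3 (Lpr_ft (K40.f412121 IH) (Lpn (LP (LK LD1_c6 LD2_c46 LD3_c13))))
theorem f412274 : Led Lsl_gt (LP (LK LD1_c12 LD2_c56 LD3_c16)) = (LP (LK LD1_c11 LD2_c24 LD3_c8)) :=
  Lgr Lrot46 (Lpe (f9195 IH) (Lpe (f412131 IH) (Lpr_at (f412270 IH) (Lpn (LP (LK LD1_c11 LD2_c24 LD3_c8))))))
theorem f739631 : Led Lsl_cf (LP (LK LD1_c6 LD2_c6 LD3_c54)) = (LP (LK LD1_c8 LD2_c15 LD3_c0)) :=
  Lgr Lrot169 (Lpr_gt (K56.f9233 IH) (Lpr_ct (K0.f9186 IH) (Lpr_df (K40.f59939 IH) (Lpe (K53.f59946 IH) (Lpe (f412274 IH) (Lpr_cf (f739621 IH) (Lpe (f553649 IH) (Lpe (K17.f172209 IH) (Lpr_gt (f55736 IH) (Lpn (LP (LK LD1_c8 LD2_c15 LD3_c0))))))))))))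
theorem f739644 : Led Lsl_ct (LP (LK LD1_c20 LD2_c20 LD3_c39)) = (LP (LK LD1_c15 LD2_c30 LD3_c48)) :=
  Lgr Lrot59 (Lpr_cf (f739642 IH) (Lpn (LP (LK LD1_c15 LD2_c30 LD3_c48))))
theorem f9302 : Led Lsl_at (LP (LK LD1_c9 LD2_c31 LD3_c60)) = (LP (LK LD1_c6 LD2_c46 LD3_c14)) :=
  Lre_a IH (LK LD1_c9 LD2_c31 LD3_c60) (LK LD1_c6 LD2_c46 LD3_c14) Lrfl Lrfl
theorem f9184 : Led Lsl_ft (LP (LK LD1_c5 LD2_c46 LD3_c20)) = (LP (LK LD1_c9 LD2_c31 LD3_c60)) :=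
  Lre_f IH (LK LD1_c5 LD2_c46 LD3_c20) (LK LD1_c9 LD2_c31 LD3_c60) Lrfl Lrfl
theorem f9303 : Led Lsl_af (LP (LK LD1_c5 LD2_c46 LD3_c20)) = (LP (LK LD1_c6 LD2_c4 LD3_c1)) :=
  Lgr Lrot45 (Lpr_ft (f9184 IH) (Lpr_at (f9302 IH) (Lpr_ft (K0.f9287 IH) (Lpn (LP (LK LD1_c6 LD2_c4 LD3_c1))))))
theorem f9204 : Led Lsl_gt (LP (LK LD1_c11 LD2_c22 LD3_c57)) = (LP (LK LD1_c5 LD2_c46 LD3_c20)) :=
  Lre_g IH (LK LD1_c11 LD2_c22 LD3_c57) (LK LD1_c5 LD2_c46 LD3_c20) Lrfl Lrfl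
theorem f9318 : Led Lsl_gt (LP (LK LD1_c6 LD2_c46 LD3_c14)) = (LP (LK LD1_c11 LD2_c22 LD3_c57)) :=
  Lgr Lrot5 (Lpr_ft (K0.f9287 IH) (Lpe (f9303 IH) (Lpe (f9204 IH) (Lpn (LP (LK LD1_c11 LD2_c22 LD3_c57))))))
theorem f751736 : Led Lsl_at (LP (LK LD1_c11 LD2_c51 LD3_c42)) = (LP (LK LD1_c11 LD2_c22 LD3_c57)) :=
  Lgr Lrot26 (Lpr_ff (f751732 IH) (Lpr_gt (f9321 IH) (Lpr_gt (f9318 IH) (Lpn (LP (LK LD1_c11 LD2_c22 LD3_c57))))))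
theorem f756626 : Led Lsl_cf (LP (LK LD1_c11 LD2_c22 LD3_c57)) = v17196 :=
  Lgr Lrot102 (Lpe (f751736 IH) (Lpr_ff (f751732 IH) (Lpr_dt (f9193 IH) (Lpr_ct (f739644 IH) (Lpr_dt (f55741 IH) (Lpe (f739631 IH) (Lpr_dt (K56.f751668 IH) (Lpe (f751675 IH) (Lpr_dt (f756621 IH) (Lpn v17196))))))))))
theorem f9323 : Led Lsl_gt (LP (LK LD1_c5 LD2_c46 LD3_c18)) = (LP (LK LD1_c3 LD2_c21 LD3_c12)) :=
  Lre_g IH (LK LD1_c5 LD2_c46 LD3_c18) (LK LD1_c3 LD2_c21 LD3_c12) Lrfl Lrfl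
theorem f9324 : Led Lsl_bt (LP (LK LD1_c11 LD2_c22 LD3_c51)) = (LP (LK LD1_c5 LD2_c46 LD3_c18)) :=
  Lre_b IH (LK LD1_c11 LD2_c22 LD3_c51) (LK LD1_c5 LD2_c46 LD3_c18) Lrfl Lrfl
theorem f9325 : Led Lsl_ct (LP (LK LD1_c11 LD2_c22 LD3_c51)) = (LP (LK LD1_c20 LD2_c20 LD3_c34)) :=
  Lre_c IH (LK LD1_c11 LD2_c22 LD3_c51) (LK LD1_c20 LD2_c20 LD3_c34) Lrfl Lrfl
theorem f416548 : Led Lsl_et (LP (LK LD1_c3 LD2_c21 LD3_c37)) = (LP (LK LD1_c6 LD2_c46 LD3_c55)) :=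
  Lre_e IH (LK LD1_c3 LD2_c21 LD3_c37) (LK LD1_c6 LD2_c46 LD3_c55) Lrfl Lrfl
theorem f705959 : Led Lsl_bf (LP (LK LD1_c11 LD2_c11 LD3_c60)) = (LP (LK LD1_c6 LD2_c46 LD3_c55)) :=
  Lgr Lrot96 (Lpr_et (f289448 IH) (Lpqs (K50.f705921 IH) (Lpe (K51.f653282 IH) (Lpr_et (f416548 IH) (Lpn (LP (LK LD1_c6 LD2_c46 LD3_c55)))))))
def v12941 : LQ := Led Lsl_gf (LP (LK LD1_c4 LD2_c35 LD3_c8))
theorem f699717 : Led Lsl_gf (LP (LK LD1_c4 LD2_c35 LD3_c8)) = v12941 :=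
  Lrfl
def v6421 : LQ := Led Lsl_dt (LP (LK LD1_c3 LD2_c21 LD3_c38))
theorem f653332 : Led Lsl_dt (LP (LK LD1_c3 LD2_c21 LD3_c38)) = v6421 :=
  Lrfl
theorem f653334 : Led Lsl_df (LP (LK LD1_c3 LD2_c21 LD3_c38)) = v6421 :=
  Lgr Lrot38 (Lpr_dt (f653332 IH) (Lpn v6421))
theorem f699720 : Led Lsl_et v6421 = v12941 :=
  Lgr Lrot185 (Lpe (f653334 IH) (Lpe (f454597 IH) (Lpe (K32.f140745 IH) (Lpe (K32.f73208 IH) (Lpe (K54.f140763 IH) (Lpr_dt (K54.f20320 IH) (Lpe (K9.f20324 IH) (Lpe (K36.f140764 IH) (Lpr_et (K50.f140765 IH) (Lpr_gf (f699717 IH) (Lpn v12941)))))))))))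
theorem f141147 : Led Lsl_et (LP (LK LD1_c6 LD2_c46 LD3_c55)) = (LP (LK LD1_c3 LD2_c21 LD3_c37)) :=
  Lre_e IH (LK LD1_c6 LD2_c46 LD3_c55) (LK LD1_c3 LD2_c21 LD3_c37) Lrfl Lrfl
theorem f699722 : Led Lsl_df (LP (LK LD1_c6 LD2_c46 LD3_c55)) = v12941 :=
  Lgr Lrot70 (Lpr_et (f141147 IH) (Lpr_dt (K16.f139927 IH) (Lpr_et (K24.f139946 IH) (Lpr_dt (f653332 IH) (Lpr_et (f699720 IH) (Lpn v12941))))))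
theorem f756623 : Led Lsl_bf v12941 = v17196 :=
  Lgr Lrot93 (Lpe (f699722 IH) (Lpe (f705959 IH) (Lpr_dt (f756621 IH) (Lpn v17196))))
theorem f449377 : Led Lsl_bt (LP (LK LD1_c9 LD2_c6 LD3_c61)) = (LP (LK LD1_c4 LD2_c35 LD3_c8)) :=
  Lre_b IH (LK LD1_c9 LD2_c6 LD3_c61) (LK LD1_c4 LD2_c35 LD3_c8) Lrfl Lrfl
theorem f539074 : Led Lsl_ct (LP (LK LD1_c9 LD2_c6 LD3_c61)) = (LP (LK LD1_c16 LD2_c59 LD3_c9)) :=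
  Lre_c IH (LK LD1_c9 LD2_c6 LD3_c61) (LK LD1_c16 LD2_c59 LD3_c9) Lrfl Lrfl
theorem f756630 : Led Lsl_gf (LP (LK LD1_c20 LD2_c20 LD3_c34)) = (LP (LK LD1_c16 LD2_c59 LD3_c9)) :=
  Lgr Lrot126 (Lpe (f9325 IH) (Lpr_bt (f9324 IH) (Lpr_gt (f9323 IH) (Lpr_ct (K53.f9309 IH) (Lpr_gt (f9318 IH) (Lpr_cf (f756626 IH) (Lpe (f756623 IH) (Lpe (f699717 IH) (Lpe (f449377 IH) (Lpr_ct (f539074 IH) (Lpn (LP (LK LD1_c16 LD2_c59 LD3_c9)))))))))))))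
theorem f756631 : Led Lsl_gt (LP (LK LD1_c16 LD2_c59 LD3_c9)) = (LP (LK LD1_c20 LD2_c20 LD3_c34)) :=
  Leop (Lpr_gf (f756630 IH) (Lpn (LP (LK LD1_c16 LD2_c59 LD3_c9))))
theorem seed_1131 : LEOK LG_g (LK LD1_c16 LD2_c59 LD3_c9) :=
  Leoe_g (LK LD1_c16 LD2_c59 LD3_c9) (f756631 IH)
def v17200 : LQ := Led Lsl_et (LP (LK LD1_c6 LD2_c13 LD3_c52))
theorem f756648 : Led Lsl_et (LP (LK LD1_c6 LD2_c13 LD3_c52)) = v17200 :=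
  Lrfl
theorem f37420 : Led Lsl_ct (LP (LK LD1_c15 LD2_c8 LD3_c35)) = (LP (LK LD1_c8 LD2_c2 LD3_c35)) :=
  Lre_c IH (LK LD1_c15 LD2_c8 LD3_c35) (LK LD1_c8 LD2_c2 LD3_c35) Lrfl Lrfl
theorem f39988 : Led Lsl_ct (LP (LK LD1_c15 LD2_c0 LD3_c25)) = (LP (LK LD1_c24 LD2_c47 LD3_c46)) :=
  Lre_c IH (LK LD1_c15 LD2_c0 LD3_c25) (LK LD1_c24 LD2_c47 LD3_c46) Lrfl Lrfl
theorem f16426 : Led Lsl_dt (LP (LK LD1_c16 LD2_c23 LD3_c3)) = (LP (LK LD1_c8 LD2_c45 LD3_c10)) :=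
  Lre_d IH (LK LD1_c16 LD2_c23 LD3_c3) (LK LD1_c8 LD2_c45 LD3_c10) Lrfl Lrfl
theorem f38828 : Led Lsl_at (LP (LK LD1_c24 LD2_c46 LD3_c50)) = (LP (LK LD1_c16 LD2_c23 LD3_c3)) :=
  Lgr Lrot51 (Lpe (K1.f38792 IH) (Lpr_af (K1.f38811 IH) (Lpe (f16426 IH) (Lpn (LP (LK LD1_c16 LD2_c23 LD3_c3))))))
theorem f38742 : Led Lsl_gt (LP (LK LD1_c14 LD2_c59 LD3_c14)) = (LP (LK LD1_c24 LD2_c46 LD3_c47)) :=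
  Lre_g IH (LK LD1_c14 LD2_c59 LD3_c14) (LK LD1_c24 LD2_c46 LD3_c47) Lrfl Lrfl
theorem f38844 : Led Lsl_gt (LP (LK LD1_c24 LD2_c46 LD3_c47)) = (LP (LK LD1_c16 LD2_c23 LD3_c3)) :=
  Lgr Lrot46 (Lpe (f38742 IH) (Lpr_ft (K1.f38785 IH) (Lpr_at (f38828 IH) (Lpn (LP (LK LD1_c16 LD2_c23 LD3_c3))))))
theorem f38726 : Led Lsl_gt (LP (LK LD1_c14 LD2_c59 LD3_c13)) = (LP (LK LD1_c7 LD2_c56 LD3_c35)) :=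
  Lre_g IH (LK LD1_c14 LD2_c59 LD3_c13) (LK LD1_c7 LD2_c56 LD3_c35) Lrfl Lrfl
theorem f38727 : Led Lsl_cf (LP (LK LD1_c14 LD2_c59 LD3_c13)) = (LP (LK LD1_c8 LD2_c2 LD3_c0)) :=
  Lgr Lrot169 (Lpr_gt (f38726 IH) (Lpr_ct (K40.f38725 IH) (Lpe (K1.f38707 IH) (Lpr_cf (K1.f38698 IH) (Lpe (K37.f16598 IH) (Lpr_cf (K37.f35702 IH) (Lpe (K37.f30054 IH) (Lpe (K1.f30069 IH) (Lpr_gt (K37.f30143 IH) (Lpn (LP (LK LD1_c8 LD2_c2 LD3_c0))))))))))))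
theorem f38743 : Led Lsl_dt (LP (LK LD1_c24 LD2_c46 LD3_c47)) = (LP (LK LD1_c15 LD2_c8 LD3_c35)) :=
  Lgr Lrot105 (Lpe (f38742 IH) (Lpe (K1.f38709 IH) (Lpe (f38726 IH) (Lpr_cf (f38727 IH) (Lpr_gt (K37.f30142 IH) (Lpr_dt (K37.f30071 IH) (Lpr_gt (K37.f30627 IH) (Lpr_dt (K40.f30633 IH) (Lpe (f37420 IH) (Lpn (LP (LK LD1_c15 LD2_c8 LD3_c35))))))))))))
theorem f38753 : Led Lsl_df (LP (LK LD1_c24 LD2_c46 LD3_c47)) = (LP (LK LD1_c15 LD2_c8 LD3_c35)) :=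
  Lgr Lrot38 (Lpr_dt (f38743 IH) (Lpn (LP (LK LD1_c15 LD2_c8 LD3_c35))))
theorem f39989 : Led Lsl_gt (LP (LK LD1_c24 LD2_c47 LD3_c46)) = (LP (LK LD1_c15 LD2_c8 LD3_c35)) :=
  Lgr Lrot94 (Lpe (f39988 IH) (Lpr_gt (K47.f39987 IH) (Lpr_dt (K47.f39986 IH) (Lpr_gt (K2.f39984 IH) (Lpr_dt (K1.f16230 IH) (Lpe (K37.f16427 IH) (Lpe (f16426 IH) (Lpe (f38844 IH) (Lpr_df (f38753 IH) (Lpn (LP (LK LD1_c15 LD2_c8 LD3_c35))))))))))))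
theorem f445126 : Led Lsl_gf (LP (LK LD1_c15 LD2_c0 LD3_c25)) = (LP (LK LD1_c7 LD2_c57 LD3_c29)) :=
  Lgr Lrot147 (Lpr_ct (f39988 IH) (Lpr_gt (f39989 IH) (Lpr_ct (f37420 IH) (Lpe (K40.f30633 IH) (Lpr_cf (K37.f444835 IH) (Lpe (K1.f16422 IH) (Lpr_cf (K1.f37884 IH) (Lpe (K37.f38734 IH) (Lpe (K37.f70305 IH) (Lpn (LP (LK LD1_c7 LD2_c57 LD3_c29))))))))))))
theorem f756651 : Led Lsl_gf (LP (LK LD1_c7 LD2_c57 LD3_c30)) = v17200 :=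
  Lgr Lrot141 (Lpe (K37.f70319 IH) (Lpr_dt (K40.f70316 IH) (Lpe (f445126 IH) (Lpe (K47.f576162 IH) (Lpr_et (K47.f576170 IH) (Lpr_gt (K40.f543682 IH) (Lpr_dt (K40.f487872 IH) (Lpe (K43.f560550 IH) (Lpe (K47.f75737 IH) (Lpr_et (f756648 IH) (Lpn v17200)))))))))))
theorem f227584 : Led Lsl_et (LP (LK LD1_c14 LD2_c59 LD3_c0)) = (LP (LK LD1_c24 LD2_c46 LD3_c33)) :=
  Lre_e IH (LK LD1_c14 LD2_c59 LD3_c0) (LK LD1_c24 LD2_c46 LD3_c33) Lrfl Lrfl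
theorem f197788 : Led Lsl_dt (LP (LK LD1_c24 LD2_c46 LD3_c32)) = (LP (LK LD1_c14 LD2_c59 LD3_c0)) :=
  Lre_d IH (LK LD1_c24 LD2_c46 LD3_c32) (LK LD1_c14 LD2_c59 LD3_c0) Lrfl Lrfl
theorem f70824 : Led Lsl_gt (LP (LK LD1_c11 LD2_c59 LD3_c40)) = (LP (LK LD1_c21 LD2_c4 LD3_c24)) :=
  Lre_g IH (LK LD1_c11 LD2_c59 LD3_c40) (LK LD1_c21 LD2_c4 LD3_c24) Lrfl Lrfl
theorem f197761 : Led Lsl_dt (LP (LK LD1_c14 LD2_c59 LD3_c1)) = (LP (LK LD1_c7 LD2_c56 LD3_c31)) :=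
  Lre_d IH (LK LD1_c14 LD2_c59 LD3_c1) (LK LD1_c7 LD2_c56 LD3_c31) Lrfl Lrfl
theorem f227578 : Led Lsl_ef (LP (LK LD1_c21 LD2_c4 LD3_c24)) = (LP (LK LD1_c24 LD2_c46 LD3_c32)) :=
  Lgr Lrot17 (Lpe (f70824 IH) (Lpe (K1.f38338 IH) (Lpr_dt (K1.f27254 IH) (Lpe (K12.f227392 IH) (Lpe (K18.f36463 IH) (Lpr_gf (K18.f227563 IH) (Lpr_ef (K37.f210746 IH) (Lpr_dt (f197761 IH) (Lpe (K37.f197765 IH) (Lpe (f197788 IH) (Lpn (LP (LK LD1_c24 LD2_c46 LD3_c32)))))))))))))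
theorem f227581 : Led Lsl_et (LP (LK LD1_c21 LD2_c4 LD3_c24)) = (LP (LK LD1_c24 LD2_c46 LD3_c32)) :=
  Lgr Lrot87 (Lpr_ef (f227578 IH) (Lpn (LP (LK LD1_c24 LD2_c46 LD3_c32))))
theorem f201913 : Led Lsl_dt (LP (LK LD1_c29 LD2_c50 LD3_c25)) = (LP (LK LD1_c21 LD2_c4 LD3_c24)) :=
  Lre_d IH (LK LD1_c29 LD2_c50 LD3_c25) (LK LD1_c21 LD2_c4 LD3_c24) Lrfl Lrfl
theorem f236519 : Led Lsl_ef (LP (LK LD1_c29 LD2_c50 LD3_c25)) = (LP (LK LD1_c29 LD2_c14 LD3_c32)) :=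
  Lgr Lrot73 (Lpr_dt (f201913 IH) (Lpr_et (f227581 IH) (Lpr_dt (f197788 IH) (Lpr_et (f227584 IH) (Lpr_dt (K37.f236515 IH) (Lpn (LP (LK LD1_c29 LD2_c14 LD3_c32))))))))
theorem f236562 : Led Lsl_et (LP (LK LD1_c29 LD2_c50 LD3_c25)) = (LP (LK LD1_c29 LD2_c14 LD3_c32)) :=
  Lgr Lrot87 (Lpr_ef (f236519 IH) (Lpn (LP (LK LD1_c29 LD2_c14 LD3_c32))))
theorem f216675 : Led Lsl_dt (LP (LK LD1_c16 LD2_c22 LD3_c38)) = (LP (LK LD1_c8 LD2_c44 LD3_c58)) :=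
  Lre_d IH (LK LD1_c16 LD2_c22 LD3_c38) (LK LD1_c8 LD2_c44 LD3_c58) Lrfl Lrfl
theorem f262272 : Led Lsl_gt (LP (LK LD1_c8 LD2_c44 LD3_c58)) = (LP (LK LD1_c14 LD2_c59 LD3_c0)) :=
  Lgr Lrot5 (Lpr_ft (K15.f216685 IH) (Lpr_at (K15.f262260 IH) (Lpe (K37.f197765 IH) (Lpn (LP (LK LD1_c14 LD2_c59 LD3_c0))))))
theorem f386076 : Led Lsl_gf (LP (LK LD1_c16 LD2_c28 LD3_c59)) = (LP (LK LD1_c21 LD2_c4 LD3_c24)) :=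
  Lgr Lrot138 (Lpr_dt (K50.f201901 IH) (Lpr_gt (K50.f386074 IH) (Lpe (K50.f70826 IH) (Lpr_et (K50.f242170 IH) (Lpe (K50.f386043 IH) (Lpr_ef (K48.f386047 IH) (Lpr_dt (f216675 IH) (Lpr_gt (f262272 IH) (Lpe (f197788 IH) (Lpe (f227578 IH) (Lpn (LP (LK LD1_c21 LD2_c4 LD3_c24)))))))))))))
theorem f70776 : Led Lsl_at (LP (LK LD1_c7 LD2_c57 LD3_c2)) = (LP (LK LD1_c4 LD2_c25 LD3_c9)) :=
  Lgr Lrot51 (Lpe (K6.f35662 IH) (Lpr_af (K2.f70769 IH) (Lpe (K37.f70775 IH) (Lpn (LP (LK LD1_c4 LD2_c25 LD3_c9))))))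
theorem f56358 : Led Lsl_gt (LP (LK LD1_c8 LD2_c47 LD3_c57)) = (LP (LK LD1_c4 LD2_c25 LD3_c9)) :=
  Lre_g IH (LK LD1_c8 LD2_c47 LD3_c57) (LK LD1_c4 LD2_c25 LD3_c9) Lrfl Lrfl
theorem f443082 : Led Lsl_gt (LP (LK LD1_c14 LD2_c59 LD3_c54)) = (LP (LK LD1_c8 LD2_c47 LD3_c57)) :=
  Lgr Lrot5 (Lpr_ft (K13.f70402 IH) (Lpr_at (f70776 IH) (Lpe (f56358 IH) (Lpn (LP (LK LD1_c8 LD2_c47 LD3_c57))))))
theorem f756654 : Led Lsl_dt (LP (LK LD1_c8 LD2_c47 LD3_c57)) = v17200 :=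
  Lgr Lrot171 (Lpe (f443082 IH) (Lpr_ef (K11.f201899 IH) (Lpe (K11.f201916 IH) (Lpr_gf (f386076 IH) (Lpe (f201913 IH) (Lpr_et (f236562 IH) (Lpe (K37.f236514 IH) (Lpe (K37.f236530 IH) (Lpr_dt (K37.f59328 IH) (Lpr_gf (f756651 IH) (Lpn v17200)))))))))))
def v12267 : LQ := Led Lsl_at (LP (LK LD1_c3 LD2_c58 LD3_c0))
theorem f688390 : Led Lsl_at (LP (LK LD1_c3 LD2_c58 LD3_c0)) = v12267 :=
  Lrfl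
theorem f688391 : Led Lsl_af (LP (LK LD1_c3 LD2_c58 LD3_c0)) = v12267 :=
  Lgr Lrot0 (Lpr_at (f688390 IH) (Lpn v12267))
theorem f688394 : Led Lsl_ft (LP (LK LD1_c3 LD2_c58 LD3_c1)) = v12267 :=
  Lgr Lrot2 (Lpr_gt (K37.f38734 IH) (Lpr_gt (K1.f37777 IH) (Lpr_af (f688391 IH) (Lpn v12267))))
theorem f688395 : Led Lsl_ff (LP (LK LD1_c3 LD2_c58 LD3_c1)) = v12267 :=
  Lgr Lrot3 (Lpr_ft (f688394 IH) (Lpn v12267))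
def v12682 : LQ := Led Lsl_at (LP (LK LD1_c4 LD2_c26 LD3_c46))
theorem f696760 : Led Lsl_at (LP (LK LD1_c4 LD2_c26 LD3_c46)) = v12682 :=
  Lrfl
theorem f696762 : Led Lsl_ef K50.v4147 = v12682 :=
  Lgr Lrot20 (Lpe (K50.f631459 IH) (Lpr_et (K37.f69524 IH) (Lpr_at (f696760 IH) (Lpn v12682))))
theorem f696797 : Led Lsl_df (LP (LK LD1_c8 LD2_c26 LD3_c4)) = (LP (LK LD1_c8 LD2_c51 LD3_c12)) :=
  Lgr Lrot168 (Lpe (K50.f46803 IH) (Lpr_df (K1.f56082 IH) (Lpr_et (K1.f35664 IH) (Lpr_gf (K1.f35592 IH) (Lpe (K2.f35661 IH) (Lpr_dt (K6.f35662 IH) (Lpe (K6.f59371 IH) (Lpe (K6.f38142 IH) (Lpe (K6.f59374 IH) (Lpr_ef (K50.f696788 IH) (Lpn (LP (LK LD1_c8 LD2_c51 LD3_c12)))))))))))))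
theorem f46804 : Led Lsl_gt (LP (LK LD1_c8 LD2_c26 LD3_c4)) = (LP (LK LD1_c8 LD2_c10 LD3_c44)) :=
  Lgr Lrot46 (Lpe (K50.f46803 IH) (Lpr_ft (K1.f46801 IH) (Lpr_at (K1.f46730 IH) (Lpn (LP (LK LD1_c8 LD2_c10 LD3_c44))))))
theorem f60393 : Led Lsl_gt (LP (LK LD1_c6 LD2_c14 LD3_c25)) = (LP (LK LD1_c5 LD2_c46 LD3_c33)) :=
  Lgr Lrot5 (Lpr_ft (K1.f56432 IH) (Lpr_at (K1.f60372 IH) (Lpe (K43.f56612 IH) (Lpn (LP (LK LD1_c5 LD2_c46 LD3_c33))))))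
theorem f696805 : Led Lsl_gt (LP (LK LD1_c9 LD2_c19 LD3_c37)) = (LP (LK LD1_c8 LD2_c51 LD3_c12)) :=
  Lgr Lrot137 (Lpe (K47.f576180 IH) (Lpr_dt (K43.f201978 IH) (Lpe (K43.f576288 IH) (Lpr_df (K43.f56614 IH) (Lpr_et (K43.f56613 IH) (Lpe (f60393 IH) (Lpr_ef (K8.f56433 IH) (Lpe (K1.f56361 IH) (Lpe (f46804 IH) (Lpr_df (f696797 IH) (Lpn (LP (LK LD1_c8 LD2_c51 LD3_c12)))))))))))))
theorem f56110 : Led Lsl_ft (LP (LK LD1_c7 LD2_c57 LD3_c27)) = (LP (LK LD1_c15 LD2_c0 LD3_c29)) :=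
  Lre_f IH (LK LD1_c7 LD2_c57 LD3_c27) (LK LD1_c15 LD2_c0 LD3_c29) Lrfl Lrfl
theorem f696807 : Led Lsl_at (LP (LK LD1_c15 LD2_c0 LD3_c29)) = (LP (LK LD1_c8 LD2_c51 LD3_c12)) :=
  Lgr Lrot26 (Lpe (f56110 IH) (Lpr_gt (K47.f576181 IH) (Lpr_gt (f696805 IH) (Lpn (LP (LK LD1_c8 LD2_c51 LD3_c12))))))
theorem f69530 : Led Lsl_ft (LP (LK LD1_c8 LD2_c51 LD3_c12)) = (LP (LK LD1_c4 LD2_c26 LD3_c46)) :=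
  Lre_f IH (LK LD1_c8 LD2_c51 LD3_c12) (LK LD1_c4 LD2_c26 LD3_c46) Lrfl Lrfl
theorem f696817 : (LP (LK LD1_c7 LD2_c57 LD3_c27)) = v12682 :=
  (Llr Lrot30 (Lpr_ft (f56110 IH) (Lpr_at (f696807 IH) (Lpr_ft (f69530 IH) (Lpr_at (f696760 IH) (Lpn v12682)))))).symm
theorem f696820 : K50.v4147 = (LP (LK LD1_c3 LD2_c58 LD3_c0)) :=
  Lefun (Lecon (Lfl_ef (f696762 IH)) (f696817 IH).symm) (K2.f37778 IH)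
theorem f696821 : (LP (LK LD1_c2 LD2_c10 LD3_c32)) = v12267 :=
  Lefun (Lecon (Lfl_af (K50.f631459 IH)) (f696820 IH)) (f688390 IH)
theorem f696840 : (LP (LK LD1_c3 LD2_c58 LD3_c1)) = K50.v4148 :=
  Lefun (Lecon (Lfl_ff (f688395 IH)) (f696821 IH).symm) (K50.f631464 IH)
theorem f696858 : K50.v12685 = (LP (LK LD1_c7 LD2_c57 LD3_c30)) :=
  Lefun (Lecon (K50.f696785 IH) (f696840 IH).symm) (Lfl_et (K37.f70295 IH))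
theorem f756652 : Led Lsl_gt (LP (LK LD1_c8 LD2_c51 LD3_c25)) = v17200 :=
  Lgr Lrot5 (Lpr_ft (K50.f617217 IH) (Lpr_at (K50.f696782 IH) (Lpqs (f696858 IH) (Lpr_gf (f756651 IH) (Lpn v17200)))))
theorem f609949 : Led Lsl_dt (LP (LK LD1_c16 LD2_c33 LD3_c30)) = (LP (LK LD1_c8 LD2_c51 LD3_c25)) :=
  Lre_d IH (LK LD1_c16 LD2_c33 LD3_c30) (LK LD1_c8 LD2_c51 LD3_c25) Lrfl Lrfl
theorem f696865 : Led Lsl_ff (LP (LK LD1_c16 LD2_c27 LD3_c48)) = (LP (LK LD1_c15 LD2_c0 LD3_c34)) :=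
  Lgr Lrot19 (Lpr_dt (K50.f617210 IH) (Lpr_ft (K50.f696787 IH) (Lpqs (f696858 IH) (Lpr_dt (K37.f70294 IH) (Lpn (LP (LK LD1_c15 LD2_c0 LD3_c34)))))))
theorem f609944 : Led Lsl_af (LP (LK LD1_c16 LD2_c33 LD3_c30)) = (LP (LK LD1_c16 LD2_c27 LD3_c48)) :=
  Lgr Lrot0 (Lpr_at (K50.f609942 IH) (Lpn (LP (LK LD1_c16 LD2_c27 LD3_c48))))
theorem f696871 : Led Lsl_gf (LP (LK LD1_c16 LD2_c33 LD3_c30)) = (LP (LK LD1_c14 LD2_c59 LD3_c50)) :=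
  Lgr Lrot76 (Lpr_af (f609944 IH) (Lpr_ff (f696865 IH) (Lpr_gt (K37.f236542 IH) (Lpn (LP (LK LD1_c14 LD2_c59 LD3_c50))))))
theorem f696815 : Led Lsl_ef (LP (LK LD1_c15 LD2_c0 LD3_c29)) = (LP (LK LD1_c8 LD2_c51 LD3_c25)) :=
  Lgr Lrot20 (Lpr_at (f696807 IH) (Lpe (K50.f696788 IH) (Lpe (K50.f617212 IH) (Lpn (LP (LK LD1_c8 LD2_c51 LD3_c25))))))
theorem f16601 : Led Lsl_dt (LP (LK LD1_c4 LD2_c26 LD3_c53)) = (LP (LK LD1_c8 LD2_c51 LD3_c31)) :=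
  Lre_d IH (LK LD1_c4 LD2_c26 LD3_c53) (LK LD1_c8 LD2_c51 LD3_c31) Lrfl Lrfl
theorem f262262 : Led Lsl_af (LP (LK LD1_c4 LD2_c23 LD3_c35)) = (LP (LK LD1_c7 LD2_c56 LD3_c31)) :=
  Lgr Lrot0 (Lpr_at (K15.f262260 IH) (Lpn (LP (LK LD1_c7 LD2_c56 LD3_c31))))
theorem f413181 : Led Lsl_gf (LP (LK LD1_c8 LD2_c44 LD3_c56)) = (LP (LK LD1_c14 LD2_c59 LD3_c2)) :=
  Lgr Lrot47 (Lpr_gt (K37.f210390 IH) (Lpr_af (f262262 IH) (Lpe (K48.f197777 IH) (Lpn (LP (LK LD1_c14 LD2_c59 LD3_c2))))))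
theorem f413183 : Led Lsl_gt (LP (LK LD1_c16 LD2_c22 LD3_c35)) = (LP (LK LD1_c24 LD2_c46 LD3_c35)) :=
  Lgr Lrot137 (Lpe (K37.f227615 IH) (Lpr_dt (K37.f38287 IH) (Lpr_gf (K43.f38282 IH) (Lpe (K2.f35741 IH) (Lpr_et (K11.f38288 IH) (Lpe (K37.f38332 IH) (Lpe (K37.f227541 IH) (Lpr_dt (K37.f210391 IH) (Lpr_gf (f413181 IH) (Lpe (K48.f197769 IH) (Lpn (LP (LK LD1_c24 LD2_c46 LD3_c35)))))))))))))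
theorem f386064 : Led Lsl_at (LP (LK LD1_c8 LD2_c4 LD3_c53)) = (LP (LK LD1_c8 LD2_c3 LD3_c32)) :=
  Lgr Lrot100 (Lpr_af (K50.f386058 IH) (Lpn (LP (LK LD1_c8 LD2_c3 LD3_c32))))
theorem f182467 : Led Lsl_gt (LP (LK LD1_c15 LD2_c10 LD3_c13)) = (LP (LK LD1_c8 LD2_c3 LD3_c32)) :=
  Lre_g IH (LK LD1_c15 LD2_c10 LD3_c13) (LK LD1_c8 LD2_c3 LD3_c32) Lrfl Lrfl
theorem f386083 : Led Lsl_gt (LP (LK LD1_c15 LD2_c13 LD3_c0)) = (LP (LK LD1_c15 LD2_c10 LD3_c13)) :=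
  Lgr Lrot5 (Lpr_ft (K48.f242191 IH) (Lpr_at (f386064 IH) (Lpe (f182467 IH) (Lpn (LP (LK LD1_c15 LD2_c10 LD3_c13))))))
theorem f227437 : Led Lsl_et (LP (LK LD1_c15 LD2_c10 LD3_c14)) = (LP (LK LD1_c8 LD2_c3 LD3_c33)) :=
  Lre_e IH (LK LD1_c15 LD2_c10 LD3_c14) (LK LD1_c8 LD2_c3 LD3_c33) Lrfl Lrfl
theorem f227438 : Led Lsl_dt (LP (LK LD1_c15 LD2_c10 LD3_c14)) = (LP (LK LD1_c8 LD2_c3 LD3_c32)) :=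
  Lre_d IH (LK LD1_c15 LD2_c10 LD3_c14) (LK LD1_c8 LD2_c3 LD3_c32) Lrfl Lrfl
theorem f69513 : Led Lsl_gt (LP (LK LD1_c4 LD2_c25 LD3_c32)) = (LP (LK LD1_c8 LD2_c48 LD3_c36)) :=
  Lre_g IH (LK LD1_c4 LD2_c25 LD3_c32) (LK LD1_c8 LD2_c48 LD3_c36) Lrfl Lrfl
theorem f227668 : Led Lsl_et (LP (LK LD1_c16 LD2_c28 LD3_c54)) = (LP (LK LD1_c8 LD2_c48 LD3_c36)) :=
  Lre_e IH (LK LD1_c16 LD2_c28 LD3_c54) (LK LD1_c8 LD2_c48 LD3_c36) Lrfl Lrfl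
theorem f272666 : Led Lsl_df (LP (LK LD1_c15 LD2_c10 LD3_c13)) = (LP (LK LD1_c16 LD2_c28 LD3_c54)) :=
  Lgr Lrot170 (Lpr_gt (f182467 IH) (Lpe (f227438 IH) (Lpr_et (f227437 IH) (Lpr_gt (K18.f272661 IH) (Lpr_dt (K18.f227657 IH) (Lpe (K12.f227609 IH) (Lpe (K1.f38056 IH) (Lpr_et (K40.f38369 IH) (Lpr_gt (f69513 IH) (Lpe (f227668 IH) (Lpn (LP (LK LD1_c16 LD2_c28 LD3_c54)))))))))))))
theorem f413185 : Led Lsl_gf (LP (LK LD1_c11 LD2_c59 LD3_c37)) = (LP (LK LD1_c8 LD2_c48 LD3_c36)) :=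
  Lgr Lrot138 (Lpr_dt (K2.f35741 IH) (Lpe (K43.f38282 IH) (Lpe (K37.f38287 IH) (Lpr_et (K37.f227615 IH) (Lpr_gt (f413183 IH) (Lpe (K48.f386050 IH) (Lpe (K48.f242193 IH) (Lpr_gt (f386083 IH) (Lpr_df (f272666 IH) (Lpr_et (f227668 IH) (Lpn (LP (LK LD1_c8 LD2_c48 LD3_c36)))))))))))))
theorem f70781 : Led Lsl_gf (LP (LK LD1_c7 LD2_c57 LD3_c1)) = (LP (LK LD1_c4 LD2_c25 LD3_c10)) :=
  Lgr Lrot47 (Lpr_gt (K1.f38633 IH) (Lpr_af (K2.f70769 IH) (Lpe (K2.f70778 IH) (Lpn (LP (LK LD1_c4 LD2_c25 LD3_c10))))))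
theorem f69514 : Led Lsl_dt (LP (LK LD1_c16 LD2_c28 LD3_c53)) = (LP (LK LD1_c8 LD2_c48 LD3_c36)) :=
  Lre_d IH (LK LD1_c16 LD2_c28 LD3_c53) (LK LD1_c8 LD2_c48 LD3_c36) Lrfl Lrfl
theorem f413188 : Led Lsl_gt (LP (LK LD1_c8 LD2_c51 LD3_c32)) = (LP (LK LD1_c16 LD2_c28 LD3_c53)) :=
  Lgr Lrot137 (Lpe (K37.f35701 IH) (Lpr_dt (f16601 IH) (Lpe (K40.f205045 IH) (Lpr_df (K1.f38635 IH) (Lpr_et (K1.f38634 IH) (Lpr_gf (f70781 IH) (Lpe (K2.f70803 IH) (Lpr_dt (K1.f35745 IH) (Lpr_gf (f413185 IH) (Lpe (f69514 IH) (Lpn (LP (LK LD1_c16 LD2_c28 LD3_c53)))))))))))))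
theorem f69539 : Led Lsl_et (LP (LK LD1_c8 LD2_c51 LD3_c11)) = (LP (LK LD1_c16 LD2_c28 LD3_c53)) :=
  Lre_e IH (LK LD1_c8 LD2_c51 LD3_c11) (LK LD1_c16 LD2_c28 LD3_c53) Lrfl Lrfl
theorem f69538 : Led Lsl_dt (LP (LK LD1_c8 LD2_c51 LD3_c11)) = (LP (LK LD1_c16 LD2_c33 LD3_c11)) :=
  Lre_d IH (LK LD1_c8 LD2_c51 LD3_c11) (LK LD1_c16 LD2_c33 LD3_c11) Lrfl Lrfl
theorem f445119 : Led Lsl_gt (LP (LK LD1_c16 LD2_c33 LD3_c11)) = (LP (LK LD1_c9 LD2_c14 LD3_c53)) :=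
  Lgr Lrot112 (Lpe (f69538 IH) (Lpr_et (f69539 IH) (Lpe (f413188 IH) (Lpe (K37.f35701 IH) (Lpr_dt (f16601 IH) (Lpe (K40.f205045 IH) (Lpr_df (K1.f38635 IH) (Lpr_gf (K40.f445117 IH) (Lpe (K55.f56381 IH) (Lpr_dt (K39.f56298 IH) (Lpn (LP (LK LD1_c9 LD2_c14 LD3_c53)))))))))))))
theorem f696878 : Led Lsl_gt (LP (LK LD1_c15 LD2_c0 LD3_c29)) = (LP (LK LD1_c8 LD2_c51 LD3_c11)) :=
  Lgr Lrot137 (Lpr_ef (f696815 IH) (Lpr_dt (K50.f609947 IH) (Lpr_gf (f696871 IH) (Lpe (K37.f38684 IH) (Lpr_et (K37.f38680 IH) (Lpr_gf (K40.f445117 IH) (Lpe (K55.f56381 IH) (Lpr_dt (K39.f56298 IH) (Lpe (f445119 IH) (Lpe (f69538 IH) (Lpn (LP (LK LD1_c8 LD2_c51 LD3_c11)))))))))))))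
theorem f34502 : Led Lsl_ct (LP (LK LD1_c15 LD2_c14 LD3_c2)) = (LP (LK LD1_c8 LD2_c5 LD3_c22)) :=
  Lre_c IH (LK LD1_c15 LD2_c14 LD3_c2) (LK LD1_c8 LD2_c5 LD3_c22) Lrfl Lrfl
theorem f445003 : Led Lsl_et (LP (LK LD1_c8 LD2_c45 LD3_c35)) = (LP (LK LD1_c16 LD2_c23 LD3_c21)) :=
  Lgr Lrot87 (Lpr_ef (K46.f444999 IH) (Lpn (LP (LK LD1_c16 LD2_c23 LD3_c21))))
theorem f445005 : Led Lsl_cf (LP (LK LD1_c8 LD2_c45 LD3_c35)) = (LP (LK LD1_c6 LD2_c14 LD3_c22)) :=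
  Lgr Lrot39 (Lpr_et (f445003 IH) (Lpr_ct (K37.f38070 IH) (Lpr_et (K37.f38031 IH) (Lpn (LP (LK LD1_c6 LD2_c14 LD3_c22))))))
theorem f606953 : Led Lsl_ct (LP (LK LD1_c6 LD2_c14 LD3_c13)) = (LP (LK LD1_c5 LD2_c46 LD3_c33)) :=
  Lgr Lrot40 (Lpr_ff (K46.f606948 IH) (Lpr_cf (f445005 IH) (Lpe (K43.f576206 IH) (Lpn (LP (LK LD1_c5 LD2_c46 LD3_c33))))))
theorem f34500 : Led Lsl_ct (LP (LK LD1_c8 LD2_c5 LD3_c22)) = (LP (LK LD1_c15 LD2_c14 LD3_c2)) :=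
  Lre_c IH (LK LD1_c8 LD2_c5 LD3_c22) (LK LD1_c15 LD2_c14 LD3_c2) Lrfl Lrfl
theorem f46722 : Led Lsl_ct (LP (LK LD1_c8 LD2_c10 LD3_c41)) = (LP (LK LD1_c4 LD2_c4 LD3_c58)) :=
  Lre_c IH (LK LD1_c8 LD2_c10 LD3_c41) (LK LD1_c4 LD2_c4 LD3_c58) Lrfl Lrfl
theorem f607231 : Led Lsl_gt (LP (LK LD1_c15 LD2_c14 LD3_c2)) = (LP (LK LD1_c8 LD2_c10 LD3_c41)) :=
  Lgr Lrot150 (Lpe (f34500 IH) (Lpe (K40.f34498 IH) (Lpe (K40.f81133 IH) (Lpe (K48.f81497 IH) (Lpr_ct (f606953 IH) (Lpr_gt (K43.f56612 IH) (Lpe (K8.f60405 IH) (Lpe (K8.f56337 IH) (Lpe (f46722 IH) (Lpn (LP (LK LD1_c8 LD2_c10 LD3_c41))))))))))))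
theorem f46696 : Led Lsl_at (LP (LK LD1_c8 LD2_c26 LD3_c3)) = (LP (LK LD1_c8 LD2_c10 LD3_c41)) :=
  Lgr Lrot100 (Lpr_af (K1.f46694 IH) (Lpn (LP (LK LD1_c8 LD2_c10 LD3_c41))))
theorem f46893 : Led Lsl_ft (LP (LK LD1_c15 LD2_c50 LD3_c32)) = (LP (LK LD1_c8 LD2_c26 LD3_c3)) :=
  Lre_f IH (LK LD1_c15 LD2_c50 LD3_c32) (LK LD1_c8 LD2_c26 LD3_c3) Lrfl Lrfl
theorem f607233 : Led Lsl_gf (LP (LK LD1_c15 LD2_c14 LD3_c2)) = (LP (LK LD1_c15 LD2_c50 LD3_c32)) :=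
  Lgr Lrot47 (Lpr_gt (f607231 IH) (Lpe (f46696 IH) (Lpe (f46893 IH) (Lpn (LP (LK LD1_c15 LD2_c50 LD3_c32))))))
theorem f46723 : Led Lsl_ct (LP (LK LD1_c8 LD2_c26 LD3_c6)) = (LP (LK LD1_c15 LD2_c50 LD3_c32)) :=
  Lre_c IH (LK LD1_c8 LD2_c26 LD3_c6) (LK LD1_c15 LD2_c50 LD3_c32) Lrfl Lrfl
theorem f696882 : Led Lsl_df (LP (LK LD1_c15 LD2_c0 LD3_c29)) = (LP (LK LD1_c8 LD2_c10 LD3_c42)) :=
  Lgr Lrot155 (Lpr_gt (f696878 IH) (Lpr_ct (K8.f69532 IH) (Lpr_gt (K8.f60544 IH) (Lpr_ct (K40.f445176 IH) (Lpr_dt (K40.f81454 IH) (Lpe (f34502 IH) (Lpr_gf (f607233 IH) (Lpe (f46723 IH) (Lpr_gf (K47.f46739 IH) (Lpn (LP (LK LD1_c8 LD2_c10 LD3_c42))))))))))))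
theorem f56109 : Led Lsl_ft (LP (LK LD1_c15 LD2_c0 LD3_c29)) = (LP (LK LD1_c7 LD2_c57 LD3_c27)) :=
  Lre_f IH (LK LD1_c15 LD2_c0 LD3_c29) (LK LD1_c7 LD2_c57 LD3_c27) Lrfl Lrfl
theorem f696889 : Led Lsl_ft (LP (LK LD1_c8 LD2_c26 LD3_c5)) = (LP (LK LD1_c8 LD2_c10 LD3_c42)) :=
  Lgr Lrot54 (Lpr_df (K2.f56098 IH) (Lpe (f56109 IH) (Lpr_df (f696882 IH) (Lpn (LP (LK LD1_c8 LD2_c10 LD3_c42))))))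
theorem f696909 : Led Lsl_af (LP (LK LD1_c8 LD2_c26 LD3_c4)) = (LP (LK LD1_c8 LD2_c10 LD3_c42)) :=
  Lgr Lrot31 (Lpe (K50.f46803 IH) (Lpe (K2.f46886 IH) (Lpr_ft (f696889 IH) (Lpn (LP (LK LD1_c8 LD2_c10 LD3_c42))))))
theorem f696801 : Led Lsl_ft (LP (LK LD1_c8 LD2_c26 LD3_c4)) = (LP (LK LD1_c8 LD2_c10 LD3_c43)) :=
  Lgr Lrot54 (Lpr_df (f696797 IH) (Lpe (K50.f69531 IH) (Lpr_df (K37.f69522 IH) (Lpn (LP (LK LD1_c8 LD2_c10 LD3_c43))))))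
theorem f696916 : Led Lsl_at (LP (LK LD1_c8 LD2_c10 LD3_c43)) = (LP (LK LD1_c8 LD2_c26 LD3_c5)) :=
  Lgr Lrot66 (Lpe (f696801 IH) (Lpr_af (f696909 IH) (Lpe (f696889 IH) (Lpn (LP (LK LD1_c8 LD2_c26 LD3_c5))))))
theorem f46729 : Led Lsl_et (LP (LK LD1_c15 LD2_c23 LD3_c58)) = (LP (LK LD1_c8 LD2_c10 LD3_c43)) :=
  Lre_e IH (LK LD1_c15 LD2_c23 LD3_c58) (LK LD1_c8 LD2_c10 LD3_c43) Lrfl Lrfl
theorem f56106 : Led Lsl_et (LP (LK LD1_c8 LD2_c26 LD3_c5)) = (LP (LK LD1_c15 LD2_c50 LD3_c36)) :=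
  Lre_e IH (LK LD1_c8 LD2_c26 LD3_c5) (LK LD1_c15 LD2_c50 LD3_c36) Lrfl Lrfl
theorem f696922 : Led Lsl_af (LP (LK LD1_c15 LD2_c23 LD3_c58)) = (LP (LK LD1_c15 LD2_c50 LD3_c36)) :=
  Lgr Lrot50 (Lpr_et (f46729 IH) (Lpr_at (f696916 IH) (Lpr_et (f56106 IH) (Lpn (LP (LK LD1_c15 LD2_c50 LD3_c36))))))
theorem f69609 : Led Lsl_ft (LP (LK LD1_c15 LD2_c23 LD3_c58)) = (LP (LK LD1_c25 LD2_c16 LD3_c29)) :=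
  Lre_f IH (LK LD1_c15 LD2_c23 LD3_c58) (LK LD1_c25 LD2_c16 LD3_c29) Lrfl Lrfl
theorem f56113 : Led Lsl_ft (LP (LK LD1_c25 LD2_c46 LD3_c42)) = (LP (LK LD1_c15 LD2_c50 LD3_c36)) :=
  Lre_f IH (LK LD1_c25 LD2_c46 LD3_c42) (LK LD1_c15 LD2_c50 LD3_c36) Lrfl Lrfl
theorem f696928 : Led Lsl_at (LP (LK LD1_c25 LD2_c16 LD3_c29)) = (LP (LK LD1_c25 LD2_c46 LD3_c42)) :=
  Lgr Lrot66 (Lpe (f69609 IH) (Lpr_af (f696922 IH) (Lpe (f56113 IH) (Lpn (LP (LK LD1_c25 LD2_c46 LD3_c42))))))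
theorem f193546 : Led Lsl_df (LP (LK LD1_c7 LD2_c56 LD3_c33)) = (LP (LK LD1_c8 LD2_c4 LD3_c51)) :=
  Lgr Lrot38 (Lpr_dt (K15.f193489 IH) (Lpn (LP (LK LD1_c8 LD2_c4 LD3_c51))))
theorem f193554 : Led Lsl_gt (LP (LK LD1_c7 LD2_c56 LD3_c33)) = (LP (LK LD1_c14 LD2_c59 LD3_c5)) :=
  Lre_g IH (LK LD1_c7 LD2_c56 LD3_c33) (LK LD1_c14 LD2_c59 LD3_c5) Lrfl Lrfl
theorem f479718 : Led Lsl_gt (LP (LK LD1_c13 LD2_c51 LD3_c15)) = (LP (LK LD1_c7 LD2_c19 LD3_c29)) :=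
  Lre_g IH (LK LD1_c13 LD2_c51 LD3_c15) (LK LD1_c7 LD2_c19 LD3_c29) Lrfl Lrfl
theorem f479719 : Led Lsl_et (LP (LK LD1_c23 LD2_c20 LD3_c34)) = (LP (LK LD1_c13 LD2_c51 LD3_c15)) :=
  Lre_e IH (LK LD1_c23 LD2_c20 LD3_c34) (LK LD1_c13 LD2_c51 LD3_c15) Lrfl Lrfl
theorem f609346 : Led Lsl_df (LP (LK LD1_c14 LD2_c59 LD3_c5)) = (LP (LK LD1_c23 LD2_c20 LD3_c34)) :=
  Lgr Lrot168 (Lpe (f193554 IH) (Lpr_df (f193546 IH) (Lpr_et (K15.f193488 IH) (Lpr_gf (K13.f242273 IH) (Lpe (K41.f237364 IH) (Lpe (K47.f567163 IH) (Lpr_gf (K47.f609337 IH) (Lpe (K47.f479742 IH) (Lpe (f479718 IH) (Lpe (f479719 IH) (Lpn (LP (LK LD1_c23 LD2_c20 LD3_c34)))))))))))))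
theorem f262342 : Led Lsl_af (LP (LK LD1_c8 LD2_c45 LD3_c2)) = (LP (LK LD1_c14 LD2_c59 LD3_c7)) :=
  Lgr Lrot0 (Lpr_at (K15.f262332 IH) (Lpn (LP (LK LD1_c14 LD2_c59 LD3_c7))))
theorem f413155 : Led Lsl_gf (LP (LK LD1_c8 LD2_c45 LD3_c2)) = (LP (LK LD1_c14 LD2_c59 LD3_c5)) :=
  Lgr Lrot76 (Lpr_af (f262342 IH) (Lpe (K15.f193552 IH) (Lpr_gt (f193554 IH) (Lpn (LP (LK LD1_c14 LD2_c59 LD3_c5))))))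
theorem f272675 : Led Lsl_et (LP (LK LD1_c8 LD2_c48 LD3_c36)) = (LP (LK LD1_c16 LD2_c28 LD3_c54)) :=
  Lre_e IH (LK LD1_c8 LD2_c48 LD3_c36) (LK LD1_c16 LD2_c28 LD3_c54) Lrfl Lrfl
theorem f69534 : Led Lsl_dt (LP (LK LD1_c16 LD2_c33 LD3_c11)) = (LP (LK LD1_c8 LD2_c51 LD3_c11)) :=
  Lre_d IH (LK LD1_c16 LD2_c33 LD3_c11) (LK LD1_c8 LD2_c51 LD3_c11) Lrfl Lrfl
theorem f272676 : Led Lsl_et (LP (LK LD1_c15 LD2_c10 LD3_c13)) = (LP (LK LD1_c16 LD2_c33 LD3_c11)) :=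
  Lgr Lrot71 (Lpr_df (f272666 IH) (Lpe (f272675 IH) (Lpe (f69514 IH) (Lpe (f69539 IH) (Lpe (f69534 IH) (Lpn (LP (LK LD1_c16 LD2_c33 LD3_c11))))))))
theorem f272681 : Led Lsl_ef (LP (LK LD1_c15 LD2_c10 LD3_c13)) = (LP (LK LD1_c16 LD2_c33 LD3_c11)) :=
  Lgr Lrot88 (Lpr_et (f272676 IH) (Lpn (LP (LK LD1_c16 LD2_c33 LD3_c11))))
theorem f69527 : Led Lsl_et (LP (LK LD1_c8 LD2_c10 LD3_c43)) = (LP (LK LD1_c15 LD2_c23 LD3_c58)) :=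
  Lre_e IH (LK LD1_c8 LD2_c10 LD3_c43) (LK LD1_c15 LD2_c23 LD3_c58) Lrfl Lrfl
theorem f609351 : Led Lsl_gt (LP (LK LD1_c15 LD2_c23 LD3_c58)) = (LP (LK LD1_c23 LD2_c20 LD3_c34)) :=
  Lgr Lrot137 (Lpe (f69527 IH) (Lpe (K37.f69522 IH) (Lpe (K8.f69516 IH) (Lpe (f69534 IH) (Lpe (f272681 IH) (Lpe (f386083 IH) (Lpr_ef (K50.f386052 IH) (Lpe (K15.f201480 IH) (Lpr_gf (f413155 IH) (Lpr_df (f609346 IH) (Lpn (LP (LK LD1_c23 LD2_c20 LD3_c34)))))))))))))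
theorem f696932 : Led Lsl_gt (LP (LK LD1_c23 LD2_c20 LD3_c34)) = (LP (LK LD1_c25 LD2_c46 LD3_c42)) :=
  Lgr Lrot46 (Lpe (f609351 IH) (Lpr_ft (f69609 IH) (Lpr_at (f696928 IH) (Lpn (LP (LK LD1_c25 LD2_c46 LD3_c42))))))
theorem f609348 : Led Lsl_dt (LP (LK LD1_c14 LD2_c59 LD3_c5)) = (LP (LK LD1_c23 LD2_c20 LD3_c34)) :=
  Lgr Lrot42 (Lpr_df (f609346 IH) (Lpn (LP (LK LD1_c23 LD2_c20 LD3_c34))))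
theorem f164933 : Led Lsl_gt (LP (LK LD1_c11 LD2_c6 LD3_c15)) = (LP (LK LD1_c5 LD2_c37 LD3_c10)) :=
  Lre_g IH (LK LD1_c11 LD2_c6 LD3_c15) (LK LD1_c5 LD2_c37 LD3_c10) Lrfl Lrfl
theorem f164960 : Led Lsl_et (LP (LK LD1_c19 LD2_c59 LD3_c47)) = (LP (LK LD1_c11 LD2_c6 LD3_c15)) :=
  Lre_e IH (LK LD1_c19 LD2_c59 LD3_c47) (LK LD1_c11 LD2_c6 LD3_c15) Lrfl Lrfl
theorem f696934 : Led Lsl_dt (LP (LK LD1_c19 LD2_c59 LD3_c47)) = (LP (LK LD1_c25 LD2_c46 LD3_c42)) :=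
  Lgr Lrot56 (Lpr_et (f164960 IH) (Lpr_gt (f164933 IH) (Lpe (K37.f164951 IH) (Lpr_dt (K13.f164908 IH) (Lpr_gt (K11.f201326 IH) (Lpe (K12.f193485 IH) (Lpr_et (K15.f193487 IH) (Lpr_gt (f193554 IH) (Lpr_dt (f609348 IH) (Lpr_gt (f696932 IH) (Lpn (LP (LK LD1_c25 LD2_c46 LD3_c42)))))))))))))
theorem f37804 : Led Lsl_et (LP (LK LD1_c15 LD2_c0 LD3_c27)) = (LP (LK LD1_c7 LD2_c57 LD3_c26)) :=
  Lre_e IH (LK LD1_c15 LD2_c0 LD3_c27) (LK LD1_c7 LD2_c57 LD3_c26) Lrfl Lrfl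
theorem f56107 : Led Lsl_dt (LP (LK LD1_c15 LD2_c50 LD3_c36)) = (LP (LK LD1_c15 LD2_c0 LD3_c27)) :=
  Lgr Lrot77 (Lpe (f56106 IH) (Lpr_df (K2.f56098 IH) (Lpe (K47.f37795 IH) (Lpe (K47.f39986 IH) (Lpe (f37804 IH) (Lpn (LP (LK LD1_c15 LD2_c0 LD3_c27))))))))
theorem f696940 : Led Lsl_ff (LP (LK LD1_c19 LD2_c59 LD3_c47)) = (LP (LK LD1_c15 LD2_c0 LD3_c27)) :=
  Lgr Lrot19 (Lpr_dt (f696934 IH) (Lpr_ft (f56113 IH) (Lpr_dt (f56107 IH) (Lpn (LP (LK LD1_c15 LD2_c0 LD3_c27))))))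
theorem f696947 : Led Lsl_ft (LP (LK LD1_c19 LD2_c59 LD3_c47)) = (LP (LK LD1_c15 LD2_c0 LD3_c27)) :=
  Lgr Lrot48 (Lpr_ff (f696940 IH) (Lpn (LP (LK LD1_c15 LD2_c0 LD3_c27))))
theorem f227352 : Led Lsl_et (LP (LK LD1_c11 LD2_c6 LD3_c15)) = (LP (LK LD1_c19 LD2_c59 LD3_c47)) :=
  Lre_e IH (LK LD1_c11 LD2_c6 LD3_c15) (LK LD1_c19 LD2_c59 LD3_c47) Lrfl Lrfl
def v12680 : LQ := Led Lsl_at (LP (LK LD1_c4 LD2_c26 LD3_c45))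
theorem f696744 : Led Lsl_at (LP (LK LD1_c4 LD2_c26 LD3_c45)) = v12680 :=
  Lrfl
theorem f696747 : Led Lsl_df K50.v4147 = v12680 :=
  Lgr Lrot18 (Lpe (K50.f631459 IH) (Lpr_dt (K37.f69624 IH) (Lpr_at (f696744 IH) (Lpn v12680))))
theorem f696748 : Led Lsl_dt K50.v4147 = v12680 :=
  Lgr Lrot42 (Lpr_df (f696747 IH) (Lpn v12680))
theorem f696832 : v12680 = (LP (LK LD1_c7 LD2_c57 LD3_c26)) :=
  Lefun (Lecon (f696748 IH) (f696820 IH)) (K1.f37781 IH)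
theorem f631463 : Led Lsl_ff (LP (LK LD1_c2 LD2_c10 LD3_c33)) = K50.v4147 :=
  Lgr Lrot3 (Lpr_ft (K50.f631462 IH) (Lpn K50.v4147))
theorem f696749 : Led Lsl_ft (LP (LK LD1_c4 LD2_c26 LD3_c49)) = v12680 :=
  Lgr Lrot54 (Lpe (K37.f101849 IH) (Lpr_ff (f631463 IH) (Lpr_df (f696747 IH) (Lpn v12680))))
theorem f696750 : Led Lsl_ff (LP (LK LD1_c4 LD2_c26 LD3_c49)) = v12680 :=
  Lgr Lrot3 (Lpr_ft (f696749 IH) (Lpn v12680))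
theorem f696953 : Led Lsl_ff (LP (LK LD1_c11 LD2_c6 LD3_c15)) = (LP (LK LD1_c8 LD2_c51 LD3_c22)) :=
  Lgr Lrot72 (Lpr_et (f227352 IH) (Lpr_ft (f696947 IH) (Lpr_et (f37804 IH) (Lpq (f696832 IH) (Lpe (f696750 IH) (Lpr_et (K37.f211169 IH) (Lpn (LP (LK LD1_c8 LD2_c51 LD3_c22)))))))))
theorem f180137 : Led Lsl_dt (LP (LK LD1_c8 LD2_c37 LD3_c2)) = (LP (LK LD1_c8 LD2_c38 LD3_c8)) :=
  Lgr Lrot77 (Lpe (K37.f180134 IH) (Lpe (K13.f180133 IH) (Lpr_ef (K11.f180127 IH) (Lpe (K11.f180135 IH) (Lpe (K37.f180136 IH) (Lpn (LP (LK LD1_c8 LD2_c38 LD3_c8))))))))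
theorem f303944 : Led Lsl_af (LP (LK LD1_c8 LD2_c37 LD3_c2)) = (LP (LK LD1_c5 LD2_c37 LD3_c10)) :=
  Lgr Lrot117 (Lpr_dt (f180137 IH) (Lpr_at (K37.f303934 IH) (Lpe (K32.f164890 IH) (Lpn (LP (LK LD1_c5 LD2_c37 LD3_c10))))))
theorem f180168 : Led Lsl_gt (LP (LK LD1_c16 LD2_c8 LD3_c37)) = (LP (LK LD1_c8 LD2_c37 LD3_c2)) :=
  Lre_g IH (LK LD1_c16 LD2_c8 LD3_c37) (LK LD1_c8 LD2_c37 LD3_c2) Lrfl Lrfl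
theorem f303951 : Led Lsl_gf (LP (LK LD1_c16 LD2_c8 LD3_c37)) = (LP (LK LD1_c11 LD2_c6 LD3_c16)) :=
  Lgr Lrot47 (Lpr_gt (f180168 IH) (Lpr_af (f303944 IH) (Lpe (K32.f164940 IH) (Lpn (LP (LK LD1_c11 LD2_c6 LD3_c16))))))
theorem f696962 : Led Lsl_at (LP (LK LD1_c11 LD2_c6 LD3_c15)) = (LP (LK LD1_c16 LD2_c8 LD3_c37)) :=
  Lgr Lrot26 (Lpr_ff (f696953 IH) (Lpr_gt (K37.f304004 IH) (Lpe (f303951 IH) (Lpn (LP (LK LD1_c16 LD2_c8 LD3_c37))))))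
theorem f696930 : Led Lsl_af (LP (LK LD1_c25 LD2_c16 LD3_c29)) = (LP (LK LD1_c25 LD2_c46 LD3_c42)) :=
  Lgr Lrot0 (Lpr_at (f696928 IH) (Lpn (LP (LK LD1_c25 LD2_c46 LD3_c42))))
theorem f69526 : Led Lsl_et (LP (LK LD1_c8 LD2_c51 LD3_c10)) = (LP (LK LD1_c4 LD2_c26 LD3_c45)) :=
  Lre_e IH (LK LD1_c8 LD2_c51 LD3_c10) (LK LD1_c4 LD2_c26 LD3_c45) Lrfl Lrfl
theorem f69528 : Led Lsl_df (LP (LK LD1_c8 LD2_c51 LD3_c10)) = (LP (LK LD1_c15 LD2_c23 LD3_c58)) :=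
  Lgr Lrot70 (Lpr_et (f69526 IH) (Lpr_dt (K37.f69525 IH) (Lpr_et (K37.f69524 IH) (Lpr_dt (K8.f69511 IH) (Lpr_et (f69527 IH) (Lpn (LP (LK LD1_c15 LD2_c23 LD3_c58))))))))
theorem f69605 : Led Lsl_ft (LP (LK LD1_c8 LD2_c51 LD3_c10)) = (LP (LK LD1_c16 LD2_c33 LD3_c10)) :=
  Lre_f IH (LK LD1_c8 LD2_c51 LD3_c10) (LK LD1_c16 LD2_c33 LD3_c10) Lrfl Lrfl
theorem f69606 : Led Lsl_ft (LP (LK LD1_c25 LD2_c16 LD3_c29)) = (LP (LK LD1_c15 LD2_c23 LD3_c58)) :=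
  Lre_f IH (LK LD1_c25 LD2_c16 LD3_c29) (LK LD1_c15 LD2_c23 LD3_c58) Lrfl Lrfl
theorem f69607 : Led Lsl_dt (LP (LK LD1_c16 LD2_c33 LD3_c10)) = (LP (LK LD1_c25 LD2_c16 LD3_c29)) :=
  Lgr Lrot60 (Lpe (f69605 IH) (Lpr_df (f69528 IH) (Lpe (f69606 IH) (Lpn (LP (LK LD1_c25 LD2_c16 LD3_c29))))))
theorem f69615 : Led Lsl_df (LP (LK LD1_c16 LD2_c33 LD3_c10)) = (LP (LK LD1_c25 LD2_c16 LD3_c29)) :=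
  Lgr Lrot38 (Lpr_dt (f69607 IH) (Lpn (LP (LK LD1_c25 LD2_c16 LD3_c29))))
theorem f696936 : Led Lsl_af (LP (LK LD1_c19 LD2_c59 LD3_c47)) = (LP (LK LD1_c16 LD2_c33 LD3_c10)) :=
  Lgr Lrot117 (Lpr_dt (f696934 IH) (Lpe (f696930 IH) (Lpe (f69615 IH) (Lpn (LP (LK LD1_c16 LD2_c33 LD3_c10))))))
theorem f696971 : Led Lsl_ef (LP (LK LD1_c16 LD2_c33 LD3_c10)) = (LP (LK LD1_c16 LD2_c8 LD3_c37)) :=
  Lgr Lrot20 (Lpe (f696936 IH) (Lpr_et (f164960 IH) (Lpr_at (f696962 IH) (Lpn (LP (LK LD1_c16 LD2_c8 LD3_c37))))))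
theorem f69617 : Led Lsl_ft (LP (LK LD1_c16 LD2_c33 LD3_c10)) = (LP (LK LD1_c8 LD2_c51 LD3_c10)) :=
  Lre_f IH (LK LD1_c16 LD2_c33 LD3_c10) (LK LD1_c8 LD2_c51 LD3_c10) Lrfl Lrfl
def v12681 : LQ := Led Lsl_ft (LP (LK LD1_c4 LD2_c26 LD3_c45))
theorem f696752 : Led Lsl_ft (LP (LK LD1_c4 LD2_c26 LD3_c45)) = v12681 :=
  Lrfl
theorem f696755 : Led Lsl_ff (LP (LK LD1_c4 LD2_c26 LD3_c45)) = v12681 :=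
  Lgr Lrot3 (Lpr_ft (f696752 IH) (Lpn v12681))
theorem f696757 : Led Lsl_dt K50.v4148 = v12681 :=
  Lgr Lrot60 (Lpe (K50.f631464 IH) (Lpe (K37.f69525 IH) (Lpr_ff (f696755 IH) (Lpn v12681))))
theorem f696853 : v12681 = (LP (LK LD1_c7 LD2_c57 LD3_c29)) :=
  Lefun (Lecon (f696757 IH) (f696840 IH).symm) (K40.f70316 IH)
theorem f696979 : Led Lsl_ft (LP (LK LD1_c11 LD2_c6 LD3_c14)) = (LP (LK LD1_c16 LD2_c8 LD3_c37)) :=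
  Lgr Lrot86 (Lpe (K37.f236510 IH) (Lpq (f696853 IH) (Lpe (f696752 IH) (Lpe (f69526 IH) (Lpe (f69617 IH) (Lpr_ef (f696971 IH) (Lpn (LP (LK LD1_c16 LD2_c8 LD3_c37)))))))))
theorem f696989 : Led Lsl_ff (LP (LK LD1_c11 LD2_c6 LD3_c14)) = (LP (LK LD1_c16 LD2_c8 LD3_c37)) :=
  Lgr Lrot3 (Lpr_ft (f696979 IH) (Lpn (LP (LK LD1_c16 LD2_c8 LD3_c37))))
theorem f201447 : Led Lsl_et (LP (LK LD1_c2 LD2_c33 LD3_c44)) = (LP (LK LD1_c5 LD2_c13 LD3_c43)) :=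
  Lre_e IH (LK LD1_c2 LD2_c33 LD3_c44) (LK LD1_c5 LD2_c13 LD3_c43) Lrfl Lrfl
theorem f201454 : Led Lsl_gt (LP (LK LD1_c5 LD2_c13 LD3_c43)) = (LP (LK LD1_c10 LD2_c17 LD3_c35)) :=
  Lre_g IH (LK LD1_c5 LD2_c13 LD3_c43) (LK LD1_c10 LD2_c17 LD3_c35) Lrfl Lrfl
theorem f201750 : Led Lsl_et (LP (LK LD1_c18 LD2_c42 LD3_c39)) = (LP (LK LD1_c10 LD2_c17 LD3_c35)) :=
  Lre_e IH (LK LD1_c18 LD2_c42 LD3_c39) (LK LD1_c10 LD2_c17 LD3_c35) Lrfl Lrfl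
theorem f201751 : Led Lsl_df (LP (LK LD1_c16 LD2_c8 LD3_c37)) = (LP (LK LD1_c18 LD2_c42 LD3_c39)) :=
  Lgr Lrot170 (Lpr_gt (f180168 IH) (Lpr_df (K32.f180149 IH) (Lpr_et (K37.f180136 IH) (Lpr_gt (K11.f201741 IH) (Lpr_dt (K12.f201624 IH) (Lpr_gt (K11.f171694 IH) (Lpe (K24.f187928 IH) (Lpr_et (f201447 IH) (Lpr_gt (f201454 IH) (Lpe (f201750 IH) (Lpn (LP (LK LD1_c18 LD2_c42 LD3_c39)))))))))))))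
theorem f696997 : Led Lsl_ft (LP (LK LD1_c19 LD2_c59 LD3_c43)) = (LP (LK LD1_c18 LD2_c42 LD3_c39)) :=
  Lgr Lrot54 (Lpe (K37.f164921 IH) (Lpr_ff (f696989 IH) (Lpr_df (f201751 IH) (Lpn (LP (LK LD1_c18 LD2_c42 LD3_c39))))))
theorem f696869 : Led Lsl_ft (LP (LK LD1_c16 LD2_c27 LD3_c48)) = (LP (LK LD1_c15 LD2_c0 LD3_c34)) :=
  Lgr Lrot48 (Lpr_ff (f696865 IH) (Lpn (LP (LK LD1_c15 LD2_c0 LD3_c34))))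
theorem f697003 : Led Lsl_ff (LP (LK LD1_c15 LD2_c47 LD3_c32)) = (LP (LK LD1_c10 LD2_c17 LD3_c35)) :=
  Lgr Lrot72 (Lpr_et (K50.f443074 IH) (Lpr_ft (f696869 IH) (Lpr_et (K37.f236530 IH) (Lpr_ft (f696997 IH) (Lpr_et (f201750 IH) (Lpn (LP (LK LD1_c10 LD2_c17 LD3_c35))))))))
theorem f308218 : Led Lsl_ft (LP (LK LD1_c5 LD2_c13 LD3_c43)) = (LP (LK LD1_c10 LD2_c17 LD3_c38)) :=
  Lre_f IH (LK LD1_c5 LD2_c13 LD3_c43) (LK LD1_c10 LD2_c17 LD3_c38) Lrfl Lrfl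
theorem f308361 : Led Lsl_af (LP (LK LD1_c15 LD2_c47 LD3_c33)) = (LP (LK LD1_c10 LD2_c17 LD3_c38)) :=
  Lgr Lrot45 (Lpr_ft (K47.f53272 IH) (Lpr_at (K36.f308353 IH) (Lpr_ft (f308218 IH) (Lpn (LP (LK LD1_c10 LD2_c17 LD3_c38))))))
theorem f308374 : Led Lsl_gf (LP (LK LD1_c15 LD2_c47 LD3_c33)) = (LP (LK LD1_c10 LD2_c17 LD3_c35)) :=
  Lgr Lrot76 (Lpr_af (f308361 IH) (Lpe (f308218 IH) (Lpr_gt (f201454 IH) (Lpn (LP (LK LD1_c10 LD2_c17 LD3_c35))))))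
theorem f697009 : Led Lsl_at (LP (LK LD1_c15 LD2_c47 LD3_c32)) = (LP (LK LD1_c10 LD2_c17 LD3_c36)) :=
  Lgr Lrot26 (Lpr_ff (f697003 IH) (Lpe (f308374 IH) (Lpr_gt (K47.f308363 IH) (Lpn (LP (LK LD1_c10 LD2_c17 LD3_c36))))))
theorem f697015 : Led Lsl_ef (LP (LK LD1_c16 LD2_c33 LD3_c30)) = (LP (LK LD1_c10 LD2_c17 LD3_c36)) :=
  Lgr Lrot20 (Lpr_at (K50.f609942 IH) (Lpe (K50.f443076 IH) (Lpr_at (f697009 IH) (Lpn (LP (LK LD1_c10 LD2_c17 LD3_c36))))))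
theorem f697021 : Led Lsl_et (LP (LK LD1_c16 LD2_c33 LD3_c30)) = (LP (LK LD1_c10 LD2_c17 LD3_c36)) :=
  Lgr Lrot87 (Lpr_ef (f697015 IH) (Lpn (LP (LK LD1_c10 LD2_c17 LD3_c36))))
theorem f609910 : Led Lsl_ef (LP (LK LD1_c15 LD2_c47 LD3_c33)) = (LP (LK LD1_c13 LD2_c48 LD3_c7)) :=
  Lgr Lrot88 (Lpr_et (K50.f609904 IH) (Lpn (LP (LK LD1_c13 LD2_c48 LD3_c7))))
theorem f608957 : Led Lsl_at (LP (LK LD1_c13 LD2_c46 LD3_c44)) = (LP (LK LD1_c21 LD2_c14 LD3_c47)) :=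
  Lgr Lrot51 (Lpe (K35.f92603 IH) (Lpr_af (K47.f608955 IH) (Lpe (K50.f424508 IH) (Lpn (LP (LK LD1_c21 LD2_c14 LD3_c47))))))
theorem f483167 : Led Lsl_gt (LP (LK LD1_c7 LD2_c17 LD3_c46)) = (LP (LK LD1_c13 LD2_c48 LD3_c13)) :=
  Lre_g IH (LK LD1_c7 LD2_c17 LD3_c46) (LK LD1_c13 LD2_c48 LD3_c13) Lrfl Lrfl
theorem f612166 : Led Lsl_gt (LP (LK LD1_c13 LD2_c48 LD3_c13)) = (LP (LK LD1_c21 LD2_c14 LD3_c47)) :=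
  Lgr Lrot46 (Lpe (f483167 IH) (Lpr_ft (K47.f525471 IH) (Lpr_at (f608957 IH) (Lpn (LP (LK LD1_c21 LD2_c14 LD3_c47))))))
theorem f756656 : Led Lsl_et (LP (LK LD1_c8 LD2_c47 LD3_c57)) = (LP (LK LD1_c13 LD2_c48 LD3_c13)) :=
  Lgr Lrot121 (Lpr_dt (f756654 IH) (Lpe (f756652 IH) (Lpe (f609949 IH) (Lpr_et (f697021 IH) (Lpe (K47.f308363 IH) (Lpr_ef (f609910 IH) (Lpr_dt (K50.f608825 IH) (Lpe (K50.f609918 IH) (Lpe (K50.f424508 IH) (Lpe (f612166 IH) (Lpn (LP (LK LD1_c13 LD2_c48 LD3_c13)))))))))))))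
theorem f756657 : Led Lsl_et (LP (LK LD1_c8 LD2_c47 LD3_c57)) = (LP (LK LD1_c13 LD2_c48 LD3_c13)) :=
  Leop (Lpe (f756656 IH) (Lpn (LP (LK LD1_c8 LD2_c47 LD3_c57))))
theorem seed_1132 : LEOK LG_e (LK LD1_c8 LD2_c47 LD3_c57) :=
  Leoe_e (LK LD1_c8 LD2_c47 LD3_c57) (f756657 IH)
def v17212 : LQ := Led Lsl_gt (LP (LK LD1_c6 LD2_c14 LD3_c50))
theorem f756703 : Led Lsl_gt (LP (LK LD1_c6 LD2_c14 LD3_c50)) = v17212 :=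
  Lrfl
theorem f56097 : Led Lsl_et (LP (LK LD1_c9 LD2_c14 LD3_c57)) = (LP (LK LD1_c4 LD2_c39 LD3_c39)) :=
  Lre_e IH (LK LD1_c9 LD2_c14 LD3_c57) (LK LD1_c4 LD2_c39 LD3_c39) Lrfl Lrfl
theorem f756707 : Led Lsl_dt (LP (LK LD1_c9 LD2_c14 LD3_c57)) = v17212 :=
  Lgr Lrot56 (Lpr_et (f56097 IH) (Lpr_gt (K37.f56093 IH) (Lpe (K1.f56081 IH) (Lpr_dt (K1.f13644 IH) (Lpe (K1.f59355 IH) (Lpe (K2.f38004 IH) (Lpr_et (K6.f59367 IH) (Lpr_gt (K6.f59368 IH) (Lpr_dt (K37.f59369 IH) (Lpr_gt (f756703 IH) (Lpn v17212)))))))))))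
theorem f70256 : Led Lsl_ct (LP (LK LD1_c8 LD2_c46 LD3_c28)) = (LP (LK LD1_c16 LD2_c24 LD3_c61)) :=
  Lre_c IH (LK LD1_c8 LD2_c46 LD3_c28) (LK LD1_c16 LD2_c24 LD3_c61) Lrfl Lrfl
theorem f70245 : Led Lsl_gt (LP (LK LD1_c8 LD2_c46 LD3_c28)) = (LP (LK LD1_c16 LD2_c24 LD3_c59)) :=
  Lre_g IH (LK LD1_c8 LD2_c46 LD3_c28) (LK LD1_c16 LD2_c24 LD3_c59) Lrfl Lrfl
theorem f70242 : Led Lsl_gt (LP (LK LD1_c8 LD2_c45 LD3_c30)) = (LP (LK LD1_c4 LD2_c23 LD3_c50)) :=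
  Lre_g IH (LK LD1_c8 LD2_c45 LD3_c30) (LK LD1_c4 LD2_c23 LD3_c50) Lrfl Lrfl
theorem f70243 : Led Lsl_et (LP (LK LD1_c16 LD2_c23 LD3_c39)) = (LP (LK LD1_c8 LD2_c45 LD3_c30)) :=
  Lre_e IH (LK LD1_c16 LD2_c23 LD3_c39) (LK LD1_c8 LD2_c45 LD3_c30) Lrfl Lrfl
theorem f70246 : Led Lsl_dt (LP (LK LD1_c16 LD2_c23 LD3_c39)) = (LP (LK LD1_c16 LD2_c24 LD3_c59)) :=
  Lgr Lrot56 (Lpr_et (f70243 IH) (Lpr_gt (f70242 IH) (Lpe (K2.f35873 IH) (Lpr_dt (K2.f35872 IH) (Lpr_gt (K2.f70216 IH) (Lpe (K4.f59621 IH) (Lpr_et (K6.f70236 IH) (Lpr_gt (K6.f70237 IH) (Lpr_dt (K43.f70244 IH) (Lpr_gt (f70245 IH) (Lpn (LP (LK LD1_c16 LD2_c24 LD3_c59)))))))))))))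
theorem f70248 : Led Lsl_df (LP (LK LD1_c16 LD2_c23 LD3_c39)) = (LP (LK LD1_c16 LD2_c24 LD3_c59)) :=
  Lgr Lrot38 (Lpr_dt (f70246 IH) (Lpn (LP (LK LD1_c16 LD2_c24 LD3_c59))))
theorem f607720 : Led Lsl_gf (LP (LK LD1_c12 LD2_c22 LD3_c45)) = (LP (LK LD1_c16 LD2_c23 LD3_c39)) :=
  Lgr Lrot143 (Lpr_dt (K46.f59756 IH) (Lpe (K46.f81305 IH) (Lpe (K46.f81307 IH) (Lpr_gf (K46.f607161 IH) (Lpr_df (K46.f607712 IH) (Lpe (K46.f70255 IH) (Lpe (f70256 IH) (Lpr_gt (f70245 IH) (Lpe (f70248 IH) (Lpn (LP (LK LD1_c16 LD2_c23 LD3_c39))))))))))))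
theorem f81301 : Led Lsl_ct (LP (LK LD1_c12 LD2_c22 LD3_c45)) = (LP (LK LD1_c16 LD2_c24 LD3_c14)) :=
  Lgr Lrot59 (Lpr_cf (K46.f81296 IH) (Lpn (LP (LK LD1_c16 LD2_c24 LD3_c14))))
theorem f607722 : Led Lsl_ct (LP (LK LD1_c9 LD2_c14 LD3_c57)) = (LP (LK LD1_c16 LD2_c23 LD3_c39)) :=
  Lgr Lrot8 (Lpr_gt (K37.f543372 IH) (Lpr_dt (K37.f533550 IH) (Lpe (K37.f543374 IH) (Lpr_dt (K46.f75724 IH) (Lpe (K11.f75720 IH) (Lpe (K11.f75733 IH) (Lpr_gf (K46.f205544 IH) (Lpe (K46.f59756 IH) (Lpr_gf (f607720 IH) (Lpn (LP (LK LD1_c16 LD2_c23 LD3_c39))))))))))))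
theorem f607726 : Led Lsl_gt (LP (LK LD1_c11 LD2_c59 LD3_c30)) = (LP (LK LD1_c9 LD2_c14 LD3_c57)) :=
  Lgr Lrot9 (Lpr_df (K37.f543408 IH) (Lpr_gt (K37.f439422 IH) (Lpe (K37.f128306 IH) (Lpr_gt (K39.f439412 IH) (Lpe (K43.f576643 IH) (Lpe (K46.f35880 IH) (Lpe (f81301 IH) (Lpr_gf (f607720 IH) (Lpe (f607722 IH) (Lpn (LP (LK LD1_c9 LD2_c14 LD3_c57))))))))))))
theorem f543433 : Led Lsl_ct (LP (LK LD1_c11 LD2_c59 LD3_c30)) = (LP (LK LD1_c14 LD2_c59 LD3_c49)) :=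
  Lgr Lrot59 (Lpr_cf (K37.f543431 IH) (Lpn (LP (LK LD1_c14 LD2_c59 LD3_c49))))
theorem f756709 : Led Lsl_gf (LP (LK LD1_c6 LD2_c14 LD3_c53)) = v17212 :=
  Lgr Lrot143 (Lpr_dt (K39.f80492 IH) (Lpr_cf (K39.f80490 IH) (Lpe (K37.f80501 IH) (Lpe (K37.f421085 IH) (Lpr_df (K37.f80557 IH) (Lpe (K47.f607528 IH) (Lpe (f543433 IH) (Lpr_gt (f607726 IH) (Lpr_dt (f756707 IH) (Lpn v17212))))))))))
theorem f552934 : Led Lsl_bt (LP (LK LD1_c12 LD2_c8 LD3_c2)) = (LP (LK LD1_c6 LD2_c14 LD3_c53)) :=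
  Lre_b IH (LK LD1_c12 LD2_c8 LD3_c2) (LK LD1_c6 LD2_c14 LD3_c53) Lrfl Lrfl
theorem f568153 : Led Lsl_et (LP (LK LD1_c12 LD2_c8 LD3_c38)) = (LP (LK LD1_c16 LD2_c24 LD3_c7)) :=
  Lgr Lrot87 (Lpr_ef (K46.f568147 IH) (Lpn (LP (LK LD1_c16 LD2_c24 LD3_c7))))
theorem f568187 : Led Lsl_bf (LP (LK LD1_c13 LD2_c33 LD3_c42)) = (LP (LK LD1_c16 LD2_c24 LD3_c7)) :=
  Lgr Lrot96 (Lpr_et (K43.f516457 IH) (Lpe (K55.f560973 IH) (Lpr_et (f568153 IH) (Lpn (LP (LK LD1_c16 LD2_c24 LD3_c7))))))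
theorem f756710 : Led Lsl_bt K55.v6730 = v17212 :=
  Lgr Lrot130 (Lpe (K55.f658101 IH) (Lpr_gf (K30.f476487 IH) (Lpe (K30.f477568 IH) (Lpr_bt (K43.f477565 IH) (Lpe (K43.f516606 IH) (Lpr_bf (f568187 IH) (Lpr_ct (K46.f568123 IH) (Lpr_gf (K46.f607392 IH) (Lpe (K39.f80519 IH) (Lpr_gf (f756709 IH) (Lpn v17212)))))))))))
theorem f467467 : Led Lsl_ct (LP (LK LD1_c7 LD2_c15 LD3_c21)) = (LP (LK LD1_c7 LD2_c40 LD3_c10)) :=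
  Lgr Lrot83 (Lpe (K33.f467466 IH) (Lpe (K29.f467465 IH) (Lpe (K30.f467464 IH) (Lpr_cf (K29.f467461 IH) (Lpe (K33.f461672 IH) (Lpn (LP (LK LD1_c7 LD2_c40 LD3_c10))))))))
theorem f461743 : Led Lsl_gt (LP (LK LD1_c14 LD2_c27 LD3_c34)) = (LP (LK LD1_c7 LD2_c40 LD3_c10)) :=
  Lre_g IH (LK LD1_c14 LD2_c27 LD3_c34) (LK LD1_c7 LD2_c40 LD3_c10) Lrfl Lrfl
theorem f756711 : Led Lsl_ct (LP (LK LD1_c12 LD2_c8 LD3_c2)) = (LP (LK LD1_c14 LD2_c27 LD3_c34)) :=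
  Lgr Lrot64 (Lpr_bt (f552934 IH) (Lpr_gf (f756709 IH) (Lpe (f756710 IH) (Lpe (K55.f658101 IH) (Lpr_gf (K30.f476487 IH) (Lpe (K30.f477568 IH) (Lpe (K29.f467513 IH) (Lpe (K33.f467499 IH) (Lpr_ct (f467467 IH) (Lpe (f461743 IH) (Lpn (LP (LK LD1_c14 LD2_c27 LD3_c34)))))))))))))
theorem f756712 : Led Lsl_ct (LP (LK LD1_c12 LD2_c8 LD3_c2)) = (LP (LK LD1_c14 LD2_c27 LD3_c34)) :=
  Leop (Lpe (f756711 IH) (Lpn (LP (LK LD1_c12 LD2_c8 LD3_c2))))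
theorem seed_1133 : LEOK LG_c (LK LD1_c12 LD2_c8 LD3_c2) :=
  Leoe_c (LK LD1_c12 LD2_c8 LD3_c2) (f756712 IH)
theorem f745327 : Led Lsl_et (LP (LK LD1_c13 LD2_c43 LD3_c27)) = (LP (LK LD1_c14 LD2_c43 LD3_c10)) :=
  Lgr Lrot87 (Lpr_ef (K55.f745323 IH) (Lpn (LP (LK LD1_c14 LD2_c43 LD3_c10))))
theorem f482347 : Led Lsl_et (LP (LK LD1_c22 LD2_c22 LD3_c41)) = (LP (LK LD1_c13 LD2_c10 LD3_c6)) :=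
  Lre_e IH (LK LD1_c22 LD2_c22 LD3_c41) (LK LD1_c13 LD2_c10 LD3_c6) Lrfl Lrfl
theorem f745329 : Led Lsl_cf (LP (LK LD1_c22 LD2_c22 LD3_c41)) = (LP (LK LD1_c14 LD2_c43 LD3_c10)) :=
  Lgr Lrot39 (Lpr_et (f482347 IH) (Lpr_ct (K29.f482338 IH) (Lpr_et (f745327 IH) (Lpn (LP (LK LD1_c14 LD2_c43 LD3_c10))))))
theorem f756729 : Led Lsl_gt (LP (LK LD1_c22 LD2_c22 LD3_c41)) = (LP (LK LD1_c21 LD2_c14 LD3_c13)) :=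
  Lgr Lrot149 (Lpr_cf (f745329 IH) (Lpe (K55.f462034 IH) (Lpe (K55.f461970 IH) (Lpr_ct (K28.f129890 IH) (Lpe (K30.f129897 IH) (Lpr_cf (K55.f658101 IH) (Lpr_bt (f756710 IH) (Lpe (f756703 IH) (Lpe (K48.f607603 IH) (Lpr_ct (K48.f543494 IH) (Lpn (LP (LK LD1_c21 LD2_c14 LD3_c13)))))))))))))
theorem f756730 : Led Lsl_gt (LP (LK LD1_c22 LD2_c22 LD3_c41)) = (LP (LK LD1_c21 LD2_c14 LD3_c13)) :=
  Leop (Lpe (f756729 IH) (Lpn (LP (LK LD1_c22 LD2_c22 LD3_c41))))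
theorem seed_1134 : LEOK LG_g (LK LD1_c22 LD2_c22 LD3_c41) :=
  Leoe_g (LK LD1_c22 LD2_c22 LD3_c41) (f756730 IH)
theorem f745321 : Led Lsl_bf (LP (LK LD1_c23 LD2_c4 LD3_c46)) = (LP (LK LD1_c14 LD2_c43 LD3_c10)) :=
  Lgr Lrot24 (Lpr_bt (K55.f745314 IH) (Lpn (LP (LK LD1_c14 LD2_c43 LD3_c10))))
theorem f210829 : Led Lsl_dt (LP (LK LD1_c7 LD2_c56 LD3_c46)) = (LP (LK LD1_c14 LD2_c59 LD3_c32)) :=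
  Lre_d IH (LK LD1_c7 LD2_c56 LD3_c46) (LK LD1_c14 LD2_c59 LD3_c32) Lrfl Lrfl
theorem f558932 : Led Lsl_cf (LP (LK LD1_c14 LD2_c59 LD3_c32)) = (LP (LK LD1_c14 LD2_c2 LD3_c0)) :=
  Lgr Lrot39 (Lpr_et (K40.f558927 IH) (Lpr_ct (K28.f465125 IH) (Lpr_et (K47.f471875 IH) (Lpn (LP (LK LD1_c14 LD2_c2 LD3_c0))))))
theorem f528177 : Led Lsl_ff (LP (LK LD1_c7 LD2_c54 LD3_c37)) = (LP (LK LD1_c7 LD2_c54 LD3_c30)) :=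
  Lgr Lrot25 (Lpr_bt (K33.f462840 IH) (Lpr_ft (K35.f528173 IH) (Lpr_bt (K47.f451967 IH) (Lpn (LP (LK LD1_c7 LD2_c54 LD3_c30))))))
theorem f607589 : Led Lsl_gf (LP (LK LD1_c14 LD2_c2 LD3_c0)) = (LP (LK LD1_c7 LD2_c54 LD3_c30)) :=
  Lgr Lrot47 (Lpr_gt (K47.f607587 IH) (Lpe (K37.f487869 IH) (Lpr_ff (f528177 IH) (Lpn (LP (LK LD1_c7 LD2_c54 LD3_c30))))))
theorem f756705 : Led Lsl_cf (LP (LK LD1_c7 LD2_c54 LD3_c30)) = v17212 :=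
  Lgr Lrot169 (Lpe (f607589 IH) (Lpe (f558932 IH) (Lpe (f210829 IH) (Lpr_cf (K43.f544280 IH) (Lpr_gf (K43.f205658 IH) (Lpe (K11.f205477 IH) (Lpe (K11.f38140 IH) (Lpe (K39.f70738 IH) (Lpr_gt (f756703 IH) (Lpn v17212))))))))))
theorem f558939 : Led Lsl_ct (LP (LK LD1_c14 LD2_c59 LD3_c32)) = (LP (LK LD1_c14 LD2_c2 LD3_c0)) :=
  Lgr Lrot15 (Lpr_ef (K55.f558934 IH) (Lpr_cf (K28.f465122 IH) (Lpe (K47.f439635 IH) (Lpn (LP (LK LD1_c14 LD2_c2 LD3_c0))))))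
theorem f756731 : Led Lsl_gf (LP (LK LD1_c23 LD2_c4 LD3_c46)) = (LP (LK LD1_c24 LD2_c46 LD3_c60)) :=
  Lgr Lrot124 (Lpr_bf (f745321 IH) (Lpe (f745329 IH) (Lpr_gt (f756729 IH) (Lpe (K48.f543494 IH) (Lpr_bt (K48.f607603 IH) (Lpr_gt (f756703 IH) (Lpe (f756705 IH) (Lpe (f607589 IH) (Lpe (f558939 IH) (Lpr_bt (K55.f558936 IH) (Lpn (LP (LK LD1_c24 LD2_c46 LD3_c60)))))))))))))
theorem f756732 : Led Lsl_gt (LP (LK LD1_c24 LD2_c46 LD3_c60)) = (LP (LK LD1_c23 LD2_c4 LD3_c46)) :=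
  Leop (Lpr_gf (f756731 IH) (Lpn (LP (LK LD1_c24 LD2_c46 LD3_c60))))
theorem seed_1135 : LEOK LG_g (LK LD1_c24 LD2_c46 LD3_c60) :=
  Leoe_g (LK LD1_c24 LD2_c46 LD3_c60) (f756732 IH)
def v17215 : LQ := Led Lsl_at (LP (LK LD1_c6 LD2_c14 LD3_c51))
theorem f756746 : Led Lsl_at (LP (LK LD1_c6 LD2_c14 LD3_c51)) = v17215 :=
  Lrfl
theorem f543454 : Led Lsl_ft (LP (LK LD1_c12 LD2_c7 LD3_c60)) = (LP (LK LD1_c6 LD2_c14 LD3_c51)) :=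
  Lre_f IH (LK LD1_c12 LD2_c7 LD3_c60) (LK LD1_c6 LD2_c14 LD3_c51) Lrfl Lrfl
theorem f543343 : Led Lsl_ft (LP (LK LD1_c6 LD2_c14 LD3_c51)) = (LP (LK LD1_c12 LD2_c7 LD3_c60)) :=
  Lre_f IH (LK LD1_c6 LD2_c14 LD3_c51) (LK LD1_c12 LD2_c7 LD3_c60) Lrfl Lrfl
theorem f543344 : Led Lsl_at (LP (LK LD1_c12 LD2_c7 LD3_c60)) = (LP (LK LD1_c8 LD2_c51 LD3_c23)) :=
  Lgr Lrot26 (Lpe (f543343 IH) (Lpr_gt (K37.f543339 IH) (Lpr_gt (K50.f211186 IH) (Lpn (LP (LK LD1_c8 LD2_c51 LD3_c23))))))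
theorem f621884 : Led Lsl_af (LP (LK LD1_c12 LD2_c7 LD3_c60)) = (LP (LK LD1_c8 LD2_c51 LD3_c23)) :=
  Lgr Lrot0 (Lpr_at (f543344 IH) (Lpn (LP (LK LD1_c8 LD2_c51 LD3_c23))))
theorem f756749 : Led Lsl_ff (LP (LK LD1_c8 LD2_c51 LD3_c23)) = v17215 :=
  Lgr Lrot30 (Lpe (f621884 IH) (Lpr_ft (f543454 IH) (Lpr_at (f756746 IH) (Lpn v17215))))
theorem f756750 : Led Lsl_ft (LP (LK LD1_c8 LD2_c51 LD3_c23)) = v17215 :=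
  Lgr Lrot48 (Lpr_ff (f756749 IH) (Lpn v17215))
def v5297 : LQ := Led Lsl_at (LP (LK LD1_c3 LD2_c4 LD3_c20))
theorem f646940 : Led Lsl_at (LP (LK LD1_c3 LD2_c4 LD3_c20)) = v5297 :=
  Lrfl
theorem f646941 : Led Lsl_af (LP (LK LD1_c3 LD2_c4 LD3_c20)) = v5297 :=
  Lgr Lrot0 (Lpr_at (f646940 IH) (Lpn v5297))
theorem f756748 : Led Lsl_ef v5297 = v17215 :=
  Lgr Lrot20 (Lpe (f646941 IH) (Lpr_et (K37.f543347 IH) (Lpr_at (f756746 IH) (Lpn v17215))))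
theorem f646943 : Led Lsl_ft (LP (LK LD1_c3 LD2_c4 LD3_c21)) = v5297 :=
  Lgr Lrot2 (Lpr_gt (K39.f38089 IH) (Lpr_gt (K6.f59368 IH) (Lpr_af (f646941 IH) (Lpn v5297))))
theorem f646944 : Led Lsl_ff (LP (LK LD1_c3 LD2_c4 LD3_c21)) = v5297 :=
  Lgr Lrot3 (Lpr_ft (f646943 IH) (Lpn v5297))
theorem f80482 : Led Lsl_ft (LP (LK LD1_c6 LD2_c14 LD3_c54)) = (LP (LK LD1_c12 LD2_c8 LD3_c7)) :=
  Lre_f IH (LK LD1_c6 LD2_c14 LD3_c54) (LK LD1_c12 LD2_c8 LD3_c7) Lrfl Lrfl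
theorem f756751 : Led Lsl_ef (LP (LK LD1_c8 LD2_c51 LD3_c23)) = (LP (LK LD1_c12 LD2_c8 LD3_c7)) :=
  Lgr Lrot21 (Lpr_ft (f756750 IH) (Lpe (f756748 IH) (Lpe (f646944 IH) (Lpr_et (K47.f80521 IH) (Lpr_ft (f80482 IH) (Lpn (LP (LK LD1_c12 LD2_c8 LD3_c7))))))))
theorem f756752 : Led Lsl_et (LP (LK LD1_c12 LD2_c8 LD3_c7)) = (LP (LK LD1_c8 LD2_c51 LD3_c23)) :=
  Leop (Lpr_ef (f756751 IH) (Lpn (LP (LK LD1_c12 LD2_c8 LD3_c7))))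
theorem seed_1136 : LEOK LG_e (LK LD1_c12 LD2_c8 LD3_c7) :=
  Leoe_e (LK LD1_c12 LD2_c8 LD3_c7) (f756752 IH)
theorem f756753 : Led Lsl_et (LP (LK LD1_c8 LD2_c51 LD3_c23)) = (LP (LK LD1_c12 LD2_c8 LD3_c7)) :=
  Lgr Lrot87 (Lpr_ef (f756751 IH) (Lpn (LP (LK LD1_c12 LD2_c8 LD3_c7))))
theorem f80529 : Led Lsl_ft (LP (LK LD1_c12 LD2_c8 LD3_c7)) = (LP (LK LD1_c6 LD2_c14 LD3_c54)) :=
  Lre_f IH (LK LD1_c12 LD2_c8 LD3_c7) (LK LD1_c6 LD2_c14 LD3_c54) Lrfl Lrfl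
theorem f756755 : Led Lsl_ef v17215 = v5297 :=
  Lgr Lrot21 (Lpe (f756749 IH) (Lpr_et (f756753 IH) (Lpr_ft (f80529 IH) (Lpr_et (K39.f38088 IH) (Lpr_ft (f646943 IH) (Lpn v5297))))))
def v17201 : LQ := Led Lsl_ft (LP (LK LD1_c6 LD2_c13 LD3_c52))
theorem f756660 : Led Lsl_ft (LP (LK LD1_c6 LD2_c13 LD3_c52)) = v17201 :=
  Lrfl
theorem f756663 : Led Lsl_ff (LP (LK LD1_c6 LD2_c13 LD3_c52)) = v17201 :=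
  Lgr Lrot3 (Lpr_ft (f756660 IH) (Lpn v17201))
def v13299 : LQ := Led Lsl_ft (LP (LK LD1_c4 LD2_c42 LD3_c39))
theorem f702223 : Led Lsl_ft (LP (LK LD1_c4 LD2_c42 LD3_c39)) = v13299 :=
  Lrfl
theorem f756665 : Led Lsl_ct v13299 = v17201 :=
  Lgr Lrot40 (Lpe (f702223 IH) (Lpe (K37.f543426 IH) (Lpr_ff (f756663 IH) (Lpn v17201))))
theorem f756756 : Led Lsl_gf (LP (LK LD1_c8 LD2_c51 LD3_c29)) = (LP (LK LD1_c12 LD2_c8 LD3_c7)) :=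
  Lgr Lrot141 (Lpe (K47.f38646 IH) (Lpr_dt (K1.f16434 IH) (Lpr_gt (K1.f16435 IH) (Lpr_df (K1.f38635 IH) (Lpr_et (K1.f38634 IH) (Lpr_gt (K1.f38633 IH) (Lpr_dt (K6.f35662 IH) (Lpr_gt (K50.f37214 IH) (Lpr_df (K50.f227644 IH) (Lpr_et (f756753 IH) (Lpn (LP (LK LD1_c12 LD2_c8 LD3_c7)))))))))))))
theorem f37796 : Led Lsl_gt (LP (LK LD1_c15 LD2_c0 LD3_c28)) = (LP (LK LD1_c7 LD2_c57 LD3_c27)) :=
  Lre_g IH (LK LD1_c15 LD2_c0 LD3_c28) (LK LD1_c7 LD2_c57 LD3_c27) Lrfl Lrfl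
theorem f756760 : Led Lsl_cf (LP (LK LD1_c15 LD2_c0 LD3_c28)) = (LP (LK LD1_c12 LD2_c8 LD3_c7)) :=
  Lgr Lrot166 (Lpr_gt (f37796 IH) (Lpe (K2.f56098 IH) (Lpr_gt (K2.f46886 IH) (Lpr_dt (K37.f56087 IH) (Lpe (K8.f69560 IH) (Lpe (K37.f38092 IH) (Lpe (K37.f37212 IH) (Lpe (K37.f38638 IH) (Lpr_gf (f756756 IH) (Lpn (LP (LK LD1_c12 LD2_c8 LD3_c7))))))))))))
theorem f756762 : Led Lsl_ft (LP (LK LD1_c15 LD2_c0 LD3_c28)) = (LP (LK LD1_c8 LD2_c50 LD3_c39)) :=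
  Lgr Lrot4 (Lpr_cf (f756760 IH) (Lpe (f80482 IH) (Lpr_cf (K39.f80472 IH) (Lpn (LP (LK LD1_c8 LD2_c50 LD3_c39))))))
theorem f756766 : Led Lsl_af (LP (LK LD1_c9 LD2_c19 LD3_c37)) = (LP (LK LD1_c8 LD2_c50 LD3_c39)) :=
  Lgr Lrot31 (Lpe (K47.f576181 IH) (Lpe (f37796 IH) (Lpr_ft (f756762 IH) (Lpn (LP (LK LD1_c8 LD2_c50 LD3_c39))))))
theorem f702225 : Led Lsl_ff (LP (LK LD1_c4 LD2_c42 LD3_c39)) = v13299 :=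
  Lgr Lrot3 (Lpr_ft (f702223 IH) (Lpn v13299))
def v13298 : LQ := Led Lsl_at (LP (LK LD1_c4 LD2_c42 LD3_c39))
theorem f702219 : Led Lsl_at (LP (LK LD1_c4 LD2_c42 LD3_c39)) = v13298 :=
  Lrfl
theorem f702220 : Led Lsl_af (LP (LK LD1_c4 LD2_c42 LD3_c39)) = v13298 :=
  Lgr Lrot0 (Lpr_at (f702219 IH) (Lpn v13298))
theorem f702221 : Led Lsl_ft (LP (LK LD1_c4 LD2_c42 LD3_c40)) = v13298 :=
  Lgr Lrot2 (Lpr_gt (K32.f201975 IH) (Lpr_gt (K11.f56608 IH) (Lpr_af (f702220 IH) (Lpn v13298))))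
theorem f702222 : Led Lsl_ff (LP (LK LD1_c4 LD2_c42 LD3_c40)) = v13298 :=
  Lgr Lrot3 (Lpr_ft (f702221 IH) (Lpn v13298))
theorem f702226 : Led Lsl_at (LP (LK LD1_c4 LD2_c42 LD3_c40)) = v13299 :=
  Lgr Lrot66 (Lpr_ff (f702222 IH) (Lpe (f702219 IH) (Lpr_ff (f702225 IH) (Lpn v13299))))
theorem f756774 : v13299 = (LP (LK LD1_c4 LD2_c26 LD3_c32)) :=
  (Llr Lrot80 (Lpe (f702226 IH) (Lpe (K50.f201984 IH) (Lpr_af (f756766 IH) (Lpe (K39.f80479 IH) (Lpn (LP (LK LD1_c4 LD2_c26 LD3_c32)))))))).symm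
theorem f756778 : v17201 = (LP (LK LD1_c3 LD2_c4 LD3_c21)) :=
  Lefun (Lecon (f756665 IH) (f756774 IH)) (Lfl_cf (K39.f80490 IH))
theorem f756790 : (LP (LK LD1_c6 LD2_c13 LD3_c52)) = v5297 :=
  Lefun (Lecon (Lfl_ff (f756663 IH)) (f756778 IH)) (f646943 IH)
theorem f756811 : v17215 = v17200 :=
  Lefun (Lecon (Lfl_ef (f756755 IH)) (f756790 IH).symm) (f756648 IH)
theorem f756655 : Led Lsl_df (LP (LK LD1_c8 LD2_c47 LD3_c57)) = v17200 :=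
  Lgr Lrot38 (Lpr_dt (f756654 IH) (Lpn v17200))
theorem f756812 : Led Lsl_ff (LP (LK LD1_c14 LD2_c59 LD3_c52)) = (LP (LK LD1_c8 LD2_c47 LD3_c57)) :=
  Lgr Lrot19 (Lpr_dt (K50.f227646 IH) (Lpr_ft (f756750 IH) (Lpqs (f756811 IH) (Lpe (f756655 IH) (Lpn (LP (LK LD1_c8 LD2_c47 LD3_c57)))))))
theorem f70764 : Led Lsl_gt (LP (LK LD1_c4 LD2_c25 LD3_c9)) = (LP (LK LD1_c8 LD2_c47 LD3_c56)) :=
  Lre_g IH (LK LD1_c4 LD2_c25 LD3_c9) (LK LD1_c8 LD2_c47 LD3_c56) Lrfl Lrfl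
theorem f756816 : Led Lsl_at (LP (LK LD1_c14 LD2_c59 LD3_c52)) = (LP (LK LD1_c8 LD2_c47 LD3_c56)) :=
  Lgr Lrot26 (Lpr_ff (f756812 IH) (Lpr_gt (f56358 IH) (Lpr_gt (f70764 IH) (Lpn (LP (LK LD1_c8 LD2_c47 LD3_c56))))))
theorem f201375 : Led Lsl_et (LP (LK LD1_c24 LD2_c47 LD3_c12)) = (LP (LK LD1_c14 LD2_c59 LD3_c52)) :=
  Lre_e IH (LK LD1_c24 LD2_c47 LD3_c12) (LK LD1_c14 LD2_c59 LD3_c52) Lrfl Lrfl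
theorem f240881 : Led Lsl_et (LP (LK LD1_c8 LD2_c47 LD3_c56)) = (LP (LK LD1_c16 LD2_c27 LD3_c60)) :=
  Lre_e IH (LK LD1_c8 LD2_c47 LD3_c56) (LK LD1_c16 LD2_c27 LD3_c60) Lrfl Lrfl
theorem f756823 : Led Lsl_af (LP (LK LD1_c24 LD2_c47 LD3_c12)) = (LP (LK LD1_c16 LD2_c27 LD3_c60)) :=
  Lgr Lrot50 (Lpr_et (f201375 IH) (Lpr_at (f756816 IH) (Lpr_et (f240881 IH) (Lpn (LP (LK LD1_c16 LD2_c27 LD3_c60))))))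
theorem f240885 : Led Lsl_df (LP (LK LD1_c20 LD2_c21 LD3_c14)) = (LP (LK LD1_c18 LD2_c19 LD3_c1)) :=
  Lgr Lrot38 (Lpr_dt (K16.f240866 IH) (Lpn (LP (LK LD1_c18 LD2_c19 LD3_c1))))
theorem f197830 : Led Lsl_gt (LP (LK LD1_c21 LD2_c12 LD3_c56)) = (LP (LK LD1_c12 LD2_c6 LD3_c48)) :=
  Lre_g IH (LK LD1_c21 LD2_c12 LD3_c56) (LK LD1_c12 LD2_c6 LD3_c48) Lrfl Lrfl
theorem f270224 : Led Lsl_gt (LP (LK LD1_c20 LD2_c21 LD3_c14)) = (LP (LK LD1_c21 LD2_c12 LD3_c56)) :=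
  Lgr Lrot5 (Lpr_ft (K16.f240887 IH) (Lpr_at (K16.f270215 IH) (Lpe (f197830 IH) (Lpn (LP (LK LD1_c21 LD2_c12 LD3_c56))))))
theorem f410777 : Led Lsl_df (LP (LK LD1_c21 LD2_c12 LD3_c56)) = (LP (LK LD1_c24 LD2_c47 LD3_c12)) :=
  Lgr Lrot168 (Lpe (f270224 IH) (Lpr_df (f240885 IH) (Lpe (K39.f410732 IH) (Lpr_gf (K47.f410775 IH) (Lpr_ef (K40.f201361 IH) (Lpr_dt (K37.f38681 IH) (Lpr_gf (f70781 IH) (Lpe (K11.f70785 IH) (Lpr_gf (K50.f201935 IH) (Lpe (f201375 IH) (Lpn (LP (LK LD1_c24 LD2_c47 LD3_c12)))))))))))))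
theorem f240872 : Led Lsl_gt (LP (LK LD1_c20 LD2_c21 LD3_c13)) = (LP (LK LD1_c11 LD2_c23 LD3_c29)) :=
  Lre_g IH (LK LD1_c20 LD2_c21 LD3_c13) (LK LD1_c11 LD2_c23 LD3_c29) Lrfl Lrfl
theorem f240871 : Led Lsl_et (LP (LK LD1_c10 LD2_c1 LD3_c26)) = (LP (LK LD1_c5 LD2_c5 LD3_c10)) :=
  Lre_e IH (LK LD1_c10 LD2_c1 LD3_c26) (LK LD1_c5 LD2_c5 LD3_c10) Lrfl Lrfl
theorem f201446 : Led Lsl_et (LP (LK LD1_c2 LD2_c10 LD3_c0)) = (LP (LK LD1_c4 LD2_c25 LD3_c9)) :=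
  Lre_e IH (LK LD1_c2 LD2_c10 LD3_c0) (LK LD1_c4 LD2_c25 LD3_c9) Lrfl Lrfl
theorem f201449 : Led Lsl_et (LP (LK LD1_c16 LD2_c27 LD3_c60)) = (LP (LK LD1_c8 LD2_c47 LD3_c56)) :=
  Lre_e IH (LK LD1_c16 LD2_c27 LD3_c60) (LK LD1_c8 LD2_c47 LD3_c56) Lrfl Lrfl
theorem f240876 : Led Lsl_df (LP (LK LD1_c20 LD2_c21 LD3_c13)) = (LP (LK LD1_c16 LD2_c27 LD3_c60)) :=
  Lgr Lrot170 (Lpr_gt (f240872 IH) (Lpr_df (K16.f240855 IH) (Lpr_et (f240871 IH) (Lpe (K24.f240762 IH) (Lpr_dt (K24.f187928 IH) (Lpe (K11.f201429 IH) (Lpe (K11.f201422 IH) (Lpr_et (f201446 IH) (Lpr_gt (f70764 IH) (Lpe (f201449 IH) (Lpn (LP (LK LD1_c16 LD2_c27 LD3_c60)))))))))))))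
theorem f240879 : Led Lsl_dt (LP (LK LD1_c20 LD2_c21 LD3_c13)) = (LP (LK LD1_c16 LD2_c27 LD3_c60)) :=
  Lgr Lrot42 (Lpr_df (f240876 IH) (Lpn (LP (LK LD1_c16 LD2_c27 LD3_c60))))
theorem f756827 : Led Lsl_at (LP (LK LD1_c21 LD2_c12 LD3_c56)) = (LP (LK LD1_c20 LD2_c21 LD3_c13)) :=
  Lgr Lrot51 (Lpr_df (f410777 IH) (Lpr_af (f756823 IH) (Lpe (f240879 IH) (Lpn (LP (LK LD1_c20 LD2_c21 LD3_c13))))))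
theorem f270218 : Led Lsl_af (LP (LK LD1_c11 LD2_c23 LD3_c29)) = (LP (LK LD1_c12 LD2_c6 LD3_c48)) :=
  Lgr Lrot0 (Lpr_at (K16.f270215 IH) (Lpn (LP (LK LD1_c12 LD2_c6 LD3_c48))))
theorem f211554 : Led Lsl_ft (LP (LK LD1_c21 LD2_c12 LD3_c57)) = (LP (LK LD1_c12 LD2_c6 LD3_c48)) :=
  Lre_f IH (LK LD1_c21 LD2_c12 LD3_c57) (LK LD1_c12 LD2_c6 LD3_c48) Lrfl Lrfl
theorem f411479 : Led Lsl_gf (LP (LK LD1_c20 LD2_c21 LD3_c13)) = (LP (LK LD1_c21 LD2_c12 LD3_c57)) :=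
  Lgr Lrot47 (Lpr_gt (f240872 IH) (Lpr_af (f270218 IH) (Lpe (f211554 IH) (Lpn (LP (LK LD1_c21 LD2_c12 LD3_c57))))))
theorem f60762 : Led Lsl_gt (LP (LK LD1_c11 LD2_c23 LD3_c29)) = (LP (LK LD1_c20 LD2_c21 LD3_c12)) :=
  Lre_g IH (LK LD1_c11 LD2_c23 LD3_c29) (LK LD1_c20 LD2_c21 LD3_c12) Lrfl Lrfl
theorem f411475 : Led Lsl_gt (LP (LK LD1_c20 LD2_c21 LD3_c12)) = (LP (LK LD1_c21 LD2_c12 LD3_c57)) :=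
  Lgr Lrot46 (Lpe (f60762 IH) (Lpr_ft (K16.f240864 IH) (Lpr_at (K39.f270226 IH) (Lpn (LP (LK LD1_c21 LD2_c12 LD3_c57))))))
theorem f756831 : Led Lsl_ff (LP (LK LD1_c21 LD2_c12 LD3_c56)) = (LP (LK LD1_c20 LD2_c21 LD3_c12)) :=
  Lgr Lrot52 (Lpr_at (f756827 IH) (Lpr_gf (f411479 IH) (Lpe (f411475 IH) (Lpn (LP (LK LD1_c20 LD2_c21 LD3_c12))))))
theorem f756833 : Led Lsl_ft (LP (LK LD1_c21 LD2_c12 LD3_c56)) = (LP (LK LD1_c20 LD2_c21 LD3_c12)) :=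
  Lgr Lrot48 (Lpr_ff (f756831 IH) (Lpn (LP (LK LD1_c20 LD2_c21 LD3_c12))))
theorem f197845 : Led Lsl_gt (LP (LK LD1_c12 LD2_c6 LD3_c48)) = (LP (LK LD1_c21 LD2_c12 LD3_c55)) :=
  Lre_g IH (LK LD1_c12 LD2_c6 LD3_c48) (LK LD1_c21 LD2_c12 LD3_c55) Lrfl Lrfl
theorem f756835 : Led Lsl_af (LP (LK LD1_c21 LD2_c12 LD3_c55)) = (LP (LK LD1_c20 LD2_c21 LD3_c12)) :=
  Lgr Lrot31 (Lpe (f197845 IH) (Lpe (f197830 IH) (Lpr_ft (f756833 IH) (Lpn (LP (LK LD1_c20 LD2_c21 LD3_c12))))))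
theorem f108147 : Led Lsl_dt (LP (LK LD1_c13 LD2_c30 LD3_c52)) = (LP (LK LD1_c7 LD2_c8 LD3_c5)) :=
  Lre_d IH (LK LD1_c13 LD2_c30 LD3_c52) (LK LD1_c7 LD2_c8 LD3_c5) Lrfl Lrfl
theorem f546978 : Led Lsl_et (LP (LK LD1_c13 LD2_c30 LD3_c52)) = (LP (LK LD1_c21 LD2_c12 LD3_c55)) :=
  Lgr Lrot122 (Lpr_dt (f108147 IH) (Lpr_gt (K29.f108051 IH) (Lpe (K38.f108070 IH) (Lpr_et (K38.f546952 IH) (Lpr_gt (K10.f60504 IH) (Lpr_dt (K1.f60204 IH) (Lpr_gt (K10.f197825 IH) (Lpe (K10.f197813 IH) (Lpr_et (K39.f197829 IH) (Lpr_gt (f197845 IH) (Lpn (LP (LK LD1_c21 LD2_c12 LD3_c55)))))))))))))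
theorem f546980 : Led Lsl_ef (LP (LK LD1_c13 LD2_c30 LD3_c52)) = (LP (LK LD1_c21 LD2_c12 LD3_c55)) :=
  Lgr Lrot88 (Lpr_et (f546978 IH) (Lpn (LP (LK LD1_c21 LD2_c12 LD3_c55))))
theorem f611407 : Led Lsl_dt (LP (LK LD1_c23 LD2_c20 LD3_c29)) = (LP (LK LD1_c20 LD2_c21 LD3_c17)) :=
  Lgr Lrot42 (Lpr_df (K47.f611274 IH) (Lpn (LP (LK LD1_c20 LD2_c21 LD3_c17))))
theorem f462515 : Led Lsl_ft (LP (LK LD1_c14 LD2_c1 LD3_c53)) = (LP (LK LD1_c14 LD2_c53 LD3_c57)) :=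
  Lgr Lrot101 (Lpe (K47.f425565 IH) (Lpr_ff (K28.f462511 IH) (Lpe (K28.f462514 IH) (Lpn (LP (LK LD1_c14 LD2_c53 LD3_c57))))))
theorem f462635 : Led Lsl_gt (LP (LK LD1_c14 LD2_c53 LD3_c59)) = (LP (LK LD1_c7 LD2_c53 LD3_c59)) :=
  Lre_g IH (LK LD1_c14 LD2_c53 LD3_c59) (LK LD1_c7 LD2_c53 LD3_c59) Lrfl Lrfl
theorem f462697 : Led Lsl_gt (LP (LK LD1_c14 LD2_c1 LD3_c53)) = (LP (LK LD1_c14 LD2_c53 LD3_c59)) :=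
  Lgr Lrot5 (Lpr_ft (f462515 IH) (Lpr_at (K28.f462514 IH) (Lpe (f462635 IH) (Lpn (LP (LK LD1_c14 LD2_c53 LD3_c59))))))
theorem f610698 : Led Lsl_df (LP (LK LD1_c22 LD2_c43 LD3_c55)) = (LP (LK LD1_c14 LD2_c53 LD3_c59)) :=
  Lgr Lrot84 (Lpr_cf (K47.f610693 IH) (Lpe (K47.f470367 IH) (Lpe (K29.f470366 IH) (Lpe (K29.f11736 IH) (Lpe (K28.f11760 IH) (Lpe (K28.f470358 IH) (Lpe (K41.f462657 IH) (Lpr_dt (K28.f108135 IH) (Lpr_gt (f462697 IH) (Lpn (LP (LK LD1_c14 LD2_c53 LD3_c59))))))))))))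
theorem f610702 : Led Lsl_dt (LP (LK LD1_c22 LD2_c43 LD3_c55)) = (LP (LK LD1_c14 LD2_c53 LD3_c59)) :=
  Lgr Lrot42 (Lpr_df (f610698 IH) (Lpn (LP (LK LD1_c14 LD2_c53 LD3_c59))))
theorem f611817 : Led Lsl_gf (LP (LK LD1_c13 LD2_c14 LD3_c34)) = (LP (LK LD1_c20 LD2_c21 LD3_c17)) :=
  Lgr Lrot143 (Lpr_dt (K28.f470567 IH) (Lpr_cf (K29.f470525 IH) (Lpe (K28.f462524 IH) (Lpe (f462635 IH) (Lpe (f610702 IH) (Lpe (K47.f529202 IH) (Lpe (K47.f479779 IH) (Lpr_gt (K47.f479737 IH) (Lpr_dt (f611407 IH) (Lpn (LP (LK LD1_c20 LD2_c21 LD3_c17))))))))))))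
theorem f470609 : Led Lsl_dt (LP (LK LD1_c22 LD2_c29 LD3_c19)) = (LP (LK LD1_c13 LD2_c14 LD3_c31)) :=
  Lre_d IH (LK LD1_c22 LD2_c29 LD3_c19) (LK LD1_c13 LD2_c14 LD3_c31) Lrfl Lrfl
theorem f410535 : Led Lsl_et (LP (LK LD1_c20 LD2_c21 LD3_c9)) = (LP (LK LD1_c21 LD2_c12 LD3_c57)) :=
  Lgr Lrot69 (Lpe (K37.f69389 IH) (Lpe (K47.f59295 IH) (Lpr_ff (K37.f410529 IH) (Lpe (K16.f211529 IH) (Lpe (f211554 IH) (Lpn (LP (LK LD1_c21 LD2_c12 LD3_c57))))))))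
theorem f611819 : Led Lsl_et (LP (LK LD1_c22 LD2_c29 LD3_c19)) = (LP (LK LD1_c20 LD2_c21 LD3_c12)) :=
  Lgr Lrot185 (Lpr_dt (f470609 IH) (Lpe (K34.f470564 IH) (Lpe (K28.f470567 IH) (Lpr_gf (f611817 IH) (Lpr_ef (K47.f411487 IH) (Lpr_dt (K47.f197940 IH) (Lpe (K47.f410956 IH) (Lpe (K37.f69391 IH) (Lpr_et (f410535 IH) (Lpe (f411475 IH) (Lpn (LP (LK LD1_c20 LD2_c21 LD3_c12)))))))))))))
theorem f756839 : Led Lsl_at (LP (LK LD1_c13 LD2_c30 LD3_c52)) = (LP (LK LD1_c22 LD2_c29 LD3_c19)) :=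
  Lgr Lrot80 (Lpr_ef (f546980 IH) (Lpr_af (f756835 IH) (Lpe (f611819 IH) (Lpn (LP (LK LD1_c22 LD2_c29 LD3_c19))))))
theorem f479686 : Led Lsl_bt (LP (LK LD1_c13 LD2_c51 LD3_c17)) = (LP (LK LD1_c7 LD2_c19 LD3_c31)) :=
  Lre_b IH (LK LD1_c13 LD2_c51 LD3_c17) (LK LD1_c7 LD2_c19 LD3_c31) Lrfl Lrfl
theorem f479687 : Led Lsl_bt (LP (LK LD1_c13 LD2_c14 LD3_c38)) = (LP (LK LD1_c22 LD2_c29 LD3_c31)) :=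
  Lre_b IH (LK LD1_c13 LD2_c14 LD3_c38) (LK LD1_c22 LD2_c29 LD3_c31) Lrfl Lrfl
theorem f479688 : Led Lsl_df (LP (LK LD1_c13 LD2_c51 LD3_c17)) = (LP (LK LD1_c22 LD2_c29 LD3_c31)) :=
  Lgr Lrot12 (Lpr_bt (f479686 IH) (Lpr_dt (K47.f479681 IH) (Lpr_bt (f479687 IH) (Lpn (LP (LK LD1_c22 LD2_c29 LD3_c31))))))
theorem f609355 : Led Lsl_gf (LP (LK LD1_c22 LD2_c29 LD3_c19)) = (LP (LK LD1_c13 LD2_c14 LD3_c37)) :=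
  Lgr Lrot138 (Lpr_dt (f470609 IH) (Lpr_gt (K34.f470607 IH) (Lpr_df (K48.f547020 IH) (Lpr_et (K38.f60783 IH) (Lpe (K13.f60778 IH) (Lpe (K1.f56464 IH) (Lpr_dt (K1.f56452 IH) (Lpr_gt (K47.f609344 IH) (Lpr_df (f479688 IH) (Lpr_et (K47.f479713 IH) (Lpn (LP (LK LD1_c13 LD2_c14 LD3_c37)))))))))))))
theorem f756855 : Led Lsl_ff (LP (LK LD1_c13 LD2_c30 LD3_c52)) = (LP (LK LD1_c22 LD2_c29 LD3_c21)) :=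
  Lgr Lrot52 (Lpr_at (f756839 IH) (Lpr_gf (f609355 IH) (Lpe (K47.f609285 IH) (Lpn (LP (LK LD1_c22 LD2_c29 LD3_c21))))))
theorem f756861 : Led Lsl_ft (LP (LK LD1_c13 LD2_c30 LD3_c52)) = (LP (LK LD1_c22 LD2_c29 LD3_c21)) :=
  Lgr Lrot48 (Lpr_ff (f756855 IH) (Lpn (LP (LK LD1_c22 LD2_c29 LD3_c21))))
theorem f56449 : Led Lsl_dt (LP (LK LD1_c21 LD2_c13 LD3_c23)) = (LP (LK LD1_c15 LD2_c23 LD3_c59)) :=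
  Lgr Lrot42 (Lpr_df (K1.f56446 IH) (Lpn (LP (LK LD1_c15 LD2_c23 LD3_c59))))
theorem f46749 : Led Lsl_gt (LP (LK LD1_c8 LD2_c26 LD3_c7)) = (LP (LK LD1_c15 LD2_c50 LD3_c38)) :=
  Lre_g IH (LK LD1_c8 LD2_c26 LD3_c7) (LK LD1_c15 LD2_c50 LD3_c38) Lrfl Lrfl
theorem f46750 : Led Lsl_gt (LP (LK LD1_c15 LD2_c50 LD3_c38)) = (LP (LK LD1_c15 LD2_c23 LD3_c59)) :=
  Lgr Lrot46 (Lpe (f46749 IH) (Lpr_ft (K1.f46747 IH) (Lpr_at (K1.f46736 IH) (Lpn (LP (LK LD1_c15 LD2_c23 LD3_c59))))))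
theorem f46752 : Led Lsl_dt (LP (LK LD1_c25 LD2_c46 LD3_c43)) = (LP (LK LD1_c15 LD2_c50 LD3_c38)) :=
  Lre_d IH (LK LD1_c25 LD2_c46 LD3_c43) (LK LD1_c15 LD2_c50 LD3_c38) Lrfl Lrfl
theorem f611276 : Led Lsl_ef (LP (LK LD1_c22 LD2_c29 LD3_c29)) = (LP (LK LD1_c25 LD2_c46 LD3_c43)) :=
  Lgr Lrot17 (Lpr_gf (K47.f611270 IH) (Lpr_ef (K47.f552948 IH) (Lpr_dt (K39.f38090 IH) (Lpe (K47.f607941 IH) (Lpr_df (K40.f60535 IH) (Lpe (K2.f60528 IH) (Lpe (K1.f56445 IH) (Lpr_dt (f56449 IH) (Lpe (f46750 IH) (Lpe (f46752 IH) (Lpn (LP (LK LD1_c25 LD2_c46 LD3_c43)))))))))))))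
theorem f60306 : Led Lsl_et (LP (LK LD1_c11 LD2_c23 LD3_c40)) = (LP (LK LD1_c5 LD2_c46 LD3_c43)) :=
  Lre_e IH (LK LD1_c11 LD2_c23 LD3_c40) (LK LD1_c5 LD2_c46 LD3_c43) Lrfl Lrfl
theorem f611390 : Led Lsl_gt (LP (LK LD1_c22 LD2_c29 LD3_c29)) = (LP (LK LD1_c13 LD2_c30 LD3_c52)) :=
  Lgr Lrot137 (Lpr_ef (f611276 IH) (Lpr_dt (f46752 IH) (Lpe (f46749 IH) (Lpr_df (K1.f60285 IH) (Lpr_et (f60306 IH) (Lpe (K10.f60504 IH) (Lpe (K38.f546952 IH) (Lpr_dt (K38.f108070 IH) (Lpe (K29.f108051 IH) (Lpe (f108147 IH) (Lpn (LP (LK LD1_c13 LD2_c30 LD3_c52)))))))))))))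
theorem f529399 : Led Lsl_at (LP (LK LD1_c22 LD2_c28 LD3_c52)) = (LP (LK LD1_c13 LD2_c14 LD3_c9)) :=
  Lre_a IH (LK LD1_c22 LD2_c28 LD3_c52) (LK LD1_c13 LD2_c14 LD3_c9) Lrfl Lrfl
theorem f611392 : Led Lsl_gf (LP (LK LD1_c13 LD2_c14 LD3_c9)) = (LP (LK LD1_c13 LD2_c30 LD3_c52)) :=
  Lgr Lrot76 (Lpe (f529399 IH) (Lpe (K47.f529397 IH) (Lpr_gt (f611390 IH) (Lpn (LP (LK LD1_c13 LD2_c30 LD3_c52))))))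
theorem f479740 : Led Lsl_at (LP (LK LD1_c13 LD2_c14 LD3_c37)) = (LP (LK LD1_c22 LD2_c29 LD3_c29)) :=
  Lre_a IH (LK LD1_c13 LD2_c14 LD3_c37) (LK LD1_c22 LD2_c29 LD3_c29) Lrfl Lrfl
theorem f529400 : Led Lsl_ff (LP (LK LD1_c13 LD2_c14 LD3_c37)) = (LP (LK LD1_c13 LD2_c14 LD3_c9)) :=
  Lgr Lrot30 (Lpr_at (f479740 IH) (Lpr_ft (K47.f529397 IH) (Lpr_at (f529399 IH) (Lpn (LP (LK LD1_c13 LD2_c14 LD3_c9))))))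
theorem f611272 : Led Lsl_gt (LP (LK LD1_c13 LD2_c14 LD3_c9)) = (LP (LK LD1_c13 LD2_c30 LD3_c51)) :=
  Lgr Lrot5 (Lpe (f529400 IH) (Lpr_at (f479740 IH) (Lpr_gf (K47.f611270 IH) (Lpn (LP (LK LD1_c13 LD2_c30 LD3_c51))))))
theorem f756867 : Led Lsl_af (LP (LK LD1_c13 LD2_c30 LD3_c51)) = (LP (LK LD1_c22 LD2_c29 LD3_c21)) :=
  Lgr Lrot31 (Lpe (f611272 IH) (Lpr_gf (f611392 IH) (Lpr_ft (f756861 IH) (Lpn (LP (LK LD1_c22 LD2_c29 LD3_c21))))))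
theorem f756849 : Led Lsl_af (LP (LK LD1_c13 LD2_c30 LD3_c52)) = (LP (LK LD1_c22 LD2_c29 LD3_c19)) :=
  Lgr Lrot0 (Lpr_at (f756839 IH) (Lpn (LP (LK LD1_c22 LD2_c29 LD3_c19))))
theorem f756873 : Led Lsl_ft (LP (LK LD1_c13 LD2_c30 LD3_c51)) = (LP (LK LD1_c22 LD2_c29 LD3_c19)) :=
  Lgr Lrot101 (Lpr_af (f756867 IH) (Lpe (f756861 IH) (Lpr_af (f756849 IH) (Lpn (LP (LK LD1_c22 LD2_c29 LD3_c19))))))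
theorem f756879 : Led Lsl_ff (LP (LK LD1_c13 LD2_c30 LD3_c51)) = (LP (LK LD1_c22 LD2_c29 LD3_c19)) :=
  Lgr Lrot3 (Lpr_ft (f756873 IH) (Lpn (LP (LK LD1_c22 LD2_c29 LD3_c19))))
theorem f470565 : Led Lsl_dt (LP (LK LD1_c13 LD2_c14 LD3_c31)) = (LP (LK LD1_c22 LD2_c29 LD3_c19)) :=
  Lre_d IH (LK LD1_c13 LD2_c14 LD3_c31) (LK LD1_c22 LD2_c29 LD3_c19) Lrfl Lrfl
theorem f756883 : Led Lsl_ft (LP (LK LD1_c7 LD2_c8 LD3_c4)) = (LP (LK LD1_c13 LD2_c14 LD3_c31)) :=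
  Lgr Lrot54 (Lpe (K47.f475843 IH) (Lpr_ff (f756879 IH) (Lpe (f470565 IH) (Lpn (LP (LK LD1_c13 LD2_c14 LD3_c31))))))
theorem f756889 : Led Lsl_ff (LP (LK LD1_c7 LD2_c51 LD3_c47)) = (LP (LK LD1_c14 LD2_c49 LD3_c45)) :=
  Lgr Lrot23 (Lpr_ct (K39.f475841 IH) (Lpr_ft (f756883 IH) (Lpr_ct (K34.f470635 IH) (Lpn (LP (LK LD1_c14 LD2_c49 LD3_c45))))))
theorem f756893 : Led Lsl_at (LP (LK LD1_c7 LD2_c51 LD3_c47)) = (LP (LK LD1_c14 LD2_c49 LD3_c33)) :=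
  Lgr Lrot26 (Lpr_ff (f756889 IH) (Lpr_gt (K34.f11794 IH) (Lpr_gt (K41.f470551 IH) (Lpn (LP (LK LD1_c14 LD2_c49 LD3_c33))))))
theorem f756897 : Led Lsl_af (LP (LK LD1_c12 LD2_c8 LD3_c4)) = (LP (LK LD1_c14 LD2_c47 LD3_c25)) :=
  Lgr Lrot50 (Lpe (K39.f552946 IH) (Lpr_at (f756893 IH) (Lpe (K46.f607790 IH) (Lpn (LP (LK LD1_c14 LD2_c47 LD3_c25))))))
theorem f756903 : Led Lsl_ft (LP (LK LD1_c12 LD2_c7 LD3_c56)) = (LP (LK LD1_c14 LD2_c47 LD3_c25)) :=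
  Lgr Lrot142 (Lpr_dt (K46.f543472 IH) (Lpe (K39.f560407 IH) (Lpe (K39.f543479 IH) (Lpr_ct (K39.f80502 IH) (Lpr_dt (K37.f80501 IH) (Lpe (K39.f80490 IH) (Lpr_dt (K47.f38144 IH) (Lpr_ct (K39.f80519 IH) (Lpr_af (f756897 IH) (Lpn (LP (LK LD1_c14 LD2_c47 LD3_c25))))))))))))
theorem f756909 : Led Lsl_ff (LP (LK LD1_c12 LD2_c7 LD3_c56)) = (LP (LK LD1_c14 LD2_c47 LD3_c25)) :=
  Lgr Lrot3 (Lpr_ft (f756903 IH) (Lpn (LP (LK LD1_c14 LD2_c47 LD3_c25))))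
theorem f756915 : Led Lsl_at (LP (LK LD1_c12 LD2_c7 LD3_c56)) = (LP (LK LD1_c14 LD2_c47 LD3_c24)) :=
  Lgr Lrot26 (Lpr_ff (f756909 IH) (Lpr_gt (K46.f607166 IH) (Lpr_gt (K47.f576680 IH) (Lpn (LP (LK LD1_c14 LD2_c47 LD3_c24))))))
theorem f756899 : Led Lsl_at (LP (LK LD1_c12 LD2_c8 LD3_c4)) = (LP (LK LD1_c14 LD2_c47 LD3_c25)) :=
  Lgr Lrot100 (Lpr_af (f756897 IH) (Lpn (LP (LK LD1_c14 LD2_c47 LD3_c25))))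
theorem f756921 : Led Lsl_ff (LP (LK LD1_c12 LD2_c8 LD3_c4)) = (LP (LK LD1_c14 LD2_c47 LD3_c24)) :=
  Lgr Lrot30 (Lpr_at (f756899 IH) (Lpe (f756909 IH) (Lpr_at (f756915 IH) (Lpn (LP (LK LD1_c14 LD2_c47 LD3_c24))))))
theorem f756927 : Led Lsl_ft (LP (LK LD1_c12 LD2_c8 LD3_c4)) = (LP (LK LD1_c14 LD2_c47 LD3_c24)) :=
  Lgr Lrot48 (Lpr_ff (f756921 IH) (Lpn (LP (LK LD1_c14 LD2_c47 LD3_c24))))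
theorem f756931 : Led Lsl_ff (LP (LK LD1_c21 LD2_c14 LD3_c21)) = (LP (LK LD1_c13 LD2_c57 LD3_c58)) :=
  Lgr Lrot19 (Lpr_dt (K39.f80494 IH) (Lpr_ft (f756927 IH) (Lpr_dt (K47.f576681 IH) (Lpn (LP (LK LD1_c13 LD2_c57 LD3_c58))))))
theorem f552961 : Led Lsl_bt (LP (LK LD1_c21 LD2_c14 LD3_c21)) = (LP (LK LD1_c29 LD2_c55 LD3_c11)) :=
  Lre_b IH (LK LD1_c21 LD2_c14 LD3_c21) (LK LD1_c29 LD2_c55 LD3_c11) Lrfl Lrfl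
theorem f756935 : Led Lsl_ft (LP (LK LD1_c29 LD2_c55 LD3_c11)) = (LP (LK LD1_c23 LD2_c29 LD3_c55)) :=
  Lgr Lrot75 (Lpe (f552961 IH) (Lpr_ff (f756931 IH) (Lpe (K47.f147415 IH) (Lpn (LP (LK LD1_c23 LD2_c29 LD3_c55))))))
theorem f533405 : Led Lsl_ft (LP (LK LD1_c13 LD2_c21 LD3_c5)) = (LP (LK LD1_c21 LD2_c41 LD3_c12)) :=
  Lgr Lrot4 (Lpe (K34.f469696 IH) (Lpr_ff (K34.f533401 IH) (Lpe (K34.f111094 IH) (Lpn (LP (LK LD1_c21 LD2_c41 LD3_c12))))))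
theorem f576614 : Led Lsl_gf (LP (LK LD1_c21 LD2_c14 LD3_c26)) = (LP (LK LD1_c13 LD2_c21 LD3_c5)) :=
  Lgr Lrot47 (Lpr_gt (K43.f576612 IH) (Lpe (K4.f111100 IH) (Lpe (f533405 IH) (Lpn (LP (LK LD1_c13 LD2_c21 LD3_c5))))))
theorem f122082 : Led Lsl_ct (LP (LK LD1_c7 LD2_c22 LD3_c11)) = (LP (LK LD1_c3 LD2_c41 LD3_c3)) :=
  Lre_c IH (LK LD1_c7 LD2_c22 LD3_c11) (LK LD1_c3 LD2_c41 LD3_c3) Lrfl Lrfl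
theorem f440468 : Led Lsl_dt (LP (LK LD1_c7 LD2_c22 LD3_c21)) = (LP (LK LD1_c3 LD2_c41 LD3_c3)) :=
  Lre_d IH (LK LD1_c7 LD2_c22 LD3_c21) (LK LD1_c3 LD2_c41 LD3_c3) Lrfl Lrfl
theorem f440469 : Led Lsl_ct (LP (LK LD1_c13 LD2_c56 LD3_c27)) = (LP (LK LD1_c7 LD2_c22 LD3_c21)) :=
  Lre_c IH (LK LD1_c13 LD2_c56 LD3_c27) (LK LD1_c7 LD2_c22 LD3_c21) Lrfl Lrfl
theorem f469760 : Led Lsl_gt (LP (LK LD1_c23 LD2_c27 LD3_c37)) = (LP (LK LD1_c13 LD2_c56 LD3_c27)) :=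
  Lre_g IH (LK LD1_c23 LD2_c27 LD3_c37) (LK LD1_c13 LD2_c56 LD3_c27) Lrfl Lrfl
theorem f552956 : Led Lsl_bt (LP (LK LD1_c29 LD2_c55 LD3_c11)) = (LP (LK LD1_c21 LD2_c14 LD3_c21)) :=
  Lre_b IH (LK LD1_c29 LD2_c55 LD3_c11) (LK LD1_c21 LD2_c14 LD3_c21) Lrfl Lrfl
theorem f552958 : Led Lsl_cf (LP (LK LD1_c23 LD2_c27 LD3_c37)) = (LP (LK LD1_c29 LD2_c55 LD3_c11)) :=
  Lgr Lrot160 (Lpr_gt (f469760 IH) (Lpe (K37.f469657 IH) (Lpr_bt (K37.f131784 IH) (Lpr_gt (K34.f439172 IH) (Lpr_ct (K39.f439175 IH) (Lpr_gt (K39.f489672 IH) (Lpe (K35.f146935 IH) (Lpr_bt (K43.f147167 IH) (Lpr_gt (K43.f552954 IH) (Lpe (f552956 IH) (Lpn (LP (LK LD1_c29 LD2_c55 LD3_c11)))))))))))))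
theorem f576641 : Led Lsl_gt (LP (LK LD1_c22 LD2_c37 LD3_c41)) = (LP (LK LD1_c29 LD2_c55 LD3_c11)) :=
  Lgr Lrot9 (Lpe (K34.f469697 IH) (Lpe (f576614 IH) (Lpr_ct (K43.f576637 IH) (Lpr_gt (K43.f440467 IH) (Lpr_ct (f122082 IH) (Lpe (f440468 IH) (Lpe (f440469 IH) (Lpe (f469760 IH) (Lpr_cf (f552958 IH) (Lpn (LP (LK LD1_c29 LD2_c55 LD3_c11))))))))))))
theorem f607350 : Led Lsl_gf (LP (LK LD1_c22 LD2_c35 LD3_c31)) = (LP (LK LD1_c29 LD2_c55 LD3_c11)) :=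
  Lgr Lrot76 (Lpr_af (K35.f436444 IH) (Lpe (K35.f533479 IH) (Lpr_gt (f576641 IH) (Lpn (LP (LK LD1_c29 LD2_c55 LD3_c11))))))
theorem f757201 : Led Lsl_af (LP (LK LD1_c30 LD2_c36 LD3_c1)) = (LP (LK LD1_c23 LD2_c29 LD3_c55)) :=
  Lgr Lrot31 (Lpe (K37.f420061 IH) (Lpr_gf (f607350 IH) (Lpr_ft (f756935 IH) (Lpn (LP (LK LD1_c23 LD2_c29 LD3_c55))))))
theorem f657704 : Led Lsl_ct (LP (LK LD1_c13 LD2_c37 LD3_c11)) = (LP (LK LD1_c13 LD2_c53 LD3_c16)) :=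
  Lgr Lrot7 (Lpe (K47.f657692 IH) (Lpr_gf (K47.f657702 IH) (Lpe (K47.f63041 IH) (Lpe (K47.f461005 IH) (Lpe (K46.f654901 IH) (Lpr_gt (K46.f654891 IH) (Lpr_dt (K34.f466298 IH) (Lpr_gt (K47.f533594 IH) (Lpe (K47.f122498 IH) (Lpn (LP (LK LD1_c13 LD2_c53 LD3_c16))))))))))))
theorem f474032 : Led Lsl_gt (LP (LK LD1_c14 LD2_c55 LD3_c8)) = (LP (LK LD1_c7 LD2_c54 LD3_c32)) :=
  Lre_g IH (LK LD1_c14 LD2_c55 LD3_c8) (LK LD1_c7 LD2_c54 LD3_c32) Lrfl Lrfl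
theorem f122582 : Led Lsl_ct (LP (LK LD1_c23 LD2_c28 LD3_c33)) = (LP (LK LD1_c13 LD2_c56 LD3_c54)) :=
  Lre_c IH (LK LD1_c23 LD2_c28 LD3_c33) (LK LD1_c13 LD2_c56 LD3_c54) Lrfl Lrfl
theorem f657724 : Led Lsl_df (LP (LK LD1_c14 LD2_c55 LD3_c8)) = (LP (LK LD1_c22 LD2_c43 LD3_c8)) :=
  Lgr Lrot155 (Lpr_gt (f474032 IH) (Lpr_ct (K46.f474029 IH) (Lpe (K46.f491917 IH) (Lpr_ct (f657704 IH) (Lpr_dt (K34.f122567 IH) (Lpe (f122582 IH) (Lpr_gf (K37.f533727 IH) (Lpe (K37.f466356 IH) (Lpe (K37.f466322 IH) (Lpn (LP (LK LD1_c22 LD2_c43 LD3_c8))))))))))))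
theorem f657742 : Led Lsl_bt (LP (LK LD1_c14 LD2_c55 LD3_c8)) = (LP (LK LD1_c24 LD2_c42 LD3_c30)) :=
  Lre_b IH (LK LD1_c14 LD2_c55 LD3_c8) (LK LD1_c24 LD2_c42 LD3_c30) Lrfl Lrfl
theorem f657743 : Led Lsl_dt (LP (LK LD1_c24 LD2_c42 LD3_c30)) = (LP (LK LD1_c30 LD2_c36 LD3_c1)) :=
  Lgr Lrot79 (Lpe (f657742 IH) (Lpr_df (f657724 IH) (Lpr_bf (K37.f533725 IH) (Lpn (LP (LK LD1_c30 LD2_c36 LD3_c1))))))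
theorem f657749 : Led Lsl_df (LP (LK LD1_c24 LD2_c42 LD3_c30)) = (LP (LK LD1_c30 LD2_c36 LD3_c1)) :=
  Lgr Lrot38 (Lpr_dt (f657743 IH) (Lpn (LP (LK LD1_c30 LD2_c36 LD3_c1))))
theorem f657058 : Led Lsl_df (LP (LK LD1_c13 LD2_c16 LD3_c59)) = (LP (LK LD1_c14 LD2_c38 LD3_c25)) :=
  Lgr Lrot38 (Lpr_dt (K46.f655242 IH) (Lpn (LP (LK LD1_c14 LD2_c38 LD3_c25))))
theorem f131802 : Led Lsl_ct (LP (LK LD1_c23 LD2_c27 LD3_c40)) = (LP (LK LD1_c13 LD2_c56 LD3_c28)) :=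
  Lre_c IH (LK LD1_c23 LD2_c27 LD3_c40) (LK LD1_c13 LD2_c56 LD3_c28) Lrfl Lrfl
theorem f533534 : Led Lsl_gf (LP (LK LD1_c23 LD2_c29 LD3_c55)) = (LP (LK LD1_c30 LD2_c7 LD3_c27)) :=
  Lgr Lrot147 (Lpe (K47.f489921 IH) (Lpe (K47.f469753 IH) (Lpr_ct (f131802 IH) (Lpe (K34.f440463 IH) (Lpe (K28.f464372 IH) (Lpr_gf (K35.f464506 IH) (Lpr_cf (K35.f469791 IH) (Lpr_gf (K35.f533530 IH) (Lpe (K34.f111095 IH) (Lpn (LP (LK LD1_c30 LD2_c7 LD3_c27))))))))))))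
theorem f533375 : Led Lsl_ff (LP (LK LD1_c22 LD2_c35 LD3_c31)) = (LP (LK LD1_c30 LD2_c34 LD3_c2)) :=
  Lgr Lrot3 (Lpr_ft (K34.f533363 IH) (Lpn (LP (LK LD1_c30 LD2_c34 LD3_c2))))
theorem f533475 : Led Lsl_at (LP (LK LD1_c22 LD2_c37 LD3_c41)) = (LP (LK LD1_c30 LD2_c34 LD3_c2)) :=
  Lgr Lrot66 (Lpr_ff (K35.f533473 IH) (Lpr_af (K34.f111107 IH) (Lpr_ff (f533375 IH) (Lpn (LP (LK LD1_c30 LD2_c34 LD3_c2))))))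
theorem f533536 : Led Lsl_gt (LP (LK LD1_c23 LD2_c29 LD3_c55)) = (LP (LK LD1_c30 LD2_c34 LD3_c2)) :=
  Lgr Lrot46 (Lpr_gf (f533534 IH) (Lpe (K35.f533473 IH) (Lpr_at (f533475 IH) (Lpn (LP (LK LD1_c30 LD2_c34 LD3_c2))))))
theorem f463997 : Led Lsl_ft (LP (LK LD1_c7 LD2_c45 LD3_c33)) = (LP (LK LD1_c14 LD2_c38 LD3_c13)) :=
  Lre_f IH (LK LD1_c7 LD2_c45 LD3_c33) (LK LD1_c14 LD2_c38 LD3_c13) Lrfl Lrfl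
theorem f492143 : Led Lsl_ff (LP (LK LD1_c14 LD2_c38 LD3_c12)) = (LP (LK LD1_c13 LD2_c21 LD3_c53)) :=
  Lgr Lrot19 (Lpr_dt (K34.f492142 IH) (Lpr_ft (f463997 IH) (Lpr_dt (K37.f492134 IH) (Lpn (LP (LK LD1_c13 LD2_c21 LD3_c53))))))
theorem f492157 : Led Lsl_at (LP (LK LD1_c14 LD2_c38 LD3_c12)) = (LP (LK LD1_c7 LD2_c45 LD3_c42)) :=
  Lre_a IH (LK LD1_c14 LD2_c38 LD3_c12) (LK LD1_c7 LD2_c45 LD3_c42) Lrfl Lrfl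
theorem f492161 : Led Lsl_gf (LP (LK LD1_c14 LD2_c38 LD3_c25)) = (LP (LK LD1_c13 LD2_c21 LD3_c53)) :=
  Lgr Lrot47 (Lpr_gt (K46.f463965 IH) (Lpe (f492157 IH) (Lpr_ff (f492143 IH) (Lpn (LP (LK LD1_c13 LD2_c21 LD3_c53))))))
theorem f463992 : Led Lsl_gt (LP (LK LD1_c7 LD2_c45 LD3_c40)) = (LP (LK LD1_c14 LD2_c38 LD3_c13)) :=
  Lre_g IH (LK LD1_c7 LD2_c45 LD3_c40) (LK LD1_c14 LD2_c38 LD3_c13) Lrfl Lrfl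
theorem f489585 : Led Lsl_ct (LP (LK LD1_c14 LD2_c38 LD3_c22)) = (LP (LK LD1_c7 LD2_c45 LD3_c40)) :=
  Lre_c IH (LK LD1_c14 LD2_c38 LD3_c22) (LK LD1_c7 LD2_c45 LD3_c40) Lrfl Lrfl
theorem f492149 : Led Lsl_gt (LP (LK LD1_c14 LD2_c38 LD3_c22)) = (LP (LK LD1_c24 LD2_c21 LD3_c61)) :=
  Lre_g IH (LK LD1_c14 LD2_c38 LD3_c22) (LK LD1_c24 LD2_c21 LD3_c61) Lrfl Lrfl
theorem f657073 : Led Lsl_df (LP (LK LD1_c23 LD2_c29 LD3_c55)) = (LP (LK LD1_c24 LD2_c21 LD3_c61)) :=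
  Lgr Lrot153 (Lpr_gt (f533536 IH) (Lpr_dt (K34.f469855 IH) (Lpe (K34.f469854 IH) (Lpr_df (f657058 IH) (Lpr_gf (f492161 IH) (Lpe (K37.f492134 IH) (Lpe (f463992 IH) (Lpe (f489585 IH) (Lpr_gt (f492149 IH) (Lpn (LP (LK LD1_c24 LD2_c21 LD3_c61))))))))))))
theorem f757209 : Led Lsl_at (LP (LK LD1_c24 LD2_c42 LD3_c30)) = (LP (LK LD1_c24 LD2_c21 LD3_c61)) :=
  Lgr Lrot51 (Lpr_df (f657749 IH) (Lpr_af (f757201 IH) (Lpr_df (f657073 IH) (Lpn (LP (LK LD1_c24 LD2_c21 LD3_c61))))))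
theorem f122581 : Led Lsl_gt (LP (LK LD1_c23 LD2_c23 LD3_c27)) = (LP (LK LD1_c13 LD2_c53 LD3_c16)) :=
  Lre_g IH (LK LD1_c23 LD2_c23 LD3_c27) (LK LD1_c13 LD2_c53 LD3_c16) Lrfl Lrfl
theorem f103640 : Led Lsl_dt (LP (LK LD1_c22 LD2_c35 LD3_c28)) = (LP (LK LD1_c13 LD2_c19 LD3_c4)) :=
  Lre_d IH (LK LD1_c22 LD2_c35 LD3_c28) (LK LD1_c13 LD2_c19 LD3_c4) Lrfl Lrfl
theorem f472096 : Led Lsl_dt (LP (LK LD1_c14 LD2_c20 LD3_c28)) = (LP (LK LD1_c23 LD2_c58 LD3_c21)) :=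
  Lre_d IH (LK LD1_c14 LD2_c20 LD3_c28) (LK LD1_c23 LD2_c58 LD3_c21) Lrfl Lrfl
theorem f145009 : Led Lsl_df (LP (LK LD1_c6 LD2_c32 LD3_c44)) = (LP (LK LD1_c7 LD2_c35 LD3_c51)) :=
  Lgr Lrot162 (Lpe (K8.f130091 IH) (Lpr_gf (K5.f130102 IH) (Lpe (K5.f57529 IH) (Lpe (K5.f130105 IH) (Lpe (K8.f127921 IH) (Lpr_gt (K5.f127926 IH) (Lpe (K5.f127967 IH) (Lpr_gt (K6.f127978 IH) (Lpr_ct (K6.f144998 IH) (Lpn (LP (LK LD1_c7 LD2_c35 LD3_c51))))))))))))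
theorem f103638 : Led Lsl_dt (LP (LK LD1_c13 LD2_c19 LD3_c4)) = (LP (LK LD1_c22 LD2_c35 LD3_c28)) :=
  Lre_d IH (LK LD1_c13 LD2_c19 LD3_c4) (LK LD1_c22 LD2_c35 LD3_c28) Lrfl Lrfl
theorem f532832 : Led Lsl_gt (LP (LK LD1_c23 LD2_c58 LD3_c21)) = (LP (LK LD1_c22 LD2_c35 LD3_c28)) :=
  Lgr Lrot112 (Lpe (f472096 IH) (Lpr_et (K35.f471253 IH) (Lpr_gf (K35.f532827 IH) (Lpe (K35.f145004 IH) (Lpe (f145009 IH) (Lpe (K8.f120259 IH) (Lpe (K32.f155562 IH) (Lpr_gf (K24.f155568 IH) (Lpe (K4.f103630 IH) (Lpr_dt (f103638 IH) (Lpn (LP (LK LD1_c22 LD2_c35 LD3_c28)))))))))))))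
theorem f472104 : Led Lsl_gt (LP (LK LD1_c23 LD2_c58 LD3_c20)) = (LP (LK LD1_c14 LD2_c20 LD3_c28)) :=
  Lre_g IH (LK LD1_c23 LD2_c58 LD3_c20) (LK LD1_c14 LD2_c20 LD3_c28) Lrfl Lrfl
theorem f533598 : Led Lsl_ct (LP (LK LD1_c23 LD2_c58 LD3_c20)) = (LP (LK LD1_c23 LD2_c23 LD3_c27)) :=
  Lgr Lrot8 (Lpr_gt (f472104 IH) (Lpr_dt (f472096 IH) (Lpr_gt (f532832 IH) (Lpr_dt (f103640 IH) (Lpr_cf (K4.f103632 IH) (Lpe (K39.f103639 IH) (Lpr_gf (K35.f533592 IH) (Lpe (K34.f122567 IH) (Lpe (f122581 IH) (Lpn (LP (LK LD1_c23 LD2_c23 LD3_c27))))))))))))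
theorem f607606 : Led Lsl_bt (LP (LK LD1_c21 LD2_c14 LD3_c13)) = (LP (LK LD1_c24 LD2_c42 LD3_c24)) :=
  Lgr Lrot127 (Lpr_bf (K48.f607604 IH) (Lpn (LP (LK LD1_c24 LD2_c42 LD3_c24))))
theorem f658742 : Led Lsl_gf (LP (LK LD1_c23 LD2_c58 LD3_c20)) = (LP (LK LD1_c24 LD2_c42 LD3_c24)) :=
  Lgr Lrot181 (Lpr_ct (f533598 IH) (Lpr_gt (f122581 IH) (Lpe (f657704 IH) (Lpr_bt (K47.f657682 IH) (Lpr_gt (K47.f658740 IH) (Lpr_bf (K48.f481752 IH) (Lpr_ct (K33.f481135 IH) (Lpr_gt (K48.f576846 IH) (Lpe (K48.f543493 IH) (Lpr_bt (f607606 IH) (Lpn (LP (LK LD1_c24 LD2_c42 LD3_c24)))))))))))))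
theorem f533600 : Led Lsl_cf (LP (LK LD1_c23 LD2_c58 LD3_c20)) = (LP (LK LD1_c23 LD2_c23 LD3_c27)) :=
  Lgr Lrot166 (Lpr_gt (f472104 IH) (Lpr_dt (f472096 IH) (Lpr_gt (f532832 IH) (Lpr_dt (f103640 IH) (Lpr_ct (K4.f103636 IH) (Lpe (K39.f103639 IH) (Lpr_gf (K35.f533592 IH) (Lpe (K34.f122567 IH) (Lpe (f122581 IH) (Lpn (LP (LK LD1_c23 LD2_c23 LD3_c27))))))))))))
theorem f607601 : Led Lsl_bf (LP (LK LD1_c12 LD2_c7 LD3_c56)) = (LP (LK LD1_c14 LD2_c55 LD3_c0)) :=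
  Lgr Lrot24 (Lpr_bt (K48.f607599 IH) (Lpn (LP (LK LD1_c14 LD2_c55 LD3_c0))))
theorem f458192 : Led Lsl_ct (LP (LK LD1_c22 LD2_c27 LD3_c48)) = (LP (LK LD1_c13 LD2_c13 LD3_c25)) :=
  Lre_c IH (LK LD1_c22 LD2_c27 LD3_c48) (LK LD1_c13 LD2_c13 LD3_c25) Lrfl Lrfl
theorem f516130 : Led Lsl_et (LP (LK LD1_c14 LD2_c24 LD3_c39)) = (LP (LK LD1_c22 LD2_c27 LD3_c48)) :=
  Lgr Lrot158 (Lpe (K33.f484895 IH) (Lpr_ef (K34.f516126 IH) (Lpe (f458192 IH) (Lpn (LP (LK LD1_c22 LD2_c27 LD3_c48))))))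
theorem f515505 : Led Lsl_et (LP (LK LD1_c14 LD2_c47 LD3_c19)) = (LP (LK LD1_c7 LD2_c50 LD3_c22)) :=
  Lre_e IH (LK LD1_c14 LD2_c47 LD3_c19) (LK LD1_c7 LD2_c50 LD3_c22) Lrfl Lrfl
theorem f516212 : Led Lsl_bf (LP (LK LD1_c14 LD2_c47 LD3_c19)) = (LP (LK LD1_c22 LD2_c27 LD3_c48)) :=
  Lgr Lrot96 (Lpr_et (f515505 IH) (Lpe (K40.f515554 IH) (Lpr_et (f516130 IH) (Lpn (LP (LK LD1_c22 LD2_c27 LD3_c48))))))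
theorem f98796 : Led Lsl_ct (LP (LK LD1_c13 LD2_c13 LD3_c9)) = (LP (LK LD1_c6 LD2_c57 LD3_c54)) :=
  Lre_c IH (LK LD1_c13 LD2_c13 LD3_c9) (LK LD1_c6 LD2_c57 LD3_c54) Lrfl Lrfl
theorem f658747 : Led Lsl_bt (LP (LK LD1_c23 LD2_c23 LD3_c27)) = (LP (LK LD1_c22 LD2_c27 LD3_c14)) :=
  Lgr Lrot130 (Lpe (f533600 IH) (Lpr_gf (f658742 IH) (Lpe (K48.f464667 IH) (Lpe (f607601 IH) (Lpr_gf (K46.f568121 IH) (Lpr_bf (f516212 IH) (Lpr_ct (f458192 IH) (Lpe (K34.f16716 IH) (Lpe (f98796 IH) (Lpe (K37.f462851 IH) (Lpn (LP (LK LD1_c22 LD2_c27 LD3_c14)))))))))))))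
theorem f534572 : Led Lsl_bf (LP (LK LD1_c24 LD2_c10 LD3_c4)) = (LP (LK LD1_c14 LD2_c54 LD3_c13)) :=
  Lgr Lrot24 (Lpr_bt (K35.f534570 IH) (Lpn (LP (LK LD1_c14 LD2_c54 LD3_c13))))
theorem f658751 : Led Lsl_gt (LP (LK LD1_c24 LD2_c10 LD3_c4)) = (LP (LK LD1_c14 LD2_c38 LD3_c22)) :=
  Lgr Lrot82 (Lpr_bf (f534572 IH) (Lpe (K35.f471254 IH) (Lpe (f472104 IH) (Lpr_cf (f533600 IH) (Lpr_bt (f658747 IH) (Lpr_gf (K37.f527104 IH) (Lpe (K37.f527051 IH) (Lpe (K37.f527039 IH) (Lpe (f463992 IH) (Lpe (f489585 IH) (Lpn (LP (LK LD1_c14 LD2_c38 LD3_c22)))))))))))))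
theorem f757215 : Led Lsl_ff (LP (LK LD1_c24 LD2_c42 LD3_c30)) = (LP (LK LD1_c24 LD2_c10 LD3_c4)) :=
  Lgr Lrot52 (Lpr_at (f757209 IH) (Lpe (f492149 IH) (Lpe (f658751 IH) (Lpn (LP (LK LD1_c24 LD2_c10 LD3_c4))))))
theorem f757223 : Led Lsl_ft (LP (LK LD1_c24 LD2_c42 LD3_c30)) = (LP (LK LD1_c24 LD2_c10 LD3_c4)) :=
  Lgr Lrot48 (Lpr_ff (f757215 IH) (Lpn (LP (LK LD1_c24 LD2_c10 LD3_c4))))
theorem f116495 : Led Lsl_et (LP (LK LD1_c3 LD2_c41 LD3_c14)) = (LP (LK LD1_c1 LD2_c47 LD3_c32)) :=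
  Lre_e IH (LK LD1_c3 LD2_c41 LD3_c14) (LK LD1_c1 LD2_c47 LD3_c32) Lrfl Lrfl
theorem f463156 : Led Lsl_dt (LP (LK LD1_c14 LD2_c54 LD3_c13)) = (LP (LK LD1_c13 LD2_c57 LD3_c26)) :=
  Lgr Lrot136 (Lpr_et (K35.f463108 IH) (Lpr_gf (K29.f463149 IH) (Lpe (K28.f121145 IH) (Lpe (K6.f121125 IH) (Lpr_gf (K7.f130265 IH) (Lpe (K7.f116505 IH) (Lpe (K7.f116504 IH) (Lpe (f116495 IH) (Lpr_dt (K28.f116493 IH) (Lpe (K39.f116486 IH) (Lpn (LP (LK LD1_c13 LD2_c57 LD3_c26)))))))))))))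
theorem f463158 : Led Lsl_bt (LP (LK LD1_c13 LD2_c57 LD3_c26)) = (LP (LK LD1_c23 LD2_c29 LD3_c17)) :=
  Lre_b IH (LK LD1_c13 LD2_c57 LD3_c26) (LK LD1_c23 LD2_c29 LD3_c17) Lrfl Lrfl
theorem f534576 : Led Lsl_df (LP (LK LD1_c24 LD2_c10 LD3_c4)) = (LP (LK LD1_c23 LD2_c29 LD3_c17)) :=
  Lgr Lrot12 (Lpr_bt (K35.f534570 IH) (Lpr_dt (f463156 IH) (Lpr_bt (f463158 IH) (Lpn (LP (LK LD1_c23 LD2_c29 LD3_c17))))))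
theorem f534578 : Led Lsl_dt (LP (LK LD1_c24 LD2_c10 LD3_c4)) = (LP (LK LD1_c23 LD2_c29 LD3_c17)) :=
  Lgr Lrot42 (Lpr_df (f534576 IH) (Lpn (LP (LK LD1_c23 LD2_c29 LD3_c17))))
theorem f757229 : Led Lsl_ff (LP (LK LD1_c30 LD2_c36 LD3_c1)) = (LP (LK LD1_c23 LD2_c29 LD3_c17)) :=
  Lgr Lrot19 (Lpe (f657749 IH) (Lpr_ft (f757223 IH) (Lpr_dt (f534578 IH) (Lpn (LP (LK LD1_c23 LD2_c29 LD3_c17))))))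
theorem f469337 : Led Lsl_ct (LP (LK LD1_c31 LD2_c3 LD3_c47)) = (LP (LK LD1_c23 LD2_c29 LD3_c17)) :=
  Lgr Lrot59 (Lpr_cf (K39.f469335 IH) (Lpn (LP (LK LD1_c23 LD2_c29 LD3_c17))))
theorem f757235 : Led Lsl_ft (LP (LK LD1_c23 LD2_c27 LD3_c36)) = (LP (LK LD1_c31 LD2_c3 LD3_c47)) :=
  Lgr Lrot4 (Lpr_cf (K37.f533718 IH) (Lpr_ff (f757229 IH) (Lpe (f469337 IH) (Lpn (LP (LK LD1_c31 LD2_c3 LD3_c47))))))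
theorem f469761 : Led Lsl_gt (LP (LK LD1_c31 LD2_c3 LD3_c32)) = (LP (LK LD1_c23 LD2_c27 LD3_c37)) :=
  Lgr Lrot5 (Lpr_ft (K34.f469751 IH) (Lpr_at (K34.f469756 IH) (Lpe (f469760 IH) (Lpn (LP (LK LD1_c23 LD2_c27 LD3_c37))))))
theorem f757239 : Led Lsl_af (LP (LK LD1_c23 LD2_c27 LD3_c37)) = (LP (LK LD1_c31 LD2_c3 LD3_c47)) :=
  Lgr Lrot31 (Lpe (f469761 IH) (Lpr_gf (K37.f469767 IH) (Lpr_ft (f757235 IH) (Lpn (LP (LK LD1_c31 LD2_c3 LD3_c47))))))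
theorem f757241 : Led Lsl_at (LP (LK LD1_c23 LD2_c27 LD3_c37)) = (LP (LK LD1_c31 LD2_c3 LD3_c47)) :=
  Lgr Lrot100 (Lpr_af (f757239 IH) (Lpn (LP (LK LD1_c31 LD2_c3 LD3_c47))))
theorem f757243 : Led Lsl_af (LP (LK LD1_c29 LD2_c55 LD3_c11)) = (LP (LK LD1_c23 LD2_c29 LD3_c17)) :=
  Lgr Lrot68 (Lpe (f552958 IH) (Lpr_at (f757241 IH) (Lpr_ct (f469337 IH) (Lpn (LP (LK LD1_c23 LD2_c29 LD3_c17))))))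
theorem f756901 : Led Lsl_at (LP (LK LD1_c21 LD2_c14 LD3_c21)) = (LP (LK LD1_c13 LD2_c57 LD3_c59)) :=
  Lgr Lrot51 (Lpe (K39.f80520 IH) (Lpr_af (f756897 IH) (Lpr_df (K46.f607718 IH) (Lpn (LP (LK LD1_c13 LD2_c57 LD3_c59))))))
theorem f757245 : Led Lsl_at (LP (LK LD1_c22 LD2_c43 LD3_c7)) = (LP (LK LD1_c13 LD2_c57 LD3_c26)) :=
  Lgr Lrot67 (Lpe (K47.f607800 IH) (Lpe (f756901 IH) (Lpe (f552956 IH) (Lpr_af (f757243 IH) (Lpe (f463158 IH) (Lpn (LP (LK LD1_c13 LD2_c57 LD3_c26))))))))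
theorem f469393 : Led Lsl_et (LP (LK LD1_c13 LD2_c24 LD3_c48)) = (LP (LK LD1_c14 LD2_c6 LD3_c46)) :=
  Lgr Lrot87 (Lpr_ef (K34.f469388 IH) (Lpn (LP (LK LD1_c14 LD2_c6 LD3_c46))))
theorem f469395 : Led Lsl_gt (LP (LK LD1_c22 LD2_c43 LD3_c6)) = (LP (LK LD1_c13 LD2_c57 LD3_c26)) :=
  Lgr Lrot112 (Lpe (K28.f466342 IH) (Lpr_et (f469393 IH) (Lpe (K28.f123766 IH) (Lpe (K28.f123942 IH) (Lpe (K28.f463099 IH) (Lpe (K28.f463094 IH) (Lpe (K28.f463092 IH) (Lpe (K29.f463107 IH) (Lpe (K35.f463108 IH) (Lpr_dt (f463156 IH) (Lpn (LP (LK LD1_c13 LD2_c57 LD3_c26)))))))))))))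
theorem f464730 : Led Lsl_gt (LP (LK LD1_c7 LD2_c22 LD3_c54)) = (LP (LK LD1_c13 LD2_c57 LD3_c25)) :=
  Lre_g IH (LK LD1_c7 LD2_c22 LD3_c54) (LK LD1_c13 LD2_c57 LD3_c25) Lrfl Lrfl
theorem f466373 : Led Lsl_gt (LP (LK LD1_c13 LD2_c57 LD3_c25)) = (LP (LK LD1_c22 LD2_c43 LD3_c6)) :=
  Lgr Lrot46 (Lpe (f464730 IH) (Lpr_ft (K28.f466352 IH) (Lpr_at (K39.f466359 IH) (Lpn (LP (LK LD1_c22 LD2_c43 LD3_c6))))))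
theorem f757251 : Led Lsl_ff (LP (LK LD1_c22 LD2_c43 LD3_c7)) = (LP (LK LD1_c13 LD2_c57 LD3_c25)) :=
  Lgr Lrot52 (Lpr_at (f757245 IH) (Lpe (f469395 IH) (Lpe (f466373 IH) (Lpn (LP (LK LD1_c13 LD2_c57 LD3_c25))))))
theorem f757255 : Led Lsl_ft (LP (LK LD1_c22 LD2_c43 LD3_c7)) = (LP (LK LD1_c13 LD2_c57 LD3_c25)) :=
  Lgr Lrot48 (Lpr_ff (f757251 IH) (Lpn (LP (LK LD1_c13 LD2_c57 LD3_c25))))
theorem f757247 : Led Lsl_af (LP (LK LD1_c22 LD2_c43 LD3_c7)) = (LP (LK LD1_c13 LD2_c57 LD3_c26)) :=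
  Lgr Lrot0 (Lpr_at (f757245 IH) (Lpn (LP (LK LD1_c13 LD2_c57 LD3_c26))))
theorem f757233 : Led Lsl_ft (LP (LK LD1_c22 LD2_c43 LD3_c8)) = (LP (LK LD1_c13 LD2_c57 LD3_c26)) :=
  Lgr Lrot75 (Lpr_bf (K37.f533725 IH) (Lpr_ff (f757229 IH) (Lpe (f463158 IH) (Lpn (LP (LK LD1_c13 LD2_c57 LD3_c26))))))
theorem f757257 : Led Lsl_af (LP (LK LD1_c22 LD2_c43 LD3_c8)) = (LP (LK LD1_c13 LD2_c57 LD3_c25)) :=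
  Lgr Lrot45 (Lpr_ft (f757233 IH) (Lpe (f757247 IH) (Lpr_ft (f757255 IH) (Lpn (LP (LK LD1_c13 LD2_c57 LD3_c25))))))
theorem f558917 : Led Lsl_ct (LP (LK LD1_c23 LD2_c41 LD3_c58)) = (LP (LK LD1_c23 LD2_c22 LD3_c55)) :=
  Lgr Lrot59 (Lpr_cf (K40.f558915 IH) (Lpn (LP (LK LD1_c23 LD2_c22 LD3_c55))))
theorem f607597 : Led Lsl_gf (LP (LK LD1_c23 LD2_c41 LD3_c58)) = (LP (LK LD1_c30 LD2_c40 LD3_c3)) :=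
  Lgr Lrot104 (Lpr_ct (f558917 IH) (Lpe (K40.f462656 IH) (Lpr_cf (K40.f471287 IH) (Lpr_gf (K48.f607591 IH) (Lpe (K48.f464678 IH) (Lpr_gf (K48.f521986 IH) (Lpe (K39.f535057 IH) (Lpe (K55.f469447 IH) (Lpe (K55.f560314 IH) (Lpn (LP (LK LD1_c30 LD2_c40 LD3_c3))))))))))))
theorem f607579 : Led Lsl_bt (LP (LK LD1_c23 LD2_c22 LD3_c55)) = (LP (LK LD1_c21 LD2_c14 LD3_c34)) :=
  Lgr Lrot127 (Lpr_bf (K47.f607577 IH) (Lpn (LP (LK LD1_c21 LD2_c14 LD3_c34))))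
theorem f607610 : Led Lsl_bt (LP (LK LD1_c21 LD2_c14 LD3_c15)) = (LP (LK LD1_c13 LD2_c57 LD3_c25)) :=
  Lgr Lrot22 (Lpe (K39.f560407 IH) (Lpe (K39.f205647 IH) (Lpe (K39.f75765 IH) (Lpe (K47.f205641 IH) (Lpe (f607579 IH) (Lpe (K40.f558915 IH) (Lpr_gf (f607597 IH) (Lpr_cf (K55.f560314 IH) (Lpr_bt (K28.f469494 IH) (Lpe (f466373 IH) (Lpn (LP (LK LD1_c13 LD2_c57 LD3_c25)))))))))))))
theorem f607614 : Led Lsl_df (LP (LK LD1_c14 LD2_c55 LD3_c0)) = (LP (LK LD1_c13 LD2_c57 LD3_c25)) :=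
  Lgr Lrot12 (Lpe (f607601 IH) (Lpr_dt (K46.f543472 IH) (Lpr_bt (f607610 IH) (Lpn (LP (LK LD1_c13 LD2_c57 LD3_c25))))))
theorem f607617 : Led Lsl_dt (LP (LK LD1_c14 LD2_c55 LD3_c0)) = (LP (LK LD1_c13 LD2_c57 LD3_c25)) :=
  Lgr Lrot42 (Lpr_df (f607614 IH) (Lpn (LP (LK LD1_c13 LD2_c57 LD3_c25))))
theorem f757259 : Led Lsl_at (LP (LK LD1_c14 LD2_c55 LD3_c8)) = (LP (LK LD1_c14 LD2_c55 LD3_c0)) :=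
  Lgr Lrot51 (Lpr_df (f657724 IH) (Lpr_af (f757257 IH) (Lpe (f607617 IH) (Lpn (LP (LK LD1_c14 LD2_c55 LD3_c0))))))
theorem f472102 : Led Lsl_at (LP (LK LD1_c23 LD2_c58 LD3_c16)) = (LP (LK LD1_c14 LD2_c20 LD3_c28)) :=
  Lre_a IH (LK LD1_c23 LD2_c58 LD3_c16) (LK LD1_c14 LD2_c20 LD3_c28) Lrfl Lrfl
theorem f658745 : Led Lsl_ff (LP (LK LD1_c23 LD2_c58 LD3_c16)) = (LP (LK LD1_c24 LD2_c42 LD3_c24)) :=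
  Lgr Lrot52 (Lpr_at (f472102 IH) (Lpe (f472104 IH) (Lpr_gf (f658742 IH) (Lpn (LP (LK LD1_c24 LD2_c42 LD3_c24))))))
theorem f658755 : Led Lsl_ft (LP (LK LD1_c23 LD2_c58 LD3_c16)) = (LP (LK LD1_c24 LD2_c42 LD3_c24)) :=
  Lgr Lrot48 (Lpr_ff (f658745 IH) (Lpn (LP (LK LD1_c24 LD2_c42 LD3_c24))))
theorem f472098 : Led Lsl_at (LP (LK LD1_c14 LD2_c20 LD3_c28)) = (LP (LK LD1_c23 LD2_c58 LD3_c16)) :=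
  Lre_a IH (LK LD1_c14 LD2_c20 LD3_c28) (LK LD1_c23 LD2_c58 LD3_c16) Lrfl Lrfl
theorem f472106 : Led Lsl_ft (LP (LK LD1_c23 LD2_c58 LD3_c22)) = (LP (LK LD1_c14 LD2_c20 LD3_c28)) :=
  Lre_f IH (LK LD1_c23 LD2_c58 LD3_c22) (LK LD1_c14 LD2_c20 LD3_c28) Lrfl Lrfl
theorem f658757 : Led Lsl_af (LP (LK LD1_c23 LD2_c58 LD3_c22)) = (LP (LK LD1_c24 LD2_c42 LD3_c24)) :=
  Lgr Lrot45 (Lpr_ft (f472106 IH) (Lpr_at (f472098 IH) (Lpr_ft (f658755 IH) (Lpn (LP (LK LD1_c24 LD2_c42 LD3_c24))))))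
theorem f757261 : Led Lsl_cf (LP (LK LD1_c14 LD2_c55 LD3_c8)) = (LP (LK LD1_c23 LD2_c58 LD3_c22)) :=
  Lgr Lrot1 (Lpr_at (f757259 IH) (Lpr_ct (K48.f464667 IH) (Lpe (f658757 IH) (Lpn (LP (LK LD1_c23 LD2_c58 LD3_c22))))))
theorem f464043 : Led Lsl_bt (LP (LK LD1_c7 LD2_c47 LD3_c40)) = (LP (LK LD1_c3 LD2_c52 LD3_c55)) :=
  Lre_b IH (LK LD1_c7 LD2_c47 LD3_c40) (LK LD1_c3 LD2_c52 LD3_c55) Lrfl Lrfl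
theorem f443512 : Led Lsl_bt (LP (LK LD1_c3 LD2_c49 LD3_c46)) = (LP (LK LD1_c7 LD2_c40 LD3_c26)) :=
  Lre_b IH (LK LD1_c3 LD2_c49 LD3_c46) (LK LD1_c7 LD2_c40 LD3_c26) Lrfl Lrfl
theorem f658759 : Led Lsl_bt (LP (LK LD1_c23 LD2_c58 LD3_c22)) = (LP (LK LD1_c14 LD2_c20 LD3_c32)) :=
  Lre_b IH (LK LD1_c23 LD2_c58 LD3_c22) (LK LD1_c14 LD2_c20 LD3_c32) Lrfl Lrfl
theorem f757553 : Led Lsl_gt (LP (LK LD1_c7 LD2_c40 LD3_c26)) = (LP (LK LD1_c14 LD2_c20 LD3_c32)) :=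
  Lgr Lrot164 (Lpe (f443512 IH) (Lpr_ct (K47.f443501 IH) (Lpr_gf (K29.f477236 IH) (Lpe (K24.f62780 IH) (Lpe (K29.f62793 IH) (Lpe (f464043 IH) (Lpe (K40.f474026 IH) (Lpe (f474032 IH) (Lpr_cf (f757261 IH) (Lpr_bt (f658759 IH) (Lpn (LP (LK LD1_c14 LD2_c20 LD3_c32)))))))))))))
theorem f757227 : Led Lsl_ff (LP (LK LD1_c14 LD2_c55 LD3_c8)) = (LP (LK LD1_c14 LD2_c54 LD3_c13)) :=
  Lgr Lrot25 (Lpr_bt (f657742 IH) (Lpr_ft (f757223 IH) (Lpr_bt (K35.f534570 IH) (Lpn (LP (LK LD1_c14 LD2_c54 LD3_c13))))))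
theorem f489358 : Led Lsl_et (LP (LK LD1_c7 LD2_c51 LD3_c38)) = (LP (LK LD1_c14 LD2_c49 LD3_c35)) :=
  Lre_e IH (LK LD1_c7 LD2_c51 LD3_c38) (LK LD1_c14 LD2_c49 LD3_c35) Lrfl Lrfl
theorem f607788 : Led Lsl_bf (LP (LK LD1_c14 LD2_c47 LD3_c25)) = (LP (LK LD1_c14 LD2_c49 LD3_c35)) :=
  Lgr Lrot96 (Lpr_et (K46.f607762 IH) (Lpr_bt (K41.f121204 IH) (Lpr_et (f489358 IH) (Lpn (LP (LK LD1_c14 LD2_c49 LD3_c35))))))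
theorem f756911 : Led Lsl_ft (LP (LK LD1_c14 LD2_c55 LD3_c0)) = (LP (LK LD1_c14 LD2_c49 LD3_c35)) :=
  Lgr Lrot75 (Lpe (K48.f607599 IH) (Lpr_ff (f756909 IH) (Lpr_bf (f607788 IH) (Lpn (LP (LK LD1_c14 LD2_c49 LD3_c35))))))
theorem f757263 : Led Lsl_af (LP (LK LD1_c14 LD2_c54 LD3_c13)) = (LP (LK LD1_c14 LD2_c49 LD3_c35)) :=
  Lgr Lrot45 (Lpe (f757227 IH) (Lpr_at (f757259 IH) (Lpr_ft (f756911 IH) (Lpn (LP (LK LD1_c14 LD2_c49 LD3_c35))))))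
theorem f757267 : Led Lsl_at (LP (LK LD1_c7 LD2_c54 LD3_c5)) = (LP (LK LD1_c7 LD2_c51 LD3_c38)) :=
  Lgr Lrot80 (Lpe (K35.f463108 IH) (Lpr_af (f757263 IH) (Lpe (f489358 IH) (Lpn (LP (LK LD1_c7 LD2_c51 LD3_c38))))))
theorem f757275 : Led Lsl_ff (LP (LK LD1_c7 LD2_c54 LD3_c5)) = (LP (LK LD1_c7 LD2_c51 LD3_c39)) :=
  Lgr Lrot52 (Lpr_at (f757267 IH) (Lpe (K41.f121120 IH) (Lpe (K28.f121118 IH) (Lpn (LP (LK LD1_c7 LD2_c51 LD3_c39))))))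
theorem f757281 : Led Lsl_ft (LP (LK LD1_c7 LD2_c54 LD3_c5)) = (LP (LK LD1_c7 LD2_c51 LD3_c39)) :=
  Lgr Lrot48 (Lpr_ff (f757275 IH) (Lpn (LP (LK LD1_c7 LD2_c51 LD3_c39))))
theorem f463123 : Led Lsl_gt (LP (LK LD1_c3 LD2_c56 LD3_c13)) = (LP (LK LD1_c7 LD2_c54 LD3_c4)) :=
  Lre_g IH (LK LD1_c3 LD2_c56 LD3_c13) (LK LD1_c7 LD2_c54 LD3_c4) Lrfl Lrfl
theorem f757287 : Led Lsl_af (LP (LK LD1_c7 LD2_c54 LD3_c4)) = (LP (LK LD1_c7 LD2_c51 LD3_c39)) :=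
  Lgr Lrot31 (Lpe (f463123 IH) (Lpe (K29.f463107 IH) (Lpr_ft (f757281 IH) (Lpn (LP (LK LD1_c7 LD2_c51 LD3_c39))))))
theorem f757269 : Led Lsl_af (LP (LK LD1_c7 LD2_c54 LD3_c5)) = (LP (LK LD1_c7 LD2_c51 LD3_c38)) :=
  Lgr Lrot0 (Lpr_at (f757267 IH) (Lpn (LP (LK LD1_c7 LD2_c51 LD3_c38))))
theorem f757295 : Led Lsl_ft (LP (LK LD1_c7 LD2_c54 LD3_c4)) = (LP (LK LD1_c7 LD2_c51 LD3_c38)) :=
  Lgr Lrot101 (Lpr_af (f757287 IH) (Lpe (f757281 IH) (Lpr_af (f757269 IH) (Lpn (LP (LK LD1_c7 LD2_c51 LD3_c38))))))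
theorem f757301 : Led Lsl_ff (LP (LK LD1_c7 LD2_c54 LD3_c4)) = (LP (LK LD1_c7 LD2_c51 LD3_c38)) :=
  Lgr Lrot3 (Lpr_ft (f757295 IH) (Lpn (LP (LK LD1_c7 LD2_c51 LD3_c38))))
theorem f463176 : Led Lsl_ct (LP (LK LD1_c7 LD2_c54 LD3_c4)) = (LP (LK LD1_c14 LD2_c54 LD3_c10)) :=
  Lre_c IH (LK LD1_c7 LD2_c54 LD3_c4) (LK LD1_c14 LD2_c54 LD3_c10) Lrfl Lrfl
theorem f472095 : Led Lsl_dt (LP (LK LD1_c23 LD2_c58 LD3_c14)) = (LP (LK LD1_c14 LD2_c20 LD3_c25)) :=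
  Lre_d IH (LK LD1_c23 LD2_c58 LD3_c14) (LK LD1_c14 LD2_c20 LD3_c25) Lrfl Lrfl
theorem f123493 : Led Lsl_dt (LP (LK LD1_c7 LD2_c40 LD3_c53)) = (LP (LK LD1_c14 LD2_c28 LD3_c52)) :=
  Lre_d IH (LK LD1_c7 LD2_c40 LD3_c53) (LK LD1_c14 LD2_c28 LD3_c52) Lrfl Lrfl
theorem f533905 : Led Lsl_ft (LP (LK LD1_c14 LD2_c20 LD3_c25)) = (LP (LK LD1_c7 LD2_c40 LD3_c53)) :=
  Lgr Lrot54 (Lpe (f472095 IH) (Lpr_ff (K37.f533901 IH) (Lpe (f123493 IH) (Lpn (LP (LK LD1_c7 LD2_c40 LD3_c53))))))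
theorem f463114 : Led Lsl_bt (LP (LK LD1_c1 LD2_c54 LD3_c51)) = (LP (LK LD1_c3 LD2_c56 LD3_c13)) :=
  Lre_b IH (LK LD1_c1 LD2_c54 LD3_c51) (LK LD1_c3 LD2_c56 LD3_c13) Lrfl Lrfl
theorem f465521 : Led Lsl_bf (LP (LK LD1_c7 LD2_c54 LD3_c4)) = (LP (LK LD1_c7 LD2_c51 LD3_c48)) :=
  Lgr Lrot34 (Lpe (f463123 IH) (Lpe (f463114 IH) (Lpr_ct (K33.f451258 IH) (Lpe (K28.f464425 IH) (Lpr_cf (K28.f462800 IH) (Lpe (K28.f26210 IH) (Lpe (K29.f26205 IH) (Lpe (K8.f108044 IH) (Lpe (K29.f108051 IH) (Lpr_cf (K29.f465509 IH) (Lpn (LP (LK LD1_c7 LD2_c51 LD3_c48)))))))))))))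
theorem f465523 : Led Lsl_bt (LP (LK LD1_c7 LD2_c54 LD3_c4)) = (LP (LK LD1_c7 LD2_c51 LD3_c48)) :=
  Lgr Lrot127 (Lpr_bf (f465521 IH) (Lpn (LP (LK LD1_c7 LD2_c51 LD3_c48))))
theorem f533892 : Led Lsl_gt (LP (LK LD1_c14 LD2_c20 LD3_c25)) = (LP (LK LD1_c14 LD2_c54 LD3_c10)) :=
  Lgr Lrot149 (Lpr_cf (K37.f533884 IH) (Lpe (K37.f122585 IH) (Lpe (K29.f471738 IH) (Lpe (K29.f471728 IH) (Lpe (K29.f11672 IH) (Lpe (K8.f11652 IH) (Lpr_bt (K39.f11678 IH) (Lpe (K29.f11681 IH) (Lpe (f465523 IH) (Lpr_ct (f463176 IH) (Lpn (LP (LK LD1_c14 LD2_c54 LD3_c10)))))))))))))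
theorem f534523 : Led Lsl_gt (LP (LK LD1_c14 LD2_c54 LD3_c10)) = (LP (LK LD1_c14 LD2_c19 LD3_c20)) :=
  Lgr Lrot46 (Lpe (f533892 IH) (Lpr_ft (f533905 IH) (Lpe (K35.f204016 IH) (Lpn (LP (LK LD1_c14 LD2_c19 LD3_c20))))))
theorem f471247 : Led Lsl_at (LP (LK LD1_c14 LD2_c20 LD3_c26)) = (LP (LK LD1_c7 LD2_c36 LD3_c24)) :=
  Lre_a IH (LK LD1_c14 LD2_c20 LD3_c26) (LK LD1_c7 LD2_c36 LD3_c24) Lrfl Lrfl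
theorem f534525 : Led Lsl_ft (LP (LK LD1_c14 LD2_c54 LD3_c10)) = (LP (LK LD1_c14 LD2_c20 LD3_c26)) :=
  Lgr Lrot2 (Lpr_gt (f534523 IH) (Lpe (K35.f532827 IH) (Lpe (f471247 IH) (Lpn (LP (LK LD1_c14 LD2_c20 LD3_c26))))))
theorem f757305 : Led Lsl_ct (LP (LK LD1_c14 LD2_c20 LD3_c26)) = (LP (LK LD1_c7 LD2_c51 LD3_c38)) :=
  Lgr Lrot40 (Lpe (f534525 IH) (Lpe (f463176 IH) (Lpr_ff (f757301 IH) (Lpn (LP (LK LD1_c7 LD2_c51 LD3_c38))))))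
theorem f88008 : Led Lsl_bt (LP (LK LD1_c1 LD2_c53 LD3_c11)) = (LP (LK LD1_c0 LD2_c53 LD3_c10)) :=
  Lre_b IH (LK LD1_c1 LD2_c53 LD3_c11) (LK LD1_c0 LD2_c53 LD3_c10) Lrfl Lrfl
theorem f88013 : Led Lsl_ct (LP (LK LD1_c1 LD2_c53 LD3_c11)) = (LP (LK LD1_c3 LD2_c53 LD3_c4)) :=
  Lre_c IH (LK LD1_c1 LD2_c53 LD3_c11) (LK LD1_c3 LD2_c53 LD3_c4) Lrfl Lrfl
theorem f757327 : Led Lsl_bt (LP (LK LD1_c14 LD2_c20 LD3_c26)) = (LP (LK LD1_c13 LD2_c30 LD3_c27)) :=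
  Lgr Lrot130 (Lpr_ct (f757305 IH) (Lpe (K41.f121120 IH) (Lpr_cf (K28.f129548 IH) (Lpr_bt (K28.f88017 IH) (Lpe (K5.f87982 IH) (Lpe (f88008 IH) (Lpr_ct (f88013 IH) (Lpe (K41.f88014 IH) (Lpe (K41.f493270 IH) (Lpr_gf (K46.f493279 IH) (Lpn (LP (LK LD1_c13 LD2_c30 LD3_c27)))))))))))))
theorem f470936 : Led Lsl_at (LP (LK LD1_c14 LD2_c20 LD3_c34)) = (LP (LK LD1_c7 LD2_c36 LD3_c28)) :=
  Lre_a IH (LK LD1_c14 LD2_c20 LD3_c34) (LK LD1_c7 LD2_c36 LD3_c28) Lrfl Lrfl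
theorem f493281 : Led Lsl_ff (LP (LK LD1_c14 LD2_c20 LD3_c34)) = (LP (LK LD1_c13 LD2_c30 LD3_c27)) :=
  Lgr Lrot52 (Lpr_at (f470936 IH) (Lpe (K41.f470930 IH) (Lpr_gf (K46.f493279 IH) (Lpn (LP (LK LD1_c13 LD2_c30 LD3_c27))))))
theorem f757333 : Led Lsl_bf (LP (LK LD1_c14 LD2_c54 LD3_c10)) = (LP (LK LD1_c14 LD2_c20 LD3_c34)) :=
  Lgr Lrot61 (Lpr_ft (f534525 IH) (Lpr_bt (f757327 IH) (Lpe (f493281 IH) (Lpn (LP (LK LD1_c14 LD2_c20 LD3_c34))))))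
theorem f757291 : Led Lsl_at (LP (LK LD1_c14 LD2_c54 LD3_c10)) = (LP (LK LD1_c14 LD2_c19 LD3_c58)) :=
  Lgr Lrot107 (Lpe (f463176 IH) (Lpr_af (f757287 IH) (Lpr_cf (K28.f463718 IH) (Lpn (LP (LK LD1_c14 LD2_c19 LD3_c58))))))
theorem f470988 : Led Lsl_at (LP (LK LD1_c7 LD2_c36 LD3_c28)) = (LP (LK LD1_c14 LD2_c20 LD3_c34)) :=
  Lre_a IH (LK LD1_c7 LD2_c36 LD3_c28) (LK LD1_c14 LD2_c20 LD3_c34) Lrfl Lrfl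
theorem f470937 : Led Lsl_bt (LP (LK LD1_c3 LD2_c47 LD3_c44)) = (LP (LK LD1_c7 LD2_c36 LD3_c28)) :=
  Lre_b IH (LK LD1_c3 LD2_c47 LD3_c44) (LK LD1_c7 LD2_c36 LD3_c28) Lrfl Lrfl
def v7438 : LQ := Led Lsl_ft (LP (LK LD1_c3 LD2_c47 LD3_c43))
theorem f665555 : Led Lsl_ft (LP (LK LD1_c3 LD2_c47 LD3_c43)) = v7438 :=
  Lrfl
def v7437 : LQ := Led Lsl_at (LP (LK LD1_c3 LD2_c47 LD3_c43))
theorem f665550 : Led Lsl_at (LP (LK LD1_c3 LD2_c47 LD3_c43)) = v7437 :=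
  Lrfl
theorem f665551 : Led Lsl_af (LP (LK LD1_c3 LD2_c47 LD3_c43)) = v7437 :=
  Lgr Lrot0 (Lpr_at (f665550 IH) (Lpn v7437))
theorem f665552 : Led Lsl_ft (LP (LK LD1_c3 LD2_c47 LD3_c44)) = v7437 :=
  Lgr Lrot2 (Lpr_gt (K29.f14963 IH) (Lpr_gt (K7.f14960 IH) (Lpr_af (f665551 IH) (Lpn v7437))))
theorem f665556 : Led Lsl_af (LP (LK LD1_c3 LD2_c47 LD3_c44)) = v7438 :=
  Lgr Lrot45 (Lpr_ft (f665552 IH) (Lpe (f665551 IH) (Lpr_ft (f665555 IH) (Lpn v7438))))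
theorem f757341 : (LP (LK LD1_c7 LD2_c36 LD3_c7)) = v7438 :=
  (Llr Lrot62 (Lpe (K28.f14806 IH) (Lpe (f757291 IH) (Lpr_bf (f757333 IH) (Lpe (f470988 IH) (Lpe (f470937 IH) (Lpr_af (f665556 IH) (Lpn v7438)))))))).symm
theorem f665558 : Led Lsl_ff (LP (LK LD1_c3 LD2_c47 LD3_c43)) = v7438 :=
  Lgr Lrot3 (Lpr_ft (f665555 IH) (Lpn v7438))
theorem f757346 : v7437 = (LP (LK LD1_c7 LD2_c36 LD3_c6)) :=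
  (Llr Lrot26 (Lpe (f665550 IH) (Lpr_ff (f665558 IH) (Lpq (f757341 IH) (Lpr_gt (K28.f14800 IH) (Lpr_gt (K28.f14798 IH) (Lpn (LP (LK LD1_c7 LD2_c36 LD3_c6))))))))).symm
theorem f757353 : Led Lsl_ff (LP (LK LD1_c7 LD2_c36 LD3_c29)) = (LP (LK LD1_c14 LD2_c19 LD3_c56)) :=
  Lgr Lrot23 (Lpr_ct (K29.f14841 IH) (Lpr_ft (f665552 IH) (Lpqs (f757346 IH) (Lpr_ct (K41.f14801 IH) (Lpn (LP (LK LD1_c14 LD2_c19 LD3_c56)))))))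
theorem f757357 : Led Lsl_ft (LP (LK LD1_c7 LD2_c36 LD3_c29)) = (LP (LK LD1_c14 LD2_c19 LD3_c56)) :=
  Lgr Lrot48 (Lpr_ff (f757353 IH) (Lpn (LP (LK LD1_c14 LD2_c19 LD3_c56))))
theorem f757359 : Led Lsl_ff (LP (LK LD1_c7 LD2_c47 LD3_c9)) = (LP (LK LD1_c13 LD2_c29 LD3_c60)) :=
  Lgr Lrot25 (Lpe (K41.f471263 IH) (Lpr_ft (f757357 IH) (Lpe (K28.f463713 IH) (Lpn (LP (LK LD1_c13 LD2_c29 LD3_c60))))))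
theorem f757365 : Led Lsl_at (LP (LK LD1_c7 LD2_c47 LD3_c9)) = (LP (LK LD1_c13 LD2_c29 LD3_c61)) :=
  Lgr Lrot26 (Lpr_ff (f757359 IH) (Lpr_gt (K28.f460305 IH) (Lpe (K47.f460318 IH) (Lpn (LP (LK LD1_c13 LD2_c29 LD3_c61))))))
theorem f460301 : Led Lsl_dt (LP (LK LD1_c14 LD2_c41 LD3_c28)) = (LP (LK LD1_c7 LD2_c47 LD3_c9)) :=
  Lre_d IH (LK LD1_c14 LD2_c41 LD3_c28) (LK LD1_c7 LD2_c47 LD3_c9) Lrfl Lrfl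
theorem f460355 : Led Lsl_dt (LP (LK LD1_c13 LD2_c29 LD3_c61)) = (LP (LK LD1_c22 LD2_c50 LD3_c47)) :=
  Lre_d IH (LK LD1_c13 LD2_c29 LD3_c61) (LK LD1_c22 LD2_c50 LD3_c47) Lrfl Lrfl
theorem f757371 : Led Lsl_af (LP (LK LD1_c14 LD2_c41 LD3_c28)) = (LP (LK LD1_c22 LD2_c50 LD3_c47)) :=
  Lgr Lrot117 (Lpr_dt (f460301 IH) (Lpr_at (f757365 IH) (Lpr_dt (f460355 IH) (Lpn (LP (LK LD1_c22 LD2_c50 LD3_c47))))))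
theorem f511881 : Led Lsl_gt (LP (LK LD1_c14 LD2_c42 LD3_c2)) = (LP (LK LD1_c24 LD2_c26 LD3_c59)) :=
  Lre_g IH (LK LD1_c14 LD2_c42 LD3_c2) (LK LD1_c24 LD2_c26 LD3_c59) Lrfl Lrfl
theorem f531022 : Led Lsl_bt (LP (LK LD1_c3 LD2_c51 LD3_c6)) = (LP (LK LD1_c7 LD2_c43 LD3_c30)) :=
  Lre_b IH (LK LD1_c3 LD2_c51 LD3_c6) (LK LD1_c7 LD2_c43 LD3_c30) Lrfl Lrfl
theorem f530944 : Led Lsl_bt (LP (LK LD1_c14 LD2_c32 LD3_c41)) = (LP (LK LD1_c7 LD2_c42 LD3_c60)) :=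
  Lre_b IH (LK LD1_c14 LD2_c32 LD3_c41) (LK LD1_c7 LD2_c42 LD3_c60) Lrfl Lrfl
theorem f531023 : Led Lsl_ft (LP (LK LD1_c7 LD2_c43 LD3_c30)) = (LP (LK LD1_c14 LD2_c32 LD3_c41)) :=
  Lgr Lrot75 (Lpe (f531022 IH) (Lpr_ff (K47.f531020 IH) (Lpe (f530944 IH) (Lpn (LP (LK LD1_c14 LD2_c32 LD3_c41))))))
theorem f471959 : Led Lsl_ct (LP (LK LD1_c14 LD2_c33 LD3_c49)) = (LP (LK LD1_c7 LD2_c43 LD3_c30)) :=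
  Lre_c IH (LK LD1_c14 LD2_c33 LD3_c49) (LK LD1_c7 LD2_c43 LD3_c30) Lrfl Lrfl
theorem f475299 : Led Lsl_ct (LP (LK LD1_c14 LD2_c32 LD3_c41)) = (LP (LK LD1_c24 LD2_c15 LD3_c3)) :=
  Lre_c IH (LK LD1_c14 LD2_c32 LD3_c41) (LK LD1_c24 LD2_c15 LD3_c3) Lrfl Lrfl
theorem f531054 : Led Lsl_ff (LP (LK LD1_c14 LD2_c33 LD3_c49)) = (LP (LK LD1_c24 LD2_c15 LD3_c3)) :=
  Lgr Lrot23 (Lpr_ct (f471959 IH) (Lpr_ft (f531023 IH) (Lpr_ct (f475299 IH) (Lpn (LP (LK LD1_c24 LD2_c15 LD3_c3))))))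
theorem f531059 : Led Lsl_ft (LP (LK LD1_c14 LD2_c33 LD3_c49)) = (LP (LK LD1_c24 LD2_c15 LD3_c3)) :=
  Lgr Lrot48 (Lpr_ff (f531054 IH) (Lpn (LP (LK LD1_c24 LD2_c15 LD3_c3))))
theorem f534650 : Led Lsl_af (LP (LK LD1_c24 LD2_c26 LD3_c59)) = (LP (LK LD1_c24 LD2_c15 LD3_c3)) :=
  Lgr Lrot31 (Lpe (f511881 IH) (Lpr_gf (K47.f534646 IH) (Lpr_ft (f531059 IH) (Lpn (LP (LK LD1_c24 LD2_c15 LD3_c3))))))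
theorem f472007 : Led Lsl_at (LP (LK LD1_c24 LD2_c16 LD3_c14)) = (LP (LK LD1_c14 LD2_c33 LD3_c49)) :=
  Lre_a IH (LK LD1_c24 LD2_c16 LD3_c14) (LK LD1_c14 LD2_c33 LD3_c49) Lrfl Lrfl
theorem f534655 : Led Lsl_ft (LP (LK LD1_c24 LD2_c26 LD3_c59)) = (LP (LK LD1_c24 LD2_c16 LD3_c14)) :=
  Lgr Lrot101 (Lpr_af (f534650 IH) (Lpe (f531059 IH) (Lpe (f472007 IH) (Lpn (LP (LK LD1_c24 LD2_c16 LD3_c14))))))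
theorem f471969 : Led Lsl_gt (LP (LK LD1_c24 LD2_c16 LD3_c17)) = (LP (LK LD1_c14 LD2_c33 LD3_c49)) :=
  Lre_g IH (LK LD1_c24 LD2_c16 LD3_c17) (LK LD1_c14 LD2_c33 LD3_c49) Lrfl Lrfl
theorem f534659 : Led Lsl_gt (LP (LK LD1_c24 LD2_c26 LD3_c59)) = (LP (LK LD1_c24 LD2_c16 LD3_c17)) :=
  Lgr Lrot5 (Lpr_ft (f534655 IH) (Lpr_at (f472007 IH) (Lpe (f471969 IH) (Lpn (LP (LK LD1_c24 LD2_c16 LD3_c17))))))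
theorem f460028 : Led Lsl_dt (LP (LK LD1_c14 LD2_c17 LD3_c15)) = (LP (LK LD1_c14 LD2_c42 LD3_c1)) :=
  Lgr Lrot42 (Lpr_df (K47.f460012 IH) (Lpn (LP (LK LD1_c14 LD2_c42 LD3_c1))))
theorem f521042 : Led Lsl_ff (LP (LK LD1_c24 LD2_c0 LD3_c2)) = (LP (LK LD1_c14 LD2_c42 LD3_c1)) :=
  Lgr Lrot19 (Lpe (K34.f477692 IH) (Lpr_ft (K47.f521038 IH) (Lpr_dt (f460028 IH) (Lpn (LP (LK LD1_c14 LD2_c42 LD3_c1))))))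
theorem f477689 : Led Lsl_at (LP (LK LD1_c24 LD2_c0 LD3_c2)) = (LP (LK LD1_c14 LD2_c21 LD3_c60)) :=
  Lre_a IH (LK LD1_c24 LD2_c0 LD3_c2) (LK LD1_c14 LD2_c21 LD3_c60) Lrfl Lrfl
theorem f521046 : Led Lsl_ft (LP (LK LD1_c14 LD2_c21 LD3_c60)) = (LP (LK LD1_c7 LD2_c47 LD3_c27)) :=
  Lgr Lrot101 (Lpe (f477689 IH) (Lpr_ff (f521042 IH) (Lpe (K47.f460011 IH) (Lpn (LP (LK LD1_c7 LD2_c47 LD3_c27))))))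
theorem f464129 : Led Lsl_ct (LP (LK LD1_c24 LD2_c0 LD3_c3)) = (LP (LK LD1_c14 LD2_c21 LD3_c60)) :=
  Lre_c IH (LK LD1_c24 LD2_c0 LD3_c3) (LK LD1_c14 LD2_c21 LD3_c60) Lrfl Lrfl
theorem f521050 : Led Lsl_ff (LP (LK LD1_c24 LD2_c0 LD3_c3)) = (LP (LK LD1_c14 LD2_c42 LD3_c2)) :=
  Lgr Lrot23 (Lpr_ct (f464129 IH) (Lpr_ft (f521046 IH) (Lpr_ct (K47.f460016 IH) (Lpn (LP (LK LD1_c14 LD2_c42 LD3_c2))))))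
theorem f534661 : Led Lsl_at (LP (LK LD1_c24 LD2_c0 LD3_c3)) = (LP (LK LD1_c24 LD2_c16 LD3_c17)) :=
  Lgr Lrot26 (Lpr_ff (f521050 IH) (Lpr_gt (f511881 IH) (Lpr_gt (f534659 IH) (Lpn (LP (LK LD1_c24 LD2_c16 LD3_c17))))))
theorem f468426 : Led Lsl_et (LP (LK LD1_c31 LD2_c18 LD3_c56)) = (LP (LK LD1_c24 LD2_c0 LD3_c3)) :=
  Lre_e IH (LK LD1_c31 LD2_c18 LD3_c56) (LK LD1_c24 LD2_c0 LD3_c3) Lrfl Lrfl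
theorem f534668 : Led Lsl_et (LP (LK LD1_c24 LD2_c16 LD3_c17)) = (LP (LK LD1_c31 LD2_c26 LD3_c60)) :=
  Lre_e IH (LK LD1_c24 LD2_c16 LD3_c17) (LK LD1_c31 LD2_c26 LD3_c60) Lrfl Lrfl
theorem f534669 : Led Lsl_af (LP (LK LD1_c31 LD2_c18 LD3_c56)) = (LP (LK LD1_c31 LD2_c26 LD3_c60)) :=
  Lgr Lrot50 (Lpr_et (f468426 IH) (Lpr_at (f534661 IH) (Lpr_et (f534668 IH) (Lpn (LP (LK LD1_c31 LD2_c26 LD3_c60))))))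
theorem f468420 : Led Lsl_ct (LP (LK LD1_c31 LD2_c18 LD3_c56)) = (LP (LK LD1_c24 LD2_c0 LD3_c4)) :=
  Lre_c IH (LK LD1_c31 LD2_c18 LD3_c56) (LK LD1_c24 LD2_c0 LD3_c4) Lrfl Lrfl
theorem f534673 : Led Lsl_ct (LP (LK LD1_c31 LD2_c18 LD3_c54)) = (LP (LK LD1_c31 LD2_c26 LD3_c60)) :=
  Lgr Lrot111 (Lpe (K34.f520907 IH) (Lpe (f468420 IH) (Lpr_af (f534669 IH) (Lpn (LP (LK LD1_c31 LD2_c26 LD3_c60))))))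
theorem f534675 : Led Lsl_cf (LP (LK LD1_c31 LD2_c18 LD3_c54)) = (LP (LK LD1_c31 LD2_c26 LD3_c60)) :=
  Lgr Lrot11 (Lpr_ct (f534673 IH) (Lpn (LP (LK LD1_c31 LD2_c26 LD3_c60))))
theorem f477697 : Led Lsl_et (LP (LK LD1_c31 LD2_c18 LD3_c54)) = (LP (LK LD1_c24 LD2_c0 LD3_c2)) :=
  Lre_e IH (LK LD1_c31 LD2_c18 LD3_c54) (LK LD1_c24 LD2_c0 LD3_c2) Lrfl Lrfl
theorem f534677 : Led Lsl_ct (LP (LK LD1_c24 LD2_c0 LD3_c2)) = (LP (LK LD1_c24 LD2_c16 LD3_c17)) :=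
  Lgr Lrot15 (Lpe (f477697 IH) (Lpr_cf (f534675 IH) (Lpe (f534668 IH) (Lpn (LP (LK LD1_c24 LD2_c16 LD3_c17))))))
theorem f471968 : Led Lsl_dt (LP (LK LD1_c3 LD2_c51 LD3_c5)) = (LP (LK LD1_c7 LD2_c43 LD3_c30)) :=
  Lre_d IH (LK LD1_c3 LD2_c51 LD3_c5) (LK LD1_c7 LD2_c43 LD3_c30) Lrfl Lrfl
theorem f471966 : Led Lsl_gf (LP (LK LD1_c7 LD2_c13 LD3_c51)) = (LP (LK LD1_c7 LD2_c7 LD3_c34)) :=
  Lgr Lrot129 (Lpr_cf (K41.f471954 IH) (Lpr_bt (K41.f14844 IH) (Lpr_gt (K2.f14843 IH) (Lpe (K7.f14814 IH) (Lpe (K8.f14791 IH) (Lpr_gt (K29.f14828 IH) (Lpe (K29.f14841 IH) (Lpr_bt (K29.f471261 IH) (Lpe (K29.f460297 IH) (Lpr_ct (K29.f129550 IH) (Lpn (LP (LK LD1_c7 LD2_c7 LD3_c34)))))))))))))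
theorem f534681 : Led Lsl_gf (LP (LK LD1_c24 LD2_c0 LD3_c2)) = (LP (LK LD1_c14 LD2_c41 LD3_c28)) :=
  Lgr Lrot147 (Lpr_ct (f534677 IH) (Lpr_gt (f471969 IH) (Lpr_ct (f471959 IH) (Lpe (f471968 IH) (Lpe (K41.f471933 IH) (Lpr_gf (f471966 IH) (Lpe (K29.f129550 IH) (Lpr_gf (K29.f460297 IH) (Lpe (f460301 IH) (Lpn (LP (LK LD1_c14 LD2_c41 LD3_c28))))))))))))
theorem f520645 : Led Lsl_ft (LP (LK LD1_c7 LD2_c47 LD3_c27)) = (LP (LK LD1_c14 LD2_c21 LD3_c60)) :=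
  Lgr Lrot75 (Lpe (K47.f459926 IH) (Lpr_ff (K33.f520563 IH) (Lpe (K34.f464128 IH) (Lpn (LP (LK LD1_c14 LD2_c21 LD3_c60))))))
theorem f534749 : Led Lsl_gt (LP (LK LD1_c7 LD2_c47 LD3_c27)) = (LP (LK LD1_c14 LD2_c41 LD3_c28)) :=
  Lgr Lrot5 (Lpr_ft (f520645 IH) (Lpr_at (K34.f477691 IH) (Lpr_gf (f534681 IH) (Lpn (LP (LK LD1_c14 LD2_c41 LD3_c28))))))
theorem f511789 : Led Lsl_dt (LP (LK LD1_c13 LD2_c52 LD3_c7)) = (LP (LK LD1_c7 LD2_c19 LD3_c53)) :=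
  Lre_d IH (LK LD1_c13 LD2_c52 LD3_c7) (LK LD1_c7 LD2_c19 LD3_c53) Lrfl Lrfl
theorem f460378 : Led Lsl_dt (LP (LK LD1_c7 LD2_c47 LD3_c10)) = (LP (LK LD1_c14 LD2_c41 LD3_c29)) :=
  Lre_d IH (LK LD1_c7 LD2_c47 LD3_c10) (LK LD1_c14 LD2_c41 LD3_c29) Lrfl Lrfl
theorem f511872 : Led Lsl_gf (LP (LK LD1_c7 LD2_c47 LD3_c27)) = (LP (LK LD1_c14 LD2_c41 LD3_c29)) :=
  Lgr Lrot143 (Lpe (K47.f459927 IH) (Lpe (K47.f511774 IH) (Lpe (f511789 IH) (Lpr_gf (K46.f511870 IH) (Lpe (K41.f98600 IH) (Lpr_gf (f471966 IH) (Lpe (K29.f129550 IH) (Lpr_gt (K41.f460376 IH) (Lpr_dt (f460378 IH) (Lpn (LP (LK LD1_c14 LD2_c41 LD3_c29))))))))))))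
theorem f757375 : Led Lsl_ft (LP (LK LD1_c14 LD2_c41 LD3_c29)) = (LP (LK LD1_c22 LD2_c50 LD3_c47)) :=
  Lgr Lrot2 (Lpe (f511872 IH) (Lpr_gt (f534749 IH) (Lpr_af (f757371 IH) (Lpn (LP (LK LD1_c22 LD2_c50 LD3_c47))))))
theorem f757381 : Led Lsl_ff (LP (LK LD1_c14 LD2_c41 LD3_c29)) = (LP (LK LD1_c22 LD2_c50 LD3_c47)) :=
  Lgr Lrot3 (Lpr_ft (f757375 IH) (Lpn (LP (LK LD1_c22 LD2_c50 LD3_c47))))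
theorem f460382 : Led Lsl_dt (LP (LK LD1_c14 LD2_c41 LD3_c29)) = (LP (LK LD1_c7 LD2_c47 LD3_c10)) :=
  Lre_d IH (LK LD1_c14 LD2_c41 LD3_c29) (LK LD1_c7 LD2_c47 LD3_c10) Lrfl Lrfl
theorem f757383 : Led Lsl_ft (LP (LK LD1_c7 LD2_c47 LD3_c10)) = (LP (LK LD1_c13 LD2_c29 LD3_c61)) :=
  Lgr Lrot54 (Lpe (f460382 IH) (Lpr_ff (f757381 IH) (Lpe (f460355 IH) (Lpn (LP (LK LD1_c13 LD2_c29 LD3_c61))))))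
theorem f457932 : Led Lsl_at (LP (LK LD1_c7 LD2_c36 LD3_c48)) = (LP (LK LD1_c3 LD2_c47 LD3_c51)) :=
  Lre_a IH (LK LD1_c7 LD2_c36 LD3_c48) (LK LD1_c3 LD2_c47 LD3_c51) Lrfl Lrfl
theorem f492477 : Led Lsl_ff (LP (LK LD1_c7 LD2_c36 LD3_c48)) = (LP (LK LD1_c3 LD2_c52 LD3_c5)) :=
  Lgr Lrot23 (Lpe (K34.f457929 IH) (Lpr_ft (K33.f492471 IH) (Lpr_ct (K41.f492269 IH) (Lpn (LP (LK LD1_c3 LD2_c52 LD3_c5))))))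
theorem f564414 : Led Lsl_gt (LP (LK LD1_c3 LD2_c52 LD3_c5)) = (LP (LK LD1_c7 LD2_c35 LD3_c23)) :=
  Lgr Lrot5 (Lpe (f492477 IH) (Lpr_at (f457932 IH) (Lpr_gf (K41.f564412 IH) (Lpn (LP (LK LD1_c7 LD2_c35 LD3_c23))))))
theorem f493025 : Led Lsl_cf (LP (LK LD1_c14 LD2_c2 LD3_c29)) = (LP (LK LD1_c7 LD2_c36 LD3_c54)) :=
  Lgr Lrot11 (Lpr_ct (K35.f493001 IH) (Lpn (LP (LK LD1_c7 LD2_c36 LD3_c54))))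
theorem f493027 : Led Lsl_ft (LP (LK LD1_c14 LD2_c2 LD3_c29)) = (LP (LK LD1_c7 LD2_c25 LD3_c55)) :=
  Lgr Lrot4 (Lpr_cf (f493025 IH) (Lpr_ff (K34.f492107 IH) (Lpr_cf (K34.f492812 IH) (Lpn (LP (LK LD1_c7 LD2_c25 LD3_c55))))))
theorem f492808 : Led Lsl_af (LP (LK LD1_c3 LD2_c51 LD3_c53)) = (LP (LK LD1_c7 LD2_c25 LD3_c55)) :=
  Lgr Lrot36 (Lpe (K34.f489569 IH) (Lpe (K33.f492646 IH) (Lpr_bt (K28.f462797 IH) (Lpr_at (K34.f462820 IH) (Lpr_bt (K34.f492806 IH) (Lpn (LP (LK LD1_c7 LD2_c25 LD3_c55))))))))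
theorem f493029 : Led Lsl_gt (LP (LK LD1_c14 LD2_c2 LD3_c29)) = (LP (LK LD1_c7 LD2_c25 LD3_c51)) :=
  Lgr Lrot5 (Lpr_ft (f493027 IH) (Lpe (f492808 IH) (Lpr_gf (K34.f471492 IH) (Lpn (LP (LK LD1_c7 LD2_c25 LD3_c51))))))
theorem f203783 : Led Lsl_ft (LP (LK LD1_c7 LD2_c25 LD3_c57)) = (LP (LK LD1_c3 LD2_c42 LD3_c39)) :=
  Lre_f IH (LK LD1_c7 LD2_c25 LD3_c57) (LK LD1_c3 LD2_c42 LD3_c39) Lrfl Lrfl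
theorem f493031 : Led Lsl_gf (LP (LK LD1_c14 LD2_c2 LD3_c29)) = (LP (LK LD1_c7 LD2_c25 LD3_c57)) :=
  Lgr Lrot47 (Lpr_gt (f493029 IH) (Lpe (K28.f203777 IH) (Lpe (f203783 IH) (Lpn (LP (LK LD1_c7 LD2_c25 LD3_c57))))))
theorem f203872 : Led Lsl_bt (LP (LK LD1_c7 LD2_c25 LD3_c57)) = (LP (LK LD1_c3 LD2_c42 LD3_c44)) :=
  Lre_b IH (LK LD1_c7 LD2_c25 LD3_c57) (LK LD1_c3 LD2_c42 LD3_c44) Lrfl Lrfl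
theorem f471899 : Led Lsl_ct (LP (LK LD1_c7 LD2_c53 LD3_c29)) = (LP (LK LD1_c7 LD2_c25 LD3_c57)) :=
  Lgr Lrot83 (Lpe (K34.f471898 IH) (Lpr_cf (K34.f471896 IH) (Lpe (K28.f203857 IH) (Lpe (K29.f203835 IH) (Lpe (f203872 IH) (Lpn (LP (LK LD1_c7 LD2_c25 LD3_c57))))))))
theorem f110287 : Led Lsl_gt (LP (LK LD1_c7 LD2_c39 LD3_c24)) = (LP (LK LD1_c14 LD2_c25 LD3_c49)) :=
  Lre_g IH (LK LD1_c7 LD2_c39 LD3_c24) (LK LD1_c14 LD2_c25 LD3_c49) Lrfl Lrfl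
theorem f472048 : Led Lsl_gf (LP (LK LD1_c7 LD2_c53 LD3_c29)) = (LP (LK LD1_c14 LD2_c25 LD3_c49)) :=
  Lgr Lrot76 (Lpr_af (K34.f472040 IH) (Lpr_ff (K34.f470965 IH) (Lpr_gt (f110287 IH) (Lpn (LP (LK LD1_c14 LD2_c25 LD3_c49))))))
theorem f475840 : Led Lsl_bt (LP (LK LD1_c7 LD2_c8 LD3_c4)) = (LP (LK LD1_c13 LD2_c30 LD3_c50)) :=
  Lre_b IH (LK LD1_c7 LD2_c8 LD3_c4) (LK LD1_c13 LD2_c30 LD3_c50) Lrfl Lrfl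
theorem f564410 : Led Lsl_gf (LP (LK LD1_c13 LD2_c30 LD3_c50)) = (LP (LK LD1_c13 LD2_c9 LD3_c47)) :=
  Lgr Lrot124 (Lpe (f475840 IH) (Lpe (K39.f475838 IH) (Lpr_gt (K39.f11807 IH) (Lpr_cf (K29.f11785 IH) (Lpr_bt (K34.f475828 IH) (Lpr_gt (K34.f475821 IH) (Lpr_ct (K32.f475153 IH) (Lpr_gt (K41.f564402 IH) (Lpe (K41.f136467 IH) (Lpe (K41.f136484 IH) (Lpn (LP (LK LD1_c13 LD2_c9 LD3_c47)))))))))))))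
theorem f476176 : Led Lsl_ct (LP (LK LD1_c7 LD2_c47 LD3_c10)) = (LP (LK LD1_c13 LD2_c30 LD3_c50)) :=
  Lgr Lrot59 (Lpr_cf (K41.f476174 IH) (Lpn (LP (LK LD1_c13 LD2_c30 LD3_c50))))
theorem f616168 : Led Lsl_bf (LP (LK LD1_c14 LD2_c25 LD3_c49)) = (LP (LK LD1_c7 LD2_c47 LD3_c10)) :=
  Lgr Lrot165 (Lpe (f472048 IH) (Lpr_ct (f471899 IH) (Lpe (f493031 IH) (Lpr_cf (f493025 IH) (Lpe (K34.f492263 IH) (Lpr_gt (f564414 IH) (Lpe (K36.f136479 IH) (Lpr_ct (K41.f136489 IH) (Lpe (f564410 IH) (Lpe (f476176 IH) (Lpn (LP (LK LD1_c7 LD2_c47 LD3_c10)))))))))))))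
theorem f616170 : Led Lsl_bt (LP (LK LD1_c14 LD2_c25 LD3_c49)) = (LP (LK LD1_c7 LD2_c47 LD3_c10)) :=
  Lgr Lrot127 (Lpr_bf (f616168 IH) (Lpn (LP (LK LD1_c7 LD2_c47 LD3_c10))))
theorem f757494 : Led Lsl_ff (LP (LK LD1_c14 LD2_c25 LD3_c49)) = (LP (LK LD1_c13 LD2_c7 LD3_c55)) :=
  Lgr Lrot25 (Lpr_bt (f616170 IH) (Lpr_ft (f757383 IH) (Lpe (K41.f476391 IH) (Lpn (LP (LK LD1_c13 LD2_c7 LD3_c55))))))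
theorem f757498 : Led Lsl_at (LP (LK LD1_c14 LD2_c25 LD3_c49)) = (LP (LK LD1_c13 LD2_c7 LD3_c54)) :=
  Lgr Lrot26 (Lpr_ff (f757494 IH) (Lpr_gt (K41.f102620 IH) (Lpr_gt (K34.f102619 IH) (Lpn (LP (LK LD1_c13 LD2_c7 LD3_c54))))))
theorem f468396 : Led Lsl_bt (LP (LK LD1_c7 LD2_c37 LD3_c13)) = (LP (LK LD1_c14 LD2_c21 LD3_c60)) :=
  Lre_b IH (LK LD1_c7 LD2_c37 LD3_c13) (LK LD1_c14 LD2_c21 LD3_c60) Lrfl Lrfl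
theorem f477515 : Led Lsl_df (LP (LK LD1_c13 LD2_c23 LD3_c9)) = (LP (LK LD1_c14 LD2_c21 LD3_c60)) :=
  Lgr Lrot12 (Lpr_bt (K47.f477514 IH) (Lpr_dt (K29.f477495 IH) (Lpr_bt (f468396 IH) (Lpn (LP (LK LD1_c14 LD2_c21 LD3_c60))))))
theorem f477551 : Led Lsl_bt (LP (LK LD1_c13 LD2_c44 LD3_c6)) = (LP (LK LD1_c7 LD2_c15 LD3_c28)) :=
  Lre_b IH (LK LD1_c13 LD2_c44 LD3_c6) (LK LD1_c7 LD2_c15 LD3_c28) Lrfl Lrfl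
theorem f477597 : Led Lsl_df (LP (LK LD1_c13 LD2_c44 LD3_c6)) = (LP (LK LD1_c14 LD2_c43 LD3_c2)) :=
  Lgr Lrot12 (Lpr_bt (f477551 IH) (Lpr_dt (K29.f477595 IH) (Lpr_bt (K47.f464882 IH) (Lpn (LP (LK LD1_c14 LD2_c43 LD3_c2))))))
theorem f475282 : Led Lsl_dt (LP (LK LD1_c7 LD2_c7 LD3_c15)) = (LP (LK LD1_c13 LD2_c29 LD3_c32)) :=
  Lre_d IH (LK LD1_c7 LD2_c7 LD3_c15) (LK LD1_c13 LD2_c29 LD3_c32) Lrfl Lrfl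
theorem f477687 : Led Lsl_gf (LP (LK LD1_c14 LD2_c21 LD3_c60)) = (LP (LK LD1_c22 LD2_c50 LD3_c47)) :=
  Lgr Lrot143 (Lpe (f477515 IH) (Lpr_cf (K47.f477681 IH) (Lpr_df (f477597 IH) (Lpe (K47.f475325 IH) (Lpe (f475282 IH) (Lpr_gf (K35.f475276 IH) (Lpr_cf (K35.f463811 IH) (Lpe (K47.f460318 IH) (Lpr_dt (f460355 IH) (Lpn (LP (LK LD1_c22 LD2_c50 LD3_c47))))))))))))
theorem f511786 : Led Lsl_at (LP (LK LD1_c13 LD2_c52 LD3_c1)) = (LP (LK LD1_c7 LD2_c19 LD3_c53)) :=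
  Lre_a IH (LK LD1_c13 LD2_c52 LD3_c1) (LK LD1_c7 LD2_c19 LD3_c53) Lrfl Lrfl
theorem f530933 : Led Lsl_df (LP (LK LD1_c13 LD2_c52 LD3_c1)) = (LP (LK LD1_c22 LD2_c50 LD3_c2)) :=
  Lgr Lrot18 (Lpr_at (f511786 IH) (Lpr_dt (K47.f511818 IH) (Lpr_at (K47.f530927 IH) (Lpn (LP (LK LD1_c22 LD2_c50 LD3_c2))))))
theorem f511787 : Led Lsl_cf (LP (LK LD1_c13 LD2_c52 LD3_c1)) = (LP (LK LD1_c14 LD2_c17 LD3_c15)) :=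
  Lgr Lrot1 (Lpr_at (f511786 IH) (Lpr_ct (K47.f511774 IH) (Lpr_at (K47.f460037 IH) (Lpn (LP (LK LD1_c14 LD2_c17 LD3_c15))))))
theorem f511794 : Led Lsl_ct (LP (LK LD1_c13 LD2_c52 LD3_c1)) = (LP (LK LD1_c14 LD2_c17 LD3_c15)) :=
  Lgr Lrot59 (Lpr_cf (f511787 IH) (Lpn (LP (LK LD1_c14 LD2_c17 LD3_c15))))
theorem f104062 : Led Lsl_dt (LP (LK LD1_c13 LD2_c29 LD3_c60)) = (LP (LK LD1_c22 LD2_c50 LD3_c46)) :=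
  Lre_d IH (LK LD1_c13 LD2_c29 LD3_c60) (LK LD1_c22 LD2_c50 LD3_c46) Lrfl Lrfl
theorem f530938 : Led Lsl_gf (LP (LK LD1_c14 LD2_c42 LD3_c1)) = (LP (LK LD1_c22 LD2_c50 LD3_c46)) :=
  Lgr Lrot143 (Lpe (K47.f460012 IH) (Lpe (f511794 IH) (Lpr_df (f530933 IH) (Lpe (K47.f530925 IH) (Lpe (K47.f98505 IH) (Lpe (K41.f98503 IH) (Lpe (K29.f460293 IH) (Lpr_gt (K28.f104061 IH) (Lpr_dt (f104062 IH) (Lpn (LP (LK LD1_c22 LD2_c50 LD3_c46))))))))))))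
theorem f530940 : Led Lsl_gt (LP (LK LD1_c14 LD2_c21 LD3_c60)) = (LP (LK LD1_c22 LD2_c50 LD3_c46)) :=
  Lgr Lrot5 (Lpr_ft (f521046 IH) (Lpr_at (K47.f460011 IH) (Lpr_gf (f530938 IH) (Lpn (LP (LK LD1_c22 LD2_c50 LD3_c46))))))
theorem f757385 : Led Lsl_at (LP (LK LD1_c14 LD2_c41 LD3_c29)) = (LP (LK LD1_c22 LD2_c50 LD3_c46)) :=
  Lgr Lrot26 (Lpr_ff (f757381 IH) (Lpe (f477687 IH) (Lpr_gt (f530940 IH) (Lpn (LP (LK LD1_c22 LD2_c50 LD3_c46))))))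
theorem f104090 : Led Lsl_dt (LP (LK LD1_c22 LD2_c50 LD3_c46)) = (LP (LK LD1_c13 LD2_c29 LD3_c60)) :=
  Lre_d IH (LK LD1_c22 LD2_c50 LD3_c46) (LK LD1_c13 LD2_c29 LD3_c60) Lrfl Lrfl
theorem f757387 : Led Lsl_af (LP (LK LD1_c7 LD2_c47 LD3_c10)) = (LP (LK LD1_c13 LD2_c29 LD3_c60)) :=
  Lgr Lrot117 (Lpr_dt (f460378 IH) (Lpr_at (f757385 IH) (Lpr_dt (f104090 IH) (Lpn (LP (LK LD1_c13 LD2_c29 LD3_c60))))))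
theorem f757502 : Led Lsl_af (LP (LK LD1_c14 LD2_c19 LD3_c56)) = (LP (LK LD1_c7 LD2_c36 LD3_c25)) :=
  Lgr Lrot36 (Lpe (K28.f463713 IH) (Lpe (f757387 IH) (Lpe (f616168 IH) (Lpr_at (f757498 IH) (Lpr_bt (K41.f472054 IH) (Lpn (LP (LK LD1_c7 LD2_c36 LD3_c25))))))))
theorem f464041 : Led Lsl_et (LP (LK LD1_c14 LD2_c19 LD3_c56)) = (LP (LK LD1_c23 LD2_c57 LD3_c58)) :=
  Lre_e IH (LK LD1_c14 LD2_c19 LD3_c56) (LK LD1_c23 LD2_c57 LD3_c58) Lrfl Lrfl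
theorem f757506 : Led Lsl_at (LP (LK LD1_c23 LD2_c57 LD3_c58)) = (LP (LK LD1_c14 LD2_c20 LD3_c30)) :=
  Lgr Lrot80 (Lpe (f464041 IH) (Lpr_af (f757502 IH) (Lpe (K35.f472057 IH) (Lpn (LP (LK LD1_c14 LD2_c20 LD3_c30))))))
theorem f130468 : Led Lsl_ct (LP (LK LD1_c14 LD2_c19 LD3_c57)) = (LP (LK LD1_c23 LD2_c57 LD3_c58)) :=
  Lre_c IH (LK LD1_c14 LD2_c19 LD3_c57) (LK LD1_c23 LD2_c57 LD3_c58) Lrfl Lrfl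
theorem f156642 : Led Lsl_ct (LP (LK LD1_c14 LD2_c20 LD3_c30)) = (LP (LK LD1_c7 LD2_c36 LD3_c27)) :=
  Lre_c IH (LK LD1_c14 LD2_c20 LD3_c30) (LK LD1_c7 LD2_c36 LD3_c27) Lrfl Lrfl
theorem f757510 : Led Lsl_af (LP (LK LD1_c14 LD2_c19 LD3_c57)) = (LP (LK LD1_c7 LD2_c36 LD3_c27)) :=
  Lgr Lrot68 (Lpr_ct (f130468 IH) (Lpr_at (f757506 IH) (Lpr_ct (f156642 IH) (Lpn (LP (LK LD1_c7 LD2_c36 LD3_c27))))))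
theorem f757512 : Led Lsl_at (LP (LK LD1_c14 LD2_c19 LD3_c57)) = (LP (LK LD1_c7 LD2_c36 LD3_c27)) :=
  Lgr Lrot100 (Lpr_af (f757510 IH) (Lpn (LP (LK LD1_c7 LD2_c36 LD3_c27))))
theorem f466321 : Led Lsl_dt (LP (LK LD1_c13 LD2_c24 LD3_c46)) = (LP (LK LD1_c22 LD2_c43 LD3_c3)) :=
  Lre_d IH (LK LD1_c13 LD2_c24 LD3_c46) (LK LD1_c22 LD2_c43 LD3_c3) Lrfl Lrfl
theorem f488292 : Led Lsl_bf (LP (LK LD1_c13 LD2_c57 LD3_c57)) = (LP (LK LD1_c22 LD2_c43 LD3_c3)) :=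
  Lgr Lrot93 (Lpr_dt (K47.f147285 IH) (Lpr_bt (K39.f488288 IH) (Lpr_dt (f466321 IH) (Lpn (LP (LK LD1_c22 LD2_c43 LD3_c3))))))
theorem f488294 : Led Lsl_bt (LP (LK LD1_c13 LD2_c57 LD3_c57)) = (LP (LK LD1_c22 LD2_c43 LD3_c3)) :=
  Lgr Lrot127 (Lpr_bf (f488292 IH) (Lpn (LP (LK LD1_c22 LD2_c43 LD3_c3))))
theorem f516216 : Led Lsl_bt (LP (LK LD1_c14 LD2_c47 LD3_c19)) = (LP (LK LD1_c22 LD2_c27 LD3_c48)) :=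
  Lgr Lrot127 (Lpr_bf (f516212 IH) (Lpn (LP (LK LD1_c22 LD2_c27 LD3_c48))))
theorem f123770 : Led Lsl_dt (LP (LK LD1_c7 LD2_c28 LD3_c39)) = (LP (LK LD1_c14 LD2_c6 LD3_c56)) :=
  Lre_d IH (LK LD1_c7 LD2_c28 LD3_c39) (LK LD1_c14 LD2_c6 LD3_c56) Lrfl Lrfl
theorem f123769 : Led Lsl_gt (LP (LK LD1_c14 LD2_c6 LD3_c56)) = (LP (LK LD1_c23 LD2_c41 LD3_c3)) :=
  Lre_g IH (LK LD1_c14 LD2_c6 LD3_c56) (LK LD1_c23 LD2_c41 LD3_c3) Lrfl Lrfl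
theorem f516137 : Led Lsl_dt (LP (LK LD1_c23 LD2_c41 LD3_c3)) = (LP (LK LD1_c22 LD2_c27 LD3_c48)) :=
  Lgr Lrot105 (Lpe (f123769 IH) (Lpe (f123770 IH) (Lpe (K28.f123822 IH) (Lpe (K24.f123652 IH) (Lpr_gt (K28.f123821 IH) (Lpr_dt (K34.f123781 IH) (Lpr_gt (K34.f516135 IH) (Lpr_dt (K34.f465427 IH) (Lpe (f458192 IH) (Lpn (LP (LK LD1_c22 LD2_c27 LD3_c48))))))))))))
theorem f516155 : Led Lsl_df (LP (LK LD1_c23 LD2_c41 LD3_c3)) = (LP (LK LD1_c22 LD2_c27 LD3_c48)) :=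
  Lgr Lrot38 (Lpr_dt (f516137 IH) (Lpn (LP (LK LD1_c22 LD2_c27 LD3_c48))))
theorem f568161 : Led Lsl_bf (LP (LK LD1_c23 LD2_c29 LD3_c52)) = (LP (LK LD1_c23 LD2_c41 LD3_c3)) :=
  Lgr Lrot93 (Lpr_dt (K46.f568157 IH) (Lpr_bt (f516216 IH) (Lpe (f516155 IH) (Lpn (LP (LK LD1_c23 LD2_c41 LD3_c3))))))
theorem f492557 : Led Lsl_gt (LP (LK LD1_c22 LD2_c19 LD3_c48)) = (LP (LK LD1_c13 LD2_c13 LD3_c26)) :=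
  Lgr Lrot5 (Lpr_ft (K34.f492553 IH) (Lpr_at (K34.f98791 IH) (Lpe (K46.f98789 IH) (Lpn (LP (LK LD1_c13 LD2_c13 LD3_c26))))))
theorem f123785 : Led Lsl_dt (LP (LK LD1_c14 LD2_c12 LD3_c57)) = (LP (LK LD1_c7 LD2_c32 LD3_c15)) :=
  Lre_d IH (LK LD1_c14 LD2_c12 LD3_c57) (LK LD1_c7 LD2_c32 LD3_c15) Lrfl Lrfl
theorem f142411 : Led Lsl_dt (LP (LK LD1_c13 LD2_c55 LD3_c57)) = (LP (LK LD1_c7 LD2_c22 LD3_c1)) :=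
  Lre_d IH (LK LD1_c13 LD2_c55 LD3_c57) (LK LD1_c7 LD2_c22 LD3_c1) Lrfl Lrfl
theorem f142448 : Led Lsl_gt (LP (LK LD1_c23 LD2_c26 LD3_c55)) = (LP (LK LD1_c13 LD2_c55 LD3_c57)) :=
  Lre_g IH (LK LD1_c23 LD2_c26 LD3_c55) (LK LD1_c13 LD2_c55 LD3_c57) Lrfl Lrfl
theorem f527106 : Led Lsl_dt (LP (LK LD1_c22 LD2_c27 LD3_c14)) = (LP (LK LD1_c23 LD2_c26 LD3_c55)) :=
  Lgr Lrot57 (Lpr_gf (K37.f527104 IH) (Lpe (K37.f527043 IH) (Lpr_gt (f492557 IH) (Lpr_dt (K46.f492559 IH) (Lpe (K46.f516233 IH) (Lpr_dt (f123785 IH) (Lpr_cf (K28.f468292 IH) (Lpe (f142411 IH) (Lpe (f142448 IH) (Lpn (LP (LK LD1_c23 LD2_c26 LD3_c55))))))))))))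
theorem f458011 : Led Lsl_ct (LP (LK LD1_c13 LD2_c13 LD3_c25)) = (LP (LK LD1_c22 LD2_c27 LD3_c48)) :=
  Lre_c IH (LK LD1_c13 LD2_c13 LD3_c25) (LK LD1_c22 LD2_c27 LD3_c48) Lrfl Lrfl
theorem f463672 : Led Lsl_ct (LP (LK LD1_c13 LD2_c55 LD3_c57)) = (LP (LK LD1_c23 LD2_c26 LD3_c56)) :=
  Lre_c IH (LK LD1_c13 LD2_c55 LD3_c57) (LK LD1_c23 LD2_c26 LD3_c56) Lrfl Lrfl
theorem f479624 : Led Lsl_gt (LP (LK LD1_c23 LD2_c26 LD3_c56)) = (LP (LK LD1_c31 LD2_c3 LD3_c31)) :=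
  Lre_g IH (LK LD1_c23 LD2_c26 LD3_c56) (LK LD1_c31 LD2_c3 LD3_c31) Lrfl Lrfl
theorem f527112 : Led Lsl_cf (LP (LK LD1_c23 LD2_c41 LD3_c3)) = (LP (LK LD1_c31 LD2_c3 LD3_c31)) :=
  Lgr Lrot175 (Lpr_dt (f516137 IH) (Lpe (f458011 IH) (Lpe (K34.f16716 IH) (Lpe (f98796 IH) (Lpe (K37.f462851 IH) (Lpr_dt (f527106 IH) (Lpr_gt (f142448 IH) (Lpr_ct (f463672 IH) (Lpr_gt (f479624 IH) (Lpn (LP (LK LD1_c31 LD2_c3 LD3_c31))))))))))))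
theorem f527114 : Led Lsl_ct (LP (LK LD1_c23 LD2_c41 LD3_c3)) = (LP (LK LD1_c31 LD2_c3 LD3_c31)) :=
  Lgr Lrot59 (Lpr_cf (f527112 IH) (Lpn (LP (LK LD1_c31 LD2_c3 LD3_c31))))
theorem f463670 : Led Lsl_bt (LP (LK LD1_c13 LD2_c55 LD3_c57)) = (LP (LK LD1_c7 LD2_c22 LD3_c2)) :=
  Lre_b IH (LK LD1_c13 LD2_c55 LD3_c57) (LK LD1_c7 LD2_c22 LD3_c2) Lrfl Lrfl
theorem f479622 : Led Lsl_bt (LP (LK LD1_c14 LD2_c55 LD3_c6)) = (LP (LK LD1_c7 LD2_c54 LD3_c31)) :=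
  Lre_b IH (LK LD1_c14 LD2_c55 LD3_c6) (LK LD1_c7 LD2_c54 LD3_c31) Lrfl Lrfl
theorem f607873 : Led Lsl_gf (LP (LK LD1_c24 LD2_c42 LD3_c27)) = (LP (LK LD1_c21 LD2_c29 LD3_c37)) :=
  Lgr Lrot129 (Lpe (K47.f479613 IH) (Lpr_bt (f479622 IH) (Lpr_gt (K33.f479618 IH) (Lpe (f463670 IH) (Lpr_ct (f463672 IH) (Lpr_gt (f479624 IH) (Lpe (f527114 IH) (Lpe (f568161 IH) (Lpe (K47.f607869 IH) (Lpr_ct (K47.f607864 IH) (Lpn (LP (LK LD1_c21 LD2_c29 LD3_c37)))))))))))))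
theorem f607875 : Led Lsl_gf (LP (LK LD1_c22 LD2_c43 LD3_c3)) = (LP (LK LD1_c13 LD2_c24 LD3_c56)) :=
  Lgr Lrot124 (Lpe (f488294 IH) (Lpr_ct (K47.f607864 IH) (Lpe (f607873 IH) (Lpe (K47.f479613 IH) (Lpr_bt (f479622 IH) (Lpr_gt (K33.f479618 IH) (Lpr_ct (K33.f440148 IH) (Lpr_gt (K33.f480173 IH) (Lpe (K33.f459266 IH) (Lpr_bt (K33.f468128 IH) (Lpn (LP (LK LD1_c13 LD2_c24 LD3_c56)))))))))))))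
theorem f489150 : Led Lsl_ef (LP (LK LD1_c14 LD2_c49 LD3_c15)) = (LP (LK LD1_c14 LD2_c24 LD3_c41)) :=
  Lgr Lrot88 (Lpr_et (K34.f489146 IH) (Lpn (LP (LK LD1_c14 LD2_c24 LD3_c41))))
theorem f523051 : Led Lsl_at (LP (LK LD1_c23 LD2_c43 LD3_c37)) = (LP (LK LD1_c14 LD2_c8 LD3_c59)) :=
  Lre_a IH (LK LD1_c23 LD2_c43 LD3_c37) (LK LD1_c14 LD2_c8 LD3_c59) Lrfl Lrfl
theorem f523067 : Led Lsl_ff (LP (LK LD1_c23 LD2_c43 LD3_c37)) = (LP (LK LD1_c14 LD2_c47 LD3_c33)) :=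
  Lgr Lrot30 (Lpr_at (f523051 IH) (Lpr_ft (K34.f523065 IH) (Lpr_at (K34.f472603 IH) (Lpn (LP (LK LD1_c14 LD2_c47 LD3_c33))))))
theorem f523425 : Led Lsl_gf (LP (LK LD1_c23 LD2_c43 LD3_c51)) = (LP (LK LD1_c14 LD2_c47 LD3_c33)) :=
  Lgr Lrot47 (Lpr_gt (K34.f484654 IH) (Lpe (f523051 IH) (Lpr_ff (f523067 IH) (Lpn (LP (LK LD1_c14 LD2_c47 LD3_c33))))))
theorem f472584 : Led Lsl_at (LP (LK LD1_c22 LD2_c45 LD3_c10)) = (LP (LK LD1_c13 LD2_c25 LD3_c52)) :=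
  Lre_a IH (LK LD1_c22 LD2_c45 LD3_c10) (LK LD1_c13 LD2_c25 LD3_c52) Lrfl Lrfl
theorem f472604 : Led Lsl_df (LP (LK LD1_c22 LD2_c45 LD3_c10)) = (LP (LK LD1_c14 LD2_c47 LD3_c33)) :=
  Lgr Lrot18 (Lpr_at (f472584 IH) (Lpr_dt (K34.f472594 IH) (Lpr_at (K34.f472603 IH) (Lpn (LP (LK LD1_c14 LD2_c47 LD3_c33))))))
theorem f472611 : Led Lsl_dt (LP (LK LD1_c22 LD2_c45 LD3_c10)) = (LP (LK LD1_c14 LD2_c47 LD3_c33)) :=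
  Lgr Lrot42 (Lpr_df (f472604 IH) (Lpn (LP (LK LD1_c14 LD2_c47 LD3_c33))))
theorem f522872 : Led Lsl_bt (LP (LK LD1_c3 LD2_c44 LD3_c18)) = (LP (LK LD1_c7 LD2_c29 LD3_c34)) :=
  Lre_b IH (LK LD1_c3 LD2_c44 LD3_c18) (LK LD1_c7 LD2_c29 LD3_c34) Lrfl Lrfl
theorem f522885 : Led Lsl_ft (LP (LK LD1_c7 LD2_c29 LD3_c34)) = (LP (LK LD1_c13 LD2_c25 LD3_c52)) :=
  Lgr Lrot75 (Lpe (f522872 IH) (Lpr_ff (K34.f522883 IH) (Lpe (K47.f472565 IH) (Lpn (LP (LK LD1_c13 LD2_c25 LD3_c52))))))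
theorem f522877 : Led Lsl_gt (LP (LK LD1_c7 LD2_c29 LD3_c34)) = (LP (LK LD1_c14 LD2_c8 LD3_c57)) :=
  Lre_g IH (LK LD1_c7 LD2_c29 LD3_c34) (LK LD1_c14 LD2_c8 LD3_c57) Lrfl Lrfl
theorem f472591 : Led Lsl_at (LP (LK LD1_c13 LD2_c25 LD3_c52)) = (LP (LK LD1_c22 LD2_c45 LD3_c10)) :=
  Lre_a IH (LK LD1_c13 LD2_c25 LD3_c52) (LK LD1_c22 LD2_c45 LD3_c10) Lrfl Lrfl
theorem f523430 : Led Lsl_gt (LP (LK LD1_c14 LD2_c8 LD3_c57)) = (LP (LK LD1_c22 LD2_c45 LD3_c10)) :=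
  Lgr Lrot46 (Lpe (f522877 IH) (Lpr_ft (f522885 IH) (Lpr_at (f472591 IH) (Lpn (LP (LK LD1_c22 LD2_c45 LD3_c10))))))
theorem f607877 : Led Lsl_et (LP (LK LD1_c13 LD2_c24 LD3_c46)) = (LP (LK LD1_c14 LD2_c8 LD3_c57)) :=
  Lgr Lrot121 (Lpr_dt (f466321 IH) (Lpr_gf (f607875 IH) (Lpe (K33.f480416 IH) (Lpr_et (K33.f480185 IH) (Lpe (K34.f480222 IH) (Lpr_ef (f489150 IH) (Lpe (K34.f484778 IH) (Lpr_gf (f523425 IH) (Lpe (f472611 IH) (Lpe (f523430 IH) (Lpn (LP (LK LD1_c14 LD2_c8 LD3_c57)))))))))))))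
theorem f472586 : Led Lsl_ef (LP (LK LD1_c22 LD2_c45 LD3_c10)) = (LP (LK LD1_c22 LD2_c43 LD3_c58)) :=
  Lgr Lrot20 (Lpr_at (f472584 IH) (Lpr_et (K34.f472582 IH) (Lpr_at (K47.f472585 IH) (Lpn (LP (LK LD1_c22 LD2_c43 LD3_c58))))))
theorem f520920 : Led Lsl_bt (LP (LK LD1_c24 LD2_c0 LD3_c2)) = (LP (LK LD1_c14 LD2_c42 LD3_c9)) :=
  Lgr Lrot127 (Lpr_bf (K34.f520916 IH) (Lpn (LP (LK LD1_c14 LD2_c42 LD3_c9))))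
theorem f478924 : Led Lsl_ct (LP (LK LD1_c7 LD2_c43 LD3_c32)) = (LP (LK LD1_c14 LD2_c33 LD3_c53)) :=
  Lre_c IH (LK LD1_c7 LD2_c43 LD3_c32) (LK LD1_c14 LD2_c33 LD3_c53) Lrfl Lrfl
theorem f527397 : Led Lsl_gt (LP (LK LD1_c14 LD2_c33 LD3_c53)) = (LP (LK LD1_c7 LD2_c53 LD3_c40)) :=
  Lre_g IH (LK LD1_c14 LD2_c33 LD3_c53) (LK LD1_c7 LD2_c53 LD3_c40) Lrfl Lrfl
theorem f471916 : Led Lsl_ct (LP (LK LD1_c3 LD2_c55 LD3_c60)) = (LP (LK LD1_c7 LD2_c53 LD3_c40)) :=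
  Lre_c IH (LK LD1_c3 LD2_c55 LD3_c60) (LK LD1_c7 LD2_c53 LD3_c40) Lrfl Lrfl
theorem f532386 : Led Lsl_bt (LP (LK LD1_c3 LD2_c55 LD3_c60)) = (LP (LK LD1_c7 LD2_c53 LD3_c39)) :=
  Lre_b IH (LK LD1_c3 LD2_c55 LD3_c60) (LK LD1_c7 LD2_c53 LD3_c39) Lrfl Lrfl
theorem f534683 : Led Lsl_gf (LP (LK LD1_c14 LD2_c42 LD3_c9)) = (LP (LK LD1_c7 LD2_c53 LD3_c39)) :=
  Lgr Lrot124 (Lpe (f520920 IH) (Lpr_ct (f534677 IH) (Lpr_gt (f471969 IH) (Lpe (K47.f472005 IH) (Lpr_bt (K47.f479063 IH) (Lpr_gt (K49.f91768 IH) (Lpr_ct (f478924 IH) (Lpr_gt (f527397 IH) (Lpe (f471916 IH) (Lpr_bt (f532386 IH) (Lpn (LP (LK LD1_c7 LD2_c53 LD3_c39)))))))))))))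
theorem f477832 : Led Lsl_at (LP (LK LD1_c14 LD2_c42 LD3_c11)) = (LP (LK LD1_c24 LD2_c27 LD3_c13)) :=
  Lre_a IH (LK LD1_c14 LD2_c42 LD3_c11) (LK LD1_c24 LD2_c27 LD3_c13) Lrfl Lrfl
theorem f521423 : Led Lsl_cf (LP (LK LD1_c22 LD2_c43 LD3_c58)) = (LP (LK LD1_c24 LD2_c27 LD3_c13)) :=
  Lgr Lrot1 (Lpr_at (K47.f472592 IH) (Lpr_ct (K34.f521421 IH) (Lpr_at (f477832 IH) (Lpn (LP (LK LD1_c24 LD2_c27 LD3_c13))))))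
theorem f471235 : Led Lsl_dt (LP (LK LD1_c3 LD2_c55 LD3_c59)) = (LP (LK LD1_c7 LD2_c53 LD3_c39)) :=
  Lre_d IH (LK LD1_c3 LD2_c55 LD3_c59) (LK LD1_c7 LD2_c53 LD3_c39) Lrfl Lrfl
theorem f463124 : Led Lsl_dt (LP (LK LD1_c7 LD2_c54 LD3_c4)) = (LP (LK LD1_c14 LD2_c54 LD3_c11)) :=
  Lre_d IH (LK LD1_c7 LD2_c54 LD3_c4) (LK LD1_c14 LD2_c54 LD3_c11) Lrfl Lrfl
theorem f534687 : Led Lsl_gf (LP (LK LD1_c14 LD2_c55 LD3_c60)) = (LP (LK LD1_c14 LD2_c54 LD3_c11)) :=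
  Lgr Lrot143 (Lpr_dt (K47.f480358 IH) (Lpr_cf (f521423 IH) (Lpe (K47.f520928 IH) (Lpr_gf (f534683 IH) (Lpe (f471235 IH) (Lpr_gf (K29.f471240 IH) (Lpe (K29.f463169 IH) (Lpr_gt (f463123 IH) (Lpr_dt (f463124 IH) (Lpn (LP (LK LD1_c14 LD2_c54 LD3_c11))))))))))))
theorem f480370 : Led Lsl_ct (LP (LK LD1_c14 LD2_c55 LD3_c60)) = (LP (LK LD1_c24 LD2_c43 LD3_c26)) :=
  Lre_c IH (LK LD1_c14 LD2_c55 LD3_c60) (LK LD1_c24 LD2_c43 LD3_c26) Lrfl Lrfl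
theorem f480373 : Led Lsl_at (LP (LK LD1_c14 LD2_c55 LD3_c61)) = (LP (LK LD1_c24 LD2_c43 LD3_c26)) :=
  Lre_a IH (LK LD1_c14 LD2_c55 LD3_c61) (LK LD1_c24 LD2_c43 LD3_c26) Lrfl Lrfl
theorem f480571 : Led Lsl_at (LP (LK LD1_c24 LD2_c41 LD3_c42)) = (LP (LK LD1_c14 LD2_c54 LD3_c37)) :=
  Lre_a IH (LK LD1_c24 LD2_c41 LD3_c42) (LK LD1_c14 LD2_c54 LD3_c37) Lrfl Lrfl
theorem f521251 : Led Lsl_ft (LP (LK LD1_c24 LD2_c43 LD3_c26)) = (LP (LK LD1_c24 LD2_c41 LD3_c42)) :=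
  Lgr Lrot101 (Lpe (f480373 IH) (Lpr_ff (K47.f521247 IH) (Lpe (f480571 IH) (Lpn (LP (LK LD1_c24 LD2_c41 LD3_c42))))))
theorem f452005 : Led Lsl_gt (LP (LK LD1_c24 LD2_c41 LD3_c43)) = (LP (LK LD1_c14 LD2_c54 LD3_c37)) :=
  Lre_g IH (LK LD1_c24 LD2_c41 LD3_c43) (LK LD1_c14 LD2_c54 LD3_c37) Lrfl Lrfl
theorem f521329 : Led Lsl_gt (LP (LK LD1_c24 LD2_c43 LD3_c26)) = (LP (LK LD1_c24 LD2_c41 LD3_c43)) :=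
  Lgr Lrot5 (Lpr_ft (f521251 IH) (Lpr_at (f480571 IH) (Lpe (f452005 IH) (Lpn (LP (LK LD1_c24 LD2_c41 LD3_c43))))))
theorem f463071 : Led Lsl_dt (LP (LK LD1_c7 LD2_c54 LD3_c7)) = (LP (LK LD1_c3 LD2_c56 LD3_c13)) :=
  Lre_d IH (LK LD1_c7 LD2_c54 LD3_c7) (LK LD1_c3 LD2_c56 LD3_c13) Lrfl Lrfl
theorem f463072 : Led Lsl_ft (LP (LK LD1_c3 LD2_c56 LD3_c13)) = (LP (LK LD1_c3 LD2_c54 LD3_c61)) :=
  Lgr Lrot54 (Lpe (f463071 IH) (Lpr_ff (K28.f463047 IH) (Lpe (K5.f121111 IH) (Lpn (LP (LK LD1_c3 LD2_c54 LD3_c61))))))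
theorem f463206 : Led Lsl_gt (LP (LK LD1_c7 LD2_c54 LD3_c4)) = (LP (LK LD1_c7 LD2_c51 LD3_c37)) :=
  Lgr Lrot46 (Lpe (f463123 IH) (Lpr_ft (f463072 IH) (Lpr_at (K28.f129546 IH) (Lpn (LP (LK LD1_c7 LD2_c51 LD3_c37))))))
theorem f534698 : Led Lsl_ct (LP (LK LD1_c24 LD2_c41 LD3_c43)) = (LP (LK LD1_c23 LD2_c23 LD3_c20)) :=
  Lgr Lrot110 (Lpe (f521329 IH) (Lpe (f480370 IH) (Lpr_gf (f534687 IH) (Lpe (f463124 IH) (Lpr_gt (f463206 IH) (Lpr_ct (K28.f129374 IH) (Lpr_gt (K34.f461113 IH) (Lpr_ct (K35.f532236 IH) (Lpe (K34.f122597 IH) (Lpn (LP (LK LD1_c23 LD2_c23 LD3_c20))))))))))))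
theorem f471762 : Led Lsl_ct (LP (LK LD1_c13 LD2_c53 LD3_c15)) = (LP (LK LD1_c23 LD2_c23 LD3_c24)) :=
  Lre_c IH (LK LD1_c13 LD2_c53 LD3_c15) (LK LD1_c23 LD2_c23 LD3_c24) Lrfl Lrfl
theorem f534700 : Led Lsl_af (LP (LK LD1_c24 LD2_c41 LD3_c43)) = (LP (LK LD1_c23 LD2_c23 LD3_c24)) :=
  Lgr Lrot68 (Lpr_ct (f534698 IH) (Lpr_at (K34.f532221 IH) (Lpr_ct (f471762 IH) (Lpn (LP (LK LD1_c23 LD2_c23 LD3_c24))))))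
theorem f532271 : Led Lsl_dt (LP (LK LD1_c14 LD2_c3 LD3_c11)) = (LP (LK LD1_c23 LD2_c36 LD3_c12)) :=
  Lre_d IH (LK LD1_c14 LD2_c3 LD3_c11) (LK LD1_c23 LD2_c36 LD3_c12) Lrfl Lrfl
theorem f532274 : Led Lsl_ff (LP (LK LD1_c23 LD2_c23 LD3_c20)) = (LP (LK LD1_c23 LD2_c36 LD3_c12)) :=
  Lgr Lrot19 (Lpr_dt (K34.f122597 IH) (Lpr_ft (K41.f532269 IH) (Lpr_dt (f532271 IH) (Lpn (LP (LK LD1_c23 LD2_c36 LD3_c12))))))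
theorem f532280 : Led Lsl_ft (LP (LK LD1_c13 LD2_c53 LD3_c15)) = (LP (LK LD1_c14 LD2_c3 LD3_c12)) :=
  Lgr Lrot101 (Lpe (K34.f532221 IH) (Lpr_ff (f532274 IH) (Lpe (K48.f532279 IH) (Lpn (LP (LK LD1_c14 LD2_c3 LD3_c12))))))
theorem f471764 : Led Lsl_ct (LP (LK LD1_c23 LD2_c23 LD3_c24)) = (LP (LK LD1_c13 LD2_c53 LD3_c15)) :=
  Lre_c IH (LK LD1_c23 LD2_c23 LD3_c24) (LK LD1_c13 LD2_c53 LD3_c15) Lrfl Lrfl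
theorem f471231 : Led Lsl_ct (LP (LK LD1_c14 LD2_c3 LD3_c12)) = (LP (LK LD1_c23 LD2_c36 LD3_c15)) :=
  Lre_c IH (LK LD1_c14 LD2_c3 LD3_c12) (LK LD1_c23 LD2_c36 LD3_c15) Lrfl Lrfl
theorem f532285 : Led Lsl_ff (LP (LK LD1_c23 LD2_c23 LD3_c24)) = (LP (LK LD1_c23 LD2_c36 LD3_c15)) :=
  Lgr Lrot23 (Lpr_ct (f471764 IH) (Lpr_ft (f532280 IH) (Lpr_ct (f471231 IH) (Lpn (LP (LK LD1_c23 LD2_c36 LD3_c15))))))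
theorem f534719 : Led Lsl_gf (LP (LK LD1_c24 LD2_c43 LD3_c26)) = (LP (LK LD1_c23 LD2_c36 LD3_c15)) :=
  Lgr Lrot47 (Lpr_gt (f521329 IH) (Lpr_af (f534700 IH) (Lpr_ff (f532285 IH) (Lpn (LP (LK LD1_c23 LD2_c36 LD3_c15))))))
theorem f534721 : Led Lsl_gt (LP (LK LD1_c14 LD2_c54 LD3_c37)) = (LP (LK LD1_c23 LD2_c36 LD3_c15)) :=
  Lgr Lrot5 (Lpe (K47.f521247 IH) (Lpr_at (f480373 IH) (Lpr_gf (f534719 IH) (Lpn (LP (LK LD1_c23 LD2_c36 LD3_c15))))))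
theorem f471233 : Led Lsl_ct (LP (LK LD1_c23 LD2_c36 LD3_c15)) = (LP (LK LD1_c14 LD2_c3 LD3_c12)) :=
  Lre_c IH (LK LD1_c23 LD2_c36 LD3_c15) (LK LD1_c14 LD2_c3 LD3_c12) Lrfl Lrfl
theorem f471230 : Led Lsl_dt (LP (LK LD1_c7 LD2_c26 LD3_c2)) = (LP (LK LD1_c14 LD2_c3 LD3_c12)) :=
  Lre_d IH (LK LD1_c7 LD2_c26 LD3_c2) (LK LD1_c14 LD2_c3 LD3_c12) Lrfl Lrfl
theorem f463154 : Led Lsl_dt (LP (LK LD1_c14 LD2_c54 LD3_c12)) = (LP (LK LD1_c7 LD2_c54 LD3_c5)) :=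
  Lre_d IH (LK LD1_c14 LD2_c54 LD3_c12) (LK LD1_c7 LD2_c54 LD3_c5) Lrfl Lrfl
theorem f534723 : Led Lsl_gf (LP (LK LD1_c7 LD2_c54 LD3_c14)) = (LP (LK LD1_c14 LD2_c54 LD3_c12)) :=
  Lgr Lrot147 (Lpr_ct (K47.f452004 IH) (Lpr_gt (f534721 IH) (Lpr_ct (f471233 IH) (Lpe (f471230 IH) (Lpe (K49.f471222 IH) (Lpr_gf (K29.f471240 IH) (Lpe (K29.f463169 IH) (Lpe (K29.f463107 IH) (Lpe (f463154 IH) (Lpn (LP (LK LD1_c14 LD2_c54 LD3_c12))))))))))))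
theorem f534726 : Led Lsl_gt (LP (LK LD1_c14 LD2_c55 LD3_c60)) = (LP (LK LD1_c14 LD2_c54 LD3_c12)) :=
  Lgr Lrot5 (Lpr_ft (K47.f521267 IH) (Lpr_at (K47.f480578 IH) (Lpr_gf (f534723 IH) (Lpn (LP (LK LD1_c14 LD2_c54 LD3_c12))))))
theorem f463151 : Led Lsl_dt (LP (LK LD1_c7 LD2_c54 LD3_c5)) = (LP (LK LD1_c14 LD2_c54 LD3_c12)) :=
  Lre_d IH (LK LD1_c7 LD2_c54 LD3_c5) (LK LD1_c14 LD2_c54 LD3_c12) Lrfl Lrfl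
theorem f607879 : Led Lsl_gt (LP (LK LD1_c14 LD2_c54 LD3_c13)) = (LP (LK LD1_c7 LD2_c54 LD3_c28)) :=
  Lgr Lrot137 (Lpe (K35.f463162 IH) (Lpr_dt (f463151 IH) (Lpe (f534726 IH) (Lpr_df (K47.f480365 IH) (Lpe (f472586 IH) (Lpe (f523430 IH) (Lpe (f607877 IH) (Lpr_dt (f466321 IH) (Lpr_gf (f607875 IH) (Lpe (K33.f480416 IH) (Lpn (LP (LK LD1_c7 LD2_c54 LD3_c28)))))))))))))
theorem f472099 : Led Lsl_ct (LP (LK LD1_c14 LD2_c20 LD3_c28)) = (LP (LK LD1_c14 LD2_c54 LD3_c13)) :=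
  Lgr Lrot59 (Lpr_cf (K35.f471254 IH) (Lpn (LP (LK LD1_c14 LD2_c54 LD3_c13))))
theorem f458095 : Led Lsl_bt (LP (LK LD1_c3 LD2_c52 LD3_c57)) = (LP (LK LD1_c7 LD2_c47 LD3_c43)) :=
  Lre_b IH (LK LD1_c3 LD2_c52 LD3_c57) (LK LD1_c7 LD2_c47 LD3_c43) Lrfl Lrfl
theorem f607883 : Led Lsl_gf (LP (LK LD1_c7 LD2_c36 LD3_c27)) = (LP (LK LD1_c7 LD2_c47 LD3_c43)) :=
  Lgr Lrot124 (Lpe (K35.f472063 IH) (Lpr_ct (f472099 IH) (Lpr_gt (f607879 IH) (Lpr_cf (K33.f479846 IH) (Lpr_bt (K33.f461538 IH) (Lpr_gt (K29.f459901 IH) (Lpr_ct (K29.f64659 IH) (Lpr_gt (K29.f62991 IH) (Lpe (K29.f458085 IH) (Lpr_bt (f458095 IH) (Lpn (LP (LK LD1_c7 LD2_c47 LD3_c43)))))))))))))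
theorem f458096 : Led Lsl_gt (LP (LK LD1_c14 LD2_c42 LD3_c37)) = (LP (LK LD1_c7 LD2_c47 LD3_c43)) :=
  Lre_g IH (LK LD1_c14 LD2_c42 LD3_c37) (LK LD1_c7 LD2_c47 LD3_c43) Lrfl Lrfl
theorem f757518 : Led Lsl_ff (LP (LK LD1_c14 LD2_c19 LD3_c57)) = (LP (LK LD1_c14 LD2_c42 LD3_c37)) :=
  Lgr Lrot52 (Lpr_at (f757512 IH) (Lpr_gf (f607883 IH) (Lpe (f458096 IH) (Lpn (LP (LK LD1_c14 LD2_c42 LD3_c37))))))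
theorem f757524 : Led Lsl_ft (LP (LK LD1_c14 LD2_c19 LD3_c57)) = (LP (LK LD1_c14 LD2_c42 LD3_c37)) :=
  Lgr Lrot48 (Lpr_ff (f757518 IH) (Lpn (LP (LK LD1_c14 LD2_c42 LD3_c37))))
theorem f665557 : Led Lsl_ft (LP (LK LD1_c14 LD2_c20 LD3_c32)) = (LP (LK LD1_c7 LD2_c36 LD3_c27)) :=
  Lre_f IH (LK LD1_c14 LD2_c20 LD3_c32) (LK LD1_c7 LD2_c36 LD3_c27) Lrfl Lrfl
theorem f757526 : Led Lsl_af (LP (LK LD1_c14 LD2_c20 LD3_c32)) = (LP (LK LD1_c14 LD2_c42 LD3_c37)) :=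
  Lgr Lrot45 (Lpr_ft (f665557 IH) (Lpe (f757510 IH) (Lpr_ft (f757524 IH) (Lpn (LP (LK LD1_c14 LD2_c42 LD3_c37))))))
theorem f757555 : Led Lsl_gf (LP (LK LD1_c7 LD2_c40 LD3_c26)) = (LP (LK LD1_c14 LD2_c19 LD3_c57)) :=
  Lgr Lrot47 (Lpr_gt (f757553 IH) (Lpr_af (f757526 IH) (Lpe (f757524 IH) (Lpn (LP (LK LD1_c14 LD2_c19 LD3_c57))))))
theorem f443594 : Led Lsl_bt (LP (LK LD1_c7 LD2_c40 LD3_c26)) = (LP (LK LD1_c3 LD2_c49 LD3_c46)) :=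
  Lre_b IH (LK LD1_c7 LD2_c40 LD3_c26) (LK LD1_c3 LD2_c49 LD3_c46) Lrfl Lrfl
theorem f477701 : Led Lsl_cf (LP (LK LD1_c7 LD2_c40 LD3_c26)) = (LP (LK LD1_c7 LD2_c40 LD3_c26)) :=
  Lgr Lrot97 (Lpr_bt (f443594 IH) (Lpr_ct (K47.f443501 IH) (Lpr_bt (K29.f477699 IH) (Lpr_ct (K29.f443509 IH) (Lpr_bt (f443512 IH) (Lpn (LP (LK LD1_c7 LD2_c40 LD3_c26))))))))
theorem f657999 : Led Lsl_ct (LP (LK LD1_c3 LD2_c52 LD3_c59)) = K48.v6716 :=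
  Lgr Lrot7 (Lpe (K29.f64691 IH) (Lpr_gf (K29.f477252 IH) (Lpe (K29.f464169 IH) (Lpe (K33.f464165 IH) (Lpe (K28.f460104 IH) (Lpe (K28.f464818 IH) (Lpr_dt (K29.f458472 IH) (Lpe (K47.f511743 IH) (Lpr_dt (K48.f657995 IH) (Lpn K48.v6716))))))))))
theorem f520463 : Led Lsl_bt (LP (LK LD1_c3 LD2_c52 LD3_c59)) = (LP (LK LD1_c7 LD2_c47 LD3_c46)) :=
  Lre_b IH (LK LD1_c3 LD2_c52 LD3_c59) (LK LD1_c7 LD2_c47 LD3_c46) Lrfl Lrfl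
theorem f521972 : Led Lsl_gt (LP (LK LD1_c7 LD2_c47 LD3_c46)) = (LP (LK LD1_c14 LD2_c42 LD3_c40)) :=
  Lre_g IH (LK LD1_c7 LD2_c47 LD3_c46) (LK LD1_c14 LD2_c42 LD3_c40) Lrfl Lrfl
theorem f130462 : Led Lsl_ct (LP (LK LD1_c23 LD2_c57 LD3_c58)) = (LP (LK LD1_c14 LD2_c19 LD3_c57)) :=
  Lre_c IH (LK LD1_c23 LD2_c57 LD3_c58) (LK LD1_c14 LD2_c19 LD3_c57) Lrfl Lrfl
theorem f757557 : Led Lsl_bf (LP (LK LD1_c14 LD2_c42 LD3_c40)) = (LP (LK LD1_c23 LD2_c57 LD3_c58)) :=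
  Lgr Lrot34 (Lpe (f521972 IH) (Lpe (f520463 IH) (Lpr_ct (f657999 IH) (Lpe (K48.f657990 IH) (Lpe (K29.f457783 IH) (Lpe (K29.f477493 IH) (Lpe (f443594 IH) (Lpe (f477701 IH) (Lpr_gf (f757555 IH) (Lpe (f130462 IH) (Lpn (LP (LK LD1_c23 LD2_c57 LD3_c58)))))))))))))
theorem f757558 : Led Lsl_bt (LP (LK LD1_c23 LD2_c57 LD3_c58)) = (LP (LK LD1_c14 LD2_c42 LD3_c40)) :=
  Leop (Lpr_bf (f757557 IH) (Lpn (LP (LK LD1_c23 LD2_c57 LD3_c58))))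
theorem seed_1137 : LEOK LG_b (LK LD1_c23 LD2_c57 LD3_c58) :=
  Leoe_b (LK LD1_c23 LD2_c57 LD3_c58) (f757558 IH)
theorem f80484 : Led Lsl_bt (LP (LK LD1_c6 LD2_c14 LD3_c52)) = (LP (LK LD1_c3 LD2_c4 LD3_c21)) :=
  Lre_b IH (LK LD1_c6 LD2_c14 LD3_c52) (LK LD1_c3 LD2_c4 LD3_c21) Lrfl Lrfl
def v17199 : LQ := Led Lsl_bt (LP (LK LD1_c6 LD2_c13 LD3_c52))
theorem f756646 : Led Lsl_bt (LP (LK LD1_c6 LD2_c13 LD3_c52)) = v17199 :=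
  Lrfl
theorem f757731 : Led Lsl_ff (LP (LK LD1_c6 LD2_c14 LD3_c52)) = v17199 :=
  Lgr Lrot25 (Lpr_bt (f80484 IH) (Lpq (f756778 IH) (Lpe (f756663 IH) (Lpr_bt (f756646 IH) (Lpn v17199)))))
theorem f757733 : Led Lsl_ft (LP (LK LD1_c6 LD2_c14 LD3_c52)) = v17199 :=
  Lgr Lrot48 (Lpr_ff (f757731 IH) (Lpn v17199))
theorem f606770 : Led Lsl_at (LP (LK LD1_c12 LD2_c8 LD3_c0)) = (LP (LK LD1_c6 LD2_c14 LD3_c52)) :=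
  Lre_a IH (LK LD1_c12 LD2_c8 LD3_c0) (LK LD1_c6 LD2_c14 LD3_c52) Lrfl Lrfl
theorem f499030 : Led Lsl_af (LP (LK LD1_c4 LD2_c26 LD3_c12)) = (LP (LK LD1_c8 LD2_c49 LD3_c36)) :=
  Lgr Lrot0 (Lpr_at (K43.f499028 IH) (Lpn (LP (LK LD1_c8 LD2_c49 LD3_c36))))
theorem f499044 : Led Lsl_ft (LP (LK LD1_c4 LD2_c26 LD3_c12)) = (LP (LK LD1_c8 LD2_c49 LD3_c50)) :=
  Lre_f IH (LK LD1_c4 LD2_c26 LD3_c12) (LK LD1_c8 LD2_c49 LD3_c50) Lrfl Lrfl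
theorem f578246 : Led Lsl_af (LP (LK LD1_c12 LD2_c7 LD3_c61)) = (LP (LK LD1_c8 LD2_c49 LD3_c50)) :=
  Lgr Lrot45 (Lpr_ft (K43.f578244 IH) (Lpe (f499030 IH) (Lpr_ft (f499044 IH) (Lpn (LP (LK LD1_c8 LD2_c49 LD3_c50))))))
theorem f80241 : Led Lsl_gt (LP (LK LD1_c4 LD2_c26 LD3_c12)) = (LP (LK LD1_c8 LD2_c49 LD3_c48)) :=
  Lre_g IH (LK LD1_c4 LD2_c26 LD3_c12) (LK LD1_c8 LD2_c49 LD3_c48) Lrfl Lrfl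
theorem f606768 : Led Lsl_gf (LP (LK LD1_c12 LD2_c7 LD3_c61)) = (LP (LK LD1_c8 LD2_c49 LD3_c48)) :=
  Lgr Lrot76 (Lpr_af (f578246 IH) (Lpe (f499044 IH) (Lpr_gt (f80241 IH) (Lpn (LP (LK LD1_c8 LD2_c49 LD3_c48))))))
theorem f606771 : Led Lsl_ff (LP (LK LD1_c12 LD2_c8 LD3_c0)) = (LP (LK LD1_c8 LD2_c49 LD3_c48)) :=
  Lgr Lrot52 (Lpr_at (f606770 IH) (Lpe (K43.f80504 IH) (Lpr_gf (f606768 IH) (Lpn (LP (LK LD1_c8 LD2_c49 LD3_c48))))))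
theorem f757736 : Led Lsl_af (LP (LK LD1_c8 LD2_c49 LD3_c48)) = v17199 :=
  Lgr Lrot45 (Lpe (f606771 IH) (Lpr_at (f606770 IH) (Lpr_ft (f757733 IH) (Lpn v17199))))
def v17198 : LQ := Led Lsl_at (LP (LK LD1_c6 LD2_c13 LD3_c52))
theorem f756640 : Led Lsl_at (LP (LK LD1_c6 LD2_c13 LD3_c52)) = v17198 :=
  Lrfl
theorem f756641 : Led Lsl_af (LP (LK LD1_c6 LD2_c13 LD3_c52)) = v17198 :=
  Lgr Lrot0 (Lpr_at (f756640 IH) (Lpn v17198))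
def v5298 : LQ := Led Lsl_ft (LP (LK LD1_c3 LD2_c4 LD3_c20))
theorem f646945 : Led Lsl_ft (LP (LK LD1_c3 LD2_c4 LD3_c20)) = v5298 :=
  Lrfl
theorem f646947 : Led Lsl_ff (LP (LK LD1_c3 LD2_c4 LD3_c20)) = v5298 :=
  Lgr Lrot3 (Lpr_ft (f646945 IH) (Lpn v5298))
theorem f756642 : Led Lsl_cf v13298 = v17198 :=
  Lgr Lrot1 (Lpe (f702220 IH) (Lpe (K47.f543429 IH) (Lpr_at (f756640 IH) (Lpn v17198))))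
theorem f607672 : Led Lsl_ct (LP (LK LD1_c9 LD2_c19 LD3_c39)) = (LP (LK LD1_c12 LD2_c22 LD3_c48)) :=
  Lgr Lrot8 (Lpr_gt (K11.f59261 IH) (Lpr_dt (K32.f59316 IH) (Lpr_gt (K11.f56608 IH) (Lpr_dt (K43.f56609 IH) (Lpe (K47.f56648 IH) (Lpr_df (K47.f607664 IH) (Lpe (K47.f205516 IH) (Lpe (K39.f205517 IH) (Lpe (K47.f205518 IH) (Lpn (LP (LK LD1_c12 LD2_c22 LD3_c48))))))))))))
theorem f202025 : Led Lsl_cf (LP (LK LD1_c1 LD2_c31 LD3_c9)) = (LP (LK LD1_c3 LD2_c3 LD3_c46)) :=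
  Lgr Lrot39 (Lpr_et (K11.f59753 IH) (Lpr_ct (K11.f202015 IH) (Lpr_et (K40.f38116 IH) (Lpn (LP (LK LD1_c3 LD2_c3 LD3_c46))))))
theorem f205504 : Led Lsl_gt (LP (LK LD1_c6 LD2_c13 LD3_c53)) = (LP (LK LD1_c3 LD2_c3 LD3_c46)) :=
  Lre_g IH (LK LD1_c6 LD2_c13 LD3_c53) (LK LD1_c3 LD2_c3 LD3_c46) Lrfl Lrfl
theorem f607683 : Led Lsl_ct (LP (LK LD1_c4 LD2_c42 LD3_c40)) = (LP (LK LD1_c6 LD2_c13 LD3_c53)) :=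
  Lgr Lrot152 (Lpr_gf (K40.f201976 IH) (Lpe (K40.f38138 IH) (Lpe (K11.f201941 IH) (Lpr_ct (f607672 IH) (Lpr_gt (K47.f205518 IH) (Lpr_ct (K11.f205494 IH) (Lpe (K46.f59754 IH) (Lpr_cf (f202025 IH) (Lpe (f205504 IH) (Lpn (LP (LK LD1_c6 LD2_c13 LD3_c53))))))))))))
theorem f756644 : Led Lsl_ft (LP (LK LD1_c6 LD2_c13 LD3_c53)) = v17198 :=
  Lgr Lrot4 (Lpe (f607683 IH) (Lpr_ff (f702222 IH) (Lpr_cf (f756642 IH) (Lpn v17198))))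
def v12673 : LQ := Led Lsl_ft (LP (LK LD1_c4 LD2_c26 LD3_c31))
theorem f696698 : Led Lsl_ft (LP (LK LD1_c4 LD2_c26 LD3_c31)) = v12673 :=
  Lrfl
theorem f696700 : Led Lsl_cf v5298 = v12673 :=
  Lgr Lrot108 (Lpe (f646947 IH) (Lpe (K37.f543470 IH) (Lpr_ft (f696698 IH) (Lpn v12673))))
theorem f702224 : Led Lsl_af (LP (LK LD1_c4 LD2_c42 LD3_c40)) = v13299 :=
  Lgr Lrot45 (Lpr_ft (f702221 IH) (Lpe (f702220 IH) (Lpr_ft (f702223 IH) (Lpn v13299))))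
theorem f696701 : Led Lsl_ff (LP (LK LD1_c4 LD2_c26 LD3_c31)) = v12673 :=
  Lgr Lrot3 (Lpr_ft (f696698 IH) (Lpn v12673))
def v12671 : LQ := Led Lsl_at (LP (LK LD1_c4 LD2_c26 LD3_c31))
theorem f696690 : Led Lsl_at (LP (LK LD1_c4 LD2_c26 LD3_c31)) = v12671 :=
  Lrfl
theorem f696692 : Led Lsl_cf v5297 = v12671 :=
  Lgr Lrot1 (Lpe (f646941 IH) (Lpe (K37.f543470 IH) (Lpr_at (f696690 IH) (Lpn v12671))))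
theorem f696694 : Led Lsl_ft (LP (LK LD1_c4 LD2_c26 LD3_c32)) = v12671 :=
  Lgr Lrot4 (Lpe (K39.f80480 IH) (Lpr_ff (f646944 IH) (Lpr_cf (f696692 IH) (Lpn v12671))))
theorem f696695 : Led Lsl_ff (LP (LK LD1_c4 LD2_c26 LD3_c32)) = v12671 :=
  Lgr Lrot3 (Lpr_ft (f696694 IH) (Lpn v12671))
theorem f696702 : Led Lsl_at (LP (LK LD1_c4 LD2_c26 LD3_c32)) = v12673 :=
  Lgr Lrot66 (Lpr_ff (f696695 IH) (Lpe (f696690 IH) (Lpr_ff (f696701 IH) (Lpn v12673))))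
theorem f756775 : (LP (LK LD1_c4 LD2_c42 LD3_c40)) = v12673 :=
  Lefun (Lecon (Lfl_af (f702224 IH)) (f756774 IH)) (f696702 IH)
theorem f756782 : v5298 = (LP (LK LD1_c6 LD2_c13 LD3_c53)) :=
  Lefun (Lecon (Lfl_cf (f696700 IH)) (f756775 IH).symm) (f607683 IH)
theorem f756801 : (LP (LK LD1_c3 LD2_c4 LD3_c20)) = v17198 :=
  Lefun (Lecon (Lfl_ff (f646947 IH)) (f756782 IH)) (f756644 IH)
theorem f205490 : Led Lsl_bt (LP (LK LD1_c6 LD2_c14 LD3_c49)) = (LP (LK LD1_c3 LD2_c4 LD3_c20)) :=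
  Lre_b IH (LK LD1_c6 LD2_c14 LD3_c49) (LK LD1_c3 LD2_c4 LD3_c20) Lrfl Lrfl
theorem f543489 : Led Lsl_at (LP (LK LD1_c12 LD2_c7 LD3_c52)) = (LP (LK LD1_c6 LD2_c14 LD3_c49)) :=
  Lre_a IH (LK LD1_c12 LD2_c7 LD3_c52) (LK LD1_c6 LD2_c14 LD3_c49) Lrfl Lrfl
theorem f757737 : Led Lsl_bt (LP (LK LD1_c8 LD2_c49 LD3_c48)) = (LP (LK LD1_c12 LD2_c7 LD3_c52)) :=
  Lgr Lrot62 (Lpr_af (f757736 IH) (Lpe (f756646 IH) (Lpr_af (f756641 IH) (Lpq (f756801 IH) (Lpe (f205490 IH) (Lpe (f543489 IH) (Lpn (LP (LK LD1_c12 LD2_c7 LD3_c52)))))))))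
theorem f757738 : Led Lsl_bt (LP (LK LD1_c8 LD2_c49 LD3_c48)) = (LP (LK LD1_c12 LD2_c7 LD3_c52)) :=
  Leop (Lpe (f757737 IH) (Lpn (LP (LK LD1_c8 LD2_c49 LD3_c48))))
theorem seed_1138 : LEOK LG_b (LK LD1_c8 LD2_c49 LD3_c48) :=
  Leoe_b (LK LD1_c8 LD2_c49 LD3_c48) (f757738 IH)
def v17225 : LQ := Led Lsl_gf (LP (LK LD1_c6 LD2_c15 LD3_c47))
theorem f757798 : Led Lsl_gf (LP (LK LD1_c6 LD2_c15 LD3_c47)) = v17225 :=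
  Lrfl
theorem f83783 : Led Lsl_ct (LP (LK LD1_c3 LD2_c4 LD3_c60)) = (LP (LK LD1_c6 LD2_c15 LD3_c47)) :=
  Lre_c IH (LK LD1_c3 LD2_c4 LD3_c60) (LK LD1_c6 LD2_c15 LD3_c47) Lrfl Lrfl
theorem f109950 : Led Lsl_bt (LP (LK LD1_c4 LD2_c34 LD3_c28)) = (LP (LK LD1_c9 LD2_c5 LD3_c53)) :=
  Lre_b IH (LK LD1_c4 LD2_c34 LD3_c28) (LK LD1_c9 LD2_c5 LD3_c53) Lrfl Lrfl
theorem f719859 : Led Lsl_gf (LP (LK LD1_c15 LD2_c5 LD3_c2)) = (LP (LK LD1_c9 LD2_c5 LD3_c53)) :=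
  Lgr Lrot181 (Lpr_ct (K52.f712629 IH) (Lpe (K52.f713967 IH) (Lpe (K52.f645605 IH) (Lpr_bt (K46.f645947 IH) (Lpr_gt (K52.f710699 IH) (Lpe (K53.f714038 IH) (Lpr_ct (K53.f713853 IH) (Lpr_gt (K53.f719855 IH) (Lpe (K52.f109952 IH) (Lpr_bt (f109950 IH) (Lpn (LP (LK LD1_c9 LD2_c5 LD3_c53)))))))))))))
def v5105 : LQ := Led Lsl_dt (LP (LK LD1_c2 LD2_c57 LD3_c41))
theorem f645961 : Led Lsl_dt (LP (LK LD1_c2 LD2_c57 LD3_c41)) = v5105 :=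
  Lrfl
theorem f710607 : (LP (LK LD1_c5 LD2_c46 LD3_c1)) = v5105 :=
  Lefun (Lecon (Lfl_df (K51.f707075 IH)) (K52.f710596 IH)) (f645961 IH)
theorem f640245 : Led Lsl_ct (LP (LK LD1_c11 LD2_c22 LD3_c21)) = (LP (LK LD1_c5 LD2_c46 LD3_c1)) :=
  Lre_c IH (LK LD1_c11 LD2_c22 LD3_c21) (LK LD1_c5 LD2_c46 LD3_c1) Lrfl Lrfl
theorem f707078 : Led Lsl_ff (LP (LK LD1_c5 LD2_c46 LD3_c1)) = (LP (LK LD1_c9 LD2_c2 LD3_c0)) :=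
  Lgr Lrot3 (Lpr_ft (K51.f707071 IH) (Lpn (LP (LK LD1_c9 LD2_c2 LD3_c0))))
theorem f640242 : Led Lsl_ct (LP (LK LD1_c5 LD2_c46 LD3_c1)) = (LP (LK LD1_c11 LD2_c22 LD3_c21)) :=
  Lre_c IH (LK LD1_c5 LD2_c46 LD3_c1) (LK LD1_c11 LD2_c22 LD3_c21) Lrfl Lrfl
theorem f707080 : Led Lsl_ft (LP (LK LD1_c11 LD2_c22 LD3_c21)) = (LP (LK LD1_c16 LD2_c52 LD3_c0)) :=
  Lgr Lrot4 (Lpe (f640242 IH) (Lpr_ff (f707078 IH) (Lpe (K39.f424024 IH) (Lpn (LP (LK LD1_c16 LD2_c52 LD3_c0))))))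
theorem f140295 : Led Lsl_ct (LP (LK LD1_c16 LD2_c56 LD3_c54)) = (LP (LK LD1_c9 LD2_c4 LD3_c60)) :=
  Lre_c IH (LK LD1_c16 LD2_c56 LD3_c54) (LK LD1_c9 LD2_c4 LD3_c60) Lrfl Lrfl
theorem f707056 : Led Lsl_ft (LP (LK LD1_c11 LD2_c15 LD3_c11)) = (LP (LK LD1_c16 LD2_c56 LD3_c54)) :=
  Lgr Lrot4 (Lpe (K39.f549271 IH) (Lpr_ff (K51.f707054 IH) (Lpe (f140295 IH) (Lpn (LP (LK LD1_c16 LD2_c56 LD3_c54))))))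
theorem f707084 : Led Lsl_af (LP (LK LD1_c11 LD2_c22 LD3_c21)) = (LP (LK LD1_c16 LD2_c56 LD3_c54)) :=
  Lgr Lrot45 (Lpr_ft (f707080 IH) (Lpe (K39.f549276 IH) (Lpr_ft (f707056 IH) (Lpn (LP (LK LD1_c16 LD2_c56 LD3_c54))))))
theorem f424062 : Led Lsl_gt (LP (LK LD1_c11 LD2_c15 LD3_c11)) = (LP (LK LD1_c20 LD2_c10 LD3_c15)) :=
  Lre_g IH (LK LD1_c11 LD2_c15 LD3_c11) (LK LD1_c20 LD2_c10 LD3_c15) Lrfl Lrfl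
theorem f707094 : Led Lsl_gf (LP (LK LD1_c11 LD2_c22 LD3_c21)) = (LP (LK LD1_c20 LD2_c10 LD3_c15)) :=
  Lgr Lrot76 (Lpr_af (f707084 IH) (Lpe (f707056 IH) (Lpr_gt (f424062 IH) (Lpn (LP (LK LD1_c20 LD2_c10 LD3_c15))))))
theorem f140479 : Led Lsl_gt (LP (LK LD1_c15 LD2_c4 LD3_c10)) = (LP (LK LD1_c7 LD2_c59 LD3_c44)) :=
  Lre_g IH (LK LD1_c15 LD2_c4 LD3_c10) (LK LD1_c7 LD2_c59 LD3_c44) Lrfl Lrfl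
theorem f40281 : Led Lsl_bt (LP (LK LD1_c24 LD2_c53 LD3_c8)) = (LP (LK LD1_c15 LD2_c4 LD3_c10)) :=
  Lre_b IH (LK LD1_c24 LD2_c53 LD3_c8) (LK LD1_c15 LD2_c4 LD3_c10) Lrfl Lrfl
theorem f707113 : Led Lsl_cf (LP (LK LD1_c20 LD2_c10 LD3_c15)) = (LP (LK LD1_c24 LD2_c53 LD3_c8)) :=
  Lgr Lrot163 (Lpe (f424062 IH) (Lpe (K39.f549271 IH) (Lpqs (K51.f706195 IH) (Lpe (K51.f640466 IH) (Lpe (K51.f415867 IH) (Lpr_ct (K51.f140609 IH) (Lpr_gf (K51.f415856 IH) (Lpr_cf (K45.f140256 IH) (Lpr_bt (K45.f40239 IH) (Lpe (f140479 IH) (Lpe (f40281 IH) (Lpn (LP (LK LD1_c24 LD2_c53 LD3_c8))))))))))))))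
theorem f719861 : Led Lsl_gf (LP (LK LD1_c24 LD2_c53 LD3_c8)) = (LP (LK LD1_c16 LD2_c51 LD3_c19)) :=
  Lgr Lrot147 (Lpe (f707113 IH) (Lpe (f707094 IH) (Lpr_ct (f640245 IH) (Lpqs (f710607 IH) (Lpe (f645961 IH) (Lpe (K46.f645608 IH) (Lpr_gf (K52.f713967 IH) (Lpe (K52.f712629 IH) (Lpr_gf (f719859 IH) (Lpr_df (K51.f612923 IH) (Lpn (LP (LK LD1_c16 LD2_c51 LD3_c19)))))))))))))
theorem f589197 : Led Lsl_et (LP (LK LD1_c17 LD2_c57 LD3_c46)) = (LP (LK LD1_c11 LD2_c11 LD3_c25)) :=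
  Lgr Lrot71 (Lpe (K51.f148953 IH) (Lpe (K8.f157015 IH) (Lpr_df (K8.f157006 IH) (Lpr_ef (K51.f589193 IH) (Lpr_df (K51.f552646 IH) (Lpn (LP (LK LD1_c11 LD2_c11 LD3_c25))))))))
theorem f157147 : Led Lsl_dt (LP (LK LD1_c27 LD2_c42 LD3_c14)) = (LP (LK LD1_c17 LD2_c57 LD3_c45)) :=
  Lre_d IH (LK LD1_c27 LD2_c42 LD3_c14) (LK LD1_c17 LD2_c57 LD3_c45) Lrfl Lrfl
theorem f719863 : Led Lsl_ef (LP (LK LD1_c24 LD2_c53 LD3_c8)) = (LP (LK LD1_c27 LD2_c42 LD3_c14)) :=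
  Lgr Lrot17 (Lpr_gf (f719861 IH) (Lpe (K52.f174871 IH) (Lpr_dt (K31.f407072 IH) (Lpe (K42.f566689 IH) (Lpr_df (K41.f566710 IH) (Lpe (K51.f589173 IH) (Lpe (f589197 IH) (Lpr_dt (K51.f157125 IH) (Lpe (K56.f157142 IH) (Lpe (f157147 IH) (Lpn (LP (LK LD1_c27 LD2_c42 LD3_c14)))))))))))))
theorem f719867 : Led Lsl_et (LP (LK LD1_c24 LD2_c53 LD3_c8)) = (LP (LK LD1_c27 LD2_c42 LD3_c14)) :=
  Lgr Lrot87 (Lpr_ef (f719863 IH) (Lpn (LP (LK LD1_c27 LD2_c42 LD3_c14))))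
theorem f615458 : Led Lsl_bt (LP (LK LD1_c15 LD2_c4 LD3_c10)) = (LP (LK LD1_c24 LD2_c53 LD3_c8)) :=
  Lre_b IH (LK LD1_c15 LD2_c4 LD3_c10) (LK LD1_c24 LD2_c53 LD3_c8) Lrfl Lrfl
theorem f383387 : Led Lsl_at (LP (LK LD1_c11 LD2_c6 LD3_c47)) = (LP (LK LD1_c5 LD2_c37 LD3_c46)) :=
  Lre_a IH (LK LD1_c11 LD2_c6 LD3_c47) (LK LD1_c5 LD2_c37 LD3_c46) Lrfl Lrfl
theorem f496336 : Led Lsl_bt (LP (LK LD1_c5 LD2_c50 LD3_c5)) = (LP (LK LD1_c2 LD2_c51 LD3_c14)) :=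
  Lre_b IH (LK LD1_c5 LD2_c50 LD3_c5) (LK LD1_c2 LD2_c51 LD3_c14) Lrfl Lrfl
theorem f496335 : Led Lsl_at (LP (LK LD1_c11 LD2_c28 LD3_c30)) = (LP (LK LD1_c5 LD2_c50 LD3_c5)) :=
  Lre_a IH (LK LD1_c11 LD2_c28 LD3_c30) (LK LD1_c5 LD2_c50 LD3_c5) Lrfl Lrfl
theorem f496478 : Led Lsl_af (LP (LK LD1_c9 LD2_c48 LD3_c12)) = (LP (LK LD1_c5 LD2_c52 LD3_c6)) :=
  Lgr Lrot36 (Lpe (K32.f496321 IH) (Lpr_at (f496335 IH) (Lpr_bt (f496336 IH) (Lpr_at (K32.f496474 IH) (Lpr_bt (K41.f22797 IH) (Lpn (LP (LK LD1_c5 LD2_c52 LD3_c6))))))))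
theorem f615426 : Led Lsl_dt (LP (LK LD1_c5 LD2_c37 LD3_c46)) = (LP (LK LD1_c5 LD2_c52 LD3_c6)) :=
  Lgr Lrot44 (Lpe (f383387 IH) (Lpr_df (K41.f615424 IH) (Lpr_af (f496478 IH) (Lpn (LP (LK LD1_c5 LD2_c52 LD3_c6))))))
theorem f319487 : Led Lsl_et (LP (LK LD1_c5 LD2_c37 LD3_c46)) = (LP (LK LD1_c2 LD2_c44 LD3_c49)) :=
  Lre_e IH (LK LD1_c5 LD2_c37 LD3_c46) (LK LD1_c2 LD2_c44 LD3_c49) Lrfl Lrfl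
theorem f572322 : Led Lsl_dt (LP (LK LD1_c5 LD2_c37 LD3_c44)) = (LP (LK LD1_c3 LD2_c59 LD3_c0)) :=
  Lgr Lrot27 (Lpe (K42.f381238 IH) (Lpr_gf (K42.f572318 IH) (Lpe (K42.f132973 IH) (Lpe (K42.f572313 IH) (Lpe (K39.f412018 IH) (Lpr_gt (K39.f175482 IH) (Lpr_ct (K40.f422810 IH) (Lpe (K42.f571871 IH) (Lpr_ct (K42.f571870 IH) (Lpn (LP (LK LD1_c3 LD2_c59 LD3_c0))))))))))))
theorem f149257 : Led Lsl_et (LP (LK LD1_c3 LD2_c59 LD3_c5)) = (LP (LK LD1_c7 LD2_c59 LD3_c32)) :=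
  Lre_e IH (LK LD1_c3 LD2_c59 LD3_c5) (LK LD1_c7 LD2_c59 LD3_c32) Lrfl Lrfl
theorem f40278 : Led Lsl_gt (LP (LK LD1_c7 LD2_c59 LD3_c32)) = (LP (LK LD1_c15 LD2_c4 LD3_c10)) :=
  Lre_g IH (LK LD1_c7 LD2_c59 LD3_c32) (LK LD1_c15 LD2_c4 LD3_c10) Lrfl Lrfl
theorem f22790 : Led Lsl_gt (LP (LK LD1_c11 LD2_c31 LD3_c9)) = (LP (LK LD1_c5 LD2_c52 LD3_c6)) :=
  Lre_g IH (LK LD1_c11 LD2_c31 LD3_c9) (LK LD1_c5 LD2_c52 LD3_c6) Lrfl Lrfl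
theorem f22801 : Led Lsl_dt (LP (LK LD1_c20 LD2_c28 LD3_c2)) = (LP (LK LD1_c11 LD2_c31 LD3_c9)) :=
  Lre_d IH (LK LD1_c20 LD2_c28 LD3_c2) (LK LD1_c11 LD2_c31 LD3_c9) Lrfl Lrfl
theorem f615456 : Led Lsl_ef (LP (LK LD1_c15 LD2_c4 LD3_c10)) = (LP (LK LD1_c20 LD2_c28 LD3_c2)) :=
  Lgr Lrot17 (Lpe (f40278 IH) (Lpe (f149257 IH) (Lpr_dt (K45.f40123 IH) (Lpe (K42.f571863 IH) (Lpe (f572322 IH) (Lpe (K39.f381218 IH) (Lpe (f319487 IH) (Lpr_dt (f615426 IH) (Lpe (f22790 IH) (Lpe (f22801 IH) (Lpn (LP (LK LD1_c20 LD2_c28 LD3_c2)))))))))))))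
theorem f719869 : Led Lsl_bf (LP (LK LD1_c20 LD2_c28 LD3_c2)) = (LP (LK LD1_c27 LD2_c42 LD3_c14)) :=
  Lgr Lrot96 (Lpe (f615456 IH) (Lpr_bt (f615458 IH) (Lpr_et (f719867 IH) (Lpn (LP (LK LD1_c27 LD2_c42 LD3_c14))))))
theorem f157146 : Led Lsl_dt (LP (LK LD1_c17 LD2_c57 LD3_c45)) = (LP (LK LD1_c27 LD2_c42 LD3_c14)) :=
  Lre_d IH (LK LD1_c17 LD2_c57 LD3_c45) (LK LD1_c27 LD2_c42 LD3_c14) Lrfl Lrfl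
theorem f719871 : Led Lsl_bt (LP (LK LD1_c11 LD2_c31 LD3_c9)) = (LP (LK LD1_c17 LD2_c57 LD3_c45)) :=
  Lgr Lrot95 (Lpe (f22801 IH) (Lpr_bf (f719869 IH) (Lpe (f157146 IH) (Lpn (LP (LK LD1_c17 LD2_c57 LD3_c45))))))
theorem f757800 : Led Lsl_ct (LP (LK LD1_c11 LD2_c31 LD3_c9)) = v17225 :=
  Lgr Lrot64 (Lpr_bt (f719871 IH) (Lpr_gf (K56.f428748 IH) (Lpe (K8.f157910 IH) (Lpr_ct (K51.f157917 IH) (Lpe (K55.f158089 IH) (Lpe (K55.f739891 IH) (Lpe (K55.f112333 IH) (Lpe (K4.f83782 IH) (Lpr_ct (f83783 IH) (Lpr_gf (f757798 IH) (Lpn v17225)))))))))))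
theorem f757801 : Led Lsl_cf (LP (LK LD1_c11 LD2_c31 LD3_c9)) = v17225 :=
  Lgr Lrot11 (Lpr_ct (f757800 IH) (Lpn v17225))
theorem f22802 : Led Lsl_dt (LP (LK LD1_c11 LD2_c31 LD3_c9)) = (LP (LK LD1_c20 LD2_c28 LD3_c2)) :=
  Lre_d IH (LK LD1_c11 LD2_c31 LD3_c9) (LK LD1_c20 LD2_c28 LD3_c2) Lrfl Lrfl
theorem f496521 : Led Lsl_ct (LP (LK LD1_c29 LD2_c27 LD3_c47)) = (LP (LK LD1_c20 LD2_c28 LD3_c2)) :=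
  Lre_c IH (LK LD1_c29 LD2_c27 LD3_c47) (LK LD1_c20 LD2_c28 LD3_c2) Lrfl Lrfl
theorem f137445 : Led Lsl_et (LP (LK LD1_c2 LD2_c53 LD3_c40)) = (LP (LK LD1_c5 LD2_c54 LD3_c36)) :=
  Lre_e IH (LK LD1_c2 LD2_c53 LD3_c40) (LK LD1_c5 LD2_c54 LD3_c36) Lrfl Lrfl
theorem f137446 : Led Lsl_at (LP (LK LD1_c5 LD2_c54 LD3_c36)) = (LP (LK LD1_c6 LD2_c15 LD3_c47)) :=
  Lgr Lrot80 (Lpe (f137445 IH) (Lpr_af (K8.f137432 IH) (Lpe (K4.f83775 IH) (Lpn (LP (LK LD1_c6 LD2_c15 LD3_c47))))))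
def v16187 : LQ := Led Lsl_ft (LP (LK LD1_c5 LD2_c54 LD3_c36))
theorem f746917 : Led Lsl_ft (LP (LK LD1_c5 LD2_c54 LD3_c36)) = v16187 :=
  Lrfl
theorem f746919 : Led Lsl_ff (LP (LK LD1_c5 LD2_c54 LD3_c36)) = v16187 :=
  Lgr Lrot3 (Lpr_ft (f746917 IH) (Lpn v16187))
theorem f757799 : Led Lsl_gt v16187 = v17225 :=
  Lgr Lrot5 (Lpe (f746919 IH) (Lpr_at (f137446 IH) (Lpr_gf (f757798 IH) (Lpn v17225))))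
theorem f137346 : Led Lsl_ct (LP (LK LD1_c5 LD2_c54 LD3_c36)) = (LP (LK LD1_c2 LD2_c53 LD3_c41)) :=
  Lre_c IH (LK LD1_c5 LD2_c54 LD3_c36) (LK LD1_c2 LD2_c53 LD3_c41) Lrfl Lrfl
theorem f746920 : Led Lsl_ct (LP (LK LD1_c5 LD2_c54 LD3_c39)) = v16187 :=
  Lgr Lrot40 (Lpe (K8.f138475 IH) (Lpe (f137346 IH) (Lpr_ff (f746919 IH) (Lpn v16187))))
theorem f137365 : Led Lsl_dt (LP (LK LD1_c12 LD2_c9 LD3_c19)) = (LP (LK LD1_c6 LD2_c15 LD3_c48)) :=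
  Lre_d IH (LK LD1_c12 LD2_c9 LD3_c19) (LK LD1_c6 LD2_c15 LD3_c48) Lrfl Lrfl
theorem f112349 : Led Lsl_dt (LP (LK LD1_c6 LD2_c15 LD3_c48)) = (LP (LK LD1_c12 LD2_c9 LD3_c19)) :=
  Lre_d IH (LK LD1_c6 LD2_c15 LD3_c48) (LK LD1_c12 LD2_c9 LD3_c19) Lrfl Lrfl
theorem f210104 : Led Lsl_et (LP (LK LD1_c6 LD2_c1 LD3_c58)) = (LP (LK LD1_c2 LD2_c57 LD3_c3)) :=
  Lre_e IH (LK LD1_c6 LD2_c1 LD3_c58) (LK LD1_c2 LD2_c57 LD3_c3) Lrfl Lrfl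
theorem f210105 : Led Lsl_dt (LP (LK LD1_c6 LD2_c1 LD3_c58)) = (LP (LK LD1_c11 LD2_c48 LD3_c28)) :=
  Lre_d IH (LK LD1_c6 LD2_c1 LD3_c58) (LK LD1_c11 LD2_c48 LD3_c28) Lrfl Lrfl
theorem f420584 : Led Lsl_gt (LP (LK LD1_c12 LD2_c9 LD3_c19)) = (LP (LK LD1_c11 LD2_c48 LD3_c28)) :=
  Lgr Lrot139 (Lpe (f112349 IH) (Lpe (K54.f83787 IH) (Lpe (K8.f137322 IH) (Lpr_dt (K6.f83789 IH) (Lpe (K4.f58961 IH) (Lpr_df (K52.f202115 IH) (Lpr_et (K56.f202612 IH) (Lpe (K56.f69122 IH) (Lpe (f210104 IH) (Lpr_dt (f210105 IH) (Lpn (LP (LK LD1_c11 LD2_c48 LD3_c28)))))))))))))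
theorem f420601 : Led Lsl_ct (LP (LK LD1_c11 LD2_c48 LD3_c28)) = (LP (LK LD1_c20 LD2_c50 LD3_c57)) :=
  Lre_c IH (LK LD1_c11 LD2_c48 LD3_c28) (LK LD1_c20 LD2_c50 LD3_c57) Lrfl Lrfl
theorem f757802 : Led Lsl_gf (LP (LK LD1_c29 LD2_c27 LD3_c47)) = (LP (LK LD1_c20 LD2_c50 LD3_c57)) :=
  Lgr Lrot104 (Lpr_ct (f496521 IH) (Lpe (f22802 IH) (Lpr_cf (f757801 IH) (Lpe (f757799 IH) (Lpe (f746920 IH) (Lpr_gf (K54.f137362 IH) (Lpe (f137365 IH) (Lpr_gt (f420584 IH) (Lpr_ct (f420601 IH) (Lpn (LP (LK LD1_c20 LD2_c50 LD3_c57))))))))))))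
theorem f757803 : Led Lsl_gt (LP (LK LD1_c20 LD2_c50 LD3_c57)) = (LP (LK LD1_c29 LD2_c27 LD3_c47)) :=
  Leop (Lpr_gf (f757802 IH) (Lpn (LP (LK LD1_c20 LD2_c50 LD3_c57))))
theorem seed_1139 : LEOK LG_g (LK LD1_c20 LD2_c50 LD3_c57) :=
  Leoe_g (LK LD1_c20 LD2_c50 LD3_c57) (f757803 IH)
def v17227 : LQ := Led Lsl_ft (LP (LK LD1_c6 LD2_c15 LD3_c47))
theorem f757808 : Led Lsl_ft (LP (LK LD1_c6 LD2_c15 LD3_c47)) = v17227 :=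
  Lrfl
def v17224 : LQ := Led Lsl_gt (LP (LK LD1_c6 LD2_c15 LD3_c47))
theorem f757797 : Led Lsl_gt (LP (LK LD1_c6 LD2_c15 LD3_c47)) = v17224 :=
  Lrfl
theorem f757809 : Led Lsl_af v16187 = v17227 :=
  Lgr Lrot45 (Lpe (f746919 IH) (Lpr_at (f137446 IH) (Lpr_ft (f757808 IH) (Lpn v17227))))
theorem f757813 : Led Lsl_gt v17224 = v16187 :=
  Lgr Lrot46 (Lpe (f757797 IH) (Lpr_ft (f757808 IH) (Lpe (f757809 IH) (Lpn v16187))))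
theorem f137343 : Led Lsl_bt (LP (LK LD1_c5 LD2_c54 LD3_c33)) = (LP (LK LD1_c2 LD2_c53 LD3_c41)) :=
  Lre_b IH (LK LD1_c5 LD2_c54 LD3_c33) (LK LD1_c2 LD2_c53 LD3_c41) Lrfl Lrfl
theorem f746901 : Led Lsl_bt (LP (LK LD1_c5 LD2_c54 LD3_c39)) = K55.v16183 :=
  Lgr Lrot35 (Lpe (K8.f138475 IH) (Lpe (f137343 IH) (Lpr_ff (K55.f746900 IH) (Lpn K55.v16183))))
theorem f741231 : Led Lsl_bt (LP (LK LD1_c5 LD2_c45 LD3_c61)) = K55.v15749 :=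
  Lgr Lrot95 (Lpe (K17.f225982 IH) (Lpe (f640402 IH) (Lpr_df (K56.f741227 IH) (Lpn K55.v15749))))
theorem f22786 : Led Lsl_gt (LP (LK LD1_c5 LD2_c52 LD3_c6)) = (LP (LK LD1_c11 LD2_c31 LD3_c8)) :=
  Lre_g IH (LK LD1_c5 LD2_c52 LD3_c6) (LK LD1_c11 LD2_c31 LD3_c8) Lrfl Lrfl
theorem f757814 : Led Lsl_cf v17224 = (LP (LK LD1_c11 LD2_c31 LD3_c8)) :=
  Lgr Lrot125 (Lpr_gt (f757813 IH) (Lpe (f746920 IH) (Lpr_bt (f746901 IH) (Lpe (K55.f746903 IH) (Lpe (f741231 IH) (Lpr_ct (K53.f289275 IH) (Lpr_gt (K53.f727616 IH) (Lpe (K53.f22779 IH) (Lpr_bt (K41.f22797 IH) (Lpr_gt (f22786 IH) (Lpn (LP (LK LD1_c11 LD2_c31 LD3_c8)))))))))))))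
theorem f137374 : Led Lsl_ct (LP (LK LD1_c2 LD2_c53 LD3_c41)) = (LP (LK LD1_c5 LD2_c54 LD3_c36)) :=
  Lre_c IH (LK LD1_c2 LD2_c53 LD3_c41) (LK LD1_c5 LD2_c54 LD3_c36) Lrfl Lrfl
theorem f746918 : Led Lsl_cf (LP (LK LD1_c5 LD2_c54 LD3_c39)) = v16187 :=
  Lgr Lrot108 (Lpr_ft (K6.f137352 IH) (Lpr_ct (f137374 IH) (Lpr_ft (f746917 IH) (Lpn v16187))))
theorem f137366 : Led Lsl_ct (LP (LK LD1_c20 LD2_c32 LD3_c61)) = (LP (LK LD1_c11 LD2_c34 LD3_c60)) :=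
  Lre_c IH (LK LD1_c20 LD2_c32 LD3_c61) (LK LD1_c11 LD2_c34 LD3_c60) Lrfl Lrfl
theorem f319515 : Led Lsl_gt (LP (LK LD1_c5 LD2_c37 LD3_c46)) = (LP (LK LD1_c11 LD2_c6 LD3_c58)) :=
  Lre_g IH (LK LD1_c5 LD2_c37 LD3_c46) (LK LD1_c11 LD2_c6 LD3_c58) Lrfl Lrfl
theorem f319516 : Led Lsl_ct (LP (LK LD1_c11 LD2_c6 LD3_c58)) = (LP (LK LD1_c20 LD2_c0 LD3_c17)) :=
  Lre_c IH (LK LD1_c11 LD2_c6 LD3_c58) (LK LD1_c20 LD2_c0 LD3_c17) Lrfl Lrfl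
theorem f757816 : Led Lsl_gf (LP (LK LD1_c20 LD2_c32 LD3_c61)) = (LP (LK LD1_c20 LD2_c0 LD3_c17)) :=
  Lgr Lrot104 (Lpr_ct (f137366 IH) (Lpe (K6.f137355 IH) (Lpr_cf (f746918 IH) (Lpe (f757813 IH) (Lpr_cf (f757814 IH) (Lpe (f22786 IH) (Lpe (f615426 IH) (Lpr_gt (f319515 IH) (Lpr_ct (f319516 IH) (Lpn (LP (LK LD1_c20 LD2_c0 LD3_c17))))))))))))
theorem f757817 : Led Lsl_gt (LP (LK LD1_c20 LD2_c0 LD3_c17)) = (LP (LK LD1_c20 LD2_c32 LD3_c61)) :=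
  Leop (Lpr_gf (f757816 IH) (Lpn (LP (LK LD1_c20 LD2_c0 LD3_c17))))
theorem seed_1140 : LEOK LG_g (LK LD1_c20 LD2_c0 LD3_c17) :=
  Leoe_g (LK LD1_c20 LD2_c0 LD3_c17) (f757817 IH)
def v5299 : LQ := Led Lsl_gf (LP (LK LD1_c3 LD2_c4 LD3_c60))
theorem f646949 : Led Lsl_gf (LP (LK LD1_c3 LD2_c4 LD3_c60)) = v5299 :=
  Lrfl
def v5253 : LQ := Led Lsl_gf (LP (LK LD1_c3 LD2_c2 LD3_c36))
theorem f646804 : Led Lsl_gf (LP (LK LD1_c3 LD2_c2 LD3_c36)) = v5253 :=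
  Lrfl
theorem f646950 : Led Lsl_gt (LP (LK LD1_c5 LD2_c54 LD3_c39)) = v5299 :=
  Lgr Lrot5 (Lpr_ft (K6.f137352 IH) (Lpr_at (K6.f137339 IH) (Lpr_gf (f646949 IH) (Lpn v5299))))
theorem f701505 : Led Lsl_gf v5253 = K52.v13170 :=
  Lgr Lrot47 (Lpe (f646804 IH) (Lpr_af (K52.f646806 IH) (Lpr_ff (K52.f701502 IH) (Lpn K52.v13170))))
theorem f739180 : v5253 = (LP (LK LD1_c5 LD2_c54 LD3_c39)) :=
  Lefun (Lecon (Lfl_gf (f701505 IH)) (K54.f739173 IH).symm) (Lfl_gf (K54.f137362 IH))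
theorem f739182 : (LP (LK LD1_c3 LD2_c2 LD3_c36)) = v5299 :=
  Lefun (Lecon (Lfl_gf (f646804 IH)) (f739180 IH)) (f646950 IH)
theorem f414629 : Led Lsl_bt (LP (LK LD1_c1 LD2_c27 LD3_c16)) = (LP (LK LD1_c3 LD2_c2 LD3_c36)) :=
  Lre_b IH (LK LD1_c1 LD2_c27 LD3_c16) (LK LD1_c3 LD2_c2 LD3_c36) Lrfl Lrfl
theorem f61493 : Led Lsl_gt (LP (LK LD1_c11 LD2_c24 LD3_c14)) = (LP (LK LD1_c5 LD2_c47 LD3_c8)) :=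
  Lre_g IH (LK LD1_c11 LD2_c24 LD3_c14) (LK LD1_c5 LD2_c47 LD3_c8) Lrfl Lrfl
theorem f757818 : Led Lsl_bf (LP (LK LD1_c11 LD2_c24 LD3_c14)) = (LP (LK LD1_c11 LD2_c31 LD3_c8)) :=
  Lgr Lrot156 (Lpr_gt (f61493 IH) (Lpe (K51.f61473 IH) (Lpe (K2.f61477 IH) (Lpe (K9.f66969 IH) (Lpr_cf (K17.f414630 IH) (Lpr_bt (f414629 IH) (Lpqs (f739182 IH) (Lpe (f646949 IH) (Lpr_ct (f83783 IH) (Lpr_gt (f757797 IH) (Lpr_cf (f757814 IH) (Lpn (LP (LK LD1_c11 LD2_c31 LD3_c8))))))))))))))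
theorem f757819 : Led Lsl_bt (LP (LK LD1_c11 LD2_c31 LD3_c8)) = (LP (LK LD1_c11 LD2_c24 LD3_c14)) :=
  Leop (Lpr_bf (f757818 IH) (Lpn (LP (LK LD1_c11 LD2_c31 LD3_c8))))
theorem seed_1141 : LEOK LG_b (LK LD1_c11 LD2_c31 LD3_c8) :=
  Leoe_b (LK LD1_c11 LD2_c31 LD3_c8) (f757819 IH)
theorem f757812 : Led Lsl_ff (LP (LK LD1_c6 LD2_c15 LD3_c47)) = v17227 :=
  Lgr Lrot3 (Lpr_ft (f757808 IH) (Lpn v17227))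
theorem f137347 : Led Lsl_af (LP (LK LD1_c5 LD2_c54 LD3_c36)) = (LP (LK LD1_c6 LD2_c15 LD3_c47)) :=
  Lgr Lrot68 (Lpr_ct (f137346 IH) (Lpr_at (K6.f137339 IH) (Lpr_ct (f83783 IH) (Lpn (LP (LK LD1_c6 LD2_c15 LD3_c47))))))
theorem f137464 : Led Lsl_gt (LP (LK LD1_c11 LD2_c34 LD3_c56)) = (LP (LK LD1_c5 LD2_c54 LD3_c36)) :=
  Lre_g IH (LK LD1_c11 LD2_c34 LD3_c56) (LK LD1_c5 LD2_c54 LD3_c36) Lrfl Lrfl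
theorem f757842 : Led Lsl_gf (LP (LK LD1_c11 LD2_c34 LD3_c56)) = v17227 :=
  Lgr Lrot47 (Lpr_gt (f137464 IH) (Lpr_af (f137347 IH) (Lpr_ff (f757812 IH) (Lpn v17227))))
theorem f757840 : Led Lsl_ct (LP (LK LD1_c6 LD2_c15 LD3_c50)) = v17227 :=
  Lgr Lrot40 (Lpe (K6.f137323 IH) (Lpe (K4.f83781 IH) (Lpr_ff (f757812 IH) (Lpn v17227))))
theorem f112342 : Led Lsl_bt (LP (LK LD1_c6 LD2_c15 LD3_c50)) = (LP (LK LD1_c12 LD2_c9 LD3_c4)) :=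
  Lre_b IH (LK LD1_c6 LD2_c15 LD3_c50) (LK LD1_c12 LD2_c9 LD3_c4) Lrfl Lrfl
theorem f714028 : Led Lsl_cf (LP (LK LD1_c11 LD2_c24 LD3_c19)) = (LP (LK LD1_c11 LD2_c40 LD3_c36)) :=
  Lgr Lrot11 (Lpr_ct (K55.f714026 IH) (Lpn (LP (LK LD1_c11 LD2_c40 LD3_c36))))
theorem f61508 : Led Lsl_ct (LP (LK LD1_c2 LD2_c49 LD3_c25)) = (LP (LK LD1_c5 LD2_c47 LD3_c4)) :=
  Lre_c IH (LK LD1_c2 LD2_c49 LD3_c25) (LK LD1_c5 LD2_c47 LD3_c4) Lrfl Lrfl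
theorem f61437 : Led Lsl_gt (LP (LK LD1_c5 LD2_c47 LD3_c6)) = (LP (LK LD1_c2 LD2_c49 LD3_c25)) :=
  Lre_g IH (LK LD1_c5 LD2_c47 LD3_c6) (LK LD1_c2 LD2_c49 LD3_c25) Lrfl Lrfl
theorem f61438 : Led Lsl_bt (LP (LK LD1_c11 LD2_c24 LD3_c27)) = (LP (LK LD1_c5 LD2_c47 LD3_c6)) :=
  Lre_b IH (LK LD1_c11 LD2_c24 LD3_c27) (LK LD1_c5 LD2_c47 LD3_c6) Lrfl Lrfl
theorem f757843 : Led Lsl_cf (LP (LK LD1_c11 LD2_c34 LD3_c56)) = (LP (LK LD1_c11 LD2_c24 LD3_c27)) :=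
  Lgr Lrot58 (Lpr_gf (f757842 IH) (Lpe (f757840 IH) (Lpr_bt (f112342 IH) (Lpr_gf (K54.f117877 IH) (Lpe (K54.f714975 IH) (Lpe (f714028 IH) (Lpe (K45.f61623 IH) (Lpe (f61508 IH) (Lpe (f61437 IH) (Lpe (f61438 IH) (Lpn (LP (LK LD1_c11 LD2_c24 LD3_c27)))))))))))))
theorem f757844 : Led Lsl_ct (LP (LK LD1_c11 LD2_c24 LD3_c27)) = (LP (LK LD1_c11 LD2_c34 LD3_c56)) :=
  Leop (Lpr_cf (f757843 IH) (Lpn (LP (LK LD1_c11 LD2_c24 LD3_c27))))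
theorem seed_1142 : LEOK LG_c (LK LD1_c11 LD2_c24 LD3_c27) :=
  Leoe_c (LK LD1_c11 LD2_c24 LD3_c27) (f757844 IH)
def v16181 : LQ := Led Lsl_gt (LP (LK LD1_c5 LD2_c54 LD3_c33))
theorem f746878 : Led Lsl_gt (LP (LK LD1_c5 LD2_c54 LD3_c33)) = v16181 :=
  Lrfl
def v16182 : LQ := Led Lsl_gf (LP (LK LD1_c5 LD2_c54 LD3_c33))
theorem f746879 : Led Lsl_gf (LP (LK LD1_c5 LD2_c54 LD3_c33)) = v16182 :=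
  Lrfl
def v15745 : LQ := Led Lsl_et (LP (LK LD1_c5 LD2_c45 LD3_c50))
theorem f741206 : Led Lsl_et (LP (LK LD1_c5 LD2_c45 LD3_c50)) = v15745 :=
  Lrfl
theorem f741209 : Led Lsl_ef (LP (LK LD1_c5 LD2_c45 LD3_c50)) = v15745 :=
  Lgr Lrot88 (Lpr_et (f741206 IH) (Lpn v15745))
theorem f746880 : Led Lsl_dt v15745 = v16182 :=
  Lgr Lrot136 (Lpe (f741209 IH) (Lpr_gf (K53.f698754 IH) (Lpq (K53.f715029 IH) (Lpe (K38.f181289 IH) (Lpr_dt (K30.f181291 IH) (Lpe (K30.f174542 IH) (Lpe (K42.f181347 IH) (Lpe (K40.f181348 IH) (Lpe (K40.f280565 IH) (Lpr_dt (K40.f561577 IH) (Lpr_gf (f746879 IH) (Lpn v16182))))))))))))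
theorem f746883 : Led Lsl_df v15745 = v16182 :=
  Lgr Lrot38 (Lpr_dt (f746880 IH) (Lpn v16182))
theorem f741208 : Led Lsl_bf (LP (LK LD1_c12 LD2_c3 LD3_c32)) = v15745 :=
  Lgr Lrot96 (Lpr_et (K51.f706200 IH) (Lpr_bt (K53.f640277 IH) (Lpr_et (f741206 IH) (Lpn v15745))))
theorem f746885 : Led Lsl_bt (LP (LK LD1_c6 LD2_c11 LD3_c51)) = v16182 :=
  Lgr Lrot95 (Lpe (K50.f61467 IH) (Lpr_bf (f741208 IH) (Lpr_df (f746883 IH) (Lpn v16182))))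
def v5246 : LQ := Led Lsl_bt (LP (LK LD1_c3 LD2_c2 LD3_c30))
theorem f646784 : Led Lsl_bt (LP (LK LD1_c3 LD2_c2 LD3_c30)) = v5246 :=
  Lrfl
theorem f646785 : Led Lsl_bf (LP (LK LD1_c3 LD2_c2 LD3_c30)) = v5246 :=
  Lgr Lrot24 (Lpr_bt (f646784 IH) (Lpn v5246))
theorem f746886 : Led Lsl_ff v5246 = v16182 :=
  Lgr Lrot25 (Lpe (f646785 IH) (Lpr_ft (K51.f646789 IH) (Lpqs (K51.f706260 IH) (Lpr_bt (f746885 IH) (Lpn v16182)))))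
theorem f746888 : Led Lsl_at v5246 = v16181 :=
  Lgr Lrot26 (Lpr_ff (f746886 IH) (Lpe (f746879 IH) (Lpr_gt (f746878 IH) (Lpn v16181))))
theorem f741207 : Led Lsl_af (LP (LK LD1_c5 LD2_c45 LD3_c53)) = v15745 :=
  Lgr Lrot50 (Lpr_et (K55.f639129 IH) (Lpr_at (K53.f495928 IH) (Lpr_et (f741206 IH) (Lpn v15745))))
theorem f746884 : Led Lsl_at K55.v15749 = v16182 :=
  Lgr Lrot51 (Lpe (K55.f741225 IH) (Lpr_af (f741207 IH) (Lpr_df (f746883 IH) (Lpn v16182))))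
theorem f746891 : Led Lsl_ff K55.v15749 = v16181 :=
  Lgr Lrot30 (Lpr_at (f746884 IH) (Lpe (f746886 IH) (Lpr_at (f746888 IH) (Lpn v16181))))
theorem f408463 : Led Lsl_bt (LP (LK LD1_c2 LD2_c48 LD3_c45)) = (LP (LK LD1_c5 LD2_c45 LD3_c53)) :=
  Lre_b IH (LK LD1_c2 LD2_c48 LD3_c45) (LK LD1_c5 LD2_c45 LD3_c53) Lrfl Lrfl
theorem f741226 : Led Lsl_bf (LP (LK LD1_c5 LD2_c45 LD3_c61)) = K55.v15749 :=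
  Lgr Lrot93 (Lpr_dt (K50.f289272 IH) (Lpr_bt (f408463 IH) (Lpr_dt (K55.f741225 IH) (Lpn K55.v15749))))
theorem f746892 : Led Lsl_bt (LP (LK LD1_c9 LD2_c6 LD3_c10)) = v16181 :=
  Lgr Lrot35 (Lpe (K50.f639747 IH) (Lpr_bf (f741226 IH) (Lpr_ff (f746891 IH) (Lpn v16181))))
theorem f727610 : Led Lsl_ct (LP (LK LD1_c9 LD2_c6 LD3_c10)) = (LP (LK LD1_c11 LD2_c28 LD3_c39)) :=
  Lgr Lrot59 (Lpr_cf (K53.f727608 IH) (Lpn (LP (LK LD1_c11 LD2_c28 LD3_c39))))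
def v16059 : LQ := Led Lsl_ft (LP (LK LD1_c5 LD2_c52 LD3_c8))
theorem f745072 : Led Lsl_ft (LP (LK LD1_c5 LD2_c52 LD3_c8)) = v16059 :=
  Lrfl
theorem f745076 : Led Lsl_ff (LP (LK LD1_c5 LD2_c52 LD3_c8)) = v16059 :=
  Lgr Lrot3 (Lpr_ft (f745072 IH) (Lpn v16059))
theorem f496480 : Led Lsl_af (LP (LK LD1_c5 LD2_c50 LD3_c7)) = (LP (LK LD1_c5 LD2_c52 LD3_c8)) :=
  Lgr Lrot68 (Lpr_ct (K51.f496472 IH) (Lpr_at (K32.f496474 IH) (Lpr_ct (K53.f22779 IH) (Lpn (LP (LK LD1_c5 LD2_c52 LD3_c8))))))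
theorem f745080 : Led Lsl_gf (LP (LK LD1_c11 LD2_c28 LD3_c40)) = v16059 :=
  Lgr Lrot47 (Lpr_gt (K53.f499953 IH) (Lpr_af (f496480 IH) (Lpr_ff (f745076 IH) (Lpn v16059))))
theorem f727614 : Led Lsl_ff (LP (LK LD1_c11 LD2_c22 LD3_c20)) = (LP (LK LD1_c11 LD2_c28 LD3_c39)) :=
  Lgr Lrot3 (Lpr_ft (K53.f727612 IH) (Lpn (LP (LK LD1_c11 LD2_c28 LD3_c39))))
theorem f727643 : Led Lsl_at (LP (LK LD1_c11 LD2_c22 LD3_c20)) = (LP (LK LD1_c11 LD2_c28 LD3_c40)) :=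
  Lgr Lrot66 (Lpr_ff (f727614 IH) (Lpe (K53.f727604 IH) (Lpr_ff (K53.f727530 IH) (Lpn (LP (LK LD1_c11 LD2_c28 LD3_c40))))))
theorem f745081 : Led Lsl_gt (LP (LK LD1_c11 LD2_c28 LD3_c39)) = v16059 :=
  Lgr Lrot5 (Lpe (f727614 IH) (Lpr_at (f727643 IH) (Lpr_gf (f745080 IH) (Lpn v16059))))
theorem f745078 : Led Lsl_ct (LP (LK LD1_c5 LD2_c52 LD3_c10)) = v16059 :=
  Lgr Lrot40 (Lpe (K32.f496453 IH) (Lpe (K54.f22798 IH) (Lpr_ff (f745076 IH) (Lpn v16059))))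
theorem f22791 : Led Lsl_bt (LP (LK LD1_c5 LD2_c52 LD3_c10)) = (LP (LK LD1_c11 LD2_c31 LD3_c10)) :=
  Lre_b IH (LK LD1_c5 LD2_c52 LD3_c10) (LK LD1_c11 LD2_c31 LD3_c10) Lrfl Lrfl
theorem f757847 : Led Lsl_gt (LP (LK LD1_c11 LD2_c31 LD3_c10)) = (LP (LK LD1_c11 LD2_c24 LD3_c27)) :=
  Lgr Lrot82 (Lpe (f22791 IH) (Lpr_ct (f745078 IH) (Lpe (f745081 IH) (Lpe (f727610 IH) (Lpr_bt (f746892 IH) (Lpe (f746878 IH) (Lpe (K40.f138578 IH) (Lpr_ct (f137374 IH) (Lpe (f137464 IH) (Lpr_cf (f757843 IH) (Lpn (LP (LK LD1_c11 LD2_c24 LD3_c27)))))))))))))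
theorem f757848 : Led Lsl_gt (LP (LK LD1_c11 LD2_c31 LD3_c10)) = (LP (LK LD1_c11 LD2_c24 LD3_c27)) :=
  Leop (Lpe (f757847 IH) (Lpn (LP (LK LD1_c11 LD2_c31 LD3_c10))))
theorem seed_1143 : LEOK LG_g (LK LD1_c11 LD2_c31 LD3_c10) :=
  Leoe_g (LK LD1_c11 LD2_c31 LD3_c10) (f757848 IH)
def v17265 : LQ := Led Lsl_gf (LP (LK LD1_c6 LD2_c16 LD3_c57))
theorem f758012 : Led Lsl_gf (LP (LK LD1_c6 LD2_c16 LD3_c57)) = v17265 :=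
  Lrfl
theorem f204465 : Led Lsl_ct (LP (LK LD1_c6 LD2_c16 LD3_c57)) = (LP (LK LD1_c3 LD2_c5 LD3_c35)) :=
  Lre_c IH (LK LD1_c6 LD2_c16 LD3_c57) (LK LD1_c3 LD2_c5 LD3_c35) Lrfl Lrfl
theorem f204448 : Led Lsl_dt (LP (LK LD1_c3 LD2_c5 LD3_c35)) = (LP (LK LD1_c4 LD2_c42 LD3_c61)) :=
  Lgr Lrot77 (Lpe (K11.f204447 IH) (Lpe (K11.f59052 IH) (Lpr_ef (K11.f204442 IH) (Lpe (K11.f59044 IH) (Lpe (K11.f104841 IH) (Lpn (LP (LK LD1_c4 LD2_c42 LD3_c61))))))))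
theorem f210260 : Led Lsl_cf (LP (LK LD1_c4 LD2_c42 LD3_c61)) = (LP (LK LD1_c9 LD2_c18 LD3_c3)) :=
  Lgr Lrot108 (Lpr_ft (K40.f104849 IH) (Lpr_ct (K11.f104851 IH) (Lpr_ft (K11.f210193 IH) (Lpn (LP (LK LD1_c9 LD2_c18 LD3_c3))))))
theorem f758013 : Led Lsl_ct (LP (LK LD1_c9 LD2_c5 LD3_c37)) = v17265 :=
  Lgr Lrot152 (Lpr_gf (K55.f615697 IH) (Lpe (K41.f567732 IH) (Lpr_gt (K56.f437265 IH) (Lpr_ct (K56.f437266 IH) (Lpr_gt (K56.f737638 IH) (Lpe (f210260 IH) (Lpe (f204448 IH) (Lpe (f204465 IH) (Lpr_gf (f758012 IH) (Lpn v17265))))))))))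
def v15902 : LQ := Led Lsl_ct (LP (LK LD1_c5 LD2_c49 LD3_c36))
theorem f744133 : Led Lsl_ct (LP (LK LD1_c5 LD2_c49 LD3_c36)) = v15902 :=
  Lrfl
theorem f744134 : Led Lsl_cf (LP (LK LD1_c5 LD2_c49 LD3_c36)) = v15902 :=
  Lgr Lrot11 (Lpr_ct (f744133 IH) (Lpn v15902))
theorem f758017 : Led Lsl_ff v15902 = v17265 :=
  Lgr Lrot23 (Lpe (f744134 IH) (Lpr_ft (K55.f744137 IH) (Lpqs (K55.f746138 IH) (Lpr_ct (f758013 IH) (Lpn v17265)))))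
def v17264 : LQ := Led Lsl_gt (LP (LK LD1_c6 LD2_c16 LD3_c57))
theorem f758011 : Led Lsl_gt (LP (LK LD1_c6 LD2_c16 LD3_c57)) = v17264 :=
  Lrfl
theorem f758019 : Led Lsl_at v15902 = v17264 :=
  Lgr Lrot26 (Lpr_ff (f758017 IH) (Lpe (f758012 IH) (Lpr_gt (f758011 IH) (Lpn v17264))))
theorem f758021 : Led Lsl_cf K55.v15901 = v17264 :=
  Lgr Lrot1 (Lpe (K55.f744130 IH) (Lpr_ct (f744133 IH) (Lpr_at (f758019 IH) (Lpn v17264))))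
theorem f746221 : K55.v15901 = (LP (LK LD1_c9 LD2_c5 LD3_c36)) :=
  (Llr Lrot26 (Lpe (K55.f744129 IH) (Lpr_ff (K55.f744139 IH) (Lpqs (K55.f746138 IH) (Lpr_gt (K50.f163576 IH) (Lpr_gt (K56.f494242 IH) (Lpn (LP (LK LD1_c9 LD2_c5 LD3_c36))))))))).symm
def v15867 : LQ := Led Lsl_ct (LP (LK LD1_c5 LD2_c49 LD3_c1))
theorem f743984 : Led Lsl_ct (LP (LK LD1_c5 LD2_c49 LD3_c1)) = v15867 :=
  Lrfl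
theorem f743986 : Led Lsl_cf (LP (LK LD1_c5 LD2_c49 LD3_c1)) = v15867 :=
  Lgr Lrot11 (Lpr_ct (f743984 IH) (Lpn v15867))
theorem f123030 : Led Lsl_bt (LP (LK LD1_c7 LD2_c51 LD3_c23)) = (LP (LK LD1_c14 LD2_c48 LD3_c56)) :=
  Lre_b IH (LK LD1_c7 LD2_c51 LD3_c23) (LK LD1_c14 LD2_c48 LD3_c56) Lrfl Lrfl
theorem f123029 : Led Lsl_at (LP (LK LD1_c3 LD2_c55 LD3_c12)) = (LP (LK LD1_c7 LD2_c51 LD3_c23)) :=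
  Lre_a IH (LK LD1_c3 LD2_c55 LD3_c12) (LK LD1_c7 LD2_c51 LD3_c23) Lrfl Lrfl
theorem f144542 : Led Lsl_ct (LP (LK LD1_c7 LD2_c51 LD3_c23)) = (LP (LK LD1_c6 LD2_c42 LD3_c17)) :=
  Lgr Lrot111 (Lpe (f123029 IH) (Lpe (K56.f123307 IH) (Lpr_af (K56.f144537 IH) (Lpn (LP (LK LD1_c6 LD2_c42 LD3_c17))))))
theorem f144612 : Led Lsl_cf (LP (LK LD1_c7 LD2_c51 LD3_c23)) = (LP (LK LD1_c6 LD2_c42 LD3_c17)) :=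
  Lgr Lrot11 (Lpr_ct (f144542 IH) (Lpn (LP (LK LD1_c6 LD2_c42 LD3_c17))))
theorem f743985 : Led Lsl_bf (LP (LK LD1_c6 LD2_c42 LD3_c17)) = v15867 :=
  Lgr Lrot90 (Lpe (f144612 IH) (Lpr_bt (f123030 IH) (Lpe (K48.f615540 IH) (Lpr_bt (K56.f567730 IH) (Lpr_ct (f743984 IH) (Lpn v15867))))))
theorem f122975 : Led Lsl_gt (LP (LK LD1_c7 LD2_c51 LD3_c60)) = (LP (LK LD1_c3 LD2_c55 LD3_c8)) :=
  Lre_g IH (LK LD1_c7 LD2_c51 LD3_c60) (LK LD1_c3 LD2_c55 LD3_c8) Lrfl Lrfl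
theorem f144577 : Led Lsl_ft (LP (LK LD1_c6 LD2_c42 LD3_c17)) = (LP (LK LD1_c3 LD2_c19 LD3_c7)) :=
  Lre_f IH (LK LD1_c6 LD2_c42 LD3_c17) (LK LD1_c3 LD2_c19 LD3_c7) Lrfl Lrfl
theorem f144578 : Led Lsl_gf (LP (LK LD1_c7 LD2_c51 LD3_c60)) = (LP (LK LD1_c6 LD2_c42 LD3_c17)) :=
  Lgr Lrot47 (Lpr_gt (f122975 IH) (Lpr_af (K56.f144561 IH) (Lpe (f144577 IH) (Lpn (LP (LK LD1_c6 LD2_c42 LD3_c17))))))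
theorem f122976 : Led Lsl_bt (LP (LK LD1_c14 LD2_c50 LD3_c9)) = (LP (LK LD1_c7 LD2_c51 LD3_c60)) :=
  Lre_b IH (LK LD1_c14 LD2_c50 LD3_c9) (LK LD1_c7 LD2_c51 LD3_c60) Lrfl Lrfl
theorem f122977 : Led Lsl_ct (LP (LK LD1_c14 LD2_c50 LD3_c9)) = (LP (LK LD1_c24 LD2_c36 LD3_c27)) :=
  Lre_c IH (LK LD1_c14 LD2_c50 LD3_c9) (LK LD1_c24 LD2_c36 LD3_c27) Lrfl Lrfl
theorem f419047 : Led Lsl_bt (LP (LK LD1_c12 LD2_c10 LD3_c48)) = (LP (LK LD1_c6 LD2_c16 LD3_c57)) :=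
  Lre_b IH (LK LD1_c12 LD2_c10 LD3_c48) (LK LD1_c6 LD2_c16 LD3_c57) Lrfl Lrfl
theorem f604786 : Led Lsl_ct (LP (LK LD1_c12 LD2_c10 LD3_c48)) = (LP (LK LD1_c21 LD2_c16 LD3_c7)) :=
  Lre_c IH (LK LD1_c12 LD2_c10 LD3_c48) (LK LD1_c21 LD2_c16 LD3_c7) Lrfl Lrfl
theorem f758024 : Led Lsl_gt (LP (LK LD1_c24 LD2_c36 LD3_c27)) = (LP (LK LD1_c21 LD2_c16 LD3_c7)) :=
  Lgr Lrot65 (Lpe (f122977 IH) (Lpr_bt (f122976 IH) (Lpr_gf (f144578 IH) (Lpr_bf (f743985 IH) (Lpe (f743986 IH) (Lpe (K56.f615694 IH) (Lpq (f746221 IH) (Lpr_cf (f758021 IH) (Lpe (f758011 IH) (Lpe (f419047 IH) (Lpr_ct (f604786 IH) (Lpn (LP (LK LD1_c21 LD2_c16 LD3_c7))))))))))))))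
theorem f758025 : Led Lsl_gt (LP (LK LD1_c24 LD2_c36 LD3_c27)) = (LP (LK LD1_c21 LD2_c16 LD3_c7)) :=
  Leop (Lpe (f758024 IH) (Lpn (LP (LK LD1_c24 LD2_c36 LD3_c27))))
theorem seed_1144 : LEOK LG_g (LK LD1_c24 LD2_c36 LD3_c27) :=
  Leoe_g (LK LD1_c24 LD2_c36 LD3_c27) (f758025 IH)
def v17272 : LQ := Led Lsl_dt (LP (LK LD1_c6 LD2_c16 LD3_c59))
theorem f758054 : Led Lsl_dt (LP (LK LD1_c6 LD2_c16 LD3_c59)) = v17272 :=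
  Lrfl
theorem f758055 : Led Lsl_df (LP (LK LD1_c6 LD2_c16 LD3_c59)) = v17272 :=
  Lgr Lrot38 (Lpr_dt (f758054 IH) (Lpn v17272))
theorem f204467 : Led Lsl_gt (LP (LK LD1_c6 LD2_c16 LD3_c59)) = (LP (LK LD1_c3 LD2_c5 LD3_c35)) :=
  Lre_g IH (LK LD1_c6 LD2_c16 LD3_c59) (LK LD1_c3 LD2_c5 LD3_c35) Lrfl Lrfl
theorem f209985 : Led Lsl_dt (LP (LK LD1_c2 LD2_c15 LD3_c54)) = (LP (LK LD1_c1 LD2_c4 LD3_c56)) :=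
  Lre_d IH (LK LD1_c2 LD2_c15 LD3_c54) (LK LD1_c1 LD2_c4 LD3_c56) Lrfl Lrfl
theorem f494388 : Led Lsl_et (LP (LK LD1_c2 LD2_c15 LD3_c54)) = (LP (LK LD1_c4 LD2_c37 LD3_c24)) :=
  Lre_e IH (LK LD1_c2 LD2_c15 LD3_c54) (LK LD1_c4 LD2_c37 LD3_c24) Lrfl Lrfl
theorem f758056 : Led Lsl_ef (LP (LK LD1_c9 LD2_c10 LD3_c24)) = v17272 :=
  Lgr Lrot17 (Lpe (K55.f494389 IH) (Lpe (f494388 IH) (Lpr_dt (f209985 IH) (Lpqs (K35.f537228 IH) (Lpe (K36.f452913 IH) (Lpe (K36.f193816 IH) (Lpr_gf (K36.f204805 IH) (Lpe (K11.f104841 IH) (Lpe (K11.f204459 IH) (Lpe (f204467 IH) (Lpr_df (f758055 IH) (Lpn v17272))))))))))))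
theorem f758059 : Led Lsl_et (LP (LK LD1_c9 LD2_c10 LD3_c24)) = v17272 :=
  Lgr Lrot87 (Lpr_ef (f758056 IH) (Lpn v17272))
theorem f758060 : Led Lsl_af K55.v16285 = v17272 :=
  Lgr Lrot50 (Lpe (K55.f747532 IH) (Lpr_at (K55.f747526 IH) (Lpq (K55.f747562 IH) (Lpr_et (f758059 IH) (Lpn v17272)))))
def v17271 : LQ := Led Lsl_ft (LP (LK LD1_c6 LD2_c16 LD3_c58))
theorem f758050 : Led Lsl_ft (LP (LK LD1_c6 LD2_c16 LD3_c58)) = v17271 :=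
  Lrfl
def v17266 : LQ := Led Lsl_at (LP (LK LD1_c6 LD2_c16 LD3_c58))
theorem f758036 : Led Lsl_at (LP (LK LD1_c6 LD2_c16 LD3_c58)) = v17266 :=
  Lrfl
theorem f758037 : Led Lsl_af (LP (LK LD1_c6 LD2_c16 LD3_c58)) = v17266 :=
  Lgr Lrot0 (Lpr_at (f758036 IH) (Lpn v17266))
theorem f204464 : Led Lsl_gt (LP (LK LD1_c3 LD2_c5 LD3_c35)) = (LP (LK LD1_c6 LD2_c16 LD3_c58)) :=
  Lre_g IH (LK LD1_c3 LD2_c5 LD3_c35) (LK LD1_c6 LD2_c16 LD3_c58) Lrfl Lrfl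
theorem f758038 : Led Lsl_ft (LP (LK LD1_c6 LD2_c16 LD3_c59)) = v17266 :=
  Lgr Lrot2 (Lpr_gt (f204467 IH) (Lpr_gt (f204464 IH) (Lpr_af (f758037 IH) (Lpn v17266))))
theorem f758051 : Led Lsl_af (LP (LK LD1_c6 LD2_c16 LD3_c59)) = v17271 :=
  Lgr Lrot45 (Lpr_ft (f758038 IH) (Lpe (f758037 IH) (Lpr_ft (f758050 IH) (Lpn v17271))))
theorem f758062 : (LP (LK LD1_c9 LD2_c18 LD3_c6)) = v17271 :=
  (Llr Lrot44 (Lpr_df (K55.f747534 IH) (Lpr_af (f758060 IH) (Lpe (f758054 IH) (Lpr_af (f758051 IH) (Lpn v17271)))))).symm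
theorem f758063 : Led Lsl_at (LP (LK LD1_c9 LD2_c18 LD3_c6)) = (LP (LK LD1_c6 LD2_c16 LD3_c59)) :=
  Leop (Lpr_af (f758051 IH) (Lpq (f758062 IH) (Lpn (LP (LK LD1_c9 LD2_c18 LD3_c6)))))
theorem seed_1145 : LEOK LG_a (LK LD1_c9 LD2_c18 LD3_c6) :=
  Leoe_a (LK LD1_c9 LD2_c18 LD3_c6) (f758063 IH)
def v17291 : LQ := Led Lsl_et (LP (LK LD1_c6 LD2_c17 LD3_c26))
theorem f758190 : Led Lsl_et (LP (LK LD1_c6 LD2_c17 LD3_c26)) = v17291 :=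
  Lrfl
theorem f758192 : Led Lsl_ef (LP (LK LD1_c6 LD2_c17 LD3_c26)) = v17291 :=
  Lgr Lrot88 (Lpr_et (f758190 IH) (Lpn v17291))
theorem f58252 : Led Lsl_et (LP (LK LD1_c2 LD2_c17 LD3_c15)) = (LP (LK LD1_c4 LD2_c40 LD3_c19)) :=
  Lre_e IH (LK LD1_c2 LD2_c17 LD3_c15) (LK LD1_c4 LD2_c40 LD3_c19) Lrfl Lrfl
theorem f58253 : Led Lsl_ft (LP (LK LD1_c4 LD2_c40 LD3_c19)) = (LP (LK LD1_c9 LD2_c16 LD3_c6)) :=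
  Lre_f IH (LK LD1_c4 LD2_c40 LD3_c19) (LK LD1_c9 LD2_c16 LD3_c6) Lrfl Lrfl
theorem f58229 : Led Lsl_et (LP (LK LD1_c6 LD2_c17 LD3_c21)) = (LP (LK LD1_c3 LD2_c5 LD3_c53)) :=
  Lre_e IH (LK LD1_c6 LD2_c17 LD3_c21) (LK LD1_c3 LD2_c5 LD3_c53) Lrfl Lrfl
theorem f58254 : Led Lsl_ft (LP (LK LD1_c12 LD2_c11 LD3_c15)) = (LP (LK LD1_c6 LD2_c17 LD3_c21)) :=
  Lre_f IH (LK LD1_c12 LD2_c11 LD3_c15) (LK LD1_c6 LD2_c17 LD3_c21) Lrfl Lrfl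
theorem f58255 : Led Lsl_et (LP (LK LD1_c9 LD2_c16 LD3_c6)) = (LP (LK LD1_c12 LD2_c11 LD3_c15)) :=
  Lgr Lrot69 (Lpe (f58253 IH) (Lpe (f58252 IH) (Lpr_ff (K1.f58237 IH) (Lpe (f58229 IH) (Lpe (f58254 IH) (Lpn (LP (LK LD1_c12 LD2_c11 LD3_c15))))))))
theorem f141128 : Led Lsl_dt (LP (LK LD1_c2 LD2_c21 LD3_c27)) = (LP (LK LD1_c4 LD2_c47 LD3_c10)) :=
  Lre_d IH (LK LD1_c2 LD2_c21 LD3_c27) (LK LD1_c4 LD2_c47 LD3_c10) Lrfl Lrfl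
theorem f141129 : Led Lsl_gt (LP (LK LD1_c4 LD2_c47 LD3_c10)) = (LP (LK LD1_c9 LD2_c23 LD3_c36)) :=
  Lre_g IH (LK LD1_c4 LD2_c47 LD3_c10) (LK LD1_c9 LD2_c23 LD3_c36) Lrfl Lrfl
theorem f758194 : Led Lsl_df (LP (LK LD1_c9 LD2_c23 LD3_c36)) = v17291 :=
  Lgr Lrot132 (Lpe (f141129 IH) (Lpe (f141128 IH) (Lpe (K50.f79500 IH) (Lpr_ef (K50.f703579 IH) (Lpe (K50.f703581 IH) (Lpe (K50.f79501 IH) (Lpe (K50.f58293 IH) (Lpr_et (f58255 IH) (Lpe (K52.f100189 IH) (Lpr_ef (f758192 IH) (Lpn v17291)))))))))))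
theorem f758196 : Led Lsl_et (LP (LK LD1_c9 LD2_c23 LD3_c36)) = (LP (LK LD1_c17 LD2_c20 LD3_c27)) :=
  Lre_e IH (LK LD1_c9 LD2_c23 LD3_c36) (LK LD1_c17 LD2_c20 LD3_c27) Lrfl Lrfl
theorem f708893 : Led Lsl_dt (LP (LK LD1_c12 LD2_c11 LD3_c23)) = (LP (LK LD1_c6 LD2_c17 LD3_c26)) :=
  Lre_d IH (LK LD1_c12 LD2_c11 LD3_c23) (LK LD1_c6 LD2_c17 LD3_c26) Lrfl Lrfl
theorem f758191 : Led Lsl_et (LP (LK LD1_c21 LD2_c16 LD3_c45)) = (LP (LK LD1_c12 LD2_c11 LD3_c23)) :=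
  Lre_e IH (LK LD1_c21 LD2_c16 LD3_c45) (LK LD1_c12 LD2_c11 LD3_c23) Lrfl Lrfl
theorem f758197 : Led Lsl_dt (LP (LK LD1_c17 LD2_c20 LD3_c27)) = (LP (LK LD1_c21 LD2_c16 LD3_c45)) :=
  Lgr Lrot77 (Lpe (f758196 IH) (Lpr_df (f758194 IH) (Lpe (f758190 IH) (Lpe (f708893 IH) (Lpe (f758191 IH) (Lpn (LP (LK LD1_c21 LD2_c16 LD3_c45))))))))
theorem f758198 : Led Lsl_dt (LP (LK LD1_c17 LD2_c20 LD3_c27)) = (LP (LK LD1_c21 LD2_c16 LD3_c45)) :=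
  Leop (Lpe (f758197 IH) (Lpn (LP (LK LD1_c17 LD2_c20 LD3_c27))))
theorem seed_1146 : LEOK LG_d (LK LD1_c17 LD2_c20 LD3_c27) :=
  Leoe_d (LK LD1_c17 LD2_c20 LD3_c27) (f758198 IH)
def v5318 : LQ := Led Lsl_ft (LP (LK LD1_c3 LD2_c5 LD3_c58))
theorem f647053 : Led Lsl_ft (LP (LK LD1_c3 LD2_c5 LD3_c58)) = v5318 :=
  Lrfl
theorem f647055 : Led Lsl_ff (LP (LK LD1_c3 LD2_c5 LD3_c58)) = v5318 :=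
  Lgr Lrot3 (Lpr_ft (f647053 IH) (Lpn v5318))
def v5316 : LQ := Led Lsl_at (LP (LK LD1_c3 LD2_c5 LD3_c58))
theorem f647038 : Led Lsl_at (LP (LK LD1_c3 LD2_c5 LD3_c58)) = v5316 :=
  Lrfl
theorem f647039 : Led Lsl_af (LP (LK LD1_c3 LD2_c5 LD3_c58)) = v5316 :=
  Lgr Lrot0 (Lpr_at (f647038 IH) (Lpn v5316))
theorem f99147 : Led Lsl_gt (LP (LK LD1_c3 LD2_c5 LD3_c59)) = (LP (LK LD1_c1 LD2_c29 LD3_c4)) :=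
  Lre_g IH (LK LD1_c3 LD2_c5 LD3_c59) (LK LD1_c1 LD2_c29 LD3_c4) Lrfl Lrfl
theorem f647041 : Led Lsl_ft (LP (LK LD1_c3 LD2_c5 LD3_c59)) = v5316 :=
  Lgr Lrot2 (Lpr_gt (f99147 IH) (Lpr_gt (K56.f58493 IH) (Lpr_af (f647039 IH) (Lpn v5316))))
theorem f647045 : Led Lsl_ff (LP (LK LD1_c3 LD2_c5 LD3_c59)) = v5316 :=
  Lgr Lrot3 (Lpr_ft (f647041 IH) (Lpn v5316))
theorem f647057 : Led Lsl_at (LP (LK LD1_c3 LD2_c5 LD3_c59)) = v5318 :=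
  Lgr Lrot66 (Lpr_ff (f647045 IH) (Lpe (f647038 IH) (Lpr_ff (f647055 IH) (Lpn v5318))))
def v17302 : LQ := Led Lsl_at (LP (LK LD1_c6 LD2_c17 LD3_c32))
theorem f758252 : Led Lsl_at (LP (LK LD1_c6 LD2_c17 LD3_c32)) = v17302 :=
  Lrfl
theorem f58494 : Led Lsl_dt (LP (LK LD1_c3 LD2_c5 LD3_c58)) = (LP (LK LD1_c6 LD2_c17 LD3_c32)) :=
  Lre_d IH (LK LD1_c3 LD2_c5 LD3_c58) (LK LD1_c6 LD2_c17 LD3_c32) Lrfl Lrfl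
theorem f758254 : Led Lsl_df v5316 = v17302 :=
  Lgr Lrot18 (Lpe (f647039 IH) (Lpr_dt (f58494 IH) (Lpr_at (f758252 IH) (Lpn v17302))))
theorem f58325 : Led Lsl_dt (LP (LK LD1_c3 LD2_c5 LD3_c59)) = (LP (LK LD1_c6 LD2_c17 LD3_c34)) :=
  Lre_d IH (LK LD1_c3 LD2_c5 LD3_c59) (LK LD1_c6 LD2_c17 LD3_c34) Lrfl Lrfl
theorem f758256 : Led Lsl_ft (LP (LK LD1_c6 LD2_c17 LD3_c34)) = v17302 :=
  Lgr Lrot54 (Lpe (f58325 IH) (Lpr_ff (f647045 IH) (Lpr_df (f758254 IH) (Lpn v17302))))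
theorem f758253 : Led Lsl_af (LP (LK LD1_c6 LD2_c17 LD3_c32)) = v17302 :=
  Lgr Lrot0 (Lpr_at (f758252 IH) (Lpn v17302))
def v17301 : LQ := Led Lsl_gf (LP (LK LD1_c6 LD2_c17 LD3_c32))
theorem f758251 : Led Lsl_gf (LP (LK LD1_c6 LD2_c17 LD3_c32)) = v17301 :=
  Lrfl
theorem f758258 : Led Lsl_gt (LP (LK LD1_c6 LD2_c17 LD3_c34)) = v17301 :=
  Lgr Lrot5 (Lpr_ft (f758256 IH) (Lpe (f758253 IH) (Lpr_gf (f758251 IH) (Lpn v17301))))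
theorem f647046 : Led Lsl_et (LP (LK LD1_c3 LD2_c5 LD3_c59)) = (LP (LK LD1_c6 LD2_c17 LD3_c35)) :=
  Lre_e IH (LK LD1_c3 LD2_c5 LD3_c59) (LK LD1_c6 LD2_c17 LD3_c35) Lrfl Lrfl
theorem f58323 : Led Lsl_gt (LP (LK LD1_c6 LD2_c17 LD3_c23)) = (LP (LK LD1_c3 LD2_c5 LD3_c59)) :=
  Lre_g IH (LK LD1_c6 LD2_c17 LD3_c23) (LK LD1_c3 LD2_c5 LD3_c59) Lrfl Lrfl
theorem f58319 : Led Lsl_dt (LP (LK LD1_c4 LD2_c40 LD3_c22)) = (LP (LK LD1_c2 LD2_c20 LD3_c50)) :=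
  Lre_d IH (LK LD1_c4 LD2_c40 LD3_c22) (LK LD1_c2 LD2_c20 LD3_c50) Lrfl Lrfl
def v7886 : LQ := Led Lsl_dt K49.v1348
theorem f668870 : Led Lsl_dt K49.v1348 = v7886 :=
  Lrfl
theorem f633189 : Led Lsl_ff K49.v1348 = K49.v4407 :=
  Lgr Lrot3 (Lpr_ft (K49.f633188 IH) (Lpn K49.v4407))
def v4440 : LQ := Led Lsl_at (LP (LK LD1_c2 LD2_c21 LD3_c31))
theorem f633399 : Led Lsl_at (LP (LK LD1_c2 LD2_c21 LD3_c31)) = v4440 :=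
  Lrfl
theorem f633401 : Led Lsl_df K49.v4407 = v4440 :=
  Lgr Lrot18 (Lpe (K49.f633187 IH) (Lpe (K54.f98965 IH) (Lpr_at (f633399 IH) (Lpn v4440))))
theorem f668874 : Led Lsl_ff v4440 = v7886 :=
  Lgr Lrot19 (Lpe (f633401 IH) (Lpe (f633189 IH) (Lpr_dt (f668870 IH) (Lpn v7886))))
theorem f668877 : Led Lsl_ft v4440 = v7886 :=
  Lgr Lrot48 (Lpr_ff (f668874 IH) (Lpn v7886))
theorem f633402 : Led Lsl_ef K35.v1351 = v4440 :=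
  Lgr Lrot20 (Lpe (K35.f495045 IH) (Lpr_et (K54.f98967 IH) (Lpr_at (f633399 IH) (Lpn v4440))))
theorem f633403 : Led Lsl_et K35.v1351 = v4440 :=
  Lgr Lrot87 (Lpr_ef (f633402 IH) (Lpn v4440))
theorem f494983 : Led Lsl_et (LP (LK LD1_c2 LD2_c21 LD3_c33)) = (LP (LK LD1_c1 LD2_c7 LD3_c59)) :=
  Lre_e IH (LK LD1_c2 LD2_c21 LD3_c33) (LK LD1_c1 LD2_c7 LD3_c59) Lrfl Lrfl
def v4447 : LQ := Led Lsl_ft (LP (LK LD1_c2 LD2_c21 LD3_c33))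
theorem f633430 : Led Lsl_ft (LP (LK LD1_c2 LD2_c21 LD3_c33)) = v4447 :=
  Lrfl
theorem f633431 : Led Lsl_ff (LP (LK LD1_c2 LD2_c21 LD3_c33)) = v4447 :=
  Lgr Lrot3 (Lpr_ft (f633430 IH) (Lpn v4447))
def v4446 : LQ := Led Lsl_dt (LP (LK LD1_c2 LD2_c21 LD3_c33))
theorem f633427 : Led Lsl_dt (LP (LK LD1_c2 LD2_c21 LD3_c33)) = v4446 :=
  Lrfl
theorem f633428 : Led Lsl_df (LP (LK LD1_c2 LD2_c21 LD3_c33)) = v4446 :=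
  Lgr Lrot38 (Lpr_dt (f633427 IH) (Lpn v4446))
theorem f668873 : Led Lsl_ef v4446 = v7886 :=
  Lgr Lrot73 (Lpe (f633428 IH) (Lpr_et (f494983 IH) (Lpr_dt (K49.f495075 IH) (Lpe (K49.f495090 IH) (Lpr_dt (f668870 IH) (Lpn v7886))))))
theorem f668879 : v4447 = v4446 :=
  (Llr Lrot72 (Lpe (f633431 IH) (Lpr_et (f494983 IH) (Lpr_ft (K35.f495048 IH) (Lpr_et (f633403 IH) (Lpr_ft (f668877 IH) (Lpe (f668873 IH) (Lpn v4446)))))))).symm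
theorem f674032 : Led Lsl_af K49.v7900 = v4447 :=
  Lgr Lrot45 (Lpe (K49.f668929 IH) (Lpq (K49.f674029 IH) (Lpe (K49.f633419 IH) (Lpr_ft (f633430 IH) (Lpn v4447)))))
def v4442 : LQ := Led Lsl_gt (LP (LK LD1_c2 LD2_c21 LD3_c33))
theorem f633409 : Led Lsl_gt (LP (LK LD1_c2 LD2_c21 LD3_c33)) = v4442 :=
  Lrfl
theorem f674039 : Led Lsl_gf K49.v7900 = v4442 :=
  Lgr Lrot76 (Lpr_af (f674032 IH) (Lpqs (f668879 IH) (Lpq (f668879 IH) (Lpe (f633430 IH) (Lpr_gt (f633409 IH) (Lpn v4442))))))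
def v13607 : LQ := Led Lsl_ft (LP (LK LD1_c4 LD2_c45 LD3_c55))
theorem f703882 : Led Lsl_ft (LP (LK LD1_c4 LD2_c45 LD3_c55)) = v13607 :=
  Lrfl
theorem f633238 : Led Lsl_et (LP (LK LD1_c2 LD2_c20 LD3_c59)) = (LP (LK LD1_c4 LD2_c45 LD3_c55)) :=
  Lre_e IH (LK LD1_c2 LD2_c20 LD3_c59) (LK LD1_c4 LD2_c45 LD3_c55) Lrfl Lrfl
def v4410 : LQ := Led Lsl_at (LP (LK LD1_c2 LD2_c20 LD3_c58))
theorem f633232 : Led Lsl_at (LP (LK LD1_c2 LD2_c20 LD3_c58)) = v4410 :=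
  Lrfl
theorem f633233 : Led Lsl_af (LP (LK LD1_c2 LD2_c20 LD3_c58)) = v4410 :=
  Lgr Lrot0 (Lpr_at (f633232 IH) (Lpn v4410))
theorem f78238 : Led Lsl_gt (LP (LK LD1_c2 LD2_c20 LD3_c59)) = (LP (LK LD1_c1 LD2_c7 LD3_c48)) :=
  Lre_g IH (LK LD1_c2 LD2_c20 LD3_c59) (LK LD1_c1 LD2_c7 LD3_c48) Lrfl Lrfl
theorem f633234 : Led Lsl_ft (LP (LK LD1_c2 LD2_c20 LD3_c59)) = v4410 :=
  Lgr Lrot2 (Lpr_gt (f78238 IH) (Lpr_gt (K49.f78236 IH) (Lpr_af (f633233 IH) (Lpn v4410))))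
theorem f633237 : Led Lsl_ff (LP (LK LD1_c2 LD2_c20 LD3_c59)) = v4410 :=
  Lgr Lrot3 (Lpr_ft (f633234 IH) (Lpn v4410))
def v13597 : LQ := Led Lsl_at (LP (LK LD1_c4 LD2_c45 LD3_c52))
theorem f703836 : Led Lsl_at (LP (LK LD1_c4 LD2_c45 LD3_c52)) = v13597 :=
  Lrfl
theorem f103359 : Led Lsl_et (LP (LK LD1_c2 LD2_c20 LD3_c58)) = (LP (LK LD1_c4 LD2_c45 LD3_c52)) :=
  Lre_e IH (LK LD1_c2 LD2_c20 LD3_c58) (LK LD1_c4 LD2_c45 LD3_c52) Lrfl Lrfl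
theorem f703839 : Led Lsl_ef v4410 = v13597 :=
  Lgr Lrot20 (Lpe (f633233 IH) (Lpr_et (f103359 IH) (Lpr_at (f703836 IH) (Lpn v13597))))
theorem f103357 : Led Lsl_df (LP (LK LD1_c4 LD2_c45 LD3_c52)) = (LP (LK LD1_c4 LD2_c40 LD3_c29)) :=
  Lgr Lrot38 (Lpr_dt (K49.f103352 IH) (Lpn (LP (LK LD1_c4 LD2_c40 LD3_c29))))
def v13133 : LQ := Led Lsl_at (LP (LK LD1_c4 LD2_c40 LD3_c29))
theorem f701281 : Led Lsl_at (LP (LK LD1_c4 LD2_c40 LD3_c29)) = v13133 :=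
  Lrfl
theorem f701282 : Led Lsl_af (LP (LK LD1_c4 LD2_c40 LD3_c29)) = v13133 :=
  Lgr Lrot0 (Lpr_at (f701281 IH) (Lpn v13133))
theorem f703838 : Led Lsl_df v13133 = v13597 :=
  Lgr Lrot18 (Lpe (f701282 IH) (Lpe (f103357 IH) (Lpr_at (f703836 IH) (Lpn v13597))))
def v1342 : LQ := Led Lsl_ft (LP (LK LD1_c1 LD2_c7 LD3_c36))
theorem f494986 : Led Lsl_ft (LP (LK LD1_c1 LD2_c7 LD3_c36)) = v1342 :=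
  Lrfl
theorem f494987 : Led Lsl_ff (LP (LK LD1_c1 LD2_c7 LD3_c36)) = v1342 :=
  Lgr Lrot3 (Lpr_ft (f494986 IH) (Lpn v1342))
theorem f494989 : Led Lsl_gf (LP (LK LD1_c4 LD2_c40 LD3_c29)) = v1342 :=
  Lgr Lrot47 (Lpr_gt (K49.f103348 IH) (Lpr_af (K7.f103340 IH) (Lpr_ff (f494987 IH) (Lpn v1342))))
def v4237 : LQ := Led Lsl_ft (LP (LK LD1_c2 LD2_c17 LD3_c19))
theorem f632113 : Led Lsl_ft (LP (LK LD1_c2 LD2_c17 LD3_c19)) = v4237 :=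
  Lrfl
def v4235 : LQ := Led Lsl_gt (LP (LK LD1_c2 LD2_c17 LD3_c19))
theorem f632105 : Led Lsl_gt (LP (LK LD1_c2 LD2_c17 LD3_c19)) = v4235 :=
  Lrfl
theorem f632114 : Led Lsl_af v1342 = v4237 :=
  Lgr Lrot45 (Lpe (f494987 IH) (Lpe (K7.f103340 IH) (Lpr_ft (f632113 IH) (Lpn v4237))))
theorem f632117 : Led Lsl_gt v4235 = v1342 :=
  Lgr Lrot46 (Lpe (f632105 IH) (Lpr_ft (f632113 IH) (Lpe (f632114 IH) (Lpn v1342))))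
theorem f701283 : Led Lsl_ft v4235 = v13133 :=
  Lgr Lrot2 (Lpr_gt (f632117 IH) (Lpe (f494989 IH) (Lpr_af (f701282 IH) (Lpn v13133))))
theorem f701284 : Led Lsl_ff v4235 = v13133 :=
  Lgr Lrot3 (Lpr_ft (f701283 IH) (Lpn v13133))
theorem f668916 : Led Lsl_dt (LP (LK LD1_c4 LD2_c45 LD3_c27)) = K49.v7900 :=
  Lgr Lrot77 (Lpe (K49.f98968 IH) (Lpe (K54.f98959 IH) (Lpe (K54.f98967 IH) (Lpr_df (K49.f495055 IH) (Lpr_ef (K49.f668914 IH) (Lpn K49.v7900))))))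
theorem f98984 : Led Lsl_et (LP (LK LD1_c4 LD2_c45 LD3_c27)) = (LP (LK LD1_c2 LD2_c20 LD3_c49)) :=
  Lre_e IH (LK LD1_c4 LD2_c45 LD3_c27) (LK LD1_c2 LD2_c20 LD3_c49) Lrfl Lrfl
theorem f103331 : Led Lsl_et (LP (LK LD1_c1 LD2_c5 LD3_c37)) = (LP (LK LD1_c2 LD2_c17 LD3_c19)) :=
  Lre_e IH (LK LD1_c1 LD2_c5 LD3_c37) (LK LD1_c2 LD2_c17 LD3_c19) Lrfl Lrfl
theorem f674040 : Led Lsl_dt v4235 = v4442 :=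
  Lgr Lrot171 (Lpe (f632105 IH) (Lpe (f103331 IH) (Lpr_dt (K4.f103329 IH) (Lpe (K3.f103463 IH) (Lpe (K0.f13696 IH) (Lpr_et (K49.f103475 IH) (Lpe (K54.f98958 IH) (Lpe (f98984 IH) (Lpr_dt (f668916 IH) (Lpr_gf (f674039 IH) (Lpn v4442)))))))))))
theorem f703842 : Led Lsl_ft v4442 = v13597 :=
  Lgr Lrot54 (Lpe (f674040 IH) (Lpr_ff (f701284 IH) (Lpr_df (f703838 IH) (Lpn v13597))))
theorem f703883 : Led Lsl_ef v4442 = v13607 :=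
  Lgr Lrot21 (Lpr_ft (f703842 IH) (Lpe (f703839 IH) (Lpe (f633237 IH) (Lpr_et (f633238 IH) (Lpr_ft (f703882 IH) (Lpn v13607))))))
theorem f758260 : Led Lsl_dt v13607 = v17301 :=
  Lgr Lrot56 (Lpe (f703883 IH) (Lpe (f674039 IH) (Lpe (K49.f668912 IH) (Lpe (K49.f495055 IH) (Lpr_gt (K51.f58322 IH) (Lpe (f58319 IH) (Lpr_et (K1.f58291 IH) (Lpr_gt (f58323 IH) (Lpr_dt (f58325 IH) (Lpr_gt (f758258 IH) (Lpn v17301)))))))))))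
theorem f668913 : Led Lsl_df (LP (LK LD1_c4 LD2_c45 LD3_c27)) = K49.v7900 :=
  Lgr Lrot70 (Lpr_et (f98984 IH) (Lpe (K54.f98965 IH) (Lpr_et (K54.f98956 IH) (Lpr_dt (K49.f495054 IH) (Lpr_et (K49.f668912 IH) (Lpn K49.v7900))))))
theorem f674038 : Led Lsl_at K49.v7900 = v4446 :=
  Lgr Lrot100 (Lpr_af (f674032 IH) (Lpqs (f668879 IH) (Lpn v4446)))
def v1340 : LQ := Led Lsl_gt (LP (LK LD1_c1 LD2_c7 LD3_c36))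
def v7865 : LQ := Led Lsl_dt v1340
theorem f668795 : Led Lsl_dt v1340 = v7865 :=
  Lrfl
theorem f494982 : Led Lsl_gt (LP (LK LD1_c1 LD2_c7 LD3_c36)) = v1340 :=
  Lrfl
theorem f668797 : Led Lsl_gf v4446 = v7865 :=
  Lgr Lrot134 (Lpe (f633427 IH) (Lpr_et (f494983 IH) (Lpr_gt (K35.f140007 IH) (Lpe (K54.f98955 IH) (Lpr_dt (K3.f13782 IH) (Lpr_gt (K3.f79297 IH) (Lpe (K3.f13799 IH) (Lpr_et (K7.f99104 IH) (Lpr_gt (f494982 IH) (Lpr_dt (f668795 IH) (Lpn v7865)))))))))))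
theorem f674042 : Led Lsl_gt (LP (LK LD1_c4 LD2_c45 LD3_c27)) = v7865 :=
  Lgr Lrot5 (Lpr_ft (K49.f668928 IH) (Lpr_at (f674038 IH) (Lpr_gf (f668797 IH) (Lpn v7865))))
def v7866 : LQ := Led Lsl_et v1340
theorem f668798 : Led Lsl_et v1340 = v7866 :=
  Lrfl
theorem f758261 : Led Lsl_gf (LP (LK LD1_c6 LD2_c17 LD3_c35)) = v7866 :=
  Lgr Lrot141 (Lpe (f647046 IH) (Lpr_dt (f58325 IH) (Lpr_gt (f758258 IH) (Lpe (f758260 IH) (Lpe (f703883 IH) (Lpe (f674039 IH) (Lpe (f668913 IH) (Lpr_gt (f674042 IH) (Lpe (f668795 IH) (Lpr_et (f668798 IH) (Lpn v7866)))))))))))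
theorem f632143 : Led Lsl_dt (LP (LK LD1_c4 LD2_c40 LD3_c47)) = (LP (LK LD1_c2 LD2_c17 LD3_c25)) :=
  Lre_d IH (LK LD1_c4 LD2_c40 LD3_c47) (LK LD1_c2 LD2_c17 LD3_c25) Lrfl Lrfl
theorem f633075 : Led Lsl_et (LP (LK LD1_c4 LD2_c40 LD3_c47)) = (LP (LK LD1_c9 LD2_c16 LD3_c61)) :=
  Lre_e IH (LK LD1_c4 LD2_c40 LD3_c47) (LK LD1_c9 LD2_c16 LD3_c61) Lrfl Lrfl
theorem f668800 : Led Lsl_gt (LP (LK LD1_c9 LD2_c16 LD3_c61)) = v7866 :=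
  Lgr Lrot131 (Lpe (f633075 IH) (Lpr_dt (f632143 IH) (Lpe (K50.f22877 IH) (Lpe (K51.f78499 IH) (Lpe (K35.f140007 IH) (Lpe (f494983 IH) (Lpr_dt (f633427 IH) (Lpr_gf (f668797 IH) (Lpe (f668795 IH) (Lpr_et (f668798 IH) (Lpn v7866)))))))))))
def v17286 : LQ := Led Lsl_ft (LP (LK LD1_c6 LD2_c17 LD3_c22))
theorem f758153 : Led Lsl_ft (LP (LK LD1_c6 LD2_c17 LD3_c22)) = v17286 :=
  Lrfl
theorem f758155 : Led Lsl_ff (LP (LK LD1_c6 LD2_c17 LD3_c22)) = v17286 :=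
  Lgr Lrot3 (Lpr_ft (f758153 IH) (Lpn v17286))
def v17284 : LQ := Led Lsl_at (LP (LK LD1_c6 LD2_c17 LD3_c22))
theorem f758144 : Led Lsl_at (LP (LK LD1_c6 LD2_c17 LD3_c22)) = v17284 :=
  Lrfl
theorem f758145 : Led Lsl_af (LP (LK LD1_c6 LD2_c17 LD3_c22)) = v17284 :=
  Lgr Lrot0 (Lpr_at (f758144 IH) (Lpn v17284))
theorem f58584 : Led Lsl_gt (LP (LK LD1_c3 LD2_c5 LD3_c61)) = (LP (LK LD1_c6 LD2_c17 LD3_c22)) :=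
  Lre_g IH (LK LD1_c3 LD2_c5 LD3_c61) (LK LD1_c6 LD2_c17 LD3_c22) Lrfl Lrfl
theorem f758146 : Led Lsl_ft K56.v5314 = v17284 :=
  Lgr Lrot2 (Lpe (K56.f647010 IH) (Lpr_gt (f58584 IH) (Lpr_af (f758145 IH) (Lpn v17284))))
theorem f758147 : Led Lsl_ff K56.v5314 = v17284 :=
  Lgr Lrot3 (Lpr_ft (f758146 IH) (Lpn v17284))
theorem f758156 : Led Lsl_at K56.v5314 = v17286 :=
  Lgr Lrot66 (Lpr_ff (f758147 IH) (Lpe (f758144 IH) (Lpr_ff (f758155 IH) (Lpn v17286))))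
theorem f78498 : Led Lsl_et (LP (LK LD1_c0 LD2_c31 LD3_c9)) = (LP (LK LD1_c0 LD2_c13 LD3_c49)) :=
  Lre_e IH (LK LD1_c0 LD2_c31 LD3_c9) (LK LD1_c0 LD2_c13 LD3_c49) Lrfl Lrfl
def v4243 : LQ := Led Lsl_dt (LP (LK LD1_c2 LD2_c17 LD3_c26))
theorem f632163 : Led Lsl_dt (LP (LK LD1_c2 LD2_c17 LD3_c26)) = v4243 :=
  Lrfl
theorem f632164 : Led Lsl_df (LP (LK LD1_c2 LD2_c17 LD3_c26)) = v4243 :=
  Lgr Lrot38 (Lpr_dt (f632163 IH) (Lpn v4243))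
theorem f647011 : Led Lsl_et v4243 = K56.v5314 :=
  Lgr Lrot122 (Lpe (f632164 IH) (Lpr_gt (K46.f78495 IH) (Lpe (K51.f78499 IH) (Lpr_et (f78498 IH) (Lpr_gt (K3.f35343 IH) (Lpr_dt (K3.f78204 IH) (Lpe (K2.f77796 IH) (Lpe (K1.f58208 IH) (Lpr_et (K3.f58338 IH) (Lpr_gt (K56.f647009 IH) (Lpn K56.v5314)))))))))))
def v13159 : LQ := Led Lsl_ft (LP (LK LD1_c4 LD2_c40 LD3_c47))
theorem f701459 : Led Lsl_ft (LP (LK LD1_c4 LD2_c40 LD3_c47)) = v13159 :=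
  Lrfl
def v13158 : LQ := Led Lsl_at (LP (LK LD1_c4 LD2_c40 LD3_c47))
theorem f701452 : Led Lsl_at (LP (LK LD1_c4 LD2_c40 LD3_c47)) = v13158 :=
  Lrfl
theorem f701453 : Led Lsl_af (LP (LK LD1_c4 LD2_c40 LD3_c47)) = v13158 :=
  Lgr Lrot0 (Lpr_at (f701452 IH) (Lpn v13158))
theorem f701454 : Led Lsl_df K50.v4240 = v13158 :=
  Lgr Lrot18 (Lpe (K50.f632142 IH) (Lpr_dt (K51.f22878 IH) (Lpr_at (f701452 IH) (Lpn v13158))))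
theorem f701456 : Led Lsl_ft v4243 = v13158 :=
  Lgr Lrot54 (Lpe (f632163 IH) (Lpr_ff (K50.f632149 IH) (Lpr_df (f701454 IH) (Lpn v13158))))
theorem f701460 : Led Lsl_af v4243 = v13159 :=
  Lgr Lrot45 (Lpr_ft (f701456 IH) (Lpe (f701453 IH) (Lpr_ft (f701459 IH) (Lpn v13159))))
theorem f758157 : Led Lsl_ef v13159 = v17286 :=
  Lgr Lrot20 (Lpe (f701460 IH) (Lpr_et (f647011 IH) (Lpr_at (f758156 IH) (Lpn v17286))))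
theorem f701462 : Led Lsl_ff (LP (LK LD1_c4 LD2_c40 LD3_c47)) = v13159 :=
  Lgr Lrot3 (Lpr_ft (f701459 IH) (Lpn v13159))
def v17285 : LQ := Led Lsl_et (LP (LK LD1_c6 LD2_c17 LD3_c22))
theorem f758148 : Led Lsl_et (LP (LK LD1_c6 LD2_c17 LD3_c22)) = v17285 :=
  Lrfl
theorem f758150 : Led Lsl_ef (LP (LK LD1_c6 LD2_c17 LD3_c22)) = v17285 :=
  Lgr Lrot88 (Lpr_et (f758148 IH) (Lpn v17285))
theorem f758159 : Led Lsl_ft (LP (LK LD1_c9 LD2_c16 LD3_c61)) = v17285 :=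
  Lgr Lrot86 (Lpe (f633075 IH) (Lpr_ff (f701462 IH) (Lpr_ef (f758157 IH) (Lpe (f758153 IH) (Lpr_ef (f758150 IH) (Lpn v17285))))))
theorem f758262 : Led Lsl_af (LP (LK LD1_c6 LD2_c17 LD3_c35)) = v17285 :=
  Lgr Lrot31 (Lpr_gf (f758261 IH) (Lpe (f668800 IH) (Lpr_ft (f758159 IH) (Lpn v17285))))
theorem f58324 : Led Lsl_et (LP (LK LD1_c6 LD2_c17 LD3_c35)) = (LP (LK LD1_c3 LD2_c5 LD3_c59)) :=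
  Lre_e IH (LK LD1_c6 LD2_c17 LD3_c35) (LK LD1_c3 LD2_c5 LD3_c59) Lrfl Lrfl
theorem f758264 : v5318 = (LP (LK LD1_c6 LD2_c17 LD3_c22)) :=
  (Llr Lrot80 (Lpe (f647057 IH) (Lpe (f58324 IH) (Lpr_af (f758262 IH) (Lpe (f758148 IH) (Lpn (LP (LK LD1_c6 LD2_c17 LD3_c22)))))))).symm
theorem f758266 : Led Lsl_at (LP (LK LD1_c3 LD2_c5 LD3_c59)) = (LP (LK LD1_c6 LD2_c17 LD3_c22)) :=
  Leop (Lpq (f758264 IH) (Lpe (f647057 IH) (Lpn (LP (LK LD1_c3 LD2_c5 LD3_c59)))))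
theorem seed_1147 : LEOK LG_a (LK LD1_c3 LD2_c5 LD3_c59) :=
  Leoe_a (LK LD1_c3 LD2_c5 LD3_c59) (f758266 IH)
theorem f632153 : Led Lsl_ff (LP (LK LD1_c2 LD2_c17 LD3_c25)) = K51.v4241 :=
  Lgr Lrot3 (Lpr_ft (K51.f632150 IH) (Lpn K51.v4241))
theorem f632157 : Led Lsl_at (LP (LK LD1_c2 LD2_c17 LD3_c26)) = K51.v4241 :=
  Lgr Lrot66 (Lpr_ff (K50.f632149 IH) (Lpe (K50.f632141 IH) (Lpr_ff (f632153 IH) (Lpn K51.v4241))))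
theorem f701461 : Led Lsl_df K51.v4241 = v13159 :=
  Lgr Lrot78 (Lpe (f632153 IH) (Lpr_dt (K51.f22878 IH) (Lpr_ft (f701459 IH) (Lpn v13159))))
def v5317 : LQ := Led Lsl_et (LP (LK LD1_c3 LD2_c5 LD3_c58))
theorem f647047 : Led Lsl_et (LP (LK LD1_c3 LD2_c5 LD3_c58)) = v5317 :=
  Lrfl
theorem f647048 : Led Lsl_ef (LP (LK LD1_c3 LD2_c5 LD3_c58)) = v5317 :=
  Lgr Lrot88 (Lpr_et (f647047 IH) (Lpn v5317))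
theorem f139960 : Led Lsl_dt (LP (LK LD1_c1 LD2_c7 LD3_c60)) = (LP (LK LD1_c2 LD2_c17 LD3_c27)) :=
  Lre_d IH (LK LD1_c1 LD2_c7 LD3_c60) (LK LD1_c2 LD2_c17 LD3_c27) Lrfl Lrfl
theorem f140035 : Led Lsl_gt (LP (LK LD1_c2 LD2_c17 LD3_c27)) = (LP (LK LD1_c4 LD2_c40 LD3_c21)) :=
  Lre_g IH (LK LD1_c2 LD2_c17 LD3_c27) (LK LD1_c4 LD2_c40 LD3_c21) Lrfl Lrfl
theorem f647049 : Led Lsl_df (LP (LK LD1_c4 LD2_c40 LD3_c21)) = v5317 :=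
  Lgr Lrot132 (Lpe (f140035 IH) (Lpe (f139960 IH) (Lpr_gf (K49.f495019 IH) (Lpr_ef (K49.f495090 IH) (Lpe (K49.f495076 IH) (Lpe (K50.f58320 IH) (Lpe (f58319 IH) (Lpr_et (K1.f58291 IH) (Lpe (K56.f58321 IH) (Lpr_ef (f647048 IH) (Lpn v5317)))))))))))
theorem f758276 : (LP (LK LD1_c3 LD2_c5 LD3_c58)) = v17286 :=
  Lefun (Lecon (Lfl_ff (f647055 IH)) (f758264 IH)) (f758153 IH)
theorem f758280 : v13159 = v5317 :=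
  Lefun (Lecon (Lfl_ef (f758157 IH)) (f758276 IH).symm) (f647047 IH)
theorem f758281 : K51.v4241 = (LP (LK LD1_c4 LD2_c40 LD3_c21)) :=
  Lefun (Lecon (Lfl_df (f701461 IH)) (f758280 IH)) (Lfl_df (f647049 IH))
theorem f758283 : Led Lsl_at (LP (LK LD1_c2 LD2_c17 LD3_c26)) = (LP (LK LD1_c4 LD2_c40 LD3_c21)) :=
  Leop (Lpq (f758281 IH) (Lpe (f632157 IH) (Lpn (LP (LK LD1_c2 LD2_c17 LD3_c26)))))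
theorem seed_1148 : LEOK LG_a (LK LD1_c2 LD2_c17 LD3_c26) :=
  Leoe_a (LK LD1_c2 LD2_c17 LD3_c26) (f758283 IH)
theorem f758470 : Led Lsl_ff (LP (LK LD1_c12 LD2_c11 LD3_c17)) = (LP (LK LD1_c6 LD2_c17 LD3_c32)) :=
  Lgr Lrot19 (Lpr_dt (K46.f438634 IH) (Lpq (f758264 IH) (Lpe (f647055 IH) (Lpr_dt (f58494 IH) (Lpn (LP (LK LD1_c6 LD2_c17 LD3_c32)))))))
theorem f758476 : Led Lsl_ft (LP (LK LD1_c12 LD2_c11 LD3_c17)) = (LP (LK LD1_c6 LD2_c17 LD3_c32)) :=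
  Lgr Lrot48 (Lpr_ff (f758470 IH) (Lpn (LP (LK LD1_c6 LD2_c17 LD3_c32))))
theorem f758257 : Led Lsl_ff (LP (LK LD1_c6 LD2_c17 LD3_c34)) = v17302 :=
  Lgr Lrot3 (Lpr_ft (f758256 IH) (Lpn v17302))
theorem f758480 : Led Lsl_af (LP (LK LD1_c12 LD2_c11 LD3_c17)) = (LP (LK LD1_c6 LD2_c17 LD3_c34)) :=
  Lgr Lrot45 (Lpr_ft (f758476 IH) (Lpr_at (f758252 IH) (Lpe (f758257 IH) (Lpn (LP (LK LD1_c6 LD2_c17 LD3_c34))))))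
theorem f647012 : Led Lsl_ef v4243 = K56.v5314 :=
  Lgr Lrot88 (Lpr_et (f647011 IH) (Lpn K56.v5314))
def v13156 : LQ := Led Lsl_gt (LP (LK LD1_c4 LD2_c40 LD3_c47))
theorem f701448 : Led Lsl_gt (LP (LK LD1_c4 LD2_c40 LD3_c47)) = v13156 :=
  Lrfl
theorem f701463 : Led Lsl_gt v13156 = v4243 :=
  Lgr Lrot46 (Lpe (f701448 IH) (Lpr_ft (f701459 IH) (Lpe (f701460 IH) (Lpn v4243))))
def v13610 : LQ := Led Lsl_dt (LP (LK LD1_c4 LD2_c45 LD3_c56))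
theorem f703895 : Led Lsl_dt (LP (LK LD1_c4 LD2_c45 LD3_c56)) = v13610 :=
  Lrfl
theorem f78212 : Led Lsl_bt (LP (LK LD1_c2 LD2_c20 LD3_c60)) = (LP (LK LD1_c4 LD2_c45 LD3_c32)) :=
  Lre_b IH (LK LD1_c2 LD2_c20 LD3_c60) (LK LD1_c4 LD2_c45 LD3_c32) Lrfl Lrfl
theorem f78213 : Led Lsl_ef (LP (LK LD1_c2 LD2_c20 LD3_c60)) = (LP (LK LD1_c2 LD2_c17 LD3_c10)) :=
  Lgr Lrot29 (Lpr_bt (f78212 IH) (Lpr_et (K3.f78208 IH) (Lpe (K3.f66772 IH) (Lpn (LP (LK LD1_c2 LD2_c17 LD3_c10))))))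
theorem f78491 : Led Lsl_gt (LP (LK LD1_c2 LD2_c20 LD3_c60)) = (LP (LK LD1_c4 LD2_c45 LD3_c56)) :=
  Lre_g IH (LK LD1_c2 LD2_c20 LD3_c60) (LK LD1_c4 LD2_c45 LD3_c56) Lrfl Lrfl
theorem f133291 : Led Lsl_ff (LP (LK LD1_c2 LD2_c21 LD3_c38)) = (LP (LK LD1_c3 LD2_c6 LD3_c1)) :=
  Lgr Lrot23 (Lpr_ct (K5.f7476 IH) (Lpr_ft (K5.f133284 IH) (Lpr_ct (K49.f83959 IH) (Lpn (LP (LK LD1_c3 LD2_c6 LD3_c1))))))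
theorem f133658 : Led Lsl_at (LP (LK LD1_c2 LD2_c21 LD3_c41)) = (LP (LK LD1_c3 LD2_c6 LD3_c1)) :=
  Lgr Lrot66 (Lpr_ff (K5.f133640 IH) (Lpe (K5.f133222 IH) (Lpr_ff (f133291 IH) (Lpn (LP (LK LD1_c3 LD2_c6 LD3_c1))))))
theorem f153433 : Led Lsl_gt (LP (LK LD1_c2 LD2_c17 LD3_c14)) = (LP (LK LD1_c2 LD2_c18 LD3_c39)) :=
  Lgr Lrot5 (Lpe (K5.f133640 IH) (Lpr_at (f133658 IH) (Lpr_gf (K7.f153417 IH) (Lpn (LP (LK LD1_c2 LD2_c18 LD3_c39))))))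
theorem f79505 : Led Lsl_et (LP (LK LD1_c2 LD2_c21 LD3_c6)) = (LP (LK LD1_c2 LD2_c17 LD3_c14)) :=
  Lgr Lrot87 (Lpr_ef (K5.f78000 IH) (Lpn (LP (LK LD1_c2 LD2_c17 LD3_c14))))
theorem f78014 : Led Lsl_gt (LP (LK LD1_c2 LD2_c21 LD3_c5)) = (LP (LK LD1_c1 LD2_c7 LD3_c51)) :=
  Lre_g IH (LK LD1_c2 LD2_c21 LD3_c5) (LK LD1_c1 LD2_c7 LD3_c51) Lrfl Lrfl
theorem f79514 : Led Lsl_dt (LP (LK LD1_c4 LD2_c46 LD3_c10)) = (LP (LK LD1_c2 LD2_c21 LD3_c5)) :=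
  Lre_d IH (LK LD1_c4 LD2_c46 LD3_c10) (LK LD1_c2 LD2_c21 LD3_c5) Lrfl Lrfl
theorem f435791 : Led Lsl_ef (LP (LK LD1_c4 LD2_c45 LD3_c56)) = (LP (LK LD1_c4 LD2_c46 LD3_c10)) :=
  Lgr Lrot17 (Lpe (f78491 IH) (Lpr_ef (f78213 IH) (Lpr_dt (K3.f66770 IH) (Lpr_gf (K49.f153437 IH) (Lpe (K33.f86117 IH) (Lpe (f153433 IH) (Lpe (f79505 IH) (Lpr_dt (K5.f77997 IH) (Lpe (f78014 IH) (Lpe (f79514 IH) (Lpn (LP (LK LD1_c4 LD2_c46 LD3_c10)))))))))))))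
theorem f435797 : Led Lsl_dt (LP (LK LD1_c2 LD2_c21 LD3_c5)) = (LP (LK LD1_c4 LD2_c46 LD3_c10)) :=
  Lre_d IH (LK LD1_c2 LD2_c21 LD3_c5) (LK LD1_c4 LD2_c46 LD3_c10) Lrfl Lrfl
def v4419 : LQ := Led Lsl_et (LP (LK LD1_c2 LD2_c21 LD3_c5))
theorem f633269 : Led Lsl_et (LP (LK LD1_c2 LD2_c21 LD3_c5)) = v4419 :=
  Lrfl
theorem f633270 : Led Lsl_ef (LP (LK LD1_c2 LD2_c21 LD3_c5)) = v4419 :=
  Lgr Lrot88 (Lpr_et (f633269 IH) (Lpn v4419))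
theorem f78009 : Led Lsl_et (LP (LK LD1_c0 LD2_c31 LD3_c7)) = (LP (LK LD1_c1 LD2_c7 LD3_c51)) :=
  Lre_e IH (LK LD1_c0 LD2_c31 LD3_c7) (LK LD1_c1 LD2_c7 LD3_c51) Lrfl Lrfl
theorem f701449 : Led Lsl_dt v4419 = v13156 :=
  Lgr Lrot56 (Lpe (f633270 IH) (Lpr_gt (f78014 IH) (Lpe (f78009 IH) (Lpr_dt (K2.f77988 IH) (Lpr_gt (K2.f13667 IH) (Lpe (K1.f13657 IH) (Lpr_et (K51.f58758 IH) (Lpr_gt (K50.f22877 IH) (Lpr_dt (K51.f22878 IH) (Lpr_gt (f701448 IH) (Lpn v13156)))))))))))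
theorem f701450 : Led Lsl_df v4419 = v13156 :=
  Lgr Lrot38 (Lpr_dt (f701449 IH) (Lpn v13156))
theorem f703897 : Led Lsl_ef v13156 = v13610 :=
  Lgr Lrot73 (Lpe (f701450 IH) (Lpe (f633270 IH) (Lpr_dt (f435797 IH) (Lpe (f435791 IH) (Lpr_dt (f703895 IH) (Lpn v13610))))))
theorem f703896 : Led Lsl_df (LP (LK LD1_c4 LD2_c45 LD3_c56)) = v13610 :=
  Lgr Lrot38 (Lpr_dt (f703895 IH) (Lpn v13610))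
theorem f78500 : Led Lsl_et (LP (LK LD1_c4 LD2_c45 LD3_c55)) = (LP (LK LD1_c2 LD2_c20 LD3_c59)) :=
  Lre_e IH (LK LD1_c4 LD2_c45 LD3_c55) (LK LD1_c2 LD2_c20 LD3_c59) Lrfl Lrfl
theorem f78501 : Led Lsl_dt (LP (LK LD1_c4 LD2_c45 LD3_c55)) = (LP (LK LD1_c9 LD2_c24 LD3_c21)) :=
  Lre_d IH (LK LD1_c4 LD2_c45 LD3_c55) (LK LD1_c9 LD2_c24 LD3_c21) Lrfl Lrfl
theorem f647054 : Led Lsl_af (LP (LK LD1_c3 LD2_c5 LD3_c59)) = v5318 :=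
  Lgr Lrot45 (Lpr_ft (f647041 IH) (Lpe (f647039 IH) (Lpr_ft (f647053 IH) (Lpn v5318))))
theorem f758265 : (LP (LK LD1_c3 LD2_c5 LD3_c59)) = v17284 :=
  Lefun (Lecon (Lfl_af (f647054 IH)) (f758264 IH)) (f758144 IH)
theorem f758279 : K56.v5314 = v5316 :=
  Lefun (Lecon (Lfl_ff (f758147 IH)) (f758265 IH).symm) (f647041 IH)
theorem f758255 : Led Lsl_dt v5316 = v17302 :=
  Lgr Lrot42 (Lpr_df (f758254 IH) (Lpn v17302))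
theorem f758467 : Led Lsl_gf (LP (LK LD1_c9 LD2_c24 LD3_c21)) = v17302 :=
  Lgr Lrot145 (Lpe (f78501 IH) (Lpr_et (f78500 IH) (Lpr_gt (f78238 IH) (Lpr_dt (K3.f78230 IH) (Lpr_gt (f78491 IH) (Lpr_df (f703896 IH) (Lpe (f703897 IH) (Lpr_gt (f701463 IH) (Lpr_ef (f647012 IH) (Lpqs (f758279 IH) (Lpr_dt (f758255 IH) (Lpn v17302))))))))))))
theorem f758486 : Led Lsl_gf (LP (LK LD1_c12 LD2_c11 LD3_c17)) = (LP (LK LD1_c9 LD2_c24 LD3_c21)) :=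
  Lgr Lrot76 (Lpr_af (f758480 IH) (Lpr_ff (f758257 IH) (Lpe (f758467 IH) (Lpn (LP (LK LD1_c9 LD2_c24 LD3_c21))))))
theorem f758487 : Led Lsl_gt (LP (LK LD1_c9 LD2_c24 LD3_c21)) = (LP (LK LD1_c12 LD2_c11 LD3_c17)) :=
  Leop (Lpr_gf (f758486 IH) (Lpn (LP (LK LD1_c9 LD2_c24 LD3_c21))))
theorem seed_1149 : LEOK LG_g (LK LD1_c9 LD2_c24 LD3_c21) :=
  Leoe_g (LK LD1_c9 LD2_c24 LD3_c21) (f758487 IH)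
def v4412 : LQ := Led Lsl_ft (LP (LK LD1_c2 LD2_c20 LD3_c58))
theorem f633242 : Led Lsl_ft (LP (LK LD1_c2 LD2_c20 LD3_c58)) = v4412 :=
  Lrfl
theorem f633244 : Led Lsl_ff (LP (LK LD1_c2 LD2_c20 LD3_c58)) = v4412 :=
  Lgr Lrot3 (Lpr_ft (f633242 IH) (Lpn v4412))
theorem f633246 : Led Lsl_at (LP (LK LD1_c2 LD2_c20 LD3_c59)) = v4412 :=
  Lgr Lrot66 (Lpr_ff (f633237 IH) (Lpe (f633232 IH) (Lpr_ff (f633244 IH) (Lpn v4412))))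
def v13605 : LQ := Led Lsl_at (LP (LK LD1_c4 LD2_c45 LD3_c55))
theorem f703874 : Led Lsl_at (LP (LK LD1_c4 LD2_c45 LD3_c55)) = v13605 :=
  Lrfl
theorem f633243 : Led Lsl_af (LP (LK LD1_c2 LD2_c20 LD3_c59)) = v4412 :=
  Lgr Lrot45 (Lpr_ft (f633234 IH) (Lpe (f633233 IH) (Lpr_ft (f633242 IH) (Lpn v4412))))
theorem f703876 : Led Lsl_ef v4412 = v13605 :=
  Lgr Lrot20 (Lpe (f633243 IH) (Lpr_et (f633238 IH) (Lpr_at (f703874 IH) (Lpn v13605))))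
def v13535 : LQ := Led Lsl_et (LP (LK LD1_c4 LD2_c45 LD3_c3))
theorem f703491 : Led Lsl_et (LP (LK LD1_c4 LD2_c45 LD3_c3)) = v13535 :=
  Lrfl
theorem f703492 : Led Lsl_ef (LP (LK LD1_c4 LD2_c45 LD3_c3)) = v13535 :=
  Lgr Lrot88 (Lpr_et (f703491 IH) (Lpn v13535))
theorem f703863 : Led Lsl_dt (LP (LK LD1_c9 LD2_c24 LD3_c21)) = (LP (LK LD1_c4 LD2_c45 LD3_c55)) :=
  Lre_d IH (LK LD1_c9 LD2_c24 LD3_c21) (LK LD1_c4 LD2_c45 LD3_c55) Lrfl Lrfl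
theorem f758494 : Led Lsl_ff (LP (LK LD1_c9 LD2_c24 LD3_c21)) = v17301 :=
  Lgr Lrot19 (Lpr_dt (f703863 IH) (Lpr_ft (f703882 IH) (Lpr_dt (f758260 IH) (Lpn v17301))))
def v17300 : LQ := Led Lsl_gt (LP (LK LD1_c6 LD2_c17 LD3_c32))
theorem f758247 : Led Lsl_gt (LP (LK LD1_c6 LD2_c17 LD3_c32)) = v17300 :=
  Lrfl
theorem f758496 : Led Lsl_at (LP (LK LD1_c9 LD2_c24 LD3_c21)) = v17300 :=
  Lgr Lrot26 (Lpr_ff (f758494 IH) (Lpe (f758251 IH) (Lpr_gt (f758247 IH) (Lpn v17300))))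
theorem f703875 : Led Lsl_af (LP (LK LD1_c4 LD2_c45 LD3_c55)) = v13605 :=
  Lgr Lrot0 (Lpr_at (f703874 IH) (Lpn v13605))
theorem f58767 : Led Lsl_et (LP (LK LD1_c0 LD2_c41 LD3_c11)) = (LP (LK LD1_c1 LD2_c29 LD3_c4)) :=
  Lre_e IH (LK LD1_c0 LD2_c41 LD3_c11) (LK LD1_c1 LD2_c29 LD3_c4) Lrfl Lrfl
theorem f102120 : Led Lsl_et (LP (LK LD1_c1 LD2_c7 LD3_c42)) = (LP (LK LD1_c2 LD2_c20 LD3_c41)) :=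
  Lre_e IH (LK LD1_c1 LD2_c7 LD3_c42) (LK LD1_c2 LD2_c20 LD3_c41) Lrfl Lrfl
theorem f102122 : Led Lsl_gt (LP (LK LD1_c4 LD2_c45 LD3_c3)) = (LP (LK LD1_c2 LD2_c20 LD3_c41)) :=
  Lre_g IH (LK LD1_c4 LD2_c45 LD3_c3) (LK LD1_c2 LD2_c20 LD3_c41) Lrfl Lrfl
theorem f758249 : Led Lsl_dt v13535 = v17300 :=
  Lgr Lrot56 (Lpe (f703492 IH) (Lpr_gt (f102122 IH) (Lpe (f102120 IH) (Lpr_dt (K3.f102069 IH) (Lpr_gt (K3.f58187 IH) (Lpe (K1.f58742 IH) (Lpr_et (f58767 IH) (Lpr_gt (K56.f58493 IH) (Lpr_dt (f58494 IH) (Lpr_gt (f758247 IH) (Lpn v17300)))))))))))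
theorem f758250 : Led Lsl_df v13535 = v17300 :=
  Lgr Lrot38 (Lpr_dt (f758249 IH) (Lpn v17300))
theorem f758498 : v13605 = v13535 :=
  (Llr Lrot117 (Lpe (f703875 IH) (Lpr_dt (f78501 IH) (Lpr_at (f758496 IH) (Lpe (f758250 IH) (Lpn v13535)))))).symm
theorem f758499 : v4412 = (LP (LK LD1_c4 LD2_c45 LD3_c3)) :=
  Lefun (Lecon (Lfl_ef (f703876 IH)) (f758498 IH)) (Lfl_ef (f703492 IH))
theorem f758501 : Led Lsl_at (LP (LK LD1_c2 LD2_c20 LD3_c59)) = (LP (LK LD1_c4 LD2_c45 LD3_c3)) :=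
  Leop (Lpq (f758499 IH) (Lpe (f633246 IH) (Lpn (LP (LK LD1_c2 LD2_c20 LD3_c59)))))
theorem seed_1150 : LEOK LG_a (LK LD1_c2 LD2_c20 LD3_c59) :=
  Leoe_a (LK LD1_c2 LD2_c20 LD3_c59) (f758501 IH)
def v17341 : LQ := Led Lsl_at (LP (LK LD1_c6 LD2_c17 LD3_c61))
theorem f758810 : Led Lsl_at (LP (LK LD1_c6 LD2_c17 LD3_c61)) = v17341 :=
  Lrfl
theorem f758811 : Led Lsl_af (LP (LK LD1_c6 LD2_c17 LD3_c61)) = v17341 :=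
  Lgr Lrot0 (Lpr_at (f758810 IH) (Lpn v17341))
theorem f57702 : Led Lsl_ct (LP (LK LD1_c12 LD2_c12 LD3_c14)) = (LP (LK LD1_c6 LD2_c17 LD3_c61)) :=
  Lre_c IH (LK LD1_c12 LD2_c12 LD3_c14) (LK LD1_c6 LD2_c17 LD3_c61) Lrfl Lrfl
theorem f57704 : Led Lsl_dt (LP (LK LD1_c21 LD2_c17 LD3_c59)) = (LP (LK LD1_c12 LD2_c12 LD3_c14)) :=
  Lre_d IH (LK LD1_c21 LD2_c17 LD3_c59) (LK LD1_c12 LD2_c12 LD3_c14) Lrfl Lrfl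
theorem f432473 : Led Lsl_ct (LP (LK LD1_c29 LD2_c57 LD3_c18)) = (LP (LK LD1_c21 LD2_c17 LD3_c59)) :=
  Lre_c IH (LK LD1_c29 LD2_c57 LD3_c18) (LK LD1_c21 LD2_c17 LD3_c59) Lrfl Lrfl
theorem f25640 : Led Lsl_gt (LP (LK LD1_c6 LD2_c18 LD3_c0)) = (LP (LK LD1_c3 LD2_c6 LD3_c13)) :=
  Lre_g IH (LK LD1_c6 LD2_c18 LD3_c0) (LK LD1_c3 LD2_c6 LD3_c13) Lrfl Lrfl
theorem f758812 : Led Lsl_ft (LP (LK LD1_c6 LD2_c18 LD3_c0)) = v17341 :=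
  Lgr Lrot2 (Lpr_gt (f25640 IH) (Lpr_gt (K1.f57662 IH) (Lpr_af (f758811 IH) (Lpn v17341))))
theorem f84539 : Led Lsl_gt (LP (LK LD1_c3 LD2_c22 LD3_c16)) = (LP (LK LD1_c6 LD2_c48 LD3_c10)) :=
  Lre_g IH (LK LD1_c3 LD2_c22 LD3_c16) (LK LD1_c6 LD2_c48 LD3_c10) Lrfl Lrfl
theorem f84541 : Led Lsl_ct (LP (LK LD1_c6 LD2_c48 LD3_c10)) = (LP (LK LD1_c12 LD2_c59 LD3_c1)) :=
  Lre_c IH (LK LD1_c6 LD2_c48 LD3_c10) (LK LD1_c12 LD2_c59 LD3_c1) Lrfl Lrfl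
theorem f84542 : Led Lsl_gt (LP (LK LD1_c12 LD2_c59 LD3_c1)) = (LP (LK LD1_c22 LD2_c8 LD3_c56)) :=
  Lre_g IH (LK LD1_c12 LD2_c59 LD3_c1) (LK LD1_c22 LD2_c8 LD3_c56) Lrfl Lrfl
theorem f154931 : Led Lsl_gt (LP (LK LD1_c7 LD2_c11 LD3_c42)) = (LP (LK LD1_c3 LD2_c35 LD3_c21)) :=
  Lre_g IH (LK LD1_c7 LD2_c11 LD3_c42) (LK LD1_c3 LD2_c35 LD3_c21) Lrfl Lrfl
theorem f433058 : Led Lsl_bt (LP (LK LD1_c13 LD2_c37 LD3_c50)) = (LP (LK LD1_c7 LD2_c11 LD3_c42)) :=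
  Lre_b IH (LK LD1_c13 LD2_c37 LD3_c50) (LK LD1_c7 LD2_c11 LD3_c42) Lrfl Lrfl
theorem f434888 : Led Lsl_cf (LP (LK LD1_c22 LD2_c8 LD3_c56)) = (LP (LK LD1_c13 LD2_c37 LD3_c50)) :=
  Lgr Lrot163 (Lpe (f84542 IH) (Lpe (f84541 IH) (Lpe (f84539 IH) (Lpe (K6.f84360 IH) (Lpr_ct (K6.f84091 IH) (Lpr_gf (K7.f154902 IH) (Lpe (K7.f154119 IH) (Lpr_bt (K11.f154634 IH) (Lpe (f154931 IH) (Lpe (f433058 IH) (Lpn (LP (LK LD1_c13 LD2_c37 LD3_c50)))))))))))))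
theorem f434913 : Led Lsl_ct (LP (LK LD1_c22 LD2_c8 LD3_c56)) = (LP (LK LD1_c13 LD2_c37 LD3_c50)) :=
  Lgr Lrot59 (Lpr_cf (f434888 IH) (Lpn (LP (LK LD1_c13 LD2_c37 LD3_c50))))
theorem f25636 : Led Lsl_gt (LP (LK LD1_c3 LD2_c22 LD3_c25)) = (LP (LK LD1_c6 LD2_c48 LD3_c35)) :=
  Lre_g IH (LK LD1_c3 LD2_c22 LD3_c25) (LK LD1_c6 LD2_c48 LD3_c35) Lrfl Lrfl
theorem f25643 : Led Lsl_ct (LP (LK LD1_c6 LD2_c48 LD3_c35)) = (LP (LK LD1_c12 LD2_c59 LD3_c41)) :=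
  Lre_c IH (LK LD1_c6 LD2_c48 LD3_c35) (LK LD1_c12 LD2_c59 LD3_c41) Lrfl Lrfl
theorem f25641 : Led Lsl_bt (LP (LK LD1_c12 LD2_c12 LD3_c16)) = (LP (LK LD1_c6 LD2_c18 LD3_c0)) :=
  Lre_b IH (LK LD1_c12 LD2_c12 LD3_c16) (LK LD1_c6 LD2_c18 LD3_c0) Lrfl Lrfl
theorem f25642 : Led Lsl_ct (LP (LK LD1_c12 LD2_c12 LD3_c16)) = (LP (LK LD1_c21 LD2_c17 LD3_c61)) :=
  Lre_c IH (LK LD1_c12 LD2_c12 LD3_c16) (LK LD1_c21 LD2_c17 LD3_c61) Lrfl Lrfl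
theorem f25644 : Led Lsl_gf (LP (LK LD1_c21 LD2_c17 LD3_c61)) = (LP (LK LD1_c12 LD2_c59 LD3_c41)) :=
  Lgr Lrot129 (Lpe (f25642 IH) (Lpr_bt (f25641 IH) (Lpr_gt (f25640 IH) (Lpe (K1.f25639 IH) (Lpr_ct (K1.f25614 IH) (Lpr_gt (K11.f25621 IH) (Lpe (K2.f25634 IH) (Lpr_bt (K6.f25635 IH) (Lpr_gt (f25636 IH) (Lpr_ct (f25643 IH) (Lpn (LP (LK LD1_c12 LD2_c59 LD3_c41)))))))))))))
theorem f25651 : Led Lsl_ct (LP (LK LD1_c21 LD2_c17 LD3_c61)) = (LP (LK LD1_c12 LD2_c12 LD3_c16)) :=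
  Lre_c IH (LK LD1_c21 LD2_c17 LD3_c61) (LK LD1_c12 LD2_c12 LD3_c16) Lrfl Lrfl
theorem f434922 : Led Lsl_df (LP (LK LD1_c12 LD2_c12 LD3_c16)) = (LP (LK LD1_c13 LD2_c37 LD3_c50)) :=
  Lgr Lrot162 (Lpe (f25651 IH) (Lpr_gf (f25644 IH) (Lpe (f25643 IH) (Lpe (f25636 IH) (Lpr_dt (K6.f84517 IH) (Lpr_gt (f84539 IH) (Lpr_ct (f84541 IH) (Lpr_gt (f84542 IH) (Lpr_ct (f434913 IH) (Lpn (LP (LK LD1_c13 LD2_c37 LD3_c50))))))))))))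
theorem f433060 : Led Lsl_bt (LP (LK LD1_c7 LD2_c11 LD3_c42)) = (LP (LK LD1_c13 LD2_c37 LD3_c50)) :=
  Lre_b IH (LK LD1_c7 LD2_c11 LD3_c42) (LK LD1_c13 LD2_c37 LD3_c50) Lrfl Lrfl
theorem f434924 : Led Lsl_dt (LP (LK LD1_c6 LD2_c18 LD3_c0)) = (LP (LK LD1_c7 LD2_c11 LD3_c42)) :=
  Lgr Lrot79 (Lpe (f25641 IH) (Lpr_df (f434922 IH) (Lpe (f433060 IH) (Lpn (LP (LK LD1_c7 LD2_c11 LD3_c42))))))
theorem f431121 : Led Lsl_ct (LP (LK LD1_c7 LD2_c11 LD3_c42)) = (LP (LK LD1_c13 LD2_c37 LD3_c51)) :=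
  Lre_c IH (LK LD1_c7 LD2_c11 LD3_c42) (LK LD1_c13 LD2_c37 LD3_c51) Lrfl Lrfl
theorem f433062 : Led Lsl_dt (LP (LK LD1_c13 LD2_c37 LD3_c51)) = (LP (LK LD1_c23 LD2_c2 LD3_c46)) :=
  Lre_d IH (LK LD1_c13 LD2_c37 LD3_c51) (LK LD1_c23 LD2_c2 LD3_c46) Lrfl Lrfl
theorem f433484 : Led Lsl_at (LP (LK LD1_c3 LD2_c9 LD3_c44)) = (LP (LK LD1_c6 LD2_c24 LD3_c14)) :=
  Lre_a IH (LK LD1_c3 LD2_c9 LD3_c44) (LK LD1_c6 LD2_c24 LD3_c14) Lrfl Lrfl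
theorem f433485 : Led Lsl_at (LP (LK LD1_c7 LD2_c11 LD3_c43)) = (LP (LK LD1_c3 LD2_c35 LD3_c21)) :=
  Lre_a IH (LK LD1_c7 LD2_c11 LD3_c43) (LK LD1_c3 LD2_c35 LD3_c21) Lrfl Lrfl
theorem f433486 : Led Lsl_ft (LP (LK LD1_c6 LD2_c24 LD3_c14)) = (LP (LK LD1_c7 LD2_c11 LD3_c43)) :=
  Lgr Lrot101 (Lpe (f433484 IH) (Lpr_ff (K11.f433477 IH) (Lpe (f433485 IH) (Lpn (LP (LK LD1_c7 LD2_c11 LD3_c43))))))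
theorem f434098 : Led Lsl_gt (LP (LK LD1_c6 LD2_c24 LD3_c14)) = (LP (LK LD1_c7 LD2_c11 LD3_c42)) :=
  Lgr Lrot5 (Lpr_ft (f433486 IH) (Lpr_at (f433485 IH) (Lpe (f154931 IH) (Lpn (LP (LK LD1_c7 LD2_c11 LD3_c42))))))
theorem f433465 : Led Lsl_ct (LP (LK LD1_c12 LD2_c21 LD3_c27)) = (LP (LK LD1_c6 LD2_c24 LD3_c14)) :=
  Lre_c IH (LK LD1_c12 LD2_c21 LD3_c27) (LK LD1_c6 LD2_c24 LD3_c14) Lrfl Lrfl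
theorem f433454 : Led Lsl_at (LP (LK LD1_c6 LD2_c24 LD3_c6)) = (LP (LK LD1_c12 LD2_c21 LD3_c27)) :=
  Lre_a IH (LK LD1_c6 LD2_c24 LD3_c6) (LK LD1_c12 LD2_c21 LD3_c27) Lrfl Lrfl
theorem f154937 : Led Lsl_gt (LP (LK LD1_c7 LD2_c11 LD3_c38)) = (LP (LK LD1_c13 LD2_c37 LD3_c40)) :=
  Lre_g IH (LK LD1_c7 LD2_c11 LD3_c38) (LK LD1_c13 LD2_c37 LD3_c40) Lrfl Lrfl
theorem f433461 : Led Lsl_gf (LP (LK LD1_c12 LD2_c21 LD3_c27)) = (LP (LK LD1_c13 LD2_c37 LD3_c40)) :=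
  Lgr Lrot76 (Lpe (f433454 IH) (Lpr_ff (K11.f433421 IH) (Lpr_gt (f154937 IH) (Lpn (LP (LK LD1_c13 LD2_c37 LD3_c40))))))
theorem f431138 : Led Lsl_df (LP (LK LD1_c3 LD2_c6 LD3_c37)) = (LP (LK LD1_c1 LD2_c30 LD3_c37)) :=
  Lgr Lrot18 (Lpr_at (K7.f114612 IH) (Lpe (K11.f430700 IH) (Lpr_at (K11.f431132 IH) (Lpn (LP (LK LD1_c1 LD2_c30 LD3_c37))))))
theorem f86466 : Led Lsl_gt (LP (LK LD1_c12 LD2_c13 LD3_c20)) = (LP (LK LD1_c21 LD2_c19 LD3_c13)) :=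
  Lre_g IH (LK LD1_c12 LD2_c13 LD3_c20) (LK LD1_c21 LD2_c19 LD3_c13) Lrfl Lrfl
theorem f25630 : Led Lsl_bt (LP (LK LD1_c21 LD2_c17 LD3_c41)) = (LP (LK LD1_c12 LD2_c11 LD3_c56)) :=
  Lre_b IH (LK LD1_c21 LD2_c17 LD3_c41) (LK LD1_c12 LD2_c11 LD3_c56) Lrfl Lrfl
theorem f25631 : Led Lsl_ct (LP (LK LD1_c29 LD2_c57 LD3_c4)) = (LP (LK LD1_c21 LD2_c17 LD3_c41)) :=
  Lre_c IH (LK LD1_c29 LD2_c57 LD3_c4) (LK LD1_c21 LD2_c17 LD3_c41) Lrfl Lrfl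
theorem f432354 : Led Lsl_dt (LP (LK LD1_c21 LD2_c19 LD3_c13)) = (LP (LK LD1_c29 LD2_c57 LD3_c4)) :=
  Lgr Lrot182 (Lpe (f86466 IH) (Lpe (K5.f67904 IH) (Lpe (K5.f67895 IH) (Lpr_df (f431138 IH) (Lpe (K11.f83137 IH) (Lpe (K7.f83118 IH) (Lpr_cf (K7.f154376 IH) (Lpe (K7.f152180 IH) (Lpr_gf (K7.f152174 IH) (Lpr_bf (K7.f20922 IH) (Lpe (K7.f154168 IH) (Lpr_df (K11.f154174 IH) (Lpe (K11.f25621 IH) (Lpe (K4.f25611 IH) (Lpe (K5.f25627 IH) (Lpe (K5.f25628 IH) (Lpe (K5.f25629 IH) (Lpe (f25630 IH) (Lpe (f25631 IH) (Lpn (LP (LK LD1_c29 LD2_c57 LD3_c4))))))))))))))))))))))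
theorem f152855 : Led Lsl_df (LP (LK LD1_c9 LD2_c28 LD3_c25)) = (LP (LK LD1_c6 LD2_c23 LD3_c55)) :=
  Lgr Lrot155 (Lpr_gt (K5.f86567 IH) (Lpr_ct (K5.f58016 IH) (Lpr_gt (K7.f86568 IH) (Lpe (K7.f113630 IH) (Lpr_dt (K5.f102195 IH) (Lpe (K5.f7476 IH) (Lpr_gf (K7.f152842 IH) (Lpe (K7.f152844 IH) (Lpe (K7.f152852 IH) (Lpn (LP (LK LD1_c6 LD2_c23 LD3_c55))))))))))))
theorem f113629 : Led Lsl_bt (LP (LK LD1_c9 LD2_c28 LD3_c25)) = (LP (LK LD1_c17 LD2_c28 LD3_c19)) :=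
  Lre_b IH (LK LD1_c9 LD2_c28 LD3_c25) (LK LD1_c17 LD2_c28 LD3_c19) Lrfl Lrfl
theorem f153096 : Led Lsl_dt (LP (LK LD1_c17 LD2_c28 LD3_c19)) = (LP (LK LD1_c12 LD2_c20 LD3_c61)) :=
  Lgr Lrot79 (Lpe (f113629 IH) (Lpr_df (f152855 IH) (Lpe (K49.f152860 IH) (Lpn (LP (LK LD1_c12 LD2_c20 LD3_c61))))))
theorem f153000 : Led Lsl_ff (LP (LK LD1_c17 LD2_c10 LD3_c23)) = (LP (LK LD1_c12 LD2_c20 LD3_c61)) :=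
  Lgr Lrot3 (Lpr_ft (K49.f152995 IH) (Lpn (LP (LK LD1_c12 LD2_c20 LD3_c61))))
theorem f133261 : Led Lsl_df (LP (LK LD1_c21 LD2_c17 LD3_c41)) = (LP (LK LD1_c17 LD2_c10 LD3_c23)) :=
  Lgr Lrot12 (Lpr_bt (f25630 IH) (Lpr_dt (K5.f133259 IH) (Lpr_bt (K49.f77959 IH) (Lpn (LP (LK LD1_c17 LD2_c10 LD3_c23))))))
theorem f153103 : Led Lsl_ff (LP (LK LD1_c17 LD2_c28 LD3_c19)) = (LP (LK LD1_c21 LD2_c17 LD3_c41)) :=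
  Lgr Lrot19 (Lpr_dt (f153096 IH) (Lpe (f153000 IH) (Lpe (f133261 IH) (Lpn (LP (LK LD1_c21 LD2_c17 LD3_c41))))))
theorem f153110 : Led Lsl_ft (LP (LK LD1_c17 LD2_c28 LD3_c19)) = (LP (LK LD1_c21 LD2_c17 LD3_c41)) :=
  Lgr Lrot48 (Lpr_ff (f153103 IH) (Lpn (LP (LK LD1_c21 LD2_c17 LD3_c41))))
theorem f113642 : Led Lsl_ct (LP (LK LD1_c27 LD2_c18 LD3_c36)) = (LP (LK LD1_c17 LD2_c28 LD3_c19)) :=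
  Lre_c IH (LK LD1_c27 LD2_c18 LD3_c36) (LK LD1_c17 LD2_c28 LD3_c19) Lrfl Lrfl
theorem f86176 : Led Lsl_ct (LP (LK LD1_c21 LD2_c17 LD3_c41)) = (LP (LK LD1_c29 LD2_c57 LD3_c4)) :=
  Lre_c IH (LK LD1_c21 LD2_c17 LD3_c41) (LK LD1_c29 LD2_c57 LD3_c4) Lrfl Lrfl
theorem f153114 : Led Lsl_ff (LP (LK LD1_c27 LD2_c18 LD3_c36)) = (LP (LK LD1_c29 LD2_c57 LD3_c4)) :=
  Lgr Lrot23 (Lpr_ct (f113642 IH) (Lpr_ft (f153110 IH) (Lpr_ct (f86176 IH) (Lpn (LP (LK LD1_c29 LD2_c57 LD3_c4))))))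
theorem f86570 : Led Lsl_bt (LP (LK LD1_c17 LD2_c28 LD3_c19)) = (LP (LK LD1_c9 LD2_c28 LD3_c25)) :=
  Lre_b IH (LK LD1_c17 LD2_c28 LD3_c19) (LK LD1_c9 LD2_c28 LD3_c25) Lrfl Lrfl
theorem f79398 : Led Lsl_gt (LP (LK LD1_c12 LD2_c27 LD3_c0)) = (LP (LK LD1_c21 LD2_c34 LD3_c15)) :=
  Lre_g IH (LK LD1_c12 LD2_c27 LD3_c0) (LK LD1_c21 LD2_c34 LD3_c15) Lrfl Lrfl
theorem f430702 : Led Lsl_df (LP (LK LD1_c27 LD2_c18 LD3_c36)) = (LP (LK LD1_c21 LD2_c34 LD3_c15)) :=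
  Lgr Lrot183 (Lpr_ct (f113642 IH) (Lpr_bt (f86570 IH) (Lpr_gt (K5.f86567 IH) (Lpr_dt (K1.f58017 IH) (Lpr_ct (K49.f58071 IH) (Lpr_bt (K11.f25658 IH) (Lpe (K6.f135486 IH) (Lpr_dt (K6.f20908 IH) (Lpr_ct (K6.f20907 IH) (Lpe (K1.f20060 IH) (Lpr_gt (K6.f7378 IH) (Lpr_dt (K7.f152172 IH) (Lpe (K7.f82820 IH) (Lpr_bt (K11.f82863 IH) (Lpr_gt (K11.f430692 IH) (Lpr_dt (K4.f79385 IH) (Lpr_ct (K5.f67671 IH) (Lpr_bt (K5.f67675 IH) (Lpr_gt (f79398 IH) (Lpn (LP (LK LD1_c21 LD2_c34 LD3_c15))))))))))))))))))))))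
theorem f430704 : Led Lsl_dt (LP (LK LD1_c27 LD2_c18 LD3_c36)) = (LP (LK LD1_c21 LD2_c34 LD3_c15)) :=
  Lgr Lrot42 (Lpr_df (f430702 IH) (Lpn (LP (LK LD1_c21 LD2_c34 LD3_c15))))
theorem f432358 : Led Lsl_ff (LP (LK LD1_c21 LD2_c19 LD3_c13)) = (LP (LK LD1_c21 LD2_c34 LD3_c15)) :=
  Lgr Lrot19 (Lpr_dt (f432354 IH) (Lpe (f153114 IH) (Lpr_dt (f430704 IH) (Lpn (LP (LK LD1_c21 LD2_c34 LD3_c15))))))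
theorem f114614 : Led Lsl_gf (LP (LK LD1_c21 LD2_c19 LD3_c15)) = (LP (LK LD1_c21 LD2_c34 LD3_c15)) :=
  Lgr Lrot76 (Lpe (K5.f114599 IH) (Lpr_ff (K49.f114550 IH) (Lpr_gt (f79398 IH) (Lpn (LP (LK LD1_c21 LD2_c34 LD3_c15))))))
theorem f114600 : Led Lsl_at (LP (LK LD1_c21 LD2_c34 LD3_c17)) = (LP (LK LD1_c12 LD2_c27 LD3_c0)) :=
  Lre_a IH (LK LD1_c21 LD2_c34 LD3_c17) (LK LD1_c12 LD2_c27 LD3_c0) Lrfl Lrfl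
theorem f67676 : Led Lsl_gt (LP (LK LD1_c21 LD2_c34 LD3_c16)) = (LP (LK LD1_c12 LD2_c27 LD3_c0)) :=
  Lre_g IH (LK LD1_c21 LD2_c34 LD3_c16) (LK LD1_c12 LD2_c27 LD3_c0) Lrfl Lrfl
theorem f114603 : Led Lsl_gt (LP (LK LD1_c21 LD2_c19 LD3_c15)) = (LP (LK LD1_c21 LD2_c34 LD3_c16)) :=
  Lgr Lrot5 (Lpr_ft (K5.f114596 IH) (Lpr_at (f114600 IH) (Lpe (f67676 IH) (Lpn (LP (LK LD1_c21 LD2_c34 LD3_c16))))))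
theorem f432374 : Led Lsl_at (LP (LK LD1_c21 LD2_c19 LD3_c13)) = (LP (LK LD1_c21 LD2_c34 LD3_c16)) :=
  Lgr Lrot26 (Lpr_ff (f432358 IH) (Lpe (f114614 IH) (Lpr_gt (f114603 IH) (Lpn (LP (LK LD1_c21 LD2_c34 LD3_c16))))))
theorem f85937 : Led Lsl_bt (LP (LK LD1_c6 LD2_c17 LD3_c40)) = (LP (LK LD1_c12 LD2_c11 LD3_c45)) :=
  Lre_b IH (LK LD1_c6 LD2_c17 LD3_c40) (LK LD1_c12 LD2_c11 LD3_c45) Lrfl Lrfl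
theorem f85938 : Led Lsl_gt (LP (LK LD1_c12 LD2_c11 LD3_c45)) = (LP (LK LD1_c21 LD2_c17 LD3_c17)) :=
  Lre_g IH (LK LD1_c12 LD2_c11 LD3_c45) (LK LD1_c21 LD2_c17 LD3_c17) Lrfl Lrfl
theorem f113530 : Led Lsl_bt (LP (LK LD1_c29 LD2_c56 LD3_c37)) = (LP (LK LD1_c21 LD2_c17 LD3_c17)) :=
  Lre_b IH (LK LD1_c29 LD2_c56 LD3_c37) (LK LD1_c21 LD2_c17 LD3_c17) Lrfl Lrfl
theorem f133542 : Led Lsl_cf (LP (LK LD1_c21 LD2_c34 LD3_c16)) = (LP (LK LD1_c29 LD2_c56 LD3_c37)) :=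
  Lgr Lrot160 (Lpr_gt (f67676 IH) (Lpr_cf (K49.f133533 IH) (Lpr_bt (K7.f58104 IH) (Lpr_gt (K5.f25633 IH) (Lpr_ct (K5.f25627 IH) (Lpr_gt (K4.f78270 IH) (Lpe (K4.f84037 IH) (Lpr_bt (f85937 IH) (Lpr_gt (f85938 IH) (Lpe (f113530 IH) (Lpn (LP (LK LD1_c29 LD2_c56 LD3_c37)))))))))))))
theorem f114666 : Led Lsl_dt (LP (LK LD1_c12 LD2_c13 LD3_c12)) = (LP (LK LD1_c21 LD2_c19 LD3_c5)) :=
  Lre_d IH (LK LD1_c12 LD2_c13 LD3_c12) (LK LD1_c21 LD2_c19 LD3_c5) Lrfl Lrfl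
theorem f78184 : Led Lsl_ct (LP (LK LD1_c21 LD2_c19 LD3_c5)) = (LP (LK LD1_c29 LD2_c58 LD3_c5)) :=
  Lre_c IH (LK LD1_c21 LD2_c19 LD3_c5) (LK LD1_c29 LD2_c58 LD3_c5) Lrfl Lrfl
theorem f432376 : Led Lsl_df (LP (LK LD1_c29 LD2_c56 LD3_c37)) = (LP (LK LD1_c29 LD2_c58 LD3_c5)) :=
  Lgr Lrot177 (Lpe (f133542 IH) (Lpe (f432374 IH) (Lpr_ff (f432358 IH) (Lpe (f430702 IH) (Lpr_ct (f113642 IH) (Lpr_dt (f153096 IH) (Lpe (K49.f152998 IH) (Lpr_dt (f114666 IH) (Lpr_ct (f78184 IH) (Lpn (LP (LK LD1_c29 LD2_c58 LD3_c5))))))))))))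
theorem f432380 : Led Lsl_dt (LP (LK LD1_c29 LD2_c56 LD3_c37)) = (LP (LK LD1_c29 LD2_c58 LD3_c5)) :=
  Lgr Lrot42 (Lpr_df (f432376 IH) (Lpn (LP (LK LD1_c29 LD2_c58 LD3_c5))))
theorem f58070 : Led Lsl_bt (LP (LK LD1_c6 LD2_c17 LD3_c44)) = (LP (LK LD1_c3 LD2_c6 LD3_c3)) :=
  Lre_b IH (LK LD1_c6 LD2_c17 LD3_c44) (LK LD1_c3 LD2_c6 LD3_c3) Lrfl Lrfl
theorem f84155 : Led Lsl_bt (LP (LK LD1_c12 LD2_c12 LD3_c14)) = (LP (LK LD1_c21 LD2_c17 LD3_c58)) :=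
  Lre_b IH (LK LD1_c12 LD2_c12 LD3_c14) (LK LD1_c21 LD2_c17 LD3_c58) Lrfl Lrfl
theorem f133548 : Led Lsl_gt (LP (LK LD1_c21 LD2_c17 LD3_c58)) = (LP (LK LD1_c29 LD2_c56 LD3_c37)) :=
  Lgr Lrot82 (Lpe (f84155 IH) (Lpr_ct (f57702 IH) (Lpe (K1.f57662 IH) (Lpe (K1.f57747 IH) (Lpr_bt (f58070 IH) (Lpe (K5.f25633 IH) (Lpe (K7.f58104 IH) (Lpe (K49.f133533 IH) (Lpe (f67676 IH) (Lpr_cf (f133542 IH) (Lpn (LP (LK LD1_c29 LD2_c56 LD3_c37)))))))))))))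
theorem f114630 : Led Lsl_ct (LP (LK LD1_c29 LD2_c58 LD3_c5)) = (LP (LK LD1_c21 LD2_c19 LD3_c5)) :=
  Lre_c IH (LK LD1_c29 LD2_c58 LD3_c5) (LK LD1_c21 LD2_c19 LD3_c5) Lrfl Lrfl
theorem f78183 : Led Lsl_bt (LP (LK LD1_c21 LD2_c19 LD3_c5)) = (LP (LK LD1_c12 LD2_c13 LD3_c13)) :=
  Lre_b IH (LK LD1_c21 LD2_c19 LD3_c5) (LK LD1_c12 LD2_c13 LD3_c13) Lrfl Lrfl
theorem f135588 : Led Lsl_bt (LP (LK LD1_c0 LD2_c45 LD3_c16)) = (LP (LK LD1_c0 LD2_c20 LD3_c6)) :=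
  Lre_b IH (LK LD1_c0 LD2_c45 LD3_c16) (LK LD1_c0 LD2_c20 LD3_c6) Lrfl Lrfl
theorem f154918 : Led Lsl_gt (LP (LK LD1_c3 LD2_c35 LD3_c21)) = (LP (LK LD1_c7 LD2_c11 LD3_c41)) :=
  Lre_g IH (LK LD1_c3 LD2_c35 LD3_c21) (LK LD1_c7 LD2_c11 LD3_c41) Lrfl Lrfl
theorem f432429 : Led Lsl_df (LP (LK LD1_c6 LD2_c17 LD3_c61)) = (LP (LK LD1_c7 LD2_c11 LD3_c41)) :=
  Lgr Lrot183 (Lpr_ct (K1.f57663 IH) (Lpr_bt (f84155 IH) (Lpr_gt (f133548 IH) (Lpr_dt (f432380 IH) (Lpr_ct (f114630 IH) (Lpr_bt (f78183 IH) (Lpe (K7.f134272 IH) (Lpr_dt (K7.f24378 IH) (Lpr_ct (K5.f24377 IH) (Lpr_bt (K6.f120056 IH) (Lpr_gt (K6.f143745 IH) (Lpr_dt (K6.f113130 IH) (Lpe (K11.f135813 IH) (Lpr_bt (f135588 IH) (Lpr_gt (K7.f154103 IH) (Lpr_dt (K7.f154122 IH) (Lpr_ct (K7.f154642 IH) (Lpr_bt (K11.f154634 IH) (Lpr_gt (f154918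 IH) (Lpn (LP (LK LD1_c7 LD2_c11 LD3_c41))))))))))))))))))))))
theorem f57929 : Led Lsl_gf (LP (LK LD1_c4 LD2_c50 LD3_c29)) = (LP (LK LD1_c6 LD2_c17 LD3_c61)) :=
  Lgr Lrot76 (Lpe (K1.f57916 IH) (Lpr_ff (K1.f57892 IH) (Lpr_gt (K1.f57662 IH) (Lpn (LP (LK LD1_c6 LD2_c17 LD3_c61))))))
theorem f57943 : Led Lsl_dt (LP (LK LD1_c4 LD2_c50 LD3_c29)) = (LP (LK LD1_c6 LD2_c13 LD3_c3)) :=
  Lgr Lrot173 (Lpe (K1.f57931 IH) (Lpe (K1.f57932 IH) (Lpr_cf (K1.f57933 IH) (Lpe (K1.f57746 IH) (Lpe (K1.f57745 IH) (Lpe (K1.f57744 IH) (Lpe (K1.f25464 IH) (Lpr_df (K1.f57738 IH) (Lpe (K1.f57747 IH) (Lpe (K1.f57748 IH) (Lpe (K1.f57749 IH) (Lpe (K1.f57758 IH) (Lpe (K1.f57757 IH) (Lpe (K1.f57756 IH) (Lpe (K2.f25476 IH) (Lpn (LP (LK LD1_c6 LD2_c13 LD3_c3))))))))))))))))))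
theorem f57813 : Led Lsl_dt (LP (LK LD1_c21 LD2_c8 LD3_c55)) = (LP (LK LD1_c12 LD2_c3 LD3_c28)) :=
  Lre_d IH (LK LD1_c21 LD2_c8 LD3_c55) (LK LD1_c12 LD2_c3 LD3_c28) Lrfl Lrfl
theorem f57800 : Led Lsl_gt (LP (LK LD1_c12 LD2_c48 LD3_c43)) = (LP (LK LD1_c21 LD2_c8 LD3_c55)) :=
  Lre_g IH (LK LD1_c12 LD2_c48 LD3_c43) (LK LD1_c21 LD2_c8 LD3_c55) Lrfl Lrfl
theorem f154917 : Led Lsl_ct (LP (LK LD1_c7 LD2_c11 LD3_c38)) = (LP (LK LD1_c3 LD2_c35 LD3_c21)) :=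
  Lre_c IH (LK LD1_c7 LD2_c11 LD3_c38) (LK LD1_c3 LD2_c35 LD3_c21) Lrfl Lrfl
theorem f432440 : Led Lsl_df (LP (LK LD1_c12 LD2_c48 LD3_c43)) = (LP (LK LD1_c13 LD2_c37 LD3_c40)) :=
  Lgr Lrot153 (Lpr_gt (f57800 IH) (Lpr_dt (f57813 IH) (Lpe (K2.f25476 IH) (Lpe (f57943 IH) (Lpr_gf (f57929 IH) (Lpr_df (f432429 IH) (Lpe (f154918 IH) (Lpe (f154917 IH) (Lpr_gt (f154937 IH) (Lpn (LP (LK LD1_c13 LD2_c37 LD3_c40))))))))))))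
theorem f57799 : Led Lsl_gt (LP (LK LD1_c29 LD2_c52 LD3_c14)) = (LP (LK LD1_c21 LD2_c56 LD3_c44)) :=
  Lre_g IH (LK LD1_c29 LD2_c52 LD3_c14) (LK LD1_c21 LD2_c56 LD3_c44) Lrfl Lrfl
theorem f433059 : Led Lsl_dt (LP (LK LD1_c23 LD2_c2 LD3_c46)) = (LP (LK LD1_c13 LD2_c37 LD3_c51)) :=
  Lre_d IH (LK LD1_c23 LD2_c2 LD3_c46) (LK LD1_c13 LD2_c37 LD3_c51) Lrfl Lrfl
theorem f434100 : Led Lsl_ct (LP (LK LD1_c21 LD2_c56 LD3_c44)) = (LP (LK LD1_c23 LD2_c2 LD3_c46)) :=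
  Lgr Lrot110 (Lpe (f57799 IH) (Lpe (K1.f57757 IH) (Lpe (f57800 IH) (Lpr_df (f432440 IH) (Lpe (f433461 IH) (Lpr_ct (f433465 IH) (Lpr_gt (f434098 IH) (Lpr_ct (f431121 IH) (Lpe (f433059 IH) (Lpn (LP (LK LD1_c23 LD2_c2 LD3_c46))))))))))))
theorem f434102 : Led Lsl_cf (LP (LK LD1_c21 LD2_c56 LD3_c44)) = (LP (LK LD1_c23 LD2_c2 LD3_c46)) :=
  Lgr Lrot11 (Lpr_ct (f434100 IH) (Lpn (LP (LK LD1_c23 LD2_c2 LD3_c46))))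
theorem f758813 : Led Lsl_df (LP (LK LD1_c29 LD2_c57 LD3_c18)) = (LP (LK LD1_c21 LD2_c56 LD3_c44)) :=
  Lgr Lrot13 (Lpr_ct (f432473 IH) (Lpr_dt (f57704 IH) (Lpr_ct (f57702 IH) (Lpr_af (f758811 IH) (Lpe (f758812 IH) (Lpr_dt (f434924 IH) (Lpr_ct (f431121 IH) (Lpr_dt (f433062 IH) (Lpe (f434102 IH) (Lpn (LP (LK LD1_c21 LD2_c56 LD3_c44))))))))))))
theorem f758814 : Led Lsl_dt (LP (LK LD1_c21 LD2_c56 LD3_c44)) = (LP (LK LD1_c29 LD2_c57 LD3_c18)) :=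
  Leop (Lpr_df (f758813 IH) (Lpn (LP (LK LD1_c21 LD2_c56 LD3_c44))))
theorem seed_1151 : LEOK LG_d (LK LD1_c21 LD2_c56 LD3_c44) :=
  Leoe_d (LK LD1_c21 LD2_c56 LD3_c44) (f758814 IH)
def v17352 : LQ := Led Lsl_gf (LP (LK LD1_c6 LD2_c18 LD3_c7))
theorem f758893 : Led Lsl_gf (LP (LK LD1_c6 LD2_c18 LD3_c7)) = v17352 :=
  Lrfl
def v5456 : LQ := Led Lsl_dt (LP (LK LD1_c3 LD2_c8 LD3_c2))
theorem f647718 : Led Lsl_dt (LP (LK LD1_c3 LD2_c8 LD3_c2)) = v5456 :=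
  Lrfl
theorem f429695 : Led Lsl_ft (LP (LK LD1_c1 LD2_c29 LD3_c31)) = (LP (LK LD1_c1 LD2_c44 LD3_c21)) :=
  Lgr Lrot75 (Lpe (K3.f90393 IH) (Lpr_ff (K11.f429693 IH) (Lpe (K7.f429045 IH) (Lpn (LP (LK LD1_c1 LD2_c44 LD3_c21))))))
theorem f155097 : Led Lsl_af (LP (LK LD1_c1 LD2_c44 LD3_c34)) = (LP (LK LD1_c1 LD2_c41 LD3_c7)) :=
  Lgr Lrot31 (Lpr_gf (K7.f155095 IH) (Lpe (K7.f62660 IH) (Lpr_ft (K3.f88829 IH) (Lpn (LP (LK LD1_c1 LD2_c41 LD3_c7))))))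
theorem f429043 : Led Lsl_at (LP (LK LD1_c1 LD2_c44 LD3_c21)) = (LP (LK LD1_c1 LD2_c30 LD3_c42)) :=
  Lgr Lrot67 (Lpr_bf (K7.f429041 IH) (Lpr_af (f155097 IH) (Lpe (K7.f88832 IH) (Lpr_af (K11.f145673 IH) (Lpe (K11.f155036 IH) (Lpn (LP (LK LD1_c1 LD2_c30 LD3_c42))))))))
theorem f446912 : Led Lsl_gt (LP (LK LD1_c1 LD2_c44 LD3_c20)) = (LP (LK LD1_c1 LD2_c30 LD3_c42)) :=
  Lgr Lrot46 (Lpr_gf (K33.f446905 IH) (Lpr_ft (f429695 IH) (Lpr_at (f429043 IH) (Lpn (LP (LK LD1_c1 LD2_c30 LD3_c42))))))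
theorem f447252 : Led Lsl_gt (LP (LK LD1_c2 LD2_c17 LD3_c59)) = (LP (LK LD1_c1 LD2_c30 LD3_c38)) :=
  Lgr Lrot65 (Lpr_cf (K11.f114494 IH) (Lpe (K5.f125483 IH) (Lpr_gf (K11.f152868 IH) (Lpe (K11.f430904 IH) (Lpr_ct (K11.f430940 IH) (Lpr_gf (K11.f430941 IH) (Lpe (K11.f155038 IH) (Lpe (f446912 IH) (Lpr_bf (K49.f447248 IH) (Lpe (K49.f155449 IH) (Lpn (LP (LK LD1_c1 LD2_c30 LD3_c38)))))))))))))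
theorem f114696 : Led Lsl_df (LP (LK LD1_c12 LD2_c13 LD3_c28)) = (LP (LK LD1_c6 LD2_c41 LD3_c30)) :=
  Lgr Lrot38 (Lpr_dt (K7.f114633 IH) (Lpn (LP (LK LD1_c6 LD2_c41 LD3_c30))))
theorem f447132 : Led Lsl_gt (LP (LK LD1_c3 LD2_c8 LD3_c59)) = (LP (LK LD1_c3 LD2_c6 LD3_c36)) :=
  Lgr Lrot94 (Lpe (K49.f430859 IH) (Lpr_gt (K49.f447128 IH) (Lpe (f114696 IH) (Lpr_gt (K7.f67716 IH) (Lpr_dt (K2.f25080 IH) (Lpe (K2.f25083 IH) (Lpe (K2.f25082 IH) (Lpe (K4.f25066 IH) (Lpe (K5.f25092 IH) (Lpn (LP (LK LD1_c3 LD2_c6 LD3_c36))))))))))))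
theorem f647723 : Led Lsl_gf (LP (LK LD1_c3 LD2_c18 LD3_c49)) = v5456 :=
  Lgr Lrot143 (Lpr_dt (K7.f84310 IH) (Lpr_cf (K5.f84308 IH) (Lpe (K5.f25092 IH) (Lpe (f447132 IH) (Lpe (K49.f83130 IH) (Lpe (f447252 IH) (Lpr_cf (K11.f114494 IH) (Lpe (K11.f430733 IH) (Lpr_dt (f647718 IH) (Lpn v5456))))))))))
theorem f758897 : Led Lsl_cf v5456 = v17352 :=
  Lgr Lrot166 (Lpe (f647723 IH) (Lpr_dt (K7.f84310 IH) (Lpr_gt (K5.f125411 IH) (Lpr_dt (K5.f62646 IH) (Lpr_ct (K5.f62647 IH) (Lpe (K7.f62638 IH) (Lpr_gf (K7.f134039 IH) (Lpe (K7.f113913 IH) (Lpr_gf (f758893 IH) (Lpn v17352))))))))))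
theorem f114695 : Led Lsl_bt (LP (LK LD1_c6 LD2_c41 LD3_c30)) = (LP (LK LD1_c12 LD2_c48 LD3_c8)) :=
  Lre_b IH (LK LD1_c6 LD2_c41 LD3_c30) (LK LD1_c12 LD2_c48 LD3_c8) Lrfl Lrfl
theorem f155827 : Led Lsl_gt (LP (LK LD1_c12 LD2_c48 LD3_c8)) = (LP (LK LD1_c21 LD2_c55 LD3_c30)) :=
  Lre_g IH (LK LD1_c12 LD2_c48 LD3_c8) (LK LD1_c21 LD2_c55 LD3_c30) Lrfl Lrfl
theorem f647727 : Led Lsl_bt (LP (LK LD1_c30 LD2_c12 LD3_c55)) = (LP (LK LD1_c21 LD2_c55 LD3_c30)) :=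
  Lre_b IH (LK LD1_c30 LD2_c12 LD3_c55) (LK LD1_c21 LD2_c55 LD3_c30) Lrfl Lrfl
theorem f67893 : Led Lsl_dt (LP (LK LD1_c12 LD2_c13 LD3_c18)) = (LP (LK LD1_c6 LD2_c18 LD3_c43)) :=
  Lre_d IH (LK LD1_c12 LD2_c13 LD3_c18) (LK LD1_c6 LD2_c18 LD3_c43) Lrfl Lrfl
theorem f155394 : Led Lsl_at (LP (LK LD1_c6 LD2_c18 LD3_c43)) = (LP (LK LD1_c6 LD2_c18 LD3_c7)) :=
  Lgr Lrot51 (Lpe (f67893 IH) (Lpr_af (K7.f155385 IH) (Lpe (K7.f113913 IH) (Lpn (LP (LK LD1_c6 LD2_c18 LD3_c7))))))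
theorem f758894 : Led Lsl_gt (LP (LK LD1_c6 LD2_c22 LD3_c33)) = v17352 :=
  Lgr Lrot5 (Lpr_ft (K11.f430578 IH) (Lpr_at (f155394 IH) (Lpr_gf (f758893 IH) (Lpn v17352))))
theorem f131247 : Led Lsl_gt (LP (LK LD1_c23 LD2_c22 LD3_c24)) = (LP (LK LD1_c13 LD2_c52 LD3_c29)) :=
  Lre_g IH (LK LD1_c23 LD2_c22 LD3_c24) (LK LD1_c13 LD2_c52 LD3_c29) Lrfl Lrfl
theorem f758900 : Led Lsl_ct (LP (LK LD1_c30 LD2_c12 LD3_c55)) = (LP (LK LD1_c23 LD2_c22 LD3_c24)) :=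
  Lgr Lrot64 (Lpr_bt (f647727 IH) (Lpe (f155827 IH) (Lpe (f114695 IH) (Lpr_ct (K7.f84311 IH) (Lpr_gf (f647723 IH) (Lpr_cf (f758897 IH) (Lpe (f758894 IH) (Lpe (K11.f430574 IH) (Lpr_ct (K11.f430542 IH) (Lpe (f131247 IH) (Lpn (LP (LK LD1_c23 LD2_c22 LD3_c24)))))))))))))
theorem f758901 : Led Lsl_ct (LP (LK LD1_c30 LD2_c12 LD3_c55)) = (LP (LK LD1_c23 LD2_c22 LD3_c24)) :=
  Leop (Lpe (f758900 IH) (Lpn (LP (LK LD1_c30 LD2_c12 LD3_c55))))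
theorem seed_1152 : LEOK LG_c (LK LD1_c30 LD2_c12 LD3_c55) :=
  Leoe_c (LK LD1_c30 LD2_c12 LD3_c55) (f758901 IH)
def v17381 : LQ := Led Lsl_et (LP (LK LD1_c6 LD2_c18 LD3_c31))
theorem f759037 : Led Lsl_et (LP (LK LD1_c6 LD2_c18 LD3_c31)) = v17381 :=
  Lrfl
theorem f759040 : Led Lsl_ef (LP (LK LD1_c6 LD2_c18 LD3_c31)) = v17381 :=
  Lgr Lrot88 (Lpr_et (f759037 IH) (Lpn v17381))
theorem f128624 : Led Lsl_ft (LP (LK LD1_c6 LD2_c28 LD3_c31)) = (LP (LK LD1_c12 LD2_c27 LD3_c61)) :=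
  Lre_f IH (LK LD1_c6 LD2_c28 LD3_c31) (LK LD1_c12 LD2_c27 LD3_c61) Lrfl Lrfl
theorem f709022 : Led Lsl_gt (LP (LK LD1_c6 LD2_c18 LD3_c31)) = (LP (LK LD1_c6 LD2_c28 LD3_c37)) :=
  Lgr Lrot46 (Lpr_gf (K51.f708877 IH) (Lpr_ft (f128624 IH) (Lpr_at (K51.f128625 IH) (Lpn (LP (LK LD1_c6 LD2_c28 LD3_c37))))))
theorem f127059 : Led Lsl_bf (LP (LK LD1_c12 LD2_c0 LD3_c4)) = (LP (LK LD1_c9 LD2_c21 LD3_c59)) :=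
  Lgr Lrot24 (Lpr_bt (K5.f127057 IH) (Lpn (LP (LK LD1_c9 LD2_c21 LD3_c59))))
theorem f128629 : Led Lsl_ef (LP (LK LD1_c9 LD2_c21 LD3_c59)) = (LP (LK LD1_c12 LD2_c27 LD3_c61)) :=
  Lgr Lrot29 (Lpe (f127059 IH) (Lpe (K5.f128609 IH) (Lpr_bt (K5.f128622 IH) (Lpn (LP (LK LD1_c12 LD2_c27 LD3_c61))))))
theorem f131489 : Led Lsl_et (LP (LK LD1_c6 LD2_c19 LD3_c26)) = (LP (LK LD1_c6 LD2_c28 LD3_c37)) :=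
  Lgr Lrot123 (Lpr_af (K5.f131481 IH) (Lpr_ef (f128629 IH) (Lpe (K51.f128619 IH) (Lpn (LP (LK LD1_c6 LD2_c28 LD3_c37))))))
theorem f131456 : Led Lsl_bt (LP (LK LD1_c6 LD2_c19 LD3_c60)) = (LP (LK LD1_c3 LD2_c7 LD3_c38)) :=
  Lre_b IH (LK LD1_c6 LD2_c19 LD3_c60) (LK LD1_c3 LD2_c7 LD3_c38) Lrfl Lrfl
theorem f131457 : Led Lsl_dt (LP (LK LD1_c6 LD2_c19 LD3_c26)) = (LP (LK LD1_c6 LD2_c19 LD3_c60)) :=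
  Lgr Lrot79 (Lpe (K52.f131455 IH) (Lpr_df (K51.f131451 IH) (Lpe (f131456 IH) (Lpn (LP (LK LD1_c6 LD2_c19 LD3_c60))))))
theorem f139957 : Led Lsl_ct (LP (LK LD1_c9 LD2_c16 LD3_c3)) = (LP (LK LD1_c6 LD2_c29 LD3_c28)) :=
  Lgr Lrot59 (Lpr_cf (K9.f139941 IH) (Lpn (LP (LK LD1_c6 LD2_c29 LD3_c28))))
theorem f101955 : Led Lsl_dt (LP (LK LD1_c4 LD2_c40 LD3_c44)) = (LP (LK LD1_c9 LD2_c16 LD3_c55)) :=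
  Lre_d IH (LK LD1_c4 LD2_c40 LD3_c44) (LK LD1_c9 LD2_c16 LD3_c55) Lrfl Lrfl
theorem f98934 : Led Lsl_dt (LP (LK LD1_c4 LD2_c40 LD3_c19)) = (LP (LK LD1_c9 LD2_c16 LD3_c5)) :=
  Lre_d IH (LK LD1_c4 LD2_c40 LD3_c19) (LK LD1_c9 LD2_c16 LD3_c5) Lrfl Lrfl
theorem f103199 : Led Lsl_et (LP (LK LD1_c0 LD2_c31 LD3_c8)) = (LP (LK LD1_c1 LD2_c7 LD3_c56)) :=
  Lre_e IH (LK LD1_c0 LD2_c31 LD3_c8) (LK LD1_c1 LD2_c7 LD3_c56) Lrfl Lrfl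
theorem f103203 : Led Lsl_gf (LP (LK LD1_c9 LD2_c16 LD3_c5)) = (LP (LK LD1_c9 LD2_c27 LD3_c1)) :=
  Lgr Lrot145 (Lpe (f98934 IH) (Lpr_et (K1.f58275 IH) (Lpr_gt (K3.f103190 IH) (Lpe (K3.f103111 IH) (Lpr_gt (K3.f13768 IH) (Lpe (K3.f13785 IH) (Lpr_et (f103199 IH) (Lpr_gt (K50.f103200 IH) (Lpe (K50.f103201 IH) (Lpr_dt (K50.f103202 IH) (Lpn (LP (LK LD1_c9 LD2_c27 LD3_c1)))))))))))))
theorem f103205 : Led Lsl_at (LP (LK LD1_c4 LD2_c40 LD3_c43)) = (LP (LK LD1_c9 LD2_c16 LD3_c5)) :=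
  Lre_a IH (LK LD1_c4 LD2_c40 LD3_c43) (LK LD1_c9 LD2_c16 LD3_c5) Lrfl Lrfl
theorem f103206 : Led Lsl_ft (LP (LK LD1_c9 LD2_c16 LD3_c55)) = (LP (LK LD1_c4 LD2_c40 LD3_c43)) :=
  Lre_f IH (LK LD1_c9 LD2_c16 LD3_c55) (LK LD1_c4 LD2_c40 LD3_c43) Lrfl Lrfl
theorem f103207 : Led Lsl_gt (LP (LK LD1_c9 LD2_c16 LD3_c55)) = (LP (LK LD1_c9 LD2_c27 LD3_c1)) :=
  Lgr Lrot5 (Lpr_ft (f103206 IH) (Lpr_at (f103205 IH) (Lpr_gf (f103203 IH) (Lpn (LP (LK LD1_c9 LD2_c27 LD3_c1))))))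
theorem f98986 : Led Lsl_ct (LP (LK LD1_c2 LD2_c21 LD3_c27)) = (LP (LK LD1_c1 LD2_c7 LD3_c60)) :=
  Lre_c IH (LK LD1_c2 LD2_c21 LD3_c27) (LK LD1_c1 LD2_c7 LD3_c60) Lrfl Lrfl
theorem f139959 : Led Lsl_ct (LP (LK LD1_c4 LD2_c40 LD3_c44)) = (LP (LK LD1_c2 LD2_c17 LD3_c27)) :=
  Lre_c IH (LK LD1_c4 LD2_c40 LD3_c44) (LK LD1_c2 LD2_c17 LD3_c27) Lrfl Lrfl
def v13504 : LQ := Led Lsl_gt (LP (LK LD1_c4 LD2_c44 LD3_c37))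
theorem f703383 : Led Lsl_gt (LP (LK LD1_c4 LD2_c44 LD3_c37)) = v13504 :=
  Lrfl
theorem f708555 : (LP (LK LD1_c6 LD2_c29 LD3_c28)) = v13504 :=
  (Llr Lrot169 (Lpe (K9.f139941 IH) (Lpr_gt (K9.f101954 IH) (Lpr_ct (f139959 IH) (Lpe (f139960 IH) (Lpe (f98986 IH) (Lpe (K50.f79500 IH) (Lpr_cf (K50.f141114 IH) (Lpr_gf (K51.f708549 IH) (Lpr_df (K5.f127040 IH) (Lpr_gt (f703383 IH) (Lpn v13504)))))))))))).symm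
theorem f703384 : Led Lsl_gf (LP (LK LD1_c6 LD2_c19 LD3_c26)) = v13504 :=
  Lgr Lrot76 (Lpr_af (K5.f131481 IH) (Lpe (K5.f103247 IH) (Lpr_gt (f703383 IH) (Lpn v13504))))
theorem f708558 : Led Lsl_gf (LP (LK LD1_c7 LD2_c21 LD3_c5)) = (LP (LK LD1_c6 LD2_c19 LD3_c60)) :=
  Lgr Lrot154 (Lpr_dt (K50.f704240 IH) (Lpe (K50.f704232 IH) (Lpe (K50.f103211 IH) (Lpe (f103207 IH) (Lpe (f101955 IH) (Lpe (K9.f101954 IH) (Lpr_ct (f139957 IH) (Lpqs (f708555 IH) (Lpe (f703384 IH) (Lpr_dt (f131457 IH) (Lpn (LP (LK LD1_c6 LD2_c19 LD3_c60)))))))))))))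
theorem f704238 : Led Lsl_df (LP (LK LD1_c7 LD2_c21 LD3_c5)) = K50.v13678 :=
  Lgr Lrot12 (Lpr_bt (K49.f208923 IH) (Lpr_dt (K50.f661631 IH) (Lpr_bt (K50.f704234 IH) (Lpn K50.v13678))))
theorem f708533 : Led Lsl_dt (LP (LK LD1_c9 LD2_c26 LD3_c59)) = (LP (LK LD1_c9 LD2_c21 LD3_c59)) :=
  Lgr Lrot42 (Lpr_df (K51.f708529 IH) (Lpn (LP (LK LD1_c9 LD2_c21 LD3_c59))))
theorem f127045 : Led Lsl_af (LP (LK LD1_c3 LD2_c7 LD3_c11)) = (LP (LK LD1_c4 LD2_c44 LD3_c37)) :=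
  Lgr Lrot117 (Lpe (K51.f125279 IH) (Lpr_at (K4.f120135 IH) (Lpr_dt (K5.f127043 IH) (Lpn (LP (LK LD1_c4 LD2_c44 LD3_c37))))))
theorem f77810 : Led Lsl_gt (LP (LK LD1_c6 LD2_c19 LD3_c25)) = (LP (LK LD1_c3 LD2_c7 LD3_c11)) :=
  Lre_g IH (LK LD1_c6 LD2_c19 LD3_c25) (LK LD1_c3 LD2_c7 LD3_c11) Lrfl Lrfl
theorem f440275 : Led Lsl_gf (LP (LK LD1_c6 LD2_c19 LD3_c25)) = (LP (LK LD1_c9 LD2_c21 LD3_c59)) :=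
  Lgr Lrot47 (Lpr_gt (f77810 IH) (Lpr_af (f127045 IH) (Lpe (K5.f103250 IH) (Lpn (LP (LK LD1_c9 LD2_c21 LD3_c59))))))
theorem f759043 : Led Lsl_df (LP (LK LD1_c6 LD2_c19 LD3_c25)) = v17381 :=
  Lgr Lrot132 (Lpr_gf (f440275 IH) (Lpe (f708533 IH) (Lpe (K51.f527256 IH) (Lpr_ef (K50.f704233 IH) (Lpe (f704238 IH) (Lpr_gf (f708558 IH) (Lpe (f131457 IH) (Lpr_et (f131489 IH) (Lpe (f709022 IH) (Lpr_ef (f759040 IH) (Lpn v17381)))))))))))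
theorem f413663 : Led Lsl_bt (LP (LK LD1_c1 LD2_c5 LD3_c39)) = (LP (LK LD1_c0 LD2_c30 LD3_c2)) :=
  Lre_b IH (LK LD1_c1 LD2_c5 LD3_c39) (LK LD1_c0 LD2_c30 LD3_c2) Lrfl Lrfl
theorem f413664 : Led Lsl_ct (LP (LK LD1_c1 LD2_c5 LD3_c39)) = (LP (LK LD1_c2 LD2_c17 LD3_c24)) :=
  Lre_c IH (LK LD1_c1 LD2_c5 LD3_c39) (LK LD1_c2 LD2_c17 LD3_c24) Lrfl Lrfl
theorem f78696 : Led Lsl_gt (LP (LK LD1_c4 LD2_c40 LD3_c42)) = (LP (LK LD1_c2 LD2_c17 LD3_c24)) :=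
  Lre_g IH (LK LD1_c4 LD2_c40 LD3_c42) (LK LD1_c2 LD2_c17 LD3_c24) Lrfl Lrfl
def v13145 : LQ := Led Lsl_ct (LP (LK LD1_c4 LD2_c40 LD3_c42))
theorem f701379 : Led Lsl_ct (LP (LK LD1_c4 LD2_c40 LD3_c42)) = v13145 :=
  Lrfl
theorem f701381 : Led Lsl_cf (LP (LK LD1_c4 LD2_c40 LD3_c42)) = v13145 :=
  Lgr Lrot11 (Lpr_ct (f701379 IH) (Lpn v13145))
theorem f708514 : (LP (LK LD1_c6 LD2_c19 LD3_c25)) = v13145 :=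
  (Llr Lrot82 (Lpr_gf (f440275 IH) (Lpe (K5.f127057 IH) (Lpr_ct (K51.f703144 IH) (Lpqs (K51.f708503 IH) (Lpe (K51.f504147 IH) (Lpe (K51.f61058 IH) (Lpr_bt (K51.f61057 IH) (Lpe (K0.f23263 IH) (Lpe (f413663 IH) (Lpr_ct (f413664 IH) (Lpe (f78696 IH) (Lpr_cf (f701381 IH) (Lpn v13145)))))))))))))).symm
def v13144 : LQ := Led Lsl_ft (LP (LK LD1_c4 LD2_c40 LD3_c41))
theorem f701371 : Led Lsl_ft (LP (LK LD1_c4 LD2_c40 LD3_c41)) = v13144 :=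
  Lrfl
def v13142 : LQ := Led Lsl_at (LP (LK LD1_c4 LD2_c40 LD3_c41))
theorem f701315 : Led Lsl_at (LP (LK LD1_c4 LD2_c40 LD3_c41)) = v13142 :=
  Lrfl
theorem f701316 : Led Lsl_af (LP (LK LD1_c4 LD2_c40 LD3_c41)) = v13142 :=
  Lgr Lrot0 (Lpr_at (f701315 IH) (Lpn v13142))
theorem f701323 : Led Lsl_ft (LP (LK LD1_c4 LD2_c40 LD3_c42)) = v13142 :=
  Lgr Lrot2 (Lpr_gt (f78696 IH) (Lpr_gt (K50.f79464 IH) (Lpr_af (f701316 IH) (Lpn v13142))))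
theorem f701372 : Led Lsl_af (LP (LK LD1_c4 LD2_c40 LD3_c42)) = v13144 :=
  Lgr Lrot45 (Lpr_ft (f701323 IH) (Lpe (f701316 IH) (Lpr_ft (f701371 IH) (Lpn v13144))))
theorem f79467 : Led Lsl_dt (LP (LK LD1_c4 LD2_c40 LD3_c41)) = (LP (LK LD1_c9 LD2_c16 LD3_c47)) :=
  Lre_d IH (LK LD1_c4 LD2_c40 LD3_c41) (LK LD1_c9 LD2_c16 LD3_c47) Lrfl Lrfl
theorem f701337 : Led Lsl_ct (LP (LK LD1_c9 LD2_c16 LD3_c47)) = (LP (LK LD1_c17 LD2_c11 LD3_c45)) :=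
  Lre_c IH (LK LD1_c9 LD2_c16 LD3_c47) (LK LD1_c17 LD2_c11 LD3_c45) Lrfl Lrfl
theorem f704353 : Led Lsl_et (LP (LK LD1_c12 LD2_c11 LD3_c12)) = K50.v13690 :=
  Lgr Lrot87 (Lpr_ef (K50.f704350 IH) (Lpn K50.v13690))
theorem f759042 : Led Lsl_ct K50.v13690 = v17381 :=
  Lgr Lrot15 (Lpe (f704353 IH) (Lpr_cf (K51.f438621 IH) (Lpr_ef (f759040 IH) (Lpn v17381))))
theorem f704268 : Led Lsl_ct (LP (LK LD1_c9 LD2_c27 LD3_c16)) = (LP (LK LD1_c4 LD2_c47 LD3_c8)) :=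
  Lre_c IH (LK LD1_c9 LD2_c27 LD3_c16) (LK LD1_c4 LD2_c47 LD3_c8) Lrfl Lrfl
theorem f759045 : Led Lsl_dt (LP (LK LD1_c17 LD2_c11 LD3_c45)) = (LP (LK LD1_c9 LD2_c27 LD3_c16)) :=
  Lgr Lrot32 (Lpe (f701337 IH) (Lpe (f79467 IH) (Lpr_ft (f701371 IH) (Lpe (f701372 IH) (Lpr_cf (f701381 IH) (Lpq (f708514 IH) (Lpr_df (f759043 IH) (Lpe (f759042 IH) (Lpe (K50.f704340 IH) (Lpe (f704268 IH) (Lpn (LP (LK LD1_c9 LD2_c27 LD3_c16)))))))))))))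
theorem f759046 : Led Lsl_dt (LP (LK LD1_c17 LD2_c11 LD3_c45)) = (LP (LK LD1_c9 LD2_c27 LD3_c16)) :=
  Leop (Lpe (f759045 IH) (Lpn (LP (LK LD1_c17 LD2_c11 LD3_c45))))
theorem seed_1153 : LEOK LG_d (LK LD1_c17 LD2_c11 LD3_c45) :=
  Leoe_d (LK LD1_c17 LD2_c11 LD3_c45) (f759046 IH)
theorem f58297 : Led Lsl_dt (LP (LK LD1_c4 LD2_c40 LD3_c42)) = (LP (LK LD1_c9 LD2_c16 LD3_c50)) :=
  Lre_d IH (LK LD1_c4 LD2_c40 LD3_c42) (LK LD1_c9 LD2_c16 LD3_c50) Lrfl Lrfl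
theorem f701324 : Led Lsl_ct (LP (LK LD1_c9 LD2_c16 LD3_c50)) = (LP (LK LD1_c17 LD2_c11 LD3_c53)) :=
  Lre_c IH (LK LD1_c9 LD2_c16 LD3_c50) (LK LD1_c17 LD2_c11 LD3_c53) Lrfl Lrfl
def v13687 : LQ := Led Lsl_at (LP (LK LD1_c4 LD2_c47 LD3_c7))
theorem f704311 : Led Lsl_at (LP (LK LD1_c4 LD2_c47 LD3_c7)) = v13687 :=
  Lrfl
theorem f704312 : Led Lsl_af (LP (LK LD1_c4 LD2_c47 LD3_c7)) = v13687 :=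
  Lgr Lrot0 (Lpr_at (f704311 IH) (Lpn v13687))
theorem f633322 : Led Lsl_gt (LP (LK LD1_c2 LD2_c21 LD3_c26)) = (LP (LK LD1_c4 LD2_c47 LD3_c7)) :=
  Lre_g IH (LK LD1_c2 LD2_c21 LD3_c26) (LK LD1_c4 LD2_c47 LD3_c7) Lrfl Lrfl
theorem f704316 : Led Lsl_ft (LP (LK LD1_c4 LD2_c47 LD3_c8)) = v13687 :=
  Lgr Lrot2 (Lpr_gt (K50.f78512 IH) (Lpr_gt (f633322 IH) (Lpr_af (f704312 IH) (Lpn v13687))))
theorem f704259 : Led Lsl_ct (LP (LK LD1_c9 LD2_c27 LD3_c13)) = (LP (LK LD1_c4 LD2_c47 LD3_c7)) :=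
  Lre_c IH (LK LD1_c9 LD2_c27 LD3_c13) (LK LD1_c4 LD2_c47 LD3_c7) Lrfl Lrfl
theorem f759047 : Led Lsl_dt (LP (LK LD1_c17 LD2_c11 LD3_c53)) = (LP (LK LD1_c9 LD2_c27 LD3_c13)) :=
  Lgr Lrot120 (Lpe (f701324 IH) (Lpe (f58297 IH) (Lpr_cf (f701381 IH) (Lpq (f708514 IH) (Lpr_df (f759043 IH) (Lpe (f759042 IH) (Lpe (K50.f704340 IH) (Lpr_ft (f704316 IH) (Lpe (f704312 IH) (Lpe (f704259 IH) (Lpn (LP (LK LD1_c9 LD2_c27 LD3_c13)))))))))))))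
theorem f759048 : Led Lsl_dt (LP (LK LD1_c17 LD2_c11 LD3_c53)) = (LP (LK LD1_c9 LD2_c27 LD3_c13)) :=
  Leop (Lpe (f759047 IH) (Lpn (LP (LK LD1_c17 LD2_c11 LD3_c53))))
theorem seed_1154 : LEOK LG_d (LK LD1_c17 LD2_c11 LD3_c53) :=
  Leoe_d (LK LD1_c17 LD2_c11 LD3_c53) (f759048 IH)
def v17382 : LQ := Led Lsl_ft (LP (LK LD1_c6 LD2_c18 LD3_c31))
theorem f759081 : Led Lsl_ft (LP (LK LD1_c6 LD2_c18 LD3_c31)) = v17382 :=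
  Lrfl
theorem f759084 : Led Lsl_ff (LP (LK LD1_c6 LD2_c18 LD3_c31)) = v17382 :=
  Lgr Lrot3 (Lpr_ft (f759081 IH) (Lpn v17382))
def v5344 : LQ := Led Lsl_ft (LP (LK LD1_c3 LD2_c6 LD3_c30))
theorem f647190 : Led Lsl_ft (LP (LK LD1_c3 LD2_c6 LD3_c30)) = v5344 :=
  Lrfl
theorem f759086 : Led Lsl_bt v5344 = v17382 :=
  Lgr Lrot35 (Lpe (f647190 IH) (Lpe (K51.f76651 IH) (Lpr_ff (f759084 IH) (Lpn v17382))))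
theorem f647192 : Led Lsl_ff (LP (LK LD1_c3 LD2_c6 LD3_c30)) = v5344 :=
  Lgr Lrot3 (Lpr_ft (f647190 IH) (Lpn v5344))
def v5342 : LQ := Led Lsl_at (LP (LK LD1_c3 LD2_c6 LD3_c30))
theorem f647177 : Led Lsl_at (LP (LK LD1_c3 LD2_c6 LD3_c30)) = v5342 :=
  Lrfl
theorem f647178 : Led Lsl_af (LP (LK LD1_c3 LD2_c6 LD3_c30)) = v5342 :=
  Lgr Lrot0 (Lpr_at (f647177 IH) (Lpn v5342))
theorem f647179 : Led Lsl_ft (LP (LK LD1_c3 LD2_c6 LD3_c31)) = v5342 :=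
  Lgr Lrot2 (Lpr_gt (K51.f76667 IH) (Lpr_gt (K51.f76669 IH) (Lpr_af (f647178 IH) (Lpn v5342))))
theorem f647183 : Led Lsl_ff (LP (LK LD1_c3 LD2_c6 LD3_c31)) = v5342 :=
  Lgr Lrot3 (Lpr_ft (f647179 IH) (Lpn v5342))
theorem f647193 : Led Lsl_at (LP (LK LD1_c3 LD2_c6 LD3_c31)) = v5344 :=
  Lgr Lrot66 (Lpr_ff (f647183 IH) (Lpe (f647177 IH) (Lpr_ff (f647192 IH) (Lpn v5344))))
def v17379 : LQ := Led Lsl_at (LP (LK LD1_c6 LD2_c18 LD3_c31))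
theorem f759029 : Led Lsl_at (LP (LK LD1_c6 LD2_c18 LD3_c31)) = v17379 :=
  Lrfl
theorem f759030 : Led Lsl_af (LP (LK LD1_c6 LD2_c18 LD3_c31)) = v17379 :=
  Lgr Lrot0 (Lpr_at (f759029 IH) (Lpn v17379))
theorem f759031 : Led Lsl_ft (LP (LK LD1_c12 LD2_c27 LD3_c60)) = v17379 :=
  Lgr Lrot2 (Lpr_gt (K51.f128677 IH) (Lpe (K51.f708877 IH) (Lpr_af (f759030 IH) (Lpn v17379))))
theorem f759082 : Led Lsl_af (LP (LK LD1_c12 LD2_c27 LD3_c60)) = v17382 :=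
  Lgr Lrot45 (Lpr_ft (f759031 IH) (Lpe (f759030 IH) (Lpr_ft (f759081 IH) (Lpn v17382))))
theorem f708161 : Led Lsl_bt (LP (LK LD1_c12 LD2_c27 LD3_c60)) = (LP (LK LD1_c6 LD2_c30 LD3_c30)) :=
  Lgr Lrot127 (Lpr_bf (K51.f708159 IH) (Lpn (LP (LK LD1_c6 LD2_c30 LD3_c30))))
theorem f759087 : Led Lsl_af (LP (LK LD1_c6 LD2_c18 LD3_c34)) = (LP (LK LD1_c6 LD2_c30 LD3_c30)) :=
  Lgr Lrot36 (Lpr_bt (K51.f76652 IH) (Lpr_at (f647193 IH) (Lpr_bt (f759086 IH) (Lpe (f759082 IH) (Lpr_bt (f708161 IH) (Lpn (LP (LK LD1_c6 LD2_c30 LD3_c30))))))))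
theorem f759088 : Led Lsl_at (LP (LK LD1_c6 LD2_c30 LD3_c30)) = (LP (LK LD1_c6 LD2_c18 LD3_c34)) :=
  Leop (Lpr_af (f759087 IH) (Lpn (LP (LK LD1_c6 LD2_c30 LD3_c30))))
theorem seed_1155 : LEOK LG_a (LK LD1_c6 LD2_c30 LD3_c30) :=
  Leoe_a (LK LD1_c6 LD2_c30 LD3_c30) (f759088 IH)
theorem f657465 : Led Lsl_gt (LP (LK LD1_c6 LD2_c30 LD3_c31)) = K51.v6649 :=
  Lgr Lrot5 (Lpr_ft (K5.f68495 IH) (Lpe (K48.f209035 IH) (Lpr_gf (K51.f657464 IH) (Lpn K51.v6649))))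
theorem f109377 : Led Lsl_ft (LP (LK LD1_c3 LD2_c25 LD3_c0)) = (LP (LK LD1_c6 LD2_c52 LD3_c26)) :=
  Lre_f IH (LK LD1_c3 LD2_c25 LD3_c0) (LK LD1_c6 LD2_c52 LD3_c26) Lrfl Lrfl
theorem f209023 : Led Lsl_at (LP (LK LD1_c6 LD2_c52 LD3_c26)) = (LP (LK LD1_c6 LD2_c30 LD3_c31)) :=
  Lgr Lrot80 (Lpr_ef (K48.f209021 IH) (Lpe (K51.f209004 IH) (Lpe (K46.f129078 IH) (Lpn (LP (LK LD1_c6 LD2_c30 LD3_c31))))))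
theorem f657463 : Led Lsl_gf (LP (LK LD1_c6 LD2_c30 LD3_c31)) = K52.v6648 :=
  Lgr Lrot76 (Lpe (f209023 IH) (Lpe (f109377 IH) (Lpr_gt (K52.f657462 IH) (Lpn K52.v6648))))
theorem f759093 : Led Lsl_ft K52.v6648 = (LP (LK LD1_c6 LD2_c30 LD3_c30)) :=
  Lgr Lrot2 (Lpe (f657463 IH) (Lpr_gt (f657465 IH) (Lpqs (K51.f709040 IH) (Lpr_af (f759087 IH) (Lpn (LP (LK LD1_c6 LD2_c30 LD3_c30)))))))
theorem f759097 : (LP (LK LD1_c6 LD2_c28 LD3_c34)) = v17379 :=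
  (Llr Lrot61 (Lpr_bt (K52.f709181 IH) (Lpr_ft (f759093 IH) (Lpe (K51.f708159 IH) (Lpr_ft (f759031 IH) (Lpn v17379)))))).symm
theorem f759098 : Led Lsl_at (LP (LK LD1_c6 LD2_c28 LD3_c34)) = (LP (LK LD1_c6 LD2_c18 LD3_c31)) :=
  Leop (Lpr_af (f759030 IH) (Lpq (f759097 IH) (Lpn (LP (LK LD1_c6 LD2_c28 LD3_c34)))))
theorem seed_1156 : LEOK LG_a (LK LD1_c6 LD2_c28 LD3_c34) :=
  Leoe_a (LK LD1_c6 LD2_c28 LD3_c34) (f759098 IH)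
def v5741 : LQ := Led Lsl_dt (LP (LK LD1_c3 LD2_c12 LD3_c40))
theorem f649145 : Led Lsl_dt (LP (LK LD1_c3 LD2_c12 LD3_c40)) = v5741 :=
  Lrfl
theorem f649146 : Led Lsl_df (LP (LK LD1_c3 LD2_c12 LD3_c40)) = v5741 :=
  Lgr Lrot38 (Lpr_dt (f649145 IH) (Lpn v5741))
theorem f76644 : Led Lsl_et (LP (LK LD1_c1 LD2_c29 LD3_c18)) = (LP (LK LD1_c3 LD2_c6 LD3_c24)) :=
  Lre_e IH (LK LD1_c1 LD2_c29 LD3_c18) (LK LD1_c3 LD2_c6 LD3_c24) Lrfl Lrfl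
theorem f67682 : Led Lsl_gt (LP (LK LD1_c3 LD2_c6 LD3_c24)) = (LP (LK LD1_c6 LD2_c18 LD3_c16)) :=
  Lre_g IH (LK LD1_c3 LD2_c6 LD3_c24) (LK LD1_c6 LD2_c18 LD3_c16) Lrfl Lrfl
theorem f649147 : Led Lsl_ef (LP (LK LD1_c6 LD2_c18 LD3_c16)) = v5741 :=
  Lgr Lrot17 (Lpe (f67682 IH) (Lpe (f76644 IH) (Lpr_dt (K2.f25117 IH) (Lpr_gf (K3.f76915 IH) (Lpe (K4.f99205 IH) (Lpe (K4.f20281 IH) (Lpe (K2.f76904 IH) (Lpe (K49.f73758 IH) (Lpe (K49.f61606 IH) (Lpr_df (f649146 IH) (Lpn v5741)))))))))))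
def v17364 : LQ := Led Lsl_at (LP (LK LD1_c6 LD2_c18 LD3_c16))
theorem f758959 : Led Lsl_at (LP (LK LD1_c6 LD2_c18 LD3_c16)) = v17364 :=
  Lrfl
theorem f758960 : Led Lsl_af (LP (LK LD1_c6 LD2_c18 LD3_c16)) = v17364 :=
  Lgr Lrot0 (Lpr_at (f758959 IH) (Lpn v17364))
theorem f67916 : Led Lsl_gt (LP (LK LD1_c6 LD2_c18 LD3_c17)) = (LP (LK LD1_c3 LD2_c6 LD3_c24)) :=
  Lre_g IH (LK LD1_c6 LD2_c18 LD3_c17) (LK LD1_c3 LD2_c6 LD3_c24) Lrfl Lrfl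
theorem f758961 : Led Lsl_ft (LP (LK LD1_c6 LD2_c18 LD3_c17)) = v17364 :=
  Lgr Lrot2 (Lpr_gt (f67916 IH) (Lpr_gt (f67682 IH) (Lpr_af (f758960 IH) (Lpn v17364))))
theorem f759083 : Led Lsl_bf v5344 = v17382 :=
  Lgr Lrot61 (Lpe (f647192 IH) (Lpr_bt (K51.f438626 IH) (Lpr_ft (f759081 IH) (Lpn v17382))))
theorem f58461 : Led Lsl_bt (LP (LK LD1_c1 LD2_c29 LD3_c4)) = (LP (LK LD1_c0 LD2_c41 LD3_c13)) :=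
  Lre_b IH (LK LD1_c1 LD2_c29 LD3_c4) (LK LD1_c0 LD2_c41 LD3_c13) Lrfl Lrfl
theorem f58477 : Led Lsl_ct (LP (LK LD1_c1 LD2_c29 LD3_c4)) = (LP (LK LD1_c3 LD2_c5 LD3_c57)) :=
  Lre_c IH (LK LD1_c1 LD2_c29 LD3_c4) (LK LD1_c3 LD2_c5 LD3_c57) Lrfl Lrfl
theorem f58622 : Led Lsl_gt (LP (LK LD1_c6 LD2_c17 LD3_c27)) = (LP (LK LD1_c3 LD2_c5 LD3_c57)) :=
  Lre_g IH (LK LD1_c6 LD2_c17 LD3_c27) (LK LD1_c3 LD2_c5 LD3_c57) Lrfl Lrfl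
theorem f128633 : Led Lsl_gt (LP (LK LD1_c12 LD2_c27 LD3_c61)) = (LP (LK LD1_c6 LD2_c28 LD3_c35)) :=
  Lre_g IH (LK LD1_c12 LD2_c27 LD3_c61) (LK LD1_c6 LD2_c28 LD3_c35) Lrfl Lrfl
theorem f708850 : Led Lsl_cf (LP (LK LD1_c6 LD2_c17 LD3_c27)) = (LP (LK LD1_c6 LD2_c28 LD3_c35)) :=
  Lgr Lrot125 (Lpr_gt (f58622 IH) (Lpe (f58477 IH) (Lpr_bt (f58461 IH) (Lpr_gt (K29.f57673 IH) (Lpe (K49.f443954 IH) (Lpr_ct (K52.f443957 IH) (Lpqs (K52.f708825 IH) (Lpe (K52.f665704 IH) (Lpr_cf (K5.f126529 IH) (Lpr_bt (K5.f128622 IH) (Lpr_gt (f128633 IH) (Lpn (LP (LK LD1_c6 LD2_c28 LD3_c35))))))))))))))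
theorem f76618 : Led Lsl_gt (LP (LK LD1_c3 LD2_c6 LD3_c33)) = (LP (LK LD1_c6 LD2_c18 LD3_c17)) :=
  Lre_g IH (LK LD1_c3 LD2_c6 LD3_c33) (LK LD1_c6 LD2_c18 LD3_c17) Lrfl Lrfl
theorem f708860 : Led Lsl_bf (LP (LK LD1_c6 LD2_c18 LD3_c17)) = (LP (LK LD1_c6 LD2_c28 LD3_c35)) :=
  Lgr Lrot34 (Lpe (f76618 IH) (Lpe (K32.f68280 IH) (Lpe (K32.f73601 IH) (Lpr_gf (K16.f79881 IH) (Lpr_cf (K32.f443952 IH) (Lpe (K29.f57673 IH) (Lpe (f58461 IH) (Lpr_ct (f58477 IH) (Lpe (f58622 IH) (Lpr_cf (f708850 IH) (Lpn (LP (LK LD1_c6 LD2_c28 LD3_c35)))))))))))))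
theorem f58384 : Led Lsl_ct (LP (LK LD1_c3 LD2_c5 LD3_c54)) = (LP (LK LD1_c6 LD2_c17 LD3_c21)) :=
  Lre_c IH (LK LD1_c3 LD2_c5 LD3_c54) (LK LD1_c6 LD2_c17 LD3_c21) Lrfl Lrfl
theorem f58242 : Led Lsl_gt (LP (LK LD1_c12 LD2_c11 LD3_c13)) = (LP (LK LD1_c6 LD2_c17 LD3_c21)) :=
  Lre_g IH (LK LD1_c12 LD2_c11 LD3_c13) (LK LD1_c6 LD2_c17 LD3_c21) Lrfl Lrfl
theorem f708168 : Led Lsl_ct (LP (LK LD1_c12 LD2_c27 LD3_c60)) = (LP (LK LD1_c12 LD2_c11 LD3_c13)) :=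
  Lgr Lrot91 (Lpe (K51.f131492 IH) (Lpe (K51.f128464 IH) (Lpr_ct (K5.f128468 IH) (Lpr_gf (K51.f208224 IH) (Lpr_cf (K51.f708163 IH) (Lpe (K51.f663043 IH) (Lpe (K24.f58383 IH) (Lpr_bf (K1.f58355 IH) (Lpr_ct (f58384 IH) (Lpe (f58242 IH) (Lpn (LP (LK LD1_c12 LD2_c11 LD3_c13)))))))))))))
theorem f715642 : Led Lsl_cf (LP (LK LD1_c12 LD2_c27 LD3_c60)) = (LP (LK LD1_c12 LD2_c11 LD3_c13)) :=
  Lgr Lrot11 (Lpr_ct (f708168 IH) (Lpn (LP (LK LD1_c12 LD2_c11 LD3_c13))))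
def v17292 : LQ := Led Lsl_ft (LP (LK LD1_c6 LD2_c17 LD3_c26))
theorem f758210 : Led Lsl_ft (LP (LK LD1_c6 LD2_c17 LD3_c26)) = v17292 :=
  Lrfl
theorem f759102 : (LP (LK LD1_c12 LD2_c11 LD3_c13)) = v17292 :=
  (Llr Lrot108 (Lpe (f715642 IH) (Lpr_ft (f759031 IH) (Lpq (f759097 IH) (Lpr_ct (K52.f709182 IH) (Lpr_ft (f758210 IH) (Lpn v17292))))))).symm
theorem f758212 : Led Lsl_ff (LP (LK LD1_c6 LD2_c17 LD3_c26)) = v17292 :=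
  Lgr Lrot3 (Lpr_ft (f758210 IH) (Lpn v17292))
def v17289 : LQ := Led Lsl_at (LP (LK LD1_c6 LD2_c17 LD3_c26))
theorem f758184 : Led Lsl_at (LP (LK LD1_c6 LD2_c17 LD3_c26)) = v17289 :=
  Lrfl
theorem f759111 : v17289 = (LP (LK LD1_c12 LD2_c11 LD3_c12)) :=
  (Llr Lrot26 (Lpe (f758184 IH) (Lpr_ff (f758212 IH) (Lpq (f759102 IH) (Lpr_gt (f58242 IH) (Lpr_gt (K50.f58243 IH) (Lpn (LP (LK LD1_c12 LD2_c11 LD3_c12))))))))).symm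
theorem f758185 : Led Lsl_af (LP (LK LD1_c6 LD2_c17 LD3_c26)) = v17289 :=
  Lgr Lrot0 (Lpr_at (f758184 IH) (Lpn v17289))
theorem f758186 : Led Lsl_ft (LP (LK LD1_c6 LD2_c17 LD3_c27)) = v17289 :=
  Lgr Lrot2 (Lpr_gt (f58622 IH) (Lpr_gt (K52.f58617 IH) (Lpr_af (f758185 IH) (Lpn v17289))))
theorem f438630 : Led Lsl_ct (LP (LK LD1_c12 LD2_c11 LD3_c12)) = (LP (LK LD1_c6 LD2_c18 LD3_c31)) :=
  Lgr Lrot59 (Lpr_cf (K51.f438621 IH) (Lpn (LP (LK LD1_c6 LD2_c18 LD3_c31))))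
theorem f759120 : (LP (LK LD1_c6 LD2_c28 LD3_c35)) = v17382 :=
  (Llr Lrot108 (Lpe (f708850 IH) (Lpr_ft (f758186 IH) (Lpqs (f759111 IH) (Lpr_ct (f438630 IH) (Lpr_ft (f759081 IH) (Lpn v17382))))))).symm
theorem f759125 : v5344 = (LP (LK LD1_c6 LD2_c18 LD3_c17)) :=
  Lefun (Lecon (Lfl_bf (f759083 IH)) (f759120 IH).symm) (Lfl_bf (f708860 IH))
theorem f759129 : (LP (LK LD1_c3 LD2_c6 LD3_c30)) = v17364 :=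
  Lefun (Lecon (Lfl_ff (f647192 IH)) (f759125 IH)) (f758961 IH)
def v5343 : LQ := Led Lsl_et (LP (LK LD1_c3 LD2_c6 LD3_c30))
theorem f647186 : Led Lsl_et (LP (LK LD1_c3 LD2_c6 LD3_c30)) = v5343 :=
  Lrfl
theorem f759176 : Led Lsl_af v5741 = v5343 :=
  Lgr Lrot50 (Lpe (f649147 IH) (Lpr_at (f758959 IH) (Lpq (f759129 IH) (Lpr_et (f647186 IH) (Lpn v5343)))))
def v5740 : LQ := Led Lsl_ft (LP (LK LD1_c3 LD2_c12 LD3_c39))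
theorem f649141 : Led Lsl_ft (LP (LK LD1_c3 LD2_c12 LD3_c39)) = v5740 :=
  Lrfl
theorem f649143 : Led Lsl_ff (LP (LK LD1_c3 LD2_c12 LD3_c39)) = v5740 :=
  Lgr Lrot3 (Lpr_ft (f649141 IH) (Lpn v5740))
def v5738 : LQ := Led Lsl_at (LP (LK LD1_c3 LD2_c12 LD3_c39))
theorem f649133 : Led Lsl_at (LP (LK LD1_c3 LD2_c12 LD3_c39)) = v5738 :=
  Lrfl
theorem f649134 : Led Lsl_af (LP (LK LD1_c3 LD2_c12 LD3_c39)) = v5738 :=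
  Lgr Lrot0 (Lpr_at (f649133 IH) (Lpn v5738))
theorem f649135 : Led Lsl_ft (LP (LK LD1_c3 LD2_c12 LD3_c40)) = v5738 :=
  Lgr Lrot2 (Lpr_gt (K49.f61606 IH) (Lpr_gt (K9.f61435 IH) (Lpr_af (f649134 IH) (Lpn v5738))))
theorem f649136 : Led Lsl_ff (LP (LK LD1_c3 LD2_c12 LD3_c40)) = v5738 :=
  Lgr Lrot3 (Lpr_ft (f649135 IH) (Lpn v5738))
theorem f649144 : Led Lsl_at (LP (LK LD1_c3 LD2_c12 LD3_c40)) = v5740 :=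
  Lgr Lrot66 (Lpr_ff (f649136 IH) (Lpe (f649133 IH) (Lpr_ff (f649143 IH) (Lpn v5740))))
theorem f647187 : Led Lsl_ef (LP (LK LD1_c3 LD2_c6 LD3_c30)) = v5343 :=
  Lgr Lrot88 (Lpr_et (f647186 IH) (Lpn v5343))
theorem f76632 : Led Lsl_et (LP (LK LD1_c0 LD2_c41 LD3_c18)) = (LP (LK LD1_c1 LD2_c29 LD3_c22)) :=
  Lre_e IH (LK LD1_c0 LD2_c41 LD3_c18) (LK LD1_c1 LD2_c29 LD3_c22) Lrfl Lrfl
theorem f76723 : Led Lsl_et (LP (LK LD1_c3 LD2_c22 LD3_c35)) = (LP (LK LD1_c1 LD2_c37 LD3_c33)) :=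
  Lre_e IH (LK LD1_c3 LD2_c22 LD3_c35) (LK LD1_c1 LD2_c37 LD3_c33) Lrfl Lrfl
theorem f76793 : Led Lsl_bt (LP (LK LD1_c1 LD2_c37 LD3_c60)) = (LP (LK LD1_c3 LD2_c22 LD3_c35)) :=
  Lre_b IH (LK LD1_c1 LD2_c37 LD3_c60) (LK LD1_c3 LD2_c22 LD3_c35) Lrfl Lrfl
theorem f76794 : Led Lsl_dt (LP (LK LD1_c3 LD2_c22 LD3_c35)) = (LP (LK LD1_c3 LD2_c12 LD3_c36)) :=
  Lgr Lrot79 (Lpe (f76793 IH) (Lpr_df (K2.f76753 IH) (Lpr_bf (K2.f66999 IH) (Lpn (LP (LK LD1_c3 LD2_c12 LD3_c36))))))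
theorem f67026 : Led Lsl_gt (LP (LK LD1_c6 LD2_c29 LD3_c19)) = (LP (LK LD1_c3 LD2_c12 LD3_c36)) :=
  Lre_g IH (LK LD1_c6 LD2_c29 LD3_c19) (LK LD1_c3 LD2_c12 LD3_c36) Lrfl Lrfl
theorem f647188 : Led Lsl_df (LP (LK LD1_c6 LD2_c29 LD3_c19)) = v5343 :=
  Lgr Lrot170 (Lpr_gt (f67026 IH) (Lpe (f76794 IH) (Lpr_et (f76723 IH) (Lpe (K2.f79040 IH) (Lpr_dt (K2.f25111 IH) (Lpr_gt (K2.f25108 IH) (Lpe (K2.f25103 IH) (Lpr_et (f76632 IH) (Lpr_gt (K51.f76669 IH) (Lpr_ef (f647187 IH) (Lpn v5343)))))))))))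
theorem f647189 : Led Lsl_dt (LP (LK LD1_c6 LD2_c29 LD3_c19)) = v5343 :=
  Lgr Lrot42 (Lpr_df (f647188 IH) (Lpn v5343))
theorem f759178 : v5740 = (LP (LK LD1_c6 LD2_c29 LD3_c19)) :=
  (Llr Lrot51 (Lpe (f649144 IH) (Lpr_df (f649146 IH) (Lpr_af (f759176 IH) (Lpe (f647189 IH) (Lpn (LP (LK LD1_c6 LD2_c29 LD3_c19)))))))).symm
theorem f649142 : Led Lsl_af (LP (LK LD1_c3 LD2_c12 LD3_c40)) = v5740 :=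
  Lgr Lrot45 (Lpr_ft (f649135 IH) (Lpe (f649134 IH) (Lpr_ft (f649141 IH) (Lpn v5740))))
theorem f759179 : Led Lsl_at (LP (LK LD1_c6 LD2_c29 LD3_c19)) = (LP (LK LD1_c3 LD2_c12 LD3_c40)) :=
  Leop (Lpr_af (f649142 IH) (Lpqs (f759178 IH) (Lpn (LP (LK LD1_c6 LD2_c29 LD3_c19)))))
theorem seed_1157 : LEOK LG_a (LK LD1_c6 LD2_c29 LD3_c19) :=
  Leoe_a (LK LD1_c6 LD2_c29 LD3_c19) (f759179 IH)
def v17426 : LQ := Led Lsl_at (LP (LK LD1_c6 LD2_c19 LD3_c3))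
theorem f759699 : Led Lsl_at (LP (LK LD1_c6 LD2_c19 LD3_c3)) = v17426 :=
  Lrfl
theorem f646452 : Led Lsl_et (LP (LK LD1_c3 LD2_c6 LD3_c56)) = (LP (LK LD1_c6 LD2_c19 LD3_c3)) :=
  Lre_e IH (LK LD1_c3 LD2_c6 LD3_c56) (LK LD1_c6 LD2_c19 LD3_c3) Lrfl Lrfl
theorem f759702 : Led Lsl_ef K51.v5369 = v17426 :=
  Lgr Lrot20 (Lpe (K51.f647276 IH) (Lpr_et (f646452 IH) (Lpr_at (f759699 IH) (Lpn v17426))))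
theorem f83515 : Led Lsl_dt (LP (LK LD1_c6 LD2_c49 LD3_c18)) = (LP (LK LD1_c12 LD2_c19 LD3_c47)) :=
  Lgr Lrot42 (Lpr_df (K2.f83509 IH) (Lpn (LP (LK LD1_c12 LD2_c19 LD3_c47))))
theorem f83513 : Led Lsl_gt (LP (LK LD1_c12 LD2_c19 LD3_c47)) = (LP (LK LD1_c6 LD2_c23 LD3_c16)) :=
  Lre_g IH (LK LD1_c12 LD2_c19 LD3_c47) (LK LD1_c6 LD2_c23 LD3_c16) Lrfl Lrfl
theorem f759705 : Led Lsl_df (LP (LK LD1_c6 LD2_c23 LD3_c16)) = v17426 :=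
  Lgr Lrot168 (Lpe (f83513 IH) (Lpe (f83515 IH) (Lpr_et (K2.f76817 IH) (Lpe (K56.f76821 IH) (Lpe (K56.f76833 IH) (Lpr_dt (K56.f90588 IH) (Lpe (K46.f76865 IH) (Lpr_df (K2.f76810 IH) (Lpr_gf (K51.f647258 IH) (Lpqs (K51.f709639 IH) (Lpr_ef (f759702 IH) (Lpn v17426))))))))))))
theorem f83717 : Led Lsl_dt (LP (LK LD1_c12 LD2_c13 LD3_c54)) = (LP (LK LD1_c6 LD2_c19 LD3_c3)) :=
  Lre_d IH (LK LD1_c12 LD2_c13 LD3_c54) (LK LD1_c6 LD2_c19 LD3_c3) Lrfl Lrfl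
theorem f759706 : Led Lsl_at (LP (LK LD1_c6 LD2_c23 LD3_c16)) = (LP (LK LD1_c12 LD2_c13 LD3_c54)) :=
  Lgr Lrot51 (Lpr_df (f759705 IH) (Lpe (f759699 IH) (Lpe (f83717 IH) (Lpn (LP (LK LD1_c12 LD2_c13 LD3_c54))))))
theorem f759707 : Led Lsl_at (LP (LK LD1_c6 LD2_c23 LD3_c16)) = (LP (LK LD1_c12 LD2_c13 LD3_c54)) :=
  Leop (Lpe (f759706 IH) (Lpn (LP (LK LD1_c6 LD2_c23 LD3_c16))))
theorem seed_1158 : LEOK LG_a (LK LD1_c6 LD2_c23 LD3_c16) :=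
  Leoe_a (LK LD1_c6 LD2_c23 LD3_c16) (f759707 IH)
theorem f759708 : Led Lsl_bt (LP (LK LD1_c6 LD2_c23 LD3_c16)) = (LP (LK LD1_c12 LD2_c20 LD3_c0)) :=
  Lre_b IH (LK LD1_c6 LD2_c23 LD3_c16) (LK LD1_c12 LD2_c20 LD3_c0) Lrfl Lrfl
theorem f709486 : Led Lsl_et (LP (LK LD1_c6 LD2_c28 LD3_c17)) = (LP (LK LD1_c12 LD2_c27 LD3_c50)) :=
  Lre_e IH (LK LD1_c6 LD2_c28 LD3_c17) (LK LD1_c12 LD2_c27 LD3_c50) Lrfl Lrfl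
theorem f759703 : Led Lsl_bt (LP (LK LD1_c12 LD2_c27 LD3_c50)) = v17426 :=
  Lgr Lrot119 (Lpe (f709486 IH) (Lpe (K51.f709485 IH) (Lpqs (K51.f709639 IH) (Lpr_ef (f759702 IH) (Lpn v17426)))))
theorem f759709 : Led Lsl_dt (LP (LK LD1_c12 LD2_c20 LD3_c0)) = (LP (LK LD1_c12 LD2_c27 LD3_c50)) :=
  Lgr Lrot79 (Lpe (f759708 IH) (Lpr_df (f759705 IH) (Lpe (f759703 IH) (Lpn (LP (LK LD1_c12 LD2_c27 LD3_c50))))))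
theorem f759710 : Led Lsl_dt (LP (LK LD1_c12 LD2_c20 LD3_c0)) = (LP (LK LD1_c12 LD2_c27 LD3_c50)) :=
  Leop (Lpe (f759709 IH) (Lpn (LP (LK LD1_c12 LD2_c20 LD3_c0))))
theorem seed_1159 : LEOK LG_d (LK LD1_c12 LD2_c20 LD3_c0) :=
  Leoe_d (LK LD1_c12 LD2_c20 LD3_c0) (f759710 IH)
def v17478 : LQ := Led Lsl_ft (LP (LK LD1_c6 LD2_c19 LD3_c41))
theorem f760014 : Led Lsl_ft (LP (LK LD1_c6 LD2_c19 LD3_c41)) = v17478 :=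
  Lrfl
theorem f152617 : Led Lsl_gt (LP (LK LD1_c6 LD2_c19 LD3_c41)) = (LP (LK LD1_c12 LD2_c14 LD3_c28)) :=
  Lre_g IH (LK LD1_c6 LD2_c19 LD3_c41) (LK LD1_c12 LD2_c14 LD3_c28) Lrfl Lrfl
theorem f204566 : Led Lsl_at (LP (LK LD1_c3 LD2_c7 LD3_c50)) = (LP (LK LD1_c6 LD2_c19 LD3_c41)) :=
  Lre_a IH (LK LD1_c3 LD2_c7 LD3_c50) (LK LD1_c6 LD2_c19 LD3_c41) Lrfl Lrfl
theorem f204561 : Led Lsl_ft (LP (LK LD1_c6 LD2_c20 LD3_c35)) = (LP (LK LD1_c3 LD2_c7 LD3_c50)) :=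
  Lre_f IH (LK LD1_c6 LD2_c20 LD3_c35) (LK LD1_c3 LD2_c7 LD3_c50) Lrfl Lrfl
theorem f760015 : Led Lsl_af (LP (LK LD1_c6 LD2_c20 LD3_c35)) = v17478 :=
  Lgr Lrot45 (Lpr_ft (f204561 IH) (Lpr_at (f204566 IH) (Lpr_ft (f760014 IH) (Lpn v17478))))
theorem f760018 : Led Lsl_gt (LP (LK LD1_c12 LD2_c14 LD3_c28)) = (LP (LK LD1_c6 LD2_c20 LD3_c35)) :=
  Lgr Lrot46 (Lpe (f152617 IH) (Lpr_ft (f760014 IH) (Lpe (f760015 IH) (Lpn (LP (LK LD1_c6 LD2_c20 LD3_c35))))))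
theorem f760019 : Led Lsl_gt (LP (LK LD1_c12 LD2_c14 LD3_c28)) = (LP (LK LD1_c6 LD2_c20 LD3_c35)) :=
  Leop (Lpe (f760018 IH) (Lpn (LP (LK LD1_c12 LD2_c14 LD3_c28))))
theorem seed_1160 : LEOK LG_g (LK LD1_c12 LD2_c14 LD3_c28) :=
  Leoe_g (LK LD1_c12 LD2_c14 LD3_c28) (f760019 IH)
def v17481 : LQ := Led Lsl_at (LP (LK LD1_c6 LD2_c19 LD3_c43))
theorem f760033 : Led Lsl_at (LP (LK LD1_c6 LD2_c19 LD3_c43)) = v17481 :=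
  Lrfl
theorem f623811 : Led Lsl_bt (LP (LK LD1_c3 LD2_c7 LD3_c20)) = (LP (LK LD1_c6 LD2_c19 LD3_c43)) :=
  Lre_b IH (LK LD1_c3 LD2_c7 LD3_c20) (LK LD1_c6 LD2_c19 LD3_c43) Lrfl Lrfl
theorem f707777 : (LP (LK LD1_c3 LD2_c7 LD3_c55)) = K51.v5733 :=
  Lefun (Lecon (Lfl_ff (K51.f647676 IH)) (K51.f707773 IH)) (K51.f649102 IH)
theorem f707786 : K51.v5395 = (LP (LK LD1_c1 LD2_c30 LD3_c7)) :=
  Lefun (Lecon (Lfl_ef (K51.f649109 IH)) (f707777 IH).symm) (K51.f110454 IH)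
theorem f504586 : Led Lsl_at (LP (LK LD1_c6 LD2_c20 LD3_c37)) = (LP (LK LD1_c3 LD2_c7 LD3_c52)) :=
  Lre_a IH (LK LD1_c6 LD2_c20 LD3_c37) (LK LD1_c3 LD2_c7 LD3_c52) Lrfl Lrfl
theorem f760035 : Led Lsl_bf (LP (LK LD1_c6 LD2_c20 LD3_c37)) = v17481 :=
  Lgr Lrot81 (Lpr_at (f504586 IH) (Lpr_bt (K46.f419111 IH) (Lpq (f707786 IH) (Lpe (K51.f647363 IH) (Lpr_bt (f623811 IH) (Lpr_at (f760033 IH) (Lpn v17481)))))))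
theorem f760041 : Led Lsl_bt (LP (LK LD1_c6 LD2_c20 LD3_c37)) = v17481 :=
  Lgr Lrot127 (Lpr_bf (f760035 IH) (Lpn v17481))
def v5430 : LQ := Led Lsl_ft (LP (LK LD1_c3 LD2_c7 LD3_c52))
theorem f647600 : Led Lsl_ft (LP (LK LD1_c3 LD2_c7 LD3_c52)) = v5430 :=
  Lrfl
theorem f647602 : Led Lsl_ff (LP (LK LD1_c3 LD2_c7 LD3_c52)) = v5430 :=
  Lgr Lrot3 (Lpr_ft (f647600 IH) (Lpn v5430))
theorem f647605 : Led Lsl_bt K51.v1856 = v5430 :=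
  Lgr Lrot35 (Lpe (K51.f504596 IH) (Lpe (K46.f419111 IH) (Lpr_ff (f647602 IH) (Lpn v5430))))
theorem f435414 : Led Lsl_bt (LP (LK LD1_c3 LD2_c7 LD3_c21)) = (LP (LK LD1_c6 LD2_c19 LD3_c46)) :=
  Lre_b IH (LK LD1_c3 LD2_c7 LD3_c21) (LK LD1_c6 LD2_c19 LD3_c46) Lrfl Lrfl
theorem f707794 : v5430 = (LP (LK LD1_c6 LD2_c19 LD3_c46)) :=
  Lefun (Lecon (f647605 IH) (K51.f707780 IH)) (f435414 IH)
theorem f92133 : Led Lsl_ct (LP (LK LD1_c1 LD2_c8 LD3_c5)) = (LP (LK LD1_c2 LD2_c21 LD3_c49)) :=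
  Lre_c IH (LK LD1_c1 LD2_c8 LD3_c5) (LK LD1_c2 LD2_c21 LD3_c49) Lrfl Lrfl
theorem f89828 : Led Lsl_gt (LP (LK LD1_c4 LD2_c47 LD3_c51)) = (LP (LK LD1_c2 LD2_c21 LD3_c49)) :=
  Lre_g IH (LK LD1_c4 LD2_c47 LD3_c51) (LK LD1_c2 LD2_c21 LD3_c49) Lrfl Lrfl
theorem f153573 : Led Lsl_bt (LP (LK LD1_c0 LD2_c41 LD3_c49)) = (LP (LK LD1_c1 LD2_c30 LD3_c10)) :=
  Lre_b IH (LK LD1_c0 LD2_c41 LD3_c49) (LK LD1_c1 LD2_c30 LD3_c10) Lrfl Lrfl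
theorem f153666 : Led Lsl_gt (LP (LK LD1_c1 LD2_c30 LD3_c10)) = (LP (LK LD1_c3 LD2_c7 LD3_c21)) :=
  Lre_g IH (LK LD1_c1 LD2_c30 LD3_c10) (LK LD1_c3 LD2_c7 LD3_c21) Lrfl Lrfl
theorem f204629 : Led Lsl_bt (LP (LK LD1_c6 LD2_c19 LD3_c46)) = (LP (LK LD1_c3 LD2_c7 LD3_c21)) :=
  Lre_b IH (LK LD1_c6 LD2_c19 LD3_c46) (LK LD1_c3 LD2_c7 LD3_c21) Lrfl Lrfl
theorem f435411 : Led Lsl_cf (LP (LK LD1_c4 LD2_c47 LD3_c51)) = (LP (LK LD1_c6 LD2_c19 LD3_c46)) :=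
  Lgr Lrot160 (Lpr_gt (f89828 IH) (Lpe (f92133 IH) (Lpr_bt (K6.f92153 IH) (Lpr_gt (K24.f68362 IH) (Lpr_ct (K32.f435403 IH) (Lpe (K32.f204250 IH) (Lpe (K50.f204495 IH) (Lpr_bt (f153573 IH) (Lpr_gt (f153666 IH) (Lpe (f204629 IH) (Lpn (LP (LK LD1_c6 LD2_c19 LD3_c46)))))))))))))
def v13755 : LQ := Led Lsl_at (LP (LK LD1_c4 LD2_c47 LD3_c50))
theorem f704681 : Led Lsl_at (LP (LK LD1_c4 LD2_c47 LD3_c50)) = v13755 :=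
  Lrfl
theorem f704682 : Led Lsl_af (LP (LK LD1_c4 LD2_c47 LD3_c50)) = v13755 :=
  Lgr Lrot0 (Lpr_at (f704681 IH) (Lpn v13755))
theorem f87628 : Led Lsl_gt (LP (LK LD1_c2 LD2_c21 LD3_c49)) = (LP (LK LD1_c4 LD2_c47 LD3_c50)) :=
  Lre_g IH (LK LD1_c2 LD2_c21 LD3_c49) (LK LD1_c4 LD2_c47 LD3_c50) Lrfl Lrfl
theorem f704686 : Led Lsl_ft (LP (LK LD1_c4 LD2_c47 LD3_c51)) = v13755 :=
  Lgr Lrot2 (Lpr_gt (f89828 IH) (Lpr_gt (f87628 IH) (Lpr_af (f704682 IH) (Lpn v13755))))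
theorem f715838 : (LP (LK LD1_c6 LD2_c20 LD3_c38)) = v13755 :=
  (Llr Lrot108 (Lpr_ct (K52.f444011 IH) (Lpr_ft (f647600 IH) (Lpqs (f707794 IH) (Lpe (f435411 IH) (Lpr_ft (f704686 IH) (Lpn v13755))))))).symm
def v13756 : LQ := Led Lsl_ct (LP (LK LD1_c4 LD2_c47 LD3_c50))
theorem f704688 : Led Lsl_ct (LP (LK LD1_c4 LD2_c47 LD3_c50)) = v13756 :=
  Lrfl
theorem f715893 : (LP (LK LD1_c6 LD2_c20 LD3_c37)) = v13756 :=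
  (Llr Lrot68 (Lpr_at (f504586 IH) (Lpr_ct (K46.f419112 IH) (Lpqs (f715838 IH) (Lpe (f704682 IH) (Lpr_ct (f704688 IH) (Lpn v13756))))))).symm
theorem f704689 : Led Lsl_cf (LP (LK LD1_c4 LD2_c47 LD3_c50)) = v13756 :=
  Lgr Lrot11 (Lpr_ct (f704688 IH) (Lpn v13756))
theorem f92165 : Led Lsl_gt (LP (LK LD1_c2 LD2_c21 LD3_c51)) = (LP (LK LD1_c1 LD2_c8 LD3_c5)) :=
  Lre_g IH (LK LD1_c2 LD2_c21 LD3_c51) (LK LD1_c1 LD2_c8 LD3_c5) Lrfl Lrfl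
theorem f92166 : Led Lsl_bt (LP (LK LD1_c4 LD2_c47 LD3_c56)) = (LP (LK LD1_c2 LD2_c21 LD3_c51)) :=
  Lre_b IH (LK LD1_c4 LD2_c47 LD3_c56) (LK LD1_c2 LD2_c21 LD3_c51) Lrfl Lrfl
theorem f92167 : Led Lsl_ct (LP (LK LD1_c4 LD2_c47 LD3_c56)) = (LP (LK LD1_c9 LD2_c28 LD3_c46)) :=
  Lre_c IH (LK LD1_c4 LD2_c47 LD3_c56) (LK LD1_c9 LD2_c28 LD3_c46) Lrfl Lrfl
theorem f438478 : Led Lsl_bt (LP (LK LD1_c0 LD2_c41 LD3_c46)) = (LP (LK LD1_c1 LD2_c30 LD3_c25)) :=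
  Lre_b IH (LK LD1_c0 LD2_c41 LD3_c46) (LK LD1_c1 LD2_c30 LD3_c25) Lrfl Lrfl
theorem f82639 : Led Lsl_gt (LP (LK LD1_c1 LD2_c30 LD3_c25)) = (LP (LK LD1_c3 LD2_c8 LD3_c24)) :=
  Lre_g IH (LK LD1_c1 LD2_c30 LD3_c25) (LK LD1_c3 LD2_c8 LD3_c24) Lrfl Lrfl
theorem f438479 : Led Lsl_ct (LP (LK LD1_c3 LD2_c8 LD3_c24)) = (LP (LK LD1_c6 LD2_c21 LD3_c22)) :=
  Lre_c IH (LK LD1_c3 LD2_c8 LD3_c24) (LK LD1_c6 LD2_c21 LD3_c22) Lrfl Lrfl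
theorem f92134 : Led Lsl_bt (LP (LK LD1_c0 LD2_c31 LD3_c13)) = (LP (LK LD1_c1 LD2_c8 LD3_c5)) :=
  Lre_b IH (LK LD1_c0 LD2_c31 LD3_c13) (LK LD1_c1 LD2_c8 LD3_c5) Lrfl Lrfl
theorem f438480 : Led Lsl_gt (LP (LK LD1_c6 LD2_c21 LD3_c22)) = (LP (LK LD1_c9 LD2_c28 LD3_c46)) :=
  Lgr Lrot149 (Lpe (f438479 IH) (Lpe (f82639 IH) (Lpe (f438478 IH) (Lpr_ct (K32.f435552 IH) (Lpr_gf (K32.f438469 IH) (Lpr_cf (K6.f92135 IH) (Lpr_bt (f92134 IH) (Lpe (f92165 IH) (Lpe (f92166 IH) (Lpr_ct (f92167 IH) (Lpn (LP (LK LD1_c9 LD2_c28 LD3_c46)))))))))))))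
def v5482 : LQ := Led Lsl_bt (LP (LK LD1_c3 LD2_c8 LD3_c24))
theorem f647876 : Led Lsl_bt (LP (LK LD1_c3 LD2_c8 LD3_c24)) = v5482 :=
  Lrfl
def v5447 : LQ := Led Lsl_ft (LP (LK LD1_c3 LD2_c7 LD3_c56))
theorem f647687 : Led Lsl_ft (LP (LK LD1_c3 LD2_c7 LD3_c56)) = v5447 :=
  Lrfl
theorem f647689 : Led Lsl_ff (LP (LK LD1_c3 LD2_c7 LD3_c56)) = v5447 :=
  Lgr Lrot3 (Lpr_ft (f647687 IH) (Lpn v5447))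
theorem f419109 : Led Lsl_bt (LP (LK LD1_c3 LD2_c7 LD3_c56)) = (LP (LK LD1_c1 LD2_c30 LD3_c8)) :=
  Lre_b IH (LK LD1_c3 LD2_c7 LD3_c56) (LK LD1_c1 LD2_c30 LD3_c8) Lrfl Lrfl
theorem f647690 : Led Lsl_bt K46.v1855 = v5447 :=
  Lgr Lrot35 (Lpe (K46.f504590 IH) (Lpe (f419109 IH) (Lpr_ff (f647689 IH) (Lpn v5447))))
theorem f707775 : K51.v5694 = K51.v5731 :=
  Lefun (Lecon (K51.f648938 IH) (K51.f707773 IH)) (K51.f649090 IH)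
theorem f707784 : K51.v3087 = K51.v5443 :=
  Lefun (Lecon (Lfl_ff (K51.f649096 IH)) (f707775 IH).symm) (Lfl_ff (K51.f648939 IH))
theorem f707817 : K46.v1855 = (LP (LK LD1_c3 LD2_c7 LD3_c20)) :=
  Lefun (Lecon (Lfl_ef (K51.f647673 IH)) (f707784 IH).symm) (Lfl_ef (K51.f623810 IH))
theorem f707825 : v5447 = (LP (LK LD1_c6 LD2_c19 LD3_c43)) :=
  Lefun (Lecon (f647690 IH) (f707817 IH)) (f623811 IH)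
theorem f504602 : Led Lsl_at (LP (LK LD1_c6 LD2_c20 LD3_c45)) = (LP (LK LD1_c3 LD2_c7 LD3_c56)) :=
  Lre_a IH (LK LD1_c6 LD2_c20 LD3_c45) (LK LD1_c3 LD2_c7 LD3_c56) Lrfl Lrfl
theorem f760036 : Led Lsl_ff (LP (LK LD1_c6 LD2_c20 LD3_c45)) = v17481 :=
  Lgr Lrot30 (Lpr_at (f504602 IH) (Lpr_ft (f647687 IH) (Lpqs (f707825 IH) (Lpr_at (f760033 IH) (Lpn v17481)))))
theorem f647621 : Led Lsl_gt (LP (LK LD1_c6 LD2_c20 LD3_c44)) = (LP (LK LD1_c3 LD2_c7 LD3_c56)) :=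
  Lre_g IH (LK LD1_c6 LD2_c20 LD3_c44) (LK LD1_c3 LD2_c7 LD3_c56) Lrfl Lrfl
theorem f760039 : Led Lsl_gf (LP (LK LD1_c6 LD2_c20 LD3_c44)) = v17481 :=
  Lgr Lrot47 (Lpr_gt (f647621 IH) (Lpe (f504602 IH) (Lpr_ff (f760036 IH) (Lpn v17481))))
theorem f760042 : v5482 = (LP (LK LD1_c6 LD2_c20 LD3_c44)) :=
  (Llr Lrot92 (Lpe (f647876 IH) (Lpr_ct (f438479 IH) (Lpr_gt (f438480 IH) (Lpe (f92167 IH) (Lpr_bt (f92166 IH) (Lpr_gt (f92165 IH) (Lpr_ct (f92133 IH) (Lpr_gt (f87628 IH) (Lpr_cf (f704689 IH) (Lpq (f715893 IH) (Lpr_bt (f760041 IH) (Lpe (f760039 IH) (Lpn (LP (LK LD1_c6 LD2_c20 LD3_c44)))))))))))))))).symm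
theorem f647877 : Led Lsl_bf (LP (LK LD1_c3 LD2_c8 LD3_c24)) = v5482 :=
  Lgr Lrot24 (Lpr_bt (f647876 IH) (Lpn v5482))
theorem f760043 : Led Lsl_bt (LP (LK LD1_c6 LD2_c20 LD3_c44)) = (LP (LK LD1_c3 LD2_c8 LD3_c24)) :=
  Leop (Lpr_bf (f647877 IH) (Lpqs (f760042 IH) (Lpn (LP (LK LD1_c6 LD2_c20 LD3_c44)))))
theorem seed_1161 : LEOK LG_b (LK LD1_c6 LD2_c20 LD3_c44) :=
  Leoe_b (LK LD1_c6 LD2_c20 LD3_c44) (f760043 IH)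
def v17494 : LQ := Led Lsl_dt (LP (LK LD1_c6 LD2_c19 LD3_c47))
theorem f760115 : Led Lsl_dt (LP (LK LD1_c6 LD2_c19 LD3_c47)) = v17494 :=
  Lrfl
theorem f647629 : Led Lsl_ff (LP (LK LD1_c3 LD2_c7 LD3_c53)) = K46.v5434 :=
  Lgr Lrot3 (Lpr_ft (K46.f647626 IH) (Lpn K46.v5434))
theorem f204603 : Led Lsl_ct (LP (LK LD1_c3 LD2_c7 LD3_c53)) = (LP (LK LD1_c1 LD2_c30 LD3_c7)) :=
  Lre_c IH (LK LD1_c3 LD2_c7 LD3_c53) (LK LD1_c1 LD2_c30 LD3_c7) Lrfl Lrfl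
theorem f647633 : Led Lsl_ct K51.v1856 = K46.v5434 :=
  Lgr Lrot40 (Lpe (K51.f504596 IH) (Lpe (f204603 IH) (Lpr_ff (f647629 IH) (Lpn K46.v5434))))
theorem f204628 : Led Lsl_ct (LP (LK LD1_c3 LD2_c7 LD3_c21)) = (LP (LK LD1_c6 LD2_c19 LD3_c47)) :=
  Lre_c IH (LK LD1_c3 LD2_c7 LD3_c21) (LK LD1_c6 LD2_c19 LD3_c47) Lrfl Lrfl
theorem f707797 : K46.v5434 = (LP (LK LD1_c6 LD2_c19 LD3_c47)) :=
  Lefun (Lecon (f647633 IH) (K51.f707780 IH)) (f204628 IH)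
theorem f504591 : Led Lsl_dt (LP (LK LD1_c6 LD2_c20 LD3_c42)) = (LP (LK LD1_c3 LD2_c7 LD3_c53)) :=
  Lre_d IH (LK LD1_c6 LD2_c20 LD3_c42) (LK LD1_c3 LD2_c7 LD3_c53) Lrfl Lrfl
theorem f760118 : Led Lsl_ff (LP (LK LD1_c6 LD2_c20 LD3_c42)) = v17494 :=
  Lgr Lrot19 (Lpr_dt (f504591 IH) (Lpr_ft (K46.f647626 IH) (Lpqs (f707797 IH) (Lpr_dt (f760115 IH) (Lpn v17494)))))
theorem f760120 : Led Lsl_ft (LP (LK LD1_c6 LD2_c20 LD3_c42)) = v17494 :=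
  Lgr Lrot48 (Lpr_ff (f760118 IH) (Lpn v17494))
theorem f647608 : Led Lsl_gt (LP (LK LD1_c6 LD2_c20 LD3_c42)) = (LP (LK LD1_c12 LD2_c15 LD3_c44)) :=
  Lre_g IH (LK LD1_c6 LD2_c20 LD3_c42) (LK LD1_c12 LD2_c15 LD3_c44) Lrfl Lrfl
theorem f647616 : Led Lsl_ff (LP (LK LD1_c3 LD2_c7 LD3_c57)) = K46.v5432 :=
  Lgr Lrot3 (Lpr_ft (K46.f647614 IH) (Lpn K46.v5432))
theorem f647632 : Led Lsl_at (LP (LK LD1_c3 LD2_c7 LD3_c57)) = K46.v5434 :=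
  Lgr Lrot66 (Lpr_ff (f647616 IH) (Lpe (K46.f647610 IH) (Lpr_ff (f647629 IH) (Lpn K46.v5434))))
theorem f504600 : Led Lsl_dt (LP (LK LD1_c6 LD2_c20 LD3_c49)) = (LP (LK LD1_c3 LD2_c7 LD3_c57)) :=
  Lre_d IH (LK LD1_c6 LD2_c20 LD3_c49) (LK LD1_c3 LD2_c7 LD3_c57) Lrfl Lrfl
theorem f760116 : Led Lsl_af (LP (LK LD1_c6 LD2_c20 LD3_c49)) = v17494 :=
  Lgr Lrot117 (Lpr_dt (f504600 IH) (Lpr_at (f647632 IH) (Lpqs (f707797 IH) (Lpr_dt (f760115 IH) (Lpn v17494)))))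
theorem f760121 : Led Lsl_gt (LP (LK LD1_c12 LD2_c15 LD3_c44)) = (LP (LK LD1_c6 LD2_c20 LD3_c49)) :=
  Lgr Lrot46 (Lpe (f647608 IH) (Lpr_ft (f760120 IH) (Lpe (f760116 IH) (Lpn (LP (LK LD1_c6 LD2_c20 LD3_c49))))))
theorem f760122 : Led Lsl_gt (LP (LK LD1_c12 LD2_c15 LD3_c44)) = (LP (LK LD1_c6 LD2_c20 LD3_c49)) :=
  Leop (Lpe (f760121 IH) (Lpn (LP (LK LD1_c12 LD2_c15 LD3_c44))))
theorem seed_1162 : LEOK LG_g (LK LD1_c12 LD2_c15 LD3_c44) :=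
  Leoe_g (LK LD1_c12 LD2_c15 LD3_c44) (f760122 IH)
def v2029 : LQ := Led Lsl_gt (LP (LK LD1_c1 LD2_c33 LD3_c55))
def v8414 : LQ := Led Lsl_et v2029
theorem f671161 : Led Lsl_et v2029 = v8414 :=
  Lrfl
theorem f671162 : Led Lsl_ef v2029 = v8414 :=
  Lgr Lrot88 (Lpr_et (f671161 IH) (Lpn v8414))
theorem f507830 : Led Lsl_gt (LP (LK LD1_c1 LD2_c33 LD3_c55)) = v2029 :=
  Lrfl
theorem f126822 : Led Lsl_cf (LP (LK LD1_c0 LD2_c40 LD3_c4)) = (LP (LK LD1_c0 LD2_c40 LD3_c4)) :=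
  Lgr Lrot39 (Lpr_et (K6.f62589 IH) (Lpr_ct (K6.f126736 IH) (Lpr_et (K6.f62578 IH) (Lpn (LP (LK LD1_c0 LD2_c40 LD3_c4))))))
theorem f156551 : Led Lsl_gt (LP (LK LD1_c0 LD2_c43 LD3_c36)) = (LP (LK LD1_c1 LD2_c7 LD3_c16)) :=
  Lgr Lrot9 (Lpr_df (K4.f112958 IH) (Lpr_gt (K51.f144028 IH) (Lpe (f126822 IH) (Lpe (K51.f144030 IH) (Lpr_ct (K5.f77840 IH) (Lpe (K5.f113062 IH) (Lpe (K4.f62899 IH) (Lpr_gf (K7.f156547 IH) (Lpe (K7.f156509 IH) (Lpn (LP (LK LD1_c1 LD2_c7 LD3_c16))))))))))))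
def v5914 : LQ := Led Lsl_gf (LP (LK LD1_c3 LD2_c14 LD3_c55))
theorem f650043 : Led Lsl_gf (LP (LK LD1_c3 LD2_c14 LD3_c55)) = v5914 :=
  Lrfl
theorem f671163 : Led Lsl_df v5914 = v8414 :=
  Lgr Lrot170 (Lpe (f650043 IH) (Lpe (K5.f112963 IH) (Lpr_et (K51.f112968 IH) (Lpr_gt (f156551 IH) (Lpr_dt (K7.f144105 IH) (Lpe (K7.f156502 IH) (Lpe (K4.f24313 IH) (Lpr_et (K51.f120388 IH) (Lpr_gt (f507830 IH) (Lpr_ef (f671162 IH) (Lpn v8414)))))))))))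
def v4516 : LQ := Led Lsl_bt (LP (LK LD1_c2 LD2_c22 LD3_c51))
theorem f634337 : Led Lsl_bt (LP (LK LD1_c2 LD2_c22 LD3_c51)) = v4516 :=
  Lrfl
theorem f23836 : Led Lsl_bt (LP (LK LD1_c6 LD2_c12 LD3_c56)) = (LP (LK LD1_c3 LD2_c3 LD3_c12)) :=
  Lre_b IH (LK LD1_c6 LD2_c12 LD3_c56) (LK LD1_c3 LD2_c3 LD3_c12) Lrfl Lrfl
theorem f634339 : Led Lsl_df (LP (LK LD1_c6 LD2_c12 LD3_c56)) = v4516 :=
  Lgr Lrot12 (Lpr_bt (f23836 IH) (Lpr_dt (K32.f23806 IH) (Lpr_bt (f634337 IH) (Lpn v4516))))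
theorem f634340 : Led Lsl_ef K52.v1373 = v4516 :=
  Lgr Lrot29 (Lpe (K52.f495193 IH) (Lpr_et (K0.f23796 IH) (Lpr_bt (f634337 IH) (Lpn v4516))))
theorem f634341 : Led Lsl_et K52.v1373 = v4516 :=
  Lgr Lrot87 (Lpr_ef (f634340 IH) (Lpn v4516))
def v7926 : LQ := Led Lsl_gf K52.v1373
theorem f669000 : Led Lsl_gf K52.v1373 = v7926 :=
  Lrfl
def v7927 : LQ := Led Lsl_at K52.v1373
theorem f669001 : Led Lsl_at K52.v1373 = v7927 :=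
  Lrfl
def v3209 : LQ := Led Lsl_at K51.v569
theorem f624618 : Led Lsl_at K51.v569 = v3209 :=
  Lrfl
theorem f624619 : Led Lsl_af K51.v569 = v3209 :=
  Lgr Lrot0 (Lpr_at (f624618 IH) (Lpn v3209))
theorem f669004 : Led Lsl_ff v3209 = v7927 :=
  Lgr Lrot30 (Lpe (f624619 IH) (Lpr_ft (K52.f624611 IH) (Lpqs (K52.f633587 IH) (Lpr_at (f669001 IH) (Lpn v7927)))))
theorem f669007 : Led Lsl_ft v3209 = v7927 :=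
  Lgr Lrot48 (Lpr_ff (f669004 IH) (Lpn v7927))
theorem f669002 : Led Lsl_af K52.v1373 = v7927 :=
  Lgr Lrot0 (Lpr_at (f669001 IH) (Lpn v7927))
theorem f669009 : Led Lsl_gt v3209 = v7926 :=
  Lgr Lrot5 (Lpr_ft (f669007 IH) (Lpe (f669002 IH) (Lpr_gf (f669000 IH) (Lpn v7926))))
def v8417 : LQ := Led Lsl_ct K51.v2030
theorem f671171 : Led Lsl_ct K51.v2030 = v8417 :=
  Lrfl
theorem f671172 : Led Lsl_cf K51.v2030 = v8417 :=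
  Lgr Lrot11 (Lpr_ct (f671171 IH) (Lpn v8417))
def v10156 : LQ := Led Lsl_ct v3209
theorem f679011 : Led Lsl_ct v3209 = v10156 :=
  Lrfl
theorem f679013 : Led Lsl_cf v3209 = v10156 :=
  Lgr Lrot11 (Lpr_ct (f679011 IH) (Lpn v10156))
def v17502 : LQ := Led Lsl_ct (LP (LK LD1_c6 LD2_c19 LD3_c49))
theorem f760151 : Led Lsl_ct (LP (LK LD1_c6 LD2_c19 LD3_c49)) = v17502 :=
  Lrfl
theorem f415543 : Led Lsl_gt (LP (LK LD1_c3 LD2_c21 LD3_c58)) = (LP (LK LD1_c4 LD2_c50 LD3_c16)) :=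
  Lre_g IH (LK LD1_c3 LD2_c21 LD3_c58) (LK LD1_c4 LD2_c50 LD3_c16) Lrfl Lrfl
theorem f62075 : Led Lsl_ct (LP (LK LD1_c1 LD2_c37 LD3_c15)) = (LP (LK LD1_c3 LD2_c21 LD3_c58)) :=
  Lre_c IH (LK LD1_c1 LD2_c37 LD3_c15) (LK LD1_c3 LD2_c21 LD3_c58) Lrfl Lrfl
theorem f415912 : Led Lsl_bt (LP (LK LD1_c4 LD2_c50 LD3_c10)) = (LP (LK LD1_c2 LD2_c22 LD3_c54)) :=
  Lre_b IH (LK LD1_c4 LD2_c50 LD3_c10) (LK LD1_c2 LD2_c22 LD3_c54) Lrfl Lrfl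
theorem f415913 : Led Lsl_ct (LP (LK LD1_c4 LD2_c50 LD3_c10)) = (LP (LK LD1_c9 LD2_c32 LD3_c43)) :=
  Lre_c IH (LK LD1_c4 LD2_c50 LD3_c10) (LK LD1_c9 LD2_c32 LD3_c43) Lrfl Lrfl
theorem f760154 : Led Lsl_gf (LP (LK LD1_c9 LD2_c32 LD3_c43)) = v17502 :=
  Lgr Lrot126 (Lpe (f415913 IH) (Lpr_bt (f415912 IH) (Lpr_gt (K32.f24671 IH) (Lpr_ct (f62075 IH) (Lpr_gt (f415543 IH) (Lpr_cf (K31.f415893 IH) (Lpr_bt (K51.f647868 IH) (Lpq (K51.f707604 IH) (Lpr_gt (K51.f104223 IH) (Lpe (K52.f104207 IH) (Lpr_ct (f760151 IH) (Lpn v17502))))))))))))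
theorem f109981 : Led Lsl_gt (LP (LK LD1_c4 LD2_c44 LD3_c0)) = (LP (LK LD1_c9 LD2_c20 LD3_c53)) :=
  Lre_g IH (LK LD1_c4 LD2_c44 LD3_c0) (LK LD1_c9 LD2_c20 LD3_c53) Lrfl Lrfl
theorem f650006 : Led Lsl_ff (LP (LK LD1_c3 LD2_c14 LD3_c45)) = K51.v5905 :=
  Lgr Lrot3 (Lpr_ft (K51.f650004 IH) (Lpn K51.v5905))
theorem f702980 : Led Lsl_af K51.v5905 = K51.v13441 :=
  Lgr Lrot45 (Lpe (f650006 IH) (Lpr_at (K3.f107421 IH) (Lpr_ft (K51.f702979 IH) (Lpn K51.v13441))))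
theorem f702984 : Led Lsl_gt (LP (LK LD1_c9 LD2_c20 LD3_c53)) = K51.v5905 :=
  Lgr Lrot46 (Lpe (f109981 IH) (Lpr_ft (K51.f702979 IH) (Lpe (f702980 IH) (Lpn K51.v5905))))
theorem f702976 : Led Lsl_gt K51.v5905 = K51.v13440 :=
  Lgr Lrot5 (Lpe (f650006 IH) (Lpr_at (K3.f107421 IH) (Lpr_gf (K51.f702975 IH) (Lpn K51.v13440))))
theorem f709240 : Led Lsl_ft (LP (LK LD1_c9 LD2_c20 LD3_c53)) = K51.v6470 :=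
  Lgr Lrot2 (Lpr_gt (f702984 IH) (Lpr_gt (f702976 IH) (Lpqs (K51.f708758 IH) (Lpr_af (K51.f653535 IH) (Lpn K51.v6470)))))
theorem f709248 : Led Lsl_ff (LP (LK LD1_c9 LD2_c20 LD3_c53)) = (LP (LK LD1_c6 LD2_c32 LD3_c59)) :=
  Lgr Lrot3 (Lpr_ft (f709240 IH) (Lpq (K51.f708341 IH) (Lpn (LP (LK LD1_c6 LD2_c32 LD3_c59)))))
theorem f702494 : Led Lsl_ct (LP (LK LD1_c9 LD2_c20 LD3_c53)) = (LP (LK LD1_c17 LD2_c16 LD3_c49)) :=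
  Lre_c IH (LK LD1_c9 LD2_c20 LD3_c53) (LK LD1_c17 LD2_c16 LD3_c49) Lrfl Lrfl
theorem f507832 : Led Lsl_ct (LP (LK LD1_c12 LD2_c33 LD3_c14)) = (LP (LK LD1_c6 LD2_c32 LD3_c59)) :=
  Lre_c IH (LK LD1_c12 LD2_c33 LD3_c14) (LK LD1_c6 LD2_c32 LD3_c59) Lrfl Lrfl
theorem f709254 : Led Lsl_ft (LP (LK LD1_c17 LD2_c16 LD3_c49)) = (LP (LK LD1_c12 LD2_c33 LD3_c14)) :=
  Lgr Lrot4 (Lpe (f702494 IH) (Lpr_ff (f709248 IH) (Lpe (f507832 IH) (Lpn (LP (LK LD1_c12 LD2_c33 LD3_c14))))))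
theorem f140125 : Led Lsl_ct (LP (LK LD1_c3 LD2_c22 LD3_c7)) = (LP (LK LD1_c6 LD2_c47 LD3_c51)) :=
  Lre_c IH (LK LD1_c3 LD2_c22 LD3_c7) (LK LD1_c6 LD2_c47 LD3_c51) Lrfl Lrfl
theorem f708346 : Led Lsl_af (LP (LK LD1_c12 LD2_c33 LD3_c14)) = (LP (LK LD1_c6 LD2_c47 LD3_c51)) :=
  Lgr Lrot68 (Lpr_ct (f507832 IH) (Lpqs (K51.f708341 IH) (Lpe (K51.f653535 IH) (Lpr_ct (f140125 IH) (Lpn (LP (LK LD1_c6 LD2_c47 LD3_c51)))))))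
theorem f708350 : Led Lsl_at (LP (LK LD1_c12 LD2_c33 LD3_c14)) = (LP (LK LD1_c6 LD2_c47 LD3_c51)) :=
  Lgr Lrot100 (Lpr_af (f708346 IH) (Lpn (LP (LK LD1_c6 LD2_c47 LD3_c51))))
theorem f503657 : Led Lsl_bt (LP (LK LD1_c4 LD2_c50 LD3_c11)) = (LP (LK LD1_c9 LD2_c32 LD3_c45)) :=
  Lre_b IH (LK LD1_c4 LD2_c50 LD3_c11) (LK LD1_c9 LD2_c32 LD3_c45) Lrfl Lrfl
theorem f140912 : Led Lsl_bt (LP (LK LD1_c6 LD2_c47 LD3_c52)) = (LP (LK LD1_c3 LD2_c22 LD3_c8)) :=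
  Lre_b IH (LK LD1_c6 LD2_c47 LD3_c52) (LK LD1_c3 LD2_c22 LD3_c8) Lrfl Lrfl
theorem f504425 : Led Lsl_ft (LP (LK LD1_c9 LD2_c32 LD3_c45)) = (LP (LK LD1_c6 LD2_c47 LD3_c52)) :=
  Lgr Lrot75 (Lpe (f503657 IH) (Lpr_ff (K32.f503311 IH) (Lpe (f140912 IH) (Lpn (LP (LK LD1_c6 LD2_c47 LD3_c52))))))
theorem f504429 : Led Lsl_ff (LP (LK LD1_c9 LD2_c32 LD3_c45)) = (LP (LK LD1_c6 LD2_c47 LD3_c52)) :=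
  Lgr Lrot3 (Lpr_ft (f504425 IH) (Lpn (LP (LK LD1_c6 LD2_c47 LD3_c52))))
theorem f416087 : Led Lsl_ct (LP (LK LD1_c9 LD2_c32 LD3_c45)) = (LP (LK LD1_c17 LD2_c34 LD3_c59)) :=
  Lre_c IH (LK LD1_c9 LD2_c32 LD3_c45) (LK LD1_c17 LD2_c34 LD3_c59) Lrfl Lrfl
theorem f140913 : Led Lsl_ct (LP (LK LD1_c12 LD2_c58 LD3_c28)) = (LP (LK LD1_c6 LD2_c47 LD3_c52)) :=
  Lre_c IH (LK LD1_c12 LD2_c58 LD3_c28) (LK LD1_c6 LD2_c47 LD3_c52) Lrfl Lrfl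
theorem f504431 : Led Lsl_ft (LP (LK LD1_c17 LD2_c34 LD3_c59)) = (LP (LK LD1_c12 LD2_c58 LD3_c28)) :=
  Lgr Lrot4 (Lpe (f416087 IH) (Lpr_ff (f504429 IH) (Lpe (f140913 IH) (Lpn (LP (LK LD1_c12 LD2_c58 LD3_c28))))))
theorem f504434 : Led Lsl_bt (LP (LK LD1_c9 LD2_c32 LD3_c43)) = (LP (LK LD1_c17 LD2_c34 LD3_c59)) :=
  Lre_b IH (LK LD1_c9 LD2_c32 LD3_c43) (LK LD1_c17 LD2_c34 LD3_c59) Lrfl Lrfl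
theorem f504435 : Led Lsl_bt (LP (LK LD1_c12 LD2_c58 LD3_c28)) = (LP (LK LD1_c6 LD2_c47 LD3_c51)) :=
  Lre_b IH (LK LD1_c12 LD2_c58 LD3_c28) (LK LD1_c6 LD2_c47 LD3_c51) Lrfl Lrfl
theorem f504436 : Led Lsl_ff (LP (LK LD1_c9 LD2_c32 LD3_c43)) = (LP (LK LD1_c6 LD2_c47 LD3_c51)) :=
  Lgr Lrot25 (Lpr_bt (f504434 IH) (Lpr_ft (f504431 IH) (Lpr_bt (f504435 IH) (Lpn (LP (LK LD1_c6 LD2_c47 LD3_c51))))))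
theorem f709256 : Led Lsl_af (LP (LK LD1_c17 LD2_c16 LD3_c49)) = (LP (LK LD1_c9 LD2_c32 LD3_c43)) :=
  Lgr Lrot45 (Lpr_ft (f709254 IH) (Lpr_at (f708350 IH) (Lpe (f504436 IH) (Lpn (LP (LK LD1_c9 LD2_c32 LD3_c43))))))
theorem f709265 : Led Lsl_at (LP (LK LD1_c17 LD2_c16 LD3_c49)) = (LP (LK LD1_c9 LD2_c32 LD3_c43)) :=
  Lgr Lrot100 (Lpr_af (f709256 IH) (Lpn (LP (LK LD1_c9 LD2_c32 LD3_c43))))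
theorem f702985 : Led Lsl_ct (LP (LK LD1_c17 LD2_c16 LD3_c49)) = (LP (LK LD1_c9 LD2_c20 LD3_c53)) :=
  Lre_c IH (LK LD1_c17 LD2_c16 LD3_c49) (LK LD1_c9 LD2_c20 LD3_c53) Lrfl Lrfl
theorem f507831 : Led Lsl_ct (LP (LK LD1_c6 LD2_c32 LD3_c59)) = (LP (LK LD1_c12 LD2_c33 LD3_c14)) :=
  Lre_c IH (LK LD1_c6 LD2_c32 LD3_c59) (LK LD1_c12 LD2_c33 LD3_c14) Lrfl Lrfl
theorem f709246 : Led Lsl_ff (LP (LK LD1_c17 LD2_c16 LD3_c49)) = (LP (LK LD1_c12 LD2_c33 LD3_c14)) :=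
  Lgr Lrot23 (Lpr_ct (f702985 IH) (Lpr_ft (f709240 IH) (Lpq (K51.f708341 IH) (Lpr_ct (f507831 IH) (Lpn (LP (LK LD1_c12 LD2_c33 LD3_c14)))))))
theorem f760155 : Led Lsl_gt (LP (LK LD1_c12 LD2_c33 LD3_c14)) = v17502 :=
  Lgr Lrot5 (Lpe (f709246 IH) (Lpr_at (f709265 IH) (Lpr_gf (f760154 IH) (Lpn v17502))))
theorem f702981 : Led Lsl_df K51.v4356 = K51.v13441 :=
  Lgr Lrot78 (Lpe (K51.f632892 IH) (Lpr_dt (K51.f109980 IH) (Lpr_ft (K51.f702979 IH) (Lpn K51.v13441))))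
theorem f760152 : Led Lsl_cf (LP (LK LD1_c6 LD2_c19 LD3_c49)) = v17502 :=
  Lgr Lrot11 (Lpr_ct (f760151 IH) (Lpn v17502))
def v6273 : LQ := Led Lsl_gf (LP (LK LD1_c3 LD2_c19 LD3_c48))
theorem f652522 : Led Lsl_gf (LP (LK LD1_c3 LD2_c19 LD3_c48)) = v6273 :=
  Lrfl
theorem f760156 : v8417 = v6273 :=
  (Llr Lrot152 (Lpe (f671171 IH) (Lpr_gf (K51.f632896 IH) (Lpr_df (f702981 IH) (Lpe (K51.f702990 IH) (Lpr_ct (f507831 IH) (Lpr_gt (f760155 IH) (Lpe (f760152 IH) (Lpe (K3.f61919 IH) (Lpr_cf (K51.f61912 IH) (Lpr_gf (f652522 IH) (Lpn v6273)))))))))))).symm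
theorem f679014 : Led Lsl_at K51.v3210 = v10156 :=
  Lgr Lrot107 (Lpe (K51.f624620 IH) (Lpr_af (f624619 IH) (Lpr_cf (f679013 IH) (Lpn v10156))))
theorem f715538 : Led Lsl_gt K52.v13898 = v6273 :=
  Lgr Lrot5 (Lpr_ft (K52.f715535 IH) (Lpe (K52.f633481 IH) (Lpr_gf (f652522 IH) (Lpn v6273))))
theorem f715911 : v10156 = v6273 :=
  (Llr Lrot26 (Lpe (f679014 IH) (Lpr_ff (K52.f669013 IH) (Lpq (K52.f715910 IH) (Lpe (K52.f715539 IH) (Lpr_gt (f715538 IH) (Lpn v6273))))))).symm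
theorem f760157 : K51.v2030 = v3209 :=
  Lefun (Lecon (Lfl_cf (f671172 IH)) ((f760156 IH).trans (f715911 IH).symm)) (Lfl_cf (f679013 IH))
theorem f760158 : v7926 = (LP (LK LD1_c1 LD2_c33 LD3_c55)) :=
  Lefun (Lecon (f669009 IH) (f760157 IH).symm) (Lfl_gf (K51.f507836 IH))
theorem f760165 : K52.v1373 = v2029 :=
  Lefun (Lecon (Lfl_gf (f669000 IH)) (f760158 IH)) (f507830 IH)
theorem f760169 : v8414 = v4516 :=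
  Lefun (Lecon (f671161 IH) (f760165 IH).symm) (f634341 IH)
theorem f760170 : v5914 = (LP (LK LD1_c6 LD2_c12 LD3_c56)) :=
  Lefun (Lecon (Lfl_df (f671163 IH)) (f760169 IH)) (Lfl_df (f634339 IH))
theorem f760172 : Led Lsl_gt (LP (LK LD1_c6 LD2_c12 LD3_c56)) = (LP (LK LD1_c3 LD2_c14 LD3_c55)) :=
  Leop (Lpr_gf (f650043 IH) (Lpqs (f760170 IH) (Lpn (LP (LK LD1_c6 LD2_c12 LD3_c56)))))
theorem seed_1163 : LEOK LG_g (LK LD1_c6 LD2_c12 LD3_c56) :=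
  Leoe_g (LK LD1_c6 LD2_c12 LD3_c56) (f760172 IH)
def v17503 : LQ := Led Lsl_ft (LP (LK LD1_c6 LD2_c19 LD3_c49))
theorem f760191 : Led Lsl_ft (LP (LK LD1_c6 LD2_c19 LD3_c49)) = v17503 :=
  Lrfl
theorem f647515 : Led Lsl_ff (LP (LK LD1_c3 LD2_c7 LD3_c30)) = K51.v5409 :=
  Lgr Lrot3 (Lpr_ft (K51.f647512 IH) (Lpn K51.v5409))
theorem f760192 : Led Lsl_bf K51.v5409 = v17503 :=
  Lgr Lrot61 (Lpe (f647515 IH) (Lpr_bt (K4.f104214 IH) (Lpr_ft (f760191 IH) (Lpn v17503))))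
theorem f647763 : Led Lsl_af K51.v5409 = K51.v5463 :=
  Lgr Lrot45 (Lpe (f647515 IH) (Lpr_at (K51.f136078 IH) (Lpr_ft (K51.f647762 IH) (Lpn K51.v5463))))
theorem f647766 : Led Lsl_gt (LP (LK LD1_c6 LD2_c20 LD3_c61)) = K51.v5409 :=
  Lgr Lrot46 (Lpe (K51.f126959 IH) (Lpr_ft (K51.f647762 IH) (Lpe (f647763 IH) (Lpn K51.v5409))))
theorem f140126 : Led Lsl_gt (LP (LK LD1_c12 LD2_c58 LD3_c27)) = (LP (LK LD1_c6 LD2_c47 LD3_c51)) :=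
  Lre_g IH (LK LD1_c12 LD2_c58 LD3_c27) (LK LD1_c6 LD2_c47 LD3_c51) Lrfl Lrfl
theorem f760200 : Led Lsl_cf (LP (LK LD1_c12 LD2_c58 LD3_c27)) = v17503 :=
  Lgr Lrot160 (Lpr_gt (f140126 IH) (Lpe (f140125 IH) (Lpr_bt (K51.f140124 IH) (Lpr_gt (K0.f23242 IH) (Lpr_ct (K35.f23249 IH) (Lpr_gt (K35.f23250 IH) (Lpr_cf (K35.f140110 IH) (Lpr_bt (K51.f648113 IH) (Lpqs (K51.f707712 IH) (Lpr_gt (f647766 IH) (Lpr_bf (f760192 IH) (Lpn v17503))))))))))))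
theorem f760202 : Led Lsl_ft (LP (LK LD1_c12 LD2_c58 LD3_c27)) = v17502 :=
  Lgr Lrot4 (Lpr_cf (f760200 IH) (Lpe (f760191 IH) (Lpr_cf (f760152 IH) (Lpn v17502))))
theorem f504462 : Led Lsl_gt (LP (LK LD1_c6 LD2_c47 LD3_c51)) = (LP (LK LD1_c12 LD2_c58 LD3_c26)) :=
  Lre_g IH (LK LD1_c6 LD2_c47 LD3_c51) (LK LD1_c12 LD2_c58 LD3_c26) Lrfl Lrfl
theorem f760204 : Led Lsl_af (LP (LK LD1_c12 LD2_c58 LD3_c26)) = v17502 :=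
  Lgr Lrot31 (Lpe (f504462 IH) (Lpe (f140126 IH) (Lpr_ft (f760202 IH) (Lpn v17502))))
theorem f760207 : Led Lsl_ct (LP (LK LD1_c12 LD2_c58 LD3_c26)) = (LP (LK LD1_c9 LD2_c20 LD3_c48)) :=
  Lgr Lrot111 (Lpr_af (f760204 IH) (Lpe (f760151 IH) (Lpr_af (K52.f107489 IH) (Lpn (LP (LK LD1_c9 LD2_c20 LD3_c48))))))
theorem f760208 : Led Lsl_ct (LP (LK LD1_c12 LD2_c58 LD3_c26)) = (LP (LK LD1_c9 LD2_c20 LD3_c48)) :=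
  Leop (Lpe (f760207 IH) (Lpn (LP (LK LD1_c12 LD2_c58 LD3_c26))))
theorem seed_1164 : LEOK LG_c (LK LD1_c12 LD2_c58 LD3_c26) :=
  Leoe_c (LK LD1_c12 LD2_c58 LD3_c26) (f760208 IH)
theorem f760205 : Led Lsl_at (LP (LK LD1_c12 LD2_c58 LD3_c26)) = v17502 :=
  Lgr Lrot100 (Lpr_af (f760204 IH) (Lpn v17502))
theorem f416086 : Led Lsl_dt (LP (LK LD1_c27 LD2_c23 LD3_c6)) = (LP (LK LD1_c17 LD2_c34 LD3_c59)) :=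
  Lre_d IH (LK LD1_c27 LD2_c23 LD3_c6) (LK LD1_c17 LD2_c34 LD3_c59) Lrfl Lrfl
theorem f504438 : Led Lsl_dt (LP (LK LD1_c12 LD2_c58 LD3_c28)) = (LP (LK LD1_c22 LD2_c8 LD3_c24)) :=
  Lre_d IH (LK LD1_c12 LD2_c58 LD3_c28) (LK LD1_c22 LD2_c8 LD3_c24) Lrfl Lrfl
theorem f504439 : Led Lsl_ff (LP (LK LD1_c27 LD2_c23 LD3_c6)) = (LP (LK LD1_c22 LD2_c8 LD3_c24)) :=
  Lgr Lrot19 (Lpr_dt (f416086 IH) (Lpr_ft (f504431 IH) (Lpr_dt (f504438 IH) (Lpn (LP (LK LD1_c22 LD2_c8 LD3_c24))))))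
theorem f504448 : Led Lsl_ft (LP (LK LD1_c27 LD2_c23 LD3_c6)) = (LP (LK LD1_c22 LD2_c8 LD3_c24)) :=
  Lgr Lrot48 (Lpr_ff (f504439 IH) (Lpn (LP (LK LD1_c22 LD2_c8 LD3_c24))))
theorem f504451 : Led Lsl_bt (LP (LK LD1_c17 LD2_c34 LD3_c60)) = (LP (LK LD1_c27 LD2_c23 LD3_c6)) :=
  Lre_b IH (LK LD1_c17 LD2_c34 LD3_c60) (LK LD1_c27 LD2_c23 LD3_c6) Lrfl Lrfl
theorem f504452 : Led Lsl_bt (LP (LK LD1_c22 LD2_c8 LD3_c24)) = (LP (LK LD1_c12 LD2_c58 LD3_c29)) :=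
  Lre_b IH (LK LD1_c22 LD2_c8 LD3_c24) (LK LD1_c12 LD2_c58 LD3_c29) Lrfl Lrfl
theorem f504453 : Led Lsl_ff (LP (LK LD1_c17 LD2_c34 LD3_c60)) = (LP (LK LD1_c12 LD2_c58 LD3_c29)) :=
  Lgr Lrot25 (Lpr_bt (f504451 IH) (Lpr_ft (f504448 IH) (Lpr_bt (f504452 IH) (Lpn (LP (LK LD1_c12 LD2_c58 LD3_c29))))))
theorem f504455 : Led Lsl_dt (LP (LK LD1_c17 LD2_c34 LD3_c60)) = (LP (LK LD1_c9 LD2_c32 LD3_c43)) :=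
  Lre_d IH (LK LD1_c17 LD2_c34 LD3_c60) (LK LD1_c9 LD2_c32 LD3_c43) Lrfl Lrfl
theorem f446124 : Led Lsl_dt (LP (LK LD1_c6 LD2_c47 LD3_c51)) = (LP (LK LD1_c12 LD2_c58 LD3_c29)) :=
  Lre_d IH (LK LD1_c6 LD2_c47 LD3_c51) (LK LD1_c12 LD2_c58 LD3_c29) Lrfl Lrfl
theorem f504456 : Led Lsl_ft (LP (LK LD1_c9 LD2_c32 LD3_c43)) = (LP (LK LD1_c6 LD2_c47 LD3_c51)) :=
  Lgr Lrot54 (Lpe (f504455 IH) (Lpr_ff (f504453 IH) (Lpe (f446124 IH) (Lpn (LP (LK LD1_c6 LD2_c47 LD3_c51))))))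
theorem f504459 : Led Lsl_gt (LP (LK LD1_c9 LD2_c32 LD3_c43)) = (LP (LK LD1_c17 LD2_c34 LD3_c58)) :=
  Lre_g IH (LK LD1_c9 LD2_c32 LD3_c43) (LK LD1_c17 LD2_c34 LD3_c58) Lrfl Lrfl
theorem f708352 : Led Lsl_gf (LP (LK LD1_c12 LD2_c33 LD3_c14)) = (LP (LK LD1_c17 LD2_c34 LD3_c58)) :=
  Lgr Lrot76 (Lpr_af (f708346 IH) (Lpe (f504456 IH) (Lpr_gt (f504459 IH) (Lpn (LP (LK LD1_c17 LD2_c34 LD3_c58))))))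
theorem f760284 : Led Lsl_ff (LP (LK LD1_c12 LD2_c58 LD3_c26)) = (LP (LK LD1_c17 LD2_c34 LD3_c58)) :=
  Lgr Lrot52 (Lpr_at (f760205 IH) (Lpe (f760155 IH) (Lpr_gf (f708352 IH) (Lpn (LP (LK LD1_c17 LD2_c34 LD3_c58))))))
theorem f760285 : Led Lsl_ft (LP (LK LD1_c17 LD2_c34 LD3_c58)) = (LP (LK LD1_c12 LD2_c58 LD3_c26)) :=
  Leop (Lpr_ff (f760284 IH) (Lpn (LP (LK LD1_c17 LD2_c34 LD3_c58))))
theorem seed_1165 : LEOK LG_f (LK LD1_c17 LD2_c34 LD3_c58) :=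
  Leoe_f (LK LD1_c17 LD2_c34 LD3_c58) (f760285 IH)
def v13329 : LQ := Led Lsl_gt (LP (LK LD1_c4 LD2_c43 LD3_c13))
theorem f702369 : Led Lsl_gt (LP (LK LD1_c4 LD2_c43 LD3_c13)) = v13329 :=
  Lrfl
def v17536 : LQ := Led Lsl_ft (LP (LK LD1_c6 LD2_c20 LD3_c14))
theorem f760450 : Led Lsl_ft (LP (LK LD1_c6 LD2_c20 LD3_c14)) = v17536 :=
  Lrfl
theorem f760452 : Led Lsl_ff (LP (LK LD1_c6 LD2_c20 LD3_c14)) = v17536 :=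
  Lgr Lrot3 (Lpr_ft (f760450 IH) (Lpn v17536))
theorem f124085 : Led Lsl_dt (LP (LK LD1_c9 LD2_c19 LD3_c60)) = (LP (LK LD1_c4 LD2_c43 LD3_c13)) :=
  Lre_d IH (LK LD1_c9 LD2_c19 LD3_c60) (LK LD1_c4 LD2_c43 LD3_c13) Lrfl Lrfl
theorem f128982 : Led Lsl_at (LP (LK LD1_c6 LD2_c20 LD3_c14)) = (LP (LK LD1_c9 LD2_c19 LD3_c60)) :=
  Lgr Lrot51 (Lpe (K51.f91429 IH) (Lpr_af (K5.f128975 IH) (Lpe (f124085 IH) (Lpn (LP (LK LD1_c9 LD2_c19 LD3_c60))))))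
theorem f760454 : Led Lsl_gf (LP (LK LD1_c17 LD2_c15 LD3_c51)) = v17536 :=
  Lgr Lrot47 (Lpr_gt (K51.f124086 IH) (Lpe (f128982 IH) (Lpr_ff (f760452 IH) (Lpn v17536))))
theorem f126974 : Led Lsl_ct (LP (LK LD1_c12 LD2_c27 LD3_c59)) = (LP (LK LD1_c6 LD2_c28 LD3_c29)) :=
  Lre_c IH (LK LD1_c12 LD2_c27 LD3_c59) (LK LD1_c6 LD2_c28 LD3_c29) Lrfl Lrfl
theorem f126975 : Led Lsl_dt (LP (LK LD1_c6 LD2_c21 LD3_c0)) = (LP (LK LD1_c6 LD2_c28 LD3_c29)) :=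
  Lgr Lrot42 (Lpr_df (K51.f126972 IH) (Lpn (LP (LK LD1_c6 LD2_c28 LD3_c29))))
theorem f647518 : Led Lsl_gf (LP (LK LD1_c6 LD2_c21 LD3_c0)) = K51.v5409 :=
  Lgr Lrot47 (Lpr_gt (K51.f126960 IH) (Lpe (K51.f136078 IH) (Lpr_ff (f647515 IH) (Lpn K51.v5409))))
theorem f647516 : Led Lsl_dt K51.v1852 = K51.v5409 :=
  Lgr Lrot60 (Lpe (K51.f504572 IH) (Lpe (K4.f104218 IH) (Lpr_ff (f647515 IH) (Lpn K51.v5409))))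
theorem f91424 : Led Lsl_dt (LP (LK LD1_c6 LD2_c20 LD3_c14)) = (LP (LK LD1_c3 LD2_c7 LD3_c41)) :=
  Lre_d IH (LK LD1_c6 LD2_c20 LD3_c14) (LK LD1_c3 LD2_c7 LD3_c41) Lrfl Lrfl
def v5419 : LQ := Led Lsl_ft (LP (LK LD1_c3 LD2_c7 LD3_c41))
theorem f647540 : Led Lsl_ft (LP (LK LD1_c3 LD2_c7 LD3_c41)) = v5419 :=
  Lrfl
theorem f760453 : Led Lsl_dt v5419 = v17536 :=
  Lgr Lrot60 (Lpe (f647540 IH) (Lpe (f91424 IH) (Lpr_ff (f760452 IH) (Lpn v17536))))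
def v13331 : LQ := Led Lsl_ft (LP (LK LD1_c4 LD2_c43 LD3_c13))
theorem f702372 : Led Lsl_ft (LP (LK LD1_c4 LD2_c43 LD3_c13)) = v13331 :=
  Lrfl
theorem f128977 : Led Lsl_at (LP (LK LD1_c3 LD2_c7 LD3_c41)) = (LP (LK LD1_c4 LD2_c43 LD3_c13)) :=
  Lgr Lrot100 (Lpr_af (K5.f128975 IH) (Lpn (LP (LK LD1_c4 LD2_c43 LD3_c13))))
theorem f647541 : Led Lsl_ff (LP (LK LD1_c3 LD2_c7 LD3_c41)) = v5419 :=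
  Lgr Lrot3 (Lpr_ft (f647540 IH) (Lpn v5419))
theorem f702373 : Led Lsl_af v5419 = v13331 :=
  Lgr Lrot45 (Lpe (f647541 IH) (Lpr_at (f128977 IH) (Lpr_ft (f702372 IH) (Lpn v13331))))
theorem f702378 : Led Lsl_gt v13329 = v5419 :=
  Lgr Lrot46 (Lpe (f702369 IH) (Lpr_ft (f702372 IH) (Lpe (f702373 IH) (Lpn v5419))))
theorem f760455 : (LP (LK LD1_c6 LD2_c51 LD3_c21)) = v13329 :=
  (Llr Lrot8 (Lpe (K52.f77371 IH) (Lpqs (K51.f707726 IH) (Lpr_gt (K51.f632603 IH) (Lpr_dt (f647516 IH) (Lpe (f647518 IH) (Lpr_dt (f126975 IH) (Lpe (f126974 IH) (Lpr_df (K51.f707690 IH) (Lpr_gf (f760454 IH) (Lpe (f760453 IH) (Lpe (f702378 IH) (Lpn v13329))))))))))))).symm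
theorem f760456 : Led Lsl_gt (LP (LK LD1_c4 LD2_c43 LD3_c13)) = (LP (LK LD1_c6 LD2_c51 LD3_c21)) :=
  Leop (Lpqs (f760455 IH) (Lpe (f702369 IH) (Lpn (LP (LK LD1_c4 LD2_c43 LD3_c13)))))
theorem seed_1166 : LEOK LG_g (LK LD1_c4 LD2_c43 LD3_c13) :=
  Leoe_g (LK LD1_c4 LD2_c43 LD3_c13) (f760456 IH)
def v13437 : LQ := Led Lsl_bt (LP (LK LD1_c4 LD2_c43 LD3_c61))
theorem f702966 : Led Lsl_bt (LP (LK LD1_c4 LD2_c43 LD3_c61)) = v13437 :=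
  Lrfl
def v1372 : LQ := Led Lsl_at (LP (LK LD1_c1 LD2_c8 LD3_c32))
theorem f495188 : Led Lsl_at (LP (LK LD1_c1 LD2_c8 LD3_c32)) = v1372 :=
  Lrfl
theorem f495189 : Led Lsl_af (LP (LK LD1_c1 LD2_c8 LD3_c32)) = v1372 :=
  Lgr Lrot0 (Lpr_at (f495188 IH) (Lpn v1372))
theorem f495190 : Led Lsl_ft (LP (LK LD1_c1 LD2_c8 LD3_c33)) = v1372 :=
  Lgr Lrot2 (Lpr_gt (K32.f135597 IH) (Lpr_gt (K29.f23819 IH) (Lpr_af (f495189 IH) (Lpn v1372))))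
theorem f633573 : (LP (LK LD1_c0 LD2_c44 LD3_c61)) = v1372 :=
  Lefun (Lecon (Lfl_ff (K35.f454805 IH)) (K35.f633556 IH)) (f495190 IH)
def v2205 : LQ := Led Lsl_at (LP (LK LD1_c1 LD2_c37 LD3_c16))
theorem f509664 : Led Lsl_at (LP (LK LD1_c1 LD2_c37 LD3_c16)) = v2205 :=
  Lrfl
theorem f509665 : Led Lsl_af (LP (LK LD1_c1 LD2_c37 LD3_c16)) = v2205 :=
  Lgr Lrot0 (Lpr_at (f509664 IH) (Lpn v2205))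
theorem f669003 : Led Lsl_bf v2205 = v7927 :=
  Lgr Lrot81 (Lpe (f509665 IH) (Lpr_bt (K56.f415743 IH) (Lpqs (f633573 IH) (Lpe (f495189 IH) (Lpr_bt (K52.f495192 IH) (Lpr_at (f669001 IH) (Lpn v7927)))))))
def v3207 : LQ := Led Lsl_gt K51.v569
theorem f624616 : Led Lsl_gt K51.v569 = v3207 :=
  Lrfl
theorem f669005 : Led Lsl_gt v3207 = v7927 :=
  Lgr Lrot46 (Lpe (f624616 IH) (Lpr_ft (K52.f624611 IH) (Lpqs (K52.f633587 IH) (Lpr_at (f669001 IH) (Lpn v7927)))))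
theorem f91931 : Led Lsl_gt (LP (LK LD1_c2 LD2_c19 LD3_c56)) = (LP (LK LD1_c4 LD2_c43 LD3_c61)) :=
  Lre_g IH (LK LD1_c2 LD2_c19 LD3_c56) (LK LD1_c4 LD2_c43 LD3_c61) Lrfl Lrfl
def v4355 : LQ := Led Lsl_gf (LP (LK LD1_c2 LD2_c19 LD3_c56))
theorem f632887 : Led Lsl_gf (LP (LK LD1_c2 LD2_c19 LD3_c56)) = v4355 :=
  Lrfl
def v6469 : LQ := Led Lsl_gf (LP (LK LD1_c3 LD2_c22 LD3_c7))
theorem f653532 : Led Lsl_gf (LP (LK LD1_c3 LD2_c22 LD3_c7)) = v6469 :=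
  Lrfl
theorem f708762 : K51.v5905 = v6469 :=
  Lefun (Lecon (Lfl_gt (f702976 IH)) (K51.f708758 IH)) (f653532 IH)
def v2031 : LQ := Led Lsl_ft (LP (LK LD1_c1 LD2_c33 LD3_c55))
theorem f507840 : Led Lsl_ft (LP (LK LD1_c1 LD2_c33 LD3_c55)) = v2031 :=
  Lrfl
theorem f507841 : Led Lsl_ff (LP (LK LD1_c1 LD2_c33 LD3_c55)) = v2031 :=
  Lgr Lrot3 (Lpr_ft (f507840 IH) (Lpn v2031))
theorem f650005 : Led Lsl_df v2031 = K51.v5905 :=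
  Lgr Lrot78 (Lpe (f507841 IH) (Lpr_dt (K3.f103526 IH) (Lpr_ft (K51.f650004 IH) (Lpn K51.v5905))))
theorem f107418 : Led Lsl_at (LP (LK LD1_c1 LD2_c33 LD3_c55)) = (LP (LK LD1_c2 LD2_c19 LD3_c56)) :=
  Lgr Lrot100 (Lpr_af (K3.f107408 IH) (Lpn (LP (LK LD1_c2 LD2_c19 LD3_c56))))
theorem f632888 : Led Lsl_gt v2031 = v4355 :=
  Lgr Lrot5 (Lpe (f507841 IH) (Lpr_at (f107418 IH) (Lpr_gf (f632887 IH) (Lpn v4355))))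
theorem f23531 : Led Lsl_dt (LP (LK LD1_c4 LD2_c43 LD3_c58)) = (LP (LK LD1_c9 LD2_c20 LD3_c48)) :=
  Lre_d IH (LK LD1_c4 LD2_c43 LD3_c58) (LK LD1_c9 LD2_c20 LD3_c48) Lrfl Lrfl
theorem f760224 : v4355 = K51.v569 :=
  (Llr Lrot9 (Lpe (f632888 IH) (Lpr_df (f650005 IH) (Lpqs (f708762 IH) (Lpe (f653532 IH) (Lpr_ct (f140125 IH) (Lpr_gt (f504462 IH) (Lpr_ct (f760207 IH) (Lpe (f23531 IH) (Lpr_cf (K52.f633482 IH) (Lpqs (K51.f707742 IH) (Lpe (K51.f679019 IH) (Lpe (K51.f624620 IH) (Lpn K51.v569)))))))))))))).symm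
theorem f760225 : (LP (LK LD1_c2 LD2_c19 LD3_c56)) = v3207 :=
  Lefun (Lecon (Lfl_gf (f632887 IH)) (f760224 IH)) (f624616 IH)
theorem f760229 : v7927 = (LP (LK LD1_c4 LD2_c43 LD3_c61)) :=
  Lefun (Lecon (f669005 IH) (f760225 IH).symm) (f91931 IH)
theorem f760240 : v2205 = v13437 :=
  Lefun (Lecon (Lfl_bf (f669003 IH)) (f760229 IH)) (f702966 IH)
def v4517 : LQ := Led Lsl_gt (LP (LK LD1_c2 LD2_c22 LD3_c52))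
theorem f634343 : Led Lsl_gt (LP (LK LD1_c2 LD2_c22 LD3_c52)) = v4517 :=
  Lrfl
def v2206 : LQ := Led Lsl_ft (LP (LK LD1_c1 LD2_c37 LD3_c16))
theorem f509666 : Led Lsl_ft (LP (LK LD1_c1 LD2_c37 LD3_c16)) = v2206 :=
  Lrfl
theorem f509668 : Led Lsl_ff (LP (LK LD1_c1 LD2_c37 LD3_c16)) = v2206 :=
  Lgr Lrot3 (Lpr_ft (f509666 IH) (Lpn v2206))
theorem f509671 : Led Lsl_bt K35.v568 = v2206 :=
  Lgr Lrot35 (Lpe (K35.f454803 IH) (Lpe (K56.f415743 IH) (Lpr_ff (f509668 IH) (Lpn v2206))))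
theorem f444587 : Led Lsl_bt (LP (LK LD1_c1 LD2_c8 LD3_c33)) = (LP (LK LD1_c2 LD2_c22 LD3_c52)) :=
  Lre_b IH (LK LD1_c1 LD2_c8 LD3_c33) (LK LD1_c2 LD2_c22 LD3_c52) Lrfl Lrfl
theorem f633562 : v2206 = (LP (LK LD1_c2 LD2_c22 LD3_c52)) :=
  Lefun (Lecon (f509671 IH) (K35.f633556 IH)) (f444587 IH)
theorem f634344 : Led Lsl_gf v2205 = v4517 :=
  Lgr Lrot76 (Lpe (f509664 IH) (Lpr_ff (f509668 IH) (Lpqs (f633562 IH) (Lpr_gt (f634343 IH) (Lpn v4517)))))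
theorem f23628 : Led Lsl_gt (LP (LK LD1_c1 LD2_c33 LD3_c22)) = (LP (LK LD1_c3 LD2_c13 LD3_c38)) :=
  Lre_g IH (LK LD1_c1 LD2_c33 LD3_c22) (LK LD1_c3 LD2_c13 LD3_c38) Lrfl Lrfl
theorem f645978 : Led Lsl_ff (LP (LK LD1_c6 LD2_c51 LD3_c21)) = K52.v5110 :=
  Lgr Lrot25 (Lpe (K52.f140138 IH) (Lpe (K52.f645543 IH) (Lpr_bt (K52.f645975 IH) (Lpn K52.v5110))))
theorem f645980 : Led Lsl_ft (LP (LK LD1_c6 LD2_c51 LD3_c21)) = K52.v5110 :=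
  Lgr Lrot48 (Lpr_ff (f645978 IH) (Lpn K52.v5110))
def v13330 : LQ := Led Lsl_gf (LP (LK LD1_c4 LD2_c43 LD3_c13))
theorem f702370 : Led Lsl_gf (LP (LK LD1_c4 LD2_c43 LD3_c13)) = v13330 :=
  Lrfl
theorem f702371 : Led Lsl_gt v5419 = v13330 :=
  Lgr Lrot5 (Lpe (f647541 IH) (Lpr_at (f128977 IH) (Lpr_gf (f702370 IH) (Lpn v13330))))
theorem f760457 : Led Lsl_at K52.v5110 = v13330 :=
  Lgr Lrot26 (Lpe (f645980 IH) (Lpqs (f760455 IH) (Lpr_gt (f702378 IH) (Lpr_gt (f702371 IH) (Lpn v13330)))))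
def v8128 : LQ := Led Lsl_ct K51.v1850
theorem f670118 : Led Lsl_ct K51.v1850 = v8128 :=
  Lrfl
theorem f670119 : Led Lsl_cf K51.v1850 = v8128 :=
  Lgr Lrot11 (Lpr_ct (f670118 IH) (Lpn v8128))
theorem f715908 : Led Lsl_af v8128 = (LP (LK LD1_c6 LD2_c51 LD3_c21)) :=
  Lgr Lrot68 (Lpe (f670119 IH) (Lpr_at (K51.f670112 IH) (Lpqs (K51.f707759 IH) (Lpr_ct (K52.f77371 IH) (Lpn (LP (LK LD1_c6 LD2_c51 LD3_c21)))))))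
theorem f715909 : Led Lsl_at v8128 = (LP (LK LD1_c6 LD2_c51 LD3_c21)) :=
  Lgr Lrot100 (Lpr_af (f715908 IH) (Lpn (LP (LK LD1_c6 LD2_c51 LD3_c21))))
theorem f760460 : Led Lsl_ff v8128 = v13330 :=
  Lgr Lrot30 (Lpr_at (f715909 IH) (Lpr_ft (f645980 IH) (Lpr_at (f760457 IH) (Lpn v13330))))
def v8131 : LQ := Led Lsl_ft K51.v1850
theorem f670127 : Led Lsl_ft K51.v1850 = v8131 :=
  Lrfl
theorem f760461 : Led Lsl_ct v8131 = v13330 :=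
  Lgr Lrot40 (Lpe (f670127 IH) (Lpr_cf (f670119 IH) (Lpr_ff (f760460 IH) (Lpn v13330))))
theorem f670129 : Led Lsl_ff K51.v1850 = v8131 :=
  Lgr Lrot3 (Lpr_ft (f670127 IH) (Lpn v8131))
theorem f670115 : Led Lsl_ff K51.v1851 = K51.v8126 :=
  Lgr Lrot3 (Lpr_ft (K51.f670114 IH) (Lpn K51.v8126))
theorem f670130 : Led Lsl_at K51.v1851 = v8131 :=
  Lgr Lrot66 (Lpr_ff (f670115 IH) (Lpe (K51.f670112 IH) (Lpr_ff (f670129 IH) (Lpn v8131))))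
def v8064 : LQ := Led Lsl_at K51.v1728
theorem f669819 : Led Lsl_at K51.v1728 = v8064 :=
  Lrfl
theorem f707755 : v8131 = v8064 :=
  Lefun (Lecon (f670130 IH) (K51.f707752 IH)) (f669819 IH)
def v6620 : LQ := Led Lsl_at (LP (LK LD1_c3 LD2_c24 LD3_c14))
theorem f654449 : Led Lsl_at (LP (LK LD1_c3 LD2_c24 LD3_c14)) = v6620 :=
  Lrfl
theorem f654450 : Led Lsl_af (LP (LK LD1_c3 LD2_c24 LD3_c14)) = v6620 :=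
  Lgr Lrot0 (Lpr_at (f654449 IH) (Lpn v6620))
theorem f669821 : Led Lsl_ff v6620 = v8064 :=
  Lgr Lrot30 (Lpe (f654450 IH) (Lpe (K51.f645675 IH) (Lpr_at (f669819 IH) (Lpn v8064))))
theorem f669824 : Led Lsl_gf K51.v6619 = v8064 :=
  Lgr Lrot47 (Lpe (K51.f654448 IH) (Lpr_af (f654450 IH) (Lpr_ff (f669821 IH) (Lpn v8064))))
def v4312 : LQ := Led Lsl_gf (LP (LK LD1_c2 LD2_c19 LD3_c15))
theorem f632597 : Led Lsl_gf (LP (LK LD1_c2 LD2_c19 LD3_c15)) = v4312 :=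
  Lrfl
theorem f707728 : v8064 = v4312 :=
  Lefun (Lecon (f669824 IH) (K51.f707725 IH)) (f632597 IH)
theorem f632598 : Led Lsl_gt K51.v1852 = v4312 :=
  Lgr Lrot5 (Lpe (K51.f504573 IH) (Lpr_at (K51.f136074 IH) (Lpr_gf (f632597 IH) (Lpn v4312))))
theorem f647498 : Led Lsl_bf K51.v1852 = K51.v5405 :=
  Lgr Lrot61 (Lpe (K51.f504573 IH) (Lpr_bt (K52.f61924 IH) (Lpr_ft (K51.f647497 IH) (Lpn K51.v5405))))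
def v6452 : LQ := Led Lsl_at (LP (LK LD1_c3 LD2_c21 LD3_c59))
theorem f653466 : Led Lsl_at (LP (LK LD1_c3 LD2_c21 LD3_c59)) = v6452 :=
  Lrfl
theorem f653468 : Led Lsl_cf v2205 = v6452 :=
  Lgr Lrot1 (Lpe (f509665 IH) (Lpr_ct (K56.f415645 IH) (Lpr_at (f653466 IH) (Lpn v6452))))
theorem f653469 : Led Lsl_ct v2205 = v6452 :=
  Lgr Lrot59 (Lpr_cf (f653468 IH) (Lpn v6452))
def v13931 : LQ := Led Lsl_at (LP (LK LD1_c4 LD2_c50 LD3_c7))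
theorem f716247 : Led Lsl_at (LP (LK LD1_c4 LD2_c50 LD3_c7)) = v13931 :=
  Lrfl
theorem f415742 : Led Lsl_ct (LP (LK LD1_c3 LD2_c21 LD3_c59)) = (LP (LK LD1_c1 LD2_c37 LD3_c16)) :=
  Lre_c IH (LK LD1_c3 LD2_c21 LD3_c59) (LK LD1_c1 LD2_c37 LD3_c16) Lrfl Lrfl
theorem f634006 : Led Lsl_ff (LP (LK LD1_c3 LD2_c21 LD3_c59)) = (LP (LK LD1_c4 LD2_c50 LD3_c7)) :=
  Lgr Lrot23 (Lpr_ct (f415742 IH) (Lpr_ft (f509666 IH) (Lpqs (f633562 IH) (Lpr_ct (K56.f444588 IH) (Lpn (LP (LK LD1_c4 LD2_c50 LD3_c7)))))))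
theorem f634008 : Led Lsl_ft (LP (LK LD1_c3 LD2_c21 LD3_c59)) = (LP (LK LD1_c4 LD2_c50 LD3_c7)) :=
  Lgr Lrot48 (Lpr_ff (f634006 IH) (Lpn (LP (LK LD1_c4 LD2_c50 LD3_c7))))
theorem f653467 : Led Lsl_af (LP (LK LD1_c3 LD2_c21 LD3_c59)) = v6452 :=
  Lgr Lrot0 (Lpr_at (f653466 IH) (Lpn v6452))
theorem f716250 : Led Lsl_ff v6452 = v13931 :=
  Lgr Lrot30 (Lpe (f653467 IH) (Lpr_ft (f634008 IH) (Lpr_at (f716247 IH) (Lpn v13931))))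
theorem f716253 : Led Lsl_ft v6452 = v13931 :=
  Lgr Lrot48 (Lpr_ff (f716250 IH) (Lpn v13931))
theorem f716248 : Led Lsl_af (LP (LK LD1_c4 LD2_c50 LD3_c7)) = v13931 :=
  Lgr Lrot0 (Lpr_at (f716247 IH) (Lpn v13931))
theorem f716255 : Led Lsl_gt v6452 = K56.v13930 :=
  Lgr Lrot5 (Lpr_ft (f716253 IH) (Lpe (f716248 IH) (Lpr_gf (K56.f716246 IH) (Lpn K56.v13930))))
theorem f66494 : Led Lsl_ft (LP (LK LD1_c3 LD2_c19 LD3_c2)) = (LP (LK LD1_c6 LD2_c42 LD3_c7)) :=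
  Lre_f IH (LK LD1_c3 LD2_c19 LD3_c2) (LK LD1_c6 LD2_c42 LD3_c7) Lrfl Lrfl
theorem f674775 : Led Lsl_at (LP (LK LD1_c6 LD2_c42 LD3_c7)) = K56.v9229 :=
  Lgr Lrot66 (Lpe (f66494 IH) (Lpr_af (K56.f527304 IH) (Lpr_ff (K56.f674773 IH) (Lpn K56.v9229))))
def v6202 : LQ := Led Lsl_gt (LP (LK LD1_c3 LD2_c19 LD3_c2))
theorem f652061 : Led Lsl_gt (LP (LK LD1_c3 LD2_c19 LD3_c2)) = v6202 :=
  Lrfl
theorem f674779 : Led Lsl_gt v6202 = K56.v9229 :=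
  Lgr Lrot46 (Lpe (f652061 IH) (Lpr_ft (f66494 IH) (Lpr_at (f674775 IH) (Lpn K56.v9229))))
theorem f754195 : v6452 = v6202 :=
  Lefun (Lecon (Lfl_gt (f716255 IH)) (K56.f754193 IH)) (Lfl_gt (f674779 IH))
def v9756 : LQ := Led Lsl_ct K56.v3062
theorem f677513 : Led Lsl_ct K56.v3062 = v9756 :=
  Lrfl
def v4519 : LQ := Led Lsl_at (LP (LK LD1_c2 LD2_c22 LD3_c52))
theorem f634346 : Led Lsl_at (LP (LK LD1_c2 LD2_c22 LD3_c52)) = v4519 :=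
  Lrfl
def v1374 : LQ := Led Lsl_ft (LP (LK LD1_c1 LD2_c8 LD3_c32))
theorem f495194 : Led Lsl_ft (LP (LK LD1_c1 LD2_c8 LD3_c32)) = v1374 :=
  Lrfl
theorem f495195 : Led Lsl_af (LP (LK LD1_c1 LD2_c8 LD3_c33)) = v1374 :=
  Lgr Lrot45 (Lpr_ft (f495190 IH) (Lpe (f495189 IH) (Lpr_ft (f495194 IH) (Lpn v1374))))
theorem f454804 : Led Lsl_af (LP (LK LD1_c0 LD2_c45 LD3_c0)) = K35.v568 :=
  Lgr Lrot45 (Lpr_ft (K35.f454801 IH) (Lpe (K35.f454800 IH) (Lpr_ft (K35.f454803 IH) (Lpn K35.v568))))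
theorem f495196 : Led Lsl_ff (LP (LK LD1_c1 LD2_c8 LD3_c32)) = v1374 :=
  Lgr Lrot3 (Lpr_ft (f495194 IH) (Lpn v1374))
theorem f495191 : Led Lsl_ff (LP (LK LD1_c1 LD2_c8 LD3_c33)) = v1372 :=
  Lgr Lrot3 (Lpr_ft (f495190 IH) (Lpn v1372))
theorem f495197 : Led Lsl_at (LP (LK LD1_c1 LD2_c8 LD3_c33)) = v1374 :=
  Lgr Lrot66 (Lpr_ff (f495191 IH) (Lpe (f495188 IH) (Lpr_ff (f495196 IH) (Lpn v1374))))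
theorem f633559 : (LP (LK LD1_c0 LD2_c45 LD3_c0)) = v1374 :=
  Lefun (Lecon (Lfl_af (f454804 IH)) (K35.f633556 IH)) (f495197 IH)
theorem f634348 : Led Lsl_bf v3209 = v4519 :=
  Lgr Lrot81 (Lpe (f624619 IH) (Lpe (K51.f454808 IH) (Lpqs (f633559 IH) (Lpe (f495195 IH) (Lpr_bt (f444587 IH) (Lpr_at (f634346 IH) (Lpn v4519)))))))
theorem f634354 : Led Lsl_bt v3209 = v4519 :=
  Lgr Lrot127 (Lpr_bf (f634348 IH) (Lpn v4519))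
theorem f634349 : Led Lsl_ff v2205 = v4519 :=
  Lgr Lrot30 (Lpe (f509665 IH) (Lpr_ft (f509666 IH) (Lpqs (f633562 IH) (Lpr_at (f634346 IH) (Lpn v4519)))))
theorem f669006 : Led Lsl_bt v2205 = v7927 :=
  Lgr Lrot35 (Lpr_ff (f634349 IH) (Lpe (f634354 IH) (Lpr_ff (f669004 IH) (Lpn v7927))))
def v4351 : LQ := Led Lsl_et (LP (LK LD1_c2 LD2_c19 LD3_c47))
theorem f632857 : Led Lsl_et (LP (LK LD1_c2 LD2_c19 LD3_c47)) = v4351 :=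
  Lrfl
theorem f632859 : Led Lsl_bf (LP (LK LD1_c2 LD2_c19 LD3_c56)) = v4351 :=
  Lgr Lrot96 (Lpr_et (K51.f23484 IH) (Lpe (K3.f23478 IH) (Lpr_et (f632857 IH) (Lpn v4351))))
def v1938 : LQ := Led Lsl_et (LP (LK LD1_c1 LD2_c31 LD3_c49))
theorem f506486 : Led Lsl_et (LP (LK LD1_c1 LD2_c31 LD3_c49)) = v1938 :=
  Lrfl
theorem f506487 : Led Lsl_ef (LP (LK LD1_c1 LD2_c31 LD3_c49)) = v1938 :=
  Lgr Lrot88 (Lpr_et (f506486 IH) (Lpn v1938))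
theorem f632860 : Led Lsl_cf v1938 = v4351 :=
  Lgr Lrot39 (Lpe (f506487 IH) (Lpr_ct (K7.f109985 IH) (Lpr_et (f632857 IH) (Lpn v4351))))
def v8237 : LQ := Led Lsl_gf v1938
theorem f670479 : Led Lsl_gf v1938 = v8237 :=
  Lrfl
theorem f760260 : v9756 = v8237 :=
  (Llr Lrot91 (Lpe (f677513 IH) (Lpr_gf (K56.f668482 IH) (Lpe (K56.f668480 IH) (Lpr_ct (K56.f674776 IH) (Lpe (f674779 IH) (Lpq (f754195 IH) (Lpe (f653469 IH) (Lpr_bt (f669006 IH) (Lpqs (f760229 IH) (Lpe (f91931 IH) (Lpr_bf (f632859 IH) (Lpe (f632860 IH) (Lpr_gf (f670479 IH) (Lpn v8237))))))))))))))).symm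
def v9755 : LQ := Led Lsl_bt K56.v3062
theorem f677511 : Led Lsl_bt K56.v3062 = v9755 :=
  Lrfl
theorem f510438 : Led Lsl_af (LP (LK LD1_c1 LD2_c38 LD3_c29)) = K49.v2243 :=
  Lgr Lrot0 (Lpr_at (K49.f510437 IH) (Lpn K49.v2243))
theorem f510444 : Led Lsl_af K24.v573 = K49.v2244 :=
  Lgr Lrot45 (Lpr_ft (K49.f510441 IH) (Lpe (f510438 IH) (Lpr_ft (K49.f510443 IH) (Lpn K49.v2244))))
theorem f669820 : Led Lsl_af K51.v1728 = v8064 :=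
  Lgr Lrot0 (Lpr_at (f669819 IH) (Lpn v8064))
theorem f679048 : Led Lsl_bf v8064 = K56.v10168 :=
  Lgr Lrot81 (Lpe (f669820 IH) (Lpe (K51.f501174 IH) (Lpq (K49.f645316 IH) (Lpe (f510444 IH) (Lpr_bt (K56.f624632 IH) (Lpr_at (K56.f679046 IH) (Lpn K56.v10168)))))))
theorem f754224 : v8064 = v9755 :=
  Lefun (Lecon (Lfl_bf (f679048 IH)) (K56.f754220 IH)) (f677511 IH)
theorem f632866 : Led Lsl_ct (LP (LK LD1_c4 LD2_c43 LD3_c61)) = (LP (LK LD1_c9 LD2_c20 LD3_c51)) :=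
  Lre_c IH (LK LD1_c4 LD2_c43 LD3_c61) (LK LD1_c9 LD2_c20 LD3_c51) Lrfl Lrfl
theorem f760261 : Led Lsl_gf K51.v6274 = (LP (LK LD1_c9 LD2_c20 LD3_c51)) :=
  Lgr Lrot129 (Lpe (K51.f652528 IH) (Lpe (f647498 IH) (Lpr_gt (f632598 IH) (Lpq (f707728 IH) (Lpqs (f754224 IH) (Lpe (f677511 IH) (Lpr_ct (f677513 IH) (Lpqs (f760260 IH) (Lpe (f670479 IH) (Lpr_cf (f632860 IH) (Lpe (f632859 IH) (Lpr_gt (f91931 IH) (Lpr_ct (f632866 IH) (Lpn (LP (LK LD1_c9 LD2_c20 LD3_c51))))))))))))))))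
theorem f23612 : Led Lsl_bf (LP (LK LD1_c1 LD2_c33 LD3_c22)) = (LP (LK LD1_c3 LD2_c13 LD3_c19)) :=
  Lgr Lrot96 (Lpr_et (K49.f23610 IH) (Lpr_bt (K5.f23603 IH) (Lpr_et (K5.f23611 IH) (Lpn (LP (LK LD1_c3 LD2_c13 LD3_c19))))))
theorem f760464 : v4517 = (LP (LK LD1_c1 LD2_c33 LD3_c22)) :=
  (Llr Lrot124 (Lpe (f634344 IH) (Lpqs (f760240 IH) (Lpe (f702966 IH) (Lpr_ct (f632866 IH) (Lpe (f760261 IH) (Lpe (K51.f652528 IH) (Lpe (f647498 IH) (Lpr_gt (f632598 IH) (Lpq (f707728 IH) (Lpq (f707755 IH) (Lpr_ct (f760461 IH) (Lpe (f702370 IH) (Lpr_cf (K5.f124083 IH) (Lpe (f23612 IH) (Lpn (LP (LK LD1_c1 LD2_c33 LD3_c22)))))))))))))))))).symm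
theorem f760465 : v2205 = (LP (LK LD1_c3 LD2_c13 LD3_c38)) :=
  Lefun (Lecon (Lfl_gf (f634344 IH)) (f760464 IH)) (f23628 IH)
theorem f760474 : Led Lsl_bt (LP (LK LD1_c4 LD2_c43 LD3_c61)) = (LP (LK LD1_c3 LD2_c13 LD3_c38)) :=
  Leop (Lpq (f760465 IH) (Lpqs (f760240 IH) (Lpe (f702966 IH) (Lpn (LP (LK LD1_c4 LD2_c43 LD3_c61))))))
theorem seed_1167 : LEOK LG_b (LK LD1_c4 LD2_c43 LD3_c61) :=
  Leoe_b (LK LD1_c4 LD2_c43 LD3_c61) (f760474 IH)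
def v17171 : LQ := Led Lsl_gt (LP (LK LD1_c6 LD2_c12 LD3_c53))
theorem f756496 : Led Lsl_gt (LP (LK LD1_c6 LD2_c12 LD3_c53)) = v17171 :=
  Lrfl
def v17331 : LQ := Led Lsl_at (LP (LK LD1_c6 LD2_c17 LD3_c54))
theorem f758723 : Led Lsl_at (LP (LK LD1_c6 LD2_c17 LD3_c54)) = v17331 :=
  Lrfl
theorem f25539 : Led Lsl_bt (LP (LK LD1_c6 LD2_c17 LD3_c54)) = (LP (LK LD1_c3 LD2_c6 LD3_c10)) :=
  Lre_b IH (LK LD1_c6 LD2_c17 LD3_c54) (LK LD1_c3 LD2_c6 LD3_c10) Lrfl Lrfl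
theorem f416072 : Led Lsl_bt (LP (LK LD1_c3 LD2_c3 LD3_c11)) = (LP (LK LD1_c6 LD2_c12 LD3_c53)) :=
  Lre_b IH (LK LD1_c3 LD2_c3 LD3_c11) (LK LD1_c6 LD2_c12 LD3_c53) Lrfl Lrfl
theorem f633632 : Led Lsl_ff (LP (LK LD1_c6 LD2_c17 LD3_c54)) = (LP (LK LD1_c6 LD2_c12 LD3_c53)) :=
  Lgr Lrot25 (Lpr_bt (f25539 IH) (Lpr_ft (K52.f633628 IH) (Lpr_bt (f416072 IH) (Lpn (LP (LK LD1_c6 LD2_c12 LD3_c53))))))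
theorem f758728 : Led Lsl_gt v17171 = v17331 :=
  Lgr Lrot46 (Lpe (f756496 IH) (Lpe (f633632 IH) (Lpr_at (f758723 IH) (Lpn v17331))))
def v5847 : LQ := Led Lsl_gf (LP (LK LD1_c3 LD2_c14 LD3_c2))
theorem f649798 : Led Lsl_gf (LP (LK LD1_c3 LD2_c14 LD3_c2)) = v5847 :=
  Lrfl
theorem f209483 : Led Lsl_ft (LP (LK LD1_c7 LD2_c27 LD3_c7)) = (LP (LK LD1_c3 LD2_c43 LD3_c14)) :=
  Lre_f IH (LK LD1_c7 LD2_c27 LD3_c7) (LK LD1_c3 LD2_c43 LD3_c14) Lrfl Lrfl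
theorem f649799 : Led Lsl_gt (LP (LK LD1_c7 LD2_c27 LD3_c7)) = v5847 :=
  Lgr Lrot5 (Lpr_ft (f209483 IH) (Lpe (K46.f209436 IH) (Lpr_gf (f649798 IH) (Lpn v5847))))
theorem f415734 : Led Lsl_bt (LP (LK LD1_c1 LD2_c37 LD3_c18)) = (LP (LK LD1_c3 LD2_c21 LD3_c61)) :=
  Lre_b IH (LK LD1_c1 LD2_c37 LD3_c18) (LK LD1_c3 LD2_c21 LD3_c61) Lrfl Lrfl
theorem f446092 : Led Lsl_df (LP (LK LD1_c6 LD2_c17 LD3_c54)) = (LP (LK LD1_c3 LD2_c21 LD3_c61)) :=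
  Lgr Lrot12 (Lpr_bt (f25539 IH) (Lpr_dt (K32.f25513 IH) (Lpr_bt (f415734 IH) (Lpn (LP (LK LD1_c3 LD2_c21 LD3_c61))))))
def v6457 : LQ := Led Lsl_at (LP (LK LD1_c3 LD2_c21 LD3_c61))
theorem f653478 : Led Lsl_at (LP (LK LD1_c3 LD2_c21 LD3_c61)) = v6457 :=
  Lrfl
theorem f653479 : Led Lsl_af (LP (LK LD1_c3 LD2_c21 LD3_c61)) = v6457 :=
  Lgr Lrot0 (Lpr_at (f653478 IH) (Lpn v6457))
theorem f758726 : Led Lsl_df v6457 = v17331 :=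
  Lgr Lrot18 (Lpe (f653479 IH) (Lpe (f446092 IH) (Lpr_at (f758723 IH) (Lpn v17331))))
theorem f758732 : Led Lsl_dt v6457 = v17331 :=
  Lgr Lrot42 (Lpr_df (f758726 IH) (Lpn v17331))
theorem f23744 : Led Lsl_dt (LP (LK LD1_c1 LD2_c33 LD3_c35)) = (LP (LK LD1_c3 LD2_c14 LD3_c2)) :=
  Lre_d IH (LK LD1_c1 LD2_c33 LD3_c35) (LK LD1_c3 LD2_c14 LD3_c2) Lrfl Lrfl
theorem f23743 : Led Lsl_et (LP (LK LD1_c1 LD2_c33 LD3_c35)) = (LP (LK LD1_c0 LD2_c43 LD3_c23)) :=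
  Lre_e IH (LK LD1_c1 LD2_c33 LD3_c35) (LK LD1_c0 LD2_c43 LD3_c23) Lrfl Lrfl
def v5807 : LQ := Led Lsl_et (LP (LK LD1_c3 LD2_c13 LD3_c38))
theorem f649526 : Led Lsl_et (LP (LK LD1_c3 LD2_c13 LD3_c38)) = v5807 :=
  Lrfl
theorem f649527 : Led Lsl_ef (LP (LK LD1_c3 LD2_c13 LD3_c38)) = v5807 :=
  Lgr Lrot88 (Lpr_et (f649526 IH) (Lpn v5807))
theorem f649800 : Led Lsl_dt v5807 = v5847 :=
  Lgr Lrot136 (Lpe (f649527 IH) (Lpe (f23628 IH) (Lpe (K3.f23646 IH) (Lpr_dt (K3.f23650 IH) (Lpe (K0.f20870 IH) (Lpe (K0.f23675 IH) (Lpe (K2.f22503 IH) (Lpe (f23743 IH) (Lpr_dt (f23744 IH) (Lpr_gf (f649798 IH) (Lpn v5847)))))))))))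
theorem f446094 : Led Lsl_et (LP (LK LD1_c1 LD2_c37 LD3_c16)) = (LP (LK LD1_c3 LD2_c21 LD3_c61)) :=
  Lre_e IH (LK LD1_c1 LD2_c37 LD3_c16) (LK LD1_c3 LD2_c21 LD3_c61) Lrfl Lrfl
theorem f653480 : Led Lsl_ef v2205 = v6457 :=
  Lgr Lrot20 (Lpe (f509665 IH) (Lpr_et (f446094 IH) (Lpr_at (f653478 IH) (Lpn v6457))))
theorem f653481 : Led Lsl_et v2205 = v6457 :=
  Lgr Lrot87 (Lpr_ef (f653480 IH) (Lpn v6457))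
theorem f760485 : v6457 = v5807 :=
  Lefun (Lecon (f653481 IH) (f760465 IH)) (f649526 IH)
theorem f760493 : v17331 = v5847 :=
  Lefun (Lecon (f758732 IH) (f760485 IH)) (f649800 IH)
theorem f760495 : v17171 = (LP (LK LD1_c7 LD2_c27 LD3_c7)) :=
  Lefun (Lecon (Lfl_gt (f758728 IH)) (f760493 IH)) (Lfl_gt (f649799 IH))
theorem f760497 : Led Lsl_gt (LP (LK LD1_c6 LD2_c12 LD3_c53)) = (LP (LK LD1_c7 LD2_c27 LD3_c7)) :=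
  Leop (Lpq (f760495 IH) (Lpe (f756496 IH) (Lpn (LP (LK LD1_c6 LD2_c12 LD3_c53)))))
theorem seed_1168 : LEOK LG_g (LK LD1_c6 LD2_c12 LD3_c53) :=
  Leoe_g (LK LD1_c6 LD2_c12 LD3_c53) (f760497 IH)
def v2203 : LQ := Led Lsl_gt (LP (LK LD1_c1 LD2_c37 LD3_c16))
theorem f509658 : Led Lsl_gt (LP (LK LD1_c1 LD2_c37 LD3_c16)) = v2203 :=
  Lrfl
def v8789 : LQ := Led Lsl_bt v2203
theorem f672302 : Led Lsl_bt v2203 = v8789 :=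
  Lrfl
theorem f672303 : Led Lsl_bf v2203 = v8789 :=
  Lgr Lrot24 (Lpr_bt (f672302 IH) (Lpn v8789))
theorem f23625 : Led Lsl_ft (LP (LK LD1_c6 LD2_c30 LD3_c28)) = (LP (LK LD1_c3 LD2_c13 LD3_c19)) :=
  Lre_f IH (LK LD1_c6 LD2_c30 LD3_c28) (LK LD1_c3 LD2_c13 LD3_c19) Lrfl Lrfl
theorem f23626 : Led Lsl_bt (LP (LK LD1_c3 LD2_c13 LD3_c40)) = (LP (LK LD1_c6 LD2_c30 LD3_c28)) :=
  Lgr Lrot35 (Lpe (K48.f23624 IH) (Lpr_bf (f23612 IH) (Lpe (f23625 IH) (Lpn (LP (LK LD1_c6 LD2_c30 LD3_c28))))))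
theorem f23633 : Led Lsl_bf (LP (LK LD1_c3 LD2_c13 LD3_c40)) = (LP (LK LD1_c6 LD2_c30 LD3_c28)) :=
  Lgr Lrot24 (Lpr_bt (f23626 IH) (Lpn (LP (LK LD1_c6 LD2_c30 LD3_c28))))
def v2260 : LQ := Led Lsl_et (LP (LK LD1_c1 LD2_c39 LD3_c22))
theorem f511306 : Led Lsl_et (LP (LK LD1_c1 LD2_c39 LD3_c22)) = v2260 :=
  Lrfl
theorem f511309 : Led Lsl_ef (LP (LK LD1_c1 LD2_c39 LD3_c22)) = v2260 :=
  Lgr Lrot88 (Lpr_et (f511306 IH) (Lpn v2260))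
theorem f26135 : Led Lsl_et (LP (LK LD1_c2 LD2_c19 LD3_c37)) = (LP (LK LD1_c4 LD2_c43 LD3_c43)) :=
  Lre_e IH (LK LD1_c2 LD2_c19 LD3_c37) (LK LD1_c4 LD2_c43 LD3_c43) Lrfl Lrfl
theorem f511311 : Led Lsl_bt (LP (LK LD1_c4 LD2_c43 LD3_c43)) = v2260 :=
  Lgr Lrot119 (Lpe (f26135 IH) (Lpr_bf (K3.f26112 IH) (Lpr_ef (f511309 IH) (Lpn v2260))))
theorem f91422 : Led Lsl_ct (LP (LK LD1_c4 LD2_c43 LD3_c43)) = (LP (LK LD1_c3 LD2_c7 LD3_c41)) :=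
  Lgr Lrot59 (Lpr_cf (K5.f91417 IH) (Lpn (LP (LK LD1_c3 LD2_c7 LD3_c41))))
def v5418 : LQ := Led Lsl_gf (LP (LK LD1_c3 LD2_c7 LD3_c41))
theorem f647539 : Led Lsl_gf (LP (LK LD1_c3 LD2_c7 LD3_c41)) = v5418 :=
  Lrfl
def v8876 : LQ := Led Lsl_gt v2260
theorem f672589 : Led Lsl_gt v2260 = v8876 :=
  Lrfl
def v13715 : LQ := Led Lsl_gt (LP (LK LD1_c4 LD2_c47 LD3_c24))
theorem f704477 : Led Lsl_gt (LP (LK LD1_c4 LD2_c47 LD3_c24)) = v13715 :=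
  Lrfl
def v8878 : LQ := Led Lsl_ft v2260
theorem f672592 : Led Lsl_ft v2260 = v8878 :=
  Lrfl
theorem f108890 : Led Lsl_et (LP (LK LD1_c1 LD2_c48 LD3_c34)) = (LP (LK LD1_c3 LD2_c43 LD3_c1)) :=
  Lre_e IH (LK LD1_c1 LD2_c48 LD3_c34) (LK LD1_c3 LD2_c43 LD3_c1) Lrfl Lrfl
theorem f511310 : Led Lsl_at (LP (LK LD1_c3 LD2_c43 LD3_c1)) = v2260 :=
  Lgr Lrot80 (Lpe (f108890 IH) (Lpe (K5.f124725 IH) (Lpr_ef (f511309 IH) (Lpn v2260))))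
def v7239 : LQ := Led Lsl_ft (LP (LK LD1_c3 LD2_c43 LD3_c1))
theorem f662612 : Led Lsl_ft (LP (LK LD1_c3 LD2_c43 LD3_c1)) = v7239 :=
  Lrfl
theorem f662615 : Led Lsl_ff (LP (LK LD1_c3 LD2_c43 LD3_c1)) = v7239 :=
  Lgr Lrot3 (Lpr_ft (f662612 IH) (Lpn v7239))
theorem f672593 : Led Lsl_af v7239 = v8878 :=
  Lgr Lrot45 (Lpe (f662615 IH) (Lpr_at (f511310 IH) (Lpr_ft (f672592 IH) (Lpn v8878))))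
theorem f672595 : Led Lsl_gt v8876 = v7239 :=
  Lgr Lrot46 (Lpe (f672589 IH) (Lpr_ft (f672592 IH) (Lpe (f672593 IH) (Lpn v7239))))
theorem f715533 : Led Lsl_at K52.v13898 = K51.v6274 :=
  Lgr Lrot66 (Lpr_ff (K52.f715532 IH) (Lpe (K51.f633484 IH) (Lpr_ff (K51.f652526 IH) (Lpn K51.v6274))))
theorem f760262 : Led Lsl_gt K51.v4453 = (LP (LK LD1_c9 LD2_c20 LD3_c51)) :=
  Lgr Lrot5 (Lpe (K52.f715532 IH) (Lpr_at (f715533 IH) (Lpr_gf (f760261 IH) (Lpn (LP (LK LD1_c9 LD2_c20 LD3_c51))))))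
def v10545 : LQ := Led Lsl_ct K56.v3376
theorem f680816 : Led Lsl_ct K56.v3376 = v10545 :=
  Lrfl
theorem f23637 : Led Lsl_dt (LP (LK LD1_c6 LD2_c30 LD3_c61)) = (LP (LK LD1_c3 LD2_c13 LD3_c40)) :=
  Lre_d IH (LK LD1_c6 LD2_c30 LD3_c61) (LK LD1_c3 LD2_c13 LD3_c40) Lrfl Lrfl
theorem f107018 : Led Lsl_dt (LP (LK LD1_c3 LD2_c43 LD3_c7)) = (LP (LK LD1_c7 LD2_c26 LD3_c56)) :=
  Lre_d IH (LK LD1_c3 LD2_c43 LD3_c7) (LK LD1_c7 LD2_c26 LD3_c56) Lrfl Lrfl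
theorem f107019 : Led Lsl_at (LP (LK LD1_c3 LD2_c13 LD3_c40)) = (LP (LK LD1_c3 LD2_c43 LD3_c7)) :=
  Lgr Lrot51 (Lpe (f23637 IH) (Lpr_af (K3.f107004 IH) (Lpe (f107018 IH) (Lpn (LP (LK LD1_c3 LD2_c43 LD3_c7))))))
theorem f441727 : Led Lsl_gt (LP (LK LD1_c3 LD2_c13 LD3_c38)) = (LP (LK LD1_c3 LD2_c43 LD3_c7)) :=
  Lgr Lrot46 (Lpe (f23628 IH) (Lpr_ft (K48.f23624 IH) (Lpr_at (f107019 IH) (Lpn (LP (LK LD1_c3 LD2_c43 LD3_c7))))))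
def v7242 : LQ := Led Lsl_ft (LP (LK LD1_c3 LD2_c43 LD3_c5))
theorem f662622 : Led Lsl_ft (LP (LK LD1_c3 LD2_c43 LD3_c5)) = v7242 :=
  Lrfl
theorem f662626 : Led Lsl_ff (LP (LK LD1_c3 LD2_c43 LD3_c5)) = v7242 :=
  Lgr Lrot3 (Lpr_ft (f662622 IH) (Lpn v7242))
theorem f107052 : Led Lsl_ft (LP (LK LD1_c1 LD2_c48 LD3_c37)) = (LP (LK LD1_c3 LD2_c43 LD3_c7)) :=
  Lre_f IH (LK LD1_c1 LD2_c48 LD3_c37) (LK LD1_c3 LD2_c43 LD3_c7) Lrfl Lrfl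
theorem f662629 : Led Lsl_ct (LP (LK LD1_c3 LD2_c43 LD3_c7)) = v7242 :=
  Lgr Lrot40 (Lpe (f107052 IH) (Lpe (K3.f107035 IH) (Lpr_ff (f662626 IH) (Lpn v7242))))
theorem f23643 : Led Lsl_ct (LP (LK LD1_c3 LD2_c13 LD3_c37)) = (LP (LK LD1_c1 LD2_c33 LD3_c22)) :=
  Lre_c IH (LK LD1_c3 LD2_c13 LD3_c37) (LK LD1_c1 LD2_c33 LD3_c22) Lrfl Lrfl
theorem f107047 : Led Lsl_af (LP (LK LD1_c3 LD2_c13 LD3_c37)) = (LP (LK LD1_c3 LD2_c43 LD3_c5)) :=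
  Lgr Lrot68 (Lpr_ct (f23643 IH) (Lpr_at (K3.f107043 IH) (Lpr_ct (K3.f107022 IH) (Lpn (LP (LK LD1_c3 LD2_c43 LD3_c5))))))
def v5804 : LQ := Led Lsl_gf (LP (LK LD1_c3 LD2_c13 LD3_c37))
theorem f649515 : Led Lsl_gf (LP (LK LD1_c3 LD2_c13 LD3_c37)) = v5804 :=
  Lrfl
theorem f662631 : Led Lsl_gf v5804 = v7242 :=
  Lgr Lrot47 (Lpe (f649515 IH) (Lpr_af (f107047 IH) (Lpr_ff (f662626 IH) (Lpn v7242))))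
theorem f760542 : v10545 = v5804 :=
  (Llr Lrot63 (Lpe (f680816 IH) (Lpr_bt (K56.f680814 IH) (Lpqs (K56.f754166 IH) (Lpe (K56.f703381 IH) (Lpr_bf (K2.f23522 IH) (Lpr_ct (K51.f633485 IH) (Lpr_gt (f760262 IH) (Lpe (f632866 IH) (Lpr_bt (f702966 IH) (Lpq (f760240 IH) (Lpqs (f760465 IH) (Lpr_gt (f441727 IH) (Lpr_ct (f662629 IH) (Lpe (f662631 IH) (Lpn v5804)))))))))))))))).symm
theorem f633434 : Led Lsl_bt (LP (LK LD1_c2 LD2_c21 LD3_c35)) = (LP (LK LD1_c4 LD2_c47 LD3_c24)) :=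
  Lre_b IH (LK LD1_c2 LD2_c21 LD3_c35) (LK LD1_c4 LD2_c47 LD3_c24) Lrfl Lrfl
theorem f128992 : Led Lsl_bt (LP (LK LD1_c3 LD2_c43 LD3_c1)) = (LP (LK LD1_c1 LD2_c48 LD3_c37)) :=
  Lre_b IH (LK LD1_c3 LD2_c43 LD3_c1) (LK LD1_c1 LD2_c48 LD3_c37) Lrfl Lrfl
theorem f662616 : Led Lsl_bt (LP (LK LD1_c3 LD2_c43 LD3_c7)) = v7239 :=
  Lgr Lrot35 (Lpe (f107052 IH) (Lpe (f128992 IH) (Lpr_ff (f662615 IH) (Lpn v7239))))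
theorem f760543 : v13715 = v7239 :=
  (Llr Lrot164 (Lpe (f704477 IH) (Lpe (f633434 IH) (Lpr_ct (K51.f501175 IH) (Lpr_gf (K51.f704500 IH) (Lpqs (K51.f707740 IH) (Lpe (K51.f703378 IH) (Lpr_gf (K56.f703381 IH) (Lpq (K56.f754166 IH) (Lpe (K56.f680814 IH) (Lpr_ct (f680816 IH) (Lpqs (f760542 IH) (Lpr_gf (f662631 IH) (Lpe (f662629 IH) (Lpr_bt (f662616 IH) (Lpn v7239)))))))))))))))).symm
theorem f760544 : (LP (LK LD1_c4 LD2_c47 LD3_c24)) = v8876 :=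
  Lefun (Lecon (Lfl_gt (f704477 IH)) (f760543 IH)) (Lfl_gt (f672595 IH))
theorem f645979 : Led Lsl_ct K51.v1728 = K52.v5110 :=
  Lgr Lrot40 (Lpr_ff (K51.f645675 IH) (Lpe (K52.f77369 IH) (Lpr_ff (f645978 IH) (Lpn K52.v5110))))
theorem f760548 : v5418 = K52.v5110 :=
  (Llr Lrot129 (Lpe (f647539 IH) (Lpe (f91422 IH) (Lpr_bt (f511311 IH) (Lpr_gt (f672589 IH) (Lpq (f760544 IH) (Lpe (f633434 IH) (Lpr_ct (K51.f501175 IH) (Lpr_gt (K51.f704493 IH) (Lpq (K51.f707749 IH) (Lpe (K51.f703728 IH) (Lpe (K51.f702332 IH) (Lpe (K51.f632606 IH) (Lpqs (K51.f707752 IH) (Lpr_ct (f645979 IH) (Lpn K52.v5110)))))))))))))))).symm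
def v5417 : LQ := Led Lsl_gt (LP (LK LD1_c3 LD2_c7 LD3_c41))
theorem f647538 : Led Lsl_gt (LP (LK LD1_c3 LD2_c7 LD3_c41)) = v5417 :=
  Lrfl
theorem f760549 : v8128 = v5417 :=
  (Llr Lrot26 (Lpr_af (f715908 IH) (Lpr_ff (f645978 IH) (Lpq (f760548 IH) (Lpe (f647539 IH) (Lpr_gt (f647538 IH) (Lpn v5417))))))).symm
def v8416 : LQ := Led Lsl_bt K51.v2030
theorem f671169 : Led Lsl_bt K51.v2030 = v8416 :=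
  Lrfl
theorem f760161 : v4519 = v8416 :=
  Lefun (Lecon (f634354 IH) (f760157 IH).symm) (f671169 IH)
theorem f634350 : Led Lsl_gt v2203 = v4519 :=
  Lgr Lrot46 (Lpe (f509658 IH) (Lpr_ft (f509666 IH) (Lpqs (f633562 IH) (Lpr_at (f634346 IH) (Lpn v4519)))))
theorem f702377 : Led Lsl_ff (LP (LK LD1_c4 LD2_c43 LD3_c13)) = v13331 :=
  Lgr Lrot3 (Lpr_ft (f702372 IH) (Lpn v13331))
theorem f702379 : Led Lsl_at v5419 = v13331 :=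
  Lgr Lrot66 (Lpe (f647540 IH) (Lpr_af (K5.f128975 IH) (Lpr_ff (f702377 IH) (Lpn v13331))))
theorem f702384 : Led Lsl_gt v5417 = v13331 :=
  Lgr Lrot46 (Lpe (f647538 IH) (Lpr_ft (f647540 IH) (Lpr_at (f702379 IH) (Lpn v13331))))
theorem f23642 : Led Lsl_ft (LP (LK LD1_c3 LD2_c13 LD3_c19)) = (LP (LK LD1_c6 LD2_c30 LD3_c28)) :=
  Lre_f IH (LK LD1_c3 LD2_c13 LD3_c19) (LK LD1_c6 LD2_c30 LD3_c28) Lrfl Lrfl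
theorem f702381 : Led Lsl_ct (LP (LK LD1_c6 LD2_c30 LD3_c28)) = v13331 :=
  Lgr Lrot40 (Lpe (f23642 IH) (Lpe (K5.f124080 IH) (Lpr_ff (f702377 IH) (Lpn v13331))))
theorem f760551 : v8789 = (LP (LK LD1_c6 LD2_c30 LD3_c28)) :=
  (Llr Lrot156 (Lpe (f672303 IH) (Lpr_gt (f634350 IH) (Lpqs (f760161 IH) (Lpe (f671169 IH) (Lpqs (f760157 IH) (Lpr_ct (f679011 IH) (Lpqs (f715911 IH) (Lpe (f652522 IH) (Lpe (K52.f61917 IH) (Lpr_bt (K51.f61915 IH) (Lpr_gt (K51.f504570 IH) (Lpr_ct (f670118 IH) (Lpqs (f760549 IH) (Lpr_gt (f702384 IH) (Lpe (f702381 IH) (Lpn (LP (LK LD1_c6 LD2_c30 LD3_c28))))))))))))))))))).symm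
theorem f760553 : v2203 = (LP (LK LD1_c3 LD2_c13 LD3_c40)) :=
  Lefun (Lecon (Lfl_bf (f672303 IH)) (f760551 IH)) (Lfl_bf (f23633 IH))
theorem f760557 : Led Lsl_gt (LP (LK LD1_c1 LD2_c37 LD3_c16)) = (LP (LK LD1_c3 LD2_c13 LD3_c40)) :=
  Leop (Lpq (f760553 IH) (Lpe (f509658 IH) (Lpn (LP (LK LD1_c1 LD2_c37 LD3_c16)))))
theorem seed_1169 : LEOK LG_g (LK LD1_c1 LD2_c37 LD3_c16) :=
  Leoe_g (LK LD1_c1 LD2_c37 LD3_c16) (f760557 IH)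
theorem f209364 : Led Lsl_dt (LP (LK LD1_c3 LD2_c14 LD3_c3)) = (LP (LK LD1_c6 LD2_c31 LD3_c44)) :=
  Lre_d IH (LK LD1_c3 LD2_c14 LD3_c3) (LK LD1_c6 LD2_c31 LD3_c44) Lrfl Lrfl
def v2561 : LQ := Led Lsl_gf (LP (LK LD1_c1 LD2_c48 LD3_c40))
theorem f527490 : Led Lsl_gf (LP (LK LD1_c1 LD2_c48 LD3_c40)) = v2561 :=
  Lrfl
theorem f209367 : Led Lsl_ft (LP (LK LD1_c3 LD2_c14 LD3_c3)) = (LP (LK LD1_c1 LD2_c33 LD3_c35)) :=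
  Lre_f IH (LK LD1_c3 LD2_c14 LD3_c3) (LK LD1_c1 LD2_c33 LD3_c35) Lrfl Lrfl
theorem f527491 : Led Lsl_gt (LP (LK LD1_c3 LD2_c14 LD3_c3)) = v2561 :=
  Lgr Lrot5 (Lpr_ft (f209367 IH) (Lpr_at (K46.f209480 IH) (Lpr_gf (f527490 IH) (Lpn v2561))))
theorem f662995 : (LP (LK LD1_c3 LD2_c6 LD3_c6)) = v2561 :=
  Lefun (Lecon (Lfl_gf (K49.f647100 IH)) (K49.f662981 IH)) (f527491 IH)
def v6650 : LQ := Led Lsl_dt (LP (LK LD1_c3 LD2_c25 LD3_c0))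
theorem f657466 : Led Lsl_dt (LP (LK LD1_c3 LD2_c25 LD3_c0)) = v6650 :=
  Lrfl
theorem f657469 : Led Lsl_df (LP (LK LD1_c3 LD2_c25 LD3_c0)) = v6650 :=
  Lgr Lrot38 (Lpr_dt (f657466 IH) (Lpn v6650))
theorem f109364 : Led Lsl_et (LP (LK LD1_c1 LD2_c38 LD3_c59)) = (LP (LK LD1_c0 LD2_c45 LD3_c53)) :=
  Lre_e IH (LK LD1_c1 LD2_c38 LD3_c59) (LK LD1_c0 LD2_c45 LD3_c53) Lrfl Lrfl
theorem f657470 : Led Lsl_ef (LP (LK LD1_c3 LD2_c25 LD3_c1)) = v6650 :=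
  Lgr Lrot73 (Lpr_dt (K6.f17710 IH) (Lpr_et (f109364 IH) (Lpr_dt (K4.f17735 IH) (Lpr_et (K48.f109363 IH) (Lpr_dt (f657466 IH) (Lpn v6650))))))
theorem f86791 : Led Lsl_et (LP (LK LD1_c6 LD2_c9 LD3_c25)) = (LP (LK LD1_c11 LD2_c59 LD3_c51)) :=
  Lre_e IH (LK LD1_c6 LD2_c9 LD3_c25) (LK LD1_c11 LD2_c59 LD3_c51) Lrfl Lrfl
theorem f657473 : Led Lsl_ct (LP (LK LD1_c11 LD2_c59 LD3_c51)) = v6650 :=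
  Lgr Lrot15 (Lpe (f86791 IH) (Lpe (K5.f86782 IH) (Lpr_ef (f657470 IH) (Lpn v6650))))
def v7251 : LQ := Led Lsl_gf (LP (LK LD1_c3 LD2_c43 LD3_c14))
theorem f662661 : Led Lsl_gf (LP (LK LD1_c3 LD2_c43 LD3_c14)) = v7251 :=
  Lrfl
theorem f662662 : Led Lsl_gt (LP (LK LD1_c6 LD2_c31 LD3_c44)) = v7251 :=
  Lgr Lrot5 (Lpr_ft (K46.f209432 IH) (Lpr_at (K46.f209434 IH) (Lpr_gf (f662661 IH) (Lpn v7251))))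
def v2558 : LQ := Led Lsl_gt (LP (LK LD1_c1 LD2_c48 LD3_c37))
def v9248 : LQ := Led Lsl_et v2558
theorem f674887 : Led Lsl_et v2558 = v9248 :=
  Lrfl
def v9247 : LQ := Led Lsl_dt v2558
theorem f674884 : Led Lsl_dt v2558 = v9247 :=
  Lrfl
theorem f527478 : Led Lsl_gt (LP (LK LD1_c1 LD2_c48 LD3_c37)) = v2558 :=
  Lrfl
theorem f649687 : Led Lsl_ef (LP (LK LD1_c3 LD2_c13 LD3_c51)) = K49.v5827 :=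
  Lgr Lrot88 (Lpr_et (K49.f649685 IH) (Lpn K49.v5827))
theorem f674886 : Led Lsl_gf (LP (LK LD1_c6 LD2_c42 LD3_c33)) = v9247 :=
  Lgr Lrot134 (Lpr_df (K49.f649686 IH) (Lpe (f649687 IH) (Lpr_gt (K46.f148400 IH) (Lpe (K48.f148371 IH) (Lpr_dt (K7.f148288 IH) (Lpe (K7.f148366 IH) (Lpe (K4.f5810 IH) (Lpr_et (K49.f436778 IH) (Lpr_gt (f527478 IH) (Lpr_dt (f674884 IH) (Lpn v9247)))))))))))
theorem f649881 : Led Lsl_dt K46.v2015 = K46.v5865 :=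
  Lgr Lrot42 (Lpr_df (K46.f649880 IH) (Lpn K46.v5865))
theorem f663644 : K46.v5865 = (LP (LK LD1_c6 LD2_c31 LD3_c16)) :=
  Lefun (Lecon (f649881 IH) (K48.f663635 IH)) (K48.f148376 IH)
def v2126 : LQ := Led Lsl_et (LP (LK LD1_c1 LD2_c36 LD3_c3))
def v8617 : LQ := Led Lsl_ft v2126
theorem f671791 : Led Lsl_ft v2126 = v8617 :=
  Lrfl
theorem f671794 : Led Lsl_ff v2126 = v8617 :=
  Lgr Lrot3 (Lpr_ft (f671791 IH) (Lpn v8617))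
theorem f509134 : Led Lsl_et (LP (LK LD1_c1 LD2_c36 LD3_c3)) = v2126 :=
  Lrfl
theorem f509135 : Led Lsl_ef (LP (LK LD1_c1 LD2_c36 LD3_c3)) = v2126 :=
  Lgr Lrot88 (Lpr_et (f509134 IH) (Lpn v2126))
theorem f652200 : Led Lsl_ef K46.v2124 = K48.v6226 :=
  Lgr Lrot20 (Lpe (K46.f509118 IH) (Lpr_et (K48.f148407 IH) (Lpr_at (K48.f652197 IH) (Lpn K48.v6226))))
theorem f649883 : Led Lsl_ff (LP (LK LD1_c3 LD2_c14 LD3_c22)) = K46.v5865 :=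
  Lgr Lrot3 (Lpr_ft (K46.f649882 IH) (Lpn K46.v5865))
theorem f663656 : (LP (LK LD1_c3 LD2_c14 LD3_c22)) = K48.v6226 :=
  Lefun (Lecon (Lfl_ff (f649883 IH)) (f663644 IH)) (K48.f652203 IH)
theorem f663675 : K46.v2124 = (LP (LK LD1_c3 LD2_c18 LD3_c59)) :=
  Lefun (Lecon (Lfl_ef (f652200 IH)) (f663656 IH).symm) (Lfl_ef (K48.f438897 IH))
theorem f671796 : Led Lsl_et K46.v5865 = v8617 :=
  Lgr Lrot69 (Lpe (K46.f649882 IH) (Lpe (K48.f438906 IH) (Lpq (f663675 IH) (Lpe (K46.f509119 IH) (Lpr_ef (f509135 IH) (Lpr_ff (f671794 IH) (Lpn v8617)))))))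
theorem f674889 : Led Lsl_gt v8617 = v9248 :=
  Lgr Lrot131 (Lpe (f671796 IH) (Lpqs (f663644 IH) (Lpr_dt (K49.f148382 IH) (Lpe (K32.f148372 IH) (Lpe (K48.f23722 IH) (Lpe (K46.f148400 IH) (Lpr_ef (f649687 IH) (Lpe (K49.f649686 IH) (Lpr_gf (f674886 IH) (Lpe (f674884 IH) (Lpr_et (f674887 IH) (Lpn v9248))))))))))))
theorem f674891 : Led Lsl_df v7251 = v9248 :=
  Lgr Lrot135 (Lpe (f662661 IH) (Lpe (K46.f208773 IH) (Lpr_et (K46.f116069 IH) (Lpr_gt (K7.f148289 IH) (Lpe (K48.f148399 IH) (Lpr_dt (K48.f23722 IH) (Lpr_gt (K32.f148372 IH) (Lpe (K49.f148382 IH) (Lpq (f663644 IH) (Lpr_et (f671796 IH) (Lpr_gt (f674889 IH) (Lpn v9248))))))))))))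
theorem f107053 : Led Lsl_af (LP (LK LD1_c3 LD2_c13 LD3_c40)) = (LP (LK LD1_c3 LD2_c43 LD3_c7)) :=
  Lgr Lrot45 (Lpr_ft (K3.f23641 IH) (Lpr_at (K3.f107043 IH) (Lpr_ft (f107052 IH) (Lpn (LP (LK LD1_c3 LD2_c43 LD3_c7))))))
theorem f527479 : Led Lsl_gf (LP (LK LD1_c3 LD2_c13 LD3_c40)) = v2558 :=
  Lgr Lrot76 (Lpr_af (f107053 IH) (Lpe (f107052 IH) (Lpr_gt (f527478 IH) (Lpn v2558))))
theorem f760556 : (LP (LK LD1_c1 LD2_c37 LD3_c16)) = v2558 :=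
  Lefun (Lecon (Lfl_gt (f509658 IH)) (f760553 IH)) (f527479 IH)
theorem f760573 : v9248 = (LP (LK LD1_c3 LD2_c21 LD3_c61)) :=
  Lefun (Lecon (f674887 IH) (f760556 IH).symm) (f446094 IH)
theorem f760589 : v7251 = (LP (LK LD1_c6 LD2_c17 LD3_c54)) :=
  Lefun (Lecon (Lfl_df (f674891 IH)) (f760573 IH)) (Lfl_df (f446092 IH))
theorem f25540 : Led Lsl_ct (LP (LK LD1_c6 LD2_c17 LD3_c54)) = (LP (LK LD1_c12 LD2_c12 LD3_c4)) :=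
  Lre_c IH (LK LD1_c6 LD2_c17 LD3_c54) (LK LD1_c12 LD2_c12 LD3_c4) Lrfl Lrfl
theorem f760596 : Led Lsl_gf (LP (LK LD1_c11 LD2_c59 LD3_c51)) = (LP (LK LD1_c12 LD2_c12 LD3_c4)) :=
  Lgr Lrot172 (Lpr_ct (f657473 IH) (Lpe (f657469 IH) (Lpr_cf (K48.f208867 IH) (Lpr_gf (K48.f649392 IH) (Lpe (K48.f57647 IH) (Lpqs (f662995 IH) (Lpe (f527491 IH) (Lpr_dt (f209364 IH) (Lpr_gt (f662662 IH) (Lpqs (f760589 IH) (Lpr_ct (f25540 IH) (Lpn (LP (LK LD1_c12 LD2_c12 LD3_c4))))))))))))))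
theorem f760597 : Led Lsl_gt (LP (LK LD1_c12 LD2_c12 LD3_c4)) = (LP (LK LD1_c11 LD2_c59 LD3_c51)) :=
  Leop (Lpr_gf (f760596 IH) (Lpn (LP (LK LD1_c12 LD2_c12 LD3_c4))))
theorem seed_1170 : LEOK LG_g (LK LD1_c12 LD2_c12 LD3_c4) :=
  Leoe_g (LK LD1_c12 LD2_c12 LD3_c4) (f760597 IH)
def v9188 : LQ := Led Lsl_ct K56.v2508
theorem f673952 : Led Lsl_ct K56.v2508 = v9188 :=
  Lrfl
def v13320 : LQ := Led Lsl_gt (LP (LK LD1_c4 LD2_c43 LD3_c7))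
theorem f702327 : Led Lsl_gt (LP (LK LD1_c4 LD2_c43 LD3_c7)) = v13320 :=
  Lrfl
theorem f707738 : K56.v13692 = v13320 :=
  (Llr Lrot125 (Lpe (K56.f704373 IH) (Lpr_gt (K56.f703333 IH) (Lpe (K56.f703321 IH) (Lpe (K56.f633056 IH) (Lpr_gt (K46.f434170 IH) (Lpr_bf (K51.f509072 IH) (Lpr_ct (K51.f671727 IH) (Lpq (K51.f707736 IH) (Lpe (K51.f702346 IH) (Lpe (K52.f126978 IH) (Lpr_bt (K5.f126982 IH) (Lpr_gt (f702327 IH) (Lpn v13320)))))))))))))).symm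
theorem f702331 : Led Lsl_af (LP (LK LD1_c9 LD2_c21 LD3_c57)) = K51.v13322 :=
  Lgr Lrot45 (Lpr_ft (K52.f23536 IH) (Lpr_at (K52.f136076 IH) (Lpr_ft (K51.f702330 IH) (Lpn K51.v13322))))
theorem f702335 : Led Lsl_gt v13320 = (LP (LK LD1_c9 LD2_c21 LD3_c57)) :=
  Lgr Lrot46 (Lpe (f702327 IH) (Lpr_ft (K51.f702330 IH) (Lpe (f702331 IH) (Lpn (LP (LK LD1_c9 LD2_c21 LD3_c57))))))
def v2204 : LQ := Led Lsl_gf (LP (LK LD1_c1 LD2_c37 LD3_c16))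
theorem f509661 : Led Lsl_gf (LP (LK LD1_c1 LD2_c37 LD3_c16)) = v2204 :=
  Lrfl
theorem f634352 : Led Lsl_gf v2204 = v4519 :=
  Lgr Lrot47 (Lpe (f509661 IH) (Lpr_af (f509665 IH) (Lpr_ff (f634349 IH) (Lpn v4519))))
def v8795 : LQ := Led Lsl_ct v2204
theorem f672316 : Led Lsl_ct v2204 = v8795 :=
  Lrfl
theorem f754246 : Led Lsl_gf v9188 = v8795 :=
  Lgr Lrot129 (Lpe (f673952 IH) (Lpr_bt (K56.f673950 IH) (Lpqs (K56.f754192 IH) (Lpqs (f707738 IH) (Lpr_gt (f702335 IH) (Lpr_bf (K52.f702935 IH) (Lpe (K52.f715537 IH) (Lpr_gt (f715538 IH) (Lpq (f715911 IH) (Lpe (f679011 IH) (Lpr_bt (f634354 IH) (Lpe (f634352 IH) (Lpr_ct (f672316 IH) (Lpn v8795))))))))))))))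
def v7240 : LQ := Led Lsl_gt (LP (LK LD1_c3 LD2_c43 LD3_c5))
theorem f662618 : Led Lsl_gt (LP (LK LD1_c3 LD2_c43 LD3_c5)) = v7240 :=
  Lrfl
theorem f760555 : v4519 = K49.v2559 :=
  Lefun (Lecon (f634350 IH) (f760553 IH)) (K49.f527481 IH)
theorem f760563 : v2204 = (LP (LK LD1_c1 LD2_c48 LD3_c37)) :=
  Lefun (Lecon (Lfl_gf (f634352 IH)) (f760555 IH)) (Lfl_gf (K49.f527480 IH))
theorem f760575 : v8795 = (LP (LK LD1_c3 LD2_c43 LD3_c5)) :=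
  Lefun (Lecon (f672316 IH) (f760563 IH)) (K3.f107022 IH)
theorem f760590 : v9188 = v7240 :=
  Lefun (Lecon (Lfl_gf (f754246 IH)) (f760575 IH)) (f662618 IH)
theorem f12480 : Led Lsl_dt (LP (LK LD1_c1 LD2_c46 LD3_c58)) = (LP (LK LD1_c3 LD2_c39 LD3_c58)) :=
  Lre_d IH (LK LD1_c1 LD2_c46 LD3_c58) (LK LD1_c3 LD2_c39 LD3_c58) Lrfl Lrfl
theorem f12468 : Led Lsl_gt (LP (LK LD1_c3 LD2_c39 LD3_c58)) = (LP (LK LD1_c7 LD2_c20 LD3_c3)) :=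
  Lre_g IH (LK LD1_c3 LD2_c39 LD3_c58) (LK LD1_c7 LD2_c20 LD3_c3) Lrfl Lrfl
theorem f12469 : Led Lsl_ct (LP (LK LD1_c7 LD2_c20 LD3_c3)) = (LP (LK LD1_c13 LD2_c52 LD3_c22)) :=
  Lre_c IH (LK LD1_c7 LD2_c20 LD3_c3) (LK LD1_c13 LD2_c52 LD3_c22) Lrfl Lrfl
theorem f121262 : Led Lsl_ff (LP (LK LD1_c1 LD2_c48 LD3_c32)) = (LP (LK LD1_c1 LD2_c33 LD3_c21)) :=
  Lgr Lrot23 (Lpr_ct (K4.f120805 IH) (Lpr_ft (K4.f121257 IH) (Lpr_ct (K4.f23616 IH) (Lpn (LP (LK LD1_c1 LD2_c33 LD3_c21))))))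
theorem f124105 : Led Lsl_af (LP (LK LD1_c1 LD2_c33 LD3_c26)) = (LP (LK LD1_c1 LD2_c48 LD3_c32)) :=
  Lgr Lrot31 (Lpr_gf (K4.f124103 IH) (Lpe (K4.f23617 IH) (Lpe (f121262 IH) (Lpn (LP (LK LD1_c1 LD2_c48 LD3_c32))))))
theorem f129308 : Led Lsl_at (LP (LK LD1_c1 LD2_c48 LD3_c36)) = (LP (LK LD1_c1 LD2_c33 LD3_c21)) :=
  Lgr Lrot66 (Lpr_ff (K5.f129306 IH) (Lpr_af (f124105 IH) (Lpr_ff (f121262 IH) (Lpn (LP (LK LD1_c1 LD2_c33 LD3_c21))))))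
theorem f124228 : Led Lsl_et (LP (LK LD1_c3 LD2_c43 LD3_c5)) = (LP (LK LD1_c1 LD2_c48 LD3_c36)) :=
  Lre_e IH (LK LD1_c3 LD2_c43 LD3_c5) (LK LD1_c1 LD2_c48 LD3_c36) Lrfl Lrfl
theorem f148058 : Led Lsl_et (LP (LK LD1_c1 LD2_c33 LD3_c21)) = (LP (LK LD1_c3 LD2_c13 LD3_c37)) :=
  Lre_e IH (LK LD1_c1 LD2_c33 LD3_c21) (LK LD1_c3 LD2_c13 LD3_c37) Lrfl Lrfl
theorem f439996 : Led Lsl_af (LP (LK LD1_c3 LD2_c43 LD3_c5)) = (LP (LK LD1_c3 LD2_c13 LD3_c37)) :=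
  Lgr Lrot50 (Lpr_et (f124228 IH) (Lpr_at (f129308 IH) (Lpr_et (f148058 IH) (Lpn (LP (LK LD1_c3 LD2_c13 LD3_c37))))))
theorem f440000 : Led Lsl_ft (LP (LK LD1_c6 LD2_c30 LD3_c56)) = (LP (LK LD1_c3 LD2_c13 LD3_c37)) :=
  Lre_f IH (LK LD1_c6 LD2_c30 LD3_c56) (LK LD1_c3 LD2_c13 LD3_c37) Lrfl Lrfl
theorem f662623 : Led Lsl_af (LP (LK LD1_c6 LD2_c30 LD3_c56)) = v7242 :=
  Lgr Lrot45 (Lpr_ft (f440000 IH) (Lpe (f439996 IH) (Lpr_ft (f662622 IH) (Lpn v7242))))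
theorem f662627 : Led Lsl_gt v7240 = (LP (LK LD1_c6 LD2_c30 LD3_c56)) :=
  Lgr Lrot46 (Lpe (f662618 IH) (Lpr_ft (f662622 IH) (Lpe (f662623 IH) (Lpn (LP (LK LD1_c6 LD2_c30 LD3_c56))))))
theorem f23635 : Led Lsl_ct (LP (LK LD1_c6 LD2_c30 LD3_c56)) = (LP (LK LD1_c3 LD2_c13 LD3_c40)) :=
  Lre_c IH (LK LD1_c6 LD2_c30 LD3_c56) (LK LD1_c3 LD2_c13 LD3_c40) Lrfl Lrfl
theorem f760598 : Led Lsl_gt (LP (LK LD1_c13 LD2_c52 LD3_c22)) = (LP (LK LD1_c12 LD2_c30 LD3_c38)) :=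
  Lgr Lrot150 (Lpe (f12469 IH) (Lpe (f12468 IH) (Lpe (f12480 IH) (Lpr_gt (K56.f523681 IH) (Lpr_ct (f673952 IH) (Lpqs (f760590 IH) (Lpr_gt (f662627 IH) (Lpr_ct (f23635 IH) (Lpe (f23637 IH) (Lpe (K3.f107012 IH) (Lpn (LP (LK LD1_c12 LD2_c30 LD3_c38)))))))))))))
theorem f760599 : Led Lsl_gt (LP (LK LD1_c13 LD2_c52 LD3_c22)) = (LP (LK LD1_c12 LD2_c30 LD3_c38)) :=
  Leop (Lpe (f760598 IH) (Lpn (LP (LK LD1_c13 LD2_c52 LD3_c22))))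
theorem seed_1171 : LEOK LG_g (LK LD1_c13 LD2_c52 LD3_c22) :=
  Leoe_g (LK LD1_c13 LD2_c52 LD3_c22) (f760599 IH)
def v6450 : LQ := Led Lsl_gt (LP (LK LD1_c3 LD2_c21 LD3_c59))
theorem f653462 : Led Lsl_gt (LP (LK LD1_c3 LD2_c21 LD3_c59)) = v6450 :=
  Lrfl
theorem f754162 : (LP (LK LD1_c6 LD2_c42 LD3_c7)) = v6450 :=
  Lefun (Lecon (K56.f674774 IH) (K56.f754161 IH)) (f653462 IH)
theorem f523689 : Led Lsl_ct (LP (LK LD1_c6 LD2_c42 LD3_c7)) = K56.v2510 :=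
  Lgr Lrot40 (Lpe (f66494 IH) (Lpe (K7.f66473 IH) (Lpr_ff (K56.f523688 IH) (Lpn K56.v2510))))
def v7151 : LQ := Led Lsl_ft (LP (LK LD1_c3 LD2_c39 LD3_c58))
theorem f661562 : Led Lsl_ft (LP (LK LD1_c3 LD2_c39 LD3_c58)) = v7151 :=
  Lrfl
theorem f661563 : Led Lsl_df K56.v2510 = v7151 :=
  Lgr Lrot78 (Lpe (K56.f523688 IH) (Lpr_dt (f12480 IH) (Lpr_ft (f661562 IH) (Lpn v7151))))
def v7243 : LQ := Led Lsl_gt (LP (LK LD1_c3 LD2_c43 LD3_c6))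
theorem f662633 : Led Lsl_gt (LP (LK LD1_c3 LD2_c43 LD3_c6)) = v7243 :=
  Lrfl
theorem f662912 : (LP (LK LD1_c3 LD2_c22 LD3_c4)) = v7243 :=
  Lefun (Lecon (Lfl_gf (K48.f653514 IH)) (K48.f662911 IH)) (f662633 IH)
theorem f454908 : Led Lsl_ct (LP (LK LD1_c3 LD2_c22 LD3_c4)) = (LP (LK LD1_c6 LD2_c47 LD3_c46)) :=
  Lre_c IH (LK LD1_c3 LD2_c22 LD3_c4) (LK LD1_c6 LD2_c47 LD3_c46) Lrfl Lrfl
theorem f504191 : Led Lsl_gt (LP (LK LD1_c6 LD2_c47 LD3_c46)) = (LP (LK LD1_c12 LD2_c58 LD3_c22)) :=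
  Lre_g IH (LK LD1_c6 LD2_c47 LD3_c46) (LK LD1_c12 LD2_c58 LD3_c22) Lrfl Lrfl
theorem f760620 : Led Lsl_cf v7151 = (LP (LK LD1_c12 LD2_c58 LD3_c22)) :=
  Lgr Lrot175 (Lpe (f661563 IH) (Lpe (f523689 IH) (Lpqs (f754162 IH) (Lpe (f653462 IH) (Lpe (K56.f415645 IH) (Lpqs (f760556 IH) (Lpe (f527478 IH) (Lpr_dt (K48.f107036 IH) (Lpr_gt (f662633 IH) (Lpq (f662912 IH) (Lpr_ct (f454908 IH) (Lpr_gt (f504191 IH) (Lpn (LP (LK LD1_c12 LD2_c58 LD3_c22)))))))))))))))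
theorem f661564 : Led Lsl_ff (LP (LK LD1_c3 LD2_c39 LD3_c58)) = v7151 :=
  Lgr Lrot3 (Lpr_ft (f661562 IH) (Lpn v7151))
theorem f760623 : Led Lsl_ft (LP (LK LD1_c7 LD2_c20 LD3_c5)) = (LP (LK LD1_c12 LD2_c58 LD3_c22)) :=
  Lgr Lrot4 (Lpe (K6.f12458 IH) (Lpr_ff (f661564 IH) (Lpr_cf (f760620 IH) (Lpn (LP (LK LD1_c12 LD2_c58 LD3_c22))))))
theorem f760624 : Led Lsl_ft (LP (LK LD1_c7 LD2_c20 LD3_c5)) = (LP (LK LD1_c12 LD2_c58 LD3_c22)) :=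
  Leop (Lpe (f760623 IH) (Lpn (LP (LK LD1_c7 LD2_c20 LD3_c5))))
theorem seed_1172 : LEOK LG_f (LK LD1_c7 LD2_c20 LD3_c5) :=
  Leoe_f (LK LD1_c7 LD2_c20 LD3_c5) (f760624 IH)
def v2115 : LQ := Led Lsl_ft (LP (LK LD1_c1 LD2_c35 LD3_c47))
theorem f509066 : Led Lsl_ft (LP (LK LD1_c1 LD2_c35 LD3_c47)) = v2115 :=
  Lrfl
theorem f509068 : Led Lsl_ff (LP (LK LD1_c1 LD2_c35 LD3_c47)) = v2115 :=
  Lgr Lrot3 (Lpr_ft (f509066 IH) (Lpn v2115))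
theorem f509070 : Led Lsl_at (LP (LK LD1_c1 LD2_c35 LD3_c48)) = v2115 :=
  Lgr Lrot66 (Lpr_ff (K46.f509056 IH) (Lpe (K46.f509051 IH) (Lpr_ff (f509068 IH) (Lpn v2115))))
def v2113 : LQ := Led Lsl_bt (LP (LK LD1_c1 LD2_c35 LD3_c47))
def v8594 : LQ := Led Lsl_ft v2113
theorem f671708 : Led Lsl_ft v2113 = v8594 :=
  Lrfl
theorem f509057 : Led Lsl_bt (LP (LK LD1_c1 LD2_c35 LD3_c47)) = v2113 :=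
  Lrfl
theorem f671709 : Led Lsl_bf v2115 = v8594 :=
  Lgr Lrot61 (Lpe (f509068 IH) (Lpr_bt (f509057 IH) (Lpr_ft (f671708 IH) (Lpn v8594))))
def v5941 : LQ := Led Lsl_bt (LP (LK LD1_c3 LD2_c15 LD3_c10))
theorem f650148 : Led Lsl_bt (LP (LK LD1_c3 LD2_c15 LD3_c10)) = v5941 :=
  Lrfl
theorem f650149 : Led Lsl_bf (LP (LK LD1_c3 LD2_c15 LD3_c10)) = v5941 :=
  Lgr Lrot24 (Lpr_bt (f650148 IH) (Lpn v5941))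
def v13404 : LQ := Led Lsl_ft (LP (LK LD1_c4 LD2_c43 LD3_c43))
theorem f702755 : Led Lsl_ft (LP (LK LD1_c4 LD2_c43 LD3_c43)) = v13404 :=
  Lrfl
def v13401 : LQ := Led Lsl_gt (LP (LK LD1_c4 LD2_c43 LD3_c43))
theorem f702743 : Led Lsl_gt (LP (LK LD1_c4 LD2_c43 LD3_c43)) = v13401 :=
  Lrfl
theorem f702756 : Led Lsl_af (LP (LK LD1_c6 LD2_c30 LD3_c28)) = v13404 :=
  Lgr Lrot45 (Lpr_ft (f23625 IH) (Lpe (K5.f128990 IH) (Lpr_ft (f702755 IH) (Lpn v13404))))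
theorem f702761 : Led Lsl_gt v13401 = (LP (LK LD1_c6 LD2_c30 LD3_c28)) :=
  Lgr Lrot46 (Lpe (f702743 IH) (Lpr_ft (f702755 IH) (Lpe (f702756 IH) (Lpn (LP (LK LD1_c6 LD2_c30 LD3_c28))))))
def v13402 : LQ := Led Lsl_gf (LP (LK LD1_c4 LD2_c43 LD3_c43))
theorem f702744 : Led Lsl_gf (LP (LK LD1_c4 LD2_c43 LD3_c43)) = v13402 :=
  Lrfl
theorem f702745 : Led Lsl_gt (LP (LK LD1_c6 LD2_c30 LD3_c28)) = v13402 :=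
  Lgr Lrot5 (Lpr_ft (f23625 IH) (Lpe (K5.f128990 IH) (Lpr_gf (f702744 IH) (Lpn v13402))))
def v8598 : LQ := Led Lsl_gt K51.v2116
theorem f671723 : Led Lsl_gt K51.v2116 = v8598 :=
  Lrfl
def v8127 : LQ := Led Lsl_bt K51.v1850
theorem f670116 : Led Lsl_bt K51.v1850 = v8127 :=
  Lrfl
theorem f501020 : Led Lsl_af (LP (LK LD1_c1 LD2_c24 LD3_c30)) = K49.v1717 :=
  Lgr Lrot0 (Lpr_at (K49.f501019 IH) (Lpn K49.v1717))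
theorem f501022 : Led Lsl_ct K32.v446 = K49.v1717 :=
  Lgr Lrot59 (Lpr_cf (K49.f501021 IH) (Lpn K49.v1717))
theorem f645331 : K49.v1717 = (LP (LK LD1_c1 LD2_c38 LD3_c29)) :=
  Lefun (Lecon (f501022 IH) (K46.f645310 IH)) (K9.f140106 IH)
theorem f669800 : Led Lsl_bf v6620 = K56.v8056 :=
  Lgr Lrot81 (Lpe (f654450 IH) (Lpr_bt (K51.f77368 IH) (Lpq (f645331 IH) (Lpe (f501020 IH) (Lpr_bt (K56.f501025 IH) (Lpr_at (K56.f669798 IH) (Lpn K56.v8056)))))))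
theorem f669801 : Led Lsl_bt v6620 = K56.v8056 :=
  Lgr Lrot127 (Lpr_bf (f669800 IH) (Lpn K56.v8056))
theorem f669817 : Led Lsl_gf v6620 = K52.v8062 :=
  Lgr Lrot76 (Lpe (f654449 IH) (Lpe (K51.f645700 IH) (Lpr_gt (K52.f669816 IH) (Lpn K52.v8062))))
theorem f707760 : v6620 = K51.v1850 :=
  Lefun (Lecon (Lfl_gf (f669817 IH)) (K52.f707753 IH).symm) (K51.f504570 IH)
theorem f707761 : K56.v8056 = v8127 :=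
  Lefun (Lecon (f669801 IH) (f707760 IH)) (f670116 IH)
theorem f679052 : Led Lsl_ft K56.v8056 = K56.v10168 :=
  Lgr Lrot48 (Lpr_ff (K56.f679049 IH) (Lpn K56.v10168))
theorem f679047 : Led Lsl_af K56.v3214 = K56.v10168 :=
  Lgr Lrot0 (Lpr_at (K56.f679046 IH) (Lpn K56.v10168))
theorem f679054 : Led Lsl_gt K56.v8056 = K56.v10167 :=
  Lgr Lrot5 (Lpr_ft (f679052 IH) (Lpe (f679047 IH) (Lpr_gf (K56.f679045 IH) (Lpn K56.v10167))))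
def v7799 : LQ := Led Lsl_gt K56.v1297
theorem f668470 : Led Lsl_gt K56.v1297 = v7799 :=
  Lrfl
theorem f668474 : Led Lsl_af K56.v3063 = K56.v7801 :=
  Lgr Lrot45 (Lpe (K56.f622724 IH) (Lpr_at (K56.f494692 IH) (Lpr_ft (K56.f668473 IH) (Lpn K56.v7801))))
theorem f668478 : Led Lsl_gt v7799 = K56.v3063 :=
  Lgr Lrot46 (Lpe (f668470 IH) (Lpr_ft (K56.f668473 IH) (Lpe (f668474 IH) (Lpn K56.v3063))))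
theorem f754158 : K56.v8056 = v7799 :=
  Lefun (Lecon (Lfl_gt (f679054 IH)) (K56.f754156 IH)) (Lfl_gt (f668478 IH))
theorem f760550 : v8598 = (LP (LK LD1_c4 LD2_c43 LD3_c43)) :=
  (Llr Lrot82 (Lpe (f671723 IH) (Lpe (K51.f509071 IH) (Lpr_ct (K56.f114240 IH) (Lpq (K56.f754146 IH) (Lpe (K56.f664579 IH) (Lpr_cf (K56.f670452 IH) (Lpe (K56.f670451 IH) (Lpe (f668478 IH) (Lpq (f754158 IH) (Lpqs (f707761 IH) (Lpe (f670116 IH) (Lpr_ct (f670118 IH) (Lpqs (f760549 IH) (Lpe (f647538 IH) (Lpe (f91422 IH) (Lpn (LP (LK LD1_c4 LD2_c43 LD3_c43))))))))))))))))))).symm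
theorem f760552 : K51.v2116 = v13402 :=
  Lefun (Lecon (Lfl_gt (f671723 IH)) (f760550 IH)) (f702744 IH)
def v8600 : LQ := Led Lsl_at K51.v2116
theorem f671725 : Led Lsl_at K51.v2116 = v8600 :=
  Lrfl
theorem f671726 : Led Lsl_af K51.v2116 = v8600 :=
  Lgr Lrot0 (Lpr_at (f671725 IH) (Lpn v8600))
theorem f760652 : Led Lsl_ft v13401 = v8600 :=
  Lgr Lrot2 (Lpr_gt (f702761 IH) (Lpr_gt (f702745 IH) (Lpq (f760552 IH) (Lpr_af (f671726 IH) (Lpn v8600)))))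
theorem f760654 : Led Lsl_ff v13401 = v8600 :=
  Lgr Lrot3 (Lpr_ft (f760652 IH) (Lpn v8600))
def v8587 : LQ := Led Lsl_bt K46.v2112
theorem f671688 : Led Lsl_bt K46.v2112 = v8587 :=
  Lrfl
theorem f671690 : Led Lsl_ff K51.v2116 = v8587 :=
  Lgr Lrot25 (Lpe (K51.f509072 IH) (Lpr_ft (K46.f509053 IH) (Lpr_bt (f671688 IH) (Lpn v8587))))
theorem f760655 : Led Lsl_at v13401 = v8587 :=
  Lgr Lrot66 (Lpr_ff (f760654 IH) (Lpe (f671725 IH) (Lpr_ff (f671690 IH) (Lpn v8587))))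
theorem f671689 : Led Lsl_bf K46.v2112 = v8587 :=
  Lgr Lrot24 (Lpr_bt (f671688 IH) (Lpn v8587))
def v8591 : LQ := Led Lsl_at v2113
theorem f671698 : Led Lsl_at v2113 = v8591 :=
  Lrfl
theorem f760656 : Led Lsl_bf v13401 = v8591 :=
  Lgr Lrot81 (Lpr_at (f760655 IH) (Lpe (f671689 IH) (Lpe (K46.f509052 IH) (Lpr_bt (f509057 IH) (Lpr_at (f671698 IH) (Lpn v8591))))))
theorem f702383 : Led Lsl_gf v5418 = v13331 :=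
  Lgr Lrot47 (Lpe (f647539 IH) (Lpr_af (K5.f128975 IH) (Lpr_ff (f702377 IH) (Lpn v13331))))
theorem f77567 : Led Lsl_ct (LP (LK LD1_c1 LD2_c30 LD3_c22)) = (LP (LK LD1_c3 LD2_c8 LD3_c16)) :=
  Lre_c IH (LK LD1_c1 LD2_c30 LD3_c22) (LK LD1_c3 LD2_c8 LD3_c16) Lrfl Lrfl
def v5473 : LQ := Led Lsl_gt (LP (LK LD1_c3 LD2_c8 LD3_c16))
theorem f647841 : Led Lsl_gt (LP (LK LD1_c3 LD2_c8 LD3_c16)) = v5473 :=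
  Lrfl
theorem f760658 : Led Lsl_cf v5473 = v8591 :=
  Lgr Lrot58 (Lpe (f647841 IH) (Lpe (f77567 IH) (Lpr_bt (K24.f77328 IH) (Lpe (K31.f415839 IH) (Lpr_bf (K51.f501174 IH) (Lpr_ct (f645979 IH) (Lpq (f760548 IH) (Lpr_gf (f702383 IH) (Lpe (f702381 IH) (Lpe (f702761 IH) (Lpr_bf (f760656 IH) (Lpn v8591))))))))))))
theorem f760660 : Led Lsl_ct v5473 = v8591 :=
  Lgr Lrot59 (Lpr_cf (f760658 IH) (Lpn v8591))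
theorem f671699 : Led Lsl_af v2113 = v8591 :=
  Lgr Lrot0 (Lpr_at (f671698 IH) (Lpn v8591))
def v8592 : LQ := Led Lsl_ct v2113
theorem f671700 : Led Lsl_ct v2113 = v8592 :=
  Lrfl
theorem f760661 : Led Lsl_af v5473 = v8592 :=
  Lgr Lrot68 (Lpr_ct (f760660 IH) (Lpe (f671699 IH) (Lpr_ct (f671700 IH) (Lpn v8592))))
def v5474 : LQ := Led Lsl_gf (LP (LK LD1_c3 LD2_c8 LD3_c16))
theorem f647842 : Led Lsl_gf (LP (LK LD1_c3 LD2_c8 LD3_c16)) = v5474 :=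
  Lrfl
theorem f760662 : Led Lsl_ft v5474 = v8592 :=
  Lgr Lrot2 (Lpe (f647842 IH) (Lpr_gt (f647841 IH) (Lpr_af (f760661 IH) (Lpn v8592))))
theorem f650150 : Led Lsl_cf v5474 = v5941 :=
  Lgr Lrot160 (Lpe (f647842 IH) (Lpe (f77567 IH) (Lpr_bt (K24.f77328 IH) (Lpe (K24.f140234 IH) (Lpr_ct (K31.f140236 IH) (Lpr_gt (K31.f27121 IH) (Lpe (K32.f140713 IH) (Lpr_bt (K56.f140714 IH) (Lpr_gt (K56.f62070 IH) (Lpr_bf (f650149 IH) (Lpn v5941)))))))))))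
theorem f671701 : Led Lsl_cf v2113 = v8592 :=
  Lgr Lrot11 (Lpr_ct (f671700 IH) (Lpn v8592))
theorem f760664 : v5941 = v8594 :=
  (Llr Lrot108 (Lpe (f650150 IH) (Lpr_ft (f760662 IH) (Lpe (f671701 IH) (Lpr_ft (f671708 IH) (Lpn v8594)))))).symm
theorem f760665 : v2115 = (LP (LK LD1_c3 LD2_c15 LD3_c10)) :=
  Lefun (Lecon (Lfl_bf (f671709 IH)) (f760664 IH).symm) (Lfl_bf (f650149 IH))
theorem f760669 : Led Lsl_at (LP (LK LD1_c1 LD2_c35 LD3_c48)) = (LP (LK LD1_c3 LD2_c15 LD3_c10)) :=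
  Leop (Lpq (f760665 IH) (Lpe (f509070 IH) (Lpn (LP (LK LD1_c1 LD2_c35 LD3_c48)))))
theorem seed_1173 : LEOK LG_a (LK LD1_c1 LD2_c35 LD3_c48) :=
  Leoe_a (LK LD1_c1 LD2_c35 LD3_c48) (f760669 IH)
theorem f671728 : Led Lsl_cf K51.v2116 = K51.v8601 :=
  Lgr Lrot11 (Lpr_ct (K51.f671727 IH) (Lpn K51.v8601))
theorem f91426 : Led Lsl_bt (LP (LK LD1_c3 LD2_c7 LD3_c41)) = (LP (LK LD1_c6 LD2_c20 LD3_c12)) :=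
  Lre_b IH (LK LD1_c3 LD2_c7 LD3_c41) (LK LD1_c6 LD2_c20 LD3_c12) Lrfl Lrfl
theorem f91428 : Led Lsl_gt (LP (LK LD1_c6 LD2_c20 LD3_c12)) = (LP (LK LD1_c12 LD2_c15 LD3_c0)) :=
  Lre_g IH (LK LD1_c6 LD2_c20 LD3_c12) (LK LD1_c12 LD2_c15 LD3_c0) Lrfl Lrfl
theorem f647506 : Led Lsl_bt (LP (LK LD1_c6 LD2_c39 LD3_c43)) = K51.v5407 :=
  Lgr Lrot35 (Lpe (K3.f96031 IH) (Lpr_bf (K52.f104241 IH) (Lpr_ff (K51.f647505 IH) (Lpn K51.v5407))))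
theorem f65065 : Led Lsl_ct (LP (LK LD1_c12 LD2_c1 LD3_c61)) = (LP (LK LD1_c7 LD2_c0 LD3_c61)) :=
  Lgr Lrot40 (Lpe (K3.f65063 IH) (Lpr_cf (K52.f65054 IH) (Lpe (K52.f65064 IH) (Lpn (LP (LK LD1_c7 LD2_c0 LD3_c61))))))
theorem f65081 : Led Lsl_cf (LP (LK LD1_c12 LD2_c1 LD3_c61)) = (LP (LK LD1_c7 LD2_c0 LD3_c61)) :=
  Lgr Lrot11 (Lpr_ct (f65065 IH) (Lpn (LP (LK LD1_c7 LD2_c0 LD3_c61))))
theorem f109731 : Led Lsl_ct (LP (LK LD1_c6 LD2_c39 LD3_c43)) = (LP (LK LD1_c3 LD2_c46 LD3_c4)) :=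
  Lgr Lrot111 (Lpr_af (K3.f105285 IH) (Lpr_cf (f65081 IH) (Lpr_af (K52.f109717 IH) (Lpn (LP (LK LD1_c3 LD2_c46 LD3_c4))))))
theorem f109729 : Led Lsl_at (LP (LK LD1_c7 LD2_c0 LD3_c61)) = (LP (LK LD1_c3 LD2_c46 LD3_c4)) :=
  Lgr Lrot100 (Lpr_af (K52.f109717 IH) (Lpn (LP (LK LD1_c3 LD2_c46 LD3_c4))))
theorem f64724 : Led Lsl_gt (LP (LK LD1_c3 LD2_c29 LD3_c42)) = (LP (LK LD1_c7 LD2_c0 LD3_c58)) :=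
  Lre_g IH (LK LD1_c3 LD2_c29 LD3_c42) (LK LD1_c7 LD2_c0 LD3_c58) Lrfl Lrfl
theorem f109841 : Led Lsl_gt (LP (LK LD1_c7 LD2_c0 LD3_c58)) = (LP (LK LD1_c3 LD2_c46 LD3_c4)) :=
  Lgr Lrot46 (Lpe (f64724 IH) (Lpr_ft (K3.f65090 IH) (Lpr_at (f109729 IH) (Lpn (LP (LK LD1_c3 LD2_c46 LD3_c4))))))
theorem f709216 : Led Lsl_bt (LP (LK LD1_c6 LD2_c33 LD3_c13)) = (LP (LK LD1_c12 LD2_c33 LD3_c45)) :=
  Lre_b IH (LK LD1_c6 LD2_c33 LD3_c13) (LK LD1_c12 LD2_c33 LD3_c45) Lrfl Lrfl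
theorem f117175 : Led Lsl_bt (LP (LK LD1_c5 LD2_c48 LD3_c1)) = (LP (LK LD1_c7 LD2_c40 LD3_c59)) :=
  Lgr Lrot127 (Lpr_bf (K52.f117172 IH) (Lpn (LP (LK LD1_c7 LD2_c40 LD3_c59))))
theorem f712287 : Led Lsl_gt (LP (LK LD1_c12 LD2_c33 LD3_c45)) = (LP (LK LD1_c7 LD2_c40 LD3_c59)) :=
  Lgr Lrot164 (Lpe (f709216 IH) (Lpr_ct (K52.f709209 IH) (Lpr_gf (K52.f126523 IH) (Lpe (K5.f126534 IH) (Lpr_gf (K52.f665704 IH) (Lpq (K52.f708825 IH) (Lpe (K52.f444281 IH) (Lpr_ct (K52.f79884 IH) (Lpqs (K52.f712151 IH) (Lpe (K52.f640494 IH) (Lpe (K52.f100295 IH) (Lpr_bt (f117175 IH) (Lpn (LP (LK LD1_c7 LD2_c40 LD3_c59)))))))))))))))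
theorem f117174 : Led Lsl_at (LP (LK LD1_c3 LD2_c50 LD3_c6)) = (LP (LK LD1_c7 LD2_c40 LD3_c59)) :=
  Lre_a IH (LK LD1_c3 LD2_c50 LD3_c6) (LK LD1_c7 LD2_c40 LD3_c59) Lrfl Lrfl
theorem f440784 : Led Lsl_ft (LP (LK LD1_c7 LD2_c41 LD3_c15)) = (LP (LK LD1_c3 LD2_c50 LD3_c6)) :=
  Lre_f IH (LK LD1_c7 LD2_c41 LD3_c15) (LK LD1_c3 LD2_c50 LD3_c6) Lrfl Lrfl
theorem f712356 : Led Lsl_gf (LP (LK LD1_c12 LD2_c33 LD3_c45)) = (LP (LK LD1_c7 LD2_c41 LD3_c15)) :=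
  Lgr Lrot47 (Lpr_gt (f712287 IH) (Lpe (f117174 IH) (Lpe (f440784 IH) (Lpn (LP (LK LD1_c7 LD2_c41 LD3_c15))))))
theorem f64861 : Led Lsl_ct (LP (LK LD1_c3 LD2_c48 LD3_c42)) = (LP (LK LD1_c7 LD2_c38 LD3_c27)) :=
  Lre_c IH (LK LD1_c3 LD2_c48 LD3_c42) (LK LD1_c7 LD2_c38 LD3_c27) Lrfl Lrfl
theorem f87441 : Led Lsl_bt (LP (LK LD1_c3 LD2_c50 LD3_c18)) = (LP (LK LD1_c7 LD2_c41 LD3_c15)) :=
  Lre_b IH (LK LD1_c3 LD2_c50 LD3_c18) (LK LD1_c7 LD2_c41 LD3_c15) Lrfl Lrfl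
theorem f712377 : Led Lsl_gt (LP (LK LD1_c7 LD2_c38 LD3_c27)) = (LP (LK LD1_c6 LD2_c37 LD3_c50)) :=
  Lgr Lrot149 (Lpe (f64861 IH) (Lpe (K52.f64850 IH) (Lpe (K52.f64889 IH) (Lpe (K4.f89397 IH) (Lpe (K52.f89416 IH) (Lpe (K52.f709209 IH) (Lpr_bt (f709216 IH) (Lpr_gf (f712356 IH) (Lpe (f87441 IH) (Lpe (K52.f87442 IH) (Lpn (LP (LK LD1_c6 LD2_c37 LD3_c50)))))))))))))
theorem f89269 : Led Lsl_at (LP (LK LD1_c7 LD2_c35 LD3_c13)) = (LP (LK LD1_c3 LD2_c49 LD3_c33)) :=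
  Lgr Lrot100 (Lpr_af (K2.f89259 IH) (Lpn (LP (LK LD1_c3 LD2_c49 LD3_c33))))
theorem f92380 : Led Lsl_gt (LP (LK LD1_c3 LD2_c47 LD3_c11)) = (LP (LK LD1_c7 LD2_c35 LD3_c10)) :=
  Lre_g IH (LK LD1_c3 LD2_c47 LD3_c11) (LK LD1_c7 LD2_c35 LD3_c10) Lrfl Lrfl
theorem f442203 : Led Lsl_gt (LP (LK LD1_c7 LD2_c35 LD3_c10)) = (LP (LK LD1_c3 LD2_c49 LD3_c33)) :=
  Lgr Lrot46 (Lpe (f92380 IH) (Lpr_ft (K2.f89286 IH) (Lpr_at (f89269 IH) (Lpn (LP (LK LD1_c3 LD2_c49 LD3_c33))))))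
theorem f96171 : Led Lsl_et (LP (LK LD1_c14 LD2_c18 LD3_c12)) = (LP (LK LD1_c7 LD2_c35 LD3_c10)) :=
  Lre_e IH (LK LD1_c14 LD2_c18 LD3_c12) (LK LD1_c7 LD2_c35 LD3_c10) Lrfl Lrfl
theorem f65072 : Led Lsl_gt (LP (LK LD1_c13 LD2_c18 LD3_c35)) = (LP (LK LD1_c7 LD2_c0 LD3_c60)) :=
  Lre_g IH (LK LD1_c13 LD2_c18 LD3_c35) (LK LD1_c7 LD2_c0 LD3_c60) Lrfl Lrfl
theorem f105564 : Led Lsl_df (LP (LK LD1_c13 LD2_c18 LD3_c35)) = (LP (LK LD1_c14 LD2_c18 LD3_c12)) :=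
  Lgr Lrot170 (Lpr_gt (f65072 IH) (Lpe (K3.f65092 IH) (Lpr_et (K3.f65096 IH) (Lpr_gt (K3.f105560 IH) (Lpr_dt (K3.f96163 IH) (Lpe (K3.f96132 IH) (Lpe (K2.f12060 IH) (Lpr_et (K2.f12069 IH) (Lpr_gt (f92380 IH) (Lpe (f96171 IH) (Lpn (LP (LK LD1_c14 LD2_c18 LD3_c12)))))))))))))
theorem f109699 : Led Lsl_af (LP (LK LD1_c7 LD2_c0 LD3_c60)) = (LP (LK LD1_c3 LD2_c46 LD3_c3)) :=
  Lgr Lrot0 (Lpr_at (K3.f109695 IH) (Lpn (LP (LK LD1_c3 LD2_c46 LD3_c3))))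
theorem f109810 : Led Lsl_ft (LP (LK LD1_c7 LD2_c33 LD3_c6)) = (LP (LK LD1_c3 LD2_c46 LD3_c3)) :=
  Lre_f IH (LK LD1_c7 LD2_c33 LD3_c6) (LK LD1_c3 LD2_c46 LD3_c3) Lrfl Lrfl
theorem f441348 : Led Lsl_gf (LP (LK LD1_c13 LD2_c18 LD3_c35)) = (LP (LK LD1_c7 LD2_c33 LD3_c6)) :=
  Lgr Lrot47 (Lpr_gt (f65072 IH) (Lpr_af (f109699 IH) (Lpe (f109810 IH) (Lpn (LP (LK LD1_c7 LD2_c33 LD3_c6))))))
theorem f109840 : Led Lsl_dt (LP (LK LD1_c3 LD2_c46 LD3_c4)) = (LP (LK LD1_c7 LD2_c33 LD3_c6)) :=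
  Lre_d IH (LK LD1_c3 LD2_c46 LD3_c4) (LK LD1_c7 LD2_c33 LD3_c6) Lrfl Lrfl
theorem f89324 : Led Lsl_et (LP (LK LD1_c13 LD2_c18 LD3_c32)) = (LP (LK LD1_c7 LD2_c0 LD3_c58)) :=
  Lre_e IH (LK LD1_c13 LD2_c18 LD3_c32) (LK LD1_c7 LD2_c0 LD3_c58) Lrfl Lrfl
theorem f64838 : Led Lsl_dt (LP (LK LD1_c1 LD2_c51 LD3_c22)) = (LP (LK LD1_c3 LD2_c48 LD3_c44)) :=
  Lre_d IH (LK LD1_c1 LD2_c51 LD3_c22) (LK LD1_c3 LD2_c48 LD3_c44) Lrfl Lrfl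
theorem f64856 : Led Lsl_gt (LP (LK LD1_c7 LD2_c38 LD3_c35)) = (LP (LK LD1_c3 LD2_c48 LD3_c44)) :=
  Lre_g IH (LK LD1_c7 LD2_c38 LD3_c35) (LK LD1_c3 LD2_c48 LD3_c44) Lrfl Lrfl
theorem f89325 : Led Lsl_dt (LP (LK LD1_c13 LD2_c18 LD3_c32)) = (LP (LK LD1_c7 LD2_c38 LD3_c35)) :=
  Lgr Lrot136 (Lpr_et (f89324 IH) (Lpe (f64724 IH) (Lpe (K3.f64797 IH) (Lpr_dt (K3.f64638 IH) (Lpr_gf (K2.f89299 IH) (Lpr_df (K3.f89301 IH) (Lpe (K2.f17456 IH) (Lpe (K2.f64613 IH) (Lpr_dt (f64838 IH) (Lpe (f64856 IH) (Lpn (LP (LK LD1_c7 LD2_c38 LD3_c35)))))))))))))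
theorem f442206 : Led Lsl_gf (LP (LK LD1_c7 LD2_c38 LD3_c35)) = (LP (LK LD1_c14 LD2_c17 LD3_c57)) :=
  Lgr Lrot145 (Lpe (f89325 IH) (Lpr_et (f89324 IH) (Lpr_gt (f109841 IH) (Lpr_dt (f109840 IH) (Lpe (f441348 IH) (Lpr_df (f105564 IH) (Lpr_et (f96171 IH) (Lpr_gt (f442203 IH) (Lpe (K2.f87800 IH) (Lpr_dt (K2.f87731 IH) (Lpn (LP (LK LD1_c14 LD2_c17 LD3_c57)))))))))))))
theorem f89350 : Led Lsl_df (LP (LK LD1_c13 LD2_c18 LD3_c32)) = (LP (LK LD1_c7 LD2_c38 LD3_c35)) :=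
  Lgr Lrot38 (Lpr_dt (f89325 IH) (Lpn (LP (LK LD1_c7 LD2_c38 LD3_c35))))
theorem f87454 : Led Lsl_dt (LP (LK LD1_c6 LD2_c37 LD3_c50)) = (LP (LK LD1_c12 LD2_c41 LD3_c25)) :=
  Lre_d IH (LK LD1_c6 LD2_c37 LD3_c50) (LK LD1_c12 LD2_c41 LD3_c25) Lrfl Lrfl
theorem f117973 : Led Lsl_af (LP (LK LD1_c12 LD2_c36 LD3_c58)) = (LP (LK LD1_c6 LD2_c37 LD3_c49)) :=
  Lgr Lrot0 (Lpr_at (K4.f117969 IH) (Lpn (LP (LK LD1_c6 LD2_c37 LD3_c49))))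
theorem f65296 : Led Lsl_gt (LP (LK LD1_c3 LD2_c15 LD3_c55)) = (LP (LK LD1_c6 LD2_c35 LD3_c7)) :=
  Lre_g IH (LK LD1_c3 LD2_c15 LD3_c55) (LK LD1_c6 LD2_c35 LD3_c7) Lrfl Lrfl
theorem f96741 : Led Lsl_et (LP (LK LD1_c12 LD2_c36 LD3_c22)) = (LP (LK LD1_c6 LD2_c35 LD3_c7)) :=
  Lre_e IH (LK LD1_c12 LD2_c36 LD3_c22) (LK LD1_c6 LD2_c35 LD3_c7) Lrfl Lrfl
theorem f96742 : Led Lsl_dt (LP (LK LD1_c12 LD2_c36 LD3_c22)) = (LP (LK LD1_c21 LD2_c42 LD3_c40)) :=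
  Lre_d IH (LK LD1_c12 LD2_c36 LD3_c22) (LK LD1_c21 LD2_c42 LD3_c40) Lrfl Lrfl
theorem f96743 : Led Lsl_gt (LP (LK LD1_c21 LD2_c42 LD3_c40)) = (LP (LK LD1_c12 LD2_c36 LD3_c58)) :=
  Lgr Lrot112 (Lpe (f96742 IH) (Lpr_et (f96741 IH) (Lpe (f65296 IH) (Lpe (K4.f65272 IH) (Lpr_dt (K2.f62950 IH) (Lpr_gf (K3.f96725 IH) (Lpe (K3.f65571 IH) (Lpe (K32.f96729 IH) (Lpe (K4.f96669 IH) (Lpr_dt (K4.f96675 IH) (Lpn (LP (LK LD1_c12 LD2_c36 LD3_c58)))))))))))))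
theorem f87449 : Led Lsl_ft (LP (LK LD1_c12 LD2_c41 LD3_c25)) = (LP (LK LD1_c6 LD2_c37 LD3_c49)) :=
  Lre_f IH (LK LD1_c12 LD2_c41 LD3_c25) (LK LD1_c6 LD2_c37 LD3_c49) Lrfl Lrfl
theorem f119558 : Led Lsl_gf (LP (LK LD1_c21 LD2_c42 LD3_c40)) = (LP (LK LD1_c12 LD2_c41 LD3_c25)) :=
  Lgr Lrot47 (Lpr_gt (f96743 IH) (Lpr_af (f117973 IH) (Lpe (f87449 IH) (Lpn (LP (LK LD1_c12 LD2_c41 LD3_c25))))))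
theorem f96746 : Led Lsl_dt (LP (LK LD1_c21 LD2_c42 LD3_c40)) = (LP (LK LD1_c12 LD2_c36 LD3_c22)) :=
  Lre_d IH (LK LD1_c21 LD2_c42 LD3_c40) (LK LD1_c12 LD2_c36 LD3_c22) Lrfl Lrfl
theorem f712384 : Led Lsl_cf (LP (LK LD1_c13 LD2_c18 LD3_c32)) = (LP (LK LD1_c12 LD2_c36 LD3_c22)) :=
  Lgr Lrot14 (Lpr_df (f89350 IH) (Lpr_gf (f442206 IH) (Lpe (K2.f87731 IH) (Lpr_gf (K52.f87742 IH) (Lpr_ct (f64861 IH) (Lpr_gt (f712377 IH) (Lpr_dt (f87454 IH) (Lpe (f119558 IH) (Lpr_dt (f96746 IH) (Lpn (LP (LK LD1_c12 LD2_c36 LD3_c22))))))))))))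
theorem f712426 : Led Lsl_et (LP (LK LD1_c6 LD2_c35 LD3_c7)) = (LP (LK LD1_c12 LD2_c36 LD3_c22)) :=
  Lre_e IH (LK LD1_c6 LD2_c35 LD3_c7) (LK LD1_c12 LD2_c36 LD3_c22) Lrfl Lrfl
theorem f712427 : Led Lsl_ct (LP (LK LD1_c7 LD2_c0 LD3_c58)) = (LP (LK LD1_c6 LD2_c35 LD3_c7)) :=
  Lgr Lrot15 (Lpe (f89324 IH) (Lpr_cf (f712384 IH) (Lpe (f712426 IH) (Lpn (LP (LK LD1_c6 LD2_c35 LD3_c7))))))
theorem f712429 : Led Lsl_cf (LP (LK LD1_c7 LD2_c0 LD3_c58)) = (LP (LK LD1_c6 LD2_c35 LD3_c7)) :=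
  Lgr Lrot11 (Lpr_ct (f712427 IH) (Lpn (LP (LK LD1_c6 LD2_c35 LD3_c7))))
theorem f760746 : Led Lsl_bf (LP (LK LD1_c12 LD2_c15 LD3_c0)) = (LP (LK LD1_c6 LD2_c35 LD3_c7)) :=
  Lgr Lrot34 (Lpe (f91428 IH) (Lpe (f91426 IH) (Lpe (K5.f91417 IH) (Lpq (f760550 IH) (Lpe (f671723 IH) (Lpr_cf (f671728 IH) (Lpq (K51.f707736 IH) (Lpe (K51.f702347 IH) (Lpe (f647506 IH) (Lpr_ct (f109731 IH) (Lpe (f109841 IH) (Lpr_cf (f712429 IH) (Lpn (LP (LK LD1_c6 LD2_c35 LD3_c7)))))))))))))))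
theorem f760747 : Led Lsl_bt (LP (LK LD1_c6 LD2_c35 LD3_c7)) = (LP (LK LD1_c12 LD2_c15 LD3_c0)) :=
  Leop (Lpr_bf (f760746 IH) (Lpn (LP (LK LD1_c6 LD2_c35 LD3_c7))))
theorem seed_1174 : LEOK LG_b (LK LD1_c6 LD2_c35 LD3_c7) :=
  Leoe_b (LK LD1_c6 LD2_c35 LD3_c7) (f760747 IH)
theorem f669823 : Led Lsl_ft v6620 = v8064 :=
  Lgr Lrot48 (Lpr_ff (f669821 IH) (Lpn v8064))
theorem f679051 : Led Lsl_bt v8064 = K56.v10168 :=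
  Lgr Lrot35 (Lpe (f669823 IH) (Lpr_bf (f669800 IH) (Lpr_ff (K56.f679049 IH) (Lpn K56.v10168))))
theorem f702758 : Led Lsl_cf v5419 = v13404 :=
  Lgr Lrot108 (Lpe (f647541 IH) (Lpe (K5.f91417 IH) (Lpr_ft (f702755 IH) (Lpn v13404))))
theorem f702760 : Led Lsl_ff (LP (LK LD1_c4 LD2_c43 LD3_c43)) = v13404 :=
  Lgr Lrot3 (Lpr_ft (f702755 IH) (Lpn v13404))
theorem f702762 : Led Lsl_at (LP (LK LD1_c6 LD2_c30 LD3_c28)) = v13404 :=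
  Lgr Lrot66 (Lpe (f23642 IH) (Lpe (K5.f128980 IH) (Lpr_ff (f702760 IH) (Lpn v13404))))
def v5781 : LQ := Led Lsl_gt (LP (LK LD1_c3 LD2_c13 LD3_c19))
theorem f649331 : Led Lsl_gt (LP (LK LD1_c3 LD2_c13 LD3_c19)) = v5781 :=
  Lrfl
theorem f702767 : Led Lsl_gt v5781 = v13404 :=
  Lgr Lrot46 (Lpe (f649331 IH) (Lpr_ft (f23642 IH) (Lpr_at (f702762 IH) (Lpn v13404))))
theorem f760463 : K56.v5938 = v5781 :=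
  (Llr Lrot130 (Lpe (K56.f650138 IH) (Lpr_ct (K56.f62068 IH) (Lpqs (K56.f754167 IH) (Lpe (K56.f650638 IH) (Lpr_cf (K56.f506457 IH) (Lpe (K56.f506456 IH) (Lpr_gf (K56.f622721 IH) (Lpq (K56.f754220 IH) (Lpe (f679051 IH) (Lpq (f707755 IH) (Lpr_ct (f760461 IH) (Lpe (f702371 IH) (Lpr_cf (f702758 IH) (Lpe (f702767 IH) (Lpn v5781)))))))))))))))).symm
theorem f712650 : Led Lsl_cf (LP (LK LD1_c12 LD2_c14 LD3_c34)) = (LP (LK LD1_c12 LD2_c34 LD3_c25)) :=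
  Lgr Lrot11 (Lpr_ct (K52.f712644 IH) (Lpn (LP (LK LD1_c12 LD2_c34 LD3_c25))))
theorem f712653 : Led Lsl_ct (LP (LK LD1_c6 LD2_c19 LD3_c52)) = K56.v5938 :=
  Lgr Lrot83 (Lpe (K52.f104248 IH) (Lpr_cf (f712650 IH) (Lpe (K52.f650127 IH) (Lpe (K56.f62068 IH) (Lpr_bf (K56.f650139 IH) (Lpn K56.v5938))))))
theorem f109741 : Led Lsl_gt (LP (LK LD1_c3 LD2_c46 LD3_c2)) = (LP (LK LD1_c1 LD2_c50 LD3_c6)) :=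
  Lre_g IH (LK LD1_c3 LD2_c46 LD3_c2) (LK LD1_c1 LD2_c50 LD3_c6) Lrfl Lrfl
theorem f109752 : Led Lsl_ct (LP (LK LD1_c7 LD2_c33 LD3_c0)) = (LP (LK LD1_c3 LD2_c46 LD3_c2)) :=
  Lre_c IH (LK LD1_c7 LD2_c33 LD3_c0) (LK LD1_c3 LD2_c46 LD3_c2) Lrfl Lrfl
theorem f109753 : Led Lsl_bt (LP (LK LD1_c7 LD2_c33 LD3_c0)) = (LP (LK LD1_c14 LD2_c14 LD3_c18)) :=
  Lre_b IH (LK LD1_c7 LD2_c33 LD3_c0) (LK LD1_c14 LD2_c14 LD3_c18) Lrfl Lrfl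
theorem f702764 : Led Lsl_ct v5419 = v13404 :=
  Lgr Lrot40 (Lpe (f647540 IH) (Lpe (f91422 IH) (Lpr_ff (f702760 IH) (Lpn v13404))))
def v17532 : LQ := Led Lsl_ft (LP (LK LD1_c6 LD2_c20 LD3_c12))
theorem f760435 : Led Lsl_ft (LP (LK LD1_c6 LD2_c20 LD3_c12)) = v17532 :=
  Lrfl
theorem f760438 : Led Lsl_ff (LP (LK LD1_c6 LD2_c20 LD3_c12)) = v17532 :=
  Lgr Lrot3 (Lpr_ft (f760435 IH) (Lpn v17532))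
theorem f91421 : Led Lsl_bt (LP (LK LD1_c6 LD2_c20 LD3_c12)) = (LP (LK LD1_c3 LD2_c7 LD3_c41)) :=
  Lre_b IH (LK LD1_c6 LD2_c20 LD3_c12) (LK LD1_c3 LD2_c7 LD3_c41) Lrfl Lrfl
theorem f760439 : Led Lsl_bt v5419 = v17532 :=
  Lgr Lrot35 (Lpe (f647540 IH) (Lpe (f91421 IH) (Lpr_ff (f760438 IH) (Lpn v17532))))
theorem f760757 : Led Lsl_gf (LP (LK LD1_c14 LD2_c14 LD3_c18)) = v17532 :=
  Lgr Lrot124 (Lpe (f109753 IH) (Lpr_ct (f109752 IH) (Lpr_gt (f109741 IH) (Lpe (K52.f109759 IH) (Lpr_bt (K51.f104238 IH) (Lpr_gt (K52.f104246 IH) (Lpr_ct (f712653 IH) (Lpqs (f760463 IH) (Lpr_gt (f702767 IH) (Lpe (f702764 IH) (Lpr_bt (f760439 IH) (Lpn v17532))))))))))))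
theorem f128979 : Led Lsl_at (LP (LK LD1_c6 LD2_c20 LD3_c12)) = (LP (LK LD1_c12 LD2_c14 LD3_c60)) :=
  Lre_a IH (LK LD1_c6 LD2_c20 LD3_c12) (LK LD1_c12 LD2_c14 LD3_c60) Lrfl Lrfl
theorem f760758 : Led Lsl_gt (LP (LK LD1_c14 LD2_c14 LD3_c18)) = (LP (LK LD1_c12 LD2_c14 LD3_c60)) :=
  Lgr Lrot46 (Lpr_gf (f760757 IH) (Lpe (f760438 IH) (Lpr_at (f128979 IH) (Lpn (LP (LK LD1_c12 LD2_c14 LD3_c60))))))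
theorem f760759 : Led Lsl_gt (LP (LK LD1_c14 LD2_c14 LD3_c18)) = (LP (LK LD1_c12 LD2_c14 LD3_c60)) :=
  Leop (Lpe (f760758 IH) (Lpn (LP (LK LD1_c14 LD2_c14 LD3_c18))))
theorem seed_1175 : LEOK LG_g (LK LD1_c14 LD2_c14 LD3_c18) :=
  Leoe_g (LK LD1_c14 LD2_c14 LD3_c18) (f760759 IH)
theorem f109742 : Led Lsl_gt (LP (LK LD1_c7 LD2_c0 LD3_c61)) = (LP (LK LD1_c3 LD2_c46 LD3_c2)) :=
  Lgr Lrot5 (Lpr_ft (K52.f65064 IH) (Lpr_at (K52.f109736 IH) (Lpe (f109741 IH) (Lpn (LP (LK LD1_c3 LD2_c46 LD3_c2))))))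
theorem f501154 : Led Lsl_ct (LP (LK LD1_c2 LD2_c57 LD3_c43)) = (LP (LK LD1_c1 LD2_c24 LD3_c33)) :=
  Lre_c IH (LK LD1_c2 LD2_c57 LD3_c43) (LK LD1_c1 LD2_c24 LD3_c33) Lrfl Lrfl
theorem f209907 : Led Lsl_ct (LP (LK LD1_c5 LD2_c55 LD3_c37)) = (LP (LK LD1_c2 LD2_c54 LD3_c8)) :=
  Lre_c IH (LK LD1_c5 LD2_c55 LD3_c37) (LK LD1_c2 LD2_c54 LD3_c8) Lrfl Lrfl
theorem f157150 : Led Lsl_et (LP (LK LD1_c3 LD2_c17 LD3_c51)) = (LP (LK LD1_c6 LD2_c39 LD3_c15)) :=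
  Lre_e IH (LK LD1_c3 LD2_c17 LD3_c51) (LK LD1_c6 LD2_c39 LD3_c15) Lrfl Lrfl
theorem f209903 : Led Lsl_bt (LP (LK LD1_c6 LD2_c39 LD3_c15)) = (LP (LK LD1_c5 LD2_c55 LD3_c37)) :=
  Lgr Lrot119 (Lpe (f157150 IH) (Lpr_bf (K52.f206763 IH) (Lpe (K52.f161867 IH) (Lpn (LP (LK LD1_c5 LD2_c55 LD3_c37))))))
theorem f209905 : Led Lsl_bf (LP (LK LD1_c6 LD2_c39 LD3_c15)) = (LP (LK LD1_c5 LD2_c55 LD3_c37)) :=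
  Lgr Lrot24 (Lpr_bt (f209903 IH) (Lpn (LP (LK LD1_c5 LD2_c55 LD3_c37))))
theorem f209917 : Led Lsl_gt (LP (LK LD1_c6 LD2_c39 LD3_c15)) = (LP (LK LD1_c12 LD2_c44 LD3_c9)) :=
  Lre_g IH (LK LD1_c6 LD2_c39 LD3_c15) (LK LD1_c12 LD2_c44 LD3_c9) Lrfl Lrfl
theorem f711713 : Led Lsl_bf (LP (LK LD1_c12 LD2_c44 LD3_c9)) = K52.v7554 :=
  Lgr Lrot34 (Lpe (f209917 IH) (Lpr_bf (f209905 IH) (Lpr_ct (f209907 IH) (Lpqs (K52.f710594 IH) (Lpe (K52.f501150 IH) (Lpe (f501154 IH) (Lpe (K52.f415567 IH) (Lpe (K52.f415577 IH) (Lpr_ct (K52.f711633 IH) (Lpe (K52.f115675 IH) (Lpr_cf (K52.f666714 IH) (Lpn K52.v7554))))))))))))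
theorem f428920 : Led Lsl_et (LP (LK LD1_c12 LD2_c44 LD3_c9)) = (LP (LK LD1_c21 LD2_c51 LD3_c23)) :=
  Lre_e IH (LK LD1_c12 LD2_c44 LD3_c9) (LK LD1_c21 LD2_c51 LD3_c23) Lrfl Lrfl
theorem f711718 : Led Lsl_bf (LP (LK LD1_c12 LD2_c45 LD3_c12)) = (LP (LK LD1_c21 LD2_c51 LD3_c23)) :=
  Lgr Lrot96 (Lpr_et (K4.f66430 IH) (Lpqs (K52.f711714 IH) (Lpe (f711713 IH) (Lpr_et (f428920 IH) (Lpn (LP (LK LD1_c21 LD2_c51 LD3_c23)))))))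
theorem f712548 : Led Lsl_bt (LP (LK LD1_c12 LD2_c45 LD3_c12)) = (LP (LK LD1_c21 LD2_c51 LD3_c23)) :=
  Lgr Lrot127 (Lpr_bf (f711718 IH) (Lpn (LP (LK LD1_c21 LD2_c51 LD3_c23))))
theorem f93535 : Led Lsl_et (LP (LK LD1_c6 LD2_c39 LD3_c40)) = (LP (LK LD1_c12 LD2_c45 LD3_c12)) :=
  Lre_e IH (LK LD1_c6 LD2_c39 LD3_c40) (LK LD1_c12 LD2_c45 LD3_c12) Lrfl Lrfl
theorem f428914 : Led Lsl_et (LP (LK LD1_c21 LD2_c51 LD3_c23)) = (LP (LK LD1_c12 LD2_c44 LD3_c9)) :=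
  Lre_e IH (LK LD1_c21 LD2_c51 LD3_c23) (LK LD1_c12 LD2_c44 LD3_c9) Lrfl Lrfl
theorem f712554 : Led Lsl_bf (LP (LK LD1_c6 LD2_c39 LD3_c40)) = (LP (LK LD1_c12 LD2_c44 LD3_c9)) :=
  Lgr Lrot96 (Lpr_et (f93535 IH) (Lpr_bt (f712548 IH) (Lpr_et (f428914 IH) (Lpn (LP (LK LD1_c12 LD2_c44 LD3_c9))))))
theorem f141310 : Led Lsl_et (LP (LK LD1_c17 LD2_c2 LD3_c22)) = (LP (LK LD1_c9 LD2_c9 LD3_c21)) :=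
  Lre_e IH (LK LD1_c17 LD2_c2 LD3_c22) (LK LD1_c9 LD2_c9 LD3_c21) Lrfl Lrfl
theorem f141326 : Led Lsl_et (LP (LK LD1_c6 LD2_c20 LD3_c9)) = (LP (LK LD1_c12 LD2_c14 LD3_c60)) :=
  Lre_e IH (LK LD1_c6 LD2_c20 LD3_c9) (LK LD1_c12 LD2_c14 LD3_c60) Lrfl Lrfl
theorem f141327 : Led Lsl_bf (LP (LK LD1_c17 LD2_c2 LD3_c22)) = (LP (LK LD1_c12 LD2_c14 LD3_c60)) :=
  Lgr Lrot96 (Lpr_et (f141310 IH) (Lpr_bt (K6.f141324 IH) (Lpr_et (f141326 IH) (Lpn (LP (LK LD1_c12 LD2_c14 LD3_c60))))))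
theorem f438095 : Led Lsl_bt (LP (LK LD1_c17 LD2_c2 LD3_c22)) = (LP (LK LD1_c12 LD2_c14 LD3_c60)) :=
  Lgr Lrot127 (Lpr_bf (f141327 IH) (Lpn (LP (LK LD1_c12 LD2_c14 LD3_c60))))
theorem f141311 : Led Lsl_et (LP (LK LD1_c6 LD2_c30 LD3_c50)) = (LP (LK LD1_c12 LD2_c30 LD3_c24)) :=
  Lre_e IH (LK LD1_c6 LD2_c30 LD3_c50) (LK LD1_c12 LD2_c30 LD3_c24) Lrfl Lrfl
theorem f141312 : Led Lsl_cf (LP (LK LD1_c17 LD2_c2 LD3_c22)) = (LP (LK LD1_c12 LD2_c30 LD3_c24)) :=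
  Lgr Lrot39 (Lpr_et (f141310 IH) (Lpr_ct (K6.f141303 IH) (Lpr_et (f141311 IH) (Lpn (LP (LK LD1_c12 LD2_c30 LD3_c24))))))
theorem f438104 : Led Lsl_ct (LP (LK LD1_c17 LD2_c2 LD3_c22)) = (LP (LK LD1_c12 LD2_c30 LD3_c24)) :=
  Lgr Lrot59 (Lpr_cf (f141312 IH) (Lpn (LP (LK LD1_c12 LD2_c30 LD3_c24))))
theorem f158699 : Led Lsl_gt (LP (LK LD1_c12 LD2_c30 LD3_c24)) = (LP (LK LD1_c21 LD2_c36 LD3_c50)) :=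
  Lre_g IH (LK LD1_c12 LD2_c30 LD3_c24) (LK LD1_c21 LD2_c36 LD3_c50) Lrfl Lrfl
theorem f760762 : Led Lsl_ct (LP (LK LD1_c12 LD2_c44 LD3_c9)) = (LP (LK LD1_c21 LD2_c36 LD3_c50)) :=
  Lgr Lrot10 (Lpe (f712554 IH) (Lpr_gt (K4.f105298 IH) (Lpr_ct (f65065 IH) (Lpr_gt (f109742 IH) (Lpe (f109752 IH) (Lpr_bt (f109753 IH) (Lpr_gt (f760758 IH) (Lpe (f438095 IH) (Lpr_ct (f438104 IH) (Lpr_gt (f158699 IH) (Lpn (LP (LK LD1_c21 LD2_c36 LD3_c50)))))))))))))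
theorem f141212 : Led Lsl_et (LP (LK LD1_c9 LD2_c10 LD3_c5)) = (LP (LK LD1_c4 LD2_c37 LD3_c11)) :=
  Lre_e IH (LK LD1_c9 LD2_c10 LD3_c5) (LK LD1_c4 LD2_c37 LD3_c11) Lrfl Lrfl
theorem f141225 : Led Lsl_bt (LP (LK LD1_c4 LD2_c43 LD3_c13)) = (LP (LK LD1_c9 LD2_c10 LD3_c5)) :=
  Lgr Lrot119 (Lpe (K5.f124079 IH) (Lpr_bf (K6.f141219 IH) (Lpe (f141212 IH) (Lpn (LP (LK LD1_c9 LD2_c10 LD3_c5))))))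
theorem f141238 : Led Lsl_ft (LP (LK LD1_c9 LD2_c10 LD3_c5)) = (LP (LK LD1_c17 LD2_c3 LD3_c15)) :=
  Lre_f IH (LK LD1_c9 LD2_c10 LD3_c5) (LK LD1_c17 LD2_c3 LD3_c15) Lrfl Lrfl
theorem f702380 : Led Lsl_bt (LP (LK LD1_c17 LD2_c3 LD3_c15)) = v13331 :=
  Lgr Lrot35 (Lpe (f141238 IH) (Lpe (f141225 IH) (Lpr_ff (f702377 IH) (Lpn v13331))))
theorem f428516 : Led Lsl_at (LP (LK LD1_c17 LD2_c2 LD3_c22)) = (LP (LK LD1_c9 LD2_c10 LD3_c5)) :=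
  Lre_a IH (LK LD1_c17 LD2_c2 LD3_c22) (LK LD1_c9 LD2_c10 LD3_c5) Lrfl Lrfl
theorem f438101 : Led Lsl_at (LP (LK LD1_c6 LD2_c30 LD3_c51)) = (LP (LK LD1_c12 LD2_c30 LD3_c24)) :=
  Lre_a IH (LK LD1_c6 LD2_c30 LD3_c51) (LK LD1_c12 LD2_c30 LD3_c24) Lrfl Lrfl
theorem f438102 : Led Lsl_ct (LP (LK LD1_c9 LD2_c10 LD3_c5)) = (LP (LK LD1_c6 LD2_c30 LD3_c51)) :=
  Lgr Lrot111 (Lpe (f428516 IH) (Lpr_cf (f141312 IH) (Lpe (f438101 IH) (Lpn (LP (LK LD1_c6 LD2_c30 LD3_c51))))))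
theorem f428517 : Led Lsl_ft (LP (LK LD1_c17 LD2_c3 LD3_c15)) = (LP (LK LD1_c9 LD2_c10 LD3_c5)) :=
  Lre_f IH (LK LD1_c17 LD2_c3 LD3_c15) (LK LD1_c9 LD2_c10 LD3_c5) Lrfl Lrfl
theorem f141295 : Led Lsl_ft (LP (LK LD1_c6 LD2_c30 LD3_c51)) = (LP (LK LD1_c12 LD2_c30 LD3_c28)) :=
  Lre_f IH (LK LD1_c6 LD2_c30 LD3_c51) (LK LD1_c12 LD2_c30 LD3_c28) Lrfl Lrfl
theorem f438112 : Led Lsl_cf (LP (LK LD1_c17 LD2_c3 LD3_c15)) = (LP (LK LD1_c12 LD2_c30 LD3_c28)) :=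
  Lgr Lrot108 (Lpr_ft (f428517 IH) (Lpr_ct (f438102 IH) (Lpr_ft (f141295 IH) (Lpn (LP (LK LD1_c12 LD2_c30 LD3_c28))))))
theorem f438116 : Led Lsl_ct (LP (LK LD1_c17 LD2_c3 LD3_c15)) = (LP (LK LD1_c12 LD2_c30 LD3_c28)) :=
  Lgr Lrot59 (Lpr_cf (f438112 IH) (Lpn (LP (LK LD1_c12 LD2_c30 LD3_c28))))
theorem f760768 : Led Lsl_gf (LP (LK LD1_c12 LD2_c30 LD3_c28)) = (LP (LK LD1_c21 LD2_c36 LD3_c50)) :=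
  Lgr Lrot129 (Lpe (f438116 IH) (Lpr_bt (f702380 IH) (Lpe (f702383 IH) (Lpqs (f760548 IH) (Lpe (K52.f645975 IH) (Lpr_ct (f501154 IH) (Lpq (K52.f710593 IH) (Lpe (K51.f641091 IH) (Lpe (f209907 IH) (Lpe (f209905 IH) (Lpr_gt (f209917 IH) (Lpr_ct (f760762 IH) (Lpn (LP (LK LD1_c21 LD2_c36 LD3_c50)))))))))))))))
theorem f760769 : Led Lsl_gt (LP (LK LD1_c21 LD2_c36 LD3_c50)) = (LP (LK LD1_c12 LD2_c30 LD3_c28)) :=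
  Leop (Lpr_gf (f760768 IH) (Lpn (LP (LK LD1_c21 LD2_c36 LD3_c50))))
theorem seed_1176 : LEOK LG_g (LK LD1_c21 LD2_c36 LD3_c50) :=
  Leoe_g (LK LD1_c21 LD2_c36 LD3_c50) (f760769 IH)
theorem f651672 : Led Lsl_ff (LP (LK LD1_c3 LD2_c18 LD3_c42)) = K56.v6179 :=
  Lgr Lrot3 (Lpr_ft (K56.f651669 IH) (Lpn K56.v6179))
theorem f441182 : Led Lsl_ct (LP (LK LD1_c3 LD2_c18 LD3_c42)) = (LP (LK LD1_c1 LD2_c35 LD3_c47)) :=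
  Lre_c IH (LK LD1_c3 LD2_c18 LD3_c42) (LK LD1_c1 LD2_c35 LD3_c47) Lrfl Lrfl
theorem f651678 : Led Lsl_ct v2115 = K56.v6179 :=
  Lgr Lrot40 (Lpe (f509066 IH) (Lpe (f441182 IH) (Lpr_ff (f651672 IH) (Lpn K56.v6179))))
theorem f760671 : K56.v6179 = (LP (LK LD1_c6 LD2_c33 LD3_c46)) :=
  Lefun (Lecon (f651678 IH) (f760665 IH)) (K56.f62071 IH)
theorem f509054 : Led Lsl_dt (LP (LK LD1_c6 LD2_c41 LD3_c15)) = (LP (LK LD1_c3 LD2_c18 LD3_c42)) :=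
  Lre_d IH (LK LD1_c6 LD2_c41 LD3_c15) (LK LD1_c3 LD2_c18 LD3_c42) Lrfl Lrfl
theorem f650118 : Led Lsl_dt (LP (LK LD1_c6 LD2_c33 LD3_c46)) = (LP (LK LD1_c12 LD2_c34 LD3_c27)) :=
  Lre_d IH (LK LD1_c6 LD2_c33 LD3_c46) (LK LD1_c12 LD2_c34 LD3_c27) Lrfl Lrfl
theorem f760791 : Led Lsl_ff (LP (LK LD1_c6 LD2_c41 LD3_c15)) = (LP (LK LD1_c12 LD2_c34 LD3_c27)) :=
  Lgr Lrot19 (Lpr_dt (f509054 IH) (Lpr_ft (K56.f651669 IH) (Lpqs (f760671 IH) (Lpr_dt (f650118 IH) (Lpn (LP (LK LD1_c12 LD2_c34 LD3_c27)))))))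
theorem f650126 : Led Lsl_dt (LP (LK LD1_c12 LD2_c34 LD3_c26)) = (LP (LK LD1_c6 LD2_c33 LD3_c44)) :=
  Lre_d IH (LK LD1_c12 LD2_c34 LD3_c26) (LK LD1_c6 LD2_c33 LD3_c44) Lrfl Lrfl
theorem f651656 : Led Lsl_ct K46.v2112 = K56.v6177 :=
  Lgr Lrot59 (Lpr_cf (K56.f651655 IH) (Lpn K56.v6177))
def v8586 : LQ := Led Lsl_gf K46.v2112
theorem f671686 : Led Lsl_gf K46.v2112 = v8586 :=
  Lrfl
theorem f671687 : Led Lsl_gt v2115 = v8586 :=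
  Lgr Lrot5 (Lpe (f509068 IH) (Lpr_at (K46.f509051 IH) (Lpr_gf (f671686 IH) (Lpn v8586))))
theorem f114016 : Led Lsl_gt (LP (LK LD1_c3 LD2_c15 LD3_c10)) = (LP (LK LD1_c1 LD2_c34 LD3_c14)) :=
  Lre_g IH (LK LD1_c3 LD2_c15 LD3_c10) (LK LD1_c1 LD2_c34 LD3_c14) Lrfl Lrfl
theorem f760666 : v8586 = (LP (LK LD1_c1 LD2_c34 LD3_c14)) :=
  Lefun (Lecon (f671687 IH) (f760665 IH)) (f114016 IH)
theorem f760685 : K46.v2112 = (LP (LK LD1_c3 LD2_c15 LD3_c9)) :=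
  Lefun (Lecon (Lfl_gf (f671686 IH)) (f760666 IH)) (K56.f62032 IH)
theorem f760691 : K56.v6177 = (LP (LK LD1_c6 LD2_c33 LD3_c44)) :=
  Lefun (Lecon (f651656 IH) (f760685 IH)) (K56.f62068 IH)
theorem f651647 : Led Lsl_dt (LP (LK LD1_c3 LD2_c18 LD3_c42)) = (LP (LK LD1_c6 LD2_c41 LD3_c15)) :=
  Lre_d IH (LK LD1_c3 LD2_c18 LD3_c42) (LK LD1_c6 LD2_c41 LD3_c15) Lrfl Lrfl
theorem f760725 : Led Lsl_af (LP (LK LD1_c12 LD2_c34 LD3_c26)) = (LP (LK LD1_c6 LD2_c41 LD3_c15)) :=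
  Lgr Lrot117 (Lpr_dt (f650126 IH) (Lpq (f760691 IH) (Lpe (K56.f651654 IH) (Lpr_dt (f651647 IH) (Lpn (LP (LK LD1_c6 LD2_c41 LD3_c15)))))))
theorem f114237 : Led Lsl_dt (LP (LK LD1_c6 LD2_c41 LD3_c19)) = (LP (LK LD1_c3 LD2_c18 LD3_c44)) :=
  Lre_d IH (LK LD1_c6 LD2_c41 LD3_c19) (LK LD1_c3 LD2_c18 LD3_c44) Lrfl Lrfl
theorem f650125 : Led Lsl_dt (LP (LK LD1_c6 LD2_c33 LD3_c44)) = (LP (LK LD1_c12 LD2_c34 LD3_c26)) :=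
  Lre_d IH (LK LD1_c6 LD2_c33 LD3_c44) (LK LD1_c12 LD2_c34 LD3_c26) Lrfl Lrfl
theorem f760709 : Led Lsl_ff (LP (LK LD1_c6 LD2_c41 LD3_c19)) = (LP (LK LD1_c12 LD2_c34 LD3_c26)) :=
  Lgr Lrot19 (Lpr_dt (f114237 IH) (Lpr_ft (K56.f651657 IH) (Lpqs (f760691 IH) (Lpr_dt (f650125 IH) (Lpn (LP (LK LD1_c12 LD2_c34 LD3_c26)))))))
theorem f760793 : Led Lsl_at (LP (LK LD1_c6 LD2_c41 LD3_c19)) = (LP (LK LD1_c12 LD2_c34 LD3_c27)) :=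
  Lgr Lrot66 (Lpr_ff (f760709 IH) (Lpr_af (f760725 IH) (Lpr_ff (f760791 IH) (Lpn (LP (LK LD1_c12 LD2_c34 LD3_c27))))))
theorem f65483 : Led Lsl_gt (LP (LK LD1_c3 LD2_c15 LD3_c40)) = (LP (LK LD1_c1 LD2_c34 LD3_c33)) :=
  Lre_g IH (LK LD1_c3 LD2_c15 LD3_c40) (LK LD1_c1 LD2_c34 LD3_c33) Lrfl Lrfl
theorem f103937 : Led Lsl_et (LP (LK LD1_c6 LD2_c34 LD3_c40)) = (LP (LK LD1_c3 LD2_c15 LD3_c40)) :=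
  Lre_e IH (LK LD1_c6 LD2_c34 LD3_c40) (LK LD1_c3 LD2_c15 LD3_c40) Lrfl Lrfl
theorem f103938 : Led Lsl_dt (LP (LK LD1_c6 LD2_c34 LD3_c40)) = (LP (LK LD1_c12 LD2_c35 LD3_c46)) :=
  Lre_d IH (LK LD1_c6 LD2_c34 LD3_c40) (LK LD1_c12 LD2_c35 LD3_c46) Lrfl Lrfl
theorem f754173 : Led Lsl_gt (LP (LK LD1_c12 LD2_c34 LD3_c26)) = (LP (LK LD1_c12 LD2_c35 LD3_c46)) :=
  Lgr Lrot139 (Lpe (f650125 IH) (Lpqs (K56.f754167 IH) (Lpe (K56.f650638 IH) (Lpe (K56.f79122 IH) (Lpe (K3.f103832 IH) (Lpe (K3.f65631 IH) (Lpe (K3.f65181 IH) (Lpr_et (K5.f66011 IH) (Lpe (f65483 IH) (Lpe (f103937 IH) (Lpr_dt (f103938 IH) (Lpn (LP (LK LD1_c12 LD2_c35 LD3_c46))))))))))))))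
theorem f760799 : Led Lsl_gt (LP (LK LD1_c12 LD2_c35 LD3_c46)) = (LP (LK LD1_c12 LD2_c34 LD3_c27)) :=
  Lgr Lrot46 (Lpe (f754173 IH) (Lpe (f760709 IH) (Lpr_at (f760793 IH) (Lpn (LP (LK LD1_c12 LD2_c34 LD3_c27))))))
theorem f650119 : Led Lsl_dt (LP (LK LD1_c12 LD2_c34 LD3_c27)) = (LP (LK LD1_c6 LD2_c33 LD3_c46)) :=
  Lre_d IH (LK LD1_c12 LD2_c34 LD3_c27) (LK LD1_c6 LD2_c33 LD3_c46) Lrfl Lrfl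
theorem f114017 : Led Lsl_dt (LP (LK LD1_c6 LD2_c33 LD3_c47)) = (LP (LK LD1_c3 LD2_c15 LD3_c10)) :=
  Lre_d IH (LK LD1_c6 LD2_c33 LD3_c47) (LK LD1_c3 LD2_c15 LD3_c10) Lrfl Lrfl
def v10014 : LQ := Led Lsl_dt K46.v3148
theorem f678379 : Led Lsl_dt K46.v3148 = v10014 :=
  Lrfl
theorem f678382 : Led Lsl_ef K46.v6043 = v10014 :=
  Lgr Lrot73 (Lpe (K46.f650699 IH) (Lpqs (K46.f651829 IH) (Lpr_et (K56.f624037 IH) (Lpe (K46.f624034 IH) (Lpr_et (K46.f624038 IH) (Lpr_dt (f678379 IH) (Lpn v10014)))))))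
theorem f678387 : Led Lsl_et K46.v6043 = v10014 :=
  Lgr Lrot87 (Lpr_ef (f678382 IH) (Lpn v10014))
theorem f118537 : Led Lsl_dt (LP (LK LD1_c6 LD2_c35 LD3_c20)) = (LP (LK LD1_c3 LD2_c15 LD3_c61)) :=
  Lre_d IH (LK LD1_c6 LD2_c35 LD3_c20) (LK LD1_c3 LD2_c15 LD3_c61) Lrfl Lrfl
theorem f118441 : Led Lsl_ct (LP (LK LD1_c12 LD2_c36 LD3_c44)) = (LP (LK LD1_c6 LD2_c35 LD3_c20)) :=
  Lre_c IH (LK LD1_c12 LD2_c36 LD3_c44) (LK LD1_c6 LD2_c35 LD3_c20) Lrfl Lrfl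
theorem f118538 : Led Lsl_dt (LP (LK LD1_c21 LD2_c42 LD3_c57)) = (LP (LK LD1_c12 LD2_c36 LD3_c44)) :=
  Lre_d IH (LK LD1_c21 LD2_c42 LD3_c57) (LK LD1_c12 LD2_c36 LD3_c44) Lrfl Lrfl
theorem f118539 : Led Lsl_ct (LP (LK LD1_c3 LD2_c16 LD3_c61)) = (LP (LK LD1_c6 LD2_c37 LD3_c22)) :=
  Lre_c IH (LK LD1_c3 LD2_c16 LD3_c61) (LK LD1_c6 LD2_c37 LD3_c22) Lrfl Lrfl
theorem f118540 : Led Lsl_dt (LP (LK LD1_c6 LD2_c37 LD3_c22)) = (LP (LK LD1_c12 LD2_c40 LD3_c36)) :=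
  Lre_d IH (LK LD1_c6 LD2_c37 LD3_c22) (LK LD1_c12 LD2_c40 LD3_c36) Lrfl Lrfl
theorem f118541 : Led Lsl_cf (LP (LK LD1_c21 LD2_c42 LD3_c57)) = (LP (LK LD1_c12 LD2_c40 LD3_c36)) :=
  Lgr Lrot116 (Lpr_dt (f118538 IH) (Lpr_ct (f118441 IH) (Lpr_dt (f118537 IH) (Lpr_ct (K56.f118389 IH) (Lpr_af (K4.f118525 IH) (Lpe (K4.f118524 IH) (Lpr_dt (K46.f118520 IH) (Lpr_ct (f118539 IH) (Lpr_dt (f118540 IH) (Lpn (LP (LK LD1_c12 LD2_c40 LD3_c36))))))))))))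
theorem f118527 : Led Lsl_ct (LP (LK LD1_c3 LD2_c16 LD3_c1)) = (LP (LK LD1_c6 LD2_c35 LD3_c25)) :=
  Lre_c IH (LK LD1_c3 LD2_c16 LD3_c1) (LK LD1_c6 LD2_c35 LD3_c25) Lrfl Lrfl
theorem f78954 : Led Lsl_ft (LP (LK LD1_c6 LD2_c37 LD3_c22)) = (LP (LK LD1_c3 LD2_c16 LD3_c60)) :=
  Lre_f IH (LK LD1_c6 LD2_c37 LD3_c22) (LK LD1_c3 LD2_c16 LD3_c60) Lrfl Lrfl
theorem f118552 : Led Lsl_af (LP (LK LD1_c6 LD2_c35 LD3_c25)) = (LP (LK LD1_c3 LD2_c16 LD3_c60)) :=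
  Lgr Lrot109 (Lpe (f118527 IH) (Lpe (K49.f103592 IH) (Lpe (K56.f118389 IH) (Lpe (f118537 IH) (Lpe (f118441 IH) (Lpe (f118538 IH) (Lpr_cf (f118541 IH) (Lpe (f118540 IH) (Lpr_ft (f78954 IH) (Lpn (LP (LK LD1_c3 LD2_c16 LD3_c60))))))))))))
theorem f78853 : Led Lsl_et (LP (LK LD1_c6 LD2_c37 LD3_c20)) = (LP (LK LD1_c6 LD2_c10 LD3_c1)) :=
  Lgr Lrot87 (Lpr_ef (K46.f78831 IH) (Lpn (LP (LK LD1_c6 LD2_c10 LD3_c1))))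
theorem f78866 : Led Lsl_bt (LP (LK LD1_c3 LD2_c16 LD3_c60)) = (LP (LK LD1_c6 LD2_c37 LD3_c20)) :=
  Lre_b IH (LK LD1_c3 LD2_c16 LD3_c60) (LK LD1_c6 LD2_c37 LD3_c20) Lrfl Lrfl
theorem f78867 : Led Lsl_bt (LP (LK LD1_c6 LD2_c10 LD3_c1)) = (LP (LK LD1_c3 LD2_c1 LD3_c36)) :=
  Lre_b IH (LK LD1_c6 LD2_c10 LD3_c1) (LK LD1_c3 LD2_c1 LD3_c36) Lrfl Lrfl
theorem f78868 : Led Lsl_ef (LP (LK LD1_c3 LD2_c16 LD3_c60)) = (LP (LK LD1_c3 LD2_c1 LD3_c36)) :=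
  Lgr Lrot29 (Lpr_bt (f78866 IH) (Lpr_et (f78853 IH) (Lpr_bt (f78867 IH) (Lpn (LP (LK LD1_c3 LD2_c1 LD3_c36))))))
theorem f118559 : Led Lsl_et (LP (LK LD1_c6 LD2_c35 LD3_c25)) = (LP (LK LD1_c6 LD2_c9 LD3_c55)) :=
  Lgr Lrot123 (Lpr_af (f118552 IH) (Lpr_ef (f78868 IH) (Lpe (K4.f78929 IH) (Lpn (LP (LK LD1_c6 LD2_c9 LD3_c55))))))
theorem f118562 : Led Lsl_ef (LP (LK LD1_c6 LD2_c35 LD3_c25)) = (LP (LK LD1_c6 LD2_c9 LD3_c55)) :=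
  Lgr Lrot88 (Lpr_et (f118559 IH) (Lpn (LP (LK LD1_c6 LD2_c9 LD3_c55))))
theorem f118565 : Led Lsl_et (LP (LK LD1_c3 LD2_c16 LD3_c1)) = (LP (LK LD1_c3 LD2_c1 LD3_c26)) :=
  Lgr Lrot158 (Lpe (K4.f118403 IH) (Lpr_ef (f118562 IH) (Lpe (K5.f114000 IH) (Lpn (LP (LK LD1_c3 LD2_c1 LD3_c26))))))
theorem f114015 : Led Lsl_et (LP (LK LD1_c3 LD2_c15 LD3_c11)) = (LP (LK LD1_c1 LD2_c34 LD3_c15)) :=
  Lre_e IH (LK LD1_c3 LD2_c15 LD3_c11) (LK LD1_c1 LD2_c34 LD3_c15) Lrfl Lrfl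
theorem f678388 : Led Lsl_gf (LP (LK LD1_c6 LD2_c33 LD3_c47)) = v10014 :=
  Lgr Lrot138 (Lpr_dt (f114017 IH) (Lpr_gt (f114016 IH) (Lpe (K46.f62031 IH) (Lpr_et (f114015 IH) (Lpe (K4.f113998 IH) (Lpe (f118565 IH) (Lpr_dt (K4.f110203 IH) (Lpr_gt (K46.f508684 IH) (Lpq (K46.f651829 IH) (Lpr_df (K46.f650699 IH) (Lpr_et (f678387 IH) (Lpn v10014))))))))))))
theorem f441157 : Led Lsl_ct (LP (LK LD1_c12 LD2_c1 LD3_c24)) = (LP (LK LD1_c6 LD2_c10 LD3_c19)) :=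
  Lre_c IH (LK LD1_c12 LD2_c1 LD3_c24) (LK LD1_c6 LD2_c10 LD3_c19) Lrfl Lrfl
theorem f760801 : Led Lsl_gf (LP (LK LD1_c6 LD2_c34 LD3_c40)) = (LP (LK LD1_c12 LD2_c1 LD3_c24)) :=
  Lgr Lrot144 (Lpr_dt (f103938 IH) (Lpr_gt (f760799 IH) (Lpr_dt (f650119 IH) (Lpe (K56.f62071 IH) (Lpe (f114017 IH) (Lpr_gf (f678388 IH) (Lpe (f678379 IH) (Lpr_gf (K46.f651732 IH) (Lpe (f441157 IH) (Lpn (LP (LK LD1_c12 LD2_c1 LD3_c24))))))))))))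
theorem f760802 : Led Lsl_gt (LP (LK LD1_c12 LD2_c1 LD3_c24)) = (LP (LK LD1_c6 LD2_c34 LD3_c40)) :=
  Leop (Lpr_gf (f760801 IH) (Lpn (LP (LK LD1_c12 LD2_c1 LD3_c24))))
theorem seed_1177 : LEOK LG_g (LK LD1_c12 LD2_c1 LD3_c24) :=
  Leoe_g (LK LD1_c12 LD2_c1 LD3_c24) (f760802 IH)
def v5649 : LQ := Led Lsl_bt (LP (LK LD1_c3 LD2_c11 LD3_c12))
theorem f648691 : Led Lsl_bt (LP (LK LD1_c3 LD2_c11 LD3_c12)) = v5649 :=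
  Lrfl
theorem f648693 : Led Lsl_df (LP (LK LD1_c6 LD2_c18 LD3_c51)) = v5649 :=
  Lgr Lrot12 (Lpr_bt (K51.f61686 IH) (Lpr_dt (K17.f61684 IH) (Lpr_bt (f648691 IH) (Lpn v5649))))
theorem f648694 : Led Lsl_dt (LP (LK LD1_c6 LD2_c18 LD3_c51)) = v5649 :=
  Lgr Lrot42 (Lpr_df (f648693 IH) (Lpn v5649))
def v5356 : LQ := Led Lsl_gf (LP (LK LD1_c3 LD2_c6 LD3_c42))
theorem f647240 : Led Lsl_gf (LP (LK LD1_c3 LD2_c6 LD3_c42)) = v5356 :=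
  Lrfl
theorem f504530 : Led Lsl_gt (LP (LK LD1_c3 LD2_c12 LD3_c23)) = K51.v1843 :=
  Lgr Lrot5 (Lpr_ft (K5.f128460 IH) (Lpr_at (K51.f208137 IH) (Lpr_gf (K51.f504529 IH) (Lpn K51.v1843))))
theorem f708174 : (LP (LK LD1_c3 LD2_c12 LD3_c23)) = v5356 :=
  Lefun (Lecon (Lfl_gt (f504530 IH)) (K51.f708171 IH)) (f647240 IH)
theorem f131461 : Led Lsl_dt (LP (LK LD1_c3 LD2_c7 LD3_c16)) = (LP (LK LD1_c3 LD2_c7 LD3_c38)) :=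
  Lgr Lrot42 (Lpr_df (K51.f131451 IH) (Lpn (LP (LK LD1_c3 LD2_c7 LD3_c38))))
def v8848 : LQ := Led Lsl_gt K51.v2231
theorem f672474 : Led Lsl_gt K51.v2231 = v8848 :=
  Lrfl
theorem f654399 : Led Lsl_at K51.v2230 = K51.v6607 :=
  Lgr Lrot51 (Lpe (K51.f509763 IH) (Lpe (K49.f454815 IH) (Lpr_df (K51.f654398 IH) (Lpn K51.v6607))))
theorem f672475 : Led Lsl_gf K51.v6607 = v8848 :=
  Lgr Lrot76 (Lpe (f654399 IH) (Lpr_ff (K51.f510308 IH) (Lpr_gt (f672474 IH) (Lpn v8848))))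
def v17638 : LQ := Led Lsl_dt (LP (LK LD1_c6 LD2_c20 LD3_c58))
theorem f761208 : Led Lsl_dt (LP (LK LD1_c6 LD2_c20 LD3_c58)) = v17638 :=
  Lrfl
theorem f761211 : Led Lsl_ef v5649 = v17638 :=
  Lgr Lrot73 (Lpe (f648693 IH) (Lpr_et (K51.f640058 IH) (Lpr_dt (K51.f647243 IH) (Lpq (K51.f708178 IH) (Lpe (K51.f670035 IH) (Lpr_dt (f761208 IH) (Lpn v17638)))))))
theorem f761210 : Led Lsl_df (LP (LK LD1_c6 LD2_c20 LD3_c58)) = v17638 :=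
  Lgr Lrot38 (Lpr_dt (f761208 IH) (Lpn v17638))
def v17627 : LQ := Led Lsl_gf (LP (LK LD1_c6 LD2_c20 LD3_c51))
theorem f761154 : Led Lsl_gf (LP (LK LD1_c6 LD2_c20 LD3_c51)) = v17627 :=
  Lrfl
theorem f761214 : v5649 = v17627 :=
  (Llr Lrot121 (Lpr_ef (f761211 IH) (Lpe (f761210 IH) (Lpe (K51.f209654 IH) (Lpe (K33.f209646 IH) (Lpr_et (K33.f209645 IH) (Lpe (K35.f209648 IH) (Lpr_ef (K35.f632541 IH) (Lpe (K35.f632540 IH) (Lpe (K35.f435311 IH) (Lpe (K35.f632545 IH) (Lpr_gf (f761154 IH) (Lpn v17627))))))))))))).symm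
theorem f632550 : Led Lsl_df (LP (LK LD1_c6 LD2_c20 LD3_c51)) = (LP (LK LD1_c4 LD2_c43 LD3_c4)) :=
  Lgr Lrot38 (Lpr_dt (K35.f632545 IH) (Lpn (LP (LK LD1_c4 LD2_c43 LD3_c4))))
def v13311 : LQ := Led Lsl_et (LP (LK LD1_c4 LD2_c43 LD3_c4))
theorem f702282 : Led Lsl_et (LP (LK LD1_c4 LD2_c43 LD3_c4)) = v13311 :=
  Lrfl
theorem f761222 : v8848 = v13311 :=
  (Llr Lrot138 (Lpe (f672475 IH) (Lpe (K51.f654398 IH) (Lpqs (K51.f707578 IH) (Lpr_gt (K51.f632589 IH) (Lpe (f131461 IH) (Lpr_et (K5.f128461 IH) (Lpqs (f708174 IH) (Lpe (f647240 IH) (Lpe (K51.f640058 IH) (Lpr_dt (f648694 IH) (Lpqs (f761214 IH) (Lpe (f761154 IH) (Lpr_df (f632550 IH) (Lpr_et (f702282 IH) (Lpn v13311)))))))))))))))).symm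
def v17410 : LQ := Led Lsl_gf (LP (LK LD1_c6 LD2_c18 LD3_c51))
theorem f759629 : Led Lsl_gf (LP (LK LD1_c6 LD2_c18 LD3_c51)) = v17410 :=
  Lrfl
theorem f707847 : Led Lsl_et (LP (LK LD1_c6 LD2_c29 LD3_c13)) = K51.v6607 :=
  Lgr Lrot87 (Lpr_ef (K51.f707845 IH) (Lpn K51.v6607))
theorem f91457 : Led Lsl_dt (LP (LK LD1_c6 LD2_c29 LD3_c13)) = (LP (LK LD1_c6 LD2_c20 LD3_c6)) :=
  Lgr Lrot42 (Lpr_df (K51.f91453 IH) (Lpn (LP (LK LD1_c6 LD2_c20 LD3_c6))))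
theorem f648940 : Led Lsl_gt K51.v5441 = K51.v5694 :=
  Lgr Lrot46 (Lpe (K51.f647669 IH) (Lpr_ft (K51.f647675 IH) (Lpr_at (K51.f648938 IH) (Lpn K51.v5694))))
theorem f632626 : Led Lsl_et (LP (LK LD1_c3 LD2_c12 LD3_c5)) = (LP (LK LD1_c6 LD2_c28 LD3_c16)) :=
  Lre_e IH (LK LD1_c3 LD2_c12 LD3_c5) (LK LD1_c6 LD2_c28 LD3_c16) Lrfl Lrfl
theorem f761223 : v17410 = (LP (LK LD1_c6 LD2_c28 LD3_c16)) :=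
  (Llr Lrot138 (Lpe (f759629 IH) (Lpr_dt (f648694 IH) (Lpqs (f761214 IH) (Lpe (f761154 IH) (Lpr_df (f632550 IH) (Lpr_et (f702282 IH) (Lpq (f761222 IH) (Lpe (f672475 IH) (Lpe (f707847 IH) (Lpr_dt (f91457 IH) (Lpq (K51.f707857 IH) (Lpr_gt (f648940 IH) (Lpe (K51.f648935 IH) (Lpr_et (f632626 IH) (Lpn (LP (LK LD1_c6 LD2_c28 LD3_c16)))))))))))))))))).symm
theorem f761224 : Led Lsl_gt (LP (LK LD1_c6 LD2_c28 LD3_c16)) = (LP (LK LD1_c6 LD2_c18 LD3_c51)) :=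
  Leop (Lpr_gf (f759629 IH) (Lpqs (f761223 IH) (Lpn (LP (LK LD1_c6 LD2_c28 LD3_c16)))))
theorem seed_1178 : LEOK LG_g (LK LD1_c6 LD2_c28 LD3_c16) :=
  Leoe_g (LK LD1_c6 LD2_c28 LD3_c16) (f761224 IH)
def v17640 : LQ := Led Lsl_ft (LP (LK LD1_c6 LD2_c20 LD3_c60))
theorem f761229 : Led Lsl_ft (LP (LK LD1_c6 LD2_c20 LD3_c60)) = v17640 :=
  Lrfl
theorem f126993 : Led Lsl_gt (LP (LK LD1_c6 LD2_c20 LD3_c60)) = (LP (LK LD1_c12 LD2_c16 LD3_c3)) :=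
  Lre_g IH (LK LD1_c6 LD2_c20 LD3_c60) (LK LD1_c12 LD2_c16 LD3_c3) Lrfl Lrfl
theorem f761230 : Led Lsl_af (LP (LK LD1_c17 LD2_c18 LD3_c10)) = v17640 :=
  Lgr Lrot45 (Lpr_ft (K52.f23524 IH) (Lpr_at (K52.f136086 IH) (Lpr_ft (f761229 IH) (Lpn v17640))))
theorem f761235 : Led Lsl_gt (LP (LK LD1_c12 LD2_c16 LD3_c3)) = (LP (LK LD1_c17 LD2_c18 LD3_c10)) :=
  Lgr Lrot46 (Lpe (f126993 IH) (Lpr_ft (f761229 IH) (Lpe (f761230 IH) (Lpn (LP (LK LD1_c17 LD2_c18 LD3_c10))))))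
theorem f761236 : Led Lsl_gt (LP (LK LD1_c12 LD2_c16 LD3_c3)) = (LP (LK LD1_c17 LD2_c18 LD3_c10)) :=
  Leop (Lpe (f761235 IH) (Lpn (LP (LK LD1_c12 LD2_c16 LD3_c3))))
theorem seed_1179 : LEOK LG_g (LK LD1_c12 LD2_c16 LD3_c3) :=
  Leoe_g (LK LD1_c12 LD2_c16 LD3_c3) (f761236 IH)
def v17644 : LQ := Led Lsl_gt (LP (LK LD1_c6 LD2_c21 LD3_c1))
theorem f761265 : Led Lsl_gt (LP (LK LD1_c6 LD2_c21 LD3_c1)) = v17644 :=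
  Lrfl
theorem f67124 : Led Lsl_gt (LP (LK LD1_c3 LD2_c8 LD3_c11)) = (LP (LK LD1_c6 LD2_c21 LD3_c1)) :=
  Lre_g IH (LK LD1_c3 LD2_c8 LD3_c11) (LK LD1_c6 LD2_c21 LD3_c1) Lrfl Lrfl
def v5466 : LQ := Led Lsl_ft (LP (LK LD1_c3 LD2_c8 LD3_c11))
theorem f647797 : Led Lsl_ft (LP (LK LD1_c3 LD2_c8 LD3_c11)) = v5466 :=
  Lrfl
theorem f761266 : Led Lsl_at v5466 = v17644 :=
  Lgr Lrot26 (Lpe (f647797 IH) (Lpr_gt (f67124 IH) (Lpr_gt (f761265 IH) (Lpn v17644))))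
theorem f504568 : Led Lsl_at (LP (LK LD1_c6 LD2_c21 LD3_c3)) = (LP (LK LD1_c3 LD2_c8 LD3_c11)) :=
  Lre_a IH (LK LD1_c6 LD2_c21 LD3_c3) (LK LD1_c3 LD2_c8 LD3_c11) Lrfl Lrfl
theorem f761269 : Led Lsl_ff (LP (LK LD1_c6 LD2_c21 LD3_c3)) = v17644 :=
  Lgr Lrot30 (Lpr_at (f504568 IH) (Lpr_ft (f647797 IH) (Lpr_at (f761266 IH) (Lpn v17644))))
theorem f153849 : Led Lsl_ct (LP (LK LD1_c6 LD2_c21 LD3_c3)) = (LP (LK LD1_c3 LD2_c9 LD3_c24)) :=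
  Lre_c IH (LK LD1_c6 LD2_c21 LD3_c3) (LK LD1_c3 LD2_c9 LD3_c24) Lrfl Lrfl
theorem f761270 : Led Lsl_ct (LP (LK LD1_c6 LD2_c23 LD3_c25)) = v17644 :=
  Lgr Lrot40 (Lpe (K16.f153879 IH) (Lpe (f153849 IH) (Lpr_ff (f761269 IH) (Lpn v17644))))
theorem f154442 : Led Lsl_at (LP (LK LD1_c3 LD2_c22 LD3_c30)) = (LP (LK LD1_c6 LD2_c48 LD3_c47)) :=
  Lre_a IH (LK LD1_c3 LD2_c22 LD3_c30) (LK LD1_c6 LD2_c48 LD3_c47) Lrfl Lrfl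
theorem f154443 : Led Lsl_ft (LP (LK LD1_c6 LD2_c48 LD3_c47)) = (LP (LK LD1_c4 LD2_c42 LD3_c26)) :=
  Lgr Lrot101 (Lpe (f154442 IH) (Lpr_ff (K16.f154439 IH) (Lpe (K16.f153478 IH) (Lpn (LP (LK LD1_c4 LD2_c42 LD3_c26))))))
theorem f154619 : Led Lsl_gt (LP (LK LD1_c6 LD2_c48 LD3_c47)) = (LP (LK LD1_c4 LD2_c42 LD3_c25)) :=
  Lgr Lrot5 (Lpr_ft (f154443 IH) (Lpr_at (K16.f153478 IH) (Lpe (K3.f82825 IH) (Lpn (LP (LK LD1_c4 LD2_c42 LD3_c25))))))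
theorem f83670 : Led Lsl_bt (LP (LK LD1_c12 LD2_c26 LD3_c37)) = (LP (LK LD1_c6 LD2_c27 LD3_c36)) :=
  Lre_b IH (LK LD1_c12 LD2_c26 LD3_c37) (LK LD1_c6 LD2_c27 LD3_c36) Lrfl Lrfl
theorem f155157 : Led Lsl_bt (LP (LK LD1_c6 LD2_c25 LD3_c45)) = (LP (LK LD1_c12 LD2_c23 LD3_c56)) :=
  Lre_b IH (LK LD1_c6 LD2_c25 LD3_c45) (LK LD1_c12 LD2_c23 LD3_c56) Lrfl Lrfl
theorem f430164 : Led Lsl_cf (LP (LK LD1_c12 LD2_c26 LD3_c37)) = (LP (LK LD1_c12 LD2_c23 LD3_c56)) :=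
  Lgr Lrot97 (Lpr_bt (f83670 IH) (Lpe (K33.f430158 IH) (Lpr_bt (K7.f430160 IH) (Lpr_ct (K6.f143715 IH) (Lpr_bt (f155157 IH) (Lpn (LP (LK LD1_c12 LD2_c23 LD3_c56))))))))
theorem f432571 : Led Lsl_ct (LP (LK LD1_c12 LD2_c26 LD3_c37)) = (LP (LK LD1_c12 LD2_c23 LD3_c56)) :=
  Lgr Lrot59 (Lpr_cf (f430164 IH) (Lpn (LP (LK LD1_c12 LD2_c23 LD3_c56))))
theorem f156244 : Led Lsl_bt (LP (LK LD1_c6 LD2_c27 LD3_c36)) = (LP (LK LD1_c12 LD2_c26 LD3_c37)) :=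
  Lre_b IH (LK LD1_c6 LD2_c27 LD3_c36) (LK LD1_c12 LD2_c26 LD3_c37) Lrfl Lrfl
theorem f430162 : Led Lsl_bf (LP (LK LD1_c3 LD2_c35 LD3_c6)) = (LP (LK LD1_c6 LD2_c19 LD3_c17)) :=
  Lgr Lrot24 (Lpr_bt (K7.f430160 IH) (Lpn (LP (LK LD1_c6 LD2_c19 LD3_c17))))
theorem f114311 : Led Lsl_bt (LP (LK LD1_c12 LD2_c23 LD3_c56)) = (LP (LK LD1_c6 LD2_c25 LD3_c45)) :=
  Lre_b IH (LK LD1_c12 LD2_c23 LD3_c56) (LK LD1_c6 LD2_c25 LD3_c45) Lrfl Lrfl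
theorem f432580 : Led Lsl_cf (LP (LK LD1_c6 LD2_c19 LD3_c17)) = (LP (LK LD1_c6 LD2_c25 LD3_c45)) :=
  Lgr Lrot97 (Lpe (f430162 IH) (Lpr_ct (K7.f430154 IH) (Lpr_bt (f156244 IH) (Lpr_ct (f432571 IH) (Lpr_bt (f114311 IH) (Lpn (LP (LK LD1_c6 LD2_c25 LD3_c45))))))))
theorem f131356 : Led Lsl_bt (LP (LK LD1_c4 LD2_c41 LD3_c60)) = (LP (LK LD1_c2 LD2_c18 LD3_c18)) :=
  Lre_b IH (LK LD1_c4 LD2_c41 LD3_c60) (LK LD1_c2 LD2_c18 LD3_c18) Lrfl Lrfl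
theorem f154624 : Led Lsl_ct (LP (LK LD1_c9 LD2_c19 LD3_c10)) = (LP (LK LD1_c4 LD2_c42 LD3_c25)) :=
  Lre_c IH (LK LD1_c9 LD2_c19 LD3_c10) (LK LD1_c4 LD2_c42 LD3_c25) Lrfl Lrfl
theorem f154625 : Led Lsl_bt (LP (LK LD1_c9 LD2_c19 LD3_c10)) = (LP (LK LD1_c17 LD2_c14 LD3_c38)) :=
  Lre_b IH (LK LD1_c9 LD2_c19 LD3_c10) (LK LD1_c17 LD2_c14 LD3_c38) Lrfl Lrfl
theorem f432586 : Led Lsl_gf (LP (LK LD1_c17 LD2_c14 LD3_c38)) = (LP (LK LD1_c12 LD2_c23 LD3_c56)) :=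
  Lgr Lrot124 (Lpe (f154625 IH) (Lpr_ct (f154624 IH) (Lpr_gt (K3.f82825 IH) (Lpe (K16.f86031 IH) (Lpr_bt (f131356 IH) (Lpr_gt (K11.f82803 IH) (Lpr_ct (K11.f125402 IH) (Lpr_gt (K6.f113378 IH) (Lpr_cf (f432580 IH) (Lpr_bt (f155157 IH) (Lpn (LP (LK LD1_c12 LD2_c23 LD3_c56)))))))))))))
theorem f82854 : Led Lsl_ct (LP (LK LD1_c27 LD2_c4 LD3_c47)) = (LP (LK LD1_c17 LD2_c14 LD3_c38)) :=
  Lre_c IH (LK LD1_c27 LD2_c4 LD3_c47) (LK LD1_c17 LD2_c14 LD3_c38) Lrfl Lrfl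
theorem f82853 : Led Lsl_bt (LP (LK LD1_c27 LD2_c4 LD3_c47)) = (LP (LK LD1_c17 LD2_c14 LD3_c36)) :=
  Lre_b IH (LK LD1_c27 LD2_c4 LD3_c47) (LK LD1_c17 LD2_c14 LD3_c36) Lrfl Lrfl
theorem f67931 : Led Lsl_ct (LP (LK LD1_c6 LD2_c27 LD3_c38)) = (LP (LK LD1_c3 LD2_c11 LD3_c44)) :=
  Lre_c IH (LK LD1_c6 LD2_c27 LD3_c38) (LK LD1_c3 LD2_c11 LD3_c44) Lrfl Lrfl
theorem f68077 : Led Lsl_gt (LP (LK LD1_c6 LD2_c27 LD3_c45)) = (LP (LK LD1_c3 LD2_c11 LD3_c44)) :=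
  Lre_g IH (LK LD1_c6 LD2_c27 LD3_c45) (LK LD1_c3 LD2_c11 LD3_c44) Lrfl Lrfl
theorem f68078 : Led Lsl_ct (LP (LK LD1_c12 LD2_c26 LD3_c53)) = (LP (LK LD1_c6 LD2_c27 LD3_c45)) :=
  Lre_c IH (LK LD1_c12 LD2_c26 LD3_c53) (LK LD1_c6 LD2_c27 LD3_c45) Lrfl Lrfl
theorem f432590 : Led Lsl_gt (LP (LK LD1_c17 LD2_c14 LD3_c36)) = (LP (LK LD1_c12 LD2_c26 LD3_c53)) :=
  Lgr Lrot82 (Lpe (f82853 IH) (Lpr_ct (f82854 IH) (Lpr_gf (f432586 IH) (Lpe (f432571 IH) (Lpr_bt (f83670 IH) (Lpe (K7.f68095 IH) (Lpe (K7.f68094 IH) (Lpr_ct (f67931 IH) (Lpe (f68077 IH) (Lpe (f68078 IH) (Lpn (LP (LK LD1_c12 LD2_c26 LD3_c53)))))))))))))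
theorem f68079 : Led Lsl_ct (LP (LK LD1_c6 LD2_c27 LD3_c45)) = (LP (LK LD1_c12 LD2_c26 LD3_c53)) :=
  Lre_c IH (LK LD1_c6 LD2_c27 LD3_c45) (LK LD1_c12 LD2_c26 LD3_c53) Lrfl Lrfl
theorem f432592 : Led Lsl_bt (LP (LK LD1_c6 LD2_c27 LD3_c45)) = (LP (LK LD1_c12 LD2_c26 LD3_c52)) :=
  Lre_b IH (LK LD1_c6 LD2_c27 LD3_c45) (LK LD1_c12 LD2_c26 LD3_c52) Lrfl Lrfl
theorem f67125 : Led Lsl_ct (LP (LK LD1_c12 LD2_c16 LD3_c5)) = (LP (LK LD1_c6 LD2_c21 LD3_c1)) :=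
  Lre_c IH (LK LD1_c12 LD2_c16 LD3_c5) (LK LD1_c6 LD2_c21 LD3_c1) Lrfl Lrfl
theorem f761273 : Led Lsl_gt (LP (LK LD1_c12 LD2_c26 LD3_c52)) = (LP (LK LD1_c12 LD2_c16 LD3_c5)) :=
  Lgr Lrot82 (Lpe (f432592 IH) (Lpr_ct (f68079 IH) (Lpe (f432590 IH) (Lpe (K3.f82827 IH) (Lpr_bt (K3.f82826 IH) (Lpe (f154619 IH) (Lpr_bf (K16.f154495 IH) (Lpr_ct (f761270 IH) (Lpe (f761265 IH) (Lpe (f67125 IH) (Lpn (LP (LK LD1_c12 LD2_c16 LD3_c5)))))))))))))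
theorem f761274 : Led Lsl_gt (LP (LK LD1_c12 LD2_c26 LD3_c52)) = (LP (LK LD1_c12 LD2_c16 LD3_c5)) :=
  Leop (Lpe (f761273 IH) (Lpn (LP (LK LD1_c12 LD2_c26 LD3_c52))))
theorem seed_1180 : LEOK LG_g (LK LD1_c12 LD2_c26 LD3_c52) :=
  Leoe_g (LK LD1_c12 LD2_c26 LD3_c52) (f761274 IH)
def v17658 : LQ := Led Lsl_ft (LP (LK LD1_c6 LD2_c21 LD3_c6))
theorem f761326 : Led Lsl_ft (LP (LK LD1_c6 LD2_c21 LD3_c6)) = v17658 :=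
  Lrfl
theorem f77629 : Led Lsl_gt (LP (LK LD1_c6 LD2_c21 LD3_c6)) = (LP (LK LD1_c12 LD2_c16 LD3_c11)) :=
  Lre_g IH (LK LD1_c6 LD2_c21 LD3_c6) (LK LD1_c12 LD2_c16 LD3_c11) Lrfl Lrfl
theorem f77138 : Led Lsl_ft (LP (LK LD1_c6 LD2_c21 LD3_c17)) = (LP (LK LD1_c3 LD2_c8 LD3_c18)) :=
  Lre_f IH (LK LD1_c6 LD2_c21 LD3_c17) (LK LD1_c3 LD2_c8 LD3_c18) Lrfl Lrfl
theorem f761327 : Led Lsl_af (LP (LK LD1_c6 LD2_c21 LD3_c17)) = v17658 :=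
  Lgr Lrot45 (Lpr_ft (f77138 IH) (Lpr_at (K6.f77105 IH) (Lpr_ft (f761326 IH) (Lpn v17658))))
theorem f761332 : Led Lsl_gt (LP (LK LD1_c12 LD2_c16 LD3_c11)) = (LP (LK LD1_c6 LD2_c21 LD3_c17)) :=
  Lgr Lrot46 (Lpe (f77629 IH) (Lpr_ft (f761326 IH) (Lpe (f761327 IH) (Lpn (LP (LK LD1_c6 LD2_c21 LD3_c17))))))
theorem f761333 : Led Lsl_gt (LP (LK LD1_c12 LD2_c16 LD3_c11)) = (LP (LK LD1_c6 LD2_c21 LD3_c17)) :=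
  Leop (Lpe (f761332 IH) (Lpn (LP (LK LD1_c12 LD2_c16 LD3_c11))))
theorem seed_1181 : LEOK LG_g (LK LD1_c12 LD2_c16 LD3_c11) :=
  Leoe_g (LK LD1_c12 LD2_c16 LD3_c11) (f761333 IH)
def v1871 : LQ := Led Lsl_gf (LP (LK LD1_c1 LD2_c30 LD3_c22))
theorem f504649 : Led Lsl_gf (LP (LK LD1_c1 LD2_c30 LD3_c22)) = v1871 :=
  Lrfl
def v8183 : LQ := Led Lsl_bt v1871
theorem f670276 : Led Lsl_bt v1871 = v8183 :=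
  Lrfl
theorem f670277 : Led Lsl_bf v1871 = v8183 :=
  Lgr Lrot24 (Lpr_bt (f670276 IH) (Lpn v8183))
theorem f415644 : Led Lsl_bt (LP (LK LD1_c0 LD2_c44 LD3_c61)) = (LP (LK LD1_c1 LD2_c37 LD3_c16)) :=
  Lre_b IH (LK LD1_c0 LD2_c44 LD3_c61) (LK LD1_c1 LD2_c37 LD3_c16) Lrfl Lrfl
theorem f23638 : Led Lsl_ct (LP (LK LD1_c3 LD2_c13 LD3_c40)) = (LP (LK LD1_c6 LD2_c30 LD3_c56)) :=
  Lre_c IH (LK LD1_c3 LD2_c13 LD3_c40) (LK LD1_c6 LD2_c30 LD3_c56) Lrfl Lrfl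
def v7241 : LQ := Led Lsl_gf (LP (LK LD1_c3 LD2_c43 LD3_c5))
theorem f662619 : Led Lsl_gf (LP (LK LD1_c3 LD2_c43 LD3_c5)) = v7241 :=
  Lrfl
theorem f662620 : Led Lsl_gt (LP (LK LD1_c6 LD2_c30 LD3_c56)) = v7241 :=
  Lgr Lrot5 (Lpr_ft (f440000 IH) (Lpe (f439996 IH) (Lpr_gf (f662619 IH) (Lpn v7241))))
theorem f760633 : Led Lsl_ct v8183 = v7241 :=
  Lgr Lrot63 (Lpe (f670277 IH) (Lpe (f504649 IH) (Lpe (K9.f77337 IH) (Lpr_ct (K24.f77345 IH) (Lpr_gt (K24.f73209 IH) (Lpe (K48.f415648 IH) (Lpr_bt (f415644 IH) (Lpr_gt (f509658 IH) (Lpqs (f760553 IH) (Lpr_ct (f23638 IH) (Lpr_gt (f662620 IH) (Lpn v7241))))))))))))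
def v5476 : LQ := Led Lsl_at (LP (LK LD1_c3 LD2_c8 LD3_c17))
theorem f647853 : Led Lsl_at (LP (LK LD1_c3 LD2_c8 LD3_c17)) = v5476 :=
  Lrfl
theorem f647854 : Led Lsl_af (LP (LK LD1_c3 LD2_c8 LD3_c17)) = v5476 :=
  Lgr Lrot0 (Lpr_at (f647853 IH) (Lpn v5476))
theorem f647856 : Led Lsl_ft v1871 = v5476 :=
  Lgr Lrot2 (Lpe (f504649 IH) (Lpr_gt (K51.f77410 IH) (Lpr_af (f647854 IH) (Lpn v5476))))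
def v17662 : LQ := Led Lsl_at (LP (LK LD1_c6 LD2_c21 LD3_c11))
theorem f761368 : Led Lsl_at (LP (LK LD1_c6 LD2_c21 LD3_c11)) = v17662 :=
  Lrfl
theorem f761369 : Led Lsl_af (LP (LK LD1_c6 LD2_c21 LD3_c11)) = v17662 :=
  Lgr Lrot0 (Lpr_at (f761368 IH) (Lpn v17662))
theorem f761370 : Led Lsl_ft K56.v13503 = v17662 :=
  Lgr Lrot2 (Lpe (K56.f703381 IH) (Lpr_gt (K51.f703379 IH) (Lpqs (K51.f707743 IH) (Lpr_af (f761369 IH) (Lpn v17662)))))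
theorem f761372 : Led Lsl_ff K56.v13503 = v17662 :=
  Lgr Lrot3 (Lpr_ft (f761370 IH) (Lpn v17662))
def v3375 : LQ := Led Lsl_gt K56.v790
def v10538 : LQ := Led Lsl_at v3375
theorem f680798 : Led Lsl_at v3375 = v10538 :=
  Lrfl
theorem f680799 : Led Lsl_af v3375 = v10538 :=
  Lgr Lrot0 (Lpr_at (f680798 IH) (Lpn v10538))
theorem f625375 : Led Lsl_gt K56.v790 = v3375 :=
  Lrfl
theorem f680800 : Led Lsl_ft K56.v3376 = v10538 :=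
  Lgr Lrot2 (Lpe (K56.f625376 IH) (Lpr_gt (f625375 IH) (Lpr_af (f680799 IH) (Lpn v10538))))
theorem f761373 : Led Lsl_bt v10538 = v17662 :=
  Lgr Lrot35 (Lpe (f680800 IH) (Lpr_bf (K56.f680815 IH) (Lpqs (K56.f754166 IH) (Lpr_ff (f761372 IH) (Lpn v17662)))))
def v10539 : LQ := Led Lsl_bt v3375
theorem f680802 : Led Lsl_bt v3375 = v10539 :=
  Lrfl
theorem f680803 : Led Lsl_bf v3375 = v10539 :=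
  Lgr Lrot24 (Lpr_bt (f680802 IH) (Lpn v10539))
theorem f761374 : v10539 = v5476 :=
  (Llr Lrot81 (Lpe (f680803 IH) (Lpr_at (f680798 IH) (Lpr_bt (f761373 IH) (Lpe (f761369 IH) (Lpr_bt (K51.f77412 IH) (Lpr_at (f647853 IH) (Lpn v5476)))))))).symm
def v10543 : LQ := Led Lsl_ft v3375
theorem f680810 : Led Lsl_ft v3375 = v10543 :=
  Lrfl
theorem f761375 : v8183 = v10543 :=
  (Llr Lrot61 (Lpe (f670277 IH) (Lpr_ft (f647856 IH) (Lpq (f761374 IH) (Lpe (f680803 IH) (Lpr_ft (f680810 IH) (Lpn v10543))))))).symm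
def v9186 : LQ := Led Lsl_at K56.v2508
theorem f673946 : Led Lsl_at K56.v2508 = v9186 :=
  Lrfl
theorem f673947 : Led Lsl_af K56.v2508 = v9186 :=
  Lgr Lrot0 (Lpr_at (f673946 IH) (Lpn v9186))
def v2509 : LQ := Led Lsl_gf (LP (LK LD1_c1 LD2_c46 LD3_c58))
theorem f523684 : Led Lsl_gf (LP (LK LD1_c1 LD2_c46 LD3_c58)) = v2509 :=
  Lrfl
theorem f673948 : Led Lsl_ft v2509 = v9186 :=
  Lgr Lrot2 (Lpe (f523684 IH) (Lpr_gt (K56.f523681 IH) (Lpr_af (f673947 IH) (Lpn v9186))))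
theorem f673949 : Led Lsl_ff v2509 = v9186 :=
  Lgr Lrot3 (Lpr_ft (f673948 IH) (Lpn v9186))
def v10540 : LQ := Led Lsl_ct v3375
theorem f680804 : Led Lsl_ct v3375 = v10540 :=
  Lrfl
theorem f680805 : Led Lsl_cf v3375 = v10540 :=
  Lgr Lrot11 (Lpr_ct (f680804 IH) (Lpn v10540))
theorem f761376 : Led Lsl_ff v10540 = v7241 :=
  Lgr Lrot23 (Lpe (f680805 IH) (Lpr_ft (f680810 IH) (Lpq (f761375 IH) (Lpr_ct (f760633 IH) (Lpn v7241)))))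
theorem f761378 : Led Lsl_at v10540 = v7240 :=
  Lgr Lrot26 (Lpr_ff (f761376 IH) (Lpe (f662619 IH) (Lpr_gt (f662618 IH) (Lpn v7240))))
theorem f673953 : Led Lsl_cf K56.v2508 = v9188 :=
  Lgr Lrot11 (Lpr_ct (f673952 IH) (Lpn v9188))
theorem f761380 : v10538 = K56.v2508 :=
  (Llr Lrot68 (Lpe (f680799 IH) (Lpr_ct (f680804 IH) (Lpr_at (f761378 IH) (Lpq (f760590 IH) (Lpe (f673953 IH) (Lpn K56.v2508))))))).symm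
theorem f761381 : v3375 = v9186 :=
  Lefun (Lecon (Lfl_af (f680799 IH)) (f761380 IH)) (f673946 IH)
theorem f761384 : v2509 = v10543 :=
  Lefun (Lecon (Lfl_ff (f673949 IH)) (f761381 IH).symm) (f680810 IH)
theorem f625385 : Led Lsl_gf v2509 = K56.v3377 :=
  Lgr Lrot47 (Lpe (f523684 IH) (Lpr_af (K56.f459398 IH) (Lpr_ff (K56.f625381 IH) (Lpn K56.v3377))))
def v2546 : LQ := Led Lsl_et (LP (LK LD1_c1 LD2_c48 LD3_c17))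
def v9232 : LQ := Led Lsl_ft v2546
theorem f674783 : Led Lsl_ft v2546 = v9232 :=
  Lrfl
theorem f674786 : Led Lsl_ff v2546 = v9232 :=
  Lgr Lrot3 (Lpr_ft (f674783 IH) (Lpn v9232))
theorem f527309 : Led Lsl_et (LP (LK LD1_c1 LD2_c48 LD3_c17)) = v2546 :=
  Lrfl
theorem f527311 : Led Lsl_df K56.v790 = v2546 :=
  Lgr Lrot70 (Lpe (K56.f459399 IH) (Lpr_dt (K4.f124110 IH) (Lpr_et (K5.f124134 IH) (Lpr_dt (K5.f120905 IH) (Lpr_et (f527309 IH) (Lpn v2546))))))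
theorem f674789 : Led Lsl_dt K56.v3377 = v9232 :=
  Lgr Lrot60 (Lpe (K56.f625378 IH) (Lpr_df (f527311 IH) (Lpr_ff (f674786 IH) (Lpn v9232))))
theorem f134606 : Led Lsl_at (LP (LK LD1_c1 LD2_c46 LD3_c61)) = (LP (LK LD1_c1 LD2_c48 LD3_c17)) :=
  Lgr Lrot100 (Lpr_af (K5.f134595 IH) (Lpn (LP (LK LD1_c1 LD2_c48 LD3_c17))))
theorem f527310 : Led Lsl_af (LP (LK LD1_c3 LD2_c39 LD3_c58)) = v2546 :=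
  Lgr Lrot50 (Lpr_et (K1.f12450 IH) (Lpr_at (f134606 IH) (Lpr_et (f527309 IH) (Lpn v2546))))
theorem f12471 : Led Lsl_gt (LP (LK LD1_c7 LD2_c20 LD3_c4)) = (LP (LK LD1_c3 LD2_c39 LD3_c58)) :=
  Lre_g IH (LK LD1_c7 LD2_c20 LD3_c4) (LK LD1_c3 LD2_c39 LD3_c58) Lrfl Lrfl
theorem f674790 : Led Lsl_gf (LP (LK LD1_c7 LD2_c20 LD3_c4)) = v9232 :=
  Lgr Lrot47 (Lpr_gt (f12471 IH) (Lpr_af (f527310 IH) (Lpr_ff (f674786 IH) (Lpn v9232))))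
theorem f523682 : Led Lsl_ct (LP (LK LD1_c7 LD2_c20 LD3_c4)) = (LP (LK LD1_c13 LD2_c52 LD3_c24)) :=
  Lre_c IH (LK LD1_c7 LD2_c20 LD3_c4) (LK LD1_c13 LD2_c52 LD3_c24) Lrfl Lrfl
theorem f107008 : Led Lsl_ct (LP (LK LD1_c7 LD2_c26 LD3_c55)) = (LP (LK LD1_c3 LD2_c43 LD3_c6)) :=
  Lre_c IH (LK LD1_c7 LD2_c26 LD3_c55) (LK LD1_c3 LD2_c43 LD3_c6) Lrfl Lrfl
theorem f761388 : Led Lsl_gt (LP (LK LD1_c13 LD2_c52 LD3_c24)) = (LP (LK LD1_c7 LD2_c26 LD3_c55)) :=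
  Lgr Lrot150 (Lpe (f523682 IH) (Lpr_gf (f674790 IH) (Lpe (f674789 IH) (Lpe (f625385 IH) (Lpqs (f761384 IH) (Lpq (f761375 IH) (Lpr_ct (f760633 IH) (Lpe (f662619 IH) (Lpr_ct (K3.f107035 IH) (Lpe (K3.f86777 IH) (Lpe (f107008 IH) (Lpn (LP (LK LD1_c7 LD2_c26 LD3_c55))))))))))))))
theorem f761389 : Led Lsl_gt (LP (LK LD1_c13 LD2_c52 LD3_c24)) = (LP (LK LD1_c7 LD2_c26 LD3_c55)) :=
  Leop (Lpe (f761388 IH) (Lpn (LP (LK LD1_c13 LD2_c52 LD3_c24))))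
theorem seed_1182 : LEOK LG_g (LK LD1_c13 LD2_c52 LD3_c24) :=
  Leoe_g (LK LD1_c13 LD2_c52 LD3_c24) (f761389 IH)
def v9191 : LQ := Led Lsl_ft K56.v2508
theorem f673958 : Led Lsl_ft K56.v2508 = v9191 :=
  Lrfl
theorem f673959 : Led Lsl_af v2509 = v9191 :=
  Lgr Lrot45 (Lpr_ft (f673948 IH) (Lpe (f673947 IH) (Lpr_ft (f673958 IH) (Lpn v9191))))
theorem f680801 : Led Lsl_ff K56.v3376 = v10538 :=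
  Lgr Lrot3 (Lpr_ft (f680800 IH) (Lpn v10538))
theorem f761383 : K56.v3376 = v9191 :=
  Lefun (Lecon (Lfl_ff (f680801 IH)) (f761380 IH)) (f673958 IH)
theorem f680817 : Led Lsl_cf K56.v3376 = v10545 :=
  Lgr Lrot11 (Lpr_ct (f680816 IH) (Lpn v10545))
theorem f761387 : Led Lsl_af v10545 = v7241 :=
  Lgr Lrot68 (Lpe (f680817 IH) (Lpqs (f761383 IH) (Lpe (f673959 IH) (Lpqs (f761384 IH) (Lpq (f761375 IH) (Lpr_ct (f760633 IH) (Lpn v7241)))))))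
theorem f440568 : Led Lsl_ft (LP (LK LD1_c3 LD2_c13 LD3_c37)) = (LP (LK LD1_c6 LD2_c30 LD3_c56)) :=
  Lre_f IH (LK LD1_c3 LD2_c13 LD3_c37) (LK LD1_c6 LD2_c30 LD3_c56) Lrfl Lrfl
theorem f662628 : Led Lsl_at (LP (LK LD1_c6 LD2_c30 LD3_c56)) = v7242 :=
  Lgr Lrot66 (Lpe (f440568 IH) (Lpr_af (f107047 IH) (Lpr_ff (f662626 IH) (Lpn v7242))))
def v5803 : LQ := Led Lsl_gt (LP (LK LD1_c3 LD2_c13 LD3_c37))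
theorem f649512 : Led Lsl_gt (LP (LK LD1_c3 LD2_c13 LD3_c37)) = v5803 :=
  Lrfl
theorem f662632 : Led Lsl_gt v5803 = v7242 :=
  Lgr Lrot46 (Lpe (f649512 IH) (Lpr_ft (f440568 IH) (Lpr_at (f662628 IH) (Lpn v7242))))
theorem f761377 : Led Lsl_ft v10540 = v7241 :=
  Lgr Lrot48 (Lpr_ff (f761376 IH) (Lpn v7241))
theorem f761408 : v5803 = v10540 :=
  (Llr Lrot47 (Lpr_gt (f662632 IH) (Lpe (f662631 IH) (Lpq (f760542 IH) (Lpr_af (f761387 IH) (Lpe (f761377 IH) (Lpn v10540))))))).symm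
theorem f23621 : Led Lsl_ct (LP (LK LD1_c1 LD2_c33 LD3_c22)) = (LP (LK LD1_c3 LD2_c13 LD3_c37)) :=
  Lre_c IH (LK LD1_c1 LD2_c33 LD3_c22) (LK LD1_c3 LD2_c13 LD3_c37) Lrfl Lrfl
def v2006 : LQ := Led Lsl_gf (LP (LK LD1_c1 LD2_c33 LD3_c22))
theorem f506857 : Led Lsl_gf (LP (LK LD1_c1 LD2_c33 LD3_c22)) = v2006 :=
  Lrfl
theorem f760466 : (LP (LK LD1_c2 LD2_c22 LD3_c52)) = v2006 :=
  Lefun (Lecon (Lfl_gt (f634343 IH)) (f760464 IH)) (f506857 IH)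
def v5470 : LQ := Led Lsl_ft (LP (LK LD1_c3 LD2_c8 LD3_c13))
theorem f647813 : Led Lsl_ft (LP (LK LD1_c3 LD2_c8 LD3_c13)) = v5470 :=
  Lrfl
def v5468 : LQ := Led Lsl_gt (LP (LK LD1_c3 LD2_c8 LD3_c13))
theorem f647810 : Led Lsl_gt (LP (LK LD1_c3 LD2_c8 LD3_c13)) = v5468 :=
  Lrfl
theorem f77771 : Led Lsl_ft (LP (LK LD1_c3 LD2_c8 LD3_c19)) = (LP (LK LD1_c1 LD2_c30 LD3_c22)) :=
  Lre_f IH (LK LD1_c3 LD2_c8 LD3_c19) (LK LD1_c1 LD2_c30 LD3_c22) Lrfl Lrfl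
theorem f647814 : Led Lsl_af (LP (LK LD1_c3 LD2_c8 LD3_c19)) = v5470 :=
  Lgr Lrot45 (Lpr_ft (f77771 IH) (Lpr_at (K9.f77336 IH) (Lpr_ft (f647813 IH) (Lpn v5470))))
theorem f647818 : Led Lsl_gt v5468 = (LP (LK LD1_c3 LD2_c8 LD3_c19)) :=
  Lgr Lrot46 (Lpe (f647810 IH) (Lpr_ft (f647813 IH) (Lpe (f647814 IH) (Lpn (LP (LK LD1_c3 LD2_c8 LD3_c19))))))
theorem f761410 : v10539 = v5468 :=
  (Llr Lrot22 (Lpe (f680802 IH) (Lpr_ct (f680804 IH) (Lpq (f761408 IH) (Lpe (f649512 IH) (Lpe (f23621 IH) (Lpr_gf (f506857 IH) (Lpq (f760466 IH) (Lpe (f444587 IH) (Lpe (K32.f444589 IH) (Lpr_gf (K32.f444578 IH) (Lpe (K9.f77357 IH) (Lpr_bt (K16.f77140 IH) (Lpe (f647818 IH) (Lpn v5468))))))))))))))).symm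
theorem f647857 : Led Lsl_ff v1871 = v5476 :=
  Lgr Lrot3 (Lpr_ft (f647856 IH) (Lpn v5476))
def v5478 : LQ := Led Lsl_ft (LP (LK LD1_c3 LD2_c8 LD3_c17))
theorem f647861 : Led Lsl_ft (LP (LK LD1_c3 LD2_c8 LD3_c17)) = v5478 :=
  Lrfl
theorem f647863 : Led Lsl_ff (LP (LK LD1_c3 LD2_c8 LD3_c17)) = v5478 :=
  Lgr Lrot3 (Lpr_ft (f647861 IH) (Lpn v5478))
theorem f647865 : Led Lsl_at v1871 = v5478 :=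
  Lgr Lrot66 (Lpr_ff (f647857 IH) (Lpe (f647853 IH) (Lpr_ff (f647863 IH) (Lpn v5478))))
def v5469 : LQ := Led Lsl_gf (LP (LK LD1_c3 LD2_c8 LD3_c13))
theorem f647811 : Led Lsl_gf (LP (LK LD1_c3 LD2_c8 LD3_c13)) = v5469 :=
  Lrfl
theorem f647812 : Led Lsl_gt (LP (LK LD1_c3 LD2_c8 LD3_c19)) = v5469 :=
  Lgr Lrot5 (Lpr_ft (f77771 IH) (Lpr_at (K9.f77336 IH) (Lpr_gf (f647811 IH) (Lpn v5469))))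
theorem f761411 : v5478 = v5469 :=
  (Llr Lrot26 (Lpe (f647865 IH) (Lpr_ff (f647857 IH) (Lpq (f761374 IH) (Lpqs (f761410 IH) (Lpr_gt (f647818 IH) (Lpr_gt (f647812 IH) (Lpn v5469)))))))).symm
theorem f704389 : Led Lsl_bf v5469 = K52.v13695 :=
  Lgr Lrot34 (Lpe (f647812 IH) (Lpe (K16.f77140 IH) (Lpr_ct (K9.f77357 IH) (Lpe (K24.f77388 IH) (Lpe (K55.f415545 IH) (Lpe (K29.f23819 IH) (Lpe (K52.f416080 IH) (Lpr_ct (K52.f99167 IH) (Lpe (K52.f110920 IH) (Lpr_cf (K52.f704388 IH) (Lpn K52.v13695)))))))))))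
theorem f704390 : Led Lsl_bt v5469 = K52.v13695 :=
  Lgr Lrot127 (Lpr_bf (f704389 IH) (Lpn K52.v13695))
theorem f761412 : Led Lsl_ff (LP (LK LD1_c6 LD2_c21 LD3_c11)) = K52.v13695 :=
  Lgr Lrot25 (Lpr_bt (K51.f77412 IH) (Lpr_ft (f647861 IH) (Lpqs (f761411 IH) (Lpr_bt (f704390 IH) (Lpn K52.v13695)))))
def v13691 : LQ := Led Lsl_at (LP (LK LD1_c4 LD2_c47 LD3_c12))
theorem f704366 : Led Lsl_at (LP (LK LD1_c4 LD2_c47 LD3_c12)) = v13691 :=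
  Lrfl
theorem f704367 : Led Lsl_af (LP (LK LD1_c4 LD2_c47 LD3_c12)) = v13691 :=
  Lgr Lrot0 (Lpr_at (f704366 IH) (Lpn v13691))
theorem f704370 : Led Lsl_ft (LP (LK LD1_c4 LD2_c47 LD3_c13)) = v13691 :=
  Lgr Lrot2 (Lpr_gt (K52.f110920 IH) (Lpr_gt (K56.f101964 IH) (Lpr_af (f704367 IH) (Lpn v13691))))
theorem f704371 : Led Lsl_ff (LP (LK LD1_c4 LD2_c47 LD3_c13)) = v13691 :=
  Lgr Lrot3 (Lpr_ft (f704370 IH) (Lpn v13691))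
theorem f761415 : (LP (LK LD1_c9 LD2_c21 LD3_c45)) = v13691 :=
  (Llr Lrot40 (Lpr_cf (K51.f703310 IH) (Lpr_ff (f761412 IH) (Lpqs (K52.f715912 IH) (Lpq (K52.f715912 IH) (Lpe (K52.f704387 IH) (Lpr_ff (f704371 IH) (Lpn v13691)))))))).symm
theorem f761416 : Led Lsl_at (LP (LK LD1_c9 LD2_c21 LD3_c45)) = (LP (LK LD1_c4 LD2_c47 LD3_c12)) :=
  Leop (Lpr_af (f704367 IH) (Lpq (f761415 IH) (Lpn (LP (LK LD1_c9 LD2_c21 LD3_c45)))))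
theorem seed_1183 : LEOK LG_a (LK LD1_c9 LD2_c21 LD3_c45) :=
  Leoe_a (LK LD1_c9 LD2_c21 LD3_c45) (f761416 IH)
theorem f23372 : Led Lsl_gt (LP (LK LD1_c3 LD2_c23 LD3_c57)) = (LP (LK LD1_c1 LD2_c38 LD3_c14)) :=
  Lre_g IH (LK LD1_c3 LD2_c23 LD3_c57) (LK LD1_c1 LD2_c38 LD3_c14) Lrfl Lrfl
def v6592 : LQ := Led Lsl_bt (LP (LK LD1_c3 LD2_c23 LD3_c57))
theorem f654343 : Led Lsl_bt (LP (LK LD1_c3 LD2_c23 LD3_c57)) = v6592 :=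
  Lrfl
theorem f654344 : Led Lsl_bf (LP (LK LD1_c3 LD2_c23 LD3_c57)) = v6592 :=
  Lgr Lrot24 (Lpr_bt (f654343 IH) (Lpn v6592))
def v7925 : LQ := Led Lsl_gt K52.v1373
theorem f668998 : Led Lsl_gt K52.v1373 = v7925 :=
  Lrfl
theorem f668999 : Led Lsl_gf v3209 = v7925 :=
  Lgr Lrot76 (Lpe (f624618 IH) (Lpr_ff (K52.f624610 IH) (Lpqs (K52.f633587 IH) (Lpr_gt (f668998 IH) (Lpn v7925)))))
theorem f760159 : v7925 = K51.v4356 :=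
  Lefun (Lecon (f668999 IH) (f760157 IH).symm) (K51.f632896 IH)
def v13435 : LQ := Led Lsl_ft (LP (LK LD1_c4 LD2_c43 LD3_c60))
theorem f702948 : Led Lsl_ft (LP (LK LD1_c4 LD2_c43 LD3_c60)) = v13435 :=
  Lrfl
theorem f702953 : Led Lsl_ff (LP (LK LD1_c4 LD2_c43 LD3_c60)) = v13435 :=
  Lgr Lrot3 (Lpr_ft (f702948 IH) (Lpn v13435))
theorem f702958 : Led Lsl_ct K51.v4356 = v13435 :=
  Lgr Lrot40 (Lpe (K51.f632889 IH) (Lpe (K3.f91930 IH) (Lpr_ff (f702953 IH) (Lpn v13435))))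
theorem f107404 : Led Lsl_af (LP (LK LD1_c3 LD2_c14 LD3_c44)) = (LP (LK LD1_c4 LD2_c43 LD3_c60)) :=
  Lgr Lrot0 (Lpr_at (K3.f107383 IH) (Lpn (LP (LK LD1_c4 LD2_c43 LD3_c60))))
def v5902 : LQ := Led Lsl_gf (LP (LK LD1_c3 LD2_c14 LD3_c44))
theorem f649996 : Led Lsl_gf (LP (LK LD1_c3 LD2_c14 LD3_c44)) = v5902 :=
  Lrfl
theorem f702960 : Led Lsl_gf v5902 = v13435 :=
  Lgr Lrot47 (Lpe (f649996 IH) (Lpr_af (f107404 IH) (Lpr_ff (f702953 IH) (Lpn v13435))))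
theorem f760181 : Led Lsl_ct v6592 = v5902 :=
  Lgr Lrot63 (Lpe (f654344 IH) (Lpr_gt (f23372 IH) (Lpe (K2.f40435 IH) (Lpr_ct (K24.f36246 IH) (Lpr_gt (K24.f40470 IH) (Lpe (K55.f415545 IH) (Lpr_bt (K52.f495192 IH) (Lpr_gt (f668998 IH) (Lpqs (f760159 IH) (Lpr_ct (f702958 IH) (Lpe (f702960 IH) (Lpn v5902))))))))))))
theorem f107423 : Led Lsl_ct (LP (LK LD1_c3 LD2_c14 LD3_c44)) = (LP (LK LD1_c1 LD2_c33 LD3_c55)) :=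
  Lre_c IH (LK LD1_c3 LD2_c14 LD3_c44) (LK LD1_c1 LD2_c33 LD3_c55) Lrfl Lrfl
theorem f107427 : Led Lsl_ct (LP (LK LD1_c6 LD2_c32 LD3_c60)) = (LP (LK LD1_c3 LD2_c14 LD3_c45)) :=
  Lre_c IH (LK LD1_c6 LD2_c32 LD3_c60) (LK LD1_c3 LD2_c14 LD3_c45) Lrfl Lrfl
theorem f134150 : Led Lsl_gt (LP (LK LD1_c12 LD2_c33 LD3_c16)) = (LP (LK LD1_c6 LD2_c32 LD3_c60)) :=
  Lre_g IH (LK LD1_c12 LD2_c33 LD3_c16) (LK LD1_c6 LD2_c32 LD3_c60) Lrfl Lrfl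
def v17666 : LQ := Led Lsl_at (LP (LK LD1_c6 LD2_c21 LD3_c12))
theorem f761488 : Led Lsl_at (LP (LK LD1_c6 LD2_c21 LD3_c12)) = v17666 :=
  Lrfl
theorem f77411 : Led Lsl_ct (LP (LK LD1_c3 LD2_c8 LD3_c17)) = (LP (LK LD1_c6 LD2_c21 LD3_c12)) :=
  Lre_c IH (LK LD1_c3 LD2_c8 LD3_c17) (LK LD1_c6 LD2_c21 LD3_c12) Lrfl Lrfl
theorem f761491 : Led Lsl_cf v5476 = v17666 :=
  Lgr Lrot1 (Lpe (f647854 IH) (Lpr_ct (f77411 IH) (Lpr_at (f761488 IH) (Lpn v17666))))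
theorem f761492 : Led Lsl_ct v5476 = v17666 :=
  Lgr Lrot59 (Lpr_cf (f761491 IH) (Lpn v17666))
theorem f625379 : Led Lsl_af K56.v2510 = K56.v3377 :=
  Lgr Lrot45 (Lpe (K56.f523688 IH) (Lpr_at (K56.f459400 IH) (Lpr_ft (K56.f625378 IH) (Lpn K56.v3377))))
theorem f625382 : Led Lsl_gt v3375 = K56.v2510 :=
  Lgr Lrot46 (Lpe (f625375 IH) (Lpr_ft (K56.f625378 IH) (Lpe (f625379 IH) (Lpn K56.v2510))))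
theorem f664589 : Led Lsl_gf K56.v6032 = K56.v7327 :=
  Lgr Lrot47 (Lpe (K56.f650639 IH) (Lpe (K56.f141471 IH) (Lpr_ff (K56.f664584 IH) (Lpn K56.v7327))))
theorem f523686 : Led Lsl_cf (LP (LK LD1_c6 LD2_c42 LD3_c7)) = K56.v2510 :=
  Lgr Lrot108 (Lpr_ft (K56.f66480 IH) (Lpe (K7.f66465 IH) (Lpr_ft (K56.f523685 IH) (Lpn K56.v2510))))
def v9227 : LQ := Led Lsl_gf K56.v2545
theorem f674761 : Led Lsl_gf K56.v2545 = v9227 :=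
  Lrfl
theorem f674762 : Led Lsl_gt (LP (LK LD1_c6 LD2_c42 LD3_c7)) = v9227 :=
  Lgr Lrot5 (Lpr_ft (K56.f66480 IH) (Lpr_at (K56.f527307 IH) (Lpr_gf (f674761 IH) (Lpn v9227))))
theorem f716251 : Led Lsl_gt v6450 = v13931 :=
  Lgr Lrot46 (Lpe (f653462 IH) (Lpr_ft (f634008 IH) (Lpr_at (f716247 IH) (Lpn v13931))))
theorem f754165 : v13931 = v9227 :=
  Lefun (Lecon (f716251 IH) (f754162 IH).symm) (f674762 IH)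
theorem f634351 : Led Lsl_ft v2205 = v4519 :=
  Lgr Lrot48 (Lpr_ff (f634349 IH) (Lpn v4519))
theorem f716252 : Led Lsl_ct v4519 = v13931 :=
  Lgr Lrot40 (Lpe (f634351 IH) (Lpr_cf (f653468 IH) (Lpr_ff (f716250 IH) (Lpn v13931))))
def v9250 : LQ := Led Lsl_bt K49.v2559
theorem f674897 : Led Lsl_bt K49.v2559 = v9250 :=
  Lrfl
theorem f760566 : v3209 = v9250 :=
  Lefun (Lecon (Lfl_bf (f634348 IH)) (f760555 IH)) (f674897 IH)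
theorem f441695 : Led Lsl_bt (LP (LK LD1_c3 LD2_c14 LD3_c40)) = (LP (LK LD1_c1 LD2_c33 LD3_c55)) :=
  Lre_b IH (LK LD1_c3 LD2_c14 LD3_c40) (LK LD1_c1 LD2_c33 LD3_c55) Lrfl Lrfl
theorem f507835 : Led Lsl_ct (LP (LK LD1_c3 LD2_c14 LD3_c40)) = (LP (LK LD1_c6 LD2_c32 LD3_c50)) :=
  Lre_c IH (LK LD1_c3 LD2_c14 LD3_c40) (LK LD1_c6 LD2_c32 LD3_c50) Lrfl Lrfl
theorem f761498 : Led Lsl_gt (LP (LK LD1_c6 LD2_c32 LD3_c50)) = v17666 :=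
  Lgr Lrot65 (Lpe (f507835 IH) (Lpr_bt (f441695 IH) (Lpr_gf (K51.f507836 IH) (Lpqs (f760157 IH) (Lpqs (f760566 IH) (Lpe (f674897 IH) (Lpq (f760555 IH) (Lpr_ct (f716252 IH) (Lpqs (f754165 IH) (Lpe (f674762 IH) (Lpr_cf (f523686 IH) (Lpe (f625382 IH) (Lpr_bf (f680803 IH) (Lpqs (f761374 IH) (Lpr_ct (f761492 IH) (Lpn v17666))))))))))))))))
def v5899 : LQ := Led Lsl_gf (LP (LK LD1_c3 LD2_c14 LD3_c40))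
theorem f649985 : Led Lsl_gf (LP (LK LD1_c3 LD2_c14 LD3_c40)) = v5899 :=
  Lrfl
theorem f761499 : v5941 = v5899 :=
  (Llr Lrot130 (Lpe (f650148 IH) (Lpr_ct (K56.f62071 IH) (Lpqs (K56.f754235 IH) (Lpr_gf (f664589 IH) (Lpe (K56.f664587 IH) (Lpe (K56.f527783 IH) (Lpe (f625382 IH) (Lpr_bf (f680803 IH) (Lpqs (f761374 IH) (Lpr_ct (f761492 IH) (Lpe (f761498 IH) (Lpe (f507835 IH) (Lpr_gf (f649985 IH) (Lpn v5899))))))))))))))).symm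
theorem f671710 : Led Lsl_ff v2113 = v8594 :=
  Lgr Lrot3 (Lpr_ft (f671708 IH) (Lpn v8594))
def v5898 : LQ := Led Lsl_gt (LP (LK LD1_c3 LD2_c14 LD3_c40))
theorem f649984 : Led Lsl_gt (LP (LK LD1_c3 LD2_c14 LD3_c40)) = v5898 :=
  Lrfl
theorem f761500 : v8591 = v5898 :=
  (Llr Lrot26 (Lpe (f671698 IH) (Lpr_ff (f671710 IH) (Lpq (f760664 IH) (Lpqs (f761499 IH) (Lpe (f649985 IH) (Lpr_gt (f649984 IH) (Lpn v5898)))))))).symm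
theorem f760657 : Led Lsl_bt v13401 = v8591 :=
  Lgr Lrot127 (Lpr_bf (f760656 IH) (Lpn v8591))
theorem f760690 : v8587 = K56.v5938 :=
  Lefun (Lecon (f671688 IH) (f760685 IH)) (K56.f650138 IH)
theorem f671691 : Led Lsl_ft K51.v2116 = v8587 :=
  Lgr Lrot48 (Lpr_ff (f671690 IH) (Lpn v8587))
def v17510 : LQ := Led Lsl_ft (LP (LK LD1_c6 LD2_c19 LD3_c52))
theorem f760313 : Led Lsl_ft (LP (LK LD1_c6 LD2_c19 LD3_c52)) = v17510 :=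
  Lrfl
theorem f760740 : K51.v8601 = v17510 :=
  (Llr Lrot108 (Lpe (f671728 IH) (Lpr_ft (f671691 IH) (Lpqs (f760690 IH) (Lpqs (f760463 IH) (Lpq (f760463 IH) (Lpe (K56.f712649 IH) (Lpr_ft (f760313 IH) (Lpn v17510))))))))).symm
theorem f760315 : Led Lsl_ff (LP (LK LD1_c6 LD2_c19 LD3_c52)) = v17510 :=
  Lgr Lrot3 (Lpr_ft (f760313 IH) (Lpn v17510))
def v17508 : LQ := Led Lsl_at (LP (LK LD1_c6 LD2_c19 LD3_c52))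
theorem f760307 : Led Lsl_at (LP (LK LD1_c6 LD2_c19 LD3_c52)) = v17508 :=
  Lrfl
def v13324 : LQ := Led Lsl_gt (LP (LK LD1_c4 LD2_c43 LD3_c9))
theorem f702345 : Led Lsl_gt (LP (LK LD1_c4 LD2_c43 LD3_c9)) = v13324 :=
  Lrfl
theorem f760741 : v17508 = v13324 :=
  (Llr Lrot26 (Lpe (f760307 IH) (Lpr_ff (f760315 IH) (Lpq (f760740 IH) (Lpq (K51.f707736 IH) (Lpe (K51.f702346 IH) (Lpr_gt (f702345 IH) (Lpn v13324)))))))).symm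
theorem f760742 : Led Lsl_cf v13401 = v13324 :=
  Lgr Lrot1 (Lpr_at (f760655 IH) (Lpqs (f760690 IH) (Lpe (K56.f712649 IH) (Lpr_at (f760307 IH) (Lpqs (f760741 IH) (Lpn v13324))))))
theorem f760743 : Led Lsl_ct v13401 = v13324 :=
  Lgr Lrot59 (Lpr_cf (f760742 IH) (Lpn v13324))
theorem f702349 : Led Lsl_af K51.v5407 = K52.v13326 :=
  Lgr Lrot45 (Lpe (K51.f647505 IH) (Lpr_at (K51.f136068 IH) (Lpr_ft (K52.f702348 IH) (Lpn K52.v13326))))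
theorem f702353 : Led Lsl_gt v13324 = K51.v5407 :=
  Lgr Lrot46 (Lpe (f702345 IH) (Lpr_ft (K52.f702348 IH) (Lpe (f702349 IH) (Lpn K51.v5407))))
def v13432 : LQ := Led Lsl_gf (LP (LK LD1_c4 LD2_c43 LD3_c58))
theorem f702931 : Led Lsl_gf (LP (LK LD1_c4 LD2_c43 LD3_c58)) = v13432 :=
  Lrfl
theorem f702932 : Led Lsl_gt K51.v5405 = v13432 :=
  Lgr Lrot5 (Lpe (K51.f647499 IH) (Lpr_at (K3.f107493 IH) (Lpr_gf (f702931 IH) (Lpn v13432))))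
theorem f107420 : Led Lsl_bt (LP (LK LD1_c1 LD2_c33 LD3_c55)) = (LP (LK LD1_c3 LD2_c14 LD3_c40)) :=
  Lre_b IH (LK LD1_c1 LD2_c33 LD3_c55) (LK LD1_c3 LD2_c14 LD3_c40) Lrfl Lrfl
theorem f761501 : v13432 = v6592 :=
  (Llr Lrot82 (Lpe (f702932 IH) (Lpe (K51.f647500 IH) (Lpr_ct (K51.f647507 IH) (Lpe (f702353 IH) (Lpe (f760743 IH) (Lpr_bt (f760657 IH) (Lpqs (f761500 IH) (Lpe (f649984 IH) (Lpe (f107420 IH) (Lpr_ct (K3.f107407 IH) (Lpr_gf (f649996 IH) (Lpe (f760181 IH) (Lpn v6592)))))))))))))).symm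
theorem f760193 : Led Lsl_df K51.v5405 = v17503 :=
  Lgr Lrot78 (Lpe (K51.f647499 IH) (Lpr_dt (K3.f61919 IH) (Lpr_ft (f760191 IH) (Lpn v17503))))
theorem f760195 : Led Lsl_ff (LP (LK LD1_c6 LD2_c19 LD3_c49)) = v17503 :=
  Lgr Lrot3 (Lpr_ft (f760191 IH) (Lpn v17503))
theorem f759711 : Led Lsl_dt (LP (LK LD1_c6 LD2_c23 LD3_c16)) = v17426 :=
  Lgr Lrot42 (Lpr_df (f759705 IH) (Lpn v17426))
theorem f83599 : Led Lsl_bt (LP (LK LD1_c12 LD2_c20 LD3_c0)) = (LP (LK LD1_c6 LD2_c23 LD3_c16)) :=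
  Lre_b IH (LK LD1_c12 LD2_c20 LD3_c0) (LK LD1_c6 LD2_c23 LD3_c16) Lrfl Lrfl
def v7341 : LQ := Led Lsl_et (LP (LK LD1_c3 LD2_c45 LD3_c20))
theorem f664644 : Led Lsl_et (LP (LK LD1_c3 LD2_c45 LD3_c20)) = v7341 :=
  Lrfl
theorem f664645 : Led Lsl_bf (LP (LK LD1_c6 LD2_c19 LD3_c3)) = v7341 :=
  Lgr Lrot96 (Lpr_et (K2.f68217 IH) (Lpr_bt (K51.f646450 IH) (Lpr_et (f664644 IH) (Lpn v7341))))
theorem f649458 : Led Lsl_et (LP (LK LD1_c12 LD2_c2 LD3_c36)) = (LP (LK LD1_c6 LD2_c11 LD3_c7)) :=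
  Lre_e IH (LK LD1_c12 LD2_c2 LD3_c36) (LK LD1_c6 LD2_c11 LD3_c7) Lrfl Lrfl
theorem f646563 : Led Lsl_ff (LP (LK LD1_c3 LD2_c2 LD3_c11)) = K56.v5212 :=
  Lgr Lrot3 (Lpr_ft (K56.f646562 IH) (Lpn K56.v5212))
def v5214 : LQ := Led Lsl_ft (LP (LK LD1_c3 LD2_c2 LD3_c10))
theorem f646567 : Led Lsl_ft (LP (LK LD1_c3 LD2_c2 LD3_c10)) = v5214 :=
  Lrfl
theorem f646570 : Led Lsl_ff (LP (LK LD1_c3 LD2_c2 LD3_c10)) = v5214 :=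
  Lgr Lrot3 (Lpr_ft (f646567 IH) (Lpn v5214))
theorem f646571 : Led Lsl_at (LP (LK LD1_c3 LD2_c2 LD3_c11)) = v5214 :=
  Lgr Lrot66 (Lpr_ff (f646563 IH) (Lpe (K56.f646557 IH) (Lpr_ff (f646570 IH) (Lpn v5214))))
theorem f709647 : v5214 = (LP (LK LD1_c6 LD2_c10 LD3_c14)) :=
  (Llr Lrot26 (Lpe (f646571 IH) (Lpr_ff (f646563 IH) (Lpq (K56.f709646 IH) (Lpe (K46.f646441 IH) (Lpr_gt (K51.f504422 IH) (Lpn (LP (LK LD1_c6 LD2_c10 LD3_c14))))))))).symm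
theorem f651370 : Led Lsl_ct (LP (LK LD1_c6 LD2_c10 LD3_c14)) = (LP (LK LD1_c3 LD2_c45 LD3_c21)) :=
  Lgr Lrot59 (Lpr_cf (K46.f651368 IH) (Lpn (LP (LK LD1_c3 LD2_c45 LD3_c21))))
theorem f709652 : (LP (LK LD1_c6 LD2_c11 LD3_c7)) = K51.v7339 :=
  (Llr Lrot108 (Lpr_ct (K46.f504414 IH) (Lpr_ft (f646567 IH) (Lpqs (f709647 IH) (Lpr_ct (f651370 IH) (Lpr_ft (K51.f664637 IH) (Lpn K51.v7339))))))).symm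
theorem f709657 : Led Lsl_af (LP (LK LD1_c12 LD2_c2 LD3_c36)) = v7341 :=
  Lgr Lrot50 (Lpr_et (f649458 IH) (Lpqs (f709652 IH) (Lpe (K51.f664636 IH) (Lpr_et (f664644 IH) (Lpn v7341)))))
theorem f709658 : Led Lsl_at (LP (LK LD1_c12 LD2_c2 LD3_c36)) = v7341 :=
  Lgr Lrot100 (Lpr_af (f709657 IH) (Lpn v7341))
theorem f90484 : Led Lsl_et (LP (LK LD1_c12 LD2_c0 LD3_c3)) = (LP (LK LD1_c21 LD2_c4 LD3_c53)) :=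
  Lre_e IH (LK LD1_c12 LD2_c0 LD3_c3) (LK LD1_c21 LD2_c4 LD3_c53) Lrfl Lrfl
theorem f708660 : Led Lsl_bt (LP (LK LD1_c21 LD2_c4 LD3_c53)) = (LP (LK LD1_c12 LD2_c2 LD3_c36)) :=
  Lgr Lrot119 (Lpe (f90484 IH) (Lpr_bf (K51.f708656 IH) (Lpe (f649458 IH) (Lpn (LP (LK LD1_c12 LD2_c2 LD3_c36))))))
theorem f90376 : Led Lsl_et (LP (LK LD1_c21 LD2_c4 LD3_c53)) = (LP (LK LD1_c12 LD2_c0 LD3_c3)) :=
  Lre_e IH (LK LD1_c21 LD2_c4 LD3_c53) (LK LD1_c12 LD2_c0 LD3_c3) Lrfl Lrfl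
theorem f709631 : Led Lsl_at (LP (LK LD1_c12 LD2_c27 LD3_c50)) = (LP (LK LD1_c21 LD2_c4 LD3_c53)) :=
  Lgr Lrot80 (Lpe (f709486 IH) (Lpr_af (K51.f709588 IH) (Lpe (f90376 IH) (Lpn (LP (LK LD1_c21 LD2_c4 LD3_c53))))))
theorem f759701 : Led Lsl_bf (LP (LK LD1_c12 LD2_c27 LD3_c50)) = v17426 :=
  Lgr Lrot81 (Lpr_at (f709631 IH) (Lpr_bt (f708660 IH) (Lpr_at (f709658 IH) (Lpe (f664645 IH) (Lpr_at (f759699 IH) (Lpn v17426))))))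
theorem f759715 : Led Lsl_df (LP (LK LD1_c12 LD2_c20 LD3_c0)) = (LP (LK LD1_c12 LD2_c27 LD3_c50)) :=
  Lgr Lrot12 (Lpr_bt (f83599 IH) (Lpr_dt (f759711 IH) (Lpe (f759701 IH) (Lpn (LP (LK LD1_c12 LD2_c27 LD3_c50))))))
theorem f440108 : Led Lsl_et (LP (LK LD1_c12 LD2_c27 LD3_c50)) = (LP (LK LD1_c6 LD2_c28 LD3_c17)) :=
  Lre_e IH (LK LD1_c12 LD2_c27 LD3_c50) (LK LD1_c6 LD2_c28 LD3_c17) Lrfl Lrfl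
theorem f113118 : Led Lsl_gf (LP (LK LD1_c1 LD2_c6 LD3_c37)) = (LP (LK LD1_c1 LD2_c41 LD3_c1)) :=
  Lgr Lrot47 (Lpr_gt (K4.f113116 IH) (Lpe (K4.f90140 IH) (Lpe (K2.f88767 IH) (Lpn (LP (LK LD1_c1 LD2_c41 LD3_c1))))))
theorem f759719 : Led Lsl_gt (LP (LK LD1_c12 LD2_c20 LD3_c0)) = (LP (LK LD1_c9 LD2_c20 LD3_c48)) :=
  Lgr Lrot112 (Lpr_df (f759715 IH) (Lpr_et (f440108 IH) (Lpe (K51.f62913 IH) (Lpe (K4.f62922 IH) (Lpr_dt (K5.f113062 IH) (Lpr_gf (f113118 IH) (Lpr_df (K3.f90362 IH) (Lpr_gf (K3.f103184 IH) (Lpe (K2.f23533 IH) (Lpr_dt (f23531 IH) (Lpn (LP (LK LD1_c9 LD2_c20 LD3_c48)))))))))))))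
theorem f760199 : Led Lsl_gf (LP (LK LD1_c12 LD2_c20 LD3_c0)) = v17503 :=
  Lgr Lrot47 (Lpr_gt (f759719 IH) (Lpe (K3.f107487 IH) (Lpr_ff (f760195 IH) (Lpn v17503))))
theorem f761502 : Led Lsl_cf (LP (LK LD1_c12 LD2_c33 LD3_c16)) = (LP (LK LD1_c12 LD2_c20 LD3_c0)) :=
  Lgr Lrot169 (Lpr_gt (f134150 IH) (Lpr_ct (f107427 IH) (Lpe (K3.f103526 IH) (Lpe (f107423 IH) (Lpr_gf (f649996 IH) (Lpe (f760181 IH) (Lpq (f761501 IH) (Lpe (f702932 IH) (Lpr_df (f760193 IH) (Lpe (f760199 IH) (Lpn (LP (LK LD1_c12 LD2_c20 LD3_c0)))))))))))))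
theorem f761503 : Led Lsl_ct (LP (LK LD1_c12 LD2_c20 LD3_c0)) = (LP (LK LD1_c12 LD2_c33 LD3_c16)) :=
  Leop (Lpr_cf (f761502 IH) (Lpn (LP (LK LD1_c12 LD2_c20 LD3_c0))))
theorem seed_1184 : LEOK LG_c (LK LD1_c12 LD2_c20 LD3_c0) :=
  Leoe_c (LK LD1_c12 LD2_c20 LD3_c0) (f761503 IH)
def v6591 : LQ := Led Lsl_ft (LP (LK LD1_c3 LD2_c23 LD3_c56))
theorem f654336 : Led Lsl_ft (LP (LK LD1_c3 LD2_c23 LD3_c56)) = v6591 :=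
  Lrfl
theorem f654338 : Led Lsl_ff (LP (LK LD1_c3 LD2_c23 LD3_c56)) = v6591 :=
  Lgr Lrot3 (Lpr_ft (f654336 IH) (Lpn v6591))
def v9336 : LQ := Led Lsl_ft K56.v2610
theorem f675436 : Led Lsl_ft K56.v2610 = v9336 :=
  Lrfl
theorem f754201 : Led Lsl_bf v6591 = v9336 :=
  Lgr Lrot61 (Lpe (f654338 IH) (Lpr_bt (K56.f654332 IH) (Lpq (K56.f754199 IH) (Lpr_ft (f675436 IH) (Lpn v9336)))))
def v6505 : LQ := Led Lsl_gf (LP (LK LD1_c3 LD2_c22 LD3_c53))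
theorem f653685 : Led Lsl_gf (LP (LK LD1_c3 LD2_c22 LD3_c53)) = v6505 :=
  Lrfl
theorem f83563 : Led Lsl_ft (LP (LK LD1_c3 LD2_c23 LD3_c55)) = (LP (LK LD1_c1 LD2_c38 LD3_c14)) :=
  Lre_f IH (LK LD1_c3 LD2_c23 LD3_c55) (LK LD1_c1 LD2_c38 LD3_c14) Lrfl Lrfl
theorem f653686 : Led Lsl_gt (LP (LK LD1_c3 LD2_c23 LD3_c55)) = v6505 :=
  Lgr Lrot5 (Lpr_ft (f83563 IH) (Lpr_at (K2.f77329 IH) (Lpr_gf (f653685 IH) (Lpn v6505))))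
theorem f63833 : Led Lsl_gt (LP (LK LD1_c3 LD2_c18 LD3_c20)) = (LP (LK LD1_c1 LD2_c35 LD3_c38)) :=
  Lre_g IH (LK LD1_c3 LD2_c18 LD3_c20) (LK LD1_c1 LD2_c35 LD3_c38) Lrfl Lrfl
def v6138 : LQ := Led Lsl_ct (LP (LK LD1_c3 LD2_c18 LD3_c20))
theorem f651473 : Led Lsl_ct (LP (LK LD1_c3 LD2_c18 LD3_c20)) = v6138 :=
  Lrfl
theorem f651474 : Led Lsl_cf (LP (LK LD1_c3 LD2_c18 LD3_c20)) = v6138 :=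
  Lgr Lrot11 (Lpr_ct (f651473 IH) (Lpn v6138))
theorem f653687 : Led Lsl_bt v6138 = v6505 :=
  Lgr Lrot92 (Lpe (f651474 IH) (Lpr_gt (f63833 IH) (Lpe (K46.f415754 IH) (Lpr_bt (K51.f415753 IH) (Lpr_gt (K0.f25407 IH) (Lpr_ct (K48.f415648 IH) (Lpr_gt (K46.f415150 IH) (Lpr_cf (K2.f40467 IH) (Lpr_bt (K2.f40496 IH) (Lpr_gt (f653686 IH) (Lpn v6505)))))))))))
theorem f754203 : Led Lsl_bt v6591 = v9336 :=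
  Lgr Lrot127 (Lpr_bf (f754201 IH) (Lpn v9336))
def v6589 : LQ := Led Lsl_at (LP (LK LD1_c3 LD2_c23 LD3_c56))
theorem f654327 : Led Lsl_at (LP (LK LD1_c3 LD2_c23 LD3_c56)) = v6589 :=
  Lrfl
theorem f654328 : Led Lsl_af (LP (LK LD1_c3 LD2_c23 LD3_c56)) = v6589 :=
  Lgr Lrot0 (Lpr_at (f654327 IH) (Lpn v6589))
theorem f654329 : Led Lsl_ft (LP (LK LD1_c3 LD2_c23 LD3_c57)) = v6589 :=
  Lgr Lrot2 (Lpr_gt (f23372 IH) (Lpr_gt (K2.f40448 IH) (Lpr_af (f654328 IH) (Lpn v6589))))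
theorem f654331 : Led Lsl_ff (LP (LK LD1_c3 LD2_c23 LD3_c57)) = v6589 :=
  Lgr Lrot3 (Lpr_ft (f654329 IH) (Lpn v6589))
theorem f654342 : Led Lsl_at (LP (LK LD1_c3 LD2_c23 LD3_c57)) = v6591 :=
  Lgr Lrot66 (Lpr_ff (f654331 IH) (Lpe (f654327 IH) (Lpr_ff (f654338 IH) (Lpn v6591))))
def v9331 : LQ := Led Lsl_at K56.v2610
theorem f675421 : Led Lsl_at K56.v2610 = v9331 :=
  Lrfl
theorem f675422 : Led Lsl_af K56.v2610 = v9331 :=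
  Lgr Lrot0 (Lpr_at (f675421 IH) (Lpn v9331))
def v2611 : LQ := Led Lsl_gf (LP (LK LD1_c1 LD2_c49 LD3_c40))
theorem f527781 : Led Lsl_gf (LP (LK LD1_c1 LD2_c49 LD3_c40)) = v2611 :=
  Lrfl
theorem f675423 : Led Lsl_ft v2611 = v9331 :=
  Lgr Lrot2 (Lpe (f527781 IH) (Lpr_gt (K56.f527780 IH) (Lpr_af (f675422 IH) (Lpn v9331))))
theorem f675437 : Led Lsl_af v2611 = v9336 :=
  Lgr Lrot45 (Lpr_ft (f675423 IH) (Lpe (f675422 IH) (Lpr_ft (f675436 IH) (Lpn v9336))))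
def v9337 : LQ := Led Lsl_bt v2611
theorem f675440 : Led Lsl_bt v2611 = v9337 :=
  Lrfl
theorem f754204 : Led Lsl_af v6592 = v9337 :=
  Lgr Lrot36 (Lpe (f654344 IH) (Lpr_at (f654342 IH) (Lpr_bt (f754203 IH) (Lpe (f675437 IH) (Lpr_bt (f675440 IH) (Lpn v9337))))))
theorem f761523 : Led Lsl_ff v9337 = K51.v13431 :=
  Lgr Lrot52 (Lpe (f754204 IH) (Lpq (f761501 IH) (Lpe (f702932 IH) (Lpe (K51.f702938 IH) (Lpn K51.v13431)))))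
theorem f675441 : Led Lsl_bf v2611 = v9337 :=
  Lgr Lrot24 (Lpr_bt (f675440 IH) (Lpn v9337))
theorem f761526 : v9331 = K51.v6135 :=
  (Llr Lrot75 (Lpe (f675423 IH) (Lpr_bf (f675441 IH) (Lpr_ff (f761523 IH) (Lpe (K51.f707737 IH) (Lpn K51.v6135)))))).symm
def v9338 : LQ := Led Lsl_ct v2611
theorem f675442 : Led Lsl_ct v2611 = v9338 :=
  Lrfl
theorem f675443 : Led Lsl_cf v2611 = v9338 :=
  Lgr Lrot11 (Lpr_ct (f675442 IH) (Lpn v9338))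
def v6137 : LQ := Led Lsl_ft (LP (LK LD1_c3 LD2_c18 LD3_c19))
theorem f651469 : Led Lsl_ft (LP (LK LD1_c3 LD2_c18 LD3_c19)) = v6137 :=
  Lrfl
theorem f761527 : v9338 = v6137 :=
  (Llr Lrot108 (Lpe (f675443 IH) (Lpr_ft (f675423 IH) (Lpqs (f761526 IH) (Lpe (K51.f651460 IH) (Lpr_ft (f651469 IH) (Lpn v6137))))))).symm
def v6134 : LQ := Led Lsl_at (LP (LK LD1_c3 LD2_c18 LD3_c19))
theorem f651447 : Led Lsl_at (LP (LK LD1_c3 LD2_c18 LD3_c19)) = v6134 :=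
  Lrfl
theorem f651448 : Led Lsl_af (LP (LK LD1_c3 LD2_c18 LD3_c19)) = v6134 :=
  Lgr Lrot0 (Lpr_at (f651447 IH) (Lpn v6134))
theorem f651452 : Led Lsl_ft (LP (LK LD1_c3 LD2_c18 LD3_c20)) = v6134 :=
  Lgr Lrot2 (Lpr_gt (f63833 IH) (Lpr_gt (K46.f96048 IH) (Lpr_af (f651448 IH) (Lpn v6134))))
theorem f651470 : Led Lsl_af (LP (LK LD1_c3 LD2_c18 LD3_c20)) = v6137 :=
  Lgr Lrot45 (Lpr_ft (f651452 IH) (Lpe (f651448 IH) (Lpr_ft (f651469 IH) (Lpn v6137))))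
theorem f761528 : v9336 = v6138 :=
  (Llr Lrot68 (Lpe (f675437 IH) (Lpr_ct (f675442 IH) (Lpqs (f761527 IH) (Lpe (f651470 IH) (Lpr_ct (f651473 IH) (Lpn v6138))))))).symm
theorem f761529 : v6591 = v6505 :=
  Lefun (Lecon (Lfl_bf (f754201 IH)) (f761528 IH)) (f653687 IH)
theorem f77343 : Led Lsl_gt (LP (LK LD1_c3 LD2_c22 LD3_c53)) = (LP (LK LD1_c6 LD2_c49 LD3_c17)) :=
  Lre_g IH (LK LD1_c3 LD2_c22 LD3_c53) (LK LD1_c6 LD2_c49 LD3_c17) Lrfl Lrfl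
theorem f761530 : v6589 = (LP (LK LD1_c6 LD2_c49 LD3_c17)) :=
  (Llr Lrot26 (Lpe (f654327 IH) (Lpr_ff (f654338 IH) (Lpqs (f761529 IH) (Lpe (f653685 IH) (Lpr_gt (f77343 IH) (Lpn (LP (LK LD1_c6 LD2_c49 LD3_c17))))))))).symm
theorem f761531 : Led Lsl_at (LP (LK LD1_c6 LD2_c49 LD3_c17)) = (LP (LK LD1_c3 LD2_c23 LD3_c56)) :=
  Leop (Lpr_af (f654328 IH) (Lpqs (f761530 IH) (Lpn (LP (LK LD1_c6 LD2_c49 LD3_c17)))))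
theorem seed_1185 : LEOK LG_a (LK LD1_c6 LD2_c49 LD3_c17) :=
  Leoe_a (LK LD1_c6 LD2_c49 LD3_c17) (f761531 IH)
theorem f761525 : Led Lsl_ft v9337 = K51.v13431 :=
  Lgr Lrot48 (Lpr_ff (f761523 IH) (Lpn K51.v13431))
theorem f632890 : Led Lsl_af v2031 = K51.v4356 :=
  Lgr Lrot45 (Lpe (f507841 IH) (Lpr_at (f107418 IH) (Lpr_ft (K51.f632889 IH) (Lpn K51.v4356))))
theorem f632893 : Led Lsl_gt (LP (LK LD1_c4 LD2_c43 LD3_c61)) = v2031 :=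
  Lgr Lrot46 (Lpe (f91931 IH) (Lpr_ft (K51.f632889 IH) (Lpe (f632890 IH) (Lpn v2031))))
def v5903 : LQ := Led Lsl_ft (LP (LK LD1_c3 LD2_c14 LD3_c44))
theorem f649997 : Led Lsl_ft (LP (LK LD1_c3 LD2_c14 LD3_c44)) = v5903 :=
  Lrfl
theorem f649999 : Led Lsl_ff (LP (LK LD1_c3 LD2_c14 LD3_c44)) = v5903 :=
  Lgr Lrot3 (Lpr_ft (f649997 IH) (Lpn v5903))
theorem f650000 : Led Lsl_ct v2031 = v5903 :=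
  Lgr Lrot40 (Lpe (f507840 IH) (Lpe (f107423 IH) (Lpr_ff (f649999 IH) (Lpn v5903))))
def v13434 : LQ := Led Lsl_gf (LP (LK LD1_c4 LD2_c43 LD3_c60))
theorem f702944 : Led Lsl_gf (LP (LK LD1_c4 LD2_c43 LD3_c60)) = v13434 :=
  Lrfl
theorem f702945 : Led Lsl_gt v5903 = v13434 :=
  Lgr Lrot5 (Lpe (f649999 IH) (Lpr_at (K3.f107383 IH) (Lpr_gf (f702944 IH) (Lpn v13434))))
theorem f760259 : Led Lsl_ct v9337 = v13434 :=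
  Lgr Lrot63 (Lpe (f675441 IH) (Lpe (f527781 IH) (Lpe (K1.f12466 IH) (Lpr_ct (K7.f66473 IH) (Lpr_gt (f652061 IH) (Lpq (f754195 IH) (Lpe (f653469 IH) (Lpr_bt (f669006 IH) (Lpqs (f760229 IH) (Lpr_gt (f632893 IH) (Lpr_ct (f650000 IH) (Lpr_gt (f702945 IH) (Lpn v13434)))))))))))))
theorem f760268 : Led Lsl_cf v9337 = v13434 :=
  Lgr Lrot11 (Lpr_ct (f760259 IH) (Lpn v13434))
theorem f760270 : Led Lsl_at v5902 = v13434 :=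
  Lgr Lrot107 (Lpe (f760181 IH) (Lpr_af (f754204 IH) (Lpr_cf (f760268 IH) (Lpn v13434))))
theorem f91920 : Led Lsl_gt (LP (LK LD1_c4 LD2_c43 LD3_c60)) = (LP (LK LD1_c9 LD2_c20 LD3_c49)) :=
  Lre_g IH (LK LD1_c4 LD2_c43 LD3_c60) (LK LD1_c9 LD2_c20 LD3_c49) Lrfl Lrfl
theorem f702949 : Led Lsl_af v5903 = v13435 :=
  Lgr Lrot45 (Lpe (f649999 IH) (Lpr_at (K3.f107383 IH) (Lpr_ft (f702948 IH) (Lpn v13435))))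
theorem f702954 : Led Lsl_gt (LP (LK LD1_c9 LD2_c20 LD3_c49)) = v5903 :=
  Lgr Lrot46 (Lpe (f91920 IH) (Lpr_ft (f702948 IH) (Lpe (f702949 IH) (Lpn v5903))))
theorem f760271 : Led Lsl_ff v5902 = (LP (LK LD1_c9 LD2_c20 LD3_c49)) :=
  Lgr Lrot52 (Lpr_at (f760270 IH) (Lpe (f702945 IH) (Lpe (f702954 IH) (Lpn (LP (LK LD1_c9 LD2_c20 LD3_c49))))))
theorem f760272 : Led Lsl_ft v5902 = (LP (LK LD1_c9 LD2_c20 LD3_c49)) :=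
  Lgr Lrot48 (Lpr_ff (f760271 IH) (Lpn (LP (LK LD1_c9 LD2_c20 LD3_c49))))
def v5901 : LQ := Led Lsl_gt (LP (LK LD1_c3 LD2_c14 LD3_c44))
theorem f649995 : Led Lsl_gt (LP (LK LD1_c3 LD2_c14 LD3_c44)) = v5901 :=
  Lrfl
theorem f760274 : Led Lsl_af v5901 = (LP (LK LD1_c9 LD2_c20 LD3_c49)) :=
  Lgr Lrot31 (Lpe (f649995 IH) (Lpr_gf (f649996 IH) (Lpr_ft (f760272 IH) (Lpn (LP (LK LD1_c9 LD2_c20 LD3_c49))))))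
theorem f654337 : Led Lsl_af (LP (LK LD1_c3 LD2_c23 LD3_c57)) = v6591 :=
  Lgr Lrot45 (Lpr_ft (f654329 IH) (Lpe (f654328 IH) (Lpr_ft (f654336 IH) (Lpn v6591))))
theorem f675438 : Led Lsl_ff K56.v2610 = v9336 :=
  Lgr Lrot3 (Lpr_ft (f675436 IH) (Lpn v9336))
theorem f675424 : Led Lsl_ff v2611 = v9331 :=
  Lgr Lrot3 (Lpr_ft (f675423 IH) (Lpn v9331))
theorem f675439 : Led Lsl_at v2611 = v9336 :=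
  Lgr Lrot66 (Lpr_ff (f675424 IH) (Lpe (f675421 IH) (Lpr_ff (f675438 IH) (Lpn v9336))))
theorem f754202 : Led Lsl_at v6592 = v9337 :=
  Lgr Lrot67 (Lpe (f654343 IH) (Lpr_af (f654337 IH) (Lpr_bf (f754201 IH) (Lpe (f675439 IH) (Lpr_bf (f675441 IH) (Lpn v9337))))))
theorem f760182 : Led Lsl_cf v6592 = v5902 :=
  Lgr Lrot11 (Lpr_ct (f760181 IH) (Lpn v5902))
theorem f760267 : Led Lsl_af v5902 = v13434 :=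
  Lgr Lrot68 (Lpe (f760182 IH) (Lpr_at (f754202 IH) (Lpr_ct (f760259 IH) (Lpn v13434))))
theorem f760276 : Led Lsl_ft v5901 = v13434 :=
  Lgr Lrot101 (Lpr_af (f760274 IH) (Lpe (f760272 IH) (Lpr_af (f760267 IH) (Lpn v13434))))
theorem f761549 : Led Lsl_cf v5901 = K51.v13431 :=
  Lgr Lrot108 (Lpr_ft (f760276 IH) (Lpe (f760268 IH) (Lpr_ft (f761525 IH) (Lpn K51.v13431))))
theorem f760275 : Led Lsl_at v5901 = (LP (LK LD1_c9 LD2_c20 LD3_c49)) :=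
  Lgr Lrot100 (Lpr_af (f760274 IH) (Lpn (LP (LK LD1_c9 LD2_c20 LD3_c49))))
def v17496 : LQ := Led Lsl_at (LP (LK LD1_c6 LD2_c19 LD3_c48))
theorem f760130 : Led Lsl_at (LP (LK LD1_c6 LD2_c19 LD3_c48)) = v17496 :=
  Lrfl
theorem f760131 : Led Lsl_af (LP (LK LD1_c6 LD2_c19 LD3_c48)) = v17496 :=
  Lgr Lrot0 (Lpr_at (f760130 IH) (Lpn v17496))
theorem f61921 : Led Lsl_gt (LP (LK LD1_c3 LD2_c7 LD3_c27)) = (LP (LK LD1_c6 LD2_c19 LD3_c48)) :=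
  Lre_g IH (LK LD1_c3 LD2_c7 LD3_c27) (LK LD1_c6 LD2_c19 LD3_c48) Lrfl Lrfl
def v5404 : LQ := Led Lsl_gf (LP (LK LD1_c3 LD2_c7 LD3_c27))
theorem f647496 : Led Lsl_gf (LP (LK LD1_c3 LD2_c7 LD3_c27)) = v5404 :=
  Lrfl
theorem f760132 : Led Lsl_ft v5404 = v17496 :=
  Lgr Lrot2 (Lpe (f647496 IH) (Lpr_gt (f61921 IH) (Lpr_af (f760131 IH) (Lpn v17496))))
theorem f761544 : K56.v9333 = v6134 :=
  (Llr Lrot108 (Lpe (K56.f675428 IH) (Lpr_ft (f675436 IH) (Lpqs (f761528 IH) (Lpe (f651474 IH) (Lpr_ft (f651452 IH) (Lpn v6134))))))).symm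
theorem f651457 : Led Lsl_ff (LP (LK LD1_c3 LD2_c18 LD3_c20)) = v6134 :=
  Lgr Lrot3 (Lpr_ft (f651452 IH) (Lpn v6134))
theorem f651471 : Led Lsl_ff (LP (LK LD1_c3 LD2_c18 LD3_c19)) = v6137 :=
  Lgr Lrot3 (Lpr_ft (f651469 IH) (Lpn v6137))
theorem f651472 : Led Lsl_at (LP (LK LD1_c3 LD2_c18 LD3_c20)) = v6137 :=
  Lgr Lrot66 (Lpr_ff (f651457 IH) (Lpe (f651447 IH) (Lpr_ff (f651471 IH) (Lpn v6137))))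
def v5936 : LQ := Led Lsl_gf (LP (LK LD1_c3 LD2_c15 LD3_c8))
theorem f650122 : Led Lsl_gf (LP (LK LD1_c3 LD2_c15 LD3_c8)) = v5936 :=
  Lrfl
theorem f508825 : Led Lsl_at (LP (LK LD1_c1 LD2_c35 LD3_c38)) = (LP (LK LD1_c3 LD2_c15 LD3_c8)) :=
  Lre_a IH (LK LD1_c1 LD2_c35 LD3_c38) (LK LD1_c3 LD2_c15 LD3_c8) Lrfl Lrfl
theorem f650123 : Led Lsl_ft (LP (LK LD1_c3 LD2_c18 LD3_c18)) = (LP (LK LD1_c1 LD2_c35 LD3_c38)) :=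
  Lre_f IH (LK LD1_c3 LD2_c18 LD3_c18) (LK LD1_c1 LD2_c35 LD3_c38) Lrfl Lrfl
theorem f650124 : Led Lsl_gt (LP (LK LD1_c3 LD2_c18 LD3_c18)) = v5936 :=
  Lgr Lrot5 (Lpr_ft (f650123 IH) (Lpr_at (f508825 IH) (Lpr_gf (f650122 IH) (Lpn v5936))))
theorem f761545 : v6137 = v5936 :=
  (Llr Lrot26 (Lpe (f651472 IH) (Lpr_ff (f651457 IH) (Lpq (f761544 IH) (Lpqs (K56.f754198 IH) (Lpe (K56.f650113 IH) (Lpr_gt (f650124 IH) (Lpn v5936)))))))).symm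
theorem f761546 : v9337 = v5404 :=
  (Llr Lrot130 (Lpe (f675440 IH) (Lpr_ct (f675442 IH) (Lpqs (f761527 IH) (Lpqs (f761545 IH) (Lpe (f650124 IH) (Lpe (K56.f444665 IH) (Lpr_bt (K56.f444664 IH) (Lpe (K24.f20139 IH) (Lpr_bf (K52.f495193 IH) (Lpr_ct (K52.f669010 IH) (Lpq (K52.f715910 IH) (Lpe (K52.f652521 IH) (Lpe (K52.f61917 IH) (Lpr_gf (f647496 IH) (Lpn v5404)))))))))))))))).symm
theorem f761548 : K51.v13431 = v17496 :=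
  Lefun (Lecon (f761525 IH) (f761546 IH)) (f760132 IH)
def v17498 : LQ := Led Lsl_ct (LP (LK LD1_c6 LD2_c19 LD3_c48))
theorem f760136 : Led Lsl_ct (LP (LK LD1_c6 LD2_c19 LD3_c48)) = v17498 :=
  Lrfl
theorem f760137 : Led Lsl_cf (LP (LK LD1_c6 LD2_c19 LD3_c48)) = v17498 :=
  Lgr Lrot11 (Lpr_ct (f760136 IH) (Lpn v17498))
theorem f761551 : (LP (LK LD1_c9 LD2_c20 LD3_c49)) = v17498 :=
  (Llr Lrot107 (Lpe (f760275 IH) (Lpr_cf (f761549 IH) (Lpqs (f761548 IH) (Lpe (f760130 IH) (Lpr_cf (f760137 IH) (Lpn v17498))))))).symm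
theorem f761552 : Led Lsl_ct (LP (LK LD1_c9 LD2_c20 LD3_c49)) = (LP (LK LD1_c6 LD2_c19 LD3_c48)) :=
  Leop (Lpr_cf (f760137 IH) (Lpq (f761551 IH) (Lpn (LP (LK LD1_c9 LD2_c20 LD3_c49)))))
theorem seed_1186 : LEOK LG_c (LK LD1_c9 LD2_c20 LD3_c49) :=
  Leoe_c (LK LD1_c9 LD2_c20 LD3_c49) (f761552 IH)
theorem f707739 : Led Lsl_bf K51.v6135 = K51.v13431 :=
  Lgr Lrot24 (Lpr_bt (K51.f707737 IH) (Lpn K51.v13431))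
def v17497 : LQ := Led Lsl_bt (LP (LK LD1_c6 LD2_c19 LD3_c48))
theorem f760134 : Led Lsl_bt (LP (LK LD1_c6 LD2_c19 LD3_c48)) = v17497 :=
  Lrfl
theorem f760135 : Led Lsl_bf (LP (LK LD1_c6 LD2_c19 LD3_c48)) = v17497 :=
  Lgr Lrot24 (Lpr_bt (f760134 IH) (Lpn v17497))
def v9332 : LQ := Led Lsl_bt K56.v2610
theorem f675425 : Led Lsl_bt K56.v2610 = v9332 :=
  Lrfl
theorem f754200 : (LP (LK LD1_c3 LD2_c23 LD3_c56)) = v9332 :=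
  Lefun (Lecon (Lfl_bf (K56.f654333 IH)) (K56.f754199 IH).symm) (f675425 IH)
theorem f761558 : v17497 = v6589 :=
  (Llr Lrot81 (Lpe (f760135 IH) (Lpr_at (f760130 IH) (Lpq (f761548 IH) (Lpe (f707739 IH) (Lpq (f761526 IH) (Lpe (f675422 IH) (Lpr_bt (f675425 IH) (Lpq (f754200 IH) (Lpr_at (f654327 IH) (Lpn v6589))))))))))).symm
theorem f761559 : Led Lsl_bt (LP (LK LD1_c6 LD2_c49 LD3_c17)) = (LP (LK LD1_c6 LD2_c19 LD3_c48)) :=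
  Leop (Lpr_bf (f760135 IH) (Lpqs (f761558 IH) (Lpqs (f761530 IH) (Lpn (LP (LK LD1_c6 LD2_c49 LD3_c17))))))
theorem seed_1187 : LEOK LG_b (LK LD1_c6 LD2_c49 LD3_c17) :=
  Leoe_b (LK LD1_c6 LD2_c49 LD3_c17) (f761559 IH)
theorem f77344 : Led Lsl_ct (LP (LK LD1_c6 LD2_c49 LD3_c17)) = (LP (LK LD1_c13 LD2_c0 LD3_c49)) :=
  Lre_c IH (LK LD1_c6 LD2_c49 LD3_c17) (LK LD1_c13 LD2_c0 LD3_c49) Lrfl Lrfl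
theorem f702937 : Led Lsl_ff (LP (LK LD1_c4 LD2_c43 LD3_c58)) = K51.v13433 :=
  Lgr Lrot3 (Lpr_ft (K51.f702933 IH) (Lpn K51.v13433))
theorem f702939 : Led Lsl_at K51.v5405 = K51.v13433 :=
  Lgr Lrot66 (Lpe (K51.f647497 IH) (Lpr_af (K3.f107491 IH) (Lpr_ff (f702937 IH) (Lpn K51.v13433))))
theorem f702943 : Led Lsl_gt (LP (LK LD1_c6 LD2_c19 LD3_c48)) = K51.v13433 :=
  Lgr Lrot46 (Lpe (f61921 IH) (Lpr_ft (K51.f647497 IH) (Lpr_at (f702939 IH) (Lpn K51.v13433))))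
theorem f439954 : Led Lsl_et (LP (LK LD1_c3 LD2_c43 LD3_c3)) = (LP (LK LD1_c7 LD2_c26 LD3_c51)) :=
  Lre_e IH (LK LD1_c3 LD2_c43 LD3_c3) (LK LD1_c7 LD2_c26 LD3_c51) Lrfl Lrfl
theorem f439955 : Led Lsl_et (LP (LK LD1_c13 LD2_c1 LD3_c4)) = (LP (LK LD1_c6 LD2_c49 LD3_c46)) :=
  Lre_e IH (LK LD1_c13 LD2_c1 LD3_c4) (LK LD1_c6 LD2_c49 LD3_c46) Lrfl Lrfl
theorem f439956 : Led Lsl_ct (LP (LK LD1_c7 LD2_c26 LD3_c51)) = (LP (LK LD1_c13 LD2_c1 LD3_c4)) :=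
  Lgr Lrot15 (Lpe (f439954 IH) (Lpr_cf (K40.f439944 IH) (Lpe (f439955 IH) (Lpn (LP (LK LD1_c13 LD2_c1 LD3_c4))))))
theorem f439974 : Led Lsl_cf (LP (LK LD1_c7 LD2_c26 LD3_c51)) = (LP (LK LD1_c13 LD2_c1 LD3_c4)) :=
  Lgr Lrot11 (Lpr_ct (f439956 IH) (Lpn (LP (LK LD1_c13 LD2_c1 LD3_c4))))
theorem f439977 : Led Lsl_bt (LP (LK LD1_c7 LD2_c26 LD3_c51)) = (LP (LK LD1_c3 LD2_c43 LD3_c5)) :=
  Lre_b IH (LK LD1_c7 LD2_c26 LD3_c51) (LK LD1_c3 LD2_c43 LD3_c5) Lrfl Lrfl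
theorem f107046 : Led Lsl_bt (LP (LK LD1_c1 LD2_c48 LD3_c37)) = (LP (LK LD1_c3 LD2_c43 LD3_c1)) :=
  Lre_b IH (LK LD1_c1 LD2_c48 LD3_c37) (LK LD1_c3 LD2_c43 LD3_c1) Lrfl Lrfl
theorem f439978 : Led Lsl_bt (LP (LK LD1_c6 LD2_c49 LD3_c47)) = (LP (LK LD1_c13 LD2_c1 LD3_c4)) :=
  Lre_b IH (LK LD1_c6 LD2_c49 LD3_c47) (LK LD1_c13 LD2_c1 LD3_c4) Lrfl Lrfl
theorem f439979 : Led Lsl_ct (LP (LK LD1_c3 LD2_c43 LD3_c1)) = (LP (LK LD1_c6 LD2_c49 LD3_c47)) :=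
  Lgr Lrot83 (Lpe (f107046 IH) (Lpe (K3.f107035 IH) (Lpe (f439977 IH) (Lpr_cf (f439974 IH) (Lpe (f439978 IH) (Lpn (LP (LK LD1_c6 LD2_c49 LD3_c47))))))))
theorem f761561 : Led Lsl_gf (LP (LK LD1_c13 LD2_c0 LD3_c49)) = (LP (LK LD1_c6 LD2_c49 LD3_c47)) :=
  Lgr Lrot126 (Lpe (f77344 IH) (Lpq (f761530 IH) (Lpq (f761558 IH) (Lpe (f760135 IH) (Lpr_gt (f702943 IH) (Lpe (K52.f715537 IH) (Lpr_gt (f715538 IH) (Lpq (f715911 IH) (Lpe (f679011 IH) (Lpq (f760157 IH) (Lpr_bt (f671169 IH) (Lpq (f760161 IH) (Lpqs (f760555 IH) (Lpe (K49.f527480 IH) (Lpe (f128992 IH) (Lpr_ct (f439979 IH) (Lpn (LP (LK LD1_c6 LD2_c49 LD3_c47)))))))))))))))))))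
theorem f761562 : Led Lsl_gt (LP (LK LD1_c6 LD2_c49 LD3_c47)) = (LP (LK LD1_c13 LD2_c0 LD3_c49)) :=
  Leop (Lpr_gf (f761561 IH) (Lpn (LP (LK LD1_c6 LD2_c49 LD3_c47))))
theorem seed_1188 : LEOK LG_g (LK LD1_c6 LD2_c49 LD3_c47) :=
  Leoe_g (LK LD1_c6 LD2_c49 LD3_c47) (f761562 IH)
theorem f651449 : Led Lsl_bt (LP (LK LD1_c6 LD2_c40 LD3_c36)) = (LP (LK LD1_c3 LD2_c18 LD3_c19)) :=
  Lre_b IH (LK LD1_c6 LD2_c40 LD3_c36) (LK LD1_c3 LD2_c18 LD3_c19) Lrfl Lrfl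
theorem f707461 : Led Lsl_gt (LP (LK LD1_c7 LD2_c43 LD3_c59)) = (LP (LK LD1_c14 LD2_c34 LD3_c49)) :=
  Lre_g IH (LK LD1_c7 LD2_c43 LD3_c59) (LK LD1_c14 LD2_c34 LD3_c49) Lrfl Lrfl
theorem f631933 : Led Lsl_bt (LP (LK LD1_c2 LD2_c16 LD3_c11)) = (LP (LK LD1_c1 LD2_c35 LD3_c38)) :=
  Lre_b IH (LK LD1_c2 LD2_c16 LD3_c11) (LK LD1_c1 LD2_c35 LD3_c38) Lrfl Lrfl
theorem f713656 : Led Lsl_cf (LP (LK LD1_c7 LD2_c43 LD3_c59)) = (LP (LK LD1_c6 LD2_c40 LD3_c36)) :=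
  Lgr Lrot160 (Lpr_gt (f707461 IH) (Lpr_cf (K53.f713634 IH) (Lpr_bt (K53.f700668 IH) (Lpr_gt (K50.f700664 IH) (Lpr_ct (K45.f631948 IH) (Lpr_gt (K45.f415659 IH) (Lpe (K54.f140543 IH) (Lpr_bt (f631933 IH) (Lpr_gt (K46.f96048 IH) (Lpe (f651449 IH) (Lpn (LP (LK LD1_c6 LD2_c40 LD3_c36)))))))))))))
theorem f713658 : Led Lsl_ct (LP (LK LD1_c7 LD2_c43 LD3_c59)) = (LP (LK LD1_c6 LD2_c40 LD3_c36)) :=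
  Lgr Lrot59 (Lpr_cf (f713656 IH) (Lpn (LP (LK LD1_c6 LD2_c40 LD3_c36))))
theorem f761550 : Led Lsl_bt v5901 = (LP (LK LD1_c7 LD2_c43 LD3_c59)) :=
  Lgr Lrot128 (Lpr_cf (f761549 IH) (Lpe (K51.f707737 IH) (Lpe (K51.f651459 IH) (Lpe (f651449 IH) (Lpe (f713658 IH) (Lpn (LP (LK LD1_c7 LD2_c43 LD3_c59))))))))
theorem f760277 : Led Lsl_ff v5901 = v13434 :=
  Lgr Lrot3 (Lpr_ft (f760276 IH) (Lpn v13434))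
theorem f761524 : Led Lsl_ct v5901 = K51.v13431 :=
  Lgr Lrot40 (Lpr_ff (f760277 IH) (Lpe (f760259 IH) (Lpr_ff (f761523 IH) (Lpn K51.v13431))))
theorem f652525 : Led Lsl_cf K51.v5405 = K51.v6274 :=
  Lgr Lrot108 (Lpe (K51.f647499 IH) (Lpr_ct (K52.f61917 IH) (Lpr_ft (K51.f652523 IH) (Lpn K51.v6274))))
theorem f109761 : Led Lsl_ft (LP (LK LD1_c3 LD2_c46 LD3_c4)) = (LP (LK LD1_c1 LD2_c50 LD3_c6)) :=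
  Lre_f IH (LK LD1_c3 LD2_c46 LD3_c4) (LK LD1_c1 LD2_c50 LD3_c6) Lrfl Lrfl
theorem f652524 : Led Lsl_bf (LP (LK LD1_c3 LD2_c46 LD3_c4)) = K51.v6274 :=
  Lgr Lrot61 (Lpr_ft (f109761 IH) (Lpe (K52.f109802 IH) (Lpr_ft (K51.f652523 IH) (Lpn K51.v6274))))
theorem f64798 : Led Lsl_gt (LP (LK LD1_c7 LD2_c0 LD3_c59)) = (LP (LK LD1_c3 LD2_c29 LD3_c42)) :=
  Lre_g IH (LK LD1_c7 LD2_c0 LD3_c59) (LK LD1_c3 LD2_c29 LD3_c42) Lrfl Lrfl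
theorem f109855 : Led Lsl_gf (LP (LK LD1_c7 LD2_c0 LD3_c59)) = (LP (LK LD1_c3 LD2_c46 LD3_c4)) :=
  Lgr Lrot47 (Lpr_gt (f64798 IH) (Lpr_af (K3.f109704 IH) (Lpe (f109761 IH) (Lpn (LP (LK LD1_c3 LD2_c46 LD3_c4))))))
theorem f65307 : Led Lsl_gt (LP (LK LD1_c3 LD2_c51 LD3_c16)) = (LP (LK LD1_c7 LD2_c43 LD3_c59)) :=
  Lre_g IH (LK LD1_c3 LD2_c51 LD3_c16) (LK LD1_c7 LD2_c43 LD3_c59) Lrfl Lrfl
theorem f65279 : Led Lsl_bt (LP (LK LD1_c1 LD2_c52 LD3_c29)) = (LP (LK LD1_c3 LD2_c51 LD3_c16)) :=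
  Lre_b IH (LK LD1_c1 LD2_c52 LD3_c29) (LK LD1_c3 LD2_c51 LD3_c16) Lrfl Lrfl
theorem f65304 : Led Lsl_gt (LP (LK LD1_c6 LD2_c35 LD3_c8)) = (LP (LK LD1_c3 LD2_c15 LD3_c55)) :=
  Lre_g IH (LK LD1_c6 LD2_c35 LD3_c8) (LK LD1_c3 LD2_c15 LD3_c55) Lrfl Lrfl
theorem f761567 : Led Lsl_ct (LP (LK LD1_c7 LD2_c0 LD3_c59)) = (LP (LK LD1_c6 LD2_c35 LD3_c8)) :=
  Lgr Lrot91 (Lpr_gf (f109855 IH) (Lpr_bf (f652524 IH) (Lpe (f652525 IH) (Lpe (K51.f702938 IH) (Lpe (f761524 IH) (Lpr_bt (f761550 IH) (Lpe (f65307 IH) (Lpe (f65279 IH) (Lpr_ct (K6.f65285 IH) (Lpe (f65304 IH) (Lpn (LP (LK LD1_c6 LD2_c35 LD3_c8)))))))))))))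
theorem f761568 : Led Lsl_ct (LP (LK LD1_c7 LD2_c0 LD3_c59)) = (LP (LK LD1_c6 LD2_c35 LD3_c8)) :=
  Leop (Lpe (f761567 IH) (Lpn (LP (LK LD1_c7 LD2_c0 LD3_c59))))
theorem seed_1189 : LEOK LG_c (LK LD1_c7 LD2_c0 LD3_c59) :=
  Leoe_c (LK LD1_c7 LD2_c0 LD3_c59) (f761568 IH)
theorem f12475 : Led Lsl_bt (LP (LK LD1_c3 LD2_c45 LD3_c6)) = (LP (LK LD1_c7 LD2_c30 LD3_c59)) :=
  Lre_b IH (LK LD1_c3 LD2_c45 LD3_c6) (LK LD1_c7 LD2_c30 LD3_c59) Lrfl Lrfl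
theorem f66509 : Led Lsl_gt (LP (LK LD1_c7 LD2_c30 LD3_c59)) = (LP (LK LD1_c14 LD2_c11 LD3_c16)) :=
  Lre_g IH (LK LD1_c7 LD2_c30 LD3_c59) (LK LD1_c14 LD2_c11 LD3_c16) Lrfl Lrfl
theorem f634016 : Led Lsl_bt (LP (LK LD1_c4 LD2_c38 LD3_c14)) = (LP (LK LD1_c3 LD2_c18 LD3_c18)) :=
  Lre_b IH (LK LD1_c4 LD2_c38 LD3_c14) (LK LD1_c3 LD2_c18 LD3_c18) Lrfl Lrfl
theorem f116962 : Led Lsl_ct (LP (LK LD1_c9 LD2_c11 LD3_c2)) = (LP (LK LD1_c4 LD2_c37 LD3_c43)) :=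
  Lre_c IH (LK LD1_c9 LD2_c11 LD3_c2) (LK LD1_c4 LD2_c37 LD3_c43) Lrfl Lrfl
theorem f761589 : Led Lsl_bf (LP (LK LD1_c14 LD2_c11 LD3_c16)) = (LP (LK LD1_c9 LD2_c11 LD3_c2)) :=
  Lgr Lrot34 (Lpe (f66509 IH) (Lpe (f12475 IH) (Lpr_ct (K7.f12478 IH) (Lpr_gf (f527781 IH) (Lpr_cf (f675443 IH) (Lpqs (f761527 IH) (Lpqs (f761545 IH) (Lpe (f650124 IH) (Lpe (f634016 IH) (Lpr_ct (K51.f415833 IH) (Lpe (K36.f116940 IH) (Lpe (f116962 IH) (Lpn (LP (LK LD1_c9 LD2_c11 LD3_c2)))))))))))))))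
theorem f761590 : Led Lsl_bt (LP (LK LD1_c9 LD2_c11 LD3_c2)) = (LP (LK LD1_c14 LD2_c11 LD3_c16)) :=
  Leop (Lpr_bf (f761589 IH) (Lpn (LP (LK LD1_c9 LD2_c11 LD3_c2))))
theorem seed_1190 : LEOK LG_b (LK LD1_c9 LD2_c11 LD3_c2) :=
  Leoe_b (LK LD1_c9 LD2_c11 LD3_c2) (f761590 IH)
def v17676 : LQ := Led Lsl_dt (LP (LK LD1_c6 LD2_c21 LD3_c15))
theorem f761664 : Led Lsl_dt (LP (LK LD1_c6 LD2_c21 LD3_c15)) = v17676 :=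
  Lrfl
theorem f761665 : Led Lsl_df (LP (LK LD1_c6 LD2_c21 LD3_c15)) = v17676 :=
  Lgr Lrot38 (Lpr_dt (f761664 IH) (Lpn v17676))
theorem f77121 : Led Lsl_gt (LP (LK LD1_c6 LD2_c21 LD3_c15)) = (LP (LK LD1_c3 LD2_c8 LD3_c18)) :=
  Lre_g IH (LK LD1_c6 LD2_c21 LD3_c15) (LK LD1_c3 LD2_c8 LD3_c18) Lrfl Lrfl
theorem f77769 : Led Lsl_dt (LP (LK LD1_c1 LD2_c30 LD3_c22)) = (LP (LK LD1_c3 LD2_c8 LD3_c18)) :=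
  Lre_d IH (LK LD1_c1 LD2_c30 LD3_c22) (LK LD1_c3 LD2_c8 LD3_c18) Lrfl Lrfl
theorem f67025 : Led Lsl_gt (LP (LK LD1_c3 LD2_c12 LD3_c36)) = (LP (LK LD1_c6 LD2_c29 LD3_c18)) :=
  Lre_g IH (LK LD1_c3 LD2_c12 LD3_c36) (LK LD1_c6 LD2_c29 LD3_c18) Lrfl Lrfl
theorem f761666 : Led Lsl_ef (LP (LK LD1_c6 LD2_c29 LD3_c18)) = v17676 :=
  Lgr Lrot17 (Lpe (f67025 IH) (Lpe (K2.f67008 IH) (Lpr_dt (K2.f76699 IH) (Lpe (K2.f77789 IH) (Lpe (K2.f77791 IH) (Lpr_gf (K2.f78122 IH) (Lpe (K2.f77101 IH) (Lpr_dt (f77769 IH) (Lpe (f77121 IH) (Lpr_df (f761665 IH) (Lpn v17676)))))))))))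
theorem f761668 : Led Lsl_et (LP (LK LD1_c6 LD2_c29 LD3_c18)) = v17676 :=
  Lgr Lrot87 (Lpr_ef (f761666 IH) (Lpn v17676))
theorem f61483 : Led Lsl_gt (LP (LK LD1_c3 LD2_c12 LD3_c41)) = (LP (LK LD1_c6 LD2_c29 LD3_c19)) :=
  Lre_g IH (LK LD1_c3 LD2_c12 LD3_c41) (LK LD1_c6 LD2_c29 LD3_c19) Lrfl Lrfl
theorem f701386 : Led Lsl_bf (LP (LK LD1_c6 LD2_c29 LD3_c19)) = v13145 :=
  Lgr Lrot34 (Lpe (f61483 IH) (Lpe (K2.f61482 IH) (Lpr_ct (K2.f61432 IH) (Lpe (K16.f413640 IH) (Lpe (K16.f180335 IH) (Lpe (K0.f23263 IH) (Lpe (f413663 IH) (Lpr_ct (f413664 IH) (Lpe (f78696 IH) (Lpr_cf (f701381 IH) (Lpn v13145)))))))))))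
theorem f701387 : Led Lsl_bt (LP (LK LD1_c6 LD2_c29 LD3_c19)) = v13145 :=
  Lgr Lrot127 (Lpr_bf (f701386 IH) (Lpn v13145))
theorem f759183 : Led Lsl_ff (LP (LK LD1_c6 LD2_c29 LD3_c28)) = v13145 :=
  Lgr Lrot25 (Lpr_bt (K9.f61605 IH) (Lpr_ft (f649141 IH) (Lpqs (f759178 IH) (Lpr_bt (f701387 IH) (Lpn v13145)))))
theorem f701327 : Led Lsl_ff (LP (LK LD1_c4 LD2_c40 LD3_c42)) = v13142 :=
  Lgr Lrot3 (Lpr_ft (f701323 IH) (Lpn v13142))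
theorem f759191 : (LP (LK LD1_c9 LD2_c16 LD3_c3)) = v13142 :=
  (Llr Lrot40 (Lpr_cf (K9.f139941 IH) (Lpr_ff (f759183 IH) (Lpq (f708514 IH) (Lpqs (f708514 IH) (Lpe (f701379 IH) (Lpr_ff (f701327 IH) (Lpn v13142)))))))).symm
theorem f701374 : Led Lsl_ff (LP (LK LD1_c4 LD2_c40 LD3_c41)) = v13144 :=
  Lgr Lrot3 (Lpr_ft (f701371 IH) (Lpn v13144))
theorem f701375 : Led Lsl_at (LP (LK LD1_c4 LD2_c40 LD3_c42)) = v13144 :=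
  Lgr Lrot66 (Lpr_ff (f701327 IH) (Lpe (f701315 IH) (Lpr_ff (f701374 IH) (Lpn v13144))))
theorem f759250 : v13144 = (LP (LK LD1_c9 LD2_c16 LD3_c4)) :=
  (Llr Lrot26 (Lpe (f701375 IH) (Lpr_ff (f701327 IH) (Lpq (f759191 IH) (Lpr_gt (K9.f101954 IH) (Lpr_gt (K53.f103223 IH) (Lpn (LP (LK LD1_c9 LD2_c16 LD3_c4))))))))).symm
theorem f701319 : Led Lsl_dt (LP (LK LD1_c9 LD2_c16 LD3_c47)) = (LP (LK LD1_c4 LD2_c40 LD3_c41)) :=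
  Lre_d IH (LK LD1_c9 LD2_c16 LD3_c47) (LK LD1_c4 LD2_c40 LD3_c41) Lrfl Lrfl
theorem f443922 : Led Lsl_dt (LP (LK LD1_c9 LD2_c16 LD3_c4)) = (LP (LK LD1_c17 LD2_c10 LD3_c42)) :=
  Lre_d IH (LK LD1_c9 LD2_c16 LD3_c4) (LK LD1_c17 LD2_c10 LD3_c42) Lrfl Lrfl
theorem f759259 : Led Lsl_ff (LP (LK LD1_c9 LD2_c16 LD3_c47)) = (LP (LK LD1_c17 LD2_c10 LD3_c42)) :=
  Lgr Lrot19 (Lpr_dt (f701319 IH) (Lpr_ft (f701371 IH) (Lpqs (f759250 IH) (Lpr_dt (f443922 IH) (Lpn (LP (LK LD1_c17 LD2_c10 LD3_c42)))))))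
theorem f759266 : Led Lsl_ft (LP (LK LD1_c9 LD2_c16 LD3_c47)) = (LP (LK LD1_c17 LD2_c10 LD3_c42)) :=
  Lgr Lrot48 (Lpr_ff (f759259 IH) (Lpn (LP (LK LD1_c17 LD2_c10 LD3_c42))))
theorem f759233 : Led Lsl_bt (LP (LK LD1_c17 LD2_c11 LD3_c43)) = (LP (LK LD1_c9 LD2_c16 LD3_c47)) :=
  Lre_b IH (LK LD1_c17 LD2_c11 LD3_c43) (LK LD1_c9 LD2_c16 LD3_c47) Lrfl Lrfl
theorem f759270 : Led Lsl_bt (LP (LK LD1_c17 LD2_c10 LD3_c42)) = (LP (LK LD1_c27 LD2_c2 LD3_c5)) :=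
  Lre_b IH (LK LD1_c17 LD2_c10 LD3_c42) (LK LD1_c27 LD2_c2 LD3_c5) Lrfl Lrfl
theorem f759271 : Led Lsl_ff (LP (LK LD1_c17 LD2_c11 LD3_c43)) = (LP (LK LD1_c27 LD2_c2 LD3_c5)) :=
  Lgr Lrot25 (Lpr_bt (f759233 IH) (Lpr_ft (f759266 IH) (Lpr_bt (f759270 IH) (Lpn (LP (LK LD1_c27 LD2_c2 LD3_c5))))))
theorem f701350 : Led Lsl_dt (LP (LK LD1_c17 LD2_c11 LD3_c43)) = (LP (LK LD1_c9 LD2_c16 LD3_c46)) :=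
  Lre_d IH (LK LD1_c17 LD2_c11 LD3_c43) (LK LD1_c9 LD2_c16 LD3_c46) Lrfl Lrfl
theorem f715361 : Led Lsl_dt (LP (LK LD1_c17 LD2_c10 LD3_c41)) = (LP (LK LD1_c27 LD2_c2 LD3_c5)) :=
  Lre_d IH (LK LD1_c17 LD2_c10 LD3_c41) (LK LD1_c27 LD2_c2 LD3_c5) Lrfl Lrfl
theorem f759273 : Led Lsl_ft (LP (LK LD1_c9 LD2_c16 LD3_c46)) = (LP (LK LD1_c17 LD2_c10 LD3_c41)) :=
  Lgr Lrot54 (Lpe (f701350 IH) (Lpr_ff (f759271 IH) (Lpe (f715361 IH) (Lpn (LP (LK LD1_c17 LD2_c10 LD3_c41))))))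
theorem f759278 : Led Lsl_ff (LP (LK LD1_c14 LD2_c4 LD3_c50)) = (LP (LK LD1_c12 LD2_c31 LD3_c15)) :=
  Lgr Lrot23 (Lpr_ct (K50.f701341 IH) (Lpr_ft (f759273 IH) (Lpr_ct (K52.f715352 IH) (Lpn (LP (LK LD1_c12 LD2_c31 LD3_c15))))))
theorem f759285 : Led Lsl_ft (LP (LK LD1_c14 LD2_c4 LD3_c50)) = (LP (LK LD1_c12 LD2_c31 LD3_c15)) :=
  Lgr Lrot48 (Lpr_ff (f759278 IH) (Lpn (LP (LK LD1_c12 LD2_c31 LD3_c15))))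
theorem f759297 : Led Lsl_ff (LP (LK LD1_c7 LD2_c27 LD3_c13)) = (LP (LK LD1_c6 LD2_c31 LD3_c29)) :=
  Lgr Lrot25 (Lpr_bt (K50.f663146 IH) (Lpr_ft (f759285 IH) (Lpr_bt (K52.f209292 IH) (Lpn (LP (LK LD1_c6 LD2_c31 LD3_c29))))))
theorem f759300 : Led Lsl_at (LP (LK LD1_c7 LD2_c27 LD3_c13)) = (LP (LK LD1_c6 LD2_c31 LD3_c28)) :=
  Lgr Lrot26 (Lpr_ff (f759297 IH) (Lpr_gt (K48.f209291 IH) (Lpr_gt (K46.f147533 IH) (Lpn (LP (LK LD1_c6 LD2_c31 LD3_c28))))))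
theorem f673999 : Led Lsl_ct (LP (LK LD1_c6 LD2_c31 LD3_c28)) = K51.v5565 :=
  Lgr Lrot59 (Lpr_cf (K51.f673992 IH) (Lpn K51.v5565))
theorem f759304 : Led Lsl_af (LP (LK LD1_c6 LD2_c52 LD3_c44)) = K51.v5565 :=
  Lgr Lrot68 (Lpe (K50.f663144 IH) (Lpr_at (f759300 IH) (Lpr_ct (f673999 IH) (Lpn K51.v5565))))
theorem f759310 : Led Lsl_ft K49.v6661 = K51.v5565 :=
  Lgr Lrot2 (Lpe (K49.f657526 IH) (Lpr_gt (K50.f209006 IH) (Lpr_af (f759304 IH) (Lpn K51.v5565))))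
theorem f759315 : v5738 = (LP (LK LD1_c6 LD2_c29 LD3_c18)) :=
  (Llr Lrot25 (Lpe (f649136 IH) (Lpr_bt (K49.f649137 IH) (Lpqs (K49.f674240 IH) (Lpr_ft (f759310 IH) (Lpe (K51.f674000 IH) (Lpn (LP (LK LD1_c6 LD2_c29 LD3_c18))))))))).symm
theorem f76647 : Led Lsl_et (LP (LK LD1_c6 LD2_c29 LD3_c30)) = (LP (LK LD1_c3 LD2_c12 LD3_c39)) :=
  Lre_e IH (LK LD1_c6 LD2_c29 LD3_c30) (LK LD1_c3 LD2_c12 LD3_c39) Lrfl Lrfl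
theorem f761669 : Led Lsl_af (LP (LK LD1_c6 LD2_c29 LD3_c30)) = v17676 :=
  Lgr Lrot50 (Lpr_et (f76647 IH) (Lpr_at (f649133 IH) (Lpqs (f759315 IH) (Lpr_et (f761668 IH) (Lpn v17676)))))
theorem f77630 : Led Lsl_gt (LP (LK LD1_c12 LD2_c16 LD3_c12)) = (LP (LK LD1_c6 LD2_c21 LD3_c6)) :=
  Lre_g IH (LK LD1_c12 LD2_c16 LD3_c12) (LK LD1_c6 LD2_c21 LD3_c6) Lrfl Lrfl
theorem f79628 : Led Lsl_dt (LP (LK LD1_c6 LD2_c29 LD3_c30)) = (LP (LK LD1_c12 LD2_c16 LD3_c12)) :=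
  Lgr Lrot136 (Lpr_et (f76647 IH) (Lpe (K9.f61435 IH) (Lpe (K3.f76905 IH) (Lpr_dt (K2.f76431 IH) (Lpe (K4.f61225 IH) (Lpr_df (K4.f79623 IH) (Lpe (K4.f77776 IH) (Lpe (K2.f77189 IH) (Lpr_dt (K6.f77334 IH) (Lpe (f77630 IH) (Lpn (LP (LK LD1_c12 LD2_c16 LD3_c12)))))))))))))
def v17675 : LQ := Led Lsl_ft (LP (LK LD1_c6 LD2_c21 LD3_c14))
theorem f761660 : Led Lsl_ft (LP (LK LD1_c6 LD2_c21 LD3_c14)) = v17675 :=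
  Lrfl
def v17673 : LQ := Led Lsl_at (LP (LK LD1_c6 LD2_c21 LD3_c14))
theorem f761649 : Led Lsl_at (LP (LK LD1_c6 LD2_c21 LD3_c14)) = v17673 :=
  Lrfl
theorem f761650 : Led Lsl_af (LP (LK LD1_c6 LD2_c21 LD3_c14)) = v17673 :=
  Lgr Lrot0 (Lpr_at (f761649 IH) (Lpn v17673))
theorem f77119 : Led Lsl_gt (LP (LK LD1_c3 LD2_c8 LD3_c18)) = (LP (LK LD1_c6 LD2_c21 LD3_c14)) :=
  Lre_g IH (LK LD1_c3 LD2_c8 LD3_c18) (LK LD1_c6 LD2_c21 LD3_c14) Lrfl Lrfl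
theorem f761653 : Led Lsl_ft (LP (LK LD1_c6 LD2_c21 LD3_c15)) = v17673 :=
  Lgr Lrot2 (Lpr_gt (f77121 IH) (Lpr_gt (f77119 IH) (Lpr_af (f761650 IH) (Lpn v17673))))
theorem f761661 : Led Lsl_af (LP (LK LD1_c6 LD2_c21 LD3_c15)) = v17675 :=
  Lgr Lrot45 (Lpr_ft (f761653 IH) (Lpe (f761650 IH) (Lpr_ft (f761660 IH) (Lpn v17675))))
theorem f761670 : (LP (LK LD1_c12 LD2_c16 LD3_c12)) = v17675 :=
  (Llr Lrot44 (Lpe (f79628 IH) (Lpr_af (f761669 IH) (Lpe (f761664 IH) (Lpr_af (f761661 IH) (Lpn v17675)))))).symm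
theorem f761671 : Led Lsl_at (LP (LK LD1_c12 LD2_c16 LD3_c12)) = (LP (LK LD1_c6 LD2_c21 LD3_c15)) :=
  Leop (Lpr_af (f761661 IH) (Lpq (f761670 IH) (Lpn (LP (LK LD1_c12 LD2_c16 LD3_c12)))))
theorem seed_1191 : LEOK LG_a (LK LD1_c12 LD2_c16 LD3_c12) :=
  Leoe_a (LK LD1_c12 LD2_c16 LD3_c12) (f761671 IH)
def v17722 : LQ := Led Lsl_gt (LP (LK LD1_c6 LD2_c21 LD3_c39))
theorem f761861 : Led Lsl_gt (LP (LK LD1_c6 LD2_c21 LD3_c39)) = v17722 :=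
  Lrfl
theorem f653019 : Led Lsl_bf (LP (LK LD1_c3 LD2_c20 LD3_c60)) = K46.v6369 :=
  Lgr Lrot24 (Lpr_bt (K46.f653017 IH) (Lpn K46.v6369))
theorem f437043 : Led Lsl_et (LP (LK LD1_c6 LD2_c38 LD3_c59)) = (LP (LK LD1_c12 LD2_c43 LD3_c35)) :=
  Lre_e IH (LK LD1_c6 LD2_c38 LD3_c59) (LK LD1_c12 LD2_c43 LD3_c35) Lrfl Lrfl
theorem f615132 : Led Lsl_cf (LP (LK LD1_c6 LD2_c44 LD3_c31)) = (LP (LK LD1_c12 LD2_c43 LD3_c35)) :=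
  Lgr Lrot39 (Lpr_et (K42.f206815 IH) (Lpr_ct (K50.f615128 IH) (Lpr_et (f437043 IH) (Lpn (LP (LK LD1_c12 LD2_c43 LD3_c35))))))
theorem f82957 : Led Lsl_dt (LP (LK LD1_c5 LD2_c57 LD3_c21)) = (LP (LK LD1_c2 LD2_c54 LD3_c55)) :=
  Lre_d IH (LK LD1_c5 LD2_c57 LD3_c21) (LK LD1_c2 LD2_c54 LD3_c55) Lrfl Lrfl
theorem f80078 : Led Lsl_dt (LP (LK LD1_c9 LD2_c11 LD3_c0)) = (LP (LK LD1_c17 LD2_c4 LD3_c28)) :=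
  Lre_d IH (LK LD1_c9 LD2_c11 LD3_c0) (LK LD1_c17 LD2_c4 LD3_c28) Lrfl Lrfl
theorem f80079 : Led Lsl_et (LP (LK LD1_c9 LD2_c11 LD3_c0)) = (LP (LK LD1_c6 LD2_c39 LD3_c10)) :=
  Lre_e IH (LK LD1_c9 LD2_c11 LD3_c0) (LK LD1_c6 LD2_c39 LD3_c10) Lrfl Lrfl
theorem f436610 : Led Lsl_et (LP (LK LD1_c6 LD2_c39 LD3_c29)) = (LP (LK LD1_c3 LD2_c17 LD3_c55)) :=
  Lre_e IH (LK LD1_c6 LD2_c39 LD3_c29) (LK LD1_c3 LD2_c17 LD3_c55) Lrfl Lrfl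
theorem f436611 : Led Lsl_dt (LP (LK LD1_c6 LD2_c39 LD3_c29)) = (LP (LK LD1_c12 LD2_c44 LD3_c45)) :=
  Lre_d IH (LK LD1_c6 LD2_c39 LD3_c29) (LK LD1_c12 LD2_c44 LD3_c45) Lrfl Lrfl
theorem f644825 : Led Lsl_gt (LP (LK LD1_c12 LD2_c44 LD3_c45)) = (LP (LK LD1_c11 LD2_c39 LD3_c58)) :=
  Lgr Lrot112 (Lpe (f436611 IH) (Lpr_et (f436610 IH) (Lpe (K17.f413701 IH) (Lpe (f80079 IH) (Lpr_dt (f80078 IH) (Lpe (K54.f644807 IH) (Lpe (K54.f644808 IH) (Lpr_gf (K54.f644809 IH) (Lpe (K45.f507576 IH) (Lpr_dt (K51.f82951 IH) (Lpn (LP (LK LD1_c11 LD2_c39 LD3_c58)))))))))))))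
theorem f706782 : Led Lsl_gt (LP (LK LD1_c12 LD2_c43 LD3_c35)) = (LP (LK LD1_c6 LD2_c39 LD3_c29)) :=
  Lgr Lrot180 (Lpe (f615132 IH) (Lpq (K51.f706530 IH) (Lpe (K51.f652909 IH) (Lpr_dt (K51.f438067 IH) (Lpr_gt (K51.f644814 IH) (Lpr_dt (f82957 IH) (Lpr_ct (K45.f82934 IH) (Lpe (K51.f500600 IH) (Lpe (f644825 IH) (Lpe (f436611 IH) (Lpn (LP (LK LD1_c6 LD2_c39 LD3_c29)))))))))))))
theorem f437045 : Led Lsl_ft (LP (LK LD1_c12 LD2_c43 LD3_c35)) = (LP (LK LD1_c21 LD2_c50 LD3_c47)) :=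
  Lre_f IH (LK LD1_c12 LD2_c43 LD3_c35) (LK LD1_c21 LD2_c50 LD3_c47) Lrfl Lrfl
theorem f644832 : Led Lsl_gt (LP (LK LD1_c6 LD2_c39 LD3_c29)) = (LP (LK LD1_c12 LD2_c44 LD3_c44)) :=
  Lre_g IH (LK LD1_c6 LD2_c39 LD3_c29) (LK LD1_c12 LD2_c44 LD3_c44) Lrfl Lrfl
theorem f706784 : Led Lsl_at (LP (LK LD1_c21 LD2_c50 LD3_c47)) = (LP (LK LD1_c12 LD2_c44 LD3_c44)) :=
  Lgr Lrot26 (Lpe (f437045 IH) (Lpr_gt (f706782 IH) (Lpr_gt (f644832 IH) (Lpn (LP (LK LD1_c12 LD2_c44 LD3_c44))))))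
theorem f435459 : Led Lsl_ct (LP (LK LD1_c6 LD2_c32 LD3_c40)) = (LP (LK LD1_c12 LD2_c32 LD3_c51)) :=
  Lre_c IH (LK LD1_c6 LD2_c32 LD3_c40) (LK LD1_c12 LD2_c32 LD3_c51) Lrfl Lrfl
theorem f615134 : Led Lsl_at (LP (LK LD1_c12 LD2_c32 LD3_c51)) = (LP (LK LD1_c12 LD2_c43 LD3_c35)) :=
  Lgr Lrot107 (Lpe (f435459 IH) (Lpr_af (K42.f615009 IH) (Lpr_cf (f615132 IH) (Lpn (LP (LK LD1_c12 LD2_c43 LD3_c35))))))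
theorem f706795 : Led Lsl_ff (LP (LK LD1_c12 LD2_c32 LD3_c51)) = (LP (LK LD1_c12 LD2_c44 LD3_c44)) :=
  Lgr Lrot30 (Lpr_at (f615134 IH) (Lpr_ft (f437045 IH) (Lpr_at (f706784 IH) (Lpn (LP (LK LD1_c12 LD2_c44 LD3_c44))))))
theorem f435456 : Led Lsl_ct (LP (LK LD1_c12 LD2_c32 LD3_c51)) = (LP (LK LD1_c6 LD2_c32 LD3_c40)) :=
  Lre_c IH (LK LD1_c12 LD2_c32 LD3_c51) (LK LD1_c6 LD2_c32 LD3_c40) Lrfl Lrfl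
theorem f706798 : Led Lsl_ct K46.v6369 = (LP (LK LD1_c12 LD2_c44 LD3_c44)) :=
  Lgr Lrot40 (Lpe (K55.f653024 IH) (Lpe (f435456 IH) (Lpr_ff (f706795 IH) (Lpn (LP (LK LD1_c12 LD2_c44 LD3_c44))))))
theorem f706787 : Led Lsl_ct (LP (LK LD1_c12 LD2_c44 LD3_c41)) = (LP (LK LD1_c6 LD2_c39 LD3_c29)) :=
  Lre_c IH (LK LD1_c12 LD2_c44 LD3_c41) (LK LD1_c6 LD2_c39 LD3_c29) Lrfl Lrfl
theorem f761863 : Led Lsl_bt (LP (LK LD1_c12 LD2_c44 LD3_c41)) = v17722 :=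
  Lgr Lrot92 (Lpr_ct (f706787 IH) (Lpr_gt (f644832 IH) (Lpe (f706798 IH) (Lpe (f653019 IH) (Lpe (K48.f509907 IH) (Lpr_ct (K48.f510142 IH) (Lpr_gt (K24.f82576 IH) (Lpe (K32.f82588 IH) (Lpr_bt (K45.f82646 IH) (Lpr_gt (f761861 IH) (Lpn v17722)))))))))))
theorem f413718 : Led Lsl_et (LP (LK LD1_c6 LD2_c39 LD3_c27)) = (LP (LK LD1_c12 LD2_c44 LD3_c41)) :=
  Lre_e IH (LK LD1_c6 LD2_c39 LD3_c27) (LK LD1_c12 LD2_c44 LD3_c41) Lrfl Lrfl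
theorem f413690 : Led Lsl_bt (LP (LK LD1_c9 LD2_c32 LD3_c7)) = (LP (LK LD1_c6 LD2_c39 LD3_c27)) :=
  Lgr Lrot127 (Lpr_bf (K17.f413685 IH) (Lpn (LP (LK LD1_c6 LD2_c39 LD3_c27))))
theorem f761866 : Led Lsl_ef (LP (LK LD1_c9 LD2_c32 LD3_c7)) = v17722 :=
  Lgr Lrot29 (Lpr_bt (f413690 IH) (Lpr_et (f413718 IH) (Lpr_bt (f761863 IH) (Lpn v17722))))
theorem f761867 : Led Lsl_et (LP (LK LD1_c9 LD2_c32 LD3_c7)) = v17722 :=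
  Lgr Lrot87 (Lpr_ef (f761866 IH) (Lpn v17722))
theorem f413695 : Led Lsl_dt (LP (LK LD1_c9 LD2_c32 LD3_c7)) = (LP (LK LD1_c17 LD2_c34 LD3_c17)) :=
  Lre_d IH (LK LD1_c9 LD2_c32 LD3_c7) (LK LD1_c17 LD2_c34 LD3_c17) Lrfl Lrfl
theorem f761862 : Led Lsl_gf (LP (LK LD1_c12 LD2_c29 LD3_c49)) = v17722 :=
  Lgr Lrot76 (Lpe (K35.f140779 IH) (Lpr_ff (K32.f504946 IH) (Lpr_gt (f761861 IH) (Lpn v17722))))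
theorem f642246 : Led Lsl_ft (LP (LK LD1_c9 LD2_c48 LD3_c0)) = (LP (LK LD1_c12 LD2_c29 LD3_c43)) :=
  Lgr Lrot54 (Lpe (K39.f138990 IH) (Lpr_ff (K45.f642239 IH) (Lpe (K55.f640884 IH) (Lpn (LP (LK LD1_c12 LD2_c29 LD3_c43))))))
theorem f504948 : Led Lsl_ff (LP (LK LD1_c9 LD2_c6 LD3_c52)) = (LP (LK LD1_c5 LD2_c52 LD3_c53)) :=
  Lgr Lrot3 (Lpr_ft (K32.f504942 IH) (Lpn (LP (LK LD1_c5 LD2_c52 LD3_c53))))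
theorem f140790 : Led Lsl_at (LP (LK LD1_c9 LD2_c6 LD3_c52)) = (LP (LK LD1_c16 LD2_c59 LD3_c3)) :=
  Lre_a IH (LK LD1_c9 LD2_c6 LD3_c52) (LK LD1_c16 LD2_c59 LD3_c3) Lrfl Lrfl
theorem f615216 : Led Lsl_gf (LP (LK LD1_c16 LD2_c59 LD3_c3)) = (LP (LK LD1_c9 LD2_c48 LD3_c0)) :=
  Lgr Lrot76 (Lpe (f140790 IH) (Lpr_ff (f504948 IH) (Lpr_gt (K45.f615211 IH) (Lpn (LP (LK LD1_c9 LD2_c48 LD3_c0))))))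
theorem f387227 : Led Lsl_dt (LP (LK LD1_c9 LD2_c48 LD3_c39)) = (LP (LK LD1_c4 LD2_c59 LD3_c5)) :=
  Lre_d IH (LK LD1_c9 LD2_c48 LD3_c39) (LK LD1_c4 LD2_c59 LD3_c5) Lrfl Lrfl
theorem f642237 : Led Lsl_af (LP (LK LD1_c9 LD2_c48 LD3_c39)) = (LP (LK LD1_c12 LD2_c29 LD3_c43)) :=
  Lgr Lrot117 (Lpr_dt (f387227 IH) (Lpr_at (K45.f642229 IH) (Lpr_dt (K48.f506251 IH) (Lpn (LP (LK LD1_c12 LD2_c29 LD3_c43))))))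
theorem f642449 : Led Lsl_gt (LP (LK LD1_c16 LD2_c59 LD3_c3)) = (LP (LK LD1_c9 LD2_c48 LD3_c39)) :=
  Lgr Lrot46 (Lpr_gf (f615216 IH) (Lpr_ft (f642246 IH) (Lpe (f642237 IH) (Lpn (LP (LK LD1_c9 LD2_c48 LD3_c39))))))
theorem f413855 : Led Lsl_et (LP (LK LD1_c1 LD2_c10 LD3_c55)) = (LP (LK LD1_c2 LD2_c27 LD3_c25)) :=
  Lre_e IH (LK LD1_c1 LD2_c10 LD3_c55) (LK LD1_c2 LD2_c27 LD3_c25) Lrfl Lrfl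
theorem f686143 : Led Lsl_et (LP (LK LD1_c4 LD2_c59 LD3_c5)) = K56.v11851 :=
  Lgr Lrot69 (Lpe (K45.f636065 IH) (Lpe (f413855 IH) (Lpe (K8.f139064 IH) (Lpe (K53.f139347 IH) (Lpr_ff (K56.f686140 IH) (Lpn K56.v11851))))))
def v11854 : LQ := Led Lsl_et K42.v3911
theorem f686165 : Led Lsl_et K42.v3911 = v11854 :=
  Lrfl
theorem f686167 : Led Lsl_ef K42.v3911 = v11854 :=
  Lgr Lrot88 (Lpr_et (f686165 IH) (Lpn v11854))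
theorem f622579 : Led Lsl_ft (LP (LK LD1_c11 LD2_c30 LD3_c60)) = (LP (LK LD1_c5 LD2_c51 LD3_c52)) :=
  Lre_f IH (LK LD1_c11 LD2_c30 LD3_c60) (LK LD1_c5 LD2_c51 LD3_c52) Lrfl Lrfl
theorem f686168 : Led Lsl_ff (LP (LK LD1_c12 LD2_c25 LD3_c49)) = v11854 :=
  Lgr Lrot72 (Lpr_et (K42.f622888 IH) (Lpr_ft (f622579 IH) (Lpr_et (K45.f535817 IH) (Lpr_ft (K56.f627864 IH) (Lpr_et (f686165 IH) (Lpn v11854))))))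
theorem f686171 : Led Lsl_ft (LP (LK LD1_c12 LD2_c25 LD3_c49)) = v11854 :=
  Lgr Lrot48 (Lpr_ff (f686168 IH) (Lpn v11854))
theorem f416770 : Led Lsl_cf (LP (LK LD1_c4 LD2_c49 LD3_c51)) = (LP (LK LD1_c6 LD2_c45 LD3_c30)) :=
  Lgr Lrot11 (Lpr_ct (K24.f416746 IH) (Lpn (LP (LK LD1_c6 LD2_c45 LD3_c30))))
theorem f623040 : Led Lsl_ff (LP (LK LD1_c3 LD2_c21 LD3_c28)) = (LP (LK LD1_c4 LD2_c49 LD3_c51)) :=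
  Lgr Lrot23 (Lpr_ct (K24.f416407 IH) (Lpr_ft (K49.f623034 IH) (Lpe (f416770 IH) (Lpn (LP (LK LD1_c4 LD2_c49 LD3_c51))))))
theorem f623046 : Led Lsl_ft (LP (LK LD1_c3 LD2_c21 LD3_c28)) = (LP (LK LD1_c4 LD2_c49 LD3_c51)) :=
  Lgr Lrot48 (Lpr_ff (f623040 IH) (Lpn (LP (LK LD1_c4 LD2_c49 LD3_c51))))
theorem f416752 : Led Lsl_bt (LP (LK LD1_c4 LD2_c49 LD3_c51)) = (LP (LK LD1_c9 LD2_c32 LD3_c18)) :=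
  Lre_b IH (LK LD1_c4 LD2_c49 LD3_c51) (LK LD1_c9 LD2_c32 LD3_c18) Lrfl Lrfl
theorem f623048 : Led Lsl_ff (LP (LK LD1_c6 LD2_c46 LD3_c38)) = (LP (LK LD1_c9 LD2_c32 LD3_c18)) :=
  Lgr Lrot25 (Lpr_bt (K42.f416422 IH) (Lpr_ft (f623046 IH) (Lpr_bt (f416752 IH) (Lpn (LP (LK LD1_c9 LD2_c32 LD3_c18))))))
theorem f686172 : Led Lsl_df (LP (LK LD1_c9 LD2_c32 LD3_c18)) = v11854 :=
  Lgr Lrot78 (Lpe (f623048 IH) (Lpe (K42.f416646 IH) (Lpr_ft (f686171 IH) (Lpn v11854))))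
theorem f761868 : Led Lsl_gf (LP (LK LD1_c17 LD2_c34 LD3_c17)) = (LP (LK LD1_c9 LD2_c32 LD3_c18)) :=
  Lgr Lrot145 (Lpe (f413695 IH) (Lpr_et (f761867 IH) (Lpe (f761862 IH) (Lpe (K46.f140780 IH) (Lpr_gt (f642449 IH) (Lpe (K45.f387224 IH) (Lpr_et (f686143 IH) (Lpe (K56.f686139 IH) (Lpr_ef (f686167 IH) (Lpe (f686172 IH) (Lpn (LP (LK LD1_c9 LD2_c32 LD3_c18)))))))))))))
theorem f761869 : Led Lsl_gt (LP (LK LD1_c9 LD2_c32 LD3_c18)) = (LP (LK LD1_c17 LD2_c34 LD3_c17)) :=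
  Leop (Lpr_gf (f761868 IH) (Lpn (LP (LK LD1_c9 LD2_c32 LD3_c18))))
theorem seed_1192 : LEOK LG_g (LK LD1_c9 LD2_c32 LD3_c18) :=
  Leoe_g (LK LD1_c9 LD2_c32 LD3_c18) (f761869 IH)
def v17585 : LQ := Led Lsl_bt (LP (LK LD1_c6 LD2_c20 LD3_c36))
theorem f761010 : Led Lsl_bt (LP (LK LD1_c6 LD2_c20 LD3_c36)) = v17585 :=
  Lrfl
def v17730 : LQ := Led Lsl_gf (LP (LK LD1_c6 LD2_c21 LD3_c49))
theorem f761918 : Led Lsl_gf (LP (LK LD1_c6 LD2_c21 LD3_c49)) = v17730 :=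
  Lrfl
def v17729 : LQ := Led Lsl_gt (LP (LK LD1_c6 LD2_c21 LD3_c49))
theorem f761913 : Led Lsl_gt (LP (LK LD1_c6 LD2_c21 LD3_c49)) = v17729 :=
  Lrfl
theorem f632418 : Led Lsl_ct (LP (LK LD1_c3 LD2_c8 LD3_c37)) = (LP (LK LD1_c6 LD2_c21 LD3_c49)) :=
  Lre_c IH (LK LD1_c3 LD2_c8 LD3_c37) (LK LD1_c6 LD2_c21 LD3_c49) Lrfl Lrfl
theorem f79863 : Led Lsl_gt (LP (LK LD1_c3 LD2_c8 LD3_c37)) = (LP (LK LD1_c1 LD2_c30 LD3_c29)) :=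
  Lre_g IH (LK LD1_c3 LD2_c8 LD3_c37) (LK LD1_c1 LD2_c30 LD3_c29) Lrfl Lrfl
theorem f632413 : Led Lsl_gf (LP (LK LD1_c3 LD2_c8 LD3_c37)) = K46.v4288 :=
  Lgr Lrot47 (Lpr_gt (f79863 IH) (Lpe (K46.f453520 IH) (Lpr_ff (K46.f632409 IH) (Lpn K46.v4288))))
theorem f506060 : Led Lsl_ct (LP (LK LD1_c3 LD2_c8 LD3_c25)) = (LP (LK LD1_c6 LD2_c21 LD3_c24)) :=
  Lre_c IH (LK LD1_c3 LD2_c8 LD3_c25) (LK LD1_c6 LD2_c21 LD3_c24) Lrfl Lrfl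
def v13269 : LQ := Led Lsl_gt (LP (LK LD1_c4 LD2_c42 LD3_c7))
theorem f702042 : Led Lsl_gt (LP (LK LD1_c4 LD2_c42 LD3_c7)) = v13269 :=
  Lrfl
theorem f506120 : Led Lsl_at (LP (LK LD1_c3 LD2_c8 LD3_c26)) = (LP (LK LD1_c6 LD2_c21 LD3_c24)) :=
  Lre_a IH (LK LD1_c3 LD2_c8 LD3_c26) (LK LD1_c6 LD2_c21 LD3_c24) Lrfl Lrfl
theorem f702043 : Led Lsl_gf (LP (LK LD1_c6 LD2_c21 LD3_c24)) = v13269 :=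
  Lgr Lrot76 (Lpe (f506120 IH) (Lpr_ff (K35.f506114 IH) (Lpr_gt (f702042 IH) (Lpn v13269))))
def v13772 : LQ := Led Lsl_gt (LP (LK LD1_c4 LD2_c47 LD3_c56))
theorem f704776 : Led Lsl_gt (LP (LK LD1_c4 LD2_c47 LD3_c56)) = v13772 :=
  Lrfl
theorem f633493 : Led Lsl_bt (LP (LK LD1_c2 LD2_c21 LD3_c51)) = (LP (LK LD1_c4 LD2_c47 LD3_c56)) :=
  Lre_b IH (LK LD1_c2 LD2_c21 LD3_c51) (LK LD1_c4 LD2_c47 LD3_c56) Lrfl Lrfl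
theorem f633472 : Led Lsl_ct (LP (LK LD1_c2 LD2_c21 LD3_c51)) = (LP (LK LD1_c4 LD2_c47 LD3_c57)) :=
  Lre_c IH (LK LD1_c2 LD2_c21 LD3_c51) (LK LD1_c4 LD2_c47 LD3_c57) Lrfl Lrfl
def v13765 : LQ := Led Lsl_ft (LP (LK LD1_c4 LD2_c47 LD3_c54))
theorem f704736 : Led Lsl_ft (LP (LK LD1_c4 LD2_c47 LD3_c54)) = v13765 :=
  Lrfl
def v13760 : LQ := Led Lsl_gt (LP (LK LD1_c4 LD2_c47 LD3_c54))
theorem f704705 : Led Lsl_gt (LP (LK LD1_c4 LD2_c47 LD3_c54)) = v13760 :=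
  Lrfl
def v13762 : LQ := Led Lsl_at (LP (LK LD1_c4 LD2_c47 LD3_c54))
theorem f704717 : Led Lsl_at (LP (LK LD1_c4 LD2_c47 LD3_c54)) = v13762 :=
  Lrfl
theorem f704718 : Led Lsl_af (LP (LK LD1_c4 LD2_c47 LD3_c54)) = v13762 :=
  Lgr Lrot0 (Lpr_at (f704717 IH) (Lpn v13762))
theorem f92168 : Led Lsl_ct (LP (LK LD1_c2 LD2_c21 LD3_c50)) = (LP (LK LD1_c4 LD2_c47 LD3_c54)) :=
  Lre_c IH (LK LD1_c2 LD2_c21 LD3_c50) (LK LD1_c4 LD2_c47 LD3_c54) Lrfl Lrfl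
def v4454 : LQ := Led Lsl_at (LP (LK LD1_c2 LD2_c21 LD3_c50))
theorem f633486 : Led Lsl_at (LP (LK LD1_c2 LD2_c21 LD3_c50)) = v4454 :=
  Lrfl
theorem f633487 : Led Lsl_af (LP (LK LD1_c2 LD2_c21 LD3_c50)) = v4454 :=
  Lgr Lrot0 (Lpr_at (f633486 IH) (Lpn v4454))
theorem f704719 : Led Lsl_cf v4454 = v13762 :=
  Lgr Lrot1 (Lpe (f633487 IH) (Lpr_ct (f92168 IH) (Lpr_at (f704717 IH) (Lpn v13762))))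
theorem f633488 : Led Lsl_ft (LP (LK LD1_c2 LD2_c21 LD3_c51)) = v4454 :=
  Lgr Lrot2 (Lpr_gt (f92165 IH) (Lpr_gt (K51.f92144 IH) (Lpr_af (f633487 IH) (Lpn v4454))))
theorem f633492 : Led Lsl_ff (LP (LK LD1_c2 LD2_c21 LD3_c51)) = v4454 :=
  Lgr Lrot3 (Lpr_ft (f633488 IH) (Lpn v4454))
theorem f704721 : Led Lsl_ft (LP (LK LD1_c4 LD2_c47 LD3_c57)) = v13762 :=
  Lgr Lrot4 (Lpe (f633472 IH) (Lpr_ff (f633492 IH) (Lpr_cf (f704719 IH) (Lpn v13762))))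
theorem f704737 : Led Lsl_af (LP (LK LD1_c4 LD2_c47 LD3_c57)) = v13765 :=
  Lgr Lrot45 (Lpr_ft (f704721 IH) (Lpe (f704718 IH) (Lpr_ft (f704736 IH) (Lpn v13765))))
theorem f704740 : Led Lsl_gt v13760 = (LP (LK LD1_c4 LD2_c47 LD3_c57)) :=
  Lgr Lrot46 (Lpe (f704705 IH) (Lpr_ft (f704736 IH) (Lpe (f704737 IH) (Lpn (LP (LK LD1_c4 LD2_c47 LD3_c57))))))
theorem f79862 : Led Lsl_bt (LP (LK LD1_c0 LD2_c41 LD3_c47)) = (LP (LK LD1_c1 LD2_c30 LD3_c29)) :=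
  Lre_b IH (LK LD1_c0 LD2_c41 LD3_c47) (LK LD1_c1 LD2_c30 LD3_c29) Lrfl Lrfl
def v5494 : LQ := Led Lsl_bt (LP (LK LD1_c3 LD2_c8 LD3_c37))
theorem f647937 : Led Lsl_bt (LP (LK LD1_c3 LD2_c8 LD3_c37)) = v5494 :=
  Lrfl
theorem f647938 : Led Lsl_bf (LP (LK LD1_c3 LD2_c8 LD3_c37)) = v5494 :=
  Lgr Lrot24 (Lpr_bt (f647937 IH) (Lpn v5494))
theorem f704707 : Led Lsl_ct v5494 = v13760 :=
  Lgr Lrot63 (Lpe (f647938 IH) (Lpr_gt (f79863 IH) (Lpe (f79862 IH) (Lpr_ct (K32.f79851 IH) (Lpe (K31.f79848 IH) (Lpr_cf (K6.f92135 IH) (Lpr_bt (f92134 IH) (Lpr_gt (K51.f92144 IH) (Lpr_ct (f92168 IH) (Lpr_gt (f704705 IH) (Lpn v13760)))))))))))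
theorem f704777 : Led Lsl_cf v13269 = v13772 :=
  Lgr Lrot125 (Lpe (f702043 IH) (Lpe (f506060 IH) (Lpr_bt (K46.f632411 IH) (Lpe (f632413 IH) (Lpr_bf (f647938 IH) (Lpr_ct (f704707 IH) (Lpr_gt (f704740 IH) (Lpe (f633472 IH) (Lpr_bt (f633493 IH) (Lpr_gt (f704776 IH) (Lpn v13772)))))))))))
theorem f494708 : Led Lsl_gt (LP (LK LD1_c4 LD2_c42 LD3_c5)) = (LP (LK LD1_c2 LD2_c18 LD3_c22)) :=
  Lre_g IH (LK LD1_c4 LD2_c42 LD3_c5) (LK LD1_c2 LD2_c18 LD3_c22) Lrfl Lrfl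
def v13263 : LQ := Led Lsl_bt (LP (LK LD1_c4 LD2_c42 LD3_c5))
theorem f702010 : Led Lsl_bt (LP (LK LD1_c4 LD2_c42 LD3_c5)) = v13263 :=
  Lrfl
theorem f702011 : Led Lsl_bf (LP (LK LD1_c4 LD2_c42 LD3_c5)) = v13263 :=
  Lgr Lrot24 (Lpr_bt (f702010 IH) (Lpn v13263))
theorem f702012 : Led Lsl_cf (LP (LK LD1_c6 LD2_c42 LD3_c27)) = v13263 :=
  Lgr Lrot163 (Lpe (K46.f446050 IH) (Lpe (K46.f446049 IH) (Lpe (K46.f24863 IH) (Lpe (K9.f135746 IH) (Lpr_ct (K31.f26474 IH) (Lpe (K31.f59435 IH) (Lpq (K31.f500029 IH) (Lpe (K31.f494705 IH) (Lpr_bt (K35.f494698 IH) (Lpe (f494708 IH) (Lpr_bf (f702011 IH) (Lpn v13263))))))))))))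
theorem f500054 : Led Lsl_bt (LP (LK LD1_c1 LD2_c36 LD3_c2)) = (LP (LK LD1_c3 LD2_c19 LD3_c12)) :=
  Lre_b IH (LK LD1_c1 LD2_c36 LD3_c2) (LK LD1_c3 LD2_c19 LD3_c12) Lrfl Lrfl
def v6213 : LQ := Led Lsl_gf (LP (LK LD1_c3 LD2_c19 LD3_c12))
theorem f652114 : Led Lsl_gf (LP (LK LD1_c3 LD2_c19 LD3_c12)) = v6213 :=
  Lrfl
theorem f704780 : Led Lsl_bf v6213 = v13772 :=
  Lgr Lrot156 (Lpe (f652114 IH) (Lpe (f500054 IH) (Lpr_ct (K46.f446049 IH) (Lpr_gt (K46.f446050 IH) (Lpr_cf (f702012 IH) (Lpe (f702011 IH) (Lpr_gt (f494708 IH) (Lpr_ct (K35.f61090 IH) (Lpr_gt (f702042 IH) (Lpr_cf (f704777 IH) (Lpn v13772)))))))))))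
def v17473 : LQ := Led Lsl_ct (LP (LK LD1_c6 LD2_c19 LD3_c40))
theorem f759985 : Led Lsl_ct (LP (LK LD1_c6 LD2_c19 LD3_c40)) = v17473 :=
  Lrfl
theorem f652153 : Led Lsl_ff (LP (LK LD1_c3 LD2_c19 LD3_c13)) = K46.v6221 :=
  Lgr Lrot3 (Lpr_ft (K46.f652150 IH) (Lpn K46.v6221))
theorem f139817 : Led Lsl_ct (LP (LK LD1_c3 LD2_c19 LD3_c13)) = (LP (LK LD1_c1 LD2_c36 LD3_c2)) :=
  Lre_c IH (LK LD1_c3 LD2_c19 LD3_c13) (LK LD1_c1 LD2_c36 LD3_c2) Lrfl Lrfl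
def v2125 : LQ := Led Lsl_ft (LP (LK LD1_c1 LD2_c36 LD3_c2))
theorem f509126 : Led Lsl_ft (LP (LK LD1_c1 LD2_c36 LD3_c2)) = v2125 :=
  Lrfl
theorem f652158 : Led Lsl_ct v2125 = K46.v6221 :=
  Lgr Lrot40 (Lpe (f509126 IH) (Lpe (f139817 IH) (Lpr_ff (f652153 IH) (Lpn K46.v6221))))
def v6196 : LQ := Led Lsl_at (LP (LK LD1_c3 LD2_c18 LD3_c59))
theorem f652012 : Led Lsl_at (LP (LK LD1_c3 LD2_c18 LD3_c59)) = v6196 :=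
  Lrfl
theorem f652013 : Led Lsl_af (LP (LK LD1_c3 LD2_c18 LD3_c59)) = v6196 :=
  Lgr Lrot0 (Lpr_at (f652012 IH) (Lpn v6196))
theorem f652016 : Led Lsl_ft (LP (LK LD1_c3 LD2_c18 LD3_c60)) = v6196 :=
  Lgr Lrot2 (Lpr_gt (K46.f24837 IH) (Lpr_gt (K48.f24835 IH) (Lpr_af (f652013 IH) (Lpn v6196))))
theorem f652017 : Led Lsl_ff (LP (LK LD1_c3 LD2_c18 LD3_c60)) = v6196 :=
  Lgr Lrot3 (Lpr_ft (f652016 IH) (Lpn v6196))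
theorem f652014 : Led Lsl_ef K46.v5866 = v6196 :=
  Lgr Lrot20 (Lpe (K46.f649887 IH) (Lpe (K48.f438897 IH) (Lpr_at (f652012 IH) (Lpn v6196))))
theorem f652015 : Led Lsl_et K46.v5866 = v6196 :=
  Lgr Lrot87 (Lpr_ef (f652014 IH) (Lpn v6196))
theorem f652210 : Led Lsl_ff (LP (LK LD1_c3 LD2_c19 LD3_c15)) = K49.v6227 :=
  Lgr Lrot3 (Lpr_ft (K49.f652207 IH) (Lpn K49.v6227))
theorem f652213 : Led Lsl_dt K48.v5823 = K49.v6227 :=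
  Lgr Lrot60 (Lpe (K48.f649594 IH) (Lpe (K48.f148401 IH) (Lpr_ff (f652210 IH) (Lpn K49.v6227))))
theorem f663648 : K49.v6227 = (LP (LK LD1_c3 LD2_c14 LD3_c19)) :=
  Lefun (Lecon (f652213 IH) (K48.f663636 IH).symm) (K46.f22530 IH)
theorem f663659 : (LP (LK LD1_c3 LD2_c19 LD3_c15)) = K46.v5866 :=
  Lefun (Lecon (Lfl_ff (f652210 IH)) (f663648 IH)) (K46.f649886 IH)
theorem f663676 : v6196 = (LP (LK LD1_c1 LD2_c36 LD3_c2)) :=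
  Lefun (Lecon (f652015 IH) (f663659 IH).symm) (K48.f24866 IH)
theorem f663693 : (LP (LK LD1_c3 LD2_c18 LD3_c60)) = v2125 :=
  Lefun (Lecon (Lfl_ff (f652017 IH)) (f663676 IH)) (f509126 IH)
theorem f663699 : K46.v6221 = (LP (LK LD1_c6 LD2_c41 LD3_c60)) :=
  Lefun (Lecon (f652158 IH) (f663693 IH).symm) (K46.f139848 IH)
theorem f500055 : Led Lsl_bt (LP (LK LD1_c6 LD2_c42 LD3_c28)) = (LP (LK LD1_c3 LD2_c19 LD3_c13)) :=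
  Lre_b IH (LK LD1_c6 LD2_c42 LD3_c28) (LK LD1_c3 LD2_c19 LD3_c13) Lrfl Lrfl
theorem f663705 : Led Lsl_ff (LP (LK LD1_c6 LD2_c42 LD3_c28)) = (LP (LK LD1_c12 LD2_c15 LD3_c33)) :=
  Lgr Lrot25 (Lpr_bt (f500055 IH) (Lpr_ft (K46.f652150 IH) (Lpqs (f663699 IH) (Lpr_bt (K46.f647585 IH) (Lpn (LP (LK LD1_c12 LD2_c15 LD3_c33)))))))
theorem f663709 : Led Lsl_ft (LP (LK LD1_c6 LD2_c42 LD3_c28)) = (LP (LK LD1_c12 LD2_c15 LD3_c33)) :=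
  Lgr Lrot48 (Lpr_ff (f663705 IH) (Lpn (LP (LK LD1_c12 LD2_c15 LD3_c33))))
theorem f153582 : Led Lsl_bt (LP (LK LD1_c1 LD2_c30 LD3_c10)) = (LP (LK LD1_c0 LD2_c41 LD3_c49)) :=
  Lre_b IH (LK LD1_c1 LD2_c30 LD3_c10) (LK LD1_c0 LD2_c41 LD3_c49) Lrfl Lrfl
theorem f153583 : Led Lsl_ct (LP (LK LD1_c1 LD2_c30 LD3_c10)) = (LP (LK LD1_c3 LD2_c7 LD3_c51)) :=
  Lre_c IH (LK LD1_c1 LD2_c30 LD3_c10) (LK LD1_c3 LD2_c7 LD3_c51) Lrfl Lrfl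
theorem f153600 : Led Lsl_gt (LP (LK LD1_c6 LD2_c19 LD3_c39)) = (LP (LK LD1_c3 LD2_c7 LD3_c51)) :=
  Lre_g IH (LK LD1_c6 LD2_c19 LD3_c39) (LK LD1_c3 LD2_c7 LD3_c51) Lrfl Lrfl
theorem f446051 : Led Lsl_bt (LP (LK LD1_c3 LD2_c19 LD3_c12)) = (LP (LK LD1_c1 LD2_c36 LD3_c2)) :=
  Lre_b IH (LK LD1_c3 LD2_c19 LD3_c12) (LK LD1_c1 LD2_c36 LD3_c2) Lrfl Lrfl
theorem f500051 : Led Lsl_cf (LP (LK LD1_c6 LD2_c19 LD3_c39)) = (LP (LK LD1_c3 LD2_c19 LD3_c12)) :=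
  Lgr Lrot160 (Lpr_gt (f153600 IH) (Lpe (f153583 IH) (Lpr_bt (f153582 IH) (Lpr_gt (K32.f153596 IH) (Lpr_ct (K31.f494705 IH) (Lpqs (K31.f500029 IH) (Lpr_gt (K31.f59435 IH) (Lpe (K31.f26474 IH) (Lpr_bt (K9.f135746 IH) (Lpr_gt (K46.f24863 IH) (Lpe (f446051 IH) (Lpn (LP (LK LD1_c3 LD2_c19 LD3_c12))))))))))))))
theorem f500053 : Led Lsl_bt (LP (LK LD1_c6 LD2_c19 LD3_c39)) = (LP (LK LD1_c12 LD2_c14 LD3_c26)) :=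
  Lre_b IH (LK LD1_c6 LD2_c19 LD3_c39) (LK LD1_c12 LD2_c14 LD3_c26) Lrfl Lrfl
theorem f500056 : Led Lsl_ct (LP (LK LD1_c12 LD2_c14 LD3_c26)) = (LP (LK LD1_c6 LD2_c42 LD3_c28)) :=
  Lgr Lrot83 (Lpe (f500053 IH) (Lpr_cf (f500051 IH) (Lpe (f500054 IH) (Lpe (f139817 IH) (Lpe (f500055 IH) (Lpn (LP (LK LD1_c6 LD2_c42 LD3_c28))))))))
theorem f663711 : Led Lsl_ff (LP (LK LD1_c12 LD2_c14 LD3_c26)) = (LP (LK LD1_c6 LD2_c20 LD3_c31)) :=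
  Lgr Lrot23 (Lpr_ct (f500056 IH) (Lpr_ft (f663709 IH) (Lpr_ct (K46.f647572 IH) (Lpn (LP (LK LD1_c6 LD2_c20 LD3_c31))))))
theorem f204613 : Led Lsl_bt (LP (LK LD1_c12 LD2_c14 LD3_c26)) = (LP (LK LD1_c6 LD2_c19 LD3_c39)) :=
  Lre_b IH (LK LD1_c12 LD2_c14 LD3_c26) (LK LD1_c6 LD2_c19 LD3_c39) Lrfl Lrfl
theorem f647561 : Led Lsl_bt (LP (LK LD1_c3 LD2_c7 LD3_c49)) = (LP (LK LD1_c6 LD2_c20 LD3_c31)) :=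
  Lre_b IH (LK LD1_c3 LD2_c7 LD3_c49) (LK LD1_c6 LD2_c20 LD3_c31) Lrfl Lrfl
def v5423 : LQ := Led Lsl_at (LP (LK LD1_c3 LD2_c7 LD3_c48))
theorem f647551 : Led Lsl_at (LP (LK LD1_c3 LD2_c7 LD3_c48)) = v5423 :=
  Lrfl
theorem f647552 : Led Lsl_af (LP (LK LD1_c3 LD2_c7 LD3_c48)) = v5423 :=
  Lgr Lrot0 (Lpr_at (f647551 IH) (Lpn v5423))
theorem f110460 : Led Lsl_gt (LP (LK LD1_c1 LD2_c30 LD3_c6)) = (LP (LK LD1_c3 LD2_c7 LD3_c48)) :=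
  Lre_g IH (LK LD1_c1 LD2_c30 LD3_c6) (LK LD1_c3 LD2_c7 LD3_c48) Lrfl Lrfl
theorem f647557 : Led Lsl_ft (LP (LK LD1_c3 LD2_c7 LD3_c49)) = v5423 :=
  Lgr Lrot2 (Lpr_gt (K46.f204547 IH) (Lpr_gt (f110460 IH) (Lpr_af (f647552 IH) (Lpn v5423))))
theorem f647560 : Led Lsl_ff (LP (LK LD1_c3 LD2_c7 LD3_c49)) = v5423 :=
  Lgr Lrot3 (Lpr_ft (f647557 IH) (Lpn v5423))
theorem f663716 : (LP (LK LD1_c6 LD2_c19 LD3_c39)) = v5423 :=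
  (Llr Lrot35 (Lpe (f204613 IH) (Lpr_ff (f663711 IH) (Lpe (f647561 IH) (Lpr_ff (f647560 IH) (Lpn v5423)))))).symm
def v5425 : LQ := Led Lsl_ft (LP (LK LD1_c3 LD2_c7 LD3_c48))
theorem f647565 : Led Lsl_ft (LP (LK LD1_c3 LD2_c7 LD3_c48)) = v5425 :=
  Lrfl
theorem f647567 : Led Lsl_ff (LP (LK LD1_c3 LD2_c7 LD3_c48)) = v5425 :=
  Lgr Lrot3 (Lpr_ft (f647565 IH) (Lpn v5425))
theorem f647568 : Led Lsl_at (LP (LK LD1_c3 LD2_c7 LD3_c49)) = v5425 :=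
  Lgr Lrot66 (Lpr_ff (f647560 IH) (Lpe (f647551 IH) (Lpr_ff (f647567 IH) (Lpn v5425))))
theorem f153584 : Led Lsl_gt (LP (LK LD1_c3 LD2_c7 LD3_c51)) = (LP (LK LD1_c6 LD2_c19 LD3_c40)) :=
  Lre_g IH (LK LD1_c3 LD2_c7 LD3_c51) (LK LD1_c6 LD2_c19 LD3_c40) Lrfl Lrfl
theorem f663721 : v5425 = (LP (LK LD1_c6 LD2_c19 LD3_c40)) :=
  (Llr Lrot26 (Lpe (f647568 IH) (Lpr_ff (f647560 IH) (Lpq (f663716 IH) (Lpr_gt (f153600 IH) (Lpr_gt (f153584 IH) (Lpn (LP (LK LD1_c6 LD2_c19 LD3_c40))))))))).symm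
theorem f506239 : Led Lsl_ct (LP (LK LD1_c6 LD2_c20 LD3_c29)) = (LP (LK LD1_c3 LD2_c7 LD3_c48)) :=
  Lre_c IH (LK LD1_c6 LD2_c20 LD3_c29) (LK LD1_c3 LD2_c7 LD3_c48) Lrfl Lrfl
theorem f759988 : Led Lsl_ff (LP (LK LD1_c6 LD2_c20 LD3_c29)) = v17473 :=
  Lgr Lrot23 (Lpr_ct (f506239 IH) (Lpr_ft (f647565 IH) (Lpqs (f663721 IH) (Lpr_ct (f759985 IH) (Lpn v17473)))))
def v6214 : LQ := Led Lsl_at (LP (LK LD1_c3 LD2_c19 LD3_c12))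
theorem f652115 : Led Lsl_at (LP (LK LD1_c3 LD2_c19 LD3_c12)) = v6214 :=
  Lrfl
theorem f652116 : Led Lsl_af (LP (LK LD1_c3 LD2_c19 LD3_c12)) = v6214 :=
  Lgr Lrot0 (Lpr_at (f652115 IH) (Lpn v6214))
theorem f204540 : Led Lsl_ct (LP (LK LD1_c3 LD2_c7 LD3_c48)) = (LP (LK LD1_c6 LD2_c20 LD3_c29)) :=
  Lre_c IH (LK LD1_c3 LD2_c7 LD3_c48) (LK LD1_c6 LD2_c20 LD3_c29) Lrfl Lrfl
theorem f663763 : v6214 = (LP (LK LD1_c6 LD2_c20 LD3_c29)) :=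
  (Llr Lrot68 (Lpe (f652116 IH) (Lpe (f500051 IH) (Lpqs (f663716 IH) (Lpe (f647552 IH) (Lpr_ct (f204540 IH) (Lpn (LP (LK LD1_c6 LD2_c20 LD3_c29))))))))).symm
theorem f759991 : Led Lsl_gf v6213 = v17473 :=
  Lgr Lrot47 (Lpe (f652114 IH) (Lpr_af (f652116 IH) (Lpqs (f663763 IH) (Lpr_ff (f759988 IH) (Lpn v17473)))))
def v6217 : LQ := Led Lsl_ft (LP (LK LD1_c3 LD2_c19 LD3_c12))
theorem f652131 : Led Lsl_ft (LP (LK LD1_c3 LD2_c19 LD3_c12)) = v6217 :=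
  Lrfl
theorem f759989 : Led Lsl_at v6217 = v17473 :=
  Lgr Lrot66 (Lpe (f652131 IH) (Lpr_af (f652116 IH) (Lpqs (f663763 IH) (Lpr_ff (f759988 IH) (Lpn v17473)))))
theorem f652133 : Led Lsl_ff (LP (LK LD1_c3 LD2_c19 LD3_c12)) = v6217 :=
  Lgr Lrot3 (Lpr_ft (f652131 IH) (Lpn v6217))
theorem f652134 : Led Lsl_bt v2125 = v6217 :=
  Lgr Lrot35 (Lpe (f509126 IH) (Lpe (f446051 IH) (Lpr_ff (f652133 IH) (Lpn v6217))))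
theorem f647584 : Led Lsl_bt (LP (LK LD1_c3 LD2_c18 LD3_c60)) = K46.v5426 :=
  Lgr Lrot127 (Lpr_bf (K46.f647575 IH) (Lpn K46.v5426))
theorem f663698 : v6217 = K46.v5426 :=
  Lefun (Lecon (f652134 IH) (f663693 IH).symm) (f647584 IH)
def v6198 : LQ := Led Lsl_ft (LP (LK LD1_c3 LD2_c18 LD3_c59))
theorem f652023 : Led Lsl_ft (LP (LK LD1_c3 LD2_c18 LD3_c59)) = v6198 :=
  Lrfl
theorem f652024 : Led Lsl_af (LP (LK LD1_c3 LD2_c18 LD3_c60)) = v6198 :=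
  Lgr Lrot45 (Lpr_ft (f652016 IH) (Lpe (f652013 IH) (Lpr_ft (f652023 IH) (Lpn v6198))))
theorem f663690 : (LP (LK LD1_c1 LD2_c36 LD3_c3)) = v6198 :=
  Lefun (Lecon (Lfl_ff (K46.f509123 IH)) (f663675 IH)) (f652023 IH)
theorem f436258 : Led Lsl_bt (LP (LK LD1_c3 LD2_c19 LD3_c16)) = (LP (LK LD1_c1 LD2_c36 LD3_c3)) :=
  Lre_b IH (LK LD1_c3 LD2_c19 LD3_c16) (LK LD1_c1 LD2_c36 LD3_c3) Lrfl Lrfl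
def v6230 : LQ := Led Lsl_at (LP (LK LD1_c3 LD2_c19 LD3_c16))
theorem f652219 : Led Lsl_at (LP (LK LD1_c3 LD2_c19 LD3_c16)) = v6230 :=
  Lrfl
theorem f652220 : Led Lsl_af (LP (LK LD1_c3 LD2_c19 LD3_c16)) = v6230 :=
  Lgr Lrot0 (Lpr_at (f652219 IH) (Lpn v6230))
theorem f759992 : Led Lsl_bf v6230 = v17473 :=
  Lgr Lrot81 (Lpe (f652220 IH) (Lpr_bt (f436258 IH) (Lpqs (f663690 IH) (Lpe (f652024 IH) (Lpr_bt (f647584 IH) (Lpq (f663698 IH) (Lpr_at (f759989 IH) (Lpn v17473))))))))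
theorem f759994 : Led Lsl_bt v6230 = v17473 :=
  Lgr Lrot127 (Lpr_bf (f759992 IH) (Lpn v17473))
theorem f761914 : Led Lsl_ct v6230 = v17729 :=
  Lgr Lrot63 (Lpr_bt (f759994 IH) (Lpe (f759991 IH) (Lpr_bf (f704780 IH) (Lpe (f704777 IH) (Lpe (f702043 IH) (Lpe (f506060 IH) (Lpr_bt (K46.f632411 IH) (Lpe (f632413 IH) (Lpr_ct (f632418 IH) (Lpr_gt (f761913 IH) (Lpn v17729)))))))))))
theorem f761916 : Led Lsl_cf v6230 = v17729 :=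
  Lgr Lrot11 (Lpr_ct (f761914 IH) (Lpn v17729))
theorem f436259 : Led Lsl_ct (LP (LK LD1_c3 LD2_c19 LD3_c16)) = (LP (LK LD1_c6 LD2_c42 LD3_c34)) :=
  Lre_c IH (LK LD1_c3 LD2_c19 LD3_c16) (LK LD1_c6 LD2_c42 LD3_c34) Lrfl Lrfl
theorem f761917 : Led Lsl_at (LP (LK LD1_c6 LD2_c42 LD3_c34)) = v17729 :=
  Lgr Lrot107 (Lpe (f436259 IH) (Lpr_af (f652220 IH) (Lpr_cf (f761916 IH) (Lpn v17729))))
theorem f761919 : Led Lsl_ff (LP (LK LD1_c6 LD2_c42 LD3_c34)) = v17730 :=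
  Lgr Lrot52 (Lpr_at (f761917 IH) (Lpe (f761913 IH) (Lpr_gf (f761918 IH) (Lpn v17730))))
theorem f652216 : Led Lsl_ct (LP (LK LD1_c6 LD2_c42 LD3_c34)) = (LP (LK LD1_c3 LD2_c19 LD3_c16)) :=
  Lre_c IH (LK LD1_c6 LD2_c42 LD3_c34) (LK LD1_c3 LD2_c19 LD3_c16) Lrfl Lrfl
def v6232 : LQ := Led Lsl_ft (LP (LK LD1_c3 LD2_c19 LD3_c16))
theorem f652225 : Led Lsl_ft (LP (LK LD1_c3 LD2_c19 LD3_c16)) = v6232 :=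
  Lrfl
theorem f761921 : Led Lsl_ct v6232 = v17730 :=
  Lgr Lrot40 (Lpe (f652225 IH) (Lpe (f652216 IH) (Lpr_ff (f761919 IH) (Lpn v17730))))
theorem f652227 : Led Lsl_ff (LP (LK LD1_c3 LD2_c19 LD3_c16)) = v6232 :=
  Lgr Lrot3 (Lpr_ft (f652225 IH) (Lpn v6232))
theorem f652228 : Led Lsl_bt K46.v2124 = v6232 :=
  Lgr Lrot35 (Lpe (K46.f509119 IH) (Lpe (f436258 IH) (Lpr_ff (f652227 IH) (Lpn v6232))))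
def v6197 : LQ := Led Lsl_bt (LP (LK LD1_c3 LD2_c18 LD3_c59))
theorem f652018 : Led Lsl_bt (LP (LK LD1_c3 LD2_c18 LD3_c59)) = v6197 :=
  Lrfl
theorem f663679 : v6232 = v6197 :=
  Lefun (Lecon (f652228 IH) (f663675 IH)) (f652018 IH)
theorem f652019 : Led Lsl_bf (LP (LK LD1_c3 LD2_c18 LD3_c59)) = v6197 :=
  Lgr Lrot24 (Lpr_bt (f652018 IH) (Lpn v6197))
def v13741 : LQ := Led Lsl_gf (LP (LK LD1_c4 LD2_c47 LD3_c44))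
theorem f704593 : Led Lsl_gf (LP (LK LD1_c4 LD2_c47 LD3_c44)) = v13741 :=
  Lrfl
theorem f704687 : Led Lsl_ff (LP (LK LD1_c4 LD2_c47 LD3_c51)) = v13755 :=
  Lgr Lrot3 (Lpr_ft (f704686 IH) (Lpn v13755))
def v13758 : LQ := Led Lsl_ft (LP (LK LD1_c4 LD2_c47 LD3_c50))
theorem f704698 : Led Lsl_ft (LP (LK LD1_c4 LD2_c47 LD3_c50)) = v13758 :=
  Lrfl
theorem f704700 : Led Lsl_ff (LP (LK LD1_c4 LD2_c47 LD3_c50)) = v13758 :=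
  Lgr Lrot3 (Lpr_ft (f704698 IH) (Lpn v13758))
theorem f704701 : Led Lsl_at (LP (LK LD1_c4 LD2_c47 LD3_c51)) = v13758 :=
  Lgr Lrot66 (Lpr_ff (f704687 IH) (Lpe (f704681 IH) (Lpr_ff (f704700 IH) (Lpn v13758))))
theorem f92218 : Led Lsl_ct (LP (LK LD1_c2 LD2_c21 LD3_c53)) = (LP (LK LD1_c4 LD2_c47 LD3_c53)) :=
  Lre_c IH (LK LD1_c2 LD2_c21 LD3_c53) (LK LD1_c4 LD2_c47 LD3_c53) Lrfl Lrfl
theorem f204602 : Led Lsl_bt (LP (LK LD1_c0 LD2_c18 LD3_c39)) = (LP (LK LD1_c0 LD2_c41 LD3_c39)) :=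
  Lre_b IH (LK LD1_c0 LD2_c18 LD3_c39) (LK LD1_c0 LD2_c41 LD3_c39) Lrfl Lrfl
theorem f444007 : Led Lsl_gf (LP (LK LD1_c4 LD2_c47 LD3_c53)) = (LP (LK LD1_c6 LD2_c20 LD3_c38)) :=
  Lgr Lrot126 (Lpe (f92218 IH) (Lpr_bt (K6.f92109 IH) (Lpe (K32.f416954 IH) (Lpr_ct (K29.f443997 IH) (Lpr_gt (K29.f68641 IH) (Lpr_cf (K11.f204263 IH) (Lpr_bt (f204602 IH) (Lpr_gt (K46.f110453 IH) (Lpe (K46.f419111 IH) (Lpr_ct (K46.f419112 IH) (Lpn (LP (LK LD1_c6 LD2_c20 LD3_c38)))))))))))))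
theorem f92171 : Led Lsl_at (LP (LK LD1_c2 LD2_c21 LD3_c49)) = (LP (LK LD1_c4 LD2_c47 LD3_c44)) :=
  Lre_a IH (LK LD1_c2 LD2_c21 LD3_c49) (LK LD1_c4 LD2_c47 LD3_c44) Lrfl Lrfl
theorem f92113 : Led Lsl_ft (LP (LK LD1_c4 LD2_c47 LD3_c53)) = (LP (LK LD1_c2 LD2_c21 LD3_c49)) :=
  Lre_f IH (LK LD1_c4 LD2_c47 LD3_c53) (LK LD1_c2 LD2_c21 LD3_c49) Lrfl Lrfl
theorem f704594 : Led Lsl_gt (LP (LK LD1_c4 LD2_c47 LD3_c53)) = v13741 :=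
  Lgr Lrot5 (Lpr_ft (f92113 IH) (Lpr_at (f92171 IH) (Lpr_gf (f704593 IH) (Lpn v13741))))
theorem f715857 : v13758 = v13741 :=
  (Llr Lrot26 (Lpe (f704701 IH) (Lpr_ff (f704687 IH) (Lpq (f715838 IH) (Lpe (f444007 IH) (Lpr_gt (f704594 IH) (Lpn v13741))))))).symm
def v17490 : LQ := Led Lsl_at (LP (LK LD1_c6 LD2_c19 LD3_c46))
theorem f760078 : Led Lsl_at (LP (LK LD1_c6 LD2_c19 LD3_c46)) = v17490 :=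
  Lrfl
theorem f435415 : Led Lsl_ct (LP (LK LD1_c4 LD2_c47 LD3_c51)) = (LP (LK LD1_c6 LD2_c19 LD3_c46)) :=
  Lgr Lrot59 (Lpr_cf (f435411 IH) (Lpn (LP (LK LD1_c6 LD2_c19 LD3_c46))))
theorem f704699 : Led Lsl_af (LP (LK LD1_c4 LD2_c47 LD3_c51)) = v13758 :=
  Lgr Lrot45 (Lpr_ft (f704686 IH) (Lpe (f704682 IH) (Lpr_ft (f704698 IH) (Lpn v13758))))
theorem f760081 : Led Lsl_cf v13758 = v17490 :=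
  Lgr Lrot1 (Lpe (f704699 IH) (Lpr_ct (f435415 IH) (Lpr_at (f760078 IH) (Lpn v17490))))
theorem f444009 : Led Lsl_gt (LP (LK LD1_c3 LD2_c7 LD3_c52)) = (LP (LK LD1_c6 LD2_c20 LD3_c36)) :=
  Lre_g IH (LK LD1_c3 LD2_c7 LD3_c52) (LK LD1_c6 LD2_c20 LD3_c36) Lrfl Lrfl
theorem f760083 : Led Lsl_gt (LP (LK LD1_c6 LD2_c20 LD3_c36)) = v17490 :=
  Lgr Lrot46 (Lpe (f444009 IH) (Lpr_ft (f647600 IH) (Lpqs (f707794 IH) (Lpr_at (f760078 IH) (Lpn v17490)))))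
theorem f761011 : Led Lsl_bf (LP (LK LD1_c6 LD2_c20 LD3_c36)) = v17585 :=
  Lgr Lrot24 (Lpr_bt (f761010 IH) (Lpn v17585))
theorem f761925 : v17585 = (LP (LK LD1_c3 LD2_c8 LD3_c37)) :=
  (Llr Lrot165 (Lpe (f761011 IH) (Lpr_gt (f760083 IH) (Lpe (f760081 IH) (Lpqs (f715857 IH) (Lpe (f704593 IH) (Lpe (K46.f135751 IH) (Lpr_bt (K46.f135749 IH) (Lpr_gt (K48.f24835 IH) (Lpr_bf (f652019 IH) (Lpq (f663679 IH) (Lpr_ct (f761921 IH) (Lpe (f761918 IH) (Lpe (f632418 IH) (Lpn (LP (LK LD1_c3 LD2_c8 LD3_c37))))))))))))))))).symm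
theorem f761927 : Led Lsl_bt (LP (LK LD1_c6 LD2_c20 LD3_c36)) = (LP (LK LD1_c3 LD2_c8 LD3_c37)) :=
  Leop (Lpq (f761925 IH) (Lpe (f761010 IH) (Lpn (LP (LK LD1_c6 LD2_c20 LD3_c36)))))
theorem seed_1193 : LEOK LG_b (LK LD1_c6 LD2_c20 LD3_c36) :=
  Leoe_b (LK LD1_c6 LD2_c20 LD3_c36) (f761927 IH)
def v17757 : LQ := Led Lsl_bt (LP (LK LD1_c6 LD2_c21 LD3_c58))
theorem f762045 : Led Lsl_bt (LP (LK LD1_c6 LD2_c21 LD3_c58)) = v17757 :=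
  Lrfl
theorem f762046 : Led Lsl_bf (LP (LK LD1_c6 LD2_c21 LD3_c58)) = v17757 :=
  Lgr Lrot24 (Lpr_bt (f762045 IH) (Lpn v17757))
theorem f504307 : Led Lsl_gt (LP (LK LD1_c6 LD2_c21 LD3_c58)) = (LP (LK LD1_c3 LD2_c8 LD3_c40)) :=
  Lre_g IH (LK LD1_c6 LD2_c21 LD3_c58) (LK LD1_c3 LD2_c8 LD3_c40) Lrfl Lrfl
theorem f92146 : Led Lsl_ct (LP (LK LD1_c4 LD2_c47 LD3_c55)) = (LP (LK LD1_c9 LD2_c28 LD3_c45)) :=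
  Lre_c IH (LK LD1_c4 LD2_c47 LD3_c55) (LK LD1_c9 LD2_c28 LD3_c45) Lrfl Lrfl
theorem f704745 : Led Lsl_gt (LP (LK LD1_c9 LD2_c28 LD3_c45)) = (LP (LK LD1_c17 LD2_c28 LD3_c58)) :=
  Lre_g IH (LK LD1_c9 LD2_c28 LD3_c45) (LK LD1_c17 LD2_c28 LD3_c58) Lrfl Lrfl
theorem f762048 : Led Lsl_cf (LP (LK LD1_c17 LD2_c28 LD3_c58)) = v17757 :=
  Lgr Lrot163 (Lpe (f704745 IH) (Lpe (f92146 IH) (Lpr_gf (K51.f704753 IH) (Lpqs (K51.f709167 IH) (Lpe (K51.f704862 IH) (Lpe (K35.f435721 IH) (Lpr_gf (K50.f504284 IH) (Lpe (K32.f435544 IH) (Lpr_bt (K46.f438518 IH) (Lpe (f504307 IH) (Lpr_bf (f762046 IH) (Lpn v17757))))))))))))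
theorem f762049 : Led Lsl_bt (LP (LK LD1_c17 LD2_c28 LD3_c58)) = (LP (LK LD1_c27 LD2_c19 LD3_c30)) :=
  Lre_b IH (LK LD1_c17 LD2_c28 LD3_c58) (LK LD1_c27 LD2_c19 LD3_c30) Lrfl Lrfl
theorem f504774 : Led Lsl_ct (LP (LK LD1_c12 LD2_c17 LD3_c34)) = (LP (LK LD1_c6 LD2_c21 LD3_c58)) :=
  Lre_c IH (LK LD1_c12 LD2_c17 LD3_c34) (LK LD1_c6 LD2_c21 LD3_c58) Lrfl Lrfl
theorem f762047 : Led Lsl_bt (LP (LK LD1_c21 LD2_c22 LD3_c54)) = (LP (LK LD1_c12 LD2_c17 LD3_c34)) :=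
  Lre_b IH (LK LD1_c21 LD2_c22 LD3_c54) (LK LD1_c12 LD2_c17 LD3_c34) Lrfl Lrfl
theorem f762050 : Led Lsl_ct (LP (LK LD1_c27 LD2_c19 LD3_c30)) = (LP (LK LD1_c21 LD2_c22 LD3_c54)) :=
  Lgr Lrot83 (Lpe (f762049 IH) (Lpr_cf (f762048 IH) (Lpe (f762045 IH) (Lpe (f504774 IH) (Lpe (f762047 IH) (Lpn (LP (LK LD1_c21 LD2_c22 LD3_c54))))))))
theorem f762051 : Led Lsl_ct (LP (LK LD1_c27 LD2_c19 LD3_c30)) = (LP (LK LD1_c21 LD2_c22 LD3_c54)) :=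
  Leop (Lpe (f762050 IH) (Lpn (LP (LK LD1_c27 LD2_c19 LD3_c30))))
theorem seed_1194 : LEOK LG_c (LK LD1_c27 LD2_c19 LD3_c30) :=
  Leoe_c (LK LD1_c27 LD2_c19 LD3_c30) (f762051 IH)
def v17773 : LQ := Led Lsl_ft (LP (LK LD1_c6 LD2_c22 LD3_c3))
theorem f762115 : Led Lsl_ft (LP (LK LD1_c6 LD2_c22 LD3_c3)) = v17773 :=
  Lrfl
theorem f762118 : Led Lsl_ff (LP (LK LD1_c6 LD2_c22 LD3_c3)) = v17773 :=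
  Lgr Lrot3 (Lpr_ft (f762115 IH) (Lpn v17773))
theorem f506196 : Led Lsl_et (LP (LK LD1_c6 LD2_c22 LD3_c3)) = (LP (LK LD1_c3 LD2_c8 LD3_c42)) :=
  Lre_e IH (LK LD1_c6 LD2_c22 LD3_c3) (LK LD1_c3 LD2_c8 LD3_c42) Lrfl Lrfl
theorem f505021 : Led Lsl_et (LP (LK LD1_c2 LD2_c51 LD3_c25)) = (LP (LK LD1_c5 LD2_c50 LD3_c31)) :=
  Lre_e IH (LK LD1_c2 LD2_c51 LD3_c25) (LK LD1_c5 LD2_c50 LD3_c31) Lrfl Lrfl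
theorem f762120 : Led Lsl_et (LP (LK LD1_c9 LD2_c20 LD3_c40)) = v17773 :=
  Lgr Lrot69 (Lpe (K35.f505016 IH) (Lpe (f505021 IH) (Lpr_ff (K42.f506189 IH) (Lpe (f506196 IH) (Lpr_ff (f762118 IH) (Lpn v17773))))))
theorem f445645 : Led Lsl_df (LP (LK LD1_c5 LD2_c52 LD3_c52)) = (LP (LK LD1_c9 LD2_c20 LD3_c40)) :=
  Lgr Lrot12 (Lpr_bt (K48.f436295 IH) (Lpr_dt (K24.f445621 IH) (Lpr_bt (K35.f442827 IH) (Lpn (LP (LK LD1_c9 LD2_c20 LD3_c40))))))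
theorem f614604 : Led Lsl_bf (LP (LK LD1_c11 LD2_c37 LD3_c1)) = (LP (LK LD1_c6 LD2_c3 LD3_c39)) :=
  Lgr Lrot24 (Lpr_bt (K55.f614602 IH) (Lpn (LP (LK LD1_c6 LD2_c3 LD3_c39))))
theorem f500349 : Led Lsl_ct (LP (LK LD1_c2 LD2_c52 LD3_c32)) = (LP (LK LD1_c5 LD2_c52 LD3_c33)) :=
  Lre_c IH (LK LD1_c2 LD2_c52 LD3_c32) (LK LD1_c5 LD2_c52 LD3_c33) Lrfl Lrfl
theorem f641207 : Led Lsl_gt K48.v4914 = K48.v4989 :=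
  Lgr Lrot149 (Lpe (K48.f640893 IH) (Lpe (K24.f79887 IH) (Lpe (K45.f151893 IH) (Lpr_ct (f500349 IH) (Lpe (K55.f599819 IH) (Lpr_cf (K55.f616350 IH) (Lpe (f614604 IH) (Lpe (K45.f117001 IH) (Lpe (K52.f117011 IH) (Lpr_ct (K48.f641202 IH) (Lpn K48.v4989)))))))))))
theorem f445651 : Led Lsl_bt (LP (LK LD1_c2 LD2_c52 LD3_c41)) = (LP (LK LD1_c5 LD2_c52 LD3_c52)) :=
  Lre_b IH (LK LD1_c2 LD2_c52 LD3_c41) (LK LD1_c5 LD2_c52 LD3_c52) Lrfl Lrfl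
theorem f428366 : Led Lsl_bt (LP (LK LD1_c15 LD2_c4 LD3_c48)) = (LP (LK LD1_c8 LD2_c0 LD3_c17)) :=
  Lre_b IH (LK LD1_c15 LD2_c4 LD3_c48) (LK LD1_c8 LD2_c0 LD3_c17) Lrfl Lrfl
theorem f711178 : Led Lsl_gf (LP (LK LD1_c5 LD2_c52 LD3_c52)) = (LP (LK LD1_c8 LD2_c0 LD3_c17)) :=
  Lgr Lrot124 (Lpe (f445651 IH) (Lpr_ct (K48.f640893 IH) (Lpr_gt (f641207 IH) (Lpe (K48.f641202 IH) (Lpr_bt (K52.f117011 IH) (Lpr_gt (K45.f117001 IH) (Lpr_ct (K52.f116993 IH) (Lpr_gt (K52.f711174 IH) (Lpe (K52.f112513 IH) (Lpr_bt (f428366 IH) (Lpn (LP (LK LD1_c8 LD2_c0 LD3_c17)))))))))))))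
theorem f112527 : Led Lsl_dt (LP (LK LD1_c3 LD2_c59 LD3_c35)) = (LP (LK LD1_c8 LD2_c0 LD3_c17)) :=
  Lre_d IH (LK LD1_c3 LD2_c59 LD3_c35) (LK LD1_c8 LD2_c0 LD3_c17) Lrfl Lrfl
def v12291 : LQ := Led Lsl_gf (LP (LK LD1_c3 LD2_c59 LD3_c35))
theorem f689206 : Led Lsl_gf (LP (LK LD1_c3 LD2_c59 LD3_c35)) = v12291 :=
  Lrfl
theorem f711183 : (LP (LK LD1_c6 LD2_c30 LD3_c21)) = v12291 :=
  Lefun (Lecon (Lfl_gt (K52.f640862 IH)) (K52.f711180 IH)) (f689206 IH)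
theorem f689243 : Led Lsl_et (LP (LK LD1_c3 LD2_c59 LD3_c50)) = (LP (LK LD1_c8 LD2_c0 LD3_c47)) :=
  Lre_e IH (LK LD1_c3 LD2_c59 LD3_c50) (LK LD1_c8 LD2_c0 LD3_c47) Lrfl Lrfl
theorem f762121 : Led Lsl_gf (LP (LK LD1_c8 LD2_c0 LD3_c47)) = v17773 :=
  Lgr Lrot141 (Lpe (f689243 IH) (Lpr_dt (K52.f83930 IH) (Lpr_gt (K52.f415979 IH) (Lpe (K52.f711185 IH) (Lpr_et (K52.f505685 IH) (Lpqs (f711183 IH) (Lpe (f689206 IH) (Lpr_dt (f112527 IH) (Lpe (f711178 IH) (Lpr_df (f445645 IH) (Lpr_et (f762120 IH) (Lpn v17773))))))))))))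
theorem f504914 : Led Lsl_at (LP (LK LD1_c6 LD2_c22 LD3_c3)) = (LP (LK LD1_c12 LD2_c17 LD3_c46)) :=
  Lre_a IH (LK LD1_c6 LD2_c22 LD3_c3) (LK LD1_c12 LD2_c17 LD3_c46) Lrfl Lrfl
theorem f762122 : Led Lsl_gt (LP (LK LD1_c8 LD2_c0 LD3_c47)) = (LP (LK LD1_c12 LD2_c17 LD3_c46)) :=
  Lgr Lrot46 (Lpr_gf (f762121 IH) (Lpe (f762118 IH) (Lpr_at (f504914 IH) (Lpn (LP (LK LD1_c12 LD2_c17 LD3_c46))))))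
theorem f762123 : Led Lsl_gt (LP (LK LD1_c8 LD2_c0 LD3_c47)) = (LP (LK LD1_c12 LD2_c17 LD3_c46)) :=
  Leop (Lpe (f762122 IH) (Lpn (LP (LK LD1_c8 LD2_c0 LD3_c47))))
theorem seed_1195 : LEOK LG_g (LK LD1_c8 LD2_c0 LD3_c47) :=
  Leoe_g (LK LD1_c8 LD2_c0 LD3_c47) (f762123 IH)
def v17832 : LQ := Led Lsl_gf (LP (LK LD1_c6 LD2_c22 LD3_c48))
theorem f762346 : Led Lsl_gf (LP (LK LD1_c6 LD2_c22 LD3_c48)) = v17832 :=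
  Lrfl
theorem f434785 : Led Lsl_ef (LP (LK LD1_c1 LD2_c30 LD3_c43)) = (LP (LK LD1_c1 LD2_c30 LD3_c43)) :=
  Lgr Lrot28 (Lpr_ct (K49.f155020 IH) (Lpr_et (K49.f10925 IH) (Lpe (K49.f434779 IH) (Lpn (LP (LK LD1_c1 LD2_c30 LD3_c43))))))
theorem f434790 : Led Lsl_et (LP (LK LD1_c3 LD2_c9 LD3_c5)) = (LP (LK LD1_c6 LD2_c22 LD3_c48)) :=
  Lre_e IH (LK LD1_c3 LD2_c9 LD3_c5) (LK LD1_c6 LD2_c22 LD3_c48) Lrfl Lrfl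
theorem f434791 : Led Lsl_et (LP (LK LD1_c6 LD2_c22 LD3_c48)) = (LP (LK LD1_c3 LD2_c9 LD3_c5)) :=
  Lre_e IH (LK LD1_c6 LD2_c22 LD3_c48) (LK LD1_c3 LD2_c9 LD3_c5) Lrfl Lrfl
theorem f434792 : Led Lsl_dt (LP (LK LD1_c6 LD2_c22 LD3_c48)) = (LP (LK LD1_c6 LD2_c22 LD3_c48)) :=
  Lgr Lrot77 (Lpe (f434790 IH) (Lpe (K49.f434789 IH) (Lpr_ef (f434785 IH) (Lpe (K49.f434781 IH) (Lpe (f434791 IH) (Lpn (LP (LK LD1_c6 LD2_c22 LD3_c48))))))))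
theorem f83193 : Led Lsl_df (LP (LK LD1_c0 LD2_c45 LD3_c32)) = (LP (LK LD1_c1 LD2_c30 LD3_c47)) :=
  Lgr Lrot12 (Lpr_bt (K1.f68098 IH) (Lpr_dt (K2.f83188 IH) (Lpr_bt (K3.f83192 IH) (Lpn (LP (LK LD1_c1 LD2_c30 LD3_c47))))))
theorem f83569 : Led Lsl_gt (LP (LK LD1_c3 LD2_c9 LD3_c16)) = (LP (LK LD1_c6 LD2_c23 LD3_c15)) :=
  Lre_g IH (LK LD1_c3 LD2_c9 LD3_c16) (LK LD1_c6 LD2_c23 LD3_c15) Lrfl Lrfl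
theorem f83512 : Led Lsl_et (LP (LK LD1_c12 LD2_c19 LD3_c61)) = (LP (LK LD1_c6 LD2_c23 LD3_c15)) :=
  Lre_e IH (LK LD1_c12 LD2_c19 LD3_c61) (LK LD1_c6 LD2_c23 LD3_c15) Lrfl Lrfl
theorem f762348 : Led Lsl_dt (LP (LK LD1_c12 LD2_c19 LD3_c61)) = v17832 :=
  Lgr Lrot136 (Lpr_et (f83512 IH) (Lpe (f83569 IH) (Lpe (K2.f83593 IH) (Lpe (f83193 IH) (Lpe (K2.f11933 IH) (Lpe (K11.f76750 IH) (Lpe (K49.f446978 IH) (Lpe (f434791 IH) (Lpr_dt (f434792 IH) (Lpr_gf (f762346 IH) (Lpn v17832)))))))))))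
theorem f762350 : Led Lsl_df (LP (LK LD1_c12 LD2_c19 LD3_c61)) = v17832 :=
  Lgr Lrot38 (Lpr_dt (f762348 IH) (Lpn v17832))
theorem f759700 : Led Lsl_af (LP (LK LD1_c6 LD2_c19 LD3_c3)) = v17426 :=
  Lgr Lrot0 (Lpr_at (f759699 IH) (Lpn v17426))
theorem f759713 : Led Lsl_af (LP (LK LD1_c6 LD2_c23 LD3_c16)) = (LP (LK LD1_c12 LD2_c13 LD3_c54)) :=
  Lgr Lrot117 (Lpr_dt (f759711 IH) (Lpe (f759700 IH) (Lpr_dt (K2.f68218 IH) (Lpn (LP (LK LD1_c12 LD2_c13 LD3_c54))))))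
theorem f83511 : Led Lsl_gt (LP (LK LD1_c6 LD2_c23 LD3_c15)) = (LP (LK LD1_c12 LD2_c19 LD3_c47)) :=
  Lre_g IH (LK LD1_c6 LD2_c23 LD3_c15) (LK LD1_c12 LD2_c19 LD3_c47) Lrfl Lrfl
theorem f759725 : Led Lsl_ft (LP (LK LD1_c6 LD2_c23 LD3_c15)) = (LP (LK LD1_c12 LD2_c13 LD3_c54)) :=
  Lgr Lrot2 (Lpr_gt (f83511 IH) (Lpr_gt (f83513 IH) (Lpr_af (f759713 IH) (Lpn (LP (LK LD1_c12 LD2_c13 LD3_c54))))))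
theorem f759729 : Led Lsl_ff (LP (LK LD1_c6 LD2_c23 LD3_c15)) = (LP (LK LD1_c12 LD2_c13 LD3_c54)) :=
  Lgr Lrot3 (Lpr_ft (f759725 IH) (Lpn (LP (LK LD1_c12 LD2_c13 LD3_c54))))
theorem f83541 : Led Lsl_gt (LP (LK LD1_c6 LD2_c23 LD3_c9)) = (LP (LK LD1_c12 LD2_c19 LD3_c46)) :=
  Lre_g IH (LK LD1_c6 LD2_c23 LD3_c9) (LK LD1_c12 LD2_c19 LD3_c46) Lrfl Lrfl
theorem f759734 : Led Lsl_at (LP (LK LD1_c6 LD2_c23 LD3_c15)) = (LP (LK LD1_c12 LD2_c19 LD3_c46)) :=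
  Lgr Lrot26 (Lpr_ff (f759729 IH) (Lpr_gt (K2.f83715 IH) (Lpr_gt (f83541 IH) (Lpn (LP (LK LD1_c12 LD2_c19 LD3_c46))))))
theorem f434794 : Led Lsl_at (LP (LK LD1_c3 LD2_c9 LD3_c8)) = (LP (LK LD1_c6 LD2_c22 LD3_c48)) :=
  Lre_a IH (LK LD1_c3 LD2_c9 LD3_c8) (LK LD1_c6 LD2_c22 LD3_c48) Lrfl Lrfl
theorem f434795 : Led Lsl_at (LP (LK LD1_c6 LD2_c22 LD3_c48)) = (LP (LK LD1_c3 LD2_c9 LD3_c8)) :=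
  Lre_a IH (LK LD1_c6 LD2_c22 LD3_c48) (LK LD1_c3 LD2_c9 LD3_c8) Lrfl Lrfl
theorem f434796 : Led Lsl_df (LP (LK LD1_c3 LD2_c9 LD3_c8)) = (LP (LK LD1_c3 LD2_c9 LD3_c8)) :=
  Lgr Lrot18 (Lpr_at (f434794 IH) (Lpr_dt (f434792 IH) (Lpr_at (f434795 IH) (Lpn (LP (LK LD1_c3 LD2_c9 LD3_c8))))))
theorem f434842 : Led Lsl_gt (LP (LK LD1_c6 LD2_c22 LD3_c57)) = (LP (LK LD1_c3 LD2_c9 LD3_c8)) :=
  Lre_g IH (LK LD1_c6 LD2_c22 LD3_c57) (LK LD1_c3 LD2_c9 LD3_c8) Lrfl Lrfl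
theorem f434823 : Led Lsl_dt (LP (LK LD1_c12 LD2_c19 LD3_c27)) = (LP (LK LD1_c6 LD2_c22 LD3_c57)) :=
  Lre_d IH (LK LD1_c12 LD2_c19 LD3_c27) (LK LD1_c6 LD2_c22 LD3_c57) Lrfl Lrfl
theorem f154815 : Led Lsl_et (LP (LK LD1_c3 LD2_c9 LD3_c8)) = (LP (LK LD1_c1 LD2_c30 LD3_c44)) :=
  Lre_e IH (LK LD1_c3 LD2_c9 LD3_c8) (LK LD1_c1 LD2_c30 LD3_c44) Lrfl Lrfl
theorem f83483 : Led Lsl_et (LP (LK LD1_c3 LD2_c9 LD3_c14)) = (LP (LK LD1_c6 LD2_c23 LD3_c9)) :=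
  Lre_e IH (LK LD1_c3 LD2_c9 LD3_c14) (LK LD1_c6 LD2_c23 LD3_c9) Lrfl Lrfl
theorem f434845 : Led Lsl_et (LP (LK LD1_c12 LD2_c19 LD3_c27)) = (LP (LK LD1_c12 LD2_c19 LD3_c46)) :=
  Lgr Lrot122 (Lpr_dt (f434823 IH) (Lpr_gt (f434842 IH) (Lpr_df (f434796 IH) (Lpr_et (f154815 IH) (Lpr_gt (K7.f154796 IH) (Lpe (K7.f154797 IH) (Lpe (K2.f68108 IH) (Lpr_df (K7.f83481 IH) (Lpr_et (f83483 IH) (Lpr_gt (f83541 IH) (Lpn (LP (LK LD1_c12 LD2_c19 LD3_c46)))))))))))))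
theorem f434847 : Led Lsl_ef (LP (LK LD1_c12 LD2_c19 LD3_c27)) = (LP (LK LD1_c12 LD2_c19 LD3_c46)) :=
  Lgr Lrot88 (Lpr_et (f434845 IH) (Lpn (LP (LK LD1_c12 LD2_c19 LD3_c46))))
theorem f759740 : Led Lsl_af (LP (LK LD1_c12 LD2_c19 LD3_c61)) = (LP (LK LD1_c12 LD2_c19 LD3_c27)) :=
  Lgr Lrot50 (Lpr_et (f83512 IH) (Lpr_at (f759734 IH) (Lpe (f434847 IH) (Lpn (LP (LK LD1_c12 LD2_c19 LD3_c27))))))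
theorem f759768 : Led Lsl_at (LP (LK LD1_c12 LD2_c19 LD3_c61)) = (LP (LK LD1_c12 LD2_c19 LD3_c27)) :=
  Lgr Lrot100 (Lpr_af (f759740 IH) (Lpn (LP (LK LD1_c12 LD2_c19 LD3_c27))))
theorem f762351 : Led Lsl_at (LP (LK LD1_c6 LD2_c22 LD3_c57)) = v17832 :=
  Lgr Lrot51 (Lpe (f434823 IH) (Lpe (f759768 IH) (Lpr_df (f762350 IH) (Lpn v17832))))
theorem f434830 : Led Lsl_ft (LP (LK LD1_c6 LD2_c22 LD3_c58)) = (LP (LK LD1_c3 LD2_c9 LD3_c8)) :=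
  Lre_f IH (LK LD1_c6 LD2_c22 LD3_c58) (LK LD1_c3 LD2_c9 LD3_c8) Lrfl Lrfl
theorem f762347 : Led Lsl_gt (LP (LK LD1_c6 LD2_c22 LD3_c58)) = v17832 :=
  Lgr Lrot5 (Lpr_ft (f434830 IH) (Lpr_at (f434794 IH) (Lpr_gf (f762346 IH) (Lpn v17832))))
theorem f434831 : Led Lsl_gt (LP (LK LD1_c12 LD2_c19 LD3_c2)) = (LP (LK LD1_c6 LD2_c22 LD3_c58)) :=
  Lre_g IH (LK LD1_c12 LD2_c19 LD3_c2) (LK LD1_c6 LD2_c22 LD3_c58) Lrfl Lrfl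
theorem f762352 : Led Lsl_ff (LP (LK LD1_c6 LD2_c22 LD3_c57)) = (LP (LK LD1_c12 LD2_c19 LD3_c2)) :=
  Lgr Lrot52 (Lpr_at (f762351 IH) (Lpe (f762347 IH) (Lpe (f434831 IH) (Lpn (LP (LK LD1_c12 LD2_c19 LD3_c2))))))
theorem f762353 : Led Lsl_ft (LP (LK LD1_c12 LD2_c19 LD3_c2)) = (LP (LK LD1_c6 LD2_c22 LD3_c57)) :=
  Leop (Lpr_ff (f762352 IH) (Lpn (LP (LK LD1_c12 LD2_c19 LD3_c2))))
theorem seed_1196 : LEOK LG_f (LK LD1_c12 LD2_c19 LD3_c2) :=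
  Leoe_f (LK LD1_c12 LD2_c19 LD3_c2) (f762353 IH)
theorem f762354 : Led Lsl_ft (LP (LK LD1_c6 LD2_c22 LD3_c57)) = (LP (LK LD1_c12 LD2_c19 LD3_c2)) :=
  Lgr Lrot48 (Lpr_ff (f762352 IH) (Lpn (LP (LK LD1_c12 LD2_c19 LD3_c2))))
theorem f434737 : Led Lsl_gt (LP (LK LD1_c3 LD2_c9 LD3_c8)) = (LP (LK LD1_c6 LD2_c22 LD3_c56)) :=
  Lre_g IH (LK LD1_c3 LD2_c9 LD3_c8) (LK LD1_c6 LD2_c22 LD3_c56) Lrfl Lrfl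
theorem f762356 : Led Lsl_af (LP (LK LD1_c6 LD2_c22 LD3_c56)) = (LP (LK LD1_c12 LD2_c19 LD3_c2)) :=
  Lgr Lrot31 (Lpe (f434737 IH) (Lpe (f434842 IH) (Lpr_ft (f762354 IH) (Lpn (LP (LK LD1_c12 LD2_c19 LD3_c2))))))
theorem f434819 : Led Lsl_dt (LP (LK LD1_c6 LD2_c22 LD3_c57)) = (LP (LK LD1_c12 LD2_c19 LD3_c27)) :=
  Lre_d IH (LK LD1_c6 LD2_c22 LD3_c57) (LK LD1_c12 LD2_c19 LD3_c27) Lrfl Lrfl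
theorem f762349 : Led Lsl_af (LP (LK LD1_c6 LD2_c22 LD3_c57)) = v17832 :=
  Lgr Lrot117 (Lpr_dt (f434819 IH) (Lpe (f759740 IH) (Lpr_dt (f762348 IH) (Lpn v17832))))
theorem f762360 : Led Lsl_ft (LP (LK LD1_c6 LD2_c22 LD3_c56)) = v17832 :=
  Lgr Lrot101 (Lpr_af (f762356 IH) (Lpe (f762354 IH) (Lpr_af (f762349 IH) (Lpn v17832))))
theorem f434817 : Led Lsl_dt (LP (LK LD1_c12 LD2_c19 LD3_c25)) = (LP (LK LD1_c6 LD2_c22 LD3_c56)) :=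
  Lre_d IH (LK LD1_c12 LD2_c19 LD3_c25) (LK LD1_c6 LD2_c22 LD3_c56) Lrfl Lrfl
theorem f762361 : Led Lsl_ff (LP (LK LD1_c12 LD2_c19 LD3_c25)) = (LP (LK LD1_c12 LD2_c19 LD3_c61)) :=
  Lgr Lrot19 (Lpr_dt (f434817 IH) (Lpr_ft (f762360 IH) (Lpe (f762350 IH) (Lpn (LP (LK LD1_c12 LD2_c19 LD3_c61))))))
theorem f762362 : Led Lsl_ft (LP (LK LD1_c12 LD2_c19 LD3_c61)) = (LP (LK LD1_c12 LD2_c19 LD3_c25)) :=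
  Leop (Lpr_ff (f762361 IH) (Lpn (LP (LK LD1_c12 LD2_c19 LD3_c61))))
theorem seed_1197 : LEOK LG_f (LK LD1_c12 LD2_c19 LD3_c61) :=
  Leoe_f (LK LD1_c12 LD2_c19 LD3_c61) (f762362 IH)
def v17875 : LQ := Led Lsl_ft (LP (LK LD1_c6 LD2_c23 LD3_c28))
theorem f762558 : Led Lsl_ft (LP (LK LD1_c6 LD2_c23 LD3_c28)) = v17875 :=
  Lrfl
def v17873 : LQ := Led Lsl_gt (LP (LK LD1_c6 LD2_c23 LD3_c28))
theorem f762551 : Led Lsl_gt (LP (LK LD1_c6 LD2_c23 LD3_c28)) = v17873 :=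
  Lrfl
def v17870 : LQ := Led Lsl_ct (LP (LK LD1_c6 LD2_c23 LD3_c26))
theorem f762520 : Led Lsl_ct (LP (LK LD1_c6 LD2_c23 LD3_c26)) = v17870 :=
  Lrfl
theorem f648122 : Led Lsl_at (LP (LK LD1_c3 LD2_c9 LD3_c22)) = (LP (LK LD1_c6 LD2_c23 LD3_c26)) :=
  Lre_a IH (LK LD1_c3 LD2_c9 LD3_c22) (LK LD1_c6 LD2_c23 LD3_c26) Lrfl Lrfl
theorem f153890 : Led Lsl_ct (LP (LK LD1_c6 LD2_c23 LD3_c28)) = (LP (LK LD1_c3 LD2_c9 LD3_c22)) :=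
  Lre_c IH (LK LD1_c6 LD2_c23 LD3_c28) (LK LD1_c3 LD2_c9 LD3_c22) Lrfl Lrfl
theorem f762521 : Led Lsl_af (LP (LK LD1_c6 LD2_c23 LD3_c28)) = v17870 :=
  Lgr Lrot68 (Lpr_ct (f153890 IH) (Lpr_at (f648122 IH) (Lpr_ct (f762520 IH) (Lpn v17870))))
theorem f648129 : Led Lsl_ft (LP (LK LD1_c3 LD2_c9 LD3_c23)) = (LP (LK LD1_c6 LD2_c23 LD3_c26)) :=
  Lre_f IH (LK LD1_c3 LD2_c9 LD3_c23) (LK LD1_c6 LD2_c23 LD3_c26) Lrfl Lrfl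
theorem f504632 : Led Lsl_ct (LP (LK LD1_c6 LD2_c23 LD3_c33)) = (LP (LK LD1_c3 LD2_c9 LD3_c23)) :=
  Lre_c IH (LK LD1_c6 LD2_c23 LD3_c33) (LK LD1_c3 LD2_c9 LD3_c23) Lrfl Lrfl
theorem f762523 : Led Lsl_ff (LP (LK LD1_c6 LD2_c23 LD3_c33)) = v17870 :=
  Lgr Lrot23 (Lpr_ct (f504632 IH) (Lpr_ft (f648129 IH) (Lpr_ct (f762520 IH) (Lpn v17870))))
theorem f762525 : Led Lsl_ft (LP (LK LD1_c6 LD2_c23 LD3_c33)) = v17870 :=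
  Lgr Lrot48 (Lpr_ff (f762523 IH) (Lpn v17870))
theorem f762559 : Led Lsl_af (LP (LK LD1_c6 LD2_c23 LD3_c33)) = v17875 :=
  Lgr Lrot45 (Lpr_ft (f762525 IH) (Lpe (f762521 IH) (Lpr_ft (f762558 IH) (Lpn v17875))))
theorem f762562 : Led Lsl_gt v17873 = (LP (LK LD1_c6 LD2_c23 LD3_c33)) :=
  Lgr Lrot46 (Lpe (f762551 IH) (Lpr_ft (f762558 IH) (Lpe (f762559 IH) (Lpn (LP (LK LD1_c6 LD2_c23 LD3_c33))))))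
theorem f153889 : Led Lsl_ct (LP (LK LD1_c3 LD2_c9 LD3_c22)) = (LP (LK LD1_c6 LD2_c23 LD3_c28)) :=
  Lre_c IH (LK LD1_c3 LD2_c9 LD3_c22) (LK LD1_c6 LD2_c23 LD3_c28) Lrfl Lrfl
theorem f86422 : Led Lsl_gt (LP (LK LD1_c1 LD2_c30 LD3_c50)) = (LP (LK LD1_c3 LD2_c9 LD3_c22)) :=
  Lre_g IH (LK LD1_c1 LD2_c30 LD3_c50) (LK LD1_c3 LD2_c9 LD3_c22) Lrfl Lrfl
theorem f83206 : Led Lsl_bt (LP (LK LD1_c1 LD2_c30 LD3_c48)) = (LP (LK LD1_c3 LD2_c9 LD3_c17)) :=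
  Lre_b IH (LK LD1_c1 LD2_c30 LD3_c48) (LK LD1_c3 LD2_c9 LD3_c17) Lrfl Lrfl
theorem f83381 : Led Lsl_gt (LP (LK LD1_c6 LD2_c23 LD3_c19)) = (LP (LK LD1_c3 LD2_c9 LD3_c17)) :=
  Lre_g IH (LK LD1_c6 LD2_c23 LD3_c19) (LK LD1_c3 LD2_c9 LD3_c17) Lrfl Lrfl
def v17861 : LQ := Led Lsl_bt (LP (LK LD1_c6 LD2_c23 LD3_c19))
theorem f762483 : Led Lsl_bt (LP (LK LD1_c6 LD2_c23 LD3_c19)) = v17861 :=
  Lrfl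
theorem f762484 : Led Lsl_bf (LP (LK LD1_c6 LD2_c23 LD3_c19)) = v17861 :=
  Lgr Lrot24 (Lpr_bt (f762483 IH) (Lpn v17861))
theorem f762552 : Led Lsl_ct v17861 = v17873 :=
  Lgr Lrot63 (Lpe (f762484 IH) (Lpr_gt (f83381 IH) (Lpe (f83206 IH) (Lpr_ct (K6.f83205 IH) (Lpr_gt (K2.f61776 IH) (Lpe (K2.f67085 IH) (Lpr_bt (K16.f67097 IH) (Lpr_gt (f86422 IH) (Lpr_ct (f153889 IH) (Lpr_gt (f762551 IH) (Lpn v17873)))))))))))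
theorem f83368 : Led Lsl_at (LP (LK LD1_c6 LD2_c23 LD3_c20)) = (LP (LK LD1_c3 LD2_c9 LD3_c17)) :=
  Lre_a IH (LK LD1_c6 LD2_c23 LD3_c20) (LK LD1_c3 LD2_c9 LD3_c17) Lrfl Lrfl
theorem f83382 : Led Lsl_gt (LP (LK LD1_c6 LD2_c27 LD3_c46)) = (LP (LK LD1_c6 LD2_c23 LD3_c19)) :=
  Lgr Lrot5 (Lpr_ft (K2.f83363 IH) (Lpr_at (f83368 IH) (Lpe (f83381 IH) (Lpn (LP (LK LD1_c6 LD2_c23 LD3_c19))))))
theorem f67598 : Led Lsl_gt (LP (LK LD1_c6 LD2_c27 LD3_c57)) = (LP (LK LD1_c12 LD2_c27 LD3_c11)) :=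
  Lre_g IH (LK LD1_c6 LD2_c27 LD3_c57) (LK LD1_c12 LD2_c27 LD3_c11) Lrfl Lrfl
theorem f67599 : Led Lsl_gf (LP (LK LD1_c12 LD2_c13 LD3_c25)) = (LP (LK LD1_c12 LD2_c27 LD3_c11)) :=
  Lgr Lrot76 (Lpe (K2.f67584 IH) (Lpr_ff (K2.f67569 IH) (Lpr_gt (f67598 IH) (Lpn (LP (LK LD1_c12 LD2_c27 LD3_c11))))))
theorem f153894 : Led Lsl_ct (LP (LK LD1_c3 LD2_c9 LD3_c23)) = (LP (LK LD1_c6 LD2_c23 LD3_c33)) :=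
  Lre_c IH (LK LD1_c3 LD2_c9 LD3_c23) (LK LD1_c6 LD2_c23 LD3_c33) Lrfl Lrfl
theorem f648127 : Led Lsl_bt (LP (LK LD1_c3 LD2_c9 LD3_c23)) = (LP (LK LD1_c6 LD2_c23 LD3_c32)) :=
  Lre_b IH (LK LD1_c3 LD2_c9 LD3_c23) (LK LD1_c6 LD2_c23 LD3_c32) Lrfl Lrfl
theorem f67117 : Led Lsl_gt (LP (LK LD1_c6 LD2_c23 LD3_c32)) = (LP (LK LD1_c12 LD2_c20 LD3_c25)) :=
  Lre_g IH (LK LD1_c6 LD2_c23 LD3_c32) (LK LD1_c12 LD2_c20 LD3_c25) Lrfl Lrfl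
theorem f762563 : Led Lsl_cf (LP (LK LD1_c12 LD2_c27 LD3_c11)) = (LP (LK LD1_c12 LD2_c20 LD3_c25)) :=
  Lgr Lrot125 (Lpe (f67599 IH) (Lpe (K2.f67548 IH) (Lpr_bt (K2.f67988 IH) (Lpr_gt (f83382 IH) (Lpr_bf (f762484 IH) (Lpr_ct (f762552 IH) (Lpr_gt (f762562 IH) (Lpe (f153894 IH) (Lpr_bt (f648127 IH) (Lpr_gt (f67117 IH) (Lpn (LP (LK LD1_c12 LD2_c20 LD3_c25)))))))))))))
theorem f762564 : Led Lsl_ct (LP (LK LD1_c12 LD2_c20 LD3_c25)) = (LP (LK LD1_c12 LD2_c27 LD3_c11)) :=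
  Leop (Lpr_cf (f762563 IH) (Lpn (LP (LK LD1_c12 LD2_c20 LD3_c25))))
theorem seed_1198 : LEOK LG_c (LK LD1_c12 LD2_c20 LD3_c25) :=
  Leoe_c (LK LD1_c12 LD2_c20 LD3_c25) (f762564 IH)
def v17902 : LQ := Led Lsl_ft (LP (LK LD1_c6 LD2_c23 LD3_c46))
theorem f762706 : Led Lsl_ft (LP (LK LD1_c6 LD2_c23 LD3_c46)) = v17902 :=
  Lrfl
theorem f435982 : Led Lsl_gt (LP (LK LD1_c6 LD2_c23 LD3_c46)) = (LP (LK LD1_c12 LD2_c20 LD3_c53)) :=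
  Lre_g IH (LK LD1_c6 LD2_c23 LD3_c46) (LK LD1_c12 LD2_c20 LD3_c53) Lrfl Lrfl
theorem f152667 : Led Lsl_dt (LP (LK LD1_c3 LD2_c22 LD3_c31)) = (LP (LK LD1_c6 LD2_c48 LD3_c50)) :=
  Lre_d IH (LK LD1_c3 LD2_c22 LD3_c31) (LK LD1_c6 LD2_c48 LD3_c50) Lrfl Lrfl
theorem f152753 : Led Lsl_dt (LP (LK LD1_c6 LD2_c23 LD3_c46)) = (LP (LK LD1_c3 LD2_c9 LD3_c28)) :=
  Lre_d IH (LK LD1_c6 LD2_c23 LD3_c46) (LK LD1_c3 LD2_c9 LD3_c28) Lrfl Lrfl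
theorem f154017 : Led Lsl_at (LP (LK LD1_c6 LD2_c48 LD3_c50)) = (LP (LK LD1_c6 LD2_c23 LD3_c46)) :=
  Lgr Lrot51 (Lpe (f152667 IH) (Lpr_af (K50.f154010 IH) (Lpe (f152753 IH) (Lpn (LP (LK LD1_c6 LD2_c23 LD3_c46))))))
theorem f154025 : Led Lsl_ft (LP (LK LD1_c13 LD2_c0 LD3_c0)) = (LP (LK LD1_c6 LD2_c48 LD3_c50)) :=
  Lre_f IH (LK LD1_c13 LD2_c0 LD3_c0) (LK LD1_c6 LD2_c48 LD3_c50) Lrfl Lrfl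
theorem f762707 : Led Lsl_af (LP (LK LD1_c13 LD2_c0 LD3_c0)) = v17902 :=
  Lgr Lrot45 (Lpr_ft (f154025 IH) (Lpr_at (f154017 IH) (Lpr_ft (f762706 IH) (Lpn v17902))))
theorem f762710 : Led Lsl_gt (LP (LK LD1_c12 LD2_c20 LD3_c53)) = (LP (LK LD1_c13 LD2_c0 LD3_c0)) :=
  Lgr Lrot46 (Lpe (f435982 IH) (Lpr_ft (f762706 IH) (Lpe (f762707 IH) (Lpn (LP (LK LD1_c13 LD2_c0 LD3_c0))))))
theorem f762711 : Led Lsl_gt (LP (LK LD1_c12 LD2_c20 LD3_c53)) = (LP (LK LD1_c13 LD2_c0 LD3_c0)) :=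
  Leop (Lpe (f762710 IH) (Lpn (LP (LK LD1_c12 LD2_c20 LD3_c53))))
theorem seed_1199 : LEOK LG_g (LK LD1_c12 LD2_c20 LD3_c53) :=
  Leoe_g (LK LD1_c12 LD2_c20 LD3_c53) (f762711 IH)
def v17970 : LQ := Led Lsl_at (LP (LK LD1_c6 LD2_c24 LD3_c52))
theorem f763036 : Led Lsl_at (LP (LK LD1_c6 LD2_c24 LD3_c52)) = v17970 :=
  Lrfl
theorem f81281 : Led Lsl_ft (LP (LK LD1_c12 LD2_c22 LD3_c43)) = (LP (LK LD1_c6 LD2_c24 LD3_c52)) :=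
  Lre_f IH (LK LD1_c12 LD2_c22 LD3_c43) (LK LD1_c6 LD2_c24 LD3_c52) Lrfl Lrfl
theorem f608011 : Led Lsl_af (LP (LK LD1_c12 LD2_c22 LD3_c43)) = (LP (LK LD1_c15 LD2_c8 LD3_c37)) :=
  Lgr Lrot0 (Lpr_at (K47.f608009 IH) (Lpn (LP (LK LD1_c15 LD2_c8 LD3_c37))))
theorem f763039 : Led Lsl_ff (LP (LK LD1_c15 LD2_c8 LD3_c37)) = v17970 :=
  Lgr Lrot30 (Lpe (f608011 IH) (Lpr_ft (f81281 IH) (Lpr_at (f763036 IH) (Lpn v17970))))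
theorem f763040 : Led Lsl_ft (LP (LK LD1_c15 LD2_c8 LD3_c37)) = v17970 :=
  Lgr Lrot48 (Lpr_ff (f763039 IH) (Lpn v17970))
def v5558 : LQ := Led Lsl_ft (LP (LK LD1_c3 LD2_c10 LD3_c0))
theorem f648256 : Led Lsl_ft (LP (LK LD1_c3 LD2_c10 LD3_c0)) = v5558 :=
  Lrfl
def v5557 : LQ := Led Lsl_at (LP (LK LD1_c3 LD2_c10 LD3_c0))
theorem f648250 : Led Lsl_at (LP (LK LD1_c3 LD2_c10 LD3_c0)) = v5557 :=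
  Lrfl
theorem f648251 : Led Lsl_af (LP (LK LD1_c3 LD2_c10 LD3_c0)) = v5557 :=
  Lgr Lrot0 (Lpr_at (f648250 IH) (Lpn v5557))
theorem f648254 : Led Lsl_ft (LP (LK LD1_c3 LD2_c10 LD3_c1)) = v5557 :=
  Lgr Lrot2 (Lpr_gt (K46.f59732 IH) (Lpr_gt (K46.f80355 IH) (Lpr_af (f648251 IH) (Lpn v5557))))
theorem f648257 : Led Lsl_af (LP (LK LD1_c3 LD2_c10 LD3_c1)) = v5558 :=
  Lgr Lrot45 (Lpr_ft (f648254 IH) (Lpe (f648251 IH) (Lpr_ft (f648256 IH) (Lpn v5558))))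
theorem f763038 : Led Lsl_ef v5558 = v17970 :=
  Lgr Lrot20 (Lpe (f648257 IH) (Lpr_et (K47.f81317 IH) (Lpr_at (f763036 IH) (Lpn v17970))))
theorem f648258 : Led Lsl_ff (LP (LK LD1_c3 LD2_c10 LD3_c0)) = v5558 :=
  Lgr Lrot3 (Lpr_ft (f648256 IH) (Lpn v5558))
theorem f80370 : Led Lsl_et (LP (LK LD1_c3 LD2_c10 LD3_c0)) = (LP (LK LD1_c6 LD2_c24 LD3_c49)) :=
  Lre_e IH (LK LD1_c3 LD2_c10 LD3_c0) (LK LD1_c6 LD2_c24 LD3_c49) Lrfl Lrfl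
theorem f80377 : Led Lsl_ft (LP (LK LD1_c6 LD2_c24 LD3_c49)) = (LP (LK LD1_c12 LD2_c22 LD3_c35)) :=
  Lre_f IH (LK LD1_c6 LD2_c24 LD3_c49) (LK LD1_c12 LD2_c22 LD3_c35) Lrfl Lrfl
theorem f763041 : Led Lsl_ef (LP (LK LD1_c15 LD2_c8 LD3_c37)) = (LP (LK LD1_c12 LD2_c22 LD3_c35)) :=
  Lgr Lrot21 (Lpr_ft (f763040 IH) (Lpe (f763038 IH) (Lpe (f648258 IH) (Lpr_et (f80370 IH) (Lpr_ft (f80377 IH) (Lpn (LP (LK LD1_c12 LD2_c22 LD3_c35))))))))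
theorem f763042 : Led Lsl_et (LP (LK LD1_c12 LD2_c22 LD3_c35)) = (LP (LK LD1_c15 LD2_c8 LD3_c37)) :=
  Leop (Lpr_ef (f763041 IH) (Lpn (LP (LK LD1_c12 LD2_c22 LD3_c35))))
theorem seed_1200 : LEOK LG_e (LK LD1_c12 LD2_c22 LD3_c35) :=
  Leoe_e (LK LD1_c12 LD2_c22 LD3_c35) (f763042 IH)
def v15927 : LQ := Led Lsl_gt (LP (LK LD1_c5 LD2_c50 LD3_c10))
theorem f744248 : Led Lsl_gt (LP (LK LD1_c5 LD2_c50 LD3_c10)) = v15927 :=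
  Lrfl
def v17981 : LQ := Led Lsl_ct (LP (LK LD1_c6 LD2_c25 LD3_c22))
theorem f764212 : Led Lsl_ct (LP (LK LD1_c6 LD2_c25 LD3_c22)) = v17981 :=
  Lrfl
def v15928 : LQ := Led Lsl_gt (LP (LK LD1_c5 LD2_c50 LD3_c12))
theorem f744249 : Led Lsl_gt (LP (LK LD1_c5 LD2_c50 LD3_c12)) = v15928 :=
  Lrfl
theorem f203189 : Led Lsl_ct (LP (LK LD1_c2 LD2_c51 LD3_c17)) = (LP (LK LD1_c5 LD2_c50 LD3_c12)) :=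
  Lre_c IH (LK LD1_c2 LD2_c51 LD3_c17) (LK LD1_c5 LD2_c50 LD3_c12) Lrfl Lrfl
theorem f444597 : Led Lsl_bt (LP (LK LD1_c9 LD2_c11 LD3_c1)) = (LP (LK LD1_c4 LD2_c37 LD3_c43)) :=
  Lre_b IH (LK LD1_c9 LD2_c11 LD3_c1) (LK LD1_c4 LD2_c37 LD3_c43) Lrfl Lrfl
theorem f744250 : Led Lsl_ct (LP (LK LD1_c9 LD2_c11 LD3_c1)) = v15928 :=
  Lgr Lrot63 (Lpr_bt (f444597 IH) (Lpr_gt (K36.f116940 IH) (Lpe (K24.f415558 IH) (Lpr_ct (K24.f140706 IH) (Lpr_gt (K32.f25586 IH) (Lpe (K32.f444581 IH) (Lpr_bt (K54.f444596 IH) (Lpq (K54.f739351 IH) (Lpe (K54.f640651 IH) (Lpr_ct (f203189 IH) (Lpr_gt (f744249 IH) (Lpn v15928))))))))))))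
theorem f744251 : Led Lsl_cf (LP (LK LD1_c9 LD2_c11 LD3_c1)) = v15928 :=
  Lgr Lrot11 (Lpr_ct (f744250 IH) (Lpn v15928))
theorem f764213 : Led Lsl_af v15928 = v17981 :=
  Lgr Lrot68 (Lpe (f744251 IH) (Lpq (K56.f719584 IH) (Lpe (K56.f719502 IH) (Lpr_ct (f764212 IH) (Lpn v17981)))))
def v15929 : LQ := Led Lsl_gf (LP (LK LD1_c5 LD2_c50 LD3_c12))
theorem f744254 : Led Lsl_gf (LP (LK LD1_c5 LD2_c50 LD3_c12)) = v15929 :=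
  Lrfl
theorem f764219 : Led Lsl_ft v15929 = v17981 :=
  Lgr Lrot2 (Lpe (f744254 IH) (Lpr_gt (f744249 IH) (Lpr_af (f764213 IH) (Lpn v17981))))
theorem f764214 : Led Lsl_cf (LP (LK LD1_c6 LD2_c25 LD3_c22)) = v17981 :=
  Lgr Lrot11 (Lpr_ct (f764212 IH) (Lpn v17981))
theorem f764221 : Led Lsl_cf v15929 = (LP (LK LD1_c9 LD2_c12 LD3_c28)) :=
  Lgr Lrot108 (Lpr_ft (f764219 IH) (Lpe (f764214 IH) (Lpr_ft (K53.f719500 IH) (Lpn (LP (LK LD1_c9 LD2_c12 LD3_c28))))))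
theorem f203188 : Led Lsl_bt (LP (LK LD1_c2 LD2_c51 LD3_c17)) = (LP (LK LD1_c5 LD2_c50 LD3_c10)) :=
  Lre_b IH (LK LD1_c2 LD2_c51 LD3_c17) (LK LD1_c5 LD2_c50 LD3_c10) Lrfl Lrfl
theorem f645788 : Led Lsl_ct (LP (LK LD1_c4 LD2_c39 LD3_c8)) = (LP (LK LD1_c9 LD2_c14 LD3_c0)) :=
  Lre_c IH (LK LD1_c4 LD2_c39 LD3_c8) (LK LD1_c9 LD2_c14 LD3_c0) Lrfl Lrfl
theorem f739781 : Led Lsl_ff (LP (LK LD1_c6 LD2_c2 LD3_c50)) = (LP (LK LD1_c9 LD2_c8 LD3_c2)) :=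
  Lgr Lrot3 (Lpr_ft (K55.f739775 IH) (Lpn (LP (LK LD1_c9 LD2_c8 LD3_c2))))
theorem f510370 : Led Lsl_ct (LP (LK LD1_c3 LD2_c20 LD3_c53)) = (LP (LK LD1_c6 LD2_c45 LD3_c39)) :=
  Lre_c IH (LK LD1_c3 LD2_c20 LD3_c53) (LK LD1_c6 LD2_c45 LD3_c39) Lrfl Lrfl
theorem f714882 : Led Lsl_ff (LP (LK LD1_c9 LD2_c8 LD3_c6)) = (LP (LK LD1_c6 LD2_c45 LD3_c39)) :=
  Lgr Lrot23 (Lpr_ct (K52.f202141 IH) (Lpq (K52.f714872 IH) (Lpe (K52.f652990 IH) (Lpr_ct (f510370 IH) (Lpn (LP (LK LD1_c6 LD2_c45 LD3_c39)))))))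
theorem f714908 : Led Lsl_ft (LP (LK LD1_c9 LD2_c8 LD3_c6)) = (LP (LK LD1_c6 LD2_c45 LD3_c39)) :=
  Lgr Lrot48 (Lpr_ff (f714882 IH) (Lpn (LP (LK LD1_c6 LD2_c45 LD3_c39))))
theorem f739246 : Led Lsl_at (LP (LK LD1_c6 LD2_c45 LD3_c39)) = (LP (LK LD1_c9 LD2_c31 LD3_c11)) :=
  Lgr Lrot66 (Lpe (f714908 IH) (Lpr_af (K52.f202137 IH) (Lpr_ff (K54.f739244 IH) (Lpn (LP (LK LD1_c9 LD2_c31 LD3_c11))))))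
def v6360 : LQ := Led Lsl_et (LP (LK LD1_c3 LD2_c20 LD3_c53))
theorem f652985 : Led Lsl_et (LP (LK LD1_c3 LD2_c20 LD3_c53)) = v6360 :=
  Lrfl
theorem f652987 : Led Lsl_ef (LP (LK LD1_c3 LD2_c20 LD3_c53)) = v6360 :=
  Lgr Lrot88 (Lpr_et (f652985 IH) (Lpn v6360))
theorem f699992 : Led Lsl_ef K53.v4943 = K54.v12980 :=
  Lgr Lrot21 (Lpe (K53.f640995 IH) (Lpr_et (K7.f149109 IH) (Lpr_ft (K7.f149313 IH) (Lpr_et (K52.f71127 IH) (Lpr_ft (K54.f699990 IH) (Lpn K54.v12980))))))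
theorem f699993 : Led Lsl_ff (LP (LK LD1_c4 LD2_c35 LD3_c57)) = K54.v12980 :=
  Lgr Lrot3 (Lpr_ft (K54.f699990 IH) (Lpn K54.v12980))
theorem f699995 : Led Lsl_at K54.v4940 = K54.v12980 :=
  Lgr Lrot66 (Lpe (K54.f640990 IH) (Lpe (K52.f202142 IH) (Lpr_ff (f699993 IH) (Lpn K54.v12980))))
theorem f699998 : Led Lsl_gt K52.v4938 = K54.v12980 :=
  Lgr Lrot46 (Lpe (K52.f640987 IH) (Lpr_ft (K54.f640990 IH) (Lpr_at (f699995 IH) (Lpn K54.v12980))))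
theorem f714877 : K54.v12980 = (LP (LK LD1_c3 LD2_c20 LD3_c53)) :=
  Lefun (Lecon (f699998 IH) (K52.f714868 IH).symm) (Lfl_gf (K52.f510364 IH))
theorem f714880 : K53.v4943 = v6360 :=
  Lefun (Lecon (Lfl_ef (f699992 IH)) (f714877 IH)) (f652985 IH)
theorem f632070 : Led Lsl_ct (LP (LK LD1_c9 LD2_c14 LD3_c0)) = (LP (LK LD1_c4 LD2_c39 LD3_c8)) :=
  Lre_c IH (LK LD1_c9 LD2_c14 LD3_c0) (LK LD1_c4 LD2_c39 LD3_c8) Lrfl Lrfl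
theorem f720651 : Led Lsl_ef (LP (LK LD1_c9 LD2_c14 LD3_c0)) = (LP (LK LD1_c6 LD2_c45 LD3_c39)) :=
  Lgr Lrot28 (Lpr_ct (f632070 IH) (Lpq (K53.f720637 IH) (Lpqs (f714880 IH) (Lpe (f652987 IH) (Lpr_ct (f510370 IH) (Lpn (LP (LK LD1_c6 LD2_c45 LD3_c39))))))))
theorem f720653 : Led Lsl_et (LP (LK LD1_c9 LD2_c14 LD3_c0)) = (LP (LK LD1_c6 LD2_c45 LD3_c39)) :=
  Lgr Lrot87 (Lpr_ef (f720651 IH) (Lpn (LP (LK LD1_c6 LD2_c45 LD3_c39))))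
theorem f739771 : Led Lsl_at (LP (LK LD1_c6 LD2_c2 LD3_c50)) = (LP (LK LD1_c9 LD2_c14 LD3_c0)) :=
  Lgr Lrot80 (Lpr_ef (K55.f739337 IH) (Lpe (f739246 IH) (Lpe (f720653 IH) (Lpn (LP (LK LD1_c9 LD2_c14 LD3_c0))))))
theorem f739797 : Led Lsl_gf (LP (LK LD1_c9 LD2_c14 LD3_c0)) = (LP (LK LD1_c17 LD2_c0 LD3_c23)) :=
  Lgr Lrot76 (Lpe (f739771 IH) (Lpr_ff (f739781 IH) (Lpr_gt (K54.f149145 IH) (Lpn (LP (LK LD1_c17 LD2_c0 LD3_c23))))))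
theorem f764225 : v15927 = (LP (LK LD1_c9 LD2_c48 LD3_c61)) :=
  (Llr Lrot82 (Lpe (f744248 IH) (Lpe (f203188 IH) (Lpr_ct (f203189 IH) (Lpr_gf (f744254 IH) (Lpr_cf (f764221 IH) (Lpe (K52.f715103 IH) (Lpr_gf (K52.f715111 IH) (Lpe (K53.f715115 IH) (Lpqs (K53.f720637 IH) (Lpr_ct (f645788 IH) (Lpr_gf (f739797 IH) (Lpe (K54.f720673 IH) (Lpn (LP (LK LD1_c9 LD2_c48 LD3_c61)))))))))))))))).symm
theorem f764226 : Led Lsl_gt (LP (LK LD1_c5 LD2_c50 LD3_c10)) = (LP (LK LD1_c9 LD2_c48 LD3_c61)) :=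
  Leop (Lpq (f764225 IH) (Lpe (f744248 IH) (Lpn (LP (LK LD1_c5 LD2_c50 LD3_c10)))))
theorem seed_1201 : LEOK LG_g (LK LD1_c5 LD2_c50 LD3_c10) :=
  Leoe_g (LK LD1_c5 LD2_c50 LD3_c10) (f764226 IH)
def v17988 : LQ := Led Lsl_et (LP (LK LD1_c6 LD2_c25 LD3_c36))
theorem f764249 : Led Lsl_et (LP (LK LD1_c6 LD2_c25 LD3_c36)) = v17988 :=
  Lrfl
theorem f764254 : Led Lsl_ef (LP (LK LD1_c6 LD2_c25 LD3_c36)) = v17988 :=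
  Lgr Lrot88 (Lpr_et (f764249 IH) (Lpn v17988))
theorem f572358 : Led Lsl_gt (LP (LK LD1_c6 LD2_c25 LD3_c36)) = (LP (LK LD1_c4 LD2_c33 LD3_c58)) :=
  Lgr Lrot49 (Lpe (K42.f506382 IH) (Lpr_gf (K42.f572354 IH) (Lpr_cf (K32.f496570 IH) (Lpr_gt (K11.f202249 IH) (Lpr_dt (K32.f202189 IH) (Lpe (K11.f202161 IH) (Lpr_dt (K11.f71058 IH) (Lpe (K7.f71054 IH) (Lpe (K8.f163332 IH) (Lpn (LP (LK LD1_c4 LD2_c33 LD3_c58))))))))))))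
theorem f138833 : Led Lsl_et (LP (LK LD1_c2 LD2_c27 LD3_c20)) = (LP (LK LD1_c4 LD2_c58 LD3_c58)) :=
  Lre_e IH (LK LD1_c2 LD2_c27 LD3_c20) (LK LD1_c4 LD2_c58 LD3_c58) Lrfl Lrfl
theorem f138835 : Led Lsl_et (LP (LK LD1_c17 LD2_c58 LD3_c30)) = (LP (LK LD1_c9 LD2_c48 LD3_c15)) :=
  Lre_e IH (LK LD1_c17 LD2_c58 LD3_c30) (LK LD1_c9 LD2_c48 LD3_c15) Lrfl Lrfl
theorem f565190 : Led Lsl_et (LP (LK LD1_c11 LD2_c27 LD3_c32)) = (LP (LK LD1_c5 LD2_c49 LD3_c9)) :=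
  Lre_e IH (LK LD1_c11 LD2_c27 LD3_c32) (LK LD1_c5 LD2_c49 LD3_c9) Lrfl Lrfl
theorem f764253 : Led Lsl_df (LP (LK LD1_c11 LD2_c27 LD3_c32)) = v17988 :=
  Lgr Lrot70 (Lpr_et (f565190 IH) (Lpr_dt (K42.f450241 IH) (Lpe (K42.f572342 IH) (Lpr_dt (K42.f506382 IH) (Lpr_et (f764249 IH) (Lpn v17988))))))
theorem f613820 : Led Lsl_gt (LP (LK LD1_c20 LD2_c25 LD3_c27)) = (LP (LK LD1_c11 LD2_c27 LD3_c32)) :=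
  Lre_g IH (LK LD1_c20 LD2_c25 LD3_c27) (LK LD1_c11 LD2_c27 LD3_c32) Lrfl Lrfl
theorem f764259 : Led Lsl_dt (LP (LK LD1_c17 LD2_c58 LD3_c30)) = (LP (LK LD1_c20 LD2_c25 LD3_c27)) :=
  Lgr Lrot136 (Lpr_et (f138835 IH) (Lpe (K55.f138834 IH) (Lpe (f138833 IH) (Lpr_dt (K11.f72426 IH) (Lpe (K6.f138743 IH) (Lpe (K8.f163332 IH) (Lpe (f572358 IH) (Lpr_ef (f764254 IH) (Lpe (f764253 IH) (Lpe (f613820 IH) (Lpn (LP (LK LD1_c20 LD2_c25 LD3_c27)))))))))))))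
theorem f764260 : Led Lsl_dt (LP (LK LD1_c17 LD2_c58 LD3_c30)) = (LP (LK LD1_c20 LD2_c25 LD3_c27)) :=
  Leop (Lpe (f764259 IH) (Lpn (LP (LK LD1_c17 LD2_c58 LD3_c30))))
theorem seed_1202 : LEOK LG_d (LK LD1_c17 LD2_c58 LD3_c30) :=
  Leoe_d (LK LD1_c17 LD2_c58 LD3_c30) (f764260 IH)
theorem f764263 : Led Lsl_df (LP (LK LD1_c17 LD2_c58 LD3_c30)) = (LP (LK LD1_c20 LD2_c25 LD3_c27)) :=
  Lgr Lrot38 (Lpr_dt (f764259 IH) (Lpn (LP (LK LD1_c20 LD2_c25 LD3_c27))))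
theorem f615692 : Led Lsl_et (LP (LK LD1_c5 LD2_c52 LD3_c23)) = (LP (LK LD1_c11 LD2_c31 LD3_c23)) :=
  Lre_e IH (LK LD1_c5 LD2_c52 LD3_c23) (LK LD1_c11 LD2_c31 LD3_c23) Lrfl Lrfl
theorem f748258 : Led Lsl_af (LP (LK LD1_c17 LD2_c58 LD3_c30)) = (LP (LK LD1_c11 LD2_c31 LD3_c23)) :=
  Lgr Lrot50 (Lpr_et (f138835 IH) (Lpq (K55.f748252 IH) (Lpe (K55.f745964 IH) (Lpr_et (f615692 IH) (Lpn (LP (LK LD1_c11 LD2_c31 LD3_c23)))))))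
theorem f748264 : Led Lsl_at (LP (LK LD1_c17 LD2_c58 LD3_c30)) = (LP (LK LD1_c11 LD2_c31 LD3_c23)) :=
  Lgr Lrot100 (Lpr_af (f748258 IH) (Lpn (LP (LK LD1_c11 LD2_c31 LD3_c23))))
theorem f615689 : Led Lsl_bt (LP (LK LD1_c5 LD2_c52 LD3_c26)) = (LP (LK LD1_c11 LD2_c31 LD3_c23)) :=
  Lre_b IH (LK LD1_c5 LD2_c52 LD3_c26) (LK LD1_c11 LD2_c31 LD3_c23) Lrfl Lrfl
theorem f615690 : Led Lsl_dt (LP (LK LD1_c11 LD2_c31 LD3_c23)) = (LP (LK LD1_c11 LD2_c27 LD3_c59)) :=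
  Lgr Lrot79 (Lpe (f615689 IH) (Lpr_df (K55.f615660 IH) (Lpe (K50.f567727 IH) (Lpn (LP (LK LD1_c11 LD2_c27 LD3_c59))))))
theorem f764265 : Led Lsl_at (LP (LK LD1_c11 LD2_c27 LD3_c59)) = (LP (LK LD1_c20 LD2_c25 LD3_c27)) :=
  Lgr Lrot51 (Lpe (f615690 IH) (Lpe (f748264 IH) (Lpr_df (f764263 IH) (Lpn (LP (LK LD1_c20 LD2_c25 LD3_c27))))))
theorem f699201 : Led Lsl_ct (LP (LK LD1_c11 LD2_c48 LD3_c33)) = (LP (LK LD1_c11 LD2_c27 LD3_c59)) :=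
  Lgr Lrot59 (Lpr_cf (K50.f698893 IH) (Lpn (LP (LK LD1_c11 LD2_c27 LD3_c59))))
theorem f746226 : Led Lsl_bt (LP (LK LD1_c9 LD2_c5 LD3_c36)) = (LP (LK LD1_c16 LD2_c57 LD3_c29)) :=
  Lre_b IH (LK LD1_c9 LD2_c5 LD3_c36) (LK LD1_c16 LD2_c57 LD3_c29) Lrfl Lrfl
theorem f746227 : Led Lsl_ff (LP (LK LD1_c11 LD2_c27 LD3_c59)) = (LP (LK LD1_c16 LD2_c57 LD3_c29)) :=
  Lgr Lrot25 (Lpr_bt (K50.f567727 IH) (Lpr_ft (K55.f744131 IH) (Lpqs (f746221 IH) (Lpr_bt (f746226 IH) (Lpn (LP (LK LD1_c16 LD2_c57 LD3_c29)))))))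
theorem f746229 : Led Lsl_ft (LP (LK LD1_c11 LD2_c27 LD3_c59)) = (LP (LK LD1_c16 LD2_c57 LD3_c29)) :=
  Lgr Lrot48 (Lpr_ff (f746227 IH) (Lpn (LP (LK LD1_c16 LD2_c57 LD3_c29))))
theorem f749740 : Led Lsl_ff (LP (LK LD1_c11 LD2_c48 LD3_c33)) = (LP (LK LD1_c20 LD2_c50 LD3_c43)) :=
  Lgr Lrot23 (Lpr_ct (f699201 IH) (Lpr_ft (f746229 IH) (Lpr_ct (K56.f749736 IH) (Lpn (LP (LK LD1_c20 LD2_c50 LD3_c43))))))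
theorem f749742 : Led Lsl_ft (LP (LK LD1_c11 LD2_c48 LD3_c33)) = (LP (LK LD1_c20 LD2_c50 LD3_c43)) :=
  Lgr Lrot48 (Lpr_ff (f749740 IH) (Lpn (LP (LK LD1_c20 LD2_c50 LD3_c43))))
theorem f204767 : Led Lsl_gt (LP (LK LD1_c6 LD2_c1 LD3_c60)) = (LP (LK LD1_c11 LD2_c48 LD3_c32)) :=
  Lre_g IH (LK LD1_c6 LD2_c1 LD3_c60) (LK LD1_c11 LD2_c48 LD3_c32) Lrfl Lrfl
theorem f749744 : Led Lsl_af (LP (LK LD1_c11 LD2_c48 LD3_c32)) = (LP (LK LD1_c20 LD2_c50 LD3_c43)) :=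
  Lgr Lrot31 (Lpe (f204767 IH) (Lpe (K50.f204770 IH) (Lpr_ft (f749742 IH) (Lpn (LP (LK LD1_c20 LD2_c50 LD3_c43))))))
theorem f749746 : Led Lsl_at (LP (LK LD1_c11 LD2_c48 LD3_c32)) = (LP (LK LD1_c20 LD2_c50 LD3_c43)) :=
  Lgr Lrot100 (Lpr_af (f749744 IH) (Lpn (LP (LK LD1_c20 LD2_c50 LD3_c43))))
theorem f204750 : Led Lsl_gt (LP (LK LD1_c20 LD2_c50 LD3_c44)) = (LP (LK LD1_c11 LD2_c48 LD3_c8)) :=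
  Lre_g IH (LK LD1_c20 LD2_c50 LD3_c44) (LK LD1_c11 LD2_c48 LD3_c8) Lrfl Lrfl
theorem f749756 : Led Lsl_ff (LP (LK LD1_c11 LD2_c48 LD3_c32)) = (LP (LK LD1_c20 LD2_c50 LD3_c44)) :=
  Lgr Lrot52 (Lpr_at (f749746 IH) (Lpe (K56.f204749 IH) (Lpe (f204750 IH) (Lpn (LP (LK LD1_c20 LD2_c50 LD3_c44))))))
theorem f749760 : Led Lsl_ft (LP (LK LD1_c11 LD2_c48 LD3_c32)) = (LP (LK LD1_c20 LD2_c50 LD3_c44)) :=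
  Lgr Lrot48 (Lpr_ff (f749756 IH) (Lpn (LP (LK LD1_c20 LD2_c50 LD3_c44))))
theorem f749762 : Led Lsl_af (LP (LK LD1_c11 LD2_c48 LD3_c33)) = (LP (LK LD1_c20 LD2_c50 LD3_c44)) :=
  Lgr Lrot45 (Lpr_ft (f749742 IH) (Lpe (f749744 IH) (Lpr_ft (f749760 IH) (Lpn (LP (LK LD1_c20 LD2_c50 LD3_c44))))))
theorem f764269 : Led Lsl_cf (LP (LK LD1_c20 LD2_c50 LD3_c44)) = (LP (LK LD1_c20 LD2_c25 LD3_c27)) :=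
  Lgr Lrot1 (Lpe (f749762 IH) (Lpr_ct (f699201 IH) (Lpr_at (f764265 IH) (Lpn (LP (LK LD1_c20 LD2_c25 LD3_c27))))))
theorem f210151 : Led Lsl_gt (LP (LK LD1_c11 LD2_c48 LD3_c35)) = (LP (LK LD1_c20 LD2_c50 LD3_c44)) :=
  Lre_g IH (LK LD1_c11 LD2_c48 LD3_c35) (LK LD1_c20 LD2_c50 LD3_c44) Lrfl Lrfl
theorem f210150 : Led Lsl_ct (LP (LK LD1_c6 LD2_c1 LD3_c61)) = (LP (LK LD1_c11 LD2_c48 LD3_c35)) :=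
  Lre_c IH (LK LD1_c6 LD2_c1 LD3_c61) (LK LD1_c11 LD2_c48 LD3_c35) Lrfl Lrfl
theorem f210139 : Led Lsl_bt (LP (LK LD1_c6 LD2_c1 LD3_c61)) = (LP (LK LD1_c2 LD2_c57 LD3_c11)) :=
  Lre_b IH (LK LD1_c6 LD2_c1 LD3_c61) (LK LD1_c2 LD2_c57 LD3_c11) Lrfl Lrfl
theorem f615657 : Led Lsl_bt (LP (LK LD1_c5 LD2_c49 LD3_c37)) = (LP (LK LD1_c11 LD2_c27 LD3_c59)) :=
  Lre_b IH (LK LD1_c5 LD2_c49 LD3_c37) (LK LD1_c11 LD2_c27 LD3_c59) Lrfl Lrfl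
theorem f700811 : Led Lsl_bt (LP (LK LD1_c9 LD2_c5 LD3_c37)) = (LP (LK LD1_c16 LD2_c57 LD3_c30)) :=
  Lre_b IH (LK LD1_c9 LD2_c5 LD3_c37) (LK LD1_c16 LD2_c57 LD3_c30) Lrfl Lrfl
theorem f746143 : Led Lsl_ff (LP (LK LD1_c11 LD2_c27 LD3_c58)) = (LP (LK LD1_c16 LD2_c57 LD3_c30)) :=
  Lgr Lrot25 (Lpr_bt (K50.f567738 IH) (Lpr_ft (K55.f744137 IH) (Lpqs (K55.f746138 IH) (Lpr_bt (f700811 IH) (Lpn (LP (LK LD1_c16 LD2_c57 LD3_c30)))))))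
theorem f746147 : Led Lsl_ft (LP (LK LD1_c11 LD2_c27 LD3_c58)) = (LP (LK LD1_c16 LD2_c57 LD3_c30)) :=
  Lgr Lrot48 (Lpr_ff (f746143 IH) (Lpn (LP (LK LD1_c16 LD2_c57 LD3_c30))))
theorem f698883 : Led Lsl_cf (LP (LK LD1_c11 LD2_c27 LD3_c58)) = (LP (LK LD1_c8 LD2_c2 LD3_c27)) :=
  Lgr Lrot11 (Lpr_ct (K50.f698879 IH) (Lpn (LP (LK LD1_c8 LD2_c2 LD3_c27))))
theorem f746149 : Led Lsl_ff (LP (LK LD1_c8 LD2_c2 LD3_c27)) = (LP (LK LD1_c15 LD2_c8 LD3_c5)) :=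
  Lgr Lrot23 (Lpe (f698883 IH) (Lpr_ft (f746147 IH) (Lpr_ct (K50.f700809 IH) (Lpn (LP (LK LD1_c15 LD2_c8 LD3_c5))))))
theorem f37074 : Led Lsl_gt (LP (LK LD1_c8 LD2_c2 LD3_c23)) = (LP (LK LD1_c15 LD2_c8 LD3_c4)) :=
  Lre_g IH (LK LD1_c8 LD2_c2 LD3_c23) (LK LD1_c15 LD2_c8 LD3_c4) Lrfl Lrfl
theorem f746156 : Led Lsl_at (LP (LK LD1_c8 LD2_c2 LD3_c27)) = (LP (LK LD1_c15 LD2_c8 LD3_c4)) :=
  Lgr Lrot26 (Lpr_ff (f746149 IH) (Lpr_gt (K56.f158648 IH) (Lpr_gt (f37074 IH) (Lpn (LP (LK LD1_c15 LD2_c8 LD3_c4))))))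
theorem f746158 : Led Lsl_af (LP (LK LD1_c8 LD2_c2 LD3_c27)) = (LP (LK LD1_c15 LD2_c8 LD3_c4)) :=
  Lgr Lrot0 (Lpr_at (f746156 IH) (Lpn (LP (LK LD1_c15 LD2_c8 LD3_c4))))
theorem f445037 : Led Lsl_gt (LP (LK LD1_c8 LD2_c2 LD3_c28)) = (LP (LK LD1_c4 LD2_c0 LD3_c51)) :=
  Lre_g IH (LK LD1_c8 LD2_c2 LD3_c28) (LK LD1_c4 LD2_c0 LD3_c51) Lrfl Lrfl
theorem f746174 : Led Lsl_ft (LP (LK LD1_c8 LD2_c2 LD3_c28)) = (LP (LK LD1_c15 LD2_c8 LD3_c4)) :=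
  Lgr Lrot2 (Lpr_gt (f445037 IH) (Lpr_gt (K50.f99353 IH) (Lpr_af (f746158 IH) (Lpn (LP (LK LD1_c15 LD2_c8 LD3_c4))))))
theorem f746180 : Led Lsl_ff (LP (LK LD1_c8 LD2_c2 LD3_c28)) = (LP (LK LD1_c15 LD2_c8 LD3_c4)) :=
  Lgr Lrot3 (Lpr_ft (f746174 IH) (Lpn (LP (LK LD1_c15 LD2_c8 LD3_c4))))
theorem f746182 : Led Lsl_at (LP (LK LD1_c8 LD2_c2 LD3_c28)) = (LP (LK LD1_c15 LD2_c8 LD3_c5)) :=
  Lgr Lrot66 (Lpr_ff (f746180 IH) (Lpe (f746156 IH) (Lpr_ff (f746149 IH) (Lpn (LP (LK LD1_c15 LD2_c8 LD3_c5))))))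
theorem f558629 : Led Lsl_ct (LP (LK LD1_c15 LD2_c8 LD3_c15)) = (LP (LK LD1_c8 LD2_c2 LD3_c28)) :=
  Lre_c IH (LK LD1_c15 LD2_c8 LD3_c15) (LK LD1_c8 LD2_c2 LD3_c28) Lrfl Lrfl
theorem f700812 : Led Lsl_cf (LP (LK LD1_c16 LD2_c57 LD3_c30)) = (LP (LK LD1_c15 LD2_c8 LD3_c5)) :=
  Lgr Lrot11 (Lpr_ct (K50.f700809 IH) (Lpn (LP (LK LD1_c15 LD2_c8 LD3_c5))))
theorem f746217 : Led Lsl_af (LP (LK LD1_c15 LD2_c8 LD3_c15)) = (LP (LK LD1_c16 LD2_c57 LD3_c30)) :=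
  Lgr Lrot68 (Lpr_ct (f558629 IH) (Lpr_at (f746182 IH) (Lpe (f700812 IH) (Lpn (LP (LK LD1_c16 LD2_c57 LD3_c30))))))
theorem f746219 : Led Lsl_at (LP (LK LD1_c15 LD2_c8 LD3_c15)) = (LP (LK LD1_c16 LD2_c57 LD3_c30)) :=
  Lgr Lrot100 (Lpr_af (f746217 IH) (Lpn (LP (LK LD1_c16 LD2_c57 LD3_c30))))
theorem f764267 : Led Lsl_bf (LP (LK LD1_c15 LD2_c8 LD3_c15)) = (LP (LK LD1_c20 LD2_c25 LD3_c27)) :=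
  Lgr Lrot81 (Lpr_at (f746219 IH) (Lpr_bt (K50.f437448 IH) (Lpq (K55.f746138 IH) (Lpe (K55.f744138 IH) (Lpr_bt (f615657 IH) (Lpr_at (f764265 IH) (Lpn (LP (LK LD1_c20 LD2_c25 LD3_c27)))))))))
theorem f764281 : Led Lsl_gf (LP (LK LD1_c12 LD2_c10 LD3_c60)) = (LP (LK LD1_c15 LD2_c8 LD3_c15)) :=
  Lgr Lrot181 (Lpe (K52.f568377 IH) (Lpe (K52.f711277 IH) (Lpe (K50.f645033 IH) (Lpr_bt (K41.f210149 IH) (Lpr_gt (K41.f210147 IH) (Lpe (f210139 IH) (Lpr_ct (f210150 IH) (Lpr_gt (f210151 IH) (Lpr_cf (f764269 IH) (Lpe (f764267 IH) (Lpn (LP (LK LD1_c15 LD2_c8 LD3_c15)))))))))))))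
theorem f568385 : Led Lsl_at (LP (LK LD1_c11 LD2_c27 LD3_c26)) = (LP (LK LD1_c12 LD2_c10 LD3_c60)) :=
  Lgr Lrot51 (Lpe (K38.f548723 IH) (Lpe (K52.f498360 IH) (Lpr_df (K52.f568383 IH) (Lpn (LP (LK LD1_c12 LD2_c10 LD3_c60))))))
theorem f615263 : Led Lsl_ff (LP (LK LD1_c17 LD2_c59 LD3_c56)) = (LP (LK LD1_c11 LD2_c27 LD3_c26)) :=
  Lgr Lrot19 (Lpr_dt (K52.f615261 IH) (Lpr_ft (K52.f119862 IH) (Lpr_dt (K38.f548723 IH) (Lpn (LP (LK LD1_c11 LD2_c27 LD3_c26))))))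
theorem f615265 : Led Lsl_ft (LP (LK LD1_c17 LD2_c59 LD3_c56)) = (LP (LK LD1_c11 LD2_c27 LD3_c26)) :=
  Lgr Lrot48 (Lpr_ff (f615263 IH) (Lpn (LP (LK LD1_c11 LD2_c27 LD3_c26))))
theorem f764283 : Led Lsl_gt (LP (LK LD1_c17 LD2_c59 LD3_c56)) = (LP (LK LD1_c15 LD2_c8 LD3_c15)) :=
  Lgr Lrot5 (Lpr_ft (f615265 IH) (Lpr_at (f568385 IH) (Lpr_gf (f764281 IH) (Lpn (LP (LK LD1_c15 LD2_c8 LD3_c15))))))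
theorem f764295 : Led Lsl_gf (LP (LK LD1_c17 LD2_c59 LD3_c56)) = (LP (LK LD1_c11 LD2_c27 LD3_c58)) :=
  Lgr Lrot47 (Lpr_gt (f764283 IH) (Lpr_af (f746217 IH) (Lpe (f746147 IH) (Lpn (LP (LK LD1_c11 LD2_c27 LD3_c58))))))
theorem f711397 : Led Lsl_cf (LP (LK LD1_c16 LD2_c30 LD3_c53)) = (LP (LK LD1_c17 LD2_c59 LD3_c56)) :=
  Lgr Lrot11 (Lpr_ct (K52.f711292 IH) (Lpn (LP (LK LD1_c17 LD2_c59 LD3_c56))))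
theorem f698881 : Led Lsl_bt (LP (LK LD1_c5 LD2_c49 LD3_c36)) = (LP (LK LD1_c11 LD2_c27 LD3_c58)) :=
  Lre_b IH (LK LD1_c5 LD2_c49 LD3_c36) (LK LD1_c11 LD2_c27 LD3_c58) Lrfl Lrfl
theorem f744132 : Led Lsl_ff (LP (LK LD1_c5 LD2_c49 LD3_c37)) = K55.v15901 :=
  Lgr Lrot3 (Lpr_ft (K55.f744131 IH) (Lpn K55.v15901))
theorem f758023 : Led Lsl_ft (LP (LK LD1_c11 LD2_c27 LD3_c60)) = v17264 :=
  Lgr Lrot4 (Lpe (K50.f567725 IH) (Lpr_ff (f744132 IH) (Lpr_cf (f758021 IH) (Lpn v17264))))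
theorem f758020 : Led Lsl_af v15902 = v17264 :=
  Lgr Lrot0 (Lpr_at (f758019 IH) (Lpn v17264))
theorem f758033 : Led Lsl_gt (LP (LK LD1_c9 LD2_c18 LD3_c4)) = v15902 :=
  Lgr Lrot46 (Lpr_gf (K50.f698895 IH) (Lpr_ft (f758023 IH) (Lpe (f758020 IH) (Lpn v15902))))
theorem f764301 : Led Lsl_gt (LP (LK LD1_c16 LD2_c30 LD3_c53)) = (LP (LK LD1_c17 LD2_c31 LD3_c45)) :=
  Lgr Lrot149 (Lpr_cf (f711397 IH) (Lpr_gf (f764295 IH) (Lpe (f698881 IH) (Lpr_ct (f744133 IH) (Lpe (f758033 IH) (Lpe (K50.f26823 IH) (Lpe (K50.f538083 IH) (Lpe (K46.f207239 IH) (Lpr_bf (K46.f642408 IH) (Lpr_ct (K52.f502611 IH) (Lpn (LP (LK LD1_c17 LD2_c31 LD3_c45)))))))))))))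
theorem f764302 : Led Lsl_gt (LP (LK LD1_c16 LD2_c30 LD3_c53)) = (LP (LK LD1_c17 LD2_c31 LD3_c45)) :=
  Leop (Lpe (f764301 IH) (Lpn (LP (LK LD1_c16 LD2_c30 LD3_c53))))
theorem seed_1203 : LEOK LG_g (LK LD1_c16 LD2_c30 LD3_c53) :=
  Leoe_g (LK LD1_c16 LD2_c30 LD3_c53) (f764302 IH)
def v18069 : LQ := Led Lsl_ct (LP (LK LD1_c6 LD2_c26 LD3_c8))
theorem f764885 : Led Lsl_ct (LP (LK LD1_c6 LD2_c26 LD3_c8)) = v18069 :=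
  Lrfl
theorem f764886 : Led Lsl_cf (LP (LK LD1_c6 LD2_c26 LD3_c8)) = v18069 :=
  Lgr Lrot11 (Lpr_ct (f764885 IH) (Lpn v18069))
def v18063 : LQ := Led Lsl_gt (LP (LK LD1_c6 LD2_c26 LD3_c7))
theorem f764854 : Led Lsl_gt (LP (LK LD1_c6 LD2_c26 LD3_c7)) = v18063 :=
  Lrfl
theorem f506489 : Led Lsl_gt (LP (LK LD1_c3 LD2_c10 LD3_c53)) = (LP (LK LD1_c6 LD2_c26 LD3_c7)) :=
  Lre_g IH (LK LD1_c3 LD2_c10 LD3_c53) (LK LD1_c6 LD2_c26 LD3_c7) Lrfl Lrfl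
def v5609 : LQ := Led Lsl_ft (LP (LK LD1_c3 LD2_c10 LD3_c53))
theorem f648495 : Led Lsl_ft (LP (LK LD1_c3 LD2_c10 LD3_c53)) = v5609 :=
  Lrfl
theorem f764855 : Led Lsl_at v5609 = v18063 :=
  Lgr Lrot26 (Lpe (f648495 IH) (Lpr_gt (f506489 IH) (Lpr_gt (f764854 IH) (Lpn v18063))))
def v5582 : LQ := Led Lsl_et (LP (LK LD1_c3 LD2_c10 LD3_c40))
theorem f648352 : Led Lsl_et (LP (LK LD1_c3 LD2_c10 LD3_c40)) = v5582 :=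
  Lrfl
theorem f442411 : Led Lsl_at (LP (LK LD1_c1 LD2_c31 LD3_c59)) = (LP (LK LD1_c3 LD2_c10 LD3_c40)) :=
  Lre_a IH (LK LD1_c1 LD2_c31 LD3_c59) (LK LD1_c3 LD2_c10 LD3_c40) Lrfl Lrfl
theorem f506515 : Led Lsl_et (LP (LK LD1_c3 LD2_c10 LD3_c53)) = (LP (LK LD1_c1 LD2_c31 LD3_c59)) :=
  Lre_e IH (LK LD1_c3 LD2_c10 LD3_c53) (LK LD1_c1 LD2_c31 LD3_c59) Lrfl Lrfl
theorem f648353 : Led Lsl_af (LP (LK LD1_c3 LD2_c10 LD3_c53)) = v5582 :=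
  Lgr Lrot50 (Lpr_et (f506515 IH) (Lpr_at (f442411 IH) (Lpr_et (f648352 IH) (Lpn v5582))))
theorem f764859 : Led Lsl_ff v5582 = v18063 :=
  Lgr Lrot30 (Lpe (f648353 IH) (Lpr_ft (f648495 IH) (Lpr_at (f764855 IH) (Lpn v18063))))
theorem f438552 : Led Lsl_gt (LP (LK LD1_c6 LD2_c26 LD3_c8)) = (LP (LK LD1_c3 LD2_c10 LD3_c53)) :=
  Lre_g IH (LK LD1_c6 LD2_c26 LD3_c8) (LK LD1_c3 LD2_c10 LD3_c53) Lrfl Lrfl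
theorem f764862 : Led Lsl_gf (LP (LK LD1_c6 LD2_c26 LD3_c8)) = v18063 :=
  Lgr Lrot47 (Lpr_gt (f438552 IH) (Lpr_af (f648353 IH) (Lpr_ff (f764859 IH) (Lpn v18063))))
theorem f82481 : Led Lsl_ct (LP (LK LD1_c1 LD2_c31 LD3_c42)) = (LP (LK LD1_c3 LD2_c10 LD3_c40)) :=
  Lre_c IH (LK LD1_c1 LD2_c31 LD3_c42) (LK LD1_c3 LD2_c10 LD3_c40) Lrfl Lrfl
def v1927 : LQ := Led Lsl_et (LP (LK LD1_c1 LD2_c31 LD3_c42))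
theorem f506423 : Led Lsl_et (LP (LK LD1_c1 LD2_c31 LD3_c42)) = v1927 :=
  Lrfl
theorem f506426 : Led Lsl_ef (LP (LK LD1_c1 LD2_c31 LD3_c42)) = v1927 :=
  Lgr Lrot88 (Lpr_et (f506423 IH) (Lpn v1927))
theorem f648354 : Led Lsl_cf v1927 = v5582 :=
  Lgr Lrot39 (Lpe (f506426 IH) (Lpr_ct (f82481 IH) (Lpr_et (f648352 IH) (Lpn v5582))))
def v5603 : LQ := Led Lsl_gt (LP (LK LD1_c3 LD2_c10 LD3_c52))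
theorem f648465 : Led Lsl_gt (LP (LK LD1_c3 LD2_c10 LD3_c52)) = v5603 :=
  Lrfl
theorem f131382 : Led Lsl_gt (LP (LK LD1_c1 LD2_c31 LD3_c51)) = (LP (LK LD1_c3 LD2_c10 LD3_c52)) :=
  Lre_g IH (LK LD1_c1 LD2_c31 LD3_c51) (LK LD1_c3 LD2_c10 LD3_c52) Lrfl Lrfl
def v1940 : LQ := Led Lsl_ft (LP (LK LD1_c1 LD2_c31 LD3_c51))
theorem f506493 : Led Lsl_ft (LP (LK LD1_c1 LD2_c31 LD3_c51)) = v1940 :=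
  Lrfl
theorem f648466 : Led Lsl_at v1940 = v5603 :=
  Lgr Lrot26 (Lpe (f506493 IH) (Lpr_gt (f131382 IH) (Lpr_gt (f648465 IH) (Lpn v5603))))
theorem f431051 : Led Lsl_et (LP (LK LD1_c1 LD2_c31 LD3_c51)) = (LP (LK LD1_c0 LD2_c42 LD3_c33)) :=
  Lre_e IH (LK LD1_c1 LD2_c31 LD3_c51) (LK LD1_c0 LD2_c42 LD3_c33) Lrfl Lrfl
theorem f506424 : Led Lsl_af (LP (LK LD1_c1 LD2_c31 LD3_c51)) = v1927 :=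
  Lgr Lrot50 (Lpr_et (f431051 IH) (Lpr_at (K50.f82491 IH) (Lpr_et (f506423 IH) (Lpn v1927))))
theorem f648471 : Led Lsl_ff v1927 = v5603 :=
  Lgr Lrot30 (Lpe (f506424 IH) (Lpr_ft (f506493 IH) (Lpr_at (f648466 IH) (Lpn v5603))))
theorem f648473 : Led Lsl_ft v1927 = v5603 :=
  Lgr Lrot48 (Lpr_ff (f648471 IH) (Lpn v5603))
theorem f764860 : Led Lsl_ct v5603 = v18063 :=
  Lgr Lrot40 (Lpe (f648473 IH) (Lpr_cf (f648354 IH) (Lpr_ff (f764859 IH) (Lpn v18063))))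
theorem f416832 : Led Lsl_bt (LP (LK LD1_c6 LD2_c26 LD3_c5)) = (LP (LK LD1_c3 LD2_c10 LD3_c52)) :=
  Lre_b IH (LK LD1_c6 LD2_c26 LD3_c5) (LK LD1_c3 LD2_c10 LD3_c52) Lrfl Lrfl
theorem f416833 : Led Lsl_ct (LP (LK LD1_c6 LD2_c26 LD3_c5)) = (LP (LK LD1_c12 LD2_c24 LD3_c16)) :=
  Lre_c IH (LK LD1_c6 LD2_c26 LD3_c5) (LK LD1_c12 LD2_c24 LD3_c16) Lrfl Lrfl
theorem f438551 : Led Lsl_ct (LP (LK LD1_c1 LD2_c31 LD3_c51)) = (LP (LK LD1_c3 LD2_c10 LD3_c53)) :=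
  Lre_c IH (LK LD1_c1 LD2_c31 LD3_c51) (LK LD1_c3 LD2_c10 LD3_c53) Lrfl Lrfl
theorem f153706 : Led Lsl_bt (LP (LK LD1_c1 LD2_c31 LD3_c51)) = (LP (LK LD1_c0 LD2_c42 LD3_c37)) :=
  Lre_b IH (LK LD1_c1 LD2_c31 LD3_c51) (LK LD1_c0 LD2_c42 LD3_c37) Lrfl Lrfl
theorem f437420 : Led Lsl_bt (LP (LK LD1_c1 LD2_c36 LD3_c31)) = (LP (LK LD1_c3 LD2_c19 LD3_c60)) :=
  Lre_b IH (LK LD1_c1 LD2_c36 LD3_c31) (LK LD1_c3 LD2_c19 LD3_c60) Lrfl Lrfl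
theorem f652484 : Led Lsl_gt (LP (LK LD1_c3 LD2_c19 LD3_c60)) = K51.v6267 :=
  Lgr Lrot5 (Lpr_ft (K46.f62365 IH) (Lpr_at (K6.f62372 IH) (Lpr_gf (K51.f652483 IH) (Lpn K51.v6267))))
theorem f764889 : Led Lsl_bf K51.v6267 = v18069 :=
  Lgr Lrot34 (Lpe (f652484 IH) (Lpe (f437420 IH) (Lpr_ct (K32.f57178 IH) (Lpe (K32.f438537 IH) (Lpe (K32.f435359 IH) (Lpe (K32.f67068 IH) (Lpe (f153706 IH) (Lpr_ct (f438551 IH) (Lpe (f438552 IH) (Lpr_cf (f764886 IH) (Lpn v18069)))))))))))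
theorem f143997 : Led Lsl_ct (LP (LK LD1_c4 LD2_c48 LD3_c15)) = (LP (LK LD1_c9 LD2_c29 LD3_c15)) :=
  Lre_c IH (LK LD1_c4 LD2_c48 LD3_c15) (LK LD1_c9 LD2_c29 LD3_c15) Lrfl Lrfl
theorem f764890 : Led Lsl_gf (LP (LK LD1_c12 LD2_c24 LD3_c16)) = (LP (LK LD1_c9 LD2_c29 LD3_c15)) :=
  Lgr Lrot126 (Lpe (f416833 IH) (Lpr_bt (f416832 IH) (Lpr_gt (f648465 IH) (Lpr_ct (f764860 IH) (Lpe (f764862 IH) (Lpr_cf (f764886 IH) (Lpe (f764889 IH) (Lpe (K51.f652483 IH) (Lpe (K6.f143984 IH) (Lpr_ct (f143997 IH) (Lpn (LP (LK LD1_c9 LD2_c29 LD3_c15)))))))))))))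
theorem f764891 : Led Lsl_gt (LP (LK LD1_c9 LD2_c29 LD3_c15)) = (LP (LK LD1_c12 LD2_c24 LD3_c16)) :=
  Leop (Lpr_gf (f764890 IH) (Lpn (LP (LK LD1_c9 LD2_c29 LD3_c15))))
theorem seed_1204 : LEOK LG_g (LK LD1_c9 LD2_c29 LD3_c15) :=
  Leoe_g (LK LD1_c9 LD2_c29 LD3_c15) (f764891 IH)
def v18120 : LQ := Led Lsl_bt (LP (LK LD1_c6 LD2_c26 LD3_c30))
theorem f765133 : Led Lsl_bt (LP (LK LD1_c6 LD2_c26 LD3_c30)) = v18120 :=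
  Lrfl
theorem f765134 : Led Lsl_bf (LP (LK LD1_c6 LD2_c26 LD3_c30)) = v18120 :=
  Lgr Lrot24 (Lpr_bt (f765133 IH) (Lpn v18120))
theorem f437417 : Led Lsl_gt (LP (LK LD1_c3 LD2_c11 LD3_c9)) = (LP (LK LD1_c6 LD2_c26 LD3_c30)) :=
  Lre_g IH (LK LD1_c3 LD2_c11 LD3_c9) (LK LD1_c6 LD2_c26 LD3_c30) Lrfl Lrfl
theorem f437416 : Led Lsl_bt (LP (LK LD1_c1 LD2_c32 LD3_c1)) = (LP (LK LD1_c3 LD2_c11 LD3_c9)) :=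
  Lre_b IH (LK LD1_c1 LD2_c32 LD3_c1) (LK LD1_c3 LD2_c11 LD3_c9) Lrfl Lrfl
theorem f135522 : Led Lsl_bt (LP (LK LD1_c4 LD2_c48 LD3_c33)) = (LP (LK LD1_c2 LD2_c22 LD3_c10)) :=
  Lre_b IH (LK LD1_c4 LD2_c48 LD3_c33) (LK LD1_c2 LD2_c22 LD3_c10) Lrfl Lrfl
theorem f135552 : Led Lsl_ct (LP (LK LD1_c4 LD2_c48 LD3_c33)) = (LP (LK LD1_c9 LD2_c29 LD3_c43)) :=
  Lre_c IH (LK LD1_c4 LD2_c48 LD3_c33) (LK LD1_c9 LD2_c29 LD3_c43) Lrfl Lrfl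
theorem f135549 : Led Lsl_gt (LP (LK LD1_c17 LD2_c30 LD3_c45)) = (LP (LK LD1_c9 LD2_c29 LD3_c43)) :=
  Lre_g IH (LK LD1_c17 LD2_c30 LD3_c45) (LK LD1_c9 LD2_c29 LD3_c43) Lrfl Lrfl
theorem f765136 : Led Lsl_cf (LP (LK LD1_c17 LD2_c30 LD3_c45)) = v18120 :=
  Lgr Lrot160 (Lpr_gt (f135549 IH) (Lpe (f135552 IH) (Lpr_bt (f135522 IH) (Lpr_gt (K29.f438814 IH) (Lpe (K32.f438796 IH) (Lpr_gt (K32.f437419 IH) (Lpe (K32.f61701 IH) (Lpr_bt (f437416 IH) (Lpr_gt (f437417 IH) (Lpr_bf (f765134 IH) (Lpn v18120)))))))))))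
theorem f765137 : Led Lsl_bt (LP (LK LD1_c17 LD2_c30 LD3_c45)) = (LP (LK LD1_c27 LD2_c20 LD3_c42)) :=
  Lre_b IH (LK LD1_c17 LD2_c30 LD3_c45) (LK LD1_c27 LD2_c20 LD3_c42) Lrfl Lrfl
theorem f702610 : Led Lsl_ct (LP (LK LD1_c12 LD2_c24 LD3_c56)) = (LP (LK LD1_c6 LD2_c26 LD3_c30)) :=
  Lre_c IH (LK LD1_c12 LD2_c24 LD3_c56) (LK LD1_c6 LD2_c26 LD3_c30) Lrfl Lrfl
theorem f765135 : Led Lsl_bt (LP (LK LD1_c21 LD2_c31 LD3_c50)) = (LP (LK LD1_c12 LD2_c24 LD3_c56)) :=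
  Lre_b IH (LK LD1_c21 LD2_c31 LD3_c50) (LK LD1_c12 LD2_c24 LD3_c56) Lrfl Lrfl
theorem f765138 : Led Lsl_ct (LP (LK LD1_c27 LD2_c20 LD3_c42)) = (LP (LK LD1_c21 LD2_c31 LD3_c50)) :=
  Lgr Lrot83 (Lpe (f765137 IH) (Lpr_cf (f765136 IH) (Lpe (f765133 IH) (Lpe (f702610 IH) (Lpe (f765135 IH) (Lpn (LP (LK LD1_c21 LD2_c31 LD3_c50))))))))
theorem f765139 : Led Lsl_ct (LP (LK LD1_c27 LD2_c20 LD3_c42)) = (LP (LK LD1_c21 LD2_c31 LD3_c50)) :=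
  Leop (Lpe (f765138 IH) (Lpn (LP (LK LD1_c27 LD2_c20 LD3_c42))))
theorem seed_1205 : LEOK LG_c (LK LD1_c27 LD2_c20 LD3_c42) :=
  Leoe_c (LK LD1_c27 LD2_c20 LD3_c42) (f765139 IH)
def v18178 : LQ := Led Lsl_bt (LP (LK LD1_c6 LD2_c26 LD3_c55))
theorem f765385 : Led Lsl_bt (LP (LK LD1_c6 LD2_c26 LD3_c55)) = v18178 :=
  Lrfl
theorem f765386 : Led Lsl_bf (LP (LK LD1_c6 LD2_c26 LD3_c55)) = v18178 :=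
  Lgr Lrot24 (Lpr_bt (f765385 IH) (Lpn v18178))
theorem f645176 : Led Lsl_bt (LP (LK LD1_c2 LD2_c57 LD3_c2)) = (LP (LK LD1_c6 LD2_c1 LD3_c52)) :=
  Lre_b IH (LK LD1_c2 LD2_c57 LD3_c2) (LK LD1_c6 LD2_c1 LD3_c52) Lrfl Lrfl
theorem f765391 : Led Lsl_cf (LP (LK LD1_c11 LD2_c48 LD3_c19)) = v18178 :=
  Lgr Lrot58 (Lpe (K56.f69114 IH) (Lpe (K56.f69113 IH) (Lpr_bt (f645176 IH) (Lpr_gf (K55.f741747 IH) (Lpe (K55.f501895 IH) (Lpe (K53.f502512 IH) (Lpe (K52.f698967 IH) (Lpe (K52.f416352 IH) (Lpe (K52.f69116 IH) (Lpr_bf (f765386 IH) (Lpn v18178)))))))))))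
theorem f699015 : Led Lsl_ff (LP (LK LD1_c6 LD2_c26 LD3_c55)) = (LP (LK LD1_c4 LD2_c59 LD3_c12)) :=
  Lgr Lrot3 (Lpr_ft (K52.f699009 IH) (Lpn (LP (LK LD1_c4 LD2_c59 LD3_c12))))
theorem f499381 : Led Lsl_bt (LP (LK LD1_c9 LD2_c48 LD3_c49)) = (LP (LK LD1_c4 LD2_c59 LD3_c12)) :=
  Lre_b IH (LK LD1_c9 LD2_c48 LD3_c49) (LK LD1_c4 LD2_c59 LD3_c12) Lrfl Lrfl
theorem f765388 : Led Lsl_ff (LP (LK LD1_c9 LD2_c48 LD3_c49)) = v18178 :=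
  Lgr Lrot25 (Lpr_bt (f499381 IH) (Lpe (f699015 IH) (Lpr_bt (f765385 IH) (Lpn v18178))))
theorem f104793 : Led Lsl_et (LP (LK LD1_c9 LD2_c48 LD3_c49)) = (LP (LK LD1_c4 LD2_c59 LD3_c10)) :=
  Lre_e IH (LK LD1_c9 LD2_c48 LD3_c49) (LK LD1_c4 LD2_c59 LD3_c10) Lrfl Lrfl
theorem f497174 : Led Lsl_ff (LP (LK LD1_c2 LD2_c27 LD3_c36)) = (LP (LK LD1_c4 LD2_c59 LD3_c10)) :=
  Lgr Lrot25 (Lpr_bt (K32.f40383 IH) (Lpr_ft (K32.f495276 IH) (Lpq (K32.f497169 IH) (Lpr_bt (K4.f104786 IH) (Lpn (LP (LK LD1_c4 LD2_c59 LD3_c10)))))))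
theorem f76119 : Led Lsl_et (LP (LK LD1_c2 LD2_c27 LD3_c36)) = (LP (LK LD1_c4 LD2_c59 LD3_c32)) :=
  Lre_e IH (LK LD1_c2 LD2_c27 LD3_c36) (LK LD1_c4 LD2_c59 LD3_c32) Lrfl Lrfl
theorem f765389 : Led Lsl_et (LP (LK LD1_c9 LD2_c49 LD3_c28)) = v18178 :=
  Lgr Lrot69 (Lpe (K50.f499832 IH) (Lpe (f76119 IH) (Lpr_ff (f497174 IH) (Lpe (f104793 IH) (Lpr_ff (f765388 IH) (Lpn v18178))))))
theorem f644139 : Led Lsl_cf (LP (LK LD1_c9 LD2_c49 LD3_c28)) = (LP (LK LD1_c17 LD2_c7 LD3_c51)) :=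
  Lgr Lrot11 (Lpr_ct (K50.f644121 IH) (Lpn (LP (LK LD1_c17 LD2_c7 LD3_c51))))
theorem f765393 : Led Lsl_et (LP (LK LD1_c11 LD2_c48 LD3_c19)) = (LP (LK LD1_c17 LD2_c7 LD3_c51)) :=
  Lgr Lrot158 (Lpr_cf (f765391 IH) (Lpe (f765389 IH) (Lpr_cf (f644139 IH) (Lpn (LP (LK LD1_c17 LD2_c7 LD3_c51))))))
theorem f765394 : Led Lsl_et (LP (LK LD1_c11 LD2_c48 LD3_c19)) = (LP (LK LD1_c17 LD2_c7 LD3_c51)) :=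
  Leop (Lpe (f765393 IH) (Lpn (LP (LK LD1_c11 LD2_c48 LD3_c19))))
theorem seed_1206 : LEOK LG_e (LK LD1_c11 LD2_c48 LD3_c19) :=
  Leoe_e (LK LD1_c11 LD2_c48 LD3_c19) (f765394 IH)
def v18180 : LQ := Led Lsl_dt (LP (LK LD1_c6 LD2_c26 LD3_c55))
theorem f765409 : Led Lsl_dt (LP (LK LD1_c6 LD2_c26 LD3_c55)) = v18180 :=
  Lrfl
theorem f765412 : Led Lsl_ff (LP (LK LD1_c9 LD2_c48 LD3_c52)) = v18180 :=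
  Lgr Lrot19 (Lpr_dt (K48.f104903 IH) (Lpe (f699015 IH) (Lpr_dt (f765409 IH) (Lpn v18180))))
theorem f75480 : Led Lsl_ft (LP (LK LD1_c4 LD2_c59 LD3_c28)) = (LP (LK LD1_c9 LD2_c49 LD3_c24)) :=
  Lre_f IH (LK LD1_c4 LD2_c59 LD3_c28) (LK LD1_c9 LD2_c49 LD3_c24) Lrfl Lrfl
theorem f765414 : Led Lsl_at (LP (LK LD1_c9 LD2_c49 LD3_c24)) = v18180 :=
  Lgr Lrot66 (Lpe (f75480 IH) (Lpr_af (K51.f499343 IH) (Lpr_ff (f765412 IH) (Lpn v18180))))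
theorem f765416 : Led Lsl_gt (LP (LK LD1_c9 LD2_c49 LD3_c22)) = v18180 :=
  Lgr Lrot46 (Lpe (K52.f75482 IH) (Lpr_ft (f75480 IH) (Lpr_at (f765414 IH) (Lpn v18180))))
theorem f644723 : Led Lsl_et (LP (LK LD1_c17 LD2_c56 LD3_c6)) = (LP (LK LD1_c9 LD2_c46 LD3_c12)) :=
  Lre_e IH (LK LD1_c17 LD2_c56 LD3_c6) (LK LD1_c9 LD2_c46 LD3_c12) Lrfl Lrfl
theorem f76091 : Led Lsl_et (LP (LK LD1_c2 LD2_c27 LD3_c38)) = (LP (LK LD1_c1 LD2_c10 LD3_c59)) :=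
  Lre_e IH (LK LD1_c2 LD2_c27 LD3_c38) (LK LD1_c1 LD2_c10 LD3_c59) Lrfl Lrfl
theorem f699019 : Led Lsl_et (LP (LK LD1_c6 LD2_c26 LD3_c55)) = (LP (LK LD1_c4 LD2_c59 LD3_c38)) :=
  Lgr Lrot69 (Lpr_ff (f699015 IH) (Lpe (K48.f104890 IH) (Lpqs (K32.f497169 IH) (Lpe (K32.f495276 IH) (Lpe (f76091 IH) (Lpe (K46.f495277 IH) (Lpn (LP (LK LD1_c4 LD2_c59 LD3_c38)))))))))
theorem f500044 : Led Lsl_dt (LP (LK LD1_c2 LD2_c51 LD3_c28)) = (LP (LK LD1_c5 LD2_c50 LD3_c35)) :=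
  Lre_d IH (LK LD1_c2 LD2_c51 LD3_c28) (LK LD1_c5 LD2_c50 LD3_c35) Lrfl Lrfl
theorem f506183 : Led Lsl_gt (LP (LK LD1_c5 LD2_c50 LD3_c35)) = (LP (LK LD1_c11 LD2_c29 LD3_c2)) :=
  Lre_g IH (LK LD1_c5 LD2_c50 LD3_c35) (LK LD1_c11 LD2_c29 LD3_c2) Lrfl Lrfl
theorem f765417 : Led Lsl_dt (LP (LK LD1_c17 LD2_c56 LD3_c6)) = (LP (LK LD1_c11 LD2_c29 LD3_c2)) :=
  Lgr Lrot56 (Lpr_et (f644723 IH) (Lpr_gt (K52.f644707 IH) (Lpr_ef (K52.f644927 IH) (Lpr_dt (K52.f563833 IH) (Lpr_gt (f765416 IH) (Lpe (f765409 IH) (Lpr_et (f699019 IH) (Lpqs (K46.f643529 IH) (Lpe (K46.f640675 IH) (Lpr_dt (f500044 IH) (Lpr_gt (f506183 IH) (Lpn (LP (LK LD1_c11 LD2_c29 LD3_c2))))))))))))))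
theorem f765418 : Led Lsl_dt (LP (LK LD1_c17 LD2_c56 LD3_c6)) = (LP (LK LD1_c11 LD2_c29 LD3_c2)) :=
  Leop (Lpe (f765417 IH) (Lpn (LP (LK LD1_c17 LD2_c56 LD3_c6))))
theorem seed_1207 : LEOK LG_d (LK LD1_c17 LD2_c56 LD3_c6) :=
  Leoe_d (LK LD1_c17 LD2_c56 LD3_c6) (f765418 IH)
def v18212 : LQ := Led Lsl_ft (LP (LK LD1_c6 LD2_c27 LD3_c16))
theorem f765534 : Led Lsl_ft (LP (LK LD1_c6 LD2_c27 LD3_c16)) = v18212 :=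
  Lrfl
theorem f765537 : Led Lsl_ff (LP (LK LD1_c6 LD2_c27 LD3_c16)) = v18212 :=
  Lgr Lrot3 (Lpr_ft (f765534 IH) (Lpn v18212))
theorem f435323 : Led Lsl_et (LP (LK LD1_c3 LD2_c11 LD3_c32)) = (LP (LK LD1_c6 LD2_c27 LD3_c16)) :=
  Lre_e IH (LK LD1_c3 LD2_c11 LD3_c32) (LK LD1_c6 LD2_c27 LD3_c16) Lrfl Lrfl
theorem f435324 : Led Lsl_ct (LP (LK LD1_c6 LD2_c27 LD3_c16)) = (LP (LK LD1_c3 LD2_c20 LD3_c6)) :=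
  Lgr Lrot15 (Lpe (f435323 IH) (Lpr_cf (K32.f435291 IH) (Lpe (K29.f62601 IH) (Lpn (LP (LK LD1_c3 LD2_c20 LD3_c6))))))
theorem f507202 : Led Lsl_ft (LP (LK LD1_c3 LD2_c20 LD3_c6)) = (LP (LK LD1_c6 LD2_c42 LD3_c55)) :=
  Lgr Lrot86 (Lpe (K32.f146106 IH) (Lpr_ff (K35.f507176 IH) (Lpe (K46.f84332 IH) (Lpr_ff (K35.f507196 IH) (Lpe (K32.f57693 IH) (Lpn (LP (LK LD1_c6 LD2_c42 LD3_c55))))))))
theorem f765538 : Led Lsl_ct (LP (LK LD1_c6 LD2_c42 LD3_c55)) = v18212 :=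
  Lgr Lrot40 (Lpe (f507202 IH) (Lpe (f435324 IH) (Lpr_ff (f765537 IH) (Lpn v18212))))
theorem f143912 : Led Lsl_gt (LP (LK LD1_c3 LD2_c22 LD3_c28)) = (LP (LK LD1_c1 LD2_c37 LD3_c30)) :=
  Lre_g IH (LK LD1_c3 LD2_c22 LD3_c28) (LK LD1_c1 LD2_c37 LD3_c30) Lrfl Lrfl
theorem f146130 : Led Lsl_ct (LP (LK LD1_c6 LD2_c48 LD3_c45)) = (LP (LK LD1_c3 LD2_c22 LD3_c28)) :=
  Lre_c IH (LK LD1_c6 LD2_c48 LD3_c45) (LK LD1_c3 LD2_c22 LD3_c28) Lrfl Lrfl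
theorem f503699 : Led Lsl_ct (LP (LK LD1_c3 LD2_c22 LD3_c22)) = (LP (LK LD1_c6 LD2_c23 LD3_c42)) :=
  Lgr Lrot15 (Lpe (K32.f146149 IH) (Lpe (K49.f146151 IH) (Lpr_ef (K50.f503695 IH) (Lpn (LP (LK LD1_c6 LD2_c23 LD3_c42))))))
theorem f146123 : Led Lsl_dt (LP (LK LD1_c6 LD2_c48 LD3_c46)) = (LP (LK LD1_c3 LD2_c22 LD3_c28)) :=
  Lre_d IH (LK LD1_c6 LD2_c48 LD3_c46) (LK LD1_c3 LD2_c22 LD3_c28) Lrfl Lrfl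
theorem f434511 : Led Lsl_ef (LP (LK LD1_c4 LD2_c50 LD3_c25)) = (LP (LK LD1_c6 LD2_c48 LD3_c46)) :=
  Lgr Lrot17 (Lpe (K50.f146002 IH) (Lpe (K6.f143025 IH) (Lpr_dt (K6.f143023 IH) (Lpr_gf (K7.f154117 IH) (Lpe (K7.f10356 IH) (Lpr_gf (K7.f155869 IH) (Lpe (K6.f146122 IH) (Lpr_dt (K6.f146098 IH) (Lpe (f143912 IH) (Lpe (f146123 IH) (Lpn (LP (LK LD1_c6 LD2_c48 LD3_c46)))))))))))))
theorem f146003 : Led Lsl_gf (LP (LK LD1_c3 LD2_c22 LD3_c29)) = (LP (LK LD1_c4 LD2_c50 LD3_c25)) :=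
  Lgr Lrot76 (Lpe (K6.f146000 IH) (Lpr_ff (K6.f145997 IH) (Lpr_gt (K50.f146002 IH) (Lpn (LP (LK LD1_c4 LD2_c50 LD3_c25))))))
theorem f434516 : Led Lsl_gt (LP (LK LD1_c3 LD2_c19 LD3_c41)) = (LP (LK LD1_c3 LD2_c22 LD3_c28)) :=
  Lgr Lrot112 (Lpr_df (K6.f146062 IH) (Lpr_et (K6.f84345 IH) (Lpe (K24.f135415 IH) (Lpe (K29.f62601 IH) (Lpe (K29.f146102 IH) (Lpe (K29.f146183 IH) (Lpe (K35.f146187 IH) (Lpr_gf (f146003 IH) (Lpr_ef (f434511 IH) (Lpr_dt (f146123 IH) (Lpn (LP (LK LD1_c3 LD2_c22 LD3_c28)))))))))))))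
theorem f146131 : Led Lsl_ct (LP (LK LD1_c3 LD2_c22 LD3_c28)) = (LP (LK LD1_c6 LD2_c48 LD3_c45)) :=
  Lre_c IH (LK LD1_c3 LD2_c22 LD3_c28) (LK LD1_c6 LD2_c48 LD3_c45) Lrfl Lrfl
theorem f154380 : Led Lsl_ft (LP (LK LD1_c0 LD2_c8 LD3_c23)) = (LP (LK LD1_c0 LD2_c18 LD3_c43)) :=
  Lre_f IH (LK LD1_c0 LD2_c8 LD3_c23) (LK LD1_c0 LD2_c18 LD3_c43) Lrfl Lrfl
theorem f154381 : Led Lsl_af (LP (LK LD1_c0 LD2_c30 LD3_c19)) = (LP (LK LD1_c0 LD2_c18 LD3_c43)) :=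
  Lgr Lrot31 (Lpr_gf (K7.f154378 IH) (Lpe (K1.f25806 IH) (Lpr_ft (f154380 IH) (Lpn (LP (LK LD1_c0 LD2_c18 LD3_c43))))))
theorem f155828 : Led Lsl_et (LP (LK LD1_c0 LD2_c30 LD3_c19)) = (LP (LK LD1_c0 LD2_c19 LD3_c1)) :=
  Lgr Lrot123 (Lpr_af (f154381 IH) (Lpr_ef (K7.f155809 IH) (Lpe (K7.f154055 IH) (Lpn (LP (LK LD1_c0 LD2_c19 LD3_c1))))))
theorem f434594 : Led Lsl_df (LP (LK LD1_c2 LD2_c18 LD3_c36)) = (LP (LK LD1_c1 LD2_c32 LD3_c20)) :=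
  Lgr Lrot70 (Lpr_et (K46.f152648 IH) (Lpr_dt (K7.f25903 IH) (Lpr_et (f155828 IH) (Lpr_dt (K7.f25901 IH) (Lpr_et (K46.f153800 IH) (Lpn (LP (LK LD1_c1 LD2_c32 LD3_c20))))))))
theorem f434596 : Led Lsl_dt (LP (LK LD1_c2 LD2_c18 LD3_c36)) = (LP (LK LD1_c1 LD2_c32 LD3_c20)) :=
  Lgr Lrot42 (Lpr_df (f434594 IH) (Lpn (LP (LK LD1_c1 LD2_c32 LD3_c20))))
theorem f503701 : Led Lsl_gt (LP (LK LD1_c6 LD2_c48 LD3_c45)) = (LP (LK LD1_c3 LD2_c22 LD3_c31)) :=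
  Lgr Lrot150 (Lpe (f146131 IH) (Lpe (f434516 IH) (Lpr_df (K6.f146062 IH) (Lpe (K32.f146087 IH) (Lpr_ct (f503699 IH) (Lpr_gt (K50.f84034 IH) (Lpe (K16.f153771 IH) (Lpe (f434596 IH) (Lpe (K50.f152649 IH) (Lpn (LP (LK LD1_c3 LD2_c22 LD3_c31))))))))))))
theorem f152668 : Led Lsl_gt (LP (LK LD1_c6 LD2_c48 LD3_c50)) = (LP (LK LD1_c12 LD2_c59 LD3_c61)) :=
  Lre_g IH (LK LD1_c6 LD2_c48 LD3_c50) (LK LD1_c12 LD2_c59 LD3_c61) Lrfl Lrfl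
theorem f765540 : Led Lsl_dt (LP (LK LD1_c12 LD2_c59 LD3_c61)) = v18212 :=
  Lgr Lrot113 (Lpe (f152668 IH) (Lpe (f152667 IH) (Lpe (f503701 IH) (Lpr_ct (f146130 IH) (Lpr_gt (f143912 IH) (Lpe (K6.f146116 IH) (Lpr_gt (K32.f57671 IH) (Lpr_dt (K35.f57678 IH) (Lpr_ct (f765538 IH) (Lpn v18212))))))))))
def v17899 : LQ := Led Lsl_gf (LP (LK LD1_c6 LD2_c23 LD3_c46))
theorem f762684 : Led Lsl_gf (LP (LK LD1_c6 LD2_c23 LD3_c46)) = v17899 :=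
  Lrfl
theorem f152786 : Led Lsl_dt (LP (LK LD1_c3 LD2_c9 LD3_c28)) = (LP (LK LD1_c6 LD2_c23 LD3_c46)) :=
  Lre_d IH (LK LD1_c3 LD2_c9 LD3_c28) (LK LD1_c6 LD2_c23 LD3_c46) Lrfl Lrfl
theorem f152787 : Led Lsl_et (LP (LK LD1_c6 LD2_c27 LD3_c16)) = (LP (LK LD1_c3 LD2_c11 LD3_c32)) :=
  Lre_e IH (LK LD1_c6 LD2_c27 LD3_c16) (LK LD1_c3 LD2_c11 LD3_c32) Lrfl Lrfl
theorem f762686 : Led Lsl_dt (LP (LK LD1_c6 LD2_c27 LD3_c16)) = v17899 :=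
  Lgr Lrot136 (Lpr_et (f152787 IH) (Lpe (K16.f79756 IH) (Lpe (K16.f152754 IH) (Lpe (K7.f152750 IH) (Lpr_gf (K7.f152781 IH) (Lpr_df (K2.f7490 IH) (Lpe (K7.f152776 IH) (Lpe (K46.f152752 IH) (Lpr_dt (f152786 IH) (Lpr_gf (f762684 IH) (Lpn v17899)))))))))))
theorem f765542 : Led Lsl_ff (LP (LK LD1_c12 LD2_c59 LD3_c61)) = v17899 :=
  Lgr Lrot19 (Lpr_dt (f765540 IH) (Lpe (f765537 IH) (Lpr_dt (f762686 IH) (Lpn v17899))))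
theorem f765544 : Led Lsl_at (LP (LK LD1_c12 LD2_c59 LD3_c61)) = (LP (LK LD1_c12 LD2_c20 LD3_c53)) :=
  Lgr Lrot26 (Lpr_ff (f765542 IH) (Lpe (f762684 IH) (Lpr_gt (f435982 IH) (Lpn (LP (LK LD1_c12 LD2_c20 LD3_c53))))))
theorem f765545 : Led Lsl_at (LP (LK LD1_c12 LD2_c59 LD3_c61)) = (LP (LK LD1_c12 LD2_c20 LD3_c53)) :=
  Leop (Lpe (f765544 IH) (Lpn (LP (LK LD1_c12 LD2_c59 LD3_c61))))
theorem seed_1208 : LEOK LG_a (LK LD1_c12 LD2_c59 LD3_c61) :=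
  Leoe_a (LK LD1_c12 LD2_c59 LD3_c61) (f765545 IH)
def v18248 : LQ := Led Lsl_dt (LP (LK LD1_c6 LD2_c27 LD3_c42))
theorem f765742 : Led Lsl_dt (LP (LK LD1_c6 LD2_c27 LD3_c42)) = v18248 :=
  Lrfl
theorem f765743 : Led Lsl_df (LP (LK LD1_c6 LD2_c27 LD3_c42)) = v18248 :=
  Lgr Lrot38 (Lpr_dt (f765742 IH) (Lpn v18248))
theorem f68245 : Led Lsl_gt (LP (LK LD1_c6 LD2_c27 LD3_c42)) = (LP (LK LD1_c3 LD2_c11 LD3_c43)) :=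
  Lre_g IH (LK LD1_c6 LD2_c27 LD3_c42) (LK LD1_c3 LD2_c11 LD3_c43) Lrfl Lrfl
theorem f66744 : Led Lsl_et (LP (LK LD1_c1 LD2_c32 LD3_c53)) = (LP (LK LD1_c0 LD2_c42 LD3_c60)) :=
  Lre_e IH (LK LD1_c1 LD2_c32 LD3_c53) (LK LD1_c0 LD2_c42 LD3_c60) Lrfl Lrfl
theorem f765744 : Led Lsl_ef (LP (LK LD1_c6 LD2_c49 LD3_c17)) = v18248 :=
  Lgr Lrot17 (Lpe (f77343 IH) (Lpe (K6.f77316 IH) (Lpr_dt (K0.f9804 IH) (Lpe (K2.f9808 IH) (Lpe (K2.f94666 IH) (Lpr_gf (K2.f94680 IH) (Lpe (f66744 IH) (Lpr_dt (K2.f68224 IH) (Lpe (f68245 IH) (Lpr_df (f765743 IH) (Lpn v18248)))))))))))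
theorem f765747 : Led Lsl_et (LP (LK LD1_c6 LD2_c49 LD3_c17)) = v18248 :=
  Lgr Lrot87 (Lpr_ef (f765744 IH) (Lpn v18248))
theorem f765748 : Led Lsl_af (LP (LK LD1_c6 LD2_c50 LD3_c54)) = v18248 :=
  Lgr Lrot50 (Lpr_et (K2.f76836 IH) (Lpr_at (f654327 IH) (Lpqs (f761530 IH) (Lpr_et (f765747 IH) (Lpn v18248)))))
def v18246 : LQ := Led Lsl_ft (LP (LK LD1_c6 LD2_c27 LD3_c41))
theorem f765734 : Led Lsl_ft (LP (LK LD1_c6 LD2_c27 LD3_c41)) = v18246 :=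
  Lrfl
def v18242 : LQ := Led Lsl_at (LP (LK LD1_c6 LD2_c27 LD3_c41))
theorem f765722 : Led Lsl_at (LP (LK LD1_c6 LD2_c27 LD3_c41)) = v18242 :=
  Lrfl
theorem f765723 : Led Lsl_af (LP (LK LD1_c6 LD2_c27 LD3_c41)) = v18242 :=
  Lgr Lrot0 (Lpr_at (f765722 IH) (Lpn v18242))
theorem f68238 : Led Lsl_gt (LP (LK LD1_c3 LD2_c11 LD3_c43)) = (LP (LK LD1_c6 LD2_c27 LD3_c41)) :=
  Lre_g IH (LK LD1_c3 LD2_c11 LD3_c43) (LK LD1_c6 LD2_c27 LD3_c41) Lrfl Lrfl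
theorem f765724 : Led Lsl_ft (LP (LK LD1_c6 LD2_c27 LD3_c42)) = v18242 :=
  Lgr Lrot2 (Lpr_gt (f68245 IH) (Lpr_gt (f68238 IH) (Lpr_af (f765723 IH) (Lpn v18242))))
theorem f765735 : Led Lsl_af (LP (LK LD1_c6 LD2_c27 LD3_c42)) = v18246 :=
  Lgr Lrot45 (Lpr_ft (f765724 IH) (Lpe (f765723 IH) (Lpr_ft (f765734 IH) (Lpn v18246))))
theorem f765754 : (LP (LK LD1_c12 LD2_c26 LD3_c32)) = v18246 :=
  (Llr Lrot44 (Lpe (K2.f90590 IH) (Lpr_af (f765748 IH) (Lpe (f765742 IH) (Lpr_af (f765735 IH) (Lpn v18246)))))).symm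
theorem f765755 : Led Lsl_at (LP (LK LD1_c12 LD2_c26 LD3_c32)) = (LP (LK LD1_c6 LD2_c27 LD3_c42)) :=
  Leop (Lpr_af (f765735 IH) (Lpq (f765754 IH) (Lpn (LP (LK LD1_c12 LD2_c26 LD3_c32)))))
theorem seed_1209 : LEOK LG_a (LK LD1_c12 LD2_c26 LD3_c32) :=
  Leoe_a (LK LD1_c12 LD2_c26 LD3_c32) (f765755 IH)
def v18250 : LQ := Led Lsl_at (LP (LK LD1_c6 LD2_c27 LD3_c44))
theorem f765768 : Led Lsl_at (LP (LK LD1_c6 LD2_c27 LD3_c44)) = v18250 :=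
  Lrfl
def v17819 : LQ := Led Lsl_at (LP (LK LD1_c6 LD2_c22 LD3_c39))
theorem f762297 : Led Lsl_at (LP (LK LD1_c6 LD2_c22 LD3_c39)) = v17819 :=
  Lrfl
theorem f762298 : Led Lsl_af (LP (LK LD1_c6 LD2_c22 LD3_c39)) = v17819 :=
  Lgr Lrot0 (Lpr_at (f762297 IH) (Lpn v17819))
theorem f765770 : Led Lsl_df v17819 = v18250 :=
  Lgr Lrot18 (Lpe (f762298 IH) (Lpr_dt (K49.f434465 IH) (Lpr_at (f765768 IH) (Lpn v18250))))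
theorem f25835 : Led Lsl_gt (LP (LK LD1_c6 LD2_c22 LD3_c40)) = (LP (LK LD1_c3 LD2_c9 LD3_c1)) :=
  Lre_g IH (LK LD1_c6 LD2_c22 LD3_c40) (LK LD1_c3 LD2_c9 LD3_c1) Lrfl Lrfl
theorem f762299 : Led Lsl_ft (LP (LK LD1_c6 LD2_c22 LD3_c40)) = v17819 :=
  Lgr Lrot2 (Lpr_gt (f25835 IH) (Lpr_gt (K49.f104607 IH) (Lpr_af (f762298 IH) (Lpn v17819))))
theorem f762301 : Led Lsl_ff (LP (LK LD1_c6 LD2_c22 LD3_c40)) = v17819 :=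
  Lgr Lrot3 (Lpr_ft (f762299 IH) (Lpn v17819))
def v17821 : LQ := Led Lsl_dt (LP (LK LD1_c6 LD2_c22 LD3_c40))
theorem f762308 : Led Lsl_dt (LP (LK LD1_c6 LD2_c22 LD3_c40)) = v17821 :=
  Lrfl
theorem f765772 : Led Lsl_ft v17821 = v18250 :=
  Lgr Lrot54 (Lpe (f762308 IH) (Lpr_ff (f762301 IH) (Lpr_df (f765770 IH) (Lpn v18250))))
theorem f765769 : Led Lsl_af (LP (LK LD1_c6 LD2_c27 LD3_c44)) = v18250 :=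
  Lgr Lrot0 (Lpr_at (f765768 IH) (Lpn v18250))
theorem f765774 : v17821 = (LP (LK LD1_c6 LD2_c27 LD3_c45)) :=
  (Llr Lrot52 (Lpr_ft (f765772 IH) (Lpe (f765769 IH) (Lpe (K3.f68080 IH) (Lpe (f68077 IH) (Lpn (LP (LK LD1_c6 LD2_c27 LD3_c45)))))))).symm
theorem f762309 : Led Lsl_df (LP (LK LD1_c6 LD2_c22 LD3_c40)) = v17821 :=
  Lgr Lrot38 (Lpr_dt (f762308 IH) (Lpn v17821))
theorem f765775 : Led Lsl_dt (LP (LK LD1_c6 LD2_c27 LD3_c45)) = (LP (LK LD1_c6 LD2_c22 LD3_c40)) :=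
  Leop (Lpr_df (f762309 IH) (Lpqs (f765774 IH) (Lpn (LP (LK LD1_c6 LD2_c27 LD3_c45)))))
theorem seed_1210 : LEOK LG_d (LK LD1_c6 LD2_c27 LD3_c45) :=
  Leoe_d (LK LD1_c6 LD2_c27 LD3_c45) (f765775 IH)
theorem f447566 : Led Lsl_gt (LP (LK LD1_c9 LD2_c19 LD3_c2)) = (LP (LK LD1_c6 LD2_c22 LD3_c40)) :=
  Lgr Lrot5 (Lpr_ft (K49.f447046 IH) (Lpr_at (K49.f135309 IH) (Lpe (f25835 IH) (Lpn (LP (LK LD1_c6 LD2_c22 LD3_c40))))))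
theorem f431545 : Led Lsl_dt (LP (LK LD1_c12 LD2_c18 LD3_c43)) = (LP (LK LD1_c21 LD2_c24 LD3_c35)) :=
  Lre_d IH (LK LD1_c12 LD2_c18 LD3_c43) (LK LD1_c21 LD2_c24 LD3_c35) Lrfl Lrfl
theorem f765790 : Led Lsl_gt (LP (LK LD1_c21 LD2_c24 LD3_c35)) = (LP (LK LD1_c12 LD2_c27 LD3_c14)) :=
  Lgr Lrot49 (Lpe (f431545 IH) (Lpe (K49.f447080 IH) (Lpe (K49.f434575 IH) (Lpr_gt (f447566 IH) (Lpr_dt (f762308 IH) (Lpqs (f765774 IH) (Lpr_gt (f68077 IH) (Lpe (K2.f67416 IH) (Lpe (K2.f67534 IH) (Lpe (K2.f67594 IH) (Lpn (LP (LK LD1_c12 LD2_c27 LD3_c14)))))))))))))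
theorem f765794 : Led Lsl_bt (LP (LK LD1_c30 LD2_c0 LD3_c34)) = (LP (LK LD1_c21 LD2_c24 LD3_c35)) :=
  Lre_b IH (LK LD1_c30 LD2_c0 LD3_c34) (LK LD1_c21 LD2_c24 LD3_c35) Lrfl Lrfl
theorem f84109 : Led Lsl_bt (LP (LK LD1_c0 LD2_c45 LD3_c5)) = (LP (LK LD1_c1 LD2_c37 LD3_c25)) :=
  Lre_b IH (LK LD1_c0 LD2_c45 LD3_c5) (LK LD1_c1 LD2_c37 LD3_c25) Lrfl Lrfl
def v2039 : LQ := Led Lsl_dt (LP (LK LD1_c1 LD2_c34 LD3_c6))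
theorem f507869 : Led Lsl_dt (LP (LK LD1_c1 LD2_c34 LD3_c6)) = v2039 :=
  Lrfl
theorem f146174 : Led Lsl_et (LP (LK LD1_c3 LD2_c22 LD3_c19)) = (LP (LK LD1_c1 LD2_c37 LD3_c25)) :=
  Lre_e IH (LK LD1_c3 LD2_c22 LD3_c19) (LK LD1_c1 LD2_c37 LD3_c25) Lrfl Lrfl
theorem f430402 : Led Lsl_et (LP (LK LD1_c0 LD2_c45 LD3_c4)) = (LP (LK LD1_c1 LD2_c30 LD3_c54)) :=
  Lgr Lrot71 (Lpe (K7.f155895 IH) (Lpe (f146174 IH) (Lpr_df (K11.f146114 IH) (Lpe (K6.f143873 IH) (Lpr_df (K11.f430387 IH) (Lpn (LP (LK LD1_c1 LD2_c30 LD3_c54))))))))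
theorem f507874 : Led Lsl_gt (LP (LK LD1_c1 LD2_c37 LD3_c25)) = v2039 :=
  Lgr Lrot112 (Lpe (K46.f146163 IH) (Lpr_et (f430402 IH) (Lpe (K11.f430385 IH) (Lpe (K51.f126849 IH) (Lpr_dt (K51.f453747 IH) (Lpe (K51.f453751 IH) (Lpe (K51.f453719 IH) (Lpr_gf (K11.f156496 IH) (Lpe (K33.f126571 IH) (Lpr_dt (f507869 IH) (Lpn v2039)))))))))))
theorem f507871 : Led Lsl_df (LP (LK LD1_c1 LD2_c34 LD3_c6)) = v2039 :=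
  Lgr Lrot38 (Lpr_dt (f507869 IH) (Lpn v2039))
def v5347 : LQ := Led Lsl_bt (LP (LK LD1_c3 LD2_c6 LD3_c37))
theorem f647203 : Led Lsl_bt (LP (LK LD1_c3 LD2_c6 LD3_c37)) = v5347 :=
  Lrfl
theorem f102141 : Led Lsl_bt (LP (LK LD1_c3 LD2_c5 LD3_c52)) = (LP (LK LD1_c6 LD2_c17 LD3_c16)) :=
  Lre_b IH (LK LD1_c3 LD2_c5 LD3_c52) (LK LD1_c6 LD2_c17 LD3_c16) Lrfl Lrfl
theorem f647209 : Led Lsl_gf (LP (LK LD1_c3 LD2_c8 LD3_c9)) = v5347 :=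
  Lgr Lrot181 (Lpr_ct (K5.f84024 IH) (Lpr_gt (K5.f113485 IH) (Lpe (K5.f99117 IH) (Lpr_bt (f102141 IH) (Lpr_gt (K7.f133689 IH) (Lpe (K6.f113393 IH) (Lpe (K5.f125418 IH) (Lpe (K5.f114625 IH) (Lpe (K5.f67895 IH) (Lpr_bt (f647203 IH) (Lpn v5347)))))))))))
theorem f152935 : Led Lsl_cf (LP (LK LD1_c4 LD2_c40 LD3_c11)) = (LP (LK LD1_c3 LD2_c7 LD3_c24)) :=
  Lgr Lrot11 (Lpr_ct (K7.f152933 IH) (Lpn (LP (LK LD1_c3 LD2_c7 LD3_c24))))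
theorem f647211 : Led Lsl_dt (LP (LK LD1_c3 LD2_c8 LD3_c3)) = v5347 :=
  Lgr Lrot57 (Lpr_gf (K33.f431578 IH) (Lpr_cf (f152935 IH) (Lpr_gt (K7.f153149 IH) (Lpr_dt (K7.f153140 IH) (Lpe (K7.f153147 IH) (Lpr_dt (K2.f23508 IH) (Lpe (K4.f120025 IH) (Lpe (K5.f126991 IH) (Lpr_gf (f647209 IH) (Lpn v5347))))))))))
theorem f647206 : Led Lsl_cf (LP (LK LD1_c4 LD2_c47 LD3_c40)) = v5347 :=
  Lgr Lrot97 (Lpr_bt (K7.f133486 IH) (Lpe (K7.f133508 IH) (Lpr_bt (K49.f114549 IH) (Lpr_ct (K5.f67717 IH) (Lpr_bt (f647203 IH) (Lpn v5347))))))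
theorem f133497 : Led Lsl_gt (LP (LK LD1_c9 LD2_c28 LD3_c18)) = (LP (LK LD1_c17 LD2_c28 LD3_c2)) :=
  Lre_g IH (LK LD1_c9 LD2_c28 LD3_c18) (LK LD1_c17 LD2_c28 LD3_c2) Lrfl Lrfl
theorem f133503 : Led Lsl_dt (LP (LK LD1_c17 LD2_c28 LD3_c2)) = (LP (LK LD1_c27 LD2_c18 LD3_c14)) :=
  Lre_d IH (LK LD1_c17 LD2_c28 LD3_c2) (LK LD1_c27 LD2_c18 LD3_c14) Lrfl Lrfl
theorem f765795 : Led Lsl_cf (LP (LK LD1_c30 LD2_c0 LD3_c34)) = (LP (LK LD1_c27 LD2_c18 LD3_c14)) :=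
  Lgr Lrot89 (Lpr_bt (f765794 IH) (Lpr_gt (f765790 IH) (Lpr_dt (K2.f67594 IH) (Lpr_ct (K2.f67534 IH) (Lpr_bt (K2.f67414 IH) (Lpe (K2.f84095 IH) (Lpr_dt (K5.f84107 IH) (Lpr_ct (K5.f57660 IH) (Lpr_bt (f84109 IH) (Lpr_gt (f507874 IH) (Lpe (f507871 IH) (Lpr_ct (K33.f431663 IH) (Lpe (K33.f431644 IH) (Lpe (K33.f431578 IH) (Lpr_dt (f647211 IH) (Lpe (f647206 IH) (Lpr_bt (K7.f133486 IH) (Lpr_gt (f133497 IH) (Lpr_dt (f133503 IH) (Lpn (LP (LK LD1_c27 LD2_c18 LD3_c14))))))))))))))))))))))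
theorem f765796 : Led Lsl_ct (LP (LK LD1_c27 LD2_c18 LD3_c14)) = (LP (LK LD1_c30 LD2_c0 LD3_c34)) :=
  Leop (Lpr_cf (f765795 IH) (Lpn (LP (LK LD1_c27 LD2_c18 LD3_c14))))
theorem seed_1211 : LEOK LG_c (LK LD1_c27 LD2_c18 LD3_c14) :=
  Leoe_c (LK LD1_c27 LD2_c18 LD3_c14) (f765796 IH)
def v18268 : LQ := Led Lsl_at (LP (LK LD1_c6 LD2_c28 LD3_c1))
theorem f766026 : Led Lsl_at (LP (LK LD1_c6 LD2_c28 LD3_c1)) = v18268 :=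
  Lrfl
theorem f25837 : Led Lsl_ct (LP (LK LD1_c3 LD2_c11 LD3_c54)) = (LP (LK LD1_c6 LD2_c28 LD3_c1)) :=
  Lre_c IH (LK LD1_c3 LD2_c11 LD3_c54) (LK LD1_c6 LD2_c28 LD3_c1) Lrfl Lrfl
def v5673 : LQ := Led Lsl_at (LP (LK LD1_c3 LD2_c11 LD3_c54))
theorem f648782 : Led Lsl_at (LP (LK LD1_c3 LD2_c11 LD3_c54)) = v5673 :=
  Lrfl
theorem f648783 : Led Lsl_af (LP (LK LD1_c3 LD2_c11 LD3_c54)) = v5673 :=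
  Lgr Lrot0 (Lpr_at (f648782 IH) (Lpn v5673))
theorem f766029 : Led Lsl_cf v5673 = v18268 :=
  Lgr Lrot1 (Lpe (f648783 IH) (Lpr_ct (f25837 IH) (Lpr_at (f766026 IH) (Lpn v18268))))
theorem f25828 : Led Lsl_gt (LP (LK LD1_c1 LD2_c32 LD3_c19)) = (LP (LK LD1_c3 LD2_c11 LD3_c54)) :=
  Lre_g IH (LK LD1_c1 LD2_c32 LD3_c19) (LK LD1_c3 LD2_c11 LD3_c54) Lrfl Lrfl
theorem f67163 : Led Lsl_gt (LP (LK LD1_c3 LD2_c11 LD3_c55)) = (LP (LK LD1_c1 LD2_c32 LD3_c19)) :=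
  Lre_g IH (LK LD1_c3 LD2_c11 LD3_c55) (LK LD1_c1 LD2_c32 LD3_c19) Lrfl Lrfl
theorem f648787 : Led Lsl_ft (LP (LK LD1_c3 LD2_c11 LD3_c55)) = v5673 :=
  Lgr Lrot2 (Lpr_gt (f67163 IH) (Lpr_gt (f25828 IH) (Lpr_af (f648783 IH) (Lpn v5673))))
theorem f648788 : Led Lsl_ff (LP (LK LD1_c3 LD2_c11 LD3_c55)) = v5673 :=
  Lgr Lrot3 (Lpr_ft (f648787 IH) (Lpn v5673))
theorem f153911 : Led Lsl_ct (LP (LK LD1_c3 LD2_c11 LD3_c55)) = (LP (LK LD1_c6 LD2_c28 LD3_c4)) :=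
  Lre_c IH (LK LD1_c3 LD2_c11 LD3_c55) (LK LD1_c6 LD2_c28 LD3_c4) Lrfl Lrfl
theorem f766031 : Led Lsl_ft (LP (LK LD1_c6 LD2_c28 LD3_c4)) = v18268 :=
  Lgr Lrot4 (Lpe (f153911 IH) (Lpr_ff (f648788 IH) (Lpr_cf (f766029 IH) (Lpn v18268))))
theorem f766027 : Led Lsl_af (LP (LK LD1_c6 LD2_c28 LD3_c1)) = v18268 :=
  Lgr Lrot0 (Lpr_at (f766026 IH) (Lpn v18268))
theorem f435274 : Led Lsl_gt (LP (LK LD1_c12 LD2_c27 LD3_c24)) = (LP (LK LD1_c6 LD2_c28 LD3_c1)) :=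
  Lre_g IH (LK LD1_c12 LD2_c27 LD3_c24) (LK LD1_c6 LD2_c28 LD3_c1) Lrfl Lrfl
theorem f766033 : Led Lsl_gt (LP (LK LD1_c6 LD2_c28 LD3_c4)) = (LP (LK LD1_c12 LD2_c27 LD3_c24)) :=
  Lgr Lrot5 (Lpr_ft (f766031 IH) (Lpe (f766027 IH) (Lpe (f435274 IH) (Lpn (LP (LK LD1_c12 LD2_c27 LD3_c24))))))
theorem f766034 : Led Lsl_gt (LP (LK LD1_c6 LD2_c28 LD3_c4)) = (LP (LK LD1_c12 LD2_c27 LD3_c24)) :=
  Leop (Lpe (f766033 IH) (Lpn (LP (LK LD1_c6 LD2_c28 LD3_c4))))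
theorem seed_1212 : LEOK LG_g (LK LD1_c6 LD2_c28 LD3_c4) :=
  Leoe_g (LK LD1_c6 LD2_c28 LD3_c4) (f766034 IH)
def v17409 : LQ := Led Lsl_gt (LP (LK LD1_c6 LD2_c18 LD3_c51))
theorem f759628 : Led Lsl_gt (LP (LK LD1_c6 LD2_c18 LD3_c51)) = v17409 :=
  Lrfl
def v18300 : LQ := Led Lsl_gf (LP (LK LD1_c6 LD2_c28 LD3_c16))
theorem f766168 : Led Lsl_gf (LP (LK LD1_c6 LD2_c28 LD3_c16)) = v18300 :=
  Lrfl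
def v4319 : LQ := Led Lsl_gf (LP (LK LD1_c2 LD2_c19 LD3_c21))
theorem f632621 : Led Lsl_gf (LP (LK LD1_c2 LD2_c19 LD3_c21)) = v4319 :=
  Lrfl
theorem f126970 : Led Lsl_dt (LP (LK LD1_c1 LD2_c6 LD3_c47)) = (LP (LK LD1_c2 LD2_c19 LD3_c21)) :=
  Lre_d IH (LK LD1_c1 LD2_c6 LD3_c47) (LK LD1_c2 LD2_c19 LD3_c21) Lrfl Lrfl
theorem f126969 : Led Lsl_et (LP (LK LD1_c1 LD2_c6 LD3_c47)) = (LP (LK LD1_c0 LD2_c30 LD3_c33)) :=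
  Lre_e IH (LK LD1_c1 LD2_c6 LD3_c47) (LK LD1_c0 LD2_c30 LD3_c33) Lrfl Lrfl
theorem f440772 : Led Lsl_et (LP (LK LD1_c6 LD2_c28 LD3_c16)) = (LP (LK LD1_c3 LD2_c12 LD3_c5)) :=
  Lre_e IH (LK LD1_c6 LD2_c28 LD3_c16) (LK LD1_c3 LD2_c12 LD3_c5) Lrfl Lrfl
theorem f632622 : Led Lsl_dt (LP (LK LD1_c6 LD2_c28 LD3_c16)) = v4319 :=
  Lgr Lrot136 (Lpr_et (f440772 IH) (Lpe (K51.f82784 IH) (Lpe (K50.f82327 IH) (Lpr_dt (K4.f26170 IH) (Lpr_gf (K4.f104158 IH) (Lpe (K5.f120126 IH) (Lpe (K4.f26376 IH) (Lpe (f126969 IH) (Lpr_dt (f126970 IH) (Lpr_gf (f632621 IH) (Lpn v4319)))))))))))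
def v5700 : LQ := Led Lsl_dt (LP (LK LD1_c3 LD2_c12 LD3_c11))
theorem f648966 : Led Lsl_dt (LP (LK LD1_c3 LD2_c12 LD3_c11)) = v5700 :=
  Lrfl
theorem f648967 : Led Lsl_df (LP (LK LD1_c3 LD2_c12 LD3_c11)) = v5700 :=
  Lgr Lrot38 (Lpr_dt (f648966 IH) (Lpn v5700))
theorem f766171 : Led Lsl_et v5700 = v18300 :=
  Lgr Lrot121 (Lpe (f648967 IH) (Lpe (K51.f62914 IH) (Lpe (K5.f131506 IH) (Lpr_et (K5.f120179 IH) (Lpe (K4.f26376 IH) (Lpe (f126969 IH) (Lpr_dt (f126970 IH) (Lpr_gf (f632621 IH) (Lpe (f632622 IH) (Lpr_gf (f766168 IH) (Lpn v18300)))))))))))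
theorem f766174 : Led Lsl_ef v5700 = v18300 :=
  Lgr Lrot88 (Lpr_et (f766171 IH) (Lpn v18300))
theorem f715971 : Led Lsl_bf K48.v8206 = v5700 :=
  Lgr Lrot93 (Lpe (K48.f670348 IH) (Lpq (K48.f649372 IH) (Lpe (K51.f649151 IH) (Lpqs (K51.f707644 IH) (Lpr_dt (f648966 IH) (Lpn v5700))))))
theorem f708197 : Led Lsl_bf K48.v8347 = K51.v5383 :=
  Lgr Lrot96 (Lpe (K48.f670884 IH) (Lpr_bt (K50.f670877 IH) (Lpq (K50.f670895 IH) (Lpqs (K51.f708181 IH) (Lpr_et (K51.f647323 IH) (Lpn K51.v5383))))))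
theorem f708199 : Led Lsl_bt K48.v8347 = K51.v5383 :=
  Lgr Lrot127 (Lpr_bf (f708197 IH) (Lpn K51.v5383))
theorem f715974 : Led Lsl_ft K51.v5383 = v5700 :=
  Lgr Lrot75 (Lpe (f708199 IH) (Lpe (K48.f670888 IH) (Lpr_bf (f715971 IH) (Lpn v5700))))
theorem f647234 : Led Lsl_bf (LP (LK LD1_c3 LD2_c6 LD3_c41)) = K46.v5354 :=
  Lgr Lrot96 (Lpr_et (K9.f61833 IH) (Lpr_bt (K48.f140096 IH) (Lpr_et (K46.f647233 IH) (Lpn K46.v5354))))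
theorem f639515 : Led Lsl_at (LP (LK LD1_c3 LD2_c6 LD3_c41)) = (LP (LK LD1_c3 LD2_c12 LD3_c44)) :=
  Lgr Lrot107 (Lpe (K9.f140051 IH) (Lpr_af (K50.f639511 IH) (Lpr_cf (K32.f140008 IH) (Lpn (LP (LK LD1_c3 LD2_c12 LD3_c44))))))
theorem f708198 : Led Lsl_at K51.v5746 = K51.v5383 :=
  Lgr Lrot67 (Lpe (K51.f649172 IH) (Lpe (f639515 IH) (Lpr_bf (f647234 IH) (Lpr_af (K48.f670889 IH) (Lpr_bf (f708197 IH) (Lpn K51.v5383))))))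
theorem f649178 : Led Lsl_ft K51.v5376 = K51.v5746 :=
  Lgr Lrot48 (Lpr_ff (K51.f649176 IH) (Lpn K51.v5746))
theorem f715975 : Led Lsl_af K51.v5376 = v5700 :=
  Lgr Lrot45 (Lpr_ft (f649178 IH) (Lpr_at (f708198 IH) (Lpr_ft (f715974 IH) (Lpn v5700))))
theorem f766175 : Led Lsl_at K51.v5765 = v18300 :=
  Lgr Lrot80 (Lpe (K51.f649270 IH) (Lpr_af (f715975 IH) (Lpr_ef (f766174 IH) (Lpn v18300))))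
theorem f649271 : Led Lsl_ft (LP (LK LD1_c6 LD2_c18 LD3_c51)) = K51.v5765 :=
  Lgr Lrot48 (Lpr_ff (K51.f649269 IH) (Lpn K51.v5765))
def v5736 : LQ := Led Lsl_at (LP (LK LD1_c3 LD2_c12 LD3_c34))
theorem f649122 : Led Lsl_at (LP (LK LD1_c3 LD2_c12 LD3_c34)) = v5736 :=
  Lrfl
theorem f649125 : Led Lsl_ef K51.v1976 = v5736 :=
  Lgr Lrot20 (Lpe (K51.f506710 IH) (Lpr_et (K51.f91461 IH) (Lpr_at (f649122 IH) (Lpn v5736))))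
theorem f649126 : Led Lsl_et K51.v1976 = v5736 :=
  Lgr Lrot87 (Lpr_ef (f649125 IH) (Lpn v5736))
theorem f707781 : K51.v1976 = (LP (LK LD1_c3 LD2_c12 LD3_c5)) :=
  Lefun (Lecon (Lfl_df (K51.f649093 IH)) (f707775 IH).symm) (Lfl_df (K51.f648937 IH))
theorem f707813 : v5736 = (LP (LK LD1_c6 LD2_c28 LD3_c16)) :=
  Lefun (Lecon (f649126 IH) (f707781 IH)) (f632626 IH)
theorem f506718 : Led Lsl_ft (LP (LK LD1_c6 LD2_c29 LD3_c15)) = (LP (LK LD1_c3 LD2_c12 LD3_c34)) :=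
  Lre_f IH (LK LD1_c6 LD2_c29 LD3_c15) (LK LD1_c3 LD2_c12 LD3_c34) Lrfl Lrfl
theorem f766169 : Led Lsl_gt (LP (LK LD1_c6 LD2_c29 LD3_c15)) = v18300 :=
  Lgr Lrot5 (Lpr_ft (f506718 IH) (Lpr_at (f649122 IH) (Lpqs (f707813 IH) (Lpr_gf (f766168 IH) (Lpn v18300)))))
theorem f766187 : v17409 = (LP (LK LD1_c6 LD2_c29 LD3_c15)) :=
  (Llr Lrot5 (Lpe (f759628 IH) (Lpr_ft (f649271 IH) (Lpr_at (f766175 IH) (Lpe (f766169 IH) (Lpn (LP (LK LD1_c6 LD2_c29 LD3_c15)))))))).symm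
theorem f766188 : Led Lsl_gt (LP (LK LD1_c6 LD2_c18 LD3_c51)) = (LP (LK LD1_c6 LD2_c29 LD3_c15)) :=
  Leop (Lpq (f766187 IH) (Lpe (f759628 IH) (Lpn (LP (LK LD1_c6 LD2_c18 LD3_c51)))))
theorem seed_1213 : LEOK LG_g (LK LD1_c6 LD2_c18 LD3_c51) :=
  Leoe_g (LK LD1_c6 LD2_c18 LD3_c51) (f766188 IH)
def v18381 : LQ := Led Lsl_gt (LP (LK LD1_c6 LD2_c29 LD3_c5))
theorem f766638 : Led Lsl_gt (LP (LK LD1_c6 LD2_c29 LD3_c5)) = v18381 :=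
  Lrfl
def v18384 : LQ := Led Lsl_dt (LP (LK LD1_c6 LD2_c29 LD3_c5))
theorem f766647 : Led Lsl_dt (LP (LK LD1_c6 LD2_c29 LD3_c5)) = v18384 :=
  Lrfl
theorem f152433 : Led Lsl_et (LP (LK LD1_c6 LD2_c29 LD3_c5)) = (LP (LK LD1_c3 LD2_c12 LD3_c30)) :=
  Lre_e IH (LK LD1_c6 LD2_c29 LD3_c5) (LK LD1_c3 LD2_c12 LD3_c30) Lrfl Lrfl
theorem f26082 : Led Lsl_dt (LP (LK LD1_c1 LD2_c32 LD3_c42)) = (LP (LK LD1_c0 LD2_c42 LD3_c56)) :=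
  Lre_d IH (LK LD1_c1 LD2_c32 LD3_c42) (LK LD1_c0 LD2_c42 LD3_c56) Lrfl Lrfl
theorem f152430 : Led Lsl_gf (LP (LK LD1_c1 LD2_c32 LD3_c42)) = (LP (LK LD1_c3 LD2_c7 LD3_c43)) :=
  Lgr Lrot143 (Lpr_dt (f26082 IH) (Lpe (K5.f26145 IH) (Lpe (K11.f26107 IH) (Lpe (K3.f26088 IH) (Lpr_df (K3.f91439 IH) (Lpe (K5.f131559 IH) (Lpe (K36.f82515 IH) (Lpr_gt (K8.f152426 IH) (Lpr_dt (K32.f104276 IH) (Lpn (LP (LK LD1_c3 LD2_c7 LD3_c43))))))))))))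
theorem f152400 : Led Lsl_et (LP (LK LD1_c4 LD2_c43 LD3_c3)) = (LP (LK LD1_c2 LD2_c19 LD3_c7)) :=
  Lre_e IH (LK LD1_c4 LD2_c43 LD3_c3) (LK LD1_c2 LD2_c19 LD3_c7) Lrfl Lrfl
theorem f152432 : Led Lsl_dt (LP (LK LD1_c4 LD2_c43 LD3_c3)) = (LP (LK LD1_c9 LD2_c19 LD3_c56)) :=
  Lre_d IH (LK LD1_c4 LD2_c43 LD3_c3) (LK LD1_c9 LD2_c19 LD3_c56) Lrfl Lrfl
theorem f766650 : Led Lsl_gf (LP (LK LD1_c9 LD2_c19 LD3_c56)) = v18384 :=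
  Lgr Lrot145 (Lpe (f152432 IH) (Lpr_et (f152400 IH) (Lpr_gt (K8.f152426 IH) (Lpr_dt (K32.f104276 IH) (Lpe (f152430 IH) (Lpe (K8.f26146 IH) (Lpr_et (K4.f82351 IH) (Lpr_gt (K48.f83085 IH) (Lpe (f152433 IH) (Lpr_dt (f766647 IH) (Lpn v18384)))))))))))
theorem f152401 : Led Lsl_dt (LP (LK LD1_c9 LD2_c19 LD3_c56)) = (LP (LK LD1_c4 LD2_c43 LD3_c3)) :=
  Lre_d IH (LK LD1_c9 LD2_c19 LD3_c56) (LK LD1_c4 LD2_c43 LD3_c3) Lrfl Lrfl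
def v5737 : LQ := Led Lsl_dt (LP (LK LD1_c3 LD2_c12 LD3_c34))
theorem f649129 : Led Lsl_dt (LP (LK LD1_c3 LD2_c12 LD3_c34)) = v5737 :=
  Lrfl
theorem f91448 : Led Lsl_et (LP (LK LD1_c3 LD2_c12 LD3_c34)) = (LP (LK LD1_c1 LD2_c32 LD3_c44)) :=
  Lre_e IH (LK LD1_c3 LD2_c12 LD3_c34) (LK LD1_c1 LD2_c32 LD3_c44) Lrfl Lrfl
theorem f131572 : Led Lsl_et (LP (LK LD1_c2 LD2_c19 LD3_c8)) = (LP (LK LD1_c1 LD2_c6 LD3_c42)) :=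
  Lre_e IH (LK LD1_c2 LD2_c19 LD3_c8) (LK LD1_c1 LD2_c6 LD3_c42) Lrfl Lrfl
theorem f649132 : Led Lsl_gf K35.v4305 = v5737 :=
  Lgr Lrot145 (Lpe (K35.f632537 IH) (Lpr_et (f131572 IH) (Lpr_gt (K5.f131559 IH) (Lpe (K3.f91439 IH) (Lpr_gt (K3.f26088 IH) (Lpe (K11.f26080 IH) (Lpr_et (K11.f82379 IH) (Lpr_gt (K46.f82670 IH) (Lpe (f91448 IH) (Lpr_dt (f649129 IH) (Lpn v5737)))))))))))
def v18382 : LQ := Led Lsl_gf (LP (LK LD1_c6 LD2_c29 LD3_c5))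
theorem f766639 : Led Lsl_gf (LP (LK LD1_c6 LD2_c29 LD3_c5)) = v18382 :=
  Lrfl
theorem f766653 : Led Lsl_cf K51.v5735 = v18382 :=
  Lgr Lrot166 (Lpe (K51.f649120 IH) (Lpr_dt (f649129 IH) (Lpe (f649132 IH) (Lpe (K35.f632540 IH) (Lpr_ct (K50.f435312 IH) (Lpe (f152401 IH) (Lpr_gf (f766650 IH) (Lpe (f766647 IH) (Lpr_gf (f766639 IH) (Lpn v18382))))))))))
theorem f442837 : Led Lsl_ct (LP (LK LD1_c6 LD2_c18 LD3_c51)) = (LP (LK LD1_c12 LD2_c13 LD3_c32)) :=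
  Lre_c IH (LK LD1_c6 LD2_c18 LD3_c51) (LK LD1_c12 LD2_c13 LD3_c32) Lrfl Lrfl
theorem f766654 : Led Lsl_ft (LP (LK LD1_c12 LD2_c13 LD3_c32)) = v18382 :=
  Lgr Lrot4 (Lpe (f442837 IH) (Lpr_ff (K51.f649269 IH) (Lpq (K51.f707603 IH) (Lpr_cf (f766653 IH) (Lpn v18382)))))
theorem f766655 : Led Lsl_ff (LP (LK LD1_c12 LD2_c13 LD3_c32)) = v18382 :=
  Lgr Lrot3 (Lpr_ft (f766654 IH) (Lpn v18382))
theorem f648995 : Led Lsl_et (LP (LK LD1_c3 LD2_c12 LD3_c21)) = (LP (LK LD1_c6 LD2_c28 LD3_c49)) :=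
  Lre_e IH (LK LD1_c3 LD2_c12 LD3_c21) (LK LD1_c6 LD2_c28 LD3_c49) Lrfl Lrfl
def v5710 : LQ := Led Lsl_bt (LP (LK LD1_c3 LD2_c12 LD3_c21))
theorem f649004 : Led Lsl_bt (LP (LK LD1_c3 LD2_c12 LD3_c21)) = v5710 :=
  Lrfl
theorem f649005 : Led Lsl_bf (LP (LK LD1_c3 LD2_c12 LD3_c21)) = v5710 :=
  Lgr Lrot24 (Lpr_bt (f649004 IH) (Lpn v5710))
theorem f707615 : K48.v5755 = v5710 :=
  Lefun (Lecon (K48.f649216 IH) (K51.f707593 IH)) (f649004 IH)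
def v5575 : LQ := Led Lsl_et (LP (LK LD1_c3 LD2_c10 LD3_c38))
theorem f648318 : Led Lsl_et (LP (LK LD1_c3 LD2_c10 LD3_c38)) = v5575 :=
  Lrfl
theorem f648319 : Led Lsl_ef (LP (LK LD1_c3 LD2_c10 LD3_c38)) = v5575 :=
  Lgr Lrot88 (Lpr_et (f648318 IH) (Lpn v5575))
theorem f707871 : Led Lsl_bf v5575 = (LP (LK LD1_c6 LD2_c28 LD3_c49)) :=
  Lgr Lrot96 (Lpe (f648319 IH) (Lpq (K48.f649376 IH) (Lpqs (f707615 IH) (Lpe (f649005 IH) (Lpr_et (f648995 IH) (Lpn (LP (LK LD1_c6 LD2_c28 LD3_c49))))))))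
def v5758 : LQ := Led Lsl_et (LP (LK LD1_c3 LD2_c12 LD3_c54))
theorem f649229 : Led Lsl_et (LP (LK LD1_c3 LD2_c12 LD3_c54)) = v5758 :=
  Lrfl
theorem f649231 : Led Lsl_ef (LP (LK LD1_c3 LD2_c12 LD3_c54)) = v5758 :=
  Lgr Lrot88 (Lpr_et (f649229 IH) (Lpn v5758))
theorem f649384 : Led Lsl_af v5758 = v5575 :=
  Lgr Lrot50 (Lpe (f649231 IH) (Lpr_at (K48.f649208 IH) (Lpqs (K48.f649376 IH) (Lpr_et (f648318 IH) (Lpn v5575)))))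
theorem f649230 : Led Lsl_bf (LP (LK LD1_c3 LD2_c12 LD3_c56)) = v5758 :=
  Lgr Lrot96 (Lpr_et (K11.f59483 IH) (Lpr_bt (K48.f445920 IH) (Lpr_et (f649229 IH) (Lpn v5758))))
theorem f442904 : Led Lsl_ct (LP (LK LD1_c5 LD2_c57 LD3_c18)) = (LP (LK LD1_c3 LD2_c13 LD3_c5)) :=
  Lgr Lrot59 (Lpr_cf (K48.f442896 IH) (Lpn (LP (LK LD1_c3 LD2_c13 LD3_c5))))
theorem f639585 : Led Lsl_at (LP (LK LD1_c3 LD2_c13 LD3_c5)) = (LP (LK LD1_c4 LD2_c43 LD3_c50)) :=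
  Lgr Lrot107 (Lpe (f442904 IH) (Lpr_af (K51.f639579 IH) (Lpe (K32.f505477 IH) (Lpn (LP (LK LD1_c4 LD2_c43 LD3_c50))))))

end

end K57

end

end Cfsg.Agent.Helper28.S1692
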