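import Cfsg.Agent.Lib.Helper28.S1692.Seeds57

set_option autoImplicit false
set_option maxRecDepth 100000
set_option linter.all false

namespace Cfsg.Agent.Helper28.S1692

open Cfsg.Agent.Helper28
open Cfsg.Spor.ON (Gen)

noncomputable section

namespace K58
abbrev LD1_c0 := D1.c0
abbrev LD1_c1 := D1.c1
abbrev LD1_c2 := D1.c2
abbrev LD1_c3 := D1.c3
abbrev LD1_c4 := D1.c4
abbrev LD1_c5 := D1.c5
abbrev LD1_c6 := D1.c6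
abbrev LD1_c7 := D1.c7
abbrev LD1_c8 := D1.c8
abbrev LD1_c9 := D1.c9
abbrev LD1_c10 := D1.c10
abbrev LD1_c11 := D1.c11
abbrev LD1_c12 := D1.c12
abbrev LD1_c13 := D1.c13
abbrev LD1_c14 := D1.c14
abbrev LD1_c15 := D1.c15
abbrev LD1_c16 := D1.c16
abbrev LD1_c17 := D1.c17
abbrev LD1_c18 := D1.c18
abbrev LD1_c19 := D1.c19
abbrev LD1_c20 := D1.c20
abbrev LD1_c21 := D1.c21
abbrev LD1_c22 := D1.c22
abbrev LD1_c23 := D1.c23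
abbrev LD1_c24 := D1.c24
abbrev LD1_c25 := D1.c25
abbrev LD1_c26 := D1.c26
abbrev LD1_c27 := D1.c27
abbrev LD1_c28 := D1.c28
abbrev LD1_c29 := D1.c29
abbrev LD1_c30 := D1.c30
abbrev LD1_c31 := D1.c31
abbrev LD1_c32 := D1.c32
abbrev LD2_c0 := D2.c0
abbrev LD2_c1 := D2.c1
abbrev LD2_c2 := D2.c2
abbrev LD2_c3 := D2.c3
abbrev LD2_c4 := D2.c4
abbrev LD2_c5 := D2.c5
abbrev LD2_c6 := D2.c6
abbrev LD2_c7 := D2.c7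
abbrev LD2_c8 := D2.c8
abbrev LD2_c9 := D2.c9
abbrev LD2_c10 := D2.c10
abbrev LD2_c11 := D2.c11
abbrev LD2_c12 := D2.c12
abbrev LD2_c13 := D2.c13
abbrev LD2_c14 := D2.c14
abbrev LD2_c15 := D2.c15
abbrev LD2_c16 := D2.c16
abbrev LD2_c17 := D2.c17
abbrev LD2_c18 := D2.c18
abbrev LD2_c19 := D2.c19
abbrev LD2_c20 := D2.c20
abbrev LD2_c21 := D2.c21
abbrev LD2_c22 := D2.c22
abbrev LD2_c23 := D2.c23
abbrev LD2_c24 := D2.c24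
abbrev LD2_c25 := D2.c25
abbrev LD2_c26 := D2.c26
abbrev LD2_c27 := D2.c27
abbrev LD2_c28 := D2.c28
abbrev LD2_c29 := D2.c29
abbrev LD2_c30 := D2.c30
abbrev LD2_c31 := D2.c31
abbrev LD2_c32 := D2.c32
abbrev LD2_c33 := D2.c33
abbrev LD2_c34 := D2.c34
abbrev LD2_c35 := D2.c35
abbrev LD2_c36 := D2.c36
abbrev LD2_c37 := D2.c37
abbrev LD2_c38 := D2.c38
abbrev LD2_c39 := D2.c39
abbrev LD2_c40 := D2.c40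
abbrev LD2_c41 := D2.c41
abbrev LD2_c42 := D2.c42
abbrev LD2_c43 := D2.c43
abbrev LD2_c44 := D2.c44
abbrev LD2_c45 := D2.c45
abbrev LD2_c46 := D2.c46
abbrev LD2_c47 := D2.c47
abbrev LD2_c48 := D2.c48
abbrev LD2_c49 := D2.c49
abbrev LD2_c50 := D2.c50
abbrev LD2_c51 := D2.c51
abbrev LD2_c52 := D2.c52
abbrev LD2_c53 := D2.c53
abbrev LD2_c54 := D2.c54
abbrev LD2_c55 := D2.c55
abbrev LD2_c56 := D2.c56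
abbrev LD2_c57 := D2.c57
abbrev LD2_c58 := D2.c58
abbrev LD2_c59 := D2.c59
abbrev LD3_c0 := D3.c0
abbrev LD3_c1 := D3.c1
abbrev LD3_c2 := D3.c2
abbrev LD3_c3 := D3.c3
abbrev LD3_c4 := D3.c4
abbrev LD3_c5 := D3.c5
abbrev LD3_c6 := D3.c6
abbrev LD3_c7 := D3.c7
abbrev LD3_c8 := D3.c8
abbrev LD3_c9 := D3.c9
abbrev LD3_c10 := D3.c10
abbrev LD3_c11 := D3.c11
abbrev LD3_c12 := D3.c12
abbrev LD3_c13 := D3.c13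
abbrev LD3_c14 := D3.c14
abbrev LD3_c15 := D3.c15
abbrev LD3_c16 := D3.c16
abbrev LD3_c17 := D3.c17
abbrev LD3_c18 := D3.c18
abbrev LD3_c19 := D3.c19
abbrev LD3_c20 := D3.c20
abbrev LD3_c21 := D3.c21
abbrev LD3_c22 := D3.c22
abbrev LD3_c23 := D3.c23
abbrev LD3_c24 := D3.c24
abbrev LD3_c25 := D3.c25
abbrev LD3_c26 := D3.c26
abbrev LD3_c27 := D3.c27
abbrev LD3_c28 := D3.c28
abbrev LD3_c29 := D3.c29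
abbrev LD3_c30 := D3.c30
abbrev LD3_c31 := D3.c31
abbrev LD3_c32 := D3.c32
abbrev LD3_c33 := D3.c33
abbrev LD3_c34 := D3.c34
abbrev LD3_c35 := D3.c35
abbrev LD3_c36 := D3.c36
abbrev LD3_c37 := D3.c37
abbrev LD3_c38 := D3.c38
abbrev LD3_c39 := D3.c39
abbrev LD3_c40 := D3.c40
abbrev LD3_c41 := D3.c41
abbrev LD3_c42 := D3.c42
abbrev LD3_c43 := D3.c43
abbrev LD3_c44 := D3.c44
abbrev LD3_c45 := D3.c45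
abbrev LD3_c46 := D3.c46
abbrev LD3_c47 := D3.c47
abbrev LD3_c48 := D3.c48
abbrev LD3_c49 := D3.c49
abbrev LD3_c50 := D3.c50
abbrev LD3_c51 := D3.c51
abbrev LD3_c52 := D3.c52
abbrev LD3_c53 := D3.c53
abbrev LD3_c54 := D3.c54
abbrev LD3_c55 := D3.c55
abbrev LD3_c56 := D3.c56
abbrev LD3_c57 := D3.c57
abbrev LD3_c58 := D3.c58
abbrev LD3_c59 := D3.c59
abbrev LD3_c60 := D3.c60
abbrev LD3_c61 := D3.c61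
abbrev LG_g := Gen.g
abbrev Lsl_gt : Gen × Bool := sl_gt
alias Lfl_gt := fl_gt
alias Lpr_gt := pr_gt
abbrev Lsl_gf : Gen × Bool := sl_gf
alias Lfl_gf := fl_gf
alias Lpr_gf := pr_gf
alias Lre_g := re_g
alias Leoe_g := eoe_g
abbrev LG_a := Gen.a
abbrev Lsl_at : Gen × Bool := sl_at
alias Lfl_at := fl_at
alias Lpr_at := pr_at
abbrev Lsl_af : Gen × Bool := sl_af
alias Lfl_af := fl_af
alias Lpr_af := pr_af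
alias Lre_a := re_a
alias Leoe_a := eoe_a
abbrev LG_b := Gen.b
abbrev Lsl_bt : Gen × Bool := sl_bt
alias Lfl_bt := fl_bt
alias Lpr_bt := pr_bt
abbrev Lsl_bf : Gen × Bool := sl_bf
alias Lfl_bf := fl_bf
alias Lpr_bf := pr_bf
alias Lre_b := re_b
alias Leoe_b := eoe_b
abbrev LG_c := Gen.c
abbrev Lsl_ct : Gen × Bool := sl_ct
alias Lfl_ct := fl_ct
alias Lpr_ct := pr_ct
abbrev Lsl_cf : Gen × Bool := sl_cf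
alias Lfl_cf := fl_cf
alias Lpr_cf := pr_cf
alias Lre_c := re_c
alias Leoe_c := eoe_c
abbrev LG_d := Gen.d
abbrev Lsl_dt : Gen × Bool := sl_dt
alias Lfl_dt := fl_dt
alias Lpr_dt := pr_dt
abbrev Lsl_df : Gen × Bool := sl_df
alias Lfl_df := fl_df
alias Lpr_df := pr_df
alias Lre_d := re_d
alias Leoe_d := eoe_d
abbrev LG_e := Gen.e
abbrev Lsl_et : Gen × Bool := sl_et
alias Lfl_et := fl_et
alias Lpr_et := pr_et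
abbrev Lsl_ef : Gen × Bool := sl_ef
alias Lfl_ef := fl_ef
alias Lpr_ef := pr_ef
alias Lre_e := re_e
alias Leoe_e := eoe_e
abbrev LG_f := Gen.f
abbrev Lsl_ft : Gen × Bool := sl_ft
alias Lfl_ft := fl_ft
alias Lpr_ft := pr_ft
abbrev Lsl_ff : Gen × Bool := sl_ff
alias Lfl_ff := fl_ff
alias Lpr_ff := pr_ff
alias Lre_f := re_f
alias Leoe_f := eoe_f
abbrev LK := Pt.mk
abbrev LQ : Type := Qt rels S
abbrev LP (p : Pt) : LQ := P p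
abbrev Led (l : Gen × Bool) (c : LQ) : LQ := ed l c
abbrev LEOK (x : Gen) (p : Pt) : Prop := EntryOK rels S fwd inv o plet idx x p
alias Lpe := pe
alias Lpn := pn
alias Lgr := gr
alias Lpq := pq
alias Lpqs := pqs
alias Llr := lr
alias Leop := eop
alias Lefun := efun
alias Lecon := econ
theorem Lrfl {α : Sort _} {a : α} : a = a := rfl
alias Lrot0 := rot0
alias Lrot1 := rot1
alias Lrot2 := rot2
alias Lrot3 := rot3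
alias Lrot4 := rot4
alias Lrot5 := rot5
alias Lrot6 := rot6
alias Lrot7 := rot7
alias Lrot8 := rot8
alias Lrot9 := rot9
alias Lrot10 := rot10
alias Lrot11 := rot11
alias Lrot12 := rot12
alias Lrot14 := rot14
alias Lrot15 := rot15
alias Lrot17 := rot17
alias Lrot18 := rot18
alias Lrot19 := rot19
alias Lrot20 := rot20
alias Lrot21 := rot21
alias Lrot22 := rot22
alias Lrot23 := rot23
alias Lrot24 := rot24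
alias Lrot25 := rot25
alias Lrot26 := rot26
alias Lrot27 := rot27
alias Lrot28 := rot28
alias Lrot29 := rot29
alias Lrot30 := rot30
alias Lrot31 := rot31
alias Lrot33 := rot33
alias Lrot34 := rot34
alias Lrot35 := rot35
alias Lrot36 := rot36
alias Lrot38 := rot38
alias Lrot39 := rot39
alias Lrot40 := rot40
alias Lrot41 := rot41
alias Lrot42 := rot42
alias Lrot44 := rot44
alias Lrot45 := rot45
alias Lrot46 := rot46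
alias Lrot47 := rot47
alias Lrot48 := rot48
alias Lrot49 := rot49
alias Lrot50 := rot50
alias Lrot51 := rot51
alias Lrot52 := rot52
alias Lrot54 := rot54
alias Lrot56 := rot56
alias Lrot58 := rot58
alias Lrot59 := rot59
alias Lrot60 := rot60
alias Lrot61 := rot61
alias Lrot62 := rot62
alias Lrot63 := rot63
alias Lrot64 := rot64
alias Lrot65 := rot65
alias Lrot66 := rot66
alias Lrot67 := rot67
alias Lrot68 := rot68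
alias Lrot69 := rot69
alias Lrot70 := rot70
alias Lrot72 := rot72
alias Lrot73 := rot73
alias Lrot74 := rot74
alias Lrot75 := rot75
alias Lrot76 := rot76
alias Lrot77 := rot77
alias Lrot78 := rot78
alias Lrot79 := rot79
alias Lrot80 := rot80
alias Lrot81 := rot81
alias Lrot82 := rot82
alias Lrot83 := rot83
alias Lrot84 := rot84
alias Lrot86 := rot86
alias Lrot87 := rot87
alias Lrot88 := rot88
alias Lrot90 := rot90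
alias Lrot91 := rot91
alias Lrot92 := rot92
alias Lrot93 := rot93
alias Lrot94 := rot94
alias Lrot95 := rot95
alias Lrot96 := rot96
alias Lrot97 := rot97
alias Lrot99 := rot99
alias Lrot100 := rot100
alias Lrot101 := rot101
alias Lrot103 := rot103
alias Lrot104 := rot104
alias Lrot105 := rot105
alias Lrot107 := rot107
alias Lrot108 := rot108
alias Lrot109 := rot109
alias Lrot110 := rot110
alias Lrot111 := rot111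
alias Lrot112 := rot112
alias Lrot117 := rot117
alias Lrot119 := rot119
alias Lrot121 := rot121
alias Lrot122 := rot122
alias Lrot123 := rot123
alias Lrot124 := rot124
alias Lrot125 := rot125
alias Lrot126 := rot126
alias Lrot127 := rot127
alias Lrot128 := rot128
alias Lrot129 := rot129
alias Lrot130 := rot130
alias Lrot131 := rot131
alias Lrot132 := rot132
alias Lrot133 := rot133
alias Lrot134 := rot134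
alias Lrot135 := rot135
alias Lrot136 := rot136
alias Lrot137 := rot137
alias Lrot138 := rot138
alias Lrot139 := rot139
alias Lrot140 := rot140
alias Lrot141 := rot141
alias Lrot143 := rot143
alias Lrot144 := rot144
alias Lrot145 := rot145
alias Lrot147 := rot147
alias Lrot149 := rot149
alias Lrot150 := rot150
alias Lrot151 := rot151
alias Lrot152 := rot152
alias Lrot153 := rot153
alias Lrot155 := rot155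
alias Lrot156 := rot156
alias Lrot158 := rot158
alias Lrot160 := rot160
alias Lrot163 := rot163
alias Lrot164 := rot164
alias Lrot165 := rot165
alias Lrot166 := rot166
alias Lrot167 := rot167
alias Lrot168 := rot168
alias Lrot169 := rot169
alias Lrot170 := rot170
alias Lrot171 := rot171
alias Lrot174 := rot174
alias Lrot175 := rot175
alias Lrot177 := rot177
alias Lrot179 := rot179
alias Lrot180 := rot180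
alias Lrot181 := rot181
alias Lrot188 := rot188
alias Lrot189 := rot189

section
variable (IH : IHT)
include IH

theorem f639367 : Led Lsl_ff (LP (LK LD1_c3 LD2_c12 LD3_c56)) = (LP (LK LD1_c4 LD2_c43 LD3_c50)) :=
  Lgr Lrot19 (Lpe (K11.f59484 IH) (Lpr_ft (K48.f639363 IH) (Lpr_dt (K32.f503941 IH) (Lpn (LP (LK LD1_c4 LD2_c43 LD3_c50))))))
theorem f639607 : Led Lsl_at (LP (LK LD1_c3 LD2_c12 LD3_c56)) = (LP (LK LD1_c3 LD2_c6 LD3_c44)) :=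
  Lgr Lrot66 (Lpr_ff (f639367 IH) (Lpe (K57.f639585 IH) (Lpr_ff (K51.f639598 IH) (Lpn (LP (LK LD1_c3 LD2_c6 LD3_c44))))))
theorem f61697 : Led Lsl_bt (LP (LK LD1_c3 LD2_c6 LD3_c44)) = (LP (LK LD1_c6 LD2_c18 LD3_c51)) :=
  Lre_b IH (LK LD1_c3 LD2_c6 LD3_c44) (LK LD1_c6 LD2_c18 LD3_c51) Lrfl Lrfl
theorem f707872 : Led Lsl_at (LP (LK LD1_c6 LD2_c18 LD3_c51)) = (LP (LK LD1_c6 LD2_c28 LD3_c49)) :=
  Lgr Lrot67 (Lpe (f61697 IH) (Lpe (f639607 IH) (Lpr_bf (K57.f649230 IH) (Lpr_af (K57.f649384 IH) (Lpr_bf (K57.f707871 IH) (Lpn (LP (LK LD1_c6 LD2_c28 LD3_c49))))))))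
theorem f444255 : Led Lsl_ct (LP (LK LD1_c12 LD2_c13 LD3_c32)) = (LP (LK LD1_c6 LD2_c18 LD3_c51)) :=
  Lre_c IH (LK LD1_c12 LD2_c13 LD3_c32) (LK LD1_c6 LD2_c18 LD3_c51) Lrfl Lrfl
theorem f702474 : Led Lsl_ct (LP (LK LD1_c6 LD2_c28 LD3_c49)) = (LP (LK LD1_c12 LD2_c28 LD3_c15)) :=
  Lre_c IH (LK LD1_c6 LD2_c28 LD3_c49) (LK LD1_c12 LD2_c28 LD3_c15) Lrfl Lrfl
theorem f707880 : Led Lsl_af (LP (LK LD1_c12 LD2_c13 LD3_c32)) = (LP (LK LD1_c12 LD2_c28 LD3_c15)) :=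
  Lgr Lrot68 (Lpr_ct (f444255 IH) (Lpr_at (f707872 IH) (Lpr_ct (f702474 IH) (Lpn (LP (LK LD1_c12 LD2_c28 LD3_c15))))))
theorem f707882 : Led Lsl_at (LP (LK LD1_c12 LD2_c13 LD3_c32)) = (LP (LK LD1_c12 LD2_c28 LD3_c15)) :=
  Lgr Lrot100 (Lpr_af (f707880 IH) (Lpn (LP (LK LD1_c12 LD2_c28 LD3_c15))))
theorem f766656 : (LP (LK LD1_c12 LD2_c28 LD3_c15)) = K57.v18381 :=
  (Llr Lrot26 (Lpe (f707882 IH) (Lpr_ff (K57.f766655 IH) (Lpe (K57.f766639 IH) (Lpr_gt (K57.f766638 IH) (Lpn K57.v18381)))))).symm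
theorem f766657 : Led Lsl_gt (LP (LK LD1_c6 LD2_c29 LD3_c5)) = (LP (LK LD1_c12 LD2_c28 LD3_c15)) :=
  Leop (Lpqs (f766656 IH) (Lpe (K57.f766638 IH) (Lpn (LP (LK LD1_c6 LD2_c29 LD3_c5)))))
theorem seed_1214 : LEOK LG_g (LK LD1_c6 LD2_c29 LD3_c5) :=
  Leoe_g (LK LD1_c6 LD2_c29 LD3_c5) (f766657 IH)
def v18386 : LQ := Led Lsl_gf (LP (LK LD1_c6 LD2_c29 LD3_c6))
theorem f766660 : Led Lsl_gf (LP (LK LD1_c6 LD2_c29 LD3_c6)) = v18386 :=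
  Lrfl
theorem f703155 : Led Lsl_cf (LP (LK LD1_c4 LD2_c44 LD3_c17)) = K52.v13465 :=
  Lgr Lrot11 (Lpr_ct (K52.f703154 IH) (Lpn K52.v13465))
theorem f766662 : Led Lsl_dt v18386 = v18386 :=
  Lgr Lrot6 (Lpe (f766660 IH) (Lpqs (K52.f707997 IH) (Lpe (f703155 IH) (Lpr_gt (K51.f703037 IH) (Lpe (K51.f703028 IH) (Lpe (K51.f632936 IH) (Lpr_cf (K51.f703028 IH) (Lpe (K51.f703037 IH) (Lpr_cf (f703155 IH) (Lpq (K52.f707997 IH) (Lpr_gf (f766660 IH) (Lpn v18386))))))))))))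
theorem f766661 : Led Lsl_gt K51.v5725 = v18386 :=
  Lgr Lrot5 (Lpe (K51.f649065 IH) (Lpr_at (K52.f506713 IH) (Lpr_gf (f766660 IH) (Lpn v18386))))
theorem f25340 : Led Lsl_gt (LP (LK LD1_c4 LD2_c44 LD3_c19)) = (LP (LK LD1_c9 LD2_c21 LD3_c28)) :=
  Lre_g IH (LK LD1_c4 LD2_c44 LD3_c19) (LK LD1_c9 LD2_c21 LD3_c28) Lrfl Lrfl
theorem f708000 : Led Lsl_dt (LP (LK LD1_c6 LD2_c29 LD3_c6)) = (LP (LK LD1_c12 LD2_c28 LD3_c33)) :=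
  Lre_d IH (LK LD1_c6 LD2_c29 LD3_c6) (LK LD1_c12 LD2_c28 LD3_c33) Lrfl Lrfl
theorem f446240 : Led Lsl_gt (LP (LK LD1_c3 LD2_c21 LD3_c45)) = (LP (LK LD1_c6 LD2_c47 LD3_c10)) :=
  Lre_g IH (LK LD1_c3 LD2_c21 LD3_c45) (LK LD1_c6 LD2_c47 LD3_c10) Lrfl Lrfl
theorem f715549 : Led Lsl_ct (LP (LK LD1_c6 LD2_c47 LD3_c10)) = (LP (LK LD1_c12 LD2_c28 LD3_c33)) :=
  Lgr Lrot151 (Lpe (f446240 IH) (Lpe (K32.f442857 IH) (Lpe (K51.f414570 IH) (Lpq (K51.f708307 IH) (Lpe (K51.f632996 IH) (Lpr_gt (K51.f25260 IH) (Lpr_ct (K51.f25214 IH) (Lpr_gt (K51.f25276 IH) (Lpr_ct (K52.f703154 IH) (Lpq (K52.f707997 IH) (Lpr_dt (f708000 IH) (Lpn (LP (LK LD1_c12 LD2_c28 LD3_c33))))))))))))))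
theorem f766663 : Led Lsl_dt (LP (LK LD1_c9 LD2_c21 LD3_c28)) = (LP (LK LD1_c6 LD2_c47 LD3_c10)) :=
  Lgr Lrot105 (Lpe (f25340 IH) (Lpe (K52.f25267 IH) (Lpe (K51.f25285 IH) (Lpr_cf (K51.f670699 IH) (Lpq (K51.f707822 IH) (Lpr_gt (f766661 IH) (Lpr_dt (f766662 IH) (Lpe (f766660 IH) (Lpr_dt (f708000 IH) (Lpe (f715549 IH) (Lpn (LP (LK LD1_c6 LD2_c47 LD3_c10)))))))))))))
theorem f766664 : Led Lsl_dt (LP (LK LD1_c9 LD2_c21 LD3_c28)) = (LP (LK LD1_c6 LD2_c47 LD3_c10)) :=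
  Leop (Lpe (f766663 IH) (Lpn (LP (LK LD1_c9 LD2_c21 LD3_c28))))
theorem seed_1215 : LEOK LG_d (LK LD1_c9 LD2_c21 LD3_c28) :=
  Leoe_d (LK LD1_c9 LD2_c21 LD3_c28) (f766664 IH)
def v18411 : LQ := Led Lsl_ct (LP (LK LD1_c6 LD2_c29 LD3_c19))
theorem f766840 : Led Lsl_ct (LP (LK LD1_c6 LD2_c29 LD3_c19)) = v18411 :=
  Lrfl
theorem f61624 : Led Lsl_ct (LP (LK LD1_c6 LD2_c29 LD3_c29)) = (LP (LK LD1_c3 LD2_c12 LD3_c39)) :=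
  Lre_c IH (LK LD1_c6 LD2_c29 LD3_c29) (LK LD1_c3 LD2_c12 LD3_c39) Lrfl Lrfl
theorem f766844 : Led Lsl_ff (LP (LK LD1_c6 LD2_c29 LD3_c29)) = v18411 :=
  Lgr Lrot23 (Lpr_ct (f61624 IH) (Lpr_ft (K57.f649141 IH) (Lpqs (K57.f759178 IH) (Lpr_ct (f766840 IH) (Lpn v18411)))))
theorem f61625 : Led Lsl_bt (LP (LK LD1_c6 LD2_c29 LD3_c29)) = (LP (LK LD1_c12 LD2_c29 LD3_c5)) :=
  Lre_b IH (LK LD1_c6 LD2_c29 LD3_c29) (LK LD1_c12 LD2_c29 LD3_c5) Lrfl Lrfl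
theorem f701325 : Led Lsl_bt (LP (LK LD1_c9 LD2_c16 LD3_c49)) = (LP (LK LD1_c4 LD2_c40 LD3_c42)) :=
  Lre_b IH (LK LD1_c9 LD2_c16 LD3_c49) (LK LD1_c4 LD2_c40 LD3_c42) Lrfl Lrfl
theorem f139952 : Led Lsl_bt (LP (LK LD1_c9 LD2_c16 LD3_c3)) = (LP (LK LD1_c17 LD2_c10 LD3_c38)) :=
  Lre_b IH (LK LD1_c9 LD2_c16 LD3_c3) (LK LD1_c17 LD2_c10 LD3_c38) Lrfl Lrfl
theorem f759196 : Led Lsl_ff (LP (LK LD1_c9 LD2_c16 LD3_c49)) = (LP (LK LD1_c17 LD2_c10 LD3_c38)) :=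
  Lgr Lrot25 (Lpr_bt (f701325 IH) (Lpr_ft (K57.f701323 IH) (Lpq (K57.f759191 IH) (Lpr_bt (f139952 IH) (Lpn (LP (LK LD1_c17 LD2_c10 LD3_c38)))))))
theorem f759239 : Led Lsl_ft (LP (LK LD1_c9 LD2_c16 LD3_c49)) = (LP (LK LD1_c17 LD2_c10 LD3_c38)) :=
  Lgr Lrot48 (Lpr_ff (f759196 IH) (Lpn (LP (LK LD1_c17 LD2_c10 LD3_c38))))
theorem f701380 : Led Lsl_ct (LP (LK LD1_c17 LD2_c11 LD3_c51)) = (LP (LK LD1_c9 LD2_c16 LD3_c49)) :=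
  Lre_c IH (LK LD1_c17 LD2_c11 LD3_c51) (LK LD1_c9 LD2_c16 LD3_c49) Lrfl Lrfl
theorem f139953 : Led Lsl_bt (LP (LK LD1_c3 LD2_c12 LD3_c39)) = (LP (LK LD1_c6 LD2_c29 LD3_c28)) :=
  Lre_b IH (LK LD1_c3 LD2_c12 LD3_c39) (LK LD1_c6 LD2_c29 LD3_c28) Lrfl Lrfl
theorem f139954 : Led Lsl_bt (LP (LK LD1_c12 LD2_c29 LD3_c5)) = (LP (LK LD1_c6 LD2_c29 LD3_c29)) :=
  Lre_b IH (LK LD1_c12 LD2_c29 LD3_c5) (LK LD1_c6 LD2_c29 LD3_c29) Lrfl Lrfl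
theorem f139955 : Led Lsl_ct (LP (LK LD1_c17 LD2_c10 LD3_c38)) = (LP (LK LD1_c12 LD2_c29 LD3_c5)) :=
  Lgr Lrot83 (Lpe (f139952 IH) (Lpr_cf (K9.f139941 IH) (Lpe (f139953 IH) (Lpe (f61624 IH) (Lpe (f139954 IH) (Lpn (LP (LK LD1_c12 LD2_c29 LD3_c5))))))))
theorem f759243 : Led Lsl_ff (LP (LK LD1_c17 LD2_c11 LD3_c51)) = (LP (LK LD1_c12 LD2_c29 LD3_c5)) :=
  Lgr Lrot23 (Lpr_ct (f701380 IH) (Lpr_ft (f759239 IH) (Lpr_ct (f139955 IH) (Lpn (LP (LK LD1_c12 LD2_c29 LD3_c5))))))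
theorem f766847 : Led Lsl_bt (LP (LK LD1_c17 LD2_c11 LD3_c51)) = v18411 :=
  Lgr Lrot35 (Lpr_ff (f759243 IH) (Lpe (f61625 IH) (Lpr_ff (f766844 IH) (Lpn v18411))))
theorem f701384 : Led Lsl_gt (LP (LK LD1_c17 LD2_c11 LD3_c49)) = (LP (LK LD1_c9 LD2_c16 LD3_c49)) :=
  Lre_g IH (LK LD1_c17 LD2_c11 LD3_c49) (LK LD1_c9 LD2_c16 LD3_c49) Lrfl Lrfl
theorem f759249 : Led Lsl_ct (LP (LK LD1_c27 LD2_c2 LD3_c58)) = (LP (LK LD1_c17 LD2_c11 LD3_c49)) :=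
  Lre_c IH (LK LD1_c27 LD2_c2 LD3_c58) (LK LD1_c17 LD2_c11 LD3_c49) Lrfl Lrfl
theorem f766845 : Led Lsl_gf (LP (LK LD1_c6 LD2_c33 LD3_c21)) = v18411 :=
  Lgr Lrot129 (Lpe (K51.f507858 IH) (Lpr_bt (K51.f126589 IH) (Lpq (K51.f708717 IH) (Lpe (K51.f632186 IH) (Lpe (K49.f413665 IH) (Lpr_ct (K16.f180335 IH) (Lpr_gt (K16.f413640 IH) (Lpe (K2.f61432 IH) (Lpr_bt (K2.f61482 IH) (Lpr_gt (K57.f61483 IH) (Lpr_ct (f766840 IH) (Lpn v18411))))))))))))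
theorem f507857 : Led Lsl_ct (LP (LK LD1_c6 LD2_c33 LD3_c21)) = (LP (LK LD1_c3 LD2_c14 LD3_c58)) :=
  Lre_c IH (LK LD1_c6 LD2_c33 LD3_c21) (LK LD1_c3 LD2_c14 LD3_c58) Lrfl Lrfl
theorem f663166 : Led Lsl_bt (LP (LK LD1_c6 LD2_c29 LD3_c24)) = (LP (LK LD1_c12 LD2_c28 LD3_c60)) :=
  Lre_b IH (LK LD1_c6 LD2_c29 LD3_c24) (LK LD1_c12 LD2_c28 LD3_c60) Lrfl Lrfl
theorem f663170 : Led Lsl_gt (LP (LK LD1_c12 LD2_c28 LD3_c60)) = (LP (LK LD1_c21 LD2_c35 LD3_c45)) :=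
  Lre_g IH (LK LD1_c12 LD2_c28 LD3_c60) (LK LD1_c21 LD2_c35 LD3_c45) Lrfl Lrfl
theorem f766849 : Led Lsl_bt (LP (LK LD1_c27 LD2_c2 LD3_c58)) = (LP (LK LD1_c21 LD2_c35 LD3_c45)) :=
  Lgr Lrot92 (Lpr_ct (f759249 IH) (Lpr_gt (f701384 IH) (Lpe (f701380 IH) (Lpr_bt (f766847 IH) (Lpe (f766845 IH) (Lpr_ct (f507857 IH) (Lpr_gt (K51.f650061 IH) (Lpqs (K51.f708701 IH) (Lpe (K48.f663167 IH) (Lpr_bt (f663166 IH) (Lpr_gt (f663170 IH) (Lpn (LP (LK LD1_c21 LD2_c35 LD3_c45))))))))))))))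
theorem f766850 : Led Lsl_bt (LP (LK LD1_c27 LD2_c2 LD3_c58)) = (LP (LK LD1_c21 LD2_c35 LD3_c45)) :=
  Leop (Lpe (f766849 IH) (Lpn (LP (LK LD1_c27 LD2_c2 LD3_c58))))
theorem seed_1216 : LEOK LG_b (LK LD1_c27 LD2_c2 LD3_c58) :=
  Leoe_b (LK LD1_c27 LD2_c2 LD3_c58) (f766850 IH)
def v18434 : LQ := Led Lsl_et (LP (LK LD1_c6 LD2_c29 LD3_c37))
theorem f766958 : Led Lsl_et (LP (LK LD1_c6 LD2_c29 LD3_c37)) = v18434 :=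
  Lrfl
theorem f76831 : Led Lsl_dt (LP (LK LD1_c6 LD2_c19 LD3_c2)) = (LP (LK LD1_c3 LD2_c6 LD3_c56)) :=
  Lre_d IH (LK LD1_c6 LD2_c19 LD3_c2) (LK LD1_c3 LD2_c6 LD3_c56) Lrfl Lrfl
theorem f649194 : Led Lsl_dt K51.v5363 = K51.v5750 :=
  Lgr Lrot42 (Lpr_df (K51.f649193 IH) (Lpn K51.v5750))
theorem f709663 : Led Lsl_ff (LP (LK LD1_c6 LD2_c19 LD3_c2)) = K51.v5750 :=
  Lgr Lrot19 (Lpr_dt (f76831 IH) (Lpr_ft (K51.f647282 IH) (Lpqs (K51.f709640 IH) (Lpr_dt (f649194 IH) (Lpn K51.v5750)))))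
theorem f709664 : Led Lsl_ft (LP (LK LD1_c6 LD2_c19 LD3_c2)) = K51.v5750 :=
  Lgr Lrot48 (Lpr_ff (f709663 IH) (Lpn K51.v5750))
theorem f664643 : Led Lsl_et (LP (LK LD1_c12 LD2_c13 LD3_c53)) = (LP (LK LD1_c6 LD2_c19 LD3_c2)) :=
  Lre_e IH (LK LD1_c12 LD2_c13 LD3_c53) (LK LD1_c6 LD2_c19 LD3_c2) Lrfl Lrfl
theorem f766962 : Led Lsl_ff (LP (LK LD1_c12 LD2_c13 LD3_c53)) = v18434 :=
  Lgr Lrot72 (Lpr_et (f664643 IH) (Lpr_ft (f709664 IH) (Lpe (K51.f649192 IH) (Lpr_ft (K56.f649195 IH) (Lpq (K56.f709726 IH) (Lpqs (K56.f670926 IH) (Lpr_et (f766958 IH) (Lpn v18434))))))))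
theorem f766963 : Led Lsl_ft (LP (LK LD1_c12 LD2_c13 LD3_c53)) = v18434 :=
  Lgr Lrot48 (Lpr_ff (f766962 IH) (Lpn v18434))
theorem f77088 : Led Lsl_gt (LP (LK LD1_c6 LD2_c50 LD3_c11)) = (LP (LK LD1_c3 LD2_c23 LD3_c26)) :=
  Lre_g IH (LK LD1_c6 LD2_c50 LD3_c11) (LK LD1_c3 LD2_c23 LD3_c26) Lrfl Lrfl
theorem f77089 : Led Lsl_dt (LP (LK LD1_c6 LD2_c49 LD3_c24)) = (LP (LK LD1_c6 LD2_c50 LD3_c11)) :=
  Lre_d IH (LK LD1_c6 LD2_c49 LD3_c24) (LK LD1_c6 LD2_c50 LD3_c11) Lrfl Lrfl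
theorem f76832 : Led Lsl_et (LP (LK LD1_c6 LD2_c19 LD3_c2)) = (LP (LK LD1_c12 LD2_c13 LD3_c53)) :=
  Lre_e IH (LK LD1_c6 LD2_c19 LD3_c2) (LK LD1_c12 LD2_c13 LD3_c53) Lrfl Lrfl
theorem f77090 : Led Lsl_gf (LP (LK LD1_c6 LD2_c49 LD3_c24)) = (LP (LK LD1_c12 LD2_c13 LD3_c53)) :=
  Lgr Lrot138 (Lpr_dt (f77089 IH) (Lpr_gt (f77088 IH) (Lpe (K3.f77087 IH) (Lpr_et (K3.f77086 IH) (Lpr_gt (K2.f76892 IH) (Lpe (K2.f76872 IH) (Lpr_dt (K2.f76791 IH) (Lpr_gt (K2.f76879 IH) (Lpe (f76831 IH) (Lpr_et (f76832 IH) (Lpn (LP (LK LD1_c12 LD2_c13 LD3_c53)))))))))))))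
theorem f649197 : Led Lsl_ff (LP (LK LD1_c3 LD2_c12 LD3_c50)) = K56.v5751 :=
  Lgr Lrot3 (Lpr_ft (K56.f649195 IH) (Lpn K56.v5751))
theorem f649187 : Led Lsl_ff (LP (LK LD1_c3 LD2_c12 LD3_c51)) = K51.v5748 :=
  Lgr Lrot3 (Lpr_ft (K52.f649186 IH) (Lpn K51.v5748))
theorem f649198 : Led Lsl_at (LP (LK LD1_c3 LD2_c12 LD3_c51)) = K56.v5751 :=
  Lgr Lrot66 (Lpr_ff (f649187 IH) (Lpe (K51.f649184 IH) (Lpr_ff (f649197 IH) (Lpn K56.v5751))))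
theorem f66748 : Led Lsl_et (LP (LK LD1_c6 LD2_c29 LD3_c49)) = (LP (LK LD1_c3 LD2_c12 LD3_c51)) :=
  Lre_e IH (LK LD1_c6 LD2_c29 LD3_c49) (LK LD1_c3 LD2_c12 LD3_c51) Lrfl Lrfl
theorem f766959 : Led Lsl_af (LP (LK LD1_c6 LD2_c29 LD3_c49)) = v18434 :=
  Lgr Lrot50 (Lpr_et (f66748 IH) (Lpr_at (f649198 IH) (Lpq (K56.f709726 IH) (Lpqs (K56.f670926 IH) (Lpr_et (f766958 IH) (Lpn v18434))))))
theorem f766964 : Led Lsl_gt (LP (LK LD1_c6 LD2_c49 LD3_c24)) = (LP (LK LD1_c6 LD2_c29 LD3_c49)) :=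
  Lgr Lrot46 (Lpr_gf (f77090 IH) (Lpr_ft (f766963 IH) (Lpe (f766959 IH) (Lpn (LP (LK LD1_c6 LD2_c29 LD3_c49))))))
theorem f766965 : Led Lsl_gt (LP (LK LD1_c6 LD2_c49 LD3_c24)) = (LP (LK LD1_c6 LD2_c29 LD3_c49)) :=
  Leop (Lpe (f766964 IH) (Lpn (LP (LK LD1_c6 LD2_c49 LD3_c24))))
theorem seed_1217 : LEOK LG_g (LK LD1_c6 LD2_c49 LD3_c24) :=
  Leoe_g (LK LD1_c6 LD2_c49 LD3_c24) (f766965 IH)
def v18492 : LQ := Led Lsl_at (LP (LK LD1_c6 LD2_c30 LD3_c7))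
theorem f767169 : Led Lsl_at (LP (LK LD1_c6 LD2_c30 LD3_c7)) = v18492 :=
  Lrfl
theorem f632814 : Led Lsl_ct (LP (LK LD1_c3 LD2_c13 LD3_c7)) = (LP (LK LD1_c6 LD2_c30 LD3_c7)) :=
  Lre_c IH (LK LD1_c3 LD2_c13 LD3_c7) (LK LD1_c6 LD2_c30 LD3_c7) Lrfl Lrfl
def v5766 : LQ := Led Lsl_at (LP (LK LD1_c3 LD2_c13 LD3_c7))
theorem f649273 : Led Lsl_at (LP (LK LD1_c3 LD2_c13 LD3_c7)) = v5766 :=
  Lrfl
theorem f649274 : Led Lsl_af (LP (LK LD1_c3 LD2_c13 LD3_c7)) = v5766 :=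
  Lgr Lrot0 (Lpr_at (f649273 IH) (Lpn v5766))
theorem f767171 : Led Lsl_cf v5766 = v18492 :=
  Lgr Lrot1 (Lpe (f649274 IH) (Lpr_ct (f632814 IH) (Lpr_at (f767169 IH) (Lpn v18492))))
def v4344 : LQ := Led Lsl_at (LP (LK LD1_c2 LD2_c19 LD3_c41))
theorem f632805 : Led Lsl_at (LP (LK LD1_c2 LD2_c19 LD3_c41)) = v4344 :=
  Lrfl
theorem f505485 : Led Lsl_bt (LP (LK LD1_c6 LD2_c30 LD3_c19)) = (LP (LK LD1_c3 LD2_c13 LD3_c17)) :=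
  Lre_b IH (LK LD1_c6 LD2_c30 LD3_c19) (LK LD1_c3 LD2_c13 LD3_c17) Lrfl Lrfl
theorem f505486 : Led Lsl_et (LP (LK LD1_c6 LD2_c27 LD3_c5)) = (LP (LK LD1_c6 LD2_c30 LD3_c19)) :=
  Lgr Lrot74 (Lpe (K50.f446027 IH) (Lpr_ef (K41.f505481 IH) (Lpe (f505485 IH) (Lpn (LP (LK LD1_c6 LD2_c30 LD3_c19))))))
theorem f505271 : Led Lsl_ft (LP (LK LD1_c3 LD2_c20 LD3_c10)) = (LP (LK LD1_c3 LD2_c11 LD3_c26)) :=
  Lgr Lrot48 (Lpr_ff (K46.f505263 IH) (Lpn (LP (LK LD1_c3 LD2_c11 LD3_c26))))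
theorem f135369 : Led Lsl_bt (LP (LK LD1_c6 LD2_c44 LD3_c0)) = (LP (LK LD1_c3 LD2_c20 LD3_c10)) :=
  Lre_b IH (LK LD1_c6 LD2_c44 LD3_c0) (LK LD1_c3 LD2_c20 LD3_c10) Lrfl Lrfl
theorem f435365 : Led Lsl_bt (LP (LK LD1_c3 LD2_c11 LD3_c26)) = (LP (LK LD1_c6 LD2_c27 LD3_c7)) :=
  Lre_b IH (LK LD1_c3 LD2_c11 LD3_c26) (LK LD1_c6 LD2_c27 LD3_c7) Lrfl Lrfl
theorem f505273 : Led Lsl_ff (LP (LK LD1_c6 LD2_c44 LD3_c0)) = (LP (LK LD1_c6 LD2_c27 LD3_c7)) :=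
  Lgr Lrot25 (Lpr_bt (f135369 IH) (Lpr_ft (f505271 IH) (Lpr_bt (f435365 IH) (Lpn (LP (LK LD1_c6 LD2_c27 LD3_c7))))))
theorem f135370 : Led Lsl_ct (LP (LK LD1_c6 LD2_c44 LD3_c0)) = (LP (LK LD1_c12 LD2_c52 LD3_c54)) :=
  Lre_c IH (LK LD1_c6 LD2_c44 LD3_c0) (LK LD1_c12 LD2_c52 LD3_c54) Lrfl Lrfl
theorem f438547 : Led Lsl_ct (LP (LK LD1_c12 LD2_c25 LD3_c53)) = (LP (LK LD1_c6 LD2_c27 LD3_c7)) :=
  Lre_c IH (LK LD1_c12 LD2_c25 LD3_c53) (LK LD1_c6 LD2_c27 LD3_c7) Lrfl Lrfl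
theorem f505323 : Led Lsl_ft (LP (LK LD1_c12 LD2_c52 LD3_c54)) = (LP (LK LD1_c12 LD2_c25 LD3_c53)) :=
  Lgr Lrot4 (Lpe (f135370 IH) (Lpr_ff (f505273 IH) (Lpe (f438547 IH) (Lpn (LP (LK LD1_c12 LD2_c25 LD3_c53))))))
theorem f505348 : Led Lsl_ff (LP (LK LD1_c12 LD2_c52 LD3_c54)) = (LP (LK LD1_c12 LD2_c25 LD3_c53)) :=
  Lgr Lrot3 (Lpr_ft (f505323 IH) (Lpn (LP (LK LD1_c12 LD2_c25 LD3_c53))))
theorem f26286 : Led Lsl_bt (LP (LK LD1_c4 LD2_c43 LD3_c34)) = (LP (LK LD1_c2 LD2_c19 LD3_c33)) :=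
  Lre_b IH (LK LD1_c4 LD2_c43 LD3_c34) (LK LD1_c2 LD2_c19 LD3_c33) Lrfl Lrfl
theorem f26297 : Led Lsl_ct (LP (LK LD1_c9 LD2_c20 LD3_c21)) = (LP (LK LD1_c4 LD2_c43 LD3_c34)) :=
  Lre_c IH (LK LD1_c9 LD2_c20 LD3_c21) (LK LD1_c4 LD2_c43 LD3_c34) Lrfl Lrfl
theorem f438356 : Led Lsl_bt (LP (LK LD1_c3 LD2_c20 LD3_c10)) = (LP (LK LD1_c6 LD2_c44 LD3_c0)) :=
  Lre_b IH (LK LD1_c3 LD2_c20 LD3_c10) (LK LD1_c6 LD2_c44 LD3_c0) Lrfl Lrfl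
theorem f438357 : Led Lsl_bf (LP (LK LD1_c9 LD2_c20 LD3_c21)) = (LP (LK LD1_c12 LD2_c52 LD3_c54)) :=
  Lgr Lrot90 (Lpr_ct (f26297 IH) (Lpr_bt (f26286 IH) (Lpr_ct (K32.f438354 IH) (Lpr_bt (f438356 IH) (Lpr_ct (f135370 IH) (Lpn (LP (LK LD1_c12 LD2_c52 LD3_c54))))))))
theorem f505359 : Led Lsl_bt (LP (LK LD1_c6 LD2_c27 LD3_c4)) = (LP (LK LD1_c12 LD2_c25 LD3_c53)) :=
  Lre_b IH (LK LD1_c6 LD2_c27 LD3_c4) (LK LD1_c12 LD2_c25 LD3_c53) Lrfl Lrfl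
theorem f505360 : Led Lsl_ft (LP (LK LD1_c9 LD2_c20 LD3_c21)) = (LP (LK LD1_c6 LD2_c27 LD3_c4)) :=
  Lgr Lrot75 (Lpr_bf (f438357 IH) (Lpr_ff (f505348 IH) (Lpe (f505359 IH) (Lpn (LP (LK LD1_c6 LD2_c27 LD3_c4))))))
theorem f26291 : Led Lsl_ct (LP (LK LD1_c4 LD2_c43 LD3_c34)) = (LP (LK LD1_c9 LD2_c20 LD3_c21)) :=
  Lre_c IH (LK LD1_c4 LD2_c43 LD3_c34) (LK LD1_c9 LD2_c20 LD3_c21) Lrfl Lrfl
theorem f435362 : Led Lsl_ct (LP (LK LD1_c6 LD2_c27 LD3_c4)) = (LP (LK LD1_c3 LD2_c11 LD3_c25)) :=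
  Lre_c IH (LK LD1_c6 LD2_c27 LD3_c4) (LK LD1_c3 LD2_c11 LD3_c25) Lrfl Lrfl
theorem f505381 : Led Lsl_ff (LP (LK LD1_c4 LD2_c43 LD3_c34)) = (LP (LK LD1_c3 LD2_c11 LD3_c25)) :=
  Lgr Lrot23 (Lpr_ct (f26291 IH) (Lpr_ft (f505360 IH) (Lpr_ct (f435362 IH) (Lpn (LP (LK LD1_c3 LD2_c11 LD3_c25))))))
theorem f26275 : Led Lsl_bt (LP (LK LD1_c2 LD2_c19 LD3_c33)) = (LP (LK LD1_c4 LD2_c43 LD3_c34)) :=
  Lre_b IH (LK LD1_c2 LD2_c19 LD3_c33) (LK LD1_c4 LD2_c43 LD3_c34) Lrfl Lrfl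
theorem f26277 : Led Lsl_dt (LP (LK LD1_c4 LD2_c43 LD3_c34)) = (LP (LK LD1_c4 LD2_c43 LD3_c48)) :=
  Lgr Lrot79 (Lpe (f26275 IH) (Lpr_df (K24.f26272 IH) (Lpe (K50.f26276 IH) (Lpn (LP (LK LD1_c4 LD2_c43 LD3_c48))))))
theorem f505386 : Led Lsl_dt (LP (LK LD1_c6 LD2_c27 LD3_c5)) = (LP (LK LD1_c3 LD2_c11 LD3_c25)) :=
  Lre_d IH (LK LD1_c6 LD2_c27 LD3_c5) (LK LD1_c3 LD2_c11 LD3_c25) Lrfl Lrfl
theorem f505387 : Led Lsl_ft (LP (LK LD1_c4 LD2_c43 LD3_c48)) = (LP (LK LD1_c6 LD2_c27 LD3_c5)) :=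
  Lgr Lrot54 (Lpe (f26277 IH) (Lpr_ff (f505381 IH) (Lpe (f505386 IH) (Lpn (LP (LK LD1_c6 LD2_c27 LD3_c5))))))
theorem f26293 : Led Lsl_et (LP (LK LD1_c2 LD2_c19 LD3_c41)) = (LP (LK LD1_c4 LD2_c43 LD3_c48)) :=
  Lre_e IH (LK LD1_c2 LD2_c19 LD3_c41) (LK LD1_c4 LD2_c43 LD3_c48) Lrfl Lrfl
theorem f505713 : Led Lsl_ft (LP (LK LD1_c6 LD2_c30 LD3_c19)) = (LP (LK LD1_c3 LD2_c13 LD3_c11)) :=
  Lre_f IH (LK LD1_c6 LD2_c30 LD3_c19) (LK LD1_c3 LD2_c13 LD3_c11) Lrfl Lrfl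
theorem f82748 : Led Lsl_et (LP (LK LD1_c3 LD2_c13 LD3_c11)) = (LP (LK LD1_c1 LD2_c32 LD3_c61)) :=
  Lre_e IH (LK LD1_c3 LD2_c13 LD3_c11) (LK LD1_c1 LD2_c32 LD3_c61) Lrfl Lrfl
theorem f505714 : Led Lsl_ff (LP (LK LD1_c2 LD2_c19 LD3_c41)) = (LP (LK LD1_c1 LD2_c32 LD3_c61)) :=
  Lgr Lrot72 (Lpr_et (f26293 IH) (Lpr_ft (f505387 IH) (Lpr_et (f505486 IH) (Lpr_ft (f505713 IH) (Lpr_et (f82748 IH) (Lpn (LP (LK LD1_c1 LD2_c32 LD3_c61))))))))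
theorem f632808 : Led Lsl_ff (LP (LK LD1_c3 LD2_c13 LD3_c8)) = v4344 :=
  Lgr Lrot30 (Lpr_at (K46.f453647 IH) (Lpe (f505714 IH) (Lpr_at (f632805 IH) (Lpn v4344))))
theorem f632811 : Led Lsl_gf (LP (LK LD1_c3 LD2_c13 LD3_c7)) = v4344 :=
  Lgr Lrot47 (Lpr_gt (K50.f82770 IH) (Lpe (K46.f453647 IH) (Lpr_ff (f632808 IH) (Lpn v4344))))
def v1989 : LQ := Led Lsl_gt (LP (LK LD1_c1 LD2_c32 LD3_c61))
theorem f506772 : Led Lsl_gt (LP (LK LD1_c1 LD2_c32 LD3_c61)) = v1989 :=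
  Lrfl
theorem f632809 : Led Lsl_gt v1989 = v4344 :=
  Lgr Lrot46 (Lpe (f506772 IH) (Lpe (f505714 IH) (Lpr_at (f632805 IH) (Lpn v4344))))
theorem f649275 : Led Lsl_ft v1989 = v5766 :=
  Lgr Lrot2 (Lpr_gt (f632809 IH) (Lpe (f632811 IH) (Lpr_af (f649274 IH) (Lpn v5766))))
theorem f649276 : Led Lsl_ff v1989 = v5766 :=
  Lgr Lrot3 (Lpr_ft (f649275 IH) (Lpn v5766))
def v8336 : LQ := Led Lsl_ct v1989
theorem f670843 : Led Lsl_ct v1989 = v8336 :=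
  Lrfl
theorem f767173 : Led Lsl_ft v8336 = v18492 :=
  Lgr Lrot4 (Lpe (f670843 IH) (Lpr_ff (f649276 IH) (Lpr_cf (f767171 IH) (Lpn v18492))))
theorem f767170 : Led Lsl_af (LP (LK LD1_c6 LD2_c30 LD3_c7)) = v18492 :=
  Lgr Lrot0 (Lpr_at (f767169 IH) (Lpn v18492))
def v18491 : LQ := Led Lsl_gf (LP (LK LD1_c6 LD2_c30 LD3_c7))
theorem f767168 : Led Lsl_gf (LP (LK LD1_c6 LD2_c30 LD3_c7)) = v18491 :=
  Lrfl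
theorem f767175 : Led Lsl_gt v8336 = v18491 :=
  Lgr Lrot5 (Lpr_ft (f767173 IH) (Lpe (f767170 IH) (Lpr_gf (f767168 IH) (Lpn v18491))))
def v5824 : LQ := Led Lsl_bt (LP (LK LD1_c3 LD2_c13 LD3_c50))
theorem f649597 : Led Lsl_bt (LP (LK LD1_c3 LD2_c13 LD3_c50)) = v5824 :=
  Lrfl
theorem f649598 : Led Lsl_bf (LP (LK LD1_c3 LD2_c13 LD3_c50)) = v5824 :=
  Lgr Lrot24 (Lpr_bt (f649597 IH) (Lpn v5824))
theorem f767176 : Led Lsl_ct v5824 = v18491 :=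
  Lgr Lrot63 (Lpe (f649598 IH) (Lpr_gt (K32.f506873 IH) (Lpe (K8.f22559 IH) (Lpr_ct (K7.f22517 IH) (Lpe (K24.f436239 IH) (Lpe (K32.f82683 IH) (Lpr_bt (K50.f140750 IH) (Lpr_gt (f506772 IH) (Lpr_ct (f670843 IH) (Lpr_gt (f767175 IH) (Lpn v18491)))))))))))
def v13446 : LQ := Led Lsl_gf (LP (LK LD1_c4 LD2_c44 LD3_c6))
theorem f703023 : Led Lsl_gf (LP (LK LD1_c4 LD2_c44 LD3_c6)) = v13446 :=
  Lrfl
theorem f703153 : Led Lsl_ff (LP (LK LD1_c4 LD2_c44 LD3_c18)) = K51.v13464 :=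
  Lgr Lrot3 (Lpr_ft (K51.f703152 IH) (Lpn K51.v13464))
def v13466 : LQ := Led Lsl_ft (LP (LK LD1_c4 LD2_c44 LD3_c17))
theorem f703157 : Led Lsl_ft (LP (LK LD1_c4 LD2_c44 LD3_c17)) = v13466 :=
  Lrfl
theorem f703159 : Led Lsl_ff (LP (LK LD1_c4 LD2_c44 LD3_c17)) = v13466 :=
  Lgr Lrot3 (Lpr_ft (f703157 IH) (Lpn v13466))
theorem f703160 : Led Lsl_at (LP (LK LD1_c4 LD2_c44 LD3_c18)) = v13466 :=
  Lgr Lrot66 (Lpr_ff (f703153 IH) (Lpe (K51.f703149 IH) (Lpr_ff (f703159 IH) (Lpn v13466))))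
theorem f632963 : Led Lsl_ff (LP (LK LD1_c2 LD2_c20 LD3_c8)) = K51.v4368 :=
  Lgr Lrot3 (Lpr_ft (K51.f632959 IH) (Lpn K51.v4368))
theorem f632965 : Led Lsl_ct K51.v1328 = K51.v4368 :=
  Lgr Lrot40 (Lpe (K51.f494871 IH) (Lpe (K8.f25250 IH) (Lpr_ff (f632963 IH) (Lpn K51.v4368))))
theorem f494872 : Led Lsl_bf (LP (LK LD1_c1 LD2_c7 LD3_c23)) = K51.v1328 :=
  Lgr Lrot61 (Lpr_ft (K24.f25245 IH) (Lpr_bt (K24.f25213 IH) (Lpr_ft (K51.f494871 IH) (Lpn K51.v1328))))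
theorem f632967 : Led Lsl_gt (LP (LK LD1_c6 LD2_c29 LD3_c7)) = K51.v4368 :=
  Lgr Lrot65 (Lpe (K46.f82905 IH) (Lpr_bt (K46.f82904 IH) (Lpe (K46.f82670 IH) (Lpe (K4.f82663 IH) (Lpe (K4.f82888 IH) (Lpe (K0.f23783 IH) (Lpe (K0.f23782 IH) (Lpe (K32.f151950 IH) (Lpr_bf (f494872 IH) (Lpr_ct (f632965 IH) (Lpn K51.v4368)))))))))))
theorem f25261 : Led Lsl_at (LP (LK LD1_c2 LD2_c20 LD3_c8)) = (LP (LK LD1_c4 LD2_c44 LD3_c6)) :=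
  Lre_a IH (LK LD1_c2 LD2_c20 LD3_c8) (LK LD1_c4 LD2_c44 LD3_c6) Lrfl Lrfl
theorem f703024 : Led Lsl_gt K51.v4368 = v13446 :=
  Lgr Lrot5 (Lpe (f632963 IH) (Lpr_at (f25261 IH) (Lpr_gf (f703023 IH) (Lpn v13446))))
theorem f707934 : v13466 = v13446 :=
  (Llr Lrot26 (Lpe (f703160 IH) (Lpr_ff (f703153 IH) (Lpq (K51.f707900 IH) (Lpr_gt (f632967 IH) (Lpr_gt (f703024 IH) (Lpn v13446))))))).symm
def v18387 : LQ := Led Lsl_ft (LP (LK LD1_c6 LD2_c29 LD3_c6))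
theorem f766691 : Led Lsl_ft (LP (LK LD1_c6 LD2_c29 LD3_c6)) = v18387 :=
  Lrfl
theorem f766694 : Led Lsl_cf v13466 = v18387 :=
  Lgr Lrot108 (Lpe (f703159 IH) (Lpr_ct (K52.f703154 IH) (Lpq (K52.f707997 IH) (Lpr_ft (f766691 IH) (Lpn v18387)))))
theorem f766696 : Led Lsl_ff (LP (LK LD1_c6 LD2_c29 LD3_c6)) = v18387 :=
  Lgr Lrot3 (Lpr_ft (f766691 IH) (Lpn v18387))
theorem f506711 : Led Lsl_at (LP (LK LD1_c6 LD2_c29 LD3_c6)) = (LP (LK LD1_c3 LD2_c12 LD3_c31)) :=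
  Lre_a IH (LK LD1_c6 LD2_c29 LD3_c6) (LK LD1_c3 LD2_c12 LD3_c31) Lrfl Lrfl
theorem f766699 : Led Lsl_at K51.v5725 = v18387 :=
  Lgr Lrot66 (Lpe (K51.f649062 IH) (Lpe (f506711 IH) (Lpr_ff (f766696 IH) (Lpn v18387))))
def v5723 : LQ := Led Lsl_gt (LP (LK LD1_c3 LD2_c12 LD3_c31))
theorem f649052 : Led Lsl_gt (LP (LK LD1_c3 LD2_c12 LD3_c31)) = v5723 :=
  Lrfl
theorem f766710 : Led Lsl_gt v5723 = v18387 :=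
  Lgr Lrot46 (Lpe (f649052 IH) (Lpr_ft (K51.f649062 IH) (Lpr_at (f766699 IH) (Lpn v18387))))
theorem f767179 : v5723 = K50.v5767 :=
  (Llr Lrot181 (Lpr_gt (f766710 IH) (Lpe (f766694 IH) (Lpqs (f707934 IH) (Lpe (f703023 IH) (Lpe (K46.f144100 IH) (Lpr_bt (K46.f151914 IH) (Lpr_gt (K32.f148372 IH) (Lpr_bf (f649598 IH) (Lpr_ct (f767176 IH) (Lpe (f767168 IH) (Lpe (f632814 IH) (Lpr_bt (K50.f649277 IH) (Lpn K50.v5767)))))))))))))).symm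
theorem f632986 : Led Lsl_dt (LP (LK LD1_c4 LD2_c44 LD3_c20)) = (LP (LK LD1_c9 LD2_c21 LD3_c31)) :=
  Lre_d IH (LK LD1_c4 LD2_c44 LD3_c20) (LK LD1_c9 LD2_c21 LD3_c31) Lrfl Lrfl
theorem f703172 : Led Lsl_gt (LP (LK LD1_c9 LD2_c21 LD3_c31)) = (LP (LK LD1_c17 LD2_c17 LD3_c40)) :=
  Lre_g IH (LK LD1_c9 LD2_c21 LD3_c31) (LK LD1_c17 LD2_c17 LD3_c40) Lrfl Lrfl
theorem f703173 : Led Lsl_ct (LP (LK LD1_c17 LD2_c17 LD3_c40)) = (LP (LK LD1_c27 LD2_c7 LD3_c13)) :=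
  Lre_c IH (LK LD1_c17 LD2_c17 LD3_c40) (LK LD1_c27 LD2_c7 LD3_c13) Lrfl Lrfl
theorem f670704 : Led Lsl_dt (LP (LK LD1_c9 LD2_c21 LD3_c26)) = (LP (LK LD1_c4 LD2_c44 LD3_c18)) :=
  Lre_d IH (LK LD1_c9 LD2_c21 LD3_c26) (LK LD1_c4 LD2_c44 LD3_c18) Lrfl Lrfl
theorem f707905 : Led Lsl_ff (LP (LK LD1_c9 LD2_c21 LD3_c26)) = (LP (LK LD1_c12 LD2_c28 LD3_c35)) :=
  Lgr Lrot19 (Lpr_dt (f670704 IH) (Lpr_ft (K51.f703152 IH) (Lpq (K51.f707900 IH) (Lpr_dt (K51.f632968 IH) (Lpn (LP (LK LD1_c12 LD2_c28 LD3_c35)))))))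
theorem f653392 : Led Lsl_gt (LP (LK LD1_c6 LD2_c47 LD3_c12)) = (LP (LK LD1_c12 LD2_c57 LD3_c26)) :=
  Lre_g IH (LK LD1_c6 LD2_c47 LD3_c12) (LK LD1_c12 LD2_c57 LD3_c26) Lrfl Lrfl
theorem f708006 : Led Lsl_at (LP (LK LD1_c9 LD2_c21 LD3_c26)) = (LP (LK LD1_c12 LD2_c57 LD3_c26)) :=
  Lgr Lrot26 (Lpr_ff (f707905 IH) (Lpr_gt (K51.f708004 IH) (Lpr_gt (f653392 IH) (Lpn (LP (LK LD1_c12 LD2_c57 LD3_c26))))))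
theorem f670701 : Led Lsl_dt (LP (LK LD1_c4 LD2_c44 LD3_c18)) = (LP (LK LD1_c9 LD2_c21 LD3_c26)) :=
  Lre_d IH (LK LD1_c4 LD2_c44 LD3_c18) (LK LD1_c9 LD2_c21 LD3_c26) Lrfl Lrfl
theorem f703158 : Led Lsl_af (LP (LK LD1_c4 LD2_c44 LD3_c18)) = v13466 :=
  Lgr Lrot45 (Lpr_ft (K51.f703152 IH) (Lpe (K51.f703150 IH) (Lpr_ft (f703157 IH) (Lpn v13466))))
theorem f715771 : Led Lsl_df v13466 = (LP (LK LD1_c12 LD2_c57 LD3_c26)) :=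
  Lgr Lrot18 (Lpe (f703158 IH) (Lpr_dt (f670701 IH) (Lpr_at (f708006 IH) (Lpn (LP (LK LD1_c12 LD2_c57 LD3_c26))))))
theorem f715777 : Led Lsl_ct (LP (LK LD1_c22 LD2_c7 LD3_c18)) = (LP (LK LD1_c12 LD2_c57 LD3_c26)) :=
  Lre_c IH (LK LD1_c22 LD2_c7 LD3_c18) (LK LD1_c12 LD2_c57 LD3_c26) Lrfl Lrfl
theorem f767180 : Led Lsl_gt (LP (LK LD1_c27 LD2_c7 LD3_c13)) = (LP (LK LD1_c22 LD2_c7 LD3_c18)) :=
  Lgr Lrot150 (Lpe (f703173 IH) (Lpe (f703172 IH) (Lpe (f632986 IH) (Lpr_gt (K50.f703171 IH) (Lpe (K50.f703178 IH) (Lpq (f767179 IH) (Lpr_gt (f766710 IH) (Lpe (f766694 IH) (Lpr_df (f715771 IH) (Lpe (f715777 IH) (Lpn (LP (LK LD1_c22 LD2_c7 LD3_c18)))))))))))))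
theorem f767181 : Led Lsl_gt (LP (LK LD1_c27 LD2_c7 LD3_c13)) = (LP (LK LD1_c22 LD2_c7 LD3_c18)) :=
  Leop (Lpe (f767180 IH) (Lpn (LP (LK LD1_c27 LD2_c7 LD3_c13))))
theorem seed_1218 : LEOK LG_g (LK LD1_c27 LD2_c7 LD3_c13) :=
  Leoe_g (LK LD1_c27 LD2_c7 LD3_c13) (f767181 IH)
def v16119 : LQ := Led Lsl_gt (LP (LK LD1_c5 LD2_c52 LD3_c52))
theorem f746629 : Led Lsl_gt (LP (LK LD1_c5 LD2_c52 LD3_c52)) = v16119 :=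
  Lrfl
def v18531 : LQ := Led Lsl_dt (LP (LK LD1_c6 LD2_c30 LD3_c20))
theorem f767309 : Led Lsl_dt (LP (LK LD1_c6 LD2_c30 LD3_c20)) = v18531 :=
  Lrfl
theorem f428371 : Led Lsl_dt (LP (LK LD1_c8 LD2_c0 LD3_c17)) = (LP (LK LD1_c3 LD2_c59 LD3_c35)) :=
  Lre_d IH (LK LD1_c8 LD2_c0 LD3_c17) (LK LD1_c3 LD2_c59 LD3_c35) Lrfl Lrfl
theorem f767312 : Led Lsl_ff (LP (LK LD1_c8 LD2_c0 LD3_c17)) = v18531 :=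
  Lgr Lrot19 (Lpr_dt (f428371 IH) (Lpr_ft (K52.f641809 IH) (Lpr_dt (f767309 IH) (Lpn v18531))))
theorem f767315 : Led Lsl_ft (LP (LK LD1_c8 LD2_c0 LD3_c17)) = v18531 :=
  Lgr Lrot48 (Lpr_ff (f767312 IH) (Lpn v18531))
theorem f711251 : Led Lsl_at (LP (LK LD1_c5 LD2_c52 LD3_c42)) = (LP (LK LD1_c6 LD2_c30 LD3_c20)) :=
  Lgr Lrot66 (Lpr_ff (K53.f711248 IH) (Lpe (K52.f160906 IH) (Lpr_ff (K52.f641797 IH) (Lpn (LP (LK LD1_c6 LD2_c30 LD3_c20))))))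
theorem f505678 : Led Lsl_dt (LP (LK LD1_c11 LD2_c31 LD3_c47)) = (LP (LK LD1_c5 LD2_c52 LD3_c42)) :=
  Lre_d IH (LK LD1_c11 LD2_c31 LD3_c47) (LK LD1_c5 LD2_c52 LD3_c42) Lrfl Lrfl
theorem f767310 : Led Lsl_af (LP (LK LD1_c11 LD2_c31 LD3_c47)) = v18531 :=
  Lgr Lrot117 (Lpr_dt (f505678 IH) (Lpr_at (f711251 IH) (Lpr_dt (f767309 IH) (Lpn v18531))))
theorem f767316 : v16119 = (LP (LK LD1_c11 LD2_c31 LD3_c47)) :=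
  (Llr Lrot46 (Lpe (f746629 IH) (Lpr_gf (K57.f711178 IH) (Lpr_ft (f767315 IH) (Lpe (f767310 IH) (Lpn (LP (LK LD1_c11 LD2_c31 LD3_c47)))))))).symm
theorem f767317 : Led Lsl_gt (LP (LK LD1_c5 LD2_c52 LD3_c52)) = (LP (LK LD1_c11 LD2_c31 LD3_c47)) :=
  Leop (Lpq (f767316 IH) (Lpe (f746629 IH) (Lpn (LP (LK LD1_c5 LD2_c52 LD3_c52)))))
theorem seed_1219 : LEOK LG_g (LK LD1_c5 LD2_c52 LD3_c52) :=
  Leoe_g (LK LD1_c5 LD2_c52 LD3_c52) (f767317 IH)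
theorem f56726 : Led Lsl_dt (LP (LK LD1_c5 LD2_c52 LD3_c42)) = (LP (LK LD1_c11 LD2_c31 LD3_c47)) :=
  Lre_d IH (LK LD1_c5 LD2_c52 LD3_c42) (LK LD1_c11 LD2_c31 LD3_c47) Lrfl Lrfl
theorem f139394 : Led Lsl_bt (LP (LK LD1_c3 LD2_c59 LD3_c17)) = (LP (LK LD1_c1 LD2_c56 LD3_c24)) :=
  Lre_b IH (LK LD1_c3 LD2_c59 LD3_c17) (LK LD1_c1 LD2_c56 LD3_c24) Lrfl Lrfl
theorem f139395 : Led Lsl_ft (LP (LK LD1_c1 LD2_c56 LD3_c24)) = (LP (LK LD1_c2 LD2_c49 LD3_c42)) :=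
  Lgr Lrot75 (Lpe (f139394 IH) (Lpr_ff (K6.f139390 IH) (Lpr_bf (K4.f74966 IH) (Lpn (LP (LK LD1_c2 LD2_c49 LD3_c42))))))
theorem f139420 : Led Lsl_at (LP (LK LD1_c3 LD2_c59 LD3_c25)) = (LP (LK LD1_c5 LD2_c47 LD3_c30)) :=
  Lgr Lrot80 (Lpe (K57.f101698 IH) (Lpr_af (K6.f139414 IH) (Lpe (K57.f73274 IH) (Lpn (LP (LK LD1_c5 LD2_c47 LD3_c30))))))
def v11811 : LQ := Led Lsl_gt K49.v3896
theorem f685957 : Led Lsl_gt K49.v3896 = v11811 :=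
  Lrfl
theorem f500220 : Led Lsl_at (LP (LK LD1_c2 LD2_c52 LD3_c13)) = (LP (LK LD1_c5 LD2_c51 LD3_c59)) :=
  Lre_a IH (LK LD1_c2 LD2_c52 LD3_c13) (LK LD1_c5 LD2_c51 LD3_c59) Lrfl Lrfl
theorem f685958 : Led Lsl_gf (LP (LK LD1_c5 LD2_c51 LD3_c59)) = v11811 :=
  Lgr Lrot76 (Lpe (f500220 IH) (Lpr_ff (K49.f627777 IH) (Lpr_gt (f685957 IH) (Lpn v11811))))
theorem f685993 : Led Lsl_ff (LP (LK LD1_c3 LD2_c59 LD3_c25)) = v11811 :=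
  Lgr Lrot52 (Lpr_at (f139420 IH) (Lpqs (K49.f685983 IH) (Lpe (K49.f685967 IH) (Lpr_gf (f685958 IH) (Lpn v11811)))))
theorem f711255 : Led Lsl_et (LP (LK LD1_c5 LD2_c52 LD3_c42)) = v11811 :=
  Lgr Lrot69 (Lpr_ff (K53.f711248 IH) (Lpe (K4.f74969 IH) (Lpe (f139395 IH) (Lpe (K57.f139429 IH) (Lpr_ff (f685993 IH) (Lpn v11811))))))
theorem f414203 : Led Lsl_et (LP (LK LD1_c11 LD2_c31 LD3_c0)) = (LP (LK LD1_c5 LD2_c51 LD3_c59)) :=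
  Lre_e IH (LK LD1_c11 LD2_c31 LD3_c0) (LK LD1_c5 LD2_c51 LD3_c59) Lrfl Lrfl
theorem f414135 : Led Lsl_bt (LP (LK LD1_c6 LD2_c46 LD3_c35)) = (LP (LK LD1_c3 LD2_c21 LD3_c27)) :=
  Lre_b IH (LK LD1_c6 LD2_c46 LD3_c35) (LK LD1_c3 LD2_c21 LD3_c27) Lrfl Lrfl
theorem f414182 : Led Lsl_bt (LP (LK LD1_c2 LD2_c52 LD3_c15)) = (LP (LK LD1_c5 LD2_c51 LD3_c60)) :=
  Lre_b IH (LK LD1_c2 LD2_c52 LD3_c15) (LK LD1_c5 LD2_c51 LD3_c60) Lrfl Lrfl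
theorem f414183 : Led Lsl_df (LP (LK LD1_c6 LD2_c46 LD3_c35)) = (LP (LK LD1_c5 LD2_c51 LD3_c60)) :=
  Lgr Lrot12 (Lpr_bt (f414135 IH) (Lpr_dt (K24.f414110 IH) (Lpr_bt (f414182 IH) (Lpn (LP (LK LD1_c5 LD2_c51 LD3_c60))))))
theorem f414185 : Led Lsl_at (LP (LK LD1_c6 LD2_c46 LD3_c35)) = (LP (LK LD1_c12 LD2_c56 LD3_c30)) :=
  Lre_a IH (LK LD1_c6 LD2_c46 LD3_c35) (LK LD1_c12 LD2_c56 LD3_c30) Lrfl Lrfl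
theorem f414186 : Led Lsl_at (LP (LK LD1_c11 LD2_c31 LD3_c0)) = (LP (LK LD1_c5 LD2_c51 LD3_c60)) :=
  Lre_a IH (LK LD1_c11 LD2_c31 LD3_c0) (LK LD1_c5 LD2_c51 LD3_c60) Lrfl Lrfl
theorem f414187 : Led Lsl_dt (LP (LK LD1_c12 LD2_c56 LD3_c30)) = (LP (LK LD1_c11 LD2_c31 LD3_c0)) :=
  Lgr Lrot44 (Lpe (f414185 IH) (Lpr_df (f414183 IH) (Lpe (f414186 IH) (Lpn (LP (LK LD1_c11 LD2_c31 LD3_c0))))))
theorem f414201 : Led Lsl_df (LP (LK LD1_c12 LD2_c56 LD3_c30)) = (LP (LK LD1_c11 LD2_c31 LD3_c0)) :=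
  Lgr Lrot38 (Lpr_dt (f414187 IH) (Lpn (LP (LK LD1_c11 LD2_c31 LD3_c0))))
theorem f510141 : Led Lsl_bt (LP (LK LD1_c4 LD2_c49 LD3_c28)) = (LP (LK LD1_c9 LD2_c31 LD3_c38)) :=
  Lre_b IH (LK LD1_c4 LD2_c49 LD3_c28) (LK LD1_c9 LD2_c31 LD3_c38) Lrfl Lrfl
theorem f710661 : Led Lsl_cf (LP (LK LD1_c20 LD2_c34 LD3_c57)) = (LP (LK LD1_c13 LD2_c2 LD3_c16)) :=
  Lgr Lrot11 (Lpr_ct (K55.f710648 IH) (Lpn (LP (LK LD1_c13 LD2_c2 LD3_c16))))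
theorem f710659 : Led Lsl_bt (LP (LK LD1_c13 LD2_c2 LD3_c16)) = (LP (LK LD1_c6 LD2_c51 LD3_c13)) :=
  Lre_b IH (LK LD1_c13 LD2_c2 LD3_c16) (LK LD1_c6 LD2_c51 LD3_c13) Lrfl Lrfl
theorem f747884 : Led Lsl_gf (LP (LK LD1_c9 LD2_c20 LD3_c40)) = (LP (LK LD1_c6 LD2_c51 LD3_c13)) :=
  Lgr Lrot124 (Lpe (K35.f442827 IH) (Lpr_ct (K24.f82568 IH) (Lpr_gt (K51.f445975 IH) (Lpe (K48.f510142 IH) (Lpr_bt (f510141 IH) (Lpr_gt (K55.f707310 IH) (Lpr_ct (K55.f117004 IH) (Lpr_gt (K55.f747882 IH) (Lpr_cf (f710661 IH) (Lpr_bt (f710659 IH) (Lpn (LP (LK LD1_c6 LD2_c51 LD3_c13)))))))))))))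
theorem f415159 : Led Lsl_dt (LP (LK LD1_c3 LD2_c24 LD3_c5)) = (LP (LK LD1_c6 LD2_c51 LD3_c12)) :=
  Lre_d IH (LK LD1_c3 LD2_c24 LD3_c5) (LK LD1_c6 LD2_c51 LD3_c12) Lrfl Lrfl
theorem f767319 : Led Lsl_gt (LP (LK LD1_c12 LD2_c56 LD3_c30)) = (LP (LK LD1_c6 LD2_c51 LD3_c12)) :=
  Lgr Lrot112 (Lpr_df (f414201 IH) (Lpr_et (f414203 IH) (Lpr_gf (f685958 IH) (Lpe (f711255 IH) (Lpr_dt (f56726 IH) (Lpq (f767316 IH) (Lpe (f746629 IH) (Lpr_df (K57.f445645 IH) (Lpr_gf (f747884 IH) (Lpe (K55.f654361 IH) (Lpr_dt (f415159 IH) (Lpn (LP (LK LD1_c6 LD2_c51 LD3_c12))))))))))))))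
theorem f767320 : Led Lsl_gt (LP (LK LD1_c12 LD2_c56 LD3_c30)) = (LP (LK LD1_c6 LD2_c51 LD3_c12)) :=
  Leop (Lpe (f767319 IH) (Lpn (LP (LK LD1_c12 LD2_c56 LD3_c30))))
theorem seed_1220 : LEOK LG_g (LK LD1_c12 LD2_c56 LD3_c30) :=
  Leoe_g (LK LD1_c12 LD2_c56 LD3_c30) (f767320 IH)
def v18581 : LQ := Led Lsl_gf (LP (LK LD1_c6 LD2_c30 LD3_c55))
theorem f767537 : Led Lsl_gf (LP (LK LD1_c6 LD2_c30 LD3_c55)) = v18581 :=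
  Lrfl
theorem f148140 : Led Lsl_dt (LP (LK LD1_c3 LD2_c13 LD3_c37)) = (LP (LK LD1_c6 LD2_c30 LD3_c55)) :=
  Lre_d IH (LK LD1_c3 LD2_c13 LD3_c37) (LK LD1_c6 LD2_c30 LD3_c55) Lrfl Lrfl
theorem f148139 : Led Lsl_et (LP (LK LD1_c3 LD2_c13 LD3_c37)) = (LP (LK LD1_c1 LD2_c33 LD3_c21)) :=
  Lre_e IH (LK LD1_c3 LD2_c13 LD3_c37) (LK LD1_c1 LD2_c33 LD3_c21) Lrfl Lrfl
theorem f148141 : Led Lsl_et (LP (LK LD1_c1 LD2_c48 LD3_c42)) = (LP (LK LD1_c3 LD2_c43 LD3_c18)) :=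
  Lre_e IH (LK LD1_c1 LD2_c48 LD3_c42) (LK LD1_c3 LD2_c43 LD3_c18) Lrfl Lrfl
theorem f148143 : Led Lsl_et (LP (LK LD1_c14 LD2_c4 LD3_c51)) = (LP (LK LD1_c7 LD2_c27 LD3_c13)) :=
  Lre_e IH (LK LD1_c14 LD2_c4 LD3_c51) (LK LD1_c7 LD2_c27 LD3_c13) Lrfl Lrfl
theorem f767538 : Led Lsl_dt (LP (LK LD1_c14 LD2_c4 LD3_c51)) = v18581 :=
  Lgr Lrot136 (Lpr_et (f148143 IH) (Lpe (K50.f148142 IH) (Lpe (f148141 IH) (Lpr_dt (K7.f148107 IH) (Lpe (K7.f148131 IH) (Lpe (K6.f124096 IH) (Lpe (K4.f23617 IH) (Lpe (f148139 IH) (Lpr_dt (f148140 IH) (Lpr_gf (f767537 IH) (Lpn v18581)))))))))))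
theorem f23648 : Led Lsl_dt (LP (LK LD1_c6 LD2_c30 LD3_c55)) = (LP (LK LD1_c3 LD2_c13 LD3_c37)) :=
  Lre_d IH (LK LD1_c6 LD2_c30 LD3_c55) (LK LD1_c3 LD2_c13 LD3_c37) Lrfl Lrfl
theorem f23645 : Led Lsl_dt (LP (LK LD1_c3 LD2_c13 LD3_c39)) = (LP (LK LD1_c1 LD2_c33 LD3_c22)) :=
  Lre_d IH (LK LD1_c3 LD2_c13 LD3_c39) (LK LD1_c1 LD2_c33 LD3_c22) Lrfl Lrfl
def v5809 : LQ := Led Lsl_gf (LP (LK LD1_c3 LD2_c13 LD3_c39))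
theorem f649535 : Led Lsl_gf (LP (LK LD1_c3 LD2_c13 LD3_c39)) = v5809 :=
  Lrfl
def v4503 : LQ := Led Lsl_et (LP (LK LD1_c2 LD2_c22 LD3_c42))
theorem f634262 : Led Lsl_et (LP (LK LD1_c2 LD2_c22 LD3_c42)) = v4503 :=
  Lrfl
theorem f634263 : Led Lsl_ef (LP (LK LD1_c2 LD2_c22 LD3_c42)) = v4503 :=
  Lgr Lrot88 (Lpr_et (f634262 IH) (Lpn v4503))
theorem f440567 : Led Lsl_ft (LP (LK LD1_c3 LD2_c43 LD3_c7)) = (LP (LK LD1_c1 LD2_c48 LD3_c37)) :=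
  Lre_f IH (LK LD1_c3 LD2_c43 LD3_c7) (LK LD1_c1 LD2_c48 LD3_c37) Lrfl Lrfl
theorem f506866 : Led Lsl_ef (LP (LK LD1_c3 LD2_c43 LD3_c7)) = K48.v2009 :=
  Lgr Lrot21 (Lpr_ft (f440567 IH) (Lpr_et (K3.f107049 IH) (Lpr_ft (K5.f121310 IH) (Lpr_et (K48.f106198 IH) (Lpr_ft (K48.f506864 IH) (Lpn K48.v2009))))))
theorem f662751 : (LP (LK LD1_c3 LD2_c43 LD3_c7)) = v4503 :=
  Lefun (Lecon (Lfl_ef (f506866 IH)) (K48.f662736 IH)) (f634262 IH)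
theorem f95806 : Led Lsl_ft (LP (LK LD1_c3 LD2_c13 LD3_c39)) = (LP (LK LD1_c6 LD2_c30 LD3_c61)) :=
  Lre_f IH (LK LD1_c3 LD2_c13 LD3_c39) (LK LD1_c6 LD2_c30 LD3_c61) Lrfl Lrfl
theorem f95807 : Led Lsl_gt (LP (LK LD1_c3 LD2_c13 LD3_c39)) = (LP (LK LD1_c6 LD2_c30 LD3_c59)) :=
  Lre_g IH (LK LD1_c3 LD2_c13 LD3_c39) (LK LD1_c6 LD2_c30 LD3_c59) Lrfl Lrfl
theorem f441731 : Led Lsl_gt (LP (LK LD1_c6 LD2_c30 LD3_c59)) = (LP (LK LD1_c7 LD2_c26 LD3_c56)) :=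
  Lgr Lrot46 (Lpe (f95807 IH) (Lpr_ft (f95806 IH) (Lpr_at (K48.f107013 IH) (Lpn (LP (LK LD1_c7 LD2_c26 LD3_c56))))))
theorem f653520 : Led Lsl_gt (LP (LK LD1_c6 LD2_c12 LD3_c25)) = (LP (LK LD1_c12 LD2_c4 LD3_c15)) :=
  Lre_g IH (LK LD1_c6 LD2_c12 LD3_c25) (LK LD1_c12 LD2_c4 LD3_c15) Lrfl Lrfl
def v6465 : LQ := Led Lsl_at (LP (LK LD1_c3 LD2_c22 LD3_c4))
theorem f653515 : Led Lsl_at (LP (LK LD1_c3 LD2_c22 LD3_c4)) = v6465 :=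
  Lrfl
theorem f653517 : Led Lsl_df (LP (LK LD1_c12 LD2_c4 LD3_c15)) = v6465 :=
  Lgr Lrot18 (Lpr_at (K48.f503661 IH) (Lpe (K48.f504183 IH) (Lpr_at (f653515 IH) (Lpn v6465))))
theorem f653518 : Led Lsl_dt (LP (LK LD1_c12 LD2_c4 LD3_c15)) = v6465 :=
  Lgr Lrot42 (Lpr_df (f653517 IH) (Lpn v6465))
theorem f663549 : (LP (LK LD1_c6 LD2_c30 LD3_c59)) = v6465 :=
  (Llr Lrot134 (Lpr_gt (f441731 IH) (Lpe (K57.f107018 IH) (Lpqs (f662751 IH) (Lpe (f634263 IH) (Lpr_gt (K48.f414278 IH) (Lpe (K48.f446259 IH) (Lpr_dt (K48.f446140 IH) (Lpqs (K48.f662728 IH) (Lpe (K48.f652196 IH) (Lpr_df (K48.f148405 IH) (Lpr_et (K49.f649685 IH) (Lpqs (K49.f663542 IH) (Lpr_gt (f653520 IH) (Lpr_dt (f653518 IH) (Lpn v6465)))))))))))))))).symm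
theorem f632222 : Led Lsl_ft (LP (LK LD1_c12 LD2_c4 LD3_c15)) = (LP (LK LD1_c6 LD2_c12 LD3_c19)) :=
  Lre_f IH (LK LD1_c12 LD2_c4 LD3_c15) (LK LD1_c6 LD2_c12 LD3_c19) Lrfl Lrfl
theorem f662922 : Led Lsl_ff v6465 = (LP (LK LD1_c7 LD2_c26 LD3_c54)) :=
  Lgr Lrot19 (Lpe (f653517 IH) (Lpr_ft (f632222 IH) (Lpq (K48.f662918 IH) (Lpr_dt (K48.f662917 IH) (Lpn (LP (LK LD1_c7 LD2_c26 LD3_c54)))))))
theorem f662925 : Led Lsl_ft v6465 = (LP (LK LD1_c7 LD2_c26 LD3_c54)) :=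
  Lgr Lrot48 (Lpr_ff (f662922 IH) (Lpn (LP (LK LD1_c7 LD2_c26 LD3_c54))))
theorem f662926 : Led Lsl_af (LP (LK LD1_c4 LD2_c50 LD3_c13)) = (LP (LK LD1_c7 LD2_c26 LD3_c54)) :=
  Lgr Lrot45 (Lpe (K48.f504172 IH) (Lpr_at (f653515 IH) (Lpr_ft (f662925 IH) (Lpn (LP (LK LD1_c7 LD2_c26 LD3_c54))))))
theorem f106996 : Led Lsl_af (LP (LK LD1_c3 LD2_c13 LD3_c39)) = (LP (LK LD1_c3 LD2_c43 LD3_c6)) :=
  Lgr Lrot0 (Lpr_at (K3.f106994 IH) (Lpn (LP (LK LD1_c3 LD2_c43 LD3_c6))))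
theorem f106982 : Led Lsl_ft (LP (LK LD1_c7 LD2_c26 LD3_c56)) = (LP (LK LD1_c3 LD2_c43 LD3_c6)) :=
  Lre_f IH (LK LD1_c7 LD2_c26 LD3_c56) (LK LD1_c3 LD2_c43 LD3_c6) Lrfl Lrfl
theorem f649536 : Led Lsl_gt (LP (LK LD1_c7 LD2_c26 LD3_c56)) = v5809 :=
  Lgr Lrot5 (Lpr_ft (f106982 IH) (Lpe (f106996 IH) (Lpr_gf (f649535 IH) (Lpn v5809))))
theorem f663556 : (LP (LK LD1_c4 LD2_c50 LD3_c13)) = v5809 :=
  (Llr Lrot26 (Lpr_af (f662926 IH) (Lpe (f662925 IH) (Lpq (f663549 IH) (Lpr_gt (f441731 IH) (Lpr_gt (f649536 IH) (Lpn v5809))))))).symm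
theorem f416120 : Led Lsl_gt (LP (LK LD1_c6 LD2_c12 LD3_c26)) = (LP (LK LD1_c3 LD2_c2 LD3_c47)) :=
  Lre_g IH (LK LD1_c6 LD2_c12 LD3_c26) (LK LD1_c3 LD2_c2 LD3_c47) Lrfl Lrfl
theorem f416121 : Led Lsl_ct (LP (LK LD1_c12 LD2_c4 LD3_c22)) = (LP (LK LD1_c6 LD2_c12 LD3_c26)) :=
  Lre_c IH (LK LD1_c12 LD2_c4 LD3_c22) (LK LD1_c6 LD2_c12 LD3_c26) Lrfl Lrfl
theorem f767541 : Led Lsl_gf (LP (LK LD1_c14 LD2_c4 LD3_c51)) = (LP (LK LD1_c12 LD2_c4 LD3_c22)) :=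
  Lgr Lrot144 (Lpr_dt (f767538 IH) (Lpe (f767537 IH) (Lpr_dt (f23648 IH) (Lpe (K57.f23621 IH) (Lpe (f23645 IH) (Lpr_gf (f649535 IH) (Lpq (f663556 IH) (Lpr_df (K48.f415541 IH) (Lpe (f416120 IH) (Lpe (f416121 IH) (Lpn (LP (LK LD1_c12 LD2_c4 LD3_c22)))))))))))))
theorem f767542 : Led Lsl_gt (LP (LK LD1_c12 LD2_c4 LD3_c22)) = (LP (LK LD1_c14 LD2_c4 LD3_c51)) :=
  Leop (Lpr_gf (f767541 IH) (Lpn (LP (LK LD1_c12 LD2_c4 LD3_c22))))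
theorem seed_1221 : LEOK LG_g (LK LD1_c12 LD2_c4 LD3_c22) :=
  Leoe_g (LK LD1_c12 LD2_c4 LD3_c22) (f767542 IH)
def v18582 : LQ := Led Lsl_ft (LP (LK LD1_c6 LD2_c30 LD3_c55))
theorem f767546 : Led Lsl_ft (LP (LK LD1_c6 LD2_c30 LD3_c55)) = v18582 :=
  Lrfl
theorem f767548 : Led Lsl_ff (LP (LK LD1_c6 LD2_c30 LD3_c55)) = v18582 :=
  Lgr Lrot3 (Lpr_ft (f767546 IH) (Lpn v18582))
theorem f439998 : Led Lsl_at (LP (LK LD1_c7 LD2_c26 LD3_c53)) = (LP (LK LD1_c6 LD2_c30 LD3_c55)) :=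
  Lgr Lrot51 (Lpe (K3.f107023 IH) (Lpr_af (K57.f439996 IH) (Lpe (f23648 IH) (Lpn (LP (LK LD1_c6 LD2_c30 LD3_c55))))))
theorem f440001 : Led Lsl_af (LP (LK LD1_c7 LD2_c26 LD3_c53)) = (LP (LK LD1_c6 LD2_c30 LD3_c55)) :=
  Lgr Lrot0 (Lpr_at (f439998 IH) (Lpn (LP (LK LD1_c6 LD2_c30 LD3_c55))))
theorem f107045 : Led Lsl_gt (LP (LK LD1_c14 LD2_c4 LD3_c29)) = (LP (LK LD1_c7 LD2_c26 LD3_c53)) :=
  Lre_g IH (LK LD1_c14 LD2_c4 LD3_c29) (LK LD1_c7 LD2_c26 LD3_c53) Lrfl Lrfl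
theorem f767550 : Led Lsl_gf (LP (LK LD1_c14 LD2_c4 LD3_c29)) = v18582 :=
  Lgr Lrot47 (Lpr_gt (f107045 IH) (Lpr_af (f440001 IH) (Lpr_ff (f767548 IH) (Lpn v18582))))
theorem f767549 : Led Lsl_dt (LP (LK LD1_c6 LD2_c30 LD3_c56)) = v18582 :=
  Lgr Lrot60 (Lpe (K57.f440568 IH) (Lpe (f23648 IH) (Lpr_ff (f767548 IH) (Lpn v18582))))
theorem f760634 : Led Lsl_cf K57.v8183 = K57.v7241 :=
  Lgr Lrot11 (Lpr_ct (K57.f760633 IH) (Lpn K57.v7241))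
theorem f66477 : Led Lsl_dt (LP (LK LD1_c6 LD2_c42 LD3_c6)) = (LP (LK LD1_c3 LD2_c19 LD3_c2)) :=
  Lre_d IH (LK LD1_c6 LD2_c42 LD3_c6) (LK LD1_c3 LD2_c19 LD3_c2) Lrfl Lrfl
theorem f66478 : Led Lsl_ct (LP (LK LD1_c12 LD2_c49 LD3_c20)) = (LP (LK LD1_c6 LD2_c42 LD3_c6)) :=
  Lre_c IH (LK LD1_c12 LD2_c49 LD3_c20) (LK LD1_c6 LD2_c42 LD3_c6) Lrfl Lrfl
theorem f66495 : Led Lsl_gt (LP (LK LD1_c21 LD2_c57 LD3_c41)) = (LP (LK LD1_c12 LD2_c49 LD3_c20)) :=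
  Lre_g IH (LK LD1_c21 LD2_c57 LD3_c41) (LK LD1_c12 LD2_c49 LD3_c20) Lrfl Lrfl
theorem f767551 : Led Lsl_ct (LP (LK LD1_c14 LD2_c4 LD3_c29)) = (LP (LK LD1_c21 LD2_c57 LD3_c41)) :=
  Lgr Lrot152 (Lpr_gf (f767550 IH) (Lpe (f767549 IH) (Lpr_gt (K57.f662620 IH) (Lpe (f760634 IH) (Lpqs (K57.f761375 IH) (Lpq (K57.f761384 IH) (Lpe (K57.f523684 IH) (Lpr_ct (K7.f66473 IH) (Lpe (f66477 IH) (Lpe (f66478 IH) (Lpe (f66495 IH) (Lpn (LP (LK LD1_c21 LD2_c57 LD3_c41))))))))))))))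
theorem f767552 : Led Lsl_ct (LP (LK LD1_c14 LD2_c4 LD3_c29)) = (LP (LK LD1_c21 LD2_c57 LD3_c41)) :=
  Leop (Lpe (f767551 IH) (Lpn (LP (LK LD1_c14 LD2_c4 LD3_c29))))
theorem seed_1222 : LEOK LG_c (LK LD1_c14 LD2_c4 LD3_c29) :=
  Leoe_c (LK LD1_c14 LD2_c4 LD3_c29) (f767552 IH)
def v18586 : LQ := Led Lsl_gt (LP (LK LD1_c6 LD2_c30 LD3_c60))
theorem f767573 : Led Lsl_gt (LP (LK LD1_c6 LD2_c30 LD3_c60)) = v18586 :=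
  Lrfl
theorem f153315 : Led Lsl_ft (LP (LK LD1_c6 LD2_c30 LD3_c60)) = (LP (LK LD1_c12 LD2_c30 LD3_c38)) :=
  Lre_f IH (LK LD1_c6 LD2_c30 LD3_c60) (LK LD1_c12 LD2_c30 LD3_c38) Lrfl Lrfl
theorem f107015 : Led Lsl_ct (LP (LK LD1_c14 LD2_c4 LD3_c33)) = (LP (LK LD1_c7 LD2_c26 LD3_c56)) :=
  Lre_c IH (LK LD1_c14 LD2_c4 LD3_c33) (LK LD1_c7 LD2_c26 LD3_c56) Lrfl Lrfl
theorem f107016 : Led Lsl_at (LP (LK LD1_c12 LD2_c30 LD3_c38)) = (LP (LK LD1_c14 LD2_c4 LD3_c33)) :=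
  Lgr Lrot107 (Lpe (K3.f107011 IH) (Lpr_af (K3.f107004 IH) (Lpe (f107015 IH) (Lpn (LP (LK LD1_c14 LD2_c4 LD3_c33))))))
theorem f767574 : Led Lsl_gf (LP (LK LD1_c14 LD2_c4 LD3_c33)) = v18586 :=
  Lgr Lrot76 (Lpe (f107016 IH) (Lpe (f153315 IH) (Lpr_gt (f767573 IH) (Lpn v18586))))
theorem f107055 : Led Lsl_dt (LP (LK LD1_c7 LD2_c26 LD3_c56)) = (LP (LK LD1_c3 LD2_c43 LD3_c7)) :=
  Lre_d IH (LK LD1_c7 LD2_c26 LD3_c56) (LK LD1_c3 LD2_c43 LD3_c7) Lrfl Lrfl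
theorem f662624 : Led Lsl_cf (LP (LK LD1_c3 LD2_c43 LD3_c7)) = K57.v7242 :=
  Lgr Lrot108 (Lpr_ft (f440567 IH) (Lpr_ct (K3.f107022 IH) (Lpr_ft (K57.f662622 IH) (Lpn K57.v7242))))
theorem f527312 : Led Lsl_ef (LP (LK LD1_c1 LD2_c48 LD3_c17)) = K57.v2546 :=
  Lgr Lrot88 (Lpr_et (K57.f527309 IH) (Lpn K57.v2546))
theorem f527314 : Led Lsl_dt K56.v790 = K57.v2546 :=
  Lgr Lrot77 (Lpe (K56.f459397 IH) (Lpe (K4.f124107 IH) (Lpe (K4.f124146 IH) (Lpe (K5.f125090 IH) (Lpr_ef (f527312 IH) (Lpn K57.v2546))))))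
def v9230 : LQ := Led Lsl_gt K57.v2546
theorem f674780 : Led Lsl_gt K57.v2546 = v9230 :=
  Lrfl
theorem f767575 : Led Lsl_ct v9230 = v18586 :=
  Lgr Lrot152 (Lpe (f674780 IH) (Lpe (f527314 IH) (Lpr_gt (K57.f625375 IH) (Lpr_ct (K57.f680804 IH) (Lpq (K57.f761408 IH) (Lpr_gt (K57.f662632 IH) (Lpe (f662624 IH) (Lpe (f107055 IH) (Lpe (f107015 IH) (Lpr_gf (f767574 IH) (Lpn v18586)))))))))))
theorem f95801 : Led Lsl_ct (LP (LK LD1_c3 LD2_c13 LD3_c39)) = (LP (LK LD1_c6 LD2_c30 LD3_c60)) :=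
  Lre_c IH (LK LD1_c3 LD2_c13 LD3_c39) (LK LD1_c6 LD2_c30 LD3_c60) Lrfl Lrfl
theorem f767577 : Led Lsl_bt v9230 = (LP (LK LD1_c12 LD2_c16 LD3_c11)) :=
  Lgr Lrot22 (Lpr_ct (f767575 IH) (Lpe (f767573 IH) (Lpe (f95801 IH) (Lpr_gf (f649535 IH) (Lpq (f663556 IH) (Lpe (K48.f415311 IH) (Lpr_ct (K32.f415315 IH) (Lpe (K32.f444666 IH) (Lpe (K32.f77365 IH) (Lpr_bt (K32.f77122 IH) (Lpe (K57.f761332 IH) (Lpn (LP (LK LD1_c12 LD2_c16 LD3_c11))))))))))))))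
theorem f761662 : Led Lsl_ff (LP (LK LD1_c6 LD2_c21 LD3_c14)) = K57.v17675 :=
  Lgr Lrot3 (Lpr_ft (K57.f761660 IH) (Lpn K57.v17675))
theorem f761685 : K57.v17673 = (LP (LK LD1_c12 LD2_c16 LD3_c11)) :=
  (Llr Lrot26 (Lpe (K57.f761649 IH) (Lpr_ff (f761662 IH) (Lpq (K57.f761670 IH) (Lpr_gt (K57.f77630 IH) (Lpr_gt (K57.f77629 IH) (Lpn (LP (LK LD1_c12 LD2_c16 LD3_c11))))))))).symm
theorem f761655 : Led Lsl_ff (LP (LK LD1_c6 LD2_c21 LD3_c15)) = K57.v17673 :=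
  Lgr Lrot3 (Lpr_ft (K57.f761653 IH) (Lpn K57.v17673))
theorem f107040 : Led Lsl_ft (LP (LK LD1_c12 LD2_c30 LD3_c38)) = (LP (LK LD1_c6 LD2_c30 LD3_c60)) :=
  Lre_f IH (LK LD1_c12 LD2_c30 LD3_c38) (LK LD1_c6 LD2_c30 LD3_c60) Lrfl Lrfl
theorem f106999 : Led Lsl_ct (LP (LK LD1_c3 LD2_c43 LD3_c6)) = (LP (LK LD1_c7 LD2_c26 LD3_c55)) :=
  Lre_c IH (LK LD1_c3 LD2_c43 LD3_c6) (LK LD1_c7 LD2_c26 LD3_c55) Lrfl Lrfl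
theorem f107041 : Led Lsl_at (LP (LK LD1_c6 LD2_c30 LD3_c60)) = (LP (LK LD1_c7 LD2_c26 LD3_c55)) :=
  Lgr Lrot33 (Lpe (f107040 IH) (Lpr_dt (K3.f107031 IH) (Lpr_ct (K3.f107028 IH) (Lpr_dt (K3.f107032 IH) (Lpr_ct (K3.f107033 IH) (Lpr_dt (K3.f107034 IH) (Lpr_ct (K3.f107035 IH) (Lpr_dt (K48.f107036 IH) (Lpr_ct (f106999 IH) (Lpn (LP (LK LD1_c7 LD2_c26 LD3_c55))))))))))))
theorem f761390 : Led Lsl_gf (LP (LK LD1_c13 LD2_c52 LD3_c24)) = (LP (LK LD1_c12 LD2_c30 LD3_c38)) :=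
  Lgr Lrot47 (Lpr_gt (K57.f761388 IH) (Lpe (f107041 IH) (Lpe (f107040 IH) (Lpn (LP (LK LD1_c12 LD2_c30 LD3_c38))))))
theorem f662634 : Led Lsl_gf (LP (LK LD1_c6 LD2_c30 LD3_c61)) = K57.v7243 :=
  Lgr Lrot76 (Lpr_af (K3.f107004 IH) (Lpe (K3.f106987 IH) (Lpr_gt (K57.f662633 IH) (Lpn K57.v7243))))
theorem f415761 : Led Lsl_bt (LP (LK LD1_c1 LD2_c37 LD3_c20)) = (LP (LK LD1_c3 LD2_c22 LD3_c4)) :=
  Lre_b IH (LK LD1_c1 LD2_c37 LD3_c20) (LK LD1_c3 LD2_c22 LD3_c4) Lrfl Lrfl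
theorem f761395 : Led Lsl_bt (LP (LK LD1_c7 LD2_c20 LD3_c4)) = (LP (LK LD1_c6 LD2_c21 LD3_c15)) :=
  Lgr Lrot22 (Lpr_ct (K57.f523682 IH) (Lpr_gf (f761390 IH) (Lpe (K3.f107011 IH) (Lpr_gf (f662634 IH) (Lpq (K57.f662912 IH) (Lpe (f415761 IH) (Lpr_ct (K32.f415750 IH) (Lpr_gf (K52.f415755 IH) (Lpe (K2.f67065 IH) (Lpr_bt (K6.f77737 IH) (Lpe (K57.f77121 IH) (Lpn (LP (LK LD1_c6 LD2_c21 LD3_c15))))))))))))))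
theorem f761397 : Led Lsl_bf (LP (LK LD1_c7 LD2_c20 LD3_c4)) = (LP (LK LD1_c6 LD2_c21 LD3_c15)) :=
  Lgr Lrot24 (Lpr_bt (f761395 IH) (Lpn (LP (LK LD1_c6 LD2_c21 LD3_c15))))
theorem f767579 : Led Lsl_ff v9230 = (LP (LK LD1_c7 LD2_c20 LD3_c4)) :=
  Lgr Lrot25 (Lpr_bt (f767577 IH) (Lpq (f761685 IH) (Lpe (f761655 IH) (Lpe (f761397 IH) (Lpn (LP (LK LD1_c7 LD2_c20 LD3_c4)))))))
theorem f767582 : Led Lsl_at v9230 = (LP (LK LD1_c7 LD2_c20 LD3_c3)) :=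
  Lgr Lrot26 (Lpr_ff (f767579 IH) (Lpr_gt (K57.f12471 IH) (Lpr_gt (K57.f12468 IH) (Lpn (LP (LK LD1_c7 LD2_c20 LD3_c3))))))
theorem f767578 : Led Lsl_bf v9230 = (LP (LK LD1_c12 LD2_c16 LD3_c11)) :=
  Lgr Lrot24 (Lpr_bt (f767577 IH) (Lpn (LP (LK LD1_c12 LD2_c16 LD3_c11))))
theorem f140916 : Led Lsl_bt (LP (LK LD1_c12 LD2_c16 LD3_c30)) = (LP (LK LD1_c6 LD2_c21 LD3_c14)) :=
  Lre_b IH (LK LD1_c12 LD2_c16 LD3_c30) (LK LD1_c6 LD2_c21 LD3_c14) Lrfl Lrfl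
theorem f99172 : Led Lsl_ct (LP (LK LD1_c2 LD2_c21 LD3_c36)) = (LP (LK LD1_c4 LD2_c47 LD3_c30)) :=
  Lre_c IH (LK LD1_c2 LD2_c21 LD3_c36) (LK LD1_c4 LD2_c47 LD3_c30) Lrfl Lrfl
theorem f416088 : Led Lsl_bt (LP (LK LD1_c2 LD2_c21 LD3_c36)) = (LP (LK LD1_c1 LD2_c8 LD3_c34)) :=
  Lre_b IH (LK LD1_c2 LD2_c21 LD3_c36) (LK LD1_c1 LD2_c8 LD3_c34) Lrfl Lrfl
theorem f77366 : Led Lsl_ct (LP (LK LD1_c6 LD2_c21 LD3_c21)) = (LP (LK LD1_c3 LD2_c8 LD3_c23)) :=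
  Lre_c IH (LK LD1_c6 LD2_c21 LD3_c21) (LK LD1_c3 LD2_c8 LD3_c23) Lrfl Lrfl
theorem f416078 : Led Lsl_gt (LP (LK LD1_c4 LD2_c50 LD3_c11)) = (LP (LK LD1_c6 LD2_c21 LD3_c21)) :=
  Lgr Lrot150 (Lpe (K35.f416077 IH) (Lpe (K32.f154226 IH) (Lpe (K16.f135600 IH) (Lpr_gt (K29.f23819 IH) (Lpr_ct (K55.f415545 IH) (Lpr_gt (K24.f77388 IH) (Lpe (K9.f77374 IH) (Lpe (K24.f77354 IH) (Lpe (f77366 IH) (Lpn (LP (LK LD1_c6 LD2_c21 LD3_c21))))))))))))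
theorem f77139 : Led Lsl_gt (LP (LK LD1_c6 LD2_c21 LD3_c17)) = (LP (LK LD1_c12 LD2_c16 LD3_c12)) :=
  Lre_g IH (LK LD1_c6 LD2_c21 LD3_c17) (LK LD1_c12 LD2_c16 LD3_c12) Lrfl Lrfl
theorem f715921 : Led Lsl_bf (LP (LK LD1_c12 LD2_c16 LD3_c12)) = (LP (LK LD1_c12 LD2_c16 LD3_c4)) :=
  Lgr Lrot34 (Lpe (f77139 IH) (Lpe (K32.f77122 IH) (Lpr_ct (K32.f77365 IH) (Lpe (f416078 IH) (Lpe (K35.f416077 IH) (Lpe (K32.f154226 IH) (Lpe (f416088 IH) (Lpr_ct (f99172 IH) (Lpe (K52.f152848 IH) (Lpr_cf (K52.f715913 IH) (Lpn (LP (LK LD1_c12 LD2_c16 LD3_c4)))))))))))))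
theorem f715923 : Led Lsl_bt (LP (LK LD1_c12 LD2_c16 LD3_c12)) = (LP (LK LD1_c12 LD2_c16 LD3_c4)) :=
  Lgr Lrot127 (Lpr_bf (f715921 IH) (Lpn (LP (LK LD1_c12 LD2_c16 LD3_c4))))
theorem f761675 : Led Lsl_ff (LP (LK LD1_c12 LD2_c16 LD3_c30)) = (LP (LK LD1_c12 LD2_c16 LD3_c4)) :=
  Lgr Lrot25 (Lpr_bt (f140916 IH) (Lpr_ft (K57.f761660 IH) (Lpq (K57.f761670 IH) (Lpr_bt (f715923 IH) (Lpn (LP (LK LD1_c12 LD2_c16 LD3_c4)))))))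
theorem f761681 : Led Lsl_at (LP (LK LD1_c12 LD2_c16 LD3_c30)) = (LP (LK LD1_c12 LD2_c16 LD3_c3)) :=
  Lgr Lrot26 (Lpr_ff (f761675 IH) (Lpr_gt (K52.f126995 IH) (Lpr_gt (K57.f126993 IH) (Lpn (LP (LK LD1_c12 LD2_c16 LD3_c3))))))
theorem f761683 : Led Lsl_af (LP (LK LD1_c12 LD2_c16 LD3_c30)) = (LP (LK LD1_c12 LD2_c16 LD3_c3)) :=
  Lgr Lrot0 (Lpr_at (f761681 IH) (Lpn (LP (LK LD1_c12 LD2_c16 LD3_c3))))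
theorem f767584 : Led Lsl_bf (LP (LK LD1_c12 LD2_c16 LD3_c3)) = (LP (LK LD1_c7 LD2_c20 LD3_c3)) :=
  Lgr Lrot81 (Lpe (f761683 IH) (Lpr_bt (f140916 IH) (Lpr_at (K57.f761649 IH) (Lpqs (f761685 IH) (Lpe (f767578 IH) (Lpr_at (f767582 IH) (Lpn (LP (LK LD1_c7 LD2_c20 LD3_c3)))))))))
theorem f767585 : Led Lsl_bt (LP (LK LD1_c7 LD2_c20 LD3_c3)) = (LP (LK LD1_c12 LD2_c16 LD3_c3)) :=
  Leop (Lpr_bf (f767584 IH) (Lpn (LP (LK LD1_c7 LD2_c20 LD3_c3))))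
theorem seed_1223 : LEOK LG_b (LK LD1_c7 LD2_c20 LD3_c3) :=
  Leoe_b (LK LD1_c7 LD2_c20 LD3_c3) (f767585 IH)
def v18604 : LQ := Led Lsl_ft (LP (LK LD1_c6 LD2_c31 LD3_c14))
theorem f767662 : Led Lsl_ft (LP (LK LD1_c6 LD2_c31 LD3_c14)) = v18604 :=
  Lrfl
theorem f767666 : Led Lsl_ff (LP (LK LD1_c6 LD2_c31 LD3_c14)) = v18604 :=
  Lgr Lrot3 (Lpr_ft (f767662 IH) (Lpn v18604))
theorem f22707 : Led Lsl_at (LP (LK LD1_c6 LD2_c31 LD3_c14)) = (LP (LK LD1_c3 LD2_c14 LD3_c15)) :=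
  Lre_a IH (LK LD1_c6 LD2_c31 LD3_c14) (LK LD1_c3 LD2_c14 LD3_c15) Lrfl Lrfl
theorem f22701 : Led Lsl_ft (LP (LK LD1_c3 LD2_c14 LD3_c15)) = (LP (LK LD1_c6 LD2_c32 LD3_c13)) :=
  Lre_f IH (LK LD1_c3 LD2_c14 LD3_c15) (LK LD1_c6 LD2_c32 LD3_c13) Lrfl Lrfl
theorem f767668 : Led Lsl_at (LP (LK LD1_c6 LD2_c32 LD3_c13)) = v18604 :=
  Lgr Lrot66 (Lpe (f22701 IH) (Lpe (f22707 IH) (Lpr_ff (f767666 IH) (Lpn v18604))))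
theorem f22702 : Led Lsl_gt (LP (LK LD1_c3 LD2_c14 LD3_c15)) = (LP (LK LD1_c6 LD2_c32 LD3_c10)) :=
  Lre_g IH (LK LD1_c3 LD2_c14 LD3_c15) (LK LD1_c6 LD2_c32 LD3_c10) Lrfl Lrfl
theorem f767672 : Led Lsl_gt (LP (LK LD1_c6 LD2_c32 LD3_c10)) = v18604 :=
  Lgr Lrot46 (Lpe (f22702 IH) (Lpr_ft (f22701 IH) (Lpr_at (f767668 IH) (Lpn v18604))))
theorem f767665 : Led Lsl_df K50.v5822 = v18604 :=
  Lgr Lrot78 (Lpe (K50.f649579 IH) (Lpr_dt (K48.f23775 IH) (Lpr_ft (f767662 IH) (Lpn v18604))))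
theorem f446150 : Led Lsl_gt (LP (LK LD1_c4 LD2_c49 LD3_c60)) = (LP (LK LD1_c9 LD2_c32 LD3_c32)) :=
  Lre_g IH (LK LD1_c4 LD2_c49 LD3_c60) (LK LD1_c9 LD2_c32 LD3_c32) Lrfl Lrfl
theorem f767673 : Led Lsl_df (LP (LK LD1_c6 LD2_c32 LD3_c10)) = (LP (LK LD1_c9 LD2_c32 LD3_c32)) :=
  Lgr Lrot153 (Lpr_gt (f767672 IH) (Lpe (f767665 IH) (Lpe (K50.f649582 IH) (Lpe (K48.f506878 IH) (Lpe (K48.f506882 IH) (Lpe (K48.f23738 IH) (Lpr_gf (K49.f649875 IH) (Lpq (K49.f662773 IH) (Lpe (K46.f446154 IH) (Lpr_gt (f446150 IH) (Lpn (LP (LK LD1_c9 LD2_c32 LD3_c32)))))))))))))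
theorem f767674 : Led Lsl_dt (LP (LK LD1_c9 LD2_c32 LD3_c32)) = (LP (LK LD1_c6 LD2_c32 LD3_c10)) :=
  Leop (Lpr_df (f767673 IH) (Lpn (LP (LK LD1_c9 LD2_c32 LD3_c32))))
theorem seed_1224 : LEOK LG_d (LK LD1_c9 LD2_c32 LD3_c32) :=
  Leoe_d (LK LD1_c9 LD2_c32 LD3_c32) (f767674 IH)
def v18692 : LQ := Led Lsl_at (LP (LK LD1_c6 LD2_c32 LD3_c10))
theorem f768069 : Led Lsl_at (LP (LK LD1_c6 LD2_c32 LD3_c10)) = v18692 :=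
  Lrfl
theorem f768070 : Led Lsl_af (LP (LK LD1_c6 LD2_c32 LD3_c10)) = v18692 :=
  Lgr Lrot0 (Lpr_at (f768069 IH) (Lpn v18692))
theorem f767675 : Led Lsl_ct (LP (LK LD1_c12 LD2_c32 LD3_c8)) = (LP (LK LD1_c6 LD2_c32 LD3_c10)) :=
  Lre_c IH (LK LD1_c12 LD2_c32 LD3_c8) (LK LD1_c6 LD2_c32 LD3_c10) Lrfl Lrfl
theorem f768071 : Led Lsl_ft (LP (LK LD1_c6 LD2_c32 LD3_c11)) = v18692 :=
  Lgr Lrot2 (Lpr_gt (K50.f22705 IH) (Lpr_gt (f22702 IH) (Lpr_af (f768070 IH) (Lpn v18692))))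
theorem f649584 : Led Lsl_dt (LP (LK LD1_c3 LD2_c14 LD3_c14)) = (LP (LK LD1_c6 LD2_c32 LD3_c8)) :=
  Lre_d IH (LK LD1_c3 LD2_c14 LD3_c14) (LK LD1_c6 LD2_c32 LD3_c8) Lrfl Lrfl
theorem f649585 : Led Lsl_ct (LP (LK LD1_c6 LD2_c32 LD3_c8)) = (LP (LK LD1_c12 LD2_c32 LD3_c6)) :=
  Lre_c IH (LK LD1_c6 LD2_c32 LD3_c8) (LK LD1_c12 LD2_c32 LD3_c6) Lrfl Lrfl
theorem f768072 : Led Lsl_df (LP (LK LD1_c12 LD2_c32 LD3_c8)) = (LP (LK LD1_c12 LD2_c32 LD3_c6)) :=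
  Lgr Lrot177 (Lpr_ct (f767675 IH) (Lpr_af (f768070 IH) (Lpe (f768071 IH) (Lpr_dt (K50.f705882 IH) (Lpe (K50.f705877 IH) (Lpe (K50.f701780 IH) (Lpe (K50.f649837 IH) (Lpr_dt (f649584 IH) (Lpr_ct (f649585 IH) (Lpn (LP (LK LD1_c12 LD2_c32 LD3_c6))))))))))))
theorem f768073 : Led Lsl_dt (LP (LK LD1_c12 LD2_c32 LD3_c6)) = (LP (LK LD1_c12 LD2_c32 LD3_c8)) :=
  Leop (Lpr_df (f768072 IH) (Lpn (LP (LK LD1_c12 LD2_c32 LD3_c6))))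
theorem seed_1225 : LEOK LG_d (LK LD1_c12 LD2_c32 LD3_c6) :=
  Leoe_d (LK LD1_c12 LD2_c32 LD3_c6) (f768073 IH)
def v17565 : LQ := Led Lsl_gt (LP (LK LD1_c6 LD2_c20 LD3_c30))
theorem f760933 : Led Lsl_gt (LP (LK LD1_c6 LD2_c20 LD3_c30)) = v17565 :=
  Lrfl
def v18702 : LQ := Led Lsl_ct (LP (LK LD1_c6 LD2_c32 LD3_c14))
theorem f768112 : Led Lsl_ct (LP (LK LD1_c6 LD2_c32 LD3_c14)) = v18702 :=
  Lrfl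
theorem f648892 : Led Lsl_dt (LP (LK LD1_c6 LD2_c32 LD3_c14)) = (LP (LK LD1_c3 LD2_c14 LD3_c17)) :=
  Lre_d IH (LK LD1_c6 LD2_c32 LD3_c14) (LK LD1_c3 LD2_c14 LD3_c17) Lrfl Lrfl
def v6216 : LQ := Led Lsl_et (LP (LK LD1_c3 LD2_c19 LD3_c12))
theorem f652124 : Led Lsl_et (LP (LK LD1_c3 LD2_c19 LD3_c12)) = v6216 :=
  Lrfl
theorem f652126 : Led Lsl_ef (LP (LK LD1_c3 LD2_c19 LD3_c12)) = v6216 :=
  Lgr Lrot88 (Lpr_et (f652124 IH) (Lpn v6216))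
theorem f652127 : Led Lsl_bt (LP (LK LD1_c3 LD2_c19 LD3_c15)) = v6216 :=
  Lgr Lrot119 (Lpe (K48.f148407 IH) (Lpe (K57.f446051 IH) (Lpr_ef (f652126 IH) (Lpn v6216))))
theorem f652129 : Led Lsl_df K46.v5826 = v6216 :=
  Lgr Lrot12 (Lpe (K46.f649605 IH) (Lpe (K48.f148405 IH) (Lpr_bt (f652127 IH) (Lpn v6216))))
theorem f652130 : Led Lsl_dt K46.v5826 = v6216 :=
  Lgr Lrot42 (Lpr_df (f652129 IH) (Lpn v6216))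
theorem f663846 : Led Lsl_ff (LP (LK LD1_c6 LD2_c32 LD3_c14)) = v6216 :=
  Lgr Lrot19 (Lpr_dt (f648892 IH) (Lpr_ft (K48.f649845 IH) (Lpqs (K48.f663664 IH) (Lpr_dt (f652130 IH) (Lpn v6216)))))
def v17472 : LQ := Led Lsl_et (LP (LK LD1_c6 LD2_c19 LD3_c39))
theorem f759972 : Led Lsl_et (LP (LK LD1_c6 LD2_c19 LD3_c39)) = v17472 :=
  Lrfl
theorem f759974 : Led Lsl_cf v6216 = v17472 :=
  Lgr Lrot39 (Lpe (f652126 IH) (Lpe (K57.f500051 IH) (Lpr_et (f759972 IH) (Lpn v17472))))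
theorem f768115 : Led Lsl_ff v17472 = v18702 :=
  Lgr Lrot23 (Lpe (f759974 IH) (Lpe (f663846 IH) (Lpr_ct (f768112 IH) (Lpn v18702))))
theorem f110461 : Led Lsl_et (LP (LK LD1_c6 LD2_c20 LD3_c30)) = (LP (LK LD1_c3 LD2_c7 LD3_c48)) :=
  Lre_e IH (LK LD1_c6 LD2_c20 LD3_c30) (LK LD1_c3 LD2_c7 LD3_c48) Lrfl Lrfl
theorem f759973 : Led Lsl_af (LP (LK LD1_c6 LD2_c20 LD3_c30)) = v17472 :=
  Lgr Lrot50 (Lpr_et (f110461 IH) (Lpr_at (K57.f647551 IH) (Lpq (K57.f663716 IH) (Lpr_et (f759972 IH) (Lpn v17472)))))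
def v17568 : LQ := Led Lsl_ft (LP (LK LD1_c6 LD2_c20 LD3_c30))
theorem f760949 : Led Lsl_ft (LP (LK LD1_c6 LD2_c20 LD3_c30)) = v17568 :=
  Lrfl
theorem f768118 : Led Lsl_at v17568 = v18702 :=
  Lgr Lrot66 (Lpe (f760949 IH) (Lpr_af (f759973 IH) (Lpr_ff (f768115 IH) (Lpn v18702))))
theorem f649876 : Led Lsl_bt (LP (LK LD1_c6 LD2_c32 LD3_c14)) = (LP (LK LD1_c3 LD2_c14 LD3_c19)) :=
  Lre_b IH (LK LD1_c6 LD2_c32 LD3_c14) (LK LD1_c3 LD2_c14 LD3_c19) Lrfl Lrfl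
def v17567 : LQ := Led Lsl_dt (LP (LK LD1_c6 LD2_c20 LD3_c30))
theorem f760935 : Led Lsl_dt (LP (LK LD1_c6 LD2_c20 LD3_c30)) = v17567 :=
  Lrfl
theorem f110459 : Led Lsl_et (LP (LK LD1_c0 LD2_c41 LD3_c38)) = (LP (LK LD1_c1 LD2_c30 LD3_c6)) :=
  Lre_e IH (LK LD1_c0 LD2_c41 LD3_c38) (LK LD1_c1 LD2_c30 LD3_c6) Lrfl Lrfl
theorem f82345 : Led Lsl_et (LP (LK LD1_c3 LD2_c12 LD3_c4)) = (LP (LK LD1_c1 LD2_c32 LD3_c32)) :=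
  Lre_e IH (LK LD1_c3 LD2_c12 LD3_c4) (LK LD1_c1 LD2_c32 LD3_c32) Lrfl Lrfl
def v5691 : LQ := Led Lsl_dt (LP (LK LD1_c3 LD2_c12 LD3_c4))
theorem f648875 : Led Lsl_dt (LP (LK LD1_c3 LD2_c12 LD3_c4)) = v5691 :=
  Lrfl
theorem f760938 : Led Lsl_gf v5691 = v17567 :=
  Lgr Lrot145 (Lpe (f648875 IH) (Lpr_et (f82345 IH) (Lpe (K8.f82346 IH) (Lpr_dt (K8.f110448 IH) (Lpr_gt (K8.f110447 IH) (Lpe (K5.f91441 IH) (Lpr_et (f110459 IH) (Lpr_gt (K57.f110460 IH) (Lpe (f110461 IH) (Lpr_dt (f760935 IH) (Lpn v17567)))))))))))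
theorem f648877 : Led Lsl_df (LP (LK LD1_c3 LD2_c12 LD3_c4)) = v5691 :=
  Lgr Lrot38 (Lpr_dt (f648875 IH) (Lpn v5691))
def v17566 : LQ := Led Lsl_gf (LP (LK LD1_c6 LD2_c20 LD3_c30))
theorem f760934 : Led Lsl_gf (LP (LK LD1_c6 LD2_c20 LD3_c30)) = v17566 :=
  Lrfl
theorem f760940 : Led Lsl_ct K51.v5442 = v17566 :=
  Lgr Lrot8 (Lpe (K51.f647670 IH) (Lpr_dt (K51.f506668 IH) (Lpe (K51.f506666 IH) (Lpe (K51.f82661 IH) (Lpe (K46.f82782 IH) (Lpr_df (f648877 IH) (Lpr_gf (f760938 IH) (Lpe (f760935 IH) (Lpr_gf (f760934 IH) (Lpn v17566))))))))))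
theorem f768116 : Led Lsl_gf v17566 = v18702 :=
  Lgr Lrot126 (Lpe (f760940 IH) (Lpqs (K51.f707580 IH) (Lpe (K51.f647930 IH) (Lpr_gt (K24.f82576 IH) (Lpr_ct (K48.f82645 IH) (Lpr_gt (K32.f454595 IH) (Lpe (K24.f446142 IH) (Lpr_bt (K48.f446139 IH) (Lpqs (K49.f662773 IH) (Lpe (K49.f649875 IH) (Lpe (f649876 IH) (Lpr_ct (f768112 IH) (Lpn v18702)))))))))))))
theorem f760941 : Led Lsl_cf K51.v5442 = v17566 :=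
  Lgr Lrot166 (Lpe (K51.f647670 IH) (Lpr_dt (K51.f506668 IH) (Lpe (K51.f506666 IH) (Lpe (K51.f82661 IH) (Lpr_ct (K50.f82781 IH) (Lpr_df (f648877 IH) (Lpr_gf (f760938 IH) (Lpe (f760935 IH) (Lpr_gf (f760934 IH) (Lpn v17566))))))))))
theorem f707859 : Led Lsl_af (LP (LK LD1_c6 LD2_c29 LD3_c13)) = K51.v5492 :=
  Lgr Lrot45 (Lpr_ft (K51.f707848 IH) (Lpe (K51.f707854 IH) (Lpqs (K51.f707856 IH) (Lpe (K51.f649262 IH) (Lpn K51.v5492)))))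
theorem f91455 : Led Lsl_ct (LP (LK LD1_c6 LD2_c29 LD3_c13)) = (LP (LK LD1_c12 LD2_c28 LD3_c45)) :=
  Lre_c IH (LK LD1_c6 LD2_c29 LD3_c13) (LK LD1_c12 LD2_c28 LD3_c45) Lrfl Lrfl
theorem f760942 : Led Lsl_at (LP (LK LD1_c12 LD2_c28 LD3_c45)) = v17566 :=
  Lgr Lrot107 (Lpe (f91455 IH) (Lpr_af (f707859 IH) (Lpq (K51.f707580 IH) (Lpr_cf (f760941 IH) (Lpn v17566)))))
theorem f91460 : Led Lsl_ct (LP (LK LD1_c12 LD2_c28 LD3_c45)) = (LP (LK LD1_c6 LD2_c29 LD3_c13)) :=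
  Lre_c IH (LK LD1_c12 LD2_c28 LD3_c45) (LK LD1_c6 LD2_c29 LD3_c13) Lrfl Lrfl
theorem f91462 : Led Lsl_ct (LP (LK LD1_c6 LD2_c20 LD3_c6)) = (LP (LK LD1_c12 LD2_c14 LD3_c55)) :=
  Lre_c IH (LK LD1_c6 LD2_c20 LD3_c6) (LK LD1_c12 LD2_c14 LD3_c55) Lrfl Lrfl
theorem f707850 : Led Lsl_ff (LP (LK LD1_c12 LD2_c28 LD3_c45)) = (LP (LK LD1_c12 LD2_c14 LD3_c55)) :=
  Lgr Lrot23 (Lpr_ct (f91460 IH) (Lpr_ft (K51.f707848 IH) (Lpr_ct (f91462 IH) (Lpn (LP (LK LD1_c12 LD2_c14 LD3_c55))))))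
theorem f768117 : Led Lsl_gt (LP (LK LD1_c12 LD2_c14 LD3_c55)) = v18702 :=
  Lgr Lrot5 (Lpe (f707850 IH) (Lpr_at (f760942 IH) (Lpr_gf (f768116 IH) (Lpn v18702))))
theorem f768120 : v17565 = (LP (LK LD1_c12 LD2_c14 LD3_c55)) :=
  (Llr Lrot5 (Lpe (f760933 IH) (Lpr_ft (f760949 IH) (Lpr_at (f768118 IH) (Lpe (f768117 IH) (Lpn (LP (LK LD1_c12 LD2_c14 LD3_c55)))))))).symm
theorem f768121 : Led Lsl_gt (LP (LK LD1_c6 LD2_c20 LD3_c30)) = (LP (LK LD1_c12 LD2_c14 LD3_c55)) :=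
  Leop (Lpq (f768120 IH) (Lpe (f760933 IH) (Lpn (LP (LK LD1_c6 LD2_c20 LD3_c30)))))
theorem seed_1226 : LEOK LG_g (LK LD1_c6 LD2_c20 LD3_c30) :=
  Leoe_g (LK LD1_c6 LD2_c20 LD3_c30) (f768121 IH)
def v18713 : LQ := Led Lsl_ct (LP (LK LD1_c6 LD2_c32 LD3_c19))
theorem f768151 : Led Lsl_ct (LP (LK LD1_c6 LD2_c32 LD3_c19)) = v18713 :=
  Lrfl
theorem f653189 : Led Lsl_ft (LP (LK LD1_c4 LD2_c49 LD3_c59)) = K48.v6392 :=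
  Lgr Lrot48 (Lpr_ff (K48.f653187 IH) (Lpn K48.v6392))
theorem f454646 : Led Lsl_ct (LP (LK LD1_c9 LD2_c32 LD3_c31)) = (LP (LK LD1_c4 LD2_c49 LD3_c59)) :=
  Lre_c IH (LK LD1_c9 LD2_c32 LD3_c31) (LK LD1_c4 LD2_c49 LD3_c59) Lrfl Lrfl
theorem f768155 : Led Lsl_ff (LP (LK LD1_c9 LD2_c32 LD3_c31)) = v18713 :=
  Lgr Lrot23 (Lpr_ct (f454646 IH) (Lpr_ft (f653189 IH) (Lpq (K48.f662762 IH) (Lpr_ct (f768151 IH) (Lpn v18713)))))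
theorem f446268 : Led Lsl_at (LP (LK LD1_c9 LD2_c32 LD3_c31)) = (LP (LK LD1_c4 LD2_c49 LD3_c60)) :=
  Lre_a IH (LK LD1_c9 LD2_c32 LD3_c31) (LK LD1_c4 LD2_c49 LD3_c60) Lrfl Lrfl
theorem f768158 : Led Lsl_at (LP (LK LD1_c6 LD2_c46 LD3_c23)) = v18713 :=
  Lgr Lrot66 (Lpr_ff (K46.f454742 IH) (Lpe (f446268 IH) (Lpr_ff (f768155 IH) (Lpn v18713))))
theorem f768160 : Led Lsl_gt (LP (LK LD1_c9 LD2_c32 LD3_c32)) = v18713 :=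
  Lgr Lrot46 (Lpe (f446150 IH) (Lpe (K46.f454742 IH) (Lpr_at (f768158 IH) (Lpn v18713))))
theorem f23750 : Led Lsl_ct (LP (LK LD1_c12 LD2_c31 LD3_c1)) = (LP (LK LD1_c6 LD2_c31 LD3_c14)) :=
  Lre_c IH (LK LD1_c12 LD2_c31 LD3_c1) (LK LD1_c6 LD2_c31 LD3_c14) Lrfl Lrfl
theorem f22507 : Led Lsl_ct (LP (LK LD1_c0 LD2_c43 LD3_c25)) = (LP (LK LD1_c1 LD2_c33 LD3_c39)) :=
  Lre_c IH (LK LD1_c0 LD2_c43 LD3_c25) (LK LD1_c1 LD2_c33 LD3_c39) Lrfl Lrfl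
theorem f22696 : Led Lsl_ct (LP (LK LD1_c3 LD2_c14 LD3_c15)) = (LP (LK LD1_c6 LD2_c32 LD3_c12)) :=
  Lre_c IH (LK LD1_c3 LD2_c14 LD3_c15) (LK LD1_c6 LD2_c32 LD3_c12) Lrfl Lrfl
theorem f23731 : Led Lsl_at (LP (LK LD1_c12 LD2_c31 LD3_c1)) = (LP (LK LD1_c6 LD2_c32 LD3_c12)) :=
  Lre_a IH (LK LD1_c12 LD2_c31 LD3_c1) (LK LD1_c6 LD2_c32 LD3_c12) Lrfl Lrfl
theorem f22584 : Led Lsl_ct (LP (LK LD1_c1 LD2_c33 LD3_c39)) = (LP (LK LD1_c0 LD2_c43 LD3_c25)) :=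
  Lre_c IH (LK LD1_c1 LD2_c33 LD3_c39) (LK LD1_c0 LD2_c43 LD3_c25) Lrfl Lrfl
theorem f22698 : Led Lsl_dt (LP (LK LD1_c3 LD2_c14 LD3_c15)) = (LP (LK LD1_c1 LD2_c33 LD3_c39)) :=
  Lre_d IH (LK LD1_c3 LD2_c14 LD3_c15) (LK LD1_c1 LD2_c33 LD3_c39) Lrfl Lrfl
theorem f22712 : Led Lsl_ct (LP (LK LD1_c6 LD2_c32 LD3_c12)) = (LP (LK LD1_c3 LD2_c14 LD3_c15)) :=
  Lre_c IH (LK LD1_c6 LD2_c32 LD3_c12) (LK LD1_c3 LD2_c14 LD3_c15) Lrfl Lrfl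
theorem f22716 : Led Lsl_dt (LP (LK LD1_c12 LD2_c32 LD3_c12)) = (LP (LK LD1_c6 LD2_c32 LD3_c12)) :=
  Lre_d IH (LK LD1_c12 LD2_c32 LD3_c12) (LK LD1_c6 LD2_c32 LD3_c12) Lrfl Lrfl
theorem f23732 : Led Lsl_ff (LP (LK LD1_c12 LD2_c31 LD3_c1)) = (LP (LK LD1_c12 LD2_c32 LD3_c12)) :=
  Lgr Lrot103 (Lpr_at (f23731 IH) (Lpe (f22696 IH) (Lpe (K50.f22587 IH) (Lpe (f22507 IH) (Lpr_df (K0.f23716 IH) (Lpe (f22584 IH) (Lpe (f22698 IH) (Lpe (f22712 IH) (Lpe (f22716 IH) (Lpn (LP (LK LD1_c12 LD2_c32 LD3_c12))))))))))))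
theorem f767664 : Led Lsl_cf (LP (LK LD1_c12 LD2_c32 LD3_c12)) = v18604 :=
  Lgr Lrot108 (Lpe (f23732 IH) (Lpr_ct (f23750 IH) (Lpr_ft (f767662 IH) (Lpn v18604))))
theorem f22717 : Led Lsl_gt (LP (LK LD1_c12 LD2_c32 LD3_c10)) = (LP (LK LD1_c6 LD2_c32 LD3_c12)) :=
  Lre_g IH (LK LD1_c12 LD2_c32 LD3_c10) (LK LD1_c6 LD2_c32 LD3_c12) Lrfl Lrfl
theorem f23757 : Led Lsl_gf (LP (LK LD1_c12 LD2_c32 LD3_c10)) = (LP (LK LD1_c12 LD2_c32 LD3_c12)) :=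
  Lgr Lrot47 (Lpr_gt (f22717 IH) (Lpe (f23731 IH) (Lpr_ff (f23732 IH) (Lpn (LP (LK LD1_c12 LD2_c32 LD3_c12))))))
theorem f768153 : Led Lsl_cf (LP (LK LD1_c6 LD2_c32 LD3_c19)) = v18713 :=
  Lgr Lrot11 (Lpr_ct (f768151 IH) (Lpn v18713))
theorem f438908 : Led Lsl_ct (LP (LK LD1_c3 LD2_c14 LD3_c22)) = (LP (LK LD1_c6 LD2_c32 LD3_c27)) :=
  Lre_c IH (LK LD1_c3 LD2_c14 LD3_c22) (LK LD1_c6 LD2_c32 LD3_c27) Lrfl Lrfl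
theorem f438930 : Led Lsl_dt (LP (LK LD1_c12 LD2_c32 LD3_c29)) = (LP (LK LD1_c6 LD2_c32 LD3_c27)) :=
  Lre_d IH (LK LD1_c12 LD2_c32 LD3_c29) (LK LD1_c6 LD2_c32 LD3_c27) Lrfl Lrfl
theorem f768161 : Led Lsl_ct (LP (LK LD1_c12 LD2_c32 LD3_c10)) = (LP (LK LD1_c12 LD2_c32 LD3_c29)) :=
  Lgr Lrot110 (Lpr_gf (f23757 IH) (Lpr_cf (f767664 IH) (Lpe (f767672 IH) (Lpr_df (f767673 IH) (Lpr_gt (f768160 IH) (Lpe (f768153 IH) (Lpr_gt (K46.f649890 IH) (Lpr_ct (f438908 IH) (Lpe (f438930 IH) (Lpn (LP (LK LD1_c12 LD2_c32 LD3_c29))))))))))))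
theorem f768162 : Led Lsl_ct (LP (LK LD1_c12 LD2_c32 LD3_c10)) = (LP (LK LD1_c12 LD2_c32 LD3_c29)) :=
  Leop (Lpe (f768161 IH) (Lpn (LP (LK LD1_c12 LD2_c32 LD3_c10))))
theorem seed_1227 : LEOK LG_c (LK LD1_c12 LD2_c32 LD3_c10) :=
  Leoe_c (LK LD1_c12 LD2_c32 LD3_c10) (f768162 IH)
def v18771 : LQ := Led Lsl_ft (LP (LK LD1_c6 LD2_c32 LD3_c56))
theorem f768378 : Led Lsl_ft (LP (LK LD1_c6 LD2_c32 LD3_c56)) = v18771 :=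
  Lrfl
theorem f137196 : Led Lsl_gt (LP (LK LD1_c6 LD2_c32 LD3_c56)) = (LP (LK LD1_c12 LD2_c33 LD3_c10)) :=
  Lre_g IH (LK LD1_c6 LD2_c32 LD3_c56) (LK LD1_c12 LD2_c33 LD3_c10) Lrfl Lrfl
theorem f95427 : Led Lsl_ft (LP (LK LD1_c3 LD2_c27 LD3_c16)) = (LP (LK LD1_c3 LD2_c50 LD3_c58)) :=
  Lgr Lrot75 (Lpe (K8.f94708 IH) (Lpr_ff (K2.f95425 IH) (Lpe (K4.f17140 IH) (Lpn (LP (LK LD1_c3 LD2_c50 LD3_c58))))))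
theorem f136851 : Led Lsl_at (LP (LK LD1_c3 LD2_c50 LD3_c58)) = (LP (LK LD1_c3 LD2_c14 LD3_c42)) :=
  Lgr Lrot26 (Lpe (f95427 IH) (Lpr_gt (K42.f136849 IH) (Lpr_gt (K36.f103524 IH) (Lpn (LP (LK LD1_c3 LD2_c14 LD3_c42))))))
theorem f95410 : Led Lsl_et (LP (LK LD1_c7 LD2_c43 LD3_c4)) = (LP (LK LD1_c3 LD2_c50 LD3_c58)) :=
  Lre_e IH (LK LD1_c7 LD2_c43 LD3_c4) (LK LD1_c3 LD2_c50 LD3_c58) Lrfl Lrfl
theorem f120450 : Led Lsl_et (LP (LK LD1_c3 LD2_c14 LD3_c42)) = (LP (LK LD1_c6 LD2_c32 LD3_c56)) :=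
  Lre_e IH (LK LD1_c3 LD2_c14 LD3_c42) (LK LD1_c6 LD2_c32 LD3_c56) Lrfl Lrfl
theorem f136853 : Led Lsl_af (LP (LK LD1_c7 LD2_c43 LD3_c4)) = (LP (LK LD1_c6 LD2_c32 LD3_c56)) :=
  Lgr Lrot50 (Lpr_et (f95410 IH) (Lpr_at (f136851 IH) (Lpr_et (f120450 IH) (Lpn (LP (LK LD1_c6 LD2_c32 LD3_c56))))))
theorem f136855 : Led Lsl_at (LP (LK LD1_c7 LD2_c43 LD3_c4)) = (LP (LK LD1_c6 LD2_c32 LD3_c56)) :=
  Lgr Lrot100 (Lpr_af (f136853 IH) (Lpn (LP (LK LD1_c6 LD2_c32 LD3_c56))))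
theorem f136911 : Led Lsl_ft (LP (LK LD1_c14 LD2_c32 LD3_c60)) = (LP (LK LD1_c7 LD2_c43 LD3_c4)) :=
  Lre_f IH (LK LD1_c14 LD2_c32 LD3_c60) (LK LD1_c7 LD2_c43 LD3_c4) Lrfl Lrfl
theorem f768379 : Led Lsl_af (LP (LK LD1_c14 LD2_c32 LD3_c60)) = v18771 :=
  Lgr Lrot45 (Lpr_ft (f136911 IH) (Lpr_at (f136855 IH) (Lpr_ft (f768378 IH) (Lpn v18771))))
theorem f768383 : Led Lsl_gt (LP (LK LD1_c12 LD2_c33 LD3_c10)) = (LP (LK LD1_c14 LD2_c32 LD3_c60)) :=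
  Lgr Lrot46 (Lpe (f137196 IH) (Lpr_ft (f768378 IH) (Lpe (f768379 IH) (Lpn (LP (LK LD1_c14 LD2_c32 LD3_c60))))))
theorem f768384 : Led Lsl_gt (LP (LK LD1_c12 LD2_c33 LD3_c10)) = (LP (LK LD1_c14 LD2_c32 LD3_c60)) :=
  Leop (Lpe (f768383 IH) (Lpn (LP (LK LD1_c12 LD2_c33 LD3_c10))))
theorem seed_1228 : LEOK LG_g (LK LD1_c12 LD2_c33 LD3_c10) :=
  Leoe_g (LK LD1_c12 LD2_c33 LD3_c10) (f768384 IH)
theorem f768382 : Led Lsl_ff (LP (LK LD1_c6 LD2_c32 LD3_c56)) = v18771 :=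
  Lgr Lrot3 (Lpr_ft (f768378 IH) (Lpn v18771))
theorem f136867 : Led Lsl_ft (LP (LK LD1_c7 LD2_c43 LD3_c4)) = (LP (LK LD1_c14 LD2_c32 LD3_c60)) :=
  Lre_f IH (LK LD1_c7 LD2_c43 LD3_c4) (LK LD1_c14 LD2_c32 LD3_c60) Lrfl Lrfl
theorem f768386 : Led Lsl_at (LP (LK LD1_c14 LD2_c32 LD3_c60)) = v18771 :=
  Lgr Lrot66 (Lpe (f136867 IH) (Lpr_af (f136853 IH) (Lpr_ff (f768382 IH) (Lpn v18771))))
theorem f95396 : Led Lsl_gt (LP (LK LD1_c7 LD2_c43 LD3_c4)) = (LP (LK LD1_c14 LD2_c32 LD3_c57)) :=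
  Lre_g IH (LK LD1_c7 LD2_c43 LD3_c4) (LK LD1_c14 LD2_c32 LD3_c57) Lrfl Lrfl
theorem f768391 : Led Lsl_gt (LP (LK LD1_c14 LD2_c32 LD3_c57)) = v18771 :=
  Lgr Lrot46 (Lpe (f95396 IH) (Lpr_ft (f136867 IH) (Lpr_at (f768386 IH) (Lpn v18771))))
theorem f107406 : Led Lsl_bt (LP (LK LD1_c6 LD2_c32 LD3_c56)) = (LP (LK LD1_c3 LD2_c14 LD3_c44)) :=
  Lre_b IH (LK LD1_c6 LD2_c32 LD3_c56) (LK LD1_c3 LD2_c14 LD3_c44) Lrfl Lrfl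
theorem f768387 : Led Lsl_bt K57.v5903 = v18771 :=
  Lgr Lrot35 (Lpe (K57.f649997 IH) (Lpe (f107406 IH) (Lpr_ff (f768382 IH) (Lpn v18771))))
theorem f649998 : Led Lsl_cf K57.v2031 = K57.v5903 :=
  Lgr Lrot108 (Lpe (K57.f507841 IH) (Lpr_ct (K3.f107407 IH) (Lpr_ft (K57.f649997 IH) (Lpn K57.v5903))))
theorem f130236 : Led Lsl_ct (LP (LK LD1_c13 LD2_c1 LD3_c20)) = (LP (LK LD1_c13 LD2_c6 LD3_c40)) :=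
  Lgr Lrot15 (Lpe (K43.f130235 IH) (Lpr_cf (K6.f130229 IH) (Lpe (K43.f130225 IH) (Lpn (LP (LK LD1_c13 LD2_c6 LD3_c40))))))
theorem f208495 : Led Lsl_ct (LP (LK LD1_c9 LD2_c5 LD3_c55)) = (LP (LK LD1_c5 LD2_c58 LD3_c36)) :=
  Lgr Lrot83 (Lpr_bf (K53.f130511 IH) (Lpe (f130236 IH) (Lpr_bf (K43.f156763 IH) (Lpe (K55.f208427 IH) (Lpr_bf (K52.f208486 IH) (Lpn (LP (LK LD1_c5 LD2_c58 LD3_c36))))))))
theorem f739847 : Led Lsl_cf (LP (LK LD1_c11 LD2_c41 LD3_c37)) = (LP (LK LD1_c11 LD2_c26 LD3_c3)) :=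
  Lgr Lrot11 (Lpr_ct (K55.f739843 IH) (Lpn (LP (LK LD1_c11 LD2_c26 LD3_c3))))
theorem f768392 : Led Lsl_bf (LP (LK LD1_c14 LD2_c32 LD3_c57)) = (LP (LK LD1_c11 LD2_c26 LD3_c3)) :=
  Lgr Lrot156 (Lpr_gt (f768391 IH) (Lpe (f768387 IH) (Lpe (f649998 IH) (Lpr_gt (K57.f632888 IH) (Lpqs (K57.f760224 IH) (Lpr_cf (K52.f624621 IH) (Lpr_bt (K52.f636123 IH) (Lpe (K52.f715085 IH) (Lpr_ct (f208495 IH) (Lpr_gt (K55.f208482 IH) (Lpr_cf (f739847 IH) (Lpn (LP (LK LD1_c11 LD2_c26 LD3_c3))))))))))))))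
theorem f768393 : Led Lsl_bt (LP (LK LD1_c11 LD2_c26 LD3_c3)) = (LP (LK LD1_c14 LD2_c32 LD3_c57)) :=
  Leop (Lpr_bf (f768392 IH) (Lpn (LP (LK LD1_c11 LD2_c26 LD3_c3))))
theorem seed_1229 : LEOK LG_b (LK LD1_c11 LD2_c26 LD3_c3) :=
  Leoe_b (LK LD1_c11 LD2_c26 LD3_c3) (f768393 IH)
def v18770 : LQ := Led Lsl_gf (LP (LK LD1_c6 LD2_c32 LD3_c56))
theorem f768373 : Led Lsl_gf (LP (LK LD1_c6 LD2_c32 LD3_c56)) = v18770 :=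
  Lrfl
theorem f136858 : Led Lsl_bt (LP (LK LD1_c3 LD2_c14 LD3_c44)) = (LP (LK LD1_c6 LD2_c32 LD3_c56)) :=
  Lre_b IH (LK LD1_c3 LD2_c14 LD3_c44) (LK LD1_c6 LD2_c32 LD3_c56) Lrfl Lrfl
theorem f669012 : Led Lsl_cf K52.v1373 = K52.v7928 :=
  Lgr Lrot11 (Lpr_ct (K52.f669010 IH) (Lpn K52.v7928))
theorem f669011 : Led Lsl_bf (LP (LK LD1_c8 LD2_c0 LD3_c53)) = K52.v7928 :=
  Lgr Lrot90 (Lpr_ct (K52.f77393 IH) (Lpr_bt (K53.f77392 IH) (Lpe (K24.f415547 IH) (Lpr_bt (K52.f495192 IH) (Lpr_ct (K52.f669010 IH) (Lpn K52.v7928))))))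
theorem f633909 : Led Lsl_bt (LP (LK LD1_c8 LD2_c0 LD3_c57)) = (LP (LK LD1_c5 LD2_c0 LD3_c18)) :=
  Lgr Lrot95 (Lpe (K53.f633883 IH) (Lpr_bf (K53.f633814 IH) (Lpe (K53.f633849 IH) (Lpn (LP (LK LD1_c5 LD2_c0 LD3_c18))))))
theorem f633911 : Led Lsl_bf (LP (LK LD1_c8 LD2_c0 LD3_c57)) = (LP (LK LD1_c5 LD2_c0 LD3_c18)) :=
  Lgr Lrot24 (Lpr_bt (f633909 IH) (Lpn (LP (LK LD1_c5 LD2_c0 LD3_c18))))
theorem f641393 : Led Lsl_bt (LP (LK LD1_c2 LD2_c56 LD3_c5)) = (LP (LK LD1_c5 LD2_c59 LD3_c27)) :=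
  Lre_b IH (LK LD1_c2 LD2_c56 LD3_c5) (LK LD1_c5 LD2_c59 LD3_c27) Lrfl Lrfl
theorem f720705 : Led Lsl_cf (LP (LK LD1_c15 LD2_c5 LD3_c35)) = (LP (LK LD1_c11 LD2_c41 LD3_c38)) :=
  Lgr Lrot125 (Lpr_gt (K53.f720702 IH) (Lpe (K53.f720625 IH) (Lpe (f633911 IH) (Lpr_gt (K56.f636098 IH) (Lpqs (K51.f707129 IH) (Lpe (K50.f58876 IH) (Lpr_ct (K51.f58878 IH) (Lpe (K55.f720168 IH) (Lpqs (K55.f719905 IH) (Lpe (K55.f74649 IH) (Lpr_bt (f641393 IH) (Lpq (K53.f719896 IH) (Lpr_gt (K54.f720689 IH) (Lpn (LP (LK LD1_c11 LD2_c41 LD3_c38))))))))))))))))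
theorem f720707 : Led Lsl_ct (LP (LK LD1_c15 LD2_c5 LD3_c35)) = (LP (LK LD1_c11 LD2_c41 LD3_c38)) :=
  Lgr Lrot59 (Lpr_cf (f720705 IH) (Lpn (LP (LK LD1_c11 LD2_c41 LD3_c38))))
theorem f645140 : Led Lsl_ct (LP (LK LD1_c11 LD2_c47 LD3_c7)) = (LP (LK LD1_c6 LD2_c1 LD3_c17)) :=
  Lre_c IH (LK LD1_c11 LD2_c47 LD3_c7) (LK LD1_c6 LD2_c1 LD3_c17) Lrfl Lrfl
theorem f768376 : Led Lsl_bt (LP (LK LD1_c11 LD2_c47 LD3_c7)) = v18770 :=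
  Lgr Lrot22 (Lpr_ct (f645140 IH) (Lpr_gf (K54.f720679 IH) (Lpe (f720707 IH) (Lpe (K53.f415606 IH) (Lpr_bf (f669011 IH) (Lpe (f669012 IH) (Lpqs (K57.f760165 IH) (Lpe (K57.f507830 IH) (Lpe (K57.f107423 IH) (Lpr_bt (f136858 IH) (Lpr_gf (f768373 IH) (Lpn v18770))))))))))))
theorem f768377 : Led Lsl_bf (LP (LK LD1_c11 LD2_c47 LD3_c7)) = v18770 :=
  Lgr Lrot24 (Lpr_bt (f768376 IH) (Lpn v18770))
theorem f768400 : Led Lsl_ft (LP (LK LD1_c14 LD2_c32 LD3_c57)) = v18770 :=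
  Lgr Lrot75 (Lpr_bf (f768392 IH) (Lpr_ff (K53.f713850 IH) (Lpr_bf (f768377 IH) (Lpn v18770))))
theorem f95394 : Led Lsl_gt (LP (LK LD1_c14 LD2_c32 LD3_c58)) = (LP (LK LD1_c7 LD2_c43 LD3_c4)) :=
  Lre_g IH (LK LD1_c14 LD2_c32 LD3_c58) (LK LD1_c7 LD2_c43 LD3_c4) Lrfl Lrfl
theorem f768389 : Led Lsl_gf (LP (LK LD1_c14 LD2_c32 LD3_c58)) = v18771 :=
  Lgr Lrot47 (Lpr_gt (f95394 IH) (Lpr_af (f136853 IH) (Lpr_ff (f768382 IH) (Lpn v18771))))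
theorem f768402 : Led Lsl_af (LP (LK LD1_c14 LD2_c32 LD3_c58)) = v18770 :=
  Lgr Lrot31 (Lpr_gf (f768389 IH) (Lpe (f768391 IH) (Lpr_ft (f768400 IH) (Lpn v18770))))
theorem f713852 : Led Lsl_at (LP (LK LD1_c6 LD2_c1 LD3_c18)) = (LP (LK LD1_c11 LD2_c47 LD3_c7)) :=
  Lre_a IH (LK LD1_c6 LD2_c1 LD3_c18) (LK LD1_c11 LD2_c47 LD3_c7) Lrfl Lrfl
theorem f711665 : Led Lsl_bt (LP (LK LD1_c11 LD2_c47 LD3_c11)) = (LP (LK LD1_c6 LD2_c1 LD3_c18)) :=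
  Lre_b IH (LK LD1_c11 LD2_c47 LD3_c11) (LK LD1_c6 LD2_c1 LD3_c18) Lrfl Lrfl
theorem f720442 : Led Lsl_at (LP (LK LD1_c20 LD2_c49 LD3_c15)) = (LP (LK LD1_c11 LD2_c47 LD3_c11)) :=
  Lre_a IH (LK LD1_c20 LD2_c49 LD3_c15) (LK LD1_c11 LD2_c47 LD3_c11) Lrfl Lrfl
theorem f768404 : Led Lsl_bt (LP (LK LD1_c14 LD2_c32 LD3_c58)) = (LP (LK LD1_c20 LD2_c49 LD3_c15)) :=
  Lgr Lrot62 (Lpr_af (f768402 IH) (Lpe (f768376 IH) (Lpe (f713852 IH) (Lpe (f711665 IH) (Lpe (f720442 IH) (Lpn (LP (LK LD1_c20 LD2_c49 LD3_c15))))))))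
theorem f768405 : Led Lsl_bt (LP (LK LD1_c14 LD2_c32 LD3_c58)) = (LP (LK LD1_c20 LD2_c49 LD3_c15)) :=
  Leop (Lpe (f768404 IH) (Lpn (LP (LK LD1_c14 LD2_c32 LD3_c58))))
theorem seed_1230 : LEOK LG_b (LK LD1_c14 LD2_c32 LD3_c58) :=
  Leoe_b (LK LD1_c14 LD2_c32 LD3_c58) (f768405 IH)
theorem f768403 : Led Lsl_at (LP (LK LD1_c14 LD2_c32 LD3_c58)) = v18770 :=
  Lgr Lrot100 (Lpr_af (f768402 IH) (Lpn v18770))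
theorem f768374 : Led Lsl_gt (LP (LK LD1_c14 LD2_c32 LD3_c60)) = v18770 :=
  Lgr Lrot5 (Lpr_ft (f136911 IH) (Lpr_at (f136855 IH) (Lpr_gf (f768373 IH) (Lpn v18770))))
theorem f768414 : Led Lsl_ff (LP (LK LD1_c14 LD2_c32 LD3_c58)) = (LP (LK LD1_c12 LD2_c33 LD3_c10)) :=
  Lgr Lrot52 (Lpr_at (f768403 IH) (Lpe (f768374 IH) (Lpe (f768383 IH) (Lpn (LP (LK LD1_c12 LD2_c33 LD3_c10))))))
theorem f768415 : Led Lsl_ft (LP (LK LD1_c12 LD2_c33 LD3_c10)) = (LP (LK LD1_c14 LD2_c32 LD3_c58)) :=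
  Leop (Lpr_ff (f768414 IH) (Lpn (LP (LK LD1_c12 LD2_c33 LD3_c10))))
theorem seed_1231 : LEOK LG_f (LK LD1_c12 LD2_c33 LD3_c10) :=
  Leoe_f (LK LD1_c12 LD2_c33 LD3_c10) (f768415 IH)
def v18780 : LQ := Led Lsl_ft (LP (LK LD1_c6 LD2_c32 LD3_c60))
theorem f768497 : Led Lsl_ft (LP (LK LD1_c6 LD2_c32 LD3_c60)) = v18780 :=
  Lrfl
theorem f768499 : Led Lsl_ff (LP (LK LD1_c6 LD2_c32 LD3_c60)) = v18780 :=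
  Lgr Lrot3 (Lpr_ft (f768497 IH) (Lpn v18780))
theorem f133791 : Led Lsl_at (LP (LK LD1_c4 LD2_c44 LD3_c1)) = (LP (LK LD1_c3 LD2_c14 LD3_c48)) :=
  Lgr Lrot66 (Lpe (K6.f133743 IH) (Lpr_af (K5.f133767 IH) (Lpe (K5.f125354 IH) (Lpn (LP (LK LD1_c3 LD2_c14 LD3_c48))))))
theorem f133742 : Led Lsl_et (LP (LK LD1_c9 LD2_c20 LD3_c54)) = (LP (LK LD1_c4 LD2_c44 LD3_c1)) :=
  Lre_e IH (LK LD1_c9 LD2_c20 LD3_c54) (LK LD1_c4 LD2_c44 LD3_c1) Lrfl Lrfl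
theorem f127175 : Led Lsl_et (LP (LK LD1_c3 LD2_c14 LD3_c48)) = (LP (LK LD1_c6 LD2_c32 LD3_c60)) :=
  Lre_e IH (LK LD1_c3 LD2_c14 LD3_c48) (LK LD1_c6 LD2_c32 LD3_c60) Lrfl Lrfl
theorem f438979 : Led Lsl_af (LP (LK LD1_c9 LD2_c20 LD3_c54)) = (LP (LK LD1_c6 LD2_c32 LD3_c60)) :=
  Lgr Lrot50 (Lpr_et (f133742 IH) (Lpr_at (f133791 IH) (Lpr_et (f127175 IH) (Lpn (LP (LK LD1_c6 LD2_c32 LD3_c60))))))
theorem f145577 : Led Lsl_gt (LP (LK LD1_c17 LD2_c16 LD3_c51)) = (LP (LK LD1_c9 LD2_c20 LD3_c54)) :=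
  Lre_g IH (LK LD1_c17 LD2_c16 LD3_c51) (LK LD1_c9 LD2_c20 LD3_c54) Lrfl Lrfl
theorem f768501 : Led Lsl_gf (LP (LK LD1_c17 LD2_c16 LD3_c51)) = v18780 :=
  Lgr Lrot47 (Lpr_gt (f145577 IH) (Lpr_af (f438979 IH) (Lpr_ff (f768499 IH) (Lpn v18780))))
theorem f768500 : Led Lsl_ct K51.v5905 = v18780 :=
  Lgr Lrot40 (Lpe (K51.f650004 IH) (Lpe (K57.f107427 IH) (Lpr_ff (f768499 IH) (Lpn v18780))))
theorem f503319 : Led Lsl_at (LP (LK LD1_c2 LD2_c22 LD3_c55)) = (LP (LK LD1_c1 LD2_c37 LD3_c21)) :=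
  Lgr Lrot100 (Lpr_af (K32.f503317 IH) (Lpn (LP (LK LD1_c1 LD2_c37 LD3_c21))))
theorem f662928 : Led Lsl_bt K51.v6470 = (LP (LK LD1_c7 LD2_c26 LD3_c54)) :=
  Lgr Lrot62 (Lpe (K51.f653534 IH) (Lpe (K51.f23228 IH) (Lpe (f503319 IH) (Lpe (K48.f140815 IH) (Lpr_af (f662926 IH) (Lpn (LP (LK LD1_c7 LD2_c26 LD3_c54))))))))
theorem f709244 : Led Lsl_bf (LP (LK LD1_c9 LD2_c20 LD3_c53)) = v6465 :=
  Lgr Lrot61 (Lpr_ft (K57.f709240 IH) (Lpq (K51.f708341 IH) (Lpqs (K51.f708341 IH) (Lpr_bt (f662928 IH) (Lpe (f662922 IH) (Lpn v6465))))))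
theorem f95808 : Led Lsl_ct (LP (LK LD1_c6 LD2_c30 LD3_c59)) = (LP (LK LD1_c12 LD2_c30 LD3_c35)) :=
  Lre_c IH (LK LD1_c6 LD2_c30 LD3_c59) (LK LD1_c12 LD2_c30 LD3_c35) Lrfl Lrfl
def v4518 : LQ := Led Lsl_gf (LP (LK LD1_c2 LD2_c22 LD3_c52))
theorem f634345 : Led Lsl_gf (LP (LK LD1_c2 LD2_c22 LD3_c52)) = v4518 :=
  Lrfl
theorem f634347 : Led Lsl_af (LP (LK LD1_c2 LD2_c22 LD3_c52)) = K57.v4519 :=
  Lgr Lrot0 (Lpr_at (K57.f634346 IH) (Lpn K57.v4519))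
theorem f634353 : Led Lsl_gt K57.v2205 = v4518 :=
  Lgr Lrot5 (Lpr_ft (K57.f634351 IH) (Lpe (f634347 IH) (Lpr_gf (f634345 IH) (Lpn v4518))))
theorem f760468 : v4518 = (LP (LK LD1_c3 LD2_c43 LD3_c7)) :=
  Lefun (Lecon (f634353 IH) (K57.f760465 IH)) (K57.f441727 IH)
theorem f140816 : Led Lsl_ct (LP (LK LD1_c4 LD2_c50 LD3_c13)) = (LP (LK LD1_c9 LD2_c32 LD3_c48)) :=
  Lre_c IH (LK LD1_c4 LD2_c50 LD3_c13) (LK LD1_c9 LD2_c32 LD3_c48) Lrfl Lrfl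
def v13929 : LQ := Led Lsl_gt (LP (LK LD1_c4 LD2_c50 LD3_c7))
theorem f716244 : Led Lsl_gt (LP (LK LD1_c4 LD2_c50 LD3_c7)) = v13929 :=
  Lrfl
theorem f754196 : (LP (LK LD1_c3 LD2_c19 LD3_c2)) = v13929 :=
  Lefun (Lecon (Lfl_gf (K56.f652062 IH)) (K56.f754194 IH).symm) (f716244 IH)
theorem f12500 : Led Lsl_ct (LP (LK LD1_c7 LD2_c20 LD3_c5)) = (LP (LK LD1_c3 LD2_c39 LD3_c58)) :=
  Lre_c IH (LK LD1_c7 LD2_c20 LD3_c5) (LK LD1_c3 LD2_c39 LD3_c58) Lrfl Lrfl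
theorem f760515 : Led Lsl_gt (LP (LK LD1_c9 LD2_c32 LD3_c48)) = (LP (LK LD1_c7 LD2_c20 LD3_c5)) :=
  Lgr Lrot150 (Lpe (f140816 IH) (Lpqs (f663556 IH) (Lpe (f649536 IH) (Lpe (K57.f107018 IH) (Lpq (f760468 IH) (Lpe (f634345 IH) (Lpr_ct (K56.f444588 IH) (Lpr_gt (f716244 IH) (Lpq (f754196 IH) (Lpe (K7.f66465 IH) (Lpe (K1.f12464 IH) (Lpe (f12500 IH) (Lpn (LP (LK LD1_c7 LD2_c20 LD3_c5)))))))))))))))
theorem f504180 : Led Lsl_ct (LP (LK LD1_c6 LD2_c47 LD3_c46)) = (LP (LK LD1_c3 LD2_c22 LD3_c4)) :=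
  Lre_c IH (LK LD1_c6 LD2_c47 LD3_c46) (LK LD1_c3 LD2_c22 LD3_c4) Lrfl Lrfl
theorem f504181 : Led Lsl_ff (LP (LK LD1_c6 LD2_c47 LD3_c46)) = (LP (LK LD1_c9 LD2_c32 LD3_c48)) :=
  Lgr Lrot23 (Lpr_ct (f504180 IH) (Lpr_ft (K48.f504178 IH) (Lpr_ct (f140816 IH) (Lpn (LP (LK LD1_c9 LD2_c32 LD3_c48))))))
theorem f441733 : Led Lsl_ct (LP (LK LD1_c12 LD2_c30 LD3_c35)) = (LP (LK LD1_c6 LD2_c30 LD3_c59)) :=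
  Lre_c IH (LK LD1_c12 LD2_c30 LD3_c35) (LK LD1_c6 LD2_c30 LD3_c59) Lrfl Lrfl
theorem f653516 : Led Lsl_af (LP (LK LD1_c3 LD2_c22 LD3_c4)) = v6465 :=
  Lgr Lrot0 (Lpr_at (f653515 IH) (Lpn v6465))
theorem f663559 : Led Lsl_af (LP (LK LD1_c12 LD2_c30 LD3_c35)) = (LP (LK LD1_c6 LD2_c47 LD3_c46)) :=
  Lgr Lrot68 (Lpr_ct (f441733 IH) (Lpqs (f663549 IH) (Lpe (f653516 IH) (Lpr_ct (K57.f454908 IH) (Lpn (LP (LK LD1_c6 LD2_c47 LD3_c46)))))))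
theorem f760517 : Led Lsl_gf (LP (LK LD1_c12 LD2_c30 LD3_c35)) = (LP (LK LD1_c7 LD2_c20 LD3_c5)) :=
  Lgr Lrot76 (Lpr_af (f663559 IH) (Lpr_ff (f504181 IH) (Lpr_gt (f760515 IH) (Lpn (LP (LK LD1_c7 LD2_c20 LD3_c5))))))
theorem f12456 : Led Lsl_bt (LP (LK LD1_c3 LD2_c39 LD3_c58)) = (LP (LK LD1_c3 LD2_c45 LD3_c7)) :=
  Lgr Lrot127 (Lpr_bf (K1.f12452 IH) (Lpn (LP (LK LD1_c3 LD2_c45 LD3_c7))))
def v7329 : LQ := Led Lsl_gf (LP (LK LD1_c3 LD2_c45 LD3_c7))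
theorem f664592 : Led Lsl_gf (LP (LK LD1_c3 LD2_c45 LD3_c7)) = v7329 :=
  Lrfl
theorem f649457 : Led Lsl_et (LP (LK LD1_c6 LD2_c11 LD3_c7)) = (LP (LK LD1_c12 LD2_c2 LD3_c36)) :=
  Lre_e IH (LK LD1_c6 LD2_c11 LD3_c7) (LK LD1_c12 LD2_c2 LD3_c36) Lrfl Lrfl
theorem f709659 : Led Lsl_bt (LP (LK LD1_c12 LD2_c2 LD3_c36)) = (LP (LK LD1_c21 LD2_c4 LD3_c53)) :=
  Lgr Lrot119 (Lpe (f649457 IH) (Lpe (K51.f708658 IH) (Lpe (K57.f90376 IH) (Lpn (LP (LK LD1_c21 LD2_c4 LD3_c53))))))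
theorem f12477 : Led Lsl_et (LP (LK LD1_c1 LD2_c49 LD3_c40)) = (LP (LK LD1_c0 LD2_c51 LD3_c40)) :=
  Lre_e IH (LK LD1_c1 LD2_c49 LD3_c40) (LK LD1_c0 LD2_c51 LD3_c40) Lrfl Lrfl
theorem f664594 : Led Lsl_dt (LP (LK LD1_c12 LD2_c2 LD3_c36)) = v7329 :=
  Lgr Lrot136 (Lpr_et (K57.f649458 IH) (Lpqs (K46.f649454 IH) (Lpe (K46.f649353 IH) (Lpe (K5.f65591 IH) (Lpe (K3.f96723 IH) (Lpe (K3.f18906 IH) (Lpe (K1.f19357 IH) (Lpe (K1.f66432 IH) (Lpe (f12477 IH) (Lpr_dt (K1.f12465 IH) (Lpr_gf (f664592 IH) (Lpn v7329))))))))))))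
theorem f664595 : Led Lsl_df (LP (LK LD1_c12 LD2_c2 LD3_c36)) = v7329 :=
  Lgr Lrot38 (Lpr_dt (f664594 IH) (Lpn v7329))
theorem f61923 : Led Lsl_gt (LP (LK LD1_c12 LD2_c14 LD3_c32)) = (LP (LK LD1_c6 LD2_c19 LD3_c49)) :=
  Lre_g IH (LK LD1_c12 LD2_c14 LD3_c32) (LK LD1_c6 LD2_c19 LD3_c49) Lrfl Lrfl
theorem f90480 : Led Lsl_df (LP (LK LD1_c12 LD2_c14 LD3_c32)) = (LP (LK LD1_c21 LD2_c4 LD3_c53)) :=
  Lgr Lrot170 (Lpr_gt (f61923 IH) (Lpe (K3.f61919 IH) (Lpr_et (K3.f61910 IH) (Lpr_gt (K3.f90478 IH) (Lpe (K3.f83901 IH) (Lpe (K4.f90373 IH) (Lpe (K5.f57592 IH) (Lpr_et (K5.f66652 IH) (Lpr_gt (K51.f90375 IH) (Lpe (K57.f90376 IH) (Lpn (LP (LK LD1_c21 LD2_c4 LD3_c53)))))))))))))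
theorem f709661 : Led Lsl_bf v7329 = (LP (LK LD1_c12 LD2_c14 LD3_c32)) :=
  Lgr Lrot93 (Lpe (f664595 IH) (Lpr_bt (f709659 IH) (Lpe (f90480 IH) (Lpn (LP (LK LD1_c12 LD2_c14 LD3_c32))))))
theorem f768502 : Led Lsl_cf (LP (LK LD1_c17 LD2_c16 LD3_c51)) = (LP (LK LD1_c12 LD2_c14 LD3_c32)) :=
  Lgr Lrot163 (Lpr_gf (f768501 IH) (Lpe (f768500 IH) (Lpe (K57.f702984 IH) (Lpr_bf (f709244 IH) (Lpq (f663549 IH) (Lpr_ct (f95808 IH) (Lpr_gf (f760517 IH) (Lpe (K6.f12458 IH) (Lpr_bt (f12456 IH) (Lpr_gf (f664592 IH) (Lpr_bf (f709661 IH) (Lpn (LP (LK LD1_c12 LD2_c14 LD3_c32))))))))))))))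
theorem f768503 : Led Lsl_ct (LP (LK LD1_c12 LD2_c14 LD3_c32)) = (LP (LK LD1_c17 LD2_c16 LD3_c51)) :=
  Leop (Lpr_cf (f768502 IH) (Lpn (LP (LK LD1_c12 LD2_c14 LD3_c32))))
theorem seed_1232 : LEOK LG_c (LK LD1_c12 LD2_c14 LD3_c32) :=
  Leoe_c (LK LD1_c12 LD2_c14 LD3_c32) (f768503 IH)
def v18807 : LQ := Led Lsl_et (LP (LK LD1_c6 LD2_c33 LD3_c26))
theorem f768648 : Led Lsl_et (LP (LK LD1_c6 LD2_c33 LD3_c26)) = v18807 :=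
  Lrfl
theorem f768652 : Led Lsl_ef (LP (LK LD1_c6 LD2_c33 LD3_c26)) = v18807 :=
  Lgr Lrot88 (Lpr_et (f768648 IH) (Lpn v18807))
theorem f129987 : Led Lsl_et (LP (LK LD1_c1 LD2_c34 LD3_c0)) = (LP (LK LD1_c3 LD2_c14 LD3_c61)) :=
  Lre_e IH (LK LD1_c1 LD2_c34 LD3_c0) (LK LD1_c3 LD2_c14 LD3_c61) Lrfl Lrfl
theorem f109976 : Led Lsl_gf (LP (LK LD1_c3 LD2_c23 LD3_c20)) = (LP (LK LD1_c2 LD2_c19 LD3_c55)) :=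
  Lgr Lrot129 (Lpe (K3.f77323 IH) (Lpr_bt (K3.f77322 IH) (Lpr_gt (K2.f76892 IH) (Lpe (K3.f59567 IH) (Lpr_ct (K1.f13539 IH) (Lpe (K1.f58937 IH) (Lpr_cf (K0.f26758 IH) (Lpr_bt (K2.f58948 IH) (Lpr_gt (K3.f109972 IH) (Lpr_ct (K3.f20949 IH) (Lpn (LP (LK LD1_c2 LD2_c19 LD3_c55)))))))))))))
theorem f91914 : Led Lsl_dt (LP (LK LD1_c4 LD2_c43 LD3_c60)) = (LP (LK LD1_c9 LD2_c20 LD3_c50)) :=
  Lre_d IH (LK LD1_c4 LD2_c43 LD3_c60) (LK LD1_c9 LD2_c20 LD3_c50) Lrfl Lrfl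
theorem f91940 : Led Lsl_gt (LP (LK LD1_c17 LD2_c16 LD3_c46)) = (LP (LK LD1_c9 LD2_c20 LD3_c50)) :=
  Lre_g IH (LK LD1_c17 LD2_c16 LD3_c46) (LK LD1_c9 LD2_c20 LD3_c50) Lrfl Lrfl
theorem f768656 : Led Lsl_df (LP (LK LD1_c17 LD2_c16 LD3_c46)) = v18807 :=
  Lgr Lrot170 (Lpr_gt (f91940 IH) (Lpe (f91914 IH) (Lpr_et (K3.f91918 IH) (Lpe (f109976 IH) (Lpe (K5.f129588 IH) (Lpr_gt (K6.f129590 IH) (Lpe (K5.f126563 IH) (Lpr_et (f129987 IH) (Lpr_gt (K51.f439940 IH) (Lpr_ef (f768652 IH) (Lpn v18807)))))))))))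
theorem f646560 : Led Lsl_bt (LP (LK LD1_c3 LD2_c2 LD3_c10)) = (LP (LK LD1_c6 LD2_c11 LD3_c6)) :=
  Lre_b IH (LK LD1_c3 LD2_c2 LD3_c10) (LK LD1_c6 LD2_c11 LD3_c6) Lrfl Lrfl
theorem f649460 : Led Lsl_ct (LP (LK LD1_c6 LD2_c11 LD3_c6)) = (LP (LK LD1_c12 LD2_c2 LD3_c34)) :=
  Lre_c IH (LK LD1_c6 LD2_c11 LD3_c6) (LK LD1_c12 LD2_c2 LD3_c34) Lrfl Lrfl
theorem f709590 : Led Lsl_bf (LP (LK LD1_c6 LD2_c33 LD3_c26)) = (LP (LK LD1_c12 LD2_c2 LD3_c34)) :=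
  Lgr Lrot90 (Lpr_ct (K51.f709586 IH) (Lpr_bt (K51.f708658 IH) (Lpr_ct (K46.f504414 IH) (Lpr_bt (f646560 IH) (Lpr_ct (f649460 IH) (Lpn (LP (LK LD1_c12 LD2_c2 LD3_c34))))))))
theorem f709621 : Led Lsl_bt (LP (LK LD1_c6 LD2_c33 LD3_c26)) = (LP (LK LD1_c12 LD2_c2 LD3_c34)) :=
  Lgr Lrot127 (Lpr_bf (f709590 IH) (Lpn (LP (LK LD1_c12 LD2_c2 LD3_c34))))
theorem f709626 : Led Lsl_et (LP (LK LD1_c12 LD2_c2 LD3_c34)) = (LP (LK LD1_c21 LD2_c7 LD3_c60)) :=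
  Lre_e IH (LK LD1_c12 LD2_c2 LD3_c34) (LK LD1_c21 LD2_c7 LD3_c60) Lrfl Lrfl
theorem f768654 : Led Lsl_bt (LP (LK LD1_c21 LD2_c7 LD3_c60)) = v18807 :=
  Lgr Lrot119 (Lpe (f709626 IH) (Lpe (f709621 IH) (Lpr_ef (f768652 IH) (Lpn v18807))))
theorem f74996 : Led Lsl_bt (LP (LK LD1_c9 LD2_c17 LD3_c7)) = (LP (LK LD1_c6 LD2_c11 LD3_c52)) :=
  Lre_b IH (LK LD1_c9 LD2_c17 LD3_c7) (LK LD1_c6 LD2_c11 LD3_c52) Lrfl Lrfl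
theorem f74997 : Led Lsl_ct (LP (LK LD1_c9 LD2_c17 LD3_c7)) = (LP (LK LD1_c17 LD2_c11 LD3_c15)) :=
  Lre_c IH (LK LD1_c9 LD2_c17 LD3_c7) (LK LD1_c17 LD2_c11 LD3_c15) Lrfl Lrfl
theorem f74934 : Led Lsl_gt (LP (LK LD1_c9 LD2_c16 LD3_c36)) = (LP (LK LD1_c17 LD2_c11 LD3_c15)) :=
  Lre_g IH (LK LD1_c9 LD2_c16 LD3_c36) (LK LD1_c17 LD2_c11 LD3_c15) Lrfl Lrfl
theorem f496476 : Led Lsl_ct (LP (LK LD1_c2 LD2_c51 LD3_c14)) = (LP (LK LD1_c5 LD2_c50 LD3_c7)) :=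
  Lre_c IH (LK LD1_c2 LD2_c51 LD3_c14) (LK LD1_c5 LD2_c50 LD3_c7) Lrfl Lrfl
theorem f496320 : Led Lsl_bt (LP (LK LD1_c2 LD2_c51 LD3_c14)) = (LP (LK LD1_c5 LD2_c50 LD3_c5)) :=
  Lre_b IH (LK LD1_c2 LD2_c51 LD3_c14) (LK LD1_c5 LD2_c50 LD3_c5) Lrfl Lrfl
theorem f496640 : Led Lsl_gt (LP (LK LD1_c5 LD2_c50 LD3_c5)) = (LP (LK LD1_c11 LD2_c28 LD3_c33)) :=
  Lre_g IH (LK LD1_c5 LD2_c50 LD3_c5) (LK LD1_c11 LD2_c28 LD3_c33) Lrfl Lrfl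
theorem f727532 : Led Lsl_cf (LP (LK LD1_c9 LD2_c16 LD3_c36)) = (LP (LK LD1_c11 LD2_c28 LD3_c33)) :=
  Lgr Lrot125 (Lpr_gt (f74934 IH) (Lpe (f74997 IH) (Lpr_bt (f74996 IH) (Lpr_gt (K53.f100205 IH) (Lpe (K53.f504424 IH) (Lpq (K53.f706813 IH) (Lpr_ct (K53.f727519 IH) (Lpr_gt (K53.f499953 IH) (Lpe (f496476 IH) (Lpr_bt (f496320 IH) (Lpr_gt (f496640 IH) (Lpn (LP (LK LD1_c11 LD2_c28 LD3_c33))))))))))))))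
theorem f105068 : Led Lsl_gt (LP (LK LD1_c4 LD2_c40 LD3_c38)) = (LP (LK LD1_c9 LD2_c16 LD3_c36)) :=
  Lre_g IH (LK LD1_c4 LD2_c40 LD3_c38) (LK LD1_c9 LD2_c16 LD3_c36) Lrfl Lrfl
theorem f74592 : Led Lsl_ct (LP (LK LD1_c2 LD2_c17 LD3_c29)) = (LP (LK LD1_c4 LD2_c40 LD3_c38)) :=
  Lre_c IH (LK LD1_c2 LD2_c17 LD3_c29) (LK LD1_c4 LD2_c40 LD3_c38) Lrfl Lrfl
theorem f66303 : Led Lsl_gt (LP (LK LD1_c20 LD2_c22 LD3_c42)) = (LP (LK LD1_c11 LD2_c25 LD3_c17)) :=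
  Lre_g IH (LK LD1_c20 LD2_c22 LD3_c42) (LK LD1_c11 LD2_c25 LD3_c17) Lrfl Lrfl
theorem f727538 : Led Lsl_bf (LP (LK LD1_c20 LD2_c22 LD3_c42)) = (LP (LK LD1_c11 LD2_c28 LD3_c33)) :=
  Lgr Lrot156 (Lpr_gt (f66303 IH) (Lpe (K6.f66304 IH) (Lpe (K53.f66297 IH) (Lpr_gt (K53.f158108 IH) (Lpe (K53.f713743 IH) (Lpr_bt (K53.f504415 IH) (Lpr_gt (K53.f452971 IH) (Lpr_ct (f74592 IH) (Lpr_gt (f105068 IH) (Lpr_cf (f727532 IH) (Lpn (LP (LK LD1_c11 LD2_c28 LD3_c33)))))))))))))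
theorem f119944 : Led Lsl_gt (LP (LK LD1_c11 LD2_c25 LD3_c13)) = (LP (LK LD1_c20 LD2_c22 LD3_c42)) :=
  Lre_g IH (LK LD1_c11 LD2_c25 LD3_c13) (LK LD1_c20 LD2_c22 LD3_c42) Lrfl Lrfl
theorem f561816 : Led Lsl_ct (LP (LK LD1_c3 LD2_c2 LD3_c31)) = (LP (LK LD1_c6 LD2_c11 LD3_c56)) :=
  Lre_c IH (LK LD1_c3 LD2_c2 LD3_c31) (LK LD1_c6 LD2_c11 LD3_c56) Lrfl Lrfl
theorem f727545 : Led Lsl_gf (LP (LK LD1_c9 LD2_c10 LD3_c1)) = (LP (LK LD1_c6 LD2_c11 LD3_c56)) :=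
  Lgr Lrot129 (Lpe (K56.f157140 IH) (Lpr_bt (K8.f157043 IH) (Lpr_gt (f119944 IH) (Lpr_bf (f727538 IH) (Lpe (f727532 IH) (Lpr_gt (f74934 IH) (Lpe (f74997 IH) (Lpr_bt (f74996 IH) (Lpr_gt (K53.f100205 IH) (Lpr_ct (f561816 IH) (Lpn (LP (LK LD1_c6 LD2_c11 LD3_c56)))))))))))))
theorem f646783 : Led Lsl_bt (LP (LK LD1_c3 LD2_c2 LD3_c31)) = (LP (LK LD1_c6 LD2_c11 LD3_c55)) :=
  Lre_b IH (LK LD1_c3 LD2_c2 LD3_c31) (LK LD1_c6 LD2_c11 LD3_c55) Lrfl Lrfl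
theorem f618120 : Led Lsl_bt (LP (LK LD1_c5 LD2_c56 LD3_c33)) = (LP (LK LD1_c5 LD2_c50 LD3_c56)) :=
  Lgr Lrot35 (Lpe (K52.f496776 IH) (Lpr_bf (K51.f618115 IH) (Lpe (K50.f302459 IH) (Lpn (LP (LK LD1_c5 LD2_c50 LD3_c56))))))
theorem f150306 : Led Lsl_gt (LP (LK LD1_c6 LD2_c25 LD3_c17)) = (LP (LK LD1_c12 LD2_c23 LD3_c27)) :=
  Lre_g IH (LK LD1_c6 LD2_c25 LD3_c17) (LK LD1_c12 LD2_c23 LD3_c27) Lrfl Lrfl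
theorem f496831 : Led Lsl_gt (LP (LK LD1_c12 LD2_c23 LD3_c27)) = (LP (LK LD1_c11 LD2_c38 LD3_c22)) :=
  Lgr Lrot46 (Lpe (f150306 IH) (Lpr_ft (K32.f496828 IH) (Lpr_at (K32.f496814 IH) (Lpn (LP (LK LD1_c11 LD2_c38 LD3_c22))))))
theorem f727547 : Led Lsl_ct (LP (LK LD1_c20 LD2_c22 LD3_c42)) = (LP (LK LD1_c12 LD2_c23 LD3_c27)) :=
  Lgr Lrot91 (Lpe (f119944 IH) (Lpe (K8.f157043 IH) (Lpr_ct (K56.f157140 IH) (Lpr_gf (f727545 IH) (Lpe (f561816 IH) (Lpr_bt (f646783 IH) (Lpq (K53.f706813 IH) (Lpe (K50.f698748 IH) (Lpe (f618120 IH) (Lpr_ct (K54.f141823 IH) (Lpe (f496831 IH) (Lpn (LP (LK LD1_c12 LD2_c23 LD3_c27))))))))))))))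
theorem f727550 : Led Lsl_cf (LP (LK LD1_c20 LD2_c22 LD3_c42)) = (LP (LK LD1_c12 LD2_c23 LD3_c27)) :=
  Lgr Lrot11 (Lpr_ct (f727547 IH) (Lpn (LP (LK LD1_c12 LD2_c23 LD3_c27))))
theorem f131500 : Led Lsl_at (LP (LK LD1_c1 LD2_c29 LD3_c52)) = (LP (LK LD1_c1 LD2_c32 LD3_c36)) :=
  Lgr Lrot100 (Lpr_af (K5.f131498 IH) (Lpn (LP (LK LD1_c1 LD2_c32 LD3_c36))))
theorem f439735 : Led Lsl_gt (LP (LK LD1_c3 LD2_c7 LD3_c16)) = (LP (LK LD1_c3 LD2_c12 LD3_c12)) :=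
  Lgr Lrot5 (Lpr_ft (K51.f128446 IH) (Lpr_at (f131500 IH) (Lpe (K51.f62924 IH) (Lpn (LP (LK LD1_c3 LD2_c12 LD3_c12))))))
theorem f87232 : Led Lsl_gt (LP (LK LD1_c6 LD2_c38 LD3_c24)) = (LP (LK LD1_c12 LD2_c42 LD3_c27)) :=
  Lre_g IH (LK LD1_c6 LD2_c38 LD3_c24) (LK LD1_c12 LD2_c42 LD3_c27) Lrfl Lrfl
theorem f128780 : Led Lsl_gt (LP (LK LD1_c12 LD2_c42 LD3_c27)) = (LP (LK LD1_c12 LD2_c14 LD3_c12)) :=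
  Lgr Lrot46 (Lpe (f87232 IH) (Lpr_ft (K5.f128770 IH) (Lpr_at (K5.f128771 IH) (Lpn (LP (LK LD1_c12 LD2_c14 LD3_c12))))))
theorem f727559 : Led Lsl_bf (LP (LK LD1_c12 LD2_c42 LD3_c27)) = (LP (LK LD1_c12 LD2_c23 LD3_c27)) :=
  Lgr Lrot156 (Lpr_gt (f128780 IH) (Lpe (K5.f128471 IH) (Lpr_ct (K5.f128467 IH) (Lpr_gt (f439735 IH) (Lpe (K52.f131521 IH) (Lpq (K52.f707653 IH) (Lpr_bt (K52.f663142 IH) (Lpr_gt (K53.f713792 IH) (Lpr_ct (K4.f119942 IH) (Lpr_gt (f119944 IH) (Lpr_cf (f727550 IH) (Lpn (LP (LK LD1_c12 LD2_c23 LD3_c27))))))))))))))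
theorem f87231 : Led Lsl_bt (LP (LK LD1_c3 LD2_c17 LD3_c33)) = (LP (LK LD1_c6 LD2_c38 LD3_c24)) :=
  Lre_b IH (LK LD1_c3 LD2_c17 LD3_c33) (LK LD1_c6 LD2_c38 LD3_c24) Lrfl Lrfl
theorem f87233 : Led Lsl_gt (LP (LK LD1_c3 LD2_c49 LD3_c31)) = (LP (LK LD1_c1 LD2_c51 LD3_c46)) :=
  Lre_g IH (LK LD1_c3 LD2_c49 LD3_c31) (LK LD1_c1 LD2_c51 LD3_c46) Lrfl Lrfl
theorem f87234 : Led Lsl_ct (LP (LK LD1_c7 LD2_c39 LD3_c58)) = (LP (LK LD1_c3 LD2_c49 LD3_c31)) :=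
  Lre_c IH (LK LD1_c7 LD2_c39 LD3_c58) (LK LD1_c3 LD2_c49 LD3_c31) Lrfl Lrfl
theorem f727563 : Led Lsl_gf (LP (LK LD1_c7 LD2_c39 LD3_c58)) = (LP (LK LD1_c6 LD2_c36 LD3_c59)) :=
  Lgr Lrot181 (Lpr_ct (f87234 IH) (Lpr_gt (f87233 IH) (Lpe (K4.f87185 IH) (Lpr_bt (f87231 IH) (Lpr_gt (f87232 IH) (Lpr_bf (f727559 IH) (Lpe (f727550 IH) (Lpr_gt (f66303 IH) (Lpe (K6.f66286 IH) (Lpr_bt (K4.f66242 IH) (Lpn (LP (LK LD1_c6 LD2_c36 LD3_c59)))))))))))))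
theorem f727565 : Led Lsl_gt (LP (LK LD1_c7 LD2_c39 LD3_c58)) = (LP (LK LD1_c6 LD2_c35 LD3_c17)) :=
  Lgr Lrot46 (Lpr_gf (f727563 IH) (Lpr_ft (K3.f66174 IH) (Lpe (K3.f110165 IH) (Lpn (LP (LK LD1_c6 LD2_c35 LD3_c17))))))
theorem f442254 : Led Lsl_ct (LP (LK LD1_c3 LD2_c49 LD3_c31)) = (LP (LK LD1_c7 LD2_c39 LD3_c58)) :=
  Lre_c IH (LK LD1_c3 LD2_c49 LD3_c31) (LK LD1_c7 LD2_c39 LD3_c58) Lrfl Lrfl
theorem f89245 : Led Lsl_dt (LP (LK LD1_c7 LD2_c35 LD3_c12)) = (LP (LK LD1_c3 LD2_c47 LD3_c11)) :=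
  Lre_d IH (LK LD1_c7 LD2_c35 LD3_c12) (LK LD1_c3 LD2_c47 LD3_c11) Lrfl Lrfl
theorem f89246 : Led Lsl_at (LP (LK LD1_c3 LD2_c47 LD3_c11)) = (LP (LK LD1_c1 LD2_c51 LD3_c46)) :=
  Lgr Lrot51 (Lpe (f89245 IH) (Lpr_af (K2.f89235 IH) (Lpe (K54.f87203 IH) (Lpn (LP (LK LD1_c1 LD2_c51 LD3_c46))))))
theorem f89273 : Led Lsl_ft (LP (LK LD1_c7 LD2_c35 LD3_c13)) = (LP (LK LD1_c3 LD2_c47 LD3_c11)) :=
  Lre_f IH (LK LD1_c7 LD2_c35 LD3_c13) (LK LD1_c3 LD2_c47 LD3_c11) Lrfl Lrfl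
theorem f442250 : Led Lsl_gt (LP (LK LD1_c7 LD2_c35 LD3_c13)) = (LP (LK LD1_c3 LD2_c49 LD3_c31)) :=
  Lgr Lrot5 (Lpr_ft (f89273 IH) (Lpr_at (f89246 IH) (Lpe (f87233 IH) (Lpn (LP (LK LD1_c3 LD2_c49 LD3_c31))))))
theorem f62921 : Led Lsl_et (LP (LK LD1_c3 LD2_c15 LD3_c2)) = (LP (LK LD1_c1 LD2_c34 LD3_c3)) :=
  Lre_e IH (LK LD1_c3 LD2_c15 LD3_c2) (LK LD1_c1 LD2_c34 LD3_c3) Lrfl Lrfl
theorem f111891 : Led Lsl_bf (LP (LK LD1_c3 LD2_c15 LD3_c2)) = (LP (LK LD1_c3 LD2_c47 LD3_c11)) :=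
  Lgr Lrot96 (Lpr_et (f62921 IH) (Lpr_bt (K4.f111881 IH) (Lpr_et (K2.f12069 IH) (Lpn (LP (LK LD1_c3 LD2_c47 LD3_c11))))))
theorem f650087 : Led Lsl_bf (LP (LK LD1_c7 LD2_c35 LD3_c13)) = K51.v5927 :=
  Lgr Lrot61 (Lpr_ft (f89273 IH) (Lpe (f111891 IH) (Lpr_ft (K51.f650086 IH) (Lpn K51.v5927))))
theorem f650088 : Led Lsl_cf (LP (LK LD1_c6 LD2_c28 LD3_c19)) = K51.v5927 :=
  Lgr Lrot108 (Lpr_ft (K51.f62923 IH) (Lpe (K51.f62908 IH) (Lpr_ft (K51.f650086 IH) (Lpn K51.v5927))))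
theorem f93561 : Led Lsl_bt (LP (LK LD1_c3 LD2_c47 LD3_c27)) = (LP (LK LD1_c7 LD2_c35 LD3_c41)) :=
  Lre_b IH (LK LD1_c3 LD2_c47 LD3_c27) (LK LD1_c7 LD2_c35 LD3_c41) Lrfl Lrfl
theorem f727579 : Led Lsl_gf (LP (LK LD1_c12 LD2_c2 LD3_c34)) = (LP (LK LD1_c7 LD2_c35 LD3_c41)) :=
  Lgr Lrot124 (Lpe (f709621 IH) (Lpr_ct (K51.f709586 IH) (Lpe (K51.f440104 IH) (Lpr_cf (f650088 IH) (Lpe (f650087 IH) (Lpr_gt (f442250 IH) (Lpr_ct (f442254 IH) (Lpr_gt (f727565 IH) (Lpe (K4.f93564 IH) (Lpr_bt (f93561 IH) (Lpn (LP (LK LD1_c7 LD2_c35 LD3_c41)))))))))))))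
theorem f709623 : Led Lsl_et (LP (LK LD1_c21 LD2_c7 LD3_c60)) = (LP (LK LD1_c12 LD2_c2 LD3_c34)) :=
  Lre_e IH (LK LD1_c21 LD2_c7 LD3_c60) (LK LD1_c12 LD2_c2 LD3_c34) Lrfl Lrfl
theorem f146645 : Led Lsl_gt (LP (LK LD1_c24 LD2_c17 LD3_c59)) = (LP (LK LD1_c14 LD2_c34 LD3_c48)) :=
  Lre_g IH (LK LD1_c24 LD2_c17 LD3_c59) (LK LD1_c14 LD2_c34 LD3_c48) Lrfl Lrfl
theorem f727584 : Led Lsl_dt (LP (LK LD1_c21 LD2_c7 LD3_c60)) = (LP (LK LD1_c24 LD2_c17 LD3_c59)) :=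
  Lgr Lrot136 (Lpr_et (f709623 IH) (Lpr_gf (f727579 IH) (Lpe (K8.f116691 IH) (Lpr_dt (K8.f111351 IH) (Lpe (K6.f91263 IH) (Lpr_df (K8.f151406 IH) (Lpr_gf (K7.f146678 IH) (Lpe (K6.f146663 IH) (Lpr_dt (K7.f146650 IH) (Lpe (f146645 IH) (Lpn (LP (LK LD1_c24 LD2_c17 LD3_c59)))))))))))))
theorem f727587 : Led Lsl_df (LP (LK LD1_c21 LD2_c7 LD3_c60)) = (LP (LK LD1_c24 LD2_c17 LD3_c59)) :=
  Lgr Lrot38 (Lpr_dt (f727584 IH) (Lpn (LP (LK LD1_c24 LD2_c17 LD3_c59))))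
theorem f768658 : Led Lsl_bt (LP (LK LD1_c17 LD2_c16 LD3_c46)) = (LP (LK LD1_c24 LD2_c17 LD3_c59)) :=
  Lgr Lrot95 (Lpr_df (f768656 IH) (Lpe (f768654 IH) (Lpr_df (f727587 IH) (Lpn (LP (LK LD1_c24 LD2_c17 LD3_c59))))))
theorem f768659 : Led Lsl_bt (LP (LK LD1_c17 LD2_c16 LD3_c46)) = (LP (LK LD1_c24 LD2_c17 LD3_c59)) :=
  Leop (Lpe (f768658 IH) (Lpn (LP (LK LD1_c17 LD2_c16 LD3_c46))))
theorem seed_1233 : LEOK LG_b (LK LD1_c17 LD2_c16 LD3_c46) :=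
  Leoe_b (LK LD1_c17 LD2_c16 LD3_c46) (f768659 IH)
theorem f111049 : Led Lsl_et (LP (LK LD1_c6 LD2_c49 LD3_c61)) = (LP (LK LD1_c3 LD2_c23 LD3_c20)) :=
  Lre_e IH (LK LD1_c6 LD2_c49 LD3_c61) (LK LD1_c3 LD2_c23 LD3_c20) Lrfl Lrfl
theorem f111050 : Led Lsl_dt (LP (LK LD1_c6 LD2_c49 LD3_c61)) = (LP (LK LD1_c13 LD2_c1 LD3_c17)) :=
  Lre_d IH (LK LD1_c6 LD2_c49 LD3_c61) (LK LD1_c13 LD2_c1 LD3_c17) Lrfl Lrfl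
theorem f130301 : Led Lsl_gt (LP (LK LD1_c13 LD2_c1 LD3_c17)) = (LP (LK LD1_c22 LD2_c11 LD3_c20)) :=
  Lre_g IH (LK LD1_c13 LD2_c1 LD3_c17) (LK LD1_c22 LD2_c11 LD3_c20) Lrfl Lrfl
theorem f91919 : Led Lsl_dt (LP (LK LD1_c9 LD2_c20 LD3_c50)) = (LP (LK LD1_c4 LD2_c43 LD3_c60)) :=
  Lre_d IH (LK LD1_c9 LD2_c20 LD3_c50) (LK LD1_c4 LD2_c43 LD3_c60) Lrfl Lrfl
theorem f446126 : Led Lsl_ct (LP (LK LD1_c9 LD2_c17 LD3_c36)) = (LP (LK LD1_c17 LD2_c12 LD3_c42)) :=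
  Lre_c IH (LK LD1_c9 LD2_c17 LD3_c36) (LK LD1_c17 LD2_c12 LD3_c42) Lrfl Lrfl
theorem f768661 : Led Lsl_gt (LP (LK LD1_c17 LD2_c12 LD3_c42)) = v18807 :=
  Lgr Lrot94 (Lpe (f446126 IH) (Lpr_gt (K51.f446000 IH) (Lpr_dt (K51.f446121 IH) (Lpq (K51.f708758 IH) (Lpe (K51.f702975 IH) (Lpr_dt (K3.f91929 IH) (Lpe (K3.f91930 IH) (Lpe (f91919 IH) (Lpe (f91940 IH) (Lpr_df (f768656 IH) (Lpn v18807)))))))))))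
theorem f652551 : Led Lsl_ct (LP (LK LD1_c12 LD2_c52 LD3_c17)) = (LP (LK LD1_c6 LD2_c43 LD3_c42)) :=
  Lre_c IH (LK LD1_c12 LD2_c52 LD3_c17) (LK LD1_c6 LD2_c43 LD3_c42) Lrfl Lrfl
def v6291 : LQ := Led Lsl_at (LP (LK LD1_c3 LD2_c19 LD3_c57))
theorem f652601 : Led Lsl_at (LP (LK LD1_c3 LD2_c19 LD3_c57)) = v6291 :=
  Lrfl
theorem f652602 : Led Lsl_af (LP (LK LD1_c3 LD2_c19 LD3_c57)) = v6291 :=
  Lgr Lrot0 (Lpr_at (f652601 IH) (Lpn v6291))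
theorem f62386 : Led Lsl_gt (LP (LK LD1_c1 LD2_c36 LD3_c22)) = (LP (LK LD1_c3 LD2_c19 LD3_c57)) :=
  Lre_g IH (LK LD1_c1 LD2_c36 LD3_c22) (LK LD1_c3 LD2_c19 LD3_c57) Lrfl Lrfl
theorem f652604 : Led Lsl_ft (LP (LK LD1_c3 LD2_c19 LD3_c58)) = v6291 :=
  Lgr Lrot2 (Lpr_gt (K51.f57235 IH) (Lpr_gt (f62386 IH) (Lpr_af (f652602 IH) (Lpn v6291))))
theorem f709371 : (LP (LK LD1_c6 LD2_c43 LD3_c17)) = v6291 :=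
  (Llr Lrot78 (Lpr_dt (K51.f62606 IH) (Lpr_ft (K51.f709271 IH) (Lpqs (K51.f709364 IH) (Lpr_dt (K51.f104301 IH) (Lpr_ft (f652604 IH) (Lpn v6291))))))).symm
theorem f652606 : Led Lsl_ff (LP (LK LD1_c3 LD2_c19 LD3_c58)) = v6291 :=
  Lgr Lrot3 (Lpr_ft (f652604 IH) (Lpn v6291))
def v6293 : LQ := Led Lsl_ft (LP (LK LD1_c3 LD2_c19 LD3_c57))
theorem f652611 : Led Lsl_ft (LP (LK LD1_c3 LD2_c19 LD3_c57)) = v6293 :=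
  Lrfl
theorem f652613 : Led Lsl_ff (LP (LK LD1_c3 LD2_c19 LD3_c57)) = v6293 :=
  Lgr Lrot3 (Lpr_ft (f652611 IH) (Lpn v6293))
theorem f652614 : Led Lsl_at (LP (LK LD1_c3 LD2_c19 LD3_c58)) = v6293 :=
  Lgr Lrot66 (Lpr_ff (f652606 IH) (Lpe (f652601 IH) (Lpr_ff (f652613 IH) (Lpn v6293))))
theorem f709398 : v6293 = K51.v6267 :=
  (Llr Lrot26 (Lpe (f652614 IH) (Lpr_ff (f652606 IH) (Lpq (f709371 IH) (Lpr_gt (K46.f652496 IH) (Lpr_gt (K57.f652484 IH) (Lpn K51.v6267))))))).symm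
theorem f103528 : Led Lsl_dt (LP (LK LD1_c6 LD2_c43 LD3_c42)) = (LP (LK LD1_c3 LD2_c19 LD3_c57)) :=
  Lre_d IH (LK LD1_c6 LD2_c43 LD3_c42) (LK LD1_c3 LD2_c19 LD3_c57) Lrfl Lrfl
theorem f652489 : Led Lsl_df (LP (LK LD1_c4 LD2_c44 LD3_c21)) = K51.v6267 :=
  Lgr Lrot38 (Lpr_dt (K51.f652487 IH) (Lpn K51.v6267))
def v13478 : LQ := Led Lsl_ft (LP (LK LD1_c4 LD2_c44 LD3_c21))
theorem f703225 : Led Lsl_ft (LP (LK LD1_c4 LD2_c44 LD3_c21)) = v13478 :=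
  Lrfl
theorem f709399 : (LP (LK LD1_c6 LD2_c43 LD3_c42)) = v13478 :=
  (Llr Lrot78 (Lpr_dt (f103528 IH) (Lpr_ft (f652611 IH) (Lpqs (f709398 IH) (Lpe (f652489 IH) (Lpr_ft (f703225 IH) (Lpn v13478))))))).symm
theorem f709272 : Led Lsl_af (LP (LK LD1_c12 LD2_c51 LD3_c26)) = v13478 :=
  Lgr Lrot45 (Lpr_ft (K51.f709271 IH) (Lpe (K51.f703218 IH) (Lpr_ft (f703225 IH) (Lpn v13478))))
theorem f143996 : Led Lsl_ct (LP (LK LD1_c12 LD2_c51 LD3_c26)) = (LP (LK LD1_c22 LD2_c0 LD3_c15)) :=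
  Lre_c IH (LK LD1_c12 LD2_c51 LD3_c26) (LK LD1_c22 LD2_c0 LD3_c15) Lrfl Lrfl
theorem f709410 : Led Lsl_af (LP (LK LD1_c12 LD2_c52 LD3_c17)) = (LP (LK LD1_c22 LD2_c0 LD3_c15)) :=
  Lgr Lrot68 (Lpr_ct (f652551 IH) (Lpqs (f709399 IH) (Lpe (f709272 IH) (Lpr_ct (f143996 IH) (Lpn (LP (LK LD1_c22 LD2_c0 LD3_c15)))))))
theorem f652488 : Led Lsl_ct (LP (LK LD1_c9 LD2_c21 LD3_c32)) = (LP (LK LD1_c4 LD2_c44 LD3_c21)) :=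
  Lre_c IH (LK LD1_c9 LD2_c21 LD3_c32) (LK LD1_c4 LD2_c44 LD3_c21) Lrfl Lrfl
theorem f652550 : Led Lsl_ct (LP (LK LD1_c6 LD2_c43 LD3_c42)) = (LP (LK LD1_c12 LD2_c52 LD3_c17)) :=
  Lre_c IH (LK LD1_c6 LD2_c43 LD3_c42) (LK LD1_c12 LD2_c52 LD3_c17) Lrfl Lrfl
theorem f709404 : Led Lsl_ff (LP (LK LD1_c9 LD2_c21 LD3_c32)) = (LP (LK LD1_c12 LD2_c52 LD3_c17)) :=
  Lgr Lrot23 (Lpr_ct (f652488 IH) (Lpr_ft (f703225 IH) (Lpq (f709399 IH) (Lpr_ct (f652550 IH) (Lpn (LP (LK LD1_c12 LD2_c52 LD3_c17)))))))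
theorem f509165 : Led Lsl_ct (LP (LK LD1_c22 LD2_c0 LD3_c15)) = (LP (LK LD1_c12 LD2_c51 LD3_c26)) :=
  Lre_c IH (LK LD1_c22 LD2_c0 LD3_c15) (LK LD1_c12 LD2_c51 LD3_c26) Lrfl Lrfl
theorem f632925 : Led Lsl_ct (LP (LK LD1_c6 LD2_c43 LD3_c45)) = (LP (LK LD1_c12 LD2_c52 LD3_c20)) :=
  Lre_c IH (LK LD1_c6 LD2_c43 LD3_c45) (LK LD1_c12 LD2_c52 LD3_c20) Lrfl Lrfl
theorem f709369 : Led Lsl_ff (LP (LK LD1_c22 LD2_c0 LD3_c15)) = (LP (LK LD1_c12 LD2_c52 LD3_c20)) :=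
  Lgr Lrot23 (Lpr_ct (f509165 IH) (Lpr_ft (K51.f709271 IH) (Lpqs (K51.f709364 IH) (Lpr_ct (f632925 IH) (Lpn (LP (LK LD1_c12 LD2_c52 LD3_c20)))))))
theorem f709414 : Led Lsl_at (LP (LK LD1_c9 LD2_c21 LD3_c32)) = (LP (LK LD1_c12 LD2_c52 LD3_c20)) :=
  Lgr Lrot66 (Lpr_ff (f709404 IH) (Lpr_af (f709410 IH) (Lpr_ff (f709369 IH) (Lpn (LP (LK LD1_c12 LD2_c52 LD3_c20))))))
theorem f703200 : Led Lsl_et (LP (LK LD1_c4 LD2_c44 LD3_c20)) = (LP (LK LD1_c9 LD2_c21 LD3_c32)) :=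
  Lre_e IH (LK LD1_c4 LD2_c44 LD3_c20) (LK LD1_c9 LD2_c21 LD3_c32) Lrfl Lrfl
def v13471 : LQ := Led Lsl_at (LP (LK LD1_c4 LD2_c44 LD3_c20))
theorem f703190 : Led Lsl_at (LP (LK LD1_c4 LD2_c44 LD3_c20)) = v13471 :=
  Lrfl
theorem f703191 : Led Lsl_af (LP (LK LD1_c4 LD2_c44 LD3_c20)) = v13471 :=
  Lgr Lrot0 (Lpr_at (f703190 IH) (Lpn v13471))
theorem f709418 : Led Lsl_ef v13471 = (LP (LK LD1_c12 LD2_c52 LD3_c20)) :=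
  Lgr Lrot20 (Lpe (f703191 IH) (Lpr_et (f703200 IH) (Lpr_at (f709414 IH) (Lpn (LP (LK LD1_c12 LD2_c52 LD3_c20))))))
theorem f709420 : Led Lsl_et v13471 = (LP (LK LD1_c12 LD2_c52 LD3_c20)) :=
  Lgr Lrot87 (Lpr_ef (f709418 IH) (Lpn (LP (LK LD1_c12 LD2_c52 LD3_c20))))
theorem f703192 : Led Lsl_cf K51.v4369 = v13471 :=
  Lgr Lrot1 (Lpe (K51.f632975 IH) (Lpr_ct (K50.f25259 IH) (Lpr_at (f703190 IH) (Lpn v13471))))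
theorem f632980 : Led Lsl_ff (LP (LK LD1_c2 LD2_c20 LD3_c10)) = K51.v4369 :=
  Lgr Lrot3 (Lpr_ft (K51.f632977 IH) (Lpn K51.v4369))
theorem f703194 : Led Lsl_ft (LP (LK LD1_c4 LD2_c44 LD3_c22)) = v13471 :=
  Lgr Lrot4 (Lpe (K51.f144058 IH) (Lpr_ff (f632980 IH) (Lpr_cf (f703192 IH) (Lpn v13471))))
theorem f703195 : Led Lsl_et (LP (LK LD1_c9 LD2_c21 LD3_c35)) = (LP (LK LD1_c4 LD2_c44 LD3_c22)) :=
  Lre_e IH (LK LD1_c9 LD2_c21 LD3_c35) (LK LD1_c4 LD2_c44 LD3_c22) Lrfl Lrfl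
theorem f703229 : Led Lsl_ct (LP (LK LD1_c9 LD2_c21 LD3_c35)) = (LP (LK LD1_c4 LD2_c44 LD3_c23)) :=
  Lre_c IH (LK LD1_c9 LD2_c21 LD3_c35) (LK LD1_c4 LD2_c44 LD3_c23) Lrfl Lrfl
theorem f709283 : Led Lsl_ff (LP (LK LD1_c9 LD2_c21 LD3_c35)) = (LP (LK LD1_c17 LD2_c12 LD3_c42)) :=
  Lgr Lrot23 (Lpr_ct (f703229 IH) (Lpr_ft (K51.f703245 IH) (Lpq (K51.f709278 IH) (Lpr_ct (f446126 IH) (Lpn (LP (LK LD1_c17 LD2_c12 LD3_c42)))))))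
theorem f709421 : Led Lsl_ef (LP (LK LD1_c17 LD2_c12 LD3_c42)) = (LP (LK LD1_c22 LD2_c0 LD3_c15)) :=
  Lgr Lrot21 (Lpe (f709283 IH) (Lpr_et (f703195 IH) (Lpr_ft (f703194 IH) (Lpr_et (f709420 IH) (Lpe (f709369 IH) (Lpn (LP (LK LD1_c22 LD2_c0 LD3_c15))))))))
theorem f768662 : Led Lsl_df (LP (LK LD1_c22 LD2_c11 LD3_c20)) = (LP (LK LD1_c22 LD2_c0 LD3_c15)) :=
  Lgr Lrot168 (Lpe (f130301 IH) (Lpe (f111050 IH) (Lpr_et (f111049 IH) (Lpr_gf (f109976 IH) (Lpe (K3.f91918 IH) (Lpr_dt (f91914 IH) (Lpe (f91940 IH) (Lpr_df (f768656 IH) (Lpe (f768661 IH) (Lpr_ef (f709421 IH) (Lpn (LP (LK LD1_c22 LD2_c0 LD3_c15)))))))))))))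
theorem f768663 : Led Lsl_dt (LP (LK LD1_c22 LD2_c0 LD3_c15)) = (LP (LK LD1_c22 LD2_c11 LD3_c20)) :=
  Leop (Lpr_df (f768662 IH) (Lpn (LP (LK LD1_c22 LD2_c0 LD3_c15))))
theorem seed_1234 : LEOK LG_d (LK LD1_c22 LD2_c0 LD3_c15) :=
  Leoe_d (LK LD1_c22 LD2_c0 LD3_c15) (f768663 IH)
def v2225 : LQ := Led Lsl_gt (LP (LK LD1_c1 LD2_c38 LD3_c4))
theorem f509746 : Led Lsl_gt (LP (LK LD1_c1 LD2_c38 LD3_c4)) = v2225 :=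
  Lrfl
def v8835 : LQ := Led Lsl_bt v2225
theorem f672446 : Led Lsl_bt v2225 = v8835 :=
  Lrfl
theorem f672447 : Led Lsl_bf v2225 = v8835 :=
  Lgr Lrot24 (Lpr_bt (f672446 IH) (Lpn v8835))
theorem f438561 : Led Lsl_bt (LP (LK LD1_c0 LD2_c42 LD3_c35)) = (LP (LK LD1_c1 LD2_c31 LD3_c61)) :=
  Lre_b IH (LK LD1_c0 LD2_c42 LD3_c35) (LK LD1_c1 LD2_c31 LD3_c61) Lrfl Lrfl
def v6283 : LQ := Led Lsl_at (LP (LK LD1_c3 LD2_c19 LD3_c55))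
theorem f652559 : Led Lsl_at (LP (LK LD1_c3 LD2_c19 LD3_c55)) = v6283 :=
  Lrfl
theorem f509178 : Led Lsl_ct (LP (LK LD1_c1 LD2_c36 LD3_c21)) = (LP (LK LD1_c3 LD2_c19 LD3_c55)) :=
  Lre_c IH (LK LD1_c1 LD2_c36 LD3_c21) (LK LD1_c3 LD2_c19 LD3_c55) Lrfl Lrfl
theorem f652561 : Led Lsl_cf K50.v2137 = v6283 :=
  Lgr Lrot1 (Lpe (K50.f509188 IH) (Lpr_ct (f509178 IH) (Lpr_at (f652559 IH) (Lpn v6283))))
theorem f652562 : Led Lsl_ct K50.v2137 = v6283 :=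
  Lgr Lrot59 (Lpr_cf (f652561 IH) (Lpn v6283))
def v8649 : LQ := Led Lsl_ct K51.v2135
theorem f671899 : Led Lsl_ct K51.v2135 = v8649 :=
  Lrfl
theorem f708294 : v6283 = v8649 :=
  Lefun (Lecon (f652562 IH) (K51.f708291 IH)) (f671899 IH)
theorem f768664 : Led Lsl_dt (LP (LK LD1_c22 LD2_c11 LD3_c20)) = (LP (LK LD1_c22 LD2_c0 LD3_c15)) :=
  Lgr Lrot42 (Lpr_df (f768662 IH) (Lpn (LP (LK LD1_c22 LD2_c0 LD3_c15))))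
theorem f671900 : Led Lsl_cf K51.v2135 = v8649 :=
  Lgr Lrot11 (Lpr_ct (f671899 IH) (Lpn v8649))
theorem f768666 : Led Lsl_gf (LP (LK LD1_c6 LD2_c49 LD3_c61)) = v8649 :=
  Lgr Lrot144 (Lpr_dt (f111050 IH) (Lpr_gt (f130301 IH) (Lpr_dt (f768664 IH) (Lpe (f143996 IH) (Lpe (K51.f62606 IH) (Lpe (K46.f62605 IH) (Lpe (K6.f62575 IH) (Lpr_gf (K51.f509163 IH) (Lpr_cf (f671900 IH) (Lpn v8649))))))))))
theorem f509748 : Led Lsl_ct (LP (LK LD1_c3 LD2_c23 LD3_c21)) = (LP (LK LD1_c6 LD2_c49 LD3_c61)) :=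
  Lre_c IH (LK LD1_c3 LD2_c23 LD3_c21) (LK LD1_c6 LD2_c49 LD3_c61) Lrfl Lrfl
theorem f90493 : Led Lsl_bt (LP (LK LD1_c3 LD2_c23 LD3_c21)) = (LP (LK LD1_c1 LD2_c38 LD3_c4)) :=
  Lre_b IH (LK LD1_c3 LD2_c23 LD3_c21) (LK LD1_c1 LD2_c38 LD3_c4) Lrfl Lrfl
theorem f57169 : Led Lsl_bt (LP (LK LD1_c0 LD2_c44 LD3_c43)) = (LP (LK LD1_c1 LD2_c36 LD3_c23)) :=
  Lre_b IH (LK LD1_c0 LD2_c44 LD3_c43) (LK LD1_c1 LD2_c36 LD3_c23) Lrfl Lrfl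
theorem f768668 : v8835 = (LP (LK LD1_c0 LD2_c42 LD3_c35)) :=
  (Llr Lrot34 (Lpe (f672447 IH) (Lpe (f509746 IH) (Lpe (f90493 IH) (Lpr_ct (f509748 IH) (Lpr_gf (f768666 IH) (Lpq (f708294 IH) (Lpe (f652562 IH) (Lpqs (K51.f708291 IH) (Lpe (K51.f509164 IH) (Lpe (f57169 IH) (Lpr_ct (K1.f57175 IH) (Lpe (K32.f438544 IH) (Lpe (K32.f69108 IH) (Lpn (LP (LK LD1_c0 LD2_c42 LD3_c35))))))))))))))))).symm
theorem f768669 : v2225 = (LP (LK LD1_c1 LD2_c31 LD3_c61)) :=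
  Lefun (Lecon (Lfl_bf (f672447 IH)) (f768668 IH)) (f438561 IH)
theorem f768672 : Led Lsl_gt (LP (LK LD1_c1 LD2_c38 LD3_c4)) = (LP (LK LD1_c1 LD2_c31 LD3_c61)) :=
  Leop (Lpq (f768669 IH) (Lpe (f509746 IH) (Lpn (LP (LK LD1_c1 LD2_c38 LD3_c4)))))
theorem seed_1235 : LEOK LG_g (LK LD1_c1 LD2_c38 LD3_c4) :=
  Leoe_g (LK LD1_c1 LD2_c38 LD3_c4) (f768672 IH)
def v13376 : LQ := Led Lsl_at (LP (LK LD1_c4 LD2_c43 LD3_c31))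
theorem f702603 : Led Lsl_at (LP (LK LD1_c4 LD2_c43 LD3_c31)) = v13376 :=
  Lrfl
theorem f622860 : Led Lsl_ff (LP (LK LD1_c3 LD2_c8 LD3_c49)) = (LP (LK LD1_c3 LD2_c19 LD3_c37)) :=
  Lgr Lrot23 (Lpr_ct (K32.f67197 IH) (Lpr_ft (K35.f506257 IH) (Lpqs (K35.f622855 IH) (Lpr_ct (K32.f500049 IH) (Lpn (LP (LK LD1_c3 LD2_c19 LD3_c37)))))))
theorem f623469 : Led Lsl_ft (LP (LK LD1_c3 LD2_c8 LD3_c49)) = (LP (LK LD1_c3 LD2_c19 LD3_c37)) :=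
  Lgr Lrot48 (Lpr_ff (f622860 IH) (Lpn (LP (LK LD1_c3 LD2_c19 LD3_c37))))
theorem f67314 : Led Lsl_dt (LP (LK LD1_c6 LD2_c22 LD3_c14)) = (LP (LK LD1_c3 LD2_c8 LD3_c49)) :=
  Lre_d IH (LK LD1_c6 LD2_c22 LD3_c14) (LK LD1_c3 LD2_c8 LD3_c49) Lrfl Lrfl
theorem f623475 : Led Lsl_ff (LP (LK LD1_c6 LD2_c22 LD3_c14)) = (LP (LK LD1_c6 LD2_c42 LD3_c61)) :=
  Lgr Lrot19 (Lpr_dt (f67314 IH) (Lpr_ft (f623469 IH) (Lpr_dt (K50.f416989 IH) (Lpn (LP (LK LD1_c6 LD2_c42 LD3_c61))))))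
theorem f24708 : Led Lsl_dt (LP (LK LD1_c3 LD2_c19 LD3_c36)) = (LP (LK LD1_c6 LD2_c42 LD3_c59)) :=
  Lre_d IH (LK LD1_c3 LD2_c19 LD3_c36) (LK LD1_c6 LD2_c42 LD3_c59) Lrfl Lrfl
theorem f503643 : Led Lsl_gt (LP (LK LD1_c6 LD2_c42 LD3_c59)) = (LP (LK LD1_c12 LD2_c17 LD3_c14)) :=
  Lgr Lrot49 (Lpe (f24708 IH) (Lpe (K24.f24707 IH) (Lpe (K5.f24676 IH) (Lpr_gt (K29.f24683 IH) (Lpr_dt (K29.f24684 IH) (Lpr_gt (K32.f503641 IH) (Lpe (K32.f503537 IH) (Lpe (K32.f435719 IH) (Lpe (K50.f435727 IH) (Lpn (LP (LK LD1_c12 LD2_c17 LD3_c14))))))))))))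
theorem f504254 : Led Lsl_gt (LP (LK LD1_c12 LD2_c17 LD3_c12)) = (LP (LK LD1_c6 LD2_c42 LD3_c59)) :=
  Lgr Lrot5 (Lpr_ft (K50.f504246 IH) (Lpr_at (K50.f503610 IH) (Lpe (f503643 IH) (Lpn (LP (LK LD1_c6 LD2_c42 LD3_c59))))))
theorem f623480 : Led Lsl_at (LP (LK LD1_c6 LD2_c22 LD3_c14)) = (LP (LK LD1_c6 LD2_c42 LD3_c59)) :=
  Lgr Lrot26 (Lpr_ff (f623475 IH) (Lpe (K50.f504279 IH) (Lpr_gt (f504254 IH) (Lpn (LP (LK LD1_c6 LD2_c42 LD3_c59))))))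
theorem f503569 : Led Lsl_bt (LP (LK LD1_c12 LD2_c17 LD3_c59)) = (LP (LK LD1_c6 LD2_c22 LD3_c14)) :=
  Lre_b IH (LK LD1_c12 LD2_c17 LD3_c59) (LK LD1_c6 LD2_c22 LD3_c14) Lrfl Lrfl
theorem f623484 : Led Lsl_at (LP (LK LD1_c21 LD2_c23 LD3_c21)) = (LP (LK LD1_c12 LD2_c17 LD3_c59)) :=
  Lre_a IH (LK LD1_c21 LD2_c23 LD3_c21) (LK LD1_c12 LD2_c17 LD3_c59) Lrfl Lrfl
theorem f623485 : Led Lsl_bt (LP (LK LD1_c6 LD2_c42 LD3_c59)) = (LP (LK LD1_c12 LD2_c50 LD3_c50)) :=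
  Lre_b IH (LK LD1_c6 LD2_c42 LD3_c59) (LK LD1_c12 LD2_c50 LD3_c50) Lrfl Lrfl
theorem f623486 : Led Lsl_at (LP (LK LD1_c12 LD2_c50 LD3_c50)) = (LP (LK LD1_c21 LD2_c59 LD3_c11)) :=
  Lre_a IH (LK LD1_c12 LD2_c50 LD3_c50) (LK LD1_c21 LD2_c59 LD3_c11) Lrfl Lrfl
theorem f623487 : Led Lsl_bf (LP (LK LD1_c21 LD2_c23 LD3_c21)) = (LP (LK LD1_c21 LD2_c59 LD3_c11)) :=
  Lgr Lrot81 (Lpr_at (f623484 IH) (Lpr_bt (f503569 IH) (Lpr_at (f623480 IH) (Lpr_bt (f623485 IH) (Lpr_at (f623486 IH) (Lpn (LP (LK LD1_c21 LD2_c59 LD3_c11))))))))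
theorem f67293 : Led Lsl_dt (LP (LK LD1_c21 LD2_c23 LD3_c21)) = (LP (LK LD1_c12 LD2_c17 LD3_c58)) :=
  Lre_d IH (LK LD1_c21 LD2_c23 LD3_c21) (LK LD1_c12 LD2_c17 LD3_c58) Lrfl Lrfl
theorem f438757 : Led Lsl_dt (LP (LK LD1_c12 LD2_c50 LD3_c48)) = (LP (LK LD1_c21 LD2_c59 LD3_c11)) :=
  Lre_d IH (LK LD1_c12 LD2_c50 LD3_c48) (LK LD1_c21 LD2_c59 LD3_c11) Lrfl Lrfl
theorem f623491 : Led Lsl_bt (LP (LK LD1_c12 LD2_c17 LD3_c58)) = (LP (LK LD1_c12 LD2_c50 LD3_c48)) :=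
  Lgr Lrot95 (Lpe (f67293 IH) (Lpr_bf (f623487 IH) (Lpe (f438757 IH) (Lpn (LP (LK LD1_c12 LD2_c50 LD3_c48))))))
theorem f67206 : Led Lsl_bt (LP (LK LD1_c3 LD2_c8 LD3_c49)) = (LP (LK LD1_c6 LD2_c22 LD3_c13)) :=
  Lre_b IH (LK LD1_c3 LD2_c8 LD3_c49) (LK LD1_c6 LD2_c22 LD3_c13) Lrfl Lrfl
theorem f67207 : Led Lsl_bt (LP (LK LD1_c6 LD2_c27 LD3_c0)) = (LP (LK LD1_c3 LD2_c11 LD3_c23)) :=
  Lre_b IH (LK LD1_c6 LD2_c27 LD3_c0) (LK LD1_c3 LD2_c11 LD3_c23) Lrfl Lrfl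
theorem f67208 : Led Lsl_et (LP (LK LD1_c6 LD2_c22 LD3_c13)) = (LP (LK LD1_c6 LD2_c27 LD3_c0)) :=
  Lgr Lrot74 (Lpe (f67206 IH) (Lpr_ef (K32.f67199 IH) (Lpe (f67207 IH) (Lpn (LP (LK LD1_c6 LD2_c27 LD3_c0))))))
theorem f67213 : Led Lsl_at (LP (LK LD1_c12 LD2_c17 LD3_c58)) = (LP (LK LD1_c6 LD2_c22 LD3_c13)) :=
  Lre_a IH (LK LD1_c12 LD2_c17 LD3_c58) (LK LD1_c6 LD2_c22 LD3_c13) Lrfl Lrfl
theorem f67214 : Led Lsl_at (LP (LK LD1_c6 LD2_c27 LD3_c0)) = (LP (LK LD1_c12 LD2_c25 LD3_c47)) :=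
  Lre_a IH (LK LD1_c6 LD2_c27 LD3_c0) (LK LD1_c12 LD2_c25 LD3_c47) Lrfl Lrfl
theorem f67215 : Led Lsl_ef (LP (LK LD1_c12 LD2_c17 LD3_c58)) = (LP (LK LD1_c12 LD2_c25 LD3_c47)) :=
  Lgr Lrot20 (Lpr_at (f67213 IH) (Lpr_et (f67208 IH) (Lpr_at (f67214 IH) (Lpn (LP (LK LD1_c12 LD2_c25 LD3_c47))))))
theorem f438314 : Led Lsl_bt (LP (LK LD1_c9 LD2_c20 LD3_c19)) = (LP (LK LD1_c4 LD2_c43 LD3_c32)) :=
  Lre_b IH (LK LD1_c9 LD2_c20 LD3_c19) (LK LD1_c4 LD2_c43 LD3_c32) Lrfl Lrfl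
theorem f438301 : Led Lsl_bt (LP (LK LD1_c3 LD2_c19 LD3_c36)) = (LP (LK LD1_c6 LD2_c42 LD3_c58)) :=
  Lre_b IH (LK LD1_c3 LD2_c19 LD3_c36) (LK LD1_c6 LD2_c42 LD3_c58) Lrfl Lrfl
theorem f438315 : Led Lsl_ef (LP (LK LD1_c9 LD2_c20 LD3_c19)) = (LP (LK LD1_c6 LD2_c42 LD3_c58)) :=
  Lgr Lrot29 (Lpr_bt (f438314 IH) (Lpr_et (K24.f438312 IH) (Lpr_bt (f438301 IH) (Lpn (LP (LK LD1_c6 LD2_c42 LD3_c58))))))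
theorem f438325 : Led Lsl_ct (LP (LK LD1_c9 LD2_c20 LD3_c19)) = (LP (LK LD1_c17 LD2_c16 LD3_c5)) :=
  Lre_c IH (LK LD1_c9 LD2_c20 LD3_c19) (LK LD1_c17 LD2_c16 LD3_c5) Lrfl Lrfl
theorem f438297 : Led Lsl_ct (LP (LK LD1_c12 LD2_c50 LD3_c49)) = (LP (LK LD1_c6 LD2_c42 LD3_c58)) :=
  Lre_c IH (LK LD1_c12 LD2_c50 LD3_c49) (LK LD1_c6 LD2_c42 LD3_c58) Lrfl Lrfl
theorem f438719 : Led Lsl_et (LP (LK LD1_c17 LD2_c16 LD3_c5)) = (LP (LK LD1_c12 LD2_c50 LD3_c49)) :=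
  Lgr Lrot158 (Lpe (f438325 IH) (Lpr_ef (f438315 IH) (Lpe (f438297 IH) (Lpn (LP (LK LD1_c12 LD2_c50 LD3_c49))))))
theorem f438730 : Led Lsl_ef (LP (LK LD1_c17 LD2_c16 LD3_c5)) = (LP (LK LD1_c12 LD2_c50 LD3_c49)) :=
  Lgr Lrot88 (Lpr_et (f438719 IH) (Lpn (LP (LK LD1_c12 LD2_c50 LD3_c49))))
theorem f438734 : Led Lsl_at (LP (LK LD1_c17 LD2_c16 LD3_c5)) = (LP (LK LD1_c27 LD2_c5 LD3_c47)) :=
  Lre_a IH (LK LD1_c17 LD2_c16 LD3_c5) (LK LD1_c27 LD2_c5 LD3_c47) Lrfl Lrfl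
theorem f438735 : Led Lsl_at (LP (LK LD1_c21 LD2_c59 LD3_c10)) = (LP (LK LD1_c12 LD2_c50 LD3_c49)) :=
  Lre_a IH (LK LD1_c21 LD2_c59 LD3_c10) (LK LD1_c12 LD2_c50 LD3_c49) Lrfl Lrfl
theorem f438736 : Led Lsl_et (LP (LK LD1_c27 LD2_c5 LD3_c47)) = (LP (LK LD1_c21 LD2_c59 LD3_c10)) :=
  Lgr Lrot123 (Lpe (f438734 IH) (Lpr_ef (f438730 IH) (Lpe (f438735 IH) (Lpn (LP (LK LD1_c21 LD2_c59 LD3_c10))))))
theorem f438750 : Led Lsl_ct (LP (LK LD1_c17 LD2_c16 LD3_c9)) = (LP (LK LD1_c27 LD2_c5 LD3_c47)) :=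
  Lre_c IH (LK LD1_c17 LD2_c16 LD3_c9) (LK LD1_c27 LD2_c5 LD3_c47) Lrfl Lrfl
theorem f438751 : Led Lsl_ct (LP (LK LD1_c21 LD2_c59 LD3_c10)) = (LP (LK LD1_c12 LD2_c50 LD3_c48)) :=
  Lre_c IH (LK LD1_c21 LD2_c59 LD3_c10) (LK LD1_c12 LD2_c50 LD3_c48) Lrfl Lrfl
theorem f438752 : Led Lsl_ef (LP (LK LD1_c17 LD2_c16 LD3_c9)) = (LP (LK LD1_c12 LD2_c50 LD3_c48)) :=
  Lgr Lrot28 (Lpr_ct (f438750 IH) (Lpr_et (f438736 IH) (Lpr_ct (f438751 IH) (Lpn (LP (LK LD1_c12 LD2_c50 LD3_c48))))))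
theorem f623495 : Led Lsl_bf (LP (LK LD1_c12 LD2_c25 LD3_c47)) = (LP (LK LD1_c17 LD2_c16 LD3_c9)) :=
  Lgr Lrot96 (Lpe (f67215 IH) (Lpr_bt (f623491 IH) (Lpe (f438752 IH) (Lpn (LP (LK LD1_c17 LD2_c16 LD3_c9))))))
theorem f623499 : Led Lsl_bt (LP (LK LD1_c12 LD2_c25 LD3_c47)) = (LP (LK LD1_c17 LD2_c16 LD3_c9)) :=
  Lgr Lrot127 (Lpr_bf (f623495 IH) (Lpn (LP (LK LD1_c17 LD2_c16 LD3_c9))))
theorem f67233 : Led Lsl_bt (LP (LK LD1_c3 LD2_c11 LD3_c23)) = (LP (LK LD1_c6 LD2_c27 LD3_c0)) :=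
  Lre_b IH (LK LD1_c3 LD2_c11 LD3_c23) (LK LD1_c6 LD2_c27 LD3_c0) Lrfl Lrfl
theorem f438754 : Led Lsl_at (LP (LK LD1_c17 LD2_c16 LD3_c9)) = (LP (LK LD1_c9 LD2_c20 LD3_c19)) :=
  Lre_a IH (LK LD1_c17 LD2_c16 LD3_c9) (LK LD1_c9 LD2_c20 LD3_c19) Lrfl Lrfl
theorem f623501 : Led Lsl_af (LP (LK LD1_c3 LD2_c11 LD3_c23)) = (LP (LK LD1_c4 LD2_c43 LD3_c32)) :=
  Lgr Lrot36 (Lpr_bt (f67233 IH) (Lpr_at (f67214 IH) (Lpr_bt (f623499 IH) (Lpr_at (f438754 IH) (Lpr_bt (f438314 IH) (Lpn (LP (LK LD1_c4 LD2_c43 LD3_c32))))))))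
theorem f84364 : Led Lsl_ct (LP (LK LD1_c1 LD2_c8 LD3_c15)) = (LP (LK LD1_c2 LD2_c22 LD3_c13)) :=
  Lre_c IH (LK LD1_c1 LD2_c8 LD3_c15) (LK LD1_c2 LD2_c22 LD3_c13) Lrfl Lrfl
theorem f57198 : Led Lsl_ft (LP (LK LD1_c6 LD2_c44 LD3_c11)) = (LP (LK LD1_c3 LD2_c20 LD3_c12)) :=
  Lre_f IH (LK LD1_c6 LD2_c44 LD3_c11) (LK LD1_c3 LD2_c20 LD3_c12) Lrfl Lrfl
theorem f135354 : Led Lsl_at (LP (LK LD1_c3 LD2_c20 LD3_c12)) = (LP (LK LD1_c4 LD2_c48 LD3_c39)) :=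
  Lgr Lrot51 (Lpe (K6.f57500 IH) (Lpr_af (K6.f135279 IH) (Lpe (K6.f84365 IH) (Lpn (LP (LK LD1_c4 LD2_c48 LD3_c39))))))
theorem f438535 : Led Lsl_gt (LP (LK LD1_c6 LD2_c27 LD3_c1)) = (LP (LK LD1_c4 LD2_c48 LD3_c39)) :=
  Lgr Lrot46 (Lpr_gf (K32.f438533 IH) (Lpr_ft (f57198 IH) (Lpr_at (f135354 IH) (Lpn (LP (LK LD1_c4 LD2_c48 LD3_c39))))))
theorem f503939 : Led Lsl_gt (LP (LK LD1_c6 LD2_c26 LD3_c39)) = (LP (LK LD1_c3 LD2_c11 LD3_c23)) :=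
  Lgr Lrot180 (Lpr_ct (K32.f503931 IH) (Lpr_gt (K32.f437964 IH) (Lpr_dt (K24.f84346 IH) (Lpr_gt (K24.f23279 IH) (Lpr_dt (K5.f23261 IH) (Lpr_ct (f84364 IH) (Lpe (K6.f84365 IH) (Lpe (f438535 IH) (Lpe (K32.f67212 IH) (Lpn (LP (LK LD1_c3 LD2_c11 LD3_c23))))))))))))
theorem f623505 : Led Lsl_ft (LP (LK LD1_c3 LD2_c11 LD3_c14)) = (LP (LK LD1_c4 LD2_c43 LD3_c32)) :=
  Lgr Lrot2 (Lpr_gt (K32.f61700 IH) (Lpr_gt (f503939 IH) (Lpr_af (f623501 IH) (Lpn (LP (LK LD1_c4 LD2_c43 LD3_c32))))))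
theorem f623511 : Led Lsl_ff (LP (LK LD1_c3 LD2_c11 LD3_c14)) = (LP (LK LD1_c4 LD2_c43 LD3_c32)) :=
  Lgr Lrot3 (Lpr_ft (f623505 IH) (Lpn (LP (LK LD1_c4 LD2_c43 LD3_c32))))
theorem f453598 : Led Lsl_bt (LP (LK LD1_c3 LD2_c11 LD3_c14)) = (LP (LK LD1_c6 LD2_c26 LD3_c41)) :=
  Lre_b IH (LK LD1_c3 LD2_c11 LD3_c14) (LK LD1_c6 LD2_c26 LD3_c41) Lrfl Lrfl
theorem f623513 : Led Lsl_ft (LP (LK LD1_c6 LD2_c26 LD3_c41)) = (LP (LK LD1_c9 LD2_c20 LD3_c19)) :=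
  Lgr Lrot75 (Lpe (f453598 IH) (Lpr_ff (f623511 IH) (Lpe (f438314 IH) (Lpn (LP (LK LD1_c9 LD2_c20 LD3_c19))))))
theorem f503956 : Led Lsl_ct (LP (LK LD1_c12 LD2_c24 LD3_c60)) = (LP (LK LD1_c6 LD2_c26 LD3_c41)) :=
  Lre_c IH (LK LD1_c12 LD2_c24 LD3_c60) (LK LD1_c6 LD2_c26 LD3_c41) Lrfl Lrfl
theorem f623549 : Led Lsl_ff (LP (LK LD1_c12 LD2_c24 LD3_c60)) = (LP (LK LD1_c17 LD2_c16 LD3_c5)) :=
  Lgr Lrot23 (Lpr_ct (f503956 IH) (Lpr_ft (f623513 IH) (Lpr_ct (f438325 IH) (Lpn (LP (LK LD1_c17 LD2_c16 LD3_c5))))))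
theorem f623561 : Led Lsl_ft (LP (LK LD1_c12 LD2_c24 LD3_c60)) = (LP (LK LD1_c17 LD2_c16 LD3_c5)) :=
  Lgr Lrot48 (Lpr_ff (f623549 IH) (Lpn (LP (LK LD1_c17 LD2_c16 LD3_c5))))
theorem f506523 : Led Lsl_bt (LP (LK LD1_c6 LD2_c26 LD3_c32)) = (LP (LK LD1_c12 LD2_c24 LD3_c60)) :=
  Lre_b IH (LK LD1_c6 LD2_c26 LD3_c32) (LK LD1_c12 LD2_c24 LD3_c60) Lrfl Lrfl
theorem f152238 : Led Lsl_bt (LP (LK LD1_c17 LD2_c16 LD3_c5)) = (LP (LK LD1_c9 LD2_c20 LD3_c18)) :=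
  Lre_b IH (LK LD1_c17 LD2_c16 LD3_c5) (LK LD1_c9 LD2_c20 LD3_c18) Lrfl Lrfl
theorem f623570 : Led Lsl_ff (LP (LK LD1_c6 LD2_c26 LD3_c32)) = (LP (LK LD1_c9 LD2_c20 LD3_c18)) :=
  Lgr Lrot25 (Lpr_bt (f506523 IH) (Lpr_ft (f623561 IH) (Lpr_bt (f152238 IH) (Lpn (LP (LK LD1_c9 LD2_c20 LD3_c18))))))
theorem f61703 : Led Lsl_ct (LP (LK LD1_c6 LD2_c26 LD3_c32)) = (LP (LK LD1_c3 LD2_c11 LD3_c9)) :=
  Lre_c IH (LK LD1_c6 LD2_c26 LD3_c32) (LK LD1_c3 LD2_c11 LD3_c9) Lrfl Lrfl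
theorem f152240 : Led Lsl_ct (LP (LK LD1_c4 LD2_c43 LD3_c31)) = (LP (LK LD1_c9 LD2_c20 LD3_c18)) :=
  Lre_c IH (LK LD1_c4 LD2_c43 LD3_c31) (LK LD1_c9 LD2_c20 LD3_c18) Lrfl Lrfl
theorem f623575 : Led Lsl_ft (LP (LK LD1_c3 LD2_c11 LD3_c9)) = (LP (LK LD1_c4 LD2_c43 LD3_c31)) :=
  Lgr Lrot4 (Lpe (f61703 IH) (Lpr_ff (f623570 IH) (Lpe (f152240 IH) (Lpn (LP (LK LD1_c4 LD2_c43 LD3_c31))))))
def v5642 : LQ := Led Lsl_at (LP (LK LD1_c3 LD2_c11 LD3_c9))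
theorem f648641 : Led Lsl_at (LP (LK LD1_c3 LD2_c11 LD3_c9)) = v5642 :=
  Lrfl
theorem f648642 : Led Lsl_af (LP (LK LD1_c3 LD2_c11 LD3_c9)) = v5642 :=
  Lgr Lrot0 (Lpr_at (f648641 IH) (Lpn v5642))
theorem f702608 : Led Lsl_ff v5642 = v13376 :=
  Lgr Lrot30 (Lpe (f648642 IH) (Lpr_ft (f623575 IH) (Lpr_at (f702603 IH) (Lpn v13376))))
theorem f506520 : Led Lsl_dt (LP (LK LD1_c1 LD2_c31 LD3_c61)) = (LP (LK LD1_c3 LD2_c11 LD3_c9)) :=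
  Lre_d IH (LK LD1_c1 LD2_c31 LD3_c61) (LK LD1_c3 LD2_c11 LD3_c9) Lrfl Lrfl
def v1947 : LQ := Led Lsl_at (LP (LK LD1_c1 LD2_c31 LD3_c61))
theorem f506528 : Led Lsl_at (LP (LK LD1_c1 LD2_c31 LD3_c61)) = v1947 :=
  Lrfl
theorem f506529 : Led Lsl_af (LP (LK LD1_c1 LD2_c31 LD3_c61)) = v1947 :=
  Lgr Lrot0 (Lpr_at (f506528 IH) (Lpn v1947))
theorem f648643 : Led Lsl_df v1947 = v5642 :=
  Lgr Lrot18 (Lpe (f506529 IH) (Lpr_dt (f506520 IH) (Lpr_at (f648641 IH) (Lpn v5642))))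
def v4332 : LQ := Led Lsl_at (LP (LK LD1_c2 LD2_c19 LD3_c29))
theorem f632703 : Led Lsl_at (LP (LK LD1_c2 LD2_c19 LD3_c29)) = v4332 :=
  Lrfl
def v1949 : LQ := Led Lsl_ft (LP (LK LD1_c1 LD2_c31 LD3_c61))
theorem f506536 : Led Lsl_ft (LP (LK LD1_c1 LD2_c31 LD3_c61)) = v1949 :=
  Lrfl
theorem f506538 : Led Lsl_ff (LP (LK LD1_c1 LD2_c31 LD3_c61)) = v1949 :=
  Lgr Lrot3 (Lpr_ft (f506536 IH) (Lpn v1949))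
theorem f153686 : Led Lsl_bt (LP (LK LD1_c1 LD2_c31 LD3_c61)) = (LP (LK LD1_c0 LD2_c42 LD3_c35)) :=
  Lre_b IH (LK LD1_c1 LD2_c31 LD3_c61) (LK LD1_c0 LD2_c42 LD3_c35) Lrfl Lrfl
theorem f506540 : Led Lsl_bt K35.v496 = v1949 :=
  Lgr Lrot35 (Lpe (K35.f453623 IH) (Lpe (f153686 IH) (Lpr_ff (f506538 IH) (Lpn v1949))))
theorem f438327 : Led Lsl_bt (LP (LK LD1_c1 LD2_c6 LD3_c52)) = (LP (LK LD1_c2 LD2_c19 LD3_c29)) :=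
  Lre_b IH (LK LD1_c1 LD2_c6 LD3_c52) (LK LD1_c2 LD2_c19 LD3_c29) Lrfl Lrfl
theorem f622817 : v1949 = (LP (LK LD1_c2 LD2_c19 LD3_c29)) :=
  Lefun (Lecon (f506540 IH) (K35.f622806 IH)) (f438327 IH)
theorem f632706 : Led Lsl_ff v1947 = v4332 :=
  Lgr Lrot30 (Lpe (f506529 IH) (Lpr_ft (f506536 IH) (Lpqs (f622817 IH) (Lpr_at (f632703 IH) (Lpn v4332)))))
theorem f632711 : Led Lsl_ft v1947 = v4332 :=
  Lgr Lrot48 (Lpr_ff (f632706 IH) (Lpn v4332))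
theorem f702613 : Led Lsl_dt v4332 = v13376 :=
  Lgr Lrot60 (Lpe (f632711 IH) (Lpr_df (f648643 IH) (Lpr_ff (f702608 IH) (Lpn v13376))))
theorem f155015 : Led Lsl_dt (LP (LK LD1_c3 LD2_c23 LD3_c25)) = (LP (LK LD1_c6 LD2_c50 LD3_c10)) :=
  Lre_d IH (LK LD1_c3 LD2_c23 LD3_c25) (LK LD1_c6 LD2_c50 LD3_c10) Lrfl Lrfl
def v6524 : LQ := Led Lsl_ft (LP (LK LD1_c3 LD2_c23 LD3_c4))
theorem f653767 : Led Lsl_ft (LP (LK LD1_c3 LD2_c23 LD3_c4)) = v6524 :=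
  Lrfl
theorem f653771 : Led Lsl_ff (LP (LK LD1_c3 LD2_c23 LD3_c4)) = v6524 :=
  Lgr Lrot3 (Lpr_ft (f653767 IH) (Lpn v6524))
theorem f83739 : Led Lsl_gt (LP (LK LD1_c3 LD2_c23 LD3_c25)) = (LP (LK LD1_c1 LD2_c38 LD3_c4)) :=
  Lre_g IH (LK LD1_c3 LD2_c23 LD3_c25) (LK LD1_c1 LD2_c38 LD3_c4) Lrfl Lrfl
theorem f653779 : Led Lsl_gf (LP (LK LD1_c3 LD2_c23 LD3_c25)) = v6524 :=
  Lgr Lrot47 (Lpr_gt (f83739 IH) (Lpe (K3.f90307 IH) (Lpr_ff (f653771 IH) (Lpn v6524))))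
theorem f438562 : Led Lsl_gt (LP (LK LD1_c1 LD2_c31 LD3_c61)) = (LP (LK LD1_c3 LD2_c11 LD3_c7)) :=
  Lre_g IH (LK LD1_c1 LD2_c31 LD3_c61) (LK LD1_c3 LD2_c11 LD3_c7) Lrfl Lrfl
theorem f632707 : Led Lsl_gt (LP (LK LD1_c3 LD2_c11 LD3_c7)) = v4332 :=
  Lgr Lrot46 (Lpe (f438562 IH) (Lpr_ft (f506536 IH) (Lpqs (f622817 IH) (Lpr_at (f632703 IH) (Lpn v4332)))))
theorem f90296 : Led Lsl_ft (LP (LK LD1_c1 LD2_c38 LD3_c4)) = (LP (LK LD1_c3 LD2_c23 LD3_c27)) :=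
  Lre_f IH (LK LD1_c1 LD2_c38 LD3_c4) (LK LD1_c3 LD2_c23 LD3_c27) Lrfl Lrfl
theorem f653776 : Led Lsl_at (LP (LK LD1_c3 LD2_c23 LD3_c27)) = v6524 :=
  Lgr Lrot66 (Lpe (f90296 IH) (Lpe (K3.f90307 IH) (Lpr_ff (f653771 IH) (Lpn v6524))))
theorem f653780 : Led Lsl_gt v2225 = v6524 :=
  Lgr Lrot46 (Lpe (f509746 IH) (Lpr_ft (f90296 IH) (Lpr_at (f653776 IH) (Lpn v6524))))
theorem f768670 : v6524 = (LP (LK LD1_c3 LD2_c11 LD3_c7)) :=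
  Lefun (Lecon (f653780 IH) (f768669 IH)) (f438562 IH)
theorem f768678 : (LP (LK LD1_c3 LD2_c23 LD3_c25)) = v4332 :=
  Lefun (Lecon (Lfl_gf (f653779 IH)) (f768670 IH)) (f632707 IH)
theorem f768703 : v13376 = (LP (LK LD1_c6 LD2_c50 LD3_c10)) :=
  Lefun (Lecon (f702613 IH) (f768678 IH).symm) (f155015 IH)
theorem f504168 : Led Lsl_gt (LP (LK LD1_c6 LD2_c26 LD3_c31)) = (LP (LK LD1_c3 LD2_c11 LD3_c9)) :=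
  Lre_g IH (LK LD1_c6 LD2_c26 LD3_c31) (LK LD1_c3 LD2_c11 LD3_c9) Lrfl Lrfl
theorem f702615 : Led Lsl_gf (LP (LK LD1_c6 LD2_c26 LD3_c31)) = v13376 :=
  Lgr Lrot47 (Lpr_gt (f504168 IH) (Lpr_af (f648642 IH) (Lpr_ff (f702608 IH) (Lpn v13376))))
theorem f768704 : Led Lsl_gt (LP (LK LD1_c6 LD2_c50 LD3_c10)) = (LP (LK LD1_c6 LD2_c26 LD3_c31)) :=
  Leop (Lpr_gf (f702615 IH) (Lpqs (f768703 IH) (Lpn (LP (LK LD1_c6 LD2_c50 LD3_c10)))))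
theorem seed_1236 : LEOK LG_g (LK LD1_c6 LD2_c50 LD3_c10) :=
  Leoe_g (LK LD1_c6 LD2_c50 LD3_c10) (f768704 IH)
def v13490 : LQ := Led Lsl_gf (LP (LK LD1_c4 LD2_c44 LD3_c26))
theorem f703272 : Led Lsl_gf (LP (LK LD1_c4 LD2_c44 LD3_c26)) = v13490 :=
  Lrfl
def v5208 : LQ := Led Lsl_gf (LP (LK LD1_c3 LD2_c1 LD3_c61))
theorem f646533 : Led Lsl_gf (LP (LK LD1_c3 LD2_c1 LD3_c61)) = v5208 :=
  Lrfl
theorem f96018 : Led Lsl_af (LP (LK LD1_c3 LD2_c1 LD3_c61)) = (LP (LK LD1_c1 LD2_c50 LD3_c22)) :=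
  Lgr Lrot50 (Lpr_et (K46.f64279 IH) (Lpr_at (K3.f96010 IH) (Lpr_et (K56.f65703 IH) (Lpn (LP (LK LD1_c1 LD2_c50 LD3_c22))))))
def v2637 : LQ := Led Lsl_ft (LP (LK LD1_c1 LD2_c50 LD3_c22))
theorem f529946 : Led Lsl_ft (LP (LK LD1_c1 LD2_c50 LD3_c22)) = v2637 :=
  Lrfl
theorem f529949 : Led Lsl_ff (LP (LK LD1_c1 LD2_c50 LD3_c22)) = v2637 :=
  Lgr Lrot3 (Lpr_ft (f529946 IH) (Lpn v2637))
theorem f646534 : Led Lsl_gt v2637 = v5208 :=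
  Lgr Lrot5 (Lpe (f529949 IH) (Lpe (f96018 IH) (Lpr_gf (f646533 IH) (Lpn v5208))))
theorem f206525 : Led Lsl_ct (LP (LK LD1_c2 LD2_c20 LD3_c15)) = (LP (LK LD1_c4 LD2_c44 LD3_c26)) :=
  Lre_c IH (LK LD1_c2 LD2_c20 LD3_c15) (LK LD1_c4 LD2_c44 LD3_c26) Lrfl Lrfl
theorem f206524 : Led Lsl_bt (LP (LK LD1_c2 LD2_c20 LD3_c15)) = (LP (LK LD1_c1 LD2_c7 LD3_c25)) :=
  Lre_b IH (LK LD1_c2 LD2_c20 LD3_c15) (LK LD1_c1 LD2_c7 LD3_c25) Lrfl Lrfl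
def v1112 : LQ := Led Lsl_bt K29.v266
theorem f491568 : Led Lsl_bt K29.v266 = v1112 :=
  Lrfl
def v3890 : LQ := Led Lsl_gt v1112
theorem f627759 : Led Lsl_gt v1112 = v3890 :=
  Lrfl
def v11787 : LQ := Led Lsl_bt v3890
theorem f685888 : Led Lsl_bt v3890 = v11787 :=
  Lrfl
theorem f685889 : Led Lsl_bf v3890 = v11787 :=
  Lgr Lrot24 (Lpr_bt (f685888 IH) (Lpn v11787))
theorem f703273 : Led Lsl_ct v11787 = v13490 :=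
  Lgr Lrot64 (Lpe (f685889 IH) (Lpe (f627759 IH) (Lpe (f491568 IH) (Lpr_ct (K35.f491570 IH) (Lpq (K49.f535846 IH) (Lpe (K49.f494346 IH) (Lpr_cf (K24.f206513 IH) (Lpe (K32.f206523 IH) (Lpe (f206524 IH) (Lpr_ct (f206525 IH) (Lpr_gf (f703272 IH) (Lpn v13490))))))))))))
theorem f105261 : Led Lsl_ct (LP (LK LD1_c1 LD2_c50 LD3_c22)) = (LP (LK LD1_c0 LD2_c52 LD3_c3)) :=
  Lre_c IH (LK LD1_c1 LD2_c50 LD3_c22) (LK LD1_c0 LD2_c52 LD3_c3) Lrfl Lrfl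
def v833 : LQ := Led Lsl_ft (LP (LK LD1_c0 LD2_c52 LD3_c3))
theorem f459624 : Led Lsl_ft (LP (LK LD1_c0 LD2_c52 LD3_c3)) = v833 :=
  Lrfl
theorem f529950 : Led Lsl_ct v833 = v2637 :=
  Lgr Lrot40 (Lpe (f459624 IH) (Lpe (f105261 IH) (Lpr_ff (f529949 IH) (Lpn v2637))))
def v828 : LQ := Led Lsl_et (LP (LK LD1_c0 LD2_c52 LD3_c0))
def v3434 : LQ := Led Lsl_ft v828
theorem f625636 : Led Lsl_ft v828 = v3434 :=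
  Lrfl
theorem f459601 : Led Lsl_et (LP (LK LD1_c0 LD2_c52 LD3_c0)) = v828 :=
  Lrfl
theorem f459604 : Led Lsl_ef (LP (LK LD1_c0 LD2_c52 LD3_c0)) = v828 :=
  Lgr Lrot88 (Lpr_et (f459601 IH) (Lpn v828))
theorem f459606 : Led Lsl_bt (LP (LK LD1_c0 LD2_c52 LD3_c3)) = v828 :=
  Lgr Lrot119 (Lpe (K56.f66437 IH) (Lpe (K11.f68344 IH) (Lpr_ef (f459604 IH) (Lpn v828))))
theorem f459625 : Led Lsl_ff (LP (LK LD1_c0 LD2_c52 LD3_c3)) = v833 :=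
  Lgr Lrot3 (Lpr_ft (f459624 IH) (Lpn v833))
theorem f625638 : Led Lsl_bf v833 = v3434 :=
  Lgr Lrot61 (Lpe (f459625 IH) (Lpr_bt (f459606 IH) (Lpr_ft (f625636 IH) (Lpn v3434))))
theorem f625640 : Led Lsl_ff v828 = v3434 :=
  Lgr Lrot3 (Lpr_ft (f625636 IH) (Lpn v3434))
theorem f95306 : Led Lsl_at (LP (LK LD1_c0 LD2_c45 LD3_c24)) = (LP (LK LD1_c0 LD2_c52 LD3_c0)) :=
  Lgr Lrot51 (Lpe (K2.f13519 IH) (Lpr_af (K2.f95298 IH) (Lpe (K2.f23356 IH) (Lpn (LP (LK LD1_c0 LD2_c52 LD3_c0))))))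
theorem f91966 : Led Lsl_et (LP (LK LD1_c1 LD2_c37 LD3_c55)) = (LP (LK LD1_c0 LD2_c45 LD3_c24)) :=
  Lre_e IH (LK LD1_c1 LD2_c37 LD3_c55) (LK LD1_c0 LD2_c45 LD3_c24) Lrfl Lrfl
theorem f459602 : Led Lsl_af (LP (LK LD1_c1 LD2_c37 LD3_c55)) = v828 :=
  Lgr Lrot50 (Lpr_et (f91966 IH) (Lpr_at (f95306 IH) (Lpr_et (f459601 IH) (Lpn v828))))
def v2222 : LQ := Led Lsl_ft (LP (LK LD1_c1 LD2_c37 LD3_c55))
theorem f509740 : Led Lsl_ft (LP (LK LD1_c1 LD2_c37 LD3_c55)) = v2222 :=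
  Lrfl
theorem f625642 : Led Lsl_at v2222 = v3434 :=
  Lgr Lrot66 (Lpe (f509740 IH) (Lpr_af (f459602 IH) (Lpr_ff (f625640 IH) (Lpn v3434))))
def v2219 : LQ := Led Lsl_gt (LP (LK LD1_c1 LD2_c37 LD3_c55))
theorem f509734 : Led Lsl_gt (LP (LK LD1_c1 LD2_c37 LD3_c55)) = v2219 :=
  Lrfl
theorem f625646 : Led Lsl_gt v2219 = v3434 :=
  Lgr Lrot46 (Lpe (f509734 IH) (Lpr_ft (f509740 IH) (Lpr_at (f625642 IH) (Lpn v3434))))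
def v8817 : LQ := Led Lsl_et v2219
theorem f672391 : Led Lsl_et v2219 = v8817 :=
  Lrfl
theorem f672392 : Led Lsl_ef v2219 = v8817 :=
  Lgr Lrot88 (Lpr_et (f672391 IH) (Lpn v8817))
def v3895 : LQ := Led Lsl_et v1112
theorem f627769 : Led Lsl_et v1112 = v3895 :=
  Lrfl
theorem f627771 : Led Lsl_ef v1112 = v3895 :=
  Lgr Lrot88 (Lpr_et (f627769 IH) (Lpn v3895))
theorem f95545 : Led Lsl_et (LP (LK LD1_c0 LD2_c45 LD3_c24)) = (LP (LK LD1_c1 LD2_c37 LD3_c55)) :=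
  Lre_e IH (LK LD1_c0 LD2_c45 LD3_c24) (LK LD1_c1 LD2_c37 LD3_c55) Lrfl Lrfl
theorem f77083 : Led Lsl_et (LP (LK LD1_c1 LD2_c38 LD3_c1)) = (LP (LK LD1_c0 LD2_c45 LD3_c27)) :=
  Lre_e IH (LK LD1_c1 LD2_c38 LD3_c1) (LK LD1_c0 LD2_c45 LD3_c27) Lrfl Lrfl
theorem f77084 : Led Lsl_dt (LP (LK LD1_c1 LD2_c38 LD3_c1)) = (LP (LK LD1_c3 LD2_c23 LD3_c17)) :=
  Lre_d IH (LK LD1_c1 LD2_c38 LD3_c1) (LK LD1_c3 LD2_c23 LD3_c17) Lrfl Lrfl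
def v6541 : LQ := Led Lsl_gf (LP (LK LD1_c3 LD2_c23 LD3_c17))
theorem f653865 : Led Lsl_gf (LP (LK LD1_c3 LD2_c23 LD3_c17)) = v6541 :=
  Lrfl
theorem f672393 : Led Lsl_df v6541 = v8817 :=
  Lgr Lrot170 (Lpe (f653865 IH) (Lpe (f77084 IH) (Lpr_et (f77083 IH) (Lpr_gt (K2.f9805 IH) (Lpr_dt (K0.f9804 IH) (Lpr_gt (K2.f9813 IH) (Lpe (K2.f91958 IH) (Lpr_et (f95545 IH) (Lpr_gt (f509734 IH) (Lpr_ef (f672392 IH) (Lpn v8817)))))))))))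
theorem f672394 : Led Lsl_dt v6541 = v8817 :=
  Lgr Lrot42 (Lpr_df (f672393 IH) (Lpn v8817))
theorem f491569 : Led Lsl_bf K29.v266 = v1112 :=
  Lgr Lrot24 (Lpr_bt (f491568 IH) (Lpn v1112))
theorem f627772 : Led Lsl_bt K29.v1115 = v3895 :=
  Lgr Lrot119 (Lpe (K29.f491574 IH) (Lpr_bf (f491569 IH) (Lpr_ef (f627771 IH) (Lpn v3895))))
theorem f416993 : Led Lsl_bt (LP (LK LD1_c3 LD2_c8 LD3_c51)) = (LP (LK LD1_c1 LD2_c30 LD3_c34)) :=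
  Lre_b IH (LK LD1_c3 LD2_c8 LD3_c51) (LK LD1_c1 LD2_c30 LD3_c34) Lrfl Lrfl
theorem f627773 : Led Lsl_df (LP (LK LD1_c3 LD2_c8 LD3_c51)) = v3895 :=
  Lgr Lrot12 (Lpr_bt (f416993 IH) (Lpr_dt (K29.f491577 IH) (Lpr_bt (f627772 IH) (Lpn v3895))))
theorem f627774 : Led Lsl_dt (LP (LK LD1_c3 LD2_c8 LD3_c51)) = v3895 :=
  Lgr Lrot42 (Lpr_df (f627773 IH) (Lpn v3895))
def v18236 : LQ := Led Lsl_ft (LP (LK LD1_c6 LD2_c27 LD3_c35))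
theorem f765674 : Led Lsl_ft (LP (LK LD1_c6 LD2_c27 LD3_c35)) = v18236 :=
  Lrfl
theorem f765678 : Led Lsl_ff (LP (LK LD1_c6 LD2_c27 LD3_c35)) = v18236 :=
  Lgr Lrot3 (Lpr_ft (f765674 IH) (Lpn v18236))
theorem f93341 : Led Lsl_bt (LP (LK LD1_c6 LD2_c49 LD3_c44)) = (LP (LK LD1_c3 LD2_c23 LD3_c17)) :=
  Lre_b IH (LK LD1_c6 LD2_c49 LD3_c44) (LK LD1_c3 LD2_c23 LD3_c17) Lrfl Lrfl
theorem f93345 : Led Lsl_et (LP (LK LD1_c3 LD2_c23 LD3_c17)) = (LP (LK LD1_c3 LD2_c6 LD3_c49)) :=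
  Lgr Lrot74 (Lpe (f93341 IH) (Lpr_ef (K3.f93339 IH) (Lpr_bf (K3.f90387 IH) (Lpn (LP (LK LD1_c3 LD2_c6 LD3_c49))))))
theorem f76768 : Led Lsl_et (LP (LK LD1_c3 LD2_c11 LD3_c41)) = (LP (LK LD1_c6 LD2_c27 LD3_c35)) :=
  Lre_e IH (LK LD1_c3 LD2_c11 LD3_c41) (LK LD1_c6 LD2_c27 LD3_c35) Lrfl Lrfl
theorem f93940 : Led Lsl_af (LP (LK LD1_c3 LD2_c23 LD3_c17)) = (LP (LK LD1_c6 LD2_c27 LD3_c35)) :=
  Lgr Lrot50 (Lpr_et (f93345 IH) (Lpe (K6.f90401 IH) (Lpr_et (f76768 IH) (Lpn (LP (LK LD1_c6 LD2_c27 LD3_c35))))))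
theorem f765685 : Led Lsl_gf v6541 = v18236 :=
  Lgr Lrot47 (Lpe (f653865 IH) (Lpr_af (f93940 IH) (Lpr_ff (f765678 IH) (Lpn v18236))))
def v5510 : LQ := Led Lsl_gf (LP (LK LD1_c3 LD2_c8 LD3_c51))
theorem f648011 : Led Lsl_gf (LP (LK LD1_c3 LD2_c8 LD3_c51)) = v5510 :=
  Lrfl
def v13275 : LQ := Led Lsl_at (LP (LK LD1_c4 LD2_c42 LD3_c10))
theorem f702063 : Led Lsl_at (LP (LK LD1_c4 LD2_c42 LD3_c10)) = v13275 :=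
  Lrfl
theorem f622853 : Led Lsl_af (LP (LK LD1_c6 LD2_c22 LD3_c18)) = (LP (LK LD1_c6 LD2_c42 LD3_c61)) :=
  Lgr Lrot117 (Lpr_dt (K57.f435684 IH) (Lpr_at (K35.f622848 IH) (Lpr_dt (K50.f416989 IH) (Lpn (LP (LK LD1_c6 LD2_c42 LD3_c61))))))
theorem f623627 : Led Lsl_at (LP (LK LD1_c6 LD2_c22 LD3_c18)) = (LP (LK LD1_c6 LD2_c42 LD3_c61)) :=
  Lgr Lrot100 (Lpr_af (f622853 IH) (Lpn (LP (LK LD1_c6 LD2_c42 LD3_c61))))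
theorem f623632 : Led Lsl_ff (LP (LK LD1_c6 LD2_c22 LD3_c18)) = (LP (LK LD1_c6 LD2_c42 LD3_c59)) :=
  Lgr Lrot30 (Lpr_at (f623627 IH) (Lpe (f623475 IH) (Lpr_at (f623480 IH) (Lpn (LP (LK LD1_c6 LD2_c42 LD3_c59))))))
theorem f623629 : Led Lsl_bt (LP (LK LD1_c6 LD2_c22 LD3_c18)) = (LP (LK LD1_c12 LD2_c18 LD3_c4)) :=
  Lre_b IH (LK LD1_c6 LD2_c22 LD3_c18) (LK LD1_c12 LD2_c18 LD3_c4) Lrfl Lrfl
theorem f504208 : Led Lsl_bt (LP (LK LD1_c12 LD2_c50 LD3_c50)) = (LP (LK LD1_c6 LD2_c42 LD3_c59)) :=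
  Lre_b IH (LK LD1_c12 LD2_c50 LD3_c50) (LK LD1_c6 LD2_c42 LD3_c59) Lrfl Lrfl
theorem f623634 : Led Lsl_ft (LP (LK LD1_c12 LD2_c18 LD3_c4)) = (LP (LK LD1_c12 LD2_c50 LD3_c50)) :=
  Lgr Lrot75 (Lpe (f623629 IH) (Lpr_ff (f623632 IH) (Lpe (f504208 IH) (Lpn (LP (LK LD1_c12 LD2_c50 LD3_c50))))))
theorem f623643 : Led Lsl_ff (LP (LK LD1_c12 LD2_c18 LD3_c4)) = (LP (LK LD1_c12 LD2_c50 LD3_c50)) :=
  Lgr Lrot3 (Lpr_ft (f623634 IH) (Lpn (LP (LK LD1_c12 LD2_c50 LD3_c50))))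
theorem f623630 : Led Lsl_at (LP (LK LD1_c12 LD2_c18 LD3_c4)) = (LP (LK LD1_c21 LD2_c23 LD3_c31)) :=
  Lre_a IH (LK LD1_c12 LD2_c18 LD3_c4) (LK LD1_c21 LD2_c23 LD3_c31) Lrfl Lrfl
theorem f623609 : Led Lsl_at (LP (LK LD1_c21 LD2_c59 LD3_c11)) = (LP (LK LD1_c12 LD2_c50 LD3_c50)) :=
  Lre_a IH (LK LD1_c21 LD2_c59 LD3_c11) (LK LD1_c12 LD2_c50 LD3_c50) Lrfl Lrfl
theorem f623647 : Led Lsl_ft (LP (LK LD1_c21 LD2_c23 LD3_c31)) = (LP (LK LD1_c21 LD2_c59 LD3_c11)) :=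
  Lgr Lrot101 (Lpe (f623630 IH) (Lpr_ff (f623643 IH) (Lpe (f623609 IH) (Lpn (LP (LK LD1_c21 LD2_c59 LD3_c11))))))
theorem f623652 : Led Lsl_dt (LP (LK LD1_c12 LD2_c18 LD3_c3)) = (LP (LK LD1_c21 LD2_c23 LD3_c31)) :=
  Lre_d IH (LK LD1_c12 LD2_c18 LD3_c3) (LK LD1_c21 LD2_c23 LD3_c31) Lrfl Lrfl
theorem f438756 : Led Lsl_dt (LP (LK LD1_c21 LD2_c59 LD3_c11)) = (LP (LK LD1_c12 LD2_c50 LD3_c48)) :=
  Lre_d IH (LK LD1_c21 LD2_c59 LD3_c11) (LK LD1_c12 LD2_c50 LD3_c48) Lrfl Lrfl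
theorem f623653 : Led Lsl_ff (LP (LK LD1_c12 LD2_c18 LD3_c3)) = (LP (LK LD1_c12 LD2_c50 LD3_c48)) :=
  Lgr Lrot19 (Lpr_dt (f623652 IH) (Lpr_ft (f623647 IH) (Lpr_dt (f438756 IH) (Lpn (LP (LK LD1_c12 LD2_c50 LD3_c48))))))
theorem f623659 : Led Lsl_ft (LP (LK LD1_c12 LD2_c18 LD3_c3)) = (LP (LK LD1_c12 LD2_c50 LD3_c48)) :=
  Lgr Lrot48 (Lpr_ff (f623653 IH) (Lpn (LP (LK LD1_c12 LD2_c50 LD3_c48))))
theorem f623665 : Led Lsl_ct (LP (LK LD1_c21 LD2_c23 LD3_c26)) = (LP (LK LD1_c12 LD2_c18 LD3_c3)) :=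
  Lre_c IH (LK LD1_c21 LD2_c23 LD3_c26) (LK LD1_c12 LD2_c18 LD3_c3) Lrfl Lrfl
theorem f438759 : Led Lsl_ct (LP (LK LD1_c12 LD2_c50 LD3_c48)) = (LP (LK LD1_c21 LD2_c59 LD3_c10)) :=
  Lre_c IH (LK LD1_c12 LD2_c50 LD3_c48) (LK LD1_c21 LD2_c59 LD3_c10) Lrfl Lrfl
theorem f623666 : Led Lsl_ff (LP (LK LD1_c21 LD2_c23 LD3_c26)) = (LP (LK LD1_c21 LD2_c59 LD3_c10)) :=
  Lgr Lrot23 (Lpr_ct (f623665 IH) (Lpr_ft (f623659 IH) (Lpr_ct (f438759 IH) (Lpn (LP (LK LD1_c21 LD2_c59 LD3_c10))))))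
theorem f623668 : Led Lsl_at (LP (LK LD1_c21 LD2_c23 LD3_c26)) = (LP (LK LD1_c12 LD2_c17 LD3_c61)) :=
  Lre_a IH (LK LD1_c21 LD2_c23 LD3_c26) (LK LD1_c12 LD2_c17 LD3_c61) Lrfl Lrfl
theorem f438724 : Led Lsl_at (LP (LK LD1_c12 LD2_c50 LD3_c49)) = (LP (LK LD1_c21 LD2_c59 LD3_c10)) :=
  Lre_a IH (LK LD1_c12 LD2_c50 LD3_c49) (LK LD1_c21 LD2_c59 LD3_c10) Lrfl Lrfl
theorem f623669 : Led Lsl_ft (LP (LK LD1_c12 LD2_c17 LD3_c61)) = (LP (LK LD1_c12 LD2_c50 LD3_c49)) :=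
  Lgr Lrot101 (Lpe (f623668 IH) (Lpr_ff (f623666 IH) (Lpe (f438724 IH) (Lpn (LP (LK LD1_c12 LD2_c50 LD3_c49))))))
theorem f623673 : Led Lsl_bt (LP (LK LD1_c6 LD2_c22 LD3_c16)) = (LP (LK LD1_c12 LD2_c17 LD3_c61)) :=
  Lre_b IH (LK LD1_c6 LD2_c22 LD3_c16) (LK LD1_c12 LD2_c17 LD3_c61) Lrfl Lrfl
theorem f152219 : Led Lsl_bt (LP (LK LD1_c4 LD2_c42 LD3_c10)) = (LP (LK LD1_c2 LD2_c18 LD3_c24)) :=
  Lre_b IH (LK LD1_c4 LD2_c42 LD3_c10) (LK LD1_c2 LD2_c18 LD3_c24) Lrfl Lrfl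
theorem f152239 : Led Lsl_ct (LP (LK LD1_c9 LD2_c18 LD3_c41)) = (LP (LK LD1_c4 LD2_c42 LD3_c10)) :=
  Lre_c IH (LK LD1_c9 LD2_c18 LD3_c41) (LK LD1_c4 LD2_c42 LD3_c10) Lrfl Lrfl
theorem f438299 : Led Lsl_ct (LP (LK LD1_c6 LD2_c42 LD3_c58)) = (LP (LK LD1_c12 LD2_c50 LD3_c49)) :=
  Lre_c IH (LK LD1_c6 LD2_c42 LD3_c58) (LK LD1_c12 LD2_c50 LD3_c49) Lrfl Lrfl
theorem f438302 : Led Lsl_bf (LP (LK LD1_c9 LD2_c18 LD3_c41)) = (LP (LK LD1_c12 LD2_c50 LD3_c49)) :=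
  Lgr Lrot90 (Lpr_ct (f152239 IH) (Lpr_bt (f152219 IH) (Lpr_ct (K24.f438294 IH) (Lpr_bt (f438301 IH) (Lpr_ct (f438299 IH) (Lpn (LP (LK LD1_c12 LD2_c50 LD3_c49))))))))
theorem f623674 : Led Lsl_ff (LP (LK LD1_c6 LD2_c22 LD3_c16)) = (LP (LK LD1_c9 LD2_c18 LD3_c41)) :=
  Lgr Lrot25 (Lpr_bt (f623673 IH) (Lpr_ft (f623669 IH) (Lpe (f438302 IH) (Lpn (LP (LK LD1_c9 LD2_c18 LD3_c41))))))
theorem f419104 : Led Lsl_ct (LP (LK LD1_c6 LD2_c22 LD3_c16)) = (LP (LK LD1_c3 LD2_c8 LD3_c51)) :=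
  Lre_c IH (LK LD1_c6 LD2_c22 LD3_c16) (LK LD1_c3 LD2_c8 LD3_c51) Lrfl Lrfl
theorem f152225 : Led Lsl_ct (LP (LK LD1_c4 LD2_c42 LD3_c10)) = (LP (LK LD1_c9 LD2_c18 LD3_c41)) :=
  Lre_c IH (LK LD1_c4 LD2_c42 LD3_c10) (LK LD1_c9 LD2_c18 LD3_c41) Lrfl Lrfl
theorem f623700 : Led Lsl_ft (LP (LK LD1_c3 LD2_c8 LD3_c51)) = (LP (LK LD1_c4 LD2_c42 LD3_c10)) :=
  Lgr Lrot4 (Lpe (f419104 IH) (Lpr_ff (f623674 IH) (Lpe (f152225 IH) (Lpn (LP (LK LD1_c4 LD2_c42 LD3_c10))))))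
theorem f506261 : Led Lsl_at (LP (LK LD1_c6 LD2_c22 LD3_c15)) = (LP (LK LD1_c3 LD2_c8 LD3_c51)) :=
  Lre_a IH (LK LD1_c6 LD2_c22 LD3_c15) (LK LD1_c3 LD2_c8 LD3_c51) Lrfl Lrfl
theorem f702066 : Led Lsl_ff (LP (LK LD1_c6 LD2_c22 LD3_c15)) = v13275 :=
  Lgr Lrot30 (Lpr_at (f506261 IH) (Lpr_ft (f623700 IH) (Lpr_at (f702063 IH) (Lpn v13275))))
theorem f702069 : Led Lsl_gf v5510 = v13275 :=
  Lgr Lrot47 (Lpe (f648011 IH) (Lpe (f506261 IH) (Lpr_ff (f702066 IH) (Lpn v13275))))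
theorem f93985 : Led Lsl_ft (LP (LK LD1_c3 LD2_c23 LD3_c17)) = (LP (LK LD1_c6 LD2_c49 LD3_c58)) :=
  Lre_f IH (LK LD1_c3 LD2_c23 LD3_c17) (LK LD1_c6 LD2_c49 LD3_c58) Lrfl Lrfl
theorem f765682 : Led Lsl_at (LP (LK LD1_c6 LD2_c49 LD3_c58)) = v18236 :=
  Lgr Lrot66 (Lpe (f93985 IH) (Lpr_af (f93940 IH) (Lpr_ff (f765678 IH) (Lpn v18236))))
theorem f77085 : Led Lsl_gt (LP (LK LD1_c3 LD2_c23 LD3_c17)) = (LP (LK LD1_c6 LD2_c49 LD3_c56)) :=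
  Lre_g IH (LK LD1_c3 LD2_c23 LD3_c17) (LK LD1_c6 LD2_c49 LD3_c56) Lrfl Lrfl
theorem f765686 : Led Lsl_gt (LP (LK LD1_c6 LD2_c49 LD3_c56)) = v18236 :=
  Lgr Lrot46 (Lpe (f77085 IH) (Lpr_ft (f93985 IH) (Lpr_at (f765682 IH) (Lpn v18236))))
theorem f152211 : Led Lsl_bt (LP (LK LD1_c2 LD2_c18 LD3_c24)) = (LP (LK LD1_c4 LD2_c42 LD3_c10)) :=
  Lre_b IH (LK LD1_c2 LD2_c18 LD3_c24) (LK LD1_c4 LD2_c42 LD3_c10) Lrfl Lrfl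
theorem f152212 : Led Lsl_bt (LP (LK LD1_c4 LD2_c43 LD3_c31)) = (LP (LK LD1_c2 LD2_c19 LD3_c30)) :=
  Lre_b IH (LK LD1_c4 LD2_c43 LD3_c31) (LK LD1_c2 LD2_c19 LD3_c30) Lrfl Lrfl
theorem f152213 : Led Lsl_et (LP (LK LD1_c4 LD2_c42 LD3_c10)) = (LP (LK LD1_c4 LD2_c43 LD3_c31)) :=
  Lgr Lrot74 (Lpe (f152211 IH) (Lpr_ef (K24.f152207 IH) (Lpe (f152212 IH) (Lpn (LP (LK LD1_c4 LD2_c43 LD3_c31))))))
theorem f702064 : Led Lsl_af (LP (LK LD1_c4 LD2_c42 LD3_c10)) = v13275 :=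
  Lgr Lrot0 (Lpr_at (f702063 IH) (Lpn v13275))
theorem f702607 : Led Lsl_ef v13275 = v13376 :=
  Lgr Lrot20 (Lpe (f702064 IH) (Lpr_et (f152213 IH) (Lpr_at (f702603 IH) (Lpn v13376))))
theorem f90569 : Led Lsl_dt (LP (LK LD1_c3 LD2_c23 LD3_c17)) = (LP (LK LD1_c1 LD2_c38 LD3_c1)) :=
  Lre_d IH (LK LD1_c3 LD2_c23 LD3_c17) (LK LD1_c1 LD2_c38 LD3_c1) Lrfl Lrfl
theorem f90570 : Led Lsl_ef (LP (LK LD1_c3 LD2_c23 LD3_c17)) = (LP (LK LD1_c3 LD2_c6 LD3_c49)) :=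
  Lgr Lrot73 (Lpr_dt (f90569 IH) (Lpr_et (f77083 IH) (Lpr_dt (K2.f90561 IH) (Lpr_et (K2.f90105 IH) (Lpr_dt (K2.f66815 IH) (Lpn (LP (LK LD1_c3 LD2_c6 LD3_c49))))))))
theorem f83825 : Led Lsl_dt (LP (LK LD1_c6 LD2_c50 LD3_c10)) = (LP (LK LD1_c3 LD2_c23 LD3_c25)) :=
  Lre_d IH (LK LD1_c6 LD2_c50 LD3_c10) (LK LD1_c3 LD2_c23 LD3_c25) Lrfl Lrfl
theorem f155013 : Led Lsl_ef (LP (LK LD1_c6 LD2_c49 LD3_c56)) = (LP (LK LD1_c6 LD2_c50 LD3_c10)) :=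
  Lgr Lrot17 (Lpe (f77085 IH) (Lpr_ef (f90570 IH) (Lpr_dt (K3.f90129 IH) (Lpe (K11.f154957 IH) (Lpe (K7.f154671 IH) (Lpr_gf (K7.f154970 IH) (Lpr_ef (K3.f83812 IH) (Lpr_dt (K3.f77092 IH) (Lpe (f83739 IH) (Lpe (f83825 IH) (Lpn (LP (LK LD1_c6 LD2_c50 LD3_c10)))))))))))))
theorem f768737 : v13275 = (LP (LK LD1_c6 LD2_c49 LD3_c56)) :=
  Lefun (Lecon (Lfl_ef (f702607 IH)) (f768703 IH)) (Lfl_ef (f155013 IH))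
theorem f768747 : v5510 = v18236 :=
  Lefun (Lecon (Lfl_gf (f702069 IH)) (f768737 IH)) (f765686 IH)
theorem f768751 : v6541 = (LP (LK LD1_c3 LD2_c8 LD3_c51)) :=
  Lefun (Lecon (Lfl_gf (f765685 IH)) (f768747 IH).symm) (Lfl_gf (f648011 IH))
theorem f768754 : v8817 = v3895 :=
  Lefun (Lecon (f672394 IH) (f768751 IH)) (f627774 IH)
theorem f768756 : v2219 = v1112 :=
  Lefun (Lecon (Lfl_ef (f672392 IH)) (f768754 IH)) (Lfl_ef (f627771 IH))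
theorem f768758 : v3434 = v3890 :=
  Lefun (Lecon (f625646 IH) (f768756 IH)) (f627759 IH)
theorem f768767 : v11787 = v833 :=
  Lefun (Lecon (f685888 IH) (f768758 IH).symm) (Lfl_bf (f625638 IH))
theorem f768777 : v13490 = v2637 :=
  Lefun (Lecon (f703273 IH) (f768767 IH)) (f529950 IH)
theorem f768779 : (LP (LK LD1_c4 LD2_c44 LD3_c26)) = v5208 :=
  Lefun (Lecon (Lfl_gf (f703272 IH)) (f768777 IH)) (f646534 IH)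
theorem f768782 : Led Lsl_gt (LP (LK LD1_c4 LD2_c44 LD3_c26)) = (LP (LK LD1_c3 LD2_c1 LD3_c61)) :=
  Leop (Lpr_gf (f646533 IH) (Lpq (f768779 IH) (Lpn (LP (LK LD1_c4 LD2_c44 LD3_c26)))))
theorem seed_1237 : LEOK LG_g (LK LD1_c4 LD2_c44 LD3_c26) :=
  Leoe_g (LK LD1_c4 LD2_c44 LD3_c26) (f768782 IH)
theorem f651924 : Led Lsl_et K49.v3044 = K49.v5233 :=
  Lgr Lrot87 (Lpr_ef (K49.f651923 IH) (Lpn K49.v5233))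
theorem f507946 : Led Lsl_et (LP (LK LD1_c2 LD2_c20 LD3_c15)) = (LP (LK LD1_c4 LD2_c44 LD3_c27)) :=
  Lre_e IH (LK LD1_c2 LD2_c20 LD3_c15) (LK LD1_c4 LD2_c44 LD3_c27) Lrfl Lrfl
theorem f677234 : Led Lsl_af K49.v3044 = K49.v9702 :=
  Lgr Lrot45 (Lpr_ft (K49.f677222 IH) (Lpe (K49.f677221 IH) (Lpr_ft (K49.f677233 IH) (Lpn K49.v9702))))
def v3164 : LQ := Led Lsl_ft K49.v540
theorem f624099 : Led Lsl_ft K49.v540 = v3164 :=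
  Lrfl
theorem f624101 : Led Lsl_ff K49.v540 = v3164 :=
  Lgr Lrot3 (Lpr_ft (f624099 IH) (Lpn v3164))
theorem f624102 : Led Lsl_at K35.v541 = v3164 :=
  Lgr Lrot66 (Lpr_ff (K56.f624085 IH) (Lpe (K49.f624082 IH) (Lpr_ff (f624101 IH) (Lpn v3164))))
theorem f678571 : K49.v3044 = v3164 :=
  Lefun (Lecon (Lfl_af (f677234 IH)) (K49.f678569 IH)) (f624102 IH)
def v9390 : LQ := Led Lsl_ft K56.v2635
theorem f675656 : Led Lsl_ft K56.v2635 = v9390 :=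
  Lrfl
theorem f675680 : Led Lsl_cf v3164 = v9390 :=
  Lgr Lrot108 (Lpe (f624101 IH) (Lpr_ct (K56.f624088 IH) (Lpqs (K56.f675678 IH) (Lpr_ft (f675656 IH) (Lpn v9390)))))
theorem f446205 : Led Lsl_ct (LP (LK LD1_c4 LD2_c44 LD3_c26)) = (LP (LK LD1_c2 LD2_c20 LD3_c15)) :=
  Lre_c IH (LK LD1_c4 LD2_c44 LD3_c26) (LK LD1_c2 LD2_c20 LD3_c15) Lrfl Lrfl
theorem f675677 : Led Lsl_ct K49.v3159 = K56.v9385 :=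
  Lgr Lrot59 (Lpr_cf (K56.f675676 IH) (Lpn K56.v9385))
theorem f650900 : Led Lsl_cf K49.v2086 = K46.v6083 :=
  Lgr Lrot39 (Lpe (K49.f508753 IH) (Lpr_ct (K46.f118263 IH) (Lpr_et (K46.f650899 IH) (Lpn K46.v6083))))
theorem f650904 : Led Lsl_dt (LP (LK LD1_c12 LD2_c2 LD3_c0)) = K46.v6083 :=
  Lgr Lrot42 (Lpr_df (K46.f650903 IH) (Lpn K46.v6083))
def v7399 : LQ := Led Lsl_ft (LP (LK LD1_c3 LD2_c46 LD3_c31))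
theorem f664918 : Led Lsl_ft (LP (LK LD1_c3 LD2_c46 LD3_c31)) = v7399 :=
  Lrfl
theorem f664920 : Led Lsl_ff (LP (LK LD1_c3 LD2_c46 LD3_c31)) = v7399 :=
  Lgr Lrot3 (Lpr_ft (f664918 IH) (Lpn v7399))
theorem f664922 : Led Lsl_gf (LP (LK LD1_c12 LD2_c2 LD3_c0)) = v7399 :=
  Lgr Lrot47 (Lpr_gt (K46.f64281 IH) (Lpe (K3.f105263 IH) (Lpr_ff (f664920 IH) (Lpn v7399))))
theorem f664921 : Led Lsl_dt v2637 = v7399 :=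
  Lgr Lrot60 (Lpe (f529946 IH) (Lpe (K3.f65691 IH) (Lpr_ff (f664920 IH) (Lpn v7399))))
def v5209 : LQ := Led Lsl_ft (LP (LK LD1_c3 LD2_c1 LD3_c61))
theorem f646535 : Led Lsl_ft (LP (LK LD1_c3 LD2_c1 LD3_c61)) = v5209 :=
  Lrfl
def v5207 : LQ := Led Lsl_gt (LP (LK LD1_c3 LD2_c1 LD3_c61))
theorem f646531 : Led Lsl_gt (LP (LK LD1_c3 LD2_c1 LD3_c61)) = v5207 :=
  Lrfl
theorem f646536 : Led Lsl_af v2637 = v5209 :=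
  Lgr Lrot45 (Lpe (f529949 IH) (Lpe (f96018 IH) (Lpr_ft (f646535 IH) (Lpn v5209))))
theorem f646540 : Led Lsl_gt v5207 = v2637 :=
  Lgr Lrot46 (Lpe (f646531 IH) (Lpr_ft (f646535 IH) (Lpe (f646536 IH) (Lpn v2637))))
theorem f671581 : Led Lsl_ct K49.v3043 = v5207 :=
  Lgr Lrot8 (Lpr_gt (K49.f622628 IH) (Lpr_dt (K49.f624514 IH) (Lpr_gt (K49.f671579 IH) (Lpe (K49.f671578 IH) (Lpr_cf (f650900 IH) (Lpe (f650904 IH) (Lpr_gf (f664922 IH) (Lpe (f664921 IH) (Lpe (f646540 IH) (Lpn v5207))))))))))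
theorem f678578 : K56.v9385 = v5207 :=
  Lefun (Lecon (f675677 IH) (K49.f678572 IH).symm) (f671581 IH)
theorem f675644 : Led Lsl_ff K56.v2636 = K56.v9385 :=
  Lgr Lrot3 (Lpr_ft (K56.f675643 IH) (Lpn K56.v9385))
theorem f675658 : Led Lsl_ff K56.v2635 = v9390 :=
  Lgr Lrot3 (Lpr_ft (f675656 IH) (Lpn v9390))
theorem f675659 : Led Lsl_at K56.v2636 = v9390 :=
  Lgr Lrot66 (Lpr_ff (f675644 IH) (Lpe (K56.f675641 IH) (Lpr_ff (f675658 IH) (Lpn v9390))))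
theorem f678603 : v9390 = v5208 :=
  (Llr Lrot26 (Lpe (f675659 IH) (Lpr_ff (f675644 IH) (Lpqs (f678578 IH) (Lpr_gt (f646540 IH) (Lpr_gt (f646534 IH) (Lpn v5208))))))).symm
theorem f768784 : v3164 = (LP (LK LD1_c2 LD2_c20 LD3_c15)) :=
  Lefun (Lecon (Lfl_cf (f675680 IH)) ((f678603 IH).trans (f768779 IH).symm)) (f446205 IH)
theorem f768796 : K49.v5233 = (LP (LK LD1_c4 LD2_c44 LD3_c27)) :=
  Lefun (Lecon (f651924 IH) ((f678571 IH).trans (f768784 IH))) (f507946 IH)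
theorem f768817 : Led Lsl_gt (LP (LK LD1_c3 LD2_c2 LD3_c20)) = (LP (LK LD1_c4 LD2_c44 LD3_c27)) :=
  Leop (Lpq (f768796 IH) (Lpe (K49.f646710 IH) (Lpn (LP (LK LD1_c3 LD2_c2 LD3_c20)))))
theorem seed_1238 : LEOK LG_g (LK LD1_c3 LD2_c2 LD3_c20) :=
  Leoe_g (LK LD1_c3 LD2_c2 LD3_c20) (f768817 IH)
def v6074 : LQ := Led Lsl_ct (LP (LK LD1_c3 LD2_c17 LD3_c14))
theorem f650837 : Led Lsl_ct (LP (LK LD1_c3 LD2_c17 LD3_c14)) = v6074 :=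
  Lrfl
theorem f66081 : Led Lsl_gt (LP (LK LD1_c1 LD2_c35 LD3_c13)) = (LP (LK LD1_c3 LD2_c17 LD3_c14)) :=
  Lre_g IH (LK LD1_c1 LD2_c35 LD3_c13) (LK LD1_c3 LD2_c17 LD3_c14) Lrfl Lrfl
theorem f103841 : Led Lsl_gt (LP (LK LD1_c3 LD2_c17 LD3_c16)) = (LP (LK LD1_c6 LD2_c37 LD3_c55)) :=
  Lre_g IH (LK LD1_c3 LD2_c17 LD3_c16) (LK LD1_c6 LD2_c37 LD3_c55) Lrfl Lrfl
theorem f118286 : Led Lsl_ct (LP (LK LD1_c6 LD2_c37 LD3_c55)) = (LP (LK LD1_c12 LD2_c41 LD3_c35)) :=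
  Lre_c IH (LK LD1_c6 LD2_c37 LD3_c55) (LK LD1_c12 LD2_c41 LD3_c35) Lrfl Lrfl
def v490 : LQ := Led Lsl_gt (LP (LK LD1_c0 LD2_c42 LD3_c30))
def v3068 : LQ := Led Lsl_at v490
def v9774 : LQ := Led Lsl_bt v3068
theorem f677553 : Led Lsl_bt v3068 = v9774 :=
  Lrfl
theorem f622734 : Led Lsl_at v490 = v3068 :=
  Lrfl
theorem f622735 : Led Lsl_af v490 = v3068 :=
  Lgr Lrot0 (Lpr_at (f622734 IH) (Lpn v3068))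
theorem f453600 : Led Lsl_gt (LP (LK LD1_c0 LD2_c42 LD3_c30)) = v490 :=
  Lrfl
def v491 : LQ := Led Lsl_gf (LP (LK LD1_c0 LD2_c42 LD3_c30))
theorem f453601 : Led Lsl_gf (LP (LK LD1_c0 LD2_c42 LD3_c30)) = v491 :=
  Lrfl
theorem f622736 : Led Lsl_ft v491 = v3068 :=
  Lgr Lrot2 (Lpe (f453601 IH) (Lpr_gt (f453600 IH) (Lpr_af (f622735 IH) (Lpn v3068))))
def v3074 : LQ := Led Lsl_bt v491
theorem f622750 : Led Lsl_bt v491 = v3074 :=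
  Lrfl
theorem f622751 : Led Lsl_bf v491 = v3074 :=
  Lgr Lrot24 (Lpr_bt (f622750 IH) (Lpn v3074))
theorem f677555 : Led Lsl_ff v3074 = v9774 :=
  Lgr Lrot25 (Lpe (f622751 IH) (Lpr_ft (f622736 IH) (Lpr_bt (f677553 IH) (Lpn v9774))))
def v9804 : LQ := Led Lsl_ct v3074
theorem f677648 : Led Lsl_ct v3074 = v9804 :=
  Lrfl
def v554 : LQ := Led Lsl_bt (LP (LK LD1_c0 LD2_c44 LD3_c40))
def v3189 : LQ := Led Lsl_gt v554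
def v10120 : LQ := Led Lsl_ct v3189
theorem f678876 : Led Lsl_ct v3189 = v10120 :=
  Lrfl
theorem f624566 : Led Lsl_gt v554 = v3189 :=
  Lrfl
theorem f453964 : Led Lsl_bt (LP (LK LD1_c0 LD2_c44 LD3_c40)) = v554 :=
  Lrfl
theorem f69081 : Led Lsl_bt (LP (LK LD1_c0 LD2_c18 LD3_c59)) = (LP (LK LD1_c0 LD2_c42 LD3_c30)) :=
  Lre_b IH (LK LD1_c0 LD2_c18 LD3_c59) (LK LD1_c0 LD2_c42 LD3_c30) Lrfl Lrfl
theorem f678878 : Led Lsl_gf v9804 = v10120 :=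
  Lgr Lrot129 (Lpe (f677648 IH) (Lpe (f622751 IH) (Lpe (f453601 IH) (Lpe (f69081 IH) (Lpe (K11.f68989 IH) (Lpr_gt (K32.f69068 IH) (Lpe (K32.f435293 IH) (Lpr_bt (f453964 IH) (Lpr_gt (f624566 IH) (Lpr_ct (f678876 IH) (Lpn v10120)))))))))))
def v4479 : LQ := Led Lsl_at (LP (LK LD1_c2 LD2_c22 LD3_c9))
theorem f634099 : Led Lsl_at (LP (LK LD1_c2 LD2_c22 LD3_c9)) = v4479 :=
  Lrfl
theorem f415365 : Led Lsl_bt (LP (LK LD1_c2 LD2_c22 LD3_c9)) = (LP (LK LD1_c1 LD2_c8 LD3_c14)) :=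
  Lre_b IH (LK LD1_c2 LD2_c22 LD3_c9) (LK LD1_c1 LD2_c8 LD3_c14) Lrfl Lrfl
theorem f508521 : Led Lsl_ff (LP (LK LD1_c2 LD2_c22 LD3_c9)) = v554 :=
  Lgr Lrot25 (Lpr_bt (f415365 IH) (Lpq (K32.f507992 IH) (Lpe (K32.f453970 IH) (Lpr_bt (f453964 IH) (Lpn v554)))))
theorem f634103 : Led Lsl_gt v3189 = v4479 :=
  Lgr Lrot46 (Lpe (f624566 IH) (Lpe (f508521 IH) (Lpr_at (f634099 IH) (Lpn v4479))))
def v2186 : LQ := Led Lsl_bt (LP (LK LD1_c1 LD2_c37 LD3_c0))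
def v8739 : LQ := Led Lsl_at v2186
theorem f672136 : Led Lsl_at v2186 = v8739 :=
  Lrfl
theorem f509520 : Led Lsl_bt (LP (LK LD1_c1 LD2_c37 LD3_c0)) = v2186 :=
  Lrfl
theorem f509522 : Led Lsl_ef (LP (LK LD1_c2 LD2_c22 LD3_c9)) = v2186 :=
  Lgr Lrot29 (Lpr_bt (f415365 IH) (Lpr_et (K24.f416669 IH) (Lpr_bt (f509520 IH) (Lpn v2186))))
theorem f509523 : Led Lsl_et (LP (LK LD1_c2 LD2_c22 LD3_c9)) = v2186 :=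
  Lgr Lrot87 (Lpr_ef (f509522 IH) (Lpn v2186))
theorem f634100 : Led Lsl_af (LP (LK LD1_c2 LD2_c22 LD3_c9)) = v4479 :=
  Lgr Lrot0 (Lpr_at (f634099 IH) (Lpn v4479))
theorem f672139 : Led Lsl_ef v4479 = v8739 :=
  Lgr Lrot20 (Lpe (f634100 IH) (Lpr_et (f509523 IH) (Lpr_at (f672136 IH) (Lpn v8739))))
def v2188 : LQ := Led Lsl_bt (LP (LK LD1_c1 LD2_c37 LD3_c3))
def v8745 : LQ := Led Lsl_at v2188
theorem f672169 : Led Lsl_at v2188 = v8745 :=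
  Lrfl
theorem f509526 : Led Lsl_bt (LP (LK LD1_c1 LD2_c37 LD3_c3)) = v2188 :=
  Lrfl
theorem f508133 : Led Lsl_af (LP (LK LD1_c3 LD2_c2 LD3_c51)) = (LP (LK LD1_c3 LD2_c21 LD3_c35)) :=
  Lgr Lrot68 (Lpr_ct (K35.f508131 IH) (Lpr_at (K24.f416721 IH) (Lpr_ct (K32.f416677 IH) (Lpn (LP (LK LD1_c3 LD2_c21 LD3_c35))))))
theorem f508465 : Led Lsl_at (LP (LK LD1_c1 LD2_c36 LD3_c27)) = (LP (LK LD1_c1 LD2_c37 LD3_c0)) :=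
  Lgr Lrot51 (Lpr_df (K16.f415415 IH) (Lpr_af (f508133 IH) (Lpe (K24.f416665 IH) (Lpn (LP (LK LD1_c1 LD2_c37 LD3_c0))))))
theorem f507926 : Led Lsl_ff (LP (LK LD1_c1 LD2_c36 LD3_c27)) = (LP (LK LD1_c1 LD2_c36 LD3_c61)) :=
  Lgr Lrot19 (Lpr_dt (K16.f415413 IH) (Lpr_ft (K32.f507922 IH) (Lpr_dt (K17.f180336 IH) (Lpn (LP (LK LD1_c1 LD2_c36 LD3_c61))))))
theorem f507934 : Led Lsl_at (LP (LK LD1_c1 LD2_c37 LD3_c3)) = (LP (LK LD1_c1 LD2_c36 LD3_c61)) :=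
  Lgr Lrot51 (Lpr_df (K32.f446158 IH) (Lpr_af (K32.f507928 IH) (Lpe (K24.f180331 IH) (Lpn (LP (LK LD1_c1 LD2_c36 LD3_c61))))))
theorem f508471 : Led Lsl_ff (LP (LK LD1_c1 LD2_c37 LD3_c3)) = (LP (LK LD1_c1 LD2_c37 LD3_c0)) :=
  Lgr Lrot30 (Lpr_at (f507934 IH) (Lpe (f507926 IH) (Lpr_at (f508465 IH) (Lpn (LP (LK LD1_c1 LD2_c37 LD3_c0))))))
theorem f509521 : Led Lsl_bf (LP (LK LD1_c1 LD2_c37 LD3_c0)) = v2186 :=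
  Lgr Lrot24 (Lpr_bt (f509520 IH) (Lpn v2186))
theorem f509529 : Led Lsl_ff v2186 = v2188 :=
  Lgr Lrot25 (Lpe (f509521 IH) (Lpe (f508471 IH) (Lpr_bt (f509526 IH) (Lpn v2188))))
theorem f509530 : Led Lsl_ft v2186 = v2188 :=
  Lgr Lrot48 (Lpr_ff (f509529 IH) (Lpn v2188))
theorem f672137 : Led Lsl_af v2186 = v8739 :=
  Lgr Lrot0 (Lpr_at (f672136 IH) (Lpn v8739))
theorem f672172 : Led Lsl_ff v8739 = v8745 :=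
  Lgr Lrot30 (Lpe (f672137 IH) (Lpr_ft (f509530 IH) (Lpr_at (f672169 IH) (Lpn v8745))))
def v13494 : LQ := Led Lsl_at (LP (LK LD1_c4 LD2_c44 LD3_c27))
theorem f703286 : Led Lsl_at (LP (LK LD1_c4 LD2_c44 LD3_c27)) = v13494 :=
  Lrfl
theorem f446182 : Led Lsl_bt (LP (LK LD1_c4 LD2_c44 LD3_c27)) = (LP (LK LD1_c2 LD2_c20 LD3_c16)) :=
  Lre_b IH (LK LD1_c4 LD2_c44 LD3_c27) (LK LD1_c2 LD2_c20 LD3_c16) Lrfl Lrfl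
theorem f509528 : Led Lsl_df (LP (LK LD1_c4 LD2_c44 LD3_c27)) = v2188 :=
  Lgr Lrot12 (Lpr_bt (f446182 IH) (Lpe (K32.f446158 IH) (Lpr_bt (f509526 IH) (Lpn v2188))))
theorem f672170 : Led Lsl_af v2188 = v8745 :=
  Lgr Lrot0 (Lpr_at (f672169 IH) (Lpn v8745))
theorem f703289 : Led Lsl_df v8745 = v13494 :=
  Lgr Lrot18 (Lpe (f672170 IH) (Lpe (f509528 IH) (Lpr_at (f703286 IH) (Lpn v13494))))
def v4382 : LQ := Led Lsl_at (LP (LK LD1_c2 LD2_c20 LD3_c15))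
theorem f633029 : Led Lsl_at (LP (LK LD1_c2 LD2_c20 LD3_c15)) = v4382 :=
  Lrfl
theorem f633030 : Led Lsl_af (LP (LK LD1_c2 LD2_c20 LD3_c15)) = v4382 :=
  Lgr Lrot0 (Lpr_at (f633029 IH) (Lpn v4382))
theorem f703290 : Led Lsl_ef v4382 = v13494 :=
  Lgr Lrot20 (Lpe (f633030 IH) (Lpr_et (f507946 IH) (Lpr_at (f703286 IH) (Lpn v13494))))
theorem f703292 : Led Lsl_et v4382 = v13494 :=
  Lgr Lrot87 (Lpr_ef (f703290 IH) (Lpn v13494))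
def v13491 : LQ := Led Lsl_at (LP (LK LD1_c4 LD2_c44 LD3_c26))
theorem f703275 : Led Lsl_at (LP (LK LD1_c4 LD2_c44 LD3_c26)) = v13491 :=
  Lrfl
theorem f703277 : Led Lsl_cf v4382 = v13491 :=
  Lgr Lrot1 (Lpe (f633030 IH) (Lpr_ct (f206525 IH) (Lpr_at (f703275 IH) (Lpn v13491))))
def v9392 : LQ := Led Lsl_ct K56.v2636
theorem f675662 : Led Lsl_ct K56.v2636 = v9392 :=
  Lrfl
theorem f675657 : Led Lsl_af K56.v2636 = v9390 :=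
  Lgr Lrot45 (Lpr_ft (K56.f675643 IH) (Lpe (K56.f675642 IH) (Lpr_ft (f675656 IH) (Lpn v9390))))
theorem f768783 : K56.v2636 = v13491 :=
  Lefun (Lecon (Lfl_af (f675657 IH)) ((f678603 IH).trans (f768779 IH).symm)) (f703275 IH)
theorem f768791 : v4382 = v9392 :=
  Lefun (Lecon (Lfl_cf (f703277 IH)) (f768783 IH).symm) (f675662 IH)
theorem f624106 : Led Lsl_cf K35.v541 = K56.v3166 :=
  Lgr Lrot11 (Lpr_ct (K56.f624105 IH) (Lpn K56.v3166))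
theorem f675675 : K35.v541 = v9392 :=
  Lefun (Lecon (Lfl_cf (f624106 IH)) (K56.f675674 IH)) (f675662 IH)
theorem f768811 : v13494 = K35.v3168 :=
  Lefun (Lecon (f703292 IH) ((f768791 IH).trans (f675675 IH).symm)) (K35.f624109 IH)
theorem f768849 : v8745 = (LP (LK LD1_c3 LD2_c18 LD3_c26)) :=
  Lefun (Lecon (Lfl_df (f703289 IH)) (f768811 IH)) (Lfl_df (K35.f624111 IH))
theorem f768889 : v8739 = K49.v6150 :=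
  Lefun (Lecon (Lfl_ff (f672172 IH)) (f768849 IH)) (K49.f651528 IH)
theorem f768925 : v4479 = (LP (LK LD1_c1 LD2_c35 LD3_c15)) :=
  Lefun (Lecon (Lfl_ef (f672139 IH)) ((f768889 IH).trans (K49.f678545 IH).symm)) (K46.f62022 IH)
theorem f768954 : v3189 = (LP (LK LD1_c3 LD2_c16 LD3_c8)) :=
  Lefun (Lecon (Lfl_gt (f634103 IH)) (f768925 IH)) (K46.f119398 IH)
theorem f768994 : v10120 = (LP (LK LD1_c6 LD2_c35 LD3_c31)) :=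
  Lefun (Lecon (f678876 IH) (f768954 IH)) (K4.f118112 IH)
theorem f769018 : v9804 = (LP (LK LD1_c3 LD2_c17 LD3_c15)) :=
  Lefun (Lecon (Lfl_gf (f678878 IH)) (f768994 IH)) (K49.f119529 IH)
def v6073 : LQ := Led Lsl_at (LP (LK LD1_c3 LD2_c17 LD3_c14))
theorem f650831 : Led Lsl_at (LP (LK LD1_c3 LD2_c17 LD3_c14)) = v6073 :=
  Lrfl
theorem f650832 : Led Lsl_af (LP (LK LD1_c3 LD2_c17 LD3_c14)) = v6073 :=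
  Lgr Lrot0 (Lpr_at (f650831 IH) (Lpn v6073))
theorem f650834 : Led Lsl_ft (LP (LK LD1_c3 LD2_c17 LD3_c15)) = v6073 :=
  Lgr Lrot2 (Lpr_gt (K49.f103818 IH) (Lpr_gt (f66081 IH) (Lpr_af (f650832 IH) (Lpn v6073))))
theorem f769020 : Led Lsl_cf v9774 = v6073 :=
  Lgr Lrot108 (Lpe (f677555 IH) (Lpr_ct (f677648 IH) (Lpqs (f769018 IH) (Lpr_ft (f650834 IH) (Lpn v6073)))))
theorem f769022 : Led Lsl_ct v9774 = v6073 :=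
  Lgr Lrot59 (Lpr_cf (f769020 IH) (Lpn v6073))
theorem f769023 : Led Lsl_af v9774 = v6074 :=
  Lgr Lrot68 (Lpr_ct (f769022 IH) (Lpe (f650832 IH) (Lpr_ct (f650837 IH) (Lpn v6074))))
def v9803 : LQ := Led Lsl_at v3074
theorem f677646 : Led Lsl_at v3074 = v9803 :=
  Lrfl
theorem f769025 : Led Lsl_ft v9803 = v6074 :=
  Lgr Lrot101 (Lpe (f677646 IH) (Lpr_ff (f677555 IH) (Lpr_af (f769023 IH) (Lpn v6074))))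
theorem f769027 : Led Lsl_ff v9803 = v6074 :=
  Lgr Lrot3 (Lpr_ft (f769025 IH) (Lpn v6074))
theorem f677647 : Led Lsl_af v3074 = v9803 :=
  Lgr Lrot0 (Lpr_at (f677646 IH) (Lpn v9803))
def v9802 : LQ := Led Lsl_gf v3074
theorem f677645 : Led Lsl_gf v3074 = v9802 :=
  Lrfl
def v6758 : LQ := Led Lsl_gf (LP (LK LD1_c3 LD2_c28 LD3_c43))
theorem f658249 : Led Lsl_gf (LP (LK LD1_c3 LD2_c28 LD3_c43)) = v6758 :=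
  Lrfl
theorem f66595 : Led Lsl_ft (LP (LK LD1_c3 LD2_c28 LD3_c57)) = (LP (LK LD1_c1 LD2_c41 LD3_c12)) :=
  Lre_f IH (LK LD1_c3 LD2_c28 LD3_c57) (LK LD1_c1 LD2_c41 LD3_c12) Lrfl Lrfl
theorem f658250 : Led Lsl_gt (LP (LK LD1_c3 LD2_c28 LD3_c57)) = v6758 :=
  Lgr Lrot5 (Lpr_ft (f66595 IH) (Lpr_at (K3.f66627 IH) (Lpr_gf (f658249 IH) (Lpn v6758))))
def v9801 : LQ := Led Lsl_gt v3074
theorem f677644 : Led Lsl_gt v3074 = v9801 :=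
  Lrfl
def v13824 : LQ := Led Lsl_gt (LP (LK LD1_c4 LD2_c48 LD3_c32))
theorem f705082 : Led Lsl_gt (LP (LK LD1_c4 LD2_c48 LD3_c32)) = v13824 :=
  Lrfl
def v3192 : LQ := Led Lsl_ct v554
theorem f624570 : Led Lsl_ct v554 = v3192 :=
  Lrfl
theorem f508522 : Led Lsl_ft (LP (LK LD1_c2 LD2_c22 LD3_c9)) = v554 :=
  Lgr Lrot48 (Lpr_ff (f508521 IH) (Lpn v554))
theorem f417062 : Led Lsl_ct (LP (LK LD1_c4 LD2_c48 LD3_c32)) = (LP (LK LD1_c2 LD2_c22 LD3_c9)) :=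
  Lre_c IH (LK LD1_c4 LD2_c48 LD3_c32) (LK LD1_c2 LD2_c22 LD3_c9) Lrfl Lrfl
theorem f624573 : Led Lsl_ff (LP (LK LD1_c4 LD2_c48 LD3_c32)) = v3192 :=
  Lgr Lrot23 (Lpr_ct (f417062 IH) (Lpr_ft (f508522 IH) (Lpr_ct (f624570 IH) (Lpn v3192))))
theorem f624574 : Led Lsl_ft (LP (LK LD1_c4 LD2_c48 LD3_c32)) = v3192 :=
  Lgr Lrot48 (Lpr_ff (f624573 IH) (Lpn v3192))
def v3191 : LQ := Led Lsl_at v554
def v10128 : LQ := Led Lsl_ct v3191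
theorem f678895 : Led Lsl_ct v3191 = v10128 :=
  Lrfl
theorem f678897 : Led Lsl_cf v3191 = v10128 :=
  Lgr Lrot11 (Lpr_ct (f678895 IH) (Lpn v10128))
theorem f624568 : Led Lsl_at v554 = v3191 :=
  Lrfl
theorem f624569 : Led Lsl_af v554 = v3191 :=
  Lgr Lrot0 (Lpr_at (f624568 IH) (Lpn v3191))
theorem f678898 : Led Lsl_at v3192 = v10128 :=
  Lgr Lrot107 (Lpe (f624570 IH) (Lpr_af (f624569 IH) (Lpr_cf (f678897 IH) (Lpn v10128))))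
theorem f705083 : Led Lsl_gf v10128 = v13824 :=
  Lgr Lrot76 (Lpe (f678898 IH) (Lpe (f624574 IH) (Lpr_gt (f705082 IH) (Lpn v13824))))
def v1361 : LQ := Led Lsl_bt (LP (LK LD1_c1 LD2_c8 LD3_c13))
def v7917 : LQ := Led Lsl_at v1361
theorem f668971 : Led Lsl_at v1361 = v7917 :=
  Lrfl
theorem f57153 : Led Lsl_bt (LP (LK LD1_c1 LD2_c36 LD3_c25)) = (LP (LK LD1_c0 LD2_c44 LD3_c41)) :=
  Lre_b IH (LK LD1_c1 LD2_c36 LD3_c25) (LK LD1_c0 LD2_c44 LD3_c41) Lrfl Lrfl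
theorem f495118 : Led Lsl_bt (LP (LK LD1_c1 LD2_c8 LD3_c13)) = v1361 :=
  Lrfl
theorem f508517 : Led Lsl_ff (LP (LK LD1_c1 LD2_c36 LD3_c25)) = v1361 :=
  Lgr Lrot25 (Lpr_bt (f57153 IH) (Lpqs (K32.f507993 IH) (Lpe (K32.f495127 IH) (Lpr_bt (f495118 IH) (Lpn v1361)))))
theorem f508518 : Led Lsl_ft (LP (LK LD1_c1 LD2_c36 LD3_c25)) = v1361 :=
  Lgr Lrot48 (Lpr_ff (f508517 IH) (Lpn v1361))
def v2145 : LQ := Led Lsl_at (LP (LK LD1_c1 LD2_c36 LD3_c25))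
theorem f509218 : Led Lsl_at (LP (LK LD1_c1 LD2_c36 LD3_c25)) = v2145 :=
  Lrfl
theorem f509219 : Led Lsl_af (LP (LK LD1_c1 LD2_c36 LD3_c25)) = v2145 :=
  Lgr Lrot0 (Lpr_at (f509218 IH) (Lpn v2145))
theorem f668974 : Led Lsl_ff v2145 = v7917 :=
  Lgr Lrot30 (Lpe (f509219 IH) (Lpr_ft (f508518 IH) (Lpr_at (f668971 IH) (Lpn v7917))))
theorem f416668 : Led Lsl_bt (LP (LK LD1_c1 LD2_c8 LD3_c14)) = (LP (LK LD1_c2 LD2_c22 LD3_c9)) :=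
  Lre_b IH (LK LD1_c1 LD2_c8 LD3_c14) (LK LD1_c2 LD2_c22 LD3_c9) Lrfl Lrfl
theorem f495126 : Led Lsl_af (LP (LK LD1_c1 LD2_c8 LD3_c14)) = K32.v1363 :=
  Lgr Lrot45 (Lpr_ft (K32.f495116 IH) (Lpe (K32.f495115 IH) (Lpr_ft (K32.f495125 IH) (Lpn K32.v1363))))
theorem f634101 : Led Lsl_bf v2145 = v4479 :=
  Lgr Lrot81 (Lpe (f509219 IH) (Lpr_bt (f57153 IH) (Lpqs (K32.f507993 IH) (Lpe (f495126 IH) (Lpr_bt (f416668 IH) (Lpr_at (f634099 IH) (Lpn v4479)))))))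
theorem f634108 : Led Lsl_bt v2145 = v4479 :=
  Lgr Lrot127 (Lpr_bf (f634101 IH) (Lpn v4479))
theorem f634102 : Led Lsl_ff v3191 = v4479 :=
  Lgr Lrot30 (Lpe (f624569 IH) (Lpe (f508521 IH) (Lpr_at (f634099 IH) (Lpn v4479))))
theorem f668976 : Led Lsl_bt v3191 = v7917 :=
  Lgr Lrot35 (Lpr_ff (f634102 IH) (Lpe (f634108 IH) (Lpr_ff (f668974 IH) (Lpn v7917))))
def v2144 : LQ := Led Lsl_gf (LP (LK LD1_c1 LD2_c36 LD3_c25))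
theorem f509217 : Led Lsl_gf (LP (LK LD1_c1 LD2_c36 LD3_c25)) = v2144 :=
  Lrfl
theorem f668978 : Led Lsl_gf v2144 = v7917 :=
  Lgr Lrot47 (Lpe (f509217 IH) (Lpr_af (f509219 IH) (Lpr_ff (f668974 IH) (Lpn v7917))))
def v8679 : LQ := Led Lsl_bt v2144
theorem f671989 : Led Lsl_bt v2144 = v8679 :=
  Lrfl
theorem f671990 : Led Lsl_bf v2144 = v8679 :=
  Lgr Lrot24 (Lpr_bt (f671989 IH) (Lpn v8679))
def v3070 : LQ := Led Lsl_ct v490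
def v9785 : LQ := Led Lsl_gt v3070
theorem f677593 : Led Lsl_gt v3070 = v9785 :=
  Lrfl
theorem f622740 : Led Lsl_ct v490 = v3070 :=
  Lrfl
theorem f415432 : Led Lsl_bt (LP (LK LD1_c0 LD2_c44 LD3_c41)) = (LP (LK LD1_c1 LD2_c36 LD3_c25)) :=
  Lre_b IH (LK LD1_c0 LD2_c44 LD3_c41) (LK LD1_c1 LD2_c36 LD3_c25) Lrfl Lrfl
theorem f677594 : Led Lsl_ct v8679 = v9785 :=
  Lgr Lrot63 (Lpe (f671990 IH) (Lpe (f509217 IH) (Lpe (f415432 IH) (Lpr_ct (K16.f415424 IH) (Lpr_gt (K16.f59823 IH) (Lpr_cf (K11.f68989 IH) (Lpr_bt (f69081 IH) (Lpr_gt (f453600 IH) (Lpr_ct (f622740 IH) (Lpr_gt (f677593 IH) (Lpn v9785)))))))))))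
def v9790 : LQ := Led Lsl_ft v3070
theorem f677606 : Led Lsl_ft v3070 = v9790 :=
  Lrfl
def v9775 : LQ := Led Lsl_ct v3068
theorem f677557 : Led Lsl_ct v3068 = v9775 :=
  Lrfl
theorem f622741 : Led Lsl_cf v490 = v3070 :=
  Lgr Lrot11 (Lpr_ct (f622740 IH) (Lpn v3070))
theorem f677558 : Led Lsl_af v3070 = v9775 :=
  Lgr Lrot68 (Lpe (f622741 IH) (Lpr_at (f622734 IH) (Lpr_ct (f677557 IH) (Lpn v9775))))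
def v3075 : LQ := Led Lsl_ct v491
theorem f622752 : Led Lsl_ct v491 = v3075 :=
  Lrfl
theorem f622753 : Led Lsl_cf v491 = v3075 :=
  Lgr Lrot11 (Lpr_ct (f622752 IH) (Lpn v3075))
theorem f677560 : Led Lsl_ff v3075 = v9775 :=
  Lgr Lrot23 (Lpe (f622753 IH) (Lpr_ft (f622736 IH) (Lpr_ct (f677557 IH) (Lpn v9775))))
theorem f677561 : Led Lsl_ft v3075 = v9775 :=
  Lgr Lrot48 (Lpr_ff (f677560 IH) (Lpn v9775))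
theorem f677607 : Led Lsl_af v3075 = v9790 :=
  Lgr Lrot45 (Lpr_ft (f677561 IH) (Lpe (f677558 IH) (Lpr_ft (f677606 IH) (Lpn v9790))))
theorem f677610 : Led Lsl_gt v9785 = v3075 :=
  Lgr Lrot46 (Lpe (f677593 IH) (Lpr_ft (f677606 IH) (Lpe (f677607 IH) (Lpn v3075))))
theorem f705084 : Led Lsl_ct v9801 = v13824 :=
  Lgr Lrot91 (Lpe (f677644 IH) (Lpe (f622750 IH) (Lpr_ct (f622752 IH) (Lpe (f677610 IH) (Lpe (f677594 IH) (Lpe (f671990 IH) (Lpr_gf (f668978 IH) (Lpe (f668976 IH) (Lpr_ct (f678895 IH) (Lpr_gf (f705083 IH) (Lpn v13824)))))))))))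
theorem f705085 : Led Lsl_cf v9801 = v13824 :=
  Lgr Lrot11 (Lpr_ct (f705084 IH) (Lpn v13824))
def v6007 : LQ := Led Lsl_gf (LP (LK LD1_c3 LD2_c16 LD3_c12))
theorem f650495 : Led Lsl_gf (LP (LK LD1_c3 LD2_c16 LD3_c12)) = v6007 :=
  Lrfl
def v13825 : LQ := Led Lsl_gf (LP (LK LD1_c4 LD2_c48 LD3_c32))
theorem f705086 : Led Lsl_gf (LP (LK LD1_c4 LD2_c48 LD3_c32)) = v13825 :=
  Lrfl
theorem f650496 : Led Lsl_gt (LP (LK LD1_c3 LD2_c17 LD3_c40)) = v6007 :=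
  Lgr Lrot5 (Lpr_ft (K4.f93431 IH) (Lpr_at (K4.f93667 IH) (Lpr_gf (f650495 IH) (Lpn v6007))))
theorem f415366 : Led Lsl_ct (LP (LK LD1_c2 LD2_c22 LD3_c9)) = (LP (LK LD1_c4 LD2_c48 LD3_c32)) :=
  Lre_c IH (LK LD1_c2 LD2_c22 LD3_c9) (LK LD1_c4 LD2_c48 LD3_c32) Lrfl Lrfl
def v5635 : LQ := Led Lsl_bt (LP (LK LD1_c3 LD2_c11 LD3_c7))
theorem f648619 : Led Lsl_bt (LP (LK LD1_c3 LD2_c11 LD3_c7)) = v5635 :=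
  Lrfl
theorem f648620 : Led Lsl_bf (LP (LK LD1_c3 LD2_c11 LD3_c7)) = v5635 :=
  Lgr Lrot24 (Lpr_bt (f648619 IH) (Lpn v5635))
theorem f705087 : Led Lsl_ct v5635 = v13825 :=
  Lgr Lrot64 (Lpe (f648620 IH) (Lpe (f438562 IH) (Lpe (f438561 IH) (Lpr_ct (K32.f69108 IH) (Lpr_gf (K32.f438554 IH) (Lpr_cf (K32.f58848 IH) (Lpe (K24.f23279 IH) (Lpe (f415365 IH) (Lpr_ct (f415366 IH) (Lpr_gf (f705086 IH) (Lpn v13825)))))))))))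
theorem f64882 : Led Lsl_dt (LP (LK LD1_c12 LD2_c43 LD3_c12)) = (LP (LK LD1_c6 LD2_c38 LD3_c46)) :=
  Lre_d IH (LK LD1_c12 LD2_c43 LD3_c12) (LK LD1_c6 LD2_c38 LD3_c46) Lrfl Lrfl
theorem f93768 : Led Lsl_af (LP (LK LD1_c12 LD2_c43 LD3_c12)) = (LP (LK LD1_c21 LD2_c43 LD3_c47)) :=
  Lgr Lrot117 (Lpr_dt (f64882 IH) (Lpr_at (K4.f93757 IH) (Lpr_dt (K4.f93742 IH) (Lpn (LP (LK LD1_c21 LD2_c43 LD3_c47))))))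
theorem f93775 : Led Lsl_at (LP (LK LD1_c12 LD2_c43 LD3_c12)) = (LP (LK LD1_c21 LD2_c43 LD3_c47)) :=
  Lgr Lrot100 (Lpr_af (f93768 IH) (Lpn (LP (LK LD1_c21 LD2_c43 LD3_c47))))
theorem f64849 : Led Lsl_ft (LP (LK LD1_c6 LD2_c38 LD3_c45)) = (LP (LK LD1_c12 LD2_c43 LD3_c12)) :=
  Lre_f IH (LK LD1_c6 LD2_c38 LD3_c45) (LK LD1_c12 LD2_c43 LD3_c12) Lrfl Lrfl
theorem f93782 : Led Lsl_ft (LP (LK LD1_c21 LD2_c43 LD3_c47)) = (LP (LK LD1_c12 LD2_c37 LD3_c22)) :=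
  Lre_f IH (LK LD1_c21 LD2_c43 LD3_c47) (LK LD1_c12 LD2_c37 LD3_c22) Lrfl Lrfl
theorem f93783 : Led Lsl_af (LP (LK LD1_c6 LD2_c38 LD3_c45)) = (LP (LK LD1_c12 LD2_c37 LD3_c22)) :=
  Lgr Lrot45 (Lpr_ft (f64849 IH) (Lpr_at (f93775 IH) (Lpr_ft (f93782 IH) (Lpn (LP (LK LD1_c12 LD2_c37 LD3_c22))))))
theorem f89479 : Led Lsl_et (LP (LK LD1_c6 LD2_c38 LD3_c45)) = (LP (LK LD1_c3 LD2_c17 LD3_c39)) :=
  Lre_e IH (LK LD1_c6 LD2_c38 LD3_c45) (LK LD1_c3 LD2_c17 LD3_c39) Lrfl Lrfl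
theorem f93788 : Led Lsl_et (LP (LK LD1_c6 LD2_c35 LD3_c41)) = (LP (LK LD1_c12 LD2_c37 LD3_c22)) :=
  Lre_e IH (LK LD1_c6 LD2_c35 LD3_c41) (LK LD1_c12 LD2_c37 LD3_c22) Lrfl Lrfl
theorem f93789 : Led Lsl_at (LP (LK LD1_c3 LD2_c17 LD3_c39)) = (LP (LK LD1_c6 LD2_c35 LD3_c41)) :=
  Lgr Lrot80 (Lpe (f89479 IH) (Lpr_af (f93783 IH) (Lpe (f93788 IH) (Lpn (LP (LK LD1_c6 LD2_c35 LD3_c41))))))
theorem f93798 : Led Lsl_ft (LP (LK LD1_c6 LD2_c38 LD3_c50)) = (LP (LK LD1_c3 LD2_c17 LD3_c39)) :=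
  Lre_f IH (LK LD1_c6 LD2_c38 LD3_c50) (LK LD1_c3 LD2_c17 LD3_c39) Lrfl Lrfl
theorem f93801 : Led Lsl_dt (LP (LK LD1_c6 LD2_c38 LD3_c50)) = (LP (LK LD1_c3 LD2_c17 LD3_c40)) :=
  Lre_d IH (LK LD1_c6 LD2_c38 LD3_c50) (LK LD1_c3 LD2_c17 LD3_c40) Lrfl Lrfl
theorem f93673 : Led Lsl_ct (LP (LK LD1_c12 LD2_c37 LD3_c26)) = (LP (LK LD1_c6 LD2_c35 LD3_c41)) :=
  Lre_c IH (LK LD1_c12 LD2_c37 LD3_c26) (LK LD1_c6 LD2_c35 LD3_c41) Lrfl Lrfl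
theorem f93674 : Led Lsl_dt (LP (LK LD1_c21 LD2_c43 LD3_c51)) = (LP (LK LD1_c12 LD2_c37 LD3_c26)) :=
  Lre_d IH (LK LD1_c21 LD2_c43 LD3_c51) (LK LD1_c12 LD2_c37 LD3_c26) Lrfl Lrfl
theorem f88926 : Led Lsl_dt (LP (LK LD1_c3 LD2_c28 LD3_c57)) = (LP (LK LD1_c6 LD2_c59 LD3_c29)) :=
  Lre_d IH (LK LD1_c3 LD2_c28 LD3_c57) (LK LD1_c6 LD2_c59 LD3_c29) Lrfl Lrfl
theorem f88878 : Led Lsl_ct (LP (LK LD1_c6 LD2_c59 LD3_c29)) = (LP (LK LD1_c13 LD2_c15 LD3_c59)) :=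
  Lre_c IH (LK LD1_c6 LD2_c59 LD3_c29) (LK LD1_c13 LD2_c15 LD3_c59) Lrfl Lrfl
theorem f88762 : Led Lsl_dt (LP (LK LD1_c13 LD2_c15 LD3_c59)) = (LP (LK LD1_c22 LD2_c31 LD3_c13)) :=
  Lre_d IH (LK LD1_c13 LD2_c15 LD3_c59) (LK LD1_c22 LD2_c31 LD3_c13) Lrfl Lrfl
theorem f93672 : Led Lsl_dt (LP (LK LD1_c6 LD2_c35 LD3_c41)) = (LP (LK LD1_c3 LD2_c16 LD3_c12)) :=
  Lre_d IH (LK LD1_c6 LD2_c35 LD3_c41) (LK LD1_c3 LD2_c16 LD3_c12) Lrfl Lrfl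
theorem f93675 : Led Lsl_ct (LP (LK LD1_c22 LD2_c31 LD3_c13)) = (LP (LK LD1_c21 LD2_c43 LD3_c51)) :=
  Lgr Lrot41 (Lpe (f88762 IH) (Lpe (f88878 IH) (Lpe (f88926 IH) (Lpr_ft (f66595 IH) (Lpr_at (K3.f66627 IH) (Lpr_cf (K4.f93662 IH) (Lpe (f93672 IH) (Lpe (f93673 IH) (Lpe (f93674 IH) (Lpn (LP (LK LD1_c21 LD2_c43 LD3_c51))))))))))))
theorem f93802 : Led Lsl_ct (LP (LK LD1_c3 LD2_c17 LD3_c40)) = (LP (LK LD1_c3 LD2_c28 LD3_c57)) :=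
  Lgr Lrot133 (Lpe (f93801 IH) (Lpr_ft (f93798 IH) (Lpr_at (f93789 IH) (Lpe (f93673 IH) (Lpe (f93674 IH) (Lpe (f93675 IH) (Lpe (f88762 IH) (Lpe (f88878 IH) (Lpe (f88926 IH) (Lpn (LP (LK LD1_c3 LD2_c28 LD3_c57))))))))))))
theorem f93805 : Led Lsl_cf (LP (LK LD1_c3 LD2_c17 LD3_c40)) = (LP (LK LD1_c3 LD2_c28 LD3_c57)) :=
  Lgr Lrot11 (Lpr_ct (f93802 IH) (Lpn (LP (LK LD1_c3 LD2_c28 LD3_c57))))
theorem f653769 : Led Lsl_bf (LP (LK LD1_c3 LD2_c28 LD3_c57)) = v6524 :=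
  Lgr Lrot61 (Lpr_ft (f66595 IH) (Lpr_bt (K3.f66585 IH) (Lpr_ft (f653767 IH) (Lpn v6524))))
theorem f768685 : (LP (LK LD1_c3 LD2_c28 LD3_c57)) = v5635 :=
  Lefun (Lecon (Lfl_bf (f653769 IH)) (f768670 IH)) (f648619 IH)
theorem f768717 : v13825 = (LP (LK LD1_c3 LD2_c17 LD3_c40)) :=
  Lefun (Lecon (f705087 IH) (f768685 IH).symm) (Lfl_cf (f93805 IH))
theorem f768744 : (LP (LK LD1_c4 LD2_c48 LD3_c32)) = v6007 :=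
  Lefun (Lecon (Lfl_gf (f705086 IH)) (f768717 IH)) (f650496 IH)
theorem f768749 : (LP (LK LD1_c3 LD2_c16 LD3_c12)) = v13824 :=
  Lefun (Lecon (Lfl_gf (f650495 IH)) (f768744 IH).symm) (f705082 IH)
theorem f768753 : v9801 = (LP (LK LD1_c3 LD2_c28 LD3_c43)) :=
  Lefun (Lecon (Lfl_cf (f705085 IH)) (f768749 IH).symm) (Lfl_cf (K4.f93662 IH))
theorem f768755 : v3074 = v6758 :=
  Lefun (Lecon (Lfl_gt (f677644 IH)) (f768753 IH)) (f658249 IH)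
theorem f768757 : (LP (LK LD1_c3 LD2_c28 LD3_c57)) = v9802 :=
  Lefun (Lecon (Lfl_gt (f658250 IH)) (f768755 IH).symm) (f677645 IH)
def v6757 : LQ := Led Lsl_gt (LP (LK LD1_c3 LD2_c28 LD3_c43))
theorem f658247 : Led Lsl_gt (LP (LK LD1_c3 LD2_c28 LD3_c43)) = v6757 :=
  Lrfl
def v6756 : LQ := Led Lsl_et (LP (LK LD1_c3 LD2_c28 LD3_c42))
theorem f658236 : Led Lsl_et (LP (LK LD1_c3 LD2_c28 LD3_c42)) = v6756 :=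
  Lrfl
theorem f658240 : Led Lsl_ff (LP (LK LD1_c3 LD2_c28 LD3_c43)) = v6756 :=
  Lgr Lrot72 (Lpr_et (K3.f88676 IH) (Lpr_ft (K5.f62305 IH) (Lpr_et (K3.f62185 IH) (Lpr_ft (K3.f62256 IH) (Lpr_et (f658236 IH) (Lpn v6756))))))
theorem f658243 : Led Lsl_ft (LP (LK LD1_c3 LD2_c28 LD3_c43)) = v6756 :=
  Lgr Lrot48 (Lpr_ff (f658240 IH) (Lpn v6756))
theorem f93306 : Led Lsl_at (LP (LK LD1_c6 LD2_c49 LD3_c45)) = (LP (LK LD1_c3 LD2_c28 LD3_c42)) :=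
  Lgr Lrot100 (Lpr_af (K3.f93300 IH) (Lpn (LP (LK LD1_c3 LD2_c28 LD3_c42))))
theorem f66631 : Led Lsl_ft (LP (LK LD1_c1 LD2_c41 LD3_c12)) = (LP (LK LD1_c3 LD2_c28 LD3_c57)) :=
  Lre_f IH (LK LD1_c1 LD2_c41 LD3_c12) (LK LD1_c3 LD2_c28 LD3_c57) Lrfl Lrfl
theorem f93429 : Led Lsl_ef (LP (LK LD1_c6 LD2_c49 LD3_c45)) = (LP (LK LD1_c3 LD2_c28 LD3_c57)) :=
  Lgr Lrot21 (Lpr_ft (K3.f69309 IH) (Lpr_et (K3.f69281 IH) (Lpr_ft (K3.f93361 IH) (Lpr_et (K3.f64599 IH) (Lpr_ft (f66631 IH) (Lpn (LP (LK LD1_c3 LD2_c28 LD3_c57))))))))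
theorem f658237 : Led Lsl_af (LP (LK LD1_c3 LD2_c28 LD3_c57)) = v6756 :=
  Lgr Lrot50 (Lpe (f93429 IH) (Lpr_at (f93306 IH) (Lpr_et (f658236 IH) (Lpn v6756))))
theorem f658248 : Led Lsl_gf (LP (LK LD1_c3 LD2_c28 LD3_c57)) = v6757 :=
  Lgr Lrot76 (Lpr_af (f658237 IH) (Lpe (f658243 IH) (Lpr_gt (f658247 IH) (Lpn v6757))))
theorem f769029 : v6757 = v6074 :=
  (Llr Lrot47 (Lpe (f658248 IH) (Lpqs (f768757 IH) (Lpe (f677645 IH) (Lpr_af (f677647 IH) (Lpr_ff (f769027 IH) (Lpn v6074))))))).symm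
theorem f93807 : Led Lsl_ct (LP (LK LD1_c12 LD2_c43 LD3_c20)) = (LP (LK LD1_c6 LD2_c38 LD3_c50)) :=
  Lre_c IH (LK LD1_c12 LD2_c43 LD3_c20) (LK LD1_c6 LD2_c38 LD3_c50) Lrfl Lrfl
theorem f769033 : Led Lsl_gt (LP (LK LD1_c12 LD2_c41 LD3_c35)) = (LP (LK LD1_c12 LD2_c43 LD3_c20)) :=
  Lgr Lrot150 (Lpe (f118286 IH) (Lpe (f103841 IH) (Lpe (K4.f66015 IH) (Lpr_gt (f66081 IH) (Lpr_ct (f650837 IH) (Lpq (f769029 IH) (Lpe (f658248 IH) (Lpe (f93805 IH) (Lpe (f93801 IH) (Lpe (f93807 IH) (Lpn (LP (LK LD1_c12 LD2_c43 LD3_c20)))))))))))))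
theorem f769034 : Led Lsl_gt (LP (LK LD1_c12 LD2_c41 LD3_c35)) = (LP (LK LD1_c12 LD2_c43 LD3_c20)) :=
  Leop (Lpe (f769033 IH) (Lpn (LP (LK LD1_c12 LD2_c41 LD3_c35))))
theorem seed_1239 : LEOK LG_g (LK LD1_c12 LD2_c41 LD3_c35) :=
  Leoe_g (LK LD1_c12 LD2_c41 LD3_c35) (f769034 IH)
theorem f650833 : Led Lsl_bt (LP (LK LD1_c3 LD2_c17 LD3_c14)) = (LP (LK LD1_c6 LD2_c37 LD3_c51)) :=
  Lre_b IH (LK LD1_c3 LD2_c17 LD3_c14) (LK LD1_c6 LD2_c37 LD3_c51) Lrfl Lrfl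
theorem f650840 : Led Lsl_gt (LP (LK LD1_c6 LD2_c37 LD3_c51)) = (LP (LK LD1_c12 LD2_c41 LD3_c26)) :=
  Lre_g IH (LK LD1_c6 LD2_c37 LD3_c51) (LK LD1_c12 LD2_c41 LD3_c26) Lrfl Lrfl
theorem f209308 : Led Lsl_ct (LP (LK LD1_c4 LD2_c37 LD3_c52)) = (LP (LK LD1_c9 LD2_c11 LD3_c23)) :=
  Lre_c IH (LK LD1_c4 LD2_c37 LD3_c52) (LK LD1_c9 LD2_c11 LD3_c23) Lrfl Lrfl
theorem f700337 : Led Lsl_bf (LP (LK LD1_c4 LD2_c48 LD3_c32)) = (LP (LK LD1_c9 LD2_c11 LD3_c23)) :=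
  Lgr Lrot90 (Lpr_ct (f417062 IH) (Lpr_bt (f415365 IH) (Lpe (K32.f416702 IH) (Lpr_bt (K51.f631998 IH) (Lpq (K51.f700271 IH) (Lpr_ct (f209308 IH) (Lpn (LP (LK LD1_c9 LD2_c11 LD3_c23)))))))))
theorem f152563 : Led Lsl_ct (LP (LK LD1_c9 LD2_c11 LD3_c23)) = (LP (LK LD1_c4 LD2_c37 LD3_c52)) :=
  Lre_c IH (LK LD1_c9 LD2_c11 LD3_c23) (LK LD1_c4 LD2_c37 LD3_c52) Lrfl Lrfl
theorem f769035 : Led Lsl_bf (LP (LK LD1_c12 LD2_c41 LD3_c26)) = (LP (LK LD1_c6 LD2_c44 LD3_c39)) :=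
  Lgr Lrot34 (Lpe (f650840 IH) (Lpe (f650833 IH) (Lpr_ct (f650837 IH) (Lpq (f769029 IH) (Lpe (f658247 IH) (Lpr_cf (K4.f93662 IH) (Lpr_gf (f650495 IH) (Lpq (f768744 IH) (Lpr_bf (f700337 IH) (Lpr_ct (f152563 IH) (Lpr_gf (K51.f209305 IH) (Lpe (K55.f207135 IH) (Lpn (LP (LK LD1_c6 LD2_c44 LD3_c39)))))))))))))))
theorem f769036 : Led Lsl_bt (LP (LK LD1_c6 LD2_c44 LD3_c39)) = (LP (LK LD1_c12 LD2_c41 LD3_c26)) :=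
  Leop (Lpr_bf (f769035 IH) (Lpn (LP (LK LD1_c6 LD2_c44 LD3_c39))))
theorem seed_1240 : LEOK LG_b (LK LD1_c6 LD2_c44 LD3_c39) :=
  Leoe_b (LK LD1_c6 LD2_c44 LD3_c39) (f769036 IH)
def v6769 : LQ := Led Lsl_ft (LP (LK LD1_c3 LD2_c28 LD3_c55))
theorem f658306 : Led Lsl_ft (LP (LK LD1_c3 LD2_c28 LD3_c55)) = v6769 :=
  Lrfl
theorem f658308 : Led Lsl_ff (LP (LK LD1_c3 LD2_c28 LD3_c55)) = v6769 :=
  Lgr Lrot3 (Lpr_ft (f658306 IH) (Lpn v6769))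
theorem f650838 : Led Lsl_cf (LP (LK LD1_c3 LD2_c17 LD3_c14)) = v6074 :=
  Lgr Lrot11 (Lpr_ct (f650837 IH) (Lpn v6074))
theorem f769021 : Led Lsl_at v9774 = v6074 :=
  Lgr Lrot107 (Lpr_cf (f769020 IH) (Lpe (f650831 IH) (Lpr_cf (f650838 IH) (Lpn v6074))))
def v6765 : LQ := Led Lsl_at (LP (LK LD1_c3 LD2_c28 LD3_c55))
theorem f658296 : Led Lsl_at (LP (LK LD1_c3 LD2_c28 LD3_c55)) = v6765 :=
  Lrfl
theorem f658297 : Led Lsl_af (LP (LK LD1_c3 LD2_c28 LD3_c55)) = v6765 :=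
  Lgr Lrot0 (Lpr_at (f658296 IH) (Lpn v6765))
theorem f66632 : Led Lsl_gt (LP (LK LD1_c3 LD2_c28 LD3_c55)) = (LP (LK LD1_c1 LD2_c41 LD3_c12)) :=
  Lre_g IH (LK LD1_c3 LD2_c28 LD3_c55) (LK LD1_c1 LD2_c41 LD3_c12) Lrfl Lrfl
theorem f658244 : Led Lsl_gf (LP (LK LD1_c3 LD2_c28 LD3_c55)) = v6756 :=
  Lgr Lrot47 (Lpr_gt (f66632 IH) (Lpe (K3.f66587 IH) (Lpr_ff (f658240 IH) (Lpn v6756))))
theorem f658241 : Led Lsl_at (LP (LK LD1_c3 LD2_c28 LD3_c57)) = v6756 :=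
  Lgr Lrot66 (Lpe (f66631 IH) (Lpe (K3.f66587 IH) (Lpr_ff (f658240 IH) (Lpn v6756))))
def v2291 : LQ := Led Lsl_gt (LP (LK LD1_c1 LD2_c41 LD3_c12))
theorem f511914 : Led Lsl_gt (LP (LK LD1_c1 LD2_c41 LD3_c12)) = v2291 :=
  Lrfl
theorem f658246 : Led Lsl_gt v2291 = v6756 :=
  Lgr Lrot46 (Lpe (f511914 IH) (Lpr_ft (f66631 IH) (Lpr_at (f658241 IH) (Lpn v6756))))
theorem f658298 : Led Lsl_ft v2291 = v6765 :=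
  Lgr Lrot2 (Lpr_gt (f658246 IH) (Lpe (f658244 IH) (Lpr_af (f658297 IH) (Lpn v6765))))
theorem f658299 : Led Lsl_ff v2291 = v6765 :=
  Lgr Lrot3 (Lpr_ft (f658298 IH) (Lpn v6765))
theorem f658309 : Led Lsl_at v2291 = v6769 :=
  Lgr Lrot66 (Lpr_ff (f658299 IH) (Lpe (f658296 IH) (Lpr_ff (f658308 IH) (Lpn v6769))))
def v487 : LQ := Led Lsl_et (LP (LK LD1_c0 LD2_c42 LD3_c25))
def v3058 : LQ := Led Lsl_gt v487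
def v9740 : LQ := Led Lsl_bt v3058
theorem f677463 : Led Lsl_bt v3058 = v9740 :=
  Lrfl
def v9773 : LQ := Led Lsl_gf v3068
theorem f677551 : Led Lsl_gf v3068 = v9773 :=
  Lrfl
theorem f622710 : Led Lsl_gt v487 = v3058 :=
  Lrfl
def v3073 : LQ := Led Lsl_ft v490
theorem f622746 : Led Lsl_ft v490 = v3073 :=
  Lrfl
theorem f622748 : Led Lsl_ff v490 = v3073 :=
  Lgr Lrot3 (Lpr_ft (f622746 IH) (Lpn v3073))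
theorem f677552 : Led Lsl_gt v3073 = v9773 :=
  Lgr Lrot5 (Lpe (f622748 IH) (Lpr_at (f622734 IH) (Lpr_gf (f677551 IH) (Lpn v9773))))
def v3059 : LQ := Led Lsl_gf v487
theorem f622711 : Led Lsl_gf v487 = v3059 :=
  Lrfl
def v3069 : LQ := Led Lsl_bt v490
def v9784 : LQ := Led Lsl_ft v3069
theorem f677589 : Led Lsl_ft v3069 = v9784 :=
  Lrfl
theorem f622738 : Led Lsl_bt v490 = v3069 :=
  Lrfl
theorem f677590 : Led Lsl_bf v3073 = v9784 :=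
  Lgr Lrot61 (Lpe (f622748 IH) (Lpr_bt (f622738 IH) (Lpr_ft (f677589 IH) (Lpn v9784))))
def v9745 : LQ := Led Lsl_bt v3059
theorem f677477 : Led Lsl_bt v3059 = v9745 :=
  Lrfl
theorem f677478 : Led Lsl_bf v3059 = v9745 :=
  Lgr Lrot24 (Lpr_bt (f677477 IH) (Lpn v9745))
theorem f207267 : Led Lsl_bt (LP (LK LD1_c6 LD2_c44 LD3_c33)) = (LP (LK LD1_c3 LD2_c20 LD3_c26)) :=
  Lre_b IH (LK LD1_c6 LD2_c44 LD3_c33) (LK LD1_c3 LD2_c20 LD3_c26) Lrfl Lrfl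
theorem f769045 : Led Lsl_ft (LP (LK LD1_c12 LD2_c41 LD3_c26)) = (LP (LK LD1_c6 LD2_c44 LD3_c33)) :=
  Lgr Lrot75 (Lpr_bf (f769035 IH) (Lpe (K35.f207201 IH) (Lpe (f207267 IH) (Lpn (LP (LK LD1_c6 LD2_c44 LD3_c33))))))
theorem f141898 : Led Lsl_et (LP (LK LD1_c3 LD2_c20 LD3_c24)) = (LP (LK LD1_c6 LD2_c44 LD3_c33)) :=
  Lre_e IH (LK LD1_c3 LD2_c20 LD3_c24) (LK LD1_c6 LD2_c44 LD3_c33) Lrfl Lrfl
theorem f210214 : Led Lsl_et (LP (LK LD1_c12 LD2_c10 LD3_c47)) = (LP (LK LD1_c6 LD2_c16 LD3_c54)) :=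
  Lre_e IH (LK LD1_c12 LD2_c10 LD3_c47) (LK LD1_c6 LD2_c16 LD3_c54) Lrfl Lrfl
theorem f540199 : Led Lsl_ct (LP (LK LD1_c6 LD2_c44 LD3_c33)) = (LP (LK LD1_c12 LD2_c10 LD3_c47)) :=
  Lgr Lrot15 (Lpe (f141898 IH) (Lpr_cf (K36.f540193 IH) (Lpe (f210214 IH) (Lpn (LP (LK LD1_c12 LD2_c10 LD3_c47))))))
theorem f210188 : Led Lsl_bt (LP (LK LD1_c20 LD2_c51 LD3_c60)) = (LP (LK LD1_c11 LD2_c49 LD3_c41)) :=
  Lre_b IH (LK LD1_c20 LD2_c51 LD3_c60) (LK LD1_c11 LD2_c49 LD3_c41) Lrfl Lrfl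
theorem f210178 : Led Lsl_bt (LP (LK LD1_c6 LD2_c16 LD3_c56)) = (LP (LK LD1_c12 LD2_c10 LD3_c47)) :=
  Lre_b IH (LK LD1_c6 LD2_c16 LD3_c56) (LK LD1_c12 LD2_c10 LD3_c47) Lrfl Lrfl
theorem f210189 : Led Lsl_ff (LP (LK LD1_c20 LD2_c51 LD3_c60)) = (LP (LK LD1_c12 LD2_c10 LD3_c47)) :=
  Lgr Lrot25 (Lpr_bt (f210188 IH) (Lpr_ft (K11.f210183 IH) (Lpr_bt (f210178 IH) (Lpn (LP (LK LD1_c12 LD2_c10 LD3_c47))))))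
theorem f769047 : Led Lsl_cf (LP (LK LD1_c12 LD2_c41 LD3_c26)) = (LP (LK LD1_c20 LD2_c51 LD3_c60)) :=
  Lgr Lrot108 (Lpr_ft (f769045 IH) (Lpr_ct (f540199 IH) (Lpe (f210189 IH) (Lpn (LP (LK LD1_c20 LD2_c51 LD3_c60))))))
theorem f437342 : Led Lsl_bt (LP (LK LD1_c4 LD2_c34 LD3_c0)) = (LP (LK LD1_c2 LD2_c22 LD3_c3)) :=
  Lgr Lrot127 (Lpr_bf (K32.f437335 IH) (Lpn (LP (LK LD1_c2 LD2_c22 LD3_c3))))
theorem f160761 : Led Lsl_gt (LP (LK LD1_c2 LD2_c22 LD3_c3)) = (LP (LK LD1_c4 LD2_c48 LD3_c17)) :=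
  Lre_g IH (LK LD1_c2 LD2_c22 LD3_c3) (LK LD1_c4 LD2_c48 LD3_c17) Lrfl Lrfl
theorem f437453 : Led Lsl_bt (LP (LK LD1_c9 LD2_c29 LD3_c19)) = (LP (LK LD1_c4 LD2_c48 LD3_c17)) :=
  Lre_b IH (LK LD1_c9 LD2_c29 LD3_c19) (LK LD1_c4 LD2_c48 LD3_c17) Lrfl Lrfl
theorem f769060 : Led Lsl_cf (LP (LK LD1_c6 LD2_c37 LD3_c51)) = (LP (LK LD1_c9 LD2_c29 LD3_c19)) :=
  Lgr Lrot160 (Lpr_gt (f650840 IH) (Lpr_cf (f769047 IH) (Lpr_bt (f210188 IH) (Lpe (K56.f737640 IH) (Lpr_ct (K56.f437452 IH) (Lpr_gt (K54.f437403 IH) (Lpe (K32.f437344 IH) (Lpr_bt (f437342 IH) (Lpr_gt (f160761 IH) (Lpe (f437453 IH) (Lpn (LP (LK LD1_c9 LD2_c29 LD3_c19)))))))))))))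
theorem f769063 : Led Lsl_ct (LP (LK LD1_c6 LD2_c37 LD3_c51)) = (LP (LK LD1_c9 LD2_c29 LD3_c19)) :=
  Lgr Lrot59 (Lpr_cf (f769060 IH) (Lpn (LP (LK LD1_c9 LD2_c29 LD3_c19))))
theorem f677554 : Led Lsl_bf v3068 = v9774 :=
  Lgr Lrot24 (Lpr_bt (f677553 IH) (Lpn v9774))
def v9780 : LQ := Led Lsl_at v3069
theorem f677575 : Led Lsl_at v3069 = v9780 :=
  Lrfl
theorem f769024 : Led Lsl_bt v9780 = v6074 :=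
  Lgr Lrot62 (Lpe (f677575 IH) (Lpe (f622738 IH) (Lpr_af (f622735 IH) (Lpr_bf (f677554 IH) (Lpr_af (f769023 IH) (Lpn v6074))))))
def v13803 : LQ := Led Lsl_ct (LP (LK LD1_c4 LD2_c48 LD3_c17))
theorem f704990 : Led Lsl_ct (LP (LK LD1_c4 LD2_c48 LD3_c17)) = v13803 :=
  Lrfl
theorem f769073 : v9780 = v13803 :=
  (Llr Lrot90 (Lpr_bt (f769024 IH) (Lpe (f650838 IH) (Lpr_bt (f650833 IH) (Lpr_ct (f769063 IH) (Lpr_bt (f437453 IH) (Lpr_ct (f704990 IH) (Lpn v13803)))))))).symm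
def v13802 : LQ := Led Lsl_at (LP (LK LD1_c4 LD2_c48 LD3_c17))
theorem f704985 : Led Lsl_at (LP (LK LD1_c4 LD2_c48 LD3_c17)) = v13802 :=
  Lrfl
theorem f704986 : Led Lsl_af (LP (LK LD1_c4 LD2_c48 LD3_c17)) = v13802 :=
  Lgr Lrot0 (Lpr_at (f704985 IH) (Lpn v13802))
theorem f677576 : Led Lsl_af v3069 = v9780 :=
  Lgr Lrot0 (Lpr_at (f677575 IH) (Lpn v9780))
def v9781 : LQ := Led Lsl_ct v3069
theorem f677577 : Led Lsl_ct v3069 = v9781 :=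
  Lrfl
theorem f769074 : v13802 = v9781 :=
  (Llr Lrot68 (Lpe (f704986 IH) (Lpr_ct (f704990 IH) (Lpq (f769073 IH) (Lpe (f677576 IH) (Lpr_ct (f677577 IH) (Lpn v9781))))))).symm
theorem f146875 : Led Lsl_gt (LP (LK LD1_c4 LD2_c48 LD3_c18)) = (LP (LK LD1_c2 LD2_c22 LD3_c3)) :=
  Lre_g IH (LK LD1_c4 LD2_c48 LD3_c18) (LK LD1_c2 LD2_c22 LD3_c3) Lrfl Lrfl
theorem f704988 : Led Lsl_ft (LP (LK LD1_c4 LD2_c48 LD3_c18)) = v13802 :=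
  Lgr Lrot2 (Lpr_gt (f146875 IH) (Lpr_gt (f160761 IH) (Lpr_af (f704986 IH) (Lpn v13802))))
theorem f453584 : Led Lsl_et (LP (LK LD1_c0 LD2_c42 LD3_c25)) = v487 :=
  Lrfl
theorem f453587 : Led Lsl_ef (LP (LK LD1_c0 LD2_c42 LD3_c25)) = v487 :=
  Lgr Lrot88 (Lpr_et (f453584 IH) (Lpn v487))
theorem f152466 : Led Lsl_at (LP (LK LD1_c0 LD2_c42 LD3_c25)) = (LP (LK LD1_c0 LD2_c18 LD3_c57)) :=
  Lre_a IH (LK LD1_c0 LD2_c42 LD3_c25) (LK LD1_c0 LD2_c18 LD3_c57) Lrfl Lrfl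
theorem f439658 : Led Lsl_et (LP (LK LD1_c0 LD2_c18 LD3_c57)) = (LP (LK LD1_c0 LD2_c42 LD3_c30)) :=
  Lre_e IH (LK LD1_c0 LD2_c18 LD3_c57) (LK LD1_c0 LD2_c42 LD3_c30) Lrfl Lrfl
theorem f453588 : Led Lsl_at (LP (LK LD1_c0 LD2_c42 LD3_c30)) = v487 :=
  Lgr Lrot80 (Lpe (f439658 IH) (Lpe (f152466 IH) (Lpr_ef (f453587 IH) (Lpn v487))))
def v492 : LQ := Led Lsl_ft (LP (LK LD1_c0 LD2_c42 LD3_c30))
theorem f453604 : Led Lsl_ft (LP (LK LD1_c0 LD2_c42 LD3_c30)) = v492 :=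
  Lrfl
theorem f453607 : Led Lsl_ff (LP (LK LD1_c0 LD2_c42 LD3_c30)) = v492 :=
  Lgr Lrot3 (Lpr_ft (f453604 IH) (Lpn v492))
theorem f622712 : Led Lsl_gt v492 = v3059 :=
  Lgr Lrot5 (Lpe (f453607 IH) (Lpr_at (f453588 IH) (Lpr_gf (f622711 IH) (Lpn v3059))))
theorem f69057 : Led Lsl_bt (LP (LK LD1_c0 LD2_c42 LD3_c30)) = (LP (LK LD1_c0 LD2_c18 LD3_c59)) :=
  Lre_b IH (LK LD1_c0 LD2_c42 LD3_c30) (LK LD1_c0 LD2_c18 LD3_c59) Lrfl Lrfl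
theorem f453608 : Led Lsl_bt (LP (LK LD1_c0 LD2_c42 LD3_c38)) = v492 :=
  Lgr Lrot35 (Lpe (K17.f69099 IH) (Lpe (f69057 IH) (Lpr_ff (f453607 IH) (Lpn v492))))
theorem f144001 : Led Lsl_bt (LP (LK LD1_c1 LD2_c8 LD3_c12)) = (LP (LK LD1_c0 LD2_c31 LD3_c15)) :=
  Lre_b IH (LK LD1_c1 LD2_c8 LD3_c12) (LK LD1_c0 LD2_c31 LD3_c15) Lrfl Lrfl
theorem f677479 : Led Lsl_cf (LP (LK LD1_c4 LD2_c48 LD3_c18)) = v9745 :=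
  Lgr Lrot160 (Lpr_gt (f146875 IH) (Lpe (K32.f148384 IH) (Lpr_bt (f144001 IH) (Lpr_gt (K29.f23280 IH) (Lpr_ct (K32.f435484 IH) (Lpe (K32.f435367 IH) (Lpr_cf (K32.f69083 IH) (Lpr_bt (f453608 IH) (Lpr_gt (f622712 IH) (Lpr_bf (f677478 IH) (Lpn v9745)))))))))))
theorem f677578 : Led Lsl_cf v3069 = v9781 :=
  Lgr Lrot11 (Lpr_ct (f677577 IH) (Lpn v9781))
theorem f769075 : v9745 = v9784 :=
  (Llr Lrot108 (Lpe (f677479 IH) (Lpr_ft (f704988 IH) (Lpqs (f769074 IH) (Lpe (f677578 IH) (Lpr_ft (f677589 IH) (Lpn v9784))))))).symm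
theorem f769076 : v3073 = v3059 :=
  Lefun (Lecon (Lfl_bf (f677590 IH)) (f769075 IH).symm) (Lfl_bf (f677478 IH))
theorem f769077 : v9773 = v487 :=
  Lefun (Lecon (f677552 IH) (f769076 IH)) (Lfl_gf (f622711 IH))
theorem f769084 : v3068 = v3058 :=
  Lefun (Lecon (Lfl_gf (f677551 IH)) (f769077 IH)) (f622710 IH)
theorem f769085 : v9774 = v9740 :=
  Lefun (Lecon (f677553 IH) (f769084 IH)) (f677463 IH)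
def v8926 : LQ := Led Lsl_bt v2291
theorem f672785 : Led Lsl_bt v2291 = v8926 :=
  Lrfl
theorem f672786 : Led Lsl_bf v2291 = v8926 :=
  Lgr Lrot24 (Lpr_bt (f672785 IH) (Lpn v8926))
def v3424 : LQ := Led Lsl_dt K56.v820
def v10663 : LQ := Led Lsl_gf v3424
theorem f681284 : Led Lsl_gf v3424 = v10663 :=
  Lrfl
theorem f625588 : Led Lsl_dt K56.v820 = v3424 :=
  Lrfl
def v8929 : LQ := Led Lsl_et v2291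
theorem f672791 : Led Lsl_et v2291 = v8929 :=
  Lrfl
theorem f672792 : Led Lsl_ef v2291 = v8929 :=
  Lgr Lrot88 (Lpr_et (f672791 IH) (Lpn v8929))
theorem f681286 : Led Lsl_dt v8929 = v10663 :=
  Lgr Lrot136 (Lpe (f672792 IH) (Lpe (f511914 IH) (Lpe (K3.f64599 IH) (Lpr_dt (K1.f19357 IH) (Lpe (K2.f10767 IH) (Lpe (K3.f17736 IH) (Lpr_gf (K3.f95733 IH) (Lpr_ef (K56.f459558 IH) (Lpr_dt (f625588 IH) (Lpr_gf (f681284 IH) (Lpn v10663)))))))))))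
def v3423 : LQ := Led Lsl_gf K56.v820
def v10660 : LQ := Led Lsl_dt v3423
theorem f681274 : Led Lsl_dt v3423 = v10660 :=
  Lrfl
theorem f681275 : Led Lsl_df v3423 = v10660 :=
  Lgr Lrot38 (Lpr_dt (f681274 IH) (Lpn v10660))
theorem f625586 : Led Lsl_gf K56.v820 = v3423 :=
  Lrfl
theorem f625590 : Led Lsl_df K56.v820 = v3424 :=
  Lgr Lrot38 (Lpr_dt (f625588 IH) (Lpn v3424))
theorem f459563 : Led Lsl_df (LP (LK LD1_c0 LD2_c51 LD3_c50)) = K34.v821 :=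
  Lgr Lrot38 (Lpr_dt (K34.f459561 IH) (Lpn K34.v821))
theorem f625591 : Led Lsl_ef K34.v821 = v3424 :=
  Lgr Lrot73 (Lpe (f459563 IH) (Lpr_et (K34.f85053 IH) (Lpr_dt (K3.f85060 IH) (Lpr_et (K56.f459555 IH) (Lpr_dt (f625588 IH) (Lpn v3424))))))
theorem f459636 : Led Lsl_df (LP (LK LD1_c0 LD2_c52 LD3_c5)) = K34.v835 :=
  Lgr Lrot38 (Lpr_dt (K34.f459633 IH) (Lpn K34.v835))
theorem f85044 : Led Lsl_dt (LP (LK LD1_c0 LD2_c52 LD3_c6)) = (LP (LK LD1_c0 LD2_c23 LD3_c35)) :=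
  Lre_d IH (LK LD1_c0 LD2_c52 LD3_c6) (LK LD1_c0 LD2_c23 LD3_c35) Lrfl Lrfl
def v832 : LQ := Led Lsl_dt (LP (LK LD1_c0 LD2_c52 LD3_c3))
theorem f459620 : Led Lsl_dt (LP (LK LD1_c0 LD2_c52 LD3_c3)) = v832 :=
  Lrfl
theorem f62663 : Led Lsl_et (LP (LK LD1_c0 LD2_c23 LD3_c35)) = (LP (LK LD1_c0 LD2_c10 LD3_c34)) :=
  Lre_e IH (LK LD1_c0 LD2_c23 LD3_c35) (LK LD1_c0 LD2_c10 LD3_c34) Lrfl Lrfl
theorem f459622 : Led Lsl_ef (LP (LK LD1_c0 LD2_c52 LD3_c6)) = v832 :=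
  Lgr Lrot73 (Lpr_dt (f85044 IH) (Lpr_et (f62663 IH) (Lpr_dt (K1.f12416 IH) (Lpr_et (K56.f66437 IH) (Lpr_dt (f459620 IH) (Lpn v832))))))
theorem f459623 : Led Lsl_et (LP (LK LD1_c0 LD2_c52 LD3_c6)) = v832 :=
  Lgr Lrot87 (Lpr_ef (f459622 IH) (Lpn v832))
def v3446 : LQ := Led Lsl_gt v832
theorem f625676 : Led Lsl_gt v832 = v3446 :=
  Lrfl
theorem f681276 : Led Lsl_ef v3446 = v10660 :=
  Lgr Lrot17 (Lpe (f625676 IH) (Lpe (f459623 IH) (Lpr_dt (f85044 IH) (Lpe (K11.f85056 IH) (Lpr_df (f459636 IH) (Lpe (K34.f459639 IH) (Lpr_ef (f625591 IH) (Lpe (f625590 IH) (Lpr_gf (f625586 IH) (Lpr_df (f681275 IH) (Lpn v10660)))))))))))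
theorem f681277 : Led Lsl_et v3446 = v10660 :=
  Lgr Lrot87 (Lpr_ef (f681276 IH) (Lpn v10660))
def v10730 : LQ := Led Lsl_at v3446
theorem f681530 : Led Lsl_at v3446 = v10730 :=
  Lrfl
theorem f681531 : Led Lsl_af v3446 = v10730 :=
  Lgr Lrot0 (Lpr_at (f681530 IH) (Lpn v10730))
def v830 : LQ := Led Lsl_gt (LP (LK LD1_c0 LD2_c52 LD3_c3))
def v3439 : LQ := Led Lsl_dt v830
def v10712 : LQ := Led Lsl_ft v3439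
theorem f681479 : Led Lsl_ft v3439 = v10712 :=
  Lrfl
theorem f681482 : Led Lsl_ff v3439 = v10712 :=
  Lgr Lrot3 (Lpr_ft (f681479 IH) (Lpn v10712))
theorem f625660 : Led Lsl_dt v830 = v3439 :=
  Lrfl
theorem f625661 : Led Lsl_df v830 = v3439 :=
  Lgr Lrot38 (Lpr_dt (f625660 IH) (Lpn v3439))
def v3441 : LQ := Led Lsl_ft v830
theorem f625664 : Led Lsl_ft v830 = v3441 :=
  Lrfl
theorem f681486 : Led Lsl_dt v3441 = v10712 :=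
  Lgr Lrot60 (Lpe (f625664 IH) (Lpr_df (f625661 IH) (Lpr_ff (f681482 IH) (Lpn v10712))))
def v3436 : LQ := Led Lsl_at v830
def v10689 : LQ := Led Lsl_gt v3436
theorem f681410 : Led Lsl_gt v3436 = v10689 :=
  Lrfl
theorem f625652 : Led Lsl_at v830 = v3436 :=
  Lrfl
theorem f625653 : Led Lsl_af v830 = v3436 :=
  Lgr Lrot0 (Lpr_at (f625652 IH) (Lpn v3436))
theorem f459618 : Led Lsl_gt (LP (LK LD1_c0 LD2_c52 LD3_c3)) = v830 :=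
  Lrfl
theorem f625654 : Led Lsl_ft K56.v831 = v3436 :=
  Lgr Lrot2 (Lpe (K56.f459619 IH) (Lpr_gt (f459618 IH) (Lpr_af (f625653 IH) (Lpn v3436))))
theorem f625655 : Led Lsl_ff K56.v831 = v3436 :=
  Lgr Lrot3 (Lpr_ft (f625654 IH) (Lpn v3436))
theorem f625666 : Led Lsl_ff v830 = v3441 :=
  Lgr Lrot3 (Lpr_ft (f625664 IH) (Lpn v3441))
theorem f625667 : Led Lsl_at K56.v831 = v3441 :=
  Lgr Lrot66 (Lpr_ff (f625655 IH) (Lpe (f625652 IH) (Lpr_ff (f625666 IH) (Lpn v3441))))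
theorem f681411 : Led Lsl_gf v3441 = v10689 :=
  Lgr Lrot76 (Lpe (f625667 IH) (Lpr_ff (f625655 IH) (Lpr_gt (f681410 IH) (Lpn v10689))))
theorem f459559 : Led Lsl_at (LP (LK LD1_c0 LD2_c52 LD3_c3)) = K56.v820 :=
  Lgr Lrot80 (Lpe (K56.f66437 IH) (Lpe (K2.f66419 IH) (Lpr_ef (K56.f459558 IH) (Lpn K56.v820))))
theorem f625587 : Led Lsl_gt v833 = v3423 :=
  Lgr Lrot5 (Lpe (f459625 IH) (Lpr_at (f459559 IH) (Lpr_gf (f625586 IH) (Lpn v3423))))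
def v3422 : LQ := Led Lsl_gt K56.v820
theorem f625584 : Led Lsl_gt K56.v820 = v3422 :=
  Lrfl
theorem f527925 : Led Lsl_ft K56.v820 = K56.v2624 :=
  Lgr Lrot48 (Lpr_ff (K56.f527923 IH) (Lpn K56.v2624))
theorem f527752 : Led Lsl_et v833 = K56.v2605 :=
  Lgr Lrot69 (Lpe (f459624 IH) (Lpe (K56.f66437 IH) (Lpe (K3.f95981 IH) (Lpe (K2.f85139 IH) (Lpr_ff (K56.f527746 IH) (Lpn K56.v2605))))))
theorem f527921 : Led Lsl_af v833 = K56.v2624 :=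
  Lgr Lrot50 (Lpr_et (f527752 IH) (Lpe (K56.f527742 IH) (Lpr_et (K56.f527920 IH) (Lpn K56.v2624))))
theorem f625585 : Led Lsl_gf v833 = v3422 :=
  Lgr Lrot76 (Lpr_af (f527921 IH) (Lpe (f527925 IH) (Lpr_gt (f625584 IH) (Lpn v3422))))
def v10691 : LQ := Led Lsl_bt v3436
theorem f681414 : Led Lsl_bt v3436 = v10691 :=
  Lrfl
theorem f681415 : Led Lsl_bf v3436 = v10691 :=
  Lgr Lrot24 (Lpr_bt (f681414 IH) (Lpn v10691))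
def v10653 : LQ := Led Lsl_bt v3422
theorem f681258 : Led Lsl_bt v3422 = v10653 :=
  Lrfl
theorem f681259 : Led Lsl_bf v3422 = v10653 :=
  Lgr Lrot24 (Lpr_bt (f681258 IH) (Lpn v10653))
def v2567 : LQ := Led Lsl_gt (LP (LK LD1_c1 LD2_c48 LD3_c48))
def v9260 : LQ := Led Lsl_ct v2567
theorem f674937 : Led Lsl_ct v2567 = v9260 :=
  Lrfl
def v9258 : LQ := Led Lsl_at v2567
theorem f674931 : Led Lsl_at v2567 = v9258 :=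
  Lrfl
theorem f674932 : Led Lsl_af v2567 = v9258 :=
  Lgr Lrot0 (Lpr_at (f674931 IH) (Lpn v9258))
def v2633 : LQ := Led Lsl_et (LP (LK LD1_c1 LD2_c50 LD3_c20))
def v9382 : LQ := Led Lsl_ft v2633
theorem f675623 : Led Lsl_ft v2633 = v9382 :=
  Lrfl
theorem f675627 : Led Lsl_ff v2633 = v9382 :=
  Lgr Lrot3 (Lpr_ft (f675623 IH) (Lpn v9382))
theorem f529934 : Led Lsl_et (LP (LK LD1_c1 LD2_c50 LD3_c20)) = v2633 :=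
  Lrfl
theorem f529936 : Led Lsl_cf v828 = v2633 :=
  Lgr Lrot39 (Lpe (f459604 IH) (Lpr_ct (K2.f23365 IH) (Lpr_et (f529934 IH) (Lpn v2633))))
theorem f675630 : Led Lsl_ct v3434 = v9382 :=
  Lgr Lrot40 (Lpe (f625636 IH) (Lpr_cf (f529936 IH) (Lpr_ff (f675627 IH) (Lpn v9382))))
theorem f95540 : Led Lsl_et (LP (LK LD1_c3 LD2_c22 LD3_c61)) = (LP (LK LD1_c1 LD2_c37 LD3_c54)) :=
  Lre_e IH (LK LD1_c3 LD2_c22 LD3_c61) (LK LD1_c1 LD2_c37 LD3_c54) Lrfl Lrfl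
theorem f529935 : Led Lsl_af (LP (LK LD1_c3 LD2_c22 LD3_c61)) = v2633 :=
  Lgr Lrot50 (Lpr_et (f95540 IH) (Lpr_at (K2.f95533 IH) (Lpr_et (f529934 IH) (Lpn v2633))))
def v6517 : LQ := Led Lsl_gf (LP (LK LD1_c3 LD2_c22 LD3_c61))
theorem f653744 : Led Lsl_gf (LP (LK LD1_c3 LD2_c22 LD3_c61)) = v6517 :=
  Lrfl
theorem f675632 : Led Lsl_gf v6517 = v9382 :=
  Lgr Lrot47 (Lpe (f653744 IH) (Lpr_af (f529935 IH) (Lpr_ff (f675627 IH) (Lpn v9382))))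
def v11788 : LQ := Led Lsl_ct v3890
theorem f685890 : Led Lsl_ct v3890 = v11788 :=
  Lrfl
theorem f206506 : Led Lsl_bt (LP (LK LD1_c1 LD2_c48 LD3_c48)) = (LP (LK LD1_c3 LD2_c43 LD3_c26)) :=
  Lre_b IH (LK LD1_c1 LD2_c48 LD3_c48) (LK LD1_c3 LD2_c43 LD3_c26) Lrfl Lrfl
theorem f206507 : Led Lsl_ct (LP (LK LD1_c0 LD2_c51 LD3_c9)) = (LP (LK LD1_c1 LD2_c48 LD3_c48)) :=
  Lre_c IH (LK LD1_c0 LD2_c51 LD3_c9) (LK LD1_c1 LD2_c48 LD3_c48) Lrfl Lrfl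
theorem f206552 : Led Lsl_bf (LP (LK LD1_c0 LD2_c51 LD3_c9)) = (LP (LK LD1_c0 LD2_c30 LD3_c55)) :=
  Lgr Lrot90 (Lpr_ct (f206507 IH) (Lpr_bt (f206506 IH) (Lpe (K24.f206503 IH) (Lpr_bt (K56.f163596 IH) (Lpr_ct (K53.f206517 IH) (Lpn (LP (LK LD1_c0 LD2_c30 LD3_c55))))))))
def v3390 : LQ := Led Lsl_bt K48.v799
theorem f625470 : Led Lsl_bt K48.v799 = v3390 :=
  Lrfl
theorem f625471 : Led Lsl_bf K48.v799 = v3390 :=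
  Lgr Lrot24 (Lpr_bt (f625470 IH) (Lpn v3390))
def v10570 : LQ := Led Lsl_ct v3390
theorem f680966 : Led Lsl_ct v3390 = v10570 :=
  Lrfl
theorem f685892 : Led Lsl_gf v10570 = v11788 :=
  Lgr Lrot129 (Lpe (f680966 IH) (Lpe (f625471 IH) (Lpe (K48.f459450 IH) (Lpr_bf (f206552 IH) (Lpe (K24.f206513 IH) (Lpr_gt (K49.f494346 IH) (Lpqs (K49.f535846 IH) (Lpe (K35.f491570 IH) (Lpr_bt (f491568 IH) (Lpr_gt (f627759 IH) (Lpr_ct (f685890 IH) (Lpn v11788))))))))))))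
theorem f768768 : v11788 = v9382 :=
  Lefun (Lecon (f685890 IH) (f768758 IH).symm) (f675630 IH)
theorem f768778 : v10570 = v6517 :=
  Lefun (Lecon (Lfl_gf (f685892 IH)) (f768768 IH)) (Lfl_gf (f675632 IH))
theorem f527525 : Led Lsl_gt (LP (LK LD1_c1 LD2_c48 LD3_c48)) = v2567 :=
  Lrfl
theorem f674938 : Led Lsl_cf v2567 = v9260 :=
  Lgr Lrot11 (Lpr_ct (f674937 IH) (Lpn v9260))
theorem f769120 : v10653 = v9260 :=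
  (Llr Lrot156 (Lpe (f681259 IH) (Lpe (f625585 IH) (Lpr_bf (f625638 IH) (Lpr_ct (f675630 IH) (Lpe (f675632 IH) (Lpq (f768778 IH) (Lpe (f680966 IH) (Lpe (f625471 IH) (Lpe (K48.f459450 IH) (Lpr_ct (f206507 IH) (Lpr_gt (f527525 IH) (Lpr_cf (f674938 IH) (Lpn v9260)))))))))))))).symm
def v10652 : LQ := Led Lsl_at v3422
theorem f681254 : Led Lsl_at v3422 = v10652 :=
  Lrfl
def v127 : LQ := Led Lsl_et (LP (LK LD1_c0 LD2_c19 LD3_c13))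
def v960 : LQ := Led Lsl_gt v127
def v3584 : LQ := Led Lsl_at v960
def v11026 : LQ := Led Lsl_bt v3584
theorem f682870 : Led Lsl_bt v3584 = v11026 :=
  Lrfl
theorem f626351 : Led Lsl_at v960 = v3584 :=
  Lrfl
theorem f626352 : Led Lsl_af v960 = v3584 :=
  Lgr Lrot0 (Lpr_at (f626351 IH) (Lpn v3584))
theorem f490746 : Led Lsl_gt v127 = v960 :=
  Lrfl
def v961 : LQ := Led Lsl_gf v127
theorem f490747 : Led Lsl_gf v127 = v961 :=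
  Lrfl
theorem f626353 : Led Lsl_ft v961 = v3584 :=
  Lgr Lrot2 (Lpe (f490747 IH) (Lpr_gt (f490746 IH) (Lpr_af (f626352 IH) (Lpn v3584))))
def v3590 : LQ := Led Lsl_bt v961
theorem f626367 : Led Lsl_bt v961 = v3590 :=
  Lrfl
theorem f626368 : Led Lsl_bf v961 = v3590 :=
  Lgr Lrot24 (Lpr_bt (f626367 IH) (Lpn v3590))
theorem f682872 : Led Lsl_ff v3590 = v11026 :=
  Lgr Lrot25 (Lpe (f626368 IH) (Lpr_ft (f626353 IH) (Lpr_bt (f682870 IH) (Lpn v11026))))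
theorem f682873 : Led Lsl_ft v3590 = v11026 :=
  Lgr Lrot48 (Lpr_ff (f682872 IH) (Lpn v11026))
theorem f681255 : Led Lsl_af v3422 = v10652 :=
  Lgr Lrot0 (Lpr_at (f681254 IH) (Lpn v10652))
theorem f681256 : Led Lsl_ft v3423 = v10652 :=
  Lgr Lrot2 (Lpe (f625586 IH) (Lpr_gt (f625584 IH) (Lpr_af (f681255 IH) (Lpn v10652))))
def v11052 : LQ := Led Lsl_gt v3590
theorem f682956 : Led Lsl_gt v3590 = v11052 :=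
  Lrfl
def v13489 : LQ := Led Lsl_gt (LP (LK LD1_c4 LD2_c44 LD3_c26))
theorem f703268 : Led Lsl_gt (LP (LK LD1_c4 LD2_c44 LD3_c26)) = v13489 :=
  Lrfl
theorem f435605 : Led Lsl_ct (LP (LK LD1_c5 LD2_c55 LD3_c11)) = (LP (LK LD1_c2 LD2_c53 LD3_c56)) :=
  Lre_c IH (LK LD1_c5 LD2_c55 LD3_c11) (LK LD1_c2 LD2_c53 LD3_c56) Lrfl Lrfl
theorem f445862 : Led Lsl_ct (LP (LK LD1_c4 LD2_c35 LD3_c42)) = (LP (LK LD1_c9 LD2_c7 LD3_c53)) :=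
  Lre_c IH (LK LD1_c4 LD2_c35 LD3_c42) (LK LD1_c9 LD2_c7 LD3_c53) Lrfl Lrfl
theorem f508539 : Led Lsl_ff (LP (LK LD1_c5 LD2_c55 LD3_c11)) = (LP (LK LD1_c9 LD2_c7 LD3_c53)) :=
  Lgr Lrot23 (Lpr_ct (f435605 IH) (Lpr_ft (K53.f508537 IH) (Lpr_ct (f445862 IH) (Lpn (LP (LK LD1_c9 LD2_c7 LD3_c53))))))
theorem f435609 : Led Lsl_dt (LP (LK LD1_c5 LD2_c55 LD3_c11)) = (LP (LK LD1_c11 LD2_c35 LD3_c55)) :=
  Lre_d IH (LK LD1_c5 LD2_c55 LD3_c11) (LK LD1_c11 LD2_c35 LD3_c55) Lrfl Lrfl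
theorem f446209 : Led Lsl_dt (LP (LK LD1_c17 LD2_c0 LD3_c12)) = (LP (LK LD1_c9 LD2_c7 LD3_c53)) :=
  Lre_d IH (LK LD1_c17 LD2_c0 LD3_c12) (LK LD1_c9 LD2_c7 LD3_c53) Lrfl Lrfl
theorem f508545 : Led Lsl_ft (LP (LK LD1_c11 LD2_c35 LD3_c55)) = (LP (LK LD1_c17 LD2_c0 LD3_c12)) :=
  Lgr Lrot54 (Lpe (f435609 IH) (Lpr_ff (f508539 IH) (Lpe (f446209 IH) (Lpn (LP (LK LD1_c17 LD2_c0 LD3_c12))))))
theorem f508549 : Led Lsl_ff (LP (LK LD1_c11 LD2_c35 LD3_c55)) = (LP (LK LD1_c17 LD2_c0 LD3_c12)) :=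
  Lgr Lrot3 (Lpr_ft (f508545 IH) (Lpn (LP (LK LD1_c17 LD2_c0 LD3_c12))))
theorem f435603 : Led Lsl_bt (LP (LK LD1_c0 LD2_c43 LD3_c41)) = (LP (LK LD1_c1 LD2_c34 LD3_c10)) :=
  Lre_b IH (LK LD1_c0 LD2_c43 LD3_c41) (LK LD1_c1 LD2_c34 LD3_c10) Lrfl Lrfl
theorem f206539 : Led Lsl_ct (LP (LK LD1_c1 LD2_c34 LD3_c10)) = (LP (LK LD1_c3 LD2_c15 LD3_c5)) :=
  Lre_c IH (LK LD1_c1 LD2_c34 LD3_c10) (LK LD1_c3 LD2_c15 LD3_c5) Lrfl Lrfl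
theorem f435606 : Led Lsl_bt (LP (LK LD1_c3 LD2_c15 LD3_c5)) = (LP (LK LD1_c5 LD2_c55 LD3_c11)) :=
  Lgr Lrot128 (Lpe (f206539 IH) (Lpe (f435603 IH) (Lpr_cf (K35.f435600 IH) (Lpe (K42.f435604 IH) (Lpe (f435605 IH) (Lpn (LP (LK LD1_c5 LD2_c55 LD3_c11))))))))
theorem f206538 : Led Lsl_dt (LP (LK LD1_c6 LD2_c33 LD3_c37)) = (LP (LK LD1_c3 LD2_c15 LD3_c5)) :=
  Lre_d IH (LK LD1_c6 LD2_c33 LD3_c37) (LK LD1_c3 LD2_c15 LD3_c5) Lrfl Lrfl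
theorem f435610 : Led Lsl_bf (LP (LK LD1_c6 LD2_c33 LD3_c37)) = (LP (LK LD1_c11 LD2_c35 LD3_c55)) :=
  Lgr Lrot93 (Lpr_dt (f206538 IH) (Lpr_bt (f435606 IH) (Lpr_dt (f435609 IH) (Lpn (LP (LK LD1_c11 LD2_c35 LD3_c55))))))
theorem f446206 : Led Lsl_bf (LP (LK LD1_c4 LD2_c44 LD3_c26)) = (LP (LK LD1_c9 LD2_c7 LD3_c53)) :=
  Lgr Lrot90 (Lpr_ct (f446205 IH) (Lpr_bt (f206524 IH) (Lpr_ct (K35.f446201 IH) (Lpr_bt (K51.f446203 IH) (Lpr_ct (f445862 IH) (Lpn (LP (LK LD1_c9 LD2_c7 LD3_c53))))))))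
theorem f446208 : Led Lsl_dt (LP (LK LD1_c4 LD2_c44 LD3_c26)) = (LP (LK LD1_c9 LD2_c21 LD3_c40)) :=
  Lre_d IH (LK LD1_c4 LD2_c44 LD3_c26) (LK LD1_c9 LD2_c21 LD3_c40) Lrfl Lrfl
theorem f446210 : Led Lsl_bt (LP (LK LD1_c9 LD2_c21 LD3_c40)) = (LP (LK LD1_c17 LD2_c0 LD3_c12)) :=
  Lgr Lrot95 (Lpe (f446208 IH) (Lpr_bf (f446206 IH) (Lpe (f446209 IH) (Lpn (LP (LK LD1_c17 LD2_c0 LD3_c12))))))
theorem f508551 : Led Lsl_ft (LP (LK LD1_c6 LD2_c33 LD3_c37)) = (LP (LK LD1_c9 LD2_c21 LD3_c40)) :=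
  Lgr Lrot75 (Lpr_bf (f435610 IH) (Lpr_ff (f508549 IH) (Lpe (f446210 IH) (Lpn (LP (LK LD1_c9 LD2_c21 LD3_c40))))))
theorem f435622 : Led Lsl_dt (LP (LK LD1_c3 LD2_c15 LD3_c5)) = (LP (LK LD1_c6 LD2_c33 LD3_c37)) :=
  Lre_d IH (LK LD1_c3 LD2_c15 LD3_c5) (LK LD1_c6 LD2_c33 LD3_c37) Lrfl Lrfl
theorem f446220 : Led Lsl_dt (LP (LK LD1_c9 LD2_c21 LD3_c40)) = (LP (LK LD1_c4 LD2_c44 LD3_c26)) :=
  Lre_d IH (LK LD1_c9 LD2_c21 LD3_c40) (LK LD1_c4 LD2_c44 LD3_c26) Lrfl Lrfl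
theorem f508553 : Led Lsl_ff (LP (LK LD1_c3 LD2_c15 LD3_c5)) = (LP (LK LD1_c4 LD2_c44 LD3_c26)) :=
  Lgr Lrot19 (Lpr_dt (f435622 IH) (Lpr_ft (f508551 IH) (Lpr_dt (f446220 IH) (Lpn (LP (LK LD1_c4 LD2_c44 LD3_c26))))))
def v5931 : LQ := Led Lsl_at (LP (LK LD1_c3 LD2_c15 LD3_c5))
theorem f650100 : Led Lsl_at (LP (LK LD1_c3 LD2_c15 LD3_c5)) = v5931 :=
  Lrfl
theorem f703269 : Led Lsl_gf v5931 = v13489 :=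
  Lgr Lrot76 (Lpe (f650100 IH) (Lpr_ff (f508553 IH) (Lpr_gt (f703268 IH) (Lpn v13489))))
def v2045 : LQ := Led Lsl_at (LP (LK LD1_c1 LD2_c34 LD3_c10))
theorem f507903 : Led Lsl_at (LP (LK LD1_c1 LD2_c34 LD3_c10)) = v2045 :=
  Lrfl
theorem f507904 : Led Lsl_af (LP (LK LD1_c1 LD2_c34 LD3_c10)) = v2045 :=
  Lgr Lrot0 (Lpr_at (f507903 IH) (Lpn v2045))
theorem f650102 : Led Lsl_cf v2045 = v5931 :=
  Lgr Lrot1 (Lpe (f507904 IH) (Lpr_ct (f206539 IH) (Lpr_at (f650100 IH) (Lpn v5931))))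
theorem f650103 : Led Lsl_ct v2045 = v5931 :=
  Lgr Lrot59 (Lpr_cf (f650102 IH) (Lpn v5931))
def v1334 : LQ := Led Lsl_bt (LP (LK LD1_c1 LD2_c7 LD3_c24))
def v7855 : LQ := Led Lsl_at v1334
theorem f668735 : Led Lsl_at v1334 = v7855 :=
  Lrfl
def v522 : LQ := Led Lsl_bt (LP (LK LD1_c0 LD2_c43 LD3_c42))
theorem f453764 : Led Lsl_bt (LP (LK LD1_c0 LD2_c43 LD3_c42)) = v522 :=
  Lrfl
theorem f453765 : Led Lsl_bf (LP (LK LD1_c0 LD2_c43 LD3_c42)) = v522 :=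
  Lgr Lrot24 (Lpr_bt (f453764 IH) (Lpn v522))
theorem f494903 : Led Lsl_bt (LP (LK LD1_c1 LD2_c7 LD3_c24)) = v1334 :=
  Lrfl
theorem f508555 : Led Lsl_ff v522 = v1334 :=
  Lgr Lrot25 (Lpe (f453765 IH) (Lpq (K32.f507936 IH) (Lpe (K32.f494909 IH) (Lpr_bt (f494903 IH) (Lpn v1334)))))
theorem f508560 : Led Lsl_ft v522 = v1334 :=
  Lgr Lrot48 (Lpr_ff (f508555 IH) (Lpn v1334))
def v3125 : LQ := Led Lsl_at v522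
theorem f623953 : Led Lsl_at v522 = v3125 :=
  Lrfl
theorem f623954 : Led Lsl_af v522 = v3125 :=
  Lgr Lrot0 (Lpr_at (f623953 IH) (Lpn v3125))
theorem f668738 : Led Lsl_ff v3125 = v7855 :=
  Lgr Lrot30 (Lpe (f623954 IH) (Lpr_ft (f508560 IH) (Lpr_at (f668735 IH) (Lpn v7855))))
theorem f446197 : Led Lsl_bt (LP (LK LD1_c1 LD2_c7 LD3_c25)) = (LP (LK LD1_c2 LD2_c20 LD3_c15)) :=
  Lre_b IH (LK LD1_c1 LD2_c7 LD3_c25) (LK LD1_c2 LD2_c20 LD3_c15) Lrfl Lrfl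
theorem f633031 : Led Lsl_bf v3125 = v4382 :=
  Lgr Lrot81 (Lpe (f623954 IH) (Lpe (f453765 IH) (Lpq (K32.f507936 IH) (Lpe (K35.f494908 IH) (Lpr_bt (f446197 IH) (Lpr_at (f633029 IH) (Lpn v4382)))))))
theorem f633037 : Led Lsl_bt v3125 = v4382 :=
  Lgr Lrot127 (Lpr_bf (f633031 IH) (Lpn v4382))
def v2047 : LQ := Led Lsl_ft (LP (LK LD1_c1 LD2_c34 LD3_c10))
theorem f507910 : Led Lsl_ft (LP (LK LD1_c1 LD2_c34 LD3_c10)) = v2047 :=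
  Lrfl
theorem f507912 : Led Lsl_ff (LP (LK LD1_c1 LD2_c34 LD3_c10)) = v2047 :=
  Lgr Lrot3 (Lpr_ft (f507910 IH) (Lpn v2047))
theorem f206536 : Led Lsl_bt (LP (LK LD1_c1 LD2_c34 LD3_c10)) = (LP (LK LD1_c0 LD2_c43 LD3_c41)) :=
  Lre_b IH (LK LD1_c1 LD2_c34 LD3_c10) (LK LD1_c0 LD2_c43 LD3_c41) Lrfl Lrfl
theorem f507913 : Led Lsl_bt K35.v521 = v2047 :=
  Lgr Lrot35 (Lpe (K35.f453760 IH) (Lpe (f206536 IH) (Lpr_ff (f507912 IH) (Lpn v2047))))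
theorem f507943 : v2047 = (LP (LK LD1_c2 LD2_c20 LD3_c15)) :=
  Lefun (Lecon (f507913 IH) (K35.f507937 IH).symm) (f446197 IH)
theorem f633032 : Led Lsl_ff v2045 = v4382 :=
  Lgr Lrot30 (Lpe (f507904 IH) (Lpr_ft (f507910 IH) (Lpqs (f507943 IH) (Lpr_at (f633029 IH) (Lpn v4382)))))
theorem f668740 : Led Lsl_bt v2045 = v7855 :=
  Lgr Lrot35 (Lpr_ff (f633032 IH) (Lpe (f633037 IH) (Lpr_ff (f668738 IH) (Lpn v7855))))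
def v3124 : LQ := Led Lsl_gf v522
theorem f623952 : Led Lsl_gf v522 = v3124 :=
  Lrfl
theorem f668742 : Led Lsl_gf v3124 = v7855 :=
  Lgr Lrot47 (Lpe (f623952 IH) (Lpr_af (f623954 IH) (Lpr_ff (f668738 IH) (Lpn v7855))))
def v9939 : LQ := Led Lsl_bt v3124
theorem f678128 : Led Lsl_bt v3124 = v9939 :=
  Lrfl
theorem f678129 : Led Lsl_bf v3124 = v9939 :=
  Lgr Lrot24 (Lpr_bt (f678128 IH) (Lpn v9939))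
def v3586 : LQ := Led Lsl_ct v960
def v11036 : LQ := Led Lsl_gt v3586
theorem f682906 : Led Lsl_gt v3586 = v11036 :=
  Lrfl
theorem f626357 : Led Lsl_ct v960 = v3586 :=
  Lrfl
theorem f450612 : Led Lsl_et (LP (LK LD1_c0 LD2_c19 LD3_c13)) = v127 :=
  Lrfl
theorem f450614 : Led Lsl_ef (LP (LK LD1_c0 LD2_c19 LD3_c13)) = v127 :=
  Lgr Lrot88 (Lpr_et (f450612 IH) (Lpn v127))
theorem f59456 : Led Lsl_bt (LP (LK LD1_c0 LD2_c19 LD3_c13)) = (LP (LK LD1_c0 LD2_c8 LD3_c38)) :=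
  Lre_b IH (LK LD1_c0 LD2_c19 LD3_c13) (LK LD1_c0 LD2_c8 LD3_c38) Lrfl Lrfl
theorem f450615 : Led Lsl_bt K29.v81 = v127 :=
  Lgr Lrot119 (Lpe (K29.f446807 IH) (Lpe (f59456 IH) (Lpr_ef (f450614 IH) (Lpn v127))))
theorem f682907 : Led Lsl_ct v9939 = v11036 :=
  Lgr Lrot63 (Lpe (f678129 IH) (Lpe (f623952 IH) (Lpe (f453764 IH) (Lpr_ct (K35.f180307 IH) (Lpr_gt (K17.f166184 IH) (Lpr_cf (K49.f446809 IH) (Lpr_bt (f450615 IH) (Lpr_gt (f490746 IH) (Lpr_ct (f626357 IH) (Lpr_gt (f682906 IH) (Lpn v11036)))))))))))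
def v11041 : LQ := Led Lsl_ft v3586
theorem f682919 : Led Lsl_ft v3586 = v11041 :=
  Lrfl
def v11027 : LQ := Led Lsl_ct v3584
theorem f682874 : Led Lsl_ct v3584 = v11027 :=
  Lrfl
theorem f626358 : Led Lsl_cf v960 = v3586 :=
  Lgr Lrot11 (Lpr_ct (f626357 IH) (Lpn v3586))
theorem f682875 : Led Lsl_af v3586 = v11027 :=
  Lgr Lrot68 (Lpe (f626358 IH) (Lpr_at (f626351 IH) (Lpr_ct (f682874 IH) (Lpn v11027))))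
def v3591 : LQ := Led Lsl_ct v961
theorem f626369 : Led Lsl_ct v961 = v3591 :=
  Lrfl
theorem f626370 : Led Lsl_cf v961 = v3591 :=
  Lgr Lrot11 (Lpr_ct (f626369 IH) (Lpn v3591))
theorem f682877 : Led Lsl_ff v3591 = v11027 :=
  Lgr Lrot23 (Lpe (f626370 IH) (Lpr_ft (f626353 IH) (Lpr_ct (f682874 IH) (Lpn v11027))))
theorem f682878 : Led Lsl_ft v3591 = v11027 :=
  Lgr Lrot48 (Lpr_ff (f682877 IH) (Lpn v11027))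
theorem f682920 : Led Lsl_af v3591 = v11041 :=
  Lgr Lrot45 (Lpr_ft (f682878 IH) (Lpe (f682875 IH) (Lpr_ft (f682919 IH) (Lpn v11041))))
theorem f682923 : Led Lsl_gt v11036 = v3591 :=
  Lgr Lrot46 (Lpe (f682906 IH) (Lpr_ft (f682919 IH) (Lpe (f682920 IH) (Lpn v3591))))
theorem f703270 : Led Lsl_ct v11052 = v13489 :=
  Lgr Lrot91 (Lpe (f682956 IH) (Lpe (f626367 IH) (Lpr_ct (f626369 IH) (Lpe (f682923 IH) (Lpe (f682907 IH) (Lpe (f678129 IH) (Lpr_gf (f668742 IH) (Lpe (f668740 IH) (Lpr_ct (f650103 IH) (Lpr_gf (f703269 IH) (Lpn v13489)))))))))))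
theorem f703271 : Led Lsl_cf v11052 = v13489 :=
  Lgr Lrot11 (Lpr_ct (f703270 IH) (Lpn v13489))
theorem f95991 : Led Lsl_cf (LP (LK LD1_c1 LD2_c27 LD3_c1)) = (LP (LK LD1_c0 LD2_c51 LD3_c49)) :=
  Lgr Lrot11 (Lpr_ct (K3.f95983 IH) (Lpn (LP (LK LD1_c0 LD2_c51 LD3_c49))))
theorem f63831 : Led Lsl_et (LP (LK LD1_c1 LD2_c27 LD3_c1)) = (LP (LK LD1_c3 LD2_c1 LD3_c61)) :=
  Lre_e IH (LK LD1_c1 LD2_c27 LD3_c1) (LK LD1_c3 LD2_c1 LD3_c61) Lrfl Lrfl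
theorem f459560 : Led Lsl_ct (LP (LK LD1_c3 LD2_c1 LD3_c61)) = K56.v820 :=
  Lgr Lrot15 (Lpe (f63831 IH) (Lpr_cf (f95991 IH) (Lpr_ef (K56.f459558 IH) (Lpn K56.v820))))
theorem f768781 : (LP (LK LD1_c3 LD2_c1 LD3_c61)) = v13489 :=
  Lefun (Lecon (Lfl_gf (f646533 IH)) (f768779 IH).symm) (f703268 IH)
theorem f768787 : v11052 = K56.v820 :=
  Lefun (Lecon (Lfl_cf (f703271 IH)) (f768781 IH).symm) (f459560 IH)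
theorem f768806 : v3590 = v3423 :=
  Lefun (Lecon (Lfl_gt (f682956 IH)) (f768787 IH)) (f625586 IH)
theorem f768832 : v11026 = v10652 :=
  Lefun (Lecon (f682873 IH) (f768806 IH)) (f681256 IH)
theorem f682871 : Led Lsl_bf v3584 = v11026 :=
  Lgr Lrot24 (Lpr_bt (f682870 IH) (Lpn v11026))
def v11025 : LQ := Led Lsl_gf v3584
theorem f682868 : Led Lsl_gf v3584 = v11025 :=
  Lrfl
def v954 : LQ := Led Lsl_et K34.v124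
def v3570 : LQ := Led Lsl_gt v954
theorem f626300 : Led Lsl_gt v954 = v3570 :=
  Lrfl
def v3589 : LQ := Led Lsl_ft v960
theorem f626363 : Led Lsl_ft v960 = v3589 :=
  Lrfl
theorem f626365 : Led Lsl_ff v960 = v3589 :=
  Lgr Lrot3 (Lpr_ft (f626363 IH) (Lpn v3589))
theorem f682869 : Led Lsl_gt v3589 = v11025 :=
  Lgr Lrot5 (Lpe (f626365 IH) (Lpr_at (f626351 IH) (Lpr_gf (f682868 IH) (Lpn v11025))))
def v3571 : LQ := Led Lsl_gf v954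
theorem f626301 : Led Lsl_gf v954 = v3571 :=
  Lrfl
def v3587 : LQ := Led Lsl_dt v960
def v11046 : LQ := Led Lsl_ft v3587
theorem f682935 : Led Lsl_ft v3587 = v11046 :=
  Lrfl
theorem f626359 : Led Lsl_dt v960 = v3587 :=
  Lrfl
theorem f682937 : Led Lsl_df v3589 = v11046 :=
  Lgr Lrot78 (Lpe (f626365 IH) (Lpr_dt (f626359 IH) (Lpr_ft (f682935 IH) (Lpn v11046))))
def v10987 : LQ := Led Lsl_dt v3571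
theorem f682747 : Led Lsl_dt v3571 = v10987 :=
  Lrfl
theorem f682748 : Led Lsl_df v3571 = v10987 :=
  Lgr Lrot38 (Lpr_dt (f682747 IH) (Lpn v10987))
def v3572 : LQ := Led Lsl_dt v954
def v10989 : LQ := Led Lsl_gt v3572
theorem f682753 : Led Lsl_gt v3572 = v10989 :=
  Lrfl
theorem f626303 : Led Lsl_dt v954 = v3572 :=
  Lrfl
theorem f490719 : Led Lsl_et K34.v124 = v954 :=
  Lrfl
def v125 : LQ := Led Lsl_et (LP (LK LD1_c0 LD2_c19 LD3_c12))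
theorem f450595 : Led Lsl_et (LP (LK LD1_c0 LD2_c19 LD3_c12)) = v125 :=
  Lrfl
theorem f450599 : Led Lsl_ef (LP (LK LD1_c0 LD2_c19 LD3_c12)) = v125 :=
  Lgr Lrot88 (Lpr_et (f450595 IH) (Lpn v125))
def v955 : LQ := Led Lsl_dt v125
theorem f490723 : Led Lsl_dt v125 = v955 :=
  Lrfl
theorem f490725 : Led Lsl_df v125 = v955 :=
  Lgr Lrot38 (Lpr_dt (f490723 IH) (Lpn v955))
theorem f626306 : Led Lsl_ef v955 = v3572 :=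
  Lgr Lrot73 (Lpe (f490725 IH) (Lpe (f450599 IH) (Lpr_dt (K34.f450585 IH) (Lpr_et (f490719 IH) (Lpr_dt (f626303 IH) (Lpn v3572))))))
theorem f626308 : Led Lsl_et v955 = v3572 :=
  Lgr Lrot87 (Lpr_ef (f626306 IH) (Lpn v3572))
theorem f82478 : Led Lsl_at (LP (LK LD1_c1 LD2_c31 LD3_c43)) = (LP (LK LD1_c0 LD2_c42 LD3_c34)) :=
  Lre_a IH (LK LD1_c1 LD2_c31 LD3_c43) (LK LD1_c0 LD2_c42 LD3_c34) Lrfl Lrfl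
theorem f131583 : Led Lsl_gf (LP (LK LD1_c0 LD2_c42 LD3_c34)) = (LP (LK LD1_c0 LD2_c42 LD3_c24)) :=
  Lgr Lrot76 (Lpe (f82478 IH) (Lpe (K5.f82479 IH) (Lpr_gt (K5.f131579 IH) (Lpn (LP (LK LD1_c0 LD2_c42 LD3_c24))))))
theorem f82476 : Led Lsl_dt (LP (LK LD1_c0 LD2_c42 LD3_c34)) = (LP (LK LD1_c1 LD2_c31 LD3_c60)) :=
  Lre_d IH (LK LD1_c0 LD2_c42 LD3_c34) (LK LD1_c1 LD2_c31 LD3_c60) Lrfl Lrfl
theorem f450601 : Led Lsl_gt (LP (LK LD1_c0 LD2_c43 LD3_c8)) = v125 :=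
  Lgr Lrot131 (Lpr_ef (K7.f131424 IH) (Lpr_dt (K5.f25791 IH) (Lpe (K50.f131412 IH) (Lpe (f82476 IH) (Lpr_gf (f131583 IH) (Lpe (K5.f119852 IH) (Lpr_dt (K5.f119850 IH) (Lpr_gf (K34.f450590 IH) (Lpe (K34.f450585 IH) (Lpr_et (f450595 IH) (Lpn v125)))))))))))
def v501 : LQ := Led Lsl_dt (LP (LK LD1_c0 LD2_c43 LD3_c8))
theorem f453649 : Led Lsl_dt (LP (LK LD1_c0 LD2_c43 LD3_c8)) = v501 :=
  Lrfl
theorem f453650 : Led Lsl_df (LP (LK LD1_c0 LD2_c43 LD3_c8)) = v501 :=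
  Lgr Lrot38 (Lpr_dt (f453649 IH) (Lpn v501))
def v128 : LQ := Led Lsl_dt (LP (LK LD1_c0 LD2_c19 LD3_c14))
theorem f450616 : Led Lsl_dt (LP (LK LD1_c0 LD2_c19 LD3_c14)) = v128 :=
  Lrfl
theorem f453652 : Led Lsl_gt v128 = v501 :=
  Lgr Lrot112 (Lpe (f450616 IH) (Lpr_et (K2.f23425 IH) (Lpe (K0.f23449 IH) (Lpr_ef (K5.f95753 IH) (Lpr_dt (K5.f82462 IH) (Lpr_gf (K5.f131375 IH) (Lpe (K5.f131371 IH) (Lpe (K7.f104669 IH) (Lpe (K7.f131428 IH) (Lpr_dt (f453649 IH) (Lpn v501)))))))))))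
def v962 : LQ := Led Lsl_dt v127
theorem f490748 : Led Lsl_dt v127 = v962 :=
  Lrfl
theorem f450618 : Led Lsl_df (LP (LK LD1_c0 LD2_c19 LD3_c14)) = v128 :=
  Lgr Lrot38 (Lpr_dt (f450616 IH) (Lpn v128))
theorem f490751 : Led Lsl_ef v128 = v962 :=
  Lgr Lrot73 (Lpe (f450618 IH) (Lpr_et (K2.f23425 IH) (Lpr_dt (K5.f23555 IH) (Lpr_et (f450612 IH) (Lpr_dt (f490748 IH) (Lpn v962))))))
theorem f490750 : Led Lsl_df v127 = v962 :=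
  Lgr Lrot38 (Lpr_dt (f490748 IH) (Lpn v962))
def v3592 : LQ := Led Lsl_dt v961
theorem f626371 : Led Lsl_dt v961 = v3592 :=
  Lrfl
theorem f626372 : Led Lsl_df v961 = v3592 :=
  Lgr Lrot38 (Lpr_dt (f626371 IH) (Lpn v3592))
theorem f682754 : Led Lsl_et v3592 = v10989 :=
  Lgr Lrot122 (Lpe (f626372 IH) (Lpe (f490747 IH) (Lpr_df (f490750 IH) (Lpe (f490751 IH) (Lpr_gt (f453652 IH) (Lpe (f453650 IH) (Lpr_gt (f450601 IH) (Lpr_df (f490725 IH) (Lpr_et (f626308 IH) (Lpr_gt (f682753 IH) (Lpn v10989)))))))))))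
def v11028 : LQ := Led Lsl_dt v3584
theorem f682880 : Led Lsl_dt v3584 = v11028 :=
  Lrfl
theorem f626360 : Led Lsl_df v960 = v3587 :=
  Lgr Lrot38 (Lpr_dt (f626359 IH) (Lpn v3587))
theorem f682881 : Led Lsl_af v3587 = v11028 :=
  Lgr Lrot117 (Lpe (f626360 IH) (Lpr_at (f626351 IH) (Lpr_dt (f682880 IH) (Lpn v11028))))
theorem f682883 : Led Lsl_ff v3592 = v11028 :=
  Lgr Lrot19 (Lpe (f626372 IH) (Lpr_ft (f626353 IH) (Lpr_dt (f682880 IH) (Lpn v11028))))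
theorem f682884 : Led Lsl_ft v3592 = v11028 :=
  Lgr Lrot48 (Lpr_ff (f682883 IH) (Lpn v11028))
theorem f682936 : Led Lsl_af v3592 = v11046 :=
  Lgr Lrot45 (Lpr_ft (f682884 IH) (Lpe (f682881 IH) (Lpr_ft (f682935 IH) (Lpn v11046))))
def v9743 : LQ := Led Lsl_et v3058
theorem f677469 : Led Lsl_et v3058 = v9743 :=
  Lrfl
theorem f677470 : Led Lsl_ef v3058 = v9743 :=
  Lgr Lrot88 (Lpr_et (f677469 IH) (Lpn v9743))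
theorem f131402 : Led Lsl_gf (LP (LK LD1_c0 LD2_c18 LD3_c56)) = (LP (LK LD1_c0 LD2_c30 LD3_c10)) :=
  Lgr Lrot47 (Lpr_gt (K5.f131400 IH) (Lpr_af (K5.f124817 IH) (Lpe (K5.f129047 IH) (Lpn (LP (LK LD1_c0 LD2_c30 LD3_c10))))))
def v3595 : LQ := Led Lsl_gf v962
theorem f626376 : Led Lsl_gf v962 = v3595 :=
  Lrfl
theorem f677471 : Led Lsl_df v3595 = v9743 :=
  Lgr Lrot170 (Lpe (f626376 IH) (Lpe (f490748 IH) (Lpe (f450614 IH) (Lpr_gt (K5.f59508 IH) (Lpe (K5.f128915 IH) (Lpe (f131402 IH) (Lpe (K5.f82516 IH) (Lpr_et (f453584 IH) (Lpr_gt (f622710 IH) (Lpr_ef (f677470 IH) (Lpn v9743)))))))))))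
theorem f677472 : Led Lsl_dt v3595 = v9743 :=
  Lgr Lrot42 (Lpr_df (f677471 IH) (Lpn v9743))
def v3594 : LQ := Led Lsl_gt v962
def v11067 : LQ := Led Lsl_ft v3594
theorem f682993 : Led Lsl_ft v3594 = v11067 :=
  Lrfl
def v11063 : LQ := Led Lsl_at v3594
theorem f682983 : Led Lsl_at v3594 = v11063 :=
  Lrfl
theorem f682984 : Led Lsl_af v3594 = v11063 :=
  Lgr Lrot0 (Lpr_at (f682983 IH) (Lpn v11063))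
theorem f626375 : Led Lsl_gt v962 = v3594 :=
  Lrfl
theorem f682985 : Led Lsl_ft v3595 = v11063 :=
  Lgr Lrot2 (Lpe (f626376 IH) (Lpr_gt (f626375 IH) (Lpr_af (f682984 IH) (Lpn v11063))))
theorem f682994 : Led Lsl_af v3595 = v11067 :=
  Lgr Lrot45 (Lpr_ft (f682985 IH) (Lpe (f682984 IH) (Lpr_ft (f682993 IH) (Lpn v11067))))
def v9777 : LQ := Led Lsl_et v3068
theorem f677569 : Led Lsl_et v3068 = v9777 :=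
  Lrfl
theorem f769088 : v9777 = v9743 :=
  Lefun (Lecon (f677569 IH) (f769084 IH)) (f677469 IH)
def v3072 : LQ := Led Lsl_et v490
theorem f622744 : Led Lsl_et v490 = v3072 :=
  Lrfl
theorem f622745 : Led Lsl_ef v490 = v3072 :=
  Lgr Lrot88 (Lpr_et (f622744 IH) (Lpn v3072))
theorem f677570 : Led Lsl_af v3072 = v9777 :=
  Lgr Lrot50 (Lpe (f622745 IH) (Lpr_at (f622734 IH) (Lpr_et (f677569 IH) (Lpn v9777))))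
def v9798 : LQ := Led Lsl_dt v3072
theorem f677634 : Led Lsl_dt v3072 = v9798 :=
  Lrfl
theorem f769089 : v11067 = v9798 :=
  (Llr Lrot117 (Lpe (f682994 IH) (Lpr_dt (f677472 IH) (Lpq (f769088 IH) (Lpe (f677570 IH) (Lpr_dt (f677634 IH) (Lpn v9798))))))).symm
theorem f682995 : Led Lsl_ff v3594 = v11067 :=
  Lgr Lrot3 (Lpr_ft (f682993 IH) (Lpn v11067))
theorem f490721 : Led Lsl_ef K34.v124 = v954 :=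
  Lgr Lrot88 (Lpr_et (f490719 IH) (Lpn v954))
theorem f677637 : Led Lsl_gf v3572 = v9798 :=
  Lgr Lrot145 (Lpe (f626303 IH) (Lpe (f490721 IH) (Lpe (K34.f450590 IH) (Lpr_dt (K5.f82419 IH) (Lpr_gt (K3.f21009 IH) (Lpe (K2.f61251 IH) (Lpr_et (f439658 IH) (Lpr_gt (f453600 IH) (Lpr_ef (f622745 IH) (Lpr_dt (f677634 IH) (Lpn v9798)))))))))))
theorem f769091 : v11063 = v10989 :=
  (Llr Lrot26 (Lpe (f682983 IH) (Lpr_ff (f682995 IH) (Lpqs (f769089 IH) (Lpe (f677637 IH) (Lpr_gt (f682753 IH) (Lpn v10989))))))).symm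
theorem f626305 : Led Lsl_df v954 = v3572 :=
  Lgr Lrot38 (Lpr_dt (f626303 IH) (Lpn v3572))
theorem f131385 : Led Lsl_et (LP (LK LD1_c0 LD2_c42 LD3_c34)) = (LP (LK LD1_c1 LD2_c6 LD3_c10)) :=
  Lgr Lrot123 (Lpe (f82478 IH) (Lpr_ef (K5.f131383 IH) (Lpe (K11.f104613 IH) (Lpn (LP (LK LD1_c1 LD2_c6 LD3_c10))))))
def v502 : LQ := Led Lsl_dt (LP (LK LD1_c0 LD2_c43 LD3_c9))
theorem f453653 : Led Lsl_dt (LP (LK LD1_c0 LD2_c43 LD3_c9)) = v502 :=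
  Lrfl
theorem f490728 : Led Lsl_gf v502 = v955 :=
  Lgr Lrot134 (Lpe (f453653 IH) (Lpr_et (K11.f434613 IH) (Lpr_gt (K46.f434621 IH) (Lpe (f131385 IH) (Lpr_dt (f82476 IH) (Lpr_gt (K50.f131412 IH) (Lpe (K5.f25791 IH) (Lpe (K7.f131424 IH) (Lpr_gt (f450601 IH) (Lpr_dt (f490723 IH) (Lpn v955)))))))))))
theorem f453655 : Led Lsl_df (LP (LK LD1_c0 LD2_c43 LD3_c9)) = v502 :=
  Lgr Lrot38 (Lpr_dt (f453653 IH) (Lpn v502))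
theorem f490753 : Led Lsl_et v128 = v962 :=
  Lgr Lrot87 (Lpr_ef (f490751 IH) (Lpn v962))
theorem f682749 : Led Lsl_ef v3594 = v10987 :=
  Lgr Lrot17 (Lpe (f626375 IH) (Lpe (f490753 IH) (Lpe (f450618 IH) (Lpe (K11.f23414 IH) (Lpr_df (f453655 IH) (Lpr_gf (f490728 IH) (Lpr_ef (f626306 IH) (Lpe (f626305 IH) (Lpr_gf (f626301 IH) (Lpr_df (f682748 IH) (Lpn v10987)))))))))))
theorem f682750 : Led Lsl_et v3594 = v10987 :=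
  Lgr Lrot87 (Lpr_ef (f682749 IH) (Lpn v10987))
theorem f769092 : v11046 = v10987 :=
  (Llr Lrot50 (Lpe (f682936 IH) (Lpr_et (f682754 IH) (Lpq (f769091 IH) (Lpe (f682984 IH) (Lpr_et (f682750 IH) (Lpn v10987))))))).symm
theorem f769094 : v3589 = v3571 :=
  Lefun (Lecon (Lfl_df (f682937 IH)) (f769092 IH)) (Lfl_df (f682748 IH))
theorem f769095 : v11025 = v954 :=
  Lefun (Lecon (f682869 IH) (f769094 IH)) (Lfl_gf (f626301 IH))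
theorem f769102 : v3584 = v3570 :=
  Lefun (Lecon (Lfl_gf (f682868 IH)) (f769095 IH)) (f626300 IH)
def v10980 : LQ := Led Lsl_at v3570
theorem f682727 : Led Lsl_at v3570 = v10980 :=
  Lrfl
theorem f682728 : Led Lsl_af v3570 = v10980 :=
  Lgr Lrot0 (Lpr_at (f682727 IH) (Lpn v10980))
theorem f682729 : Led Lsl_ft v3571 = v10980 :=
  Lgr Lrot2 (Lpe (f626301 IH) (Lpr_gt (f626300 IH) (Lpr_af (f682728 IH) (Lpn v10980))))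
theorem f769101 : v960 = v10980 :=
  Lefun (Lecon (Lfl_ff (f626365 IH)) (f769094 IH)) (f682729 IH)
def v3585 : LQ := Led Lsl_bt v960
theorem f626355 : Led Lsl_bt v960 = v3585 :=
  Lrfl
def v11032 : LQ := Led Lsl_at v3585
theorem f682892 : Led Lsl_at v3585 = v11032 :=
  Lrfl
theorem f769119 : v10653 = v11032 :=
  (Llr Lrot81 (Lpe (f681259 IH) (Lpr_at (f681254 IH) (Lpq (f768832 IH) (Lpe (f682871 IH) (Lpqs (f769102 IH) (Lpr_at (f682727 IH) (Lpq (f769101 IH) (Lpr_bt (f626355 IH) (Lpr_at (f682892 IH) (Lpn v11032))))))))))).symm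
theorem f682893 : Led Lsl_af v3585 = v11032 :=
  Lgr Lrot0 (Lpr_at (f682892 IH) (Lpn v11032))
def v2552 : LQ := Led Lsl_et (LP (LK LD1_c1 LD2_c48 LD3_c27))
def v9243 : LQ := Led Lsl_ft v2552
theorem f674863 : Led Lsl_ft v2552 = v9243 :=
  Lrfl
def v9241 : LQ := Led Lsl_gt v2552
theorem f674860 : Led Lsl_gt v2552 = v9241 :=
  Lrfl
theorem f527434 : Led Lsl_et (LP (LK LD1_c1 LD2_c48 LD3_c27)) = v2552 :=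
  Lrfl
theorem f527437 : Led Lsl_ef (LP (LK LD1_c1 LD2_c48 LD3_c27)) = v2552 :=
  Lgr Lrot88 (Lpr_et (f527434 IH) (Lpn v2552))
theorem f148416 : Led Lsl_at (LP (LK LD1_c1 LD2_c48 LD3_c27)) = (LP (LK LD1_c0 LD2_c51 LD3_c8)) :=
  Lre_a IH (LK LD1_c1 LD2_c48 LD3_c27) (LK LD1_c0 LD2_c51 LD3_c8) Lrfl Lrfl
theorem f148434 : Led Lsl_et (LP (LK LD1_c0 LD2_c51 LD3_c8)) = (LP (LK LD1_c1 LD2_c48 LD3_c48)) :=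
  Lre_e IH (LK LD1_c0 LD2_c51 LD3_c8) (LK LD1_c1 LD2_c48 LD3_c48) Lrfl Lrfl
theorem f527438 : Led Lsl_at (LP (LK LD1_c1 LD2_c48 LD3_c48)) = v2552 :=
  Lgr Lrot80 (Lpe (f148434 IH) (Lpe (f148416 IH) (Lpr_ef (f527437 IH) (Lpn v2552))))
def v2569 : LQ := Led Lsl_ft (LP (LK LD1_c1 LD2_c48 LD3_c48))
theorem f527528 : Led Lsl_ft (LP (LK LD1_c1 LD2_c48 LD3_c48)) = v2569 :=
  Lrfl
theorem f527531 : Led Lsl_ff (LP (LK LD1_c1 LD2_c48 LD3_c48)) = v2569 :=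
  Lgr Lrot3 (Lpr_ft (f527528 IH) (Lpn v2569))
theorem f674864 : Led Lsl_af v2569 = v9243 :=
  Lgr Lrot45 (Lpe (f527531 IH) (Lpr_at (f527438 IH) (Lpr_ft (f674863 IH) (Lpn v9243))))
theorem f674868 : Led Lsl_gt v9241 = v2569 :=
  Lgr Lrot46 (Lpe (f674860 IH) (Lpr_ft (f674863 IH) (Lpe (f674864 IH) (Lpn v2569))))
theorem f527532 : Led Lsl_ct K49.v801 = v2569 :=
  Lgr Lrot40 (Lpe (K49.f459457 IH) (Lpe (K24.f206512 IH) (Lpr_ff (f527531 IH) (Lpn v2569))))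
theorem f459458 : Led Lsl_bf (LP (LK LD1_c1 LD2_c7 LD3_c26)) = K49.v801 :=
  Lgr Lrot61 (Lpr_ft (K24.f206519 IH) (Lpe (f206552 IH) (Lpr_ft (K49.f459457 IH) (Lpn K49.v801))))
theorem f626356 : Led Lsl_bf v960 = v3585 :=
  Lgr Lrot24 (Lpr_bt (f626355 IH) (Lpn v3585))
theorem f674869 : Led Lsl_cf v9241 = v3585 :=
  Lgr Lrot160 (Lpr_gt (f674868 IH) (Lpe (f527532 IH) (Lpe (f459458 IH) (Lpe (K24.f206542 IH) (Lpr_ct (K35.f180307 IH) (Lpr_gt (K17.f166184 IH) (Lpr_cf (K49.f446809 IH) (Lpr_bt (f450615 IH) (Lpr_gt (f490746 IH) (Lpr_bf (f626356 IH) (Lpn v3585)))))))))))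
theorem f769122 : v9258 = v9241 :=
  (Llr Lrot68 (Lpe (f674932 IH) (Lpr_ct (f674937 IH) (Lpq (f769120 IH) (Lpqs (f769119 IH) (Lpe (f682893 IH) (Lpe (f674869 IH) (Lpn v9241)))))))).symm
def v2568 : LQ := Led Lsl_gf (LP (LK LD1_c1 LD2_c48 LD3_c48))
theorem f527527 : Led Lsl_gf (LP (LK LD1_c1 LD2_c48 LD3_c48)) = v2568 :=
  Lrfl
theorem f674933 : Led Lsl_ft v2568 = v9258 :=
  Lgr Lrot2 (Lpe (f527527 IH) (Lpr_gt (f527525 IH) (Lpr_af (f674932 IH) (Lpn v9258))))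
theorem f674934 : Led Lsl_ff v2568 = v9258 :=
  Lgr Lrot3 (Lpr_ft (f674933 IH) (Lpn v9258))
def v9263 : LQ := Led Lsl_ft v2567
theorem f674943 : Led Lsl_ft v2567 = v9263 :=
  Lrfl
theorem f674945 : Led Lsl_ff v2567 = v9263 :=
  Lgr Lrot3 (Lpr_ft (f674943 IH) (Lpn v9263))
theorem f674946 : Led Lsl_at v2568 = v9263 :=
  Lgr Lrot66 (Lpr_ff (f674934 IH) (Lpe (f674931 IH) (Lpr_ff (f674945 IH) (Lpn v9263))))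
def v9242 : LQ := Led Lsl_gf v2552
theorem f674861 : Led Lsl_gf v2552 = v9242 :=
  Lrfl
theorem f674862 : Led Lsl_gt v2569 = v9242 :=
  Lgr Lrot5 (Lpe (f527531 IH) (Lpr_at (f527438 IH) (Lpr_gf (f674861 IH) (Lpn v9242))))
theorem f769123 : v9263 = v9242 :=
  (Llr Lrot26 (Lpe (f674946 IH) (Lpr_ff (f674934 IH) (Lpqs (f769122 IH) (Lpr_gt (f674868 IH) (Lpr_gt (f674862 IH) (Lpn v9242))))))).symm
def v5930 : LQ := Led Lsl_gf (LP (LK LD1_c3 LD2_c15 LD3_c5))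
theorem f650099 : Led Lsl_gf (LP (LK LD1_c3 LD2_c15 LD3_c5)) = v5930 :=
  Lrfl
theorem f206537 : Led Lsl_ct (LP (LK LD1_c3 LD2_c15 LD3_c5)) = (LP (LK LD1_c1 LD2_c34 LD3_c10)) :=
  Lre_c IH (LK LD1_c3 LD2_c15 LD3_c5) (LK LD1_c1 LD2_c34 LD3_c10) Lrfl Lrfl
theorem f435596 : Led Lsl_bt (LP (LK LD1_c1 LD2_c22 LD3_c58)) = (LP (LK LD1_c2 LD2_c53 LD3_c56)) :=
  Lre_b IH (LK LD1_c1 LD2_c22 LD3_c58) (LK LD1_c2 LD2_c53 LD3_c56) Lrfl Lrfl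
theorem f435598 : Led Lsl_bf (LP (LK LD1_c3 LD2_c15 LD3_c5)) = (LP (LK LD1_c5 LD2_c55 LD3_c11)) :=
  Lgr Lrot90 (Lpr_ct (f206537 IH) (Lpr_bt (f206536 IH) (Lpr_ct (K35.f435590 IH) (Lpr_bt (f435596 IH) (Lpr_ct (K42.f435597 IH) (Lpn (LP (LK LD1_c5 LD2_c55 LD3_c11))))))))
theorem f445861 : Led Lsl_bt (LP (LK LD1_c4 LD2_c35 LD3_c42)) = (LP (LK LD1_c2 LD2_c15 LD3_c0)) :=
  Lre_b IH (LK LD1_c4 LD2_c35 LD3_c42) (LK LD1_c2 LD2_c15 LD3_c0) Lrfl Lrfl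
theorem f446198 : Led Lsl_ct (LP (LK LD1_c9 LD2_c7 LD3_c53)) = (LP (LK LD1_c4 LD2_c35 LD3_c42)) :=
  Lre_c IH (LK LD1_c9 LD2_c7 LD3_c53) (LK LD1_c4 LD2_c35 LD3_c42) Lrfl Lrfl
theorem f446199 : Led Lsl_bt (LP (LK LD1_c4 LD2_c44 LD3_c26)) = (LP (LK LD1_c9 LD2_c7 LD3_c53)) :=
  Lgr Lrot128 (Lpe (f206525 IH) (Lpe (f446197 IH) (Lpr_cf (K35.f446191 IH) (Lpe (f445861 IH) (Lpe (f446198 IH) (Lpn (LP (LK LD1_c9 LD2_c7 LD3_c53))))))))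
theorem f508543 : Led Lsl_ft (LP (LK LD1_c3 LD2_c15 LD3_c5)) = (LP (LK LD1_c4 LD2_c44 LD3_c26)) :=
  Lgr Lrot75 (Lpr_bf (f435598 IH) (Lpr_ff (f508539 IH) (Lpe (f446199 IH) (Lpn (LP (LK LD1_c4 LD2_c44 LD3_c26))))))
theorem f650101 : Led Lsl_af (LP (LK LD1_c3 LD2_c15 LD3_c5)) = v5931 :=
  Lgr Lrot0 (Lpr_at (f650100 IH) (Lpn v5931))
theorem f703278 : Led Lsl_ff v5931 = v13491 :=
  Lgr Lrot30 (Lpe (f650101 IH) (Lpr_ft (f508543 IH) (Lpr_at (f703275 IH) (Lpn v13491))))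
theorem f703282 : Led Lsl_gf v5930 = v13491 :=
  Lgr Lrot47 (Lpe (f650099 IH) (Lpr_af (f650101 IH) (Lpr_ff (f703278 IH) (Lpn v13491))))
theorem f768788 : v5930 = (LP (LK LD1_c1 LD2_c50 LD3_c22)) :=
  Lefun (Lecon (Lfl_gf (f703282 IH)) (f768783 IH).symm) (Lfl_gf (K56.f529945 IH))
theorem f105265 : Led Lsl_ct (LP (LK LD1_c0 LD2_c52 LD3_c3)) = (LP (LK LD1_c1 LD2_c50 LD3_c22)) :=
  Lre_c IH (LK LD1_c0 LD2_c52 LD3_c3) (LK LD1_c1 LD2_c50 LD3_c22) Lrfl Lrfl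
def v3442 : LQ := Led Lsl_bt K56.v831
theorem f625668 : Led Lsl_bt K56.v831 = v3442 :=
  Lrfl
theorem f625669 : Led Lsl_bf K56.v831 = v3442 :=
  Lgr Lrot24 (Lpr_bt (f625668 IH) (Lpn v3442))
def v10720 : LQ := Led Lsl_ct v3442
theorem f681499 : Led Lsl_ct v3442 = v10720 :=
  Lrfl
theorem f769124 : v10720 = v9242 :=
  (Llr Lrot10 (Lpe (f681499 IH) (Lpe (f625669 IH) (Lpe (K56.f459619 IH) (Lpr_ct (f105265 IH) (Lpq (f768788 IH) (Lpe (f650099 IH) (Lpe (f206539 IH) (Lpr_bt (f206536 IH) (Lpr_gt (K35.f206534 IH) (Lpr_bf (f459458 IH) (Lpr_ct (f527532 IH) (Lpr_gt (f674862 IH) (Lpn v9242)))))))))))))).symm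
theorem f681500 : Led Lsl_cf v3442 = v10720 :=
  Lgr Lrot11 (Lpr_ct (f681499 IH) (Lpn v10720))
theorem f681416 : Led Lsl_ff v3442 = v10691 :=
  Lgr Lrot25 (Lpe (f625669 IH) (Lpr_ft (f625654 IH) (Lpr_bt (f681414 IH) (Lpn v10691))))
theorem f681417 : Led Lsl_ft v3442 = v10691 :=
  Lgr Lrot48 (Lpr_ff (f681416 IH) (Lpn v10691))
theorem f769125 : v9260 = v10691 :=
  (Llr Lrot108 (Lpe (f674938 IH) (Lpr_ft (f674943 IH) (Lpqs (f769123 IH) (Lpq (f769124 IH) (Lpe (f681500 IH) (Lpr_ft (f681417 IH) (Lpn v10691)))))))).symm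
theorem f769126 : v3436 = v3422 :=
  Lefun (Lecon (Lfl_bf (f681415 IH)) ((f769125 IH).symm.trans (f769120 IH).symm)) (Lfl_bf (f681259 IH))
theorem f769127 : v10689 = v833 :=
  Lefun (Lecon (f681410 IH) (f769126 IH)) (Lfl_gf (f625585 IH))
theorem f769134 : v3441 = v3423 :=
  Lefun (Lecon (Lfl_gf (f681411 IH)) (f769127 IH)) (f625587 IH)
theorem f769140 : v10712 = v10660 :=
  Lefun (Lecon (f681486 IH) (f769134 IH)) (f681274 IH)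
def v10693 : LQ := Led Lsl_dt v3436
theorem f681424 : Led Lsl_dt v3436 = v10693 :=
  Lrfl
theorem f681425 : Led Lsl_af v3439 = v10693 :=
  Lgr Lrot117 (Lpe (f625661 IH) (Lpr_at (f625652 IH) (Lpr_dt (f681424 IH) (Lpn v10693))))
def v3444 : LQ := Led Lsl_dt K56.v831
theorem f625672 : Led Lsl_dt K56.v831 = v3444 :=
  Lrfl
theorem f625673 : Led Lsl_df K56.v831 = v3444 :=
  Lgr Lrot38 (Lpr_dt (f625672 IH) (Lpn v3444))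
theorem f681427 : Led Lsl_ff v3444 = v10693 :=
  Lgr Lrot19 (Lpe (f625673 IH) (Lpr_ft (f625654 IH) (Lpr_dt (f681424 IH) (Lpn v10693))))
theorem f681428 : Led Lsl_ft v3444 = v10693 :=
  Lgr Lrot48 (Lpr_ff (f681427 IH) (Lpn v10693))
theorem f681480 : Led Lsl_af v3444 = v10712 :=
  Lgr Lrot45 (Lpr_ft (f681428 IH) (Lpe (f681425 IH) (Lpr_ft (f681479 IH) (Lpn v10712))))
def v10662 : LQ := Led Lsl_gt v3424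
theorem f681280 : Led Lsl_gt v3424 = v10662 :=
  Lrfl
theorem f625593 : Led Lsl_et K34.v821 = v3424 :=
  Lgr Lrot87 (Lpr_ef (f625591 IH) (Lpn v3424))
def v834 : LQ := Led Lsl_dt (LP (LK LD1_c0 LD2_c52 LD3_c4))
theorem f459626 : Led Lsl_dt (LP (LK LD1_c0 LD2_c52 LD3_c4)) = v834 :=
  Lrfl
theorem f459628 : Led Lsl_df (LP (LK LD1_c0 LD2_c52 LD3_c4)) = v834 :=
  Lgr Lrot38 (Lpr_dt (f459626 IH) (Lpn v834))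
theorem f62664 : Led Lsl_dt (LP (LK LD1_c0 LD2_c23 LD3_c35)) = (LP (LK LD1_c0 LD2_c52 LD3_c6)) :=
  Lre_d IH (LK LD1_c0 LD2_c23 LD3_c35) (LK LD1_c0 LD2_c52 LD3_c6) Lrfl Lrfl
theorem f459631 : Led Lsl_gt (LP (LK LD1_c0 LD2_c52 LD3_c6)) = v834 :=
  Lgr Lrot112 (Lpe (f62664 IH) (Lpr_et (f62663 IH) (Lpe (K1.f5250 IH) (Lpe (K3.f12558 IH) (Lpr_dt (K3.f12551 IH) (Lpe (K3.f105648 IH) (Lpe (K3.f88838 IH) (Lpe (K11.f447733 IH) (Lpe (K11.f447718 IH) (Lpr_dt (f459626 IH) (Lpn v834)))))))))))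
theorem f459621 : Led Lsl_df (LP (LK LD1_c0 LD2_c52 LD3_c3)) = v832 :=
  Lgr Lrot38 (Lpr_dt (f459620 IH) (Lpn v832))
theorem f681282 : Led Lsl_et v3444 = v10662 :=
  Lgr Lrot122 (Lpe (f625673 IH) (Lpe (K56.f459619 IH) (Lpr_df (f459621 IH) (Lpe (f459622 IH) (Lpr_gt (f459631 IH) (Lpe (f459628 IH) (Lpr_gt (K34.f85175 IH) (Lpr_df (f459563 IH) (Lpr_et (f625593 IH) (Lpr_gt (f681280 IH) (Lpn v10662)))))))))))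
theorem f769169 : v10730 = v10662 :=
  (Llr Lrot50 (Lpe (f681531 IH) (Lpr_et (f681277 IH) (Lpq (f769140 IH) (Lpe (f681480 IH) (Lpr_et (f681282 IH) (Lpn v10662))))))).symm
def v3447 : LQ := Led Lsl_gf v832
theorem f625677 : Led Lsl_gf v832 = v3447 :=
  Lrfl
theorem f681532 : Led Lsl_ft v3447 = v10730 :=
  Lgr Lrot2 (Lpe (f625677 IH) (Lpr_gt (f625676 IH) (Lpr_af (f681531 IH) (Lpn v10730))))
theorem f681533 : Led Lsl_ff v3447 = v10730 :=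
  Lgr Lrot3 (Lpr_ft (f681532 IH) (Lpn v10730))
def v10734 : LQ := Led Lsl_ft v3446
theorem f681540 : Led Lsl_ft v3446 = v10734 :=
  Lrfl
theorem f681542 : Led Lsl_ff v3446 = v10734 :=
  Lgr Lrot3 (Lpr_ft (f681540 IH) (Lpn v10734))
theorem f681543 : Led Lsl_at v3447 = v10734 :=
  Lgr Lrot66 (Lpr_ff (f681533 IH) (Lpe (f681530 IH) (Lpr_ff (f681542 IH) (Lpn v10734))))
def v9368 : LQ := Led Lsl_dt K56.v2624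
theorem f675528 : Led Lsl_dt K56.v2624 = v9368 :=
  Lrfl
theorem f675532 : Led Lsl_ff v3424 = v9368 :=
  Lgr Lrot19 (Lpe (f625590 IH) (Lpr_ft (f527925 IH) (Lpr_dt (f675528 IH) (Lpn v9368))))
theorem f459564 : Led Lsl_ff K34.v821 = K34.v821 :=
  Lgr Lrot19 (Lpe (f459563 IH) (Lpe (K2.f85039 IH) (Lpr_dt (K34.f459561 IH) (Lpn K34.v821))))
theorem f527922 : Led Lsl_ef (LP (LK LD1_c1 LD2_c49 LD3_c56)) = K56.v2624 :=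
  Lgr Lrot88 (Lpr_et (K56.f527920 IH) (Lpn K56.v2624))
theorem f675530 : Led Lsl_df K56.v2624 = v9368 :=
  Lgr Lrot38 (Lpr_dt (f675528 IH) (Lpn v9368))
theorem f675531 : Led Lsl_ef v9368 = v9368 :=
  Lgr Lrot73 (Lpe (f675530 IH) (Lpe (f527922 IH) (Lpr_dt (K56.f85099 IH) (Lpr_et (K56.f527920 IH) (Lpr_dt (f675528 IH) (Lpn v9368))))))
theorem f675534 : Led Lsl_ft v3424 = v9368 :=
  Lgr Lrot86 (Lpe (f625593 IH) (Lpr_ff (f459564 IH) (Lpr_ef (f625591 IH) (Lpr_ff (f675532 IH) (Lpr_ef (f675531 IH) (Lpn v9368))))))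
theorem f527924 : Led Lsl_at v833 = K56.v2624 :=
  Lgr Lrot66 (Lpe (f459624 IH) (Lpr_af (K56.f459556 IH) (Lpr_ff (K56.f527923 IH) (Lpn K56.v2624))))
def v3449 : LQ := Led Lsl_ft v832
theorem f625682 : Led Lsl_ft v832 = v3449 :=
  Lrfl
theorem f625683 : Led Lsl_df v833 = v3449 :=
  Lgr Lrot78 (Lpe (f459625 IH) (Lpr_dt (f459620 IH) (Lpr_ft (f625682 IH) (Lpn v3449))))
theorem f675529 : Led Lsl_af v3449 = v9368 :=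
  Lgr Lrot117 (Lpe (f625683 IH) (Lpr_at (f527924 IH) (Lpr_dt (f675528 IH) (Lpn v9368))))
theorem f681281 : Led Lsl_gf v3449 = v10662 :=
  Lgr Lrot76 (Lpr_af (f675529 IH) (Lpe (f675534 IH) (Lpr_gt (f681280 IH) (Lpn v10662))))
theorem f459562 : Led Lsl_af (LP (LK LD1_c0 LD2_c52 LD3_c6)) = K34.v821 :=
  Lgr Lrot117 (Lpr_dt (f85044 IH) (Lpr_at (K2.f85047 IH) (Lpr_dt (K34.f459561 IH) (Lpn K34.v821))))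
theorem f625592 : Led Lsl_at v832 = v3424 :=
  Lgr Lrot80 (Lpe (f459623 IH) (Lpr_af (f459562 IH) (Lpr_ef (f625591 IH) (Lpn v3424))))
theorem f625684 : Led Lsl_ff v832 = v3449 :=
  Lgr Lrot3 (Lpr_ft (f625682 IH) (Lpn v3449))
theorem f681285 : Led Lsl_gt v3449 = v10663 :=
  Lgr Lrot5 (Lpe (f625684 IH) (Lpr_at (f625592 IH) (Lpr_gf (f681284 IH) (Lpn v10663))))
theorem f769170 : v10734 = v10663 :=
  (Llr Lrot26 (Lpe (f681543 IH) (Lpr_ff (f681533 IH) (Lpqs (f769169 IH) (Lpe (f681281 IH) (Lpr_gt (f681285 IH) (Lpn v10663))))))).symm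
def v10731 : LQ := Led Lsl_bt v3446
theorem f681534 : Led Lsl_bt v3446 = v10731 :=
  Lrfl
theorem f681535 : Led Lsl_bf v3446 = v10731 :=
  Lgr Lrot24 (Lpr_bt (f681534 IH) (Lpn v10731))
def v11056 : LQ := Led Lsl_dt v3590
theorem f682963 : Led Lsl_dt v3590 = v11056 :=
  Lrfl
theorem f682964 : Led Lsl_bf v3592 = v11056 :=
  Lgr Lrot93 (Lpe (f626372 IH) (Lpr_bt (f626367 IH) (Lpr_dt (f682963 IH) (Lpn v11056))))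
theorem f768830 : v11056 = v10660 :=
  Lefun (Lecon (f682963 IH) (f768806 IH)) (f681274 IH)
theorem f769093 : v10731 = v10989 :=
  (Llr Lrot96 (Lpe (f681535 IH) (Lpr_et (f681277 IH) (Lpq (f768830 IH) (Lpe (f682964 IH) (Lpr_et (f682754 IH) (Lpn v10989))))))).symm
def v11068 : LQ := Led Lsl_bt v3595
theorem f682997 : Led Lsl_bt v3595 = v11068 :=
  Lrfl
theorem f682998 : Led Lsl_bf v3595 = v11068 :=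
  Lgr Lrot24 (Lpr_bt (f682997 IH) (Lpn v11068))
theorem f769172 : v11068 = v10663 :=
  (Llr Lrot61 (Lpe (f682998 IH) (Lpr_ft (f682985 IH) (Lpqs (f769091 IH) (Lpq (f769093 IH) (Lpe (f681535 IH) (Lpr_ft (f681540 IH) (Lpqs (f769170 IH) (Lpn v10663))))))))).symm
theorem f769175 : Led Lsl_bf v8929 = v9743 :=
  Lgr Lrot93 (Lpr_dt (f681286 IH) (Lpq (f769172 IH) (Lpe (f682998 IH) (Lpr_dt (f677472 IH) (Lpn v9743)))))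
theorem f769177 : v8926 = v3058 :=
  (Llr Lrot119 (Lpe (f672785 IH) (Lpr_ef (f672792 IH) (Lpr_bf (f769175 IH) (Lpe (f677469 IH) (Lpn v3058)))))).symm
theorem f769178 : v2291 = v9740 :=
  Lefun (Lecon (Lfl_bf (f672786 IH)) (f769177 IH)) (f677463 IH)
theorem f769179 : v6074 = v6769 :=
  Lefun (Lecon (f769021 IH) ((f769085 IH).trans (f769178 IH).symm)) (f658309 IH)
def v6766 : LQ := Led Lsl_bt (LP (LK LD1_c3 LD2_c28 LD3_c55))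
theorem f658300 : Led Lsl_bt (LP (LK LD1_c3 LD2_c28 LD3_c55)) = v6766 :=
  Lrfl
theorem f769184 : Led Lsl_ff v9780 = v6766 :=
  Lgr Lrot25 (Lpr_bt (f769024 IH) (Lpqs (f769179 IH) (Lpe (f658308 IH) (Lpr_bt (f658300 IH) (Lpn v6766)))))
theorem f769187 : Led Lsl_ft v9780 = v6766 :=
  Lgr Lrot48 (Lpr_ff (f769184 IH) (Lpn v6766))
def v13805 : LQ := Led Lsl_ft (LP (LK LD1_c4 LD2_c48 LD3_c17))
theorem f704999 : Led Lsl_ft (LP (LK LD1_c4 LD2_c48 LD3_c17)) = v13805 :=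
  Lrfl
theorem f705001 : Led Lsl_ff (LP (LK LD1_c4 LD2_c48 LD3_c17)) = v13805 :=
  Lgr Lrot3 (Lpr_ft (f704999 IH) (Lpn v13805))
theorem f769190 : Led Lsl_cf v13805 = v6766 :=
  Lgr Lrot108 (Lpe (f705001 IH) (Lpr_ct (f704990 IH) (Lpq (f769073 IH) (Lpr_ft (f769187 IH) (Lpn v6766)))))
theorem f658301 : Led Lsl_bf (LP (LK LD1_c3 LD2_c28 LD3_c55)) = v6766 :=
  Lgr Lrot24 (Lpr_bt (f658300 IH) (Lpn v6766))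
def v2085 : LQ := Led Lsl_bt (LP (LK LD1_c1 LD2_c35 LD3_c14))
theorem f508749 : Led Lsl_bt (LP (LK LD1_c1 LD2_c35 LD3_c14)) = v2085 :=
  Lrfl
def v8547 : LQ := Led Lsl_et v2085
theorem f671567 : Led Lsl_et v2085 = v8547 :=
  Lrfl
theorem f671569 : Led Lsl_ef v2085 = v8547 :=
  Lgr Lrot88 (Lpr_et (f671567 IH) (Lpn v8547))
def v3193 : LQ := Led Lsl_et v554
theorem f624578 : Led Lsl_et v554 = v3193 :=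
  Lrfl
theorem f624579 : Led Lsl_bf K35.v555 = v3193 :=
  Lgr Lrot96 (Lpe (K53.f453967 IH) (Lpr_bt (f453964 IH) (Lpr_et (f624578 IH) (Lpn v3193))))
theorem f508750 : Led Lsl_bf (LP (LK LD1_c1 LD2_c35 LD3_c14)) = v2085 :=
  Lgr Lrot24 (Lpr_bt (f508749 IH) (Lpn v2085))
theorem f671570 : Led Lsl_bt K49.v2086 = v8547 :=
  Lgr Lrot119 (Lpe (K49.f508752 IH) (Lpr_bf (f508750 IH) (Lpr_ef (f671569 IH) (Lpn v8547))))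
def v8747 : LQ := Led Lsl_et v2188
theorem f672182 : Led Lsl_et v2188 = v8747 :=
  Lrfl
theorem f624580 : Led Lsl_ef v554 = v3193 :=
  Lgr Lrot88 (Lpr_et (f624578 IH) (Lpn v3193))
theorem f672186 : Led Lsl_ff v3193 = v8747 :=
  Lgr Lrot72 (Lpe (f624580 IH) (Lpe (f508521 IH) (Lpr_et (f509523 IH) (Lpr_ft (f509530 IH) (Lpr_et (f672182 IH) (Lpn v8747))))))
theorem f671584 : Led Lsl_ff K49.v2086 = K49.v8552 :=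
  Lgr Lrot3 (Lpr_ft (K49.f671583 IH) (Lpn K49.v8552))
theorem f672185 : Led Lsl_ef v2188 = v8747 :=
  Lgr Lrot88 (Lpr_et (f672182 IH) (Lpn v8747))
theorem f507947 : Led Lsl_et (LP (LK LD1_c4 LD2_c44 LD3_c27)) = (LP (LK LD1_c2 LD2_c20 LD3_c15)) :=
  Lre_e IH (LK LD1_c4 LD2_c44 LD3_c27) (LK LD1_c2 LD2_c20 LD3_c15) Lrfl Lrfl
def v4383 : LQ := Led Lsl_dt (LP (LK LD1_c2 LD2_c20 LD3_c15))
theorem f633038 : Led Lsl_dt (LP (LK LD1_c2 LD2_c20 LD3_c15)) = v4383 :=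
  Lrfl
def v2046 : LQ := Led Lsl_dt (LP (LK LD1_c1 LD2_c34 LD3_c10))
theorem f507906 : Led Lsl_dt (LP (LK LD1_c1 LD2_c34 LD3_c10)) = v2046 :=
  Lrfl
theorem f507908 : Led Lsl_df (LP (LK LD1_c1 LD2_c34 LD3_c10)) = v2046 :=
  Lgr Lrot38 (Lpr_dt (f507906 IH) (Lpn v2046))
theorem f633041 : Led Lsl_ff v2046 = v4383 :=
  Lgr Lrot19 (Lpe (f507908 IH) (Lpr_ft (f507910 IH) (Lpqs (f507943 IH) (Lpr_dt (f633038 IH) (Lpn v4383)))))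
theorem f453759 : Led Lsl_df (LP (LK LD1_c0 LD2_c43 LD3_c41)) = K35.v520 :=
  Lgr Lrot38 (Lpr_dt (K35.f453758 IH) (Lpn K35.v520))
theorem f507907 : Led Lsl_bf K35.v520 = v2046 :=
  Lgr Lrot93 (Lpe (f453759 IH) (Lpr_bt (f435603 IH) (Lpr_dt (f507906 IH) (Lpn v2046))))
theorem f508526 : Led Lsl_ff K55.v1337 = K35.v520 :=
  Lgr Lrot19 (Lpe (K55.f494912 IH) (Lpqs (K35.f507937 IH) (Lpe (K35.f453762 IH) (Lpr_dt (K35.f453758 IH) (Lpn K35.v520)))))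
theorem f633042 : Led Lsl_bt K55.v1337 = v4383 :=
  Lgr Lrot35 (Lpr_ff (f508526 IH) (Lpr_bf (f507907 IH) (Lpr_ff (f633041 IH) (Lpn v4383))))
theorem f494914 : Led Lsl_et K55.v971 = K55.v1337 :=
  Lgr Lrot87 (Lpr_ef (K55.f494913 IH) (Lpn K55.v1337))
def v3624 : LQ := Led Lsl_bt K55.v971
theorem f626469 : Led Lsl_bt K55.v971 = v3624 :=
  Lrfl
theorem f626470 : Led Lsl_bf K55.v971 = v3624 :=
  Lgr Lrot24 (Lpr_bt (f626469 IH) (Lpn v3624))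
theorem f633044 : Led Lsl_ef v3624 = v4383 :=
  Lgr Lrot29 (Lpe (f626470 IH) (Lpr_et (f494914 IH) (Lpr_bt (f633042 IH) (Lpn v4383))))
theorem f672189 : Led Lsl_dt v3624 = v8747 :=
  Lgr Lrot77 (Lpr_ef (f633044 IH) (Lpe (f633038 IH) (Lpe (f507947 IH) (Lpr_df (f509528 IH) (Lpr_ef (f672185 IH) (Lpn v8747))))))
theorem f768795 : K49.v9705 = v4383 :=
  Lefun (Lecon (K49.f677241 IH) ((f678571 IH).trans (f768784 IH))) (f633038 IH)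
theorem f768813 : K49.v3169 = v3624 :=
  Lefun (Lecon (Lfl_ef (K49.f677243 IH)) (f768795 IH)) (Lfl_ef (f633044 IH))
theorem f768861 : v8747 = K49.v8603 :=
  Lefun (Lecon (f672189 IH) (f768813 IH).symm) (K49.f671737 IH)
theorem f768896 : v3193 = K49.v2086 :=
  Lefun (Lecon (Lfl_ff (f672186 IH)) ((f768861 IH).trans (K49.f678509 IH).symm)) (Lfl_ff (f671584 IH))
theorem f768931 : K35.v555 = v8547 :=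
  Lefun (Lecon (Lfl_bf (f624579 IH)) (f768896 IH)) (f671570 IH)
theorem f768959 : v2085 = (LP (LK LD1_c0 LD2_c44 LD3_c40)) :=
  Lefun (Lecon (Lfl_ef (f671569 IH)) (f768931 IH).symm) (Lfl_ef (K53.f453967 IH))
theorem f146069 : Led Lsl_bt (LP (LK LD1_c2 LD2_c22 LD3_c7)) = (LP (LK LD1_c1 LD2_c8 LD3_c16)) :=
  Lre_b IH (LK LD1_c2 LD2_c22 LD3_c7) (LK LD1_c1 LD2_c8 LD3_c16) Lrfl Lrfl
theorem f416818 : Led Lsl_ct (LP (LK LD1_c2 LD2_c22 LD3_c7)) = (LP (LK LD1_c4 LD2_c48 LD3_c20)) :=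
  Lre_c IH (LK LD1_c2 LD2_c22 LD3_c7) (LK LD1_c4 LD2_c48 LD3_c20) Lrfl Lrfl
theorem f432229 : Led Lsl_gt (LP (LK LD1_c4 LD2_c48 LD3_c20)) = (LP (LK LD1_c9 LD2_c29 LD3_c11)) :=
  Lre_g IH (LK LD1_c4 LD2_c48 LD3_c20) (LK LD1_c9 LD2_c29 LD3_c11) Lrfl Lrfl
theorem f769191 : v13805 = (LP (LK LD1_c9 LD2_c29 LD3_c11)) :=
  (Llr Lrot10 (Lpr_cf (f769190 IH) (Lpe (f658301 IH) (Lpr_gt (f66632 IH) (Lpr_ct (K4.f64601 IH) (Lpr_gt (K46.f508778 IH) (Lpqs (K46.f650870 IH) (Lpe (K46.f118263 IH) (Lpr_bt (f508749 IH) (Lpqs (f768959 IH) (Lpr_gt (K24.f437546 IH) (Lpe (f146069 IH) (Lpr_ct (f416818 IH) (Lpr_gt (f432229 IH) (Lpn (LP (LK LD1_c9 LD2_c29 LD3_c11))))))))))))))))).symm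
theorem f705000 : Led Lsl_af (LP (LK LD1_c4 LD2_c48 LD3_c18)) = v13805 :=
  Lgr Lrot45 (Lpr_ft (f704988 IH) (Lpe (f704986 IH) (Lpr_ft (f704999 IH) (Lpn v13805))))
theorem f769192 : Led Lsl_at (LP (LK LD1_c9 LD2_c29 LD3_c11)) = (LP (LK LD1_c4 LD2_c48 LD3_c18)) :=
  Leop (Lpr_af (f705000 IH) (Lpqs (f769191 IH) (Lpn (LP (LK LD1_c9 LD2_c29 LD3_c11)))))
theorem seed_1241 : LEOK LG_a (LK LD1_c9 LD2_c29 LD3_c11) :=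
  Leoe_a (LK LD1_c9 LD2_c29 LD3_c11) (f769192 IH)
theorem f769194 : Led Lsl_ft (LP (LK LD1_c9 LD2_c29 LD3_c11)) = (LP (LK LD1_c4 LD2_c48 LD3_c17)) :=
  Leop (Lpr_ff (f705001 IH) (Lpqs (f769191 IH) (Lpn (LP (LK LD1_c9 LD2_c29 LD3_c11)))))
theorem seed_1242 : LEOK LG_f (LK LD1_c9 LD2_c29 LD3_c11) :=
  Leoe_f (LK LD1_c9 LD2_c29 LD3_c11) (f769194 IH)
theorem f677649 : Led Lsl_cf v3074 = v9804 :=
  Lgr Lrot11 (Lpr_ct (f677648 IH) (Lpn v9804))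
theorem f118004 : Led Lsl_at (LP (LK LD1_c6 LD2_c35 LD3_c30)) = (LP (LK LD1_c3 LD2_c17 LD3_c16)) :=
  Lgr Lrot100 (Lpr_af (K4.f117979 IH) (Lpn (LP (LK LD1_c3 LD2_c17 LD3_c16))))
theorem f118283 : Led Lsl_ft (LP (LK LD1_c12 LD2_c37 LD3_c3)) = (LP (LK LD1_c6 LD2_c35 LD3_c30)) :=
  Lre_f IH (LK LD1_c12 LD2_c37 LD3_c3) (LK LD1_c6 LD2_c35 LD3_c30) Lrfl Lrfl
theorem f66016 : Led Lsl_gt (LP (LK LD1_c6 LD2_c37 LD3_c56)) = (LP (LK LD1_c3 LD2_c17 LD3_c16)) :=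
  Lre_g IH (LK LD1_c6 LD2_c37 LD3_c56) (LK LD1_c3 LD2_c17 LD3_c16) Lrfl Lrfl
theorem f119547 : Led Lsl_gt (LP (LK LD1_c12 LD2_c37 LD3_c3)) = (LP (LK LD1_c6 LD2_c37 LD3_c56)) :=
  Lgr Lrot5 (Lpr_ft (f118283 IH) (Lpr_at (f118004 IH) (Lpe (f66016 IH) (Lpn (LP (LK LD1_c6 LD2_c37 LD3_c56))))))
theorem f66050 : Led Lsl_ct (LP (LK LD1_c6 LD2_c37 LD3_c56)) = (LP (LK LD1_c12 LD2_c41 LD3_c39)) :=
  Lre_c IH (LK LD1_c6 LD2_c37 LD3_c56) (LK LD1_c12 LD2_c41 LD3_c39) Lrfl Lrfl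
theorem f769229 : Led Lsl_gt (LP (LK LD1_c12 LD2_c41 LD3_c39)) = (LP (LK LD1_c12 LD2_c37 LD3_c26)) :=
  Lgr Lrot150 (Lpe (f66050 IH) (Lpe (f119547 IH) (Lpe (K4.f118113 IH) (Lpr_gt (K49.f119529 IH) (Lpq (f769018 IH) (Lpe (f677649 IH) (Lpr_gt (f677644 IH) (Lpqs (f768753 IH) (Lpr_ct (K4.f93670 IH) (Lpe (f93672 IH) (Lpe (f93673 IH) (Lpn (LP (LK LD1_c12 LD2_c37 LD3_c26))))))))))))))
theorem f769230 : Led Lsl_gt (LP (LK LD1_c12 LD2_c41 LD3_c39)) = (LP (LK LD1_c12 LD2_c37 LD3_c26)) :=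
  Leop (Lpe (f769229 IH) (Lpn (LP (LK LD1_c12 LD2_c41 LD3_c39))))
theorem seed_1243 : LEOK LG_g (LK LD1_c12 LD2_c41 LD3_c39) :=
  Leoe_g (LK LD1_c12 LD2_c41 LD3_c39) (f769230 IH)
theorem f702397 : Led Lsl_bt (LP (LK LD1_c4 LD2_c48 LD3_c14)) = K50.v13334 :=
  Lgr Lrot127 (Lpr_bf (K50.f702396 IH) (Lpn K50.v13334))
def v13308 : LQ := Led Lsl_ft (LP (LK LD1_c4 LD2_c43 LD3_c3))
theorem f702266 : Led Lsl_ft (LP (LK LD1_c4 LD2_c43 LD3_c3)) = v13308 :=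
  Lrfl
theorem f702270 : Led Lsl_ff (LP (LK LD1_c4 LD2_c43 LD3_c3)) = v13308 :=
  Lgr Lrot3 (Lpr_ft (f702266 IH) (Lpn v13308))
theorem f150460 : Led Lsl_at (LP (LK LD1_c4 LD2_c43 LD3_c3)) = (LP (LK LD1_c2 LD2_c19 LD3_c19)) :=
  Lre_a IH (LK LD1_c4 LD2_c43 LD3_c3) (LK LD1_c2 LD2_c19 LD3_c19) Lrfl Lrfl
theorem f702274 : Led Lsl_gf (LP (LK LD1_c4 LD2_c43 LD3_c15)) = v13308 :=
  Lgr Lrot47 (Lpr_gt (K50.f128385 IH) (Lpe (f150460 IH) (Lpr_ff (f702270 IH) (Lpn v13308))))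
theorem f150522 : Led Lsl_ft (LP (LK LD1_c2 LD2_c19 LD3_c19)) = (LP (LK LD1_c4 LD2_c43 LD3_c17)) :=
  Lre_f IH (LK LD1_c2 LD2_c19 LD3_c19) (LK LD1_c4 LD2_c43 LD3_c17) Lrfl Lrfl
theorem f702271 : Led Lsl_at (LP (LK LD1_c4 LD2_c43 LD3_c17)) = v13308 :=
  Lgr Lrot66 (Lpe (f150522 IH) (Lpe (f150460 IH) (Lpr_ff (f702270 IH) (Lpn v13308))))
def v4314 : LQ := Led Lsl_gt (LP (LK LD1_c2 LD2_c19 LD3_c19))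
theorem f632608 : Led Lsl_gt (LP (LK LD1_c2 LD2_c19 LD3_c19)) = v4314 :=
  Lrfl
theorem f702275 : Led Lsl_gt v4314 = v13308 :=
  Lgr Lrot46 (Lpe (f632608 IH) (Lpr_ft (f150522 IH) (Lpr_at (f702271 IH) (Lpn v13308))))
theorem f702391 : Led Lsl_ft v4314 = K50.v13333 :=
  Lgr Lrot2 (Lpr_gt (f702275 IH) (Lpe (f702274 IH) (Lpr_af (K50.f702387 IH) (Lpn K50.v13333))))
theorem f702392 : Led Lsl_ff v4314 = K50.v13333 :=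
  Lgr Lrot3 (Lpr_ft (f702391 IH) (Lpn K50.v13333))
theorem f119396 : Led Lsl_bt (LP (LK LD1_c0 LD2_c44 LD3_c16)) = (LP (LK LD1_c1 LD2_c35 LD3_c10)) :=
  Lre_b IH (LK LD1_c0 LD2_c44 LD3_c16) (LK LD1_c1 LD2_c35 LD3_c10) Lrfl Lrfl
def v2083 : LQ := Led Lsl_gt (LP (LK LD1_c1 LD2_c35 LD3_c10))
theorem f508736 : Led Lsl_gt (LP (LK LD1_c1 LD2_c35 LD3_c10)) = v2083 :=
  Lrfl
def v8536 : LQ := Led Lsl_ct v2083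
theorem f671543 : Led Lsl_ct v2083 = v8536 :=
  Lrfl
def v3060 : LQ := Led Lsl_ft v487
theorem f622713 : Led Lsl_ft v487 = v3060 :=
  Lrfl
theorem f622715 : Led Lsl_ff v487 = v3060 :=
  Lgr Lrot3 (Lpr_ft (f622713 IH) (Lpn v3060))
theorem f125541 : Led Lsl_et (LP (LK LD1_c0 LD2_c42 LD3_c30)) = (LP (LK LD1_c0 LD2_c18 LD3_c57)) :=
  Lre_e IH (LK LD1_c0 LD2_c42 LD3_c30) (LK LD1_c0 LD2_c18 LD3_c57) Lrfl Lrfl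
theorem f453585 : Led Lsl_af (LP (LK LD1_c0 LD2_c42 LD3_c30)) = v487 :=
  Lgr Lrot50 (Lpr_et (f125541 IH) (Lpr_at (K32.f131589 IH) (Lpr_et (f453584 IH) (Lpn v487))))
theorem f622718 : Led Lsl_gf v491 = v3060 :=
  Lgr Lrot47 (Lpe (f453601 IH) (Lpr_af (f453585 IH) (Lpr_ff (f622715 IH) (Lpn v3060))))
theorem f131553 : Led Lsl_bf (LP (LK LD1_c0 LD2_c42 LD3_c25)) = (LP (LK LD1_c1 LD2_c6 LD3_c42)) :=
  Lgr Lrot93 (Lpr_dt (K5.f82516 IH) (Lpr_bt (K5.f131548 IH) (Lpr_dt (K5.f131552 IH) (Lpn (LP (LK LD1_c1 LD2_c6 LD3_c42))))))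
theorem f453586 : Led Lsl_bf (LP (LK LD1_c2 LD2_c19 LD3_c8)) = v487 :=
  Lgr Lrot96 (Lpr_et (K57.f131572 IH) (Lpe (f131553 IH) (Lpr_et (f453584 IH) (Lpn v487))))
theorem f632564 : Led Lsl_bf v3060 = K51.v4306 :=
  Lgr Lrot61 (Lpe (f622715 IH) (Lpe (f453586 IH) (Lpr_ft (K51.f632562 IH) (Lpn K51.v4306))))
theorem f453590 : Led Lsl_ct (LP (LK LD1_c4 LD2_c43 LD3_c3)) = (LP (LK LD1_c2 LD2_c19 LD3_c8)) :=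
  Lre_c IH (LK LD1_c4 LD2_c43 LD3_c3) (LK LD1_c2 LD2_c19 LD3_c8) Lrfl Lrfl
theorem f702272 : Led Lsl_ct K51.v4306 = v13308 :=
  Lgr Lrot40 (Lpe (K51.f632562 IH) (Lpe (f453590 IH) (Lpr_ff (f702270 IH) (Lpn v13308))))
theorem f769255 : v8536 = v4314 :=
  (Llr Lrot91 (Lpe (f671543 IH) (Lpe (f508736 IH) (Lpe (f119396 IH) (Lpr_ct (K4.f66062 IH) (Lpe (K49.f103818 IH) (Lpq (f769018 IH) (Lpe (f677648 IH) (Lpe (f622751 IH) (Lpr_gf (f622718 IH) (Lpr_bf (f632564 IH) (Lpr_ct (f702272 IH) (Lpe (f702275 IH) (Lpn v4314)))))))))))))).symm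
theorem f671544 : Led Lsl_cf v2083 = v8536 :=
  Lgr Lrot11 (Lpr_ct (f671543 IH) (Lpn v8536))
def v6064 : LQ := Led Lsl_at (LP (LK LD1_c3 LD2_c17 LD3_c5))
theorem f650801 : Led Lsl_at (LP (LK LD1_c3 LD2_c17 LD3_c5)) = v6064 :=
  Lrfl
theorem f650802 : Led Lsl_af (LP (LK LD1_c3 LD2_c17 LD3_c5)) = v6064 :=
  Lgr Lrot0 (Lpr_at (f650801 IH) (Lpn v6064))
def v6062 : LQ := Led Lsl_ft (LP (LK LD1_c3 LD2_c17 LD3_c1))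
theorem f650785 : Led Lsl_ft (LP (LK LD1_c3 LD2_c17 LD3_c1)) = v6062 :=
  Lrfl
theorem f650787 : Led Lsl_ff (LP (LK LD1_c3 LD2_c17 LD3_c1)) = v6062 :=
  Lgr Lrot3 (Lpr_ft (f650785 IH) (Lpn v6062))
theorem f119522 : Led Lsl_at (LP (LK LD1_c3 LD2_c17 LD3_c1)) = (LP (LK LD1_c1 LD2_c35 LD3_c10)) :=
  Lre_a IH (LK LD1_c3 LD2_c17 LD3_c1) (LK LD1_c1 LD2_c35 LD3_c10) Lrfl Lrfl
theorem f61964 : Led Lsl_gt (LP (LK LD1_c3 LD2_c17 LD3_c5)) = (LP (LK LD1_c1 LD2_c35 LD3_c10)) :=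
  Lre_g IH (LK LD1_c3 LD2_c17 LD3_c5) (LK LD1_c1 LD2_c35 LD3_c10) Lrfl Lrfl
theorem f650790 : Led Lsl_gf (LP (LK LD1_c3 LD2_c17 LD3_c5)) = v6062 :=
  Lgr Lrot47 (Lpr_gt (f61964 IH) (Lpe (f119522 IH) (Lpr_ff (f650787 IH) (Lpn v6062))))
theorem f118729 : Led Lsl_ft (LP (LK LD1_c1 LD2_c35 LD3_c10)) = (LP (LK LD1_c3 LD2_c17 LD3_c7)) :=
  Lre_f IH (LK LD1_c1 LD2_c35 LD3_c10) (LK LD1_c3 LD2_c17 LD3_c7) Lrfl Lrfl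
theorem f650789 : Led Lsl_at (LP (LK LD1_c3 LD2_c17 LD3_c7)) = v6062 :=
  Lgr Lrot66 (Lpe (f118729 IH) (Lpe (f119522 IH) (Lpr_ff (f650787 IH) (Lpn v6062))))
theorem f650793 : Led Lsl_gt v2083 = v6062 :=
  Lgr Lrot46 (Lpe (f508736 IH) (Lpr_ft (f118729 IH) (Lpr_at (f650789 IH) (Lpn v6062))))
theorem f650803 : Led Lsl_ft v2083 = v6064 :=
  Lgr Lrot2 (Lpr_gt (f650793 IH) (Lpe (f650790 IH) (Lpr_af (f650802 IH) (Lpn v6064))))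
theorem f769256 : Led Lsl_cf K50.v13333 = v6064 :=
  Lgr Lrot108 (Lpe (f702392 IH) (Lpq (f769255 IH) (Lpe (f671544 IH) (Lpr_ft (f650803 IH) (Lpn v6064)))))
theorem f769258 : K50.v13334 = (LP (LK LD1_c3 LD2_c17 LD3_c5)) :=
  (Llr Lrot111 (Lpe (K50.f702393 IH) (Lpr_af (K50.f702387 IH) (Lpr_cf (f769256 IH) (Lpe (f650801 IH) (Lpn (LP (LK LD1_c3 LD2_c17 LD3_c5)))))))).symm
theorem f769260 : Led Lsl_bt (LP (LK LD1_c4 LD2_c48 LD3_c14)) = (LP (LK LD1_c3 LD2_c17 LD3_c5)) :=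
  Leop (Lpq (f769258 IH) (Lpe (f702397 IH) (Lpn (LP (LK LD1_c4 LD2_c48 LD3_c14)))))
theorem seed_1244 : LEOK LG_b (LK LD1_c4 LD2_c48 LD3_c14) :=
  Leoe_b (LK LD1_c4 LD2_c48 LD3_c14) (f769260 IH)
theorem f66066 : Led Lsl_ct (LP (LK LD1_c1 LD2_c35 LD3_c13)) = (LP (LK LD1_c0 LD2_c44 LD3_c16)) :=
  Lre_c IH (LK LD1_c1 LD2_c35 LD3_c13) (LK LD1_c0 LD2_c44 LD3_c16) Lrfl Lrfl
theorem f118145 : Led Lsl_gt (LP (LK LD1_c6 LD2_c38 LD3_c9)) = (LP (LK LD1_c3 LD2_c17 LD3_c25)) :=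
  Lre_g IH (LK LD1_c6 LD2_c38 LD3_c9) (LK LD1_c3 LD2_c17 LD3_c25) Lrfl Lrfl
theorem f88748 : Led Lsl_dt (LP (LK LD1_c6 LD2_c59 LD3_c29)) = (LP (LK LD1_c3 LD2_c28 LD3_c57)) :=
  Lre_d IH (LK LD1_c6 LD2_c59 LD3_c29) (LK LD1_c3 LD2_c28 LD3_c57) Lrfl Lrfl
def v7634 : LQ := Led Lsl_gf (LP (LK LD1_c3 LD2_c53 LD3_c37))
theorem f667402 : Led Lsl_gf (LP (LK LD1_c3 LD2_c53 LD3_c37)) = v7634 :=
  Lrfl
theorem f667403 : Led Lsl_gt (LP (LK LD1_c6 LD2_c59 LD3_c29)) = v7634 :=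
  Lgr Lrot5 (Lpr_ft (K48.f66625 IH) (Lpe (K3.f88681 IH) (Lpr_gf (f667402 IH) (Lpn v7634))))
theorem f769253 : Led Lsl_cf (LP (LK LD1_c6 LD2_c38 LD3_c9)) = v7634 :=
  Lgr Lrot169 (Lpr_gt (f118145 IH) (Lpr_ct (K4.f118101 IH) (Lpe (K46.f62050 IH) (Lpe (f66066 IH) (Lpe (K49.f103818 IH) (Lpq (f769018 IH) (Lpe (f677648 IH) (Lpr_gf (f677645 IH) (Lpq (f768757 IH) (Lpe (f88748 IH) (Lpr_gt (f667403 IH) (Lpn v7634))))))))))))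
theorem f769284 : Led Lsl_ct (LP (LK LD1_c6 LD2_c38 LD3_c9)) = v7634 :=
  Lgr Lrot59 (Lpr_cf (f769253 IH) (Lpn v7634))
theorem f119246 : Led Lsl_ft (LP (LK LD1_c12 LD2_c37 LD3_c9)) = (LP (LK LD1_c6 LD2_c35 LD3_c33)) :=
  Lre_f IH (LK LD1_c12 LD2_c37 LD3_c9) (LK LD1_c6 LD2_c35 LD3_c33) Lrfl Lrfl
theorem f119515 : Led Lsl_gt (LP (LK LD1_c12 LD2_c37 LD3_c9)) = (LP (LK LD1_c6 LD2_c38 LD3_c9)) :=
  Lgr Lrot5 (Lpr_ft (f119246 IH) (Lpr_at (K7.f118053 IH) (Lpe (f118145 IH) (Lpn (LP (LK LD1_c6 LD2_c38 LD3_c9))))))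
theorem f118127 : Led Lsl_dt (LP (LK LD1_c12 LD2_c37 LD3_c9)) = (LP (LK LD1_c21 LD2_c43 LD3_c33)) :=
  Lre_d IH (LK LD1_c12 LD2_c37 LD3_c9) (LK LD1_c21 LD2_c43 LD3_c33) Lrfl Lrfl
theorem f118062 : Led Lsl_at (LP (LK LD1_c12 LD2_c37 LD3_c8)) = (LP (LK LD1_c6 LD2_c38 LD3_c11)) :=
  Lgr Lrot51 (Lpe (K4.f118034 IH) (Lpr_af (K4.f118048 IH) (Lpe (K4.f118061 IH) (Lpn (LP (LK LD1_c6 LD2_c38 LD3_c11))))))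
theorem f118097 : Led Lsl_ft (LP (LK LD1_c21 LD2_c43 LD3_c33)) = (LP (LK LD1_c12 LD2_c37 LD3_c8)) :=
  Lre_f IH (LK LD1_c21 LD2_c43 LD3_c33) (LK LD1_c12 LD2_c37 LD3_c8) Lrfl Lrfl
theorem f118289 : Led Lsl_gt (LP (LK LD1_c12 LD2_c42 LD3_c8)) = (LP (LK LD1_c6 LD2_c38 LD3_c11)) :=
  Lre_g IH (LK LD1_c12 LD2_c42 LD3_c8) (LK LD1_c6 LD2_c38 LD3_c11) Lrfl Lrfl
theorem f119498 : Led Lsl_gt (LP (LK LD1_c21 LD2_c43 LD3_c33)) = (LP (LK LD1_c12 LD2_c42 LD3_c8)) :=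
  Lgr Lrot5 (Lpr_ft (f118097 IH) (Lpr_at (f118062 IH) (Lpe (f118289 IH) (Lpn (LP (LK LD1_c12 LD2_c42 LD3_c8))))))
theorem f88692 : Led Lsl_ct (LP (LK LD1_c3 LD2_c53 LD3_c37)) = (LP (LK LD1_c7 LD2_c48 LD3_c48)) :=
  Lre_c IH (LK LD1_c3 LD2_c53 LD3_c37) (LK LD1_c7 LD2_c48 LD3_c48) Lrfl Lrfl
theorem f66064 : Led Lsl_ct (LP (LK LD1_c12 LD2_c41 LD3_c39)) = (LP (LK LD1_c6 LD2_c37 LD3_c56)) :=
  Lre_c IH (LK LD1_c12 LD2_c41 LD3_c39) (LK LD1_c6 LD2_c37 LD3_c56) Lrfl Lrfl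
theorem f66061 : Led Lsl_dt (LP (LK LD1_c3 LD2_c17 LD3_c16)) = (LP (LK LD1_c1 LD2_c35 LD3_c13)) :=
  Lre_d IH (LK LD1_c3 LD2_c17 LD3_c16) (LK LD1_c1 LD2_c35 LD3_c13) Lrfl Lrfl
theorem f96201 : Led Lsl_dt (LP (LK LD1_c3 LD2_c17 LD3_c14)) = (LP (LK LD1_c6 LD2_c37 LD3_c52)) :=
  Lre_d IH (LK LD1_c3 LD2_c17 LD3_c14) (LK LD1_c6 LD2_c37 LD3_c52) Lrfl Lrfl
theorem f96221 : Led Lsl_ct (LP (LK LD1_c6 LD2_c37 LD3_c52)) = (LP (LK LD1_c12 LD2_c41 LD3_c30)) :=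
  Lre_c IH (LK LD1_c6 LD2_c37 LD3_c52) (LK LD1_c12 LD2_c41 LD3_c30) Lrfl Lrfl
theorem f650839 : Led Lsl_dt (LP (LK LD1_c21 LD2_c48 LD3_c16)) = (LP (LK LD1_c12 LD2_c41 LD3_c30)) :=
  Lre_d IH (LK LD1_c21 LD2_c48 LD3_c16) (LK LD1_c12 LD2_c41 LD3_c30) Lrfl Lrfl
theorem f93690 : Led Lsl_dt (LP (LK LD1_c12 LD2_c37 LD3_c26)) = (LP (LK LD1_c21 LD2_c43 LD3_c51)) :=
  Lre_d IH (LK LD1_c12 LD2_c37 LD3_c26) (LK LD1_c21 LD2_c43 LD3_c51) Lrfl Lrfl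
theorem f769233 : Led Lsl_gf (LP (LK LD1_c21 LD2_c48 LD3_c16)) = (LP (LK LD1_c21 LD2_c43 LD3_c51)) :=
  Lgr Lrot143 (Lpr_dt (f650839 IH) (Lpe (f96221 IH) (Lpe (f96201 IH) (Lpe (f66081 IH) (Lpe (f66061 IH) (Lpe (f66016 IH) (Lpe (f66064 IH) (Lpr_gt (f769229 IH) (Lpr_dt (f93690 IH) (Lpn (LP (LK LD1_c21 LD2_c43 LD3_c51))))))))))))
theorem f88752 : Led Lsl_ft (LP (LK LD1_c13 LD2_c15 LD3_c58)) = (LP (LK LD1_c22 LD2_c31 LD3_c13)) :=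
  Lre_f IH (LK LD1_c13 LD2_c15 LD3_c58) (LK LD1_c22 LD2_c31 LD3_c13) Lrfl Lrfl
theorem f88700 : Led Lsl_ct (LP (LK LD1_c22 LD2_c31 LD3_c11)) = (LP (LK LD1_c13 LD2_c15 LD3_c58)) :=
  Lre_c IH (LK LD1_c22 LD2_c31 LD3_c11) (LK LD1_c13 LD2_c15 LD3_c58) Lrfl Lrfl
theorem f93688 : Led Lsl_ff (LP (LK LD1_c22 LD2_c31 LD3_c11)) = (LP (LK LD1_c21 LD2_c43 LD3_c51)) :=
  Lgr Lrot23 (Lpr_ct (f88700 IH) (Lpr_ft (f88752 IH) (Lpr_ct (f93675 IH) (Lpn (LP (LK LD1_c21 LD2_c43 LD3_c51))))))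
theorem f93808 : Led Lsl_dt (LP (LK LD1_c21 LD2_c50 LD3_c39)) = (LP (LK LD1_c12 LD2_c43 LD3_c20)) :=
  Lre_d IH (LK LD1_c21 LD2_c50 LD3_c39) (LK LD1_c12 LD2_c43 LD3_c20) Lrfl Lrfl
theorem f93812 : Led Lsl_ft (LP (LK LD1_c21 LD2_c50 LD3_c39)) = (LP (LK LD1_c12 LD2_c43 LD3_c19)) :=
  Lre_f IH (LK LD1_c21 LD2_c50 LD3_c39) (LK LD1_c12 LD2_c43 LD3_c19) Lrfl Lrfl
theorem f93813 : Led Lsl_at (LP (LK LD1_c12 LD2_c43 LD3_c19)) = (LP (LK LD1_c21 LD2_c43 LD3_c51)) :=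
  Lgr Lrot33 (Lpe (f93812 IH) (Lpr_dt (f93808 IH) (Lpr_ct (f93807 IH) (Lpr_dt (f93801 IH) (Lpr_ct (f93802 IH) (Lpr_dt (f88926 IH) (Lpr_ct (f88878 IH) (Lpr_dt (f88762 IH) (Lpr_ct (f93675 IH) (Lpn (LP (LK LD1_c21 LD2_c43 LD3_c51))))))))))))
theorem f93821 : Led Lsl_af (LP (LK LD1_c21 LD2_c50 LD3_c39)) = (LP (LK LD1_c22 LD2_c31 LD3_c11)) :=
  Lgr Lrot45 (Lpr_ft (f93812 IH) (Lpr_at (f93813 IH) (Lpe (f93688 IH) (Lpn (LP (LK LD1_c22 LD2_c31 LD3_c11))))))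
theorem f769241 : Led Lsl_gt (LP (LK LD1_c21 LD2_c48 LD3_c16)) = (LP (LK LD1_c21 LD2_c50 LD3_c39)) :=
  Lgr Lrot46 (Lpr_gf (f769233 IH) (Lpe (f93688 IH) (Lpe (f93821 IH) (Lpn (LP (LK LD1_c21 LD2_c50 LD3_c39))))))
theorem f769287 : Led Lsl_ct (LP (LK LD1_c12 LD2_c42 LD3_c8)) = (LP (LK LD1_c21 LD2_c48 LD3_c16)) :=
  Lgr Lrot152 (Lpe (f119498 IH) (Lpe (f118127 IH) (Lpr_gt (f119515 IH) (Lpr_ct (f769284 IH) (Lpe (f667402 IH) (Lpr_ct (f88692 IH) (Lpe (K4.f88685 IH) (Lpr_cf (K4.f93703 IH) (Lpe (f769241 IH) (Lpn (LP (LK LD1_c21 LD2_c48 LD3_c16))))))))))))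
theorem f769288 : Led Lsl_ct (LP (LK LD1_c12 LD2_c42 LD3_c8)) = (LP (LK LD1_c21 LD2_c48 LD3_c16)) :=
  Leop (Lpe (f769287 IH) (Lpn (LP (LK LD1_c12 LD2_c42 LD3_c8))))
theorem seed_1245 : LEOK LG_c (LK LD1_c12 LD2_c42 LD3_c8) :=
  Leoe_c (LK LD1_c12 LD2_c42 LD3_c8) (f769288 IH)
theorem f622714 : Led Lsl_af v492 = v3060 :=
  Lgr Lrot45 (Lpe (f453607 IH) (Lpr_at (f453588 IH) (Lpr_ft (f622713 IH) (Lpn v3060))))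
theorem f622716 : Led Lsl_gt v3058 = v492 :=
  Lgr Lrot46 (Lpe (f622710 IH) (Lpr_ft (f622713 IH) (Lpe (f622714 IH) (Lpn v492))))
def v4477 : LQ := Led Lsl_gt (LP (LK LD1_c2 LD2_c22 LD3_c9))
theorem f634095 : Led Lsl_gt (LP (LK LD1_c2 LD2_c22 LD3_c9)) = v4477 :=
  Lrfl
def v6152 : LQ := Led Lsl_et (LP (LK LD1_c3 LD2_c18 LD3_c27))
theorem f651535 : Led Lsl_et (LP (LK LD1_c3 LD2_c18 LD3_c27)) = v6152 :=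
  Lrfl
theorem f678548 : K49.v2087 = v6152 :=
  Lefun (Lecon (Lfl_ef (K49.f650976 IH)) ((K49.f678527 IH).trans (K49.f678544 IH))) (f651535 IH)
theorem f509531 : Led Lsl_dt (LP (LK LD1_c4 LD2_c44 LD3_c27)) = v2188 :=
  Lgr Lrot42 (Lpr_df (f509528 IH) (Lpn v2188))
theorem f768818 : K46.v3180 = v2188 :=
  Lefun (Lecon (Lfl_df (K49.f651922 IH)) (f768796 IH)) (f509531 IH)
theorem f768871 : K49.v6092 = v2186 :=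
  Lefun (Lecon (Lfl_ff (K49.f678507 IH)) (f768818 IH)) (Lfl_ff (f509529 IH))
theorem f768902 : (LP (LK LD1_c2 LD2_c22 LD3_c9)) = v6152 :=
  Lefun (Lecon (Lfl_ef (f509522 IH)) (((f768871 IH).symm.trans (K49.f678527 IH)).trans (K49.f678544 IH))) (f651535 IH)
theorem f768941 : (LP (LK LD1_c1 LD2_c34 LD3_c49)) = v4477 :=
  Lefun (Lecon (Lfl_gf (K49.f508694 IH)) (((K49.f678523 IH).symm.trans (f678548 IH)).trans (f768902 IH).symm)) (f634095 IH)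
theorem f118223 : Led Lsl_ct (LP (LK LD1_c1 LD2_c34 LD3_c49)) = (LP (LK LD1_c3 LD2_c16 LD3_c6)) :=
  Lre_c IH (LK LD1_c1 LD2_c34 LD3_c49) (LK LD1_c3 LD2_c16 LD3_c6) Lrfl Lrfl
def v6000 : LQ := Led Lsl_gt (LP (LK LD1_c3 LD2_c16 LD3_c6))
theorem f650471 : Led Lsl_gt (LP (LK LD1_c3 LD2_c16 LD3_c6)) = v6000 :=
  Lrfl
theorem f769331 : v6000 = v6073 :=
  (Llr Lrot149 (Lpe (f650471 IH) (Lpe (f118223 IH) (Lpqs (f768941 IH) (Lpe (f634095 IH) (Lpe (f416668 IH) (Lpe (K32.f416702 IH) (Lpr_gf (K29.f210130 IH) (Lpr_cf (K32.f69083 IH) (Lpr_bt (f453608 IH) (Lpe (f622716 IH) (Lpq (f769177 IH) (Lpe (f672785 IH) (Lpqs (f769178 IH) (Lpq (f769085 IH) (Lpr_ct (f769022 IH) (Lpn v6073))))))))))))))))).symm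
theorem f650836 : Led Lsl_ff (LP (LK LD1_c3 LD2_c17 LD3_c15)) = v6073 :=
  Lgr Lrot3 (Lpr_ft (f650834 IH) (Lpn v6073))
def v6076 : LQ := Led Lsl_ft (LP (LK LD1_c3 LD2_c17 LD3_c14))
theorem f650846 : Led Lsl_ft (LP (LK LD1_c3 LD2_c17 LD3_c14)) = v6076 :=
  Lrfl
theorem f650848 : Led Lsl_ff (LP (LK LD1_c3 LD2_c17 LD3_c14)) = v6076 :=
  Lgr Lrot3 (Lpr_ft (f650846 IH) (Lpn v6076))
theorem f650849 : Led Lsl_at (LP (LK LD1_c3 LD2_c17 LD3_c15)) = v6076 :=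
  Lgr Lrot66 (Lpr_ff (f650836 IH) (Lpe (f650831 IH) (Lpr_ff (f650848 IH) (Lpn v6076))))
theorem f650472 : Led Lsl_gf (LP (LK LD1_c3 LD2_c17 LD3_c17)) = v6000 :=
  Lgr Lrot76 (Lpr_af (K4.f118256 IH) (Lpe (K4.f118275 IH) (Lpr_gt (f650471 IH) (Lpn v6000))))
theorem f118229 : Led Lsl_ft (LP (LK LD1_c3 LD2_c17 LD3_c17)) = (LP (LK LD1_c1 LD2_c35 LD3_c13)) :=
  Lre_f IH (LK LD1_c3 LD2_c17 LD3_c17) (LK LD1_c1 LD2_c35 LD3_c13) Lrfl Lrfl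
theorem f118230 : Led Lsl_at (LP (LK LD1_c1 LD2_c35 LD3_c13)) = (LP (LK LD1_c3 LD2_c16 LD3_c6)) :=
  Lgr Lrot33 (Lpe (f118229 IH) (Lpr_dt (K4.f118218 IH) (Lpr_ct (K4.f118138 IH) (Lpr_dt (K4.f118219 IH) (Lpr_ct (K4.f118161 IH) (Lpr_dt (K4.f118211 IH) (Lpr_ct (K4.f118058 IH) (Lpr_dt (K46.f118224 IH) (Lpr_ct (f118223 IH) (Lpn (LP (LK LD1_c3 LD2_c16 LD3_c6))))))))))))
theorem f119413 : Led Lsl_gt (LP (LK LD1_c6 LD2_c35 LD3_c29)) = (LP (LK LD1_c3 LD2_c16 LD3_c6)) :=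
  Lre_g IH (LK LD1_c6 LD2_c35 LD3_c29) (LK LD1_c3 LD2_c16 LD3_c6) Lrfl Lrfl
theorem f119414 : Led Lsl_gt (LP (LK LD1_c3 LD2_c17 LD3_c17)) = (LP (LK LD1_c6 LD2_c35 LD3_c29)) :=
  Lgr Lrot5 (Lpr_ft (f118229 IH) (Lpr_at (f118230 IH) (Lpe (f119413 IH) (Lpn (LP (LK LD1_c6 LD2_c35 LD3_c29))))))
theorem f769332 : v6076 = (LP (LK LD1_c6 LD2_c35 LD3_c29)) :=
  (Llr Lrot26 (Lpe (f650849 IH) (Lpr_ff (f650836 IH) (Lpq (f769331 IH) (Lpe (f650472 IH) (Lpr_gt (f119414 IH) (Lpn (LP (LK LD1_c6 LD2_c35 LD3_c29))))))))).symm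
theorem f650847 : Led Lsl_af (LP (LK LD1_c3 LD2_c17 LD3_c15)) = v6076 :=
  Lgr Lrot45 (Lpr_ft (f650834 IH) (Lpe (f650832 IH) (Lpr_ft (f650846 IH) (Lpn v6076))))
theorem f769333 : Led Lsl_at (LP (LK LD1_c6 LD2_c35 LD3_c29)) = (LP (LK LD1_c3 LD2_c17 LD3_c15)) :=
  Leop (Lpr_af (f650847 IH) (Lpqs (f769332 IH) (Lpn (LP (LK LD1_c6 LD2_c35 LD3_c29)))))
theorem seed_1246 : LEOK LG_a (LK LD1_c6 LD2_c35 LD3_c29) :=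
  Leoe_a (LK LD1_c6 LD2_c35 LD3_c29) (f769333 IH)
theorem f769026 : Led Lsl_cf v9803 = v6076 :=
  Lgr Lrot108 (Lpr_ft (f769025 IH) (Lpe (f650838 IH) (Lpr_ft (f650846 IH) (Lpn v6076))))
theorem f769182 : (LP (LK LD1_c3 LD2_c28 LD3_c55)) = v9803 :=
  Lefun (Lecon (Lfl_ff (f658308 IH)) (f769179 IH).symm) (Lfl_ff (f769027 IH))
theorem f769335 : Led Lsl_ct (LP (LK LD1_c6 LD2_c35 LD3_c29)) = (LP (LK LD1_c3 LD2_c28 LD3_c55)) :=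
  Leop (Lpqs (f769182 IH) (Lpr_cf (f769026 IH) (Lpqs (f769332 IH) (Lpn (LP (LK LD1_c6 LD2_c35 LD3_c29))))))
theorem seed_1247 : LEOK LG_c (LK LD1_c6 LD2_c35 LD3_c29) :=
  Leoe_c (LK LD1_c6 LD2_c35 LD3_c29) (f769335 IH)
theorem f769028 : Led Lsl_ct v9803 = v6076 :=
  Lgr Lrot40 (Lpr_ff (f769027 IH) (Lpe (f650837 IH) (Lpr_ff (f650848 IH) (Lpn v6076))))
theorem f667407 : Led Lsl_ff (LP (LK LD1_c3 LD2_c53 LD3_c37)) = K48.v7635 :=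
  Lgr Lrot3 (Lpr_ft (K48.f667404 IH) (Lpn K48.v7635))
theorem f667411 : Led Lsl_dt v6756 = K48.v7635 :=
  Lgr Lrot60 (Lpe (f658243 IH) (Lpe (K3.f88677 IH) (Lpr_ff (f667407 IH) (Lpn K48.v7635))))
theorem f66608 : Led Lsl_gt (LP (LK LD1_c6 LD2_c59 LD3_c27)) = (LP (LK LD1_c3 LD2_c28 LD3_c56)) :=
  Lre_g IH (LK LD1_c6 LD2_c59 LD3_c27) (LK LD1_c3 LD2_c28 LD3_c56) Lrfl Lrfl
theorem f667412 : Led Lsl_gf (LP (LK LD1_c6 LD2_c59 LD3_c27)) = K48.v7635 :=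
  Lgr Lrot47 (Lpr_gt (f66608 IH) (Lpe (K3.f88689 IH) (Lpr_ff (f667407 IH) (Lpn K48.v7635))))
theorem f769399 : Led Lsl_ct (LP (LK LD1_c6 LD2_c59 LD3_c27)) = (LP (LK LD1_c12 LD2_c37 LD3_c6)) :=
  Lgr Lrot152 (Lpr_gf (f667412 IH) (Lpe (f667411 IH) (Lpe (f658244 IH) (Lpqs (f769182 IH) (Lpr_ct (f769028 IH) (Lpqs (f769332 IH) (Lpr_gt (f119413 IH) (Lpr_ct (K4.f118032 IH) (Lpe (K46.f118224 IH) (Lpe (K4.f118058 IH) (Lpe (K56.f118067 IH) (Lpn (LP (LK LD1_c12 LD2_c37 LD3_c6))))))))))))))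
theorem f769400 : Led Lsl_ct (LP (LK LD1_c6 LD2_c59 LD3_c27)) = (LP (LK LD1_c12 LD2_c37 LD3_c6)) :=
  Leop (Lpe (f769399 IH) (Lpn (LP (LK LD1_c6 LD2_c59 LD3_c27))))
theorem seed_1248 : LEOK LG_c (LK LD1_c6 LD2_c59 LD3_c27) :=
  Leoe_c (LK LD1_c6 LD2_c59 LD3_c27) (f769400 IH)
theorem f93373 : Led Lsl_et (LP (LK LD1_c3 LD2_c45 LD3_c37)) = (LP (LK LD1_c1 LD2_c49 LD3_c55)) :=
  Lre_e IH (LK LD1_c3 LD2_c45 LD3_c37) (LK LD1_c1 LD2_c49 LD3_c55) Lrfl Lrfl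
theorem f66456 : Led Lsl_et (LP (LK LD1_c1 LD2_c41 LD3_c12)) = (LP (LK LD1_c0 LD2_c47 LD3_c11)) :=
  Lre_e IH (LK LD1_c1 LD2_c41 LD3_c12) (LK LD1_c0 LD2_c47 LD3_c11) Lrfl Lrfl
theorem f93374 : Led Lsl_dt (LP (LK LD1_c3 LD2_c45 LD3_c37)) = (LP (LK LD1_c6 LD2_c59 LD3_c27)) :=
  Lgr Lrot136 (Lpr_et (f93373 IH) (Lpe (K56.f85125 IH) (Lpe (K56.f85123 IH) (Lpr_dt (K1.f62853 IH) (Lpe (K1.f62308 IH) (Lpe (K1.f62309 IH) (Lpr_gf (K3.f93363 IH) (Lpe (f66456 IH) (Lpr_dt (K3.f66457 IH) (Lpe (f66608 IH) (Lpn (LP (LK LD1_c6 LD2_c59 LD3_c27)))))))))))))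
theorem f93377 : Led Lsl_df (LP (LK LD1_c3 LD2_c45 LD3_c37)) = (LP (LK LD1_c6 LD2_c59 LD3_c27)) :=
  Lgr Lrot38 (Lpr_dt (f93374 IH) (Lpn (LP (LK LD1_c6 LD2_c59 LD3_c27))))
theorem f93376 : Led Lsl_ct (LP (LK LD1_c7 LD2_c31 LD3_c52)) = (LP (LK LD1_c3 LD2_c45 LD3_c37)) :=
  Lre_c IH (LK LD1_c7 LD2_c31 LD3_c52) (LK LD1_c3 LD2_c45 LD3_c37) Lrfl Lrfl
theorem f118018 : Led Lsl_gt (LP (LK LD1_c12 LD2_c37 LD3_c1)) = (LP (LK LD1_c6 LD2_c35 LD3_c30)) :=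
  Lre_g IH (LK LD1_c12 LD2_c37 LD3_c1) (LK LD1_c6 LD2_c35 LD3_c30) Lrfl Lrfl
theorem f118019 : Led Lsl_gf (LP (LK LD1_c12 LD2_c37 LD3_c1)) = (LP (LK LD1_c6 LD2_c37 LD3_c58)) :=
  Lgr Lrot47 (Lpr_gt (f118018 IH) (Lpr_af (K4.f117979 IH) (Lpe (K4.f118015 IH) (Lpn (LP (LK LD1_c6 LD2_c37 LD3_c58))))))
theorem f769413 : Led Lsl_df (LP (LK LD1_c7 LD2_c31 LD3_c52)) = (LP (LK LD1_c12 LD2_c37 LD3_c1)) :=
  Lgr Lrot174 (Lpr_ct (f93376 IH) (Lpr_df (f93377 IH) (Lpr_gf (f667412 IH) (Lpe (f667411 IH) (Lpe (f658246 IH) (Lpqs (f769178 IH) (Lpq (f769085 IH) (Lpr_ct (f769022 IH) (Lpq (f769331 IH) (Lpe (f650472 IH) (Lpr_dt (K4.f118218 IH) (Lpe (f118019 IH) (Lpn (LP (LK LD1_c12 LD2_c37 LD3_c1)))))))))))))))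
theorem f769414 : Led Lsl_dt (LP (LK LD1_c12 LD2_c37 LD3_c1)) = (LP (LK LD1_c7 LD2_c31 LD3_c52)) :=
  Leop (Lpr_df (f769413 IH) (Lpn (LP (LK LD1_c12 LD2_c37 LD3_c1))))
theorem seed_1249 : LEOK LG_d (LK LD1_c12 LD2_c37 LD3_c1) :=
  Leoe_d (LK LD1_c12 LD2_c37 LD3_c1) (f769414 IH)
theorem f66458 : Led Lsl_gt (LP (LK LD1_c3 LD2_c28 LD3_c56)) = (LP (LK LD1_c6 LD2_c59 LD3_c26)) :=
  Lre_g IH (LK LD1_c3 LD2_c28 LD3_c56) (LK LD1_c6 LD2_c59 LD3_c26) Lrfl Lrfl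
theorem f118087 : Led Lsl_gt (LP (LK LD1_c12 LD2_c37 LD3_c5)) = (LP (LK LD1_c6 LD2_c38 LD3_c12)) :=
  Lgr Lrot46 (Lpe (K56.f118086 IH) (Lpr_ft (K4.f118064 IH) (Lpr_at (K4.f118065 IH) (Lpn (LP (LK LD1_c6 LD2_c38 LD3_c12))))))
theorem f769415 : Led Lsl_ct (LP (LK LD1_c6 LD2_c59 LD3_c26)) = (LP (LK LD1_c12 LD2_c37 LD3_c5)) :=
  Lgr Lrot152 (Lpe (f66458 IH) (Lpe (K3.f66457 IH) (Lpr_gt (f511914 IH) (Lpqs (f769178 IH) (Lpq (f769085 IH) (Lpr_ct (f769022 IH) (Lpq (f769331 IH) (Lpe (f650472 IH) (Lpr_ct (K4.f118024 IH) (Lpe (K4.f118091 IH) (Lpe (K4.f118072 IH) (Lpe (f118087 IH) (Lpn (LP (LK LD1_c12 LD2_c37 LD3_c5)))))))))))))))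
theorem f769416 : Led Lsl_ct (LP (LK LD1_c6 LD2_c59 LD3_c26)) = (LP (LK LD1_c12 LD2_c37 LD3_c5)) :=
  Leop (Lpe (f769415 IH) (Lpn (LP (LK LD1_c6 LD2_c59 LD3_c26))))
theorem seed_1250 : LEOK LG_c (LK LD1_c6 LD2_c59 LD3_c26) :=
  Leoe_c (LK LD1_c6 LD2_c59 LD3_c26) (f769416 IH)
theorem f66605 : Led Lsl_ft (LP (LK LD1_c3 LD2_c28 LD3_c56)) = (LP (LK LD1_c6 LD2_c59 LD3_c29)) :=
  Lre_f IH (LK LD1_c3 LD2_c28 LD3_c56) (LK LD1_c6 LD2_c59 LD3_c29) Lrfl Lrfl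
theorem f667410 : Led Lsl_at (LP (LK LD1_c6 LD2_c59 LD3_c29)) = K48.v7635 :=
  Lgr Lrot66 (Lpe (f66605 IH) (Lpe (K3.f88689 IH) (Lpr_ff (f667407 IH) (Lpn K48.v7635))))
theorem f667413 : Led Lsl_gt (LP (LK LD1_c6 LD2_c59 LD3_c26)) = K48.v7635 :=
  Lgr Lrot46 (Lpe (f66458 IH) (Lpr_ft (f66605 IH) (Lpr_at (f667410 IH) (Lpn K48.v7635))))
theorem f667406 : Led Lsl_df v6756 = K48.v7635 :=
  Lgr Lrot78 (Lpe (f658240 IH) (Lpe (K3.f88686 IH) (Lpr_ft (K48.f667404 IH) (Lpn K48.v7635))))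
theorem f433073 : Led Lsl_dt (LP (LK LD1_c3 LD2_c28 LD3_c55)) = (LP (LK LD1_c6 LD2_c59 LD3_c25)) :=
  Lre_d IH (LK LD1_c3 LD2_c28 LD3_c55) (LK LD1_c6 LD2_c59 LD3_c25) Lrfl Lrfl
theorem f433072 : Led Lsl_ct (LP (LK LD1_c13 LD2_c15 LD3_c56)) = (LP (LK LD1_c6 LD2_c59 LD3_c25)) :=
  Lre_c IH (LK LD1_c13 LD2_c15 LD3_c56) (LK LD1_c6 LD2_c59 LD3_c25) Lrfl Lrfl
theorem f118214 : Led Lsl_gt (LP (LK LD1_c21 LD2_c43 LD3_c30)) = (LP (LK LD1_c12 LD2_c37 LD3_c8)) :=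
  Lre_g IH (LK LD1_c21 LD2_c43 LD3_c30) (LK LD1_c12 LD2_c37 LD3_c8) Lrfl Lrfl
theorem f118215 : Led Lsl_gt (LP (LK LD1_c12 LD2_c42 LD3_c11)) = (LP (LK LD1_c21 LD2_c43 LD3_c30)) :=
  Lgr Lrot5 (Lpr_ft (K4.f118212 IH) (Lpr_at (K4.f118203 IH) (Lpe (f118214 IH) (Lpn (LP (LK LD1_c21 LD2_c43 LD3_c30))))))
theorem f769432 : Led Lsl_df (LP (LK LD1_c13 LD2_c15 LD3_c56)) = (LP (LK LD1_c21 LD2_c43 LD3_c30)) :=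
  Lgr Lrot174 (Lpr_ct (f433072 IH) (Lpe (f433073 IH) (Lpr_gf (f658244 IH) (Lpr_df (f667406 IH) (Lpe (f667413 IH) (Lpr_ct (f769415 IH) (Lpr_gt (f118087 IH) (Lpr_dt (K4.f118027 IH) (Lpr_gt (f118215 IH) (Lpn (LP (LK LD1_c21 LD2_c43 LD3_c30))))))))))))
theorem f769433 : Led Lsl_dt (LP (LK LD1_c21 LD2_c43 LD3_c30)) = (LP (LK LD1_c13 LD2_c15 LD3_c56)) :=
  Leop (Lpr_df (f769432 IH) (Lpn (LP (LK LD1_c21 LD2_c43 LD3_c30))))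
theorem seed_1251 : LEOK LG_d (LK LD1_c21 LD2_c43 LD3_c30) :=
  Leoe_d (LK LD1_c21 LD2_c43 LD3_c30) (f769433 IH)
def v6035 : LQ := Led Lsl_ct (LP (LK LD1_c3 LD2_c16 LD3_c49))
theorem f650653 : Led Lsl_ct (LP (LK LD1_c3 LD2_c16 LD3_c49)) = v6035 :=
  Lrfl
theorem f103933 : Led Lsl_dt (LP (LK LD1_c1 LD2_c35 LD3_c3)) = (LP (LK LD1_c3 LD2_c16 LD3_c51)) :=
  Lre_d IH (LK LD1_c1 LD2_c35 LD3_c3) (LK LD1_c3 LD2_c16 LD3_c51) Lrfl Lrfl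
theorem f118477 : Led Lsl_gt (LP (LK LD1_c3 LD2_c16 LD3_c51)) = (LP (LK LD1_c6 LD2_c37 LD3_c3)) :=
  Lre_g IH (LK LD1_c3 LD2_c16 LD3_c51) (LK LD1_c6 LD2_c37 LD3_c3) Lrfl Lrfl
theorem f119099 : Led Lsl_ct (LP (LK LD1_c6 LD2_c37 LD3_c3)) = (LP (LK LD1_c12 LD2_c39 LD3_c58)) :=
  Lre_c IH (LK LD1_c6 LD2_c37 LD3_c3) (LK LD1_c12 LD2_c39 LD3_c58) Lrfl Lrfl
theorem f650654 : Led Lsl_cf (LP (LK LD1_c3 LD2_c16 LD3_c49)) = v6035 :=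
  Lgr Lrot11 (Lpr_ct (f650653 IH) (Lpn v6035))
theorem f85127 : Led Lsl_ct (LP (LK LD1_c1 LD2_c49 LD3_c55)) = (LP (LK LD1_c3 LD2_c45 LD3_c35)) :=
  Lre_c IH (LK LD1_c1 LD2_c49 LD3_c55) (LK LD1_c3 LD2_c45 LD3_c35) Lrfl Lrfl
theorem f527753 : Led Lsl_gf K56.v819 = K56.v2605 :=
  Lgr Lrot47 (Lpe (K56.f459553 IH) (Lpe (K3.f85113 IH) (Lpr_ff (K56.f527746 IH) (Lpn K56.v2605))))
def v10647 : LQ := Led Lsl_ct K56.v3420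
theorem f681245 : Led Lsl_ct K56.v3420 = v10647 :=
  Lrfl
theorem f681246 : Led Lsl_cf K56.v3420 = v10647 :=
  Lgr Lrot11 (Lpr_ct (f681245 IH) (Lpn v10647))
def v7357 : LQ := Led Lsl_gt (LP (LK LD1_c3 LD2_c45 LD3_c35))
theorem f664703 : Led Lsl_gt (LP (LK LD1_c3 LD2_c45 LD3_c35)) = v7357 :=
  Lrfl
theorem f769438 : Led Lsl_dt (LP (LK LD1_c7 LD2_c31 LD3_c52)) = (LP (LK LD1_c12 LD2_c37 LD3_c1)) :=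
  Lgr Lrot42 (Lpr_df (f769413 IH) (Lpn (LP (LK LD1_c12 LD2_c37 LD3_c1))))
theorem f664704 : Led Lsl_et (LP (LK LD1_c7 LD2_c31 LD3_c52)) = (LP (LK LD1_c3 LD2_c45 LD3_c35)) :=
  Lre_e IH (LK LD1_c7 LD2_c31 LD3_c52) (LK LD1_c3 LD2_c45 LD3_c35) Lrfl Lrfl
theorem f118518 : Led Lsl_af (LP (LK LD1_c6 LD2_c35 LD3_c21)) = (LP (LK LD1_c3 LD2_c16 LD3_c52)) :=
  Lgr Lrot68 (Lpr_ct (K4.f118487 IH) (Lpr_at (K4.f118501 IH) (Lpr_ct (K46.f118412 IH) (Lpn (LP (LK LD1_c3 LD2_c16 LD3_c52))))))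
theorem f119084 : Led Lsl_ft (LP (LK LD1_c1 LD2_c35 LD3_c3)) = (LP (LK LD1_c3 LD2_c16 LD3_c52)) :=
  Lre_f IH (LK LD1_c1 LD2_c35 LD3_c3) (LK LD1_c3 LD2_c16 LD3_c52) Lrfl Lrfl
theorem f119085 : Led Lsl_gf (LP (LK LD1_c6 LD2_c35 LD3_c21)) = (LP (LK LD1_c3 LD2_c16 LD3_c49)) :=
  Lgr Lrot76 (Lpr_af (f118518 IH) (Lpe (f119084 IH) (Lpr_gt (K5.f96110 IH) (Lpn (LP (LK LD1_c3 LD2_c16 LD3_c49))))))
theorem f650257 : Led Lsl_gf (LP (LK LD1_c12 LD2_c1 LD3_c46)) = K46.v5962 :=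
  Lgr Lrot47 (Lpr_gt (K46.f96113 IH) (Lpe (K46.f150956 IH) (Lpr_ff (K46.f650249 IH) (Lpn K46.v5962))))
theorem f650256 : Led Lsl_dt K32.v2057 = K46.v5962 :=
  Lgr Lrot60 (Lpe (K32.f508613 IH) (Lpe (K46.f65474 IH) (Lpr_ff (K46.f650249 IH) (Lpn K46.v5962))))
theorem f769440 : v7357 = K32.v2057 :=
  (Llr Lrot137 (Lpe (f664703 IH) (Lpe (f664704 IH) (Lpr_dt (f769438 IH) (Lpr_gf (f118019 IH) (Lpe (K4.f118218 IH) (Lpr_et (K4.f118615 IH) (Lpr_gf (f119085 IH) (Lpr_ef (K46.f650658 IH) (Lpe (K46.f650659 IH) (Lpr_gf (f650257 IH) (Lpe (f650256 IH) (Lpn K32.v2057))))))))))))).symm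
theorem f769447 : v10647 = K46.v6036 :=
  (Llr Lrot14 (Lpe (f681246 IH) (Lpe (K56.f625580 IH) (Lpr_gf (f527753 IH) (Lpe (K56.f527751 IH) (Lpe (K56.f527754 IH) (Lpr_ct (f85127 IH) (Lpr_gt (f664703 IH) (Lpqs (f769440 IH) (Lpr_dt (f650256 IH) (Lpe (f650257 IH) (Lpr_dt (K56.f650660 IH) (Lpn K46.v6036))))))))))))).symm
def v6533 : LQ := Led Lsl_gt (LP (LK LD1_c3 LD2_c23 LD3_c11))
theorem f653829 : Led Lsl_gt (LP (LK LD1_c3 LD2_c23 LD3_c11)) = v6533 :=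
  Lrfl
theorem f653831 : Led Lsl_et K56.v3420 = v6533 :=
  Lgr Lrot122 (Lpe (K56.f625581 IH) (Lpe (K56.f459553 IH) (Lpr_df (K3.f85074 IH) (Lpr_et (K56.f85122 IH) (Lpr_gt (K3.f62931 IH) (Lpe (K3.f87575 IH) (Lpe (K2.f87559 IH) (Lpe (K3.f93347 IH) (Lpr_et (K30.f69314 IH) (Lpr_gt (f653829 IH) (Lpn v6533)))))))))))
theorem f769448 : v6035 = v6533 :=
  (Llr Lrot39 (Lpe (f650654 IH) (Lpr_et (K46.f650657 IH) (Lpq (f769447 IH) (Lpe (f681246 IH) (Lpr_et (f653831 IH) (Lpn v6533))))))).symm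
theorem f653830 : Led Lsl_gf (LP (LK LD1_c3 LD2_c28 LD3_c42)) = v6533 :=
  Lgr Lrot76 (Lpe (f93306 IH) (Lpe (K3.f69294 IH) (Lpr_gt (f653829 IH) (Lpn v6533))))
theorem f62241 : Led Lsl_dt (LP (LK LD1_c6 LD2_c38 LD3_c36)) = (LP (LK LD1_c3 LD2_c17 LD3_c35)) :=
  Lre_d IH (LK LD1_c6 LD2_c38 LD3_c36) (LK LD1_c3 LD2_c17 LD3_c35) Lrfl Lrfl
theorem f62242 : Led Lsl_ct (LP (LK LD1_c12 LD2_c42 LD3_c54)) = (LP (LK LD1_c6 LD2_c38 LD3_c36)) :=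
  Lre_c IH (LK LD1_c12 LD2_c42 LD3_c54) (LK LD1_c6 LD2_c38 LD3_c36) Lrfl Lrfl
theorem f769449 : Led Lsl_gt (LP (LK LD1_c12 LD2_c39 LD3_c58)) = (LP (LK LD1_c12 LD2_c42 LD3_c54)) :=
  Lgr Lrot150 (Lpe (f119099 IH) (Lpe (f118477 IH) (Lpe (f103933 IH) (Lpr_gt (K5.f96110 IH) (Lpr_ct (f650653 IH) (Lpqs (f769448 IH) (Lpe (f653830 IH) (Lpr_ct (K3.f62238 IH) (Lpe (f62241 IH) (Lpe (f62242 IH) (Lpn (LP (LK LD1_c12 LD2_c42 LD3_c54)))))))))))))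
theorem f769450 : Led Lsl_gt (LP (LK LD1_c12 LD2_c39 LD3_c58)) = (LP (LK LD1_c12 LD2_c42 LD3_c54)) :=
  Leop (Lpe (f769449 IH) (Lpn (LP (LK LD1_c12 LD2_c39 LD3_c58))))
theorem seed_1252 : LEOK LG_g (LK LD1_c12 LD2_c39 LD3_c58) :=
  Leoe_g (LK LD1_c12 LD2_c39 LD3_c58) (f769450 IH)
theorem f105391 : Led Lsl_gt (LP (LK LD1_c14 LD2_c12 LD3_c13)) = (LP (LK LD1_c7 LD2_c31 LD3_c48)) :=
  Lre_g IH (LK LD1_c14 LD2_c12 LD3_c13) (LK LD1_c7 LD2_c31 LD3_c48) Lrfl Lrfl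
theorem f105392 : Led Lsl_gt (LP (LK LD1_c14 LD2_c12 LD3_c15)) = (LP (LK LD1_c14 LD2_c12 LD3_c13)) :=
  Lgr Lrot5 (Lpr_ft (K56.f105387 IH) (Lpe (K56.f105367 IH) (Lpe (f105391 IH) (Lpn (LP (LK LD1_c14 LD2_c12 LD3_c13))))))
theorem f769471 : Led Lsl_cf (LP (LK LD1_c12 LD2_c1 LD3_c46)) = (LP (LK LD1_c14 LD2_c12 LD3_c13)) :=
  Lgr Lrot175 (Lpr_dt (K56.f650660 IH) (Lpq (f769447 IH) (Lpe (f681245 IH) (Lpr_gf (K56.f664735 IH) (Lpe (K56.f664734 IH) (Lpe (K56.f754506 IH) (Lpr_dt (K56.f754565 IH) (Lpe (K56.f754576 IH) (Lpe (K56.f754490 IH) (Lpr_gt (f105392 IH) (Lpn (LP (LK LD1_c14 LD2_c12 LD3_c13)))))))))))))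
theorem f769472 : Led Lsl_ct (LP (LK LD1_c14 LD2_c12 LD3_c13)) = (LP (LK LD1_c12 LD2_c1 LD3_c46)) :=
  Leop (Lpr_cf (f769471 IH) (Lpn (LP (LK LD1_c14 LD2_c12 LD3_c13))))
theorem seed_1253 : LEOK LG_c (LK LD1_c14 LD2_c12 LD3_c13) :=
  Leoe_c (LK LD1_c14 LD2_c12 LD3_c13) (f769472 IH)
theorem f527755 : Led Lsl_ct (LP (LK LD1_c3 LD2_c45 LD3_c35)) = (LP (LK LD1_c1 LD2_c49 LD3_c55)) :=
  Lre_c IH (LK LD1_c3 LD2_c45 LD3_c35) (LK LD1_c1 LD2_c49 LD3_c55) Lrfl Lrfl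
theorem f105389 : Led Lsl_af (LP (LK LD1_c14 LD2_c12 LD3_c15)) = (LP (LK LD1_c14 LD2_c12 LD3_c16)) :=
  Lgr Lrot45 (Lpr_ft (K56.f105387 IH) (Lpe (K56.f105367 IH) (Lpr_ft (K56.f105380 IH) (Lpn (LP (LK LD1_c14 LD2_c12 LD3_c16))))))
theorem f105394 : Led Lsl_gt (LP (LK LD1_c7 LD2_c31 LD3_c48)) = (LP (LK LD1_c14 LD2_c12 LD3_c12)) :=
  Lre_g IH (LK LD1_c7 LD2_c31 LD3_c48) (LK LD1_c14 LD2_c12 LD3_c12) Lrfl Lrfl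
theorem f105395 : Led Lsl_gf (LP (LK LD1_c14 LD2_c12 LD3_c15)) = (LP (LK LD1_c14 LD2_c12 LD3_c12)) :=
  Lgr Lrot76 (Lpr_af (f105389 IH) (Lpe (K56.f105380 IH) (Lpr_gt (f105394 IH) (Lpn (LP (LK LD1_c14 LD2_c12 LD3_c12))))))
def v7358 : LQ := Led Lsl_gf (LP (LK LD1_c3 LD2_c45 LD3_c35))
theorem f664705 : Led Lsl_gf (LP (LK LD1_c3 LD2_c45 LD3_c35)) = v7358 :=
  Lrfl
theorem f96638 : Led Lsl_dt (LP (LK LD1_c3 LD2_c16 LD3_c6)) = (LP (LK LD1_c6 LD2_c35 LD3_c30)) :=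
  Lre_d IH (LK LD1_c3 LD2_c16 LD3_c6) (LK LD1_c6 LD2_c35 LD3_c30) Lrfl Lrfl
theorem f96637 : Led Lsl_et (LP (LK LD1_c3 LD2_c16 LD3_c6)) = (LP (LK LD1_c1 LD2_c34 LD3_c48)) :=
  Lre_e IH (LK LD1_c3 LD2_c16 LD3_c6) (LK LD1_c1 LD2_c34 LD3_c48) Lrfl Lrfl
theorem f96308 : Led Lsl_et (LP (LK LD1_c1 LD2_c26 LD3_c61)) = (LP (LK LD1_c3 LD2_c1 LD3_c56)) :=
  Lre_e IH (LK LD1_c1 LD2_c26 LD3_c61) (LK LD1_c3 LD2_c1 LD3_c56) Lrfl Lrfl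
theorem f769441 : v7358 = (LP (LK LD1_c3 LD2_c1 LD3_c56)) :=
  (Llr Lrot141 (Lpe (f664705 IH) (Lpe (f664704 IH) (Lpr_dt (f769438 IH) (Lpr_gt (f118018 IH) (Lpe (f96638 IH) (Lpr_et (f96637 IH) (Lpr_gt (K5.f103580 IH) (Lpr_dt (K3.f93365 IH) (Lpe (K5.f96120 IH) (Lpe (K3.f63846 IH) (Lpr_et (f96308 IH) (Lpn (LP (LK LD1_c3 LD2_c1 LD3_c56))))))))))))))).symm
theorem f769479 : Led Lsl_cf (LP (LK LD1_c14 LD2_c12 LD3_c12)) = (LP (LK LD1_c12 LD2_c1 LD3_c45)) :=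
  Lgr Lrot169 (Lpe (f105395 IH) (Lpe (K56.f754580 IH) (Lpe (K56.f754581 IH) (Lpr_cf (K56.f527744 IH) (Lpe (K56.f527754 IH) (Lpe (f527755 IH) (Lpr_gf (f664705 IH) (Lpqs (f769441 IH) (Lpe (K46.f130791 IH) (Lpr_gt (K46.f96241 IH) (Lpn (LP (LK LD1_c12 LD2_c1 LD3_c45)))))))))))))
theorem f769480 : Led Lsl_ct (LP (LK LD1_c12 LD2_c1 LD3_c45)) = (LP (LK LD1_c14 LD2_c12 LD3_c12)) :=
  Leop (Lpr_cf (f769479 IH) (Lpn (LP (LK LD1_c12 LD2_c1 LD3_c45))))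
theorem seed_1254 : LEOK LG_c (LK LD1_c12 LD2_c1 LD3_c45) :=
  Leoe_c (LK LD1_c12 LD2_c1 LD3_c45) (f769480 IH)
theorem f96218 : Led Lsl_ct (LP (LK LD1_c12 LD2_c41 LD3_c30)) = (LP (LK LD1_c6 LD2_c37 LD3_c52)) :=
  Lre_c IH (LK LD1_c12 LD2_c41 LD3_c30) (LK LD1_c6 LD2_c37 LD3_c52) Lrfl Lrfl
theorem f650842 : Led Lsl_gt (LP (LK LD1_c21 LD2_c48 LD3_c14)) = (LP (LK LD1_c12 LD2_c41 LD3_c30)) :=
  Lre_g IH (LK LD1_c21 LD2_c48 LD3_c14) (LK LD1_c12 LD2_c41 LD3_c30) Lrfl Lrfl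
theorem f508524 : Led Lsl_dt (LP (LK LD1_c9 LD2_c29 LD3_c40)) = (LP (LK LD1_c4 LD2_c48 LD3_c32)) :=
  Lre_d IH (LK LD1_c9 LD2_c29 LD3_c40) (LK LD1_c4 LD2_c48 LD3_c32) Lrfl Lrfl
theorem f672148 : Led Lsl_gt (LP (LK LD1_c9 LD2_c29 LD3_c40)) = (LP (LK LD1_c17 LD2_c30 LD3_c40)) :=
  Lre_g IH (LK LD1_c9 LD2_c29 LD3_c40) (LK LD1_c17 LD2_c30 LD3_c40) Lrfl Lrfl
theorem f769491 : Led Lsl_cf (LP (LK LD1_c21 LD2_c48 LD3_c14)) = (LP (LK LD1_c17 LD2_c30 LD3_c40)) :=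
  Lgr Lrot169 (Lpr_gt (f650842 IH) (Lpr_ct (f96218 IH) (Lpe (f96201 IH) (Lpr_cf (f650838 IH) (Lpq (f769029 IH) (Lpe (f658247 IH) (Lpr_cf (K4.f93662 IH) (Lpr_gf (f650495 IH) (Lpq (f768744 IH) (Lpe (f508524 IH) (Lpr_gt (f672148 IH) (Lpn (LP (LK LD1_c17 LD2_c30 LD3_c40))))))))))))))
theorem f769492 : Led Lsl_ct (LP (LK LD1_c17 LD2_c30 LD3_c40)) = (LP (LK LD1_c21 LD2_c48 LD3_c14)) :=
  Leop (Lpr_cf (f769491 IH) (Lpn (LP (LK LD1_c17 LD2_c30 LD3_c40))))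
theorem seed_1255 : LEOK LG_c (LK LD1_c17 LD2_c30 LD3_c40) :=
  Leoe_c (LK LD1_c17 LD2_c30 LD3_c40) (f769492 IH)
def v5961 : LQ := Led Lsl_ct (LP (LK LD1_c3 LD2_c15 LD3_c40))
theorem f650243 : Led Lsl_ct (LP (LK LD1_c3 LD2_c15 LD3_c40)) = v5961 :=
  Lrfl
def v5960 : LQ := Led Lsl_ft (LP (LK LD1_c3 LD2_c15 LD3_c39))
theorem f650237 : Led Lsl_ft (LP (LK LD1_c3 LD2_c15 LD3_c39)) = v5960 :=
  Lrfl
theorem f650239 : Led Lsl_ff (LP (LK LD1_c3 LD2_c15 LD3_c39)) = v5960 :=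
  Lgr Lrot3 (Lpr_ft (f650237 IH) (Lpn v5960))
def v5959 : LQ := Led Lsl_ct (LP (LK LD1_c3 LD2_c15 LD3_c39))
theorem f650231 : Led Lsl_ct (LP (LK LD1_c3 LD2_c15 LD3_c39)) = v5959 :=
  Lrfl
theorem f118120 : Led Lsl_ft (LP (LK LD1_c1 LD2_c35 LD3_c13)) = (LP (LK LD1_c3 LD2_c17 LD3_c17)) :=
  Lre_f IH (LK LD1_c1 LD2_c35 LD3_c13) (LK LD1_c3 LD2_c17 LD3_c17) Lrfl Lrfl
theorem f118121 : Led Lsl_af (LP (LK LD1_c6 LD2_c35 LD3_c31)) = (LP (LK LD1_c3 LD2_c17 LD3_c17)) :=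
  Lgr Lrot109 (Lpe (K4.f118112 IH) (Lpe (K4.f118111 IH) (Lpe (K4.f118110 IH) (Lpe (K4.f118083 IH) (Lpr_cf (K4.f118103 IH) (Lpe (K4.f118102 IH) (Lpe (K4.f66067 IH) (Lpe (K4.f66015 IH) (Lpr_ft (f118120 IH) (Lpn (LP (LK LD1_c3 LD2_c17 LD3_c17))))))))))))
theorem f119476 : Led Lsl_gf (LP (LK LD1_c6 LD2_c35 LD3_c31)) = (LP (LK LD1_c3 LD2_c17 LD3_c14)) :=
  Lgr Lrot76 (Lpr_af (f118121 IH) (Lpe (f118120 IH) (Lpr_gt (f66081 IH) (Lpn (LP (LK LD1_c3 LD2_c17 LD3_c14))))))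
theorem f66013 : Led Lsl_et (LP (LK LD1_c6 LD2_c34 LD3_c37)) = (LP (LK LD1_c3 LD2_c15 LD3_c39)) :=
  Lre_e IH (LK LD1_c6 LD2_c34 LD3_c37) (LK LD1_c3 LD2_c15 LD3_c39) Lrfl Lrfl
theorem f66014 : Led Lsl_et (LP (LK LD1_c1 LD2_c35 LD3_c13)) = (LP (LK LD1_c0 LD2_c44 LD3_c15)) :=
  Lre_e IH (LK LD1_c1 LD2_c35 LD3_c13) (LK LD1_c0 LD2_c44 LD3_c15) Lrfl Lrfl
theorem f66017 : Led Lsl_dt (LP (LK LD1_c6 LD2_c34 LD3_c37)) = (LP (LK LD1_c6 LD2_c37 LD3_c56)) :=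
  Lgr Lrot136 (Lpr_et (f66013 IH) (Lpe (K5.f66012 IH) (Lpe (K5.f66011 IH) (Lpr_dt (K3.f65181 IH) (Lpe (K3.f65714 IH) (Lpr_df (K3.f65992 IH) (Lpe (K3.f66007 IH) (Lpe (f66014 IH) (Lpr_dt (K4.f66015 IH) (Lpe (f66016 IH) (Lpn (LP (LK LD1_c6 LD2_c37 LD3_c56)))))))))))))
theorem f66052 : Led Lsl_df (LP (LK LD1_c6 LD2_c34 LD3_c37)) = (LP (LK LD1_c6 LD2_c37 LD3_c56)) :=
  Lgr Lrot38 (Lpr_dt (f66017 IH) (Lpn (LP (LK LD1_c6 LD2_c37 LD3_c56))))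
def v9315 : LQ := Led Lsl_et K56.v2603
theorem f675358 : Led Lsl_et K56.v2603 = v9315 :=
  Lrfl
theorem f675359 : Led Lsl_ef K56.v2603 = v9315 :=
  Lgr Lrot88 (Lpr_et (f675358 IH) (Lpn v9315))
def v2604 : LQ := Led Lsl_gf (LP (LK LD1_c1 LD2_c49 LD3_c26))
theorem f527739 : Led Lsl_gf (LP (LK LD1_c1 LD2_c49 LD3_c26)) = v2604 :=
  Lrfl
theorem f527740 : Led Lsl_gt (LP (LK LD1_c1 LD2_c49 LD3_c56)) = v2604 :=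
  Lgr Lrot5 (Lpr_ft (K56.f85108 IH) (Lpr_at (K2.f85109 IH) (Lpr_gf (f527739 IH) (Lpn v2604))))
def v6750 : LQ := Led Lsl_et (LP (LK LD1_c3 LD2_c28 LD3_c39))
theorem f658219 : Led Lsl_et (LP (LK LD1_c3 LD2_c28 LD3_c39)) = v6750 :=
  Lrfl
theorem f658220 : Led Lsl_ef (LP (LK LD1_c3 LD2_c28 LD3_c39)) = v6750 :=
  Lgr Lrot88 (Lpr_et (f658219 IH) (Lpn v6750))
theorem f62223 : Led Lsl_gt (LP (LK LD1_c1 LD2_c41 LD3_c2)) = (LP (LK LD1_c3 LD2_c28 LD3_c39)) :=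
  Lre_g IH (LK LD1_c1 LD2_c41 LD3_c2) (LK LD1_c3 LD2_c28 LD3_c39) Lrfl Lrfl
theorem f658221 : Led Lsl_df v2604 = v6750 :=
  Lgr Lrot170 (Lpe (f527739 IH) (Lpe (K3.f85114 IH) (Lpr_et (K2.f85139 IH) (Lpr_gt (K3.f96719 IH) (Lpe (K3.f96723 IH) (Lpr_gt (K3.f62194 IH) (Lpe (K1.f17782 IH) (Lpr_et (K3.f62185 IH) (Lpr_gt (f62223 IH) (Lpr_ef (f658220 IH) (Lpn v6750)))))))))))
theorem f93310 : Led Lsl_gf (LP (LK LD1_c6 LD2_c49 LD3_c45)) = (LP (LK LD1_c3 LD2_c28 LD3_c39)) :=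
  Lgr Lrot76 (Lpr_af (K3.f93300 IH) (Lpe (K3.f62256 IH) (Lpr_gt (f62223 IH) (Lpn (LP (LK LD1_c3 LD2_c28 LD3_c39))))))
theorem f675360 : Led Lsl_df v7634 = v9315 :=
  Lgr Lrot168 (Lpe (f667403 IH) (Lpe (f88926 IH) (Lpe (f93429 IH) (Lpr_gf (f93310 IH) (Lpr_ef (f658220 IH) (Lpe (f658221 IH) (Lpe (f527740 IH) (Lpe (K56.f85099 IH) (Lpe (K56.f527747 IH) (Lpr_ef (f675359 IH) (Lpn v9315)))))))))))
theorem f675361 : Led Lsl_dt v7634 = v9315 :=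
  Lgr Lrot42 (Lpr_df (f675360 IH) (Lpn v9315))
theorem f769490 : Led Lsl_ct (LP (LK LD1_c6 LD2_c34 LD3_c37)) = v9315 :=
  Lgr Lrot7 (Lpr_df (f66052 IH) (Lpe (f119547 IH) (Lpe (K4.f118113 IH) (Lpr_gf (f119476 IH) (Lpr_cf (f650838 IH) (Lpq (f769029 IH) (Lpe (f658248 IH) (Lpr_dt (f88926 IH) (Lpr_gt (f667403 IH) (Lpr_dt (f675361 IH) (Lpn v9315)))))))))))
theorem f66047 : Led Lsl_et (LP (LK LD1_c3 LD2_c15 LD3_c39)) = (LP (LK LD1_c6 LD2_c34 LD3_c37)) :=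
  Lre_e IH (LK LD1_c3 LD2_c15 LD3_c39) (LK LD1_c6 LD2_c34 LD3_c37) Lrfl Lrfl
theorem f650232 : Led Lsl_cf (LP (LK LD1_c3 LD2_c15 LD3_c39)) = v5959 :=
  Lgr Lrot11 (Lpr_ct (f650231 IH) (Lpn v5959))
theorem f769504 : v5959 = K56.v2603 :=
  (Llr Lrot39 (Lpe (f650232 IH) (Lpr_et (f66047 IH) (Lpr_ct (f769490 IH) (Lpe (f675359 IH) (Lpn K56.v2603)))))).symm
def v9316 : LQ := Led Lsl_ft K56.v2603
theorem f675362 : Led Lsl_ft K56.v2603 = v9316 :=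
  Lrfl
theorem f769506 : Led Lsl_cf v5960 = v9316 :=
  Lgr Lrot108 (Lpe (f650239 IH) (Lpr_ct (f650231 IH) (Lpqs (f769504 IH) (Lpr_ft (f675362 IH) (Lpn v9316)))))
def v5957 : LQ := Led Lsl_at (LP (LK LD1_c3 LD2_c15 LD3_c39))
theorem f650223 : Led Lsl_at (LP (LK LD1_c3 LD2_c15 LD3_c39)) = v5957 :=
  Lrfl
theorem f650224 : Led Lsl_af (LP (LK LD1_c3 LD2_c15 LD3_c39)) = v5957 :=
  Lgr Lrot0 (Lpr_at (f650223 IH) (Lpn v5957))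
theorem f650225 : Led Lsl_ft (LP (LK LD1_c3 LD2_c15 LD3_c40)) = v5957 :=
  Lgr Lrot2 (Lpr_gt (K57.f65483 IH) (Lpr_gt (K5.f66012 IH) (Lpr_af (f650224 IH) (Lpn v5957))))
theorem f650238 : Led Lsl_af (LP (LK LD1_c3 LD2_c15 LD3_c40)) = v5960 :=
  Lgr Lrot45 (Lpr_ft (f650225 IH) (Lpe (f650224 IH) (Lpr_ft (f650237 IH) (Lpn v5960))))
theorem f675364 : Led Lsl_ff K56.v2603 = v9316 :=
  Lgr Lrot3 (Lpr_ft (f675362 IH) (Lpn v9316))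
def v9311 : LQ := Led Lsl_at K56.v2603
theorem f675348 : Led Lsl_at K56.v2603 = v9311 :=
  Lrfl
theorem f675349 : Led Lsl_af K56.v2603 = v9311 :=
  Lgr Lrot0 (Lpr_at (f675348 IH) (Lpn v9311))
theorem f675350 : Led Lsl_ft v2604 = v9311 :=
  Lgr Lrot2 (Lpe (f527739 IH) (Lpr_gt (K56.f527738 IH) (Lpr_af (f675349 IH) (Lpn v9311))))
theorem f675351 : Led Lsl_ff v2604 = v9311 :=
  Lgr Lrot3 (Lpr_ft (f675350 IH) (Lpn v9311))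
theorem f675365 : Led Lsl_at v2604 = v9316 :=
  Lgr Lrot66 (Lpr_ff (f675351 IH) (Lpe (f675348 IH) (Lpr_ff (f675364 IH) (Lpn v9316))))
theorem f769508 : v5961 = v2604 :=
  (Llr Lrot111 (Lpe (f650243 IH) (Lpr_af (f650238 IH) (Lpr_cf (f769506 IH) (Lpe (f675365 IH) (Lpn v2604)))))).symm
theorem f439872 : Led Lsl_gf (LP (LK LD1_c3 LD2_c15 LD3_c40)) = (LP (LK LD1_c6 LD2_c10 LD3_c36)) :=
  Lgr Lrot47 (Lpr_gt (K57.f65483 IH) (Lpr_af (K32.f130784 IH) (Lpe (K32.f150984 IH) (Lpn (LP (LK LD1_c6 LD2_c10 LD3_c36))))))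
theorem f150969 : Led Lsl_dt (LP (LK LD1_c12 LD2_c1 LD3_c48)) = (LP (LK LD1_c6 LD2_c10 LD3_c36)) :=
  Lre_d IH (LK LD1_c12 LD2_c1 LD3_c48) (LK LD1_c6 LD2_c10 LD3_c36) Lrfl Lrfl
theorem f65477 : Led Lsl_gt (LP (LK LD1_c6 LD2_c34 LD3_c42)) = (LP (LK LD1_c3 LD2_c15 LD3_c41)) :=
  Lre_g IH (LK LD1_c6 LD2_c34 LD3_c42) (LK LD1_c3 LD2_c15 LD3_c41) Lrfl Lrfl
theorem f150967 : Led Lsl_gf (LP (LK LD1_c6 LD2_c34 LD3_c42)) = (LP (LK LD1_c12 LD2_c1 LD3_c48)) :=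
  Lgr Lrot47 (Lpr_gt (f65477 IH) (Lpr_af (K46.f150949 IH) (Lpe (K46.f150966 IH) (Lpn (LP (LK LD1_c12 LD2_c1 LD3_c48))))))
theorem f151008 : Led Lsl_ct (LP (LK LD1_c6 LD2_c34 LD3_c42)) = (LP (LK LD1_c12 LD2_c35 LD3_c50)) :=
  Lre_c IH (LK LD1_c6 LD2_c34 LD3_c42) (LK LD1_c12 LD2_c35 LD3_c50) Lrfl Lrfl
theorem f769520 : Led Lsl_gf (LP (LK LD1_c12 LD2_c2 LD3_c8)) = (LP (LK LD1_c12 LD2_c35 LD3_c50)) :=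
  Lgr Lrot104 (Lpr_ct (K56.f105372 IH) (Lpe (K46.f87366 IH) (Lpe (K56.f105399 IH) (Lpr_gf (f527739 IH) (Lpq (f769508 IH) (Lpe (f650243 IH) (Lpr_gf (f439872 IH) (Lpe (f150969 IH) (Lpe (f150967 IH) (Lpr_ct (f151008 IH) (Lpn (LP (LK LD1_c12 LD2_c35 LD3_c50)))))))))))))
theorem f769521 : Led Lsl_gt (LP (LK LD1_c12 LD2_c35 LD3_c50)) = (LP (LK LD1_c12 LD2_c2 LD3_c8)) :=
  Leop (Lpr_gf (f769520 IH) (Lpn (LP (LK LD1_c12 LD2_c35 LD3_c50))))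
theorem seed_1256 : LEOK LG_g (LK LD1_c12 LD2_c35 LD3_c50) :=
  Leoe_g (LK LD1_c12 LD2_c35 LD3_c50) (f769521 IH)
theorem f651628 : Led Lsl_cf (LP (LK LD1_c21 LD2_c7 LD3_c12)) = (LP (LK LD1_c12 LD2_c2 LD3_c7)) :=
  Lgr Lrot11 (Lpr_ct (K46.f651624 IH) (Lpn (LP (LK LD1_c12 LD2_c2 LD3_c7))))
theorem f105377 : Led Lsl_df (LP (LK LD1_c14 LD2_c12 LD3_c16)) = (LP (LK LD1_c12 LD2_c2 LD3_c8)) :=
  Lgr Lrot38 (Lpr_dt (K56.f105373 IH) (Lpn (LP (LK LD1_c12 LD2_c2 LD3_c8))))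
theorem f769522 : Led Lsl_gt (LP (LK LD1_c14 LD2_c12 LD3_c16)) = (LP (LK LD1_c12 LD2_c35 LD3_c50)) :=
  Lgr Lrot5 (Lpr_ft (K56.f105383 IH) (Lpr_at (K56.f105385 IH) (Lpr_gf (f769520 IH) (Lpn (LP (LK LD1_c12 LD2_c35 LD3_c50))))))
theorem f650233 : Led Lsl_ct (LP (LK LD1_c12 LD2_c35 LD3_c38)) = (LP (LK LD1_c6 LD2_c34 LD3_c36)) :=
  Lre_c IH (LK LD1_c12 LD2_c35 LD3_c38) (LK LD1_c6 LD2_c34 LD3_c36) Lrfl Lrfl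
theorem f769524 : Led Lsl_dt (LP (LK LD1_c12 LD2_c35 LD3_c50)) = (LP (LK LD1_c12 LD2_c35 LD3_c38)) :=
  Lgr Lrot105 (Lpe (f769522 IH) (Lpr_df (f105377 IH) (Lpr_gf (f769520 IH) (Lpe (f151008 IH) (Lpr_gt (f65477 IH) (Lpr_dt (K46.f65474 IH) (Lpr_gt (K5.f66012 IH) (Lpr_dt (K5.f66019 IH) (Lpe (f650233 IH) (Lpn (LP (LK LD1_c12 LD2_c35 LD3_c38))))))))))))
theorem f650264 : Led Lsl_gt (LP (LK LD1_c12 LD2_c35 LD3_c38)) = (LP (LK LD1_c21 LD2_c42 LD3_c2)) :=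
  Lre_g IH (LK LD1_c12 LD2_c35 LD3_c38) (LK LD1_c21 LD2_c42 LD3_c2) Lrfl Lrfl
theorem f769526 : Led Lsl_cf (LP (LK LD1_c12 LD2_c38 LD3_c16)) = (LP (LK LD1_c21 LD2_c42 LD3_c2)) :=
  Lgr Lrot188 (Lpe (K56.f754653 IH) (Lpr_ct (K46.f130811 IH) (Lpe (K46.f651630 IH) (Lpr_cf (f651628 IH) (Lpe (K46.f439862 IH) (Lpe (K56.f105372 IH) (Lpr_gf (f769520 IH) (Lpr_dt (f769524 IH) (Lpr_gt (f650264 IH) (Lpn (LP (LK LD1_c21 LD2_c42 LD3_c2))))))))))))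
theorem f654049 : Led Lsl_dt (LP (LK LD1_c12 LD2_c38 LD3_c16)) = (LP (LK LD1_c6 LD2_c36 LD3_c4)) :=
  Lre_d IH (LK LD1_c12 LD2_c38 LD3_c16) (LK LD1_c6 LD2_c36 LD3_c4) Lrfl Lrfl
theorem f65265 : Led Lsl_dt (LP (LK LD1_c3 LD2_c18 LD3_c13)) = (LP (LK LD1_c6 LD2_c40 LD3_c21)) :=
  Lre_d IH (LK LD1_c3 LD2_c18 LD3_c13) (LK LD1_c6 LD2_c40 LD3_c21) Lrfl Lrfl
theorem f651396 : Led Lsl_ct (LP (LK LD1_c6 LD2_c40 LD3_c21)) = (LP (LK LD1_c12 LD2_c46 LD3_c27)) :=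
  Lre_c IH (LK LD1_c6 LD2_c40 LD3_c21) (LK LD1_c12 LD2_c46 LD3_c27) Lrfl Lrfl
theorem f769532 : Led Lsl_dt (LP (LK LD1_c12 LD2_c46 LD3_c27)) = (LP (LK LD1_c21 LD2_c42 LD3_c2)) :=
  Lgr Lrot140 (Lpe (f651396 IH) (Lpe (f65265 IH) (Lpr_cf (K56.f651389 IH) (Lpr_df (K56.f664727 IH) (Lpe (K56.f664733 IH) (Lpr_at (K56.f664744 IH) (Lpe (K56.f664748 IH) (Lpe (f654049 IH) (Lpr_cf (f769526 IH) (Lpn (LP (LK LD1_c21 LD2_c42 LD3_c2))))))))))))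
theorem f769533 : Led Lsl_dt (LP (LK LD1_c12 LD2_c46 LD3_c27)) = (LP (LK LD1_c21 LD2_c42 LD3_c2)) :=
  Leop (Lpe (f769532 IH) (Lpn (LP (LK LD1_c12 LD2_c46 LD3_c27))))
theorem seed_1257 : LEOK LG_d (LK LD1_c12 LD2_c46 LD3_c27) :=
  Leoe_d (LK LD1_c12 LD2_c46 LD3_c27) (f769533 IH)
def v5202 : LQ := Led Lsl_gt (LP (LK LD1_c3 LD2_c1 LD3_c56))
theorem f646517 : Led Lsl_gt (LP (LK LD1_c3 LD2_c1 LD3_c56)) = v5202 :=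
  Lrfl
theorem f150953 : Led Lsl_ft (LP (LK LD1_c3 LD2_c1 LD3_c56)) = (LP (LK LD1_c6 LD2_c10 LD3_c36)) :=
  Lre_f IH (LK LD1_c3 LD2_c1 LD3_c56) (LK LD1_c6 LD2_c10 LD3_c36) Lrfl Lrfl
theorem f508620 : Led Lsl_at (LP (LK LD1_c6 LD2_c10 LD3_c36)) = K32.v2057 :=
  Lgr Lrot66 (Lpe (f150953 IH) (Lpe (K46.f150946 IH) (Lpr_ff (K46.f508616 IH) (Lpn K32.v2057))))
theorem f646518 : Led Lsl_gf K32.v2057 = v5202 :=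
  Lgr Lrot76 (Lpe (f508620 IH) (Lpe (f150953 IH) (Lpr_gt (f646517 IH) (Lpn v5202))))
theorem f769443 : (LP (LK LD1_c3 LD2_c45 LD3_c35)) = v5202 :=
  Lefun (Lecon (Lfl_gt (f664703 IH)) (f769440 IH)) (f646518 IH)
theorem f527904 : Led Lsl_dt (LP (LK LD1_c3 LD2_c45 LD3_c35)) = (LP (LK LD1_c7 LD2_c31 LD3_c51)) :=
  Lre_d IH (LK LD1_c3 LD2_c45 LD3_c35) (LK LD1_c7 LD2_c31 LD3_c51) Lrfl Lrfl
theorem f664706 : Led Lsl_ct (LP (LK LD1_c7 LD2_c31 LD3_c51)) = (LP (LK LD1_c14 LD2_c12 LD3_c21)) :=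
  Lre_c IH (LK LD1_c7 LD2_c31 LD3_c51) (LK LD1_c14 LD2_c12 LD3_c21) Lrfl Lrfl
theorem f769477 : Led Lsl_df (LP (LK LD1_c14 LD2_c12 LD3_c21)) = (LP (LK LD1_c14 LD2_c12 LD3_c13)) :=
  Lgr Lrot84 (Lpe (f664706 IH) (Lpe (f527904 IH) (Lpqs (f769443 IH) (Lpe (f646517 IH) (Lpe (K46.f130791 IH) (Lpe (K46.f96113 IH) (Lpr_cf (f769471 IH) (Lpr_gt (f105391 IH) (Lpr_dt (K56.f85118 IH) (Lpr_gt (f105392 IH) (Lpn (LP (LK LD1_c14 LD2_c12 LD3_c13)))))))))))))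
theorem f769534 : Led Lsl_gt (LP (LK LD1_c14 LD2_c12 LD3_c21)) = (LP (LK LD1_c12 LD2_c46 LD3_c27)) :=
  Lgr Lrot49 (Lpr_df (f769477 IH) (Lpe (f105392 IH) (Lpr_cf (K56.f754490 IH) (Lpr_gt (K56.f754605 IH) (Lpe (K56.f754604 IH) (Lpr_gt (K56.f754509 IH) (Lpqs (K56.f654044 IH) (Lpr_dt (K56.f443306 IH) (Lpr_cf (f769526 IH) (Lpe (f769532 IH) (Lpn (LP (LK LD1_c12 LD2_c46 LD3_c27)))))))))))))
theorem f769535 : Led Lsl_gt (LP (LK LD1_c14 LD2_c12 LD3_c21)) = (LP (LK LD1_c12 LD2_c46 LD3_c27)) :=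
  Leop (Lpe (f769534 IH) (Lpn (LP (LK LD1_c14 LD2_c12 LD3_c21))))
theorem seed_1258 : LEOK LG_g (LK LD1_c14 LD2_c12 LD3_c21) :=
  Leoe_g (LK LD1_c14 LD2_c12 LD3_c21) (f769535 IH)
theorem f650236 : Led Lsl_ct (LP (LK LD1_c6 LD2_c34 LD3_c36)) = (LP (LK LD1_c12 LD2_c35 LD3_c38)) :=
  Lre_c IH (LK LD1_c6 LD2_c34 LD3_c36) (LK LD1_c12 LD2_c35 LD3_c38) Lrfl Lrfl
theorem f66091 : Led Lsl_gt (LP (LK LD1_c12 LD2_c35 LD3_c37)) = (LP (LK LD1_c6 LD2_c34 LD3_c36)) :=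
  Lre_g IH (LK LD1_c12 LD2_c35 LD3_c37) (LK LD1_c6 LD2_c34 LD3_c36) Lrfl Lrfl
theorem f769536 : Led Lsl_dt (LP (LK LD1_c6 LD2_c40 LD3_c57)) = (LP (LK LD1_c12 LD2_c35 LD3_c37)) :=
  Lgr Lrot6 (Lpr_gt (K46.f650661 IH) (Lpq (f769447 IH) (Lpe (f681246 IH) (Lpr_gt (K56.f664743 IH) (Lpe (K56.f664746 IH) (Lpqs (K56.f654044 IH) (Lpe (f654049 IH) (Lpr_cf (f769526 IH) (Lpe (f650264 IH) (Lpe (f650236 IH) (Lpe (f66091 IH) (Lpn (LP (LK LD1_c12 LD2_c35 LD3_c37))))))))))))))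
theorem f769537 : Led Lsl_dt (LP (LK LD1_c6 LD2_c40 LD3_c57)) = (LP (LK LD1_c12 LD2_c35 LD3_c37)) :=
  Leop (Lpe (f769536 IH) (Lpn (LP (LK LD1_c6 LD2_c40 LD3_c57))))
theorem seed_1259 : LEOK LG_d (LK LD1_c6 LD2_c40 LD3_c57) :=
  Leoe_d (LK LD1_c6 LD2_c40 LD3_c57) (f769537 IH)
theorem f769538 : Led Lsl_df (LP (LK LD1_c6 LD2_c40 LD3_c57)) = (LP (LK LD1_c12 LD2_c35 LD3_c37)) :=
  Lgr Lrot155 (Lpr_gt (K46.f650661 IH) (Lpq (f769447 IH) (Lpe (f681246 IH) (Lpr_gt (K56.f664743 IH) (Lpe (K56.f664746 IH) (Lpqs (K56.f654044 IH) (Lpr_dt (K56.f443306 IH) (Lpr_cf (f769526 IH) (Lpe (f650264 IH) (Lpe (f650236 IH) (Lpe (f66091 IH) (Lpn (LP (LK LD1_c12 LD2_c35 LD3_c37))))))))))))))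
theorem f130825 : Led Lsl_ct (LP (LK LD1_c6 LD2_c40 LD3_c57)) = (LP (LK LD1_c3 LD2_c18 LD3_c29)) :=
  Lre_c IH (LK LD1_c6 LD2_c40 LD3_c57) (LK LD1_c3 LD2_c18 LD3_c29) Lrfl Lrfl
theorem f150971 : Led Lsl_ct (LP (LK LD1_c3 LD2_c1 LD3_c58)) = (LP (LK LD1_c6 LD2_c10 LD3_c36)) :=
  Lre_c IH (LK LD1_c3 LD2_c1 LD3_c58) (LK LD1_c6 LD2_c10 LD3_c36) Lrfl Lrfl
theorem f439874 : Led Lsl_dt (LP (LK LD1_c3 LD2_c15 LD3_c40)) = (LP (LK LD1_c6 LD2_c34 LD3_c39)) :=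
  Lre_d IH (LK LD1_c3 LD2_c15 LD3_c40) (LK LD1_c6 LD2_c34 LD3_c39) Lrfl Lrfl
theorem f769543 : Led Lsl_gt (LP (LK LD1_c6 LD2_c34 LD3_c39)) = (LP (LK LD1_c12 LD2_c35 LD3_c37)) :=
  Lgr Lrot49 (Lpe (f439874 IH) (Lpr_gf (f439872 IH) (Lpe (f150971 IH) (Lpr_gt (K49.f453809 IH) (Lpr_dt (K46.f624033 IH) (Lpe (K49.f624164 IH) (Lpq (K46.f624122 IH) (Lpr_dt (K24.f453915 IH) (Lpe (f130825 IH) (Lpr_df (f769538 IH) (Lpn (LP (LK LD1_c12 LD2_c35 LD3_c37)))))))))))))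
theorem f769544 : Led Lsl_gt (LP (LK LD1_c6 LD2_c34 LD3_c39)) = (LP (LK LD1_c12 LD2_c35 LD3_c37)) :=
  Leop (Lpe (f769543 IH) (Lpn (LP (LK LD1_c6 LD2_c34 LD3_c39))))
theorem seed_1260 : LEOK LG_g (LK LD1_c6 LD2_c34 LD3_c39) :=
  Leoe_g (LK LD1_c6 LD2_c34 LD3_c39) (f769544 IH)
def v17343 : LQ := Led Lsl_et (LP (LK LD1_c6 LD2_c18 LD3_c2))
theorem f758852 : Led Lsl_et (LP (LK LD1_c6 LD2_c18 LD3_c2)) = v17343 :=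
  Lrfl
def v5332 : LQ := Led Lsl_et (LP (LK LD1_c3 LD2_c6 LD3_c14))
theorem f647141 : Led Lsl_et (LP (LK LD1_c3 LD2_c6 LD3_c14)) = v5332 :=
  Lrfl
theorem f647144 : Led Lsl_ef (LP (LK LD1_c3 LD2_c6 LD3_c14)) = v5332 :=
  Lgr Lrot88 (Lpr_et (f647141 IH) (Lpn v5332))
theorem f758855 : Led Lsl_df v5332 = v17343 :=
  Lgr Lrot70 (Lpe (f647144 IH) (Lpr_dt (K3.f25112 IH) (Lpr_et (K5.f77824 IH) (Lpr_dt (K7.f77817 IH) (Lpr_et (f758852 IH) (Lpn v17343))))))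
theorem f758856 : Led Lsl_ef (LP (LK LD1_c6 LD2_c18 LD3_c2)) = v17343 :=
  Lgr Lrot88 (Lpr_et (f758852 IH) (Lpn v17343))
theorem f61759 : Led Lsl_dt (LP (LK LD1_c6 LD2_c9 LD3_c57)) = (LP (LK LD1_c3 LD2_c1 LD3_c29)) :=
  Lre_d IH (LK LD1_c6 LD2_c9 LD3_c57) (LK LD1_c3 LD2_c1 LD3_c29) Lrfl Lrfl
theorem f78795 : Led Lsl_gt (LP (LK LD1_c3 LD2_c16 LD3_c36)) = (LP (LK LD1_c6 LD2_c36 LD3_c34)) :=
  Lre_g IH (LK LD1_c3 LD2_c16 LD3_c36) (LK LD1_c6 LD2_c36 LD3_c34) Lrfl Lrfl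
def v6003 : LQ := Led Lsl_bt (LP (LK LD1_c3 LD2_c16 LD3_c8))
theorem f650481 : Led Lsl_bt (LP (LK LD1_c3 LD2_c16 LD3_c8)) = v6003 :=
  Lrfl
def v2072 : LQ := Led Lsl_et (LP (LK LD1_c1 LD2_c34 LD3_c47))
theorem f508687 : Led Lsl_et (LP (LK LD1_c1 LD2_c34 LD3_c47)) = v2072 :=
  Lrfl
theorem f508688 : Led Lsl_bf (LP (LK LD1_c1 LD2_c34 LD3_c49)) = v2072 :=
  Lgr Lrot96 (Lpr_et (K46.f119212 IH) (Lpr_bt (K3.f96630 IH) (Lpr_et (f508687 IH) (Lpn v2072))))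
theorem f650484 : Led Lsl_ff v2072 = v6003 :=
  Lgr Lrot25 (Lpe (f508688 IH) (Lpr_ft (K4.f118609 IH) (Lpr_bt (f650481 IH) (Lpn v6003))))
theorem f114914 : Led Lsl_at (LP (LK LD1_c3 LD2_c6 LD3_c14)) = (LP (LK LD1_c1 LD2_c34 LD3_c47)) :=
  Lgr Lrot33 (Lpe (K3.f78762 IH) (Lpr_dt (K4.f78724 IH) (Lpr_ct (K4.f114908 IH) (Lpe (K4.f99218 IH) (Lpr_ct (K4.f56678 IH) (Lpr_dt (K4.f60977 IH) (Lpe (K5.f79642 IH) (Lpr_dt (K4.f79636 IH) (Lpr_ct (K3.f60976 IH) (Lpn (LP (LK LD1_c1 LD2_c34 LD3_c47))))))))))))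
theorem f647145 : Led Lsl_at v2072 = v5332 :=
  Lgr Lrot80 (Lpe (f508687 IH) (Lpe (f114914 IH) (Lpr_ef (f647144 IH) (Lpn v5332))))
def v5895 : LQ := Led Lsl_et (LP (LK LD1_c3 LD2_c14 LD3_c37))
theorem f649967 : Led Lsl_et (LP (LK LD1_c3 LD2_c14 LD3_c37)) = v5895 :=
  Lrfl
theorem f649971 : Led Lsl_ef (LP (LK LD1_c3 LD2_c14 LD3_c37)) = v5895 :=
  Lgr Lrot88 (Lpr_et (f649967 IH) (Lpn v5895))
theorem f90475 : Led Lsl_et (LP (LK LD1_c3 LD2_c23 LD3_c19)) = (LP (LK LD1_c6 LD2_c49 LD3_c59)) :=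
  Lre_e IH (LK LD1_c3 LD2_c23 LD3_c19) (LK LD1_c6 LD2_c49 LD3_c59) Lrfl Lrfl
theorem f649974 : Led Lsl_ct (LP (LK LD1_c6 LD2_c49 LD3_c59)) = v5895 :=
  Lgr Lrot15 (Lpe (f90475 IH) (Lpr_cf (K7.f129902 IH) (Lpr_ef (f649971 IH) (Lpn v5895))))
theorem f90311 : Led Lsl_bt (LP (LK LD1_c1 LD2_c38 LD3_c4)) = (LP (LK LD1_c3 LD2_c23 LD3_c21)) :=
  Lre_b IH (LK LD1_c1 LD2_c38 LD3_c4) (LK LD1_c3 LD2_c23 LD3_c21) Lrfl Lrfl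
theorem f90312 : Led Lsl_at (LP (LK LD1_c3 LD2_c23 LD3_c21)) = (LP (LK LD1_c6 LD2_c49 LD3_c59)) :=
  Lre_a IH (LK LD1_c3 LD2_c23 LD3_c21) (LK LD1_c6 LD2_c49 LD3_c59) Lrfl Lrfl
theorem f90313 : Led Lsl_bf (LP (LK LD1_c3 LD2_c28 LD3_c43)) = (LP (LK LD1_c6 LD2_c49 LD3_c59)) :=
  Lgr Lrot81 (Lpr_at (K3.f66587 IH) (Lpr_bt (K3.f66585 IH) (Lpr_at (K3.f90307 IH) (Lpr_bt (f90311 IH) (Lpr_at (f90312 IH) (Lpn (LP (LK LD1_c6 LD2_c49 LD3_c59))))))))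
theorem f704991 : Led Lsl_cf (LP (LK LD1_c4 LD2_c48 LD3_c17)) = v13803 :=
  Lgr Lrot11 (Lpr_ct (f704990 IH) (Lpn v13803))
def v13799 : LQ := Led Lsl_ft (LP (LK LD1_c4 LD2_c48 LD3_c13))
theorem f704919 : Led Lsl_ft (LP (LK LD1_c4 LD2_c48 LD3_c13)) = v13799 :=
  Lrfl
theorem f704923 : Led Lsl_ff (LP (LK LD1_c4 LD2_c48 LD3_c13)) = v13799 :=
  Lgr Lrot3 (Lpr_ft (f704919 IH) (Lpn v13799))
theorem f143179 : Led Lsl_ft (LP (LK LD1_c2 LD2_c22 LD3_c3)) = (LP (LK LD1_c4 LD2_c48 LD3_c20)) :=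
  Lre_f IH (LK LD1_c2 LD2_c22 LD3_c3) (LK LD1_c4 LD2_c48 LD3_c20) Lrfl Lrfl
theorem f704924 : Led Lsl_at (LP (LK LD1_c4 LD2_c48 LD3_c20)) = v13799 :=
  Lgr Lrot66 (Lpe (f143179 IH) (Lpe (K32.f437334 IH) (Lpr_ff (f704923 IH) (Lpn v13799))))
theorem f704930 : Led Lsl_gt (LP (LK LD1_c4 LD2_c48 LD3_c17)) = v13799 :=
  Lgr Lrot46 (Lpe (f160761 IH) (Lpr_ft (f143179 IH) (Lpr_at (f704924 IH) (Lpn v13799))))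
theorem f704925 : Led Lsl_ct K50.v4468 = v13799 :=
  Lgr Lrot40 (Lpe (K50.f634043 IH) (Lpe (K57.f437458 IH) (Lpr_ff (f704923 IH) (Lpn v13799))))
theorem f634045 : Led Lsl_bf K50.v2136 = K50.v4468 :=
  Lgr Lrot61 (Lpe (K50.f509170 IH) (Lpe (K6.f143993 IH) (Lpr_ft (K50.f634043 IH) (Lpn K50.v4468))))
def v6281 : LQ := Led Lsl_gt (LP (LK LD1_c3 LD2_c19 LD3_c55))
theorem f652549 : Led Lsl_gt (LP (LK LD1_c3 LD2_c19 LD3_c55)) = v6281 :=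
  Lrfl
theorem f769568 : v6281 = v5895 :=
  (Llr Lrot149 (Lpe (f652549 IH) (Lpe (f509178 IH) (Lpr_gf (K50.f509173 IH) (Lpr_bf (f634045 IH) (Lpr_ct (f704925 IH) (Lpe (f704930 IH) (Lpr_cf (f704991 IH) (Lpq (f769073 IH) (Lpr_bt (f769024 IH) (Lpq (f769029 IH) (Lpe (f658247 IH) (Lpr_bf (f90313 IH) (Lpr_ct (f649974 IH) (Lpn v5895))))))))))))))).symm
def v2138 : LQ := Led Lsl_bt (LP (LK LD1_c1 LD2_c36 LD3_c21))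
theorem f509191 : Led Lsl_bt (LP (LK LD1_c1 LD2_c36 LD3_c21)) = v2138 :=
  Lrfl
def v8657 : LQ := Led Lsl_gf v2138
theorem f671921 : Led Lsl_gf v2138 = v8657 :=
  Lrfl
theorem f769569 : v6003 = v8657 :=
  (Llr Lrot22 (Lpe (f650481 IH) (Lpr_ct (K4.f118112 IH) (Lpr_gf (f119476 IH) (Lpr_cf (f650838 IH) (Lpq (f769029 IH) (Lpe (f658247 IH) (Lpr_bf (f90313 IH) (Lpr_ct (f649974 IH) (Lpq (f769568 IH) (Lpe (f652549 IH) (Lpe (f509178 IH) (Lpr_bt (f509191 IH) (Lpr_gf (f671921 IH) (Lpn v8657))))))))))))))).symm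
def v8656 : LQ := Led Lsl_gt v2138
theorem f671920 : Led Lsl_gt v2138 = v8656 :=
  Lrfl
theorem f769571 : v5332 = v8656 :=
  (Llr Lrot26 (Lpe (f647145 IH) (Lpr_ff (f650484 IH) (Lpqs (f769569 IH) (Lpe (f671921 IH) (Lpr_gt (f671920 IH) (Lpn v8656))))))).symm
def v6289 : LQ := Led Lsl_bt (LP (LK LD1_c3 LD2_c19 LD3_c56))
theorem f652589 : Led Lsl_bt (LP (LK LD1_c3 LD2_c19 LD3_c56)) = v6289 :=
  Lrfl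
theorem f509192 : Led Lsl_bf (LP (LK LD1_c1 LD2_c36 LD3_c21)) = v2138 :=
  Lgr Lrot24 (Lpr_bt (f509191 IH) (Lpn v2138))
theorem f652592 : Led Lsl_df v2138 = v6289 :=
  Lgr Lrot12 (Lpe (f509192 IH) (Lpr_dt (K50.f509174 IH) (Lpr_bt (f652589 IH) (Lpn v6289))))
theorem f769572 : Led Lsl_ef (LP (LK LD1_c6 LD2_c36 LD3_c34)) = v6289 :=
  Lgr Lrot17 (Lpe (f78795 IH) (Lpr_ef (K46.f78777 IH) (Lpr_dt (K5.f61739 IH) (Lpe (K7.f61748 IH) (Lpe (f61759 IH) (Lpr_gf (K7.f155482 IH) (Lpr_ef (f758856 IH) (Lpe (f758855 IH) (Lpqs (f769571 IH) (Lpe (f671920 IH) (Lpr_df (f652592 IH) (Lpn v6289))))))))))))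
theorem f509195 : Led Lsl_et (LP (LK LD1_c6 LD2_c43 LD3_c40)) = (LP (LK LD1_c3 LD2_c19 LD3_c56)) :=
  Lre_e IH (LK LD1_c6 LD2_c43 LD3_c40) (LK LD1_c3 LD2_c19 LD3_c56) Lrfl Lrfl
theorem f769573 : Led Lsl_bt (LP (LK LD1_c6 LD2_c36 LD3_c34)) = (LP (LK LD1_c6 LD2_c43 LD3_c40)) :=
  Lgr Lrot119 (Lpr_ef (f769572 IH) (Lpe (f652589 IH) (Lpe (f509195 IH) (Lpn (LP (LK LD1_c6 LD2_c43 LD3_c40))))))
theorem f769574 : Led Lsl_bt (LP (LK LD1_c6 LD2_c36 LD3_c34)) = (LP (LK LD1_c6 LD2_c43 LD3_c40)) :=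
  Leop (Lpe (f769573 IH) (Lpn (LP (LK LD1_c6 LD2_c36 LD3_c34))))
theorem seed_1261 : LEOK LG_b (LK LD1_c6 LD2_c36 LD3_c34) :=
  Leoe_b (LK LD1_c6 LD2_c36 LD3_c34) (f769574 IH)
def v17857 : LQ := Led Lsl_et (LP (LK LD1_c6 LD2_c23 LD3_c16))
theorem f762471 : Led Lsl_et (LP (LK LD1_c6 LD2_c23 LD3_c16)) = v17857 :=
  Lrfl
def v6548 : LQ := Led Lsl_et (LP (LK LD1_c3 LD2_c23 LD3_c25))
theorem f653880 : Led Lsl_et (LP (LK LD1_c3 LD2_c23 LD3_c25)) = v6548 :=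
  Lrfl
theorem f702609 : Led Lsl_gt (LP (LK LD1_c6 LD2_c26 LD3_c30)) = v13376 :=
  Lgr Lrot46 (Lpe (K57.f437417 IH) (Lpr_ft (f623575 IH) (Lpr_at (f702603 IH) (Lpn v13376))))
def v18121 : LQ := Led Lsl_dt (LP (LK LD1_c6 LD2_c26 LD3_c30))
theorem f765144 : Led Lsl_dt (LP (LK LD1_c6 LD2_c26 LD3_c30)) = v18121 :=
  Lrfl
theorem f765145 : Led Lsl_df (LP (LK LD1_c6 LD2_c26 LD3_c30)) = v18121 :=
  Lgr Lrot38 (Lpr_dt (f765144 IH) (Lpn v18121))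
def v18155 : LQ := Led Lsl_bt (LP (LK LD1_c6 LD2_c26 LD3_c47))
theorem f765300 : Led Lsl_bt (LP (LK LD1_c6 LD2_c26 LD3_c47)) = v18155 :=
  Lrfl
theorem f67279 : Led Lsl_et (LP (LK LD1_c3 LD2_c11 LD3_c16)) = (LP (LK LD1_c6 LD2_c26 LD3_c47)) :=
  Lre_e IH (LK LD1_c3 LD2_c11 LD3_c16) (LK LD1_c6 LD2_c26 LD3_c47) Lrfl Lrfl
def v1310 : LQ := Led Lsl_ft (LP (LK LD1_c1 LD2_c6 LD3_c51))
theorem f494749 : Led Lsl_ft (LP (LK LD1_c1 LD2_c6 LD3_c51)) = v1310 :=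
  Lrfl
def v1308 : LQ := Led Lsl_at (LP (LK LD1_c1 LD2_c6 LD3_c51))
theorem f494741 : Led Lsl_at (LP (LK LD1_c1 LD2_c6 LD3_c51)) = v1308 :=
  Lrfl
theorem f494742 : Led Lsl_af (LP (LK LD1_c1 LD2_c6 LD3_c51)) = v1308 :=
  Lgr Lrot0 (Lpr_at (f494741 IH) (Lpn v1308))
theorem f494743 : Led Lsl_ft (LP (LK LD1_c1 LD2_c6 LD3_c52)) = v1308 :=
  Lgr Lrot2 (Lpr_gt (K24.f61254 IH) (Lpr_gt (K11.f26310 IH) (Lpr_af (f494742 IH) (Lpn v1308))))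
theorem f494750 : Led Lsl_af (LP (LK LD1_c1 LD2_c6 LD3_c52)) = v1310 :=
  Lgr Lrot45 (Lpr_ft (f494743 IH) (Lpe (f494742 IH) (Lpr_ft (f494749 IH) (Lpn v1310))))
theorem f622803 : (LP (LK LD1_c0 LD2_c42 LD3_c36)) = v1310 :=
  Lefun (Lecon (Lfl_ff (K35.f453620 IH)) (K35.f622786 IH)) (f494749 IH)
theorem f69079 : Led Lsl_bt (LP (LK LD1_c1 LD2_c32 LD3_c2)) = (LP (LK LD1_c0 LD2_c42 LD3_c36)) :=
  Lre_b IH (LK LD1_c1 LD2_c32 LD3_c2) (LK LD1_c0 LD2_c42 LD3_c36) Lrfl Lrfl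
theorem f453627 : Led Lsl_at (LP (LK LD1_c3 LD2_c11 LD3_c16)) = (LP (LK LD1_c1 LD2_c32 LD3_c2)) :=
  Lre_a IH (LK LD1_c3 LD2_c11 LD3_c16) (LK LD1_c1 LD2_c32 LD3_c2) Lrfl Lrfl
theorem f632705 : Led Lsl_bf (LP (LK LD1_c3 LD2_c11 LD3_c16)) = v4332 :=
  Lgr Lrot81 (Lpr_at (f453627 IH) (Lpr_bt (f69079 IH) (Lpqs (f622803 IH) (Lpe (f494750 IH) (Lpr_bt (f438327 IH) (Lpr_at (f632703 IH) (Lpn v4332)))))))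
theorem f765303 : Led Lsl_ef v4332 = v18155 :=
  Lgr Lrot29 (Lpe (f632705 IH) (Lpr_et (f67279 IH) (Lpr_bt (f765300 IH) (Lpn v18155))))
theorem f765305 : Led Lsl_et v4332 = v18155 :=
  Lgr Lrot87 (Lpr_ef (f765303 IH) (Lpn v18155))
theorem f768710 : v18155 = v6548 :=
  Lefun (Lecon (f765305 IH) (f768678 IH).symm) (f653880 IH)
def v3432 : LQ := Led Lsl_gf v828
def v10682 : LQ := Led Lsl_et v3432
theorem f681369 : Led Lsl_et v3432 = v10682 :=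
  Lrfl
theorem f681370 : Led Lsl_ef v3432 = v10682 :=
  Lgr Lrot88 (Lpr_et (f681369 IH) (Lpn v10682))
theorem f625626 : Led Lsl_gf v828 = v3432 :=
  Lrfl
def v6530 : LQ := Led Lsl_dt (LP (LK LD1_c3 LD2_c23 LD3_c8))
theorem f653817 : Led Lsl_dt (LP (LK LD1_c3 LD2_c23 LD3_c8)) = v6530 :=
  Lrfl
def v6582 : LQ := Led Lsl_gf (LP (LK LD1_c3 LD2_c23 LD3_c50))
theorem f654293 : Led Lsl_gf (LP (LK LD1_c3 LD2_c23 LD3_c50)) = v6582 :=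
  Lrfl
theorem f76844 : Led Lsl_dt (LP (LK LD1_c1 LD2_c38 LD3_c12)) = (LP (LK LD1_c3 LD2_c23 LD3_c53)) :=
  Lre_d IH (LK LD1_c1 LD2_c38 LD3_c12) (LK LD1_c3 LD2_c23 LD3_c53) Lrfl Lrfl
theorem f654242 : Led Lsl_af (LP (LK LD1_c3 LD2_c23 LD3_c50)) = (LP (LK LD1_c3 LD2_c23 LD3_c53)) :=
  Lgr Lrot117 (Lpr_dt (K56.f90588 IH) (Lpr_at (K51.f653822 IH) (Lpq (K51.f653993 IH) (Lpr_dt (f76844 IH) (Lpn (LP (LK LD1_c3 LD2_c23 LD3_c53)))))))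
theorem f653818 : Led Lsl_df (LP (LK LD1_c3 LD2_c23 LD3_c8)) = v6530 :=
  Lgr Lrot38 (Lpr_dt (f653817 IH) (Lpn v6530))
theorem f654255 : Led Lsl_ff v6530 = (LP (LK LD1_c3 LD2_c23 LD3_c53)) :=
  Lgr Lrot19 (Lpe (f653818 IH) (Lpq (K46.f653989 IH) (Lpe (K46.f509754 IH) (Lpr_dt (f76844 IH) (Lpn (LP (LK LD1_c3 LD2_c23 LD3_c53)))))))
theorem f654257 : Led Lsl_ft v6530 = (LP (LK LD1_c3 LD2_c23 LD3_c53)) :=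
  Lgr Lrot48 (Lpr_ff (f654255 IH) (Lpn (LP (LK LD1_c3 LD2_c23 LD3_c53))))
theorem f654294 : Led Lsl_gt v6530 = v6582 :=
  Lgr Lrot5 (Lpr_ft (f654257 IH) (Lpe (f654242 IH) (Lpr_gf (f654293 IH) (Lpn v6582))))
theorem f681371 : Led Lsl_df v6582 = v10682 :=
  Lgr Lrot132 (Lpe (f654294 IH) (Lpe (f653817 IH) (Lpe (K2.f23362 IH) (Lpe (K2.f23361 IH) (Lpr_dt (K1.f9783 IH) (Lpr_gf (K2.f23349 IH) (Lpe (K2.f23356 IH) (Lpr_et (f459601 IH) (Lpr_gf (f625626 IH) (Lpr_ef (f681370 IH) (Lpn v10682)))))))))))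
def v2821 : LQ := Led Lsl_bt K35.v347
def v9624 : LQ := Led Lsl_et v2821
theorem f676921 : Led Lsl_et v2821 = v9624 :=
  Lrfl
def v9623 : LQ := Led Lsl_dt v2821
theorem f676913 : Led Lsl_dt v2821 = v9623 :=
  Lrfl
theorem f676915 : Led Lsl_df v2821 = v9623 :=
  Lgr Lrot38 (Lpr_dt (f676913 IH) (Lpn v9623))
theorem f535767 : Led Lsl_bt K35.v347 = v2821 :=
  Lrfl
theorem f535768 : Led Lsl_bf K35.v347 = v2821 :=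
  Lgr Lrot24 (Lpr_bt (f535767 IH) (Lpn v2821))
theorem f623416 : Led Lsl_ff v2821 = v1112 :=
  Lgr Lrot25 (Lpe (f535768 IH) (Lpqs (K35.f623410 IH) (Lpe (K35.f491583 IH) (Lpr_bt (f491568 IH) (Lpn v1112)))))
def v3894 : LQ := Led Lsl_dt v1112
theorem f627765 : Led Lsl_dt v1112 = v3894 :=
  Lrfl
theorem f627767 : Led Lsl_df v1112 = v3894 :=
  Lgr Lrot38 (Lpr_dt (f627765 IH) (Lpn v3894))
theorem f676916 : Led Lsl_ff v3894 = v9623 :=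
  Lgr Lrot19 (Lpe (f627767 IH) (Lpe (f623416 IH) (Lpr_dt (f676913 IH) (Lpn v9623))))
theorem f627766 : Led Lsl_bf K49.v1114 = v3894 :=
  Lgr Lrot93 (Lpe (K49.f491573 IH) (Lpr_bt (f491568 IH) (Lpr_dt (f627765 IH) (Lpn v3894))))
theorem f676917 : Led Lsl_bt K35.v2823 = v9623 :=
  Lgr Lrot35 (Lpr_ff (K49.f623417 IH) (Lpr_bf (f627766 IH) (Lpr_ff (f676916 IH) (Lpn v9623))))
def v3915 : LQ := Led Lsl_bt K35.v1121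
theorem f627891 : Led Lsl_bt K35.v1121 = v3915 :=
  Lrfl
theorem f627892 : Led Lsl_bf K35.v1121 = v3915 :=
  Lgr Lrot24 (Lpr_bt (f627891 IH) (Lpn v3915))
theorem f676919 : Led Lsl_ef v3915 = v9623 :=
  Lgr Lrot29 (Lpe (f627892 IH) (Lpr_et (K35.f535774 IH) (Lpr_bt (f676917 IH) (Lpn v9623))))
theorem f676920 : Led Lsl_et v3915 = v9623 :=
  Lgr Lrot87 (Lpr_ef (f676919 IH) (Lpn v9623))
def v1948 : LQ := Led Lsl_et (LP (LK LD1_c1 LD2_c31 LD3_c61))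
def v8267 : LQ := Led Lsl_ft v1948
theorem f670564 : Led Lsl_ft v1948 = v8267 :=
  Lrfl
def v8266 : LQ := Led Lsl_dt v1948
theorem f670558 : Led Lsl_dt v1948 = v8266 :=
  Lrfl
theorem f670560 : Led Lsl_df v1948 = v8266 :=
  Lgr Lrot38 (Lpr_dt (f670558 IH) (Lpn v8266))
theorem f506531 : Led Lsl_et (LP (LK LD1_c1 LD2_c31 LD3_c61)) = v1948 :=
  Lrfl
theorem f506532 : Led Lsl_bf K35.v495 = v1948 :=
  Lgr Lrot96 (Lpe (K35.f453622 IH) (Lpr_bt (f438561 IH) (Lpr_et (f506531 IH) (Lpn v1948))))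
theorem f670561 : Led Lsl_bt K35.v2826 = v8266 :=
  Lgr Lrot95 (Lpe (K35.f535828 IH) (Lpr_bf (f506532 IH) (Lpr_df (f670560 IH) (Lpn v8266))))
theorem f670562 : Led Lsl_ff v3915 = v8266 :=
  Lgr Lrot25 (Lpe (f627892 IH) (Lpr_ft (K35.f622781 IH) (Lpr_bt (f670561 IH) (Lpn v8266))))
theorem f670563 : Led Lsl_ft v3915 = v8266 :=
  Lgr Lrot48 (Lpr_ff (f670562 IH) (Lpn v8266))
theorem f670566 : Led Lsl_df v3915 = v8267 :=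
  Lgr Lrot78 (Lpr_ft (f670563 IH) (Lpe (f670560 IH) (Lpr_ft (f670564 IH) (Lpn v8267))))
def v8850 : LQ := Led Lsl_bt K35.v2237
theorem f672478 : Led Lsl_bt K35.v2237 = v8850 :=
  Lrfl
theorem f506533 : Led Lsl_ef (LP (LK LD1_c1 LD2_c31 LD3_c61)) = v1948 :=
  Lgr Lrot88 (Lpr_et (f506531 IH) (Lpn v1948))
theorem f506534 : Led Lsl_bt K35.v495 = v1948 :=
  Lgr Lrot119 (Lpe (K35.f453621 IH) (Lpe (f153686 IH) (Lpr_ef (f506533 IH) (Lpn v1948))))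
theorem f670565 : Led Lsl_bf K35.v3084 = v8267 :=
  Lgr Lrot61 (Lpe (K35.f622777 IH) (Lpr_bt (f506534 IH) (Lpr_ft (f670564 IH) (Lpn v8267))))
theorem f672480 : Led Lsl_ef v8267 = v8850 :=
  Lgr Lrot29 (Lpe (f670565 IH) (Lpe (K53.f622776 IH) (Lpr_bt (f672478 IH) (Lpn v8850))))
theorem f676923 : Led Lsl_df v8850 = v9624 :=
  Lgr Lrot70 (Lpe (f672480 IH) (Lpe (f670566 IH) (Lpr_et (f676920 IH) (Lpe (f676915 IH) (Lpr_et (f676921 IH) (Lpn v9624))))))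
def v10681 : LQ := Led Lsl_dt v3432
theorem f681365 : Led Lsl_dt v3432 = v10681 :=
  Lrfl
theorem f681366 : Led Lsl_df v3432 = v10681 :=
  Lgr Lrot38 (Lpr_dt (f681365 IH) (Lpn v10681))
def v3433 : LQ := Led Lsl_dt v828
theorem f625628 : Led Lsl_dt v828 = v3433 :=
  Lrfl
theorem f625631 : Led Lsl_df v828 = v3433 :=
  Lgr Lrot38 (Lpr_dt (f625628 IH) (Lpn v3433))
def v829 : LQ := Led Lsl_dt (LP (LK LD1_c0 LD2_c52 LD3_c1))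
theorem f459610 : Led Lsl_dt (LP (LK LD1_c0 LD2_c52 LD3_c1)) = v829 :=
  Lrfl
theorem f459613 : Led Lsl_df (LP (LK LD1_c0 LD2_c52 LD3_c1)) = v829 :=
  Lgr Lrot38 (Lpr_dt (f459610 IH) (Lpn v829))
theorem f625632 : Led Lsl_ef v829 = v3433 :=
  Lgr Lrot73 (Lpe (f459613 IH) (Lpr_et (K2.f23360 IH) (Lpr_dt (K2.f23357 IH) (Lpr_et (f459601 IH) (Lpr_dt (f625628 IH) (Lpn v3433))))))
def v1999 : LQ := Led Lsl_dt (LP (LK LD1_c1 LD2_c33 LD3_c15))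
theorem f506809 : Led Lsl_dt (LP (LK LD1_c1 LD2_c33 LD3_c15)) = v1999 :=
  Lrfl
theorem f429030 : Led Lsl_ef (LP (LK LD1_c1 LD2_c44 LD3_c20)) = (LP (LK LD1_c1 LD2_c33 LD3_c15)) :=
  Lgr Lrot20 (Lpr_at (K49.f429028 IH) (Lpr_et (K7.f429026 IH) (Lpr_at (K49.f429029 IH) (Lpn (LP (LK LD1_c1 LD2_c33 LD3_c15))))))
theorem f154960 : Led Lsl_gt (LP (LK LD1_c3 LD2_c9 LD3_c4)) = (LP (LK LD1_c1 LD2_c30 LD3_c47)) :=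
  Lgr Lrot9 (Lpe (K33.f154959 IH) (Lpr_gt (K7.f154813 IH) (Lpr_ct (K7.f154101 IH) (Lpr_gt (K7.f154955 IH) (Lpr_ct (K7.f92264 IH) (Lpe (K5.f92263 IH) (Lpe (K7.f106387 IH) (Lpe (K5.f83663 IH) (Lpe (K33.f83473 IH) (Lpn (LP (LK LD1_c1 LD2_c30 LD3_c47))))))))))))
theorem f506813 : Led Lsl_gt v829 = v1999 :=
  Lgr Lrot112 (Lpe (f459610 IH) (Lpr_et (K2.f23360 IH) (Lpe (K3.f23353 IH) (Lpe (K2.f23369 IH) (Lpr_dt (K2.f83594 IH) (Lpe (f154960 IH) (Lpe (K33.f154959 IH) (Lpe (K57.f446912 IH) (Lpr_ef (f429030 IH) (Lpr_dt (f506809 IH) (Lpn v1999)))))))))))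
theorem f506811 : Led Lsl_df (LP (LK LD1_c1 LD2_c33 LD3_c15)) = v1999 :=
  Lgr Lrot38 (Lpr_dt (f506809 IH) (Lpn v1999))
theorem f446932 : Led Lsl_gt (LP (LK LD1_c1 LD2_c33 LD3_c15)) = (LP (LK LD1_c0 LD2_c45 LD3_c25)) :=
  Lgr Lrot46 (Lpr_gf (K49.f446928 IH) (Lpe (K2.f85170 IH) (Lpe (K11.f95564 IH) (Lpn (LP (LK LD1_c0 LD2_c45 LD3_c25))))))
theorem f124415 : Led Lsl_dt (LP (LK LD1_c1 LD2_c37 LD3_c56)) = (LP (LK LD1_c0 LD2_c45 LD3_c25)) :=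
  Lre_d IH (LK LD1_c1 LD2_c37 LD3_c56) (LK LD1_c0 LD2_c45 LD3_c25) Lrfl Lrfl
def v2221 : LQ := Led Lsl_dt (LP (LK LD1_c1 LD2_c37 LD3_c55))
theorem f509736 : Led Lsl_dt (LP (LK LD1_c1 LD2_c37 LD3_c55)) = v2221 :=
  Lrfl
theorem f509738 : Led Lsl_ef (LP (LK LD1_c1 LD2_c37 LD3_c56)) = v2221 :=
  Lgr Lrot73 (Lpr_dt (f124415 IH) (Lpr_et (K7.f68354 IH) (Lpr_dt (K2.f13519 IH) (Lpr_et (f95545 IH) (Lpr_dt (f509736 IH) (Lpn v2221))))))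
theorem f509739 : Led Lsl_et (LP (LK LD1_c1 LD2_c37 LD3_c56)) = v2221 :=
  Lgr Lrot87 (Lpr_ef (f509738 IH) (Lpn v2221))
def v8823 : LQ := Led Lsl_gt v2221
theorem f672409 : Led Lsl_gt v2221 = v8823 :=
  Lrfl
theorem f681367 : Led Lsl_ef v8823 = v10681 :=
  Lgr Lrot17 (Lpe (f672409 IH) (Lpe (f509739 IH) (Lpr_dt (f124415 IH) (Lpe (f446932 IH) (Lpr_df (f506811 IH) (Lpe (f506813 IH) (Lpr_ef (f625632 IH) (Lpe (f625631 IH) (Lpr_gf (f625626 IH) (Lpr_df (f681366 IH) (Lpn v10681)))))))))))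
theorem f681368 : Led Lsl_et v8823 = v10681 :=
  Lgr Lrot87 (Lpr_ef (f681367 IH) (Lpn v10681))
def v6521 : LQ := Led Lsl_ft (LP (LK LD1_c3 LD2_c23 LD3_c2))
theorem f653752 : Led Lsl_ft (LP (LK LD1_c3 LD2_c23 LD3_c2)) = v6521 :=
  Lrfl
theorem f90237 : Led Lsl_et (LP (LK LD1_c1 LD2_c37 LD3_c57)) = (LP (LK LD1_c3 LD2_c23 LD3_c2)) :=
  Lre_e IH (LK LD1_c1 LD2_c37 LD3_c57) (LK LD1_c3 LD2_c23 LD3_c2) Lrfl Lrfl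
theorem f90297 : Led Lsl_ff (LP (LK LD1_c1 LD2_c37 LD3_c57)) = (LP (LK LD1_c0 LD2_c45 LD3_c28)) :=
  Lgr Lrot3 (Lpr_ft (K2.f90240 IH) (Lpn (LP (LK LD1_c0 LD2_c45 LD3_c28))))
theorem f90556 : Led Lsl_ft (LP (LK LD1_c3 LD2_c23 LD3_c27)) = (LP (LK LD1_c1 LD2_c38 LD3_c4)) :=
  Lre_f IH (LK LD1_c3 LD2_c23 LD3_c27) (LK LD1_c1 LD2_c38 LD3_c4) Lrfl Lrfl
theorem f653754 : Led Lsl_ef (LP (LK LD1_c3 LD2_c23 LD3_c27)) = v6521 :=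
  Lgr Lrot21 (Lpr_ft (f90556 IH) (Lpr_et (K3.f77086 IH) (Lpe (f90297 IH) (Lpr_et (f90237 IH) (Lpr_ft (f653752 IH) (Lpn v6521))))))
theorem f93335 : Led Lsl_ct (LP (LK LD1_c6 LD2_c49 LD3_c57)) = (LP (LK LD1_c3 LD2_c23 LD3_c17)) :=
  Lre_c IH (LK LD1_c6 LD2_c49 LD3_c57) (LK LD1_c3 LD2_c23 LD3_c17) Lrfl Lrfl
theorem f90134 : Led Lsl_ct (LP (LK LD1_c3 LD2_c6 LD3_c49)) = (LP (LK LD1_c6 LD2_c18 LD3_c59)) :=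
  Lre_c IH (LK LD1_c3 LD2_c6 LD3_c49) (LK LD1_c6 LD2_c18 LD3_c59) Lrfl Lrfl
theorem f93942 : Led Lsl_ef (LP (LK LD1_c6 LD2_c49 LD3_c57)) = (LP (LK LD1_c6 LD2_c18 LD3_c59)) :=
  Lgr Lrot28 (Lpr_ct (f93335 IH) (Lpr_et (f93345 IH) (Lpr_ct (f90134 IH) (Lpn (LP (LK LD1_c6 LD2_c18 LD3_c59))))))
theorem f93953 : Led Lsl_et (LP (LK LD1_c6 LD2_c49 LD3_c57)) = (LP (LK LD1_c6 LD2_c18 LD3_c59)) :=
  Lgr Lrot87 (Lpr_ef (f93942 IH) (Lpn (LP (LK LD1_c6 LD2_c18 LD3_c59))))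
theorem f90451 : Led Lsl_et (LP (LK LD1_c6 LD2_c27 LD3_c34)) = (LP (LK LD1_c12 LD2_c26 LD3_c36)) :=
  Lre_e IH (LK LD1_c6 LD2_c27 LD3_c34) (LK LD1_c12 LD2_c26 LD3_c36) Lrfl Lrfl
theorem f93955 : Led Lsl_af (LP (LK LD1_c6 LD2_c49 LD3_c57)) = (LP (LK LD1_c12 LD2_c26 LD3_c36)) :=
  Lgr Lrot50 (Lpr_et (f93953 IH) (Lpe (K6.f90441 IH) (Lpr_et (f90451 IH) (Lpn (LP (LK LD1_c12 LD2_c26 LD3_c36))))))
theorem f93978 : Led Lsl_ct (LP (LK LD1_c6 LD2_c27 LD3_c35)) = (LP (LK LD1_c12 LD2_c26 LD3_c36)) :=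
  Lre_c IH (LK LD1_c6 LD2_c27 LD3_c35) (LK LD1_c12 LD2_c26 LD3_c36) Lrfl Lrfl
theorem f93979 : Led Lsl_at (LP (LK LD1_c3 LD2_c23 LD3_c17)) = (LP (LK LD1_c6 LD2_c27 LD3_c35)) :=
  Lgr Lrot107 (Lpe (f93335 IH) (Lpr_af (f93955 IH) (Lpe (f93978 IH) (Lpn (LP (LK LD1_c6 LD2_c27 LD3_c35))))))
theorem f93981 : Led Lsl_df (LP (LK LD1_c3 LD2_c23 LD3_c2)) = (LP (LK LD1_c6 LD2_c27 LD3_c35)) :=
  Lgr Lrot18 (Lpe (K3.f93283 IH) (Lpr_dt (f77084 IH) (Lpr_at (f93979 IH) (Lpn (LP (LK LD1_c6 LD2_c27 LD3_c35))))))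
theorem f765683 : Led Lsl_dt v6521 = v18236 :=
  Lgr Lrot60 (Lpe (f653752 IH) (Lpr_df (f93981 IH) (Lpr_ff (f765678 IH) (Lpn v18236))))
def v10686 : LQ := Led Lsl_ft v3433
theorem f681386 : Led Lsl_ft v3433 = v10686 :=
  Lrfl
def v10683 : LQ := Led Lsl_gt v3433
theorem f681373 : Led Lsl_gt v3433 = v10683 :=
  Lrfl
theorem f459611 : Led Lsl_af (LP (LK LD1_c1 LD2_c37 LD3_c56)) = v829 :=
  Lgr Lrot117 (Lpr_dt (f124415 IH) (Lpr_at (K7.f95308 IH) (Lpr_dt (f459610 IH) (Lpn v829))))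
theorem f625633 : Led Lsl_at v2221 = v3433 :=
  Lgr Lrot80 (Lpe (f509739 IH) (Lpr_af (f459611 IH) (Lpr_ef (f625632 IH) (Lpn v3433))))
def v8826 : LQ := Led Lsl_ft v2221
theorem f672415 : Led Lsl_ft v2221 = v8826 :=
  Lrfl
theorem f672417 : Led Lsl_ff v2221 = v8826 :=
  Lgr Lrot3 (Lpr_ft (f672415 IH) (Lpn v8826))
theorem f681387 : Led Lsl_af v8826 = v10686 :=
  Lgr Lrot45 (Lpe (f672417 IH) (Lpr_at (f625633 IH) (Lpr_ft (f681386 IH) (Lpn v10686))))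
theorem f681391 : Led Lsl_gt v10683 = v8826 :=
  Lgr Lrot46 (Lpe (f681373 IH) (Lpr_ft (f681386 IH) (Lpe (f681387 IH) (Lpn v8826))))
theorem f625635 : Led Lsl_et v829 = v3433 :=
  Lgr Lrot87 (Lpr_ef (f625632 IH) (Lpn v3433))
def v503 : LQ := Led Lsl_dt (LP (LK LD1_c0 LD2_c43 LD3_c10))
theorem f453659 : Led Lsl_dt (LP (LK LD1_c0 LD2_c43 LD3_c10)) = v503 :=
  Lrfl
theorem f453661 : Led Lsl_df (LP (LK LD1_c0 LD2_c43 LD3_c10)) = v503 :=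
  Lgr Lrot38 (Lpr_dt (f453659 IH) (Lpn v503))
theorem f68355 : Led Lsl_dt (LP (LK LD1_c0 LD2_c45 LD3_c25)) = (LP (LK LD1_c1 LD2_c37 LD3_c56)) :=
  Lre_d IH (LK LD1_c0 LD2_c45 LD3_c25) (LK LD1_c1 LD2_c37 LD3_c56) Lrfl Lrfl
theorem f453663 : Led Lsl_gt (LP (LK LD1_c1 LD2_c37 LD3_c56)) = v503 :=
  Lgr Lrot112 (Lpe (f68355 IH) (Lpr_et (K7.f68354 IH) (Lpe (K2.f9813 IH) (Lpe (K2.f13512 IH) (Lpr_dt (K2.f83497 IH) (Lpe (K6.f83636 IH) (Lpe (K7.f429658 IH) (Lpe (K7.f154371 IH) (Lpr_ef (K7.f429019 IH) (Lpr_dt (f453659 IH) (Lpn v503)))))))))))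
theorem f509737 : Led Lsl_df (LP (LK LD1_c1 LD2_c37 LD3_c55)) = v2221 :=
  Lgr Lrot38 (Lpr_dt (f509736 IH) (Lpn v2221))
def v2220 : LQ := Led Lsl_gf (LP (LK LD1_c1 LD2_c37 LD3_c55))
theorem f509735 : Led Lsl_gf (LP (LK LD1_c1 LD2_c37 LD3_c55)) = v2220 :=
  Lrfl
def v8821 : LQ := Led Lsl_dt v2220
theorem f672403 : Led Lsl_dt v2220 = v8821 :=
  Lrfl
theorem f672404 : Led Lsl_df v2220 = v8821 :=
  Lgr Lrot38 (Lpr_dt (f672403 IH) (Lpn v8821))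
theorem f681374 : Led Lsl_et v8821 = v10683 :=
  Lgr Lrot122 (Lpe (f672404 IH) (Lpe (f509735 IH) (Lpr_df (f509737 IH) (Lpe (f509738 IH) (Lpr_gt (f453663 IH) (Lpe (f453661 IH) (Lpe (K11.f430192 IH) (Lpr_df (f459613 IH) (Lpr_et (f625635 IH) (Lpr_gt (f681373 IH) (Lpn v10683)))))))))))
theorem f625645 : Led Lsl_gf v2220 = v3434 :=
  Lgr Lrot47 (Lpe (f509735 IH) (Lpr_af (f459602 IH) (Lpr_ff (f625640 IH) (Lpn v3434))))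
theorem f681389 : Led Lsl_df v3434 = v10686 :=
  Lgr Lrot78 (Lpe (f625640 IH) (Lpr_dt (f625628 IH) (Lpr_ft (f681386 IH) (Lpn v10686))))
theorem f442192 : Led Lsl_ff (LP (LK LD1_c1 LD2_c37 LD3_c56)) = (LP (LK LD1_c1 LD2_c37 LD3_c56)) :=
  Lgr Lrot19 (Lpr_dt (f124415 IH) (Lpr_ft (K11.f95569 IH) (Lpr_dt (f68355 IH) (Lpn (LP (LK LD1_c1 LD2_c37 LD3_c56))))))
theorem f672419 : Led Lsl_et v8826 = v8826 :=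
  Lgr Lrot69 (Lpe (f672415 IH) (Lpe (f509739 IH) (Lpr_ff (f442192 IH) (Lpr_ef (f509738 IH) (Lpr_ff (f672417 IH) (Lpn v8826))))))
theorem f509741 : Led Lsl_ff (LP (LK LD1_c1 LD2_c37 LD3_c55)) = v2222 :=
  Lgr Lrot3 (Lpr_ft (f509740 IH) (Lpn v2222))
theorem f672416 : Led Lsl_df v2222 = v8826 :=
  Lgr Lrot78 (Lpe (f509741 IH) (Lpr_dt (f509736 IH) (Lpr_ft (f672415 IH) (Lpn v8826))))
theorem f459605 : Led Lsl_at (LP (LK LD1_c1 LD2_c37 LD3_c55)) = v828 :=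
  Lgr Lrot80 (Lpe (f95545 IH) (Lpr_af (K2.f95538 IH) (Lpr_ef (f459604 IH) (Lpn v828))))
theorem f625627 : Led Lsl_gt v2222 = v3432 :=
  Lgr Lrot5 (Lpe (f509741 IH) (Lpr_at (f459605 IH) (Lpr_gf (f625626 IH) (Lpn v3432))))
theorem f681392 : Led Lsl_gf v10686 = v8823 :=
  Lgr Lrot138 (Lpe (f681389 IH) (Lpe (f625645 IH) (Lpr_df (f672404 IH) (Lpr_et (f681374 IH) (Lpr_gt (f681391 IH) (Lpe (f672419 IH) (Lpe (f672416 IH) (Lpr_gt (f625627 IH) (Lpr_df (f681366 IH) (Lpe (f681367 IH) (Lpn v8823)))))))))))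
theorem f681394 : Led Lsl_ef v10686 = v10686 :=
  Lgr Lrot17 (Lpr_gf (f681392 IH) (Lpr_ef (f681367 IH) (Lpe (f681366 IH) (Lpe (f625627 IH) (Lpr_df (f672416 IH) (Lpe (f681391 IH) (Lpe (f681374 IH) (Lpe (f672404 IH) (Lpr_gf (f625645 IH) (Lpr_df (f681389 IH) (Lpn v10686)))))))))))
theorem f94676 : Led Lsl_et (LP (LK LD1_c1 LD2_c37 LD3_c51)) = (LP (LK LD1_c0 LD2_c45 LD3_c22)) :=
  Lre_e IH (LK LD1_c1 LD2_c37 LD3_c51) (LK LD1_c0 LD2_c45 LD3_c22) Lrfl Lrfl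
theorem f95669 : Led Lsl_ft (LP (LK LD1_c3 LD2_c22 LD3_c57)) = (LP (LK LD1_c1 LD2_c37 LD3_c51)) :=
  Lre_f IH (LK LD1_c3 LD2_c22 LD3_c57) (LK LD1_c1 LD2_c37 LD3_c51) Lrfl Lrfl
theorem f625639 : Led Lsl_ef (LP (LK LD1_c3 LD2_c22 LD3_c57)) = v3434 :=
  Lgr Lrot21 (Lpr_ft (f95669 IH) (Lpr_et (f94676 IH) (Lpr_ft (K2.f95285 IH) (Lpr_et (f459601 IH) (Lpr_ft (f625636 IH) (Lpn v3434))))))
theorem f94678 : Led Lsl_df (LP (LK LD1_c1 LD2_c37 LD3_c51)) = (LP (LK LD1_c1 LD2_c37 LD3_c51)) :=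
  Lgr Lrot70 (Lpr_et (f94676 IH) (Lpr_dt (K2.f94666 IH) (Lpr_et (K2.f94664 IH) (Lpr_dt (K2.f20028 IH) (Lpr_et (K2.f94677 IH) (Lpn (LP (LK LD1_c1 LD2_c37 LD3_c51))))))))
theorem f95710 : Led Lsl_ft (LP (LK LD1_c1 LD2_c37 LD3_c51)) = (LP (LK LD1_c3 LD2_c22 LD3_c57)) :=
  Lre_f IH (LK LD1_c1 LD2_c37 LD3_c51) (LK LD1_c3 LD2_c22 LD3_c57) Lrfl Lrfl
theorem f442196 : Led Lsl_dt (LP (LK LD1_c3 LD2_c22 LD3_c57)) = (LP (LK LD1_c3 LD2_c22 LD3_c57)) :=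
  Lgr Lrot60 (Lpe (f95710 IH) (Lpr_df (f94678 IH) (Lpe (f95669 IH) (Lpn (LP (LK LD1_c3 LD2_c22 LD3_c57))))))
theorem f95296 : Led Lsl_ff (LP (LK LD1_c0 LD2_c45 LD3_c22)) = (LP (LK LD1_c0 LD2_c52 LD3_c0)) :=
  Lgr Lrot19 (Lpr_dt (K2.f94666 IH) (Lpr_ft (K2.f95287 IH) (Lpr_dt (K2.f23357 IH) (Lpn (LP (LK LD1_c0 LD2_c52 LD3_c0))))))
theorem f625644 : Led Lsl_et (LP (LK LD1_c3 LD2_c22 LD3_c57)) = v3434 :=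
  Lgr Lrot69 (Lpe (f95710 IH) (Lpe (K2.f94677 IH) (Lpr_ff (f95296 IH) (Lpr_ef (f459604 IH) (Lpr_ff (f625640 IH) (Lpn v3434))))))
theorem f681396 : Led Lsl_dt v3434 = v10686 :=
  Lgr Lrot77 (Lpe (f625644 IH) (Lpe (f442196 IH) (Lpr_ef (f625639 IH) (Lpr_df (f681389 IH) (Lpr_ef (f681394 IH) (Lpn v10686))))))
theorem f681390 : Led Lsl_ff v3433 = v10686 :=
  Lgr Lrot3 (Lpr_ft (f681386 IH) (Lpn v10686))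
theorem f625629 : Led Lsl_af v2221 = v3433 :=
  Lgr Lrot117 (Lpe (f509737 IH) (Lpr_at (f459605 IH) (Lpr_dt (f625628 IH) (Lpn v3433))))
def v8824 : LQ := Led Lsl_gf v2221
theorem f672410 : Led Lsl_gf v2221 = v8824 :=
  Lrfl
theorem f681397 : Led Lsl_gf v8824 = v10686 :=
  Lgr Lrot47 (Lpe (f672410 IH) (Lpr_af (f625629 IH) (Lpr_ff (f681390 IH) (Lpn v10686))))
def v6522 : LQ := Led Lsl_gt (LP (LK LD1_c3 LD2_c23 LD3_c4))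
theorem f653764 : Led Lsl_gt (LP (LK LD1_c3 LD2_c23 LD3_c4)) = v6522 :=
  Lrfl
theorem f90309 : Led Lsl_af (LP (LK LD1_c3 LD2_c23 LD3_c4)) = (LP (LK LD1_c1 LD2_c38 LD3_c4)) :=
  Lgr Lrot0 (Lpr_at (K3.f90307 IH) (Lpn (LP (LK LD1_c1 LD2_c38 LD3_c4))))
theorem f653768 : Led Lsl_af (LP (LK LD1_c3 LD2_c23 LD3_c27)) = v6524 :=
  Lgr Lrot45 (Lpr_ft (f90556 IH) (Lpe (f90309 IH) (Lpr_ft (f653767 IH) (Lpn v6524))))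
theorem f653772 : Led Lsl_gt v6522 = (LP (LK LD1_c3 LD2_c23 LD3_c27)) :=
  Lgr Lrot46 (Lpe (f653764 IH) (Lpr_ft (f653767 IH) (Lpe (f653768 IH) (Lpn (LP (LK LD1_c3 LD2_c23 LD3_c27))))))
def v4330 : LQ := Led Lsl_gt (LP (LK LD1_c2 LD2_c19 LD3_c29))
theorem f632700 : Led Lsl_gt (LP (LK LD1_c2 LD2_c19 LD3_c29)) = v4330 :=
  Lrfl
theorem f632701 : Led Lsl_gf v1947 = v4330 :=
  Lgr Lrot76 (Lpe (f506528 IH) (Lpr_ff (f506538 IH) (Lpqs (f622817 IH) (Lpr_gt (f632700 IH) (Lpn v4330)))))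
def v10119 : LQ := Led Lsl_bt v3189
theorem f678872 : Led Lsl_bt v3189 = v10119 :=
  Lrfl
theorem f768993 : v10119 = v6003 :=
  Lefun (Lecon (f678872 IH) (f768954 IH)) (f650481 IH)
theorem f678873 : Led Lsl_bf v3189 = v10119 :=
  Lgr Lrot24 (Lpr_bt (f678872 IH) (Lpn v10119))
theorem f69080 : Led Lsl_ct (LP (LK LD1_c1 LD2_c32 LD3_c2)) = (LP (LK LD1_c3 LD2_c11 LD3_c17)) :=
  Lre_c IH (LK LD1_c1 LD2_c32 LD3_c2) (LK LD1_c3 LD2_c11 LD3_c17) Lrfl Lrfl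
def v5657 : LQ := Led Lsl_gf (LP (LK LD1_c3 LD2_c11 LD3_c17))
theorem f648723 : Led Lsl_gf (LP (LK LD1_c3 LD2_c11 LD3_c17)) = v5657 :=
  Lrfl
theorem f678874 : Led Lsl_cf v5657 = v10119 :=
  Lgr Lrot160 (Lpe (f648723 IH) (Lpe (f69080 IH) (Lpr_bt (f69079 IH) (Lpr_gt (K9.f67048 IH) (Lpe (K11.f68989 IH) (Lpr_gt (K32.f69068 IH) (Lpe (K32.f435293 IH) (Lpr_bt (f453964 IH) (Lpr_gt (f624566 IH) (Lpr_bf (f678873 IH) (Lpn v10119)))))))))))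
def v18152 : LQ := Led Lsl_ft (LP (LK LD1_c6 LD2_c26 LD3_c45))
theorem f765288 : Led Lsl_ft (LP (LK LD1_c6 LD2_c26 LD3_c45)) = v18152 :=
  Lrfl
theorem f765291 : Led Lsl_ff (LP (LK LD1_c6 LD2_c26 LD3_c45)) = v18152 :=
  Lgr Lrot3 (Lpr_ft (f765288 IH) (Lpn v18152))
theorem f632684 : Led Lsl_at (LP (LK LD1_c6 LD2_c26 LD3_c45)) = (LP (LK LD1_c3 LD2_c11 LD3_c17)) :=
  Lre_a IH (LK LD1_c6 LD2_c26 LD3_c45) (LK LD1_c3 LD2_c11 LD3_c17) Lrfl Lrfl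
theorem f765295 : Led Lsl_gf v5657 = v18152 :=
  Lgr Lrot47 (Lpe (f648723 IH) (Lpe (f632684 IH) (Lpr_ff (f765291 IH) (Lpn v18152))))
theorem f506594 : Led Lsl_ct (LP (LK LD1_c6 LD2_c26 LD3_c45)) = (LP (LK LD1_c3 LD2_c11 LD3_c16)) :=
  Lre_c IH (LK LD1_c6 LD2_c26 LD3_c45) (LK LD1_c3 LD2_c11 LD3_c16) Lrfl Lrfl
def v4326 : LQ := Led Lsl_at (LP (LK LD1_c2 LD2_c19 LD3_c27))
theorem f632656 : Led Lsl_at (LP (LK LD1_c2 LD2_c19 LD3_c27)) = v4326 :=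
  Lrfl
def v1957 : LQ := Led Lsl_ft (LP (LK LD1_c1 LD2_c32 LD3_c2))
theorem f506589 : Led Lsl_ft (LP (LK LD1_c1 LD2_c32 LD3_c2)) = v1957 :=
  Lrfl
theorem f506591 : Led Lsl_ff (LP (LK LD1_c1 LD2_c32 LD3_c2)) = v1957 :=
  Lgr Lrot3 (Lpr_ft (f506589 IH) (Lpn v1957))
theorem f506593 : Led Lsl_bt K35.v494 = v1957 :=
  Lgr Lrot35 (Lpe (K35.f453619 IH) (Lpe (f69079 IH) (Lpr_ff (f506591 IH) (Lpn v1957))))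
theorem f438436 : Led Lsl_bt (LP (LK LD1_c1 LD2_c6 LD3_c51)) = (LP (LK LD1_c2 LD2_c19 LD3_c27)) :=
  Lre_b IH (LK LD1_c1 LD2_c6 LD3_c51) (LK LD1_c2 LD2_c19 LD3_c27) Lrfl Lrfl
theorem f622792 : v1957 = (LP (LK LD1_c2 LD2_c19 LD3_c27)) :=
  Lefun (Lecon (f506593 IH) (K35.f622786 IH)) (f438436 IH)
theorem f632659 : Led Lsl_ff (LP (LK LD1_c3 LD2_c11 LD3_c16)) = v4326 :=
  Lgr Lrot30 (Lpr_at (f453627 IH) (Lpr_ft (f506589 IH) (Lpqs (f622792 IH) (Lpr_at (f632656 IH) (Lpn v4326)))))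
theorem f632661 : Led Lsl_ft (LP (LK LD1_c3 LD2_c11 LD3_c16)) = v4326 :=
  Lgr Lrot48 (Lpr_ff (f632659 IH) (Lpn v4326))
theorem f765294 : Led Lsl_ct v4326 = v18152 :=
  Lgr Lrot40 (Lpe (f632661 IH) (Lpe (f506594 IH) (Lpr_ff (f765291 IH) (Lpn v18152))))
theorem f622789 : (LP (LK LD1_c0 LD2_c42 LD3_c35)) = v1308 :=
  Lefun (Lecon (Lfl_af (K35.f453618 IH)) (K35.f622786 IH)) (f494741 IH)
theorem f632658 : Led Lsl_bf v1947 = v4326 :=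
  Lgr Lrot81 (Lpe (f506529 IH) (Lpr_bt (f153686 IH) (Lpqs (f622789 IH) (Lpe (f494742 IH) (Lpr_bt (f438436 IH) (Lpr_at (f632656 IH) (Lpn v4326)))))))
theorem f650482 : Led Lsl_bf (LP (LK LD1_c3 LD2_c16 LD3_c8)) = v6003 :=
  Lgr Lrot24 (Lpr_bt (f650481 IH) (Lpn v6003))
theorem f769591 : v4330 = (LP (LK LD1_c3 LD2_c23 LD3_c4)) :=
  (Llr Lrot124 (Lpe (f632701 IH) (Lpr_bf (f632658 IH) (Lpr_ct (f765294 IH) (Lpe (f765295 IH) (Lpr_cf (f678874 IH) (Lpqs (f768993 IH) (Lpe (f650482 IH) (Lpe (K46.f119398 IH) (Lpr_ct (K46.f119404 IH) (Lpe (K46.f443671 IH) (Lpe (K4.f64601 IH) (Lpr_bt (K3.f66585 IH) (Lpn (LP (LK LD1_c3 LD2_c23 LD3_c4)))))))))))))))).symm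
theorem f769592 : v1947 = v6522 :=
  Lefun (Lecon (Lfl_gf (f632701 IH)) (f769591 IH)) (f653764 IH)
def v8263 : LQ := Led Lsl_et v1947
theorem f670552 : Led Lsl_et v1947 = v8263 :=
  Lrfl
theorem f670554 : Led Lsl_ef v1947 = v8263 :=
  Lgr Lrot88 (Lpr_et (f670552 IH) (Lpn v8263))
theorem f769597 : Led Lsl_df v8824 = v8263 :=
  Lgr Lrot132 (Lpr_gf (f681397 IH) (Lpe (f681396 IH) (Lpqs (f768758 IH) (Lpe (f627759 IH) (Lpr_ef (f627771 IH) (Lpe (f627773 IH) (Lpr_gf (f648011 IH) (Lpqs (f768747 IH) (Lpe (f765683 IH) (Lpe (f653754 IH) (Lpe (f653772 IH) (Lpq (f769592 IH) (Lpr_ef (f670554 IH) (Lpn v8263))))))))))))))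
theorem f769599 : Led Lsl_dt v8824 = v8263 :=
  Lgr Lrot42 (Lpr_df (f769597 IH) (Lpn v8263))
theorem f670553 : Led Lsl_af v1948 = v8263 :=
  Lgr Lrot50 (Lpe (f506533 IH) (Lpr_at (f506528 IH) (Lpr_et (f670552 IH) (Lpn v8263))))
theorem f769600 : Led Lsl_af v8824 = v8266 :=
  Lgr Lrot117 (Lpr_dt (f769599 IH) (Lpe (f670553 IH) (Lpr_dt (f670558 IH) (Lpn v8266))))
theorem f769603 : v8823 = v3915 :=
  (Llr Lrot47 (Lpe (f681392 IH) (Lpe (f681397 IH) (Lpr_af (f769600 IH) (Lpe (f670563 IH) (Lpn v3915)))))).symm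
theorem f769606 : v10681 = v9623 :=
  Lefun (Lecon (f681368 IH) (f769603 IH)) (f676920 IH)
theorem f769607 : v3432 = v2821 :=
  Lefun (Lecon (Lfl_df (f681366 IH)) (f769606 IH)) (Lfl_df (f676915 IH))
theorem f769613 : v10682 = v9624 :=
  Lefun (Lecon (f681369 IH) (f769607 IH)) (f676921 IH)
theorem f769616 : v6582 = v8850 :=
  Lefun (Lecon (Lfl_df (f681371 IH)) (f769613 IH)) (Lfl_df (f676923 IH))
theorem f622830 : K35.v1959 = (LP (LK LD1_c2 LD2_c19 LD3_c31)) :=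
  Lefun (Lecon (K35.f506606 IH) (K35.f622806 IH)) (K24.f152224 IH)
def v4333 : LQ := Led Lsl_et (LP (LK LD1_c2 LD2_c19 LD3_c29))
theorem f632715 : Led Lsl_et (LP (LK LD1_c2 LD2_c19 LD3_c29)) = v4333 :=
  Lrfl
theorem f61255 : Led Lsl_et (LP (LK LD1_c2 LD2_c19 LD3_c31)) = (LP (LK LD1_c1 LD2_c6 LD3_c52)) :=
  Lre_e IH (LK LD1_c2 LD2_c19 LD3_c31) (LK LD1_c1 LD2_c6 LD3_c52) Lrfl Lrfl
theorem f632716 : Led Lsl_bf (LP (LK LD1_c2 LD2_c19 LD3_c31)) = v4333 :=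
  Lgr Lrot96 (Lpr_et (f61255 IH) (Lpr_bt (f438327 IH) (Lpr_et (f632715 IH) (Lpn v4333))))
theorem f672481 : Led Lsl_ff v4333 = v8850 :=
  Lgr Lrot25 (Lpe (f632716 IH) (Lpq (f622830 IH) (Lpr_ft (K35.f510421 IH) (Lpr_bt (f672478 IH) (Lpn v8850)))))
theorem f632704 : Led Lsl_af (LP (LK LD1_c2 LD2_c19 LD3_c29)) = v4332 :=
  Lgr Lrot0 (Lpr_at (f632703 IH) (Lpn v4332))
theorem f765304 : Led Lsl_at v4333 = v18155 :=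
  Lgr Lrot80 (Lpe (f632715 IH) (Lpr_af (f632704 IH) (Lpr_ef (f765303 IH) (Lpn v18155))))
def v6581 : LQ := Led Lsl_gt (LP (LK LD1_c3 LD2_c23 LD3_c50))
theorem f654291 : Led Lsl_gt (LP (LK LD1_c3 LD2_c23 LD3_c50)) = v6581 :=
  Lrfl
theorem f769662 : v18155 = v6581 :=
  (Llr Lrot26 (Lpe (f765304 IH) (Lpr_ff (f672481 IH) (Lpq (f769616 IH) (Lpe (f654293 IH) (Lpr_gt (f654291 IH) (Lpn v6581))))))).symm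
theorem f76878 : Led Lsl_dt (LP (LK LD1_c1 LD2_c38 LD3_c11)) = (LP (LK LD1_c3 LD2_c23 LD3_c49)) :=
  Lre_d IH (LK LD1_c1 LD2_c38 LD3_c11) (LK LD1_c3 LD2_c23 LD3_c49) Lrfl Lrfl
theorem f653964 : Led Lsl_bt (LP (LK LD1_c3 LD2_c23 LD3_c49)) = K56.v6572 :=
  Lgr Lrot95 (Lpe (f76878 IH) (Lpe (K46.f76827 IH) (Lpr_df (K56.f653963 IH) (Lpn K56.v6572))))
theorem f416455 : Led Lsl_bt (LP (LK LD1_c6 LD2_c40 LD3_c17)) = (LP (LK LD1_c3 LD2_c23 LD3_c50)) :=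
  Lgr Lrot127 (Lpr_bf (K56.f416434 IH) (Lpn (LP (LK LD1_c3 LD2_c23 LD3_c50))))
theorem f654225 : Led Lsl_ff (LP (LK LD1_c3 LD2_c23 LD3_c49)) = (LP (LK LD1_c3 LD2_c23 LD3_c50)) :=
  Lgr Lrot25 (Lpr_bt (f653964 IH) (Lpr_ft (K56.f654223 IH) (Lpr_bt (f416455 IH) (Lpn (LP (LK LD1_c3 LD2_c23 LD3_c50))))))
theorem f654258 : Led Lsl_af v6530 = (LP (LK LD1_c3 LD2_c23 LD3_c49)) :=
  Lgr Lrot45 (Lpr_ft (f654257 IH) (Lpe (f654242 IH) (Lpe (f654225 IH) (Lpn (LP (LK LD1_c3 LD2_c23 LD3_c49))))))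
theorem f654292 : Led Lsl_gf v6530 = v6581 :=
  Lgr Lrot76 (Lpr_af (f654258 IH) (Lpr_ff (f654225 IH) (Lpr_gt (f654291 IH) (Lpn v6581))))
def v6588 : LQ := Led Lsl_dt (LP (LK LD1_c3 LD2_c23 LD3_c54))
theorem f654314 : Led Lsl_dt (LP (LK LD1_c3 LD2_c23 LD3_c54)) = v6588 :=
  Lrfl
theorem f76890 : Led Lsl_et (LP (LK LD1_c1 LD2_c38 LD3_c12)) = (LP (LK LD1_c3 LD2_c23 LD3_c54)) :=
  Lre_e IH (LK LD1_c1 LD2_c38 LD3_c12) (LK LD1_c3 LD2_c23 LD3_c54) Lrfl Lrfl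
theorem f76888 : Led Lsl_ef (LP (LK LD1_c3 LD2_c23 LD3_c53)) = (LP (LK LD1_c3 LD2_c23 LD3_c8)) :=
  Lgr Lrot88 (Lpr_et (K2.f76884 IH) (Lpn (LP (LK LD1_c3 LD2_c23 LD3_c8))))
theorem f654317 : Led Lsl_ef v6530 = v6588 :=
  Lgr Lrot73 (Lpe (f653818 IH) (Lpe (f76888 IH) (Lpr_dt (K2.f76845 IH) (Lpr_et (f76890 IH) (Lpr_dt (f654314 IH) (Lpn v6588))))))
theorem f654316 : Led Lsl_df (LP (LK LD1_c3 LD2_c23 LD3_c54)) = v6588 :=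
  Lgr Lrot38 (Lpr_dt (f654314 IH) (Lpn v6588))
def v6587 : LQ := Led Lsl_gt (LP (LK LD1_c3 LD2_c23 LD3_c54))
theorem f654313 : Led Lsl_gt (LP (LK LD1_c3 LD2_c23 LD3_c54)) = v6587 :=
  Lrfl
theorem f654321 : Led Lsl_ft (LP (LK LD1_c3 LD2_c23 LD3_c54)) = v6588 :=
  Lgr Lrot86 (Lpe (f76890 IH) (Lpqs (K51.f653993 IH) (Lpe (K51.f653819 IH) (Lpe (K2.f76884 IH) (Lpe (f654257 IH) (Lpr_ef (f654317 IH) (Lpn v6588)))))))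
def v6532 : LQ := Led Lsl_et (LP (LK LD1_c3 LD2_c23 LD3_c9))
theorem f653823 : Led Lsl_et (LP (LK LD1_c3 LD2_c23 LD3_c9)) = v6532 :=
  Lrfl
theorem f653826 : Led Lsl_ef (LP (LK LD1_c3 LD2_c23 LD3_c9)) = v6532 :=
  Lgr Lrot88 (Lpr_et (f653823 IH) (Lpn v6532))
theorem f654234 : Led Lsl_af v6532 = (LP (LK LD1_c3 LD2_c23 LD3_c54)) :=
  Lgr Lrot50 (Lpe (f653826 IH) (Lpr_at (K51.f653822 IH) (Lpq (K51.f653993 IH) (Lpr_et (f76890 IH) (Lpn (LP (LK LD1_c3 LD2_c23 LD3_c54)))))))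
theorem f654235 : Led Lsl_at v6532 = (LP (LK LD1_c3 LD2_c23 LD3_c54)) :=
  Lgr Lrot100 (Lpr_af (f654234 IH) (Lpn (LP (LK LD1_c3 LD2_c23 LD3_c54))))
theorem f76846 : Led Lsl_et (LP (LK LD1_c3 LD2_c23 LD3_c49)) = (LP (LK LD1_c6 LD2_c50 LD3_c46)) :=
  Lre_e IH (LK LD1_c3 LD2_c23 LD3_c49) (LK LD1_c6 LD2_c50 LD3_c46) Lrfl Lrfl
theorem f653828 : Led Lsl_dt (LP (LK LD1_c6 LD2_c50 LD3_c46)) = v6532 :=
  Lgr Lrot77 (Lpe (f76846 IH) (Lpe (f76878 IH) (Lpe (K56.f76833 IH) (Lpr_df (K56.f93231 IH) (Lpr_ef (f653826 IH) (Lpn v6532))))))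
theorem f654315 : Led Lsl_af (LP (LK LD1_c6 LD2_c50 LD3_c46)) = v6588 :=
  Lgr Lrot117 (Lpr_dt (f653828 IH) (Lpr_at (f654235 IH) (Lpr_dt (f654314 IH) (Lpn v6588))))
theorem f654323 : Led Lsl_gt v6587 = (LP (LK LD1_c6 LD2_c50 LD3_c46)) :=
  Lgr Lrot46 (Lpe (f654313 IH) (Lpr_ft (f654321 IH) (Lpe (f654315 IH) (Lpn (LP (LK LD1_c6 LD2_c50 LD3_c46))))))
theorem f76823 : Led Lsl_dt (LP (LK LD1_c3 LD2_c23 LD3_c49)) = (LP (LK LD1_c1 LD2_c38 LD3_c11)) :=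
  Lre_d IH (LK LD1_c3 LD2_c23 LD3_c49) (LK LD1_c1 LD2_c38 LD3_c11) Lrfl Lrfl
theorem f93234 : Led Lsl_et (LP (LK LD1_c6 LD2_c50 LD3_c46)) = (LP (LK LD1_c3 LD2_c23 LD3_c49)) :=
  Lre_e IH (LK LD1_c6 LD2_c50 LD3_c46) (LK LD1_c3 LD2_c23 LD3_c49) Lrfl Lrfl
theorem f653825 : Led Lsl_df (LP (LK LD1_c6 LD2_c50 LD3_c46)) = v6532 :=
  Lgr Lrot70 (Lpr_et (f93234 IH) (Lpr_dt (f76823 IH) (Lpr_et (K56.f93233 IH) (Lpr_dt (K56.f90588 IH) (Lpr_et (f653823 IH) (Lpn v6532))))))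
theorem f85165 : Led Lsl_et (LP (LK LD1_c0 LD2_c51 LD3_c35)) = (LP (LK LD1_c1 LD2_c49 LD3_c31)) :=
  Lre_e IH (LK LD1_c0 LD2_c51 LD3_c35) (LK LD1_c1 LD2_c49 LD3_c31) Lrfl Lrfl
def v2606 : LQ := Led Lsl_gt (LP (LK LD1_c1 LD2_c49 LD3_c31))
theorem f527757 : Led Lsl_gt (LP (LK LD1_c1 LD2_c49 LD3_c31)) = v2606 :=
  Lrfl
theorem f654324 : Led Lsl_df v6587 = v2606 :=
  Lgr Lrot135 (Lpr_gt (f654323 IH) (Lpr_df (f653825 IH) (Lpe (f653826 IH) (Lpr_gt (K46.f76808 IH) (Lpe (K2.f23361 IH) (Lpr_dt (K1.f9783 IH) (Lpe (K2.f95253 IH) (Lpe (K2.f15030 IH) (Lpr_et (f85165 IH) (Lpr_gt (f527757 IH) (Lpn v2606)))))))))))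
def v9323 : LQ := Led Lsl_et v2606
theorem f675380 : Led Lsl_et v2606 = v9323 :=
  Lrfl
def v18454 : LQ := Led Lsl_ft (LP (LK LD1_c6 LD2_c29 LD3_c49))
theorem f767040 : Led Lsl_ft (LP (LK LD1_c6 LD2_c29 LD3_c49)) = v18454 :=
  Lrfl
theorem f767043 : Led Lsl_ff (LP (LK LD1_c6 LD2_c29 LD3_c49)) = v18454 :=
  Lgr Lrot3 (Lpr_ft (f767040 IH) (Lpn v18454))
def v17422 : LQ := Led Lsl_at (LP (LK LD1_c6 LD2_c19 LD3_c2))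
theorem f759688 : Led Lsl_at (LP (LK LD1_c6 LD2_c19 LD3_c2)) = v17422 :=
  Lrfl
theorem f759691 : Led Lsl_ff (LP (LK LD1_c6 LD2_c19 LD3_c5)) = v17422 :=
  Lgr Lrot30 (Lpe (K51.f709665 IH) (Lpe (f709663 IH) (Lpr_at (f759688 IH) (Lpn v17422))))
theorem f759693 : Led Lsl_ft (LP (LK LD1_c6 LD2_c19 LD3_c5)) = v17422 :=
  Lgr Lrot48 (Lpr_ff (f759691 IH) (Lpn v17422))
theorem f767046 : Led Lsl_et v17422 = v18454 :=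
  Lgr Lrot69 (Lpe (f759693 IH) (Lpr_ef (K51.f90586 IH) (Lpq (K51.f709667 IH) (Lpe (K52.f649186 IH) (Lpe (f66748 IH) (Lpr_ff (f767043 IH) (Lpn v18454)))))))
theorem f77079 : Led Lsl_dt (LP (LK LD1_c3 LD2_c6 LD3_c56)) = (LP (LK LD1_c6 LD2_c19 LD3_c2)) :=
  Lre_d IH (LK LD1_c3 LD2_c6 LD3_c56) (LK LD1_c6 LD2_c19 LD3_c2) Lrfl Lrfl
theorem f759690 : Led Lsl_df K51.v5369 = v17422 :=
  Lgr Lrot18 (Lpe (K51.f647276 IH) (Lpr_dt (f77079 IH) (Lpr_at (f759688 IH) (Lpn v17422))))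
theorem f76797 : Led Lsl_dt (LP (LK LD1_c1 LD2_c37 LD3_c60)) = (LP (LK LD1_c3 LD2_c6 LD3_c53)) :=
  Lgr Lrot42 (Lpr_df (K2.f76753 IH) (Lpn (LP (LK LD1_c3 LD2_c6 LD3_c53))))
theorem f767048 : Led Lsl_gf v9323 = v18454 :=
  Lgr Lrot141 (Lpe (f675380 IH) (Lpe (f654324 IH) (Lpr_gt (f654323 IH) (Lpr_df (f653825 IH) (Lpe (f653826 IH) (Lpr_gt (K46.f76808 IH) (Lpr_dt (f76797 IH) (Lpr_gt (K51.f647257 IH) (Lpqs (K51.f709639 IH) (Lpr_df (f759690 IH) (Lpr_et (f767046 IH) (Lpn v18454))))))))))))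
theorem f766961 : Led Lsl_ef (LP (LK LD1_c6 LD2_c29 LD3_c37)) = v18434 :=
  Lgr Lrot88 (Lpr_et (f766958 IH) (Lpn v18434))
theorem f446992 : Led Lsl_et (LP (LK LD1_c3 LD2_c12 LD3_c51)) = (LP (LK LD1_c6 LD2_c29 LD3_c49)) :=
  Lre_e IH (LK LD1_c3 LD2_c12 LD3_c51) (LK LD1_c6 LD2_c29 LD3_c49) Lrfl Lrfl
theorem f766969 : Led Lsl_at (LP (LK LD1_c6 LD2_c29 LD3_c49)) = v18434 :=
  Lgr Lrot80 (Lpe (f446992 IH) (Lpr_af (K56.f649196 IH) (Lpq (K56.f709726 IH) (Lpqs (K56.f670926 IH) (Lpr_ef (f766961 IH) (Lpn v18434))))))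
theorem f767049 : Led Lsl_gt v9323 = v18434 :=
  Lgr Lrot46 (Lpr_gf (f767048 IH) (Lpe (f767043 IH) (Lpr_at (f766969 IH) (Lpn v18434))))
theorem f769663 : v18121 = v18434 :=
  (Llr Lrot135 (Lpe (f765145 IH) (Lpr_gt (f702609 IH) (Lpqs (f768703 IH) (Lpe (f155015 IH) (Lpr_et (f653880 IH) (Lpq (f768710 IH) (Lpqs (f769662 IH) (Lpe (f654292 IH) (Lpr_ef (f654317 IH) (Lpe (f654316 IH) (Lpr_gt (f654313 IH) (Lpr_df (f654324 IH) (Lpr_et (f675380 IH) (Lpr_gt (f767049 IH) (Lpn v18434)))))))))))))))).symm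
def v18123 : LQ := Led Lsl_ft (LP (LK LD1_c6 LD2_c26 LD3_c30))
theorem f765149 : Led Lsl_ft (LP (LK LD1_c6 LD2_c26 LD3_c30)) = v18123 :=
  Lrfl
theorem f769664 : Led Lsl_df (LP (LK LD1_c12 LD2_c13 LD3_c53)) = v18123 :=
  Lgr Lrot78 (Lpr_ft (f766963 IH) (Lpq (f769663 IH) (Lpe (f765145 IH) (Lpr_ft (f765149 IH) (Lpn v18123)))))
theorem f767045 : Led Lsl_at (LP (LK LD1_c12 LD2_c13 LD3_c53)) = v18454 :=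
  Lgr Lrot66 (Lpr_ff (f766962 IH) (Lpe (f766969 IH) (Lpr_ff (f767043 IH) (Lpn v18454))))
theorem f759692 : Led Lsl_dt K51.v5369 = v17422 :=
  Lgr Lrot60 (Lpe (K51.f647277 IH) (Lpe (K2.f76834 IH) (Lpr_ff (f759691 IH) (Lpn v17422))))
theorem f762472 : Led Lsl_ef (LP (LK LD1_c6 LD2_c23 LD3_c16)) = v17857 :=
  Lgr Lrot88 (Lpr_et (f762471 IH) (Lpn v17857))
theorem f767047 : Led Lsl_df v17857 = v18454 :=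
  Lgr Lrot70 (Lpe (f762472 IH) (Lpr_dt (K57.f759711 IH) (Lpe (K57.f759702 IH) (Lpr_dt (f759692 IH) (Lpr_et (f767046 IH) (Lpn v18454))))))
theorem f765151 : Led Lsl_ff (LP (LK LD1_c6 LD2_c26 LD3_c30)) = v18123 :=
  Lgr Lrot3 (Lpr_ft (f765149 IH) (Lpn v18123))
def v18119 : LQ := Led Lsl_at (LP (LK LD1_c6 LD2_c26 LD3_c30))
theorem f765127 : Led Lsl_at (LP (LK LD1_c6 LD2_c26 LD3_c30)) = v18119 :=
  Lrfl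
theorem f765128 : Led Lsl_af (LP (LK LD1_c6 LD2_c26 LD3_c30)) = v18119 :=
  Lgr Lrot0 (Lpr_at (f765127 IH) (Lpn v18119))
theorem f765129 : Led Lsl_ft (LP (LK LD1_c6 LD2_c26 LD3_c31)) = v18119 :=
  Lgr Lrot2 (Lpr_gt (f504168 IH) (Lpr_gt (K57.f437417 IH) (Lpr_af (f765128 IH) (Lpn v18119))))
theorem f765131 : Led Lsl_ff (LP (LK LD1_c6 LD2_c26 LD3_c31)) = v18119 :=
  Lgr Lrot3 (Lpr_ft (f765129 IH) (Lpn v18119))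
theorem f765152 : Led Lsl_at (LP (LK LD1_c6 LD2_c26 LD3_c31)) = v18123 :=
  Lgr Lrot66 (Lpr_ff (f765131 IH) (Lpe (f765127 IH) (Lpr_ff (f765151 IH) (Lpn v18123))))
theorem f769667 : v17857 = (LP (LK LD1_c6 LD2_c26 LD3_c31)) :=
  (Llr Lrot44 (Lpr_df (f767047 IH) (Lpe (f767045 IH) (Lpr_df (f769664 IH) (Lpe (f765152 IH) (Lpn (LP (LK LD1_c6 LD2_c26 LD3_c31)))))))).symm
theorem f769670 : Led Lsl_et (LP (LK LD1_c6 LD2_c23 LD3_c16)) = (LP (LK LD1_c6 LD2_c26 LD3_c31)) :=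
  Leop (Lpq (f769667 IH) (Lpe (f762471 IH) (Lpn (LP (LK LD1_c6 LD2_c23 LD3_c16)))))
theorem seed_1262 : LEOK LG_e (LK LD1_c6 LD2_c23 LD3_c16) :=
  Leoe_e (LK LD1_c6 LD2_c23 LD3_c16) (f769670 IH)
def v6488 : LQ := Led Lsl_gt (LP (LK LD1_c3 LD2_c22 LD3_c39))
theorem f653613 : Led Lsl_gt (LP (LK LD1_c3 LD2_c22 LD3_c39)) = v6488 :=
  Lrfl
def v6493 : LQ := Led Lsl_dt (LP (LK LD1_c3 LD2_c22 LD3_c42))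
theorem f653631 : Led Lsl_dt (LP (LK LD1_c3 LD2_c22 LD3_c42)) = v6493 :=
  Lrfl
theorem f653632 : Led Lsl_df (LP (LK LD1_c3 LD2_c22 LD3_c42)) = v6493 :=
  Lgr Lrot38 (Lpr_dt (f653631 IH) (Lpn v6493))
def v6494 : LQ := Led Lsl_et (LP (LK LD1_c3 LD2_c22 LD3_c42))
theorem f653633 : Led Lsl_et (LP (LK LD1_c3 LD2_c22 LD3_c42)) = v6494 :=
  Lrfl
theorem f653634 : Led Lsl_ef (LP (LK LD1_c3 LD2_c22 LD3_c42)) = v6494 :=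
  Lgr Lrot88 (Lpr_et (f653633 IH) (Lpn v6494))
theorem f76853 : Led Lsl_gt (LP (LK LD1_c3 LD2_c22 LD3_c42)) = (LP (LK LD1_c6 LD2_c48 LD3_c60)) :=
  Lre_g IH (LK LD1_c3 LD2_c22 LD3_c42) (LK LD1_c6 LD2_c48 LD3_c60) Lrfl Lrfl
theorem f76840 : Led Lsl_bt (LP (LK LD1_c3 LD2_c23 LD3_c10)) = (LP (LK LD1_c6 LD2_c48 LD3_c60)) :=
  Lre_b IH (LK LD1_c3 LD2_c23 LD3_c10) (LK LD1_c6 LD2_c48 LD3_c60) Lrfl Lrfl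
theorem f76841 : Led Lsl_dt (LP (LK LD1_c6 LD2_c48 LD3_c60)) = (LP (LK LD1_c6 LD2_c29 LD3_c20)) :=
  Lgr Lrot79 (Lpe (f76840 IH) (Lpr_df (K2.f76815 IH) (Lpr_bf (K2.f66974 IH) (Lpn (LP (LK LD1_c6 LD2_c29 LD3_c20))))))
theorem f67001 : Led Lsl_gt (LP (LK LD1_c6 LD2_c29 LD3_c20)) = (LP (LK LD1_c3 LD2_c12 LD3_c40)) :=
  Lre_g IH (LK LD1_c6 LD2_c29 LD3_c20) (LK LD1_c3 LD2_c12 LD3_c40) Lrfl Lrfl
theorem f76617 : Led Lsl_gt (LP (LK LD1_c6 LD2_c18 LD3_c16)) = (LP (LK LD1_c3 LD2_c6 LD3_c33)) :=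
  Lre_g IH (LK LD1_c6 LD2_c18 LD3_c16) (LK LD1_c3 LD2_c6 LD3_c33) Lrfl Lrfl
theorem f73746 : Led Lsl_dt (LP (LK LD1_c3 LD2_c12 LD3_c41)) = (LP (LK LD1_c3 LD2_c22 LD3_c44)) :=
  Lgr Lrot79 (Lpe (K2.f61482 IH) (Lpr_df (K2.f73738 IH) (Lpe (K16.f73745 IH) (Lpn (LP (LK LD1_c3 LD2_c22 LD3_c44))))))
theorem f653588 : Led Lsl_gt (LP (LK LD1_c3 LD2_c22 LD3_c44)) = K50.v6483 :=
  Lgr Lrot5 (Lpr_ft (K2.f76900 IH) (Lpr_at (K50.f76901 IH) (Lpr_gf (K50.f653587 IH) (Lpn K50.v6483))))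
theorem f653635 : Led Lsl_df K50.v6483 = v6494 :=
  Lgr Lrot168 (Lpe (f653588 IH) (Lpe (f73746 IH) (Lpr_et (K2.f68291 IH) (Lpe (f76617 IH) (Lpr_ef (K57.f649147 IH) (Lpe (K57.f649146 IH) (Lpe (f67001 IH) (Lpe (f76841 IH) (Lpe (f76853 IH) (Lpr_ef (f653634 IH) (Lpn v6494)))))))))))
theorem f653636 : Led Lsl_dt K50.v6483 = v6494 :=
  Lgr Lrot42 (Lpr_df (f653635 IH) (Lpn v6494))
theorem f674530 : Led Lsl_ff v6493 = v6494 :=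
  Lgr Lrot19 (Lpe (f653632 IH) (Lpr_ft (K50.f653637 IH) (Lpq (K50.f674529 IH) (Lpr_dt (f653636 IH) (Lpn v6494)))))
def v18151 : LQ := Led Lsl_et (LP (LK LD1_c6 LD2_c26 LD3_c45))
theorem f765281 : Led Lsl_et (LP (LK LD1_c6 LD2_c26 LD3_c45)) = v18151 :=
  Lrfl
theorem f765285 : Led Lsl_ef (LP (LK LD1_c6 LD2_c26 LD3_c45)) = v18151 :=
  Lgr Lrot88 (Lpr_et (f765281 IH) (Lpn v18151))
theorem f765287 : Led Lsl_ct (LP (LK LD1_c6 LD2_c26 LD3_c47)) = v18151 :=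
  Lgr Lrot15 (Lpe (f67279 IH) (Lpe (f506594 IH) (Lpr_ef (f765285 IH) (Lpn v18151))))
def v2098 : LQ := Led Lsl_dt (LP (LK LD1_c1 LD2_c35 LD3_c39))
theorem f508836 : Led Lsl_dt (LP (LK LD1_c1 LD2_c35 LD3_c39)) = v2098 :=
  Lrfl
theorem f508837 : Led Lsl_bf (LP (LK LD1_c1 LD2_c35 LD3_c41)) = v2098 :=
  Lgr Lrot93 (Lpr_dt (K5.f130806 IH) (Lpr_bt (K49.f453900 IH) (Lpr_dt (f508836 IH) (Lpn v2098))))
def v8579 : LQ := Led Lsl_ct v2098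
theorem f671665 : Led Lsl_ct v2098 = v8579 :=
  Lrfl
theorem f769758 : Led Lsl_gt v18151 = v8579 :=
  Lgr Lrot65 (Lpe (f765287 IH) (Lpr_bt (f765300 IH) (Lpqs (f768710 IH) (Lpq (f768710 IH) (Lpqs (f769662 IH) (Lpe (f654291 IH) (Lpe (f416455 IH) (Lpr_ct (K56.f650522 IH) (Lpe (K46.f650525 IH) (Lpe (K46.f508841 IH) (Lpe (K32.f453865 IH) (Lpr_bf (f508837 IH) (Lpr_ct (f671665 IH) (Lpn v8579))))))))))))))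
def v18154 : LQ := Led Lsl_gf (LP (LK LD1_c6 LD2_c26 LD3_c47))
theorem f765298 : Led Lsl_gf (LP (LK LD1_c6 LD2_c26 LD3_c47)) = v18154 :=
  Lrfl
theorem f671666 : Led Lsl_cf v2098 = v8579 :=
  Lgr Lrot11 (Lpr_ct (f671665 IH) (Lpn v8579))
theorem f769759 : v18154 = v6494 :=
  (Llr Lrot147 (Lpe (f765298 IH) (Lpr_ct (f765287 IH) (Lpr_gt (f769758 IH) (Lpe (f671666 IH) (Lpe (f508836 IH) (Lpe (K46.f416449 IH) (Lpr_gf (K50.f416440 IH) (Lpr_cf (K50.f79446 IH) (Lpr_gf (K50.f653587 IH) (Lpr_df (f653635 IH) (Lpn v6494)))))))))))).symm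
def v18153 : LQ := Led Lsl_gt (LP (LK LD1_c6 LD2_c26 LD3_c47))
theorem f765297 : Led Lsl_gt (LP (LK LD1_c6 LD2_c26 LD3_c47)) = v18153 :=
  Lrfl
theorem f769760 : Led Lsl_at v6493 = v18153 :=
  Lgr Lrot26 (Lpr_ff (f674530 IH) (Lpq (f769759 IH) (Lpe (f765298 IH) (Lpr_gt (f765297 IH) (Lpn v18153)))))
theorem f769762 : Led Lsl_df K49.v6491 = v18153 :=
  Lgr Lrot18 (Lpe (K49.f653626 IH) (Lpr_dt (f653631 IH) (Lpr_at (f769760 IH) (Lpn v18153))))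
def v17368 : LQ := Led Lsl_et (LP (LK LD1_c6 LD2_c18 LD3_c17))
theorem f758973 : Led Lsl_et (LP (LK LD1_c6 LD2_c18 LD3_c17)) = v17368 :=
  Lrfl
theorem f758975 : Led Lsl_ef (LP (LK LD1_c6 LD2_c18 LD3_c17)) = v17368 :=
  Lgr Lrot88 (Lpr_et (f758973 IH) (Lpn v17368))
theorem f67286 : Led Lsl_dt (LP (LK LD1_c3 LD2_c11 LD3_c16)) = (LP (LK LD1_c6 LD2_c26 LD3_c46)) :=
  Lre_d IH (LK LD1_c3 LD2_c11 LD3_c16) (LK LD1_c6 LD2_c26 LD3_c46) Lrfl Lrfl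
theorem f67283 : Led Lsl_at (LP (LK LD1_c3 LD2_c11 LD3_c18)) = (LP (LK LD1_c6 LD2_c26 LD3_c46)) :=
  Lre_a IH (LK LD1_c3 LD2_c11 LD3_c18) (LK LD1_c6 LD2_c26 LD3_c46) Lrfl Lrfl
theorem f438372 : Led Lsl_gt (LP (LK LD1_c4 LD2_c43 LD3_c26)) = (LP (LK LD1_c9 LD2_c20 LD3_c11)) :=
  Lre_g IH (LK LD1_c4 LD2_c43 LD3_c26) (LK LD1_c9 LD2_c20 LD3_c11) Lrfl Lrfl
theorem f623790 : Led Lsl_gf (LP (LK LD1_c6 LD2_c26 LD3_c46)) = (LP (LK LD1_c9 LD2_c20 LD3_c11)) :=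
  Lgr Lrot76 (Lpe (f67283 IH) (Lpr_ff (K50.f623784 IH) (Lpr_gt (f438372 IH) (Lpn (LP (LK LD1_c9 LD2_c20 LD3_c11))))))
theorem f769790 : Led Lsl_dt v17368 = (LP (LK LD1_c9 LD2_c20 LD3_c11)) :=
  Lgr Lrot136 (Lpe (f758975 IH) (Lpe (K57.f76618 IH) (Lpe (K2.f68291 IH) (Lpr_dt (f73746 IH) (Lpr_gf (K49.f653586 IH) (Lpq (K50.f674532 IH) (Lpr_df (f769762 IH) (Lpe (f765297 IH) (Lpe (f67279 IH) (Lpr_dt (f67286 IH) (Lpr_gf (f623790 IH) (Lpn (LP (LK LD1_c9 LD2_c20 LD3_c11))))))))))))))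
theorem f622795 : Led Lsl_dt (LP (LK LD1_c2 LD2_c19 LD3_c27)) = (LP (LK LD1_c4 LD2_c43 LD3_c26)) :=
  Lre_d IH (LK LD1_c2 LD2_c19 LD3_c27) (LK LD1_c4 LD2_c43 LD3_c26) Lrfl Lrfl
theorem f769793 : v6488 = (LP (LK LD1_c2 LD2_c19 LD3_c27)) :=
  (Llr Lrot137 (Lpe (f653613 IH) (Lpe (K4.f79625 IH) (Lpe (K4.f79623 IH) (Lpr_gf (K4.f79619 IH) (Lpe (K2.f25117 IH) (Lpr_et (K57.f76644 IH) (Lpe (K57.f67916 IH) (Lpr_ef (f758975 IH) (Lpr_dt (f769790 IH) (Lpe (f438372 IH) (Lpe (f622795 IH) (Lpn (LP (LK LD1_c2 LD2_c19 LD3_c27))))))))))))))).symm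
theorem f769796 : Led Lsl_gt (LP (LK LD1_c3 LD2_c22 LD3_c39)) = (LP (LK LD1_c2 LD2_c19 LD3_c27)) :=
  Leop (Lpq (f769793 IH) (Lpe (f653613 IH) (Lpn (LP (LK LD1_c3 LD2_c22 LD3_c39)))))
theorem seed_1263 : LEOK LG_g (LK LD1_c3 LD2_c22 LD3_c39) :=
  Leoe_g (LK LD1_c3 LD2_c22 LD3_c39) (f769796 IH)
theorem f632657 : Led Lsl_af (LP (LK LD1_c2 LD2_c19 LD3_c27)) = v4326 :=
  Lgr Lrot0 (Lpr_at (f632656 IH) (Lpn v4326))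
def v4325 : LQ := Led Lsl_gf (LP (LK LD1_c2 LD2_c19 LD3_c27))
theorem f632655 : Led Lsl_gf (LP (LK LD1_c2 LD2_c19 LD3_c27)) = v4325 :=
  Lrfl
theorem f632675 : Led Lsl_gt (LP (LK LD1_c3 LD2_c11 LD3_c16)) = v4325 :=
  Lgr Lrot5 (Lpr_ft (f632661 IH) (Lpe (f632657 IH) (Lpr_gf (f632655 IH) (Lpn v4325))))
theorem f769795 : (LP (LK LD1_c3 LD2_c22 LD3_c39)) = v4325 :=
  Lefun (Lecon (Lfl_gt (f653613 IH)) (f769793 IH)) (f632655 IH)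
theorem f769798 : Led Lsl_gt (LP (LK LD1_c3 LD2_c11 LD3_c16)) = (LP (LK LD1_c3 LD2_c22 LD3_c39)) :=
  Leop (Lpqs (f769795 IH) (Lpe (f632675 IH) (Lpn (LP (LK LD1_c3 LD2_c11 LD3_c16)))))
theorem seed_1264 : LEOK LG_g (LK LD1_c3 LD2_c11 LD3_c16) :=
  Leoe_g (LK LD1_c3 LD2_c11 LD3_c16) (f769798 IH)
def v13360 : LQ := Led Lsl_at (LP (LK LD1_c4 LD2_c43 LD3_c25))
theorem f702520 : Led Lsl_at (LP (LK LD1_c4 LD2_c43 LD3_c25)) = v13360 :=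
  Lrfl
def v6490 : LQ := Led Lsl_ft (LP (LK LD1_c3 LD2_c22 LD3_c39))
theorem f653616 : Led Lsl_ft (LP (LK LD1_c3 LD2_c22 LD3_c39)) = v6490 :=
  Lrfl
theorem f653619 : Led Lsl_ff (LP (LK LD1_c3 LD2_c22 LD3_c39)) = v6490 :=
  Lgr Lrot3 (Lpr_ft (f653616 IH) (Lpn v6490))
def v5335 : LQ := Led Lsl_ft (LP (LK LD1_c3 LD2_c6 LD3_c17))
theorem f647153 : Led Lsl_ft (LP (LK LD1_c3 LD2_c6 LD3_c17)) = v5335 :=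
  Lrfl
theorem f653621 : Led Lsl_at v5335 = v6490 :=
  Lgr Lrot66 (Lpe (f647153 IH) (Lpe (K4.f113873 IH) (Lpr_ff (f653619 IH) (Lpn v6490))))
theorem f113875 : Led Lsl_af (LP (LK LD1_c3 LD2_c22 LD3_c39)) = (LP (LK LD1_c3 LD2_c6 LD3_c17)) :=
  Lgr Lrot0 (Lpr_at (K4.f113873 IH) (Lpn (LP (LK LD1_c3 LD2_c6 LD3_c17))))
theorem f647155 : Led Lsl_ff (LP (LK LD1_c3 LD2_c6 LD3_c17)) = v5335 :=
  Lgr Lrot3 (Lpr_ft (f647153 IH) (Lpn v5335))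
theorem f653617 : Led Lsl_af v5335 = v6490 :=
  Lgr Lrot45 (Lpe (f647155 IH) (Lpe (f113875 IH) (Lpr_ft (f653616 IH) (Lpn v6490))))
theorem f653620 : Led Lsl_gt v6488 = v5335 :=
  Lgr Lrot46 (Lpe (f653613 IH) (Lpr_ft (f653616 IH) (Lpe (f653617 IH) (Lpn v5335))))
theorem f438437 : Led Lsl_gt (LP (LK LD1_c2 LD2_c19 LD3_c27)) = (LP (LK LD1_c4 LD2_c43 LD3_c25)) :=
  Lre_g IH (LK LD1_c2 LD2_c19 LD3_c27) (LK LD1_c4 LD2_c43 LD3_c25) Lrfl Lrfl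
theorem f769794 : v5335 = (LP (LK LD1_c4 LD2_c43 LD3_c25)) :=
  Lefun (Lecon (f653620 IH) (f769793 IH)) (f438437 IH)
theorem f769799 : v6490 = v13360 :=
  Lefun (Lecon (f653621 IH) (f769794 IH)) (f702520 IH)
def v7205 : LQ := Led Lsl_ft (LP (LK LD1_c3 LD2_c42 LD3_c4))
theorem f662267 : Led Lsl_ft (LP (LK LD1_c3 LD2_c42 LD3_c4)) = v7205 :=
  Lrfl
theorem f114941 : Led Lsl_bt (LP (LK LD1_c3 LD2_c22 LD3_c39)) = (LP (LK LD1_c3 LD2_c42 LD3_c4)) :=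
  Lgr Lrot127 (Lpr_bf (K11.f114939 IH) (Lpn (LP (LK LD1_c3 LD2_c42 LD3_c4))))
theorem f662268 : Led Lsl_bf v6490 = v7205 :=
  Lgr Lrot61 (Lpe (f653619 IH) (Lpr_bt (f114941 IH) (Lpr_ft (f662267 IH) (Lpn v7205))))
def v5653 : LQ := Led Lsl_bt (LP (LK LD1_c3 LD2_c11 LD3_c15))
theorem f648709 : Led Lsl_bt (LP (LK LD1_c3 LD2_c11 LD3_c15)) = v5653 :=
  Lrfl
theorem f648710 : Led Lsl_bf (LP (LK LD1_c3 LD2_c11 LD3_c15)) = v5653 :=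
  Lgr Lrot24 (Lpr_bt (f648709 IH) (Lpn v5653))
def v2507 : LQ := Led Lsl_et (LP (LK LD1_c1 LD2_c46 LD3_c56))
def v9185 : LQ := Led Lsl_ft v2507
theorem f673937 : Led Lsl_ft v2507 = v9185 :=
  Lrfl
def v9183 : LQ := Led Lsl_gt v2507
theorem f673934 : Led Lsl_gt v2507 = v9183 :=
  Lrfl
theorem f523675 : Led Lsl_et (LP (LK LD1_c1 LD2_c46 LD3_c56)) = v2507 :=
  Lrfl
theorem f523678 : Led Lsl_ef (LP (LK LD1_c1 LD2_c46 LD3_c56)) = v2507 :=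
  Lgr Lrot88 (Lpr_et (f523675 IH) (Lpn v2507))
theorem f523679 : Led Lsl_at (LP (LK LD1_c3 LD2_c42 LD3_c4)) = v2507 :=
  Lgr Lrot80 (Lpe (K11.f114938 IH) (Lpe (K4.f114962 IH) (Lpr_ef (f523678 IH) (Lpn v2507))))
theorem f662270 : Led Lsl_ff (LP (LK LD1_c3 LD2_c42 LD3_c4)) = v7205 :=
  Lgr Lrot3 (Lpr_ft (f662267 IH) (Lpn v7205))
theorem f673938 : Led Lsl_af v7205 = v9185 :=
  Lgr Lrot45 (Lpe (f662270 IH) (Lpr_at (f523679 IH) (Lpr_ft (f673937 IH) (Lpn v9185))))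
theorem f673941 : Led Lsl_gt v9183 = v7205 :=
  Lgr Lrot46 (Lpe (f673934 IH) (Lpr_ft (f673937 IH) (Lpe (f673938 IH) (Lpn v7205))))
def v9778 : LQ := Led Lsl_gt v3069
theorem f677573 : Led Lsl_gt v3069 = v9778 :=
  Lrfl
theorem f101951 : Led Lsl_et (LP (LK LD1_c4 LD2_c45 LD3_c15)) = (LP (LK LD1_c2 LD2_c20 LD3_c45)) :=
  Lre_e IH (LK LD1_c4 LD2_c45 LD3_c15) (LK LD1_c2 LD2_c20 LD3_c45) Lrfl Lrfl
theorem f99150 : Led Lsl_et (LP (LK LD1_c3 LD2_c5 LD3_c48)) = (LP (LK LD1_c6 LD2_c17 LD3_c15)) :=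
  Lre_e IH (LK LD1_c3 LD2_c5 LD3_c48) (LK LD1_c6 LD2_c17 LD3_c15) Lrfl Lrfl
theorem f102123 : Led Lsl_cf (LP (LK LD1_c4 LD2_c45 LD3_c15)) = (LP (LK LD1_c6 LD2_c17 LD3_c15)) :=
  Lgr Lrot39 (Lpr_et (f101951 IH) (Lpr_ct (K4.f102118 IH) (Lpr_et (f99150 IH) (Lpn (LP (LK LD1_c6 LD2_c17 LD3_c15))))))
theorem f523680 : Led Lsl_bt (LP (LK LD1_c6 LD2_c17 LD3_c15)) = v2507 :=
  Lgr Lrot119 (Lpe (f99150 IH) (Lpe (K4.f102252 IH) (Lpr_ef (f523678 IH) (Lpn v2507))))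
def v13548 : LQ := Led Lsl_gf (LP (LK LD1_c4 LD2_c45 LD3_c15))
theorem f703552 : Led Lsl_gf (LP (LK LD1_c4 LD2_c45 LD3_c15)) = v13548 :=
  Lrfl
def v6299 : LQ := Led Lsl_gf (LP (LK LD1_c3 LD2_c20 LD3_c2))
theorem f652632 : Led Lsl_gf (LP (LK LD1_c3 LD2_c20 LD3_c2)) = v6299 :=
  Lrfl
theorem f78378 : Led Lsl_et (LP (LK LD1_c1 LD2_c7 LD3_c53)) = (LP (LK LD1_c2 LD2_c21 LD3_c13)) :=
  Lre_e IH (LK LD1_c1 LD2_c7 LD3_c53) (LK LD1_c2 LD2_c21 LD3_c13) Lrfl Lrfl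
theorem f113837 : Led Lsl_af (LP (LK LD1_c4 LD2_c45 LD3_c15)) = (LP (LK LD1_c2 LD2_c21 LD3_c13)) :=
  Lgr Lrot50 (Lpr_et (f101951 IH) (Lpr_at (K4.f113828 IH) (Lpr_et (f78378 IH) (Lpn (LP (LK LD1_c2 LD2_c21 LD3_c13))))))
theorem f78373 : Led Lsl_ft (LP (LK LD1_c4 LD2_c46 LD3_c32)) = (LP (LK LD1_c2 LD2_c21 LD3_c13)) :=
  Lre_f IH (LK LD1_c4 LD2_c46 LD3_c32) (LK LD1_c2 LD2_c21 LD3_c13) Lrfl Lrfl
theorem f703553 : Led Lsl_gt (LP (LK LD1_c4 LD2_c46 LD3_c32)) = v13548 :=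
  Lgr Lrot5 (Lpr_ft (f78373 IH) (Lpe (f113837 IH) (Lpr_gf (f703552 IH) (Lpn v13548))))
def v13361 : LQ := Led Lsl_bt (LP (LK LD1_c4 LD2_c43 LD3_c25))
theorem f702524 : Led Lsl_bt (LP (LK LD1_c4 LD2_c43 LD3_c25)) = v13361 :=
  Lrfl
theorem f702525 : Led Lsl_bf (LP (LK LD1_c4 LD2_c43 LD3_c25)) = v13361 :=
  Lgr Lrot24 (Lpr_bt (f702524 IH) (Lpn v13361))
theorem f57154 : Led Lsl_ct (LP (LK LD1_c1 LD2_c36 LD3_c25)) = (LP (LK LD1_c3 LD2_c20 LD3_c2)) :=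
  Lre_c IH (LK LD1_c1 LD2_c36 LD3_c25) (LK LD1_c3 LD2_c20 LD3_c2) Lrfl Lrfl
theorem f702526 : Led Lsl_cf v6299 = v13361 :=
  Lgr Lrot160 (Lpe (f652632 IH) (Lpe (f57154 IH) (Lpr_bt (f57153 IH) (Lpr_gt (K16.f57140 IH) (Lpr_ct (K1.f56744 IH) (Lpr_gt (K24.f56661 IH) (Lpe (K24.f438428 IH) (Lpr_bt (f438436 IH) (Lpr_gt (f438437 IH) (Lpr_bf (f702525 IH) (Lpn v13361)))))))))))
theorem f78357 : Led Lsl_ft (LP (LK LD1_c2 LD2_c21 LD3_c13)) = (LP (LK LD1_c4 LD2_c46 LD3_c32)) :=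
  Lre_f IH (LK LD1_c2 LD2_c21 LD3_c13) (LK LD1_c4 LD2_c46 LD3_c32) Lrfl Lrfl
theorem f77968 : Led Lsl_ft (LP (LK LD1_c9 LD2_c15 LD3_c53)) = (LP (LK LD1_c4 LD2_c40 LD3_c14)) :=
  Lre_f IH (LK LD1_c9 LD2_c15 LD3_c53) (LK LD1_c4 LD2_c40 LD3_c14) Lrfl Lrfl
theorem f78358 : Led Lsl_ct (LP (LK LD1_c4 LD2_c46 LD3_c32)) = (LP (LK LD1_c9 LD2_c15 LD3_c53)) :=
  Lgr Lrot40 (Lpe (f78357 IH) (Lpr_cf (K5.f78342 IH) (Lpe (f77968 IH) (Lpn (LP (LK LD1_c9 LD2_c15 LD3_c53))))))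
theorem f78366 : Led Lsl_cf (LP (LK LD1_c4 LD2_c46 LD3_c32)) = (LP (LK LD1_c9 LD2_c15 LD3_c53)) :=
  Lgr Lrot11 (Lpr_ct (f78358 IH) (Lpn (LP (LK LD1_c9 LD2_c15 LD3_c53))))
theorem f647154 : Led Lsl_bf (LP (LK LD1_c9 LD2_c15 LD3_c53)) = v5335 :=
  Lgr Lrot61 (Lpr_ft (f77968 IH) (Lpr_bt (K5.f77910 IH) (Lpr_ft (f647153 IH) (Lpn v5335))))
theorem f769800 : (LP (LK LD1_c9 LD2_c15 LD3_c53)) = v13361 :=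
  Lefun (Lecon (Lfl_bf (f647154 IH)) (f769794 IH)) (f702524 IH)
theorem f769813 : v6299 = (LP (LK LD1_c4 LD2_c46 LD3_c32)) :=
  Lefun (Lecon (Lfl_cf (f702526 IH)) (f769800 IH).symm) (Lfl_cf (f78366 IH))
theorem f769814 : (LP (LK LD1_c3 LD2_c20 LD3_c2)) = v13548 :=
  Lefun (Lecon (Lfl_gf (f652632 IH)) (f769813 IH)) (f703553 IH)
theorem f622739 : Led Lsl_bf v490 = v3069 :=
  Lgr Lrot24 (Lpr_bt (f622738 IH) (Lpn v3069))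
theorem f677580 : Led Lsl_gf (LP (LK LD1_c4 LD2_c48 LD3_c20)) = v9781 :=
  Lgr Lrot126 (Lpe (f416818 IH) (Lpr_bt (f146069 IH) (Lpr_gt (K24.f416812 IH) (Lpr_ct (K16.f415424 IH) (Lpr_gt (K16.f59823 IH) (Lpr_cf (K11.f68989 IH) (Lpr_bt (f69081 IH) (Lpr_gt (f453600 IH) (Lpr_bf (f622739 IH) (Lpr_ct (f677577 IH) (Lpn v9781)))))))))))
theorem f769819 : v9183 = v3069 :=
  (Llr Lrot82 (Lpe (f673934 IH) (Lpe (f523680 IH) (Lpe (f102123 IH) (Lpr_gf (f703552 IH) (Lpq (f769814 IH) (Lpe (f57154 IH) (Lpr_bt (f57153 IH) (Lpe (K24.f416812 IH) (Lpe (f146069 IH) (Lpr_ct (f416818 IH) (Lpr_gf (f677580 IH) (Lpe (f677577 IH) (Lpn v3069)))))))))))))).symm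
theorem f769820 : v7205 = v9778 :=
  Lefun (Lecon (f673941 IH) (f769819 IH)) (f677573 IH)
theorem f148509 : Led Lsl_gt (LP (LK LD1_c9 LD2_c29 LD3_c11)) = (LP (LK LD1_c4 LD2_c48 LD3_c13)) :=
  Lre_g IH (LK LD1_c9 LD2_c29 LD3_c11) (LK LD1_c4 LD2_c48 LD3_c13) Lrfl Lrfl
theorem f144007 : Led Lsl_ct (LP (LK LD1_c2 LD2_c22 LD3_c1)) = (LP (LK LD1_c4 LD2_c48 LD3_c13)) :=
  Lre_c IH (LK LD1_c2 LD2_c22 LD3_c1) (LK LD1_c4 LD2_c48 LD3_c13) Lrfl Lrfl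
def v8643 : LQ := Led Lsl_bt K51.v2134
theorem f671881 : Led Lsl_bt K51.v2134 = v8643 :=
  Lrfl
theorem f671882 : Led Lsl_bf K51.v2134 = v8643 :=
  Lgr Lrot24 (Lpr_bt (f671881 IH) (Lpn v8643))
def v18140 : LQ := Led Lsl_at (LP (LK LD1_c6 LD2_c26 LD3_c43))
theorem f765228 : Led Lsl_at (LP (LK LD1_c6 LD2_c26 LD3_c43)) = v18140 :=
  Lrfl
theorem f632669 : Led Lsl_ct (LP (LK LD1_c3 LD2_c11 LD3_c15)) = (LP (LK LD1_c6 LD2_c26 LD3_c43)) :=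
  Lre_c IH (LK LD1_c3 LD2_c11 LD3_c15) (LK LD1_c6 LD2_c26 LD3_c43) Lrfl Lrfl
def v5652 : LQ := Led Lsl_at (LP (LK LD1_c3 LD2_c11 LD3_c15))
theorem f648705 : Led Lsl_at (LP (LK LD1_c3 LD2_c11 LD3_c15)) = v5652 :=
  Lrfl
theorem f648706 : Led Lsl_af (LP (LK LD1_c3 LD2_c11 LD3_c15)) = v5652 :=
  Lgr Lrot0 (Lpr_at (f648705 IH) (Lpn v5652))
theorem f765230 : Led Lsl_cf v5652 = v18140 :=
  Lgr Lrot1 (Lpe (f648706 IH) (Lpr_ct (f632669 IH) (Lpr_at (f765228 IH) (Lpn v18140))))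
theorem f67302 : Led Lsl_gt (LP (LK LD1_c3 LD2_c11 LD3_c15)) = (LP (LK LD1_c1 LD2_c32 LD3_c2)) :=
  Lre_g IH (LK LD1_c3 LD2_c11 LD3_c15) (LK LD1_c1 LD2_c32 LD3_c2) Lrfl Lrfl
theorem f632662 : Led Lsl_gf (LP (LK LD1_c3 LD2_c11 LD3_c15)) = v4326 :=
  Lgr Lrot47 (Lpr_gt (f67302 IH) (Lpe (f453627 IH) (Lpr_ff (f632659 IH) (Lpn v4326))))
def v1956 : LQ := Led Lsl_gt (LP (LK LD1_c1 LD2_c32 LD3_c2))
theorem f506584 : Led Lsl_gt (LP (LK LD1_c1 LD2_c32 LD3_c2)) = v1956 :=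
  Lrfl
theorem f632660 : Led Lsl_gt v1956 = v4326 :=
  Lgr Lrot46 (Lpe (f506584 IH) (Lpr_ft (f506589 IH) (Lpqs (f622792 IH) (Lpr_at (f632656 IH) (Lpn v4326)))))
theorem f648707 : Led Lsl_ft v1956 = v5652 :=
  Lgr Lrot2 (Lpr_gt (f632660 IH) (Lpe (f632662 IH) (Lpr_af (f648706 IH) (Lpn v5652))))
theorem f648708 : Led Lsl_ff v1956 = v5652 :=
  Lgr Lrot3 (Lpr_ft (f648707 IH) (Lpn v5652))
def v8272 : LQ := Led Lsl_ct v1956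
theorem f670598 : Led Lsl_ct v1956 = v8272 :=
  Lrfl
theorem f765232 : Led Lsl_ft v8272 = v18140 :=
  Lgr Lrot4 (Lpe (f670598 IH) (Lpr_ff (f648708 IH) (Lpr_cf (f765230 IH) (Lpn v18140))))
theorem f765229 : Led Lsl_af (LP (LK LD1_c6 LD2_c26 LD3_c43)) = v18140 :=
  Lgr Lrot0 (Lpr_at (f765228 IH) (Lpn v18140))
def v18139 : LQ := Led Lsl_gf (LP (LK LD1_c6 LD2_c26 LD3_c43))
theorem f765226 : Led Lsl_gf (LP (LK LD1_c6 LD2_c26 LD3_c43)) = v18139 :=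
  Lrfl
theorem f765234 : Led Lsl_gt v8272 = v18139 :=
  Lgr Lrot5 (Lpr_ft (f765232 IH) (Lpe (f765229 IH) (Lpr_gf (f765226 IH) (Lpn v18139))))
theorem f416357 : Led Lsl_bt (LP (LK LD1_c0 LD2_c42 LD3_c36)) = (LP (LK LD1_c1 LD2_c32 LD3_c2)) :=
  Lre_b IH (LK LD1_c0 LD2_c42 LD3_c36) (LK LD1_c1 LD2_c32 LD3_c2) Lrfl Lrfl
theorem f765235 : Led Lsl_ct v8643 = v18139 :=
  Lgr Lrot63 (Lpe (f671882 IH) (Lpr_gt (K51.f509171 IH) (Lpe (f57169 IH) (Lpr_ct (K1.f57175 IH) (Lpe (K48.f416346 IH) (Lpe (K32.f155863 IH) (Lpr_bt (f416357 IH) (Lpr_gt (f506584 IH) (Lpr_ct (f670598 IH) (Lpr_gt (f765234 IH) (Lpn v18139)))))))))))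
theorem f769214 : Led Lsl_gf v6766 = v5653 :=
  Lgr Lrot181 (Lpe (f769190 IH) (Lpqs (f769191 IH) (Lpr_gt (f148509 IH) (Lpe (f144007 IH) (Lpr_bt (K50.f144005 IH) (Lpr_gt (K51.f509161 IH) (Lpr_bf (f671882 IH) (Lpr_ct (f765235 IH) (Lpe (f765226 IH) (Lpe (f632669 IH) (Lpr_bt (f648709 IH) (Lpn v5653))))))))))))
theorem f769185 : Led Lsl_at v9784 = v6766 :=
  Lgr Lrot66 (Lpe (f677589 IH) (Lpr_af (f677576 IH) (Lpr_ff (f769184 IH) (Lpn v6766))))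
theorem f769215 : v9778 = v5653 :=
  (Llr Lrot5 (Lpe (f677573 IH) (Lpr_ft (f677589 IH) (Lpr_at (f769185 IH) (Lpr_gf (f769214 IH) (Lpn v5653)))))).symm
theorem f769823 : v6490 = (LP (LK LD1_c3 LD2_c11 LD3_c15)) :=
  Lefun (Lecon (Lfl_bf (f662268 IH)) ((f769820 IH).trans (f769215 IH))) (Lfl_bf (f648710 IH))
theorem f769830 : Led Lsl_at (LP (LK LD1_c4 LD2_c43 LD3_c25)) = (LP (LK LD1_c3 LD2_c11 LD3_c15)) :=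
  Leop (Lpq (f769823 IH) (Lpqs (f769799 IH) (Lpe (f702520 IH) (Lpn (LP (LK LD1_c4 LD2_c43 LD3_c25))))))
theorem seed_1265 : LEOK LG_a (LK LD1_c4 LD2_c43 LD3_c25) :=
  Leoe_a (LK LD1_c4 LD2_c43 LD3_c25) (f769830 IH)
def v18164 : LQ := Led Lsl_ft (LP (LK LD1_c6 LD2_c26 LD3_c50))
theorem f765350 : Led Lsl_ft (LP (LK LD1_c6 LD2_c26 LD3_c50)) = v18164 :=
  Lrfl
theorem f765352 : Led Lsl_ff (LP (LK LD1_c6 LD2_c26 LD3_c50)) = v18164 :=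
  Lgr Lrot3 (Lpr_ft (f765350 IH) (Lpn v18164))
def v18160 : LQ := Led Lsl_at (LP (LK LD1_c6 LD2_c26 LD3_c50))
theorem f765339 : Led Lsl_at (LP (LK LD1_c6 LD2_c26 LD3_c50)) = v18160 :=
  Lrfl
theorem f765340 : Led Lsl_af (LP (LK LD1_c6 LD2_c26 LD3_c50)) = v18160 :=
  Lgr Lrot0 (Lpr_at (f765339 IH) (Lpn v18160))
theorem f67320 : Led Lsl_gt (LP (LK LD1_c3 LD2_c11 LD3_c18)) = (LP (LK LD1_c6 LD2_c26 LD3_c50)) :=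
  Lre_g IH (LK LD1_c3 LD2_c11 LD3_c18) (LK LD1_c6 LD2_c26 LD3_c50) Lrfl Lrfl
theorem f67318 : Led Lsl_gt (LP (LK LD1_c6 LD2_c26 LD3_c51)) = (LP (LK LD1_c3 LD2_c11 LD3_c18)) :=
  Lre_g IH (LK LD1_c6 LD2_c26 LD3_c51) (LK LD1_c3 LD2_c11 LD3_c18) Lrfl Lrfl
theorem f765341 : Led Lsl_ft (LP (LK LD1_c6 LD2_c26 LD3_c51)) = v18160 :=
  Lgr Lrot2 (Lpr_gt (f67318 IH) (Lpr_gt (f67320 IH) (Lpr_af (f765340 IH) (Lpn v18160))))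
theorem f765342 : Led Lsl_ff (LP (LK LD1_c6 LD2_c26 LD3_c51)) = v18160 :=
  Lgr Lrot3 (Lpr_ft (f765341 IH) (Lpn v18160))
theorem f765353 : Led Lsl_at (LP (LK LD1_c6 LD2_c26 LD3_c51)) = v18164 :=
  Lgr Lrot66 (Lpr_ff (f765342 IH) (Lpe (f765339 IH) (Lpr_ff (f765352 IH) (Lpn v18164))))
theorem f76640 : Led Lsl_et (LP (LK LD1_c6 LD2_c18 LD3_c37)) = (LP (LK LD1_c3 LD2_c6 LD3_c31)) :=
  Lre_e IH (LK LD1_c6 LD2_c18 LD3_c37) (LK LD1_c3 LD2_c6 LD3_c31) Lrfl Lrfl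
theorem f759383 : Led Lsl_af (LP (LK LD1_c6 LD2_c18 LD3_c37)) = v17368 :=
  Lgr Lrot50 (Lpr_et (f76640 IH) (Lpr_at (K57.f647193 IH) (Lpqs (K57.f759125 IH) (Lpr_et (f758973 IH) (Lpn v17368)))))
theorem f759385 : Led Lsl_at (LP (LK LD1_c6 LD2_c18 LD3_c37)) = v17368 :=
  Lgr Lrot100 (Lpr_af (f759383 IH) (Lpn v17368))
def v17392 : LQ := Led Lsl_dt (LP (LK LD1_c6 LD2_c18 LD3_c37))
theorem f759568 : Led Lsl_dt (LP (LK LD1_c6 LD2_c18 LD3_c37)) = v17392 :=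
  Lrfl
theorem f759569 : Led Lsl_df (LP (LK LD1_c6 LD2_c18 LD3_c37)) = v17392 :=
  Lgr Lrot38 (Lpr_dt (f759568 IH) (Lpn v17392))
theorem f769791 : Led Lsl_af v17392 = (LP (LK LD1_c9 LD2_c20 LD3_c11)) :=
  Lgr Lrot117 (Lpe (f759569 IH) (Lpr_at (f759385 IH) (Lpr_dt (f769790 IH) (Lpn (LP (LK LD1_c9 LD2_c20 LD3_c11))))))
theorem f765351 : Led Lsl_af (LP (LK LD1_c6 LD2_c26 LD3_c51)) = v18164 :=
  Lgr Lrot45 (Lpr_ft (f765341 IH) (Lpe (f765340 IH) (Lpr_ft (f765350 IH) (Lpn v18164))))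
def v18166 : LQ := Led Lsl_dt (LP (LK LD1_c6 LD2_c26 LD3_c51))
theorem f765357 : Led Lsl_dt (LP (LK LD1_c6 LD2_c26 LD3_c51)) = v18166 :=
  Lrfl
theorem f765358 : Led Lsl_df (LP (LK LD1_c6 LD2_c26 LD3_c51)) = v18166 :=
  Lgr Lrot38 (Lpr_dt (f765357 IH) (Lpn v18166))
def v5333 : LQ := Led Lsl_gt (LP (LK LD1_c3 LD2_c6 LD3_c17))
theorem f647151 : Led Lsl_gt (LP (LK LD1_c3 LD2_c6 LD3_c17)) = v5333 :=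
  Lrfl
theorem f653624 : Led Lsl_gt v5333 = v6490 :=
  Lgr Lrot46 (Lpe (f647151 IH) (Lpr_ft (f647153 IH) (Lpr_at (f653621 IH) (Lpn v6490))))
theorem f769828 : v5333 = v4326 :=
  Lefun (Lecon (Lfl_gt (f653624 IH)) (f769823 IH)) (f632662 IH)
theorem f67278 : Led Lsl_dt (LP (LK LD1_c6 LD2_c26 LD3_c46)) = (LP (LK LD1_c3 LD2_c11 LD3_c16)) :=
  Lre_d IH (LK LD1_c6 LD2_c26 LD3_c46) (LK LD1_c3 LD2_c11 LD3_c16) Lrfl Lrfl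
theorem f702544 : Led Lsl_dt v4326 = K50.v13365 :=
  Lgr Lrot60 (Lpe (f632661 IH) (Lpe (f67278 IH) (Lpr_ff (K50.f702541 IH) (Lpn K50.v13365))))
theorem f702546 : Led Lsl_gf (LP (LK LD1_c6 LD2_c26 LD3_c51)) = K50.v13365 :=
  Lgr Lrot47 (Lpr_gt (f67318 IH) (Lpe (K50.f67277 IH) (Lpr_ff (K50.f702541 IH) (Lpn K50.v13365))))
theorem f769859 : v18166 = (LP (LK LD1_c6 LD2_c18 LD3_c37)) :=
  (Llr Lrot132 (Lpe (f765358 IH) (Lpr_gf (f702546 IH) (Lpe (f702544 IH) (Lpq (f769828 IH) (Lpe (f647151 IH) (Lpe (K5.f77800 IH) (Lpr_dt (K2.f77791 IH) (Lpe (K2.f25053 IH) (Lpe (K2.f25103 IH) (Lpr_et (K57.f76632 IH) (Lpe (K51.f76667 IH) (Lpe (f76640 IH) (Lpn (LP (LK LD1_c6 LD2_c18 LD3_c37)))))))))))))))).symm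
theorem f769861 : (LP (LK LD1_c6 LD2_c26 LD3_c51)) = v17392 :=
  Lefun (Lecon (Lfl_df (f765358 IH)) (f769859 IH)) (f759568 IH)
theorem f769864 : (LP (LK LD1_c9 LD2_c20 LD3_c11)) = v18164 :=
  Lefun (Lecon (f769791 IH) (f769861 IH).symm) (f765351 IH)
theorem f769865 : Led Lsl_at (LP (LK LD1_c6 LD2_c26 LD3_c51)) = (LP (LK LD1_c9 LD2_c20 LD3_c11)) :=
  Leop (Lpqs (f769864 IH) (Lpe (f765353 IH) (Lpn (LP (LK LD1_c6 LD2_c26 LD3_c51)))))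
theorem seed_1266 : LEOK LG_a (LK LD1_c6 LD2_c26 LD3_c51) :=
  Leoe_a (LK LD1_c6 LD2_c26 LD3_c51) (f769865 IH)
def v7149 : LQ := Led Lsl_dt (LP (LK LD1_c3 LD2_c39 LD3_c57))
theorem f661549 : Led Lsl_dt (LP (LK LD1_c3 LD2_c39 LD3_c57)) = v7149 :=
  Lrfl
theorem f661551 : Led Lsl_bf (LP (LK LD1_c6 LD2_c18 LD3_c11)) = v7149 :=
  Lgr Lrot93 (Lpr_dt (K4.f78180 IH) (Lpr_bt (K5.f115014 IH) (Lpr_dt (f661549 IH) (Lpn v7149))))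
def v18588 : LQ := Led Lsl_et (LP (LK LD1_c6 LD2_c31 LD3_c1))
theorem f767604 : Led Lsl_et (LP (LK LD1_c6 LD2_c31 LD3_c1)) = v18588 :=
  Lrfl
theorem f767606 : Led Lsl_ef (LP (LK LD1_c6 LD2_c31 LD3_c1)) = v18588 :=
  Lgr Lrot88 (Lpr_et (f767604 IH) (Lpn v18588))
theorem f153366 : Led Lsl_cf (LP (LK LD1_c3 LD2_c42 LD3_c33)) = (LP (LK LD1_c6 LD2_c31 LD3_c1)) :=
  Lgr Lrot11 (Lpr_ct (K7.f153361 IH) (Lpn (LP (LK LD1_c6 LD2_c31 LD3_c1))))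
theorem f661553 : Led Lsl_ef (LP (LK LD1_c3 LD2_c42 LD3_c33)) = v7149 :=
  Lgr Lrot73 (Lpe (K7.f120907 IH) (Lpr_et (K2.f87552 IH) (Lpr_dt (K4.f115063 IH) (Lpr_et (K5.f114970 IH) (Lpr_dt (f661549 IH) (Lpn v7149))))))
theorem f661556 : Led Lsl_et (LP (LK LD1_c3 LD2_c42 LD3_c33)) = v7149 :=
  Lgr Lrot87 (Lpr_ef (f661553 IH) (Lpn v7149))
theorem f767607 : Led Lsl_ct v7149 = v18588 :=
  Lgr Lrot15 (Lpe (f661556 IH) (Lpr_cf (f153366 IH) (Lpr_ef (f767606 IH) (Lpn v18588))))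
def v17357 : LQ := Led Lsl_gt (LP (LK LD1_c6 LD2_c18 LD3_c11))
theorem f758919 : Led Lsl_gt (LP (LK LD1_c6 LD2_c18 LD3_c11)) = v17357 :=
  Lrfl
theorem f649138 : Led Lsl_et (LP (LK LD1_c3 LD2_c12 LD3_c40)) = (LP (LK LD1_c6 LD2_c29 LD3_c33)) :=
  Lre_e IH (LK LD1_c3 LD2_c12 LD3_c40) (LK LD1_c6 LD2_c29 LD3_c33) Lrfl Lrfl
def v18428 : LQ := Led Lsl_gt (LP (LK LD1_c6 LD2_c29 LD3_c33))
theorem f766925 : Led Lsl_gt (LP (LK LD1_c6 LD2_c29 LD3_c33)) = v18428 :=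
  Lrfl
def v5739 : LQ := Led Lsl_dt (LP (LK LD1_c3 LD2_c12 LD3_c39))
theorem f649139 : Led Lsl_dt (LP (LK LD1_c3 LD2_c12 LD3_c39)) = v5739 :=
  Lrfl
theorem f649140 : Led Lsl_df (LP (LK LD1_c3 LD2_c12 LD3_c39)) = v5739 :=
  Lgr Lrot38 (Lpr_dt (f649139 IH) (Lpn v5739))
theorem f759185 : Led Lsl_ff v5739 = K57.v5343 :=
  Lgr Lrot19 (Lpe (f649140 IH) (Lpr_ft (K57.f649141 IH) (Lpqs (K57.f759178 IH) (Lpr_dt (K57.f647189 IH) (Lpn K57.v5343)))))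
theorem f759186 : Led Lsl_ft v5739 = K57.v5343 :=
  Lgr Lrot48 (Lpr_ff (f759185 IH) (Lpn K57.v5343))
def v18410 : LQ := Led Lsl_dt (LP (LK LD1_c6 LD2_c29 LD3_c18))
theorem f766828 : Led Lsl_dt (LP (LK LD1_c6 LD2_c29 LD3_c18)) = v18410 :=
  Lrfl
theorem f766831 : Led Lsl_ff K57.v5741 = v18410 :=
  Lgr Lrot19 (Lpe (K57.f649146 IH) (Lpr_ft (K57.f649135 IH) (Lpqs (K57.f759315 IH) (Lpr_dt (f766828 IH) (Lpn v18410)))))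
theorem f766834 : Led Lsl_ft K57.v5741 = v18410 :=
  Lgr Lrot48 (Lpr_ff (f766831 IH) (Lpn v18410))
theorem f649148 : Led Lsl_et (LP (LK LD1_c6 LD2_c18 LD3_c16)) = K57.v5741 :=
  Lgr Lrot87 (Lpr_ef (K57.f649147 IH) (Lpn K57.v5741))
def v17367 : LQ := Led Lsl_ft (LP (LK LD1_c6 LD2_c18 LD3_c16))
theorem f758969 : Led Lsl_ft (LP (LK LD1_c6 LD2_c18 LD3_c16)) = v17367 :=
  Lrfl
theorem f758971 : Led Lsl_ff (LP (LK LD1_c6 LD2_c18 LD3_c16)) = v17367 :=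
  Lgr Lrot3 (Lpr_ft (f758969 IH) (Lpn v17367))
theorem f647191 : Led Lsl_af (LP (LK LD1_c3 LD2_c6 LD3_c31)) = K57.v5344 :=
  Lgr Lrot45 (Lpr_ft (K57.f647179 IH) (Lpe (K57.f647178 IH) (Lpr_ft (K57.f647190 IH) (Lpn K57.v5344))))
theorem f758962 : Led Lsl_ff (LP (LK LD1_c6 LD2_c18 LD3_c17)) = K57.v17364 :=
  Lgr Lrot3 (Lpr_ft (K57.f758961 IH) (Lpn K57.v17364))
theorem f758972 : Led Lsl_at (LP (LK LD1_c6 LD2_c18 LD3_c17)) = v17367 :=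
  Lgr Lrot66 (Lpr_ff (f758962 IH) (Lpe (K57.f758959 IH) (Lpr_ff (f758971 IH) (Lpn v17367))))
theorem f759126 : (LP (LK LD1_c3 LD2_c6 LD3_c31)) = v17367 :=
  Lefun (Lecon (Lfl_af (f647191 IH)) (K57.f759125 IH)) (f758972 IH)
def v17393 : LQ := Led Lsl_ft (LP (LK LD1_c6 LD2_c18 LD3_c37))
theorem f759570 : Led Lsl_ft (LP (LK LD1_c6 LD2_c18 LD3_c37)) = v17393 :=
  Lrfl
theorem f759571 : Led Lsl_ff (LP (LK LD1_c6 LD2_c18 LD3_c37)) = v17393 :=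
  Lgr Lrot3 (Lpr_ft (f759570 IH) (Lpn v17393))
theorem f766835 : Led Lsl_ef v17393 = v18410 :=
  Lgr Lrot21 (Lpe (f759571 IH) (Lpr_et (f76640 IH) (Lpqs (f759126 IH) (Lpe (f758971 IH) (Lpr_et (f649148 IH) (Lpr_ft (f766834 IH) (Lpn v18410)))))))
def v17677 : LQ := Led Lsl_et (LP (LK LD1_c6 LD2_c21 LD3_c15))
theorem f761696 : Led Lsl_et (LP (LK LD1_c6 LD2_c21 LD3_c15)) = v17677 :=
  Lrfl
theorem f761697 : Led Lsl_ef (LP (LK LD1_c6 LD2_c21 LD3_c15)) = v17677 :=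
  Lgr Lrot88 (Lpr_et (f761696 IH) (Lpn v17677))
theorem f766836 : Led Lsl_dt v17393 = v17677 :=
  Lgr Lrot77 (Lpr_ef (f766835 IH) (Lpe (f766828 IH) (Lpr_ef (K57.f761666 IH) (Lpe (K57.f761664 IH) (Lpr_ef (f761697 IH) (Lpn v17677))))))
theorem f766838 : Led Lsl_ff v17392 = v17677 :=
  Lgr Lrot19 (Lpe (f759569 IH) (Lpr_ft (f759570 IH) (Lpr_dt (f766836 IH) (Lpn v17677))))
theorem f769881 : (LP (LK LD1_c9 LD2_c20 LD3_c12)) = v17677 :=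
  (Llr Lrot47 (Lpr_gt (K50.f446024 IH) (Lpr_gt (f438372 IH) (Lpqs (f769864 IH) (Lpe (f765353 IH) (Lpqs (f769861 IH) (Lpr_ff (f766838 IH) (Lpn v17677)))))))).symm
theorem f766839 : Led Lsl_ft v17392 = v17677 :=
  Lgr Lrot48 (Lpr_ff (f766838 IH) (Lpn v17677))
theorem f769869 : v17677 = v18160 :=
  Lefun (Lecon (f766839 IH) (f769861 IH).symm) (f765341 IH)
def v18163 : LQ := Led Lsl_et (LP (LK LD1_c6 LD2_c26 LD3_c50))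
theorem f765348 : Led Lsl_et (LP (LK LD1_c6 LD2_c26 LD3_c50)) = v18163 :=
  Lrfl
theorem f769888 : K57.v17675 = v18163 :=
  (Llr Lrot50 (Lpe (K57.f761661 IH) (Lpr_et (f761696 IH) (Lpq (f769881 IH) (Lpqs (f769881 IH) (Lpqs (f769869 IH) (Lpe (f765340 IH) (Lpr_et (f765348 IH) (Lpn v18163))))))))).symm
def v18162 : LQ := Led Lsl_dt (LP (LK LD1_c6 LD2_c26 LD3_c50))
theorem f765346 : Led Lsl_dt (LP (LK LD1_c6 LD2_c26 LD3_c50)) = v18162 :=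
  Lrfl
theorem f765347 : Led Lsl_df (LP (LK LD1_c6 LD2_c26 LD3_c50)) = v18162 :=
  Lgr Lrot38 (Lpr_dt (f765346 IH) (Lpn v18162))
theorem f79631 : Led Lsl_df (LP (LK LD1_c6 LD2_c29 LD3_c30)) = (LP (LK LD1_c12 LD2_c16 LD3_c12)) :=
  Lgr Lrot38 (Lpr_dt (K57.f79628 IH) (Lpn (LP (LK LD1_c12 LD2_c16 LD3_c12))))
theorem f769892 : Led Lsl_ef v18162 = v5739 :=
  Lgr Lrot73 (Lpe (f765347 IH) (Lpr_et (f765348 IH) (Lpq (f769888 IH) (Lpq (K57.f761670 IH) (Lpe (f79631 IH) (Lpr_et (K57.f76647 IH) (Lpr_dt (f649139 IH) (Lpn v5739))))))))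
theorem f769895 : Led Lsl_ft v18162 = v17368 :=
  Lgr Lrot86 (Lpr_ef (f769892 IH) (Lpr_ff (f759185 IH) (Lpe (K57.f647186 IH) (Lpr_ff (K57.f647192 IH) (Lpqs (K57.f759125 IH) (Lpr_ef (f758975 IH) (Lpn v17368)))))))
theorem f769896 : Led Lsl_af v18162 = v17393 :=
  Lgr Lrot45 (Lpr_ft (f769895 IH) (Lpe (f759383 IH) (Lpr_ft (f759570 IH) (Lpn v17393))))
def v17390 : LQ := Led Lsl_gt (LP (LK LD1_c6 LD2_c18 LD3_c37))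
theorem f759566 : Led Lsl_gt (LP (LK LD1_c6 LD2_c18 LD3_c37)) = v17390 :=
  Lrfl
theorem f769905 : Led Lsl_gf v18162 = v17390 :=
  Lgr Lrot76 (Lpr_af (f769896 IH) (Lpe (f759570 IH) (Lpr_gt (f759566 IH) (Lpn v17390))))
def v17402 : LQ := Led Lsl_gt (LP (LK LD1_c6 LD2_c18 LD3_c44))
theorem f759600 : Led Lsl_gt (LP (LK LD1_c6 LD2_c18 LD3_c44)) = v17402 :=
  Lrfl
theorem f769906 : Led Lsl_dt v17402 = v17390 :=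
  Lgr Lrot171 (Lpe (f759600 IH) (Lpe (K4.f67897 IH) (Lpr_dt (K5.f25092 IH) (Lpr_gf (K4.f67890 IH) (Lpe (K2.f67704 IH) (Lpe (K2.f77191 IH) (Lpe (K57.f77630 IH) (Lpqs (K57.f761670 IH) (Lpqs (f769888 IH) (Lpe (f765348 IH) (Lpr_dt (f765346 IH) (Lpr_gf (f769905 IH) (Lpn v17390)))))))))))))
theorem f769907 : Led Lsl_df v17402 = v17390 :=
  Lgr Lrot38 (Lpr_dt (f769906 IH) (Lpn v17390))
def v18422 : LQ := Led Lsl_gf (LP (LK LD1_c6 LD2_c29 LD3_c30))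
theorem f766906 : Led Lsl_gf (LP (LK LD1_c6 LD2_c29 LD3_c30)) = v18422 :=
  Lrfl
theorem f769908 : Led Lsl_ef v18422 = v17390 :=
  Lgr Lrot167 (Lpe (f766906 IH) (Lpr_dt (K57.f79628 IH) (Lpr_gt (K57.f77630 IH) (Lpe (K6.f77334 IH) (Lpr_et (K2.f77189 IH) (Lpr_gt (K4.f77776 IH) (Lpe (K4.f77782 IH) (Lpe (K11.f99229 IH) (Lpr_gt (f759600 IH) (Lpr_df (f769907 IH) (Lpn v17390)))))))))))
theorem f79633 : Led Lsl_et (LP (LK LD1_c3 LD2_c12 LD3_c39)) = (LP (LK LD1_c6 LD2_c29 LD3_c30)) :=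
  Lre_e IH (LK LD1_c3 LD2_c12 LD3_c39) (LK LD1_c6 LD2_c29 LD3_c30) Lrfl Lrfl
def v6489 : LQ := Led Lsl_gf (LP (LK LD1_c3 LD2_c22 LD3_c39))
theorem f653614 : Led Lsl_gf (LP (LK LD1_c3 LD2_c22 LD3_c39)) = v6489 :=
  Lrfl
theorem f653615 : Led Lsl_gt v5335 = v6489 :=
  Lgr Lrot5 (Lpe (f647155 IH) (Lpe (f113875 IH) (Lpr_gf (f653614 IH) (Lpn v6489))))
theorem f453628 : Led Lsl_at (LP (LK LD1_c1 LD2_c32 LD3_c2)) = (LP (LK LD1_c3 LD2_c11 LD3_c16)) :=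
  Lre_a IH (LK LD1_c1 LD2_c32 LD3_c2) (LK LD1_c3 LD2_c11 LD3_c16) Lrfl Lrfl
theorem f623799 : Led Lsl_gf (LP (LK LD1_c3 LD2_c11 LD3_c16)) = (LP (LK LD1_c4 LD2_c43 LD3_c25)) :=
  Lgr Lrot76 (Lpe (f453628 IH) (Lpr_ff (f506591 IH) (Lpqs (f622792 IH) (Lpr_gt (f438437 IH) (Lpn (LP (LK LD1_c4 LD2_c43 LD3_c25)))))))
theorem f769797 : v6489 = (LP (LK LD1_c3 LD2_c11 LD3_c16)) :=
  Lefun (Lecon (f653615 IH) (f769794 IH)) (Lfl_gf (f623799 IH))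
theorem f67287 : Led Lsl_et (LP (LK LD1_c6 LD2_c26 LD3_c47)) = (LP (LK LD1_c3 LD2_c11 LD3_c16)) :=
  Lre_e IH (LK LD1_c6 LD2_c26 LD3_c47) (LK LD1_c3 LD2_c11 LD3_c16) Lrfl Lrfl
def v18156 : LQ := Led Lsl_dt (LP (LK LD1_c6 LD2_c26 LD3_c47))
theorem f765306 : Led Lsl_dt (LP (LK LD1_c6 LD2_c26 LD3_c47)) = v18156 :=
  Lrfl
theorem f67223 : Led Lsl_ef (LP (LK LD1_c6 LD2_c22 LD3_c13)) = (LP (LK LD1_c6 LD2_c27 LD3_c0)) :=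
  Lgr Lrot88 (Lpr_et (f67208 IH) (Lpn (LP (LK LD1_c6 LD2_c27 LD3_c0))))
theorem f67234 : Led Lsl_ct (LP (LK LD1_c6 LD2_c22 LD3_c13)) = (LP (LK LD1_c12 LD2_c17 LD3_c56)) :=
  Lre_c IH (LK LD1_c6 LD2_c22 LD3_c13) (LK LD1_c12 LD2_c17 LD3_c56) Lrfl Lrfl
theorem f67235 : Led Lsl_ct (LP (LK LD1_c12 LD2_c25 LD3_c33)) = (LP (LK LD1_c6 LD2_c27 LD3_c0)) :=
  Lre_c IH (LK LD1_c12 LD2_c25 LD3_c33) (LK LD1_c6 LD2_c27 LD3_c0) Lrfl Lrfl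
theorem f67236 : Led Lsl_et (LP (LK LD1_c12 LD2_c17 LD3_c56)) = (LP (LK LD1_c12 LD2_c25 LD3_c33)) :=
  Lgr Lrot158 (Lpe (f67234 IH) (Lpr_ef (f67223 IH) (Lpe (f67235 IH) (Lpn (LP (LK LD1_c12 LD2_c25 LD3_c33))))))
theorem f67240 : Led Lsl_bt (LP (LK LD1_c6 LD2_c22 LD3_c12)) = (LP (LK LD1_c12 LD2_c17 LD3_c56)) :=
  Lre_b IH (LK LD1_c6 LD2_c22 LD3_c12) (LK LD1_c12 LD2_c17 LD3_c56) Lrfl Lrfl
theorem f67241 : Led Lsl_bt (LP (LK LD1_c12 LD2_c25 LD3_c33)) = (LP (LK LD1_c6 LD2_c26 LD3_c52)) :=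
  Lre_b IH (LK LD1_c12 LD2_c25 LD3_c33) (LK LD1_c6 LD2_c26 LD3_c52) Lrfl Lrfl
theorem f67242 : Led Lsl_ef (LP (LK LD1_c6 LD2_c22 LD3_c12)) = (LP (LK LD1_c6 LD2_c26 LD3_c52)) :=
  Lgr Lrot29 (Lpr_bt (f67240 IH) (Lpr_et (f67236 IH) (Lpr_bt (f67241 IH) (Lpn (LP (LK LD1_c6 LD2_c26 LD3_c52))))))
theorem f67254 : Led Lsl_et (LP (LK LD1_c6 LD2_c22 LD3_c12)) = (LP (LK LD1_c6 LD2_c26 LD3_c52)) :=
  Lgr Lrot87 (Lpr_ef (f67242 IH) (Lpn (LP (LK LD1_c6 LD2_c26 LD3_c52))))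
theorem f67257 : Led Lsl_at (LP (LK LD1_c12 LD2_c17 LD3_c55)) = (LP (LK LD1_c6 LD2_c22 LD3_c12)) :=
  Lre_a IH (LK LD1_c12 LD2_c17 LD3_c55) (LK LD1_c6 LD2_c22 LD3_c12) Lrfl Lrfl
theorem f67258 : Led Lsl_at (LP (LK LD1_c6 LD2_c26 LD3_c52)) = (LP (LK LD1_c12 LD2_c25 LD3_c24)) :=
  Lre_a IH (LK LD1_c6 LD2_c26 LD3_c52) (LK LD1_c12 LD2_c25 LD3_c24) Lrfl Lrfl
theorem f67259 : Led Lsl_ef (LP (LK LD1_c12 LD2_c17 LD3_c55)) = (LP (LK LD1_c12 LD2_c25 LD3_c24)) :=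
  Lgr Lrot20 (Lpr_at (f67257 IH) (Lpr_et (f67254 IH) (Lpr_at (f67258 IH) (Lpn (LP (LK LD1_c12 LD2_c25 LD3_c24))))))
theorem f67270 : Led Lsl_ct (LP (LK LD1_c12 LD2_c17 LD3_c55)) = (LP (LK LD1_c6 LD2_c22 LD3_c11)) :=
  Lre_c IH (LK LD1_c12 LD2_c17 LD3_c55) (LK LD1_c6 LD2_c22 LD3_c11) Lrfl Lrfl
theorem f67271 : Led Lsl_ct (LP (LK LD1_c6 LD2_c26 LD3_c46)) = (LP (LK LD1_c12 LD2_c25 LD3_c24)) :=
  Lre_c IH (LK LD1_c6 LD2_c26 LD3_c46) (LK LD1_c12 LD2_c25 LD3_c24) Lrfl Lrfl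
theorem f67272 : Led Lsl_et (LP (LK LD1_c6 LD2_c22 LD3_c11)) = (LP (LK LD1_c6 LD2_c26 LD3_c46)) :=
  Lgr Lrot158 (Lpe (f67270 IH) (Lpr_ef (f67259 IH) (Lpe (f67271 IH) (Lpn (LP (LK LD1_c6 LD2_c26 LD3_c46))))))
def v17781 : LQ := Led Lsl_dt (LP (LK LD1_c6 LD2_c22 LD3_c11))
theorem f762151 : Led Lsl_dt (LP (LK LD1_c6 LD2_c22 LD3_c11)) = v17781 :=
  Lrfl
theorem f762153 : Led Lsl_df (LP (LK LD1_c6 LD2_c22 LD3_c11)) = v17781 :=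
  Lgr Lrot38 (Lpr_dt (f762151 IH) (Lpn v17781))
theorem f765309 : Led Lsl_ef v17781 = v18156 :=
  Lgr Lrot73 (Lpe (f762153 IH) (Lpr_et (f67272 IH) (Lpr_dt (f67278 IH) (Lpr_et (f67279 IH) (Lpr_dt (f765306 IH) (Lpn v18156))))))
theorem f67276 : Led Lsl_at (LP (LK LD1_c3 LD2_c8 LD3_c48)) = (LP (LK LD1_c6 LD2_c22 LD3_c11)) :=
  Lre_a IH (LK LD1_c3 LD2_c8 LD3_c48) (LK LD1_c6 LD2_c22 LD3_c11) Lrfl Lrfl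
def v5508 : LQ := Led Lsl_dt (LP (LK LD1_c3 LD2_c8 LD3_c48))
theorem f648004 : Led Lsl_dt (LP (LK LD1_c3 LD2_c8 LD3_c48)) = v5508 :=
  Lrfl
theorem f648006 : Led Lsl_df (LP (LK LD1_c3 LD2_c8 LD3_c48)) = v5508 :=
  Lgr Lrot38 (Lpr_dt (f648004 IH) (Lpn v5508))
theorem f762152 : Led Lsl_af v5508 = v17781 :=
  Lgr Lrot117 (Lpe (f648006 IH) (Lpr_at (f67276 IH) (Lpr_dt (f762151 IH) (Lpn v17781))))
theorem f67193 : Led Lsl_bt (LP (LK LD1_c3 LD2_c8 LD3_c48)) = (LP (LK LD1_c1 LD2_c30 LD3_c33)) :=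
  Lre_b IH (LK LD1_c3 LD2_c8 LD3_c48) (LK LD1_c1 LD2_c30 LD3_c33) Lrfl Lrfl
theorem f67194 : Led Lsl_bt (LP (LK LD1_c1 LD2_c32 LD3_c4)) = (LP (LK LD1_c3 LD2_c11 LD3_c18)) :=
  Lre_b IH (LK LD1_c1 LD2_c32 LD3_c4) (LK LD1_c3 LD2_c11 LD3_c18) Lrfl Lrfl
theorem f67195 : Led Lsl_ef (LP (LK LD1_c3 LD2_c8 LD3_c48)) = (LP (LK LD1_c3 LD2_c11 LD3_c18)) :=
  Lgr Lrot29 (Lpr_bt (f67193 IH) (Lpr_et (K32.f67191 IH) (Lpr_bt (f67194 IH) (Lpn (LP (LK LD1_c3 LD2_c11 LD3_c18))))))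
theorem f67298 : Led Lsl_dt (LP (LK LD1_c1 LD2_c32 LD3_c2)) = (LP (LK LD1_c3 LD2_c11 LD3_c18)) :=
  Lre_d IH (LK LD1_c1 LD2_c32 LD3_c2) (LK LD1_c3 LD2_c11 LD3_c18) Lrfl Lrfl
theorem f67299 : Led Lsl_et (LP (LK LD1_c3 LD2_c11 LD3_c19)) = (LP (LK LD1_c1 LD2_c32 LD3_c2)) :=
  Lre_e IH (LK LD1_c3 LD2_c11 LD3_c19) (LK LD1_c1 LD2_c32 LD3_c2) Lrfl Lrfl
theorem f67300 : Led Lsl_dt (LP (LK LD1_c6 LD2_c26 LD3_c54)) = (LP (LK LD1_c3 LD2_c11 LD3_c19)) :=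
  Lre_d IH (LK LD1_c6 LD2_c26 LD3_c54) (LK LD1_c3 LD2_c11 LD3_c19) Lrfl Lrfl
theorem f648007 : Led Lsl_ef (LP (LK LD1_c6 LD2_c26 LD3_c54)) = v5508 :=
  Lgr Lrot73 (Lpr_dt (f67300 IH) (Lpr_et (f67299 IH) (Lpr_dt (f67298 IH) (Lpe (f67195 IH) (Lpr_dt (f648004 IH) (Lpn v5508))))))
theorem f765310 : Led Lsl_at (LP (LK LD1_c6 LD2_c26 LD3_c54)) = v18156 :=
  Lgr Lrot80 (Lpr_ef (f648007 IH) (Lpr_af (f762152 IH) (Lpr_ef (f765309 IH) (Lpn v18156))))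
def v3910 : LQ := Led Lsl_et K56.v1117
theorem f627855 : Led Lsl_et K56.v1117 = v3910 :=
  Lrfl
theorem f627857 : Led Lsl_ef K56.v1117 = v3910 :=
  Lgr Lrot88 (Lpr_et (f627855 IH) (Lpn v3910))
theorem f627858 : Led Lsl_bt K32.v1120 = v3910 :=
  Lgr Lrot119 (Lpe (K32.f491591 IH) (Lpr_bf (K56.f491586 IH) (Lpr_ef (f627857 IH) (Lpn v3910))))
theorem f623408 : Led Lsl_ft (LP (LK LD1_c3 LD2_c11 LD3_c24)) = K32.v1120 :=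
  Lgr Lrot48 (Lpr_ff (K35.f623407 IH) (Lpn K32.v1120))
theorem f67204 : Led Lsl_bt (LP (LK LD1_c6 LD2_c26 LD3_c54)) = (LP (LK LD1_c3 LD2_c11 LD3_c24)) :=
  Lre_b IH (LK LD1_c6 LD2_c26 LD3_c54) (LK LD1_c3 LD2_c11 LD3_c24) Lrfl Lrfl
theorem f627859 : Led Lsl_ff (LP (LK LD1_c6 LD2_c26 LD3_c54)) = v3910 :=
  Lgr Lrot25 (Lpr_bt (f67204 IH) (Lpr_ft (f623408 IH) (Lpr_bt (f627858 IH) (Lpn v3910))))
def v11849 : LQ := Led Lsl_gt v3910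
theorem f686137 : Led Lsl_gt v3910 = v11849 :=
  Lrfl
theorem f765313 : Led Lsl_gt v11849 = v18156 :=
  Lgr Lrot46 (Lpe (f686137 IH) (Lpe (f627859 IH) (Lpr_at (f765310 IH) (Lpn v18156))))
theorem f769910 : v5739 = v11849 :=
  (Llr Lrot136 (Lpe (f649139 IH) (Lpr_et (f79633 IH) (Lpr_gf (f766906 IH) (Lpr_ef (f769908 IH) (Lpe (f769907 IH) (Lpe (f759600 IH) (Lpr_df (K11.f99229 IH) (Lpr_gf (f653614 IH) (Lpqs (f769797 IH) (Lpe (f67287 IH) (Lpr_dt (f765306 IH) (Lpe (f765313 IH) (Lpn v11849)))))))))))))).symm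
def v3907 : LQ := Led Lsl_at K56.v1117
def v11840 : LQ := Led Lsl_et v3907
theorem f686113 : Led Lsl_et v3907 = v11840 :=
  Lrfl
theorem f627847 : Led Lsl_at K56.v1117 = v3907 :=
  Lrfl
theorem f686114 : Led Lsl_af v3910 = v11840 :=
  Lgr Lrot50 (Lpe (f627857 IH) (Lpr_at (f627847 IH) (Lpr_et (f686113 IH) (Lpn v11840))))
theorem f765312 : Led Lsl_ff v11840 = v18156 :=
  Lgr Lrot30 (Lpe (f686114 IH) (Lpe (f627859 IH) (Lpr_at (f765310 IH) (Lpn v18156))))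
def v11850 : LQ := Led Lsl_gf v3910
theorem f686138 : Led Lsl_gf v3910 = v11850 :=
  Lrfl
theorem f765315 : Led Lsl_gf v11850 = v18156 :=
  Lgr Lrot47 (Lpe (f686138 IH) (Lpr_af (f686114 IH) (Lpr_ff (f765312 IH) (Lpn v18156))))
theorem f769912 : v11850 = K57.v5741 :=
  (Llr Lrot46 (Lpr_gf (f765315 IH) (Lpe (f765313 IH) (Lpq (f769910 IH) (Lpr_ft (f759186 IH) (Lpe (K57.f759176 IH) (Lpn K57.v5741))))))).symm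
def v13363 : LQ := Led Lsl_et (LP (LK LD1_c4 LD2_c43 LD3_c25))
theorem f702531 : Led Lsl_et (LP (LK LD1_c4 LD2_c43 LD3_c25)) = v13363 :=
  Lrfl
theorem f702532 : Led Lsl_ef (LP (LK LD1_c4 LD2_c43 LD3_c25)) = v13363 :=
  Lgr Lrot88 (Lpr_et (f702531 IH) (Lpn v13363))
def v6486 : LQ := Led Lsl_ft (LP (LK LD1_c3 LD2_c22 LD3_c37))
theorem f653598 : Led Lsl_ft (LP (LK LD1_c3 LD2_c22 LD3_c37)) = v6486 :=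
  Lrfl
theorem f653601 : Led Lsl_ff (LP (LK LD1_c3 LD2_c22 LD3_c37)) = v6486 :=
  Lgr Lrot3 (Lpr_ft (f653598 IH) (Lpn v6486))
theorem f77201 : Led Lsl_et (LP (LK LD1_c3 LD2_c22 LD3_c37)) = (LP (LK LD1_c1 LD2_c37 LD3_c34)) :=
  Lre_e IH (LK LD1_c3 LD2_c22 LD3_c37) (LK LD1_c1 LD2_c37 LD3_c34) Lrfl Lrfl
theorem f653604 : Led Lsl_et v5335 = v6486 :=
  Lgr Lrot69 (Lpe (f647153 IH) (Lpe (K5.f77800 IH) (Lpe (K4.f113859 IH) (Lpe (f77201 IH) (Lpr_ff (f653601 IH) (Lpn v6486))))))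
theorem f769809 : v6486 = v13363 :=
  Lefun (Lecon (f653604 IH) (f769794 IH)) (f702531 IH)
def v18256 : LQ := Led Lsl_ft (LP (LK LD1_c6 LD2_c27 LD3_c52))
theorem f765974 : Led Lsl_ft (LP (LK LD1_c6 LD2_c27 LD3_c52)) = v18256 :=
  Lrfl
theorem f765977 : Led Lsl_ff (LP (LK LD1_c6 LD2_c27 LD3_c52)) = v18256 :=
  Lgr Lrot3 (Lpr_ft (f765974 IH) (Lpn v18256))
theorem f765980 : Led Lsl_dt v6486 = v18256 :=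
  Lgr Lrot60 (Lpe (f653598 IH) (Lpr_df (K4.f99213 IH) (Lpr_ff (f765977 IH) (Lpn v18256))))
def v17359 : LQ := Led Lsl_ft (LP (LK LD1_c6 LD2_c18 LD3_c11))
theorem f758921 : Led Lsl_ft (LP (LK LD1_c6 LD2_c18 LD3_c11)) = v17359 :=
  Lrfl
theorem f765979 : Led Lsl_at v17359 = v18256 :=
  Lgr Lrot66 (Lpe (f758921 IH) (Lpe (K4.f114502 IH) (Lpr_ff (f765977 IH) (Lpn v18256))))
theorem f765982 : Led Lsl_gt v17357 = v18256 :=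
  Lgr Lrot46 (Lpe (f758919 IH) (Lpr_ft (f758921 IH) (Lpr_at (f765979 IH) (Lpn v18256))))
theorem f769913 : Led Lsl_dt v18428 = v17357 :=
  Lgr Lrot171 (Lpe (f766925 IH) (Lpe (f649138 IH) (Lpr_dt (K57.f649145 IH) (Lpq (f769912 IH) (Lpr_gf (f765315 IH) (Lpe (f765306 IH) (Lpr_et (f67287 IH) (Lpr_gf (f623799 IH) (Lpr_ef (f702532 IH) (Lpq (f769809 IH) (Lpr_dt (f765980 IH) (Lpe (f765982 IH) (Lpn v17357)))))))))))))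
theorem f79047 : Led Lsl_dt (LP (LK LD1_c3 LD2_c6 LD3_c21)) = (LP (LK LD1_c6 LD2_c18 LD3_c11)) :=
  Lre_d IH (LK LD1_c3 LD2_c6 LD3_c21) (LK LD1_c6 LD2_c18 LD3_c11) Lrfl Lrfl
theorem f759177 : Led Lsl_at K57.v5741 = K57.v5343 :=
  Lgr Lrot100 (Lpr_af (K57.f759176 IH) (Lpn K57.v5343))
theorem f766832 : Led Lsl_at v5739 = v18410 :=
  Lgr Lrot66 (Lpr_ff (f759185 IH) (Lpe (f759177 IH) (Lpr_ff (f766831 IH) (Lpn v18410))))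
def v5334 : LQ := Led Lsl_gf (LP (LK LD1_c3 LD2_c6 LD3_c17))
theorem f647152 : Led Lsl_gf (LP (LK LD1_c3 LD2_c6 LD3_c17)) = v5334 :=
  Lrfl
theorem f653623 : Led Lsl_gf v5334 = v6490 :=
  Lgr Lrot47 (Lpe (f647152 IH) (Lpe (K4.f113873 IH) (Lpr_ff (f653619 IH) (Lpn v6490))))
theorem f769827 : v5334 = (LP (LK LD1_c1 LD2_c32 LD3_c2)) :=
  Lefun (Lecon (Lfl_gf (f653623 IH)) (f769823 IH)) (f67302 IH)
theorem f67317 : Led Lsl_dt (LP (LK LD1_c3 LD2_c11 LD3_c19)) = (LP (LK LD1_c6 LD2_c26 LD3_c54)) :=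
  Lre_d IH (LK LD1_c3 LD2_c11 LD3_c19) (LK LD1_c6 LD2_c26 LD3_c54) Lrfl Lrfl
def v18176 : LQ := Led Lsl_gf (LP (LK LD1_c6 LD2_c26 LD3_c54))
theorem f765379 : Led Lsl_gf (LP (LK LD1_c6 LD2_c26 LD3_c54)) = v18176 :=
  Lrfl
theorem f769860 : v18176 = v18410 :=
  (Llr Lrot134 (Lpe (f765379 IH) (Lpe (f67317 IH) (Lpr_et (f67299 IH) (Lpq (f769827 IH) (Lpe (f647152 IH) (Lpe (K5.f77800 IH) (Lpr_dt (K2.f77791 IH) (Lpr_gt (K2.f77789 IH) (Lpe (K2.f76699 IH) (Lpr_et (K2.f67008 IH) (Lpr_gt (K57.f67025 IH) (Lpr_dt (f766828 IH) (Lpn v18410)))))))))))))).symm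
theorem f506607 : Led Lsl_at (LP (LK LD1_c3 LD2_c11 LD3_c19)) = (LP (LK LD1_c6 LD2_c26 LD3_c47)) :=
  Lre_a IH (LK LD1_c3 LD2_c11 LD3_c19) (LK LD1_c6 LD2_c26 LD3_c47) Lrfl Lrfl
theorem f765307 : Led Lsl_af (LP (LK LD1_c6 LD2_c26 LD3_c54)) = v18156 :=
  Lgr Lrot117 (Lpr_dt (f67300 IH) (Lpr_at (f506607 IH) (Lpr_dt (f765306 IH) (Lpn v18156))))
theorem f765314 : Led Lsl_ft v11840 = v18156 :=
  Lgr Lrot48 (Lpr_ff (f765312 IH) (Lpn v18156))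
theorem f765380 : Led Lsl_gt v11840 = v18176 :=
  Lgr Lrot5 (Lpr_ft (f765314 IH) (Lpe (f765307 IH) (Lpr_gf (f765379 IH) (Lpn v18176))))
def v18175 : LQ := Led Lsl_gt (LP (LK LD1_c6 LD2_c26 LD3_c54))
theorem f765377 : Led Lsl_gt (LP (LK LD1_c6 LD2_c26 LD3_c54)) = v18175 :=
  Lrfl
theorem f627860 : Led Lsl_ft (LP (LK LD1_c6 LD2_c26 LD3_c54)) = v3910 :=
  Lgr Lrot48 (Lpr_ff (f627859 IH) (Lpn v3910))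
theorem f686115 : Led Lsl_ef v3907 = v11840 :=
  Lgr Lrot88 (Lpr_et (f686113 IH) (Lpn v11840))
theorem f627848 : Led Lsl_af K56.v1117 = v3907 :=
  Lgr Lrot0 (Lpr_at (f627847 IH) (Lpn v3907))
theorem f686116 : Led Lsl_at v3910 = v11840 :=
  Lgr Lrot80 (Lpe (f627855 IH) (Lpr_af (f627848 IH) (Lpr_ef (f686115 IH) (Lpn v11840))))
theorem f765378 : Led Lsl_gf v11840 = v18175 :=
  Lgr Lrot76 (Lpe (f686116 IH) (Lpe (f627860 IH) (Lpr_gt (f765377 IH) (Lpn v18175))))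
theorem f769911 : K57.v5343 = v18175 :=
  (Llr Lrot52 (Lpe (f759185 IH) (Lpr_at (f766832 IH) (Lpq (f769860 IH) (Lpe (f765380 IH) (Lpr_gf (f765378 IH) (Lpn v18175))))))).symm
theorem f769915 : v18428 = v5508 :=
  (Llr Lrot168 (Lpr_dt (f769913 IH) (Lpe (f758919 IH) (Lpe (f79047 IH) (Lpr_et (K5.f79046 IH) (Lpr_gf (K2.f79040 IH) (Lpe (K57.f76723 IH) (Lpr_dt (K57.f76794 IH) (Lpe (K57.f67026 IH) (Lpr_df (K57.f647188 IH) (Lpqs (f769911 IH) (Lpe (f765377 IH) (Lpr_ef (f648007 IH) (Lpn v5508)))))))))))))).symm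
theorem f769916 : v17357 = (LP (LK LD1_c3 LD2_c8 LD3_c48)) :=
  Lefun (Lecon (f769913 IH) (f769915 IH)) (Lfl_df (f648006 IH))
theorem f67178 : Led Lsl_bt (LP (LK LD1_c1 LD2_c30 LD3_c33)) = (LP (LK LD1_c3 LD2_c8 LD3_c48)) :=
  Lre_b IH (LK LD1_c1 LD2_c30 LD3_c33) (LK LD1_c3 LD2_c8 LD3_c48) Lrfl Lrfl
theorem f134827 : Led Lsl_bt (LP (LK LD1_c1 LD2_c36 LD3_c14)) = (LP (LK LD1_c3 LD2_c19 LD3_c22)) :=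
  Lre_b IH (LK LD1_c1 LD2_c36 LD3_c14) (LK LD1_c3 LD2_c19 LD3_c22) Lrfl Lrfl
theorem f134810 : Led Lsl_ct (LP (LK LD1_c6 LD2_c42 LD3_c0)) = (LP (LK LD1_c12 LD2_c49 LD3_c5)) :=
  Lre_c IH (LK LD1_c6 LD2_c42 LD3_c0) (LK LD1_c12 LD2_c49 LD3_c5) Lrfl Lrfl
theorem f769921 : Led Lsl_gf v18588 = (LP (LK LD1_c12 LD2_c49 LD3_c5)) :=
  Lgr Lrot129 (Lpe (f767607 IH) (Lpe (f661551 IH) (Lpr_gt (f758919 IH) (Lpqs (f769916 IH) (Lpe (f67178 IH) (Lpr_ct (K32.f67182 IH) (Lpr_gt (K32.f438506 IH) (Lpe (K32.f135702 IH) (Lpr_bt (f134827 IH) (Lpr_gt (K48.f134820 IH) (Lpr_ct (f134810 IH) (Lpn (LP (LK LD1_c12 LD2_c49 LD3_c5))))))))))))))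
theorem f767605 : Led Lsl_cf v7149 = v18588 :=
  Lgr Lrot39 (Lpe (f661553 IH) (Lpr_ct (K7.f153361 IH) (Lpr_et (f767604 IH) (Lpn v18588))))
theorem f661552 : Led Lsl_df (LP (LK LD1_c3 LD2_c39 LD3_c57)) = v7149 :=
  Lgr Lrot38 (Lpr_dt (f661549 IH) (Lpn v7149))
theorem f769923 : Led Lsl_gf (LP (LK LD1_c7 LD2_c20 LD3_c2)) = (LP (LK LD1_c6 LD2_c41 LD3_c60)) :=
  Lgr Lrot104 (Lpr_ct (K5.f115016 IH) (Lpr_df (f661552 IH) (Lpr_cf (f767605 IH) (Lpr_gf (f769921 IH) (Lpe (f134810 IH) (Lpe (K48.f134820 IH) (Lpe (K48.f134821 IH) (Lpr_gt (K46.f139847 IH) (Lpr_ct (K46.f139848 IH) (Lpn (LP (LK LD1_c6 LD2_c41 LD3_c60))))))))))))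
theorem f769924 : Led Lsl_gt (LP (LK LD1_c6 LD2_c41 LD3_c60)) = (LP (LK LD1_c7 LD2_c20 LD3_c2)) :=
  Leop (Lpr_gf (f769923 IH) (Lpn (LP (LK LD1_c6 LD2_c41 LD3_c60))))
theorem seed_1267 : LEOK LG_g (LK LD1_c6 LD2_c41 LD3_c60) :=
  Leoe_g (LK LD1_c6 LD2_c41 LD3_c60) (f769924 IH)
def v1872 : LQ := Led Lsl_gf (LP (LK LD1_c1 LD2_c30 LD3_c25))
def v8187 : LQ := Led Lsl_bt v1872
theorem f670284 : Led Lsl_bt v1872 = v8187 :=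
  Lrfl
def v5336 : LQ := Led Lsl_gt (LP (LK LD1_c3 LD2_c6 LD3_c21))
theorem f647157 : Led Lsl_gt (LP (LK LD1_c3 LD2_c6 LD3_c21)) = v5336 :=
  Lrfl
theorem f504650 : Led Lsl_gf (LP (LK LD1_c1 LD2_c30 LD3_c25)) = v1872 :=
  Lrfl
theorem f115018 : Led Lsl_ct (LP (LK LD1_c3 LD2_c39 LD3_c57)) = (LP (LK LD1_c7 LD2_c20 LD3_c2)) :=
  Lre_c IH (LK LD1_c3 LD2_c39 LD3_c57) (LK LD1_c7 LD2_c20 LD3_c2) Lrfl Lrfl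
def v17560 : LQ := Led Lsl_gt (LP (LK LD1_c6 LD2_c20 LD3_c29))
theorem f760910 : Led Lsl_gt (LP (LK LD1_c6 LD2_c20 LD3_c29)) = v17560 :=
  Lrfl
theorem f759990 : Led Lsl_ft (LP (LK LD1_c6 LD2_c20 LD3_c29)) = K57.v17473 :=
  Lgr Lrot48 (Lpr_ff (K57.f759988 IH) (Lpn K57.v17473))
theorem f759986 : Led Lsl_af K46.v5426 = K57.v17473 :=
  Lgr Lrot68 (Lpe (K46.f647573 IH) (Lpr_at (K57.f647568 IH) (Lpqs (K57.f663721 IH) (Lpr_ct (K57.f759985 IH) (Lpn K57.v17473)))))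
theorem f760911 : Led Lsl_gf K46.v5426 = v17560 :=
  Lgr Lrot76 (Lpr_af (f759986 IH) (Lpe (f759990 IH) (Lpr_gt (f760910 IH) (Lpn v17560))))
def v17694 : LQ := Led Lsl_ct (LP (LK LD1_c6 LD2_c21 LD3_c26))
theorem f761783 : Led Lsl_ct (LP (LK LD1_c6 LD2_c21 LD3_c26)) = v17694 :=
  Lrfl
theorem f761784 : Led Lsl_cf (LP (LK LD1_c6 LD2_c21 LD3_c26)) = v17694 :=
  Lgr Lrot11 (Lpr_ct (f761783 IH) (Lpn v17694))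
theorem f504651 : Led Lsl_gt (LP (LK LD1_c3 LD2_c8 LD3_c26)) = (LP (LK LD1_c6 LD2_c21 LD3_c26)) :=
  Lre_g IH (LK LD1_c3 LD2_c8 LD3_c26) (LK LD1_c6 LD2_c21 LD3_c26) Lrfl Lrfl
theorem f435562 : Led Lsl_ct (LP (LK LD1_c1 LD2_c30 LD3_c25)) = (LP (LK LD1_c3 LD2_c8 LD3_c26)) :=
  Lre_c IH (LK LD1_c1 LD2_c30 LD3_c25) (LK LD1_c3 LD2_c8 LD3_c26) Lrfl Lrfl
theorem f761785 : Led Lsl_bf v17560 = v17694 :=
  Lgr Lrot165 (Lpe (f760911 IH) (Lpe (K46.f647573 IH) (Lpr_gt (K46.f204547 IH) (Lpe (K46.f204601 IH) (Lpr_bt (K46.f153587 IH) (Lpr_gt (K24.f82572 IH) (Lpe (K35.f435557 IH) (Lpr_ct (f435562 IH) (Lpr_gt (f504651 IH) (Lpr_cf (f761784 IH) (Lpn v17694)))))))))))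
theorem f769928 : v5336 = (LP (LK LD1_c1 LD2_c30 LD3_c25)) :=
  (Llr Lrot82 (Lpe (f647157 IH) (Lpr_bf (K5.f115004 IH) (Lpr_ct (f115018 IH) (Lpr_gf (f769923 IH) (Lpe (K46.f139848 IH) (Lpr_bt (K57.f647584 IH) (Lpr_gf (f760911 IH) (Lpr_bf (f761785 IH) (Lpe (f761784 IH) (Lpe (f504651 IH) (Lpe (f435562 IH) (Lpn (LP (LK LD1_c1 LD2_c30 LD3_c25))))))))))))))).symm
theorem f769930 : (LP (LK LD1_c3 LD2_c6 LD3_c21)) = v1872 :=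
  Lefun (Lecon (Lfl_gt (f647157 IH)) (f769928 IH)) (f504650 IH)
theorem f769943 : v8187 = (LP (LK LD1_c3 LD2_c39 LD3_c57)) :=
  Lefun (Lecon (f670284 IH) (f769930 IH).symm) (K5.f115014 IH)
def v17685 : LQ := Led Lsl_ft (LP (LK LD1_c6 LD2_c21 LD3_c22))
theorem f761734 : Led Lsl_ft (LP (LK LD1_c6 LD2_c21 LD3_c22)) = v17685 :=
  Lrfl
def v17683 : LQ := Led Lsl_at (LP (LK LD1_c6 LD2_c21 LD3_c22))
theorem f761722 : Led Lsl_at (LP (LK LD1_c6 LD2_c21 LD3_c22)) = v17683 :=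
  Lrfl
theorem f761723 : Led Lsl_af (LP (LK LD1_c6 LD2_c21 LD3_c22)) = v17683 :=
  Lgr Lrot0 (Lpr_at (f761722 IH) (Lpn v17683))
def v5481 : LQ := Led Lsl_at (LP (LK LD1_c3 LD2_c8 LD3_c24))
theorem f647872 : Led Lsl_at (LP (LK LD1_c3 LD2_c8 LD3_c24)) = v5481 :=
  Lrfl
theorem f647873 : Led Lsl_af (LP (LK LD1_c3 LD2_c8 LD3_c24)) = v5481 :=
  Lgr Lrot0 (Lpr_at (f647872 IH) (Lpn v5481))
theorem f761724 : Led Lsl_cf v5481 = v17683 :=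
  Lgr Lrot1 (Lpe (f647873 IH) (Lpr_ct (K57.f438479 IH) (Lpr_at (f761722 IH) (Lpn v17683))))
theorem f647874 : Led Lsl_ft v1872 = v5481 :=
  Lgr Lrot2 (Lpe (f504650 IH) (Lpr_gt (K57.f82639 IH) (Lpr_af (f647873 IH) (Lpn v5481))))
theorem f647875 : Led Lsl_ff v1872 = v5481 :=
  Lgr Lrot3 (Lpr_ft (f647874 IH) (Lpn v5481))
def v8188 : LQ := Led Lsl_ct v1872
theorem f670286 : Led Lsl_ct v1872 = v8188 :=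
  Lrfl
theorem f761726 : Led Lsl_ft v8188 = v17683 :=
  Lgr Lrot4 (Lpe (f670286 IH) (Lpr_ff (f647875 IH) (Lpr_cf (f761724 IH) (Lpn v17683))))
theorem f761735 : Led Lsl_af v8188 = v17685 :=
  Lgr Lrot45 (Lpr_ft (f761726 IH) (Lpe (f761723 IH) (Lpr_ft (f761734 IH) (Lpn v17685))))
theorem f761738 : Led Lsl_gt (LP (LK LD1_c9 LD2_c28 LD3_c46)) = v8188 :=
  Lgr Lrot46 (Lpe (K57.f438480 IH) (Lpr_ft (f761734 IH) (Lpe (f761735 IH) (Lpn v8188))))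
theorem f633460 : Led Lsl_ff (LP (LK LD1_c2 LD2_c21 LD3_c45)) = K35.v4452 :=
  Lgr Lrot3 (Lpr_ft (K35.f633456 IH) (Lpn K35.v4452))
theorem f135744 : Led Lsl_at (LP (LK LD1_c2 LD2_c21 LD3_c45)) = (LP (LK LD1_c1 LD2_c8 LD3_c5)) :=
  Lre_a IH (LK LD1_c2 LD2_c21 LD3_c45) (LK LD1_c1 LD2_c8 LD3_c5) Lrfl Lrfl
theorem f633467 : Led Lsl_gf (LP (LK LD1_c2 LD2_c21 LD3_c51)) = K35.v4452 :=
  Lgr Lrot47 (Lpr_gt (K57.f92165 IH) (Lpe (f135744 IH) (Lpr_ff (f633460 IH) (Lpn K35.v4452))))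
theorem f438279 : Led Lsl_ft (LP (LK LD1_c1 LD2_c35 LD3_c59)) = (LP (LK LD1_c3 LD2_c19 LD3_c0)) :=
  Lre_f IH (LK LD1_c1 LD2_c35 LD3_c59) (LK LD1_c3 LD2_c19 LD3_c0) Lrfl Lrfl
theorem f633465 : Led Lsl_bt (LP (LK LD1_c3 LD2_c19 LD3_c0)) = K35.v4452 :=
  Lgr Lrot35 (Lpe (f438279 IH) (Lpe (K46.f135749 IH) (Lpr_ff (f633460 IH) (Lpn K35.v4452))))
theorem f500061 : Led Lsl_ct (LP (LK LD1_c3 LD2_c19 LD3_c0)) = (LP (LK LD1_c6 LD2_c41 LD3_c57)) :=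
  Lre_c IH (LK LD1_c3 LD2_c19 LD3_c0) (LK LD1_c6 LD2_c41 LD3_c57) Lrfl Lrfl
theorem f148659 : Led Lsl_gt (LP (LK LD1_c3 LD2_c19 LD3_c8)) = (LP (LK LD1_c6 LD2_c41 LD3_c57)) :=
  Lre_g IH (LK LD1_c3 LD2_c19 LD3_c8) (LK LD1_c6 LD2_c41 LD3_c57) Lrfl Lrfl
theorem f453955 : Led Lsl_ct (LP (LK LD1_c6 LD2_c42 LD3_c19)) = (LP (LK LD1_c3 LD2_c19 LD3_c8)) :=
  Lre_c IH (LK LD1_c6 LD2_c42 LD3_c19) (LK LD1_c3 LD2_c19 LD3_c8) Lrfl Lrfl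
theorem f761740 : Led Lsl_gf (LP (LK LD1_c6 LD2_c42 LD3_c19)) = v8187 :=
  Lgr Lrot181 (Lpr_ct (f453955 IH) (Lpr_gt (f148659 IH) (Lpe (f500061 IH) (Lpr_bt (f633465 IH) (Lpe (f633467 IH) (Lpe (K57.f92166 IH) (Lpr_ct (K57.f92167 IH) (Lpr_gt (f761738 IH) (Lpe (f670286 IH) (Lpr_bt (f670284 IH) (Lpn v8187)))))))))))
theorem f769979 : Led Lsl_gt (LP (LK LD1_c3 LD2_c39 LD3_c57)) = (LP (LK LD1_c6 LD2_c42 LD3_c19)) :=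
  Leop (Lpr_gf (f761740 IH) (Lpqs (f769943 IH) (Lpn (LP (LK LD1_c3 LD2_c39 LD3_c57)))))
theorem seed_1268 : LEOK LG_g (LK LD1_c3 LD2_c39 LD3_c57) :=
  Leoe_g (LK LD1_c3 LD2_c39 LD3_c57) (f769979 IH)
def v17682 : LQ := Led Lsl_gf (LP (LK LD1_c6 LD2_c21 LD3_c22))
theorem f761721 : Led Lsl_gf (LP (LK LD1_c6 LD2_c21 LD3_c22)) = v17682 :=
  Lrfl
theorem f761728 : Led Lsl_gt v8188 = v17682 :=
  Lgr Lrot5 (Lpr_ft (f761726 IH) (Lpe (f761723 IH) (Lpr_gf (f761721 IH) (Lpn v17682))))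
theorem f115019 : Led Lsl_gt (LP (LK LD1_c6 LD2_c18 LD3_c10)) = (LP (LK LD1_c12 LD2_c12 LD3_c29)) :=
  Lre_g IH (LK LD1_c6 LD2_c18 LD3_c10) (LK LD1_c12 LD2_c12 LD3_c29) Lrfl Lrfl
theorem f114816 : Led Lsl_ct (LP (LK LD1_c3 LD2_c6 LD3_c21)) = (LP (LK LD1_c6 LD2_c18 LD3_c10)) :=
  Lre_c IH (LK LD1_c3 LD2_c6 LD3_c21) (LK LD1_c6 LD2_c18 LD3_c10) Lrfl Lrfl
theorem f769944 : v8188 = (LP (LK LD1_c6 LD2_c18 LD3_c10)) :=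
  Lefun (Lecon (f670286 IH) (f769930 IH).symm) (f114816 IH)
theorem f769980 : v17682 = (LP (LK LD1_c12 LD2_c12 LD3_c29)) :=
  Lefun (Lecon (f761728 IH) (f769944 IH)) (f115019 IH)
theorem f769981 : Led Lsl_gt (LP (LK LD1_c12 LD2_c12 LD3_c29)) = (LP (LK LD1_c6 LD2_c21 LD3_c22)) :=
  Leop (Lpr_gf (f761721 IH) (Lpqs (f769980 IH) (Lpn (LP (LK LD1_c12 LD2_c12 LD3_c29)))))
theorem seed_1269 : LEOK LG_g (LK LD1_c12 LD2_c12 LD3_c29) :=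
  Leoe_g (LK LD1_c12 LD2_c12 LD3_c29) (f769981 IH)
def v17608 : LQ := Led Lsl_ct (LP (LK LD1_c6 LD2_c20 LD3_c44))
theorem f761091 : Led Lsl_ct (LP (LK LD1_c6 LD2_c20 LD3_c44)) = v17608 :=
  Lrfl
def v1359 : LQ := Led Lsl_bt (LP (LK LD1_c1 LD2_c8 LD3_c7))
theorem f495112 : Led Lsl_bt (LP (LK LD1_c1 LD2_c8 LD3_c7)) = v1359 :=
  Lrfl
theorem f495113 : Led Lsl_bf (LP (LK LD1_c1 LD2_c8 LD3_c7)) = v1359 :=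
  Lgr Lrot24 (Lpr_bt (f495112 IH) (Lpn v1359))
def v6245 : LQ := Led Lsl_ft (LP (LK LD1_c3 LD2_c19 LD3_c23))
theorem f652275 : Led Lsl_ft (LP (LK LD1_c3 LD2_c19 LD3_c23)) = v6245 :=
  Lrfl
theorem f652277 : Led Lsl_ff (LP (LK LD1_c3 LD2_c19 LD3_c23)) = v6245 :=
  Lgr Lrot3 (Lpr_ft (f652275 IH) (Lpn v6245))
theorem f435580 : Led Lsl_bt (LP (LK LD1_c0 LD2_c44 LD3_c33)) = (LP (LK LD1_c1 LD2_c36 LD3_c6)) :=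
  Lre_b IH (LK LD1_c0 LD2_c44 LD3_c33) (LK LD1_c1 LD2_c36 LD3_c6) Lrfl Lrfl
theorem f507813 : Led Lsl_ff v1359 = (LP (LK LD1_c1 LD2_c36 LD3_c6)) :=
  Lgr Lrot25 (Lpe (f495113 IH) (Lpqs (K35.f506941 IH) (Lpe (K35.f453951 IH) (Lpr_bt (f435580 IH) (Lpn (LP (LK LD1_c1 LD2_c36 LD3_c6)))))))
theorem f652278 : Led Lsl_ct v1359 = v6245 :=
  Lgr Lrot40 (Lpr_ff (f507813 IH) (Lpe (K57.f146024 IH) (Lpr_ff (f652277 IH) (Lpn v6245))))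
theorem f761094 : Led Lsl_gf v6245 = v17608 :=
  Lgr Lrot129 (Lpe (f652278 IH) (Lpe (f495113 IH) (Lpr_gt (K32.f20101 IH) (Lpe (K6.f92153 IH) (Lpr_ct (K57.f92133 IH) (Lpr_gt (K57.f87628 IH) (Lpr_cf (K57.f704689 IH) (Lpq (K57.f715893 IH) (Lpr_bt (K57.f760041 IH) (Lpe (K57.f760039 IH) (Lpr_ct (f761091 IH) (Lpn v17608))))))))))))
def v4424 : LQ := Led Lsl_gf (LP (LK LD1_c2 LD2_c21 LD3_c10))
theorem f633287 : Led Lsl_gf (LP (LK LD1_c2 LD2_c21 LD3_c10)) = v4424 :=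
  Lrfl
theorem f99195 : Led Lsl_et (LP (LK LD1_c2 LD2_c20 LD3_c44)) = (LP (LK LD1_c4 LD2_c45 LD3_c12)) :=
  Lre_e IH (LK LD1_c2 LD2_c20 LD3_c44) (LK LD1_c4 LD2_c45 LD3_c12) Lrfl Lrfl
theorem f113808 : Led Lsl_at (LP (LK LD1_c4 LD2_c45 LD3_c12)) = (LP (LK LD1_c2 LD2_c21 LD3_c10)) :=
  Lgr Lrot80 (Lpe (f99195 IH) (Lpr_af (K4.f113787 IH) (Lpe (K5.f78055 IH) (Lpn (LP (LK LD1_c2 LD2_c21 LD3_c10))))))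
theorem f99197 : Led Lsl_ft (LP (LK LD1_c9 LD2_c23 LD3_c4)) = (LP (LK LD1_c4 LD2_c45 LD3_c12)) :=
  Lre_f IH (LK LD1_c9 LD2_c23 LD3_c4) (LK LD1_c4 LD2_c45 LD3_c12) Lrfl Lrfl
theorem f633288 : Led Lsl_gt (LP (LK LD1_c9 LD2_c23 LD3_c4)) = v4424 :=
  Lgr Lrot5 (Lpr_ft (f99197 IH) (Lpr_at (f113808 IH) (Lpr_gf (f633287 IH) (Lpn v4424))))
def v17283 : LQ := Led Lsl_ft (LP (LK LD1_c6 LD2_c17 LD3_c17))
theorem f758131 : Led Lsl_ft (LP (LK LD1_c6 LD2_c17 LD3_c17)) = v17283 :=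
  Lrfl
theorem f758134 : Led Lsl_cf (LP (LK LD1_c9 LD2_c23 LD3_c4)) = v17283 :=
  Lgr Lrot108 (Lpr_ft (f99197 IH) (Lpr_ct (K7.f99190 IH) (Lpr_ft (f758131 IH) (Lpn v17283))))
theorem f758136 : Led Lsl_ff (LP (LK LD1_c6 LD2_c17 LD3_c17)) = v17283 :=
  Lgr Lrot3 (Lpr_ft (f758131 IH) (Lpn v17283))
theorem f758139 : Led Lsl_bt v6486 = v17283 :=
  Lgr Lrot35 (Lpe (f653598 IH) (Lpr_bf (K5.f99210 IH) (Lpr_ff (f758136 IH) (Lpn v17283))))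
def v5338 : LQ := Led Lsl_ft (LP (LK LD1_c3 LD2_c6 LD3_c21))
theorem f647161 : Led Lsl_ft (LP (LK LD1_c3 LD2_c6 LD3_c21)) = v5338 :=
  Lrfl
theorem f653603 : Led Lsl_at v5338 = v6486 :=
  Lgr Lrot66 (Lpe (f647161 IH) (Lpe (K5.f114806 IH) (Lpr_ff (f653601 IH) (Lpn v6486))))
theorem f653606 : Led Lsl_gt v5336 = v6486 :=
  Lgr Lrot46 (Lpe (f647157 IH) (Lpr_ft (f647161 IH) (Lpr_at (f653603 IH) (Lpn v6486))))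
theorem f769929 : v6486 = (LP (LK LD1_c3 LD2_c8 LD3_c24)) :=
  Lefun (Lecon (f653606 IH) (f769928 IH)) (K57.f82639 IH)
theorem f769935 : v17283 = K57.v5482 :=
  Lefun (Lecon (f758139 IH) (f769929 IH)) (K57.f647876 IH)
theorem f769959 : (LP (LK LD1_c9 LD2_c23 LD3_c4)) = v17608 :=
  Lefun (Lecon (Lfl_cf (f758134 IH)) ((f769935 IH).trans (K57.f760042 IH))) (f761091 IH)
theorem f769986 : v6245 = v4424 :=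
  Lefun (Lecon (Lfl_gf (f761094 IH)) (f769959 IH).symm) (f633288 IH)
def v13222 : LQ := Led Lsl_gf (LP (LK LD1_c4 LD2_c41 LD3_c50))
theorem f701773 : Led Lsl_gf (LP (LK LD1_c4 LD2_c41 LD3_c50)) = v13222 :=
  Lrfl
theorem f769988 : v13222 = (LP (LK LD1_c3 LD2_c42 LD3_c3)) :=
  (Llr Lrot181 (Lpe (f701773 IH) (Lpr_ct (K50.f415359 IH) (Lpr_gt (K50.f139839 IH) (Lpe (K50.f139849 IH) (Lpr_bt (K6.f139830 IH) (Lpe (K32.f415355 IH) (Lpr_bf (f495113 IH) (Lpr_ct (f652278 IH) (Lpqs (f769986 IH) (Lpe (f633287 IH) (Lpr_cf (K5.f78056 IH) (Lpr_bt (K5.f114991 IH) (Lpn (LP (LK LD1_c3 LD2_c42 LD3_c3)))))))))))))))).symm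
theorem f769990 : Led Lsl_gt (LP (LK LD1_c3 LD2_c42 LD3_c3)) = (LP (LK LD1_c4 LD2_c41 LD3_c50)) :=
  Leop (Lpr_gf (f701773 IH) (Lpqs (f769988 IH) (Lpn (LP (LK LD1_c3 LD2_c42 LD3_c3)))))
theorem seed_1270 : LEOK LG_g (LK LD1_c3 LD2_c42 LD3_c3) :=
  Leoe_g (LK LD1_c3 LD2_c42 LD3_c3) (f769990 IH)
def v13507 : LQ := Led Lsl_ft (LP (LK LD1_c4 LD2_c44 LD3_c39))
theorem f703388 : Led Lsl_ft (LP (LK LD1_c4 LD2_c44 LD3_c39)) = v13507 :=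
  Lrfl
def v18728 : LQ := Led Lsl_ct (LP (LK LD1_c6 LD2_c32 LD3_c29))
theorem f768219 : Led Lsl_ct (LP (LK LD1_c6 LD2_c32 LD3_c29)) = v18728 :=
  Lrfl
theorem f768220 : Led Lsl_cf (LP (LK LD1_c6 LD2_c32 LD3_c29)) = v18728 :=
  Lgr Lrot11 (Lpr_ct (f768219 IH) (Lpn v18728))
theorem f703391 : Led Lsl_ff (LP (LK LD1_c4 LD2_c44 LD3_c39)) = v13507 :=
  Lgr Lrot3 (Lpr_ft (f703388 IH) (Lpn v13507))
theorem f102326 : Led Lsl_ct (LP (LK LD1_c4 LD2_c44 LD3_c39)) = (LP (LK LD1_c2 LD2_c20 LD3_c27)) :=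
  Lre_c IH (LK LD1_c4 LD2_c44 LD3_c39) (LK LD1_c2 LD2_c20 LD3_c27) Lrfl Lrfl
def v4393 : LQ := Led Lsl_ft (LP (LK LD1_c2 LD2_c20 LD3_c27))
theorem f633112 : Led Lsl_ft (LP (LK LD1_c2 LD2_c20 LD3_c27)) = v4393 :=
  Lrfl
theorem f703394 : Led Lsl_ct v4393 = v13507 :=
  Lgr Lrot40 (Lpe (f633112 IH) (Lpe (f102326 IH) (Lpr_ff (f703391 IH) (Lpn v13507))))
theorem f151944 : Led Lsl_bt (LP (LK LD1_c1 LD2_c33 LD3_c43)) = (LP (LK LD1_c0 LD2_c43 LD3_c26)) :=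
  Lre_b IH (LK LD1_c1 LD2_c33 LD3_c43) (LK LD1_c0 LD2_c43 LD3_c26) Lrfl Lrfl
theorem f151949 : Led Lsl_ct (LP (LK LD1_c1 LD2_c33 LD3_c43)) = (LP (LK LD1_c3 LD2_c14 LD3_c24)) :=
  Lre_c IH (LK LD1_c1 LD2_c33 LD3_c43) (LK LD1_c3 LD2_c14 LD3_c24) Lrfl Lrfl
theorem f443015 : Led Lsl_gt (LP (LK LD1_c3 LD2_c14 LD3_c24)) = (LP (LK LD1_c6 LD2_c32 LD3_c29)) :=
  Lre_g IH (LK LD1_c3 LD2_c14 LD3_c24) (LK LD1_c6 LD2_c32 LD3_c29) Lrfl Lrfl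
def v2506 : LQ := Led Lsl_et (LP (LK LD1_c1 LD2_c46 LD3_c55))
theorem f523670 : Led Lsl_et (LP (LK LD1_c1 LD2_c46 LD3_c55)) = v2506 :=
  Lrfl
theorem f523672 : Led Lsl_ef (LP (LK LD1_c1 LD2_c46 LD3_c55)) = v2506 :=
  Lgr Lrot88 (Lpr_et (f523670 IH) (Lpn v2506))
theorem f103612 : Led Lsl_gt (LP (LK LD1_c0 LD2_c22 LD3_c31)) = (LP (LK LD1_c0 LD2_c43 LD3_c55)) :=
  Lgr Lrot189 (Lpe (K3.f17453 IH) (Lpe (K3.f95138 IH) (Lpr_ct (K3.f15068 IH) (Lpr_gt (K3.f11264 IH) (Lpr_dt (K0.f15088 IH) (Lpr_gt (K1.f65006 IH) (Lpr_dt (K1.f63157 IH) (Lpr_ct (K3.f103582 IH) (Lpe (K5.f65444 IH) (Lpn (LP (LK LD1_c0 LD2_c43 LD3_c55))))))))))))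
theorem f104171 : Led Lsl_bf (LP (LK LD1_c0 LD2_c50 LD3_c15)) = (LP (LK LD1_c0 LD2_c42 LD3_c46)) :=
  Lgr Lrot156 (Lpr_gt (K4.f12569 IH) (Lpr_bf (K5.f12406 IH) (Lpr_ct (K0.f5827 IH) (Lpr_gt (f103612 IH) (Lpe (K3.f103492 IH) (Lpr_bt (K3.f79320 IH) (Lpr_gt (K3.f104162 IH) (Lpe (K3.f79261 IH) (Lpr_gt (K2.f23342 IH) (Lpe (K3.f23335 IH) (Lpn (LP (LK LD1_c0 LD2_c42 LD3_c46)))))))))))))
theorem f124212 : Led Lsl_et (LP (LK LD1_c0 LD2_c50 LD3_c15)) = (LP (LK LD1_c0 LD2_c50 LD3_c15)) :=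
  Lgr Lrot74 (Lpr_bf (f104171 IH) (Lpe (K3.f65541 IH) (Lpr_bf (K4.f124210 IH) (Lpn (LP (LK LD1_c0 LD2_c50 LD3_c15))))))
theorem f523674 : Led Lsl_dt v2506 = v2506 :=
  Lgr Lrot77 (Lpe (f523670 IH) (Lpe (K5.f107287 IH) (Lpe (f124212 IH) (Lpe (K4.f66467 IH) (Lpr_ef (f523672 IH) (Lpn v2506))))))
def v9181 : LQ := Led Lsl_gf v2506
theorem f673928 : Led Lsl_gf v2506 = v9181 :=
  Lrfl
theorem f769996 : K50.v5855 = v9181 :=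
  (Llr Lrot136 (Lpr_df (K50.f701780 IH) (Lpe (K50.f701778 IH) (Lpr_gf (f701773 IH) (Lpqs (f769988 IH) (Lpe (K5.f114975 IH) (Lpe (K4.f114995 IH) (Lpe (K2.f12080 IH) (Lpe (K5.f12109 IH) (Lpe (K5.f128325 IH) (Lpr_ef (f523672 IH) (Lpr_dt (f523674 IH) (Lpr_gf (f673928 IH) (Lpn v9181)))))))))))))).symm
def v2537 : LQ := Led Lsl_et (LP (LK LD1_c1 LD2_c47 LD3_c59))
def v9215 : LQ := Led Lsl_ft v2537
theorem f674405 : Led Lsl_ft v2537 = v9215 :=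
  Lrfl
theorem f674408 : Led Lsl_ff v2537 = v9215 :=
  Lgr Lrot3 (Lpr_ft (f674405 IH) (Lpn v9215))
theorem f527234 : Led Lsl_et (LP (LK LD1_c1 LD2_c47 LD3_c59)) = v2537 :=
  Lrfl
theorem f144756 : Led Lsl_ff (LP (LK LD1_c3 LD2_c42 LD3_c18)) = (LP (LK LD1_c3 LD2_c25 LD3_c58)) :=
  Lgr Lrot25 (Lpr_bt (K7.f144669 IH) (Lpr_ft (K6.f144752 IH) (Lpr_bt (K5.f107578 IH) (Lpn (LP (LK LD1_c3 LD2_c25 LD3_c58))))))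
theorem f148677 : Led Lsl_ft (LP (LK LD1_c6 LD2_c30 LD3_c52)) = (LP (LK LD1_c6 LD2_c53 LD3_c49)) :=
  Lgr Lrot4 (Lpr_cf (K7.f148642 IH) (Lpr_ff (f144756 IH) (Lpe (K5.f12586 IH) (Lpn (LP (LK LD1_c6 LD2_c53 LD3_c49))))))
theorem f148683 : Led Lsl_ft (LP (LK LD1_c3 LD2_c39 LD3_c54)) = (LP (LK LD1_c3 LD2_c13 LD3_c53)) :=
  Lgr Lrot54 (Lpe (K5.f124218 IH) (Lpe (f148677 IH) (Lpr_df (K7.f148681 IH) (Lpn (LP (LK LD1_c3 LD2_c13 LD3_c53))))))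
theorem f436730 : Led Lsl_ff (LP (LK LD1_c3 LD2_c39 LD3_c54)) = (LP (LK LD1_c3 LD2_c13 LD3_c53)) :=
  Lgr Lrot3 (Lpr_ft (f148683 IH) (Lpn (LP (LK LD1_c3 LD2_c13 LD3_c53))))
theorem f436738 : Led Lsl_at (LP (LK LD1_c3 LD2_c39 LD3_c54)) = (LP (LK LD1_c3 LD2_c13 LD3_c54)) :=
  Lgr Lrot26 (Lpr_ff (f436730 IH) (Lpr_gt (K7.f147561 IH) (Lpe (K11.f148049 IH) (Lpn (LP (LK LD1_c3 LD2_c13 LD3_c54))))))
theorem f436740 : Led Lsl_af (LP (LK LD1_c3 LD2_c39 LD3_c54)) = (LP (LK LD1_c3 LD2_c13 LD3_c54)) :=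
  Lgr Lrot0 (Lpr_at (f436738 IH) (Lpn (LP (LK LD1_c3 LD2_c13 LD3_c54))))
theorem f436747 : Led Lsl_at (LP (LK LD1_c1 LD2_c46 LD3_c55)) = (LP (LK LD1_c1 LD2_c47 LD3_c59)) :=
  Lgr Lrot107 (Lpe (K4.f107289 IH) (Lpr_af (f436740 IH) (Lpe (K7.f147467 IH) (Lpn (LP (LK LD1_c1 LD2_c47 LD3_c59))))))
theorem f527235 : Led Lsl_af v2506 = v2537 :=
  Lgr Lrot50 (Lpe (f523672 IH) (Lpr_at (f436747 IH) (Lpr_et (f527234 IH) (Lpn v2537))))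
theorem f674413 : Led Lsl_gf v9181 = v9215 :=
  Lgr Lrot47 (Lpe (f673928 IH) (Lpr_af (f527235 IH) (Lpr_ff (f674408 IH) (Lpn v9215))))
theorem f102321 : Led Lsl_et (LP (LK LD1_c2 LD2_c20 LD3_c27)) = (LP (LK LD1_c1 LD2_c7 LD3_c33)) :=
  Lre_e IH (LK LD1_c2 LD2_c20 LD3_c27) (LK LD1_c1 LD2_c7 LD3_c33) Lrfl Lrfl
theorem f527236 : Led Lsl_bf (LP (LK LD1_c2 LD2_c20 LD3_c27)) = v2537 :=
  Lgr Lrot96 (Lpr_et (f102321 IH) (Lpe (K4.f104135 IH) (Lpr_et (f527234 IH) (Lpn v2537))))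
theorem f674411 : Led Lsl_bt v4393 = v9215 :=
  Lgr Lrot35 (Lpe (f633112 IH) (Lpr_bf (f527236 IH) (Lpr_ff (f674408 IH) (Lpn v9215))))
theorem f769998 : v18728 = v4393 :=
  (Llr Lrot58 (Lpe (f768220 IH) (Lpe (f443015 IH) (Lpe (f151949 IH) (Lpr_bt (f151944 IH) (Lpe (K0.f22520 IH) (Lpe (K0.f22585 IH) (Lpr_ct (f22507 IH) (Lpe (K50.f22604 IH) (Lpr_cf (K50.f649837 IH) (Lpqs (f769996 IH) (Lpr_gf (f674413 IH) (Lpe (f674411 IH) (Lpn v4393)))))))))))))).symm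
theorem f769999 : (LP (LK LD1_c6 LD2_c32 LD3_c29)) = v13507 :=
  Lefun (Lecon (Lfl_cf (f768220 IH)) (f769998 IH)) (f703394 IH)
theorem f770004 : Led Lsl_ft (LP (LK LD1_c4 LD2_c44 LD3_c39)) = (LP (LK LD1_c6 LD2_c32 LD3_c29)) :=
  Leop (Lpqs (f769999 IH) (Lpe (f703388 IH) (Lpn (LP (LK LD1_c4 LD2_c44 LD3_c39)))))
theorem seed_1271 : LEOK LG_f (LK LD1_c4 LD2_c44 LD3_c39) :=
  Leoe_f (LK LD1_c4 LD2_c44 LD3_c39) (f770004 IH)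
def v13139 : LQ := Led Lsl_gt (LP (LK LD1_c4 LD2_c40 LD3_c34))
theorem f701307 : Led Lsl_gt (LP (LK LD1_c4 LD2_c40 LD3_c34)) = v13139 :=
  Lrfl
def v13141 : LQ := Led Lsl_ft (LP (LK LD1_c4 LD2_c40 LD3_c34))
theorem f701309 : Led Lsl_ft (LP (LK LD1_c4 LD2_c40 LD3_c34)) = v13141 :=
  Lrfl
theorem f703393 : Led Lsl_at v13141 = v13507 :=
  Lgr Lrot66 (Lpe (f701309 IH) (Lpe (K42.f110640 IH) (Lpr_ff (f703391 IH) (Lpn v13507))))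
theorem f703396 : Led Lsl_gt v13139 = v13507 :=
  Lgr Lrot46 (Lpe (f701307 IH) (Lpr_ft (f701309 IH) (Lpr_at (f703393 IH) (Lpn v13507))))
theorem f770001 : v13139 = (LP (LK LD1_c3 LD2_c14 LD3_c24)) :=
  Lefun (Lecon (Lfl_gt (f703396 IH)) (f769999 IH).symm) (Lfl_gt (f443015 IH))
theorem f770007 : Led Lsl_gt (LP (LK LD1_c4 LD2_c40 LD3_c34)) = (LP (LK LD1_c3 LD2_c14 LD3_c24)) :=
  Leop (Lpq (f770001 IH) (Lpe (f701307 IH) (Lpn (LP (LK LD1_c4 LD2_c40 LD3_c34)))))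
theorem seed_1272 : LEOK LG_g (LK LD1_c4 LD2_c40 LD3_c34) :=
  Leoe_g (LK LD1_c4 LD2_c40 LD3_c34) (f770007 IH)
def v17391 : LQ := Led Lsl_gf (LP (LK LD1_c6 LD2_c18 LD3_c37))
theorem f759567 : Led Lsl_gf (LP (LK LD1_c6 LD2_c18 LD3_c37)) = v17391 :=
  Lrfl
theorem f769898 : Led Lsl_gt v18162 = v17391 :=
  Lgr Lrot5 (Lpr_ft (f769895 IH) (Lpe (f759383 IH) (Lpr_gf (f759567 IH) (Lpn v17391))))
def v17403 : LQ := Led Lsl_gf (LP (LK LD1_c6 LD2_c18 LD3_c44))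
theorem f759601 : Led Lsl_gf (LP (LK LD1_c6 LD2_c18 LD3_c44)) = v17403 :=
  Lrfl
theorem f769899 : Led Lsl_df v17403 = v17391 :=
  Lgr Lrot135 (Lpe (f759601 IH) (Lpr_df (K11.f99229 IH) (Lpr_et (K4.f77782 IH) (Lpr_gt (K4.f9755 IH) (Lpe (K2.f76904 IH) (Lpe (K49.f73758 IH) (Lpr_gt (K9.f61435 IH) (Lpr_df (f649140 IH) (Lpe (f769892 IH) (Lpr_gt (f769898 IH) (Lpn v17391)))))))))))
def v1834 : LQ := Led Lsl_et (LP (LK LD1_c1 LD2_c29 LD3_c20))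
theorem f504466 : Led Lsl_et (LP (LK LD1_c1 LD2_c29 LD3_c20)) = v1834 :=
  Lrfl
def v8099 : LQ := Led Lsl_gt v1834
theorem f669980 : Led Lsl_gt v1834 = v8099 :=
  Lrfl
theorem f769901 : Led Lsl_ef v8099 = v17391 :=
  Lgr Lrot17 (Lpe (f669980 IH) (Lpe (f504466 IH) (Lpr_dt (K3.f110322 IH) (Lpe (K3.f9754 IH) (Lpe (K2.f9748 IH) (Lpe (K4.f9755 IH) (Lpe (K4.f77782 IH) (Lpe (K11.f99229 IH) (Lpr_gf (f759601 IH) (Lpr_df (f769899 IH) (Lpn v17391)))))))))))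
theorem f769904 : Led Lsl_et v8099 = v17391 :=
  Lgr Lrot87 (Lpr_ef (f769901 IH) (Lpn v17391))
theorem f79808 : Led Lsl_et (LP (LK LD1_c3 LD2_c12 LD3_c57)) = (LP (LK LD1_c6 LD2_c29 LD3_c53)) :=
  Lre_e IH (LK LD1_c3 LD2_c12 LD3_c57) (LK LD1_c6 LD2_c29 LD3_c53) Lrfl Lrfl
def v4346 : LQ := Led Lsl_gt (LP (LK LD1_c2 LD2_c19 LD3_c44))
theorem f632829 : Led Lsl_gt (LP (LK LD1_c2 LD2_c19 LD3_c44)) = v4346 :=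
  Lrfl
theorem f453638 : Led Lsl_at (LP (LK LD1_c1 LD2_c32 LD3_c57)) = (LP (LK LD1_c3 LD2_c12 LD3_c57)) :=
  Lre_a IH (LK LD1_c1 LD2_c32 LD3_c57) (LK LD1_c3 LD2_c12 LD3_c57) Lrfl Lrfl
theorem f632830 : Led Lsl_gf (LP (LK LD1_c3 LD2_c12 LD3_c57)) = v4346 :=
  Lgr Lrot76 (Lpe (f453638 IH) (Lpr_ff (K32.f504987 IH) (Lpr_gt (f632829 IH) (Lpn v4346))))
def v5876 : LQ := Led Lsl_gf (LP (LK LD1_c3 LD2_c14 LD3_c24))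
theorem f649917 : Led Lsl_gf (LP (LK LD1_c3 LD2_c14 LD3_c24)) = v5876 :=
  Lrfl
def v18293 : LQ := Led Lsl_at (LP (LK LD1_c6 LD2_c28 LD3_c14))
theorem f766132 : Led Lsl_at (LP (LK LD1_c6 LD2_c28 LD3_c14)) = v18293 :=
  Lrfl
theorem f648930 : Led Lsl_bt (LP (LK LD1_c3 LD2_c12 LD3_c5)) = (LP (LK LD1_c6 LD2_c28 LD3_c14)) :=
  Lre_b IH (LK LD1_c3 LD2_c12 LD3_c5) (LK LD1_c6 LD2_c28 LD3_c14) Lrfl Lrfl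
theorem f766134 : Led Lsl_bf (LP (LK LD1_c6 LD2_c29 LD3_c6)) = v18293 :=
  Lgr Lrot81 (Lpr_at (f506711 IH) (Lpr_bt (K46.f82904 IH) (Lpq (K51.f707776 IH) (Lpe (K51.f648929 IH) (Lpr_bt (f648930 IH) (Lpr_at (f766132 IH) (Lpn v18293)))))))
def v8313 : LQ := Led Lsl_bt K51.v1976
theorem f670751 : Led Lsl_bt K51.v1976 = v8313 :=
  Lrfl
theorem f707805 : v8313 = (LP (LK LD1_c6 LD2_c28 LD3_c14)) :=
  Lefun (Lecon (f670751 IH) (K57.f707781 IH)) (f648930 IH)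
def v3085 : LQ := Led Lsl_bt K51.v497
theorem f623804 : Led Lsl_bt K51.v497 = v3085 :=
  Lrfl
theorem f623805 : Led Lsl_bf K51.v497 = v3085 :=
  Lgr Lrot24 (Lpr_bt (f623804 IH) (Lpn v3085))
theorem f670753 : Led Lsl_ff v3085 = v8313 :=
  Lgr Lrot25 (Lpe (f623805 IH) (Lpr_ft (K51.f506714 IH) (Lpr_bt (f670751 IH) (Lpn v8313))))
theorem f670754 : Led Lsl_ft v3085 = v8313 :=
  Lgr Lrot48 (Lpr_ff (f670753 IH) (Lpn v8313))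
def v9823 : LQ := Led Lsl_at v3085
theorem f677697 : Led Lsl_at v3085 = v9823 :=
  Lrfl
theorem f677698 : Led Lsl_af v3085 = v9823 :=
  Lgr Lrot0 (Lpr_at (f677697 IH) (Lpn v9823))
theorem f766135 : Led Lsl_ff v9823 = v18293 :=
  Lgr Lrot30 (Lpe (f677698 IH) (Lpr_ft (f670754 IH) (Lpqs (f707805 IH) (Lpr_at (f766132 IH) (Lpn v18293)))))
theorem f766137 : Led Lsl_ft v9823 = v18293 :=
  Lgr Lrot48 (Lpr_ff (f766135 IH) (Lpn v18293))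
theorem f766693 : Led Lsl_bf v9823 = v18387 :=
  Lgr Lrot61 (Lpr_ft (f766137 IH) (Lpe (f766134 IH) (Lpr_ft (f766691 IH) (Lpn v18387))))
theorem f766133 : Led Lsl_af (LP (LK LD1_c6 LD2_c28 LD3_c14)) = v18293 :=
  Lgr Lrot0 (Lpr_at (f766132 IH) (Lpn v18293))
def v18292 : LQ := Led Lsl_gf (LP (LK LD1_c6 LD2_c28 LD3_c14))
theorem f766131 : Led Lsl_gf (LP (LK LD1_c6 LD2_c28 LD3_c14)) = v18292 :=
  Lrfl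
theorem f766139 : Led Lsl_gt v9823 = v18292 :=
  Lgr Lrot5 (Lpr_ft (f766137 IH) (Lpe (f766133 IH) (Lpr_gf (f766131 IH) (Lpn v18292))))
theorem f766712 : Led Lsl_cf v5876 = v18292 :=
  Lgr Lrot125 (Lpe (f649917 IH) (Lpe (f151949 IH) (Lpr_bt (f151944 IH) (Lpe (K24.f151942 IH) (Lpr_bf (f494872 IH) (Lpr_ct (f632965 IH) (Lpr_gt (f703024 IH) (Lpq (f707934 IH) (Lpr_cf (f766694 IH) (Lpe (f766693 IH) (Lpr_gt (f766139 IH) (Lpn v18292))))))))))))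
theorem f766714 : Led Lsl_bf v4346 = v18292 :=
  Lgr Lrot34 (Lpe (f632829 IH) (Lpe (K46.f82585 IH) (Lpe (K32.f445619 IH) (Lpe (K41.f151905 IH) (Lpe (K7.f25224 IH) (Lpr_gf (K24.f151942 IH) (Lpe (f151944 IH) (Lpr_ct (f151949 IH) (Lpr_gf (f649917 IH) (Lpr_cf (f766712 IH) (Lpn v18292)))))))))))
def v4387 : LQ := Led Lsl_et (LP (LK LD1_c2 LD2_c20 LD3_c20))
theorem f633085 : Led Lsl_et (LP (LK LD1_c2 LD2_c20 LD3_c20)) = v4387 :=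
  Lrfl
theorem f504468 : Led Lsl_ef (LP (LK LD1_c1 LD2_c29 LD3_c20)) = v1834 :=
  Lgr Lrot88 (Lpr_et (f504466 IH) (Lpn v1834))
theorem f633087 : Led Lsl_bf v1834 = v4387 :=
  Lgr Lrot96 (Lpe (f504468 IH) (Lpr_bt (K28.f110934 IH) (Lpr_et (f633085 IH) (Lpn v4387))))
theorem f766713 : Led Lsl_ct v5876 = v18292 :=
  Lgr Lrot59 (Lpr_cf (f766712 IH) (Lpn v18292))
theorem f633089 : Led Lsl_ef (LP (LK LD1_c2 LD2_c20 LD3_c20)) = v4387 :=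
  Lgr Lrot88 (Lpr_et (f633085 IH) (Lpn v4387))
theorem f102025 : Led Lsl_et (LP (LK LD1_c2 LD2_c17 LD3_c21)) = (LP (LK LD1_c4 LD2_c40 LD3_c34)) :=
  Lre_e IH (LK LD1_c2 LD2_c17 LD3_c21) (LK LD1_c4 LD2_c40 LD3_c34) Lrfl Lrfl
theorem f633092 : Led Lsl_ct (LP (LK LD1_c4 LD2_c40 LD3_c34)) = v4387 :=
  Lgr Lrot15 (Lpe (f102025 IH) (Lpe (K4.f110341 IH) (Lpr_ef (f633089 IH) (Lpn v4387))))
def v18726 : LQ := Led Lsl_gt (LP (LK LD1_c6 LD2_c32 LD3_c29))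
theorem f768205 : Led Lsl_gt (LP (LK LD1_c6 LD2_c32 LD3_c29)) = v18726 :=
  Lrfl
def v5878 : LQ := Led Lsl_ft (LP (LK LD1_c3 LD2_c14 LD3_c24))
theorem f649922 : Led Lsl_ft (LP (LK LD1_c3 LD2_c14 LD3_c24)) = v5878 :=
  Lrfl
theorem f768206 : Led Lsl_at v5878 = v18726 :=
  Lgr Lrot26 (Lpe (f649922 IH) (Lpr_gt (f443015 IH) (Lpr_gt (f768205 IH) (Lpn v18726))))
def v5877 : LQ := Led Lsl_at (LP (LK LD1_c3 LD2_c14 LD3_c24))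
theorem f649918 : Led Lsl_at (LP (LK LD1_c3 LD2_c14 LD3_c24)) = v5877 :=
  Lrfl
theorem f649919 : Led Lsl_af (LP (LK LD1_c3 LD2_c14 LD3_c24)) = v5877 :=
  Lgr Lrot0 (Lpr_at (f649918 IH) (Lpn v5877))
theorem f768210 : Led Lsl_ff v5877 = v18726 :=
  Lgr Lrot30 (Lpe (f649919 IH) (Lpr_ft (f649922 IH) (Lpr_at (f768206 IH) (Lpn v18726))))
theorem f768213 : Led Lsl_gf v5876 = v18726 :=
  Lgr Lrot47 (Lpe (f649917 IH) (Lpr_af (f649919 IH) (Lpr_ff (f768210 IH) (Lpn v18726))))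
def v13140 : LQ := Led Lsl_gf (LP (LK LD1_c4 LD2_c40 LD3_c34))
theorem f701308 : Led Lsl_gf (LP (LK LD1_c4 LD2_c40 LD3_c34)) = v13140 :=
  Lrfl
theorem f703395 : Led Lsl_gf v13140 = v13507 :=
  Lgr Lrot47 (Lpe (f701308 IH) (Lpe (K42.f110640 IH) (Lpr_ff (f703391 IH) (Lpn v13507))))
theorem f770000 : v13140 = v18726 :=
  Lefun (Lecon (Lfl_gf (f703395 IH)) (f769999 IH).symm) (f768205 IH)
theorem f770006 : v5876 = (LP (LK LD1_c4 LD2_c40 LD3_c34)) :=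
  Lefun (Lecon (Lfl_gf (f768213 IH)) (f770000 IH).symm) (Lfl_gf (f701308 IH))
theorem f770008 : v18292 = v4387 :=
  Lefun (Lecon (f766713 IH) (f770006 IH)) (f633092 IH)
theorem f770009 : v4346 = v1834 :=
  Lefun (Lecon (Lfl_bf (f766714 IH)) (f770008 IH)) (Lfl_bf (f633087 IH))
theorem f770010 : (LP (LK LD1_c3 LD2_c12 LD3_c57)) = v8099 :=
  Lefun (Lecon (Lfl_gf (f632830 IH)) (f770009 IH)) (f669980 IH)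
theorem f770013 : v17391 = (LP (LK LD1_c6 LD2_c29 LD3_c53)) :=
  Lefun (Lecon (f769904 IH) (f770010 IH).symm) (f79808 IH)
theorem f770015 : Led Lsl_gt (LP (LK LD1_c6 LD2_c29 LD3_c53)) = (LP (LK LD1_c6 LD2_c18 LD3_c37)) :=
  Leop (Lpr_gf (f759567 IH) (Lpqs (f770013 IH) (Lpn (LP (LK LD1_c6 LD2_c29 LD3_c53)))))
theorem seed_1273 : LEOK LG_g (LK LD1_c6 LD2_c29 LD3_c53) :=
  Leoe_g (LK LD1_c6 LD2_c29 LD3_c53) (f770015 IH)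
def v18472 : LQ := Led Lsl_et (LP (LK LD1_c6 LD2_c29 LD3_c58))
theorem f767113 : Led Lsl_et (LP (LK LD1_c6 LD2_c29 LD3_c58)) = v18472 :=
  Lrfl
def v13420 : LQ := Led Lsl_at (LP (LK LD1_c4 LD2_c43 LD3_c51))
theorem f702861 : Led Lsl_at (LP (LK LD1_c4 LD2_c43 LD3_c51)) = v13420 :=
  Lrfl
theorem f632833 : Led Lsl_af (LP (LK LD1_c2 LD2_c19 LD3_c44)) = K46.v4348 :=
  Lgr Lrot0 (Lpr_at (K46.f632832 IH) (Lpn K46.v4348))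
theorem f702864 : Led Lsl_ef K46.v4348 = v13420 :=
  Lgr Lrot20 (Lpe (f632833 IH) (Lpr_et (K32.f82622 IH) (Lpr_at (f702861 IH) (Lpn v13420))))
theorem f702866 : Led Lsl_et K46.v4348 = v13420 :=
  Lgr Lrot87 (Lpr_ef (f702864 IH) (Lpn v13420))
theorem f647892 : Led Lsl_dt K46.v4348 = K46.v5485 :=
  Lgr Lrot42 (Lpr_df (K46.f647891 IH) (Lpn K46.v5485))
theorem f647894 : Led Lsl_ff (LP (LK LD1_c6 LD2_c29 LD3_c52)) = K46.v5485 :=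
  Lgr Lrot3 (Lpr_ft (K46.f647893 IH) (Lpn K46.v5485))
theorem f504986 : Led Lsl_at (LP (LK LD1_c6 LD2_c29 LD3_c52)) = (LP (LK LD1_c3 LD2_c12 LD3_c59)) :=
  Lre_a IH (LK LD1_c6 LD2_c29 LD3_c52) (LK LD1_c3 LD2_c12 LD3_c59) Lrfl Lrfl
theorem f79820 : Led Lsl_gt (LP (LK LD1_c6 LD2_c29 LD3_c58)) = (LP (LK LD1_c3 LD2_c12 LD3_c59)) :=
  Lre_g IH (LK LD1_c6 LD2_c29 LD3_c58) (LK LD1_c3 LD2_c12 LD3_c59) Lrfl Lrfl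
theorem f647897 : Led Lsl_gf (LP (LK LD1_c6 LD2_c29 LD3_c58)) = K46.v5485 :=
  Lgr Lrot47 (Lpr_gt (f79820 IH) (Lpe (f504986 IH) (Lpr_ff (f647894 IH) (Lpn K46.v5485))))
def v18471 : LQ := Led Lsl_dt (LP (LK LD1_c6 LD2_c29 LD3_c58))
theorem f767111 : Led Lsl_dt (LP (LK LD1_c6 LD2_c29 LD3_c58)) = v18471 :=
  Lrfl
theorem f767112 : Led Lsl_df (LP (LK LD1_c6 LD2_c29 LD3_c58)) = v18471 :=
  Lgr Lrot38 (Lpr_dt (f767111 IH) (Lpn v18471))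
def v18457 : LQ := Led Lsl_gt (LP (LK LD1_c6 LD2_c29 LD3_c53))
theorem f767067 : Led Lsl_gt (LP (LK LD1_c6 LD2_c29 LD3_c53)) = v18457 :=
  Lrfl
theorem f79804 : Led Lsl_ft (LP (LK LD1_c6 LD2_c29 LD3_c53)) = (LP (LK LD1_c12 LD2_c29 LD3_c28)) :=
  Lre_f IH (LK LD1_c6 LD2_c29 LD3_c53) (LK LD1_c12 LD2_c29 LD3_c28) Lrfl Lrfl
theorem f79811 : Led Lsl_at (LP (LK LD1_c12 LD2_c29 LD3_c28)) = (LP (LK LD1_c6 LD2_c30 LD3_c1)) :=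
  Lre_a IH (LK LD1_c12 LD2_c29 LD3_c28) (LK LD1_c6 LD2_c30 LD3_c1) Lrfl Lrfl
theorem f767068 : Led Lsl_gf (LP (LK LD1_c6 LD2_c30 LD3_c1)) = v18457 :=
  Lgr Lrot76 (Lpe (f79811 IH) (Lpe (f79804 IH) (Lpr_gt (f767067 IH) (Lpn v18457))))
theorem f770014 : (LP (LK LD1_c6 LD2_c18 LD3_c37)) = v18457 :=
  Lefun (Lecon (Lfl_gf (f759567 IH)) (f770013 IH)) (f767067 IH)
theorem f770018 : (LP (LK LD1_c6 LD2_c30 LD3_c1)) = v17390 :=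
  Lefun (Lecon (Lfl_gf (f767068 IH)) (f770014 IH).symm) (f759566 IH)
theorem f770027 : v18422 = (LP (LK LD1_c9 LD2_c20 LD3_c43)) :=
  Lefun (Lecon (Lfl_ef (f769908 IH)) (f770018 IH).symm) (K32.f504991 IH)
def v18421 : LQ := Led Lsl_gt (LP (LK LD1_c6 LD2_c29 LD3_c30))
theorem f766905 : Led Lsl_gt (LP (LK LD1_c6 LD2_c29 LD3_c30)) = v18421 :=
  Lrfl
theorem f770029 : v13420 = v18421 :=
  (Llr Lrot26 (Lpe (f702861 IH) (Lpe (K32.f82625 IH) (Lpq (f770027 IH) (Lpe (f766906 IH) (Lpr_gt (f766905 IH) (Lpn v18421))))))).symm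
def v5660 : LQ := Led Lsl_ft (LP (LK LD1_c3 LD2_c11 LD3_c19))
theorem f648731 : Led Lsl_ft (LP (LK LD1_c3 LD2_c11 LD3_c19)) = v5660 :=
  Lrfl
theorem f648733 : Led Lsl_df v3910 = v5660 :=
  Lgr Lrot78 (Lpe (f627859 IH) (Lpr_dt (f67300 IH) (Lpr_ft (f648731 IH) (Lpn v5660))))
def v18157 : LQ := Led Lsl_ft (LP (LK LD1_c6 LD2_c26 LD3_c47))
theorem f765316 : Led Lsl_ft (LP (LK LD1_c6 LD2_c26 LD3_c47)) = v18157 :=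
  Lrfl
theorem f648734 : Led Lsl_ff (LP (LK LD1_c3 LD2_c11 LD3_c19)) = v5660 :=
  Lgr Lrot3 (Lpr_ft (f648731 IH) (Lpn v5660))
theorem f765317 : Led Lsl_af v5660 = v18157 :=
  Lgr Lrot45 (Lpe (f648734 IH) (Lpr_at (f506607 IH) (Lpr_ft (f765316 IH) (Lpn v18157))))
theorem f765320 : Led Lsl_gt v18153 = v5660 :=
  Lgr Lrot46 (Lpe (f765297 IH) (Lpr_ft (f765316 IH) (Lpe (f765317 IH) (Lpn v5660))))
theorem f770030 : Led Lsl_et v18471 = v18153 :=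
  Lgr Lrot121 (Lpe (f767112 IH) (Lpr_gf (f647897 IH) (Lpe (f647892 IH) (Lpr_et (f702866 IH) (Lpqs (f770029 IH) (Lpe (f766905 IH) (Lpe (f79633 IH) (Lpr_dt (f649139 IH) (Lpqs (f769910 IH) (Lpe (f686137 IH) (Lpr_df (f648733 IH) (Lpe (f765320 IH) (Lpn v18153)))))))))))))
theorem f767114 : Led Lsl_ef (LP (LK LD1_c6 LD2_c29 LD3_c58)) = v18472 :=
  Lgr Lrot88 (Lpr_et (f767113 IH) (Lpn v18472))
theorem f770033 : v18472 = (LP (LK LD1_c3 LD2_c22 LD3_c43)) :=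
  (Llr Lrot73 (Lpe (f767114 IH) (Lpr_dt (f767111 IH) (Lpr_et (f770030 IH) (Lpe (f769762 IH) (Lpqs (K50.f674532 IH) (Lpr_et (K49.f653650 IH) (Lpe (K49.f653648 IH) (Lpn (LP (LK LD1_c3 LD2_c22 LD3_c43))))))))))).symm
theorem f770036 : Led Lsl_et (LP (LK LD1_c6 LD2_c29 LD3_c58)) = (LP (LK LD1_c3 LD2_c22 LD3_c43)) :=
  Leop (Lpq (f770033 IH) (Lpe (f767113 IH) (Lpn (LP (LK LD1_c6 LD2_c29 LD3_c58)))))
theorem seed_1274 : LEOK LG_e (LK LD1_c6 LD2_c29 LD3_c58) :=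
  Leoe_e (LK LD1_c6 LD2_c29 LD3_c58) (f770036 IH)
def v18482 : LQ := Led Lsl_dt (LP (LK LD1_c6 LD2_c29 LD3_c61))
theorem f767143 : Led Lsl_dt (LP (LK LD1_c6 LD2_c29 LD3_c61)) = v18482 :=
  Lrfl
theorem f79797 : Led Lsl_gt (LP (LK LD1_c3 LD2_c12 LD3_c60)) = (LP (LK LD1_c6 LD2_c29 LD3_c61)) :=
  Lre_g IH (LK LD1_c3 LD2_c12 LD3_c60) (LK LD1_c6 LD2_c29 LD3_c61) Lrfl Lrfl
theorem f770034 : v18482 = (LP (LK LD1_c9 LD2_c20 LD3_c11)) :=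
  (Llr Lrot171 (Lpe (f767143 IH) (Lpe (f79797 IH) (Lpe (K32.f79778 IH) (Lpr_dt (K32.f79818 IH) (Lpe (f79820 IH) (Lpr_df (f767112 IH) (Lpr_et (f770030 IH) (Lpe (f765297 IH) (Lpe (f67279 IH) (Lpr_dt (f67286 IH) (Lpr_gf (f623790 IH) (Lpn (LP (LK LD1_c9 LD2_c20 LD3_c11))))))))))))))).symm
theorem f770039 : Led Lsl_dt (LP (LK LD1_c6 LD2_c29 LD3_c61)) = (LP (LK LD1_c9 LD2_c20 LD3_c11)) :=
  Leop (Lpq (f770034 IH) (Lpe (f767143 IH) (Lpn (LP (LK LD1_c6 LD2_c29 LD3_c61)))))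
theorem seed_1275 : LEOK LG_d (LK LD1_c6 LD2_c29 LD3_c61) :=
  Leoe_d (LK LD1_c6 LD2_c29 LD3_c61) (f770039 IH)
def v18200 : LQ := Led Lsl_gt (LP (LK LD1_c6 LD2_c27 LD3_c11))
theorem f765486 : Led Lsl_gt (LP (LK LD1_c6 LD2_c27 LD3_c11)) = v18200 :=
  Lrfl
def v18169 : LQ := Led Lsl_at (LP (LK LD1_c6 LD2_c26 LD3_c53))
theorem f765361 : Led Lsl_at (LP (LK LD1_c6 LD2_c26 LD3_c53)) = v18169 :=
  Lrfl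
theorem f765362 : Led Lsl_af (LP (LK LD1_c6 LD2_c26 LD3_c53)) = v18169 :=
  Lgr Lrot0 (Lpr_at (f765361 IH) (Lpn v18169))
theorem f414843 : Led Lsl_gt (LP (LK LD1_c3 LD2_c11 LD3_c19)) = (LP (LK LD1_c6 LD2_c26 LD3_c53)) :=
  Lre_g IH (LK LD1_c3 LD2_c11 LD3_c19) (LK LD1_c6 LD2_c26 LD3_c53) Lrfl Lrfl
def v5659 : LQ := Led Lsl_gf (LP (LK LD1_c3 LD2_c11 LD3_c19))
theorem f648730 : Led Lsl_gf (LP (LK LD1_c3 LD2_c11 LD3_c19)) = v5659 :=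
  Lrfl
theorem f765363 : Led Lsl_ft v5659 = v18169 :=
  Lgr Lrot2 (Lpe (f648730 IH) (Lpr_gt (f414843 IH) (Lpr_af (f765362 IH) (Lpn v18169))))
theorem f765364 : Led Lsl_ff v5659 = v18169 :=
  Lgr Lrot3 (Lpr_ft (f765363 IH) (Lpn v18169))
theorem f674720 : Led Lsl_af K49.v6498 = v6494 :=
  Lgr Lrot50 (Lpe (K49.f653649 IH) (Lpq (K50.f674532 IH) (Lpe (K49.f653626 IH) (Lpr_et (f653633 IH) (Lpn v6494)))))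
theorem f674721 : Led Lsl_at K49.v6498 = v6494 :=
  Lgr Lrot100 (Lpr_af (f674720 IH) (Lpn v6494))
theorem f769763 : Led Lsl_ff K49.v6498 = v18153 :=
  Lgr Lrot30 (Lpr_at (f674721 IH) (Lpe (f674530 IH) (Lpr_at (f769760 IH) (Lpn v18153))))
theorem f647185 : Led Lsl_et (LP (LK LD1_c3 LD2_c6 LD3_c31)) = (LP (LK LD1_c6 LD2_c18 LD3_c37)) :=
  Lre_e IH (LK LD1_c3 LD2_c6 LD3_c31) (LK LD1_c6 LD2_c18 LD3_c37) Lrfl Lrfl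
theorem f766833 : Led Lsl_et v17393 = v18410 :=
  Lgr Lrot69 (Lpe (f759570 IH) (Lpe (f647185 IH) (Lpqs (f759126 IH) (Lpe (f758969 IH) (Lpr_ef (K57.f649147 IH) (Lpr_ff (f766831 IH) (Lpn v18410)))))))
def v18479 : LQ := Led Lsl_at (LP (LK LD1_c6 LD2_c29 LD3_c61))
theorem f767135 : Led Lsl_at (LP (LK LD1_c6 LD2_c29 LD3_c61)) = v18479 :=
  Lrfl
theorem f767136 : Led Lsl_af (LP (LK LD1_c6 LD2_c29 LD3_c61)) = v18479 :=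
  Lgr Lrot0 (Lpr_at (f767135 IH) (Lpn v18479))
theorem f79796 : Led Lsl_gt (LP (LK LD1_c6 LD2_c30 LD3_c0)) = (LP (LK LD1_c3 LD2_c12 LD3_c60)) :=
  Lre_g IH (LK LD1_c6 LD2_c30 LD3_c0) (LK LD1_c3 LD2_c12 LD3_c60) Lrfl Lrfl
theorem f767137 : Led Lsl_ft (LP (LK LD1_c6 LD2_c30 LD3_c0)) = v18479 :=
  Lgr Lrot2 (Lpr_gt (f79796 IH) (Lpr_gt (f79797 IH) (Lpr_af (f767136 IH) (Lpn v18479))))
theorem f767138 : Led Lsl_ff (LP (LK LD1_c6 LD2_c30 LD3_c0)) = v18479 :=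
  Lgr Lrot3 (Lpr_ft (f767137 IH) (Lpn v18479))
theorem f767144 : Led Lsl_df (LP (LK LD1_c6 LD2_c29 LD3_c61)) = v18482 :=
  Lgr Lrot38 (Lpr_dt (f767143 IH) (Lpn v18482))
theorem f769792 : Led Lsl_df v17368 = (LP (LK LD1_c9 LD2_c20 LD3_c11)) :=
  Lgr Lrot38 (Lpr_dt (f769790 IH) (Lpn (LP (LK LD1_c9 LD2_c20 LD3_c11))))
theorem f770038 : (LP (LK LD1_c6 LD2_c29 LD3_c61)) = v17368 :=
  Lefun (Lecon (Lfl_df (f767144 IH)) (f770034 IH)) (Lfl_df (f769792 IH))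
theorem f770043 : (LP (LK LD1_c6 LD2_c18 LD3_c37)) = v18479 :=
  Lefun (Lecon (Lfl_af (f759383 IH)) (f770038 IH).symm) (f767135 IH)
theorem f770053 : (LP (LK LD1_c6 LD2_c30 LD3_c0)) = v17393 :=
  Lefun (Lecon (Lfl_ff (f767138 IH)) (f770043 IH).symm) (f759570 IH)
def v18487 : LQ := Led Lsl_dt (LP (LK LD1_c6 LD2_c30 LD3_c0))
theorem f767155 : Led Lsl_dt (LP (LK LD1_c6 LD2_c30 LD3_c0)) = v18487 :=
  Lrfl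
theorem f770056 : v17677 = v18487 :=
  Lefun (Lecon (f766836 IH) (f770053 IH).symm) (f767155 IH)
theorem f770060 : v6493 = (LP (LK LD1_c6 LD2_c26 LD3_c53)) :=
  (Llr Lrot56 (Lpe (f653631 IH) (Lpr_et (f653633 IH) (Lpq (f769759 IH) (Lpe (f765298 IH) (Lpe (f67279 IH) (Lpr_dt (f67286 IH) (Lpr_gt (K50.f702549 IH) (Lpqs (f769881 IH) (Lpqs (f770056 IH) (Lpe (f767155 IH) (Lpqs (f770053 IH) (Lpr_et (f766833 IH) (Lpq (f769860 IH) (Lpe (f765379 IH) (Lpr_dt (f67300 IH) (Lpr_gt (f414843 IH) (Lpn (LP (LK LD1_c6 LD2_c26 LD3_c53)))))))))))))))))))).symm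
theorem f770061 : v18153 = v18169 :=
  Lefun (Lecon (f769760 IH) (f770060 IH)) (f765361 IH)
theorem f770066 : v5659 = K49.v6498 :=
  Lefun (Lecon (Lfl_ff (f765364 IH)) (f770061 IH).symm) (Lfl_ff (f769763 IH))
theorem f769765 : Led Lsl_dt K49.v6491 = v18153 :=
  Lgr Lrot60 (Lpe (K49.f653627 IH) (Lpr_df (K49.f653648 IH) (Lpr_ff (f769763 IH) (Lpn v18153))))
theorem f765308 : Led Lsl_df (LP (LK LD1_c6 LD2_c26 LD3_c47)) = v18156 :=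
  Lgr Lrot38 (Lpr_dt (f765306 IH) (Lpn v18156))
def v18412 : LQ := Led Lsl_et (LP (LK LD1_c6 LD2_c29 LD3_c19))
theorem f766853 : Led Lsl_et (LP (LK LD1_c6 LD2_c29 LD3_c19)) = v18412 :=
  Lrfl
theorem f770067 : Led Lsl_gf v17781 = v18412 :=
  Lgr Lrot141 (Lpr_ef (f765309 IH) (Lpe (f765308 IH) (Lpr_gt (f765297 IH) (Lpe (f769765 IH) (Lpqs (K50.f674532 IH) (Lpr_et (K49.f653650 IH) (Lpq (f770066 IH) (Lpe (f648730 IH) (Lpr_dt (f67317 IH) (Lpr_gt (f765377 IH) (Lpq (f769911 IH) (Lpe (K57.f647189 IH) (Lpr_et (f766853 IH) (Lpn v18412))))))))))))))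
theorem f766837 : Led Lsl_df v17393 = v17677 :=
  Lgr Lrot38 (Lpr_dt (f766836 IH) (Lpn v17677))
theorem f79739 : Led Lsl_bt (LP (LK LD1_c3 LD2_c12 LD3_c60)) = (LP (LK LD1_c1 LD2_c32 LD3_c60)) :=
  Lre_b IH (LK LD1_c3 LD2_c12 LD3_c60) (LK LD1_c1 LD2_c32 LD3_c60) Lrfl Lrfl
theorem f79740 : Led Lsl_bt (LP (LK LD1_c1 LD2_c32 LD3_c7)) = (LP (LK LD1_c3 LD2_c11 LD3_c29)) :=
  Lre_b IH (LK LD1_c1 LD2_c32 LD3_c7) (LK LD1_c3 LD2_c11 LD3_c29) Lrfl Lrfl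
theorem f79741 : Led Lsl_df (LP (LK LD1_c3 LD2_c12 LD3_c60)) = (LP (LK LD1_c3 LD2_c11 LD3_c29)) :=
  Lgr Lrot12 (Lpr_bt (f79739 IH) (Lpr_dt (K11.f79728 IH) (Lpr_bt (f79740 IH) (Lpn (LP (LK LD1_c3 LD2_c11 LD3_c29))))))
theorem f79779 : Led Lsl_et (LP (LK LD1_c3 LD2_c11 LD3_c29)) = (LP (LK LD1_c6 LD2_c27 LD3_c11)) :=
  Lre_e IH (LK LD1_c3 LD2_c11 LD3_c29) (LK LD1_c6 LD2_c27 LD3_c11) Lrfl Lrfl
theorem f766857 : Led Lsl_ef (LP (LK LD1_c6 LD2_c29 LD3_c19)) = v18412 :=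
  Lgr Lrot88 (Lpr_et (f766853 IH) (Lpn v18412))
theorem f79675 : Led Lsl_dt (LP (LK LD1_c3 LD2_c6 LD3_c30)) = (LP (LK LD1_c6 LD2_c18 LD3_c33)) :=
  Lre_d IH (LK LD1_c3 LD2_c6 LD3_c30) (LK LD1_c6 LD2_c18 LD3_c33) Lrfl Lrfl
def v17385 : LQ := Led Lsl_et (LP (LK LD1_c6 LD2_c18 LD3_c33))
theorem f759551 : Led Lsl_et (LP (LK LD1_c6 LD2_c18 LD3_c33)) = v17385 :=
  Lrfl
theorem f766860 : Led Lsl_dt v17385 = v18412 :=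
  Lgr Lrot77 (Lpe (f759551 IH) (Lpe (f79675 IH) (Lpr_ef (K57.f647187 IH) (Lpe (K57.f647189 IH) (Lpr_ef (f766857 IH) (Lpn v18412))))))
theorem f759552 : Led Lsl_ef (LP (LK LD1_c6 LD2_c18 LD3_c33)) = v17385 :=
  Lgr Lrot88 (Lpr_et (f759551 IH) (Lpn v17385))
theorem f770070 : v18200 = (LP (LK LD1_c6 LD2_c18 LD3_c33)) :=
  (Llr Lrot131 (Lpe (f765486 IH) (Lpe (f79779 IH) (Lpe (f79741 IH) (Lpe (f79796 IH) (Lpqs (f770053 IH) (Lpr_df (f766837 IH) (Lpq (f769881 IH) (Lpe (K50.f702549 IH) (Lpe (f67272 IH) (Lpr_dt (f762151 IH) (Lpr_gf (f770067 IH) (Lpe (f766860 IH) (Lpe (f759552 IH) (Lpn (LP (LK LD1_c6 LD2_c18 LD3_c33))))))))))))))))).symm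
theorem f770074 : Led Lsl_gt (LP (LK LD1_c6 LD2_c27 LD3_c11)) = (LP (LK LD1_c6 LD2_c18 LD3_c33)) :=
  Leop (Lpq (f770070 IH) (Lpe (f765486 IH) (Lpn (LP (LK LD1_c6 LD2_c27 LD3_c11)))))
theorem seed_1276 : LEOK LG_g (LK LD1_c6 LD2_c27 LD3_c11) :=
  Leoe_g (LK LD1_c6 LD2_c27 LD3_c11) (f770074 IH)
def v17718 : LQ := Led Lsl_dt (LP (LK LD1_c6 LD2_c21 LD3_c35))
theorem f761847 : Led Lsl_dt (LP (LK LD1_c6 LD2_c21 LD3_c35)) = v17718 :=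
  Lrfl
def v17715 : LQ := Led Lsl_ft (LP (LK LD1_c6 LD2_c21 LD3_c34))
theorem f761839 : Led Lsl_ft (LP (LK LD1_c6 LD2_c21 LD3_c34)) = v17715 :=
  Lrfl
theorem f761841 : Led Lsl_ff (LP (LK LD1_c6 LD2_c21 LD3_c34)) = v17715 :=
  Lgr Lrot3 (Lpr_ft (f761839 IH) (Lpn v17715))
def v17713 : LQ := Led Lsl_dt (LP (LK LD1_c6 LD2_c21 LD3_c34))
theorem f761835 : Led Lsl_dt (LP (LK LD1_c6 LD2_c21 LD3_c34)) = v17713 :=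
  Lrfl
theorem f76641 : Led Lsl_dt (LP (LK LD1_c3 LD2_c6 LD3_c31)) = (LP (LK LD1_c6 LD2_c18 LD3_c36)) :=
  Lre_d IH (LK LD1_c3 LD2_c6 LD3_c31) (LK LD1_c6 LD2_c18 LD3_c36) Lrfl Lrfl
theorem f504976 : Led Lsl_at (LP (LK LD1_c3 LD2_c12 LD3_c59)) = (LP (LK LD1_c6 LD2_c29 LD3_c52)) :=
  Lre_a IH (LK LD1_c3 LD2_c12 LD3_c59) (LK LD1_c6 LD2_c29 LD3_c52) Lrfl Lrfl
theorem f82636 : Led Lsl_gt (LP (LK LD1_c3 LD2_c8 LD3_c28)) = (LP (LK LD1_c6 LD2_c21 LD3_c34)) :=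
  Lre_g IH (LK LD1_c3 LD2_c8 LD3_c28) (LK LD1_c6 LD2_c21 LD3_c34) Lrfl Lrfl
theorem f504981 : Led Lsl_gf (LP (LK LD1_c6 LD2_c29 LD3_c52)) = (LP (LK LD1_c6 LD2_c21 LD3_c34)) :=
  Lgr Lrot76 (Lpe (f504976 IH) (Lpr_ff (K32.f504973 IH) (Lpr_gt (f82636 IH) (Lpn (LP (LK LD1_c6 LD2_c21 LD3_c34))))))
theorem f761836 : Led Lsl_df (LP (LK LD1_c6 LD2_c21 LD3_c34)) = v17713 :=
  Lgr Lrot38 (Lpr_dt (f761835 IH) (Lpn v17713))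
def v17384 : LQ := Led Lsl_gf (LP (LK LD1_c6 LD2_c18 LD3_c33))
theorem f759549 : Led Lsl_gf (LP (LK LD1_c6 LD2_c18 LD3_c33)) = v17384 :=
  Lrfl
theorem f67683 : Led Lsl_dt (LP (LK LD1_c12 LD2_c12 LD3_c39)) = (LP (LK LD1_c6 LD2_c18 LD3_c16)) :=
  Lre_d IH (LK LD1_c12 LD2_c12 LD3_c39) (LK LD1_c6 LD2_c18 LD3_c16) Lrfl Lrfl
theorem f759359 : Led Lsl_af (LP (LK LD1_c12 LD2_c12 LD3_c39)) = (LP (LK LD1_c6 LD2_c18 LD3_c33)) :=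
  Lgr Lrot117 (Lpr_dt (f67683 IH) (Lpr_at (K57.f758959 IH) (Lpq (K57.f759129 IH) (Lpr_dt (f79675 IH) (Lpn (LP (LK LD1_c6 LD2_c18 LD3_c33)))))))
theorem f759361 : Led Lsl_at (LP (LK LD1_c12 LD2_c12 LD3_c39)) = (LP (LK LD1_c6 LD2_c18 LD3_c33)) :=
  Lgr Lrot100 (Lpr_af (f759359 IH) (Lpn (LP (LK LD1_c6 LD2_c18 LD3_c33))))
theorem f432352 : Led Lsl_dt (LP (LK LD1_c6 LD2_c18 LD3_c36)) = (LP (LK LD1_c3 LD2_c6 LD3_c31)) :=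
  Lre_d IH (LK LD1_c6 LD2_c18 LD3_c36) (LK LD1_c3 LD2_c6 LD3_c31) Lrfl Lrfl
theorem f76917 : Led Lsl_dt (LP (LK LD1_c6 LD2_c18 LD3_c16)) = (LP (LK LD1_c12 LD2_c12 LD3_c39)) :=
  Lre_d IH (LK LD1_c6 LD2_c18 LD3_c16) (LK LD1_c12 LD2_c12 LD3_c39) Lrfl Lrfl
theorem f759139 : Led Lsl_ff (LP (LK LD1_c6 LD2_c18 LD3_c36)) = (LP (LK LD1_c12 LD2_c12 LD3_c39)) :=
  Lgr Lrot19 (Lpr_dt (f432352 IH) (Lpqs (f759126 IH) (Lpe (f758971 IH) (Lpr_dt (f76917 IH) (Lpn (LP (LK LD1_c12 LD2_c12 LD3_c39)))))))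
theorem f759141 : Led Lsl_ft (LP (LK LD1_c6 LD2_c18 LD3_c36)) = (LP (LK LD1_c12 LD2_c12 LD3_c39)) :=
  Lgr Lrot48 (Lpr_ff (f759139 IH) (Lpn (LP (LK LD1_c12 LD2_c12 LD3_c39))))
theorem f759550 : Led Lsl_gt (LP (LK LD1_c6 LD2_c18 LD3_c36)) = v17384 :=
  Lgr Lrot5 (Lpr_ft (f759141 IH) (Lpr_at (f759361 IH) (Lpr_gf (f759549 IH) (Lpn v17384))))
theorem f770073 : (LP (LK LD1_c6 LD2_c27 LD3_c11)) = v17384 :=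
  Lefun (Lecon (Lfl_gt (f765486 IH)) (f770070 IH)) (f759549 IH)
theorem f79759 : Led Lsl_bt (LP (LK LD1_c3 LD2_c13 LD3_c4)) = (LP (LK LD1_c6 LD2_c29 LD3_c60)) :=
  Lre_b IH (LK LD1_c3 LD2_c13 LD3_c4) (LK LD1_c6 LD2_c29 LD3_c60) Lrfl Lrfl
theorem f79760 : Led Lsl_bt (LP (LK LD1_c6 LD2_c27 LD3_c11)) = (LP (LK LD1_c3 LD2_c11 LD3_c31)) :=
  Lre_b IH (LK LD1_c6 LD2_c27 LD3_c11) (LK LD1_c3 LD2_c11 LD3_c31) Lrfl Lrfl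
theorem f79761 : Led Lsl_dt (LP (LK LD1_c6 LD2_c29 LD3_c60)) = (LP (LK LD1_c6 LD2_c27 LD3_c11)) :=
  Lgr Lrot79 (Lpe (f79759 IH) (Lpr_df (K32.f79750 IH) (Lpe (f79760 IH) (Lpn (LP (LK LD1_c6 LD2_c27 LD3_c11))))))
theorem f79776 : Led Lsl_et (LP (LK LD1_c6 LD2_c29 LD3_c60)) = (LP (LK LD1_c3 LD2_c12 LD3_c59)) :=
  Lre_e IH (LK LD1_c6 LD2_c29 LD3_c60) (LK LD1_c3 LD2_c12 LD3_c59) Lrfl Lrfl
theorem f79819 : Led Lsl_gt (LP (LK LD1_c3 LD2_c12 LD3_c59)) = (LP (LK LD1_c6 LD2_c29 LD3_c57)) :=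
  Lre_g IH (LK LD1_c3 LD2_c12 LD3_c59) (LK LD1_c6 LD2_c29 LD3_c57) Lrfl Lrfl
theorem f770081 : v17713 = (LP (LK LD1_c6 LD2_c29 LD3_c57)) :=
  (Llr Lrot135 (Lpe (f761836 IH) (Lpe (f504981 IH) (Lpe (K46.f79803 IH) (Lpr_et (f79808 IH) (Lpq (f770013 IH) (Lpe (f759567 IH) (Lpe (f647185 IH) (Lpr_dt (f76641 IH) (Lpr_gt (f759550 IH) (Lpq (f770073 IH) (Lpe (f79761 IH) (Lpr_et (f79776 IH) (Lpr_gt (f79819 IH) (Lpn (LP (LK LD1_c6 LD2_c29 LD3_c57))))))))))))))))).symm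
def v18468 : LQ := Led Lsl_ft (LP (LK LD1_c6 LD2_c29 LD3_c57))
theorem f767103 : Led Lsl_ft (LP (LK LD1_c6 LD2_c29 LD3_c57)) = v18468 :=
  Lrfl
theorem f770088 : Led Lsl_df v17715 = v18468 :=
  Lgr Lrot78 (Lpe (f761841 IH) (Lpr_dt (f761835 IH) (Lpqs (f770081 IH) (Lpr_ft (f767103 IH) (Lpn v18468)))))
def v17711 : LQ := Led Lsl_at (LP (LK LD1_c6 LD2_c21 LD3_c34))
theorem f761829 : Led Lsl_at (LP (LK LD1_c6 LD2_c21 LD3_c34)) = v17711 :=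
  Lrfl
theorem f761830 : Led Lsl_af (LP (LK LD1_c6 LD2_c21 LD3_c34)) = v17711 :=
  Lgr Lrot0 (Lpr_at (f761829 IH) (Lpn v17711))
theorem f761831 : Led Lsl_ft (LP (LK LD1_c6 LD2_c21 LD3_c35)) = v17711 :=
  Lgr Lrot2 (Lpr_gt (K46.f82635 IH) (Lpr_gt (f82636 IH) (Lpr_af (f761830 IH) (Lpn v17711))))
theorem f761840 : Led Lsl_af (LP (LK LD1_c6 LD2_c21 LD3_c35)) = v17715 :=
  Lgr Lrot45 (Lpr_ft (f761831 IH) (Lpe (f761830 IH) (Lpr_ft (f761839 IH) (Lpn v17715))))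
theorem f767105 : Led Lsl_ff (LP (LK LD1_c6 LD2_c29 LD3_c57)) = v18468 :=
  Lgr Lrot3 (Lpr_ft (f767103 IH) (Lpn v18468))
def v18463 : LQ := Led Lsl_at (LP (LK LD1_c6 LD2_c29 LD3_c57))
theorem f767091 : Led Lsl_at (LP (LK LD1_c6 LD2_c29 LD3_c57)) = v18463 :=
  Lrfl
theorem f767092 : Led Lsl_af (LP (LK LD1_c6 LD2_c29 LD3_c57)) = v18463 :=
  Lgr Lrot0 (Lpr_at (f767091 IH) (Lpn v18463))
theorem f767093 : Led Lsl_ft (LP (LK LD1_c6 LD2_c29 LD3_c58)) = v18463 :=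
  Lgr Lrot2 (Lpr_gt (f79820 IH) (Lpr_gt (f79819 IH) (Lpr_af (f767092 IH) (Lpn v18463))))
theorem f767094 : Led Lsl_ff (LP (LK LD1_c6 LD2_c29 LD3_c58)) = v18463 :=
  Lgr Lrot3 (Lpr_ft (f767093 IH) (Lpn v18463))
theorem f767106 : Led Lsl_at (LP (LK LD1_c6 LD2_c29 LD3_c58)) = v18468 :=
  Lgr Lrot66 (Lpr_ff (f767094 IH) (Lpe (f767091 IH) (Lpr_ff (f767105 IH) (Lpn v18468))))
theorem f770090 : v17718 = (LP (LK LD1_c6 LD2_c29 LD3_c58)) :=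
  (Llr Lrot44 (Lpe (f761847 IH) (Lpr_af (f761840 IH) (Lpr_df (f770088 IH) (Lpe (f767106 IH) (Lpn (LP (LK LD1_c6 LD2_c29 LD3_c58)))))))).symm
theorem f770092 : Led Lsl_dt (LP (LK LD1_c6 LD2_c21 LD3_c35)) = (LP (LK LD1_c6 LD2_c29 LD3_c58)) :=
  Leop (Lpq (f770090 IH) (Lpe (f761847 IH) (Lpn (LP (LK LD1_c6 LD2_c21 LD3_c35)))))
theorem seed_1277 : LEOK LG_d (LK LD1_c6 LD2_c21 LD3_c35) :=
  Leoe_d (LK LD1_c6 LD2_c21 LD3_c35) (f770092 IH)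
theorem f653628 : Led Lsl_ff (LP (LK LD1_c3 LD2_c22 LD3_c43)) = K49.v6491 :=
  Lgr Lrot3 (Lpr_ft (K49.f653627 IH) (Lpn K49.v6491))
def v6499 : LQ := Led Lsl_et (LP (LK LD1_c3 LD2_c22 LD3_c43))
theorem f653651 : Led Lsl_et (LP (LK LD1_c3 LD2_c22 LD3_c43)) = v6499 :=
  Lrfl
theorem f770032 : Led Lsl_ff v18471 = v6499 :=
  Lgr Lrot72 (Lpr_et (f770030 IH) (Lpe (f769763 IH) (Lpe (K49.f653649 IH) (Lpq (K50.f674532 IH) (Lpe (f653628 IH) (Lpr_et (f653651 IH) (Lpn v6499)))))))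
theorem f770035 : (LP (LK LD1_c6 LD2_c29 LD3_c58)) = v6499 :=
  Lefun (Lecon (Lfl_ef (f767114 IH)) (f770033 IH)) (f653651 IH)
theorem f770042 : v18471 = v18463 :=
  Lefun (Lecon (Lfl_ff (f770032 IH)) (f770035 IH).symm) (f767093 IH)
theorem f761848 : Led Lsl_df (LP (LK LD1_c6 LD2_c21 LD3_c35)) = v17718 :=
  Lgr Lrot38 (Lpr_dt (f761847 IH) (Lpn v17718))
theorem f770091 : (LP (LK LD1_c6 LD2_c21 LD3_c35)) = v18471 :=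
  Lefun (Lecon (Lfl_df (f761848 IH)) (f770090 IH)) (f767111 IH)
theorem f770095 : Led Lsl_at (LP (LK LD1_c6 LD2_c29 LD3_c57)) = (LP (LK LD1_c6 LD2_c21 LD3_c35)) :=
  Leop (Lpqs (f770091 IH) (Lpqs (f770042 IH) (Lpe (f767091 IH) (Lpn (LP (LK LD1_c6 LD2_c29 LD3_c57))))))
theorem seed_1278 : LEOK LG_a (LK LD1_c6 LD2_c29 LD3_c57) :=
  Leoe_a (LK LD1_c6 LD2_c29 LD3_c57) (f770095 IH)
theorem f761832 : Led Lsl_ff (LP (LK LD1_c6 LD2_c21 LD3_c35)) = v17711 :=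
  Lgr Lrot3 (Lpr_ft (f761831 IH) (Lpn v17711))
theorem f761842 : Led Lsl_at (LP (LK LD1_c6 LD2_c21 LD3_c35)) = v17715 :=
  Lgr Lrot66 (Lpr_ff (f761832 IH) (Lpe (f761829 IH) (Lpr_ff (f761841 IH) (Lpn v17715))))
theorem f770094 : (LP (LK LD1_c6 LD2_c29 LD3_c57)) = v17715 :=
  Lefun (Lecon (Lfl_af (f767092 IH)) ((f770042 IH).symm.trans (f770091 IH).symm)) (f761842 IH)
def v18467 : LQ := Led Lsl_et (LP (LK LD1_c6 LD2_c29 LD3_c57))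
theorem f767101 : Led Lsl_et (LP (LK LD1_c6 LD2_c29 LD3_c57)) = v18467 :=
  Lrfl
theorem f767102 : Led Lsl_ef (LP (LK LD1_c6 LD2_c29 LD3_c57)) = v18467 :=
  Lgr Lrot88 (Lpr_et (f767101 IH) (Lpn v18467))
def v18173 : LQ := Led Lsl_et (LP (LK LD1_c6 LD2_c26 LD3_c53))
theorem f765371 : Led Lsl_et (LP (LK LD1_c6 LD2_c26 LD3_c53)) = v18173 :=
  Lrfl
theorem f765372 : Led Lsl_ef (LP (LK LD1_c6 LD2_c26 LD3_c53)) = v18173 :=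
  Lgr Lrot88 (Lpr_et (f765371 IH) (Lpn v18173))
theorem f770080 : v18173 = (LP (LK LD1_c6 LD2_c29 LD3_c57)) :=
  (Llr Lrot122 (Lpe (f765371 IH) (Lpq (f770060 IH) (Lpe (f653632 IH) (Lpr_gt (f76853 IH) (Lpr_df (K2.f76813 IH) (Lpr_et (K51.f76629 IH) (Lpr_gt (K51.f76639 IH) (Lpr_dt (f76641 IH) (Lpr_gt (f759550 IH) (Lpq (f770073 IH) (Lpe (f79761 IH) (Lpr_et (f79776 IH) (Lpr_gt (f79819 IH) (Lpn (LP (LK LD1_c6 LD2_c29 LD3_c57))))))))))))))))).symm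
theorem f770082 : (LP (LK LD1_c6 LD2_c26 LD3_c53)) = v18467 :=
  Lefun (Lecon (Lfl_ef (f765372 IH)) (f770080 IH)) (f767101 IH)
def v18174 : LQ := Led Lsl_ft (LP (LK LD1_c6 LD2_c26 LD3_c53))
theorem f765373 : Led Lsl_ft (LP (LK LD1_c6 LD2_c26 LD3_c53)) = v18174 :=
  Lrfl
theorem f765375 : Led Lsl_ff (LP (LK LD1_c6 LD2_c26 LD3_c53)) = v18174 :=
  Lgr Lrot3 (Lpr_ft (f765373 IH) (Lpn v18174))
theorem f674531 : Led Lsl_ft v6493 = v6494 :=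
  Lgr Lrot48 (Lpr_ff (f674530 IH) (Lpn v6494))
theorem f770065 : v6494 = v18174 :=
  Lefun (Lecon (f674531 IH) (f770060 IH)) (f765373 IH)
def v17714 : LQ := Led Lsl_et (LP (LK LD1_c6 LD2_c21 LD3_c34))
theorem f761837 : Led Lsl_et (LP (LK LD1_c6 LD2_c21 LD3_c34)) = v17714 :=
  Lrfl
theorem f770108 : K50.v6495 = v17714 :=
  (Llr Lrot72 (Lpe (K50.f653639 IH) (Lpr_et (f653633 IH) (Lpqs (f770065 IH) (Lpe (f765375 IH) (Lpqs (f770082 IH) (Lpe (f767102 IH) (Lpqs (f770094 IH) (Lpe (f761841 IH) (Lpr_et (f761837 IH) (Lpn v17714))))))))))).symm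
def v17712 : LQ := Led Lsl_bt (LP (LK LD1_c6 LD2_c21 LD3_c34))
theorem f761833 : Led Lsl_bt (LP (LK LD1_c6 LD2_c21 LD3_c34)) = v17712 :=
  Lrfl
theorem f761834 : Led Lsl_bf (LP (LK LD1_c6 LD2_c21 LD3_c34)) = v17712 :=
  Lgr Lrot24 (Lpr_bt (f761833 IH) (Lpn v17712))
theorem f653590 : Led Lsl_bf (LP (LK LD1_c4 LD2_c47 LD3_c4)) = K50.v6483 :=
  Lgr Lrot24 (Lpr_bt (K50.f653589 IH) (Lpn K50.v6483))
theorem f653594 : Led Lsl_et (LP (LK LD1_c4 LD2_c47 LD3_c4)) = (LP (LK LD1_c9 LD2_c27 LD3_c7)) :=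
  Lre_e IH (LK LD1_c4 LD2_c47 LD3_c4) (LK LD1_c9 LD2_c27 LD3_c7) Lrfl Lrfl
theorem f770109 : v17712 = (LP (LK LD1_c9 LD2_c27 LD3_c7)) :=
  (Llr Lrot96 (Lpe (f761834 IH) (Lpr_et (f761837 IH) (Lpq (f770108 IH) (Lpq (K50.f674529 IH) (Lpe (f653590 IH) (Lpr_et (f653594 IH) (Lpn (LP (LK LD1_c9 LD2_c27 LD3_c7)))))))))).symm
theorem f770110 : Led Lsl_bt (LP (LK LD1_c9 LD2_c27 LD3_c7)) = (LP (LK LD1_c6 LD2_c21 LD3_c34)) :=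
  Leop (Lpr_bf (f761834 IH) (Lpqs (f770109 IH) (Lpn (LP (LK LD1_c9 LD2_c27 LD3_c7)))))
theorem seed_1279 : LEOK LG_b (LK LD1_c9 LD2_c27 LD3_c7) :=
  Leoe_b (LK LD1_c9 LD2_c27 LD3_c7) (f770110 IH)
def v6484 : LQ := Led Lsl_gt (LP (LK LD1_c3 LD2_c22 LD3_c37))
theorem f653595 : Led Lsl_gt (LP (LK LD1_c3 LD2_c22 LD3_c37)) = v6484 :=
  Lrfl
def v9614 : LQ := Led Lsl_et K56.v2816
theorem f676853 : Led Lsl_et K56.v2816 = v9614 :=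
  Lrfl
theorem f676855 : Led Lsl_ef K56.v2816 = v9614 :=
  Lgr Lrot88 (Lpr_et (f676853 IH) (Lpn v9614))
theorem f676856 : Led Lsl_ff v5508 = v9614 :=
  Lgr Lrot72 (Lpe (f648007 IH) (Lpr_ft (f627860 IH) (Lpe (f627857 IH) (Lpr_ft (K56.f623433 IH) (Lpr_et (f676853 IH) (Lpn v9614))))))
theorem f676859 : Led Lsl_ft v5508 = v9614 :=
  Lgr Lrot48 (Lpr_ff (f676856 IH) (Lpn v9614))
def v4292 : LQ := Led Lsl_bt (LP (LK LD1_c2 LD2_c18 LD3_c25))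
theorem f632450 : Led Lsl_bt (LP (LK LD1_c2 LD2_c18 LD3_c25)) = v4292 :=
  Lrfl
theorem f632452 : Led Lsl_ff (LP (LK LD1_c3 LD2_c8 LD3_c48)) = v4292 :=
  Lgr Lrot25 (Lpr_bt (f67193 IH) (Lpr_ft (K35.f506257 IH) (Lpqs (K35.f622855 IH) (Lpr_bt (f632450 IH) (Lpn v4292)))))
theorem f676860 : Led Lsl_df v4292 = v9614 :=
  Lgr Lrot78 (Lpe (f632452 IH) (Lpr_dt (f648004 IH) (Lpr_ft (f676859 IH) (Lpn v9614))))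
def v17782 : LQ := Led Lsl_ft (LP (LK LD1_c6 LD2_c22 LD3_c11))
theorem f762155 : Led Lsl_ft (LP (LK LD1_c6 LD2_c22 LD3_c11)) = v17782 :=
  Lrfl
def v17779 : LQ := Led Lsl_gt (LP (LK LD1_c6 LD2_c22 LD3_c11))
theorem f762148 : Led Lsl_gt (LP (LK LD1_c6 LD2_c22 LD3_c11)) = v17779 :=
  Lrfl
theorem f762156 : Led Lsl_af v4292 = v17782 :=
  Lgr Lrot45 (Lpe (f632452 IH) (Lpr_at (f67276 IH) (Lpr_ft (f762155 IH) (Lpn v17782))))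
theorem f762159 : Led Lsl_gt v17779 = v4292 :=
  Lgr Lrot46 (Lpe (f762148 IH) (Lpr_ft (f762155 IH) (Lpe (f762156 IH) (Lpn v4292))))
def v5654 : LQ := Led Lsl_et (LP (LK LD1_c3 LD2_c11 LD3_c15))
theorem f648712 : Led Lsl_et (LP (LK LD1_c3 LD2_c11 LD3_c15)) = v5654 :=
  Lrfl
theorem f648713 : Led Lsl_ef (LP (LK LD1_c3 LD2_c11 LD3_c15)) = v5654 :=
  Lgr Lrot88 (Lpr_et (f648712 IH) (Lpn v5654))
theorem f647162 : Led Lsl_ff (LP (LK LD1_c3 LD2_c6 LD3_c21)) = v5338 :=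
  Lgr Lrot3 (Lpr_ft (f647161 IH) (Lpn v5338))
theorem f653618 : Led Lsl_ef v5338 = v6490 :=
  Lgr Lrot21 (Lpe (f647162 IH) (Lpr_et (K5.f79046 IH) (Lpe (K4.f114478 IH) (Lpr_et (K4.f79625 IH) (Lpr_ft (f653616 IH) (Lpn v6490))))))
theorem f769833 : v5338 = v5654 :=
  Lefun (Lecon (Lfl_ef (f653618 IH)) (f769823 IH)) (f648712 IH)
theorem f758924 : Led Lsl_ff (LP (LK LD1_c6 LD2_c18 LD3_c11)) = v17359 :=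
  Lgr Lrot3 (Lpr_ft (f758921 IH) (Lpn v17359))
theorem f758925 : Led Lsl_dt v5338 = v17359 :=
  Lgr Lrot60 (Lpe (f647161 IH) (Lpe (K4.f78180 IH) (Lpr_ff (f758924 IH) (Lpn v17359))))
theorem f770069 : v17779 = v17359 :=
  (Llr Lrot139 (Lpe (f762148 IH) (Lpr_df (f762153 IH) (Lpr_gf (f770067 IH) (Lpe (f766853 IH) (Lpr_dt (K57.f647189 IH) (Lpqs (f769911 IH) (Lpe (f765377 IH) (Lpe (f67317 IH) (Lpr_et (f67299 IH) (Lpe (f67302 IH) (Lpr_ef (f648713 IH) (Lpq (f769833 IH) (Lpr_dt (f758925 IH) (Lpn v17359))))))))))))))).symm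
theorem f653599 : Led Lsl_af v5338 = v6486 :=
  Lgr Lrot45 (Lpe (f647162 IH) (Lpe (K4.f114802 IH) (Lpr_ft (f653598 IH) (Lpn v6486))))
theorem f653602 : Led Lsl_gt v6484 = v5338 :=
  Lgr Lrot46 (Lpe (f653595 IH) (Lpr_ft (f653598 IH) (Lpe (f653599 IH) (Lpn v5338))))
def v9609 : LQ := Led Lsl_gt K56.v2816
theorem f676829 : Led Lsl_gt K56.v2816 = v9609 :=
  Lrfl
def v1963 : LQ := Led Lsl_et (LP (LK LD1_c1 LD2_c32 LD3_c22))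
def v8282 : LQ := Led Lsl_ft v1963
theorem f670644 : Led Lsl_ft v1963 = v8282 :=
  Lrfl
theorem f670647 : Led Lsl_ff v1963 = v8282 :=
  Lgr Lrot3 (Lpr_ft (f670644 IH) (Lpn v8282))
theorem f506625 : Led Lsl_et (LP (LK LD1_c1 LD2_c32 LD3_c22)) = v1963 :=
  Lrfl
theorem f506627 : Led Lsl_ef (LP (LK LD1_c1 LD2_c32 LD3_c22)) = v1963 :=
  Lgr Lrot88 (Lpr_et (f506625 IH) (Lpn v1963))
theorem f110331 : Led Lsl_ff (LP (LK LD1_c1 LD2_c29 LD3_c20)) = (LP (LK LD1_c1 LD2_c32 LD3_c22)) :=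
  Lgr Lrot19 (Lpr_dt (K3.f110322 IH) (Lpr_ft (K3.f103480 IH) (Lpr_dt (K49.f13461 IH) (Lpn (LP (LK LD1_c1 LD2_c32 LD3_c22))))))
def v8101 : LQ := Led Lsl_ft v1834
theorem f669983 : Led Lsl_ft v1834 = v8101 :=
  Lrfl
theorem f670649 : Led Lsl_et v8101 = v8282 :=
  Lgr Lrot69 (Lpe (f669983 IH) (Lpe (f504466 IH) (Lpr_ff (f110331 IH) (Lpr_ef (f506627 IH) (Lpr_ff (f670647 IH) (Lpn v8282))))))
theorem f669985 : Led Lsl_ff v1834 = v8101 :=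
  Lgr Lrot3 (Lpr_ft (f669983 IH) (Lpn v8101))
theorem f103488 : Led Lsl_at (LP (LK LD1_c0 LD2_c45 LD3_c9)) = (LP (LK LD1_c0 LD2_c42 LD3_c45)) :=
  Lgr Lrot100 (Lpr_af (K3.f103486 IH) (Lpn (LP (LK LD1_c0 LD2_c42 LD3_c45))))
theorem f103484 : Led Lsl_ff (LP (LK LD1_c0 LD2_c45 LD3_c8)) = (LP (LK LD1_c0 LD2_c42 LD3_c45)) :=
  Lgr Lrot3 (Lpr_ft (K3.f103480 IH) (Lpn (LP (LK LD1_c0 LD2_c42 LD3_c45))))
theorem f103497 : Led Lsl_at (LP (LK LD1_c0 LD2_c45 LD3_c8)) = (LP (LK LD1_c0 LD2_c42 LD3_c46)) :=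
  Lgr Lrot66 (Lpr_ff (f103484 IH) (Lpe (f103488 IH) (Lpr_ff (K3.f103495 IH) (Lpn (LP (LK LD1_c0 LD2_c42 LD3_c46))))))
theorem f110325 : Led Lsl_af (LP (LK LD1_c1 LD2_c29 LD3_c20)) = (LP (LK LD1_c1 LD2_c32 LD3_c24)) :=
  Lgr Lrot117 (Lpr_dt (K3.f110322 IH) (Lpr_at (f103497 IH) (Lpr_dt (K3.f13496 IH) (Lpn (LP (LK LD1_c1 LD2_c32 LD3_c24))))))
theorem f65543 : Led Lsl_et (LP (LK LD1_c3 LD2_c11 LD3_c59)) = (LP (LK LD1_c1 LD2_c32 LD3_c24)) :=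
  Lre_e IH (LK LD1_c3 LD2_c11 LD3_c59) (LK LD1_c1 LD2_c32 LD3_c24) Lrfl Lrfl
theorem f504467 : Led Lsl_af (LP (LK LD1_c3 LD2_c11 LD3_c59)) = v1834 :=
  Lgr Lrot50 (Lpr_et (f65543 IH) (Lpe (f110325 IH) (Lpr_et (f504466 IH) (Lpn v1834))))
def v5682 : LQ := Led Lsl_ft (LP (LK LD1_c3 LD2_c11 LD3_c59))
theorem f648819 : Led Lsl_ft (LP (LK LD1_c3 LD2_c11 LD3_c59)) = v5682 :=
  Lrfl
theorem f669987 : Led Lsl_at v5682 = v8101 :=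
  Lgr Lrot66 (Lpe (f648819 IH) (Lpr_af (f504467 IH) (Lpr_ff (f669985 IH) (Lpn v8101))))
def v5680 : LQ := Led Lsl_gt (LP (LK LD1_c3 LD2_c11 LD3_c59))
theorem f648817 : Led Lsl_gt (LP (LK LD1_c3 LD2_c11 LD3_c59)) = v5680 :=
  Lrfl
theorem f669990 : Led Lsl_gt v5680 = v8101 :=
  Lgr Lrot46 (Lpe (f648817 IH) (Lpr_ft (f648819 IH) (Lpr_at (f669987 IH) (Lpn v8101))))
def v1986 : LQ := Led Lsl_gt (LP (LK LD1_c1 LD2_c32 LD3_c57))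
theorem f506763 : Led Lsl_gt (LP (LK LD1_c1 LD2_c32 LD3_c57)) = v1986 :=
  Lrfl
def v1987 : LQ := Led Lsl_gf (LP (LK LD1_c1 LD2_c32 LD3_c57))
theorem f506764 : Led Lsl_gf (LP (LK LD1_c1 LD2_c32 LD3_c57)) = v1987 :=
  Lrfl
def v8332 : LQ := Led Lsl_et v1987
theorem f670827 : Led Lsl_et v1987 = v8332 :=
  Lrfl
theorem f670828 : Led Lsl_ef v1987 = v8332 :=
  Lgr Lrot88 (Lpr_et (f670827 IH) (Lpn v8332))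
theorem f13531 : Led Lsl_et (LP (LK LD1_c1 LD2_c32 LD3_c24)) = (LP (LK LD1_c3 LD2_c11 LD3_c59)) :=
  Lre_e IH (LK LD1_c1 LD2_c32 LD3_c24) (LK LD1_c3 LD2_c11 LD3_c59) Lrfl Lrfl
theorem f770112 : v8332 = (LP (LK LD1_c1 LD2_c32 LD3_c24)) :=
  (Llr Lrot167 (Lpe (f670828 IH) (Lpe (f506764 IH) (Lpr_dt (K32.f79818 IH) (Lpr_gt (f79819 IH) (Lpq (f770081 IH) (Lpe (f761835 IH) (Lpr_et (f761837 IH) (Lpq (f770108 IH) (Lpq (K50.f674529 IH) (Lpe (K50.f653587 IH) (Lpe (K49.f13491 IH) (Lpr_dt (K2.f9764 IH) (Lpr_gt (K0.f13524 IH) (Lpe (K3.f13497 IH) (Lpn (LP (LK LD1_c1 LD2_c32 LD3_c24)))))))))))))))))).symm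
theorem f770114 : v1987 = (LP (LK LD1_c3 LD2_c11 LD3_c59)) :=
  Lefun (Lecon (Lfl_ef (f670828 IH)) (f770112 IH)) (f13531 IH)
theorem f770117 : (LP (LK LD1_c1 LD2_c32 LD3_c57)) = v5680 :=
  Lefun (Lecon (Lfl_gf (f506764 IH)) (f770114 IH)) (f648817 IH)
theorem f770124 : v8101 = v1986 :=
  Lefun (Lecon (f669990 IH) (f770117 IH).symm) (f506763 IH)
def v8326 : LQ := Led Lsl_dt v1986
theorem f670813 : Led Lsl_dt v1986 = v8326 :=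
  Lrfl
def v8323 : LQ := Led Lsl_at v1986
theorem f670805 : Led Lsl_at v1986 = v8323 :=
  Lrfl
theorem f670806 : Led Lsl_af v1986 = v8323 :=
  Lgr Lrot0 (Lpr_at (f670805 IH) (Lpn v8323))
theorem f670807 : Led Lsl_ft v1987 = v8323 :=
  Lgr Lrot2 (Lpe (f506764 IH) (Lpr_gt (f506763 IH) (Lpr_af (f670806 IH) (Lpn v8323))))
theorem f670808 : Led Lsl_ff v1987 = v8323 :=
  Lgr Lrot3 (Lpr_ft (f670807 IH) (Lpn v8323))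
def v8331 : LQ := Led Lsl_dt v1987
theorem f670825 : Led Lsl_dt v1987 = v8331 :=
  Lrfl
def v18606 : LQ := Led Lsl_gf (LP (LK LD1_c6 LD2_c31 LD3_c15))
theorem f767687 : Led Lsl_gf (LP (LK LD1_c6 LD2_c31 LD3_c15)) = v18606 :=
  Lrfl
def v5862 : LQ := Led Lsl_at (LP (LK LD1_c3 LD2_c14 LD3_c18))
theorem f649856 : Led Lsl_at (LP (LK LD1_c3 LD2_c14 LD3_c18)) = v5862 :=
  Lrfl
theorem f22733 : Led Lsl_ct (LP (LK LD1_c1 LD2_c33 LD3_c40)) = (LP (LK LD1_c3 LD2_c14 LD3_c18)) :=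
  Lre_c IH (LK LD1_c1 LD2_c33 LD3_c40) (LK LD1_c3 LD2_c14 LD3_c18) Lrfl Lrfl
theorem f649858 : Led Lsl_cf K46.v2015 = v5862 :=
  Lgr Lrot1 (Lpe (K46.f506897 IH) (Lpr_ct (f22733 IH) (Lpr_at (f649856 IH) (Lpn v5862))))
theorem f649859 : Led Lsl_ct K46.v2015 = v5862 :=
  Lgr Lrot59 (Lpr_cf (f649858 IH) (Lpn v5862))
theorem f436236 : Led Lsl_ct (LP (LK LD1_c3 LD2_c13 LD3_c50)) = (LP (LK LD1_c6 LD2_c31 LD3_c15)) :=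
  Lre_c IH (LK LD1_c3 LD2_c13 LD3_c50) (LK LD1_c6 LD2_c31 LD3_c15) Lrfl Lrfl
theorem f663639 : v5862 = (LP (LK LD1_c6 LD2_c31 LD3_c15)) :=
  Lefun (Lecon (f649859 IH) (K48.f663635 IH)) (f436236 IH)
def v5863 : LQ := Led Lsl_ft (LP (LK LD1_c3 LD2_c14 LD3_c18))
theorem f649866 : Led Lsl_ft (LP (LK LD1_c3 LD2_c14 LD3_c18)) = v5863 :=
  Lrfl
theorem f649869 : Led Lsl_ff (LP (LK LD1_c3 LD2_c14 LD3_c18)) = v5863 :=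
  Lgr Lrot3 (Lpr_ft (f649866 IH) (Lpn v5863))
theorem f767688 : Led Lsl_gt v5863 = v18606 :=
  Lgr Lrot5 (Lpe (f649869 IH) (Lpr_at (f649856 IH) (Lpqs (f663639 IH) (Lpr_gf (f767687 IH) (Lpn v18606)))))
theorem f22741 : Led Lsl_ct (LP (LK LD1_c3 LD2_c14 LD3_c18)) = (LP (LK LD1_c1 LD2_c33 LD3_c40)) :=
  Lre_c IH (LK LD1_c3 LD2_c14 LD3_c18) (LK LD1_c1 LD2_c33 LD3_c40) Lrfl Lrfl
theorem f649872 : Led Lsl_ct K48.v2016 = v5863 :=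
  Lgr Lrot40 (Lpe (K48.f506904 IH) (Lpe (f22741 IH) (Lpr_ff (f649869 IH) (Lpn v5863))))
theorem f22561 : Led Lsl_ct (LP (LK LD1_c3 LD2_c13 LD3_c51)) = (LP (LK LD1_c6 LD2_c31 LD3_c18)) :=
  Lre_c IH (LK LD1_c3 LD2_c13 LD3_c51) (LK LD1_c6 LD2_c31 LD3_c18) Lrfl Lrfl
theorem f663665 : v5863 = (LP (LK LD1_c6 LD2_c31 LD3_c18)) :=
  Lefun (Lecon (f649872 IH) (K48.f663651 IH).symm) (f22561 IH)
theorem f446245 : Led Lsl_bt (LP (LK LD1_c0 LD2_c43 LD3_c0)) = (LP (LK LD1_c1 LD2_c32 LD3_c57)) :=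
  Lre_b IH (LK LD1_c0 LD2_c43 LD3_c0) (LK LD1_c1 LD2_c32 LD3_c57) Lrfl Lrfl
def v8329 : LQ := Led Lsl_bt v1987
theorem f670821 : Led Lsl_bt v1987 = v8329 :=
  Lrfl
theorem f670822 : Led Lsl_bf v1987 = v8329 :=
  Lgr Lrot24 (Lpr_bt (f670821 IH) (Lpn v8329))
theorem f767689 : Led Lsl_ct v8329 = v18606 :=
  Lgr Lrot63 (Lpe (f670822 IH) (Lpe (f506764 IH) (Lpe (f446245 IH) (Lpr_ct (K32.f82684 IH) (Lpe (K41.f446243 IH) (Lpe (K7.f22517 IH) (Lpr_bt (K8.f22559 IH) (Lpr_gt (K46.f22560 IH) (Lpr_ct (f22561 IH) (Lpq (f663665 IH) (Lpr_gt (f767688 IH) (Lpn v18606))))))))))))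
theorem f767690 : Led Lsl_cf v8329 = v18606 :=
  Lgr Lrot11 (Lpr_ct (f767689 IH) (Lpn v18606))
theorem f767691 : Led Lsl_dt v8329 = v8329 :=
  Lgr Lrot27 (Lpr_cf (f767690 IH) (Lpe (f767688 IH) (Lpqs (f663665 IH) (Lpe (f22561 IH) (Lpe (K46.f22560 IH) (Lpe (K24.f23729 IH) (Lpr_gt (K46.f22560 IH) (Lpr_ct (f22561 IH) (Lpq (f663665 IH) (Lpr_gt (f767688 IH) (Lpe (f767690 IH) (Lpn v8329))))))))))))
theorem f670826 : Led Lsl_df v1987 = v8331 :=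
  Lgr Lrot38 (Lpr_dt (f670825 IH) (Lpn v8331))
theorem f767692 : v8331 = v1987 :=
  (Llr Lrot12 (Lpe (f670826 IH) (Lpr_bt (f670821 IH) (Lpr_dt (f767691 IH) (Lpe (f670822 IH) (Lpn v1987)))))).symm
theorem f767693 : Led Lsl_df v8323 = v8323 :=
  Lgr Lrot78 (Lpe (f670808 IH) (Lpr_dt (f670825 IH) (Lpqs (f767692 IH) (Lpr_ft (f670807 IH) (Lpn v8323)))))
theorem f767694 : v8326 = v1986 :=
  (Llr Lrot44 (Lpe (f670813 IH) (Lpr_af (f670806 IH) (Lpr_df (f767693 IH) (Lpe (f670805 IH) (Lpn v1986)))))).symm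
theorem f765319 : Led Lsl_ff (LP (LK LD1_c6 LD2_c26 LD3_c47)) = v18157 :=
  Lgr Lrot3 (Lpr_ft (f765316 IH) (Lpn v18157))
theorem f506604 : Led Lsl_at (LP (LK LD1_c6 LD2_c26 LD3_c47)) = (LP (LK LD1_c3 LD2_c11 LD3_c19)) :=
  Lre_a IH (LK LD1_c6 LD2_c26 LD3_c47) (LK LD1_c3 LD2_c11 LD3_c19) Lrfl Lrfl
theorem f765323 : Led Lsl_gf v5659 = v18157 :=
  Lgr Lrot47 (Lpe (f648730 IH) (Lpe (f506604 IH) (Lpr_ff (f765319 IH) (Lpn v18157))))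
theorem f765322 : Led Lsl_dt v11840 = v18157 :=
  Lgr Lrot60 (Lpr_ff (f765312 IH) (Lpe (f765306 IH) (Lpr_ff (f765319 IH) (Lpn v18157))))
theorem f676830 : Led Lsl_gf v3907 = v9609 :=
  Lgr Lrot76 (Lpe (f627847 IH) (Lpr_ff (K56.f623424 IH) (Lpr_gt (f676829 IH) (Lpn v9609))))
theorem f770128 : v9609 = v8282 :=
  (Llr Lrot141 (Lpe (f676830 IH) (Lpr_ef (f686115 IH) (Lpr_dt (f765322 IH) (Lpe (f765323 IH) (Lpqs (f770066 IH) (Lpe (K49.f653647 IH) (Lpq (f770033 IH) (Lpe (f767114 IH) (Lpr_gt (f79820 IH) (Lpr_dt (K46.f79777 IH) (Lpr_gt (f506763 IH) (Lpq (f767694 IH) (Lpe (f670813 IH) (Lpq (f770124 IH) (Lpr_et (f670649 IH) (Lpn v8282))))))))))))))))).symm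
theorem f632836 : Led Lsl_gt v1986 = K46.v4348 :=
  Lgr Lrot46 (Lpe (f506763 IH) (Lpr_ft (K46.f504977 IH) (Lpr_at (K46.f632832 IH) (Lpn K46.v4348))))
theorem f770134 : v6484 = (LP (LK LD1_c3 LD2_c8 LD3_c25)) :=
  (Llr Lrot138 (Lpr_gt (f653602 IH) (Lpr_dt (f758925 IH) (Lpq (f770069 IH) (Lpr_gt (f762159 IH) (Lpr_df (f676860 IH) (Lpe (f676855 IH) (Lpr_gt (f676829 IH) (Lpqs (f770128 IH) (Lpe (f670649 IH) (Lpqs (f770124 IH) (Lpr_dt (f670813 IH) (Lpqs (f767694 IH) (Lpr_gt (f632836 IH) (Lpr_df (K46.f647891 IH) (Lpe (K46.f647888 IH) (Lpn (LP (LK LD1_c3 LD2_c8 LD3_c25))))))))))))))))))).symm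
theorem f770137 : Led Lsl_gt (LP (LK LD1_c3 LD2_c22 LD3_c37)) = (LP (LK LD1_c3 LD2_c8 LD3_c25)) :=
  Leop (Lpq (f770134 IH) (Lpe (f653595 IH) (Lpn (LP (LK LD1_c3 LD2_c22 LD3_c37)))))
theorem seed_1280 : LEOK LG_g (LK LD1_c3 LD2_c22 LD3_c37) :=
  Leoe_g (LK LD1_c3 LD2_c22 LD3_c37) (f770137 IH)
theorem f146026 : Led Lsl_ct (LP (LK LD1_c1 LD2_c36 LD3_c6)) = (LP (LK LD1_c3 LD2_c19 LD3_c23)) :=
  Lre_c IH (LK LD1_c1 LD2_c36 LD3_c6) (LK LD1_c3 LD2_c19 LD3_c23) Lrfl Lrfl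
def v6243 : LQ := Led Lsl_gf (LP (LK LD1_c3 LD2_c19 LD3_c23))
theorem f652270 : Led Lsl_gf (LP (LK LD1_c3 LD2_c19 LD3_c23)) = v6243 :=
  Lrfl
def v5396 : LQ := Led Lsl_ft (LP (LK LD1_c3 LD2_c7 LD3_c20))
theorem f647366 : Led Lsl_ft (LP (LK LD1_c3 LD2_c7 LD3_c20)) = v5396 :=
  Lrfl
theorem f647367 : Led Lsl_af (LP (LK LD1_c3 LD2_c7 LD3_c21)) = v5396 :=
  Lgr Lrot45 (Lpr_ft (K51.f647364 IH) (Lpe (K51.f647363 IH) (Lpr_ft (f647366 IH) (Lpn v5396))))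
theorem f504597 : Led Lsl_af (LP (LK LD1_c1 LD2_c30 LD3_c8)) = K51.v1856 :=
  Lgr Lrot45 (Lpr_ft (K46.f504590 IH) (Lpe (K46.f504585 IH) (Lpr_ft (K51.f504596 IH) (Lpn K51.v1856))))
theorem f647368 : Led Lsl_ff (LP (LK LD1_c3 LD2_c7 LD3_c20)) = v5396 :=
  Lgr Lrot3 (Lpr_ft (f647366 IH) (Lpn v5396))
theorem f647369 : Led Lsl_at (LP (LK LD1_c3 LD2_c7 LD3_c21)) = v5396 :=
  Lgr Lrot66 (Lpr_ff (K51.f647365 IH) (Lpe (K51.f647362 IH) (Lpr_ff (f647368 IH) (Lpn v5396))))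
theorem f707791 : (LP (LK LD1_c1 LD2_c30 LD3_c8)) = v5396 :=
  Lefun (Lecon (Lfl_af (f504597 IH)) (K51.f707780 IH)) (f647369 IH)
theorem f760080 : Led Lsl_bf (LP (LK LD1_c6 LD2_c20 LD3_c45)) = K57.v17490 :=
  Lgr Lrot81 (Lpr_at (K57.f504602 IH) (Lpr_bt (K57.f419109 IH) (Lpqs (f707791 IH) (Lpe (f647367 IH) (Lpr_bt (K57.f435414 IH) (Lpr_at (K57.f760078 IH) (Lpn K57.v17490)))))))
theorem f760038 : Led Lsl_ft (LP (LK LD1_c6 LD2_c20 LD3_c45)) = K57.v17481 :=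
  Lgr Lrot48 (Lpr_ff (K57.f760036 IH) (Lpn K57.v17481))
theorem f760034 : Led Lsl_af (LP (LK LD1_c6 LD2_c19 LD3_c43)) = K57.v17481 :=
  Lgr Lrot0 (Lpr_at (K57.f760033 IH) (Lpn K57.v17481))
def v17480 : LQ := Led Lsl_gf (LP (LK LD1_c6 LD2_c19 LD3_c43))
theorem f760032 : Led Lsl_gf (LP (LK LD1_c6 LD2_c19 LD3_c43)) = v17480 :=
  Lrfl
theorem f760040 : Led Lsl_gt (LP (LK LD1_c6 LD2_c20 LD3_c45)) = v17480 :=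
  Lgr Lrot5 (Lpr_ft (f760038 IH) (Lpe (f760034 IH) (Lpr_gf (f760032 IH) (Lpn v17480))))
theorem f760089 : Led Lsl_cf v6243 = v17480 :=
  Lgr Lrot125 (Lpe (f652270 IH) (Lpe (f146026 IH) (Lpr_bt (K57.f146023 IH) (Lpr_gt (K32.f146019 IH) (Lpe (K6.f92109 IH) (Lpr_ct (K57.f92218 IH) (Lpr_gt (K57.f704594 IH) (Lpq (K57.f715857 IH) (Lpr_cf (K57.f760081 IH) (Lpe (f760080 IH) (Lpr_gt (f760040 IH) (Lpn v17480))))))))))))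
def v4289 : LQ := Led Lsl_gt (LP (LK LD1_c2 LD2_c18 LD3_c22))
theorem f632432 : Led Lsl_gt (LP (LK LD1_c2 LD2_c18 LD3_c22)) = v4289 :=
  Lrfl
theorem f760091 : Led Lsl_bf v4289 = v17480 :=
  Lgr Lrot34 (Lpe (f632432 IH) (Lpe (K35.f494698 IH) (Lpr_ct (K31.f494705 IH) (Lpqs (K31.f500029 IH) (Lpe (K32.f438773 IH) (Lpr_cf (K6.f92110 IH) (Lpe (K32.f146019 IH) (Lpe (K57.f146023 IH) (Lpr_ct (f146026 IH) (Lpr_gf (f652270 IH) (Lpr_cf (f760089 IH) (Lpn v17480))))))))))))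
theorem f760092 : Led Lsl_bt v4289 = v17480 :=
  Lgr Lrot127 (Lpr_bf (f760091 IH) (Lpn v17480))
theorem f632433 : Led Lsl_gf (LP (LK LD1_c3 LD2_c8 LD3_c25)) = v4289 :=
  Lgr Lrot76 (Lpe (K46.f453513 IH) (Lpr_ff (K35.f504659 IH) (Lpqs (K35.f504892 IH) (Lpr_gt (f632432 IH) (Lpn v4289)))))
theorem f770136 : (LP (LK LD1_c3 LD2_c22 LD3_c37)) = v4289 :=
  Lefun (Lecon (Lfl_gt (f653595 IH)) (f770134 IH)) (f632433 IH)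
theorem f770158 : v17480 = (LP (LK LD1_c6 LD2_c17 LD3_c17)) :=
  Lefun (Lecon (f760092 IH) (f770136 IH).symm) (K4.f99208 IH)
theorem f770161 : Led Lsl_gt (LP (LK LD1_c6 LD2_c17 LD3_c17)) = (LP (LK LD1_c6 LD2_c19 LD3_c43)) :=
  Leop (Lpr_gf (f760032 IH) (Lpqs (f770158 IH) (Lpn (LP (LK LD1_c6 LD2_c17 LD3_c17)))))
theorem seed_1281 : LEOK LG_g (LK LD1_c6 LD2_c17 LD3_c17) :=
  Leoe_g (LK LD1_c6 LD2_c17 LD3_c17) (f770161 IH)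
def v17404 : LQ := Led Lsl_ft (LP (LK LD1_c6 LD2_c18 LD3_c44))
theorem f759603 : Led Lsl_ft (LP (LK LD1_c6 LD2_c18 LD3_c44)) = v17404 :=
  Lrfl
theorem f430557 : Led Lsl_et (LP (LK LD1_c6 LD2_c22 LD3_c34)) = (LP (LK LD1_c3 LD2_c8 LD3_c60)) :=
  Lre_e IH (LK LD1_c6 LD2_c22 LD3_c34) (LK LD1_c3 LD2_c8 LD3_c60) Lrfl Lrfl
theorem f430551 : Led Lsl_ft (LP (LK LD1_c12 LD2_c18 LD3_c38)) = (LP (LK LD1_c6 LD2_c22 LD3_c34)) :=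
  Lre_f IH (LK LD1_c12 LD2_c18 LD3_c38) (LK LD1_c6 LD2_c22 LD3_c34) Lrfl Lrfl
theorem f759606 : Led Lsl_ef (LP (LK LD1_c12 LD2_c18 LD3_c38)) = v17404 :=
  Lgr Lrot21 (Lpr_ft (f430551 IH) (Lpr_et (f430557 IH) (Lpe (K46.f153401 IH) (Lpr_et (K4.f67897 IH) (Lpr_ft (f759603 IH) (Lpn v17404))))))
def v18147 : LQ := Led Lsl_et (LP (LK LD1_c6 LD2_c26 LD3_c44))
theorem f765268 : Led Lsl_et (LP (LK LD1_c6 LD2_c26 LD3_c44)) = v18147 :=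
  Lrfl
theorem f759607 : Led Lsl_ff (LP (LK LD1_c6 LD2_c18 LD3_c44)) = v17404 :=
  Lgr Lrot3 (Lpr_ft (f759603 IH) (Lpn v17404))
theorem f759610 : Led Lsl_dt v6490 = v17404 :=
  Lgr Lrot60 (Lpe (f653616 IH) (Lpe (K4.f99224 IH) (Lpr_ff (f759607 IH) (Lpn v17404))))
theorem f632665 : Led Lsl_dt (LP (LK LD1_c3 LD2_c11 LD3_c15)) = (LP (LK LD1_c6 LD2_c26 LD3_c44)) :=
  Lre_d IH (LK LD1_c3 LD2_c11 LD3_c15) (LK LD1_c6 LD2_c26 LD3_c44) Lrfl Lrfl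
theorem f769832 : v17404 = (LP (LK LD1_c6 LD2_c26 LD3_c44)) :=
  Lefun (Lecon (f759610 IH) (f769823 IH)) (f632665 IH)
theorem f769845 : (LP (LK LD1_c12 LD2_c18 LD3_c38)) = v18147 :=
  Lefun (Lecon (Lfl_ef (f759606 IH)) (f769832 IH)) (f765268 IH)
def v16581 : LQ := Led Lsl_bt (LP (LK LD1_c6 LD2_c2 LD3_c60))
theorem f750508 : Led Lsl_bt (LP (LK LD1_c6 LD2_c2 LD3_c60)) = v16581 :=
  Lrfl
theorem f153802 : Led Lsl_bt (LP (LK LD1_c6 LD2_c28 LD3_c5)) = (LP (LK LD1_c3 LD2_c11 LD3_c57)) :=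
  Lre_b IH (LK LD1_c6 LD2_c28 LD3_c5) (LK LD1_c3 LD2_c11 LD3_c57) Lrfl Lrfl
theorem f750511 : Led Lsl_ef (LP (LK LD1_c6 LD2_c28 LD3_c5)) = v16581 :=
  Lgr Lrot29 (Lpr_bt (f153802 IH) (Lpe (K46.f505114 IH) (Lpr_bt (f750508 IH) (Lpn v16581))))
def v18281 : LQ := Led Lsl_gf (LP (LK LD1_c6 LD2_c28 LD3_c5))
theorem f766081 : Led Lsl_gf (LP (LK LD1_c6 LD2_c28 LD3_c5)) = v18281 :=
  Lrfl
theorem f750510 : Led Lsl_df (LP (LK LD1_c9 LD2_c20 LD3_c43)) = v16581 :=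
  Lgr Lrot12 (Lpr_bt (K32.f445616 IH) (Lpr_dt (K32.f505099 IH) (Lpr_bt (f750508 IH) (Lpn v16581))))
theorem f765349 : Led Lsl_ef (LP (LK LD1_c6 LD2_c26 LD3_c50)) = v18163 :=
  Lgr Lrot88 (Lpr_et (f765348 IH) (Lpn v18163))
theorem f702542 : Led Lsl_gt (LP (LK LD1_c6 LD2_c26 LD3_c50)) = K50.v13365 :=
  Lgr Lrot46 (Lpe (f67320 IH) (Lpr_ft (K50.f623788 IH) (Lpr_at (K50.f702537 IH) (Lpn K50.v13365))))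
theorem f702540 : Led Lsl_df v4326 = K50.v13365 :=
  Lgr Lrot18 (Lpe (f632657 IH) (Lpr_dt (f622795 IH) (Lpr_at (K50.f702537 IH) (Lpn K50.v13365))))
theorem f67303 : Led Lsl_dt (LP (LK LD1_c6 LD2_c26 LD3_c44)) = (LP (LK LD1_c3 LD2_c11 LD3_c15)) :=
  Lre_d IH (LK LD1_c6 LD2_c26 LD3_c44) (LK LD1_c3 LD2_c11 LD3_c15) Lrfl Lrfl
theorem f770217 : v18281 = v18147 :=
  (Llr Lrot141 (Lpe (f766081 IH) (Lpr_ef (f750511 IH) (Lpe (f750510 IH) (Lpq (f770027 IH) (Lpe (f766906 IH) (Lpr_df (f79631 IH) (Lpqs (K57.f761670 IH) (Lpqs (f769888 IH) (Lpe (f765349 IH) (Lpr_gt (f702542 IH) (Lpe (f702540 IH) (Lpe (f632662 IH) (Lpe (f67303 IH) (Lpr_et (f765268 IH) (Lpn v18147)))))))))))))))).symm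
theorem f770219 : Led Lsl_gt (LP (LK LD1_c12 LD2_c18 LD3_c38)) = (LP (LK LD1_c6 LD2_c28 LD3_c5)) :=
  Leop (Lpr_gf (f766081 IH) (Lpqs (f770217 IH) (Lpq (f769845 IH) (Lpn (LP (LK LD1_c12 LD2_c18 LD3_c38))))))
theorem seed_1282 : LEOK LG_g (LK LD1_c12 LD2_c18 LD3_c38) :=
  Leoe_g (LK LD1_c12 LD2_c18 LD3_c38) (f770219 IH)
theorem f25445 : Led Lsl_bt (LP (LK LD1_c6 LD2_c42 LD3_c51)) = (LP (LK LD1_c3 LD2_c19 LD3_c28)) :=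
  Lre_b IH (LK LD1_c6 LD2_c42 LD3_c51) (LK LD1_c3 LD2_c19 LD3_c28) Lrfl Lrfl
theorem f25448 : Led Lsl_ct (LP (LK LD1_c6 LD2_c42 LD3_c51)) = (LP (LK LD1_c12 LD2_c50 LD3_c37)) :=
  Lre_c IH (LK LD1_c6 LD2_c42 LD3_c51) (LK LD1_c12 LD2_c50 LD3_c37) Lrfl Lrfl
def v5477 : LQ := Led Lsl_et (LP (LK LD1_c3 LD2_c8 LD3_c17))
theorem f647858 : Led Lsl_et (LP (LK LD1_c3 LD2_c8 LD3_c17)) = v5477 :=
  Lrfl
theorem f443901 : Led Lsl_dt (LP (LK LD1_c3 LD2_c8 LD3_c17)) = (LP (LK LD1_c6 LD2_c21 LD3_c13)) :=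
  Lre_d IH (LK LD1_c3 LD2_c8 LD3_c17) (LK LD1_c6 LD2_c21 LD3_c13) Lrfl Lrfl
def v17670 : LQ := Led Lsl_gf (LP (LK LD1_c6 LD2_c21 LD3_c13))
theorem f761630 : Led Lsl_gf (LP (LK LD1_c6 LD2_c21 LD3_c13)) = v17670 :=
  Lrfl
theorem f67900 : Led Lsl_et (LP (LK LD1_c3 LD2_c6 LD3_c25)) = (LP (LK LD1_c6 LD2_c18 LD3_c18)) :=
  Lre_e IH (LK LD1_c3 LD2_c6 LD3_c25) (LK LD1_c6 LD2_c18 LD3_c18) Lrfl Lrfl
def v17369 : LQ := Led Lsl_gt (LP (LK LD1_c6 LD2_c18 LD3_c18))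
theorem f758977 : Led Lsl_gt (LP (LK LD1_c6 LD2_c18 LD3_c18)) = v17369 :=
  Lrfl
def v17350 : LQ := Led Lsl_gf (LP (LK LD1_c6 LD2_c18 LD3_c6))
theorem f758886 : Led Lsl_gf (LP (LK LD1_c6 LD2_c18 LD3_c6)) = v17350 :=
  Lrfl
theorem f113879 : Led Lsl_at (LP (LK LD1_c6 LD2_c18 LD3_c44)) = (LP (LK LD1_c6 LD2_c18 LD3_c6)) :=
  Lgr Lrot100 (Lpr_af (K4.f113877 IH) (Lpn (LP (LK LD1_c6 LD2_c18 LD3_c6))))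
theorem f759612 : Led Lsl_gf v17350 = v17404 :=
  Lgr Lrot47 (Lpe (f758886 IH) (Lpe (f113879 IH) (Lpr_ff (f759607 IH) (Lpn v17404))))
def v18143 : LQ := Led Lsl_gt (LP (LK LD1_c6 LD2_c26 LD3_c44))
theorem f765255 : Led Lsl_gt (LP (LK LD1_c6 LD2_c26 LD3_c44)) = v18143 :=
  Lrfl
theorem f769843 : v17350 = v18143 :=
  Lefun (Lecon (Lfl_gf (f759612 IH)) (f769832 IH)) (f765255 IH)
def v5666 : LQ := Led Lsl_gf (LP (LK LD1_c3 LD2_c11 LD3_c29))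
theorem f648749 : Led Lsl_gf (LP (LK LD1_c3 LD2_c11 LD3_c29)) = v5666 :=
  Lrfl
theorem f670814 : Led Lsl_df v1986 = v8326 :=
  Lgr Lrot38 (Lpr_dt (f670813 IH) (Lpn v8326))
theorem f79798 : Led Lsl_et (LP (LK LD1_c3 LD2_c12 LD3_c60)) = (LP (LK LD1_c1 LD2_c32 LD3_c57)) :=
  Lre_e IH (LK LD1_c3 LD2_c12 LD3_c60) (LK LD1_c1 LD2_c32 LD3_c57) Lrfl Lrfl
theorem f79767 : Led Lsl_bt (LP (LK LD1_c6 LD2_c29 LD3_c60)) = (LP (LK LD1_c3 LD2_c13 LD3_c4)) :=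
  Lre_b IH (LK LD1_c6 LD2_c29 LD3_c60) (LK LD1_c3 LD2_c13 LD3_c4) Lrfl Lrfl
theorem f79768 : Led Lsl_bt (LP (LK LD1_c3 LD2_c11 LD3_c31)) = (LP (LK LD1_c6 LD2_c27 LD3_c11)) :=
  Lre_b IH (LK LD1_c3 LD2_c11 LD3_c31) (LK LD1_c6 LD2_c27 LD3_c11) Lrfl Lrfl
theorem f79769 : Led Lsl_df (LP (LK LD1_c6 LD2_c29 LD3_c60)) = (LP (LK LD1_c6 LD2_c27 LD3_c11)) :=
  Lgr Lrot12 (Lpr_bt (f79767 IH) (Lpr_dt (K32.f79764 IH) (Lpr_bt (f79768 IH) (Lpn (LP (LK LD1_c6 LD2_c27 LD3_c11))))))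
theorem f79780 : Led Lsl_dt (LP (LK LD1_c3 LD2_c12 LD3_c60)) = (LP (LK LD1_c3 LD2_c11 LD3_c29)) :=
  Lgr Lrot77 (Lpe (K32.f79778 IH) (Lpe (K46.f79777 IH) (Lpe (f79776 IH) (Lpr_df (f79769 IH) (Lpe (f79779 IH) (Lpn (LP (LK LD1_c3 LD2_c11 LD3_c29))))))))
theorem f506045 : Led Lsl_dt (LP (LK LD1_c6 LD2_c21 LD3_c25)) = (LP (LK LD1_c3 LD2_c8 LD3_c25)) :=
  Lre_d IH (LK LD1_c6 LD2_c21 LD3_c25) (LK LD1_c3 LD2_c8 LD3_c25) Lrfl Lrfl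
theorem f506044 : Led Lsl_dt (LP (LK LD1_c4 LD2_c42 LD3_c6)) = (LP (LK LD1_c9 LD2_c18 LD3_c35)) :=
  Lre_d IH (LK LD1_c4 LD2_c42 LD3_c6) (LK LD1_c9 LD2_c18 LD3_c35) Lrfl Lrfl
theorem f506046 : Led Lsl_ft (LP (LK LD1_c3 LD2_c8 LD3_c25)) = (LP (LK LD1_c4 LD2_c42 LD3_c6)) :=
  Lgr Lrot54 (Lpe (f506045 IH) (Lpr_ff (K46.f506036 IH) (Lpe (f506044 IH) (Lpn (LP (LK LD1_c4 LD2_c42 LD3_c6))))))
theorem f494703 : Led Lsl_at (LP (LK LD1_c4 LD2_c42 LD3_c6)) = (LP (LK LD1_c2 LD2_c18 LD3_c22)) :=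
  Lre_a IH (LK LD1_c4 LD2_c42 LD3_c6) (LK LD1_c2 LD2_c18 LD3_c22) Lrfl Lrfl
theorem f506068 : Led Lsl_gt (LP (LK LD1_c3 LD2_c8 LD3_c25)) = (LP (LK LD1_c4 LD2_c42 LD3_c5)) :=
  Lgr Lrot5 (Lpr_ft (f506046 IH) (Lpr_at (f494703 IH) (Lpe (K57.f494708 IH) (Lpn (LP (LK LD1_c4 LD2_c42 LD3_c5))))))
def v13265 : LQ := Led Lsl_et (LP (LK LD1_c4 LD2_c42 LD3_c5))
theorem f702018 : Led Lsl_et (LP (LK LD1_c4 LD2_c42 LD3_c5)) = v13265 :=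
  Lrfl
theorem f702019 : Led Lsl_ef (LP (LK LD1_c4 LD2_c42 LD3_c5)) = v13265 :=
  Lgr Lrot88 (Lpr_et (f702018 IH) (Lpn v13265))
theorem f767697 : Led Lsl_df v5666 = v13265 :=
  Lgr Lrot170 (Lpe (f648749 IH) (Lpe (f79780 IH) (Lpr_et (f79798 IH) (Lpr_gt (f506763 IH) (Lpq (f767694 IH) (Lpe (f670814 IH) (Lpr_gt (f632836 IH) (Lpr_df (K46.f647891 IH) (Lpe (K46.f647888 IH) (Lpr_gt (f506068 IH) (Lpr_ef (f702019 IH) (Lpn v13265))))))))))))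
theorem f115006 : Led Lsl_ff (LP (LK LD1_c1 LD2_c29 LD3_c16)) = (LP (LK LD1_c1 LD2_c37 LD3_c35)) :=
  Lgr Lrot25 (Lpr_bt (K4.f114987 IH) (Lpr_ft (K4.f114964 IH) (Lpe (K4.f114936 IH) (Lpn (LP (LK LD1_c1 LD2_c37 LD3_c35))))))
theorem f76716 : Led Lsl_et (LP (LK LD1_c1 LD2_c29 LD3_c16)) = (LP (LK LD1_c3 LD2_c6 LD3_c21)) :=
  Lre_e IH (LK LD1_c1 LD2_c29 LD3_c16) (LK LD1_c3 LD2_c6 LD3_c21) Lrfl Lrfl
theorem f653622 : Led Lsl_et v5338 = v6490 :=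
  Lgr Lrot69 (Lpe (f647161 IH) (Lpe (f76716 IH) (Lpr_ff (f115006 IH) (Lpe (K4.f77782 IH) (Lpr_ff (f653619 IH) (Lpn v6490))))))
theorem f770135 : v5338 = (LP (LK LD1_c4 LD2_c42 LD3_c5)) :=
  Lefun (Lecon (f653602 IH) (f770134 IH)) (f506068 IH)
theorem f770152 : v6490 = v13265 :=
  Lefun (Lecon (f653622 IH) (f770135 IH)) (f702018 IH)
theorem f770159 : v5666 = (LP (LK LD1_c6 LD2_c26 LD3_c44)) :=
  Lefun (Lecon (Lfl_df (f767697 IH)) ((f770152 IH).symm.trans (f769823 IH))) (f632665 IH)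
theorem f770165 : (LP (LK LD1_c3 LD2_c11 LD3_c29)) = v18143 :=
  Lefun (Lecon (Lfl_gf (f648749 IH)) (f770159 IH)) (f765255 IH)
theorem f79782 : Led Lsl_et (LP (LK LD1_c6 LD2_c27 LD3_c11)) = (LP (LK LD1_c3 LD2_c11 LD3_c29)) :=
  Lre_e IH (LK LD1_c6 LD2_c27 LD3_c11) (LK LD1_c3 LD2_c11 LD3_c29) Lrfl Lrfl
def v18478 : LQ := Led Lsl_gf (LP (LK LD1_c6 LD2_c29 LD3_c60))
theorem f767133 : Led Lsl_gf (LP (LK LD1_c6 LD2_c29 LD3_c60)) = v18478 :=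
  Lrfl
theorem f770210 : Led Lsl_dt v17369 = v18478 :=
  Lgr Lrot171 (Lpe (f758977 IH) (Lpe (f67900 IH) (Lpr_dt (K2.f25129 IH) (Lpr_gf (K3.f79387 IH) (Lpe (K4.f77861 IH) (Lpr_et (K4.f77932 IH) (Lpr_gf (f758886 IH) (Lpqs (f769843 IH) (Lpq (f770165 IH) (Lpe (f79782 IH) (Lpe (f79769 IH) (Lpr_gf (f767133 IH) (Lpn v18478)))))))))))))
def v17396 : LQ := Led Lsl_dt (LP (LK LD1_c6 LD2_c18 LD3_c38))
theorem f759580 : Led Lsl_dt (LP (LK LD1_c6 LD2_c18 LD3_c38)) = v17396 :=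
  Lrfl
theorem f759581 : Led Lsl_df (LP (LK LD1_c6 LD2_c18 LD3_c38)) = v17396 :=
  Lgr Lrot38 (Lpr_dt (f759580 IH) (Lpn v17396))
theorem f76666 : Led Lsl_gt (LP (LK LD1_c6 LD2_c18 LD3_c38)) = (LP (LK LD1_c3 LD2_c6 LD3_c32)) :=
  Lre_g IH (LK LD1_c6 LD2_c18 LD3_c38) (LK LD1_c3 LD2_c6 LD3_c32) Lrfl Lrfl
theorem f110338 : Led Lsl_dt (LP (LK LD1_c1 LD2_c29 LD3_c22)) = (LP (LK LD1_c3 LD2_c6 LD3_c32)) :=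
  Lre_d IH (LK LD1_c1 LD2_c29 LD3_c22) (LK LD1_c3 LD2_c6 LD3_c32) Lrfl Lrfl
theorem f110337 : Led Lsl_et (LP (LK LD1_c1 LD2_c29 LD3_c22)) = (LP (LK LD1_c0 LD2_c41 LD3_c18)) :=
  Lre_e IH (LK LD1_c1 LD2_c29 LD3_c22) (LK LD1_c0 LD2_c41 LD3_c18) Lrfl Lrfl
theorem f77200 : Led Lsl_et (LP (LK LD1_c1 LD2_c30 LD3_c20)) = (LP (LK LD1_c3 LD2_c8 LD3_c13)) :=
  Lre_e IH (LK LD1_c1 LD2_c30 LD3_c20) (LK LD1_c3 LD2_c8 LD3_c13) Lrfl Lrfl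
theorem f759582 : Led Lsl_ef K57.v5468 = v17396 :=
  Lgr Lrot17 (Lpe (K57.f647810 IH) (Lpe (f77200 IH) (Lpr_dt (K2.f77180 IH) (Lpe (K3.f13532 IH) (Lpe (K3.f110322 IH) (Lpe (K3.f61722 IH) (Lpe (f110337 IH) (Lpr_dt (f110338 IH) (Lpe (f76666 IH) (Lpr_df (f759581 IH) (Lpn v17396)))))))))))
theorem f761446 : Led Lsl_af v17396 = v5477 :=
  Lgr Lrot50 (Lpe (f759582 IH) (Lpq (K57.f761410 IH) (Lpqs (K57.f761374 IH) (Lpe (K57.f647854 IH) (Lpr_et (f647858 IH) (Lpn v5477))))))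
def v17394 : LQ := Led Lsl_at (LP (LK LD1_c6 LD2_c18 LD3_c38))
theorem f759572 : Led Lsl_at (LP (LK LD1_c6 LD2_c18 LD3_c38)) = v17394 :=
  Lrfl
def v17370 : LQ := Led Lsl_gf (LP (LK LD1_c6 LD2_c18 LD3_c18))
theorem f758978 : Led Lsl_gf (LP (LK LD1_c6 LD2_c18 LD3_c18)) = v17370 :=
  Lrfl
theorem f68060 : Led Lsl_dt (LP (LK LD1_c3 LD2_c6 LD3_c24)) = (LP (LK LD1_c6 LD2_c18 LD3_c18)) :=
  Lre_d IH (LK LD1_c3 LD2_c6 LD3_c24) (LK LD1_c6 LD2_c18 LD3_c18) Lrfl Lrfl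
theorem f76465 : Led Lsl_et (LP (LK LD1_c3 LD2_c6 LD3_c24)) = (LP (LK LD1_c1 LD2_c29 LD3_c18)) :=
  Lre_e IH (LK LD1_c3 LD2_c6 LD3_c24) (LK LD1_c1 LD2_c29 LD3_c18) Lrfl Lrfl
theorem f647860 : Led Lsl_ef (LP (LK LD1_c3 LD2_c8 LD3_c17)) = v5477 :=
  Lgr Lrot88 (Lpr_et (f647858 IH) (Lpn v5477))
theorem f758980 : Led Lsl_dt v5477 = v17370 :=
  Lgr Lrot136 (Lpe (f647860 IH) (Lpe (K51.f77410 IH) (Lpe (K2.f77144 IH) (Lpe (K2.f58920 IH) (Lpe (K0.f13495 IH) (Lpe (K3.f13497 IH) (Lpe (K3.f79379 IH) (Lpe (f76465 IH) (Lpr_dt (f68060 IH) (Lpr_gf (f758978 IH) (Lpn v17370)))))))))))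
theorem f758981 : Led Lsl_df v5477 = v17370 :=
  Lgr Lrot38 (Lpr_dt (f758980 IH) (Lpn v17370))
theorem f761453 : v17394 = v17370 :=
  (Llr Lrot51 (Lpe (f759572 IH) (Lpr_df (f759581 IH) (Lpr_af (f761446 IH) (Lpr_df (f758981 IH) (Lpn v17370)))))).symm
theorem f759573 : Led Lsl_af (LP (LK LD1_c6 LD2_c18 LD3_c38)) = v17394 :=
  Lgr Lrot0 (Lpr_at (f759572 IH) (Lpn v17394))
def v17372 : LQ := Led Lsl_ft (LP (LK LD1_c6 LD2_c18 LD3_c18))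
theorem f758991 : Led Lsl_ft (LP (LK LD1_c6 LD2_c18 LD3_c18)) = v17372 :=
  Lrfl
theorem f758995 : Led Lsl_ff (LP (LK LD1_c6 LD2_c18 LD3_c18)) = v17372 :=
  Lgr Lrot3 (Lpr_ft (f758991 IH) (Lpn v17372))
theorem f68018 : Led Lsl_at (LP (LK LD1_c6 LD2_c18 LD3_c18)) = (LP (LK LD1_c3 LD2_c6 LD3_c32)) :=
  Lre_a IH (LK LD1_c6 LD2_c18 LD3_c18) (LK LD1_c3 LD2_c6 LD3_c32) Lrfl Lrfl
theorem f759000 : Led Lsl_gf (LP (LK LD1_c6 LD2_c18 LD3_c38)) = v17372 :=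
  Lgr Lrot47 (Lpr_gt (f76666 IH) (Lpe (f68018 IH) (Lpr_ff (f758995 IH) (Lpn v17372))))
theorem f67665 : Led Lsl_ft (LP (LK LD1_c3 LD2_c6 LD3_c32)) = (LP (LK LD1_c6 LD2_c18 LD3_c40)) :=
  Lre_f IH (LK LD1_c3 LD2_c6 LD3_c32) (LK LD1_c6 LD2_c18 LD3_c40) Lrfl Lrfl
theorem f758997 : Led Lsl_at (LP (LK LD1_c6 LD2_c18 LD3_c40)) = v17372 :=
  Lgr Lrot66 (Lpe (f67665 IH) (Lpe (f68018 IH) (Lpr_ff (f758995 IH) (Lpn v17372))))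
def v5345 : LQ := Led Lsl_gt (LP (LK LD1_c3 LD2_c6 LD3_c32))
theorem f647194 : Led Lsl_gt (LP (LK LD1_c3 LD2_c6 LD3_c32)) = v5345 :=
  Lrfl
theorem f759007 : Led Lsl_gt v5345 = v17372 :=
  Lgr Lrot46 (Lpe (f647194 IH) (Lpr_ft (f67665 IH) (Lpr_at (f758997 IH) (Lpn v17372))))
theorem f759575 : Led Lsl_ft v5345 = v17394 :=
  Lgr Lrot2 (Lpr_gt (f759007 IH) (Lpe (f759000 IH) (Lpr_af (f759573 IH) (Lpn v17394))))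
theorem f759576 : Led Lsl_ff v5345 = v17394 :=
  Lgr Lrot3 (Lpr_ft (f759575 IH) (Lpn v17394))
def v17397 : LQ := Led Lsl_ft (LP (LK LD1_c6 LD2_c18 LD3_c38))
theorem f759584 : Led Lsl_ft (LP (LK LD1_c6 LD2_c18 LD3_c38)) = v17397 :=
  Lrfl
theorem f759586 : Led Lsl_ff (LP (LK LD1_c6 LD2_c18 LD3_c38)) = v17397 :=
  Lgr Lrot3 (Lpr_ft (f759584 IH) (Lpn v17397))
theorem f759587 : Led Lsl_at v5345 = v17397 :=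
  Lgr Lrot66 (Lpr_ff (f759576 IH) (Lpe (f759572 IH) (Lpr_ff (f759586 IH) (Lpn v17397))))
theorem f761454 : v17397 = v17369 :=
  (Llr Lrot26 (Lpe (f759587 IH) (Lpr_ff (f759576 IH) (Lpqs (f761453 IH) (Lpe (f758978 IH) (Lpr_gt (f758977 IH) (Lpn v17369))))))).symm
theorem f770212 : Led Lsl_ff v17396 = v18478 :=
  Lgr Lrot19 (Lpe (f759581 IH) (Lpr_ft (f759584 IH) (Lpqs (f761454 IH) (Lpr_dt (f770210 IH) (Lpn v18478)))))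
theorem f761452 : Led Lsl_at v17396 = v5477 :=
  Lgr Lrot100 (Lpr_af (f761446 IH) (Lpn v5477))
def v18477 : LQ := Led Lsl_gt (LP (LK LD1_c6 LD2_c29 LD3_c60))
theorem f767131 : Led Lsl_gt (LP (LK LD1_c6 LD2_c29 LD3_c60)) = v18477 :=
  Lrfl
theorem f770214 : v5477 = v18477 :=
  (Llr Lrot26 (Lpe (f761452 IH) (Lpr_ff (f770212 IH) (Lpe (f767133 IH) (Lpr_gt (f767131 IH) (Lpn v18477)))))).symm
def v4290 : LQ := Led Lsl_et (LP (LK LD1_c2 LD2_c18 LD3_c22))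
theorem f632434 : Led Lsl_et (LP (LK LD1_c2 LD2_c18 LD3_c22)) = v4290 :=
  Lrfl
theorem f632437 : Led Lsl_ff (LP (LK LD1_c6 LD2_c29 LD3_c60)) = v4290 :=
  Lgr Lrot72 (Lpr_et (f79776 IH) (Lpr_ft (K32.f504979 IH) (Lpr_et (K46.f82638 IH) (Lpr_ft (K35.f504657 IH) (Lpqs (K35.f504892 IH) (Lpr_et (f632434 IH) (Lpn v4290)))))))
theorem f632439 : Led Lsl_ft (LP (LK LD1_c6 LD2_c29 LD3_c60)) = v4290 :=
  Lgr Lrot48 (Lpr_ff (f632437 IH) (Lpn v4290))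
def v13268 : LQ := Led Lsl_et (LP (LK LD1_c4 LD2_c42 LD3_c6))
theorem f702035 : Led Lsl_et (LP (LK LD1_c4 LD2_c42 LD3_c6)) = v13268 :=
  Lrfl
theorem f702038 : Led Lsl_ef (LP (LK LD1_c4 LD2_c42 LD3_c6)) = v13268 :=
  Lgr Lrot88 (Lpr_et (f702035 IH) (Lpn v13268))
theorem f702039 : Led Lsl_at v4290 = v13268 :=
  Lgr Lrot80 (Lpe (f632434 IH) (Lpe (f494703 IH) (Lpr_ef (f702038 IH) (Lpn v13268))))
theorem f767132 : Led Lsl_gf v13268 = v18477 :=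
  Lgr Lrot76 (Lpe (f702039 IH) (Lpe (f632439 IH) (Lpr_gt (f767131 IH) (Lpn v18477))))
theorem f505412 : Led Lsl_af (LP (LK LD1_c2 LD2_c19 LD3_c32)) = (LP (LK LD1_c1 LD2_c32 LD3_c6)) :=
  Lgr Lrot45 (Lpr_ft (K41.f505212 IH) (Lpe (K41.f505220 IH) (Lpr_ft (K46.f505269 IH) (Lpn (LP (LK LD1_c1 LD2_c32 LD3_c6))))))
theorem f438421 : Led Lsl_bt (LP (LK LD1_c2 LD2_c19 LD3_c32)) = (LP (LK LD1_c4 LD2_c43 LD3_c33)) :=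
  Lre_b IH (LK LD1_c2 LD2_c19 LD3_c32) (LK LD1_c4 LD2_c43 LD3_c33) Lrfl Lrfl
theorem f505414 : Led Lsl_at (LP (LK LD1_c4 LD2_c43 LD3_c33)) = (LP (LK LD1_c9 LD2_c20 LD3_c20)) :=
  Lre_a IH (LK LD1_c4 LD2_c43 LD3_c33) (LK LD1_c9 LD2_c20 LD3_c20) Lrfl Lrfl
theorem f435361 : Led Lsl_bt (LP (LK LD1_c3 LD2_c11 LD3_c25)) = (LP (LK LD1_c1 LD2_c32 LD3_c6)) :=
  Lre_b IH (LK LD1_c3 LD2_c11 LD3_c25) (LK LD1_c1 LD2_c32 LD3_c6) Lrfl Lrfl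
theorem f505385 : Led Lsl_at (LP (LK LD1_c6 LD2_c27 LD3_c3)) = (LP (LK LD1_c3 LD2_c11 LD3_c25)) :=
  Lre_a IH (LK LD1_c6 LD2_c27 LD3_c3) (LK LD1_c3 LD2_c11 LD3_c25) Lrfl Lrfl
theorem f505415 : Led Lsl_bt (LP (LK LD1_c9 LD2_c20 LD3_c20)) = (LP (LK LD1_c6 LD2_c27 LD3_c3)) :=
  Lgr Lrot62 (Lpe (f505414 IH) (Lpe (f438421 IH) (Lpr_af (f505412 IH) (Lpe (f435361 IH) (Lpe (f505385 IH) (Lpn (LP (LK LD1_c6 LD2_c27 LD3_c3))))))))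
theorem f446034 : Led Lsl_dt (LP (LK LD1_c6 LD2_c27 LD3_c3)) = (LP (LK LD1_c12 LD2_c25 LD3_c51)) :=
  Lre_d IH (LK LD1_c6 LD2_c27 LD3_c3) (LK LD1_c12 LD2_c25 LD3_c51) Lrfl Lrfl
theorem f446028 : Led Lsl_at (LP (LK LD1_c6 LD2_c27 LD3_c5)) = (LP (LK LD1_c12 LD2_c25 LD3_c51)) :=
  Lre_a IH (LK LD1_c6 LD2_c27 LD3_c5) (LK LD1_c12 LD2_c25 LD3_c51) Lrfl Lrfl
theorem f446030 : Led Lsl_bt (LP (LK LD1_c12 LD2_c25 LD3_c51)) = (LP (LK LD1_c12 LD2_c29 LD3_c28)) :=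
  Lgr Lrot62 (Lpe (f446028 IH) (Lpe (K50.f446027 IH) (Lpr_af (K32.f445958 IH) (Lpe (K46.f446029 IH) (Lpe (f79811 IH) (Lpn (LP (LK LD1_c12 LD2_c29 LD3_c28))))))))
theorem f505419 : Led Lsl_df (LP (LK LD1_c9 LD2_c20 LD3_c20)) = (LP (LK LD1_c12 LD2_c29 LD3_c28)) :=
  Lgr Lrot12 (Lpr_bt (f505415 IH) (Lpr_dt (f446034 IH) (Lpr_bt (f446030 IH) (Lpn (LP (LK LD1_c12 LD2_c29 LD3_c28))))))
theorem f79783 : Led Lsl_at (LP (LK LD1_c6 LD2_c29 LD3_c53)) = (LP (LK LD1_c3 LD2_c12 LD3_c60)) :=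
  Lre_a IH (LK LD1_c6 LD2_c29 LD3_c53) (LK LD1_c3 LD2_c12 LD3_c60) Lrfl Lrfl
theorem f79784 : Led Lsl_at (LP (LK LD1_c3 LD2_c11 LD3_c29)) = (LP (LK LD1_c6 LD2_c27 LD3_c9)) :=
  Lre_a IH (LK LD1_c3 LD2_c11 LD3_c29) (LK LD1_c6 LD2_c27 LD3_c9) Lrfl Lrfl
theorem f79785 : Led Lsl_df (LP (LK LD1_c6 LD2_c29 LD3_c53)) = (LP (LK LD1_c6 LD2_c27 LD3_c9)) :=
  Lgr Lrot18 (Lpr_at (f79783 IH) (Lpr_dt (f79780 IH) (Lpr_at (f79784 IH) (Lpn (LP (LK LD1_c6 LD2_c27 LD3_c9))))))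
theorem f505424 : Led Lsl_ft (LP (LK LD1_c9 LD2_c20 LD3_c20)) = (LP (LK LD1_c6 LD2_c27 LD3_c9)) :=
  Lgr Lrot54 (Lpr_df (f505419 IH) (Lpe (f79804 IH) (Lpr_df (f79785 IH) (Lpn (LP (LK LD1_c6 LD2_c27 LD3_c9))))))
theorem f505426 : Led Lsl_ff (LP (LK LD1_c9 LD2_c20 LD3_c20)) = (LP (LK LD1_c6 LD2_c27 LD3_c9)) :=
  Lgr Lrot3 (Lpr_ft (f505424 IH) (Lpn (LP (LK LD1_c6 LD2_c27 LD3_c9))))
theorem f505421 : Led Lsl_at (LP (LK LD1_c9 LD2_c20 LD3_c20)) = (LP (LK LD1_c4 LD2_c43 LD3_c33)) :=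
  Lre_a IH (LK LD1_c9 LD2_c20 LD3_c20) (LK LD1_c4 LD2_c43 LD3_c33) Lrfl Lrfl
theorem f505428 : Led Lsl_ft (LP (LK LD1_c4 LD2_c43 LD3_c33)) = (LP (LK LD1_c3 LD2_c11 LD3_c29)) :=
  Lgr Lrot101 (Lpe (f505421 IH) (Lpr_ff (f505426 IH) (Lpe (f79784 IH) (Lpn (LP (LK LD1_c3 LD2_c11 LD3_c29))))))
theorem f505430 : Led Lsl_df (LP (LK LD1_c4 LD2_c43 LD3_c33)) = (LP (LK LD1_c6 LD2_c30 LD3_c1)) :=
  Lgr Lrot78 (Lpr_ft (f505428 IH) (Lpe (f79741 IH) (Lpr_ft (K32.f79792 IH) (Lpn (LP (LK LD1_c6 LD2_c30 LD3_c1))))))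
def v13377 : LQ := Led Lsl_gt (LP (LK LD1_c4 LD2_c43 LD3_c33))
theorem f702621 : Led Lsl_gt (LP (LK LD1_c4 LD2_c43 LD3_c33)) = v13377 :=
  Lrfl
def v17351 : LQ := Led Lsl_ft (LP (LK LD1_c6 LD2_c18 LD3_c6))
theorem f758887 : Led Lsl_ft (LP (LK LD1_c6 LD2_c18 LD3_c6)) = v17351 :=
  Lrfl
theorem f758890 : Led Lsl_ff (LP (LK LD1_c6 LD2_c18 LD3_c6)) = v17351 :=
  Lgr Lrot3 (Lpr_ft (f758887 IH) (Lpn v17351))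
theorem f759602 : Led Lsl_gt v17351 = v17403 :=
  Lgr Lrot5 (Lpe (f758890 IH) (Lpe (K4.f113877 IH) (Lpr_gf (f759601 IH) (Lpn v17403))))
theorem f702622 : Led Lsl_gf (LP (LK LD1_c6 LD2_c27 LD3_c9)) = v13377 :=
  Lgr Lrot76 (Lpe (f79784 IH) (Lpe (f505428 IH) (Lpr_gt (f702621 IH) (Lpn v13377))))
theorem f79800 : Led Lsl_dt (LP (LK LD1_c6 LD2_c29 LD3_c53)) = (LP (LK LD1_c6 LD2_c27 LD3_c9)) :=
  Lgr Lrot42 (Lpr_df (f79785 IH) (Lpn (LP (LK LD1_c6 LD2_c27 LD3_c9))))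
theorem f770017 : v17403 = (LP (LK LD1_c6 LD2_c27 LD3_c9)) :=
  Lefun (Lecon (Lfl_df (f769899 IH)) (f770013 IH)) (f79800 IH)
theorem f770022 : v17351 = v13377 :=
  Lefun (Lecon (Lfl_gt (f759602 IH)) (f770017 IH)) (f702622 IH)
theorem f758891 : Led Lsl_dt v5335 = v17351 :=
  Lgr Lrot60 (Lpe (f647153 IH) (Lpe (K7.f77914 IH) (Lpr_ff (f758890 IH) (Lpn v17351))))
theorem f438674 : Led Lsl_dt (LP (LK LD1_c4 LD2_c43 LD3_c25)) = (LP (LK LD1_c9 LD2_c20 LD3_c10)) :=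
  Lre_d IH (LK LD1_c4 LD2_c43 LD3_c25) (LK LD1_c9 LD2_c20 LD3_c10) Lrfl Lrfl
theorem f769804 : v17351 = (LP (LK LD1_c9 LD2_c20 LD3_c10)) :=
  Lefun (Lecon (f758891 IH) (f769794 IH)) (f438674 IH)
theorem f494704 : Led Lsl_at (LP (LK LD1_c2 LD2_c18 LD3_c22)) = (LP (LK LD1_c4 LD2_c42 LD3_c6)) :=
  Lre_a IH (LK LD1_c2 LD2_c18 LD3_c22) (LK LD1_c4 LD2_c42 LD3_c6) Lrfl Lrfl
theorem f506116 : Led Lsl_gt (LP (LK LD1_c3 LD2_c8 LD3_c24)) = (LP (LK LD1_c4 LD2_c42 LD3_c6)) :=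
  Lgr Lrot46 (Lpe (K57.f82639 IH) (Lpr_ft (K35.f504657 IH) (Lpqs (K35.f504892 IH) (Lpr_at (f494704 IH) (Lpn (LP (LK LD1_c4 LD2_c42 LD3_c6)))))))
theorem f67917 : Led Lsl_dt (LP (LK LD1_c12 LD2_c12 LD3_c41)) = (LP (LK LD1_c6 LD2_c18 LD3_c17)) :=
  Lre_d IH (LK LD1_c12 LD2_c12 LD3_c41) (LK LD1_c6 LD2_c18 LD3_c17) Lrfl Lrfl
theorem f759363 : Led Lsl_ff (LP (LK LD1_c12 LD2_c12 LD3_c41)) = (LP (LK LD1_c6 LD2_c18 LD3_c33)) :=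
  Lgr Lrot19 (Lpr_dt (f67917 IH) (Lpq (K57.f759125 IH) (Lpe (K57.f647192 IH) (Lpr_dt (f79675 IH) (Lpn (LP (LK LD1_c6 LD2_c18 LD3_c33)))))))
theorem f759365 : Led Lsl_at (LP (LK LD1_c12 LD2_c12 LD3_c41)) = (LP (LK LD1_c6 LD2_c18 LD3_c36)) :=
  Lgr Lrot66 (Lpr_ff (f759363 IH) (Lpe (f759361 IH) (Lpe (f759141 IH) (Lpn (LP (LK LD1_c6 LD2_c18 LD3_c36))))))
theorem f647160 : Led Lsl_gt (LP (LK LD1_c6 LD2_c18 LD3_c33)) = (LP (LK LD1_c12 LD2_c13 LD3_c3)) :=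
  Lre_g IH (LK LD1_c6 LD2_c18 LD3_c33) (LK LD1_c12 LD2_c13 LD3_c3) Lrfl Lrfl
theorem f759369 : Led Lsl_gf (LP (LK LD1_c6 LD2_c18 LD3_c36)) = (LP (LK LD1_c12 LD2_c13 LD3_c3)) :=
  Lgr Lrot76 (Lpe (f759365 IH) (Lpr_ff (f759363 IH) (Lpr_gt (f647160 IH) (Lpn (LP (LK LD1_c12 LD2_c13 LD3_c3))))))
theorem f770079 : Led Lsl_dt v13268 = (LP (LK LD1_c12 LD2_c13 LD3_c3)) :=
  Lgr Lrot136 (Lpe (f702038 IH) (Lpe (f506116 IH) (Lpq (f769929 IH) (Lpqs (f769809 IH) (Lpe (f702531 IH) (Lpr_dt (f438674 IH) (Lpq (f769804 IH) (Lpqs (f770022 IH) (Lpe (f702621 IH) (Lpr_df (f505430 IH) (Lpqs (f770018 IH) (Lpe (f759566 IH) (Lpe (f647185 IH) (Lpr_dt (f76641 IH) (Lpr_gf (f759369 IH) (Lpn (LP (LK LD1_c12 LD2_c13 LD3_c3))))))))))))))))))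
theorem f750512 : Led Lsl_ff (LP (LK LD1_c6 LD2_c21 LD3_c33)) = v16581 :=
  Lgr Lrot25 (Lpr_bt (K32.f82613 IH) (Lpr_ft (K46.f505101 IH) (Lpr_bt (f750508 IH) (Lpn v16581))))
theorem f82596 : Led Lsl_bt (LP (LK LD1_c3 LD2_c8 LD3_c35)) = (LP (LK LD1_c6 LD2_c21 LD3_c33)) :=
  Lre_b IH (LK LD1_c3 LD2_c8 LD3_c35) (LK LD1_c6 LD2_c21 LD3_c33) Lrfl Lrfl
theorem f82597 : Led Lsl_bt (LP (LK LD1_c4 LD2_c43 LD3_c51)) = (LP (LK LD1_c2 LD2_c19 LD3_c45)) :=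
  Lre_b IH (LK LD1_c4 LD2_c43 LD3_c51) (LK LD1_c2 LD2_c19 LD3_c45) Lrfl Lrfl
theorem f82598 : Led Lsl_dt (LP (LK LD1_c6 LD2_c21 LD3_c33)) = (LP (LK LD1_c4 LD2_c43 LD3_c51)) :=
  Lgr Lrot79 (Lpe (f82596 IH) (Lpr_df (K24.f82594 IH) (Lpe (f82597 IH) (Lpn (LP (LK LD1_c4 LD2_c43 LD3_c51))))))
theorem f82626 : Led Lsl_ft (LP (LK LD1_c4 LD2_c43 LD3_c51)) = (LP (LK LD1_c9 LD2_c20 LD3_c43)) :=
  Lre_f IH (LK LD1_c4 LD2_c43 LD3_c51) (LK LD1_c9 LD2_c20 LD3_c43) Lrfl Lrfl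
theorem f750513 : Led Lsl_dt (LP (LK LD1_c9 LD2_c20 LD3_c43)) = v16581 :=
  Lgr Lrot60 (Lpe (f82626 IH) (Lpe (f82598 IH) (Lpr_ff (f750512 IH) (Lpn v16581))))
theorem f770216 : v17670 = v16581 :=
  (Llr Lrot145 (Lpe (f761630 IH) (Lpe (f443901 IH) (Lpr_et (f647858 IH) (Lpqs (f770214 IH) (Lpe (f767132 IH) (Lpr_dt (f770079 IH) (Lpe (f759369 IH) (Lpe (f76641 IH) (Lpr_et (f647185 IH) (Lpr_gt (f759566 IH) (Lpq (f770018 IH) (Lpr_ef (K46.f504995 IH) (Lpr_dt (f750513 IH) (Lpn v16581))))))))))))))).symm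
theorem f707746 : Led Lsl_bt (LP (LK LD1_c12 LD2_c16 LD3_c25)) = (LP (LK LD1_c6 LD2_c21 LD3_c13)) :=
  Lre_b IH (LK LD1_c12 LD2_c16 LD3_c25) (LK LD1_c6 LD2_c21 LD3_c13) Lrfl Lrfl
theorem f703319 : Led Lsl_ct (LP (LK LD1_c12 LD2_c16 LD3_c25)) = (LP (LK LD1_c21 LD2_c21 LD3_c36)) :=
  Lre_c IH (LK LD1_c12 LD2_c16 LD3_c25) (LK LD1_c21 LD2_c21 LD3_c36) Lrfl Lrfl
theorem f770234 : Led Lsl_gf (LP (LK LD1_c12 LD2_c50 LD3_c37)) = (LP (LK LD1_c21 LD2_c21 LD3_c36)) :=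
  Lgr Lrot126 (Lpe (f25448 IH) (Lpr_bt (f25445 IH) (Lpr_gt (K46.f25438 IH) (Lpr_ct (K52.f25444 IH) (Lpr_gt (K52.f505604 IH) (Lpe (K46.f505579 IH) (Lpr_bt (f750508 IH) (Lpq (f770216 IH) (Lpe (f761630 IH) (Lpe (f707746 IH) (Lpr_ct (f703319 IH) (Lpn (LP (LK LD1_c21 LD2_c21 LD3_c36))))))))))))))
theorem f770235 : Led Lsl_gt (LP (LK LD1_c21 LD2_c21 LD3_c36)) = (LP (LK LD1_c12 LD2_c50 LD3_c37)) :=
  Leop (Lpr_gf (f770234 IH) (Lpn (LP (LK LD1_c21 LD2_c21 LD3_c36))))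
theorem seed_1283 : LEOK LG_g (LK LD1_c21 LD2_c21 LD3_c36) :=
  Leoe_g (LK LD1_c21 LD2_c21 LD3_c36) (f770235 IH)
theorem f770211 : Led Lsl_df v17369 = v18478 :=
  Lgr Lrot38 (Lpr_dt (f770210 IH) (Lpn v18478))
theorem f67434 : Led Lsl_at (LP (LK LD1_c3 LD2_c6 LD3_c32)) = (LP (LK LD1_c6 LD2_c18 LD3_c18)) :=
  Lre_a IH (LK LD1_c3 LD2_c6 LD3_c32) (LK LD1_c6 LD2_c18 LD3_c18) Lrfl Lrfl
theorem f758992 : Led Lsl_af (LP (LK LD1_c6 LD2_c18 LD3_c40)) = v17372 :=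
  Lgr Lrot45 (Lpr_ft (K2.f67690 IH) (Lpr_at (f67434 IH) (Lpr_ft (f758991 IH) (Lpn v17372))))
theorem f758996 : Led Lsl_gt v17369 = (LP (LK LD1_c6 LD2_c18 LD3_c40)) :=
  Lgr Lrot46 (Lpe (f758977 IH) (Lpr_ft (f758991 IH) (Lpe (f758992 IH) (Lpn (LP (LK LD1_c6 LD2_c18 LD3_c40))))))
theorem f78181 : Led Lsl_dt (LP (LK LD1_c6 LD2_c18 LD3_c33)) = (LP (LK LD1_c3 LD2_c6 LD3_c30)) :=
  Lre_d IH (LK LD1_c6 LD2_c18 LD3_c33) (LK LD1_c3 LD2_c6 LD3_c30) Lrfl Lrfl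
theorem f766856 : Led Lsl_df v17385 = v18412 :=
  Lgr Lrot70 (Lpe (f759552 IH) (Lpr_dt (f78181 IH) (Lpr_et (K57.f647186 IH) (Lpe (K57.f647188 IH) (Lpr_et (f766853 IH) (Lpn v18412))))))
def v18456 : LQ := Led Lsl_et (LP (LK LD1_c6 LD2_c29 LD3_c52))
theorem f767057 : Led Lsl_et (LP (LK LD1_c6 LD2_c29 LD3_c52)) = v18456 :=
  Lrfl
theorem f767058 : Led Lsl_af (LP (LK LD1_c6 LD2_c29 LD3_c60)) = v18456 :=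
  Lgr Lrot50 (Lpr_et (f79776 IH) (Lpr_at (f504976 IH) (Lpr_et (f767057 IH) (Lpn v18456))))
theorem f767062 : Led Lsl_ff v13268 = v18456 :=
  Lgr Lrot72 (Lpe (f702038 IH) (Lpe (K46.f506056 IH) (Lpr_et (K46.f647885 IH) (Lpe (f647894 IH) (Lpr_et (f767057 IH) (Lpn v18456))))))
theorem f767065 : Led Lsl_ft v13268 = v18456 :=
  Lgr Lrot48 (Lpr_ff (f767062 IH) (Lpn v18456))
theorem f767134 : Led Lsl_gt v13268 = v18478 :=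
  Lgr Lrot5 (Lpr_ft (f767065 IH) (Lpe (f767058 IH) (Lpr_gf (f767133 IH) (Lpn v18478))))
theorem f82643 : Led Lsl_gt (LP (LK LD1_c3 LD2_c8 LD3_c27)) = (LP (LK LD1_c6 LD2_c21 LD3_c30)) :=
  Lre_g IH (LK LD1_c3 LD2_c8 LD3_c27) (LK LD1_c6 LD2_c21 LD3_c30) Lrfl Lrfl
theorem f506038 : Led Lsl_gt (LP (LK LD1_c6 LD2_c21 LD3_c30)) = (LP (LK LD1_c9 LD2_c18 LD3_c35)) :=
  Lgr Lrot46 (Lpe (f82643 IH) (Lpr_ft (K46.f506031 IH) (Lpr_at (K46.f506035 IH) (Lpn (LP (LK LD1_c9 LD2_c18 LD3_c35))))))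
theorem f770248 : v17385 = (LP (LK LD1_c6 LD2_c21 LD3_c30)) :=
  (Llr Lrot136 (Lpr_df (f766856 IH) (Lpe (f766857 IH) (Lpe (K57.f61483 IH) (Lpr_ef (K51.f76620 IH) (Lpr_dt (K2.f76634 IH) (Lpe (f758996 IH) (Lpr_df (f770211 IH) (Lpe (f767134 IH) (Lpe (f702035 IH) (Lpr_dt (f506044 IH) (Lpe (f506038 IH) (Lpn (LP (LK LD1_c6 LD2_c21 LD3_c30))))))))))))))).symm
def v17702 : LQ := Led Lsl_bt (LP (LK LD1_c6 LD2_c21 LD3_c30))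
theorem f761806 : Led Lsl_bt (LP (LK LD1_c6 LD2_c21 LD3_c30)) = v17702 :=
  Lrfl
theorem f761807 : Led Lsl_bf (LP (LK LD1_c6 LD2_c21 LD3_c30)) = v17702 :=
  Lgr Lrot24 (Lpr_bt (f761806 IH) (Lpn v17702))
def v17380 : LQ := Led Lsl_dt (LP (LK LD1_c6 LD2_c18 LD3_c31))
theorem f759033 : Led Lsl_dt (LP (LK LD1_c6 LD2_c18 LD3_c31)) = v17380 :=
  Lrfl
theorem f759035 : Led Lsl_df (LP (LK LD1_c6 LD2_c18 LD3_c31)) = v17380 :=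
  Lgr Lrot38 (Lpr_dt (f759033 IH) (Lpn v17380))
theorem f759036 : Led Lsl_bt (LP (LK LD1_c6 LD2_c18 LD3_c33)) = v17380 :=
  Lgr Lrot95 (Lpe (f79675 IH) (Lpe (K51.f76651 IH) (Lpr_df (f759035 IH) (Lpn v17380))))
theorem f770276 : Led Lsl_ef v17702 = v17380 :=
  Lgr Lrot29 (Lpe (f761807 IH) (Lpq (f770248 IH) (Lpe (f759552 IH) (Lpr_bt (f759036 IH) (Lpn v17380)))))
def v18321 : LQ := Led Lsl_dt (LP (LK LD1_c6 LD2_c28 LD3_c31))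
theorem f766331 : Led Lsl_dt (LP (LK LD1_c6 LD2_c28 LD3_c31)) = v18321 :=
  Lrfl
theorem f766334 : Led Lsl_df (LP (LK LD1_c6 LD2_c28 LD3_c31)) = v18321 :=
  Lgr Lrot38 (Lpr_dt (f766331 IH) (Lpn v18321))
theorem f128642 : Led Lsl_et (LP (LK LD1_c3 LD2_c12 LD3_c14)) = (LP (LK LD1_c6 LD2_c28 LD3_c31)) :=
  Lre_e IH (LK LD1_c3 LD2_c12 LD3_c14) (LK LD1_c6 LD2_c28 LD3_c31) Lrfl Lrfl
def v13118 : LQ := Led Lsl_dt (LP (LK LD1_c4 LD2_c40 LD3_c9))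
theorem f701197 : Led Lsl_dt (LP (LK LD1_c4 LD2_c40 LD3_c9)) = v13118 :=
  Lrfl
theorem f701201 : Led Lsl_df (LP (LK LD1_c4 LD2_c40 LD3_c9)) = v13118 :=
  Lgr Lrot38 (Lpr_dt (f701197 IH) (Lpn v13118))
theorem f766335 : Led Lsl_ef v13118 = v18321 :=
  Lgr Lrot73 (Lpe (f701201 IH) (Lpr_et (K5.f61657 IH) (Lpr_dt (K7.f128570 IH) (Lpr_et (f128642 IH) (Lpr_dt (f766331 IH) (Lpn v18321))))))
theorem f66791 : Led Lsl_et (LP (LK LD1_c2 LD2_c17 LD3_c9)) = (LP (LK LD1_c1 LD2_c5 LD3_c30)) :=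
  Lre_e IH (LK LD1_c2 LD2_c17 LD3_c9) (LK LD1_c1 LD2_c5 LD3_c30) Lrfl Lrfl
theorem f701205 : Led Lsl_gt (LP (LK LD1_c4 LD2_c40 LD3_c12)) = v13118 :=
  Lgr Lrot112 (Lpe (K5.f66790 IH) (Lpr_et (f66791 IH) (Lpe (K4.f77803 IH) (Lpe (K5.f125271 IH) (Lpr_dt (K3.f91444 IH) (Lpr_gf (K3.f98881 IH) (Lpe (K2.f77801 IH) (Lpr_gf (K4.f110357 IH) (Lpe (K5.f61657 IH) (Lpr_dt (f701197 IH) (Lpn v13118)))))))))))
def v13120 : LQ := Led Lsl_dt (LP (LK LD1_c4 LD2_c40 LD3_c10))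
theorem f701210 : Led Lsl_dt (LP (LK LD1_c4 LD2_c40 LD3_c10)) = v13120 :=
  Lrfl
theorem f701214 : Led Lsl_ef (LP (LK LD1_c4 LD2_c40 LD3_c12)) = v13120 :=
  Lgr Lrot73 (Lpr_dt (K7.f66774 IH) (Lpr_et (f66791 IH) (Lpr_dt (K3.f13670 IH) (Lpr_et (K5.f77807 IH) (Lpr_dt (f701210 IH) (Lpn v13120))))))
theorem f701213 : Led Lsl_df (LP (LK LD1_c4 LD2_c40 LD3_c10)) = v13120 :=
  Lgr Lrot38 (Lpr_dt (f701210 IH) (Lpn v13120))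
def v13119 : LQ := Led Lsl_gf (LP (LK LD1_c4 LD2_c40 LD3_c10))
theorem f701209 : Led Lsl_gf (LP (LK LD1_c4 LD2_c40 LD3_c10)) = v13119 :=
  Lrfl
theorem f758142 : Led Lsl_gf v13119 = v17283 :=
  Lgr Lrot47 (Lpe (f701209 IH) (Lpe (K5.f115012 IH) (Lpr_ff (f758136 IH) (Lpn v17283))))
theorem f769949 : v13119 = (LP (LK LD1_c3 LD2_c7 LD3_c56)) :=
  Lefun (Lecon (Lfl_gf (f758142 IH)) ((f769935 IH).trans (K57.f760042 IH))) (K57.f647621 IH)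
theorem f647678 : Led Lsl_dt (LP (LK LD1_c6 LD2_c20 LD3_c47)) = (LP (LK LD1_c3 LD2_c7 LD3_c56)) :=
  Lre_d IH (LK LD1_c6 LD2_c20 LD3_c47) (LK LD1_c3 LD2_c7 LD3_c56) Lrfl Lrfl
theorem f647679 : Led Lsl_gt (LP (LK LD1_c12 LD2_c15 LD3_c49)) = (LP (LK LD1_c6 LD2_c20 LD3_c47)) :=
  Lre_g IH (LK LD1_c12 LD2_c15 LD3_c49) (LK LD1_c6 LD2_c20 LD3_c47) Lrfl Lrfl
theorem f770283 : v17702 = (LP (LK LD1_c12 LD2_c15 LD3_c49)) :=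
  (Llr Lrot121 (Lpr_ef (f770276 IH) (Lpe (f759035 IH) (Lpr_gf (K51.f708877 IH) (Lpr_df (f766334 IH) (Lpe (f766335 IH) (Lpe (f701205 IH) (Lpr_ef (f701214 IH) (Lpe (f701213 IH) (Lpr_gf (f701209 IH) (Lpqs (f769949 IH) (Lpe (f647678 IH) (Lpe (f647679 IH) (Lpn (LP (LK LD1_c12 LD2_c15 LD3_c49)))))))))))))))).symm
theorem f770284 : Led Lsl_bt (LP (LK LD1_c12 LD2_c15 LD3_c49)) = (LP (LK LD1_c6 LD2_c21 LD3_c30)) :=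
  Leop (Lpr_bf (f761807 IH) (Lpqs (f770283 IH) (Lpn (LP (LK LD1_c12 LD2_c15 LD3_c49)))))
theorem seed_1284 : LEOK LG_b (LK LD1_c12 LD2_c15 LD3_c49) :=
  Leoe_b (LK LD1_c12 LD2_c15 LD3_c49) (f770284 IH)
theorem f82627 : Led Lsl_gt (LP (LK LD1_c9 LD2_c20 LD3_c42)) = (LP (LK LD1_c4 LD2_c43 LD3_c51)) :=
  Lre_g IH (LK LD1_c9 LD2_c20 LD3_c42) (LK LD1_c4 LD2_c43 LD3_c51) Lrfl Lrfl
theorem f76638 : Led Lsl_gt (LP (LK LD1_c3 LD2_c6 LD3_c30)) = (LP (LK LD1_c6 LD2_c18 LD3_c19)) :=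
  Lre_g IH (LK LD1_c3 LD2_c6 LD3_c30) (LK LD1_c6 LD2_c18 LD3_c19) Lrfl Lrfl
theorem f76637 : Led Lsl_ft (LP (LK LD1_c6 LD2_c18 LD3_c19)) = (LP (LK LD1_c3 LD2_c6 LD3_c24)) :=
  Lre_f IH (LK LD1_c6 LD2_c18 LD3_c19) (LK LD1_c3 LD2_c6 LD3_c24) Lrfl Lrfl
theorem f758994 : Led Lsl_df (LP (LK LD1_c6 LD2_c18 LD3_c19)) = v17372 :=
  Lgr Lrot78 (Lpr_ft (f76637 IH) (Lpr_dt (f68060 IH) (Lpr_ft (f758991 IH) (Lpn v17372))))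
theorem f761331 : Led Lsl_ff (LP (LK LD1_c6 LD2_c21 LD3_c6)) = K57.v17658 :=
  Lgr Lrot3 (Lpr_ft (K57.f761326 IH) (Lpn K57.v17658))
theorem f77106 : Led Lsl_et (LP (LK LD1_c6 LD2_c21 LD3_c6)) = (LP (LK LD1_c3 LD2_c11 LD3_c49)) :=
  Lgr Lrot123 (Lpe (K6.f77105 IH) (Lpr_ef (K2.f77103 IH) (Lpe (K5.f67661 IH) (Lpn (LP (LK LD1_c3 LD2_c11 LD3_c49))))))
theorem f761337 : Led Lsl_et v17372 = K57.v17658 :=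
  Lgr Lrot69 (Lpe (f758991 IH) (Lpe (f67900 IH) (Lpr_ff (K5.f67685 IH) (Lpe (f77106 IH) (Lpr_ff (f761331 IH) (Lpn K57.v17658))))))
theorem f77625 : Led Lsl_at (LP (LK LD1_c6 LD2_c21 LD3_c6)) = (LP (LK LD1_c3 LD2_c8 LD3_c18)) :=
  Lre_a IH (LK LD1_c6 LD2_c21 LD3_c6) (LK LD1_c3 LD2_c8 LD3_c18) Lrfl Lrfl
theorem f761338 : Led Lsl_gf (LP (LK LD1_c6 LD2_c21 LD3_c15)) = K57.v17658 :=
  Lgr Lrot47 (Lpr_gt (K57.f77121 IH) (Lpe (f77625 IH) (Lpr_ff (f761331 IH) (Lpn K57.v17658))))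
theorem f770303 : (LP (LK LD1_c9 LD2_c20 LD3_c42)) = K57.v17676 :=
  (Llr Lrot134 (Lpr_gt (f82627 IH) (Lpe (f82598 IH) (Lpr_et (K32.f82619 IH) (Lpr_gt (f82643 IH) (Lpq (f770248 IH) (Lpe (f759551 IH) (Lpr_dt (f78181 IH) (Lpr_gt (f76638 IH) (Lpr_df (f758994 IH) (Lpr_et (f761337 IH) (Lpe (f761338 IH) (Lpr_dt (K57.f761664 IH) (Lpn K57.v17676)))))))))))))).symm
theorem f770304 : Led Lsl_at (LP (LK LD1_c9 LD2_c20 LD3_c42)) = (LP (LK LD1_c6 LD2_c29 LD3_c30)) :=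
  Leop (Lpr_af (K57.f761669 IH) (Lpq (f770303 IH) (Lpn (LP (LK LD1_c9 LD2_c20 LD3_c42)))))
theorem seed_1285 : LEOK LG_a (LK LD1_c9 LD2_c20 LD3_c42) :=
  Leoe_a (LK LD1_c9 LD2_c20 LD3_c42) (f770304 IH)
def v18202 : LQ := Led Lsl_ft (LP (LK LD1_c6 LD2_c27 LD3_c11))
theorem f765488 : Led Lsl_ft (LP (LK LD1_c6 LD2_c27 LD3_c11)) = v18202 :=
  Lrfl
theorem f770318 : Led Lsl_at v18202 = (LP (LK LD1_c12 LD2_c13 LD3_c3)) :=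
  Lgr Lrot26 (Lpe (f765488 IH) (Lpqs (f770073 IH) (Lpe (f759549 IH) (Lpr_gt (f647160 IH) (Lpn (LP (LK LD1_c12 LD2_c13 LD3_c3)))))))
theorem f765491 : Led Lsl_ff (LP (LK LD1_c6 LD2_c27 LD3_c11)) = v18202 :=
  Lgr Lrot3 (Lpr_ft (f765488 IH) (Lpn v18202))
theorem f505222 : Led Lsl_at (LP (LK LD1_c2 LD2_c19 LD3_c33)) = (LP (LK LD1_c1 LD2_c32 LD3_c7)) :=
  Lgr Lrot100 (Lpr_af (K41.f505220 IH) (Lpn (LP (LK LD1_c1 LD2_c32 LD3_c7))))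
theorem f632758 : Led Lsl_at (LP (LK LD1_c3 LD2_c11 LD3_c31)) = K35.v4336 :=
  Lgr Lrot80 (Lpe (K32.f79749 IH) (Lpe (f505222 IH) (Lpr_ef (K46.f632747 IH) (Lpn K35.v4336))))
theorem f647996 : Led Lsl_ff (LP (LK LD1_c3 LD2_c11 LD3_c31)) = K49.v5505 :=
  Lgr Lrot30 (Lpr_at (f632758 IH) (Lpe (K46.f632752 IH) (Lpr_at (K49.f647992 IH) (Lpn K49.v5505))))
theorem f648000 : Led Lsl_ft (LP (LK LD1_c3 LD2_c11 LD3_c31)) = K49.v5505 :=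
  Lgr Lrot48 (Lpr_ff (f647996 IH) (Lpn K49.v5505))
theorem f765492 : Led Lsl_bt K49.v5505 = v18202 :=
  Lgr Lrot35 (Lpe (f648000 IH) (Lpe (f79760 IH) (Lpr_ff (f765491 IH) (Lpn v18202))))
theorem f505190 : Led Lsl_bt (LP (LK LD1_c6 LD2_c22 LD3_c0)) = (LP (LK LD1_c3 LD2_c8 LD3_c47)) :=
  Lre_b IH (LK LD1_c6 LD2_c22 LD3_c0) (LK LD1_c3 LD2_c8 LD3_c47) Lrfl Lrfl
theorem f647994 : Led Lsl_at (LP (LK LD1_c12 LD2_c17 LD3_c27)) = (LP (LK LD1_c6 LD2_c22 LD3_c0)) :=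
  Lre_a IH (LK LD1_c12 LD2_c17 LD3_c27) (LK LD1_c6 LD2_c22 LD3_c0) Lrfl Lrfl
theorem f770320 : Led Lsl_bf (LP (LK LD1_c12 LD2_c17 LD3_c27)) = (LP (LK LD1_c12 LD2_c13 LD3_c3)) :=
  Lgr Lrot81 (Lpr_at (f647994 IH) (Lpr_bt (f505190 IH) (Lpr_at (K49.f647992 IH) (Lpr_bt (f765492 IH) (Lpr_at (f770318 IH) (Lpn (LP (LK LD1_c12 LD2_c13 LD3_c3))))))))
theorem f770321 : Led Lsl_bt (LP (LK LD1_c12 LD2_c13 LD3_c3)) = (LP (LK LD1_c12 LD2_c17 LD3_c27)) :=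
  Leop (Lpr_bf (f770320 IH) (Lpn (LP (LK LD1_c12 LD2_c13 LD3_c3))))
theorem seed_1286 : LEOK LG_b (LK LD1_c12 LD2_c13 LD3_c3) :=
  Leoe_b (LK LD1_c12 LD2_c13 LD3_c3) (f770321 IH)
def v8324 : LQ := Led Lsl_bt v1986
theorem f670809 : Led Lsl_bt v1986 = v8324 :=
  Lrfl
theorem f670810 : Led Lsl_bf v1986 = v8324 :=
  Lgr Lrot24 (Lpr_bt (f670809 IH) (Lpn v8324))
theorem f23319 : Led Lsl_bt (LP (LK LD1_c1 LD2_c32 LD3_c22)) = (LP (LK LD1_c1 LD2_c7 LD3_c38)) :=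
  Lgr Lrot95 (Lpe (K49.f13461 IH) (Lpr_bf (K0.f23308 IH) (Lpe (K3.f23318 IH) (Lpn (LP (LK LD1_c1 LD2_c7 LD3_c38))))))
def v1344 : LQ := Led Lsl_et (LP (LK LD1_c1 LD2_c7 LD3_c38))
theorem f494998 : Led Lsl_et (LP (LK LD1_c1 LD2_c7 LD3_c38)) = v1344 :=
  Lrfl
theorem f506628 : Led Lsl_bt v1344 = v1963 :=
  Lgr Lrot119 (Lpe (f494998 IH) (Lpe (f23319 IH) (Lpr_ef (f506627 IH) (Lpn v1963))))
def v7876 : LQ := Led Lsl_ft v1344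
theorem f668836 : Led Lsl_ft v1344 = v7876 :=
  Lrfl
theorem f668837 : Led Lsl_ff v1344 = v7876 :=
  Lgr Lrot3 (Lpr_ft (f668836 IH) (Lpn v7876))
theorem f670645 : Led Lsl_bf v7876 = v8282 :=
  Lgr Lrot61 (Lpe (f668837 IH) (Lpr_bt (f506628 IH) (Lpr_ft (f670644 IH) (Lpn v8282))))
theorem f770127 : Led Lsl_ef v8324 = v7876 :=
  Lgr Lrot29 (Lpe (f670810 IH) (Lpq (f770124 IH) (Lpr_et (f670649 IH) (Lpe (f670645 IH) (Lpn v7876)))))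
theorem f770370 : Led Lsl_ff v4387 = v8324 :=
  Lgr Lrot72 (Lpe (f633089 IH) (Lpr_ft (K4.f103196 IH) (Lpr_et (f494998 IH) (Lpr_ft (f668836 IH) (Lpe (f770127 IH) (Lpn v8324))))))
theorem f23322 : Led Lsl_et (LP (LK LD1_c1 LD2_c7 LD3_c39)) = (LP (LK LD1_c0 LD2_c31 LD3_c2)) :=
  Lre_e IH (LK LD1_c1 LD2_c7 LD3_c39) (LK LD1_c0 LD2_c31 LD3_c2) Lrfl Lrfl
theorem f102293 : Led Lsl_ef (LP (LK LD1_c1 LD2_c7 LD3_c30)) = (LP (LK LD1_c1 LD2_c7 LD3_c30)) :=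
  Lgr Lrot21 (Lpr_ft (K4.f23325 IH) (Lpr_et (K5.f102292 IH) (Lpr_ft (K7.f102282 IH) (Lpr_et (f23322 IH) (Lpr_ft (K3.f98835 IH) (Lpn (LP (LK LD1_c1 LD2_c7 LD3_c30))))))))
theorem f633093 : Led Lsl_dt v4387 = v4387 :=
  Lgr Lrot77 (Lpe (f633085 IH) (Lpe (K4.f102296 IH) (Lpr_ef (f102293 IH) (Lpe (K4.f79313 IH) (Lpr_ef (f633089 IH) (Lpn v4387))))))
theorem f767696 : Led Lsl_df v8324 = v8324 :=
  Lgr Lrot12 (Lpe (f670810 IH) (Lpq (f767694 IH) (Lpe (f670814 IH) (Lpr_bt (f670809 IH) (Lpn v8324)))))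
theorem f770373 : Led Lsl_ft v4387 = v8324 :=
  Lgr Lrot54 (Lpe (f633093 IH) (Lpr_ff (f770370 IH) (Lpr_df (f767696 IH) (Lpn v8324))))
theorem f58266 : Led Lsl_et (LP (LK LD1_c4 LD2_c40 LD3_c34)) = (LP (LK LD1_c2 LD2_c17 LD3_c21)) :=
  Lre_e IH (LK LD1_c4 LD2_c40 LD3_c34) (LK LD1_c2 LD2_c17 LD3_c21) Lrfl Lrfl
theorem f633088 : Led Lsl_cf (LP (LK LD1_c4 LD2_c40 LD3_c34)) = v4387 :=
  Lgr Lrot39 (Lpr_et (f58266 IH) (Lpe (K5.f110346 IH) (Lpr_et (f633085 IH) (Lpn v4387))))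
theorem f110677 : Led Lsl_ct (LP (LK LD1_c9 LD2_c16 LD3_c30)) = (LP (LK LD1_c17 LD2_c11 LD3_c10)) :=
  Lre_c IH (LK LD1_c9 LD2_c16 LD3_c30) (LK LD1_c17 LD2_c11 LD3_c10) Lrfl Lrfl
theorem f98850 : Led Lsl_et (LP (LK LD1_c1 LD2_c7 LD3_c33)) = (LP (LK LD1_c2 LD2_c20 LD3_c27)) :=
  Lre_e IH (LK LD1_c1 LD2_c7 LD3_c33) (LK LD1_c2 LD2_c20 LD3_c27) Lrfl Lrfl
theorem f633090 : Led Lsl_at (LP (LK LD1_c2 LD2_c20 LD3_c27)) = v4387 :=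
  Lgr Lrot80 (Lpe (f98850 IH) (Lpe (K3.f98906 IH) (Lpr_ef (f633089 IH) (Lpn v4387))))
theorem f633113 : Led Lsl_ff (LP (LK LD1_c2 LD2_c20 LD3_c27)) = v4393 :=
  Lgr Lrot3 (Lpr_ft (f633112 IH) (Lpn v4393))
theorem f770374 : Led Lsl_af v4393 = v8324 :=
  Lgr Lrot45 (Lpe (f633113 IH) (Lpr_at (f633090 IH) (Lpr_ft (f770373 IH) (Lpn v8324))))
theorem f102324 : Led Lsl_ct (LP (LK LD1_c2 LD2_c20 LD3_c27)) = (LP (LK LD1_c4 LD2_c44 LD3_c39)) :=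
  Lre_c IH (LK LD1_c2 LD2_c20 LD3_c27) (LK LD1_c4 LD2_c44 LD3_c39) Lrfl Lrfl
theorem f703390 : Led Lsl_cf v4393 = v13507 :=
  Lgr Lrot108 (Lpe (f633113 IH) (Lpr_ct (f102324 IH) (Lpr_ft (f703388 IH) (Lpn v13507))))
theorem f768207 : Led Lsl_dt (LP (LK LD1_c12 LD2_c32 LD3_c32)) = (LP (LK LD1_c6 LD2_c32 LD3_c29)) :=
  Lre_d IH (LK LD1_c12 LD2_c32 LD3_c32) (LK LD1_c6 LD2_c32 LD3_c29) Lrfl Lrfl
theorem f768221 : Led Lsl_ct (LP (LK LD1_c21 LD2_c38 LD3_c28)) = (LP (LK LD1_c12 LD2_c32 LD3_c32)) :=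
  Lre_c IH (LK LD1_c21 LD2_c38 LD3_c28) (LK LD1_c12 LD2_c32 LD3_c32) Lrfl Lrfl
theorem f770375 : Led Lsl_dt (LP (LK LD1_c17 LD2_c11 LD3_c10)) = (LP (LK LD1_c21 LD2_c38 LD3_c28)) :=
  Lgr Lrot140 (Lpe (f110677 IH) (Lpe (K42.f58267 IH) (Lpr_cf (f633088 IH) (Lpe (f633093 IH) (Lpr_ft (f770373 IH) (Lpe (f770374 IH) (Lpr_cf (f703390 IH) (Lpq (f769999 IH) (Lpe (f768207 IH) (Lpe (f768221 IH) (Lpn (LP (LK LD1_c21 LD2_c38 LD3_c28)))))))))))))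
theorem f770376 : Led Lsl_dt (LP (LK LD1_c17 LD2_c11 LD3_c10)) = (LP (LK LD1_c21 LD2_c38 LD3_c28)) :=
  Leop (Lpe (f770375 IH) (Lpn (LP (LK LD1_c17 LD2_c11 LD3_c10))))
theorem seed_1287 : LEOK LG_d (LK LD1_c17 LD2_c11 LD3_c10) :=
  Leoe_d (LK LD1_c17 LD2_c11 LD3_c10) (f770376 IH)
def v2019 : LQ := Led Lsl_gf (LP (LK LD1_c1 LD2_c33 LD3_c43))
def v8389 : LQ := Led Lsl_dt v2019
theorem f671087 : Led Lsl_dt v2019 = v8389 :=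
  Lrfl
theorem f671088 : Led Lsl_df v2019 = v8389 :=
  Lgr Lrot38 (Lpr_dt (f671087 IH) (Lpn v8389))
theorem f102322 : Led Lsl_df (LP (LK LD1_c2 LD2_c20 LD3_c27)) = (LP (LK LD1_c2 LD2_c20 LD3_c27)) :=
  Lgr Lrot70 (Lpr_et (f102321 IH) (Lpr_dt (K3.f98849 IH) (Lpr_et (K3.f99102 IH) (Lpr_dt (K3.f98838 IH) (Lpr_et (f98850 IH) (Lpn (LP (LK LD1_c2 LD2_c20 LD3_c27))))))))
theorem f633114 : Led Lsl_dt v4393 = v4393 :=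
  Lgr Lrot60 (Lpe (f633112 IH) (Lpr_df (f102322 IH) (Lpr_ff (f633113 IH) (Lpn v4393))))
theorem f506917 : Led Lsl_gf (LP (LK LD1_c1 LD2_c33 LD3_c43)) = v2019 :=
  Lrfl
theorem f770409 : v8389 = v2019 :=
  (Llr Lrot155 (Lpe (f671088 IH) (Lpe (f506917 IH) (Lpr_ct (f151949 IH) (Lpr_gt (f443015 IH) (Lpqs (f769999 IH) (Lpe (f703390 IH) (Lpr_dt (f633114 IH) (Lpr_cf (f703390 IH) (Lpq (f769999 IH) (Lpe (f443015 IH) (Lpe (f151949 IH) (Lpr_gf (f506917 IH) (Lpn v2019)))))))))))))).symm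
def v1332 : LQ := Led Lsl_bt (LP (LK LD1_c1 LD2_c7 LD3_c22))
def v7852 : LQ := Led Lsl_at v1332
theorem f668721 : Led Lsl_at v1332 = v7852 :=
  Lrfl
def v2021 : LQ := Led Lsl_ft (LP (LK LD1_c1 LD2_c33 LD3_c43))
theorem f506924 : Led Lsl_ft (LP (LK LD1_c1 LD2_c33 LD3_c43)) = v2021 :=
  Lrfl
theorem f506927 : Led Lsl_ff (LP (LK LD1_c1 LD2_c33 LD3_c43)) = v2021 :=
  Lgr Lrot3 (Lpr_ft (f506924 IH) (Lpn v2021))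
theorem f506930 : Led Lsl_bt K35.v511 = v2021 :=
  Lgr Lrot35 (Lpe (K35.f453711 IH) (Lpe (f151944 IH) (Lpr_ff (f506927 IH) (Lpn v2021))))
theorem f494888 : Led Lsl_bt (LP (LK LD1_c1 LD2_c7 LD3_c22)) = v1332 :=
  Lrfl
theorem f507041 : v2021 = v1332 :=
  Lefun (Lecon (f506930 IH) (K35.f507036 IH).symm) (f494888 IH)
def v2020 : LQ := Led Lsl_at (LP (LK LD1_c1 LD2_c33 LD3_c43))
theorem f506921 : Led Lsl_at (LP (LK LD1_c1 LD2_c33 LD3_c43)) = v2020 :=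
  Lrfl
theorem f506922 : Led Lsl_af (LP (LK LD1_c1 LD2_c33 LD3_c43)) = v2020 :=
  Lgr Lrot0 (Lpr_at (f506921 IH) (Lpn v2020))
theorem f668725 : Led Lsl_ff v2020 = v7852 :=
  Lgr Lrot30 (Lpe (f506922 IH) (Lpr_ft (f506924 IH) (Lpqs (f507041 IH) (Lpr_at (f668721 IH) (Lpn v7852)))))
theorem f668730 : Led Lsl_gf v2019 = v7852 :=
  Lgr Lrot47 (Lpe (f506917 IH) (Lpr_af (f506922 IH) (Lpr_ff (f668725 IH) (Lpn v7852))))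
theorem f649920 : Led Lsl_cf v2020 = v5877 :=
  Lgr Lrot1 (Lpe (f506922 IH) (Lpr_ct (f151949 IH) (Lpr_at (f649918 IH) (Lpn v5877))))
theorem f668729 : Led Lsl_ft v2020 = v7852 :=
  Lgr Lrot48 (Lpr_ff (f668725 IH) (Lpn v7852))
theorem f768211 : Led Lsl_ct v7852 = v18726 :=
  Lgr Lrot40 (Lpe (f668729 IH) (Lpr_cf (f649920 IH) (Lpr_ff (f768210 IH) (Lpn v18726))))
theorem f506915 : Led Lsl_dt (LP (LK LD1_c1 LD2_c33 LD3_c43)) = (LP (LK LD1_c3 LD2_c14 LD3_c25)) :=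
  Lre_d IH (LK LD1_c1 LD2_c33 LD3_c43) (LK LD1_c3 LD2_c14 LD3_c25) Lrfl Lrfl
theorem f506919 : Led Lsl_ct (LP (LK LD1_c6 LD2_c32 LD3_c32)) = (LP (LK LD1_c3 LD2_c14 LD3_c25)) :=
  Lre_c IH (LK LD1_c6 LD2_c32 LD3_c32) (LK LD1_c3 LD2_c14 LD3_c25) Lrfl Lrfl
theorem f506918 : Led Lsl_dt (LP (LK LD1_c12 LD2_c32 LD3_c43)) = (LP (LK LD1_c6 LD2_c32 LD3_c32)) :=
  Lre_d IH (LK LD1_c12 LD2_c32 LD3_c43) (LK LD1_c6 LD2_c32 LD3_c32) Lrfl Lrfl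
theorem f770415 : Led Lsl_gt (LP (LK LD1_c9 LD2_c16 LD3_c30)) = (LP (LK LD1_c12 LD2_c32 LD3_c43)) :=
  Lgr Lrot49 (Lpe (K42.f58267 IH) (Lpr_gf (f701308 IH) (Lpqs (f770000 IH) (Lpe (f768211 IH) (Lpe (f668730 IH) (Lpq (f770409 IH) (Lpe (f671088 IH) (Lpe (f506917 IH) (Lpr_dt (f506915 IH) (Lpe (f506919 IH) (Lpe (f506918 IH) (Lpn (LP (LK LD1_c12 LD2_c32 LD3_c43))))))))))))))
theorem f770416 : Led Lsl_gt (LP (LK LD1_c9 LD2_c16 LD3_c30)) = (LP (LK LD1_c12 LD2_c32 LD3_c43)) :=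
  Leop (Lpe (f770415 IH) (Lpn (LP (LK LD1_c9 LD2_c16 LD3_c30))))
theorem seed_1288 : LEOK LG_g (LK LD1_c9 LD2_c16 LD3_c30) :=
  Leoe_g (LK LD1_c9 LD2_c16 LD3_c30) (f770416 IH)
def v13794 : LQ := Led Lsl_bt (LP (LK LD1_c4 LD2_c48 LD3_c7))
theorem f704891 : Led Lsl_bt (LP (LK LD1_c4 LD2_c48 LD3_c7)) = v13794 :=
  Lrfl
theorem f507005 : Led Lsl_af (LP (LK LD1_c3 LD2_c19 LD3_c32)) = (LP (LK LD1_c4 LD2_c48 LD3_c7)) :=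
  Lgr Lrot117 (Lpr_dt (K29.f57699 IH) (Lpr_at (K35.f507001 IH) (Lpr_dt (K32.f20103 IH) (Lpn (LP (LK LD1_c4 LD2_c48 LD3_c7))))))
theorem f507198 : Led Lsl_ft (LP (LK LD1_c3 LD2_c20 LD3_c8)) = (LP (LK LD1_c4 LD2_c48 LD3_c7)) :=
  Lgr Lrot101 (Lpe (K35.f507190 IH) (Lpr_ff (K35.f507196 IH) (Lpr_af (f507005 IH) (Lpn (LP (LK LD1_c4 LD2_c48 LD3_c7))))))
def v6313 : LQ := Led Lsl_et (LP (LK LD1_c3 LD2_c20 LD3_c7))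
theorem f652678 : Led Lsl_et (LP (LK LD1_c3 LD2_c20 LD3_c7)) = v6313 :=
  Lrfl
theorem f416830 : Led Lsl_bt (LP (LK LD1_c1 LD2_c36 LD3_c29)) = (LP (LK LD1_c3 LD2_c20 LD3_c7)) :=
  Lre_b IH (LK LD1_c1 LD2_c36 LD3_c29) (LK LD1_c3 LD2_c20 LD3_c7) Lrfl Lrfl
theorem f652679 : Led Lsl_bf (LP (LK LD1_c3 LD2_c20 LD3_c8)) = v6313 :=
  Lgr Lrot96 (Lpr_et (K32.f23837 IH) (Lpr_bt (f416830 IH) (Lpr_et (f652678 IH) (Lpn v6313))))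
theorem f704894 : Led Lsl_ff v6313 = v13794 :=
  Lgr Lrot25 (Lpe (f652679 IH) (Lpr_ft (f507198 IH) (Lpr_bt (f704891 IH) (Lpn v13794))))
theorem f704896 : Led Lsl_ft v6313 = v13794 :=
  Lgr Lrot48 (Lpr_ff (f704894 IH) (Lpn v13794))
theorem f652681 : Led Lsl_ef (LP (LK LD1_c3 LD2_c20 LD3_c7)) = v6313 :=
  Lgr Lrot88 (Lpr_et (f652678 IH) (Lpn v6313))
theorem f443011 : Led Lsl_dt (LP (LK LD1_c3 LD2_c20 LD3_c7)) = (LP (LK LD1_c3 LD2_c14 LD3_c26)) :=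
  Lre_d IH (LK LD1_c3 LD2_c20 LD3_c7) (LK LD1_c3 LD2_c14 LD3_c26) Lrfl Lrfl
theorem f506916 : Led Lsl_et (LP (LK LD1_c3 LD2_c14 LD3_c26)) = (LP (LK LD1_c1 LD2_c33 LD3_c43)) :=
  Lre_e IH (LK LD1_c3 LD2_c14 LD3_c26) (LK LD1_c1 LD2_c33 LD3_c43) Lrfl Lrfl
def v5882 : LQ := Led Lsl_et (LP (LK LD1_c3 LD2_c14 LD3_c25))
theorem f649934 : Led Lsl_et (LP (LK LD1_c3 LD2_c14 LD3_c25)) = v5882 :=
  Lrfl
theorem f652683 : Led Lsl_dt v5882 = v6313 :=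
  Lgr Lrot77 (Lpe (f649934 IH) (Lpe (f506915 IH) (Lpe (f506916 IH) (Lpe (f443011 IH) (Lpr_ef (f652681 IH) (Lpn v6313))))))
theorem f58263 : Led Lsl_dt (LP (LK LD1_c6 LD2_c17 LD3_c21)) = (LP (LK LD1_c12 LD2_c11 LD3_c14)) :=
  Lre_d IH (LK LD1_c6 LD2_c17 LD3_c21) (LK LD1_c12 LD2_c11 LD3_c14) Lrfl Lrfl
theorem f110529 : Led Lsl_et (LP (LK LD1_c1 LD2_c7 LD3_c57)) = (LP (LK LD1_c2 LD2_c21 LD3_c28)) :=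
  Lre_e IH (LK LD1_c1 LD2_c7 LD3_c57) (LK LD1_c2 LD2_c21 LD3_c28) Lrfl Lrfl
theorem f110530 : Led Lsl_et (LP (LK LD1_c9 LD2_c27 LD3_c27)) = (LP (LK LD1_c4 LD2_c47 LD3_c12)) :=
  Lre_e IH (LK LD1_c9 LD2_c27 LD3_c27) (LK LD1_c4 LD2_c47 LD3_c12) Lrfl Lrfl
theorem f110531 : Led Lsl_dt (LP (LK LD1_c9 LD2_c27 LD3_c27)) = (LP (LK LD1_c17 LD2_c26 LD3_c28)) :=
  Lre_d IH (LK LD1_c9 LD2_c27 LD3_c27) (LK LD1_c17 LD2_c26 LD3_c28) Lrfl Lrfl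
theorem f110532 : Led Lsl_gf (LP (LK LD1_c12 LD2_c11 LD3_c14)) = (LP (LK LD1_c17 LD2_c26 LD3_c28)) :=
  Lgr Lrot145 (Lpe (f58263 IH) (Lpr_et (K57.f58229 IH) (Lpe (K4.f58259 IH) (Lpr_dt (K4.f58261 IH) (Lpr_gt (K4.f110520 IH) (Lpe (K3.f13706 IH) (Lpr_et (f110529 IH) (Lpr_gt (K56.f101964 IH) (Lpe (f110530 IH) (Lpr_dt (f110531 IH) (Lpn (LP (LK LD1_c17 LD2_c26 LD3_c28)))))))))))))
theorem f506928 : Led Lsl_dt (LP (LK LD1_c6 LD2_c32 LD3_c32)) = (LP (LK LD1_c12 LD2_c32 LD3_c43)) :=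
  Lre_d IH (LK LD1_c6 LD2_c32 LD3_c32) (LK LD1_c12 LD2_c32 LD3_c43) Lrfl Lrfl
def v18736 : LQ := Led Lsl_et (LP (LK LD1_c6 LD2_c32 LD3_c32))
theorem f768255 : Led Lsl_et (LP (LK LD1_c6 LD2_c32 LD3_c32)) = v18736 :=
  Lrfl
theorem f770417 : Led Lsl_gf (LP (LK LD1_c9 LD2_c27 LD3_c27)) = v18736 :=
  Lgr Lrot138 (Lpr_dt (f110531 IH) (Lpe (f110532 IH) (Lpe (f58263 IH) (Lpr_et (K57.f58229 IH) (Lpe (K4.f58259 IH) (Lpe (f58266 IH) (Lpr_dt (K42.f58267 IH) (Lpr_gt (f770415 IH) (Lpe (f506928 IH) (Lpr_et (f768255 IH) (Lpn v18736)))))))))))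
theorem f58230 : Led Lsl_dt (LP (LK LD1_c12 LD2_c11 LD3_c14)) = (LP (LK LD1_c6 LD2_c17 LD3_c21)) :=
  Lre_d IH (LK LD1_c12 LD2_c11 LD3_c14) (LK LD1_c6 LD2_c17 LD3_c21) Lrfl Lrfl
theorem f58375 : Led Lsl_ct (LP (LK LD1_c6 LD2_c17 LD3_c21)) = (LP (LK LD1_c3 LD2_c5 LD3_c54)) :=
  Lre_c IH (LK LD1_c6 LD2_c17 LD3_c21) (LK LD1_c3 LD2_c5 LD3_c54) Lrfl Lrfl
theorem f58317 : Led Lsl_et (LP (LK LD1_c3 LD2_c5 LD3_c54)) = (LP (LK LD1_c1 LD2_c29 LD3_c1)) :=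
  Lre_e IH (LK LD1_c3 LD2_c5 LD3_c54) (LK LD1_c1 LD2_c29 LD3_c1) Lrfl Lrfl
theorem f107560 : Led Lsl_et (LP (LK LD1_c0 LD2_c31 LD3_c10)) = (LP (LK LD1_c1 LD2_c7 LD3_c61)) :=
  Lre_e IH (LK LD1_c0 LD2_c31 LD3_c10) (LK LD1_c1 LD2_c7 LD3_c61) Lrfl Lrfl
theorem f110546 : Led Lsl_et (LP (LK LD1_c4 LD2_c47 LD3_c27)) = (LP (LK LD1_c2 LD2_c21 LD3_c35)) :=
  Lre_e IH (LK LD1_c4 LD2_c47 LD3_c27) (LK LD1_c2 LD2_c21 LD3_c35) Lrfl Lrfl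
theorem f110547 : Led Lsl_dt (LP (LK LD1_c4 LD2_c47 LD3_c27)) = (LP (LK LD1_c9 LD2_c27 LD3_c57)) :=
  Lre_d IH (LK LD1_c4 LD2_c47 LD3_c27) (LK LD1_c9 LD2_c27 LD3_c57) Lrfl Lrfl
theorem f647018 : Led Lsl_gt (LP (LK LD1_c9 LD2_c27 LD3_c57)) = K46.v5315 :=
  Lgr Lrot112 (Lpe (f110547 IH) (Lpr_et (f110546 IH) (Lpe (K51.f110545 IH) (Lpe (f107560 IH) (Lpr_dt (K3.f13729 IH) (Lpr_gf (K4.f103469 IH) (Lpe (K4.f103329 IH) (Lpe (K4.f110526 IH) (Lpe (f58317 IH) (Lpr_dt (K46.f647013 IH) (Lpn K46.v5315)))))))))))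
theorem f703884 : Led Lsl_ff (LP (LK LD1_c4 LD2_c45 LD3_c55)) = K57.v13607 :=
  Lgr Lrot3 (Lpr_ft (K57.f703882 IH) (Lpn K57.v13607))
theorem f703840 : Led Lsl_et K57.v4410 = K57.v13597 :=
  Lgr Lrot87 (Lpr_ef (K57.f703839 IH) (Lpn K57.v13597))
theorem f703843 : Led Lsl_ff K57.v4442 = K57.v13597 :=
  Lgr Lrot3 (Lpr_ft (K57.f703842 IH) (Lpn K57.v13597))
theorem f703885 : Led Lsl_et K57.v4442 = K57.v13607 :=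
  Lgr Lrot69 (Lpr_ff (f703843 IH) (Lpe (f703840 IH) (Lpe (K57.f633234 IH) (Lpe (K57.f78500 IH) (Lpr_ff (f703884 IH) (Lpn K57.v13607))))))
theorem f674041 : Led Lsl_df K57.v4235 = K57.v4442 :=
  Lgr Lrot38 (Lpr_dt (K57.f674040 IH) (Lpn K57.v4442))
def v13135 : LQ := Led Lsl_et (LP (LK LD1_c4 LD2_c40 LD3_c29))
theorem f701288 : Led Lsl_et (LP (LK LD1_c4 LD2_c40 LD3_c29)) = v13135 :=
  Lrfl
theorem f701289 : Led Lsl_ef (LP (LK LD1_c4 LD2_c40 LD3_c29)) = v13135 :=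
  Lgr Lrot88 (Lpr_et (f701288 IH) (Lpn v13135))
def v13595 : LQ := Led Lsl_et (LP (LK LD1_c4 LD2_c45 LD3_c51))
theorem f703817 : Led Lsl_et (LP (LK LD1_c4 LD2_c45 LD3_c51)) = v13595 :=
  Lrfl
theorem f703819 : Led Lsl_ef (LP (LK LD1_c4 LD2_c45 LD3_c51)) = v13595 :=
  Lgr Lrot88 (Lpr_et (f703817 IH) (Lpn v13595))
theorem f78237 : Led Lsl_dt (LP (LK LD1_c4 LD2_c45 LD3_c51)) = (LP (LK LD1_c2 LD2_c20 LD3_c58)) :=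
  Lre_d IH (LK LD1_c4 LD2_c45 LD3_c51) (LK LD1_c2 LD2_c20 LD3_c58) Lrfl Lrfl
theorem f703821 : Led Lsl_dt v13135 = v13595 :=
  Lgr Lrot77 (Lpe (f701288 IH) (Lpe (K49.f103352 IH) (Lpe (K57.f103359 IH) (Lpe (f78237 IH) (Lpr_ef (f703819 IH) (Lpn v13595))))))
theorem f441931 : Led Lsl_dt (LP (LK LD1_c2 LD2_c21 LD3_c35)) = (LP (LK LD1_c4 LD2_c47 LD3_c26)) :=
  Lre_d IH (LK LD1_c2 LD2_c21 LD3_c35) (LK LD1_c4 LD2_c47 LD3_c26) Lrfl Lrfl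
theorem f703822 : Led Lsl_gt (LP (LK LD1_c4 LD2_c47 LD3_c26)) = v13595 :=
  Lgr Lrot139 (Lpe (f441931 IH) (Lpe (K51.f110545 IH) (Lpe (f107560 IH) (Lpr_dt (K3.f13729 IH) (Lpr_gf (K4.f103469 IH) (Lpe (K4.f103329 IH) (Lpr_et (K57.f103331 IH) (Lpe (K49.f103348 IH) (Lpr_ef (f701289 IH) (Lpr_dt (f703821 IH) (Lpn v13595)))))))))))
theorem f633435 : Led Lsl_et (LP (LK LD1_c2 LD2_c21 LD3_c35)) = (LP (LK LD1_c4 LD2_c47 LD3_c27)) :=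
  Lre_e IH (LK LD1_c2 LD2_c21 LD3_c35) (LK LD1_c4 LD2_c47 LD3_c27) Lrfl Lrfl
theorem f703886 : Led Lsl_gf (LP (LK LD1_c4 LD2_c47 LD3_c27)) = K57.v13607 :=
  Lgr Lrot141 (Lpe (f633435 IH) (Lpr_dt (f441931 IH) (Lpr_gt (f703822 IH) (Lpe (f703821 IH) (Lpe (f701289 IH) (Lpr_gt (K49.f103348 IH) (Lpr_dt (K49.f103346 IH) (Lpr_gt (K57.f632105 IH) (Lpr_df (f674041 IH) (Lpr_et (f703885 IH) (Lpn K57.v13607)))))))))))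
theorem f768258 : Led Lsl_ef (LP (LK LD1_c6 LD2_c32 LD3_c32)) = v18736 :=
  Lgr Lrot88 (Lpr_et (f768255 IH) (Lpn v18736))
theorem f768260 : Led Lsl_ct v5882 = v18736 :=
  Lgr Lrot15 (Lpe (f649934 IH) (Lpe (f506919 IH) (Lpr_ef (f768258 IH) (Lpn v18736))))
theorem f770419 : K57.v13607 = v5882 :=
  (Llr Lrot144 (Lpe (f703886 IH) (Lpr_dt (f110547 IH) (Lpr_gt (f647018 IH) (Lpe (K46.f647016 IH) (Lpe (f58375 IH) (Lpe (f58230 IH) (Lpr_gf (f110532 IH) (Lpe (f110531 IH) (Lpr_gf (f770417 IH) (Lpe (f768260 IH) (Lpn v5882)))))))))))).symm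
theorem f770420 : K57.v17301 = v6313 :=
  Lefun (Lecon (K57.f758260 IH) (f770419 IH)) (f652683 IH)
theorem f770423 : (LP (LK LD1_c9 LD2_c24 LD3_c21)) = v13794 :=
  Lefun (Lecon (Lfl_ff (K57.f758494 IH)) (f770420 IH)) (f704896 IH)
theorem f704892 : Led Lsl_bf (LP (LK LD1_c4 LD2_c48 LD3_c7)) = v13794 :=
  Lgr Lrot24 (Lpr_bt (f704891 IH) (Lpn v13794))
theorem f770424 : Led Lsl_bt (LP (LK LD1_c9 LD2_c24 LD3_c21)) = (LP (LK LD1_c4 LD2_c48 LD3_c7)) :=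
  Leop (Lpr_bf (f704892 IH) (Lpq (f770423 IH) (Lpn (LP (LK LD1_c9 LD2_c24 LD3_c21)))))
theorem seed_1289 : LEOK LG_b (LK LD1_c9 LD2_c24 LD3_c21) :=
  Leoe_b (LK LD1_c9 LD2_c24 LD3_c21) (f770424 IH)
theorem f649936 : Led Lsl_ef (LP (LK LD1_c3 LD2_c14 LD3_c25)) = v5882 :=
  Lgr Lrot88 (Lpr_et (f649934 IH) (Lpn v5882))
theorem f770421 : K57.v4442 = (LP (LK LD1_c3 LD2_c14 LD3_c25)) :=
  Lefun (Lecon (Lfl_ef (K57.f703883 IH)) (f770419 IH)) (Lfl_ef (f649936 IH))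
theorem f770428 : Led Lsl_gt (LP (LK LD1_c2 LD2_c21 LD3_c33)) = (LP (LK LD1_c3 LD2_c14 LD3_c25)) :=
  Leop (Lpq (f770421 IH) (Lpe (K57.f633409 IH) (Lpn (LP (LK LD1_c2 LD2_c21 LD3_c33)))))
theorem seed_1290 : LEOK LG_g (LK LD1_c2 LD2_c21 LD3_c33) :=
  Leoe_g (LK LD1_c2 LD2_c21 LD3_c33) (f770428 IH)
theorem f24666 : Led Lsl_bt (LP (LK LD1_c3 LD2_c19 LD3_c25)) = (LP (LK LD1_c1 LD2_c36 LD3_c8)) :=
  Lre_b IH (LK LD1_c3 LD2_c19 LD3_c25) (LK LD1_c1 LD2_c36 LD3_c8) Lrfl Lrfl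
theorem f23849 : Led Lsl_bt (LP (LK LD1_c1 LD2_c33 LD3_c44)) = (LP (LK LD1_c3 LD2_c14 LD3_c25)) :=
  Lre_b IH (LK LD1_c1 LD2_c33 LD3_c44) (LK LD1_c3 LD2_c14 LD3_c25) Lrfl Lrfl
theorem f507226 : Led Lsl_ff (LP (LK LD1_c3 LD2_c19 LD3_c25)) = (LP (LK LD1_c3 LD2_c14 LD3_c25)) :=
  Lgr Lrot25 (Lpr_bt (f24666 IH) (Lpr_ft (K35.f507222 IH) (Lpr_bt (f23849 IH) (Lpn (LP (LK LD1_c3 LD2_c14 LD3_c25))))))
theorem f770431 : K57.v13597 = (LP (LK LD1_c3 LD2_c19 LD3_c25)) :=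
  Lefun (Lecon (K57.f703842 IH) (f770421 IH)) (Lfl_ff (f507226 IH))
def v1341 : LQ := Led Lsl_gf (LP (LK LD1_c1 LD2_c7 LD3_c36))
def v7870 : LQ := Led Lsl_dt v1341
theorem f668819 : Led Lsl_dt v1341 = v7870 :=
  Lrfl
theorem f668820 : Led Lsl_df v1341 = v7870 :=
  Lgr Lrot38 (Lpr_dt (f668819 IH) (Lpn v7870))
theorem f494984 : Led Lsl_gf (LP (LK LD1_c1 LD2_c7 LD3_c36)) = v1341 :=
  Lrfl
def v4403 : LQ := Led Lsl_gt (LP (LK LD1_c2 LD2_c20 LD3_c41))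
theorem f633162 : Led Lsl_gt (LP (LK LD1_c2 LD2_c20 LD3_c41)) = v4403 :=
  Lrfl
theorem f668821 : Led Lsl_ef v4403 = v7870 :=
  Lgr Lrot17 (Lpe (f633162 IH) (Lpe (K57.f102120 IH) (Lpr_dt (K3.f102069 IH) (Lpe (K3.f58188 IH) (Lpe (K3.f13678 IH) (Lpr_gf (K3.f99083 IH) (Lpe (K49.f99094 IH) (Lpr_dt (K49.f99105 IH) (Lpr_gf (f494984 IH) (Lpr_df (f668820 IH) (Lpn v7870)))))))))))
theorem f668822 : Led Lsl_et v4403 = v7870 :=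
  Lgr Lrot87 (Lpr_ef (f668821 IH) (Lpn v7870))
def v13533 : LQ := Led Lsl_at (LP (LK LD1_c4 LD2_c45 LD3_c3))
theorem f703484 : Led Lsl_at (LP (LK LD1_c4 LD2_c45 LD3_c3)) = v13533 :=
  Lrfl
theorem f703485 : Led Lsl_af (LP (LK LD1_c4 LD2_c45 LD3_c3)) = v13533 :=
  Lgr Lrot0 (Lpr_at (f703484 IH) (Lpn v13533))
theorem f113664 : Led Lsl_gf (LP (LK LD1_c4 LD2_c45 LD3_c3)) = (LP (LK LD1_c2 LD2_c20 LD3_c61)) :=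
  Lgr Lrot47 (Lpr_gt (K57.f102122 IH) (Lpr_af (K4.f113648 IH) (Lpe (K4.f113661 IH) (Lpn (LP (LK LD1_c2 LD2_c20 LD3_c61))))))
theorem f633163 : Led Lsl_gf (LP (LK LD1_c2 LD2_c20 LD3_c61)) = v4403 :=
  Lgr Lrot76 (Lpe (K4.f113662 IH) (Lpe (K4.f113660 IH) (Lpr_gt (f633162 IH) (Lpn v4403))))
theorem f703486 : Led Lsl_ft v4403 = v13533 :=
  Lgr Lrot2 (Lpe (f633163 IH) (Lpe (f113664 IH) (Lpr_af (f703485 IH) (Lpn v13533))))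
theorem f703487 : Led Lsl_ff v4403 = v13533 :=
  Lgr Lrot3 (Lpr_ft (f703486 IH) (Lpn v13533))
theorem f758500 : (LP (LK LD1_c2 LD2_c20 LD3_c59)) = v13533 :=
  Lefun (Lecon (Lfl_af (K57.f633243 IH)) (K57.f758499 IH)) (f703484 IH)
theorem f758516 : v4403 = K57.v4410 :=
  Lefun (Lecon (Lfl_ff (f703487 IH)) (f758500 IH).symm) (K57.f633234 IH)
theorem f758517 : K57.v13597 = v7870 :=
  Lefun (Lecon (f703840 IH) (f758516 IH).symm) (f668822 IH)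
theorem f668872 : Led Lsl_df K49.v1348 = K57.v7886 :=
  Lgr Lrot38 (Lpr_dt (K57.f668870 IH) (Lpn K57.v7886))
theorem f668880 : Led Lsl_gf v7870 = K57.v4446 :=
  Lgr Lrot138 (Lpe (f668820 IH) (Lpe (f494984 IH) (Lpe (K49.f99105 IH) (Lpr_et (K49.f99094 IH) (Lpe (K3.f99083 IH) (Lpe (K54.f58337 IH) (Lpr_dt (K54.f98957 IH) (Lpr_gt (K49.f495016 IH) (Lpr_df (f668872 IH) (Lpe (K57.f668873 IH) (Lpn K57.v4446)))))))))))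
theorem f668881 : Led Lsl_gt v7870 = K49.v4444 :=
  Lgr Lrot46 (Lpr_gf (f668880 IH) (Lpq (K57.f668879 IH) (Lpe (K57.f633431 IH) (Lpr_at (K49.f633418 IH) (Lpn K49.v4444)))))
theorem f770441 : Led Lsl_gt (LP (LK LD1_c3 LD2_c19 LD3_c25)) = (LP (LK LD1_c4 LD2_c45 LD3_c27)) :=
  Leop (Lpq (K49.f674029 IH) (Lpe (f668881 IH) (Lpq (f758517 IH) (Lpqs (f770431 IH) (Lpn (LP (LK LD1_c3 LD2_c19 LD3_c25)))))))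
theorem seed_1291 : LEOK LG_g (LK LD1_c3 LD2_c19 LD3_c25) :=
  Leoe_g (LK LD1_c3 LD2_c19 LD3_c25) (f770441 IH)
theorem f442949 : Led Lsl_dt (LP (LK LD1_c3 LD2_c14 LD3_c25)) = (LP (LK LD1_c1 LD2_c33 LD3_c43)) :=
  Lre_d IH (LK LD1_c3 LD2_c14 LD3_c25) (LK LD1_c1 LD2_c33 LD3_c43) Lrfl Lrfl
theorem f770430 : K57.v4235 = (LP (LK LD1_c1 LD2_c33 LD3_c43)) :=
  Lefun (Lecon (Lfl_df (f674041 IH)) (f770421 IH)) (f442949 IH)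
theorem f770445 : Led Lsl_gt (LP (LK LD1_c2 LD2_c17 LD3_c19)) = (LP (LK LD1_c1 LD2_c33 LD3_c43)) :=
  Leop (Lpq (f770430 IH) (Lpe (K57.f632105 IH) (Lpn (LP (LK LD1_c2 LD2_c17 LD3_c19)))))
theorem seed_1292 : LEOK LG_g (LK LD1_c2 LD2_c17 LD3_c19) :=
  Leoe_g (LK LD1_c2 LD2_c17 LD3_c19) (f770445 IH)
def v18743 : LQ := Led Lsl_gt (LP (LK LD1_c6 LD2_c32 LD3_c34))
theorem f768282 : Led Lsl_gt (LP (LK LD1_c6 LD2_c32 LD3_c34)) = v18743 :=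
  Lrfl
theorem f506926 : Led Lsl_ft (LP (LK LD1_c6 LD2_c32 LD3_c34)) = (LP (LK LD1_c3 LD2_c14 LD3_c26)) :=
  Lre_f IH (LK LD1_c6 LD2_c32 LD3_c34) (LK LD1_c3 LD2_c14 LD3_c26) Lrfl Lrfl
def v5884 : LQ := Led Lsl_at (LP (LK LD1_c3 LD2_c14 LD3_c26))
theorem f649941 : Led Lsl_at (LP (LK LD1_c3 LD2_c14 LD3_c26)) = v5884 :=
  Lrfl
theorem f768283 : Led Lsl_gf v5884 = v18743 :=
  Lgr Lrot76 (Lpe (f649941 IH) (Lpe (f506926 IH) (Lpr_gt (f768282 IH) (Lpn v18743))))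
theorem f506923 : Led Lsl_et (LP (LK LD1_c1 LD2_c33 LD3_c43)) = (LP (LK LD1_c3 LD2_c14 LD3_c26)) :=
  Lre_e IH (LK LD1_c1 LD2_c33 LD3_c43) (LK LD1_c3 LD2_c14 LD3_c26) Lrfl Lrfl
theorem f649943 : Led Lsl_ef v2020 = v5884 :=
  Lgr Lrot20 (Lpe (f506922 IH) (Lpr_et (f506923 IH) (Lpr_at (f649941 IH) (Lpn v5884))))
theorem f649944 : Led Lsl_et v2020 = v5884 :=
  Lgr Lrot87 (Lpr_ef (f649943 IH) (Lpn v5884))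
theorem f668796 : Led Lsl_df K57.v1340 = K57.v7865 :=
  Lgr Lrot38 (Lpr_dt (K57.f668795 IH) (Lpn K57.v7865))
def v5881 : LQ := Led Lsl_at (LP (LK LD1_c3 LD2_c14 LD3_c25))
theorem f649930 : Led Lsl_at (LP (LK LD1_c3 LD2_c14 LD3_c25)) = v5881 :=
  Lrfl
theorem f649932 : Led Lsl_df v2020 = v5881 :=
  Lgr Lrot18 (Lpe (f506922 IH) (Lpr_dt (f506915 IH) (Lpr_at (f649930 IH) (Lpn v5881))))
def v13599 : LQ := Led Lsl_ft (LP (LK LD1_c4 LD2_c45 LD3_c52))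
theorem f703850 : Led Lsl_ft (LP (LK LD1_c4 LD2_c45 LD3_c52)) = v13599 :=
  Lrfl
theorem f703853 : Led Lsl_ff (LP (LK LD1_c4 LD2_c45 LD3_c52)) = v13599 :=
  Lgr Lrot3 (Lpr_ft (f703850 IH) (Lpn v13599))
def v13136 : LQ := Led Lsl_ft (LP (LK LD1_c4 LD2_c40 LD3_c29))
theorem f701290 : Led Lsl_ft (LP (LK LD1_c4 LD2_c40 LD3_c29)) = v13136 :=
  Lrfl
theorem f703855 : Led Lsl_dt v13136 = v13599 :=
  Lgr Lrot60 (Lpe (f701290 IH) (Lpe (K49.f103352 IH) (Lpr_ff (f703853 IH) (Lpn v13599))))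
def v7867 : LQ := Led Lsl_ft K57.v1340
theorem f668811 : Led Lsl_ft K57.v1340 = v7867 :=
  Lrfl
theorem f668813 : Led Lsl_ff K57.v1340 = v7867 :=
  Lgr Lrot3 (Lpr_ft (f668811 IH) (Lpn v7867))
def v7862 : LQ := Led Lsl_at K57.v1340
theorem f668787 : Led Lsl_at K57.v1340 = v7862 :=
  Lrfl
theorem f668788 : Led Lsl_af K57.v1340 = v7862 :=
  Lgr Lrot0 (Lpr_at (f668787 IH) (Lpn v7862))
theorem f668789 : Led Lsl_ft v1341 = v7862 :=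
  Lgr Lrot2 (Lpe (f494984 IH) (Lpr_gt (K57.f494982 IH) (Lpr_af (f668788 IH) (Lpn v7862))))
theorem f668790 : Led Lsl_ff v1341 = v7862 :=
  Lgr Lrot3 (Lpr_ft (f668789 IH) (Lpn v7862))
theorem f668814 : Led Lsl_at v1341 = v7867 :=
  Lgr Lrot66 (Lpr_ff (f668790 IH) (Lpe (f668787 IH) (Lpr_ff (f668813 IH) (Lpn v7867))))
theorem f758518 : K57.v13133 = v1341 :=
  Lefun (Lecon (Lfl_df (K57.f703838 IH)) (f758517 IH)) (Lfl_df (f668820 IH))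
theorem f758519 : (LP (LK LD1_c4 LD2_c40 LD3_c29)) = v7867 :=
  Lefun (Lecon (Lfl_af (K57.f701282 IH)) (f758518 IH)) (f668814 IH)
theorem f758521 : K57.v1340 = v13136 :=
  Lefun (Lecon (Lfl_ff (f668813 IH)) (f758519 IH).symm) (f701290 IH)
theorem f758522 : v13599 = K57.v7865 :=
  Lefun (Lecon (f703855 IH) (f758521 IH).symm) (K57.f668795 IH)
theorem f703854 : Led Lsl_at K57.v4442 = v13599 :=
  Lgr Lrot66 (Lpr_ff (f703843 IH) (Lpe (K57.f703836 IH) (Lpr_ff (f703853 IH) (Lpn v13599))))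
theorem f770429 : v13599 = v5881 :=
  Lefun (Lecon (f703854 IH) (f770421 IH)) (f649930 IH)
theorem f770442 : K57.v1340 = v2020 :=
  Lefun (Lecon (Lfl_df (f668796 IH)) ((f758522 IH).symm.trans (f770429 IH))) (Lfl_df (f649932 IH))
theorem f770467 : v5884 = K57.v7866 :=
  Lefun (Lecon (f649944 IH) (f770442 IH).symm) (K57.f668798 IH)
theorem f770518 : (LP (LK LD1_c9 LD2_c16 LD3_c61)) = v18743 :=
  Lefun (Lecon (Lfl_gt (K57.f668800 IH)) (f770467 IH).symm) (f768283 IH)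
theorem f770537 : Led Lsl_gt (LP (LK LD1_c6 LD2_c32 LD3_c34)) = (LP (LK LD1_c9 LD2_c16 LD3_c61)) :=
  Leop (Lpqs (f770518 IH) (Lpe (f768282 IH) (Lpn (LP (LK LD1_c6 LD2_c32 LD3_c34)))))
theorem seed_1293 : LEOK LG_g (LK LD1_c6 LD2_c32 LD3_c34) :=
  Leoe_g (LK LD1_c6 LD2_c32 LD3_c34) (f770537 IH)
def v18744 : LQ := Led Lsl_gf (LP (LK LD1_c6 LD2_c32 LD3_c34))
theorem f768284 : Led Lsl_gf (LP (LK LD1_c6 LD2_c32 LD3_c34)) = v18744 :=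
  Lrfl
def v18737 : LQ := Led Lsl_gt (LP (LK LD1_c6 LD2_c32 LD3_c33))
theorem f768261 : Led Lsl_gt (LP (LK LD1_c6 LD2_c32 LD3_c33)) = v18737 :=
  Lrfl
theorem f442898 : Led Lsl_gt (LP (LK LD1_c3 LD2_c14 LD3_c26)) = (LP (LK LD1_c6 LD2_c32 LD3_c33)) :=
  Lre_g IH (LK LD1_c3 LD2_c14 LD3_c26) (LK LD1_c6 LD2_c32 LD3_c33) Lrfl Lrfl
theorem f506931 : Led Lsl_ft (LP (LK LD1_c3 LD2_c14 LD3_c26)) = (LP (LK LD1_c6 LD2_c32 LD3_c34)) :=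
  Lre_f IH (LK LD1_c3 LD2_c14 LD3_c26) (LK LD1_c6 LD2_c32 LD3_c34) Lrfl Lrfl
theorem f768262 : Led Lsl_at (LP (LK LD1_c6 LD2_c32 LD3_c34)) = v18737 :=
  Lgr Lrot26 (Lpe (f506931 IH) (Lpr_gt (f442898 IH) (Lpr_gt (f768261 IH) (Lpn v18737))))
theorem f768263 : Led Lsl_af (LP (LK LD1_c6 LD2_c32 LD3_c34)) = v18737 :=
  Lgr Lrot0 (Lpr_at (f768262 IH) (Lpn v18737))
theorem f649942 : Led Lsl_af (LP (LK LD1_c3 LD2_c14 LD3_c26)) = v5884 :=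
  Lgr Lrot0 (Lpr_at (f649941 IH) (Lpn v5884))
theorem f768264 : Led Lsl_ff v5884 = v18737 :=
  Lgr Lrot30 (Lpe (f649942 IH) (Lpr_ft (f506931 IH) (Lpr_at (f768262 IH) (Lpn v18737))))
theorem f768265 : Led Lsl_ft v5884 = v18737 :=
  Lgr Lrot48 (Lpr_ff (f768264 IH) (Lpn v18737))
theorem f768285 : Led Lsl_gt v5884 = v18744 :=
  Lgr Lrot5 (Lpr_ft (f768265 IH) (Lpe (f768263 IH) (Lpr_gf (f768284 IH) (Lpn v18744))))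
theorem f770517 : (LP (LK LD1_c6 LD2_c17 LD3_c35)) = v18744 :=
  Lefun (Lecon (Lfl_gf (K57.f758261 IH)) (f770467 IH).symm) (f768285 IH)
theorem f770538 : Led Lsl_gt (LP (LK LD1_c6 LD2_c17 LD3_c35)) = (LP (LK LD1_c6 LD2_c32 LD3_c34)) :=
  Leop (Lpr_gf (f768284 IH) (Lpq (f770517 IH) (Lpn (LP (LK LD1_c6 LD2_c17 LD3_c35)))))
theorem seed_1294 : LEOK LG_g (LK LD1_c6 LD2_c17 LD3_c35) :=
  Leoe_g (LK LD1_c6 LD2_c17 LD3_c35) (f770538 IH)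
def v6312 : LQ := Led Lsl_at (LP (LK LD1_c3 LD2_c20 LD3_c7))
theorem f652674 : Led Lsl_at (LP (LK LD1_c3 LD2_c20 LD3_c7)) = v6312 :=
  Lrfl
theorem f78275 : Led Lsl_gt (LP (LK LD1_c4 LD2_c46 LD3_c12)) = (LP (LK LD1_c2 LD2_c21 LD3_c6)) :=
  Lre_g IH (LK LD1_c4 LD2_c46 LD3_c12) (LK LD1_c2 LD2_c21 LD3_c6) Lrfl Lrfl
theorem f668804 : Led Lsl_df (LP (LK LD1_c4 LD2_c46 LD3_c12)) = K57.v7866 :=
  Lgr Lrot135 (Lpr_gt (f78275 IH) (Lpe (K5.f78036 IH) (Lpr_et (K5.f77996 IH) (Lpr_gt (K2.f25202 IH) (Lpe (K57.f78498 IH) (Lpr_dt (K51.f78499 IH) (Lpr_gt (K50.f22877 IH) (Lpe (K57.f632143 IH) (Lpr_et (K57.f633075 IH) (Lpr_gt (K57.f668800 IH) (Lpn K57.v7866)))))))))))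
theorem f416925 : Led Lsl_dt (LP (LK LD1_c3 LD2_c14 LD3_c26)) = (LP (LK LD1_c3 LD2_c20 LD3_c7)) :=
  Lre_d IH (LK LD1_c3 LD2_c14 LD3_c26) (LK LD1_c3 LD2_c20 LD3_c7) Lrfl Lrfl
theorem f652676 : Led Lsl_df v5884 = v6312 :=
  Lgr Lrot18 (Lpe (f649942 IH) (Lpr_dt (f416925 IH) (Lpr_at (f652674 IH) (Lpn v6312))))
theorem f652677 : Led Lsl_dt v5884 = v6312 :=
  Lgr Lrot42 (Lpr_df (f652676 IH) (Lpn v6312))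
theorem f770519 : (LP (LK LD1_c4 LD2_c46 LD3_c12)) = v6312 :=
  Lefun (Lecon (Lfl_df (f668804 IH)) (f770467 IH).symm) (f652677 IH)
theorem f770540 : Led Lsl_at (LP (LK LD1_c3 LD2_c20 LD3_c7)) = (LP (LK LD1_c4 LD2_c46 LD3_c12)) :=
  Leop (Lpqs (f770519 IH) (Lpe (f652674 IH) (Lpn (LP (LK LD1_c3 LD2_c20 LD3_c7)))))
theorem seed_1295 : LEOK LG_a (LK LD1_c3 LD2_c20 LD3_c7) :=
  Leoe_a (LK LD1_c3 LD2_c20 LD3_c7) (f770540 IH)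
theorem f124602 : Led Lsl_cf (LP (LK LD1_c3 LD2_c42 LD3_c3)) = (LP (LK LD1_c6 LD2_c30 LD3_c49)) :=
  Lgr Lrot39 (Lpr_et (K5.f114982 IH) (Lpr_ct (K5.f124592 IH) (Lpr_et (K5.f124601 IH) (Lpn (LP (LK LD1_c6 LD2_c30 LD3_c49))))))
theorem f115139 : Led Lsl_et (LP (LK LD1_c7 LD2_c20 LD3_c10)) = (LP (LK LD1_c3 LD2_c40 LD3_c0)) :=
  Lre_e IH (LK LD1_c7 LD2_c20 LD3_c10) (LK LD1_c3 LD2_c40 LD3_c0) Lrfl Lrfl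
theorem f115140 : Led Lsl_df (LP (LK LD1_c7 LD2_c20 LD3_c10)) = (LP (LK LD1_c3 LD2_c42 LD3_c3)) :=
  Lgr Lrot70 (Lpr_et (f115139 IH) (Lpr_dt (K5.f115093 IH) (Lpr_et (K3.f12105 IH) (Lpr_dt (K4.f114989 IH) (Lpr_et (K5.f114975 IH) (Lpn (LP (LK LD1_c3 LD2_c42 LD3_c3))))))))
def v18571 : LQ := Led Lsl_gf (LP (LK LD1_c6 LD2_c30 LD3_c49))
theorem f767500 : Led Lsl_gf (LP (LK LD1_c6 LD2_c30 LD3_c49)) = v18571 :=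
  Lrfl
def v13531 : LQ := Led Lsl_gf (LP (LK LD1_c4 LD2_c45 LD3_c2))
theorem f703474 : Led Lsl_gf (LP (LK LD1_c4 LD2_c45 LD3_c2)) = v13531 :=
  Lrfl
def v2127 : LQ := Led Lsl_gt (LP (LK LD1_c1 LD2_c36 LD3_c6))
def v8620 : LQ := Led Lsl_ct v2127
theorem f671806 : Led Lsl_ct v2127 = v8620 :=
  Lrfl
theorem f509136 : Led Lsl_gt (LP (LK LD1_c1 LD2_c36 LD3_c6)) = v2127 :=
  Lrfl
theorem f419110 : Led Lsl_ct (LP (LK LD1_c3 LD2_c7 LD3_c56)) = (LP (LK LD1_c6 LD2_c20 LD3_c46)) :=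
  Lre_c IH (LK LD1_c3 LD2_c7 LD3_c56) (LK LD1_c6 LD2_c20 LD3_c46) Lrfl Lrfl
theorem f671808 : Led Lsl_gf (LP (LK LD1_c6 LD2_c20 LD3_c46)) = v8620 :=
  Lgr Lrot129 (Lpe (f419110 IH) (Lpr_bt (K57.f419109 IH) (Lpr_gt (K46.f126938 IH) (Lpe (K57.f204602 IH) (Lpe (K11.f204263 IH) (Lpr_gt (K32.f68929 IH) (Lpe (K35.f435571 IH) (Lpr_bt (f435580 IH) (Lpr_gt (f509136 IH) (Lpr_ct (f671806 IH) (Lpn v8620)))))))))))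
theorem f703475 : Led Lsl_gt (LP (LK LD1_c4 LD2_c45 LD3_c49)) = v13531 :=
  Lgr Lrot5 (Lpr_ft (K4.f113698 IH) (Lpe (K4.f113699 IH) (Lpr_gf (f703474 IH) (Lpn v13531))))
theorem f494893 : Led Lsl_et (LP (LK LD1_c3 LD2_c19 LD3_c25)) = (LP (LK LD1_c1 LD2_c36 LD3_c6)) :=
  Lre_e IH (LK LD1_c3 LD2_c19 LD3_c25) (LK LD1_c1 LD2_c36 LD3_c6) Lrfl Lrfl
theorem f770447 : v4403 = (LP (LK LD1_c1 LD2_c36 LD3_c6)) :=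
  Lefun (Lecon (Lfl_ef (f668821 IH)) ((f758517 IH).symm.trans (f770431 IH))) (f494893 IH)
theorem f770479 : (LP (LK LD1_c2 LD2_c20 LD3_c61)) = v2127 :=
  Lefun (Lecon (Lfl_gf (f633163 IH)) (f770447 IH)) (f509136 IH)
theorem f770525 : v8620 = (LP (LK LD1_c4 LD2_c45 LD3_c49)) :=
  Lefun (Lecon (f671806 IH) (f770479 IH).symm) (K4.f113671 IH)
theorem f770551 : (LP (LK LD1_c6 LD2_c20 LD3_c46)) = v13531 :=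
  Lefun (Lecon (Lfl_gf (f671808 IH)) (f770525 IH)) (f703475 IH)
def v17482 : LQ := Led Lsl_ct (LP (LK LD1_c6 LD2_c19 LD3_c43))
theorem f760045 : Led Lsl_ct (LP (LK LD1_c6 LD2_c19 LD3_c43)) = v17482 :=
  Lrfl
theorem f504611 : Led Lsl_ct (LP (LK LD1_c6 LD2_c20 LD3_c46)) = (LP (LK LD1_c3 LD2_c7 LD3_c56)) :=
  Lre_c IH (LK LD1_c6 LD2_c20 LD3_c46) (LK LD1_c3 LD2_c7 LD3_c56) Lrfl Lrfl
theorem f760047 : Led Lsl_ff (LP (LK LD1_c6 LD2_c20 LD3_c46)) = v17482 :=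
  Lgr Lrot23 (Lpr_ct (f504611 IH) (Lpr_ft (K57.f647687 IH) (Lpqs (K57.f707825 IH) (Lpr_ct (f760045 IH) (Lpn v17482)))))
theorem f760048 : Led Lsl_ft (LP (LK LD1_c6 LD2_c20 LD3_c46)) = v17482 :=
  Lgr Lrot48 (Lpr_ff (f760047 IH) (Lpn v17482))
theorem f102236 : Led Lsl_gt (LP (LK LD1_c4 LD2_c45 LD3_c2)) = (LP (LK LD1_c9 LD2_c22 LD3_c49)) :=
  Lre_g IH (LK LD1_c4 LD2_c45 LD3_c2) (LK LD1_c9 LD2_c22 LD3_c49) Lrfl Lrfl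
theorem f770584 : Led Lsl_at v17482 = (LP (LK LD1_c9 LD2_c22 LD3_c49)) :=
  Lgr Lrot26 (Lpe (f760048 IH) (Lpqs (f770551 IH) (Lpe (f703474 IH) (Lpr_gt (f102236 IH) (Lpn (LP (LK LD1_c9 LD2_c22 LD3_c49)))))))
def v17612 : LQ := Led Lsl_ct (LP (LK LD1_c6 LD2_c20 LD3_c45))
theorem f761112 : Led Lsl_ct (LP (LK LD1_c6 LD2_c20 LD3_c45)) = v17612 :=
  Lrfl
theorem f504603 : Led Lsl_at (LP (LK LD1_c3 LD2_c7 LD3_c56)) = (LP (LK LD1_c6 LD2_c20 LD3_c45)) :=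
  Lre_a IH (LK LD1_c3 LD2_c7 LD3_c56) (LK LD1_c6 LD2_c20 LD3_c45) Lrfl Lrfl
theorem f761113 : Led Lsl_af (LP (LK LD1_c6 LD2_c20 LD3_c46)) = v17612 :=
  Lgr Lrot68 (Lpr_ct (f504611 IH) (Lpr_at (f504603 IH) (Lpr_ct (f761112 IH) (Lpn v17612))))
theorem f770589 : Led Lsl_ff v17612 = (LP (LK LD1_c9 LD2_c22 LD3_c49)) :=
  Lgr Lrot30 (Lpe (f761113 IH) (Lpr_ft (f760048 IH) (Lpr_at (f770584 IH) (Lpn (LP (LK LD1_c9 LD2_c22 LD3_c49))))))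
theorem f761114 : Led Lsl_cf (LP (LK LD1_c6 LD2_c20 LD3_c45)) = v17612 :=
  Lgr Lrot11 (Lpr_ct (f761112 IH) (Lpn v17612))
theorem f770591 : Led Lsl_ct K57.v17481 = (LP (LK LD1_c9 LD2_c22 LD3_c49)) :=
  Lgr Lrot40 (Lpe (f760038 IH) (Lpr_cf (f761114 IH) (Lpr_ff (f770589 IH) (Lpn (LP (LK LD1_c9 LD2_c22 LD3_c49))))))
def v13121 : LQ := Led Lsl_ft (LP (LK LD1_c4 LD2_c40 LD3_c10))
theorem f701222 : Led Lsl_ft (LP (LK LD1_c4 LD2_c40 LD3_c10)) = v13121 :=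
  Lrfl
theorem f758138 : Led Lsl_at v13121 = v17283 :=
  Lgr Lrot66 (Lpe (f701222 IH) (Lpe (K5.f115012 IH) (Lpr_ff (f758136 IH) (Lpn v17283))))
theorem f77808 : Led Lsl_gt (LP (LK LD1_c4 LD2_c40 LD3_c10)) = (LP (LK LD1_c9 LD2_c15 LD3_c45)) :=
  Lre_g IH (LK LD1_c4 LD2_c40 LD3_c10) (LK LD1_c9 LD2_c15 LD3_c45) Lrfl Lrfl
theorem f758143 : Led Lsl_gt (LP (LK LD1_c9 LD2_c15 LD3_c45)) = v17283 :=
  Lgr Lrot46 (Lpe (f77808 IH) (Lpr_ft (f701222 IH) (Lpr_at (f758138 IH) (Lpn v17283))))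
theorem f769950 : (LP (LK LD1_c9 LD2_c15 LD3_c45)) = K57.v17481 :=
  Lefun (Lecon (Lfl_gt (f758143 IH)) ((f769935 IH).trans (K57.f760042 IH))) (K57.f760039 IH)
theorem f113701 : Led Lsl_gt (LP (LK LD1_c9 LD2_c22 LD3_c49)) = (LP (LK LD1_c4 LD2_c45 LD3_c49)) :=
  Lgr Lrot46 (Lpe (f102236 IH) (Lpr_ft (K4.f113697 IH) (Lpr_at (K4.f113686 IH) (Lpn (LP (LK LD1_c4 LD2_c45 LD3_c49))))))
theorem f113682 : Led Lsl_bt (LP (LK LD1_c2 LD2_c20 LD3_c61)) = (LP (LK LD1_c4 LD2_c45 LD3_c33)) :=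
  Lre_b IH (LK LD1_c2 LD2_c20 LD3_c61) (LK LD1_c4 LD2_c45 LD3_c33) Lrfl Lrfl
def v6626 : LQ := Led Lsl_gf (LP (LK LD1_c3 LD2_c24 LD3_c19))
theorem f654486 : Led Lsl_gf (LP (LK LD1_c3 LD2_c24 LD3_c19)) = v6626 :=
  Lrfl
theorem f125814 : Led Lsl_ft (LP (LK LD1_c4 LD2_c45 LD3_c33)) = (LP (LK LD1_c2 LD2_c20 LD3_c52)) :=
  Lre_f IH (LK LD1_c4 LD2_c45 LD3_c33) (LK LD1_c2 LD2_c20 LD3_c52) Lrfl Lrfl
theorem f654487 : Led Lsl_gt (LP (LK LD1_c4 LD2_c45 LD3_c33)) = v6626 :=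
  Lgr Lrot5 (Lpr_ft (f125814 IH) (Lpr_at (K5.f125804 IH) (Lpr_gf (f654486 IH) (Lpn v6626))))
def v6229 : LQ := Led Lsl_gf (LP (LK LD1_c3 LD2_c19 LD3_c16))
theorem f652218 : Led Lsl_gf (LP (LK LD1_c3 LD2_c19 LD3_c16)) = v6229 :=
  Lrfl
def v17562 : LQ := Led Lsl_bt (LP (LK LD1_c6 LD2_c20 LD3_c29))
theorem f760914 : Led Lsl_bt (LP (LK LD1_c6 LD2_c20 LD3_c29)) = v17562 :=
  Lrfl
def v8619 : LQ := Led Lsl_bt v2127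
theorem f671801 : Led Lsl_bt v2127 = v8619 :=
  Lrfl
theorem f760918 : Led Lsl_gf v8619 = v17562 :=
  Lgr Lrot124 (Lpe (f671801 IH) (Lpr_ct (f671806 IH) (Lpe (f671808 IH) (Lpe (f419110 IH) (Lpr_bt (K57.f419109 IH) (Lpr_gt (K46.f126938 IH) (Lpr_ct (K46.f204601 IH) (Lpr_gt (K57.f110460 IH) (Lpe (K57.f506239 IH) (Lpr_bt (f760914 IH) (Lpn v17562)))))))))))
theorem f760917 : Led Lsl_ff K57.v6230 = v17562 :=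
  Lgr Lrot25 (Lpr_bt (K57.f759994 IH) (Lpe (K57.f759988 IH) (Lpr_bt (f760914 IH) (Lpn v17562))))
theorem f760919 : v8619 = v6229 :=
  (Llr Lrot5 (Lpr_gf (f760918 IH) (Lpe (f760917 IH) (Lpe (K57.f652220 IH) (Lpr_gf (f652218 IH) (Lpn v6229)))))).symm
theorem f770524 : v8619 = (LP (LK LD1_c4 LD2_c45 LD3_c33)) :=
  Lefun (Lecon (f671801 IH) (f770479 IH).symm) (f113682 IH)
theorem f770545 : (LP (LK LD1_c3 LD2_c19 LD3_c16)) = v6626 :=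
  Lefun (Lecon (Lfl_gf (f652218 IH)) ((f760919 IH).symm.trans (f770524 IH))) (f654487 IH)
theorem f509124 : Led Lsl_bt (LP (LK LD1_c1 LD2_c36 LD3_c3)) = (LP (LK LD1_c3 LD2_c19 LD3_c16)) :=
  Lre_b IH (LK LD1_c1 LD2_c36 LD3_c3) (LK LD1_c3 LD2_c19 LD3_c16) Lrfl Lrfl
theorem f770597 : v18571 = (LP (LK LD1_c3 LD2_c19 LD3_c17)) :=
  (Llr Lrot126 (Lpe (f767500 IH) (Lpe (K5.f124657 IH) (Lpe (K5.f114993 IH) (Lpr_gt (f77808 IH) (Lpqs (f769950 IH) (Lpr_ct (f770591 IH) (Lpr_gt (f113701 IH) (Lpe (K4.f113671 IH) (Lpr_bt (f113682 IH) (Lpr_gt (f654487 IH) (Lpq (f770545 IH) (Lpe (f509124 IH) (Lpr_ct (K46.f509125 IH) (Lpn (LP (LK LD1_c3 LD2_c19 LD3_c17))))))))))))))))).symm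
theorem f509129 : Led Lsl_gt (LP (LK LD1_c3 LD2_c19 LD3_c0)) = (LP (LK LD1_c1 LD2_c36 LD3_c3)) :=
  Lre_g IH (LK LD1_c3 LD2_c19 LD3_c0) (LK LD1_c1 LD2_c36 LD3_c3) Lrfl Lrfl
theorem f134791 : Led Lsl_ft (LP (LK LD1_c3 LD2_c19 LD3_c0)) = (LP (LK LD1_c1 LD2_c35 LD3_c59)) :=
  Lre_f IH (LK LD1_c3 LD2_c19 LD3_c0) (LK LD1_c1 LD2_c35 LD3_c59) Lrfl Lrfl
theorem f652035 : Led Lsl_df (LP (LK LD1_c3 LD2_c19 LD3_c0)) = K46.v6201 :=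
  Lgr Lrot78 (Lpr_ft (f134791 IH) (Lpr_dt (K5.f24828 IH) (Lpr_ft (K46.f652033 IH) (Lpn K46.v6201))))
theorem f652036 : Led Lsl_ff (LP (LK LD1_c3 LD2_c18 LD3_c61)) = K46.v6201 :=
  Lgr Lrot3 (Lpr_ft (K46.f652033 IH) (Lpn K46.v6201))
theorem f24838 : Led Lsl_at (LP (LK LD1_c3 LD2_c18 LD3_c61)) = (LP (LK LD1_c1 LD2_c36 LD3_c4)) :=
  Lre_a IH (LK LD1_c3 LD2_c18 LD3_c61) (LK LD1_c1 LD2_c36 LD3_c4) Lrfl Lrfl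
theorem f652043 : Led Lsl_gf (LP (LK LD1_c3 LD2_c19 LD3_c20)) = K46.v6201 :=
  Lgr Lrot47 (Lpr_gt (K49.f24935 IH) (Lpe (f24838 IH) (Lpr_ff (f652036 IH) (Lpn K46.v6201))))
theorem f652045 : Led Lsl_ct (LP (LK LD1_c3 LD2_c19 LD3_c20)) = (LP (LK LD1_c6 LD2_c42 LD3_c42)) :=
  Lre_c IH (LK LD1_c3 LD2_c19 LD3_c20) (LK LD1_c6 LD2_c42 LD3_c42) Lrfl Lrfl
theorem f430535 : Led Lsl_ct (LP (LK LD1_c4 LD2_c48 LD3_c24)) = (LP (LK LD1_c9 LD2_c29 LD3_c31)) :=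
  Lre_c IH (LK LD1_c4 LD2_c48 LD3_c24) (LK LD1_c9 LD2_c29 LD3_c31) Lrfl Lrfl
theorem f432219 : Led Lsl_ct (LP (LK LD1_c12 LD2_c50 LD3_c14)) = (LP (LK LD1_c6 LD2_c42 LD3_c41)) :=
  Lre_c IH (LK LD1_c12 LD2_c50 LD3_c14) (LK LD1_c6 LD2_c42 LD3_c41) Lrfl Lrfl
theorem f675076 : Led Lsl_at (LP (LK LD1_c9 LD2_c29 LD3_c31)) = (LP (LK LD1_c12 LD2_c50 LD3_c14)) :=
  Lgr Lrot107 (Lpe (f430535 IH) (Lpr_af (K49.f675072 IH) (Lpe (f432219 IH) (Lpn (LP (LK LD1_c12 LD2_c50 LD3_c14))))))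
theorem f430529 : Led Lsl_ct (LP (LK LD1_c9 LD2_c29 LD3_c31)) = (LP (LK LD1_c4 LD2_c48 LD3_c24)) :=
  Lre_c IH (LK LD1_c9 LD2_c29 LD3_c31) (LK LD1_c4 LD2_c48 LD3_c24) Lrfl Lrfl
theorem f135743 : Led Lsl_ct (LP (LK LD1_c6 LD2_c41 LD3_c61)) = (LP (LK LD1_c12 LD2_c49 LD3_c4)) :=
  Lre_c IH (LK LD1_c6 LD2_c41 LD3_c61) (LK LD1_c12 LD2_c49 LD3_c4) Lrfl Lrfl
theorem f430530 : Led Lsl_ef (LP (LK LD1_c9 LD2_c29 LD3_c31)) = (LP (LK LD1_c12 LD2_c49 LD3_c4)) :=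
  Lgr Lrot28 (Lpr_ct (f430529 IH) (Lpr_et (K49.f430527 IH) (Lpr_ct (f135743 IH) (Lpn (LP (LK LD1_c12 LD2_c49 LD3_c4))))))
theorem f675061 : Led Lsl_et (LP (LK LD1_c12 LD2_c50 LD3_c14)) = (LP (LK LD1_c6 LD2_c42 LD3_c39)) :=
  Lre_e IH (LK LD1_c12 LD2_c50 LD3_c14) (LK LD1_c6 LD2_c42 LD3_c39) Lrfl Lrfl
theorem f675119 : Led Lsl_af (LP (LK LD1_c12 LD2_c49 LD3_c4)) = (LP (LK LD1_c6 LD2_c42 LD3_c39)) :=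
  Lgr Lrot50 (Lpe (f430530 IH) (Lpr_at (f675076 IH) (Lpr_et (f675061 IH) (Lpn (LP (LK LD1_c6 LD2_c42 LD3_c39))))))
theorem f675121 : Led Lsl_at (LP (LK LD1_c12 LD2_c49 LD3_c4)) = (LP (LK LD1_c6 LD2_c42 LD3_c39)) :=
  Lgr Lrot100 (Lpr_af (f675119 IH) (Lpn (LP (LK LD1_c6 LD2_c42 LD3_c39))))
theorem f652048 : Led Lsl_ct (LP (LK LD1_c6 LD2_c42 LD3_c42)) = (LP (LK LD1_c3 LD2_c19 LD3_c20)) :=
  Lre_c IH (LK LD1_c6 LD2_c42 LD3_c42) (LK LD1_c3 LD2_c19 LD3_c20) Lrfl Lrfl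
theorem f675068 : Led Lsl_ff (LP (LK LD1_c6 LD2_c42 LD3_c42)) = (LP (LK LD1_c12 LD2_c49 LD3_c4)) :=
  Lgr Lrot23 (Lpr_ct (f652048 IH) (Lpr_ft (K49.f652239 IH) (Lpqs (K49.f675063 IH) (Lpr_ct (f135743 IH) (Lpn (LP (LK LD1_c12 LD2_c49 LD3_c4)))))))
theorem f675070 : Led Lsl_ft (LP (LK LD1_c6 LD2_c42 LD3_c42)) = (LP (LK LD1_c12 LD2_c49 LD3_c4)) :=
  Lgr Lrot48 (Lpr_ff (f675068 IH) (Lpn (LP (LK LD1_c12 LD2_c49 LD3_c4))))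
theorem f652059 : Led Lsl_gt (LP (LK LD1_c12 LD2_c50 LD3_c12)) = (LP (LK LD1_c6 LD2_c42 LD3_c39)) :=
  Lre_g IH (LK LD1_c12 LD2_c50 LD3_c12) (LK LD1_c6 LD2_c42 LD3_c39) Lrfl Lrfl
theorem f675135 : Led Lsl_gt (LP (LK LD1_c6 LD2_c42 LD3_c42)) = (LP (LK LD1_c12 LD2_c50 LD3_c12)) :=
  Lgr Lrot5 (Lpr_ft (f675070 IH) (Lpr_at (f675121 IH) (Lpe (f652059 IH) (Lpn (LP (LK LD1_c12 LD2_c50 LD3_c12))))))
theorem f770611 : Led Lsl_cf (LP (LK LD1_c7 LD2_c20 LD3_c10)) = (LP (LK LD1_c12 LD2_c50 LD3_c12)) :=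
  Lgr Lrot99 (Lpr_df (f115140 IH) (Lpr_cf (f124602 IH) (Lpr_gf (f767500 IH) (Lpqs (f770597 IH) (Lpe (K46.f509125 IH) (Lpe (f509129 IH) (Lpr_df (f652035 IH) (Lpe (f652043 IH) (Lpr_ct (f652045 IH) (Lpr_gt (f675135 IH) (Lpn (LP (LK LD1_c12 LD2_c50 LD3_c12)))))))))))))
theorem f770612 : Led Lsl_ct (LP (LK LD1_c12 LD2_c50 LD3_c12)) = (LP (LK LD1_c7 LD2_c20 LD3_c10)) :=
  Leop (Lpr_cf (f770611 IH) (Lpn (LP (LK LD1_c12 LD2_c50 LD3_c12))))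
theorem seed_1296 : LEOK LG_c (LK LD1_c12 LD2_c50 LD3_c12) :=
  Leoe_c (LK LD1_c12 LD2_c50 LD3_c12) (f770612 IH)
theorem f92184 : Led Lsl_bt (LP (LK LD1_c9 LD2_c28 LD3_c36)) = (LP (LK LD1_c4 LD2_c47 LD3_c50)) :=
  Lre_b IH (LK LD1_c9 LD2_c28 LD3_c36) (LK LD1_c4 LD2_c47 LD3_c50) Lrfl Lrfl
theorem f770586 : Led Lsl_bt (LP (LK LD1_c9 LD2_c22 LD3_c49)) = (LP (LK LD1_c17 LD2_c19 LD3_c14)) :=
  Lre_b IH (LK LD1_c9 LD2_c22 LD3_c49) (LK LD1_c17 LD2_c19 LD3_c14) Lrfl Lrfl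
theorem f770595 : Led Lsl_cf (LP (LK LD1_c9 LD2_c28 LD3_c36)) = (LP (LK LD1_c17 LD2_c19 LD3_c14)) :=
  Lgr Lrot97 (Lpr_bt (f92184 IH) (Lpr_ct (K57.f704688 IH) (Lpq (K57.f715893 IH) (Lpr_bt (K57.f760041 IH) (Lpr_ct (f770591 IH) (Lpr_bt (f770586 IH) (Lpn (LP (LK LD1_c17 LD2_c19 LD3_c14)))))))))
theorem f770647 : Led Lsl_ct (LP (LK LD1_c9 LD2_c28 LD3_c36)) = (LP (LK LD1_c17 LD2_c19 LD3_c14)) :=
  Lgr Lrot59 (Lpr_cf (f770595 IH) (Lpn (LP (LK LD1_c17 LD2_c19 LD3_c14))))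
theorem f92132 : Led Lsl_ct (LP (LK LD1_c4 LD2_c34 LD3_c32)) = (LP (LK LD1_c2 LD2_c14 LD3_c15)) :=
  Lre_c IH (LK LD1_c4 LD2_c34 LD3_c32) (LK LD1_c2 LD2_c14 LD3_c15) Lrfl Lrfl
theorem f699596 : Led Lsl_cf (LP (LK LD1_c4 LD2_c34 LD3_c34)) = K50.v12920 :=
  Lgr Lrot11 (Lpr_ct (K50.f699595 IH) (Lpn K50.v12920))
theorem f669218 : Led Lsl_bt (LP (LK LD1_c20 LD2_c46 LD3_c0)) = (LP (LK LD1_c11 LD2_c44 LD3_c39)) :=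
  Lre_b IH (LK LD1_c20 LD2_c46 LD3_c0) (LK LD1_c11 LD2_c44 LD3_c39) Lrfl Lrfl
theorem f502587 : Led Lsl_ct (LP (LK LD1_c20 LD2_c46 LD3_c0)) = (LP (LK LD1_c11 LD2_c44 LD3_c50)) :=
  Lre_c IH (LK LD1_c20 LD2_c46 LD3_c0) (LK LD1_c11 LD2_c44 LD3_c50) Lrfl Lrfl
theorem f770653 : Led Lsl_gf (LP (LK LD1_c11 LD2_c44 LD3_c50)) = (LP (LK LD1_c17 LD2_c19 LD3_c14)) :=
  Lgr Lrot126 (Lpe (f502587 IH) (Lpr_bt (f669218 IH) (Lpr_gt (K50.f699597 IH) (Lpe (f699596 IH) (Lpr_gt (K50.f92151 IH) (Lpe (f92132 IH) (Lpr_bt (K6.f92155 IH) (Lpr_gt (K57.f87628 IH) (Lpe (f92184 IH) (Lpr_ct (f770647 IH) (Lpn (LP (LK LD1_c17 LD2_c19 LD3_c14)))))))))))))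
theorem f770654 : Led Lsl_gt (LP (LK LD1_c17 LD2_c19 LD3_c14)) = (LP (LK LD1_c11 LD2_c44 LD3_c50)) :=
  Leop (Lpr_gf (f770653 IH) (Lpn (LP (LK LD1_c17 LD2_c19 LD3_c14))))
theorem seed_1297 : LEOK LG_g (LK LD1_c17 LD2_c19 LD3_c14) :=
  Leoe_g (LK LD1_c17 LD2_c19 LD3_c14) (f770654 IH)
theorem f701225 : Led Lsl_ff (LP (LK LD1_c4 LD2_c40 LD3_c10)) = v13121 :=
  Lgr Lrot3 (Lpr_ft (f701222 IH) (Lpn v13121))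
theorem f78074 : Led Lsl_ft (LP (LK LD1_c2 LD2_c21 LD3_c10)) = (LP (LK LD1_c4 LD2_c46 LD3_c23)) :=
  Lre_f IH (LK LD1_c2 LD2_c21 LD3_c10) (LK LD1_c4 LD2_c46 LD3_c23) Lrfl Lrfl
theorem f701227 : Led Lsl_ct (LP (LK LD1_c4 LD2_c46 LD3_c23)) = v13121 :=
  Lgr Lrot40 (Lpe (f78074 IH) (Lpr_cf (K5.f78056 IH) (Lpr_ff (f701225 IH) (Lpn v13121))))
def v17282 : LQ := Led Lsl_gf (LP (LK LD1_c6 LD2_c17 LD3_c17))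
theorem f758129 : Led Lsl_gf (LP (LK LD1_c6 LD2_c17 LD3_c17)) = v17282 :=
  Lrfl
theorem f758130 : Led Lsl_gt v13121 = v17282 :=
  Lgr Lrot5 (Lpe (f701225 IH) (Lpe (K5.f115020 IH) (Lpr_gf (f758129 IH) (Lpn v17282))))
theorem f770162 : (LP (LK LD1_c6 LD2_c20 LD3_c45)) = v17282 :=
  Lefun (Lecon (Lfl_gt (f760040 IH)) (f770158 IH)) (f758129 IH)
def v13544 : LQ := Led Lsl_gt (LP (LK LD1_c4 LD2_c45 LD3_c12))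
theorem f703538 : Led Lsl_gt (LP (LK LD1_c4 LD2_c45 LD3_c12)) = v13544 :=
  Lrfl
theorem f99192 : Led Lsl_ft (LP (LK LD1_c4 LD2_c45 LD3_c12)) = (LP (LK LD1_c9 LD2_c23 LD3_c4)) :=
  Lre_f IH (LK LD1_c4 LD2_c45 LD3_c12) (LK LD1_c9 LD2_c23 LD3_c4) Lrfl Lrfl
theorem f78084 : Led Lsl_ft (LP (LK LD1_c4 LD2_c46 LD3_c23)) = (LP (LK LD1_c2 LD2_c21 LD3_c10)) :=
  Lre_f IH (LK LD1_c4 LD2_c46 LD3_c23) (LK LD1_c2 LD2_c21 LD3_c10) Lrfl Lrfl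
theorem f115028 : Led Lsl_at (LP (LK LD1_c9 LD2_c23 LD3_c4)) = (LP (LK LD1_c4 LD2_c46 LD3_c23)) :=
  Lgr Lrot66 (Lpe (f99192 IH) (Lpr_af (K7.f115022 IH) (Lpe (f78084 IH) (Lpn (LP (LK LD1_c4 LD2_c46 LD3_c23))))))
theorem f703539 : Led Lsl_gf (LP (LK LD1_c4 LD2_c46 LD3_c23)) = v13544 :=
  Lgr Lrot76 (Lpe (f115028 IH) (Lpe (f99192 IH) (Lpr_gt (f703538 IH) (Lpn v13544))))
theorem f770164 : v6243 = (LP (LK LD1_c4 LD2_c45 LD3_c12)) :=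
  Lefun (Lecon (Lfl_cf (f760089 IH)) (f770158 IH)) (Lfl_cf (K7.f99181 IH))
theorem f770170 : (LP (LK LD1_c3 LD2_c19 LD3_c23)) = v13544 :=
  Lefun (Lecon (Lfl_gf (f652270 IH)) (f770164 IH)) (f703538 IH)
theorem f502738 : Led Lsl_ct (LP (LK LD1_c6 LD2_c0 LD3_c17)) = (LP (LK LD1_c2 LD2_c56 LD3_c26)) :=
  Lre_c IH (LK LD1_c6 LD2_c0 LD3_c17) (LK LD1_c2 LD2_c56 LD3_c26) Lrfl Lrfl
theorem f501996 : Led Lsl_bt (LP (LK LD1_c2 LD2_c56 LD3_c25)) = (LP (LK LD1_c6 LD2_c0 LD3_c11)) :=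
  Lre_b IH (LK LD1_c2 LD2_c56 LD3_c25) (LK LD1_c6 LD2_c0 LD3_c11) Lrfl Lrfl
def v16421 : LQ := Led Lsl_gf (LP (LK LD1_c6 LD2_c0 LD3_c11))
theorem f749277 : Led Lsl_gf (LP (LK LD1_c6 LD2_c0 LD3_c11)) = v16421 :=
  Lrfl
theorem f770181 : Led Lsl_bt v17612 = v16421 :=
  Lgr Lrot22 (Lpe (f761114 IH) (Lpqs (f770162 IH) (Lpe (f758130 IH) (Lpe (f701227 IH) (Lpr_gf (f703539 IH) (Lpq (f770170 IH) (Lpr_bf (K57.f644213 IH) (Lpr_ct (f502738 IH) (Lpe (K45.f75065 IH) (Lpe (K50.f500823 IH) (Lpr_bt (f501996 IH) (Lpr_gf (f749277 IH) (Lpn v16421)))))))))))))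
theorem f113704 : Led Lsl_bt (LP (LK LD1_c17 LD2_c19 LD3_c14)) = (LP (LK LD1_c9 LD2_c22 LD3_c49)) :=
  Lre_b IH (LK LD1_c17 LD2_c19 LD3_c14) (LK LD1_c9 LD2_c22 LD3_c49) Lrfl Lrfl
theorem f770590 : Led Lsl_ft v16421 = (LP (LK LD1_c17 LD2_c19 LD3_c14)) :=
  Lgr Lrot75 (Lpe (f770181 IH) (Lpr_ff (f770589 IH) (Lpe (f113704 IH) (Lpn (LP (LK LD1_c17 LD2_c19 LD3_c14))))))
theorem f607243 : Led Lsl_gt (LP (LK LD1_c6 LD2_c0 LD3_c11)) = (LP (LK LD1_c11 LD2_c44 LD3_c48)) :=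
  Lre_g IH (LK LD1_c6 LD2_c0 LD3_c11) (LK LD1_c11 LD2_c44 LD3_c48) Lrfl Lrfl
theorem f770655 : Led Lsl_af (LP (LK LD1_c11 LD2_c44 LD3_c48)) = (LP (LK LD1_c17 LD2_c19 LD3_c14)) :=
  Lgr Lrot31 (Lpe (f607243 IH) (Lpr_gf (f749277 IH) (Lpr_ft (f770590 IH) (Lpn (LP (LK LD1_c17 LD2_c19 LD3_c14))))))
theorem f770656 : Led Lsl_at (LP (LK LD1_c17 LD2_c19 LD3_c14)) = (LP (LK LD1_c11 LD2_c44 LD3_c48)) :=
  Leop (Lpr_af (f770655 IH) (Lpn (LP (LK LD1_c17 LD2_c19 LD3_c14))))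
theorem seed_1298 : LEOK LG_a (LK LD1_c17 LD2_c19 LD3_c14) :=
  Leoe_a (LK LD1_c17 LD2_c19 LD3_c14) (f770656 IH)
def v13562 : LQ := Led Lsl_ft (LP (LK LD1_c4 LD2_c45 LD3_c30))
theorem f703702 : Led Lsl_ft (LP (LK LD1_c4 LD2_c45 LD3_c30)) = v13562 :=
  Lrfl
theorem f703704 : Led Lsl_ff (LP (LK LD1_c4 LD2_c45 LD3_c30)) = v13562 :=
  Lgr Lrot3 (Lpr_ft (f703702 IH) (Lpn v13562))
def v13559 : LQ := Led Lsl_at (LP (LK LD1_c4 LD2_c45 LD3_c30))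
theorem f703692 : Led Lsl_at (LP (LK LD1_c4 LD2_c45 LD3_c30)) = v13559 :=
  Lrfl
theorem f703693 : Led Lsl_af (LP (LK LD1_c4 LD2_c45 LD3_c30)) = v13559 :=
  Lgr Lrot0 (Lpr_at (f703692 IH) (Lpn v13559))
theorem f78219 : Led Lsl_gt (LP (LK LD1_c2 LD2_c20 LD3_c52)) = (LP (LK LD1_c4 LD2_c45 LD3_c30)) :=
  Lre_g IH (LK LD1_c2 LD2_c20 LD3_c52) (LK LD1_c4 LD2_c45 LD3_c30) Lrfl Lrfl
theorem f78221 : Led Lsl_gt (LP (LK LD1_c4 LD2_c45 LD3_c31)) = (LP (LK LD1_c2 LD2_c20 LD3_c52)) :=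
  Lre_g IH (LK LD1_c4 LD2_c45 LD3_c31) (LK LD1_c2 LD2_c20 LD3_c52) Lrfl Lrfl
theorem f703694 : Led Lsl_ft (LP (LK LD1_c4 LD2_c45 LD3_c31)) = v13559 :=
  Lgr Lrot2 (Lpr_gt (f78221 IH) (Lpr_gt (f78219 IH) (Lpr_af (f703693 IH) (Lpn v13559))))
theorem f703695 : Led Lsl_ff (LP (LK LD1_c4 LD2_c45 LD3_c31)) = v13559 :=
  Lgr Lrot3 (Lpr_ft (f703694 IH) (Lpn v13559))
theorem f703705 : Led Lsl_at (LP (LK LD1_c4 LD2_c45 LD3_c31)) = v13562 :=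
  Lgr Lrot66 (Lpr_ff (f703695 IH) (Lpe (f703692 IH) (Lpr_ff (f703704 IH) (Lpn v13562))))
def v13560 : LQ := Led Lsl_bt (LP (LK LD1_c4 LD2_c45 LD3_c30))
theorem f703696 : Led Lsl_bt (LP (LK LD1_c4 LD2_c45 LD3_c30)) = v13560 :=
  Lrfl
theorem f703697 : Led Lsl_bf (LP (LK LD1_c4 LD2_c45 LD3_c30)) = v13560 :=
  Lgr Lrot24 (Lpr_bt (f703696 IH) (Lpn v13560))
def v6628 : LQ := Led Lsl_ft (LP (LK LD1_c3 LD2_c24 LD3_c19))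
theorem f654494 : Led Lsl_ft (LP (LK LD1_c3 LD2_c24 LD3_c19)) = v6628 :=
  Lrfl
def v6557 : LQ := Led Lsl_ft (LP (LK LD1_c3 LD2_c23 LD3_c30))
theorem f653912 : Led Lsl_ft (LP (LK LD1_c3 LD2_c23 LD3_c30)) = v6557 :=
  Lrfl
theorem f653913 : Led Lsl_ff (LP (LK LD1_c3 LD2_c23 LD3_c30)) = v6557 :=
  Lgr Lrot3 (Lpr_ft (f653912 IH) (Lpn v6557))
theorem f654496 : Led Lsl_cf v6557 = v6628 :=
  Lgr Lrot108 (Lpe (f653913 IH) (Lpe (K5.f83752 IH) (Lpr_ft (f654494 IH) (Lpn v6628))))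
theorem f654497 : Led Lsl_ff (LP (LK LD1_c3 LD2_c24 LD3_c19)) = v6628 :=
  Lgr Lrot3 (Lpr_ft (f654494 IH) (Lpn v6628))
theorem f125806 : Led Lsl_ft (LP (LK LD1_c2 LD2_c20 LD3_c52)) = (LP (LK LD1_c4 LD2_c45 LD3_c33)) :=
  Lre_f IH (LK LD1_c2 LD2_c20 LD3_c52) (LK LD1_c4 LD2_c45 LD3_c33) Lrfl Lrfl
theorem f654499 : Led Lsl_at (LP (LK LD1_c4 LD2_c45 LD3_c33)) = v6628 :=
  Lgr Lrot66 (Lpe (f125806 IH) (Lpr_af (K5.f125802 IH) (Lpr_ff (f654497 IH) (Lpn v6628))))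
theorem f654502 : Led Lsl_gt (LP (LK LD1_c4 LD2_c45 LD3_c30)) = v6628 :=
  Lgr Lrot46 (Lpe (f78219 IH) (Lpr_ft (f125806 IH) (Lpr_at (f654499 IH) (Lpn v6628))))
def v13557 : LQ := Led Lsl_gf (LP (LK LD1_c4 LD2_c45 LD3_c29))
theorem f703677 : Led Lsl_gf (LP (LK LD1_c4 LD2_c45 LD3_c29)) = v13557 :=
  Lrfl
theorem f125798 : Led Lsl_af (LP (LK LD1_c4 LD2_c45 LD3_c29)) = (LP (LK LD1_c3 LD2_c23 LD3_c30)) :=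
  Lgr Lrot0 (Lpr_at (K5.f125796 IH) (Lpn (LP (LK LD1_c3 LD2_c23 LD3_c30))))
theorem f703678 : Led Lsl_gt v6557 = v13557 :=
  Lgr Lrot5 (Lpe (f653913 IH) (Lpe (f125798 IH) (Lpr_gf (f703677 IH) (Lpn v13557))))
def v13258 : LQ := Led Lsl_at (LP (LK LD1_c4 LD2_c42 LD3_c0))
theorem f701960 : Led Lsl_at (LP (LK LD1_c4 LD2_c42 LD3_c0)) = v13258 :=
  Lrfl
theorem f82775 : Led Lsl_ct (LP (LK LD1_c4 LD2_c42 LD3_c0)) = (LP (LK LD1_c2 LD2_c18 LD3_c20)) :=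
  Lre_c IH (LK LD1_c4 LD2_c42 LD3_c0) (LK LD1_c2 LD2_c18 LD3_c20) Lrfl Lrfl
theorem f436253 : Led Lsl_bf (LP (LK LD1_c4 LD2_c42 LD3_c0)) = (LP (LK LD1_c5 LD2_c50 LD3_c29)) :=
  Lgr Lrot90 (Lpr_ct (f82775 IH) (Lpr_bt (K46.f82704 IH) (Lpr_ct (K24.f436245 IH) (Lpr_bt (K42.f436252 IH) (Lpr_ct (K42.f146050 IH) (Lpn (LP (LK LD1_c5 LD2_c50 LD3_c29))))))))
theorem f504779 : Led Lsl_bt (LP (LK LD1_c3 LD2_c8 LD3_c39)) = (LP (LK LD1_c6 LD2_c21 LD3_c55)) :=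
  Lre_b IH (LK LD1_c3 LD2_c8 LD3_c39) (LK LD1_c6 LD2_c21 LD3_c55) Lrfl Lrfl
theorem f506212 : Led Lsl_ft (LP (LK LD1_c4 LD2_c42 LD3_c0)) = (LP (LK LD1_c3 LD2_c8 LD3_c39)) :=
  Lgr Lrot75 (Lpr_bf (f436253 IH) (Lpr_ff (K42.f506201 IH) (Lpe (f504779 IH) (Lpn (LP (LK LD1_c3 LD2_c8 LD3_c39))))))
theorem f506215 : Led Lsl_ff (LP (LK LD1_c4 LD2_c42 LD3_c0)) = (LP (LK LD1_c3 LD2_c8 LD3_c39)) :=
  Lgr Lrot3 (Lpr_ft (f506212 IH) (Lpn (LP (LK LD1_c3 LD2_c8 LD3_c39))))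
theorem f506217 : Led Lsl_at (LP (LK LD1_c6 LD2_c21 LD3_c51)) = (LP (LK LD1_c3 LD2_c8 LD3_c39)) :=
  Lre_a IH (LK LD1_c6 LD2_c21 LD3_c51) (LK LD1_c3 LD2_c8 LD3_c39) Lrfl Lrfl
theorem f701963 : Led Lsl_ff (LP (LK LD1_c6 LD2_c21 LD3_c51)) = v13258 :=
  Lgr Lrot30 (Lpr_at (f506217 IH) (Lpe (f506215 IH) (Lpr_at (f701960 IH) (Lpn v13258))))
theorem f701966 : Led Lsl_ft (LP (LK LD1_c6 LD2_c21 LD3_c51)) = v13258 :=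
  Lgr Lrot48 (Lpr_ff (f701963 IH) (Lpn v13258))
theorem f701961 : Led Lsl_af (LP (LK LD1_c4 LD2_c42 LD3_c0)) = v13258 :=
  Lgr Lrot0 (Lpr_at (f701960 IH) (Lpn v13258))
def v13257 : LQ := Led Lsl_gf (LP (LK LD1_c4 LD2_c42 LD3_c0))
theorem f701959 : Led Lsl_gf (LP (LK LD1_c4 LD2_c42 LD3_c0)) = v13257 :=
  Lrfl
theorem f701968 : Led Lsl_gt (LP (LK LD1_c6 LD2_c21 LD3_c51)) = v13257 :=
  Lgr Lrot5 (Lpr_ft (f701966 IH) (Lpe (f701961 IH) (Lpr_gf (f701959 IH) (Lpn v13257))))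
theorem f113653 : Led Lsl_bt (LP (LK LD1_c2 LD2_c20 LD3_c52)) = (LP (LK LD1_c1 LD2_c7 LD3_c48)) :=
  Lre_b IH (LK LD1_c2 LD2_c20 LD3_c52) (LK LD1_c1 LD2_c7 LD3_c48) Lrfl Lrfl
theorem f441198 : Led Lsl_ct (LP (LK LD1_c2 LD2_c20 LD3_c58)) = (LP (LK LD1_c4 LD2_c45 LD3_c50)) :=
  Lre_c IH (LK LD1_c2 LD2_c20 LD3_c58) (LK LD1_c4 LD2_c45 LD3_c50) Lrfl Lrfl
def v13587 : LQ := Led Lsl_gt (LP (LK LD1_c4 LD2_c45 LD3_c50))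
theorem f703775 : Led Lsl_gt (LP (LK LD1_c4 LD2_c45 LD3_c50)) = v13587 :=
  Lrfl
def v13590 : LQ := Led Lsl_ft (LP (LK LD1_c4 LD2_c45 LD3_c50))
theorem f703789 : Led Lsl_ft (LP (LK LD1_c4 LD2_c45 LD3_c50)) = v13590 :=
  Lrfl
def v13589 : LQ := Led Lsl_at (LP (LK LD1_c4 LD2_c45 LD3_c50))
theorem f703781 : Led Lsl_at (LP (LK LD1_c4 LD2_c45 LD3_c50)) = v13589 :=
  Lrfl
theorem f703782 : Led Lsl_af (LP (LK LD1_c4 LD2_c45 LD3_c50)) = v13589 :=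
  Lgr Lrot0 (Lpr_at (f703781 IH) (Lpn v13589))
theorem f703783 : Led Lsl_cf K57.v4410 = v13589 :=
  Lgr Lrot1 (Lpe (K57.f633233 IH) (Lpr_ct (f441198 IH) (Lpr_at (f703781 IH) (Lpn v13589))))
theorem f441211 : Led Lsl_ct (LP (LK LD1_c2 LD2_c20 LD3_c59)) = (LP (LK LD1_c4 LD2_c45 LD3_c53)) :=
  Lre_c IH (LK LD1_c2 LD2_c20 LD3_c59) (LK LD1_c4 LD2_c45 LD3_c53) Lrfl Lrfl
theorem f703785 : Led Lsl_ft (LP (LK LD1_c4 LD2_c45 LD3_c53)) = v13589 :=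
  Lgr Lrot4 (Lpe (f441211 IH) (Lpr_ff (K57.f633237 IH) (Lpr_cf (f703783 IH) (Lpn v13589))))
theorem f703790 : Led Lsl_af (LP (LK LD1_c4 LD2_c45 LD3_c53)) = v13590 :=
  Lgr Lrot45 (Lpr_ft (f703785 IH) (Lpe (f703782 IH) (Lpr_ft (f703789 IH) (Lpn v13590))))
theorem f703793 : Led Lsl_gt v13587 = (LP (LK LD1_c4 LD2_c45 LD3_c53)) :=
  Lgr Lrot46 (Lpe (f703775 IH) (Lpr_ft (f703789 IH) (Lpe (f703790 IH) (Lpn (LP (LK LD1_c4 LD2_c45 LD3_c53))))))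
def v4464 : LQ := Led Lsl_bt (LP (LK LD1_c2 LD2_c21 LD3_c57))
theorem f634027 : Led Lsl_bt (LP (LK LD1_c2 LD2_c21 LD3_c57)) = v4464 :=
  Lrfl
theorem f634029 : Led Lsl_ef v1359 = v4464 :=
  Lgr Lrot29 (Lpe (f495113 IH) (Lpr_et (K35.f27082 IH) (Lpr_bt (f634027 IH) (Lpn v4464))))
theorem f494896 : Led Lsl_et (LP (LK LD1_c1 LD2_c36 LD3_c6)) = (LP (LK LD1_c3 LD2_c19 LD3_c25)) :=
  Lre_e IH (LK LD1_c1 LD2_c36 LD3_c6) (LK LD1_c3 LD2_c19 LD3_c25) Lrfl Lrfl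
theorem f507814 : Led Lsl_ft v1359 = (LP (LK LD1_c1 LD2_c36 LD3_c6)) :=
  Lgr Lrot48 (Lpr_ff (f507813 IH) (Lpn (LP (LK LD1_c1 LD2_c36 LD3_c6))))
theorem f649937 : Led Lsl_ff v4464 = v5882 :=
  Lgr Lrot72 (Lpe (f634029 IH) (Lpr_ft (f507814 IH) (Lpr_et (f494896 IH) (Lpr_ft (K57.f507234 IH) (Lpr_et (f649934 IH) (Lpn v5882))))))
theorem f770422 : (LP (LK LD1_c4 LD2_c45 LD3_c55)) = v4464 :=
  Lefun (Lecon (Lfl_ff (f703884 IH)) (f770419 IH)) (Lfl_ff (f649937 IH))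
theorem f770435 : v1359 = (LP (LK LD1_c2 LD2_c20 LD3_c59)) :=
  Lefun (Lecon (Lfl_ef (f634029 IH)) (f770422 IH).symm) (K57.f78500 IH)
theorem f770456 : v6245 = (LP (LK LD1_c4 LD2_c45 LD3_c53)) :=
  Lefun (Lecon (f652278 IH) (f770435 IH)) (f441211 IH)
theorem f770498 : (LP (LK LD1_c9 LD2_c23 LD3_c4)) = v13587 :=
  Lefun (Lecon (Lfl_gt (f633288 IH)) ((f769986 IH).symm.trans (f770456 IH))) (Lfl_gt (f703793 IH))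
theorem f505906 : Led Lsl_ct (LP (LK LD1_c3 LD2_c8 LD3_c38)) = (LP (LK LD1_c6 LD2_c21 LD3_c51)) :=
  Lre_c IH (LK LD1_c3 LD2_c8 LD3_c38) (LK LD1_c6 LD2_c21 LD3_c51) Lrfl Lrfl
theorem f770680 : v13257 = (LP (LK LD1_c4 LD2_c45 LD3_c29)) :=
  (Llr Lrot65 (Lpe (f701968 IH) (Lpe (f505906 IH) (Lpe (K46.f506109 IH) (Lpe (f506116 IH) (Lpr_bf (K57.f647877 IH) (Lpq (f769935 IH) (Lpe (f758134 IH) (Lpqs (f770498 IH) (Lpe (f703775 IH) (Lpe (f441198 IH) (Lpe (K49.f78236 IH) (Lpe (f113653 IH) (Lpr_ct (K5.f125801 IH) (Lpn (LP (LK LD1_c4 LD2_c45 LD3_c29))))))))))))))))).symm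
theorem f770683 : (LP (LK LD1_c6 LD2_c21 LD3_c51)) = v13557 :=
  Lefun (Lecon (Lfl_gt (f701968 IH)) (f770680 IH)) (f703677 IH)
theorem f453512 : Led Lsl_at (LP (LK LD1_c3 LD2_c8 LD3_c25)) = (LP (LK LD1_c1 LD2_c30 LD3_c25)) :=
  Lre_a IH (LK LD1_c3 LD2_c8 LD3_c25) (LK LD1_c1 LD2_c30 LD3_c25) Lrfl Lrfl
theorem f506066 : Led Lsl_gf v1872 = (LP (LK LD1_c4 LD2_c42 LD3_c6)) :=
  Lgr Lrot47 (Lpe (f504650 IH) (Lpe (f453512 IH) (Lpr_ff (K46.f506056 IH) (Lpn (LP (LK LD1_c4 LD2_c42 LD3_c6))))))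
theorem f769926 : Led Lsl_gt (LP (LK LD1_c7 LD2_c20 LD3_c2)) = K46.v6219 :=
  Lgr Lrot46 (Lpr_gf (f769923 IH) (Lpq (K57.f663699 IH) (Lpe (K57.f652153 IH) (Lpr_at (K46.f652137 IH) (Lpn K46.v6219)))))
theorem f652140 : Led Lsl_ct K46.v2124 = K46.v6219 :=
  Lgr Lrot59 (Lpr_cf (K46.f652139 IH) (Lpn K46.v6219))
theorem f134824 : Led Lsl_ct (LP (LK LD1_c3 LD2_c18 LD3_c59)) = (LP (LK LD1_c6 LD2_c41 LD3_c58)) :=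
  Lre_c IH (LK LD1_c3 LD2_c18 LD3_c59) (LK LD1_c6 LD2_c41 LD3_c58) Lrfl Lrfl
theorem f663680 : K46.v6219 = (LP (LK LD1_c6 LD2_c41 LD3_c58)) :=
  Lefun (Lecon (f652140 IH) (K57.f663675 IH)) (f134824 IH)
theorem f770686 : v13560 = (LP (LK LD1_c3 LD2_c18 LD3_c59)) :=
  (Llr Lrot165 (Lpe (f703697 IH) (Lpr_gt (f654502 IH) (Lpe (f654496 IH) (Lpr_gt (f703678 IH) (Lpq (f770683 IH) (Lpe (f505906 IH) (Lpe (K46.f506109 IH) (Lpe (f506066 IH) (Lpq (f769930 IH) (Lpr_bf (K5.f115004 IH) (Lpr_ct (f115018 IH) (Lpr_gt (f769926 IH) (Lpqs (f663680 IH) (Lpe (f134824 IH) (Lpn (LP (LK LD1_c3 LD2_c18 LD3_c59)))))))))))))))))).symm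
theorem f770687 : (LP (LK LD1_c4 LD2_c45 LD3_c30)) = K57.v6197 :=
  Lefun (Lecon (Lfl_bf (f703697 IH)) (f770686 IH)) (K57.f652018 IH)
theorem f770693 : (LP (LK LD1_c3 LD2_c19 LD3_c16)) = v13562 :=
  Lefun (Lecon (Lfl_ff (K57.f652227 IH)) ((K57.f663679 IH).trans (f770687 IH).symm)) (f703702 IH)
theorem f770697 : Led Lsl_at (LP (LK LD1_c4 LD2_c45 LD3_c31)) = (LP (LK LD1_c3 LD2_c19 LD3_c16)) :=
  Leop (Lpqs (f770693 IH) (Lpe (f703705 IH) (Lpn (LP (LK LD1_c4 LD2_c45 LD3_c31)))))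
theorem seed_1299 : LEOK LG_a (LK LD1_c4 LD2_c45 LD3_c31) :=
  Leoe_a (LK LD1_c4 LD2_c45 LD3_c31) (f770697 IH)
def v5832 : LQ := Led Lsl_et (LP (LK LD1_c3 LD2_c13 LD3_c54))
theorem f649714 : Led Lsl_et (LP (LK LD1_c3 LD2_c13 LD3_c54)) = v5832 :=
  Lrfl
theorem f125626 : Led Lsl_gf (LP (LK LD1_c6 LD2_c30 LD3_c53)) = (LP (LK LD1_c3 LD2_c13 LD3_c46)) :=
  Lgr Lrot179 (Lpr_ct (K7.f124634 IH) (Lpr_gt (K6.f26196 IH) (Lpr_ct (K6.f124652 IH) (Lpr_dt (K6.f125620 IH) (Lpe (K5.f124121 IH) (Lpe (K5.f124127 IH) (Lpr_cf (K42.f124598 IH) (Lpe (K5.f124610 IH) (Lpr_dt (K4.f23694 IH) (Lpn (LP (LK LD1_c3 LD2_c13 LD3_c46))))))))))))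
theorem f124116 : Led Lsl_et (LP (LK LD1_c6 LD2_c30 LD3_c47)) = (LP (LK LD1_c3 LD2_c13 LD3_c33)) :=
  Lre_e IH (LK LD1_c6 LD2_c30 LD3_c47) (LK LD1_c3 LD2_c13 LD3_c33) Lrfl Lrfl
theorem f124117 : Led Lsl_dt (LP (LK LD1_c6 LD2_c30 LD3_c47)) = (LP (LK LD1_c12 LD2_c30 LD3_c22)) :=
  Lre_d IH (LK LD1_c6 LD2_c30 LD3_c47) (LK LD1_c12 LD2_c30 LD3_c22) Lrfl Lrfl
theorem f23737 : Led Lsl_ct (LP (LK LD1_c1 LD2_c33 LD3_c41)) = (LP (LK LD1_c3 LD2_c14 LD3_c21)) :=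
  Lre_c IH (LK LD1_c1 LD2_c33 LD3_c41) (LK LD1_c3 LD2_c14 LD3_c21) Lrfl Lrfl
theorem f649860 : Led Lsl_ft (LP (LK LD1_c3 LD2_c14 LD3_c21)) = v5862 :=
  Lgr Lrot4 (Lpe (f23737 IH) (Lpr_ff (K46.f506903 IH) (Lpr_cf (f649858 IH) (Lpn v5862))))
theorem f649857 : Led Lsl_af (LP (LK LD1_c3 LD2_c14 LD3_c18)) = v5862 :=
  Lgr Lrot0 (Lpr_at (f649856 IH) (Lpn v5862))
def v5861 : LQ := Led Lsl_gf (LP (LK LD1_c3 LD2_c14 LD3_c18))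
theorem f649854 : Led Lsl_gf (LP (LK LD1_c3 LD2_c14 LD3_c18)) = v5861 :=
  Lrfl
theorem f649863 : Led Lsl_gt (LP (LK LD1_c3 LD2_c14 LD3_c21)) = v5861 :=
  Lgr Lrot5 (Lpr_ft (f649860 IH) (Lpe (f649857 IH) (Lpr_gf (f649854 IH) (Lpn v5861))))
theorem f22668 : Led Lsl_et (LP (LK LD1_c3 LD2_c13 LD3_c48)) = (LP (LK LD1_c6 LD2_c31 LD3_c12)) :=
  Lre_e IH (LK LD1_c3 LD2_c13 LD3_c48) (LK LD1_c6 LD2_c31 LD3_c12) Lrfl Lrfl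
theorem f156528 : Led Lsl_ct (LP (LK LD1_c6 LD2_c31 LD3_c12)) = (LP (LK LD1_c9 LD2_c21 LD3_c3)) :=
  Lgr Lrot15 (Lpe (f22668 IH) (Lpr_cf (K8.f156522 IH) (Lpe (K8.f25308 IH) (Lpn (LP (LK LD1_c9 LD2_c21 LD3_c3))))))
theorem f156532 : Led Lsl_cf (LP (LK LD1_c6 LD2_c31 LD3_c12)) = (LP (LK LD1_c9 LD2_c21 LD3_c3)) :=
  Lgr Lrot11 (Lpr_ct (f156528 IH) (Lpn (LP (LK LD1_c9 LD2_c21 LD3_c3))))
theorem f22679 : Led Lsl_bt (LP (LK LD1_c6 LD2_c31 LD3_c12)) = (LP (LK LD1_c3 LD2_c13 LD3_c49)) :=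
  Lre_b IH (LK LD1_c6 LD2_c31 LD3_c12) (LK LD1_c3 LD2_c13 LD3_c49) Lrfl Lrfl
theorem f25262 : Led Lsl_bt (LP (LK LD1_c4 LD2_c44 LD3_c6)) = (LP (LK LD1_c9 LD2_c21 LD3_c3)) :=
  Lre_b IH (LK LD1_c4 LD2_c44 LD3_c6) (LK LD1_c9 LD2_c21 LD3_c3) Lrfl Lrfl
theorem f156536 : Led Lsl_bt (LP (LK LD1_c1 LD2_c33 LD3_c29)) = (LP (LK LD1_c2 LD2_c20 LD3_c0)) :=
  Lgr Lrot128 (Lpe (K50.f23773 IH) (Lpe (f22679 IH) (Lpr_cf (f156532 IH) (Lpe (f25262 IH) (Lpe (K46.f144100 IH) (Lpn (LP (LK LD1_c2 LD2_c20 LD3_c0))))))))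
theorem f632930 : Led Lsl_bf K32.v2010 = K51.v4363 :=
  Lgr Lrot61 (Lpe (K48.f506872 IH) (Lpr_bt (f156536 IH) (Lpr_ft (K51.f632928 IH) (Lpn K51.v4363))))
theorem f703032 : Led Lsl_ct K51.v4363 = K51.v13447 :=
  Lgr Lrot40 (Lpe (K51.f632928 IH) (Lpe (K51.f144097 IH) (Lpr_ff (K51.f703030 IH) (Lpn K51.v13447))))
theorem f766140 : Led Lsl_bt (LP (LK LD1_c6 LD2_c29 LD3_c6)) = v18293 :=
  Lgr Lrot127 (Lpr_bf (f766134 IH) (Lpn v18293))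
def v9821 : LQ := Led Lsl_gt v3085
theorem f677695 : Led Lsl_gt v3085 = v9821 :=
  Lrfl
theorem f766136 : Led Lsl_gt v9821 = v18293 :=
  Lgr Lrot46 (Lpe (f677695 IH) (Lpr_ft (f670754 IH) (Lpqs (f707805 IH) (Lpr_at (f766132 IH) (Lpn v18293)))))
def v4391 : LQ := Led Lsl_gt (LP (LK LD1_c2 LD2_c20 LD3_c27))
theorem f633110 : Led Lsl_gt (LP (LK LD1_c2 LD2_c20 LD3_c27)) = v4391 :=
  Lrfl
def v9825 : LQ := Led Lsl_dt v3085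
theorem f677702 : Led Lsl_dt v3085 = v9825 :=
  Lrfl
theorem f677704 : Led Lsl_df v3085 = v9825 :=
  Lgr Lrot38 (Lpr_dt (f677702 IH) (Lpn v9825))
theorem f677705 : Led Lsl_bt K51.v3087 = v9825 :=
  Lgr Lrot95 (Lpe (K51.f623808 IH) (Lpr_bf (f623805 IH) (Lpr_df (f677704 IH) (Lpn v9825))))
theorem f204630 : Led Lsl_bt (LP (LK LD1_c6 LD2_c19 LD3_c43)) = (LP (LK LD1_c3 LD2_c7 LD3_c20)) :=
  Lre_b IH (LK LD1_c6 LD2_c19 LD3_c43) (LK LD1_c3 LD2_c7 LD3_c20) Lrfl Lrfl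
theorem f677706 : Led Lsl_ef (LP (LK LD1_c6 LD2_c19 LD3_c43)) = v9825 :=
  Lgr Lrot29 (Lpr_bt (f204630 IH) (Lpr_et (K51.f623812 IH) (Lpr_bt (f677705 IH) (Lpn v9825))))
theorem f770360 : v9821 = (LP (LK LD1_c2 LD2_c20 LD3_c27)) :=
  (Llr Lrot112 (Lpe (f677695 IH) (Lpr_df (f677704 IH) (Lpe (f677706 IH) (Lpr_gf (f760032 IH) (Lpqs (f770158 IH) (Lpe (K7.f99180 IH) (Lpr_dt (K4.f58191 IH) (Lpr_gf (K5.f127026 IH) (Lpe (K7.f127028 IH) (Lpe (K3.f98839 IH) (Lpe (f102321 IH) (Lpe (f102322 IH) (Lpn (LP (LK LD1_c2 LD2_c20 LD3_c27)))))))))))))))).symm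
theorem f770361 : v18293 = v4391 :=
  Lefun (Lecon (f766136 IH) (f770360 IH)) (f633110 IH)
theorem f649716 : Led Lsl_ef (LP (LK LD1_c3 LD2_c13 LD3_c54)) = v5832 :=
  Lgr Lrot88 (Lpr_et (f649714 IH) (Lpn v5832))
theorem f147469 : Led Lsl_cf (LP (LK LD1_c1 LD2_c47 LD3_c59)) = (LP (LK LD1_c3 LD2_c13 LD3_c54)) :=
  Lgr Lrot166 (Lpe (K5.f128328 IH) (Lpr_dt (K5.f124836 IH) (Lpe (K5.f124828 IH) (Lpr_dt (K4.f115063 IH) (Lpr_ct (K4.f12572 IH) (Lpr_df (K6.f147453 IH) (Lpe (K6.f147446 IH) (Lpe (K7.f147437 IH) (Lpe (K7.f147466 IH) (Lpn (LP (LK LD1_c3 LD2_c13 LD3_c54))))))))))))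
theorem f649717 : Led Lsl_ct v2537 = v5832 :=
  Lgr Lrot15 (Lpe (f527234 IH) (Lpr_cf (f147469 IH) (Lpr_ef (f649716 IH) (Lpn v5832))))
theorem f770743 : v5861 = v5832 :=
  (Llr Lrot149 (Lpe (f649863 IH) (Lpe (f23737 IH) (Lpr_gf (K48.f506879 IH) (Lpr_bf (f632930 IH) (Lpr_ct (f703032 IH) (Lpe (K51.f703037 IH) (Lpr_cf (f703155 IH) (Lpq (K52.f707997 IH) (Lpr_bt (f766140 IH) (Lpqs (f770361 IH) (Lpe (f633110 IH) (Lpr_bf (f527236 IH) (Lpr_ct (f649717 IH) (Lpn v5832))))))))))))))).symm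
theorem f649851 : Led Lsl_et (LP (LK LD1_c6 LD2_c32 LD3_c18)) = (LP (LK LD1_c3 LD2_c14 LD3_c18)) :=
  Lre_e IH (LK LD1_c6 LD2_c32 LD3_c18) (LK LD1_c3 LD2_c14 LD3_c18) Lrfl Lrfl
theorem f649852 : Led Lsl_dt (LP (LK LD1_c6 LD2_c32 LD3_c18)) = (LP (LK LD1_c12 LD2_c32 LD3_c21)) :=
  Lre_d IH (LK LD1_c6 LD2_c32 LD3_c18) (LK LD1_c12 LD2_c32 LD3_c21) Lrfl Lrfl
theorem f770744 : Led Lsl_gf (LP (LK LD1_c12 LD2_c30 LD3_c22)) = (LP (LK LD1_c12 LD2_c32 LD3_c21)) :=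
  Lgr Lrot145 (Lpe (f124117 IH) (Lpr_et (f124116 IH) (Lpe (K4.f124103 IH) (Lpr_dt (K4.f23694 IH) (Lpe (f125626 IH) (Lpe (K7.f148045 IH) (Lpr_et (f649714 IH) (Lpq (f770743 IH) (Lpe (f649854 IH) (Lpe (f649851 IH) (Lpr_dt (f649852 IH) (Lpn (LP (LK LD1_c12 LD2_c32 LD3_c21))))))))))))))
theorem f770745 : Led Lsl_gt (LP (LK LD1_c12 LD2_c32 LD3_c21)) = (LP (LK LD1_c12 LD2_c30 LD3_c22)) :=
  Leop (Lpr_gf (f770744 IH) (Lpn (LP (LK LD1_c12 LD2_c32 LD3_c21))))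
theorem seed_1300 : LEOK LG_g (LK LD1_c12 LD2_c32 LD3_c21) :=
  Leoe_g (LK LD1_c12 LD2_c32 LD3_c21) (f770745 IH)
theorem f703746 : Led Lsl_bt (LP (LK LD1_c4 LD2_c45 LD3_c47)) = (LP (LK LD1_c9 LD2_c24 LD3_c11)) :=
  Lre_b IH (LK LD1_c4 LD2_c45 LD3_c47) (LK LD1_c9 LD2_c24 LD3_c11) Lrfl Lrfl
def v13579 : LQ := Led Lsl_at (LP (LK LD1_c4 LD2_c45 LD3_c46))
theorem f703739 : Led Lsl_at (LP (LK LD1_c4 LD2_c45 LD3_c46)) = v13579 :=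
  Lrfl
theorem f703740 : Led Lsl_af (LP (LK LD1_c4 LD2_c45 LD3_c46)) = v13579 :=
  Lgr Lrot0 (Lpr_at (f703739 IH) (Lpn v13579))
theorem f78671 : Led Lsl_gt (LP (LK LD1_c2 LD2_c20 LD3_c57)) = (LP (LK LD1_c4 LD2_c45 LD3_c46)) :=
  Lre_g IH (LK LD1_c2 LD2_c20 LD3_c57) (LK LD1_c4 LD2_c45 LD3_c46) Lrfl Lrfl
theorem f128529 : Led Lsl_gt (LP (LK LD1_c4 LD2_c45 LD3_c47)) = (LP (LK LD1_c2 LD2_c20 LD3_c57)) :=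
  Lre_g IH (LK LD1_c4 LD2_c45 LD3_c47) (LK LD1_c2 LD2_c20 LD3_c57) Lrfl Lrfl
theorem f703744 : Led Lsl_ft (LP (LK LD1_c4 LD2_c45 LD3_c47)) = v13579 :=
  Lgr Lrot2 (Lpr_gt (f128529 IH) (Lpr_gt (f78671 IH) (Lpr_af (f703740 IH) (Lpn v13579))))
theorem f703745 : Led Lsl_ff (LP (LK LD1_c4 LD2_c45 LD3_c47)) = v13579 :=
  Lgr Lrot3 (Lpr_ft (f703744 IH) (Lpn v13579))
def v2017 : LQ := Led Lsl_bt (LP (LK LD1_c1 LD2_c33 LD3_c41))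
theorem f506911 : Led Lsl_bt (LP (LK LD1_c1 LD2_c33 LD3_c41)) = v2017 :=
  Lrfl
def v8378 : LQ := Led Lsl_gf v2017
theorem f671060 : Led Lsl_gf v2017 = v8378 :=
  Lrfl
def v4390 : LQ := Led Lsl_ft (LP (LK LD1_c2 LD2_c20 LD3_c22))
theorem f633098 : Led Lsl_ft (LP (LK LD1_c2 LD2_c20 LD3_c22)) = v4390 :=
  Lrfl
theorem f633102 : Led Lsl_ff (LP (LK LD1_c2 LD2_c20 LD3_c22)) = v4390 :=
  Lgr Lrot3 (Lpr_ft (f633098 IH) (Lpn v4390))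
def v582 : LQ := Led Lsl_et (LP (LK LD1_c0 LD2_c46 LD3_c12))
theorem f455009 : Led Lsl_et (LP (LK LD1_c0 LD2_c46 LD3_c12)) = v582 :=
  Lrfl
theorem f455011 : Led Lsl_ef (LP (LK LD1_c0 LD2_c46 LD3_c12)) = v582 :=
  Lgr Lrot88 (Lpr_et (f455009 IH) (Lpn v582))
theorem f102318 : Led Lsl_et (LP (LK LD1_c1 LD2_c7 LD3_c31)) = (LP (LK LD1_c2 LD2_c20 LD3_c22)) :=
  Lre_e IH (LK LD1_c1 LD2_c7 LD3_c31) (LK LD1_c2 LD2_c20 LD3_c22) Lrfl Lrfl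
theorem f455012 : Led Lsl_at (LP (LK LD1_c2 LD2_c20 LD3_c22)) = v582 :=
  Lgr Lrot80 (Lpe (f102318 IH) (Lpe (K54.f102392 IH) (Lpr_ef (f455011 IH) (Lpn v582))))
def v3223 : LQ := Led Lsl_gf v582
theorem f624671 : Led Lsl_gf v582 = v3223 :=
  Lrfl
theorem f633108 : Led Lsl_gf v3223 = v4390 :=
  Lgr Lrot47 (Lpe (f624671 IH) (Lpe (f455012 IH) (Lpr_ff (f633102 IH) (Lpn v4390))))
def v10192 : LQ := Led Lsl_dt v3223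
theorem f679180 : Led Lsl_dt v3223 = v10192 :=
  Lrfl
theorem f679181 : Led Lsl_df v3223 = v10192 :=
  Lgr Lrot38 (Lpr_dt (f679180 IH) (Lpn v10192))
def v5870 : LQ := Led Lsl_bt (LP (LK LD1_c3 LD2_c14 LD3_c22))
theorem f649901 : Led Lsl_bt (LP (LK LD1_c3 LD2_c14 LD3_c22)) = v5870 :=
  Lrfl
theorem f506912 : Led Lsl_bf (LP (LK LD1_c1 LD2_c33 LD3_c41)) = v2017 :=
  Lgr Lrot24 (Lpr_bt (f506911 IH) (Lpn v2017))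
theorem f649903 : Led Lsl_df v2017 = v5870 :=
  Lgr Lrot12 (Lpe (f506912 IH) (Lpr_dt (K46.f438902 IH) (Lpr_bt (f649901 IH) (Lpn v5870))))
theorem f649902 : Led Lsl_bf (LP (LK LD1_c3 LD2_c14 LD3_c22)) = v5870 :=
  Lgr Lrot24 (Lpr_bt (f649901 IH) (Lpn v5870))
theorem f652020 : Led Lsl_ef v5870 = K57.v6197 :=
  Lgr Lrot29 (Lpe (f649902 IH) (Lpe (K48.f438897 IH) (Lpr_bt (K57.f652018 IH) (Lpn K57.v6197))))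
theorem f455013 : Led Lsl_dt v582 = v582 :=
  Lgr Lrot77 (Lpe (f455009 IH) (Lpe (K2.f91957 IH) (Lpe (K2.f94238 IH) (Lpe (K2.f91953 IH) (Lpr_ef (f455011 IH) (Lpn v582))))))
theorem f679182 : Led Lsl_ef (LP (LK LD1_c4 LD2_c45 LD3_c30)) = v10192 :=
  Lgr Lrot17 (Lpe (f78219 IH) (Lpe (K3.f78206 IH) (Lpr_dt (K5.f78195 IH) (Lpe (K5.f82406 IH) (Lpr_df (K50.f97707 IH) (Lpe (K11.f91978 IH) (Lpr_ef (f455011 IH) (Lpr_dt (f455013 IH) (Lpr_gf (f624671 IH) (Lpr_df (f679181 IH) (Lpn v10192)))))))))))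
theorem f679183 : Led Lsl_et (LP (LK LD1_c4 LD2_c45 LD3_c30)) = v10192 :=
  Lgr Lrot87 (Lpr_ef (f679182 IH) (Lpn v10192))
theorem f770692 : v5870 = v10192 :=
  Lefun (Lecon (Lfl_ef (f652020 IH)) (f770687 IH).symm) (f679183 IH)
theorem f770699 : v3223 = v2017 :=
  Lefun (Lecon (Lfl_df (f679181 IH)) (f770692 IH).symm) (Lfl_df (f649903 IH))
theorem f770703 : v4390 = v8378 :=
  Lefun (Lecon (f633108 IH) (f770699 IH)) (f671060 IH)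
theorem f102298 : Led Lsl_bt (LP (LK LD1_c2 LD2_c20 LD3_c22)) = (LP (LK LD1_c1 LD2_c7 LD3_c36)) :=
  Lre_b IH (LK LD1_c2 LD2_c20 LD3_c22) (LK LD1_c1 LD2_c7 LD3_c36) Lrfl Lrfl
theorem f633105 : Led Lsl_bt K57.v1342 = v4390 :=
  Lgr Lrot35 (Lpe (K57.f494986 IH) (Lpe (f102298 IH) (Lpr_ff (f633102 IH) (Lpn v4390))))
def v4398 : LQ := Led Lsl_ft (LP (LK LD1_c2 LD2_c20 LD3_c34))
theorem f633135 : Led Lsl_ft (LP (LK LD1_c2 LD2_c20 LD3_c34)) = v4398 :=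
  Lrfl
theorem f633137 : Led Lsl_ff (LP (LK LD1_c2 LD2_c20 LD3_c34)) = v4398 :=
  Lgr Lrot3 (Lpr_ft (f633135 IH) (Lpn v4398))
theorem f633138 : Led Lsl_ct K57.v1342 = v4398 :=
  Lgr Lrot40 (Lpe (K57.f494986 IH) (Lpe (K7.f102302 IH) (Lpr_ff (f633137 IH) (Lpn v4398))))
def v13132 : LQ := Led Lsl_ft (LP (LK LD1_c4 LD2_c40 LD3_c28))
theorem f701270 : Led Lsl_ft (LP (LK LD1_c4 LD2_c40 LD3_c28)) = v13132 :=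
  Lrfl
def v13130 : LQ := Led Lsl_gt (LP (LK LD1_c4 LD2_c40 LD3_c28))
theorem f701266 : Led Lsl_gt (LP (LK LD1_c4 LD2_c40 LD3_c28)) = v13130 :=
  Lrfl
theorem f103364 : Led Lsl_af (LP (LK LD1_c4 LD2_c40 LD3_c28)) = (LP (LK LD1_c2 LD2_c20 LD3_c34)) :=
  Lgr Lrot0 (Lpr_at (K7.f103344 IH) (Lpn (LP (LK LD1_c2 LD2_c20 LD3_c34))))
theorem f701271 : Led Lsl_af v4398 = v13132 :=
  Lgr Lrot45 (Lpe (f633137 IH) (Lpe (f103364 IH) (Lpr_ft (f701270 IH) (Lpn v13132))))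
theorem f701275 : Led Lsl_gt v13130 = v4398 :=
  Lgr Lrot46 (Lpe (f701266 IH) (Lpr_ft (f701270 IH) (Lpe (f701271 IH) (Lpn v4398))))
theorem f770747 : Led Lsl_ct v4391 = v13130 :=
  Lgr Lrot91 (Lpe (f633110 IH) (Lpr_bf (f527236 IH) (Lpr_ct (f649717 IH) (Lpq (f770743 IH) (Lpe (f649863 IH) (Lpe (f23737 IH) (Lpr_bt (f506911 IH) (Lpr_gf (f671060 IH) (Lpq (f770703 IH) (Lpe (f633105 IH) (Lpr_ct (f633138 IH) (Lpe (f701275 IH) (Lpn v13130)))))))))))))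
def v9822 : LQ := Led Lsl_gf v3085
theorem f677696 : Led Lsl_gf v3085 = v9822 :=
  Lrfl
theorem f766138 : Led Lsl_gf v9822 = v18293 :=
  Lgr Lrot47 (Lpe (f677696 IH) (Lpr_af (f677698 IH) (Lpr_ff (f766135 IH) (Lpn v18293))))
theorem f649925 : Led Lsl_ff (LP (LK LD1_c3 LD2_c14 LD3_c24)) = v5878 :=
  Lgr Lrot3 (Lpr_ft (f649922 IH) (Lpn v5878))
theorem f151945 : Led Lsl_ct (LP (LK LD1_c3 LD2_c14 LD3_c24)) = (LP (LK LD1_c1 LD2_c33 LD3_c43)) :=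
  Lre_c IH (LK LD1_c3 LD2_c14 LD3_c24) (LK LD1_c1 LD2_c33 LD3_c43) Lrfl Lrfl
theorem f649927 : Led Lsl_ct v2021 = v5878 :=
  Lgr Lrot40 (Lpe (f506924 IH) (Lpe (f151945 IH) (Lpr_ff (f649925 IH) (Lpn v5878))))
theorem f494889 : Led Lsl_bf (LP (LK LD1_c1 LD2_c7 LD3_c22)) = v1332 :=
  Lgr Lrot24 (Lpr_bt (f494888 IH) (Lpn v1332))
theorem f768212 : Led Lsl_ft v5877 = v18726 :=
  Lgr Lrot48 (Lpr_ff (f768210 IH) (Lpn v18726))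
theorem f768208 : Led Lsl_af v5878 = v18726 :=
  Lgr Lrot0 (Lpr_at (f768206 IH) (Lpn v18726))
def v3086 : LQ := Led Lsl_ct K51.v497
theorem f623806 : Led Lsl_ct K51.v497 = v3086 :=
  Lrfl
def v5729 : LQ := Led Lsl_ft (LP (LK LD1_c3 LD2_c12 LD3_c32))
theorem f649080 : Led Lsl_ft (LP (LK LD1_c3 LD2_c12 LD3_c32)) = v5729 :=
  Lrfl
def v5726 : LQ := Led Lsl_gt (LP (LK LD1_c3 LD2_c12 LD3_c32))
theorem f649068 : Led Lsl_gt (LP (LK LD1_c3 LD2_c12 LD3_c32)) = v5726 :=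
  Lrfl
def v5728 : LQ := Led Lsl_at (LP (LK LD1_c3 LD2_c12 LD3_c32))
theorem f649072 : Led Lsl_at (LP (LK LD1_c3 LD2_c12 LD3_c32)) = v5728 :=
  Lrfl
theorem f649073 : Led Lsl_af (LP (LK LD1_c3 LD2_c12 LD3_c32)) = v5728 :=
  Lgr Lrot0 (Lpr_at (f649072 IH) (Lpn v5728))
theorem f82674 : Led Lsl_ct (LP (LK LD1_c1 LD2_c32 LD3_c44)) = (LP (LK LD1_c3 LD2_c12 LD3_c32)) :=
  Lre_c IH (LK LD1_c1 LD2_c32 LD3_c44) (LK LD1_c3 LD2_c12 LD3_c32) Lrfl Lrfl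
theorem f649074 : Led Lsl_cf K51.v1976 = v5728 :=
  Lgr Lrot1 (Lpe (K51.f506710 IH) (Lpr_ct (f82674 IH) (Lpr_at (f649072 IH) (Lpn v5728))))
theorem f649076 : Led Lsl_ft v3086 = v5728 :=
  Lgr Lrot4 (Lpe (f623806 IH) (Lpr_ff (K51.f506715 IH) (Lpr_cf (f649074 IH) (Lpn v5728))))
theorem f649081 : Led Lsl_af v3086 = v5729 :=
  Lgr Lrot45 (Lpr_ft (f649076 IH) (Lpe (f649073 IH) (Lpr_ft (f649080 IH) (Lpn v5729))))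
theorem f649085 : Led Lsl_gt v5726 = v3086 :=
  Lgr Lrot46 (Lpe (f649068 IH) (Lpr_ft (f649080 IH) (Lpe (f649081 IH) (Lpn v3086))))
def v2024 : LQ := Led Lsl_gf (LP (LK LD1_c1 LD2_c33 LD3_c46))
def v8397 : LQ := Led Lsl_bt v2024
theorem f671109 : Led Lsl_bt v2024 = v8397 :=
  Lrfl
theorem f671110 : Led Lsl_bf v2024 = v8397 :=
  Lgr Lrot24 (Lpr_bt (f671109 IH) (Lpn v8397))
theorem f507822 : Led Lsl_gf (LP (LK LD1_c1 LD2_c33 LD3_c46)) = v2024 :=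
  Lrfl
theorem f82906 : Led Lsl_bt (LP (LK LD1_c0 LD2_c43 LD3_c27)) = (LP (LK LD1_c1 LD2_c33 LD3_c46)) :=
  Lre_b IH (LK LD1_c0 LD2_c43 LD3_c27) (LK LD1_c1 LD2_c33 LD3_c46) Lrfl Lrfl
theorem f671111 : Led Lsl_cf v5726 = v8397 :=
  Lgr Lrot163 (Lpe (f649068 IH) (Lpe (f82674 IH) (Lpe (K46.f82670 IH) (Lpe (K4.f82663 IH) (Lpe (K4.f82888 IH) (Lpe (K0.f23783 IH) (Lpe (K0.f23782 IH) (Lpr_bt (f82906 IH) (Lpr_gf (f507822 IH) (Lpr_bf (f671110 IH) (Lpn v8397)))))))))))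
def v4377 : LQ := Led Lsl_at (LP (LK LD1_c2 LD2_c20 LD3_c11))
theorem f633004 : Led Lsl_at (LP (LK LD1_c2 LD2_c20 LD3_c11)) = v4377 :=
  Lrfl
theorem f507571 : Led Lsl_bt (LP (LK LD1_c5 LD2_c57 LD3_c20)) = (LP (LK LD1_c3 LD2_c14 LD3_c30)) :=
  Lre_b IH (LK LD1_c5 LD2_c57 LD3_c20) (LK LD1_c3 LD2_c14 LD3_c30) Lrfl Lrfl
theorem f504718 : Led Lsl_bt (LP (LK LD1_c9 LD2_c9 LD3_c8)) = (LP (LK LD1_c4 LD2_c36 LD3_c30)) :=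
  Lre_b IH (LK LD1_c9 LD2_c9 LD3_c8) (LK LD1_c4 LD2_c36 LD3_c30) Lrfl Lrfl
theorem f504733 : Led Lsl_bt (LP (LK LD1_c2 LD2_c20 LD3_c12)) = (LP (LK LD1_c4 LD2_c44 LD3_c25)) :=
  Lre_b IH (LK LD1_c2 LD2_c20 LD3_c12) (LK LD1_c4 LD2_c44 LD3_c25) Lrfl Lrfl
theorem f416172 : Led Lsl_ct (LP (LK LD1_c4 LD2_c44 LD3_c25)) = (LP (LK LD1_c9 LD2_c21 LD3_c37)) :=
  Lre_c IH (LK LD1_c4 LD2_c44 LD3_c25) (LK LD1_c9 LD2_c21 LD3_c37) Lrfl Lrfl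
theorem f504738 : Led Lsl_bf (LP (LK LD1_c17 LD2_c2 LD3_c12)) = (LP (LK LD1_c9 LD2_c21 LD3_c37)) :=
  Lgr Lrot90 (Lpr_ct (K45.f504736 IH) (Lpr_bt (f504718 IH) (Lpr_ct (K32.f504726 IH) (Lpr_bt (f504733 IH) (Lpr_ct (f416172 IH) (Lpn (LP (LK LD1_c9 LD2_c21 LD3_c37))))))))
theorem f504741 : Led Lsl_et (LP (LK LD1_c4 LD2_c44 LD3_c24)) = (LP (LK LD1_c9 LD2_c21 LD3_c37)) :=
  Lre_e IH (LK LD1_c4 LD2_c44 LD3_c24) (LK LD1_c9 LD2_c21 LD3_c37) Lrfl Lrfl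
theorem f504742 : Led Lsl_bt (LP (LK LD1_c9 LD2_c9 LD3_c7)) = (LP (LK LD1_c4 LD2_c44 LD3_c24)) :=
  Lgr Lrot119 (Lpe (K45.f504740 IH) (Lpr_bf (f504738 IH) (Lpe (f504741 IH) (Lpn (LP (LK LD1_c4 LD2_c44 LD3_c24))))))
theorem f504747 : Led Lsl_bf (LP (LK LD1_c9 LD2_c9 LD3_c7)) = (LP (LK LD1_c4 LD2_c44 LD3_c24)) :=
  Lgr Lrot24 (Lpr_bt (f504742 IH) (Lpn (LP (LK LD1_c4 LD2_c44 LD3_c24))))
theorem f507572 : Led Lsl_ft (LP (LK LD1_c3 LD2_c14 LD3_c30)) = (LP (LK LD1_c4 LD2_c44 LD3_c24)) :=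
  Lgr Lrot75 (Lpe (f507571 IH) (Lpr_ff (K45.f507568 IH) (Lpr_bf (f504747 IH) (Lpn (LP (LK LD1_c4 LD2_c44 LD3_c24))))))
theorem f22736 : Led Lsl_ct (LP (LK LD1_c1 LD2_c33 LD3_c46)) = (LP (LK LD1_c3 LD2_c14 LD3_c30)) :=
  Lre_c IH (LK LD1_c1 LD2_c33 LD3_c46) (LK LD1_c3 LD2_c14 LD3_c30) Lrfl Lrfl
theorem f151927 : Led Lsl_ct (LP (LK LD1_c4 LD2_c44 LD3_c24)) = (LP (LK LD1_c2 LD2_c20 LD3_c11)) :=
  Lre_c IH (LK LD1_c4 LD2_c44 LD3_c24) (LK LD1_c2 LD2_c20 LD3_c11) Lrfl Lrfl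
theorem f507602 : Led Lsl_ff (LP (LK LD1_c1 LD2_c33 LD3_c46)) = (LP (LK LD1_c2 LD2_c20 LD3_c11)) :=
  Lgr Lrot23 (Lpr_ct (f22736 IH) (Lpr_ft (f507572 IH) (Lpr_ct (f151927 IH) (Lpn (LP (LK LD1_c2 LD2_c20 LD3_c11))))))
theorem f507606 : Led Lsl_ft (LP (LK LD1_c1 LD2_c33 LD3_c46)) = (LP (LK LD1_c2 LD2_c20 LD3_c11)) :=
  Lgr Lrot48 (Lpr_ff (f507602 IH) (Lpn (LP (LK LD1_c2 LD2_c20 LD3_c11))))
def v2025 : LQ := Led Lsl_at (LP (LK LD1_c1 LD2_c33 LD3_c46))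
theorem f507823 : Led Lsl_at (LP (LK LD1_c1 LD2_c33 LD3_c46)) = v2025 :=
  Lrfl
theorem f507824 : Led Lsl_af (LP (LK LD1_c1 LD2_c33 LD3_c46)) = v2025 :=
  Lgr Lrot0 (Lpr_at (f507823 IH) (Lpn v2025))
theorem f633007 : Led Lsl_ff v2025 = v4377 :=
  Lgr Lrot30 (Lpe (f507824 IH) (Lpr_ft (f507606 IH) (Lpr_at (f633004 IH) (Lpn v4377))))
theorem f633010 : Led Lsl_gf v2024 = v4377 :=
  Lgr Lrot47 (Lpe (f507822 IH) (Lpr_af (f507824 IH) (Lpr_ff (f633007 IH) (Lpn v4377))))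
theorem f414551 : Led Lsl_bt (LP (LK LD1_c1 LD2_c7 LD3_c21)) = (LP (LK LD1_c2 LD2_c20 LD3_c11)) :=
  Lre_b IH (LK LD1_c1 LD2_c7 LD3_c21) (LK LD1_c2 LD2_c20 LD3_c11) Lrfl Lrfl
theorem f633006 : Led Lsl_bf v2020 = v4377 :=
  Lgr Lrot81 (Lpe (f506922 IH) (Lpr_bt (f151944 IH) (Lpqs (K35.f507018 IH) (Lpe (K35.f494879 IH) (Lpr_bt (f414551 IH) (Lpr_at (f633004 IH) (Lpn v4377)))))))
theorem f633012 : Led Lsl_bt v2020 = v4377 :=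
  Lgr Lrot127 (Lpr_bf (f633006 IH) (Lpn v4377))
theorem f649921 : Led Lsl_ct v2020 = v5877 :=
  Lgr Lrot59 (Lpr_cf (f649920 IH) (Lpn v5877))
def v13505 : LQ := Led Lsl_gt (LP (LK LD1_c4 LD2_c44 LD3_c39))
theorem f703385 : Led Lsl_gt (LP (LK LD1_c4 LD2_c44 LD3_c39)) = v13505 :=
  Lrfl
theorem f770363 : v5877 = v13505 :=
  (Llr Lrot63 (Lpe (f649921 IH) (Lpr_bt (f633012 IH) (Lpe (f633010 IH) (Lpr_bf (f671110 IH) (Lpe (f671111 IH) (Lpr_gt (f649085 IH) (Lpe (f623806 IH) (Lpr_bt (f623804 IH) (Lpr_gt (f677695 IH) (Lpqs (f770360 IH) (Lpr_ct (f102324 IH) (Lpr_gt (f703385 IH) (Lpn v13505)))))))))))))).symm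
theorem f110642 : Led Lsl_af (LP (LK LD1_c4 LD2_c44 LD3_c39)) = (LP (LK LD1_c4 LD2_c40 LD3_c34)) :=
  Lgr Lrot0 (Lpr_at (K42.f110640 IH) (Lpn (LP (LK LD1_c4 LD2_c40 LD3_c34))))
theorem f701310 : Led Lsl_ff (LP (LK LD1_c4 LD2_c40 LD3_c34)) = v13141 :=
  Lgr Lrot3 (Lpr_ft (f701309 IH) (Lpn v13141))
theorem f703389 : Led Lsl_af v13141 = v13507 :=
  Lgr Lrot45 (Lpe (f701310 IH) (Lpe (f110642 IH) (Lpr_ft (f703388 IH) (Lpn v13507))))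
theorem f703392 : Led Lsl_gt v13505 = v13141 :=
  Lgr Lrot46 (Lpe (f703385 IH) (Lpr_ft (f703388 IH) (Lpe (f703389 IH) (Lpn v13141))))
def v13506 : LQ := Led Lsl_gf (LP (LK LD1_c4 LD2_c44 LD3_c39))
theorem f703386 : Led Lsl_gf (LP (LK LD1_c4 LD2_c44 LD3_c39)) = v13506 :=
  Lrfl
theorem f703387 : Led Lsl_gt v13141 = v13506 :=
  Lgr Lrot5 (Lpe (f701310 IH) (Lpe (f110642 IH) (Lpr_gf (f703386 IH) (Lpn v13506))))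
theorem f770364 : v5878 = v13506 :=
  (Llr Lrot26 (Lpr_af (f768208 IH) (Lpe (f768212 IH) (Lpqs (f770363 IH) (Lpr_gt (f703392 IH) (Lpr_gt (f703387 IH) (Lpn v13506))))))).symm
theorem f770366 : Led Lsl_ct v8324 = v13141 :=
  Lgr Lrot64 (Lpe (f670810 IH) (Lpe (f506763 IH) (Lpe (f446245 IH) (Lpr_ct (K32.f82684 IH) (Lpe (K41.f446235 IH) (Lpe (K7.f25219 IH) (Lpe (K32.f25232 IH) (Lpr_bf (f494889 IH) (Lpq (f507041 IH) (Lpr_ct (f649927 IH) (Lpqs (f770364 IH) (Lpe (f703387 IH) (Lpn v13141)))))))))))))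
theorem f770367 : v9822 = v8324 :=
  (Llr Lrot82 (Lpr_gf (f766138 IH) (Lpe (f766140 IH) (Lpqs (K52.f707997 IH) (Lpe (f703155 IH) (Lpe (K51.f25276 IH) (Lpe (K51.f25214 IH) (Lpr_bt (K8.f25249 IH) (Lpe (K32.f25232 IH) (Lpr_bf (f494889 IH) (Lpq (f507041 IH) (Lpr_ct (f649927 IH) (Lpqs (f770364 IH) (Lpe (f703387 IH) (Lpe (f770366 IH) (Lpn v8324)))))))))))))))).symm
def v13520 : LQ := Led Lsl_ft (LP (LK LD1_c4 LD2_c44 LD3_c54))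
theorem f703428 : Led Lsl_ft (LP (LK LD1_c4 LD2_c44 LD3_c54)) = v13520 :=
  Lrfl
theorem f703430 : Led Lsl_ff (LP (LK LD1_c4 LD2_c44 LD3_c54)) = v13520 :=
  Lgr Lrot3 (Lpr_ft (f703428 IH) (Lpn v13520))
theorem f102303 : Led Lsl_dt (LP (LK LD1_c4 LD2_c44 LD3_c54)) = (LP (LK LD1_c2 LD2_c20 LD3_c34)) :=
  Lre_d IH (LK LD1_c4 LD2_c44 LD3_c54) (LK LD1_c2 LD2_c20 LD3_c34) Lrfl Lrfl
theorem f703431 : Led Lsl_dt v4398 = v13520 :=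
  Lgr Lrot60 (Lpe (f633135 IH) (Lpe (f102303 IH) (Lpr_ff (f703430 IH) (Lpn v13520))))
theorem f78669 : Led Lsl_gt (LP (LK LD1_c17 LD2_c10 LD3_c53)) = (LP (LK LD1_c9 LD2_c16 LD3_c19)) :=
  Lre_g IH (LK LD1_c17 LD2_c10 LD3_c53) (LK LD1_c9 LD2_c16 LD3_c19) Lrfl Lrfl
theorem f703432 : Led Lsl_gf (LP (LK LD1_c17 LD2_c10 LD3_c53)) = v13520 :=
  Lgr Lrot47 (Lpr_gt (f78669 IH) (Lpr_af (K7.f103367 IH) (Lpr_ff (f703430 IH) (Lpn v13520))))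
theorem f78667 : Led Lsl_et (LP (LK LD1_c4 LD2_c40 LD3_c28)) = (LP (LK LD1_c2 LD2_c17 LD3_c18)) :=
  Lre_e IH (LK LD1_c4 LD2_c40 LD3_c28) (LK LD1_c2 LD2_c17 LD3_c18) Lrfl Lrfl
theorem f78668 : Led Lsl_dt (LP (LK LD1_c4 LD2_c40 LD3_c28)) = (LP (LK LD1_c9 LD2_c16 LD3_c19)) :=
  Lre_d IH (LK LD1_c4 LD2_c40 LD3_c28) (LK LD1_c9 LD2_c16 LD3_c19) Lrfl Lrfl
theorem f78672 : Led Lsl_et (LP (LK LD1_c9 LD2_c24 LD3_c10)) = (LP (LK LD1_c4 LD2_c45 LD3_c46)) :=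
  Lre_e IH (LK LD1_c9 LD2_c24 LD3_c10) (LK LD1_c4 LD2_c45 LD3_c46) Lrfl Lrfl
theorem f78673 : Led Lsl_df (LP (LK LD1_c17 LD2_c10 LD3_c53)) = (LP (LK LD1_c9 LD2_c24 LD3_c10)) :=
  Lgr Lrot170 (Lpr_gt (f78669 IH) (Lpe (f78668 IH) (Lpr_et (f78667 IH) (Lpe (K3.f78663 IH) (Lpr_dt (K3.f78646 IH) (Lpr_gt (K3.f78245 IH) (Lpe (K3.f78243 IH) (Lpr_et (K4.f78670 IH) (Lpr_gt (f78671 IH) (Lpe (f78672 IH) (Lpn (LP (LK LD1_c9 LD2_c24 LD3_c10)))))))))))))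
theorem f78677 : Led Lsl_dt (LP (LK LD1_c17 LD2_c10 LD3_c53)) = (LP (LK LD1_c9 LD2_c24 LD3_c10)) :=
  Lgr Lrot42 (Lpr_df (f78673 IH) (Lpn (LP (LK LD1_c9 LD2_c24 LD3_c10))))
theorem f770756 : Led Lsl_cf v9825 = (LP (LK LD1_c9 LD2_c24 LD3_c10)) :=
  Lgr Lrot14 (Lpe (f677702 IH) (Lpr_gf (f677696 IH) (Lpqs (f770367 IH) (Lpr_df (f767696 IH) (Lpq (f770367 IH) (Lpr_gf (f766138 IH) (Lpqs (f770361 IH) (Lpr_ct (f770747 IH) (Lpr_gt (f701275 IH) (Lpr_dt (f703431 IH) (Lpe (f703432 IH) (Lpr_dt (f78677 IH) (Lpn (LP (LK LD1_c9 LD2_c24 LD3_c10)))))))))))))))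
theorem f78679 : Led Lsl_et (LP (LK LD1_c4 LD2_c45 LD3_c46)) = (LP (LK LD1_c9 LD2_c24 LD3_c10)) :=
  Lre_e IH (LK LD1_c4 LD2_c45 LD3_c46) (LK LD1_c9 LD2_c24 LD3_c10) Lrfl Lrfl
theorem f770758 : v17482 = (LP (LK LD1_c4 LD2_c45 LD3_c46)) :=
  (Llr Lrot15 (Lpe (f760045 IH) (Lpr_ef (f677706 IH) (Lpr_cf (f770756 IH) (Lpe (f78679 IH) (Lpn (LP (LK LD1_c4 LD2_c45 LD3_c46)))))))).symm
theorem f770759 : (LP (LK LD1_c9 LD2_c22 LD3_c49)) = v13579 :=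
  Lefun (Lecon (f770584 IH) (f770758 IH)) (f703739 IH)
theorem f770768 : (LP (LK LD1_c4 LD2_c45 LD3_c47)) = v17612 :=
  Lefun (Lecon (Lfl_ff (f703745 IH)) (f770759 IH).symm) (Lfl_ff (f770589 IH))
theorem f770773 : v16421 = (LP (LK LD1_c9 LD2_c24 LD3_c11)) :=
  Lefun (Lecon (f770181 IH) (f770768 IH).symm) (f703746 IH)
theorem f770593 : Led Lsl_ft v17612 = (LP (LK LD1_c9 LD2_c22 LD3_c49)) :=
  Lgr Lrot48 (Lpr_ff (f770589 IH) (Lpn (LP (LK LD1_c9 LD2_c22 LD3_c49))))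
theorem f770182 : Led Lsl_bf v17612 = v16421 :=
  Lgr Lrot24 (Lpr_bt (f770181 IH) (Lpn v16421))
theorem f770594 : Led Lsl_ff v16421 = (LP (LK LD1_c17 LD2_c19 LD3_c14)) :=
  Lgr Lrot25 (Lpe (f770182 IH) (Lpr_ft (f770593 IH) (Lpr_bt (f770586 IH) (Lpn (LP (LK LD1_c17 LD2_c19 LD3_c14))))))
theorem f703755 : Led Lsl_at (LP (LK LD1_c9 LD2_c24 LD3_c11)) = (LP (LK LD1_c17 LD2_c21 LD3_c25)) :=
  Lre_a IH (LK LD1_c9 LD2_c24 LD3_c11) (LK LD1_c17 LD2_c21 LD3_c25) Lrfl Lrfl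
theorem f770805 : Led Lsl_gt (LP (LK LD1_c11 LD2_c44 LD3_c50)) = (LP (LK LD1_c17 LD2_c21 LD3_c25)) :=
  Lgr Lrot46 (Lpr_gf (f770653 IH) (Lpe (f770594 IH) (Lpqs (f770773 IH) (Lpr_at (f703755 IH) (Lpn (LP (LK LD1_c17 LD2_c21 LD3_c25)))))))
theorem f502168 : Led Lsl_ft (LP (LK LD1_c11 LD2_c44 LD3_c50)) = (LP (LK LD1_c6 LD2_c0 LD3_c11)) :=
  Lre_f IH (LK LD1_c11 LD2_c44 LD3_c50) (LK LD1_c6 LD2_c0 LD3_c11) Lrfl Lrfl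
theorem f501997 : Led Lsl_at (LP (LK LD1_c6 LD2_c0 LD3_c11)) = (LP (LK LD1_c11 LD2_c44 LD3_c46)) :=
  Lre_a IH (LK LD1_c6 LD2_c0 LD3_c11) (LK LD1_c11 LD2_c44 LD3_c46) Lrfl Lrfl
theorem f770807 : Led Lsl_gf (LP (LK LD1_c11 LD2_c44 LD3_c46)) = (LP (LK LD1_c17 LD2_c21 LD3_c25)) :=
  Lgr Lrot76 (Lpe (f501997 IH) (Lpe (f502168 IH) (Lpr_gt (f770805 IH) (Lpn (LP (LK LD1_c17 LD2_c21 LD3_c25))))))
theorem f770657 : Led Lsl_at (LP (LK LD1_c11 LD2_c44 LD3_c48)) = (LP (LK LD1_c17 LD2_c19 LD3_c14)) :=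
  Lgr Lrot100 (Lpr_af (f770655 IH) (Lpn (LP (LK LD1_c17 LD2_c19 LD3_c14))))
theorem f770803 : Led Lsl_ff (LP (LK LD1_c11 LD2_c44 LD3_c48)) = (LP (LK LD1_c17 LD2_c21 LD3_c25)) :=
  Lgr Lrot30 (Lpr_at (f770657 IH) (Lpe (f770594 IH) (Lpqs (f770773 IH) (Lpr_at (f703755 IH) (Lpn (LP (LK LD1_c17 LD2_c21 LD3_c25)))))))
theorem f770809 : Led Lsl_gt (LP (LK LD1_c11 LD2_c44 LD3_c46)) = (LP (LK LD1_c17 LD2_c19 LD3_c14)) :=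
  Lgr Lrot46 (Lpr_gf (f770807 IH) (Lpe (f770803 IH) (Lpr_at (f770657 IH) (Lpn (LP (LK LD1_c17 LD2_c19 LD3_c14))))))
theorem f502579 : Led Lsl_ct (LP (LK LD1_c20 LD2_c45 LD3_c58)) = (LP (LK LD1_c11 LD2_c44 LD3_c46)) :=
  Lre_c IH (LK LD1_c20 LD2_c45 LD3_c58) (LK LD1_c11 LD2_c44 LD3_c46) Lrfl Lrfl
theorem f501827 : Led Lsl_at (LP (LK LD1_c14 LD2_c32 LD3_c9)) = (LP (LK LD1_c12 LD2_c33 LD3_c8)) :=
  Lgr Lrot100 (Lpr_af (K36.f501817 IH) (Lpn (LP (LK LD1_c12 LD2_c33 LD3_c8))))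
theorem f501824 : Led Lsl_at (LP (LK LD1_c11 LD2_c44 LD3_c31)) = (LP (LK LD1_c6 LD2_c0 LD3_c4)) :=
  Lre_a IH (LK LD1_c11 LD2_c44 LD3_c31) (LK LD1_c6 LD2_c0 LD3_c4) Lrfl Lrfl
theorem f501825 : Led Lsl_bt (LP (LK LD1_c6 LD2_c0 LD3_c4)) = (LP (LK LD1_c11 LD2_c44 LD3_c37)) :=
  Lre_b IH (LK LD1_c6 LD2_c0 LD3_c4) (LK LD1_c11 LD2_c44 LD3_c37) Lrfl Lrfl
theorem f501826 : Led Lsl_at (LP (LK LD1_c11 LD2_c44 LD3_c37)) = (LP (LK LD1_c20 LD2_c45 LD3_c58)) :=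
  Lre_a IH (LK LD1_c11 LD2_c44 LD3_c37) (LK LD1_c20 LD2_c45 LD3_c58) Lrfl Lrfl
theorem f502697 : Led Lsl_bf (LP (LK LD1_c14 LD2_c32 LD3_c9)) = (LP (LK LD1_c20 LD2_c45 LD3_c58)) :=
  Lgr Lrot81 (Lpr_at (f501827 IH) (Lpe (K42.f501819 IH) (Lpr_at (f501824 IH) (Lpr_bt (f501825 IH) (Lpr_at (f501826 IH) (Lpn (LP (LK LD1_c20 LD2_c45 LD3_c58))))))))
def v13742 : LQ := Led Lsl_ft (LP (LK LD1_c4 LD2_c47 LD3_c44))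
theorem f704598 : Led Lsl_ft (LP (LK LD1_c4 LD2_c47 LD3_c44)) = v13742 :=
  Lrfl
theorem f704602 : Led Lsl_ff (LP (LK LD1_c4 LD2_c47 LD3_c44)) = v13742 :=
  Lgr Lrot3 (Lpr_ft (f704598 IH) (Lpn v13742))
theorem f92204 : Led Lsl_at (LP (LK LD1_c4 LD2_c47 LD3_c44)) = (LP (LK LD1_c2 LD2_c21 LD3_c49)) :=
  Lre_a IH (LK LD1_c4 LD2_c47 LD3_c44) (LK LD1_c2 LD2_c21 LD3_c49) Lrfl Lrfl
theorem f92180 : Led Lsl_ft (LP (LK LD1_c2 LD2_c21 LD3_c49)) = (LP (LK LD1_c4 LD2_c47 LD3_c53)) :=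
  Lre_f IH (LK LD1_c2 LD2_c21 LD3_c49) (LK LD1_c4 LD2_c47 LD3_c53) Lrfl Lrfl
theorem f704603 : Led Lsl_at (LP (LK LD1_c4 LD2_c47 LD3_c53)) = v13742 :=
  Lgr Lrot66 (Lpe (f92180 IH) (Lpe (f92204 IH) (Lpr_ff (f704602 IH) (Lpn v13742))))
theorem f704610 : Led Lsl_gt (LP (LK LD1_c4 LD2_c47 LD3_c50)) = v13742 :=
  Lgr Lrot46 (Lpe (K57.f87628 IH) (Lpr_ft (f92180 IH) (Lpr_at (f704603 IH) (Lpn v13742))))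
theorem f704600 : Led Lsl_cf K35.v4452 = v13742 :=
  Lgr Lrot108 (Lpe (f633460 IH) (Lpr_ct (K46.f135751 IH) (Lpr_ft (f704598 IH) (Lpn v13742))))
theorem f92232 : Led Lsl_ct (LP (LK LD1_c4 LD2_c47 LD3_c57)) = (LP (LK LD1_c2 LD2_c21 LD3_c51)) :=
  Lre_c IH (LK LD1_c4 LD2_c47 LD3_c57) (LK LD1_c2 LD2_c21 LD3_c51) Lrfl Lrfl
theorem f92233 : Led Lsl_bt (LP (LK LD1_c4 LD2_c47 LD3_c57)) = (LP (LK LD1_c9 LD2_c28 LD3_c47)) :=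
  Lre_b IH (LK LD1_c4 LD2_c47 LD3_c57) (LK LD1_c9 LD2_c28 LD3_c47) Lrfl Lrfl
theorem f770811 : Led Lsl_gf (LP (LK LD1_c14 LD2_c32 LD3_c9)) = (LP (LK LD1_c9 LD2_c28 LD3_c47)) :=
  Lgr Lrot124 (Lpr_bf (f502697 IH) (Lpr_ct (f502579 IH) (Lpr_gt (f770809 IH) (Lpe (f770647 IH) (Lpr_bt (f92184 IH) (Lpr_gt (f704610 IH) (Lpe (f704600 IH) (Lpe (f633467 IH) (Lpe (f92232 IH) (Lpr_bt (f92233 IH) (Lpn (LP (LK LD1_c9 LD2_c28 LD3_c47)))))))))))))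
theorem f770812 : Led Lsl_gt (LP (LK LD1_c9 LD2_c28 LD3_c47)) = (LP (LK LD1_c14 LD2_c32 LD3_c9)) :=
  Leop (Lpr_gf (f770811 IH) (Lpn (LP (LK LD1_c9 LD2_c28 LD3_c47))))
theorem seed_1301 : LEOK LG_g (LK LD1_c9 LD2_c28 LD3_c47) :=
  Leoe_g (LK LD1_c9 LD2_c28 LD3_c47) (f770812 IH)
def v13340 : LQ := Led Lsl_ct (LP (LK LD1_c4 LD2_c43 LD3_c18))
theorem f702429 : Led Lsl_ct (LP (LK LD1_c4 LD2_c43 LD3_c18)) = v13340 :=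
  Lrfl
def v13477 : LQ := Led Lsl_bt (LP (LK LD1_c4 LD2_c44 LD3_c21))
theorem f703221 : Led Lsl_bt (LP (LK LD1_c4 LD2_c44 LD3_c21)) = v13477 :=
  Lrfl
def v4370 : LQ := Led Lsl_bt (LP (LK LD1_c2 LD2_c20 LD3_c9))
theorem f632982 : Led Lsl_bt (LP (LK LD1_c2 LD2_c20 LD3_c9)) = v4370 :=
  Lrfl
theorem f632983 : Led Lsl_bf (LP (LK LD1_c2 LD2_c20 LD3_c9)) = v4370 :=
  Lgr Lrot24 (Lpr_bt (f632982 IH) (Lpn v4370))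
theorem f703223 : Led Lsl_ef v4370 = v13477 :=
  Lgr Lrot29 (Lpe (f632983 IH) (Lpr_et (K51.f632976 IH) (Lpr_bt (f703221 IH) (Lpn v13477))))
theorem f764893 : Led Lsl_dt v13477 = K57.v18069 :=
  Lgr Lrot79 (Lpe (f703221 IH) (Lpr_df (f652489 IH) (Lpr_bf (K57.f764889 IH) (Lpn K57.v18069))))
def v2261 : LQ := Led Lsl_et (LP (LK LD1_c1 LD2_c39 LD3_c25))
theorem f511312 : Led Lsl_et (LP (LK LD1_c1 LD2_c39 LD3_c25)) = v2261 :=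
  Lrfl
theorem f511315 : Led Lsl_ef (LP (LK LD1_c1 LD2_c39 LD3_c25)) = v2261 :=
  Lgr Lrot88 (Lpr_et (f511312 IH) (Lpn v2261))
theorem f511317 : Led Lsl_ct v582 = v2261 :=
  Lgr Lrot15 (Lpe (f455009 IH) (Lpe (K2.f91954 IH) (Lpr_ef (f511315 IH) (Lpn v2261))))
def v8880 : LQ := Led Lsl_gf v2261
theorem f672600 : Led Lsl_gf v2261 = v8880 :=
  Lrfl
def v13500 : LQ := Led Lsl_ft (LP (LK LD1_c4 LD2_c44 LD3_c33))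
theorem f703362 : Led Lsl_ft (LP (LK LD1_c4 LD2_c44 LD3_c33)) = v13500 :=
  Lrfl
theorem f703366 : Led Lsl_ff (LP (LK LD1_c4 LD2_c44 LD3_c33)) = v13500 :=
  Lgr Lrot3 (Lpr_ft (f703362 IH) (Lpn v13500))
theorem f102390 : Led Lsl_at (LP (LK LD1_c1 LD2_c39 LD3_c25)) = (LP (LK LD1_c2 LD2_c20 LD3_c21)) :=
  Lgr Lrot100 (Lpr_af (K4.f102388 IH) (Lpn (LP (LK LD1_c2 LD2_c20 LD3_c21))))
theorem f102356 : Led Lsl_et (LP (LK LD1_c2 LD2_c20 LD3_c21)) = (LP (LK LD1_c4 LD2_c44 LD3_c33)) :=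
  Lre_e IH (LK LD1_c2 LD2_c20 LD3_c21) (LK LD1_c4 LD2_c44 LD3_c33) Lrfl Lrfl
theorem f511316 : Led Lsl_at (LP (LK LD1_c4 LD2_c44 LD3_c33)) = v2261 :=
  Lgr Lrot80 (Lpe (f102356 IH) (Lpe (f102390 IH) (Lpr_ef (f511315 IH) (Lpn v2261))))
theorem f703371 : Led Lsl_gf v8880 = v13500 :=
  Lgr Lrot47 (Lpe (f672600 IH) (Lpe (f511316 IH) (Lpr_ff (f703366 IH) (Lpn v13500))))
def v5773 : LQ := Led Lsl_gf (LP (LK LD1_c3 LD2_c13 LD3_c9))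
theorem f649296 : Led Lsl_gf (LP (LK LD1_c3 LD2_c13 LD3_c9)) = v5773 :=
  Lrfl
def v2018 : LQ := Led Lsl_gt (LP (LK LD1_c1 LD2_c33 LD3_c43))
def v8382 : LQ := Led Lsl_bt v2018
theorem f671069 : Led Lsl_bt v2018 = v8382 :=
  Lrfl
theorem f671070 : Led Lsl_bf v2018 = v8382 :=
  Lgr Lrot24 (Lpr_bt (f671069 IH) (Lpn v8382))
theorem f506914 : Led Lsl_gt (LP (LK LD1_c1 LD2_c33 LD3_c43)) = v2018 :=
  Lrfl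
theorem f442883 : Led Lsl_bt (LP (LK LD1_c0 LD2_c43 LD3_c26)) = (LP (LK LD1_c1 LD2_c33 LD3_c43)) :=
  Lre_b IH (LK LD1_c0 LD2_c43 LD3_c26) (LK LD1_c1 LD2_c33 LD3_c43) Lrfl Lrfl
theorem f82903 : Led Lsl_ct (LP (LK LD1_c1 LD2_c32 LD3_c61)) = (LP (LK LD1_c3 LD2_c13 LD3_c9)) :=
  Lre_c IH (LK LD1_c1 LD2_c32 LD3_c61) (LK LD1_c3 LD2_c13 LD3_c9) Lrfl Lrfl
theorem f671071 : Led Lsl_cf v5773 = v8382 :=
  Lgr Lrot160 (Lpe (f649296 IH) (Lpe (f82903 IH) (Lpr_bt (K46.f82685 IH) (Lpr_gt (K11.f82680 IH) (Lpe (K4.f82888 IH) (Lpr_gt (K32.f82898 IH) (Lpr_cf (K32.f442871 IH) (Lpr_bt (f442883 IH) (Lpr_gt (f506914 IH) (Lpr_bf (f671070 IH) (Lpn v8382)))))))))))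
theorem f102313 : Led Lsl_ct (LP (LK LD1_c4 LD2_c44 LD3_c33)) = (LP (LK LD1_c2 LD2_c20 LD3_c22)) :=
  Lre_c IH (LK LD1_c4 LD2_c44 LD3_c33) (LK LD1_c2 LD2_c20 LD3_c22) Lrfl Lrfl
theorem f703369 : Led Lsl_ct v4390 = v13500 :=
  Lgr Lrot40 (Lpe (f633098 IH) (Lpe (f102313 IH) (Lpr_ff (f703366 IH) (Lpn v13500))))
theorem f770443 : K57.v1342 = v2018 :=
  Lefun (Lecon (K57.f632117 IH) (f770430 IH)) (f506914 IH)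
theorem f770469 : v8382 = v4390 :=
  Lefun (Lecon (f671069 IH) (f770443 IH).symm) (f633105 IH)
theorem f770520 : v5773 = v13500 :=
  Lefun (Lecon (Lfl_cf (f671071 IH)) (f770469 IH)) (f703369 IH)
theorem f770543 : v8880 = (LP (LK LD1_c3 LD2_c13 LD3_c9)) :=
  Lefun (Lecon (Lfl_gf (f703371 IH)) (f770520 IH).symm) (Lfl_gf (f649296 IH))
def v581 : LQ := Led Lsl_dt (LP (LK LD1_c0 LD2_c46 LD3_c11))
def v3221 : LQ := Led Lsl_et v581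
theorem f624665 : Led Lsl_et v581 = v3221 :=
  Lrfl
theorem f624667 : Led Lsl_ef v581 = v3221 :=
  Lgr Lrot88 (Lpr_et (f624665 IH) (Lpn v3221))
theorem f455001 : Led Lsl_dt (LP (LK LD1_c0 LD2_c46 LD3_c11)) = v581 :=
  Lrfl
theorem f455002 : Led Lsl_bf (LP (LK LD1_c0 LD2_c46 LD3_c12)) = v581 :=
  Lgr Lrot93 (Lpr_dt (K2.f91953 IH) (Lpr_bt (K3.f13507 IH) (Lpr_dt (f455001 IH) (Lpn v581))))
theorem f624668 : Led Lsl_bt v582 = v3221 :=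
  Lgr Lrot119 (Lpe (f455009 IH) (Lpr_bf (f455002 IH) (Lpr_ef (f624667 IH) (Lpn v3221))))
def v10181 : LQ := Led Lsl_gt v3221
theorem f679151 : Led Lsl_gt v3221 = v10181 :=
  Lrfl
theorem f770900 : v4370 = v10181 :=
  (Llr Lrot92 (Lpe (f632982 IH) (Lpr_ct (K50.f25259 IH) (Lpr_gt (K50.f703171 IH) (Lpe (K50.f703174 IH) (Lpe (K50.f649278 IH) (Lpr_gt (K50.f82770 IH) (Lpr_ct (f82903 IH) (Lpq (f770543 IH) (Lpe (f672600 IH) (Lpe (f511317 IH) (Lpr_bt (f624668 IH) (Lpr_gt (f679151 IH) (Lpn v10181)))))))))))))).symm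
theorem f455003 : Led Lsl_df (LP (LK LD1_c0 LD2_c46 LD3_c11)) = v581 :=
  Lgr Lrot38 (Lpr_dt (f455001 IH) (Lpn v581))
def v1349 : LQ := Led Lsl_et (LP (LK LD1_c1 LD2_c7 LD3_c49))
theorem f495028 : Led Lsl_et (LP (LK LD1_c1 LD2_c7 LD3_c49)) = v1349 :=
  Lrfl
theorem f495030 : Led Lsl_ef (LP (LK LD1_c1 LD2_c7 LD3_c49)) = v1349 :=
  Lgr Lrot88 (Lpr_et (f495028 IH) (Lpn v1349))
def v4421 : LQ := Led Lsl_bt (LP (LK LD1_c2 LD2_c21 LD3_c6))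
theorem f633275 : Led Lsl_bt (LP (LK LD1_c2 LD2_c21 LD3_c6)) = v4421 :=
  Lrfl
theorem f632095 : Led Lsl_bf (LP (LK LD1_c2 LD2_c17 LD3_c14)) = K50.v4233 :=
  Lgr Lrot93 (Lpr_dt (K5.f77901 IH) (Lpr_bt (K5.f77882 IH) (Lpr_dt (K50.f632094 IH) (Lpn K50.v4233))))
theorem f633278 : Led Lsl_ef K50.v4233 = v4421 :=
  Lgr Lrot29 (Lpe (f632095 IH) (Lpe (K5.f78000 IH) (Lpr_bt (f633275 IH) (Lpn v4421))))
theorem f632096 : Led Lsl_df (LP (LK LD1_c2 LD2_c17 LD3_c11)) = K50.v4233 :=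
  Lgr Lrot38 (Lpr_dt (K50.f632094 IH) (Lpn K50.v4233))
theorem f77894 : Led Lsl_et (LP (LK LD1_c2 LD2_c17 LD3_c11)) = (LP (LK LD1_c1 LD2_c5 LD3_c32)) :=
  Lre_e IH (LK LD1_c2 LD2_c17 LD3_c11) (LK LD1_c1 LD2_c5 LD3_c32) Lrfl Lrfl
theorem f633279 : Led Lsl_dt v1349 = v4421 :=
  Lgr Lrot77 (Lpe (f495028 IH) (Lpr_df (K2.f77983 IH) (Lpe (f77894 IH) (Lpr_df (f632096 IH) (Lpr_ef (f633278 IH) (Lpn v4421))))))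
theorem f770901 : Led Lsl_gt K57.v18069 = v4421 :=
  Lgr Lrot112 (Lpe (f764893 IH) (Lpe (f703223 IH) (Lpqs (f770900 IH) (Lpe (f679151 IH) (Lpe (f624665 IH) (Lpe (f455003 IH) (Lpr_gf (K3.f104173 IH) (Lpe (K2.f23453 IH) (Lpr_gf (K4.f120779 IH) (Lpr_ef (f495030 IH) (Lpr_dt (f633279 IH) (Lpn v4421))))))))))))
def v6292 : LQ := Led Lsl_bt (LP (LK LD1_c3 LD2_c19 LD3_c57))
theorem f652607 : Led Lsl_bt (LP (LK LD1_c3 LD2_c19 LD3_c57)) = v6292 :=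
  Lrfl
theorem f764894 : Led Lsl_ft v6292 = K57.v18069 :=
  Lgr Lrot75 (Lpe (f652607 IH) (Lpr_ff (f652613 IH) (Lpqs (f709398 IH) (Lpr_bf (K57.f764889 IH) (Lpn K57.v18069)))))
theorem f764896 : Led Lsl_ff v6292 = K57.v18069 :=
  Lgr Lrot3 (Lpr_ft (f764894 IH) (Lpn K57.v18069))
def v18064 : LQ := Led Lsl_at (LP (LK LD1_c6 LD2_c26 LD3_c7))
theorem f764864 : Led Lsl_at (LP (LK LD1_c6 LD2_c26 LD3_c7)) = v18064 :=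
  Lrfl
theorem f764865 : Led Lsl_af (LP (LK LD1_c6 LD2_c26 LD3_c7)) = v18064 :=
  Lgr Lrot0 (Lpr_at (f764864 IH) (Lpn v18064))
theorem f764869 : Led Lsl_ft (LP (LK LD1_c6 LD2_c26 LD3_c8)) = v18064 :=
  Lgr Lrot2 (Lpr_gt (K57.f438552 IH) (Lpr_gt (K57.f506489 IH) (Lpr_af (f764865 IH) (Lpn v18064))))
theorem f764870 : Led Lsl_ff (LP (LK LD1_c6 LD2_c26 LD3_c8)) = v18064 :=
  Lgr Lrot3 (Lpr_ft (f764869 IH) (Lpn v18064))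
theorem f764897 : Led Lsl_ct v6292 = v18064 :=
  Lgr Lrot40 (Lpr_ff (f764896 IH) (Lpe (K57.f764885 IH) (Lpr_ff (f764870 IH) (Lpn v18064))))
def v18065 : LQ := Led Lsl_ct (LP (LK LD1_c6 LD2_c26 LD3_c7))
theorem f764872 : Led Lsl_ct (LP (LK LD1_c6 LD2_c26 LD3_c7)) = v18065 :=
  Lrfl
theorem f764898 : Led Lsl_af v6292 = v18065 :=
  Lgr Lrot68 (Lpr_ct (f764897 IH) (Lpe (f764865 IH) (Lpr_ct (f764872 IH) (Lpn v18065))))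
theorem f764903 : Led Lsl_at v6292 = v18065 :=
  Lgr Lrot100 (Lpr_af (f764898 IH) (Lpn v18065))
theorem f770902 : Led Lsl_gf v18065 = v4421 :=
  Lgr Lrot76 (Lpe (f764903 IH) (Lpr_ff (f764896 IH) (Lpr_gt (f770901 IH) (Lpn v4421))))
theorem f764873 : Led Lsl_cf (LP (LK LD1_c6 LD2_c26 LD3_c7)) = v18065 :=
  Lgr Lrot11 (Lpr_ct (f764872 IH) (Lpn v18065))
theorem f648497 : Led Lsl_ff (LP (LK LD1_c3 LD2_c10 LD3_c53)) = K57.v5609 :=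
  Lgr Lrot3 (Lpr_ft (K57.f648495 IH) (Lpn K57.v5609))
theorem f453597 : Led Lsl_ct (LP (LK LD1_c3 LD2_c10 LD3_c53)) = (LP (LK LD1_c1 LD2_c31 LD3_c51)) :=
  Lre_c IH (LK LD1_c3 LD2_c10 LD3_c53) (LK LD1_c1 LD2_c31 LD3_c51) Lrfl Lrfl
theorem f648498 : Led Lsl_ct K57.v1940 = K57.v5609 :=
  Lgr Lrot40 (Lpe (K57.f506493 IH) (Lpe (f453597 IH) (Lpr_ff (f648497 IH) (Lpn K57.v5609))))
theorem f648469 : Led Lsl_af K57.v1940 = K57.v5603 :=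
  Lgr Lrot0 (Lpr_at (K57.f648466 IH) (Lpn K57.v5603))
theorem f764858 : Led Lsl_cf K57.v5603 = K57.v18063 :=
  Lgr Lrot1 (Lpe (f648469 IH) (Lpr_ct (f648498 IH) (Lpr_at (K57.f764855 IH) (Lpn K57.v18063))))
theorem f506496 : Led Lsl_ff (LP (LK LD1_c1 LD2_c31 LD3_c51)) = K57.v1940 :=
  Lgr Lrot3 (Lpr_ft (K57.f506493 IH) (Lpn K57.v1940))
theorem f431052 : Led Lsl_dt (LP (LK LD1_c1 LD2_c31 LD3_c51)) = (LP (LK LD1_c0 LD2_c42 LD3_c30)) :=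
  Lre_d IH (LK LD1_c1 LD2_c31 LD3_c51) (LK LD1_c0 LD2_c42 LD3_c30) Lrfl Lrfl
theorem f506498 : Led Lsl_dt v492 = K57.v1940 :=
  Lgr Lrot60 (Lpe (f453604 IH) (Lpe (f431052 IH) (Lpr_ff (f506496 IH) (Lpn K57.v1940))))
theorem f648470 : Led Lsl_df v3060 = K57.v5603 :=
  Lgr Lrot18 (Lpe (f622714 IH) (Lpr_dt (f506498 IH) (Lpr_at (K57.f648466 IH) (Lpn K57.v5603))))
def v3057 : LQ := Led Lsl_et K32.v486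
def v9738 : LQ := Led Lsl_ft v3057
theorem f677451 : Led Lsl_ft v3057 = v9738 :=
  Lrfl
theorem f622704 : Led Lsl_et K32.v486 = v3057 :=
  Lrfl
theorem f622707 : Led Lsl_ef K32.v486 = v3057 :=
  Lgr Lrot88 (Lpr_et (f622704 IH) (Lpn v3057))
theorem f622709 : Led Lsl_ct v487 = v3057 :=
  Lgr Lrot15 (Lpe (f453584 IH) (Lpr_cf (K32.f453578 IH) (Lpr_ef (f622707 IH) (Lpn v3057))))
theorem f677453 : Led Lsl_cf v3060 = v9738 :=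
  Lgr Lrot108 (Lpe (f622715 IH) (Lpr_ct (f622709 IH) (Lpr_ft (f677451 IH) (Lpn v9738))))
theorem f677454 : Led Lsl_ff v3057 = v9738 :=
  Lgr Lrot3 (Lpr_ft (f677451 IH) (Lpn v9738))
theorem f82509 : Led Lsl_cf (LP (LK LD1_c0 LD2_c18 LD3_c56)) = (LP (LK LD1_c0 LD2_c30 LD3_c32)) :=
  Lgr Lrot39 (Lpr_et (K5.f82507 IH) (Lpr_ct (K5.f82496 IH) (Lpr_et (K5.f82508 IH) (Lpn (LP (LK LD1_c0 LD2_c30 LD3_c32))))))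
theorem f82514 : Led Lsl_dt (LP (LK LD1_c1 LD2_c6 LD3_c42)) = (LP (LK LD1_c0 LD2_c30 LD3_c32)) :=
  Lre_d IH (LK LD1_c1 LD2_c6 LD3_c42) (LK LD1_c0 LD2_c30 LD3_c32) Lrfl Lrfl
theorem f61177 : Led Lsl_dt (LP (LK LD1_c1 LD2_c6 LD3_c5)) = (LP (LK LD1_c2 LD2_c18 LD3_c8)) :=
  Lre_d IH (LK LD1_c1 LD2_c6 LD3_c5) (LK LD1_c2 LD2_c18 LD3_c8) Lrfl Lrfl
theorem f61132 : Led Lsl_at (LP (LK LD1_c2 LD2_c16 LD3_c25)) = (LP (LK LD1_c4 LD2_c38 LD3_c43)) :=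
  Lre_a IH (LK LD1_c2 LD2_c16 LD3_c25) (LK LD1_c4 LD2_c38 LD3_c43) Lrfl Lrfl
theorem f202670 : Led Lsl_ff (LP (LK LD1_c2 LD2_c16 LD3_c25)) = (LP (LK LD1_c1 LD2_c24 LD3_c16)) :=
  Lgr Lrot30 (Lpr_at (f61132 IH) (Lpr_ft (K11.f202615 IH) (Lpr_at (K11.f69182 IH) (Lpn (LP (LK LD1_c1 LD2_c24 LD3_c16))))))
theorem f420468 : Led Lsl_ft (LP (LK LD1_c1 LD2_c6 LD3_c5)) = (LP (LK LD1_c0 LD2_c42 LD3_c29)) :=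
  Lgr Lrot75 (Lpr_bf (K4.f60958 IH) (Lpr_ff (f202670 IH) (Lpr_bf (K6.f68986 IH) (Lpn (LP (LK LD1_c0 LD2_c42 LD3_c29))))))
theorem f453580 : Led Lsl_at (LP (LK LD1_c0 LD2_c42 LD3_c29)) = K32.v486 :=
  Lgr Lrot33 (Lpe (f420468 IH) (Lpr_dt (f61177 IH) (Lpr_ct (K8.f61154 IH) (Lpe (K7.f152398 IH) (Lpr_ct (K36.f82515 IH) (Lpr_dt (f82514 IH) (Lpe (f82509 IH) (Lpr_dt (K5.f82513 IH) (Lpr_ct (K32.f453576 IH) (Lpn K32.v486))))))))))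
def v489 : LQ := Led Lsl_et (LP (LK LD1_c0 LD2_c42 LD3_c29))
theorem f453593 : Led Lsl_et (LP (LK LD1_c0 LD2_c42 LD3_c29)) = v489 :=
  Lrfl
theorem f453595 : Led Lsl_ef (LP (LK LD1_c0 LD2_c42 LD3_c29)) = v489 :=
  Lgr Lrot88 (Lpr_et (f453593 IH) (Lpn v489))
theorem f622705 : Led Lsl_af v489 = v3057 :=
  Lgr Lrot50 (Lpe (f453595 IH) (Lpr_at (f453580 IH) (Lpr_et (f622704 IH) (Lpn v3057))))
def v3067 : LQ := Led Lsl_ft v489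
theorem f622730 : Led Lsl_ft v489 = v3067 :=
  Lrfl
theorem f677455 : Led Lsl_at v3067 = v9738 :=
  Lgr Lrot66 (Lpe (f622730 IH) (Lpr_af (f622705 IH) (Lpr_ff (f677454 IH) (Lpn v9738))))
def v3064 : LQ := Led Lsl_gt v489
theorem f622726 : Led Lsl_gt v489 = v3064 :=
  Lrfl
theorem f677458 : Led Lsl_gt v3064 = v9738 :=
  Lgr Lrot46 (Lpe (f622726 IH) (Lpr_ft (f622730 IH) (Lpr_at (f677455 IH) (Lpn v9738))))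
def v9761 : LQ := Led Lsl_ct v3064
theorem f677525 : Led Lsl_ct v3064 = v9761 :=
  Lrfl
theorem f677526 : Led Lsl_cf v3064 = v9761 :=
  Lgr Lrot11 (Lpr_ct (f677525 IH) (Lpn v9761))
def v7887 : LQ := Led Lsl_gt v1349
theorem f668883 : Led Lsl_gt v1349 = v7887 :=
  Lrfl
theorem f770903 : v9761 = v7887 :=
  (Llr Lrot169 (Lpe (f677526 IH) (Lpr_gt (f677458 IH) (Lpe (f677453 IH) (Lpr_df (f648470 IH) (Lpr_cf (f764858 IH) (Lpe (K57.f764854 IH) (Lpr_cf (f764873 IH) (Lpr_gf (f770902 IH) (Lpe (f633279 IH) (Lpr_gt (f668883 IH) (Lpn v7887)))))))))))).symm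
theorem f622706 : Led Lsl_cf v487 = v3057 :=
  Lgr Lrot39 (Lpe (f453587 IH) (Lpr_ct (K32.f453576 IH) (Lpr_et (f622704 IH) (Lpn v3057))))
theorem f677456 : Led Lsl_ct v3060 = v9738 :=
  Lgr Lrot40 (Lpe (f622713 IH) (Lpr_cf (f622706 IH) (Lpr_ff (f677454 IH) (Lpn v9738))))
theorem f453589 : Led Lsl_bt (LP (LK LD1_c2 LD2_c19 LD3_c8)) = v487 :=
  Lgr Lrot119 (Lpe (K35.f131564 IH) (Lpe (K32.f435521 IH) (Lpr_ef (f453587 IH) (Lpn v487))))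
theorem f632569 : Led Lsl_bt v3060 = K51.v4306 :=
  Lgr Lrot35 (Lpe (f622713 IH) (Lpe (f453589 IH) (Lpr_ff (K51.f632566 IH) (Lpn K51.v4306))))
theorem f435489 : Led Lsl_bt (LP (LK LD1_c4 LD2_c43 LD3_c18)) = (LP (LK LD1_c2 LD2_c19 LD3_c20)) :=
  Lre_b IH (LK LD1_c4 LD2_c43 LD3_c18) (LK LD1_c2 LD2_c19 LD3_c20) Lrfl Lrfl
theorem f495031 : Led Lsl_bt (LP (LK LD1_c1 LD2_c7 LD3_c51)) = v1349 :=
  Lgr Lrot119 (Lpe (K57.f78009 IH) (Lpe (K2.f25203 IH) (Lpr_ef (f495030 IH) (Lpn v1349))))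
theorem f110562 : Led Lsl_gt (LP (LK LD1_c4 LD2_c46 LD3_c6)) = (LP (LK LD1_c2 LD2_c21 LD3_c4)) :=
  Lre_g IH (LK LD1_c4 LD2_c46 LD3_c6) (LK LD1_c2 LD2_c21 LD3_c4) Lrfl Lrfl
theorem f770904 : v13340 = (LP (LK LD1_c4 LD2_c46 LD3_c6)) :=
  (Llr Lrot64 (Lpe (f702429 IH) (Lpr_bt (f435489 IH) (Lpr_gf (K51.f632571 IH) (Lpe (f632569 IH) (Lpr_ct (f677456 IH) (Lpe (f677458 IH) (Lpr_cf (f677526 IH) (Lpqs (f770903 IH) (Lpe (f668883 IH) (Lpe (f495031 IH) (Lpr_ct (K5.f133206 IH) (Lpe (f110562 IH) (Lpn (LP (LK LD1_c4 LD2_c46 LD3_c6)))))))))))))))).symm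
theorem f770906 : Led Lsl_ct (LP (LK LD1_c4 LD2_c43 LD3_c18)) = (LP (LK LD1_c4 LD2_c46 LD3_c6)) :=
  Leop (Lpq (f770904 IH) (Lpe (f702429 IH) (Lpn (LP (LK LD1_c4 LD2_c43 LD3_c18)))))
theorem seed_1302 : LEOK LG_c (LK LD1_c4 LD2_c43 LD3_c18) :=
  Leoe_c (LK LD1_c4 LD2_c43 LD3_c18) (f770906 IH)
def v4417 : LQ := Led Lsl_at (LP (LK LD1_c2 LD2_c21 LD3_c5))
theorem f633262 : Led Lsl_at (LP (LK LD1_c2 LD2_c21 LD3_c5)) = v4417 :=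
  Lrfl
theorem f633263 : Led Lsl_af (LP (LK LD1_c2 LD2_c21 LD3_c5)) = v4417 :=
  Lgr Lrot0 (Lpr_at (f633262 IH) (Lpn v4417))
def v4406 : LQ := Led Lsl_ft (LP (LK LD1_c2 LD2_c20 LD3_c43))
theorem f633169 : Led Lsl_ft (LP (LK LD1_c2 LD2_c20 LD3_c43)) = v4406 :=
  Lrfl
theorem f633172 : Led Lsl_ff (LP (LK LD1_c2 LD2_c20 LD3_c43)) = v4406 :=
  Lgr Lrot3 (Lpr_ft (f633169 IH) (Lpn v4406))
theorem f633177 : Led Lsl_gf (LP (LK LD1_c2 LD2_c21 LD3_c5)) = v4406 :=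
  Lgr Lrot47 (Lpr_gt (K57.f78014 IH) (Lpe (K5.f133207 IH) (Lpr_ff (f633172 IH) (Lpn v4406))))
theorem f133216 : Led Lsl_ft (LP (LK LD1_c1 LD2_c7 LD3_c51)) = (LP (LK LD1_c2 LD2_c21 LD3_c7)) :=
  Lre_f IH (LK LD1_c1 LD2_c7 LD3_c51) (LK LD1_c2 LD2_c21 LD3_c7) Lrfl Lrfl
theorem f633175 : Led Lsl_at (LP (LK LD1_c2 LD2_c21 LD3_c7)) = v4406 :=
  Lgr Lrot66 (Lpe (f133216 IH) (Lpe (K5.f133207 IH) (Lpr_ff (f633172 IH) (Lpn v4406))))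
def v1350 : LQ := Led Lsl_gt (LP (LK LD1_c1 LD2_c7 LD3_c51))
theorem f495033 : Led Lsl_gt (LP (LK LD1_c1 LD2_c7 LD3_c51)) = v1350 :=
  Lrfl
theorem f633183 : Led Lsl_gt v1350 = v4406 :=
  Lgr Lrot46 (Lpe (f495033 IH) (Lpr_ft (f133216 IH) (Lpr_at (f633175 IH) (Lpn v4406))))
theorem f633264 : Led Lsl_ft v1350 = v4417 :=
  Lgr Lrot2 (Lpr_gt (f633183 IH) (Lpe (f633177 IH) (Lpr_af (f633263 IH) (Lpn v4417))))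
def v7889 : LQ := Led Lsl_bt v1350
theorem f668885 : Led Lsl_bt v1350 = v7889 :=
  Lrfl
theorem f668886 : Led Lsl_bf v1350 = v7889 :=
  Lgr Lrot24 (Lpr_bt (f668885 IH) (Lpn v7889))
def v13541 : LQ := Led Lsl_ft (LP (LK LD1_c4 LD2_c45 LD3_c8))
theorem f703510 : Led Lsl_ft (LP (LK LD1_c4 LD2_c45 LD3_c8)) = v13541 :=
  Lrfl
theorem f703514 : Led Lsl_ff (LP (LK LD1_c4 LD2_c45 LD3_c8)) = v13541 :=
  Lgr Lrot3 (Lpr_ft (f703510 IH) (Lpn v13541))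
theorem f102061 : Led Lsl_et (LP (LK LD1_c2 LD2_c20 LD3_c42)) = (LP (LK LD1_c4 LD2_c45 LD3_c8)) :=
  Lre_e IH (LK LD1_c2 LD2_c20 LD3_c42) (LK LD1_c4 LD2_c45 LD3_c8) Lrfl Lrfl
theorem f103060 : Led Lsl_et (LP (LK LD1_c2 LD2_c21 LD3_c4)) = (LP (LK LD1_c1 LD2_c7 LD3_c50)) :=
  Lre_e IH (LK LD1_c2 LD2_c21 LD3_c4) (LK LD1_c1 LD2_c7 LD3_c50) Lrfl Lrfl
theorem f113752 : Led Lsl_at (LP (LK LD1_c4 LD2_c45 LD3_c8)) = (LP (LK LD1_c2 LD2_c21 LD3_c4)) :=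
  Lgr Lrot80 (Lpe (f102061 IH) (Lpr_af (K4.f113741 IH) (Lpe (f103060 IH) (Lpn (LP (LK LD1_c2 LD2_c21 LD3_c4))))))
theorem f703519 : Led Lsl_gf (LP (LK LD1_c4 LD2_c46 LD3_c6)) = v13541 :=
  Lgr Lrot47 (Lpr_gt (f110562 IH) (Lpe (f113752 IH) (Lpr_ff (f703514 IH) (Lpn v13541))))
theorem f703517 : Led Lsl_ct v4406 = v13541 :=
  Lgr Lrot40 (Lpe (f633169 IH) (Lpe (K5.f91345 IH) (Lpr_ff (f703514 IH) (Lpn v13541))))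
theorem f770922 : v7889 = (LP (LK LD1_c1 LD2_c8 LD3_c13)) :=
  (Llr Lrot165 (Lpe (f668886 IH) (Lpr_gt (f633183 IH) (Lpr_ct (f703517 IH) (Lpe (f703519 IH) (Lpq (f770904 IH) (Lpe (f702429 IH) (Lpr_bt (f435489 IH) (Lpr_gt (K51.f150479 IH) (Lpe (K11.f150465 IH) (Lpe (K24.f26370 IH) (Lpr_gt (K11.f26813 IH) (Lpe (K32.f435484 IH) (Lpn (LP (LK LD1_c1 LD2_c8 LD3_c13)))))))))))))))).symm
theorem f770924 : v1350 = v1361 :=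
  Lefun (Lecon (Lfl_bf (f668886 IH)) (f770922 IH)) (f495118 IH)
theorem f770931 : (LP (LK LD1_c1 LD2_c36 LD3_c25)) = v4417 :=
  Lefun (Lecon (Lfl_ff (f508517 IH)) (f770924 IH).symm) (f633264 IH)
theorem f770933 : Led Lsl_at (LP (LK LD1_c2 LD2_c21 LD3_c5)) = (LP (LK LD1_c1 LD2_c36 LD3_c25)) :=
  Leop (Lpqs (f770931 IH) (Lpe (f633262 IH) (Lpn (LP (LK LD1_c2 LD2_c21 LD3_c5)))))
theorem seed_1303 : LEOK LG_a (LK LD1_c2 LD2_c21 LD3_c5) :=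
  Leoe_a (LK LD1_c2 LD2_c21 LD3_c5) (f770933 IH)
def v2146 : LQ := Led Lsl_et (LP (LK LD1_c1 LD2_c36 LD3_c25))
theorem f509220 : Led Lsl_et (LP (LK LD1_c1 LD2_c36 LD3_c25)) = v2146 :=
  Lrfl
theorem f417011 : Led Lsl_dt (LP (LK LD1_c1 LD2_c36 LD3_c25)) = (LP (LK LD1_c3 LD2_c20 LD3_c3)) :=
  Lre_d IH (LK LD1_c1 LD2_c36 LD3_c25) (LK LD1_c3 LD2_c20 LD3_c3) Lrfl Lrfl
def v6306 : LQ := Led Lsl_gf (LP (LK LD1_c3 LD2_c20 LD3_c3))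
theorem f652652 : Led Lsl_gf (LP (LK LD1_c3 LD2_c20 LD3_c3)) = v6306 :=
  Lrfl
def v8684 : LQ := Led Lsl_gt v2146
theorem f672001 : Led Lsl_gt v2146 = v8684 :=
  Lrfl
def v7897 : LQ := Led Lsl_gt K49.v1352
theorem f668907 : Led Lsl_gt K49.v1352 = v7897 :=
  Lrfl
def v2184 : LQ := Led Lsl_bt (LP (LK LD1_c1 LD2_c36 LD3_c61))
def v8734 : LQ := Led Lsl_at v2184
theorem f672115 : Led Lsl_at v2184 = v8734 :=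
  Lrfl
theorem f509507 : Led Lsl_bt (LP (LK LD1_c1 LD2_c36 LD3_c61)) = v2184 :=
  Lrfl
theorem f509221 : Led Lsl_bf (LP (LK LD1_c1 LD2_c36 LD3_c27)) = v2146 :=
  Lgr Lrot96 (Lpr_et (K16.f415412 IH) (Lpr_bt (f415432 IH) (Lpr_et (f509220 IH) (Lpn v2146))))
theorem f509510 : Led Lsl_ff v2146 = v2184 :=
  Lgr Lrot25 (Lpe (f509221 IH) (Lpr_ft (K35.f508067 IH) (Lpr_bt (f509507 IH) (Lpn v2184))))
theorem f509511 : Led Lsl_ft v2146 = v2184 :=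
  Lgr Lrot48 (Lpr_ff (f509510 IH) (Lpn v2184))
theorem f672119 : Led Lsl_gt v8684 = v8734 :=
  Lgr Lrot46 (Lpe (f672001 IH) (Lpr_ft (f509511 IH) (Lpr_at (f672115 IH) (Lpn v8734))))
def v355 : LQ := Led Lsl_et (LP (LK LD1_c0 LD2_c31 LD3_c3))
def v2838 : LQ := Led Lsl_gf v355
def v9658 : LQ := Led Lsl_et v2838
theorem f677081 : Led Lsl_et v2838 = v9658 :=
  Lrfl
theorem f677082 : Led Lsl_ef v2838 = v9658 :=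
  Lgr Lrot88 (Lpr_et (f677081 IH) (Lpn v9658))
theorem f535899 : Led Lsl_gf v355 = v2838 :=
  Lrfl
theorem f452381 : Led Lsl_et (LP (LK LD1_c0 LD2_c31 LD3_c3)) = v355 :=
  Lrfl
theorem f677083 : Led Lsl_df v7897 = v9658 :=
  Lgr Lrot132 (Lpe (f668907 IH) (Lpe (K49.f495054 IH) (Lpe (K35.f76948 IH) (Lpe (K54.f98955 IH) (Lpr_dt (K3.f13782 IH) (Lpe (K0.f23306 IH) (Lpe (K54.f23326 IH) (Lpr_et (f452381 IH) (Lpr_gf (f535899 IH) (Lpr_ef (f677082 IH) (Lpn v9658)))))))))))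
def v2049 : LQ := Led Lsl_bt (LP (LK LD1_c1 LD2_c34 LD3_c12))
theorem f508561 : Led Lsl_bt (LP (LK LD1_c1 LD2_c34 LD3_c12)) = v2049 :=
  Lrfl
theorem f508562 : Led Lsl_bf (LP (LK LD1_c1 LD2_c34 LD3_c12)) = v2049 :=
  Lgr Lrot24 (Lpr_bt (f508561 IH) (Lpn v2049))
theorem f509509 : Led Lsl_df v2049 = v2184 :=
  Lgr Lrot12 (Lpe (f508562 IH) (Lpr_dt (K17.f180336 IH) (Lpr_bt (f509507 IH) (Lpn v2184))))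
theorem f509512 : Led Lsl_dt v2049 = v2184 :=
  Lgr Lrot42 (Lpr_df (f509509 IH) (Lpn v2184))
def v8463 : LQ := Led Lsl_at v2049
theorem f671304 : Led Lsl_at v2049 = v8463 :=
  Lrfl
theorem f671305 : Led Lsl_af v2049 = v8463 :=
  Lgr Lrot0 (Lpr_at (f671304 IH) (Lpn v8463))
theorem f672117 : Led Lsl_df v8463 = v8734 :=
  Lgr Lrot18 (Lpe (f671305 IH) (Lpr_dt (f509512 IH) (Lpr_at (f672115 IH) (Lpn v8734))))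
theorem f672123 : Led Lsl_dt v8463 = v8734 :=
  Lgr Lrot42 (Lpr_df (f672117 IH) (Lpn v8734))
theorem f508563 : Led Lsl_ef v522 = v2049 :=
  Lgr Lrot29 (Lpe (f453765 IH) (Lpr_et (K32.f180341 IH) (Lpr_bt (f508561 IH) (Lpn v2049))))
theorem f508569 : Led Lsl_et v522 = v2049 :=
  Lgr Lrot87 (Lpr_ef (f508563 IH) (Lpn v2049))
theorem f671306 : Led Lsl_ef v3125 = v8463 :=
  Lgr Lrot20 (Lpe (f623954 IH) (Lpr_et (f508569 IH) (Lpr_at (f671304 IH) (Lpn v8463))))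
theorem f671307 : Led Lsl_et v3125 = v8463 :=
  Lgr Lrot87 (Lpr_ef (f671306 IH) (Lpn v8463))
def v7853 : LQ := Led Lsl_gt v1334
theorem f668732 : Led Lsl_gt v1334 = v7853 :=
  Lrfl
theorem f668733 : Led Lsl_gf v3125 = v7853 :=
  Lgr Lrot76 (Lpe (f623953 IH) (Lpr_ff (f508555 IH) (Lpr_gt (f668732 IH) (Lpn v7853))))
def v1287 : LQ := Led Lsl_et (LP (LK LD1_c1 LD2_c5 LD3_c36))
def v7798 : LQ := Led Lsl_ft v1287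
theorem f668459 : Led Lsl_ft v1287 = v7798 :=
  Lrfl
theorem f668463 : Led Lsl_ff v1287 = v7798 :=
  Lgr Lrot3 (Lpr_ft (f668459 IH) (Lpn v7798))
theorem f494634 : Led Lsl_et (LP (LK LD1_c1 LD2_c5 LD3_c36)) = v1287 :=
  Lrfl
theorem f102945 : Led Lsl_af (LP (LK LD1_c1 LD2_c5 LD3_c36)) = (LP (LK LD1_c0 LD2_c31 LD3_c3)) :=
  Lgr Lrot68 (Lpr_ct (K3.f23925 IH) (Lpr_at (K3.f102938 IH) (Lpr_ct (K3.f98947 IH) (Lpn (LP (LK LD1_c0 LD2_c31 LD3_c3))))))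
theorem f452382 : Led Lsl_ef (LP (LK LD1_c0 LD2_c31 LD3_c3)) = v355 :=
  Lgr Lrot88 (Lpr_et (f452381 IH) (Lpn v355))
theorem f494635 : Led Lsl_af v355 = v1287 :=
  Lgr Lrot50 (Lpe (f452382 IH) (Lpe (f102945 IH) (Lpr_et (f494634 IH) (Lpn v1287))))
theorem f668468 : Led Lsl_gf v2838 = v7798 :=
  Lgr Lrot47 (Lpe (f535899 IH) (Lpr_af (f494635 IH) (Lpr_ff (f668463 IH) (Lpn v7798))))
def v2840 : LQ := Led Lsl_ft v355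
theorem f535904 : Led Lsl_ft v355 = v2840 :=
  Lrfl
theorem f668465 : Led Lsl_at v2840 = v7798 :=
  Lgr Lrot66 (Lpe (f535904 IH) (Lpr_af (f494635 IH) (Lpr_ff (f668463 IH) (Lpn v7798))))
def v2837 : LQ := Led Lsl_gt v355
theorem f535898 : Led Lsl_gt v355 = v2837 :=
  Lrfl
theorem f668469 : Led Lsl_gt v2837 = v7798 :=
  Lgr Lrot46 (Lpe (f535898 IH) (Lpr_ft (f535904 IH) (Lpr_at (f668465 IH) (Lpn v7798))))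
def v9653 : LQ := Led Lsl_et v2837
theorem f677067 : Led Lsl_et v2837 = v9653 :=
  Lrfl
theorem f677068 : Led Lsl_ef v2837 = v9653 :=
  Lgr Lrot88 (Lpr_et (f677067 IH) (Lpn v9653))
def v4379 : LQ := Led Lsl_bt (LP (LK LD1_c2 LD2_c20 LD3_c14))
theorem f633022 : Led Lsl_bt (LP (LK LD1_c2 LD2_c20 LD3_c14)) = v4379 :=
  Lrfl
theorem f494904 : Led Lsl_bf (LP (LK LD1_c1 LD2_c7 LD3_c24)) = v1334 :=
  Lgr Lrot24 (Lpr_bt (f494903 IH) (Lpn v1334))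
theorem f633024 : Led Lsl_ef v1334 = v4379 :=
  Lgr Lrot29 (Lpe (f494904 IH) (Lpr_et (K32.f435431 IH) (Lpr_bt (f633022 IH) (Lpn v4379))))
def v4465 : LQ := Led Lsl_bt (LP (LK LD1_c2 LD2_c21 LD3_c59))
theorem f634031 : Led Lsl_bt (LP (LK LD1_c2 LD2_c21 LD3_c59)) = v4465 :=
  Lrfl
theorem f633023 : Led Lsl_bf (LP (LK LD1_c2 LD2_c20 LD3_c14)) = v4379 :=
  Lgr Lrot24 (Lpr_bt (f633022 IH) (Lpn v4379))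
theorem f634033 : Led Lsl_df v4379 = v4465 :=
  Lgr Lrot12 (Lpe (f633023 IH) (Lpr_dt (K32.f92141 IH) (Lpr_bt (f634031 IH) (Lpn v4465))))
theorem f78489 : Led Lsl_et (LP (LK LD1_c1 LD2_c7 LD3_c48)) = (LP (LK LD1_c0 LD2_c31 LD3_c6)) :=
  Lre_e IH (LK LD1_c1 LD2_c7 LD3_c48) (LK LD1_c0 LD2_c31 LD3_c6) Lrfl Lrfl
def v4414 : LQ := Led Lsl_gf (LP (LK LD1_c2 LD2_c20 LD3_c60))
theorem f633249 : Led Lsl_gf (LP (LK LD1_c2 LD2_c20 LD3_c60)) = v4414 :=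
  Lrfl
theorem f677069 : Led Lsl_df v4414 = v9653 :=
  Lgr Lrot170 (Lpe (f633249 IH) (Lpe (K3.f78230 IH) (Lpr_et (f78489 IH) (Lpr_gt (K3.f13802 IH) (Lpr_dt (K0.f13773 IH) (Lpr_gt (K0.f23327 IH) (Lpe (K54.f23326 IH) (Lpr_et (f452381 IH) (Lpr_gt (f535898 IH) (Lpr_ef (f677068 IH) (Lpn v9653)))))))))))
theorem f677070 : Led Lsl_dt v4414 = v9653 :=
  Lgr Lrot42 (Lpr_df (f677069 IH) (Lpn v9653))
def v13608 : LQ := Led Lsl_at (LP (LK LD1_c4 LD2_c45 LD3_c56))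
theorem f703889 : Led Lsl_at (LP (LK LD1_c4 LD2_c45 LD3_c56)) = v13608 :=
  Lrfl
theorem f703890 : Led Lsl_af (LP (LK LD1_c4 LD2_c45 LD3_c56)) = v13608 :=
  Lgr Lrot0 (Lpr_at (f703889 IH) (Lpn v13608))
theorem f703891 : Led Lsl_ft v4414 = v13608 :=
  Lgr Lrot2 (Lpe (f633249 IH) (Lpr_gt (K57.f78491 IH) (Lpr_af (f703890 IH) (Lpn v13608))))
theorem f703892 : Led Lsl_ff v4414 = v13608 :=
  Lgr Lrot3 (Lpr_ft (f703891 IH) (Lpn v13608))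
theorem f507974 : Led Lsl_ft (LP (LK LD1_c1 LD2_c36 LD3_c11)) = (LP (LK LD1_c2 LD2_c21 LD3_c59)) :=
  Lgr Lrot48 (Lpr_ff (K32.f507970 IH) (Lpn (LP (LK LD1_c2 LD2_c21 LD3_c59))))
theorem f416950 : Led Lsl_bt (LP (LK LD1_c3 LD2_c19 LD3_c34)) = (LP (LK LD1_c1 LD2_c36 LD3_c11)) :=
  Lre_b IH (LK LD1_c3 LD2_c19 LD3_c34) (LK LD1_c1 LD2_c36 LD3_c11) Lrfl Lrfl
theorem f634034 : Led Lsl_ff (LP (LK LD1_c3 LD2_c19 LD3_c34)) = v4465 :=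
  Lgr Lrot25 (Lpr_bt (f416950 IH) (Lpr_ft (f507974 IH) (Lpr_bt (f634031 IH) (Lpn v4465))))
theorem f634035 : Led Lsl_ft (LP (LK LD1_c3 LD2_c19 LD3_c34)) = v4465 :=
  Lgr Lrot48 (Lpr_ff (f634034 IH) (Lpn v4465))
def v13635 : LQ := Led Lsl_at (LP (LK LD1_c4 LD2_c46 LD3_c10))
theorem f703992 : Led Lsl_at (LP (LK LD1_c4 LD2_c46 LD3_c10)) = v13635 :=
  Lrfl
theorem f435798 : Led Lsl_et (LP (LK LD1_c4 LD2_c45 LD3_c56)) = (LP (LK LD1_c4 LD2_c46 LD3_c10)) :=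
  Lgr Lrot87 (Lpr_ef (K57.f435791 IH) (Lpn (LP (LK LD1_c4 LD2_c46 LD3_c10))))
theorem f703995 : Led Lsl_ef v13608 = v13635 :=
  Lgr Lrot20 (Lpe (f703890 IH) (Lpr_et (f435798 IH) (Lpr_at (f703992 IH) (Lpn v13635))))
theorem f415460 : Led Lsl_bt (LP (LK LD1_c1 LD2_c36 LD3_c26)) = (LP (LK LD1_c3 LD2_c20 LD3_c3)) :=
  Lre_b IH (LK LD1_c1 LD2_c36 LD3_c26) (LK LD1_c3 LD2_c20 LD3_c3) Lrfl Lrfl
theorem f416960 : Led Lsl_ef (LP (LK LD1_c3 LD2_c19 LD3_c34)) = (LP (LK LD1_c3 LD2_c20 LD3_c3)) :=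
  Lgr Lrot29 (Lpr_bt (f416950 IH) (Lpr_et (K29.f416942 IH) (Lpr_bt (f415460 IH) (Lpn (LP (LK LD1_c3 LD2_c20 LD3_c3))))))
theorem f703994 : Led Lsl_df v4417 = v13635 :=
  Lgr Lrot18 (Lpe (f633263 IH) (Lpr_dt (K57.f435797 IH) (Lpr_at (f703992 IH) (Lpn v13635))))
theorem f633265 : Led Lsl_ff v1350 = v4417 :=
  Lgr Lrot3 (Lpr_ft (f633264 IH) (Lpn v4417))
def v7891 : LQ := Led Lsl_dt v1350
theorem f668889 : Led Lsl_dt v1350 = v7891 :=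
  Lrfl
theorem f703998 : Led Lsl_ft v7891 = v13635 :=
  Lgr Lrot54 (Lpe (f668889 IH) (Lpr_ff (f633265 IH) (Lpr_df (f703994 IH) (Lpn v13635))))
def v4475 : LQ := Led Lsl_bt (LP (LK LD1_c2 LD2_c22 LD3_c8))
theorem f634081 : Led Lsl_bt (LP (LK LD1_c2 LD2_c22 LD3_c8)) = v4475 :=
  Lrfl
theorem f508262 : Led Lsl_ft (LP (LK LD1_c1 LD2_c34 LD3_c11)) = (LP (LK LD1_c3 LD2_c3 LD3_c2)) :=
  Lgr Lrot4 (Lpr_cf (K35.f435578 IH) (Lpe (K35.f435592 IH) (Lpr_cf (K55.f508258 IH) (Lpn (LP (LK LD1_c3 LD2_c3 LD3_c2))))))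
theorem f508266 : Led Lsl_ff (LP (LK LD1_c1 LD2_c34 LD3_c11)) = (LP (LK LD1_c3 LD2_c3 LD3_c2)) :=
  Lgr Lrot3 (Lpr_ft (f508262 IH) (Lpn (LP (LK LD1_c3 LD2_c3 LD3_c2))))
theorem f508268 : Led Lsl_ft (LP (LK LD1_c1 LD2_c36 LD3_c12)) = (LP (LK LD1_c2 LD2_c21 LD3_c58)) :=
  Lgr Lrot54 (Lpe (K32.f139888 IH) (Lpr_ff (f508266 IH) (Lpe (K29.f416807 IH) (Lpn (LP (LK LD1_c2 LD2_c21 LD3_c58))))))
theorem f444015 : Led Lsl_cf (LP (LK LD1_c1 LD2_c36 LD3_c12)) = (LP (LK LD1_c3 LD2_c8 LD3_c54)) :=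
  Lgr Lrot11 (Lpr_ct (K50.f444005 IH) (Lpn (LP (LK LD1_c3 LD2_c8 LD3_c54))))
theorem f508272 : Led Lsl_ff (LP (LK LD1_c3 LD2_c8 LD3_c54)) = (LP (LK LD1_c4 LD2_c42 LD3_c11)) :=
  Lgr Lrot23 (Lpe (f444015 IH) (Lpr_ft (f508268 IH) (Lpr_ct (K32.f435399 IH) (Lpn (LP (LK LD1_c4 LD2_c42 LD3_c11))))))
theorem f153529 : Led Lsl_dt (LP (LK LD1_c9 LD2_c18 LD3_c43)) = (LP (LK LD1_c4 LD2_c42 LD3_c11)) :=
  Lre_d IH (LK LD1_c9 LD2_c18 LD3_c43) (LK LD1_c4 LD2_c42 LD3_c11) Lrfl Lrfl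
theorem f508276 : Led Lsl_ft (LP (LK LD1_c6 LD2_c22 LD3_c22)) = (LP (LK LD1_c9 LD2_c18 LD3_c43)) :=
  Lgr Lrot54 (Lpe (K29.f435745 IH) (Lpr_ff (f508272 IH) (Lpe (f153529 IH) (Lpn (LP (LK LD1_c9 LD2_c18 LD3_c43))))))
theorem f508314 : Led Lsl_af (LP (LK LD1_c6 LD2_c22 LD3_c20)) = (LP (LK LD1_c9 LD2_c18 LD3_c43)) :=
  Lgr Lrot31 (Lpe (K29.f415483 IH) (Lpr_gf (K29.f491579 IH) (Lpr_ft (f508276 IH) (Lpn (LP (LK LD1_c9 LD2_c18 LD3_c43))))))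
theorem f153531 : Led Lsl_dt (LP (LK LD1_c4 LD2_c42 LD3_c11)) = (LP (LK LD1_c9 LD2_c18 LD3_c43)) :=
  Lre_d IH (LK LD1_c4 LD2_c42 LD3_c11) (LK LD1_c9 LD2_c18 LD3_c43) Lrfl Lrfl
theorem f508320 : Led Lsl_at (LP (LK LD1_c3 LD2_c8 LD3_c53)) = (LP (LK LD1_c4 LD2_c42 LD3_c11)) :=
  Lgr Lrot51 (Lpe (K29.f415482 IH) (Lpr_af (f508314 IH) (Lpe (f153531 IH) (Lpn (LP (LK LD1_c4 LD2_c42 LD3_c11))))))
theorem f508372 : Led Lsl_af (LP (LK LD1_c3 LD2_c20 LD3_c4)) = (LP (LK LD1_c4 LD2_c48 LD3_c34)) :=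
  Lgr Lrot50 (Lpr_et (K29.f415471 IH) (Lpr_at (f508320 IH) (Lpe (K32.f435395 IH) (Lpn (LP (LK LD1_c4 LD2_c48 LD3_c34))))))
theorem f61693 : Led Lsl_ct (LP (LK LD1_c6 LD2_c26 LD3_c37)) = (LP (LK LD1_c3 LD2_c11 LD3_c12)) :=
  Lre_c IH (LK LD1_c6 LD2_c26 LD3_c37) (LK LD1_c3 LD2_c11 LD3_c12) Lrfl Lrfl
theorem f57626 : Led Lsl_ct (LP (LK LD1_c1 LD2_c36 LD3_c24)) = (LP (LK LD1_c3 LD2_c20 LD3_c1)) :=
  Lre_c IH (LK LD1_c1 LD2_c36 LD3_c24) (LK LD1_c3 LD2_c20 LD3_c1) Lrfl Lrfl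
theorem f504730 : Led Lsl_gf (LP (LK LD1_c6 LD2_c26 LD3_c37)) = (LP (LK LD1_c3 LD2_c20 LD3_c1)) :=
  Lgr Lrot104 (Lpr_ct (f61693 IH) (Lpe (K17.f61684 IH) (Lpr_cf (K41.f444206 IH) (Lpe (K50.f504728 IH) (Lpr_cf (K32.f504720 IH) (Lpe (K35.f414585 IH) (Lpe (K35.f438685 IH) (Lpr_gt (K32.f416856 IH) (Lpr_ct (f57626 IH) (Lpn (LP (LK LD1_c3 LD2_c20 LD3_c1))))))))))))
theorem f508378 : Led Lsl_ft (LP (LK LD1_c3 LD2_c20 LD3_c1)) = (LP (LK LD1_c4 LD2_c48 LD3_c34)) :=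
  Lgr Lrot2 (Lpe (f504730 IH) (Lpe (K17.f415440 IH) (Lpr_af (f508372 IH) (Lpn (LP (LK LD1_c4 LD2_c48 LD3_c34))))))
theorem f508386 : Led Lsl_ff (LP (LK LD1_c3 LD2_c20 LD3_c1)) = (LP (LK LD1_c4 LD2_c48 LD3_c34)) :=
  Lgr Lrot3 (Lpr_ft (f508378 IH) (Lpn (LP (LK LD1_c4 LD2_c48 LD3_c34))))
theorem f507520 : Led Lsl_gf (LP (LK LD1_c9 LD2_c20 LD3_c15)) = (LP (LK LD1_c4 LD2_c48 LD3_c34)) :=
  Lgr Lrot104 (Lpr_ct (K32.f435374 IH) (Lpr_df (K32.f435494 IH) (Lpe (K57.f442904 IH) (Lpr_gf (K46.f507516 IH) (Lpe (K32.f415435 IH) (Lpe (K32.f415351 IH) (Lpr_df (K32.f23286 IH) (Lpr_gt (K32.f437964 IH) (Lpr_ct (K35.f135533 IH) (Lpn (LP (LK LD1_c4 LD2_c48 LD3_c34))))))))))))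
theorem f508392 : Led Lsl_at (LP (LK LD1_c3 LD2_c20 LD3_c1)) = (LP (LK LD1_c4 LD2_c48 LD3_c31)) :=
  Lgr Lrot26 (Lpr_ff (f508386 IH) (Lpe (f507520 IH) (Lpe (K32.f435375 IH) (Lpn (LP (LK LD1_c4 LD2_c48 LD3_c31))))))
theorem f507988 : Led Lsl_at (LP (LK LD1_c3 LD2_c20 LD3_c4)) = (LP (LK LD1_c4 LD2_c48 LD3_c34)) :=
  Lgr Lrot107 (Lpe (K17.f415439 IH) (Lpr_af (K32.f507984 IH) (Lpe (K32.f135525 IH) (Lpn (LP (LK LD1_c4 LD2_c48 LD3_c34))))))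
theorem f508403 : Led Lsl_ff (LP (LK LD1_c3 LD2_c20 LD3_c4)) = (LP (LK LD1_c4 LD2_c48 LD3_c31)) :=
  Lgr Lrot30 (Lpr_at (f507988 IH) (Lpe (f508386 IH) (Lpr_at (f508392 IH) (Lpn (LP (LK LD1_c4 LD2_c48 LD3_c31))))))
theorem f508407 : Led Lsl_ft (LP (LK LD1_c1 LD2_c36 LD3_c26)) = (LP (LK LD1_c2 LD2_c22 LD3_c8)) :=
  Lgr Lrot4 (Lpe (K17.f415429 IH) (Lpr_ff (f508403 IH) (Lpe (K48.f23295 IH) (Lpn (LP (LK LD1_c2 LD2_c22 LD3_c8))))))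
theorem f416561 : Led Lsl_bt (LP (LK LD1_c3 LD2_c20 LD3_c3)) = (LP (LK LD1_c1 LD2_c36 LD3_c26)) :=
  Lre_b IH (LK LD1_c3 LD2_c20 LD3_c3) (LK LD1_c1 LD2_c36 LD3_c26) Lrfl Lrfl
theorem f634084 : Led Lsl_ff (LP (LK LD1_c3 LD2_c20 LD3_c3)) = v4475 :=
  Lgr Lrot25 (Lpr_bt (f416561 IH) (Lpr_ft (f508407 IH) (Lpr_bt (f634081 IH) (Lpn v4475))))
theorem f417008 : Led Lsl_dt (LP (LK LD1_c3 LD2_c20 LD3_c3)) = (LP (LK LD1_c1 LD2_c36 LD3_c25)) :=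
  Lre_d IH (LK LD1_c3 LD2_c20 LD3_c3) (LK LD1_c1 LD2_c36 LD3_c25) Lrfl Lrfl
theorem f634085 : Led Lsl_dt v1361 = v4475 :=
  Lgr Lrot60 (Lpe (f508518 IH) (Lpe (f417008 IH) (Lpr_ff (f634084 IH) (Lpn v4475))))
theorem f770929 : v4475 = v7891 :=
  Lefun (Lecon (f634085 IH) (f770924 IH).symm) (f668889 IH)
theorem f770936 : v13635 = (LP (LK LD1_c3 LD2_c20 LD3_c3)) :=
  Lefun (Lecon (f703998 IH) (f770929 IH).symm) (Lfl_ff (f634084 IH))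
theorem f770947 : v13608 = (LP (LK LD1_c3 LD2_c19 LD3_c34)) :=
  Lefun (Lecon (Lfl_ef (f703995 IH)) (f770936 IH)) (Lfl_ef (f416960 IH))
theorem f770956 : v4414 = v4465 :=
  Lefun (Lecon (Lfl_ff (f703892 IH)) (f770947 IH)) (f634035 IH)
theorem f770961 : v4379 = v9653 :=
  Lefun (Lecon (Lfl_df (f634033 IH)) (f770956 IH).symm) (f677070 IH)
theorem f770964 : v2837 = v1334 :=
  Lefun (Lecon (Lfl_ef (f677068 IH)) (f770961 IH).symm) (Lfl_ef (f633024 IH))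
theorem f770968 : v7798 = v7853 :=
  Lefun (Lecon (f668469 IH) (f770964 IH)) (f668732 IH)
theorem f770977 : v3125 = v2838 :=
  Lefun (Lecon (Lfl_gf (f668733 IH)) (f770968 IH).symm) (Lfl_gf (f668468 IH))
theorem f770992 : v8463 = v9658 :=
  Lefun (Lecon (f671307 IH) (f770977 IH)) (f677081 IH)
theorem f770994 : v7897 = v8734 :=
  Lefun (Lecon (Lfl_df (f677083 IH)) (f770992 IH).symm) (f672123 IH)
theorem f770998 : K49.v1352 = v8684 :=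
  Lefun (Lecon (Lfl_gt (f668907 IH)) (f770994 IH)) (Lfl_gt (f672119 IH))
theorem f649933 : Led Lsl_dt v2020 = v5881 :=
  Lgr Lrot42 (Lpr_df (f649932 IH) (Lpn v5881))
def v17309 : LQ := Led Lsl_dt (LP (LK LD1_c6 LD2_c17 LD3_c35))
theorem f758599 : Led Lsl_dt (LP (LK LD1_c6 LD2_c17 LD3_c35)) = v17309 :=
  Lrfl
theorem f771001 : v6306 = v17309 :=
  (Llr Lrot134 (Lpe (f652652 IH) (Lpe (f417011 IH) (Lpr_et (f509220 IH) (Lpr_gt (f672001 IH) (Lpq (f770998 IH) (Lpr_ef (K49.f668914 IH) (Lpe (K57.f668913 IH) (Lpr_gt (K57.f674042 IH) (Lpq (f758522 IH) (Lpqs (f770429 IH) (Lpe (f649933 IH) (Lpq (f770442 IH) (Lpr_et (K57.f668798 IH) (Lpq (f770467 IH) (Lpr_gt (f768285 IH) (Lpq (f770517 IH) (Lpr_dt (f758599 IH) (Lpn v17309))))))))))))))))))).symm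
theorem f58585 : Led Lsl_dt (LP (LK LD1_c6 LD2_c17 LD3_c22)) = (LP (LK LD1_c12 LD2_c11 LD3_c17)) :=
  Lre_d IH (LK LD1_c6 LD2_c17 LD3_c22) (LK LD1_c12 LD2_c11 LD3_c17) Lrfl Lrfl
theorem f86123 : Led Lsl_dt (LP (LK LD1_c9 LD2_c19 LD3_c18)) = (LP (LK LD1_c17 LD2_c14 LD3_c53)) :=
  Lre_d IH (LK LD1_c9 LD2_c19 LD3_c18) (LK LD1_c17 LD2_c14 LD3_c53) Lrfl Lrfl
def v13634 : LQ := Led Lsl_gf (LP (LK LD1_c4 LD2_c46 LD3_c10))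
theorem f703989 : Led Lsl_gf (LP (LK LD1_c4 LD2_c46 LD3_c10)) = v13634 :=
  Lrfl
theorem f86118 : Led Lsl_et (LP (LK LD1_c4 LD2_c42 LD3_c29)) = (LP (LK LD1_c2 LD2_c18 LD3_c39)) :=
  Lre_e IH (LK LD1_c4 LD2_c42 LD3_c29) (LK LD1_c2 LD2_c18 LD3_c39) Lrfl Lrfl
theorem f86129 : Led Lsl_dt (LP (LK LD1_c17 LD2_c14 LD3_c53)) = (LP (LK LD1_c9 LD2_c19 LD3_c18)) :=
  Lre_d IH (LK LD1_c17 LD2_c14 LD3_c53) (LK LD1_c9 LD2_c19 LD3_c18) Lrfl Lrfl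
theorem f703990 : Led Lsl_et (LP (LK LD1_c17 LD2_c14 LD3_c53)) = v13634 :=
  Lgr Lrot121 (Lpr_dt (f86129 IH) (Lpe (K46.f86122 IH) (Lpe (K11.f86088 IH) (Lpr_et (f86118 IH) (Lpe (K57.f153433 IH) (Lpe (K57.f79505 IH) (Lpr_dt (K5.f77997 IH) (Lpe (K57.f78014 IH) (Lpe (K57.f79514 IH) (Lpr_gf (f703989 IH) (Lpn v13634)))))))))))
theorem f758151 : Led Lsl_dt v13634 = K57.v17285 :=
  Lgr Lrot77 (Lpe (f703990 IH) (Lpe (f86123 IH) (Lpr_ef (K46.f647023 IH) (Lpe (f58585 IH) (Lpr_ef (K57.f758150 IH) (Lpn K57.v17285))))))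
theorem f758600 : Led Lsl_af v13634 = v17309 :=
  Lgr Lrot117 (Lpr_dt (f758151 IH) (Lpe (K57.f758262 IH) (Lpr_dt (f758599 IH) (Lpn v17309))))
theorem f703993 : Led Lsl_af (LP (LK LD1_c4 LD2_c46 LD3_c10)) = v13635 :=
  Lgr Lrot0 (Lpr_at (f703992 IH) (Lpn v13635))
theorem f704000 : Led Lsl_gt v7891 = v13634 :=
  Lgr Lrot5 (Lpr_ft (f703998 IH) (Lpe (f703993 IH) (Lpr_gf (f703989 IH) (Lpn v13634))))
def v13637 : LQ := Led Lsl_ft (LP (LK LD1_c4 LD2_c46 LD3_c10))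
theorem f704007 : Led Lsl_ft (LP (LK LD1_c4 LD2_c46 LD3_c10)) = v13637 :=
  Lrfl
def v13633 : LQ := Led Lsl_gt (LP (LK LD1_c4 LD2_c46 LD3_c10))
theorem f703988 : Led Lsl_gt (LP (LK LD1_c4 LD2_c46 LD3_c10)) = v13633 :=
  Lrfl
theorem f704008 : Led Lsl_af v7891 = v13637 :=
  Lgr Lrot45 (Lpr_ft (f703998 IH) (Lpe (f703993 IH) (Lpr_ft (f704007 IH) (Lpn v13637))))
theorem f704011 : Led Lsl_gt v13633 = v7891 :=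
  Lgr Lrot46 (Lpe (f703988 IH) (Lpr_ft (f704007 IH) (Lpe (f704008 IH) (Lpn v7891))))
theorem f758603 : Led Lsl_ft v13633 = v17309 :=
  Lgr Lrot2 (Lpr_gt (f704011 IH) (Lpr_gt (f704000 IH) (Lpr_af (f758600 IH) (Lpn v17309))))
theorem f758604 : Led Lsl_ff v13633 = v17309 :=
  Lgr Lrot3 (Lpr_ft (f758603 IH) (Lpn v17309))
def v6305 : LQ := Led Lsl_gt (LP (LK LD1_c3 LD2_c20 LD3_c3))
theorem f652651 : Led Lsl_gt (LP (LK LD1_c3 LD2_c20 LD3_c3)) = v6305 :=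
  Lrfl
theorem f771002 : Led Lsl_at v13633 = v6305 :=
  Lgr Lrot26 (Lpr_ff (f758604 IH) (Lpq (f771001 IH) (Lpe (f652652 IH) (Lpr_gt (f652651 IH) (Lpn v6305)))))
theorem f758601 : Led Lsl_df (LP (LK LD1_c6 LD2_c17 LD3_c35)) = v17309 :=
  Lgr Lrot38 (Lpr_dt (f758599 IH) (Lpn v17309))
theorem f758263 : Led Lsl_at (LP (LK LD1_c6 LD2_c17 LD3_c35)) = K57.v17285 :=
  Lgr Lrot100 (Lpr_af (K57.f758262 IH) (Lpn K57.v17285))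
theorem f647028 : Led Lsl_et (LP (LK LD1_c9 LD2_c19 LD3_c18)) = (LP (LK LD1_c12 LD2_c11 LD3_c17)) :=
  Lgr Lrot87 (Lpr_ef (K46.f647023 IH) (Lpn (LP (LK LD1_c12 LD2_c11 LD3_c17))))
theorem f703991 : Led Lsl_ef (LP (LK LD1_c17 LD2_c14 LD3_c53)) = v13634 :=
  Lgr Lrot88 (Lpr_et (f703990 IH) (Lpn v13634))
theorem f758149 : Led Lsl_df v13634 = K57.v17285 :=
  Lgr Lrot70 (Lpe (f703991 IH) (Lpr_dt (f86129 IH) (Lpr_et (f647028 IH) (Lpr_dt (K46.f438634 IH) (Lpr_et (K57.f758148 IH) (Lpn K57.v17285))))))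
theorem f758602 : Led Lsl_at v13634 = v17309 :=
  Lgr Lrot51 (Lpr_df (f758149 IH) (Lpe (f758263 IH) (Lpr_df (f758601 IH) (Lpn v17309))))
theorem f771006 : Led Lsl_ff v13634 = v6305 :=
  Lgr Lrot30 (Lpr_at (f758602 IH) (Lpe (f758604 IH) (Lpr_at (f771002 IH) (Lpn v6305))))
theorem f771007 : Led Lsl_ft v13634 = v6305 :=
  Lgr Lrot48 (Lpr_ff (f771006 IH) (Lpn v6305))
def v17310 : LQ := Led Lsl_ft (LP (LK LD1_c6 LD2_c17 LD3_c35))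
theorem f758605 : Led Lsl_ft (LP (LK LD1_c6 LD2_c17 LD3_c35)) = v17310 :=
  Lrfl
theorem f758609 : Led Lsl_ff (LP (LK LD1_c6 LD2_c17 LD3_c35)) = v17310 :=
  Lgr Lrot3 (Lpr_ft (f758605 IH) (Lpn v17310))
theorem f758612 : Led Lsl_et K57.v13158 = v17310 :=
  Lgr Lrot69 (Lpe (K57.f701456 IH) (Lpr_ef (K57.f647012 IH) (Lpqs (K57.f758279 IH) (Lpe (K57.f647041 IH) (Lpe (K57.f58324 IH) (Lpr_ff (f758609 IH) (Lpn v17310)))))))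
theorem f701455 : Led Lsl_dt K50.v4240 = K57.v13158 :=
  Lgr Lrot42 (Lpr_df (K57.f701454 IH) (Lpn K57.v13158))
def v13125 : LQ := Led Lsl_dt (LP (LK LD1_c4 LD2_c40 LD3_c20))
theorem f701247 : Led Lsl_dt (LP (LK LD1_c4 LD2_c40 LD3_c20)) = v13125 :=
  Lrfl
def v13126 : LQ := Led Lsl_ft (LP (LK LD1_c4 LD2_c40 LD3_c20))
theorem f701250 : Led Lsl_ft (LP (LK LD1_c4 LD2_c40 LD3_c20)) = v13126 :=
  Lrfl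
theorem f701252 : Led Lsl_ff (LP (LK LD1_c4 LD2_c40 LD3_c20)) = v13126 :=
  Lgr Lrot3 (Lpr_ft (f701250 IH) (Lpn v13126))
def v13123 : LQ := Led Lsl_at (LP (LK LD1_c4 LD2_c40 LD3_c20))
theorem f701237 : Led Lsl_at (LP (LK LD1_c4 LD2_c40 LD3_c20)) = v13123 :=
  Lrfl
theorem f701238 : Led Lsl_af (LP (LK LD1_c4 LD2_c40 LD3_c20)) = v13123 :=
  Lgr Lrot0 (Lpr_at (f701237 IH) (Lpn v13123))
theorem f99157 : Led Lsl_gt (LP (LK LD1_c2 LD2_c17 LD3_c16)) = (LP (LK LD1_c4 LD2_c40 LD3_c20)) :=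
  Lre_g IH (LK LD1_c2 LD2_c17 LD3_c16) (LK LD1_c4 LD2_c40 LD3_c20) Lrfl Lrfl
theorem f58199 : Led Lsl_gt (LP (LK LD1_c4 LD2_c40 LD3_c21)) = (LP (LK LD1_c2 LD2_c17 LD3_c16)) :=
  Lre_g IH (LK LD1_c4 LD2_c40 LD3_c21) (LK LD1_c2 LD2_c17 LD3_c16) Lrfl Lrfl
theorem f701239 : Led Lsl_ft (LP (LK LD1_c4 LD2_c40 LD3_c21)) = v13123 :=
  Lgr Lrot2 (Lpr_gt (f58199 IH) (Lpr_gt (f99157 IH) (Lpr_af (f701238 IH) (Lpn v13123))))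
theorem f701241 : Led Lsl_ff (LP (LK LD1_c4 LD2_c40 LD3_c21)) = v13123 :=
  Lgr Lrot3 (Lpr_ft (f701239 IH) (Lpn v13123))
theorem f701253 : Led Lsl_at (LP (LK LD1_c4 LD2_c40 LD3_c21)) = v13126 :=
  Lgr Lrot66 (Lpr_ff (f701241 IH) (Lpe (f701237 IH) (Lpr_ff (f701252 IH) (Lpn v13126))))
theorem f758282 : (LP (LK LD1_c2 LD2_c17 LD3_c26)) = v13126 :=
  Lefun (Lecon (Lfl_af (K51.f632151 IH)) (K57.f758281 IH)) (f701253 IH)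
theorem f758294 : (LP (LK LD1_c4 LD2_c40 LD3_c20)) = K50.v4240 :=
  Lefun (Lecon (Lfl_ff (f701252 IH)) (f758282 IH).symm) (K50.f632146 IH)
theorem f758306 : K57.v13158 = v13125 :=
  Lefun (Lecon (f701455 IH) (f758294 IH).symm) (f701247 IH)
theorem f98981 : Led Lsl_et (LP (LK LD1_c9 LD2_c16 LD3_c8)) = (LP (LK LD1_c4 LD2_c40 LD3_c20)) :=
  Lre_e IH (LK LD1_c9 LD2_c16 LD3_c8) (LK LD1_c4 LD2_c40 LD3_c20) Lrfl Lrfl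
theorem f99144 : Led Lsl_et (LP (LK LD1_c1 LD2_c7 LD3_c61)) = (LP (LK LD1_c0 LD2_c31 LD3_c10)) :=
  Lre_e IH (LK LD1_c1 LD2_c7 LD3_c61) (LK LD1_c0 LD2_c31 LD3_c10) Lrfl Lrfl
theorem f58198 : Led Lsl_et (LP (LK LD1_c1 LD2_c5 LD3_c35)) = (LP (LK LD1_c2 LD2_c17 LD3_c16)) :=
  Lre_e IH (LK LD1_c1 LD2_c5 LD3_c35) (LK LD1_c2 LD2_c17 LD3_c16) Lrfl Lrfl
theorem f99158 : Led Lsl_df (LP (LK LD1_c4 LD2_c47 LD3_c29)) = (LP (LK LD1_c9 LD2_c16 LD3_c8)) :=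
  Lgr Lrot170 (Lpr_gt (K51.f99146 IH) (Lpe (K52.f99145 IH) (Lpr_et (f99144 IH) (Lpr_gt (K3.f61829 IH) (Lpe (K3.f99133 IH) (Lpr_gt (K3.f99151 IH) (Lpe (K3.f13678 IH) (Lpr_et (f58198 IH) (Lpr_gt (f99157 IH) (Lpe (f98981 IH) (Lpn (LP (LK LD1_c9 LD2_c16 LD3_c8)))))))))))))
theorem f99163 : Led Lsl_dt (LP (LK LD1_c4 LD2_c47 LD3_c29)) = (LP (LK LD1_c9 LD2_c16 LD3_c8)) :=
  Lgr Lrot42 (Lpr_df (f99158 IH) (Lpn (LP (LK LD1_c9 LD2_c16 LD3_c8))))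
def v13733 : LQ := Led Lsl_et (LP (LK LD1_c4 LD2_c47 LD3_c29))
theorem f704561 : Led Lsl_et (LP (LK LD1_c4 LD2_c47 LD3_c29)) = v13733 :=
  Lrfl
theorem f704562 : Led Lsl_ef (LP (LK LD1_c4 LD2_c47 LD3_c29)) = v13733 :=
  Lgr Lrot88 (Lpr_et (f704561 IH) (Lpn v13733))
theorem f758607 : Led Lsl_df v13633 = v17310 :=
  Lgr Lrot78 (Lpr_ft (f758603 IH) (Lpe (f758601 IH) (Lpr_ft (f758605 IH) (Lpn v17310))))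
theorem f758613 : v13733 = v13633 :=
  (Llr Lrot73 (Lpe (f704562 IH) (Lpr_dt (f99163 IH) (Lpr_et (f98981 IH) (Lpr_dt (f701247 IH) (Lpq (f758306 IH) (Lpr_et (f758612 IH) (Lpe (f758607 IH) (Lpn v13633))))))))).symm
def v13731 : LQ := Led Lsl_ft (LP (LK LD1_c4 LD2_c47 LD3_c28))
theorem f704554 : Led Lsl_ft (LP (LK LD1_c4 LD2_c47 LD3_c28)) = v13731 :=
  Lrfl
def v13729 : LQ := Led Lsl_at (LP (LK LD1_c4 LD2_c47 LD3_c28))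
theorem f704541 : Led Lsl_at (LP (LK LD1_c4 LD2_c47 LD3_c28)) = v13729 :=
  Lrfl
theorem f704542 : Led Lsl_af (LP (LK LD1_c4 LD2_c47 LD3_c28)) = v13729 :=
  Lgr Lrot0 (Lpr_at (f704541 IH) (Lpn v13729))
theorem f415905 : Led Lsl_gt (LP (LK LD1_c2 LD2_c21 LD3_c36)) = (LP (LK LD1_c4 LD2_c47 LD3_c28)) :=
  Lre_g IH (LK LD1_c2 LD2_c21 LD3_c36) (LK LD1_c4 LD2_c47 LD3_c28) Lrfl Lrfl
theorem f704545 : Led Lsl_ft (LP (LK LD1_c4 LD2_c47 LD3_c29)) = v13729 :=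
  Lgr Lrot2 (Lpr_gt (K51.f99146 IH) (Lpr_gt (f415905 IH) (Lpr_af (f704542 IH) (Lpn v13729))))
theorem f704555 : Led Lsl_af (LP (LK LD1_c4 LD2_c47 LD3_c29)) = v13731 :=
  Lgr Lrot45 (Lpr_ft (f704545 IH) (Lpe (f704542 IH) (Lpr_ft (f704554 IH) (Lpn v13731))))
theorem f771005 : Led Lsl_ef v13731 = v6305 :=
  Lgr Lrot20 (Lpe (f704555 IH) (Lpr_et (f704561 IH) (Lpqs (f758613 IH) (Lpr_at (f771002 IH) (Lpn v6305)))))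
theorem f704556 : Led Lsl_ff (LP (LK LD1_c4 LD2_c47 LD3_c28)) = v13731 :=
  Lgr Lrot3 (Lpr_ft (f704554 IH) (Lpn v13731))
theorem f704544 : Led Lsl_et (LP (LK LD1_c4 LD2_c47 LD3_c28)) = (LP (LK LD1_c9 LD2_c27 LD3_c60)) :=
  Lre_e IH (LK LD1_c4 LD2_c47 LD3_c28) (LK LD1_c9 LD2_c27 LD3_c60) Lrfl Lrfl
theorem f771008 : Led Lsl_ff (LP (LK LD1_c17 LD2_c14 LD3_c53)) = (LP (LK LD1_c9 LD2_c27 LD3_c60)) :=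
  Lgr Lrot72 (Lpr_et (f703990 IH) (Lpr_ft (f771007 IH) (Lpe (f771005 IH) (Lpe (f704556 IH) (Lpr_et (f704544 IH) (Lpn (LP (LK LD1_c9 LD2_c27 LD3_c60))))))))
theorem f771009 : Led Lsl_ft (LP (LK LD1_c9 LD2_c27 LD3_c60)) = (LP (LK LD1_c17 LD2_c14 LD3_c53)) :=
  Leop (Lpr_ff (f771008 IH) (Lpn (LP (LK LD1_c9 LD2_c27 LD3_c60))))
theorem seed_1304 : LEOK LG_f (LK LD1_c9 LD2_c27 LD3_c60) :=
  Leoe_f (LK LD1_c9 LD2_c27 LD3_c60) (f771009 IH)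
def v6259 : LQ := Led Lsl_gt (LP (LK LD1_c3 LD2_c19 LD3_c34))
theorem f652349 : Led Lsl_gt (LP (LK LD1_c3 LD2_c19 LD3_c34)) = v6259 :=
  Lrfl
def v13162 : LQ := Led Lsl_at (LP (LK LD1_c4 LD2_c40 LD3_c48))
theorem f701469 : Led Lsl_at (LP (LK LD1_c4 LD2_c40 LD3_c48)) = v13162 :=
  Lrfl
theorem f632145 : Led Lsl_et (LP (LK LD1_c2 LD2_c17 LD3_c25)) = (LP (LK LD1_c4 LD2_c40 LD3_c48)) :=
  Lre_e IH (LK LD1_c2 LD2_c17 LD3_c25) (LK LD1_c4 LD2_c40 LD3_c48) Lrfl Lrfl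
theorem f701471 : Led Lsl_ef K50.v4240 = v13162 :=
  Lgr Lrot20 (Lpe (K50.f632142 IH) (Lpr_et (f632145 IH) (Lpr_at (f701469 IH) (Lpn v13162))))
theorem f701472 : Led Lsl_et K50.v4240 = v13162 :=
  Lgr Lrot87 (Lpr_ef (f701471 IH) (Lpn v13162))
theorem f99165 : Led Lsl_et (LP (LK LD1_c4 LD2_c40 LD3_c20)) = (LP (LK LD1_c9 LD2_c16 LD3_c8)) :=
  Lre_e IH (LK LD1_c4 LD2_c40 LD3_c20) (LK LD1_c9 LD2_c16 LD3_c8) Lrfl Lrfl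
theorem f758307 : v13162 = (LP (LK LD1_c9 LD2_c16 LD3_c8)) :=
  Lefun (Lecon (f701472 IH) (f758294 IH).symm) (f99165 IH)
theorem f701470 : Led Lsl_af (LP (LK LD1_c4 LD2_c40 LD3_c48)) = v13162 :=
  Lgr Lrot0 (Lpr_at (f701469 IH) (Lpn v13162))
theorem f758310 : v13731 = (LP (LK LD1_c9 LD2_c17 LD3_c0)) :=
  (Llr Lrot117 (Lpe (f704555 IH) (Lpr_dt (f99163 IH) (Lpq (f758307 IH) (Lpe (f701470 IH) (Lpr_dt (K51.f58343 IH) (Lpn (LP (LK LD1_c9 LD2_c17 LD3_c0))))))))).symm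
theorem f771010 : Led Lsl_ft (LP (LK LD1_c17 LD2_c14 LD3_c53)) = (LP (LK LD1_c9 LD2_c27 LD3_c60)) :=
  Lgr Lrot48 (Lpr_ff (f771008 IH) (Lpn (LP (LK LD1_c9 LD2_c27 LD3_c60))))
theorem f433694 : Led Lsl_et (LP (LK LD1_c9 LD2_c27 LD3_c60)) = (LP (LK LD1_c4 LD2_c47 LD3_c28)) :=
  Lre_e IH (LK LD1_c9 LD2_c27 LD3_c60) (LK LD1_c4 LD2_c47 LD3_c28) Lrfl Lrfl
theorem f771012 : Led Lsl_ef v6305 = v13731 :=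
  Lgr Lrot21 (Lpe (f771006 IH) (Lpe (f703991 IH) (Lpr_ft (f771010 IH) (Lpr_et (f433694 IH) (Lpr_ft (f704554 IH) (Lpn v13731))))))
theorem f416951 : Led Lsl_ct (LP (LK LD1_c6 LD2_c42 LD3_c57)) = (LP (LK LD1_c3 LD2_c19 LD3_c34)) :=
  Lre_c IH (LK LD1_c6 LD2_c42 LD3_c57) (LK LD1_c3 LD2_c19 LD3_c34) Lrfl Lrfl
theorem f415473 : Led Lsl_bt (LP (LK LD1_c3 LD2_c8 LD3_c53)) = (LP (LK LD1_c6 LD2_c22 LD3_c19)) :=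
  Lre_b IH (LK LD1_c3 LD2_c8 LD3_c53) (LK LD1_c6 LD2_c22 LD3_c19) Lrfl Lrfl
theorem f415489 : Led Lsl_ct (LP (LK LD1_c6 LD2_c22 LD3_c19)) = (LP (LK LD1_c12 LD2_c18 LD3_c7)) :=
  Lre_c IH (LK LD1_c6 LD2_c22 LD3_c19) (LK LD1_c12 LD2_c18 LD3_c7) Lrfl Lrfl
theorem f416987 : Led Lsl_bf (LP (LK LD1_c6 LD2_c42 LD3_c57)) = (LP (LK LD1_c12 LD2_c18 LD3_c7)) :=
  Lgr Lrot90 (Lpr_ct (f416951 IH) (Lpr_bt (f416950 IH) (Lpr_ct (K32.f416967 IH) (Lpr_bt (f415473 IH) (Lpr_ct (f415489 IH) (Lpn (LP (LK LD1_c12 LD2_c18 LD3_c7))))))))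
theorem f415478 : Led Lsl_bt (LP (LK LD1_c3 LD2_c20 LD3_c4)) = (LP (LK LD1_c6 LD2_c43 LD3_c57)) :=
  Lre_b IH (LK LD1_c3 LD2_c20 LD3_c4) (LK LD1_c6 LD2_c43 LD3_c57) Lrfl Lrfl
theorem f415479 : Led Lsl_bt (LP (LK LD1_c6 LD2_c22 LD3_c19)) = (LP (LK LD1_c3 LD2_c8 LD3_c53)) :=
  Lre_b IH (LK LD1_c6 LD2_c22 LD3_c19) (LK LD1_c3 LD2_c8 LD3_c53) Lrfl Lrfl
theorem f415480 : Led Lsl_et (LP (LK LD1_c6 LD2_c43 LD3_c57)) = (LP (LK LD1_c6 LD2_c22 LD3_c19)) :=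
  Lgr Lrot74 (Lpe (f415478 IH) (Lpr_ef (K48.f415476 IH) (Lpe (f415479 IH) (Lpn (LP (LK LD1_c6 LD2_c22 LD3_c19))))))
theorem f415488 : Led Lsl_ct (LP (LK LD1_c12 LD2_c52 LD3_c42)) = (LP (LK LD1_c6 LD2_c43 LD3_c57)) :=
  Lre_c IH (LK LD1_c12 LD2_c52 LD3_c42) (LK LD1_c6 LD2_c43 LD3_c57) Lrfl Lrfl
theorem f415490 : Led Lsl_ef (LP (LK LD1_c12 LD2_c52 LD3_c42)) = (LP (LK LD1_c12 LD2_c18 LD3_c7)) :=
  Lgr Lrot28 (Lpr_ct (f415488 IH) (Lpr_et (f415480 IH) (Lpr_ct (f415489 IH) (Lpn (LP (LK LD1_c12 LD2_c18 LD3_c7))))))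
theorem f415502 : Led Lsl_et (LP (LK LD1_c12 LD2_c52 LD3_c42)) = (LP (LK LD1_c12 LD2_c18 LD3_c7)) :=
  Lgr Lrot87 (Lpr_ef (f415490 IH) (Lpn (LP (LK LD1_c12 LD2_c18 LD3_c7))))
theorem f415511 : Led Lsl_bt (LP (LK LD1_c6 LD2_c43 LD3_c56)) = (LP (LK LD1_c12 LD2_c52 LD3_c42)) :=
  Lre_b IH (LK LD1_c6 LD2_c43 LD3_c56) (LK LD1_c12 LD2_c52 LD3_c42) Lrfl Lrfl
theorem f416998 : Led Lsl_et (LP (LK LD1_c6 LD2_c42 LD3_c57)) = (LP (LK LD1_c6 LD2_c43 LD3_c56)) :=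
  Lgr Lrot74 (Lpr_bf (f416987 IH) (Lpe (f415502 IH) (Lpe (f415511 IH) (Lpn (LP (LK LD1_c6 LD2_c43 LD3_c56))))))
theorem f417003 : Led Lsl_ef (LP (LK LD1_c6 LD2_c42 LD3_c57)) = (LP (LK LD1_c6 LD2_c43 LD3_c56)) :=
  Lgr Lrot88 (Lpr_et (f416998 IH) (Lpn (LP (LK LD1_c6 LD2_c43 LD3_c56))))
theorem f416562 : Led Lsl_ct (LP (LK LD1_c3 LD2_c20 LD3_c3)) = (LP (LK LD1_c6 LD2_c43 LD3_c56)) :=
  Lre_c IH (LK LD1_c3 LD2_c20 LD3_c3) (LK LD1_c6 LD2_c43 LD3_c56) Lrfl Lrfl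
theorem f417005 : Led Lsl_et (LP (LK LD1_c3 LD2_c19 LD3_c34)) = (LP (LK LD1_c3 LD2_c20 LD3_c3)) :=
  Lgr Lrot158 (Lpe (f416951 IH) (Lpr_ef (f417003 IH) (Lpe (f416562 IH) (Lpn (LP (LK LD1_c3 LD2_c20 LD3_c3))))))
def v6262 : LQ := Led Lsl_dt (LP (LK LD1_c3 LD2_c19 LD3_c34))
theorem f652353 : Led Lsl_dt (LP (LK LD1_c3 LD2_c19 LD3_c34)) = v6262 :=
  Lrfl
theorem f78027 : Led Lsl_dt (LP (LK LD1_c9 LD2_c17 LD3_c0)) = (LP (LK LD1_c4 LD2_c40 LD3_c48)) :=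
  Lre_d IH (LK LD1_c9 LD2_c17 LD3_c0) (LK LD1_c4 LD2_c40 LD3_c48) Lrfl Lrfl
def v13160 : LQ := Led Lsl_gt (LP (LK LD1_c4 LD2_c40 LD3_c48))
theorem f701466 : Led Lsl_gt (LP (LK LD1_c4 LD2_c40 LD3_c48)) = v13160 :=
  Lrfl
def v4244 : LQ := Led Lsl_et (LP (LK LD1_c2 LD2_c17 LD3_c26))
theorem f632168 : Led Lsl_et (LP (LK LD1_c2 LD2_c17 LD3_c26)) = v4244 :=
  Lrfl
theorem f632169 : Led Lsl_ef (LP (LK LD1_c2 LD2_c17 LD3_c26)) = v4244 :=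
  Lgr Lrot88 (Lpr_et (f632168 IH) (Lpn v4244))
def v13591 : LQ := Led Lsl_gt (LP (LK LD1_c4 LD2_c45 LD3_c51))
theorem f703797 : Led Lsl_gt (LP (LK LD1_c4 LD2_c45 LD3_c51)) = v13591 :=
  Lrfl
theorem f78494 : Led Lsl_dt (LP (LK LD1_c2 LD2_c20 LD3_c58)) = (LP (LK LD1_c4 LD2_c45 LD3_c51)) :=
  Lre_d IH (LK LD1_c2 LD2_c20 LD3_c58) (LK LD1_c4 LD2_c45 LD3_c51) Lrfl Lrfl
theorem f703801 : Led Lsl_dt v4244 = v13591 :=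
  Lgr Lrot56 (Lpe (f632169 IH) (Lpr_gt (K46.f78495 IH) (Lpe (K51.f58758 IH) (Lpr_dt (K1.f13657 IH) (Lpr_gt (K2.f13664 IH) (Lpe (K3.f78204 IH) (Lpr_et (K3.f78231 IH) (Lpr_gt (K49.f78236 IH) (Lpr_dt (f78494 IH) (Lpr_gt (f703797 IH) (Lpn v13591)))))))))))
theorem f703802 : Led Lsl_df v4244 = v13591 :=
  Lgr Lrot38 (Lpr_dt (f703801 IH) (Lpn v13591))
theorem f758418 : Led Lsl_ef v13591 = K57.v17302 :=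
  Lgr Lrot73 (Lpe (f703802 IH) (Lpe (f632169 IH) (Lpr_dt (K57.f632163 IH) (Lpr_et (K57.f647011 IH) (Lpqs (K57.f758279 IH) (Lpr_dt (K57.f758255 IH) (Lpn K57.v17302)))))))
theorem f703818 : Led Lsl_df v13135 = v13595 :=
  Lgr Lrot70 (Lpe (f701289 IH) (Lpe (K57.f103357 IH) (Lpr_et (K49.f78496 IH) (Lpr_dt (f78494 IH) (Lpr_et (f703817 IH) (Lpn v13595))))))
def v5322 : LQ := Led Lsl_ft (LP (LK LD1_c3 LD2_c5 LD3_c60))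
theorem f647069 : Led Lsl_ft (LP (LK LD1_c3 LD2_c5 LD3_c60)) = v5322 :=
  Lrfl
theorem f98949 : Led Lsl_dt (LP (LK LD1_c1 LD2_c29 LD3_c4)) = (LP (LK LD1_c3 LD2_c5 LD3_c60)) :=
  Lre_d IH (LK LD1_c1 LD2_c29 LD3_c4) (LK LD1_c3 LD2_c5 LD3_c60) Lrfl Lrfl
theorem f58760 : Led Lsl_ft (LP (LK LD1_c3 LD2_c5 LD3_c61)) = (LP (LK LD1_c1 LD2_c29 LD3_c4)) :=
  Lre_f IH (LK LD1_c3 LD2_c5 LD3_c61) (LK LD1_c1 LD2_c29 LD3_c4) Lrfl Lrfl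
theorem f647071 : Led Lsl_df (LP (LK LD1_c3 LD2_c5 LD3_c61)) = v5322 :=
  Lgr Lrot78 (Lpr_ft (f58760 IH) (Lpr_dt (f98949 IH) (Lpr_ft (f647069 IH) (Lpn v5322))))
theorem f78274 : Led Lsl_et (LP (LK LD1_c1 LD2_c29 LD3_c6)) = (LP (LK LD1_c3 LD2_c5 LD3_c60)) :=
  Lre_e IH (LK LD1_c1 LD2_c29 LD3_c6) (LK LD1_c3 LD2_c5 LD3_c60) Lrfl Lrfl
theorem f79603 : Led Lsl_et (LP (LK LD1_c2 LD2_c21 LD3_c36)) = (LP (LK LD1_c1 LD2_c8 LD3_c2)) :=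
  Lre_e IH (LK LD1_c2 LD2_c21 LD3_c36) (LK LD1_c1 LD2_c8 LD3_c2) Lrfl Lrfl
theorem f647072 : Led Lsl_ef (LP (LK LD1_c4 LD2_c47 LD3_c23)) = v5322 :=
  Lgr Lrot21 (Lpr_ft (K50.f78016 IH) (Lpr_et (f79603 IH) (Lpe (K4.f25612 IH) (Lpr_et (f78274 IH) (Lpr_ft (f647069 IH) (Lpn v5322))))))
theorem f758420 : v13135 = v13160 :=
  (Llr Lrot56 (Lpr_df (f703818 IH) (Lpe (f703819 IH) (Lpr_gt (f703797 IH) (Lpr_ef (f758418 IH) (Lpe (K57.f758254 IH) (Lpq (K57.f758279 IH) (Lpe (K56.f647010 IH) (Lpr_df (f647071 IH) (Lpe (f647072 IH) (Lpr_gt (K51.f78017 IH) (Lpr_dt (f78027 IH) (Lpr_gt (f701466 IH) (Lpn v13160)))))))))))))).symm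
theorem f771013 : Led Lsl_gf v6262 = v4244 :=
  Lgr Lrot134 (Lpe (f652353 IH) (Lpr_et (f417005 IH) (Lpr_gt (f652651 IH) (Lpr_ef (f771012 IH) (Lpqs (f758310 IH) (Lpr_dt (f78027 IH) (Lpr_gt (f701466 IH) (Lpq (f758420 IH) (Lpr_df (f703818 IH) (Lpe (f703819 IH) (Lpr_gt (f703797 IH) (Lpe (f703802 IH) (Lpn v4244)))))))))))))
theorem f652355 : Led Lsl_df (LP (LK LD1_c3 LD2_c19 LD3_c34)) = v6262 :=
  Lgr Lrot38 (Lpr_dt (f652353 IH) (Lpn v6262))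
theorem f113766 : Led Lsl_ft (LP (LK LD1_c1 LD2_c7 LD3_c43)) = (LP (LK LD1_c0 LD2_c31 LD3_c6)) :=
  Lgr Lrot4 (Lpe (K3.f61891 IH) (Lpr_ff (K4.f113762 IH) (Lpe (K3.f78242 IH) (Lpn (LP (LK LD1_c0 LD2_c31 LD3_c6))))))
theorem f441188 : Led Lsl_ft (LP (LK LD1_c1 LD2_c7 LD3_c48)) = (LP (LK LD1_c2 LD2_c20 LD3_c61)) :=
  Lre_f IH (LK LD1_c1 LD2_c7 LD3_c48) (LK LD1_c2 LD2_c20 LD3_c61) Lrfl Lrfl
theorem f633176 : Led Lsl_et (LP (LK LD1_c2 LD2_c20 LD3_c61)) = v4406 :=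
  Lgr Lrot69 (Lpe (f441188 IH) (Lpe (K3.f78231 IH) (Lpe (f113766 IH) (Lpe (K7.f91322 IH) (Lpr_ff (f633172 IH) (Lpn v4406))))))
theorem f113666 : Led Lsl_dt (LP (LK LD1_c2 LD2_c20 LD3_c61)) = (LP (LK LD1_c4 LD2_c45 LD3_c58)) :=
  Lre_d IH (LK LD1_c2 LD2_c20 LD3_c61) (LK LD1_c4 LD2_c45 LD3_c58) Lrfl Lrfl
theorem f771015 : v6259 = (LP (LK LD1_c4 LD2_c45 LD3_c58)) :=
  (Llr Lrot139 (Lpe (f652349 IH) (Lpr_df (f652355 IH) (Lpr_gf (f771013 IH) (Lpe (f632168 IH) (Lpr_dt (K57.f632163 IH) (Lpe (K57.f701463 IH) (Lpe (K57.f701449 IH) (Lpe (K57.f633270 IH) (Lpr_gf (f633177 IH) (Lpe (f633176 IH) (Lpr_dt (f113666 IH) (Lpn (LP (LK LD1_c4 LD2_c45 LD3_c58))))))))))))))).symm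
theorem f771017 : Led Lsl_gt (LP (LK LD1_c3 LD2_c19 LD3_c34)) = (LP (LK LD1_c4 LD2_c45 LD3_c58)) :=
  Leop (Lpq (f771015 IH) (Lpe (f652349 IH) (Lpn (LP (LK LD1_c3 LD2_c19 LD3_c34)))))
theorem seed_1305 : LEOK LG_g (LK LD1_c3 LD2_c19 LD3_c34) :=
  Leoe_g (LK LD1_c3 LD2_c19 LD3_c34) (f771017 IH)
def v13537 : LQ := Led Lsl_gt (LP (LK LD1_c4 LD2_c45 LD3_c4))
theorem f703497 : Led Lsl_gt (LP (LK LD1_c4 LD2_c45 LD3_c4)) = v13537 :=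
  Lrfl
def v13539 : LQ := Led Lsl_ft (LP (LK LD1_c4 LD2_c45 LD3_c4))
theorem f703500 : Led Lsl_ft (LP (LK LD1_c4 LD2_c45 LD3_c4)) = v13539 :=
  Lrfl
theorem f102139 : Led Lsl_et (LP (LK LD1_c4 LD2_c45 LD3_c4)) = (LP (LK LD1_c3 LD2_c5 LD3_c52)) :=
  Lgr Lrot87 (Lpr_ef (K4.f102116 IH) (Lpn (LP (LK LD1_c3 LD2_c5 LD3_c52))))
theorem f113437 : Led Lsl_af (LP (LK LD1_c4 LD2_c45 LD3_c4)) = (LP (LK LD1_c2 LD2_c20 LD3_c60)) :=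
  Lgr Lrot50 (Lpr_et (f102139 IH) (Lpr_at (K4.f113431 IH) (Lpe (K57.f78213 IH) (Lpn (LP (LK LD1_c2 LD2_c20 LD3_c60))))))
theorem f78234 : Led Lsl_ft (LP (LK LD1_c4 LD2_c45 LD3_c58)) = (LP (LK LD1_c2 LD2_c20 LD3_c60)) :=
  Lre_f IH (LK LD1_c4 LD2_c45 LD3_c58) (LK LD1_c2 LD2_c20 LD3_c60) Lrfl Lrfl
theorem f703501 : Led Lsl_af (LP (LK LD1_c4 LD2_c45 LD3_c58)) = v13539 :=
  Lgr Lrot45 (Lpr_ft (f78234 IH) (Lpe (f113437 IH) (Lpr_ft (f703500 IH) (Lpn v13539))))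
theorem f703504 : Led Lsl_gt v13537 = (LP (LK LD1_c4 LD2_c45 LD3_c58)) :=
  Lgr Lrot46 (Lpe (f703497 IH) (Lpr_ft (f703500 IH) (Lpe (f703501 IH) (Lpn (LP (LK LD1_c4 LD2_c45 LD3_c58))))))
theorem f771016 : (LP (LK LD1_c3 LD2_c19 LD3_c34)) = v13537 :=
  Lefun (Lecon (Lfl_gt (f652349 IH)) (f771015 IH)) (Lfl_gt (f703504 IH))
theorem f771019 : Led Lsl_gt (LP (LK LD1_c4 LD2_c45 LD3_c4)) = (LP (LK LD1_c3 LD2_c19 LD3_c34)) :=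
  Leop (Lpqs (f771016 IH) (Lpe (f703497 IH) (Lpn (LP (LK LD1_c4 LD2_c45 LD3_c4)))))
theorem seed_1306 : LEOK LG_g (LK LD1_c4 LD2_c45 LD3_c4) :=
  Leoe_g (LK LD1_c4 LD2_c45 LD3_c4) (f771019 IH)
def v18104 : LQ := Led Lsl_gt (LP (LK LD1_c6 LD2_c26 LD3_c26))
theorem f765067 : Led Lsl_gt (LP (LK LD1_c6 LD2_c26 LD3_c26)) = v18104 :=
  Lrfl
theorem f438563 : Led Lsl_ct (LP (LK LD1_c3 LD2_c11 LD3_c7)) = (LP (LK LD1_c6 LD2_c26 LD3_c26)) :=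
  Lre_c IH (LK LD1_c3 LD2_c11 LD3_c7) (LK LD1_c6 LD2_c26 LD3_c26) Lrfl Lrfl
def v4473 : LQ := Led Lsl_bt (LP (LK LD1_c2 LD2_c22 LD3_c5))
theorem f634076 : Led Lsl_bt (LP (LK LD1_c2 LD2_c22 LD3_c5)) = v4473 :=
  Lrfl
theorem f634077 : Led Lsl_bf (LP (LK LD1_c2 LD2_c22 LD3_c5)) = v4473 :=
  Lgr Lrot24 (Lpr_bt (f634076 IH) (Lpn v4473))
theorem f765068 : Led Lsl_ct v4473 = v18104 :=
  Lgr Lrot63 (Lpe (f634077 IH) (Lpr_gt (K49.f84487 IH) (Lpe (K32.f416353 IH) (Lpe (K32.f58848 IH) (Lpe (K32.f438554 IH) (Lpe (K32.f69108 IH) (Lpr_bt (f438561 IH) (Lpr_gt (f438562 IH) (Lpr_ct (f438563 IH) (Lpr_gt (f765067 IH) (Lpn v18104)))))))))))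
def v18109 : LQ := Led Lsl_ft (LP (LK LD1_c6 LD2_c26 LD3_c26))
theorem f765085 : Led Lsl_ft (LP (LK LD1_c6 LD2_c26 LD3_c26)) = v18109 :=
  Lrfl
def v18106 : LQ := Led Lsl_at (LP (LK LD1_c6 LD2_c26 LD3_c26))
theorem f765072 : Led Lsl_at (LP (LK LD1_c6 LD2_c26 LD3_c26)) = v18106 :=
  Lrfl
theorem f765073 : Led Lsl_af (LP (LK LD1_c6 LD2_c26 LD3_c26)) = v18106 :=
  Lgr Lrot0 (Lpr_at (f765072 IH) (Lpn v18106))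
def v5634 : LQ := Led Lsl_at (LP (LK LD1_c3 LD2_c11 LD3_c7))
theorem f648614 : Led Lsl_at (LP (LK LD1_c3 LD2_c11 LD3_c7)) = v5634 :=
  Lrfl
theorem f648615 : Led Lsl_af (LP (LK LD1_c3 LD2_c11 LD3_c7)) = v5634 :=
  Lgr Lrot0 (Lpr_at (f648614 IH) (Lpn v5634))
theorem f765074 : Led Lsl_cf v5634 = v18106 :=
  Lgr Lrot1 (Lpe (f648615 IH) (Lpr_ct (f438563 IH) (Lpr_at (f765072 IH) (Lpn v18106))))
def v1946 : LQ := Led Lsl_gf (LP (LK LD1_c1 LD2_c31 LD3_c61))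
theorem f506519 : Led Lsl_gf (LP (LK LD1_c1 LD2_c31 LD3_c61)) = v1946 :=
  Lrfl
theorem f648616 : Led Lsl_ft v1946 = v5634 :=
  Lgr Lrot2 (Lpe (f506519 IH) (Lpr_gt (f438562 IH) (Lpr_af (f648615 IH) (Lpn v5634))))
theorem f648618 : Led Lsl_ff v1946 = v5634 :=
  Lgr Lrot3 (Lpr_ft (f648616 IH) (Lpn v5634))
def v8260 : LQ := Led Lsl_ct v1946
theorem f670546 : Led Lsl_ct v1946 = v8260 :=
  Lrfl
theorem f765076 : Led Lsl_ft v8260 = v18106 :=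
  Lgr Lrot4 (Lpe (f670546 IH) (Lpr_ff (f648618 IH) (Lpr_cf (f765074 IH) (Lpn v18106))))
theorem f765086 : Led Lsl_af v8260 = v18109 :=
  Lgr Lrot45 (Lpr_ft (f765076 IH) (Lpe (f765073 IH) (Lpr_ft (f765085 IH) (Lpn v18109))))
theorem f765089 : Led Lsl_gt v18104 = v8260 :=
  Lgr Lrot46 (Lpe (f765067 IH) (Lpr_ft (f765085 IH) (Lpe (f765086 IH) (Lpn v8260))))
theorem f90554 : Led Lsl_gt (LP (LK LD1_c6 LD2_c50 LD3_c7)) = (LP (LK LD1_c3 LD2_c23 LD3_c24)) :=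
  Lre_g IH (LK LD1_c6 LD2_c50 LD3_c7) (LK LD1_c3 LD2_c23 LD3_c24) Lrfl Lrfl
theorem f768671 : (LP (LK LD1_c1 LD2_c38 LD3_c4)) = v1946 :=
  Lefun (Lecon (Lfl_gt (f509746 IH)) (f768669 IH)) (f506519 IH)
theorem f768695 : v8260 = (LP (LK LD1_c3 LD2_c23 LD3_c24)) :=
  Lefun (Lecon (f670546 IH) (f768671 IH).symm) (K3.f77093 IH)
theorem f768732 : v18104 = (LP (LK LD1_c6 LD2_c50 LD3_c7)) :=
  Lefun (Lecon (Lfl_gt (f765089 IH)) (f768695 IH)) (Lfl_gt (f90554 IH))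
def v6542 : LQ := Led Lsl_gt (LP (LK LD1_c3 LD2_c23 LD3_c21))
theorem f653867 : Led Lsl_gt (LP (LK LD1_c3 LD2_c23 LD3_c21)) = v6542 :=
  Lrfl
theorem f153690 : Led Lsl_ct (LP (LK LD1_c1 LD2_c31 LD3_c61)) = (LP (LK LD1_c3 LD2_c11 LD3_c8)) :=
  Lre_c IH (LK LD1_c1 LD2_c31 LD3_c61) (LK LD1_c3 LD2_c11 LD3_c8) Lrfl Lrfl
def v5639 : LQ := Led Lsl_gf (LP (LK LD1_c3 LD2_c11 LD3_c8))
theorem f648631 : Led Lsl_gf (LP (LK LD1_c3 LD2_c11 LD3_c8)) = v5639 :=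
  Lrfl
def v2143 : LQ := Led Lsl_gt (LP (LK LD1_c1 LD2_c36 LD3_c25))
def v8674 : LQ := Led Lsl_bt v2143
theorem f671975 : Led Lsl_bt v2143 = v8674 :=
  Lrfl
theorem f671976 : Led Lsl_bf v2143 = v8674 :=
  Lgr Lrot24 (Lpr_bt (f671975 IH) (Lpn v8674))
theorem f509216 : Led Lsl_gt (LP (LK LD1_c1 LD2_c36 LD3_c25)) = v2143 :=
  Lrfl
theorem f671977 : Led Lsl_cf v5639 = v8674 :=
  Lgr Lrot160 (Lpe (f648631 IH) (Lpe (f153690 IH) (Lpr_bt (f153686 IH) (Lpr_gt (K17.f153681 IH) (Lpe (K11.f150490 IH) (Lpr_gt (K17.f210113 IH) (Lpe (K16.f415424 IH) (Lpr_bt (f415432 IH) (Lpr_gt (f509216 IH) (Lpr_bf (f671976 IH) (Lpn v8674)))))))))))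
theorem f91354 : Led Lsl_et (LP (LK LD1_c4 LD2_c45 LD3_c6)) = (LP (LK LD1_c9 LD2_c22 LD3_c55)) :=
  Lre_e IH (LK LD1_c4 LD2_c45 LD3_c6) (LK LD1_c9 LD2_c22 LD3_c55) Lrfl Lrfl
theorem f83793 : Led Lsl_et (LP (LK LD1_c6 LD2_c50 LD3_c20)) = (LP (LK LD1_c3 LD2_c23 LD3_c31)) :=
  Lre_e IH (LK LD1_c6 LD2_c50 LD3_c20) (LK LD1_c3 LD2_c23 LD3_c31) Lrfl Lrfl
theorem f91355 : Led Lsl_ct (LP (LK LD1_c9 LD2_c22 LD3_c55)) = (LP (LK LD1_c6 LD2_c50 LD3_c20)) :=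
  Lgr Lrot15 (Lpe (f91354 IH) (Lpr_cf (K5.f91320 IH) (Lpe (f83793 IH) (Lpn (LP (LK LD1_c6 LD2_c50 LD3_c20))))))
theorem f91395 : Led Lsl_cf (LP (LK LD1_c9 LD2_c22 LD3_c55)) = (LP (LK LD1_c6 LD2_c50 LD3_c20)) :=
  Lgr Lrot11 (Lpr_ct (f91355 IH) (Lpn (LP (LK LD1_c6 LD2_c50 LD3_c20))))
theorem f91346 : Led Lsl_bt (LP (LK LD1_c9 LD2_c22 LD3_c55)) = (LP (LK LD1_c4 LD2_c45 LD3_c8)) :=
  Lre_b IH (LK LD1_c9 LD2_c22 LD3_c55) (LK LD1_c4 LD2_c45 LD3_c8) Lrfl Lrfl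
theorem f91325 : Led Lsl_bt (LP (LK LD1_c2 LD2_c20 LD3_c43)) = (LP (LK LD1_c3 LD2_c24 LD3_c24)) :=
  Lgr Lrot127 (Lpr_bf (K7.f91323 IH) (Lpn (LP (LK LD1_c3 LD2_c24 LD3_c24))))
theorem f91403 : Led Lsl_bt (LP (LK LD1_c3 LD2_c23 LD3_c33)) = (LP (LK LD1_c6 LD2_c50 LD3_c20)) :=
  Lre_b IH (LK LD1_c3 LD2_c23 LD3_c33) (LK LD1_c6 LD2_c50 LD3_c20) Lrfl Lrfl
theorem f91404 : Led Lsl_ct (LP (LK LD1_c3 LD2_c24 LD3_c24)) = (LP (LK LD1_c3 LD2_c23 LD3_c33)) :=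
  Lgr Lrot83 (Lpe (f91325 IH) (Lpe (K5.f91345 IH) (Lpe (f91346 IH) (Lpr_cf (f91395 IH) (Lpe (f91403 IH) (Lpn (LP (LK LD1_c3 LD2_c23 LD3_c33))))))))
def v4405 : LQ := Led Lsl_gf (LP (LK LD1_c2 LD2_c20 LD3_c43))
theorem f633167 : Led Lsl_gf (LP (LK LD1_c2 LD2_c20 LD3_c43)) = v4405 :=
  Lrfl
theorem f133643 : Led Lsl_gt (LP (LK LD1_c4 LD2_c47 LD3_c34)) = (LP (LK LD1_c9 LD2_c28 LD3_c5)) :=
  Lgr Lrot5 (Lpr_ft (K5.f133633 IH) (Lpe (K5.f133227 IH) (Lpe (K5.f102204 IH) (Lpn (LP (LK LD1_c9 LD2_c28 LD3_c5))))))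
theorem f125309 : Led Lsl_ct (LP (LK LD1_c9 LD2_c28 LD3_c5)) = (LP (LK LD1_c9 LD2_c15 LD3_c46)) :=
  Lgr Lrot59 (Lpr_cf (K5.f125306 IH) (Lpn (LP (LK LD1_c9 LD2_c15 LD3_c46))))
theorem f433684 : Led Lsl_gf (LP (LK LD1_c1 LD2_c29 LD3_c0)) = (LP (LK LD1_c2 LD2_c18 LD3_c38)) :=
  Lgr Lrot147 (Lpr_ct (K5.f61237 IH) (Lpr_gt (K11.f152949 IH) (Lpe (K57.f152935 IH) (Lpe (K7.f125289 IH) (Lpe (f125309 IH) (Lpe (f133643 IH) (Lpe (K5.f58162 IH) (Lpr_gf (K11.f433675 IH) (Lpe (K11.f86137 IH) (Lpn (LP (LK LD1_c2 LD2_c18 LD3_c38))))))))))))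
theorem f133281 : Led Lsl_ft (LP (LK LD1_c2 LD2_c21 LD3_c38)) = (LP (LK LD1_c3 LD2_c6 LD3_c1)) :=
  Lgr Lrot4 (Lpe (K5.f102202 IH) (Lpr_ff (K5.f133276 IH) (Lpe (K5.f25714 IH) (Lpn (LP (LK LD1_c3 LD2_c6 LD3_c1))))))
theorem f133666 : Led Lsl_af (LP (LK LD1_c2 LD2_c21 LD3_c41)) = (LP (LK LD1_c3 LD2_c6 LD3_c1)) :=
  Lgr Lrot45 (Lpr_ft (K5.f133664 IH) (Lpe (K7.f133225 IH) (Lpr_ft (f133281 IH) (Lpn (LP (LK LD1_c3 LD2_c6 LD3_c1))))))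
theorem f433677 : Led Lsl_gt (LP (LK LD1_c2 LD2_c21 LD3_c38)) = (LP (LK LD1_c4 LD2_c42 LD3_c27)) :=
  Lgr Lrot5 (Lpr_ft (f133281 IH) (Lpe (f133666 IH) (Lpr_gf (K11.f433675 IH) (Lpn (LP (LK LD1_c4 LD2_c42 LD3_c27))))))
theorem f771020 : v4405 = (LP (LK LD1_c1 LD2_c36 LD3_c25)) :=
  (Llr Lrot145 (Lpe (f633167 IH) (Lpe (K5.f91341 IH) (Lpe (K5.f102186 IH) (Lpr_gt (f433677 IH) (Lpr_dt (K11.f86135 IH) (Lpe (f433684 IH) (Lpe (K4.f61242 IH) (Lpe (K4.f102116 IH) (Lpr_gt (f703497 IH) (Lpq (f771016 IH) (Lpr_ef (f416960 IH) (Lpr_dt (f417008 IH) (Lpn (LP (LK LD1_c1 LD2_c36 LD3_c25)))))))))))))))).symm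
theorem f771021 : (LP (LK LD1_c2 LD2_c20 LD3_c43)) = v2143 :=
  Lefun (Lecon (Lfl_gf (f633167 IH)) (f771020 IH)) (f509216 IH)
theorem f771027 : v8674 = (LP (LK LD1_c3 LD2_c24 LD3_c24)) :=
  Lefun (Lecon (f671975 IH) (f771021 IH).symm) (f91325 IH)
theorem f771036 : v5639 = (LP (LK LD1_c3 LD2_c23 LD3_c33)) :=
  Lefun (Lecon (Lfl_cf (f671977 IH)) (f771027 IH)) (f91404 IH)
def v6631 : LQ := Led Lsl_gf (LP (LK LD1_c3 LD2_c24 LD3_c24))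
theorem f654514 : Led Lsl_gf (LP (LK LD1_c3 LD2_c24 LD3_c24)) = v6631 :=
  Lrfl
theorem f771054 : Led Lsl_bt v6064 = v6631 :=
  Lgr Lrot130 (Lpe (f769256 IH) (Lpq (K50.f702404 IH) (Lpe (K50.f150494 IH) (Lpe (K50.f150513 IH) (Lpr_bt (K11.f150489 IH) (Lpe (K17.f153681 IH) (Lpe (f153686 IH) (Lpr_ct (f153690 IH) (Lpr_gf (f648631 IH) (Lpqs (f771036 IH) (Lpe (f91404 IH) (Lpr_gf (f654514 IH) (Lpn v6631)))))))))))))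
def v8535 : LQ := Led Lsl_bt v2083
theorem f671541 : Led Lsl_bt v2083 = v8535 :=
  Lrfl
theorem f671542 : Led Lsl_bf v2083 = v8535 :=
  Lgr Lrot24 (Lpr_bt (f671541 IH) (Lpn v8535))
theorem f771057 : Led Lsl_ff v8535 = v6631 :=
  Lgr Lrot25 (Lpe (f671542 IH) (Lpr_ft (f650803 IH) (Lpr_bt (f771054 IH) (Lpn v6631))))
def v6630 : LQ := Led Lsl_gt (LP (LK LD1_c3 LD2_c24 LD3_c24))
theorem f654513 : Led Lsl_gt (LP (LK LD1_c3 LD2_c24 LD3_c24)) = v6630 :=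
  Lrfl
theorem f771059 : Led Lsl_at v8535 = v6630 :=
  Lgr Lrot26 (Lpr_ff (f771057 IH) (Lpe (f654514 IH) (Lpr_gt (f654513 IH) (Lpn v6630))))
def v6068 : LQ := Led Lsl_ft (LP (LK LD1_c3 LD2_c17 LD3_c5))
theorem f650811 : Led Lsl_ft (LP (LK LD1_c3 LD2_c17 LD3_c5)) = v6068 :=
  Lrfl
theorem f650812 : Led Lsl_af v2083 = v6068 :=
  Lgr Lrot45 (Lpr_ft (f650803 IH) (Lpe (f650802 IH) (Lpr_ft (f650811 IH) (Lpn v6068))))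
theorem f769266 : K50.v4470 = v6068 :=
  Lefun (Lecon (Lfl_ff (K50.f702401 IH)) (f769258 IH)) (f650811 IH)
theorem f771061 : Led Lsl_bf K49.v4469 = v6630 :=
  Lgr Lrot81 (Lpe (K49.f634063 IH) (Lpr_bt (K50.f634066 IH) (Lpqs (f769266 IH) (Lpe (f650812 IH) (Lpr_bt (f671541 IH) (Lpr_at (f771059 IH) (Lpn v6630)))))))
theorem f771063 : Led Lsl_ft v4473 = v6630 :=
  Lgr Lrot75 (Lpe (f634076 IH) (Lpr_ff (K49.f634065 IH) (Lpr_bf (f771061 IH) (Lpn v6630))))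
theorem f771060 : Led Lsl_af v8535 = v6630 :=
  Lgr Lrot0 (Lpr_at (f771059 IH) (Lpn v6630))
def v6632 : LQ := Led Lsl_ft (LP (LK LD1_c3 LD2_c24 LD3_c24))
theorem f654515 : Led Lsl_ft (LP (LK LD1_c3 LD2_c24 LD3_c24)) = v6632 :=
  Lrfl
theorem f654519 : Led Lsl_ff (LP (LK LD1_c3 LD2_c24 LD3_c24)) = v6632 :=
  Lgr Lrot3 (Lpr_ft (f654515 IH) (Lpn v6632))
theorem f654520 : Led Lsl_bt v4406 = v6632 :=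
  Lgr Lrot35 (Lpe (f633169 IH) (Lpr_bf (K7.f91323 IH) (Lpr_ff (f654519 IH) (Lpn v6632))))
def v2332 : LQ := Led Lsl_et (LP (LK LD1_c1 LD2_c42 LD3_c31))
def v8959 : LQ := Led Lsl_ft v2332
theorem f672941 : Led Lsl_ft v2332 = v8959 :=
  Lrfl
def v8957 : LQ := Led Lsl_gt v2332
theorem f672938 : Led Lsl_gt v2332 = v8957 :=
  Lrfl
theorem f514684 : Led Lsl_et (LP (LK LD1_c1 LD2_c42 LD3_c31)) = v2332 :=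
  Lrfl
theorem f514686 : Led Lsl_ef (LP (LK LD1_c1 LD2_c42 LD3_c31)) = v2332 :=
  Lgr Lrot88 (Lpr_et (f514684 IH) (Lpn v2332))
theorem f125792 : Led Lsl_at (LP (LK LD1_c1 LD2_c7 LD3_c46)) = (LP (LK LD1_c1 LD2_c38 LD3_c33)) :=
  Lgr Lrot107 (Lpe (K3.f78194 IH) (Lpr_af (K5.f125788 IH) (Lpe (K2.f83741 IH) (Lpn (LP (LK LD1_c1 LD2_c38 LD3_c33))))))
theorem f109999 : Led Lsl_ft (LP (LK LD1_c1 LD2_c38 LD3_c33)) = (LP (LK LD1_c1 LD2_c42 LD3_c31)) :=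
  Lgr Lrot75 (Lpe (K4.f83756 IH) (Lpr_ff (K3.f109997 IH) (Lpr_bf (K3.f79606 IH) (Lpn (LP (LK LD1_c1 LD2_c42 LD3_c31))))))
theorem f126039 : Led Lsl_at (LP (LK LD1_c1 LD2_c42 LD3_c31)) = (LP (LK LD1_c1 LD2_c38 LD3_c37)) :=
  Lgr Lrot66 (Lpe (f109999 IH) (Lpe (f125792 IH) (Lpr_ff (K5.f126037 IH) (Lpn (LP (LK LD1_c1 LD2_c38 LD3_c37))))))
theorem f514687 : Led Lsl_at (LP (LK LD1_c3 LD2_c24 LD3_c24)) = v2332 :=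
  Lgr Lrot80 (Lpe (K7.f90117 IH) (Lpe (f126039 IH) (Lpr_ef (f514686 IH) (Lpn v2332))))
theorem f672942 : Led Lsl_af v6632 = v8959 :=
  Lgr Lrot45 (Lpe (f654519 IH) (Lpr_at (f514687 IH) (Lpr_ft (f672941 IH) (Lpn v8959))))
theorem f672945 : Led Lsl_gt v8957 = v6632 :=
  Lgr Lrot46 (Lpe (f672938 IH) (Lpr_ft (f672941 IH) (Lpe (f672942 IH) (Lpn v6632))))
theorem f770923 : v8957 = v8535 :=
  (Llr Lrot124 (Lpr_gt (f672945 IH) (Lpe (f654520 IH) (Lpr_ct (f703517 IH) (Lpe (f703519 IH) (Lpq (f770904 IH) (Lpe (f702429 IH) (Lpr_bt (f435489 IH) (Lpr_gt (K51.f150479 IH) (Lpr_ct (K11.f150464 IH) (Lpr_gt (f632608 IH) (Lpq (f769255 IH) (Lpe (f671543 IH) (Lpr_bt (f671541 IH) (Lpn v8535))))))))))))))).symm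
def v8958 : LQ := Led Lsl_gf v2332
theorem f672939 : Led Lsl_gf v2332 = v8958 :=
  Lrfl
theorem f771065 : v4473 = v8958 :=
  (Llr Lrot52 (Lpr_ft (f771063 IH) (Lpe (f771060 IH) (Lpq (f770923 IH) (Lpe (f672938 IH) (Lpr_gf (f672939 IH) (Lpn v8958))))))).symm
theorem f672940 : Led Lsl_gt v6632 = v8958 :=
  Lgr Lrot5 (Lpe (f654519 IH) (Lpr_at (f514687 IH) (Lpr_gf (f672939 IH) (Lpn v8958))))
theorem f113738 : Led Lsl_ft (LP (LK LD1_c2 LD2_c21 LD3_c4)) = (LP (LK LD1_c4 LD2_c46 LD3_c8)) :=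
  Lre_f IH (LK LD1_c2 LD2_c21 LD3_c4) (LK LD1_c4 LD2_c46 LD3_c8) Lrfl Lrfl
theorem f703516 : Led Lsl_at (LP (LK LD1_c4 LD2_c46 LD3_c8)) = v13541 :=
  Lgr Lrot66 (Lpe (f113738 IH) (Lpe (f113752 IH) (Lpr_ff (f703514 IH) (Lpn v13541))))
theorem f110403 : Led Lsl_gt (LP (LK LD1_c2 LD2_c21 LD3_c4)) = (LP (LK LD1_c4 LD2_c46 LD3_c5)) :=
  Lre_g IH (LK LD1_c2 LD2_c21 LD3_c4) (LK LD1_c4 LD2_c46 LD3_c5) Lrfl Lrfl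
theorem f703520 : Led Lsl_gt (LP (LK LD1_c4 LD2_c46 LD3_c5)) = v13541 :=
  Lgr Lrot46 (Lpe (f110403 IH) (Lpr_ft (f113738 IH) (Lpr_at (f703516 IH) (Lpn v13541))))
def v13621 : LQ := Led Lsl_ct (LP (LK LD1_c4 LD2_c46 LD3_c5))
theorem f703944 : Led Lsl_ct (LP (LK LD1_c4 LD2_c46 LD3_c5)) = v13621 :=
  Lrfl
theorem f703945 : Led Lsl_cf (LP (LK LD1_c4 LD2_c46 LD3_c5)) = v13621 :=
  Lgr Lrot11 (Lpr_ct (f703944 IH) (Lpn v13621))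
theorem f771073 : Led Lsl_bf v6542 = v13621 :=
  Lgr Lrot34 (Lpe (f653867 IH) (Lpe (f90311 IH) (Lpr_ct (K3.f77093 IH) (Lpe (f90554 IH) (Lpq (f768732 IH) (Lpe (f765068 IH) (Lpqs (f771065 IH) (Lpe (f672940 IH) (Lpe (f654520 IH) (Lpr_ct (f703517 IH) (Lpe (f703520 IH) (Lpr_cf (f703945 IH) (Lpn v13621)))))))))))))
theorem f634052 : Led Lsl_gf (LP (LK LD1_c2 LD2_c22 LD3_c5)) = K50.v4468 :=
  Lgr Lrot47 (Lpr_gt (K49.f84487 IH) (Lpe (K50.f144000 IH) (Lpr_ff (K50.f634047 IH) (Lpn K50.v4468))))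
theorem f57492 : Led Lsl_ft (LP (LK LD1_c1 LD2_c36 LD3_c20)) = (LP (LK LD1_c3 LD2_c19 LD3_c54)) :=
  Lre_f IH (LK LD1_c1 LD2_c36 LD3_c20) (LK LD1_c3 LD2_c19 LD3_c54) Lrfl Lrfl
theorem f652471 : Led Lsl_at (LP (LK LD1_c3 LD2_c19 LD3_c54)) = K50.v6266 :=
  Lgr Lrot66 (Lpe (f57492 IH) (Lpe (K50.f57217 IH) (Lpr_ff (K50.f652467 IH) (Lpn K50.v6266))))
theorem f652479 : Led Lsl_gt (LP (LK LD1_c3 LD2_c19 LD3_c51)) = K50.v6266 :=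
  Lgr Lrot46 (Lpe (K50.f57517 IH) (Lpr_ft (f57492 IH) (Lpr_at (f652471 IH) (Lpn K50.v6266))))
def v6276 : LQ := Led Lsl_ct (LP (LK LD1_c3 LD2_c19 LD3_c51))
theorem f652534 : Led Lsl_ct (LP (LK LD1_c3 LD2_c19 LD3_c51)) = v6276 :=
  Lrfl
theorem f652535 : Led Lsl_cf (LP (LK LD1_c3 LD2_c19 LD3_c51)) = v6276 :=
  Lgr Lrot11 (Lpr_ct (f652534 IH) (Lpn v6276))
def v8259 : LQ := Led Lsl_bt v1946
theorem f670544 : Led Lsl_bt v1946 = v8259 :=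
  Lrfl
theorem f765090 : Led Lsl_gf v6276 = v8259 :=
  Lgr Lrot181 (Lpe (f652535 IH) (Lpr_gt (f652479 IH) (Lpe (K50.f652472 IH) (Lpr_bt (K50.f634050 IH) (Lpe (f634052 IH) (Lpr_bf (f634077 IH) (Lpr_ct (f765068 IH) (Lpr_gt (f765089 IH) (Lpe (f670546 IH) (Lpr_bt (f670544 IH) (Lpn v8259)))))))))))
theorem f768694 : v8259 = (LP (LK LD1_c3 LD2_c23 LD3_c21)) :=
  Lefun (Lecon (f670544 IH) (f768671 IH).symm) (f90311 IH)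
theorem f768730 : v6276 = v6542 :=
  Lefun (Lecon (Lfl_gf (f765090 IH)) (f768694 IH)) (f653867 IH)
theorem f652531 : Led Lsl_bt (LP (LK LD1_c3 LD2_c19 LD3_c51)) = (LP (LK LD1_c6 LD2_c43 LD3_c29)) :=
  Lre_b IH (LK LD1_c3 LD2_c19 LD3_c51) (LK LD1_c6 LD2_c43 LD3_c29) Lrfl Lrfl
theorem f703522 : Led Lsl_bt (LP (LK LD1_c9 LD2_c24 LD3_c45)) = (LP (LK LD1_c4 LD2_c46 LD3_c5)) :=
  Lre_b IH (LK LD1_c9 LD2_c24 LD3_c45) (LK LD1_c4 LD2_c46 LD3_c5) Lrfl Lrfl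
theorem f771076 : Led Lsl_ct (LP (LK LD1_c6 LD2_c43 LD3_c29)) = (LP (LK LD1_c9 LD2_c24 LD3_c45)) :=
  Lgr Lrot83 (Lpe (f652531 IH) (Lpr_cf (f652535 IH) (Lpqs (f768730 IH) (Lpr_bf (f771073 IH) (Lpe (f703944 IH) (Lpe (f703522 IH) (Lpn (LP (LK LD1_c9 LD2_c24 LD3_c45)))))))))
theorem f771077 : Led Lsl_ct (LP (LK LD1_c6 LD2_c43 LD3_c29)) = (LP (LK LD1_c9 LD2_c24 LD3_c45)) :=
  Leop (Lpe (f771076 IH) (Lpn (LP (LK LD1_c6 LD2_c43 LD3_c29))))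
theorem seed_1307 : LEOK LG_c (LK LD1_c6 LD2_c43 LD3_c29) :=
  Leoe_c (LK LD1_c6 LD2_c43 LD3_c29) (f771077 IH)
def v13337 : LQ := Led Lsl_gt (LP (LK LD1_c4 LD2_c43 LD3_c18))
theorem f702423 : Led Lsl_gt (LP (LK LD1_c4 LD2_c43 LD3_c18)) = v13337 :=
  Lrfl
def v17278 : LQ := Led Lsl_gt (LP (LK LD1_c6 LD2_c17 LD3_c15))
theorem f758112 : Led Lsl_gt (LP (LK LD1_c6 LD2_c17 LD3_c15)) = v17278 :=
  Lrfl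
def v13342 : LQ := Led Lsl_ft (LP (LK LD1_c4 LD2_c43 LD3_c18))
theorem f702435 : Led Lsl_ft (LP (LK LD1_c4 LD2_c43 LD3_c18)) = v13342 :=
  Lrfl
theorem f702437 : Led Lsl_ff (LP (LK LD1_c4 LD2_c43 LD3_c18)) = v13342 :=
  Lgr Lrot3 (Lpr_ft (f702435 IH) (Lpn v13342))
def v13620 : LQ := Led Lsl_at (LP (LK LD1_c4 LD2_c46 LD3_c5))
theorem f703939 : Led Lsl_at (LP (LK LD1_c4 LD2_c46 LD3_c5)) = v13620 :=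
  Lrfl
theorem f703940 : Led Lsl_af (LP (LK LD1_c4 LD2_c46 LD3_c5)) = v13620 :=
  Lgr Lrot0 (Lpr_at (f703939 IH) (Lpn v13620))
theorem f703942 : Led Lsl_ft (LP (LK LD1_c4 LD2_c46 LD3_c6)) = v13620 :=
  Lgr Lrot2 (Lpr_gt (f110562 IH) (Lpr_gt (f110403 IH) (Lpr_af (f703940 IH) (Lpn v13620))))
theorem f770908 : Led Lsl_cf v13342 = v13620 :=
  Lgr Lrot108 (Lpe (f702437 IH) (Lpr_ct (f702429 IH) (Lpqs (f770904 IH) (Lpr_ft (f703942 IH) (Lpn v13620)))))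
theorem f770909 : Led Lsl_at v13342 = v13621 :=
  Lgr Lrot107 (Lpr_cf (f770908 IH) (Lpe (f703939 IH) (Lpr_cf (f703945 IH) (Lpn v13621))))
theorem f770917 : Led Lsl_gt v13337 = v13621 :=
  Lgr Lrot46 (Lpe (f702423 IH) (Lpr_ft (f702435 IH) (Lpr_at (f770909 IH) (Lpn v13621))))
theorem f771075 : Led Lsl_bt v6542 = v13621 :=
  Lgr Lrot127 (Lpr_bf (f771073 IH) (Lpn v13621))
theorem f634053 : Led Lsl_ct (LP (LK LD1_c2 LD2_c22 LD3_c5)) = (LP (LK LD1_c4 LD2_c48 LD3_c23)) :=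
  Lre_c IH (LK LD1_c2 LD2_c22 LD3_c5) (LK LD1_c4 LD2_c48 LD3_c23) Lrfl Lrfl
def v13810 : LQ := Led Lsl_at (LP (LK LD1_c4 LD2_c48 LD3_c21))
theorem f705012 : Led Lsl_at (LP (LK LD1_c4 LD2_c48 LD3_c21)) = v13810 :=
  Lrfl
theorem f437357 : Led Lsl_ct (LP (LK LD1_c4 LD2_c48 LD3_c21)) = (LP (LK LD1_c2 LD2_c22 LD3_c4)) :=
  Lre_c IH (LK LD1_c4 LD2_c48 LD3_c21) (LK LD1_c2 LD2_c22 LD3_c4) Lrfl Lrfl
theorem f432221 : Led Lsl_ct (LP (LK LD1_c4 LD2_c48 LD3_c14)) = (LP (LK LD1_c9 LD2_c29 LD3_c13)) :=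
  Lre_c IH (LK LD1_c4 LD2_c48 LD3_c14) (LK LD1_c9 LD2_c29 LD3_c13) Lrfl Lrfl
theorem f675083 : Led Lsl_ff (LP (LK LD1_c4 LD2_c48 LD3_c21)) = (LP (LK LD1_c9 LD2_c29 LD3_c13)) :=
  Lgr Lrot23 (Lpr_ct (f437357 IH) (Lpr_ft (K49.f634071 IH) (Lpqs (K49.f675078 IH) (Lpr_ct (f432221 IH) (Lpn (LP (LK LD1_c9 LD2_c29 LD3_c13)))))))
theorem f432225 : Led Lsl_ct (LP (LK LD1_c9 LD2_c29 LD3_c13)) = (LP (LK LD1_c4 LD2_c48 LD3_c14)) :=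
  Lre_c IH (LK LD1_c9 LD2_c29 LD3_c13) (LK LD1_c4 LD2_c48 LD3_c14) Lrfl Lrfl
theorem f675113 : Led Lsl_af (LP (LK LD1_c9 LD2_c29 LD3_c13)) = (LP (LK LD1_c4 LD2_c48 LD3_c23)) :=
  Lgr Lrot68 (Lpr_ct (f432225 IH) (Lpq (K49.f675078 IH) (Lpe (K49.f634072 IH) (Lpr_ct (f634053 IH) (Lpn (LP (LK LD1_c4 LD2_c48 LD3_c23)))))))
theorem f705015 : Led Lsl_ff (LP (LK LD1_c4 LD2_c48 LD3_c23)) = v13810 :=
  Lgr Lrot30 (Lpe (f675113 IH) (Lpe (f675083 IH) (Lpr_at (f705012 IH) (Lpn v13810))))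
theorem f705017 : Led Lsl_ft (LP (LK LD1_c4 LD2_c48 LD3_c23)) = v13810 :=
  Lgr Lrot48 (Lpr_ff (f705015 IH) (Lpn v13810))
theorem f705013 : Led Lsl_af (LP (LK LD1_c4 LD2_c48 LD3_c21)) = v13810 :=
  Lgr Lrot0 (Lpr_at (f705012 IH) (Lpn v13810))
def v13809 : LQ := Led Lsl_gf (LP (LK LD1_c4 LD2_c48 LD3_c21))
theorem f705011 : Led Lsl_gf (LP (LK LD1_c4 LD2_c48 LD3_c21)) = v13809 :=
  Lrfl
theorem f705018 : Led Lsl_gt (LP (LK LD1_c4 LD2_c48 LD3_c23)) = v13809 :=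
  Lgr Lrot5 (Lpr_ft (f705017 IH) (Lpe (f705013 IH) (Lpr_gf (f705011 IH) (Lpn v13809))))
theorem f416358 : Led Lsl_ct (LP (LK LD1_c2 LD2_c22 LD3_c4)) = (LP (LK LD1_c4 LD2_c48 LD3_c21)) :=
  Lre_c IH (LK LD1_c2 LD2_c22 LD3_c4) (LK LD1_c4 LD2_c48 LD3_c21) Lrfl Lrfl
theorem f152413 : Led Lsl_gt (LP (LK LD1_c9 LD2_c19 LD3_c55)) = (LP (LK LD1_c4 LD2_c43 LD3_c3)) :=
  Lre_g IH (LK LD1_c9 LD2_c19 LD3_c55) (LK LD1_c4 LD2_c43 LD3_c3) Lrfl Lrfl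
theorem f118614 : Led Lsl_bt (LP (LK LD1_c1 LD2_c35 LD3_c17)) = (LP (LK LD1_c3 LD2_c17 LD3_c7)) :=
  Lre_b IH (LK LD1_c1 LD2_c35 LD3_c17) (LK LD1_c3 LD2_c17 LD3_c7) Lrfl Lrfl
def v6060 : LQ := Led Lsl_gf (LP (LK LD1_c3 LD2_c17 LD3_c1))
theorem f650774 : Led Lsl_gf (LP (LK LD1_c3 LD2_c17 LD3_c1)) = v6060 :=
  Lrfl
theorem f119397 : Led Lsl_at (LP (LK LD1_c1 LD2_c35 LD3_c10)) = (LP (LK LD1_c3 LD2_c17 LD3_c1)) :=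
  Lre_a IH (LK LD1_c1 LD2_c35 LD3_c10) (LK LD1_c3 LD2_c17 LD3_c1) Lrfl Lrfl
theorem f118725 : Led Lsl_ft (LP (LK LD1_c3 LD2_c17 LD3_c7)) = (LP (LK LD1_c1 LD2_c35 LD3_c10)) :=
  Lre_f IH (LK LD1_c3 LD2_c17 LD3_c7) (LK LD1_c1 LD2_c35 LD3_c10) Lrfl Lrfl
theorem f650775 : Led Lsl_gt (LP (LK LD1_c3 LD2_c17 LD3_c7)) = v6060 :=
  Lgr Lrot5 (Lpr_ft (f118725 IH) (Lpr_at (f119397 IH) (Lpr_gf (f650774 IH) (Lpn v6060))))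
theorem f769417 : v6064 = v6060 :=
  (Llr Lrot125 (Lpe (f769256 IH) (Lpq (K50.f702404 IH) (Lpr_gt (f152413 IH) (Lpe (K50.f435312 IH) (Lpr_bt (f453589 IH) (Lpr_gt (f622710 IH) (Lpq (f769177 IH) (Lpe (f672785 IH) (Lpqs (f769178 IH) (Lpq (f769085 IH) (Lpr_ct (f769022 IH) (Lpq (f769331 IH) (Lpe (f650472 IH) (Lpe (K4.f118217 IH) (Lpr_bt (f118614 IH) (Lpr_gt (f650775 IH) (Lpn v6060)))))))))))))))))).symm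
theorem f650804 : Led Lsl_ff v2083 = v6064 :=
  Lgr Lrot3 (Lpr_ft (f650803 IH) (Lpn v6064))
theorem f650813 : Led Lsl_ff (LP (LK LD1_c3 LD2_c17 LD3_c5)) = v6068 :=
  Lgr Lrot3 (Lpr_ft (f650811 IH) (Lpn v6068))
theorem f650814 : Led Lsl_at v2083 = v6068 :=
  Lgr Lrot66 (Lpr_ff (f650804 IH) (Lpe (f650801 IH) (Lpr_ff (f650813 IH) (Lpn v6068))))
def v6059 : LQ := Led Lsl_gt (LP (LK LD1_c3 LD2_c17 LD3_c1))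
theorem f650773 : Led Lsl_gt (LP (LK LD1_c3 LD2_c17 LD3_c1)) = v6059 :=
  Lrfl
theorem f769418 : v6068 = v6059 :=
  (Llr Lrot26 (Lpe (f650814 IH) (Lpr_ff (f650804 IH) (Lpqs (f769417 IH) (Lpe (f650774 IH) (Lpr_gt (f650773 IH) (Lpn v6059))))))).symm
theorem f650786 : Led Lsl_af (LP (LK LD1_c3 LD2_c17 LD3_c7)) = v6062 :=
  Lgr Lrot45 (Lpr_ft (f118725 IH) (Lpr_at (f119397 IH) (Lpr_ft (f650785 IH) (Lpn v6062))))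
theorem f650788 : Led Lsl_gt v6059 = (LP (LK LD1_c3 LD2_c17 LD3_c7)) :=
  Lgr Lrot46 (Lpe (f650773 IH) (Lpr_ft (f650785 IH) (Lpe (f650786 IH) (Lpn (LP (LK LD1_c3 LD2_c17 LD3_c7))))))
def v9779 : LQ := Led Lsl_gf v3069
theorem f677574 : Led Lsl_gf v3069 = v9779 :=
  Lrfl
theorem f769188 : Led Lsl_gf v9779 = v6766 :=
  Lgr Lrot47 (Lpe (f677574 IH) (Lpr_af (f677576 IH) (Lpr_ff (f769184 IH) (Lpn v6766))))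
theorem f769427 : Led Lsl_cf v13809 = v9779 :=
  Lgr Lrot125 (Lpe (f705011 IH) (Lpe (f416358 IH) (Lpr_bt (K50.f634066 IH) (Lpqs (f769266 IH) (Lpqs (f769418 IH) (Lpr_gt (f650788 IH) (Lpe (f118614 IH) (Lpr_ct (K4.f118217 IH) (Lpr_gt (f119414 IH) (Lpq (f769332 IH) (Lpe (f769028 IH) (Lpq (f769182 IH) (Lpr_bt (f658300 IH) (Lpe (f769188 IH) (Lpn v9779)))))))))))))))
def v7146 : LQ := Led Lsl_et (LP (LK LD1_c3 LD2_c39 LD3_c55))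
theorem f661541 : Led Lsl_et (LP (LK LD1_c3 LD2_c39 LD3_c55)) = v7146 :=
  Lrfl
theorem f661544 : Led Lsl_ef (LP (LK LD1_c3 LD2_c39 LD3_c55)) = v7146 :=
  Lgr Lrot88 (Lpr_et (f661541 IH) (Lpn v7146))
theorem f661546 : Led Lsl_ct v2507 = v7146 :=
  Lgr Lrot15 (Lpe (f523675 IH) (Lpe (K5.f66561 IH) (Lpr_ef (f661544 IH) (Lpn v7146))))
theorem f769821 : v2507 = v9779 :=
  Lefun (Lecon (Lfl_gt (f673934 IH)) (f769819 IH)) (f677574 IH)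
theorem f769825 : v13809 = v7146 :=
  Lefun (Lecon (Lfl_cf (f769427 IH)) (f769821 IH).symm) (f661546 IH)
theorem f102134 : Led Lsl_et (LP (LK LD1_c6 LD2_c17 LD3_c15)) = (LP (LK LD1_c3 LD2_c5 LD3_c48)) :=
  Lre_e IH (LK LD1_c6 LD2_c17 LD3_c15) (LK LD1_c3 LD2_c5 LD3_c48) Lrfl Lrfl
theorem f523677 : Led Lsl_bf (LP (LK LD1_c6 LD2_c17 LD3_c15)) = v2507 :=
  Lgr Lrot96 (Lpr_et (f102134 IH) (Lpe (K4.f102250 IH) (Lpr_et (f523675 IH) (Lpn v2507))))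
theorem f771087 : v17278 = v13621 :=
  (Llr Lrot164 (Lpe (f758112 IH) (Lpr_bf (f523677 IH) (Lpr_ct (f661546 IH) (Lpq (f769825 IH) (Lpe (f705018 IH) (Lpe (f634053 IH) (Lpr_gf (f634052 IH) (Lpe (K50.f634050 IH) (Lpr_ct (K50.f652472 IH) (Lpe (f652479 IH) (Lpr_cf (f652535 IH) (Lpqs (f768730 IH) (Lpr_bt (f771075 IH) (Lpn v13621))))))))))))))).symm
theorem f771089 : (LP (LK LD1_c6 LD2_c17 LD3_c15)) = v13337 :=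
  Lefun (Lecon (Lfl_gt (f758112 IH)) (f771087 IH)) (Lfl_gt (f770917 IH))
theorem f771091 : Led Lsl_gt (LP (LK LD1_c4 LD2_c43 LD3_c18)) = (LP (LK LD1_c6 LD2_c17 LD3_c15)) :=
  Leop (Lpqs (f771089 IH) (Lpe (f702423 IH) (Lpn (LP (LK LD1_c4 LD2_c43 LD3_c18)))))
theorem seed_1308 : LEOK LG_g (LK LD1_c4 LD2_c43 LD3_c18) :=
  Leoe_g (LK LD1_c4 LD2_c43 LD3_c18) (f771091 IH)
theorem f78371 : Led Lsl_dt (LP (LK LD1_c4 LD2_c46 LD3_c32)) = (LP (LK LD1_c9 LD2_c25 LD3_c44)) :=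
  Lre_d IH (LK LD1_c4 LD2_c46 LD3_c32) (LK LD1_c9 LD2_c25 LD3_c44) Lrfl Lrfl
theorem f78369 : Led Lsl_ct (LP (LK LD1_c17 LD2_c23 LD3_c16)) = (LP (LK LD1_c9 LD2_c25 LD3_c44)) :=
  Lre_c IH (LK LD1_c17 LD2_c23 LD3_c16) (LK LD1_c9 LD2_c25 LD3_c44) Lrfl Lrfl
def v17280 : LQ := Led Lsl_ft (LP (LK LD1_c6 LD2_c17 LD3_c15))
theorem f758115 : Led Lsl_ft (LP (LK LD1_c6 LD2_c17 LD3_c15)) = v17280 :=
  Lrfl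
theorem f102221 : Led Lsl_et (LP (LK LD1_c4 LD2_c47 LD3_c31)) = (LP (LK LD1_c9 LD2_c28 LD3_c4)) :=
  Lre_e IH (LK LD1_c4 LD2_c47 LD3_c31) (LK LD1_c9 LD2_c28 LD3_c4) Lrfl Lrfl
theorem f125225 : Led Lsl_at (LP (LK LD1_c9 LD2_c28 LD3_c4)) = (LP (LK LD1_c9 LD2_c15 LD3_c52)) :=
  Lgr Lrot80 (Lpe (f102221 IH) (Lpr_af (K5.f125207 IH) (Lpe (K7.f77931 IH) (Lpn (LP (LK LD1_c9 LD2_c15 LD3_c52))))))
theorem f102222 : Led Lsl_dt (LP (LK LD1_c9 LD2_c28 LD3_c4)) = (LP (LK LD1_c6 LD2_c17 LD3_c15)) :=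
  Lgr Lrot77 (Lpe (f102221 IH) (Lpe (K5.f86315 IH) (Lpr_ef (K5.f102183 IH) (Lpe (K5.f58754 IH) (Lpe (f102134 IH) (Lpn (LP (LK LD1_c6 LD2_c17 LD3_c15))))))))
theorem f102224 : Led Lsl_df (LP (LK LD1_c9 LD2_c28 LD3_c4)) = (LP (LK LD1_c6 LD2_c17 LD3_c15)) :=
  Lgr Lrot38 (Lpr_dt (f102222 IH) (Lpn (LP (LK LD1_c6 LD2_c17 LD3_c15))))
theorem f77929 : Led Lsl_dt (LP (LK LD1_c9 LD2_c15 LD3_c52)) = (LP (LK LD1_c4 LD2_c40 LD3_c14)) :=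
  Lre_d IH (LK LD1_c9 LD2_c15 LD3_c52) (LK LD1_c4 LD2_c40 LD3_c14) Lrfl Lrfl
theorem f125229 : Led Lsl_af (LP (LK LD1_c6 LD2_c17 LD3_c15)) = (LP (LK LD1_c4 LD2_c40 LD3_c14)) :=
  Lgr Lrot117 (Lpe (f102224 IH) (Lpr_at (f125225 IH) (Lpr_dt (f77929 IH) (Lpn (LP (LK LD1_c4 LD2_c40 LD3_c14))))))
theorem f758116 : Led Lsl_af (LP (LK LD1_c9 LD2_c15 LD3_c53)) = v17280 :=
  Lgr Lrot45 (Lpr_ft (f77968 IH) (Lpe (f125229 IH) (Lpr_ft (f758115 IH) (Lpn v17280))))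
theorem f758121 : Led Lsl_gt v17278 = (LP (LK LD1_c9 LD2_c15 LD3_c53)) :=
  Lgr Lrot46 (Lpe (f758112 IH) (Lpr_ft (f758115 IH) (Lpe (f758116 IH) (Lpn (LP (LK LD1_c9 LD2_c15 LD3_c53))))))
theorem f133202 : Led Lsl_dt (LP (LK LD1_c4 LD2_c46 LD3_c7)) = (LP (LK LD1_c2 LD2_c21 LD3_c4)) :=
  Lre_d IH (LK LD1_c4 LD2_c46 LD3_c7) (LK LD1_c2 LD2_c21 LD3_c4) Lrfl Lrfl
theorem f441952 : Led Lsl_gt (LP (LK LD1_c4 LD2_c46 LD3_c7)) = (LP (LK LD1_c9 LD2_c24 LD3_c48)) :=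
  Lre_g IH (LK LD1_c4 LD2_c46 LD3_c7) (LK LD1_c9 LD2_c24 LD3_c48) Lrfl Lrfl
theorem f703946 : Led Lsl_ct (LP (LK LD1_c9 LD2_c24 LD3_c48)) = (LP (LK LD1_c17 LD2_c21 LD3_c59)) :=
  Lre_c IH (LK LD1_c9 LD2_c24 LD3_c48) (LK LD1_c17 LD2_c21 LD3_c59) Lrfl Lrfl
theorem f771116 : Led Lsl_gf (LP (LK LD1_c17 LD2_c23 LD3_c16)) = (LP (LK LD1_c17 LD2_c21 LD3_c59)) :=
  Lgr Lrot104 (Lpr_ct (f78369 IH) (Lpe (f78371 IH) (Lpr_cf (f78366 IH) (Lpe (f758121 IH) (Lpqs (f771087 IH) (Lpe (f703944 IH) (Lpe (f110403 IH) (Lpe (f133202 IH) (Lpr_gt (f441952 IH) (Lpr_ct (f703946 IH) (Lpn (LP (LK LD1_c17 LD2_c21 LD3_c59)))))))))))))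
theorem f771117 : Led Lsl_gt (LP (LK LD1_c17 LD2_c21 LD3_c59)) = (LP (LK LD1_c17 LD2_c23 LD3_c16)) :=
  Leop (Lpr_gf (f771116 IH) (Lpn (LP (LK LD1_c17 LD2_c21 LD3_c59))))
theorem seed_1309 : LEOK LG_g (LK LD1_c17 LD2_c21 LD3_c59) :=
  Leoe_g (LK LD1_c17 LD2_c21 LD3_c59) (f771117 IH)
theorem f770910 : Led Lsl_ct v13342 = v13620 :=
  Lgr Lrot59 (Lpr_cf (f770908 IH) (Lpn v13620))
theorem f770911 : Led Lsl_af v13342 = v13621 :=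
  Lgr Lrot68 (Lpr_ct (f770910 IH) (Lpe (f703940 IH) (Lpr_ct (f703944 IH) (Lpn v13621))))
theorem f632611 : Led Lsl_bt (LP (LK LD1_c2 LD2_c19 LD3_c20)) = (LP (LK LD1_c4 LD2_c43 LD3_c18)) :=
  Lre_b IH (LK LD1_c2 LD2_c19 LD3_c20) (LK LD1_c4 LD2_c43 LD3_c18) Lrfl Lrfl
def v4317 : LQ := Led Lsl_ft (LP (LK LD1_c2 LD2_c19 LD3_c20))
theorem f632616 : Led Lsl_ft (LP (LK LD1_c2 LD2_c19 LD3_c20)) = v4317 :=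
  Lrfl
theorem f632618 : Led Lsl_ff (LP (LK LD1_c2 LD2_c19 LD3_c20)) = v4317 :=
  Lgr Lrot3 (Lpr_ft (f632616 IH) (Lpn v4317))
theorem f702436 : Led Lsl_bf v4317 = v13342 :=
  Lgr Lrot61 (Lpe (f632618 IH) (Lpr_bt (f632611 IH) (Lpr_ft (f702435 IH) (Lpn v13342))))
theorem f632617 : Led Lsl_af K51.v1305 = v4317 :=
  Lgr Lrot45 (Lpr_ft (K51.f632612 IH) (Lpe (K51.f632610 IH) (Lpr_ft (f632616 IH) (Lpn v4317))))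
def v7804 : LQ := Led Lsl_bt K51.v1305
theorem f668505 : Led Lsl_bt K51.v1305 = v7804 :=
  Lrfl
theorem f771086 : Led Lsl_af v6542 = v7804 :=
  Lgr Lrot36 (Lpr_bt (f771075 IH) (Lpe (f770911 IH) (Lpe (f702436 IH) (Lpe (f632617 IH) (Lpr_bt (f668505 IH) (Lpn v7804))))))
def v6275 : LQ := Led Lsl_at (LP (LK LD1_c3 LD2_c19 LD3_c51))
theorem f652529 : Led Lsl_at (LP (LK LD1_c3 LD2_c19 LD3_c51)) = v6275 :=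
  Lrfl
theorem f668506 : Led Lsl_bf K51.v1305 = v7804 :=
  Lgr Lrot24 (Lpr_bt (f668505 IH) (Lpn v7804))
theorem f57170 : Led Lsl_ct (LP (LK LD1_c1 LD2_c36 LD3_c23)) = (LP (LK LD1_c3 LD2_c19 LD3_c54)) :=
  Lre_c IH (LK LD1_c1 LD2_c36 LD3_c23) (LK LD1_c3 LD2_c19 LD3_c54) Lrfl Lrfl
def v6265 : LQ := Led Lsl_gt (LP (LK LD1_c3 LD2_c19 LD3_c44))
theorem f652462 : Led Lsl_gt (LP (LK LD1_c3 LD2_c19 LD3_c44)) = v6265 :=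
  Lrfl
theorem f57439 : Led Lsl_at (LP (LK LD1_c1 LD2_c36 LD3_c20)) = (LP (LK LD1_c3 LD2_c19 LD3_c44)) :=
  Lre_a IH (LK LD1_c1 LD2_c36 LD3_c20) (LK LD1_c3 LD2_c19 LD3_c44) Lrfl Lrfl
theorem f652465 : Led Lsl_af (LP (LK LD1_c3 LD2_c19 LD3_c54)) = K50.v6266 :=
  Lgr Lrot45 (Lpr_ft (K1.f57207 IH) (Lpr_at (f57439 IH) (Lpr_ft (K50.f652464 IH) (Lpn K50.v6266))))
theorem f652468 : Led Lsl_gt v6265 = (LP (LK LD1_c3 LD2_c19 LD3_c54)) :=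
  Lgr Lrot46 (Lpe (f652462 IH) (Lpr_ft (K50.f652464 IH) (Lpe (f652465 IH) (Lpn (LP (LK LD1_c3 LD2_c19 LD3_c54))))))
theorem f668507 : Led Lsl_cf v6265 = v7804 :=
  Lgr Lrot160 (Lpr_gt (f652468 IH) (Lpe (f57170 IH) (Lpr_bt (K1.f57188 IH) (Lpr_gt (K32.f415361 IH) (Lpe (K32.f416702 IH) (Lpr_gt (K24.f26768 IH) (Lpr_cf (K24.f26370 IH) (Lpr_bt (K11.f150465 IH) (Lpr_gt (K51.f494728 IH) (Lpr_bf (f668506 IH) (Lpn v7804)))))))))))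
theorem f668508 : Led Lsl_ct v6265 = v7804 :=
  Lgr Lrot59 (Lpr_cf (f668507 IH) (Lpn v7804))
theorem f771120 : v6275 = v6265 :=
  (Llr Lrot107 (Lpe (f652529 IH) (Lpr_cf (f652535 IH) (Lpqs (f768730 IH) (Lpr_af (f771086 IH) (Lpe (f668508 IH) (Lpn v6265))))))).symm
theorem f652530 : Led Lsl_af (LP (LK LD1_c3 LD2_c19 LD3_c51)) = v6275 :=
  Lgr Lrot0 (Lpr_at (f652529 IH) (Lpn v6275))
theorem f652532 : Led Lsl_ft (LP (LK LD1_c3 LD2_c19 LD3_c52)) = v6275 :=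
  Lgr Lrot2 (Lpr_gt (K50.f57526 IH) (Lpr_gt (K50.f57517 IH) (Lpr_af (f652530 IH) (Lpn v6275))))
theorem f771121 : Led Lsl_ff (LP (LK LD1_c6 LD2_c43 LD3_c31)) = v7804 :=
  Lgr Lrot23 (Lpr_ct (K50.f435304 IH) (Lpr_ft (f652532 IH) (Lpqs (f771120 IH) (Lpr_ct (f668508 IH) (Lpn v7804)))))
def v6543 : LQ := Led Lsl_gf (LP (LK LD1_c3 LD2_c23 LD3_c21))
theorem f653868 : Led Lsl_gf (LP (LK LD1_c3 LD2_c23 LD3_c21)) = v6543 :=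
  Lrfl
theorem f771119 : Led Lsl_ft v6543 = v7804 :=
  Lgr Lrot2 (Lpe (f653868 IH) (Lpq (f768694 IH) (Lpe (f765090 IH) (Lpqs (f768730 IH) (Lpr_af (f771086 IH) (Lpn v7804))))))
theorem f771123 : (LP (LK LD1_c6 LD2_c43 LD3_c31)) = v6543 :=
  (Llr Lrot48 (Lpr_ff (f771121 IH) (Lpe (f771119 IH) (Lpn v6543)))).symm
theorem f771124 : Led Lsl_gt (LP (LK LD1_c6 LD2_c43 LD3_c31)) = (LP (LK LD1_c3 LD2_c23 LD3_c21)) :=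
  Leop (Lpr_gf (f653868 IH) (Lpq (f771123 IH) (Lpn (LP (LK LD1_c6 LD2_c43 LD3_c31)))))
theorem seed_1310 : LEOK LG_g (LK LD1_c6 LD2_c43 LD3_c31) :=
  Leoe_g (LK LD1_c6 LD2_c43 LD3_c31) (f771124 IH)
def v13312 : LQ := Led Lsl_ft (LP (LK LD1_c4 LD2_c43 LD3_c4))
theorem f702284 : Led Lsl_ft (LP (LK LD1_c4 LD2_c43 LD3_c4)) = v13312 :=
  Lrfl
theorem f702286 : Led Lsl_ff (LP (LK LD1_c4 LD2_c43 LD3_c4)) = v13312 :=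
  Lgr Lrot3 (Lpr_ft (f702284 IH) (Lpn v13312))

end

end K58

end

end Cfsg.Agent.Helper28.S1692
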