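import Cfsg.Agent.Lib.Helper28.S1692.Seeds58

set_option autoImplicit false
set_option maxRecDepth 100000
set_option linter.all false

namespace Cfsg.Agent.Helper28.S1692

open Cfsg.Agent.Helper28
open Cfsg.Spor.ON (Gen)

noncomputable section

namespace K59
abbrev LD1_c0 := D1.c0
abbrev LD1_c1 := D1.c1
abbrev LD1_c2 := D1.c2
abbrev LD1_c3 := D1.c3
abbrev LD1_c4 := D1.c4
abbrev LD1_c5 := D1.c5
abbrev LD1_c6 := D1.c6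
abbrev LD1_c7 := D1.c7
abbrev LD1_c8 := D1.c8
abbrev LD1_c9 := D1.c9
abbrev LD1_c10 := D1.c10
abbrev LD1_c11 := D1.c11
abbrev LD1_c12 := D1.c12
abbrev LD1_c13 := D1.c13
abbrev LD1_c14 := D1.c14
abbrev LD1_c15 := D1.c15
abbrev LD1_c16 := D1.c16
abbrev LD1_c17 := D1.c17
abbrev LD1_c18 := D1.c18
abbrev LD1_c19 := D1.c19
abbrev LD1_c20 := D1.c20
abbrev LD1_c21 := D1.c21
abbrev LD1_c22 := D1.c22
abbrev LD1_c23 := D1.c23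
abbrev LD1_c24 := D1.c24
abbrev LD1_c25 := D1.c25
abbrev LD1_c26 := D1.c26
abbrev LD1_c27 := D1.c27
abbrev LD1_c28 := D1.c28
abbrev LD1_c29 := D1.c29
abbrev LD1_c30 := D1.c30
abbrev LD1_c31 := D1.c31
abbrev LD1_c32 := D1.c32
abbrev LD2_c0 := D2.c0
abbrev LD2_c1 := D2.c1
abbrev LD2_c2 := D2.c2
abbrev LD2_c3 := D2.c3
abbrev LD2_c4 := D2.c4
abbrev LD2_c5 := D2.c5
abbrev LD2_c6 := D2.c6
abbrev LD2_c7 := D2.c7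
abbrev LD2_c8 := D2.c8
abbrev LD2_c9 := D2.c9
abbrev LD2_c10 := D2.c10
abbrev LD2_c11 := D2.c11
abbrev LD2_c12 := D2.c12
abbrev LD2_c13 := D2.c13
abbrev LD2_c14 := D2.c14
abbrev LD2_c15 := D2.c15
abbrev LD2_c16 := D2.c16
abbrev LD2_c17 := D2.c17
abbrev LD2_c18 := D2.c18
abbrev LD2_c19 := D2.c19
abbrev LD2_c20 := D2.c20
abbrev LD2_c21 := D2.c21
abbrev LD2_c22 := D2.c22
abbrev LD2_c23 := D2.c23
abbrev LD2_c24 := D2.c24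
abbrev LD2_c25 := D2.c25
abbrev LD2_c26 := D2.c26
abbrev LD2_c27 := D2.c27
abbrev LD2_c28 := D2.c28
abbrev LD2_c29 := D2.c29
abbrev LD2_c30 := D2.c30
abbrev LD2_c31 := D2.c31
abbrev LD2_c32 := D2.c32
abbrev LD2_c33 := D2.c33
abbrev LD2_c34 := D2.c34
abbrev LD2_c35 := D2.c35
abbrev LD2_c36 := D2.c36
abbrev LD2_c37 := D2.c37
abbrev LD2_c38 := D2.c38
abbrev LD2_c39 := D2.c39
abbrev LD2_c40 := D2.c40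
abbrev LD2_c41 := D2.c41
abbrev LD2_c42 := D2.c42
abbrev LD2_c43 := D2.c43
abbrev LD2_c44 := D2.c44
abbrev LD2_c45 := D2.c45
abbrev LD2_c46 := D2.c46
abbrev LD2_c47 := D2.c47
abbrev LD2_c48 := D2.c48
abbrev LD2_c49 := D2.c49
abbrev LD2_c50 := D2.c50
abbrev LD2_c51 := D2.c51
abbrev LD2_c52 := D2.c52
abbrev LD2_c53 := D2.c53
abbrev LD2_c54 := D2.c54
abbrev LD2_c55 := D2.c55
abbrev LD2_c56 := D2.c56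
abbrev LD2_c57 := D2.c57
abbrev LD2_c58 := D2.c58
abbrev LD2_c59 := D2.c59
abbrev LD3_c0 := D3.c0
abbrev LD3_c1 := D3.c1
abbrev LD3_c2 := D3.c2
abbrev LD3_c3 := D3.c3
abbrev LD3_c4 := D3.c4
abbrev LD3_c5 := D3.c5
abbrev LD3_c6 := D3.c6
abbrev LD3_c7 := D3.c7
abbrev LD3_c8 := D3.c8
abbrev LD3_c9 := D3.c9
abbrev LD3_c10 := D3.c10
abbrev LD3_c11 := D3.c11
abbrev LD3_c12 := D3.c12
abbrev LD3_c13 := D3.c13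
abbrev LD3_c14 := D3.c14
abbrev LD3_c15 := D3.c15
abbrev LD3_c16 := D3.c16
abbrev LD3_c17 := D3.c17
abbrev LD3_c18 := D3.c18
abbrev LD3_c19 := D3.c19
abbrev LD3_c20 := D3.c20
abbrev LD3_c21 := D3.c21
abbrev LD3_c22 := D3.c22
abbrev LD3_c23 := D3.c23
abbrev LD3_c24 := D3.c24
abbrev LD3_c25 := D3.c25
abbrev LD3_c26 := D3.c26
abbrev LD3_c27 := D3.c27
abbrev LD3_c28 := D3.c28
abbrev LD3_c29 := D3.c29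
abbrev LD3_c30 := D3.c30
abbrev LD3_c31 := D3.c31
abbrev LD3_c32 := D3.c32
abbrev LD3_c33 := D3.c33
abbrev LD3_c34 := D3.c34
abbrev LD3_c35 := D3.c35
abbrev LD3_c36 := D3.c36
abbrev LD3_c37 := D3.c37
abbrev LD3_c38 := D3.c38
abbrev LD3_c39 := D3.c39
abbrev LD3_c40 := D3.c40
abbrev LD3_c41 := D3.c41
abbrev LD3_c42 := D3.c42
abbrev LD3_c43 := D3.c43
abbrev LD3_c44 := D3.c44
abbrev LD3_c45 := D3.c45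
abbrev LD3_c46 := D3.c46
abbrev LD3_c47 := D3.c47
abbrev LD3_c48 := D3.c48
abbrev LD3_c49 := D3.c49
abbrev LD3_c50 := D3.c50
abbrev LD3_c51 := D3.c51
abbrev LD3_c52 := D3.c52
abbrev LD3_c53 := D3.c53
abbrev LD3_c54 := D3.c54
abbrev LD3_c55 := D3.c55
abbrev LD3_c56 := D3.c56
abbrev LD3_c57 := D3.c57
abbrev LD3_c58 := D3.c58
abbrev LD3_c59 := D3.c59
abbrev LD3_c60 := D3.c60
abbrev LD3_c61 := D3.c61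
abbrev LG_g := Gen.g
abbrev Lsl_gt : Gen × Bool := sl_gt
alias Lfl_gt := fl_gt
alias Lpr_gt := pr_gt
abbrev Lsl_gf : Gen × Bool := sl_gf
alias Lfl_gf := fl_gf
alias Lpr_gf := pr_gf
alias Lre_g := re_g
alias Leoe_g := eoe_g
abbrev LG_a := Gen.a
abbrev Lsl_at : Gen × Bool := sl_at
alias Lfl_at := fl_at
alias Lpr_at := pr_at
abbrev Lsl_af : Gen × Bool := sl_af
alias Lfl_af := fl_af
alias Lpr_af := pr_af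
alias Lre_a := re_a
alias Leoe_a := eoe_a
abbrev LG_b := Gen.b
abbrev Lsl_bt : Gen × Bool := sl_bt
alias Lfl_bt := fl_bt
alias Lpr_bt := pr_bt
abbrev Lsl_bf : Gen × Bool := sl_bf
alias Lfl_bf := fl_bf
alias Lpr_bf := pr_bf
alias Lre_b := re_b
alias Leoe_b := eoe_b
abbrev LG_c := Gen.c
abbrev Lsl_ct : Gen × Bool := sl_ct
alias Lfl_ct := fl_ct
alias Lpr_ct := pr_ct
abbrev Lsl_cf : Gen × Bool := sl_cf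
alias Lfl_cf := fl_cf
alias Lpr_cf := pr_cf
alias Lre_c := re_c
alias Leoe_c := eoe_c
abbrev LG_d := Gen.d
abbrev Lsl_dt : Gen × Bool := sl_dt
alias Lfl_dt := fl_dt
alias Lpr_dt := pr_dt
abbrev Lsl_df : Gen × Bool := sl_df
alias Lfl_df := fl_df
alias Lpr_df := pr_df
alias Lre_d := re_d
alias Leoe_d := eoe_d
abbrev LG_e := Gen.e
abbrev Lsl_et : Gen × Bool := sl_et
alias Lfl_et := fl_et
alias Lpr_et := pr_et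
abbrev Lsl_ef : Gen × Bool := sl_ef
alias Lfl_ef := fl_ef
alias Lpr_ef := pr_ef
alias Lre_e := re_e
alias Leoe_e := eoe_e
abbrev LG_f := Gen.f
abbrev Lsl_ft : Gen × Bool := sl_ft
alias Lfl_ft := fl_ft
alias Lpr_ft := pr_ft
abbrev Lsl_ff : Gen × Bool := sl_ff
alias Lfl_ff := fl_ff
alias Lpr_ff := pr_ff
alias Lre_f := re_f
alias Leoe_f := eoe_f
abbrev LK := Pt.mk
abbrev LQ : Type := Qt rels S
abbrev LP (p : Pt) : LQ := P p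
abbrev Led (l : Gen × Bool) (c : LQ) : LQ := ed l c
abbrev LEOK (x : Gen) (p : Pt) : Prop := EntryOK rels S fwd inv o plet idx x p
alias Lpe := pe
alias Lpn := pn
alias Lgr := gr
alias Lpq := pq
alias Lpqs := pqs
alias Llr := lr
alias Leop := eop
alias Lefun := efun
alias Lecon := econ
theorem Lrfl {α : Sort _} {a : α} : a = a := rfl
alias Lrot0 := rot0
alias Lrot1 := rot1
alias Lrot2 := rot2
alias Lrot3 := rot3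
alias Lrot4 := rot4
alias Lrot5 := rot5
alias Lrot6 := rot6
alias Lrot7 := rot7
alias Lrot8 := rot8
alias Lrot9 := rot9
alias Lrot10 := rot10
alias Lrot11 := rot11
alias Lrot12 := rot12
alias Lrot13 := rot13
alias Lrot14 := rot14
alias Lrot15 := rot15
alias Lrot17 := rot17
alias Lrot18 := rot18
alias Lrot19 := rot19
alias Lrot20 := rot20
alias Lrot21 := rot21
alias Lrot22 := rot22
alias Lrot23 := rot23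
alias Lrot24 := rot24
alias Lrot25 := rot25
alias Lrot26 := rot26
alias Lrot27 := rot27
alias Lrot28 := rot28
alias Lrot29 := rot29
alias Lrot30 := rot30
alias Lrot31 := rot31
alias Lrot33 := rot33
alias Lrot34 := rot34
alias Lrot35 := rot35
alias Lrot36 := rot36
alias Lrot38 := rot38
alias Lrot39 := rot39
alias Lrot40 := rot40
alias Lrot41 := rot41
alias Lrot42 := rot42
alias Lrot43 := rot43
alias Lrot44 := rot44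
alias Lrot45 := rot45
alias Lrot46 := rot46
alias Lrot47 := rot47
alias Lrot48 := rot48
alias Lrot49 := rot49
alias Lrot50 := rot50
alias Lrot51 := rot51
alias Lrot52 := rot52
alias Lrot54 := rot54
alias Lrot55 := rot55
alias Lrot56 := rot56
alias Lrot57 := rot57
alias Lrot58 := rot58
alias Lrot59 := rot59
alias Lrot60 := rot60
alias Lrot61 := rot61
alias Lrot62 := rot62
alias Lrot63 := rot63
alias Lrot64 := rot64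
alias Lrot65 := rot65
alias Lrot66 := rot66
alias Lrot67 := rot67
alias Lrot68 := rot68
alias Lrot69 := rot69
alias Lrot70 := rot70
alias Lrot71 := rot71
alias Lrot72 := rot72
alias Lrot73 := rot73
alias Lrot74 := rot74
alias Lrot75 := rot75
alias Lrot76 := rot76
alias Lrot77 := rot77
alias Lrot78 := rot78
alias Lrot79 := rot79
alias Lrot80 := rot80
alias Lrot81 := rot81
alias Lrot82 := rot82
alias Lrot83 := rot83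
alias Lrot84 := rot84
alias Lrot86 := rot86
alias Lrot87 := rot87
alias Lrot88 := rot88
alias Lrot90 := rot90
alias Lrot91 := rot91
alias Lrot92 := rot92
alias Lrot93 := rot93
alias Lrot94 := rot94
alias Lrot95 := rot95
alias Lrot96 := rot96
alias Lrot97 := rot97
alias Lrot98 := rot98
alias Lrot99 := rot99
alias Lrot100 := rot100
alias Lrot101 := rot101
alias Lrot102 := rot102
alias Lrot103 := rot103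
alias Lrot104 := rot104
alias Lrot105 := rot105
alias Lrot107 := rot107
alias Lrot108 := rot108
alias Lrot109 := rot109
alias Lrot110 := rot110
alias Lrot111 := rot111
alias Lrot112 := rot112
alias Lrot113 := rot113
alias Lrot114 := rot114
alias Lrot116 := rot116
alias Lrot117 := rot117
alias Lrot118 := rot118
alias Lrot119 := rot119
alias Lrot121 := rot121
alias Lrot122 := rot122
alias Lrot123 := rot123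
alias Lrot124 := rot124
alias Lrot125 := rot125
alias Lrot126 := rot126
alias Lrot127 := rot127
alias Lrot128 := rot128
alias Lrot129 := rot129
alias Lrot130 := rot130
alias Lrot131 := rot131
alias Lrot132 := rot132
alias Lrot133 := rot133
alias Lrot134 := rot134
alias Lrot135 := rot135
alias Lrot136 := rot136
alias Lrot137 := rot137
alias Lrot138 := rot138
alias Lrot139 := rot139
alias Lrot140 := rot140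
alias Lrot141 := rot141
alias Lrot142 := rot142
alias Lrot143 := rot143
alias Lrot144 := rot144
alias Lrot145 := rot145
alias Lrot147 := rot147
alias Lrot148 := rot148
alias Lrot149 := rot149
alias Lrot150 := rot150
alias Lrot152 := rot152
alias Lrot153 := rot153
alias Lrot154 := rot154
alias Lrot155 := rot155
alias Lrot156 := rot156
alias Lrot158 := rot158
alias Lrot160 := rot160
alias Lrot161 := rot161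
alias Lrot163 := rot163
alias Lrot164 := rot164
alias Lrot165 := rot165
alias Lrot166 := rot166
alias Lrot167 := rot167
alias Lrot168 := rot168
alias Lrot169 := rot169
alias Lrot170 := rot170
alias Lrot171 := rot171
alias Lrot172 := rot172
alias Lrot174 := rot174
alias Lrot175 := rot175
alias Lrot177 := rot177
alias Lrot179 := rot179
alias Lrot180 := rot180
alias Lrot181 := rot181
alias Lrot185 := rot185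
alias Lrot186 := rot186

section
variable (IH : IHT)
include IH

theorem f771122 : K58.v13312 = K51.v1305 :=
  (Llr Lrot75 (Lpe (K58.f702284 IH) (Lpe (K50.f435305 IH) (Lpr_ff (K58.f771121 IH) (Lpe (K58.f668505 IH) (Lpn K51.v1305)))))).symm
theorem f771127 : (LP (LK LD1_c4 LD2_c43 LD3_c4)) = K51.v4315 :=
  Lefun (Lecon (Lfl_ff (K58.f702286 IH)) (f771122 IH)) (K51.f632612 IH)
theorem f771129 : Led Lsl_at (LP (LK LD1_c2 LD2_c19 LD3_c20)) = (LP (LK LD1_c4 LD2_c43 LD3_c4)) :=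
  Leop (Lpqs (f771127 IH) (Lpe (K51.f632609 IH) (Lpn (LP (LK LD1_c2 LD2_c19 LD3_c20)))))
theorem seed_1311 : LEOK LG_a (LK LD1_c2 LD2_c19 LD3_c20) :=
  Leoe_a (LK LD1_c2 LD2_c19 LD3_c20) (f771129 IH)
def v17628 : LQ := Led Lsl_at (LP (LK LD1_c6 LD2_c20 LD3_c51))
theorem f761155 : Led Lsl_at (LP (LK LD1_c6 LD2_c20 LD3_c51)) = v17628 :=
  Lrfl
theorem f632552 : Led Lsl_et (LP (LK LD1_c3 LD2_c7 LD3_c59)) = (LP (LK LD1_c6 LD2_c20 LD3_c51)) :=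
  Lre_e IH (LK LD1_c3 LD2_c7 LD3_c59) (LK LD1_c6 LD2_c20 LD3_c51) Lrfl Lrfl
def v5451 : LQ := Led Lsl_at (LP (LK LD1_c3 LD2_c7 LD3_c59))
theorem f647699 : Led Lsl_at (LP (LK LD1_c3 LD2_c7 LD3_c59)) = v5451 :=
  Lrfl
theorem f647700 : Led Lsl_af (LP (LK LD1_c3 LD2_c7 LD3_c59)) = v5451 :=
  Lgr Lrot0 (Lpr_at (f647699 IH) (Lpn v5451))
theorem f761158 : Led Lsl_ef v5451 = v17628 :=
  Lgr Lrot20 (Lpe (f647700 IH) (Lpr_et (f632552 IH) (Lpr_at (f761155 IH) (Lpn v17628))))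
def v5399 : LQ := Led Lsl_gt (LP (LK LD1_c3 LD2_c7 LD3_c22))
theorem f647374 : Led Lsl_gt (LP (LK LD1_c3 LD2_c7 LD3_c22)) = v5399 :=
  Lrfl
theorem f152520 : Led Lsl_et (LP (LK LD1_c1 LD2_c29 LD3_c57)) = (LP (LK LD1_c3 LD2_c7 LD3_c22)) :=
  Lre_e IH (LK LD1_c1 LD2_c29 LD3_c57) (LK LD1_c3 LD2_c7 LD3_c22) Lrfl Lrfl
theorem f104678 : Led Lsl_dt (LP (LK LD1_c1 LD2_c29 LD3_c57)) = (LP (LK LD1_c0 LD2_c41 LD3_c35)) :=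
  Lre_d IH (LK LD1_c1 LD2_c29 LD3_c57) (LK LD1_c0 LD2_c41 LD3_c35) Lrfl Lrfl
theorem f145543 : Led Lsl_ft (LP (LK LD1_c3 LD2_c53 LD3_c35)) = (LP (LK LD1_c6 LD2_c20 LD3_c53)) :=
  Lgr Lrot4 (Lpe (K6.f90203 IH) (Lpr_ff (K6.f145538 IH) (Lpe (K6.f145512 IH) (Lpn (LP (LK LD1_c6 LD2_c20 LD3_c53))))))
theorem f126704 : Led Lsl_af (LP (LK LD1_c3 LD2_c11 LD3_c60)) = (LP (LK LD1_c3 LD2_c7 LD3_c1)) :=
  Lgr Lrot31 (Lpr_gf (K5.f126639 IH) (Lpr_gf (K5.f126702 IH) (Lpe (K11.f126636 IH) (Lpn (LP (LK LD1_c3 LD2_c7 LD3_c1))))))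
theorem f145508 : Led Lsl_af (LP (LK LD1_c6 LD2_c19 LD3_c13)) = (LP (LK LD1_c6 LD2_c20 LD3_c53)) :=
  Lgr Lrot117 (Lpr_dt (K6.f126625 IH) (Lpe (f126704 IH) (Lpr_dt (K6.f145506 IH) (Lpn (LP (LK LD1_c6 LD2_c20 LD3_c53))))))
theorem f155898 : Led Lsl_gt (LP (LK LD1_c4 LD2_c43 LD3_c22)) = (LP (LK LD1_c6 LD2_c19 LD3_c13)) :=
  Lgr Lrot46 (Lpr_gf (K7.f155896 IH) (Lpr_ft (f145543 IH) (Lpe (f145508 IH) (Lpn (LP (LK LD1_c6 LD2_c19 LD3_c13))))))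
theorem f431193 : Led Lsl_dt (LP (LK LD1_c3 LD2_c7 LD3_c25)) = (LP (LK LD1_c4 LD2_c43 LD3_c22)) :=
  Lgr Lrot57 (Lpr_gf (K46.f431191 IH) (Lpr_cf (K11.f145709 IH) (Lpe (K7.f145685 IH) (Lpr_dt (K6.f145711 IH) (Lpr_gt (K6.f145723 IH) (Lpe (K6.f145513 IH) (Lpe (K5.f126620 IH) (Lpe (K6.f126625 IH) (Lpe (f155898 IH) (Lpn (LP (LK LD1_c4 LD2_c43 LD3_c22))))))))))))
theorem f431240 : Led Lsl_df (LP (LK LD1_c1 LD2_c29 LD3_c56)) = (LP (LK LD1_c2 LD2_c19 LD3_c25)) :=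
  Lgr Lrot12 (Lpr_bt (K11.f155461 IH) (Lpr_dt (f431193 IH) (Lpr_bt (K7.f155880 IH) (Lpn (LP (LK LD1_c2 LD2_c19 LD3_c25))))))
theorem f431251 : Led Lsl_et (LP (LK LD1_c2 LD2_c19 LD3_c21)) = (LP (LK LD1_c1 LD2_c6 LD3_c49)) :=
  Lre_e IH (LK LD1_c2 LD2_c19 LD3_c21) (LK LD1_c1 LD2_c6 LD3_c49) Lrfl Lrfl
theorem f150477 : Led Lsl_dt (LP (LK LD1_c2 LD2_c19 LD3_c21)) = (LP (LK LD1_c1 LD2_c6 LD3_c47)) :=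
  Lre_d IH (LK LD1_c2 LD2_c19 LD3_c21) (LK LD1_c1 LD2_c6 LD3_c47) Lrfl Lrfl
theorem f431252 : Led Lsl_dt (LP (LK LD1_c4 LD2_c43 LD3_c20)) = (LP (LK LD1_c2 LD2_c19 LD3_c20)) :=
  Lre_d IH (LK LD1_c4 LD2_c43 LD3_c20) (LK LD1_c2 LD2_c19 LD3_c20) Lrfl Lrfl
theorem f647375 : Led Lsl_et (LP (LK LD1_c4 LD2_c43 LD3_c20)) = v5399 :=
  Lgr Lrot122 (Lpr_dt (f431252 IH) (Lpr_gt (K51.f150479 IH) (Lpe (f150477 IH) (Lpr_et (f431251 IH) (Lpr_gt (K7.f120047 IH) (Lpe (f431240 IH) (Lpr_gt (K7.f104680 IH) (Lpe (f104678 IH) (Lpr_et (f152520 IH) (Lpr_gt (f647374 IH) (Lpn v5399)))))))))))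
def v13309 : LQ := Led Lsl_at (LP (LK LD1_c4 LD2_c43 LD3_c4))
theorem f702276 : Led Lsl_at (LP (LK LD1_c4 LD2_c43 LD3_c4)) = v13309 :=
  Lrfl
theorem f702277 : Led Lsl_af (LP (LK LD1_c4 LD2_c43 LD3_c4)) = v13309 :=
  Lgr Lrot0 (Lpr_at (f702276 IH) (Lpn v13309))
theorem f761157 : Led Lsl_df v13309 = v17628 :=
  Lgr Lrot18 (Lpe (f702277 IH) (Lpe (K57.f632550 IH) (Lpr_at (f761155 IH) (Lpn v17628))))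
theorem f761160 : Led Lsl_dt v13309 = v17628 :=
  Lgr Lrot42 (Lpr_df (f761157 IH) (Lpn v17628))
def v4304 : LQ := Led Lsl_gt (LP (LK LD1_c2 LD2_c19 LD3_c8))
theorem f632536 : Led Lsl_gt (LP (LK LD1_c2 LD2_c19 LD3_c8)) = v4304 :=
  Lrfl
theorem f210119 : Led Lsl_at (LP (LK LD1_c1 LD2_c6 LD3_c47)) = (LP (LK LD1_c2 LD2_c19 LD3_c8)) :=
  Lre_a IH (LK LD1_c1 LD2_c6 LD3_c47) (LK LD1_c2 LD2_c19 LD3_c8) Lrfl Lrfl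
theorem f153661 : Led Lsl_ft (LP (LK LD1_c2 LD2_c19 LD3_c22)) = (LP (LK LD1_c1 LD2_c6 LD3_c47)) :=
  Lre_f IH (LK LD1_c2 LD2_c19 LD3_c22) (LK LD1_c1 LD2_c6 LD3_c47) Lrfl Lrfl
theorem f632563 : Led Lsl_af (LP (LK LD1_c2 LD2_c19 LD3_c22)) = K51.v4306 :=
  Lgr Lrot45 (Lpr_ft (f153661 IH) (Lpr_at (f210119 IH) (Lpr_ft (K51.f632562 IH) (Lpn K51.v4306))))
theorem f632567 : Led Lsl_gt v4304 = (LP (LK LD1_c2 LD2_c19 LD3_c22)) :=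
  Lgr Lrot46 (Lpe (f632536 IH) (Lpr_ft (K51.f632562 IH) (Lpe (f632563 IH) (Lpn (LP (LK LD1_c2 LD2_c19 LD3_c22))))))
theorem f702278 : Led Lsl_ft v4304 = v13309 :=
  Lgr Lrot2 (Lpr_gt (f632567 IH) (Lpr_gt (K50.f150511 IH) (Lpr_af (f702277 IH) (Lpn v13309))))
theorem f702285 : Led Lsl_af v4304 = K58.v13312 :=
  Lgr Lrot45 (Lpr_ft (f702278 IH) (Lpe (f702277 IH) (Lpr_ft (K58.f702284 IH) (Lpn K58.v13312))))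
theorem f632619 : Led Lsl_at K51.v1305 = K58.v4317 :=
  Lgr Lrot66 (Lpr_ff (K51.f632613 IH) (Lpe (K51.f632609 IH) (Lpr_ff (K58.f632618 IH) (Lpn K58.v4317))))
theorem f771125 : v4304 = K58.v4317 :=
  Lefun (Lecon (Lfl_af (f702285 IH)) (f771122 IH)) (f632619 IH)
theorem f771128 : (LP (LK LD1_c2 LD2_c19 LD3_c20)) = v13309 :=
  Lefun (Lecon (Lfl_ff (K58.f632618 IH)) (f771125 IH).symm) (f702278 IH)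
theorem f771133 : v17628 = (LP (LK LD1_c4 LD2_c43 LD3_c20)) :=
  Lefun (Lecon (f761160 IH) (f771128 IH).symm) (K51.f632572 IH)
theorem f771136 : v5451 = v5399 :=
  Lefun (Lecon (Lfl_ef (f761158 IH)) (f771133 IH)) (f647375 IH)
def v1858 : LQ := Led Lsl_gf (LP (LK LD1_c1 LD2_c30 LD3_c9))
theorem f504606 : Led Lsl_gf (LP (LK LD1_c1 LD2_c30 LD3_c9)) = v1858 :=
  Lrfl
theorem f647704 : Led Lsl_ft v1858 = v5451 :=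
  Lgr Lrot2 (Lpe (f504606 IH) (Lpr_gt (K35.f131474 IH) (Lpr_af (f647700 IH) (Lpn v5451))))
theorem f647705 : Led Lsl_ff v1858 = v5451 :=
  Lgr Lrot3 (Lpr_ft (f647704 IH) (Lpn v5451))
def v5454 : LQ := Led Lsl_ft (LP (LK LD1_c3 LD2_c7 LD3_c59))
theorem f647710 : Led Lsl_ft (LP (LK LD1_c3 LD2_c7 LD3_c59)) = v5454 :=
  Lrfl
theorem f647712 : Led Lsl_ff (LP (LK LD1_c3 LD2_c7 LD3_c59)) = v5454 :=
  Lgr Lrot3 (Lpr_ft (f647710 IH) (Lpn v5454))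
theorem f647713 : Led Lsl_at v1858 = v5454 :=
  Lgr Lrot66 (Lpr_ff (f647705 IH) (Lpe (f647699 IH) (Lpr_ff (f647712 IH) (Lpn v5454))))
def v5402 : LQ := Led Lsl_ft (LP (LK LD1_c3 LD2_c7 LD3_c22))
theorem f647387 : Led Lsl_ft (LP (LK LD1_c3 LD2_c7 LD3_c22)) = v5402 :=
  Lrfl
theorem f435676 : Led Lsl_at (LP (LK LD1_c1 LD2_c30 LD3_c9)) = (LP (LK LD1_c3 LD2_c7 LD3_c22)) :=
  Lre_a IH (LK LD1_c1 LD2_c30 LD3_c9) (LK LD1_c3 LD2_c7 LD3_c22) Lrfl Lrfl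
def v1860 : LQ := Led Lsl_ft (LP (LK LD1_c1 LD2_c30 LD3_c9))
theorem f504614 : Led Lsl_ft (LP (LK LD1_c1 LD2_c30 LD3_c9)) = v1860 :=
  Lrfl
theorem f504617 : Led Lsl_ff (LP (LK LD1_c1 LD2_c30 LD3_c9)) = v1860 :=
  Lgr Lrot3 (Lpr_ft (f504614 IH) (Lpn v1860))
theorem f647388 : Led Lsl_af v1860 = v5402 :=
  Lgr Lrot45 (Lpe (f504617 IH) (Lpr_at (f435676 IH) (Lpr_ft (f647387 IH) (Lpn v5402))))
theorem f647391 : Led Lsl_gt v5399 = v1860 :=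
  Lgr Lrot46 (Lpe (f647374 IH) (Lpr_ft (f647387 IH) (Lpe (f647388 IH) (Lpn v1860))))
def v5400 : LQ := Led Lsl_gf (LP (LK LD1_c3 LD2_c7 LD3_c22))
theorem f647379 : Led Lsl_gf (LP (LK LD1_c3 LD2_c7 LD3_c22)) = v5400 :=
  Lrfl
theorem f647380 : Led Lsl_gt v1860 = v5400 :=
  Lgr Lrot5 (Lpe (f504617 IH) (Lpr_at (f435676 IH) (Lpr_gf (f647379 IH) (Lpn v5400))))
theorem f771137 : v5454 = v5400 :=
  (Llr Lrot26 (Lpe (f647713 IH) (Lpr_ff (f647705 IH) (Lpqs (f771136 IH) (Lpr_gt (f647391 IH) (Lpr_gt (f647380 IH) (Lpn v5400))))))).symm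
def v17625 : LQ := Led Lsl_ft (LP (LK LD1_c6 LD2_c20 LD3_c50))
theorem f761149 : Led Lsl_ft (LP (LK LD1_c6 LD2_c20 LD3_c50)) = v17625 :=
  Lrfl
theorem f647702 : Led Lsl_bt (LP (LK LD1_c3 LD2_c7 LD3_c59)) = (LP (LK LD1_c6 LD2_c20 LD3_c50)) :=
  Lre_b IH (LK LD1_c3 LD2_c7 LD3_c59) (LK LD1_c6 LD2_c20 LD3_c50) Lrfl Lrfl
theorem f761150 : Led Lsl_bf v5454 = v17625 :=
  Lgr Lrot61 (Lpe (f647712 IH) (Lpr_bt (f647702 IH) (Lpr_ft (f761149 IH) (Lpn v17625))))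
theorem f154048 : Led Lsl_bt (LP (LK LD1_c1 LD2_c30 LD3_c9)) = (LP (LK LD1_c0 LD2_c41 LD3_c48)) :=
  Lre_b IH (LK LD1_c1 LD2_c30 LD3_c9) (LK LD1_c0 LD2_c41 LD3_c48) Lrfl Lrfl
theorem f504618 : Led Lsl_bt (LP (LK LD1_c1 LD2_c30 LD3_c36)) = v1860 :=
  Lgr Lrot35 (Lpe (K32.f153567 IH) (Lpe (f154048 IH) (Lpr_ff (f504617 IH) (Lpn v1860))))
theorem f113304 : Led Lsl_gt (LP (LK LD1_c9 LD2_c28 LD3_c53)) = (LP (LK LD1_c4 LD2_c47 LD3_c61)) :=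
  Lre_g IH (LK LD1_c9 LD2_c28 LD3_c53) (LK LD1_c4 LD2_c47 LD3_c61) Lrfl Lrfl
theorem f771305 : Led Lsl_ct v17625 = (LP (LK LD1_c9 LD2_c28 LD3_c53)) :=
  Lgr Lrot64 (Lpe (f761150 IH) (Lpqs (f771137 IH) (Lpe (f647380 IH) (Lpe (f504618 IH) (Lpr_ct (K50.f153513 IH) (Lpr_gf (K32.f153526 IH) (Lpe (K32.f435399 IH) (Lpe (K24.f20124 IH) (Lpe (K6.f113158 IH) (Lpr_ct (K6.f113162 IH) (Lpe (f113304 IH) (Lpn (LP (LK LD1_c9 LD2_c28 LD3_c53))))))))))))))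
theorem f647396 : Led Lsl_ct (LP (LK LD1_c12 LD2_c15 LD3_c54)) = (LP (LK LD1_c6 LD2_c20 LD3_c50)) :=
  Lre_c IH (LK LD1_c12 LD2_c15 LD3_c54) (LK LD1_c6 LD2_c20 LD3_c50) Lrfl Lrfl
theorem f771308 : Led Lsl_ff (LP (LK LD1_c12 LD2_c15 LD3_c54)) = (LP (LK LD1_c9 LD2_c28 LD3_c53)) :=
  Lgr Lrot23 (Lpr_ct (f647396 IH) (Lpr_ft (f761149 IH) (Lpr_ct (f771305 IH) (Lpn (LP (LK LD1_c9 LD2_c28 LD3_c53))))))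
theorem f771309 : Led Lsl_ft (LP (LK LD1_c9 LD2_c28 LD3_c53)) = (LP (LK LD1_c12 LD2_c15 LD3_c54)) :=
  Leop (Lpr_ff (f771308 IH) (Lpn (LP (LK LD1_c9 LD2_c28 LD3_c53))))
theorem seed_1312 : LEOK LG_f (LK LD1_c9 LD2_c28 LD3_c53) :=
  Leoe_f (LK LD1_c9 LD2_c28 LD3_c53) (f771309 IH)
theorem f91327 : Led Lsl_ct (LP (LK LD1_c2 LD2_c20 LD3_c43)) = (LP (LK LD1_c4 LD2_c45 LD3_c8)) :=
  Lre_c IH (LK LD1_c2 LD2_c20 LD3_c43) (LK LD1_c4 LD2_c45 LD3_c8) Lrfl Lrfl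
def v13540 : LQ := Led Lsl_gt (LP (LK LD1_c4 LD2_c45 LD3_c8))
theorem f703509 : Led Lsl_gt (LP (LK LD1_c4 LD2_c45 LD3_c8)) = v13540 :=
  Lrfl
theorem f771421 : K58.v13620 = v13540 :=
  (Llr Lrot63 (Lpe (K58.f770910 IH) (Lpe (K58.f702436 IH) (Lpq (f771125 IH) (Lpr_gt (f632567 IH) (Lpe (K50.f150510 IH) (Lpe (K11.f150490 IH) (Lpr_gt (K17.f210113 IH) (Lpe (K16.f415424 IH) (Lpr_bt (K58.f415432 IH) (Lpr_gt (K58.f509216 IH) (Lpq (K58.f771021 IH) (Lpr_ct (f91327 IH) (Lpr_gt (f703509 IH) (Lpn v13540))))))))))))))).symm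
theorem f703943 : Led Lsl_ff (LP (LK LD1_c4 LD2_c46 LD3_c6)) = K58.v13620 :=
  Lgr Lrot3 (Lpr_ft (K58.f703942 IH) (Lpn K58.v13620))
def v13623 : LQ := Led Lsl_ft (LP (LK LD1_c4 LD2_c46 LD3_c5))
theorem f703949 : Led Lsl_ft (LP (LK LD1_c4 LD2_c46 LD3_c5)) = v13623 :=
  Lrfl
theorem f703951 : Led Lsl_ff (LP (LK LD1_c4 LD2_c46 LD3_c5)) = v13623 :=
  Lgr Lrot3 (Lpr_ft (f703949 IH) (Lpn v13623))
theorem f703952 : Led Lsl_at (LP (LK LD1_c4 LD2_c46 LD3_c6)) = v13623 :=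
  Lgr Lrot66 (Lpr_ff (f703943 IH) (Lpe (K58.f703939 IH) (Lpr_ff (f703951 IH) (Lpn v13623))))
theorem f113729 : Led Lsl_ft (LP (LK LD1_c4 LD2_c46 LD3_c8)) = (LP (LK LD1_c2 LD2_c21 LD3_c4)) :=
  Lre_f IH (LK LD1_c4 LD2_c46 LD3_c8) (LK LD1_c2 LD2_c21 LD3_c4) Lrfl Lrfl
theorem f703511 : Led Lsl_af (LP (LK LD1_c4 LD2_c46 LD3_c8)) = K58.v13541 :=
  Lgr Lrot45 (Lpr_ft (f113729 IH) (Lpe (K5.f133172 IH) (Lpr_ft (K58.f703510 IH) (Lpn K58.v13541))))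
theorem f703515 : Led Lsl_gt v13540 = (LP (LK LD1_c4 LD2_c46 LD3_c8)) :=
  Lgr Lrot46 (Lpe (f703509 IH) (Lpr_ft (K58.f703510 IH) (Lpe (f703511 IH) (Lpn (LP (LK LD1_c4 LD2_c46 LD3_c8))))))
theorem f91350 : Led Lsl_gt (LP (LK LD1_c9 LD2_c22 LD3_c57)) = (LP (LK LD1_c4 LD2_c45 LD3_c8)) :=
  Lre_g IH (LK LD1_c9 LD2_c22 LD3_c57) (LK LD1_c4 LD2_c45 LD3_c8) Lrfl Lrfl
theorem f133209 : Led Lsl_gf (LP (LK LD1_c9 LD2_c22 LD3_c57)) = (LP (LK LD1_c4 LD2_c46 LD3_c8)) :=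
  Lgr Lrot47 (Lpr_gt (f91350 IH) (Lpr_af (K5.f133172 IH) (Lpe (f113729 IH) (Lpn (LP (LK LD1_c4 LD2_c46 LD3_c8))))))
theorem f771422 : v13623 = (LP (LK LD1_c9 LD2_c22 LD3_c57)) :=
  (Llr Lrot26 (Lpe (f703952 IH) (Lpr_ff (f703943 IH) (Lpqs (f771421 IH) (Lpr_gt (f703515 IH) (Lpe (f133209 IH) (Lpn (LP (LK LD1_c9 LD2_c22 LD3_c57))))))))).symm
theorem f703950 : Led Lsl_af (LP (LK LD1_c4 LD2_c46 LD3_c6)) = v13623 :=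
  Lgr Lrot45 (Lpr_ft (K58.f703942 IH) (Lpe (K58.f703940 IH) (Lpr_ft (f703949 IH) (Lpn v13623))))
theorem f771423 : Led Lsl_at (LP (LK LD1_c9 LD2_c22 LD3_c57)) = (LP (LK LD1_c4 LD2_c46 LD3_c6)) :=
  Leop (Lpr_af (f703950 IH) (Lpqs (f771422 IH) (Lpn (LP (LK LD1_c9 LD2_c22 LD3_c57)))))
theorem seed_1313 : LEOK LG_a (LK LD1_c9 LD2_c22 LD3_c57) :=
  Leoe_a (LK LD1_c9 LD2_c22 LD3_c57) (f771423 IH)
theorem f771425 : Led Lsl_ft (LP (LK LD1_c9 LD2_c22 LD3_c57)) = (LP (LK LD1_c4 LD2_c46 LD3_c5)) :=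
  Leop (Lpr_ff (f703951 IH) (Lpqs (f771422 IH) (Lpn (LP (LK LD1_c9 LD2_c22 LD3_c57)))))
theorem seed_1314 : LEOK LG_f (LK LD1_c9 LD2_c22 LD3_c57) :=
  Leoe_f (LK LD1_c9 LD2_c22 LD3_c57) (f771425 IH)
def v6539 : LQ := Led Lsl_et (LP (LK LD1_c3 LD2_c23 LD3_c16))
theorem f653856 : Led Lsl_et (LP (LK LD1_c3 LD2_c23 LD3_c16)) = v6539 :=
  Lrfl
def v1881 : LQ := Led Lsl_gt (LP (LK LD1_c1 LD2_c30 LD3_c29))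
theorem f504770 : Led Lsl_gt (LP (LK LD1_c1 LD2_c30 LD3_c29)) = v1881 :=
  Lrfl
theorem f632410 : Led Lsl_gt v1881 = K46.v4288 :=
  Lgr Lrot46 (Lpe (f504770 IH) (Lpr_ft (K46.f504785 IH) (Lpqs (K46.f504864 IH) (Lpr_at (K46.f632405 IH) (Lpn K46.v4288)))))
theorem f69299 : Led Lsl_gt (LP (LK LD1_c1 LD2_c38 LD3_c1)) = (LP (LK LD1_c3 LD2_c23 LD3_c16)) :=
  Lre_g IH (LK LD1_c1 LD2_c38 LD3_c1) (LK LD1_c3 LD2_c23 LD3_c16) Lrfl Lrfl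
def v5496 : LQ := Led Lsl_ft (LP (LK LD1_c3 LD2_c8 LD3_c37))
theorem f647942 : Led Lsl_ft (LP (LK LD1_c3 LD2_c8 LD3_c37)) = v5496 :=
  Lrfl
def v5493 : LQ := Led Lsl_at (LP (LK LD1_c3 LD2_c8 LD3_c37))
theorem f647933 : Led Lsl_at (LP (LK LD1_c3 LD2_c8 LD3_c37)) = v5493 :=
  Lrfl
theorem f647934 : Led Lsl_af (LP (LK LD1_c3 LD2_c8 LD3_c37)) = v5493 :=
  Lgr Lrot0 (Lpr_at (f647933 IH) (Lpn v5493))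
theorem f647935 : Led Lsl_ft v1881 = v5493 :=
  Lgr Lrot2 (Lpr_gt (f632410 IH) (Lpe (K57.f632413 IH) (Lpr_af (f647934 IH) (Lpn v5493))))
theorem f647943 : Led Lsl_af v1881 = v5496 :=
  Lgr Lrot45 (Lpr_ft (f647935 IH) (Lpe (f647934 IH) (Lpr_ft (f647942 IH) (Lpn v5496))))
def v17589 : LQ := Led Lsl_ft (LP (LK LD1_c6 LD2_c20 LD3_c36))
theorem f761018 : Led Lsl_ft (LP (LK LD1_c6 LD2_c20 LD3_c36)) = v17589 :=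
  Lrfl
theorem f761020 : Led Lsl_ff (LP (LK LD1_c6 LD2_c20 LD3_c36)) = v17589 :=
  Lgr Lrot3 (Lpr_ft (f761018 IH) (Lpn v17589))
theorem f761932 : Led Lsl_bf v17589 = v5496 :=
  Lgr Lrot61 (Lpe (f761020 IH) (Lpr_bt (K57.f761010 IH) (Lpqs (K57.f761925 IH) (Lpr_ft (f647942 IH) (Lpn v5496)))))
theorem f761933 : Led Lsl_bt v17589 = v5496 :=
  Lgr Lrot127 (Lpr_bf (f761932 IH) (Lpn v5496))
def v17584 : LQ := Led Lsl_at (LP (LK LD1_c6 LD2_c20 LD3_c36))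
theorem f761006 : Led Lsl_at (LP (LK LD1_c6 LD2_c20 LD3_c36)) = v17584 :=
  Lrfl
theorem f761007 : Led Lsl_af (LP (LK LD1_c6 LD2_c20 LD3_c36)) = v17584 :=
  Lgr Lrot0 (Lpr_at (f761006 IH) (Lpn v17584))
def v5429 : LQ := Led Lsl_gf (LP (LK LD1_c3 LD2_c7 LD3_c52))
theorem f647594 : Led Lsl_gf (LP (LK LD1_c3 LD2_c7 LD3_c52)) = v5429 :=
  Lrfl
theorem f761008 : Led Lsl_ft v5429 = v17584 :=
  Lgr Lrot2 (Lpe (f647594 IH) (Lpr_gt (K57.f444009 IH) (Lpr_af (f761007 IH) (Lpn v17584))))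
theorem f761009 : Led Lsl_ff v5429 = v17584 :=
  Lgr Lrot3 (Lpr_ft (f761008 IH) (Lpn v17584))
theorem f761021 : Led Lsl_at v5429 = v17589 :=
  Lgr Lrot66 (Lpr_ff (f761009 IH) (Lpe (f761006 IH) (Lpr_ff (f761020 IH) (Lpn v17589))))
def v17623 : LQ := Led Lsl_gf (LP (LK LD1_c6 LD2_c20 LD3_c50))
theorem f761142 : Led Lsl_gf (LP (LK LD1_c6 LD2_c20 LD3_c50)) = v17623 :=
  Lrfl
theorem f444020 : Led Lsl_ct (LP (LK LD1_c6 LD2_c20 LD3_c50)) = (LP (LK LD1_c12 LD2_c15 LD3_c54)) :=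
  Lre_c IH (LK LD1_c6 LD2_c20 LD3_c50) (LK LD1_c12 LD2_c15 LD3_c54) Lrfl Lrfl
def v13786 : LQ := Led Lsl_ft (LP (LK LD1_c4 LD2_c47 LD3_c61))
theorem f704828 : Led Lsl_ft (LP (LK LD1_c4 LD2_c47 LD3_c61)) = v13786 :=
  Lrfl
theorem f704830 : Led Lsl_ff (LP (LK LD1_c4 LD2_c47 LD3_c61)) = v13786 :=
  Lgr Lrot3 (Lpr_ft (f704828 IH) (Lpn v13786))
theorem f113145 : Led Lsl_ct (LP (LK LD1_c4 LD2_c47 LD3_c61)) = (LP (LK LD1_c2 LD2_c21 LD3_c52)) :=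
  Lre_c IH (LK LD1_c4 LD2_c47 LD3_c61) (LK LD1_c2 LD2_c21 LD3_c52) Lrfl Lrfl
theorem f704831 : Led Lsl_ct (LP (LK LD1_c4 LD2_c48 LD3_c0)) = v13786 :=
  Lgr Lrot40 (Lpe (K51.f113165 IH) (Lpe (f113145 IH) (Lpr_ff (f704830 IH) (Lpn v13786))))
theorem f416992 : Led Lsl_bt (LP (LK LD1_c0 LD2_c41 LD3_c48)) = (LP (LK LD1_c1 LD2_c30 LD3_c9)) :=
  Lre_b IH (LK LD1_c0 LD2_c41 LD3_c48) (LK LD1_c1 LD2_c30 LD3_c9) Lrfl Lrfl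
theorem f444019 : Led Lsl_bt (LP (LK LD1_c6 LD2_c20 LD3_c50)) = (LP (LK LD1_c3 LD2_c7 LD3_c59)) :=
  Lre_b IH (LK LD1_c6 LD2_c20 LD3_c50) (LK LD1_c3 LD2_c7 LD3_c59) Lrfl Lrfl
theorem f704833 : Led Lsl_gt (LP (LK LD1_c12 LD2_c15 LD3_c54)) = v13786 :=
  Lgr Lrot65 (Lpe (f444020 IH) (Lpr_bt (f444019 IH) (Lpe (K35.f131474 IH) (Lpe (f416992 IH) (Lpr_ct (K11.f153496 IH) (Lpe (K29.f154645 IH) (Lpe (K50.f444005 IH) (Lpe (K35.f135636 IH) (Lpe (K32.f143878 IH) (Lpr_ct (f704831 IH) (Lpn v13786)))))))))))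
theorem f704829 : Led Lsl_cf (LP (LK LD1_c4 LD2_c48 LD3_c0)) = v13786 :=
  Lgr Lrot108 (Lpr_ft (K6.f113150 IH) (Lpr_ct (K6.f113162 IH) (Lpr_ft (f704828 IH) (Lpn v13786))))
theorem f143886 : Led Lsl_dt (LP (LK LD1_c2 LD2_c21 LD3_c53)) = (LP (LK LD1_c4 LD2_c48 LD3_c0)) :=
  Lre_d IH (LK LD1_c2 LD2_c21 LD3_c53) (LK LD1_c4 LD2_c48 LD3_c0) Lrfl Lrfl
theorem f761144 : Led Lsl_df v5429 = v17623 :=
  Lgr Lrot155 (Lpe (f647594 IH) (Lpr_ct (K46.f419112 IH) (Lpe (K57.f444007 IH) (Lpr_ct (K6.f92108 IH) (Lpr_dt (f143886 IH) (Lpr_cf (f704829 IH) (Lpe (f704833 IH) (Lpe (f444020 IH) (Lpr_gf (f761142 IH) (Lpn v17623))))))))))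
theorem f62283 : Led Lsl_dt (LP (LK LD1_c6 LD2_c59 LD3_c2)) = (LP (LK LD1_c3 LD2_c28 LD3_c35)) :=
  Lre_d IH (LK LD1_c6 LD2_c59 LD3_c2) (LK LD1_c3 LD2_c28 LD3_c35) Lrfl Lrfl
theorem f632553 : Led Lsl_bt (LP (LK LD1_c6 LD2_c20 LD3_c51)) = (LP (LK LD1_c12 LD2_c15 LD3_c55)) :=
  Lre_b IH (LK LD1_c6 LD2_c20 LD3_c51) (LK LD1_c12 LD2_c15 LD3_c55) Lrfl Lrfl
theorem f632554 : Led Lsl_dt (LP (LK LD1_c12 LD2_c15 LD3_c55)) = (LP (LK LD1_c6 LD2_c43 LD3_c31)) :=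
  Lgr Lrot79 (Lpe (f632553 IH) (Lpr_df (K57.f632550 IH) (Lpe (K50.f435305 IH) (Lpn (LP (LK LD1_c6 LD2_c43 LD3_c31))))))
theorem f632559 : Led Lsl_et (LP (LK LD1_c12 LD2_c15 LD3_c55)) = (LP (LK LD1_c6 LD2_c20 LD3_c50)) :=
  Lre_e IH (LK LD1_c12 LD2_c15 LD3_c55) (LK LD1_c6 LD2_c20 LD3_c50) Lrfl Lrfl
theorem f90386 : Led Lsl_et (LP (LK LD1_c3 LD2_c28 LD3_c37)) = (LP (LK LD1_c6 LD2_c59 LD3_c2)) :=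
  Lre_e IH (LK LD1_c3 LD2_c28 LD3_c37) (LK LD1_c6 LD2_c59 LD3_c2) Lrfl Lrfl
theorem f771432 : v17623 = (LP (LK LD1_c6 LD2_c59 LD3_c2)) :=
  (Llr Lrot141 (Lpe (f761142 IH) (Lpe (f632559 IH) (Lpr_dt (f632554 IH) (Lpqs (K58.f771123 IH) (Lpe (K58.f653868 IH) (Lpe (K3.f83899 IH) (Lpe (K3.f83806 IH) (Lpe (K7.f145725 IH) (Lpr_dt (K11.f133812 IH) (Lpr_gt (K6.f62327 IH) (Lpe (K3.f76785 IH) (Lpr_et (f90386 IH) (Lpn (LP (LK LD1_c6 LD2_c59 LD3_c2)))))))))))))))).symm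
theorem f771434 : v5429 = (LP (LK LD1_c3 LD2_c28 LD3_c35)) :=
  Lefun (Lecon (Lfl_df (f761144 IH)) (f771432 IH)) (f62283 IH)
theorem f771445 : v17589 = (LP (LK LD1_c6 LD2_c49 LD3_c31)) :=
  Lefun (Lecon (f761021 IH) (f771434 IH)) (K3.f90462 IH)
theorem f771451 : v5496 = (LP (LK LD1_c3 LD2_c23 LD3_c2)) :=
  Lefun (Lecon (f761933 IH) (f771445 IH)) (K3.f90466 IH)
theorem f771452 : v1881 = (LP (LK LD1_c1 LD2_c38 LD3_c1)) :=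
  Lefun (Lecon (Lfl_af (f647943 IH)) (f771451 IH)) (Lfl_af (K3.f93283 IH))
theorem f771460 : K46.v4288 = (LP (LK LD1_c3 LD2_c23 LD3_c16)) :=
  Lefun (Lecon (f632410 IH) (f771452 IH)) (f69299 IH)
theorem f771500 : (LP (LK LD1_c6 LD2_c30 LD3_c8)) = v6539 :=
  Lefun (Lecon (Lfl_ef (K46.f632408 IH)) (f771460 IH)) (f653856 IH)
theorem f653997 : (LP (LK LD1_c3 LD2_c23 LD3_c9)) = K46.v2228 :=
  Lefun (Lecon (Lfl_ff (K51.f653813 IH)) (K46.f653990 IH).symm) (K46.f509756 IH)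
theorem f654227 : Led Lsl_ft (LP (LK LD1_c6 LD2_c50 LD3_c46)) = K58.v6532 :=
  Lgr Lrot86 (Lpe (K58.f76846 IH) (Lpr_ff (K58.f654225 IH) (Lpe (K56.f93233 IH) (Lpr_ff (K46.f509758 IH) (Lpq (f653997 IH) (Lpr_ef (K58.f653826 IH) (Lpn K58.v6532)))))))
theorem f653857 : Led Lsl_ef (LP (LK LD1_c3 LD2_c23 LD3_c16)) = v6539 :=
  Lgr Lrot88 (Lpr_et (f653856 IH) (Lpn v6539))
theorem f90583 : Led Lsl_et (LP (LK LD1_c0 LD2_c45 LD3_c27)) = (LP (LK LD1_c1 LD2_c38 LD3_c1)) :=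
  Lre_e IH (LK LD1_c0 LD2_c45 LD3_c27) (LK LD1_c1 LD2_c38 LD3_c1) Lrfl Lrfl
theorem f85150 : Led Lsl_et (LP (LK LD1_c3 LD2_c44 LD3_c48)) = (LP (LK LD1_c1 LD2_c49 LD3_c29)) :=
  Lre_e IH (LK LD1_c3 LD2_c44 LD3_c48) (LK LD1_c1 LD2_c49 LD3_c29) Lrfl Lrfl
theorem f85153 : Led Lsl_df (LP (LK LD1_c3 LD2_c44 LD3_c48)) = (LP (LK LD1_c3 LD2_c44 LD3_c48)) :=
  Lgr Lrot70 (Lpr_et (f85150 IH) (Lpr_dt (K2.f66444 IH) (Lpr_et (K2.f85067 IH) (Lpr_dt (K5.f85151 IH) (Lpr_et (K2.f85152 IH) (Lpn (LP (LK LD1_c3 LD2_c44 LD3_c48))))))))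
theorem f85155 : Led Lsl_bt (LP (LK LD1_c3 LD2_c44 LD3_c48)) = (LP (LK LD1_c1 LD2_c49 LD3_c31)) :=
  Lre_b IH (LK LD1_c3 LD2_c44 LD3_c48) (LK LD1_c1 LD2_c49 LD3_c31) Lrfl Lrfl
theorem f85157 : Led Lsl_dt (LP (LK LD1_c1 LD2_c49 LD3_c31)) = (LP (LK LD1_c1 LD2_c49 LD3_c31)) :=
  Lgr Lrot79 (Lpe (f85155 IH) (Lpr_df (f85153 IH) (Lpe (K2.f85156 IH) (Lpn (LP (LK LD1_c1 LD2_c49 LD3_c31))))))
def v2607 : LQ := Led Lsl_gf (LP (LK LD1_c1 LD2_c49 LD3_c31))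
theorem f527759 : Led Lsl_gf (LP (LK LD1_c1 LD2_c49 LD3_c31)) = v2607 :=
  Lrfl
theorem f653858 : Led Lsl_df v2607 = v6539 :=
  Lgr Lrot170 (Lpe (f527759 IH) (Lpe (f85157 IH) (Lpr_et (K2.f85166 IH) (Lpr_gt (K2.f90598 IH) (Lpr_dt (K2.f66803 IH) (Lpr_gt (K2.f66808 IH) (Lpe (K2.f90561 IH) (Lpr_et (f90583 IH) (Lpr_gt (f69299 IH) (Lpr_ef (f653857 IH) (Lpn v6539)))))))))))
theorem f653860 : Led Lsl_gt (LP (LK LD1_c6 LD2_c50 LD3_c46)) = v6539 :=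
  Lgr Lrot137 (Lpe (K58.f76846 IH) (Lpr_dt (K58.f76823 IH) (Lpe (K46.f76877 IH) (Lpr_df (K2.f76859 IH) (Lpr_et (K2.f66922 IH) (Lpe (K2.f90598 IH) (Lpe (K2.f85166 IH) (Lpr_dt (f85157 IH) (Lpr_gf (f527759 IH) (Lpr_df (f653858 IH) (Lpn v6539)))))))))))
theorem f654240 : Led Lsl_gt v6539 = (LP (LK LD1_c3 LD2_c23 LD3_c54)) :=
  Lgr Lrot46 (Lpe (f653860 IH) (Lpr_ft (f654227 IH) (Lpr_at (K58.f654235 IH) (Lpn (LP (LK LD1_c3 LD2_c23 LD3_c54))))))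
theorem f771544 : Led Lsl_gt (LP (LK LD1_c6 LD2_c30 LD3_c8)) = (LP (LK LD1_c3 LD2_c23 LD3_c54)) :=
  Leop (Lpe (f654240 IH) (Lpq (f771500 IH) (Lpn (LP (LK LD1_c6 LD2_c30 LD3_c8)))))
theorem seed_1315 : LEOK LG_g (LK LD1_c6 LD2_c30 LD3_c8) :=
  Leoe_g (LK LD1_c6 LD2_c30 LD3_c8) (f771544 IH)
def v17763 : LQ := Led Lsl_at (LP (LK LD1_c6 LD2_c21 LD3_c61))
theorem f762078 : Led Lsl_at (LP (LK LD1_c6 LD2_c21 LD3_c61)) = v17763 :=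
  Lrfl
def v18244 : LQ := Led Lsl_dt (LP (LK LD1_c6 LD2_c27 LD3_c41))
theorem f765729 : Led Lsl_dt (LP (LK LD1_c6 LD2_c27 LD3_c41)) = v18244 :=
  Lrfl
theorem f765730 : Led Lsl_df (LP (LK LD1_c6 LD2_c27 LD3_c41)) = v18244 :=
  Lgr Lrot38 (Lpr_dt (f765729 IH) (Lpn v18244))
theorem f90592 : Led Lsl_df (LP (LK LD1_c6 LD2_c50 LD3_c54)) = (LP (LK LD1_c12 LD2_c26 LD3_c32)) :=
  Lgr Lrot38 (Lpr_dt (K2.f90590 IH) (Lpn (LP (LK LD1_c12 LD2_c26 LD3_c32))))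
theorem f765760 : Led Lsl_ff v18244 = (LP (LK LD1_c6 LD2_c50 LD3_c54)) :=
  Lgr Lrot19 (Lpe (f765730 IH) (Lpr_ft (K57.f765734 IH) (Lpq (K57.f765754 IH) (Lpe (f90592 IH) (Lpn (LP (LK LD1_c6 LD2_c50 LD3_c54)))))))
theorem f765761 : Led Lsl_ft v18244 = (LP (LK LD1_c6 LD2_c50 LD3_c54)) :=
  Lgr Lrot48 (Lpr_ff (f765760 IH) (Lpn (LP (LK LD1_c6 LD2_c50 LD3_c54))))
theorem f762079 : Led Lsl_af (LP (LK LD1_c6 LD2_c21 LD3_c61)) = v17763 :=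
  Lgr Lrot0 (Lpr_at (f762078 IH) (Lpn v17763))
def v17743 : LQ := Led Lsl_ft (LP (LK LD1_c6 LD2_c21 LD3_c53))
theorem f761989 : Led Lsl_ft (LP (LK LD1_c6 LD2_c21 LD3_c53)) = v17743 :=
  Lrfl
theorem f761992 : Led Lsl_ff (LP (LK LD1_c6 LD2_c21 LD3_c53)) = v17743 :=
  Lgr Lrot3 (Lpr_ft (f761989 IH) (Lpn v17743))
theorem f504816 : Led Lsl_at (LP (LK LD1_c6 LD2_c21 LD3_c53)) = (LP (LK LD1_c3 LD2_c8 LD3_c41)) :=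
  Lre_a IH (LK LD1_c6 LD2_c21 LD3_c53) (LK LD1_c3 LD2_c8 LD3_c41) Lrfl Lrfl
theorem f633544 : Led Lsl_gt (LP (LK LD1_c6 LD2_c21 LD3_c61)) = (LP (LK LD1_c3 LD2_c8 LD3_c41)) :=
  Lre_g IH (LK LD1_c6 LD2_c21 LD3_c61) (LK LD1_c3 LD2_c8 LD3_c41) Lrfl Lrfl
theorem f761996 : Led Lsl_gf (LP (LK LD1_c6 LD2_c21 LD3_c61)) = v17743 :=
  Lgr Lrot47 (Lpr_gt (f633544 IH) (Lpe (f504816 IH) (Lpr_ff (f761992 IH) (Lpn v17743))))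
def v5500 : LQ := Led Lsl_ft (LP (LK LD1_c3 LD2_c8 LD3_c41))
theorem f647956 : Led Lsl_ft (LP (LK LD1_c3 LD2_c8 LD3_c41)) = v5500 :=
  Lrfl
theorem f761994 : Led Lsl_at v5500 = v17743 :=
  Lgr Lrot66 (Lpe (f647956 IH) (Lpe (f504816 IH) (Lpr_ff (f761992 IH) (Lpn v17743))))
def v5499 : LQ := Led Lsl_gt (LP (LK LD1_c3 LD2_c8 LD3_c41))
theorem f647955 : Led Lsl_gt (LP (LK LD1_c3 LD2_c8 LD3_c41)) = v5499 :=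
  Lrfl
theorem f761998 : Led Lsl_gt v5499 = v17743 :=
  Lgr Lrot46 (Lpe (f647955 IH) (Lpr_ft (f647956 IH) (Lpr_at (f761994 IH) (Lpn v17743))))
theorem f762080 : Led Lsl_ft v5499 = v17763 :=
  Lgr Lrot2 (Lpr_gt (f761998 IH) (Lpe (f761996 IH) (Lpr_af (f762079 IH) (Lpn v17763))))
def v18432 : LQ := Led Lsl_dt (LP (LK LD1_c6 LD2_c29 LD3_c36))
theorem f766935 : Led Lsl_dt (LP (LK LD1_c6 LD2_c29 LD3_c36)) = v18432 :=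
  Lrfl
theorem f68216 : Led Lsl_et (LP (LK LD1_c6 LD2_c19 LD3_c6)) = (LP (LK LD1_c3 LD2_c6 LD3_c57)) :=
  Lre_e IH (LK LD1_c6 LD2_c19 LD3_c6) (LK LD1_c3 LD2_c6 LD3_c57) Lrfl Lrfl
def v17436 : LQ := Led Lsl_dt (LP (LK LD1_c6 LD2_c19 LD3_c6))
theorem f759808 : Led Lsl_dt (LP (LK LD1_c6 LD2_c19 LD3_c6)) = v17436 :=
  Lrfl
theorem f759809 : Led Lsl_df (LP (LK LD1_c6 LD2_c19 LD3_c6)) = v17436 :=
  Lgr Lrot38 (Lpr_dt (f759808 IH) (Lpn v17436))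
theorem f766939 : Led Lsl_ef v17436 = v18432 :=
  Lgr Lrot73 (Lpe (f759809 IH) (Lpr_et (f68216 IH) (Lpr_dt (K51.f66991 IH) (Lpr_et (K2.f90584 IH) (Lpr_dt (f766935 IH) (Lpn v18432))))))
theorem f766938 : Led Lsl_df (LP (LK LD1_c6 LD2_c29 LD3_c36)) = v18432 :=
  Lgr Lrot38 (Lpr_dt (f766935 IH) (Lpn v18432))
theorem f68162 : Led Lsl_df (LP (LK LD1_c3 LD2_c12 LD3_c47)) = (LP (LK LD1_c6 LD2_c27 LD3_c30)) :=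
  Lgr Lrot70 (Lpr_et (K1.f66749 IH) (Lpr_dt (K2.f66658 IH) (Lpr_et (K2.f68156 IH) (Lpr_dt (K2.f68069 IH) (Lpr_et (K2.f68015 IH) (Lpn (LP (LK LD1_c6 LD2_c27 LD3_c30))))))))
def v2224 : LQ := Led Lsl_gf (LP (LK LD1_c1 LD2_c38 LD3_c1))
theorem f509745 : Led Lsl_gf (LP (LK LD1_c1 LD2_c38 LD3_c1)) = v2224 :=
  Lrfl
def v8833 : LQ := Led Lsl_dt v2224
theorem f672442 : Led Lsl_dt v2224 = v8833 :=
  Lrfl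
theorem f672443 : Led Lsl_df v2224 = v8833 :=
  Lgr Lrot38 (Lpr_dt (f672442 IH) (Lpn v8833))
theorem f766948 : Led Lsl_gt v17436 = v8833 :=
  Lgr Lrot137 (Lpr_ef (f766939 IH) (Lpe (f766938 IH) (Lpe (K2.f66750 IH) (Lpr_df (f68162 IH) (Lpr_et (K2.f68061 IH) (Lpr_gf (K2.f90612 IH) (Lpe (K58.f93345 IH) (Lpr_dt (K58.f90569 IH) (Lpr_gf (f509745 IH) (Lpr_df (f672443 IH) (Lpn v8833)))))))))))
theorem f66896 : Led Lsl_ft (LP (LK LD1_c3 LD2_c12 LD3_c47)) = (LP (LK LD1_c6 LD2_c29 LD3_c38)) :=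
  Lre_f IH (LK LD1_c3 LD2_c12 LD3_c47) (LK LD1_c6 LD2_c29 LD3_c38) Lrfl Lrfl
theorem f66897 : Led Lsl_ef (LP (LK LD1_c6 LD2_c19 LD3_c1)) = (LP (LK LD1_c6 LD2_c29 LD3_c38)) :=
  Lgr Lrot21 (Lpr_ft (K2.f66895 IH) (Lpr_et (K2.f66894 IH) (Lpr_ft (K1.f66891 IH) (Lpr_et (K2.f66742 IH) (Lpr_ft (f66896 IH) (Lpn (LP (LK LD1_c6 LD2_c29 LD3_c38))))))))
theorem f68195 : Led Lsl_gt (LP (LK LD1_c6 LD2_c27 LD3_c41)) = (LP (LK LD1_c12 LD2_c26 LD3_c33)) :=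
  Lre_g IH (LK LD1_c6 LD2_c27 LD3_c41) (LK LD1_c12 LD2_c26 LD3_c33) Lrfl Lrfl
def v8834 : LQ := Led Lsl_et v2224
theorem f672444 : Led Lsl_et v2224 = v8834 :=
  Lrfl
theorem f766949 : Led Lsl_gf v18244 = v8834 :=
  Lgr Lrot138 (Lpe (f765730 IH) (Lpr_gt (f68195 IH) (Lpe (K2.f68187 IH) (Lpe (f66897 IH) (Lpr_gt (K2.f66990 IH) (Lpe (f68216 IH) (Lpr_dt (f759808 IH) (Lpr_gt (f766948 IH) (Lpe (f672442 IH) (Lpr_et (f672444 IH) (Lpn v8834)))))))))))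
theorem f504784 : Led Lsl_et (LP (LK LD1_c1 LD2_c30 LD3_c29)) = (LP (LK LD1_c3 LD2_c8 LD3_c41)) :=
  Lre_e IH (LK LD1_c1 LD2_c30 LD3_c29) (LK LD1_c3 LD2_c8 LD3_c41) Lrfl Lrfl
theorem f771462 : (LP (LK LD1_c1 LD2_c30 LD3_c29)) = v2224 :=
  Lefun (Lecon (Lfl_gt (f504770 IH)) (f771452 IH)) (f509745 IH)
theorem f771509 : v8834 = (LP (LK LD1_c3 LD2_c8 LD3_c41)) :=
  Lefun (Lecon (f672444 IH) (f771462 IH).symm) (f504784 IH)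
theorem f771548 : v18244 = v5499 :=
  Lefun (Lecon (Lfl_gf (f766949 IH)) (f771509 IH)) (f647955 IH)
theorem f771578 : (LP (LK LD1_c6 LD2_c50 LD3_c54)) = v17763 :=
  Lefun (Lecon (f765761 IH) (f771548 IH)) (f762080 IH)
theorem f771596 : Led Lsl_at (LP (LK LD1_c6 LD2_c21 LD3_c61)) = (LP (LK LD1_c6 LD2_c50 LD3_c54)) :=
  Leop (Lpqs (f771578 IH) (Lpe (f762078 IH) (Lpn (LP (LK LD1_c6 LD2_c21 LD3_c61)))))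
theorem seed_1316 : LEOK LG_a (LK LD1_c6 LD2_c21 LD3_c61) :=
  Leoe_a (LK LD1_c6 LD2_c21 LD3_c61) (f771596 IH)
theorem f26298 : Led Lsl_gt (LP (LK LD1_c4 LD2_c43 LD3_c48)) = (LP (LK LD1_c9 LD2_c20 LD3_c38)) :=
  Lre_g IH (LK LD1_c4 LD2_c43 LD3_c48) (LK LD1_c9 LD2_c20 LD3_c38) Lrfl Lrfl
theorem f654325 : Led Lsl_dt K58.v6587 = K58.v2606 :=
  Lgr Lrot42 (Lpr_df (K58.f654324 IH) (Lpn K58.v2606))
theorem f26294 : Led Lsl_dt (LP (LK LD1_c4 LD2_c43 LD3_c47)) = (LP (LK LD1_c2 LD2_c19 LD3_c41)) :=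
  Lre_d IH (LK LD1_c4 LD2_c43 LD3_c47) (LK LD1_c2 LD2_c19 LD3_c41) Lrfl Lrfl
def v13415 : LQ := Led Lsl_gf (LP (LK LD1_c4 LD2_c43 LD3_c47))
theorem f702820 : Led Lsl_gf (LP (LK LD1_c4 LD2_c43 LD3_c47)) = v13415 :=
  Lrfl
def v13416 : LQ := Led Lsl_at (LP (LK LD1_c4 LD2_c43 LD3_c47))
theorem f702821 : Led Lsl_at (LP (LK LD1_c4 LD2_c43 LD3_c47)) = v13416 :=
  Lrfl
theorem f505718 : Led Lsl_ft (LP (LK LD1_c2 LD2_c19 LD3_c41)) = (LP (LK LD1_c1 LD2_c32 LD3_c61)) :=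
  Lgr Lrot48 (Lpr_ff (K58.f505714 IH) (Lpn (LP (LK LD1_c1 LD2_c32 LD3_c61))))
theorem f82749 : Led Lsl_dt (LP (LK LD1_c1 LD2_c32 LD3_c61)) = (LP (LK LD1_c3 LD2_c13 LD3_c10)) :=
  Lre_d IH (LK LD1_c1 LD2_c32 LD3_c61) (LK LD1_c3 LD2_c13 LD3_c10) Lrfl Lrfl
theorem f505721 : Led Lsl_ff (LP (LK LD1_c4 LD2_c43 LD3_c47)) = (LP (LK LD1_c3 LD2_c13 LD3_c10)) :=
  Lgr Lrot19 (Lpr_dt (f26294 IH) (Lpr_ft (f505718 IH) (Lpr_dt (f82749 IH) (Lpn (LP (LK LD1_c3 LD2_c13 LD3_c10))))))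
theorem f702825 : Led Lsl_ff (LP (LK LD1_c6 LD2_c30 LD3_c8)) = v13416 :=
  Lgr Lrot30 (Lpr_at (K46.f82765 IH) (Lpe (f505721 IH) (Lpr_at (f702821 IH) (Lpn v13416))))
theorem f702829 : Led Lsl_ft (LP (LK LD1_c6 LD2_c30 LD3_c8)) = v13416 :=
  Lgr Lrot48 (Lpr_ff (f702825 IH) (Lpn v13416))
theorem f702822 : Led Lsl_af (LP (LK LD1_c4 LD2_c43 LD3_c47)) = v13416 :=
  Lgr Lrot0 (Lpr_at (f702821 IH) (Lpn v13416))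
theorem f702831 : Led Lsl_gt (LP (LK LD1_c6 LD2_c30 LD3_c8)) = v13415 :=
  Lgr Lrot5 (Lpr_ft (f702829 IH) (Lpe (f702822 IH) (Lpr_gf (f702820 IH) (Lpn v13415))))
theorem f771543 : (LP (LK LD1_c3 LD2_c23 LD3_c54)) = v13415 :=
  Lefun (Lecon (f654240 IH) (f771500 IH).symm) (f702831 IH)
theorem f771566 : (LP (LK LD1_c4 LD2_c43 LD3_c47)) = K58.v6587 :=
  Lefun (Lecon (Lfl_gf (f702820 IH)) (f771543 IH).symm) (K58.f654313 IH)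
theorem f771590 : K58.v2606 = (LP (LK LD1_c2 LD2_c19 LD3_c41)) :=
  Lefun (Lecon (f654325 IH) (f771566 IH).symm) (f26294 IH)
theorem f771642 : K58.v9323 = (LP (LK LD1_c4 LD2_c43 LD3_c48)) :=
  Lefun (Lecon (K58.f675380 IH) (f771590 IH)) (K58.f26293 IH)
theorem f771703 : K58.v18434 = (LP (LK LD1_c9 LD2_c20 LD3_c38)) :=
  Lefun (Lecon (K58.f767049 IH) (f771642 IH)) (f26298 IH)
theorem f771704 : Led Lsl_at (LP (LK LD1_c9 LD2_c20 LD3_c38)) = (LP (LK LD1_c6 LD2_c29 LD3_c49)) :=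
  Leop (Lpr_af (K58.f766959 IH) (Lpqs (f771703 IH) (Lpn (LP (LK LD1_c9 LD2_c20 LD3_c38)))))
theorem seed_1317 : LEOK LG_a (LK LD1_c9 LD2_c20 LD3_c38) :=
  Leoe_a (LK LD1_c9 LD2_c20 LD3_c38) (f771704 IH)
def v7202 : LQ := Led Lsl_ft (LP (LK LD1_c3 LD2_c42 LD3_c3))
theorem f662258 : Led Lsl_ft (LP (LK LD1_c3 LD2_c42 LD3_c3)) = v7202 :=
  Lrfl
theorem f701226 : Led Lsl_bt v7202 = K58.v13121 :=
  Lgr Lrot35 (Lpe (f662258 IH) (Lpe (K5.f114991 IH) (Lpr_ff (K58.f701225 IH) (Lpn K58.v13121))))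
def v18573 : LQ := Led Lsl_ft (LP (LK LD1_c6 LD2_c30 LD3_c49))
theorem f767505 : Led Lsl_ft (LP (LK LD1_c6 LD2_c30 LD3_c49)) = v18573 :=
  Lrfl
theorem f767508 : Led Lsl_ff (LP (LK LD1_c6 LD2_c30 LD3_c49)) = v18573 :=
  Lgr Lrot3 (Lpr_ft (f767505 IH) (Lpn v18573))
theorem f767510 : Led Lsl_ct v7202 = v18573 :=
  Lgr Lrot40 (Lpe (f662258 IH) (Lpr_cf (K58.f124602 IH) (Lpr_ff (f767508 IH) (Lpn v18573))))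
theorem f769925 : Led Lsl_gt v18573 = (LP (LK LD1_c6 LD2_c41 LD3_c60)) :=
  Lgr Lrot5 (Lpe (f767508 IH) (Lpe (K5.f124622 IH) (Lpr_gf (K58.f769923 IH) (Lpn (LP (LK LD1_c6 LD2_c41 LD3_c60))))))
def v17561 : LQ := Led Lsl_gf (LP (LK LD1_c6 LD2_c20 LD3_c29))
theorem f760912 : Led Lsl_gf (LP (LK LD1_c6 LD2_c20 LD3_c29)) = v17561 :=
  Lrfl
theorem f760913 : Led Lsl_gt K57.v6217 = v17561 :=
  Lgr Lrot5 (Lpe (K57.f652133 IH) (Lpr_at (K57.f652115 IH) (Lpqs (K57.f663763 IH) (Lpr_gf (f760912 IH) (Lpn v17561)))))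
def v17281 : LQ := Led Lsl_gt (LP (LK LD1_c6 LD2_c17 LD3_c17))
theorem f758128 : Led Lsl_gt (LP (LK LD1_c6 LD2_c17 LD3_c17)) = v17281 :=
  Lrfl
theorem f758132 : Led Lsl_af K58.v13121 = K58.v17283 :=
  Lgr Lrot45 (Lpe (K58.f701225 IH) (Lpe (K5.f115020 IH) (Lpr_ft (K58.f758131 IH) (Lpn K58.v17283))))
theorem f758137 : Led Lsl_gt v17281 = K58.v13121 :=
  Lgr Lrot46 (Lpe (f758128 IH) (Lpr_ft (K58.f758131 IH) (Lpe (f758132 IH) (Lpn K58.v13121))))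
theorem f770160 : (LP (LK LD1_c6 LD2_c19 LD3_c43)) = v17281 :=
  Lefun (Lecon (Lfl_gf (K58.f760032 IH)) (K58.f770158 IH)) (f758128 IH)
theorem f435536 : Led Lsl_ct (LP (LK LD1_c3 LD2_c7 LD3_c20)) = (LP (LK LD1_c6 LD2_c19 LD3_c44)) :=
  Lre_c IH (LK LD1_c3 LD2_c7 LD3_c20) (LK LD1_c6 LD2_c19 LD3_c44) Lrfl Lrfl
def v17484 : LQ := Led Lsl_gf (LP (LK LD1_c6 LD2_c19 LD3_c44))
theorem f760051 : Led Lsl_gf (LP (LK LD1_c6 LD2_c19 LD3_c44)) = v17484 :=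
  Lrfl
theorem f770354 : Led Lsl_ct v17561 = v17484 :=
  Lgr Lrot91 (Lpe (f760913 IH) (Lpqs (K57.f663698 IH) (Lpe (K57.f647584 IH) (Lpr_ct (K46.f139848 IH) (Lpe (f769925 IH) (Lpe (f767510 IH) (Lpr_bt (f701226 IH) (Lpe (f758137 IH) (Lpq (f770160 IH) (Lpe (K57.f623811 IH) (Lpr_ct (f435536 IH) (Lpr_gf (f760051 IH) (Lpn v17484)))))))))))))
theorem f647613 : Led Lsl_ct K46.v1855 = K46.v5432 :=
  Lgr Lrot59 (Lpr_cf (K46.f647612 IH) (Lpn K46.v5432))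
theorem f707828 : K46.v5432 = (LP (LK LD1_c6 LD2_c19 LD3_c44)) :=
  Lefun (Lecon (f647613 IH) (K57.f707817 IH)) (f435536 IH)
theorem f760052 : Led Lsl_gt K46.v5434 = v17484 :=
  Lgr Lrot5 (Lpe (K57.f647629 IH) (Lpr_at (K46.f647610 IH) (Lpqs (f707828 IH) (Lpr_gf (f760051 IH) (Lpn v17484)))))
theorem f68369 : Led Lsl_bt (LP (LK LD1_c1 LD2_c8 LD3_c6)) = (LP (LK LD1_c2 LD2_c21 LD3_c54)) :=
  Lre_b IH (LK LD1_c1 LD2_c8 LD3_c6) (LK LD1_c2 LD2_c21 LD3_c54) Lrfl Lrfl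
def v4460 : LQ := Led Lsl_gf (LP (LK LD1_c2 LD2_c21 LD3_c54))
theorem f633511 : Led Lsl_gf (LP (LK LD1_c2 LD2_c21 LD3_c54)) = v4460 :=
  Lrfl
theorem f770357 : Led Lsl_bt v17561 = v4460 :=
  Lgr Lrot22 (Lpr_ct (f770354 IH) (Lpe (f760052 IH) (Lpqs (K57.f707797 IH) (Lpe (K57.f204628 IH) (Lpe (K57.f153666 IH) (Lpe (K57.f153573 IH) (Lpr_ct (K50.f204495 IH) (Lpr_gf (K32.f204250 IH) (Lpe (K32.f435403 IH) (Lpr_bt (f68369 IH) (Lpr_gf (f633511 IH) (Lpn v4460))))))))))))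
theorem f770358 : Led Lsl_bf v17561 = v4460 :=
  Lgr Lrot24 (Lpr_bt (f770357 IH) (Lpn v4460))
theorem f118528 : Led Lsl_bt (LP (LK LD1_c1 LD2_c34 LD3_c46)) = (LP (LK LD1_c3 LD2_c15 LD3_c58)) :=
  Lre_b IH (LK LD1_c1 LD2_c34 LD3_c46) (LK LD1_c3 LD2_c15 LD3_c58) Lrfl Lrfl
theorem f68455 : Led Lsl_ct (LP (LK LD1_c4 LD2_c48 LD3_c1)) = (LP (LK LD1_c2 LD2_c21 LD3_c54)) :=
  Lre_c IH (LK LD1_c4 LD2_c48 LD3_c1) (LK LD1_c2 LD2_c21 LD3_c54) Lrfl Lrfl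
def v13788 : LQ := Led Lsl_gf (LP (LK LD1_c4 LD2_c48 LD3_c1))
theorem f704839 : Led Lsl_gf (LP (LK LD1_c4 LD2_c48 LD3_c1)) = v13788 :=
  Lrfl
theorem f68445 : Led Lsl_ct (LP (LK LD1_c2 LD2_c21 LD3_c54)) = (LP (LK LD1_c4 LD2_c48 LD3_c1)) :=
  Lre_c IH (LK LD1_c2 LD2_c21 LD3_c54) (LK LD1_c4 LD2_c48 LD3_c1) Lrfl Lrfl
theorem f68379 : Led Lsl_bt (LP (LK LD1_c2 LD2_c21 LD3_c54)) = (LP (LK LD1_c1 LD2_c8 LD3_c6)) :=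
  Lre_b IH (LK LD1_c2 LD2_c21 LD3_c54) (LK LD1_c1 LD2_c8 LD3_c6) Lrfl Lrfl
def v8191 : LQ := Led Lsl_bt v1881
theorem f670292 : Led Lsl_bt v1881 = v8191 :=
  Lrfl
theorem f670293 : Led Lsl_bf v1881 = v8191 :=
  Lgr Lrot24 (Lpr_bt (f670292 IH) (Lpn v8191))
theorem f704840 : Led Lsl_ct v8191 = v13788 :=
  Lgr Lrot64 (Lpe (f670293 IH) (Lpe (f504770 IH) (Lpe (K57.f79862 IH) (Lpr_ct (K32.f79851 IH) (Lpe (K31.f146034 IH) (Lpe (K6.f139833 IH) (Lpr_gf (K32.f146055 IH) (Lpe (f68379 IH) (Lpr_ct (f68445 IH) (Lpr_gf (f704839 IH) (Lpn v13788)))))))))))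
theorem f69287 : Led Lsl_cf (LP (LK LD1_c3 LD2_c16 LD3_c9)) = (LP (LK LD1_c3 LD2_c23 LD3_c11)) :=
  Lgr Lrot11 (Lpr_ct (K3.f69282 IH) (Lpn (LP (LK LD1_c3 LD2_c23 LD3_c11))))
theorem f771464 : v8191 = (LP (LK LD1_c3 LD2_c23 LD3_c11)) :=
  Lefun (Lecon (f670292 IH) (f771452 IH)) (K3.f69310 IH)
theorem f771510 : v13788 = (LP (LK LD1_c3 LD2_c16 LD3_c9)) :=
  Lefun (Lecon (f704840 IH) (f771464 IH)) (Lfl_cf (f69287 IH))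
theorem f771549 : (LP (LK LD1_c4 LD2_c48 LD3_c1)) = K56.v6004 :=
  Lefun (Lecon (Lfl_gf (f704839 IH)) (f771510 IH)) (K56.f650488 IH)
theorem f771584 : K46.v2078 = (LP (LK LD1_c2 LD2_c21 LD3_c54)) :=
  Lefun (Lecon (Lfl_cf (K56.f650684 IH)) ((K56.f754655 IH).symm.trans (f771549 IH).symm)) (f68455 IH)
theorem f771608 : (LP (LK LD1_c1 LD2_c34 LD3_c46)) = v4460 :=
  Lefun (Lecon (Lfl_gt (K46.f508684 IH)) ((K46.f651829 IH).symm.trans (f771584 IH))) (f633511 IH)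
theorem f771665 : v17561 = (LP (LK LD1_c3 LD2_c15 LD3_c58)) :=
  Lefun (Lecon (Lfl_bf (f770358 IH)) (f771608 IH).symm) (f118528 IH)
theorem f771754 : Led Lsl_gt (LP (LK LD1_c3 LD2_c15 LD3_c58)) = (LP (LK LD1_c6 LD2_c20 LD3_c29)) :=
  Leop (Lpr_gf (f760912 IH) (Lpqs (f771665 IH) (Lpn (LP (LK LD1_c3 LD2_c15 LD3_c58)))))
theorem seed_1318 : LEOK LG_g (LK LD1_c3 LD2_c15 LD3_c58) :=
  Leoe_g (LK LD1_c3 LD2_c15 LD3_c58) (f771754 IH)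
def v17113 : LQ := Led Lsl_gf (LP (LK LD1_c6 LD2_c11 LD3_c38))
theorem f755211 : Led Lsl_gf (LP (LK LD1_c6 LD2_c11 LD3_c38)) = v17113 :=
  Lrfl
theorem f753929 : Led Lsl_af (LP (LK LD1_c6 LD2_c11 LD3_c38)) = K57.v16977 :=
  Lgr Lrot117 (Lpr_dt (K56.f114006 IH) (Lpr_at (K48.f646741 IH) (Lpqs (K48.f663351 IH) (Lpr_dt (K57.f753928 IH) (Lpn K57.v16977)))))
theorem f753932 : Led Lsl_ff (LP (LK LD1_c6 LD2_c11 LD3_c41)) = K57.v16977 :=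
  Lgr Lrot19 (Lpr_dt (K56.f114400 IH) (Lpr_ft (K50.f646743 IH) (Lpqs (K48.f663351 IH) (Lpr_dt (K57.f753928 IH) (Lpn K57.v16977)))))
theorem f753937 : Led Lsl_ft (LP (LK LD1_c6 LD2_c11 LD3_c41)) = K57.v16977 :=
  Lgr Lrot48 (Lpr_ff (f753932 IH) (Lpn K57.v16977))
theorem f755212 : Led Lsl_gt (LP (LK LD1_c6 LD2_c11 LD3_c41)) = v17113 :=
  Lgr Lrot5 (Lpr_ft (f753937 IH) (Lpe (f753929 IH) (Lpr_gf (f755211 IH) (Lpn v17113))))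
def v6258 : LQ := Led Lsl_bt (LP (LK LD1_c3 LD2_c19 LD3_c33))
theorem f652341 : Led Lsl_bt (LP (LK LD1_c3 LD2_c19 LD3_c33)) = v6258 :=
  Lrfl
theorem f416893 : Led Lsl_ct (LP (LK LD1_c6 LD2_c22 LD3_c10)) = (LP (LK LD1_c3 LD2_c8 LD3_c47)) :=
  Lre_c IH (LK LD1_c6 LD2_c22 LD3_c10) (LK LD1_c3 LD2_c8 LD3_c47) Lrfl Lrfl
theorem f503497 : Led Lsl_af (LP (LK LD1_c6 LD2_c12 LD3_c52)) = (LP (LK LD1_c6 LD2_c17 LD3_c52)) :=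
  Lgr Lrot0 (Lpr_at (K48.f503495 IH) (Lpn (LP (LK LD1_c6 LD2_c17 LD3_c52))))
theorem f79736 : Led Lsl_ct (LP (LK LD1_c3 LD2_c8 LD3_c47)) = (LP (LK LD1_c6 LD2_c22 LD3_c10)) :=
  Lre_c IH (LK LD1_c3 LD2_c8 LD3_c47) (LK LD1_c6 LD2_c22 LD3_c10) Lrfl Lrfl
theorem f438602 : Led Lsl_gf (LP (LK LD1_c6 LD2_c12 LD3_c52)) = (LP (LK LD1_c6 LD2_c22 LD3_c10)) :=
  Lgr Lrot104 (Lpr_ct (K48.f146110 IH) (Lpe (K32.f23293 IH) (Lpr_cf (K52.f438599 IH) (Lpr_gf (K32.f73620 IH) (Lpe (K2.f73512 IH) (Lpr_gf (K9.f79734 IH) (Lpe (K32.f67110 IH) (Lpr_gt (K9.f67308 IH) (Lpr_ct (f79736 IH) (Lpn (LP (LK LD1_c6 LD2_c22 LD3_c10))))))))))))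
theorem f57640 : Led Lsl_ct (LP (LK LD1_c6 LD2_c17 LD3_c52)) = (LP (LK LD1_c3 LD2_c6 LD3_c7)) :=
  Lre_c IH (LK LD1_c6 LD2_c17 LD3_c52) (LK LD1_c3 LD2_c6 LD3_c7) Lrfl Lrfl
theorem f503392 : Led Lsl_ft (LP (LK LD1_c6 LD2_c12 LD3_c48)) = (LP (LK LD1_c6 LD2_c17 LD3_c52)) :=
  Lgr Lrot4 (Lpe (K32.f20113 IH) (Lpr_ff (K32.f503388 IH) (Lpe (f57640 IH) (Lpn (LP (LK LD1_c6 LD2_c17 LD3_c52))))))
theorem f503500 : Led Lsl_gf (LP (LK LD1_c6 LD2_c22 LD3_c10)) = (LP (LK LD1_c6 LD2_c12 LD3_c48)) :=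
  Lgr Lrot47 (Lpe (f438602 IH) (Lpr_af (f503497 IH) (Lpe (f503392 IH) (Lpn (LP (LK LD1_c6 LD2_c12 LD3_c48))))))
theorem f507015 : Led Lsl_df (LP (LK LD1_c3 LD2_c19 LD3_c33)) = (LP (LK LD1_c4 LD2_c48 LD3_c37)) :=
  Lgr Lrot155 (Lpr_gt (K35.f507007 IH) (Lpr_ct (K32.f415650 IH) (Lpe (K35.f438597 IH) (Lpr_ct (K32.f79844 IH) (Lpr_dt (K9.f67307 IH) (Lpe (f416893 IH) (Lpr_gf (f503500 IH) (Lpe (K32.f20113 IH) (Lpe (K35.f438695 IH) (Lpn (LP (LK LD1_c4 LD2_c48 LD3_c37))))))))))))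
theorem f417098 : Led Lsl_bt (LP (LK LD1_c9 LD2_c29 LD3_c46)) = (LP (LK LD1_c4 LD2_c48 LD3_c37)) :=
  Lre_b IH (LK LD1_c9 LD2_c29 LD3_c46) (LK LD1_c4 LD2_c48 LD3_c37) Lrfl Lrfl
theorem f652343 : Led Lsl_df (LP (LK LD1_c9 LD2_c29 LD3_c46)) = v6258 :=
  Lgr Lrot12 (Lpr_bt (f417098 IH) (Lpe (f507015 IH) (Lpr_bt (f652341 IH) (Lpn v6258))))
theorem f23887 : Led Lsl_dt (LP (LK LD1_c3 LD2_c2 LD3_c23)) = (LP (LK LD1_c6 LD2_c11 LD3_c38)) :=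
  Lre_d IH (LK LD1_c3 LD2_c2 LD3_c23) (LK LD1_c6 LD2_c11 LD3_c38) Lrfl Lrfl
theorem f646726 : Led Lsl_ff K46.v1788 = K48.v5235 :=
  Lgr Lrot3 (Lpr_ft (K49.f646725 IH) (Lpn K48.v5235))
theorem f646732 : Led Lsl_at K46.v1788 = K49.v5236 :=
  Lgr Lrot66 (Lpr_ff (f646726 IH) (Lpe (K48.f646721 IH) (Lpr_ff (K49.f646730 IH) (Lpn K49.v5236))))
theorem f651734 : Led Lsl_gt K35.v3168 = (LP (LK LD1_c6 LD2_c10 LD3_c18)) :=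
  Lgr Lrot139 (Lpe (K56.f624504 IH) (Lpe (K32.f453865 IH) (Lpe (K24.f453906 IH) (Lpe (K49.f453922 IH) (Lpqs (K46.f624122 IH) (Lpr_gf (K49.f624164 IH) (Lpe (K46.f624033 IH) (Lpr_et (K46.f624038 IH) (Lpr_gf (K46.f651732 IH) (Lpe (K49.f441160 IH) (Lpr_dt (K49.f103214 IH) (Lpn (LP (LK LD1_c6 LD2_c10 LD3_c18))))))))))))))
theorem f663278 : Led Lsl_gt K48.v5235 = K35.v3168 :=
  Lgr Lrot5 (Lpe (f646726 IH) (Lpr_at (f646732 IH) (Lpqs (K49.f663219 IH) (Lpe (f651734 IH) (Lpn K35.v3168)))))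
def v6174 : LQ := Led Lsl_et (LP (LK LD1_c3 LD2_c18 LD3_c39))
theorem f651640 : Led Lsl_et (LP (LK LD1_c3 LD2_c18 LD3_c39)) = v6174 :=
  Lrfl
theorem f651641 : Led Lsl_ef (LP (LK LD1_c3 LD2_c18 LD3_c39)) = v6174 :=
  Lgr Lrot88 (Lpr_et (f651640 IH) (Lpn v6174))
theorem f755215 : Led Lsl_dt v6174 = v17113 :=
  Lgr Lrot136 (Lpe (f651641 IH) (Lpe (K35.f62129 IH) (Lpe (K35.f62123 IH) (Lpr_dt (K32.f62098 IH) (Lpe (K32.f508997 IH) (Lpr_df (K35.f624111 IH) (Lpe (f663278 IH) (Lpqs (K48.f663197 IH) (Lpe (K48.f646486 IH) (Lpr_dt (f23887 IH) (Lpr_gf (f755211 IH) (Lpn v17113))))))))))))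
def v2131 : LQ := Led Lsl_bt (LP (LK LD1_c1 LD2_c36 LD3_c10))
theorem f509149 : Led Lsl_bt (LP (LK LD1_c1 LD2_c36 LD3_c10)) = v2131 :=
  Lrfl
theorem f509150 : Led Lsl_bf (LP (LK LD1_c1 LD2_c36 LD3_c10)) = v2131 :=
  Lgr Lrot24 (Lpr_bt (f509149 IH) (Lpn v2131))
theorem f652345 : Led Lsl_ff v2131 = v6258 :=
  Lgr Lrot25 (Lpe (f509150 IH) (Lpr_ft (K32.f443999 IH) (Lpr_bt (f652341 IH) (Lpn v6258))))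
def v551 : LQ := Led Lsl_bt (LP (LK LD1_c0 LD2_c44 LD3_c34))
theorem f453953 : Led Lsl_bt (LP (LK LD1_c0 LD2_c44 LD3_c34)) = v551 :=
  Lrfl
theorem f453954 : Led Lsl_bf (LP (LK LD1_c0 LD2_c44 LD3_c34)) = v551 :=
  Lgr Lrot24 (Lpr_bt (f453953 IH) (Lpn v551))
theorem f509151 : Led Lsl_ef v551 = v2131 :=
  Lgr Lrot29 (Lpe (f453954 IH) (Lpr_et (K32.f415410 IH) (Lpr_bt (f509149 IH) (Lpn v2131))))
theorem f507819 : Led Lsl_ff v551 = (LP (LK LD1_c2 LD2_c21 LD3_c54)) :=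
  Lgr Lrot25 (Lpe (f453954 IH) (Lpq (K32.f506940 IH) (Lpe (K32.f495110 IH) (Lpr_bt (f68369 IH) (Lpn (LP (LK LD1_c2 LD2_c21 LD3_c54)))))))
theorem f507820 : Led Lsl_ft v551 = (LP (LK LD1_c2 LD2_c21 LD3_c54)) :=
  Lgr Lrot48 (Lpr_ff (f507819 IH) (Lpn (LP (LK LD1_c2 LD2_c21 LD3_c54))))
theorem f68368 : Led Lsl_bt (LP (LK LD1_c3 LD2_c14 LD3_c31)) = (LP (LK LD1_c1 LD2_c33 LD3_c47)) :=
  Lre_b IH (LK LD1_c3 LD2_c14 LD3_c31) (LK LD1_c1 LD2_c33 LD3_c47) Lrfl Lrfl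
theorem f68370 : Led Lsl_ef (LP (LK LD1_c3 LD2_c14 LD3_c31)) = (LP (LK LD1_c2 LD2_c21 LD3_c54)) :=
  Lgr Lrot29 (Lpr_bt (f68368 IH) (Lpr_et (K24.f68363 IH) (Lpr_bt (f68369 IH) (Lpn (LP (LK LD1_c2 LD2_c21 LD3_c54))))))
def v2202 : LQ := Led Lsl_bt (LP (LK LD1_c1 LD2_c37 LD3_c13))
theorem f509651 : Led Lsl_bt (LP (LK LD1_c1 LD2_c37 LD3_c13)) = v2202 :=
  Lrfl
theorem f506937 : Led Lsl_dt K32.v510 = K32.v2022 :=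
  Lgr Lrot42 (Lpr_df (K32.f506934 IH) (Lpn K32.v2022))
theorem f507026 : K32.v2022 = (LP (LK LD1_c1 LD2_c37 LD3_c13)) :=
  Lefun (Lecon (f506937 IH) (K35.f507017 IH)) (Lfl_df (K24.f414552 IH))
theorem f509654 : Led Lsl_ff (LP (LK LD1_c3 LD2_c14 LD3_c31)) = v2202 :=
  Lgr Lrot25 (Lpr_bt (f68368 IH) (Lpr_ft (K32.f506938 IH) (Lpqs (f507026 IH) (Lpr_bt (f509651 IH) (Lpn v2202)))))
theorem f509656 : Led Lsl_ft (LP (LK LD1_c3 LD2_c14 LD3_c31)) = v2202 :=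
  Lgr Lrot48 (Lpr_ff (f509654 IH) (Lpn v2202))
theorem f652347 : Led Lsl_et v2202 = v6258 :=
  Lgr Lrot69 (Lpe (f509656 IH) (Lpr_ef (f68370 IH) (Lpe (f507820 IH) (Lpr_ef (f509151 IH) (Lpr_ff (f652345 IH) (Lpn v6258))))))
theorem f771612 : K46.v3147 = (LP (LK LD1_c3 LD2_c14 LD3_c31)) :=
  Lefun (Lecon (K56.f624037 IH) ((K46.f651829 IH).symm.trans (f771584 IH))) (Lfl_ef (f68370 IH))
theorem f771699 : K46.v5967 = v2202 :=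
  Lefun (Lecon (K46.f650299 IH) (f771612 IH)) (f509656 IH)
theorem f771793 : v6258 = v6174 :=
  Lefun (Lecon (f652347 IH) ((f771699 IH).symm.trans (K46.f651810 IH))) (f651640 IH)
theorem f771854 : (LP (LK LD1_c9 LD2_c29 LD3_c46)) = v17113 :=
  Lefun (Lecon (Lfl_df (f652343 IH)) (f771793 IH)) (f755215 IH)
theorem f771856 : Led Lsl_gt (LP (LK LD1_c6 LD2_c11 LD3_c41)) = (LP (LK LD1_c9 LD2_c29 LD3_c46)) :=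
  Leop (Lpqs (f771854 IH) (Lpe (f755212 IH) (Lpn (LP (LK LD1_c6 LD2_c11 LD3_c41)))))
theorem seed_1319 : LEOK LG_g (LK LD1_c6 LD2_c11 LD3_c41) :=
  Leoe_g (LK LD1_c6 LD2_c11 LD3_c41) (f771856 IH)
def v2023 : LQ := Led Lsl_gt (LP (LK LD1_c1 LD2_c33 LD3_c46))
def v8392 : LQ := Led Lsl_bt v2023
theorem f671095 : Led Lsl_bt v2023 = v8392 :=
  Lrfl
theorem f671096 : Led Lsl_bf v2023 = v8392 :=
  Lgr Lrot24 (Lpr_bt (f671095 IH) (Lpn v8392))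
theorem f507821 : Led Lsl_gt (LP (LK LD1_c1 LD2_c33 LD3_c46)) = v2023 :=
  Lrfl
theorem f452300 : Led Lsl_cf (LP (LK LD1_c2 LD2_c15 LD3_c27)) = K11.v343 :=
  Lgr Lrot108 (Lpr_ft (K50.f82897 IH) (Lpr_ct (K4.f26355 IH) (Lpr_ft (K11.f452298 IH) (Lpn K11.v343))))
theorem f452311 : Led Lsl_bt (LP (LK LD1_c1 LD2_c32 LD3_c57)) = (LP (LK LD1_c0 LD2_c43 LD3_c0)) :=
  Lre_b IH (LK LD1_c1 LD2_c32 LD3_c57) (LK LD1_c0 LD2_c43 LD3_c0) Lrfl Lrfl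
theorem f452316 : Led Lsl_ct (LP (LK LD1_c1 LD2_c32 LD3_c57)) = (LP (LK LD1_c3 LD2_c12 LD3_c58)) :=
  Lre_c IH (LK LD1_c1 LD2_c32 LD3_c57) (LK LD1_c3 LD2_c12 LD3_c58) Lrfl Lrfl
def v5761 : LQ := Led Lsl_gf (LP (LK LD1_c3 LD2_c12 LD3_c58))
theorem f649244 : Led Lsl_gf (LP (LK LD1_c3 LD2_c12 LD3_c58)) = v5761 :=
  Lrfl
theorem f671097 : Led Lsl_cf v5761 = v8392 :=
  Lgr Lrot160 (Lpe (f649244 IH) (Lpe (f452316 IH) (Lpr_bt (f452311 IH) (Lpr_gt (K11.f452308 IH) (Lpe (f452300 IH) (Lpr_gt (K50.f443042 IH) (Lpe (K0.f23782 IH) (Lpr_bt (K58.f82906 IH) (Lpr_gt (f507821 IH) (Lpr_bf (f671096 IH) (Lpn v8392)))))))))))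
theorem f65490 : Led Lsl_ct (LP (LK LD1_c1 LD2_c34 LD3_c19)) = (LP (LK LD1_c3 LD2_c15 LD3_c18)) :=
  Lre_c IH (LK LD1_c1 LD2_c34 LD3_c19) (LK LD1_c3 LD2_c15 LD3_c18) Lrfl Lrfl
theorem f65465 : Led Lsl_bt (LP (LK LD1_c0 LD2_c43 LD3_c57)) = (LP (LK LD1_c1 LD2_c34 LD3_c19)) :=
  Lre_b IH (LK LD1_c0 LD2_c43 LD3_c57) (LK LD1_c1 LD2_c34 LD3_c19) Lrfl Lrfl
theorem f68437 : Led Lsl_dt (LP (LK LD1_c3 LD2_c14 LD3_c31)) = (LP (LK LD1_c1 LD2_c33 LD3_c46)) :=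
  Lre_d IH (LK LD1_c3 LD2_c14 LD3_c31) (LK LD1_c1 LD2_c33 LD3_c46) Lrfl Lrfl
theorem f771698 : K46.v531 = (LP (LK LD1_c1 LD2_c33 LD3_c46)) :=
  Lefun (Lecon (Lfl_df (K46.f624034 IH)) (f771612 IH)) (f68437 IH)
theorem f771785 : (LP (LK LD1_c0 LD2_c43 LD3_c57)) = v2023 :=
  Lefun (Lecon (Lfl_gf (K46.f453808 IH)) (f771698 IH)) (f507821 IH)
theorem f771839 : v8392 = (LP (LK LD1_c1 LD2_c34 LD3_c19)) :=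
  Lefun (Lecon (f671095 IH) (f771785 IH).symm) (f65465 IH)
theorem f771927 : v5761 = (LP (LK LD1_c3 LD2_c15 LD3_c18)) :=
  Lefun (Lecon (Lfl_cf (f671097 IH)) (f771839 IH)) (f65490 IH)
theorem f771974 : Led Lsl_gt (LP (LK LD1_c3 LD2_c15 LD3_c18)) = (LP (LK LD1_c3 LD2_c12 LD3_c58)) :=
  Leop (Lpr_gf (f649244 IH) (Lpqs (f771927 IH) (Lpn (LP (LK LD1_c3 LD2_c15 LD3_c18)))))
theorem seed_1320 : LEOK LG_g (LK LD1_c3 LD2_c15 LD3_c18) :=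
  Leoe_g (LK LD1_c3 LD2_c15 LD3_c18) (f771974 IH)
def v17011 : LQ := Led Lsl_gt (LP (LK LD1_c6 LD2_c10 LD3_c26))
theorem f754332 : Led Lsl_gt (LP (LK LD1_c6 LD2_c10 LD3_c26)) = v17011 :=
  Lrfl
def v5856 : LQ := Led Lsl_gt (LP (LK LD1_c3 LD2_c14 LD3_c17))
theorem f649838 : Led Lsl_gt (LP (LK LD1_c3 LD2_c14 LD3_c17)) = v5856 :=
  Lrfl
def v17013 : LQ := Led Lsl_ft (LP (LK LD1_c6 LD2_c10 LD3_c26))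
theorem f754335 : Led Lsl_ft (LP (LK LD1_c6 LD2_c10 LD3_c26)) = v17013 :=
  Lrfl
theorem f129639 : Led Lsl_at (LP (LK LD1_c3 LD2_c1 LD3_c53)) = (LP (LK LD1_c6 LD2_c10 LD3_c26)) :=
  Lre_a IH (LK LD1_c3 LD2_c1 LD3_c53) (LK LD1_c6 LD2_c10 LD3_c26) Lrfl Lrfl
def v5201 : LQ := Led Lsl_ft (LP (LK LD1_c3 LD2_c1 LD3_c53))
theorem f646510 : Led Lsl_ft (LP (LK LD1_c3 LD2_c1 LD3_c53)) = v5201 :=
  Lrfl
theorem f646513 : Led Lsl_ff (LP (LK LD1_c3 LD2_c1 LD3_c53)) = v5201 :=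
  Lgr Lrot3 (Lpr_ft (f646510 IH) (Lpn v5201))
theorem f754336 : Led Lsl_af v5201 = v17013 :=
  Lgr Lrot45 (Lpe (f646513 IH) (Lpr_at (f129639 IH) (Lpr_ft (f754335 IH) (Lpn v17013))))
theorem f754340 : Led Lsl_gt v17011 = v5201 :=
  Lgr Lrot46 (Lpe (f754332 IH) (Lpr_ft (f754335 IH) (Lpe (f754336 IH) (Lpn v5201))))
def v4392 : LQ := Led Lsl_gf (LP (LK LD1_c2 LD2_c20 LD3_c27))
theorem f633111 : Led Lsl_gf (LP (LK LD1_c2 LD2_c20 LD3_c27)) = v4392 :=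
  Lrfl
theorem f770362 : K58.v3085 = v4392 :=
  Lefun (Lecon (Lfl_gt (K58.f677695 IH)) (K58.f770360 IH)) (f633111 IH)
theorem f506898 : Led Lsl_bt (LP (LK LD1_c1 LD2_c33 LD3_c40)) = (LP (LK LD1_c3 LD2_c14 LD3_c17)) :=
  Lre_b IH (LK LD1_c1 LD2_c33 LD3_c40) (LK LD1_c3 LD2_c14 LD3_c17) Lrfl Lrfl
theorem f770748 : K58.v8397 = v5856 :=
  (Llr Lrot125 (Lpe (K58.f671111 IH) (Lpr_gt (K58.f649085 IH) (Lpe (K58.f623806 IH) (Lpr_bt (K58.f623804 IH) (Lpqs (f770362 IH) (Lpe (f633111 IH) (Lpr_bf (K58.f527236 IH) (Lpr_ct (K58.f649717 IH) (Lpq (K58.f770743 IH) (Lpe (K58.f649854 IH) (Lpe (K58.f22733 IH) (Lpr_bt (f506898 IH) (Lpr_gt (f649838 IH) (Lpn v5856))))))))))))))).symm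
theorem f130793 : Led Lsl_bt (LP (LK LD1_c3 LD2_c1 LD3_c53)) = (LP (LK LD1_c1 LD2_c27 LD3_c0)) :=
  Lre_b IH (LK LD1_c3 LD2_c1 LD3_c53) (LK LD1_c1 LD2_c27 LD3_c0) Lrfl Lrfl
theorem f646514 : Led Lsl_bt (LP (LK LD1_c3 LD2_c1 LD3_c58)) = v5201 :=
  Lgr Lrot35 (Lpe (K35.f130788 IH) (Lpe (f130793 IH) (Lpr_ff (f646513 IH) (Lpn v5201))))
theorem f771787 : (LP (LK LD1_c3 LD2_c1 LD3_c58)) = K58.v2024 :=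
  Lefun (Lecon (Lfl_gt (K49.f453809 IH)) (f771698 IH)) (K58.f507822 IH)
theorem f771843 : K58.v8397 = v5201 :=
  Lefun (Lecon (K58.f671109 IH) (f771787 IH).symm) (f646514 IH)
theorem f771928 : (LP (LK LD1_c3 LD2_c14 LD3_c17)) = v17011 :=
  Lefun (Lecon (Lfl_gt (f649838 IH)) ((f770748 IH).symm.trans (f771843 IH))) (Lfl_gt (f754340 IH))
theorem f771976 : Led Lsl_gt (LP (LK LD1_c6 LD2_c10 LD3_c26)) = (LP (LK LD1_c3 LD2_c14 LD3_c17)) :=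
  Leop (Lpqs (f771928 IH) (Lpe (f754332 IH) (Lpn (LP (LK LD1_c6 LD2_c10 LD3_c26)))))
theorem seed_1321 : LEOK LG_g (LK LD1_c6 LD2_c10 LD3_c26) :=
  Leoe_g (LK LD1_c6 LD2_c10 LD3_c26) (f771976 IH)
theorem f704781 : Led Lsl_bt K57.v6213 = K57.v13772 :=
  Lgr Lrot127 (Lpr_bf (K57.f704780 IH) (Lpn K57.v13772))
theorem f125504 : Led Lsl_et (LP (LK LD1_c3 LD2_c10 LD3_c31)) = (LP (LK LD1_c6 LD2_c25 LD3_c38)) :=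
  Lre_e IH (LK LD1_c3 LD2_c10 LD3_c31) (LK LD1_c6 LD2_c25 LD3_c38) Lrfl Lrfl
theorem f104273 : Led Lsl_et (LP (LK LD1_c6 LD2_c19 LD3_c51)) = (LP (LK LD1_c3 LD2_c7 LD3_c28)) :=
  Lre_e IH (LK LD1_c6 LD2_c19 LD3_c51) (LK LD1_c3 LD2_c7 LD3_c28) Lrfl Lrfl
theorem f440303 : Led Lsl_ct (LP (LK LD1_c6 LD2_c25 LD3_c38)) = (LP (LK LD1_c6 LD2_c19 LD3_c51)) :=
  Lgr Lrot15 (Lpe (f125504 IH) (Lpr_cf (K7.f125509 IH) (Lpe (f104273 IH) (Lpn (LP (LK LD1_c6 LD2_c19 LD3_c51))))))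
theorem f440309 : Led Lsl_cf (LP (LK LD1_c6 LD2_c25 LD3_c38)) = (LP (LK LD1_c6 LD2_c19 LD3_c51)) :=
  Lgr Lrot11 (Lpr_ct (f440303 IH) (Lpn (LP (LK LD1_c6 LD2_c19 LD3_c51))))
theorem f118740 : Led Lsl_bt (LP (LK LD1_c12 LD2_c14 LD3_c33)) = (LP (LK LD1_c6 LD2_c19 LD3_c51)) :=
  Lre_b IH (LK LD1_c12 LD2_c14 LD3_c33) (LK LD1_c6 LD2_c19 LD3_c51) Lrfl Lrfl
theorem f118711 : Led Lsl_et (LP (LK LD1_c12 LD2_c14 LD3_c33)) = (LP (LK LD1_c6 LD2_c19 LD3_c50)) :=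
  Lre_e IH (LK LD1_c12 LD2_c14 LD3_c33) (LK LD1_c6 LD2_c19 LD3_c50) Lrfl Lrfl
theorem f79425 : Led Lsl_et (LP (LK LD1_c6 LD2_c36 LD3_c16)) = (LP (LK LD1_c12 LD2_c38 LD3_c40)) :=
  Lre_e IH (LK LD1_c6 LD2_c36 LD3_c16) (LK LD1_c12 LD2_c38 LD3_c40) Lrfl Lrfl
theorem f118831 : Led Lsl_cf (LP (LK LD1_c12 LD2_c14 LD3_c33)) = (LP (LK LD1_c12 LD2_c38 LD3_c40)) :=
  Lgr Lrot39 (Lpr_et (f118711 IH) (Lpr_ct (K6.f118758 IH) (Lpr_et (f79425 IH) (Lpn (LP (LK LD1_c12 LD2_c38 LD3_c40))))))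
theorem f118837 : Led Lsl_bt (LP (LK LD1_c6 LD2_c36 LD3_c17)) = (LP (LK LD1_c12 LD2_c38 LD3_c40)) :=
  Lre_b IH (LK LD1_c6 LD2_c36 LD3_c17) (LK LD1_c12 LD2_c38 LD3_c40) Lrfl Lrfl
theorem f118838 : Led Lsl_ct (LP (LK LD1_c3 LD2_c16 LD3_c29)) = (LP (LK LD1_c6 LD2_c36 LD3_c17)) :=
  Lre_c IH (LK LD1_c3 LD2_c16 LD3_c29) (LK LD1_c6 LD2_c36 LD3_c17) Lrfl Lrfl
theorem f440311 : Led Lsl_bt (LP (LK LD1_c6 LD2_c25 LD3_c38)) = (LP (LK LD1_c3 LD2_c16 LD3_c29)) :=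
  Lgr Lrot128 (Lpr_cf (f440309 IH) (Lpe (f118740 IH) (Lpr_cf (f118831 IH) (Lpe (f118837 IH) (Lpe (f118838 IH) (Lpn (LP (LK LD1_c3 LD2_c16 LD3_c29))))))))
def v17990 : LQ := Led Lsl_gf (LP (LK LD1_c6 LD2_c25 LD3_c38))
theorem f764556 : Led Lsl_gf (LP (LK LD1_c6 LD2_c25 LD3_c38)) = v17990 :=
  Lrfl
def v6212 : LQ := Led Lsl_gt (LP (LK LD1_c3 LD2_c19 LD3_c12))
theorem f652113 : Led Lsl_gt (LP (LK LD1_c3 LD2_c19 LD3_c12)) = v6212 :=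
  Lrfl
theorem f759993 : Led Lsl_gt v6212 = K57.v17473 :=
  Lgr Lrot46 (Lpe (f652113 IH) (Lpr_ft (K57.f652131 IH) (Lpr_at (K57.f759989 IH) (Lpn K57.v17473))))
theorem f118703 : Led Lsl_et (LP (LK LD1_c3 LD2_c7 LD3_c28)) = (LP (LK LD1_c6 LD2_c19 LD3_c51)) :=
  Lre_e IH (LK LD1_c3 LD2_c7 LD3_c28) (LK LD1_c6 LD2_c19 LD3_c51) Lrfl Lrfl
theorem f118720 : Led Lsl_et (LP (LK LD1_c6 LD2_c35 LD3_c12)) = (LP (LK LD1_c3 LD2_c15 LD3_c57)) :=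
  Lre_e IH (LK LD1_c6 LD2_c35 LD3_c12) (LK LD1_c3 LD2_c15 LD3_c57) Lrfl Lrfl
theorem f118736 : Led Lsl_at (LP (LK LD1_c6 LD2_c19 LD3_c51)) = (LP (LK LD1_c6 LD2_c35 LD3_c12)) :=
  Lgr Lrot80 (Lpe (f118703 IH) (Lpr_af (K5.f118684 IH) (Lpe (f118720 IH) (Lpn (LP (LK LD1_c6 LD2_c35 LD3_c12))))))
theorem f118743 : Led Lsl_ct (LP (LK LD1_c6 LD2_c35 LD3_c12)) = (LP (LK LD1_c3 LD2_c15 LD3_c58)) :=
  Lre_c IH (LK LD1_c6 LD2_c35 LD3_c12) (LK LD1_c3 LD2_c15 LD3_c58) Lrfl Lrfl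
theorem f440305 : Led Lsl_af (LP (LK LD1_c6 LD2_c25 LD3_c38)) = (LP (LK LD1_c3 LD2_c15 LD3_c58)) :=
  Lgr Lrot68 (Lpr_ct (f440303 IH) (Lpr_at (f118736 IH) (Lpr_ct (f118743 IH) (Lpn (LP (LK LD1_c3 LD2_c15 LD3_c58))))))
def v5992 : LQ := Led Lsl_ft (LP (LK LD1_c3 LD2_c15 LD3_c58))
theorem f650418 : Led Lsl_ft (LP (LK LD1_c3 LD2_c15 LD3_c58)) = v5992 :=
  Lrfl
theorem f650421 : Led Lsl_ff (LP (LK LD1_c3 LD2_c15 LD3_c58)) = v5992 :=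
  Lgr Lrot3 (Lpr_ft (f650418 IH) (Lpn v5992))
theorem f764557 : Led Lsl_gt v5992 = v17990 :=
  Lgr Lrot5 (Lpe (f650421 IH) (Lpe (f440305 IH) (Lpr_gf (f764556 IH) (Lpn v17990))))
def v6218 : LQ := Led Lsl_gf (LP (LK LD1_c3 LD2_c19 LD3_c13))
theorem f652135 : Led Lsl_gf (LP (LK LD1_c3 LD2_c19 LD3_c13)) = v6218 :=
  Lrfl
theorem f652144 : Led Lsl_gt (LP (LK LD1_c3 LD2_c19 LD3_c17)) = v6218 :=
  Lgr Lrot5 (Lpr_ft (K46.f652141 IH) (Lpe (K46.f652138 IH) (Lpr_gf (f652135 IH) (Lpn v6218))))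
theorem f770598 : (LP (LK LD1_c6 LD2_c30 LD3_c49)) = v6218 :=
  Lefun (Lecon (Lfl_gf (K58.f767500 IH)) (K58.f770597 IH)) (f652144 IH)
theorem f504594 : Led Lsl_bt (LP (LK LD1_c1 LD2_c30 LD3_c8)) = (LP (LK LD1_c3 LD2_c7 LD3_c56)) :=
  Lre_b IH (LK LD1_c1 LD2_c30 LD3_c8) (LK LD1_c3 LD2_c7 LD3_c56) Lrfl Lrfl
def v3182 : LQ := Led Lsl_gf v551
def v10097 : LQ := Led Lsl_bt v3182
theorem f678819 : Led Lsl_bt v3182 = v10097 :=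
  Lrfl
theorem f678820 : Led Lsl_bf v3182 = v10097 :=
  Lgr Lrot24 (Lpr_bt (f678819 IH) (Lpn v10097))
theorem f624549 : Led Lsl_gf v551 = v3182 :=
  Lrfl
theorem f678821 : Led Lsl_cf (LP (LK LD1_c6 LD2_c20 LD3_c41)) = v10097 :=
  Lgr Lrot163 (Lpe (K46.f419114 IH) (Lpe (K46.f419113 IH) (Lpe (K46.f110453 IH) (Lpe (K57.f204602 IH) (Lpe (K11.f204263 IH) (Lpe (K29.f68641 IH) (Lpe (K29.f443997 IH) (Lpr_bt (f453953 IH) (Lpr_gf (f624549 IH) (Lpr_bf (f678820 IH) (Lpn v10097)))))))))))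
theorem f770602 : v6212 = v10097 :=
  (Llr Lrot82 (Lpe (f652113 IH) (Lpe (K57.f500054 IH) (Lpr_ct (K46.f446049 IH) (Lpr_gf (f652135 IH) (Lpq (f770598 IH) (Lpe (K5.f124657 IH) (Lpe (K5.f114993 IH) (Lpr_gf (K58.f701209 IH) (Lpqs (K58.f769949 IH) (Lpe (f504594 IH) (Lpr_ct (K46.f504595 IH) (Lpe (K46.f647630 IH) (Lpr_cf (f678821 IH) (Lpn v10097))))))))))))))).symm
theorem f119178 : Led Lsl_bt (LP (LK LD1_c3 LD2_c15 LD3_c58)) = (LP (LK LD1_c1 LD2_c34 LD3_c46)) :=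
  Lre_b IH (LK LD1_c3 LD2_c15 LD3_c58) (LK LD1_c1 LD2_c34 LD3_c46) Lrfl Lrfl
theorem f650422 : Led Lsl_bt (LP (LK LD1_c3 LD2_c16 LD3_c2)) = v5992 :=
  Lgr Lrot35 (Lpe (K4.f118523 IH) (Lpe (f119178 IH) (Lpr_ff (f650421 IH) (Lpn v5992))))
def v4461 : LQ := Led Lsl_at (LP (LK LD1_c2 LD2_c21 LD3_c54))
theorem f633512 : Led Lsl_at (LP (LK LD1_c2 LD2_c21 LD3_c54)) = v4461 :=
  Lrfl
def v3183 : LQ := Led Lsl_at v551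
theorem f624550 : Led Lsl_at v551 = v3183 :=
  Lrfl
theorem f624551 : Led Lsl_af v551 = v3183 :=
  Lgr Lrot0 (Lpr_at (f624550 IH) (Lpn v3183))
theorem f633515 : Led Lsl_ff v3183 = v4461 :=
  Lgr Lrot30 (Lpe (f624551 IH) (Lpr_ft (f507820 IH) (Lpr_at (f633512 IH) (Lpn v4461))))
theorem f633518 : Led Lsl_gf v3182 = v4461 :=
  Lgr Lrot47 (Lpe (f624549 IH) (Lpr_af (f624551 IH) (Lpr_ff (f633515 IH) (Lpn v4461))))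
def v13789 : LQ := Led Lsl_at (LP (LK LD1_c4 LD2_c48 LD3_c1))
theorem f704843 : Led Lsl_at (LP (LK LD1_c4 LD2_c48 LD3_c1)) = v13789 :=
  Lrfl
theorem f633513 : Led Lsl_af (LP (LK LD1_c2 LD2_c21 LD3_c54)) = v4461 :=
  Lgr Lrot0 (Lpr_at (f633512 IH) (Lpn v4461))
theorem f704845 : Led Lsl_cf v4461 = v13789 :=
  Lgr Lrot1 (Lpe (f633513 IH) (Lpr_ct (f68445 IH) (Lpr_at (f704843 IH) (Lpn v13789))))
theorem f771581 : (LP (LK LD1_c3 LD2_c16 LD3_c53)) = v13789 :=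
  Lefun (Lecon (Lfl_af (K56.f650683 IH)) ((K56.f754655 IH).symm.trans (f771549 IH).symm)) (f704843 IH)
theorem f771600 : v4461 = (LP (LK LD1_c1 LD2_c35 LD3_c4)) :=
  Lefun (Lecon (Lfl_cf (f704845 IH)) (f771581 IH).symm) (K56.f118508 IH)
theorem f771654 : v3182 = (LP (LK LD1_c3 LD2_c16 LD3_c2)) :=
  Lefun (Lecon (Lfl_gf (f633518 IH)) (f771600 IH)) (Lfl_gf (K46.f118506 IH))
theorem f771723 : v10097 = v5992 :=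
  Lefun (Lecon (f678819 IH) (f771654 IH)) (f650422 IH)
theorem f771802 : K57.v17473 = v17990 :=
  Lefun (Lecon (f759993 IH) ((f770602 IH).trans (f771723 IH))) (f764557 IH)
theorem f771868 : (LP (LK LD1_c6 LD2_c25 LD3_c38)) = K57.v6213 :=
  Lefun (Lecon (Lfl_gf (f764556 IH)) (f771802 IH).symm) (Lfl_gf (K57.f759991 IH))
theorem f771957 : K57.v13772 = (LP (LK LD1_c3 LD2_c16 LD3_c29)) :=
  Lefun (Lecon (f704781 IH) (f771868 IH).symm) (f440311 IH)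
theorem f771998 : Led Lsl_gt (LP (LK LD1_c4 LD2_c47 LD3_c56)) = (LP (LK LD1_c3 LD2_c16 LD3_c29)) :=
  Leop (Lpq (f771957 IH) (Lpe (K57.f704776 IH) (Lpn (LP (LK LD1_c4 LD2_c47 LD3_c56)))))
theorem seed_1322 : LEOK LG_g (LK LD1_c4 LD2_c47 LD3_c56) :=
  Leoe_g (LK LD1_c4 LD2_c47 LD3_c56) (f771998 IH)
theorem f654244 : Led Lsl_at (LP (LK LD1_c3 LD2_c23 LD3_c50)) = (LP (LK LD1_c3 LD2_c23 LD3_c53)) :=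
  Lgr Lrot100 (Lpr_af (K58.f654242 IH) (Lpn (LP (LK LD1_c3 LD2_c23 LD3_c53))))
theorem f653962 : Led Lsl_bf (LP (LK LD1_c3 LD2_c23 LD3_c49)) = K56.v6572 :=
  Lgr Lrot93 (Lpr_dt (K58.f76823 IH) (Lpr_bt (K46.f414283 IH) (Lpr_dt (K56.f653961 IH) (Lpn K56.v6572))))
theorem f654221 : Led Lsl_ft (LP (LK LD1_c3 LD2_c23 LD3_c49)) = (LP (LK LD1_c3 LD2_c23 LD3_c50)) :=
  Lgr Lrot75 (Lpr_bf (f653962 IH) (Lpr_ff (K56.f654219 IH) (Lpr_bf (K56.f416434 IH) (Lpn (LP (LK LD1_c3 LD2_c23 LD3_c50))))))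
theorem f654256 : Led Lsl_at K58.v6530 = (LP (LK LD1_c3 LD2_c23 LD3_c49)) :=
  Lgr Lrot66 (Lpr_ff (K58.f654255 IH) (Lpe (f654244 IH) (Lpe (f654221 IH) (Lpn (LP (LK LD1_c3 LD2_c23 LD3_c49))))))
theorem f654319 : Led Lsl_at (LP (LK LD1_c6 LD2_c50 LD3_c46)) = K58.v6588 :=
  Lgr Lrot80 (Lpe (K58.f76846 IH) (Lpe (f654256 IH) (Lpr_ef (K58.f654317 IH) (Lpn K58.v6588))))
theorem f82780 : Led Lsl_gt (LP (LK LD1_c6 LD2_c30 LD3_c14)) = (LP (LK LD1_c3 LD2_c13 LD3_c10)) :=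
  Lre_g IH (LK LD1_c6 LD2_c30 LD3_c14) (LK LD1_c3 LD2_c13 LD3_c10) Lrfl Lrfl
theorem f702830 : Led Lsl_gf (LP (LK LD1_c6 LD2_c30 LD3_c14)) = v13416 :=
  Lgr Lrot47 (Lpr_gt (f82780 IH) (Lpe (K46.f82765 IH) (Lpr_ff (f702825 IH) (Lpn v13416))))
theorem f76887 : Led Lsl_et (LP (LK LD1_c3 LD2_c23 LD3_c54)) = (LP (LK LD1_c1 LD2_c38 LD3_c12)) :=
  Lre_e IH (LK LD1_c3 LD2_c23 LD3_c54) (LK LD1_c1 LD2_c38 LD3_c12) Lrfl Lrfl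
theorem f77097 : Led Lsl_et (LP (LK LD1_c3 LD2_c22 LD3_c56)) = (LP (LK LD1_c6 LD2_c49 LD3_c24)) :=
  Lre_e IH (LK LD1_c3 LD2_c22 LD3_c56) (LK LD1_c6 LD2_c49 LD3_c24) Lrfl Lrfl
theorem f77098 : Led Lsl_dt (LP (LK LD1_c3 LD2_c22 LD3_c56)) = (LP (LK LD1_c6 LD2_c49 LD3_c23)) :=
  Lre_d IH (LK LD1_c3 LD2_c22 LD3_c56) (LK LD1_c6 LD2_c49 LD3_c23) Lrfl Lrfl
theorem f654318 : Led Lsl_gt (LP (LK LD1_c6 LD2_c49 LD3_c23)) = K58.v6588 :=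
  Lgr Lrot112 (Lpe (f77098 IH) (Lpr_et (f77097 IH) (Lpr_gf (K58.f77090 IH) (Lpe (K58.f76832 IH) (Lpr_dt (K58.f76831 IH) (Lpe (K2.f76879 IH) (Lpe (K2.f76791 IH) (Lpe (K2.f76883 IH) (Lpe (f76887 IH) (Lpr_dt (K58.f654314 IH) (Lpn K58.v6588)))))))))))
theorem f632427 : Led Lsl_dt (LP (LK LD1_c6 LD2_c30 LD3_c8)) = (LP (LK LD1_c3 LD2_c13 LD3_c8)) :=
  Lre_d IH (LK LD1_c6 LD2_c30 LD3_c8) (LK LD1_c3 LD2_c13 LD3_c8) Lrfl Lrfl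
theorem f632810 : Led Lsl_ft (LP (LK LD1_c3 LD2_c13 LD3_c8)) = K58.v4344 :=
  Lgr Lrot48 (Lpr_ff (K58.f632808 IH) (Lpn K58.v4344))
theorem f702828 : Led Lsl_dt K58.v4344 = v13416 :=
  Lgr Lrot60 (Lpe (f632810 IH) (Lpe (f632427 IH) (Lpr_ff (f702825 IH) (Lpn v13416))))
theorem f632806 : Led Lsl_af (LP (LK LD1_c2 LD2_c19 LD3_c41)) = K58.v4344 :=
  Lgr Lrot0 (Lpr_at (K58.f632805 IH) (Lpn K58.v4344))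
theorem f702836 : Led Lsl_ef K58.v4344 = K50.v13417 :=
  Lgr Lrot20 (Lpe (f632806 IH) (Lpr_et (K58.f26293 IH) (Lpr_at (K50.f702832 IH) (Lpn K50.v13417))))
theorem f527771 : Led Lsl_et (LP (LK LD1_c6 LD2_c49 LD3_c24)) = (LP (LK LD1_c3 LD2_c22 LD3_c56)) :=
  Lre_e IH (LK LD1_c6 LD2_c49 LD3_c24) (LK LD1_c3 LD2_c22 LD3_c56) Lrfl Lrfl
def v18187 : LQ := Led Lsl_gt (LP (LK LD1_c6 LD2_c27 LD3_c5))
theorem f765446 : Led Lsl_gt (LP (LK LD1_c6 LD2_c27 LD3_c5)) = v18187 :=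
  Lrfl
theorem f765447 : Led Lsl_gf K50.v13417 = v18187 :=
  Lgr Lrot76 (Lpe (K50.f702832 IH) (Lpe (K50.f505178 IH) (Lpr_gt (f765446 IH) (Lpn v18187))))
def v18452 : LQ := Led Lsl_gt (LP (LK LD1_c6 LD2_c29 LD3_c49))
theorem f767037 : Led Lsl_gt (LP (LK LD1_c6 LD2_c29 LD3_c49)) = v18452 :=
  Lrfl
theorem f767041 : Led Lsl_af (LP (LK LD1_c12 LD2_c13 LD3_c53)) = K58.v18454 :=
  Lgr Lrot45 (Lpr_ft (K58.f766963 IH) (Lpe (K58.f766959 IH) (Lpr_ft (K58.f767040 IH) (Lpn K58.v18454))))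
theorem f767044 : Led Lsl_gt v18452 = (LP (LK LD1_c12 LD2_c13 LD3_c53)) :=
  Lgr Lrot46 (Lpe (f767037 IH) (Lpr_ft (K58.f767040 IH) (Lpe (f767041 IH) (Lpn (LP (LK LD1_c12 LD2_c13 LD3_c53))))))
def v18453 : LQ := Led Lsl_dt (LP (LK LD1_c6 LD2_c29 LD3_c49))
theorem f767038 : Led Lsl_dt (LP (LK LD1_c6 LD2_c29 LD3_c49)) = v18453 :=
  Lrfl
theorem f767039 : Led Lsl_df (LP (LK LD1_c6 LD2_c29 LD3_c49)) = v18453 :=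
  Lgr Lrot38 (Lpr_dt (f767038 IH) (Lpn v18453))
theorem f767051 : Led Lsl_ft K58.v17857 = v18453 :=
  Lgr Lrot54 (Lpr_df (K58.f767047 IH) (Lpe (K58.f767040 IH) (Lpr_df (f767039 IH) (Lpn v18453))))
theorem f769672 : v18453 = K58.v18119 :=
  Lefun (Lecon (f767051 IH) (K58.f769667 IH)) (K58.f765129 IH)
theorem f66663 : Led Lsl_et (LP (LK LD1_c0 LD2_c42 LD3_c60)) = (LP (LK LD1_c1 LD2_c32 LD3_c53)) :=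
  Lre_e IH (LK LD1_c0 LD2_c42 LD3_c60) (LK LD1_c1 LD2_c32 LD3_c53) Lrfl Lrfl
theorem f648644 : Led Lsl_dt K58.v1947 = K58.v5642 :=
  Lgr Lrot42 (Lpr_df (K58.f648643 IH) (Lpn K58.v5642))
theorem f702614 : Led Lsl_ft K58.v5642 = K58.v13376 :=
  Lgr Lrot48 (Lpr_ff (K58.f702608 IH) (Lpn K58.v13376))
theorem f702604 : Led Lsl_af (LP (LK LD1_c4 LD2_c43 LD3_c31)) = K58.v13376 :=
  Lgr Lrot0 (Lpr_at (K58.f702603 IH) (Lpn K58.v13376))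
def v13375 : LQ := Led Lsl_gf (LP (LK LD1_c4 LD2_c43 LD3_c31))
theorem f702602 : Led Lsl_gf (LP (LK LD1_c4 LD2_c43 LD3_c31)) = v13375 :=
  Lrfl
theorem f702619 : Led Lsl_gt K58.v5642 = v13375 :=
  Lgr Lrot5 (Lpr_ft (f702614 IH) (Lpe (f702604 IH) (Lpr_gf (f702602 IH) (Lpn v13375))))
theorem f769673 : v13375 = K58.v18119 :=
  (Llr Lrot139 (Lpe (f702619 IH) (Lpe (f648644 IH) (Lpqs (K58.f769592 IH) (Lpe (K58.f653764 IH) (Lpe (K3.f66630 IH) (Lpe (K3.f66633 IH) (Lpr_gf (K1.f66635 IH) (Lpe (K2.f66661 IH) (Lpr_et (f66663 IH) (Lpe (K51.f66747 IH) (Lpe (K58.f66748 IH) (Lpr_dt (f767038 IH) (Lpqs (f769672 IH) (Lpn K58.v18119))))))))))))))).symm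
def v13374 : LQ := Led Lsl_gt (LP (LK LD1_c4 LD2_c43 LD3_c31))
theorem f702600 : Led Lsl_gt (LP (LK LD1_c4 LD2_c43 LD3_c31)) = v13374 :=
  Lrfl
theorem f769674 : K58.v18123 = v13374 :=
  (Llr Lrot26 (Lpe (K58.f765152 IH) (Lpr_ff (K58.f765131 IH) (Lpq (f769673 IH) (Lpe (f702602 IH) (Lpr_gt (f702600 IH) (Lpn v13374))))))).symm
theorem f759733 : Led Lsl_et (LP (LK LD1_c6 LD2_c23 LD3_c15)) = (LP (LK LD1_c12 LD2_c19 LD3_c61)) :=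
  Lre_e IH (LK LD1_c6 LD2_c23 LD3_c15) (LK LD1_c12 LD2_c19 LD3_c61) Lrfl Lrfl
def v18122 : LQ := Led Lsl_et (LP (LK LD1_c6 LD2_c26 LD3_c30))
theorem f765147 : Led Lsl_et (LP (LK LD1_c6 LD2_c26 LD3_c30)) = v18122 :=
  Lrfl
theorem f769666 : Led Lsl_et (LP (LK LD1_c12 LD2_c13 LD3_c54)) = K58.v18123 :=
  Lgr Lrot71 (Lpe (K2.f68218 IH) (Lpe (K57.f646452 IH) (Lpe (K58.f76831 IH) (Lpe (K58.f664643 IH) (Lpr_df (K58.f769664 IH) (Lpn K58.v18123))))))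
theorem f762363 : Led Lsl_ff (LP (LK LD1_c6 LD2_c22 LD3_c56)) = K57.v17832 :=
  Lgr Lrot3 (Lpr_ft (K57.f762360 IH) (Lpn K57.v17832))
theorem f431774 : Led Lsl_dt (LP (LK LD1_c6 LD2_c22 LD3_c56)) = (LP (LK LD1_c12 LD2_c19 LD3_c25)) :=
  Lre_d IH (LK LD1_c6 LD2_c22 LD3_c56) (LK LD1_c12 LD2_c19 LD3_c25) Lrfl Lrfl
theorem f762364 : Led Lsl_ft (LP (LK LD1_c12 LD2_c19 LD3_c25)) = (LP (LK LD1_c12 LD2_c19 LD3_c61)) :=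
  Lgr Lrot54 (Lpe (f431774 IH) (Lpr_ff (f762363 IH) (Lpe (K57.f762348 IH) (Lpn (LP (LK LD1_c12 LD2_c19 LD3_c61))))))
theorem f769675 : v18122 = (LP (LK LD1_c12 LD2_c19 LD3_c25)) :=
  (Llr Lrot69 (Lpe (f765147 IH) (Lpr_ff (K58.f765151 IH) (Lpqs (f769674 IH) (Lpq (f769674 IH) (Lpe (f769666 IH) (Lpe (K57.f759725 IH) (Lpe (K57.f83512 IH) (Lpe (f762364 IH) (Lpn (LP (LK LD1_c12 LD2_c19 LD3_c25)))))))))))).symm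
theorem f765148 : Led Lsl_ef (LP (LK LD1_c6 LD2_c26 LD3_c30)) = v18122 :=
  Lgr Lrot88 (Lpr_et (f765147 IH) (Lpn v18122))
theorem f769678 : Led Lsl_ef (LP (LK LD1_c12 LD2_c13 LD3_c54)) = K58.v18123 :=
  Lgr Lrot21 (Lpe (K57.f759729 IH) (Lpr_et (f759733 IH) (Lpe (K57.f762361 IH) (Lpq (f769675 IH) (Lpe (f765148 IH) (Lpr_ft (K58.f765149 IH) (Lpn K58.v18123)))))))
def v6550 : LQ := Led Lsl_gt (LP (LK LD1_c3 LD2_c23 LD3_c26))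
theorem f653886 : Led Lsl_gt (LP (LK LD1_c3 LD2_c23 LD3_c26)) = v6550 :=
  Lrfl
theorem f769679 : Led Lsl_dt v6550 = v18452 :=
  Lgr Lrot171 (Lpe (f653886 IH) (Lpe (K3.f83730 IH) (Lpr_dt (K6.f83815 IH) (Lpe (K3.f94034 IH) (Lpr_df (K7.f83481 IH) (Lpr_et (K57.f83483 IH) (Lpe (K2.f83715 IH) (Lpr_ef (f769678 IH) (Lpqs (f769674 IH) (Lpq (f769674 IH) (Lpe (K58.f769664 IH) (Lpe (f767044 IH) (Lpn v18452)))))))))))))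
theorem f769680 : Led Lsl_df v6550 = v18452 :=
  Lgr Lrot38 (Lpr_dt (f769679 IH) (Lpn v18452))
theorem f653881 : Led Lsl_ef (LP (LK LD1_c3 LD2_c23 LD3_c25)) = K58.v6548 :=
  Lgr Lrot88 (Lpr_et (K58.f653880 IH) (Lpn K58.v6548))
def v17420 : LQ := Led Lsl_gt (LP (LK LD1_c6 LD2_c19 LD3_c2))
theorem f759683 : Led Lsl_gt (LP (LK LD1_c6 LD2_c19 LD3_c2)) = v17420 :=
  Lrfl
theorem f83738 : Led Lsl_et (LP (LK LD1_c0 LD2_c45 LD3_c28)) = (LP (LK LD1_c1 LD2_c38 LD3_c4)) :=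
  Lre_e IH (LK LD1_c0 LD2_c45 LD3_c28) (LK LD1_c1 LD2_c38 LD3_c4) Lrfl Lrfl
theorem f759685 : Led Lsl_dt K58.v6548 = v17420 :=
  Lgr Lrot56 (Lpe (f653881 IH) (Lpr_gt (K58.f83739 IH) (Lpe (f83738 IH) (Lpe (K2.f83720 IH) (Lpr_gt (K2.f68352 IH) (Lpe (K2.f66803 IH) (Lpr_et (K2.f66932 IH) (Lpr_gt (K2.f76879 IH) (Lpr_dt (K58.f77079 IH) (Lpr_gt (f759683 IH) (Lpn v17420)))))))))))
def v17425 : LQ := Led Lsl_gf (LP (LK LD1_c6 LD2_c19 LD3_c3))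
theorem f759698 : Led Lsl_gf (LP (LK LD1_c6 LD2_c19 LD3_c3)) = v17425 :=
  Lrfl
theorem f769681 : Led Lsl_ef v17425 = v18452 :=
  Lgr Lrot114 (Lpe (f759698 IH) (Lpe (K57.f646452 IH) (Lpr_dt (K58.f77079 IH) (Lpr_gt (f759683 IH) (Lpe (f759685 IH) (Lpe (f653881 IH) (Lpr_gt (K58.f83739 IH) (Lpr_dt (K3.f77087 IH) (Lpr_gt (f653886 IH) (Lpr_df (f769680 IH) (Lpn v18452)))))))))))
theorem f769682 : Led Lsl_et v17425 = v18452 :=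
  Lgr Lrot87 (Lpr_ef (f769681 IH) (Lpn v18452))
theorem f505711 : Led Lsl_ef (LP (LK LD1_c6 LD2_c27 LD3_c5)) = (LP (LK LD1_c6 LD2_c30 LD3_c19)) :=
  Lgr Lrot88 (Lpr_et (K58.f505486 IH) (Lpn (LP (LK LD1_c6 LD2_c30 LD3_c19))))
def v18497 : LQ := Led Lsl_gf (LP (LK LD1_c6 LD2_c30 LD3_c9))
theorem f767210 : Led Lsl_gf (LP (LK LD1_c6 LD2_c30 LD3_c9)) = v18497 :=
  Lrfl
theorem f505656 : Led Lsl_at (LP (LK LD1_c3 LD2_c13 LD3_c11)) = (LP (LK LD1_c6 LD2_c30 LD3_c9)) :=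
  Lre_a IH (LK LD1_c3 LD2_c13 LD3_c11) (LK LD1_c6 LD2_c30 LD3_c9) Lrfl Lrfl
theorem f767211 : Led Lsl_gt (LP (LK LD1_c6 LD2_c30 LD3_c19)) = v18497 :=
  Lgr Lrot5 (Lpr_ft (K58.f505713 IH) (Lpr_at (f505656 IH) (Lpr_gf (f767210 IH) (Lpn v18497))))
def v17424 : LQ := Led Lsl_gt (LP (LK LD1_c6 LD2_c19 LD3_c3))
theorem f759697 : Led Lsl_gt (LP (LK LD1_c6 LD2_c19 LD3_c3)) = v17424 :=
  Lrfl
theorem f676924 : Led Lsl_ef K58.v2821 = K58.v9624 :=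
  Lgr Lrot88 (Lpr_et (K58.f676921 IH) (Lpn K58.v9624))
theorem f670567 : Led Lsl_ff K58.v1948 = K58.v8267 :=
  Lgr Lrot3 (Lpr_ft (K58.f670564 IH) (Lpn K58.v8267))
theorem f670569 : Led Lsl_dt K58.v3915 = K58.v8267 :=
  Lgr Lrot60 (Lpr_ff (K58.f670562 IH) (Lpe (K58.f670558 IH) (Lpr_ff (f670567 IH) (Lpn K58.v8267))))
theorem f632717 : Led Lsl_ef (LP (LK LD1_c2 LD2_c19 LD3_c29)) = K58.v4333 :=
  Lgr Lrot88 (Lpr_et (K58.f632715 IH) (Lpn K58.v4333))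
theorem f672482 : Led Lsl_et K58.v8267 = K58.v8850 :=
  Lgr Lrot69 (Lpe (K58.f670564 IH) (Lpe (K58.f506531 IH) (Lpr_ff (K58.f506538 IH) (Lpqs (K58.f622817 IH) (Lpr_ef (f632717 IH) (Lpr_ff (K58.f672481 IH) (Lpn K58.v8850)))))))
theorem f676926 : Led Lsl_dt K58.v8850 = K58.v9624 :=
  Lgr Lrot77 (Lpe (f672482 IH) (Lpe (f670569 IH) (Lpr_ef (K58.f676919 IH) (Lpe (K58.f676913 IH) (Lpr_ef (f676924 IH) (Lpn K58.v9624))))))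
theorem f653859 : Led Lsl_dt v2607 = v6539 :=
  Lgr Lrot42 (Lpr_df (f653858 IH) (Lpn v6539))
def v9327 : LQ := Led Lsl_et v2607
theorem f675390 : Led Lsl_et v2607 = v9327 :=
  Lrfl
theorem f672483 : Led Lsl_ft K58.v4333 = K58.v8850 :=
  Lgr Lrot48 (Lpr_ff (K58.f672481 IH) (Lpn K58.v8850))
theorem f769665 : Led Lsl_dt (LP (LK LD1_c12 LD2_c13 LD3_c53)) = K58.v18123 :=
  Lgr Lrot42 (Lpr_df (K58.f769664 IH) (Lpn K58.v18123))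
theorem f759686 : Led Lsl_df K58.v6548 = v17420 :=
  Lgr Lrot38 (Lpr_dt (f759685 IH) (Lpn v17420))
def v6579 : LQ := Led Lsl_gf (LP (LK LD1_c3 LD2_c23 LD3_c49))
theorem f654285 : Led Lsl_gf (LP (LK LD1_c3 LD2_c23 LD3_c49)) = v6579 :=
  Lrfl
theorem f654286 : Led Lsl_gt (LP (LK LD1_c3 LD2_c23 LD3_c53)) = v6579 :=
  Lgr Lrot5 (Lpe (K58.f654255 IH) (Lpr_at (f654256 IH) (Lpr_gf (f654285 IH) (Lpn v6579))))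
theorem f152229 : Led Lsl_dt (LP (LK LD1_c2 LD2_c19 LD3_c29)) = (LP (LK LD1_c4 LD2_c43 LD3_c31)) :=
  Lre_d IH (LK LD1_c2 LD2_c19 LD3_c29) (LK LD1_c4 LD2_c43 LD3_c31) Lrfl Lrfl
theorem f769683 : v6579 = K58.v4333 :=
  (Llr Lrot131 (Lpe (f654286 IH) (Lpr_ef (K58.f76888 IH) (Lpr_dt (K58.f653817 IH) (Lpr_gf (K58.f654292 IH) (Lpq (K58.f769662 IH) (Lpqs (K58.f768710 IH) (Lpr_df (f759686 IH) (Lpe (f759683 IH) (Lpe (K58.f664643 IH) (Lpr_dt (f769665 IH) (Lpqs (f769674 IH) (Lpe (f702600 IH) (Lpe (f152229 IH) (Lpr_et (K58.f632715 IH) (Lpn K58.v4333)))))))))))))))).symm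
def v6578 : LQ := Led Lsl_gt (LP (LK LD1_c3 LD2_c23 LD3_c49))
theorem f654283 : Led Lsl_gt (LP (LK LD1_c3 LD2_c23 LD3_c49)) = v6578 :=
  Lrfl
theorem f769684 : Led Lsl_at K58.v8850 = v6578 :=
  Lgr Lrot26 (Lpe (f672483 IH) (Lpq (f769683 IH) (Lpe (f654285 IH) (Lpr_gt (f654283 IH) (Lpn v6578)))))
theorem f414842 : Led Lsl_bt (LP (LK LD1_c1 LD2_c32 LD3_c5)) = (LP (LK LD1_c3 LD2_c11 LD3_c19)) :=
  Lre_b IH (LK LD1_c1 LD2_c32 LD3_c5) (LK LD1_c3 LD2_c11 LD3_c19) Lrfl Lrfl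
theorem f765301 : Led Lsl_af K58.v4333 = K58.v18155 :=
  Lgr Lrot36 (Lpe (K58.f632716 IH) (Lpq (K58.f622830 IH) (Lpe (K35.f506603 IH) (Lpr_bt (f414842 IH) (Lpr_at (K58.f506607 IH) (Lpr_bt (K58.f765300 IH) (Lpn K58.v18155)))))))
theorem f769688 : Led Lsl_ff K58.v18155 = v6578 :=
  Lgr Lrot30 (Lpe (f765301 IH) (Lpr_ft (f672483 IH) (Lpr_at (f769684 IH) (Lpn v6578))))
def v8822 : LQ := Led Lsl_et K58.v2220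
theorem f672405 : Led Lsl_et K58.v2220 = v8822 :=
  Lrfl
theorem f672406 : Led Lsl_ef K58.v2220 = v8822 :=
  Lgr Lrot88 (Lpr_et (f672405 IH) (Lpn v8822))
theorem f77078 : Led Lsl_et (LP (LK LD1_c0 LD2_c20 LD3_c17)) = (LP (LK LD1_c0 LD2_c45 LD3_c30)) :=
  Lre_e IH (LK LD1_c0 LD2_c20 LD3_c17) (LK LD1_c0 LD2_c45 LD3_c30) Lrfl Lrfl
theorem f672407 : Led Lsl_df v6578 = v8822 :=
  Lgr Lrot132 (Lpe (f654283 IH) (Lpe (K58.f76878 IH) (Lpe (K46.f76877 IH) (Lpe (f77078 IH) (Lpr_dt (K2.f14978 IH) (Lpe (K2.f11975 IH) (Lpe (K2.f91958 IH) (Lpr_et (K58.f95545 IH) (Lpr_gf (K58.f509735 IH) (Lpr_ef (f672406 IH) (Lpn v8822)))))))))))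
theorem f769690 : Led Lsl_ft v17420 = v8822 :=
  Lgr Lrot54 (Lpe (f759685 IH) (Lpq (K58.f768710 IH) (Lpr_ff (f769688 IH) (Lpr_df (f672407 IH) (Lpn v8822)))))
theorem f709666 : Led Lsl_at K51.v5750 = (LP (LK LD1_c6 LD2_c19 LD3_c5)) :=
  Lgr Lrot100 (Lpr_af (K51.f709665 IH) (Lpn (LP (LK LD1_c6 LD2_c19 LD3_c5))))
theorem f759684 : Led Lsl_gf (LP (LK LD1_c6 LD2_c19 LD3_c5)) = v17420 :=
  Lgr Lrot76 (Lpe (f709666 IH) (Lpe (K58.f709664 IH) (Lpr_gt (f759683 IH) (Lpn v17420))))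
theorem f759689 : Led Lsl_af (LP (LK LD1_c6 LD2_c19 LD3_c2)) = K58.v17422 :=
  Lgr Lrot0 (Lpr_at (K58.f759688 IH) (Lpn K58.v17422))
def v17421 : LQ := Led Lsl_gf (LP (LK LD1_c6 LD2_c19 LD3_c2))
theorem f759687 : Led Lsl_gf (LP (LK LD1_c6 LD2_c19 LD3_c2)) = v17421 :=
  Lrfl
theorem f759694 : Led Lsl_gt (LP (LK LD1_c6 LD2_c19 LD3_c5)) = v17421 :=
  Lgr Lrot5 (Lpr_ft (K58.f759693 IH) (Lpe (f759689 IH) (Lpr_gf (f759687 IH) (Lpn v17421))))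
theorem f672408 : Led Lsl_dt v6578 = v8822 :=
  Lgr Lrot42 (Lpr_df (f672407 IH) (Lpn v8822))
theorem f769687 : Led Lsl_af K58.v10682 = v8822 :=
  Lgr Lrot117 (Lpe (K58.f681371 IH) (Lpqs (K58.f769616 IH) (Lpr_at (f769684 IH) (Lpr_dt (f672408 IH) (Lpn v8822)))))
theorem f769693 : v17421 = K58.v10682 :=
  (Llr Lrot46 (Lpe (f759694 IH) (Lpr_gf (f759684 IH) (Lpr_ft (f769690 IH) (Lpe (f769687 IH) (Lpn K58.v10682)))))).symm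
theorem f769699 : v9327 = v17424 :=
  (Llr Lrot122 (Lpe (f675390 IH) (Lpr_dt (f653859 IH) (Lpr_gt (f654240 IH) (Lpr_df (K58.f654316 IH) (Lpe (K58.f654317 IH) (Lpr_gt (K58.f654294 IH) (Lpqs (K58.f769616 IH) (Lpr_dt (f676926 IH) (Lpq (K58.f769613 IH) (Lpq (f769693 IH) (Lpe (f759687 IH) (Lpe (K58.f77079 IH) (Lpr_et (K57.f646452 IH) (Lpr_gt (f759697 IH) (Lpn v17424)))))))))))))))).symm
theorem f505740 : Led Lsl_et (LP (LK LD1_c3 LD2_c13 LD3_c8)) = (LP (LK LD1_c6 LD2_c30 LD3_c9)) :=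
  Lre_e IH (LK LD1_c3 LD2_c13 LD3_c8) (LK LD1_c6 LD2_c30 LD3_c9) Lrfl Lrfl
theorem f771547 : v2607 = (LP (LK LD1_c3 LD2_c13 LD3_c8)) :=
  Lefun (Lecon (Lfl_df (f653858 IH)) (f771500 IH).symm) (f632427 IH)
theorem f771576 : v9327 = (LP (LK LD1_c6 LD2_c30 LD3_c9)) :=
  Lefun (Lecon (f675390 IH) (f771547 IH)) (f505740 IH)
theorem f771593 : (LP (LK LD1_c6 LD2_c19 LD3_c3)) = v18497 :=
  Lefun (Lecon (Lfl_gt (f759697 IH)) ((f769699 IH).symm.trans (f771576 IH))) (f767210 IH)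
theorem f771643 : (LP (LK LD1_c6 LD2_c30 LD3_c19)) = v17425 :=
  Lefun (Lecon (Lfl_gt (f767211 IH)) (f771593 IH).symm) (f759698 IH)
theorem f771721 : v18452 = (LP (LK LD1_c6 LD2_c27 LD3_c5)) :=
  Lefun (Lecon (f769682 IH) (f771643 IH).symm) (Lfl_ef (f505711 IH))
theorem f771797 : (LP (LK LD1_c12 LD2_c13 LD3_c53)) = v18187 :=
  Lefun (Lecon (f767044 IH) (f771721 IH)) (f765446 IH)
theorem f771857 : K50.v13417 = (LP (LK LD1_c6 LD2_c49 LD3_c24)) :=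
  Lefun (Lecon (Lfl_gf (f765447 IH)) (f771797 IH).symm) (Lfl_gf (K58.f77090 IH))
theorem f771956 : K58.v4344 = (LP (LK LD1_c3 LD2_c22 LD3_c56)) :=
  Lefun (Lecon (Lfl_ef (f702836 IH)) (f771857 IH)) (f527771 IH)
theorem f771987 : v13416 = (LP (LK LD1_c6 LD2_c49 LD3_c23)) :=
  Lefun (Lecon (f702828 IH) (f771956 IH)) (f77098 IH)
theorem f772037 : (LP (LK LD1_c6 LD2_c30 LD3_c14)) = K58.v6588 :=
  Lefun (Lecon (Lfl_gf (f702830 IH)) (f771987 IH)) (f654318 IH)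
theorem f772059 : Led Lsl_at (LP (LK LD1_c6 LD2_c50 LD3_c46)) = (LP (LK LD1_c6 LD2_c30 LD3_c14)) :=
  Leop (Lpqs (f772037 IH) (Lpe (f654319 IH) (Lpn (LP (LK LD1_c6 LD2_c50 LD3_c46)))))
theorem seed_1323 : LEOK LG_a (LK LD1_c6 LD2_c50 LD3_c46) :=
  Leoe_a (LK LD1_c6 LD2_c50 LD3_c46) (f772059 IH)
theorem f762033 : Led Lsl_et (LP (LK LD1_c6 LD2_c21 LD3_c58)) = (LP (LK LD1_c12 LD2_c17 LD3_c35)) :=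
  Lre_e IH (LK LD1_c6 LD2_c21 LD3_c58) (LK LD1_c12 LD2_c17 LD3_c35) Lrfl Lrfl
theorem f68205 : Led Lsl_dt (LP (LK LD1_c6 LD2_c29 LD3_c48)) = (LP (LK LD1_c3 LD2_c12 LD3_c51)) :=
  Lre_d IH (LK LD1_c6 LD2_c29 LD3_c48) (LK LD1_c3 LD2_c12 LD3_c51) Lrfl Lrfl
theorem f766940 : Led Lsl_ff (LP (LK LD1_c6 LD2_c29 LD3_c48)) = v18432 :=
  Lgr Lrot19 (Lpr_dt (f68205 IH) (Lpr_ft (K52.f649186 IH) (Lpqs (K51.f709667 IH) (Lpr_dt (f766935 IH) (Lpn v18432)))))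
theorem f766942 : Led Lsl_ft (LP (LK LD1_c6 LD2_c29 LD3_c48)) = v18432 :=
  Lgr Lrot48 (Lpr_ff (f766940 IH) (Lpn v18432))
theorem f434808 : Led Lsl_gt (LP (LK LD1_c6 LD2_c22 LD3_c48)) = (LP (LK LD1_c12 LD2_c19 LD3_c2)) :=
  Lre_g IH (LK LD1_c6 LD2_c22 LD3_c48) (LK LD1_c12 LD2_c19 LD3_c2) Lrfl Lrfl
theorem f68235 : Led Lsl_et (LP (LK LD1_c3 LD2_c11 LD3_c43)) = (LP (LK LD1_c1 LD2_c32 LD3_c12)) :=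
  Lre_e IH (LK LD1_c3 LD2_c11 LD3_c43) (LK LD1_c1 LD2_c32 LD3_c12) Lrfl Lrfl
theorem f68172 : Led Lsl_at (LP (LK LD1_c1 LD2_c32 LD3_c53)) = (LP (LK LD1_c3 LD2_c12 LD3_c47)) :=
  Lre_a IH (LK LD1_c1 LD2_c32 LD3_c53) (LK LD1_c3 LD2_c12 LD3_c47) Lrfl Lrfl
theorem f67436 : Led Lsl_at (LP (LK LD1_c6 LD2_c27 LD3_c30)) = (LP (LK LD1_c3 LD2_c11 LD3_c43)) :=
  Lre_a IH (LK LD1_c6 LD2_c27 LD3_c30) (LK LD1_c3 LD2_c11 LD3_c43) Lrfl Lrfl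
theorem f68173 : Led Lsl_df (LP (LK LD1_c1 LD2_c32 LD3_c53)) = (LP (LK LD1_c3 LD2_c11 LD3_c43)) :=
  Lgr Lrot18 (Lpr_at (f68172 IH) (Lpr_dt (K2.f68170 IH) (Lpr_at (f67436 IH) (Lpn (LP (LK LD1_c3 LD2_c11 LD3_c43))))))
theorem f446988 : Led Lsl_ef (LP (LK LD1_c12 LD2_c19 LD3_c2)) = (LP (LK LD1_c6 LD2_c29 LD3_c48)) :=
  Lgr Lrot17 (Lpe (f434808 IH) (Lpe (K57.f434790 IH) (Lpr_dt (K49.f434781 IH) (Lpr_gf (K49.f446984 IH) (Lpr_df (K7.f429053 IH) (Lpe (K5.f67422 IH) (Lpe (f68235 IH) (Lpe (f68173 IH) (Lpe (K51.f66747 IH) (Lpe (f68205 IH) (Lpn (LP (LK LD1_c6 LD2_c29 LD3_c48)))))))))))))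
theorem f446990 : Led Lsl_et (LP (LK LD1_c12 LD2_c19 LD3_c2)) = (LP (LK LD1_c6 LD2_c29 LD3_c48)) :=
  Lgr Lrot87 (Lpr_ef (f446988 IH) (Lpn (LP (LK LD1_c6 LD2_c29 LD3_c48))))
def v17840 : LQ := Led Lsl_et (LP (LK LD1_c6 LD2_c22 LD3_c57))
theorem f762403 : Led Lsl_et (LP (LK LD1_c6 LD2_c22 LD3_c57)) = v17840 :=
  Lrfl
theorem f762404 : Led Lsl_ef (LP (LK LD1_c6 LD2_c22 LD3_c57)) = v17840 :=
  Lgr Lrot88 (Lpr_et (f762403 IH) (Lpn v17840))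
theorem f766943 : Led Lsl_ff v17840 = v17436 :=
  Lgr Lrot72 (Lpe (f762404 IH) (Lpr_ft (K57.f762354 IH) (Lpr_et (f446990 IH) (Lpr_ft (f766942 IH) (Lpe (f766939 IH) (Lpn v17436))))))
theorem f766945 : Led Lsl_ft v17840 = v17436 :=
  Lgr Lrot48 (Lpr_ff (f766943 IH) (Lpn v17436))
theorem f766947 : Led Lsl_ef v18432 = v17436 :=
  Lgr Lrot21 (Lpe (f766940 IH) (Lpe (f446988 IH) (Lpe (K57.f762352 IH) (Lpr_et (f762403 IH) (Lpr_ft (f766945 IH) (Lpn v17436))))))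
theorem f701989 : Led Lsl_gf (LP (LK LD1_c6 LD2_c21 LD3_c58)) = K50.v13260 :=
  Lgr Lrot47 (Lpr_gt (K57.f504307 IH) (Lpe (K50.f504696 IH) (Lpr_ff (K50.f701981 IH) (Lpn K50.v13260))))
theorem f69300 : Led Lsl_dt (LP (LK LD1_c3 LD2_c23 LD3_c16)) = (LP (LK LD1_c6 LD2_c49 LD3_c55)) :=
  Lre_d IH (LK LD1_c3 LD2_c23 LD3_c16) (LK LD1_c6 LD2_c49 LD3_c55) Lrfl Lrfl
theorem f759810 : Led Lsl_gt (LP (LK LD1_c6 LD2_c49 LD3_c55)) = v17436 :=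
  Lgr Lrot112 (Lpe (f69300 IH) (Lpr_et (f653856 IH) (Lpe (f653860 IH) (Lpe (K58.f76846 IH) (Lpr_dt (K58.f76823 IH) (Lpe (K46.f76877 IH) (Lpr_df (K2.f76859 IH) (Lpe (K2.f76876 IH) (Lpe (f68216 IH) (Lpr_dt (f759808 IH) (Lpn v17436)))))))))))
theorem f505904 : Led Lsl_dt (LP (LK LD1_c6 LD2_c21 LD3_c52)) = (LP (LK LD1_c3 LD2_c8 LD3_c38)) :=
  Lre_d IH (LK LD1_c6 LD2_c21 LD3_c52) (LK LD1_c3 LD2_c8 LD3_c38) Lrfl Lrfl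
theorem f632412 : Led Lsl_ft (LP (LK LD1_c3 LD2_c8 LD3_c38)) = K46.v4288 :=
  Lgr Lrot48 (Lpr_ff (K46.f632409 IH) (Lpn K46.v4288))
theorem f701987 : Led Lsl_dt K46.v4288 = K50.v13260 :=
  Lgr Lrot60 (Lpe (f632412 IH) (Lpe (f505904 IH) (Lpr_ff (K50.f701981 IH) (Lpn K50.v13260))))
theorem f771490 : K50.v13260 = (LP (LK LD1_c6 LD2_c49 LD3_c55)) :=
  Lefun (Lecon (f701987 IH) (f771460 IH)) (f69300 IH)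
theorem f771541 : (LP (LK LD1_c6 LD2_c21 LD3_c58)) = v17436 :=
  Lefun (Lecon (Lfl_gf (f701989 IH)) (f771490 IH)) (f759810 IH)
theorem f771556 : v18432 = (LP (LK LD1_c12 LD2_c17 LD3_c35)) :=
  Lefun (Lecon (Lfl_ef (f766947 IH)) (f771541 IH).symm) (f762033 IH)
theorem f126533 : Led Lsl_dt (LP (LK LD1_c12 LD2_c13 LD3_c57)) = (LP (LK LD1_c6 LD2_c19 LD3_c9)) :=
  Lre_d IH (LK LD1_c12 LD2_c13 LD3_c57) (LK LD1_c6 LD2_c19 LD3_c9) Lrfl Lrfl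
theorem f766937 : Led Lsl_bf (LP (LK LD1_c12 LD2_c13 LD3_c57)) = v18432 :=
  Lgr Lrot93 (Lpr_dt (f126533 IH) (Lpr_bt (K52.f709063 IH) (Lpr_dt (f766935 IH) (Lpn v18432))))
theorem f772210 : Led Lsl_ef K57.v17757 = (LP (LK LD1_c12 LD2_c13 LD3_c57)) :=
  Lgr Lrot29 (Lpe (K57.f762046 IH) (Lpr_et (f762033 IH) (Lpq (f771556 IH) (Lpe (f766937 IH) (Lpn (LP (LK LD1_c12 LD2_c13 LD3_c57)))))))
theorem f772214 : Led Lsl_et K57.v17757 = (LP (LK LD1_c12 LD2_c13 LD3_c57)) :=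
  Lgr Lrot87 (Lpr_ef (f772210 IH) (Lpn (LP (LK LD1_c12 LD2_c13 LD3_c57))))
def v17429 : LQ := Led Lsl_dt (LP (LK LD1_c6 LD2_c19 LD3_c4))
theorem f759782 : Led Lsl_dt (LP (LK LD1_c6 LD2_c19 LD3_c4)) = v17429 :=
  Lrfl
theorem f759784 : Led Lsl_df (LP (LK LD1_c6 LD2_c19 LD3_c4)) = v17429 :=
  Lgr Lrot38 (Lpr_dt (f759782 IH) (Lpn v17429))
theorem f708697 : Led Lsl_gt (LP (LK LD1_c6 LD2_c19 LD3_c4)) = (LP (LK LD1_c6 LD2_c9 LD3_c31)) :=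
  Lgr Lrot46 (Lpr_gf (K51.f708693 IH) (Lpr_ft (K51.f62923 IH) (Lpe (K51.f439662 IH) (Lpn (LP (LK LD1_c6 LD2_c9 LD3_c31))))))
theorem f131502 : Led Lsl_at (LP (LK LD1_c6 LD2_c9 LD3_c31)) = (LP (LK LD1_c3 LD2_c12 LD3_c6)) :=
  Lgr Lrot67 (Lpr_bf (K5.f127047 IH) (Lpe (K5.f131476 IH) (Lpe (K5.f110481 IH) (Lpr_af (K5.f131498 IH) (Lpe (K51.f62905 IH) (Lpn (LP (LK LD1_c3 LD2_c12 LD3_c6))))))))
theorem f439727 : Led Lsl_df (LP (LK LD1_c6 LD2_c9 LD3_c31)) = (LP (LK LD1_c3 LD2_c14 LD3_c35)) :=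
  Lgr Lrot18 (Lpr_at (f131502 IH) (Lpe (K51.f129602 IH) (Lpe (K51.f120605 IH) (Lpn (LP (LK LD1_c3 LD2_c14 LD3_c35))))))
theorem f25037 : Led Lsl_et (LP (LK LD1_c1 LD2_c29 LD3_c41)) = (LP (LK LD1_c3 LD2_c7 LD3_c0)) :=
  Lre_e IH (LK LD1_c1 LD2_c29 LD3_c41) (LK LD1_c3 LD2_c7 LD3_c0) Lrfl Lrfl
theorem f759786 : Led Lsl_ef (LP (LK LD1_c6 LD2_c19 LD3_c9)) = v17429 :=
  Lgr Lrot17 (Lpe (K51.f25038 IH) (Lpe (f25037 IH) (Lpr_dt (K5.f25036 IH) (Lpr_gf (K2.f25025 IH) (Lpe (K3.f17664 IH) (Lpe (K3.f107505 IH) (Lpe (K4.f103552 IH) (Lpe (f439727 IH) (Lpe (f708697 IH) (Lpr_df (f759784 IH) (Lpn v17429)))))))))))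
theorem f759787 : Led Lsl_et (LP (LK LD1_c6 LD2_c19 LD3_c9)) = v17429 :=
  Lgr Lrot87 (Lpr_ef (f759786 IH) (Lpn v17429))
def v17430 : LQ := Led Lsl_et (LP (LK LD1_c6 LD2_c19 LD3_c4))
theorem f759788 : Led Lsl_et (LP (LK LD1_c6 LD2_c19 LD3_c4)) = v17430 :=
  Lrfl
theorem f772215 : Led Lsl_df K57.v17757 = v17430 :=
  Lgr Lrot70 (Lpr_et (f772214 IH) (Lpr_dt (f126533 IH) (Lpr_et (f759787 IH) (Lpe (f759784 IH) (Lpr_et (f759788 IH) (Lpn v17430))))))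
theorem f759790 : Led Lsl_ef (LP (LK LD1_c6 LD2_c19 LD3_c4)) = v17430 :=
  Lgr Lrot88 (Lpr_et (f759788 IH) (Lpn v17430))
theorem f25040 : Led Lsl_et (LP (LK LD1_c1 LD2_c40 LD3_c61)) = (LP (LK LD1_c3 LD2_c28 LD3_c35)) :=
  Lre_e IH (LK LD1_c1 LD2_c40 LD3_c61) (LK LD1_c3 LD2_c28 LD3_c35) Lrfl Lrfl
def v6746 : LQ := Led Lsl_gt (LP (LK LD1_c3 LD2_c28 LD3_c35))
theorem f658208 : Led Lsl_gt (LP (LK LD1_c3 LD2_c28 LD3_c35)) = v6746 :=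
  Lrfl
theorem f771435 : (LP (LK LD1_c3 LD2_c7 LD3_c52)) = v6746 :=
  Lefun (Lecon (Lfl_gf (f647594 IH)) (f771434 IH)) (f658208 IH)
theorem f647581 : Led Lsl_dt (LP (LK LD1_c3 LD2_c7 LD3_c52)) = (LP (LK LD1_c6 LD2_c20 LD3_c39)) :=
  Lre_d IH (LK LD1_c3 LD2_c7 LD3_c52) (LK LD1_c6 LD2_c20 LD3_c39) Lrfl Lrfl
theorem f647595 : Led Lsl_gt (LP (LK LD1_c6 LD2_c20 LD3_c39)) = (LP (LK LD1_c12 LD2_c15 LD3_c40)) :=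
  Lre_g IH (LK LD1_c6 LD2_c20 LD3_c39) (LK LD1_c12 LD2_c15 LD3_c40) Lrfl Lrfl
theorem f772216 : K57.v17757 = (LP (LK LD1_c12 LD2_c15 LD3_c40)) :=
  (Llr Lrot56 (Lpr_df (f772215 IH) (Lpe (f759790 IH) (Lpr_gt (f708697 IH) (Lpe (K5.f66652 IH) (Lpr_dt (K5.f57592 IH) (Lpr_gt (K3.f66644 IH) (Lpe (K3.f17664 IH) (Lpr_et (f25040 IH) (Lpr_gt (f658208 IH) (Lpq (f771435 IH) (Lpr_dt (f647581 IH) (Lpr_gt (f647595 IH) (Lpn (LP (LK LD1_c12 LD2_c15 LD3_c40)))))))))))))))).symm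
theorem f772217 : Led Lsl_bt (LP (LK LD1_c12 LD2_c15 LD3_c40)) = (LP (LK LD1_c6 LD2_c21 LD3_c58)) :=
  Leop (Lpr_bf (K57.f762046 IH) (Lpqs (f772216 IH) (Lpn (LP (LK LD1_c12 LD2_c15 LD3_c40)))))
theorem seed_1324 : LEOK LG_b (LK LD1_c12 LD2_c15 LD3_c40) :=
  Leoe_b (LK LD1_c12 LD2_c15 LD3_c40) (f772217 IH)
def v18385 : LQ := Led Lsl_gt (LP (LK LD1_c6 LD2_c29 LD3_c6))
theorem f766659 : Led Lsl_gt (LP (LK LD1_c6 LD2_c29 LD3_c6)) = v18385 :=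
  Lrfl
def v7309 : LQ := Led Lsl_gf (LP (LK LD1_c3 LD2_c44 LD3_c48))
theorem f664452 : Led Lsl_gf (LP (LK LD1_c3 LD2_c44 LD3_c48)) = v7309 :=
  Lrfl
theorem f95599 : Led Lsl_at (LP (LK LD1_c1 LD2_c49 LD3_c46)) = (LP (LK LD1_c3 LD2_c44 LD3_c48)) :=
  Lgr Lrot100 (Lpr_af (K2.f95597 IH) (Lpn (LP (LK LD1_c3 LD2_c44 LD3_c48))))
theorem f664453 : Led Lsl_gt (LP (LK LD1_c3 LD2_c45 LD3_c17)) = v7309 :=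
  Lgr Lrot5 (Lpr_ft (K56.f85082 IH) (Lpr_at (f95599 IH) (Lpr_gf (f664452 IH) (Lpn v7309))))
theorem f766692 : Led Lsl_af K51.v5725 = K58.v18387 :=
  Lgr Lrot45 (Lpe (K51.f649065 IH) (Lpr_at (K52.f506713 IH) (Lpr_ft (K58.f766691 IH) (Lpn K58.v18387))))
theorem f766697 : Led Lsl_gt v18385 = K51.v5725 :=
  Lgr Lrot46 (Lpe (f766659 IH) (Lpr_ft (K58.f766691 IH) (Lpe (f766692 IH) (Lpn K51.v5725))))
def v18758 : LQ := Led Lsl_dt (LP (LK LD1_c6 LD2_c32 LD3_c42))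
theorem f768323 : Led Lsl_dt (LP (LK LD1_c6 LD2_c32 LD3_c42)) = v18758 :=
  Lrfl
theorem f768325 : Led Lsl_df (LP (LK LD1_c6 LD2_c32 LD3_c42)) = v18758 :=
  Lgr Lrot38 (Lpr_dt (f768323 IH) (Lpn v18758))
def v17594 : LQ := Led Lsl_gf (LP (LK LD1_c6 LD2_c20 LD3_c40))
theorem f761048 : Led Lsl_gf (LP (LK LD1_c6 LD2_c20 LD3_c40)) = v17594 :=
  Lrfl
theorem f772223 : Led Lsl_et v18758 = v17594 :=
  Lgr Lrot185 (Lpe (f768325 IH) (Lpe (K51.f103545 IH) (Lpe (K5.f126911 IH) (Lpe (f708697 IH) (Lpr_ef (f759790 IH) (Lpe (f772215 IH) (Lpqs (f772216 IH) (Lpe (f647595 IH) (Lpe (f647581 IH) (Lpr_et (K52.f647599 IH) (Lpr_gf (f761048 IH) (Lpn v17594))))))))))))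
theorem f670698 : Led Lsl_dt (LP (LK LD1_c6 LD2_c20 LD3_c40)) = K51.v8295 :=
  Lgr Lrot42 (Lpr_df (K52.f670697 IH) (Lpn K51.v8295))
theorem f772228 : v7309 = K51.v8295 :=
  (Llr Lrot134 (Lpe (f664452 IH) (Lpr_df (f85153 IH) (Lpr_et (f85150 IH) (Lpr_gt (K5.f129592 IH) (Lpe (K5.f127053 IH) (Lpr_dt (K5.f126911 IH) (Lpr_gt (K51.f103545 IH) (Lpr_df (f768325 IH) (Lpr_et (f772223 IH) (Lpe (f761048 IH) (Lpr_dt (f670698 IH) (Lpn K51.v8295))))))))))))).symm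
theorem f772230 : (LP (LK LD1_c3 LD2_c45 LD3_c17)) = v18385 :=
  Lefun (Lecon (Lfl_gt (f664453 IH)) ((f772228 IH).trans (K51.f707822 IH).symm)) (Lfl_gt (f766697 IH))
theorem f772232 : Led Lsl_gt (LP (LK LD1_c6 LD2_c29 LD3_c6)) = (LP (LK LD1_c3 LD2_c45 LD3_c17)) :=
  Leop (Lpqs (f772230 IH) (Lpe (f766659 IH) (Lpn (LP (LK LD1_c6 LD2_c29 LD3_c6)))))
theorem seed_1325 : LEOK LG_g (LK LD1_c6 LD2_c29 LD3_c6) :=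
  Leoe_g (LK LD1_c6 LD2_c29 LD3_c6) (f772232 IH)
theorem f772229 : (LP (LK LD1_c3 LD2_c44 LD3_c48)) = K58.v18386 :=
  Lefun (Lecon (Lfl_gf (f664452 IH)) ((f772228 IH).trans (K51.f707822 IH).symm)) (K58.f766661 IH)
theorem f772233 : Led Lsl_gt (LP (LK LD1_c3 LD2_c44 LD3_c48)) = (LP (LK LD1_c6 LD2_c29 LD3_c6)) :=
  Leop (Lpr_gf (K58.f766660 IH) (Lpq (f772229 IH) (Lpn (LP (LK LD1_c3 LD2_c44 LD3_c48)))))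
theorem seed_1326 : LEOK LG_g (LK LD1_c3 LD2_c44 LD3_c48) :=
  Leoe_g (LK LD1_c3 LD2_c44 LD3_c48) (f772233 IH)
def v5858 : LQ := Led Lsl_at (LP (LK LD1_c3 LD2_c14 LD3_c17))
theorem f649843 : Led Lsl_at (LP (LK LD1_c3 LD2_c14 LD3_c17)) = v5858 :=
  Lrfl
theorem f649844 : Led Lsl_af (LP (LK LD1_c3 LD2_c14 LD3_c17)) = v5858 :=
  Lgr Lrot0 (Lpr_at (f649843 IH) (Lpn v5858))
def v5721 : LQ := Led Lsl_ct (LP (LK LD1_c3 LD2_c12 LD3_c30))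
theorem f649044 : Led Lsl_ct (LP (LK LD1_c3 LD2_c12 LD3_c30)) = v5721 :=
  Lrfl
theorem f663859 : v5858 = v5721 :=
  (Llr Lrot68 (Lpe (f649844 IH) (Lpe (K46.f648884 IH) (Lpqs (K48.f663847 IH) (Lpe (K48.f649037 IH) (Lpr_ct (f649044 IH) (Lpn v5721))))))).symm
def v18610 : LQ := Led Lsl_bt (LP (LK LD1_c6 LD2_c31 LD3_c17))
theorem f767719 : Led Lsl_bt (LP (LK LD1_c6 LD2_c31 LD3_c17)) = v18610 :=
  Lrfl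
theorem f148381 : Led Lsl_et (LP (LK LD1_c3 LD2_c13 LD3_c50)) = (LP (LK LD1_c6 LD2_c31 LD3_c17)) :=
  Lre_e IH (LK LD1_c3 LD2_c13 LD3_c50) (LK LD1_c6 LD2_c31 LD3_c17) Lrfl Lrfl
theorem f767722 : Led Lsl_ef K58.v5824 = v18610 :=
  Lgr Lrot29 (Lpe (K58.f649598 IH) (Lpr_et (f148381 IH) (Lpr_bt (f767719 IH) (Lpn v18610))))
def v3222 : LQ := Led Lsl_gt K58.v582
def v10184 : LQ := Led Lsl_at v3222
theorem f679160 : Led Lsl_at v3222 = v10184 :=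
  Lrfl
theorem f679161 : Led Lsl_af v3222 = v10184 :=
  Lgr Lrot0 (Lpr_at (f679160 IH) (Lpn v10184))
theorem f624670 : Led Lsl_gt K58.v582 = v3222 :=
  Lrfl
theorem f679162 : Led Lsl_ft K58.v3223 = v10184 :=
  Lgr Lrot2 (Lpe (K58.f624671 IH) (Lpr_gt (f624670 IH) (Lpr_af (f679161 IH) (Lpn v10184))))
theorem f663910 : Led Lsl_ff K58.v5824 = K58.v2017 :=
  Lgr Lrot25 (Lpe (K58.f649598 IH) (Lpq (K48.f663635 IH) (Lpe (K46.f506903 IH) (Lpr_bt (K58.f506911 IH) (Lpn K58.v2017)))))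
theorem f770708 : v10184 = K58.v5824 :=
  Lefun (Lecon (f679162 IH) (K58.f770699 IH)) (Lfl_ff (f663910 IH))
def v10188 : LQ := Led Lsl_et v3222
theorem f679170 : Led Lsl_et v3222 = v10188 :=
  Lrfl
theorem f770709 : Led Lsl_af v18610 = v10188 :=
  Lgr Lrot50 (Lpe (f767722 IH) (Lpq (f770708 IH) (Lpe (f679161 IH) (Lpr_et (f679170 IH) (Lpn v10188)))))
theorem f767720 : Led Lsl_bf (LP (LK LD1_c6 LD2_c31 LD3_c17)) = v18610 :=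
  Lgr Lrot24 (Lpr_bt (f767719 IH) (Lpn v18610))
theorem f649898 : Led Lsl_af (LP (LK LD1_c3 LD2_c14 LD3_c20)) = K48.v5869 :=
  Lgr Lrot0 (Lpr_at (K48.f649897 IH) (Lpn K48.v5869))
theorem f648899 : Led Lsl_bt (LP (LK LD1_c3 LD2_c14 LD3_c20)) = (LP (LK LD1_c6 LD2_c32 LD3_c15)) :=
  Lre_b IH (LK LD1_c3 LD2_c14 LD3_c20) (LK LD1_c6 LD2_c32 LD3_c15) Lrfl Lrfl
def v18383 : LQ := Led Lsl_ct (LP (LK LD1_c6 LD2_c29 LD3_c5))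
theorem f766640 : Led Lsl_ct (LP (LK LD1_c6 LD2_c29 LD3_c5)) = v18383 :=
  Lrfl
theorem f649041 : Led Lsl_et (LP (LK LD1_c3 LD2_c12 LD3_c30)) = (LP (LK LD1_c6 LD2_c29 LD3_c5)) :=
  Lre_e IH (LK LD1_c3 LD2_c12 LD3_c30) (LK LD1_c6 LD2_c29 LD3_c5) Lrfl Lrfl
theorem f649045 : Led Lsl_cf (LP (LK LD1_c3 LD2_c12 LD3_c30)) = v5721 :=
  Lgr Lrot11 (Lpr_ct (f649044 IH) (Lpn v5721))
theorem f766643 : Led Lsl_ef v5721 = v18383 :=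
  Lgr Lrot28 (Lpe (f649045 IH) (Lpr_et (f649041 IH) (Lpr_ct (f766640 IH) (Lpn v18383))))
theorem f648901 : Led Lsl_et (LP (LK LD1_c3 LD2_c14 LD3_c17)) = (LP (LK LD1_c6 LD2_c32 LD3_c15)) :=
  Lre_e IH (LK LD1_c3 LD2_c14 LD3_c17) (LK LD1_c6 LD2_c32 LD3_c15) Lrfl Lrfl
theorem f766645 : Led Lsl_at (LP (LK LD1_c6 LD2_c32 LD3_c15)) = v18383 :=
  Lgr Lrot80 (Lpe (f648901 IH) (Lpr_af (f649844 IH) (Lpqs (f663859 IH) (Lpr_ef (f766643 IH) (Lpn v18383)))))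
theorem f770711 : Led Lsl_bt v18383 = v10188 :=
  Lgr Lrot62 (Lpe (f766645 IH) (Lpe (f648899 IH) (Lpr_af (f649898 IH) (Lpqs (K48.f663632 IH) (Lpr_bf (f767720 IH) (Lpr_af (f770709 IH) (Lpn v10188)))))))
theorem f766646 : Led Lsl_et v5721 = v18383 :=
  Lgr Lrot87 (Lpr_ef (f766643 IH) (Lpn v18383))
theorem f679171 : Led Lsl_ef v3222 = v10188 :=
  Lgr Lrot88 (Lpr_et (f679170 IH) (Lpn v10188))
def v10185 : LQ := Led Lsl_bt v3222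
theorem f679164 : Led Lsl_bt v3222 = v10185 :=
  Lrfl
theorem f770713 : v5721 = v10185 :=
  (Llr Lrot29 (Lpr_et (f766646 IH) (Lpr_bt (f770711 IH) (Lpe (f679171 IH) (Lpr_bt (f679164 IH) (Lpn v10185)))))).symm
def v17017 : LQ := Led Lsl_bt (LP (LK LD1_c6 LD2_c10 LD3_c28))
theorem f754369 : Led Lsl_bt (LP (LK LD1_c6 LD2_c10 LD3_c28)) = v17017 :=
  Lrfl
theorem f754370 : Led Lsl_bf (LP (LK LD1_c6 LD2_c10 LD3_c28)) = v17017 :=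
  Lgr Lrot24 (Lpr_bt (f754369 IH) (Lpn v17017))
def v10186 : LQ := Led Lsl_ct v3222
theorem f679166 : Led Lsl_ct v3222 = v10186 :=
  Lrfl
theorem f679167 : Led Lsl_cf v3222 = v10186 :=
  Lgr Lrot11 (Lpr_ct (f679166 IH) (Lpn v10186))
def v3419 : LQ := Led Lsl_ct K56.v819
theorem f625578 : Led Lsl_ct K56.v819 = v3419 :=
  Lrfl
theorem f527749 : Led Lsl_bt (LP (LK LD1_c3 LD2_c22 LD3_c57)) = K56.v2605 :=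
  Lgr Lrot35 (Lpe (K58.f95710 IH) (Lpr_bf (K2.f95664 IH) (Lpr_ff (K56.f527746 IH) (Lpn K56.v2605))))
theorem f442199 : Led Lsl_ct (LP (LK LD1_c3 LD2_c22 LD3_c57)) = (LP (LK LD1_c6 LD2_c49 LD3_c22)) :=
  Lre_c IH (LK LD1_c3 LD2_c22 LD3_c57) (LK LD1_c6 LD2_c49 LD3_c22) Lrfl Lrfl
def v7314 : LQ := Led Lsl_ft (LP (LK LD1_c3 LD2_c44 LD3_c51))
theorem f664475 : Led Lsl_ft (LP (LK LD1_c3 LD2_c44 LD3_c51)) = v7314 :=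
  Lrfl
def v7312 : LQ := Led Lsl_gt (LP (LK LD1_c3 LD2_c44 LD3_c51))
theorem f664472 : Led Lsl_gt (LP (LK LD1_c3 LD2_c44 LD3_c51)) = v7312 :=
  Lrfl
theorem f95693 : Led Lsl_ft (LP (LK LD1_c6 LD2_c49 LD3_c22)) = (LP (LK LD1_c3 LD2_c22 LD3_c55)) :=
  Lre_f IH (LK LD1_c6 LD2_c49 LD3_c22) (LK LD1_c3 LD2_c22 LD3_c55) Lrfl Lrfl
theorem f664476 : Led Lsl_af (LP (LK LD1_c6 LD2_c49 LD3_c22)) = v7314 :=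
  Lgr Lrot45 (Lpr_ft (f95693 IH) (Lpr_at (K30.f95670 IH) (Lpr_ft (f664475 IH) (Lpn v7314))))
theorem f664480 : Led Lsl_gt v7312 = (LP (LK LD1_c6 LD2_c49 LD3_c22)) :=
  Lgr Lrot46 (Lpe (f664472 IH) (Lpr_ft (f664475 IH) (Lpe (f664476 IH) (Lpn (LP (LK LD1_c6 LD2_c49 LD3_c22))))))
def v7359 : LQ := Led Lsl_at (LP (LK LD1_c3 LD2_c45 LD3_c35))
theorem f664707 : Led Lsl_at (LP (LK LD1_c3 LD2_c45 LD3_c35)) = v7359 :=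
  Lrfl
theorem f664710 : Led Lsl_cf K56.v2621 = v7359 :=
  Lgr Lrot1 (Lpe (K56.f527910 IH) (Lpr_ct (K58.f85127 IH) (Lpr_at (f664707 IH) (Lpn v7359))))
theorem f664712 : Led Lsl_ft v3419 = v7359 :=
  Lgr Lrot4 (Lpe (f625578 IH) (Lpr_ff (K56.f527912 IH) (Lpr_cf (f664710 IH) (Lpn v7359))))
theorem f664708 : Led Lsl_af (LP (LK LD1_c3 LD2_c45 LD3_c35)) = v7359 :=
  Lgr Lrot0 (Lpr_at (f664707 IH) (Lpn v7359))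
theorem f664714 : Led Lsl_gt v3419 = K58.v7358 :=
  Lgr Lrot5 (Lpr_ft (f664712 IH) (Lpe (f664708 IH) (Lpr_gf (K58.f664705 IH) (Lpn K58.v7358))))
theorem f130782 : Led Lsl_bt (LP (LK LD1_c1 LD2_c27 LD3_c0)) = (LP (LK LD1_c3 LD2_c1 LD3_c53)) :=
  Lre_b IH (LK LD1_c1 LD2_c27 LD3_c0) (LK LD1_c3 LD2_c1 LD3_c53) Lrfl Lrfl
theorem f124422 : Led Lsl_gt (LP (LK LD1_c3 LD2_c1 LD3_c53)) = (LP (LK LD1_c6 LD2_c10 LD3_c28)) :=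
  Lre_g IH (LK LD1_c3 LD2_c1 LD3_c53) (LK LD1_c6 LD2_c10 LD3_c28) Lrfl Lrfl
theorem f769487 : Led Lsl_cf v7312 = v17017 :=
  Lgr Lrot160 (Lpr_gt (f664480 IH) (Lpe (f442199 IH) (Lpr_bt (f527749 IH) (Lpe (K58.f527753 IH) (Lpr_ct (f625578 IH) (Lpr_gt (f664714 IH) (Lpqs (K58.f769441 IH) (Lpe (K32.f130783 IH) (Lpr_bt (f130782 IH) (Lpr_gt (f124422 IH) (Lpr_bf (f754370 IH) (Lpn v17017))))))))))))
theorem f769488 : Led Lsl_ct v7312 = v17017 :=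
  Lgr Lrot59 (Lpr_cf (f769487 IH) (Lpn v17017))
def v8380 : LQ := Led Lsl_ct K58.v2017
theorem f671063 : Led Lsl_ct K58.v2017 = v8380 :=
  Lrfl
def v7313 : LQ := Led Lsl_gf (LP (LK LD1_c3 LD2_c44 LD3_c51))
theorem f664473 : Led Lsl_gf (LP (LK LD1_c3 LD2_c44 LD3_c51)) = v7313 :=
  Lrfl
theorem f772246 : v8380 = v7313 :=
  (Llr Lrot64 (Lpe (f671063 IH) (Lpe (K58.f506912 IH) (Lpr_gf (K48.f506879 IH) (Lpr_bf (K58.f632930 IH) (Lpr_ct (K58.f703032 IH) (Lpe (K51.f703037 IH) (Lpr_cf (K58.f703155 IH) (Lpq (K52.f707997 IH) (Lpr_gf (K58.f766660 IH) (Lpq (f772229 IH) (Lpe (K2.f85156 IH) (Lpr_ct (K30.f85162 IH) (Lpr_gf (f664473 IH) (Lpn v7313))))))))))))))).symm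
theorem f671064 : Led Lsl_cf K58.v2017 = v8380 :=
  Lgr Lrot11 (Lpr_ct (f671063 IH) (Lpn v8380))
theorem f767178 : Led Lsl_ff v8380 = K58.v18491 :=
  Lgr Lrot23 (Lpe (f671064 IH) (Lpe (f663910 IH) (Lpr_ct (K58.f767176 IH) (Lpn K58.v18491))))
theorem f767186 : Led Lsl_ft v8380 = K58.v18491 :=
  Lgr Lrot48 (Lpr_ff (f767178 IH) (Lpn K58.v18491))
theorem f767177 : Led Lsl_cf K58.v5824 = K58.v18491 :=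
  Lgr Lrot11 (Lpr_ct (K58.f767176 IH) (Lpn K58.v18491))
theorem f770721 : Led Lsl_af K58.v18491 = v10186 :=
  Lgr Lrot68 (Lpe (f767177 IH) (Lpq (f770708 IH) (Lpe (f679161 IH) (Lpr_ct (f679166 IH) (Lpn v10186)))))
theorem f770722 : Led Lsl_at K58.v18491 = v10186 :=
  Lgr Lrot100 (Lpr_af (f770721 IH) (Lpn v10186))
theorem f772247 : v10186 = v7312 :=
  (Llr Lrot26 (Lpe (f770722 IH) (Lpe (f767186 IH) (Lpqs (f772246 IH) (Lpe (f664473 IH) (Lpr_gt (f664472 IH) (Lpn v7312))))))).symm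
theorem f772248 : v3222 = v17017 :=
  Lefun (Lecon (Lfl_cf (f679167 IH)) (f772247 IH)) (f769488 IH)
theorem f772249 : (LP (LK LD1_c6 LD2_c10 LD3_c28)) = v10185 :=
  Lefun (Lecon (Lfl_bf (f754370 IH)) (f772248 IH).symm) (f679164 IH)
theorem f772251 : Led Lsl_at (LP (LK LD1_c3 LD2_c14 LD3_c17)) = (LP (LK LD1_c6 LD2_c10 LD3_c28)) :=
  Leop (Lpqs (f772249 IH) (Lpq (f770713 IH) (Lpq (f663859 IH) (Lpe (f649843 IH) (Lpn (LP (LK LD1_c3 LD2_c14 LD3_c17)))))))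
theorem seed_1327 : LEOK LG_a (LK LD1_c3 LD2_c14 LD3_c17) :=
  Leoe_a (LK LD1_c3 LD2_c14 LD3_c17) (f772251 IH)
def v17603 : LQ := Led Lsl_gt (LP (LK LD1_c6 LD2_c20 LD3_c43))
theorem f761075 : Led Lsl_gt (LP (LK LD1_c6 LD2_c20 LD3_c43)) = v17603 :=
  Lrfl
def v5696 : LQ := Led Lsl_et (LP (LK LD1_c3 LD2_c12 LD3_c7))
theorem f648949 : Led Lsl_et (LP (LK LD1_c3 LD2_c12 LD3_c7)) = v5696 :=
  Lrfl
def v2634 : LQ := Led Lsl_gf (LP (LK LD1_c1 LD2_c50 LD3_c21))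
theorem f529940 : Led Lsl_gf (LP (LK LD1_c1 LD2_c50 LD3_c21)) = v2634 :=
  Lrfl
theorem f104236 : Led Lsl_dt (LP (LK LD1_c1 LD2_c50 LD3_c21)) = (LP (LK LD1_c1 LD2_c29 LD3_c60)) :=
  Lgr Lrot79 (Lpe (K3.f12418 IH) (Lpr_df (K1.f65689 IH) (Lpr_bf (K3.f104229 IH) (Lpn (LP (LK LD1_c1 LD2_c29 LD3_c60))))))
theorem f529942 : Led Lsl_dt (LP (LK LD1_c3 LD2_c12 LD3_c7)) = v2634 :=
  Lgr Lrot57 (Lpr_gf (K5.f128895 IH) (Lpe (K4.f82333 IH) (Lpr_gt (K4.f26086 IH) (Lpr_dt (K11.f26080 IH) (Lpr_gt (K3.f20985 IH) (Lpr_dt (K3.f104202 IH) (Lpe (K7.f61907 IH) (Lpe (f104236 IH) (Lpr_gf (f529940 IH) (Lpn v2634))))))))))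
theorem f529941 : Led Lsl_gt (LP (LK LD1_c3 LD2_c7 LD3_c35)) = v2634 :=
  Lgr Lrot5 (Lpe (K3.f105186 IH) (Lpr_at (K3.f104275 IH) (Lpr_gf (f529940 IH) (Lpn v2634))))
theorem f91482 : Led Lsl_dt (LP (LK LD1_c1 LD2_c30 LD3_c1)) = (LP (LK LD1_c3 LD2_c7 LD3_c35)) :=
  Lre_d IH (LK LD1_c1 LD2_c30 LD3_c1) (LK LD1_c3 LD2_c7 LD3_c35) Lrfl Lrfl
theorem f120147 : Led Lsl_et (LP (LK LD1_c1 LD2_c30 LD3_c1)) = (LP (LK LD1_c3 LD2_c7 LD3_c36)) :=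
  Lre_e IH (LK LD1_c1 LD2_c30 LD3_c1) (LK LD1_c3 LD2_c7 LD3_c36) Lrfl Lrfl
def v5412 : LQ := Led Lsl_gf (LP (LK LD1_c3 LD2_c7 LD3_c36))
theorem f647522 : Led Lsl_gf (LP (LK LD1_c3 LD2_c7 LD3_c36)) = v5412 :=
  Lrfl
theorem f702324 : Led Lsl_gf v5412 = K52.v13319 :=
  Lgr Lrot47 (Lpe (f647522 IH) (Lpe (K52.f120142 IH) (Lpr_ff (K52.f702318 IH) (Lpn K52.v13319))))
theorem f707567 : v5412 = (LP (LK LD1_c3 LD2_c18 LD3_c32)) :=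
  Lefun (Lecon (Lfl_gf (f702324 IH)) (K52.f707505 IH)) (K46.f140070 IH)
theorem f650564 : Led Lsl_et (LP (LK LD1_c6 LD2_c41 LD3_c0)) = (LP (LK LD1_c3 LD2_c18 LD3_c32)) :=
  Lre_e IH (LK LD1_c6 LD2_c41 LD3_c0) (LK LD1_c3 LD2_c18 LD3_c32) Lrfl Lrfl
def v17016 : LQ := Led Lsl_at (LP (LK LD1_c6 LD2_c10 LD3_c28))
theorem f754365 : Led Lsl_at (LP (LK LD1_c6 LD2_c10 LD3_c28)) = v17016 :=
  Lrfl
theorem f754366 : Led Lsl_af (LP (LK LD1_c6 LD2_c10 LD3_c28)) = v17016 :=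
  Lgr Lrot0 (Lpr_at (f754365 IH) (Lpn v17016))
def v5200 : LQ := Led Lsl_gf (LP (LK LD1_c3 LD2_c1 LD3_c53))
theorem f646509 : Led Lsl_gf (LP (LK LD1_c3 LD2_c1 LD3_c53)) = v5200 :=
  Lrfl
theorem f754367 : Led Lsl_ft v5200 = v17016 :=
  Lgr Lrot2 (Lpe (f646509 IH) (Lpr_gt (f124422 IH) (Lpr_af (f754366 IH) (Lpn v17016))))
theorem f754368 : Led Lsl_ff v5200 = v17016 :=
  Lgr Lrot3 (Lpr_ft (f754367 IH) (Lpn v17016))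
theorem f772250 : (LP (LK LD1_c3 LD2_c14 LD3_c17)) = v17016 :=
  Lefun (Lecon (Lfl_af (f649844 IH)) (((f663859 IH).trans (f770713 IH)).trans (f772249 IH).symm)) (f754365 IH)
def v17012 : LQ := Led Lsl_gf (LP (LK LD1_c6 LD2_c10 LD3_c26))
theorem f754333 : Led Lsl_gf (LP (LK LD1_c6 LD2_c10 LD3_c26)) = v17012 :=
  Lrfl
theorem f754334 : Led Lsl_gt v5201 = v17012 :=
  Lgr Lrot5 (Lpe (f646513 IH) (Lpr_at (f129639 IH) (Lpr_gf (f754333 IH) (Lpn v17012))))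
def v17021 : LQ := Led Lsl_ft (LP (LK LD1_c6 LD2_c10 LD3_c28))
theorem f754377 : Led Lsl_ft (LP (LK LD1_c6 LD2_c10 LD3_c28)) = v17021 :=
  Lrfl
theorem f754379 : Led Lsl_ff (LP (LK LD1_c6 LD2_c10 LD3_c28)) = v17021 :=
  Lgr Lrot3 (Lpr_ft (f754377 IH) (Lpn v17021))
theorem f754380 : Led Lsl_at v5200 = v17021 :=
  Lgr Lrot66 (Lpr_ff (f754368 IH) (Lpe (f754365 IH) (Lpr_ff (f754379 IH) (Lpn v17021))))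
theorem f772259 : v17012 = v17021 :=
  (Llr Lrot46 (Lpe (f754334 IH) (Lpq (f771843 IH) (Lpqs (f770748 IH) (Lpe (f649838 IH) (Lpqs (f772250 IH) (Lpe (f754368 IH) (Lpr_at (f754380 IH) (Lpn v17021))))))))).symm
def v10189 : LQ := Led Lsl_ft v3222
theorem f679172 : Led Lsl_ft v3222 = v10189 :=
  Lrfl
theorem f679174 : Led Lsl_ff v3222 = v10189 :=
  Lgr Lrot3 (Lpr_ft (f679172 IH) (Lpn v10189))
theorem f772260 : Led Lsl_bf v10189 = v17012 :=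
  Lgr Lrot61 (Lpe (f679174 IH) (Lpqs (f772248 IH) (Lpe (f754370 IH) (Lpr_ft (f754377 IH) (Lpq (f772259 IH) (Lpn v17012))))))
theorem f772269 : Led Lsl_bt v10189 = v17012 :=
  Lgr Lrot127 (Lpr_bf (f772260 IH) (Lpn v17012))
theorem f679163 : Led Lsl_ff K58.v3223 = v10184 :=
  Lgr Lrot3 (Lpr_ft (f679162 IH) (Lpn v10184))
theorem f679175 : Led Lsl_at K58.v3223 = v10189 :=
  Lgr Lrot66 (Lpr_ff (f679163 IH) (Lpe (f679160 IH) (Lpr_ff (f679174 IH) (Lpn v10189))))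
def v8379 : LQ := Led Lsl_at K58.v2017
theorem f671061 : Led Lsl_at K58.v2017 = v8379 :=
  Lrfl
theorem f770704 : v10189 = v8379 :=
  Lefun (Lecon (f679175 IH) (K58.f770699 IH)) (f671061 IH)
def v18490 : LQ := Led Lsl_gt (LP (LK LD1_c6 LD2_c30 LD3_c7))
theorem f767167 : Led Lsl_gt (LP (LK LD1_c6 LD2_c30 LD3_c7)) = v18490 :=
  Lrfl
theorem f767187 : Led Lsl_at v8380 = v18490 :=
  Lgr Lrot26 (Lpr_ff (f767178 IH) (Lpe (K58.f767168 IH) (Lpr_gt (f767167 IH) (Lpn v18490))))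
theorem f671062 : Led Lsl_af K58.v2017 = v8379 :=
  Lgr Lrot0 (Lpr_at (f671061 IH) (Lpn v8379))
theorem f767189 : Led Lsl_cf v8379 = v18490 :=
  Lgr Lrot1 (Lpe (f671062 IH) (Lpr_ct (f671063 IH) (Lpr_at (f767187 IH) (Lpn v18490))))
theorem f767190 : Led Lsl_ct v8379 = v18490 :=
  Lgr Lrot59 (Lpr_cf (f767189 IH) (Lpn v18490))
theorem f664479 : Led Lsl_ff (LP (LK LD1_c3 LD2_c44 LD3_c51)) = v7314 :=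
  Lgr Lrot3 (Lpr_ft (f664475 IH) (Lpn v7314))
def v6508 : LQ := Led Lsl_gf (LP (LK LD1_c3 LD2_c22 LD3_c55))
theorem f653707 : Led Lsl_gf (LP (LK LD1_c3 LD2_c22 LD3_c55)) = v6508 :=
  Lrfl
theorem f664484 : Led Lsl_gf v6508 = v7314 :=
  Lgr Lrot47 (Lpe (f653707 IH) (Lpr_af (K30.f95667 IH) (Lpr_ff (f664479 IH) (Lpn v7314))))
theorem f85159 : Led Lsl_ct (LP (LK LD1_c3 LD2_c44 LD3_c51)) = (LP (LK LD1_c1 LD2_c49 LD3_c31)) :=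
  Lre_c IH (LK LD1_c3 LD2_c44 LD3_c51) (LK LD1_c1 LD2_c49 LD3_c31) Lrfl Lrfl
def v2608 : LQ := Led Lsl_ft (LP (LK LD1_c1 LD2_c49 LD3_c31))
theorem f527761 : Led Lsl_ft (LP (LK LD1_c1 LD2_c49 LD3_c31)) = v2608 :=
  Lrfl
theorem f664482 : Led Lsl_ct v2608 = v7314 :=
  Lgr Lrot40 (Lpe (f527761 IH) (Lpe (f85159 IH) (Lpr_ff (f664479 IH) (Lpn v7314))))
theorem f527764 : Led Lsl_ff (LP (LK LD1_c1 LD2_c49 LD3_c31)) = v2608 :=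
  Lgr Lrot3 (Lpr_ft (f527761 IH) (Lpn v2608))
theorem f95662 : Led Lsl_af (LP (LK LD1_c1 LD2_c37 LD3_c51)) = (LP (LK LD1_c1 LD2_c49 LD3_c31)) :=
  Lgr Lrot0 (Lpr_at (K2.f95660 IH) (Lpn (LP (LK LD1_c1 LD2_c49 LD3_c31))))
theorem f527766 : Led Lsl_at (LP (LK LD1_c3 LD2_c22 LD3_c57)) = v2608 :=
  Lgr Lrot66 (Lpe (K58.f95710 IH) (Lpr_af (f95662 IH) (Lpr_ff (f527764 IH) (Lpn v2608))))
theorem f94686 : Led Lsl_gt (LP (LK LD1_c1 LD2_c37 LD3_c51)) = (LP (LK LD1_c3 LD2_c22 LD3_c56)) :=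
  Lre_g IH (LK LD1_c1 LD2_c37 LD3_c51) (LK LD1_c3 LD2_c22 LD3_c56) Lrfl Lrfl
theorem f527770 : Led Lsl_gt (LP (LK LD1_c3 LD2_c22 LD3_c56)) = v2608 :=
  Lgr Lrot46 (Lpe (f94686 IH) (Lpr_ft (K58.f95710 IH) (Lpr_at (f527766 IH) (Lpn v2608))))
theorem f771977 : (LP (LK LD1_c3 LD2_c13 LD3_c7)) = v2608 :=
  Lefun (Lecon (Lfl_gf (K58.f632811 IH)) (f771956 IH)) (f527770 IH)
theorem f772030 : v7314 = (LP (LK LD1_c6 LD2_c30 LD3_c7)) :=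
  Lefun (Lecon (f664482 IH) (f771977 IH).symm) (K58.f632814 IH)
theorem f772052 : v6508 = v18490 :=
  Lefun (Lecon (Lfl_gf (f664484 IH)) (f772030 IH)) (f767167 IH)
theorem f506712 : Led Lsl_bt (LP (LK LD1_c1 LD2_c32 LD3_c44)) = (LP (LK LD1_c3 LD2_c12 LD3_c31)) :=
  Lre_b IH (LK LD1_c1 LD2_c32 LD3_c44) (LK LD1_c3 LD2_c12 LD3_c31) Lrfl Lrfl
def v5727 : LQ := Led Lsl_gf (LP (LK LD1_c3 LD2_c12 LD3_c32))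
theorem f649071 : Led Lsl_gf (LP (LK LD1_c3 LD2_c12 LD3_c32)) = v5727 :=
  Lrfl
theorem f648952 : Led Lsl_ef (LP (LK LD1_c3 LD2_c12 LD3_c7)) = v5696 :=
  Lgr Lrot88 (Lpr_et (f648949 IH) (Lpn v5696))
theorem f128906 : Led Lsl_et (LP (LK LD1_c3 LD2_c1 LD3_c51)) = (LP (LK LD1_c6 LD2_c10 LD3_c26)) :=
  Lre_e IH (LK LD1_c3 LD2_c1 LD3_c51) (LK LD1_c6 LD2_c10 LD3_c26) Lrfl Lrfl
theorem f648954 : Led Lsl_ct (LP (LK LD1_c6 LD2_c10 LD3_c26)) = v5696 :=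
  Lgr Lrot15 (Lpe (f128906 IH) (Lpe (K5.f128902 IH) (Lpr_ef (f648952 IH) (Lpn v5696))))
theorem f772271 : v5727 = v5696 :=
  (Llr Lrot129 (Lpe (f649071 IH) (Lpe (K58.f82674 IH) (Lpr_bt (f506712 IH) (Lpr_gt (K58.f649052 IH) (Lpqs (K58.f767179 IH) (Lpe (K50.f649277 IH) (Lpr_ct (K58.f632814 IH) (Lpq (f772030 IH) (Lpe (f664484 IH) (Lpqs (f772052 IH) (Lpe (f767190 IH) (Lpq (f770704 IH) (Lpr_bt (f772269 IH) (Lpe (f754333 IH) (Lpr_ct (f648954 IH) (Lpn v5696))))))))))))))))).symm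
theorem f506695 : Led Lsl_dt (LP (LK LD1_c3 LD2_c12 LD3_c32)) = (LP (LK LD1_c6 LD2_c29 LD3_c11)) :=
  Lre_d IH (LK LD1_c3 LD2_c12 LD3_c32) (LK LD1_c6 LD2_c29 LD3_c11) Lrfl Lrfl
def v18396 : LQ := Led Lsl_gt (LP (LK LD1_c6 LD2_c29 LD3_c11))
theorem f766762 : Led Lsl_gt (LP (LK LD1_c6 LD2_c29 LD3_c11)) = v18396 :=
  Lrfl
def v18400 : LQ := Led Lsl_ft (LP (LK LD1_c6 LD2_c29 LD3_c11))
theorem f766769 : Led Lsl_ft (LP (LK LD1_c6 LD2_c29 LD3_c11)) = v18400 :=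
  Lrfl
def v18299 : LQ := Led Lsl_dt (LP (LK LD1_c6 LD2_c28 LD3_c15))
theorem f766160 : Led Lsl_dt (LP (LK LD1_c6 LD2_c28 LD3_c15)) = v18299 :=
  Lrfl
theorem f649075 : Led Lsl_ct K51.v1976 = K58.v5728 :=
  Lgr Lrot59 (Lpr_cf (K58.f649074 IH) (Lpn K58.v5728))
theorem f82785 : Led Lsl_ct (LP (LK LD1_c3 LD2_c12 LD3_c5)) = (LP (LK LD1_c6 LD2_c28 LD3_c15)) :=
  Lre_c IH (LK LD1_c3 LD2_c12 LD3_c5) (LK LD1_c6 LD2_c28 LD3_c15) Lrfl Lrfl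
theorem f707808 : K58.v5728 = (LP (LK LD1_c6 LD2_c28 LD3_c15)) :=
  Lefun (Lecon (f649075 IH) (K57.f707781 IH)) (f82785 IH)
theorem f506696 : Led Lsl_dt (LP (LK LD1_c6 LD2_c29 LD3_c11)) = (LP (LK LD1_c3 LD2_c12 LD3_c32)) :=
  Lre_d IH (LK LD1_c6 LD2_c29 LD3_c11) (LK LD1_c3 LD2_c12 LD3_c32) Lrfl Lrfl
theorem f766161 : Led Lsl_af (LP (LK LD1_c6 LD2_c29 LD3_c11)) = v18299 :=
  Lgr Lrot117 (Lpr_dt (f506696 IH) (Lpr_at (K58.f649072 IH) (Lpqs (f707808 IH) (Lpr_dt (f766160 IH) (Lpn v18299)))))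
def v9828 : LQ := Led Lsl_dt K58.v3086
theorem f677716 : Led Lsl_dt K58.v3086 = v9828 :=
  Lrfl
theorem f677717 : Led Lsl_df K58.v3086 = v9828 :=
  Lgr Lrot38 (Lpr_dt (f677716 IH) (Lpn v9828))
theorem f766163 : Led Lsl_ff v9828 = v18299 :=
  Lgr Lrot19 (Lpe (f677717 IH) (Lpr_ft (K58.f649076 IH) (Lpqs (f707808 IH) (Lpr_dt (f766160 IH) (Lpn v18299)))))
theorem f766164 : Led Lsl_ft v9828 = v18299 :=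
  Lgr Lrot48 (Lpr_ff (f766163 IH) (Lpn v18299))
theorem f766770 : Led Lsl_af v9828 = v18400 :=
  Lgr Lrot45 (Lpr_ft (f766164 IH) (Lpe (f766161 IH) (Lpr_ft (f766769 IH) (Lpn v18400))))
theorem f766773 : Led Lsl_gt v18396 = v9828 :=
  Lgr Lrot46 (Lpe (f766762 IH) (Lpr_ft (f766769 IH) (Lpe (f766770 IH) (Lpn v9828))))
theorem f506670 : Led Lsl_ct (LP (LK LD1_c6 LD2_c20 LD3_c43)) = (LP (LK LD1_c3 LD2_c7 LD3_c55)) :=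
  Lre_c IH (LK LD1_c6 LD2_c20 LD3_c43) (LK LD1_c3 LD2_c7 LD3_c55) Lrfl Lrfl
theorem f766774 : Led Lsl_df v18396 = v17603 :=
  Lgr Lrot153 (Lpr_gt (f766773 IH) (Lpe (f677717 IH) (Lpe (K58.f623806 IH) (Lpr_df (K51.f623809 IH) (Lpe (K51.f649106 IH) (Lpr_df (K51.f91453 IH) (Lpq (K51.f707857 IH) (Lpe (K51.f647669 IH) (Lpe (f506670 IH) (Lpr_gt (f761075 IH) (Lpn v17603)))))))))))
theorem f772273 : (LP (LK LD1_c6 LD2_c41 LD3_c0)) = v17603 :=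
  (Llr Lrot114 (Lpr_et (f650564 IH) (Lpq (f707567 IH) (Lpe (f647522 IH) (Lpe (f120147 IH) (Lpr_dt (f91482 IH) (Lpr_gt (f529941 IH) (Lpe (f529942 IH) (Lpr_et (f648949 IH) (Lpq (f772271 IH) (Lpe (f649071 IH) (Lpr_dt (f506695 IH) (Lpr_gt (f766762 IH) (Lpr_df (f766774 IH) (Lpn v17603))))))))))))))).symm
theorem f772274 : Led Lsl_gt (LP (LK LD1_c6 LD2_c20 LD3_c43)) = (LP (LK LD1_c6 LD2_c41 LD3_c0)) :=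
  Leop (Lpqs (f772273 IH) (Lpe (f761075 IH) (Lpn (LP (LK LD1_c6 LD2_c20 LD3_c43)))))
theorem seed_1328 : LEOK LG_g (LK LD1_c6 LD2_c20 LD3_c43) :=
  Leoe_g (LK LD1_c6 LD2_c20 LD3_c43) (f772274 IH)
theorem f509034 : Led Lsl_ct (LP (LK LD1_c3 LD2_c18 LD3_c34)) = (LP (LK LD1_c6 LD2_c41 LD3_c0)) :=
  Lre_c IH (LK LD1_c3 LD2_c18 LD3_c34) (LK LD1_c6 LD2_c41 LD3_c0) Lrfl Lrfl
def v6170 : LQ := Led Lsl_dt (LP (LK LD1_c3 LD2_c18 LD3_c34))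
theorem f651604 : Led Lsl_dt (LP (LK LD1_c3 LD2_c18 LD3_c34)) = v6170 :=
  Lrfl
theorem f62175 : Led Lsl_et (LP (LK LD1_c1 LD2_c35 LD3_c42)) = (LP (LK LD1_c3 LD2_c18 LD3_c34)) :=
  Lre_e IH (LK LD1_c1 LD2_c35 LD3_c42) (LK LD1_c3 LD2_c18 LD3_c34) Lrfl Lrfl
theorem f62163 : Led Lsl_dt (LP (LK LD1_c3 LD2_c18 LD3_c33)) = (LP (LK LD1_c1 LD2_c35 LD3_c42)) :=
  Lre_d IH (LK LD1_c3 LD2_c18 LD3_c33) (LK LD1_c1 LD2_c35 LD3_c42) Lrfl Lrfl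
def v6018 : LQ := Led Lsl_dt (LP (LK LD1_c3 LD2_c16 LD3_c23))
theorem f650565 : Led Lsl_dt (LP (LK LD1_c3 LD2_c16 LD3_c23)) = v6018 :=
  Lrfl
theorem f650567 : Led Lsl_df (LP (LK LD1_c3 LD2_c16 LD3_c23)) = v6018 :=
  Lgr Lrot38 (Lpr_dt (f650565 IH) (Lpn v6018))
theorem f651607 : Led Lsl_ef v6018 = v6170 :=
  Lgr Lrot73 (Lpe (f650567 IH) (Lpe (K48.f62092 IH) (Lpr_dt (f62163 IH) (Lpr_et (f62175 IH) (Lpr_dt (f651604 IH) (Lpn v6170))))))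
theorem f650568 : Led Lsl_ff (LP (LK LD1_c3 LD2_c18 LD3_c33)) = v6018 :=
  Lgr Lrot19 (Lpr_dt (f62163 IH) (Lpr_ft (K46.f509021 IH) (Lpqs (K46.f624144 IH) (Lpr_dt (f650565 IH) (Lpn v6018)))))
theorem f62115 : Led Lsl_bt (LP (LK LD1_c1 LD2_c35 LD3_c44)) = (LP (LK LD1_c3 LD2_c18 LD3_c33)) :=
  Lre_b IH (LK LD1_c1 LD2_c35 LD3_c44) (LK LD1_c3 LD2_c18 LD3_c33) Lrfl Lrfl
theorem f62116 : Led Lsl_bt (LP (LK LD1_c3 LD2_c16 LD3_c23)) = (LP (LK LD1_c1 LD2_c34 LD3_c55)) :=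
  Lre_b IH (LK LD1_c3 LD2_c16 LD3_c23) (LK LD1_c1 LD2_c34 LD3_c55) Lrfl Lrfl
theorem f62117 : Led Lsl_et (LP (LK LD1_c3 LD2_c18 LD3_c33)) = (LP (LK LD1_c3 LD2_c16 LD3_c23)) :=
  Lgr Lrot74 (Lpe (f62115 IH) (Lpr_ef (K32.f62104 IH) (Lpe (f62116 IH) (Lpn (LP (LK LD1_c3 LD2_c16 LD3_c23))))))
theorem f651610 : Led Lsl_ft (LP (LK LD1_c3 LD2_c18 LD3_c34)) = v6170 :=
  Lgr Lrot86 (Lpe (f62175 IH) (Lpr_ff (K46.f509023 IH) (Lpqs (K46.f624144 IH) (Lpe (f62117 IH) (Lpr_ff (f650568 IH) (Lpr_ef (f651607 IH) (Lpn v6170)))))))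
theorem f651611 : Led Lsl_ff (LP (LK LD1_c3 LD2_c18 LD3_c34)) = v6170 :=
  Lgr Lrot3 (Lpr_ft (f651610 IH) (Lpn v6170))
theorem f623807 : Led Lsl_cf K51.v497 = K58.v3086 :=
  Lgr Lrot11 (Lpr_ct (K58.f623806 IH) (Lpn K58.v3086))
def v9830 : LQ := Led Lsl_ct K51.v3087
theorem f677722 : Led Lsl_ct K51.v3087 = v9830 :=
  Lrfl
theorem f677723 : Led Lsl_cf K51.v3087 = v9830 :=
  Lgr Lrot11 (Lpr_ct (f677722 IH) (Lpn v9830))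
theorem f82672 : Led Lsl_ct (LP (LK LD1_c6 LD2_c29 LD3_c14)) = (LP (LK LD1_c3 LD2_c12 LD3_c33)) :=
  Lre_c IH (LK LD1_c6 LD2_c29 LD3_c14) (LK LD1_c3 LD2_c12 LD3_c33) Lrfl Lrfl
theorem f506673 : Led Lsl_ct (LP (LK LD1_c3 LD2_c7 LD3_c55)) = (LP (LK LD1_c6 LD2_c20 LD3_c43)) :=
  Lre_c IH (LK LD1_c3 LD2_c7 LD3_c55) (LK LD1_c6 LD2_c20 LD3_c43) Lrfl Lrfl
theorem f715898 : Led Lsl_ff (LP (LK LD1_c6 LD2_c29 LD3_c14)) = (LP (LK LD1_c6 LD2_c20 LD3_c43)) :=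
  Lgr Lrot23 (Lpr_ct (f82672 IH) (Lpq (K51.f707773 IH) (Lpe (K51.f647676 IH) (Lpr_ct (f506673 IH) (Lpn (LP (LK LD1_c6 LD2_c20 LD3_c43)))))))
theorem f715900 : Led Lsl_ft (LP (LK LD1_c6 LD2_c29 LD3_c14)) = (LP (LK LD1_c6 LD2_c20 LD3_c43)) :=
  Lgr Lrot48 (Lpr_ff (f715898 IH) (Lpn (LP (LK LD1_c6 LD2_c20 LD3_c43))))
theorem f91463 : Led Lsl_gt (LP (LK LD1_c6 LD2_c29 LD3_c14)) = (LP (LK LD1_c12 LD2_c28 LD3_c46)) :=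
  Lre_g IH (LK LD1_c6 LD2_c29 LD3_c14) (LK LD1_c12 LD2_c28 LD3_c46) Lrfl Lrfl
theorem f204525 : Led Lsl_ct (LP (LK LD1_c6 LD2_c19 LD3_c44)) = (LP (LK LD1_c3 LD2_c7 LD3_c20)) :=
  Lre_c IH (LK LD1_c6 LD2_c19 LD3_c44) (LK LD1_c3 LD2_c7 LD3_c20) Lrfl Lrfl
theorem f677724 : Led Lsl_ef (LP (LK LD1_c6 LD2_c19 LD3_c44)) = v9830 :=
  Lgr Lrot28 (Lpr_ct (f204525 IH) (Lpr_et (K51.f623812 IH) (Lpr_ct (f677722 IH) (Lpn v9830))))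
theorem f647622 : Led Lsl_et (LP (LK LD1_c3 LD2_c7 LD3_c53)) = (LP (LK LD1_c6 LD2_c20 LD3_c43)) :=
  Lre_e IH (LK LD1_c3 LD2_c7 LD3_c53) (LK LD1_c6 LD2_c20 LD3_c43) Lrfl Lrfl
theorem f707895 : Led Lsl_af v9830 = (LP (LK LD1_c6 LD2_c20 LD3_c43)) :=
  Lgr Lrot50 (Lpe (f677724 IH) (Lpq (f707828 IH) (Lpe (K46.f647611 IH) (Lpr_et (f647622 IH) (Lpn (LP (LK LD1_c6 LD2_c20 LD3_c43)))))))
theorem f715903 : Led Lsl_gt (LP (LK LD1_c12 LD2_c28 LD3_c46)) = v9830 :=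
  Lgr Lrot46 (Lpe (f91463 IH) (Lpr_ft (f715900 IH) (Lpe (f707895 IH) (Lpn v9830))))
def v18699 : LQ := Led Lsl_gt (LP (LK LD1_c6 LD2_c32 LD3_c14))
theorem f768100 : Led Lsl_gt (LP (LK LD1_c6 LD2_c32 LD3_c14)) = v18699 :=
  Lrfl
theorem f770749 : Led Lsl_cf (LP (LK LD1_c12 LD2_c28 LD3_c46)) = v18699 :=
  Lgr Lrot169 (Lpr_gt (f715903 IH) (Lpe (f677723 IH) (Lpe (K51.f623808 IH) (Lpr_cf (f623807 IH) (Lpe (K58.f649085 IH) (Lpr_cf (K58.f671111 IH) (Lpqs (f770748 IH) (Lpe (f649838 IH) (Lpe (K58.f648892 IH) (Lpr_gt (f768100 IH) (Lpn v18699)))))))))))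
theorem f82673 : Led Lsl_ct (LP (LK LD1_c3 LD2_c12 LD3_c33)) = (LP (LK LD1_c6 LD2_c29 LD3_c14)) :=
  Lre_c IH (LK LD1_c3 LD2_c12 LD3_c33) (LK LD1_c6 LD2_c29 LD3_c14) Lrfl Lrfl
theorem f68378 : Led Lsl_bt (LP (LK LD1_c1 LD2_c33 LD3_c47)) = (LP (LK LD1_c3 LD2_c14 LD3_c31)) :=
  Lre_b IH (LK LD1_c1 LD2_c33 LD3_c47) (LK LD1_c3 LD2_c14 LD3_c31) Lrfl Lrfl
def v5889 : LQ := Led Lsl_gf (LP (LK LD1_c3 LD2_c14 LD3_c31))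
theorem f649953 : Led Lsl_gf (LP (LK LD1_c3 LD2_c14 LD3_c31)) = v5889 :=
  Lrfl
theorem f770752 : Led Lsl_bf v5889 = v18699 :=
  Lgr Lrot156 (Lpe (f649953 IH) (Lpe (f68378 IH) (Lpr_ct (K35.f68382 IH) (Lpr_gt (K48.f507769 IH) (Lpr_cf (K24.f446006 IH) (Lpr_bt (K51.f649258 IH) (Lpq (K51.f707856 IH) (Lpe (K51.f649089 IH) (Lpr_ct (f82673 IH) (Lpr_gt (f91463 IH) (Lpr_cf (f770749 IH) (Lpn v18699))))))))))))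
theorem f770753 : Led Lsl_bt v5889 = v18699 :=
  Lgr Lrot127 (Lpr_bf (f770752 IH) (Lpn v18699))
theorem f650566 : Led Lsl_bf (LP (LK LD1_c3 LD2_c16 LD3_c25)) = v6018 :=
  Lgr Lrot93 (Lpr_dt (K46.f62125 IH) (Lpr_bt (K46.f62091 IH) (Lpr_dt (f650565 IH) (Lpn v6018))))
theorem f651608 : Led Lsl_bt (LP (LK LD1_c3 LD2_c18 LD3_c40)) = v6170 :=
  Lgr Lrot119 (Lpr_ef (K46.f62102 IH) (Lpr_bf (f650566 IH) (Lpr_ef (f651607 IH) (Lpn v6170))))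
theorem f771696 : (LP (LK LD1_c3 LD2_c18 LD3_c40)) = v5889 :=
  Lefun (Lecon (Lfl_gt (K46.f624035 IH)) (f771612 IH)) (f649953 IH)
theorem f771784 : v18699 = v6170 :=
  Lefun (Lecon (f770753 IH) (f771696 IH).symm) (f651608 IH)
theorem f770751 : Led Lsl_ct (LP (LK LD1_c12 LD2_c28 LD3_c46)) = v18699 :=
  Lgr Lrot59 (Lpr_cf (f770749 IH) (Lpn v18699))
theorem f772275 : Led Lsl_ff (LP (LK LD1_c12 LD2_c28 LD3_c46)) = (LP (LK LD1_c6 LD2_c41 LD3_c0)) :=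
  Lgr Lrot23 (Lpr_ct (f770751 IH) (Lpqs (f771784 IH) (Lpe (f651611 IH) (Lpr_ct (f509034 IH) (Lpn (LP (LK LD1_c6 LD2_c41 LD3_c0)))))))
theorem f772276 : Led Lsl_ft (LP (LK LD1_c6 LD2_c41 LD3_c0)) = (LP (LK LD1_c12 LD2_c28 LD3_c46)) :=
  Leop (Lpr_ff (f772275 IH) (Lpn (LP (LK LD1_c6 LD2_c41 LD3_c0))))
theorem seed_1329 : LEOK LG_f (LK LD1_c6 LD2_c41 LD3_c0) :=
  Leoe_f (LK LD1_c6 LD2_c41 LD3_c0) (f772276 IH)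
def v18406 : LQ := Led Lsl_at (LP (LK LD1_c6 LD2_c29 LD3_c14))
theorem f766797 : Led Lsl_at (LP (LK LD1_c6 LD2_c29 LD3_c14)) = v18406 :=
  Lrfl
theorem f766801 : Led Lsl_gt v17603 = v18406 :=
  Lgr Lrot46 (Lpe (f761075 IH) (Lpe (f715898 IH) (Lpr_at (f766797 IH) (Lpn v18406))))
theorem f707896 : Led Lsl_at v9830 = (LP (LK LD1_c6 LD2_c20 LD3_c43)) :=
  Lgr Lrot100 (Lpr_af (f707895 IH) (Lpn (LP (LK LD1_c6 LD2_c20 LD3_c43))))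
theorem f766800 : Led Lsl_ff v9830 = v18406 :=
  Lgr Lrot30 (Lpr_at (f707896 IH) (Lpe (f715898 IH) (Lpr_at (f766797 IH) (Lpn v18406))))
def v17604 : LQ := Led Lsl_gf (LP (LK LD1_c6 LD2_c20 LD3_c43))
theorem f761076 : Led Lsl_gf (LP (LK LD1_c6 LD2_c20 LD3_c43)) = v17604 :=
  Lrfl
theorem f766804 : Led Lsl_gf v17604 = v18406 :=
  Lgr Lrot47 (Lpe (f761076 IH) (Lpe (f707896 IH) (Lpr_ff (f766800 IH) (Lpn v18406))))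
theorem f772281 : Led Lsl_at (LP (LK LD1_c12 LD2_c28 LD3_c46)) = v17604 :=
  Lgr Lrot26 (Lpr_ff (f772275 IH) (Lpqs (f772273 IH) (Lpr_gt (f766801 IH) (Lpe (f766804 IH) (Lpn v17604)))))
theorem f772282 : Led Lsl_af (LP (LK LD1_c12 LD2_c28 LD3_c46)) = v17604 :=
  Lgr Lrot0 (Lpr_at (f772281 IH) (Lpn v17604))
def v18405 : LQ := Led Lsl_gf (LP (LK LD1_c6 LD2_c29 LD3_c14))
theorem f766796 : Led Lsl_gf (LP (LK LD1_c6 LD2_c29 LD3_c14)) = v18405 :=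
  Lrfl
theorem f772283 : Led Lsl_ft v18405 = v17604 :=
  Lgr Lrot2 (Lpe (f766796 IH) (Lpr_gt (f91463 IH) (Lpr_af (f772282 IH) (Lpn v17604))))
theorem f772285 : Led Lsl_ff v18405 = v17604 :=
  Lgr Lrot3 (Lpr_ft (f772283 IH) (Lpn v17604))
theorem f772286 : Led Lsl_at v18405 = (LP (LK LD1_c6 LD2_c41 LD3_c0)) :=
  Lgr Lrot66 (Lpr_ff (f772285 IH) (Lpe (f772281 IH) (Lpr_ff (f772275 IH) (Lpn (LP (LK LD1_c6 LD2_c41 LD3_c0))))))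
theorem f624114 : Led Lsl_ct (LP (LK LD1_c6 LD2_c41 LD3_c0)) = (LP (LK LD1_c3 LD2_c18 LD3_c34)) :=
  Lre_c IH (LK LD1_c6 LD2_c41 LD3_c0) (LK LD1_c3 LD2_c18 LD3_c34) Lrfl Lrfl
theorem f509041 : Led Lsl_at (LP (LK LD1_c3 LD2_c18 LD3_c34)) = (LP (LK LD1_c6 LD2_c40 LD3_c59)) :=
  Lre_a IH (LK LD1_c3 LD2_c18 LD3_c34) (LK LD1_c6 LD2_c40 LD3_c59) Lrfl Lrfl
theorem f772288 : Led Lsl_cf v18405 = (LP (LK LD1_c6 LD2_c40 LD3_c59)) :=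
  Lgr Lrot1 (Lpr_at (f772286 IH) (Lpr_ct (f624114 IH) (Lpr_at (f509041 IH) (Lpn (LP (LK LD1_c6 LD2_c40 LD3_c59))))))
theorem f82991 : Led Lsl_ct (LP (LK LD1_c3 LD2_c12 LD3_c32)) = (LP (LK LD1_c1 LD2_c32 LD3_c44)) :=
  Lre_c IH (LK LD1_c3 LD2_c12 LD3_c32) (LK LD1_c1 LD2_c32 LD3_c44) Lrfl Lrfl
def v17019 : LQ := Led Lsl_dt (LP (LK LD1_c6 LD2_c10 LD3_c28))
theorem f754373 : Led Lsl_dt (LP (LK LD1_c6 LD2_c10 LD3_c28)) = v17019 :=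
  Lrfl
theorem f754374 : Led Lsl_df (LP (LK LD1_c6 LD2_c10 LD3_c28)) = v17019 :=
  Lgr Lrot38 (Lpr_dt (f754373 IH) (Lpn v17019))
def v18701 : LQ := Led Lsl_at (LP (LK LD1_c6 LD2_c32 LD3_c14))
theorem f768103 : Led Lsl_at (LP (LK LD1_c6 LD2_c32 LD3_c14)) = v18701 :=
  Lrfl
theorem f648904 : Led Lsl_dt (LP (LK LD1_c3 LD2_c14 LD3_c17)) = (LP (LK LD1_c6 LD2_c32 LD3_c14)) :=
  Lre_d IH (LK LD1_c3 LD2_c14 LD3_c17) (LK LD1_c6 LD2_c32 LD3_c14) Lrfl Lrfl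
theorem f768105 : Led Lsl_df v5858 = v18701 :=
  Lgr Lrot18 (Lpe (f649844 IH) (Lpr_dt (f648904 IH) (Lpr_at (f768103 IH) (Lpn v18701))))
theorem f768111 : Led Lsl_dt v5858 = v18701 :=
  Lgr Lrot42 (Lpr_df (f768105 IH) (Lpn v18701))
theorem f772256 : v18701 = v17019 :=
  Lefun (Lecon (f768111 IH) (((f663859 IH).trans (f770713 IH)).trans (f772249 IH).symm)) (f754373 IH)
def v17564 : LQ := Led Lsl_et (LP (LK LD1_c6 LD2_c20 LD3_c29))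
theorem f760927 : Led Lsl_et (LP (LK LD1_c6 LD2_c20 LD3_c29)) = v17564 :=
  Lrfl
theorem f760928 : Led Lsl_af K58.v6216 = v17564 :=
  Lgr Lrot50 (Lpe (K58.f652126 IH) (Lpr_at (K57.f652115 IH) (Lpqs (K57.f663763 IH) (Lpr_et (f760927 IH) (Lpn v17564)))))
theorem f768106 : Led Lsl_ff v17564 = v18701 :=
  Lgr Lrot30 (Lpe (f760928 IH) (Lpe (K58.f663846 IH) (Lpr_at (f768103 IH) (Lpn v18701))))
theorem f768108 : Led Lsl_ft v17564 = v18701 :=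
  Lgr Lrot48 (Lpr_ff (f768106 IH) (Lpn v18701))
theorem f772262 : Led Lsl_df v17564 = v17012 :=
  Lgr Lrot78 (Lpr_ft (f768108 IH) (Lpqs (f772256 IH) (Lpe (f754374 IH) (Lpr_ft (f754377 IH) (Lpq (f772259 IH) (Lpn v17012))))))
theorem f768104 : Led Lsl_af (LP (LK LD1_c6 LD2_c32 LD3_c14)) = v18701 :=
  Lgr Lrot0 (Lpr_at (f768103 IH) (Lpn v18701))
def v18700 : LQ := Led Lsl_gf (LP (LK LD1_c6 LD2_c32 LD3_c14))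
theorem f768102 : Led Lsl_gf (LP (LK LD1_c6 LD2_c32 LD3_c14)) = v18700 :=
  Lrfl
theorem f768110 : Led Lsl_gt v17564 = v18700 :=
  Lgr Lrot5 (Lpr_ft (f768108 IH) (Lpe (f768104 IH) (Lpr_gf (f768102 IH) (Lpn v18700))))
theorem f772292 : v18700 = (LP (LK LD1_c6 LD2_c40 LD3_c59)) :=
  (Llr Lrot9 (Lpe (f768110 IH) (Lpr_df (f772262 IH) (Lpe (f754333 IH) (Lpr_ct (f648954 IH) (Lpq (f772271 IH) (Lpe (f649071 IH) (Lpr_ct (f82991 IH) (Lpe (K51.f82676 IH) (Lpe (f82672 IH) (Lpr_gf (f766796 IH) (Lpr_cf (f772288 IH) (Lpn (LP (LK LD1_c6 LD2_c40 LD3_c59))))))))))))))).symm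
theorem f772293 : Led Lsl_gt (LP (LK LD1_c6 LD2_c40 LD3_c59)) = (LP (LK LD1_c6 LD2_c32 LD3_c14)) :=
  Leop (Lpr_gf (f768102 IH) (Lpqs (f772292 IH) (Lpn (LP (LK LD1_c6 LD2_c40 LD3_c59)))))
theorem seed_1330 : LEOK LG_g (LK LD1_c6 LD2_c40 LD3_c59) :=
  Leoe_g (LK LD1_c6 LD2_c40 LD3_c59) (f772293 IH)
def v13744 : LQ := Led Lsl_bt (LP (LK LD1_c4 LD2_c47 LD3_c45))
theorem f704618 : Led Lsl_bt (LP (LK LD1_c4 LD2_c47 LD3_c45)) = v13744 :=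
  Lrfl
def v6439 : LQ := Led Lsl_bt (LP (LK LD1_c3 LD2_c21 LD3_c47))
theorem f653426 : Led Lsl_bt (LP (LK LD1_c3 LD2_c21 LD3_c47)) = v6439 :=
  Lrfl
theorem f653427 : Led Lsl_bf (LP (LK LD1_c3 LD2_c21 LD3_c47)) = v6439 :=
  Lgr Lrot24 (Lpr_bt (f653426 IH) (Lpn v6439))
theorem f708315 : Led Lsl_ef v6439 = v13744 :=
  Lgr Lrot29 (Lpe (f653427 IH) (Lpq (K51.f708307 IH) (Lpe (K51.f632998 IH) (Lpr_bt (f704618 IH) (Lpn v13744)))))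
theorem f708333 : Led Lsl_et v6439 = v13744 :=
  Lgr Lrot87 (Lpr_ef (f708315 IH) (Lpn v13744))
def v6025 : LQ := Led Lsl_et (LP (LK LD1_c3 LD2_c16 LD3_c34))
theorem f650617 : Led Lsl_et (LP (LK LD1_c3 LD2_c16 LD3_c34)) = v6025 :=
  Lrfl
theorem f650618 : Led Lsl_ef (LP (LK LD1_c3 LD2_c16 LD3_c34)) = v6025 :=
  Lgr Lrot88 (Lpr_et (f650617 IH) (Lpn v6025))
def v2050 : LQ := Led Lsl_et (LP (LK LD1_c1 LD2_c34 LD3_c17))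
def v8466 : LQ := Led Lsl_gf v2050
theorem f671313 : Led Lsl_gf v2050 = v8466 :=
  Lrfl
theorem f508575 : Led Lsl_et (LP (LK LD1_c1 LD2_c34 LD3_c17)) = v2050 :=
  Lrfl
theorem f508578 : Led Lsl_ef (LP (LK LD1_c1 LD2_c34 LD3_c17)) = v2050 :=
  Lgr Lrot88 (Lpr_et (f508575 IH) (Lpn v2050))
theorem f65539 : Led Lsl_et (LP (LK LD1_c0 LD2_c43 LD3_c49)) = (LP (LK LD1_c0 LD2_c43 LD3_c49)) :=
  Lgr Lrot123 (Lpe (K3.f65538 IH) (Lpr_ef (K3.f65403 IH) (Lpe (K3.f23332 IH) (Lpn (LP (LK LD1_c0 LD2_c43 LD3_c49))))))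
theorem f508581 : Led Lsl_dt v2050 = v2050 :=
  Lgr Lrot77 (Lpe (f508575 IH) (Lpe (K3.f65547 IH) (Lpe (f65539 IH) (Lpe (K5.f65546 IH) (Lpr_ef (f508578 IH) (Lpn v2050))))))
def v1781 : LQ := Led Lsl_dt (LP (LK LD1_c1 LD2_c26 LD3_c43))
theorem f502844 : Led Lsl_dt (LP (LK LD1_c1 LD2_c26 LD3_c43)) = v1781 :=
  Lrfl
theorem f126601 : Led Lsl_ef (LP (LK LD1_c0 LD2_c43 LD3_c48)) = (LP (LK LD1_c1 LD2_c26 LD3_c43)) :=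
  Lgr Lrot28 (Lpr_ct (K3.f79259 IH) (Lpr_et (K5.f126599 IH) (Lpr_ct (K4.f77833 IH) (Lpn (LP (LK LD1_c1 LD2_c26 LD3_c43))))))
theorem f126572 : Led Lsl_dt (LP (LK LD1_c1 LD2_c37 LD3_c41)) = (LP (LK LD1_c1 LD2_c33 LD3_c61)) :=
  Lgr Lrot79 (Lpe (K4.f77835 IH) (Lpr_df (K5.f126566 IH) (Lpe (K42.f24030 IH) (Lpn (LP (LK LD1_c1 LD2_c33 LD3_c61))))))
theorem f502850 : Led Lsl_gt (LP (LK LD1_c1 LD2_c34 LD3_c17)) = v1781 :=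
  Lgr Lrot112 (Lpe (K3.f65547 IH) (Lpr_et (f65539 IH) (Lpr_gf (K3.f104160 IH) (Lpr_ef (K5.f126594 IH) (Lpr_dt (f126572 IH) (Lpr_gf (K48.f209759 IH) (Lpe (K3.f23561 IH) (Lpe (K2.f23342 IH) (Lpr_ef (f126601 IH) (Lpr_dt (f502844 IH) (Lpn v1781)))))))))))
theorem f502847 : Led Lsl_df (LP (LK LD1_c1 LD2_c26 LD3_c43)) = v1781 :=
  Lgr Lrot38 (Lpr_dt (f502844 IH) (Lpn v1781))
theorem f77787 : Led Lsl_et (LP (LK LD1_c0 LD2_c44 LD3_c11)) = (LP (LK LD1_c1 LD2_c34 LD3_c60)) :=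
  Lre_e IH (LK LD1_c0 LD2_c44 LD3_c11) (LK LD1_c1 LD2_c34 LD3_c60) Lrfl Lrfl
theorem f78982 : Led Lsl_gt (LP (LK LD1_c1 LD2_c34 LD3_c60)) = (LP (LK LD1_c3 LD2_c16 LD3_c34)) :=
  Lre_g IH (LK LD1_c1 LD2_c34 LD3_c60) (LK LD1_c3 LD2_c16 LD3_c34) Lrfl Lrfl
theorem f671315 : Led Lsl_dt v6025 = v8466 :=
  Lgr Lrot136 (Lpe (f650618 IH) (Lpe (f78982 IH) (Lpe (f77787 IH) (Lpe (K2.f64462 IH) (Lpe (K3.f61671 IH) (Lpr_df (f502847 IH) (Lpe (f502850 IH) (Lpr_ef (f508578 IH) (Lpr_dt (f508581 IH) (Lpr_gf (f671313 IH) (Lpn v8466)))))))))))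
theorem f671316 : Led Lsl_df v6025 = v8466 :=
  Lgr Lrot38 (Lpr_dt (f671315 IH) (Lpn v8466))
def v4373 : LQ := Led Lsl_bt (LP (LK LD1_c2 LD2_c20 LD3_c10))
theorem f632992 : Led Lsl_bt (LP (LK LD1_c2 LD2_c20 LD3_c10)) = v4373 :=
  Lrfl
theorem f715548 : Led Lsl_df v6439 = v4373 :=
  Lgr Lrot12 (Lpe (f653427 IH) (Lpq (K51.f708307 IH) (Lpe (K51.f632996 IH) (Lpr_bt (f632992 IH) (Lpn v4373)))))
theorem f129618 : Led Lsl_bt (LP (LK LD1_c1 LD2_c34 LD3_c17)) = (LP (LK LD1_c3 LD2_c1 LD3_c51)) :=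
  Lgr Lrot127 (Lpr_bf (K5.f129614 IH) (Lpn (LP (LK LD1_c3 LD2_c1 LD3_c51))))
theorem f508580 : Led Lsl_bt (LP (LK LD1_c6 LD2_c10 LD3_c26)) = v2050 :=
  Lgr Lrot119 (Lpe (f128906 IH) (Lpe (f129618 IH) (Lpr_ef (f508578 IH) (Lpn v2050))))
def v13473 : LQ := Led Lsl_ft (LP (LK LD1_c4 LD2_c44 LD3_c20))
theorem f703203 : Led Lsl_ft (LP (LK LD1_c4 LD2_c44 LD3_c20)) = v13473 :=
  Lrfl
theorem f703204 : Led Lsl_af (LP (LK LD1_c4 LD2_c44 LD3_c22)) = v13473 :=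
  Lgr Lrot45 (Lpr_ft (K58.f703194 IH) (Lpe (K58.f703191 IH) (Lpr_ft (f703203 IH) (Lpn v13473))))
theorem f703207 : Led Lsl_gt K50.v13469 = (LP (LK LD1_c4 LD2_c44 LD3_c22)) :=
  Lgr Lrot46 (Lpe (K50.f703171 IH) (Lpr_ft (f703203 IH) (Lpe (f703204 IH) (Lpn (LP (LK LD1_c4 LD2_c44 LD3_c22))))))
theorem f772306 : v8466 = v4373 :=
  (Llr Lrot124 (Lpe (f671313 IH) (Lpe (f508580 IH) (Lpr_ct (f648954 IH) (Lpq (f772271 IH) (Lpe (f649071 IH) (Lpe (K58.f82674 IH) (Lpr_bt (f506712 IH) (Lpr_gt (K58.f649052 IH) (Lpqs (K58.f767179 IH) (Lpr_ct (K50.f703174 IH) (Lpr_gt (f703207 IH) (Lpe (K51.f144058 IH) (Lpr_bt (f632992 IH) (Lpn v4373))))))))))))))).symm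
theorem f772307 : v6025 = v6439 :=
  Lefun (Lecon (Lfl_df (f671316 IH)) (f772306 IH)) (Lfl_df (f715548 IH))
theorem f772308 : v13744 = (LP (LK LD1_c3 LD2_c16 LD3_c34)) :=
  Lefun (Lecon (f708333 IH) (f772307 IH).symm) (Lfl_ef (f650618 IH))
theorem f772310 : Led Lsl_bt (LP (LK LD1_c4 LD2_c47 LD3_c45)) = (LP (LK LD1_c3 LD2_c16 LD3_c34)) :=
  Leop (Lpq (f772308 IH) (Lpe (f704618 IH) (Lpn (LP (LK LD1_c4 LD2_c47 LD3_c45)))))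
theorem seed_1331 : LEOK LG_b (LK LD1_c4 LD2_c47 LD3_c45) :=
  Leoe_b (LK LD1_c4 LD2_c47 LD3_c45) (f772310 IH)
theorem f703193 : Led Lsl_ct K51.v4369 = K58.v13471 :=
  Lgr Lrot59 (Lpr_cf (K58.f703192 IH) (Lpn K58.v13471))
def v2052 : LQ := Led Lsl_gf (LP (LK LD1_c1 LD2_c34 LD3_c19))
def v8476 : LQ := Led Lsl_dt v2052
theorem f671345 : Led Lsl_dt v2052 = v8476 :=
  Lrfl
theorem f671346 : Led Lsl_df v2052 = v8476 :=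
  Lgr Lrot38 (Lpr_dt (f671345 IH) (Lpn v8476))
theorem f508584 : Led Lsl_gf (LP (LK LD1_c1 LD2_c34 LD3_c19)) = v2052 :=
  Lrfl
theorem f65466 : Led Lsl_bt (LP (LK LD1_c1 LD2_c34 LD3_c19)) = (LP (LK LD1_c0 LD2_c43 LD3_c57)) :=
  Lre_b IH (LK LD1_c1 LD2_c34 LD3_c19) (LK LD1_c0 LD2_c43 LD3_c57) Lrfl Lrfl
theorem f65467 : Led Lsl_dt (LP (LK LD1_c1 LD2_c34 LD3_c19)) = (LP (LK LD1_c1 LD2_c34 LD3_c19)) :=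
  Lgr Lrot79 (Lpe (f65465 IH) (Lpr_df (K5.f65408 IH) (Lpe (f65466 IH) (Lpn (LP (LK LD1_c1 LD2_c34 LD3_c19))))))
theorem f65494 : Led Lsl_et (LP (LK LD1_c1 LD2_c34 LD3_c19)) = (LP (LK LD1_c0 LD2_c43 LD3_c50)) :=
  Lre_e IH (LK LD1_c1 LD2_c34 LD3_c19) (LK LD1_c0 LD2_c43 LD3_c50) Lrfl Lrfl
theorem f671347 : Led Lsl_ef (LP (LK LD1_c6 LD2_c36 LD3_c18)) = v8476 :=
  Lgr Lrot17 (Lpe (K46.f78782 IH) (Lpe (K46.f78761 IH) (Lpr_dt (K4.f78724 IH) (Lpr_gf (K4.f114916 IH) (Lpr_df (K5.f126561 IH) (Lpr_gf (K48.f209759 IH) (Lpe (f65494 IH) (Lpr_dt (f65467 IH) (Lpr_gf (f508584 IH) (Lpr_df (f671346 IH) (Lpn v8476)))))))))))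
def v6023 : LQ := Led Lsl_at (LP (LK LD1_c3 LD2_c16 LD3_c34))
theorem f650608 : Led Lsl_at (LP (LK LD1_c3 LD2_c16 LD3_c34)) = v6023 :=
  Lrfl
theorem f650609 : Led Lsl_af (LP (LK LD1_c3 LD2_c16 LD3_c34)) = v6023 :=
  Lgr Lrot0 (Lpr_at (f650608 IH) (Lpn v6023))
theorem f77788 : Led Lsl_gt (LP (LK LD1_c3 LD2_c16 LD3_c35)) = (LP (LK LD1_c1 LD2_c34 LD3_c60)) :=
  Lre_g IH (LK LD1_c3 LD2_c16 LD3_c35) (LK LD1_c1 LD2_c34 LD3_c60) Lrfl Lrfl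
theorem f650610 : Led Lsl_ft (LP (LK LD1_c3 LD2_c16 LD3_c35)) = v6023 :=
  Lgr Lrot2 (Lpr_gt (f77788 IH) (Lpr_gt (f78982 IH) (Lpr_af (f650609 IH) (Lpn v6023))))
theorem f650613 : Led Lsl_ff (LP (LK LD1_c3 LD2_c16 LD3_c35)) = v6023 :=
  Lgr Lrot3 (Lpr_ft (f650610 IH) (Lpn v6023))
def v6026 : LQ := Led Lsl_ft (LP (LK LD1_c3 LD2_c16 LD3_c34))
theorem f650619 : Led Lsl_ft (LP (LK LD1_c3 LD2_c16 LD3_c34)) = v6026 :=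
  Lrfl
theorem f650621 : Led Lsl_ff (LP (LK LD1_c3 LD2_c16 LD3_c34)) = v6026 :=
  Lgr Lrot3 (Lpr_ft (f650619 IH) (Lpn v6026))
theorem f650624 : Led Lsl_at (LP (LK LD1_c3 LD2_c16 LD3_c35)) = v6026 :=
  Lgr Lrot66 (Lpr_ff (f650613 IH) (Lpe (f650608 IH) (Lpr_ff (f650621 IH) (Lpn v6026))))
def v13777 : LQ := Led Lsl_ft (LP (LK LD1_c4 LD2_c47 LD3_c56))
theorem f704794 : Led Lsl_ft (LP (LK LD1_c4 LD2_c47 LD3_c56)) = v13777 :=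
  Lrfl
theorem f704796 : Led Lsl_ff (LP (LK LD1_c4 LD2_c47 LD3_c56)) = v13777 :=
  Lgr Lrot3 (Lpr_ft (f704794 IH) (Lpn v13777))
theorem f704797 : Led Lsl_bt K57.v4454 = v13777 :=
  Lgr Lrot35 (Lpe (K57.f633488 IH) (Lpe (K57.f92166 IH) (Lpr_ff (f704796 IH) (Lpn v13777))))
theorem f704615 : Led Lsl_af (LP (LK LD1_c4 LD2_c47 LD3_c45)) = K51.v13743 :=
  Lgr Lrot0 (Lpr_at (K51.f704614 IH) (Lpn K51.v13743))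
theorem f709301 : (LP (LK LD1_c4 LD2_c47 LD3_c45)) = K57.v4454 :=
  Lefun (Lecon (Lfl_af (f704615 IH)) (K51.f709300 IH)) (K57.f633486 IH)
theorem f709305 : v13777 = v13744 :=
  Lefun (Lecon (f704797 IH) (f709301 IH).symm) (f704618 IH)
theorem f772312 : (LP (LK LD1_c4 LD2_c47 LD3_c56)) = v6026 :=
  Lefun (Lecon (Lfl_ff (f704796 IH)) ((f709305 IH).trans (f772308 IH))) (f650619 IH)
def v13773 : LQ := Led Lsl_gf (LP (LK LD1_c4 LD2_c47 LD3_c56))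
theorem f704782 : Led Lsl_gf (LP (LK LD1_c4 LD2_c47 LD3_c56)) = v13773 :=
  Lrfl
def v6020 : LQ := Led Lsl_gf (LP (LK LD1_c3 LD2_c16 LD3_c29))
theorem f650575 : Led Lsl_gf (LP (LK LD1_c3 LD2_c16 LD3_c29)) = v6020 :=
  Lrfl
theorem f650576 : Led Lsl_gt (LP (LK LD1_c3 LD2_c16 LD3_c37)) = v6020 :=
  Lgr Lrot5 (Lpr_ft (K46.f441072 IH) (Lpr_at (K46.f119180 IH) (Lpr_gf (f650575 IH) (Lpn v6020))))
theorem f771997 : (LP (LK LD1_c4 LD2_c47 LD3_c56)) = v6020 :=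
  Lefun (Lecon (Lfl_gt (K57.f704776 IH)) (f771957 IH)) (f650575 IH)
theorem f772041 : (LP (LK LD1_c3 LD2_c16 LD3_c37)) = v13773 :=
  Lefun (Lecon (Lfl_gt (f650576 IH)) (f771997 IH).symm) (f704782 IH)
theorem f772318 : v6023 = (LP (LK LD1_c6 LD2_c36 LD3_c18)) :=
  (Llr Lrot52 (Lpe (f650613 IH) (Lpr_at (f650624 IH) (Lpq (f772312 IH) (Lpr_gf (f704782 IH) (Lpq (f772041 IH) (Lpe (K46.f650581 IH) (Lpn (LP (LK LD1_c6 LD2_c36 LD3_c18)))))))))).symm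
theorem f772323 : Led Lsl_af v8476 = v6025 :=
  Lgr Lrot50 (Lpe (f671347 IH) (Lpq (f772318 IH) (Lpe (f650609 IH) (Lpr_et (f650617 IH) (Lpn v6025)))))
def v2051 : LQ := Led Lsl_gt (LP (LK LD1_c1 LD2_c34 LD3_c19))
def v8473 : LQ := Led Lsl_ft v2051
theorem f671337 : Led Lsl_ft v2051 = v8473 :=
  Lrfl
theorem f671339 : Led Lsl_ff v2051 = v8473 :=
  Lgr Lrot3 (Lpr_ft (f671337 IH) (Lpn v8473))
def v8468 : LQ := Led Lsl_at v2051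
theorem f671325 : Led Lsl_at v2051 = v8468 :=
  Lrfl
theorem f671326 : Led Lsl_af v2051 = v8468 :=
  Lgr Lrot0 (Lpr_at (f671325 IH) (Lpn v8468))
theorem f508582 : Led Lsl_gt (LP (LK LD1_c1 LD2_c34 LD3_c19)) = v2051 :=
  Lrfl
theorem f671327 : Led Lsl_ft v2052 = v8468 :=
  Lgr Lrot2 (Lpe (f508584 IH) (Lpr_gt (f508582 IH) (Lpr_af (f671326 IH) (Lpn v8468))))
theorem f671328 : Led Lsl_ff v2052 = v8468 :=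
  Lgr Lrot3 (Lpr_ft (f671327 IH) (Lpn v8468))
theorem f671340 : Led Lsl_at v2052 = v8473 :=
  Lgr Lrot66 (Lpr_ff (f671328 IH) (Lpe (f671325 IH) (Lpr_ff (f671339 IH) (Lpn v8473))))
theorem f772325 : v8473 = v8466 :=
  (Llr Lrot51 (Lpe (f671340 IH) (Lpr_df (f671346 IH) (Lpr_af (f772323 IH) (Lpr_df (f671316 IH) (Lpn v8466)))))).symm
def v8469 : LQ := Led Lsl_bt v2051
theorem f671329 : Led Lsl_bt v2051 = v8469 :=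
  Lrfl
theorem f671330 : Led Lsl_bf v2051 = v8469 :=
  Lgr Lrot24 (Lpr_bt (f671329 IH) (Lpn v8469))
theorem f632993 : Led Lsl_bf (LP (LK LD1_c2 LD2_c20 LD3_c10)) = v4373 :=
  Lgr Lrot24 (Lpr_bt (f632992 IH) (Lpn v4373))
theorem f772327 : v8469 = K51.v4369 :=
  (Llr Lrot61 (Lpe (f671330 IH) (Lpr_ft (f671337 IH) (Lpqs (f772325 IH) (Lpqs (f772306 IH) (Lpe (f632993 IH) (Lpr_ft (K51.f632977 IH) (Lpn K51.v4369)))))))).symm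
theorem f650244 : Led Lsl_cf (LP (LK LD1_c3 LD2_c15 LD3_c40)) = K58.v5961 :=
  Lgr Lrot11 (Lpr_ct (K58.f650243 IH) (Lpn K58.v5961))
def v7334 : LQ := Led Lsl_ft (LP (LK LD1_c3 LD2_c45 LD3_c15))
theorem f664611 : Led Lsl_ft (LP (LK LD1_c3 LD2_c45 LD3_c15)) = v7334 :=
  Lrfl
theorem f664613 : Led Lsl_ff (LP (LK LD1_c3 LD2_c45 LD3_c15)) = v7334 :=
  Lgr Lrot3 (Lpr_ft (f664611 IH) (Lpn v7334))
theorem f85076 : Led Lsl_ct (LP (LK LD1_c3 LD2_c45 LD3_c15)) = (LP (LK LD1_c1 LD2_c49 LD3_c46)) :=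
  Lre_c IH (LK LD1_c3 LD2_c45 LD3_c15) (LK LD1_c1 LD2_c49 LD3_c46) Lrfl Lrfl
theorem f664614 : Led Lsl_ct (LP (LK LD1_c3 LD2_c45 LD3_c17)) = v7334 :=
  Lgr Lrot40 (Lpe (K56.f85083 IH) (Lpe (f85076 IH) (Lpr_ff (f664613 IH) (Lpn v7334))))
theorem f772336 : Led Lsl_gt K58.v13471 = v7334 :=
  Lgr Lrot65 (Lpe (f703193 IH) (Lpqs (K51.f709363 IH) (Lpq (K51.f709363 IH) (Lpq (f772327 IH) (Lpe (f671330 IH) (Lpe (f508582 IH) (Lpe (f65465 IH) (Lpr_ct (K56.f65469 IH) (Lpe (K57.f65483 IH) (Lpr_cf (f650244 IH) (Lpqs (K58.f769508 IH) (Lpe (K58.f527740 IH) (Lpe (K56.f85097 IH) (Lpr_ct (f664614 IH) (Lpn v7334)))))))))))))))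
theorem f23776 : Led Lsl_gt (LP (LK LD1_c6 LD2_c31 LD3_c13)) = (LP (LK LD1_c3 LD2_c13 LD3_c49)) :=
  Lre_g IH (LK LD1_c6 LD2_c31 LD3_c13) (LK LD1_c3 LD2_c13 LD3_c49) Lrfl Lrfl
def v18599 : LQ := Led Lsl_ct (LP (LK LD1_c6 LD2_c31 LD3_c13))
theorem f767651 : Led Lsl_ct (LP (LK LD1_c6 LD2_c31 LD3_c13)) = v18599 :=
  Lrfl
theorem f767652 : Led Lsl_cf (LP (LK LD1_c6 LD2_c31 LD3_c13)) = v18599 :=
  Lgr Lrot11 (Lpr_ct (f767651 IH) (Lpn v18599))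
def v9317 : LQ := Led Lsl_bt K58.v2604
theorem f675366 : Led Lsl_bt K58.v2604 = v9317 :=
  Lrfl
theorem f675367 : Led Lsl_bf K58.v2604 = v9317 :=
  Lgr Lrot24 (Lpr_bt (f675366 IH) (Lpn v9317))
theorem f772338 : v18599 = v9317 :=
  (Llr Lrot160 (Lpe (f767652 IH) (Lpr_gt (f23776 IH) (Lpe (K48.f23774 IH) (Lpr_bt (K58.f156536 IH) (Lpr_gt (K51.f632920 IH) (Lpq (K51.f709363 IH) (Lpr_ct (f703193 IH) (Lpr_gt (f772336 IH) (Lpe (f664614 IH) (Lpr_bt (K56.f85097 IH) (Lpr_gt (K58.f527740 IH) (Lpr_bf (f675367 IH) (Lpn v9317)))))))))))))).symm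
theorem f22725 : Led Lsl_bt (LP (LK LD1_c12 LD2_c30 LD3_c61)) = (LP (LK LD1_c6 LD2_c31 LD3_c13)) :=
  Lre_b IH (LK LD1_c12 LD2_c30 LD3_c61) (LK LD1_c6 LD2_c31 LD3_c13) Lrfl Lrfl
def v9318 : LQ := Led Lsl_ct K58.v2604
theorem f675368 : Led Lsl_ct K58.v2604 = v9318 :=
  Lrfl
theorem f769509 : (LP (LK LD1_c3 LD2_c15 LD3_c40)) = v9318 :=
  Lefun (Lecon (Lfl_cf (f650244 IH)) (K58.f769508 IH)) (f675368 IH)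
theorem f650227 : Led Lsl_bt (LP (LK LD1_c3 LD2_c15 LD3_c40)) = (LP (LK LD1_c6 LD2_c34 LD3_c38)) :=
  Lre_b IH (LK LD1_c3 LD2_c15 LD3_c40) (LK LD1_c6 LD2_c34 LD3_c38) Lrfl Lrfl
theorem f772339 : Led Lsl_cf (LP (LK LD1_c12 LD2_c30 LD3_c61)) = (LP (LK LD1_c6 LD2_c34 LD3_c38)) :=
  Lgr Lrot97 (Lpr_bt (f22725 IH) (Lpr_ct (f767651 IH) (Lpqs (f772338 IH) (Lpe (f675367 IH) (Lpr_ct (f675368 IH) (Lpq (f769509 IH) (Lpr_bt (f650227 IH) (Lpn (LP (LK LD1_c6 LD2_c34 LD3_c38))))))))))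
theorem f772340 : Led Lsl_ct (LP (LK LD1_c6 LD2_c34 LD3_c38)) = (LP (LK LD1_c12 LD2_c30 LD3_c61)) :=
  Leop (Lpr_cf (f772339 IH) (Lpn (LP (LK LD1_c6 LD2_c34 LD3_c38))))
theorem seed_1332 : LEOK LG_c (LK LD1_c6 LD2_c34 LD3_c38) :=
  Leoe_c (LK LD1_c6 LD2_c34 LD3_c38) (f772340 IH)
def v5199 : LQ := Led Lsl_et (LP (LK LD1_c3 LD2_c1 LD3_c52))
theorem f646505 : Led Lsl_et (LP (LK LD1_c3 LD2_c1 LD3_c52)) = v5199 :=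
  Lrfl
theorem f646507 : Led Lsl_ef (LP (LK LD1_c3 LD2_c1 LD3_c52)) = v5199 :=
  Lgr Lrot88 (Lpr_et (f646505 IH) (Lpn v5199))
theorem f115531 : Led Lsl_et (LP (LK LD1_c1 LD2_c26 LD3_c60)) = (LP (LK LD1_c3 LD2_c1 LD3_c53)) :=
  Lre_e IH (LK LD1_c1 LD2_c26 LD3_c60) (LK LD1_c3 LD2_c1 LD3_c53) Lrfl Lrfl
theorem f646508 : Led Lsl_ct (LP (LK LD1_c3 LD2_c1 LD3_c53)) = v5199 :=
  Lgr Lrot15 (Lpe (f115531 IH) (Lpe (K4.f12753 IH) (Lpr_ef (f646507 IH) (Lpn v5199))))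
theorem f772258 : v5200 = K48.v5859 :=
  Lefun (Lecon (Lfl_ff (f754368 IH)) (f772250 IH).symm) (K48.f649845 IH)
theorem f703196 : Led Lsl_ff (LP (LK LD1_c4 LD2_c44 LD3_c22)) = K58.v13471 :=
  Lgr Lrot3 (Lpr_ft (K58.f703194 IH) (Lpn K58.v13471))
theorem f703206 : Led Lsl_ff (LP (LK LD1_c4 LD2_c44 LD3_c20)) = v13473 :=
  Lgr Lrot3 (Lpr_ft (f703203 IH) (Lpn v13473))
theorem f703209 : Led Lsl_at (LP (LK LD1_c4 LD2_c44 LD3_c22)) = v13473 :=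
  Lgr Lrot66 (Lpr_ff (f703196 IH) (Lpe (K58.f703190 IH) (Lpr_ff (f703206 IH) (Lpn v13473))))
theorem f772337 : Led Lsl_gf v13473 = v7334 :=
  Lgr Lrot76 (Lpe (f703209 IH) (Lpr_ff (f703196 IH) (Lpr_gt (f772336 IH) (Lpn v7334))))
def v5907 : LQ := Led Lsl_et (LP (LK LD1_c3 LD2_c14 LD3_c51))
theorem f650012 : Led Lsl_et (LP (LK LD1_c3 LD2_c14 LD3_c51)) = v5907 :=
  Lrfl
theorem f650015 : Led Lsl_ef (LP (LK LD1_c3 LD2_c14 LD3_c51)) = v5907 :=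
  Lgr Lrot88 (Lpr_et (f650012 IH) (Lpn v5907))
theorem f95608 : Led Lsl_et (LP (LK LD1_c1 LD2_c49 LD3_c45)) = (LP (LK LD1_c3 LD2_c45 LD3_c15)) :=
  Lre_e IH (LK LD1_c1 LD2_c49 LD3_c45) (LK LD1_c3 LD2_c45 LD3_c15) Lrfl Lrfl
theorem f650016 : Led Lsl_at (LP (LK LD1_c3 LD2_c45 LD3_c15)) = v5907 :=
  Lgr Lrot80 (Lpe (f95608 IH) (Lpr_af (K2.f95595 IH) (Lpr_ef (f650015 IH) (Lpn v5907))))
theorem f772344 : Led Lsl_gt v13473 = v5907 :=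
  Lgr Lrot46 (Lpr_gf (f772337 IH) (Lpe (f664613 IH) (Lpr_at (f650016 IH) (Lpn v5907))))
theorem f772345 : Led Lsl_gf K58.v13471 = v5907 :=
  Lgr Lrot76 (Lpe (K58.f703190 IH) (Lpr_ff (f703206 IH) (Lpr_gt (f772344 IH) (Lpn v5907))))
def v8467 : LQ := Led Lsl_ft v2050
theorem f671317 : Led Lsl_ft v2050 = v8467 :=
  Lrfl
theorem f671319 : Led Lsl_ff v2050 = v8467 :=
  Lgr Lrot3 (Lpr_ft (f671317 IH) (Lpn v8467))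
theorem f508576 : Led Lsl_af (LP (LK LD1_c1 LD2_c34 LD3_c19)) = v2050 :=
  Lgr Lrot50 (Lpr_et (f65494 IH) (Lpr_at (K3.f110948 IH) (Lpr_et (f508575 IH) (Lpn v2050))))
def v2053 : LQ := Led Lsl_ft (LP (LK LD1_c1 LD2_c34 LD3_c19))
theorem f508585 : Led Lsl_ft (LP (LK LD1_c1 LD2_c34 LD3_c19)) = v2053 :=
  Lrfl
theorem f671321 : Led Lsl_at v2053 = v8467 :=
  Lgr Lrot66 (Lpe (f508585 IH) (Lpr_af (f508576 IH) (Lpr_ff (f671319 IH) (Lpn v8467))))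
theorem f671324 : Led Lsl_gt v2051 = v8467 :=
  Lgr Lrot46 (Lpe (f508582 IH) (Lpr_ft (f508585 IH) (Lpr_at (f671321 IH) (Lpn v8467))))
theorem f115555 : Led Lsl_et (LP (LK LD1_c6 LD2_c10 LD3_c26)) = (LP (LK LD1_c3 LD2_c1 LD3_c51)) :=
  Lre_e IH (LK LD1_c6 LD2_c10 LD3_c26) (LK LD1_c3 LD2_c1 LD3_c51) Lrfl Lrfl
theorem f508577 : Led Lsl_bf (LP (LK LD1_c6 LD2_c10 LD3_c26)) = v2050 :=
  Lgr Lrot96 (Lpr_et (f115555 IH) (Lpe (K5.f129614 IH) (Lpr_et (f508575 IH) (Lpn v2050))))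
theorem f754337 : Led Lsl_bf v8467 = v17013 :=
  Lgr Lrot61 (Lpe (f671319 IH) (Lpe (f508577 IH) (Lpr_ft (f754335 IH) (Lpn v17013))))
theorem f650017 : Led Lsl_ct (LP (LK LD1_c3 LD2_c44 LD3_c48)) = v5907 :=
  Lgr Lrot15 (Lpe (K2.f85152 IH) (Lpr_cf (K2.f93186 IH) (Lpr_ef (f650015 IH) (Lpn v5907))))
def v8296 : LQ := Led Lsl_ct K51.v1969
theorem f670706 : Led Lsl_ct K51.v1969 = v8296 :=
  Lrfl
theorem f649084 : Led Lsl_ff (LP (LK LD1_c3 LD2_c12 LD3_c32)) = K58.v5729 :=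
  Lgr Lrot3 (Lpr_ft (K58.f649080 IH) (Lpn K58.v5729))
theorem f649087 : Led Lsl_ct K51.v1977 = K58.v5729 :=
  Lgr Lrot40 (Lpe (K51.f506716 IH) (Lpe (f82991 IH) (Lpr_ff (f649084 IH) (Lpn K58.v5729))))
theorem f707823 : K58.v5729 = v8296 :=
  Lefun (Lecon (f649087 IH) (K51.f707785 IH).symm) (f670706 IH)
def v18296 : LQ := Led Lsl_gt (LP (LK LD1_c6 LD2_c28 LD3_c15))
theorem f766151 : Led Lsl_gt (LP (LK LD1_c6 LD2_c28 LD3_c15)) = v18296 :=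
  Lrfl
theorem f649077 : Led Lsl_ff K58.v3086 = K58.v5728 :=
  Lgr Lrot3 (Lpr_ft (K58.f649076 IH) (Lpn K58.v5728))
theorem f649086 : Led Lsl_at K58.v3086 = K58.v5729 :=
  Lgr Lrot66 (Lpr_ff (f649077 IH) (Lpe (K58.f649072 IH) (Lpr_ff (f649084 IH) (Lpn K58.v5729))))
theorem f766152 : Led Lsl_gf K58.v5729 = v18296 :=
  Lgr Lrot76 (Lpe (f649086 IH) (Lpr_ff (f649077 IH) (Lpqs (f707808 IH) (Lpr_gt (f766151 IH) (Lpn v18296)))))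
theorem f772346 : Led Lsl_ct v17013 = v18296 :=
  Lgr Lrot64 (Lpe (f754337 IH) (Lpe (f671324 IH) (Lpr_bf (f671330 IH) (Lpqs (f772327 IH) (Lpr_ct (f703193 IH) (Lpr_gf (f772345 IH) (Lpe (f650017 IH) (Lpr_gf (f664452 IH) (Lpqs (f772228 IH) (Lpq (K51.f707822 IH) (Lpe (K51.f649066 IH) (Lpq (K51.f707785 IH) (Lpr_ct (f670706 IH) (Lpq (f707823 IH) (Lpr_gf (f766152 IH) (Lpn v18296))))))))))))))))
theorem f648951 : Led Lsl_cf (LP (LK LD1_c6 LD2_c10 LD3_c26)) = v5696 :=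
  Lgr Lrot39 (Lpr_et (f115555 IH) (Lpe (K5.f128904 IH) (Lpr_et (f648949 IH) (Lpn v5696))))
theorem f772349 : Led Lsl_ff v5696 = v18296 :=
  Lgr Lrot23 (Lpe (f648951 IH) (Lpr_ft (f754335 IH) (Lpr_ct (f772346 IH) (Lpn v18296))))
theorem f648950 : Led Lsl_af v5199 = v5696 :=
  Lgr Lrot50 (Lpe (f646507 IH) (Lpe (K5.f128897 IH) (Lpr_et (f648949 IH) (Lpn v5696))))
def v18297 : LQ := Led Lsl_gf (LP (LK LD1_c6 LD2_c28 LD3_c15))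
theorem f766153 : Led Lsl_gf (LP (LK LD1_c6 LD2_c28 LD3_c15)) = v18297 :=
  Lrfl
theorem f766154 : Led Lsl_gt K58.v5729 = v18297 :=
  Lgr Lrot5 (Lpe (f649084 IH) (Lpr_at (K58.f649072 IH) (Lpqs (f707808 IH) (Lpr_gf (f766153 IH) (Lpn v18297)))))
theorem f772352 : v5199 = v18297 :=
  (Llr Lrot26 (Lpr_af (f648950 IH) (Lpr_ff (f772349 IH) (Lpe (f766152 IH) (Lpr_gt (f766154 IH) (Lpn v18297)))))).symm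
theorem f506678 : Led Lsl_ct (LP (LK LD1_c6 LD2_c28 LD3_c15)) = (LP (LK LD1_c3 LD2_c12 LD3_c5)) :=
  Lre_c IH (LK LD1_c6 LD2_c28 LD3_c15) (LK LD1_c3 LD2_c12 LD3_c5) Lrfl Lrfl
theorem f766799 : Led Lsl_cf K51.v5731 = v18406 :=
  Lgr Lrot1 (Lpe (K51.f649091 IH) (Lpr_ct (f82673 IH) (Lpr_at (f766797 IH) (Lpn v18406))))
def v6169 : LQ := Led Lsl_gf (LP (LK LD1_c3 LD2_c18 LD3_c34))
theorem f651602 : Led Lsl_gf (LP (LK LD1_c3 LD2_c18 LD3_c34)) = v6169 :=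
  Lrfl
theorem f772354 : K58.v6216 = v6169 :=
  (Llr Lrot6 (Lpe (K58.f652130 IH) (Lpq (K48.f663664 IH) (Lpq (f772258 IH) (Lpe (f646509 IH) (Lpr_ct (f646508 IH) (Lpqs (f772352 IH) (Lpe (f766153 IH) (Lpr_ct (f506678 IH) (Lpr_df (K51.f648937 IH) (Lpqs (K57.f707775 IH) (Lpr_cf (f766799 IH) (Lpe (f766801 IH) (Lpq (f772273 IH) (Lpe (f509034 IH) (Lpr_gf (f651602 IH) (Lpn v6169))))))))))))))))).symm
theorem f650664 : Led Lsl_gt (LP (LK LD1_c3 LD2_c18 LD3_c34)) = (LP (LK LD1_c6 LD2_c41 LD3_c1)) :=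
  Lre_g IH (LK LD1_c3 LD2_c18 LD3_c34) (LK LD1_c6 LD2_c41 LD3_c1) Lrfl Lrfl
theorem f772355 : v18701 = (LP (LK LD1_c6 LD2_c41 LD3_c1)) :=
  (Llr Lrot26 (Lpe (f768103 IH) (Lpr_ff (K58.f663846 IH) (Lpqs (f772354 IH) (Lpe (f651602 IH) (Lpr_gt (f650664 IH) (Lpn (LP (LK LD1_c6 LD2_c41 LD3_c1))))))))).symm
theorem f772356 : Led Lsl_at (LP (LK LD1_c6 LD2_c41 LD3_c1)) = (LP (LK LD1_c6 LD2_c32 LD3_c14)) :=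
  Leop (Lpr_af (f768104 IH) (Lpqs (f772355 IH) (Lpn (LP (LK LD1_c6 LD2_c41 LD3_c1)))))
theorem seed_1333 : LEOK LG_a (LK LD1_c6 LD2_c41 LD3_c1) :=
  Leoe_a (LK LD1_c6 LD2_c41 LD3_c1) (f772356 IH)
def v7360 : LQ := Led Lsl_ft (LP (LK LD1_c3 LD2_c45 LD3_c35))
theorem f664717 : Led Lsl_ft (LP (LK LD1_c3 LD2_c45 LD3_c35)) = v7360 :=
  Lrfl
theorem f664720 : Led Lsl_ff (LP (LK LD1_c3 LD2_c45 LD3_c35)) = v7360 :=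
  Lgr Lrot3 (Lpr_ft (f664717 IH) (Lpn v7360))
def v2623 : LQ := Led Lsl_ft (LP (LK LD1_c1 LD2_c49 LD3_c55))
theorem f527916 : Led Lsl_ft (LP (LK LD1_c1 LD2_c49 LD3_c55)) = v2623 :=
  Lrfl
theorem f664723 : Led Lsl_ct v2623 = v7360 :=
  Lgr Lrot40 (Lpe (f527916 IH) (Lpe (K58.f527755 IH) (Lpr_ff (f664720 IH) (Lpn v7360))))
def v2622 : LQ := Led Lsl_bt (LP (LK LD1_c1 LD2_c49 LD3_c55))
def v9366 : LQ := Led Lsl_ft v2622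
theorem f675520 : Led Lsl_ft v2622 = v9366 :=
  Lrfl
theorem f527913 : Led Lsl_bt (LP (LK LD1_c1 LD2_c49 LD3_c55)) = v2622 :=
  Lrfl
theorem f527918 : Led Lsl_ff (LP (LK LD1_c1 LD2_c49 LD3_c55)) = v2623 :=
  Lgr Lrot3 (Lpr_ft (f527916 IH) (Lpn v2623))
theorem f675521 : Led Lsl_bf v2623 = v9366 :=
  Lgr Lrot61 (Lpe (f527918 IH) (Lpr_bt (f527913 IH) (Lpr_ft (f675520 IH) (Lpn v9366))))
def v1317 : LQ := Led Lsl_gt (LP (LK LD1_c1 LD2_c6 LD3_c61))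
def v7827 : LQ := Led Lsl_bt v1317
theorem f668626 : Led Lsl_bt v1317 = v7827 :=
  Lrfl
theorem f668627 : Led Lsl_bf v1317 = v7827 :=
  Lgr Lrot24 (Lpr_bt (f668626 IH) (Lpn v7827))
def v7818 : LQ := Led Lsl_ft K50.v1313
theorem f668570 : Led Lsl_ft K50.v1313 = v7818 :=
  Lrfl
theorem f668574 : Led Lsl_ff K50.v1313 = v7818 :=
  Lgr Lrot3 (Lpr_ft (f668570 IH) (Lpn v7818))
theorem f83095 : Led Lsl_at (LP (LK LD1_c0 LD2_c30 LD3_c41)) = (LP (LK LD1_c1 LD2_c6 LD3_c59)) :=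
  Lre_a IH (LK LD1_c0 LD2_c30 LD3_c41) (LK LD1_c1 LD2_c6 LD3_c59) Lrfl Lrfl
theorem f494772 : Led Lsl_af (LP (LK LD1_c1 LD2_c6 LD3_c61)) = K50.v1313 :=
  Lgr Lrot50 (Lpr_et (K11.f82558 IH) (Lpr_at (f83095 IH) (Lpr_et (K50.f494771 IH) (Lpn K50.v1313))))
def v1319 : LQ := Led Lsl_ft (LP (LK LD1_c1 LD2_c6 LD3_c61))
theorem f494815 : Led Lsl_ft (LP (LK LD1_c1 LD2_c6 LD3_c61)) = v1319 :=
  Lrfl
theorem f668576 : Led Lsl_at v1319 = v7818 :=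
  Lgr Lrot66 (Lpe (f494815 IH) (Lpr_af (f494772 IH) (Lpr_ff (f668574 IH) (Lpn v7818))))
theorem f494813 : Led Lsl_gt (LP (LK LD1_c1 LD2_c6 LD3_c61)) = v1317 :=
  Lrfl
theorem f668581 : Led Lsl_gt v1317 = v7818 :=
  Lgr Lrot46 (Lpe (f494813 IH) (Lpr_ft (f494815 IH) (Lpr_at (f668576 IH) (Lpn v7818))))
theorem f494773 : Led Lsl_bf (LP (LK LD1_c1 LD2_c32 LD3_c33)) = K50.v1313 :=
  Lgr Lrot96 (Lpr_et (K51.f82381 IH) (Lpe (K8.f82874 IH) (Lpr_et (K50.f494771 IH) (Lpn K50.v1313))))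
theorem f668577 : Led Lsl_bt K46.v1970 = v7818 :=
  Lgr Lrot35 (Lpe (K46.f506674 IH) (Lpr_bf (f494773 IH) (Lpr_ff (f668574 IH) (Lpn v7818))))
def v5821 : LQ := Led Lsl_gt (LP (LK LD1_c3 LD2_c13 LD3_c49))
theorem f649575 : Led Lsl_gt (LP (LK LD1_c3 LD2_c13 LD3_c49)) = v5821 :=
  Lrfl
theorem f668628 : Led Lsl_cf v5821 = v7827 :=
  Lgr Lrot163 (Lpe (f649575 IH) (Lpe (K48.f23774 IH) (Lpe (K46.f148400 IH) (Lpr_bf (K46.f649605 IH) (Lpe (K46.f649606 IH) (Lpr_gf (K46.f648924 IH) (Lpe (K46.f648923 IH) (Lpr_bt (f668577 IH) (Lpe (f668581 IH) (Lpr_bf (f668627 IH) (Lpn v7827)))))))))))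
theorem f668629 : Led Lsl_ct v5821 = v7827 :=
  Lgr Lrot59 (Lpr_cf (f668628 IH) (Lpn v7827))
def v18602 : LQ := Led Lsl_ft (LP (LK LD1_c6 LD2_c31 LD3_c13))
theorem f767657 : Led Lsl_ft (LP (LK LD1_c6 LD2_c31 LD3_c13)) = v18602 :=
  Lrfl
def v18598 : LQ := Led Lsl_at (LP (LK LD1_c6 LD2_c31 LD3_c13))
theorem f767646 : Led Lsl_at (LP (LK LD1_c6 LD2_c31 LD3_c13)) = v18598 :=
  Lrfl
theorem f767647 : Led Lsl_af (LP (LK LD1_c6 LD2_c31 LD3_c13)) = v18598 :=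
  Lgr Lrot0 (Lpr_at (f767646 IH) (Lpn v18598))
theorem f22722 : Led Lsl_gt (LP (LK LD1_c3 LD2_c14 LD3_c16)) = (LP (LK LD1_c6 LD2_c31 LD3_c13)) :=
  Lre_g IH (LK LD1_c3 LD2_c14 LD3_c16) (LK LD1_c6 LD2_c31 LD3_c13) Lrfl Lrfl
theorem f22578 : Led Lsl_at (LP (LK LD1_c1 LD2_c33 LD3_c39)) = (LP (LK LD1_c3 LD2_c13 LD3_c49)) :=
  Lre_a IH (LK LD1_c1 LD2_c33 LD3_c39) (LK LD1_c3 LD2_c13 LD3_c49) Lrfl Lrfl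
theorem f22720 : Led Lsl_ft (LP (LK LD1_c3 LD2_c14 LD3_c16)) = (LP (LK LD1_c1 LD2_c33 LD3_c39)) :=
  Lre_f IH (LK LD1_c3 LD2_c14 LD3_c16) (LK LD1_c1 LD2_c33 LD3_c39) Lrfl Lrfl
theorem f649577 : Led Lsl_af (LP (LK LD1_c3 LD2_c14 LD3_c16)) = K50.v5822 :=
  Lgr Lrot45 (Lpr_ft (f22720 IH) (Lpr_at (f22578 IH) (Lpr_ft (K50.f649576 IH) (Lpn K50.v5822))))
theorem f649580 : Led Lsl_gt v5821 = (LP (LK LD1_c3 LD2_c14 LD3_c16)) :=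
  Lgr Lrot46 (Lpe (f649575 IH) (Lpr_ft (K50.f649576 IH) (Lpe (f649577 IH) (Lpn (LP (LK LD1_c3 LD2_c14 LD3_c16))))))
theorem f767649 : Led Lsl_ft v5821 = v18598 :=
  Lgr Lrot2 (Lpr_gt (f649580 IH) (Lpr_gt (f22722 IH) (Lpr_af (f767647 IH) (Lpn v18598))))
theorem f767658 : Led Lsl_af v5821 = v18602 :=
  Lgr Lrot45 (Lpr_ft (f767649 IH) (Lpe (f767647 IH) (Lpr_ft (f767657 IH) (Lpn v18602))))
def v9361 : LQ := Led Lsl_bt K56.v2621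
theorem f675510 : Led Lsl_bt K56.v2621 = v9361 :=
  Lrfl
def v3418 : LQ := Led Lsl_bt K56.v819
theorem f625576 : Led Lsl_bt K56.v819 = v3418 :=
  Lrfl
theorem f625577 : Led Lsl_bf K56.v819 = v3418 :=
  Lgr Lrot24 (Lpr_bt (f625576 IH) (Lpn v3418))
theorem f675512 : Led Lsl_ff v3418 = v9361 :=
  Lgr Lrot25 (Lpe (f625577 IH) (Lpr_ft (K56.f527911 IH) (Lpr_bt (f675510 IH) (Lpn v9361))))
theorem f675513 : Led Lsl_ft v3418 = v9361 :=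
  Lgr Lrot48 (Lpr_ff (f675512 IH) (Lpn v9361))
def v7826 : LQ := Led Lsl_at v1317
theorem f668622 : Led Lsl_at v1317 = v7826 :=
  Lrfl
theorem f668623 : Led Lsl_af v1317 = v7826 :=
  Lgr Lrot0 (Lpr_at (f668622 IH) (Lpn v7826))
def v1318 : LQ := Led Lsl_gf (LP (LK LD1_c1 LD2_c6 LD3_c61))
theorem f494814 : Led Lsl_gf (LP (LK LD1_c1 LD2_c6 LD3_c61)) = v1318 :=
  Lrfl
theorem f668624 : Led Lsl_ft v1318 = v7826 :=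
  Lgr Lrot2 (Lpe (f494814 IH) (Lpr_gt (f494813 IH) (Lpr_af (f668623 IH) (Lpn v7826))))
def v10642 : LQ := Led Lsl_dt v3418
theorem f681229 : Led Lsl_dt v3418 = v10642 :=
  Lrfl
theorem f681231 : Led Lsl_df v3418 = v10642 :=
  Lgr Lrot38 (Lpr_dt (f681229 IH) (Lpn v10642))
def v7834 : LQ := Led Lsl_dt v1318
theorem f668644 : Led Lsl_dt v1318 = v7834 :=
  Lrfl
theorem f668645 : Led Lsl_df v1318 = v7834 :=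
  Lgr Lrot38 (Lpr_dt (f668644 IH) (Lpn v7834))
theorem f760930 : Led Lsl_ef (LP (LK LD1_c6 LD2_c20 LD3_c29)) = v17564 :=
  Lgr Lrot88 (Lpr_et (f760927 IH) (Lpn v17564))
theorem f647556 : Led Lsl_et (LP (LK LD1_c3 LD2_c7 LD3_c48)) = (LP (LK LD1_c6 LD2_c20 LD3_c30)) :=
  Lre_e IH (LK LD1_c3 LD2_c7 LD3_c48) (LK LD1_c6 LD2_c20 LD3_c30) Lrfl Lrfl
theorem f760932 : Led Lsl_ct (LP (LK LD1_c6 LD2_c20 LD3_c30)) = v17564 :=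
  Lgr Lrot15 (Lpe (f647556 IH) (Lpe (K57.f506239 IH) (Lpr_ef (f760930 IH) (Lpn v17564))))
theorem f760950 : Led Lsl_ff (LP (LK LD1_c6 LD2_c20 LD3_c30)) = K58.v17568 :=
  Lgr Lrot3 (Lpr_ft (K58.f760949 IH) (Lpn K58.v17568))
theorem f768109 : Led Lsl_cf K58.v17568 = v18701 :=
  Lgr Lrot108 (Lpe (f760950 IH) (Lpr_ct (f760932 IH) (Lpr_ft (f768108 IH) (Lpn v18701))))
theorem f759975 : Led Lsl_ef (LP (LK LD1_c6 LD2_c19 LD3_c39)) = K58.v17472 :=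
  Lgr Lrot88 (Lpr_et (K58.f759972 IH) (Lpn K58.v17472))
theorem f759976 : Led Lsl_at (LP (LK LD1_c6 LD2_c20 LD3_c30)) = K58.v17472 :=
  Lgr Lrot80 (Lpe (f647556 IH) (Lpr_af (K57.f647552 IH) (Lpq (K57.f663716 IH) (Lpr_ef (f759975 IH) (Lpn K58.v17472)))))
theorem f155518 : Led Lsl_gt (LP (LK LD1_c3 LD2_c7 LD3_c19)) = (LP (LK LD1_c6 LD2_c19 LD3_c39)) :=
  Lre_g IH (LK LD1_c3 LD2_c7 LD3_c19) (LK LD1_c6 LD2_c19 LD3_c39) Lrfl Lrfl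
theorem f152422 : Led Lsl_et (LP (LK LD1_c1 LD2_c29 LD3_c53)) = (LP (LK LD1_c3 LD2_c7 LD3_c19)) :=
  Lre_e IH (LK LD1_c1 LD2_c29 LD3_c53) (LK LD1_c3 LD2_c7 LD3_c19) Lrfl Lrfl
theorem f82363 : Led Lsl_et (LP (LK LD1_c1 LD2_c32 LD3_c43)) = (LP (LK LD1_c0 LD2_c42 LD3_c56)) :=
  Lre_e IH (LK LD1_c1 LD2_c32 LD3_c43) (LK LD1_c0 LD2_c42 LD3_c56) Lrfl Lrfl
def v1974 : LQ := Led Lsl_dt (LP (LK LD1_c1 LD2_c32 LD3_c43))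
theorem f506697 : Led Lsl_dt (LP (LK LD1_c1 LD2_c32 LD3_c43)) = v1974 :=
  Lrfl
def v8308 : LQ := Led Lsl_gf v1974
theorem f670740 : Led Lsl_gf v1974 = v8308 :=
  Lrfl
theorem f759978 : Led Lsl_df v8308 = K58.v17472 :=
  Lgr Lrot170 (Lpe (f670740 IH) (Lpe (f506697 IH) (Lpr_et (f82363 IH) (Lpr_gt (K5.f82364 IH) (Lpr_dt (K8.f82368 IH) (Lpr_gt (K8.f155507 IH) (Lpe (K7.f104716 IH) (Lpr_et (f152422 IH) (Lpr_gt (f155518 IH) (Lpr_ef (f759975 IH) (Lpn K58.v17472)))))))))))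
theorem f506698 : Led Lsl_df (LP (LK LD1_c1 LD2_c32 LD3_c43)) = v1974 :=
  Lgr Lrot38 (Lpr_dt (f506697 IH) (Lpn v1974))
theorem f759980 : Led Lsl_gt (LP (LK LD1_c12 LD2_c28 LD3_c45)) = K58.v17472 :=
  Lgr Lrot94 (Lpe (K58.f91455 IH) (Lpr_gt (K51.f649106 IH) (Lpe (K51.f623809 IH) (Lpe (K51.f453629 IH) (Lpr_dt (K11.f82655 IH) (Lpe (K46.f82667 IH) (Lpr_df (f506698 IH) (Lpr_gf (f670740 IH) (Lpr_df (f759978 IH) (Lpn K58.v17472))))))))))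
theorem f760951 : Led Lsl_gf (LP (LK LD1_c12 LD2_c28 LD3_c45)) = K58.v17568 :=
  Lgr Lrot47 (Lpr_gt (f759980 IH) (Lpe (f759976 IH) (Lpr_ff (f760950 IH) (Lpn K58.v17568))))
def v18404 : LQ := Led Lsl_bt (LP (LK LD1_c6 LD2_c29 LD3_c13))
theorem f766782 : Led Lsl_bt (LP (LK LD1_c6 LD2_c29 LD3_c13)) = v18404 :=
  Lrfl
theorem f707852 : Led Lsl_ff (LP (LK LD1_c6 LD2_c29 LD3_c13)) = (LP (LK LD1_c6 LD2_c20 LD3_c6)) :=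
  Lgr Lrot3 (Lpr_ft (K51.f707848 IH) (Lpn (LP (LK LD1_c6 LD2_c20 LD3_c6))))
def v5414 : LQ := Led Lsl_bt (LP (LK LD1_c3 LD2_c7 LD3_c37))
theorem f647527 : Led Lsl_bt (LP (LK LD1_c3 LD2_c7 LD3_c37)) = v5414 :=
  Lrfl
theorem f647528 : Led Lsl_bf (LP (LK LD1_c3 LD2_c7 LD3_c37)) = v5414 :=
  Lgr Lrot24 (Lpr_bt (f647527 IH) (Lpn v5414))
def v2214 : LQ := Led Lsl_ft (LP (LK LD1_c1 LD2_c37 LD3_c38))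
theorem f509706 : Led Lsl_ft (LP (LK LD1_c1 LD2_c37 LD3_c38)) = v2214 :=
  Lrfl
theorem f509707 : Led Lsl_af (LP (LK LD1_c1 LD2_c37 LD3_c39)) = v2214 :=
  Lgr Lrot45 (Lpr_ft (K32.f509702 IH) (Lpe (K32.f509699 IH) (Lpr_ft (f509706 IH) (Lpn v2214))))
theorem f509846 : (LP (LK LD1_c0 LD2_c45 LD3_c36)) = v2214 :=
  Lefun (Lecon (Lfl_ff (K32.f454819 IH)) (K35.f509841 IH)) (f509706 IH)
theorem f653658 : Led Lsl_bf K35.v2240 = K51.v6502 :=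
  Lgr Lrot81 (Lpe (K35.f510426 IH) (Lpr_bt (K34.f79724 IH) (Lpqs (f509846 IH) (Lpe (f509707 IH) (Lpr_bt (K51.f73778 IH) (Lpr_at (K51.f653656 IH) (Lpn K51.v6502)))))))
theorem f707549 : K35.v2240 = v5414 :=
  Lefun (Lecon (Lfl_bf (f653658 IH)) (K51.f707499 IH).symm) (f647527 IH)
def v8852 : LQ := Led Lsl_et K35.v2240
theorem f672495 : Led Lsl_et K35.v2240 = v8852 :=
  Lrfl
theorem f672497 : Led Lsl_ef K35.v2240 = v8852 :=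
  Lgr Lrot88 (Lpr_et (f672495 IH) (Lpn v8852))
theorem f707862 : Led Lsl_bf v8852 = (LP (LK LD1_c6 LD2_c20 LD3_c6)) :=
  Lgr Lrot96 (Lpe (f672497 IH) (Lpqs (f707549 IH) (Lpe (f647528 IH) (Lpr_et (K51.f91459 IH) (Lpn (LP (LK LD1_c6 LD2_c20 LD3_c6)))))))
theorem f707863 : Led Lsl_bt v8852 = (LP (LK LD1_c6 LD2_c20 LD3_c6)) :=
  Lgr Lrot127 (Lpr_bf (f707862 IH) (Lpn (LP (LK LD1_c6 LD2_c20 LD3_c6))))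
theorem f766787 : Led Lsl_ff v8852 = v18404 :=
  Lgr Lrot25 (Lpr_bt (f707863 IH) (Lpe (f707852 IH) (Lpr_bt (f766782 IH) (Lpn v18404))))
def v2242 : LQ := Led Lsl_et (LP (LK LD1_c1 LD2_c38 LD3_c25))
theorem f510433 : Led Lsl_et (LP (LK LD1_c1 LD2_c38 LD3_c25)) = v2242 :=
  Lrfl
theorem f510435 : Led Lsl_ef (LP (LK LD1_c1 LD2_c38 LD3_c25)) = v2242 :=
  Lgr Lrot88 (Lpr_et (f510433 IH) (Lpn v2242))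
theorem f672496 : Led Lsl_af v2242 = v8852 :=
  Lgr Lrot50 (Lpe (f510435 IH) (Lpr_at (K35.f510425 IH) (Lpr_et (f672495 IH) (Lpn v8852))))
def v8856 : LQ := Led Lsl_gf v2242
theorem f672511 : Led Lsl_gf v2242 = v8856 :=
  Lrfl
theorem f766791 : Led Lsl_gf v8856 = v18404 :=
  Lgr Lrot47 (Lpe (f672511 IH) (Lpr_af (f672496 IH) (Lpr_ff (f766787 IH) (Lpn v18404))))
theorem f509040 : Led Lsl_bt (LP (LK LD1_c1 LD2_c35 LD3_c45)) = (LP (LK LD1_c3 LD2_c18 LD3_c34)) :=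
  Lre_b IH (LK LD1_c1 LD2_c35 LD3_c45) (LK LD1_c3 LD2_c18 LD3_c34) Lrfl Lrfl
theorem f681232 : Led Lsl_bt K56.v3420 = v10642 :=
  Lgr Lrot95 (Lpe (K56.f625580 IH) (Lpr_bf (f625577 IH) (Lpr_df (f681231 IH) (Lpn v10642))))
theorem f772369 : v8856 = v10642 :=
  (Llr Lrot164 (Lpr_gf (f766791 IH) (Lpe (f766782 IH) (Lpr_ct (K58.f91455 IH) (Lpr_gf (f760951 IH) (Lpr_cf (f768109 IH) (Lpqs (f772355 IH) (Lpe (f650664 IH) (Lpe (f509040 IH) (Lpr_ct (K35.f509027 IH) (Lpr_gf (K46.f650662 IH) (Lpq (K58.f769447 IH) (Lpe (K58.f681245 IH) (Lpr_bt (f681232 IH) (Lpn v10642))))))))))))))).symm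
def v8226 : LQ := Led Lsl_et K35.v1930
theorem f670436 : Led Lsl_et K35.v1930 = v8226 :=
  Lrfl
theorem f670439 : Led Lsl_ef K35.v1930 = v8226 :=
  Lgr Lrot88 (Lpr_et (f670436 IH) (Lpn v8226))
theorem f527879 : Led Lsl_dt K34.v2239 = K34.v1996 :=
  Lgr Lrot60 (Lpr_ff (K49.f527797 IH) (Lpe (K34.f124469 IH) (Lpr_ff (K46.f506791 IH) (Lpn K34.v1996))))
def v5349 : LQ := Led Lsl_gt (LP (LK LD1_c3 LD2_c6 LD3_c39))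
theorem f647221 : Led Lsl_gt (LP (LK LD1_c3 LD2_c6 LD3_c39)) = v5349 :=
  Lrfl
theorem f649377 : (LP (LK LD1_c3 LD2_c13 LD3_c24)) = v5349 :=
  Lefun (Lecon (K46.f506420 IH) (K46.f649374 IH).symm) (f647221 IH)
theorem f506453 : Led Lsl_dt (LP (LK LD1_c3 LD2_c10 LD3_c34)) = K35.v1932 :=
  Lgr Lrot60 (Lpe (K5.f129072 IH) (Lpr_df (K34.f209078 IH) (Lpr_ff (K35.f506451 IH) (Lpn K35.v1932))))
theorem f670442 : Led Lsl_df K35.v2240 = v8226 :=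
  Lgr Lrot168 (Lpr_gf (K35.f527839 IH) (Lpe (f506453 IH) (Lpe (K5.f129073 IH) (Lpqs (f649377 IH) (Lpe (f647221 IH) (Lpr_ef (K46.f647235 IH) (Lpe (K46.f647237 IH) (Lpqs (K46.f649371 IH) (Lpr_gf (K46.f506795 IH) (Lpe (f527879 IH) (Lpr_gf (K49.f527806 IH) (Lpr_ef (f670439 IH) (Lpn v8226)))))))))))))
def v8225 : LQ := Led Lsl_dt K35.v1930
theorem f670432 : Led Lsl_dt K35.v1930 = v8225 :=
  Lrfl
theorem f670444 : Led Lsl_ft v8225 = v8226 :=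
  Lgr Lrot54 (Lpe (f670432 IH) (Lpe (K35.f527805 IH) (Lpr_df (f670442 IH) (Lpn v8226))))
theorem f670445 : Led Lsl_ff v8225 = v8226 :=
  Lgr Lrot3 (Lpr_ft (f670444 IH) (Lpn v8226))
theorem f766789 : Led Lsl_et v8225 = v18404 :=
  Lgr Lrot69 (Lpr_ff (f670445 IH) (Lpe (f670436 IH) (Lpe (K35.f527805 IH) (Lpr_ef (f672497 IH) (Lpr_ff (f766787 IH) (Lpn v18404))))))
theorem f670434 : Led Lsl_df K35.v1930 = v8225 :=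
  Lgr Lrot38 (Lpr_dt (f670432 IH) (Lpn v8225))
theorem f766792 : v8856 = v7834 :=
  (Llr Lrot137 (Lpr_gf (f766791 IH) (Lpe (f766789 IH) (Lpe (f670434 IH) (Lpe (K35.f506445 IH) (Lpe (K34.f209072 IH) (Lpr_et (K34.f128355 IH) (Lpr_gf (K5.f128347 IH) (Lpe (K11.f82558 IH) (Lpe (K11.f82560 IH) (Lpr_gf (f494814 IH) (Lpr_df (f668645 IH) (Lpn v7834))))))))))))).symm
theorem f772370 : v3418 = v1318 :=
  Lefun (Lecon (Lfl_df (f681231 IH)) ((f772369 IH).symm.trans (f766792 IH))) (Lfl_df (f668645 IH))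
theorem f772377 : v9361 = v7826 :=
  Lefun (Lecon (f675513 IH) (f772370 IH)) (f668624 IH)
theorem f527914 : Led Lsl_bf (LP (LK LD1_c1 LD2_c49 LD3_c55)) = v2622 :=
  Lgr Lrot24 (Lpr_bt (f527913 IH) (Lpn v2622))
def v9364 : LQ := Led Lsl_at v2622
theorem f675516 : Led Lsl_at v2622 = v9364 :=
  Lrfl
theorem f675517 : Led Lsl_af v2622 = v9364 :=
  Lgr Lrot0 (Lpr_at (f675516 IH) (Lpn v9364))
theorem f772378 : v9364 = v7827 :=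
  (Llr Lrot36 (Lpe (f675517 IH) (Lpe (f527914 IH) (Lpr_at (K56.f527909 IH) (Lpr_bt (f675510 IH) (Lpqs (f772377 IH) (Lpe (f668623 IH) (Lpr_bt (f668626 IH) (Lpn v7827))))))))).symm
def v9365 : LQ := Led Lsl_ct v2622
theorem f675518 : Led Lsl_ct v2622 = v9365 :=
  Lrfl
theorem f772379 : v18602 = v9365 :=
  (Llr Lrot68 (Lpe (f767658 IH) (Lpr_ct (f668629 IH) (Lpq (f772378 IH) (Lpe (f675517 IH) (Lpr_ct (f675518 IH) (Lpn v9365))))))).symm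
theorem f675519 : Led Lsl_cf v2622 = v9365 :=
  Lgr Lrot11 (Lpr_ct (f675518 IH) (Lpn v9365))
theorem f772380 : v18599 = v9366 :=
  (Llr Lrot108 (Lpe (f767652 IH) (Lpr_ft (f767657 IH) (Lpqs (f772379 IH) (Lpe (f675519 IH) (Lpr_ft (f675520 IH) (Lpn v9366))))))).symm
theorem f772381 : v2623 = K58.v2604 :=
  Lefun (Lecon (Lfl_bf (f675521 IH)) ((f772380 IH).symm.trans (f772338 IH))) (Lfl_bf (f675367 IH))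
theorem f772385 : v7360 = v9318 :=
  Lefun (Lecon (f664723 IH) (f772381 IH)) (f675368 IH)
theorem f772392 : Led Lsl_ft (LP (LK LD1_c3 LD2_c45 LD3_c35)) = (LP (LK LD1_c3 LD2_c15 LD3_c40)) :=
  Leop (Lpqs (f769509 IH) (Lpq (f772385 IH) (Lpe (f664717 IH) (Lpn (LP (LK LD1_c3 LD2_c45 LD3_c35))))))
theorem seed_1334 : LEOK LG_f (LK LD1_c3 LD2_c45 LD3_c35) :=
  Leoe_f (LK LD1_c3 LD2_c45 LD3_c35) (f772392 IH)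
def v5852 : LQ := Led Lsl_ct (LP (LK LD1_c3 LD2_c14 LD3_c13))
theorem f649822 : Led Lsl_ct (LP (LK LD1_c3 LD2_c14 LD3_c13)) = v5852 :=
  Lrfl
theorem f649823 : Led Lsl_cf (LP (LK LD1_c3 LD2_c14 LD3_c13)) = v5852 :=
  Lgr Lrot11 (Lpr_ct (f649822 IH) (Lpn v5852))
def v18682 : LQ := Led Lsl_ct (LP (LK LD1_c6 LD2_c32 LD3_c7))
theorem f768039 : Led Lsl_ct (LP (LK LD1_c6 LD2_c32 LD3_c7)) = v18682 :=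
  Lrfl
theorem f649818 : Led Lsl_et (LP (LK LD1_c3 LD2_c14 LD3_c13)) = (LP (LK LD1_c6 LD2_c32 LD3_c7)) :=
  Lre_e IH (LK LD1_c3 LD2_c14 LD3_c13) (LK LD1_c6 LD2_c32 LD3_c7) Lrfl Lrfl
theorem f768041 : Led Lsl_ef v5852 = v18682 :=
  Lgr Lrot28 (Lpe (f649823 IH) (Lpr_et (f649818 IH) (Lpr_ct (f768039 IH) (Lpn v18682))))
def v7371 : LQ := Led Lsl_bt (LP (LK LD1_c3 LD2_c45 LD3_c37))
theorem f664771 : Led Lsl_bt (LP (LK LD1_c3 LD2_c45 LD3_c37)) = v7371 :=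
  Lrfl
theorem f93379 : Led Lsl_et (LP (LK LD1_c1 LD2_c49 LD3_c55)) = (LP (LK LD1_c3 LD2_c45 LD3_c37)) :=
  Lre_e IH (LK LD1_c1 LD2_c49 LD3_c55) (LK LD1_c3 LD2_c45 LD3_c37) Lrfl Lrfl
theorem f664774 : Led Lsl_ef v2622 = v7371 :=
  Lgr Lrot29 (Lpe (f527914 IH) (Lpr_et (f93379 IH) (Lpr_bt (f664771 IH) (Lpn v7371))))
theorem f93475 : Led Lsl_et (LP (LK LD1_c12 LD2_c2 LD3_c48)) = (LP (LK LD1_c6 LD2_c11 LD3_c14)) :=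
  Lre_e IH (LK LD1_c12 LD2_c2 LD3_c48) (LK LD1_c6 LD2_c11 LD3_c14) Lrfl Lrfl
theorem f664681 : Led Lsl_et (LP (LK LD1_c3 LD2_c45 LD3_c26)) = (LP (LK LD1_c7 LD2_c31 LD3_c33)) :=
  Lre_e IH (LK LD1_c3 LD2_c45 LD3_c26) (LK LD1_c7 LD2_c31 LD3_c33) Lrfl Lrfl
theorem f670918 : Led Lsl_cf (LP (LK LD1_c12 LD2_c2 LD3_c48)) = (LP (LK LD1_c7 LD2_c31 LD3_c33)) :=
  Lgr Lrot39 (Lpr_et (f93475 IH) (Lpqs (K49.f670913 IH) (Lpe (K49.f664693 IH) (Lpr_et (f664681 IH) (Lpn (LP (LK LD1_c7 LD2_c31 LD3_c33)))))))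
def v7370 : LQ := Led Lsl_at (LP (LK LD1_c3 LD2_c45 LD3_c37))
theorem f664767 : Led Lsl_at (LP (LK LD1_c3 LD2_c45 LD3_c37)) = v7370 :=
  Lrfl
theorem f664769 : Led Lsl_ef K56.v2621 = v7370 :=
  Lgr Lrot20 (Lpe (K56.f527910 IH) (Lpr_et (f93379 IH) (Lpr_at (f664767 IH) (Lpn v7370))))
theorem f664770 : Led Lsl_et K56.v2621 = v7370 :=
  Lgr Lrot87 (Lpr_ef (f664769 IH) (Lpn v7370))
def v9360 : LQ := Led Lsl_gf K56.v2621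
theorem f675508 : Led Lsl_gf K56.v2621 = v9360 :=
  Lrfl
theorem f675509 : Led Lsl_gt v2623 = v9360 :=
  Lgr Lrot5 (Lpe (f527918 IH) (Lpr_at (K56.f527909 IH) (Lpr_gf (f675508 IH) (Lpn v9360))))
theorem f772382 : v9360 = (LP (LK LD1_c1 LD2_c49 LD3_c26)) :=
  Lefun (Lecon (f675509 IH) (f772381 IH)) (Lfl_gf (K58.f527739 IH))
theorem f772389 : K56.v2621 = K56.v2603 :=
  Lefun (Lecon (Lfl_gf (f675508 IH)) (f772382 IH)) (K56.f527738 IH)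
theorem f772399 : v7370 = K58.v9315 :=
  Lefun (Lecon (f664770 IH) (f772389 IH)) (K58.f675358 IH)
theorem f664768 : Led Lsl_af (LP (LK LD1_c3 LD2_c45 LD3_c37)) = v7370 :=
  Lgr Lrot0 (Lpr_at (f664767 IH) (Lpn v7370))
theorem f772400 : Led Lsl_af K58.v7634 = (LP (LK LD1_c6 LD2_c59 LD3_c27)) :=
  Lgr Lrot117 (Lpr_dt (K58.f675361 IH) (Lpq (f772399 IH) (Lpe (f664768 IH) (Lpr_dt (K58.f93374 IH) (Lpn (LP (LK LD1_c6 LD2_c59 LD3_c27)))))))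
theorem f772404 : Led Lsl_ft (LP (LK LD1_c7 LD2_c48 LD3_c49)) = (LP (LK LD1_c6 LD2_c59 LD3_c27)) :=
  Lgr Lrot2 (Lpr_gt (K48.f667408 IH) (Lpr_gt (K58.f667403 IH) (Lpr_af (f772400 IH) (Lpn (LP (LK LD1_c6 LD2_c59 LD3_c27))))))
theorem f772410 : Led Lsl_ff (LP (LK LD1_c7 LD2_c48 LD3_c49)) = (LP (LK LD1_c6 LD2_c59 LD3_c27)) :=
  Lgr Lrot3 (Lpr_ft (f772404 IH) (Lpn (LP (LK LD1_c6 LD2_c59 LD3_c27))))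
theorem f772416 : Led Lsl_at (LP (LK LD1_c7 LD2_c48 LD3_c49)) = (LP (LK LD1_c6 LD2_c59 LD3_c26)) :=
  Lgr Lrot26 (Lpr_ff (f772410 IH) (Lpr_gt (K58.f66608 IH) (Lpr_gt (K58.f66458 IH) (Lpn (LP (LK LD1_c6 LD2_c59 LD3_c26))))))
theorem f769430 : Led Lsl_cf (LP (LK LD1_c6 LD2_c59 LD3_c26)) = (LP (LK LD1_c12 LD2_c37 LD3_c5)) :=
  Lgr Lrot11 (Lpr_ct (K58.f769415 IH) (Lpn (LP (LK LD1_c12 LD2_c37 LD3_c5))))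
theorem f118089 : Led Lsl_dt (LP (LK LD1_c21 LD2_c43 LD3_c27)) = (LP (LK LD1_c12 LD2_c37 LD3_c5)) :=
  Lre_d IH (LK LD1_c21 LD2_c43 LD3_c27) (LK LD1_c12 LD2_c37 LD3_c5) Lrfl Lrfl
theorem f93383 : Led Lsl_ct (LP (LK LD1_c3 LD2_c45 LD3_c37)) = (LP (LK LD1_c7 LD2_c31 LD3_c52)) :=
  Lre_c IH (LK LD1_c3 LD2_c45 LD3_c37) (LK LD1_c7 LD2_c31 LD3_c52) Lrfl Lrfl
theorem f93795 : Led Lsl_ct (LP (LK LD1_c6 LD2_c38 LD3_c49)) = (LP (LK LD1_c3 LD2_c17 LD3_c39)) :=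
  Lre_c IH (LK LD1_c6 LD2_c38 LD3_c49) (LK LD1_c3 LD2_c17 LD3_c39) Lrfl Lrfl
theorem f93904 : Led Lsl_gt (LP (LK LD1_c12 LD2_c43 LD3_c17)) = (LP (LK LD1_c6 LD2_c38 LD3_c49)) :=
  Lre_g IH (LK LD1_c12 LD2_c43 LD3_c17) (LK LD1_c6 LD2_c38 LD3_c49) Lrfl Lrfl
theorem f769405 : Led Lsl_cf (LP (LK LD1_c12 LD2_c43 LD3_c17)) = (LP (LK LD1_c12 LD2_c37 LD3_c1)) :=
  Lgr Lrot169 (Lpr_gt (f93904 IH) (Lpr_ct (f93795 IH) (Lpe (K46.f65260 IH) (Lpe (K4.f64601 IH) (Lpe (K58.f66632 IH) (Lpqs (K58.f769182 IH) (Lpr_cf (K58.f769026 IH) (Lpqs (K58.f769332 IH) (Lpe (K58.f119414 IH) (Lpe (K4.f118023 IH) (Lpe (K58.f118019 IH) (Lpn (LP (LK LD1_c12 LD2_c37 LD3_c1))))))))))))))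
theorem f650882 : Led Lsl_dt (LP (LK LD1_c12 LD2_c43 LD3_c17)) = (LP (LK LD1_c21 LD2_c50 LD3_c32)) :=
  Lre_d IH (LK LD1_c12 LD2_c43 LD3_c17) (LK LD1_c21 LD2_c50 LD3_c32) Lrfl Lrfl
theorem f772418 : Led Lsl_cf (LP (LK LD1_c21 LD2_c43 LD3_c27)) = (LP (LK LD1_c21 LD2_c50 LD3_c32)) :=
  Lgr Lrot161 (Lpr_dt (f118089 IH) (Lpe (f769430 IH) (Lpe (f772416 IH) (Lpr_ff (f772410 IH) (Lpe (K58.f93377 IH) (Lpr_ct (f93383 IH) (Lpr_dt (K58.f769438 IH) (Lpe (f769405 IH) (Lpr_dt (f650882 IH) (Lpn (LP (LK LD1_c21 LD2_c50 LD3_c32))))))))))))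
theorem f772420 : Led Lsl_ct (LP (LK LD1_c21 LD2_c43 LD3_c27)) = (LP (LK LD1_c21 LD2_c50 LD3_c32)) :=
  Lgr Lrot59 (Lpr_cf (f772418 IH) (Lpn (LP (LK LD1_c21 LD2_c50 LD3_c32))))
theorem f650883 : Led Lsl_dt (LP (LK LD1_c21 LD2_c50 LD3_c32)) = (LP (LK LD1_c12 LD2_c43 LD3_c17)) :=
  Lre_d IH (LK LD1_c21 LD2_c50 LD3_c32) (LK LD1_c12 LD2_c43 LD3_c17) Lrfl Lrfl
theorem f769408 : Led Lsl_ct (LP (LK LD1_c12 LD2_c43 LD3_c17)) = (LP (LK LD1_c12 LD2_c37 LD3_c1)) :=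
  Lgr Lrot59 (Lpr_cf (f769405 IH) (Lpn (LP (LK LD1_c12 LD2_c37 LD3_c1))))
theorem f769403 : Led Lsl_cf (LP (LK LD1_c6 LD2_c59 LD3_c27)) = (LP (LK LD1_c12 LD2_c37 LD3_c6)) :=
  Lgr Lrot11 (Lpr_ct (K58.f769399 IH) (Lpn (LP (LK LD1_c12 LD2_c37 LD3_c6))))
theorem f772402 : Led Lsl_at (LP (LK LD1_c6 LD2_c38 LD3_c9)) = (LP (LK LD1_c12 LD2_c37 LD3_c6)) :=
  Lgr Lrot107 (Lpr_cf (K58.f769253 IH) (Lpr_af (f772400 IH) (Lpr_cf (f769403 IH) (Lpn (LP (LK LD1_c12 LD2_c37 LD3_c6))))))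
theorem f772422 : Led Lsl_ft (LP (LK LD1_c12 LD2_c37 LD3_c5)) = (LP (LK LD1_c6 LD2_c38 LD3_c9)) :=
  Lgr Lrot142 (Lpr_dt (K56.f118090 IH) (Lpr_ct (f772420 IH) (Lpr_dt (f650883 IH) (Lpr_ct (f769408 IH) (Lpe (K58.f769413 IH) (Lpr_ct (K58.f93376 IH) (Lpr_dt (K58.f93374 IH) (Lpr_ct (K58.f769399 IH) (Lpe (f772402 IH) (Lpn (LP (LK LD1_c6 LD2_c38 LD3_c9))))))))))))
theorem f772431 : Led Lsl_ff (LP (LK LD1_c12 LD2_c37 LD3_c5)) = (LP (LK LD1_c6 LD2_c38 LD3_c9)) :=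
  Lgr Lrot3 (Lpr_ft (f772422 IH) (Lpn (LP (LK LD1_c6 LD2_c38 LD3_c9))))
theorem f119274 : Led Lsl_gt (LP (LK LD1_c3 LD2_c17 LD3_c25)) = (LP (LK LD1_c6 LD2_c38 LD3_c8)) :=
  Lre_g IH (LK LD1_c3 LD2_c17 LD3_c25) (LK LD1_c6 LD2_c38 LD3_c8) Lrfl Lrfl
theorem f772438 : Led Lsl_at (LP (LK LD1_c12 LD2_c37 LD3_c5)) = (LP (LK LD1_c6 LD2_c38 LD3_c8)) :=
  Lgr Lrot26 (Lpr_ff (f772431 IH) (Lpr_gt (K58.f118145 IH) (Lpr_gt (f119274 IH) (Lpn (LP (LK LD1_c6 LD2_c38 LD3_c8))))))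
theorem f118262 : Led Lsl_ct (LP (LK LD1_c6 LD2_c35 LD3_c31)) = (LP (LK LD1_c3 LD2_c16 LD3_c8)) :=
  Lre_c IH (LK LD1_c6 LD2_c35 LD3_c31) (LK LD1_c3 LD2_c16 LD3_c8) Lrfl Lrfl
theorem f118078 : Led Lsl_af (LP (LK LD1_c12 LD2_c37 LD3_c9)) = (LP (LK LD1_c6 LD2_c38 LD3_c12)) :=
  Lgr Lrot0 (Lpr_at (K4.f118065 IH) (Lpn (LP (LK LD1_c6 LD2_c38 LD3_c12))))
theorem f119273 : Led Lsl_ft (LP (LK LD1_c3 LD2_c17 LD3_c25)) = (LP (LK LD1_c6 LD2_c38 LD3_c12)) :=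
  Lre_f IH (LK LD1_c3 LD2_c17 LD3_c25) (LK LD1_c6 LD2_c38 LD3_c12) Lrfl Lrfl
theorem f119492 : Led Lsl_gf (LP (LK LD1_c12 LD2_c37 LD3_c9)) = (LP (LK LD1_c6 LD2_c38 LD3_c8)) :=
  Lgr Lrot76 (Lpr_af (f118078 IH) (Lpe (f119273 IH) (Lpr_gt (f119274 IH) (Lpn (LP (LK LD1_c6 LD2_c38 LD3_c8))))))
theorem f769493 : Led Lsl_cf (LP (LK LD1_c6 LD2_c38 LD3_c8)) = (LP (LK LD1_c7 LD2_c48 LD3_c49)) :=
  Lgr Lrot169 (Lpe (f119492 IH) (Lpr_ct (K4.f118110 IH) (Lpe (K4.f118242 IH) (Lpe (f118262 IH) (Lpr_gf (K58.f119476 IH) (Lpr_cf (K58.f650838 IH) (Lpq (K58.f769029 IH) (Lpe (K58.f658247 IH) (Lpe (K3.f88677 IH) (Lpr_gt (K48.f86349 IH) (Lpn (LP (LK LD1_c7 LD2_c48 LD3_c49)))))))))))))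
theorem f772412 : Led Lsl_ft (LP (LK LD1_c6 LD2_c38 LD3_c8)) = (LP (LK LD1_c12 LD2_c37 LD3_c6)) :=
  Lgr Lrot4 (Lpr_cf (f769493 IH) (Lpr_ff (f772410 IH) (Lpr_cf (f769403 IH) (Lpn (LP (LK LD1_c12 LD2_c37 LD3_c6))))))
theorem f772443 : Led Lsl_af (LP (LK LD1_c6 LD2_c38 LD3_c9)) = (LP (LK LD1_c12 LD2_c37 LD3_c6)) :=
  Lgr Lrot45 (Lpe (f772431 IH) (Lpr_at (f772438 IH) (Lpr_ft (f772412 IH) (Lpn (LP (LK LD1_c12 LD2_c37 LD3_c6))))))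
theorem f119517 : Led Lsl_dt (LP (LK LD1_c6 LD2_c38 LD3_c9)) = (LP (LK LD1_c12 LD2_c42 LD3_c3)) :=
  Lre_d IH (LK LD1_c6 LD2_c38 LD3_c9) (LK LD1_c12 LD2_c42 LD3_c3) Lrfl Lrfl
theorem f118074 : Led Lsl_dt (LP (LK LD1_c21 LD2_c43 LD3_c29)) = (LP (LK LD1_c12 LD2_c37 LD3_c6)) :=
  Lre_d IH (LK LD1_c21 LD2_c43 LD3_c29) (LK LD1_c12 LD2_c37 LD3_c6) Lrfl Lrfl
theorem f772446 : Led Lsl_at (LP (LK LD1_c12 LD2_c42 LD3_c3)) = (LP (LK LD1_c21 LD2_c43 LD3_c29)) :=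
  Lgr Lrot51 (Lpe (f119517 IH) (Lpr_af (f772443 IH) (Lpe (f118074 IH) (Lpn (LP (LK LD1_c21 LD2_c43 LD3_c29))))))
theorem f118146 : Led Lsl_dt (LP (LK LD1_c12 LD2_c42 LD3_c3)) = (LP (LK LD1_c6 LD2_c38 LD3_c9)) :=
  Lre_d IH (LK LD1_c12 LD2_c42 LD3_c3) (LK LD1_c6 LD2_c38 LD3_c9) Lrfl Lrfl
theorem f772436 : Led Lsl_ft (LP (LK LD1_c21 LD2_c43 LD3_c27)) = (LP (LK LD1_c12 LD2_c42 LD3_c3)) :=
  Lgr Lrot54 (Lpe (K56.f118090 IH) (Lpr_ff (f772431 IH) (Lpe (f118146 IH) (Lpn (LP (LK LD1_c12 LD2_c42 LD3_c3))))))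
theorem f119275 : Led Lsl_dt (LP (LK LD1_c6 LD2_c38 LD3_c8)) = (LP (LK LD1_c12 LD2_c42 LD3_c1)) :=
  Lre_d IH (LK LD1_c6 LD2_c38 LD3_c8) (LK LD1_c12 LD2_c42 LD3_c1) Lrfl Lrfl
theorem f772441 : Led Lsl_af (LP (LK LD1_c21 LD2_c43 LD3_c27)) = (LP (LK LD1_c12 LD2_c42 LD3_c1)) :=
  Lgr Lrot117 (Lpr_dt (f118089 IH) (Lpr_at (f772438 IH) (Lpr_dt (f119275 IH) (Lpn (LP (LK LD1_c12 LD2_c42 LD3_c1))))))
theorem f772454 : Led Lsl_ff (LP (LK LD1_c12 LD2_c42 LD3_c1)) = (LP (LK LD1_c21 LD2_c43 LD3_c29)) :=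
  Lgr Lrot30 (Lpe (f772441 IH) (Lpr_ft (f772436 IH) (Lpr_at (f772446 IH) (Lpn (LP (LK LD1_c21 LD2_c43 LD3_c29))))))
theorem f772458 : Led Lsl_ft (LP (LK LD1_c12 LD2_c42 LD3_c1)) = (LP (LK LD1_c21 LD2_c43 LD3_c29)) :=
  Lgr Lrot48 (Lpr_ff (f772454 IH) (Lpn (LP (LK LD1_c21 LD2_c43 LD3_c29))))
theorem f772448 : Led Lsl_af (LP (LK LD1_c12 LD2_c42 LD3_c3)) = (LP (LK LD1_c21 LD2_c43 LD3_c29)) :=
  Lgr Lrot0 (Lpr_at (f772446 IH) (Lpn (LP (LK LD1_c21 LD2_c43 LD3_c29))))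
theorem f772429 : Led Lsl_ff (LP (LK LD1_c21 LD2_c43 LD3_c27)) = (LP (LK LD1_c12 LD2_c42 LD3_c3)) :=
  Lgr Lrot19 (Lpr_dt (f118089 IH) (Lpr_ft (f772422 IH) (Lpr_dt (f119517 IH) (Lpn (LP (LK LD1_c12 LD2_c42 LD3_c3))))))
theorem f772462 : Led Lsl_af (LP (LK LD1_c12 LD2_c42 LD3_c1)) = (LP (LK LD1_c21 LD2_c43 LD3_c27)) :=
  Lgr Lrot45 (Lpr_ft (f772458 IH) (Lpe (f772448 IH) (Lpe (f772429 IH) (Lpn (LP (LK LD1_c21 LD2_c43 LD3_c27))))))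
theorem f769231 : Led Lsl_gf (LP (LK LD1_c12 LD2_c41 LD3_c39)) = (LP (LK LD1_c12 LD2_c43 LD3_c20)) :=
  Lgr Lrot47 (Lpr_gt (K58.f769229 IH) (Lpe (K4.f93706 IH) (Lpe (K4.f93705 IH) (Lpn (LP (LK LD1_c12 LD2_c43 LD3_c20))))))
theorem f66051 : Led Lsl_dt (LP (LK LD1_c12 LD2_c41 LD3_c39)) = (LP (LK LD1_c21 LD2_c48 LD3_c33)) :=
  Lre_d IH (LK LD1_c12 LD2_c41 LD3_c39) (LK LD1_c21 LD2_c48 LD3_c33) Lrfl Lrfl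
theorem f769296 : Led Lsl_cf (LP (LK LD1_c12 LD2_c42 LD3_c1)) = (LP (LK LD1_c21 LD2_c48 LD3_c33)) :=
  Lgr Lrot14 (Lpe (f119275 IH) (Lpe (f119274 IH) (Lpe (K4.f118061 IH) (Lpe (K58.f118289 IH) (Lpr_ct (K58.f769287 IH) (Lpr_gt (K58.f769241 IH) (Lpr_dt (K58.f93808 IH) (Lpe (f769231 IH) (Lpr_dt (f66051 IH) (Lpn (LP (LK LD1_c21 LD2_c48 LD3_c33))))))))))))
theorem f769302 : Led Lsl_ct (LP (LK LD1_c12 LD2_c42 LD3_c1)) = (LP (LK LD1_c21 LD2_c48 LD3_c33)) :=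
  Lgr Lrot59 (Lpr_cf (f769296 IH) (Lpn (LP (LK LD1_c21 LD2_c48 LD3_c33))))
theorem f772464 : Led Lsl_at (LP (LK LD1_c21 LD2_c48 LD3_c33)) = (LP (LK LD1_c21 LD2_c50 LD3_c32)) :=
  Lgr Lrot107 (Lpe (f769302 IH) (Lpr_af (f772462 IH) (Lpr_cf (f772418 IH) (Lpn (LP (LK LD1_c21 LD2_c50 LD3_c32))))))
theorem f772472 : Led Lsl_af (LP (LK LD1_c12 LD2_c41 LD3_c39)) = (LP (LK LD1_c12 LD2_c43 LD3_c17)) :=
  Lgr Lrot117 (Lpr_dt (f66051 IH) (Lpr_at (f772464 IH) (Lpr_dt (f650883 IH) (Lpn (LP (LK LD1_c12 LD2_c43 LD3_c17))))))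
theorem f769032 : Led Lsl_cf (LP (LK LD1_c6 LD2_c34 LD3_c37)) = K58.v9315 :=
  Lgr Lrot14 (Lpr_df (K58.f66052 IH) (Lpe (K58.f119547 IH) (Lpe (K4.f118113 IH) (Lpr_gf (K58.f119476 IH) (Lpr_ct (K58.f650837 IH) (Lpq (K58.f769029 IH) (Lpe (K58.f658248 IH) (Lpr_dt (K58.f88926 IH) (Lpr_gt (K58.f667403 IH) (Lpr_dt (K58.f675361 IH) (Lpn K58.v9315)))))))))))
theorem f772482 : Led Lsl_ft (LP (LK LD1_c12 LD2_c41 LD3_c35)) = (LP (LK LD1_c12 LD2_c43 LD3_c17)) :=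
  Lgr Lrot2 (Lpr_gt (K58.f769033 IH) (Lpe (f769231 IH) (Lpr_af (f772472 IH) (Lpn (LP (LK LD1_c12 LD2_c43 LD3_c17))))))
theorem f769322 : Led Lsl_dt (LP (LK LD1_c12 LD2_c41 LD3_c35)) = (LP (LK LD1_c21 LD2_c48 LD3_c26)) :=
  Lre_d IH (LK LD1_c12 LD2_c41 LD3_c35) (LK LD1_c21 LD2_c48 LD3_c26) Lrfl Lrfl
theorem f772484 : Led Lsl_cf (LP (LK LD1_c12 LD2_c42 LD3_c3)) = (LP (LK LD1_c21 LD2_c48 LD3_c26)) :=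
  Lgr Lrot118 (Lpr_dt (f118146 IH) (Lpr_ct (K58.f769284 IH) (Lpr_dt (K58.f675361 IH) (Lpe (f769032 IH) (Lpr_dt (K58.f66017 IH) (Lpr_ct (K58.f66050 IH) (Lpr_af (f772472 IH) (Lpe (f772482 IH) (Lpr_dt (f769322 IH) (Lpn (LP (LK LD1_c21 LD2_c48 LD3_c26))))))))))))
theorem f772495 : Led Lsl_ft (LP (LK LD1_c21 LD2_c50 LD3_c32)) = (LP (LK LD1_c21 LD2_c48 LD3_c26)) :=
  Lgr Lrot4 (Lpe (f772420 IH) (Lpr_ff (f772429 IH) (Lpr_cf (f772484 IH) (Lpn (LP (LK LD1_c21 LD2_c48 LD3_c26))))))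
theorem f772498 : Led Lsl_ff (LP (LK LD1_c21 LD2_c50 LD3_c32)) = (LP (LK LD1_c21 LD2_c48 LD3_c26)) :=
  Lgr Lrot3 (Lpr_ft (f772495 IH) (Lpn (LP (LK LD1_c21 LD2_c48 LD3_c26))))
theorem f772470 : Led Lsl_af (LP (LK LD1_c21 LD2_c48 LD3_c33)) = (LP (LK LD1_c21 LD2_c50 LD3_c32)) :=
  Lgr Lrot0 (Lpr_at (f772464 IH) (Lpn (LP (LK LD1_c21 LD2_c50 LD3_c32))))
theorem f93381 : Led Lsl_ft (LP (LK LD1_c3 LD2_c45 LD3_c37)) = (LP (LK LD1_c7 LD2_c31 LD3_c53)) :=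
  Lre_f IH (LK LD1_c3 LD2_c45 LD3_c37) (LK LD1_c7 LD2_c31 LD3_c53) Lrfl Lrfl
theorem f772408 : Led Lsl_df (LP (LK LD1_c7 LD2_c48 LD3_c49)) = (LP (LK LD1_c7 LD2_c31 LD3_c53)) :=
  Lgr Lrot78 (Lpr_ft (f772404 IH) (Lpe (K58.f93377 IH) (Lpr_ft (f93381 IH) (Lpn (LP (LK LD1_c7 LD2_c31 LD3_c53))))))
theorem f753963 : Led Lsl_dt (LP (LK LD1_c21 LD2_c48 LD3_c26)) = (LP (LK LD1_c12 LD2_c41 LD3_c35)) :=
  Lre_d IH (LK LD1_c21 LD2_c48 LD3_c26) (LK LD1_c12 LD2_c41 LD3_c35) Lrfl Lrfl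
theorem f118287 : Led Lsl_ct (LP (LK LD1_c12 LD2_c41 LD3_c35)) = (LP (LK LD1_c6 LD2_c37 LD3_c55)) :=
  Lre_c IH (LK LD1_c12 LD2_c41 LD3_c35) (LK LD1_c6 LD2_c37 LD3_c55) Lrfl Lrfl
theorem f118288 : Led Lsl_dt (LP (LK LD1_c6 LD2_c37 LD3_c55)) = (LP (LK LD1_c12 LD2_c41 LD3_c36)) :=
  Lre_d IH (LK LD1_c6 LD2_c37 LD3_c55) (LK LD1_c12 LD2_c41 LD3_c36) Lrfl Lrfl
theorem f772502 : Led Lsl_cf (LP (LK LD1_c7 LD2_c31 LD3_c53)) = (LP (LK LD1_c12 LD2_c41 LD3_c36)) :=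
  Lgr Lrot116 (Lpe (f772408 IH) (Lpe (f769493 IH) (Lpr_dt (f119275 IH) (Lpr_ct (f769302 IH) (Lpr_af (f772470 IH) (Lpr_ff (f772498 IH) (Lpr_dt (f753963 IH) (Lpr_ct (f118287 IH) (Lpr_dt (f118288 IH) (Lpn (LP (LK LD1_c12 LD2_c41 LD3_c36))))))))))))
theorem f93380 : Led Lsl_ft (LP (LK LD1_c7 LD2_c31 LD3_c53)) = (LP (LK LD1_c3 LD2_c45 LD3_c37)) :=
  Lre_f IH (LK LD1_c7 LD2_c31 LD3_c53) (LK LD1_c3 LD2_c45 LD3_c37) Lrfl Lrfl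
theorem f772504 : Led Lsl_ft (LP (LK LD1_c7 LD2_c31 LD3_c52)) = (LP (LK LD1_c12 LD2_c41 LD3_c36)) :=
  Lgr Lrot4 (Lpe (f93383 IH) (Lpe (f93380 IH) (Lpr_cf (f772502 IH) (Lpn (LP (LK LD1_c12 LD2_c41 LD3_c36))))))
theorem f772514 : Led Lsl_ff (LP (LK LD1_c7 LD2_c31 LD3_c52)) = (LP (LK LD1_c12 LD2_c41 LD3_c36)) :=
  Lgr Lrot3 (Lpr_ft (f772504 IH) (Lpn (LP (LK LD1_c12 LD2_c41 LD3_c36))))
theorem f772520 : Led Lsl_ft (LP (LK LD1_c12 LD2_c37 LD3_c1)) = (LP (LK LD1_c6 LD2_c37 LD3_c55)) :=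
  Lgr Lrot54 (Lpe (K58.f769438 IH) (Lpr_ff (f772514 IH) (Lpe (f118288 IH) (Lpn (LP (LK LD1_c6 LD2_c37 LD3_c55))))))
theorem f96639 : Led Lsl_gt (LP (LK LD1_c6 LD2_c35 LD3_c30)) = (LP (LK LD1_c12 LD2_c37 LD3_c0)) :=
  Lre_g IH (LK LD1_c6 LD2_c35 LD3_c30) (LK LD1_c12 LD2_c37 LD3_c0) Lrfl Lrfl
theorem f772546 : Led Lsl_af (LP (LK LD1_c12 LD2_c37 LD3_c0)) = (LP (LK LD1_c6 LD2_c37 LD3_c55)) :=
  Lgr Lrot31 (Lpe (f96639 IH) (Lpe (K58.f118018 IH) (Lpr_ft (f772520 IH) (Lpn (LP (LK LD1_c6 LD2_c37 LD3_c55))))))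
theorem f772477 : Led Lsl_at (LP (LK LD1_c6 LD2_c37 LD3_c56)) = (LP (LK LD1_c12 LD2_c37 LD3_c1)) :=
  Lgr Lrot107 (Lpe (K58.f66064 IH) (Lpr_af (f772472 IH) (Lpr_cf (f769405 IH) (Lpn (LP (LK LD1_c12 LD2_c37 LD3_c1))))))
theorem f772555 : Led Lsl_ft (LP (LK LD1_c12 LD2_c37 LD3_c0)) = (LP (LK LD1_c6 LD2_c37 LD3_c56)) :=
  Lgr Lrot101 (Lpr_af (f772546 IH) (Lpe (f772520 IH) (Lpe (f772477 IH) (Lpn (LP (LK LD1_c6 LD2_c37 LD3_c56))))))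
theorem f66060 : Led Lsl_ft (LP (LK LD1_c6 LD2_c34 LD3_c37)) = (LP (LK LD1_c12 LD2_c35 LD3_c40)) :=
  Lre_f IH (LK LD1_c6 LD2_c34 LD3_c37) (LK LD1_c12 LD2_c35 LD3_c40) Lrfl Lrfl
theorem f772557 : Led Lsl_df (LP (LK LD1_c12 LD2_c37 LD3_c0)) = (LP (LK LD1_c12 LD2_c35 LD3_c40)) :=
  Lgr Lrot78 (Lpr_ft (f772555 IH) (Lpe (K58.f66052 IH) (Lpr_ft (f66060 IH) (Lpn (LP (LK LD1_c12 LD2_c35 LD3_c40))))))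
theorem f118014 : Led Lsl_ft (LP (LK LD1_c6 LD2_c35 LD3_c30)) = (LP (LK LD1_c12 LD2_c37 LD3_c3)) :=
  Lre_f IH (LK LD1_c6 LD2_c35 LD3_c30) (LK LD1_c12 LD2_c37 LD3_c3) Lrfl Lrfl
theorem f118016 : Led Lsl_at (LP (LK LD1_c12 LD2_c37 LD3_c3)) = (LP (LK LD1_c6 LD2_c37 LD3_c58)) :=
  Lgr Lrot66 (Lpe (f118014 IH) (Lpr_af (K4.f117979 IH) (Lpe (K4.f118015 IH) (Lpn (LP (LK LD1_c6 LD2_c37 LD3_c58))))))
theorem f119526 : Led Lsl_gt (LP (LK LD1_c12 LD2_c37 LD3_c0)) = (LP (LK LD1_c6 LD2_c37 LD3_c58)) :=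
  Lgr Lrot46 (Lpe (f96639 IH) (Lpr_ft (f118014 IH) (Lpr_at (f118016 IH) (Lpn (LP (LK LD1_c6 LD2_c37 LD3_c58))))))
def v2082 : LQ := Led Lsl_et (LP (LK LD1_c1 LD2_c35 LD3_c5))
theorem f508734 : Led Lsl_et (LP (LK LD1_c1 LD2_c35 LD3_c5)) = v2082 :=
  Lrfl
theorem f508735 : Led Lsl_ef (LP (LK LD1_c1 LD2_c35 LD3_c5)) = v2082 :=
  Lgr Lrot88 (Lpr_et (f508734 IH) (Lpn v2082))
def v8534 : LQ := Led Lsl_dt v2082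
theorem f671539 : Led Lsl_dt v2082 = v8534 :=
  Lrfl
theorem f753934 : Led Lsl_gf v8534 = K57.v16977 :=
  Lgr Lrot134 (Lpe (f671539 IH) (Lpe (f508735 IH) (Lpr_gt (K46.f114318 IH) (Lpe (K4.f64468 IH) (Lpe (K3.f64464 IH) (Lpr_gt (K1.f18905 IH) (Lpe (K3.f18896 IH) (Lpr_et (K24.f58452 IH) (Lpr_gt (K24.f58383 IH) (Lpr_dt (K57.f753928 IH) (Lpn K57.v16977)))))))))))
theorem f753935 : Led Lsl_gt v8534 = (LP (LK LD1_c12 LD2_c0 LD3_c42)) :=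
  Lgr Lrot46 (Lpr_gf (f753934 IH) (Lpe (f753932 IH) (Lpe (K56.f663393 IH) (Lpn (LP (LK LD1_c12 LD2_c0 LD3_c42))))))
theorem f753946 : Led Lsl_gf (LP (LK LD1_c6 LD2_c34 LD3_c48)) = K56.v16978 :=
  Lgr Lrot138 (Lpr_dt (K46.f650990 IH) (Lpqs (K46.f651744 IH) (Lpe (K46.f118246 IH) (Lpe (K4.f118025 IH) (Lpe (K46.f118521 IH) (Lpr_gt (K56.f119181 IH) (Lpr_ef (f508735 IH) (Lpr_dt (f671539 IH) (Lpr_gt (f753935 IH) (Lpe (K56.f62174 IH) (Lpr_et (K56.f753939 IH) (Lpn K56.v16978))))))))))))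
theorem f96200 : Led Lsl_et (LP (LK LD1_c14 LD2_c11 LD3_c55)) = (LP (LK LD1_c7 LD2_c31 LD3_c30)) :=
  Lre_e IH (LK LD1_c14 LD2_c11 LD3_c55) (LK LD1_c7 LD2_c31 LD3_c30) Lrfl Lrfl
theorem f753941 : Led Lsl_cf (LP (LK LD1_c14 LD2_c11 LD3_c55)) = K56.v16978 :=
  Lgr Lrot39 (Lpr_et (f96200 IH) (Lpe (K50.f649397 IH) (Lpr_et (K56.f753939 IH) (Lpn K56.v16978))))
theorem f772563 : Led Lsl_gt (LP (LK LD1_c14 LD2_c11 LD3_c55)) = (LP (LK LD1_c12 LD2_c35 LD3_c40)) :=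
  Lgr Lrot94 (Lpr_cf (f753941 IH) (Lpe (f753946 IH) (Lpr_dt (K46.f650990 IH) (Lpqs (K46.f651744 IH) (Lpe (K46.f118246 IH) (Lpr_dt (K4.f118091 IH) (Lpe (K4.f118024 IH) (Lpe (K4.f118023 IH) (Lpe (f119526 IH) (Lpr_df (f772557 IH) (Lpn (LP (LK LD1_c12 LD2_c35 LD3_c40)))))))))))))
theorem f93382 : Led Lsl_dt (LP (LK LD1_c3 LD2_c17 LD3_c39)) = (LP (LK LD1_c1 LD2_c35 LD3_c23)) :=
  Lre_d IH (LK LD1_c3 LD2_c17 LD3_c39) (LK LD1_c1 LD2_c35 LD3_c23) Lrfl Lrfl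
theorem f118266 : Led Lsl_ct (LP (LK LD1_c3 LD2_c17 LD3_c18)) = (LP (LK LD1_c1 LD2_c35 LD3_c14)) :=
  Lre_c IH (LK LD1_c3 LD2_c17 LD3_c18) (LK LD1_c1 LD2_c35 LD3_c14) Lrfl Lrfl
theorem f118137 : Led Lsl_ct (LP (LK LD1_c21 LD2_c43 LD3_c22)) = (LP (LK LD1_c12 LD2_c37 LD3_c3)) :=
  Lre_c IH (LK LD1_c21 LD2_c43 LD3_c22) (LK LD1_c12 LD2_c37 LD3_c3) Lrfl Lrfl
theorem f66068 : Led Lsl_gt (LP (LK LD1_c6 LD2_c37 LD3_c57)) = (LP (LK LD1_c12 LD2_c41 LD3_c41)) :=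
  Lre_g IH (LK LD1_c6 LD2_c37 LD3_c57) (LK LD1_c12 LD2_c41 LD3_c41) Lrfl Lrfl
theorem f118142 : Led Lsl_gf (LP (LK LD1_c21 LD2_c43 LD3_c22)) = (LP (LK LD1_c12 LD2_c41 LD3_c41)) :=
  Lgr Lrot76 (Lpr_af (K4.f118124 IH) (Lpe (K4.f118123 IH) (Lpr_gt (f66068 IH) (Lpn (LP (LK LD1_c12 LD2_c41 LD3_c41))))))
theorem f650874 : Led Lsl_ct (LP (LK LD1_c6 LD2_c38 LD3_c47)) = (LP (LK LD1_c12 LD2_c41 LD3_c41)) :=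
  Lgr Lrot186 (Lpe (K46.f443649 IH) (Lpr_dt (f93382 IH) (Lpr_gt (K46.f508778 IH) (Lpqs (K46.f650870 IH) (Lpr_ct (f118266 IH) (Lpr_gt (K49.f118260 IH) (Lpr_ct (K4.f118112 IH) (Lpr_dt (K4.f118113 IH) (Lpe (f118137 IH) (Lpr_gf (f118142 IH) (Lpn (LP (LK LD1_c12 LD2_c41 LD3_c41)))))))))))))
theorem f650880 : Led Lsl_cf (LP (LK LD1_c6 LD2_c38 LD3_c47)) = (LP (LK LD1_c12 LD2_c41 LD3_c41)) :=
  Lgr Lrot11 (Lpr_ct (f650874 IH) (Lpn (LP (LK LD1_c12 LD2_c41 LD3_c41))))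
theorem f753957 : Led Lsl_gf (LP (LK LD1_c12 LD2_c3 LD3_c14)) = (LP (LK LD1_c6 LD2_c34 LD3_c37)) :=
  Lgr Lrot147 (Lpr_ct (K52.f663470 IH) (Lpq (K56.f753951 IH) (Lpr_gt (K56.f651012 IH) (Lpr_ct (K46.f62060 IH) (Lpe (K46.f443665 IH) (Lpr_cf (f650880 IH) (Lpe (f66068 IH) (Lpe (K4.f66067 IH) (Lpe (K58.f66016 IH) (Lpe (K58.f66017 IH) (Lpn (LP (LK LD1_c6 LD2_c34 LD3_c37)))))))))))))
theorem f118080 : Led Lsl_ct (LP (LK LD1_c6 LD2_c35 LD3_c34)) = (LP (LK LD1_c12 LD2_c37 LD3_c9)) :=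
  Lre_c IH (LK LD1_c6 LD2_c35 LD3_c34) (LK LD1_c12 LD2_c37 LD3_c9) Lrfl Lrfl
theorem f118081 : Led Lsl_af (LP (LK LD1_c6 LD2_c35 LD3_c34)) = (LP (LK LD1_c3 LD2_c17 LD3_c26)) :=
  Lgr Lrot68 (Lpr_ct (f118080 IH) (Lpr_at (K4.f118065 IH) (Lpr_ct (K4.f118072 IH) (Lpn (LP (LK LD1_c3 LD2_c17 LD3_c26))))))
theorem f61989 : Led Lsl_ft (LP (LK LD1_c1 LD2_c35 LD3_c16)) = (LP (LK LD1_c3 LD2_c17 LD3_c26)) :=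
  Lre_f IH (LK LD1_c1 LD2_c35 LD3_c16) (LK LD1_c3 LD2_c17 LD3_c26) Lrfl Lrfl
theorem f119488 : Led Lsl_gf (LP (LK LD1_c6 LD2_c35 LD3_c34)) = (LP (LK LD1_c3 LD2_c17 LD3_c23)) :=
  Lgr Lrot76 (Lpr_af (f118081 IH) (Lpe (f61989 IH) (Lpr_gt (K46.f61992 IH) (Lpn (LP (LK LD1_c3 LD2_c17 LD3_c23))))))
theorem f118149 : Led Lsl_dt (LP (LK LD1_c12 LD2_c37 LD3_c3)) = (LP (LK LD1_c6 LD2_c35 LD3_c31)) :=
  Lre_d IH (LK LD1_c12 LD2_c37 LD3_c3) (LK LD1_c6 LD2_c35 LD3_c31) Lrfl Lrfl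
theorem f118273 : Led Lsl_at (LP (LK LD1_c6 LD2_c37 LD3_c58)) = (LP (LK LD1_c12 LD2_c37 LD3_c3)) :=
  Lgr Lrot51 (Lpe (K4.f118218 IH) (Lpr_af (K4.f118256 IH) (Lpe (f118149 IH) (Lpn (LP (LK LD1_c12 LD2_c37 LD3_c3))))))
theorem f118282 : Led Lsl_ft (LP (LK LD1_c3 LD2_c17 LD3_c16)) = (LP (LK LD1_c6 LD2_c37 LD3_c58)) :=
  Lre_f IH (LK LD1_c3 LD2_c17 LD3_c16) (LK LD1_c6 LD2_c37 LD3_c58) Lrfl Lrfl
theorem f118284 : Led Lsl_gt (LP (LK LD1_c6 LD2_c37 LD3_c55)) = (LP (LK LD1_c12 LD2_c37 LD3_c3)) :=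
  Lgr Lrot46 (Lpe (K58.f103841 IH) (Lpr_ft (f118282 IH) (Lpr_at (f118273 IH) (Lpn (LP (LK LD1_c12 LD2_c37 LD3_c3))))))
theorem f103842 : Led Lsl_dt (LP (LK LD1_c12 LD2_c41 LD3_c36)) = (LP (LK LD1_c6 LD2_c37 LD3_c55)) :=
  Lre_d IH (LK LD1_c12 LD2_c41 LD3_c36) (LK LD1_c6 LD2_c37 LD3_c55) Lrfl Lrfl
theorem f753955 : Led Lsl_gt (LP (LK LD1_c12 LD2_c3 LD3_c14)) = (LP (LK LD1_c12 LD2_c41 LD3_c36)) :=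
  Lgr Lrot180 (Lpr_ct (K52.f663470 IH) (Lpq (K56.f753951 IH) (Lpr_gt (K56.f651012 IH) (Lpr_dt (K46.f62051 IH) (Lpe (f119488 IH) (Lpr_dt (K4.f118111 IH) (Lpr_ct (K4.f118112 IH) (Lpe (f118149 IH) (Lpe (f118284 IH) (Lpe (f103842 IH) (Lpn (LP (LK LD1_c12 LD2_c41 LD3_c36)))))))))))))
theorem f753959 : Led Lsl_af (LP (LK LD1_c12 LD2_c41 LD3_c36)) = (LP (LK LD1_c12 LD2_c35 LD3_c40)) :=
  Lgr Lrot31 (Lpe (f753955 IH) (Lpr_gf (f753957 IH) (Lpr_ft (f66060 IH) (Lpn (LP (LK LD1_c12 LD2_c35 LD3_c40))))))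
theorem f753961 : Led Lsl_at (LP (LK LD1_c12 LD2_c41 LD3_c36)) = (LP (LK LD1_c12 LD2_c35 LD3_c40)) :=
  Lgr Lrot100 (Lpr_af (f753959 IH) (Lpn (LP (LK LD1_c12 LD2_c35 LD3_c40))))
theorem f772565 : Led Lsl_gf (LP (LK LD1_c14 LD2_c11 LD3_c55)) = (LP (LK LD1_c7 LD2_c31 LD3_c52)) :=
  Lgr Lrot47 (Lpr_gt (f772563 IH) (Lpe (f753961 IH) (Lpe (f772504 IH) (Lpn (LP (LK LD1_c7 LD2_c31 LD3_c52))))))
theorem f96202 : Led Lsl_gt (LP (LK LD1_c6 LD2_c37 LD3_c52)) = (LP (LK LD1_c12 LD2_c41 LD3_c28)) :=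
  Lre_g IH (LK LD1_c6 LD2_c37 LD3_c52) (LK LD1_c12 LD2_c41 LD3_c28) Lrfl Lrfl
theorem f96203 : Led Lsl_dt (LP (LK LD1_c14 LD2_c11 LD3_c55)) = (LP (LK LD1_c12 LD2_c41 LD3_c28)) :=
  Lgr Lrot56 (Lpr_et (f96200 IH) (Lpr_gt (K50.f96199 IH) (Lpe (K48.f96198 IH) (Lpe (K3.f96190 IH) (Lpr_gt (K3.f96188 IH) (Lpe (K3.f66093 IH) (Lpr_et (K49.f96196 IH) (Lpr_gt (K58.f66081 IH) (Lpr_dt (K58.f96201 IH) (Lpr_gt (f96202 IH) (Lpn (LP (LK LD1_c12 LD2_c41 LD3_c28)))))))))))))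
theorem f119421 : Led Lsl_dt (LP (LK LD1_c12 LD2_c36 LD3_c61)) = (LP (LK LD1_c6 LD2_c35 LD3_c29)) :=
  Lre_d IH (LK LD1_c12 LD2_c36 LD3_c61) (LK LD1_c6 LD2_c35 LD3_c29) Lrfl Lrfl
theorem f119531 : Led Lsl_dt (LP (LK LD1_c3 LD2_c17 LD3_c15)) = (LP (LK LD1_c6 LD2_c37 LD3_c53)) :=
  Lre_d IH (LK LD1_c3 LD2_c17 LD3_c15) (LK LD1_c6 LD2_c37 LD3_c53) Lrfl Lrfl
theorem f769383 : Led Lsl_af (LP (LK LD1_c12 LD2_c36 LD3_c61)) = (LP (LK LD1_c6 LD2_c37 LD3_c53)) :=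
  Lgr Lrot117 (Lpr_dt (f119421 IH) (Lpq (K58.f769332 IH) (Lpe (K58.f650847 IH) (Lpr_dt (f119531 IH) (Lpn (LP (LK LD1_c6 LD2_c37 LD3_c53)))))))
theorem f769385 : Led Lsl_at (LP (LK LD1_c12 LD2_c36 LD3_c61)) = (LP (LK LD1_c6 LD2_c37 LD3_c53)) :=
  Lgr Lrot100 (Lpr_af (f769383 IH) (Lpn (LP (LK LD1_c6 LD2_c37 LD3_c53))))
theorem f66082 : Led Lsl_dt (LP (LK LD1_c6 LD2_c37 LD3_c52)) = (LP (LK LD1_c3 LD2_c17 LD3_c14)) :=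
  Lre_d IH (LK LD1_c6 LD2_c37 LD3_c52) (LK LD1_c3 LD2_c17 LD3_c14) Lrfl Lrfl
theorem f119416 : Led Lsl_dt (LP (LK LD1_c6 LD2_c35 LD3_c29)) = (LP (LK LD1_c12 LD2_c36 LD3_c61)) :=
  Lre_d IH (LK LD1_c6 LD2_c35 LD3_c29) (LK LD1_c12 LD2_c36 LD3_c61) Lrfl Lrfl
theorem f769342 : Led Lsl_ff (LP (LK LD1_c6 LD2_c37 LD3_c52)) = (LP (LK LD1_c12 LD2_c36 LD3_c61)) :=
  Lgr Lrot19 (Lpr_dt (f66082 IH) (Lpr_ft (K58.f650846 IH) (Lpqs (K58.f769332 IH) (Lpr_dt (f119416 IH) (Lpn (LP (LK LD1_c12 LD2_c36 LD3_c61)))))))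
theorem f769351 : Led Lsl_ft (LP (LK LD1_c6 LD2_c37 LD3_c52)) = (LP (LK LD1_c12 LD2_c36 LD3_c61)) :=
  Lgr Lrot48 (Lpr_ff (f769342 IH) (Lpn (LP (LK LD1_c12 LD2_c36 LD3_c61))))
theorem f769397 : Led Lsl_gt (LP (LK LD1_c12 LD2_c41 LD3_c28)) = (LP (LK LD1_c6 LD2_c37 LD3_c53)) :=
  Lgr Lrot46 (Lpe (f96202 IH) (Lpr_ft (f769351 IH) (Lpr_at (f769385 IH) (Lpn (LP (LK LD1_c6 LD2_c37 LD3_c53))))))
theorem f119535 : Led Lsl_dt (LP (LK LD1_c6 LD2_c37 LD3_c53)) = (LP (LK LD1_c3 LD2_c17 LD3_c15)) :=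
  Lre_d IH (LK LD1_c6 LD2_c37 LD3_c53) (LK LD1_c3 LD2_c17 LD3_c15) Lrfl Lrfl
def v6078 : LQ := Led Lsl_ct (LP (LK LD1_c3 LD2_c17 LD3_c15))
theorem f650853 : Led Lsl_ct (LP (LK LD1_c3 LD2_c17 LD3_c15)) = v6078 :=
  Lrfl
theorem f769019 : K58.v3074 = v6078 :=
  Lefun (Lecon (Lfl_cf (K58.f677649 IH)) (K58.f769018 IH)) (f650853 IH)
def v9805 : LQ := Led Lsl_dt K58.v3074
theorem f677650 : Led Lsl_dt K58.v3074 = v9805 :=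
  Lrfl
theorem f677652 : Led Lsl_df K58.v3074 = v9805 :=
  Lgr Lrot38 (Lpr_dt (f677650 IH) (Lpn v9805))
theorem f209279 : Led Lsl_et (LP (LK LD1_c7 LD2_c31 LD3_c33)) = (LP (LK LD1_c3 LD2_c45 LD3_c26)) :=
  Lre_e IH (LK LD1_c7 LD2_c31 LD3_c33) (LK LD1_c3 LD2_c45 LD3_c26) Lrfl Lrfl
theorem f766960 : Led Lsl_bf (LP (LK LD1_c7 LD2_c31 LD3_c33)) = K58.v18434 :=
  Lgr Lrot96 (Lpr_et (f209279 IH) (Lpr_bt (K56.f664690 IH) (Lpqs (K56.f670926 IH) (Lpr_et (K58.f766958 IH) (Lpn K58.v18434)))))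
theorem f769720 : Led Lsl_df K57.v18120 = (LP (LK LD1_c7 LD2_c31 LD3_c33)) :=
  Lgr Lrot12 (Lpe (K57.f765134 IH) (Lpr_dt (K58.f765144 IH) (Lpqs (K58.f769663 IH) (Lpe (f766960 IH) (Lpn (LP (LK LD1_c7 LD2_c31 LD3_c33)))))))
def v6768 : LQ := Led Lsl_et (LP (LK LD1_c3 LD2_c28 LD3_c55))
theorem f658304 : Led Lsl_et (LP (LK LD1_c3 LD2_c28 LD3_c55)) = v6768 :=
  Lrfl
theorem f658305 : Led Lsl_ef (LP (LK LD1_c3 LD2_c28 LD3_c55)) = v6768 :=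
  Lgr Lrot88 (Lpr_et (f658304 IH) (Lpn v6768))
theorem f769181 : K58.v3074 = K58.v6765 :=
  Lefun (Lecon (Lfl_ff (K58.f677555 IH)) ((K58.f769085 IH).trans (K58.f769178 IH).symm)) (K58.f658298 IH)
def v9806 : LQ := Led Lsl_et K58.v3074
theorem f677654 : Led Lsl_et K58.v3074 = v9806 :=
  Lrfl
theorem f769216 : Led Lsl_af v6768 = v9806 :=
  Lgr Lrot50 (Lpe (f658305 IH) (Lpr_at (K58.f658296 IH) (Lpq (f769181 IH) (Lpr_et (f677654 IH) (Lpn v9806)))))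
theorem f769217 : Led Lsl_at v6768 = v9806 :=
  Lgr Lrot100 (Lpr_af (f769216 IH) (Lpn v9806))
def v10661 : LQ := Led Lsl_et K58.v3423
theorem f681278 : Led Lsl_et K58.v3423 = v10661 :=
  Lrfl
def v10659 : LQ := Led Lsl_ct K58.v3423
theorem f681272 : Led Lsl_ct K58.v3423 = v10659 :=
  Lrfl
theorem f681273 : Led Lsl_cf K58.v3423 = v10659 :=
  Lgr Lrot11 (Lpr_ct (f681272 IH) (Lpn v10659))
def v11055 : LQ := Led Lsl_ct K58.v3590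
theorem f682960 : Led Lsl_ct K58.v3590 = v11055 :=
  Lrfl
theorem f768829 : v11055 = v10659 :=
  Lefun (Lecon (f682960 IH) (K58.f768806 IH)) (f681272 IH)
def v2043 : LQ := Led Lsl_gt (LP (LK LD1_c1 LD2_c34 LD3_c10))
theorem f507900 : Led Lsl_gt (LP (LK LD1_c1 LD2_c34 LD3_c10)) = v2043 :=
  Lrfl
def v8448 : LQ := Led Lsl_ct v2043
theorem f671272 : Led Lsl_ct v2043 = v8448 :=
  Lrfl
theorem f682962 : Led Lsl_gt v8448 = v11055 :=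
  Lgr Lrot149 (Lpe (f671272 IH) (Lpe (f507900 IH) (Lpe (K58.f435603 IH) (Lpr_ct (K35.f435590 IH) (Lpe (K24.f169775 IH) (Lpr_cf (K49.f446809 IH) (Lpr_bt (K58.f450615 IH) (Lpr_gf (K58.f490747 IH) (Lpr_bf (K58.f626368 IH) (Lpr_ct (f682960 IH) (Lpn v11055)))))))))))
def v1785 : LQ := Led Lsl_et (LP (LK LD1_c1 LD2_c26 LD3_c59))
def v8082 : LQ := Led Lsl_ft v1785
theorem f669905 : Led Lsl_ft v1785 = v8082 :=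
  Lrfl
theorem f669909 : Led Lsl_ff v1785 = v8082 :=
  Lgr Lrot3 (Lpr_ft (f669905 IH) (Lpn v8082))
theorem f502879 : Led Lsl_et (LP (LK LD1_c1 LD2_c26 LD3_c59)) = v1785 :=
  Lrfl
theorem f96739 : Led Lsl_et (LP (LK LD1_c1 LD2_c34 LD3_c43)) = (LP (LK LD1_c0 LD2_c44 LD3_c3)) :=
  Lre_e IH (LK LD1_c1 LD2_c34 LD3_c43) (LK LD1_c0 LD2_c44 LD3_c3) Lrfl Lrfl
theorem f502880 : Led Lsl_af (LP (LK LD1_c1 LD2_c34 LD3_c43)) = v1785 :=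
  Lgr Lrot50 (Lpr_et (f96739 IH) (Lpe (K7.f130761 IH) (Lpr_et (f502879 IH) (Lpn v1785))))
def v2069 : LQ := Led Lsl_gf (LP (LK LD1_c1 LD2_c34 LD3_c43))
theorem f508676 : Led Lsl_gf (LP (LK LD1_c1 LD2_c34 LD3_c43)) = v2069 :=
  Lrfl
theorem f669914 : Led Lsl_gf v2069 = v8082 :=
  Lgr Lrot47 (Lpe (f508676 IH) (Lpr_af (f502880 IH) (Lpr_ff (f669909 IH) (Lpn v8082))))
theorem f502881 : Led Lsl_cf K35.v460 = v1785 :=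
  Lgr Lrot39 (Lpe (K35.f452999 IH) (Lpr_ct (K3.f23037 IH) (Lpr_et (f502879 IH) (Lpn v1785))))
theorem f669912 : Led Lsl_ct K35.v3046 = v8082 :=
  Lgr Lrot40 (Lpe (K35.f622624 IH) (Lpr_cf (f502881 IH) (Lpr_ff (f669909 IH) (Lpn v8082))))
theorem f633033 : Led Lsl_gt v2043 = K58.v4382 :=
  Lgr Lrot46 (Lpe (f507900 IH) (Lpr_ft (K58.f507910 IH) (Lpqs (K58.f507943 IH) (Lpr_at (K58.f633029 IH) (Lpn K58.v4382)))))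
theorem f768809 : v2043 = K35.v3046 :=
  Lefun (Lecon (Lfl_gt (f633033 IH)) ((K58.f768791 IH).trans (K58.f675675 IH).symm)) (K35.f622631 IH)
theorem f768840 : v8082 = v8448 :=
  Lefun (Lecon (f669912 IH) (f768809 IH).symm) (f671272 IH)
theorem f768885 : v11055 = v2069 :=
  Lefun (Lecon (f682962 IH) (f768840 IH).symm) (Lfl_gf (f669914 IH))
def v8508 : LQ := Led Lsl_et v2069
theorem f671477 : Led Lsl_et v2069 = v8508 :=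
  Lrfl
theorem f671478 : Led Lsl_ef v2069 = v8508 :=
  Lgr Lrot88 (Lpr_et (f671477 IH) (Lpn v8508))
theorem f769155 : Led Lsl_cf v8508 = v10661 :=
  Lgr Lrot39 (Lpe (f671478 IH) (Lpq (f768885 IH) (Lpqs (f768829 IH) (Lpe (f681273 IH) (Lpr_et (f681278 IH) (Lpn v10661))))))
def v17000 : LQ := Led Lsl_ct (LP (LK LD1_c6 LD2_c10 LD3_c18))
theorem f754112 : Led Lsl_ct (LP (LK LD1_c6 LD2_c10 LD3_c18)) = v17000 :=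
  Lrfl
theorem f754114 : Led Lsl_cf (LP (LK LD1_c6 LD2_c10 LD3_c18)) = v17000 :=
  Lgr Lrot11 (Lpr_ct (f754112 IH) (Lpn v17000))
theorem f651310 : Led Lsl_ct (LP (LK LD1_c6 LD2_c40 LD3_c55)) = (LP (LK LD1_c12 LD2_c46 LD3_c12)) :=
  Lgr Lrot7 (Lpe (K49.f508988 IH) (Lpe (K32.f508986 IH) (Lpe (K32.f62098 IH) (Lpe (K5.f62083 IH) (Lpe (K46.f495081 IH) (Lpr_gt (K49.f416437 IH) (Lpr_dt (K46.f508801 IH) (Lpr_gt (K46.f651307 IH) (Lpr_dt (K49.f651309 IH) (Lpn (LP (LK LD1_c12 LD2_c46 LD3_c12))))))))))))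
theorem f649464 : Led Lsl_dt (LP (LK LD1_c12 LD2_c46 LD3_c12)) = (LP (LK LD1_c6 LD2_c40 LD3_c9)) :=
  Lre_d IH (LK LD1_c12 LD2_c46 LD3_c12) (LK LD1_c6 LD2_c40 LD3_c9) Lrfl Lrfl
theorem f62147 : Led Lsl_dt (LP (LK LD1_c6 LD2_c36 LD3_c11)) = (LP (LK LD1_c3 LD2_c16 LD3_c24)) :=
  Lre_d IH (LK LD1_c6 LD2_c36 LD3_c11) (LK LD1_c3 LD2_c16 LD3_c24) Lrfl Lrfl
theorem f624372 : Led Lsl_af (LP (LK LD1_c6 LD2_c36 LD3_c11)) = (LP (LK LD1_c3 LD2_c18 LD3_c25)) :=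
  Lgr Lrot117 (Lpr_dt (f62147 IH) (Lpq (K46.f624147 IH) (Lpe (K32.f508863 IH) (Lpr_dt (K57.f508853 IH) (Lpn (LP (LK LD1_c3 LD2_c18 LD3_c25)))))))
theorem f624247 : Led Lsl_ct (LP (LK LD1_c6 LD2_c36 LD3_c11)) = (LP (LK LD1_c12 LD2_c38 LD3_c29)) :=
  Lre_c IH (LK LD1_c6 LD2_c36 LD3_c11) (LK LD1_c12 LD2_c38 LD3_c29) Lrfl Lrfl
theorem f624378 : Led Lsl_at (LP (LK LD1_c12 LD2_c38 LD3_c29)) = (LP (LK LD1_c6 LD2_c40 LD3_c51)) :=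
  Lgr Lrot107 (Lpe (f624247 IH) (Lpr_af (f624372 IH) (Lpe (K57.f453903 IH) (Lpn (LP (LK LD1_c6 LD2_c40 LD3_c51))))))
theorem f624196 : Led Lsl_dt (LP (LK LD1_c3 LD2_c18 LD3_c35)) = (LP (LK LD1_c6 LD2_c41 LD3_c4)) :=
  Lre_d IH (LK LD1_c3 LD2_c18 LD3_c35) (LK LD1_c6 LD2_c41 LD3_c4) Lrfl Lrfl
theorem f62149 : Led Lsl_dt (LP (LK LD1_c12 LD2_c38 LD3_c28)) = (LP (LK LD1_c6 LD2_c36 LD3_c10)) :=
  Lre_d IH (LK LD1_c12 LD2_c38 LD3_c28) (LK LD1_c6 LD2_c36 LD3_c10) Lrfl Lrfl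
theorem f624200 : Led Lsl_ft (LP (LK LD1_c6 LD2_c41 LD3_c4)) = (LP (LK LD1_c12 LD2_c38 LD3_c28)) :=
  Lgr Lrot54 (Lpe (f624196 IH) (Lpr_ff (K52.f624194 IH) (Lpe (f62149 IH) (Lpn (LP (LK LD1_c12 LD2_c38 LD3_c28))))))
theorem f624223 : Led Lsl_bt (LP (LK LD1_c3 LD2_c18 LD3_c36)) = (LP (LK LD1_c6 LD2_c41 LD3_c4)) :=
  Lre_b IH (LK LD1_c3 LD2_c18 LD3_c36) (LK LD1_c6 LD2_c41 LD3_c4) Lrfl Lrfl
theorem f624224 : Led Lsl_bt (LP (LK LD1_c12 LD2_c38 LD3_c28)) = (LP (LK LD1_c6 LD2_c36 LD3_c11)) :=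
  Lre_b IH (LK LD1_c12 LD2_c38 LD3_c28) (LK LD1_c6 LD2_c36 LD3_c11) Lrfl Lrfl
theorem f624225 : Led Lsl_ff (LP (LK LD1_c3 LD2_c18 LD3_c36)) = (LP (LK LD1_c6 LD2_c36 LD3_c11)) :=
  Lgr Lrot25 (Lpr_bt (f624223 IH) (Lpr_ft (f624200 IH) (Lpr_bt (f624224 IH) (Lpn (LP (LK LD1_c6 LD2_c36 LD3_c11))))))
theorem f508704 : Led Lsl_ct (LP (LK LD1_c12 LD2_c38 LD3_c29)) = (LP (LK LD1_c6 LD2_c36 LD3_c11)) :=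
  Lre_c IH (LK LD1_c12 LD2_c38 LD3_c29) (LK LD1_c6 LD2_c36 LD3_c11) Lrfl Lrfl
theorem f624241 : Led Lsl_ft (LP (LK LD1_c6 LD2_c41 LD3_c6)) = (LP (LK LD1_c12 LD2_c38 LD3_c29)) :=
  Lgr Lrot4 (Lpe (K57.f508870 IH) (Lpr_ff (f624225 IH) (Lpe (f508704 IH) (Lpn (LP (LK LD1_c12 LD2_c38 LD3_c29))))))
theorem f651323 : Led Lsl_gt (LP (LK LD1_c6 LD2_c41 LD3_c6)) = (LP (LK LD1_c12 LD2_c46 LD3_c11)) :=
  Lgr Lrot5 (Lpr_ft (f624241 IH) (Lpr_at (f624378 IH) (Lpr_gf (K57.f651315 IH) (Lpn (LP (LK LD1_c12 LD2_c46 LD3_c11))))))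
def v6146 : LQ := Led Lsl_gt (LP (LK LD1_c3 LD2_c18 LD3_c25))
theorem f651516 : Led Lsl_gt (LP (LK LD1_c3 LD2_c18 LD3_c25)) = v6146 :=
  Lrfl
theorem f453902 : Led Lsl_dt (LP (LK LD1_c3 LD2_c18 LD3_c25)) = (LP (LK LD1_c1 LD2_c35 LD3_c40)) :=
  Lre_d IH (LK LD1_c3 LD2_c18 LD3_c25) (LK LD1_c1 LD2_c35 LD3_c40) Lrfl Lrfl
theorem f453911 : Led Lsl_dt (LP (LK LD1_c3 LD2_c16 LD3_c26)) = (LP (LK LD1_c6 LD2_c36 LD3_c14)) :=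
  Lre_d IH (LK LD1_c3 LD2_c16 LD3_c26) (LK LD1_c6 LD2_c36 LD3_c14) Lrfl Lrfl
theorem f624424 : Led Lsl_ff (LP (LK LD1_c3 LD2_c18 LD3_c25)) = (LP (LK LD1_c6 LD2_c36 LD3_c14)) :=
  Lgr Lrot19 (Lpr_dt (f453902 IH) (Lpr_ft (K32.f508885 IH) (Lpqs (K46.f624130 IH) (Lpr_dt (f453911 IH) (Lpn (LP (LK LD1_c6 LD2_c36 LD3_c14)))))))
theorem f624433 : Led Lsl_ft (LP (LK LD1_c3 LD2_c18 LD3_c25)) = (LP (LK LD1_c6 LD2_c36 LD3_c14)) :=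
  Lgr Lrot48 (Lpr_ff (f624424 IH) (Lpn (LP (LK LD1_c6 LD2_c36 LD3_c14))))
theorem f624374 : Led Lsl_at (LP (LK LD1_c6 LD2_c36 LD3_c11)) = (LP (LK LD1_c3 LD2_c18 LD3_c25)) :=
  Lgr Lrot100 (Lpr_af (f624372 IH) (Lpn (LP (LK LD1_c3 LD2_c18 LD3_c25))))
theorem f624243 : Led Lsl_ft (LP (LK LD1_c3 LD2_c18 LD3_c36)) = (LP (LK LD1_c6 LD2_c36 LD3_c11)) :=
  Lgr Lrot48 (Lpr_ff (f624225 IH) (Lpn (LP (LK LD1_c6 LD2_c36 LD3_c11))))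
theorem f624435 : Led Lsl_af (LP (LK LD1_c3 LD2_c18 LD3_c36)) = (LP (LK LD1_c6 LD2_c36 LD3_c14)) :=
  Lgr Lrot45 (Lpr_ft (f624243 IH) (Lpr_at (f624374 IH) (Lpr_ft (f624433 IH) (Lpn (LP (LK LD1_c6 LD2_c36 LD3_c14))))))
theorem f651517 : Led Lsl_gf (LP (LK LD1_c3 LD2_c18 LD3_c36)) = v6146 :=
  Lgr Lrot76 (Lpr_af (f624435 IH) (Lpe (f624433 IH) (Lpr_gt (f651516 IH) (Lpn v6146))))
theorem f66158 : Led Lsl_et (LP (LK LD1_c0 LD2_c44 LD3_c3)) = (LP (LK LD1_c1 LD2_c34 LD3_c43)) :=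
  Lre_e IH (LK LD1_c0 LD2_c44 LD3_c3) (LK LD1_c1 LD2_c34 LD3_c43) Lrfl Lrfl
theorem f671479 : Led Lsl_df v6146 = v8508 :=
  Lgr Lrot132 (Lpe (f651516 IH) (Lpe (K57.f508853 IH) (Lpr_gf (K32.f508852 IH) (Lpq (K32.f508871 IH) (Lpe (K5.f66023 IH) (Lpe (K3.f65992 IH) (Lpr_gf (K3.f66120 IH) (Lpe (K3.f62946 IH) (Lpr_et (f66158 IH) (Lpr_gf (f508676 IH) (Lpr_ef (f671478 IH) (Lpn v8508))))))))))))
theorem f671480 : Led Lsl_dt v6146 = v8508 :=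
  Lgr Lrot42 (Lpr_df (f671479 IH) (Lpn v8508))
theorem f754121 : Led Lsl_gt v8508 = v17000 :=
  Lgr Lrot9 (Lpe (f671480 IH) (Lpe (f651517 IH) (Lpr_ct (K57.f508870 IH) (Lpr_gt (f651323 IH) (Lpr_ct (K57.f651317 IH) (Lpe (f649464 IH) (Lpe (f651310 IH) (Lpe (K49.f678538 IH) (Lpqs (K49.f663219 IH) (Lpr_cf (f754114 IH) (Lpn v17000)))))))))))
def v17067 : LQ := Led Lsl_dt (LP (LK LD1_c6 LD2_c11 LD3_c9))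
theorem f754881 : Led Lsl_dt (LP (LK LD1_c6 LD2_c11 LD3_c9)) = v17067 :=
  Lrfl
theorem f769158 : Led Lsl_gt v17067 = v10661 :=
  Lgr Lrot9 (Lpe (f754881 IH) (Lpq (K57.f649431 IH) (Lpe (K57.f649354 IH) (Lpe (K34.f65579 IH) (Lpr_gt (K46.f650213 IH) (Lpqs (K46.f651206 IH) (Lpr_ct (K56.f453930 IH) (Lpe (K56.f441161 IH) (Lpr_cf (f754114 IH) (Lpe (f754121 IH) (Lpr_cf (f769155 IH) (Lpn v10661))))))))))))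
def v10716 : LQ := Led Lsl_et K58.v3441
theorem f681491 : Led Lsl_et K58.v3441 = v10716 :=
  Lrfl
theorem f769141 : v10716 = v10661 :=
  Lefun (Lecon (f681491 IH) (K58.f769134 IH)) (f681278 IH)
theorem f681493 : Led Lsl_ef K58.v3441 = v10716 :=
  Lgr Lrot88 (Lpr_et (f681491 IH) (Lpn v10716))
theorem f625665 : Led Lsl_af K56.v831 = K58.v3441 :=
  Lgr Lrot45 (Lpr_ft (K58.f625654 IH) (Lpe (K58.f625653 IH) (Lpr_ft (K58.f625664 IH) (Lpn K58.v3441))))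
theorem f681494 : Led Lsl_at K56.v3445 = v10716 :=
  Lgr Lrot80 (Lpe (K56.f625674 IH) (Lpr_af (f625665 IH) (Lpr_ef (f681493 IH) (Lpn v10716))))
def v10729 : LQ := Led Lsl_ft K56.v3445
theorem f681528 : Led Lsl_ft K56.v3445 = v10729 :=
  Lrfl
theorem f681529 : Led Lsl_ff K56.v3445 = v10729 :=
  Lgr Lrot3 (Lpr_ft (f681528 IH) (Lpn v10729))
theorem f769159 : Led Lsl_gf v17067 = v10729 :=
  Lgr Lrot47 (Lpr_gt (f769158 IH) (Lpq (f769141 IH) (Lpe (f681494 IH) (Lpr_ff (f681529 IH) (Lpn v10729)))))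
theorem f649364 : Led Lsl_at (LP (LK LD1_c3 LD2_c45 LD3_c22)) = K46.v5790 :=
  Lgr Lrot66 (Lpe (K46.f130966 IH) (Lpe (K5.f130958 IH) (Lpr_ff (K46.f649362 IH) (Lpn K46.v5790))))
theorem f651177 : Led Lsl_df (LP (LK LD1_c3 LD2_c45 LD3_c22)) = K46.v6113 :=
  Lgr Lrot18 (Lpr_at (f649364 IH) (Lpe (K46.f649360 IH) (Lpr_at (K46.f651173 IH) (Lpn K46.v6113))))
theorem f634288 : Led Lsl_gt (LP (LK LD1_c6 LD2_c36 LD3_c8)) = (LP (LK LD1_c3 LD2_c18 LD3_c15)) :=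
  Lre_g IH (LK LD1_c6 LD2_c36 LD3_c8) (LK LD1_c3 LD2_c18 LD3_c15) Lrfl Lrfl
theorem f754887 : Led Lsl_cf K56.v6133 = v17067 :=
  Lgr Lrot14 (Lpe (K56.f651434 IH) (Lpe (f634288 IH) (Lpe (K57.f508855 IH) (Lpe (K46.f495074 IH) (Lpr_ct (K46.f508797 IH) (Lpr_gt (K46.f651172 IH) (Lpe (f651177 IH) (Lpr_gt (K57.f649355 IH) (Lpqs (K57.f649431 IH) (Lpr_dt (f754881 IH) (Lpn v17067)))))))))))
theorem f754888 : Led Lsl_at K48.v7344 = v17067 :=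
  Lgr Lrot107 (Lpe (K48.f664660 IH) (Lpe (K56.f753857 IH) (Lpr_cf (f754887 IH) (Lpn v17067))))
def v17065 : LQ := Led Lsl_dt (LP (LK LD1_c6 LD2_c11 LD3_c7))
theorem f754810 : Led Lsl_dt (LP (LK LD1_c6 LD2_c11 LD3_c7)) = v17065 :=
  Lrfl
theorem f754813 : Led Lsl_ff K48.v7344 = v17065 :=
  Lgr Lrot19 (Lpe (K48.f664659 IH) (Lpr_ft (K51.f664637 IH) (Lpq (K57.f709652 IH) (Lpr_dt (f754810 IH) (Lpn v17065)))))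
theorem f769161 : Led Lsl_gt v17065 = v10729 :=
  Lgr Lrot5 (Lpe (f754813 IH) (Lpr_at (f754888 IH) (Lpr_gf (f769159 IH) (Lpn v10729))))
theorem f769162 : Led Lsl_dt v6768 = v10729 :=
  Lgr Lrot56 (Lpe (f658305 IH) (Lpr_gt (K58.f66632 IH) (Lpe (K3.f64599 IH) (Lpr_dt (K1.f19357 IH) (Lpr_gt (K3.f18906 IH) (Lpr_df (K3.f96723 IH) (Lpr_et (K5.f65591 IH) (Lpr_gt (K46.f649353 IH) (Lpq (K46.f649454 IH) (Lpr_dt (f754810 IH) (Lpr_gt (f769161 IH) (Lpn v10729))))))))))))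
theorem f769164 : Led Lsl_ff v6768 = K56.v10728 :=
  Lgr Lrot19 (Lpr_dt (f769162 IH) (Lpe (f681529 IH) (Lpr_dt (K56.f681520 IH) (Lpn K56.v10728))))
theorem f769218 : Led Lsl_gt (LP (LK LD1_c6 LD2_c40 LD3_c17)) = v9806 :=
  Lgr Lrot46 (Lpr_gf (K56.f681523 IH) (Lpe (f769164 IH) (Lpr_at (f769217 IH) (Lpn v9806))))
theorem f654220 : Led Lsl_at K56.v6572 = (LP (LK LD1_c6 LD2_c40 LD3_c7)) :=
  Lgr Lrot66 (Lpr_ff (K56.f654219 IH) (Lpr_af (K56.f654173 IH) (Lpe (K49.f654200 IH) (Lpn (LP (LK LD1_c6 LD2_c40 LD3_c7))))))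
theorem f769219 : Led Lsl_gf (LP (LK LD1_c6 LD2_c40 LD3_c7)) = v9806 :=
  Lgr Lrot76 (Lpe (f654220 IH) (Lpr_ff (K56.f654219 IH) (Lpr_gt (f769218 IH) (Lpn v9806))))
theorem f769722 : Led Lsl_gt K57.v18120 = v9805 :=
  Lgr Lrot112 (Lpr_df (f769720 IH) (Lpr_et (f209279 IH) (Lpr_gf (K49.f209277 IH) (Lpr_ef (K48.f130977 IH) (Lpr_dt (K46.f651181 IH) (Lpe (K46.f651172 IH) (Lpe (K46.f508800 IH) (Lpr_gf (f769219 IH) (Lpe (f677654 IH) (Lpr_dt (f677650 IH) (Lpn v9805)))))))))))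
def v7368 : LQ := Led Lsl_gt (LP (LK LD1_c3 LD2_c45 LD3_c37))
theorem f664764 : Led Lsl_gt (LP (LK LD1_c3 LD2_c45 LD3_c37)) = v7368 :=
  Lrfl
theorem f772567 : (LP (LK LD1_c7 LD2_c31 LD3_c33)) = v7368 :=
  (Llr Lrot153 (Lpe (f769720 IH) (Lpr_gt (f769722 IH) (Lpe (f677652 IH) (Lpqs (f769019 IH) (Lpe (f650853 IH) (Lpe (f119535 IH) (Lpe (f769397 IH) (Lpe (f96203 IH) (Lpr_gf (f772565 IH) (Lpe (f93383 IH) (Lpr_gt (f664764 IH) (Lpn v7368))))))))))))).symm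
theorem f119463 : Led Lsl_ct (LP (LK LD1_c6 LD2_c38 LD3_c7)) = (LP (LK LD1_c3 LD2_c17 LD3_c24)) :=
  Lre_c IH (LK LD1_c6 LD2_c38 LD3_c7) (LK LD1_c3 LD2_c17 LD3_c24) Lrfl Lrfl
theorem f118249 : Led Lsl_ct (LP (LK LD1_c6 LD2_c35 LD3_c32)) = (LP (LK LD1_c12 LD2_c37 LD3_c4)) :=
  Lre_c IH (LK LD1_c6 LD2_c35 LD3_c32) (LK LD1_c12 LD2_c37 LD3_c4) Lrfl Lrfl
theorem f651751 : Led Lsl_ff (LP (LK LD1_c6 LD2_c38 LD3_c7)) = (LP (LK LD1_c12 LD2_c37 LD3_c4)) :=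
  Lgr Lrot23 (Lpr_ct (f119463 IH) (Lpr_ft (K46.f650987 IH) (Lpqs (K46.f651744 IH) (Lpr_ct (f118249 IH) (Lpn (LP (LK LD1_c12 LD2_c37 LD3_c4)))))))
theorem f651759 : Led Lsl_ft (LP (LK LD1_c6 LD2_c38 LD3_c7)) = (LP (LK LD1_c12 LD2_c37 LD3_c4)) :=
  Lgr Lrot48 (Lpr_ff (f651751 IH) (Lpn (LP (LK LD1_c12 LD2_c37 LD3_c4))))
theorem f119508 : Led Lsl_dt (LP (LK LD1_c6 LD2_c38 LD3_c7)) = (LP (LK LD1_c12 LD2_c41 LD3_c61)) :=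
  Lre_d IH (LK LD1_c6 LD2_c38 LD3_c7) (LK LD1_c12 LD2_c41 LD3_c61) Lrfl Lrfl
theorem f119506 : Led Lsl_ct (LP (LK LD1_c3 LD2_c17 LD3_c24)) = (LP (LK LD1_c6 LD2_c38 LD3_c7)) :=
  Lre_c IH (LK LD1_c3 LD2_c17 LD3_c24) (LK LD1_c6 LD2_c38 LD3_c7) Lrfl Lrfl
theorem f118147 : Led Lsl_dt (LP (LK LD1_c21 LD2_c48 LD3_c37)) = (LP (LK LD1_c12 LD2_c41 LD3_c41)) :=
  Lre_d IH (LK LD1_c21 LD2_c48 LD3_c37) (LK LD1_c12 LD2_c41 LD3_c41) Lrfl Lrfl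
theorem f651013 : Led Lsl_ct (LP (LK LD1_c12 LD2_c41 LD3_c61)) = (LP (LK LD1_c21 LD2_c48 LD3_c37)) :=
  Lgr Lrot41 (Lpe (f119508 IH) (Lpe (f119506 IH) (Lpe (K46.f66063 IH) (Lpr_ft (K46.f508638 IH) (Lpr_at (K56.f650995 IH) (Lpe (K46.f62056 IH) (Lpe (K46.f443665 IH) (Lpr_cf (f650880 IH) (Lpe (f118147 IH) (Lpn (LP (LK LD1_c21 LD2_c48 LD3_c37))))))))))))
theorem f119491 : Led Lsl_ct (LP (LK LD1_c3 LD2_c17 LD3_c23)) = (LP (LK LD1_c6 LD2_c38 LD3_c5)) :=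
  Lre_c IH (LK LD1_c3 LD2_c17 LD3_c23) (LK LD1_c6 LD2_c38 LD3_c5) Lrfl Lrfl
theorem f651766 : Led Lsl_af (LP (LK LD1_c6 LD2_c38 LD3_c5)) = (LP (LK LD1_c12 LD2_c37 LD3_c4)) :=
  Lgr Lrot109 (Lpe (f119491 IH) (Lpe (K46.f62051 IH) (Lpe (K46.f62056 IH) (Lpe (K46.f443665 IH) (Lpr_cf (f650880 IH) (Lpe (f118147 IH) (Lpe (f651013 IH) (Lpe (f119508 IH) (Lpr_ft (f651759 IH) (Lpn (LP (LK LD1_c12 LD2_c37 LD3_c4))))))))))))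
theorem f93823 : Led Lsl_at (LP (LK LD1_c21 LD2_c50 LD3_c39)) = (LP (LK LD1_c22 LD2_c31 LD3_c11)) :=
  Lgr Lrot100 (Lpr_af (K58.f93821 IH) (Lpn (LP (LK LD1_c22 LD2_c31 LD3_c11))))
theorem f93825 : Led Lsl_ft (LP (LK LD1_c12 LD2_c43 LD3_c19)) = (LP (LK LD1_c21 LD2_c50 LD3_c39)) :=
  Lre_f IH (LK LD1_c12 LD2_c43 LD3_c19) (LK LD1_c21 LD2_c50 LD3_c39) Lrfl Lrfl
theorem f93720 : Led Lsl_dt (LP (LK LD1_c12 LD2_c43 LD3_c19)) = (LP (LK LD1_c6 LD2_c38 LD3_c49)) :=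
  Lre_d IH (LK LD1_c12 LD2_c43 LD3_c19) (LK LD1_c6 LD2_c38 LD3_c49) Lrfl Lrfl
theorem f88750 : Led Lsl_ct (LP (LK LD1_c13 LD2_c15 LD3_c58)) = (LP (LK LD1_c22 LD2_c31 LD3_c11)) :=
  Lre_c IH (LK LD1_c13 LD2_c15 LD3_c58) (LK LD1_c22 LD2_c31 LD3_c11) Lrfl Lrfl
theorem f88735 : Led Lsl_dt (LP (LK LD1_c6 LD2_c59 LD3_c28)) = (LP (LK LD1_c13 LD2_c15 LD3_c58)) :=
  Lre_d IH (LK LD1_c6 LD2_c59 LD3_c28) (LK LD1_c13 LD2_c15 LD3_c58) Lrfl Lrfl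
theorem f93826 : Led Lsl_ct (LP (LK LD1_c1 LD2_c35 LD3_c23)) = (LP (LK LD1_c1 LD2_c41 LD3_c12)) :=
  Lgr Lrot41 (Lpe (f93382 IH) (Lpe (f93795 IH) (Lpe (f93720 IH) (Lpr_ft (f93825 IH) (Lpr_at (f93823 IH) (Lpe (f88750 IH) (Lpe (f88735 IH) (Lpe (K7.f66598 IH) (Lpe (K3.f66457 IH) (Lpn (LP (LK LD1_c1 LD2_c41 LD3_c12))))))))))))
theorem f66619 : Led Lsl_ct (LP (LK LD1_c6 LD2_c59 LD3_c28)) = (LP (LK LD1_c3 LD2_c28 LD3_c56)) :=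
  Lre_c IH (LK LD1_c6 LD2_c59 LD3_c28) (LK LD1_c3 LD2_c28 LD3_c56) Lrfl Lrfl
theorem f443673 : Led Lsl_gf (LP (LK LD1_c6 LD2_c59 LD3_c28)) = (LP (LK LD1_c6 LD2_c38 LD3_c7)) :=
  Lgr Lrot104 (Lpr_ct (f66619 IH) (Lpe (K3.f66457 IH) (Lpe (f93826 IH) (Lpr_gf (K46.f443671 IH) (Lpe (K46.f119404 IH) (Lpr_gf (K46.f119398 IH) (Lpe (K4.f118111 IH) (Lpr_gt (K49.f119501 IH) (Lpr_ct (f119506 IH) (Lpn (LP (LK LD1_c6 LD2_c38 LD3_c7))))))))))))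
theorem f651772 : Led Lsl_gf (LP (LK LD1_c6 LD2_c38 LD3_c5)) = (LP (LK LD1_c6 LD2_c59 LD3_c28)) :=
  Lgr Lrot76 (Lpr_af (f651766 IH) (Lpe (f651759 IH) (Lpe (f443673 IH) (Lpn (LP (LK LD1_c6 LD2_c59 LD3_c28))))))
theorem f119490 : Led Lsl_ct (LP (LK LD1_c6 LD2_c38 LD3_c5)) = (LP (LK LD1_c3 LD2_c17 LD3_c23)) :=
  Lre_c IH (LK LD1_c6 LD2_c38 LD3_c5) (LK LD1_c3 LD2_c17 LD3_c23) Lrfl Lrfl
theorem f772569 : Led Lsl_gt (LP (LK LD1_c12 LD2_c2 LD3_c48)) = (LP (LK LD1_c12 LD2_c41 LD3_c59)) :=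
  Lgr Lrot150 (Lpr_cf (f670918 IH) (Lpqs (f772567 IH) (Lpe (f664764 IH) (Lpr_df (K58.f93377 IH) (Lpr_gt (K58.f66608 IH) (Lpr_ct (K7.f66598 IH) (Lpe (f651772 IH) (Lpr_ct (f119490 IH) (Lpe (K46.f62051 IH) (Lpe (K46.f62056 IH) (Lpn (LP (LK LD1_c12 LD2_c41 LD3_c59)))))))))))))
def v6308 : LQ := Led Lsl_bt (LP (LK LD1_c3 LD2_c20 LD3_c5))
theorem f652659 : Led Lsl_bt (LP (LK LD1_c3 LD2_c20 LD3_c5)) = v6308 :=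
  Lrfl
theorem f416170 : Led Lsl_bt (LP (LK LD1_c4 LD2_c44 LD3_c25)) = (LP (LK LD1_c2 LD2_c20 LD3_c12)) :=
  Lre_b IH (LK LD1_c4 LD2_c44 LD3_c25) (LK LD1_c2 LD2_c20 LD3_c12) Lrfl Lrfl
theorem f652663 : Led Lsl_ff (LP (LK LD1_c4 LD2_c44 LD3_c25)) = v6308 :=
  Lgr Lrot25 (Lpr_bt (f416170 IH) (Lpe (K35.f507170 IH) (Lpr_bt (f652659 IH) (Lpn v6308))))
theorem f507605 : Led Lsl_et (LP (LK LD1_c4 LD2_c44 LD3_c25)) = (LP (LK LD1_c2 LD2_c20 LD3_c11)) :=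
  Lre_e IH (LK LD1_c4 LD2_c44 LD3_c25) (LK LD1_c2 LD2_c20 LD3_c11) Lrfl Lrfl
theorem f68436 : Led Lsl_et (LP (LK LD1_c1 LD2_c33 LD3_c46)) = (LP (LK LD1_c3 LD2_c14 LD3_c32)) :=
  Lre_e IH (LK LD1_c1 LD2_c33 LD3_c46) (LK LD1_c3 LD2_c14 LD3_c32) Lrfl Lrfl
def v5273 : LQ := Led Lsl_bt (LP (LK LD1_c3 LD2_c2 LD3_c54))
theorem f646866 : Led Lsl_bt (LP (LK LD1_c3 LD2_c2 LD3_c54)) = v5273 :=
  Lrfl
theorem f507083 : Led Lsl_ff (LP (LK LD1_c3 LD2_c2 LD3_c54)) = (LP (LK LD1_c1 LD2_c33 LD3_c48)) :=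
  Lgr Lrot23 (Lpr_ct (K46.f444634 IH) (Lpr_ft (K35.f507079 IH) (Lpr_ct (K32.f416155 IH) (Lpn (LP (LK LD1_c1 LD2_c33 LD3_c48))))))
theorem f416158 : Led Lsl_bt (LP (LK LD1_c3 LD2_c14 LD3_c32)) = (LP (LK LD1_c1 LD2_c33 LD3_c48)) :=
  Lre_b IH (LK LD1_c3 LD2_c14 LD3_c32) (LK LD1_c1 LD2_c33 LD3_c48) Lrfl Lrfl
theorem f646868 : Led Lsl_ff (LP (LK LD1_c3 LD2_c14 LD3_c32)) = v5273 :=
  Lgr Lrot25 (Lpr_bt (f416158 IH) (Lpe (f507083 IH) (Lpr_bt (f646866 IH) (Lpn v5273))))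
theorem f646869 : Led Lsl_ft (LP (LK LD1_c3 LD2_c14 LD3_c32)) = v5273 :=
  Lgr Lrot48 (Lpr_ff (f646868 IH) (Lpn v5273))
theorem f652665 : Led Lsl_et v5273 = v6308 :=
  Lgr Lrot69 (Lpe (f646869 IH) (Lpe (f68436 IH) (Lpr_ff (K58.f507602 IH) (Lpe (f507605 IH) (Lpr_ff (f652663 IH) (Lpn v6308))))))
theorem f678381 : Led Lsl_df K46.v3148 = K57.v10014 :=
  Lgr Lrot38 (Lpr_dt (K57.f678379 IH) (Lpn K57.v10014))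
theorem f68422 : Led Lsl_dt (LP (LK LD1_c6 LD2_c32 LD3_c39)) = (LP (LK LD1_c3 LD2_c14 LD3_c32)) :=
  Lre_d IH (LK LD1_c6 LD2_c32 LD3_c39) (LK LD1_c3 LD2_c14 LD3_c32) Lrfl Lrfl
theorem f68388 : Led Lsl_bt (LP (LK LD1_c6 LD2_c32 LD3_c39)) = (LP (LK LD1_c3 LD2_c14 LD3_c34)) :=
  Lre_b IH (LK LD1_c6 LD2_c32 LD3_c39) (LK LD1_c3 LD2_c14 LD3_c34) Lrfl Lrfl
theorem f68389 : Led Lsl_bt (LP (LK LD1_c2 LD2_c21 LD3_c55)) = (LP (LK LD1_c4 LD2_c48 LD3_c2)) :=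
  Lre_b IH (LK LD1_c2 LD2_c21 LD3_c55) (LK LD1_c4 LD2_c48 LD3_c2) Lrfl Lrfl
theorem f68390 : Led Lsl_ef (LP (LK LD1_c6 LD2_c32 LD3_c39)) = (LP (LK LD1_c4 LD2_c48 LD3_c2)) :=
  Lgr Lrot29 (Lpr_bt (f68388 IH) (Lpr_et (K24.f68385 IH) (Lpr_bt (f68389 IH) (Lpn (LP (LK LD1_c4 LD2_c48 LD3_c2))))))
theorem f68425 : Led Lsl_dt (LP (LK LD1_c2 LD2_c21 LD3_c54)) = (LP (LK LD1_c4 LD2_c48 LD3_c2)) :=
  Lre_d IH (LK LD1_c2 LD2_c21 LD3_c54) (LK LD1_c4 LD2_c48 LD3_c2) Lrfl Lrfl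
theorem f771611 : K46.v6043 = (LP (LK LD1_c4 LD2_c48 LD3_c2)) :=
  Lefun (Lecon (K57.f650700 IH) (f771584 IH)) (f68425 IH)
theorem f771690 : K57.v10014 = (LP (LK LD1_c6 LD2_c32 LD3_c39)) :=
  Lefun (Lecon (K57.f678387 IH) (f771611 IH)) (Lfl_ef (f68390 IH))
theorem f771774 : K46.v3148 = (LP (LK LD1_c3 LD2_c14 LD3_c32)) :=
  Lefun (Lecon (Lfl_df (f678381 IH)) (f771690 IH)) (f68422 IH)
theorem f771835 : (LP (LK LD1_c6 LD2_c11 LD3_c22)) = v5273 :=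
  Lefun (Lecon (K46.f651002 IH) (f771774 IH)) (f646869 IH)
theorem f771922 : v6308 = (LP (LK LD1_c6 LD2_c38 LD3_c6)) :=
  Lefun (Lecon (f652665 IH) (f771835 IH).symm) (K46.f62057 IH)
theorem f652660 : Led Lsl_bf (LP (LK LD1_c3 LD2_c20 LD3_c5)) = v6308 :=
  Lgr Lrot24 (Lpr_bt (f652659 IH) (Lpn v6308))
theorem f57167 : Led Lsl_bt (LP (LK LD1_c6 LD2_c12 LD3_c24)) = (LP (LK LD1_c3 LD2_c2 LD3_c53)) :=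
  Lre_b IH (LK LD1_c6 LD2_c12 LD3_c24) (LK LD1_c3 LD2_c2 LD3_c53) Lrfl Lrfl
theorem f768040 : Led Lsl_cf (LP (LK LD1_c6 LD2_c32 LD3_c7)) = v18682 :=
  Lgr Lrot11 (Lpr_ct (f768039 IH) (Lpn v18682))
theorem f664772 : Led Lsl_bf (LP (LK LD1_c3 LD2_c45 LD3_c37)) = v7371 :=
  Lgr Lrot24 (Lpr_bt (f664771 IH) (Lpn v7371))
theorem f772571 : v18682 = v7371 :=
  (Llr Lrot58 (Lpe (f768040 IH) (Lpr_gf (K57.f756348 IH) (Lpe (K57.f756344 IH) (Lpr_bt (f57167 IH) (Lpe (K46.f438442 IH) (Lpr_bf (f652660 IH) (Lpqs (f771922 IH) (Lpr_ct (K46.f62060 IH) (Lpe (f772569 IH) (Lpr_cf (f670918 IH) (Lpqs (f772567 IH) (Lpe (f664764 IH) (Lpr_bf (f664772 IH) (Lpn v7371))))))))))))))).symm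
theorem f772572 : v5852 = v2622 :=
  Lefun (Lecon (Lfl_ef (f768041 IH)) (f772571 IH)) (Lfl_ef (f664774 IH))
theorem f772575 : (LP (LK LD1_c3 LD2_c14 LD3_c13)) = v9365 :=
  Lefun (Lecon (Lfl_cf (f649823 IH)) (f772572 IH)) (f675518 IH)
theorem f772578 : Led Lsl_ft (LP (LK LD1_c6 LD2_c31 LD3_c13)) = (LP (LK LD1_c3 LD2_c14 LD3_c13)) :=
  Leop (Lpqs (f772575 IH) (Lpq (f772379 IH) (Lpe (f767657 IH) (Lpn (LP (LK LD1_c6 LD2_c31 LD3_c13))))))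
theorem seed_1335 : LEOK LG_f (LK LD1_c6 LD2_c31 LD3_c13) :=
  Leoe_f (LK LD1_c6 LD2_c31 LD3_c13) (f772578 IH)
theorem f649830 : Led Lsl_ff (LP (LK LD1_c3 LD2_c14 LD3_c13)) = K50.v5853 :=
  Lgr Lrot3 (Lpr_ft (K50.f649827 IH) (Lpn K50.v5853))
theorem f649820 : Led Lsl_ff (LP (LK LD1_c3 LD2_c14 LD3_c14)) = K50.v5851 :=
  Lgr Lrot3 (Lpr_ft (K50.f649819 IH) (Lpn K50.v5851))
theorem f649831 : Led Lsl_at (LP (LK LD1_c3 LD2_c14 LD3_c14)) = K50.v5853 :=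
  Lgr Lrot66 (Lpr_ff (f649820 IH) (Lpe (K50.f649813 IH) (Lpr_ff (f649830 IH) (Lpn K50.v5853))))
theorem f767659 : Led Lsl_ff (LP (LK LD1_c6 LD2_c31 LD3_c13)) = v18602 :=
  Lgr Lrot3 (Lpr_ft (f767657 IH) (Lpn v18602))
theorem f772577 : (LP (LK LD1_c6 LD2_c31 LD3_c13)) = K50.v5853 :=
  Lefun (Lecon (Lfl_ff (f767659 IH)) ((f772379 IH).trans (f772575 IH).symm)) (K50.f649827 IH)
theorem f772581 : Led Lsl_at (LP (LK LD1_c3 LD2_c14 LD3_c14)) = (LP (LK LD1_c6 LD2_c31 LD3_c13)) :=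
  Leop (Lpqs (f772577 IH) (Lpe (f649831 IH) (Lpn (LP (LK LD1_c3 LD2_c14 LD3_c14)))))
theorem seed_1336 : LEOK LG_a (LK LD1_c3 LD2_c14 LD3_c14) :=
  Leoe_a (LK LD1_c3 LD2_c14 LD3_c14) (f772581 IH)
def v18680 : LQ := Led Lsl_ft (LP (LK LD1_c6 LD2_c32 LD3_c6))
theorem f768027 : Led Lsl_ft (LP (LK LD1_c6 LD2_c32 LD3_c6)) = v18680 :=
  Lrfl
theorem f768030 : Led Lsl_ff (LP (LK LD1_c6 LD2_c32 LD3_c6)) = v18680 :=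
  Lgr Lrot3 (Lpr_ft (f768027 IH) (Lpn v18680))
theorem f649590 : Led Lsl_dt (LP (LK LD1_c6 LD2_c32 LD3_c6)) = (LP (LK LD1_c3 LD2_c14 LD3_c13)) :=
  Lre_d IH (LK LD1_c6 LD2_c32 LD3_c6) (LK LD1_c3 LD2_c14 LD3_c13) Lrfl Lrfl
theorem f768033 : Led Lsl_dt K50.v5853 = v18680 :=
  Lgr Lrot60 (Lpe (K50.f649827 IH) (Lpe (f649590 IH) (Lpr_ff (f768030 IH) (Lpn v18680))))
def v18600 : LQ := Led Lsl_dt (LP (LK LD1_c6 LD2_c31 LD3_c13))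
theorem f767653 : Led Lsl_dt (LP (LK LD1_c6 LD2_c31 LD3_c13)) = v18600 :=
  Lrfl
theorem f772586 : v18680 = v18600 :=
  Lefun (Lecon (f768033 IH) (f772577 IH).symm) (f767653 IH)
def v7364 : LQ := Led Lsl_bt (LP (LK LD1_c3 LD2_c45 LD3_c36))
theorem f664750 : Led Lsl_bt (LP (LK LD1_c3 LD2_c45 LD3_c36)) = v7364 :=
  Lrfl
theorem f664752 : Led Lsl_df v2622 = v7364 :=
  Lgr Lrot12 (Lpe (f527914 IH) (Lpr_dt (K56.f85126 IH) (Lpr_bt (f664750 IH) (Lpn v7364))))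
theorem f664753 : Led Lsl_dt v2622 = v7364 :=
  Lgr Lrot42 (Lpr_df (f664752 IH) (Lpn v7364))
def v18679 : LQ := Led Lsl_at (LP (LK LD1_c6 LD2_c32 LD3_c6))
theorem f768021 : Led Lsl_at (LP (LK LD1_c6 LD2_c32 LD3_c6)) = v18679 :=
  Lrfl
theorem f768022 : Led Lsl_af (LP (LK LD1_c6 LD2_c32 LD3_c6)) = v18679 :=
  Lgr Lrot0 (Lpr_at (f768021 IH) (Lpn v18679))
theorem f768023 : Led Lsl_df K50.v5851 = v18679 :=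
  Lgr Lrot18 (Lpe (K50.f649814 IH) (Lpr_dt (K50.f22596 IH) (Lpr_at (f768021 IH) (Lpn v18679))))
theorem f768025 : Led Lsl_ft (LP (LK LD1_c6 LD2_c32 LD3_c8)) = v18679 :=
  Lgr Lrot54 (Lpe (K58.f649584 IH) (Lpr_ff (f649820 IH) (Lpr_df (f768023 IH) (Lpn v18679))))
theorem f768028 : Led Lsl_af (LP (LK LD1_c6 LD2_c32 LD3_c8)) = v18680 :=
  Lgr Lrot45 (Lpr_ft (f768025 IH) (Lpe (f768022 IH) (Lpr_ft (f768027 IH) (Lpn v18680))))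
theorem f649586 : Led Lsl_ct (LP (LK LD1_c12 LD2_c32 LD3_c6)) = (LP (LK LD1_c6 LD2_c32 LD3_c8)) :=
  Lre_c IH (LK LD1_c12 LD2_c32 LD3_c6) (LK LD1_c6 LD2_c32 LD3_c8) Lrfl Lrfl
theorem f768076 : Led Lsl_dt (LP (LK LD1_c12 LD2_c32 LD3_c8)) = (LP (LK LD1_c12 LD2_c32 LD3_c6)) :=
  Lgr Lrot42 (Lpr_df (K58.f768072 IH) (Lpn (LP (LK LD1_c12 LD2_c32 LD3_c6))))
theorem f22703 : Led Lsl_ct (LP (LK LD1_c6 LD2_c32 LD3_c10)) = (LP (LK LD1_c12 LD2_c32 LD3_c8)) :=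
  Lre_c IH (LK LD1_c6 LD2_c32 LD3_c10) (LK LD1_c12 LD2_c32 LD3_c8) Lrfl Lrfl
theorem f772588 : Led Lsl_ct v7364 = (LP (LK LD1_c9 LD2_c32 LD3_c32)) :=
  Lgr Lrot41 (Lpe (f664753 IH) (Lpq (f772572 IH) (Lpe (f649822 IH) (Lpe (f649590 IH) (Lpr_ft (f768027 IH) (Lpqs (f772586 IH) (Lpq (f772586 IH) (Lpe (f768028 IH) (Lpe (f649586 IH) (Lpe (f768076 IH) (Lpe (f22703 IH) (Lpr_df (K58.f767673 IH) (Lpn (LP (LK LD1_c9 LD2_c32 LD3_c32)))))))))))))))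
def v7365 : LQ := Led Lsl_ct (LP (LK LD1_c3 LD2_c45 LD3_c36))
theorem f664754 : Led Lsl_ct (LP (LK LD1_c3 LD2_c45 LD3_c36)) = v7365 :=
  Lrfl
theorem f664755 : Led Lsl_cf (LP (LK LD1_c3 LD2_c45 LD3_c36)) = v7365 :=
  Lgr Lrot11 (Lpr_ct (f664754 IH) (Lpn v7365))
theorem f769481 : v7365 = (LP (LK LD1_c6 LD2_c41 LD3_c8)) :=
  (Llr Lrot99 (Lpe (f664755 IH) (Lpe (K56.f85126 IH) (Lpe (K58.f527755 IH) (Lpr_gf (K58.f664705 IH) (Lpqs (K58.f769441 IH) (Lpe (K32.f130783 IH) (Lpe (K5.f130789 IH) (Lpr_df (K5.f130808 IH) (Lpqs (K49.f624499 IH) (Lpe (K49.f509026 IH) (Lpr_ct (K35.f509027 IH) (Lpr_gt (K46.f66088 IH) (Lpn (LP (LK LD1_c6 LD2_c41 LD3_c8)))))))))))))))).symm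
theorem f624284 : Led Lsl_bt (LP (LK LD1_c12 LD2_c47 LD3_c39)) = (LP (LK LD1_c6 LD2_c41 LD3_c8)) :=
  Lre_b IH (LK LD1_c12 LD2_c47 LD3_c39) (LK LD1_c6 LD2_c41 LD3_c8) Lrfl Lrfl
theorem f767682 : Led Lsl_bt (LP (LK LD1_c9 LD2_c32 LD3_c32)) = (LP (LK LD1_c17 LD2_c34 LD3_c48)) :=
  Lre_b IH (LK LD1_c9 LD2_c32 LD3_c32) (LK LD1_c17 LD2_c34 LD3_c48) Lrfl Lrfl
theorem f772589 : Led Lsl_cf (LP (LK LD1_c12 LD2_c47 LD3_c39)) = (LP (LK LD1_c17 LD2_c34 LD3_c48)) :=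
  Lgr Lrot97 (Lpr_bt (f624284 IH) (Lpq (f769481 IH) (Lpe (f664755 IH) (Lpr_bt (f664750 IH) (Lpr_ct (f772588 IH) (Lpr_bt (f767682 IH) (Lpn (LP (LK LD1_c17 LD2_c34 LD3_c48)))))))))
theorem f772590 : Led Lsl_ct (LP (LK LD1_c17 LD2_c34 LD3_c48)) = (LP (LK LD1_c12 LD2_c47 LD3_c39)) :=
  Leop (Lpr_cf (f772589 IH) (Lpn (LP (LK LD1_c17 LD2_c34 LD3_c48))))
theorem seed_1337 : LEOK LG_c (LK LD1_c17 LD2_c34 LD3_c48) :=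
  Leoe_c (LK LD1_c17 LD2_c34 LD3_c48) (f772590 IH)
def v13225 : LQ := Led Lsl_ft (LP (LK LD1_c4 LD2_c41 LD3_c50))
theorem f701782 : Led Lsl_ft (LP (LK LD1_c4 LD2_c41 LD3_c50)) = v13225 :=
  Lrfl
theorem f701784 : Led Lsl_ff (LP (LK LD1_c4 LD2_c41 LD3_c50)) = v13225 :=
  Lgr Lrot3 (Lpr_ft (f701782 IH) (Lpn v13225))
def v4273 : LQ := Led Lsl_ft (LP (LK LD1_c2 LD2_c18 LD3_c10))
theorem f632348 : Led Lsl_ft (LP (LK LD1_c2 LD2_c18 LD3_c10)) = v4273 :=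
  Lrfl
theorem f701785 : Led Lsl_bt v4273 = v13225 :=
  Lgr Lrot35 (Lpe (f632348 IH) (Lpe (K50.f61094 IH) (Lpr_ff (f701784 IH) (Lpn v13225))))
def v6209 : LQ := Led Lsl_ct (LP (LK LD1_c3 LD2_c19 LD3_c9))
theorem f652100 : Led Lsl_ct (LP (LK LD1_c3 LD2_c19 LD3_c9)) = v6209 :=
  Lrfl
theorem f652101 : Led Lsl_cf (LP (LK LD1_c3 LD2_c19 LD3_c9)) = v6209 :=
  Lgr Lrot11 (Lpr_ct (f652100 IH) (Lpn v6209))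
theorem f141163 : Led Lsl_gt (LP (LK LD1_c3 LD2_c19 LD3_c9)) = (LP (LK LD1_c1 LD2_c36 LD3_c1)) :=
  Lre_g IH (LK LD1_c3 LD2_c19 LD3_c9) (LK LD1_c1 LD2_c36 LD3_c1) Lrfl Lrfl
theorem f141152 : Led Lsl_bt (LP (LK LD1_c0 LD2_c44 LD3_c32)) = (LP (LK LD1_c0 LD2_c19 LD3_c50)) :=
  Lre_b IH (LK LD1_c0 LD2_c44 LD3_c32) (LK LD1_c0 LD2_c19 LD3_c50) Lrfl Lrfl
theorem f61097 : Led Lsl_bt (LP (LK LD1_c1 LD2_c6 LD3_c14)) = (LP (LK LD1_c2 LD2_c18 LD3_c13)) :=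
  Lre_b IH (LK LD1_c1 LD2_c6 LD3_c14) (LK LD1_c2 LD2_c18 LD3_c13) Lrfl Lrfl
def v4257 : LQ := Led Lsl_gf (LP (LK LD1_c2 LD2_c17 LD3_c61))
theorem f632251 : Led Lsl_gf (LP (LK LD1_c2 LD2_c17 LD3_c61)) = v4257 :=
  Lrfl
theorem f153589 : Led Lsl_at (LP (LK LD1_c1 LD2_c6 LD3_c6)) = (LP (LK LD1_c2 LD2_c17 LD3_c61)) :=
  Lre_a IH (LK LD1_c1 LD2_c6 LD3_c6) (LK LD1_c2 LD2_c17 LD3_c61) Lrfl Lrfl
theorem f439659 : Led Lsl_ft (LP (LK LD1_c2 LD2_c18 LD3_c13)) = (LP (LK LD1_c1 LD2_c6 LD3_c6)) :=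
  Lre_f IH (LK LD1_c2 LD2_c18 LD3_c13) (LK LD1_c1 LD2_c6 LD3_c6) Lrfl Lrfl
theorem f632252 : Led Lsl_gt (LP (LK LD1_c2 LD2_c18 LD3_c13)) = v4257 :=
  Lgr Lrot5 (Lpr_ft (f439659 IH) (Lpr_at (f153589 IH) (Lpr_gf (f632251 IH) (Lpn v4257))))
theorem f652106 : Led Lsl_bf v4257 = v6209 :=
  Lgr Lrot34 (Lpe (f632252 IH) (Lpe (f61097 IH) (Lpe (K32.f61098 IH) (Lpe (K35.f419123 IH) (Lpe (K35.f435571 IH) (Lpe (K9.f24620 IH) (Lpe (f141152 IH) (Lpr_ct (K9.f139802 IH) (Lpe (f141163 IH) (Lpr_cf (f652101 IH) (Lpn v6209)))))))))))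
theorem f652107 : Led Lsl_bt v4257 = v6209 :=
  Lgr Lrot127 (Lpr_bf (f652106 IH) (Lpn v6209))
theorem f649588 : Led Lsl_dt (LP (LK LD1_c6 LD2_c32 LD3_c8)) = (LP (LK LD1_c3 LD2_c14 LD3_c14)) :=
  Lre_d IH (LK LD1_c6 LD2_c32 LD3_c8) (LK LD1_c3 LD2_c14 LD3_c14) Lrfl Lrfl
theorem f772592 : Led Lsl_at v9366 = K50.v5855 :=
  Lgr Lrot33 (Lpe (f675520 IH) (Lpr_dt (f664753 IH) (Lpr_ct (f772588 IH) (Lpe (K58.f767673 IH) (Lpr_ct (f22703 IH) (Lpr_dt (f768076 IH) (Lpr_ct (f649586 IH) (Lpr_dt (f649588 IH) (Lpr_ct (K50.f649836 IH) (Lpn K50.v5855))))))))))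
theorem f675363 : Led Lsl_af K58.v2604 = K58.v9316 :=
  Lgr Lrot45 (Lpr_ft (K58.f675350 IH) (Lpe (K58.f675349 IH) (Lpr_ft (K58.f675362 IH) (Lpn K58.v9316))))
theorem f527917 : Led Lsl_af K56.v819 = v2623 :=
  Lgr Lrot45 (Lpr_ft (K56.f527911 IH) (Lpe (K56.f527910 IH) (Lpr_ft (f527916 IH) (Lpn v2623))))
theorem f772384 : K56.v819 = K58.v9316 :=
  Lefun (Lecon (Lfl_af (f527917 IH)) (f772381 IH)) (K58.f675365 IH)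
def v7831 : LQ := Led Lsl_ft v1317
theorem f668636 : Led Lsl_ft v1317 = v7831 :=
  Lrfl
theorem f668637 : Led Lsl_af v1318 = v7831 :=
  Lgr Lrot45 (Lpr_ft (f668624 IH) (Lpe (f668623 IH) (Lpr_ft (f668636 IH) (Lpn v7831))))
theorem f772595 : v7831 = K50.v7817 :=
  (Llr Lrot36 (Lpe (f668637 IH) (Lpq (f772370 IH) (Lpe (f625577 IH) (Lpqs (f772384 IH) (Lpe (f675363 IH) (Lpr_bt (f675366 IH) (Lpq (f772338 IH) (Lpqs (f772380 IH) (Lpr_at (f772592 IH) (Lpr_bt (K50.f668566 IH) (Lpn K50.v7817)))))))))))).symm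
def v7829 : LQ := Led Lsl_dt v1317
theorem f668632 : Led Lsl_dt v1317 = v7829 :=
  Lrfl
theorem f668633 : Led Lsl_df v1317 = v7829 :=
  Lgr Lrot38 (Lpr_dt (f668632 IH) (Lpn v7829))
theorem f772596 : Led Lsl_ff v7829 = K50.v4272 :=
  Lgr Lrot19 (Lpe (f668633 IH) (Lpr_ft (f668636 IH) (Lpqs (f772595 IH) (Lpe (K50.f668568 IH) (Lpn K50.v4272)))))
theorem f772597 : Led Lsl_ft v7829 = K50.v4272 :=
  Lgr Lrot48 (Lpr_ff (f772596 IH) (Lpn K50.v4272))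
theorem f510148 : Led Lsl_ft (LP (LK LD1_c1 LD2_c38 LD3_c27)) = (LP (LK LD1_c3 LD2_c13 LD3_c1)) :=
  Lgr Lrot4 (Lpr_cf (K48.f414605 IH) (Lpe (K50.f414613 IH) (Lpr_cf (K50.f510144 IH) (Lpn (LP (LK LD1_c3 LD2_c13 LD3_c1))))))
theorem f510434 : Led Lsl_bf (LP (LK LD1_c1 LD2_c38 LD3_c27)) = v2242 :=
  Lgr Lrot96 (Lpr_et (K11.f13562 IH) (Lpr_bt (K34.f414498 IH) (Lpr_et (f510433 IH) (Lpn v2242))))
theorem f649255 : Led Lsl_ff v2242 = K50.v5763 :=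
  Lgr Lrot25 (Lpe (f510434 IH) (Lpr_ft (f510148 IH) (Lpr_bt (K50.f649252 IH) (Lpn K50.v5763))))
theorem f649256 : Led Lsl_ft v2242 = K50.v5763 :=
  Lgr Lrot48 (Lpr_ff (f649255 IH) (Lpn K50.v5763))
theorem f766788 : Led Lsl_at K50.v5763 = v18404 :=
  Lgr Lrot66 (Lpe (f649256 IH) (Lpr_af (f672496 IH) (Lpr_ff (f766787 IH) (Lpn v18404))))
def v8854 : LQ := Led Lsl_gf K34.v2241
theorem f672502 : Led Lsl_gf K34.v2241 = v8854 :=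
  Lrfl
theorem f670437 : Led Lsl_af K34.v2241 = v8226 :=
  Lgr Lrot50 (Lpe (K34.f510431 IH) (Lpr_at (K35.f527801 IH) (Lpr_et (f670436 IH) (Lpn v8226))))
theorem f672503 : Led Lsl_gt v8225 = v8854 :=
  Lgr Lrot5 (Lpr_ft (f670444 IH) (Lpe (f670437 IH) (Lpr_gf (f672502 IH) (Lpn v8854))))
theorem f125543 : Led Lsl_et (LP (LK LD1_c0 LD2_c42 LD3_c27)) = (LP (LK LD1_c1 LD2_c31 LD3_c45)) :=
  Lre_e IH (LK LD1_c0 LD2_c42 LD3_c27) (LK LD1_c1 LD2_c31 LD3_c45) Lrfl Lrfl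
def v3593 : LQ := Led Lsl_et K58.v961
theorem f626373 : Led Lsl_et K58.v961 = v3593 :=
  Lrfl
theorem f626374 : Led Lsl_ef K58.v961 = v3593 :=
  Lgr Lrot88 (Lpr_et (f626373 IH) (Lpn v3593))
theorem f672504 : Led Lsl_dt v3593 = v8854 :=
  Lgr Lrot56 (Lpe (f626374 IH) (Lpe (K58.f490747 IH) (Lpe (K58.f450612 IH) (Lpr_dt (K5.f23440 IH) (Lpr_gt (K5.f23444 IH) (Lpr_df (K5.f125523 IH) (Lpr_et (f125543 IH) (Lpr_gt (K35.f506445 IH) (Lpr_dt (f670432 IH) (Lpr_gt (f672503 IH) (Lpn v8854)))))))))))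
def v3573 : LQ := Led Lsl_ft K58.v954
theorem f626309 : Led Lsl_ft K58.v954 = v3573 :=
  Lrfl
theorem f626311 : Led Lsl_ff K58.v954 = v3573 :=
  Lgr Lrot3 (Lpr_ft (f626309 IH) (Lpn v3573))
theorem f82882 : Led Lsl_ft (LP (LK LD1_c0 LD2_c30 LD3_c41)) = (LP (LK LD1_c0 LD2_c19 LD3_c13)) :=
  Lgr Lrot75 (Lpe (K5.f26359 IH) (Lpr_ff (K35.f82878 IH) (Lpe (K58.f59456 IH) (Lpn (LP (LK LD1_c0 LD2_c19 LD3_c13))))))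
theorem f450593 : Led Lsl_at (LP (LK LD1_c0 LD2_c19 LD3_c13)) = K34.v124 :=
  Lgr Lrot26 (Lpe (f82882 IH) (Lpe (K5.f128347 IH) (Lpr_gt (K34.f450591 IH) (Lpn K34.v124))))
theorem f490720 : Led Lsl_af K58.v127 = K58.v954 :=
  Lgr Lrot50 (Lpe (K58.f450614 IH) (Lpr_at (f450593 IH) (Lpr_et (K58.f490719 IH) (Lpn K58.v954))))
theorem f626314 : Led Lsl_gf K58.v961 = v3573 :=
  Lgr Lrot47 (Lpe (K58.f490747 IH) (Lpr_af (f490720 IH) (Lpr_ff (f626311 IH) (Lpn v3573))))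
theorem f450589 : Led Lsl_ff (LP (LK LD1_c1 LD2_c6 LD3_c59)) = K34.v124 :=
  Lgr Lrot19 (Lpr_dt (K50.f26172 IH) (Lpe (K2.f82315 IH) (Lpr_dt (K34.f450585 IH) (Lpn K34.v124))))
theorem f668573 : Led Lsl_ef v3573 = v7818 :=
  Lgr Lrot21 (Lpe (f626311 IH) (Lpe (K58.f490721 IH) (Lpe (f450589 IH) (Lpr_et (K50.f494771 IH) (Lpr_ft (f668570 IH) (Lpn v7818))))))
theorem f668578 : Led Lsl_dt v7818 = v7818 :=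
  Lgr Lrot60 (Lpe (f668570 IH) (Lpe (K50.f494777 IH) (Lpr_ff (f668574 IH) (Lpn v7818))))
theorem f672506 : Led Lsl_gf v7829 = v2242 :=
  Lgr Lrot138 (Lpe (f668633 IH) (Lpr_gt (f668581 IH) (Lpe (f668578 IH) (Lpe (f668573 IH) (Lpe (f626314 IH) (Lpr_ef (f626374 IH) (Lpr_dt (f672504 IH) (Lpe (f672502 IH) (Lpe (K34.f510427 IH) (Lpr_et (f510433 IH) (Lpn v2242)))))))))))
theorem f766793 : Led Lsl_gt v7829 = v18404 :=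
  Lgr Lrot46 (Lpr_gf (f672506 IH) (Lpr_ft (f649256 IH) (Lpr_at (f766788 IH) (Lpn v18404))))
theorem f772598 : Led Lsl_af v8856 = K50.v4272 :=
  Lgr Lrot31 (Lpr_gf (f766791 IH) (Lpe (f766793 IH) (Lpr_ft (f772597 IH) (Lpn K50.v4272))))
theorem f152414 : Led Lsl_et (LP (LK LD1_c1 LD2_c6 LD3_c1)) = (LP (LK LD1_c2 LD2_c17 LD3_c61)) :=
  Lre_e IH (LK LD1_c1 LD2_c6 LD3_c1) (LK LD1_c2 LD2_c17 LD3_c61) Lrfl Lrfl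
def v4256 : LQ := Led Lsl_gt (LP (LK LD1_c2 LD2_c17 LD3_c61))
theorem f632250 : Led Lsl_gt (LP (LK LD1_c2 LD2_c17 LD3_c61)) = v4256 :=
  Lrfl
theorem f668646 : Led Lsl_ef v4256 = v7834 :=
  Lgr Lrot17 (Lpe (f632250 IH) (Lpe (f152414 IH) (Lpr_dt (K7.f104688 IH) (Lpe (K7.f152612 IH) (Lpe (K5.f82442 IH) (Lpr_gf (K5.f128347 IH) (Lpe (K11.f82558 IH) (Lpe (K11.f82560 IH) (Lpr_gf (f494814 IH) (Lpr_df (f668645 IH) (Lpn v7834)))))))))))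
def v4271 : LQ := Led Lsl_at (LP (LK LD1_c2 LD2_c18 LD3_c10))
theorem f632342 : Led Lsl_at (LP (LK LD1_c2 LD2_c18 LD3_c10)) = v4271 :=
  Lrfl
theorem f632343 : Led Lsl_af (LP (LK LD1_c2 LD2_c18 LD3_c10)) = v4271 :=
  Lgr Lrot0 (Lpr_at (f632342 IH) (Lpn v4271))
theorem f772600 : v4256 = v4271 :=
  (Llr Lrot123 (Lpr_ef (f668646 IH) (Lpq (f766792 IH) (Lpr_af (f772598 IH) (Lpe (K50.f632346 IH) (Lpr_af (f632343 IH) (Lpn v4271))))))).symm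
theorem f61092 : Led Lsl_gt (LP (LK LD1_c2 LD2_c18 LD3_c11)) = (LP (LK LD1_c1 LD2_c6 LD3_c6)) :=
  Lre_g IH (LK LD1_c2 LD2_c18 LD3_c11) (LK LD1_c1 LD2_c6 LD3_c6) Lrfl Lrfl
theorem f632344 : Led Lsl_ft (LP (LK LD1_c2 LD2_c18 LD3_c11)) = v4271 :=
  Lgr Lrot2 (Lpr_gt (f61092 IH) (Lpr_gt (K50.f61093 IH) (Lpr_af (f632343 IH) (Lpn v4271))))
theorem f632345 : Led Lsl_ff (LP (LK LD1_c2 LD2_c18 LD3_c11)) = v4271 :=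
  Lgr Lrot3 (Lpr_ft (f632344 IH) (Lpn v4271))
theorem f632350 : Led Lsl_ff (LP (LK LD1_c2 LD2_c18 LD3_c10)) = v4273 :=
  Lgr Lrot3 (Lpr_ft (f632348 IH) (Lpn v4273))
theorem f632351 : Led Lsl_at (LP (LK LD1_c2 LD2_c18 LD3_c11)) = v4273 :=
  Lgr Lrot66 (Lpr_ff (f632345 IH) (Lpe (f632342 IH) (Lpr_ff (f632350 IH) (Lpn v4273))))
def v4259 : LQ := Led Lsl_ft (LP (LK LD1_c2 LD2_c17 LD3_c61))
theorem f632261 : Led Lsl_ft (LP (LK LD1_c2 LD2_c17 LD3_c61)) = v4259 :=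
  Lrfl
theorem f632262 : Led Lsl_af (LP (LK LD1_c2 LD2_c18 LD3_c13)) = v4259 :=
  Lgr Lrot45 (Lpr_ft (f439659 IH) (Lpr_at (f153589 IH) (Lpr_ft (f632261 IH) (Lpn v4259))))
theorem f632266 : Led Lsl_gt v4256 = (LP (LK LD1_c2 LD2_c18 LD3_c13)) :=
  Lgr Lrot46 (Lpe (f632250 IH) (Lpr_ft (f632261 IH) (Lpe (f632262 IH) (Lpn (LP (LK LD1_c2 LD2_c18 LD3_c13))))))
theorem f772601 : v4273 = v4257 :=
  (Llr Lrot26 (Lpe (f632351 IH) (Lpr_ff (f632345 IH) (Lpq (f772600 IH) (Lpr_gt (f632266 IH) (Lpr_gt (f632252 IH) (Lpn v4257))))))).symm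
theorem f772602 : v13225 = v6209 :=
  Lefun (Lecon (f701785 IH) (f772601 IH)) (f652107 IH)
def v6207 : LQ := Led Lsl_at (LP (LK LD1_c3 LD2_c19 LD3_c8))
theorem f652079 : Led Lsl_at (LP (LK LD1_c3 LD2_c19 LD3_c8)) = v6207 :=
  Lrfl
theorem f652080 : Led Lsl_af (LP (LK LD1_c3 LD2_c19 LD3_c8)) = v6207 :=
  Lgr Lrot0 (Lpr_at (f652079 IH) (Lpn v6207))
theorem f652084 : Led Lsl_ft (LP (LK LD1_c3 LD2_c19 LD3_c9)) = v6207 :=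
  Lgr Lrot2 (Lpr_gt (f141163 IH) (Lpr_gt (K48.f141155 IH) (Lpr_af (f652080 IH) (Lpn v6207))))
theorem f772603 : (LP (LK LD1_c6 LD2_c41 LD3_c54)) = v6207 :=
  (Llr Lrot108 (Lpe (K50.f415372 IH) (Lpr_ft (f701782 IH) (Lpqs (f772602 IH) (Lpe (f652101 IH) (Lpr_ft (f652084 IH) (Lpn v6207))))))).symm
theorem f772604 : Led Lsl_at (LP (LK LD1_c6 LD2_c41 LD3_c54)) = (LP (LK LD1_c3 LD2_c19 LD3_c8)) :=
  Leop (Lpr_af (f652080 IH) (Lpq (f772603 IH) (Lpn (LP (LK LD1_c6 LD2_c41 LD3_c54)))))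
theorem seed_1338 : LEOK LG_a (LK LD1_c6 LD2_c41 LD3_c54) :=
  Leoe_a (LK LD1_c6 LD2_c41 LD3_c54) (f772604 IH)
theorem f652091 : Led Lsl_ff (LP (LK LD1_c3 LD2_c19 LD3_c9)) = v6207 :=
  Lgr Lrot3 (Lpr_ft (f652084 IH) (Lpn v6207))
def v6208 : LQ := Led Lsl_ft (LP (LK LD1_c3 LD2_c19 LD3_c8))
theorem f652093 : Led Lsl_ft (LP (LK LD1_c3 LD2_c19 LD3_c8)) = v6208 :=
  Lrfl
theorem f652095 : Led Lsl_ff (LP (LK LD1_c3 LD2_c19 LD3_c8)) = v6208 :=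
  Lgr Lrot3 (Lpr_ft (f652093 IH) (Lpn v6208))
theorem f652097 : Led Lsl_at (LP (LK LD1_c3 LD2_c19 LD3_c9)) = v6208 :=
  Lgr Lrot66 (Lpr_ff (f652091 IH) (Lpe (f652079 IH) (Lpr_ff (f652095 IH) (Lpn v6208))))
theorem f139836 : Led Lsl_gt (LP (LK LD1_c3 LD2_c19 LD3_c11)) = (LP (LK LD1_c6 LD2_c41 LD3_c55)) :=
  Lre_g IH (LK LD1_c3 LD2_c19 LD3_c11) (LK LD1_c6 LD2_c41 LD3_c55) Lrfl Lrfl
theorem f772608 : v6208 = (LP (LK LD1_c6 LD2_c41 LD3_c55)) :=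
  (Llr Lrot26 (Lpe (f652097 IH) (Lpr_ff (f652091 IH) (Lpq (f772603 IH) (Lpr_gt (K50.f139839 IH) (Lpr_gt (f139836 IH) (Lpn (LP (LK LD1_c6 LD2_c41 LD3_c55))))))))).symm
def v7200 : LQ := Led Lsl_gt (LP (LK LD1_c3 LD2_c42 LD3_c3))
theorem f662255 : Led Lsl_gt (LP (LK LD1_c3 LD2_c42 LD3_c3)) = v7200 :=
  Lrfl
def v7150 : LQ := Led Lsl_ft (LP (LK LD1_c3 LD2_c39 LD3_c57))
theorem f661558 : Led Lsl_ft (LP (LK LD1_c3 LD2_c39 LD3_c57)) = v7150 :=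
  Lrfl
theorem f661560 : Led Lsl_ff (LP (LK LD1_c3 LD2_c39 LD3_c57)) = v7150 :=
  Lgr Lrot3 (Lpr_ft (f661558 IH) (Lpn v7150))
theorem f662259 : Led Lsl_af v7150 = v7202 :=
  Lgr Lrot45 (Lpe (f661560 IH) (Lpr_at (K5.f115059 IH) (Lpr_ft (f662258 IH) (Lpn v7202))))
theorem f662261 : Led Lsl_gt v7200 = v7150 :=
  Lgr Lrot46 (Lpe (f662255 IH) (Lpr_ft (f662258 IH) (Lpe (f662259 IH) (Lpn v7150))))
theorem f769989 : (LP (LK LD1_c4 LD2_c41 LD3_c50)) = v7200 :=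
  Lefun (Lecon (Lfl_gf (K58.f701773 IH)) (K58.f769988 IH)) (f662255 IH)
def v7201 : LQ := Led Lsl_gf (LP (LK LD1_c3 LD2_c42 LD3_c3))
theorem f662256 : Led Lsl_gf (LP (LK LD1_c3 LD2_c42 LD3_c3)) = v7201 :=
  Lrfl
theorem f662257 : Led Lsl_gt v7150 = v7201 :=
  Lgr Lrot5 (Lpe (f661560 IH) (Lpr_at (K5.f115059 IH) (Lpr_gf (f662256 IH) (Lpn v7201))))
theorem f769992 : Led Lsl_at v13225 = v7201 :=
  Lgr Lrot26 (Lpe (f701782 IH) (Lpqs (f769989 IH) (Lpr_gt (f662261 IH) (Lpr_gt (f662257 IH) (Lpn v7201)))))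
theorem f769993 : Led Lsl_af v13225 = v7201 :=
  Lgr Lrot0 (Lpr_at (f769992 IH) (Lpn v7201))
theorem f772625 : Led Lsl_cf v7201 = (LP (LK LD1_c6 LD2_c41 LD3_c55)) :=
  Lgr Lrot1 (Lpe (f769993 IH) (Lpqs (f772602 IH) (Lpe (f652101 IH) (Lpr_at (f652097 IH) (Lpqs (f772608 IH) (Lpn (LP (LK LD1_c6 LD2_c41 LD3_c55))))))))
theorem f438499 : Led Lsl_ct (LP (LK LD1_c6 LD2_c2 LD3_c44)) = (LP (LK LD1_c4 LD2_c34 LD3_c36)) :=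
  Lgr Lrot59 (Lpr_cf (K45.f438474 IH) (Lpn (LP (LK LD1_c4 LD2_c34 LD3_c36))))
theorem f438497 : Led Lsl_bt (LP (LK LD1_c6 LD2_c2 LD3_c44)) = (LP (LK LD1_c11 LD2_c49 LD3_c33)) :=
  Lre_b IH (LK LD1_c6 LD2_c2 LD3_c44) (LK LD1_c11 LD2_c49 LD3_c33) Lrfl Lrfl
theorem f772627 : Led Lsl_gt (LP (LK LD1_c9 LD2_c25 LD3_c15)) = (LP (LK LD1_c11 LD2_c49 LD3_c33)) :=
  Lgr Lrot164 (Lpr_bf (K5.f124659 IH) (Lpe (K58.f124602 IH) (Lpr_gf (f662256 IH) (Lpr_cf (f772625 IH) (Lpe (f139836 IH) (Lpr_bf (K6.f139813 IH) (Lpr_ct (K41.f139838 IH) (Lpq (K41.f537657 IH) (Lpe (K35.f500164 IH) (Lpe (f438499 IH) (Lpr_bt (f438497 IH) (Lpn (LP (LK LD1_c11 LD2_c49 LD3_c33))))))))))))))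
theorem f772628 : Led Lsl_gt (LP (LK LD1_c9 LD2_c25 LD3_c15)) = (LP (LK LD1_c11 LD2_c49 LD3_c33)) :=
  Leop (Lpe (f772627 IH) (Lpn (LP (LK LD1_c9 LD2_c25 LD3_c15))))
theorem seed_1339 : LEOK LG_g (LK LD1_c9 LD2_c25 LD3_c15) :=
  Leoe_g (LK LD1_c9 LD2_c25 LD3_c15) (f772628 IH)
def v13223 : LQ := Led Lsl_at (LP (LK LD1_c4 LD2_c41 LD3_c50))
theorem f701774 : Led Lsl_at (LP (LK LD1_c4 LD2_c41 LD3_c50)) = v13223 :=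
  Lrfl
theorem f701775 : Led Lsl_af (LP (LK LD1_c4 LD2_c41 LD3_c50)) = v13223 :=
  Lgr Lrot0 (Lpr_at (f701774 IH) (Lpn v13223))
theorem f769994 : Led Lsl_ff v13223 = v7201 :=
  Lgr Lrot30 (Lpe (f701775 IH) (Lpr_ft (f701782 IH) (Lpr_at (f769992 IH) (Lpn v7201))))
theorem f772629 : v13223 = (LP (LK LD1_c6 LD2_c42 LD3_c19)) :=
  (Llr Lrot4 (Lpr_ff (f769994 IH) (Lpr_cf (f772625 IH) (Lpq (f772608 IH) (Lpe (f652093 IH) (Lpe (K58.f453955 IH) (Lpn (LP (LK LD1_c6 LD2_c42 LD3_c19))))))))).symm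
theorem f771613 : K46.v5993 = v551 :=
  Lefun (Lecon (K46.f650426 IH) ((K46.f651829 IH).symm.trans (f771584 IH))) (Lfl_ff (f507819 IH))
def v6039 : LQ := Led Lsl_gt (LP (LK LD1_c3 LD2_c16 LD3_c53))
theorem f650675 : Led Lsl_gt (LP (LK LD1_c3 LD2_c16 LD3_c53)) = v6039 :=
  Lrfl
theorem f650694 : Led Lsl_gt v6039 = (LP (LK LD1_c3 LD2_c16 LD3_c56)) :=
  Lgr Lrot46 (Lpe (f650675 IH) (Lpr_ft (K56.f650690 IH) (Lpe (K56.f650691 IH) (Lpn (LP (LK LD1_c3 LD2_c16 LD3_c56))))))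
theorem f754451 : (LP (LK LD1_c6 LD2_c35 LD3_c36)) = v6039 :=
  Lefun (Lecon (Lfl_gf (K56.f508761 IH)) (K56.f754450 IH)) (f650675 IH)
def v6748 : LQ := Led Lsl_bt (LP (LK LD1_c3 LD2_c28 LD3_c39))
theorem f658213 : Led Lsl_bt (LP (LK LD1_c3 LD2_c28 LD3_c39)) = v6748 :=
  Lrfl
theorem f658214 : Led Lsl_bf (LP (LK LD1_c3 LD2_c28 LD3_c39)) = v6748 :=
  Lgr Lrot24 (Lpr_bt (f658213 IH) (Lpn v6748))
theorem f772640 : v6748 = (LP (LK LD1_c6 LD2_c42 LD3_c19)) :=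
  (Llr Lrot165 (Lpe (f658214 IH) (Lpe (K58.f93310 IH) (Lpe (K3.f69295 IH) (Lpqs (f754451 IH) (Lpr_gt (f650694 IH) (Lpe (K56.f119187 IH) (Lpqs (K46.f651831 IH) (Lpqs (f771613 IH) (Lpe (f453954 IH) (Lpr_gt (K29.f24630 IH) (Lpe (f141152 IH) (Lpr_ct (K9.f139802 IH) (Lpr_gt (K48.f141155 IH) (Lpe (K58.f453955 IH) (Lpn (LP (LK LD1_c6 LD2_c42 LD3_c19)))))))))))))))))).symm
def v6751 : LQ := Led Lsl_ft (LP (LK LD1_c3 LD2_c28 LD3_c39))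
theorem f658223 : Led Lsl_ft (LP (LK LD1_c3 LD2_c28 LD3_c39)) = v6751 :=
  Lrfl
theorem f772643 : Led Lsl_bf v7201 = v6751 :=
  Lgr Lrot61 (Lpe (f769994 IH) (Lpqs (f772629 IH) (Lpq (f772640 IH) (Lpe (f658214 IH) (Lpr_ft (f658223 IH) (Lpn v6751))))))
def v18570 : LQ := Led Lsl_gt (LP (LK LD1_c6 LD2_c30 LD3_c49))
theorem f767499 : Led Lsl_gt (LP (LK LD1_c6 LD2_c30 LD3_c49)) = v18570 :=
  Lrfl
theorem f770600 : (LP (LK LD1_c3 LD2_c19 LD3_c13)) = v18570 :=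
  Lefun (Lecon (Lfl_gf (f652135 IH)) (f770598 IH).symm) (f767499 IH)
theorem f118381 : Led Lsl_at (LP (LK LD1_c3 LD2_c15 LD3_c61)) = (LP (LK LD1_c1 LD2_c35 LD3_c3)) :=
  Lgr Lrot100 (Lpr_af (K4.f118379 IH) (Lpn (LP (LK LD1_c1 LD2_c35 LD3_c3))))
theorem f118623 : Led Lsl_ft (LP (LK LD1_c6 LD2_c35 LD3_c21)) = (LP (LK LD1_c3 LD2_c15 LD3_c61)) :=
  Lre_f IH (LK LD1_c6 LD2_c35 LD3_c21) (LK LD1_c3 LD2_c15 LD3_c61) Lrfl Lrfl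
theorem f96618 : Led Lsl_gt (LP (LK LD1_c3 LD2_c16 LD3_c50)) = (LP (LK LD1_c1 LD2_c35 LD3_c3)) :=
  Lre_g IH (LK LD1_c3 LD2_c16 LD3_c50) (LK LD1_c1 LD2_c35 LD3_c3) Lrfl Lrfl
theorem f119198 : Led Lsl_gt (LP (LK LD1_c6 LD2_c35 LD3_c21)) = (LP (LK LD1_c3 LD2_c16 LD3_c50)) :=
  Lgr Lrot5 (Lpr_ft (f118623 IH) (Lpr_at (f118381 IH) (Lpe (f96618 IH) (Lpn (LP (LK LD1_c3 LD2_c16 LD3_c50))))))
theorem f119206 : Led Lsl_ct (LP (LK LD1_c6 LD2_c37 LD3_c1)) = (LP (LK LD1_c3 LD2_c16 LD3_c50)) :=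
  Lre_c IH (LK LD1_c6 LD2_c37 LD3_c1) (LK LD1_c3 LD2_c16 LD3_c50) Lrfl Lrfl
theorem f772646 : (LP (LK LD1_c6 LD2_c37 LD3_c1)) = v6751 :=
  (Llr Lrot58 (Lpr_ct (f119206 IH) (Lpe (f119198 IH) (Lpe (K57.f118504 IH) (Lpr_bt (f650422 IH) (Lpq (f771723 IH) (Lpq (f770602 IH) (Lpe (f652113 IH) (Lpe (K57.f500054 IH) (Lpr_ct (K46.f446049 IH) (Lpqs (f770600 IH) (Lpe (f767499 IH) (Lpe (K5.f124657 IH) (Lpr_gf (f662256 IH) (Lpr_bf (f772643 IH) (Lpn v6751)))))))))))))))).symm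
def v6747 : LQ := Led Lsl_at (LP (LK LD1_c3 LD2_c28 LD3_c39))
theorem f658209 : Led Lsl_at (LP (LK LD1_c3 LD2_c28 LD3_c39)) = v6747 :=
  Lrfl
theorem f658210 : Led Lsl_af (LP (LK LD1_c3 LD2_c28 LD3_c39)) = v6747 :=
  Lgr Lrot0 (Lpr_at (f658209 IH) (Lpn v6747))
theorem f62227 : Led Lsl_gt (LP (LK LD1_c3 LD2_c28 LD3_c40)) = (LP (LK LD1_c1 LD2_c41 LD3_c2)) :=
  Lre_g IH (LK LD1_c3 LD2_c28 LD3_c40) (LK LD1_c1 LD2_c41 LD3_c2) Lrfl Lrfl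
theorem f658211 : Led Lsl_ft (LP (LK LD1_c3 LD2_c28 LD3_c40)) = v6747 :=
  Lgr Lrot2 (Lpr_gt (f62227 IH) (Lpr_gt (K58.f62223 IH) (Lpr_af (f658210 IH) (Lpn v6747))))
theorem f658224 : Led Lsl_af (LP (LK LD1_c3 LD2_c28 LD3_c40)) = v6751 :=
  Lgr Lrot45 (Lpr_ft (f658211 IH) (Lpe (f658210 IH) (Lpr_ft (f658223 IH) (Lpn v6751))))
theorem f772647 : Led Lsl_at (LP (LK LD1_c6 LD2_c37 LD3_c1)) = (LP (LK LD1_c3 LD2_c28 LD3_c40)) :=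
  Leop (Lpr_af (f658224 IH) (Lpq (f772646 IH) (Lpn (LP (LK LD1_c6 LD2_c37 LD3_c1)))))
theorem seed_1340 : LEOK LG_a (LK LD1_c6 LD2_c37 LD3_c1) :=
  Leoe_a (LK LD1_c6 LD2_c37 LD3_c1) (f772647 IH)
theorem f761926 : (LP (LK LD1_c6 LD2_c20 LD3_c36)) = K57.v5494 :=
  Lefun (Lecon (Lfl_bf (K57.f761011 IH)) (K57.f761925 IH)) (K57.f647937 IH)
theorem f113151 : Led Lsl_dt (LP (LK LD1_c4 LD2_c47 LD3_c58)) = (LP (LK LD1_c2 LD2_c21 LD3_c51)) :=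
  Lre_d IH (LK LD1_c4 LD2_c47 LD3_c58) (LK LD1_c2 LD2_c21 LD3_c51) Lrfl Lrfl
theorem f633471 : Led Lsl_ct (LP (LK LD1_c9 LD2_c28 LD3_c49)) = (LP (LK LD1_c4 LD2_c47 LD3_c58)) :=
  Lre_c IH (LK LD1_c9 LD2_c28 LD3_c49) (LK LD1_c4 LD2_c47 LD3_c58) Lrfl Lrfl
theorem f772757 : Led Lsl_gt (LP (LK LD1_c17 LD2_c28 LD3_c58)) = (LP (LK LD1_c9 LD2_c28 LD3_c49)) :=
  Lgr Lrot150 (Lpr_cf (K57.f762048 IH) (Lpqs (f772216 IH) (Lpe (f647595 IH) (Lpe (f647581 IH) (Lpr_gt (K57.f444009 IH) (Lpqs (f761926 IH) (Lpr_ct (K57.f704707 IH) (Lpr_gt (K57.f704740 IH) (Lpr_ct (K58.f92232 IH) (Lpe (f113151 IH) (Lpe (f633471 IH) (Lpn (LP (LK LD1_c9 LD2_c28 LD3_c49))))))))))))))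
theorem f772758 : Led Lsl_gt (LP (LK LD1_c17 LD2_c28 LD3_c58)) = (LP (LK LD1_c9 LD2_c28 LD3_c49)) :=
  Leop (Lpe (f772757 IH) (Lpn (LP (LK LD1_c17 LD2_c28 LD3_c58))))
theorem seed_1341 : LEOK LG_g (LK LD1_c17 LD2_c28 LD3_c58) :=
  Leoe_g (LK LD1_c17 LD2_c28 LD3_c58) (f772758 IH)
theorem f62207 : Led Lsl_ct (LP (LK LD1_c6 LD2_c59 LD3_c0)) = (LP (LK LD1_c3 LD2_c28 LD3_c35)) :=
  Lre_c IH (LK LD1_c6 LD2_c59 LD3_c0) (LK LD1_c3 LD2_c28 LD3_c35) Lrfl Lrfl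
theorem f62323 : Led Lsl_dt (LP (LK LD1_c3 LD2_c28 LD3_c35)) = (LP (LK LD1_c6 LD2_c59 LD3_c2)) :=
  Lre_d IH (LK LD1_c3 LD2_c28 LD3_c35) (LK LD1_c6 LD2_c59 LD3_c2) Lrfl Lrfl
theorem f90389 : Led Lsl_et (LP (LK LD1_c6 LD2_c59 LD3_c2)) = (LP (LK LD1_c3 LD2_c28 LD3_c37)) :=
  Lre_e IH (LK LD1_c6 LD2_c59 LD3_c2) (LK LD1_c3 LD2_c28 LD3_c37) Lrfl Lrfl
theorem f133809 : Led Lsl_et (LP (LK LD1_c6 LD2_c33 LD3_c3)) = (LP (LK LD1_c12 LD2_c33 LD3_c24)) :=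
  Lre_e IH (LK LD1_c6 LD2_c33 LD3_c3) (LK LD1_c12 LD2_c33 LD3_c24) Lrfl Lrfl
theorem f133810 : Led Lsl_cf (LP (LK LD1_c6 LD2_c59 LD3_c2)) = (LP (LK LD1_c12 LD2_c33 LD3_c24)) :=
  Lgr Lrot39 (Lpr_et (f90389 IH) (Lpr_ct (K5.f133799 IH) (Lpr_et (f133809 IH) (Lpn (LP (LK LD1_c12 LD2_c33 LD3_c24))))))
def v6034 : LQ := Led Lsl_at (LP (LK LD1_c3 LD2_c16 LD3_c49))
theorem f650644 : Led Lsl_at (LP (LK LD1_c3 LD2_c16 LD3_c49)) = v6034 :=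
  Lrfl
theorem f650645 : Led Lsl_af (LP (LK LD1_c3 LD2_c16 LD3_c49)) = v6034 :=
  Lgr Lrot0 (Lpr_at (f650644 IH) (Lpn v6034))
theorem f650649 : Led Lsl_ft (LP (LK LD1_c3 LD2_c16 LD3_c50)) = v6034 :=
  Lgr Lrot2 (Lpr_gt (f96618 IH) (Lpr_gt (K5.f96110 IH) (Lpr_af (f650645 IH) (Lpn v6034))))
theorem f650651 : Led Lsl_ff (LP (LK LD1_c3 LD2_c16 LD3_c50)) = v6034 :=
  Lgr Lrot3 (Lpr_ft (f650649 IH) (Lpn v6034))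
def v6037 : LQ := Led Lsl_ft (LP (LK LD1_c3 LD2_c16 LD3_c49))
theorem f650666 : Led Lsl_ft (LP (LK LD1_c3 LD2_c16 LD3_c49)) = v6037 :=
  Lrfl
theorem f650668 : Led Lsl_ff (LP (LK LD1_c3 LD2_c16 LD3_c49)) = v6037 :=
  Lgr Lrot3 (Lpr_ft (f650666 IH) (Lpn v6037))
theorem f650669 : Led Lsl_at (LP (LK LD1_c3 LD2_c16 LD3_c50)) = v6037 :=
  Lgr Lrot66 (Lpr_ff (f650651 IH) (Lpe (f650644 IH) (Lpr_ff (f650668 IH) (Lpn v6037))))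
theorem f93305 : Led Lsl_ct (LP (LK LD1_c6 LD2_c59 LD3_c6)) = (LP (LK LD1_c13 LD2_c15 LD3_c18)) :=
  Lre_c IH (LK LD1_c6 LD2_c59 LD3_c6) (LK LD1_c13 LD2_c15 LD3_c18) Lrfl Lrfl
def v13237 : LQ := Led Lsl_bt (LP (LK LD1_c4 LD2_c41 LD3_c53))
theorem f701845 : Led Lsl_bt (LP (LK LD1_c4 LD2_c41 LD3_c53)) = v13237 :=
  Lrfl
theorem f632271 : Led Lsl_dt (LP (LK LD1_c2 LD2_c18 LD3_c11)) = (LP (LK LD1_c4 LD2_c41 LD3_c53)) :=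
  Lre_d IH (LK LD1_c2 LD2_c18 LD3_c11) (LK LD1_c4 LD2_c41 LD3_c53) Lrfl Lrfl
def v4274 : LQ := Led Lsl_bt (LP (LK LD1_c2 LD2_c18 LD3_c11))
theorem f632352 : Led Lsl_bt (LP (LK LD1_c2 LD2_c18 LD3_c11)) = v4274 :=
  Lrfl
theorem f632353 : Led Lsl_bf (LP (LK LD1_c2 LD2_c18 LD3_c11)) = v4274 :=
  Lgr Lrot24 (Lpr_bt (f632352 IH) (Lpn v4274))
theorem f701847 : Led Lsl_df v4274 = v13237 :=
  Lgr Lrot12 (Lpe (f632353 IH) (Lpr_dt (f632271 IH) (Lpr_bt (f701845 IH) (Lpn v13237))))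
theorem f701848 : Led Lsl_dt v4274 = v13237 :=
  Lgr Lrot42 (Lpr_df (f701847 IH) (Lpn v13237))
theorem f62228 : Led Lsl_dt (LP (LK LD1_c3 LD2_c28 LD3_c40)) = (LP (LK LD1_c6 LD2_c59 LD3_c6)) :=
  Lre_d IH (LK LD1_c3 LD2_c28 LD3_c40) (LK LD1_c6 LD2_c59 LD3_c6) Lrfl Lrfl
theorem f632349 : Led Lsl_af (LP (LK LD1_c2 LD2_c18 LD3_c11)) = v4273 :=
  Lgr Lrot45 (Lpr_ft (f632344 IH) (Lpe (f632343 IH) (Lpr_ft (f632348 IH) (Lpn v4273))))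
theorem f658225 : Led Lsl_ff (LP (LK LD1_c3 LD2_c28 LD3_c39)) = v6751 :=
  Lgr Lrot3 (Lpr_ft (f658223 IH) (Lpn v6751))
theorem f658212 : Led Lsl_ff (LP (LK LD1_c3 LD2_c28 LD3_c40)) = v6747 :=
  Lgr Lrot3 (Lpr_ft (f658211 IH) (Lpn v6747))
theorem f658226 : Led Lsl_at (LP (LK LD1_c3 LD2_c28 LD3_c40)) = v6751 :=
  Lgr Lrot66 (Lpr_ff (f658212 IH) (Lpe (f658209 IH) (Lpr_ff (f658225 IH) (Lpn v6751))))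
theorem f772645 : v4274 = (LP (LK LD1_c3 LD2_c28 LD3_c40)) :=
  (Llr Lrot62 (Lpe (f632352 IH) (Lpr_af (f632349 IH) (Lpqs (f772601 IH) (Lpr_bf (f652106 IH) (Lpq (f772602 IH) (Lpr_af (f769993 IH) (Lpr_bf (f772643 IH) (Lpe (f658226 IH) (Lpn (LP (LK LD1_c3 LD2_c28 LD3_c40)))))))))))).symm
theorem f772654 : v13237 = (LP (LK LD1_c6 LD2_c59 LD3_c6)) :=
  Lefun (Lecon (f701848 IH) (f772645 IH)) (f62228 IH)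
theorem f701846 : Led Lsl_bf (LP (LK LD1_c4 LD2_c41 LD3_c53)) = v13237 :=
  Lgr Lrot24 (Lpr_bt (f701845 IH) (Lpn v13237))
def v13233 : LQ := Led Lsl_at (LP (LK LD1_c4 LD2_c41 LD3_c52))
theorem f701826 : Led Lsl_at (LP (LK LD1_c4 LD2_c41 LD3_c52)) = v13233 :=
  Lrfl
theorem f701828 : Led Lsl_df v4271 = v13233 :=
  Lgr Lrot18 (Lpe (f632343 IH) (Lpr_dt (K50.f104348 IH) (Lpr_at (f701826 IH) (Lpn v13233))))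
theorem f701830 : Led Lsl_ft (LP (LK LD1_c4 LD2_c41 LD3_c53)) = v13233 :=
  Lgr Lrot54 (Lpe (f632271 IH) (Lpr_ff (f632345 IH) (Lpr_df (f701828 IH) (Lpn v13233))))
theorem f701827 : Led Lsl_af (LP (LK LD1_c4 LD2_c41 LD3_c52)) = v13233 :=
  Lgr Lrot0 (Lpr_at (f701826 IH) (Lpn v13233))
theorem f701832 : Led Lsl_gt (LP (LK LD1_c4 LD2_c41 LD3_c53)) = K50.v13232 :=
  Lgr Lrot5 (Lpr_ft (f701830 IH) (Lpe (f701827 IH) (Lpr_gf (K50.f701815 IH) (Lpn K50.v13232))))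
theorem f68439 : Led Lsl_gt (LP (LK LD1_c4 LD2_c48 LD3_c2)) = (LP (LK LD1_c9 LD2_c28 LD3_c57)) :=
  Lre_g IH (LK LD1_c4 LD2_c48 LD3_c2) (LK LD1_c9 LD2_c28 LD3_c57) Lrfl Lrfl
theorem f415394 : Led Lsl_ct (LP (LK LD1_c9 LD2_c28 LD3_c57)) = (LP (LK LD1_c17 LD2_c29 LD3_c20)) :=
  Lre_c IH (LK LD1_c9 LD2_c28 LD3_c57) (LK LD1_c17 LD2_c29 LD3_c20) Lrfl Lrfl
theorem f772659 : Led Lsl_gf (LP (LK LD1_c13 LD2_c15 LD3_c18)) = (LP (LK LD1_c17 LD2_c29 LD3_c20)) :=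
  Lgr Lrot129 (Lpe (f93305 IH) (Lpq (f772654 IH) (Lpe (f701846 IH) (Lpr_gt (f701832 IH) (Lpe (K50.f701817 IH) (Lpr_ct (K50.f153581 IH) (Lpr_gt (K50.f415390 IH) (Lpe (K29.f68393 IH) (Lpr_bt (f68389 IH) (Lpr_gt (f68439 IH) (Lpr_ct (f415394 IH) (Lpn (LP (LK LD1_c17 LD2_c29 LD3_c20))))))))))))))
theorem f93304 : Led Lsl_ct (LP (LK LD1_c13 LD2_c15 LD3_c18)) = (LP (LK LD1_c6 LD2_c59 LD3_c6)) :=
  Lre_c IH (LK LD1_c13 LD2_c15 LD3_c18) (LK LD1_c6 LD2_c59 LD3_c6) Lrfl Lrfl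
theorem f62230 : Led Lsl_dt (LP (LK LD1_c6 LD2_c59 LD3_c6)) = (LP (LK LD1_c3 LD2_c28 LD3_c40)) :=
  Lre_d IH (LK LD1_c6 LD2_c59 LD3_c6) (LK LD1_c3 LD2_c28 LD3_c40) Lrfl Lrfl
def v6753 : LQ := Led Lsl_ct (LP (LK LD1_c3 LD2_c28 LD3_c40))
theorem f658229 : Led Lsl_ct (LP (LK LD1_c3 LD2_c28 LD3_c40)) = v6753 :=
  Lrfl
theorem f658230 : Led Lsl_cf (LP (LK LD1_c3 LD2_c28 LD3_c40)) = v6753 :=
  Lgr Lrot11 (Lpr_ct (f658229 IH) (Lpn v6753))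
def v4459 : LQ := Led Lsl_gt (LP (LK LD1_c2 LD2_c21 LD3_c54))
theorem f633507 : Led Lsl_gt (LP (LK LD1_c2 LD2_c21 LD3_c54)) = v4459 :=
  Lrfl
theorem f771606 : (LP (LK LD1_c1 LD2_c35 LD3_c7)) = v4459 :=
  Lefun (Lecon (Lfl_gf (K46.f508685 IH)) ((K46.f651829 IH).symm.trans (f771584 IH))) (f633507 IH)
theorem f772663 : v6753 = (LP (LK LD1_c6 LD2_c35 LD3_c19)) :=
  (Llr Lrot99 (Lpe (f658230 IH) (Lpe (f62230 IH) (Lpe (f93304 IH) (Lpr_gf (f772659 IH) (Lpe (f415394 IH) (Lpe (f68439 IH) (Lpe (f68425 IH) (Lpr_gt (f633507 IH) (Lpq (f771606 IH) (Lpr_ct (K46.f118412 IH) (Lpe (K57.f118400 IH) (Lpn (LP (LK LD1_c6 LD2_c35 LD3_c19))))))))))))))).symm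
theorem f119204 : Led Lsl_ct (LP (LK LD1_c3 LD2_c16 LD3_c50)) = (LP (LK LD1_c6 LD2_c37 LD3_c1)) :=
  Lre_c IH (LK LD1_c3 LD2_c16 LD3_c50) (LK LD1_c6 LD2_c37 LD3_c1) Lrfl Lrfl
theorem f650667 : Led Lsl_af (LP (LK LD1_c3 LD2_c16 LD3_c50)) = v6037 :=
  Lgr Lrot45 (Lpr_ft (f650649 IH) (Lpe (f650645 IH) (Lpr_ft (f650666 IH) (Lpn v6037))))
theorem f772666 : v6037 = (LP (LK LD1_c6 LD2_c35 LD3_c19)) :=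
  (Llr Lrot68 (Lpe (f650667 IH) (Lpr_ct (f119204 IH) (Lpqs (f772646 IH) (Lpe (f658224 IH) (Lpr_ct (f658229 IH) (Lpqs (f772663 IH) (Lpn (LP (LK LD1_c6 LD2_c35 LD3_c19)))))))))).symm
theorem f118397 : Led Lsl_ft (LP (LK LD1_c3 LD2_c15 LD3_c61)) = (LP (LK LD1_c6 LD2_c35 LD3_c21)) :=
  Lre_f IH (LK LD1_c3 LD2_c15 LD3_c61) (LK LD1_c6 LD2_c35 LD3_c21) Lrfl Lrfl
theorem f118398 : Led Lsl_at (LP (LK LD1_c6 LD2_c35 LD3_c21)) = (LP (LK LD1_c3 LD2_c16 LD3_c52)) :=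
  Lgr Lrot66 (Lpe (f118397 IH) (Lpr_af (K4.f118379 IH) (Lpe (K4.f118362 IH) (Lpn (LP (LK LD1_c3 LD2_c16 LD3_c52))))))
theorem f96762 : Led Lsl_gt (LP (LK LD1_c3 LD2_c15 LD3_c61)) = (LP (LK LD1_c6 LD2_c35 LD3_c18)) :=
  Lre_g IH (LK LD1_c3 LD2_c15 LD3_c61) (LK LD1_c6 LD2_c35 LD3_c18) Lrfl Lrfl
theorem f119161 : Led Lsl_gt (LP (LK LD1_c6 LD2_c35 LD3_c18)) = (LP (LK LD1_c3 LD2_c16 LD3_c52)) :=
  Lgr Lrot46 (Lpe (f96762 IH) (Lpr_ft (f118397 IH) (Lpr_at (f118398 IH) (Lpn (LP (LK LD1_c3 LD2_c16 LD3_c52))))))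
theorem f772682 : (LP (LK LD1_c6 LD2_c35 LD3_c18)) = v6034 :=
  (Llr Lrot47 (Lpr_gt (f119161 IH) (Lpe (K57.f118400 IH) (Lpq (f772666 IH) (Lpe (f650669 IH) (Lpr_ff (f650651 IH) (Lpn v6034))))))).symm
def v6749 : LQ := Led Lsl_ct (LP (LK LD1_c3 LD2_c28 LD3_c39))
theorem f658215 : Led Lsl_ct (LP (LK LD1_c3 LD2_c28 LD3_c39)) = v6749 :=
  Lrfl
theorem f658216 : Led Lsl_cf (LP (LK LD1_c3 LD2_c28 LD3_c39)) = v6749 :=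
  Lgr Lrot11 (Lpr_ct (f658215 IH) (Lpn v6749))
theorem f772681 : v6749 = v6034 :=
  (Llr Lrot108 (Lpe (f658216 IH) (Lpr_ft (f658223 IH) (Lpq (f772646 IH) (Lpr_ct (f119206 IH) (Lpr_ft (f650649 IH) (Lpn v6034))))))).symm
theorem f62206 : Led Lsl_bt (LP (LK LD1_c3 LD2_c28 LD3_c35)) = (LP (LK LD1_c1 LD2_c41 LD3_c2)) :=
  Lre_b IH (LK LD1_c3 LD2_c28 LD3_c35) (LK LD1_c1 LD2_c41 LD3_c2) Lrfl Lrfl
theorem f118517 : Led Lsl_bt (LP (LK LD1_c1 LD2_c35 LD3_c7)) = (LP (LK LD1_c3 LD2_c16 LD3_c37)) :=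
  Lre_b IH (LK LD1_c1 LD2_c35 LD3_c7) (LK LD1_c3 LD2_c16 LD3_c37) Lrfl Lrfl
def v13761 : LQ := Led Lsl_gf (LP (LK LD1_c4 LD2_c47 LD3_c54))
theorem f704711 : Led Lsl_gf (LP (LK LD1_c4 LD2_c47 LD3_c54)) = v13761 :=
  Lrfl
theorem f704724 : Led Lsl_gt (LP (LK LD1_c4 LD2_c47 LD3_c57)) = v13761 :=
  Lgr Lrot5 (Lpr_ft (K57.f704721 IH) (Lpe (K57.f704718 IH) (Lpr_gf (f704711 IH) (Lpn v13761))))
theorem f772753 : (LP (LK LD1_c6 LD2_c59 LD3_c0)) = v13761 :=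
  (Llr Lrot10 (Lpe (K4.f62259 IH) (Lpr_bt (f62206 IH) (Lpr_gt (K58.f62223 IH) (Lpr_ct (f658215 IH) (Lpqs (f772681 IH) (Lpq (f772682 IH) (Lpr_gt (f119161 IH) (Lpe (K46.f118412 IH) (Lpr_bt (f118517 IH) (Lpr_gt (f650576 IH) (Lpq (f771997 IH) (Lpe (K57.f633493 IH) (Lpr_ct (K57.f633472 IH) (Lpr_gt (f704724 IH) (Lpn v13761)))))))))))))))).symm
theorem f704632 : Led Lsl_df K35.v4452 = K50.v13747 :=
  Lgr Lrot78 (Lpe (K58.f633460 IH) (Lpr_dt (K6.f113291 IH) (Lpr_ft (K50.f704629 IH) (Lpn K50.v13747))))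
theorem f704639 : Led Lsl_gf (LP (LK LD1_c4 LD2_c47 LD3_c60)) = K50.v13747 :=
  Lgr Lrot47 (Lpr_gt (K51.f92231 IH) (Lpe (K50.f113137 IH) (Lpr_ff (K51.f704633 IH) (Lpn K50.v13747))))
theorem f677942 : Led Lsl_ct (LP (LK LD1_c4 LD2_c47 LD3_c60)) = (LP (LK LD1_c9 LD2_c28 LD3_c51)) :=
  Lre_c IH (LK LD1_c4 LD2_c47 LD3_c60) (LK LD1_c9 LD2_c28 LD3_c51) Lrfl Lrfl
theorem f772762 : Led Lsl_gf (LP (LK LD1_c12 LD2_c33 LD3_c24)) = (LP (LK LD1_c9 LD2_c28 LD3_c51)) :=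
  Lgr Lrot104 (Lpe (f133810 IH) (Lpe (f62323 IH) (Lpe (f62207 IH) (Lpqs (f772753 IH) (Lpe (f704724 IH) (Lpe (K57.f633472 IH) (Lpr_gf (K58.f633467 IH) (Lpr_df (f704632 IH) (Lpe (f704639 IH) (Lpr_ct (f677942 IH) (Lpn (LP (LK LD1_c9 LD2_c28 LD3_c51)))))))))))))
theorem f772763 : Led Lsl_gt (LP (LK LD1_c9 LD2_c28 LD3_c51)) = (LP (LK LD1_c12 LD2_c33 LD3_c24)) :=
  Leop (Lpr_gf (f772762 IH) (Lpn (LP (LK LD1_c9 LD2_c28 LD3_c51))))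
theorem seed_1342 : LEOK LG_g (LK LD1_c9 LD2_c28 LD3_c51) :=
  Leoe_g (LK LD1_c9 LD2_c28 LD3_c51) (f772763 IH)
def v18760 : LQ := Led Lsl_gt (LP (LK LD1_c6 LD2_c32 LD3_c45))
theorem f768337 : Led Lsl_gt (LP (LK LD1_c6 LD2_c32 LD3_c45)) = v18760 :=
  Lrfl
theorem f119179 : Led Lsl_bt (LP (LK LD1_c0 LD2_c44 LD3_c13)) = (LP (LK LD1_c1 LD2_c34 LD3_c60)) :=
  Lre_b IH (LK LD1_c0 LD2_c44 LD3_c13) (LK LD1_c1 LD2_c34 LD3_c60) Lrfl Lrfl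
def v6024 : LQ := Led Lsl_bt (LP (LK LD1_c3 LD2_c16 LD3_c34))
theorem f650614 : Led Lsl_bt (LP (LK LD1_c3 LD2_c16 LD3_c34)) = v6024 :=
  Lrfl
theorem f650615 : Led Lsl_bf (LP (LK LD1_c3 LD2_c16 LD3_c34)) = v6024 :=
  Lgr Lrot24 (Lpr_bt (f650614 IH) (Lpn v6024))
theorem f704619 : Led Lsl_bf (LP (LK LD1_c4 LD2_c47 LD3_c45)) = v13744 :=
  Lgr Lrot24 (Lpr_bt (f704618 IH) (Lpn v13744))
theorem f772309 : (LP (LK LD1_c4 LD2_c47 LD3_c45)) = v6024 :=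
  Lefun (Lecon (Lfl_bf (f704619 IH)) (f772308 IH)) (f650614 IH)
theorem f135757 : Led Lsl_ct (LP (LK LD1_c4 LD2_c47 LD3_c45)) = (LP (LK LD1_c9 LD2_c28 LD3_c32)) :=
  Lre_c IH (LK LD1_c4 LD2_c47 LD3_c45) (LK LD1_c9 LD2_c28 LD3_c32) Lrfl Lrfl
theorem f772673 : K58.v6035 = v6747 :=
  (Llr Lrot108 (Lpe (K58.f650654 IH) (Lpr_ft (f650666 IH) (Lpqs (f772666 IH) (Lpq (f772663 IH) (Lpe (f658230 IH) (Lpr_ft (f658211 IH) (Lpn v6747)))))))).symm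
def v6534 : LQ := Led Lsl_gf (LP (LK LD1_c3 LD2_c23 LD3_c11))
theorem f653833 : Led Lsl_gf (LP (LK LD1_c3 LD2_c23 LD3_c11)) = v6534 :=
  Lrfl
theorem f93292 : Led Lsl_af (LP (LK LD1_c3 LD2_c23 LD3_c11)) = (LP (LK LD1_c1 LD2_c41 LD3_c2)) :=
  Lgr Lrot0 (Lpr_at (K3.f93288 IH) (Lpn (LP (LK LD1_c1 LD2_c41 LD3_c2))))
theorem f653834 : Led Lsl_gt (LP (LK LD1_c3 LD2_c28 LD3_c42)) = v6534 :=
  Lgr Lrot5 (Lpr_ft (K3.f62218 IH) (Lpe (f93292 IH) (Lpr_gf (f653833 IH) (Lpn v6534))))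
theorem f772678 : v6751 = v6534 :=
  (Llr Lrot26 (Lpe (f658226 IH) (Lpr_ff (f658212 IH) (Lpq (f772673 IH) (Lpqs (K58.f769448 IH) (Lpe (K58.f653830 IH) (Lpr_gt (f653834 IH) (Lpn v6534)))))))).symm
theorem f62251 : Led Lsl_bt (LP (LK LD1_c6 LD2_c59 LD3_c3)) = (LP (LK LD1_c3 LD2_c28 LD3_c42)) :=
  Lre_b IH (LK LD1_c6 LD2_c59 LD3_c3) (LK LD1_c3 LD2_c28 LD3_c42) Lrfl Lrfl
theorem f62236 : Led Lsl_ct (LP (LK LD1_c6 LD2_c59 LD3_c3)) = (LP (LK LD1_c13 LD2_c15 LD3_c15)) :=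
  Lre_c IH (LK LD1_c6 LD2_c59 LD3_c3) (LK LD1_c13 LD2_c15 LD3_c15) Lrfl Lrfl
def v18763 : LQ := Led Lsl_ft (LP (LK LD1_c6 LD2_c32 LD3_c45))
theorem f768346 : Led Lsl_ft (LP (LK LD1_c6 LD2_c32 LD3_c45)) = v18763 :=
  Lrfl
theorem f130072 : Led Lsl_at (LP (LK LD1_c6 LD2_c59 LD3_c0)) = (LP (LK LD1_c6 LD2_c32 LD3_c45)) :=
  Lgr Lrot100 (Lpr_af (K6.f130068 IH) (Lpn (LP (LK LD1_c6 LD2_c32 LD3_c45))))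
theorem f62282 : Led Lsl_ft (LP (LK LD1_c13 LD2_c15 LD3_c15)) = (LP (LK LD1_c6 LD2_c59 LD3_c0)) :=
  Lre_f IH (LK LD1_c13 LD2_c15 LD3_c15) (LK LD1_c6 LD2_c59 LD3_c0) Lrfl Lrfl
theorem f768347 : Led Lsl_af (LP (LK LD1_c13 LD2_c15 LD3_c15)) = v18763 :=
  Lgr Lrot45 (Lpr_ft (f62282 IH) (Lpr_at (f130072 IH) (Lpr_ft (f768346 IH) (Lpn v18763))))
theorem f768349 : Led Lsl_gt v18760 = (LP (LK LD1_c13 LD2_c15 LD3_c15)) :=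
  Lgr Lrot46 (Lpe (f768337 IH) (Lpr_ft (f768346 IH) (Lpe (f768347 IH) (Lpn (LP (LK LD1_c13 LD2_c15 LD3_c15))))))
theorem f772879 : (LP (LK LD1_c9 LD2_c28 LD3_c32)) = v18760 :=
  (Llr Lrot64 (Lpe (f135757 IH) (Lpqs (f772309 IH) (Lpe (f650615 IH) (Lpe (f78982 IH) (Lpe (f119179 IH) (Lpr_ct (K56.f118390 IH) (Lpe (f96618 IH) (Lpe (f119206 IH) (Lpqs (f772646 IH) (Lpqs (f772678 IH) (Lpe (f653834 IH) (Lpe (f62251 IH) (Lpr_ct (f62236 IH) (Lpe (f768349 IH) (Lpn v18760)))))))))))))))).symm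
theorem f772881 : Led Lsl_gt (LP (LK LD1_c6 LD2_c32 LD3_c45)) = (LP (LK LD1_c9 LD2_c28 LD3_c32)) :=
  Leop (Lpqs (f772879 IH) (Lpe (f768337 IH) (Lpn (LP (LK LD1_c6 LD2_c32 LD3_c45)))))
theorem seed_1343 : LEOK LG_g (LK LD1_c6 LD2_c32 LD3_c45) :=
  Leoe_g (LK LD1_c6 LD2_c32 LD3_c45) (f772881 IH)
theorem f118600 : Led Lsl_ct (LP (LK LD1_c6 LD2_c36 LD3_c29)) = (LP (LK LD1_c3 LD2_c16 LD3_c37)) :=
  Lre_c IH (LK LD1_c6 LD2_c36 LD3_c29) (LK LD1_c3 LD2_c16 LD3_c37) Lrfl Lrfl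
theorem f650487 : Led Lsl_dt (LP (LK LD1_c3 LD2_c16 LD3_c37)) = (LP (LK LD1_c6 LD2_c36 LD3_c36)) :=
  Lre_d IH (LK LD1_c3 LD2_c16 LD3_c37) (LK LD1_c6 LD2_c36 LD3_c36) Lrfl Lrfl
theorem f119151 : Led Lsl_ct (LP (LK LD1_c12 LD2_c39 LD3_c4)) = (LP (LK LD1_c6 LD2_c36 LD3_c36)) :=
  Lre_c IH (LK LD1_c12 LD2_c39 LD3_c4) (LK LD1_c6 LD2_c36 LD3_c36) Lrfl Lrfl
theorem f704739 : Led Lsl_ff (LP (LK LD1_c4 LD2_c47 LD3_c54)) = K57.v13765 :=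
  Lgr Lrot3 (Lpr_ft (K57.f704736 IH) (Lpn K57.v13765))
theorem f92235 : Led Lsl_ct (LP (LK LD1_c4 LD2_c47 LD3_c54)) = (LP (LK LD1_c2 LD2_c21 LD3_c50)) :=
  Lre_c IH (LK LD1_c4 LD2_c47 LD3_c54) (LK LD1_c2 LD2_c21 LD3_c50) Lrfl Lrfl
def v4457 : LQ := Led Lsl_ft (LP (LK LD1_c2 LD2_c21 LD3_c50))
theorem f633500 : Led Lsl_ft (LP (LK LD1_c2 LD2_c21 LD3_c50)) = v4457 :=
  Lrfl
theorem f704743 : Led Lsl_ct v4457 = K57.v13765 :=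
  Lgr Lrot40 (Lpe (f633500 IH) (Lpe (f92235 IH) (Lpr_ff (f704739 IH) (Lpn K57.v13765))))
theorem f704720 : Led Lsl_ct K57.v4454 = K57.v13762 :=
  Lgr Lrot59 (Lpr_cf (K57.f704719 IH) (Lpn K57.v13762))
theorem f709306 : K57.v13762 = (LP (LK LD1_c9 LD2_c28 LD3_c32)) :=
  Lefun (Lecon (f704720 IH) (f709301 IH).symm) (f135757 IH)
theorem f704723 : Led Lsl_ff (LP (LK LD1_c4 LD2_c47 LD3_c57)) = K57.v13762 :=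
  Lgr Lrot3 (Lpr_ft (K57.f704721 IH) (Lpn K57.v13762))
theorem f704742 : Led Lsl_at (LP (LK LD1_c4 LD2_c47 LD3_c57)) = K57.v13765 :=
  Lgr Lrot66 (Lpr_ff (f704723 IH) (Lpe (K57.f704717 IH) (Lpr_ff (f704739 IH) (Lpn K57.v13765))))
def v18761 : LQ := Led Lsl_gf (LP (LK LD1_c6 LD2_c32 LD3_c45))
theorem f768338 : Led Lsl_gf (LP (LK LD1_c6 LD2_c32 LD3_c45)) = v18761 :=
  Lrfl
theorem f768339 : Led Lsl_gt (LP (LK LD1_c13 LD2_c15 LD3_c15)) = v18761 :=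
  Lgr Lrot5 (Lpr_ft (f62282 IH) (Lpr_at (f130072 IH) (Lpr_gf (f768338 IH) (Lpn v18761))))
theorem f772882 : K57.v13765 = v18761 :=
  (Llr Lrot26 (Lpe (f704742 IH) (Lpr_ff (f704723 IH) (Lpqs (f709306 IH) (Lpqs (f772879 IH) (Lpr_gt (f768349 IH) (Lpr_gt (f768339 IH) (Lpn v18761)))))))).symm
def v6752 : LQ := Led Lsl_bt (LP (LK LD1_c3 LD2_c28 LD3_c40))
theorem f658227 : Led Lsl_bt (LP (LK LD1_c3 LD2_c28 LD3_c40)) = v6752 :=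
  Lrfl
theorem f658228 : Led Lsl_bf (LP (LK LD1_c3 LD2_c28 LD3_c40)) = v6752 :=
  Lgr Lrot24 (Lpr_bt (f658227 IH) (Lpn v6752))
theorem f772651 : (LP (LK LD1_c2 LD2_c18 LD3_c11)) = v6752 :=
  Lefun (Lecon (Lfl_bf (f632353 IH)) (f772645 IH)) (f658227 IH)
theorem f772674 : Led Lsl_bf v4271 = K58.v6035 :=
  Lgr Lrot61 (Lpe (f632345 IH) (Lpqs (f772651 IH) (Lpe (f658228 IH) (Lpr_ft (f658211 IH) (Lpq (f772673 IH) (Lpn K58.v6035))))))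
theorem f772675 : Led Lsl_bt v4271 = K58.v6035 :=
  Lgr Lrot127 (Lpr_bf (f772674 IH) (Lpn K58.v6035))
def v13228 : LQ := Led Lsl_at (LP (LK LD1_c4 LD2_c41 LD3_c51))
theorem f701788 : Led Lsl_at (LP (LK LD1_c4 LD2_c41 LD3_c51)) = v13228 :=
  Lrfl
theorem f61095 : Led Lsl_ct (LP (LK LD1_c2 LD2_c18 LD3_c10)) = (LP (LK LD1_c4 LD2_c41 LD3_c51)) :=
  Lre_c IH (LK LD1_c2 LD2_c18 LD3_c10) (LK LD1_c4 LD2_c41 LD3_c51) Lrfl Lrfl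
theorem f701790 : Led Lsl_cf v4271 = v13228 :=
  Lgr Lrot1 (Lpe (f632343 IH) (Lpr_ct (f61095 IH) (Lpr_at (f701788 IH) (Lpn v13228))))
theorem f701791 : Led Lsl_ct v4271 = v13228 :=
  Lgr Lrot59 (Lpr_cf (f701790 IH) (Lpn v13228))
def v5994 : LQ := Led Lsl_bt (LP (LK LD1_c3 LD2_c16 LD3_c0))
theorem f650428 : Led Lsl_bt (LP (LK LD1_c3 LD2_c16 LD3_c0)) = v5994 :=
  Lrfl
def v7914 : LQ := Led Lsl_at K58.v1359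
theorem f668959 : Led Lsl_at K58.v1359 = v7914 :=
  Lrfl
def v2129 : LQ := Led Lsl_at (LP (LK LD1_c1 LD2_c36 LD3_c6))
theorem f509141 : Led Lsl_at (LP (LK LD1_c1 LD2_c36 LD3_c6)) = v2129 :=
  Lrfl
theorem f509142 : Led Lsl_af (LP (LK LD1_c1 LD2_c36 LD3_c6)) = v2129 :=
  Lgr Lrot0 (Lpr_at (f509141 IH) (Lpn v2129))
theorem f668962 : Led Lsl_ff v2129 = v7914 :=
  Lgr Lrot30 (Lpe (f509142 IH) (Lpe (K58.f507813 IH) (Lpr_at (f668959 IH) (Lpn v7914))))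
theorem f633514 : Led Lsl_bf v2129 = v4461 :=
  Lgr Lrot81 (Lpe (f509142 IH) (Lpr_bt (K57.f146023 IH) (Lpqs (K35.f506952 IH) (Lpe (K32.f495105 IH) (Lpr_bt (f68369 IH) (Lpr_at (f633512 IH) (Lpn v4461)))))))
theorem f633520 : Led Lsl_bt v2129 = v4461 :=
  Lgr Lrot127 (Lpr_bf (f633514 IH) (Lpn v4461))
theorem f668964 : Led Lsl_bt v3183 = v7914 :=
  Lgr Lrot35 (Lpr_ff (f633515 IH) (Lpe (f633520 IH) (Lpr_ff (f668962 IH) (Lpn v7914))))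
def v10101 : LQ := Led Lsl_ct v3183
theorem f678830 : Led Lsl_ct v3183 = v10101 :=
  Lrfl
theorem f678832 : Led Lsl_cf v3183 = v10101 :=
  Lgr Lrot11 (Lpr_ct (f678830 IH) (Lpn v10101))
theorem f504791 : Led Lsl_ct (LP (LK LD1_c6 LD2_c21 LD3_c51)) = (LP (LK LD1_c3 LD2_c8 LD3_c38)) :=
  Lre_c IH (LK LD1_c6 LD2_c21 LD3_c51) (LK LD1_c3 LD2_c8 LD3_c38) Lrfl Lrfl
theorem f701965 : Led Lsl_ct K46.v4288 = K58.v13258 :=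
  Lgr Lrot40 (Lpe (f632412 IH) (Lpe (f504791 IH) (Lpr_ff (K58.f701963 IH) (Lpn K58.v13258))))
theorem f419108 : Led Lsl_gt (LP (LK LD1_c6 LD2_c21 LD3_c54)) = (LP (LK LD1_c3 LD2_c8 LD3_c39)) :=
  Lre_g IH (LK LD1_c6 LD2_c21 LD3_c54) (LK LD1_c3 LD2_c8 LD3_c39) Lrfl Lrfl
theorem f701967 : Led Lsl_gf (LP (LK LD1_c6 LD2_c21 LD3_c54)) = K58.v13258 :=
  Lgr Lrot47 (Lpr_gt (f419108 IH) (Lpe (K58.f506217 IH) (Lpr_ff (K58.f701963 IH) (Lpn K58.v13258))))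
theorem f671802 : Led Lsl_bf K58.v2127 = K58.v8619 :=
  Lgr Lrot24 (Lpr_bt (K58.f671801 IH) (Lpn K58.v8619))
theorem f419107 : Led Lsl_ct (LP (LK LD1_c1 LD2_c30 LD3_c29)) = (LP (LK LD1_c3 LD2_c8 LD3_c39)) :=
  Lre_c IH (LK LD1_c1 LD2_c30 LD3_c29) (LK LD1_c3 LD2_c8 LD3_c39) Lrfl Lrfl
theorem f671803 : Led Lsl_cf (LP (LK LD1_c6 LD2_c21 LD3_c54)) = K58.v8619 :=
  Lgr Lrot160 (Lpr_gt (f419108 IH) (Lpe (f419107 IH) (Lpr_bt (K46.f419106 IH) (Lpr_gt (K9.f67106 IH) (Lpe (K11.f204263 IH) (Lpr_gt (K32.f68929 IH) (Lpe (K35.f435571 IH) (Lpr_bt (K58.f435580 IH) (Lpr_gt (K58.f509136 IH) (Lpr_bf (f671802 IH) (Lpn K58.v8619)))))))))))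
theorem f668963 : Led Lsl_gt K58.v2127 = v7914 :=
  Lgr Lrot46 (Lpe (K58.f509136 IH) (Lpe (K58.f507813 IH) (Lpr_at (f668959 IH) (Lpn v7914))))
theorem f704842 : Led Lsl_gt v10101 = v13788 :=
  Lgr Lrot65 (Lpe (f678830 IH) (Lpr_bt (f668964 IH) (Lpe (f668963 IH) (Lpr_bf (f671802 IH) (Lpe (f671803 IH) (Lpr_gf (f701967 IH) (Lpe (f701965 IH) (Lpe (f632410 IH) (Lpr_bf (f670293 IH) (Lpr_ct (f704840 IH) (Lpn v13788)))))))))))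
theorem f771551 : v10101 = K56.v6005 :=
  Lefun (Lecon (Lfl_gt (f704842 IH)) (f771510 IH)) (K56.f650491 IH)
theorem f771589 : v3183 = (LP (LK LD1_c3 LD2_c16 LD3_c0)) :=
  Lefun (Lecon (Lfl_cf (f678832 IH)) (((f771551 IH).trans (K56.f754656 IH).symm).trans (K56.f651837 IH))) (K57.f118603 IH)
theorem f771635 : v7914 = v5994 :=
  Lefun (Lecon (f668964 IH) (f771589 IH)) (f650428 IH)
theorem f770455 : v7914 = K57.v4412 :=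
  Lefun (Lecon (f668959 IH) (K58.f770435 IH)) (K57.f633246 IH)
theorem f125811 : Led Lsl_bt (LP (LK LD1_c4 LD2_c44 LD3_c61)) = (LP (LK LD1_c2 LD2_c20 LD3_c41)) :=
  Lre_b IH (LK LD1_c4 LD2_c44 LD3_c61) (LK LD1_c2 LD2_c20 LD3_c41) Lrfl Lrfl
def v5585 : LQ := Led Lsl_et (LP (LK LD1_c3 LD2_c10 LD3_c41))
theorem f648379 : Led Lsl_et (LP (LK LD1_c3 LD2_c10 LD3_c41)) = v5585 :=
  Lrfl
theorem f648381 : Led Lsl_ef (LP (LK LD1_c3 LD2_c10 LD3_c41)) = v5585 :=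
  Lgr Lrot88 (Lpr_et (f648379 IH) (Lpn v5585))
theorem f125477 : Led Lsl_ct (LP (LK LD1_c3 LD2_c10 LD3_c41)) = (LP (LK LD1_c2 LD2_c20 LD3_c39)) :=
  Lgr Lrot110 (Lpe (K5.f125476 IH) (Lpe (K5.f125475 IH) (Lpe (K5.f68992 IH) (Lpe (K5.f69132 IH) (Lpr_gt (K5.f16666 IH) (Lpr_ct (K5.f82399 IH) (Lpr_gt (K5.f124824 IH) (Lpr_ct (K5.f125465 IH) (Lpe (K4.f102165 IH) (Lpn (LP (LK LD1_c2 LD2_c20 LD3_c39))))))))))))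
theorem f102249 : Led Lsl_et (LP (LK LD1_c2 LD2_c20 LD3_c39)) = (LP (LK LD1_c4 LD2_c44 LD3_c61)) :=
  Lre_e IH (LK LD1_c2 LD2_c20 LD3_c39) (LK LD1_c4 LD2_c44 LD3_c61) Lrfl Lrfl
theorem f648382 : Led Lsl_ct (LP (LK LD1_c4 LD2_c44 LD3_c61)) = v5585 :=
  Lgr Lrot15 (Lpe (f102249 IH) (Lpe (f125477 IH) (Lpr_ef (f648381 IH) (Lpn v5585))))
theorem f772676 : Led Lsl_gf v13228 = v5585 :=
  Lgr Lrot126 (Lpe (f701791 IH) (Lpr_bt (f772675 IH) (Lpqs (K58.f769448 IH) (Lpe (K58.f653830 IH) (Lpr_ct (K3.f62238 IH) (Lpr_gt (K56.f650492 IH) (Lpq (K56.f754656 IH) (Lpqs (K56.f651837 IH) (Lpe (K56.f118595 IH) (Lpr_bt (f650428 IH) (Lpq (f771635 IH) (Lpqs (f770455 IH) (Lpqs (K57.f758499 IH) (Lpr_gt (K57.f102122 IH) (Lpe (f125811 IH) (Lpr_ct (f648382 IH) (Lpn v5585)))))))))))))))))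
def v13528 : LQ := Led Lsl_gf (LP (LK LD1_c4 LD2_c44 LD3_c61))
theorem f703461 : Led Lsl_gf (LP (LK LD1_c4 LD2_c44 LD3_c61)) = v13528 :=
  Lrfl
theorem f772883 : Led Lsl_bt v4457 = v13528 :=
  Lgr Lrot130 (Lpr_ct (f704743 IH) (Lpqs (f772882 IH) (Lpe (f768339 IH) (Lpe (f62236 IH) (Lpr_bt (f62251 IH) (Lpr_gf (K58.f653830 IH) (Lpq (K58.f769448 IH) (Lpe (f772675 IH) (Lpr_ct (f701791 IH) (Lpr_gf (f772676 IH) (Lpe (f648382 IH) (Lpr_gf (f703461 IH) (Lpn v13528)))))))))))))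
def v4451 : LQ := Led Lsl_gf (LP (LK LD1_c2 LD2_c21 LD3_c45))
theorem f633454 : Led Lsl_gf (LP (LK LD1_c2 LD2_c21 LD3_c45)) = v4451 :=
  Lrfl
theorem f704616 : Led Lsl_ft v4451 = K51.v13743 :=
  Lgr Lrot2 (Lpe (f633454 IH) (Lpr_gt (K35.f113296 IH) (Lpr_af (f704615 IH) (Lpn K51.v13743))))
theorem f704617 : Led Lsl_ff v4451 = K51.v13743 :=
  Lgr Lrot3 (Lpr_ft (f704616 IH) (Lpn K51.v13743))
theorem f709304 : v4451 = v4457 :=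
  Lefun (Lecon (Lfl_ff (f704617 IH)) (K51.f709300 IH)) (f633500 IH)
def v4455 : LQ := Led Lsl_bt (LP (LK LD1_c2 LD2_c21 LD3_c50))
theorem f633494 : Led Lsl_bt (LP (LK LD1_c2 LD2_c21 LD3_c50)) = v4455 :=
  Lrfl
theorem f633495 : Led Lsl_bf (LP (LK LD1_c2 LD2_c21 LD3_c50)) = v4455 :=
  Lgr Lrot24 (Lpr_bt (f633494 IH) (Lpn v4455))
theorem f772911 : Led Lsl_ff v4455 = v13528 :=
  Lgr Lrot25 (Lpe (f633495 IH) (Lpq (K51.f709300 IH) (Lpe (f704617 IH) (Lpqs (f709304 IH) (Lpr_bt (f772883 IH) (Lpn v13528))))))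
def v13527 : LQ := Led Lsl_gt (LP (LK LD1_c4 LD2_c44 LD3_c61))
theorem f703460 : Led Lsl_gt (LP (LK LD1_c4 LD2_c44 LD3_c61)) = v13527 :=
  Lrfl
theorem f772913 : Led Lsl_at v4455 = v13527 :=
  Lgr Lrot26 (Lpr_ff (f772911 IH) (Lpe (f703461 IH) (Lpr_gt (f703460 IH) (Lpn v13527))))
theorem f772915 : Led Lsl_bf v6023 = v13527 :=
  Lgr Lrot81 (Lpe (f650609 IH) (Lpq (f772308 IH) (Lpe (f704619 IH) (Lpqs (f709301 IH) (Lpe (K57.f633487 IH) (Lpr_bt (f633494 IH) (Lpr_at (f772913 IH) (Lpn v13527))))))))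
theorem f61193 : Led Lsl_ct (LP (LK LD1_c1 LD2_c6 LD3_c6)) = (LP (LK LD1_c2 LD2_c18 LD3_c9)) :=
  Lre_c IH (LK LD1_c1 LD2_c6 LD3_c6) (LK LD1_c2 LD2_c18 LD3_c9) Lrfl Lrfl
def v4267 : LQ := Led Lsl_gt (LP (LK LD1_c2 LD2_c18 LD3_c9))
theorem f632330 : Led Lsl_gt (LP (LK LD1_c2 LD2_c18 LD3_c9)) = v4267 :=
  Lrfl
theorem f772918 : Led Lsl_cf v4267 = v13527 :=
  Lgr Lrot163 (Lpe (f632330 IH) (Lpe (f61193 IH) (Lpe (f61092 IH) (Lpqs (f772651 IH) (Lpe (f658227 IH) (Lpr_ct (f658229 IH) (Lpqs (f772663 IH) (Lpr_gf (K57.f118400 IH) (Lpe (K46.f118412 IH) (Lpr_bt (f118517 IH) (Lpe (K46.f650581 IH) (Lpq (f772318 IH) (Lpr_bf (f772915 IH) (Lpn v13527))))))))))))))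
def v13270 : LQ := Led Lsl_gf (LP (LK LD1_c4 LD2_c42 LD3_c7))
theorem f702045 : Led Lsl_gf (LP (LK LD1_c4 LD2_c42 LD3_c7)) = v13270 :=
  Lrfl
theorem f118602 : Led Lsl_ct (LP (LK LD1_c3 LD2_c16 LD3_c37)) = (LP (LK LD1_c6 LD2_c36 LD3_c29)) :=
  Lre_c IH (LK LD1_c3 LD2_c16 LD3_c37) (LK LD1_c6 LD2_c36 LD3_c29) Lrfl Lrfl
theorem f772920 : v13270 = (LP (LK LD1_c6 LD2_c36 LD3_c29)) :=
  (Llr Lrot129 (Lpe (f702045 IH) (Lpe (K35.f61090 IH) (Lpr_bt (K35.f61089 IH) (Lpr_gt (K31.f59488 IH) (Lpe (K8.f61066 IH) (Lpr_ct (f61193 IH) (Lpr_gt (f632330 IH) (Lpr_cf (f772918 IH) (Lpe (f772915 IH) (Lpqs (f772318 IH) (Lpr_gt (K46.f650581 IH) (Lpr_ct (f118602 IH) (Lpn (LP (LK LD1_c6 LD2_c36 LD3_c29)))))))))))))))).symm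
def v13267 : LQ := Led Lsl_ct (LP (LK LD1_c4 LD2_c42 LD3_c6))
theorem f702024 : Led Lsl_ct (LP (LK LD1_c4 LD2_c42 LD3_c6)) = v13267 :=
  Lrfl
theorem f702025 : Led Lsl_af (LP (LK LD1_c4 LD2_c42 LD3_c7)) = v13267 :=
  Lgr Lrot68 (Lpr_ct (K35.f494706 IH) (Lpr_at (K58.f494704 IH) (Lpr_ct (f702024 IH) (Lpn v13267))))
theorem f504663 : Led Lsl_ct (LP (LK LD1_c6 LD2_c21 LD3_c24)) = (LP (LK LD1_c3 LD2_c8 LD3_c25)) :=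
  Lre_c IH (LK LD1_c6 LD2_c21 LD3_c24) (LK LD1_c3 LD2_c8 LD3_c25) Lrfl Lrfl
theorem f702027 : Led Lsl_ff (LP (LK LD1_c6 LD2_c21 LD3_c24)) = v13267 :=
  Lgr Lrot23 (Lpr_ct (f504663 IH) (Lpr_ft (K58.f506046 IH) (Lpr_ct (f702024 IH) (Lpn v13267))))
theorem f702029 : Led Lsl_ft (LP (LK LD1_c6 LD2_c21 LD3_c24)) = v13267 :=
  Lgr Lrot48 (Lpr_ff (f702027 IH) (Lpn v13267))
theorem f702046 : Led Lsl_gt (LP (LK LD1_c6 LD2_c21 LD3_c24)) = v13270 :=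
  Lgr Lrot5 (Lpr_ft (f702029 IH) (Lpe (f702025 IH) (Lpr_gf (f702045 IH) (Lpn v13270))))
def v18254 : LQ := Led Lsl_gt (LP (LK LD1_c6 LD2_c27 LD3_c52))
theorem f765971 : Led Lsl_gt (LP (LK LD1_c6 LD2_c27 LD3_c52)) = v18254 :=
  Lrfl
theorem f114799 : Led Lsl_af (LP (LK LD1_c6 LD2_c27 LD3_c52)) = (LP (LK LD1_c6 LD2_c18 LD3_c11)) :=
  Lgr Lrot0 (Lpr_at (K4.f114502 IH) (Lpn (LP (LK LD1_c6 LD2_c18 LD3_c11))))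
theorem f765975 : Led Lsl_af K58.v17359 = K58.v18256 :=
  Lgr Lrot45 (Lpe (K58.f758924 IH) (Lpe (f114799 IH) (Lpr_ft (K58.f765974 IH) (Lpn K58.v18256))))
theorem f765978 : Led Lsl_gt v18254 = K58.v17359 :=
  Lgr Lrot46 (Lpe (f765971 IH) (Lpr_ft (K58.f765974 IH) (Lpe (f765975 IH) (Lpn K58.v17359))))
theorem f770072 : (LP (LK LD1_c6 LD2_c22 LD3_c11)) = v18254 :=
  Lefun (Lecon (Lfl_gt (K58.f762148 IH)) (K58.f770069 IH)) (Lfl_gt (f765978 IH))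
theorem f67284 : Led Lsl_ct (LP (LK LD1_c6 LD2_c22 LD3_c11)) = (LP (LK LD1_c12 LD2_c17 LD3_c55)) :=
  Lre_c IH (LK LD1_c6 LD2_c22 LD3_c11) (LK LD1_c12 LD2_c17 LD3_c55) Lrfl Lrfl
theorem f772948 : Led Lsl_gf (LP (LK LD1_c12 LD2_c39 LD3_c4)) = (LP (LK LD1_c12 LD2_c17 LD3_c55)) :=
  Lgr Lrot104 (Lpr_ct (f119151 IH) (Lpe (f650487 IH) (Lpe (f118600 IH) (Lpq (f772920 IH) (Lpe (f702046 IH) (Lpe (K57.f506060 IH) (Lpr_gf (K58.f632433 IH) (Lpq (K58.f770136 IH) (Lpr_df (K4.f99213 IH) (Lpr_gt (f765971 IH) (Lpq (f770072 IH) (Lpr_ct (f67284 IH) (Lpn (LP (LK LD1_c12 LD2_c17 LD3_c55)))))))))))))))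
theorem f133980 : Led Lsl_dt (LP (LK LD1_c12 LD2_c39 LD3_c4)) = (LP (LK LD1_c21 LD2_c45 LD3_c27)) :=
  Lre_d IH (LK LD1_c12 LD2_c39 LD3_c4) (LK LD1_c21 LD2_c45 LD3_c27) Lrfl Lrfl
def v13264 : LQ := Led Lsl_dt (LP (LK LD1_c4 LD2_c42 LD3_c5))
theorem f702016 : Led Lsl_dt (LP (LK LD1_c4 LD2_c42 LD3_c5)) = v13264 :=
  Lrfl
theorem f770151 : K58.v17359 = v13264 :=
  Lefun (Lecon (K58.f758925 IH) (K58.f770135 IH)) (f702016 IH)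
theorem f702017 : Led Lsl_df (LP (LK LD1_c4 LD2_c42 LD3_c5)) = v13264 :=
  Lgr Lrot38 (Lpr_dt (f702016 IH) (Lpn v13264))
theorem f504895 : Led Lsl_dt (LP (LK LD1_c2 LD2_c18 LD3_c22)) = (LP (LK LD1_c4 LD2_c42 LD3_c8)) :=
  Lre_d IH (LK LD1_c2 LD2_c18 LD3_c22) (LK LD1_c4 LD2_c42 LD3_c8) Lrfl Lrfl
theorem f435462 : Led Lsl_ct (LP (LK LD1_c9 LD2_c18 LD3_c39)) = (LP (LK LD1_c4 LD2_c42 LD3_c8)) :=
  Lre_c IH (LK LD1_c9 LD2_c18 LD3_c39) (LK LD1_c4 LD2_c42 LD3_c8) Lrfl Lrfl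
theorem f435463 : Led Lsl_dt (LP (LK LD1_c17 LD2_c13 LD3_c52)) = (LP (LK LD1_c9 LD2_c18 LD3_c39)) :=
  Lre_d IH (LK LD1_c17 LD2_c13 LD3_c52) (LK LD1_c9 LD2_c18 LD3_c39) Lrfl Lrfl
theorem f772950 : Led Lsl_gt (LP (LK LD1_c21 LD2_c45 LD3_c27)) = (LP (LK LD1_c17 LD2_c13 LD3_c52)) :=
  Lgr Lrot49 (Lpe (f133980 IH) (Lpr_gf (f772948 IH) (Lpe (f67284 IH) (Lpr_gt (K58.f762148 IH) (Lpqs (K58.f770069 IH) (Lpqs (f770151 IH) (Lpe (f702017 IH) (Lpr_gt (K57.f494708 IH) (Lpr_dt (f504895 IH) (Lpe (f435462 IH) (Lpe (f435463 IH) (Lpn (LP (LK LD1_c17 LD2_c13 LD3_c52))))))))))))))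
theorem f772951 : Led Lsl_gt (LP (LK LD1_c21 LD2_c45 LD3_c27)) = (LP (LK LD1_c17 LD2_c13 LD3_c52)) :=
  Leop (Lpe (f772950 IH) (Lpn (LP (LK LD1_c21 LD2_c45 LD3_c27))))
theorem seed_1344 : LEOK LG_g (LK LD1_c21 LD2_c45 LD3_c27) :=
  Leoe_g (LK LD1_c21 LD2_c45 LD3_c27) (f772951 IH)
theorem f133964 : Led Lsl_ft (LP (LK LD1_c21 LD2_c45 LD3_c27)) = (LP (LK LD1_c12 LD2_c39 LD3_c3)) :=
  Lre_f IH (LK LD1_c21 LD2_c45 LD3_c27) (LK LD1_c12 LD2_c39 LD3_c3) Lrfl Lrfl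
theorem f133848 : Led Lsl_et (LP (LK LD1_c6 LD2_c27 LD3_c55)) = (LP (LK LD1_c12 LD2_c27 LD3_c8)) :=
  Lre_e IH (LK LD1_c6 LD2_c27 LD3_c55) (LK LD1_c12 LD2_c27 LD3_c8) Lrfl Lrfl
theorem f133881 : Led Lsl_af (LP (LK LD1_c6 LD2_c36 LD3_c35)) = (LP (LK LD1_c12 LD2_c27 LD3_c8)) :=
  Lgr Lrot50 (Lpr_et (K46.f78789 IH) (Lpr_at (K11.f133879 IH) (Lpr_et (f133848 IH) (Lpn (LP (LK LD1_c12 LD2_c27 LD3_c8))))))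
theorem f78808 : Led Lsl_dt (LP (LK LD1_c6 LD2_c36 LD3_c35)) = (LP (LK LD1_c12 LD2_c39 LD3_c3)) :=
  Lre_d IH (LK LD1_c6 LD2_c36 LD3_c35) (LK LD1_c12 LD2_c39 LD3_c3) Lrfl Lrfl
theorem f133950 : Led Lsl_dt (LP (LK LD1_c21 LD2_c34 LD3_c27)) = (LP (LK LD1_c12 LD2_c27 LD3_c8)) :=
  Lre_d IH (LK LD1_c21 LD2_c34 LD3_c27) (LK LD1_c12 LD2_c27 LD3_c8) Lrfl Lrfl
theorem f133951 : Led Lsl_at (LP (LK LD1_c12 LD2_c39 LD3_c3)) = (LP (LK LD1_c21 LD2_c34 LD3_c27)) :=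
  Lgr Lrot51 (Lpe (f78808 IH) (Lpr_af (f133881 IH) (Lpe (f133950 IH) (Lpn (LP (LK LD1_c21 LD2_c34 LD3_c27))))))
theorem f772955 : Led Lsl_gf (LP (LK LD1_c21 LD2_c34 LD3_c27)) = (LP (LK LD1_c17 LD2_c13 LD3_c52)) :=
  Lgr Lrot76 (Lpe (f133951 IH) (Lpe (f133964 IH) (Lpr_gt (f772950 IH) (Lpn (LP (LK LD1_c17 LD2_c13 LD3_c52))))))
theorem f505977 : Led Lsl_dt (LP (LK LD1_c21 LD2_c22 LD3_c22)) = (LP (LK LD1_c12 LD2_c16 LD3_c61)) :=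
  Lre_d IH (LK LD1_c21 LD2_c22 LD3_c22) (LK LD1_c12 LD2_c16 LD3_c61) Lrfl Lrfl
theorem f503625 : Led Lsl_dt (LP (LK LD1_c17 LD2_c13 LD3_c51)) = (LP (LK LD1_c27 LD2_c4 LD3_c8)) :=
  Lre_d IH (LK LD1_c17 LD2_c13 LD3_c51) (LK LD1_c27 LD2_c4 LD3_c8) Lrfl Lrfl
theorem f506007 : Led Lsl_ff (LP (LK LD1_c21 LD2_c22 LD3_c22)) = (LP (LK LD1_c27 LD2_c4 LD3_c8)) :=
  Lgr Lrot19 (Lpr_dt (f505977 IH) (Lpr_ft (K46.f505998 IH) (Lpr_dt (f503625 IH) (Lpn (LP (LK LD1_c27 LD2_c4 LD3_c8))))))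
theorem f506013 : Led Lsl_bt (LP (LK LD1_c21 LD2_c22 LD3_c22)) = (LP (LK LD1_c12 LD2_c17 LD3_c0)) :=
  Lre_b IH (LK LD1_c21 LD2_c22 LD3_c22) (LK LD1_c12 LD2_c17 LD3_c0) Lrfl Lrfl
theorem f506014 : Led Lsl_bt (LP (LK LD1_c17 LD2_c13 LD3_c52)) = (LP (LK LD1_c27 LD2_c4 LD3_c8)) :=
  Lre_b IH (LK LD1_c17 LD2_c13 LD3_c52) (LK LD1_c27 LD2_c4 LD3_c8) Lrfl Lrfl
theorem f506015 : Led Lsl_ft (LP (LK LD1_c12 LD2_c17 LD3_c0)) = (LP (LK LD1_c17 LD2_c13 LD3_c52)) :=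
  Lgr Lrot75 (Lpe (f506013 IH) (Lpr_ff (f506007 IH) (Lpe (f506014 IH) (Lpn (LP (LK LD1_c17 LD2_c13 LD3_c52))))))
theorem f506021 : Led Lsl_ff (LP (LK LD1_c12 LD2_c17 LD3_c0)) = (LP (LK LD1_c17 LD2_c13 LD3_c52)) :=
  Lgr Lrot3 (Lpr_ft (f506015 IH) (Lpn (LP (LK LD1_c17 LD2_c13 LD3_c52))))
theorem f506025 : Led Lsl_at (LP (LK LD1_c12 LD2_c17 LD3_c0)) = (LP (LK LD1_c21 LD2_c22 LD3_c2)) :=
  Lre_a IH (LK LD1_c12 LD2_c17 LD3_c0) (LK LD1_c21 LD2_c22 LD3_c2) Lrfl Lrfl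
theorem f772959 : Led Lsl_gt (LP (LK LD1_c21 LD2_c34 LD3_c27)) = (LP (LK LD1_c21 LD2_c22 LD3_c2)) :=
  Lgr Lrot46 (Lpr_gf (f772955 IH) (Lpe (f506021 IH) (Lpr_at (f506025 IH) (Lpn (LP (LK LD1_c21 LD2_c22 LD3_c2))))))
theorem f67962 : Led Lsl_dt (LP (LK LD1_c12 LD2_c27 LD3_c8)) = (LP (LK LD1_c21 LD2_c34 LD3_c27)) :=
  Lre_d IH (LK LD1_c12 LD2_c27 LD3_c8) (LK LD1_c21 LD2_c34 LD3_c27) Lrfl Lrfl
theorem f506100 : Led Lsl_dt (LP (LK LD1_c21 LD2_c22 LD3_c2)) = (LP (LK LD1_c12 LD2_c16 LD3_c48)) :=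
  Lre_d IH (LK LD1_c21 LD2_c22 LD3_c2) (LK LD1_c12 LD2_c16 LD3_c48) Lrfl Lrfl
theorem f506033 : Led Lsl_ct (LP (LK LD1_c6 LD2_c21 LD3_c25)) = (LP (LK LD1_c12 LD2_c16 LD3_c48)) :=
  Lre_c IH (LK LD1_c6 LD2_c21 LD3_c25) (LK LD1_c12 LD2_c16 LD3_c48) Lrfl Lrfl
def v18255 : LQ := Led Lsl_gf (LP (LK LD1_c6 LD2_c27 LD3_c52))
theorem f765972 : Led Lsl_gf (LP (LK LD1_c6 LD2_c27 LD3_c52)) = v18255 :=
  Lrfl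
theorem f765973 : Led Lsl_gt K58.v17359 = v18255 :=
  Lgr Lrot5 (Lpe (K58.f758924 IH) (Lpe (f114799 IH) (Lpr_gf (f765972 IH) (Lpn v18255))))
theorem f770071 : K58.v4292 = v18255 :=
  Lefun (Lecon (K58.f762159 IH) (K58.f770069 IH)) (f765973 IH)
def v17785 : LQ := Led Lsl_ft (LP (LK LD1_c6 LD2_c22 LD3_c12))
theorem f762166 : Led Lsl_ft (LP (LK LD1_c6 LD2_c22 LD3_c12)) = v17785 :=
  Lrfl
theorem f67263 : Led Lsl_ct (LP (LK LD1_c3 LD2_c8 LD3_c48)) = (LP (LK LD1_c6 LD2_c22 LD3_c12)) :=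
  Lre_c IH (LK LD1_c3 LD2_c8 LD3_c48) (LK LD1_c6 LD2_c22 LD3_c12) Lrfl Lrfl
theorem f762168 : Led Lsl_cf K58.v4292 = v17785 :=
  Lgr Lrot108 (Lpe (K58.f632452 IH) (Lpr_ct (f67263 IH) (Lpr_ft (f762166 IH) (Lpn v17785))))
theorem f772961 : Led Lsl_gf (LP (LK LD1_c12 LD2_c27 LD3_c8)) = v17785 :=
  Lgr Lrot144 (Lpr_dt (f67962 IH) (Lpr_gt (f772959 IH) (Lpr_dt (f506100 IH) (Lpe (f506033 IH) (Lpe (K46.f506034 IH) (Lpr_gf (K58.f632433 IH) (Lpq (K58.f770136 IH) (Lpr_df (K4.f99213 IH) (Lpr_gf (f765972 IH) (Lpq (f770071 IH) (Lpr_cf (f762168 IH) (Lpn v17785))))))))))))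
theorem f762169 : Led Lsl_ff (LP (LK LD1_c6 LD2_c22 LD3_c12)) = v17785 :=
  Lgr Lrot3 (Lpr_ft (f762166 IH) (Lpn v17785))
theorem f67246 : Led Lsl_at (LP (LK LD1_c6 LD2_c22 LD3_c12)) = (LP (LK LD1_c12 LD2_c17 LD3_c55)) :=
  Lre_a IH (LK LD1_c6 LD2_c22 LD3_c12) (LK LD1_c12 LD2_c17 LD3_c55) Lrfl Lrfl
theorem f772964 : Led Lsl_gt (LP (LK LD1_c12 LD2_c27 LD3_c8)) = (LP (LK LD1_c12 LD2_c17 LD3_c55)) :=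
  Lgr Lrot46 (Lpr_gf (f772961 IH) (Lpe (f762169 IH) (Lpr_at (f67246 IH) (Lpn (LP (LK LD1_c12 LD2_c17 LD3_c55))))))
theorem f772965 : Led Lsl_gt (LP (LK LD1_c12 LD2_c27 LD3_c8)) = (LP (LK LD1_c12 LD2_c17 LD3_c55)) :=
  Leop (Lpe (f772964 IH) (Lpn (LP (LK LD1_c12 LD2_c27 LD3_c8))))
theorem seed_1345 : LEOK LG_g (LK LD1_c12 LD2_c27 LD3_c8) :=
  Leoe_g (LK LD1_c12 LD2_c27 LD3_c8) (f772965 IH)
theorem f148657 : Led Lsl_et (LP (LK LD1_c3 LD2_c19 LD3_c8)) = (LP (LK LD1_c6 LD2_c42 LD3_c21)) :=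
  Lre_e IH (LK LD1_c3 LD2_c19 LD3_c8) (LK LD1_c6 LD2_c42 LD3_c21) Lrfl Lrfl
theorem f773043 : Led Lsl_af K50.v13915 = (LP (LK LD1_c6 LD2_c42 LD3_c21)) :=
  Lgr Lrot50 (Lpe (K50.f705878 IH) (Lpqs (f772603 IH) (Lpe (f652080 IH) (Lpr_et (f148657 IH) (Lpn (LP (LK LD1_c6 LD2_c42 LD3_c21)))))))
theorem f768156 : Led Lsl_gf K50.v13915 = K58.v18713 :=
  Lgr Lrot148 (Lpe (K50.f705880 IH) (Lpr_gt (K50.f22705 IH) (Lpr_dt (K58.f22698 IH) (Lpr_ct (K58.f22584 IH) (Lpr_df (K0.f23716 IH) (Lpe (K46.f22737 IH) (Lpe (K48.f23734 IH) (Lpe (K46.f649890 IH) (Lpr_ct (K58.f768151 IH) (Lpn K58.v18713))))))))))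
theorem f773045 : Led Lsl_ft (LP (LK LD1_c9 LD2_c32 LD3_c32)) = (LP (LK LD1_c6 LD2_c42 LD3_c21)) :=
  Lgr Lrot2 (Lpr_gt (K58.f768160 IH) (Lpe (f768156 IH) (Lpr_af (f773043 IH) (Lpn (LP (LK LD1_c6 LD2_c42 LD3_c21))))))
theorem f773046 : Led Lsl_ft (LP (LK LD1_c9 LD2_c32 LD3_c32)) = (LP (LK LD1_c6 LD2_c42 LD3_c21)) :=
  Leop (Lpe (f773045 IH) (Lpn (LP (LK LD1_c9 LD2_c32 LD3_c32))))
theorem seed_1346 : LEOK LG_f (LK LD1_c9 LD2_c32 LD3_c32) :=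
  Leoe_f (LK LD1_c9 LD2_c32 LD3_c32) (f773046 IH)
def v18694 : LQ := Led Lsl_ft (LP (LK LD1_c6 LD2_c32 LD3_c10))
theorem f768084 : Led Lsl_ft (LP (LK LD1_c6 LD2_c32 LD3_c10)) = v18694 :=
  Lrfl
theorem f768086 : Led Lsl_ff (LP (LK LD1_c6 LD2_c32 LD3_c10)) = v18694 :=
  Lgr Lrot3 (Lpr_ft (f768084 IH) (Lpn v18694))
theorem f768081 : Led Lsl_ff (LP (LK LD1_c6 LD2_c32 LD3_c11)) = K58.v18692 :=
  Lgr Lrot3 (Lpr_ft (K58.f768071 IH) (Lpn K58.v18692))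
theorem f768087 : Led Lsl_at (LP (LK LD1_c6 LD2_c32 LD3_c11)) = v18694 :=
  Lgr Lrot66 (Lpr_ff (f768081 IH) (Lpe (K58.f768069 IH) (Lpr_ff (f768086 IH) (Lpn v18694))))
theorem f148655 : Led Lsl_df (LP (LK LD1_c6 LD2_c42 LD3_c21)) = (LP (LK LD1_c12 LD2_c31 LD3_c0)) :=
  Lgr Lrot38 (Lpr_dt (K48.f148647 IH) (Lpn (LP (LK LD1_c12 LD2_c31 LD3_c0))))
theorem f773047 : v18694 = (LP (LK LD1_c12 LD2_c31 LD3_c0)) :=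
  (Llr Lrot51 (Lpe (f768087 IH) (Lpr_df (K50.f705880 IH) (Lpr_af (f773043 IH) (Lpr_df (f148655 IH) (Lpn (LP (LK LD1_c12 LD2_c31 LD3_c0)))))))).symm
theorem f768085 : Led Lsl_af (LP (LK LD1_c6 LD2_c32 LD3_c11)) = v18694 :=
  Lgr Lrot45 (Lpr_ft (K58.f768071 IH) (Lpe (K58.f768070 IH) (Lpr_ft (f768084 IH) (Lpn v18694))))
theorem f773048 : Led Lsl_at (LP (LK LD1_c12 LD2_c31 LD3_c0)) = (LP (LK LD1_c6 LD2_c32 LD3_c11)) :=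
  Leop (Lpr_af (f768085 IH) (Lpqs (f773047 IH) (Lpn (LP (LK LD1_c12 LD2_c31 LD3_c0)))))
theorem seed_1347 : LEOK LG_a (LK LD1_c12 LD2_c31 LD3_c0) :=
  Leoe_a (LK LD1_c12 LD2_c31 LD3_c0) (f773048 IH)
theorem f772576 : v5821 = K50.v5851 :=
  Lefun (Lecon (Lfl_af (f767658 IH)) ((f772379 IH).trans (f772575 IH).symm)) (K50.f649813 IH)
def v18681 : LQ := Led Lsl_at (LP (LK LD1_c6 LD2_c32 LD3_c7))
theorem f768034 : Led Lsl_at (LP (LK LD1_c6 LD2_c32 LD3_c7)) = v18681 :=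
  Lrfl
theorem f768036 : Led Lsl_ef K50.v5851 = v18681 :=
  Lgr Lrot20 (Lpe (K50.f649814 IH) (Lpr_et (f649818 IH) (Lpr_at (f768034 IH) (Lpn v18681))))
theorem f148350 : Led Lsl_et (LP (LK LD1_c1 LD2_c33 LD3_c28)) = (LP (LK LD1_c3 LD2_c13 LD3_c49)) :=
  Lre_e IH (LK LD1_c1 LD2_c33 LD3_c28) (LK LD1_c3 LD2_c13 LD3_c49) Lrfl Lrfl
theorem f124143 : Led Lsl_et (LP (LK LD1_c2 LD2_c22 LD3_c3)) = (LP (LK LD1_c1 LD2_c8 LD3_c11)) :=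
  Lre_e IH (LK LD1_c2 LD2_c22 LD3_c3) (LK LD1_c1 LD2_c8 LD3_c11) Lrfl Lrfl
theorem f124144 : Led Lsl_dt (LP (LK LD1_c2 LD2_c22 LD3_c3)) = (LP (LK LD1_c4 LD2_c48 LD3_c19)) :=
  Lre_d IH (LK LD1_c2 LD2_c22 LD3_c3) (LK LD1_c4 LD2_c48 LD3_c19) Lrfl Lrfl
theorem f129271 : Led Lsl_gt (LP (LK LD1_c9 LD2_c29 LD3_c23)) = (LP (LK LD1_c4 LD2_c48 LD3_c19)) :=
  Lre_g IH (LK LD1_c9 LD2_c29 LD3_c23) (LK LD1_c4 LD2_c48 LD3_c19) Lrfl Lrfl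
theorem f773097 : Led Lsl_dt v18681 = (LP (LK LD1_c9 LD2_c29 LD3_c23)) :=
  Lgr Lrot136 (Lpe (f768036 IH) (Lpq (f772576 IH) (Lpe (f649575 IH) (Lpe (f148350 IH) (Lpe (K7.f148348 IH) (Lpe (K6.f144343 IH) (Lpe (K5.f125586 IH) (Lpe (K5.f129263 IH) (Lpe (f124143 IH) (Lpr_dt (f124144 IH) (Lpe (f129271 IH) (Lpn (LP (LK LD1_c9 LD2_c29 LD3_c23))))))))))))))
theorem f437808 : Led Lsl_dt (LP (LK LD1_c12 LD2_c32 LD3_c4)) = (LP (LK LD1_c6 LD2_c32 LD3_c7)) :=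
  Lre_d IH (LK LD1_c12 LD2_c32 LD3_c4) (LK LD1_c6 LD2_c32 LD3_c7) Lrfl Lrfl
theorem f773098 : Led Lsl_af (LP (LK LD1_c12 LD2_c32 LD3_c4)) = (LP (LK LD1_c9 LD2_c29 LD3_c23)) :=
  Lgr Lrot117 (Lpr_dt (f437808 IH) (Lpr_at (f768034 IH) (Lpr_dt (f773097 IH) (Lpn (LP (LK LD1_c9 LD2_c29 LD3_c23))))))
theorem f773099 : Led Lsl_at (LP (LK LD1_c9 LD2_c29 LD3_c23)) = (LP (LK LD1_c12 LD2_c32 LD3_c4)) :=
  Leop (Lpr_af (f773098 IH) (Lpn (LP (LK LD1_c9 LD2_c29 LD3_c23))))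
theorem seed_1348 : LEOK LG_a (LK LD1_c9 LD2_c29 LD3_c23) :=
  Leoe_a (LK LD1_c9 LD2_c29 LD3_c23) (f773099 IH)
theorem f85079 : Led Lsl_ct (LP (LK LD1_c1 LD2_c49 LD3_c46)) = (LP (LK LD1_c3 LD2_c45 LD3_c15)) :=
  Lre_c IH (LK LD1_c1 LD2_c49 LD3_c46) (LK LD1_c3 LD2_c45 LD3_c15) Lrfl Lrfl
def v7333 : LQ := Led Lsl_gf (LP (LK LD1_c3 LD2_c45 LD3_c15))
theorem f664608 : Led Lsl_gf (LP (LK LD1_c3 LD2_c45 LD3_c15)) = v7333 :=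
  Lrfl
theorem f649581 : Led Lsl_at (LP (LK LD1_c3 LD2_c14 LD3_c16)) = K50.v5822 :=
  Lgr Lrot66 (Lpe (K8.f22573 IH) (Lpe (K50.f22680 IH) (Lpr_ff (K50.f649579 IH) (Lpn K50.v5822))))
theorem f649589 : Led Lsl_gt (LP (LK LD1_c3 LD2_c14 LD3_c13)) = K50.v5822 :=
  Lgr Lrot46 (Lpe (K50.f22595 IH) (Lpr_ft (K8.f22573 IH) (Lpr_at (f649581 IH) (Lpn K50.v5822))))
theorem f632935 : Led Lsl_bt K32.v2010 = K51.v4363 :=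
  Lgr Lrot35 (Lpe (K32.f506870 IH) (Lpe (K46.f151914 IH) (Lpr_ff (K51.f632932 IH) (Lpn K51.v4363))))
theorem f773119 : v7333 = (LP (LK LD1_c4 LD2_c44 LD3_c22)) :=
  (Llr Lrot129 (Lpe (f664608 IH) (Lpe (f85079 IH) (Lpr_bt (K2.f85073 IH) (Lpr_gt (K56.f85125 IH) (Lpr_bf (f527914 IH) (Lpq (f772572 IH) (Lpe (f649823 IH) (Lpr_gt (f649589 IH) (Lpe (K50.f649582 IH) (Lpr_bt (f632935 IH) (Lpe (K51.f632938 IH) (Lpr_ct (K51.f144058 IH) (Lpn (LP (LK LD1_c4 LD2_c44 LD3_c22)))))))))))))))).symm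
theorem f773121 : Led Lsl_gt (LP (LK LD1_c4 LD2_c44 LD3_c22)) = (LP (LK LD1_c3 LD2_c45 LD3_c15)) :=
  Leop (Lpr_gf (f664608 IH) (Lpqs (f773119 IH) (Lpn (LP (LK LD1_c4 LD2_c44 LD3_c22)))))
theorem seed_1349 : LEOK LG_g (LK LD1_c4 LD2_c44 LD3_c22) :=
  Leoe_g (LK LD1_c4 LD2_c44 LD3_c22) (f773121 IH)
def v13470 : LQ := Led Lsl_gf (LP (LK LD1_c4 LD2_c44 LD3_c20))
theorem f703187 : Led Lsl_gf (LP (LK LD1_c4 LD2_c44 LD3_c20)) = v13470 :=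
  Lrfl
theorem f703197 : Led Lsl_gt (LP (LK LD1_c4 LD2_c44 LD3_c22)) = v13470 :=
  Lgr Lrot5 (Lpr_ft (K58.f703194 IH) (Lpe (K58.f703191 IH) (Lpr_gf (f703187 IH) (Lpn v13470))))
theorem f773120 : (LP (LK LD1_c3 LD2_c45 LD3_c15)) = v13470 :=
  Lefun (Lecon (Lfl_gf (f664608 IH)) (f773119 IH)) (f703197 IH)
theorem f773123 : Led Lsl_gt (LP (LK LD1_c3 LD2_c45 LD3_c15)) = (LP (LK LD1_c4 LD2_c44 LD3_c20)) :=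
  Leop (Lpr_gf (f703187 IH) (Lpq (f773120 IH) (Lpn (LP (LK LD1_c3 LD2_c45 LD3_c15)))))
theorem seed_1350 : LEOK LG_g (LK LD1_c3 LD2_c45 LD3_c15) :=
  Leoe_g (LK LD1_c3 LD2_c45 LD3_c15) (f773123 IH)
theorem f772435 : Led Lsl_ft (LP (LK LD1_c6 LD2_c59 LD3_c26)) = K58.v7634 :=
  Lgr Lrot4 (Lpr_cf (f769430 IH) (Lpr_ff (f772431 IH) (Lpr_cf (K58.f769253 IH) (Lpn K58.v7634))))
def v1939 : LQ := Led Lsl_gf (LP (LK LD1_c1 LD2_c31 LD3_c51))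
def v8242 : LQ := Led Lsl_dt v1939
theorem f670488 : Led Lsl_dt v1939 = v8242 :=
  Lrfl
theorem f670489 : Led Lsl_df v1939 = v8242 :=
  Lgr Lrot38 (Lpr_dt (f670488 IH) (Lpn v8242))
theorem f506488 : Led Lsl_gf (LP (LK LD1_c1 LD2_c31 LD3_c51)) = v1939 :=
  Lrfl
theorem f125542 : Led Lsl_dt (LP (LK LD1_c0 LD2_c42 LD3_c30)) = (LP (LK LD1_c1 LD2_c31 LD3_c51)) :=
  Lre_d IH (LK LD1_c0 LD2_c42 LD3_c30) (LK LD1_c1 LD2_c31 LD3_c51) Lrfl Lrfl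
def v7816 : LQ := Led Lsl_gt K50.v1313
theorem f668563 : Led Lsl_gt K50.v1313 = v7816 :=
  Lrfl
theorem f670490 : Led Lsl_ef v7816 = v8242 :=
  Lgr Lrot17 (Lpe (f668563 IH) (Lpe (K50.f494771 IH) (Lpr_dt (K50.f26172 IH) (Lpe (K5.f124580 IH) (Lpr_df (K5.f125523 IH) (Lpe (K5.f68992 IH) (Lpe (K58.f125541 IH) (Lpr_dt (f125542 IH) (Lpr_gf (f506488 IH) (Lpr_df (f670489 IH) (Lpn v8242)))))))))))
def v17018 : LQ := Led Lsl_ct (LP (LK LD1_c6 LD2_c10 LD3_c28))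
theorem f754371 : Led Lsl_ct (LP (LK LD1_c6 LD2_c10 LD3_c28)) = v17018 :=
  Lrfl
theorem f754372 : Led Lsl_cf (LP (LK LD1_c6 LD2_c10 LD3_c28)) = v17018 :=
  Lgr Lrot11 (Lpr_ct (f754371 IH) (Lpn v17018))
theorem f772253 : (LP (LK LD1_c3 LD2_c12 LD3_c30)) = v17018 :=
  Lefun (Lecon (Lfl_cf (f649045 IH)) ((f770713 IH).trans (f772249 IH).symm)) (f754371 IH)
def v5722 : LQ := Led Lsl_ft (LP (LK LD1_c3 LD2_c12 LD3_c30))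
theorem f649046 : Led Lsl_ft (LP (LK LD1_c3 LD2_c12 LD3_c30)) = v5722 :=
  Lrfl
theorem f649049 : Led Lsl_ff (LP (LK LD1_c3 LD2_c12 LD3_c30)) = v5722 :=
  Lgr Lrot3 (Lpr_ft (f649046 IH) (Lpn v5722))
theorem f772261 : Led Lsl_cf v5722 = v17012 :=
  Lgr Lrot108 (Lpe (f649049 IH) (Lpqs (f772253 IH) (Lpe (f754372 IH) (Lpr_ft (f754377 IH) (Lpq (f772259 IH) (Lpn v17012))))))
theorem f649043 : Led Lsl_ff K46.v1973 = K48.v5720 :=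
  Lgr Lrot3 (Lpr_ft (K48.f649042 IH) (Lpn K48.v5720))
theorem f649050 : Led Lsl_at K46.v1973 = v5722 :=
  Lgr Lrot66 (Lpr_ff (f649043 IH) (Lpe (K48.f649036 IH) (Lpr_ff (f649049 IH) (Lpn v5722))))
def v5690 : LQ := Led Lsl_gf (LP (LK LD1_c3 LD2_c12 LD3_c4))
theorem f648873 : Led Lsl_gf (LP (LK LD1_c3 LD2_c12 LD3_c4)) = v5690 :=
  Lrfl
theorem f648874 : Led Lsl_gt K46.v1975 = v5690 :=
  Lgr Lrot5 (Lpe (K46.f506703 IH) (Lpr_at (K46.f82783 IH) (Lpr_gf (f648873 IH) (Lpn v5690))))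
theorem f663850 : v5722 = v5690 :=
  (Llr Lrot26 (Lpe (f649050 IH) (Lpr_ff (f649043 IH) (Lpq (K48.f663847 IH) (Lpr_gt (K46.f648883 IH) (Lpr_gt (f648874 IH) (Lpn v5690))))))).symm
def v9312 : LQ := Led Lsl_bt K56.v2603
theorem f675352 : Led Lsl_bt K56.v2603 = v9312 :=
  Lrfl
theorem f772265 : v7816 = v9312 :=
  (Llr Lrot164 (Lpe (f668563 IH) (Lpe (K50.f494776 IH) (Lpr_ct (K50.f82781 IH) (Lpr_gf (f648873 IH) (Lpq (f663850 IH) (Lpr_cf (f772261 IH) (Lpe (f754334 IH) (Lpe (f646514 IH) (Lpr_ct (K58.f150971 IH) (Lpe (K32.f508617 IH) (Lpr_cf (K58.f650232 IH) (Lpqs (K58.f769504 IH) (Lpr_bt (f675352 IH) (Lpn v9312))))))))))))))).symm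
theorem f675353 : Led Lsl_bf K56.v2603 = v9312 :=
  Lgr Lrot24 (Lpr_bt (f675352 IH) (Lpn v9312))
theorem f772266 : Led Lsl_bf v8242 = K58.v9315 :=
  Lgr Lrot96 (Lpe (f670490 IH) (Lpqs (f772265 IH) (Lpe (f675353 IH) (Lpr_et (K58.f675358 IH) (Lpn K58.v9315)))))
def v8240 : LQ := Led Lsl_bt v1939
theorem f670484 : Led Lsl_bt v1939 = v8240 :=
  Lrfl
theorem f772268 : v8240 = K58.v7634 :=
  (Llr Lrot95 (Lpe (f670484 IH) (Lpr_df (f670489 IH) (Lpr_bf (f772266 IH) (Lpe (K58.f675361 IH) (Lpn K58.v7634)))))).symm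
theorem f670485 : Led Lsl_bf v1939 = v8240 :=
  Lgr Lrot24 (Lpr_bt (f670484 IH) (Lpn v8240))
def v5604 : LQ := Led Lsl_at (LP (LK LD1_c3 LD2_c10 LD3_c52))
theorem f648475 : Led Lsl_at (LP (LK LD1_c3 LD2_c10 LD3_c52)) = v5604 :=
  Lrfl
theorem f648476 : Led Lsl_af (LP (LK LD1_c3 LD2_c10 LD3_c52)) = v5604 :=
  Lgr Lrot0 (Lpr_at (f648475 IH) (Lpn v5604))
theorem f648480 : Led Lsl_ft v1939 = v5604 :=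
  Lgr Lrot2 (Lpe (f506488 IH) (Lpr_gt (K57.f131382 IH) (Lpr_af (f648476 IH) (Lpn v5604))))
theorem f773294 : Led Lsl_bf (LP (LK LD1_c6 LD2_c59 LD3_c26)) = v5604 :=
  Lgr Lrot61 (Lpr_ft (f772435 IH) (Lpq (f772268 IH) (Lpe (f670485 IH) (Lpr_ft (f648480 IH) (Lpn v5604)))))
theorem f773295 : Led Lsl_bt (LP (LK LD1_c6 LD2_c59 LD3_c26)) = v5604 :=
  Lgr Lrot127 (Lpr_bf (f773294 IH) (Lpn v5604))
theorem f648478 : Led Lsl_bt (LP (LK LD1_c3 LD2_c10 LD3_c52)) = (LP (LK LD1_c6 LD2_c26 LD3_c5)) :=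
  Lre_b IH (LK LD1_c3 LD2_c10 LD3_c52) (LK LD1_c6 LD2_c26 LD3_c5) Lrfl Lrfl
theorem f648479 : Led Lsl_at (LP (LK LD1_c6 LD2_c26 LD3_c5)) = (LP (LK LD1_c12 LD2_c24 LD3_c15)) :=
  Lre_a IH (LK LD1_c6 LD2_c26 LD3_c5) (LK LD1_c12 LD2_c24 LD3_c15) Lrfl Lrfl
theorem f773296 : Led Lsl_bf (LP (LK LD1_c7 LD2_c48 LD3_c49)) = (LP (LK LD1_c12 LD2_c24 LD3_c15)) :=
  Lgr Lrot81 (Lpr_at (f772416 IH) (Lpr_bt (f773295 IH) (Lpe (f648476 IH) (Lpr_bt (f648478 IH) (Lpr_at (f648479 IH) (Lpn (LP (LK LD1_c12 LD2_c24 LD3_c15))))))))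
theorem f773297 : Led Lsl_bt (LP (LK LD1_c12 LD2_c24 LD3_c15)) = (LP (LK LD1_c7 LD2_c48 LD3_c49)) :=
  Leop (Lpr_bf (f773296 IH) (Lpn (LP (LK LD1_c12 LD2_c24 LD3_c15))))
theorem seed_1351 : LEOK LG_b (LK LD1_c12 LD2_c24 LD3_c15) :=
  Leoe_b (LK LD1_c12 LD2_c24 LD3_c15) (f773297 IH)
def v2619 : LQ := Led Lsl_gt (LP (LK LD1_c1 LD2_c49 LD3_c54))
def v9349 : LQ := Led Lsl_at v2619
theorem f675475 : Led Lsl_at v2619 = v9349 :=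
  Lrfl
theorem f675476 : Led Lsl_af v2619 = v9349 :=
  Lgr Lrot0 (Lpr_at (f675475 IH) (Lpn v9349))
theorem f527897 : Led Lsl_gt (LP (LK LD1_c1 LD2_c49 LD3_c54)) = v2619 :=
  Lrfl
theorem f675477 : Led Lsl_ft K56.v2620 = v9349 :=
  Lgr Lrot2 (Lpe (K56.f527902 IH) (Lpr_gt (f527897 IH) (Lpr_af (f675476 IH) (Lpn v9349))))
theorem f754522 : K49.v5965 = v9349 :=
  Lefun (Lecon (K49.f650281 IH) (K56.f754512 IH)) (f675477 IH)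
theorem f771789 : K49.v3146 = (LP (LK LD1_c3 LD2_c14 LD3_c30)) :=
  Lefun (Lecon (K49.f624031 IH) (f771698 IH)) (K58.f22736 IH)
theorem f771852 : v9349 = (LP (LK LD1_c4 LD2_c44 LD3_c24)) :=
  Lefun (Lecon (f675477 IH) ((K56.f754512 IH).symm.trans (f771789 IH))) (K58.f507572 IH)
theorem f428491 : Led Lsl_bt (LP (LK LD1_c4 LD2_c37 LD3_c32)) = (LP (LK LD1_c9 LD2_c10 LD3_c38)) :=
  Lre_b IH (LK LD1_c4 LD2_c37 LD3_c32) (LK LD1_c9 LD2_c10 LD3_c38) Lrfl Lrfl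
theorem f773666 : Led Lsl_gf (LP (LK LD1_c9 LD2_c10 LD3_c38)) = (LP (LK LD1_c6 LD2_c34 LD3_c38)) :=
  Lgr Lrot124 (Lpe (f428491 IH) (Lpr_ct (K55.f206828 IH) (Lpr_gt (K50.f631924 IH) (Lpq (K50.f642780 IH) (Lpe (K45.f71365 IH) (Lpr_bt (K58.f504742 IH) (Lpq (f771852 IH) (Lpq (f754522 IH) (Lpqs (K56.f651968 IH) (Lpe (K56.f646555 IH) (Lpr_ct (K56.f85101 IH) (Lpr_gt (K58.f527740 IH) (Lpq (K58.f769508 IH) (Lpe (K58.f650243 IH) (Lpr_bt (f650227 IH) (Lpn (LP (LK LD1_c6 LD2_c34 LD3_c38))))))))))))))))))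
theorem f773667 : Led Lsl_gt (LP (LK LD1_c6 LD2_c34 LD3_c38)) = (LP (LK LD1_c9 LD2_c10 LD3_c38)) :=
  Leop (Lpr_gf (f773666 IH) (Lpn (LP (LK LD1_c6 LD2_c34 LD3_c38))))
theorem seed_1352 : LEOK LG_g (LK LD1_c6 LD2_c34 LD3_c38) :=
  Leoe_g (LK LD1_c6 LD2_c34 LD3_c38) (f773667 IH)
def v17015 : LQ := Led Lsl_et (LP (LK LD1_c6 LD2_c10 LD3_c27))
theorem f754355 : Led Lsl_et (LP (LK LD1_c6 LD2_c10 LD3_c27)) = v17015 :=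
  Lrfl
theorem f115523 : Led Lsl_bt (LP (LK LD1_c3 LD2_c1 LD3_c52)) = (LP (LK LD1_c6 LD2_c10 LD3_c27)) :=
  Lre_b IH (LK LD1_c3 LD2_c1 LD3_c52) (LK LD1_c6 LD2_c10 LD3_c27) Lrfl Lrfl
theorem f754356 : Led Lsl_bf v5199 = v17015 :=
  Lgr Lrot96 (Lpe (f646507 IH) (Lpr_bt (f115523 IH) (Lpr_et (f754355 IH) (Lpn v17015))))
theorem f117083 : Led Lsl_et (LP (LK LD1_c6 LD2_c10 LD3_c33)) = (LP (LK LD1_c3 LD2_c1 LD3_c54)) :=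
  Lre_e IH (LK LD1_c6 LD2_c10 LD3_c33) (LK LD1_c3 LD2_c1 LD3_c54) Lrfl Lrfl
theorem f754357 : Led Lsl_cf (LP (LK LD1_c6 LD2_c10 LD3_c33)) = v17015 :=
  Lgr Lrot39 (Lpr_et (f117083 IH) (Lpr_ct (K4.f96237 IH) (Lpr_et (f754355 IH) (Lpn v17015))))
theorem f149775 : Led Lsl_gt (LP (LK LD1_c12 LD2_c1 LD3_c40)) = (LP (LK LD1_c6 LD2_c10 LD3_c33)) :=
  Lre_g IH (LK LD1_c12 LD2_c1 LD3_c40) (LK LD1_c6 LD2_c10 LD3_c33) Lrfl Lrfl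
theorem f506675 : Led Lsl_af K46.v498 = K46.v1970 :=
  Lgr Lrot45 (Lpe (K51.f453632 IH) (Lpr_at (K51.f82660 IH) (Lpr_ft (K46.f506674 IH) (Lpn K46.v1970))))
theorem f506677 : Led Lsl_gt (LP (LK LD1_c3 LD2_c12 LD3_c5)) = K46.v498 :=
  Lgr Lrot46 (Lpe (K51.f82784 IH) (Lpr_ft (K46.f506674 IH) (Lpe (f506675 IH) (Lpn K46.v498))))
theorem f506702 : Led Lsl_cf K46.v498 = K46.v1975 :=
  Lgr Lrot108 (Lpe (K51.f453632 IH) (Lpr_ct (K4.f82668 IH) (Lpr_ft (K46.f506700 IH) (Lpn K46.v1975))))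
theorem f82891 : Led Lsl_bt (LP (LK LD1_c2 LD2_c54 LD3_c42)) = (LP (LK LD1_c1 LD2_c32 LD3_c43)) :=
  Lgr Lrot128 (Lpe (K52.f82890 IH) (Lpe (K52.f72028 IH) (Lpr_cf (K4.f82888 IH) (Lpe (K11.f82664 IH) (Lpe (K46.f82667 IH) (Lpn (LP (LK LD1_c1 LD2_c32 LD3_c43))))))))
theorem f83027 : Led Lsl_ft (LP (LK LD1_c5 LD2_c56 LD3_c48)) = (LP (LK LD1_c2 LD2_c54 LD3_c42)) :=
  Lre_f IH (LK LD1_c5 LD2_c56 LD3_c48) (LK LD1_c2 LD2_c54 LD3_c42) Lrfl Lrfl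
theorem f506701 : Led Lsl_bf (LP (LK LD1_c5 LD2_c56 LD3_c48)) = K46.v1975 :=
  Lgr Lrot61 (Lpr_ft (f83027 IH) (Lpr_bt (f82891 IH) (Lpr_ft (K46.f506700 IH) (Lpn K46.v1975))))
theorem f71368 : Led Lsl_gt (LP (LK LD1_c5 LD2_c56 LD3_c48)) = (LP (LK LD1_c11 LD2_c36 LD3_c57)) :=
  Lre_g IH (LK LD1_c5 LD2_c56 LD3_c48) (LK LD1_c11 LD2_c36 LD3_c57) Lrfl Lrfl
theorem f506708 : Led Lsl_bt (LP (LK LD1_c20 LD2_c35 LD3_c17)) = (LP (LK LD1_c11 LD2_c36 LD3_c57)) :=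
  Lre_b IH (LK LD1_c20 LD2_c35 LD3_c17) (LK LD1_c11 LD2_c36 LD3_c57) Lrfl Lrfl
theorem f773678 : Led Lsl_cf (LP (LK LD1_c12 LD2_c1 LD3_c40)) = (LP (LK LD1_c20 LD2_c35 LD3_c17)) :=
  Lgr Lrot160 (Lpr_gt (f149775 IH) (Lpr_cf (f754357 IH) (Lpe (f754356 IH) (Lpqs (f772352 IH) (Lpe (f766153 IH) (Lpr_ct (f506678 IH) (Lpr_gt (f506677 IH) (Lpr_cf (f506702 IH) (Lpe (f506701 IH) (Lpr_gt (f71368 IH) (Lpe (f506708 IH) (Lpn (LP (LK LD1_c20 LD2_c35 LD3_c17))))))))))))))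
theorem f773679 : Led Lsl_ct (LP (LK LD1_c20 LD2_c35 LD3_c17)) = (LP (LK LD1_c12 LD2_c1 LD3_c40)) :=
  Leop (Lpr_cf (f773678 IH) (Lpn (LP (LK LD1_c20 LD2_c35 LD3_c17))))
theorem seed_1353 : LEOK LG_c (LK LD1_c20 LD2_c35 LD3_c17) :=
  Leoe_c (LK LD1_c20 LD2_c35 LD3_c17) (f773679 IH)
def v18704 : LQ := Led Lsl_gt (LP (LK LD1_c6 LD2_c32 LD3_c15))
theorem f768126 : Led Lsl_gt (LP (LK LD1_c6 LD2_c32 LD3_c15)) = v18704 :=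
  Lrfl
theorem f648893 : Led Lsl_et (LP (LK LD1_c6 LD2_c32 LD3_c15)) = (LP (LK LD1_c3 LD2_c14 LD3_c17)) :=
  Lre_e IH (LK LD1_c6 LD2_c32 LD3_c15) (LK LD1_c3 LD2_c14 LD3_c17) Lrfl Lrfl
def v18706 : LQ := Led Lsl_dt (LP (LK LD1_c6 LD2_c32 LD3_c15))
theorem f768128 : Led Lsl_dt (LP (LK LD1_c6 LD2_c32 LD3_c15)) = v18706 :=
  Lrfl
def v5857 : LQ := Led Lsl_gf (LP (LK LD1_c3 LD2_c14 LD3_c17))
theorem f649841 : Led Lsl_gf (LP (LK LD1_c3 LD2_c14 LD3_c17)) = v5857 :=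
  Lrfl
theorem f771975 : (LP (LK LD1_c6 LD2_c10 LD3_c26)) = v5857 :=
  Lefun (Lecon (Lfl_gt (f754332 IH)) (f771928 IH).symm) (f649841 IH)
theorem f61977 : Led Lsl_dt (LP (LK LD1_c1 LD2_c35 LD3_c10)) = (LP (LK LD1_c3 LD2_c17 LD3_c6)) :=
  Lre_d IH (LK LD1_c1 LD2_c35 LD3_c10) (LK LD1_c3 LD2_c17 LD3_c6) Lrfl Lrfl
def v6070 : LQ := Led Lsl_gf (LP (LK LD1_c3 LD2_c17 LD3_c6))
theorem f650816 : Led Lsl_gf (LP (LK LD1_c3 LD2_c17 LD3_c6)) = v6070 :=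
  Lrfl
theorem f773717 : v18706 = v6070 :=
  (Llr Lrot136 (Lpe (f768128 IH) (Lpr_et (f648893 IH) (Lpr_gf (f649841 IH) (Lpq (f771975 IH) (Lpe (f128906 IH) (Lpe (K32.f129624 IH) (Lpe (K5.f124571 IH) (Lpe (K5.f23586 IH) (Lpr_gf (K5.f125519 IH) (Lpe (K1.f61958 IH) (Lpr_dt (f61977 IH) (Lpr_gf (f650816 IH) (Lpn v6070)))))))))))))).symm
def v18705 : LQ := Led Lsl_gf (LP (LK LD1_c6 LD2_c32 LD3_c15))
theorem f768127 : Led Lsl_gf (LP (LK LD1_c6 LD2_c32 LD3_c15)) = v18705 :=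
  Lrfl
def v17993 : LQ := Led Lsl_dt (LP (LK LD1_c6 LD2_c25 LD3_c39))
theorem f764579 : Led Lsl_dt (LP (LK LD1_c6 LD2_c25 LD3_c39)) = v17993 :=
  Lrfl
theorem f764581 : Led Lsl_df (LP (LK LD1_c6 LD2_c25 LD3_c39)) = v17993 :=
  Lgr Lrot38 (Lpr_dt (f764579 IH) (Lpn v17993))
theorem f773722 : Led Lsl_ef v18705 = v17993 :=
  Lgr Lrot167 (Lpe (f768127 IH) (Lpr_dt (f768128 IH) (Lpqs (f773717 IH) (Lpe (f650816 IH) (Lpe (f61977 IH) (Lpr_et (K1.f61958 IH) (Lpe (K5.f125519 IH) (Lpe (K48.f124556 IH) (Lpr_dt (K48.f207461 IH) (Lpr_gt (K48.f124831 IH) (Lpr_df (f764581 IH) (Lpn v17993))))))))))))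
def v17096 : LQ := Led Lsl_dt (LP (LK LD1_c6 LD2_c11 LD3_c26))
theorem f755079 : Led Lsl_dt (LP (LK LD1_c6 LD2_c11 LD3_c26)) = v17096 :=
  Lrfl
theorem f755081 : Led Lsl_df (LP (LK LD1_c6 LD2_c11 LD3_c26)) = v17096 :=
  Lgr Lrot38 (Lpr_dt (f755079 IH) (Lpn v17096))
theorem f764582 : Led Lsl_ff v17096 = v17993 :=
  Lgr Lrot19 (Lpe (f755081 IH) (Lpe (K48.f663153 IH) (Lpr_dt (f764579 IH) (Lpn v17993))))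
theorem f764584 : Led Lsl_ft v17096 = v17993 :=
  Lgr Lrot48 (Lpr_ff (f764582 IH) (Lpn v17993))
theorem f755083 : Led Lsl_ef K51.v5975 = v17096 :=
  Lgr Lrot17 (Lpe (K51.f650328 IH) (Lpe (K50.f128919 IH) (Lpe (K5.f128909 IH) (Lpr_gf (K5.f77978 IH) (Lpr_df (K4.f118723 IH) (Lpe (K4.f120785 IH) (Lpe (K48.f120809 IH) (Lpr_dt (K49.f207470 IH) (Lpr_gf (K51.f649695 IH) (Lpq (K51.f663300 IH) (Lpr_df (f755081 IH) (Lpn v17096))))))))))))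
theorem f755084 : Led Lsl_et K51.v5975 = v17096 :=
  Lgr Lrot87 (Lpr_ef (f755083 IH) (Lpn v17096))
theorem f702895 : Led Lsl_ft (LP (LK LD1_c6 LD2_c25 LD3_c42)) = K51.v5975 :=
  Lgr Lrot48 (Lpr_ff (K51.f702894 IH) (Lpn K51.v5975))
theorem f773724 : Led Lsl_ft v18705 = (LP (LK LD1_c12 LD2_c23 LD3_c55)) :=
  Lgr Lrot86 (Lpr_ef (f773722 IH) (Lpe (f764584 IH) (Lpe (f755084 IH) (Lpe (f702895 IH) (Lpe (K52.f115521 IH) (Lpn (LP (LK LD1_c12 LD2_c23 LD3_c55))))))))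
theorem f773727 : v18704 = (LP (LK LD1_c12 LD2_c3 LD3_c11)) :=
  (Llr Lrot46 (Lpe (f768126 IH) (Lpr_gf (f768127 IH) (Lpr_ft (f773724 IH) (Lpe (K52.f663482 IH) (Lpn (LP (LK LD1_c12 LD2_c3 LD3_c11)))))))).symm
theorem f773728 : Led Lsl_gt (LP (LK LD1_c6 LD2_c32 LD3_c15)) = (LP (LK LD1_c12 LD2_c3 LD3_c11)) :=
  Leop (Lpq (f773727 IH) (Lpe (f768126 IH) (Lpn (LP (LK LD1_c6 LD2_c32 LD3_c15)))))
theorem seed_1354 : LEOK LG_g (LK LD1_c6 LD2_c32 LD3_c15) :=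
  Leoe_g (LK LD1_c6 LD2_c32 LD3_c15) (f773728 IH)
def v18401 : LQ := Led Lsl_gt (LP (LK LD1_c6 LD2_c29 LD3_c12))
theorem f766778 : Led Lsl_gt (LP (LK LD1_c6 LD2_c29 LD3_c12)) = v18401 :=
  Lrfl
theorem f663486 : Led Lsl_bt (LP (LK LD1_c12 LD2_c3 LD3_c11)) = (LP (LK LD1_c6 LD2_c11 LD3_c42)) :=
  Lre_b IH (LK LD1_c12 LD2_c3 LD3_c11) (LK LD1_c6 LD2_c11 LD3_c42) Lrfl Lrfl
theorem f649114 : Led Lsl_ct (LP (LK LD1_c3 LD2_c12 LD3_c34)) = (LP (LK LD1_c6 LD2_c29 LD3_c12)) :=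
  Lre_c IH (LK LD1_c3 LD2_c12 LD3_c34) (LK LD1_c6 LD2_c29 LD3_c12) Lrfl Lrfl
theorem f773729 : (LP (LK LD1_c12 LD2_c28 LD3_c13)) = v18401 :=
  (Llr Lrot63 (Lpe (K52.f709004 IH) (Lpr_bt (f663486 IH) (Lpq (K56.f753951 IH) (Lpr_gt (K56.f651012 IH) (Lpq (f771922 IH) (Lpe (f652659 IH) (Lpr_ct (K32.f415435 IH) (Lpe (K46.f507516 IH) (Lpr_cf (K48.f442896 IH) (Lpr_bt (K51.f649266 IH) (Lpq (K51.f707603 IH) (Lpe (K51.f649120 IH) (Lpr_ct (f649114 IH) (Lpr_gt (f766778 IH) (Lpn v18401)))))))))))))))).symm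
theorem f773730 : Led Lsl_gt (LP (LK LD1_c6 LD2_c29 LD3_c12)) = (LP (LK LD1_c12 LD2_c28 LD3_c13)) :=
  Leop (Lpqs (f773729 IH) (Lpe (f766778 IH) (Lpn (LP (LK LD1_c6 LD2_c29 LD3_c12)))))
theorem seed_1355 : LEOK LG_g (LK LD1_c6 LD2_c29 LD3_c12) :=
  Leoe_g (LK LD1_c6 LD2_c29 LD3_c12) (f773730 IH)
theorem f90228 : Led Lsl_et (LP (LK LD1_c3 LD2_c23 LD3_c58)) = (LP (LK LD1_c6 LD2_c49 LD3_c35)) :=
  Lgr Lrot71 (Lpe (K7.f7330 IH) (Lpr_ef (K2.f90224 IH) (Lpr_df (K3.f66633 IH) (Lpe (K3.f66584 IH) (Lpe (K3.f66623 IH) (Lpn (LP (LK LD1_c6 LD2_c49 LD3_c35))))))))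
theorem f83933 : Led Lsl_dt (LP (LK LD1_c3 LD2_c23 LD3_c58)) = (LP (LK LD1_c1 LD2_c38 LD3_c15)) :=
  Lre_d IH (LK LD1_c3 LD2_c23 LD3_c58) (LK LD1_c1 LD2_c38 LD3_c15) Lrfl Lrfl
def v18226 : LQ := Led Lsl_gt (LP (LK LD1_c6 LD2_c27 LD3_c30))
theorem f765623 : Led Lsl_gt (LP (LK LD1_c6 LD2_c27 LD3_c30)) = v18226 :=
  Lrfl
theorem f83824 : Led Lsl_ft (LP (LK LD1_c6 LD2_c50 LD3_c13)) = (LP (LK LD1_c3 LD2_c23 LD3_c26)) :=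
  Lre_f IH (LK LD1_c6 LD2_c50 LD3_c13) (LK LD1_c3 LD2_c23 LD3_c26) Lrfl Lrfl
def v17437 : LQ := Led Lsl_ft (LP (LK LD1_c6 LD2_c19 LD3_c6))
theorem f759811 : Led Lsl_ft (LP (LK LD1_c6 LD2_c19 LD3_c6)) = v17437 :=
  Lrfl
theorem f759812 : Led Lsl_ff (LP (LK LD1_c6 LD2_c19 LD3_c6)) = v17437 :=
  Lgr Lrot3 (Lpr_ft (f759811 IH) (Lpn v17437))
theorem f759704 : Led Lsl_et K51.v5369 = K57.v17426 :=
  Lgr Lrot87 (Lpr_ef (K57.f759702 IH) (Lpn K57.v17426))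
def v18523 : LQ := Led Lsl_ft (LP (LK LD1_c6 LD2_c30 LD3_c16))
theorem f767284 : Led Lsl_ft (LP (LK LD1_c6 LD2_c30 LD3_c16)) = v18523 :=
  Lrfl
def v18518 : LQ := Led Lsl_at (LP (LK LD1_c6 LD2_c30 LD3_c16))
theorem f767272 : Led Lsl_at (LP (LK LD1_c6 LD2_c30 LD3_c16)) = v18518 :=
  Lrfl
theorem f767273 : Led Lsl_af (LP (LK LD1_c6 LD2_c30 LD3_c16)) = v18518 :=
  Lgr Lrot0 (Lpr_at (f767272 IH) (Lpn v18518))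
theorem f82761 : Led Lsl_gt (LP (LK LD1_c3 LD2_c13 LD3_c11)) = (LP (LK LD1_c6 LD2_c30 LD3_c16)) :=
  Lre_g IH (LK LD1_c3 LD2_c13 LD3_c11) (LK LD1_c6 LD2_c30 LD3_c16) Lrfl Lrfl
theorem f82763 : Led Lsl_gt (LP (LK LD1_c6 LD2_c30 LD3_c17)) = (LP (LK LD1_c3 LD2_c13 LD3_c11)) :=
  Lre_g IH (LK LD1_c6 LD2_c30 LD3_c17) (LK LD1_c3 LD2_c13 LD3_c11) Lrfl Lrfl
theorem f767274 : Led Lsl_ft (LP (LK LD1_c6 LD2_c30 LD3_c17)) = v18518 :=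
  Lgr Lrot2 (Lpr_gt (f82763 IH) (Lpr_gt (f82761 IH) (Lpr_af (f767273 IH) (Lpn v18518))))
theorem f767285 : Led Lsl_af (LP (LK LD1_c6 LD2_c30 LD3_c17)) = v18523 :=
  Lgr Lrot45 (Lpr_ft (f767274 IH) (Lpe (f767273 IH) (Lpr_ft (f767284 IH) (Lpn v18523))))
def v17428 : LQ := Led Lsl_ft (LP (LK LD1_c6 LD2_c19 LD3_c3))
theorem f759775 : Led Lsl_ft (LP (LK LD1_c6 LD2_c19 LD3_c3)) = v17428 :=
  Lrfl
theorem f759777 : Led Lsl_ff (LP (LK LD1_c6 LD2_c19 LD3_c3)) = v17428 :=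
  Lgr Lrot3 (Lpr_ft (f759775 IH) (Lpn v17428))
theorem f759776 : Led Lsl_df (LP (LK LD1_c6 LD2_c23 LD3_c15)) = v17428 :=
  Lgr Lrot78 (Lpr_ft (K57.f759725 IH) (Lpr_dt (K57.f83717 IH) (Lpr_ft (f759775 IH) (Lpn v17428))))
def v2216 : LQ := Led Lsl_gf (LP (LK LD1_c1 LD2_c37 LD3_c51))
def v8806 : LQ := Led Lsl_dt v2216
theorem f672350 : Led Lsl_dt v2216 = v8806 :=
  Lrfl
theorem f672351 : Led Lsl_df v2216 = v8806 :=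
  Lgr Lrot38 (Lpr_dt (f672350 IH) (Lpn v8806))
theorem f509720 : Led Lsl_gf (LP (LK LD1_c1 LD2_c37 LD3_c51)) = v2216 :=
  Lrfl
theorem f654320 : Led Lsl_et K58.v6530 = K58.v6588 :=
  Lgr Lrot87 (Lpr_ef (K58.f654317 IH) (Lpn K58.v6588))
theorem f672352 : Led Lsl_gt K58.v6588 = v8806 :=
  Lgr Lrot137 (Lpe (f654320 IH) (Lpe (K58.f653818 IH) (Lpe (K2.f23362 IH) (Lpr_df (K2.f76753 IH) (Lpr_et (K2.f66894 IH) (Lpe (K2.f94682 IH) (Lpe (K58.f94676 IH) (Lpe (K58.f94678 IH) (Lpr_gf (f509720 IH) (Lpr_df (f672351 IH) (Lpn v8806)))))))))))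
def v8807 : LQ := Led Lsl_et v2216
theorem f672356 : Led Lsl_et v2216 = v8807 :=
  Lrfl
theorem f759781 : Led Lsl_gt v8807 = v17428 :=
  Lgr Lrot137 (Lpe (f672356 IH) (Lpr_dt (f672350 IH) (Lpe (f672352 IH) (Lpe (K58.f654314 IH) (Lpr_et (f76887 IH) (Lpe (K2.f76825 IH) (Lpe (K2.f76817 IH) (Lpr_dt (K57.f83515 IH) (Lpe (K57.f83511 IH) (Lpr_df (f759776 IH) (Lpn v17428)))))))))))
theorem f82759 : Led Lsl_et (LP (LK LD1_c1 LD2_c32 LD3_c61)) = (LP (LK LD1_c3 LD2_c13 LD3_c11)) :=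
  Lre_e IH (LK LD1_c1 LD2_c32 LD3_c61) (LK LD1_c3 LD2_c13 LD3_c11) Lrfl Lrfl
theorem f527769 : Led Lsl_gf v2216 = v2608 :=
  Lgr Lrot47 (Lpe (f509720 IH) (Lpr_af (f95662 IH) (Lpr_ff (f527764 IH) (Lpn v2608))))
theorem f772024 : v2216 = (LP (LK LD1_c1 LD2_c32 LD3_c61)) :=
  Lefun (Lecon (Lfl_gf (f527769 IH)) (f771977 IH).symm) (K50.f82770 IH)
theorem f772046 : v8807 = (LP (LK LD1_c3 LD2_c13 LD3_c11)) :=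
  Lefun (Lecon (f672356 IH) (f772024 IH)) (f82759 IH)
theorem f772080 : v17428 = (LP (LK LD1_c6 LD2_c30 LD3_c16)) :=
  Lefun (Lecon (f759781 IH) (f772046 IH)) (f82761 IH)
theorem f772118 : (LP (LK LD1_c6 LD2_c19 LD3_c3)) = v18523 :=
  Lefun (Lecon (Lfl_ff (f759777 IH)) (f772080 IH)) (f767284 IH)
theorem f772124 : (LP (LK LD1_c6 LD2_c30 LD3_c17)) = K57.v17426 :=
  Lefun (Lecon (Lfl_af (f767285 IH)) (f772118 IH).symm) (K57.f759699 IH)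
theorem f772134 : Led Lsl_ef v17437 = v18518 :=
  Lgr Lrot21 (Lpe (f759812 IH) (Lpr_et (f68216 IH) (Lpr_ft (K51.f647277 IH) (Lpq (K51.f709639 IH) (Lpqs (K51.f709639 IH) (Lpr_et (f759704 IH) (Lpq (f772124 IH) (Lpr_ft (f767274 IH) (Lpn v18518)))))))))
theorem f772137 : Led Lsl_et v17437 = v18518 :=
  Lgr Lrot87 (Lpr_ef (f772134 IH) (Lpn v18518))
theorem f766944 : Led Lsl_dt v17840 = v17437 :=
  Lgr Lrot60 (Lpr_ff (f766943 IH) (Lpe (f759808 IH) (Lpr_ff (f759812 IH) (Lpn v17437))))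
theorem f772139 : Led Lsl_df (LP (LK LD1_c12 LD2_c19 LD3_c46)) = v18518 :=
  Lgr Lrot70 (Lpe (K57.f434847 IH) (Lpr_dt (K57.f434823 IH) (Lpr_et (f762403 IH) (Lpr_dt (f766944 IH) (Lpr_et (f772137 IH) (Lpn v18518))))))
def v11809 : LQ := Led Lsl_gf K58.v3895
theorem f685950 : Led Lsl_gf K58.v3895 = v11809 :=
  Lrfl
theorem f772147 : v11809 = v17437 :=
  (Llr Lrot138 (Lpe (f685950 IH) (Lpe (K58.f627773 IH) (Lpq (K58.f768751 IH) (Lpe (K58.f653865 IH) (Lpe (K58.f77084 IH) (Lpr_et (K58.f77083 IH) (Lpr_gt (K2.f9805 IH) (Lpe (K2.f77341 IH) (Lpr_dt (K2.f83517 IH) (Lpr_gt (K57.f83541 IH) (Lpr_df (f772139 IH) (Lpe (f772134 IH) (Lpn v17437)))))))))))))).symm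
def v17434 : LQ := Led Lsl_at (LP (LK LD1_c6 LD2_c19 LD3_c6))
theorem f759798 : Led Lsl_at (LP (LK LD1_c6 LD2_c19 LD3_c6)) = v17434 :=
  Lrfl
theorem f759799 : Led Lsl_af (LP (LK LD1_c6 LD2_c19 LD3_c6)) = v17434 :=
  Lgr Lrot0 (Lpr_at (f759798 IH) (Lpn v17434))
def v18522 : LQ := Led Lsl_et (LP (LK LD1_c6 LD2_c30 LD3_c16))
theorem f767282 : Led Lsl_et (LP (LK LD1_c6 LD2_c30 LD3_c16)) = v18522 :=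
  Lrfl
theorem f767283 : Led Lsl_ef (LP (LK LD1_c6 LD2_c30 LD3_c16)) = v18522 :=
  Lgr Lrot88 (Lpr_et (f767282 IH) (Lpn v18522))
theorem f772135 : Led Lsl_at v17437 = v18522 :=
  Lgr Lrot80 (Lpr_ef (f772134 IH) (Lpe (f767272 IH) (Lpr_ef (f767283 IH) (Lpn v18522))))
theorem f772148 : Led Lsl_ff v17434 = v18522 :=
  Lgr Lrot30 (Lpe (f759799 IH) (Lpr_ft (f759811 IH) (Lpq (f772147 IH) (Lpqs (f772147 IH) (Lpr_at (f772135 IH) (Lpn v18522))))))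
def v18448 : LQ := Led Lsl_et (LP (LK LD1_c6 LD2_c29 LD3_c45))
theorem f767013 : Led Lsl_et (LP (LK LD1_c6 LD2_c29 LD3_c45)) = v18448 :=
  Lrfl
theorem f767016 : Led Lsl_ef (LP (LK LD1_c6 LD2_c29 LD3_c45)) = v18448 :=
  Lgr Lrot88 (Lpr_et (f767013 IH) (Lpn v18448))
theorem f68206 : Led Lsl_dt (LP (LK LD1_c6 LD2_c29 LD3_c45)) = (LP (LK LD1_c3 LD2_c12 LD3_c50)) :=
  Lre_d IH (LK LD1_c6 LD2_c29 LD3_c45) (LK LD1_c3 LD2_c12 LD3_c50) Lrfl Lrfl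
theorem f93235 : Led Lsl_et (LP (LK LD1_c3 LD2_c6 LD3_c57)) = (LP (LK LD1_c6 LD2_c19 LD3_c6)) :=
  Lre_e IH (LK LD1_c3 LD2_c6 LD3_c57) (LK LD1_c6 LD2_c19 LD3_c6) Lrfl Lrfl
theorem f759800 : Led Lsl_ef K51.v5371 = v17434 :=
  Lgr Lrot20 (Lpe (K51.f647283 IH) (Lpr_et (f93235 IH) (Lpr_at (f759798 IH) (Lpn v17434))))
theorem f759802 : Led Lsl_et K51.v5371 = v17434 :=
  Lgr Lrot87 (Lpr_ef (f759800 IH) (Lpn v17434))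
theorem f767018 : Led Lsl_dt v17434 = v18448 :=
  Lgr Lrot77 (Lpe (f759802 IH) (Lpqs (K51.f709640 IH) (Lpr_df (K51.f649193 IH) (Lpe (K51.f649191 IH) (Lpe (f68206 IH) (Lpr_ef (f767016 IH) (Lpn v18448)))))))
def v17838 : LQ := Led Lsl_et (LP (LK LD1_c6 LD2_c22 LD3_c56))
theorem f762387 : Led Lsl_et (LP (LK LD1_c6 LD2_c22 LD3_c56)) = v17838 :=
  Lrfl
theorem f762389 : Led Lsl_ef (LP (LK LD1_c6 LD2_c22 LD3_c56)) = v17838 :=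
  Lgr Lrot88 (Lpr_et (f762387 IH) (Lpn v17838))
theorem f762358 : Led Lsl_at (LP (LK LD1_c6 LD2_c22 LD3_c56)) = (LP (LK LD1_c12 LD2_c19 LD3_c2)) :=
  Lgr Lrot100 (Lpr_af (K57.f762356 IH) (Lpn (LP (LK LD1_c12 LD2_c19 LD3_c2))))
theorem f762390 : Led Lsl_at (LP (LK LD1_c6 LD2_c29 LD3_c48)) = v17838 :=
  Lgr Lrot80 (Lpe (f446990 IH) (Lpe (f762358 IH) (Lpr_ef (f762389 IH) (Lpn v17838))))
theorem f434816 : Led Lsl_gt (LP (LK LD1_c6 LD2_c22 LD3_c56)) = (LP (LK LD1_c12 LD2_c19 LD3_c3)) :=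
  Lre_g IH (LK LD1_c6 LD2_c22 LD3_c56) (LK LD1_c12 LD2_c19 LD3_c3) Lrfl Lrfl
theorem f434800 : Led Lsl_ft (LP (LK LD1_c12 LD2_c19 LD3_c3)) = (LP (LK LD1_c6 LD2_c22 LD3_c48)) :=
  Lre_f IH (LK LD1_c12 LD2_c19 LD3_c3) (LK LD1_c6 LD2_c22 LD3_c48) Lrfl Lrfl
theorem f434801 : Led Lsl_ft (LP (LK LD1_c6 LD2_c22 LD3_c48)) = (LP (LK LD1_c12 LD2_c19 LD3_c3)) :=
  Lre_f IH (LK LD1_c6 LD2_c22 LD3_c48) (LK LD1_c12 LD2_c19 LD3_c3) Lrfl Lrfl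
theorem f434802 : Led Lsl_df (LP (LK LD1_c12 LD2_c19 LD3_c3)) = (LP (LK LD1_c12 LD2_c19 LD3_c3)) :=
  Lgr Lrot78 (Lpr_ft (f434800 IH) (Lpr_dt (K57.f434792 IH) (Lpr_ft (f434801 IH) (Lpn (LP (LK LD1_c12 LD2_c19 LD3_c3))))))
theorem f434818 : Led Lsl_gt (LP (LK LD1_c12 LD2_c19 LD3_c3)) = (LP (LK LD1_c6 LD2_c22 LD3_c57)) :=
  Lre_g IH (LK LD1_c12 LD2_c19 LD3_c3) (LK LD1_c6 LD2_c22 LD3_c57) Lrfl Lrfl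
theorem f83578 : Led Lsl_gt (LP (LK LD1_c12 LD2_c19 LD3_c46)) = (LP (LK LD1_c6 LD2_c23 LD3_c17)) :=
  Lre_g IH (LK LD1_c12 LD2_c19 LD3_c46) (LK LD1_c6 LD2_c23 LD3_c17) Lrfl Lrfl
theorem f83545 : Led Lsl_dt (LP (LK LD1_c1 LD2_c38 LD3_c14)) = (LP (LK LD1_c3 LD2_c9 LD3_c16)) :=
  Lgr Lrot44 (Lpe (K9.f77338 IH) (Lpr_df (K6.f83537 IH) (Lpe (K2.f83544 IH) (Lpn (LP (LK LD1_c3 LD2_c9 LD3_c16))))))
theorem f83564 : Led Lsl_ft (LP (LK LD1_c3 LD2_c9 LD3_c16)) = (LP (LK LD1_c6 LD2_c23 LD3_c17)) :=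
  Lre_f IH (LK LD1_c3 LD2_c9 LD3_c16) (LK LD1_c6 LD2_c23 LD3_c17) Lrfl Lrfl
theorem f83565 : Led Lsl_df (LP (LK LD1_c3 LD2_c23 LD3_c55)) = (LP (LK LD1_c6 LD2_c23 LD3_c17)) :=
  Lgr Lrot78 (Lpr_ft (K57.f83563 IH) (Lpr_dt (f83545 IH) (Lpr_ft (f83564 IH) (Lpn (LP (LK LD1_c6 LD2_c23 LD3_c17))))))
theorem f83575 : Led Lsl_et (LP (LK LD1_c6 LD2_c27 LD3_c43)) = (LP (LK LD1_c6 LD2_c23 LD3_c17)) :=
  Lgr Lrot71 (Lpe (K2.f68185 IH) (Lpe (K1.f66919 IH) (Lpe (K2.f76838 IH) (Lpe (K2.f76857 IH) (Lpr_df (f83565 IH) (Lpn (LP (LK LD1_c6 LD2_c23 LD3_c17))))))))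
theorem f66935 : Led Lsl_gt (LP (LK LD1_c3 LD2_c12 LD3_c52)) = (LP (LK LD1_c6 LD2_c29 LD3_c37)) :=
  Lre_g IH (LK LD1_c3 LD2_c12 LD3_c52) (LK LD1_c6 LD2_c29 LD3_c37) Lrfl Lrfl
theorem f762391 : Led Lsl_df (LP (LK LD1_c6 LD2_c29 LD3_c37)) = v17838 :=
  Lgr Lrot168 (Lpe (f66935 IH) (Lpr_df (K2.f68207 IH) (Lpr_et (f83575 IH) (Lpe (f83578 IH) (Lpe (K57.f434845 IH) (Lpr_dt (K57.f434823 IH) (Lpe (f434818 IH) (Lpr_df (f434802 IH) (Lpe (f434816 IH) (Lpr_ef (f762389 IH) (Lpn v17838)))))))))))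
theorem f66746 : Led Lsl_dt (LP (LK LD1_c3 LD2_c12 LD3_c50)) = (LP (LK LD1_c6 LD2_c29 LD3_c45)) :=
  Lre_d IH (LK LD1_c3 LD2_c12 LD3_c50) (LK LD1_c6 LD2_c29 LD3_c45) Lrfl Lrfl
theorem f762394 : Led Lsl_ft (LP (LK LD1_c6 LD2_c29 LD3_c45)) = v17838 :=
  Lgr Lrot54 (Lpe (f66746 IH) (Lpr_ff (K58.f649197 IH) (Lpq (K56.f709726 IH) (Lpqs (K56.f670926 IH) (Lpr_df (f762391 IH) (Lpn v17838))))))
theorem f762395 : Led Lsl_ff (LP (LK LD1_c6 LD2_c29 LD3_c45)) = v17838 :=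
  Lgr Lrot3 (Lpr_ft (f762394 IH) (Lpn v17838))
theorem f766941 : Led Lsl_at (LP (LK LD1_c6 LD2_c29 LD3_c45)) = v18432 :=
  Lgr Lrot66 (Lpr_ff (f762395 IH) (Lpe (f762390 IH) (Lpr_ff (f766940 IH) (Lpn v18432))))
theorem f767017 : Led Lsl_at v17436 = v18448 :=
  Lgr Lrot80 (Lpr_ef (f766939 IH) (Lpe (f766941 IH) (Lpr_ef (f767016 IH) (Lpn v18448))))
def v17756 : LQ := Led Lsl_ft (LP (LK LD1_c6 LD2_c21 LD3_c57))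
theorem f762041 : Led Lsl_ft (LP (LK LD1_c6 LD2_c21 LD3_c57)) = v17756 :=
  Lrfl
theorem f762043 : Led Lsl_ff (LP (LK LD1_c6 LD2_c21 LD3_c57)) = v17756 :=
  Lgr Lrot3 (Lpr_ft (f762041 IH) (Lpn v17756))
def v17753 : LQ := Led Lsl_at (LP (LK LD1_c6 LD2_c21 LD3_c57))
theorem f762027 : Led Lsl_at (LP (LK LD1_c6 LD2_c21 LD3_c57)) = v17753 :=
  Lrfl
theorem f762028 : Led Lsl_af (LP (LK LD1_c6 LD2_c21 LD3_c57)) = v17753 :=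
  Lgr Lrot0 (Lpr_at (f762027 IH) (Lpn v17753))
theorem f438519 : Led Lsl_gt (LP (LK LD1_c3 LD2_c8 LD3_c40)) = (LP (LK LD1_c6 LD2_c21 LD3_c57)) :=
  Lre_g IH (LK LD1_c3 LD2_c8 LD3_c40) (LK LD1_c6 LD2_c21 LD3_c57) Lrfl Lrfl
theorem f762030 : Led Lsl_ft (LP (LK LD1_c6 LD2_c21 LD3_c58)) = v17753 :=
  Lgr Lrot2 (Lpr_gt (K57.f504307 IH) (Lpr_gt (f438519 IH) (Lpr_af (f762028 IH) (Lpn v17753))))
theorem f762032 : Led Lsl_ff (LP (LK LD1_c6 LD2_c21 LD3_c58)) = v17753 :=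
  Lgr Lrot3 (Lpr_ft (f762030 IH) (Lpn v17753))
theorem f762044 : Led Lsl_at (LP (LK LD1_c6 LD2_c21 LD3_c58)) = v17756 :=
  Lgr Lrot66 (Lpr_ff (f762032 IH) (Lpe (f762027 IH) (Lpr_ff (f762043 IH) (Lpn v17756))))
theorem f771552 : v18448 = v17756 :=
  Lefun (Lecon (f767017 IH) (f771541 IH).symm) (f762044 IH)
def v17755 : LQ := Led Lsl_dt (LP (LK LD1_c6 LD2_c21 LD3_c57))
theorem f762037 : Led Lsl_dt (LP (LK LD1_c6 LD2_c21 LD3_c57)) = v17755 :=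
  Lrfl
theorem f772153 : v17755 = v18522 :=
  (Llr Lrot60 (Lpe (f762037 IH) (Lpr_ff (f762043 IH) (Lpq (f771552 IH) (Lpe (f767018 IH) (Lpr_ff (f772148 IH) (Lpn v18522))))))).symm
theorem f505737 : Led Lsl_gt (LP (LK LD1_c6 LD2_c30 LD3_c16)) = (LP (LK LD1_c12 LD2_c29 LD3_c53)) :=
  Lre_g IH (LK LD1_c6 LD2_c30 LD3_c16) (LK LD1_c12 LD2_c29 LD3_c53) Lrfl Lrfl
theorem f505732 : Led Lsl_at (LP (LK LD1_c12 LD2_c29 LD3_c53)) = (LP (LK LD1_c6 LD2_c30 LD3_c19)) :=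
  Lre_a IH (LK LD1_c12 LD2_c29 LD3_c53) (LK LD1_c6 LD2_c30 LD3_c19) Lrfl Lrfl
theorem f505733 : Led Lsl_et (LP (LK LD1_c12 LD2_c25 LD3_c51)) = (LP (LK LD1_c12 LD2_c29 LD3_c53)) :=
  Lgr Lrot123 (Lpe (K58.f446028 IH) (Lpr_ef (f505711 IH) (Lpe (f505732 IH) (Lpn (LP (LK LD1_c12 LD2_c29 LD3_c53))))))
theorem f446039 : Led Lsl_dt (LP (LK LD1_c12 LD2_c25 LD3_c51)) = (LP (LK LD1_c6 LD2_c27 LD3_c3)) :=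
  Lre_d IH (LK LD1_c12 LD2_c25 LD3_c51) (LK LD1_c6 LD2_c27 LD3_c3) Lrfl Lrfl
def v13383 : LQ := Led Lsl_at (LP (LK LD1_c4 LD2_c43 LD3_c34))
theorem f702641 : Led Lsl_at (LP (LK LD1_c4 LD2_c43 LD3_c34)) = v13383 :=
  Lrfl
theorem f702644 : Led Lsl_ff (LP (LK LD1_c6 LD2_c27 LD3_c3)) = v13383 :=
  Lgr Lrot30 (Lpr_at (K58.f505385 IH) (Lpe (K58.f505381 IH) (Lpr_at (f702641 IH) (Lpn v13383))))
theorem f702647 : Led Lsl_ft (LP (LK LD1_c6 LD2_c27 LD3_c3)) = v13383 :=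
  Lgr Lrot48 (Lpr_ff (f702644 IH) (Lpn v13383))
theorem f702642 : Led Lsl_af (LP (LK LD1_c4 LD2_c43 LD3_c34)) = v13383 :=
  Lgr Lrot0 (Lpr_at (f702641 IH) (Lpn v13383))
def v13382 : LQ := Led Lsl_gf (LP (LK LD1_c4 LD2_c43 LD3_c34))
theorem f702640 : Led Lsl_gf (LP (LK LD1_c4 LD2_c43 LD3_c34)) = v13382 :=
  Lrfl
theorem f702649 : Led Lsl_gt (LP (LK LD1_c6 LD2_c27 LD3_c3)) = v13382 :=
  Lgr Lrot5 (Lpr_ft (f702647 IH) (Lpe (f702642 IH) (Lpr_gf (f702640 IH) (Lpn v13382))))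
theorem f762038 : Led Lsl_df (LP (LK LD1_c6 LD2_c21 LD3_c57)) = v17755 :=
  Lgr Lrot38 (Lpr_dt (f762037 IH) (Lpn v17755))
theorem f504775 : Led Lsl_dt (LP (LK LD1_c1 LD2_c30 LD3_c29)) = (LP (LK LD1_c3 LD2_c8 LD3_c40)) :=
  Lre_d IH (LK LD1_c1 LD2_c30 LD3_c29) (LK LD1_c3 LD2_c8 LD3_c40) Lrfl Lrfl
def v5495 : LQ := Led Lsl_et (LP (LK LD1_c3 LD2_c8 LD3_c37))
theorem f647940 : Led Lsl_et (LP (LK LD1_c3 LD2_c8 LD3_c37)) = v5495 :=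
  Lrfl
theorem f647941 : Led Lsl_ef (LP (LK LD1_c3 LD2_c8 LD3_c37)) = v5495 :=
  Lgr Lrot88 (Lpr_et (f647940 IH) (Lpn v5495))
theorem f647944 : Led Lsl_ff (LP (LK LD1_c3 LD2_c8 LD3_c37)) = v5496 :=
  Lgr Lrot3 (Lpr_ft (f647942 IH) (Lpn v5496))
theorem f771457 : (LP (LK LD1_c3 LD2_c8 LD3_c37)) = K58.v6521 :=
  Lefun (Lecon (Lfl_ff (f647944 IH)) (f771451 IH)) (K58.f653752 IH)
theorem f771474 : (LP (LK LD1_c3 LD2_c23 LD3_c27)) = v5495 :=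
  Lefun (Lecon (Lfl_ef (K58.f653754 IH)) (f771457 IH).symm) (f647940 IH)
theorem f90557 : Led Lsl_dt (LP (LK LD1_c3 LD2_c23 LD3_c27)) = (LP (LK LD1_c6 LD2_c50 LD3_c13)) :=
  Lre_d IH (LK LD1_c3 LD2_c23 LD3_c27) (LK LD1_c6 LD2_c50 LD3_c13) Lrfl Lrfl
theorem f772163 : v13382 = (LP (LK LD1_c6 LD2_c50 LD3_c13)) :=
  (Llr Lrot112 (Lpe (f702649 IH) (Lpe (f446039 IH) (Lpr_et (f505733 IH) (Lpe (f505737 IH) (Lpr_ef (f767283 IH) (Lpq (f772153 IH) (Lpe (f762038 IH) (Lpe (f438519 IH) (Lpe (f504775 IH) (Lpe (K57.f79863 IH) (Lpr_ef (f647941 IH) (Lpq (f771474 IH) (Lpr_dt (f90557 IH) (Lpn (LP (LK LD1_c6 LD2_c50 LD3_c13))))))))))))))))).symm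
def v13381 : LQ := Led Lsl_gt (LP (LK LD1_c4 LD2_c43 LD3_c34))
theorem f702637 : Led Lsl_gt (LP (LK LD1_c4 LD2_c43 LD3_c34)) = v13381 :=
  Lrfl
theorem f772167 : (LP (LK LD1_c6 LD2_c49 LD3_c35)) = v13381 :=
  (Llr Lrot26 (Lpr_af (K3.f90317 IH) (Lpe (f83824 IH) (Lpq (f772163 IH) (Lpe (f702640 IH) (Lpr_gt (f702637 IH) (Lpn v13381))))))).symm
def v13384 : LQ := Led Lsl_et (LP (LK LD1_c4 LD2_c43 LD3_c34))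
theorem f702651 : Led Lsl_et (LP (LK LD1_c4 LD2_c43 LD3_c34)) = v13384 :=
  Lrfl
theorem f702654 : Led Lsl_ef (LP (LK LD1_c4 LD2_c43 LD3_c34)) = v13384 :=
  Lgr Lrot88 (Lpr_et (f702651 IH) (Lpn v13384))
theorem f26287 : Led Lsl_bt (LP (LK LD1_c2 LD2_c19 LD3_c43)) = (LP (LK LD1_c4 LD2_c43 LD3_c48)) :=
  Lre_b IH (LK LD1_c2 LD2_c19 LD3_c43) (LK LD1_c4 LD2_c43 LD3_c48) Lrfl Lrfl
theorem f26288 : Led Lsl_df (LP (LK LD1_c4 LD2_c43 LD3_c34)) = (LP (LK LD1_c4 LD2_c43 LD3_c48)) :=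
  Lgr Lrot12 (Lpr_bt (K58.f26286 IH) (Lpr_dt (K24.f26279 IH) (Lpr_bt (f26287 IH) (Lpn (LP (LK LD1_c4 LD2_c43 LD3_c48))))))
theorem f26301 : Led Lsl_dt (LP (LK LD1_c2 LD2_c19 LD3_c41)) = (LP (LK LD1_c4 LD2_c43 LD3_c47)) :=
  Lre_d IH (LK LD1_c2 LD2_c19 LD3_c41) (LK LD1_c4 LD2_c43 LD3_c47) Lrfl Lrfl
theorem f82760 : Led Lsl_dt (LP (LK LD1_c3 LD2_c13 LD3_c10)) = (LP (LK LD1_c1 LD2_c32 LD3_c61)) :=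
  Lre_d IH (LK LD1_c3 LD2_c13 LD3_c10) (LK LD1_c1 LD2_c32 LD3_c61) Lrfl Lrfl
theorem f505716 : Led Lsl_ft (LP (LK LD1_c4 LD2_c43 LD3_c47)) = (LP (LK LD1_c3 LD2_c13 LD3_c10)) :=
  Lgr Lrot54 (Lpe (f26301 IH) (Lpr_ff (K58.f505714 IH) (Lpe (f82760 IH) (Lpn (LP (LK LD1_c3 LD2_c13 LD3_c10))))))
theorem f647958 : Led Lsl_ef (LP (LK LD1_c4 LD2_c43 LD3_c47)) = v5500 :=
  Lgr Lrot21 (Lpr_ft (f505716 IH) (Lpr_et (K46.f82705 IH) (Lpq (K46.f504864 IH) (Lpe (K46.f504787 IH) (Lpr_et (f504784 IH) (Lpr_ft (f647956 IH) (Lpn v5500)))))))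
theorem f702653 : Led Lsl_df v5500 = v13384 :=
  Lgr Lrot70 (Lpe (f647958 IH) (Lpr_dt (f26294 IH) (Lpr_et (K58.f26293 IH) (Lpe (f26288 IH) (Lpr_et (f702651 IH) (Lpn v13384))))))
def v17741 : LQ := Led Lsl_gt (LP (LK LD1_c6 LD2_c21 LD3_c53))
theorem f761986 : Led Lsl_gt (LP (LK LD1_c6 LD2_c21 LD3_c53)) = v17741 :=
  Lrfl
theorem f504819 : Led Lsl_at (LP (LK LD1_c3 LD2_c8 LD3_c41)) = (LP (LK LD1_c6 LD2_c21 LD3_c53)) :=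
  Lre_a IH (LK LD1_c3 LD2_c8 LD3_c41) (LK LD1_c6 LD2_c21 LD3_c53) Lrfl Lrfl
theorem f647959 : Led Lsl_ff (LP (LK LD1_c3 LD2_c8 LD3_c41)) = v5500 :=
  Lgr Lrot3 (Lpr_ft (f647956 IH) (Lpn v5500))
theorem f761990 : Led Lsl_af v5500 = v17743 :=
  Lgr Lrot45 (Lpe (f647959 IH) (Lpr_at (f504819 IH) (Lpr_ft (f761989 IH) (Lpn v17743))))
theorem f761993 : Led Lsl_gt v17741 = v5500 :=
  Lgr Lrot46 (Lpe (f761986 IH) (Lpr_ft (f761989 IH) (Lpe (f761990 IH) (Lpn v5500))))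
theorem f772182 : Led Lsl_dt v18226 = v17741 :=
  Lgr Lrot171 (Lpe (f765623 IH) (Lpe (K2.f68015 IH) (Lpr_dt (K2.f68014 IH) (Lpe (K33.f90608 IH) (Lpe (f83933 IH) (Lpr_et (f90228 IH) (Lpqs (f772167 IH) (Lpe (f702637 IH) (Lpr_ef (f702654 IH) (Lpe (f702653 IH) (Lpe (f761993 IH) (Lpn v17741))))))))))))
theorem f765736 : Led Lsl_ff (LP (LK LD1_c6 LD2_c27 LD3_c41)) = K57.v18246 :=
  Lgr Lrot3 (Lpr_ft (K57.f765734 IH) (Lpn K57.v18246))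
theorem f765765 : K57.v18242 = v18226 :=
  (Llr Lrot26 (Lpe (K57.f765722 IH) (Lpr_ff (f765736 IH) (Lpq (K57.f765754 IH) (Lpr_gt (K2.f68063 IH) (Lpr_gt (f765623 IH) (Lpn v18226))))))).symm
def v17767 : LQ := Led Lsl_ft (LP (LK LD1_c6 LD2_c21 LD3_c61))
theorem f762093 : Led Lsl_ft (LP (LK LD1_c6 LD2_c21 LD3_c61)) = v17767 :=
  Lrfl
theorem f762094 : Led Lsl_af v5499 = v17767 :=
  Lgr Lrot45 (Lpr_ft (f762080 IH) (Lpe (f762079 IH) (Lpr_ft (f762093 IH) (Lpn v17767))))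
theorem f773764 : v17767 = v17741 :=
  (Llr Lrot117 (Lpe (f762094 IH) (Lpq (f771548 IH) (Lpe (f765730 IH) (Lpr_at (K57.f765722 IH) (Lpqs (f765765 IH) (Lpr_dt (f772182 IH) (Lpn v17741)))))))).symm
theorem f762095 : Led Lsl_ff (LP (LK LD1_c6 LD2_c21 LD3_c61)) = v17767 :=
  Lgr Lrot3 (Lpr_ft (f762093 IH) (Lpn v17767))
def v17742 : LQ := Led Lsl_gf (LP (LK LD1_c6 LD2_c21 LD3_c53))
theorem f761987 : Led Lsl_gf (LP (LK LD1_c6 LD2_c21 LD3_c53)) = v17742 :=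
  Lrfl
theorem f761988 : Led Lsl_gt v5500 = v17742 :=
  Lgr Lrot5 (Lpe (f647959 IH) (Lpr_at (f504819 IH) (Lpr_gf (f761987 IH) (Lpn v17742))))
theorem f773765 : v17763 = v17742 :=
  (Llr Lrot26 (Lpe (f762078 IH) (Lpr_ff (f762095 IH) (Lpqs (f773764 IH) (Lpr_gt (f761993 IH) (Lpr_gt (f761988 IH) (Lpn v17742))))))).symm
theorem f773766 : Led Lsl_gt (LP (LK LD1_c6 LD2_c50 LD3_c54)) = (LP (LK LD1_c6 LD2_c21 LD3_c53)) :=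
  Leop (Lpr_gf (f761987 IH) (Lpq (f773765 IH) (Lpq (f771578 IH) (Lpn (LP (LK LD1_c6 LD2_c50 LD3_c54))))))
theorem seed_1356 : LEOK LG_g (LK LD1_c6 LD2_c50 LD3_c54) :=
  Leoe_g (LK LD1_c6 LD2_c50 LD3_c54) (f773766 IH)
theorem f26300 : Led Lsl_et (LP (LK LD1_c4 LD2_c43 LD3_c48)) = (LP (LK LD1_c2 LD2_c19 LD3_c41)) :=
  Lre_e IH (LK LD1_c4 LD2_c43 LD3_c48) (LK LD1_c2 LD2_c19 LD3_c41) Lrfl Lrfl
theorem f504780 : Led Lsl_et (LP (LK LD1_c3 LD2_c8 LD3_c41)) = (LP (LK LD1_c1 LD2_c30 LD3_c29)) :=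
  Lre_e IH (LK LD1_c3 LD2_c8 LD3_c41) (LK LD1_c1 LD2_c30 LD3_c29) Lrfl Lrfl
theorem f82693 : Led Lsl_bt (LP (LK LD1_c3 LD2_c13 LD3_c10)) = (LP (LK LD1_c1 LD2_c33 LD3_c1)) :=
  Lre_b IH (LK LD1_c3 LD2_c13 LD3_c10) (LK LD1_c1 LD2_c33 LD3_c1) Lrfl Lrfl
theorem f82695 : Led Lsl_ef (LP (LK LD1_c3 LD2_c13 LD3_c10)) = (LP (LK LD1_c2 LD2_c18 LD3_c20)) :=
  Lgr Lrot29 (Lpr_bt (f82693 IH) (Lpr_et (K11.f82691 IH) (Lpr_bt (K46.f82694 IH) (Lpn (LP (LK LD1_c2 LD2_c18 LD3_c20))))))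
theorem f647961 : Led Lsl_et (LP (LK LD1_c4 LD2_c43 LD3_c47)) = v5500 :=
  Lgr Lrot69 (Lpr_ff (f505721 IH) (Lpr_ef (f82695 IH) (Lpq (K46.f504864 IH) (Lpe (K46.f504785 IH) (Lpe (f504780 IH) (Lpr_ff (f647959 IH) (Lpn v5500)))))))
theorem f702656 : Led Lsl_dt v5500 = v13384 :=
  Lgr Lrot77 (Lpe (f647961 IH) (Lpe (f26301 IH) (Lpe (f26300 IH) (Lpe (K58.f26277 IH) (Lpr_ef (f702654 IH) (Lpn v13384))))))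
theorem f654284 : Led Lsl_gf (LP (LK LD1_c3 LD2_c23 LD3_c53)) = v6578 :=
  Lgr Lrot76 (Lpe (f654244 IH) (Lpe (f654221 IH) (Lpr_gt (f654283 IH) (Lpn v6578))))
theorem f648001 : Led Lsl_at (LP (LK LD1_c6 LD2_c22 LD3_c0)) = (LP (LK LD1_c12 LD2_c17 LD3_c27)) :=
  Lre_a IH (LK LD1_c6 LD2_c22 LD3_c0) (LK LD1_c12 LD2_c17 LD3_c27) Lrfl Lrfl
theorem f647952 : Led Lsl_dt (LP (LK LD1_c6 LD2_c22 LD3_c0)) = (LP (LK LD1_c3 LD2_c8 LD3_c41)) :=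
  Lre_d IH (LK LD1_c6 LD2_c22 LD3_c0) (LK LD1_c3 LD2_c8 LD3_c41) Lrfl Lrfl
theorem f702657 : Led Lsl_ff (LP (LK LD1_c6 LD2_c22 LD3_c0)) = v13384 :=
  Lgr Lrot19 (Lpr_dt (f647952 IH) (Lpr_ft (f647956 IH) (Lpr_dt (f702656 IH) (Lpn v13384))))
theorem f90594 : Led Lsl_et (LP (LK LD1_c3 LD2_c23 LD3_c56)) = (LP (LK LD1_c6 LD2_c50 LD3_c54)) :=
  Lre_e IH (LK LD1_c3 LD2_c23 LD3_c56) (LK LD1_c6 LD2_c50 LD3_c54) Lrfl Lrfl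
theorem f40476 : Led Lsl_dt (LP (LK LD1_c3 LD2_c23 LD3_c56)) = (LP (LK LD1_c6 LD2_c50 LD3_c53)) :=
  Lre_d IH (LK LD1_c3 LD2_c23 LD3_c56) (LK LD1_c6 LD2_c50 LD3_c53) Lrfl Lrfl
def v4343 : LQ := Led Lsl_gf (LP (LK LD1_c2 LD2_c19 LD3_c41))
theorem f632804 : Led Lsl_gf (LP (LK LD1_c2 LD2_c19 LD3_c41)) = v4343 :=
  Lrfl
theorem f632817 : Led Lsl_gt (LP (LK LD1_c3 LD2_c13 LD3_c8)) = v4343 :=
  Lgr Lrot5 (Lpr_ft (f632810 IH) (Lpe (f632806 IH) (Lpr_gf (f632804 IH) (Lpn v4343))))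
theorem f771569 : (LP (LK LD1_c1 LD2_c49 LD3_c31)) = v4343 :=
  Lefun (Lecon (Lfl_gf (f527759 IH)) (f771547 IH)) (f632817 IH)
theorem f505736 : Led Lsl_et (LP (LK LD1_c6 LD2_c30 LD3_c9)) = (LP (LK LD1_c3 LD2_c13 LD3_c8)) :=
  Lre_e IH (LK LD1_c6 LD2_c30 LD3_c9) (LK LD1_c3 LD2_c13 LD3_c8) Lrfl Lrfl
theorem f632428 : Led Lsl_dt (LP (LK LD1_c6 LD2_c30 LD3_c9)) = (LP (LK LD1_c12 LD2_c29 LD3_c52)) :=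
  Lre_d IH (LK LD1_c6 LD2_c30 LD3_c9) (LK LD1_c12 LD2_c29 LD3_c52) Lrfl Lrfl
theorem f773767 : Led Lsl_gt (LP (LK LD1_c6 LD2_c50 LD3_c53)) = (LP (LK LD1_c12 LD2_c29 LD3_c52)) :=
  Lgr Lrot112 (Lpe (f40476 IH) (Lpr_et (f90594 IH) (Lpqs (f771578 IH) (Lpqs (f773765 IH) (Lpe (f761988 IH) (Lpe (f647961 IH) (Lpr_dt (f26294 IH) (Lpr_gf (f632804 IH) (Lpq (f771569 IH) (Lpe (f85157 IH) (Lpr_gf (f527759 IH) (Lpqs (f771547 IH) (Lpe (f505736 IH) (Lpr_dt (f632428 IH) (Lpn (LP (LK LD1_c12 LD2_c29 LD3_c52)))))))))))))))))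
theorem f82746 : Led Lsl_at (LP (LK LD1_c6 LD2_c30 LD3_c18)) = (LP (LK LD1_c12 LD2_c29 LD3_c52)) :=
  Lre_a IH (LK LD1_c6 LD2_c30 LD3_c18) (LK LD1_c12 LD2_c29 LD3_c52) Lrfl Lrfl
def v18530 : LQ := Led Lsl_ft (LP (LK LD1_c6 LD2_c30 LD3_c18))
theorem f767301 : Led Lsl_ft (LP (LK LD1_c6 LD2_c30 LD3_c18)) = v18530 :=
  Lrfl
theorem f767305 : Led Lsl_ff (LP (LK LD1_c6 LD2_c30 LD3_c18)) = v18530 :=
  Lgr Lrot3 (Lpr_ft (f767301 IH) (Lpn v18530))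
theorem f773769 : Led Lsl_gf (LP (LK LD1_c6 LD2_c50 LD3_c53)) = v18530 :=
  Lgr Lrot47 (Lpr_gt (f773767 IH) (Lpe (f82746 IH) (Lpr_ff (f767305 IH) (Lpn v18530))))
theorem f632403 : Led Lsl_dt (LP (LK LD1_c6 LD2_c21 LD3_c53)) = (LP (LK LD1_c12 LD2_c17 LD3_c27)) :=
  Lre_d IH (LK LD1_c6 LD2_c21 LD3_c53) (LK LD1_c12 LD2_c17 LD3_c27) Lrfl Lrfl
theorem f82747 : Led Lsl_dt (LP (LK LD1_c6 LD2_c30 LD3_c18)) = (LP (LK LD1_c3 LD2_c13 LD3_c11)) :=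
  Lre_d IH (LK LD1_c6 LD2_c30 LD3_c18) (LK LD1_c3 LD2_c13 LD3_c11) Lrfl Lrfl
theorem f505723 : Led Lsl_ft (LP (LK LD1_c3 LD2_c13 LD3_c11)) = (LP (LK LD1_c6 LD2_c30 LD3_c19)) :=
  Lre_f IH (LK LD1_c3 LD2_c13 LD3_c11) (LK LD1_c6 LD2_c30 LD3_c19) Lrfl Lrfl
theorem f767307 : Led Lsl_dt (LP (LK LD1_c6 LD2_c30 LD3_c19)) = v18530 :=
  Lgr Lrot60 (Lpe (f505723 IH) (Lpe (f82747 IH) (Lpr_ff (f767305 IH) (Lpn v18530))))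
def v18188 : LQ := Led Lsl_gf (LP (LK LD1_c6 LD2_c27 LD3_c5))
theorem f765448 : Led Lsl_gf (LP (LK LD1_c6 LD2_c27 LD3_c5)) = v18188 :=
  Lrfl
theorem f771799 : (LP (LK LD1_c6 LD2_c29 LD3_c49)) = v18188 :=
  Lefun (Lecon (Lfl_gt (f767037 IH)) (f771721 IH)) (f765448 IH)
theorem f66913 : Led Lsl_dt (LP (LK LD1_c3 LD2_c12 LD3_c51)) = (LP (LK LD1_c6 LD2_c29 LD3_c48)) :=
  Lre_d IH (LK LD1_c3 LD2_c12 LD3_c51) (LK LD1_c6 LD2_c29 LD3_c48) Lrfl Lrfl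
def v18445 : LQ := Led Lsl_gt (LP (LK LD1_c6 LD2_c29 LD3_c45))
theorem f766999 : Led Lsl_gt (LP (LK LD1_c6 LD2_c29 LD3_c45)) = v18445 :=
  Lrfl
theorem f762388 : Led Lsl_af (LP (LK LD1_c6 LD2_c29 LD3_c48)) = v17838 :=
  Lgr Lrot50 (Lpe (f446988 IH) (Lpe (K57.f762356 IH) (Lpr_et (f762387 IH) (Lpn v17838))))
theorem f767000 : Led Lsl_gf (LP (LK LD1_c6 LD2_c29 LD3_c48)) = v18445 :=
  Lgr Lrot76 (Lpr_af (f762388 IH) (Lpe (f762394 IH) (Lpr_gt (f766999 IH) (Lpn v18445))))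
theorem f773771 : (LP (LK LD1_c12 LD2_c17 LD3_c27)) = v18445 :=
  (Llr Lrot171 (Lpe (f632403 IH) (Lpr_gf (f761987 IH) (Lpq (f773765 IH) (Lpq (f771578 IH) (Lpe (f90594 IH) (Lpr_dt (f40476 IH) (Lpr_gf (f773769 IH) (Lpe (f767307 IH) (Lpe (f505711 IH) (Lpr_gf (f765448 IH) (Lpq (f771799 IH) (Lpe (K58.f446992 IH) (Lpr_dt (f66913 IH) (Lpr_gf (f767000 IH) (Lpn v18445)))))))))))))))).symm
def v18446 : LQ := Led Lsl_gf (LP (LK LD1_c6 LD2_c29 LD3_c45))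
theorem f767002 : Led Lsl_gf (LP (LK LD1_c6 LD2_c29 LD3_c45)) = v18446 :=
  Lrfl
theorem f773827 : v13384 = v18446 :=
  (Llr Lrot52 (Lpe (f702657 IH) (Lpr_at (f648001 IH) (Lpqs (f773771 IH) (Lpe (f766999 IH) (Lpr_gf (f767002 IH) (Lpn v18446))))))).symm
theorem f773828 : Led Lsl_gf v8822 = K51.v5750 :=
  Lgr Lrot138 (Lpe (f672407 IH) (Lpe (f654284 IH) (Lpe (K58.f76844 IH) (Lpr_et (K58.f76890 IH) (Lpqs (f771543 IH) (Lpe (f702820 IH) (Lpr_ef (f647958 IH) (Lpr_dt (f702656 IH) (Lpqs (f773827 IH) (Lpe (f767002 IH) (Lpe (f66746 IH) (Lpr_et (K51.f649191 IH) (Lpn K51.v5750)))))))))))))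
theorem f773829 : Led Lsl_gt v8822 = K58.v17422 :=
  Lgr Lrot46 (Lpr_gf (f773828 IH) (Lpe (K58.f709663 IH) (Lpr_at (K58.f759688 IH) (Lpn K58.v17422))))
def v3431 : LQ := Led Lsl_gt K58.v828
def v10676 : LQ := Led Lsl_dt v3431
theorem f681353 : Led Lsl_dt v3431 = v10676 :=
  Lrfl
def v10678 : LQ := Led Lsl_ft v3431
theorem f681357 : Led Lsl_ft v3431 = v10678 :=
  Lrfl
theorem f681359 : Led Lsl_ff v3431 = v10678 :=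
  Lgr Lrot3 (Lpr_ft (f681357 IH) (Lpn v10678))
def v10673 : LQ := Led Lsl_at v3431
theorem f681345 : Led Lsl_at v3431 = v10673 :=
  Lrfl
theorem f681346 : Led Lsl_af v3431 = v10673 :=
  Lgr Lrot0 (Lpr_at (f681345 IH) (Lpn v10673))
theorem f625625 : Led Lsl_gt K58.v828 = v3431 :=
  Lrfl
theorem f681347 : Led Lsl_ft K58.v3432 = v10673 :=
  Lgr Lrot2 (Lpe (K58.f625626 IH) (Lpr_gt (f625625 IH) (Lpr_af (f681346 IH) (Lpn v10673))))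
theorem f681348 : Led Lsl_ff K58.v3432 = v10673 :=
  Lgr Lrot3 (Lpr_ft (f681347 IH) (Lpn v10673))
theorem f681360 : Led Lsl_at K58.v3432 = v10678 :=
  Lgr Lrot66 (Lpr_ff (f681348 IH) (Lpe (f681345 IH) (Lpr_ff (f681359 IH) (Lpn v10678))))
def v9621 : LQ := Led Lsl_at K58.v2821
theorem f676898 : Led Lsl_at K58.v2821 = v9621 :=
  Lrfl
theorem f769610 : v10678 = v9621 :=
  Lefun (Lecon (f681360 IH) (K58.f769607 IH)) (f676898 IH)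
theorem f676902 : Led Lsl_gt K58.v3890 = v9621 :=
  Lgr Lrot46 (Lpe (K58.f627759 IH) (Lpe (K58.f623416 IH) (Lpr_at (f676898 IH) (Lpn v9621))))
theorem f768765 : v9621 = K58.v2220 :=
  Lefun (Lecon (f676902 IH) (K58.f768758 IH).symm) (Lfl_gf (K58.f625645 IH))
theorem f769646 : Led Lsl_ff K58.v8821 = v10676 :=
  Lgr Lrot19 (Lpe (K58.f672404 IH) (Lpq (f768765 IH) (Lpq (f769610 IH) (Lpe (f681359 IH) (Lpr_dt (f681353 IH) (Lpn v10676))))))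
theorem f769648 : Led Lsl_ft K58.v8821 = v10676 :=
  Lgr Lrot48 (Lpr_ff (f769646 IH) (Lpn v10676))
def v3892 : LQ := Led Lsl_at K58.v1112
def v11797 : LQ := Led Lsl_dt v3892
theorem f685913 : Led Lsl_dt v3892 = v11797 :=
  Lrfl
def v9619 : LQ := Led Lsl_gt K58.v2821
theorem f676895 : Led Lsl_gt K58.v2821 = v9619 :=
  Lrfl
theorem f623419 : Led Lsl_ft K58.v2821 = K58.v1112 :=
  Lgr Lrot48 (Lpr_ff (K58.f623416 IH) (Lpn K58.v1112))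
theorem f627761 : Led Lsl_at K58.v1112 = v3892 :=
  Lrfl
theorem f676896 : Led Lsl_gf v3892 = v9619 :=
  Lgr Lrot76 (Lpe (f627761 IH) (Lpe (f623419 IH) (Lpr_gt (f676895 IH) (Lpn v9619))))
theorem f769608 : K58.v828 = v9619 :=
  Lefun (Lecon (Lfl_gf (K58.f625626 IH)) (K58.f769607 IH)) (f676895 IH)
theorem f769615 : v3892 = v3431 :=
  Lefun (Lecon (Lfl_gf (f676896 IH)) (f769608 IH).symm) (f625625 IH)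
theorem f769619 : v11797 = v10676 :=
  Lefun (Lecon (f685913 IH) (f769615 IH)) (f681353 IH)
theorem f685914 : Led Lsl_af K58.v3894 = v11797 :=
  Lgr Lrot117 (Lpe (K58.f627767 IH) (Lpr_at (f627761 IH) (Lpr_dt (f685913 IH) (Lpn v11797))))
theorem f676918 : Led Lsl_ft K58.v3894 = K58.v9623 :=
  Lgr Lrot48 (Lpr_ff (K58.f676916 IH) (Lpn K58.v9623))
theorem f769649 : Led Lsl_af K58.v8821 = K58.v9623 :=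
  Lgr Lrot45 (Lpr_ft (f769648 IH) (Lpq (f769619 IH) (Lpe (f685914 IH) (Lpr_ft (f676918 IH) (Lpn K58.v9623)))))
def v11804 : LQ := Led Lsl_gt K58.v3894
theorem f685939 : Led Lsl_gt K58.v3894 = v11804 :=
  Lrfl
theorem f769652 : Led Lsl_gf K58.v8821 = v11804 :=
  Lgr Lrot76 (Lpr_af (f769649 IH) (Lpe (f676918 IH) (Lpr_gt (f685939 IH) (Lpn v11804))))
theorem f767042 : Led Lsl_ef K58.v17422 = K58.v18454 :=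
  Lgr Lrot21 (Lpe (K58.f759691 IH) (Lpr_et (K2.f90584 IH) (Lpq (K51.f709667 IH) (Lpe (K58.f649187 IH) (Lpr_et (K58.f446992 IH) (Lpr_ft (K58.f767040 IH) (Lpn K58.v18454)))))))
theorem f767050 : Led Lsl_dt K58.v17857 = K58.v18454 :=
  Lgr Lrot42 (Lpr_df (K58.f767047 IH) (Lpn K58.v18454))
def v18124 : LQ := Led Lsl_dt (LP (LK LD1_c6 LD2_c26 LD3_c31))
theorem f765153 : Led Lsl_dt (LP (LK LD1_c6 LD2_c26 LD3_c31)) = v18124 :=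
  Lrfl
theorem f769668 : K58.v18454 = v18124 :=
  Lefun (Lecon (f767050 IH) (K58.f769667 IH)) (f765153 IH)
theorem f765154 : Led Lsl_df (LP (LK LD1_c6 LD2_c26 LD3_c31)) = v18124 :=
  Lgr Lrot38 (Lpr_dt (f765153 IH) (Lpn v18124))
def v8264 : LQ := Led Lsl_gt K58.v1948
theorem f670556 : Led Lsl_gt K58.v1948 = v8264 :=
  Lrfl
theorem f773830 : Led Lsl_df v11804 = v8264 :=
  Lgr Lrot135 (Lpe (f769652 IH) (Lpe (K58.f672403 IH) (Lpr_et (f672405 IH) (Lpr_gt (f773829 IH) (Lpr_ef (f767042 IH) (Lpqs (f769668 IH) (Lpe (f765154 IH) (Lpr_gt (K58.f504168 IH) (Lpe (K58.f506520 IH) (Lpr_et (K58.f506531 IH) (Lpr_gt (f670556 IH) (Lpn v8264))))))))))))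
theorem f76868 : Led Lsl_et (LP (LK LD1_c1 LD2_c38 LD3_c13)) = (LP (LK LD1_c3 LD2_c23 LD3_c55)) :=
  Lre_e IH (LK LD1_c1 LD2_c38 LD3_c13) (LK LD1_c3 LD2_c23 LD3_c55) Lrfl Lrfl
theorem f773832 : Led Lsl_ef K57.v6505 = v8264 :=
  Lgr Lrot17 (Lpe (K57.f653686 IH) (Lpe (f76868 IH) (Lpr_dt (K2.f76838 IH) (Lpr_gf (K51.f647258 IH) (Lpqs (K51.f709639 IH) (Lpr_df (K58.f759690 IH) (Lpe (f773829 IH) (Lpe (f672405 IH) (Lpr_dt (K58.f672403 IH) (Lpr_gf (f769652 IH) (Lpr_df (f773830 IH) (Lpn v8264))))))))))))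
def v6593 : LQ := Led Lsl_et (LP (LK LD1_c3 LD2_c23 LD3_c57))
theorem f654346 : Led Lsl_et (LP (LK LD1_c3 LD2_c23 LD3_c57)) = v6593 :=
  Lrfl
theorem f773833 : Led Lsl_at v6593 = v8264 :=
  Lgr Lrot80 (Lpe (f654346 IH) (Lpr_af (K57.f654337 IH) (Lpqs (K57.f761529 IH) (Lpr_ef (f773832 IH) (Lpn v8264)))))
def v8265 : LQ := Led Lsl_gf K58.v1948
theorem f670557 : Led Lsl_gf K58.v1948 = v8265 :=
  Lrfl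
theorem f773836 : Led Lsl_ff v6593 = v8265 :=
  Lgr Lrot52 (Lpr_at (f773833 IH) (Lpe (f670556 IH) (Lpr_gf (f670557 IH) (Lpn v8265))))
theorem f773838 : Led Lsl_ft v6593 = v8265 :=
  Lgr Lrot48 (Lpr_ff (f773836 IH) (Lpn v8265))
theorem f765745 : Led Lsl_at (LP (LK LD1_c6 LD2_c50 LD3_c54)) = K57.v18248 :=
  Lgr Lrot80 (Lpe (f90594 IH) (Lpr_af (K57.f654328 IH) (Lpqs (K57.f761530 IH) (Lpr_ef (K57.f765744 IH) (Lpn K57.v18248)))))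
theorem f771595 : (LP (LK LD1_c6 LD2_c21 LD3_c61)) = K57.v18248 :=
  Lefun (Lecon (Lfl_af (f762079 IH)) (f771578 IH).symm) (f765745 IH)
theorem f773839 : Led Lsl_ef v17767 = v8265 :=
  Lgr Lrot21 (Lpe (f762095 IH) (Lpqs (f771595 IH) (Lpe (K57.f765744 IH) (Lpq (K57.f761530 IH) (Lpe (K57.f654331 IH) (Lpr_et (f654346 IH) (Lpr_ft (f773838 IH) (Lpn v8265))))))))
theorem f505909 : Led Lsl_et (LP (LK LD1_c3 LD2_c8 LD3_c38)) = (LP (LK LD1_c6 LD2_c21 LD3_c53)) :=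
  Lre_e IH (LK LD1_c3 LD2_c8 LD3_c38) (LK LD1_c6 LD2_c21 LD3_c53) Lrfl Lrfl
theorem f505899 : Led Lsl_ff (LP (LK LD1_c3 LD2_c8 LD3_c40)) = (LP (LK LD1_c4 LD2_c42 LD3_c1)) :=
  Lgr Lrot3 (Lpr_ft (K50.f505892 IH) (Lpn (LP (LK LD1_c4 LD2_c42 LD3_c1))))
theorem f82764 : Led Lsl_gt (LP (LK LD1_c4 LD2_c42 LD3_c1)) = (LP (LK LD1_c9 LD2_c18 LD3_c28)) :=
  Lre_g IH (LK LD1_c4 LD2_c42 LD3_c1) (LK LD1_c9 LD2_c18 LD3_c28) Lrfl Lrfl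
theorem f505901 : Led Lsl_gf (LP (LK LD1_c6 LD2_c21 LD3_c52)) = (LP (LK LD1_c9 LD2_c18 LD3_c28)) :=
  Lgr Lrot76 (Lpe (K46.f504697 IH) (Lpr_ff (f505899 IH) (Lpr_gt (f82764 IH) (Lpn (LP (LK LD1_c9 LD2_c18 LD3_c28))))))
theorem f505511 : Led Lsl_gt (LP (LK LD1_c12 LD2_c29 LD3_c51)) = (LP (LK LD1_c6 LD2_c30 LD3_c19)) :=
  Lre_g IH (LK LD1_c12 LD2_c29 LD3_c51) (LK LD1_c6 LD2_c30 LD3_c19) Lrfl Lrfl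
theorem f82779 : Led Lsl_gt (LP (LK LD1_c3 LD2_c13 LD3_c10)) = (LP (LK LD1_c6 LD2_c30 LD3_c13)) :=
  Lre_g IH (LK LD1_c3 LD2_c13 LD3_c10) (LK LD1_c6 LD2_c30 LD3_c13) Lrfl Lrfl
theorem f702826 : Led Lsl_gt (LP (LK LD1_c6 LD2_c30 LD3_c13)) = v13416 :=
  Lgr Lrot46 (Lpe (f82779 IH) (Lpe (f505721 IH) (Lpr_at (f702821 IH) (Lpn v13416))))
theorem f654228 : Led Lsl_ff (LP (LK LD1_c6 LD2_c50 LD3_c46)) = K58.v6532 :=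
  Lgr Lrot3 (Lpr_ft (f654227 IH) (Lpn K58.v6532))
theorem f654326 : Led Lsl_gt K58.v6532 = (LP (LK LD1_c6 LD2_c49 LD3_c23)) :=
  Lgr Lrot5 (Lpe (f654228 IH) (Lpr_at (f654319 IH) (Lpe (f654318 IH) (Lpn (LP (LK LD1_c6 LD2_c49 LD3_c23))))))
theorem f772039 : (LP (LK LD1_c6 LD2_c30 LD3_c13)) = K58.v6532 :=
  Lefun (Lecon (Lfl_gt (f702826 IH)) (f771987 IH)) (Lfl_gt (f654326 IH))
def v18509 : LQ := Led Lsl_dt (LP (LK LD1_c6 LD2_c30 LD3_c13))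
theorem f767254 : Led Lsl_dt (LP (LK LD1_c6 LD2_c30 LD3_c13)) = v18509 :=
  Lrfl
theorem f772075 : (LP (LK LD1_c6 LD2_c50 LD3_c46)) = v18509 :=
  Lefun (Lecon (Lfl_df (K58.f653825 IH)) (f772039 IH).symm) (f767254 IH)
theorem f701997 : Led Lsl_gt (LP (LK LD1_c6 LD2_c30 LD3_c9)) = (LP (LK LD1_c12 LD2_c29 LD3_c51)) :=
  Lre_g IH (LK LD1_c6 LD2_c30 LD3_c9) (LK LD1_c12 LD2_c29 LD3_c51) Lrfl Lrfl
theorem f772140 : (LP (LK LD1_c12 LD2_c29 LD3_c51)) = v18518 :=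
  (Llr Lrot137 (Lpe (f701997 IH) (Lpe (f505740 IH) (Lpr_dt (K46.f632430 IH) (Lpqs (f771500 IH) (Lpe (f653860 IH) (Lpqs (f772075 IH) (Lpe (f767254 IH) (Lpqs (f772039 IH) (Lpe (K58.f653826 IH) (Lpe (K46.f76865 IH) (Lpe (K2.f76857 IH) (Lpr_dt (K2.f83262 IH) (Lpe (f83578 IH) (Lpr_df (f772139 IH) (Lpn v18518)))))))))))))))).symm
theorem f766946 : Led Lsl_df v17840 = v17437 :=
  Lgr Lrot78 (Lpr_ft (f766945 IH) (Lpe (f759809 IH) (Lpr_ft (f759811 IH) (Lpn v17437))))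
theorem f773774 : (LP (LK LD1_c9 LD2_c18 LD3_c29)) = v17840 :=
  (Llr Lrot112 (Lpe (K50.f701993 IH) (Lpe (K46.f505896 IH) (Lpr_et (f505909 IH) (Lpr_gf (f761987 IH) (Lpq (f773765 IH) (Lpq (f771578 IH) (Lpe (f90594 IH) (Lpr_dt (f40476 IH) (Lpr_gf (f773769 IH) (Lpe (f767307 IH) (Lpe (f505511 IH) (Lpqs (f772140 IH) (Lpe (f772137 IH) (Lpe (f766946 IH) (Lpn v17840)))))))))))))))).symm
theorem f771565 : v17840 = v17753 :=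
  Lefun (Lecon (Lfl_ff (f766943 IH)) (f771541 IH).symm) (f762030 IH)
theorem f773785 : v17756 = (LP (LK LD1_c9 LD2_c18 LD3_c28)) :=
  (Llr Lrot26 (Lpe (f762044 IH) (Lpr_ff (f762032 IH) (Lpq (f771565 IH) (Lpq (f773774 IH) (Lpr_gt (K50.f82762 IH) (Lpr_gt (f82764 IH) (Lpn (LP (LK LD1_c9 LD2_c18 LD3_c28)))))))))).symm
def v11805 : LQ := Led Lsl_gf K58.v3894
theorem f685940 : Led Lsl_gf K58.v3894 = v11805 :=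
  Lrfl
theorem f769650 : Led Lsl_gt K58.v8821 = v11805 :=
  Lgr Lrot5 (Lpr_ft (f769648 IH) (Lpq (f769619 IH) (Lpe (f685914 IH) (Lpr_gf (f685940 IH) (Lpn v11805)))))
theorem f773840 : Led Lsl_df v11805 = v8265 :=
  Lgr Lrot168 (Lpe (f769650 IH) (Lpe (K58.f672403 IH) (Lpr_et (f672405 IH) (Lpr_gf (f773828 IH) (Lpe (K51.f649191 IH) (Lpr_dt (f66746 IH) (Lpr_gf (f767002 IH) (Lpq (f773827 IH) (Lpe (f702656 IH) (Lpe (f761993 IH) (Lpq (f773764 IH) (Lpr_ef (f773839 IH) (Lpn v8265)))))))))))))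
def v11808 : LQ := Led Lsl_gt K58.v3895
theorem f685949 : Led Lsl_gt K58.v3895 = v11808 :=
  Lrfl
theorem f773841 : v17434 = v11808 :=
  (Llr Lrot135 (Lpr_dt (f767018 IH) (Lpqs (f771552 IH) (Lpqs (f773785 IH) (Lpe (f505901 IH) (Lpe (K46.f505896 IH) (Lpr_et (f505909 IH) (Lpr_gt (f761986 IH) (Lpq (f773764 IH) (Lpr_ef (f773839 IH) (Lpe (f773840 IH) (Lpe (f685940 IH) (Lpe (K58.f627765 IH) (Lpr_et (K58.f627769 IH) (Lpr_gt (f685949 IH) (Lpn v11808)))))))))))))))).symm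
def v17068 : LQ := Led Lsl_et (LP (LK LD1_c6 LD2_c11 LD3_c9))
theorem f754893 : Led Lsl_et (LP (LK LD1_c6 LD2_c11 LD3_c9)) = v17068 :=
  Lrfl
theorem f759801 : Led Lsl_bt v17068 = v17434 :=
  Lgr Lrot119 (Lpe (f754893 IH) (Lpr_bf (K56.f647262 IH) (Lpq (K51.f709640 IH) (Lpr_ef (f759800 IH) (Lpn v17434)))))
theorem f502906 : Led Lsl_ct (LP (LK LD1_c3 LD2_c2 LD3_c11)) = (LP (LK LD1_c6 LD2_c11 LD3_c9)) :=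
  Lre_c IH (LK LD1_c3 LD2_c2 LD3_c11) (LK LD1_c6 LD2_c11 LD3_c9) Lrfl Lrfl
theorem f754895 : Led Lsl_cf (LP (LK LD1_c6 LD2_c11 LD3_c10)) = v17068 :=
  Lgr Lrot39 (Lpr_et (K56.f87362 IH) (Lpr_ct (f502906 IH) (Lpr_et (f754893 IH) (Lpn v17068))))
theorem f646579 : Led Lsl_gt (LP (LK LD1_c6 LD2_c11 LD3_c10)) = (LP (LK LD1_c12 LD2_c2 LD3_c40)) :=
  Lre_g IH (LK LD1_c6 LD2_c11 LD3_c10) (LK LD1_c12 LD2_c2 LD3_c40) Lrfl Lrfl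
theorem f686020 : Led Lsl_ct (LP (LK LD1_c4 LD2_c41 LD3_c17)) = K55.v11819 :=
  Lgr Lrot8 (Lpr_gt (K32.f504206 IH) (Lpr_dt (K32.f92141 IH) (Lpr_gt (K32.f68457 IH) (Lpr_dt (K32.f68456 IH) (Lpe (K6.f92125 IH) (Lpe (K31.f79867 IH) (Lpe (K31.f58951 IH) (Lpr_df (K55.f627797 IH) (Lpr_gf (K55.f686017 IH) (Lpn K55.v11819))))))))))
def v5288 : LQ := Led Lsl_bt (LP (LK LD1_c3 LD2_c3 LD3_c2))
theorem f646908 : Led Lsl_bt (LP (LK LD1_c3 LD2_c3 LD3_c2)) = v5288 :=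
  Lrfl
theorem f646909 : Led Lsl_bf (LP (LK LD1_c3 LD2_c3 LD3_c2)) = v5288 :=
  Lgr Lrot24 (Lpr_bt (f646908 IH) (Lpn v5288))
def v6419 : LQ := Led Lsl_bt (LP (LK LD1_c3 LD2_c21 LD3_c35))
theorem f653272 : Led Lsl_bt (LP (LK LD1_c3 LD2_c21 LD3_c35)) = v6419 :=
  Lrfl
theorem f653275 : Led Lsl_ef v5288 = v6419 :=
  Lgr Lrot29 (Lpe (f646909 IH) (Lpe (K29.f416805 IH) (Lpr_bt (f653272 IH) (Lpn v6419))))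
theorem f678593 : Led Lsl_ft K46.v5234 = K35.v3168 :=
  Lgr Lrot86 (Lpe (K46.f646713 IH) (Lpr_ff (K49.f678498 IH) (Lpqs (K49.f678579 IH) (Lpe (K49.f677229 IH) (Lpr_ff (K49.f677235 IH) (Lpqs (K49.f678569 IH) (Lpr_ef (K35.f624110 IH) (Lpn K35.v3168))))))))
theorem f678595 : Led Lsl_af K49.v5233 = K35.v3168 :=
  Lgr Lrot31 (Lpe (K49.f646710 IH) (Lpr_gf (K46.f646711 IH) (Lpr_ft (f678593 IH) (Lpn K35.v3168))))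
theorem f678596 : Led Lsl_at K49.v5233 = K35.v3168 :=
  Lgr Lrot100 (Lpr_af (f678595 IH) (Lpn K35.v3168))
theorem f678597 : Led Lsl_ff K49.v5233 = (LP (LK LD1_c6 LD2_c40 LD3_c55)) :=
  Lgr Lrot52 (Lpr_at (f678596 IH) (Lpe (f663278 IH) (Lpqs (K48.f663197 IH) (Lpr_gf (K49.f678537 IH) (Lpn (LP (LK LD1_c6 LD2_c40 LD3_c55)))))))
theorem f678599 : Led Lsl_ft K49.v5233 = (LP (LK LD1_c6 LD2_c40 LD3_c55)) :=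
  Lgr Lrot48 (Lpr_ff (f678597 IH) (Lpn (LP (LK LD1_c6 LD2_c40 LD3_c55))))
theorem f678576 : K49.v540 = K49.v9698 :=
  Lefun (Lecon (Lfl_ff (K58.f624101 IH)) (K58.f678571 IH).symm) (K49.f677222 IH)
theorem f678601 : Led Lsl_ef (LP (LK LD1_c6 LD2_c11 LD3_c33)) = (LP (LK LD1_c6 LD2_c40 LD3_c55)) :=
  Lgr Lrot21 (Lpe (K49.f678529 IH) (Lpe (K49.f624093 IH) (Lpqs (f678576 IH) (Lpe (K49.f677223 IH) (Lpr_et (K58.f651924 IH) (Lpr_ft (f678599 IH) (Lpn (LP (LK LD1_c6 LD2_c40 LD3_c55)))))))))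
theorem f446189 : Led Lsl_cf (LP (LK LD1_c2 LD2_c20 LD3_c16)) = (LP (LK LD1_c4 LD2_c35 LD3_c43)) :=
  Lgr Lrot11 (Lpr_ct (K32.f446180 IH) (Lpn (LP (LK LD1_c4 LD2_c35 LD3_c43))))
theorem f508117 : Led Lsl_ft (LP (LK LD1_c2 LD2_c20 LD3_c16)) = (LP (LK LD1_c3 LD2_c21 LD3_c35)) :=
  Lgr Lrot4 (Lpr_cf (f446189 IH) (Lpr_ff (K35.f508115 IH) (Lpr_cf (K24.f416660 IH) (Lpn (LP (LK LD1_c3 LD2_c21 LD3_c35))))))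
theorem f653276 : Led Lsl_ff (LP (LK LD1_c4 LD2_c44 LD3_c27)) = v6419 :=
  Lgr Lrot25 (Lpr_bt (K58.f446182 IH) (Lpr_ft (f508117 IH) (Lpr_bt (f653272 IH) (Lpn v6419))))
theorem f653279 : Led Lsl_ft (LP (LK LD1_c4 LD2_c44 LD3_c27)) = v6419 :=
  Lgr Lrot48 (Lpr_ff (f653276 IH) (Lpn v6419))
theorem f768819 : (LP (LK LD1_c6 LD2_c40 LD3_c55)) = v6419 :=
  Lefun (Lecon (f678599 IH) (K58.f768796 IH)) (f653279 IH)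
theorem f768872 : v5288 = (LP (LK LD1_c6 LD2_c11 LD3_c33)) :=
  Lefun (Lecon (Lfl_ef (f653275 IH)) (f768819 IH).symm) (Lfl_ef (f678601 IH))
theorem f773842 : (LP (LK LD1_c12 LD2_c2 LD3_c40)) = K57.v17109 :=
  (Llr Lrot65 (Lpe (f646579 IH) (Lpr_cf (f754895 IH) (Lpr_bt (f759801 IH) (Lpqs (f773841 IH) (Lpe (f685949 IH) (Lpe (K58.f627772 IH) (Lpr_ct (K35.f627796 IH) (Lpr_gf (K55.f686017 IH) (Lpe (f686020 IH) (Lpr_gf (K32.f503561 IH) (Lpr_bf (f646909 IH) (Lpqs (f768872 IH) (Lpr_ct (K57.f755125 IH) (Lpn K57.v17109))))))))))))))).symm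
theorem f755126 : Led Lsl_cf (LP (LK LD1_c6 LD2_c11 LD3_c33)) = K57.v17109 :=
  Lgr Lrot11 (Lpr_ct (K57.f755125 IH) (Lpn K57.v17109))
theorem f773843 : Led Lsl_ct (LP (LK LD1_c12 LD2_c2 LD3_c40)) = (LP (LK LD1_c6 LD2_c11 LD3_c33)) :=
  Leop (Lpr_cf (f755126 IH) (Lpq (f773842 IH) (Lpn (LP (LK LD1_c12 LD2_c2 LD3_c40)))))
theorem seed_1357 : LEOK LG_c (LK LD1_c12 LD2_c2 LD3_c40) :=
  Leoe_c (LK LD1_c12 LD2_c2 LD3_c40) (f773843 IH)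
theorem f125807 : Led Lsl_ct (LP (LK LD1_c4 LD2_c45 LD3_c29)) = (LP (LK LD1_c2 LD2_c20 LD3_c52)) :=
  Lre_c IH (LK LD1_c4 LD2_c45 LD3_c29) (LK LD1_c2 LD2_c20 LD3_c52) Lrfl Lrfl
theorem f78215 : Led Lsl_ct (LP (LK LD1_c9 LD2_c23 LD3_c47)) = (LP (LK LD1_c4 LD2_c45 LD3_c32)) :=
  Lre_c IH (LK LD1_c9 LD2_c23 LD3_c47) (LK LD1_c4 LD2_c45 LD3_c32) Lrfl Lrfl
def v4286 : LQ := Led Lsl_gt (LP (LK LD1_c2 LD2_c18 LD3_c20))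
theorem f632401 : Led Lsl_gt (LP (LK LD1_c2 LD2_c18 LD3_c20)) = v4286 :=
  Lrfl
theorem f453521 : Led Lsl_at (LP (LK LD1_c1 LD2_c30 LD3_c29)) = (LP (LK LD1_c3 LD2_c8 LD3_c38)) :=
  Lre_a IH (LK LD1_c1 LD2_c30 LD3_c29) (LK LD1_c3 LD2_c8 LD3_c38) Lrfl Lrfl
theorem f632402 : Led Lsl_gf (LP (LK LD1_c3 LD2_c8 LD3_c38)) = v4286 :=
  Lgr Lrot76 (Lpe (f453521 IH) (Lpr_ff (K46.f504787 IH) (Lpqs (K46.f504864 IH) (Lpr_gt (f632401 IH) (Lpn v4286)))))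
def v6519 : LQ := Led Lsl_gt (LP (LK LD1_c3 LD2_c23 LD3_c2))
theorem f653749 : Led Lsl_gt (LP (LK LD1_c3 LD2_c23 LD3_c2)) = v6519 :=
  Lrfl
theorem f93286 : Led Lsl_at (LP (LK LD1_c1 LD2_c38 LD3_c1)) = (LP (LK LD1_c3 LD2_c23 LD3_c2)) :=
  Lgr Lrot100 (Lpr_af (K3.f93283 IH) (Lpn (LP (LK LD1_c3 LD2_c23 LD3_c2))))
theorem f93992 : Led Lsl_ft (LP (LK LD1_c3 LD2_c23 LD3_c18)) = (LP (LK LD1_c1 LD2_c38 LD3_c1)) :=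
  Lre_f IH (LK LD1_c3 LD2_c23 LD3_c18) (LK LD1_c1 LD2_c38 LD3_c1) Lrfl Lrfl
theorem f653753 : Led Lsl_af (LP (LK LD1_c3 LD2_c23 LD3_c18)) = K58.v6521 :=
  Lgr Lrot45 (Lpr_ft (f93992 IH) (Lpr_at (f93286 IH) (Lpr_ft (K58.f653752 IH) (Lpn K58.v6521))))
theorem f653756 : Led Lsl_gt v6519 = (LP (LK LD1_c3 LD2_c23 LD3_c18)) :=
  Lgr Lrot46 (Lpe (f653749 IH) (Lpr_ft (K58.f653752 IH) (Lpe (f653753 IH) (Lpn (LP (LK LD1_c3 LD2_c23 LD3_c18))))))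
theorem f672353 : Led Lsl_ef v6519 = v8806 :=
  Lgr Lrot17 (Lpe (f653749 IH) (Lpe (K58.f90237 IH) (Lpr_dt (K3.f90235 IH) (Lpe (K2.f66842 IH) (Lpe (K2.f66840 IH) (Lpe (K2.f94682 IH) (Lpe (K58.f94676 IH) (Lpe (K58.f94678 IH) (Lpr_gf (f509720 IH) (Lpr_df (f672351 IH) (Lpn v8806)))))))))))
theorem f772045 : v8806 = (LP (LK LD1_c3 LD2_c13 LD3_c10)) :=
  Lefun (Lecon (f672350 IH) (f772024 IH)) (f82749 IH)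
theorem f772079 : v6519 = (LP (LK LD1_c2 LD2_c18 LD3_c20)) :=
  Lefun (Lecon (Lfl_ef (f672353 IH)) (f772045 IH)) (K46.f82705 IH)
theorem f772111 : (LP (LK LD1_c3 LD2_c23 LD3_c18)) = v4286 :=
  Lefun (Lecon (f653756 IH) (f772079 IH)) (f632401 IH)
theorem f93983 : Led Lsl_dt (LP (LK LD1_c6 LD2_c49 LD3_c58)) = (LP (LK LD1_c3 LD2_c23 LD3_c18)) :=
  Lre_d IH (LK LD1_c6 LD2_c49 LD3_c58) (LK LD1_c3 LD2_c23 LD3_c18) Lrfl Lrfl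
def v18235 : LQ := Led Lsl_gf (LP (LK LD1_c6 LD2_c27 LD3_c35))
theorem f765670 : Led Lsl_gf (LP (LK LD1_c6 LD2_c27 LD3_c35)) = v18235 :=
  Lrfl
theorem f93944 : Led Lsl_ft (LP (LK LD1_c6 LD2_c49 LD3_c58)) = (LP (LK LD1_c3 LD2_c23 LD3_c17)) :=
  Lre_f IH (LK LD1_c6 LD2_c49 LD3_c58) (LK LD1_c3 LD2_c23 LD3_c17) Lrfl Lrfl
theorem f765671 : Led Lsl_gt (LP (LK LD1_c6 LD2_c49 LD3_c58)) = v18235 :=
  Lgr Lrot5 (Lpr_ft (f93944 IH) (Lpr_at (K58.f93979 IH) (Lpr_gf (f765670 IH) (Lpn v18235))))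
def v11798 : LQ := Led Lsl_et v3892
theorem f685917 : Led Lsl_et v3892 = v11798 :=
  Lrfl
theorem f685919 : Led Lsl_ef v3892 = v11798 :=
  Lgr Lrot88 (Lpr_et (f685917 IH) (Lpn v11798))
theorem f627762 : Led Lsl_af K58.v1112 = v3892 :=
  Lgr Lrot0 (Lpr_at (f627761 IH) (Lpn v3892))
theorem f685920 : Led Lsl_at K58.v3895 = v11798 :=
  Lgr Lrot80 (Lpe (K58.f627769 IH) (Lpr_af (f627762 IH) (Lpr_ef (f685919 IH) (Lpn v11798))))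
theorem f685921 : Led Lsl_df (LP (LK LD1_c6 LD2_c22 LD3_c15)) = v11798 :=
  Lgr Lrot18 (Lpr_at (K58.f506261 IH) (Lpr_dt (K58.f627774 IH) (Lpr_at (f685920 IH) (Lpn v11798))))
theorem f76782 : Led Lsl_et (LP (LK LD1_c6 LD2_c27 LD3_c35)) = (LP (LK LD1_c3 LD2_c11 LD3_c41)) :=
  Lre_e IH (LK LD1_c6 LD2_c27 LD3_c35) (LK LD1_c3 LD2_c11 LD3_c41) Lrfl Lrfl
theorem f90238 : Led Lsl_dt (LP (LK LD1_c3 LD2_c23 LD3_c2)) = (LP (LK LD1_c6 LD2_c27 LD3_c35)) :=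
  Lgr Lrot77 (Lpe (K58.f90237 IH) (Lpr_df (K2.f90230 IH) (Lpe (K2.f17667 IH) (Lpe (K3.f76766 IH) (Lpe (f76782 IH) (Lpn (LP (LK LD1_c6 LD2_c27 LD3_c35))))))))
theorem f23370 : Led Lsl_et (LP (LK LD1_c3 LD2_c23 LD3_c2)) = (LP (LK LD1_c1 LD2_c37 LD3_c57)) :=
  Lre_e IH (LK LD1_c3 LD2_c23 LD3_c2) (LK LD1_c1 LD2_c37 LD3_c57) Lrfl Lrfl
def v10677 : LQ := Led Lsl_et v3431
theorem f681355 : Led Lsl_et v3431 = v10677 :=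
  Lrfl
theorem f681356 : Led Lsl_ef v3431 = v10677 :=
  Lgr Lrot88 (Lpr_et (f681355 IH) (Lpn v10677))
theorem f765672 : Led Lsl_dt v10677 = v18235 :=
  Lgr Lrot136 (Lpe (f681356 IH) (Lpe (f625625 IH) (Lpe (K58.f459601 IH) (Lpr_dt (K2.f23356 IH) (Lpe (K3.f23353 IH) (Lpe (K2.f11879 IH) (Lpe (K2.f11880 IH) (Lpe (f23370 IH) (Lpr_dt (f90238 IH) (Lpr_gf (f765670 IH) (Lpn v18235)))))))))))
theorem f769620 : v11798 = v10677 :=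
  Lefun (Lecon (f685917 IH) (f769615 IH)) (f681355 IH)
theorem f769621 : (LP (LK LD1_c6 LD2_c22 LD3_c15)) = v18235 :=
  Lefun (Lecon (Lfl_df (f685921 IH)) (f769620 IH)) (f765672 IH)
def v17789 : LQ := Led Lsl_ct (LP (LK LD1_c6 LD2_c22 LD3_c15))
theorem f762176 : Led Lsl_ct (LP (LK LD1_c6 LD2_c22 LD3_c15)) = v17789 :=
  Lrfl
theorem f773878 : Led Lsl_gf (LP (LK LD1_c9 LD2_c23 LD3_c47)) = v17789 :=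
  Lgr Lrot104 (Lpr_ct (f78215 IH) (Lpe (K3.f78207 IH) (Lpe (f125807 IH) (Lpq (K58.f770680 IH) (Lpe (K58.f701968 IH) (Lpe (K58.f505906 IH) (Lpr_gf (f632402 IH) (Lpq (f772111 IH) (Lpe (f93983 IH) (Lpr_gt (f765671 IH) (Lpq (f769621 IH) (Lpr_ct (f762176 IH) (Lpn v17789)))))))))))))
theorem f93342 : Led Lsl_ct (LP (LK LD1_c6 LD2_c49 LD3_c56)) = (LP (LK LD1_c13 LD2_c1 LD3_c12)) :=
  Lre_c IH (LK LD1_c6 LD2_c49 LD3_c56) (LK LD1_c13 LD2_c1 LD3_c12) Lrfl Lrfl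
theorem f769631 : Led Lsl_af (LP (LK LD1_c9 LD2_c18 LD3_c41)) = (LP (LK LD1_c13 LD2_c1 LD3_c12)) :=
  Lgr Lrot68 (Lpr_ct (K58.f152239 IH) (Lpr_at (K58.f702063 IH) (Lpqs (K58.f768737 IH) (Lpr_ct (f93342 IH) (Lpn (LP (LK LD1_c13 LD2_c1 LD3_c12)))))))
theorem f762178 : Led Lsl_cf (LP (LK LD1_c6 LD2_c22 LD3_c15)) = v17789 :=
  Lgr Lrot11 (Lpr_ct (f762176 IH) (Lpn v17789))
theorem f416994 : Led Lsl_ct (LP (LK LD1_c3 LD2_c8 LD3_c51)) = (LP (LK LD1_c6 LD2_c22 LD3_c16)) :=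
  Lre_c IH (LK LD1_c3 LD2_c8 LD3_c51) (LK LD1_c6 LD2_c22 LD3_c16) Lrfl Lrfl
theorem f762179 : Led Lsl_at (LP (LK LD1_c6 LD2_c22 LD3_c16)) = v17789 :=
  Lgr Lrot107 (Lpe (f416994 IH) (Lpe (K58.f506261 IH) (Lpr_cf (f762178 IH) (Lpn v17789))))
theorem f769638 : Led Lsl_ft v17789 = (LP (LK LD1_c13 LD2_c1 LD3_c12)) :=
  Lgr Lrot101 (Lpe (f762179 IH) (Lpr_ff (K58.f623674 IH) (Lpr_af (f769631 IH) (Lpn (LP (LK LD1_c13 LD2_c1 LD3_c12))))))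
theorem f773879 : Led Lsl_gt (LP (LK LD1_c9 LD2_c23 LD3_c47)) = (LP (LK LD1_c9 LD2_c18 LD3_c41)) :=
  Lgr Lrot46 (Lpr_gf (f773878 IH) (Lpr_ft (f769638 IH) (Lpe (f769631 IH) (Lpn (LP (LK LD1_c9 LD2_c18 LD3_c41))))))
theorem f773880 : Led Lsl_gt (LP (LK LD1_c9 LD2_c23 LD3_c47)) = (LP (LK LD1_c9 LD2_c18 LD3_c41)) :=
  Leop (Lpe (f773879 IH) (Lpn (LP (LK LD1_c9 LD2_c23 LD3_c47))))
theorem seed_1358 : LEOK LG_g (LK LD1_c9 LD2_c23 LD3_c47) :=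
  Leoe_g (LK LD1_c9 LD2_c23 LD3_c47) (f773880 IH)
theorem f106160 : Led Lsl_dt (LP (LK LD1_c9 LD2_c23 LD3_c47)) = (LP (LK LD1_c17 LD2_c20 LD3_c42)) :=
  Lre_d IH (LK LD1_c9 LD2_c23 LD3_c47) (LK LD1_c17 LD2_c20 LD3_c42) Lrfl Lrfl
theorem f702068 : Led Lsl_ft (LP (LK LD1_c6 LD2_c22 LD3_c15)) = K58.v13275 :=
  Lgr Lrot48 (Lpr_ff (K58.f702066 IH) (Lpn K58.v13275))
def v13274 : LQ := Led Lsl_gf (LP (LK LD1_c4 LD2_c42 LD3_c10))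
theorem f702062 : Led Lsl_gf (LP (LK LD1_c4 LD2_c42 LD3_c10)) = v13274 :=
  Lrfl
theorem f702070 : Led Lsl_gt (LP (LK LD1_c6 LD2_c22 LD3_c15)) = v13274 :=
  Lgr Lrot5 (Lpr_ft (f702068 IH) (Lpe (K58.f702064 IH) (Lpr_gf (f702062 IH) (Lpn v13274))))
theorem f769622 : (LP (LK LD1_c6 LD2_c27 LD3_c35)) = v13274 :=
  Lefun (Lecon (Lfl_gf (f765670 IH)) (f769621 IH).symm) (f702070 IH)
theorem f82750 : Led Lsl_dt (LP (LK LD1_c2 LD2_c18 LD3_c20)) = (LP (LK LD1_c4 LD2_c42 LD3_c1)) :=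
  Lre_d IH (LK LD1_c2 LD2_c18 LD3_c20) (LK LD1_c4 LD2_c42 LD3_c1) Lrfl Lrfl
theorem f61035 : Led Lsl_ct (LP (LK LD1_c9 LD2_c18 LD3_c30)) = (LP (LK LD1_c4 LD2_c42 LD3_c1)) :=
  Lre_c IH (LK LD1_c9 LD2_c18 LD3_c30) (LK LD1_c4 LD2_c42 LD3_c1) Lrfl Lrfl
theorem f773881 : Led Lsl_gt (LP (LK LD1_c17 LD2_c20 LD3_c42)) = (LP (LK LD1_c17 LD2_c13 LD3_c42)) :=
  Lgr Lrot49 (Lpe (f106160 IH) (Lpr_gf (f773878 IH) (Lpe (f762176 IH) (Lpr_gt (f702070 IH) (Lpq (f769622 IH) (Lpe (K58.f93981 IH) (Lpr_gt (f653749 IH) (Lpqs (f772079 IH) (Lpr_dt (f82750 IH) (Lpe (f61035 IH) (Lpe (K50.f61036 IH) (Lpn (LP (LK LD1_c17 LD2_c13 LD3_c42))))))))))))))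
theorem f773882 : Led Lsl_gt (LP (LK LD1_c17 LD2_c20 LD3_c42)) = (LP (LK LD1_c17 LD2_c13 LD3_c42)) :=
  Leop (Lpe (f773881 IH) (Lpn (LP (LK LD1_c17 LD2_c20 LD3_c42))))
theorem seed_1359 : LEOK LG_g (LK LD1_c17 LD2_c20 LD3_c42) :=
  Leoe_g (LK LD1_c17 LD2_c20 LD3_c42) (f773882 IH)
def v4345 : LQ := Led Lsl_ct (LP (LK LD1_c2 LD2_c19 LD3_c41))
theorem f632819 : Led Lsl_ct (LP (LK LD1_c2 LD2_c19 LD3_c41)) = v4345 :=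
  Lrfl
theorem f82686 : Led Lsl_ct (LP (LK LD1_c3 LD2_c13 LD3_c9)) = (LP (LK LD1_c1 LD2_c32 LD3_c61)) :=
  Lre_c IH (LK LD1_c3 LD2_c13 LD3_c9) (LK LD1_c1 LD2_c32 LD3_c61) Lrfl Lrfl
theorem f632822 : Led Lsl_ff (LP (LK LD1_c3 LD2_c13 LD3_c9)) = v4345 :=
  Lgr Lrot23 (Lpr_ct (f82686 IH) (Lpe (K58.f505714 IH) (Lpr_ct (f632819 IH) (Lpn v4345))))
theorem f505690 : Led Lsl_bt (LP (LK LD1_c3 LD2_c13 LD3_c9)) = (LP (LK LD1_c6 LD2_c30 LD3_c10)) :=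
  Lre_b IH (LK LD1_c3 LD2_c13 LD3_c9) (LK LD1_c6 LD2_c30 LD3_c10) Lrfl Lrfl
theorem f632823 : Led Lsl_bt (LP (LK LD1_c5 LD2_c52 LD3_c44)) = v4345 :=
  Lgr Lrot35 (Lpr_ff (K55.f505672 IH) (Lpe (f505690 IH) (Lpr_ff (f632822 IH) (Lpn v4345))))
theorem f505680 : Led Lsl_ct (LP (LK LD1_c11 LD2_c31 LD3_c46)) = (LP (LK LD1_c5 LD2_c52 LD3_c42)) :=
  Lre_c IH (LK LD1_c11 LD2_c31 LD3_c46) (LK LD1_c5 LD2_c52 LD3_c42) Lrfl Lrfl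
theorem f505683 : Led Lsl_bt (LP (LK LD1_c11 LD2_c31 LD3_c46)) = (LP (LK LD1_c20 LD2_c28 LD3_c24)) :=
  Lre_b IH (LK LD1_c11 LD2_c31 LD3_c46) (LK LD1_c20 LD2_c28 LD3_c24) Lrfl Lrfl
def v7336 : LQ := Led Lsl_bt (LP (LK LD1_c3 LD2_c45 LD3_c16))
theorem f664620 : Led Lsl_bt (LP (LK LD1_c3 LD2_c45 LD3_c16)) = v7336 :=
  Lrfl
theorem f664621 : Led Lsl_bf (LP (LK LD1_c3 LD2_c45 LD3_c16)) = v7336 :=
  Lgr Lrot24 (Lpr_bt (f664620 IH) (Lpn v7336))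
def v7310 : LQ := Led Lsl_ft (LP (LK LD1_c3 LD2_c44 LD3_c48))
theorem f664454 : Led Lsl_ft (LP (LK LD1_c3 LD2_c44 LD3_c48)) = v7310 :=
  Lrfl
theorem f664457 : Led Lsl_ff (LP (LK LD1_c3 LD2_c44 LD3_c48)) = v7310 :=
  Lgr Lrot3 (Lpr_ft (f664454 IH) (Lpn v7310))
theorem f85086 : Led Lsl_gt (LP (LK LD1_c3 LD2_c45 LD3_c16)) = (LP (LK LD1_c1 LD2_c49 LD3_c46)) :=
  Lre_g IH (LK LD1_c3 LD2_c45 LD3_c16) (LK LD1_c1 LD2_c49 LD3_c46) Lrfl Lrfl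
theorem f664462 : Led Lsl_gf (LP (LK LD1_c3 LD2_c45 LD3_c16)) = v7310 :=
  Lgr Lrot47 (Lpr_gt (f85086 IH) (Lpr_af (K2.f95597 IH) (Lpr_ff (f664457 IH) (Lpn v7310))))
theorem f664460 : Led Lsl_bt v2608 = v7310 :=
  Lgr Lrot35 (Lpe (f527761 IH) (Lpe (f85155 IH) (Lpr_ff (f664457 IH) (Lpn v7310))))
theorem f772029 : v7310 = K50.v5767 :=
  Lefun (Lecon (f664460 IH) (f771977 IH).symm) (K50.f649277 IH)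
theorem f105411 : Led Lsl_ft (LP (LK LD1_c1 LD2_c49 LD3_c54)) = (LP (LK LD1_c3 LD2_c45 LD3_c34)) :=
  Lre_f IH (LK LD1_c1 LD2_c49 LD3_c54) (LK LD1_c3 LD2_c45 LD3_c34) Lrfl Lrfl
theorem f105408 : Led Lsl_at (LP (LK LD1_c3 LD2_c45 LD3_c34)) = (LP (LK LD1_c6 LD2_c10 LD3_c50)) :=
  Lgr Lrot100 (Lpr_af (K56.f105406 IH) (Lpn (LP (LK LD1_c6 LD2_c10 LD3_c50))))
theorem f527898 : Led Lsl_gf (LP (LK LD1_c6 LD2_c10 LD3_c50)) = v2619 :=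
  Lgr Lrot76 (Lpe (f105408 IH) (Lpe (f105411 IH) (Lpr_gt (f527897 IH) (Lpn v2619))))
theorem f754513 : (LP (LK LD1_c3 LD2_c15 LD3_c42)) = v2619 :=
  Lefun (Lecon (Lfl_gt (K56.f650268 IH)) (K56.f754511 IH)) (f527898 IH)
def v2059 : LQ := Led Lsl_bt (LP (LK LD1_c1 LD2_c34 LD3_c34))
theorem f508630 : Led Lsl_bt (LP (LK LD1_c1 LD2_c34 LD3_c34)) = v2059 :=
  Lrfl
def v5968 : LQ := Led Lsl_bt (LP (LK LD1_c3 LD2_c15 LD3_c43))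
theorem f650301 : Led Lsl_bt (LP (LK LD1_c3 LD2_c15 LD3_c43)) = v5968 :=
  Lrfl
theorem f650302 : Led Lsl_bf (LP (LK LD1_c3 LD2_c15 LD3_c43)) = v5968 :=
  Lgr Lrot24 (Lpr_bt (f650301 IH) (Lpn v5968))
def v6047 : LQ := Led Lsl_bt (LP (LK LD1_c3 LD2_c16 LD3_c55))
theorem f650727 : Led Lsl_bt (LP (LK LD1_c3 LD2_c16 LD3_c55)) = v6047 :=
  Lrfl
theorem f651969 : Led Lsl_ff v5968 = v6047 :=
  Lgr Lrot25 (Lpe (f650302 IH) (Lpq (K56.f651812 IH) (Lpe (K56.f650736 IH) (Lpr_bt (f650727 IH) (Lpn v6047)))))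
theorem f651981 : Led Lsl_ft v5968 = v6047 :=
  Lgr Lrot48 (Lpr_ff (f651969 IH) (Lpn v6047))
theorem f508631 : Led Lsl_bf (LP (LK LD1_c1 LD2_c34 LD3_c34)) = v2059 :=
  Lgr Lrot24 (Lpr_bt (f508630 IH) (Lpn v2059))
theorem f650304 : Led Lsl_df v2059 = v5968 :=
  Lgr Lrot12 (Lpe (f508631 IH) (Lpr_dt (K46.f65479 IH) (Lpr_bt (f650301 IH) (Lpn v5968))))
theorem f650305 : Led Lsl_dt v2059 = v5968 :=
  Lgr Lrot42 (Lpr_df (f650304 IH) (Lpn v5968))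
def v5205 : LQ := Led Lsl_bt (LP (LK LD1_c3 LD2_c1 LD3_c57))
theorem f646525 : Led Lsl_bt (LP (LK LD1_c3 LD2_c1 LD3_c57)) = v5205 :=
  Lrfl
theorem f646526 : Led Lsl_bf (LP (LK LD1_c3 LD2_c1 LD3_c57)) = v5205 :=
  Lgr Lrot24 (Lpr_bt (f646525 IH) (Lpn v5205))
theorem f650729 : Led Lsl_df v5205 = v6047 :=
  Lgr Lrot12 (Lpe (f646526 IH) (Lpr_dt (K46.f130813 IH) (Lpr_bt (f650727 IH) (Lpn v6047))))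
theorem f651982 : Led Lsl_ff v2059 = v5205 :=
  Lgr Lrot19 (Lpr_dt (f650305 IH) (Lpr_ft (f651981 IH) (Lpe (f650729 IH) (Lpn v5205))))
def v2079 : LQ := Led Lsl_bt (LP (LK LD1_c1 LD2_c35 LD3_c4))
theorem f508724 : Led Lsl_bt (LP (LK LD1_c1 LD2_c35 LD3_c4)) = v2079 :=
  Lrfl
theorem f508725 : Led Lsl_bf (LP (LK LD1_c1 LD2_c35 LD3_c4)) = v2079 :=
  Lgr Lrot24 (Lpr_bt (f508724 IH) (Lpn v2079))
theorem f650730 : Led Lsl_ef v2079 = v6047 :=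
  Lgr Lrot29 (Lpe (f508725 IH) (Lpr_et (K5.f130816 IH) (Lpr_bt (f650727 IH) (Lpn v6047))))
theorem f650731 : Led Lsl_et v2079 = v6047 :=
  Lgr Lrot87 (Lpr_ef (f650730 IH) (Lpn v6047))
def v4411 : LQ := Led Lsl_bt (LP (LK LD1_c2 LD2_c20 LD3_c58))
theorem f633239 : Led Lsl_bt (LP (LK LD1_c2 LD2_c20 LD3_c58)) = v4411 :=
  Lrfl
theorem f633240 : Led Lsl_bf (LP (LK LD1_c2 LD2_c20 LD3_c58)) = v4411 :=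
  Lgr Lrot24 (Lpr_bt (f633239 IH) (Lpn v4411))
def v13598 : LQ := Led Lsl_bt (LP (LK LD1_c4 LD2_c45 LD3_c52))
theorem f703844 : Led Lsl_bt (LP (LK LD1_c4 LD2_c45 LD3_c52)) = v13598 :=
  Lrfl
theorem f703847 : Led Lsl_ef v4411 = v13598 :=
  Lgr Lrot29 (Lpe (f633240 IH) (Lpr_et (K57.f103359 IH) (Lpr_bt (f703844 IH) (Lpn v13598))))
def v5890 : LQ := Led Lsl_at (LP (LK LD1_c3 LD2_c14 LD3_c31))
theorem f649954 : Led Lsl_at (LP (LK LD1_c3 LD2_c14 LD3_c31)) = v5890 :=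
  Lrfl
theorem f649957 : Led Lsl_ef v4461 = v5890 :=
  Lgr Lrot20 (Lpe (f633513 IH) (Lpe (f68370 IH) (Lpr_at (f649954 IH) (Lpn v5890))))
def v6251 : LQ := Led Lsl_at (LP (LK LD1_c3 LD2_c19 LD3_c25))
theorem f652289 : Led Lsl_at (LP (LK LD1_c3 LD2_c19 LD3_c25)) = v6251 :=
  Lrfl
theorem f506939 : Led Lsl_ff (LP (LK LD1_c1 LD2_c33 LD3_c47)) = K32.v2022 :=
  Lgr Lrot3 (Lpr_ft (K32.f506938 IH) (Lpn K32.v2022))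
theorem f507224 : Led Lsl_af (LP (LK LD1_c1 LD2_c36 LD3_c8)) = (LP (LK LD1_c1 LD2_c33 LD3_c47)) :=
  Lgr Lrot45 (Lpr_ft (K35.f507222 IH) (Lpr_at (K32.f506932 IH) (Lpe (f506939 IH) (Lpn (LP (LK LD1_c1 LD2_c33 LD3_c47))))))
theorem f649955 : Led Lsl_af (LP (LK LD1_c3 LD2_c14 LD3_c31)) = v5890 :=
  Lgr Lrot0 (Lpr_at (f649954 IH) (Lpn v5890))
theorem f652291 : Led Lsl_bf v5890 = v6251 :=
  Lgr Lrot81 (Lpe (f649955 IH) (Lpr_bt (f68368 IH) (Lpe (f507224 IH) (Lpr_bt (K57.f144096 IH) (Lpr_at (f652289 IH) (Lpn v6251))))))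
def v5879 : LQ := Led Lsl_gt (LP (LK LD1_c3 LD2_c14 LD3_c25))
theorem f649928 : Led Lsl_gt (LP (LK LD1_c3 LD2_c14 LD3_c25)) = v5879 :=
  Lrfl
theorem f652294 : Led Lsl_gt v5879 = v6251 :=
  Lgr Lrot46 (Lpe (f649928 IH) (Lpe (K58.f507226 IH) (Lpr_at (f652289 IH) (Lpn v6251))))
theorem f770426 : K49.v7900 = v5879 :=
  Lefun (Lecon (Lfl_gf (K57.f674039 IH)) (K58.f770421 IH)) (f649928 IH)
theorem f770436 : (LP (LK LD1_c4 LD2_c45 LD3_c52)) = v6251 :=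
  Lefun (Lecon (Lfl_gf (K49.f668915 IH)) (f770426 IH)) (f652294 IH)
theorem f770458 : v5890 = v13598 :=
  Lefun (Lecon (Lfl_bf (f652291 IH)) (f770436 IH).symm) (f703844 IH)
theorem f770505 : v4411 = v4461 :=
  Lefun (Lecon (Lfl_ef (f703847 IH)) (f770458 IH).symm) (Lfl_ef (f649957 IH))
theorem f771656 : (LP (LK LD1_c2 LD2_c20 LD3_c58)) = v2079 :=
  Lefun (Lecon (Lfl_bf (f633240 IH)) ((f770505 IH).trans (f771600 IH))) (f508724 IH)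
theorem f771739 : v6047 = (LP (LK LD1_c4 LD2_c45 LD3_c52)) :=
  Lefun (Lecon (f650731 IH) (f771656 IH).symm) (K57.f103359 IH)
theorem f771807 : v5205 = (LP (LK LD1_c4 LD2_c40 LD3_c29)) :=
  Lefun (Lecon (Lfl_df (f650729 IH)) (f771739 IH)) (K49.f103352 IH)
theorem f771894 : v2059 = K58.v13136 :=
  Lefun (Lecon (Lfl_ff (f651982 IH)) (f771807 IH)) (K58.f701290 IH)
theorem f632116 : Led Lsl_ff (LP (LK LD1_c2 LD2_c17 LD3_c19)) = K57.v4237 :=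
  Lgr Lrot3 (Lpr_ft (K57.f632113 IH) (Lpn K57.v4237))
theorem f632118 : Led Lsl_at K57.v1342 = K57.v4237 :=
  Lgr Lrot66 (Lpe (K57.f494986 IH) (Lpe (K49.f103342 IH) (Lpr_ff (f632116 IH) (Lpn K57.v4237))))
theorem f632122 : Led Lsl_gt K57.v1340 = K57.v4237 :=
  Lgr Lrot46 (Lpe (K57.f494982 IH) (Lpr_ft (K57.f494986 IH) (Lpr_at (f632118 IH) (Lpn K57.v4237))))
theorem f701274 : Led Lsl_ff (LP (LK LD1_c4 LD2_c40 LD3_c28)) = K58.v13132 :=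
  Lgr Lrot3 (Lpr_ft (K58.f701270 IH) (Lpn K58.v13132))
theorem f78683 : Led Lsl_ct (LP (LK LD1_c4 LD2_c40 LD3_c28)) = (LP (LK LD1_c2 LD2_c17 LD3_c19)) :=
  Lre_c IH (LK LD1_c4 LD2_c40 LD3_c28) (LK LD1_c2 LD2_c17 LD3_c19) Lrfl Lrfl
theorem f701277 : Led Lsl_ct K57.v4237 = K58.v13132 :=
  Lgr Lrot40 (Lpe (K57.f632113 IH) (Lpe (f78683 IH) (Lpr_ff (f701274 IH) (Lpn K58.v13132))))
def v4397 : LQ := Led Lsl_gf (LP (LK LD1_c2 LD2_c20 LD3_c34))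
theorem f633132 : Led Lsl_gf (LP (LK LD1_c2 LD2_c20 LD3_c34)) = v4397 :=
  Lrfl
theorem f701279 : Led Lsl_gf v4397 = K58.v13132 :=
  Lgr Lrot47 (Lpe (f633132 IH) (Lpe (K7.f103344 IH) (Lpr_ff (f701274 IH) (Lpn K58.v13132))))
theorem f773951 : Led Lsl_cf v4397 = v7336 :=
  Lgr Lrot163 (Lpr_gf (f701279 IH) (Lpe (f701277 IH) (Lpe (f632122 IH) (Lpqs (K58.f758521 IH) (Lpq (f771894 IH) (Lpe (f508630 IH) (Lpr_ct (K49.f65482 IH) (Lpqs (f754513 IH) (Lpe (f527897 IH) (Lpe (K56.f85116 IH) (Lpr_bt (K3.f85072 IH) (Lpe (f85086 IH) (Lpr_bf (f664621 IH) (Lpn v7336))))))))))))))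
theorem f102305 : Led Lsl_ct (LP (LK LD1_c1 LD2_c7 LD3_c36)) = (LP (LK LD1_c2 LD2_c20 LD3_c34)) :=
  Lre_c IH (LK LD1_c1 LD2_c7 LD3_c36) (LK LD1_c2 LD2_c20 LD3_c34) Lrfl Lrfl
theorem f102299 : Led Lsl_bt (LP (LK LD1_c1 LD2_c7 LD3_c36)) = (LP (LK LD1_c2 LD2_c20 LD3_c22)) :=
  Lre_b IH (LK LD1_c1 LD2_c7 LD3_c36) (LK LD1_c2 LD2_c20 LD3_c22) Lrfl Lrfl
def v4388 : LQ := Led Lsl_gt (LP (LK LD1_c2 LD2_c20 LD3_c22))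
theorem f633095 : Led Lsl_gt (LP (LK LD1_c2 LD2_c20 LD3_c22)) = v4388 :=
  Lrfl
theorem f773952 : K58.v5824 = v4388 :=
  (Llr Lrot125 (Lpr_ct (K58.f767176 IH) (Lpe (K58.f767168 IH) (Lpe (K58.f632814 IH) (Lpr_bt (K50.f649277 IH) (Lpq (f772029 IH) (Lpe (f664462 IH) (Lpr_bf (f664621 IH) (Lpe (f773951 IH) (Lpe (f633132 IH) (Lpe (f102305 IH) (Lpr_bt (f102299 IH) (Lpr_gt (f633095 IH) (Lpn v4388)))))))))))))).symm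
theorem f663911 : Led Lsl_ft K58.v5824 = K58.v2017 :=
  Lgr Lrot48 (Lpr_ff (f663910 IH) (Lpn K58.v2017))
theorem f102906 : Led Lsl_af (LP (LK LD1_c0 LD2_c46 LD3_c12)) = (LP (LK LD1_c1 LD2_c7 LD3_c31)) :=
  Lgr Lrot0 (Lpr_at (K54.f102392 IH) (Lpn (LP (LK LD1_c1 LD2_c7 LD3_c31))))
theorem f102315 : Led Lsl_et (LP (LK LD1_c2 LD2_c20 LD3_c22)) = (LP (LK LD1_c1 LD2_c7 LD3_c31)) :=
  Lre_e IH (LK LD1_c2 LD2_c20 LD3_c22) (LK LD1_c1 LD2_c7 LD3_c31) Lrfl Lrfl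
theorem f455010 : Led Lsl_af (LP (LK LD1_c2 LD2_c20 LD3_c22)) = K58.v582 :=
  Lgr Lrot50 (Lpr_et (f102315 IH) (Lpe (f102906 IH) (Lpr_et (K58.f455009 IH) (Lpn K58.v582))))
def v3224 : LQ := Led Lsl_ft K58.v582
theorem f624672 : Led Lsl_ft K58.v582 = v3224 :=
  Lrfl
theorem f624673 : Led Lsl_ff K58.v582 = v3224 :=
  Lgr Lrot3 (Lpr_ft (f624672 IH) (Lpn v3224))
theorem f633099 : Led Lsl_af v3224 = K58.v4390 :=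
  Lgr Lrot45 (Lpe (f624673 IH) (Lpe (f455010 IH) (Lpr_ft (K58.f633098 IH) (Lpn K58.v4390))))
theorem f633103 : Led Lsl_gt v4388 = v3224 :=
  Lgr Lrot46 (Lpe (f633095 IH) (Lpr_ft (K58.f633098 IH) (Lpe (f633099 IH) (Lpn v3224))))
def v4389 : LQ := Led Lsl_gf (LP (LK LD1_c2 LD2_c20 LD3_c22))
theorem f633096 : Led Lsl_gf (LP (LK LD1_c2 LD2_c20 LD3_c22)) = v4389 :=
  Lrfl
theorem f633097 : Led Lsl_gt v3224 = v4389 :=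
  Lgr Lrot5 (Lpe (f624673 IH) (Lpe (f455010 IH) (Lpr_gf (f633096 IH) (Lpn v4389))))
theorem f773953 : v8379 = v4389 :=
  (Llr Lrot26 (Lpe (f671061 IH) (Lpe (f663911 IH) (Lpqs (f773952 IH) (Lpr_gt (f633103 IH) (Lpr_gt (f633097 IH) (Lpn v4389))))))).symm
theorem f435566 : Led Lsl_bt (LP (LK LD1_c2 LD2_c19 LD3_c41)) = (LP (LK LD1_c1 LD2_c7 LD3_c0)) :=
  Lre_b IH (LK LD1_c2 LD2_c19 LD3_c41) (LK LD1_c1 LD2_c7 LD3_c0) Lrfl Lrfl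
theorem f102311 : Led Lsl_ct (LP (LK LD1_c2 LD2_c20 LD3_c22)) = (LP (LK LD1_c4 LD2_c44 LD3_c33)) :=
  Lre_c IH (LK LD1_c2 LD2_c20 LD3_c22) (LK LD1_c4 LD2_c44 LD3_c33) Lrfl Lrfl
def v13498 : LQ := Led Lsl_gt (LP (LK LD1_c4 LD2_c44 LD3_c33))
theorem f703357 : Led Lsl_gt (LP (LK LD1_c4 LD2_c44 LD3_c33)) = v13498 :=
  Lrfl
theorem f773955 : v4345 = v13498 :=
  (Llr Lrot63 (Lpe (f632819 IH) (Lpr_bt (f435566 IH) (Lpe (K24.f435564 IH) (Lpr_bf (K46.f453631 IH) (Lpr_ct (K46.f506705 IH) (Lpr_gt (f648874 IH) (Lpq (f663850 IH) (Lpr_cf (f772261 IH) (Lpe (f772260 IH) (Lpqs (f770704 IH) (Lpqs (f773953 IH) (Lpe (f633096 IH) (Lpr_ct (f102311 IH) (Lpr_gt (f703357 IH) (Lpn v13498)))))))))))))))).symm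
theorem f104490 : Led Lsl_bt (LP (LK LD1_c9 LD2_c21 LD3_c53)) = (LP (LK LD1_c4 LD2_c44 LD3_c33)) :=
  Lre_b IH (LK LD1_c9 LD2_c21 LD3_c53) (LK LD1_c4 LD2_c44 LD3_c33) Lrfl Lrfl
theorem f104491 : Led Lsl_ct (LP (LK LD1_c9 LD2_c21 LD3_c53)) = (LP (LK LD1_c4 LD2_c44 LD3_c50)) :=
  Lre_c IH (LK LD1_c9 LD2_c21 LD3_c53) (LK LD1_c4 LD2_c44 LD3_c50) Lrfl Lrfl
theorem f150031 : Led Lsl_gt (LP (LK LD1_c9 LD2_c22 LD3_c17)) = (LP (LK LD1_c4 LD2_c44 LD3_c50)) :=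
  Lre_g IH (LK LD1_c9 LD2_c22 LD3_c17) (LK LD1_c4 LD2_c44 LD3_c50) Lrfl Lrfl
theorem f703358 : Led Lsl_ct (LP (LK LD1_c17 LD2_c18 LD3_c39)) = (LP (LK LD1_c9 LD2_c22 LD3_c17)) :=
  Lre_c IH (LK LD1_c17 LD2_c18 LD3_c39) (LK LD1_c9 LD2_c22 LD3_c17) Lrfl Lrfl
theorem f773957 : Led Lsl_gt (LP (LK LD1_c20 LD2_c28 LD3_c24)) = (LP (LK LD1_c17 LD2_c18 LD3_c39)) :=
  Lgr Lrot82 (Lpe (f505683 IH) (Lpr_ct (f505680 IH) (Lpe (K53.f56725 IH) (Lpe (K55.f436289 IH) (Lpr_bt (f632823 IH) (Lpqs (f773955 IH) (Lpe (f703357 IH) (Lpe (f104490 IH) (Lpr_ct (f104491 IH) (Lpe (f150031 IH) (Lpe (f703358 IH) (Lpn (LP (LK LD1_c17 LD2_c18 LD3_c39))))))))))))))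
theorem f773958 : Led Lsl_gt (LP (LK LD1_c20 LD2_c28 LD3_c24)) = (LP (LK LD1_c17 LD2_c18 LD3_c39)) :=
  Leop (Lpe (f773957 IH) (Lpn (LP (LK LD1_c20 LD2_c28 LD3_c24))))
theorem seed_1360 : LEOK LG_g (LK LD1_c20 LD2_c28 LD3_c24) :=
  Leoe_g (LK LD1_c20 LD2_c28 LD3_c24) (f773958 IH)
theorem f653824 : Led Lsl_bf K56.v6127 = K58.v6532 :=
  Lgr Lrot96 (Lpe (K56.f651390 IH) (Lpr_bt (K46.f416427 IH) (Lpr_et (K58.f653823 IH) (Lpn K58.v6532))))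
theorem f664726 : Led Lsl_bf (LP (LK LD1_c6 LD2_c50 LD3_c46)) = K56.v7361 :=
  Lgr Lrot93 (Lpr_dt (K58.f653828 IH) (Lpe (f653824 IH) (Lpr_dt (K56.f664725 IH) (Lpn K56.v7361))))
theorem f771810 : v5968 = K58.v13599 :=
  Lefun (Lecon (Lfl_ff (f651969 IH)) (f771739 IH)) (K58.f703850 IH)
def v6249 : LQ := Led Lsl_gt (LP (LK LD1_c3 LD2_c19 LD3_c25))
theorem f652286 : Led Lsl_gt (LP (LK LD1_c3 LD2_c19 LD3_c25)) = v6249 :=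
  Lrfl
theorem f652287 : Led Lsl_gf K58.v5881 = v6249 :=
  Lgr Lrot76 (Lpe (K58.f649930 IH) (Lpe (K57.f507234 IH) (Lpr_gt (f652286 IH) (Lpn v6249))))
theorem f770440 : (LP (LK LD1_c4 LD2_c45 LD3_c27)) = v6249 :=
  Lefun (Lecon (Lfl_gt (K57.f674042 IH)) ((K58.f758522 IH).symm.trans (K58.f770429 IH))) (f652287 IH)
def v13555 : LQ := Led Lsl_bt (LP (LK LD1_c4 LD2_c45 LD3_c27))
theorem f703670 : Led Lsl_bt (LP (LK LD1_c4 LD2_c45 LD3_c27)) = v13555 :=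
  Lrfl
theorem f703671 : Led Lsl_bf (LP (LK LD1_c4 LD2_c45 LD3_c27)) = v13555 :=
  Lgr Lrot24 (Lpr_bt (f703670 IH) (Lpn v13555))
theorem f633216 : Led Lsl_ct (LP (LK LD1_c9 LD2_c23 LD3_c41)) = (LP (LK LD1_c4 LD2_c45 LD3_c27)) :=
  Lre_c IH (LK LD1_c9 LD2_c23 LD3_c41) (LK LD1_c4 LD2_c45 LD3_c27) Lrfl Lrfl
theorem f633215 : Led Lsl_bt (LP (LK LD1_c17 LD2_c20 LD3_c34)) = (LP (LK LD1_c9 LD2_c23 LD3_c41)) :=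
  Lre_b IH (LK LD1_c17 LD2_c20 LD3_c34) (LK LD1_c9 LD2_c23 LD3_c41) Lrfl Lrfl
theorem f633198 : Led Lsl_ct (LP (LK LD1_c3 LD2_c23 LD3_c43)) = K35.v4408 :=
  Lgr Lrot59 (Lpr_cf (K35.f633194 IH) (Lpn K35.v4408))
theorem f633202 : Led Lsl_bt (LP (LK LD1_c6 LD2_c50 LD3_c41)) = (LP (LK LD1_c3 LD2_c23 LD3_c43)) :=
  Lre_b IH (LK LD1_c6 LD2_c50 LD3_c41) (LK LD1_c3 LD2_c23 LD3_c43) Lrfl Lrfl
theorem f98977 : Led Lsl_bt (LP (LK LD1_c4 LD2_c45 LD3_c26)) = (LP (LK LD1_c9 LD2_c23 LD3_c39)) :=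
  Lre_b IH (LK LD1_c4 LD2_c45 LD3_c26) (LK LD1_c9 LD2_c23 LD3_c39) Lrfl Lrfl
theorem f633203 : Led Lsl_cf (LP (LK LD1_c6 LD2_c50 LD3_c41)) = (LP (LK LD1_c9 LD2_c23 LD3_c39)) :=
  Lgr Lrot97 (Lpr_bt (f633202 IH) (Lpr_ct (f633198 IH) (Lpe (K35.f633191 IH) (Lpr_ct (K54.f98963 IH) (Lpr_bt (f98977 IH) (Lpn (LP (LK LD1_c9 LD2_c23 LD3_c39))))))))
theorem f633208 : Led Lsl_et (LP (LK LD1_c6 LD2_c50 LD3_c41)) = (LP (LK LD1_c13 LD2_c1 LD3_c55)) :=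
  Lre_e IH (LK LD1_c6 LD2_c50 LD3_c41) (LK LD1_c13 LD2_c1 LD3_c55) Lrfl Lrfl
theorem f633209 : Led Lsl_et (LP (LK LD1_c17 LD2_c20 LD3_c34)) = (LP (LK LD1_c9 LD2_c23 LD3_c39)) :=
  Lre_e IH (LK LD1_c17 LD2_c20 LD3_c34) (LK LD1_c9 LD2_c23 LD3_c39) Lrfl Lrfl
theorem f633210 : Led Lsl_ct (LP (LK LD1_c13 LD2_c1 LD3_c55)) = (LP (LK LD1_c17 LD2_c20 LD3_c34)) :=
  Lgr Lrot15 (Lpe (f633208 IH) (Lpr_cf (f633203 IH) (Lpe (f633209 IH) (Lpn (LP (LK LD1_c17 LD2_c20 LD3_c34))))))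
theorem f633214 : Led Lsl_bt (LP (LK LD1_c6 LD2_c50 LD3_c43)) = (LP (LK LD1_c13 LD2_c1 LD3_c55)) :=
  Lre_b IH (LK LD1_c6 LD2_c50 LD3_c43) (LK LD1_c13 LD2_c1 LD3_c55) Lrfl Lrfl
theorem f703672 : Led Lsl_cf (LP (LK LD1_c6 LD2_c50 LD3_c43)) = v13555 :=
  Lgr Lrot97 (Lpr_bt (f633214 IH) (Lpr_ct (f633210 IH) (Lpr_bt (f633215 IH) (Lpr_ct (f633216 IH) (Lpr_bt (f703670 IH) (Lpn v13555))))))
def v18496 : LQ := Led Lsl_ct (LP (LK LD1_c6 LD2_c30 LD3_c8))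
theorem f767204 : Led Lsl_ct (LP (LK LD1_c6 LD2_c30 LD3_c8)) = v18496 :=
  Lrfl
theorem f773979 : Led Lsl_gf (LP (LK LD1_c6 LD2_c50 LD3_c43)) = v18496 :=
  Lgr Lrot129 (Lpr_cf (f703672 IH) (Lpe (f703671 IH) (Lpqs (f770440 IH) (Lpe (f652287 IH) (Lpq (K58.f770429 IH) (Lpq (f771810 IH) (Lpe (f650301 IH) (Lpr_ct (K56.f65480 IH) (Lpr_gt (K56.f754506 IH) (Lpr_cf (K56.f664732 IH) (Lpe (f664726 IH) (Lpr_gt (f653860 IH) (Lpq (f771500 IH) (Lpr_ct (f767204 IH) (Lpn v18496)))))))))))))))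
theorem f82687 : Led Lsl_dt (LP (LK LD1_c6 LD2_c30 LD3_c11)) = (LP (LK LD1_c3 LD2_c13 LD3_c9)) :=
  Lre_d IH (LK LD1_c6 LD2_c30 LD3_c11) (LK LD1_c3 LD2_c13 LD3_c9) Lrfl Lrfl
theorem f82688 : Led Lsl_gt (LP (LK LD1_c12 LD2_c29 LD3_c56)) = (LP (LK LD1_c6 LD2_c30 LD3_c11)) :=
  Lre_g IH (LK LD1_c12 LD2_c29 LD3_c56) (LK LD1_c6 LD2_c30 LD3_c11) Lrfl Lrfl
theorem f773980 : Led Lsl_dt (LP (LK LD1_c6 LD2_c50 LD3_c43)) = (LP (LK LD1_c12 LD2_c29 LD3_c56)) :=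
  Lgr Lrot57 (Lpr_gf (f773979 IH) (Lpe (f767204 IH) (Lpr_gt (f702831 IH) (Lpq (f771543 IH) (Lpr_dt (K58.f654314 IH) (Lpq (f772037 IH) (Lpr_gt (f82780 IH) (Lpr_dt (f82760 IH) (Lpe (f82686 IH) (Lpe (f82687 IH) (Lpe (f82688 IH) (Lpn (LP (LK LD1_c12 LD2_c29 LD3_c56))))))))))))))
theorem f773981 : Led Lsl_dt (LP (LK LD1_c6 LD2_c50 LD3_c43)) = (LP (LK LD1_c12 LD2_c29 LD3_c56)) :=
  Leop (Lpe (f773980 IH) (Lpn (LP (LK LD1_c6 LD2_c50 LD3_c43))))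
theorem seed_1361 : LEOK LG_d (LK LD1_c6 LD2_c50 LD3_c43) :=
  Leoe_d (LK LD1_c6 LD2_c50 LD3_c43) (f773981 IH)
def v18738 : LQ := Led Lsl_at (LP (LK LD1_c6 LD2_c32 LD3_c33))
theorem f768267 : Led Lsl_at (LP (LK LD1_c6 LD2_c32 LD3_c33)) = v18738 :=
  Lrfl
theorem f768268 : Led Lsl_af (LP (LK LD1_c6 LD2_c32 LD3_c33)) = v18738 :=
  Lgr Lrot0 (Lpr_at (f768267 IH) (Lpn v18738))
def v5883 : LQ := Led Lsl_gf (LP (LK LD1_c3 LD2_c14 LD3_c26))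
theorem f649940 : Led Lsl_gf (LP (LK LD1_c3 LD2_c14 LD3_c26)) = v5883 :=
  Lrfl
theorem f768269 : Led Lsl_ft v5883 = v18738 :=
  Lgr Lrot2 (Lpe (f649940 IH) (Lpr_gt (K58.f442898 IH) (Lpr_af (f768268 IH) (Lpn v18738))))
theorem f133199 : Led Lsl_dt (LP (LK LD1_c2 LD2_c21 LD3_c7)) = (LP (LK LD1_c4 LD2_c46 LD3_c14)) :=
  Lre_d IH (LK LD1_c2 LD2_c21 LD3_c7) (LK LD1_c4 LD2_c46 LD3_c14) Lrfl Lrfl
theorem f133212 : Led Lsl_af (LP (LK LD1_c2 LD2_c20 LD3_c43)) = (LP (LK LD1_c1 LD2_c7 LD3_c51)) :=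
  Lgr Lrot0 (Lpr_at (K5.f133207 IH) (Lpn (LP (LK LD1_c1 LD2_c7 LD3_c51))))
theorem f439076 : Led Lsl_ft (LP (LK LD1_c2 LD2_c21 LD3_c7)) = (LP (LK LD1_c1 LD2_c7 LD3_c51)) :=
  Lre_f IH (LK LD1_c2 LD2_c21 LD3_c7) (LK LD1_c1 LD2_c7 LD3_c51) Lrfl Lrfl
theorem f633168 : Led Lsl_gt (LP (LK LD1_c2 LD2_c21 LD3_c7)) = K58.v4405 :=
  Lgr Lrot5 (Lpr_ft (f439076 IH) (Lpe (f133212 IH) (Lpr_gf (K58.f633167 IH) (Lpn K58.v4405))))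
def v6298 : LQ := Led Lsl_gt (LP (LK LD1_c3 LD2_c20 LD3_c2))
theorem f652631 : Led Lsl_gt (LP (LK LD1_c3 LD2_c20 LD3_c2)) = v6298 :=
  Lrfl
theorem f769816 : (LP (LK LD1_c4 LD2_c45 LD3_c15)) = v6298 :=
  Lefun (Lecon (Lfl_gf (K58.f703552 IH)) (K58.f769814 IH).symm) (f652631 IH)
theorem f102130 : Led Lsl_ct (LP (LK LD1_c4 LD2_c45 LD3_c15)) = (LP (LK LD1_c6 LD2_c17 LD3_c15)) :=
  Lgr Lrot59 (Lpr_cf (K58.f102123 IH) (Lpn (LP (LK LD1_c6 LD2_c17 LD3_c15))))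
theorem f102226 : Led Lsl_et (LP (LK LD1_c9 LD2_c28 LD3_c4)) = (LP (LK LD1_c4 LD2_c47 LD3_c31)) :=
  Lre_e IH (LK LD1_c9 LD2_c28 LD3_c4) (LK LD1_c4 LD2_c47 LD3_c31) Lrfl Lrfl
theorem f152828 : Led Lsl_et (LP (LK LD1_c6 LD2_c23 LD3_c54)) = (LP (LK LD1_c12 LD2_c20 LD3_c60)) :=
  Lre_e IH (LK LD1_c6 LD2_c23 LD3_c54) (LK LD1_c12 LD2_c20 LD3_c60) Lrfl Lrfl
theorem f152829 : Led Lsl_cf (LP (LK LD1_c9 LD2_c28 LD3_c4)) = (LP (LK LD1_c12 LD2_c20 LD3_c60)) :=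
  Lgr Lrot39 (Lpr_et (f102226 IH) (Lpr_ct (K7.f152816 IH) (Lpr_et (f152828 IH) (Lpn (LP (LK LD1_c12 LD2_c20 LD3_c60))))))
def v13542 : LQ := Led Lsl_gf (LP (LK LD1_c4 LD2_c45 LD3_c9))
theorem f703523 : Led Lsl_gf (LP (LK LD1_c4 LD2_c45 LD3_c9)) = v13542 :=
  Lrfl
theorem f703524 : Led Lsl_gt (LP (LK LD1_c4 LD2_c46 LD3_c14)) = v13542 :=
  Lgr Lrot5 (Lpr_ft (K50.f79512 IH) (Lpe (K5.f133214 IH) (Lpr_gf (f703523 IH) (Lpn v13542))))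
theorem f674036 : Led Lsl_et (LP (LK LD1_c4 LD2_c45 LD3_c50)) = (LP (LK LD1_c9 LD2_c24 LD3_c16)) :=
  Lre_e IH (LK LD1_c4 LD2_c45 LD3_c50) (LK LD1_c9 LD2_c24 LD3_c16) Lrfl Lrfl
theorem f703784 : Led Lsl_ct K57.v4410 = K58.v13589 :=
  Lgr Lrot59 (Lpr_cf (K58.f703783 IH) (Lpn K58.v13589))
theorem f770483 : K58.v13589 = (LP (LK LD1_c3 LD2_c19 LD3_c23)) :=
  Lefun (Lecon (f703784 IH) ((K58.f758516 IH).symm.trans (K58.f770447 IH))) (K58.f146026 IH)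
theorem f507240 : Led Lsl_et (LP (LK LD1_c6 LD2_c42 LD3_c49)) = (LP (LK LD1_c3 LD2_c19 LD3_c23)) :=
  Lre_e IH (LK LD1_c6 LD2_c42 LD3_c49) (LK LD1_c3 LD2_c19 LD3_c23) Lrfl Lrfl
theorem f774002 : Led Lsl_af (LP (LK LD1_c6 LD2_c42 LD3_c49)) = (LP (LK LD1_c9 LD2_c24 LD3_c16)) :=
  Lgr Lrot50 (Lpr_et (f507240 IH) (Lpq (f770483 IH) (Lpe (K58.f703782 IH) (Lpr_et (f674036 IH) (Lpn (LP (LK LD1_c9 LD2_c24 LD3_c16)))))))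
theorem f774004 : Led Lsl_at (LP (LK LD1_c6 LD2_c42 LD3_c49)) = (LP (LK LD1_c9 LD2_c24 LD3_c16)) :=
  Lgr Lrot100 (Lpr_af (f774002 IH) (Lpn (LP (LK LD1_c9 LD2_c24 LD3_c16))))
theorem f446111 : Led Lsl_gt (LP (LK LD1_c6 LD2_c32 LD3_c32)) = (LP (LK LD1_c12 LD2_c32 LD3_c41)) :=
  Lre_g IH (LK LD1_c6 LD2_c32 LD3_c32) (LK LD1_c12 LD2_c32 LD3_c41) Lrfl Lrfl
theorem f774008 : Led Lsl_gt (LP (LK LD1_c12 LD2_c32 LD3_c41)) = (LP (LK LD1_c9 LD2_c24 LD3_c16)) :=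
  Lgr Lrot46 (Lpe (f446111 IH) (Lpe (K57.f507236 IH) (Lpr_at (f774004 IH) (Lpn (LP (LK LD1_c9 LD2_c24 LD3_c16))))))
def v6019 : LQ := Led Lsl_bt (LP (LK LD1_c3 LD2_c16 LD3_c27))
theorem f650571 : Led Lsl_bt (LP (LK LD1_c3 LD2_c16 LD3_c27)) = v6019 :=
  Lrfl
theorem f650572 : Led Lsl_bf (LP (LK LD1_c3 LD2_c16 LD3_c27)) = v6019 :=
  Lgr Lrot24 (Lpr_bt (f650571 IH) (Lpn v6019))
theorem f632407 : Led Lsl_bf (LP (LK LD1_c3 LD2_c8 LD3_c25)) = K46.v4288 :=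
  Lgr Lrot81 (Lpr_at (K58.f453512 IH) (Lpr_bt (K35.f435557 IH) (Lpqs (K32.f504861 IH) (Lpe (K31.f494695 IH) (Lpr_bt (K46.f82694 IH) (Lpr_at (K46.f632405 IH) (Lpn K46.v4288)))))))
theorem f632429 : Led Lsl_et (LP (LK LD1_c6 LD2_c30 LD3_c8)) = K46.v4288 :=
  Lgr Lrot87 (Lpr_ef (K46.f632408 IH) (Lpn K46.v4288))
theorem f647887 : Led Lsl_bf (LP (LK LD1_c6 LD2_c30 LD3_c8)) = K46.v5485 :=
  Lgr Lrot96 (Lpr_et (f632429 IH) (Lpe (f632407 IH) (Lpr_et (K46.f647885 IH) (Lpn K46.v5485))))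
def v17691 : LQ := Led Lsl_et (LP (LK LD1_c6 LD2_c21 LD3_c24))
theorem f761762 : Led Lsl_et (LP (LK LD1_c6 LD2_c21 LD3_c24)) = v17691 :=
  Lrfl
theorem f761765 : Led Lsl_ef (LP (LK LD1_c6 LD2_c21 LD3_c24)) = v17691 :=
  Lgr Lrot88 (Lpr_et (f761762 IH) (Lpn v17691))
theorem f761767 : Led Lsl_ct K46.v5485 = v17691 :=
  Lgr Lrot15 (Lpe (K46.f647885 IH) (Lpe (f504663 IH) (Lpr_ef (f761765 IH) (Lpn v17691))))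
def v18474 : LQ := Led Lsl_gf (LP (LK LD1_c6 LD2_c29 LD3_c59))
theorem f767117 : Led Lsl_gf (LP (LK LD1_c6 LD2_c29 LD3_c59)) = v18474 :=
  Lrfl
theorem f504971 : Led Lsl_at (LP (LK LD1_c12 LD2_c29 LD3_c27)) = (LP (LK LD1_c6 LD2_c29 LD3_c59)) :=
  Lre_a IH (LK LD1_c12 LD2_c29 LD3_c27) (LK LD1_c6 LD2_c29 LD3_c59) Lrfl Lrfl
theorem f504983 : Led Lsl_ct (LP (LK LD1_c12 LD2_c29 LD3_c27)) = (LP (LK LD1_c6 LD2_c29 LD3_c52)) :=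
  Lre_c IH (LK LD1_c12 LD2_c29 LD3_c27) (LK LD1_c6 LD2_c29 LD3_c52) Lrfl Lrfl
theorem f761768 : Led Lsl_ff (LP (LK LD1_c12 LD2_c29 LD3_c27)) = v17691 :=
  Lgr Lrot23 (Lpr_ct (f504983 IH) (Lpr_ft (K46.f647893 IH) (Lpr_ct (f761767 IH) (Lpn v17691))))
theorem f767118 : Led Lsl_gt v17691 = v18474 :=
  Lgr Lrot5 (Lpe (f761768 IH) (Lpr_at (f504971 IH) (Lpr_gf (f767117 IH) (Lpn v18474))))
theorem f773978 : Led Lsl_ct v6019 = v18474 :=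
  Lgr Lrot10 (Lpe (f650572 IH) (Lpr_gt (K49.f624291 IH) (Lpr_ct (K56.f65480 IH) (Lpr_gt (K56.f754506 IH) (Lpr_cf (K56.f664732 IH) (Lpe (f664726 IH) (Lpr_gt (f653860 IH) (Lpq (f771500 IH) (Lpr_bf (f647887 IH) (Lpr_ct (f761767 IH) (Lpr_gt (f767118 IH) (Lpn v18474))))))))))))
theorem f773984 : Led Lsl_cf v6019 = v18474 :=
  Lgr Lrot11 (Lpr_ct (f773978 IH) (Lpn v18474))
def v6156 : LQ := Led Lsl_bt (LP (LK LD1_c3 LD2_c18 LD3_c29))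
theorem f651546 : Led Lsl_bt (LP (LK LD1_c3 LD2_c18 LD3_c29)) = v6156 :=
  Lrfl
theorem f651549 : Led Lsl_ef K58.v2098 = v6156 :=
  Lgr Lrot29 (Lpe (K58.f508837 IH) (Lpr_et (K5.f130807 IH) (Lpr_bt (f651546 IH) (Lpn v6156))))
theorem f508838 : Led Lsl_df (LP (LK LD1_c1 LD2_c35 LD3_c39)) = K58.v2098 :=
  Lgr Lrot38 (Lpr_dt (K58.f508836 IH) (Lpn K58.v2098))
def v2099 : LQ := Led Lsl_et (LP (LK LD1_c1 LD2_c35 LD3_c39))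
theorem f508842 : Led Lsl_et (LP (LK LD1_c1 LD2_c35 LD3_c39)) = v2099 :=
  Lrfl
theorem f508844 : Led Lsl_ef (LP (LK LD1_c1 LD2_c35 LD3_c39)) = v2099 :=
  Lgr Lrot88 (Lpr_et (f508842 IH) (Lpn v2099))
theorem f508845 : Led Lsl_bt K24.v547 = v2099 :=
  Lgr Lrot119 (Lpe (K24.f453905 IH) (Lpe (K46.f414625 IH) (Lpr_ef (f508844 IH) (Lpn v2099))))
theorem f508846 : Led Lsl_df K46.v2077 = v2099 :=
  Lgr Lrot12 (Lpe (K46.f508711 IH) (Lpr_dt (K46.f453913 IH) (Lpr_bt (f508845 IH) (Lpn v2099))))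
theorem f650573 : Led Lsl_ef K46.v2077 = v6019 :=
  Lgr Lrot29 (Lpe (K46.f508711 IH) (Lpr_et (K24.f453914 IH) (Lpr_bt (f650571 IH) (Lpn v6019))))
theorem f650574 : Led Lsl_et K46.v2077 = v6019 :=
  Lgr Lrot87 (Lpr_ef (f650573 IH) (Lpn v6019))
theorem f651553 : Led Lsl_dt v6019 = v6156 :=
  Lgr Lrot77 (Lpe (f650574 IH) (Lpr_df (f508846 IH) (Lpe (f508842 IH) (Lpr_df (f508838 IH) (Lpr_ef (f651549 IH) (Lpn v6156))))))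
theorem f647889 : Led Lsl_at (LP (LK LD1_c3 LD2_c8 LD3_c28)) = K46.v5485 :=
  Lgr Lrot80 (Lpe (K32.f82621 IH) (Lpe (K58.f453512 IH) (Lpr_ef (K46.f647888 IH) (Lpn K46.v5485))))
theorem f647898 : Led Lsl_gt (LP (LK LD1_c6 LD2_c29 LD3_c57)) = K46.v5485 :=
  Lgr Lrot46 (Lpe (K58.f79819 IH) (Lpr_ft (K32.f504979 IH) (Lpr_at (f647889 IH) (Lpn K46.v5485))))
def v18466 : LQ := Led Lsl_dt (LP (LK LD1_c6 LD2_c29 LD3_c57))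
theorem f767099 : Led Lsl_dt (LP (LK LD1_c6 LD2_c29 LD3_c57)) = v18466 :=
  Lrfl
theorem f767100 : Led Lsl_df (LP (LK LD1_c6 LD2_c29 LD3_c57)) = v18466 :=
  Lgr Lrot38 (Lpr_dt (f767099 IH) (Lpn v18466))
theorem f770085 : (LP (LK LD1_c6 LD2_c21 LD3_c34)) = v18466 :=
  Lefun (Lecon (Lfl_df (K58.f761836 IH)) (K58.f770081 IH)) (f767099 IH)
theorem f504985 : Led Lsl_ct (LP (LK LD1_c6 LD2_c29 LD3_c52)) = (LP (LK LD1_c12 LD2_c29 LD3_c27)) :=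
  Lre_c IH (LK LD1_c6 LD2_c29 LD3_c52) (LK LD1_c12 LD2_c29 LD3_c27) Lrfl Lrfl
def v17699 : LQ := Led Lsl_gf (LP (LK LD1_c6 LD2_c21 LD3_c29))
theorem f761797 : Led Lsl_gf (LP (LK LD1_c6 LD2_c21 LD3_c29)) = v17699 :=
  Lrfl
theorem f504975 : Led Lsl_et (LP (LK LD1_c6 LD2_c21 LD3_c29)) = (LP (LK LD1_c3 LD2_c8 LD3_c26)) :=
  Lre_e IH (LK LD1_c6 LD2_c21 LD3_c29) (LK LD1_c3 LD2_c8 LD3_c26) Lrfl Lrfl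
theorem f761763 : Led Lsl_af (LP (LK LD1_c6 LD2_c21 LD3_c29)) = v17691 :=
  Lgr Lrot50 (Lpr_et (f504975 IH) (Lpr_at (K57.f506120 IH) (Lpr_et (f761762 IH) (Lpn v17691))))
theorem f761769 : Led Lsl_ft (LP (LK LD1_c12 LD2_c29 LD3_c27)) = v17691 :=
  Lgr Lrot48 (Lpr_ff (f761768 IH) (Lpn v17691))
theorem f761798 : Led Lsl_gt (LP (LK LD1_c12 LD2_c29 LD3_c27)) = v17699 :=
  Lgr Lrot5 (Lpr_ft (f761769 IH) (Lpe (f761763 IH) (Lpr_gf (f761797 IH) (Lpn v17699))))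
theorem f773988 : Led Lsl_cf v6156 = v17699 :=
  Lgr Lrot99 (Lpe (f651553 IH) (Lpr_cf (f773984 IH) (Lpe (f767118 IH) (Lpe (f761767 IH) (Lpe (f647898 IH) (Lpr_df (f767100 IH) (Lpq (f770085 IH) (Lpe (K58.f504981 IH) (Lpr_ct (f504985 IH) (Lpr_gt (f761798 IH) (Lpn v17699)))))))))))
theorem f773989 : Led Lsl_ct v6156 = v17699 :=
  Lgr Lrot59 (Lpr_cf (f773988 IH) (Lpn v17699))
theorem f651547 : Led Lsl_bf (LP (LK LD1_c3 LD2_c18 LD3_c29)) = v6156 :=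
  Lgr Lrot24 (Lpr_bt (f651546 IH) (Lpn v6156))
theorem f650728 : Led Lsl_bf (LP (LK LD1_c3 LD2_c16 LD3_c55)) = v6047 :=
  Lgr Lrot24 (Lpr_bt (f650727 IH) (Lpn v6047))
theorem f103362 : Led Lsl_ct (LP (LK LD1_c4 LD2_c45 LD3_c52)) = (LP (LK LD1_c9 LD2_c24 LD3_c16)) :=
  Lre_c IH (LK LD1_c4 LD2_c45 LD3_c52) (LK LD1_c9 LD2_c24 LD3_c16) Lrfl Lrfl
theorem f674609 : Led Lsl_ct (LP (LK LD1_c9 LD2_c27 LD3_c7)) = (LP (LK LD1_c4 LD2_c47 LD3_c6)) :=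
  Lre_c IH (LK LD1_c9 LD2_c27 LD3_c7) (LK LD1_c4 LD2_c47 LD3_c6) Lrfl Lrfl
def v13686 : LQ := Led Lsl_gf (LP (LK LD1_c4 LD2_c47 LD3_c6))
theorem f704308 : Led Lsl_gf (LP (LK LD1_c4 LD2_c47 LD3_c6)) = v13686 :=
  Lrfl
theorem f774000 : (LP (LK LD1_c9 LD2_c24 LD3_c16)) = v13686 :=
  (Llr Lrot64 (Lpe (f103362 IH) (Lpq (f771739 IH) (Lpe (f650728 IH) (Lpe (K5.f130822 IH) (Lpr_bf (f651547 IH) (Lpr_ct (f773989 IH) (Lpe (f761798 IH) (Lpe (f504985 IH) (Lpr_gf (K58.f504981 IH) (Lpr_bf (K58.f761834 IH) (Lpqs (K58.f770109 IH) (Lpr_ct (f674609 IH) (Lpr_gf (f704308 IH) (Lpn v13686))))))))))))))).symm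
theorem f102031 : Led Lsl_et (LP (LK LD1_c9 LD2_c23 LD3_c34)) = (LP (LK LD1_c4 LD2_c45 LD3_c23)) :=
  Lre_e IH (LK LD1_c9 LD2_c23 LD3_c34) (LK LD1_c4 LD2_c45 LD3_c23) Lrfl Lrfl
theorem f633313 : Led Lsl_et (LP (LK LD1_c2 LD2_c21 LD3_c25)) = (LP (LK LD1_c4 LD2_c47 LD3_c6)) :=
  Lre_e IH (LK LD1_c2 LD2_c21 LD3_c25) (LK LD1_c4 LD2_c47 LD3_c6) Lrfl Lrfl
theorem f674604 : Led Lsl_af (LP (LK LD1_c9 LD2_c23 LD3_c34)) = (LP (LK LD1_c4 LD2_c47 LD3_c6)) :=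
  Lgr Lrot50 (Lpr_et (f102031 IH) (Lpq (K50.f674556 IH) (Lpe (K51.f633316 IH) (Lpr_et (f633313 IH) (Lpn (LP (LK LD1_c4 LD2_c47 LD3_c6)))))))
theorem f674606 : Led Lsl_at (LP (LK LD1_c9 LD2_c23 LD3_c34)) = (LP (LK LD1_c4 LD2_c47 LD3_c6)) :=
  Lgr Lrot100 (Lpr_af (f674604 IH) (Lpn (LP (LK LD1_c4 LD2_c47 LD3_c6))))
theorem f774010 : Led Lsl_ft (LP (LK LD1_c12 LD2_c32 LD3_c41)) = (LP (LK LD1_c9 LD2_c23 LD3_c34)) :=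
  Lgr Lrot2 (Lpr_gt (f774008 IH) (Lpqs (f774000 IH) (Lpe (f704308 IH) (Lpe (f674606 IH) (Lpn (LP (LK LD1_c9 LD2_c23 LD3_c34)))))))
theorem f774014 : Led Lsl_ef (LP (LK LD1_c12 LD2_c32 LD3_c41)) = K51.v13682 :=
  Lgr Lrot21 (Lpr_ft (f774010 IH) (Lpr_et (f102031 IH) (Lpq (K50.f674556 IH) (Lpe (K50.f633317 IH) (Lpr_et (K50.f633305 IH) (Lpr_ft (K51.f704279 IH) (Lpn K51.v13682)))))))
theorem f701333 : Led Lsl_gt (LP (LK LD1_c4 LD2_c40 LD3_c43)) = (LP (LK LD1_c9 LD2_c16 LD3_c52)) :=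
  Lre_g IH (LK LD1_c4 LD2_c40 LD3_c43) (LK LD1_c9 LD2_c16 LD3_c52) Lrfl Lrfl
theorem f110796 : Led Lsl_dt (LP (LK LD1_c2 LD2_c17 LD3_c24)) = (LP (LK LD1_c4 LD2_c40 LD3_c43)) :=
  Lre_d IH (LK LD1_c2 LD2_c17 LD3_c24) (LK LD1_c4 LD2_c40 LD3_c43) Lrfl Lrfl
theorem f110795 : Led Lsl_et (LP (LK LD1_c2 LD2_c17 LD3_c24)) = (LP (LK LD1_c1 LD2_c5 LD3_c38)) :=
  Lre_e IH (LK LD1_c2 LD2_c17 LD3_c24) (LK LD1_c1 LD2_c5 LD3_c38) Lrfl Lrfl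
theorem f78697 : Led Lsl_gt (LP (LK LD1_c17 LD2_c11 LD3_c9)) = (LP (LK LD1_c9 LD2_c16 LD3_c30)) :=
  Lre_g IH (LK LD1_c17 LD2_c11 LD3_c9) (LK LD1_c9 LD2_c16 LD3_c30) Lrfl Lrfl
theorem f774021 : Led Lsl_dt (LP (LK LD1_c9 LD2_c24 LD3_c16)) = (LP (LK LD1_c17 LD2_c11 LD3_c9)) :=
  Lgr Lrot171 (Lpe (f774008 IH) (Lpr_ef (f774014 IH) (Lpe (K51.f704281 IH) (Lpe (f701333 IH) (Lpe (f110796 IH) (Lpr_et (f110795 IH) (Lpe (K4.f13666 IH) (Lpe (K58.f58266 IH) (Lpr_dt (K42.f58267 IH) (Lpe (f78697 IH) (Lpn (LP (LK LD1_c17 LD2_c11 LD3_c9)))))))))))))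
theorem f674035 : Led Lsl_et (LP (LK LD1_c9 LD2_c24 LD3_c16)) = (LP (LK LD1_c4 LD2_c45 LD3_c50)) :=
  Lre_e IH (LK LD1_c9 LD2_c24 LD3_c16) (LK LD1_c4 LD2_c45 LD3_c50) Lrfl Lrfl
theorem f113845 : Led Lsl_et (LP (LK LD1_c9 LD2_c23 LD3_c4)) = (LP (LK LD1_c4 LD2_c46 LD3_c32)) :=
  Lgr Lrot69 (Lpe (K58.f99192 IH) (Lpe (K58.f99195 IH) (Lpr_ff (K4.f113839 IH) (Lpe (K5.f78341 IH) (Lpe (K58.f78373 IH) (Lpn (LP (LK LD1_c4 LD2_c46 LD3_c32))))))))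
theorem f113847 : Led Lsl_ef (LP (LK LD1_c9 LD2_c23 LD3_c4)) = (LP (LK LD1_c4 LD2_c46 LD3_c32)) :=
  Lgr Lrot88 (Lpr_et (f113845 IH) (Lpn (LP (LK LD1_c4 LD2_c46 LD3_c32))))
theorem f110669 : Led Lsl_dt (LP (LK LD1_c9 LD2_c16 LD3_c30)) = (LP (LK LD1_c4 LD2_c40 LD3_c34)) :=
  Lre_d IH (LK LD1_c9 LD2_c16 LD3_c30) (LK LD1_c4 LD2_c40 LD3_c34) Lrfl Lrfl
theorem f443016 : Led Lsl_dt (LP (LK LD1_c6 LD2_c32 LD3_c29)) = (LP (LK LD1_c12 LD2_c32 LD3_c32)) :=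
  Lre_d IH (LK LD1_c6 LD2_c32 LD3_c29) (LK LD1_c12 LD2_c32 LD3_c32) Lrfl Lrfl
theorem f443017 : Led Lsl_ct (LP (LK LD1_c12 LD2_c32 LD3_c32)) = (LP (LK LD1_c21 LD2_c38 LD3_c28)) :=
  Lre_c IH (LK LD1_c12 LD2_c32 LD3_c32) (LK LD1_c21 LD2_c38 LD3_c28) Lrfl Lrfl
theorem f770378 : Led Lsl_df (LP (LK LD1_c17 LD2_c11 LD3_c10)) = (LP (LK LD1_c21 LD2_c38 LD3_c28)) :=
  Lgr Lrot13 (Lpr_ct (K37.f110637 IH) (Lpr_dt (f110669 IH) (Lpr_ct (K58.f633092 IH) (Lpe (K58.f633090 IH) (Lpr_ff (K58.f633113 IH) (Lpr_dt (K58.f633114 IH) (Lpr_ct (K58.f703394 IH) (Lpq (K58.f769999 IH) (Lpr_dt (f443016 IH) (Lpr_ct (f443017 IH) (Lpn (LP (LK LD1_c21 LD2_c38 LD3_c28)))))))))))))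
theorem f110632 : Led Lsl_at (LP (LK LD1_c9 LD2_c22 LD3_c2)) = (LP (LK LD1_c9 LD2_c16 LD3_c30)) :=
  Lgr Lrot100 (Lpr_af (K37.f110626 IH) (Lpn (LP (LK LD1_c9 LD2_c16 LD3_c30))))
theorem f770380 : Led Lsl_ff (LP (LK LD1_c9 LD2_c22 LD3_c2)) = (LP (LK LD1_c12 LD2_c32 LD3_c32)) :=
  Lgr Lrot103 (Lpr_at (f110632 IH) (Lpe (K37.f110637 IH) (Lpr_df (f770378 IH) (Lpe (f443017 IH) (Lpe (f443016 IH) (Lpr_cf (K58.f768220 IH) (Lpqs (K58.f769998 IH) (Lpe (K58.f633114 IH) (Lpr_cf (K58.f703390 IH) (Lpq (K58.f769999 IH) (Lpe (K58.f768207 IH) (Lpn (LP (LK LD1_c12 LD2_c32 LD3_c32))))))))))))))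
theorem f770407 : Led Lsl_gf (LP (LK LD1_c17 LD2_c11 LD3_c9)) = (LP (LK LD1_c12 LD2_c32 LD3_c32)) :=
  Lgr Lrot47 (Lpr_gt (f78697 IH) (Lpe (f110632 IH) (Lpr_ff (f770380 IH) (Lpn (LP (LK LD1_c12 LD2_c32 LD3_c32))))))
theorem f442937 : Led Lsl_et (LP (LK LD1_c6 LD2_c32 LD3_c31)) = (LP (LK LD1_c3 LD2_c14 LD3_c24)) :=
  Lre_e IH (LK LD1_c6 LD2_c32 LD3_c31) (LK LD1_c3 LD2_c14 LD3_c24) Lrfl Lrfl
theorem f442935 : Led Lsl_dt (LP (LK LD1_c6 LD2_c32 LD3_c31)) = (LP (LK LD1_c12 LD2_c32 LD3_c39)) :=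
  Lre_d IH (LK LD1_c6 LD2_c32 LD3_c31) (LK LD1_c12 LD2_c32 LD3_c39) Lrfl Lrfl
theorem f774034 : Led Lsl_gt (LP (LK LD1_c9 LD2_c25 LD3_c44)) = (LP (LK LD1_c12 LD2_c32 LD3_c39)) :=
  Lgr Lrot112 (Lpe (K58.f78371 IH) (Lpe (f113847 IH) (Lpqs (K58.f770498 IH) (Lpe (K58.f703775 IH) (Lpe (f674035 IH) (Lpr_dt (f774021 IH) (Lpr_gf (f770407 IH) (Lpe (f443016 IH) (Lpe (K58.f443015 IH) (Lpe (f442937 IH) (Lpr_dt (f442935 IH) (Lpn (LP (LK LD1_c12 LD2_c32 LD3_c39))))))))))))))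
def v13549 : LQ := Led Lsl_ft (LP (LK LD1_c4 LD2_c45 LD3_c15))
theorem f703554 : Led Lsl_ft (LP (LK LD1_c4 LD2_c45 LD3_c15)) = v13549 :=
  Lrfl
def v13547 : LQ := Led Lsl_gt (LP (LK LD1_c4 LD2_c45 LD3_c15))
theorem f703551 : Led Lsl_gt (LP (LK LD1_c4 LD2_c45 LD3_c15)) = v13547 :=
  Lrfl
theorem f703555 : Led Lsl_af (LP (LK LD1_c4 LD2_c46 LD3_c32)) = v13549 :=
  Lgr Lrot45 (Lpr_ft (K58.f78373 IH) (Lpe (K58.f113837 IH) (Lpr_ft (f703554 IH) (Lpn v13549))))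
theorem f703558 : Led Lsl_gt v13547 = (LP (LK LD1_c4 LD2_c46 LD3_c32)) :=
  Lgr Lrot46 (Lpe (f703551 IH) (Lpr_ft (f703554 IH) (Lpe (f703555 IH) (Lpn (LP (LK LD1_c4 LD2_c46 LD3_c32))))))
def v6547 : LQ := Led Lsl_ct (LP (LK LD1_c3 LD2_c23 LD3_c25))
theorem f653878 : Led Lsl_ct (LP (LK LD1_c3 LD2_c23 LD3_c25)) = v6547 :=
  Lrfl
def v6546 : LQ := Led Lsl_bt (LP (LK LD1_c3 LD2_c23 LD3_c25))
theorem f653876 : Led Lsl_bt (LP (LK LD1_c3 LD2_c23 LD3_c25)) = v6546 :=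
  Lrfl
theorem f768699 : (LP (LK LD1_c3 LD2_c11 LD3_c16)) = v6546 :=
  Lefun (Lecon (Lfl_bf (K58.f632705 IH)) (K58.f768678 IH).symm) (f653876 IH)
def v13372 : LQ := Led Lsl_at (LP (LK LD1_c4 LD2_c43 LD3_c30))
theorem f702587 : Led Lsl_at (LP (LK LD1_c4 LD2_c43 LD3_c30)) = v13372 :=
  Lrfl
theorem f438558 : Led Lsl_ct (LP (LK LD1_c6 LD2_c26 LD3_c28)) = (LP (LK LD1_c3 LD2_c11 LD3_c10)) :=
  Lre_c IH (LK LD1_c6 LD2_c26 LD3_c28) (LK LD1_c3 LD2_c11 LD3_c10) Lrfl Lrfl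
theorem f57507 : Led Lsl_ct (LP (LK LD1_c2 LD2_c50 LD3_c29)) = (LP (LK LD1_c5 LD2_c48 LD3_c55)) :=
  Lre_c IH (LK LD1_c2 LD2_c50 LD3_c29) (LK LD1_c5 LD2_c48 LD3_c55) Lrfl Lrfl
theorem f623301 : Led Lsl_ff (LP (LK LD1_c6 LD2_c26 LD3_c28)) = (LP (LK LD1_c5 LD2_c48 LD3_c55)) :=
  Lgr Lrot23 (Lpr_ct (f438558 IH) (Lpr_ft (K57.f623294 IH) (Lpr_ct (f57507 IH) (Lpn (LP (LK LD1_c5 LD2_c48 LD3_c55))))))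
theorem f623313 : Led Lsl_bt (LP (LK LD1_c6 LD2_c26 LD3_c28)) = (LP (LK LD1_c3 LD2_c11 LD3_c8)) :=
  Lre_b IH (LK LD1_c6 LD2_c26 LD3_c28) (LK LD1_c3 LD2_c11 LD3_c8) Lrfl Lrfl
theorem f210125 : Led Lsl_ct (LP (LK LD1_c2 LD2_c19 LD3_c29)) = (LP (LK LD1_c4 LD2_c43 LD3_c30)) :=
  Lre_c IH (LK LD1_c2 LD2_c19 LD3_c29) (LK LD1_c4 LD2_c43 LD3_c30) Lrfl Lrfl
theorem f57506 : Led Lsl_bt (LP (LK LD1_c2 LD2_c50 LD3_c29)) = (LP (LK LD1_c1 LD2_c21 LD3_c15)) :=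
  Lre_b IH (LK LD1_c2 LD2_c50 LD3_c29) (LK LD1_c1 LD2_c21 LD3_c15) Lrfl Lrfl
theorem f438328 : Led Lsl_ct (LP (LK LD1_c5 LD2_c48 LD3_c55)) = (LP (LK LD1_c2 LD2_c50 LD3_c29)) :=
  Lre_c IH (LK LD1_c5 LD2_c48 LD3_c55) (LK LD1_c2 LD2_c50 LD3_c29) Lrfl Lrfl
theorem f438329 : Led Lsl_bt (LP (LK LD1_c4 LD2_c43 LD3_c30)) = (LP (LK LD1_c5 LD2_c48 LD3_c55)) :=
  Lgr Lrot128 (Lpe (f210125 IH) (Lpe (K58.f438327 IH) (Lpr_cf (K24.f438323 IH) (Lpe (f57506 IH) (Lpe (f438328 IH) (Lpn (LP (LK LD1_c5 LD2_c48 LD3_c55))))))))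
theorem f623314 : Led Lsl_ft (LP (LK LD1_c3 LD2_c11 LD3_c8)) = (LP (LK LD1_c4 LD2_c43 LD3_c30)) :=
  Lgr Lrot75 (Lpe (f623313 IH) (Lpr_ff (f623301 IH) (Lpe (f438329 IH) (Lpn (LP (LK LD1_c4 LD2_c43 LD3_c30))))))
def v5640 : LQ := Led Lsl_at (LP (LK LD1_c3 LD2_c11 LD3_c8))
theorem f648633 : Led Lsl_at (LP (LK LD1_c3 LD2_c11 LD3_c8)) = v5640 :=
  Lrfl
theorem f648634 : Led Lsl_af (LP (LK LD1_c3 LD2_c11 LD3_c8)) = v5640 :=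
  Lgr Lrot0 (Lpr_at (f648633 IH) (Lpn v5640))
theorem f702590 : Led Lsl_ff v5640 = v13372 :=
  Lgr Lrot30 (Lpe (f648634 IH) (Lpr_ft (f623314 IH) (Lpr_at (f702587 IH) (Lpn v13372))))
theorem f648635 : Led Lsl_cf K58.v1947 = v5640 :=
  Lgr Lrot1 (Lpe (K58.f506529 IH) (Lpr_ct (K58.f153690 IH) (Lpr_at (f648633 IH) (Lpn v5640))))
theorem f702592 : Led Lsl_ct K58.v4332 = v13372 :=
  Lgr Lrot40 (Lpe (K58.f632711 IH) (Lpr_cf (f648635 IH) (Lpr_ff (f702590 IH) (Lpn v13372))))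
theorem f768702 : v13372 = v6547 :=
  Lefun (Lecon (f702592 IH) (K58.f768678 IH).symm) (f653878 IH)
theorem f702594 : Led Lsl_gf K58.v5639 = v13372 :=
  Lgr Lrot47 (Lpe (K58.f648631 IH) (Lpr_af (f648634 IH) (Lpr_ff (f702590 IH) (Lpn v13372))))
def v4404 : LQ := Led Lsl_gt (LP (LK LD1_c2 LD2_c20 LD3_c43))
theorem f633166 : Led Lsl_gt (LP (LK LD1_c2 LD2_c20 LD3_c43)) = v4404 :=
  Lrfl
theorem f668975 : Led Lsl_gt K58.v2143 = K58.v7917 :=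
  Lgr Lrot46 (Lpe (K58.f509216 IH) (Lpr_ft (K58.f508518 IH) (Lpr_at (K58.f668971 IH) (Lpn K58.v7917))))
theorem f771025 : K58.v7917 = v4404 :=
  Lefun (Lecon (f668975 IH) (K58.f771021 IH).symm) (f633166 IH)
def v4420 : LQ := Led Lsl_ft (LP (LK LD1_c2 LD2_c21 LD3_c5))
theorem f633271 : Led Lsl_ft (LP (LK LD1_c2 LD2_c21 LD3_c5)) = v4420 :=
  Lrfl
theorem f633273 : Led Lsl_ff (LP (LK LD1_c2 LD2_c21 LD3_c5)) = v4420 :=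
  Lgr Lrot3 (Lpr_ft (f633271 IH) (Lpn v4420))
theorem f633274 : Led Lsl_at K58.v1350 = v4420 :=
  Lgr Lrot66 (Lpr_ff (K58.f633265 IH) (Lpe (K58.f633262 IH) (Lpr_ff (f633273 IH) (Lpn v4420))))
theorem f770927 : K58.v7917 = v4420 :=
  Lefun (Lecon (K58.f668971 IH) (K58.f770924 IH).symm) (f633274 IH)
def v13632 : LQ := Led Lsl_ft (LP (LK LD1_c4 LD2_c46 LD3_c9))
theorem f703981 : Led Lsl_ft (LP (LK LD1_c4 LD2_c46 LD3_c9)) = v13632 :=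
  Lrfl
theorem f703984 : Led Lsl_ff (LP (LK LD1_c4 LD2_c46 LD3_c9)) = v13632 :=
  Lgr Lrot3 (Lpr_ft (f703981 IH) (Lpn v13632))
theorem f633181 : Led Lsl_ct (LP (LK LD1_c4 LD2_c46 LD3_c9)) = (LP (LK LD1_c2 LD2_c21 LD3_c5)) :=
  Lre_c IH (LK LD1_c4 LD2_c46 LD3_c9) (LK LD1_c2 LD2_c21 LD3_c5) Lrfl Lrfl
theorem f703987 : Led Lsl_ct v4420 = v13632 :=
  Lgr Lrot40 (Lpe (f633271 IH) (Lpe (f633181 IH) (Lpr_ff (f703984 IH) (Lpn v13632))))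
theorem f771040 : v13547 = v13632 :=
  (Llr Lrot129 (Lpr_gt (f703558 IH) (Lpr_cf (K58.f78366 IH) (Lpqs (K58.f769800 IH) (Lpe (K58.f702525 IH) (Lpe (K58.f623799 IH) (Lpqs (f768699 IH) (Lpe (f653876 IH) (Lpr_ct (f653878 IH) (Lpq (f768702 IH) (Lpe (f702594 IH) (Lpqs (K58.f771036 IH) (Lpe (K58.f91404 IH) (Lpe (K7.f91323 IH) (Lpr_gt (f633166 IH) (Lpq (f771025 IH) (Lpqs (f770927 IH) (Lpr_ct (f703987 IH) (Lpn v13632))))))))))))))))))).symm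
theorem f633178 : Led Lsl_ct (LP (LK LD1_c2 LD2_c21 LD3_c5)) = (LP (LK LD1_c4 LD2_c46 LD3_c9)) :=
  Lre_c IH (LK LD1_c2 LD2_c21 LD3_c5) (LK LD1_c4 LD2_c46 LD3_c9) Lrfl Lrfl
theorem f703983 : Led Lsl_cf v4420 = v13632 :=
  Lgr Lrot108 (Lpe (f633273 IH) (Lpr_ct (f633178 IH) (Lpr_ft (f703981 IH) (Lpn v13632))))
theorem f633170 : Led Lsl_af (LP (LK LD1_c2 LD2_c21 LD3_c7)) = K58.v4406 :=
  Lgr Lrot45 (Lpr_ft (f439076 IH) (Lpe (f133212 IH) (Lpr_ft (K58.f633169 IH) (Lpn K58.v4406))))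
theorem f633173 : Led Lsl_gt v4404 = (LP (LK LD1_c2 LD2_c21 LD3_c7)) :=
  Lgr Lrot46 (Lpe (f633166 IH) (Lpr_ft (K58.f633169 IH) (Lpe (f633170 IH) (Lpn (LP (LK LD1_c2 LD2_c21 LD3_c7))))))
theorem f443007 : Led Lsl_dt (LP (LK LD1_c12 LD2_c32 LD3_c39)) = (LP (LK LD1_c6 LD2_c32 LD3_c31)) :=
  Lre_d IH (LK LD1_c12 LD2_c32 LD3_c39) (LK LD1_c6 LD2_c32 LD3_c31) Lrfl Lrfl
theorem f442887 : Led Lsl_ct (LP (LK LD1_c3 LD2_c14 LD3_c26)) = (LP (LK LD1_c6 LD2_c32 LD3_c31)) :=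
  Lre_c IH (LK LD1_c3 LD2_c14 LD3_c26) (LK LD1_c6 LD2_c32 LD3_c31) Lrfl Lrfl
theorem f774038 : v13542 = (LP (LK LD1_c3 LD2_c20 LD3_c7)) :=
  (Llr Lrot49 (Lpe (f703524 IH) (Lpe (f133199 IH) (Lpe (f633173 IH) (Lpq (f771025 IH) (Lpqs (f770927 IH) (Lpr_cf (f703983 IH) (Lpq (f771040 IH) (Lpr_gt (f703558 IH) (Lpr_dt (K58.f78371 IH) (Lpr_gt (f774034 IH) (Lpr_dt (f443007 IH) (Lpe (f442887 IH) (Lpe (K58.f443011 IH) (Lpn (LP (LK LD1_c3 LD2_c20 LD3_c7))))))))))))))))).symm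
theorem f135432 : Led Lsl_ct (LP (LK LD1_c3 LD2_c20 LD3_c7)) = (LP (LK LD1_c6 LD2_c43 LD3_c58)) :=
  Lre_c IH (LK LD1_c3 LD2_c20 LD3_c7) (LK LD1_c6 LD2_c43 LD3_c58) Lrfl Lrfl
theorem f774045 : Led Lsl_gf (LP (LK LD1_c12 LD2_c20 LD3_c60)) = (LP (LK LD1_c6 LD2_c43 LD3_c58)) :=
  Lgr Lrot172 (Lpe (f152829 IH) (Lpr_dt (K58.f102222 IH) (Lpe (f102130 IH) (Lpqs (f769816 IH) (Lpe (f652631 IH) (Lpe (K58.f57154 IH) (Lpq (K58.f771020 IH) (Lpe (f633168 IH) (Lpr_dt (f133199 IH) (Lpr_gt (f703524 IH) (Lpqs (f774038 IH) (Lpr_ct (f135432 IH) (Lpn (LP (LK LD1_c6 LD2_c43 LD3_c58)))))))))))))))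
theorem f152990 : Led Lsl_et (LP (LK LD1_c17 LD2_c10 LD3_c22)) = (LP (LK LD1_c9 LD2_c15 LD3_c54)) :=
  Lre_e IH (LK LD1_c17 LD2_c10 LD3_c22) (LK LD1_c9 LD2_c15 LD3_c54) Lrfl Lrfl
theorem f152991 : Led Lsl_af (LP (LK LD1_c17 LD2_c10 LD3_c22)) = (LP (LK LD1_c12 LD2_c20 LD3_c60)) :=
  Lgr Lrot50 (Lpr_et (f152990 IH) (Lpr_at (K49.f152987 IH) (Lpr_et (f152828 IH) (Lpn (LP (LK LD1_c12 LD2_c20 LD3_c60))))))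
theorem f77923 : Led Lsl_ct (LP (LK LD1_c17 LD2_c10 LD3_c22)) = (LP (LK LD1_c9 LD2_c15 LD3_c52)) :=
  Lre_c IH (LK LD1_c17 LD2_c10 LD3_c22) (LK LD1_c9 LD2_c15 LD3_c52) Lrfl Lrfl
theorem f125227 : Led Lsl_af (LP (LK LD1_c9 LD2_c28 LD3_c4)) = (LP (LK LD1_c9 LD2_c15 LD3_c52)) :=
  Lgr Lrot0 (Lpr_at (K58.f125225 IH) (Lpn (LP (LK LD1_c9 LD2_c15 LD3_c52))))
theorem f153031 : Led Lsl_ct (LP (LK LD1_c9 LD2_c28 LD3_c4)) = (LP (LK LD1_c12 LD2_c20 LD3_c60)) :=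
  Lgr Lrot111 (Lpr_af (f125227 IH) (Lpe (f77923 IH) (Lpr_af (f152991 IH) (Lpn (LP (LK LD1_c12 LD2_c20 LD3_c60))))))
def v7152 : LQ := Led Lsl_et (LP (LK LD1_c3 LD2_c39 LD3_c59))
theorem f661566 : Led Lsl_et (LP (LK LD1_c3 LD2_c39 LD3_c59)) = v7152 :=
  Lrfl
theorem f661570 : Led Lsl_ef (LP (LK LD1_c3 LD2_c39 LD3_c59)) = v7152 :=
  Lgr Lrot88 (Lpr_et (f661566 IH) (Lpn v7152))
theorem f661572 : Led Lsl_bt (LP (LK LD1_c9 LD2_c28 LD3_c4)) = v7152 :=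
  Lgr Lrot119 (Lpe (K58.f102221 IH) (Lpe (K5.f114172 IH) (Lpr_ef (f661570 IH) (Lpn v7152))))
def v18053 : LQ := Led Lsl_gf (LP (LK LD1_c6 LD2_c26 LD3_c5))
theorem f764814 : Led Lsl_gf (LP (LK LD1_c6 LD2_c26 LD3_c5)) = v18053 :=
  Lrfl
theorem f135418 : Led Lsl_bt (LP (LK LD1_c4 LD2_c48 LD3_c28)) = (LP (LK LD1_c2 LD2_c22 LD3_c14)) :=
  Lre_b IH (LK LD1_c4 LD2_c48 LD3_c28) (LK LD1_c2 LD2_c22 LD3_c14) Lrfl Lrfl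
theorem f135419 : Led Lsl_ct (LP (LK LD1_c4 LD2_c48 LD3_c28)) = (LP (LK LD1_c9 LD2_c29 LD3_c38)) :=
  Lre_c IH (LK LD1_c4 LD2_c48 LD3_c28) (LK LD1_c9 LD2_c29 LD3_c38) Lrfl Lrfl
theorem f416831 : Led Lsl_bt (LP (LK LD1_c0 LD2_c42 LD3_c37)) = (LP (LK LD1_c1 LD2_c31 LD3_c51)) :=
  Lre_b IH (LK LD1_c0 LD2_c42 LD3_c37) (LK LD1_c1 LD2_c31 LD3_c51) Lrfl Lrfl
theorem f416834 : Led Lsl_gf (LP (LK LD1_c9 LD2_c29 LD3_c38)) = (LP (LK LD1_c12 LD2_c24 LD3_c16)) :=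
  Lgr Lrot126 (Lpe (f135419 IH) (Lpr_bt (f135418 IH) (Lpe (K32.f135427 IH) (Lpr_ct (K32.f416814 IH) (Lpr_gt (K32.f69110 IH) (Lpe (K24.f69104 IH) (Lpr_bt (f416831 IH) (Lpr_gt (K57.f131382 IH) (Lpe (K57.f416832 IH) (Lpr_ct (K57.f416833 IH) (Lpn (LP (LK LD1_c12 LD2_c24 LD3_c16)))))))))))))
theorem f135430 : Led Lsl_ct (LP (LK LD1_c9 LD2_c29 LD3_c38)) = (LP (LK LD1_c4 LD2_c48 LD3_c28)) :=
  Lre_c IH (LK LD1_c9 LD2_c29 LD3_c38) (LK LD1_c4 LD2_c48 LD3_c28) Lrfl Lrfl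
theorem f416842 : Led Lsl_dt (LP (LK LD1_c4 LD2_c48 LD3_c28)) = (LP (LK LD1_c2 LD2_c22 LD3_c7)) :=
  Lre_d IH (LK LD1_c4 LD2_c48 LD3_c28) (LK LD1_c2 LD2_c22 LD3_c7) Lrfl Lrfl
theorem f416816 : Led Lsl_ct (LP (LK LD1_c4 LD2_c48 LD3_c20)) = (LP (LK LD1_c2 LD2_c22 LD3_c7)) :=
  Lre_c IH (LK LD1_c4 LD2_c48 LD3_c20) (LK LD1_c2 LD2_c22 LD3_c7) Lrfl Lrfl
theorem f764815 : Led Lsl_dt K58.v9779 = v18053 :=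
  Lgr Lrot6 (Lpe (K58.f677574 IH) (Lpr_ct (K58.f677577 IH) (Lpe (K58.f677580 IH) (Lpr_ct (f416816 IH) (Lpe (f416842 IH) (Lpe (f135430 IH) (Lpr_gf (f416834 IH) (Lpe (K57.f416833 IH) (Lpr_gf (f764814 IH) (Lpn v18053))))))))))
theorem f661573 : Led Lsl_dt K58.v2507 = v7152 :=
  Lgr Lrot77 (Lpe (K58.f523675 IH) (Lpr_df (K5.f124843 IH) (Lpe (K7.f144199 IH) (Lpe (K7.f114176 IH) (Lpr_ef (f661570 IH) (Lpn v7152))))))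
theorem f769826 : v18053 = v7152 :=
  Lefun (Lecon (f764815 IH) (K58.f769821 IH).symm) (f661573 IH)
theorem f416836 : Led Lsl_ct (LP (LK LD1_c3 LD2_c10 LD3_c52)) = (LP (LK LD1_c6 LD2_c26 LD3_c6)) :=
  Lre_c IH (LK LD1_c3 LD2_c10 LD3_c52) (LK LD1_c6 LD2_c26 LD3_c6) Lrfl Lrfl
def v18057 : LQ := Led Lsl_gt (LP (LK LD1_c6 LD2_c26 LD3_c6))
theorem f764829 : Led Lsl_gt (LP (LK LD1_c6 LD2_c26 LD3_c6)) = v18057 :=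
  Lrfl
def v6311 : LQ := Led Lsl_gf (LP (LK LD1_c3 LD2_c20 LD3_c7))
theorem f652673 : Led Lsl_gf (LP (LK LD1_c3 LD2_c20 LD3_c7)) = v6311 :=
  Lrfl
theorem f774041 : (LP (LK LD1_c4 LD2_c46 LD3_c14)) = v6311 :=
  Lefun (Lecon (Lfl_gt (f703524 IH)) (f774038 IH)) (f652673 IH)
def v13643 : LQ := Led Lsl_bt (LP (LK LD1_c4 LD2_c46 LD3_c14))
theorem f704034 : Led Lsl_bt (LP (LK LD1_c4 LD2_c46 LD3_c14)) = v13643 :=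
  Lrfl
theorem f704035 : Led Lsl_bf (LP (LK LD1_c4 LD2_c46 LD3_c14)) = v13643 :=
  Lgr Lrot24 (Lpr_bt (f704034 IH) (Lpn v13643))
theorem f774049 : Led Lsl_cf v18057 = v13643 :=
  Lgr Lrot58 (Lpe (f764829 IH) (Lpe (f416836 IH) (Lpr_bt (f648478 IH) (Lpr_gf (f764814 IH) (Lpqs (f769826 IH) (Lpe (f661572 IH) (Lpr_ct (f153031 IH) (Lpr_gf (f774045 IH) (Lpe (f135432 IH) (Lpr_gf (f652673 IH) (Lpq (f774041 IH) (Lpr_bf (f704035 IH) (Lpn v13643)))))))))))))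
def v18062 : LQ := Led Lsl_ft (LP (LK LD1_c6 LD2_c26 LD3_c6))
theorem f764847 : Led Lsl_ft (LP (LK LD1_c6 LD2_c26 LD3_c6)) = v18062 :=
  Lrfl
def v18059 : LQ := Led Lsl_at (LP (LK LD1_c6 LD2_c26 LD3_c6))
theorem f764832 : Led Lsl_at (LP (LK LD1_c6 LD2_c26 LD3_c6)) = v18059 :=
  Lrfl
theorem f764833 : Led Lsl_af (LP (LK LD1_c6 LD2_c26 LD3_c6)) = v18059 :=
  Lgr Lrot0 (Lpr_at (f764832 IH) (Lpn v18059))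
theorem f764835 : Led Lsl_cf v5604 = v18059 :=
  Lgr Lrot1 (Lpe (f648476 IH) (Lpr_ct (f416836 IH) (Lpr_at (f764832 IH) (Lpn v18059))))
theorem f648481 : Led Lsl_ff v1939 = v5604 :=
  Lgr Lrot3 (Lpr_ft (f648480 IH) (Lpn v5604))
def v8241 : LQ := Led Lsl_ct v1939
theorem f670486 : Led Lsl_ct v1939 = v8241 :=
  Lrfl
theorem f764837 : Led Lsl_ft v8241 = v18059 :=
  Lgr Lrot4 (Lpe (f670486 IH) (Lpr_ff (f648481 IH) (Lpr_cf (f764835 IH) (Lpn v18059))))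
theorem f764848 : Led Lsl_af v8241 = v18062 :=
  Lgr Lrot45 (Lpr_ft (f764837 IH) (Lpe (f764833 IH) (Lpr_ft (f764847 IH) (Lpn v18062))))
theorem f764851 : Led Lsl_gt v18057 = v8241 :=
  Lgr Lrot46 (Lpe (f764829 IH) (Lpr_ft (f764847 IH) (Lpe (f764848 IH) (Lpn v8241))))
def v18056 : LQ := Led Lsl_ft (LP (LK LD1_c6 LD2_c26 LD3_c5))
theorem f764825 : Led Lsl_ft (LP (LK LD1_c6 LD2_c26 LD3_c5)) = v18056 :=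
  Lrfl
def v5607 : LQ := Led Lsl_ft (LP (LK LD1_c3 LD2_c10 LD3_c52))
theorem f648487 : Led Lsl_ft (LP (LK LD1_c3 LD2_c10 LD3_c52)) = v5607 :=
  Lrfl
theorem f648489 : Led Lsl_ff (LP (LK LD1_c3 LD2_c10 LD3_c52)) = v5607 :=
  Lgr Lrot3 (Lpr_ft (f648487 IH) (Lpn v5607))
theorem f764826 : Led Lsl_bf v5607 = v18056 :=
  Lgr Lrot61 (Lpe (f648489 IH) (Lpr_bt (f648478 IH) (Lpr_ft (f764825 IH) (Lpn v18056))))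
theorem f648490 : Led Lsl_at v1939 = v5607 :=
  Lgr Lrot66 (Lpr_ff (f648481 IH) (Lpe (f648475 IH) (Lpr_ff (f648489 IH) (Lpn v5607))))
def v13830 : LQ := Led Lsl_gf (LP (LK LD1_c4 LD2_c48 LD3_c36))
theorem f705120 : Led Lsl_gf (LP (LK LD1_c4 LD2_c48 LD3_c36)) = v13830 :=
  Lrfl
theorem f417111 : Led Lsl_dt (LP (LK LD1_c4 LD2_c44 LD3_c25)) = (LP (LK LD1_c4 LD2_c48 LD3_c36)) :=
  Lre_d IH (LK LD1_c4 LD2_c44 LD3_c25) (LK LD1_c4 LD2_c48 LD3_c36) Lrfl Lrfl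
def v4375 : LQ := Led Lsl_gt (LP (LK LD1_c2 LD2_c20 LD3_c11))
theorem f633001 : Led Lsl_gt (LP (LK LD1_c2 LD2_c20 LD3_c11)) = v4375 :=
  Lrfl
def v13487 : LQ := Led Lsl_at (LP (LK LD1_c4 LD2_c44 LD3_c24))
theorem f703252 : Led Lsl_at (LP (LK LD1_c4 LD2_c44 LD3_c24)) = v13487 :=
  Lrfl
def v5887 : LQ := Led Lsl_at (LP (LK LD1_c3 LD2_c14 LD3_c30))
theorem f649948 : Led Lsl_at (LP (LK LD1_c3 LD2_c14 LD3_c30)) = v5887 :=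
  Lrfl
theorem f649949 : Led Lsl_af (LP (LK LD1_c3 LD2_c14 LD3_c30)) = v5887 :=
  Lgr Lrot0 (Lpr_at (f649948 IH) (Lpn v5887))
theorem f703255 : Led Lsl_ff v5887 = v13487 :=
  Lgr Lrot30 (Lpe (f649949 IH) (Lpr_ft (K58.f507572 IH) (Lpr_at (f703252 IH) (Lpn v13487))))
theorem f703258 : Led Lsl_ft v5887 = v13487 :=
  Lgr Lrot48 (Lpr_ff (f703255 IH) (Lpn v13487))
theorem f703253 : Led Lsl_af (LP (LK LD1_c4 LD2_c44 LD3_c24)) = v13487 :=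
  Lgr Lrot0 (Lpr_at (f703252 IH) (Lpn v13487))
def v13486 : LQ := Led Lsl_gf (LP (LK LD1_c4 LD2_c44 LD3_c24))
theorem f703249 : Led Lsl_gf (LP (LK LD1_c4 LD2_c44 LD3_c24)) = v13486 :=
  Lrfl
theorem f703260 : Led Lsl_gt v5887 = v13486 :=
  Lgr Lrot5 (Lpr_ft (f703258 IH) (Lpe (f703253 IH) (Lpr_gf (f703249 IH) (Lpn v13486))))
theorem f649950 : Led Lsl_cf K58.v2025 = v5887 :=
  Lgr Lrot1 (Lpe (K58.f507824 IH) (Lpr_ct (K58.f22736 IH) (Lpr_at (f649948 IH) (Lpn v5887))))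
theorem f649951 : Led Lsl_ct K58.v2025 = v5887 :=
  Lgr Lrot59 (Lpr_cf (f649950 IH) (Lpn v5887))
theorem f633002 : Led Lsl_gf K58.v2025 = v4375 :=
  Lgr Lrot76 (Lpe (K58.f507823 IH) (Lpr_ff (K58.f507602 IH) (Lpr_gt (f633001 IH) (Lpn v4375))))
theorem f151929 : Led Lsl_ct (LP (LK LD1_c2 LD2_c20 LD3_c11)) = (LP (LK LD1_c4 LD2_c44 LD3_c24)) :=
  Lre_c IH (LK LD1_c2 LD2_c20 LD3_c11) (LK LD1_c4 LD2_c44 LD3_c24) Lrfl Lrfl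
theorem f151926 : Led Lsl_bt (LP (LK LD1_c2 LD2_c20 LD3_c11)) = (LP (LK LD1_c1 LD2_c7 LD3_c21)) :=
  Lre_b IH (LK LD1_c2 LD2_c20 LD3_c11) (LK LD1_c1 LD2_c7 LD3_c21) Lrfl Lrfl
def v8335 : LQ := Led Lsl_bt K58.v1989
theorem f670841 : Led Lsl_bt K58.v1989 = v8335 :=
  Lrfl
theorem f670842 : Led Lsl_bf K58.v1989 = v8335 :=
  Lgr Lrot24 (Lpr_bt (f670841 IH) (Lpn v8335))
theorem f703250 : Led Lsl_ct v8335 = v13486 :=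
  Lgr Lrot64 (Lpe (f670842 IH) (Lpe (K58.f506772 IH) (Lpe (K50.f140750 IH) (Lpr_ct (K32.f82683 IH) (Lpr_gf (K24.f436239 IH) (Lpe (K7.f22517 IH) (Lpe (K24.f151924 IH) (Lpe (f151926 IH) (Lpr_ct (f151929 IH) (Lpr_gf (f703249 IH) (Lpn v13486)))))))))))
theorem f703251 : Led Lsl_cf v8335 = v13486 :=
  Lgr Lrot11 (Lpr_ct (f703250 IH) (Lpn v13486))
def v8337 : LQ := Led Lsl_dt K58.v1989
theorem f670845 : Led Lsl_dt K58.v1989 = v8337 :=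
  Lrfl
theorem f670846 : Led Lsl_df K58.v1989 = v8337 :=
  Lgr Lrot38 (Lpr_dt (f670845 IH) (Lpn v8337))
def v5770 : LQ := Led Lsl_ft (LP (LK LD1_c3 LD2_c13 LD3_c7))
theorem f649284 : Led Lsl_ft (LP (LK LD1_c3 LD2_c13 LD3_c7)) = v5770 :=
  Lrfl
theorem f649286 : Led Lsl_ff (LP (LK LD1_c3 LD2_c13 LD3_c7)) = v5770 :=
  Lgr Lrot3 (Lpr_ft (f649284 IH) (Lpn v5770))
theorem f703182 : Led Lsl_df v5770 = v5770 :=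
  Lgr Lrot78 (Lpe (f649286 IH) (Lpr_dt (K50.f649280 IH) (Lpqs (K50.f703180 IH) (Lpr_ft (f649284 IH) (Lpn v5770)))))
theorem f649285 : Led Lsl_af K58.v1989 = v5770 :=
  Lgr Lrot45 (Lpr_ft (K58.f649275 IH) (Lpe (K58.f649274 IH) (Lpr_ft (f649284 IH) (Lpn v5770))))
theorem f649287 : Led Lsl_at K58.v1989 = v5770 :=
  Lgr Lrot66 (Lpr_ff (K58.f649276 IH) (Lpe (K58.f649273 IH) (Lpr_ff (f649286 IH) (Lpn v5770))))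
theorem f703183 : v8337 = K58.v1989 :=
  (Llr Lrot44 (Lpe (f670845 IH) (Lpr_af (f649285 IH) (Lpr_df (f703182 IH) (Lpe (f649287 IH) (Lpn K58.v1989)))))).symm
theorem f703185 : Led Lsl_df v8335 = v8335 :=
  Lgr Lrot12 (Lpe (f670842 IH) (Lpq (f703183 IH) (Lpe (f670846 IH) (Lpr_bt (f670841 IH) (Lpn v8335)))))
theorem f703261 : Led Lsl_dt v4375 = v4375 :=
  Lgr Lrot6 (Lpe (f633002 IH) (Lpr_ct (f649951 IH) (Lpr_gt (f703260 IH) (Lpe (f703251 IH) (Lpr_df (f703185 IH) (Lpr_cf (f703251 IH) (Lpe (f703260 IH) (Lpe (f649951 IH) (Lpr_gf (f633002 IH) (Lpn v4375))))))))))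
theorem f68424 : Led Lsl_dt (LP (LK LD1_c1 LD2_c33 LD3_c46)) = (LP (LK LD1_c3 LD2_c14 LD3_c31)) :=
  Lre_d IH (LK LD1_c1 LD2_c33 LD3_c46) (LK LD1_c3 LD2_c14 LD3_c31) Lrfl Lrfl
theorem f649956 : Led Lsl_df K58.v2025 = v5890 :=
  Lgr Lrot18 (Lpe (K58.f507824 IH) (Lpr_dt (f68424 IH) (Lpr_at (f649954 IH) (Lpn v5890))))
def v10100 : LQ := Led Lsl_et v3182
theorem f678828 : Led Lsl_et v3182 = v10100 :=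
  Lrfl
theorem f678829 : Led Lsl_ef v3182 = v10100 :=
  Lgr Lrot88 (Lpr_et (f678828 IH) (Lpn v10100))
theorem f705122 : Led Lsl_dt v10100 = v13830 :=
  Lgr Lrot136 (Lpe (f678829 IH) (Lpr_gf (f633518 IH) (Lpr_ef (f649957 IH) (Lpe (f649956 IH) (Lpr_gf (f633002 IH) (Lpe (f703261 IH) (Lpe (f633001 IH) (Lpe (f507605 IH) (Lpr_dt (f417111 IH) (Lpr_gf (f705120 IH) (Lpn v13830)))))))))))
theorem f771726 : v10100 = (LP (LK LD1_c1 LD2_c35 LD3_c17)) :=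
  Lefun (Lecon (f678828 IH) (f771654 IH)) (Lfl_ef (K4.f118612 IH))
theorem f771804 : v13830 = (LP (LK LD1_c3 LD2_c17 LD3_c26)) :=
  Lefun (Lecon (f705122 IH) (f771726 IH)) (K4.f118025 IH)
theorem f771870 : (LP (LK LD1_c4 LD2_c48 LD3_c36)) = K46.v6001 :=
  Lefun (Lecon (Lfl_gf (f705120 IH)) (f771804 IH)) (K46.f650474 IH)
theorem f417079 : Led Lsl_bt (LP (LK LD1_c2 LD2_c22 LD3_c12)) = (LP (LK LD1_c4 LD2_c48 LD3_c36)) :=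
  Lre_b IH (LK LD1_c2 LD2_c22 LD3_c12) (LK LD1_c4 LD2_c48 LD3_c36) Lrfl Lrfl
theorem f506497 : Led Lsl_bt (LP (LK LD1_c1 LD2_c32 LD3_c9)) = K57.v1940 :=
  Lgr Lrot35 (Lpe (K32.f69067 IH) (Lpe (K57.f153706 IH) (Lpr_ff (K58.f506496 IH) (Lpn K57.v1940))))
def v8220 : LQ := Led Lsl_gt K57.v1927
theorem f670406 : Led Lsl_gt K57.v1927 = v8220 :=
  Lrfl
theorem f670407 : Led Lsl_gf K57.v1940 = v8220 :=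
  Lgr Lrot76 (Lpr_af (K58.f648469 IH) (Lpe (K57.f648473 IH) (Lpr_gt (f670406 IH) (Lpn v8220))))
theorem f773298 : v8220 = v5604 :=
  (Llr Lrot124 (Lpe (f670407 IH) (Lpe (f506497 IH) (Lpr_ct (K16.f69087 IH) (Lpr_gt (K32.f435281 IH) (Lpr_cf (K32.f417063 IH) (Lpr_bt (f417079 IH) (Lpqs (f771870 IH) (Lpe (K46.f650473 IH) (Lpr_ct (K4.f118033 IH) (Lpr_gt (K56.f118086 IH) (Lpe (K58.f769415 IH) (Lpr_bt (f773295 IH) (Lpn v5604)))))))))))))).symm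
def v8221 : LQ := Led Lsl_gf K57.v1927
theorem f670408 : Led Lsl_gf K57.v1927 = v8221 :=
  Lrfl
theorem f435786 : Led Lsl_at (LP (LK LD1_c1 LD2_c31 LD3_c42)) = (LP (LK LD1_c0 LD2_c42 LD3_c33)) :=
  Lre_a IH (LK LD1_c1 LD2_c31 LD3_c42) (LK LD1_c0 LD2_c42 LD3_c33) Lrfl Lrfl
theorem f131381 : Led Lsl_et (LP (LK LD1_c0 LD2_c42 LD3_c33)) = (LP (LK LD1_c1 LD2_c31 LD3_c51)) :=
  Lre_e IH (LK LD1_c0 LD2_c42 LD3_c33) (LK LD1_c1 LD2_c31 LD3_c51) Lrfl Lrfl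
theorem f506427 : Led Lsl_at (LP (LK LD1_c1 LD2_c31 LD3_c51)) = K57.v1927 :=
  Lgr Lrot80 (Lpe (f131381 IH) (Lpe (f435786 IH) (Lpr_ef (K57.f506426 IH) (Lpn K57.v1927))))
theorem f670409 : Led Lsl_gt K57.v1940 = v8221 :=
  Lgr Lrot5 (Lpe (K58.f506496 IH) (Lpr_at (f506427 IH) (Lpr_gf (f670408 IH) (Lpn v8221))))
theorem f773299 : v5607 = v8221 :=
  (Llr Lrot26 (Lpe (f648490 IH) (Lpr_ff (f648481 IH) (Lpq (f773298 IH) (Lpe (f670407 IH) (Lpr_gt (f670409 IH) (Lpn v8221))))))).symm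
theorem f84454 : Led Lsl_ct (LP (LK LD1_c2 LD2_c22 LD3_c6)) = (LP (LK LD1_c4 LD2_c48 LD3_c27)) :=
  Lre_c IH (LK LD1_c2 LD2_c22 LD3_c6) (LK LD1_c4 LD2_c48 LD3_c27) Lrfl Lrfl
theorem f84474 : Led Lsl_gt (LP (LK LD1_c9 LD2_c29 LD3_c35)) = (LP (LK LD1_c4 LD2_c48 LD3_c27)) :=
  Lre_g IH (LK LD1_c9 LD2_c29 LD3_c35) (LK LD1_c4 LD2_c48 LD3_c27) Lrfl Lrfl
theorem f773304 : Led Lsl_ct v18056 = (LP (LK LD1_c9 LD2_c29 LD3_c35)) :=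
  Lgr Lrot64 (Lpe (f764826 IH) (Lpqs (f773299 IH) (Lpe (f670409 IH) (Lpe (f506497 IH) (Lpr_ct (K16.f69087 IH) (Lpr_gf (K32.f154567 IH) (Lpe (K32.f435473 IH) (Lpe (K32.f23262 IH) (Lpe (K5.f84338 IH) (Lpr_ct (f84454 IH) (Lpe (f84474 IH) (Lpn (LP (LK LD1_c9 LD2_c29 LD3_c35))))))))))))))
theorem f416841 : Led Lsl_ct (LP (LK LD1_c12 LD2_c24 LD3_c16)) = (LP (LK LD1_c6 LD2_c26 LD3_c5)) :=
  Lre_c IH (LK LD1_c12 LD2_c24 LD3_c16) (LK LD1_c6 LD2_c26 LD3_c5) Lrfl Lrfl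
theorem f773308 : Led Lsl_ff (LP (LK LD1_c12 LD2_c24 LD3_c16)) = (LP (LK LD1_c9 LD2_c29 LD3_c35)) :=
  Lgr Lrot23 (Lpr_ct (f416841 IH) (Lpr_ft (f764825 IH) (Lpr_ct (f773304 IH) (Lpn (LP (LK LD1_c9 LD2_c29 LD3_c35))))))
theorem f84475 : Led Lsl_gt (LP (LK LD1_c4 LD2_c48 LD3_c27)) = (LP (LK LD1_c9 LD2_c29 LD3_c34)) :=
  Lre_g IH (LK LD1_c4 LD2_c48 LD3_c27) (LK LD1_c9 LD2_c29 LD3_c34) Lrfl Lrfl
theorem f773319 : Led Lsl_at (LP (LK LD1_c12 LD2_c24 LD3_c16)) = (LP (LK LD1_c9 LD2_c29 LD3_c34)) :=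
  Lgr Lrot26 (Lpr_ff (f773308 IH) (Lpr_gt (f84474 IH) (Lpr_gt (f84475 IH) (Lpn (LP (LK LD1_c9 LD2_c29 LD3_c34))))))
theorem f648477 : Led Lsl_at (LP (LK LD1_c12 LD2_c24 LD3_c15)) = (LP (LK LD1_c6 LD2_c26 LD3_c5)) :=
  Lre_a IH (LK LD1_c12 LD2_c24 LD3_c15) (LK LD1_c6 LD2_c26 LD3_c5) Lrfl Lrfl
theorem f773323 : Led Lsl_cf (LP (LK LD1_c12 LD2_c24 LD3_c15)) = (LP (LK LD1_c9 LD2_c29 LD3_c34)) :=
  Lgr Lrot1 (Lpr_at (f648477 IH) (Lpr_ct (K57.f416833 IH) (Lpr_at (f773319 IH) (Lpn (LP (LK LD1_c9 LD2_c29 LD3_c34))))))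
theorem f773333 : Led Lsl_ct (LP (LK LD1_c12 LD2_c24 LD3_c15)) = (LP (LK LD1_c9 LD2_c29 LD3_c34)) :=
  Lgr Lrot59 (Lpr_cf (f773323 IH) (Lpn (LP (LK LD1_c9 LD2_c29 LD3_c34))))
theorem f151938 : Led Lsl_bt (LP (LK LD1_c4 LD2_c48 LD3_c36)) = (LP (LK LD1_c2 LD2_c22 LD3_c12)) :=
  Lre_b IH (LK LD1_c4 LD2_c48 LD3_c36) (LK LD1_c2 LD2_c22 LD3_c12) Lrfl Lrfl
theorem f151939 : Led Lsl_ct (LP (LK LD1_c4 LD2_c48 LD3_c36)) = (LP (LK LD1_c9 LD2_c29 LD3_c45)) :=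
  Lre_c IH (LK LD1_c4 LD2_c48 LD3_c36) (LK LD1_c9 LD2_c29 LD3_c45) Lrfl Lrfl
theorem f773336 : Led Lsl_gt (LP (LK LD1_c13 LD2_c15 LD3_c59)) = (LP (LK LD1_c9 LD2_c29 LD3_c45)) :=
  Lgr Lrot149 (Lpe (K58.f88878 IH) (Lpe (K48.f667408 IH) (Lpr_bf (f773296 IH) (Lpr_ct (f773333 IH) (Lpe (f84475 IH) (Lpe (f84454 IH) (Lpr_bt (K5.f84338 IH) (Lpe (K32.f84331 IH) (Lpe (f151938 IH) (Lpr_ct (f151939 IH) (Lpn (LP (LK LD1_c9 LD2_c29 LD3_c45)))))))))))))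
theorem f88761 : Led Lsl_ft (LP (LK LD1_c13 LD2_c15 LD3_c59)) = (LP (LK LD1_c6 LD2_c59 LD3_c28)) :=
  Lre_f IH (LK LD1_c13 LD2_c15 LD3_c59) (LK LD1_c6 LD2_c59 LD3_c28) Lrfl Lrfl
theorem f88696 : Led Lsl_af (LP (LK LD1_c7 LD2_c48 LD3_c48)) = (LP (LK LD1_c6 LD2_c59 LD3_c28)) :=
  Lgr Lrot68 (Lpr_ct (K4.f88684 IH) (Lpr_at (K3.f88689 IH) (Lpr_ct (K7.f66598 IH) (Lpn (LP (LK LD1_c6 LD2_c59 LD3_c28))))))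
theorem f773340 : Led Lsl_gf (LP (LK LD1_c7 LD2_c48 LD3_c48)) = (LP (LK LD1_c9 LD2_c29 LD3_c45)) :=
  Lgr Lrot76 (Lpr_af (f88696 IH) (Lpe (f88761 IH) (Lpr_gt (f773336 IH) (Lpn (LP (LK LD1_c9 LD2_c29 LD3_c45))))))
def v2147 : LQ := Led Lsl_bt (LP (LK LD1_c1 LD2_c36 LD3_c28))
def v8689 : LQ := Led Lsl_ct v2147
theorem f672007 : Led Lsl_ct v2147 = v8689 :=
  Lrfl
theorem f509224 : Led Lsl_bt (LP (LK LD1_c1 LD2_c36 LD3_c28)) = v2147 :=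
  Lrfl
theorem f509226 : Led Lsl_ff (LP (LK LD1_c4 LD2_c48 LD3_c36)) = v2147 :=
  Lgr Lrot25 (Lpr_bt (f151938 IH) (Lpe (K35.f507176 IH) (Lpr_bt (f509224 IH) (Lpn v2147))))
theorem f509228 : Led Lsl_ft (LP (LK LD1_c4 LD2_c48 LD3_c36)) = v2147 :=
  Lgr Lrot48 (Lpr_ff (f509226 IH) (Lpn v2147))
theorem f417067 : Led Lsl_ct (LP (LK LD1_c9 LD2_c29 LD3_c45)) = (LP (LK LD1_c4 LD2_c48 LD3_c36)) :=
  Lre_c IH (LK LD1_c9 LD2_c29 LD3_c45) (LK LD1_c4 LD2_c48 LD3_c36) Lrfl Lrfl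
theorem f672010 : Led Lsl_ff (LP (LK LD1_c9 LD2_c29 LD3_c45)) = v8689 :=
  Lgr Lrot23 (Lpr_ct (f417067 IH) (Lpr_ft (f509228 IH) (Lpr_ct (f672007 IH) (Lpn v8689))))
theorem f672012 : Led Lsl_ft (LP (LK LD1_c9 LD2_c29 LD3_c45)) = v8689 :=
  Lgr Lrot48 (Lpr_ff (f672010 IH) (Lpn v8689))
theorem f771964 : (LP (LK LD1_c3 LD2_c17 LD3_c23)) = v2147 :=
  Lefun (Lecon (Lfl_ff (K46.f651044 IH)) ((K46.f651807 IH).trans (f771870 IH).symm)) (f509228 IH)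
theorem f772018 : v8689 = (LP (LK LD1_c6 LD2_c38 LD3_c5)) :=
  Lefun (Lecon (f672007 IH) (f771964 IH).symm) (f119491 IH)
theorem f651768 : Led Lsl_at (LP (LK LD1_c6 LD2_c38 LD3_c5)) = (LP (LK LD1_c12 LD2_c37 LD3_c4)) :=
  Lgr Lrot100 (Lpr_af (f651766 IH) (Lpn (LP (LK LD1_c12 LD2_c37 LD3_c4))))
theorem f773348 : Led Lsl_gt (LP (LK LD1_c7 LD2_c48 LD3_c48)) = (LP (LK LD1_c12 LD2_c37 LD3_c4)) :=
  Lgr Lrot46 (Lpr_gf (f773340 IH) (Lpr_ft (f672012 IH) (Lpqs (f772018 IH) (Lpr_at (f651768 IH) (Lpn (LP (LK LD1_c12 LD2_c37 LD3_c4)))))))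
def v13831 : LQ := Led Lsl_at (LP (LK LD1_c4 LD2_c48 LD3_c36))
theorem f705124 : Led Lsl_at (LP (LK LD1_c4 LD2_c48 LD3_c36)) = v13831 :=
  Lrfl
def v8688 : LQ := Led Lsl_at v2147
theorem f672005 : Led Lsl_at v2147 = v8688 :=
  Lrfl
theorem f672006 : Led Lsl_af v2147 = v8688 :=
  Lgr Lrot0 (Lpr_at (f672005 IH) (Lpn v8688))
theorem f705128 : Led Lsl_ff v8688 = v13831 :=
  Lgr Lrot30 (Lpe (f672006 IH) (Lpe (f509226 IH) (Lpr_at (f705124 IH) (Lpn v13831))))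
theorem f705130 : Led Lsl_ft v8688 = v13831 :=
  Lgr Lrot48 (Lpr_ff (f705128 IH) (Lpn v13831))
theorem f705125 : Led Lsl_af (LP (LK LD1_c4 LD2_c48 LD3_c36)) = v13831 :=
  Lgr Lrot0 (Lpr_at (f705124 IH) (Lpn v13831))
theorem f705132 : Led Lsl_gt v8688 = v13830 :=
  Lgr Lrot5 (Lpr_ft (f705130 IH) (Lpe (f705125 IH) (Lpr_gf (f705120 IH) (Lpn v13830))))
theorem f771872 : v8688 = (LP (LK LD1_c6 LD2_c35 LD3_c32)) :=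
  Lefun (Lecon (Lfl_gt (f705132 IH)) (f771804 IH)) (K46.f118246 IH)
def v4480 : LQ := Led Lsl_bt (LP (LK LD1_c2 LD2_c22 LD3_c11))
theorem f634109 : Led Lsl_bt (LP (LK LD1_c2 LD2_c22 LD3_c11)) = v4480 :=
  Lrfl
theorem f634110 : Led Lsl_bf (LP (LK LD1_c2 LD2_c22 LD3_c11)) = v4480 :=
  Lgr Lrot24 (Lpr_bt (f634109 IH) (Lpn v4480))
def v13640 : LQ := Led Lsl_dt (LP (LK LD1_c4 LD2_c46 LD3_c11))
theorem f704022 : Led Lsl_dt (LP (LK LD1_c4 LD2_c46 LD3_c11)) = v13640 :=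
  Lrfl
theorem f704023 : Led Lsl_df (LP (LK LD1_c4 LD2_c46 LD3_c11)) = v13640 :=
  Lgr Lrot38 (Lpr_dt (f704022 IH) (Lpn v13640))
theorem f57143 : Led Lsl_bt (LP (LK LD1_c3 LD2_c20 LD3_c7)) = (LP (LK LD1_c1 LD2_c36 LD3_c29)) :=
  Lre_b IH (LK LD1_c3 LD2_c20 LD3_c7) (LK LD1_c1 LD2_c36 LD3_c29) Lrfl Lrfl
theorem f634112 : Led Lsl_ff (LP (LK LD1_c3 LD2_c20 LD3_c7)) = v4480 :=
  Lgr Lrot25 (Lpr_bt (f57143 IH) (Lpe (K49.f507291 IH) (Lpr_bt (f634109 IH) (Lpn v4480))))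
theorem f634113 : Led Lsl_dt (LP (LK LD1_c6 LD2_c32 LD3_c34)) = v4480 :=
  Lgr Lrot60 (Lpe (K58.f506931 IH) (Lpe (K58.f443011 IH) (Lpr_ff (f634112 IH) (Lpn v4480))))
theorem f758472 : Led Lsl_at (LP (LK LD1_c12 LD2_c11 LD3_c17)) = (LP (LK LD1_c6 LD2_c17 LD3_c34)) :=
  Lgr Lrot66 (Lpr_ff (K57.f758470 IH) (Lpr_af (K57.f758253 IH) (Lpe (K57.f758256 IH) (Lpn (LP (LK LD1_c6 LD2_c17 LD3_c34))))))
theorem f758478 : Led Lsl_gf (LP (LK LD1_c6 LD2_c17 LD3_c34)) = K57.v17300 :=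
  Lgr Lrot76 (Lpe (f758472 IH) (Lpr_ff (K57.f758470 IH) (Lpr_gt (K57.f758247 IH) (Lpn K57.v17300))))
theorem f113758 : Led Lsl_ff (LP (LK LD1_c1 LD2_c7 LD3_c43)) = (LP (LK LD1_c0 LD2_c31 LD3_c6)) :=
  Lgr Lrot23 (Lpr_ct (K3.f61886 IH) (Lpr_ft (K4.f113754 IH) (Lpr_ct (K3.f13803 IH) (Lpn (LP (LK LD1_c0 LD2_c31 LD3_c6))))))
theorem f633171 : Led Lsl_ef (LP (LK LD1_c2 LD2_c20 LD3_c61)) = K58.v4406 :=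
  Lgr Lrot21 (Lpr_ft (K4.f113661 IH) (Lpr_et (K58.f78489 IH) (Lpe (f113758 IH) (Lpr_et (K5.f91347 IH) (Lpr_ft (K58.f633169 IH) (Lpn K58.v4406))))))
theorem f703528 : Led Lsl_ff (LP (LK LD1_c4 LD2_c45 LD3_c9)) = K50.v13543 :=
  Lgr Lrot3 (Lpr_ft (K50.f703525 IH) (Lpn K50.v13543))
theorem f703534 : Led Lsl_dt K58.v4406 = K50.v13543 :=
  Lgr Lrot60 (Lpe (K58.f633169 IH) (Lpe (K5.f91341 IH) (Lpr_ff (f703528 IH) (Lpn K50.v13543))))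
theorem f133218 : Led Lsl_at (LP (LK LD1_c4 LD2_c45 LD3_c9)) = (LP (LK LD1_c2 LD2_c21 LD3_c6)) :=
  Lgr Lrot100 (Lpr_af (K5.f133214 IH) (Lpn (LP (LK LD1_c2 LD2_c21 LD3_c6))))
theorem f79507 : Led Lsl_ft (LP (LK LD1_c2 LD2_c21 LD3_c6)) = (LP (LK LD1_c4 LD2_c46 LD3_c14)) :=
  Lre_f IH (LK LD1_c2 LD2_c21 LD3_c6) (LK LD1_c4 LD2_c46 LD3_c14) Lrfl Lrfl
theorem f703533 : Led Lsl_at (LP (LK LD1_c4 LD2_c46 LD3_c14)) = K50.v13543 :=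
  Lgr Lrot66 (Lpe (f79507 IH) (Lpe (f133218 IH) (Lpr_ff (f703528 IH) (Lpn K50.v13543))))
theorem f78037 : Led Lsl_gt (LP (LK LD1_c2 LD2_c21 LD3_c6)) = (LP (LK LD1_c4 LD2_c46 LD3_c11)) :=
  Lre_g IH (LK LD1_c2 LD2_c21 LD3_c6) (LK LD1_c4 LD2_c46 LD3_c11) Lrfl Lrfl
theorem f703536 : Led Lsl_gt (LP (LK LD1_c4 LD2_c46 LD3_c11)) = K50.v13543 :=
  Lgr Lrot46 (Lpe (f78037 IH) (Lpr_ft (f79507 IH) (Lpr_at (f703533 IH) (Lpn K50.v13543))))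
theorem f758479 : Led Lsl_gt (LP (LK LD1_c6 LD2_c17 LD3_c35)) = v13640 :=
  Lgr Lrot137 (Lpe (K57.f647046 IH) (Lpr_dt (K57.f58325 IH) (Lpr_gf (f758478 IH) (Lpe (K57.f758249 IH) (Lpe (K57.f703492 IH) (Lpr_gf (K58.f113664 IH) (Lpr_ef (f633171 IH) (Lpr_dt (f703534 IH) (Lpe (f703536 IH) (Lpr_df (f704023 IH) (Lpn v13640)))))))))))
theorem f770536 : (LP (LK LD1_c6 LD2_c32 LD3_c34)) = v13640 :=
  Lefun (Lecon (Lfl_gf (K58.f768284 IH)) (K58.f770517 IH).symm) (f758479 IH)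
theorem f770556 : (LP (LK LD1_c4 LD2_c46 LD3_c11)) = v4480 :=
  Lefun (Lecon (Lfl_df (f704023 IH)) (f770536 IH).symm) (f634113 IH)
def v13638 : LQ := Led Lsl_at (LP (LK LD1_c4 LD2_c46 LD3_c11))
theorem f704014 : Led Lsl_at (LP (LK LD1_c4 LD2_c46 LD3_c11)) = v13638 :=
  Lrfl
theorem f704015 : Led Lsl_af (LP (LK LD1_c4 LD2_c46 LD3_c11)) = v13638 :=
  Lgr Lrot0 (Lpr_at (f704014 IH) (Lpn v13638))
theorem f507133 : Led Lsl_af (LP (LK LD1_c1 LD2_c36 LD3_c28)) = (LP (LK LD1_c2 LD2_c22 LD3_c11)) :=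
  Lgr Lrot117 (Lpr_dt (K16.f62599 IH) (Lpr_at (K35.f446168 IH) (Lpr_dt (K35.f507131 IH) (Lpn (LP (LK LD1_c2 LD2_c22 LD3_c11))))))
theorem f770579 : Led Lsl_bf v13638 = v8688 :=
  Lgr Lrot81 (Lpe (f704015 IH) (Lpqs (f770556 IH) (Lpe (f634110 IH) (Lpe (f507133 IH) (Lpr_bt (f509224 IH) (Lpr_at (f672005 IH) (Lpn v8688)))))))
theorem f774051 : v13638 = (LP (LK LD1_c9 LD2_c22 LD3_c59)) :=
  (Llr Lrot22 (Lpr_bf (f770579 IH) (Lpqs (f771872 IH) (Lpr_ct (f118249 IH) (Lpe (f773348 IH) (Lpe (K58.f88692 IH) (Lpr_gf (K58.f667402 IH) (Lpq (f772268 IH) (Lpe (f670484 IH) (Lpr_ct (f670486 IH) (Lpe (f764851 IH) (Lpr_cf (f774049 IH) (Lpe (f704035 IH) (Lpe (K50.f703529 IH) (Lpn (LP (LK LD1_c9 LD2_c22 LD3_c59))))))))))))))))).symm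
theorem f704017 : Led Lsl_ft (LP (LK LD1_c4 LD2_c46 LD3_c12)) = v13638 :=
  Lgr Lrot2 (Lpr_gt (K58.f78275 IH) (Lpr_gt (f78037 IH) (Lpr_af (f704015 IH) (Lpn v13638))))
theorem f774060 : Led Lsl_df K58.v18737 = (LP (LK LD1_c9 LD2_c22 LD3_c59)) :=
  Lgr Lrot78 (Lpe (K58.f768264 IH) (Lpqs (K58.f770467 IH) (Lpe (K58.f668804 IH) (Lpr_ft (f704017 IH) (Lpqs (f774051 IH) (Lpn (LP (LK LD1_c9 LD2_c22 LD3_c59))))))))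
theorem f768266 : Led Lsl_gf v5883 = K58.v18737 :=
  Lgr Lrot47 (Lpe (f649940 IH) (Lpr_af (K58.f649942 IH) (Lpr_ff (K58.f768264 IH) (Lpn K58.v18737))))
theorem f102177 : Led Lsl_et (LP (LK LD1_c2 LD2_c21 LD3_c38)) = (LP (LK LD1_c4 LD2_c45 LD3_c9)) :=
  Lgr Lrot71 (Lpe (K5.f7475 IH) (Lpr_ef (K4.f102171 IH) (Lpr_df (K3.f99133 IH) (Lpe (K7.f91322 IH) (Lpe (K5.f91341 IH) (Lpn (LP (LK LD1_c4 LD2_c45 LD3_c9))))))))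
theorem f102229 : Led Lsl_et (LP (LK LD1_c1 LD2_c8 LD3_c2)) = (LP (LK LD1_c2 LD2_c21 LD3_c36)) :=
  Lre_e IH (LK LD1_c1 LD2_c8 LD3_c2) (LK LD1_c2 LD2_c21 LD3_c36) Lrfl Lrfl
theorem f758611 : Led Lsl_dt K58.v13633 = K58.v17310 :=
  Lgr Lrot60 (Lpr_ff (K58.f758604 IH) (Lpe (K58.f758599 IH) (Lpr_ff (K58.f758609 IH) (Lpn K58.v17310))))
theorem f774063 : v5883 = K58.v17310 :=
  (Llr Lrot139 (Lpr_gf (f768266 IH) (Lpr_df (f774060 IH) (Lpe (K50.f91343 IH) (Lpe (f102177 IH) (Lpr_dt (K5.f102185 IH) (Lpe (K4.f7474 IH) (Lpe (K5.f79597 IH) (Lpr_et (f102229 IH) (Lpe (K51.f99146 IH) (Lpr_ef (K58.f704562 IH) (Lpqs (K58.f758613 IH) (Lpr_dt (f758611 IH) (Lpn K58.v17310)))))))))))))).symm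
theorem f774065 : (LP (LK LD1_c6 LD2_c17 LD3_c35)) = v18738 :=
  Lefun (Lecon (Lfl_ff (K58.f758609 IH)) (f774063 IH).symm) (f768269 IH)
theorem f774067 : Led Lsl_at (LP (LK LD1_c6 LD2_c32 LD3_c33)) = (LP (LK LD1_c6 LD2_c17 LD3_c35)) :=
  Leop (Lpqs (f774065 IH) (Lpe (f768267 IH) (Lpn (LP (LK LD1_c6 LD2_c32 LD3_c33)))))
theorem seed_1362 : LEOK LG_a (LK LD1_c6 LD2_c32 LD3_c33) :=
  Leoe_a (LK LD1_c6 LD2_c32 LD3_c33) (f774067 IH)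
def v18742 : LQ := Led Lsl_ft (LP (LK LD1_c6 LD2_c32 LD3_c33))
theorem f768278 : Led Lsl_ft (LP (LK LD1_c6 LD2_c32 LD3_c33)) = v18742 :=
  Lrfl
theorem f758606 : Led Lsl_af (LP (LK LD1_c9 LD2_c16 LD3_c61)) = K58.v17310 :=
  Lgr Lrot45 (Lpr_ft (K57.f758159 IH) (Lpe (K57.f758262 IH) (Lpr_ft (K58.f758605 IH) (Lpn K58.v17310))))
theorem f768280 : Led Lsl_ff (LP (LK LD1_c6 LD2_c32 LD3_c33)) = v18742 :=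
  Lgr Lrot3 (Lpr_ft (f768278 IH) (Lpn v18742))
theorem f768270 : Led Lsl_ff v5883 = v18738 :=
  Lgr Lrot3 (Lpr_ft (f768269 IH) (Lpn v18738))
theorem f768281 : Led Lsl_at v5883 = v18742 :=
  Lgr Lrot66 (Lpr_ff (f768270 IH) (Lpe (f768267 IH) (Lpr_ff (f768280 IH) (Lpn v18742))))
theorem f774064 : (LP (LK LD1_c9 LD2_c16 LD3_c61)) = v18742 :=
  Lefun (Lecon (Lfl_af (f758606 IH)) (f774063 IH).symm) (f768281 IH)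
theorem f774069 : Led Lsl_ft (LP (LK LD1_c6 LD2_c32 LD3_c33)) = (LP (LK LD1_c9 LD2_c16 LD3_c61)) :=
  Leop (Lpqs (f774064 IH) (Lpe (f768278 IH) (Lpn (LP (LK LD1_c6 LD2_c32 LD3_c33)))))
theorem seed_1363 : LEOK LG_f (LK LD1_c6 LD2_c32 LD3_c33) :=
  Leoe_f (LK LD1_c6 LD2_c32 LD3_c33) (f774069 IH)
def v18633 : LQ := Led Lsl_et (LP (LK LD1_c6 LD2_c31 LD3_c32))
theorem f767831 : Led Lsl_et (LP (LK LD1_c6 LD2_c31 LD3_c32)) = v18633 :=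
  Lrfl
theorem f767834 : Led Lsl_ef (LP (LK LD1_c6 LD2_c31 LD3_c32)) = v18633 :=
  Lgr Lrot88 (Lpr_et (f767831 IH) (Lpn v18633))
theorem f140016 : Led Lsl_ct (LP (LK LD1_c6 LD2_c17 LD3_c22)) = (LP (LK LD1_c12 LD2_c11 LD3_c16)) :=
  Lre_c IH (LK LD1_c6 LD2_c17 LD3_c22) (LK LD1_c12 LD2_c11 LD3_c16) Lrfl Lrfl
theorem f208234 : Led Lsl_bt (LP (LK LD1_c3 LD2_c12 LD3_c16)) = (LP (LK LD1_c1 LD2_c32 LD3_c39)) :=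
  Lre_b IH (LK LD1_c3 LD2_c12 LD3_c16) (LK LD1_c1 LD2_c32 LD3_c39) Lrfl Lrfl
theorem f128684 : Led Lsl_ct (LP (LK LD1_c3 LD2_c12 LD3_c16)) = (LP (LK LD1_c6 LD2_c28 LD3_c33)) :=
  Lre_c IH (LK LD1_c3 LD2_c12 LD3_c16) (LK LD1_c6 LD2_c28 LD3_c33) Lrfl Lrfl
theorem f708235 : Led Lsl_gt (LP (LK LD1_c12 LD2_c11 LD3_c16)) = (LP (LK LD1_c6 LD2_c28 LD3_c33)) :=
  Lgr Lrot149 (Lpe (f140016 IH) (Lpe (K57.f58584 IH) (Lpe (K1.f58571 IH) (Lpe (K46.f58482 IH) (Lpe (K0.f27074 IH) (Lpr_cf (K46.f140010 IH) (Lpqs (K51.f707626 IH) (Lpe (K51.f648997 IH) (Lpe (K51.f128439 IH) (Lpe (f208234 IH) (Lpr_ct (f128684 IH) (Lpn (LP (LK LD1_c6 LD2_c28 LD3_c33))))))))))))))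
theorem f128565 : Led Lsl_ft (LP (LK LD1_c4 LD2_c44 LD3_c45)) = (LP (LK LD1_c9 LD2_c22 LD3_c10)) :=
  Lre_f IH (LK LD1_c4 LD2_c44 LD3_c45) (LK LD1_c9 LD2_c22 LD3_c10) Lrfl Lrfl
theorem f128669 : Led Lsl_ct (LP (LK LD1_c6 LD2_c28 LD3_c31)) = (LP (LK LD1_c4 LD2_c44 LD3_c45)) :=
  Lgr Lrot40 (Lpe (K5.f128573 IH) (Lpr_cf (K52.f128666 IH) (Lpe (f128565 IH) (Lpn (LP (LK LD1_c4 LD2_c44 LD3_c45))))))
theorem f128672 : Led Lsl_ct (LP (LK LD1_c6 LD2_c28 LD3_c33)) = (LP (LK LD1_c3 LD2_c12 LD3_c16)) :=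
  Lre_c IH (LK LD1_c6 LD2_c28 LD3_c33) (LK LD1_c3 LD2_c12 LD3_c16) Lrfl Lrfl
theorem f128673 : Led Lsl_af (LP (LK LD1_c6 LD2_c28 LD3_c33)) = (LP (LK LD1_c4 LD2_c44 LD3_c45)) :=
  Lgr Lrot68 (Lpr_ct (f128672 IH) (Lpr_at (K51.f128635 IH) (Lpr_ct (f128669 IH) (Lpn (LP (LK LD1_c4 LD2_c44 LD3_c45))))))
theorem f128683 : Led Lsl_ft (LP (LK LD1_c9 LD2_c22 LD3_c10)) = (LP (LK LD1_c4 LD2_c44 LD3_c45)) :=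
  Lre_f IH (LK LD1_c9 LD2_c22 LD3_c10) (LK LD1_c4 LD2_c44 LD3_c45) Lrfl Lrfl
theorem f715581 : Led Lsl_gf (LP (LK LD1_c12 LD2_c11 LD3_c16)) = (LP (LK LD1_c9 LD2_c22 LD3_c10)) :=
  Lgr Lrot47 (Lpr_gt (f708235 IH) (Lpr_af (f128673 IH) (Lpe (f128683 IH) (Lpn (LP (LK LD1_c9 LD2_c22 LD3_c10))))))
theorem f128659 : Led Lsl_ct (LP (LK LD1_c12 LD2_c27 LD3_c61)) = (LP (LK LD1_c9 LD2_c22 LD3_c10)) :=
  Lgr Lrot83 (Lpe (K5.f128622 IH) (Lpe (K5.f126534 IH) (Lpe (K51.f111930 IH) (Lpr_cf (K5.f128652 IH) (Lpe (K52.f128658 IH) (Lpn (LP (LK LD1_c9 LD2_c22 LD3_c10))))))))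
theorem f68184 : Led Lsl_ct (LP (LK LD1_c6 LD2_c29 LD3_c36)) = (LP (LK LD1_c12 LD2_c29 LD3_c13)) :=
  Lre_c IH (LK LD1_c6 LD2_c29 LD3_c36) (LK LD1_c12 LD2_c29 LD3_c13) Lrfl Lrfl
theorem f209484 : Led Lsl_bt (LP (LK LD1_c3 LD2_c13 LD3_c59)) = (LP (LK LD1_c1 LD2_c33 LD3_c35)) :=
  Lre_b IH (LK LD1_c3 LD2_c13 LD3_c59) (LK LD1_c1 LD2_c33 LD3_c35) Lrfl Lrfl
theorem f494951 : Led Lsl_ct (LP (LK LD1_c3 LD2_c13 LD3_c59)) = (LP (LK LD1_c6 LD2_c31 LD3_c31)) :=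
  Lre_c IH (LK LD1_c3 LD2_c13 LD3_c59) (LK LD1_c6 LD2_c31 LD3_c31) Lrfl Lrfl
theorem f709067 : Led Lsl_gt (LP (LK LD1_c6 LD2_c31 LD3_c31)) = (LP (LK LD1_c12 LD2_c29 LD3_c13)) :=
  Lgr Lrot65 (Lpe (f494951 IH) (Lpr_bt (f209484 IH) (Lpe (K48.f209513 IH) (Lpq (K48.f662849 IH) (Lpqs (K52.f708151 IH) (Lpe (K52.f703077 IH) (Lpr_ct (K50.f703079 IH) (Lpq (K50.f703089 IH) (Lpe (K51.f111926 IH) (Lpr_cf (K5.f126529 IH) (Lpe (K52.f126531 IH) (Lpr_bf (K52.f709065 IH) (Lpr_ct (f68184 IH) (Lpn (LP (LK LD1_c12 LD2_c29 LD3_c13))))))))))))))))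
theorem f442200 : Led Lsl_gt (LP (LK LD1_c6 LD2_c31 LD3_c32)) = (LP (LK LD1_c3 LD2_c13 LD3_c59)) :=
  Lre_g IH (LK LD1_c6 LD2_c31 LD3_c32) (LK LD1_c3 LD2_c13 LD3_c59) Lrfl Lrfl
theorem f715584 : Led Lsl_bt (LP (LK LD1_c6 LD2_c17 LD3_c22)) = (LP (LK LD1_c6 LD2_c31 LD3_c32)) :=
  Lgr Lrot130 (Lpr_ct (f140016 IH) (Lpr_gf (f715581 IH) (Lpe (f128659 IH) (Lpe (K5.f128617 IH) (Lpe (K52.f126531 IH) (Lpr_bf (K52.f709065 IH) (Lpr_ct (f68184 IH) (Lpe (f709067 IH) (Lpe (f494951 IH) (Lpe (f442200 IH) (Lpn (LP (LK LD1_c6 LD2_c31 LD3_c32)))))))))))))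
theorem f715586 : Led Lsl_bf (LP (LK LD1_c6 LD2_c17 LD3_c22)) = (LP (LK LD1_c6 LD2_c31 LD3_c32)) :=
  Lgr Lrot24 (Lpr_bt (f715584 IH) (Lpn (LP (LK LD1_c6 LD2_c31 LD3_c32))))
theorem f76650 : Led Lsl_gt (LP (LK LD1_c12 LD2_c29 LD3_c12)) = (LP (LK LD1_c6 LD2_c29 LD3_c41)) :=
  Lre_g IH (LK LD1_c12 LD2_c29 LD3_c12) (LK LD1_c6 LD2_c29 LD3_c41) Lrfl Lrfl
theorem f715588 : Led Lsl_cf (LP (LK LD1_c6 LD2_c29 LD3_c41)) = (LP (LK LD1_c6 LD2_c31 LD3_c32)) :=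
  Lgr Lrot58 (Lpe (f76650 IH) (Lpe (K51.f66910 IH) (Lpr_bt (K51.f76642 IH) (Lpe (K58.f76638 IH) (Lpe (K51.f76651 IH) (Lpe (K51.f438621 IH) (Lpe (K50.f58243 IH) (Lpe (K57.f58384 IH) (Lpe (K46.f58466 IH) (Lpr_bf (f715586 IH) (Lpn (LP (LK LD1_c6 LD2_c31 LD3_c32)))))))))))))
theorem f715595 : Led Lsl_et (LP (LK LD1_c6 LD2_c29 LD3_c41)) = (LP (LK LD1_c12 LD2_c29 LD3_c18)) :=
  Lre_e IH (LK LD1_c6 LD2_c29 LD3_c41) (LK LD1_c12 LD2_c29 LD3_c18) Lrfl Lrfl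
theorem f767836 : Led Lsl_ct (LP (LK LD1_c12 LD2_c29 LD3_c18)) = v18633 :=
  Lgr Lrot15 (Lpe (f715595 IH) (Lpr_cf (f715588 IH) (Lpr_ef (f767834 IH) (Lpn v18633))))
theorem f767837 : Led Lsl_bt (LP (LK LD1_c21 LD2_c35 LD3_c60)) = (LP (LK LD1_c12 LD2_c29 LD3_c18)) :=
  Lre_b IH (LK LD1_c21 LD2_c35 LD3_c60) (LK LD1_c12 LD2_c29 LD3_c18) Lrfl Lrfl
theorem f767832 : Led Lsl_bf K57.v17285 = v18633 :=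
  Lgr Lrot96 (Lpe (K57.f758150 IH) (Lpr_bt (f715584 IH) (Lpr_et (f767831 IH) (Lpn v18633))))
theorem f774066 : (LP (LK LD1_c6 LD2_c32 LD3_c33)) = K57.v17285 :=
  Lefun (Lecon (Lfl_ff (f768280 IH)) (f774064 IH).symm) (K57.f758159 IH)
theorem f442908 : Led Lsl_ct (LP (LK LD1_c6 LD2_c32 LD3_c33)) = (LP (LK LD1_c12 LD2_c32 LD3_c44)) :=
  Lre_c IH (LK LD1_c6 LD2_c32 LD3_c33) (LK LD1_c12 LD2_c32 LD3_c44) Lrfl Lrfl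
theorem f443013 : Led Lsl_bt (LP (LK LD1_c12 LD2_c32 LD3_c44)) = (LP (LK LD1_c21 LD2_c38 LD3_c46)) :=
  Lre_b IH (LK LD1_c12 LD2_c32 LD3_c44) (LK LD1_c21 LD2_c38 LD3_c46) Lrfl Lrfl
theorem f774100 : Led Lsl_cf (LP (LK LD1_c21 LD2_c35 LD3_c60)) = (LP (LK LD1_c21 LD2_c38 LD3_c46)) :=
  Lgr Lrot97 (Lpr_bt (f767837 IH) (Lpr_ct (f767836 IH) (Lpe (f767832 IH) (Lpq (f774066 IH) (Lpr_ct (f442908 IH) (Lpr_bt (f443013 IH) (Lpn (LP (LK LD1_c21 LD2_c38 LD3_c46)))))))))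
theorem f774101 : Led Lsl_ct (LP (LK LD1_c21 LD2_c38 LD3_c46)) = (LP (LK LD1_c21 LD2_c35 LD3_c60)) :=
  Leop (Lpr_cf (f774100 IH) (Lpn (LP (LK LD1_c21 LD2_c38 LD3_c46))))
theorem seed_1364 : LEOK LG_c (LK LD1_c21 LD2_c38 LD3_c46) :=
  Leoe_c (LK LD1_c21 LD2_c38 LD3_c46) (f774101 IH)
def v13628 : LQ := Led Lsl_gt (LP (LK LD1_c4 LD2_c46 LD3_c9))
theorem f703968 : Led Lsl_gt (LP (LK LD1_c4 LD2_c46 LD3_c9)) = v13628 :=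
  Lrfl
theorem f703531 : Led Lsl_ct (LP (LK LD1_c17 LD2_c19 LD3_c26)) = (LP (LK LD1_c9 LD2_c22 LD3_c59)) :=
  Lre_c IH (LK LD1_c17 LD2_c19 LD3_c26) (LK LD1_c9 LD2_c22 LD3_c59) Lrfl Lrfl
theorem f495036 : Led Lsl_ct (LP (LK LD1_c4 LD2_c46 LD3_c11)) = (LP (LK LD1_c9 LD2_c24 LD3_c54)) :=
  Lre_c IH (LK LD1_c4 LD2_c46 LD3_c11) (LK LD1_c9 LD2_c24 LD3_c54) Lrfl Lrfl
theorem f774125 : Led Lsl_af (LP (LK LD1_c17 LD2_c19 LD3_c26)) = (LP (LK LD1_c9 LD2_c24 LD3_c54)) :=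
  Lgr Lrot68 (Lpr_ct (f703531 IH) (Lpq (f774051 IH) (Lpe (f704015 IH) (Lpr_ct (f495036 IH) (Lpn (LP (LK LD1_c9 LD2_c24 LD3_c54)))))))
theorem f774138 : Led Lsl_at (LP (LK LD1_c17 LD2_c19 LD3_c26)) = (LP (LK LD1_c9 LD2_c24 LD3_c54)) :=
  Lgr Lrot100 (Lpr_af (f774125 IH) (Lpn (LP (LK LD1_c9 LD2_c24 LD3_c54))))
theorem f495035 : Led Lsl_ct (LP (LK LD1_c9 LD2_c24 LD3_c56)) = (LP (LK LD1_c4 LD2_c46 LD3_c12)) :=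
  Lre_c IH (LK LD1_c9 LD2_c24 LD3_c56) (LK LD1_c4 LD2_c46 LD3_c12) Lrfl Lrfl
theorem f91344 : Led Lsl_ct (LP (LK LD1_c9 LD2_c22 LD3_c59)) = (LP (LK LD1_c17 LD2_c19 LD3_c26)) :=
  Lre_c IH (LK LD1_c9 LD2_c22 LD3_c59) (LK LD1_c17 LD2_c19 LD3_c26) Lrfl Lrfl
theorem f774058 : Led Lsl_ff (LP (LK LD1_c9 LD2_c24 LD3_c56)) = (LP (LK LD1_c17 LD2_c19 LD3_c26)) :=
  Lgr Lrot23 (Lpr_ct (f495035 IH) (Lpr_ft (f704017 IH) (Lpqs (f774051 IH) (Lpr_ct (f91344 IH) (Lpn (LP (LK LD1_c17 LD2_c19 LD3_c26)))))))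
theorem f774116 : Led Lsl_ft (LP (LK LD1_c9 LD2_c24 LD3_c56)) = (LP (LK LD1_c17 LD2_c19 LD3_c26)) :=
  Lgr Lrot48 (Lpr_ff (f774058 IH) (Lpn (LP (LK LD1_c17 LD2_c19 LD3_c26))))
def v5665 : LQ := Led Lsl_gt (LP (LK LD1_c3 LD2_c11 LD3_c29))
theorem f648747 : Led Lsl_gt (LP (LK LD1_c3 LD2_c11 LD3_c29)) = v5665 :=
  Lrfl
theorem f770172 : (LP (LK LD1_c6 LD2_c18 LD3_c6)) = v5665 :=
  Lefun (Lecon (Lfl_gf (K58.f758886 IH)) ((K58.f769843 IH).trans (K58.f770165 IH).symm)) (f648747 IH)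
theorem f77927 : Led Lsl_ct (LP (LK LD1_c9 LD2_c15 LD3_c52)) = (LP (LK LD1_c17 LD2_c10 LD3_c22)) :=
  Lre_c IH (LK LD1_c9 LD2_c15 LD3_c52) (LK LD1_c17 LD2_c10 LD3_c22) Lrfl Lrfl
theorem f770580 : Led Lsl_gf (LP (LK LD1_c9 LD2_c24 LD3_c54)) = (LP (LK LD1_c17 LD2_c10 LD3_c22)) :=
  Lgr Lrot126 (Lpe (f495036 IH) (Lpqs (f770556 IH) (Lpe (f634110 IH) (Lpe (K32.f415367 IH) (Lpr_ct (K32.f57178 IH) (Lpe (K35.f437404 IH) (Lpe (K32.f79744 IH) (Lpr_bt (K58.f79740 IH) (Lpr_gt (f648747 IH) (Lpq (f770172 IH) (Lpe (K7.f77915 IH) (Lpr_ct (f77927 IH) (Lpn (LP (LK LD1_c17 LD2_c10 LD3_c22)))))))))))))))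
theorem f774141 : Led Lsl_gt (LP (LK LD1_c9 LD2_c24 LD3_c56)) = (LP (LK LD1_c17 LD2_c10 LD3_c22)) :=
  Lgr Lrot5 (Lpr_ft (f774116 IH) (Lpr_at (f774138 IH) (Lpr_gf (f770580 IH) (Lpn (LP (LK LD1_c17 LD2_c10 LD3_c22))))))
theorem f495034 : Led Lsl_ct (LP (LK LD1_c4 LD2_c46 LD3_c12)) = (LP (LK LD1_c9 LD2_c24 LD3_c56)) :=
  Lre_c IH (LK LD1_c4 LD2_c46 LD3_c12) (LK LD1_c9 LD2_c24 LD3_c56) Lrfl Lrfl
theorem f703535 : Led Lsl_gf (LP (LK LD1_c4 LD2_c46 LD3_c12)) = K50.v13543 :=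
  Lgr Lrot47 (Lpr_gt (K58.f78275 IH) (Lpe (f133218 IH) (Lpr_ff (f703528 IH) (Lpn K50.v13543))))
theorem f703527 : Led Lsl_df K58.v4406 = K50.v13543 :=
  Lgr Lrot78 (Lpe (K58.f633172 IH) (Lpr_dt (K5.f91329 IH) (Lpr_ft (K50.f703525 IH) (Lpn K50.v13543))))
theorem f774146 : v13628 = (LP (LK LD1_c2 LD2_c21 LD3_c13)) :=
  (Llr Lrot150 (Lpe (f703968 IH) (Lpe (f633178 IH) (Lpr_gf (K58.f633177 IH) (Lpr_df (f703527 IH) (Lpe (f703535 IH) (Lpr_ct (f495034 IH) (Lpr_gt (f774141 IH) (Lpr_ct (f77923 IH) (Lpe (K7.f77913 IH) (Lpe (K5.f78353 IH) (Lpn (LP (LK LD1_c2 LD2_c21 LD3_c13)))))))))))))).symm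
theorem f774149 : Led Lsl_gt (LP (LK LD1_c4 LD2_c46 LD3_c9)) = (LP (LK LD1_c2 LD2_c21 LD3_c13)) :=
  Leop (Lpq (f774146 IH) (Lpe (f703968 IH) (Lpn (LP (LK LD1_c4 LD2_c46 LD3_c9)))))
theorem seed_1365 : LEOK LG_g (LK LD1_c4 LD2_c46 LD3_c9) :=
  Leoe_g (LK LD1_c4 LD2_c46 LD3_c9) (f774149 IH)
theorem f703557 : Led Lsl_ff (LP (LK LD1_c4 LD2_c45 LD3_c15)) = v13549 :=
  Lgr Lrot3 (Lpr_ft (f703554 IH) (Lpn v13549))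
theorem f758118 : Led Lsl_cf v13549 = K58.v17280 :=
  Lgr Lrot108 (Lpe (f703557 IH) (Lpr_ct (f102130 IH) (Lpr_ft (K58.f758115 IH) (Lpn K58.v17280))))
theorem f758120 : Led Lsl_ff (LP (LK LD1_c6 LD2_c17 LD3_c15)) = K58.v17280 :=
  Lgr Lrot3 (Lpr_ft (K58.f758115 IH) (Lpn K58.v17280))
theorem f125231 : Led Lsl_at (LP (LK LD1_c6 LD2_c17 LD3_c15)) = (LP (LK LD1_c4 LD2_c40 LD3_c14)) :=
  Lgr Lrot100 (Lpr_af (K58.f125229 IH) (Lpn (LP (LK LD1_c4 LD2_c40 LD3_c14))))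
theorem f77917 : Led Lsl_ft (LP (LK LD1_c4 LD2_c40 LD3_c14)) = (LP (LK LD1_c9 LD2_c15 LD3_c53)) :=
  Lre_f IH (LK LD1_c4 LD2_c40 LD3_c14) (LK LD1_c9 LD2_c15 LD3_c53) Lrfl Lrfl
theorem f758122 : Led Lsl_at (LP (LK LD1_c9 LD2_c15 LD3_c53)) = K58.v17280 :=
  Lgr Lrot66 (Lpe (f77917 IH) (Lpe (f125231 IH) (Lpr_ff (f758120 IH) (Lpn K58.v17280))))
def v13122 : LQ := Led Lsl_gt (LP (LK LD1_c4 LD2_c40 LD3_c14))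
theorem f701235 : Led Lsl_gt (LP (LK LD1_c4 LD2_c40 LD3_c14)) = v13122 :=
  Lrfl
theorem f758127 : Led Lsl_gt v13122 = K58.v17280 :=
  Lgr Lrot46 (Lpe (f701235 IH) (Lpr_ft (f77917 IH) (Lpr_at (f758122 IH) (Lpn K58.v17280))))
theorem f125233 : Led Lsl_at (LP (LK LD1_c4 LD2_c45 LD3_c15)) = (LP (LK LD1_c2 LD2_c21 LD3_c13)) :=
  Lgr Lrot107 (Lpr_cf (K58.f102123 IH) (Lpr_af (K58.f125229 IH) (Lpe (K5.f78353 IH) (Lpn (LP (LK LD1_c2 LD2_c21 LD3_c13))))))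
def v4426 : LQ := Led Lsl_gf (LP (LK LD1_c2 LD2_c21 LD3_c13))
theorem f633291 : Led Lsl_gf (LP (LK LD1_c2 LD2_c21 LD3_c13)) = v4426 :=
  Lrfl
theorem f703561 : Led Lsl_gf v4426 = v13549 :=
  Lgr Lrot47 (Lpe (f633291 IH) (Lpe (f125233 IH) (Lpr_ff (f703557 IH) (Lpn v13549))))
theorem f774148 : (LP (LK LD1_c4 LD2_c46 LD3_c9)) = v4426 :=
  Lefun (Lecon (Lfl_gt (f703968 IH)) (f774146 IH)) (f633291 IH)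
def v4418 : LQ := Led Lsl_bt (LP (LK LD1_c2 LD2_c21 LD3_c5))
theorem f633266 : Led Lsl_bt (LP (LK LD1_c2 LD2_c21 LD3_c5)) = v4418 :=
  Lrfl
def v2088 : LQ := Led Lsl_bt (LP (LK LD1_c1 LD2_c35 LD3_c15))
theorem f508758 : Led Lsl_bt (LP (LK LD1_c1 LD2_c35 LD3_c15)) = v2088 :=
  Lrfl
theorem f508759 : Led Lsl_bf (LP (LK LD1_c1 LD2_c35 LD3_c15)) = v2088 :=
  Lgr Lrot24 (Lpr_bt (f508758 IH) (Lpn v2088))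
def v8683 : LQ := Led Lsl_et K58.v2145
theorem f671997 : Led Lsl_et K58.v2145 = v8683 :=
  Lrfl
theorem f671999 : Led Lsl_ef K58.v2145 = v8683 :=
  Lgr Lrot88 (Lpr_et (f671997 IH) (Lpn v8683))
def v6093 : LQ := Led Lsl_bt (LP (LK LD1_c3 LD2_c17 LD3_c22))
theorem f650978 : Led Lsl_bt (LP (LK LD1_c3 LD2_c17 LD3_c22)) = v6093 :=
  Lrfl
theorem f650981 : Led Lsl_ef v2088 = v6093 :=
  Lgr Lrot29 (Lpe (f508759 IH) (Lpr_et (K46.f155222 IH) (Lpr_bt (f650978 IH) (Lpn v6093))))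
theorem f509222 : Led Lsl_ef (LP (LK LD1_c1 LD2_c36 LD3_c25)) = K58.v2146 :=
  Lgr Lrot88 (Lpr_et (K58.f509220 IH) (Lpn K58.v2146))
theorem f671998 : Led Lsl_af K58.v2146 = v8683 :=
  Lgr Lrot50 (Lpe (f509222 IH) (Lpr_at (K58.f509218 IH) (Lpr_et (f671997 IH) (Lpn v8683))))
theorem f672118 : Led Lsl_ff v8683 = K58.v8734 :=
  Lgr Lrot30 (Lpe (f671998 IH) (Lpr_ft (K58.f509511 IH) (Lpr_at (K58.f672115 IH) (Lpn K58.v8734))))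
theorem f650979 : Led Lsl_bf (LP (LK LD1_c3 LD2_c17 LD3_c22)) = v6093 :=
  Lgr Lrot24 (Lpr_bt (f650978 IH) (Lpn v6093))
def v6148 : LQ := Led Lsl_bt (LP (LK LD1_c3 LD2_c18 LD3_c26))
theorem f651524 : Led Lsl_bt (LP (LK LD1_c3 LD2_c18 LD3_c26)) = v6148 :=
  Lrfl
theorem f678553 : Led Lsl_ff v6093 = v6148 :=
  Lgr Lrot25 (Lpe (f650979 IH) (Lpqs (K49.f678545 IH) (Lpe (K49.f651530 IH) (Lpr_bt (f651524 IH) (Lpn v6148)))))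
def v3165 : LQ := Led Lsl_bt K35.v541
def v10060 : LQ := Led Lsl_et v3165
theorem f678679 : Led Lsl_et v3165 = v10060 :=
  Lrfl
theorem f678681 : Led Lsl_ef v3165 = v10060 :=
  Lgr Lrot88 (Lpr_et (f678679 IH) (Lpn v10060))
theorem f624103 : Led Lsl_bt K35.v541 = v3165 :=
  Lrfl
theorem f624104 : Led Lsl_bf K35.v541 = v3165 :=
  Lgr Lrot24 (Lpr_bt (f624103 IH) (Lpn v3165))
theorem f678682 : Led Lsl_bt K35.v3168 = v10060 :=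
  Lgr Lrot119 (Lpe (K35.f624109 IH) (Lpr_bf (f624104 IH) (Lpr_ef (f678681 IH) (Lpn v10060))))
theorem f651525 : Led Lsl_bf (LP (LK LD1_c3 LD2_c18 LD3_c26)) = v6148 :=
  Lgr Lrot24 (Lpr_bt (f651524 IH) (Lpn v6148))
theorem f678683 : Led Lsl_df v6148 = v10060 :=
  Lgr Lrot12 (Lpe (f651525 IH) (Lpr_dt (K56.f624504 IH) (Lpr_bt (f678682 IH) (Lpn v10060))))
theorem f768810 : K58.v3125 = v3165 :=
  Lefun (Lecon (Lfl_bf (K58.f633031 IH)) ((K58.f768791 IH).trans (K58.f675675 IH).symm)) (f624103 IH)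
theorem f768848 : v10060 = K58.v8463 :=
  Lefun (Lecon (f678679 IH) (f768810 IH).symm) (K58.f671307 IH)
theorem f768886 : v6148 = K58.v8734 :=
  Lefun (Lecon (Lfl_df (f678683 IH)) (f768848 IH)) (K58.f672123 IH)
theorem f768924 : v8683 = v6093 :=
  Lefun (Lecon (Lfl_ff (f672118 IH)) (f768886 IH).symm) (Lfl_ff (f678553 IH))
theorem f768952 : K58.v2145 = v2088 :=
  Lefun (Lecon (Lfl_ef (f671999 IH)) (f768924 IH)) (Lfl_ef (f650981 IH))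
def v7915 : LQ := Led Lsl_gt K58.v1361
theorem f668968 : Led Lsl_gt K58.v1361 = v7915 :=
  Lrfl
theorem f668969 : Led Lsl_gf K58.v2145 = v7915 :=
  Lgr Lrot76 (Lpe (K58.f509218 IH) (Lpr_ff (K58.f508517 IH) (Lpr_gt (f668968 IH) (Lpn v7915))))
theorem f770925 : v7915 = K58.v4406 :=
  Lefun (Lecon (f668968 IH) (K58.f770924 IH).symm) (K58.f633183 IH)
theorem f770932 : K58.v2145 = (LP (LK LD1_c2 LD2_c21 LD3_c5)) :=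
  Lefun (Lecon (Lfl_gf (f668969 IH)) (f770925 IH)) (Lfl_gf (K58.f633177 IH))
theorem f770937 : (LP (LK LD1_c1 LD2_c35 LD3_c15)) = v4418 :=
  Lefun (Lecon (Lfl_bf (f508759 IH)) ((f768952 IH).symm.trans (f770932 IH))) (f633266 IH)
theorem f119521 : Led Lsl_bt (LP (LK LD1_c1 LD2_c35 LD3_c10)) = (LP (LK LD1_c0 LD2_c44 LD3_c16)) :=
  Lre_b IH (LK LD1_c1 LD2_c35 LD3_c10) (LK LD1_c0 LD2_c44 LD3_c16) Lrfl Lrfl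
theorem f508737 : Led Lsl_ct (LP (LK LD1_c1 LD2_c35 LD3_c10)) = (LP (LK LD1_c3 LD2_c17 LD3_c4)) :=
  Lre_c IH (LK LD1_c1 LD2_c35 LD3_c10) (LK LD1_c3 LD2_c17 LD3_c4) Lrfl Lrfl
def v6063 : LQ := Led Lsl_gt (LP (LK LD1_c3 LD2_c17 LD3_c4))
theorem f650794 : Led Lsl_gt (LP (LK LD1_c3 LD2_c17 LD3_c4)) = v6063 :=
  Lrfl
def v13310 : LQ := Led Lsl_ct (LP (LK LD1_c4 LD2_c43 LD3_c4))
theorem f702280 : Led Lsl_ct (LP (LK LD1_c4 LD2_c43 LD3_c4)) = v13310 :=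
  Lrfl
theorem f768933 : K58.v554 = (LP (LK LD1_c1 LD2_c35 LD3_c14)) :=
  Lefun (Lecon (Lfl_ef (K58.f624580 IH)) (K58.f768896 IH)) (Lfl_ef (K49.f508753 IH))
theorem f131642 : Led Lsl_gt (LP (LK LD1_c6 LD2_c37 LD3_c31)) = (LP (LK LD1_c3 LD2_c17 LD3_c4)) :=
  Lre_g IH (LK LD1_c6 LD2_c37 LD3_c31) (LK LD1_c3 LD2_c17 LD3_c4) Lrfl Lrfl
theorem f771332 : (LP (LK LD1_c6 LD2_c37 LD3_c31)) = v13310 :=
  (Llr Lrot129 (Lpr_gt (f131642 IH) (Lpe (f508737 IH) (Lpr_bt (f119521 IH) (Lpr_gt (K46.f62023 IH) (Lpq (f768933 IH) (Lpe (K58.f453964 IH) (Lpr_ct (K32.f435293 IH) (Lpr_gt (K32.f419065 IH) (Lpr_cf (K11.f150490 IH) (Lpr_bt (K50.f150510 IH) (Lpr_gt (K50.f150511 IH) (Lpr_ct (f702280 IH) (Lpn v13310)))))))))))))).symm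
def v13345 : LQ := Led Lsl_at (LP (LK LD1_c4 LD2_c43 LD3_c19))
theorem f702441 : Led Lsl_at (LP (LK LD1_c4 LD2_c43 LD3_c19)) = v13345 :=
  Lrfl
theorem f632573 : Led Lsl_ct (LP (LK LD1_c2 LD2_c19 LD3_c20)) = (LP (LK LD1_c4 LD2_c43 LD3_c19)) :=
  Lre_c IH (LK LD1_c2 LD2_c19 LD3_c20) (LK LD1_c4 LD2_c43 LD3_c19) Lrfl Lrfl
theorem f702443 : Led Lsl_cf K51.v4315 = v13345 :=
  Lgr Lrot1 (Lpe (K51.f632610 IH) (Lpr_ct (f632573 IH) (Lpr_at (f702441 IH) (Lpn v13345))))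
theorem f702444 : Led Lsl_ct K51.v4315 = v13345 :=
  Lgr Lrot59 (Lpr_cf (f702443 IH) (Lpn v13345))
theorem f771132 : v13345 = v13310 :=
  Lefun (Lecon (f702444 IH) (f771127 IH).symm) (f702280 IH)
def v7805 : LQ := Led Lsl_ct K51.v1305
theorem f668509 : Led Lsl_ct K51.v1305 = v7805 :=
  Lrfl
theorem f702445 : Led Lsl_ft v7805 = v13345 :=
  Lgr Lrot4 (Lpe (f668509 IH) (Lpr_ff (K51.f632613 IH) (Lpr_cf (f702443 IH) (Lpn v13345))))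
theorem f702446 : Led Lsl_ff v7805 = v13345 :=
  Lgr Lrot3 (Lpr_ft (f702445 IH) (Lpn v13345))
def v13348 : LQ := Led Lsl_ft (LP (LK LD1_c4 LD2_c43 LD3_c19))
theorem f702454 : Led Lsl_ft (LP (LK LD1_c4 LD2_c43 LD3_c19)) = v13348 :=
  Lrfl
theorem f702457 : Led Lsl_ff (LP (LK LD1_c4 LD2_c43 LD3_c19)) = v13348 :=
  Lgr Lrot3 (Lpr_ft (f702454 IH) (Lpn v13348))
theorem f702459 : Led Lsl_at v7805 = v13348 :=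
  Lgr Lrot66 (Lpr_ff (f702446 IH) (Lpe (f702441 IH) (Lpr_ff (f702457 IH) (Lpn v13348))))
theorem f771337 : v13348 = v6063 :=
  (Llr Lrot26 (Lpe (f702459 IH) (Lpr_ff (f702446 IH) (Lpqs (f771132 IH) (Lpq (f771332 IH) (Lpr_gt (f131642 IH) (Lpr_gt (f650794 IH) (Lpn v6063)))))))).symm
theorem f150480 : Led Lsl_ct (LP (LK LD1_c4 LD2_c43 LD3_c19)) = (LP (LK LD1_c2 LD2_c19 LD3_c20)) :=
  Lre_c IH (LK LD1_c4 LD2_c43 LD3_c19) (LK LD1_c2 LD2_c19 LD3_c20) Lrfl Lrfl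
theorem f702460 : Led Lsl_ct K58.v4317 = v13348 :=
  Lgr Lrot40 (Lpe (K58.f632616 IH) (Lpe (f150480 IH) (Lpr_ff (f702457 IH) (Lpn v13348))))
theorem f702438 : Led Lsl_bt K58.v4317 = K58.v13342 :=
  Lgr Lrot35 (Lpe (K58.f632616 IH) (Lpe (K58.f435489 IH) (Lpr_ff (K58.f702437 IH) (Lpn K58.v13342))))
theorem f774152 : v13122 = K58.v13342 :=
  (Llr Lrot181 (Lpr_gt (f758127 IH) (Lpe (f758118 IH) (Lpe (f703561 IH) (Lpq (f774148 IH) (Lpe (f633178 IH) (Lpr_bt (f633266 IH) (Lpq (f770937 IH) (Lpr_gt (K46.f62021 IH) (Lpe (f119521 IH) (Lpr_ct (f508737 IH) (Lpr_gt (f650794 IH) (Lpq (f771337 IH) (Lpe (f702460 IH) (Lpr_bt (f702438 IH) (Lpn K58.v13342)))))))))))))))).symm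
def v13339 : LQ := Led Lsl_at (LP (LK LD1_c4 LD2_c43 LD3_c18))
theorem f702427 : Led Lsl_at (LP (LK LD1_c4 LD2_c43 LD3_c18)) = v13339 :=
  Lrfl
theorem f77920 : Led Lsl_gt (LP (LK LD1_c9 LD2_c15 LD3_c51)) = (LP (LK LD1_c4 LD2_c40 LD3_c14)) :=
  Lre_g IH (LK LD1_c9 LD2_c15 LD3_c51) (LK LD1_c4 LD2_c40 LD3_c14) Lrfl Lrfl
theorem f758126 : Led Lsl_gf (LP (LK LD1_c9 LD2_c15 LD3_c51)) = K58.v17280 :=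
  Lgr Lrot47 (Lpr_gt (f77920 IH) (Lpe (f125231 IH) (Lpr_ff (f758120 IH) (Lpn K58.v17280))))
theorem f774155 : v13339 = (LP (LK LD1_c9 LD2_c15 LD3_c51)) :=
  (Llr Lrot26 (Lpe (f702427 IH) (Lpr_ff (K58.f702437 IH) (Lpq (f774152 IH) (Lpr_gt (f758127 IH) (Lpe (f758126 IH) (Lpn (LP (LK LD1_c9 LD2_c15 LD3_c51))))))))).symm
theorem f702428 : Led Lsl_af (LP (LK LD1_c4 LD2_c43 LD3_c18)) = v13339 :=
  Lgr Lrot0 (Lpr_at (f702427 IH) (Lpn v13339))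
theorem f774156 : Led Lsl_at (LP (LK LD1_c9 LD2_c15 LD3_c51)) = (LP (LK LD1_c4 LD2_c43 LD3_c18)) :=
  Leop (Lpr_af (f702428 IH) (Lpqs (f774155 IH) (Lpn (LP (LK LD1_c9 LD2_c15 LD3_c51)))))
theorem seed_1366 : LEOK LG_a (LK LD1_c9 LD2_c15 LD3_c51) :=
  Leoe_a (LK LD1_c9 LD2_c15 LD3_c51) (f774156 IH)
theorem f770912 : Led Lsl_ft v13339 = K58.v13621 :=
  Lgr Lrot101 (Lpe (f702427 IH) (Lpr_ff (K58.f702437 IH) (Lpr_af (K58.f770911 IH) (Lpn K58.v13621))))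
theorem f770913 : Led Lsl_cf v13339 = v13623 :=
  Lgr Lrot108 (Lpr_ft (f770912 IH) (Lpe (K58.f703945 IH) (Lpr_ft (f703949 IH) (Lpn v13623))))
theorem f771427 : Led Lsl_bt (LP (LK LD1_c9 LD2_c22 LD3_c57)) = (LP (LK LD1_c17 LD2_c19 LD3_c23)) :=
  Lre_b IH (LK LD1_c9 LD2_c22 LD3_c57) (LK LD1_c17 LD2_c19 LD3_c23) Lrfl Lrfl
theorem f758124 : Led Lsl_ct v13549 = K58.v17280 :=
  Lgr Lrot40 (Lpe (f703554 IH) (Lpr_cf (K58.f102123 IH) (Lpr_ff (f758120 IH) (Lpn K58.v17280))))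
theorem f703559 : Led Lsl_at (LP (LK LD1_c4 LD2_c46 LD3_c32)) = v13549 :=
  Lgr Lrot66 (Lpe (K58.f78357 IH) (Lpe (f125233 IH) (Lpr_ff (f703557 IH) (Lpn v13549))))
def v4425 : LQ := Led Lsl_gt (LP (LK LD1_c2 LD2_c21 LD3_c13))
theorem f633289 : Led Lsl_gt (LP (LK LD1_c2 LD2_c21 LD3_c13)) = v4425 :=
  Lrfl
theorem f703563 : Led Lsl_gt v4425 = v13549 :=
  Lgr Lrot46 (Lpe (f633289 IH) (Lpr_ft (K58.f78357 IH) (Lpr_at (f703559 IH) (Lpn v13549))))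
def v13630 : LQ := Led Lsl_at (LP (LK LD1_c4 LD2_c46 LD3_c9))
theorem f703970 : Led Lsl_at (LP (LK LD1_c4 LD2_c46 LD3_c9)) = v13630 :=
  Lrfl
theorem f703971 : Led Lsl_af (LP (LK LD1_c4 LD2_c46 LD3_c9)) = v13630 :=
  Lgr Lrot0 (Lpr_at (f703970 IH) (Lpn v13630))
theorem f703972 : Led Lsl_cf K58.v4417 = v13630 :=
  Lgr Lrot1 (Lpe (K58.f633263 IH) (Lpr_ct (f633178 IH) (Lpr_at (f703970 IH) (Lpn v13630))))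
def v7890 : LQ := Led Lsl_ct K58.v1350
theorem f668887 : Led Lsl_ct K58.v1350 = v7890 :=
  Lrfl
theorem f703974 : Led Lsl_ft v7890 = v13630 :=
  Lgr Lrot4 (Lpe (f668887 IH) (Lpr_ff (K58.f633265 IH) (Lpr_cf (f703972 IH) (Lpn v13630))))
theorem f703982 : Led Lsl_af v7890 = v13632 :=
  Lgr Lrot45 (Lpr_ft (f703974 IH) (Lpe (f703971 IH) (Lpr_ft (f703981 IH) (Lpn v13632))))
theorem f703985 : Led Lsl_gt v13628 = v7890 :=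
  Lgr Lrot46 (Lpe (f703968 IH) (Lpr_ft (f703981 IH) (Lpe (f703982 IH) (Lpn v7890))))
theorem f774147 : v7890 = v4425 :=
  Lefun (Lecon (f703985 IH) (f774146 IH)) (f633289 IH)
def v6304 : LQ := Led Lsl_ft (LP (LK LD1_c3 LD2_c20 LD3_c2))
theorem f652647 : Led Lsl_ft (LP (LK LD1_c3 LD2_c20 LD3_c2)) = v6304 :=
  Lrfl
theorem f652649 : Led Lsl_ff (LP (LK LD1_c3 LD2_c20 LD3_c2)) = v6304 :=
  Lgr Lrot3 (Lpr_ft (f652647 IH) (Lpn v6304))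
theorem f415426 : Led Lsl_ct (LP (LK LD1_c3 LD2_c20 LD3_c2)) = (LP (LK LD1_c1 LD2_c36 LD3_c25)) :=
  Lre_c IH (LK LD1_c3 LD2_c20 LD3_c2) (LK LD1_c1 LD2_c36 LD3_c25) Lrfl Lrfl
theorem f652650 : Led Lsl_ct K58.v1361 = v6304 :=
  Lgr Lrot40 (Lpe (K58.f508518 IH) (Lpe (f415426 IH) (Lpr_ff (f652649 IH) (Lpn v6304))))
theorem f770928 : v6304 = v7890 :=
  Lefun (Lecon (f652650 IH) (K58.f770924 IH).symm) (f668887 IH)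
theorem f495119 : Led Lsl_bf (LP (LK LD1_c1 LD2_c8 LD3_c13)) = K58.v1361 :=
  Lgr Lrot24 (Lpr_bt (K58.f495118 IH) (Lpn K58.v1361))
theorem f652648 : Led Lsl_cf K58.v1361 = v6304 :=
  Lgr Lrot108 (Lpe (K58.f508517 IH) (Lpr_ct (K58.f57154 IH) (Lpr_ft (f652647 IH) (Lpn v6304))))
theorem f700764 : Led Lsl_bf v6304 = K52.v13056 :=
  Lgr Lrot90 (Lpe (f652648 IH) (Lpe (f495119 IH) (Lpr_ct (K32.f435484 IH) (Lpr_bt (K51.f435486 IH) (Lpr_ct (K52.f700762 IH) (Lpn K52.v13056))))))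
theorem f774166 : Led Lsl_gt (LP (LK LD1_c17 LD2_c19 LD3_c23)) = (LP (LK LD1_c9 LD2_c30 LD3_c17)) :=
  Lgr Lrot164 (Lpe (f771427 IH) (Lpq (f771422 IH) (Lpe (f770913 IH) (Lpqs (f774155 IH) (Lpr_gf (f758126 IH) (Lpe (f758124 IH) (Lpe (f703563 IH) (Lpq (f774147 IH) (Lpq (f770928 IH) (Lpr_bf (f700764 IH) (Lpe (K52.f700765 IH) (Lpqs (K52.f698974 IH) (Lpe (K52.f634117 IH) (Lpe (K50.f427464 IH) (Lpr_bt (K55.f502187 IH) (Lpn (LP (LK LD1_c9 LD2_c30 LD3_c17))))))))))))))))))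
theorem f774167 : Led Lsl_gt (LP (LK LD1_c17 LD2_c19 LD3_c23)) = (LP (LK LD1_c9 LD2_c30 LD3_c17)) :=
  Leop (Lpe (f774166 IH) (Lpn (LP (LK LD1_c17 LD2_c19 LD3_c23))))
theorem seed_1367 : LEOK LG_g (LK LD1_c17 LD2_c19 LD3_c23) :=
  Leoe_g (LK LD1_c17 LD2_c19 LD3_c23) (f774167 IH)
theorem f442914 : Led Lsl_ct (LP (LK LD1_c12 LD2_c32 LD3_c40)) = (LP (LK LD1_c6 LD2_c32 LD3_c34)) :=
  Lre_c IH (LK LD1_c12 LD2_c32 LD3_c40) (LK LD1_c6 LD2_c32 LD3_c34) Lrfl Lrfl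
theorem f78355 : Led Lsl_dt (LP (LK LD1_c2 LD2_c21 LD3_c13)) = (LP (LK LD1_c4 LD2_c46 LD3_c31)) :=
  Lre_d IH (LK LD1_c2 LD2_c21 LD3_c13) (LK LD1_c4 LD2_c46 LD3_c31) Lrfl Lrfl
theorem f79484 : Led Lsl_gt (LP (LK LD1_c4 LD2_c46 LD3_c31)) = (LP (LK LD1_c9 LD2_c25 LD3_c41)) :=
  Lre_g IH (LK LD1_c4 LD2_c46 LD3_c31) (LK LD1_c9 LD2_c25 LD3_c41) Lrfl Lrfl
theorem f774184 : Led Lsl_df (LP (LK LD1_c12 LD2_c32 LD3_c40)) = (LP (LK LD1_c9 LD2_c25 LD3_c41)) :=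
  Lgr Lrot174 (Lpr_ct (f442914 IH) (Lpqs (f770536 IH) (Lpe (f704022 IH) (Lpe (f78037 IH) (Lpe (K5.f78036 IH) (Lpe (K57.f78014 IH) (Lpr_ct (f633178 IH) (Lpr_gt (f703968 IH) (Lpqs (f774146 IH) (Lpr_dt (f78355 IH) (Lpr_gt (f79484 IH) (Lpn (LP (LK LD1_c9 LD2_c25 LD3_c41))))))))))))))
theorem f443004 : Led Lsl_ft (LP (LK LD1_c12 LD2_c32 LD3_c40)) = (LP (LK LD1_c6 LD2_c32 LD3_c31)) :=
  Lre_f IH (LK LD1_c12 LD2_c32 LD3_c40) (LK LD1_c6 LD2_c32 LD3_c31) Lrfl Lrfl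
theorem f774207 : Led Lsl_ft (LP (LK LD1_c12 LD2_c32 LD3_c39)) = (LP (LK LD1_c9 LD2_c25 LD3_c41)) :=
  Lgr Lrot54 (Lpe (f442935 IH) (Lpe (f443004 IH) (Lpr_df (f774184 IH) (Lpn (LP (LK LD1_c9 LD2_c25 LD3_c41))))))
theorem f774214 : Led Lsl_ff (LP (LK LD1_c12 LD2_c32 LD3_c39)) = (LP (LK LD1_c9 LD2_c25 LD3_c41)) :=
  Lgr Lrot3 (Lpr_ft (f774207 IH) (Lpn (LP (LK LD1_c9 LD2_c25 LD3_c41))))
theorem f76286 : Led Lsl_et (LP (LK LD1_c2 LD2_c56 LD3_c33)) = (LP (LK LD1_c1 LD2_c24 LD3_c5)) :=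
  Lre_e IH (LK LD1_c2 LD2_c56 LD3_c33) (LK LD1_c1 LD2_c24 LD3_c5) Lrfl Lrfl
theorem f76288 : Led Lsl_gt (LP (LK LD1_c11 LD2_c45 LD3_c32)) = (LP (LK LD1_c6 LD2_c0 LD3_c35)) :=
  Lre_g IH (LK LD1_c11 LD2_c45 LD3_c32) (LK LD1_c6 LD2_c0 LD3_c35) Lrfl Lrfl
theorem f443008 : Led Lsl_et (LP (LK LD1_c11 LD2_c39 LD3_c53)) = (LP (LK LD1_c5 LD2_c57 LD3_c16)) :=
  Lre_e IH (LK LD1_c11 LD2_c39 LD3_c53) (LK LD1_c5 LD2_c57 LD3_c16) Lrfl Lrfl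
theorem f641781 : Led Lsl_df (LP (LK LD1_c11 LD2_c45 LD3_c32)) = (LP (LK LD1_c11 LD2_c39 LD3_c53)) :=
  Lgr Lrot170 (Lpr_gt (f76288 IH) (Lpe (K52.f76287 IH) (Lpr_et (f76286 IH) (Lpr_gt (K2.f72712 IH) (Lpr_dt (K2.f74322 IH) (Lpr_gt (K2.f14147 IH) (Lpe (K28.f74526 IH) (Lpr_et (K4.f74528 IH) (Lpr_gt (K41.f641776 IH) (Lpe (f443008 IH) (Lpn (LP (LK LD1_c11 LD2_c39 LD3_c53)))))))))))))
theorem f641785 : Led Lsl_dt (LP (LK LD1_c11 LD2_c45 LD3_c32)) = (LP (LK LD1_c11 LD2_c39 LD3_c53)) :=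
  Lgr Lrot42 (Lpr_df (f641781 IH) (Lpn (LP (LK LD1_c11 LD2_c39 LD3_c53))))
theorem f442921 : Led Lsl_ct (LP (LK LD1_c20 LD2_c39 LD3_c57)) = (LP (LK LD1_c11 LD2_c39 LD3_c56)) :=
  Lre_c IH (LK LD1_c20 LD2_c39 LD3_c57) (LK LD1_c11 LD2_c39 LD3_c56) Lrfl Lrfl
theorem f442919 : Led Lsl_bt (LP (LK LD1_c3 LD2_c14 LD3_c29)) = (LP (LK LD1_c6 LD2_c32 LD3_c34)) :=
  Lre_b IH (LK LD1_c3 LD2_c14 LD3_c29) (LK LD1_c6 LD2_c32 LD3_c34) Lrfl Lrfl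
theorem f442922 : Led Lsl_ct (LP (LK LD1_c6 LD2_c32 LD3_c34)) = (LP (LK LD1_c12 LD2_c32 LD3_c40)) :=
  Lre_c IH (LK LD1_c6 LD2_c32 LD3_c34) (LK LD1_c12 LD2_c32 LD3_c40) Lrfl Lrfl
theorem f442923 : Led Lsl_bf (LP (LK LD1_c20 LD2_c39 LD3_c57)) = (LP (LK LD1_c12 LD2_c32 LD3_c40)) :=
  Lgr Lrot90 (Lpr_ct (f442921 IH) (Lpr_bt (K41.f442920 IH) (Lpr_ct (K32.f442917 IH) (Lpr_bt (f442919 IH) (Lpr_ct (f442922 IH) (Lpn (LP (LK LD1_c12 LD2_c32 LD3_c40))))))))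
theorem f442927 : Led Lsl_ft (LP (LK LD1_c20 LD2_c39 LD3_c57)) = (LP (LK LD1_c11 LD2_c39 LD3_c53)) :=
  Lre_f IH (LK LD1_c20 LD2_c39 LD3_c57) (LK LD1_c11 LD2_c39 LD3_c53) Lrfl Lrfl
theorem f442928 : Led Lsl_ft (LP (LK LD1_c6 LD2_c32 LD3_c31)) = (LP (LK LD1_c12 LD2_c32 LD3_c40)) :=
  Lre_f IH (LK LD1_c6 LD2_c32 LD3_c31) (LK LD1_c12 LD2_c32 LD3_c40) Lrfl Lrfl
theorem f442929 : Led Lsl_bt (LP (LK LD1_c11 LD2_c39 LD3_c53)) = (LP (LK LD1_c6 LD2_c32 LD3_c31)) :=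
  Lgr Lrot35 (Lpe (f442927 IH) (Lpr_bf (f442923 IH) (Lpe (f442928 IH) (Lpn (LP (LK LD1_c6 LD2_c32 LD3_c31))))))
theorem f641795 : Led Lsl_bf (LP (LK LD1_c11 LD2_c45 LD3_c32)) = (LP (LK LD1_c12 LD2_c32 LD3_c39)) :=
  Lgr Lrot93 (Lpr_dt (f641785 IH) (Lpr_bt (f442929 IH) (Lpr_dt (f442935 IH) (Lpn (LP (LK LD1_c12 LD2_c32 LD3_c39))))))
theorem f774201 : Led Lsl_bt (LP (LK LD1_c17 LD2_c23 LD3_c9)) = (LP (LK LD1_c9 LD2_c25 LD3_c41)) :=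
  Lre_b IH (LK LD1_c17 LD2_c23 LD3_c9) (LK LD1_c9 LD2_c25 LD3_c41) Lrfl Lrfl
theorem f774243 : Led Lsl_ft (LP (LK LD1_c11 LD2_c45 LD3_c32)) = (LP (LK LD1_c17 LD2_c23 LD3_c9)) :=
  Lgr Lrot75 (Lpr_bf (f641795 IH) (Lpr_ff (f774214 IH) (Lpe (f774201 IH) (Lpn (LP (LK LD1_c17 LD2_c23 LD3_c9))))))
theorem f774248 : Led Lsl_df (LP (LK LD1_c20 LD2_c39 LD3_c57)) = (LP (LK LD1_c17 LD2_c23 LD3_c9)) :=
  Lgr Lrot78 (Lpr_ft (f442927 IH) (Lpe (f641781 IH) (Lpr_ft (f774243 IH) (Lpn (LP (LK LD1_c17 LD2_c23 LD3_c9))))))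
theorem f774256 : Led Lsl_gt (LP (LK LD1_c9 LD2_c25 LD3_c59)) = (LP (LK LD1_c17 LD2_c23 LD3_c9)) :=
  Lgr Lrot49 (Lpe (K55.f105080 IH) (Lpr_gf (K52.f704114 IH) (Lpq (K52.f711288 IH) (Lpe (K52.f705164 IH) (Lpr_gt (K52.f452962 IH) (Lpr_dt (K40.f74636 IH) (Lpe (K50.f644905 IH) (Lpe (K41.f507148 IH) (Lpe (f442921 IH) (Lpr_df (f774248 IH) (Lpn (LP (LK LD1_c17 LD2_c23 LD3_c9)))))))))))))
theorem f774247 : Led Lsl_ct (LP (LK LD1_c17 LD2_c23 LD3_c9)) = (LP (LK LD1_c27 LD2_c12 LD3_c21)) :=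
  Lre_c IH (LK LD1_c17 LD2_c23 LD3_c9) (LK LD1_c27 LD2_c12 LD3_c21) Lrfl Lrfl
theorem f774261 : Led Lsl_gf (LP (LK LD1_c20 LD2_c45 LD3_c47)) = (LP (LK LD1_c27 LD2_c12 LD3_c21)) :=
  Lgr Lrot104 (Lpr_ct (K40.f502237 IH) (Lpe (K55.f501458 IH) (Lpe (K36.f501449 IH) (Lpr_gf (K52.f634118 IH) (Lpq (K52.f698974 IH) (Lpr_cf (K52.f700765 IH) (Lpqs (K52.f711289 IH) (Lpe (K52.f704113 IH) (Lpe (K52.f156823 IH) (Lpr_gt (f774256 IH) (Lpr_ct (f774247 IH) (Lpn (LP (LK LD1_c27 LD2_c12 LD3_c21))))))))))))))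
theorem f774262 : Led Lsl_gt (LP (LK LD1_c27 LD2_c12 LD3_c21)) = (LP (LK LD1_c20 LD2_c45 LD3_c47)) :=
  Leop (Lpr_gf (f774261 IH) (Lpn (LP (LK LD1_c27 LD2_c12 LD3_c21))))
theorem seed_1368 : LEOK LG_g (LK LD1_c27 LD2_c12 LD3_c21) :=
  Leoe_g (LK LD1_c27 LD2_c12 LD3_c21) (f774262 IH)
theorem f133217 : Led Lsl_ct (LP (LK LD1_c2 LD2_c21 LD3_c4)) = (LP (LK LD1_c1 LD2_c7 LD3_c51)) :=
  Lre_c IH (LK LD1_c2 LD2_c21 LD3_c4) (LK LD1_c1 LD2_c7 LD3_c51) Lrfl Lrfl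
theorem f133204 : Led Lsl_bt (LP (LK LD1_c2 LD2_c21 LD3_c4)) = (LP (LK LD1_c4 LD2_c46 LD3_c3)) :=
  Lre_b IH (LK LD1_c2 LD2_c21 LD3_c4) (LK LD1_c4 LD2_c46 LD3_c3) Lrfl Lrfl
theorem f428660 : Led Lsl_gt (LP (LK LD1_c9 LD2_c24 LD3_c42)) = (LP (LK LD1_c4 LD2_c46 LD3_c3)) :=
  Lre_g IH (LK LD1_c9 LD2_c24 LD3_c42) (LK LD1_c4 LD2_c46 LD3_c3) Lrfl Lrfl
theorem f700766 : Led Lsl_ff (LP (LK LD1_c5 LD2_c59 LD3_c58)) = K52.v13056 :=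
  Lgr Lrot23 (Lpr_ct (K56.f502756 IH) (Lpq (K48.f669222 IH) (Lpr_ft (K51.f508514 IH) (Lpr_ct (K52.f700762 IH) (Lpn K52.v13056)))))
def v6301 : LQ := Led Lsl_bt (LP (LK LD1_c3 LD2_c20 LD3_c2))
theorem f652637 : Led Lsl_bt (LP (LK LD1_c3 LD2_c20 LD3_c2)) = v6301 :=
  Lrfl
theorem f652639 : Led Lsl_cf K48.v1707 = v6301 :=
  Lgr Lrot97 (Lpe (K51.f500961 IH) (Lpe (K17.f415427 IH) (Lpr_bt (K58.f415432 IH) (Lpr_ct (K58.f57154 IH) (Lpr_bt (f652637 IH) (Lpn v6301))))))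
theorem f652640 : Led Lsl_ct K48.v1707 = v6301 :=
  Lgr Lrot59 (Lpr_cf (f652639 IH) (Lpn v6301))
theorem f669226 : v6301 = (LP (LK LD1_c5 LD2_c59 LD3_c58)) :=
  Lefun (Lecon (f652640 IH) (K48.f669222 IH)) (K56.f502755 IH)
theorem f652638 : Led Lsl_bf (LP (LK LD1_c3 LD2_c20 LD3_c2)) = v6301 :=
  Lgr Lrot24 (Lpr_bt (f652637 IH) (Lpn v6301))
theorem f700767 : Led Lsl_bt v6304 = K52.v13056 :=
  Lgr Lrot35 (Lpe (f652647 IH) (Lpr_bf (f652638 IH) (Lpqs (f669226 IH) (Lpr_ff (f700766 IH) (Lpn K52.v13056)))))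
theorem f30096 : Led Lsl_at (LP (LK LD1_c8 LD2_c2 LD3_c23)) = (LP (LK LD1_c4 LD2_c0 LD3_c51)) :=
  Lre_a IH (LK LD1_c8 LD2_c2 LD3_c23) (LK LD1_c4 LD2_c0 LD3_c51) Lrfl Lrfl
theorem f558575 : Led Lsl_ct (LP (LK LD1_c4 LD2_c0 LD3_c51)) = (LP (LK LD1_c2 LD2_c56 LD3_c18)) :=
  Lgr Lrot111 (Lpe (f30096 IH) (Lpr_cf (K40.f558557 IH) (Lpe (K40.f502603 IH) (Lpn (LP (LK LD1_c2 LD2_c56 LD3_c18))))))
theorem f499915 : Led Lsl_gt (LP (LK LD1_c5 LD2_c59 LD3_c54)) = (LP (LK LD1_c2 LD2_c56 LD3_c15)) :=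
  Lre_g IH (LK LD1_c5 LD2_c59 LD3_c54) (LK LD1_c2 LD2_c56 LD3_c15) Lrfl Lrfl
theorem f618538 : Led Lsl_ct (LP (LK LD1_c11 LD2_c44 LD3_c17)) = (LP (LK LD1_c5 LD2_c59 LD3_c54)) :=
  Lre_c IH (LK LD1_c11 LD2_c44 LD3_c17) (LK LD1_c5 LD2_c59 LD3_c54) Lrfl Lrfl
theorem f764297 : Led Lsl_gt (LP (LK LD1_c11 LD2_c45 LD3_c25)) = (LP (LK LD1_c11 LD2_c44 LD3_c17)) :=
  Lgr Lrot9 (Lpe (K52.f615261 IH) (Lpr_gt (K57.f764283 IH) (Lpr_ct (K57.f558629 IH) (Lpr_gt (K57.f445037 IH) (Lpr_ct (f558575 IH) (Lpe (K32.f75529 IH) (Lpe (K40.f76064 IH) (Lpe (f499915 IH) (Lpe (f618538 IH) (Lpn (LP (LK LD1_c11 LD2_c44 LD3_c17))))))))))))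
theorem f705161 : Led Lsl_ct (LP (LK LD1_c5 LD2_c59 LD3_c54)) = (LP (LK LD1_c11 LD2_c44 LD3_c17)) :=
  Lre_c IH (LK LD1_c5 LD2_c59 LD3_c54) (LK LD1_c11 LD2_c44 LD3_c17) Lrfl Lrfl
def v16409 : LQ := Led Lsl_bt (LP (LK LD1_c5 LD2_c59 LD3_c54))
theorem f749223 : Led Lsl_bt (LP (LK LD1_c5 LD2_c59 LD3_c54)) = v16409 :=
  Lrfl
theorem f774273 : (LP (LK LD1_c9 LD2_c24 LD3_c42)) = v16409 :=
  (Llr Lrot124 (Lpr_gt (f428660 IH) (Lpe (f133204 IH) (Lpr_ct (f133217 IH) (Lpr_gt (K58.f495033 IH) (Lpqs (K58.f770924 IH) (Lpr_cf (f652648 IH) (Lpqs (f770928 IH) (Lpqs (f774147 IH) (Lpq (f774147 IH) (Lpq (f770928 IH) (Lpr_bt (f700767 IH) (Lpqs (K52.f711289 IH) (Lpr_gt (K52.f704120 IH) (Lpr_ct (K52.f119871 IH) (Lpr_gt (f764297 IH) (Lpe (f705161 IH) (Lpr_bt (f749223 IH) (Lpn v16409))))))))))))))))))).symm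
theorem f749224 : Led Lsl_bf (LP (LK LD1_c5 LD2_c59 LD3_c54)) = v16409 :=
  Lgr Lrot24 (Lpr_bt (f749223 IH) (Lpn v16409))
theorem f774274 : Led Lsl_bt (LP (LK LD1_c9 LD2_c24 LD3_c42)) = (LP (LK LD1_c5 LD2_c59 LD3_c54)) :=
  Leop (Lpr_bf (f749224 IH) (Lpq (f774273 IH) (Lpn (LP (LK LD1_c9 LD2_c24 LD3_c42)))))
theorem seed_1369 : LEOK LG_b (LK LD1_c9 LD2_c24 LD3_c42) :=
  Leoe_b (LK LD1_c9 LD2_c24 LD3_c42) (f774274 IH)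
theorem f502730 : Led Lsl_bt (LP (LK LD1_c5 LD2_c59 LD3_c56)) = (LP (LK LD1_c11 LD2_c44 LD3_c10)) :=
  Lre_b IH (LK LD1_c5 LD2_c59 LD3_c56) (LK LD1_c11 LD2_c44 LD3_c10) Lrfl Lrfl
theorem f501466 : Led Lsl_gt (LP (LK LD1_c11 LD2_c44 LD3_c10)) = (LP (LK LD1_c20 LD2_c45 LD3_c13)) :=
  Lre_g IH (LK LD1_c11 LD2_c44 LD3_c10) (LK LD1_c20 LD2_c45 LD3_c13) Lrfl Lrfl
theorem f78350 : Led Lsl_ct (LP (LK LD1_c4 LD2_c46 LD3_c29)) = (LP (LK LD1_c9 LD2_c25 LD3_c34)) :=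
  Lre_c IH (LK LD1_c4 LD2_c46 LD3_c29) (LK LD1_c9 LD2_c25 LD3_c34) Lrfl Lrfl
theorem f78389 : Led Lsl_gt (LP (LK LD1_c17 LD2_c22 LD3_c60)) = (LP (LK LD1_c9 LD2_c25 LD3_c34)) :=
  Lre_g IH (LK LD1_c17 LD2_c22 LD3_c60) (LK LD1_c9 LD2_c25 LD3_c34) Lrfl Lrfl
theorem f774277 : Led Lsl_ct (LP (LK LD1_c20 LD2_c45 LD3_c13)) = (LP (LK LD1_c17 LD2_c22 LD3_c60)) :=
  Lgr Lrot91 (Lpe (f501466 IH) (Lpe (f502730 IH) (Lpr_ct (K40.f501440 IH) (Lpr_gf (K52.f634118 IH) (Lpq (K52.f698974 IH) (Lpr_cf (K52.f700765 IH) (Lpe (f700764 IH) (Lpqs (f770928 IH) (Lpqs (f774147 IH) (Lpe (f633289 IH) (Lpe (K5.f78374 IH) (Lpr_ct (f78350 IH) (Lpe (f78389 IH) (Lpn (LP (LK LD1_c17 LD2_c22 LD3_c60))))))))))))))))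
theorem f774278 : Led Lsl_ct (LP (LK LD1_c20 LD2_c45 LD3_c13)) = (LP (LK LD1_c17 LD2_c22 LD3_c60)) :=
  Leop (Lpe (f774277 IH) (Lpn (LP (LK LD1_c20 LD2_c45 LD3_c13))))
theorem seed_1370 : LEOK LG_c (LK LD1_c20 LD2_c45 LD3_c13) :=
  Leoe_c (LK LD1_c20 LD2_c45 LD3_c13) (f774278 IH)
theorem f668807 : Led Lsl_et (LP (LK LD1_c4 LD2_c46 LD3_c12)) = (LP (LK LD1_c9 LD2_c24 LD3_c57)) :=
  Lre_e IH (LK LD1_c4 LD2_c46 LD3_c12) (LK LD1_c9 LD2_c24 LD3_c57) Lrfl Lrfl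
theorem f774313 : Led Lsl_af K58.v6313 = (LP (LK LD1_c9 LD2_c24 LD3_c57)) :=
  Lgr Lrot50 (Lpe (K58.f652681 IH) (Lpr_at (K58.f652674 IH) (Lpq (K58.f770519 IH) (Lpr_et (f668807 IH) (Lpn (LP (LK LD1_c9 LD2_c24 LD3_c57)))))))
theorem f774314 : Led Lsl_at K58.v6313 = (LP (LK LD1_c9 LD2_c24 LD3_c57)) :=
  Lgr Lrot100 (Lpr_af (f774313 IH) (Lpn (LP (LK LD1_c9 LD2_c24 LD3_c57))))
theorem f774325 : Led Lsl_gt (LP (LK LD1_c12 LD2_c11 LD3_c17)) = (LP (LK LD1_c9 LD2_c24 LD3_c57)) :=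
  Lgr Lrot46 (Lpr_gf (K57.f758486 IH) (Lpqs (K58.f770423 IH) (Lpe (K58.f704894 IH) (Lpr_at (f774314 IH) (Lpn (LP (LK LD1_c9 LD2_c24 LD3_c57)))))))
theorem f774326 : Led Lsl_gt (LP (LK LD1_c12 LD2_c11 LD3_c17)) = (LP (LK LD1_c9 LD2_c24 LD3_c57)) :=
  Leop (Lpe (f774325 IH) (Lpn (LP (LK LD1_c12 LD2_c11 LD3_c17))))
theorem seed_1371 : LEOK LG_g (LK LD1_c12 LD2_c11 LD3_c17) :=
  Leoe_g (LK LD1_c12 LD2_c11 LD3_c17) (f774326 IH)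
theorem f103351 : Led Lsl_ct (LP (LK LD1_c9 LD2_c16 LD3_c20)) = (LP (LK LD1_c4 LD2_c40 LD3_c29)) :=
  Lre_c IH (LK LD1_c9 LD2_c16 LD3_c20) (LK LD1_c4 LD2_c40 LD3_c29) Lrfl Lrfl
theorem f103360 : Led Lsl_dt (LP (LK LD1_c17 LD2_c10 LD3_c56)) = (LP (LK LD1_c9 LD2_c16 LD3_c20)) :=
  Lre_d IH (LK LD1_c17 LD2_c10 LD3_c56) (LK LD1_c9 LD2_c16 LD3_c20) Lrfl Lrfl
theorem f507241 : Led Lsl_ft (LP (LK LD1_c6 LD2_c42 LD3_c49)) = (LP (LK LD1_c6 LD2_c32 LD3_c32)) :=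
  Lgr Lrot48 (Lpr_ff (K57.f507236 IH) (Lpn (LP (LK LD1_c6 LD2_c32 LD3_c32))))
def v18735 : LQ := Led Lsl_at (LP (LK LD1_c6 LD2_c32 LD3_c32))
theorem f768251 : Led Lsl_at (LP (LK LD1_c6 LD2_c32 LD3_c32)) = v18735 :=
  Lrfl
theorem f774006 : Led Lsl_ft v18735 = (LP (LK LD1_c9 LD2_c24 LD3_c16)) :=
  Lgr Lrot101 (Lpe (f768251 IH) (Lpe (f507241 IH) (Lpr_af (f774002 IH) (Lpn (LP (LK LD1_c9 LD2_c24 LD3_c16))))))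
theorem f774007 : Led Lsl_ff v18735 = (LP (LK LD1_c9 LD2_c24 LD3_c16)) :=
  Lgr Lrot3 (Lpr_ft (f774006 IH) (Lpn (LP (LK LD1_c9 LD2_c24 LD3_c16))))
theorem f768252 : Led Lsl_af (LP (LK LD1_c6 LD2_c32 LD3_c32)) = v18735 :=
  Lgr Lrot0 (Lpr_at (f768251 IH) (Lpn v18735))
theorem f151946 : Led Lsl_dt (LP (LK LD1_c6 LD2_c32 LD3_c30)) = (LP (LK LD1_c3 LD2_c14 LD3_c24)) :=
  Lre_d IH (LK LD1_c6 LD2_c32 LD3_c30) (LK LD1_c3 LD2_c14 LD3_c24) Lrfl Lrfl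
theorem f442995 : Led Lsl_ct (LP (LK LD1_c12 LD2_c32 LD3_c35)) = (LP (LK LD1_c6 LD2_c32 LD3_c30)) :=
  Lre_c IH (LK LD1_c12 LD2_c32 LD3_c35) (LK LD1_c6 LD2_c32 LD3_c30) Lrfl Lrfl
theorem f443002 : Led Lsl_dt (LP (LK LD1_c21 LD2_c38 LD3_c37)) = (LP (LK LD1_c12 LD2_c32 LD3_c35)) :=
  Lre_d IH (LK LD1_c21 LD2_c38 LD3_c37) (LK LD1_c12 LD2_c32 LD3_c35) Lrfl Lrfl
theorem f774030 : Led Lsl_cf (LP (LK LD1_c21 LD2_c38 LD3_c37)) = (LP (LK LD1_c17 LD2_c11 LD3_c9)) :=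
  Lgr Lrot118 (Lpr_dt (f443002 IH) (Lpr_ct (f442995 IH) (Lpr_dt (f151946 IH) (Lpr_ct (K58.f151945 IH) (Lpr_dt (K58.f506915 IH) (Lpr_ct (K57.f446157 IH) (Lpr_af (f768252 IH) (Lpr_ff (f774007 IH) (Lpr_dt (f774021 IH) (Lpn (LP (LK LD1_c17 LD2_c11 LD3_c9))))))))))))
def v18731 : LQ := Led Lsl_at (LP (LK LD1_c6 LD2_c32 LD3_c30))
theorem f768230 : Led Lsl_at (LP (LK LD1_c6 LD2_c32 LD3_c30)) = v18731 :=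
  Lrfl
theorem f768231 : Led Lsl_af (LP (LK LD1_c6 LD2_c32 LD3_c30)) = v18731 :=
  Lgr Lrot0 (Lpr_at (f768230 IH) (Lpn v18731))
theorem f774032 : Led Lsl_ft (LP (LK LD1_c17 LD2_c10 LD3_c56)) = v18731 :=
  Lgr Lrot142 (Lpr_dt (f103360 IH) (Lpr_ct (f103351 IH) (Lpe (K57.f103357 IH) (Lpr_ct (f103362 IH) (Lpr_dt (f774021 IH) (Lpe (f774030 IH) (Lpr_dt (f443002 IH) (Lpr_ct (f442995 IH) (Lpr_af (f768231 IH) (Lpn v18731))))))))))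
theorem f151947 : Led Lsl_gt (LP (LK LD1_c12 LD2_c32 LD3_c34)) = (LP (LK LD1_c6 LD2_c32 LD3_c30)) :=
  Lre_g IH (LK LD1_c12 LD2_c32 LD3_c34) (LK LD1_c6 LD2_c32 LD3_c30) Lrfl Lrfl
theorem f774331 : Led Lsl_gt (LP (LK LD1_c17 LD2_c10 LD3_c56)) = (LP (LK LD1_c12 LD2_c32 LD3_c34)) :=
  Lgr Lrot5 (Lpr_ft (f774032 IH) (Lpe (f768231 IH) (Lpe (f151947 IH) (Lpn (LP (LK LD1_c12 LD2_c32 LD3_c34))))))
theorem f774332 : Led Lsl_gt (LP (LK LD1_c17 LD2_c10 LD3_c56)) = (LP (LK LD1_c12 LD2_c32 LD3_c34)) :=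
  Leop (Lpe (f774331 IH) (Lpn (LP (LK LD1_c17 LD2_c10 LD3_c56))))
theorem seed_1372 : LEOK LG_g (LK LD1_c17 LD2_c10 LD3_c56) :=
  Leoe_g (LK LD1_c17 LD2_c10 LD3_c56) (f774332 IH)
def v18732 : LQ := Led Lsl_ft (LP (LK LD1_c6 LD2_c32 LD3_c30))
theorem f768234 : Led Lsl_ft (LP (LK LD1_c6 LD2_c32 LD3_c30)) = v18732 :=
  Lrfl
theorem f774327 : Led Lsl_af (LP (LK LD1_c17 LD2_c10 LD3_c56)) = v18732 :=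
  Lgr Lrot45 (Lpr_ft (f774032 IH) (Lpe (f768231 IH) (Lpr_ft (f768234 IH) (Lpn v18732))))
theorem f442963 : Led Lsl_gt (LP (LK LD1_c6 LD2_c32 LD3_c30)) = (LP (LK LD1_c12 LD2_c32 LD3_c33)) :=
  Lre_g IH (LK LD1_c6 LD2_c32 LD3_c30) (LK LD1_c12 LD2_c32 LD3_c33) Lrfl Lrfl
theorem f774371 : Led Lsl_gf (LP (LK LD1_c17 LD2_c10 LD3_c56)) = (LP (LK LD1_c12 LD2_c32 LD3_c33)) :=
  Lgr Lrot76 (Lpr_af (f774327 IH) (Lpe (f768234 IH) (Lpr_gt (f442963 IH) (Lpn (LP (LK LD1_c12 LD2_c32 LD3_c33))))))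
theorem f774372 : Led Lsl_gt (LP (LK LD1_c12 LD2_c32 LD3_c33)) = (LP (LK LD1_c17 LD2_c10 LD3_c56)) :=
  Leop (Lpr_gf (f774371 IH) (Lpn (LP (LK LD1_c12 LD2_c32 LD3_c33))))
theorem seed_1373 : LEOK LG_g (LK LD1_c12 LD2_c32 LD3_c33) :=
  Leoe_g (LK LD1_c12 LD2_c32 LD3_c33) (f774372 IH)
theorem f494890 : Led Lsl_df (LP (LK LD1_c3 LD2_c19 LD3_c25)) = K58.v1332 :=
  Lgr Lrot12 (Lpr_bt (K58.f24666 IH) (Lpr_dt (K32.f144062 IH) (Lpr_bt (K58.f494888 IH) (Lpn K58.v1332))))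
theorem f494892 : Led Lsl_dt (LP (LK LD1_c3 LD2_c19 LD3_c25)) = K58.v1332 :=
  Lgr Lrot42 (Lpr_df (f494890 IH) (Lpn K58.v1332))
theorem f649924 : Led Lsl_cf K58.v2021 = K58.v5878 :=
  Lgr Lrot108 (Lpe (K58.f506927 IH) (Lpr_ct (K58.f151949 IH) (Lpr_ft (K58.f649922 IH) (Lpn K58.v5878))))
theorem f443000 : Led Lsl_dt (LP (LK LD1_c3 LD2_c14 LD3_c24)) = (LP (LK LD1_c6 LD2_c32 LD3_c30)) :=
  Lre_d IH (LK LD1_c3 LD2_c14 LD3_c24) (LK LD1_c6 LD2_c32 LD3_c30) Lrfl Lrfl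
theorem f768236 : Led Lsl_df K58.v5878 = v18732 :=
  Lgr Lrot78 (Lpe (K58.f649925 IH) (Lpr_dt (f443000 IH) (Lpr_ft (f768234 IH) (Lpn v18732))))
theorem f441955 : Led Lsl_dt (LP (LK LD1_c4 LD2_c47 LD3_c6)) = (LP (LK LD1_c9 LD2_c27 LD3_c10)) :=
  Lre_d IH (LK LD1_c4 LD2_c47 LD3_c6) (LK LD1_c9 LD2_c27 LD3_c10) Lrfl Lrfl
theorem f774390 : Led Lsl_gf v18732 = (LP (LK LD1_c9 LD2_c27 LD3_c10)) :=
  Lgr Lrot154 (Lpe (f768236 IH) (Lpe (f649924 IH) (Lpqs (K58.f507041 IH) (Lpe (f494892 IH) (Lpq (K58.f770431 IH) (Lpqs (K58.f758517 IH) (Lpr_gf (K58.f668880 IH) (Lpe (K57.f633427 IH) (Lpr_gf (K49.f633415 IH) (Lpq (K49.f674033 IH) (Lpr_ct (f103362 IH) (Lpqs (f774000 IH) (Lpe (f704308 IH) (Lpr_dt (f441955 IH) (Lpn (LP (LK LD1_c9 LD2_c27 LD3_c10)))))))))))))))))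
theorem f98928 : Led Lsl_gt (LP (LK LD1_c9 LD2_c26 LD3_c28)) = (LP (LK LD1_c17 LD2_c24 LD3_c28)) :=
  Lre_g IH (LK LD1_c9 LD2_c26 LD3_c28) (LK LD1_c17 LD2_c24 LD3_c28) Lrfl Lrfl
theorem f110612 : Led Lsl_et (LP (LK LD1_c27 LD2_c13 LD3_c39)) = (LP (LK LD1_c17 LD2_c24 LD3_c28)) :=
  Lre_e IH (LK LD1_c27 LD2_c13 LD3_c39) (LK LD1_c17 LD2_c24 LD3_c28) Lrfl Lrfl
theorem f774393 : Led Lsl_et (LP (LK LD1_c17 LD2_c25 LD3_c52)) = (LP (LK LD1_c9 LD2_c27 LD3_c10)) :=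
  Lre_e IH (LK LD1_c17 LD2_c25 LD3_c52) (LK LD1_c9 LD2_c27 LD3_c10) Lrfl Lrfl
theorem f674664 : Led Lsl_dt (LP (LK LD1_c17 LD2_c25 LD3_c52)) = (LP (LK LD1_c9 LD2_c27 LD3_c9)) :=
  Lre_d IH (LK LD1_c17 LD2_c25 LD3_c52) (LK LD1_c9 LD2_c27 LD3_c9) Lrfl Lrfl
theorem f674713 : Led Lsl_gt (LP (LK LD1_c17 LD2_c25 LD3_c51)) = (LP (LK LD1_c9 LD2_c27 LD3_c9)) :=
  Lre_g IH (LK LD1_c17 LD2_c25 LD3_c51) (LK LD1_c9 LD2_c27 LD3_c9) Lrfl Lrfl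
theorem f774394 : Led Lsl_dt (LP (LK LD1_c27 LD2_c13 LD3_c39)) = (LP (LK LD1_c17 LD2_c25 LD3_c51)) :=
  Lgr Lrot136 (Lpr_et (f110612 IH) (Lpe (f98928 IH) (Lpe (K37.f98904 IH) (Lpr_dt (K42.f102327 IH) (Lpr_gf (K58.f703386 IH) (Lpq (K58.f770364 IH) (Lpr_df (f768236 IH) (Lpr_gf (f774390 IH) (Lpe (f774393 IH) (Lpr_dt (f674664 IH) (Lpe (f674713 IH) (Lpn (LP (LK LD1_c17 LD2_c25 LD3_c51))))))))))))))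
theorem f774395 : Led Lsl_dt (LP (LK LD1_c27 LD2_c13 LD3_c39)) = (LP (LK LD1_c17 LD2_c25 LD3_c51)) :=
  Leop (Lpe (f774394 IH) (Lpn (LP (LK LD1_c27 LD2_c13 LD3_c39))))
theorem seed_1374 : LEOK LG_d (LK LD1_c27 LD2_c13 LD3_c39) :=
  Leoe_d (LK LD1_c27 LD2_c13 LD3_c39) (f774395 IH)
theorem f83710 : Led Lsl_ct (LP (LK LD1_c3 LD2_c13 LD3_c11)) = (LP (LK LD1_c6 LD2_c30 LD3_c12)) :=
  Lre_c IH (LK LD1_c3 LD2_c13 LD3_c11) (LK LD1_c6 LD2_c30 LD3_c12) Lrfl Lrfl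
theorem f454868 : Led Lsl_gt (LP (LK LD1_c12 LD2_c29 LD3_c59)) = (LP (LK LD1_c6 LD2_c30 LD3_c12)) :=
  Lre_g IH (LK LD1_c12 LD2_c29 LD3_c59) (LK LD1_c6 LD2_c30 LD3_c12) Lrfl Lrfl
theorem f83709 : Led Lsl_bt (LP (LK LD1_c3 LD2_c13 LD3_c11)) = (LP (LK LD1_c1 LD2_c33 LD3_c2)) :=
  Lre_b IH (LK LD1_c3 LD2_c13 LD3_c11) (LK LD1_c1 LD2_c33 LD3_c2) Lrfl Lrfl
theorem f501058 : Led Lsl_ct (LP (LK LD1_c4 LD2_c41 LD3_c9)) = (LP (LK LD1_c6 LD2_c3 LD3_c3)) :=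
  Lgr Lrot7 (Lpe (K32.f438689 IH) (Lpr_gf (K32.f415925 IH) (Lpe (K32.f135608 IH) (Lpe (K32.f25586 IH) (Lpe (K24.f140706 IH) (Lpr_gt (K17.f180314 IH) (Lpr_dt (K32.f415895 IH) (Lpr_gt (K32.f501055 IH) (Lpr_dt (K32.f501057 IH) (Lpn (LP (LK LD1_c6 LD2_c3 LD3_c3))))))))))))
def v13190 : LQ := Led Lsl_bt (LP (LK LD1_c4 LD2_c41 LD3_c9))
theorem f701598 : Led Lsl_bt (LP (LK LD1_c4 LD2_c41 LD3_c9)) = v13190 :=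
  Lrfl
def v7871 : LQ := Led Lsl_et K58.v1341
theorem f668823 : Led Lsl_et K58.v1341 = v7871 :=
  Lrfl
theorem f758527 : Led Lsl_af K58.v13135 = v7871 :=
  Lgr Lrot50 (Lpe (K58.f701289 IH) (Lpr_at (K57.f701281 IH) (Lpqs (K58.f758518 IH) (Lpr_et (f668823 IH) (Lpn v7871)))))
def v13161 : LQ := Led Lsl_gf (LP (LK LD1_c4 LD2_c40 LD3_c48))
theorem f701467 : Led Lsl_gf (LP (LK LD1_c4 LD2_c40 LD3_c48)) = v13161 :=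
  Lrfl
theorem f758529 : Led Lsl_ft v13161 = v7871 :=
  Lgr Lrot2 (Lpe (f701467 IH) (Lpr_gt (K58.f701466 IH) (Lpq (K58.f758420 IH) (Lpr_af (f758527 IH) (Lpn v7871)))))
theorem f758530 : Led Lsl_ff v13161 = v7871 :=
  Lgr Lrot3 (Lpr_ft (f758529 IH) (Lpn v7871))
theorem f507105 : Led Lsl_ft (LP (LK LD1_c2 LD2_c20 LD3_c13)) = (LP (LK LD1_c4 LD2_c41 LD3_c9)) :=
  Lgr Lrot4 (Lpr_cf (K32.f144078 IH) (Lpr_ff (K35.f507103 IH) (Lpe (f501058 IH) (Lpn (LP (LK LD1_c4 LD2_c41 LD3_c9))))))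
def v4378 : LQ := Led Lsl_bt (LP (LK LD1_c2 LD2_c20 LD3_c13))
theorem f633013 : Led Lsl_bt (LP (LK LD1_c2 LD2_c20 LD3_c13)) = v4378 :=
  Lrfl
theorem f633014 : Led Lsl_bf (LP (LK LD1_c2 LD2_c20 LD3_c13)) = v4378 :=
  Lgr Lrot24 (Lpr_bt (f633013 IH) (Lpn v4378))
theorem f701601 : Led Lsl_ff v4378 = v13190 :=
  Lgr Lrot25 (Lpe (f633014 IH) (Lpr_ft (f507105 IH) (Lpr_bt (f701598 IH) (Lpn v13190))))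
theorem f701603 : Led Lsl_ft v4378 = v13190 :=
  Lgr Lrot48 (Lpr_ff (f701601 IH) (Lpn v13190))
theorem f633016 : Led Lsl_ef K58.v1332 = v4378 :=
  Lgr Lrot29 (Lpe (K58.f494889 IH) (Lpr_et (K32.f144067 IH) (Lpr_bt (f633013 IH) (Lpn v4378))))
theorem f633018 : Led Lsl_et K58.v1332 = v4378 :=
  Lgr Lrot87 (Lpr_ef (f633016 IH) (Lpn v4378))
theorem f770446 : K57.v13133 = K58.v2021 :=
  Lefun (Lecon (K57.f701283 IH) (K58.f770430 IH)) (K58.f506924 IH)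
theorem f770478 : v7871 = v4378 :=
  Lefun (Lecon (f668823 IH) (((K58.f758518 IH).symm.trans (f770446 IH)).trans (K58.f507041 IH))) (f633018 IH)
theorem f770522 : v13161 = v13190 :=
  Lefun (Lecon (Lfl_ff (f758530 IH)) (f770478 IH)) (f701603 IH)
theorem f701408 : Led Lsl_bt (LP (LK LD1_c9 LD2_c16 LD3_c56)) = (LP (LK LD1_c4 LD2_c40 LD3_c48)) :=
  Lre_b IH (LK LD1_c9 LD2_c16 LD3_c56) (LK LD1_c4 LD2_c40 LD3_c48) Lrfl Lrfl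
theorem f774420 : Led Lsl_cf (LP (LK LD1_c12 LD2_c29 LD3_c59)) = (LP (LK LD1_c9 LD2_c16 LD3_c56)) :=
  Lgr Lrot160 (Lpr_gt (f454868 IH) (Lpe (f83710 IH) (Lpr_bt (f83709 IH) (Lpr_gt (K24.f82719 IH) (Lpe (K24.f454831 IH) (Lpr_gt (K32.f501078 IH) (Lpe (f501058 IH) (Lpr_bt (f701598 IH) (Lpq (f770522 IH) (Lpe (f701467 IH) (Lpe (f701408 IH) (Lpn (LP (LK LD1_c9 LD2_c16 LD3_c56))))))))))))))
theorem f774421 : Led Lsl_ct (LP (LK LD1_c9 LD2_c16 LD3_c56)) = (LP (LK LD1_c12 LD2_c29 LD3_c59)) :=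
  Leop (Lpr_cf (f774420 IH) (Lpn (LP (LK LD1_c9 LD2_c16 LD3_c56))))
theorem seed_1375 : LEOK LG_c (LK LD1_c9 LD2_c16 LD3_c56) :=
  Leoe_c (LK LD1_c9 LD2_c16 LD3_c56) (f774421 IH)
theorem f701396 : Led Lsl_et (LP (LK LD1_c4 LD2_c40 LD3_c45)) = (LP (LK LD1_c9 LD2_c16 LD3_c56)) :=
  Lre_e IH (LK LD1_c4 LD2_c40 LD3_c45) (LK LD1_c9 LD2_c16 LD3_c56) Lrfl Lrfl
theorem f701398 : Led Lsl_cf (LP (LK LD1_c4 LD2_c40 LD3_c45)) = K50.v13149 :=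
  Lgr Lrot11 (Lpr_ct (K50.f701397 IH) (Lpn K50.v13149))
theorem f774424 : Led Lsl_et (LP (LK LD1_c12 LD2_c29 LD3_c59)) = K50.v13149 :=
  Lgr Lrot158 (Lpr_cf (f774420 IH) (Lpe (f701396 IH) (Lpr_cf (f701398 IH) (Lpn K50.v13149))))
theorem f58341 : Led Lsl_gt (LP (LK LD1_c2 LD2_c17 LD3_c25)) = (LP (LK LD1_c4 LD2_c40 LD3_c22)) :=
  Lre_g IH (LK LD1_c2 LD2_c17 LD3_c25) (LK LD1_c4 LD2_c40 LD3_c22) Lrfl Lrfl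
theorem f58296 : Led Lsl_gt (LP (LK LD1_c9 LD2_c16 LD3_c6)) = (LP (LK LD1_c4 LD2_c40 LD3_c42)) :=
  Lre_g IH (LK LD1_c9 LD2_c16 LD3_c6) (LK LD1_c4 LD2_c40 LD3_c42) Lrfl Lrfl
theorem f66963 : Led Lsl_at (LP (LK LD1_c3 LD2_c12 LD3_c36)) = (LP (LK LD1_c1 LD2_c32 LD3_c47)) :=
  Lre_a IH (LK LD1_c3 LD2_c12 LD3_c36) (LK LD1_c1 LD2_c32 LD3_c47) Lrfl Lrfl
theorem f66964 : Led Lsl_bt (LP (LK LD1_c3 LD2_c6 LD3_c53)) = (LP (LK LD1_c3 LD2_c12 LD3_c36)) :=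
  Lgr Lrot62 (Lpe (K2.f66962 IH) (Lpe (K46.f66961 IH) (Lpr_af (K2.f66957 IH) (Lpe (K9.f61507 IH) (Lpe (f66963 IH) (Lpn (LP (LK LD1_c3 LD2_c12 LD3_c36))))))))
def v5361 : LQ := Led Lsl_et (LP (LK LD1_c3 LD2_c6 LD3_c52))
theorem f647251 : Led Lsl_et (LP (LK LD1_c3 LD2_c6 LD3_c52)) = v5361 :=
  Lrfl
theorem f647254 : Led Lsl_ef (LP (LK LD1_c3 LD2_c6 LD3_c52)) = v5361 :=
  Lgr Lrot88 (Lpr_et (f647251 IH) (Lpn v5361))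
theorem f647256 : Led Lsl_ct (LP (LK LD1_c3 LD2_c6 LD3_c53)) = v5361 :=
  Lgr Lrot15 (Lpe (K1.f66844 IH) (Lpe (K1.f66841 IH) (Lpr_ef (f647254 IH) (Lpn v5361))))
theorem f701399 : Led Lsl_gt v5361 = K50.v13149 :=
  Lgr Lrot65 (Lpe (f647256 IH) (Lpr_bt (f66964 IH) (Lpe (K57.f67026 IH) (Lpr_bf (K57.f701386 IH) (Lpe (K57.f701381 IH) (Lpe (f58296 IH) (Lpe (K50.f58334 IH) (Lpe (f58341 IH) (Lpe (K50.f61054 IH) (Lpr_ct (K50.f701397 IH) (Lpn K50.v13149)))))))))))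
theorem f90261 : Led Lsl_dt (LP (LK LD1_c1 LD2_c54 LD3_c31)) = (LP (LK LD1_c0 LD2_c53 LD3_c54)) :=
  Lre_d IH (LK LD1_c1 LD2_c54 LD3_c31) (LK LD1_c0 LD2_c53 LD3_c54) Lrfl Lrfl
theorem f97699 : Led Lsl_df (LP (LK LD1_c3 LD2_c55 LD3_c48)) = (LP (LK LD1_c3 LD2_c23 LD3_c5)) :=
  Lgr Lrot43 (Lpr_ct (K5.f90288 IH) (Lpr_dt (f90261 IH) (Lpr_ct (K4.f65965 IH) (Lpr_dt (K4.f90258 IH) (Lpr_ct (K2.f12107 IH) (Lpe (K3.f78197 IH) (Lpr_ct (K3.f78161 IH) (Lpr_dt (K3.f97665 IH) (Lpr_ct (K3.f11843 IH) (Lpr_dt (K3.f11844 IH) (Lpr_ct (K1.f11851 IH) (Lpe (K2.f64363 IH) (Lpr_ct (K2.f12691 IH) (Lpr_dt (K3.f17658 IH) (Lpe (K3.f90247 IH) (Lpn (LP (LK LD1_c3 LD2_c23 LD3_c5))))))))))))))))))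
theorem f40512 : Led Lsl_et (LP (LK LD1_c3 LD2_c23 LD3_c46)) = (LP (LK LD1_c1 LD2_c38 LD3_c10)) :=
  Lre_e IH (LK LD1_c3 LD2_c23 LD3_c46) (LK LD1_c1 LD2_c38 LD3_c10) Lrfl Lrfl
theorem f40462 : Led Lsl_dt (LP (LK LD1_c3 LD2_c23 LD3_c46)) = (LP (LK LD1_c6 LD2_c50 LD3_c44)) :=
  Lre_d IH (LK LD1_c3 LD2_c23 LD3_c46) (LK LD1_c6 LD2_c50 LD3_c44) Lrfl Lrfl
theorem f40457 : Led Lsl_gt (LP (LK LD1_c13 LD2_c1 LD3_c58)) = (LP (LK LD1_c6 LD2_c50 LD3_c44)) :=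
  Lre_g IH (LK LD1_c13 LD2_c1 LD3_c58) (LK LD1_c6 LD2_c50 LD3_c44) Lrfl Lrfl
theorem f774426 : Led Lsl_dt (LP (LK LD1_c12 LD2_c29 LD3_c59)) = (LP (LK LD1_c13 LD2_c1 LD3_c58)) :=
  Lgr Lrot136 (Lpr_et (f774424 IH) (Lpe (f701399 IH) (Lpe (f647251 IH) (Lpr_dt (K50.f66833 IH) (Lpe (K5.f97719 IH) (Lpr_df (f97699 IH) (Lpe (K3.f15029 IH) (Lpe (f40512 IH) (Lpr_dt (f40462 IH) (Lpe (f40457 IH) (Lpn (LP (LK LD1_c13 LD2_c1 LD3_c58)))))))))))))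
theorem f774427 : Led Lsl_dt (LP (LK LD1_c12 LD2_c29 LD3_c59)) = (LP (LK LD1_c13 LD2_c1 LD3_c58)) :=
  Leop (Lpe (f774426 IH) (Lpn (LP (LK LD1_c12 LD2_c29 LD3_c59))))
theorem seed_1376 : LEOK LG_d (LK LD1_c12 LD2_c29 LD3_c59) :=
  Leoe_d (LK LD1_c12 LD2_c29 LD3_c59) (f774427 IH)
theorem f506127 : Led Lsl_at (LP (LK LD1_c6 LD2_c21 LD3_c24)) = (LP (LK LD1_c3 LD2_c8 LD3_c26)) :=
  Lre_a IH (LK LD1_c6 LD2_c21 LD3_c24) (LK LD1_c3 LD2_c8 LD3_c26) Lrfl Lrfl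
def v5486 : LQ := Led Lsl_gf (LP (LK LD1_c3 LD2_c8 LD3_c26))
theorem f647899 : Led Lsl_gf (LP (LK LD1_c3 LD2_c8 LD3_c26)) = v5486 :=
  Lrfl
theorem f702030 : Led Lsl_gf v5486 = v13267 :=
  Lgr Lrot47 (Lpe (f647899 IH) (Lpe (f506127 IH) (Lpr_ff (f702027 IH) (Lpn v13267))))
theorem f79057 : Led Lsl_gt (LP (LK LD1_c6 LD2_c36 LD3_c27)) = (LP (LK LD1_c3 LD2_c16 LD3_c33)) :=
  Lre_g IH (LK LD1_c6 LD2_c36 LD3_c27) (LK LD1_c3 LD2_c16 LD3_c33) Lrfl Lrfl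
def v3181 : LQ := Led Lsl_gt v551
def v10092 : LQ := Led Lsl_bt v3181
theorem f678805 : Led Lsl_bt v3181 = v10092 :=
  Lrfl
theorem f678806 : Led Lsl_bf v3181 = v10092 :=
  Lgr Lrot24 (Lpr_bt (f678805 IH) (Lpn v10092))
theorem f624548 : Led Lsl_gt v551 = v3181 :=
  Lrfl
theorem f678807 : Led Lsl_cf v5486 = v10092 :=
  Lgr Lrot160 (Lpe (f647899 IH) (Lpe (K58.f435562 IH) (Lpr_bt (K35.f435557 IH) (Lpr_gt (K24.f435550 IH) (Lpe (K32.f61098 IH) (Lpe (K32.f435525 IH) (Lpe (K29.f443997 IH) (Lpr_bt (f453953 IH) (Lpr_gt (f624548 IH) (Lpr_bf (f678806 IH) (Lpn v10092)))))))))))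
theorem f508716 : Led Lsl_ct (LP (LK LD1_c1 LD2_c34 LD3_c60)) = (LP (LK LD1_c3 LD2_c16 LD3_c33)) :=
  Lre_c IH (LK LD1_c1 LD2_c34 LD3_c60) (LK LD1_c3 LD2_c16 LD3_c33) Lrfl Lrfl
theorem f633516 : Led Lsl_gt v3181 = v4461 :=
  Lgr Lrot46 (Lpe (f624548 IH) (Lpr_ft (f507820 IH) (Lpr_at (f633512 IH) (Lpn v4461))))
theorem f771655 : v3181 = (LP (LK LD1_c0 LD2_c44 LD3_c13)) :=
  Lefun (Lecon (Lfl_gt (f633516 IH)) (f771600 IH)) (Lfl_gt (K5.f114226 IH))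
theorem f771728 : v10092 = (LP (LK LD1_c1 LD2_c34 LD3_c60)) :=
  Lefun (Lecon (f678805 IH) (f771655 IH)) (f119179 IH)
theorem f771805 : v5486 = (LP (LK LD1_c3 LD2_c16 LD3_c33)) :=
  Lefun (Lecon (Lfl_cf (f678807 IH)) (f771728 IH)) (f508716 IH)
theorem f771875 : v13267 = (LP (LK LD1_c6 LD2_c36 LD3_c27)) :=
  Lefun (Lecon (f702030 IH) (f771805 IH)) (Lfl_gt (f79057 IH))
theorem f82640 : Led Lsl_dt (LP (LK LD1_c3 LD2_c8 LD3_c24)) = (LP (LK LD1_c6 LD2_c21 LD3_c23)) :=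
  Lre_d IH (LK LD1_c3 LD2_c8 LD3_c24) (LK LD1_c6 LD2_c21 LD3_c23) Lrfl Lrfl
def v17686 : LQ := Led Lsl_gt (LP (LK LD1_c6 LD2_c21 LD3_c23))
theorem f761744 : Led Lsl_gt (LP (LK LD1_c6 LD2_c21 LD3_c23)) = v17686 :=
  Lrfl
theorem f133953 : Led Lsl_ct (LP (LK LD1_c3 LD2_c16 LD3_c33)) = (LP (LK LD1_c1 LD2_c34 LD3_c60)) :=
  Lre_c IH (LK LD1_c3 LD2_c16 LD3_c33) (LK LD1_c1 LD2_c34 LD3_c60) Lrfl Lrfl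
theorem f78791 : Led Lsl_dt (LP (LK LD1_c3 LD2_c16 LD3_c36)) = (LP (LK LD1_c1 LD2_c34 LD3_c60)) :=
  Lre_d IH (LK LD1_c3 LD2_c16 LD3_c36) (LK LD1_c1 LD2_c34 LD3_c60) Lrfl Lrfl
theorem f78814 : Led Lsl_ct (LP (LK LD1_c6 LD2_c36 LD3_c35)) = (LP (LK LD1_c3 LD2_c16 LD3_c36)) :=
  Lre_c IH (LK LD1_c6 LD2_c36 LD3_c35) (LK LD1_c3 LD2_c16 LD3_c36) Lrfl Lrfl
theorem f78820 : Led Lsl_gt (LP (LK LD1_c12 LD2_c39 LD3_c1)) = (LP (LK LD1_c6 LD2_c36 LD3_c35)) :=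
  Lre_g IH (LK LD1_c12 LD2_c39 LD3_c1) (LK LD1_c6 LD2_c36 LD3_c35) Lrfl Lrfl
theorem f774862 : Led Lsl_ct v17686 = (LP (LK LD1_c12 LD2_c39 LD3_c1)) :=
  Lgr Lrot152 (Lpe (f761744 IH) (Lpe (f82640 IH) (Lpr_gt (K58.f506116 IH) (Lpr_ct (f702024 IH) (Lpqs (f771875 IH) (Lpr_gt (f79057 IH) (Lpr_ct (f133953 IH) (Lpe (f78791 IH) (Lpe (f78814 IH) (Lpe (f78820 IH) (Lpn (LP (LK LD1_c12 LD2_c39 LD3_c1)))))))))))))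
theorem f762158 : Led Lsl_ff (LP (LK LD1_c6 LD2_c22 LD3_c11)) = K58.v17782 :=
  Lgr Lrot3 (Lpr_ft (K58.f762155 IH) (Lpn K58.v17782))
theorem f67282 : Led Lsl_at (LP (LK LD1_c6 LD2_c22 LD3_c11)) = (LP (LK LD1_c3 LD2_c8 LD3_c48)) :=
  Lre_a IH (LK LD1_c6 LD2_c22 LD3_c11) (LK LD1_c3 LD2_c8 LD3_c48) Lrfl Lrfl
theorem f632453 : Led Lsl_ft (LP (LK LD1_c3 LD2_c8 LD3_c48)) = K58.v4292 :=
  Lgr Lrot48 (Lpr_ff (K58.f632452 IH) (Lpn K58.v4292))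
theorem f762160 : Led Lsl_at K58.v4292 = K58.v17782 :=
  Lgr Lrot66 (Lpe (f632453 IH) (Lpe (f67282 IH) (Lpr_ff (f762158 IH) (Lpn K58.v17782))))
def v5506 : LQ := Led Lsl_gt (LP (LK LD1_c3 LD2_c8 LD3_c48))
theorem f648002 : Led Lsl_gt (LP (LK LD1_c3 LD2_c8 LD3_c48)) = v5506 :=
  Lrfl
theorem f762163 : Led Lsl_gt v5506 = K58.v17782 :=
  Lgr Lrot46 (Lpe (f648002 IH) (Lpr_ft (f632453 IH) (Lpr_at (f762160 IH) (Lpn K58.v17782))))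
theorem f769917 : K58.v18256 = v5506 :=
  Lefun (Lecon (K58.f765982 IH) (K58.f769916 IH)) (f648002 IH)
theorem f769936 : K58.v18256 = (LP (LK LD1_c6 LD2_c21 LD3_c23)) :=
  Lefun (Lecon (K58.f765980 IH) (K58.f769929 IH)) (f82640 IH)
theorem f769968 : K58.v17782 = v17686 :=
  Lefun (Lecon (f762163 IH) ((f769917 IH).symm.trans (f769936 IH))) (f761744 IH)
def v17358 : LQ := Led Lsl_gf (LP (LK LD1_c6 LD2_c18 LD3_c11))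
theorem f758920 : Led Lsl_gf (LP (LK LD1_c6 LD2_c18 LD3_c11)) = v17358 :=
  Lrfl
theorem f765981 : Led Lsl_gf v17358 = K58.v18256 :=
  Lgr Lrot47 (Lpe (f758920 IH) (Lpe (K4.f114502 IH) (Lpr_ff (K58.f765977 IH) (Lpn K58.v18256))))
theorem f769920 : v17358 = K58.v17782 :=
  Lefun (Lecon (Lfl_gf (f765981 IH)) (f769917 IH)) (f762163 IH)
theorem f82642 : Led Lsl_dt (LP (LK LD1_c1 LD2_c30 LD3_c25)) = (LP (LK LD1_c3 LD2_c8 LD3_c27)) :=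
  Lre_d IH (LK LD1_c1 LD2_c30 LD3_c25) (LK LD1_c3 LD2_c8 LD3_c27) Lrfl Lrfl
theorem f504519 : Led Lsl_dt (LP (LK LD1_c12 LD2_c17 LD3_c0)) = (LP (LK LD1_c6 LD2_c21 LD3_c32)) :=
  Lre_d IH (LK LD1_c12 LD2_c17 LD3_c0) (LK LD1_c6 LD2_c21 LD3_c32) Lrfl Lrfl
theorem f774869 : Led Lsl_gf (LP (LK LD1_c12 LD2_c17 LD3_c0)) = (LP (LK LD1_c12 LD2_c39 LD3_c3)) :=
  Lgr Lrot154 (Lpr_dt (f504519 IH) (Lpr_ct (K46.f504518 IH) (Lpe (f82642 IH) (Lpq (K58.f769928 IH) (Lpe (K58.f647157 IH) (Lpe (K4.f78180 IH) (Lpr_gf (f758920 IH) (Lpqs (f769920 IH) (Lpqs (f769968 IH) (Lpr_ct (f774862 IH) (Lpr_gt (f78820 IH) (Lpr_dt (f78808 IH) (Lpn (LP (LK LD1_c12 LD2_c39 LD3_c3)))))))))))))))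
theorem f774870 : Led Lsl_gt (LP (LK LD1_c12 LD2_c39 LD3_c3)) = (LP (LK LD1_c12 LD2_c17 LD3_c0)) :=
  Leop (Lpr_gf (f774869 IH) (Lpn (LP (LK LD1_c12 LD2_c39 LD3_c3))))
theorem seed_1377 : LEOK LG_g (LK LD1_c12 LD2_c39 LD3_c3) :=
  Leoe_g (LK LD1_c12 LD2_c39 LD3_c3) (f774870 IH)
def v13563 : LQ := Led Lsl_bt (LP (LK LD1_c4 LD2_c45 LD3_c31))
theorem f703706 : Led Lsl_bt (LP (LK LD1_c4 LD2_c45 LD3_c31)) = v13563 :=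
  Lrfl
theorem f760920 : Led Lsl_at K57.v6232 = K58.v17562 :=
  Lgr Lrot66 (Lpe (K57.f652225 IH) (Lpr_af (K57.f652220 IH) (Lpr_ff (K58.f760917 IH) (Lpn K58.v17562))))
theorem f770690 : K58.v17562 = K58.v13559 :=
  Lefun (Lecon (f760920 IH) ((K57.f663679 IH).trans (K58.f770687 IH).symm)) (K58.f703692 IH)
theorem f770696 : (LP (LK LD1_c4 LD2_c45 LD3_c31)) = K57.v6230 :=
  Lefun (Lecon (Lfl_ff (K58.f703695 IH)) (f770690 IH).symm) (Lfl_ff (K58.f760917 IH))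
theorem f770700 : K57.v17473 = v13563 :=
  Lefun (Lecon (K57.f759994 IH) (f770696 IH).symm) (f703706 IH)
theorem f204612 : Led Lsl_bt (LP (LK LD1_c12 LD2_c14 LD3_c27)) = (LP (LK LD1_c6 LD2_c19 LD3_c40)) :=
  Lre_b IH (LK LD1_c12 LD2_c14 LD3_c27) (LK LD1_c6 LD2_c19 LD3_c40) Lrfl Lrfl
theorem f703707 : Led Lsl_bf (LP (LK LD1_c4 LD2_c45 LD3_c31)) = v13563 :=
  Lgr Lrot24 (Lpr_bt (f703706 IH) (Lpn v13563))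
def v13564 : LQ := Led Lsl_ct (LP (LK LD1_c4 LD2_c45 LD3_c31))
theorem f703708 : Led Lsl_ct (LP (LK LD1_c4 LD2_c45 LD3_c31)) = v13564 :=
  Lrfl
theorem f770701 : K57.v17729 = v13564 :=
  Lefun (Lecon (K57.f761914 IH) (f770696 IH).symm) (f703708 IH)
def v17733 : LQ := Led Lsl_ft (LP (LK LD1_c6 LD2_c21 LD3_c49))
theorem f761949 : Led Lsl_ft (LP (LK LD1_c6 LD2_c21 LD3_c49)) = v17733 :=
  Lrfl
def v17731 : LQ := Led Lsl_at (LP (LK LD1_c6 LD2_c21 LD3_c49))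
theorem f761939 : Led Lsl_at (LP (LK LD1_c6 LD2_c21 LD3_c49)) = v17731 :=
  Lrfl
theorem f761940 : Led Lsl_af (LP (LK LD1_c6 LD2_c21 LD3_c49)) = v17731 :=
  Lgr Lrot0 (Lpr_at (f761939 IH) (Lpn v17731))
theorem f761941 : Led Lsl_cf v5493 = v17731 :=
  Lgr Lrot1 (Lpe (f647934 IH) (Lpr_ct (K57.f632418 IH) (Lpr_at (f761939 IH) (Lpn v17731))))
theorem f647936 : Led Lsl_ff v1881 = v5493 :=
  Lgr Lrot3 (Lpr_ft (f647935 IH) (Lpn v5493))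
def v8192 : LQ := Led Lsl_ct v1881
theorem f670294 : Led Lsl_ct v1881 = v8192 :=
  Lrfl
theorem f761943 : Led Lsl_ft v8192 = v17731 :=
  Lgr Lrot4 (Lpe (f670294 IH) (Lpr_ff (f647936 IH) (Lpr_cf (f761941 IH) (Lpn v17731))))
theorem f761950 : Led Lsl_af v8192 = v17733 :=
  Lgr Lrot45 (Lpr_ft (f761943 IH) (Lpe (f761940 IH) (Lpr_ft (f761949 IH) (Lpn v17733))))
theorem f761953 : Led Lsl_gt K57.v17729 = v8192 :=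
  Lgr Lrot46 (Lpe (K57.f761913 IH) (Lpr_ft (f761949 IH) (Lpe (f761950 IH) (Lpn v8192))))
theorem f91373 : Led Lsl_gt (LP (LK LD1_c6 LD2_c49 LD3_c51)) = (LP (LK LD1_c3 LD2_c23 LD3_c15)) :=
  Lre_g IH (LK LD1_c6 LD2_c49 LD3_c51) (LK LD1_c3 LD2_c23 LD3_c15) Lrfl Lrfl
theorem f771465 : v8192 = (LP (LK LD1_c3 LD2_c23 LD3_c15)) :=
  Lefun (Lecon (f670294 IH) (f771452 IH)) (K3.f69286 IH)
theorem f771517 : K57.v17729 = (LP (LK LD1_c6 LD2_c49 LD3_c51)) :=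
  Lefun (Lecon (Lfl_gt (f761953 IH)) (f771465 IH)) (Lfl_gt (f91373 IH))
theorem f771523 : Led Lsl_bt (LP (LK LD1_c6 LD2_c49 LD3_c51)) = (LP (LK LD1_c13 LD2_c1 LD3_c8)) :=
  Lre_b IH (LK LD1_c6 LD2_c49 LD3_c51) (LK LD1_c13 LD2_c1 LD3_c8) Lrfl Lrfl
theorem f774943 : Led Lsl_cf (LP (LK LD1_c12 LD2_c14 LD3_c27)) = (LP (LK LD1_c13 LD2_c1 LD3_c8)) :=
  Lgr Lrot97 (Lpr_bt (f204612 IH) (Lpr_ct (K57.f759985 IH) (Lpqs (f770700 IH) (Lpe (f703707 IH) (Lpr_ct (f703708 IH) (Lpq (f770701 IH) (Lpqs (f771517 IH) (Lpr_bt (f771523 IH) (Lpn (LP (LK LD1_c13 LD2_c1 LD3_c8)))))))))))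
theorem f774944 : Led Lsl_ct (LP (LK LD1_c13 LD2_c1 LD3_c8)) = (LP (LK LD1_c12 LD2_c14 LD3_c27)) :=
  Leop (Lpr_cf (f774943 IH) (Lpn (LP (LK LD1_c13 LD2_c1 LD3_c8))))
theorem seed_1378 : LEOK LG_c (LK LD1_c13 LD2_c1 LD3_c8) :=
  Leoe_c (LK LD1_c13 LD2_c1 LD3_c8) (f774944 IH)
theorem f774945 : Led Lsl_ct (LP (LK LD1_c12 LD2_c14 LD3_c27)) = (LP (LK LD1_c13 LD2_c1 LD3_c8)) :=
  Lgr Lrot59 (Lpr_cf (f774943 IH) (Lpn (LP (LK LD1_c13 LD2_c1 LD3_c8))))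
theorem f204269 : Led Lsl_ct (LP (LK LD1_c6 LD2_c2 LD3_c26)) = (LP (LK LD1_c2 LD2_c57 LD3_c20)) :=
  Lre_c IH (LK LD1_c6 LD2_c2 LD3_c26) (LK LD1_c2 LD2_c57 LD3_c20) Lrfl Lrfl
theorem f204505 : Led Lsl_et (LP (LK LD1_c9 LD2_c12 LD3_c61)) = (LP (LK LD1_c6 LD2_c2 LD3_c26)) :=
  Lgr Lrot158 (Lpe (K11.f150486 IH) (Lpr_ef (K56.f204500 IH) (Lpe (f204269 IH) (Lpn (LP (LK LD1_c6 LD2_c2 LD3_c26))))))
theorem f150484 : Led Lsl_bf (LP (LK LD1_c9 LD2_c12 LD3_c61)) = (LP (LK LD1_c4 LD2_c43 LD3_c17)) :=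
  Lgr Lrot24 (Lpr_bt (K11.f150473 IH) (Lpn (LP (LK LD1_c4 LD2_c43 LD3_c17))))
theorem f153653 : Led Lsl_et (LP (LK LD1_c1 LD2_c30 LD3_c10)) = (LP (LK LD1_c2 LD2_c19 LD3_c22)) :=
  Lgr Lrot74 (Lpe (K57.f153573 IH) (Lpr_ef (K7.f153649 IH) (Lpe (K11.f150489 IH) (Lpn (LP (LK LD1_c2 LD2_c19 LD3_c22))))))
theorem f153658 : Led Lsl_ef (LP (LK LD1_c1 LD2_c30 LD3_c10)) = (LP (LK LD1_c2 LD2_c19 LD3_c22)) :=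
  Lgr Lrot88 (Lpr_et (f153653 IH) (Lpn (LP (LK LD1_c2 LD2_c19 LD3_c22))))
theorem f153662 : Led Lsl_et (LP (LK LD1_c3 LD2_c7 LD3_c51)) = (LP (LK LD1_c4 LD2_c43 LD3_c17)) :=
  Lgr Lrot158 (Lpe (K57.f153583 IH) (Lpr_ef (f153658 IH) (Lpe (K11.f150488 IH) (Lpn (LP (LK LD1_c4 LD2_c43 LD3_c17))))))
theorem f204511 : Led Lsl_bf (LP (LK LD1_c3 LD2_c7 LD3_c51)) = (LP (LK LD1_c6 LD2_c2 LD3_c26)) :=
  Lgr Lrot96 (Lpr_et (f153662 IH) (Lpe (f150484 IH) (Lpr_et (f204505 IH) (Lpn (LP (LK LD1_c6 LD2_c2 LD3_c26))))))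
def v16531 : LQ := Led Lsl_ct (LP (LK LD1_c6 LD2_c2 LD3_c14))
theorem f750235 : Led Lsl_ct (LP (LK LD1_c6 LD2_c2 LD3_c14)) = v16531 :=
  Lrfl
theorem f750237 : Led Lsl_cf (LP (LK LD1_c6 LD2_c2 LD3_c14)) = v16531 :=
  Lgr Lrot11 (Lpr_ct (f750235 IH) (Lpn v16531))
theorem f643495 : Led Lsl_bf (LP (LK LD1_c9 LD2_c29 LD3_c54)) = (LP (LK LD1_c6 LD2_c2 LD3_c14)) :=
  Lgr Lrot61 (Lpr_ft (K46.f643493 IH) (Lpe (K46.f643410 IH) (Lpe (K45.f614912 IH) (Lpn (LP (LK LD1_c6 LD2_c2 LD3_c14))))))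
theorem f750240 : Led Lsl_gt (LP (LK LD1_c15 LD2_c5 LD3_c12)) = v16531 :=
  Lgr Lrot65 (Lpe (K42.f204176 IH) (Lpr_bt (K36.f204164 IH) (Lpe (K42.f615082 IH) (Lpr_bf (K42.f615227 IH) (Lpr_ct (K42.f615229 IH) (Lpr_gf (K42.f643107 IH) (Lpe (K42.f500826 IH) (Lpe (K52.f559438 IH) (Lpr_bf (f643495 IH) (Lpr_ct (f750235 IH) (Lpn v16531)))))))))))
theorem f774951 : Led Lsl_gf (LP (LK LD1_c15 LD2_c5 LD3_c13)) = (LP (LK LD1_c13 LD2_c1 LD3_c8)) :=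
  Lgr Lrot126 (Lpr_cf (K36.f204169 IH) (Lpe (K36.f204159 IH) (Lpr_gt (f750240 IH) (Lpe (f750237 IH) (Lpr_gt (K51.f204611 IH) (Lpe (f204269 IH) (Lpe (f204511 IH) (Lpr_gt (K57.f153584 IH) (Lpe (f204612 IH) (Lpr_ct (f774945 IH) (Lpn (LP (LK LD1_c13 LD2_c1 LD3_c8)))))))))))))
theorem f774952 : Led Lsl_gt (LP (LK LD1_c13 LD2_c1 LD3_c8)) = (LP (LK LD1_c15 LD2_c5 LD3_c13)) :=
  Leop (Lpr_gf (f774951 IH) (Lpn (LP (LK LD1_c13 LD2_c1 LD3_c8))))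
theorem seed_1379 : LEOK LG_g (LK LD1_c13 LD2_c1 LD3_c8) :=
  Leoe_g (LK LD1_c13 LD2_c1 LD3_c8) (f774952 IH)
theorem f113655 : Led Lsl_ct (LP (LK LD1_c2 LD2_c20 LD3_c57)) = (LP (LK LD1_c1 LD2_c7 LD3_c48)) :=
  Lre_c IH (LK LD1_c2 LD2_c20 LD3_c57) (LK LD1_c1 LD2_c7 LD3_c48) Lrfl Lrfl
theorem f439081 : Led Lsl_bt (LP (LK LD1_c2 LD2_c20 LD3_c57)) = (LP (LK LD1_c4 LD2_c45 LD3_c42)) :=
  Lre_b IH (LK LD1_c2 LD2_c20 LD3_c57) (LK LD1_c4 LD2_c45 LD3_c42) Lrfl Lrfl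
theorem f138402 : Led Lsl_gt (LP (LK LD1_c4 LD2_c45 LD3_c42)) = (LP (LK LD1_c9 LD2_c24 LD3_c0)) :=
  Lre_g IH (LK LD1_c4 LD2_c45 LD3_c42) (LK LD1_c9 LD2_c24 LD3_c0) Lrfl Lrfl
theorem f703858 : Led Lsl_ct (LP (LK LD1_c9 LD2_c24 LD3_c0)) = (LP (LK LD1_c17 LD2_c21 LD3_c5)) :=
  Lre_c IH (LK LD1_c9 LD2_c24 LD3_c0) (LK LD1_c17 LD2_c21 LD3_c5) Lrfl Lrfl
theorem f441215 : Led Lsl_ct (LP (LK LD1_c4 LD2_c45 LD3_c53)) = (LP (LK LD1_c2 LD2_c20 LD3_c59)) :=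
  Lre_c IH (LK LD1_c4 LD2_c45 LD3_c53) (LK LD1_c2 LD2_c20 LD3_c59) Lrfl Lrfl
def v13600 : LQ := Led Lsl_bt (LP (LK LD1_c4 LD2_c45 LD3_c53))
theorem f703856 : Led Lsl_bt (LP (LK LD1_c4 LD2_c45 LD3_c53)) = v13600 :=
  Lrfl
theorem f700910 : Led Lsl_ff (LP (LK LD1_c6 LD2_c0 LD3_c17)) = K50.v13070 :=
  Lgr Lrot23 (Lpr_ct (K58.f502738 IH) (Lpqs (K45.f643296 IH) (Lpr_ft (K45.f507817 IH) (Lpr_ct (K50.f700906 IH) (Lpn K50.v13070)))))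
theorem f700938 : Led Lsl_bt K58.v6245 = K50.v13070 :=
  Lgr Lrot35 (Lpe (K58.f652275 IH) (Lpr_bf (K57.f644213 IH) (Lpr_ff (f700910 IH) (Lpn K50.v13070))))
theorem f770500 : K50.v13070 = v13600 :=
  Lefun (Lecon (f700938 IH) (K58.f770456 IH)) (f703856 IH)
theorem f497070 : Led Lsl_bt (LP (LK LD1_c11 LD2_c45 LD3_c44)) = (LP (LK LD1_c6 LD2_c0 LD3_c45)) :=
  Lre_b IH (LK LD1_c11 LD2_c45 LD3_c44) (LK LD1_c6 LD2_c0 LD3_c45) Lrfl Lrfl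
theorem f615093 : Led Lsl_ff (LP (LK LD1_c5 LD2_c50 LD3_c27)) = (LP (LK LD1_c3 LD2_c23 LD3_c61)) :=
  Lgr Lrot3 (Lpr_ft (K42.f615085 IH) (Lpn (LP (LK LD1_c3 LD2_c23 LD3_c61))))
theorem f436262 : Led Lsl_ct (LP (LK LD1_c5 LD2_c50 LD3_c27)) = (LP (LK LD1_c11 LD2_c28 LD3_c51)) :=
  Lre_c IH (LK LD1_c5 LD2_c50 LD3_c27) (LK LD1_c11 LD2_c28 LD3_c51) Lrfl Lrfl
theorem f69043 : Led Lsl_ct (LP (LK LD1_c6 LD2_c50 LD3_c61)) = (LP (LK LD1_c3 LD2_c23 LD3_c61)) :=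
  Lre_c IH (LK LD1_c6 LD2_c50 LD3_c61) (LK LD1_c3 LD2_c23 LD3_c61) Lrfl Lrfl
theorem f615097 : Led Lsl_ft (LP (LK LD1_c11 LD2_c28 LD3_c51)) = (LP (LK LD1_c6 LD2_c50 LD3_c61)) :=
  Lgr Lrot4 (Lpe (f436262 IH) (Lpr_ff (f615093 IH) (Lpe (f69043 IH) (Lpn (LP (LK LD1_c6 LD2_c50 LD3_c61))))))
theorem f615102 : Led Lsl_bt (LP (LK LD1_c20 LD2_c26 LD3_c7)) = (LP (LK LD1_c11 LD2_c28 LD3_c51)) :=
  Lre_b IH (LK LD1_c20 LD2_c26 LD3_c7) (LK LD1_c11 LD2_c28 LD3_c51) Lrfl Lrfl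
theorem f69030 : Led Lsl_et (LP (LK LD1_c11 LD2_c45 LD3_c39)) = (LP (LK LD1_c6 LD2_c0 LD3_c40)) :=
  Lre_e IH (LK LD1_c11 LD2_c45 LD3_c39) (LK LD1_c6 LD2_c0 LD3_c40) Lrfl Lrfl
theorem f69032 : Led Lsl_bf (LP (LK LD1_c11 LD2_c45 LD3_c39)) = (LP (LK LD1_c6 LD2_c50 LD3_c61)) :=
  Lgr Lrot96 (Lpr_et (f69030 IH) (Lpr_bt (K6.f69025 IH) (Lpr_et (K42.f69031 IH) (Lpn (LP (LK LD1_c6 LD2_c50 LD3_c61))))))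
theorem f615103 : Led Lsl_ff (LP (LK LD1_c20 LD2_c26 LD3_c7)) = (LP (LK LD1_c11 LD2_c45 LD3_c39)) :=
  Lgr Lrot25 (Lpr_bt (f615102 IH) (Lpr_ft (f615097 IH) (Lpe (f69032 IH) (Lpn (LP (LK LD1_c11 LD2_c45 LD3_c39))))))
theorem f615109 : Led Lsl_ft (LP (LK LD1_c20 LD2_c26 LD3_c7)) = (LP (LK LD1_c11 LD2_c45 LD3_c39)) :=
  Lgr Lrot48 (Lpr_ff (f615103 IH) (Lpn (LP (LK LD1_c11 LD2_c45 LD3_c39))))
theorem f69040 : Led Lsl_ct (LP (LK LD1_c11 LD2_c45 LD3_c39)) = (LP (LK LD1_c6 LD2_c0 LD3_c42)) :=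
  Lre_c IH (LK LD1_c11 LD2_c45 LD3_c39) (LK LD1_c6 LD2_c0 LD3_c42) Lrfl Lrfl
theorem f499837 : Led Lsl_ft (LP (LK LD1_c6 LD2_c0 LD3_c42)) = (LP (LK LD1_c11 LD2_c45 LD3_c44)) :=
  Lre_f IH (LK LD1_c6 LD2_c0 LD3_c42) (LK LD1_c11 LD2_c45 LD3_c44) Lrfl Lrfl
theorem f615113 : Led Lsl_cf (LP (LK LD1_c20 LD2_c26 LD3_c7)) = (LP (LK LD1_c11 LD2_c45 LD3_c44)) :=
  Lgr Lrot108 (Lpr_ft (f615109 IH) (Lpr_ct (f69040 IH) (Lpr_ft (f499837 IH) (Lpn (LP (LK LD1_c11 LD2_c45 LD3_c44))))))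
theorem f775088 : Led Lsl_gt (LP (LK LD1_c17 LD2_c21 LD3_c5)) = (LP (LK LD1_c20 LD2_c26 LD3_c7)) :=
  Lgr Lrot149 (Lpe (f703858 IH) (Lpe (f138402 IH) (Lpe (f439081 IH) (Lpr_ct (f113655 IH) (Lpe (K57.f78238 IH) (Lpe (f441215 IH) (Lpr_bt (f703856 IH) (Lpq (f770500 IH) (Lpe (K50.f700912 IH) (Lpe (f497070 IH) (Lpe (f615113 IH) (Lpn (LP (LK LD1_c20 LD2_c26 LD3_c7))))))))))))))
theorem f775089 : Led Lsl_gt (LP (LK LD1_c17 LD2_c21 LD3_c5)) = (LP (LK LD1_c20 LD2_c26 LD3_c7)) :=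
  Leop (Lpe (f775088 IH) (Lpn (LP (LK LD1_c17 LD2_c21 LD3_c5))))
theorem seed_1380 : LEOK LG_g (LK LD1_c17 LD2_c21 LD3_c5) :=
  Leoe_g (LK LD1_c17 LD2_c21 LD3_c5) (f775089 IH)
theorem f775093 : Led Lsl_bt (LP (LK LD1_c9 LD2_c24 LD3_c0)) = (LP (LK LD1_c17 LD2_c21 LD3_c4)) :=
  Lre_b IH (LK LD1_c9 LD2_c24 LD3_c0) (LK LD1_c17 LD2_c21 LD3_c4) Lrfl Lrfl
theorem f700909 : Led Lsl_cf (LP (LK LD1_c4 LD2_c38 LD3_c54)) = K50.v13070 :=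
  Lgr Lrot11 (Lpr_ct (K50.f700906 IH) (Lpn K50.v13070))
theorem f56905 : Led Lsl_bt (LP (LK LD1_c4 LD2_c48 LD3_c47)) = (LP (LK LD1_c9 LD2_c30 LD3_c1)) :=
  Lre_b IH (LK LD1_c4 LD2_c48 LD3_c47) (LK LD1_c9 LD2_c30 LD3_c1) Lrfl Lrfl
theorem f775094 : Led Lsl_gf (LP (LK LD1_c17 LD2_c21 LD3_c4)) = (LP (LK LD1_c9 LD2_c30 LD3_c1)) :=
  Lgr Lrot124 (Lpe (f775093 IH) (Lpr_ct (f703858 IH) (Lpr_gt (f775088 IH) (Lpr_cf (f615113 IH) (Lpr_bt (f497070 IH) (Lpr_gt (K50.f700912 IH) (Lpe (f700909 IH) (Lpqs (K42.f643138 IH) (Lpe (K42.f634115 IH) (Lpe (K28.f56933 IH) (Lpr_bt (f56905 IH) (Lpn (LP (LK LD1_c9 LD2_c30 LD3_c1))))))))))))))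
theorem f775095 : Led Lsl_gt (LP (LK LD1_c9 LD2_c30 LD3_c1)) = (LP (LK LD1_c17 LD2_c21 LD3_c4)) :=
  Leop (Lpr_gf (f775094 IH) (Lpn (LP (LK LD1_c9 LD2_c30 LD3_c1))))
theorem seed_1381 : LEOK LG_g (LK LD1_c9 LD2_c30 LD3_c1) :=
  Leoe_g (LK LD1_c9 LD2_c30 LD3_c1) (f775095 IH)
theorem f119193 : Led Lsl_ct (LP (LK LD1_c3 LD2_c16 LD3_c56)) = (LP (LK LD1_c1 LD2_c35 LD3_c5)) :=
  Lre_c IH (LK LD1_c3 LD2_c16 LD3_c56) (LK LD1_c1 LD2_c35 LD3_c5) Lrfl Lrfl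
def v6049 : LQ := Led Lsl_bt (LP (LK LD1_c3 LD2_c16 LD3_c56))
theorem f650739 : Led Lsl_bt (LP (LK LD1_c3 LD2_c16 LD3_c56)) = v6049 :=
  Lrfl
def v3184 : LQ := Led Lsl_ct v551
theorem f624552 : Led Lsl_ct v551 = v3184 :=
  Lrfl
theorem f624553 : Led Lsl_bf (LP (LK LD1_c6 LD2_c2 LD3_c35)) = v3184 :=
  Lgr Lrot90 (Lpr_ct (K49.f444108 IH) (Lpr_bt (K42.f435531 IH) (Lpe (K32.f444001 IH) (Lpr_bt (f453953 IH) (Lpr_ct (f624552 IH) (Lpn v3184))))))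
theorem f624555 : Led Lsl_ff (LP (LK LD1_c4 LD2_c48 LD3_c1)) = v3184 :=
  Lgr Lrot23 (Lpr_ct (f68455 IH) (Lpe (f507819 IH) (Lpr_ct (f624552 IH) (Lpn v3184))))
theorem f624557 : Led Lsl_ft (LP (LK LD1_c4 LD2_c48 LD3_c1)) = v3184 :=
  Lgr Lrot48 (Lpr_ff (f624555 IH) (Lpn v3184))
theorem f771586 : (LP (LK LD1_c3 LD2_c16 LD3_c56)) = v3184 :=
  Lefun (Lecon (Lfl_ff (K56.f650687 IH)) ((K56.f754655 IH).symm.trans (f771549 IH).symm)) (f624557 IH)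
theorem f771628 : (LP (LK LD1_c6 LD2_c2 LD3_c35)) = v6049 :=
  Lefun (Lecon (Lfl_bf (f624553 IH)) (f771586 IH).symm) (f650739 IH)
theorem f499243 : Led Lsl_bt (LP (LK LD1_c17 LD2_c5 LD3_c40)) = (LP (LK LD1_c9 LD2_c11 LD3_c54)) :=
  Lre_b IH (LK LD1_c17 LD2_c5 LD3_c40) (LK LD1_c9 LD2_c11 LD3_c54) Lrfl Lrfl
theorem f615148 : Led Lsl_bt (LP (LK LD1_c21 LD2_c22 LD3_c25)) = (LP (LK LD1_c12 LD2_c17 LD3_c3)) :=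
  Lre_b IH (LK LD1_c21 LD2_c22 LD3_c25) (LK LD1_c12 LD2_c17 LD3_c3) Lrfl Lrfl
theorem f499246 : Led Lsl_bt (LP (LK LD1_c9 LD2_c11 LD3_c54)) = (LP (LK LD1_c17 LD2_c5 LD3_c40)) :=
  Lre_b IH (LK LD1_c9 LD2_c11 LD3_c54) (LK LD1_c17 LD2_c5 LD3_c40) Lrfl Lrfl
theorem f615149 : Led Lsl_cf (LP (LK LD1_c21 LD2_c22 LD3_c25)) = (LP (LK LD1_c17 LD2_c5 LD3_c40)) :=
  Lgr Lrot97 (Lpr_bt (f615148 IH) (Lpr_ct (K50.f615147 IH) (Lpr_bt (K42.f615146 IH) (Lpr_ct (K42.f615142 IH) (Lpr_bt (f499246 IH) (Lpn (LP (LK LD1_c17 LD2_c5 LD3_c40))))))))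
theorem f118794 : Led Lsl_bt (LP (LK LD1_c1 LD2_c35 LD3_c3)) = (LP (LK LD1_c3 LD2_c16 LD3_c45)) :=
  Lre_b IH (LK LD1_c1 LD2_c35 LD3_c3) (LK LD1_c3 LD2_c16 LD3_c45) Lrfl Lrfl
theorem f116977 : Led Lsl_gt (LP (LK LD1_c3 LD2_c16 LD3_c45)) = (LP (LK LD1_c6 LD2_c36 LD3_c48)) :=
  Lre_g IH (LK LD1_c3 LD2_c16 LD3_c45) (LK LD1_c6 LD2_c36 LD3_c48) Lrfl Lrfl
theorem f650741 : Led Lsl_ct (LP (LK LD1_c6 LD2_c36 LD3_c48)) = (LP (LK LD1_c12 LD2_c39 LD3_c24)) :=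
  Lre_c IH (LK LD1_c6 LD2_c36 LD3_c48) (LK LD1_c12 LD2_c39 LD3_c24) Lrfl Lrfl
theorem f775125 : Led Lsl_gf (LP (LK LD1_c21 LD2_c22 LD3_c25)) = (LP (LK LD1_c12 LD2_c39 LD3_c24)) :=
  Lgr Lrot129 (Lpr_cf (f615149 IH) (Lpr_bt (f499243 IH) (Lpe (K42.f615071 IH) (Lpqs (f771628 IH) (Lpe (f650739 IH) (Lpr_ct (f119193 IH) (Lpr_gt (K46.f114318 IH) (Lpe (K4.f118481 IH) (Lpr_bt (f118794 IH) (Lpr_gt (f116977 IH) (Lpr_ct (f650741 IH) (Lpn (LP (LK LD1_c12 LD2_c39 LD3_c24))))))))))))))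
theorem f208036 : Led Lsl_et (LP (LK LD1_c12 LD2_c28 LD3_c19)) = (LP (LK LD1_c6 LD2_c28 LD3_c54)) :=
  Lre_e IH (LK LD1_c12 LD2_c28 LD3_c19) (LK LD1_c6 LD2_c28 LD3_c54) Lrfl Lrfl
theorem f208003 : Led Lsl_et (LP (LK LD1_c4 LD2_c37 LD3_c55)) = (LP (LK LD1_c9 LD2_c11 LD3_c28)) :=
  Lre_e IH (LK LD1_c4 LD2_c37 LD3_c55) (LK LD1_c9 LD2_c11 LD3_c28) Lrfl Lrfl
theorem f208037 : Led Lsl_af (LP (LK LD1_c12 LD2_c28 LD3_c19)) = (LP (LK LD1_c9 LD2_c11 LD3_c28)) :=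
  Lgr Lrot50 (Lpr_et (f208036 IH) (Lpr_at (K30.f208029 IH) (Lpr_et (f208003 IH) (Lpn (LP (LK LD1_c9 LD2_c11 LD3_c28))))))
theorem f208837 : Led Lsl_bt (LP (LK LD1_c12 LD2_c28 LD3_c19)) = (LP (LK LD1_c6 LD2_c28 LD3_c56)) :=
  Lre_b IH (LK LD1_c12 LD2_c28 LD3_c19) (LK LD1_c6 LD2_c28 LD3_c56) Lrfl Lrfl
theorem f207376 : Led Lsl_bt (LP (LK LD1_c4 LD2_c37 LD3_c57)) = (LP (LK LD1_c9 LD2_c11 LD3_c28)) :=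
  Lre_b IH (LK LD1_c4 LD2_c37 LD3_c57) (LK LD1_c9 LD2_c11 LD3_c28) Lrfl Lrfl
theorem f110457 : Led Lsl_et (LP (LK LD1_c3 LD2_c7 LD3_c46)) = (LP (LK LD1_c6 LD2_c20 LD3_c23)) :=
  Lre_e IH (LK LD1_c3 LD2_c7 LD3_c46) (LK LD1_c6 LD2_c20 LD3_c23) Lrfl Lrfl
theorem f141989 : Led Lsl_et (LP (LK LD1_c3 LD2_c20 LD3_c21)) = (LP (LK LD1_c1 LD2_c36 LD3_c33)) :=
  Lre_e IH (LK LD1_c3 LD2_c20 LD3_c21) (LK LD1_c1 LD2_c36 LD3_c33) Lrfl Lrfl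
theorem f160799 : Led Lsl_bt (LP (LK LD1_c6 LD2_c20 LD3_c23)) = (LP (LK LD1_c3 LD2_c20 LD3_c21)) :=
  Lgr Lrot119 (Lpe (f110457 IH) (Lpr_bf (K8.f160795 IH) (Lpe (f141989 IH) (Lpn (LP (LK LD1_c3 LD2_c20 LD3_c21))))))
theorem f208838 : Led Lsl_at (LP (LK LD1_c6 LD2_c28 LD3_c56)) = (LP (LK LD1_c6 LD2_c20 LD3_c23)) :=
  Lgr Lrot67 (Lpe (f208837 IH) (Lpr_af (f208037 IH) (Lpe (f207376 IH) (Lpr_af (K50.f207358 IH) (Lpe (f160799 IH) (Lpn (LP (LK LD1_c6 LD2_c20 LD3_c23))))))))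
theorem f208842 : Led Lsl_af (LP (LK LD1_c6 LD2_c28 LD3_c56)) = (LP (LK LD1_c6 LD2_c20 LD3_c23)) :=
  Lgr Lrot0 (Lpr_at (f208838 IH) (Lpn (LP (LK LD1_c6 LD2_c20 LD3_c23))))
theorem f208844 : Led Lsl_bt (LP (LK LD1_c6 LD2_c28 LD3_c56)) = (LP (LK LD1_c12 LD2_c28 LD3_c19)) :=
  Lre_b IH (LK LD1_c6 LD2_c28 LD3_c56) (LK LD1_c12 LD2_c28 LD3_c19) Lrfl Lrfl
theorem f208835 : Led Lsl_at (LP (LK LD1_c12 LD2_c28 LD3_c19)) = (LP (LK LD1_c9 LD2_c11 LD3_c28)) :=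
  Lgr Lrot100 (Lpr_af (f208037 IH) (Lpn (LP (LK LD1_c9 LD2_c11 LD3_c28))))
theorem f207360 : Led Lsl_bt (LP (LK LD1_c9 LD2_c11 LD3_c28)) = (LP (LK LD1_c4 LD2_c37 LD3_c57)) :=
  Lre_b IH (LK LD1_c9 LD2_c11 LD3_c28) (LK LD1_c4 LD2_c37 LD3_c57) Lrfl Lrfl
theorem f208845 : Led Lsl_bt (LP (LK LD1_c3 LD2_c20 LD3_c21)) = (LP (LK LD1_c6 LD2_c20 LD3_c23)) :=
  Lgr Lrot62 (Lpe (K50.f207340 IH) (Lpe (f207360 IH) (Lpe (f208835 IH) (Lpe (f208844 IH) (Lpr_af (f208842 IH) (Lpn (LP (LK LD1_c6 LD2_c20 LD3_c23))))))))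
def v17545 : LQ := Led Lsl_gt (LP (LK LD1_c6 LD2_c20 LD3_c23))
theorem f760851 : Led Lsl_gt (LP (LK LD1_c6 LD2_c20 LD3_c23)) = v17545 :=
  Lrfl
theorem f775129 : Led Lsl_bf v17545 = (LP (LK LD1_c6 LD2_c36 LD3_c48)) :=
  Lgr Lrot34 (Lpe (f760851 IH) (Lpe (f208845 IH) (Lpr_ct (K50.f157780 IH) (Lpr_gf (K42.f509240 IH) (Lpq (K42.f615000 IH) (Lpe (K49.f444108 IH) (Lpr_gf (K42.f615071 IH) (Lpe (f499243 IH) (Lpe (f615149 IH) (Lpr_gf (f775125 IH) (Lpe (f650741 IH) (Lpn (LP (LK LD1_c6 LD2_c36 LD3_c48))))))))))))))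
def v18360 : LQ := Led Lsl_ft (LP (LK LD1_c6 LD2_c28 LD3_c56))
theorem f766559 : Led Lsl_ft (LP (LK LD1_c6 LD2_c28 LD3_c56)) = v18360 :=
  Lrfl
theorem f766562 : Led Lsl_ff (LP (LK LD1_c6 LD2_c28 LD3_c56)) = v18360 :=
  Lgr Lrot3 (Lpr_ft (f766559 IH) (Lpn v18360))
def v17548 : LQ := Led Lsl_ft (LP (LK LD1_c6 LD2_c20 LD3_c23))
theorem f760860 : Led Lsl_ft (LP (LK LD1_c6 LD2_c20 LD3_c23)) = v17548 :=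
  Lrfl
theorem f766564 : Led Lsl_at v17548 = v18360 :=
  Lgr Lrot66 (Lpe (f760860 IH) (Lpe (f208838 IH) (Lpr_ff (f766562 IH) (Lpn v18360))))
theorem f766567 : Led Lsl_gt v17545 = v18360 :=
  Lgr Lrot46 (Lpe (f760851 IH) (Lpr_ft (f760860 IH) (Lpr_at (f766564 IH) (Lpn v18360))))
theorem f141159 : Led Lsl_ct (LP (LK LD1_c3 LD2_c19 LD3_c8)) = (LP (LK LD1_c6 LD2_c42 LD3_c19)) :=
  Lre_c IH (LK LD1_c3 LD2_c19 LD3_c8) (LK LD1_c6 LD2_c42 LD3_c19) Lrfl Lrfl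
theorem f141162 : Led Lsl_bt (LP (LK LD1_c6 LD2_c42 LD3_c18)) = (LP (LK LD1_c3 LD2_c19 LD3_c8)) :=
  Lre_b IH (LK LD1_c6 LD2_c42 LD3_c18) (LK LD1_c3 LD2_c19 LD3_c8) Lrfl Lrfl
theorem f772689 : Led Lsl_bt (LP (LK LD1_c6 LD2_c35 LD3_c18)) = (LP (LK LD1_c12 LD2_c36 LD3_c40)) :=
  Lre_b IH (LK LD1_c6 LD2_c35 LD3_c18) (LK LD1_c12 LD2_c36 LD3_c40) Lrfl Lrfl
theorem f772751 : Led Lsl_cf (LP (LK LD1_c6 LD2_c42 LD3_c18)) = (LP (LK LD1_c12 LD2_c36 LD3_c40)) :=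
  Lgr Lrot97 (Lpr_bt (f141162 IH) (Lpr_ct (f141159 IH) (Lpq (f772640 IH) (Lpe (f658214 IH) (Lpr_ct (f658215 IH) (Lpqs (f772681 IH) (Lpq (f772682 IH) (Lpr_bt (f772689 IH) (Lpn (LP (LK LD1_c12 LD2_c36 LD3_c40)))))))))))
theorem f119207 : Led Lsl_bt (LP (LK LD1_c6 LD2_c37 LD3_c0)) = (LP (LK LD1_c3 LD2_c16 LD3_c50)) :=
  Lre_b IH (LK LD1_c6 LD2_c37 LD3_c0) (LK LD1_c3 LD2_c16 LD3_c50) Lrfl Lrfl
theorem f772690 : Led Lsl_ff (LP (LK LD1_c6 LD2_c37 LD3_c0)) = (LP (LK LD1_c12 LD2_c36 LD3_c40)) :=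
  Lgr Lrot25 (Lpr_bt (f119207 IH) (Lpr_ft (f650649 IH) (Lpq (f772682 IH) (Lpr_bt (f772689 IH) (Lpn (LP (LK LD1_c12 LD2_c36 LD3_c40)))))))
theorem f772704 : Led Lsl_ft (LP (LK LD1_c6 LD2_c37 LD3_c0)) = (LP (LK LD1_c12 LD2_c36 LD3_c40)) :=
  Lgr Lrot48 (Lpr_ff (f772690 IH) (Lpn (LP (LK LD1_c12 LD2_c36 LD3_c40))))
theorem f772707 : Led Lsl_ct (LP (LK LD1_c12 LD2_c39 LD3_c53)) = (LP (LK LD1_c6 LD2_c37 LD3_c0)) :=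
  Lre_c IH (LK LD1_c12 LD2_c39 LD3_c53) (LK LD1_c6 LD2_c37 LD3_c0) Lrfl Lrfl
theorem f772772 : Led Lsl_ft (LP (LK LD1_c6 LD2_c42 LD3_c18)) = (LP (LK LD1_c12 LD2_c39 LD3_c53)) :=
  Lgr Lrot4 (Lpr_cf (f772751 IH) (Lpe (f772704 IH) (Lpe (f772707 IH) (Lpn (LP (LK LD1_c12 LD2_c39 LD3_c53))))))
theorem f652082 : Led Lsl_bt (LP (LK LD1_c3 LD2_c19 LD3_c8)) = (LP (LK LD1_c6 LD2_c42 LD3_c18)) :=
  Lre_b IH (LK LD1_c3 LD2_c19 LD3_c8) (LK LD1_c6 LD2_c42 LD3_c18) Lrfl Lrfl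
theorem f772781 : Led Lsl_bf v6208 = (LP (LK LD1_c12 LD2_c39 LD3_c53)) :=
  Lgr Lrot61 (Lpe (f652095 IH) (Lpr_bt (f652082 IH) (Lpr_ft (f772772 IH) (Lpn (LP (LK LD1_c12 LD2_c39 LD3_c53))))))
theorem f567808 : Led Lsl_cf (LP (LK LD1_c9 LD2_c29 LD3_c56)) = (LP (LK LD1_c6 LD2_c25 LD3_c23)) :=
  Lgr Lrot11 (Lpr_ct (K42.f567803 IH) (Lpn (LP (LK LD1_c6 LD2_c25 LD3_c23))))
theorem f130938 : Led Lsl_bt (LP (LK LD1_c12 LD2_c34 LD3_c14)) = (LP (LK LD1_c17 LD2_c21 LD3_c45)) :=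
  Lre_b IH (LK LD1_c12 LD2_c34 LD3_c14) (LK LD1_c17 LD2_c21 LD3_c45) Lrfl Lrfl
theorem f130940 : Led Lsl_ct (LP (LK LD1_c17 LD2_c21 LD3_c45)) = (LP (LK LD1_c14 LD2_c1 LD3_c36)) :=
  Lgr Lrot83 (Lpe (f130938 IH) (Lpe (K7.f79940 IH) (Lpe (K7.f15593 IH) (Lpr_cf (K7.f130916 IH) (Lpe (K11.f130939 IH) (Lpn (LP (LK LD1_c14 LD2_c1 LD3_c36))))))))
theorem f163381 : Led Lsl_gf (LP (LK LD1_c17 LD2_c19 LD3_c33)) = (LP (LK LD1_c14 LD2_c1 LD3_c36)) :=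
  Lgr Lrot126 (Lpe (K37.f102127 IH) (Lpr_bt (K37.f163378 IH) (Lpr_gt (K11.f69037 IH) (Lpr_ct (K6.f69024 IH) (Lpe (K6.f79935 IH) (Lpe (K6.f69145 IH) (Lpr_bt (K11.f26519 IH) (Lpr_gt (K11.f79938 IH) (Lpe (K28.f79223 IH) (Lpr_ct (f130940 IH) (Lpn (LP (LK LD1_c14 LD2_c1 LD3_c36)))))))))))))
theorem f203132 : Led Lsl_gt (LP (LK LD1_c9 LD2_c29 LD3_c56)) = (LP (LK LD1_c17 LD2_c21 LD3_c45)) :=
  Lgr Lrot82 (Lpe (K28.f58867 IH) (Lpe (K28.f58868 IH) (Lpr_gf (K40.f203130 IH) (Lpe (K4.f69051 IH) (Lpr_bt (K6.f69023 IH) (Lpe (K11.f69037 IH) (Lpe (K37.f163378 IH) (Lpr_ct (K37.f102127 IH) (Lpr_gf (f163381 IH) (Lpe (f130940 IH) (Lpn (LP (LK LD1_c17 LD2_c21 LD3_c45)))))))))))))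
theorem f210206 : Led Lsl_bt (LP (LK LD1_c6 LD2_c25 LD3_c23)) = (LP (LK LD1_c3 LD2_c10 LD3_c21)) :=
  Lre_b IH (LK LD1_c6 LD2_c25 LD3_c23) (LK LD1_c3 LD2_c10 LD3_c21) Lrfl Lrfl
theorem f614541 : Led Lsl_cf (LP (LK LD1_c4 LD2_c37 LD3_c55)) = (LP (LK LD1_c3 LD2_c10 LD3_c22)) :=
  Lgr Lrot163 (Lpr_gf (K30.f105607 IH) (Lpe (K30.f104092 IH) (Lpe (K7.f130910 IH) (Lpe (K11.f130939 IH) (Lpe (K42.f130914 IH) (Lpe (f203132 IH) (Lpr_cf (f567808 IH) (Lpr_bt (f210206 IH) (Lpe (K38.f68650 IH) (Lpe (K40.f68971 IH) (Lpn (LP (LK LD1_c3 LD2_c10 LD3_c22)))))))))))))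
theorem f68960 : Led Lsl_et (LP (LK LD1_c6 LD2_c2 LD3_c46)) = (LP (LK LD1_c3 LD2_c10 LD3_c22)) :=
  Lgr Lrot87 (Lpr_ef (K40.f68948 IH) (Lpn (LP (LK LD1_c3 LD2_c10 LD3_c22))))
theorem f614543 : Led Lsl_ct (LP (LK LD1_c9 LD2_c11 LD3_c28)) = (LP (LK LD1_c6 LD2_c2 LD3_c46)) :=
  Lgr Lrot15 (Lpe (f208003 IH) (Lpr_cf (f614541 IH) (Lpe (f68960 IH) (Lpn (LP (LK LD1_c6 LD2_c2 LD3_c46))))))
theorem f614547 : Led Lsl_cf (LP (LK LD1_c9 LD2_c11 LD3_c28)) = (LP (LK LD1_c6 LD2_c2 LD3_c46)) :=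
  Lgr Lrot11 (Lpr_ct (f614543 IH) (Lpn (LP (LK LD1_c6 LD2_c2 LD3_c46))))
theorem f772813 : Led Lsl_gf (LP (LK LD1_c9 LD2_c11 LD3_c28)) = (LP (LK LD1_c6 LD2_c37 LD3_c0)) :=
  Lgr Lrot126 (Lpr_cf (f614547 IH) (Lpr_bt (K40.f68947 IH) (Lpr_gt (K45.f68982 IH) (Lpr_ct (f438499 IH) (Lpr_gt (K35.f500164 IH) (Lpqs (K41.f537657 IH) (Lpe (K41.f139838 IH) (Lpe (K6.f139813 IH) (Lpr_gt (f139836 IH) (Lpq (f772608 IH) (Lpr_bf (f772781 IH) (Lpr_ct (f772707 IH) (Lpn (LP (LK LD1_c6 LD2_c37 LD3_c0)))))))))))))))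
theorem f208897 : Led Lsl_gt (LP (LK LD1_c9 LD2_c11 LD3_c28)) = (LP (LK LD1_c17 LD2_c5 LD3_c2)) :=
  Lre_g IH (LK LD1_c9 LD2_c11 LD3_c28) (LK LD1_c17 LD2_c5 LD3_c2) Lrfl Lrfl
theorem f772817 : Led Lsl_af (LP (LK LD1_c17 LD2_c5 LD3_c2)) = (LP (LK LD1_c12 LD2_c36 LD3_c40)) :=
  Lgr Lrot31 (Lpe (f208897 IH) (Lpr_gf (f772813 IH) (Lpr_ft (f772704 IH) (Lpn (LP (LK LD1_c12 LD2_c36 LD3_c40))))))
theorem f650670 : Led Lsl_at (LP (LK LD1_c12 LD2_c39 LD3_c52)) = (LP (LK LD1_c6 LD2_c37 LD3_c0)) :=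
  Lre_a IH (LK LD1_c12 LD2_c39 LD3_c52) (LK LD1_c6 LD2_c37 LD3_c0) Lrfl Lrfl
theorem f772830 : Led Lsl_ft (LP (LK LD1_c17 LD2_c5 LD3_c2)) = (LP (LK LD1_c12 LD2_c39 LD3_c52)) :=
  Lgr Lrot101 (Lpr_af (f772817 IH) (Lpe (f772704 IH) (Lpe (f650670 IH) (Lpn (LP (LK LD1_c12 LD2_c39 LD3_c52))))))
theorem f772812 : Led Lsl_gt (LP (LK LD1_c12 LD2_c39 LD3_c51)) = (LP (LK LD1_c6 LD2_c37 LD3_c0)) :=
  Lre_g IH (LK LD1_c12 LD2_c39 LD3_c51) (LK LD1_c6 LD2_c37 LD3_c0) Lrfl Lrfl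
theorem f772836 : Led Lsl_gt (LP (LK LD1_c17 LD2_c5 LD3_c2)) = (LP (LK LD1_c12 LD2_c39 LD3_c51)) :=
  Lgr Lrot5 (Lpr_ft (f772830 IH) (Lpr_at (f650670 IH) (Lpe (f772812 IH) (Lpn (LP (LK LD1_c12 LD2_c39 LD3_c51))))))
theorem f208851 : Led Lsl_ft (LP (LK LD1_c9 LD2_c11 LD3_c28)) = (LP (LK LD1_c17 LD2_c5 LD3_c4)) :=
  Lre_f IH (LK LD1_c9 LD2_c11 LD3_c28) (LK LD1_c17 LD2_c5 LD3_c4) Lrfl Lrfl
theorem f772838 : Led Lsl_at (LP (LK LD1_c17 LD2_c5 LD3_c4)) = (LP (LK LD1_c12 LD2_c39 LD3_c51)) :=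
  Lgr Lrot26 (Lpe (f208851 IH) (Lpr_gt (f208897 IH) (Lpr_gt (f772836 IH) (Lpn (LP (LK LD1_c12 LD2_c39 LD3_c51))))))
theorem f207306 : Led Lsl_bt (LP (LK LD1_c9 LD2_c11 LD3_c33)) = (LP (LK LD1_c17 LD2_c5 LD3_c4)) :=
  Lre_b IH (LK LD1_c9 LD2_c11 LD3_c33) (LK LD1_c17 LD2_c5 LD3_c4) Lrfl Lrfl
theorem f760861 : Led Lsl_bf (LP (LK LD1_c6 LD2_c44 LD3_c29)) = v17548 :=
  Lgr Lrot61 (Lpr_ft (K50.f207377 IH) (Lpr_bt (f208845 IH) (Lpr_ft (f760860 IH) (Lpn v17548))))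
theorem f760864 : Led Lsl_ff (LP (LK LD1_c6 LD2_c20 LD3_c23)) = v17548 :=
  Lgr Lrot3 (Lpr_ft (f760860 IH) (Lpn v17548))
theorem f766560 : Led Lsl_af v17548 = v18360 :=
  Lgr Lrot45 (Lpe (f760864 IH) (Lpe (f208842 IH) (Lpr_ft (f766559 IH) (Lpn v18360))))
theorem f772842 : Led Lsl_bf v18360 = (LP (LK LD1_c12 LD2_c39 LD3_c51)) :=
  Lgr Lrot81 (Lpe (f766560 IH) (Lpe (f760861 IH) (Lpe (K52.f207323 IH) (Lpr_bt (f207306 IH) (Lpr_at (f772838 IH) (Lpn (LP (LK LD1_c12 LD2_c39 LD3_c51))))))))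
theorem f208841 : Led Lsl_ft (LP (LK LD1_c17 LD2_c5 LD3_c4)) = (LP (LK LD1_c9 LD2_c11 LD3_c28)) :=
  Lre_f IH (LK LD1_c17 LD2_c5 LD3_c4) (LK LD1_c9 LD2_c11 LD3_c28) Lrfl Lrfl
theorem f68962 : Led Lsl_ft (LP (LK LD1_c6 LD2_c2 LD3_c46)) = (LP (LK LD1_c11 LD2_c49 LD3_c39)) :=
  Lre_f IH (LK LD1_c6 LD2_c2 LD3_c46) (LK LD1_c11 LD2_c49 LD3_c39) Lrfl Lrfl
theorem f614549 : Led Lsl_cf (LP (LK LD1_c17 LD2_c5 LD3_c4)) = (LP (LK LD1_c11 LD2_c49 LD3_c39)) :=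
  Lgr Lrot108 (Lpr_ft (f208841 IH) (Lpr_ct (f614543 IH) (Lpr_ft (f68962 IH) (Lpn (LP (LK LD1_c11 LD2_c49 LD3_c39))))))
theorem f204314 : Led Lsl_at (LP (LK LD1_c20 LD2_c51 LD3_c56)) = (LP (LK LD1_c11 LD2_c49 LD3_c39)) :=
  Lre_a IH (LK LD1_c20 LD2_c51 LD3_c56) (LK LD1_c11 LD2_c49 LD3_c39) Lrfl Lrfl
theorem f772843 : Led Lsl_cf (LP (LK LD1_c20 LD2_c51 LD3_c56)) = (LP (LK LD1_c12 LD2_c39 LD3_c51)) :=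
  Lgr Lrot1 (Lpr_at (f204314 IH) (Lpe (f614549 IH) (Lpr_at (f772838 IH) (Lpn (LP (LK LD1_c12 LD2_c39 LD3_c51))))))
theorem f644193 : Led Lsl_gt (LP (LK LD1_c20 LD2_c51 LD3_c56)) = (LP (LK LD1_c11 LD2_c49 LD3_c36)) :=
  Lre_g IH (LK LD1_c20 LD2_c51 LD3_c56) (LK LD1_c11 LD2_c49 LD3_c36) Lrfl Lrfl
theorem f614552 : Led Lsl_ct (LP (LK LD1_c20 LD2_c51 LD3_c58)) = (LP (LK LD1_c11 LD2_c49 LD3_c36)) :=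
  Lre_c IH (LK LD1_c20 LD2_c51 LD3_c58) (LK LD1_c11 LD2_c49 LD3_c36) Lrfl Lrfl
theorem f644156 : Led Lsl_cf (LP (LK LD1_c12 LD2_c43 LD3_c29)) = (LP (LK LD1_c9 LD2_c11 LD3_c30)) :=
  Lgr Lrot11 (Lpr_ct (K50.f644151 IH) (Lpn (LP (LK LD1_c9 LD2_c11 LD3_c30))))
theorem f615151 : Led Lsl_cf (LP (LK LD1_c12 LD2_c17 LD3_c2)) = (LP (LK LD1_c9 LD2_c11 LD3_c54)) :=
  Lgr Lrot11 (Lpr_ct (K42.f615142 IH) (Lpn (LP (LK LD1_c9 LD2_c11 LD3_c54))))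
theorem f496860 : Led Lsl_af (LP (LK LD1_c12 LD2_c23 LD3_c26)) = (LP (LK LD1_c9 LD2_c11 LD3_c50)) :=
  Lgr Lrot0 (Lpr_at (K32.f496858 IH) (Lpn (LP (LK LD1_c9 LD2_c11 LD3_c50))))
theorem f117731 : Led Lsl_gt (LP (LK LD1_c21 LD2_c30 LD3_c22)) = (LP (LK LD1_c12 LD2_c23 LD3_c26)) :=
  Lre_g IH (LK LD1_c21 LD2_c30 LD3_c22) (LK LD1_c12 LD2_c23 LD3_c26) Lrfl Lrfl
theorem f496885 : Led Lsl_ft (LP (LK LD1_c17 LD2_c5 LD3_c40)) = (LP (LK LD1_c9 LD2_c11 LD3_c50)) :=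
  Lre_f IH (LK LD1_c17 LD2_c5 LD3_c40) (LK LD1_c9 LD2_c11 LD3_c50) Lrfl Lrfl
theorem f499860 : Led Lsl_gf (LP (LK LD1_c21 LD2_c30 LD3_c22)) = (LP (LK LD1_c17 LD2_c5 LD3_c40)) :=
  Lgr Lrot47 (Lpr_gt (f117731 IH) (Lpr_af (f496860 IH) (Lpe (f496885 IH) (Lpn (LP (LK LD1_c17 LD2_c5 LD3_c40))))))
theorem f68965 : Led Lsl_gt (LP (LK LD1_c11 LD2_c49 LD3_c36)) = (LP (LK LD1_c6 LD2_c2 LD3_c46)) :=
  Lre_g IH (LK LD1_c11 LD2_c49 LD3_c36) (LK LD1_c6 LD2_c2 LD3_c46) Lrfl Lrfl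
theorem f644188 : Led Lsl_bf (LP (LK LD1_c21 LD2_c30 LD3_c22)) = (LP (LK LD1_c20 LD2_c51 LD3_c58)) :=
  Lgr Lrot34 (Lpr_gf (f499860 IH) (Lpe (f499246 IH) (Lpe (f615151 IH) (Lpr_gf (K50.f615276 IH) (Lpr_cf (f644156 IH) (Lpe (K50.f207385 IH) (Lpe (f207360 IH) (Lpr_ct (f614543 IH) (Lpe (f68965 IH) (Lpe (f614552 IH) (Lpn (LP (LK LD1_c20 LD2_c51 LD3_c58)))))))))))))
theorem f64568 : Led Lsl_et (LP (LK LD1_c20 LD2_c51 LD3_c32)) = (LP (LK LD1_c11 LD2_c49 LD3_c0)) :=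
  Lre_e IH (LK LD1_c20 LD2_c51 LD3_c32) (LK LD1_c11 LD2_c49 LD3_c0) Lrfl Lrfl
theorem f117726 : Led Lsl_ct (LP (LK LD1_c12 LD2_c23 LD3_c26)) = (LP (LK LD1_c20 LD2_c51 LD3_c32)) :=
  Lgr Lrot15 (Lpe (K32.f117725 IH) (Lpr_cf (K8.f117716 IH) (Lpe (f64568 IH) (Lpn (LP (LK LD1_c20 LD2_c51 LD3_c32))))))
theorem f775131 : Led Lsl_gt (LP (LK LD1_c20 LD2_c51 LD3_c32)) = (LP (LK LD1_c12 LD2_c39 LD3_c24)) :=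
  Lgr Lrot149 (Lpe (f117726 IH) (Lpe (f117731 IH) (Lpr_bf (f644188 IH) (Lpr_ct (f614552 IH) (Lpe (f644193 IH) (Lpr_cf (f772843 IH) (Lpe (f772842 IH) (Lpe (f766567 IH) (Lpr_bf (f775129 IH) (Lpr_ct (f650741 IH) (Lpn (LP (LK LD1_c12 LD2_c39 LD3_c24)))))))))))))
theorem f775132 : Led Lsl_gt (LP (LK LD1_c20 LD2_c51 LD3_c32)) = (LP (LK LD1_c12 LD2_c39 LD3_c24)) :=
  Leop (Lpe (f775131 IH) (Lpn (LP (LK LD1_c20 LD2_c51 LD3_c32))))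
theorem seed_1382 : LEOK LG_g (LK LD1_c20 LD2_c51 LD3_c32) :=
  Leoe_g (LK LD1_c20 LD2_c51 LD3_c32) (f775132 IH)
theorem f442830 : Led Lsl_ct (LP (LK LD1_c4 LD2_c43 LD3_c47)) = (LP (LK LD1_c9 LD2_c20 LD3_c37)) :=
  Lre_c IH (LK LD1_c4 LD2_c43 LD3_c47) (LK LD1_c9 LD2_c20 LD3_c37) Lrfl Lrfl
theorem f442829 : Led Lsl_bt (LP (LK LD1_c4 LD2_c43 LD3_c47)) = (LP (LK LD1_c2 LD2_c19 LD3_c42)) :=
  Lre_b IH (LK LD1_c4 LD2_c43 LD3_c47) (LK LD1_c2 LD2_c19 LD3_c42) Lrfl Lrfl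
theorem f435630 : Led Lsl_ct (LP (LK LD1_c1 LD2_c36 LD3_c8)) = (LP (LK LD1_c2 LD2_c57 LD3_c22)) :=
  Lgr Lrot59 (Lpr_cf (K35.f435576 IH) (Lpn (LP (LK LD1_c2 LD2_c57 LD3_c22))))
theorem f775200 : Led Lsl_gf (LP (LK LD1_c9 LD2_c20 LD3_c37)) = (LP (LK LD1_c6 LD2_c50 LD3_c43)) :=
  Lgr Lrot126 (Lpe (f442830 IH) (Lpr_bt (f442829 IH) (Lpr_gt (K51.f445975 IH) (Lpe (K48.f509828 IH) (Lpr_gt (K35.f509905 IH) (Lpe (f435630 IH) (Lpr_bt (K57.f144096 IH) (Lpr_gt (f652286 IH) (Lpq (f770440 IH) (Lpr_bf (f703671 IH) (Lpe (f703672 IH) (Lpn (LP (LK LD1_c6 LD2_c50 LD3_c43))))))))))))))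
theorem f775201 : Led Lsl_gt (LP (LK LD1_c6 LD2_c50 LD3_c43)) = (LP (LK LD1_c9 LD2_c20 LD3_c37)) :=
  Leop (Lpr_gf (f775200 IH) (Lpn (LP (LK LD1_c6 LD2_c50 LD3_c43))))
theorem seed_1383 : LEOK LG_g (LK LD1_c6 LD2_c50 LD3_c43) :=
  Leoe_g (LK LD1_c6 LD2_c50 LD3_c43) (f775201 IH)
def v18108 : LQ := Led Lsl_et (LP (LK LD1_c6 LD2_c26 LD3_c26))
theorem f765081 : Led Lsl_et (LP (LK LD1_c6 LD2_c26 LD3_c26)) = v18108 :=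
  Lrfl
theorem f765083 : Led Lsl_ef (LP (LK LD1_c6 LD2_c26 LD3_c26)) = v18108 :=
  Lgr Lrot88 (Lpr_et (f765081 IH) (Lpn v18108))
theorem f632709 : Led Lsl_ct (LP (LK LD1_c6 LD2_c26 LD3_c26)) = (LP (LK LD1_c3 LD2_c11 LD3_c7)) :=
  Lre_c IH (LK LD1_c6 LD2_c26 LD3_c26) (LK LD1_c3 LD2_c11 LD3_c7) Lrfl Lrfl
def v5636 : LQ := Led Lsl_et (LP (LK LD1_c3 LD2_c11 LD3_c7))
theorem f648621 : Led Lsl_et (LP (LK LD1_c3 LD2_c11 LD3_c7)) = v5636 :=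
  Lrfl
theorem f765084 : Led Lsl_ct v5636 = v18108 :=
  Lgr Lrot15 (Lpe (f648621 IH) (Lpe (f632709 IH) (Lpr_ef (f765083 IH) (Lpn v18108))))
theorem f69307 : Led Lsl_ct (LP (LK LD1_c3 LD2_c23 LD3_c18)) = (LP (LK LD1_c6 LD2_c49 LD3_c53)) :=
  Lre_c IH (LK LD1_c3 LD2_c23 LD3_c18) (LK LD1_c6 LD2_c49 LD3_c53) Lrfl Lrfl
theorem f653770 : Led Lsl_ef (LP (LK LD1_c3 LD2_c23 LD3_c18)) = K58.v6524 :=
  Lgr Lrot21 (Lpr_ft (f93992 IH) (Lpr_et (K58.f77083 IH) (Lpe (K2.f90559 IH) (Lpr_et (K3.f66630 IH) (Lpr_ft (K58.f653767 IH) (Lpn K58.v6524))))))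
theorem f768688 : (LP (LK LD1_c3 LD2_c23 LD3_c18)) = v5636 :=
  Lefun (Lecon (Lfl_ef (f653770 IH)) (K58.f768670 IH)) (f648621 IH)
theorem f768721 : v18108 = (LP (LK LD1_c6 LD2_c49 LD3_c53)) :=
  Lefun (Lecon (f765084 IH) (f768688 IH).symm) (f69307 IH)
def v18107 : LQ := Led Lsl_bt (LP (LK LD1_c6 LD2_c26 LD3_c26))
theorem f765079 : Led Lsl_bt (LP (LK LD1_c6 LD2_c26 LD3_c26)) = v18107 :=
  Lrfl
theorem f765080 : Led Lsl_bf (LP (LK LD1_c6 LD2_c26 LD3_c26)) = v18107 :=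
  Lgr Lrot24 (Lpr_bt (f765079 IH) (Lpn v18107))
def v18040 : LQ := Led Lsl_ft (LP (LK LD1_c6 LD2_c26 LD3_c1))
theorem f764776 : Led Lsl_ft (LP (LK LD1_c6 LD2_c26 LD3_c1)) = v18040 :=
  Lrfl
theorem f764778 : Led Lsl_ff (LP (LK LD1_c6 LD2_c26 LD3_c1)) = v18040 :=
  Lgr Lrot3 (Lpr_ft (f764776 IH) (Lpn v18040))
theorem f91364 : Led Lsl_et (LP (LK LD1_c3 LD2_c10 LD3_c50)) = (LP (LK LD1_c6 LD2_c26 LD3_c1)) :=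
  Lre_e IH (LK LD1_c3 LD2_c10 LD3_c50) (LK LD1_c6 LD2_c26 LD3_c1) Lrfl Lrfl
theorem f91365 : Led Lsl_et (LP (LK LD1_c3 LD2_c23 LD3_c15)) = (LP (LK LD1_c1 LD2_c38 LD3_c0)) :=
  Lre_e IH (LK LD1_c3 LD2_c23 LD3_c15) (LK LD1_c1 LD2_c38 LD3_c0) Lrfl Lrfl
theorem f91366 : Led Lsl_bt (LP (LK LD1_c6 LD2_c26 LD3_c1)) = (LP (LK LD1_c3 LD2_c23 LD3_c15)) :=
  Lgr Lrot119 (Lpe (f91364 IH) (Lpr_bf (K7.f91360 IH) (Lpe (f91365 IH) (Lpn (LP (LK LD1_c3 LD2_c23 LD3_c15))))))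
theorem f91371 : Led Lsl_ft (LP (LK LD1_c3 LD2_c23 LD3_c15)) = (LP (LK LD1_c6 LD2_c49 LD3_c53)) :=
  Lre_f IH (LK LD1_c3 LD2_c23 LD3_c15) (LK LD1_c6 LD2_c49 LD3_c53) Lrfl Lrfl
theorem f764779 : Led Lsl_bt (LP (LK LD1_c6 LD2_c49 LD3_c53)) = v18040 :=
  Lgr Lrot35 (Lpe (f91371 IH) (Lpe (f91366 IH) (Lpr_ff (f764778 IH) (Lpn v18040))))
theorem f775223 : Led Lsl_ef v18107 = v18040 :=
  Lgr Lrot29 (Lpe (f765080 IH) (Lpr_et (f765081 IH) (Lpqs (f768721 IH) (Lpr_bt (f764779 IH) (Lpn v18040)))))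
def v2091 : LQ := Led Lsl_ct (LP (LK LD1_c1 LD2_c35 LD3_c21))
theorem f508766 : Led Lsl_ct (LP (LK LD1_c1 LD2_c35 LD3_c21)) = v2091 :=
  Lrfl
theorem f112045 : Led Lsl_ft (LP (LK LD1_c3 LD2_c12 LD3_c9)) = (LP (LK LD1_c1 LD2_c35 LD3_c21)) :=
  Lgr Lrot54 (Lpe (K5.f112042 IH) (Lpr_ff (K4.f112040 IH) (Lpr_df (K5.f89448 IH) (Lpn (LP (LK LD1_c1 LD2_c35 LD3_c21))))))
theorem f508770 : Led Lsl_ff (LP (LK LD1_c3 LD2_c10 LD3_c50)) = v2091 :=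
  Lgr Lrot23 (Lpe (K7.f128884 IH) (Lpr_ft (f112045 IH) (Lpr_ct (f508766 IH) (Lpn v2091))))
def v6102 : LQ := Led Lsl_ct (LP (LK LD1_c3 LD2_c17 LD3_c37))
theorem f651062 : Led Lsl_ct (LP (LK LD1_c3 LD2_c17 LD3_c37)) = v6102 :=
  Lrfl
theorem f89464 : Led Lsl_et (LP (LK LD1_c1 LD2_c35 LD3_c21)) = (LP (LK LD1_c3 LD2_c17 LD3_c37)) :=
  Lre_e IH (LK LD1_c1 LD2_c35 LD3_c21) (LK LD1_c3 LD2_c17 LD3_c37) Lrfl Lrfl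
theorem f508769 : Led Lsl_cf (LP (LK LD1_c1 LD2_c35 LD3_c21)) = v2091 :=
  Lgr Lrot11 (Lpr_ct (f508766 IH) (Lpn v2091))
theorem f651066 : Led Lsl_ef v2091 = v6102 :=
  Lgr Lrot28 (Lpe (f508769 IH) (Lpr_et (f89464 IH) (Lpr_ct (f651062 IH) (Lpn v6102))))
theorem f775226 : Led Lsl_ft v18107 = v6102 :=
  Lgr Lrot86 (Lpr_ef (f775223 IH) (Lpe (f764776 IH) (Lpe (f91364 IH) (Lpr_ff (f508770 IH) (Lpr_ef (f651066 IH) (Lpn v6102))))))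
theorem f128475 : Led Lsl_dt (LP (LK LD1_c12 LD2_c28 LD3_c14)) = (LP (LK LD1_c6 LD2_c28 LD3_c46)) :=
  Lre_d IH (LK LD1_c12 LD2_c28 LD3_c14) (LK LD1_c6 LD2_c28 LD3_c46) Lrfl Lrfl
theorem f89495 : Led Lsl_dt (LP (LK LD1_c6 LD2_c19 LD3_c22)) = (LP (LK LD1_c12 LD2_c14 LD3_c6)) :=
  Lre_d IH (LK LD1_c6 LD2_c19 LD3_c22) (LK LD1_c12 LD2_c14 LD3_c6) Lrfl Lrfl
theorem f208151 : Led Lsl_af (LP (LK LD1_c12 LD2_c28 LD3_c14)) = (LP (LK LD1_c12 LD2_c14 LD3_c6)) :=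
  Lgr Lrot117 (Lpr_dt (f128475 IH) (Lpr_at (K51.f208141 IH) (Lpr_dt (f89495 IH) (Lpn (LP (LK LD1_c12 LD2_c14 LD3_c6))))))
theorem f208157 : Led Lsl_at (LP (LK LD1_c12 LD2_c28 LD3_c14)) = (LP (LK LD1_c12 LD2_c14 LD3_c6)) :=
  Lgr Lrot100 (Lpr_af (f208151 IH) (Lpn (LP (LK LD1_c12 LD2_c14 LD3_c6))))
theorem f208162 : Led Lsl_ft (LP (LK LD1_c6 LD2_c28 LD3_c45)) = (LP (LK LD1_c12 LD2_c28 LD3_c14)) :=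
  Lre_f IH (LK LD1_c6 LD2_c28 LD3_c45) (LK LD1_c12 LD2_c28 LD3_c14) Lrfl Lrfl
theorem f89475 : Led Lsl_ft (LP (LK LD1_c12 LD2_c14 LD3_c6)) = (LP (LK LD1_c6 LD2_c19 LD3_c21)) :=
  Lre_f IH (LK LD1_c12 LD2_c14 LD3_c6) (LK LD1_c6 LD2_c19 LD3_c21) Lrfl Lrfl
theorem f208163 : Led Lsl_af (LP (LK LD1_c6 LD2_c28 LD3_c45)) = (LP (LK LD1_c6 LD2_c19 LD3_c21)) :=
  Lgr Lrot45 (Lpr_ft (f208162 IH) (Lpr_at (f208157 IH) (Lpr_ft (f89475 IH) (Lpn (LP (LK LD1_c6 LD2_c19 LD3_c21))))))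
theorem f208167 : Led Lsl_et (LP (LK LD1_c6 LD2_c28 LD3_c45)) = (LP (LK LD1_c12 LD2_c28 LD3_c9)) :=
  Lre_e IH (LK LD1_c6 LD2_c28 LD3_c45) (LK LD1_c12 LD2_c28 LD3_c9) Lrfl Lrfl
theorem f89437 : Led Lsl_dt (LP (LK LD1_c3 LD2_c7 LD3_c7)) = (LP (LK LD1_c6 LD2_c19 LD3_c21)) :=
  Lre_d IH (LK LD1_c3 LD2_c7 LD3_c7) (LK LD1_c6 LD2_c19 LD3_c21) Lrfl Lrfl
theorem f89455 : Led Lsl_et (LP (LK LD1_c3 LD2_c17 LD3_c37)) = (LP (LK LD1_c1 LD2_c35 LD3_c21)) :=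
  Lre_e IH (LK LD1_c3 LD2_c17 LD3_c37) (LK LD1_c1 LD2_c35 LD3_c21) Lrfl Lrfl
theorem f89456 : Led Lsl_dt (LP (LK LD1_c6 LD2_c38 LD3_c41)) = (LP (LK LD1_c3 LD2_c17 LD3_c37)) :=
  Lre_d IH (LK LD1_c6 LD2_c38 LD3_c41) (LK LD1_c3 LD2_c17 LD3_c37) Lrfl Lrfl
theorem f89457 : Led Lsl_et (LP (LK LD1_c6 LD2_c19 LD3_c21)) = (LP (LK LD1_c6 LD2_c38 LD3_c41)) :=
  Lgr Lrot71 (Lpe (f89437 IH) (Lpe (K51.f89454 IH) (Lpr_df (K5.f89448 IH) (Lpe (f89455 IH) (Lpe (f89456 IH) (Lpn (LP (LK LD1_c6 LD2_c38 LD3_c41))))))))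
theorem f89473 : Led Lsl_ef (LP (LK LD1_c6 LD2_c19 LD3_c21)) = (LP (LK LD1_c6 LD2_c38 LD3_c41)) :=
  Lgr Lrot88 (Lpr_et (f89457 IH) (Lpn (LP (LK LD1_c6 LD2_c38 LD3_c41))))
theorem f208168 : Led Lsl_at (LP (LK LD1_c12 LD2_c28 LD3_c9)) = (LP (LK LD1_c6 LD2_c38 LD3_c41)) :=
  Lgr Lrot80 (Lpe (f208167 IH) (Lpr_af (f208163 IH) (Lpr_ef (f89473 IH) (Lpn (LP (LK LD1_c6 LD2_c38 LD3_c41))))))
theorem f208172 : Led Lsl_bt (LP (LK LD1_c21 LD2_c35 LD3_c9)) = (LP (LK LD1_c12 LD2_c28 LD3_c9)) :=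
  Lre_b IH (LK LD1_c21 LD2_c35 LD3_c9) (LK LD1_c12 LD2_c28 LD3_c9) Lrfl Lrfl
theorem f89469 : Led Lsl_bt (LP (LK LD1_c6 LD2_c38 LD3_c41)) = (LP (LK LD1_c3 LD2_c17 LD3_c39)) :=
  Lre_b IH (LK LD1_c6 LD2_c38 LD3_c41) (LK LD1_c3 LD2_c17 LD3_c39) Lrfl Lrfl
theorem f93794 : Led Lsl_bt (LP (LK LD1_c6 LD2_c35 LD3_c41)) = (LP (LK LD1_c12 LD2_c37 LD3_c19)) :=
  Lre_b IH (LK LD1_c6 LD2_c35 LD3_c41) (LK LD1_c12 LD2_c37 LD3_c19) Lrfl Lrfl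
theorem f208173 : Led Lsl_af (LP (LK LD1_c21 LD2_c35 LD3_c9)) = (LP (LK LD1_c12 LD2_c37 LD3_c19)) :=
  Lgr Lrot36 (Lpr_bt (f208172 IH) (Lpr_at (f208168 IH) (Lpr_bt (f89469 IH) (Lpr_at (K58.f93789 IH) (Lpr_bt (f93794 IH) (Lpn (LP (LK LD1_c12 LD2_c37 LD3_c19))))))))
theorem f208181 : Led Lsl_dt (LP (LK LD1_c21 LD2_c35 LD3_c9)) = (LP (LK LD1_c12 LD2_c28 LD3_c3)) :=
  Lre_d IH (LK LD1_c21 LD2_c35 LD3_c9) (LK LD1_c12 LD2_c28 LD3_c3) Lrfl Lrfl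
theorem f208182 : Led Lsl_dt (LP (LK LD1_c6 LD2_c35 LD3_c39)) = (LP (LK LD1_c12 LD2_c37 LD3_c19)) :=
  Lre_d IH (LK LD1_c6 LD2_c35 LD3_c39) (LK LD1_c12 LD2_c37 LD3_c19) Lrfl Lrfl
theorem f208183 : Led Lsl_at (LP (LK LD1_c12 LD2_c28 LD3_c3)) = (LP (LK LD1_c6 LD2_c35 LD3_c39)) :=
  Lgr Lrot51 (Lpe (f208181 IH) (Lpr_af (f208173 IH) (Lpe (f208182 IH) (Lpn (LP (LK LD1_c6 LD2_c35 LD3_c39))))))
theorem f208187 : Led Lsl_af (LP (LK LD1_c12 LD2_c28 LD3_c3)) = (LP (LK LD1_c6 LD2_c35 LD3_c39)) :=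
  Lgr Lrot0 (Lpr_at (f208183 IH) (Lpn (LP (LK LD1_c6 LD2_c35 LD3_c39))))
theorem f155527 : Led Lsl_bt (LP (LK LD1_c12 LD2_c28 LD3_c3)) = (LP (LK LD1_c6 LD2_c28 LD3_c42)) :=
  Lre_b IH (LK LD1_c12 LD2_c28 LD3_c3) (LK LD1_c6 LD2_c28 LD3_c42) Lrfl Lrfl
theorem f93678 : Led Lsl_bt (LP (LK LD1_c3 LD2_c16 LD3_c12)) = (LP (LK LD1_c6 LD2_c35 LD3_c39)) :=
  Lre_b IH (LK LD1_c3 LD2_c16 LD3_c12) (LK LD1_c6 LD2_c35 LD3_c39) Lrfl Lrfl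
theorem f93828 : Led Lsl_bt (LP (LK LD1_c3 LD2_c17 LD3_c37)) = (LP (LK LD1_c1 LD2_c35 LD3_c23)) :=
  Lre_b IH (LK LD1_c3 LD2_c17 LD3_c37) (LK LD1_c1 LD2_c35 LD3_c23) Lrfl Lrfl
theorem f208191 : Led Lsl_at (LP (LK LD1_c6 LD2_c28 LD3_c42)) = (LP (LK LD1_c3 LD2_c17 LD3_c37)) :=
  Lgr Lrot67 (Lpe (f155527 IH) (Lpr_af (f208187 IH) (Lpe (f93678 IH) (Lpe (K4.f93667 IH) (Lpe (f93828 IH) (Lpn (LP (LK LD1_c3 LD2_c17 LD3_c37))))))))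
theorem f120001 : Led Lsl_et (LP (LK LD1_c3 LD2_c12 LD3_c18)) = (LP (LK LD1_c6 LD2_c28 LD3_c42)) :=
  Lre_e IH (LK LD1_c3 LD2_c12 LD3_c18) (LK LD1_c6 LD2_c28 LD3_c42) Lrfl Lrfl
theorem f155523 : Led Lsl_et (LP (LK LD1_c6 LD2_c26 LD3_c0)) = (LP (LK LD1_c3 LD2_c10 LD3_c49)) :=
  Lre_e IH (LK LD1_c6 LD2_c26 LD3_c0) (LK LD1_c3 LD2_c10 LD3_c49) Lrfl Lrfl
theorem f155524 : Led Lsl_ct (LP (LK LD1_c6 LD2_c28 LD3_c42)) = (LP (LK LD1_c6 LD2_c26 LD3_c0)) :=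
  Lgr Lrot15 (Lpe (f120001 IH) (Lpr_cf (K8.f155514 IH) (Lpe (f155523 IH) (Lpn (LP (LK LD1_c6 LD2_c26 LD3_c0))))))
theorem f155528 : Led Lsl_cf (LP (LK LD1_c6 LD2_c28 LD3_c42)) = (LP (LK LD1_c6 LD2_c26 LD3_c0)) :=
  Lgr Lrot11 (Lpr_ct (f155524 IH) (Lpn (LP (LK LD1_c6 LD2_c26 LD3_c0))))
theorem f651063 : Led Lsl_af (LP (LK LD1_c6 LD2_c26 LD3_c0)) = v6102 :=
  Lgr Lrot68 (Lpe (f155528 IH) (Lpr_at (f208191 IH) (Lpr_ct (f651062 IH) (Lpn v6102))))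
def v18036 : LQ := Led Lsl_ft (LP (LK LD1_c6 LD2_c26 LD3_c0))
theorem f764765 : Led Lsl_ft (LP (LK LD1_c6 LD2_c26 LD3_c0)) = v18036 :=
  Lrfl
theorem f775227 : Led Lsl_af v18107 = v18036 :=
  Lgr Lrot45 (Lpr_ft (f775226 IH) (Lpe (f651063 IH) (Lpr_ft (f764765 IH) (Lpn v18036))))
def v18033 : LQ := Led Lsl_gt (LP (LK LD1_c6 LD2_c26 LD3_c0))
theorem f764761 : Led Lsl_gt (LP (LK LD1_c6 LD2_c26 LD3_c0)) = v18033 :=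
  Lrfl
theorem f775234 : Led Lsl_gf v18107 = v18033 :=
  Lgr Lrot76 (Lpr_af (f775227 IH) (Lpe (f764765 IH) (Lpr_gt (f764761 IH) (Lpn v18033))))
theorem f651065 : Led Lsl_cf (LP (LK LD1_c3 LD2_c17 LD3_c37)) = v6102 :=
  Lgr Lrot11 (Lpr_ct (f651062 IH) (Lpn v6102))
theorem f208194 : Led Lsl_ft (LP (LK LD1_c3 LD2_c17 LD3_c37)) = (LP (LK LD1_c6 LD2_c38 LD3_c42)) :=
  Lre_f IH (LK LD1_c3 LD2_c17 LD3_c37) (LK LD1_c6 LD2_c38 LD3_c42) Lrfl Lrfl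
theorem f775228 : Led Lsl_cf v18107 = (LP (LK LD1_c6 LD2_c38 LD3_c42)) :=
  Lgr Lrot108 (Lpr_ft (f775226 IH) (Lpe (f651065 IH) (Lpr_ft (f208194 IH) (Lpn (LP (LK LD1_c6 LD2_c38 LD3_c42))))))
theorem f93804 : Led Lsl_bt (LP (LK LD1_c6 LD2_c38 LD3_c42)) = (LP (LK LD1_c3 LD2_c17 LD3_c40)) :=
  Lre_b IH (LK LD1_c6 LD2_c38 LD3_c42) (LK LD1_c3 LD2_c17 LD3_c40) Lrfl Lrfl
theorem f40630 : Led Lsl_ct (LP (LK LD1_c4 LD2_c37 LD3_c50)) = (LP (LK LD1_c2 LD2_c16 LD3_c5)) :=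
  Lre_c IH (LK LD1_c4 LD2_c37 LD3_c50) (LK LD1_c2 LD2_c16 LD3_c5) Lrfl Lrfl
theorem f152534 : Led Lsl_et (LP (LK LD1_c3 LD2_c12 LD3_c28)) = (LP (LK LD1_c6 LD2_c29 LD3_c0)) :=
  Lre_e IH (LK LD1_c3 LD2_c12 LD3_c28) (LK LD1_c6 LD2_c29 LD3_c0) Lrfl Lrfl
theorem f152535 : Led Lsl_bf (LP (LK LD1_c4 LD2_c37 LD3_c50)) = (LP (LK LD1_c6 LD2_c29 LD3_c0)) :=
  Lgr Lrot96 (Lpr_et (K57.f148809 IH) (Lpr_bt (K7.f152527 IH) (Lpr_et (f152534 IH) (Lpn (LP (LK LD1_c6 LD2_c29 LD3_c0))))))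
theorem f152537 : Led Lsl_bt (LP (LK LD1_c4 LD2_c37 LD3_c50)) = (LP (LK LD1_c6 LD2_c29 LD3_c0)) :=
  Lgr Lrot127 (Lpr_bf (f152535 IH) (Lpn (LP (LK LD1_c6 LD2_c29 LD3_c0))))
theorem f152561 : Led Lsl_gt (LP (LK LD1_c6 LD2_c29 LD3_c0)) = (LP (LK LD1_c12 LD2_c28 LD3_c26)) :=
  Lre_g IH (LK LD1_c6 LD2_c29 LD3_c0) (LK LD1_c12 LD2_c28 LD3_c26) Lrfl Lrfl
theorem f775235 : Led Lsl_ct (LP (LK LD1_c12 LD2_c28 LD3_c26)) = v18033 :=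
  Lgr Lrot91 (Lpe (f152561 IH) (Lpe (f152537 IH) (Lpr_ct (f40630 IH) (Lpe (K51.f40637 IH) (Lpe (K58.f152563 IH) (Lpe (K58.f700337 IH) (Lpqs (K58.f768744 IH) (Lpe (K58.f650496 IH) (Lpe (f93804 IH) (Lpe (f775228 IH) (Lpr_gf (f775234 IH) (Lpn v18033))))))))))))
theorem f118330 : Led Lsl_bt (LP (LK LD1_c3 LD2_c16 LD3_c6)) = (LP (LK LD1_c6 LD2_c35 LD3_c27)) :=
  Lre_b IH (LK LD1_c3 LD2_c16 LD3_c6) (LK LD1_c6 LD2_c35 LD3_c27) Lrfl Lrfl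
theorem f112274 : Led Lsl_gt (LP (LK LD1_c6 LD2_c35 LD3_c27)) = (LP (LK LD1_c12 LD2_c36 LD3_c54)) :=
  Lre_g IH (LK LD1_c6 LD2_c35 LD3_c27) (LK LD1_c12 LD2_c36 LD3_c54) Lrfl Lrfl
theorem f775237 : Led Lsl_bt (LP (LK LD1_c12 LD2_c28 LD3_c26)) = (LP (LK LD1_c12 LD2_c36 LD3_c54)) :=
  Lgr Lrot92 (Lpr_ct (f775235 IH) (Lpe (f775234 IH) (Lpr_cf (f775228 IH) (Lpr_bt (f93804 IH) (Lpr_gt (K58.f650496 IH) (Lpq (K58.f768744 IH) (Lpr_ct (K58.f417062 IH) (Lpr_gt (K58.f634095 IH) (Lpq (K58.f768941 IH) (Lpe (K4.f118032 IH) (Lpr_bt (f118330 IH) (Lpr_gt (f112274 IH) (Lpn (LP (LK LD1_c12 LD2_c36 LD3_c54)))))))))))))))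
theorem f775238 : Led Lsl_bt (LP (LK LD1_c12 LD2_c28 LD3_c26)) = (LP (LK LD1_c12 LD2_c36 LD3_c54)) :=
  Leop (Lpe (f775237 IH) (Lpn (LP (LK LD1_c12 LD2_c28 LD3_c26))))
theorem seed_1384 : LEOK LG_b (LK LD1_c12 LD2_c28 LD3_c26) :=
  Leoe_b (LK LD1_c12 LD2_c28 LD3_c26) (f775238 IH)
theorem f505903 : Led Lsl_ct (LP (LK LD1_c12 LD2_c17 LD3_c25)) = (LP (LK LD1_c6 LD2_c21 LD3_c52)) :=
  Lre_c IH (LK LD1_c12 LD2_c17 LD3_c25) (LK LD1_c6 LD2_c21 LD3_c52) Lrfl Lrfl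
theorem f69301 : Led Lsl_ct (LP (LK LD1_c6 LD2_c49 LD3_c55)) = (LP (LK LD1_c13 LD2_c1 LD3_c11)) :=
  Lre_c IH (LK LD1_c6 LD2_c49 LD3_c55) (LK LD1_c13 LD2_c1 LD3_c11) Lrfl Lrfl
theorem f775246 : Led Lsl_ff (LP (LK LD1_c12 LD2_c17 LD3_c25)) = (LP (LK LD1_c13 LD2_c1 LD3_c11)) :=
  Lgr Lrot23 (Lpr_ct (f505903 IH) (Lpr_ft (K50.f701988 IH) (Lpqs (f771490 IH) (Lpr_ct (f69301 IH) (Lpn (LP (LK LD1_c13 LD2_c1 LD3_c11)))))))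
theorem f505912 : Led Lsl_at (LP (LK LD1_c12 LD2_c17 LD3_c25)) = (LP (LK LD1_c6 LD2_c21 LD3_c59)) :=
  Lre_a IH (LK LD1_c12 LD2_c17 LD3_c25) (LK LD1_c6 LD2_c21 LD3_c59) Lrfl Lrfl
theorem f444041 : Led Lsl_gt (LP (LK LD1_c12 LD2_c17 LD3_c36)) = (LP (LK LD1_c6 LD2_c21 LD3_c59)) :=
  Lre_g IH (LK LD1_c12 LD2_c17 LD3_c36) (LK LD1_c6 LD2_c21 LD3_c59) Lrfl Lrfl
theorem f775252 : Led Lsl_gf (LP (LK LD1_c12 LD2_c17 LD3_c36)) = (LP (LK LD1_c13 LD2_c1 LD3_c11)) :=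
  Lgr Lrot47 (Lpr_gt (f444041 IH) (Lpe (f505912 IH) (Lpr_ff (f775246 IH) (Lpn (LP (LK LD1_c13 LD2_c1 LD3_c11))))))
theorem f775241 : Led Lsl_dt (LP (LK LD1_c12 LD2_c17 LD3_c36)) = (LP (LK LD1_c21 LD2_c22 LD3_c57)) :=
  Lre_d IH (LK LD1_c12 LD2_c17 LD3_c36) (LK LD1_c21 LD2_c22 LD3_c57) Lrfl Lrfl
def v17758 : LQ := Led Lsl_dt (LP (LK LD1_c6 LD2_c21 LD3_c58))
theorem f762056 : Led Lsl_dt (LP (LK LD1_c6 LD2_c21 LD3_c58)) = v17758 :=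
  Lrfl
theorem f771553 : (LP (LK LD1_c6 LD2_c19 LD3_c6)) = v17758 :=
  Lefun (Lecon (Lfl_df (f759809 IH)) (f771541 IH).symm) (f762056 IH)
def v17432 : LQ := Led Lsl_gt (LP (LK LD1_c6 LD2_c19 LD3_c6))
theorem f759796 : Led Lsl_gt (LP (LK LD1_c6 LD2_c19 LD3_c6)) = v17432 :=
  Lrfl
def v18234 : LQ := Led Lsl_gt (LP (LK LD1_c6 LD2_c27 LD3_c35))
theorem f765669 : Led Lsl_gt (LP (LK LD1_c6 LD2_c27 LD3_c35)) = v18234 :=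
  Lrfl
theorem f765675 : Led Lsl_af (LP (LK LD1_c6 LD2_c49 LD3_c58)) = K58.v18236 :=
  Lgr Lrot45 (Lpr_ft (f93944 IH) (Lpr_at (K58.f93979 IH) (Lpr_ft (K58.f765674 IH) (Lpn K58.v18236))))
theorem f765679 : Led Lsl_gt v18234 = (LP (LK LD1_c6 LD2_c49 LD3_c58)) :=
  Lgr Lrot46 (Lpe (f765669 IH) (Lpr_ft (K58.f765674 IH) (Lpe (f765675 IH) (Lpn (LP (LK LD1_c6 LD2_c49 LD3_c58))))))
theorem f93993 : Led Lsl_dt (LP (LK LD1_c3 LD2_c23 LD3_c18)) = (LP (LK LD1_c6 LD2_c49 LD3_c58)) :=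
  Lre_d IH (LK LD1_c3 LD2_c23 LD3_c18) (LK LD1_c6 LD2_c49 LD3_c58) Lrfl Lrfl
theorem f90108 : Led Lsl_ft (LP (LK LD1_c0 LD2_c41 LD3_c22)) = (LP (LK LD1_c0 LD2_c47 LD3_c10)) :=
  Lgr Lrot4 (Lpr_cf (K2.f90094 IH) (Lpr_ff (K2.f84673 IH) (Lpe (K2.f84681 IH) (Lpn (LP (LK LD1_c0 LD2_c47 LD3_c10))))))
theorem f90572 : Led Lsl_ff (LP (LK LD1_c0 LD2_c45 LD3_c27)) = (LP (LK LD1_c1 LD2_c37 LD3_c58)) :=
  Lgr Lrot19 (Lpr_dt (K2.f90561 IH) (Lpr_ft (f90108 IH) (Lpr_dt (K1.f66582 IH) (Lpn (LP (LK LD1_c1 LD2_c37 LD3_c58))))))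
theorem f93290 : Led Lsl_ft (LP (LK LD1_c1 LD2_c38 LD3_c1)) = (LP (LK LD1_c3 LD2_c23 LD3_c18)) :=
  Lre_f IH (LK LD1_c1 LD2_c38 LD3_c1) (LK LD1_c3 LD2_c23 LD3_c18) Lrfl Lrfl
theorem f653778 : Led Lsl_et (LP (LK LD1_c3 LD2_c23 LD3_c18)) = K58.v6524 :=
  Lgr Lrot69 (Lpe (f93290 IH) (Lpe (f90583 IH) (Lpr_ff (f90572 IH) (Lpe (K3.f66584 IH) (Lpr_ff (K58.f653771 IH) (Lpn K58.v6524))))))
theorem f765680 : Led Lsl_df v18234 = v17432 :=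
  Lgr Lrot135 (Lpr_gt (f765679 IH) (Lpe (f93993 IH) (Lpr_et (f653778 IH) (Lpe (K58.f653779 IH) (Lpr_ef (f653881 IH) (Lpr_dt (f759685 IH) (Lpe (f759684 IH) (Lpe (K51.f66991 IH) (Lpr_et (f93235 IH) (Lpr_gt (f759796 IH) (Lpn v17432)))))))))))
theorem f765681 : Led Lsl_dt v18234 = v17432 :=
  Lgr Lrot42 (Lpr_df (f765680 IH) (Lpn v17432))
def v11810 : LQ := Led Lsl_ft K58.v3895
theorem f685951 : Led Lsl_ft K58.v3895 = v11810 :=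
  Lrfl
theorem f685954 : Led Lsl_ff K58.v3895 = v11810 :=
  Lgr Lrot3 (Lpr_ft (f685951 IH) (Lpn v11810))
theorem f685956 : Led Lsl_dt (LP (LK LD1_c4 LD2_c42 LD3_c10)) = v11810 :=
  Lgr Lrot60 (Lpe (K58.f623700 IH) (Lpr_df (K58.f627773 IH) (Lpr_ff (f685954 IH) (Lpn v11810))))
theorem f769626 : (LP (LK LD1_c4 LD2_c42 LD3_c10)) = v18234 :=
  Lefun (Lecon (Lfl_gf (f702062 IH)) (f769622 IH).symm) (f765669 IH)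
theorem f769629 : v17432 = v11810 :=
  Lefun (Lecon (f765681 IH) (f769626 IH).symm) (f685956 IH)
theorem f622838 : Led Lsl_ff (LP (LK LD1_c3 LD2_c8 LD3_c51)) = (LP (LK LD1_c4 LD2_c42 LD3_c10)) :=
  Lgr Lrot25 (Lpr_bt (K58.f416993 IH) (Lpr_ft (K35.f506255 IH) (Lpqs (K35.f622833 IH) (Lpr_bt (K58.f152211 IH) (Lpn (LP (LK LD1_c4 LD2_c42 LD3_c10)))))))
theorem f685953 : Led Lsl_df (LP (LK LD1_c4 LD2_c42 LD3_c10)) = v11810 :=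
  Lgr Lrot78 (Lpe (f622838 IH) (Lpr_dt (K58.f627774 IH) (Lpr_ft (f685951 IH) (Lpn v11810))))
theorem f152232 : Led Lsl_dt (LP (LK LD1_c17 LD2_c13 LD3_c56)) = (LP (LK LD1_c9 LD2_c18 LD3_c41)) :=
  Lre_d IH (LK LD1_c17 LD2_c13 LD3_c56) (LK LD1_c9 LD2_c18 LD3_c41) Lrfl Lrfl
theorem f775254 : Led Lsl_gt (LP (LK LD1_c21 LD2_c22 LD3_c57)) = (LP (LK LD1_c17 LD2_c13 LD3_c56)) :=
  Lgr Lrot49 (Lpe (f775241 IH) (Lpr_gf (f775252 IH) (Lpe (f69301 IH) (Lpr_gt (f759810 IH) (Lpq (f771541 IH) (Lpr_dt (f762056 IH) (Lpq (f771553 IH) (Lpr_gt (f759796 IH) (Lpqs (f769629 IH) (Lpe (f685953 IH) (Lpe (K58.f152239 IH) (Lpe (f152232 IH) (Lpn (LP (LK LD1_c17 LD2_c13 LD3_c56)))))))))))))))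
theorem f775255 : Led Lsl_gt (LP (LK LD1_c21 LD2_c22 LD3_c57)) = (LP (LK LD1_c17 LD2_c13 LD3_c56)) :=
  Leop (Lpe (f775254 IH) (Lpn (LP (LK LD1_c21 LD2_c22 LD3_c57))))
theorem seed_1385 : LEOK LG_g (LK LD1_c21 LD2_c22 LD3_c57) :=
  Leoe_g (LK LD1_c21 LD2_c22 LD3_c57) (f775255 IH)
theorem f652533 : Led Lsl_ff (LP (LK LD1_c3 LD2_c19 LD3_c52)) = K58.v6275 :=
  Lgr Lrot3 (Lpr_ft (K58.f652532 IH) (Lpn K58.v6275))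
def v6278 : LQ := Led Lsl_ft (LP (LK LD1_c3 LD2_c19 LD3_c51))
theorem f652539 : Led Lsl_ft (LP (LK LD1_c3 LD2_c19 LD3_c51)) = v6278 :=
  Lrfl
theorem f652541 : Led Lsl_ff (LP (LK LD1_c3 LD2_c19 LD3_c51)) = v6278 :=
  Lgr Lrot3 (Lpr_ft (f652539 IH) (Lpn v6278))
theorem f652542 : Led Lsl_at (LP (LK LD1_c3 LD2_c19 LD3_c52)) = v6278 :=
  Lgr Lrot66 (Lpr_ff (f652533 IH) (Lpe (K58.f652529 IH) (Lpr_ff (f652541 IH) (Lpn v6278))))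
theorem f57211 : Led Lsl_gt (LP (LK LD1_c3 LD2_c19 LD3_c54)) = (LP (LK LD1_c6 LD2_c43 LD3_c15)) :=
  Lre_g IH (LK LD1_c3 LD2_c19 LD3_c54) (LK LD1_c6 LD2_c43 LD3_c15) Lrfl Lrfl
theorem f775276 : v6278 = (LP (LK LD1_c6 LD2_c43 LD3_c15)) :=
  (Llr Lrot26 (Lpe (f652542 IH) (Lpr_ff (f652533 IH) (Lpqs (K58.f771120 IH) (Lpr_gt (K58.f652468 IH) (Lpr_gt (f57211 IH) (Lpn (LP (LK LD1_c6 LD2_c43 LD3_c15))))))))).symm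
theorem f652540 : Led Lsl_af (LP (LK LD1_c3 LD2_c19 LD3_c52)) = v6278 :=
  Lgr Lrot45 (Lpr_ft (K58.f652532 IH) (Lpe (K58.f652530 IH) (Lpr_ft (f652539 IH) (Lpn v6278))))
theorem f775277 : Led Lsl_at (LP (LK LD1_c6 LD2_c43 LD3_c15)) = (LP (LK LD1_c3 LD2_c19 LD3_c52)) :=
  Leop (Lpr_af (f652540 IH) (Lpqs (f775276 IH) (Lpn (LP (LK LD1_c6 LD2_c43 LD3_c15)))))
theorem seed_1386 : LEOK LG_a (LK LD1_c6 LD2_c43 LD3_c15) :=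
  Leoe_a (LK LD1_c6 LD2_c43 LD3_c15) (f775277 IH)
theorem f775279 : Led Lsl_ft (LP (LK LD1_c6 LD2_c43 LD3_c15)) = (LP (LK LD1_c3 LD2_c19 LD3_c51)) :=
  Leop (Lpr_ff (f652541 IH) (Lpqs (f775276 IH) (Lpn (LP (LK LD1_c6 LD2_c43 LD3_c15)))))
theorem seed_1387 : LEOK LG_f (LK LD1_c6 LD2_c43 LD3_c15) :=
  Leoe_f (LK LD1_c6 LD2_c43 LD3_c15) (f775279 IH)
theorem f416953 : Led Lsl_ct (LP (LK LD1_c3 LD2_c19 LD3_c34)) = (LP (LK LD1_c6 LD2_c42 LD3_c57)) :=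
  Lre_c IH (LK LD1_c3 LD2_c19 LD3_c34) (LK LD1_c6 LD2_c42 LD3_c57) Lrfl Lrfl
def v17780 : LQ := Led Lsl_gf (LP (LK LD1_c6 LD2_c22 LD3_c11))
theorem f762149 : Led Lsl_gf (LP (LK LD1_c6 LD2_c22 LD3_c11)) = v17780 :=
  Lrfl
theorem f762150 : Led Lsl_gt K58.v4292 = v17780 :=
  Lgr Lrot5 (Lpe (K58.f632452 IH) (Lpr_at (K58.f67276 IH) (Lpr_gf (f762149 IH) (Lpn v17780))))
theorem f770075 : (LP (LK LD1_c6 LD2_c27 LD3_c52)) = v17780 :=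
  Lefun (Lecon (Lfl_gf (f765972 IH)) (f770071 IH).symm) (f762150 IH)
theorem f79408 : Led Lsl_et (LP (LK LD1_c6 LD2_c17 LD3_c18)) = (LP (LK LD1_c12 LD2_c11 LD3_c5)) :=
  Lre_e IH (LK LD1_c6 LD2_c17 LD3_c18) (LK LD1_c12 LD2_c11 LD3_c5) Lrfl Lrfl
theorem f58106 : Led Lsl_et (LP (LK LD1_c12 LD2_c11 LD3_c51)) = (LP (LK LD1_c6 LD2_c17 LD3_c43)) :=
  Lre_e IH (LK LD1_c12 LD2_c11 LD3_c51) (LK LD1_c6 LD2_c17 LD3_c43) Lrfl Lrfl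
theorem f133310 : Led Lsl_ct (LP (LK LD1_c12 LD2_c11 LD3_c5)) = (LP (LK LD1_c12 LD2_c11 LD3_c51)) :=
  Lgr Lrot15 (Lpe (f79408 IH) (Lpr_cf (K5.f133306 IH) (Lpe (f58106 IH) (Lpn (LP (LK LD1_c12 LD2_c11 LD3_c51))))))
theorem f775378 : Led Lsl_gf (LP (LK LD1_c6 LD2_c42 LD3_c57)) = (LP (LK LD1_c12 LD2_c11 LD3_c51)) :=
  Lgr Lrot126 (Lpe (f416953 IH) (Lpr_bt (K58.f416950 IH) (Lpr_gt (K32.f416948 IH) (Lpr_ct (K32.f92220 IH) (Lpr_gt (K35.f438283 IH) (Lpe (K32.f500049 IH) (Lpr_bt (K58.f632450 IH) (Lpr_gt (f762150 IH) (Lpq (f770075 IH) (Lpe (K4.f79404 IH) (Lpr_ct (f133310 IH) (Lpn (LP (LK LD1_c12 LD2_c11 LD3_c51))))))))))))))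
theorem f775379 : Led Lsl_gt (LP (LK LD1_c12 LD2_c11 LD3_c51)) = (LP (LK LD1_c6 LD2_c42 LD3_c57)) :=
  Leop (Lpr_gf (f775378 IH) (Lpn (LP (LK LD1_c12 LD2_c11 LD3_c51))))
theorem seed_1388 : LEOK LG_g (LK LD1_c12 LD2_c11 LD3_c51) :=
  Leoe_g (LK LD1_c12 LD2_c11 LD3_c51) (f775379 IH)
def v6473 : LQ := Led Lsl_bt (LP (LK LD1_c3 LD2_c22 LD3_c22))
theorem f653552 : Led Lsl_bt (LP (LK LD1_c3 LD2_c22 LD3_c22)) = v6473 :=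
  Lrfl
theorem f702704 : Led Lsl_gf (LP (LK LD1_c6 LD2_c23 LD3_c42)) = K50.v13391 :=
  Lgr Lrot141 (Lpe (K50.f503688 IH) (Lpr_dt (K50.f503682 IH) (Lpe (K56.f505577 IH) (Lpe (K29.f416146 IH) (Lpr_et (K48.f454902 IH) (Lpe (K32.f416863 IH) (Lpr_dt (K32.f416854 IH) (Lpr_gt (K32.f154561 IH) (Lpe (K16.f150516 IH) (Lpr_et (K50.f702698 IH) (Lpn K50.v13391)))))))))))
theorem f152194 : Led Lsl_ft (LP (LK LD1_c0 LD2_c30 LD3_c36)) = (LP (LK LD1_c1 LD2_c6 LD3_c56)) :=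
  Lre_f IH (LK LD1_c0 LD2_c30 LD3_c36) (LK LD1_c1 LD2_c6 LD3_c56) Lrfl Lrfl
theorem f154073 : Led Lsl_ft (LP (LK LD1_c2 LD2_c18 LD3_c35)) = (LP (LK LD1_c1 LD2_c6 LD3_c55)) :=
  Lgr Lrot4 (Lpr_cf (K7.f154069 IH) (Lpe (f152194 IH) (Lpe (K7.f25747 IH) (Lpn (LP (LK LD1_c1 LD2_c6 LD3_c55))))))
theorem f632503 : Led Lsl_ef (LP (LK LD1_c2 LD2_c18 LD3_c35)) = K52.v4298 :=
  Lgr Lrot88 (Lpr_et (K52.f632500 IH) (Lpn K52.v4298))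
theorem f702702 : Led Lsl_ff K52.v4298 = K50.v13391 :=
  Lgr Lrot72 (Lpe (f632503 IH) (Lpr_ft (f154073 IH) (Lpr_et (K7.f153467 IH) (Lpr_ft (K32.f154566 IH) (Lpr_et (K50.f702698 IH) (Lpn K50.v13391))))))
theorem f152763 : Led Lsl_ft (LP (LK LD1_c1 LD2_c6 LD3_c56)) = (LP (LK LD1_c0 LD2_c30 LD3_c36)) :=
  Lre_f IH (LK LD1_c1 LD2_c6 LD3_c56) (LK LD1_c0 LD2_c30 LD3_c36) Lrfl Lrfl
theorem f632763 : Led Lsl_ff K46.v1311 = K50.v4337 :=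
  Lgr Lrot72 (Lpe (K46.f494756 IH) (Lpr_ft (f152763 IH) (Lpr_et (K32.f83938 IH) (Lpr_ft (K7.f153696 IH) (Lpr_et (K50.f632759 IH) (Lpn K50.v4337))))))
theorem f632770 : Led Lsl_ft K46.v1311 = K50.v4337 :=
  Lgr Lrot48 (Lpr_ff (f632763 IH) (Lpn K50.v4337))
theorem f702708 : Led Lsl_ct K50.v4337 = K50.v13391 :=
  Lgr Lrot40 (Lpe (f632770 IH) (Lpr_cf (K52.f632502 IH) (Lpr_ff (f702702 IH) (Lpn K50.v13391))))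
theorem f632764 : Led Lsl_gt (LP (LK LD1_c3 LD2_c8 LD3_c46)) = K50.v4337 :=
  Lgr Lrot131 (Lpe (K46.f67108 IH) (Lpr_dt (K32.f67107 IH) (Lpr_gf (K32.f435542 IH) (Lpe (K7.f61106 IH) (Lpe (K32.f153568 IH) (Lpr_ef (K9.f67174 IH) (Lpr_dt (K9.f67173 IH) (Lpr_gf (K32.f435519 IH) (Lpe (K32.f150502 IH) (Lpr_et (K50.f632759 IH) (Lpn K50.v4337)))))))))))
theorem f435999 : Led Lsl_bt (LP (LK LD1_c6 LD2_c21 LD3_c60)) = (LP (LK LD1_c3 LD2_c8 LD3_c46)) :=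
  Lre_b IH (LK LD1_c6 LD2_c21 LD3_c60) (LK LD1_c3 LD2_c8 LD3_c46) Lrfl Lrfl
theorem f436000 : Led Lsl_ct (LP (LK LD1_c6 LD2_c21 LD3_c60)) = (LP (LK LD1_c12 LD2_c17 LD3_c39)) :=
  Lre_c IH (LK LD1_c6 LD2_c21 LD3_c60) (LK LD1_c12 LD2_c17 LD3_c39) Lrfl Lrfl
def v13793 : LQ := Led Lsl_bt (LP (LK LD1_c4 LD2_c48 LD3_c6))
theorem f704885 : Led Lsl_bt (LP (LK LD1_c4 LD2_c48 LD3_c6)) = v13793 :=
  Lrfl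
theorem f653553 : Led Lsl_bf (LP (LK LD1_c3 LD2_c22 LD3_c22)) = v6473 :=
  Lgr Lrot24 (Lpr_bt (f653552 IH) (Lpn v6473))
theorem f704888 : Led Lsl_ff v6473 = v13793 :=
  Lgr Lrot25 (Lpe (f653553 IH) (Lpr_ft (K49.f507325 IH) (Lpr_bt (f704885 IH) (Lpn v13793))))
def v17314 : LQ := Led Lsl_gf (LP (LK LD1_c6 LD2_c17 LD3_c39))
theorem f758637 : Led Lsl_gf (LP (LK LD1_c6 LD2_c17 LD3_c39)) = v17314 :=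
  Lrfl
def v17313 : LQ := Led Lsl_gt (LP (LK LD1_c6 LD2_c17 LD3_c39))
theorem f758630 : Led Lsl_gt (LP (LK LD1_c6 LD2_c17 LD3_c39)) = v17313 :=
  Lrfl
theorem f84007 : Led Lsl_et (LP (LK LD1_c3 LD2_c6 LD3_c1)) = (LP (LK LD1_c6 LD2_c17 LD3_c39)) :=
  Lre_e IH (LK LD1_c3 LD2_c6 LD3_c1) (LK LD1_c6 LD2_c17 LD3_c39) Lrfl Lrfl
theorem f102146 : Led Lsl_dt (LP (LK LD1_c9 LD2_c22 LD3_c52)) = (LP (LK LD1_c4 LD2_c45 LD3_c3)) :=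
  Lre_d IH (LK LD1_c9 LD2_c22 LD3_c52) (LK LD1_c4 LD2_c45 LD3_c3) Lrfl Lrfl
theorem f758631 : Led Lsl_et (LP (LK LD1_c9 LD2_c22 LD3_c52)) = v17313 :=
  Lgr Lrot122 (Lpr_dt (f102146 IH) (Lpr_gt (K57.f102122 IH) (Lpe (K4.f102114 IH) (Lpr_et (K58.f102139 IH) (Lpe (K3.f99115 IH) (Lpr_dt (K5.f58023 IH) (Lpr_gt (K4.f25712 IH) (Lpe (K11.f84010 IH) (Lpr_et (f84007 IH) (Lpr_gt (f758630 IH) (Lpn v17313)))))))))))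
theorem f758633 : Led Lsl_ef (LP (LK LD1_c9 LD2_c22 LD3_c52)) = v17313 :=
  Lgr Lrot88 (Lpr_et (f758631 IH) (Lpn v17313))
def v13596 : LQ := Led Lsl_ft (LP (LK LD1_c4 LD2_c45 LD3_c51))
theorem f703829 : Led Lsl_ft (LP (LK LD1_c4 LD2_c45 LD3_c51)) = v13596 :=
  Lrfl
theorem f703832 : Led Lsl_ff (LP (LK LD1_c4 LD2_c45 LD3_c51)) = v13596 :=
  Lgr Lrot3 (Lpr_ft (f703829 IH) (Lpn v13596))
theorem f703835 : Led Lsl_dt K57.v4412 = v13596 :=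
  Lgr Lrot60 (Lpe (K57.f633242 IH) (Lpe (K58.f78237 IH) (Lpr_ff (f703832 IH) (Lpn v13596))))
theorem f113668 : Led Lsl_dt (LP (LK LD1_c4 LD2_c45 LD3_c3)) = (LP (LK LD1_c9 LD2_c22 LD3_c52)) :=
  Lre_d IH (LK LD1_c4 LD2_c45 LD3_c3) (LK LD1_c9 LD2_c22 LD3_c52) Lrfl Lrfl
theorem f758508 : v13596 = (LP (LK LD1_c9 LD2_c22 LD3_c52)) :=
  Lefun (Lecon (f703835 IH) (K57.f758499 IH)) (f113668 IH)
def v13593 : LQ := Led Lsl_at (LP (LK LD1_c4 LD2_c45 LD3_c51))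
theorem f703804 : Led Lsl_at (LP (LK LD1_c4 LD2_c45 LD3_c51)) = v13593 :=
  Lrfl
theorem f703805 : Led Lsl_af (LP (LK LD1_c4 LD2_c45 LD3_c51)) = v13593 :=
  Lgr Lrot0 (Lpr_at (f703804 IH) (Lpn v13593))
theorem f703806 : Led Lsl_df K57.v4410 = v13593 :=
  Lgr Lrot18 (Lpe (K57.f633233 IH) (Lpr_dt (K58.f78494 IH) (Lpr_at (f703804 IH) (Lpn v13593))))
theorem f441208 : Led Lsl_dt (LP (LK LD1_c2 LD2_c20 LD3_c59)) = (LP (LK LD1_c4 LD2_c45 LD3_c54)) :=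
  Lre_d IH (LK LD1_c2 LD2_c20 LD3_c59) (LK LD1_c4 LD2_c45 LD3_c54) Lrfl Lrfl
theorem f703808 : Led Lsl_ft (LP (LK LD1_c4 LD2_c45 LD3_c54)) = v13593 :=
  Lgr Lrot54 (Lpe (f441208 IH) (Lpr_ff (K57.f633237 IH) (Lpr_df (f703806 IH) (Lpn v13593))))
theorem f703830 : Led Lsl_af (LP (LK LD1_c4 LD2_c45 LD3_c54)) = v13596 :=
  Lgr Lrot45 (Lpr_ft (f703808 IH) (Lpe (f703805 IH) (Lpr_ft (f703829 IH) (Lpn v13596))))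
theorem f78240 : Led Lsl_et (LP (LK LD1_c4 LD2_c45 LD3_c54)) = (LP (LK LD1_c9 LD2_c24 LD3_c20)) :=
  Lre_e IH (LK LD1_c4 LD2_c45 LD3_c54) (LK LD1_c9 LD2_c24 LD3_c20) Lrfl Lrfl
theorem f758634 : Led Lsl_at (LP (LK LD1_c9 LD2_c24 LD3_c20)) = v17313 :=
  Lgr Lrot80 (Lpe (f78240 IH) (Lpr_af (f703830 IH) (Lpqs (f758508 IH) (Lpr_ef (f758633 IH) (Lpn v17313)))))
theorem f758639 : Led Lsl_ff (LP (LK LD1_c9 LD2_c24 LD3_c20)) = v17314 :=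
  Lgr Lrot52 (Lpr_at (f758634 IH) (Lpe (f758630 IH) (Lpr_gf (f758637 IH) (Lpn v17314))))
theorem f758647 : Led Lsl_ft (LP (LK LD1_c9 LD2_c24 LD3_c20)) = v17314 :=
  Lgr Lrot48 (Lpr_ff (f758639 IH) (Lpn v17314))
def v4462 : LQ := Led Lsl_bt (LP (LK LD1_c2 LD2_c21 LD3_c56))
theorem f633521 : Led Lsl_bt (LP (LK LD1_c2 LD2_c21 LD3_c56)) = v4462 :=
  Lrfl
theorem f633522 : Led Lsl_bf (LP (LK LD1_c2 LD2_c21 LD3_c56)) = v4462 :=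
  Lgr Lrot24 (Lpr_bt (f633521 IH) (Lpn v4462))
theorem f704887 : Led Lsl_ef v4462 = v13793 :=
  Lgr Lrot29 (Lpe (f633522 IH) (Lpr_et (K32.f113288 IH) (Lpr_bt (f704885 IH) (Lpn v13793))))
theorem f704890 : Led Lsl_et v4462 = v13793 :=
  Lgr Lrot87 (Lpr_ef (f704887 IH) (Lpn v13793))
theorem f24644 : Led Lsl_bt (LP (LK LD1_c3 LD2_c19 LD3_c24)) = (LP (LK LD1_c1 LD2_c36 LD3_c7)) :=
  Lre_b IH (LK LD1_c3 LD2_c19 LD3_c24) (LK LD1_c1 LD2_c36 LD3_c7) Lrfl Lrfl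
theorem f633524 : Led Lsl_ff (LP (LK LD1_c3 LD2_c19 LD3_c24)) = v4462 :=
  Lgr Lrot25 (Lpr_bt (f24644 IH) (Lpr_ft (K49.f507355 IH) (Lpr_bt (f633521 IH) (Lpn v4462))))
theorem f494897 : Led Lsl_dt (LP (LK LD1_c3 LD2_c19 LD3_c24)) = (LP (LK LD1_c1 LD2_c36 LD3_c6)) :=
  Lre_d IH (LK LD1_c3 LD2_c19 LD3_c24) (LK LD1_c1 LD2_c36 LD3_c6) Lrfl Lrfl
theorem f633525 : Led Lsl_dt K58.v1359 = v4462 :=
  Lgr Lrot60 (Lpr_ff (K58.f507813 IH) (Lpe (f494897 IH) (Lpr_ff (f633524 IH) (Lpn v4462))))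
theorem f770457 : v4462 = (LP (LK LD1_c4 LD2_c45 LD3_c54)) :=
  Lefun (Lecon (f633525 IH) (K58.f770435 IH)) (f441208 IH)
theorem f770501 : v13793 = (LP (LK LD1_c9 LD2_c24 LD3_c20)) :=
  Lefun (Lecon (f704890 IH) (f770457 IH)) (f78240 IH)
theorem f770534 : v6473 = v17314 :=
  Lefun (Lecon (Lfl_ff (f704888 IH)) (f770501 IH)) (f758647 IH)
theorem f83955 : Led Lsl_bt (LP (LK LD1_c3 LD2_c6 LD3_c1)) = (LP (LK LD1_c3 LD2_c27 LD3_c52)) :=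
  Lgr Lrot95 (Lpe (K5.f25713 IH) (Lpr_bf (K4.f83941 IH) (Lpe (K7.f19174 IH) (Lpn (LP (LK LD1_c3 LD2_c27 LD3_c52))))))
theorem f83963 : Led Lsl_et (LP (LK LD1_c6 LD2_c17 LD3_c39)) = (LP (LK LD1_c3 LD2_c6 LD3_c1)) :=
  Lre_e IH (LK LD1_c6 LD2_c17 LD3_c39) (LK LD1_c3 LD2_c6 LD3_c1) Lrfl Lrfl
theorem f83952 : Led Lsl_et (LP (LK LD1_c3 LD2_c27 LD3_c52)) = (LP (LK LD1_c6 LD2_c57 LD3_c58)) :=
  Lre_e IH (LK LD1_c3 LD2_c27 LD3_c52) (LK LD1_c6 LD2_c57 LD3_c58) Lrfl Lrfl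
theorem f83964 : Led Lsl_bf (LP (LK LD1_c6 LD2_c17 LD3_c39)) = (LP (LK LD1_c6 LD2_c57 LD3_c58)) :=
  Lgr Lrot96 (Lpr_et (f83963 IH) (Lpr_bt (f83955 IH) (Lpr_et (f83952 IH) (Lpn (LP (LK LD1_c6 LD2_c57 LD3_c58))))))
theorem f83976 : Led Lsl_ct (LP (LK LD1_c6 LD2_c57 LD3_c58)) = (LP (LK LD1_c13 LD2_c13 LD3_c31)) :=
  Lre_c IH (LK LD1_c6 LD2_c57 LD3_c58) (LK LD1_c13 LD2_c13 LD3_c31) Lrfl Lrfl
theorem f775455 : Led Lsl_gf (LP (LK LD1_c12 LD2_c17 LD3_c39)) = (LP (LK LD1_c13 LD2_c13 LD3_c31)) :=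
  Lgr Lrot126 (Lpe (f436000 IH) (Lpr_bt (f435999 IH) (Lpr_gt (f632764 IH) (Lpr_ct (f702708 IH) (Lpe (f702704 IH) (Lpe (K57.f503699 IH) (Lpr_bt (f653552 IH) (Lpqs (f770534 IH) (Lpe (f758637 IH) (Lpr_bf (f83964 IH) (Lpr_ct (f83976 IH) (Lpn (LP (LK LD1_c13 LD2_c13 LD3_c31))))))))))))))
theorem f775456 : Led Lsl_gt (LP (LK LD1_c13 LD2_c13 LD3_c31)) = (LP (LK LD1_c12 LD2_c17 LD3_c39)) :=
  Leop (Lpr_gf (f775455 IH) (Lpn (LP (LK LD1_c13 LD2_c13 LD3_c31))))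
theorem seed_1389 : LEOK LG_g (LK LD1_c13 LD2_c13 LD3_c31) :=
  Leoe_g (LK LD1_c13 LD2_c13 LD3_c31) (f775456 IH)
def v13272 : LQ := Led Lsl_et (LP (LK LD1_c4 LD2_c42 LD3_c8))
theorem f702054 : Led Lsl_et (LP (LK LD1_c4 LD2_c42 LD3_c8)) = v13272 :=
  Lrfl
theorem f702056 : Led Lsl_ef (LP (LK LD1_c4 LD2_c42 LD3_c8)) = v13272 :=
  Lgr Lrot88 (Lpr_et (f702054 IH) (Lpn v13272))
theorem f702057 : Led Lsl_bt K46.v4291 = v13272 :=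
  Lgr Lrot119 (Lpe (K46.f632440 IH) (Lpe (K46.f82838 IH) (Lpr_ef (f702056 IH) (Lpn v13272))))
theorem f702058 : Led Lsl_ff (LP (LK LD1_c6 LD2_c28 LD3_c5)) = v13272 :=
  Lgr Lrot25 (Lpr_bt (K58.f153802 IH) (Lpr_ft (K46.f632446 IH) (Lpr_bt (f702057 IH) (Lpn v13272))))
def v18282 : LQ := Led Lsl_at (LP (LK LD1_c6 LD2_c28 LD3_c5))
theorem f766082 : Led Lsl_at (LP (LK LD1_c6 LD2_c28 LD3_c5)) = v18282 :=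
  Lrfl
theorem f500133 : Led Lsl_dt (LP (LK LD1_c4 LD2_c42 LD3_c8)) = (LP (LK LD1_c2 LD2_c18 LD3_c22)) :=
  Lre_d IH (LK LD1_c4 LD2_c42 LD3_c8) (LK LD1_c2 LD2_c18 LD3_c22) Lrfl Lrfl
theorem f67280 : Led Lsl_ef (LP (LK LD1_c6 LD2_c22 LD3_c11)) = (LP (LK LD1_c6 LD2_c26 LD3_c46)) :=
  Lgr Lrot88 (Lpr_et (K58.f67272 IH) (Lpn (LP (LK LD1_c6 LD2_c26 LD3_c46))))
theorem f623801 : Led Lsl_dt (LP (LK LD1_c9 LD2_c20 LD3_c10)) = (LP (LK LD1_c4 LD2_c43 LD3_c25)) :=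
  Lre_d IH (LK LD1_c9 LD2_c20 LD3_c10) (LK LD1_c4 LD2_c43 LD3_c25) Lrfl Lrfl
theorem f113909 : Led Lsl_ft (LP (LK LD1_c3 LD2_c6 LD3_c35)) = (LP (LK LD1_c3 LD2_c6 LD3_c18)) :=
  Lgr Lrot54 (Lpe (K7.f25070 IH) (Lpr_ff (K4.f113903 IH) (Lpe (K4.f77861 IH) (Lpn (LP (LK LD1_c3 LD2_c6 LD3_c18))))))
theorem f86330 : Led Lsl_et (LP (LK LD1_c6 LD2_c18 LD3_c42)) = (LP (LK LD1_c3 LD2_c6 LD3_c35)) :=
  Lre_e IH (LK LD1_c6 LD2_c18 LD3_c42) (LK LD1_c3 LD2_c6 LD3_c35) Lrfl Lrfl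
theorem f430639 : Led Lsl_ft (LP (LK LD1_c12 LD2_c13 LD3_c16)) = (LP (LK LD1_c6 LD2_c18 LD3_c42)) :=
  Lre_f IH (LK LD1_c12 LD2_c13 LD3_c16) (LK LD1_c6 LD2_c18 LD3_c42) Lrfl Lrfl
theorem f758889 : Led Lsl_ef (LP (LK LD1_c12 LD2_c13 LD3_c16)) = K58.v17351 :=
  Lgr Lrot21 (Lpr_ft (f430639 IH) (Lpr_et (f86330 IH) (Lpr_ft (f113909 IH) (Lpr_et (K4.f77932 IH) (Lpr_ft (K58.f758887 IH) (Lpn K58.v17351))))))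
def v17814 : LQ := Led Lsl_gt (LP (LK LD1_c6 LD2_c22 LD3_c34))
theorem f762278 : Led Lsl_gt (LP (LK LD1_c6 LD2_c22 LD3_c34)) = v17814 :=
  Lrfl
theorem f430558 : Led Lsl_ft (LP (LK LD1_c6 LD2_c22 LD3_c34)) = (LP (LK LD1_c12 LD2_c18 LD3_c38)) :=
  Lre_f IH (LK LD1_c6 LD2_c22 LD3_c34) (LK LD1_c12 LD2_c18 LD3_c38) Lrfl Lrfl
theorem f155325 : Led Lsl_dt (LP (LK LD1_c12 LD2_c18 LD3_c35)) = (LP (LK LD1_c6 LD2_c22 LD3_c33)) :=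
  Lre_d IH (LK LD1_c12 LD2_c18 LD3_c35) (LK LD1_c6 LD2_c22 LD3_c33) Lrfl Lrfl
theorem f155420 : Led Lsl_cf (LP (LK LD1_c6 LD2_c22 LD3_c35)) = (LP (LK LD1_c6 LD2_c18 LD3_c2)) :=
  Lgr Lrot11 (Lpr_ct (K7.f155418 IH) (Lpn (LP (LK LD1_c6 LD2_c18 LD3_c2))))
theorem f113901 : Led Lsl_ff (LP (LK LD1_c3 LD2_c6 LD3_c35)) = (LP (LK LD1_c3 LD2_c6 LD3_c18)) :=
  Lgr Lrot19 (Lpr_dt (K11.f78176 IH) (Lpr_ft (K4.f113895 IH) (Lpr_dt (K5.f77799 IH) (Lpn (LP (LK LD1_c3 LD2_c6 LD3_c18))))))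
theorem f430618 : Led Lsl_af (LP (LK LD1_c3 LD2_c8 LD3_c60)) = (LP (LK LD1_c3 LD2_c6 LD3_c35)) :=
  Lgr Lrot109 (Lpe (K46.f155324 IH) (Lpe (f155325 IH) (Lpr_cf (K46.f430608 IH) (Lpe (K7.f135347 IH) (Lpr_cf (f155420 IH) (Lpe (K7.f77817 IH) (Lpe (K2.f77858 IH) (Lpe (K4.f77861 IH) (Lpe (f113901 IH) (Lpn (LP (LK LD1_c3 LD2_c6 LD3_c35))))))))))))
theorem f430624 : Led Lsl_at (LP (LK LD1_c6 LD2_c22 LD3_c34)) = (LP (LK LD1_c6 LD2_c18 LD3_c42)) :=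
  Lgr Lrot80 (Lpe (K11.f155434 IH) (Lpr_af (f430618 IH) (Lpe (f86330 IH) (Lpn (LP (LK LD1_c6 LD2_c18 LD3_c42))))))
theorem f430631 : Led Lsl_ft (LP (LK LD1_c6 LD2_c18 LD3_c42)) = (LP (LK LD1_c12 LD2_c13 LD3_c16)) :=
  Lre_f IH (LK LD1_c6 LD2_c18 LD3_c42) (LK LD1_c12 LD2_c13 LD3_c16) Lrfl Lrfl
theorem f430632 : Led Lsl_af (LP (LK LD1_c12 LD2_c18 LD3_c38)) = (LP (LK LD1_c12 LD2_c13 LD3_c16)) :=
  Lgr Lrot45 (Lpr_ft (K58.f430551 IH) (Lpr_at (f430624 IH) (Lpr_ft (f430631 IH) (Lpn (LP (LK LD1_c12 LD2_c13 LD3_c16))))))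
theorem f430635 : Led Lsl_at (LP (LK LD1_c12 LD2_c18 LD3_c38)) = (LP (LK LD1_c12 LD2_c13 LD3_c16)) :=
  Lgr Lrot100 (Lpr_af (f430632 IH) (Lpn (LP (LK LD1_c12 LD2_c13 LD3_c16))))
theorem f762279 : Led Lsl_gf (LP (LK LD1_c12 LD2_c13 LD3_c16)) = v17814 :=
  Lgr Lrot76 (Lpe (f430635 IH) (Lpe (f430558 IH) (Lpr_gt (f762278 IH) (Lpn v17814))))
theorem f775478 : v13272 = v17814 :=
  (Llr Lrot185 (Lpe (f702054 IH) (Lpr_dt (f500133 IH) (Lpe (K57.f494708 IH) (Lpr_df (f702017 IH) (Lpq (f770151 IH) (Lpe (f765978 IH) (Lpq (f770072 IH) (Lpr_ef (f67280 IH) (Lpr_dt (K58.f67278 IH) (Lpr_gf (K58.f623799 IH) (Lpe (f623801 IH) (Lpq (K58.f769804 IH) (Lpe (f758889 IH) (Lpr_gf (f762279 IH) (Lpn v17814)))))))))))))))).symm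
theorem f430626 : Led Lsl_af (LP (LK LD1_c6 LD2_c22 LD3_c34)) = (LP (LK LD1_c6 LD2_c18 LD3_c42)) :=
  Lgr Lrot0 (Lpr_at (f430624 IH) (Lpn (LP (LK LD1_c6 LD2_c18 LD3_c42))))
theorem f430561 : Led Lsl_gt (LP (LK LD1_c12 LD2_c18 LD3_c37)) = (LP (LK LD1_c6 LD2_c22 LD3_c34)) :=
  Lre_g IH (LK LD1_c12 LD2_c18 LD3_c37) (LK LD1_c6 LD2_c22 LD3_c34) Lrfl Lrfl
theorem f430645 : Led Lsl_gf (LP (LK LD1_c12 LD2_c18 LD3_c37)) = (LP (LK LD1_c12 LD2_c13 LD3_c16)) :=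
  Lgr Lrot47 (Lpr_gt (f430561 IH) (Lpr_af (f430626 IH) (Lpe (f430639 IH) (Lpn (LP (LK LD1_c12 LD2_c13 LD3_c16))))))
theorem f775479 : v18282 = (LP (LK LD1_c12 LD2_c18 LD3_c37)) :=
  (Llr Lrot26 (Lpe (f766082 IH) (Lpr_ff (f702058 IH) (Lpqs (f775478 IH) (Lpe (f762279 IH) (Lpe (f430645 IH) (Lpn (LP (LK LD1_c12 LD2_c18 LD3_c37))))))))).symm
theorem f766083 : Led Lsl_af (LP (LK LD1_c6 LD2_c28 LD3_c5)) = v18282 :=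
  Lgr Lrot0 (Lpr_at (f766082 IH) (Lpn v18282))
theorem f775480 : Led Lsl_at (LP (LK LD1_c12 LD2_c18 LD3_c37)) = (LP (LK LD1_c6 LD2_c28 LD3_c5)) :=
  Leop (Lpr_af (f766083 IH) (Lpqs (f775479 IH) (Lpn (LP (LK LD1_c12 LD2_c18 LD3_c37)))))
theorem seed_1390 : LEOK LG_a (LK LD1_c12 LD2_c18 LD3_c37) :=
  Leoe_a (LK LD1_c12 LD2_c18 LD3_c37) (f775480 IH)
theorem f633310 : Led Lsl_ft (LP (LK LD1_c9 LD2_c27 LD3_c11)) = (LP (LK LD1_c4 LD2_c47 LD3_c6)) :=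
  Lre_f IH (LK LD1_c9 LD2_c27 LD3_c11) (LK LD1_c4 LD2_c47 LD3_c6) Lrfl Lrfl
theorem f674612 : Led Lsl_ct (LP (LK LD1_c4 LD2_c47 LD3_c6)) = (LP (LK LD1_c9 LD2_c27 LD3_c7)) :=
  Lre_c IH (LK LD1_c4 LD2_c47 LD3_c6) (LK LD1_c9 LD2_c27 LD3_c7) Lrfl Lrfl
def v18464 : LQ := Led Lsl_bt (LP (LK LD1_c6 LD2_c29 LD3_c57))
theorem f767095 : Led Lsl_bt (LP (LK LD1_c6 LD2_c29 LD3_c57)) = v18464 :=
  Lrfl
theorem f767096 : Led Lsl_bf (LP (LK LD1_c6 LD2_c29 LD3_c57)) = v18464 :=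
  Lgr Lrot24 (Lpr_bt (f767095 IH) (Lpn v18464))
theorem f770106 : Led Lsl_ff v18464 = K58.v17712 :=
  Lgr Lrot25 (Lpe (f767096 IH) (Lpqs (K58.f770094 IH) (Lpe (K58.f761841 IH) (Lpr_bt (K58.f761833 IH) (Lpn K58.v17712)))))
theorem f775490 : Led Lsl_cf (LP (LK LD1_c9 LD2_c27 LD3_c11)) = v18464 :=
  Lgr Lrot108 (Lpr_ft (f633310 IH) (Lpr_ct (f674612 IH) (Lpq (K58.f770109 IH) (Lpe (f770106 IH) (Lpn v18464)))))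
theorem f140762 : Led Lsl_bt (LP (LK LD1_c1 LD2_c32 LD3_c59)) = (LP (LK LD1_c3 LD2_c12 LD3_c59)) :=
  Lre_b IH (LK LD1_c1 LD2_c32 LD3_c59) (LK LD1_c3 LD2_c12 LD3_c59) Lrfl Lrfl
theorem f24667 : Led Lsl_ct (LP (LK LD1_c3 LD2_c19 LD3_c25)) = (LP (LK LD1_c6 LD2_c42 LD3_c49)) :=
  Lre_c IH (LK LD1_c3 LD2_c19 LD3_c25) (LK LD1_c6 LD2_c42 LD3_c49) Lrfl Lrfl
theorem f775492 : Led Lsl_gt (LP (LK LD1_c9 LD2_c27 LD3_c11)) = (LP (LK LD1_c6 LD2_c42 LD3_c49)) :=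
  Lgr Lrot65 (Lpr_cf (f775490 IH) (Lpe (f767096 IH) (Lpe (K58.f79819 IH) (Lpe (f140762 IH) (Lpr_ct (K32.f13576 IH) (Lpe (K35.f414556 IH) (Lpe (K35.f22524 IH) (Lpe (K32.f446233 IH) (Lpe (K58.f24666 IH) (Lpr_ct (f24667 IH) (Lpn (LP (LK LD1_c6 LD2_c42 LD3_c49)))))))))))))
theorem f775493 : Led Lsl_gt (LP (LK LD1_c9 LD2_c27 LD3_c11)) = (LP (LK LD1_c6 LD2_c42 LD3_c49)) :=
  Leop (Lpe (f775492 IH) (Lpn (LP (LK LD1_c9 LD2_c27 LD3_c11))))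
theorem seed_1391 : LEOK LG_g (LK LD1_c9 LD2_c27 LD3_c11) :=
  Leoe_g (LK LD1_c9 LD2_c27 LD3_c11) (f775493 IH)
theorem f649931 : Led Lsl_af (LP (LK LD1_c3 LD2_c14 LD3_c25)) = K58.v5881 :=
  Lgr Lrot0 (Lpr_at (K58.f649930 IH) (Lpn K58.v5881))
theorem f768253 : Led Lsl_cf K58.v5881 = v18735 :=
  Lgr Lrot1 (Lpe (f649931 IH) (Lpr_ct (K57.f446157 IH) (Lpr_at (f768251 IH) (Lpn v18735))))
theorem f768254 : Led Lsl_ct K58.v5881 = v18735 :=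
  Lgr Lrot59 (Lpr_cf (f768253 IH) (Lpn v18735))
theorem f775494 : Led Lsl_gf (LP (LK LD1_c9 LD2_c27 LD3_c11)) = v18735 :=
  Lgr Lrot129 (Lpr_cf (f775490 IH) (Lpe (f767096 IH) (Lpr_gt (f647898 IH) (Lpe (K46.f647890 IH) (Lpr_ct (f767204 IH) (Lpe (f773979 IH) (Lpr_cf (f703672 IH) (Lpe (f703671 IH) (Lpr_gt (K57.f674042 IH) (Lpq (K58.f758522 IH) (Lpqs (K58.f770429 IH) (Lpr_ct (f768254 IH) (Lpn v18735)))))))))))))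
theorem f652293 : Led Lsl_ff K58.v5881 = v6251 :=
  Lgr Lrot30 (Lpe (f649931 IH) (Lpe (K58.f507226 IH) (Lpr_at (f652289 IH) (Lpn v6251))))
theorem f652295 : Led Lsl_ft K58.v5881 = v6251 :=
  Lgr Lrot48 (Lpr_ff (f652293 IH) (Lpn v6251))
theorem f652290 : Led Lsl_af (LP (LK LD1_c3 LD2_c19 LD3_c25)) = v6251 :=
  Lgr Lrot0 (Lpr_at (f652289 IH) (Lpn v6251))
def v6250 : LQ := Led Lsl_gf (LP (LK LD1_c3 LD2_c19 LD3_c25))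
theorem f652288 : Led Lsl_gf (LP (LK LD1_c3 LD2_c19 LD3_c25)) = v6250 :=
  Lrfl
theorem f652297 : Led Lsl_gt K58.v5881 = v6250 :=
  Lgr Lrot5 (Lpr_ft (f652295 IH) (Lpe (f652290 IH) (Lpr_gf (f652288 IH) (Lpn v6250))))
theorem f770439 : K57.v4446 = v6250 :=
  Lefun (Lecon (Lfl_gf (K57.f668797 IH)) ((K58.f758522 IH).symm.trans (K58.f770429 IH))) (f652297 IH)
theorem f775496 : Led Lsl_dt (LP (LK LD1_c9 LD2_c27 LD3_c11)) = (LP (LK LD1_c12 LD2_c32 LD3_c34)) :=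
  Lgr Lrot57 (Lpr_gf (f775494 IH) (Lpe (f768254 IH) (Lpr_gt (f652297 IH) (Lpq (f770439 IH) (Lpe (K57.f633428 IH) (Lpr_gt (K57.f633409 IH) (Lpqs (K58.f770421 IH) (Lpr_dt (K58.f442949 IH) (Lpe (K58.f151945 IH) (Lpe (f151946 IH) (Lpe (f151947 IH) (Lpn (LP (LK LD1_c12 LD2_c32 LD3_c34))))))))))))))
theorem f633223 : Led Lsl_ct (LP (LK LD1_c4 LD2_c45 LD3_c27)) = (LP (LK LD1_c9 LD2_c23 LD3_c41)) :=
  Lre_c IH (LK LD1_c4 LD2_c45 LD3_c27) (LK LD1_c9 LD2_c23 LD3_c41) Lrfl Lrfl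
theorem f668917 : Led Lsl_dt (LP (LK LD1_c17 LD2_c20 LD3_c36)) = (LP (LK LD1_c9 LD2_c23 LD3_c41)) :=
  Lre_d IH (LK LD1_c17 LD2_c20 LD3_c36) (LK LD1_c9 LD2_c23 LD3_c41) Lrfl Lrfl
theorem f442955 : Led Lsl_ct (LP (LK LD1_c6 LD2_c32 LD3_c30)) = (LP (LK LD1_c12 LD2_c32 LD3_c35)) :=
  Lre_c IH (LK LD1_c6 LD2_c32 LD3_c30) (LK LD1_c12 LD2_c32 LD3_c35) Lrfl Lrfl
theorem f442991 : Led Lsl_gt (LP (LK LD1_c12 LD2_c32 LD3_c35)) = (LP (LK LD1_c21 LD2_c38 LD3_c35)) :=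
  Lre_g IH (LK LD1_c12 LD2_c32 LD3_c35) (LK LD1_c21 LD2_c38 LD3_c35) Lrfl Lrfl
theorem f775506 : Led Lsl_cf (LP (LK LD1_c17 LD2_c20 LD3_c36)) = (LP (LK LD1_c21 LD2_c38 LD3_c35)) :=
  Lgr Lrot175 (Lpr_dt (f668917 IH) (Lpe (f633223 IH) (Lpqs (f770440 IH) (Lpe (f652286 IH) (Lpe (K57.f435632 IH) (Lpe (f775492 IH) (Lpr_dt (f775496 IH) (Lpr_gt (f151947 IH) (Lpr_ct (f442955 IH) (Lpr_gt (f442991 IH) (Lpn (LP (LK LD1_c21 LD2_c38 LD3_c35)))))))))))))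
theorem f633410 : Led Lsl_ct (LP (LK LD1_c2 LD2_c21 LD3_c33)) = (LP (LK LD1_c4 LD2_c47 LD3_c22)) :=
  Lre_c IH (LK LD1_c2 LD2_c21 LD3_c33) (LK LD1_c4 LD2_c47 LD3_c22) Lrfl Lrfl
theorem f633372 : Led Lsl_dt (LP (LK LD1_c4 LD2_c47 LD3_c22)) = (LP (LK LD1_c9 LD2_c27 LD3_c48)) :=
  Lre_d IH (LK LD1_c4 LD2_c47 LD3_c22) (LK LD1_c9 LD2_c27 LD3_c48) Lrfl Lrfl
theorem f633429 : Led Lsl_ct (LP (LK LD1_c9 LD2_c27 LD3_c48)) = (LP (LK LD1_c17 LD2_c27 LD3_c8)) :=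
  Lre_c IH (LK LD1_c9 LD2_c27 LD3_c48) (LK LD1_c17 LD2_c27 LD3_c8) Lrfl Lrfl
theorem f775515 : Led Lsl_dt (LP (LK LD1_c17 LD2_c27 LD3_c8)) = (LP (LK LD1_c21 LD2_c38 LD3_c35)) :=
  Lgr Lrot140 (Lpe (f633429 IH) (Lpe (f633372 IH) (Lpe (f633410 IH) (Lpr_df (K57.f633428 IH) (Lpq (K57.f668879 IH) (Lpe (K57.f633431 IH) (Lpr_at (K49.f633418 IH) (Lpqs (K49.f674029 IH) (Lpe (f633216 IH) (Lpe (f668917 IH) (Lpr_cf (f775506 IH) (Lpn (LP (LK LD1_c21 LD2_c38 LD3_c35))))))))))))))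
theorem f775516 : Led Lsl_dt (LP (LK LD1_c17 LD2_c27 LD3_c8)) = (LP (LK LD1_c21 LD2_c38 LD3_c35)) :=
  Leop (Lpe (f775515 IH) (Lpn (LP (LK LD1_c17 LD2_c27 LD3_c8))))
theorem seed_1392 : LEOK LG_d (LK LD1_c17 LD2_c27 LD3_c8) :=
  Leoe_d (LK LD1_c17 LD2_c27 LD3_c8) (f775516 IH)
theorem f633314 : Led Lsl_ft (LP (LK LD1_c4 LD2_c47 LD3_c6)) = (LP (LK LD1_c9 LD2_c27 LD3_c11)) :=
  Lre_f IH (LK LD1_c4 LD2_c47 LD3_c6) (LK LD1_c9 LD2_c27 LD3_c11) Lrfl Lrfl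
theorem f674610 : Led Lsl_dt (LP (LK LD1_c9 LD2_c27 LD3_c10)) = (LP (LK LD1_c4 LD2_c47 LD3_c6)) :=
  Lre_d IH (LK LD1_c9 LD2_c27 LD3_c10) (LK LD1_c4 LD2_c47 LD3_c6) Lrfl Lrfl
theorem f775504 : Led Lsl_ff (LP (LK LD1_c9 LD2_c27 LD3_c10)) = (LP (LK LD1_c12 LD2_c32 LD3_c34)) :=
  Lgr Lrot19 (Lpr_dt (f674610 IH) (Lpr_ft (f633314 IH) (Lpr_dt (f775496 IH) (Lpn (LP (LK LD1_c12 LD2_c32 LD3_c34))))))
theorem f775551 : Led Lsl_at (LP (LK LD1_c9 LD2_c27 LD3_c10)) = (LP (LK LD1_c12 LD2_c32 LD3_c33)) :=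
  Lgr Lrot26 (Lpr_ff (f775504 IH) (Lpr_gt (f151947 IH) (Lpr_gt (f442963 IH) (Lpn (LP (LK LD1_c12 LD2_c32 LD3_c33))))))
theorem f774373 : Led Lsl_ct (LP (LK LD1_c21 LD2_c38 LD3_c30)) = (LP (LK LD1_c12 LD2_c32 LD3_c33)) :=
  Lre_c IH (LK LD1_c21 LD2_c38 LD3_c30) (LK LD1_c12 LD2_c32 LD3_c33) Lrfl Lrfl
theorem f775501 : Led Lsl_df (LP (LK LD1_c9 LD2_c27 LD3_c11)) = (LP (LK LD1_c12 LD2_c32 LD3_c34)) :=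
  Lgr Lrot38 (Lpr_dt (f775496 IH) (Lpn (LP (LK LD1_c12 LD2_c32 LD3_c34))))
theorem f775491 : Led Lsl_ct (LP (LK LD1_c9 LD2_c27 LD3_c11)) = v18464 :=
  Lgr Lrot59 (Lpr_cf (f775490 IH) (Lpn v18464))
theorem f775498 : Led Lsl_dt v18464 = (LP (LK LD1_c9 LD2_c27 LD3_c7)) :=
  Lgr Lrot27 (Lpe (f775491 IH) (Lpr_gf (f775494 IH) (Lpe (f768254 IH) (Lpr_gf (f652287 IH) (Lpq (f770440 IH) (Lpr_df (K57.f668913 IH) (Lpqs (f770426 IH) (Lpr_gt (f652294 IH) (Lpq (f770436 IH) (Lpr_ct (f103362 IH) (Lpqs (f774000 IH) (Lpe (f704308 IH) (Lpr_ct (f674612 IH) (Lpn (LP (LK LD1_c9 LD2_c27 LD3_c7))))))))))))))))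
theorem f704309 : Led Lsl_ct (LP (LK LD1_c9 LD2_c27 LD3_c10)) = (LP (LK LD1_c17 LD2_c25 LD3_c54)) :=
  Lre_c IH (LK LD1_c9 LD2_c27 LD3_c10) (LK LD1_c17 LD2_c25 LD3_c54) Lrfl Lrfl
theorem f775553 : Led Lsl_df (LP (LK LD1_c21 LD2_c38 LD3_c30)) = (LP (LK LD1_c17 LD2_c25 LD3_c54)) :=
  Lgr Lrot177 (Lpr_ct (f774373 IH) (Lpe (f775551 IH) (Lpr_ff (f775504 IH) (Lpe (f775501 IH) (Lpr_ct (f775491 IH) (Lpr_dt (f775498 IH) (Lpr_ct (f674609 IH) (Lpr_dt (f441955 IH) (Lpr_ct (f704309 IH) (Lpn (LP (LK LD1_c17 LD2_c25 LD3_c54))))))))))))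
theorem f775554 : Led Lsl_dt (LP (LK LD1_c17 LD2_c25 LD3_c54)) = (LP (LK LD1_c21 LD2_c38 LD3_c30)) :=
  Leop (Lpr_df (f775553 IH) (Lpn (LP (LK LD1_c17 LD2_c25 LD3_c54))))
theorem seed_1393 : LEOK LG_d (LK LD1_c17 LD2_c25 LD3_c54) :=
  Leoe_d (LK LD1_c17 LD2_c25 LD3_c54) (f775554 IH)
theorem f76854 : Led Lsl_gt (LP (LK LD1_c6 LD2_c48 LD3_c60)) = (LP (LK LD1_c3 LD2_c22 LD3_c43)) :=
  Lre_g IH (LK LD1_c6 LD2_c48 LD3_c60) (LK LD1_c3 LD2_c22 LD3_c43) Lrfl Lrfl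
theorem f76849 : Led Lsl_ft (LP (LK LD1_c6 LD2_c48 LD3_c60)) = (LP (LK LD1_c3 LD2_c22 LD3_c35)) :=
  Lre_f IH (LK LD1_c6 LD2_c48 LD3_c60) (LK LD1_c3 LD2_c22 LD3_c35) Lrfl Lrfl
theorem f647816 : Led Lsl_ef (LP (LK LD1_c6 LD2_c48 LD3_c60)) = K57.v5470 :=
  Lgr Lrot21 (Lpr_ft (f76849 IH) (Lpr_et (K57.f76723 IH) (Lpe (K2.f77193 IH) (Lpr_et (K58.f77200 IH) (Lpr_ft (K57.f647813 IH) (Lpn K57.v5470))))))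
theorem f761336 : Led Lsl_dt K57.v5470 = K57.v17658 :=
  Lgr Lrot60 (Lpe (K57.f647813 IH) (Lpe (K2.f77190 IH) (Lpr_ff (K58.f761331 IH) (Lpn K57.v17658))))
theorem f761334 : Led Lsl_at (LP (LK LD1_c6 LD2_c21 LD3_c17)) = K57.v17658 :=
  Lgr Lrot66 (Lpe (K2.f77116 IH) (Lpe (K58.f77625 IH) (Lpr_ff (K58.f761331 IH) (Lpn K57.v17658))))
theorem f761344 : Led Lsl_gt (LP (LK LD1_c6 LD2_c21 LD3_c14)) = K57.v17658 :=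
  Lgr Lrot46 (Lpe (K57.f77119 IH) (Lpr_ft (K2.f77116 IH) (Lpr_at (f761334 IH) (Lpn K57.v17658))))
def v17674 : LQ := Led Lsl_dt (LP (LK LD1_c6 LD2_c21 LD3_c14))
theorem f761656 : Led Lsl_dt (LP (LK LD1_c6 LD2_c21 LD3_c14)) = v17674 :=
  Lrfl
theorem f761657 : Led Lsl_df (LP (LK LD1_c6 LD2_c21 LD3_c14)) = v17674 :=
  Lgr Lrot38 (Lpr_dt (f761656 IH) (Lpn v17674))
theorem f82630 : Led Lsl_gt (LP (LK LD1_c4 LD2_c43 LD3_c51)) = (LP (LK LD1_c9 LD2_c20 LD3_c41)) :=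
  Lre_g IH (LK LD1_c4 LD2_c43 LD3_c51) (LK LD1_c9 LD2_c20 LD3_c41) Lrfl Lrfl
theorem f775685 : v17674 = (LP (LK LD1_c9 LD2_c20 LD3_c41)) :=
  (Llr Lrot135 (Lpe (f761657 IH) (Lpr_gt (f761344 IH) (Lpe (f761336 IH) (Lpe (f647816 IH) (Lpr_gt (f76854 IH) (Lpq (K58.f770033 IH) (Lpe (K58.f767113 IH) (Lpr_dt (K58.f767111 IH) (Lpq (K58.f770091 IH) (Lpr_gt (K46.f82635 IH) (Lpr_df (K46.f82586 IH) (Lpr_et (K32.f82622 IH) (Lpr_gt (f82630 IH) (Lpn (LP (LK LD1_c9 LD2_c20 LD3_c41))))))))))))))))).symm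
theorem f775686 : Led Lsl_dt (LP (LK LD1_c9 LD2_c20 LD3_c41)) = (LP (LK LD1_c6 LD2_c21 LD3_c14)) :=
  Leop (Lpr_df (f761657 IH) (Lpqs (f775685 IH) (Lpn (LP (LK LD1_c9 LD2_c20 LD3_c41)))))
theorem seed_1394 : LEOK LG_d (LK LD1_c9 LD2_c20 LD3_c41) :=
  Leoe_d (LK LD1_c9 LD2_c20 LD3_c41) (f775686 IH)
theorem f124666 : Led Lsl_ft (LP (LK LD1_c9 LD2_c25 LD3_c15)) = (LP (LK LD1_c17 LD2_c22 LD3_c35)) :=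
  Lre_f IH (LK LD1_c9 LD2_c25 LD3_c15) (LK LD1_c17 LD2_c22 LD3_c35) Lrfl Lrfl
theorem f767509 : Led Lsl_bt (LP (LK LD1_c17 LD2_c22 LD3_c35)) = v18573 :=
  Lgr Lrot35 (Lpe (f124666 IH) (Lpr_bf (K5.f124659 IH) (Lpr_ff (f767508 IH) (Lpn v18573))))
theorem f701228 : Led Lsl_ct (LP (LK LD1_c17 LD2_c22 LD3_c35)) = (LP (LK LD1_c9 LD2_c25 LD3_c22)) :=
  Lre_c IH (LK LD1_c17 LD2_c22 LD3_c35) (LK LD1_c9 LD2_c25 LD3_c22) Lrfl Lrfl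
theorem f701232 : Led Lsl_gt (LP (LK LD1_c17 LD2_c22 LD3_c29)) = (LP (LK LD1_c9 LD2_c25 LD3_c22)) :=
  Lre_g IH (LK LD1_c17 LD2_c22 LD3_c29) (LK LD1_c9 LD2_c25 LD3_c22) Lrfl Lrfl
theorem f139859 : Led Lsl_ct (LP (LK LD1_c6 LD2_c41 LD3_c60)) = (LP (LK LD1_c3 LD2_c18 LD3_c60)) :=
  Lre_c IH (LK LD1_c6 LD2_c41 LD3_c60) (LK LD1_c3 LD2_c18 LD3_c60) Lrfl Lrfl
theorem f134819 : Led Lsl_ct (LP (LK LD1_c3 LD2_c18 LD3_c58)) = (LP (LK LD1_c1 LD2_c35 LD3_c59)) :=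
  Lre_c IH (LK LD1_c3 LD2_c18 LD3_c58) (LK LD1_c1 LD2_c35 LD3_c59) Lrfl Lrfl
theorem f141151 : Led Lsl_bt (LP (LK LD1_c3 LD2_c18 LD3_c58)) = (LP (LK LD1_c6 LD2_c41 LD3_c53)) :=
  Lre_b IH (LK LD1_c3 LD2_c18 LD3_c58) (LK LD1_c6 LD2_c41 LD3_c53) Lrfl Lrfl
theorem f144648 : Led Lsl_gt (LP (LK LD1_c6 LD2_c41 LD3_c53)) = (LP (LK LD1_c12 LD2_c48 LD3_c58)) :=
  Lre_g IH (LK LD1_c6 LD2_c41 LD3_c53) (LK LD1_c12 LD2_c48 LD3_c58) Lrfl Lrfl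
theorem f614574 : Led Lsl_bt (LP (LK LD1_c21 LD2_c57 LD3_c10)) = (LP (LK LD1_c12 LD2_c48 LD3_c58)) :=
  Lre_b IH (LK LD1_c21 LD2_c57 LD3_c10) (LK LD1_c12 LD2_c48 LD3_c58) Lrfl Lrfl
theorem f775720 : Led Lsl_cf (LP (LK LD1_c17 LD2_c22 LD3_c29)) = (LP (LK LD1_c21 LD2_c57 LD3_c10)) :=
  Lgr Lrot160 (Lpr_gt (f701232 IH) (Lpe (f701228 IH) (Lpr_bt (f767509 IH) (Lpr_gt (f769925 IH) (Lpr_ct (f139859 IH) (Lpr_gt (K46.f24837 IH) (Lpe (f134819 IH) (Lpr_bt (f141151 IH) (Lpr_gt (f144648 IH) (Lpe (f614574 IH) (Lpn (LP (LK LD1_c21 LD2_c57 LD3_c10)))))))))))))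
theorem f775721 : Led Lsl_ct (LP (LK LD1_c21 LD2_c57 LD3_c10)) = (LP (LK LD1_c17 LD2_c22 LD3_c29)) :=
  Leop (Lpr_cf (f775720 IH) (Lpn (LP (LK LD1_c21 LD2_c57 LD3_c10))))
theorem seed_1395 : LEOK LG_c (LK LD1_c21 LD2_c57 LD3_c10) :=
  Leoe_c (LK LD1_c21 LD2_c57 LD3_c10) (f775721 IH)
theorem f90489 : Led Lsl_et (LP (LK LD1_c6 LD2_c49 LD3_c59)) = (LP (LK LD1_c3 LD2_c23 LD3_c19)) :=
  Lre_e IH (LK LD1_c6 LD2_c49 LD3_c59) (LK LD1_c3 LD2_c23 LD3_c19) Lrfl Lrfl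
theorem f649970 : Led Lsl_cf (LP (LK LD1_c6 LD2_c49 LD3_c59)) = K58.v5895 :=
  Lgr Lrot39 (Lpr_et (f90489 IH) (Lpr_ct (K5.f129898 IH) (Lpr_et (K58.f649967 IH) (Lpn K58.v5895))))
theorem f90346 : Led Lsl_df (LP (LK LD1_c7 LD2_c48 LD3_c46)) = (LP (LK LD1_c6 LD2_c49 LD3_c59)) :=
  Lgr Lrot18 (Lpr_at (K3.f90322 IH) (Lpr_dt (K3.f83899 IH) (Lpr_at (K58.f90312 IH) (Lpn (LP (LK LD1_c6 LD2_c49 LD3_c59))))))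
theorem f652494 : Led Lsl_df K50.v2136 = K46.v6268 :=
  Lgr Lrot78 (Lpe (K50.f509170 IH) (Lpr_dt (K6.f62575 IH) (Lpr_ft (K46.f652492 IH) (Lpn K46.v6268))))
theorem f652495 : Led Lsl_ff (LP (LK LD1_c3 LD2_c19 LD3_c45)) = K46.v6268 :=
  Lgr Lrot3 (Lpr_ft (K46.f652492 IH) (Lpn K46.v6268))
theorem f652502 : Led Lsl_gf (LP (LK LD1_c3 LD2_c19 LD3_c58)) = K46.v6268 :=
  Lgr Lrot47 (Lpr_gt (K51.f57235 IH) (Lpe (K51.f62351 IH) (Lpr_ff (f652495 IH) (Lpn K46.v6268))))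
theorem f453957 : Led Lsl_ct (LP (LK LD1_c3 LD2_c19 LD3_c58)) = (LP (LK LD1_c6 LD2_c43 LD3_c44)) :=
  Lre_c IH (LK LD1_c3 LD2_c19 LD3_c58) (LK LD1_c6 LD2_c43 LD3_c44) Lrfl Lrfl
theorem f652498 : Led Lsl_ct (LP (LK LD1_c12 LD2_c51 LD3_c25)) = (LP (LK LD1_c6 LD2_c43 LD3_c17)) :=
  Lre_c IH (LK LD1_c12 LD2_c51 LD3_c25) (LK LD1_c6 LD2_c43 LD3_c17) Lrfl Lrfl
theorem f438364 : Led Lsl_ct (LP (LK LD1_c3 LD2_c19 LD3_c57)) = (LP (LK LD1_c6 LD2_c43 LD3_c41)) :=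
  Lre_c IH (LK LD1_c3 LD2_c19 LD3_c57) (LK LD1_c6 LD2_c43 LD3_c41) Lrfl Lrfl
theorem f709429 : Led Lsl_af (LP (LK LD1_c12 LD2_c51 LD3_c25)) = (LP (LK LD1_c6 LD2_c43 LD3_c41)) :=
  Lgr Lrot68 (Lpr_ct (f652498 IH) (Lpqs (K58.f709371 IH) (Lpe (K58.f652602 IH) (Lpr_ct (f438364 IH) (Lpn (LP (LK LD1_c6 LD2_c43 LD3_c41)))))))
theorem f709431 : Led Lsl_at (LP (LK LD1_c12 LD2_c51 LD3_c25)) = (LP (LK LD1_c6 LD2_c43 LD3_c41)) :=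
  Lgr Lrot100 (Lpr_af (f709429 IH) (Lpn (LP (LK LD1_c6 LD2_c43 LD3_c41))))
theorem f453958 : Led Lsl_ct (LP (LK LD1_c6 LD2_c43 LD3_c44)) = (LP (LK LD1_c3 LD2_c19 LD3_c58)) :=
  Lre_c IH (LK LD1_c6 LD2_c43 LD3_c44) (LK LD1_c3 LD2_c19 LD3_c58) Lrfl Lrfl
theorem f143999 : Led Lsl_ct (LP (LK LD1_c6 LD2_c43 LD3_c17)) = (LP (LK LD1_c12 LD2_c51 LD3_c25)) :=
  Lre_c IH (LK LD1_c6 LD2_c43 LD3_c17) (LK LD1_c12 LD2_c51 LD3_c25) Lrfl Lrfl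
theorem f709376 : Led Lsl_ff (LP (LK LD1_c6 LD2_c43 LD3_c44)) = (LP (LK LD1_c12 LD2_c51 LD3_c25)) :=
  Lgr Lrot23 (Lpr_ct (f453958 IH) (Lpr_ft (K58.f652604 IH) (Lpq (K58.f709371 IH) (Lpr_ct (f143999 IH) (Lpn (LP (LK LD1_c12 LD2_c51 LD3_c25)))))))
theorem f709384 : Led Lsl_ft (LP (LK LD1_c6 LD2_c43 LD3_c44)) = (LP (LK LD1_c12 LD2_c51 LD3_c25)) :=
  Lgr Lrot48 (Lpr_ff (f709376 IH) (Lpn (LP (LK LD1_c12 LD2_c51 LD3_c25))))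
theorem f652511 : Led Lsl_gt (LP (LK LD1_c12 LD2_c52 LD3_c13)) = (LP (LK LD1_c6 LD2_c43 LD3_c41)) :=
  Lre_g IH (LK LD1_c12 LD2_c52 LD3_c13) (LK LD1_c6 LD2_c43 LD3_c41) Lrfl Lrfl
theorem f709445 : Led Lsl_gt (LP (LK LD1_c6 LD2_c43 LD3_c44)) = (LP (LK LD1_c12 LD2_c52 LD3_c13)) :=
  Lgr Lrot5 (Lpr_ft (f709384 IH) (Lpr_at (f709431 IH) (Lpe (f652511 IH) (Lpn (LP (LK LD1_c12 LD2_c52 LD3_c13))))))
theorem f775741 : Led Lsl_cf (LP (LK LD1_c7 LD2_c48 LD3_c46)) = (LP (LK LD1_c12 LD2_c52 LD3_c13)) :=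
  Lgr Lrot99 (Lpr_df (f90346 IH) (Lpr_cf (f649970 IH) (Lpq (K58.f769568 IH) (Lpe (K58.f652549 IH) (Lpe (K58.f509178 IH) (Lpr_gf (K50.f509173 IH) (Lpr_df (f652494 IH) (Lpe (f652502 IH) (Lpr_ct (f453957 IH) (Lpr_gt (f709445 IH) (Lpn (LP (LK LD1_c12 LD2_c52 LD3_c13)))))))))))))
theorem f775742 : Led Lsl_ct (LP (LK LD1_c12 LD2_c52 LD3_c13)) = (LP (LK LD1_c7 LD2_c48 LD3_c46)) :=
  Leop (Lpr_cf (f775741 IH) (Lpn (LP (LK LD1_c12 LD2_c52 LD3_c13))))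
theorem seed_1396 : LEOK LG_c (LK LD1_c12 LD2_c52 LD3_c13) :=
  Leoe_c (LK LD1_c12 LD2_c52 LD3_c13) (f775742 IH)
def v13026 : LQ := Led Lsl_et (LP (LK LD1_c4 LD2_c37 LD3_c52))
theorem f700241 : Led Lsl_et (LP (LK LD1_c4 LD2_c37 LD3_c52)) = v13026 :=
  Lrfl
theorem f700279 : (LP (LK LD1_c6 LD2_c46 LD3_c49)) = v13026 :=
  Lefun (Lecon (Lfl_ef (K51.f632000 IH)) (K51.f700271 IH).symm) (f700241 IH)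
def v8740 : LQ := Led Lsl_ct K58.v2186
theorem f672142 : Led Lsl_ct K58.v2186 = v8740 :=
  Lrfl
theorem f672144 : Led Lsl_ef (LP (LK LD1_c4 LD2_c48 LD3_c32)) = v8740 :=
  Lgr Lrot28 (Lpr_ct (K58.f417062 IH) (Lpr_et (K58.f509523 IH) (Lpr_ct (f672142 IH) (Lpn v8740))))
def v8746 : LQ := Led Lsl_ct K58.v2188
theorem f672178 : Led Lsl_ct K58.v2188 = v8746 :=
  Lrfl
theorem f672143 : Led Lsl_cf K58.v2186 = v8740 :=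
  Lgr Lrot11 (Lpr_ct (f672142 IH) (Lpn v8740))
theorem f672180 : Led Lsl_ff v8740 = v8746 :=
  Lgr Lrot23 (Lpe (f672143 IH) (Lpr_ft (K58.f509530 IH) (Lpr_ct (f672178 IH) (Lpn v8746))))
theorem f768870 : K46.v6121 = v8746 :=
  Lefun (Lecon (K46.f651362 IH) (K58.f768818 IH)) (f672178 IH)
theorem f768901 : v8740 = (LP (LK LD1_c6 LD2_c40 LD3_c54)) :=
  Lefun (Lecon (Lfl_ff (f672180 IH)) (f768870 IH).symm) (Lfl_ff (K49.f678622 IH))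
theorem f651534 : Led Lsl_bt (LP (LK LD1_c12 LD2_c47 LD3_c18)) = (LP (LK LD1_c6 LD2_c40 LD3_c54)) :=
  Lre_b IH (LK LD1_c12 LD2_c47 LD3_c18) (LK LD1_c6 LD2_c40 LD3_c54) Lrfl Lrfl
theorem f700339 : Led Lsl_bt (LP (LK LD1_c4 LD2_c48 LD3_c32)) = (LP (LK LD1_c9 LD2_c11 LD3_c23)) :=
  Lgr Lrot127 (Lpr_bf (K58.f700337 IH) (Lpn (LP (LK LD1_c9 LD2_c11 LD3_c23))))
theorem f775852 : Led Lsl_ef (LP (LK LD1_c12 LD2_c47 LD3_c18)) = (LP (LK LD1_c9 LD2_c11 LD3_c23)) :=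
  Lgr Lrot29 (Lpr_bt (f651534 IH) (Lpq (f768901 IH) (Lpe (f672144 IH) (Lpr_bt (f700339 IH) (Lpn (LP (LK LD1_c9 LD2_c11 LD3_c23)))))))
theorem f775858 : Led Lsl_et (LP (LK LD1_c12 LD2_c47 LD3_c18)) = (LP (LK LD1_c9 LD2_c11 LD3_c23)) :=
  Lgr Lrot87 (Lpr_ef (f775852 IH) (Lpn (LP (LK LD1_c9 LD2_c11 LD3_c23))))
theorem f775862 : Led Lsl_cf (LP (LK LD1_c12 LD2_c47 LD3_c18)) = v13026 :=
  Lgr Lrot39 (Lpr_et (f775858 IH) (Lpr_ct (K58.f152563 IH) (Lpr_et (f700241 IH) (Lpn v13026))))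
theorem f509793 : Led Lsl_cf (LP (LK LD1_c1 LD2_c38 LD3_c23)) = K32.v2235 :=
  Lgr Lrot11 (Lpr_ct (K32.f509792 IH) (Lpn K32.v2235))
theorem f77006 : Led Lsl_bt (LP (LK LD1_c18 LD2_c1 LD3_c38)) = (LP (LK LD1_c9 LD2_c50 LD3_c34)) :=
  Lre_b IH (LK LD1_c18 LD2_c1 LD3_c38) (LK LD1_c9 LD2_c50 LD3_c34) Lrfl Lrfl
theorem f76990 : Led Lsl_et (LP (LK LD1_c6 LD2_c39 LD3_c7)) = (LP (LK LD1_c12 LD2_c43 LD3_c57)) :=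
  Lre_e IH (LK LD1_c6 LD2_c39 LD3_c7) (LK LD1_c12 LD2_c43 LD3_c57) Lrfl Lrfl
theorem f76991 : Led Lsl_cf (LP (LK LD1_c18 LD2_c1 LD3_c38)) = (LP (LK LD1_c12 LD2_c43 LD3_c57)) :=
  Lgr Lrot39 (Lpr_et (K52.f76989 IH) (Lpr_ct (K17.f76979 IH) (Lpr_et (f76990 IH) (Lpn (LP (LK LD1_c12 LD2_c43 LD3_c57))))))
theorem f77007 : Led Lsl_ct (LP (LK LD1_c18 LD2_c1 LD3_c38)) = (LP (LK LD1_c12 LD2_c43 LD3_c57)) :=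
  Lgr Lrot59 (Lpr_cf (f76991 IH) (Lpn (LP (LK LD1_c12 LD2_c43 LD3_c57))))
theorem f775864 : Led Lsl_gf (LP (LK LD1_c12 LD2_c47 LD3_c18)) = (LP (LK LD1_c12 LD2_c43 LD3_c57)) :=
  Lgr Lrot126 (Lpr_cf (f775862 IH) (Lpq (f700279 IH) (Lpr_bt (K51.f416695 IH) (Lpr_gt (K32.f509811 IH) (Lpe (f509793 IH) (Lpr_gt (K32.f509778 IH) (Lpe (K53.f509784 IH) (Lpr_bt (K53.f416785 IH) (Lpr_gt (K53.f720540 IH) (Lpe (f77006 IH) (Lpr_ct (f77007 IH) (Lpn (LP (LK LD1_c12 LD2_c43 LD3_c57))))))))))))))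
theorem f775865 : Led Lsl_gt (LP (LK LD1_c12 LD2_c43 LD3_c57)) = (LP (LK LD1_c12 LD2_c47 LD3_c18)) :=
  Leop (Lpr_gf (f775864 IH) (Lpn (LP (LK LD1_c12 LD2_c43 LD3_c57))))
theorem seed_1397 : LEOK LG_g (LK LD1_c12 LD2_c43 LD3_c57) :=
  Leoe_g (LK LD1_c12 LD2_c43 LD3_c57) (f775865 IH)
def v18903 : LQ := Led Lsl_gf (LP (LK LD1_c6 LD2_c34 LD3_c46))
theorem f776375 : Led Lsl_gf (LP (LK LD1_c6 LD2_c34 LD3_c46)) = v18903 :=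
  Lrfl
def v9353 : LQ := Led Lsl_et v2619
theorem f675486 : Led Lsl_et v2619 = v9353 :=
  Lrfl
theorem f650285 : Led Lsl_et (LP (LK LD1_c3 LD2_c15 LD3_c42)) = (LP (LK LD1_c6 LD2_c34 LD3_c46)) :=
  Lre_e IH (LK LD1_c3 LD2_c15 LD3_c42) (LK LD1_c6 LD2_c34 LD3_c46) Lrfl Lrfl
theorem f754527 : v9353 = (LP (LK LD1_c6 LD2_c34 LD3_c46)) :=
  Lefun (Lecon (f675486 IH) (f754513 IH).symm) (f650285 IH)
theorem f675487 : Led Lsl_ef v2619 = v9353 :=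
  Lgr Lrot88 (Lpr_et (f675486 IH) (Lpn v9353))
theorem f65259 : Led Lsl_et (LP (LK LD1_c0 LD2_c51 LD3_c47)) = (LP (LK LD1_c1 LD2_c49 LD3_c54)) :=
  Lre_e IH (LK LD1_c0 LD2_c51 LD3_c47) (LK LD1_c1 LD2_c49 LD3_c54) Lrfl Lrfl
theorem f65261 : Led Lsl_gt (LP (LK LD1_c6 LD2_c38 LD3_c48)) = (LP (LK LD1_c3 LD2_c17 LD3_c39)) :=
  Lre_g IH (LK LD1_c6 LD2_c38 LD3_c48) (LK LD1_c3 LD2_c17 LD3_c39) Lrfl Lrfl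
theorem f675488 : Led Lsl_df (LP (LK LD1_c6 LD2_c38 LD3_c48)) = v9353 :=
  Lgr Lrot170 (Lpr_gt (f65261 IH) (Lpe (K46.f65260 IH) (Lpr_et (K4.f64600 IH) (Lpr_gt (K1.f36230 IH) (Lpr_dt (K1.f62196 IH) (Lpr_gt (K1.f62195 IH) (Lpr_df (K1.f65236 IH) (Lpr_et (f65259 IH) (Lpr_gt (f527897 IH) (Lpr_ef (f675487 IH) (Lpn v9353)))))))))))
def v7369 : LQ := Led Lsl_gf (LP (LK LD1_c3 LD2_c45 LD3_c37))
theorem f664766 : Led Lsl_gf (LP (LK LD1_c3 LD2_c45 LD3_c37)) = v7369 :=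
  Lrfl
theorem f776378 : Led Lsl_cf v7369 = v18903 :=
  Lgr Lrot166 (Lpe (f664766 IH) (Lpr_dt (K58.f93374 IH) (Lpr_gt (K58.f66608 IH) (Lpr_dt (K3.f66591 IH) (Lpr_ct (K4.f64601 IH) (Lpe (f93382 IH) (Lpe (f65261 IH) (Lpr_df (f675488 IH) (Lpqs (f754527 IH) (Lpr_gf (f776375 IH) (Lpn v18903)))))))))))
theorem f93384 : Led Lsl_bt (LP (LK LD1_c7 LD2_c31 LD3_c52)) = (LP (LK LD1_c14 LD2_c12 LD3_c20)) :=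
  Lre_b IH (LK LD1_c7 LD2_c31 LD3_c52) (LK LD1_c14 LD2_c12 LD3_c20) Lrfl Lrfl
theorem f93385 : Led Lsl_gt (LP (LK LD1_c14 LD2_c12 LD3_c20)) = (LP (LK LD1_c23 LD2_c47 LD3_c37)) :=
  Lre_g IH (LK LD1_c14 LD2_c12 LD3_c20) (LK LD1_c23 LD2_c47 LD3_c37) Lrfl Lrfl
theorem f650494 : Led Lsl_gt (LP (LK LD1_c6 LD2_c35 LD3_c41)) = (LP (LK LD1_c12 LD2_c37 LD3_c24)) :=
  Lre_g IH (LK LD1_c6 LD2_c35 LD3_c41) (LK LD1_c12 LD2_c37 LD3_c24) Lrfl Lrfl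
theorem f650994 : Led Lsl_ct (LP (LK LD1_c12 LD2_c35 LD3_c61)) = (LP (LK LD1_c6 LD2_c34 LD3_c48)) :=
  Lre_c IH (LK LD1_c12 LD2_c35 LD3_c61) (LK LD1_c6 LD2_c34 LD3_c48) Lrfl Lrfl
theorem f774526 : Led Lsl_dt (LP (LK LD1_c12 LD2_c37 LD3_c24)) = (LP (LK LD1_c12 LD2_c35 LD3_c61)) :=
  Lgr Lrot105 (Lpe (f650494 IH) (Lpe (K4.f93698 IH) (Lpqs (K58.f768749 IH) (Lpe (K58.f705082 IH) (Lpe (K58.f415366 IH) (Lpqs (K58.f768902 IH) (Lpq (K58.f678548 IH) (Lpqs (K49.f678523 IH) (Lpe (K49.f508694 IH) (Lpr_dt (K4.f113979 IH) (Lpr_gt (K46.f118245 IH) (Lpq (K46.f651744 IH) (Lpe (K56.f650988 IH) (Lpe (f650994 IH) (Lpn (LP (LK LD1_c12 LD2_c35 LD3_c61)))))))))))))))))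
theorem f651761 : Led Lsl_dt (LP (LK LD1_c12 LD2_c37 LD3_c4)) = (LP (LK LD1_c21 LD2_c43 LD3_c25)) :=
  Lre_d IH (LK LD1_c12 LD2_c37 LD3_c4) (LK LD1_c21 LD2_c43 LD3_c25) Lrfl Lrfl
theorem f135542 : Led Lsl_dt (LP (LK LD1_c9 LD2_c29 LD3_c43)) = (LP (LK LD1_c17 LD2_c30 LD3_c46)) :=
  Lre_d IH (LK LD1_c9 LD2_c29 LD3_c43) (LK LD1_c17 LD2_c30 LD3_c46) Lrfl Lrfl
theorem f769723 : Led Lsl_gt (LP (LK LD1_c17 LD2_c30 LD3_c46)) = (LP (LK LD1_c14 LD2_c44 LD3_c39)) :=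
  Lgr Lrot49 (Lpe (f135542 IH) (Lpe (K57.f135549 IH) (Lpr_cf (K57.f765136 IH) (Lpr_gt (f769722 IH) (Lpe (f677652 IH) (Lpr_gt (K58.f677644 IH) (Lpqs (K58.f768753 IH) (Lpe (K3.f88686 IH) (Lpe (K4.f88684 IH) (Lpe (K4.f88685 IH) (Lpn (LP (LK LD1_c14 LD2_c44 LD3_c39)))))))))))))
theorem f705098 : Led Lsl_ct (LP (LK LD1_c27 LD2_c20 LD3_c43)) = (LP (LK LD1_c17 LD2_c30 LD3_c46)) :=
  Lre_c IH (LK LD1_c27 LD2_c20 LD3_c43) (LK LD1_c17 LD2_c30 LD3_c46) Lrfl Lrfl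
theorem f88708 : Led Lsl_bt (LP (LK LD1_c7 LD2_c48 LD3_c47)) = (LP (LK LD1_c3 LD2_c53 LD3_c36)) :=
  Lre_b IH (LK LD1_c7 LD2_c48 LD3_c47) (LK LD1_c3 LD2_c53 LD3_c36) Lrfl Lrfl
theorem f88709 : Led Lsl_at (LP (LK LD1_c14 LD2_c44 LD3_c37)) = (LP (LK LD1_c7 LD2_c48 LD3_c47)) :=
  Lre_a IH (LK LD1_c14 LD2_c44 LD3_c37) (LK LD1_c7 LD2_c48 LD3_c47) Lrfl Lrfl
theorem f88710 : Led Lsl_bt (LP (LK LD1_c3 LD2_c28 LD3_c58)) = (LP (LK LD1_c6 LD2_c59 LD3_c30)) :=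
  Lre_b IH (LK LD1_c3 LD2_c28 LD3_c58) (LK LD1_c6 LD2_c59 LD3_c30) Lrfl Lrfl
theorem f88711 : Led Lsl_at (LP (LK LD1_c6 LD2_c59 LD3_c30)) = (LP (LK LD1_c13 LD2_c16 LD3_c0)) :=
  Lre_a IH (LK LD1_c6 LD2_c59 LD3_c30) (LK LD1_c13 LD2_c16 LD3_c0) Lrfl Lrfl
theorem f88712 : Led Lsl_bf (LP (LK LD1_c14 LD2_c44 LD3_c37)) = (LP (LK LD1_c13 LD2_c16 LD3_c0)) :=
  Lgr Lrot81 (Lpr_at (f88709 IH) (Lpr_bt (f88708 IH) (Lpr_at (K7.f88704 IH) (Lpr_bt (f88710 IH) (Lpr_at (f88711 IH) (Lpn (LP (LK LD1_c13 LD2_c16 LD3_c0))))))))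
theorem f88722 : Led Lsl_et (LP (LK LD1_c14 LD2_c44 LD3_c37)) = (LP (LK LD1_c24 LD2_c30 LD3_c49)) :=
  Lre_e IH (LK LD1_c14 LD2_c44 LD3_c37) (LK LD1_c24 LD2_c30 LD3_c49) Lrfl Lrfl
theorem f88723 : Led Lsl_et (LP (LK LD1_c22 LD2_c31 LD3_c9)) = (LP (LK LD1_c13 LD2_c16 LD3_c0)) :=
  Lre_e IH (LK LD1_c22 LD2_c31 LD3_c9) (LK LD1_c13 LD2_c16 LD3_c0) Lrfl Lrfl
theorem f88724 : Led Lsl_bt (LP (LK LD1_c24 LD2_c30 LD3_c49)) = (LP (LK LD1_c22 LD2_c31 LD3_c9)) :=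
  Lgr Lrot119 (Lpe (f88722 IH) (Lpr_bf (f88712 IH) (Lpe (f88723 IH) (Lpn (LP (LK LD1_c22 LD2_c31 LD3_c9))))))
theorem f88727 : Led Lsl_bf (LP (LK LD1_c24 LD2_c30 LD3_c49)) = (LP (LK LD1_c22 LD2_c31 LD3_c9)) :=
  Lgr Lrot24 (Lpr_bt (f88724 IH) (Lpn (LP (LK LD1_c22 LD2_c31 LD3_c9))))
theorem f88729 : Led Lsl_at (LP (LK LD1_c24 LD2_c30 LD3_c49)) = (LP (LK LD1_c14 LD2_c44 LD3_c38)) :=
  Lre_a IH (LK LD1_c24 LD2_c30 LD3_c49) (LK LD1_c14 LD2_c44 LD3_c38) Lrfl Lrfl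
theorem f88730 : Led Lsl_bt (LP (LK LD1_c14 LD2_c44 LD3_c38)) = (LP (LK LD1_c7 LD2_c48 LD3_c48)) :=
  Lre_b IH (LK LD1_c14 LD2_c44 LD3_c38) (LK LD1_c7 LD2_c48 LD3_c48) Lrfl Lrfl
theorem f66618 : Led Lsl_at (LP (LK LD1_c13 LD2_c15 LD3_c57)) = (LP (LK LD1_c22 LD2_c31 LD3_c9)) :=
  Lre_a IH (LK LD1_c13 LD2_c15 LD3_c57) (LK LD1_c22 LD2_c31 LD3_c9) Lrfl Lrfl
theorem f88731 : Led Lsl_at (LP (LK LD1_c7 LD2_c48 LD3_c48)) = (LP (LK LD1_c6 LD2_c59 LD3_c28)) :=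
  Lgr Lrot67 (Lpe (f88730 IH) (Lpe (f88729 IH) (Lpr_bf (f88727 IH) (Lpe (f66618 IH) (Lpe (K7.f66599 IH) (Lpn (LP (LK LD1_c6 LD2_c59 LD3_c28))))))))
theorem f88736 : Led Lsl_af (LP (LK LD1_c14 LD2_c44 LD3_c39)) = (LP (LK LD1_c13 LD2_c15 LD3_c58)) :=
  Lgr Lrot117 (Lpr_dt (K4.f88685 IH) (Lpr_at (f88731 IH) (Lpr_dt (f88735 IH) (Lpn (LP (LK LD1_c13 LD2_c15 LD3_c58))))))
theorem f88745 : Led Lsl_ft (LP (LK LD1_c22 LD2_c31 LD3_c13)) = (LP (LK LD1_c13 LD2_c15 LD3_c58)) :=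
  Lre_f IH (LK LD1_c22 LD2_c31 LD3_c13) (LK LD1_c13 LD2_c15 LD3_c58) Lrfl Lrfl
theorem f769725 : Led Lsl_gf (LP (LK LD1_c17 LD2_c30 LD3_c46)) = (LP (LK LD1_c22 LD2_c31 LD3_c13)) :=
  Lgr Lrot47 (Lpr_gt (f769723 IH) (Lpr_af (f88736 IH) (Lpe (f88745 IH) (Lpn (LP (LK LD1_c22 LD2_c31 LD3_c13))))))
theorem f508523 : Led Lsl_ct (LP (LK LD1_c17 LD2_c30 LD3_c46)) = (LP (LK LD1_c27 LD2_c20 LD3_c43)) :=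
  Lre_c IH (LK LD1_c17 LD2_c30 LD3_c46) (LK LD1_c27 LD2_c20 LD3_c43) Lrfl Lrfl
def v13829 : LQ := Led Lsl_gt (LP (LK LD1_c4 LD2_c48 LD3_c36))
theorem f705118 : Led Lsl_gt (LP (LK LD1_c4 LD2_c48 LD3_c36)) = v13829 :=
  Lrfl
theorem f771959 : (LP (LK LD1_c3 LD2_c16 LD3_c7)) = v13829 :=
  Lefun (Lecon (Lfl_gf (K46.f650473 IH)) (f771870 IH).symm) (f705118 IH)
theorem f773342 : Led Lsl_gt (LP (LK LD1_c27 LD2_c20 LD3_c43)) = (LP (LK LD1_c21 LD2_c43 LD3_c31)) :=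
  Lgr Lrot150 (Lpe (f508523 IH) (Lpr_gf (f769725 IH) (Lpe (K58.f88762 IH) (Lpr_gt (f773336 IH) (Lpr_ct (f417067 IH) (Lpr_gt (f705118 IH) (Lpq (f771959 IH) (Lpr_ct (K4.f118033 IH) (Lpe (K4.f118211 IH) (Lpe (K4.f118161 IH) (Lpn (LP (LK LD1_c21 LD2_c43 LD3_c31)))))))))))))
theorem f118226 : Led Lsl_ft (LP (LK LD1_c12 LD2_c41 LD3_c45)) = (LP (LK LD1_c6 LD2_c37 LD3_c57)) :=
  Lre_f IH (LK LD1_c12 LD2_c41 LD3_c45) (LK LD1_c6 LD2_c37 LD3_c57) Lrfl Lrfl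
theorem f118008 : Led Lsl_ct (LP (LK LD1_c6 LD2_c35 LD3_c30)) = (LP (LK LD1_c12 LD2_c37 LD3_c2)) :=
  Lre_c IH (LK LD1_c6 LD2_c35 LD3_c30) (LK LD1_c12 LD2_c37 LD3_c2) Lrfl Lrfl
theorem f118227 : Led Lsl_at (LP (LK LD1_c6 LD2_c37 LD3_c57)) = (LP (LK LD1_c12 LD2_c37 LD3_c2)) :=
  Lgr Lrot33 (Lpe (f118226 IH) (Lpr_dt (K4.f118219 IH) (Lpr_ct (K4.f118161 IH) (Lpr_dt (K4.f118211 IH) (Lpr_ct (K4.f118058 IH) (Lpr_dt (K46.f118224 IH) (Lpr_ct (K58.f118223 IH) (Lpr_dt (K58.f96638 IH) (Lpr_ct (f118008 IH) (Lpn (LP (LK LD1_c12 LD2_c37 LD3_c2))))))))))))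
theorem f118051 : Led Lsl_gt (LP (LK LD1_c21 LD2_c43 LD3_c19)) = (LP (LK LD1_c12 LD2_c37 LD3_c2)) :=
  Lre_g IH (LK LD1_c21 LD2_c43 LD3_c19) (LK LD1_c12 LD2_c37 LD3_c2) Lrfl Lrfl
theorem f119434 : Led Lsl_gt (LP (LK LD1_c12 LD2_c41 LD3_c45)) = (LP (LK LD1_c21 LD2_c43 LD3_c19)) :=
  Lgr Lrot5 (Lpr_ft (f118226 IH) (Lpr_at (f118227 IH) (Lpe (f118051 IH) (Lpn (LP (LK LD1_c21 LD2_c43 LD3_c19))))))
theorem f119436 : Led Lsl_dt (LP (LK LD1_c21 LD2_c43 LD3_c19)) = (LP (LK LD1_c30 LD2_c7 LD3_c51)) :=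
  Lre_d IH (LK LD1_c21 LD2_c43 LD3_c19) (LK LD1_c30 LD2_c7 LD3_c51) Lrfl Lrfl
theorem f773352 : Led Lsl_cf (LP (LK LD1_c30 LD2_c7 LD3_c51)) = (LP (LK LD1_c21 LD2_c43 LD3_c25)) :=
  Lgr Lrot14 (Lpe (f119436 IH) (Lpe (f119434 IH) (Lpe (K4.f118037 IH) (Lpe (f773342 IH) (Lpr_ct (f705098 IH) (Lpr_gt (f769723 IH) (Lpr_dt (K4.f88685 IH) (Lpr_gt (f773348 IH) (Lpr_dt (f651761 IH) (Lpn (LP (LK LD1_c21 LD2_c43 LD3_c25))))))))))))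
theorem f651756 : Led Lsl_dt (LP (LK LD1_c21 LD2_c43 LD3_c25)) = (LP (LK LD1_c12 LD2_c37 LD3_c4)) :=
  Lre_d IH (LK LD1_c21 LD2_c43 LD3_c25) (LK LD1_c12 LD2_c37 LD3_c4) Lrfl Lrfl
theorem f651757 : Led Lsl_ft (LP (LK LD1_c12 LD2_c41 LD3_c61)) = (LP (LK LD1_c21 LD2_c43 LD3_c25)) :=
  Lgr Lrot54 (Lpe (f119508 IH) (Lpr_ff (f651751 IH) (Lpe (f651756 IH) (Lpn (LP (LK LD1_c21 LD2_c43 LD3_c25))))))
theorem f651018 : Led Lsl_cf (LP (LK LD1_c12 LD2_c41 LD3_c61)) = (LP (LK LD1_c21 LD2_c48 LD3_c37)) :=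
  Lgr Lrot11 (Lpr_ct (f651013 IH) (Lpn (LP (LK LD1_c21 LD2_c48 LD3_c37))))
theorem f773355 : Led Lsl_ft (LP (LK LD1_c30 LD2_c7 LD3_c51)) = (LP (LK LD1_c21 LD2_c48 LD3_c37)) :=
  Lgr Lrot4 (Lpr_cf (f773352 IH) (Lpe (f651757 IH) (Lpr_cf (f651018 IH) (Lpn (LP (LK LD1_c21 LD2_c48 LD3_c37))))))
theorem f773362 : Led Lsl_ff (LP (LK LD1_c30 LD2_c7 LD3_c51)) = (LP (LK LD1_c21 LD2_c48 LD3_c37)) :=
  Lgr Lrot3 (Lpr_ft (f773355 IH) (Lpn (LP (LK LD1_c21 LD2_c48 LD3_c37))))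
theorem f118052 : Led Lsl_dt (LP (LK LD1_c30 LD2_c7 LD3_c51)) = (LP (LK LD1_c21 LD2_c43 LD3_c19)) :=
  Lre_d IH (LK LD1_c30 LD2_c7 LD3_c51) (LK LD1_c21 LD2_c43 LD3_c19) Lrfl Lrfl
theorem f118150 : Led Lsl_dt (LP (LK LD1_c12 LD2_c41 LD3_c41)) = (LP (LK LD1_c21 LD2_c48 LD3_c37)) :=
  Lre_d IH (LK LD1_c12 LD2_c41 LD3_c41) (LK LD1_c21 LD2_c48 LD3_c37) Lrfl Lrfl
theorem f773366 : Led Lsl_ft (LP (LK LD1_c21 LD2_c43 LD3_c19)) = (LP (LK LD1_c12 LD2_c41 LD3_c41)) :=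
  Lgr Lrot54 (Lpe (f118052 IH) (Lpr_ff (f773362 IH) (Lpe (f118150 IH) (Lpn (LP (LK LD1_c12 LD2_c41 LD3_c41))))))
theorem f119473 : Led Lsl_gt (LP (LK LD1_c12 LD2_c37 LD3_c2)) = (LP (LK LD1_c21 LD2_c43 LD3_c18)) :=
  Lre_g IH (LK LD1_c12 LD2_c37 LD3_c2) (LK LD1_c21 LD2_c43 LD3_c18) Lrfl Lrfl
theorem f773370 : Led Lsl_af (LP (LK LD1_c21 LD2_c43 LD3_c18)) = (LP (LK LD1_c12 LD2_c41 LD3_c41)) :=
  Lgr Lrot31 (Lpe (f119473 IH) (Lpe (f118051 IH) (Lpr_ft (f773366 IH) (Lpn (LP (LK LD1_c12 LD2_c41 LD3_c41))))))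
theorem f773372 : Led Lsl_at (LP (LK LD1_c21 LD2_c43 LD3_c18)) = (LP (LK LD1_c12 LD2_c41 LD3_c41)) :=
  Lgr Lrot100 (Lpr_af (f773370 IH) (Lpn (LP (LK LD1_c12 LD2_c41 LD3_c41))))
theorem f118128 : Led Lsl_gt (LP (LK LD1_c12 LD2_c41 LD3_c42)) = (LP (LK LD1_c6 LD2_c37 LD3_c57)) :=
  Lre_g IH (LK LD1_c12 LD2_c41 LD3_c42) (LK LD1_c6 LD2_c37 LD3_c57) Lrfl Lrfl
theorem f773376 : Led Lsl_ff (LP (LK LD1_c21 LD2_c43 LD3_c18)) = (LP (LK LD1_c12 LD2_c41 LD3_c42)) :=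
  Lgr Lrot52 (Lpr_at (f773372 IH) (Lpe (f66068 IH) (Lpe (f118128 IH) (Lpn (LP (LK LD1_c12 LD2_c41 LD3_c42))))))
theorem f119541 : Led Lsl_dt (LP (LK LD1_c12 LD2_c41 LD3_c42)) = (LP (LK LD1_c21 LD2_c48 LD3_c38)) :=
  Lre_d IH (LK LD1_c12 LD2_c41 LD3_c42) (LK LD1_c21 LD2_c48 LD3_c38) Lrfl Lrfl
theorem f443664 : Led Lsl_dt (LP (LK LD1_c12 LD2_c41 LD3_c58)) = (LP (LK LD1_c6 LD2_c38 LD3_c5)) :=
  Lre_d IH (LK LD1_c12 LD2_c41 LD3_c58) (LK LD1_c6 LD2_c38 LD3_c5) Lrfl Lrfl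
theorem f773378 : Led Lsl_ct (LP (LK LD1_c21 LD2_c48 LD3_c38)) = (LP (LK LD1_c12 LD2_c41 LD3_c58)) :=
  Lgr Lrot133 (Lpe (f119541 IH) (Lpe (f773376 IH) (Lpr_at (f773372 IH) (Lpe (f650874 IH) (Lpr_df (K46.f443660 IH) (Lpe (K46.f62060 IH) (Lpe (K46.f61993 IH) (Lpe (f119490 IH) (Lpe (f443664 IH) (Lpn (LP (LK LD1_c12 LD2_c41 LD3_c58))))))))))))
theorem f118009 : Led Lsl_ct (LP (LK LD1_c6 LD2_c37 LD3_c57)) = (LP (LK LD1_c3 LD2_c17 LD3_c16)) :=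
  Lre_c IH (LK LD1_c6 LD2_c37 LD3_c57) (LK LD1_c3 LD2_c17 LD3_c16) Lrfl Lrfl
theorem f118010 : Led Lsl_at (LP (LK LD1_c12 LD2_c37 LD3_c2)) = (LP (LK LD1_c6 LD2_c37 LD3_c57)) :=
  Lgr Lrot107 (Lpe (f118008 IH) (Lpr_af (K4.f117979 IH) (Lpe (f118009 IH) (Lpn (LP (LK LD1_c6 LD2_c37 LD3_c57))))))
theorem f118141 : Led Lsl_ft (LP (LK LD1_c21 LD2_c43 LD3_c22)) = (LP (LK LD1_c12 LD2_c37 LD3_c2)) :=
  Lre_f IH (LK LD1_c21 LD2_c43 LD3_c22) (LK LD1_c12 LD2_c37 LD3_c2) Lrfl Lrfl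
theorem f119539 : Led Lsl_gt (LP (LK LD1_c21 LD2_c43 LD3_c22)) = (LP (LK LD1_c12 LD2_c41 LD3_c42)) :=
  Lgr Lrot5 (Lpr_ft (f118141 IH) (Lpr_at (f118010 IH) (Lpe (f118128 IH) (Lpn (LP (LK LD1_c12 LD2_c41 LD3_c42))))))
theorem f118133 : Led Lsl_at (LP (LK LD1_c21 LD2_c43 LD3_c22)) = (LP (LK LD1_c12 LD2_c41 LD3_c45)) :=
  Lgr Lrot100 (Lpr_af (K4.f118124 IH) (Lpn (LP (LK LD1_c12 LD2_c41 LD3_c45))))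
theorem f118158 : Led Lsl_af (LP (LK LD1_c12 LD2_c42 LD3_c9)) = (LP (LK LD1_c21 LD2_c43 LD3_c31)) :=
  Lgr Lrot0 (Lpr_at (K4.f118139 IH) (Lpn (LP (LK LD1_c21 LD2_c43 LD3_c31))))
theorem f118221 : Led Lsl_df (LP (LK LD1_c21 LD2_c43 LD3_c22)) = (LP (LK LD1_c12 LD2_c42 LD3_c9)) :=
  Lgr Lrot18 (Lpr_at (f118133 IH) (Lpr_dt (K4.f118219 IH) (Lpe (f118158 IH) (Lpn (LP (LK LD1_c12 LD2_c42 LD3_c9))))))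
theorem f118108 : Led Lsl_ct (LP (LK LD1_c21 LD2_c43 LD3_c33)) = (LP (LK LD1_c12 LD2_c41 LD3_c44)) :=
  Lgr Lrot59 (Lpr_cf (K4.f118103 IH) (Lpn (LP (LK LD1_c12 LD2_c41 LD3_c44))))
theorem f118095 : Led Lsl_at (LP (LK LD1_c21 LD2_c43 LD3_c33)) = (LP (LK LD1_c12 LD2_c42 LD3_c11)) :=
  Lgr Lrot100 (Lpr_af (K4.f118084 IH) (Lpn (LP (LK LD1_c12 LD2_c42 LD3_c11))))
theorem f118105 : Led Lsl_at (LP (LK LD1_c21 LD2_c43 LD3_c21)) = (LP (LK LD1_c12 LD2_c41 LD3_c44)) :=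
  Lgr Lrot107 (Lpr_cf (K4.f118028 IH) (Lpe (f118095 IH) (Lpr_cf (K4.f118103 IH) (Lpn (LP (LK LD1_c12 LD2_c41 LD3_c44))))))
theorem f119454 : Led Lsl_ff (LP (LK LD1_c21 LD2_c43 LD3_c21)) = (LP (LK LD1_c12 LD2_c42 LD3_c9)) :=
  Lgr Lrot103 (Lpr_at (f118105 IH) (Lpe (f118108 IH) (Lpe (K58.f118127 IH) (Lpe (f118080 IH) (Lpe (K4.f118242 IH) (Lpe (f118262 IH) (Lpe (f118149 IH) (Lpe (f118137 IH) (Lpr_df (f118221 IH) (Lpn (LP (LK LD1_c12 LD2_c42 LD3_c9))))))))))))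
theorem f119458 : Led Lsl_ft (LP (LK LD1_c12 LD2_c41 LD3_c44)) = (LP (LK LD1_c21 LD2_c43 LD3_c31)) :=
  Lgr Lrot101 (Lpe (f118105 IH) (Lpr_ff (f119454 IH) (Lpr_af (f118158 IH) (Lpn (LP (LK LD1_c21 LD2_c43 LD3_c31))))))
theorem f118126 : Led Lsl_gt (LP (LK LD1_c12 LD2_c41 LD3_c44)) = (LP (LK LD1_c21 LD2_c48 LD3_c44)) :=
  Lre_g IH (LK LD1_c12 LD2_c41 LD3_c44) (LK LD1_c21 LD2_c48 LD3_c44) Lrfl Lrfl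
theorem f119461 : Led Lsl_gt (LP (LK LD1_c21 LD2_c48 LD3_c44)) = (LP (LK LD1_c12 LD2_c42 LD3_c9)) :=
  Lgr Lrot46 (Lpe (f118126 IH) (Lpr_ft (f119458 IH) (Lpe (f118158 IH) (Lpn (LP (LK LD1_c12 LD2_c42 LD3_c9))))))
theorem f443668 : Led Lsl_dt (LP (LK LD1_c6 LD2_c38 LD3_c5)) = (LP (LK LD1_c12 LD2_c41 LD3_c58)) :=
  Lre_d IH (LK LD1_c6 LD2_c38 LD3_c5) (LK LD1_c12 LD2_c41 LD3_c58) Lrfl Lrfl
theorem f66626 : Led Lsl_dt (LP (LK LD1_c13 LD2_c15 LD3_c58)) = (LP (LK LD1_c6 LD2_c59 LD3_c28)) :=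
  Lre_d IH (LK LD1_c13 LD2_c15 LD3_c58) (LK LD1_c6 LD2_c59 LD3_c28) Lrfl Lrfl
theorem f135529 : Led Lsl_bt (LP (LK LD1_c4 LD2_c48 LD3_c8)) = (LP (LK LD1_c2 LD2_c21 LD3_c58)) :=
  Lre_b IH (LK LD1_c4 LD2_c48 LD3_c8) (LK LD1_c2 LD2_c21 LD3_c58) Lrfl Lrfl
theorem f135530 : Led Lsl_bt (LP (LK LD1_c2 LD2_c22 LD3_c10)) = (LP (LK LD1_c4 LD2_c48 LD3_c33)) :=
  Lre_b IH (LK LD1_c2 LD2_c22 LD3_c10) (LK LD1_c4 LD2_c48 LD3_c33) Lrfl Lrfl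
theorem f135531 : Led Lsl_ef (LP (LK LD1_c4 LD2_c48 LD3_c8)) = (LP (LK LD1_c4 LD2_c48 LD3_c33)) :=
  Lgr Lrot29 (Lpr_bt (f135529 IH) (Lpr_et (K24.f135527 IH) (Lpr_bt (f135530 IH) (Lpn (LP (LK LD1_c4 LD2_c48 LD3_c33))))))
theorem f135534 : Led Lsl_ct (LP (LK LD1_c4 LD2_c48 LD3_c8)) = (LP (LK LD1_c9 LD2_c29 LD3_c2)) :=
  Lre_c IH (LK LD1_c4 LD2_c48 LD3_c8) (LK LD1_c9 LD2_c29 LD3_c2) Lrfl Lrfl
theorem f135535 : Led Lsl_ct (LP (LK LD1_c9 LD2_c29 LD3_c43)) = (LP (LK LD1_c4 LD2_c48 LD3_c33)) :=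
  Lre_c IH (LK LD1_c9 LD2_c29 LD3_c43) (LK LD1_c4 LD2_c48 LD3_c33) Lrfl Lrfl
theorem f135536 : Led Lsl_et (LP (LK LD1_c9 LD2_c29 LD3_c2)) = (LP (LK LD1_c9 LD2_c29 LD3_c43)) :=
  Lgr Lrot158 (Lpe (f135534 IH) (Lpr_ef (f135531 IH) (Lpe (f135535 IH) (Lpn (LP (LK LD1_c9 LD2_c29 LD3_c43))))))
theorem f135546 : Led Lsl_ef (LP (LK LD1_c9 LD2_c29 LD3_c2)) = (LP (LK LD1_c9 LD2_c29 LD3_c43)) :=
  Lgr Lrot88 (Lpr_et (f135536 IH) (Lpn (LP (LK LD1_c9 LD2_c29 LD3_c43))))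
theorem f88693 : Led Lsl_dt (LP (LK LD1_c7 LD2_c48 LD3_c48)) = (LP (LK LD1_c14 LD2_c44 LD3_c39)) :=
  Lre_d IH (LK LD1_c7 LD2_c48 LD3_c48) (LK LD1_c14 LD2_c44 LD3_c39) Lrfl Lrfl
theorem f88715 : Led Lsl_et (LP (LK LD1_c7 LD2_c48 LD3_c48)) = (LP (LK LD1_c3 LD2_c53 LD3_c36)) :=
  Lre_e IH (LK LD1_c7 LD2_c48 LD3_c48) (LK LD1_c3 LD2_c53 LD3_c36) Lrfl Lrfl
theorem f155271 : Led Lsl_af (LP (LK LD1_c3 LD2_c53 LD3_c38)) = (LP (LK LD1_c6 LD2_c24 LD3_c5)) :=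
  Lgr Lrot45 (Lpr_ft (K7.f88872 IH) (Lpe (K7.f88706 IH) (Lpr_ft (K7.f155251 IH) (Lpn (LP (LK LD1_c6 LD2_c24 LD3_c5))))))
theorem f433260 : Led Lsl_gf (LP (LK LD1_c6 LD2_c24 LD3_c3)) = (LP (LK LD1_c3 LD2_c53 LD3_c36)) :=
  Lgr Lrot47 (Lpr_gt (K11.f433250 IH) (Lpr_af (f155271 IH) (Lpe (K7.f155251 IH) (Lpn (LP (LK LD1_c3 LD2_c53 LD3_c36))))))
def v3687 : LQ := Led Lsl_dt K35.v1000
def v11310 : LQ := Led Lsl_ct v3687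
theorem f683977 : Led Lsl_ct v3687 = v11310 :=
  Lrfl
theorem f626802 : Led Lsl_dt K35.v1000 = v3687 :=
  Lrfl
def v3685 : LQ := Led Lsl_gf K35.v1000
theorem f626785 : Led Lsl_gf K35.v1000 = v3685 :=
  Lrfl
theorem f490940 : Led Lsl_cf K34.v164 = K35.v1000 :=
  Lgr Lrot11 (Lpr_ct (K35.f490939 IH) (Lpn K35.v1000))
def v2120 : LQ := Led Lsl_dt (LP (LK LD1_c1 LD2_c35 LD3_c54))
theorem f509094 : Led Lsl_dt (LP (LK LD1_c1 LD2_c35 LD3_c54)) = v2120 :=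
  Lrfl
theorem f432792 : Led Lsl_et (LP (LK LD1_c1 LD2_c35 LD3_c54)) = (LP (LK LD1_c1 LD2_c43 LD3_c58)) :=
  Lgr Lrot69 (Lpe (K5.f126094 IH) (Lpe (K3.f63108 IH) (Lpe (K3.f110042 IH) (Lpe (K3.f92028 IH) (Lpr_ff (K11.f432781 IH) (Lpn (LP (LK LD1_c1 LD2_c43 LD3_c58))))))))
theorem f155065 : Led Lsl_dt (LP (LK LD1_c0 LD2_c48 LD3_c33)) = (LP (LK LD1_c1 LD2_c43 LD3_c61)) :=
  Lre_d IH (LK LD1_c0 LD2_c48 LD3_c33) (LK LD1_c1 LD2_c43 LD3_c61) Lrfl Lrfl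
theorem f432796 : Led Lsl_gt (LP (LK LD1_c1 LD2_c43 LD3_c61)) = (LP (LK LD1_c3 LD2_c34 LD3_c25)) :=
  Lre_g IH (LK LD1_c1 LD2_c43 LD3_c61) (LK LD1_c3 LD2_c34 LD3_c25) Lrfl Lrfl
theorem f434183 : Led Lsl_df (LP (LK LD1_c1 LD2_c44 LD3_c51)) = (LP (LK LD1_c3 LD2_c34 LD3_c25)) :=
  Lgr Lrot174 (Lpe (K3.f106709 IH) (Lpe (K4.f84999 IH) (Lpr_gf (K7.f155292 IH) (Lpe (K7.f154334 IH) (Lpe (K7.f145652 IH) (Lpr_ct (K11.f432788 IH) (Lpr_gt (K11.f155080 IH) (Lpr_dt (f155065 IH) (Lpr_gt (f432796 IH) (Lpn (LP (LK LD1_c3 LD2_c34 LD3_c25))))))))))))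
theorem f434185 : Led Lsl_dt (LP (LK LD1_c1 LD2_c44 LD3_c51)) = (LP (LK LD1_c3 LD2_c34 LD3_c25)) :=
  Lgr Lrot42 (Lpr_df (f434183 IH) (Lpn (LP (LK LD1_c3 LD2_c34 LD3_c25))))
theorem f134841 : Led Lsl_bf (LP (LK LD1_c0 LD2_c45 LD3_c56)) = (LP (LK LD1_c0 LD2_c45 LD3_c56)) :=
  Lgr Lrot96 (Lpr_et (K5.f21105 IH) (Lpr_bt (K5.f134834 IH) (Lpr_et (K5.f21108 IH) (Lpn (LP (LK LD1_c0 LD2_c45 LD3_c56))))))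
theorem f152338 : Led Lsl_gt (LP (LK LD1_c1 LD2_c49 LD3_c19)) = (LP (LK LD1_c3 LD2_c39 LD3_c61)) :=
  Lgr Lrot94 (Lpe (K11.f152332 IH) (Lpr_gt (K7.f152334 IH) (Lpr_dt (K5.f135039 IH) (Lpe (K5.f135043 IH) (Lpr_dt (K5.f12559 IH) (Lpe (K3.f12431 IH) (Lpe (K7.f12550 IH) (Lpe (K5.f12555 IH) (Lpr_df (K6.f134597 IH) (Lpn (LP (LK LD1_c3 LD2_c39 LD3_c61))))))))))))
theorem f447893 : Led Lsl_gt (LP (LK LD1_c3 LD2_c1 LD3_c34)) = (LP (LK LD1_c1 LD2_c43 LD3_c59)) :=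
  Lgr Lrot164 (Lpe (K6.f87536 IH) (Lpr_ct (K7.f142971 IH) (Lpe (f152338 IH) (Lpe (K11.f152332 IH) (Lpr_gf (K7.f152336 IH) (Lpr_bf (f134841 IH) (Lpr_ct (K5.f21110 IH) (Lpe (K6.f21127 IH) (Lpe (K11.f153390 IH) (Lpr_bt (K11.f447889 IH) (Lpn (LP (LK LD1_c1 LD2_c43 LD3_c59)))))))))))))
theorem f509100 : Led Lsl_gt (LP (LK LD1_c3 LD2_c34 LD3_c23)) = v2120 :=
  Lgr Lrot112 (Lpe (K11.f433049 IH) (Lpr_et (K11.f432987 IH) (Lpe (f447893 IH) (Lpe (K4.f114406 IH) (Lpr_dt (f434185 IH) (Lpe (f432796 IH) (Lpe (f155065 IH) (Lpe (K11.f155080 IH) (Lpe (f432792 IH) (Lpr_dt (f509094 IH) (Lpn v2120)))))))))))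
theorem f626788 : Led Lsl_ct v2120 = v3685 :=
  Lgr Lrot152 (Lpe (f509100 IH) (Lpe (K11.f433049 IH) (Lpe (K11.f447895 IH) (Lpr_ct (K7.f110040 IH) (Lpe (K7.f154953 IH) (Lpr_ct (K7.f106105 IH) (Lpr_df (K35.f450841 IH) (Lpr_cf (f490940 IH) (Lpr_gf (f626785 IH) (Lpn v3685))))))))))
theorem f85298 : Led Lsl_dt (LP (LK LD1_c3 LD2_c28 LD3_c20)) = (LP (LK LD1_c6 LD2_c41 LD3_c49)) :=
  Lre_d IH (LK LD1_c3 LD2_c28 LD3_c20) (LK LD1_c6 LD2_c41 LD3_c49) Lrfl Lrfl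
def v2716 : LQ := Led Lsl_gf (LP (LK LD1_c1 LD2_c53 LD3_c33))
theorem f531341 : Led Lsl_gf (LP (LK LD1_c1 LD2_c53 LD3_c33)) = v2716 :=
  Lrfl
theorem f531342 : Led Lsl_at (LP (LK LD1_c3 LD2_c44 LD3_c43)) = (LP (LK LD1_c1 LD2_c53 LD3_c33)) :=
  Lre_a IH (LK LD1_c3 LD2_c44 LD3_c43) (LK LD1_c1 LD2_c53 LD3_c33) Lrfl Lrfl
theorem f531343 : Led Lsl_ft (LP (LK LD1_c6 LD2_c41 LD3_c49)) = (LP (LK LD1_c3 LD2_c44 LD3_c43)) :=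
  Lre_f IH (LK LD1_c6 LD2_c41 LD3_c49) (LK LD1_c3 LD2_c44 LD3_c43) Lrfl Lrfl
theorem f531344 : Led Lsl_gt (LP (LK LD1_c6 LD2_c41 LD3_c49)) = v2716 :=
  Lgr Lrot5 (Lpr_ft (f531343 IH) (Lpr_at (f531342 IH) (Lpr_gf (f531341 IH) (Lpn v2716))))
theorem f626793 : Led Lsl_dt v2716 = v3685 :=
  Lgr Lrot113 (Lpe (f531344 IH) (Lpe (f85298 IH) (Lpe (K3.f85662 IH) (Lpe (K4.f109134 IH) (Lpr_gt (K3.f109140 IH) (Lpr_dt (K3.f106336 IH) (Lpr_gt (K4.f114150 IH) (Lpr_dt (f509094 IH) (Lpr_ct (f626788 IH) (Lpn v3685))))))))))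
theorem f85299 : Led Lsl_ct (LP (LK LD1_c3 LD2_c18 LD3_c56)) = (LP (LK LD1_c6 LD2_c41 LD3_c49)) :=
  Lre_c IH (LK LD1_c3 LD2_c18 LD3_c56) (LK LD1_c6 LD2_c41 LD3_c49) Lrfl Lrfl
theorem f86580 : Led Lsl_gt (LP (LK LD1_c3 LD2_c18 LD3_c56)) = (LP (LK LD1_c6 LD2_c41 LD3_c47)) :=
  Lre_g IH (LK LD1_c3 LD2_c18 LD3_c56) (LK LD1_c6 LD2_c41 LD3_c47) Lrfl Lrfl
theorem f25421 : Led Lsl_gt (LP (LK LD1_c3 LD2_c18 LD3_c54)) = (LP (LK LD1_c1 LD2_c35 LD3_c57)) :=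
  Lre_g IH (LK LD1_c3 LD2_c18 LD3_c54) (LK LD1_c1 LD2_c35 LD3_c57) Lrfl Lrfl
theorem f89118 : Led Lsl_dt (LP (LK LD1_c1 LD2_c35 LD3_c57)) = (LP (LK LD1_c3 LD2_c18 LD3_c56)) :=
  Lre_d IH (LK LD1_c1 LD2_c35 LD3_c57) (LK LD1_c3 LD2_c18 LD3_c56) Lrfl Lrfl
theorem f429712 : Led Lsl_dt (LP (LK LD1_c6 LD2_c41 LD3_c47)) = (LP (LK LD1_c3 LD2_c53 LD3_c36)) :=
  Lgr Lrot113 (Lpe (f86580 IH) (Lpe (f89118 IH) (Lpe (f25421 IH) (Lpr_ct (K11.f429687 IH) (Lpr_gt (K34.f155100 IH) (Lpr_dt (K5.f86343 IH) (Lpr_gt (K3.f86339 IH) (Lpr_dt (K3.f18012 IH) (Lpr_ct (K7.f86345 IH) (Lpn (LP (LK LD1_c3 LD2_c53 LD3_c36))))))))))))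
theorem f683983 : Led Lsl_dt (LP (LK LD1_c6 LD2_c24 LD3_c3)) = v11310 :=
  Lgr Lrot113 (Lpr_gf (f433260 IH) (Lpe (f429712 IH) (Lpe (f86580 IH) (Lpr_ct (f85299 IH) (Lpr_gt (f531344 IH) (Lpr_dt (f626793 IH) (Lpe (f626785 IH) (Lpr_dt (f626802 IH) (Lpr_ct (f683977 IH) (Lpn v11310))))))))))
def v17121 : LQ := Led Lsl_dt (LP (LK LD1_c6 LD2_c11 LD3_c47))
theorem f755275 : Led Lsl_dt (LP (LK LD1_c6 LD2_c11 LD3_c47)) = v17121 :=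
  Lrfl
theorem f143439 : Led Lsl_ff (LP (LK LD1_c6 LD2_c59 LD3_c38)) = (LP (LK LD1_c6 LD2_c59 LD3_c13)) :=
  Lgr Lrot23 (Lpe (K6.f143411 IH) (Lpr_ft (K6.f143435 IH) (Lpe (K5.f126217 IH) (Lpn (LP (LK LD1_c6 LD2_c59 LD3_c13))))))
theorem f121540 : Led Lsl_ft (LP (LK LD1_c6 LD2_c58 LD3_c51)) = (LP (LK LD1_c3 LD2_c28 LD3_c48)) :=
  Lgr Lrot48 (Lpr_ff (K4.f121529 IH) (Lpn (LP (LK LD1_c3 LD2_c28 LD3_c48))))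
theorem f143443 : Led Lsl_dt (LP (LK LD1_c6 LD2_c59 LD3_c38)) = (LP (LK LD1_c6 LD2_c58 LD3_c51)) :=
  Lgr Lrot60 (Lpr_ff (f143439 IH) (Lpe (K5.f85303 IH) (Lpe (f121540 IH) (Lpn (LP (LK LD1_c6 LD2_c58 LD3_c51))))))
theorem f85332 : Led Lsl_ff (LP (LK LD1_c1 LD2_c53 LD3_c28)) = (LP (LK LD1_c3 LD2_c28 LD3_c23)) :=
  Lgr Lrot23 (Lpr_ct (K11.f85325 IH) (Lpr_ft (K3.f85323 IH) (Lpr_ct (K3.f85331 IH) (Lpn (LP (LK LD1_c3 LD2_c28 LD3_c23))))))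
theorem f85319 : Led Lsl_at (LP (LK LD1_c1 LD2_c53 LD3_c28)) = (LP (LK LD1_c3 LD2_c28 LD3_c51)) :=
  Lgr Lrot107 (Lpe (K3.f85317 IH) (Lpr_af (K3.f85289 IH) (Lpe (K5.f85318 IH) (Lpn (LP (LK LD1_c3 LD2_c28 LD3_c51))))))
theorem f85592 : Led Lsl_gf (LP (LK LD1_c3 LD2_c28 LD3_c51)) = (LP (LK LD1_c6 LD2_c58 LD3_c51)) :=
  Lgr Lrot76 (Lpe (f85319 IH) (Lpr_ff (f85332 IH) (Lpr_gt (K4.f85591 IH) (Lpn (LP (LK LD1_c6 LD2_c58 LD3_c51))))))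
theorem f85567 : Led Lsl_dt (LP (LK LD1_c3 LD2_c28 LD3_c51)) = (LP (LK LD1_c6 LD2_c59 LD3_c22)) :=
  Lre_d IH (LK LD1_c3 LD2_c28 LD3_c51) (LK LD1_c6 LD2_c59 LD3_c22) Lrfl Lrfl
theorem f755281 : Led Lsl_ct (LP (LK LD1_c6 LD2_c59 LD3_c22)) = v17121 :=
  Lgr Lrot7 (Lpe (f85567 IH) (Lpr_gf (f85592 IH) (Lpe (f143443 IH) (Lpe (K6.f86976 IH) (Lpe (K6.f88718 IH) (Lpe (K6.f143398 IH) (Lpr_dt (K5.f90633 IH) (Lpr_gt (K6.f90625 IH) (Lpr_dt (f755275 IH) (Lpn v17121))))))))))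
def v17119 : LQ := Led Lsl_dt (LP (LK LD1_c6 LD2_c11 LD3_c46))
theorem f755253 : Led Lsl_dt (LP (LK LD1_c6 LD2_c11 LD3_c46)) = v17119 :=
  Lrfl
theorem f755255 : Led Lsl_df (LP (LK LD1_c6 LD2_c11 LD3_c46)) = v17119 :=
  Lgr Lrot38 (Lpr_dt (f755253 IH) (Lpn v17119))
theorem f755256 : Led Lsl_ff (LP (LK LD1_c6 LD2_c41 LD3_c38)) = v17119 :=
  Lgr Lrot19 (Lpr_dt (K11.f88981 IH) (Lpe (K6.f90659 IH) (Lpr_dt (f755253 IH) (Lpn v17119))))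
theorem f755282 : Led Lsl_at (LP (LK LD1_c6 LD2_c41 LD3_c38)) = v17121 :=
  Lgr Lrot33 (Lpr_ff (f755256 IH) (Lpe (f755255 IH) (Lpr_ct (K6.f90664 IH) (Lpr_dt (K11.f85595 IH) (Lpr_ct (K11.f85594 IH) (Lpr_dt (K7.f85321 IH) (Lpr_ct (K3.f85578 IH) (Lpr_dt (f85567 IH) (Lpr_ct (f755281 IH) (Lpn v17121))))))))))
theorem f155188 : Led Lsl_ct (LP (LK LD1_c6 LD2_c24 LD3_c3)) = (LP (LK LD1_c3 LD2_c9 LD3_c41)) :=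
  Lre_c IH (LK LD1_c6 LD2_c24 LD3_c3) (LK LD1_c3 LD2_c9 LD3_c41) Lrfl Lrfl
theorem f683980 : Led Lsl_df (LP (LK LD1_c6 LD2_c24 LD3_c3)) = v11310 :=
  Lgr Lrot43 (Lpr_ct (f155188 IH) (Lpr_dt (K11.f154300 IH) (Lpr_ct (K11.f433140 IH) (Lpr_dt (K11.f10031 IH) (Lpr_ct (K11.f433142 IH) (Lpr_dt (K11.f433143 IH) (Lpr_ct (K11.f433303 IH) (Lpr_dt (K11.f154922 IH) (Lpr_ct (K11.f106103 IH) (Lpr_dt (K35.f106102 IH) (Lpr_ct (K7.f106105 IH) (Lpr_dt (K34.f450839 IH) (Lpr_ct (K35.f490939 IH) (Lpr_dt (f626802 IH) (Lpr_ct (f683977 IH) (Lpn v11310))))))))))))))))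
theorem f755258 : Led Lsl_gf v11310 = v17119 :=
  Lgr Lrot143 (Lpe (f683980 IH) (Lpe (K7.f155196 IH) (Lpe (K11.f154302 IH) (Lpr_gf (K56.f433237 IH) (Lpe (K7.f87540 IH) (Lpe (K4.f114387 IH) (Lpe (K3.f64512 IH) (Lpr_gt (K6.f90744 IH) (Lpr_dt (f755253 IH) (Lpn v17119))))))))))
theorem f755284 : Led Lsl_gt v11310 = v17121 :=
  Lgr Lrot46 (Lpr_gf (f755258 IH) (Lpe (f755256 IH) (Lpr_at (f755282 IH) (Lpn v17121))))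
theorem f769727 : Led Lsl_gf (LP (LK LD1_c9 LD2_c29 LD3_c2)) = (LP (LK LD1_c12 LD2_c3 LD3_c25)) :=
  Lgr Lrot141 (Lpr_ef (f135546 IH) (Lpr_dt (f135542 IH) (Lpr_gt (f769723 IH) (Lpe (f88693 IH) (Lpr_et (f88715 IH) (Lpe (f433260 IH) (Lpr_dt (f683983 IH) (Lpr_gt (f755284 IH) (Lpe (f755275 IH) (Lpr_et (K3.f90623 IH) (Lpn (LP (LK LD1_c12 LD2_c3 LD3_c25)))))))))))))
theorem f119149 : Led Lsl_ct (LP (LK LD1_c6 LD2_c35 LD3_c24)) = (LP (LK LD1_c12 LD2_c36 LD3_c49)) :=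
  Lre_c IH (LK LD1_c6 LD2_c35 LD3_c24) (LK LD1_c12 LD2_c36 LD3_c49) Lrfl Lrfl
theorem f62254 : Led Lsl_ct (LP (LK LD1_c6 LD2_c38 LD3_c36)) = (LP (LK LD1_c12 LD2_c42 LD3_c54)) :=
  Lre_c IH (LK LD1_c6 LD2_c38 LD3_c36) (LK LD1_c12 LD2_c42 LD3_c54) Lrfl Lrfl
theorem f62255 : Led Lsl_dt (LP (LK LD1_c12 LD2_c42 LD3_c54)) = (LP (LK LD1_c21 LD2_c50 LD3_c12)) :=
  Lre_d IH (LK LD1_c12 LD2_c42 LD3_c54) (LK LD1_c21 LD2_c50 LD3_c12) Lrfl Lrfl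
theorem f90835 : Led Lsl_cf (LP (LK LD1_c21 LD2_c8 LD3_c48)) = (LP (LK LD1_c21 LD2_c50 LD3_c12)) :=
  Lgr Lrot102 (Lpr_af (K3.f90827 IH) (Lpe (K3.f89094 IH) (Lpr_dt (K3.f89091 IH) (Lpe (K3.f89088 IH) (Lpr_dt (K3.f62246 IH) (Lpr_ct (K3.f62238 IH) (Lpr_dt (K56.f62253 IH) (Lpr_ct (f62254 IH) (Lpr_dt (f62255 IH) (Lpn (LP (LK LD1_c21 LD2_c50 LD3_c12))))))))))))
theorem f93319 : Led Lsl_cf (LP (LK LD1_c6 LD2_c49 LD3_c44)) = (LP (LK LD1_c12 LD2_c3 LD3_c25)) :=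
  Lgr Lrot55 (Lpr_dt (K3.f69297 IH) (Lpe (f69287 IH) (Lpr_dt (K3.f63838 IH) (Lpr_ct (K3.f69312 IH) (Lpr_dt (K3.f69313 IH) (Lpr_ct (K3.f93315 IH) (Lpr_dt (K3.f89091 IH) (Lpe (K3.f89088 IH) (Lpr_dt (K3.f62246 IH) (Lpr_ct (K3.f62238 IH) (Lpr_dt (K56.f62253 IH) (Lpr_ct (f62254 IH) (Lpr_dt (f62255 IH) (Lpe (f90835 IH) (Lpr_dt (K3.f90826 IH) (Lpn (LP (LK LD1_c12 LD2_c3 LD3_c25))))))))))))))))))
theorem f754659 : Led Lsl_gt (LP (LK LD1_c12 LD2_c36 LD3_c49)) = (LP (LK LD1_c12 LD2_c3 LD3_c25)) :=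
  Lgr Lrot150 (Lpe (f119149 IH) (Lpr_gf (K49.f119147 IH) (Lpe (K46.f118520 IH) (Lpe (K46.f118535 IH) (Lpr_ct (K56.f118595 IH) (Lpq (K56.f651837 IH) (Lpqs (K56.f754656 IH) (Lpe (K56.f650491 IH) (Lpr_ct (K3.f69282 IH) (Lpe (K3.f69297 IH) (Lpr_cf (f93319 IH) (Lpn (LP (LK LD1_c12 LD2_c3 LD3_c25))))))))))))))
theorem f155219 : Led Lsl_ct (LP (LK LD1_c6 LD2_c37 LD3_c15)) = (LP (LK LD1_c3 LD2_c16 LD3_c58)) :=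
  Lre_c IH (LK LD1_c6 LD2_c37 LD3_c15) (LK LD1_c3 LD2_c16 LD3_c58) Lrfl Lrfl
theorem f678585 : Led Lsl_ff (LP (LK LD1_c6 LD2_c37 LD3_c15)) = (LP (LK LD1_c12 LD2_c36 LD3_c49)) :=
  Lgr Lrot23 (Lpr_ct (f155219 IH) (Lpr_ft (K49.f650761 IH) (Lpqs (K49.f678580 IH) (Lpr_ct (f119149 IH) (Lpn (LP (LK LD1_c12 LD2_c36 LD3_c49)))))))
theorem f769729 : Led Lsl_af (LP (LK LD1_c9 LD2_c29 LD3_c2)) = (LP (LK LD1_c6 LD2_c37 LD3_c15)) :=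
  Lgr Lrot31 (Lpr_gf (f769727 IH) (Lpe (f754659 IH) (Lpe (f678585 IH) (Lpn (LP (LK LD1_c6 LD2_c37 LD3_c15))))))
theorem f769731 : Led Lsl_at (LP (LK LD1_c9 LD2_c29 LD3_c2)) = (LP (LK LD1_c6 LD2_c37 LD3_c15)) :=
  Lgr Lrot100 (Lpr_af (f769729 IH) (Lpn (LP (LK LD1_c6 LD2_c37 LD3_c15))))
def v2132 : LQ := Led Lsl_bt (LP (LK LD1_c1 LD2_c36 LD3_c12))
def v8639 : LQ := Led Lsl_ct v2132
theorem f671857 : Led Lsl_ct v2132 = v8639 :=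
  Lrfl
theorem f509153 : Led Lsl_bt (LP (LK LD1_c1 LD2_c36 LD3_c12)) = v2132 :=
  Lrfl
theorem f508264 : Led Lsl_ff (LP (LK LD1_c1 LD2_c36 LD3_c12)) = (LP (LK LD1_c2 LD2_c21 LD3_c58)) :=
  Lgr Lrot19 (Lpr_dt (K35.f143897 IH) (Lpr_ft (K58.f508262 IH) (Lpe (K24.f416803 IH) (Lpn (LP (LK LD1_c2 LD2_c21 LD3_c58))))))
theorem f509156 : Led Lsl_ff (LP (LK LD1_c4 LD2_c48 LD3_c8)) = v2132 :=
  Lgr Lrot25 (Lpr_bt (f135529 IH) (Lpe (f508264 IH) (Lpr_bt (f509153 IH) (Lpn v2132))))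
theorem f509157 : Led Lsl_ft (LP (LK LD1_c4 LD2_c48 LD3_c8)) = v2132 :=
  Lgr Lrot48 (Lpr_ff (f509156 IH) (Lpn v2132))
theorem f135551 : Led Lsl_ct (LP (LK LD1_c9 LD2_c29 LD3_c2)) = (LP (LK LD1_c4 LD2_c48 LD3_c8)) :=
  Lre_c IH (LK LD1_c9 LD2_c29 LD3_c2) (LK LD1_c4 LD2_c48 LD3_c8) Lrfl Lrfl
theorem f671860 : Led Lsl_ff (LP (LK LD1_c9 LD2_c29 LD3_c2)) = v8639 :=
  Lgr Lrot23 (Lpr_ct (f135551 IH) (Lpr_ft (f509157 IH) (Lpr_ct (f671857 IH) (Lpn v8639))))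
theorem f435617 : Led Lsl_bt (LP (LK LD1_c3 LD2_c15 LD3_c6)) = (LP (LK LD1_c1 LD2_c34 LD3_c11)) :=
  Lre_b IH (LK LD1_c3 LD2_c15 LD3_c6) (LK LD1_c1 LD2_c34 LD3_c11) Lrfl Lrfl
theorem f509155 : Led Lsl_df (LP (LK LD1_c3 LD2_c15 LD3_c6)) = v2132 :=
  Lgr Lrot12 (Lpr_bt (f435617 IH) (Lpr_dt (K32.f139888 IH) (Lpr_bt (f509153 IH) (Lpn v2132))))
theorem f509158 : Led Lsl_dt (LP (LK LD1_c3 LD2_c15 LD3_c6)) = v2132 :=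
  Lgr Lrot42 (Lpr_df (f509155 IH) (Lpn v2132))
theorem f507905 : Led Lsl_et (LP (LK LD1_c1 LD2_c34 LD3_c10)) = (LP (LK LD1_c3 LD2_c15 LD3_c6)) :=
  Lre_e IH (LK LD1_c1 LD2_c34 LD3_c10) (LK LD1_c3 LD2_c15 LD3_c6) Lrfl Lrfl
theorem f768797 : K49.v9698 = (LP (LK LD1_c1 LD2_c34 LD3_c10)) :=
  Lefun (Lecon (K49.f677222 IH) (((K58.f678571 IH).trans (K58.f768784 IH)).trans (K58.f507943 IH).symm)) (Lfl_ff (K58.f507912 IH))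
theorem f768824 : K49.v3163 = (LP (LK LD1_c3 LD2_c15 LD3_c6)) :=
  Lefun (Lecon (K49.f624092 IH) ((f678576 IH).trans (f768797 IH))) (f507905 IH)
theorem f768879 : (LP (LK LD1_c3 LD2_c16 LD3_c59)) = v2132 :=
  Lefun (Lecon (Lfl_df (K49.f624094 IH)) (f768824 IH)) (f509158 IH)
theorem f768916 : v8639 = (LP (LK LD1_c6 LD2_c37 LD3_c17)) :=
  Lefun (Lecon (f671857 IH) (f768879 IH).symm) (K56.f624095 IH)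
theorem f769752 : Led Lsl_gt (LP (LK LD1_c6 LD2_c41 LD3_c39)) = (LP (LK LD1_c6 LD2_c37 LD3_c15)) :=
  Lgr Lrot46 (Lpr_gf (K56.f754472 IH) (Lpq (f768916 IH) (Lpe (f671860 IH) (Lpr_at (f769731 IH) (Lpn (LP (LK LD1_c6 LD2_c37 LD3_c15)))))))
theorem f88739 : Led Lsl_et (LP (LK LD1_c6 LD2_c59 LD3_c28)) = (LP (LK LD1_c3 LD2_c28 LD3_c58)) :=
  Lre_e IH (LK LD1_c6 LD2_c59 LD3_c28) (LK LD1_c3 LD2_c28 LD3_c58) Lrfl Lrfl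
theorem f119401 : Led Lsl_ct (LP (LK LD1_c3 LD2_c17 LD3_c21)) = (LP (LK LD1_c6 LD2_c38 LD3_c4)) :=
  Lre_c IH (LK LD1_c3 LD2_c17 LD3_c21) (LK LD1_c6 LD2_c38 LD3_c4) Lrfl Lrfl
theorem f155220 : Led Lsl_et (LP (LK LD1_c6 LD2_c38 LD3_c4)) = (LP (LK LD1_c6 LD2_c37 LD3_c15)) :=
  Lgr Lrot158 (Lpe (f119401 IH) (Lpr_ef (K46.f155217 IH) (Lpe (f155219 IH) (Lpn (LP (LK LD1_c6 LD2_c37 LD3_c15))))))
theorem f155230 : Led Lsl_dt (LP (LK LD1_c6 LD2_c38 LD3_c4)) = (LP (LK LD1_c12 LD2_c41 LD3_c57)) :=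
  Lre_d IH (LK LD1_c6 LD2_c38 LD3_c4) (LK LD1_c12 LD2_c41 LD3_c57) Lrfl Lrfl
theorem f769754 : Led Lsl_gf (LP (LK LD1_c13 LD2_c15 LD3_c58)) = (LP (LK LD1_c12 LD2_c41 LD3_c57)) :=
  Lgr Lrot145 (Lpe (f88735 IH) (Lpr_et (f88739 IH) (Lpe (K7.f155103 IH) (Lpr_dt (K11.f155175 IH) (Lpe (K11.f432959 IH) (Lpe (K11.f57775 IH) (Lpr_et (K3.f88992 IH) (Lpr_gt (f769752 IH) (Lpe (f155220 IH) (Lpr_dt (f155230 IH) (Lpn (LP (LK LD1_c12 LD2_c41 LD3_c57)))))))))))))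
theorem f773389 : Led Lsl_cf (LP (LK LD1_c21 LD2_c48 LD3_c44)) = (LP (LK LD1_c12 LD2_c41 LD3_c57)) :=
  Lgr Lrot166 (Lpr_gt (f119461 IH) (Lpe (f118221 IH) (Lpr_gt (f119539 IH) (Lpr_dt (f119541 IH) (Lpr_ct (f773378 IH) (Lpe (f443668 IH) (Lpr_gf (f651772 IH) (Lpe (f66626 IH) (Lpr_gf (f769754 IH) (Lpn (LP (LK LD1_c12 LD2_c41 LD3_c57))))))))))))
def v8512 : LQ := Led Lsl_at K49.v2073
theorem f671487 : Led Lsl_at K49.v2073 = v8512 :=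
  Lrfl
theorem f678518 : (LP (LK LD1_c1 LD2_c35 LD3_c14)) = v8512 :=
  Lefun (Lecon (Lfl_af (K46.f508744 IH)) (K49.f678515 IH)) (f671487 IH)
theorem f508747 : Led Lsl_ct (LP (LK LD1_c12 LD2_c41 LD3_c49)) = (LP (LK LD1_c6 LD2_c37 LD3_c59)) :=
  Lre_c IH (LK LD1_c12 LD2_c41 LD3_c49) (LK LD1_c6 LD2_c37 LD3_c59) Lrfl Lrfl
theorem f773399 : Led Lsl_dt (LP (LK LD1_c21 LD2_c48 LD3_c44)) = (LP (LK LD1_c12 LD2_c41 LD3_c49)) :=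
  Lgr Lrot140 (Lpr_cf (f773389 IH) (Lpe (f155230 IH) (Lpe (f119401 IH) (Lpe (K46.f119400 IH) (Lpr_ft (K46.f508745 IH) (Lpqs (K49.f678515 IH) (Lpr_at (f671487 IH) (Lpq (f678518 IH) (Lpe (f118266 IH) (Lpe (K46.f508746 IH) (Lpe (f508747 IH) (Lpn (LP (LK LD1_c12 LD2_c41 LD3_c49))))))))))))))
theorem f650861 : Led Lsl_ct (LP (LK LD1_c6 LD2_c37 LD3_c59)) = (LP (LK LD1_c12 LD2_c41 LD3_c49)) :=
  Lre_c IH (LK LD1_c6 LD2_c37 LD3_c59) (LK LD1_c12 LD2_c41 LD3_c49) Lrfl Lrfl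
theorem f650856 : Led Lsl_dt (LP (LK LD1_c3 LD2_c17 LD3_c18)) = (LP (LK LD1_c6 LD2_c37 LD3_c59)) :=
  Lre_d IH (LK LD1_c3 LD2_c17 LD3_c18) (LK LD1_c6 LD2_c37 LD3_c59) Lrfl Lrfl
theorem f773406 : Led Lsl_ct (LP (LK LD1_c12 LD2_c41 LD3_c42)) = (LP (LK LD1_c6 LD2_c38 LD3_c48)) :=
  Lgr Lrot8 (Lpr_gt (f118128 IH) (Lpr_dt (K4.f118102 IH) (Lpr_gt (f118126 IH) (Lpr_dt (f773399 IH) (Lpe (f650861 IH) (Lpe (f650856 IH) (Lpr_gf (K46.f650860 IH) (Lpq (K46.f650872 IH) (Lpe (f93382 IH) (Lpe (f65261 IH) (Lpn (LP (LK LD1_c6 LD2_c38 LD3_c48)))))))))))))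
theorem f118129 : Led Lsl_dt (LP (LK LD1_c21 LD2_c48 LD3_c38)) = (LP (LK LD1_c12 LD2_c41 LD3_c42)) :=
  Lre_d IH (LK LD1_c21 LD2_c48 LD3_c38) (LK LD1_c12 LD2_c41 LD3_c42) Lrfl Lrfl
theorem f773382 : Led Lsl_cf (LP (LK LD1_c21 LD2_c48 LD3_c38)) = (LP (LK LD1_c12 LD2_c41 LD3_c58)) :=
  Lgr Lrot11 (Lpr_ct (f773378 IH) (Lpn (LP (LK LD1_c12 LD2_c41 LD3_c58))))
theorem f675490 : Led Lsl_dt (LP (LK LD1_c6 LD2_c38 LD3_c48)) = v9353 :=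
  Lgr Lrot42 (Lpr_df (f675488 IH) (Lpn v9353))
theorem f119504 : Led Lsl_ct (LP (LK LD1_c6 LD2_c34 LD3_c46)) = (LP (LK LD1_c3 LD2_c15 LD3_c44)) :=
  Lre_c IH (LK LD1_c6 LD2_c34 LD3_c46) (LK LD1_c3 LD2_c15 LD3_c44) Lrfl Lrfl
theorem f773408 : Led Lsl_at (LP (LK LD1_c9 LD2_c29 LD3_c45)) = (LP (LK LD1_c6 LD2_c38 LD3_c7)) :=
  Lgr Lrot33 (Lpr_ff (f672010 IH) (Lpqs (f772018 IH) (Lpr_dt (f443668 IH) (Lpe (f773382 IH) (Lpr_dt (f118129 IH) (Lpr_ct (f773406 IH) (Lpr_dt (f675490 IH) (Lpqs (f754527 IH) (Lpr_ct (f119504 IH) (Lpr_dt (K46.f66063 IH) (Lpr_ct (f119506 IH) (Lpn (LP (LK LD1_c6 LD2_c38 LD3_c7))))))))))))))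
theorem f417110 : Led Lsl_dt (LP (LK LD1_c17 LD2_c30 LD3_c50)) = (LP (LK LD1_c9 LD2_c29 LD3_c45)) :=
  Lre_d IH (LK LD1_c17 LD2_c30 LD3_c50) (LK LD1_c9 LD2_c29 LD3_c45) Lrfl Lrfl
theorem f773412 : Led Lsl_af (LP (LK LD1_c17 LD2_c30 LD3_c50)) = (LP (LK LD1_c12 LD2_c41 LD3_c61)) :=
  Lgr Lrot117 (Lpr_dt (f417110 IH) (Lpr_at (f773408 IH) (Lpr_dt (f119508 IH) (Lpn (LP (LK LD1_c12 LD2_c41 LD3_c61))))))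
theorem f119507 : Led Lsl_dt (LP (LK LD1_c12 LD2_c41 LD3_c61)) = (LP (LK LD1_c6 LD2_c38 LD3_c7)) :=
  Lre_d IH (LK LD1_c12 LD2_c41 LD3_c61) (LK LD1_c6 LD2_c38 LD3_c7) Lrfl Lrfl
theorem f651764 : Led Lsl_ff (LP (LK LD1_c12 LD2_c41 LD3_c61)) = (LP (LK LD1_c21 LD2_c43 LD3_c25)) :=
  Lgr Lrot19 (Lpr_dt (f119507 IH) (Lpr_ft (f651759 IH) (Lpr_dt (f651761 IH) (Lpn (LP (LK LD1_c21 LD2_c43 LD3_c25))))))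
theorem f651770 : Led Lsl_at (LP (LK LD1_c12 LD2_c41 LD3_c58)) = (LP (LK LD1_c21 LD2_c43 LD3_c25)) :=
  Lgr Lrot51 (Lpe (f443668 IH) (Lpr_af (f651766 IH) (Lpe (f651756 IH) (Lpn (LP (LK LD1_c21 LD2_c43 LD3_c25))))))
theorem f773420 : Led Lsl_ft (LP (LK LD1_c17 LD2_c30 LD3_c50)) = (LP (LK LD1_c12 LD2_c41 LD3_c58)) :=
  Lgr Lrot101 (Lpr_af (f773412 IH) (Lpr_ff (f651764 IH) (Lpe (f651770 IH) (Lpn (LP (LK LD1_c12 LD2_c41 LD3_c58))))))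
theorem f773425 : Led Lsl_ff (LP (LK LD1_c17 LD2_c30 LD3_c50)) = (LP (LK LD1_c12 LD2_c41 LD3_c58)) :=
  Lgr Lrot3 (Lpr_ft (f773420 IH) (Lpn (LP (LK LD1_c12 LD2_c41 LD3_c58))))
theorem f652667 : Led Lsl_ct (LP (LK LD1_c17 LD2_c30 LD3_c50)) = (LP (LK LD1_c27 LD2_c20 LD3_c48)) :=
  Lre_c IH (LK LD1_c17 LD2_c30 LD3_c50) (LK LD1_c27 LD2_c20 LD3_c48) Lrfl Lrfl
theorem f773427 : Led Lsl_ft (LP (LK LD1_c27 LD2_c20 LD3_c48)) = (LP (LK LD1_c21 LD2_c48 LD3_c38)) :=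
  Lgr Lrot4 (Lpe (f652667 IH) (Lpr_ff (f773425 IH) (Lpe (f773378 IH) (Lpn (LP (LK LD1_c21 LD2_c48 LD3_c38))))))
theorem f773441 : Led Lsl_df (LP (LK LD1_c27 LD2_c20 LD3_c48)) = (LP (LK LD1_c21 LD2_c43 LD3_c18)) :=
  Lgr Lrot78 (Lpr_ft (f773427 IH) (Lpr_dt (f118129 IH) (Lpe (f773376 IH) (Lpn (LP (LK LD1_c21 LD2_c43 LD3_c18))))))
theorem f773444 : Led Lsl_dt (LP (LK LD1_c27 LD2_c20 LD3_c48)) = (LP (LK LD1_c21 LD2_c43 LD3_c18)) :=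
  Lgr Lrot42 (Lpr_df (f773441 IH) (Lpn (LP (LK LD1_c21 LD2_c43 LD3_c18))))
theorem f705121 : Led Lsl_ct (LP (LK LD1_c27 LD2_c20 LD3_c48)) = (LP (LK LD1_c17 LD2_c30 LD3_c50)) :=
  Lre_c IH (LK LD1_c27 LD2_c20 LD3_c48) (LK LD1_c17 LD2_c30 LD3_c50) Lrfl Lrfl
theorem f773422 : Led Lsl_ff (LP (LK LD1_c27 LD2_c20 LD3_c48)) = (LP (LK LD1_c21 LD2_c48 LD3_c38)) :=
  Lgr Lrot23 (Lpr_ct (f705121 IH) (Lpr_ft (f773420 IH) (Lpe (f773382 IH) (Lpn (LP (LK LD1_c21 LD2_c48 LD3_c38))))))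
theorem f773450 : Led Lsl_ff (LP (LK LD1_c12 LD2_c41 LD3_c42)) = (LP (LK LD1_c21 LD2_c43 LD3_c18)) :=
  Lgr Lrot19 (Lpr_dt (f119541 IH) (Lpe (f773422 IH) (Lpr_dt (f773444 IH) (Lpn (LP (LK LD1_c21 LD2_c43 LD3_c18))))))
theorem f773452 : Led Lsl_at (LP (LK LD1_c12 LD2_c41 LD3_c42)) = (LP (LK LD1_c21 LD2_c43 LD3_c19)) :=
  Lgr Lrot66 (Lpr_ff (f773450 IH) (Lpr_af (f773370 IH) (Lpe (f773366 IH) (Lpn (LP (LK LD1_c21 LD2_c43 LD3_c19))))))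
theorem f773454 : Led Lsl_af (LP (LK LD1_c12 LD2_c41 LD3_c42)) = (LP (LK LD1_c21 LD2_c43 LD3_c19)) :=
  Lgr Lrot0 (Lpr_at (f773452 IH) (Lpn (LP (LK LD1_c21 LD2_c43 LD3_c19))))
theorem f773457 : Led Lsl_at (LP (LK LD1_c21 LD2_c48 LD3_c38)) = (LP (LK LD1_c30 LD2_c7 LD3_c51)) :=
  Lgr Lrot51 (Lpe (f119541 IH) (Lpr_af (f773454 IH) (Lpe (f118052 IH) (Lpn (LP (LK LD1_c30 LD2_c7 LD3_c51))))))
theorem f774537 : Led Lsl_cf (LP (LK LD1_c12 LD2_c37 LD3_c24)) = (LP (LK LD1_c21 LD2_c43 LD3_c18)) :=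
  Lgr Lrot118 (Lpr_dt (f774526 IH) (Lpr_ct (f650994 IH) (Lpr_dt (K46.f650990 IH) (Lpqs (K46.f651744 IH) (Lpr_ct (f118249 IH) (Lpr_dt (f651761 IH) (Lpe (f773352 IH) (Lpe (f773457 IH) (Lpe (f773427 IH) (Lpr_dt (f773444 IH) (Lpn (LP (LK LD1_c21 LD2_c43 LD3_c18)))))))))))))
theorem f119433 : Led Lsl_ft (LP (LK LD1_c12 LD2_c37 LD3_c2)) = (LP (LK LD1_c21 LD2_c43 LD3_c22)) :=
  Lre_f IH (LK LD1_c12 LD2_c37 LD3_c2) (LK LD1_c21 LD2_c43 LD3_c22) Lrfl Lrfl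
theorem f119474 : Led Lsl_gt (LP (LK LD1_c21 LD2_c43 LD3_c18)) = (LP (LK LD1_c12 LD2_c41 LD3_c45)) :=
  Lgr Lrot46 (Lpe (f119473 IH) (Lpr_ft (f119433 IH) (Lpr_at (f118133 IH) (Lpn (LP (LK LD1_c12 LD2_c41 LD3_c45))))))
theorem f769735 : Led Lsl_at (LP (LK LD1_c9 LD2_c29 LD3_c43)) = (LP (LK LD1_c6 LD2_c38 LD3_c4)) :=
  Lgr Lrot80 (Lpe (f135536 IH) (Lpr_af (f769729 IH) (Lpe (f155220 IH) (Lpn (LP (LK LD1_c6 LD2_c38 LD3_c4))))))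
theorem f135554 : Led Lsl_dt (LP (LK LD1_c17 LD2_c30 LD3_c46)) = (LP (LK LD1_c9 LD2_c29 LD3_c43)) :=
  Lre_d IH (LK LD1_c17 LD2_c30 LD3_c46) (LK LD1_c9 LD2_c29 LD3_c43) Lrfl Lrfl
theorem f769739 : Led Lsl_af (LP (LK LD1_c17 LD2_c30 LD3_c46)) = (LP (LK LD1_c12 LD2_c41 LD3_c57)) :=
  Lgr Lrot117 (Lpr_dt (f135554 IH) (Lpr_at (f769735 IH) (Lpr_dt (f155230 IH) (Lpn (LP (LK LD1_c12 LD2_c41 LD3_c57))))))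
theorem f769741 : Led Lsl_at (LP (LK LD1_c17 LD2_c30 LD3_c46)) = (LP (LK LD1_c12 LD2_c41 LD3_c57)) :=
  Lgr Lrot100 (Lpr_af (f769739 IH) (Lpn (LP (LK LD1_c12 LD2_c41 LD3_c57))))
theorem f773391 : Led Lsl_at (LP (LK LD1_c21 LD2_c48 LD3_c44)) = (LP (LK LD1_c27 LD2_c20 LD3_c43)) :=
  Lgr Lrot107 (Lpr_cf (f773389 IH) (Lpe (f769741 IH) (Lpe (f705098 IH) (Lpn (LP (LK LD1_c27 LD2_c20 LD3_c43))))))
theorem f135538 : Led Lsl_dt (LP (LK LD1_c2 LD2_c22 LD3_c9)) = (LP (LK LD1_c4 LD2_c48 LD3_c33)) :=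
  Lre_d IH (LK LD1_c2 LD2_c22 LD3_c9) (LK LD1_c4 LD2_c48 LD3_c33) Lrfl Lrfl
theorem f634098 : Led Lsl_ct (LP (LK LD1_c17 LD2_c30 LD3_c42)) = (LP (LK LD1_c9 LD2_c29 LD3_c40)) :=
  Lre_c IH (LK LD1_c17 LD2_c30 LD3_c42) (LK LD1_c9 LD2_c29 LD3_c40) Lrfl Lrfl
theorem f634107 : Led Lsl_dt (LP (LK LD1_c27 LD2_c20 LD3_c41)) = (LP (LK LD1_c17 LD2_c30 LD3_c42)) :=
  Lre_d IH (LK LD1_c27 LD2_c20 LD3_c41) (LK LD1_c17 LD2_c30 LD3_c42) Lrfl Lrfl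
theorem f773493 : Led Lsl_ff (LP (LK LD1_c21 LD2_c48 LD3_c44)) = (LP (LK LD1_c27 LD2_c20 LD3_c41)) :=
  Lgr Lrot103 (Lpr_at (f773391 IH) (Lpe (f508523 IH) (Lpe (f135542 IH) (Lpe (K57.f135552 IH) (Lpe (f135538 IH) (Lpe (K58.f417062 IH) (Lpe (K58.f508524 IH) (Lpe (f634098 IH) (Lpe (f634107 IH) (Lpn (LP (LK LD1_c27 LD2_c20 LD3_c41))))))))))))
theorem f118042 : Led Lsl_ft (LP (LK LD1_c21 LD2_c43 LD3_c21)) = (LP (LK LD1_c12 LD2_c42 LD3_c9)) :=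
  Lgr Lrot4 (Lpr_cf (K4.f118028 IH) (Lpe (K4.f118040 IH) (Lpe (K4.f118041 IH) (Lpn (LP (LK LD1_c12 LD2_c42 LD3_c9))))))
theorem f773345 : Led Lsl_gf (LP (LK LD1_c27 LD2_c20 LD3_c43)) = (LP (LK LD1_c21 LD2_c43 LD3_c21)) :=
  Lgr Lrot47 (Lpr_gt (f773342 IH) (Lpe (K4.f118139 IH) (Lpe (f118042 IH) (Lpn (LP (LK LD1_c21 LD2_c43 LD3_c21))))))
theorem f773499 : Led Lsl_gf (LP (LK LD1_c21 LD2_c43 LD3_c21)) = (LP (LK LD1_c27 LD2_c20 LD3_c41)) :=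
  Lgr Lrot47 (Lpe (f773345 IH) (Lpe (f773391 IH) (Lpr_ff (f773493 IH) (Lpn (LP (LK LD1_c27 LD2_c20 LD3_c41))))))
theorem f118118 : Led Lsl_ft (LP (LK LD1_c21 LD2_c43 LD3_c31)) = (LP (LK LD1_c12 LD2_c41 LD3_c44)) :=
  Lgr Lrot4 (Lpe (K4.f118035 IH) (Lpe (K58.f118097 IH) (Lpr_cf (K4.f118103 IH) (Lpn (LP (LK LD1_c12 LD2_c41 LD3_c44))))))
theorem f118166 : Led Lsl_af (LP (LK LD1_c21 LD2_c43 LD3_c21)) = (LP (LK LD1_c12 LD2_c41 LD3_c44)) :=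
  Lgr Lrot45 (Lpr_ft (f118042 IH) (Lpr_at (K4.f118139 IH) (Lpr_ft (f118118 IH) (Lpn (LP (LK LD1_c12 LD2_c41 LD3_c44))))))
theorem f773501 : Led Lsl_gt (LP (LK LD1_c21 LD2_c43 LD3_c31)) = (LP (LK LD1_c27 LD2_c20 LD3_c41)) :=
  Lgr Lrot5 (Lpr_ft (f118118 IH) (Lpe (f118166 IH) (Lpr_gf (f773499 IH) (Lpn (LP (LK LD1_c27 LD2_c20 LD3_c41))))))
theorem f509209 : Led Lsl_ct (LP (LK LD1_c9 LD2_c29 LD3_c40)) = (LP (LK LD1_c17 LD2_c30 LD3_c42)) :=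
  Lre_c IH (LK LD1_c9 LD2_c29 LD3_c40) (LK LD1_c17 LD2_c30 LD3_c42) Lrfl Lrfl
theorem f509208 : Led Lsl_dt (LP (LK LD1_c4 LD2_c48 LD3_c32)) = (LP (LK LD1_c9 LD2_c29 LD3_c40)) :=
  Lre_d IH (LK LD1_c4 LD2_c48 LD3_c32) (LK LD1_c9 LD2_c29 LD3_c40) Lrfl Lrfl
theorem f774546 : Led Lsl_gt (LP (LK LD1_c12 LD2_c37 LD3_c24)) = (LP (LK LD1_c6 LD2_c38 LD3_c50)) :=
  Lgr Lrot94 (Lpr_cf (f774537 IH) (Lpr_gt (f119474 IH) (Lpr_dt (K4.f118219 IH) (Lpr_gt (f773501 IH) (Lpr_dt (f634107 IH) (Lpe (f509209 IH) (Lpe (f509208 IH) (Lpr_gf (K58.f705086 IH) (Lpqs (K58.f768717 IH) (Lpe (K58.f93801 IH) (Lpn (LP (LK LD1_c6 LD2_c38 LD3_c50)))))))))))))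
theorem f119505 : Led Lsl_ct (LP (LK LD1_c3 LD2_c15 LD3_c44)) = (LP (LK LD1_c6 LD2_c34 LD3_c46)) :=
  Lre_c IH (LK LD1_c3 LD2_c15 LD3_c44) (LK LD1_c6 LD2_c34 LD3_c46) Lrfl Lrfl
theorem f773384 : Led Lsl_cf (LP (LK LD1_c12 LD2_c41 LD3_c42)) = (LP (LK LD1_c6 LD2_c38 LD3_c48)) :=
  Lgr Lrot55 (Lpr_dt (f119541 IH) (Lpr_ct (f773378 IH) (Lpr_dt (f443664 IH) (Lpr_ct (f119490 IH) (Lpr_dt (K46.f61993 IH) (Lpr_ct (K46.f62060 IH) (Lpe (K46.f443660 IH) (Lpr_ct (f650874 IH) (Lpr_dt (f118150 IH) (Lpe (f651018 IH) (Lpr_dt (f119507 IH) (Lpr_ct (f119463 IH) (Lpr_dt (K46.f119503 IH) (Lpr_ct (f119505 IH) (Lpq (f754527 IH) (Lpe (f675488 IH) (Lpn (LP (LK LD1_c6 LD2_c38 LD3_c48)))))))))))))))))))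
theorem f774544 : Led Lsl_ft (LP (LK LD1_c12 LD2_c37 LD3_c24)) = (LP (LK LD1_c6 LD2_c38 LD3_c48)) :=
  Lgr Lrot4 (Lpr_cf (f774537 IH) (Lpr_ff (f773376 IH) (Lpr_cf (f773384 IH) (Lpn (LP (LK LD1_c6 LD2_c38 LD3_c48))))))
theorem f93677 : Led Lsl_gt (LP (LK LD1_c12 LD2_c37 LD3_c25)) = (LP (LK LD1_c6 LD2_c35 LD3_c41)) :=
  Lre_g IH (LK LD1_c12 LD2_c37 LD3_c25) (LK LD1_c6 LD2_c35 LD3_c41) Lrfl Lrfl
theorem f93799 : Led Lsl_gt (LP (LK LD1_c6 LD2_c38 LD3_c50)) = (LP (LK LD1_c12 LD2_c37 LD3_c25)) :=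
  Lgr Lrot5 (Lpr_ft (K58.f93798 IH) (Lpr_at (K58.f93789 IH) (Lpe (f93677 IH) (Lpn (LP (LK LD1_c12 LD2_c37 LD3_c25))))))
theorem f774549 : Led Lsl_at (LP (LK LD1_c6 LD2_c38 LD3_c48)) = (LP (LK LD1_c12 LD2_c37 LD3_c25)) :=
  Lgr Lrot26 (Lpe (f774544 IH) (Lpr_gt (f774546 IH) (Lpr_gt (f93799 IH) (Lpn (LP (LK LD1_c12 LD2_c37 LD3_c25))))))
theorem f774560 : Led Lsl_ct (LP (LK LD1_c21 LD2_c43 LD3_c19)) = (LP (LK LD1_c12 LD2_c37 LD3_c25)) :=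
  Lgr Lrot98 (Lpe (f118052 IH) (Lpr_cf (f773352 IH) (Lpe (f651761 IH) (Lpe (f118249 IH) (Lpq (K46.f651744 IH) (Lpe (K46.f650990 IH) (Lpe (f650994 IH) (Lpe (f774526 IH) (Lpr_ft (f774544 IH) (Lpr_at (f774549 IH) (Lpn (LP (LK LD1_c12 LD2_c37 LD3_c25)))))))))))))
theorem f417120 : Led Lsl_dt (LP (LK LD1_c9 LD2_c29 LD3_c45)) = (LP (LK LD1_c17 LD2_c30 LD3_c50)) :=
  Lre_d IH (LK LD1_c9 LD2_c29 LD3_c45) (LK LD1_c17 LD2_c30 LD3_c50) Lrfl Lrfl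
theorem f416171 : Led Lsl_ct (LP (LK LD1_c9 LD2_c21 LD3_c37)) = (LP (LK LD1_c4 LD2_c44 LD3_c25)) :=
  Lre_c IH (LK LD1_c9 LD2_c21 LD3_c37) (LK LD1_c4 LD2_c44 LD3_c25) Lrfl Lrfl
theorem f774562 : Led Lsl_df (LP (LK LD1_c9 LD2_c21 LD3_c37)) = (LP (LK LD1_c12 LD2_c37 LD3_c25)) :=
  Lgr Lrot43 (Lpr_ct (f416171 IH) (Lpr_dt (f417111 IH) (Lpr_ct (f151939 IH) (Lpr_dt (f417120 IH) (Lpr_ct (f652667 IH) (Lpr_dt (f773444 IH) (Lpe (f774537 IH) (Lpr_dt (f774526 IH) (Lpr_ct (f650994 IH) (Lpr_dt (K46.f650990 IH) (Lpqs (K46.f651744 IH) (Lpr_ct (f118249 IH) (Lpr_dt (f651761 IH) (Lpe (f773352 IH) (Lpr_dt (f118052 IH) (Lpr_ct (f774560 IH) (Lpn (LP (LK LD1_c12 LD2_c37 LD3_c25)))))))))))))))))))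
theorem f774565 : Led Lsl_at (LP (LK LD1_c9 LD2_c21 LD3_c37)) = v9353 :=
  Lgr Lrot51 (Lpr_df (f774562 IH) (Lpe (f774549 IH) (Lpr_df (f675488 IH) (Lpn v9353))))
theorem f774569 : Led Lsl_dt (LP (LK LD1_c9 LD2_c21 LD3_c37)) = (LP (LK LD1_c12 LD2_c37 LD3_c25)) :=
  Lgr Lrot42 (Lpr_df (f774562 IH) (Lpn (LP (LK LD1_c12 LD2_c37 LD3_c25))))
theorem f650991 : Led Lsl_ct (LP (LK LD1_c6 LD2_c34 LD3_c48)) = (LP (LK LD1_c12 LD2_c35 LD3_c61)) :=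
  Lre_c IH (LK LD1_c6 LD2_c34 LD3_c48) (LK LD1_c12 LD2_c35 LD3_c61) Lrfl Lrfl
theorem f650997 : Led Lsl_at (LP (LK LD1_c12 LD2_c35 LD3_c61)) = (LP (LK LD1_c12 LD2_c41 LD3_c59)) :=
  Lgr Lrot107 (Lpe (f650991 IH) (Lpr_af (K46.f650992 IH) (Lpe (K46.f62056 IH) (Lpn (LP (LK LD1_c12 LD2_c41 LD3_c59))))))
theorem f774528 : Led Lsl_af (LP (LK LD1_c12 LD2_c37 LD3_c24)) = (LP (LK LD1_c6 LD2_c38 LD3_c47)) :=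
  Lgr Lrot117 (Lpr_dt (f774526 IH) (Lpr_at (f650997 IH) (Lpe (K46.f443660 IH) (Lpn (LP (LK LD1_c6 LD2_c38 LD3_c47))))))
theorem f774558 : Led Lsl_ff (LP (LK LD1_c6 LD2_c38 LD3_c47)) = (LP (LK LD1_c12 LD2_c37 LD3_c25)) :=
  Lgr Lrot30 (Lpe (f774528 IH) (Lpr_ft (f774544 IH) (Lpr_at (f774549 IH) (Lpn (LP (LK LD1_c12 LD2_c37 LD3_c25))))))
theorem f774581 : Led Lsl_ff (LP (LK LD1_c9 LD2_c21 LD3_c37)) = (LP (LK LD1_c12 LD2_c41 LD3_c59)) :=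
  Lgr Lrot19 (Lpr_dt (f774569 IH) (Lpe (f774558 IH) (Lpr_dt (K46.f443665 IH) (Lpn (LP (LK LD1_c12 LD2_c41 LD3_c59))))))
theorem f776376 : Led Lsl_gt (LP (LK LD1_c12 LD2_c41 LD3_c59)) = v18903 :=
  Lgr Lrot5 (Lpe (f774581 IH) (Lpr_at (f774565 IH) (Lpqs (f754527 IH) (Lpr_gf (f776375 IH) (Lpn v18903)))))
theorem f774553 : Led Lsl_cf (LP (LK LD1_c21 LD2_c43 LD3_c19)) = (LP (LK LD1_c12 LD2_c37 LD3_c25)) :=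
  Lgr Lrot1 (Lpe (f773454 IH) (Lpr_ct (f773406 IH) (Lpr_at (f774549 IH) (Lpn (LP (LK LD1_c12 LD2_c37 LD3_c25))))))
theorem f773350 : Led Lsl_ct (LP (LK LD1_c30 LD2_c7 LD3_c51)) = (LP (LK LD1_c21 LD2_c43 LD3_c25)) :=
  Lgr Lrot7 (Lpe (f119436 IH) (Lpe (f119434 IH) (Lpe (K4.f118037 IH) (Lpe (f773342 IH) (Lpe (f508523 IH) (Lpr_gt (f769723 IH) (Lpr_dt (K4.f88685 IH) (Lpr_gt (f773348 IH) (Lpr_dt (f651761 IH) (Lpn (LP (LK LD1_c21 LD2_c43 LD3_c25))))))))))))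
theorem f118248 : Led Lsl_ct (LP (LK LD1_c12 LD2_c37 LD3_c4)) = (LP (LK LD1_c6 LD2_c35 LD3_c32)) :=
  Lre_c IH (LK LD1_c12 LD2_c37 LD3_c4) (LK LD1_c6 LD2_c35 LD3_c32) Lrfl Lrfl
theorem f651008 : Led Lsl_af (LP (LK LD1_c12 LD2_c35 LD3_c61)) = (LP (LK LD1_c12 LD2_c41 LD3_c59)) :=
  Lgr Lrot0 (Lpr_at (f650997 IH) (Lpn (LP (LK LD1_c12 LD2_c41 LD3_c59))))
theorem f774583 : Led Lsl_ft (LP (LK LD1_c9 LD2_c21 LD3_c37)) = (LP (LK LD1_c12 LD2_c41 LD3_c59)) :=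
  Lgr Lrot142 (Lpr_dt (f774569 IH) (Lpe (f774553 IH) (Lpr_dt (f119436 IH) (Lpr_ct (f773350 IH) (Lpr_dt (f651756 IH) (Lpr_ct (f118248 IH) (Lpq (K46.f651744 IH) (Lpe (K56.f650988 IH) (Lpr_ct (f650991 IH) (Lpr_af (f651008 IH) (Lpn (LP (LK LD1_c12 LD2_c41 LD3_c59)))))))))))))
theorem f774587 : Led Lsl_ff (LP (LK LD1_c12 LD2_c37 LD3_c25)) = (LP (LK LD1_c6 LD2_c38 LD3_c47)) :=
  Lgr Lrot19 (Lpe (f774562 IH) (Lpr_ft (f774583 IH) (Lpe (K46.f443660 IH) (Lpn (LP (LK LD1_c6 LD2_c38 LD3_c47))))))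
theorem f504724 : Led Lsl_bt (LP (LK LD1_c17 LD2_c2 LD3_c12)) = (LP (LK LD1_c9 LD2_c21 LD3_c37)) :=
  Lgr Lrot128 (Lpe (K45.f504723 IH) (Lpe (K45.f504722 IH) (Lpr_cf (K32.f504720 IH) (Lpe (f416170 IH) (Lpe (f416171 IH) (Lpn (LP (LK LD1_c9 LD2_c21 LD3_c37))))))))
theorem f774579 : Led Lsl_bf (LP (LK LD1_c17 LD2_c5 LD3_c30)) = (LP (LK LD1_c12 LD2_c37 LD3_c25)) :=
  Lgr Lrot93 (Lpr_dt (K50.f642849 IH) (Lpr_bt (f504724 IH) (Lpr_dt (f774569 IH) (Lpn (LP (LK LD1_c12 LD2_c37 LD3_c25))))))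
theorem f443667 : Led Lsl_bt (LP (LK LD1_c12 LD2_c43 LD3_c13)) = (LP (LK LD1_c6 LD2_c38 LD3_c47)) :=
  Lre_b IH (LK LD1_c12 LD2_c43 LD3_c13) (LK LD1_c6 LD2_c38 LD3_c47) Lrfl Lrfl
theorem f774589 : Led Lsl_ft (LP (LK LD1_c17 LD2_c5 LD3_c30)) = (LP (LK LD1_c12 LD2_c43 LD3_c13)) :=
  Lgr Lrot75 (Lpr_bf (f774579 IH) (Lpr_ff (f774587 IH) (Lpe (f443667 IH) (Lpn (LP (LK LD1_c12 LD2_c43 LD3_c13))))))
theorem f774593 : Led Lsl_df (LP (LK LD1_c20 LD2_c51 LD3_c16)) = (LP (LK LD1_c12 LD2_c43 LD3_c13)) :=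
  Lgr Lrot78 (Lpr_ft (K45.f507546 IH) (Lpe (K50.f642845 IH) (Lpr_ft (f774589 IH) (Lpn (LP (LK LD1_c12 LD2_c43 LD3_c13))))))
theorem f443663 : Led Lsl_bt (LP (LK LD1_c6 LD2_c38 LD3_c47)) = (LP (LK LD1_c12 LD2_c43 LD3_c13)) :=
  Lre_b IH (LK LD1_c6 LD2_c38 LD3_c47) (LK LD1_c12 LD2_c43 LD3_c13) Lrfl Lrfl
theorem f774764 : Led Lsl_bt (LP (LK LD1_c20 LD2_c51 LD3_c16)) = (LP (LK LD1_c12 LD2_c41 LD3_c59)) :=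
  Lgr Lrot95 (Lpr_df (f774593 IH) (Lpe (f443663 IH) (Lpr_df (K46.f443660 IH) (Lpn (LP (LK LD1_c12 LD2_c41 LD3_c59))))))
theorem f501160 : Led Lsl_gt (LP (LK LD1_c11 LD2_c50 LD3_c25)) = (LP (LK LD1_c6 LD2_c3 LD3_c19)) :=
  Lre_g IH (LK LD1_c11 LD2_c50 LD3_c25) (LK LD1_c6 LD2_c3 LD3_c19) Lrfl Lrfl
theorem f561875 : Led Lsl_ef (LP (LK LD1_c9 LD2_c15 LD3_c13)) = (LP (LK LD1_c16 LD2_c59 LD3_c56)) :=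
  Lgr Lrot73 (Lpr_dt (K53.f80006 IH) (Lpr_et (K53.f79994 IH) (Lpr_dt (K51.f61452 IH) (Lpe (K40.f561837 IH) (Lpr_dt (K40.f561857 IH) (Lpn (LP (LK LD1_c16 LD2_c59 LD3_c56))))))))
theorem f557986 : Led Lsl_et (LP (LK LD1_c4 LD2_c37 LD3_c59)) = (LP (LK LD1_c9 LD2_c11 LD3_c38)) :=
  Lre_e IH (LK LD1_c4 LD2_c37 LD3_c59) (LK LD1_c9 LD2_c11 LD3_c38) Lrfl Lrfl
theorem f614678 : Led Lsl_af (LP (LK LD1_c6 LD2_c2 LD3_c37)) = (LP (LK LD1_c9 LD2_c11 LD3_c38)) :=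
  Lgr Lrot50 (Lpr_et (K42.f505197 IH) (Lpr_at (K45.f614668 IH) (Lpr_et (f557986 IH) (Lpn (LP (LK LD1_c9 LD2_c11 LD3_c38))))))
theorem f614680 : Led Lsl_at (LP (LK LD1_c6 LD2_c2 LD3_c37)) = (LP (LK LD1_c9 LD2_c11 LD3_c38)) :=
  Lgr Lrot100 (Lpr_af (f614678 IH) (Lpn (LP (LK LD1_c9 LD2_c11 LD3_c38))))
theorem f653040 : Led Lsl_gt (LP (LK LD1_c4 LD2_c38 LD3_c18)) = (LP (LK LD1_c9 LD2_c11 LD3_c38)) :=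
  Lgr Lrot46 (Lpe (K46.f615056 IH) (Lpr_ft (K55.f653030 IH) (Lpr_at (f614680 IH) (Lpn (LP (LK LD1_c9 LD2_c11 LD3_c38))))))
theorem f452286 : Led Lsl_dt (LP (LK LD1_c17 LD2_c5 LD3_c18)) = (LP (LK LD1_c9 LD2_c11 LD3_c38)) :=
  Lre_d IH (LK LD1_c17 LD2_c5 LD3_c18) (LK LD1_c9 LD2_c11 LD3_c38) Lrfl Lrfl
theorem f710778 : Led Lsl_ef (LP (LK LD1_c11 LD2_c50 LD3_c25)) = (LP (LK LD1_c17 LD2_c5 LD3_c18)) :=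
  Lgr Lrot114 (Lpr_gt (f501160 IH) (Lpe (K56.f645851 IH) (Lpr_dt (K55.f645848 IH) (Lpr_gt (K53.f710771 IH) (Lpr_df (K40.f561851 IH) (Lpe (f561875 IH) (Lpr_gt (K53.f79999 IH) (Lpr_dt (K53.f80003 IH) (Lpr_gt (f653040 IH) (Lpe (f452286 IH) (Lpn (LP (LK LD1_c17 LD2_c5 LD3_c18)))))))))))))
theorem f710786 : Led Lsl_et (LP (LK LD1_c11 LD2_c50 LD3_c25)) = (LP (LK LD1_c17 LD2_c5 LD3_c18)) :=
  Lgr Lrot87 (Lpr_ef (f710778 IH) (Lpn (LP (LK LD1_c17 LD2_c5 LD3_c18))))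
theorem f710784 : Led Lsl_dt (LP (LK LD1_c11 LD2_c50 LD3_c25)) = (LP (LK LD1_c9 LD2_c7 LD3_c16)) :=
  Lgr Lrot77 (Lpr_ef (f710778 IH) (Lpe (K11.f207357 IH) (Lpe (f557986 IH) (Lpe (K45.f207355 IH) (Lpe (K56.f557984 IH) (Lpn (LP (LK LD1_c9 LD2_c7 LD3_c16))))))))
theorem f161076 : Led Lsl_gt (LP (LK LD1_c4 LD2_c35 LD3_c22)) = (LP (LK LD1_c9 LD2_c7 LD3_c16)) :=
  Lre_g IH (LK LD1_c4 LD2_c35 LD3_c22) (LK LD1_c9 LD2_c7 LD3_c16) Lrfl Lrfl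
theorem f500435 : Led Lsl_dt (LP (LK LD1_c9 LD2_c7 LD3_c18)) = (LP (LK LD1_c4 LD2_c35 LD3_c22)) :=
  Lre_d IH (LK LD1_c9 LD2_c7 LD3_c18) (LK LD1_c4 LD2_c35 LD3_c22) Lrfl Lrfl
theorem f71808 : Led Lsl_et (LP (LK LD1_c9 LD2_c7 LD3_c18)) = (LP (LK LD1_c4 LD2_c35 LD3_c24)) :=
  Lre_e IH (LK LD1_c9 LD2_c7 LD3_c18) (LK LD1_c4 LD2_c35 LD3_c24) Lrfl Lrfl
theorem f34950 : Led Lsl_ft (LP (LK LD1_c4 LD2_c35 LD3_c40)) = (LP (LK LD1_c2 LD2_c14 LD3_c59)) :=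
  Lre_f IH (LK LD1_c4 LD2_c35 LD3_c40) (LK LD1_c2 LD2_c14 LD3_c59) Lrfl Lrfl
theorem f34951 : Led Lsl_at (LP (LK LD1_c2 LD2_c14 LD3_c59)) = (LP (LK LD1_c4 LD2_c35 LD3_c24)) :=
  Lre_a IH (LK LD1_c2 LD2_c14 LD3_c59) (LK LD1_c4 LD2_c35 LD3_c24) Lrfl Lrfl
theorem f542342 : Led Lsl_gt (LP (LK LD1_c2 LD2_c16 LD3_c56)) = (LP (LK LD1_c4 LD2_c35 LD3_c24)) :=
  Lgr Lrot46 (Lpr_gf (K37.f542340 IH) (Lpr_ft (f34950 IH) (Lpr_at (f34951 IH) (Lpn (LP (LK LD1_c4 LD2_c35 LD3_c24))))))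
theorem f100086 : Led Lsl_dt (LP (LK LD1_c4 LD2_c39 LD3_c50)) = (LP (LK LD1_c2 LD2_c17 LD3_c3)) :=
  Lre_d IH (LK LD1_c4 LD2_c39 LD3_c50) (LK LD1_c2 LD2_c17 LD3_c3) Lrfl Lrfl
theorem f100110 : Led Lsl_dt (LP (LK LD1_c9 LD2_c15 LD3_c35)) = (LP (LK LD1_c4 LD2_c40 LD3_c1)) :=
  Lre_d IH (LK LD1_c9 LD2_c15 LD3_c35) (LK LD1_c4 LD2_c40 LD3_c1) Lrfl Lrfl
theorem f710794 : Led Lsl_gf (LP (LK LD1_c9 LD2_c15 LD3_c35)) = (LP (LK LD1_c17 LD2_c5 LD3_c18)) :=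
  Lgr Lrot138 (Lpr_dt (f100110 IH) (Lpr_gt (K56.f79978 IH) (Lpe (f100086 IH) (Lpr_et (K36.f542350 IH) (Lpr_gt (f542342 IH) (Lpe (f71808 IH) (Lpr_dt (f500435 IH) (Lpr_gt (f161076 IH) (Lpe (f710784 IH) (Lpr_et (f710786 IH) (Lpn (LP (LK LD1_c17 LD2_c5 LD3_c18)))))))))))))
theorem f100103 : Led Lsl_dt (LP (LK LD1_c4 LD2_c40 LD3_c1)) = (LP (LK LD1_c9 LD2_c15 LD3_c35)) :=
  Lre_d IH (LK LD1_c4 LD2_c40 LD3_c1) (LK LD1_c9 LD2_c15 LD3_c35) Lrfl Lrfl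
theorem f701150 : Led Lsl_et (LP (LK LD1_c4 LD2_c40 LD3_c1)) = (LP (LK LD1_c9 LD2_c15 LD3_c36)) :=
  Lre_e IH (LK LD1_c4 LD2_c40 LD3_c1) (LK LD1_c9 LD2_c15 LD3_c36) Lrfl Lrfl
theorem f710796 : Led Lsl_gt (LP (LK LD1_c9 LD2_c15 LD3_c36)) = (LP (LK LD1_c11 LD2_c48 LD3_c47)) :=
  Lgr Lrot137 (Lpe (f701150 IH) (Lpr_dt (f100103 IH) (Lpr_gf (f710794 IH) (Lpe (K11.f207357 IH) (Lpr_et (K11.f207356 IH) (Lpr_gf (K45.f207345 IH) (Lpe (K50.f206894 IH) (Lpr_dt (K35.f207099 IH) (Lpe (K46.f644687 IH) (Lpe (K51.f444654 IH) (Lpn (LP (LK LD1_c11 LD2_c48 LD3_c47)))))))))))))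
theorem f710801 : Led Lsl_ct (LP (LK LD1_c17 LD2_c10 LD3_c5)) = (LP (LK LD1_c9 LD2_c15 LD3_c36)) :=
  Lre_c IH (LK LD1_c17 LD2_c10 LD3_c5) (LK LD1_c9 LD2_c15 LD3_c36) Lrfl Lrfl
theorem f776381 : Led Lsl_bf (LP (LK LD1_c23 LD2_c47 LD3_c37)) = (LP (LK LD1_c17 LD2_c10 LD3_c5)) :=
  Lgr Lrot34 (Lpe (f93385 IH) (Lpe (f93384 IH) (Lpr_ct (K58.f93376 IH) (Lpr_gf (f664766 IH) (Lpr_cf (f776378 IH) (Lpe (f776376 IH) (Lpe (f774764 IH) (Lpr_ct (K45.f415434 IH) (Lpe (f710796 IH) (Lpe (f710801 IH) (Lpn (LP (LK LD1_c17 LD2_c10 LD3_c5)))))))))))))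
theorem f776382 : Led Lsl_bt (LP (LK LD1_c17 LD2_c10 LD3_c5)) = (LP (LK LD1_c23 LD2_c47 LD3_c37)) :=
  Leop (Lpr_bf (f776381 IH) (Lpn (LP (LK LD1_c17 LD2_c10 LD3_c5))))
theorem seed_1398 : LEOK LG_b (LK LD1_c17 LD2_c10 LD3_c5) :=
  Leoe_b (LK LD1_c17 LD2_c10 LD3_c5) (f776382 IH)
def v18941 : LQ := Led Lsl_gf (LP (LK LD1_c6 LD2_c35 LD3_c20))
theorem f776548 : Led Lsl_gf (LP (LK LD1_c6 LD2_c35 LD3_c20)) = v18941 :=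
  Lrfl
def v8080 : LQ := Led Lsl_gt v1785
theorem f669902 : Led Lsl_gt v1785 = v8080 :=
  Lrfl
def v2068 : LQ := Led Lsl_gt (LP (LK LD1_c1 LD2_c34 LD3_c43))
def v8499 : LQ := Led Lsl_at v2068
theorem f671447 : Led Lsl_at v2068 = v8499 :=
  Lrfl
theorem f671448 : Led Lsl_af v2068 = v8499 :=
  Lgr Lrot0 (Lpr_at (f671447 IH) (Lpn v8499))
theorem f508674 : Led Lsl_gt (LP (LK LD1_c1 LD2_c34 LD3_c43)) = v2068 :=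
  Lrfl
theorem f671449 : Led Lsl_ft v2069 = v8499 :=
  Lgr Lrot2 (Lpe (f508676 IH) (Lpr_gt (f508674 IH) (Lpr_af (f671448 IH) (Lpn v8499))))
theorem f671450 : Led Lsl_ff v2069 = v8499 :=
  Lgr Lrot3 (Lpr_ft (f671449 IH) (Lpn v8499))
theorem f769109 : Led Lsl_cf v8499 = K58.v10652 :=
  Lgr Lrot108 (Lpe (f671450 IH) (Lpq (f768885 IH) (Lpqs (f768829 IH) (Lpe (f681273 IH) (Lpr_ft (K58.f681256 IH) (Lpn K58.v10652))))))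
theorem f450586 : Led Lsl_af (LP (LK LD1_c0 LD2_c19 LD3_c13)) = K34.v124 :=
  Lgr Lrot117 (Lpr_dt (K5.f23440 IH) (Lpr_at (K2.f23578 IH) (Lpr_dt (K34.f450585 IH) (Lpn K34.v124))))
theorem f490722 : Led Lsl_at K58.v127 = K58.v954 :=
  Lgr Lrot80 (Lpe (K58.f450612 IH) (Lpr_af (f450586 IH) (Lpr_ef (K58.f490721 IH) (Lpn K58.v954))))
def v963 : LQ := Led Lsl_ft K58.v127
theorem f490754 : Led Lsl_ft K58.v127 = v963 :=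
  Lrfl
theorem f490756 : Led Lsl_ff K58.v127 = v963 :=
  Lgr Lrot3 (Lpr_ft (f490754 IH) (Lpn v963))
theorem f626310 : Led Lsl_af v963 = v3573 :=
  Lgr Lrot45 (Lpe (f490756 IH) (Lpr_at (f490722 IH) (Lpr_ft (f626309 IH) (Lpn v3573))))
theorem f626312 : Led Lsl_gt K58.v3570 = v963 :=
  Lgr Lrot46 (Lpe (K58.f626300 IH) (Lpr_ft (f626309 IH) (Lpe (f626310 IH) (Lpn v963))))
theorem f450613 : Led Lsl_bf K29.v81 = K58.v127 :=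
  Lgr Lrot96 (Lpe (K29.f446810 IH) (Lpr_bt (K3.f59507 IH) (Lpr_et (K58.f450612 IH) (Lpn K58.v127))))
theorem f490757 : Led Lsl_bt K29.v269 = v963 :=
  Lgr Lrot35 (Lpe (K29.f451471 IH) (Lpr_bf (f450613 IH) (Lpr_ff (f490756 IH) (Lpn v963))))
theorem f446812 : Led Lsl_ct (LP (LK LD1_c0 LD2_c38 LD3_c24)) = K29.v81 :=
  Lgr Lrot15 (Lpe (K50.f59504 IH) (Lpr_cf (K1.f59479 IH) (Lpr_ef (K29.f446810 IH) (Lpn K29.v81))))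
theorem f452823 : Led Lsl_ct K29.v269 = K24.v437 :=
  Lgr Lrot40 (Lpe (K29.f451471 IH) (Lpe (f446812 IH) (Lpr_ff (K35.f452819 IH) (Lpn K24.v437))))
theorem f452825 : Led Lsl_gf (LP (LK LD1_c2 LD2_c15 LD3_c0)) = K24.v437 :=
  Lgr Lrot47 (Lpr_gt (K50.f186190 IH) (Lpr_af (K35.f442463 IH) (Lpr_ff (K35.f452819 IH) (Lpn K24.v437))))
def v4380 : LQ := Led Lsl_gt (LP (LK LD1_c2 LD2_c20 LD3_c15))
theorem f633026 : Led Lsl_gt (LP (LK LD1_c2 LD2_c20 LD3_c15)) = v4380 :=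
  Lrfl
theorem f768792 : K35.v460 = v4380 :=
  Lefun (Lecon (Lfl_gf (K49.f622616 IH)) ((K58.f678571 IH).trans (K58.f768784 IH))) (f633026 IH)
theorem f502882 : Led Lsl_ef (LP (LK LD1_c1 LD2_c26 LD3_c59)) = v1785 :=
  Lgr Lrot88 (Lpr_et (f502879 IH) (Lpn v1785))
theorem f502884 : Led Lsl_ct K35.v460 = v1785 :=
  Lgr Lrot15 (Lpe (K35.f452997 IH) (Lpe (K3.f64912 IH) (Lpr_ef (f502882 IH) (Lpn v1785))))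
theorem f769112 : v8499 = v8080 :=
  (Llr Lrot63 (Lpr_cf (f769109 IH) (Lpq (K58.f768832 IH) (Lpe (K58.f682871 IH) (Lpqs (K58.f769102 IH) (Lpr_gt (f626312 IH) (Lpe (f490757 IH) (Lpr_ct (f452823 IH) (Lpe (f452825 IH) (Lpe (K35.f446201 IH) (Lpr_bt (K58.f446197 IH) (Lpr_gt (f633026 IH) (Lpq (f768792 IH) (Lpr_ct (f502884 IH) (Lpr_gt (f669902 IH) (Lpn v8080)))))))))))))))).symm
def v3438 : LQ := Led Lsl_ct K58.v830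
theorem f625658 : Led Lsl_ct K58.v830 = v3438 :=
  Lrfl
theorem f769129 : K58.v830 = K58.v10652 :=
  Lefun (Lecon (Lfl_af (K58.f625653 IH)) (K58.f769126 IH)) (K58.f681254 IH)
theorem f769136 : v8499 = v3438 :=
  Lefun (Lecon (Lfl_cf (f769109 IH)) (f769129 IH).symm) (f625658 IH)
def v10706 : LQ := Led Lsl_et v3438
theorem f681459 : Led Lsl_et v3438 = v10706 :=
  Lrfl
theorem f681461 : Led Lsl_ef v3438 = v10706 :=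
  Lgr Lrot88 (Lpr_et (f681459 IH) (Lpn v10706))
theorem f754670 : Led Lsl_ct (LP (LK LD1_c21 LD2_c42 LD3_c55)) = (LP (LK LD1_c12 LD2_c37 LD3_c10)) :=
  Lgr Lrot59 (Lpr_cf (K56.f754668 IH) (Lpn (LP (LK LD1_c12 LD2_c37 LD3_c10))))
def v17105 : LQ := Led Lsl_gf (LP (LK LD1_c6 LD2_c11 LD3_c31))
theorem f755109 : Led Lsl_gf (LP (LK LD1_c6 LD2_c11 LD3_c31)) = v17105 :=
  Lrfl
theorem f776550 : Led Lsl_dt v17105 = v18941 :=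
  Lgr Lrot6 (Lpe (f755109 IH) (Lpr_ct (K46.f130842 IH) (Lpr_gt (K46.f130834 IH) (Lpr_ct (K57.f755125 IH) (Lpe (K57.f755129 IH) (Lpe (f754670 IH) (Lpe (K56.f118463 IH) (Lpe (K4.f118410 IH) (Lpr_gf (f776548 IH) (Lpn v18941))))))))))
theorem f776552 : v10706 = v17105 :=
  (Llr Lrot17 (Lpe (f681461 IH) (Lpq (f769136 IH) (Lpqs (f769112 IH) (Lpe (f669902 IH) (Lpe (f502879 IH) (Lpr_dt (K3.f96042 IH) (Lpe (K3.f96615 IH) (Lpe (K3.f66434 IH) (Lpe (K4.f96756 IH) (Lpe (K4.f118378 IH) (Lpr_dt (K4.f118393 IH) (Lpr_gf (f776548 IH) (Lpe (f776550 IH) (Lpn v17105))))))))))))))).symm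
theorem f755130 : Led Lsl_df (LP (LK LD1_c12 LD2_c37 LD3_c10)) = K57.v17109 :=
  Lgr Lrot38 (Lpr_dt (K57.f755129 IH) (Lpn K57.v17109))
theorem f776551 : Led Lsl_df v17105 = v18941 :=
  Lgr Lrot155 (Lpe (f755109 IH) (Lpr_ct (K46.f130842 IH) (Lpr_gt (K46.f130834 IH) (Lpr_ct (K57.f755125 IH) (Lpe (f755130 IH) (Lpe (f754670 IH) (Lpe (K56.f118463 IH) (Lpe (K4.f118410 IH) (Lpr_gf (f776548 IH) (Lpn v18941))))))))))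
def v10692 : LQ := Led Lsl_ct K58.v3436
theorem f681418 : Led Lsl_ct K58.v3436 = v10692 :=
  Lrfl
theorem f681420 : Led Lsl_cf K58.v3436 = v10692 :=
  Lgr Lrot11 (Lpr_ct (f681418 IH) (Lpn v10692))
theorem f681423 : Led Lsl_at v3438 = v10692 :=
  Lgr Lrot107 (Lpe (f625658 IH) (Lpr_af (K58.f625653 IH) (Lpr_cf (f681420 IH) (Lpn v10692))))
def v10654 : LQ := Led Lsl_ct K58.v3422
theorem f681260 : Led Lsl_ct K58.v3422 = v10654 :=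
  Lrfl
theorem f769130 : v10692 = v10654 :=
  Lefun (Lecon (f681418 IH) (K58.f769126 IH)) (f681260 IH)
def v8501 : LQ := Led Lsl_ct v2068
theorem f671453 : Led Lsl_ct v2068 = v8501 :=
  Lrfl
theorem f671454 : Led Lsl_cf v2068 = v8501 :=
  Lgr Lrot11 (Lpr_ct (f671453 IH) (Lpn v8501))
theorem f769111 : v8501 = K58.v3422 :=
  (Llr Lrot111 (Lpe (f671453 IH) (Lpr_af (f671448 IH) (Lpr_cf (f769109 IH) (Lpe (K58.f681254 IH) (Lpn K58.v3422)))))).symm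
theorem f769113 : v2068 = v10654 :=
  Lefun (Lecon (Lfl_cf (f671454 IH)) (f769111 IH)) (f681260 IH)
def v8503 : LQ := Led Lsl_et v2068
theorem f671457 : Led Lsl_et v2068 = v8503 :=
  Lrfl
theorem f775794 : Led Lsl_af v10706 = v8503 :=
  Lgr Lrot50 (Lpe (f681461 IH) (Lpr_at (f681423 IH) (Lpqs (f769130 IH) (Lpq (f769113 IH) (Lpr_et (f671457 IH) (Lpn v8503))))))
theorem f775795 : Led Lsl_at v10706 = v8503 :=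
  Lgr Lrot100 (Lpr_af (f775794 IH) (Lpn v8503))
theorem f671458 : Led Lsl_ef v2068 = v8503 :=
  Lgr Lrot88 (Lpr_et (f671457 IH) (Lpn v8503))
def v2070 : LQ := Led Lsl_ft (LP (LK LD1_c1 LD2_c34 LD3_c43))
theorem f508678 : Led Lsl_ft (LP (LK LD1_c1 LD2_c34 LD3_c43)) = v2070 :=
  Lrfl
theorem f669911 : Led Lsl_at v2070 = v8082 :=
  Lgr Lrot66 (Lpe (f508678 IH) (Lpr_af (f502880 IH) (Lpr_ff (f669909 IH) (Lpn v8082))))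
theorem f669915 : Led Lsl_gt v2068 = v8082 :=
  Lgr Lrot46 (Lpe (f508674 IH) (Lpr_ft (f508678 IH) (Lpr_at (f669911 IH) (Lpn v8082))))
theorem f137729 : Led Lsl_ff (LP (LK LD1_c0 LD2_c43 LD3_c56)) = (LP (LK LD1_c1 LD2_c26 LD3_c59)) :=
  Lgr Lrot25 (Lpr_bt (K6.f7160 IH) (Lpr_ft (K6.f137714 IH) (Lpr_bt (K4.f96071 IH) (Lpn (LP (LK LD1_c1 LD2_c26 LD3_c59))))))
theorem f669913 : Led Lsl_et K32.v2057 = v8082 :=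
  Lgr Lrot69 (Lpe (K32.f508613 IH) (Lpe (K5.f66011 IH) (Lpr_ff (f137729 IH) (Lpr_ef (f502882 IH) (Lpr_ff (f669909 IH) (Lpn v8082))))))
theorem f118498 : Led Lsl_dt (LP (LK LD1_c6 LD2_c35 LD3_c21)) = (LP (LK LD1_c12 LD2_c36 LD3_c45)) :=
  Lre_d IH (LK LD1_c6 LD2_c35 LD3_c21) (LK LD1_c12 LD2_c36 LD3_c45) Lrfl Lrfl
theorem f118395 : Led Lsl_at (LP (LK LD1_c6 LD2_c35 LD3_c20)) = (LP (LK LD1_c3 LD2_c16 LD3_c51)) :=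
  Lgr Lrot51 (Lpe (K4.f118393 IH) (Lpr_af (K4.f118379 IH) (Lpe (K4.f118394 IH) (Lpn (LP (LK LD1_c3 LD2_c16 LD3_c51))))))
theorem f118475 : Led Lsl_ft (LP (LK LD1_c12 LD2_c36 LD3_c45)) = (LP (LK LD1_c6 LD2_c35 LD3_c20)) :=
  Lre_f IH (LK LD1_c12 LD2_c36 LD3_c45) (LK LD1_c6 LD2_c35 LD3_c20) Lrfl Lrfl
theorem f103934 : Led Lsl_gt (LP (LK LD1_c6 LD2_c37 LD3_c4)) = (LP (LK LD1_c3 LD2_c16 LD3_c51)) :=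
  Lre_g IH (LK LD1_c6 LD2_c37 LD3_c4) (LK LD1_c3 LD2_c16 LD3_c51) Lrfl Lrfl
theorem f119168 : Led Lsl_gt (LP (LK LD1_c12 LD2_c36 LD3_c45)) = (LP (LK LD1_c6 LD2_c37 LD3_c4)) :=
  Lgr Lrot5 (Lpr_ft (f118475 IH) (Lpr_at (f118395 IH) (Lpe (f103934 IH) (Lpn (LP (LK LD1_c6 LD2_c37 LD3_c4))))))
theorem f671459 : Led Lsl_df (LP (LK LD1_c6 LD2_c37 LD3_c4)) = v8503 :=
  Lgr Lrot132 (Lpe (f119168 IH) (Lpe (f118498 IH) (Lpr_gf (K58.f119085 IH) (Lpr_ef (K46.f650658 IH) (Lpe (K46.f650659 IH) (Lpr_gf (K58.f650257 IH) (Lpe (K58.f650256 IH) (Lpr_et (f669913 IH) (Lpe (f669915 IH) (Lpr_ef (f671458 IH) (Lpn v8503)))))))))))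
theorem f776553 : Led Lsl_af v18941 = (LP (LK LD1_c6 LD2_c37 LD3_c4)) :=
  Lgr Lrot117 (Lpe (f776551 IH) (Lpq (f776552 IH) (Lpr_at (f775795 IH) (Lpe (f671459 IH) (Lpn (LP (LK LD1_c6 LD2_c37 LD3_c4)))))))
theorem f118549 : Led Lsl_ft (LP (LK LD1_c6 LD2_c37 LD3_c6)) = (LP (LK LD1_c3 LD2_c16 LD3_c51)) :=
  Lre_f IH (LK LD1_c6 LD2_c37 LD3_c6) (LK LD1_c3 LD2_c16 LD3_c51) Lrfl Lrfl
theorem f118550 : Led Lsl_af (LP (LK LD1_c6 LD2_c35 LD3_c20)) = (LP (LK LD1_c3 LD2_c16 LD3_c51)) :=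
  Lgr Lrot109 (Lpe (K57.f118441 IH) (Lpe (K57.f118538 IH) (Lpr_cf (K57.f118541 IH) (Lpe (K57.f118540 IH) (Lpe (K57.f118539 IH) (Lpe (K46.f118520 IH) (Lpe (K46.f118355 IH) (Lpe (K46.f118466 IH) (Lpr_ft (f118549 IH) (Lpn (LP (LK LD1_c3 LD2_c16 LD3_c51))))))))))))
theorem f776549 : Led Lsl_gt (LP (LK LD1_c6 LD2_c37 LD3_c6)) = v18941 :=
  Lgr Lrot5 (Lpr_ft (f118549 IH) (Lpe (f118550 IH) (Lpr_gf (f776548 IH) (Lpn v18941))))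
theorem f776556 : Led Lsl_ft (LP (LK LD1_c12 LD2_c36 LD3_c43)) = (LP (LK LD1_c6 LD2_c37 LD3_c4)) :=
  Lgr Lrot2 (Lpr_gt (K46.f119117 IH) (Lpr_gt (f776549 IH) (Lpr_af (f776553 IH) (Lpn (LP (LK LD1_c6 LD2_c37 LD3_c4))))))
theorem f776557 : Led Lsl_ft (LP (LK LD1_c12 LD2_c36 LD3_c43)) = (LP (LK LD1_c6 LD2_c37 LD3_c4)) :=
  Leop (Lpe (f776556 IH) (Lpn (LP (LK LD1_c12 LD2_c36 LD3_c43))))
theorem seed_1399 : LEOK LG_f (LK LD1_c12 LD2_c36 LD3_c43) :=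
  Leoe_f (LK LD1_c12 LD2_c36 LD3_c43) (f776557 IH)
def v18945 : LQ := Led Lsl_gf (LP (LK LD1_c6 LD2_c35 LD3_c25))
theorem f776591 : Led Lsl_gf (LP (LK LD1_c6 LD2_c35 LD3_c25)) = v18945 :=
  Lrfl
theorem f776592 : Led Lsl_gt (LP (LK LD1_c6 LD2_c37 LD3_c22)) = v18945 :=
  Lgr Lrot5 (Lpr_ft (K57.f78954 IH) (Lpe (K57.f118552 IH) (Lpr_gf (f776591 IH) (Lpn v18945))))
theorem f646910 : Led Lsl_df (LP (LK LD1_c4 LD2_c48 LD3_c8)) = v5288 :=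
  Lgr Lrot12 (Lpr_bt (f135529 IH) (Lpr_dt (K29.f416807 IH) (Lpr_bt (f646908 IH) (Lpn v5288))))
theorem f768905 : (LP (LK LD1_c4 LD2_c48 LD3_c8)) = K46.v5997 :=
  Lefun (Lecon (Lfl_df (f646910 IH)) (f768872 IH)) (Lfl_df (K46.f650447 IH))
theorem f135521 : Led Lsl_bt (LP (LK LD1_c2 LD2_c21 LD3_c58)) = (LP (LK LD1_c4 LD2_c48 LD3_c8)) :=
  Lre_b IH (LK LD1_c2 LD2_c21 LD3_c58) (LK LD1_c4 LD2_c48 LD3_c8) Lrfl Lrfl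
theorem f154047 : Led Lsl_bt (LP (LK LD1_c1 LD2_c6 LD3_c13)) = (LP (LK LD1_c2 LD2_c18 LD3_c12)) :=
  Lre_b IH (LK LD1_c1 LD2_c6 LD3_c13) (LK LD1_c2 LD2_c18 LD3_c12) Lrfl Lrfl
def v4278 : LQ := Led Lsl_gf (LP (LK LD1_c2 LD2_c18 LD3_c12))
theorem f632360 : Led Lsl_gf (LP (LK LD1_c2 LD2_c18 LD3_c12)) = v4278 :=
  Lrfl
def v10984 : LQ := Led Lsl_et K58.v3570
theorem f682737 : Led Lsl_et K58.v3570 = v10984 :=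
  Lrfl
def v3437 : LQ := Led Lsl_bt K58.v830
def v10700 : LQ := Led Lsl_et v3437
theorem f681444 : Led Lsl_et v3437 = v10700 :=
  Lrfl
theorem f625656 : Led Lsl_bt K58.v830 = v3437 :=
  Lrfl
theorem f769135 : K58.v3584 = v3437 :=
  Lefun (Lecon (Lfl_bf (K58.f682871 IH)) ((K58.f768832 IH).trans (f769129 IH).symm)) (f625656 IH)
theorem f769147 : v10984 = v10700 :=
  Lefun (Lecon (f682737 IH) ((K58.f769102 IH).symm.trans (f769135 IH))) (f681444 IH)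
theorem f682738 : Led Lsl_ef K58.v3570 = v10984 :=
  Lgr Lrot88 (Lpr_et (f682737 IH) (Lpn v10984))
theorem f104739 : Led Lsl_et (LP (LK LD1_c1 LD2_c6 LD3_c6)) = (LP (LK LD1_c0 LD2_c30 LD3_c13)) :=
  Lre_e IH (LK LD1_c1 LD2_c6 LD3_c6) (LK LD1_c0 LD2_c30 LD3_c13) Lrfl Lrfl
theorem f104740 : Led Lsl_dt (LP (LK LD1_c1 LD2_c6 LD3_c6)) = (LP (LK LD1_c2 LD2_c18 LD3_c12)) :=
  Lre_d IH (LK LD1_c1 LD2_c6 LD3_c6) (LK LD1_c2 LD2_c18 LD3_c12) Lrfl Lrfl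
theorem f682739 : Led Lsl_df v4278 = v10984 :=
  Lgr Lrot170 (Lpe (f632360 IH) (Lpe (f104740 IH) (Lpr_et (f104739 IH) (Lpr_gt (K2.f26939 IH) (Lpe (K4.f104734 IH) (Lpe (K5.f82297 IH) (Lpr_df (K34.f450588 IH) (Lpr_et (K58.f490719 IH) (Lpr_gt (K58.f626300 IH) (Lpr_ef (f682738 IH) (Lpn v10984)))))))))))
theorem f682740 : Led Lsl_dt v4278 = v10984 :=
  Lgr Lrot42 (Lpr_df (f682739 IH) (Lpn v10984))
def v3440 : LQ := Led Lsl_et K58.v830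
theorem f625662 : Led Lsl_et K58.v830 = v3440 :=
  Lrfl
theorem f625663 : Led Lsl_ef K58.v830 = v3440 :=
  Lgr Lrot88 (Lpr_et (f625662 IH) (Lpn v3440))
theorem f681445 : Led Lsl_bf v3440 = v10700 :=
  Lgr Lrot96 (Lpe (f625663 IH) (Lpr_bt (f625656 IH) (Lpr_et (f681444 IH) (Lpn v10700))))
def v6755 : LQ := Led Lsl_gf (LP (LK LD1_c3 LD2_c28 LD3_c41))
theorem f658233 : Led Lsl_gf (LP (LK LD1_c3 LD2_c28 LD3_c41)) = v6755 :=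
  Lrfl
theorem f658234 : Led Lsl_dt v3440 = v6755 :=
  Lgr Lrot136 (Lpe (f625663 IH) (Lpe (K58.f459618 IH) (Lpe (K56.f66437 IH) (Lpr_dt (K3.f5766 IH) (Lpe (K1.f5250 IH) (Lpe (K1.f5828 IH) (Lpr_gf (K1.f66423 IH) (Lpe (K30.f62266 IH) (Lpr_dt (K3.f62264 IH) (Lpr_gf (f658233 IH) (Lpn v6755)))))))))))
theorem f769153 : Led Lsl_bf v4278 = v6755 :=
  Lgr Lrot93 (Lpr_dt (f682740 IH) (Lpqs (f769147 IH) (Lpe (f681445 IH) (Lpr_dt (f658234 IH) (Lpn v6755)))))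
theorem f776595 : Led Lsl_ct v6755 = v18945 :=
  Lgr Lrot63 (Lpe (f769153 IH) (Lpe (f632360 IH) (Lpe (f154047 IH) (Lpr_ct (K35.f82832 IH) (Lpr_gt (K32.f153525 IH) (Lpe (K32.f435399 IH) (Lpr_bt (f135521 IH) (Lpqs (f768905 IH) (Lpr_gt (K46.f650446 IH) (Lpr_ct (K57.f118539 IH) (Lpr_gt (f776592 IH) (Lpn v18945))))))))))))
theorem f62214 : Led Lsl_dt (LP (LK LD1_c3 LD2_c28 LD3_c41)) = (LP (LK LD1_c1 LD2_c41 LD3_c2)) :=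
  Lre_d IH (LK LD1_c3 LD2_c28 LD3_c41) (LK LD1_c1 LD2_c41 LD3_c2) Lrfl Lrfl
theorem f62224 : Led Lsl_dt (LP (LK LD1_c3 LD2_c28 LD3_c39)) = (LP (LK LD1_c6 LD2_c59 LD3_c5)) :=
  Lre_d IH (LK LD1_c3 LD2_c28 LD3_c39) (LK LD1_c6 LD2_c59 LD3_c5) Lrfl Lrfl
theorem f658217 : Led Lsl_ct (LP (LK LD1_c13 LD2_c15 LD3_c17)) = (LP (LK LD1_c6 LD2_c59 LD3_c5)) :=
  Lre_c IH (LK LD1_c13 LD2_c15 LD3_c17) (LK LD1_c6 LD2_c59 LD3_c5) Lrfl Lrfl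
theorem f118434 : Led Lsl_dt (LP (LK LD1_c6 LD2_c35 LD3_c25)) = (LP (LK LD1_c12 LD2_c36 LD3_c51)) :=
  Lre_d IH (LK LD1_c6 LD2_c35 LD3_c25) (LK LD1_c12 LD2_c36 LD3_c51) Lrfl Lrfl
theorem f118564 : Led Lsl_gt (LP (LK LD1_c12 LD2_c36 LD3_c51)) = (LP (LK LD1_c21 LD2_c43 LD3_c3)) :=
  Lre_g IH (LK LD1_c12 LD2_c36 LD3_c51) (LK LD1_c21 LD2_c43 LD3_c3) Lrfl Lrfl
theorem f776598 : Led Lsl_df (LP (LK LD1_c13 LD2_c15 LD3_c17)) = (LP (LK LD1_c21 LD2_c43 LD3_c3)) :=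
  Lgr Lrot174 (Lpr_ct (f658217 IH) (Lpe (f62224 IH) (Lpe (K58.f62223 IH) (Lpe (f62214 IH) (Lpr_gf (f658233 IH) (Lpr_ct (f776595 IH) (Lpe (f776591 IH) (Lpr_dt (f118434 IH) (Lpr_gt (f118564 IH) (Lpn (LP (LK LD1_c21 LD2_c43 LD3_c3))))))))))))
theorem f776599 : Led Lsl_dt (LP (LK LD1_c21 LD2_c43 LD3_c3)) = (LP (LK LD1_c13 LD2_c15 LD3_c17)) :=
  Leop (Lpr_df (f776598 IH) (Lpn (LP (LK LD1_c21 LD2_c43 LD3_c3))))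
theorem seed_1400 : LEOK LG_d (LK LD1_c21 LD2_c43 LD3_c3) :=
  Leoe_d (LK LD1_c21 LD2_c43 LD3_c3) (f776599 IH)
theorem f776597 : Led Lsl_cf v6755 = v18945 :=
  Lgr Lrot11 (Lpr_ct (f776595 IH) (Lpn v18945))
theorem f89108 : Led Lsl_gt (LP (LK LD1_c12 LD2_c42 LD3_c53)) = (LP (LK LD1_c21 LD2_c50 LD3_c9)) :=
  Lre_g IH (LK LD1_c12 LD2_c42 LD3_c53) (LK LD1_c21 LD2_c50 LD3_c9) Lrfl Lrfl
theorem f89109 : Led Lsl_gt (LP (LK LD1_c21 LD2_c50 LD3_c9)) = (LP (LK LD1_c21 LD2_c56 LD3_c11)) :=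
  Lgr Lrot46 (Lpe (f89108 IH) (Lpr_ft (K3.f62268 IH) (Lpr_at (K3.f89100 IH) (Lpn (LP (LK LD1_c21 LD2_c56 LD3_c11))))))
theorem f118415 : Led Lsl_dt (LP (LK LD1_c12 LD2_c40 LD3_c36)) = (LP (LK LD1_c6 LD2_c37 LD3_c22)) :=
  Lre_d IH (LK LD1_c12 LD2_c40 LD3_c36) (LK LD1_c6 LD2_c37 LD3_c22) Lrfl Lrfl
theorem f118414 : Led Lsl_ct (LP (LK LD1_c6 LD2_c37 LD3_c22)) = (LP (LK LD1_c3 LD2_c16 LD3_c61)) :=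
  Lre_c IH (LK LD1_c6 LD2_c37 LD3_c22) (LK LD1_c3 LD2_c16 LD3_c61) Lrfl Lrfl
theorem f118425 : Led Lsl_ft (LP (LK LD1_c12 LD2_c40 LD3_c36)) = (LP (LK LD1_c6 LD2_c37 LD3_c21)) :=
  Lre_f IH (LK LD1_c12 LD2_c40 LD3_c36) (LK LD1_c6 LD2_c37 LD3_c21) Lrfl Lrfl
theorem f118426 : Led Lsl_af (LP (LK LD1_c12 LD2_c36 LD3_c51)) = (LP (LK LD1_c6 LD2_c37 LD3_c21)) :=
  Lgr Lrot109 (Lpe (K4.f118405 IH) (Lpr_df (K4.f118407 IH) (Lpe (K4.f118406 IH) (Lpe (K4.f118358 IH) (Lpe (K46.f118412 IH) (Lpe (K46.f118413 IH) (Lpe (f118414 IH) (Lpe (f118415 IH) (Lpr_ft (f118425 IH) (Lpn (LP (LK LD1_c6 LD2_c37 LD3_c21))))))))))))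
theorem f118436 : Led Lsl_gt (LP (LK LD1_c21 LD2_c43 LD3_c4)) = (LP (LK LD1_c12 LD2_c36 LD3_c51)) :=
  Lre_g IH (LK LD1_c21 LD2_c43 LD3_c4) (LK LD1_c12 LD2_c36 LD3_c51) Lrfl Lrfl
theorem f119158 : Led Lsl_gf (LP (LK LD1_c21 LD2_c43 LD3_c4)) = (LP (LK LD1_c12 LD2_c40 LD3_c36)) :=
  Lgr Lrot47 (Lpr_gt (f118436 IH) (Lpr_af (f118426 IH) (Lpe (f118425 IH) (Lpn (LP (LK LD1_c12 LD2_c40 LD3_c36))))))
theorem f776604 : Led Lsl_cf (LP (LK LD1_c21 LD2_c50 LD3_c9)) = (LP (LK LD1_c21 LD2_c43 LD3_c4)) :=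
  Lgr Lrot169 (Lpr_gt (f89109 IH) (Lpr_ct (K3.f89081 IH) (Lpe (K3.f89096 IH) (Lpe (K3.f89078 IH) (Lpr_gf (f658233 IH) (Lpr_cf (f776597 IH) (Lpe (f776592 IH) (Lpe (f118415 IH) (Lpe (f119158 IH) (Lpn (LP (LK LD1_c21 LD2_c43 LD3_c4))))))))))))
theorem f776605 : Led Lsl_ct (LP (LK LD1_c21 LD2_c43 LD3_c4)) = (LP (LK LD1_c21 LD2_c50 LD3_c9)) :=
  Leop (Lpr_cf (f776604 IH) (Lpn (LP (LK LD1_c21 LD2_c43 LD3_c4))))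
theorem seed_1401 : LEOK LG_c (LK LD1_c21 LD2_c43 LD3_c4) :=
  Leoe_c (LK LD1_c21 LD2_c43 LD3_c4) (f776605 IH)
def v18947 : LQ := Led Lsl_ft (LP (LK LD1_c6 LD2_c35 LD3_c25))
theorem f776715 : Led Lsl_ft (LP (LK LD1_c6 LD2_c35 LD3_c25)) = v18947 :=
  Lrfl
theorem f118568 : Led Lsl_gt (LP (LK LD1_c6 LD2_c35 LD3_c25)) = (LP (LK LD1_c12 LD2_c36 LD3_c50)) :=
  Lre_g IH (LK LD1_c6 LD2_c35 LD3_c25) (LK LD1_c12 LD2_c36 LD3_c50) Lrfl Lrfl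
theorem f776716 : Led Lsl_af (LP (LK LD1_c6 LD2_c37 LD3_c22)) = v18947 :=
  Lgr Lrot45 (Lpr_ft (K57.f78954 IH) (Lpe (K57.f118552 IH) (Lpr_ft (f776715 IH) (Lpn v18947))))
theorem f776719 : Led Lsl_gt (LP (LK LD1_c12 LD2_c36 LD3_c50)) = (LP (LK LD1_c6 LD2_c37 LD3_c22)) :=
  Lgr Lrot46 (Lpe (f118568 IH) (Lpr_ft (f776715 IH) (Lpe (f776716 IH) (Lpn (LP (LK LD1_c6 LD2_c37 LD3_c22))))))
theorem f776720 : Led Lsl_gt (LP (LK LD1_c12 LD2_c36 LD3_c50)) = (LP (LK LD1_c6 LD2_c37 LD3_c22)) :=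
  Leop (Lpe (f776719 IH) (Lpn (LP (LK LD1_c12 LD2_c36 LD3_c50))))
theorem seed_1402 : LEOK LG_g (LK LD1_c12 LD2_c36 LD3_c50) :=
  Leoe_g (LK LD1_c12 LD2_c36 LD3_c50) (f776720 IH)
def v18955 : LQ := Led Lsl_ft (LP (LK LD1_c6 LD2_c35 LD3_c39))
theorem f776817 : Led Lsl_ft (LP (LK LD1_c6 LD2_c35 LD3_c39)) = v18955 :=
  Lrfl
theorem f93861 : Led Lsl_et (LP (LK LD1_c6 LD2_c35 LD3_c39)) = (LP (LK LD1_c3 LD2_c16 LD3_c10)) :=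
  Lre_e IH (LK LD1_c6 LD2_c35 LD3_c39) (LK LD1_c3 LD2_c16 LD3_c10) Lrfl Lrfl
theorem f144871 : Led Lsl_et (LP (LK LD1_c3 LD2_c49 LD3_c56)) = (LP (LK LD1_c7 LD2_c40 LD3_c48)) :=
  Lre_e IH (LK LD1_c3 LD2_c49 LD3_c56) (LK LD1_c7 LD2_c40 LD3_c48) Lrfl Lrfl
theorem f148782 : Led Lsl_cf (LP (LK LD1_c6 LD2_c35 LD3_c39)) = (LP (LK LD1_c7 LD2_c40 LD3_c48)) :=
  Lgr Lrot39 (Lpr_et (f93861 IH) (Lpr_ct (K7.f148762 IH) (Lpr_et (f144871 IH) (Lpn (LP (LK LD1_c7 LD2_c40 LD3_c48))))))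
theorem f436507 : Led Lsl_ft (LP (LK LD1_c14 LD2_c28 LD3_c45)) = (LP (LK LD1_c7 LD2_c40 LD3_c48)) :=
  Lre_f IH (LK LD1_c14 LD2_c28 LD3_c45) (LK LD1_c7 LD2_c40 LD3_c48) Lrfl Lrfl
theorem f776819 : Led Lsl_cf (LP (LK LD1_c14 LD2_c28 LD3_c45)) = v18955 :=
  Lgr Lrot108 (Lpr_ft (f436507 IH) (Lpe (f148782 IH) (Lpr_ft (f776817 IH) (Lpn v18955))))
def v6008 : LQ := Led Lsl_ft (LP (LK LD1_c3 LD2_c16 LD3_c12))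
theorem f650498 : Led Lsl_ft (LP (LK LD1_c3 LD2_c16 LD3_c12)) = v6008 :=
  Lrfl
theorem f650501 : Led Lsl_ff (LP (LK LD1_c3 LD2_c16 LD3_c12)) = v6008 :=
  Lgr Lrot3 (Lpr_ft (f650498 IH) (Lpn v6008))
theorem f776818 : Led Lsl_bf v6008 = v18955 :=
  Lgr Lrot61 (Lpe (f650501 IH) (Lpr_bt (f93678 IH) (Lpr_ft (f776817 IH) (Lpn v18955))))
theorem f93796 : Led Lsl_af (LP (LK LD1_c1 LD2_c35 LD3_c23)) = (LP (LK LD1_c3 LD2_c16 LD3_c12)) :=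
  Lgr Lrot117 (Lpr_dt (K46.f65260 IH) (Lpr_at (K58.f93789 IH) (Lpr_dt (K58.f93672 IH) (Lpn (LP (LK LD1_c3 LD2_c16 LD3_c12))))))
theorem f93811 : Led Lsl_ft (LP (LK LD1_c1 LD2_c35 LD3_c23)) = (LP (LK LD1_c3 LD2_c17 LD3_c40)) :=
  Lre_f IH (LK LD1_c1 LD2_c35 LD3_c23) (LK LD1_c3 LD2_c17 LD3_c40) Lrfl Lrfl
theorem f650503 : Led Lsl_at (LP (LK LD1_c3 LD2_c17 LD3_c40)) = v6008 :=
  Lgr Lrot66 (Lpe (f93811 IH) (Lpr_af (f93796 IH) (Lpr_ff (f650501 IH) (Lpn v6008))))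
theorem f650506 : Led Lsl_gt K46.v2092 = v6008 :=
  Lgr Lrot46 (Lpe (K46.f508778 IH) (Lpr_ft (f93811 IH) (Lpr_at (f650503 IH) (Lpn v6008))))
def v6082 : LQ := Led Lsl_bt (LP (LK LD1_c3 LD2_c17 LD3_c18))
theorem f650897 : Led Lsl_bt (LP (LK LD1_c3 LD2_c17 LD3_c18)) = v6082 :=
  Lrfl
theorem f650898 : Led Lsl_bf (LP (LK LD1_c3 LD2_c17 LD3_c18)) = v6082 :=
  Lgr Lrot24 (Lpr_bt (f650897 IH) (Lpn v6082))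
theorem f419069 : Led Lsl_ct (LP (LK LD1_c6 LD2_c2 LD3_c0)) = (LP (LK LD1_c2 LD2_c57 LD3_c6)) :=
  Lre_c IH (LK LD1_c6 LD2_c2 LD3_c0) (LK LD1_c2 LD2_c57 LD3_c6) Lrfl Lrfl
theorem f624571 : Led Lsl_bf (LP (LK LD1_c6 LD2_c2 LD3_c0)) = K58.v3192 :=
  Lgr Lrot90 (Lpr_ct (f419069 IH) (Lpr_bt (K51.f419068 IH) (Lpe (K32.f435300 IH) (Lpr_bt (K58.f453964 IH) (Lpr_ct (K58.f624570 IH) (Lpn K58.v3192))))))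
def v10133 : LQ := Led Lsl_et K58.v3192
theorem f678916 : Led Lsl_et K58.v3192 = v10133 :=
  Lrfl
theorem f678918 : Led Lsl_ef K58.v3192 = v10133 :=
  Lgr Lrot88 (Lpr_et (f678916 IH) (Lpn v10133))
theorem f624572 : Led Lsl_cf K58.v554 = K58.v3192 :=
  Lgr Lrot11 (Lpr_ct (K58.f624570 IH) (Lpn K58.v3192))
theorem f678919 : Led Lsl_ct K58.v3193 = v10133 :=
  Lgr Lrot15 (Lpe (K58.f624578 IH) (Lpr_cf (f624572 IH) (Lpr_ef (f678918 IH) (Lpn v10133))))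
theorem f650902 : Led Lsl_ct K49.v2086 = K46.v6083 :=
  Lgr Lrot15 (Lpe (K49.f508752 IH) (Lpe (f118266 IH) (Lpr_ef (K46.f650901 IH) (Lpn K46.v6083))))
theorem f768932 : v10133 = K46.v6083 :=
  Lefun (Lecon (f678919 IH) (K58.f768896 IH)) (f650902 IH)
theorem f768962 : K58.v3192 = (LP (LK LD1_c3 LD2_c17 LD3_c18)) :=
  Lefun (Lecon (Lfl_ef (f678918 IH)) (f768932 IH)) (Lfl_ef (K46.f650901 IH))
theorem f769007 : (LP (LK LD1_c6 LD2_c2 LD3_c0)) = v6082 :=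
  Lefun (Lecon (Lfl_bf (f624571 IH)) (f768962 IH)) (f650897 IH)
theorem f207211 : Led Lsl_bt (LP (LK LD1_c12 LD2_c53 LD3_c43)) = (LP (LK LD1_c6 LD2_c44 LD3_c37)) :=
  Lre_b IH (LK LD1_c12 LD2_c53 LD3_c43) (LK LD1_c6 LD2_c44 LD3_c37) Lrfl Lrfl
theorem f699141 : Led Lsl_bt (LP (LK LD1_c6 LD2_c44 LD3_c37)) = (LP (LK LD1_c12 LD2_c53 LD3_c43)) :=
  Lre_b IH (LK LD1_c6 LD2_c44 LD3_c37) (LK LD1_c12 LD2_c53 LD3_c43) Lrfl Lrfl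
theorem f57523 : Led Lsl_ct (LP (LK LD1_c5 LD2_c48 LD3_c31)) = (LP (LK LD1_c2 LD2_c50 LD3_c19)) :=
  Lre_c IH (LK LD1_c5 LD2_c48 LD3_c31) (LK LD1_c2 LD2_c50 LD3_c19) Lrfl Lrfl
theorem f66367 : Led Lsl_bt (LP (LK LD1_c11 LD2_c26 LD3_c31)) = (LP (LK LD1_c5 LD2_c48 LD3_c31)) :=
  Lre_b IH (LK LD1_c11 LD2_c26 LD3_c31) (LK LD1_c5 LD2_c48 LD3_c31) Lrfl Lrfl
theorem f699142 : Led Lsl_ct (LP (LK LD1_c12 LD2_c53 LD3_c43)) = (LP (LK LD1_c11 LD2_c26 LD3_c31)) :=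
  Lgr Lrot83 (Lpe (f699141 IH) (Lpr_cf (K52.f699139 IH) (Lpe (K52.f66368 IH) (Lpe (f57523 IH) (Lpe (f66367 IH) (Lpn (LP (LK LD1_c11 LD2_c26 LD3_c31))))))))
theorem f776825 : Led Lsl_gt (LP (LK LD1_c14 LD2_c28 LD3_c45)) = (LP (LK LD1_c11 LD2_c26 LD3_c31)) :=
  Lgr Lrot65 (Lpr_cf (f776819 IH) (Lpe (f776818 IH) (Lpe (f650506 IH) (Lpqs (K46.f650870 IH) (Lpr_bf (f650898 IH) (Lpq (f769007 IH) (Lpr_ct (f419069 IH) (Lpr_gf (K55.f645202 IH) (Lpq (K55.f698905 IH) (Lpe (K35.f207109 IH) (Lpe (K52.f207204 IH) (Lpe (f207211 IH) (Lpr_ct (f699142 IH) (Lpn (LP (LK LD1_c11 LD2_c26 LD3_c31))))))))))))))))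
theorem f776826 : Led Lsl_gt (LP (LK LD1_c14 LD2_c28 LD3_c45)) = (LP (LK LD1_c11 LD2_c26 LD3_c31)) :=
  Leop (Lpe (f776825 IH) (Lpn (LP (LK LD1_c14 LD2_c28 LD3_c45))))
theorem seed_1403 : LEOK LG_g (LK LD1_c14 LD2_c28 LD3_c45) :=
  Leoe_g (LK LD1_c14 LD2_c28 LD3_c45) (f776826 IH)
def v18979 : LQ := Led Lsl_ct (LP (LK LD1_c6 LD2_c36 LD3_c3))
theorem f776981 : Led Lsl_ct (LP (LK LD1_c6 LD2_c36 LD3_c3)) = v18979 :=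
  Lrfl
theorem f651339 : Led Lsl_ff (LP (LK LD1_c3 LD2_c18 LD3_c8)) = K46.v6119 :=
  Lgr Lrot3 (Lpr_ft (K46.f651335 IH) (Lpn K46.v6119))
theorem f651347 : Led Lsl_dt K56.v2094 = K46.v6119 :=
  Lgr Lrot60 (Lpe (K56.f508807 IH) (Lpe (K57.f508794 IH) (Lpr_ff (f651339 IH) (Lpn K46.v6119))))
theorem f453928 : Led Lsl_dt (LP (LK LD1_c3 LD2_c16 LD3_c20)) = (LP (LK LD1_c6 LD2_c36 LD3_c3)) :=
  Lre_d IH (LK LD1_c3 LD2_c16 LD3_c20) (LK LD1_c6 LD2_c36 LD3_c3) Lrfl Lrfl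
theorem f654035 : K46.v6119 = (LP (LK LD1_c6 LD2_c36 LD3_c3)) :=
  Lefun (Lecon (f651347 IH) (K56.f654023 IH).symm) (f453928 IH)
theorem f649468 : Led Lsl_ct (LP (LK LD1_c6 LD2_c40 LD3_c10)) = (LP (LK LD1_c3 LD2_c18 LD3_c8)) :=
  Lre_c IH (LK LD1_c6 LD2_c40 LD3_c10) (LK LD1_c3 LD2_c18 LD3_c8) Lrfl Lrfl
theorem f776984 : Led Lsl_ff (LP (LK LD1_c6 LD2_c40 LD3_c10)) = v18979 :=
  Lgr Lrot23 (Lpr_ct (f649468 IH) (Lpr_ft (K46.f651335 IH) (Lpqs (f654035 IH) (Lpr_ct (f776981 IH) (Lpn v18979)))))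
theorem f776986 : Led Lsl_ft (LP (LK LD1_c6 LD2_c40 LD3_c10)) = v18979 :=
  Lgr Lrot48 (Lpr_ff (f776984 IH) (Lpn v18979))
theorem f675671 : Led Lsl_gt (LP (LK LD1_c6 LD2_c40 LD3_c10)) = (LP (LK LD1_c12 LD2_c46 LD3_c14)) :=
  Lre_g IH (LK LD1_c6 LD2_c40 LD3_c10) (LK LD1_c12 LD2_c46 LD3_c14) Lrfl Lrfl
theorem f651306 : Led Lsl_ff (LP (LK LD1_c3 LD2_c18 LD3_c12)) = K46.v6118 :=
  Lgr Lrot3 (Lpr_ft (K46.f651302 IH) (Lpn K46.v6118))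
theorem f651346 : Led Lsl_at (LP (LK LD1_c3 LD2_c18 LD3_c12)) = K46.v6119 :=
  Lgr Lrot66 (Lpr_ff (f651306 IH) (Lpe (K46.f651295 IH) (Lpr_ff (f651339 IH) (Lpn K46.v6119))))
theorem f634287 : Led Lsl_ct (LP (LK LD1_c6 LD2_c40 LD3_c18)) = (LP (LK LD1_c3 LD2_c18 LD3_c12)) :=
  Lre_c IH (LK LD1_c6 LD2_c40 LD3_c18) (LK LD1_c3 LD2_c18 LD3_c12) Lrfl Lrfl
theorem f776982 : Led Lsl_af (LP (LK LD1_c6 LD2_c40 LD3_c18)) = v18979 :=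
  Lgr Lrot68 (Lpr_ct (f634287 IH) (Lpr_at (f651346 IH) (Lpqs (f654035 IH) (Lpr_ct (f776981 IH) (Lpn v18979)))))
theorem f776988 : Led Lsl_gt (LP (LK LD1_c12 LD2_c46 LD3_c14)) = (LP (LK LD1_c6 LD2_c40 LD3_c18)) :=
  Lgr Lrot46 (Lpe (f675671 IH) (Lpr_ft (f776986 IH) (Lpe (f776982 IH) (Lpn (LP (LK LD1_c6 LD2_c40 LD3_c18))))))
theorem f776989 : Led Lsl_gt (LP (LK LD1_c12 LD2_c46 LD3_c14)) = (LP (LK LD1_c6 LD2_c40 LD3_c18)) :=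
  Leop (Lpe (f776988 IH) (Lpn (LP (LK LD1_c12 LD2_c46 LD3_c14))))
theorem seed_1404 : LEOK LG_g (LK LD1_c12 LD2_c46 LD3_c14) :=
  Leoe_g (LK LD1_c12 LD2_c46 LD3_c14) (f776989 IH)
def v18981 : LQ := Led Lsl_dt (LP (LK LD1_c6 LD2_c36 LD3_c5))
theorem f777001 : Led Lsl_dt (LP (LK LD1_c6 LD2_c36 LD3_c5)) = v18981 :=
  Lrfl
def v7340 : LQ := Led Lsl_dt (LP (LK LD1_c3 LD2_c45 LD3_c20))
theorem f664639 : Led Lsl_dt (LP (LK LD1_c3 LD2_c45 LD3_c20)) = v7340 :=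
  Lrfl
theorem f777005 : Led Lsl_ct v7340 = v18981 :=
  Lgr Lrot7 (Lpe (f664639 IH) (Lpe (K46.f94134 IH) (Lpr_df (K5.f105623 IH) (Lpe (K46.f651366 IH) (Lpe (K46.f650533 IH) (Lpr_gt (K46.f443304 IH) (Lpr_dt (K46.f113030 IH) (Lpr_gt (K46.f414293 IH) (Lpr_dt (f777001 IH) (Lpn v18981))))))))))
def v10708 : LQ := Led Lsl_gt K58.v3439
theorem f681470 : Led Lsl_gt K58.v3439 = v10708 :=
  Lrfl
theorem f681483 : Led Lsl_gt v10708 = K58.v3444 :=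
  Lgr Lrot46 (Lpe (f681470 IH) (Lpr_ft (K58.f681479 IH) (Lpe (K58.f681480 IH) (Lpn K58.v3444))))
def v9340 : LQ := Led Lsl_et K57.v2611
theorem f675446 : Led Lsl_et K57.v2611 = v9340 :=
  Lrfl
theorem f675447 : Led Lsl_ef K57.v2611 = v9340 :=
  Lgr Lrot88 (Lpr_et (f675446 IH) (Lpn v9340))
theorem f681471 : Led Lsl_dt v9340 = v10708 :=
  Lgr Lrot56 (Lpe (f675447 IH) (Lpe (K57.f527781 IH) (Lpe (K1.f12483 IH) (Lpr_dt (K1.f5828 IH) (Lpr_gt (K1.f5250 IH) (Lpe (K3.f5766 IH) (Lpr_et (K56.f66437 IH) (Lpr_gt (K58.f459618 IH) (Lpr_dt (K58.f625660 IH) (Lpr_gt (f681470 IH) (Lpn v10708)))))))))))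
theorem f670454 : Led Lsl_ff K56.v1933 = K56.v8229 :=
  Lgr Lrot3 (Lpr_ft (K56.f670449 IH) (Lpn K56.v8229))
theorem f126338 : Led Lsl_af (LP (LK LD1_c1 LD2_c31 LD3_c46)) = (LP (LK LD1_c0 LD2_c51 LD3_c40)) :=
  Lgr Lrot0 (Lpr_at (K5.f126336 IH) (Lpn (LP (LK LD1_c0 LD2_c51 LD3_c40))))
theorem f506455 : Led Lsl_af (LP (LK LD1_c1 LD2_c49 LD3_c40)) = K56.v1933 :=
  Lgr Lrot50 (Lpr_et (K58.f12477 IH) (Lpe (f126338 IH) (Lpr_et (K56.f506454 IH) (Lpn K56.v1933))))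
theorem f670460 : Led Lsl_gf K57.v2611 = K56.v8229 :=
  Lgr Lrot47 (Lpe (K57.f527781 IH) (Lpr_af (f506455 IH) (Lpr_ff (f670454 IH) (Lpn K56.v8229))))
theorem f126383 : Led Lsl_ft (LP (LK LD1_c1 LD2_c31 LD3_c46)) = (LP (LK LD1_c0 LD2_c51 LD3_c42)) :=
  Lgr Lrot4 (Lpr_cf (K2.f79120 IH) (Lpr_ff (K5.f126379 IH) (Lpe (K3.f62654 IH) (Lpn (LP (LK LD1_c0 LD2_c51 LD3_c42))))))
theorem f670459 : Led Lsl_et K34.v2615 = K56.v8229 :=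
  Lgr Lrot69 (Lpe (K34.f527788 IH) (Lpe (K5.f105629 IH) (Lpe (f126383 IH) (Lpr_ef (K56.f506458 IH) (Lpr_ff (f670454 IH) (Lpn K56.v8229))))))
theorem f649370 : Led Lsl_gt (LP (LK LD1_c3 LD2_c45 LD3_c20)) = K46.v5790 :=
  Lgr Lrot46 (Lpe (K46.f94134 IH) (Lpr_ft (K46.f130966 IH) (Lpr_at (f649364 IH) (Lpn K46.v5790))))
theorem f664641 : Led Lsl_df (LP (LK LD1_c3 LD2_c45 LD3_c20)) = v7340 :=
  Lgr Lrot38 (Lpr_dt (f664639 IH) (Lpn v7340))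
theorem f681484 : Led Lsl_gf v7340 = K56.v3445 :=
  Lgr Lrot138 (Lpe (f664641 IH) (Lpr_gt (f649370 IH) (Lpe (K48.f649367 IH) (Lpr_et (f670459 IH) (Lpe (f670460 IH) (Lpr_ef (f675447 IH) (Lpr_dt (f681471 IH) (Lpr_gt (f681483 IH) (Lpe (K58.f625672 IH) (Lpr_et (K56.f625674 IH) (Lpn K56.v3445)))))))))))
theorem f777011 : Led Lsl_gf (LP (LK LD1_c12 LD2_c46 LD3_c12)) = v18981 :=
  Lgr Lrot104 (Lpe (K49.f651312 IH) (Lpe (K49.f508988 IH) (Lpe (K57.f508991 IH) (Lpe (K57.f678627 IH) (Lpe (K56.f650522 IH) (Lpr_gf (K56.f681523 IH) (Lpe (K56.f681520 IH) (Lpe (f681484 IH) (Lpr_ct (f777005 IH) (Lpn v18981))))))))))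
theorem f678634 : Led Lsl_et (LP (LK LD1_c6 LD2_c40 LD3_c9)) = (LP (LK LD1_c12 LD2_c46 LD3_c13)) :=
  Lre_e IH (LK LD1_c6 LD2_c40 LD3_c9) (LK LD1_c12 LD2_c46 LD3_c13) Lrfl Lrfl
theorem f753918 : Led Lsl_et (LP (LK LD1_c6 LD2_c35 LD3_c61)) = (LP (LK LD1_c3 LD2_c16 LD3_c21)) :=
  Lre_e IH (LK LD1_c6 LD2_c35 LD3_c61) (LK LD1_c3 LD2_c16 LD3_c21) Lrfl Lrfl
theorem f15516 : Led Lsl_dt (LP (LK LD1_c6 LD2_c35 LD3_c61)) = (LP (LK LD1_c3 LD2_c16 LD3_c18)) :=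
  Lre_d IH (LK LD1_c6 LD2_c35 LD3_c61) (LK LD1_c3 LD2_c16 LD3_c18) Lrfl Lrfl
theorem f15521 : Led Lsl_gt (LP (LK LD1_c6 LD2_c35 LD3_c60)) = (LP (LK LD1_c3 LD2_c16 LD3_c18)) :=
  Lre_g IH (LK LD1_c6 LD2_c35 LD3_c60) (LK LD1_c3 LD2_c16 LD3_c18) Lrfl Lrfl
theorem f753919 : Led Lsl_dt (LP (LK LD1_c12 LD2_c38 LD3_c2)) = (LP (LK LD1_c6 LD2_c35 LD3_c60)) :=
  Lre_d IH (LK LD1_c12 LD2_c38 LD3_c2) (LK LD1_c6 LD2_c35 LD3_c60) Lrfl Lrfl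
theorem f753921 : Led Lsl_et (LP (LK LD1_c12 LD2_c38 LD3_c2)) = (LP (LK LD1_c21 LD2_c44 LD3_c33)) :=
  Lre_e IH (LK LD1_c12 LD2_c38 LD3_c2) (LK LD1_c21 LD2_c44 LD3_c33) Lrfl Lrfl
theorem f777012 : Led Lsl_gt (LP (LK LD1_c12 LD2_c46 LD3_c13)) = (LP (LK LD1_c21 LD2_c44 LD3_c33)) :=
  Lgr Lrot131 (Lpe (f678634 IH) (Lpr_dt (K49.f651309 IH) (Lpr_gf (f777011 IH) (Lpe (f777001 IH) (Lpe (K46.f414293 IH) (Lpe (f753918 IH) (Lpr_dt (f15516 IH) (Lpe (f15521 IH) (Lpe (f753919 IH) (Lpr_et (f753921 IH) (Lpn (LP (LK LD1_c21 LD2_c44 LD3_c33)))))))))))))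
theorem f777013 : Led Lsl_gt (LP (LK LD1_c12 LD2_c46 LD3_c13)) = (LP (LK LD1_c21 LD2_c44 LD3_c33)) :=
  Leop (Lpe (f777012 IH) (Lpn (LP (LK LD1_c12 LD2_c46 LD3_c13))))
theorem seed_1405 : LEOK LG_g (LK LD1_c12 LD2_c46 LD3_c13) :=
  Leoe_g (LK LD1_c12 LD2_c46 LD3_c13) (f777013 IH)
def v18986 : LQ := Led Lsl_gt (LP (LK LD1_c6 LD2_c36 LD3_c11))
theorem f777034 : Led Lsl_gt (LP (LK LD1_c6 LD2_c36 LD3_c11)) = v18986 :=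
  Lrfl
theorem f62136 : Led Lsl_dt (LP (LK LD1_c3 LD2_c16 LD3_c24)) = (LP (LK LD1_c6 LD2_c36 LD3_c11)) :=
  Lre_d IH (LK LD1_c3 LD2_c16 LD3_c24) (LK LD1_c6 LD2_c36 LD3_c11) Lrfl Lrfl
theorem f624306 : Led Lsl_at (LP (LK LD1_c3 LD2_c18 LD3_c23)) = (LP (LK LD1_c6 LD2_c36 LD3_c9)) :=
  Lgr Lrot66 (Lpr_ff (K46.f508927 IH) (Lpr_af (K46.f436563 IH) (Lpr_ff (K46.f624298 IH) (Lpn (LP (LK LD1_c6 LD2_c36 LD3_c9))))))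
theorem f624363 : Led Lsl_gt (LP (LK LD1_c3 LD2_c45 LD3_c11)) = (LP (LK LD1_c3 LD2_c16 LD3_c24)) :=
  Lgr Lrot5 (Lpe (K46.f508927 IH) (Lpr_at (f624306 IH) (Lpe (K46.f62141 IH) (Lpn (LP (LK LD1_c3 LD2_c16 LD3_c24))))))
def v8081 : LQ := Led Lsl_gf v1785
theorem f669903 : Led Lsl_gf v1785 = v8081 :=
  Lrfl
def v8504 : LQ := Led Lsl_ft v2068
theorem f671467 : Led Lsl_ft v2068 = v8504 :=
  Lrfl
theorem f671469 : Led Lsl_ff v2068 = v8504 :=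
  Lgr Lrot3 (Lpr_ft (f671467 IH) (Lpn v8504))
theorem f769115 : v8504 = v8081 :=
  (Llr Lrot52 (Lpe (f671469 IH) (Lpr_at (f671447 IH) (Lpqs (f769112 IH) (Lpe (f669902 IH) (Lpr_gf (f669903 IH) (Lpn v8081))))))).symm
def v3443 : LQ := Led Lsl_ct K56.v831
theorem f625670 : Led Lsl_ct K56.v831 = v3443 :=
  Lrfl
theorem f625671 : Led Lsl_cf K56.v831 = v3443 :=
  Lgr Lrot11 (Lpr_ct (f625670 IH) (Lpn v3443))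
theorem f681421 : Led Lsl_ff v3443 = v10692 :=
  Lgr Lrot23 (Lpe (f625671 IH) (Lpr_ft (K58.f625654 IH) (Lpr_ct (f681418 IH) (Lpn v10692))))
theorem f769137 : v3443 = v8504 :=
  Lefun (Lecon (Lfl_ff (f681421 IH)) ((f769130 IH).trans (f769113 IH).symm)) (f671467 IH)
def v10725 : LQ := Led Lsl_et v3443
theorem f681513 : Led Lsl_et v3443 = v10725 :=
  Lrfl
theorem f681515 : Led Lsl_ef v3443 = v10725 :=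
  Lgr Lrot88 (Lpr_et (f681513 IH) (Lpn v10725))
theorem f777038 : Led Lsl_dt v10725 = v18986 :=
  Lgr Lrot56 (Lpe (f681515 IH) (Lpqs (f769137 IH) (Lpqs (f769115 IH) (Lpe (f669903 IH) (Lpe (f502879 IH) (Lpr_dt (K3.f96042 IH) (Lpr_gt (K3.f96057 IH) (Lpe (K3.f93365 IH) (Lpr_et (K5.f96069 IH) (Lpr_gt (f624363 IH) (Lpr_dt (f62136 IH) (Lpr_gt (f777034 IH) (Lpn v18986)))))))))))))
theorem f681514 : Led Lsl_cf K56.v3445 = v10725 :=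
  Lgr Lrot39 (Lpe (K56.f625675 IH) (Lpr_ct (f625670 IH) (Lpr_et (f681513 IH) (Lpn v10725))))
theorem f769156 : Led Lsl_at v8508 = v10725 :=
  Lgr Lrot107 (Lpr_cf (f769155 IH) (Lpq (f769141 IH) (Lpe (f681494 IH) (Lpr_cf (f681514 IH) (Lpn v10725)))))
theorem f777039 : Led Lsl_af v6146 = v18986 :=
  Lgr Lrot117 (Lpr_dt (f671480 IH) (Lpr_at (f769156 IH) (Lpr_dt (f777038 IH) (Lpn v18986))))
theorem f508829 : Led Lsl_gt (LP (LK LD1_c6 LD2_c40 LD3_c50)) = (LP (LK LD1_c3 LD2_c18 LD3_c25)) :=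
  Lre_g IH (LK LD1_c6 LD2_c40 LD3_c50) (LK LD1_c3 LD2_c18 LD3_c25) Lrfl Lrfl
theorem f777043 : Led Lsl_ft (LP (LK LD1_c6 LD2_c40 LD3_c50)) = v18986 :=
  Lgr Lrot2 (Lpr_gt (f508829 IH) (Lpr_gt (f651516 IH) (Lpr_af (f777039 IH) (Lpn v18986))))
theorem f624398 : Led Lsl_ct (LP (LK LD1_c12 LD2_c47 LD3_c12)) = (LP (LK LD1_c6 LD2_c40 LD3_c50)) :=
  Lre_c IH (LK LD1_c12 LD2_c47 LD3_c12) (LK LD1_c6 LD2_c40 LD3_c50) Lrfl Lrfl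
theorem f777037 : Led Lsl_cf (LP (LK LD1_c12 LD2_c46 LD3_c14)) = v18986 :=
  Lgr Lrot169 (Lpr_gt (f776988 IH) (Lpr_ct (f634287 IH) (Lpe (K46.f508801 IH) (Lpe (K46.f416426 IH) (Lpq (K56.f634285 IH) (Lpr_gf (K57.f651184 IH) (Lpe (K46.f651180 IH) (Lpe (K46.f62141 IH) (Lpe (f62147 IH) (Lpr_gt (f777034 IH) (Lpn v18986)))))))))))
theorem f777044 : Led Lsl_ff (LP (LK LD1_c12 LD2_c47 LD3_c12)) = (LP (LK LD1_c12 LD2_c46 LD3_c14)) :=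
  Lgr Lrot23 (Lpr_ct (f624398 IH) (Lpr_ft (f777043 IH) (Lpe (f777037 IH) (Lpn (LP (LK LD1_c12 LD2_c46 LD3_c14))))))
theorem f777045 : Led Lsl_ft (LP (LK LD1_c12 LD2_c46 LD3_c14)) = (LP (LK LD1_c12 LD2_c47 LD3_c12)) :=
  Leop (Lpr_ff (f777044 IH) (Lpn (LP (LK LD1_c12 LD2_c46 LD3_c14))))
theorem seed_1406 : LEOK LG_f (LK LD1_c12 LD2_c46 LD3_c14) :=
  Leoe_f (LK LD1_c12 LD2_c46 LD3_c14) (f777045 IH)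
def v19019 : LQ := Led Lsl_gt (LP (LK LD1_c6 LD2_c36 LD3_c43))
theorem f777262 : Led Lsl_gt (LP (LK LD1_c6 LD2_c36 LD3_c43)) = v19019 :=
  Lrfl
def v18892 : LQ := Led Lsl_gf (LP (LK LD1_c6 LD2_c34 LD3_c37))
theorem f776310 : Led Lsl_gf (LP (LK LD1_c6 LD2_c34 LD3_c37)) = v18892 :=
  Lrfl
theorem f776314 : Led Lsl_cf K46.v5972 = v18892 :=
  Lgr Lrot166 (Lpe (K46.f650316 IH) (Lpr_dt (K46.f66063 IH) (Lpr_gt (K46.f61991 IH) (Lpr_dt (K1.f61985 IH) (Lpr_ct (K4.f66062 IH) (Lpe (K58.f66061 IH) (Lpe (K58.f66016 IH) (Lpe (K58.f66017 IH) (Lpr_gf (f776310 IH) (Lpn v18892))))))))))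
def v8084 : LQ := Led Lsl_ct K46.v1788
theorem f669922 : Led Lsl_ct K46.v1788 = v8084 :=
  Lrfl
theorem f776316 : Led Lsl_et v8084 = v18892 :=
  Lgr Lrot158 (Lpe (f669922 IH) (Lpr_ef (K56.f650318 IH) (Lpr_cf (f776314 IH) (Lpn v18892))))
theorem f777266 : Led Lsl_dt v8084 = v19019 :=
  Lgr Lrot56 (Lpr_et (f776316 IH) (Lpe (f776310 IH) (Lpe (K58.f66047 IH) (Lpr_dt (K5.f66019 IH) (Lpr_gt (K5.f66020 IH) (Lpe (K5.f66021 IH) (Lpr_et (K5.f66022 IH) (Lpr_gt (K5.f66024 IH) (Lpr_dt (K48.f66028 IH) (Lpr_gt (f777262 IH) (Lpn v19019)))))))))))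
theorem f772516 : Led Lsl_at (LP (LK LD1_c7 LD2_c31 LD3_c52)) = (LP (LK LD1_c6 LD2_c34 LD3_c37)) :=
  Lgr Lrot66 (Lpr_ff (f772514 IH) (Lpr_af (f753959 IH) (Lpe (f66060 IH) (Lpn (LP (LK LD1_c6 LD2_c34 LD3_c37))))))
theorem f776311 : Led Lsl_gt (LP (LK LD1_c12 LD2_c41 LD3_c36)) = v18892 :=
  Lgr Lrot5 (Lpe (f772514 IH) (Lpr_at (f772516 IH) (Lpr_gf (f776310 IH) (Lpn v18892))))
theorem f646653 : Led Lsl_et (LP (LK LD1_c3 LD2_c2 LD3_c16)) = (LP (LK LD1_c6 LD2_c11 LD3_c21)) :=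
  Lre_e IH (LK LD1_c3 LD2_c2 LD3_c16) (LK LD1_c6 LD2_c11 LD3_c21) Lrfl Lrfl
theorem f646654 : Led Lsl_gt (LP (LK LD1_c12 LD2_c2 LD3_c56)) = (LP (LK LD1_c6 LD2_c11 LD3_c21)) :=
  Lre_g IH (LK LD1_c12 LD2_c2 LD3_c56) (LK LD1_c6 LD2_c11 LD3_c21) Lrfl Lrfl
theorem f646655 : Led Lsl_et (LP (LK LD1_c12 LD2_c41 LD3_c36)) = (LP (LK LD1_c12 LD2_c2 LD3_c56)) :=
  Lgr Lrot185 (Lpr_dt (f103842 IH) (Lpe (K58.f103841 IH) (Lpe (K4.f66015 IH) (Lpe (K49.f103818 IH) (Lpe (K49.f103819 IH) (Lpr_dt (K49.f646644 IH) (Lpe (K49.f646609 IH) (Lpe (K49.f502907 IH) (Lpr_et (f646653 IH) (Lpe (f646654 IH) (Lpn (LP (LK LD1_c12 LD2_c2 LD3_c56)))))))))))))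
theorem f646662 : Led Lsl_ef (LP (LK LD1_c12 LD2_c41 LD3_c36)) = (LP (LK LD1_c12 LD2_c2 LD3_c56)) :=
  Lgr Lrot88 (Lpr_et (f646655 IH) (Lpn (LP (LK LD1_c12 LD2_c2 LD3_c56))))
theorem f624300 : Led Lsl_dt (LP (LK LD1_c12 LD2_c38 LD3_c25)) = (LP (LK LD1_c6 LD2_c36 LD3_c9)) :=
  Lre_d IH (LK LD1_c12 LD2_c38 LD3_c25) (LK LD1_c6 LD2_c36 LD3_c9) Lrfl Lrfl
theorem f624310 : Led Lsl_ft (LP (LK LD1_c6 LD2_c36 LD3_c43)) = (LP (LK LD1_c12 LD2_c38 LD3_c25)) :=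
  Lgr Lrot54 (Lpe (K48.f66028 IH) (Lpr_ff (K46.f624298 IH) (Lpe (f624300 IH) (Lpn (LP (LK LD1_c12 LD2_c38 LD3_c25))))))
theorem f624319 : Led Lsl_ff (LP (LK LD1_c6 LD2_c36 LD3_c43)) = (LP (LK LD1_c12 LD2_c38 LD3_c25)) :=
  Lgr Lrot19 (Lpr_dt (K48.f66003 IH) (Lpr_ft (K46.f624312 IH) (Lpr_dt (K46.f62142 IH) (Lpn (LP (LK LD1_c12 LD2_c38 LD3_c25))))))
theorem f436571 : Led Lsl_af (LP (LK LD1_c7 LD2_c31 LD3_c9)) = (LP (LK LD1_c6 LD2_c36 LD3_c43)) :=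
  Lgr Lrot0 (Lpr_at (K48.f436569 IH) (Lpn (LP (LK LD1_c6 LD2_c36 LD3_c43))))
theorem f508925 : Led Lsl_ff (LP (LK LD1_c6 LD2_c40 LD3_c46)) = (LP (LK LD1_c7 LD2_c31 LD3_c9)) :=
  Lgr Lrot19 (Lpr_dt (K46.f508893 IH) (Lpr_ft (K34.f508891 IH) (Lpr_dt (K48.f436568 IH) (Lpn (LP (LK LD1_c7 LD2_c31 LD3_c9))))))
theorem f624321 : Led Lsl_at (LP (LK LD1_c6 LD2_c40 LD3_c46)) = (LP (LK LD1_c12 LD2_c38 LD3_c25)) :=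
  Lgr Lrot66 (Lpr_ff (f508925 IH) (Lpr_af (f436571 IH) (Lpr_ff (f624319 IH) (Lpn (LP (LK LD1_c12 LD2_c38 LD3_c25))))))
theorem f624324 : Led Lsl_af (LP (LK LD1_c6 LD2_c40 LD3_c46)) = (LP (LK LD1_c12 LD2_c38 LD3_c25)) :=
  Lgr Lrot0 (Lpr_at (f624321 IH) (Lpn (LP (LK LD1_c12 LD2_c38 LD3_c25))))
theorem f777263 : Led Lsl_gf (LP (LK LD1_c6 LD2_c40 LD3_c46)) = v19019 :=
  Lgr Lrot76 (Lpr_af (f624324 IH) (Lpe (f624310 IH) (Lpr_gt (f777262 IH) (Lpn v19019))))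
theorem f650643 : Led Lsl_et (LP (LK LD1_c3 LD2_c18 LD3_c23)) = K56.v6033 :=
  Lgr Lrot69 (Lpr_ff (K46.f508927 IH) (Lpe (K5.f96069 IH) (Lpe (K5.f126388 IH) (Lpe (K56.f79129 IH) (Lpr_ff (K56.f650642 IH) (Lpn K56.v6033))))))
theorem f651660 : Led Lsl_dt (LP (LK LD1_c3 LD2_c18 LD3_c44)) = (LP (LK LD1_c6 LD2_c41 LD3_c19)) :=
  Lre_d IH (LK LD1_c3 LD2_c18 LD3_c44) (LK LD1_c6 LD2_c41 LD3_c19) Lrfl Lrfl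
theorem f760727 : Led Lsl_at (LP (LK LD1_c12 LD2_c34 LD3_c26)) = (LP (LK LD1_c6 LD2_c41 LD3_c15)) :=
  Lgr Lrot100 (Lpr_af (K57.f760725 IH) (Lpn (LP (LK LD1_c6 LD2_c41 LD3_c15))))
theorem f760714 : Led Lsl_ft (LP (LK LD1_c6 LD2_c41 LD3_c19)) = (LP (LK LD1_c12 LD2_c34 LD3_c26)) :=
  Lgr Lrot48 (Lpr_ff (K57.f760709 IH) (Lpn (LP (LK LD1_c12 LD2_c34 LD3_c26))))
theorem f509060 : Led Lsl_gt (LP (LK LD1_c12 LD2_c47 LD3_c47)) = (LP (LK LD1_c6 LD2_c41 LD3_c15)) :=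
  Lre_g IH (LK LD1_c12 LD2_c47 LD3_c47) (LK LD1_c6 LD2_c41 LD3_c15) Lrfl Lrfl
theorem f760738 : Led Lsl_gt (LP (LK LD1_c6 LD2_c41 LD3_c19)) = (LP (LK LD1_c12 LD2_c47 LD3_c47)) :=
  Lgr Lrot5 (Lpr_ft (f760714 IH) (Lpr_at (f760727 IH) (Lpe (f509060 IH) (Lpn (LP (LK LD1_c12 LD2_c47 LD3_c47))))))
theorem f777268 : Led Lsl_dt (LP (LK LD1_c12 LD2_c2 LD3_c56)) = (LP (LK LD1_c12 LD2_c47 LD3_c47)) :=
  Lgr Lrot56 (Lpe (f646662 IH) (Lpr_gt (f776311 IH) (Lpe (f776316 IH) (Lpr_dt (f777266 IH) (Lpe (f777263 IH) (Lpe (K32.f508883 IH) (Lpr_et (f650643 IH) (Lpr_gt (K56.f664579 IH) (Lpqs (K56.f754146 IH) (Lpr_dt (f651660 IH) (Lpr_gt (f760738 IH) (Lpn (LP (LK LD1_c12 LD2_c47 LD3_c47))))))))))))))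
theorem f777269 : Led Lsl_dt (LP (LK LD1_c12 LD2_c2 LD3_c56)) = (LP (LK LD1_c12 LD2_c47 LD3_c47)) :=
  Leop (Lpe (f777268 IH) (Lpn (LP (LK LD1_c12 LD2_c2 LD3_c56))))
theorem seed_1407 : LEOK LG_d (LK LD1_c12 LD2_c2 LD3_c56) :=
  Leoe_d (LK LD1_c12 LD2_c2 LD3_c56) (f777269 IH)
def v19044 : LQ := Led Lsl_dt (LP (LK LD1_c6 LD2_c37 LD3_c1))
theorem f777366 : Led Lsl_dt (LP (LK LD1_c6 LD2_c37 LD3_c1)) = v19044 :=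
  Lrfl
theorem f777368 : Led Lsl_df (LP (LK LD1_c6 LD2_c37 LD3_c1)) = v19044 :=
  Lgr Lrot38 (Lpr_dt (f777366 IH) (Lpn v19044))
theorem f93349 : Led Lsl_et (LP (LK LD1_c6 LD2_c49 LD3_c44)) = (LP (LK LD1_c3 LD2_c28 LD3_c22)) :=
  Lgr Lrot87 (Lpr_ef (K3.f93339 IH) (Lpn (LP (LK LD1_c3 LD2_c28 LD3_c22))))
theorem f88826 : Led Lsl_et (LP (LK LD1_c3 LD2_c31 LD3_c4)) = (LP (LK LD1_c7 LD2_c4 LD3_c3)) :=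
  Lre_e IH (LK LD1_c3 LD2_c31 LD3_c4) (LK LD1_c7 LD2_c4 LD3_c3) Lrfl Lrfl
theorem f109195 : Led Lsl_gt (LP (LK LD1_c7 LD2_c4 LD3_c3)) = (LP (LK LD1_c13 LD2_c23 LD3_c56)) :=
  Lre_g IH (LK LD1_c7 LD2_c4 LD3_c3) (LK LD1_c13 LD2_c23 LD3_c56) Lrfl Lrfl
theorem f777372 : Led Lsl_ef (LP (LK LD1_c13 LD2_c23 LD3_c56)) = v19044 :=
  Lgr Lrot17 (Lpe (f109195 IH) (Lpe (f88826 IH) (Lpr_dt (K3.f64517 IH) (Lpe (K3.f109186 IH) (Lpe (K5.f109190 IH) (Lpe (K34.f126257 IH) (Lpe (f93349 IH) (Lpr_dt (K3.f69297 IH) (Lpr_gf (f653833 IH) (Lpq (f772678 IH) (Lpq (f772646 IH) (Lpr_df (f777368 IH) (Lpn v19044)))))))))))))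
theorem f777371 : Led Lsl_at (LP (LK LD1_c6 LD2_c59 LD3_c6)) = v19044 :=
  Lgr Lrot51 (Lpe (f62228 IH) (Lpr_af (f658224 IH) (Lpq (f772646 IH) (Lpr_df (f777368 IH) (Lpn v19044)))))
theorem f84622 : Led Lsl_et (LP (LK LD1_c1 LD2_c53 LD3_c26)) = (LP (LK LD1_c3 LD2_c53 LD3_c39)) :=
  Lre_e IH (LK LD1_c1 LD2_c53 LD3_c26) (LK LD1_c3 LD2_c53 LD3_c39) Lrfl Lrfl
theorem f84623 : Led Lsl_gt (LP (LK LD1_c3 LD2_c53 LD3_c39)) = (LP (LK LD1_c7 LD2_c48 LD3_c52)) :=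
  Lre_g IH (LK LD1_c3 LD2_c53 LD3_c39) (LK LD1_c7 LD2_c48 LD3_c52) Lrfl Lrfl
theorem f441816 : Led Lsl_ef (LP (LK LD1_c7 LD2_c48 LD3_c52)) = (LP (LK LD1_c6 LD2_c59 LD3_c6)) :=
  Lgr Lrot17 (Lpe (f84623 IH) (Lpe (f84622 IH) (Lpr_dt (K7.f84300 IH) (Lpr_gf (K3.f84615 IH) (Lpe (K5.f17759 IH) (Lpr_gf (K5.f105640 IH) (Lpe (K3.f88987 IH) (Lpr_dt (f62214 IH) (Lpe (f62227 IH) (Lpe (f62230 IH) (Lpn (LP (LK LD1_c6 LD2_c59 LD3_c6)))))))))))))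
theorem f441818 : Led Lsl_et (LP (LK LD1_c7 LD2_c48 LD3_c52)) = (LP (LK LD1_c6 LD2_c59 LD3_c6)) :=
  Lgr Lrot87 (Lpr_ef (f441816 IH) (Lpn (LP (LK LD1_c6 LD2_c59 LD3_c6))))
theorem f777373 : Led Lsl_at (LP (LK LD1_c13 LD2_c23 LD3_c56)) = (LP (LK LD1_c7 LD2_c48 LD3_c52)) :=
  Lgr Lrot80 (Lpr_ef (f777372 IH) (Lpe (f777371 IH) (Lpe (f441818 IH) (Lpn (LP (LK LD1_c7 LD2_c48 LD3_c52))))))
theorem f777374 : Led Lsl_at (LP (LK LD1_c13 LD2_c23 LD3_c56)) = (LP (LK LD1_c7 LD2_c48 LD3_c52)) :=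
  Leop (Lpe (f777373 IH) (Lpn (LP (LK LD1_c13 LD2_c23 LD3_c56))))
theorem seed_1408 : LEOK LG_a (LK LD1_c13 LD2_c23 LD3_c56) :=
  Leoe_a (LK LD1_c13 LD2_c23 LD3_c56) (f777374 IH)
def v19051 : LQ := Led Lsl_dt (LP (LK LD1_c6 LD2_c37 LD3_c11))
theorem f777416 : Led Lsl_dt (LP (LK LD1_c6 LD2_c37 LD3_c11)) = v19051 :=
  Lrfl
theorem f777418 : Led Lsl_df (LP (LK LD1_c6 LD2_c37 LD3_c11)) = v19051 :=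
  Lgr Lrot38 (Lpr_dt (f777416 IH) (Lpn v19051))
theorem f130835 : Led Lsl_ct (LP (LK LD1_c6 LD2_c37 LD3_c11)) = (LP (LK LD1_c3 LD2_c16 LD3_c54)) :=
  Lre_c IH (LK LD1_c6 LD2_c37 LD3_c11) (LK LD1_c3 LD2_c16 LD3_c54) Lrfl Lrfl
theorem f777420 : Led Lsl_gt (LP (LK LD1_c12 LD2_c48 LD3_c26)) = v19051 :=
  Lgr Lrot49 (Lpe (K3.f89096 IH) (Lpr_gf (K56.f754472 IH) (Lpe (K56.f624095 IH) (Lpr_gt (K49.f78968 IH) (Lpr_dt (K49.f78961 IH) (Lpr_gt (K5.f114226 IH) (Lpr_dt (K5.f118513 IH) (Lpe (f130835 IH) (Lpr_df (f777418 IH) (Lpn v19051))))))))))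
def v2130 : LQ := Led Lsl_bt (LP (LK LD1_c1 LD2_c36 LD3_c9))
def v8631 : LQ := Led Lsl_ct v2130
theorem f671835 : Led Lsl_ct v2130 = v8631 :=
  Lrfl
theorem f119186 : Led Lsl_ct (LP (LK LD1_c3 LD2_c16 LD3_c57)) = (LP (LK LD1_c6 LD2_c37 LD3_c14)) :=
  Lre_c IH (LK LD1_c3 LD2_c16 LD3_c57) (LK LD1_c6 LD2_c37 LD3_c14) Lrfl Lrfl
theorem f650702 : Led Lsl_ff (LP (LK LD1_c3 LD2_c16 LD3_c57)) = K46.v6043 :=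
  Lgr Lrot3 (Lpr_ft (K46.f650701 IH) (Lpn K46.v6043))
theorem f509143 : Led Lsl_bt (LP (LK LD1_c1 LD2_c36 LD3_c9)) = v2130 :=
  Lrfl
theorem f68430 : Led Lsl_bt (LP (LK LD1_c4 LD2_c48 LD3_c2)) = (LP (LK LD1_c2 LD2_c21 LD3_c55)) :=
  Lre_b IH (LK LD1_c4 LD2_c48 LD3_c2) (LK LD1_c2 LD2_c21 LD3_c55) Lrfl Lrfl
theorem f509146 : Led Lsl_ff (LP (LK LD1_c4 LD2_c48 LD3_c2)) = v2130 :=
  Lgr Lrot25 (Lpr_bt (f68430 IH) (Lpe (K49.f507339 IH) (Lpr_bt (f509143 IH) (Lpn v2130))))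
theorem f509148 : Led Lsl_ft (LP (LK LD1_c4 LD2_c48 LD3_c2)) = v2130 :=
  Lgr Lrot48 (Lpr_ff (f509146 IH) (Lpn v2130))
theorem f771691 : (LP (LK LD1_c3 LD2_c16 LD3_c57)) = v2130 :=
  Lefun (Lecon (Lfl_ff (f650702 IH)) (f771611 IH)) (f509148 IH)
theorem f771780 : v8631 = (LP (LK LD1_c6 LD2_c37 LD3_c14)) :=
  Lefun (Lecon (f671835 IH) (f771691 IH).symm) (f119186 IH)
theorem f68419 : Led Lsl_ct (LP (LK LD1_c9 LD2_c28 LD3_c59)) = (LP (LK LD1_c4 LD2_c48 LD3_c2)) :=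
  Lre_c IH (LK LD1_c9 LD2_c28 LD3_c59) (LK LD1_c4 LD2_c48 LD3_c2) Lrfl Lrfl
theorem f671837 : Led Lsl_ff (LP (LK LD1_c9 LD2_c28 LD3_c59)) = v8631 :=
  Lgr Lrot23 (Lpr_ct (f68419 IH) (Lpr_ft (f509148 IH) (Lpr_ct (f671835 IH) (Lpn v8631))))
theorem f671838 : Led Lsl_ft (LP (LK LD1_c9 LD2_c28 LD3_c59)) = v8631 :=
  Lgr Lrot48 (Lpr_ff (f671837 IH) (Lpn v8631))
theorem f118594 : Led Lsl_ct (LP (LK LD1_c12 LD2_c36 LD3_c48)) = (LP (LK LD1_c6 LD2_c35 LD3_c23)) :=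
  Lre_c IH (LK LD1_c12 LD2_c36 LD3_c48) (LK LD1_c6 LD2_c35 LD3_c23) Lrfl Lrfl
theorem f651861 : Led Lsl_af (LP (LK LD1_c12 LD2_c36 LD3_c48)) = (LP (LK LD1_c6 LD2_c37 LD3_c14)) :=
  Lgr Lrot68 (Lpr_ct (f118594 IH) (Lpq (K57.f651842 IH) (Lpe (K46.f650712 IH) (Lpr_ct (f119186 IH) (Lpn (LP (LK LD1_c6 LD2_c37 LD3_c14)))))))
theorem f118593 : Led Lsl_ct (LP (LK LD1_c6 LD2_c35 LD3_c23)) = (LP (LK LD1_c12 LD2_c36 LD3_c48)) :=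
  Lre_c IH (LK LD1_c6 LD2_c35 LD3_c23) (LK LD1_c12 LD2_c36 LD3_c48) Lrfl Lrfl
theorem f651847 : Led Lsl_ff (LP (LK LD1_c6 LD2_c37 LD3_c11)) = (LP (LK LD1_c12 LD2_c36 LD3_c48)) :=
  Lgr Lrot23 (Lpr_ct (f130835 IH) (Lpr_ft (K46.f650711 IH) (Lpqs (K57.f651842 IH) (Lpr_ct (f118593 IH) (Lpn (LP (LK LD1_c12 LD2_c36 LD3_c48)))))))
theorem f774959 : Led Lsl_af (LP (LK LD1_c9 LD2_c28 LD3_c59)) = (LP (LK LD1_c6 LD2_c37 LD3_c11)) :=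
  Lgr Lrot45 (Lpr_ft (f671838 IH) (Lpqs (f771780 IH) (Lpe (f651861 IH) (Lpe (f651847 IH) (Lpn (LP (LK LD1_c6 LD2_c37 LD3_c11)))))))
theorem f68442 : Led Lsl_dt (LP (LK LD1_c9 LD2_c28 LD3_c59)) = (LP (LK LD1_c17 LD2_c29 LD3_c23)) :=
  Lre_d IH (LK LD1_c9 LD2_c28 LD3_c59) (LK LD1_c17 LD2_c29 LD3_c23) Lrfl Lrfl
theorem f777419 : Led Lsl_at (LP (LK LD1_c17 LD2_c29 LD3_c23)) = v19051 :=
  Lgr Lrot51 (Lpe (f68442 IH) (Lpr_af (f774959 IH) (Lpr_df (f777418 IH) (Lpn v19051))))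
theorem f68441 : Led Lsl_dt (LP (LK LD1_c17 LD2_c29 LD3_c23)) = (LP (LK LD1_c9 LD2_c28 LD3_c59)) :=
  Lre_d IH (LK LD1_c17 LD2_c29 LD3_c23) (LK LD1_c9 LD2_c28 LD3_c59) Lrfl Lrfl
theorem f508722 : Led Lsl_dt (LP (LK LD1_c6 LD2_c37 LD3_c14)) = (LP (LK LD1_c12 LD2_c40 LD3_c19)) :=
  Lre_d IH (LK LD1_c6 LD2_c37 LD3_c14) (LK LD1_c12 LD2_c40 LD3_c19) Lrfl Lrfl
theorem f774963 : Led Lsl_ff (LP (LK LD1_c17 LD2_c29 LD3_c23)) = (LP (LK LD1_c12 LD2_c40 LD3_c19)) :=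
  Lgr Lrot19 (Lpr_dt (f68441 IH) (Lpr_ft (f671838 IH) (Lpqs (f771780 IH) (Lpr_dt (f508722 IH) (Lpn (LP (LK LD1_c12 LD2_c40 LD3_c19)))))))
theorem f777421 : Led Lsl_gf (LP (LK LD1_c12 LD2_c48 LD3_c26)) = (LP (LK LD1_c12 LD2_c40 LD3_c19)) :=
  Lgr Lrot47 (Lpr_gt (f777420 IH) (Lpe (f777419 IH) (Lpr_ff (f774963 IH) (Lpn (LP (LK LD1_c12 LD2_c40 LD3_c19))))))
theorem f777422 : Led Lsl_gt (LP (LK LD1_c12 LD2_c40 LD3_c19)) = (LP (LK LD1_c12 LD2_c48 LD3_c26)) :=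
  Leop (Lpr_gf (f777421 IH) (Lpn (LP (LK LD1_c12 LD2_c40 LD3_c19))))
theorem seed_1409 : LEOK LG_g (LK LD1_c12 LD2_c40 LD3_c19) :=
  Leoe_g (LK LD1_c12 LD2_c40 LD3_c19) (f777422 IH)
def v19057 : LQ := Led Lsl_ct (LP (LK LD1_c6 LD2_c37 LD3_c18))
theorem f777459 : Led Lsl_ct (LP (LK LD1_c6 LD2_c37 LD3_c18)) = v19057 :=
  Lrfl
theorem f78934 : Led Lsl_gt (LP (LK LD1_c3 LD2_c16 LD3_c60)) = (LP (LK LD1_c6 LD2_c37 LD3_c18)) :=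
  Lre_g IH (LK LD1_c3 LD2_c16 LD3_c60) (LK LD1_c6 LD2_c37 LD3_c18) Lrfl Lrfl
def v5932 : LQ := Led Lsl_gt (LP (LK LD1_c3 LD2_c15 LD3_c6))
theorem f650104 : Led Lsl_gt (LP (LK LD1_c3 LD2_c15 LD3_c6)) = v5932 :=
  Lrfl
theorem f768875 : K49.v5238 = v5932 :=
  Lefun (Lecon (K49.f663272 IH) (f768824 IH)) (f650104 IH)
theorem f527835 : Led Lsl_ct (LP (LK LD1_c6 LD2_c10 LD3_c22)) = (LP (LK LD1_c12 LD2_c1 LD3_c28)) :=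
  Lre_c IH (LK LD1_c6 LD2_c10 LD3_c22) (LK LD1_c12 LD2_c1 LD3_c28) Lrfl Lrfl
def v19046 : LQ := Led Lsl_dt (LP (LK LD1_c6 LD2_c37 LD3_c3))
theorem f777391 : Led Lsl_dt (LP (LK LD1_c6 LD2_c37 LD3_c3)) = v19046 :=
  Lrfl
theorem f776559 : Led Lsl_ff (LP (LK LD1_c12 LD2_c36 LD3_c43)) = (LP (LK LD1_c6 LD2_c37 LD3_c4)) :=
  Lgr Lrot3 (Lpr_ft (f776556 IH) (Lpn (LP (LK LD1_c6 LD2_c37 LD3_c4))))
theorem f776562 : Led Lsl_at (LP (LK LD1_c12 LD2_c36 LD3_c43)) = (LP (LK LD1_c6 LD2_c37 LD3_c3)) :=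
  Lgr Lrot26 (Lpr_ff (f776559 IH) (Lpr_gt (f103934 IH) (Lpr_gt (K58.f118477 IH) (Lpn (LP (LK LD1_c6 LD2_c37 LD3_c3))))))
theorem f776555 : Led Lsl_at v18941 = (LP (LK LD1_c6 LD2_c37 LD3_c4)) :=
  Lgr Lrot100 (Lpr_af (f776553 IH) (Lpn (LP (LK LD1_c6 LD2_c37 LD3_c4))))
theorem f776567 : Led Lsl_ff v18941 = (LP (LK LD1_c6 LD2_c37 LD3_c3)) :=
  Lgr Lrot30 (Lpr_at (f776555 IH) (Lpe (f776559 IH) (Lpr_at (f776562 IH) (Lpn (LP (LK LD1_c6 LD2_c37 LD3_c3))))))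
theorem f776568 : Led Lsl_ft v18941 = (LP (LK LD1_c6 LD2_c37 LD3_c3)) :=
  Lgr Lrot48 (Lpr_ff (f776567 IH) (Lpn (LP (LK LD1_c6 LD2_c37 LD3_c3))))
theorem f777394 : Led Lsl_ff v17105 = v19046 :=
  Lgr Lrot19 (Lpr_dt (f776550 IH) (Lpr_ft (f776568 IH) (Lpr_dt (f777391 IH) (Lpn v19046))))
theorem f671461 : Led Lsl_dt (LP (LK LD1_c6 LD2_c37 LD3_c4)) = v8503 :=
  Lgr Lrot42 (Lpr_df (f671459 IH) (Lpn v8503))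
theorem f776558 : Led Lsl_ff (LP (LK LD1_c12 LD2_c3 LD3_c2)) = v8503 :=
  Lgr Lrot19 (Lpe (K46.f650449 IH) (Lpr_ft (f776556 IH) (Lpr_dt (f671461 IH) (Lpn v8503))))
theorem f777402 : Led Lsl_at (LP (LK LD1_c12 LD2_c3 LD3_c2)) = v19046 :=
  Lgr Lrot66 (Lpr_ff (f776558 IH) (Lpe (f775795 IH) (Lpqs (f776552 IH) (Lpr_ff (f777394 IH) (Lpn v19046)))))
theorem f663270 : Led Lsl_ct (LP (LK LD1_c6 LD2_c11 LD3_c35)) = (LP (LK LD1_c12 LD2_c3 LD3_c4)) :=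
  Lre_c IH (LK LD1_c6 LD2_c11 LD3_c35) (LK LD1_c12 LD2_c3 LD3_c4) Lrfl Lrfl
theorem f671463 : Led Lsl_gt (LP (LK LD1_c12 LD2_c3 LD3_c4)) = v8503 :=
  Lgr Lrot94 (Lpe (f663270 IH) (Lpe (K49.f663271 IH) (Lpe (K49.f624094 IH) (Lpr_gt (K49.f78968 IH) (Lpr_dt (K49.f78961 IH) (Lpe (K4.f118481 IH) (Lpe (K4.f118394 IH) (Lpe (f103934 IH) (Lpr_df (f671459 IH) (Lpn v8503))))))))))
theorem f646616 : Led Lsl_ft (LP (LK LD1_c12 LD2_c3 LD3_c4)) = (LP (LK LD1_c6 LD2_c11 LD3_c31)) :=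
  Lre_f IH (LK LD1_c12 LD2_c3 LD3_c4) (LK LD1_c6 LD2_c11 LD3_c31) Lrfl Lrfl
theorem f527834 : Led Lsl_ct (LP (LK LD1_c12 LD2_c1 LD3_c28)) = (LP (LK LD1_c6 LD2_c10 LD3_c22)) :=
  Lre_c IH (LK LD1_c12 LD2_c1 LD3_c28) (LK LD1_c6 LD2_c10 LD3_c22) Lrfl Lrfl
theorem f646737 : Led Lsl_af (LP (LK LD1_c3 LD2_c2 LD3_c21)) = K49.v5238 :=
  Lgr Lrot0 (Lpr_at (K49.f646736 IH) (Lpn K49.v5238))
theorem f663308 : Led Lsl_af (LP (LK LD1_c12 LD2_c1 LD3_c28)) = (LP (LK LD1_c6 LD2_c11 LD3_c31)) :=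
  Lgr Lrot68 (Lpr_ct (f527834 IH) (Lpq (K49.f663198 IH) (Lpe (f646737 IH) (Lpr_ct (K5.f130838 IH) (Lpn (LP (LK LD1_c6 LD2_c11 LD3_c31)))))))
theorem f671465 : Led Lsl_gf (LP (LK LD1_c12 LD2_c1 LD3_c28)) = v8503 :=
  Lgr Lrot76 (Lpr_af (f663308 IH) (Lpe (f646616 IH) (Lpr_gt (f671463 IH) (Lpn v8503))))
theorem f777403 : Led Lsl_gt (LP (LK LD1_c12 LD2_c1 LD3_c28)) = v19046 :=
  Lgr Lrot46 (Lpr_gf (f671465 IH) (Lpe (f776558 IH) (Lpr_at (f777402 IH) (Lpn v19046))))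
theorem f118478 : Led Lsl_gf (LP (LK LD1_c12 LD2_c36 LD3_c45)) = (LP (LK LD1_c6 LD2_c37 LD3_c3)) :=
  Lgr Lrot76 (Lpr_af (K4.f118461 IH) (Lpe (K4.f118476 IH) (Lpr_gt (K58.f118477 IH) (Lpn (LP (LK LD1_c6 LD2_c37 LD3_c3))))))
theorem f118438 : Led Lsl_at (LP (LK LD1_c12 LD2_c36 LD3_c44)) = (LP (LK LD1_c6 LD2_c37 LD3_c5)) :=
  Lgr Lrot100 (Lpr_af (K4.f118432 IH) (Lpn (LP (LK LD1_c6 LD2_c37 LD3_c5))))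
theorem f118492 : Led Lsl_ft (LP (LK LD1_c21 LD2_c42 LD3_c58)) = (LP (LK LD1_c12 LD2_c36 LD3_c44)) :=
  Lre_f IH (LK LD1_c21 LD2_c42 LD3_c58) (LK LD1_c12 LD2_c36 LD3_c44) Lrfl Lrfl
theorem f119144 : Led Lsl_gt (LP (LK LD1_c12 LD2_c40 LD3_c2)) = (LP (LK LD1_c6 LD2_c37 LD3_c5)) :=
  Lre_g IH (LK LD1_c12 LD2_c40 LD3_c2) (LK LD1_c6 LD2_c37 LD3_c5) Lrfl Lrfl
theorem f119145 : Led Lsl_gt (LP (LK LD1_c21 LD2_c42 LD3_c58)) = (LP (LK LD1_c12 LD2_c40 LD3_c2)) :=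
  Lgr Lrot5 (Lpr_ft (f118492 IH) (Lpr_at (f118438 IH) (Lpe (f119144 IH) (Lpn (LP (LK LD1_c12 LD2_c40 LD3_c2))))))
theorem f755146 : Led Lsl_ff (LP (LK LD1_c12 LD2_c37 LD3_c11)) = (LP (LK LD1_c6 LD2_c38 LD3_c33)) :=
  Lgr Lrot30 (Lpr_at (K56.f754906 IH) (Lpe (K57.f755131 IH) (Lpr_at (K57.f755135 IH) (Lpn (LP (LK LD1_c6 LD2_c38 LD3_c33))))))
theorem f755152 : Led Lsl_ft (LP (LK LD1_c12 LD2_c37 LD3_c11)) = (LP (LK LD1_c6 LD2_c38 LD3_c33)) :=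
  Lgr Lrot48 (Lpr_ff (f755146 IH) (Lpn (LP (LK LD1_c6 LD2_c38 LD3_c33))))
theorem f118452 : Led Lsl_gt (LP (LK LD1_c21 LD2_c42 LD3_c56)) = (LP (LK LD1_c12 LD2_c36 LD3_c44)) :=
  Lre_g IH (LK LD1_c21 LD2_c42 LD3_c56) (LK LD1_c12 LD2_c36 LD3_c44) Lrfl Lrfl
theorem f754663 : Led Lsl_cf (LP (LK LD1_c21 LD2_c42 LD3_c56)) = (LP (LK LD1_c12 LD2_c37 LD3_c11)) :=
  Lgr Lrot169 (Lpr_gt (f118452 IH) (Lpr_ct (K57.f118441 IH) (Lpe (K4.f118393 IH) (Lpe (K4.f118402 IH) (Lpe (K46.f110220 IH) (Lpe (K57.f118603 IH) (Lpq (K56.f651837 IH) (Lpqs (K56.f754656 IH) (Lpe (K56.f650492 IH) (Lpe (K58.f62241 IH) (Lpe (K56.f93921 IH) (Lpn (LP (LK LD1_c12 LD2_c37 LD3_c11))))))))))))))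
theorem f754665 : Led Lsl_ct (LP (LK LD1_c21 LD2_c42 LD3_c56)) = (LP (LK LD1_c12 LD2_c37 LD3_c11)) :=
  Lgr Lrot59 (Lpr_cf (f754663 IH) (Lpn (LP (LK LD1_c12 LD2_c37 LD3_c11))))
theorem f755156 : Led Lsl_ff (LP (LK LD1_c21 LD2_c42 LD3_c56)) = (LP (LK LD1_c12 LD2_c40 LD3_c1)) :=
  Lgr Lrot23 (Lpr_ct (f754665 IH) (Lpr_ft (f755152 IH) (Lpr_ct (K57.f754475 IH) (Lpn (LP (LK LD1_c12 LD2_c40 LD3_c1))))))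
theorem f755158 : Led Lsl_at (LP (LK LD1_c21 LD2_c42 LD3_c56)) = (LP (LK LD1_c12 LD2_c40 LD3_c2)) :=
  Lgr Lrot26 (Lpr_ff (f755156 IH) (Lpe (K57.f119126 IH) (Lpr_gt (f119145 IH) (Lpn (LP (LK LD1_c12 LD2_c40 LD3_c2))))))
theorem f119129 : Led Lsl_dt (LP (LK LD1_c12 LD2_c40 LD3_c1)) = (LP (LK LD1_c21 LD2_c46 LD3_c21)) :=
  Lre_d IH (LK LD1_c12 LD2_c40 LD3_c1) (LK LD1_c21 LD2_c46 LD3_c21) Lrfl Lrfl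
theorem f755139 : Led Lsl_ct (LP (LK LD1_c21 LD2_c46 LD3_c21)) = (LP (LK LD1_c12 LD2_c40 LD3_c22)) :=
  Lgr Lrot59 (Lpr_cf (K57.f755137 IH) (Lpn (LP (LK LD1_c12 LD2_c40 LD3_c22))))
theorem f624098 : Led Lsl_dt (LP (LK LD1_c12 LD2_c40 LD3_c22)) = (LP (LK LD1_c6 LD2_c37 LD3_c17)) :=
  Lre_d IH (LK LD1_c12 LD2_c40 LD3_c22) (LK LD1_c6 LD2_c37 LD3_c17) Lrfl Lrfl
theorem f119097 : Led Lsl_ct (LP (LK LD1_c6 LD2_c37 LD3_c17)) = (LP (LK LD1_c3 LD2_c16 LD3_c59)) :=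
  Lre_c IH (LK LD1_c6 LD2_c37 LD3_c17) (LK LD1_c3 LD2_c16 LD3_c59) Lrfl Lrfl
theorem f755160 : Led Lsl_cf (LP (LK LD1_c12 LD2_c40 LD3_c2)) = (LP (LK LD1_c6 LD2_c38 LD3_c34)) :=
  Lgr Lrot102 (Lpe (f755158 IH) (Lpr_ff (f755156 IH) (Lpr_dt (f119129 IH) (Lpr_ct (f755139 IH) (Lpr_dt (f624098 IH) (Lpr_ct (f119097 IH) (Lpr_dt (K49.f624097 IH) (Lpr_ct (K56.f675683 IH) (Lpe (K56.f675653 IH) (Lpn (LP (LK LD1_c6 LD2_c38 LD3_c34))))))))))))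
theorem f755164 : Led Lsl_ct (LP (LK LD1_c12 LD2_c40 LD3_c2)) = (LP (LK LD1_c6 LD2_c38 LD3_c34)) :=
  Lgr Lrot59 (Lpr_cf (f755160 IH) (Lpn (LP (LK LD1_c6 LD2_c38 LD3_c34))))
theorem f435625 : Led Lsl_et (LP (LK LD1_c3 LD2_c15 LD3_c5)) = (LP (LK LD1_c6 LD2_c33 LD3_c38)) :=
  Lre_e IH (LK LD1_c3 LD2_c15 LD3_c5) (LK LD1_c6 LD2_c33 LD3_c38) Lrfl Lrfl
theorem f768785 : K56.v2635 = (LP (LK LD1_c3 LD2_c15 LD3_c5)) :=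
  Lefun (Lecon (Lfl_ff (K58.f675658 IH)) ((K58.f678603 IH).trans (K58.f768779 IH).symm)) (Lfl_ff (K58.f508553 IH))
theorem f768800 : K56.v9389 = (LP (LK LD1_c6 LD2_c33 LD3_c38)) :=
  Lefun (Lecon (K56.f675651 IH) (f768785 IH)) (f435625 IH)
theorem f435582 : Led Lsl_ct (LP (LK LD1_c3 LD2_c15 LD3_c6)) = (LP (LK LD1_c6 LD2_c33 LD3_c38)) :=
  Lre_c IH (LK LD1_c3 LD2_c15 LD3_c6) (LK LD1_c6 LD2_c33 LD3_c38) Lrfl Lrfl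
def v5933 : LQ := Led Lsl_gf (LP (LK LD1_c3 LD2_c15 LD3_c6))
theorem f650105 : Led Lsl_gf (LP (LK LD1_c3 LD2_c15 LD3_c6)) = v5933 :=
  Lrfl
theorem f768877 : (LP (LK LD1_c6 LD2_c11 LD3_c35)) = v5933 :=
  Lefun (Lecon (K49.f663271 IH) (f768824 IH)) (f650105 IH)
theorem f777395 : Led Lsl_gf (LP (LK LD1_c12 LD2_c3 LD3_c4)) = v19046 :=
  Lgr Lrot179 (Lpr_ct (K57.f663267 IH) (Lpqs (f768877 IH) (Lpe (f650105 IH) (Lpr_ct (f435582 IH) (Lpq (f768800 IH) (Lpe (K56.f675653 IH) (Lpe (f755164 IH) (Lpe (f119145 IH) (Lpe (K4.f118460 IH) (Lpr_gf (f118478 IH) (Lpr_dt (f777391 IH) (Lpn v19046))))))))))))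
theorem f663314 : Led Lsl_dt (LP (LK LD1_c12 LD2_c3 LD3_c4)) = (LP (LK LD1_c21 LD2_c8 LD3_c20)) :=
  Lre_d IH (LK LD1_c12 LD2_c3 LD3_c4) (LK LD1_c21 LD2_c8 LD3_c20) Lrfl Lrfl
theorem f527819 : Led Lsl_dt (LP (LK LD1_c12 LD2_c1 LD3_c28)) = (LP (LK LD1_c21 LD2_c6 LD3_c59)) :=
  Lre_d IH (LK LD1_c12 LD2_c1 LD3_c28) (LK LD1_c21 LD2_c6 LD3_c59) Lrfl Lrfl
theorem f663312 : Led Lsl_at (LP (LK LD1_c21 LD2_c6 LD3_c59)) = (LP (LK LD1_c12 LD2_c3 LD3_c3)) :=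
  Lgr Lrot51 (Lpe (f527819 IH) (Lpr_af (f663308 IH) (Lpe (K5.f130839 IH) (Lpn (LP (LK LD1_c12 LD2_c3 LD3_c3))))))
theorem f663315 : Led Lsl_af (LP (LK LD1_c21 LD2_c6 LD3_c59)) = (LP (LK LD1_c12 LD2_c3 LD3_c3)) :=
  Lgr Lrot0 (Lpr_at (f663312 IH) (Lpn (LP (LK LD1_c12 LD2_c3 LD3_c3))))
theorem f527818 : Led Lsl_et (LP (LK LD1_c12 LD2_c1 LD3_c28)) = (LP (LK LD1_c6 LD2_c10 LD3_c21)) :=
  Lre_e IH (LK LD1_c12 LD2_c1 LD3_c28) (LK LD1_c6 LD2_c10 LD3_c21) Lrfl Lrfl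
theorem f93558 : Led Lsl_et (LP (LK LD1_c1 LD2_c34 LD3_c45)) = (LP (LK LD1_c3 LD2_c15 LD3_c61)) :=
  Lre_e IH (LK LD1_c1 LD2_c34 LD3_c45) (LK LD1_c3 LD2_c15 LD3_c61) Lrfl Lrfl
theorem f96763 : Led Lsl_dt (LP (LK LD1_c6 LD2_c35 LD3_c18)) = (LP (LK LD1_c12 LD2_c36 LD3_c41)) :=
  Lre_d IH (LK LD1_c6 LD2_c35 LD3_c18) (LK LD1_c12 LD2_c36 LD3_c41) Lrfl Lrfl
theorem f527820 : Led Lsl_gf (LP (LK LD1_c21 LD2_c6 LD3_c59)) = (LP (LK LD1_c12 LD2_c36 LD3_c41)) :=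
  Lgr Lrot134 (Lpe (f527819 IH) (Lpr_et (f527818 IH) (Lpr_gt (K34.f527812 IH) (Lpe (K34.f65567 IH) (Lpr_dt (K3.f65566 IH) (Lpe (K3.f96731 IH) (Lpe (K4.f93522 IH) (Lpr_et (f93558 IH) (Lpr_gt (f96762 IH) (Lpr_dt (f96763 IH) (Lpn (LP (LK LD1_c12 LD2_c36 LD3_c41)))))))))))))
theorem f663347 : Led Lsl_ft (LP (LK LD1_c21 LD2_c8 LD3_c20)) = (LP (LK LD1_c12 LD2_c3 LD3_c3)) :=
  Lre_f IH (LK LD1_c21 LD2_c8 LD3_c20) (LK LD1_c12 LD2_c3 LD3_c3) Lrfl Lrfl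
theorem f663348 : Led Lsl_gf (LP (LK LD1_c12 LD2_c36 LD3_c41)) = (LP (LK LD1_c21 LD2_c8 LD3_c20)) :=
  Lgr Lrot47 (Lpe (f527820 IH) (Lpr_af (f663315 IH) (Lpe (f663347 IH) (Lpn (LP (LK LD1_c21 LD2_c8 LD3_c20))))))
def v18898 : LQ := Led Lsl_dt (LP (LK LD1_c6 LD2_c34 LD3_c42))
theorem f776342 : Led Lsl_dt (LP (LK LD1_c6 LD2_c34 LD3_c42)) = v18898 :=
  Lrfl
theorem f65471 : Led Lsl_ct (LP (LK LD1_c3 LD2_c15 LD3_c41)) = (LP (LK LD1_c6 LD2_c34 LD3_c43)) :=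
  Lre_c IH (LK LD1_c3 LD2_c15 LD3_c41) (LK LD1_c6 LD2_c34 LD3_c43) Lrfl Lrfl
theorem f150998 : Led Lsl_gt (LP (LK LD1_c6 LD2_c34 LD3_c43)) = (LP (LK LD1_c12 LD2_c35 LD3_c51)) :=
  Lre_g IH (LK LD1_c6 LD2_c34 LD3_c43) (LK LD1_c12 LD2_c35 LD3_c51) Lrfl Lrfl
theorem f754611 : Led Lsl_ft (LP (LK LD1_c12 LD2_c35 LD3_c52)) = (LP (LK LD1_c21 LD2_c7 LD3_c12)) :=
  Lgr Lrot4 (Lpr_cf (K56.f754606 IH) (Lpe (K56.f754598 IH) (Lpe (K46.f651624 IH) (Lpn (LP (LK LD1_c21 LD2_c7 LD3_c12))))))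
theorem f508627 : Led Lsl_dt (LP (LK LD1_c6 LD2_c34 LD3_c45)) = (LP (LK LD1_c3 LD2_c15 LD3_c42)) :=
  Lre_d IH (LK LD1_c6 LD2_c34 LD3_c45) (LK LD1_c3 LD2_c15 LD3_c42) Lrfl Lrfl
theorem f508628 : Led Lsl_ct (LP (LK LD1_c12 LD2_c35 LD3_c59)) = (LP (LK LD1_c6 LD2_c34 LD3_c45)) :=
  Lre_c IH (LK LD1_c12 LD2_c35 LD3_c59) (LK LD1_c6 LD2_c34 LD3_c45) Lrfl Lrfl
theorem f754613 : Led Lsl_dt (LP (LK LD1_c12 LD2_c35 LD3_c52)) = (LP (LK LD1_c12 LD2_c35 LD3_c59)) :=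
  Lgr Lrot140 (Lpr_cf (K56.f754606 IH) (Lpe (K56.f754510 IH) (Lpe (K56.f678371 IH) (Lpe (K46.f624033 IH) (Lpr_ft (K46.f508626 IH) (Lpqs (K46.f651808 IH) (Lpr_at (K46.f646530 IH) (Lpq (K46.f651809 IH) (Lpe (K49.f453816 IH) (Lpe (f508627 IH) (Lpe (f508628 IH) (Lpn (LP (LK LD1_c12 LD2_c35 LD3_c59))))))))))))))
theorem f754623 : Led Lsl_af (LP (LK LD1_c12 LD2_c35 LD3_c51)) = (LP (LK LD1_c21 LD2_c7 LD3_c12)) :=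
  Lgr Lrot31 (Lpe (f150998 IH) (Lpe (K56.f150985 IH) (Lpr_ft (f754611 IH) (Lpn (LP (LK LD1_c21 LD2_c7 LD3_c12))))))
theorem f754625 : Led Lsl_ct (LP (LK LD1_c7 LD2_c31 LD3_c46)) = (LP (LK LD1_c12 LD2_c35 LD3_c51)) :=
  Lgr Lrot98 (Lpe (K56.f754565 IH) (Lpe (K56.f65480 IH) (Lpe (K46.f65479 IH) (Lpe (K49.f453816 IH) (Lpe (f508627 IH) (Lpe (f508628 IH) (Lpe (f754613 IH) (Lpr_ft (f754611 IH) (Lpe (f754623 IH) (Lpn (LP (LK LD1_c12 LD2_c35 LD3_c51))))))))))))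
theorem f754630 : Led Lsl_cf (LP (LK LD1_c7 LD2_c31 LD3_c46)) = (LP (LK LD1_c12 LD2_c35 LD3_c51)) :=
  Lgr Lrot11 (Lpr_ct (f754625 IH) (Lpn (LP (LK LD1_c12 LD2_c35 LD3_c51))))
theorem f776348 : Led Lsl_gf (LP (LK LD1_c6 LD2_c36 LD3_c15)) = v18898 :=
  Lgr Lrot179 (Lpr_ct (K46.f453921 IH) (Lpr_gt (K49.f624291 IH) (Lpr_ct (K56.f65480 IH) (Lpr_dt (K56.f754565 IH) (Lpr_cf (f754630 IH) (Lpe (f150998 IH) (Lpe (f65471 IH) (Lpe (K58.f65477 IH) (Lpr_dt (f776342 IH) (Lpn v18898))))))))))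
theorem f624285 : Led Lsl_at (LP (LK LD1_c3 LD2_c18 LD3_c37)) = (LP (LK LD1_c6 LD2_c36 LD3_c15)) :=
  Lgr Lrot100 (Lpr_af (K46.f624280 IH) (Lpn (LP (LK LD1_c6 LD2_c36 LD3_c15))))
theorem f776349 : Led Lsl_gt (LP (LK LD1_c6 LD2_c41 LD3_c10)) = v18898 :=
  Lgr Lrot5 (Lpr_ft (K46.f508868 IH) (Lpr_at (f624285 IH) (Lpr_gf (f776348 IH) (Lpn v18898))))
def v18862 : LQ := Led Lsl_gt (LP (LK LD1_c6 LD2_c34 LD3_c17))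
theorem f776207 : Led Lsl_gt (LP (LK LD1_c6 LD2_c34 LD3_c17)) = v18862 :=
  Lrfl
theorem f65589 : Led Lsl_dt (LP (LK LD1_c3 LD2_c15 LD3_c29)) = (LP (LK LD1_c6 LD2_c34 LD3_c17)) :=
  Lre_d IH (LK LD1_c3 LD2_c15 LD3_c29) (LK LD1_c6 LD2_c34 LD3_c17) Lrfl Lrfl
theorem f139967 : Led Lsl_ct (LP (LK LD1_c6 LD2_c10 LD3_c21)) = (LP (LK LD1_c3 LD2_c1 LD3_c46)) :=
  Lre_c IH (LK LD1_c6 LD2_c10 LD3_c21) (LK LD1_c3 LD2_c1 LD3_c46) Lrfl Lrfl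
theorem f62128 : Led Lsl_ct (LP (LK LD1_c3 LD2_c16 LD3_c25)) = (LP (LK LD1_c6 LD2_c36 LD3_c12)) :=
  Lre_c IH (LK LD1_c3 LD2_c16 LD3_c25) (LK LD1_c6 LD2_c36 LD3_c12) Lrfl Lrfl
theorem f776209 : Led Lsl_df (LP (LK LD1_c6 LD2_c36 LD3_c12)) = v18862 :=
  Lgr Lrot84 (Lpe (f62128 IH) (Lpe (K46.f62101 IH) (Lpe (K32.f62109 IH) (Lpe (K46.f62166 IH) (Lpe (K9.f62168 IH) (Lpe (f139967 IH) (Lpr_gt (K34.f527812 IH) (Lpr_dt (f65589 IH) (Lpr_gt (f776207 IH) (Lpn v18862))))))))))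
theorem f776210 : Led Lsl_dt (LP (LK LD1_c6 LD2_c36 LD3_c12)) = v18862 :=
  Lgr Lrot42 (Lpr_df (f776209 IH) (Lpn v18862))
theorem f776351 : Led Lsl_et (LP (LK LD1_c6 LD2_c35 LD3_c18)) = v18898 :=
  Lgr Lrot122 (Lpr_dt (f96763 IH) (Lpe (f527820 IH) (Lpe (f527819 IH) (Lpr_et (f527818 IH) (Lpr_gt (K34.f527812 IH) (Lpr_dt (f65589 IH) (Lpr_gt (f776207 IH) (Lpe (f776210 IH) (Lpr_et (K46.f624172 IH) (Lpr_gt (f776349 IH) (Lpn v18898)))))))))))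
theorem f509015 : Led Lsl_et (LP (LK LD1_c3 LD2_c16 LD3_c26)) = (LP (LK LD1_c6 LD2_c36 LD3_c15)) :=
  Lre_e IH (LK LD1_c3 LD2_c16 LD3_c26) (LK LD1_c6 LD2_c36 LD3_c15) Lrfl Lrfl
def v18987 : LQ := Led Lsl_gf (LP (LK LD1_c6 LD2_c36 LD3_c11))
theorem f777072 : Led Lsl_gf (LP (LK LD1_c6 LD2_c36 LD3_c11)) = v18987 :=
  Lrfl
theorem f777073 : Led Lsl_gt (LP (LK LD1_c6 LD2_c36 LD3_c14)) = v18987 :=
  Lgr Lrot5 (Lpe (f624424 IH) (Lpe (f624372 IH) (Lpr_gf (f777072 IH) (Lpn v18987))))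
theorem f646718 : Led Lsl_gt K46.v1788 = K46.v5234 :=
  Lgr Lrot112 (Lpe (K46.f502904 IH) (Lpr_et (K49.f62059 IH) (Lpe (K46.f62033 IH) (Lpr_ef (K46.f62052 IH) (Lpr_dt (K46.f62051 IH) (Lpe (K46.f61992 IH) (Lpe (K46.f62050 IH) (Lpe (K46.f62021 IH) (Lpe (K46.f62022 IH) (Lpr_dt (K46.f646716 IH) (Lpn K46.v5234)))))))))))
def v17107 : LQ := Led Lsl_at (LP (LK LD1_c6 LD2_c11 LD3_c32))
theorem f755111 : Led Lsl_at (LP (LK LD1_c6 LD2_c11 LD3_c32)) = v17107 :=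
  Lrfl
theorem f754115 : Led Lsl_ff (LP (LK LD1_c6 LD2_c11 LD3_c32)) = v17000 :=
  Lgr Lrot23 (Lpr_ct (K48.f443617 IH) (Lpr_ft (K49.f646727 IH) (Lpqs (K49.f663219 IH) (Lpr_ct (f754112 IH) (Lpn v17000)))))
theorem f754120 : Led Lsl_at v8084 = v17000 :=
  Lgr Lrot107 (Lpe (f669922 IH) (Lpr_af (K49.f646728 IH) (Lpqs (K49.f663219 IH) (Lpr_cf (f754114 IH) (Lpn v17000)))))
theorem f755115 : Led Lsl_ff v8084 = v17107 :=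
  Lgr Lrot30 (Lpr_at (f754120 IH) (Lpe (f754115 IH) (Lpr_at (f755111 IH) (Lpn v17107))))
theorem f755117 : Led Lsl_ft v8084 = v17107 :=
  Lgr Lrot48 (Lpr_ff (f755115 IH) (Lpn v17107))
theorem f755112 : Led Lsl_af (LP (LK LD1_c6 LD2_c11 LD3_c32)) = v17107 :=
  Lgr Lrot0 (Lpr_at (f755111 IH) (Lpn v17107))
def v17106 : LQ := Led Lsl_gf (LP (LK LD1_c6 LD2_c11 LD3_c32))
theorem f755110 : Led Lsl_gf (LP (LK LD1_c6 LD2_c11 LD3_c32)) = v17106 :=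
  Lrfl
theorem f755119 : Led Lsl_gt v8084 = v17106 :=
  Lgr Lrot5 (Lpr_ft (f755117 IH) (Lpe (f755112 IH) (Lpr_gf (f755110 IH) (Lpn v17106))))
theorem f777075 : Led Lsl_dt v17106 = v18987 :=
  Lgr Lrot57 (Lpe (f755119 IH) (Lpe (f669922 IH) (Lpr_gt (f646718 IH) (Lpe (K49.f646714 IH) (Lpqs (K49.f678502 IH) (Lpe (K49.f624545 IH) (Lpqs (K46.f624152 IH) (Lpr_dt (K46.f62125 IH) (Lpe (K49.f62120 IH) (Lpe (f62147 IH) (Lpr_gf (f777072 IH) (Lpn v18987))))))))))))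
theorem f777396 : Led Lsl_et v17106 = v19046 :=
  Lgr Lrot121 (Lpr_dt (f777075 IH) (Lpe (f777073 IH) (Lpe (f453911 IH) (Lpr_et (f509015 IH) (Lpr_gf (f776348 IH) (Lpe (f776351 IH) (Lpr_dt (f96763 IH) (Lpr_gf (f663348 IH) (Lpe (f663314 IH) (Lpr_gf (f777395 IH) (Lpn v19046)))))))))))
theorem f777397 : Led Lsl_ef v17106 = v19046 :=
  Lgr Lrot88 (Lpr_et (f777396 IH) (Lpn v19046))
theorem f453918 : Led Lsl_ct (LP (LK LD1_c3 LD2_c16 LD3_c26)) = (LP (LK LD1_c1 LD2_c34 LD3_c56)) :=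
  Lre_c IH (LK LD1_c3 LD2_c16 LD3_c26) (LK LD1_c1 LD2_c34 LD3_c56) Lrfl Lrfl
def v8583 : LQ := Led Lsl_gf K49.v2103
theorem f671675 : Led Lsl_gf K49.v2103 = v8583 :=
  Lrfl
theorem f681524 : Led Lsl_cf v8583 = K56.v10728 :=
  Lgr Lrot169 (Lpe (f671675 IH) (Lpe (K49.f508879 IH) (Lpe (K46.f453913 IH) (Lpe (f453918 IH) (Lpq (K46.f624130 IH) (Lpr_gf (K46.f624296 IH) (Lpr_cf (K46.f651176 IH) (Lpe (K46.f651172 IH) (Lpe (K46.f508800 IH) (Lpr_gt (K56.f681522 IH) (Lpn K56.v10728)))))))))))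
theorem f681525 : Led Lsl_ct v8583 = K56.v10728 :=
  Lgr Lrot59 (Lpr_cf (f681524 IH) (Lpn K56.v10728))
theorem f671676 : Led Lsl_gt (LP (LK LD1_c6 LD2_c36 LD3_c12)) = v8583 :=
  Lgr Lrot5 (Lpr_ft (K49.f624174 IH) (Lpr_at (K57.f624369 IH) (Lpr_gf (f671675 IH) (Lpn v8583))))
theorem f681526 : Led Lsl_gt (LP (LK LD1_c6 LD2_c11 LD3_c32)) = v10725 :=
  Lgr Lrot150 (Lpe (K32.f443622 IH) (Lpr_gf (K46.f646711 IH) (Lpe (K46.f646716 IH) (Lpqs (K49.f678502 IH) (Lpe (K49.f624545 IH) (Lpqs (K46.f624152 IH) (Lpr_ct (f62128 IH) (Lpr_gt (f671676 IH) (Lpr_ct (f681525 IH) (Lpe (K56.f681520 IH) (Lpr_cf (f681514 IH) (Lpn v10725))))))))))))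
theorem f769167 : Led Lsl_ff v8508 = v17106 :=
  Lgr Lrot52 (Lpr_at (f769156 IH) (Lpe (f681526 IH) (Lpr_gf (f755110 IH) (Lpn v17106))))
theorem f777398 : Led Lsl_ft v10706 = v19046 :=
  Lgr Lrot86 (Lpe (f681459 IH) (Lpq (f769136 IH) (Lpe (f671449 IH) (Lpr_ef (f671478 IH) (Lpr_ff (f769167 IH) (Lpr_ef (f777397 IH) (Lpn v19046)))))))
theorem f625659 : Led Lsl_cf K58.v830 = v3438 :=
  Lgr Lrot11 (Lpr_ct (f625658 IH) (Lpn v3438))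
theorem f681462 : Led Lsl_ct v3440 = v10706 :=
  Lgr Lrot15 (Lpe (f625662 IH) (Lpr_cf (f625659 IH) (Lpr_ef (f681461 IH) (Lpn v10706))))
def v10715 : LQ := Led Lsl_ft v3440
theorem f681489 : Led Lsl_ft v3440 = v10715 :=
  Lrfl
theorem f681490 : Led Lsl_ff v3440 = v10715 :=
  Lgr Lrot3 (Lpr_ft (f681489 IH) (Lpn v10715))
theorem f777399 : Led Lsl_cf v10715 = v19046 :=
  Lgr Lrot108 (Lpe (f681490 IH) (Lpr_ct (f681462 IH) (Lpr_ft (f777398 IH) (Lpn v19046))))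
theorem f777463 : Led Lsl_dt v10715 = v19057 :=
  Lgr Lrot27 (Lpr_cf (f777399 IH) (Lpe (f777403 IH) (Lpe (f527835 IH) (Lpq (K49.f663198 IH) (Lpqs (f768875 IH) (Lpe (f650104 IH) (Lpq (f768824 IH) (Lpe (K49.f624097 IH) (Lpr_gt (K49.f78968 IH) (Lpr_ct (K4.f78950 IH) (Lpr_gt (f78934 IH) (Lpr_ct (f777459 IH) (Lpn v19057)))))))))))))
theorem f118499 : Led Lsl_ct (LP (LK LD1_c12 LD2_c39 LD3_c58)) = (LP (LK LD1_c6 LD2_c37 LD3_c3)) :=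
  Lre_c IH (LK LD1_c12 LD2_c39 LD3_c58) (LK LD1_c6 LD2_c37 LD3_c3) Lrfl Lrfl
theorem f769453 : Led Lsl_dt (LP (LK LD1_c21 LD2_c46 LD3_c13)) = (LP (LK LD1_c12 LD2_c39 LD3_c58)) :=
  Lre_d IH (LK LD1_c21 LD2_c46 LD3_c13) (LK LD1_c12 LD2_c39 LD3_c58) Lrfl Lrfl
theorem f777460 : Led Lsl_cf (LP (LK LD1_c6 LD2_c37 LD3_c18)) = v19057 :=
  Lgr Lrot11 (Lpr_ct (f777459 IH) (Lpn v19057))
def v19056 : LQ := Led Lsl_at (LP (LK LD1_c6 LD2_c37 LD3_c18))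
theorem f777451 : Led Lsl_at (LP (LK LD1_c6 LD2_c37 LD3_c18)) = v19056 :=
  Lrfl
theorem f777452 : Led Lsl_af (LP (LK LD1_c6 LD2_c37 LD3_c18)) = v19056 :=
  Lgr Lrot0 (Lpr_at (f777451 IH) (Lpn v19056))
theorem f78937 : Led Lsl_gt (LP (LK LD1_c6 LD2_c37 LD3_c19)) = (LP (LK LD1_c3 LD2_c16 LD3_c60)) :=
  Lre_g IH (LK LD1_c6 LD2_c37 LD3_c19) (LK LD1_c3 LD2_c16 LD3_c60) Lrfl Lrfl
theorem f777456 : Led Lsl_ft (LP (LK LD1_c6 LD2_c37 LD3_c19)) = v19056 :=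
  Lgr Lrot2 (Lpr_gt (f78937 IH) (Lpr_gt (f78934 IH) (Lpr_af (f777452 IH) (Lpn v19056))))
theorem f775109 : Led Lsl_dt (LP (LK LD1_c6 LD2_c37 LD3_c19)) = (LP (LK LD1_c12 LD2_c40 LD3_c26)) :=
  Lre_d IH (LK LD1_c6 LD2_c37 LD3_c19) (LK LD1_c12 LD2_c40 LD3_c26) Lrfl Lrfl
theorem f777467 : Led Lsl_cf (LP (LK LD1_c21 LD2_c46 LD3_c13)) = (LP (LK LD1_c12 LD2_c40 LD3_c26)) :=
  Lgr Lrot118 (Lpr_dt (f769453 IH) (Lpr_ct (f118499 IH) (Lpr_dt (f777391 IH) (Lpe (f777399 IH) (Lpr_dt (f777463 IH) (Lpe (f777460 IH) (Lpr_af (f777452 IH) (Lpe (f777456 IH) (Lpr_dt (f775109 IH) (Lpn (LP (LK LD1_c12 LD2_c40 LD3_c26))))))))))))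
theorem f777468 : Led Lsl_ct (LP (LK LD1_c12 LD2_c40 LD3_c26)) = (LP (LK LD1_c21 LD2_c46 LD3_c13)) :=
  Leop (Lpr_cf (f777467 IH) (Lpn (LP (LK LD1_c12 LD2_c40 LD3_c26))))
theorem seed_1410 : LEOK LG_c (LK LD1_c12 LD2_c40 LD3_c26) :=
  Leoe_c (LK LD1_c12 LD2_c40 LD3_c26) (f777468 IH)
theorem f658235 : Led Lsl_df v3440 = v6755 :=
  Lgr Lrot38 (Lpr_dt (f658234 IH) (Lpn v6755))
theorem f777466 : Led Lsl_ff v6755 = v19057 :=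
  Lgr Lrot19 (Lpe (f658235 IH) (Lpr_ft (f681489 IH) (Lpr_dt (f777463 IH) (Lpn v19057))))
theorem f777483 : Led Lsl_ft v6755 = v19057 :=
  Lgr Lrot48 (Lpr_ff (f777466 IH) (Lpn v19057))
theorem f62662 : Led Lsl_gt (LP (LK LD1_c3 LD2_c28 LD3_c41)) = (LP (LK LD1_c6 LD2_c59 LD3_c7)) :=
  Lre_g IH (LK LD1_c3 LD2_c28 LD3_c41) (LK LD1_c6 LD2_c59 LD3_c7) Lrfl Lrfl
theorem f777486 : Led Lsl_af (LP (LK LD1_c6 LD2_c59 LD3_c7)) = v19057 :=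
  Lgr Lrot31 (Lpe (f62662 IH) (Lpr_gf (f658233 IH) (Lpr_ft (f777483 IH) (Lpn v19057))))
theorem f776722 : Led Lsl_cf (LP (LK LD1_c12 LD2_c36 LD3_c50)) = (LP (LK LD1_c6 LD2_c59 LD3_c7)) :=
  Lgr Lrot169 (Lpr_gt (f776719 IH) (Lpr_ct (f118414 IH) (Lpe (K46.f118520 IH) (Lpe (K46.f118355 IH) (Lpe (f119161 IH) (Lpqs (f772682 IH) (Lpq (f772681 IH) (Lpe (f658215 IH) (Lpe (K58.f62223 IH) (Lpe (f62214 IH) (Lpr_gt (f62662 IH) (Lpn (LP (LK LD1_c6 LD2_c59 LD3_c7))))))))))))))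
theorem f777489 : (LP (LK LD1_c12 LD2_c36 LD3_c50)) = v19056 :=
  (Llr Lrot111 (Lpr_cf (f776722 IH) (Lpr_af (f777486 IH) (Lpe (f777459 IH) (Lpr_af (f777452 IH) (Lpn v19056)))))).symm
theorem f777490 : Led Lsl_at (LP (LK LD1_c12 LD2_c36 LD3_c50)) = (LP (LK LD1_c6 LD2_c37 LD3_c18)) :=
  Leop (Lpr_af (f777452 IH) (Lpq (f777489 IH) (Lpn (LP (LK LD1_c12 LD2_c36 LD3_c50)))))
theorem seed_1411 : LEOK LG_a (LK LD1_c12 LD2_c36 LD3_c50) :=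
  Leoe_a (LK LD1_c12 LD2_c36 LD3_c50) (f777490 IH)
theorem f776721 : Led Lsl_dt (LP (LK LD1_c21 LD2_c43 LD3_c2)) = (LP (LK LD1_c12 LD2_c36 LD3_c50)) :=
  Lre_d IH (LK LD1_c21 LD2_c43 LD3_c2) (LK LD1_c12 LD2_c36 LD3_c50) Lrfl Lrfl
theorem f78935 : Led Lsl_dt (LP (LK LD1_c6 LD2_c37 LD3_c18)) = (LP (LK LD1_c12 LD2_c40 LD3_c24)) :=
  Lre_d IH (LK LD1_c6 LD2_c37 LD3_c18) (LK LD1_c12 LD2_c40 LD3_c24) Lrfl Lrfl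
theorem f777530 : Led Lsl_af (LP (LK LD1_c21 LD2_c43 LD3_c2)) = (LP (LK LD1_c12 LD2_c40 LD3_c24)) :=
  Lgr Lrot117 (Lpr_dt (f776721 IH) (Lpqs (f777489 IH) (Lpe (f777452 IH) (Lpr_dt (f78935 IH) (Lpn (LP (LK LD1_c12 LD2_c40 LD3_c24)))))))
theorem f777532 : Led Lsl_at (LP (LK LD1_c21 LD2_c43 LD3_c2)) = (LP (LK LD1_c12 LD2_c40 LD3_c24)) :=
  Lgr Lrot100 (Lpr_af (f777530 IH) (Lpn (LP (LK LD1_c12 LD2_c40 LD3_c24))))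
theorem f119098 : Led Lsl_dt (LP (LK LD1_c12 LD2_c40 LD3_c26)) = (LP (LK LD1_c6 LD2_c37 LD3_c19)) :=
  Lre_d IH (LK LD1_c12 LD2_c40 LD3_c26) (LK LD1_c6 LD2_c37 LD3_c19) Lrfl Lrfl
theorem f118569 : Led Lsl_dt (LP (LK LD1_c12 LD2_c36 LD3_c50)) = (LP (LK LD1_c21 LD2_c43 LD3_c2)) :=
  Lre_d IH (LK LD1_c12 LD2_c36 LD3_c50) (LK LD1_c21 LD2_c43 LD3_c2) Lrfl Lrfl
theorem f777497 : Led Lsl_ff (LP (LK LD1_c12 LD2_c40 LD3_c26)) = (LP (LK LD1_c21 LD2_c43 LD3_c2)) :=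
  Lgr Lrot19 (Lpr_dt (f119098 IH) (Lpr_ft (f777456 IH) (Lpq (f777489 IH) (Lpr_dt (f118569 IH) (Lpn (LP (LK LD1_c21 LD2_c43 LD3_c2)))))))
theorem f777502 : Led Lsl_ft (LP (LK LD1_c12 LD2_c40 LD3_c26)) = (LP (LK LD1_c21 LD2_c43 LD3_c2)) :=
  Lgr Lrot48 (Lpr_ff (f777497 IH) (Lpn (LP (LK LD1_c21 LD2_c43 LD3_c2))))
theorem f776670 : Led Lsl_gt (LP (LK LD1_c21 LD2_c46 LD3_c48)) = (LP (LK LD1_c12 LD2_c40 LD3_c24)) :=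
  Lre_g IH (LK LD1_c21 LD2_c46 LD3_c48) (LK LD1_c12 LD2_c40 LD3_c24) Lrfl Lrfl
theorem f777534 : Led Lsl_gt (LP (LK LD1_c12 LD2_c40 LD3_c26)) = (LP (LK LD1_c21 LD2_c46 LD3_c48)) :=
  Lgr Lrot5 (Lpr_ft (f777502 IH) (Lpr_at (f777532 IH) (Lpe (f776670 IH) (Lpn (LP (LK LD1_c21 LD2_c46 LD3_c48))))))
theorem f776718 : Led Lsl_ff (LP (LK LD1_c6 LD2_c35 LD3_c25)) = v18947 :=
  Lgr Lrot3 (Lpr_ft (f776715 IH) (Lpn v18947))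
theorem f118555 : Led Lsl_at (LP (LK LD1_c6 LD2_c35 LD3_c25)) = (LP (LK LD1_c3 LD2_c16 LD3_c60)) :=
  Lgr Lrot100 (Lpr_af (K57.f118552 IH) (Lpn (LP (LK LD1_c3 LD2_c16 LD3_c60))))
theorem f776761 : Led Lsl_gf (LP (LK LD1_c6 LD2_c37 LD3_c19)) = v18947 :=
  Lgr Lrot47 (Lpr_gt (f78937 IH) (Lpe (f118555 IH) (Lpr_ff (f776718 IH) (Lpn v18947))))
theorem f776717 : Led Lsl_cf K46.v5998 = v18947 :=
  Lgr Lrot108 (Lpe (K49.f650445 IH) (Lpr_ct (K57.f118527 IH) (Lpr_ft (f776715 IH) (Lpn v18947))))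
theorem f771670 : K56.v17007 = (LP (LK LD1_c9 LD2_c28 LD3_c57)) :=
  Lefun (Lecon (K57.f754294 IH) (f771611 IH)) (f68439 IH)
theorem f777536 : Led Lsl_df (LP (LK LD1_c17 LD2_c29 LD3_c20)) = (LP (LK LD1_c21 LD2_c46 LD3_c48)) :=
  Lgr Lrot84 (Lpe (f415394 IH) (Lpq (f771670 IH) (Lpe (K56.f754290 IH) (Lpq (K49.f663198 IH) (Lpqs (f768875 IH) (Lpe (f650104 IH) (Lpq (f768824 IH) (Lpe (K49.f624097 IH) (Lpr_gf (K56.f650462 IH) (Lpr_cf (f776717 IH) (Lpe (f776761 IH) (Lpr_dt (f775109 IH) (Lpr_gt (f777534 IH) (Lpn (LP (LK LD1_c21 LD2_c46 LD3_c48))))))))))))))))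
theorem f777537 : Led Lsl_dt (LP (LK LD1_c21 LD2_c46 LD3_c48)) = (LP (LK LD1_c17 LD2_c29 LD3_c20)) :=
  Leop (Lpr_df (f777536 IH) (Lpn (LP (LK LD1_c21 LD2_c46 LD3_c48))))
theorem seed_1412 : LEOK LG_d (LK LD1_c21 LD2_c46 LD3_c48) :=
  Leoe_d (LK LD1_c21 LD2_c46 LD3_c48) (f777537 IH)
theorem f89098 : Led Lsl_et (LP (LK LD1_c1 LD2_c41 LD3_c6)) = (LP (LK LD1_c3 LD2_c28 LD3_c41)) :=
  Lre_e IH (LK LD1_c1 LD2_c41 LD3_c6) (LK LD1_c3 LD2_c28 LD3_c41) Lrfl Lrfl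
theorem f432961 : Led Lsl_dt (LP (LK LD1_c6 LD2_c59 LD3_c25)) = (LP (LK LD1_c3 LD2_c28 LD3_c55)) :=
  Lre_d IH (LK LD1_c6 LD2_c59 LD3_c25) (LK LD1_c3 LD2_c28 LD3_c55) Lrfl Lrfl
theorem f432962 : Led Lsl_ef (LP (LK LD1_c6 LD2_c59 LD3_c7)) = (LP (LK LD1_c6 LD2_c59 LD3_c25)) :=
  Lgr Lrot17 (Lpe (f62662 IH) (Lpe (f89098 IH) (Lpr_dt (K3.f85365 IH) (Lpe (K11.f66438 IH) (Lpe (K11.f89000 IH) (Lpr_gf (K11.f432810 IH) (Lpe (K3.f66604 IH) (Lpr_dt (K3.f66591 IH) (Lpe (K58.f66632 IH) (Lpe (f432961 IH) (Lpn (LP (LK LD1_c6 LD2_c59 LD3_c25)))))))))))))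
theorem f433074 : Led Lsl_et (LP (LK LD1_c6 LD2_c59 LD3_c7)) = (LP (LK LD1_c6 LD2_c59 LD3_c25)) :=
  Lgr Lrot87 (Lpr_ef (f432962 IH) (Lpn (LP (LK LD1_c6 LD2_c59 LD3_c25))))
theorem f769222 : Led Lsl_af (LP (LK LD1_c6 LD2_c59 LD3_c25)) = v9805 :=
  Lgr Lrot117 (Lpr_dt (f432961 IH) (Lpr_at (K58.f658296 IH) (Lpq (f769181 IH) (Lpr_dt (f677650 IH) (Lpn v9805)))))
theorem f769223 : Led Lsl_at (LP (LK LD1_c6 LD2_c59 LD3_c25)) = v9805 :=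
  Lgr Lrot100 (Lpr_af (f769222 IH) (Lpn v9805))
theorem f777488 : Led Lsl_et v9805 = v19057 :=
  Lgr Lrot123 (Lpe (f769223 IH) (Lpe (f433074 IH) (Lpr_af (f777486 IH) (Lpn v19057))))
theorem f88866 : Led Lsl_et (LP (LK LD1_c3 LD2_c53 LD3_c39)) = (LP (LK LD1_c1 LD2_c53 LD3_c26)) :=
  Lre_e IH (LK LD1_c3 LD2_c53 LD3_c39) (LK LD1_c1 LD2_c53 LD3_c26) Lrfl Lrfl
theorem f88867 : Led Lsl_ft (LP (LK LD1_c7 LD2_c48 LD3_c54)) = (LP (LK LD1_c3 LD2_c53 LD3_c39)) :=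
  Lre_f IH (LK LD1_c7 LD2_c48 LD3_c54) (LK LD1_c3 LD2_c53 LD3_c39) Lrfl Lrfl
theorem f66624 : Led Lsl_et (LP (LK LD1_c1 LD2_c41 LD3_c13)) = (LP (LK LD1_c3 LD2_c28 LD3_c56)) :=
  Lre_e IH (LK LD1_c1 LD2_c41 LD3_c13) (LK LD1_c3 LD2_c28 LD3_c56) Lrfl Lrfl
theorem f88868 : Led Lsl_ef (LP (LK LD1_c7 LD2_c48 LD3_c54)) = (LP (LK LD1_c6 LD2_c59 LD3_c29)) :=
  Lgr Lrot21 (Lpr_ft (f88867 IH) (Lpr_et (f88866 IH) (Lpr_ft (K7.f88862 IH) (Lpr_et (f66624 IH) (Lpr_ft (K58.f66605 IH) (Lpn (LP (LK LD1_c6 LD2_c59 LD3_c29))))))))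
theorem f78907 : Led Lsl_gt (LP (LK LD1_c6 LD2_c37 LD3_c21)) = (LP (LK LD1_c12 LD2_c40 LD3_c32)) :=
  Lre_g IH (LK LD1_c6 LD2_c37 LD3_c21) (LK LD1_c12 LD2_c40 LD3_c32) Lrfl Lrfl
theorem f119163 : Led Lsl_dt (LP (LK LD1_c12 LD2_c36 LD3_c41)) = (LP (LK LD1_c6 LD2_c35 LD3_c18)) :=
  Lre_d IH (LK LD1_c12 LD2_c36 LD3_c41) (LK LD1_c6 LD2_c35 LD3_c18) Lrfl Lrfl
theorem f772710 : Led Lsl_af (LP (LK LD1_c12 LD2_c36 LD3_c41)) = (LP (LK LD1_c6 LD2_c36 LD3_c61)) :=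
  Lgr Lrot117 (Lpr_dt (f119163 IH) (Lpqs (f772682 IH) (Lpe (f650645 IH) (Lpr_dt (K5.f96114 IH) (Lpn (LP (LK LD1_c6 LD2_c36 LD3_c61)))))))
theorem f119209 : Led Lsl_dt (LP (LK LD1_c6 LD2_c37 LD3_c2)) = (LP (LK LD1_c3 LD2_c16 LD3_c50)) :=
  Lre_d IH (LK LD1_c6 LD2_c37 LD3_c2) (LK LD1_c3 LD2_c16 LD3_c50) Lrfl Lrfl
theorem f772692 : Led Lsl_ff (LP (LK LD1_c6 LD2_c37 LD3_c2)) = (LP (LK LD1_c12 LD2_c36 LD3_c41)) :=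
  Lgr Lrot19 (Lpr_dt (f119209 IH) (Lpr_ft (f650649 IH) (Lpq (f772682 IH) (Lpr_dt (f96763 IH) (Lpn (LP (LK LD1_c12 LD2_c36 LD3_c41)))))))
theorem f119087 : Led Lsl_dt (LP (LK LD1_c6 LD2_c36 LD3_c61)) = (LP (LK LD1_c3 LD2_c16 LD3_c49)) :=
  Lre_d IH (LK LD1_c6 LD2_c36 LD3_c61) (LK LD1_c3 LD2_c16 LD3_c49) Lrfl Lrfl
theorem f772671 : Led Lsl_ff (LP (LK LD1_c6 LD2_c36 LD3_c61)) = (LP (LK LD1_c12 LD2_c36 LD3_c42)) :=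
  Lgr Lrot19 (Lpr_dt (f119087 IH) (Lpr_ft (f650666 IH) (Lpqs (f772666 IH) (Lpr_dt (K57.f118592 IH) (Lpn (LP (LK LD1_c12 LD2_c36 LD3_c42)))))))
theorem f772716 : Led Lsl_at (LP (LK LD1_c6 LD2_c37 LD3_c2)) = (LP (LK LD1_c12 LD2_c36 LD3_c42)) :=
  Lgr Lrot66 (Lpr_ff (f772692 IH) (Lpr_af (f772710 IH) (Lpr_ff (f772671 IH) (Lpn (LP (LK LD1_c12 LD2_c36 LD3_c42))))))
theorem f119201 : Led Lsl_ct (LP (LK LD1_c12 LD2_c39 LD3_c55)) = (LP (LK LD1_c6 LD2_c37 LD3_c2)) :=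
  Lre_c IH (LK LD1_c12 LD2_c39 LD3_c55) (LK LD1_c6 LD2_c37 LD3_c2) Lrfl Lrfl
theorem f119120 : Led Lsl_ct (LP (LK LD1_c12 LD2_c36 LD3_c42)) = (LP (LK LD1_c21 LD2_c42 LD3_c53)) :=
  Lre_c IH (LK LD1_c12 LD2_c36 LD3_c42) (LK LD1_c21 LD2_c42 LD3_c53) Lrfl Lrfl
theorem f772720 : Led Lsl_af (LP (LK LD1_c12 LD2_c39 LD3_c55)) = (LP (LK LD1_c21 LD2_c42 LD3_c53)) :=
  Lgr Lrot68 (Lpr_ct (f119201 IH) (Lpr_at (f772716 IH) (Lpr_ct (f119120 IH) (Lpn (LP (LK LD1_c21 LD2_c42 LD3_c53))))))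
theorem f119203 : Led Lsl_ct (LP (LK LD1_c6 LD2_c37 LD3_c2)) = (LP (LK LD1_c12 LD2_c39 LD3_c55)) :=
  Lre_c IH (LK LD1_c6 LD2_c37 LD3_c2) (LK LD1_c12 LD2_c39 LD3_c55) Lrfl Lrfl
theorem f527833 : Led Lsl_ct (LP (LK LD1_c21 LD2_c42 LD3_c52)) = (LP (LK LD1_c12 LD2_c36 LD3_c41)) :=
  Lre_c IH (LK LD1_c21 LD2_c42 LD3_c52) (LK LD1_c12 LD2_c36 LD3_c41) Lrfl Lrfl
theorem f772694 : Led Lsl_ft (LP (LK LD1_c12 LD2_c39 LD3_c55)) = (LP (LK LD1_c21 LD2_c42 LD3_c52)) :=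
  Lgr Lrot4 (Lpe (f119203 IH) (Lpr_ff (f772692 IH) (Lpe (f527833 IH) (Lpn (LP (LK LD1_c21 LD2_c42 LD3_c52))))))
theorem f527836 : Led Lsl_ct (LP (LK LD1_c12 LD2_c36 LD3_c41)) = (LP (LK LD1_c21 LD2_c42 LD3_c52)) :=
  Lre_c IH (LK LD1_c12 LD2_c36 LD3_c41) (LK LD1_c21 LD2_c42 LD3_c52) Lrfl Lrfl
theorem f130855 : Led Lsl_ct (LP (LK LD1_c12 LD2_c39 LD3_c49)) = (LP (LK LD1_c6 LD2_c36 LD3_c61)) :=
  Lre_c IH (LK LD1_c12 LD2_c39 LD3_c49) (LK LD1_c6 LD2_c36 LD3_c61) Lrfl Lrfl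
theorem f772714 : Led Lsl_at (LP (LK LD1_c21 LD2_c42 LD3_c52)) = (LP (LK LD1_c12 LD2_c39 LD3_c49)) :=
  Lgr Lrot107 (Lpe (f527836 IH) (Lpr_af (f772710 IH) (Lpe (f130855 IH) (Lpn (LP (LK LD1_c12 LD2_c39 LD3_c49))))))
theorem f772733 : Led Lsl_ft (LP (LK LD1_c12 LD2_c39 LD3_c49)) = (LP (LK LD1_c21 LD2_c42 LD3_c53)) :=
  Lgr Lrot101 (Lpe (f772714 IH) (Lpe (f772694 IH) (Lpr_af (f772720 IH) (Lpn (LP (LK LD1_c21 LD2_c42 LD3_c53))))))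
theorem f772736 : Led Lsl_ff (LP (LK LD1_c12 LD2_c39 LD3_c49)) = (LP (LK LD1_c21 LD2_c42 LD3_c53)) :=
  Lgr Lrot3 (Lpr_ft (f772733 IH) (Lpn (LP (LK LD1_c21 LD2_c42 LD3_c53))))
theorem f772740 : Led Lsl_ft (LP (LK LD1_c6 LD2_c36 LD3_c61)) = (LP (LK LD1_c12 LD2_c36 LD3_c42)) :=
  Lgr Lrot4 (Lpe (f130855 IH) (Lpr_ff (f772736 IH) (Lpe (f119120 IH) (Lpn (LP (LK LD1_c12 LD2_c36 LD3_c42))))))
theorem f772718 : Led Lsl_af (LP (LK LD1_c6 LD2_c37 LD3_c2)) = (LP (LK LD1_c12 LD2_c36 LD3_c42)) :=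
  Lgr Lrot0 (Lpr_at (f772716 IH) (Lpn (LP (LK LD1_c12 LD2_c36 LD3_c42))))
theorem f772742 : Led Lsl_gt (LP (LK LD1_c12 LD2_c3 LD3_c3)) = (LP (LK LD1_c6 LD2_c37 LD3_c2)) :=
  Lgr Lrot46 (Lpr_gf (K5.f130840 IH) (Lpr_ft (f772740 IH) (Lpe (f772718 IH) (Lpn (LP (LK LD1_c6 LD2_c37 LD3_c2))))))
theorem f130863 : Led Lsl_ct (LP (LK LD1_c21 LD2_c8 LD3_c19)) = (LP (LK LD1_c12 LD2_c3 LD3_c3)) :=
  Lre_c IH (LK LD1_c21 LD2_c8 LD3_c19) (LK LD1_c12 LD2_c3 LD3_c3) Lrfl Lrfl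
theorem f651860 : Led Lsl_ct (LP (LK LD1_c12 LD2_c36 LD3_c47)) = (LP (LK LD1_c21 LD2_c42 LD3_c61)) :=
  Lre_c IH (LK LD1_c12 LD2_c36 LD3_c47) (LK LD1_c21 LD2_c42 LD3_c61) Lrfl Lrfl

end

end K59

end

end Cfsg.Agent.Helper28.S1692
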