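import Cfsg.Agent.Lib.Helper28.S1692.Seeds5

set_option autoImplicit false
set_option maxRecDepth 100000
set_option linter.all false

namespace Cfsg.Agent.Helper28.S1692

open Cfsg.Agent.Helper28
open Cfsg.Spor.ON (Gen)

noncomputable section

namespace K6
abbrev LD1_c0 := D1.c0
abbrev LD1_c1 := D1.c1
abbrev LD1_c2 := D1.c2
abbrev LD1_c3 := D1.c3
abbrev LD1_c4 := D1.c4
abbrev LD1_c5 := D1.c5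
abbrev LD1_c6 := D1.c6
abbrev LD1_c7 := D1.c7
abbrev LD1_c8 := D1.c8
abbrev LD1_c9 := D1.c9
abbrev LD1_c10 := D1.c10
abbrev LD1_c11 := D1.c11
abbrev LD1_c12 := D1.c12
abbrev LD1_c13 := D1.c13
abbrev LD1_c14 := D1.c14
abbrev LD1_c15 := D1.c15
abbrev LD1_c16 := D1.c16
abbrev LD1_c17 := D1.c17
abbrev LD1_c18 := D1.c18
abbrev LD1_c19 := D1.c19
abbrev LD1_c20 := D1.c20
abbrev LD1_c21 := D1.c21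
abbrev LD1_c22 := D1.c22
abbrev LD1_c23 := D1.c23
abbrev LD1_c24 := D1.c24
abbrev LD1_c25 := D1.c25
abbrev LD1_c26 := D1.c26
abbrev LD1_c27 := D1.c27
abbrev LD1_c28 := D1.c28
abbrev LD1_c29 := D1.c29
abbrev LD1_c30 := D1.c30
abbrev LD1_c31 := D1.c31
abbrev LD1_c32 := D1.c32
abbrev LD2_c0 := D2.c0
abbrev LD2_c1 := D2.c1
abbrev LD2_c2 := D2.c2
abbrev LD2_c3 := D2.c3
abbrev LD2_c4 := D2.c4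
abbrev LD2_c5 := D2.c5
abbrev LD2_c6 := D2.c6
abbrev LD2_c7 := D2.c7
abbrev LD2_c8 := D2.c8
abbrev LD2_c9 := D2.c9
abbrev LD2_c10 := D2.c10
abbrev LD2_c11 := D2.c11
abbrev LD2_c12 := D2.c12
abbrev LD2_c13 := D2.c13
abbrev LD2_c14 := D2.c14
abbrev LD2_c15 := D2.c15
abbrev LD2_c16 := D2.c16
abbrev LD2_c17 := D2.c17
abbrev LD2_c18 := D2.c18
abbrev LD2_c19 := D2.c19
abbrev LD2_c20 := D2.c20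
abbrev LD2_c21 := D2.c21
abbrev LD2_c22 := D2.c22
abbrev LD2_c23 := D2.c23
abbrev LD2_c24 := D2.c24
abbrev LD2_c25 := D2.c25
abbrev LD2_c26 := D2.c26
abbrev LD2_c27 := D2.c27
abbrev LD2_c28 := D2.c28
abbrev LD2_c29 := D2.c29
abbrev LD2_c30 := D2.c30
abbrev LD2_c31 := D2.c31
abbrev LD2_c32 := D2.c32
abbrev LD2_c33 := D2.c33
abbrev LD2_c34 := D2.c34
abbrev LD2_c35 := D2.c35
abbrev LD2_c36 := D2.c36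
abbrev LD2_c37 := D2.c37
abbrev LD2_c38 := D2.c38
abbrev LD2_c39 := D2.c39
abbrev LD2_c40 := D2.c40
abbrev LD2_c41 := D2.c41
abbrev LD2_c42 := D2.c42
abbrev LD2_c43 := D2.c43
abbrev LD2_c44 := D2.c44
abbrev LD2_c45 := D2.c45
abbrev LD2_c46 := D2.c46
abbrev LD2_c47 := D2.c47
abbrev LD2_c48 := D2.c48
abbrev LD2_c49 := D2.c49
abbrev LD2_c50 := D2.c50
abbrev LD2_c51 := D2.c51
abbrev LD2_c52 := D2.c52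
abbrev LD2_c53 := D2.c53
abbrev LD2_c54 := D2.c54
abbrev LD2_c55 := D2.c55
abbrev LD2_c56 := D2.c56
abbrev LD2_c57 := D2.c57
abbrev LD2_c58 := D2.c58
abbrev LD2_c59 := D2.c59
abbrev LD3_c0 := D3.c0
abbrev LD3_c1 := D3.c1
abbrev LD3_c2 := D3.c2
abbrev LD3_c3 := D3.c3
abbrev LD3_c4 := D3.c4
abbrev LD3_c5 := D3.c5
abbrev LD3_c6 := D3.c6
abbrev LD3_c7 := D3.c7
abbrev LD3_c8 := D3.c8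
abbrev LD3_c9 := D3.c9
abbrev LD3_c10 := D3.c10
abbrev LD3_c11 := D3.c11
abbrev LD3_c12 := D3.c12
abbrev LD3_c13 := D3.c13
abbrev LD3_c14 := D3.c14
abbrev LD3_c15 := D3.c15
abbrev LD3_c16 := D3.c16
abbrev LD3_c17 := D3.c17
abbrev LD3_c18 := D3.c18
abbrev LD3_c19 := D3.c19
abbrev LD3_c20 := D3.c20
abbrev LD3_c21 := D3.c21
abbrev LD3_c22 := D3.c22
abbrev LD3_c23 := D3.c23
abbrev LD3_c24 := D3.c24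
abbrev LD3_c25 := D3.c25
abbrev LD3_c26 := D3.c26
abbrev LD3_c27 := D3.c27
abbrev LD3_c28 := D3.c28
abbrev LD3_c29 := D3.c29
abbrev LD3_c30 := D3.c30
abbrev LD3_c31 := D3.c31
abbrev LD3_c32 := D3.c32
abbrev LD3_c33 := D3.c33
abbrev LD3_c34 := D3.c34
abbrev LD3_c35 := D3.c35
abbrev LD3_c36 := D3.c36
abbrev LD3_c37 := D3.c37
abbrev LD3_c38 := D3.c38
abbrev LD3_c39 := D3.c39
abbrev LD3_c40 := D3.c40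
abbrev LD3_c41 := D3.c41
abbrev LD3_c42 := D3.c42
abbrev LD3_c43 := D3.c43
abbrev LD3_c44 := D3.c44
abbrev LD3_c45 := D3.c45
abbrev LD3_c46 := D3.c46
abbrev LD3_c47 := D3.c47
abbrev LD3_c48 := D3.c48
abbrev LD3_c49 := D3.c49
abbrev LD3_c50 := D3.c50
abbrev LD3_c51 := D3.c51
abbrev LD3_c52 := D3.c52
abbrev LD3_c53 := D3.c53
abbrev LD3_c54 := D3.c54
abbrev LD3_c55 := D3.c55
abbrev LD3_c56 := D3.c56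
abbrev LD3_c57 := D3.c57
abbrev LD3_c58 := D3.c58
abbrev LD3_c59 := D3.c59
abbrev LD3_c60 := D3.c60
abbrev LD3_c61 := D3.c61
abbrev LG_g := Gen.g
abbrev Lsl_gt : Gen × Bool := sl_gt
alias Lfl_gt := fl_gt
alias Lpr_gt := pr_gt
abbrev Lsl_gf : Gen × Bool := sl_gf
alias Lfl_gf := fl_gf
alias Lpr_gf := pr_gf
alias Lre_g := re_g
alias Leoe_g := eoe_g
abbrev LG_a := Gen.a
abbrev Lsl_at : Gen × Bool := sl_at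
alias Lfl_at := fl_at
alias Lpr_at := pr_at
abbrev Lsl_af : Gen × Bool := sl_af
alias Lfl_af := fl_af
alias Lpr_af := pr_af
alias Lre_a := re_a
alias Leoe_a := eoe_a
abbrev LG_b := Gen.b
abbrev Lsl_bt : Gen × Bool := sl_bt
alias Lfl_bt := fl_bt
alias Lpr_bt := pr_bt
abbrev Lsl_bf : Gen × Bool := sl_bf
alias Lfl_bf := fl_bf
alias Lpr_bf := pr_bf
alias Lre_b := re_b
alias Leoe_b := eoe_b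
abbrev LG_c := Gen.c
abbrev Lsl_ct : Gen × Bool := sl_ct
alias Lfl_ct := fl_ct
alias Lpr_ct := pr_ct
abbrev Lsl_cf : Gen × Bool := sl_cf
alias Lfl_cf := fl_cf
alias Lpr_cf := pr_cf
alias Lre_c := re_c
alias Leoe_c := eoe_c
abbrev LG_d := Gen.d
abbrev Lsl_dt : Gen × Bool := sl_dt
alias Lfl_dt := fl_dt
alias Lpr_dt := pr_dt
abbrev Lsl_df : Gen × Bool := sl_df
alias Lfl_df := fl_df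
alias Lpr_df := pr_df
alias Lre_d := re_d
alias Leoe_d := eoe_d
abbrev LG_e := Gen.e
abbrev Lsl_et : Gen × Bool := sl_et
alias Lfl_et := fl_et
alias Lpr_et := pr_et
abbrev Lsl_ef : Gen × Bool := sl_ef
alias Lfl_ef := fl_ef
alias Lpr_ef := pr_ef
alias Lre_e := re_e
alias Leoe_e := eoe_e
abbrev LG_f := Gen.f
abbrev Lsl_ft : Gen × Bool := sl_ft
alias Lfl_ft := fl_ft
alias Lpr_ft := pr_ft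
abbrev Lsl_ff : Gen × Bool := sl_ff
alias Lfl_ff := fl_ff
alias Lpr_ff := pr_ff
alias Lre_f := re_f
alias Leoe_f := eoe_f
abbrev LK := Pt.mk
abbrev LQ : Type := Qt rels S
abbrev LP (p : Pt) : LQ := P p
abbrev Led (l : Gen × Bool) (c : LQ) : LQ := ed l c
abbrev LEOK (x : Gen) (p : Pt) : Prop := EntryOK rels S fwd inv o plet idx x p
alias Lpe := pe
alias Lpn := pn
alias Lgr := gr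
alias Lpq := pq
alias Lpqs := pqs
alias Llr := lr
alias Leop := eop
alias Lefun := efun
alias Lecon := econ
theorem Lrfl {α : Sort _} {a : α} : a = a := rfl
alias Lrot0 := rot0
alias Lrot1 := rot1
alias Lrot2 := rot2
alias Lrot3 := rot3
alias Lrot4 := rot4
alias Lrot5 := rot5
alias Lrot6 := rot6
alias Lrot7 := rot7
alias Lrot8 := rot8
alias Lrot9 := rot9
alias Lrot10 := rot10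
alias Lrot11 := rot11
alias Lrot12 := rot12
alias Lrot13 := rot13
alias Lrot14 := rot14
alias Lrot15 := rot15
alias Lrot17 := rot17
alias Lrot18 := rot18
alias Lrot19 := rot19
alias Lrot20 := rot20
alias Lrot21 := rot21
alias Lrot22 := rot22
alias Lrot23 := rot23
alias Lrot24 := rot24
alias Lrot25 := rot25
alias Lrot26 := rot26
alias Lrot27 := rot27
alias Lrot28 := rot28
alias Lrot29 := rot29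
alias Lrot30 := rot30
alias Lrot31 := rot31
alias Lrot32 := rot32
alias Lrot33 := rot33
alias Lrot34 := rot34
alias Lrot35 := rot35
alias Lrot36 := rot36
alias Lrot38 := rot38
alias Lrot39 := rot39
alias Lrot40 := rot40
alias Lrot41 := rot41
alias Lrot42 := rot42
alias Lrot43 := rot43
alias Lrot44 := rot44
alias Lrot45 := rot45
alias Lrot46 := rot46
alias Lrot47 := rot47
alias Lrot48 := rot48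
alias Lrot49 := rot49
alias Lrot50 := rot50
alias Lrot51 := rot51
alias Lrot52 := rot52
alias Lrot53 := rot53
alias Lrot54 := rot54
alias Lrot55 := rot55
alias Lrot57 := rot57
alias Lrot58 := rot58
alias Lrot59 := rot59
alias Lrot60 := rot60
alias Lrot61 := rot61
alias Lrot62 := rot62
alias Lrot63 := rot63
alias Lrot64 := rot64
alias Lrot65 := rot65
alias Lrot66 := rot66
alias Lrot67 := rot67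
alias Lrot68 := rot68
alias Lrot69 := rot69
alias Lrot70 := rot70
alias Lrot71 := rot71
alias Lrot72 := rot72
alias Lrot73 := rot73
alias Lrot74 := rot74
alias Lrot75 := rot75
alias Lrot76 := rot76
alias Lrot77 := rot77
alias Lrot78 := rot78
alias Lrot79 := rot79
alias Lrot80 := rot80
alias Lrot81 := rot81
alias Lrot82 := rot82
alias Lrot83 := rot83
alias Lrot84 := rot84
alias Lrot85 := rot85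
alias Lrot86 := rot86
alias Lrot87 := rot87
alias Lrot88 := rot88
alias Lrot89 := rot89
alias Lrot90 := rot90
alias Lrot91 := rot91
alias Lrot92 := rot92
alias Lrot93 := rot93
alias Lrot94 := rot94
alias Lrot95 := rot95
alias Lrot96 := rot96
alias Lrot97 := rot97
alias Lrot98 := rot98
alias Lrot99 := rot99
alias Lrot100 := rot100
alias Lrot101 := rot101
alias Lrot102 := rot102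
alias Lrot103 := rot103
alias Lrot104 := rot104
alias Lrot105 := rot105
alias Lrot106 := rot106
alias Lrot107 := rot107
alias Lrot108 := rot108
alias Lrot109 := rot109
alias Lrot110 := rot110
alias Lrot111 := rot111
alias Lrot112 := rot112
alias Lrot113 := rot113
alias Lrot114 := rot114
alias Lrot116 := rot116
alias Lrot117 := rot117
alias Lrot118 := rot118
alias Lrot119 := rot119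
alias Lrot120 := rot120
alias Lrot122 := rot122
alias Lrot123 := rot123
alias Lrot124 := rot124
alias Lrot126 := rot126
alias Lrot127 := rot127
alias Lrot128 := rot128
alias Lrot129 := rot129
alias Lrot130 := rot130
alias Lrot131 := rot131
alias Lrot132 := rot132
alias Lrot133 := rot133
alias Lrot136 := rot136
alias Lrot137 := rot137
alias Lrot139 := rot139
alias Lrot140 := rot140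
alias Lrot141 := rot141
alias Lrot142 := rot142
alias Lrot143 := rot143
alias Lrot144 := rot144
alias Lrot145 := rot145
alias Lrot146 := rot146
alias Lrot147 := rot147
alias Lrot148 := rot148
alias Lrot149 := rot149
alias Lrot150 := rot150
alias Lrot151 := rot151
alias Lrot152 := rot152
alias Lrot153 := rot153
alias Lrot154 := rot154
alias Lrot155 := rot155
alias Lrot156 := rot156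
alias Lrot157 := rot157
alias Lrot158 := rot158
alias Lrot159 := rot159
alias Lrot160 := rot160
alias Lrot161 := rot161
alias Lrot162 := rot162
alias Lrot163 := rot163
alias Lrot164 := rot164
alias Lrot165 := rot165
alias Lrot166 := rot166
alias Lrot167 := rot167
alias Lrot168 := rot168
alias Lrot169 := rot169
alias Lrot170 := rot170
alias Lrot172 := rot172
alias Lrot173 := rot173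
alias Lrot174 := rot174
alias Lrot175 := rot175
alias Lrot176 := rot176
alias Lrot177 := rot177
alias Lrot178 := rot178
alias Lrot179 := rot179
alias Lrot180 := rot180
alias Lrot181 := rot181
alias Lrot182 := rot182
alias Lrot183 := rot183
alias Lrot184 := rot184
alias Lrot188 := rot188
alias Lrot189 := rot189
alias Lrot190 := rot190
alias Lrot191 := rot191

section
variable (IH : IHT)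
include IH

theorem f21030 : Led Lsl_cf (LP (LK LD1_c0 LD2_c9 LD3_c15)) = (LP (LK LD1_c0 LD2_c17 LD3_c58)) :=
  Lgr Lrot11 (Lpr_ct (K2.f21019 IH) (Lpn (LP (LK LD1_c0 LD2_c17 LD3_c58))))
theorem f20839 : Led Lsl_et (LP (LK LD1_c0 LD2_c9 LD3_c15)) = (LP (LK LD1_c0 LD2_c4 LD3_c19)) :=
  Lre_e IH (LK LD1_c0 LD2_c9 LD3_c15) (LK LD1_c0 LD2_c4 LD3_c19) Lrfl Lrfl
theorem f20840 : Led Lsl_df (LP (LK LD1_c0 LD2_c9 LD3_c6)) = (LP (LK LD1_c0 LD2_c9 LD3_c15)) :=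
  Lgr Lrot168 (Lpe (K0.f9686 IH) (Lpe (K0.f7302 IH) (Lpr_et (K0.f7301 IH) (Lpe (K0.f7306 IH) (Lpr_ef (K2.f20825 IH) (Lpe (K0.f7360 IH) (Lpe (K0.f20613 IH) (Lpe (K0.f7341 IH) (Lpr_gf (K0.f20831 IH) (Lpe (f20839 IH) (Lpn (LP (LK LD1_c0 LD2_c9 LD3_c15)))))))))))))
theorem f84287 : Led Lsl_cf (LP (LK LD1_c0 LD2_c19 LD3_c59)) = (LP (LK LD1_c0 LD2_c9 LD3_c6)) :=
  Lgr Lrot11 (Lpr_ct (K2.f84282 IH) (Lpn (LP (LK LD1_c0 LD2_c9 LD3_c6))))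
theorem f25743 : Led Lsl_dt (LP (LK LD1_c0 LD2_c19 LD3_c59)) = (LP (LK LD1_c0 LD2_c45 LD3_c3)) :=
  Lre_d IH (LK LD1_c0 LD2_c19 LD3_c59) (LK LD1_c0 LD2_c45 LD3_c3) Lrfl Lrfl
theorem f84094 : Led Lsl_ct (LP (LK LD1_c0 LD2_c45 LD3_c3)) = (LP (LK LD1_c1 LD2_c37 LD3_c24)) :=
  Lre_c IH (LK LD1_c0 LD2_c45 LD3_c3) (LK LD1_c1 LD2_c37 LD3_c24) Lrfl Lrfl
theorem f135269 : Led Lsl_at (LP (LK LD1_c1 LD2_c26 LD3_c38)) = (LP (LK LD1_c1 LD2_c37 LD3_c24)) :=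
  Lgr Lrot33 (Lpr_ff (K5.f135263 IH) (Lpe (K5.f84177 IH) (Lpr_ct (K1.f21038 IH) (Lpr_dt (K5.f21037 IH) (Lpe (f21030 IH) (Lpe (f20840 IH) (Lpe (f84287 IH) (Lpr_dt (f25743 IH) (Lpr_ct (f84094 IH) (Lpn (LP (LK LD1_c1 LD2_c37 LD3_c24))))))))))))
theorem f84341 : Led Lsl_ct (LP (LK LD1_c2 LD2_c22 LD3_c13)) = (LP (LK LD1_c1 LD2_c8 LD3_c15)) :=
  Lre_c IH (LK LD1_c2 LD2_c22 LD3_c13) (LK LD1_c1 LD2_c8 LD3_c15) Lrfl Lrfl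
theorem f84342 : Led Lsl_et (LP (LK LD1_c1 LD2_c37 LD3_c24)) = (LP (LK LD1_c2 LD2_c22 LD3_c13)) :=
  Lgr Lrot158 (Lpe (f84094 IH) (Lpr_ef (K5.f84335 IH) (Lpe (f84341 IH) (Lpn (LP (LK LD1_c2 LD2_c22 LD3_c13))))))
theorem f135279 : Led Lsl_af (LP (LK LD1_c1 LD2_c36 LD3_c30)) = (LP (LK LD1_c2 LD2_c22 LD3_c13)) :=
  Lgr Lrot50 (Lpr_et (K5.f62472 IH) (Lpr_at (f135269 IH) (Lpr_et (f84342 IH) (Lpn (LP (LK LD1_c2 LD2_c22 LD3_c13))))))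
theorem f84366 : Led Lsl_ft (LP (LK LD1_c4 LD2_c48 LD3_c40)) = (LP (LK LD1_c2 LD2_c22 LD3_c13)) :=
  Lre_f IH (LK LD1_c4 LD2_c48 LD3_c40) (LK LD1_c2 LD2_c22 LD3_c13) Lrfl Lrfl
theorem f135356 : Led Lsl_at (LP (LK LD1_c3 LD2_c20 LD3_c13)) = (LP (LK LD1_c4 LD2_c48 LD3_c40)) :=
  Lgr Lrot66 (Lpe (K5.f62491 IH) (Lpr_af (f135279 IH) (Lpe (f84366 IH) (Lpn (LP (LK LD1_c4 LD2_c48 LD3_c40))))))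
theorem f62485 : Led Lsl_et (LP (LK LD1_c6 LD2_c44 LD3_c12)) = (LP (LK LD1_c3 LD2_c20 LD3_c13)) :=
  Lre_e IH (LK LD1_c6 LD2_c44 LD3_c12) (LK LD1_c3 LD2_c20 LD3_c13) Lrfl Lrfl
theorem f84359 : Led Lsl_et (LP (LK LD1_c4 LD2_c48 LD3_c40)) = (LP (LK LD1_c9 LD2_c29 LD3_c53)) :=
  Lre_e IH (LK LD1_c4 LD2_c48 LD3_c40) (LK LD1_c9 LD2_c29 LD3_c53) Lrfl Lrfl
theorem f135386 : Led Lsl_af (LP (LK LD1_c6 LD2_c44 LD3_c12)) = (LP (LK LD1_c9 LD2_c29 LD3_c53)) :=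
  Lgr Lrot50 (Lpr_et (f62485 IH) (Lpr_at (f135356 IH) (Lpr_et (f84359 IH) (Lpn (LP (LK LD1_c9 LD2_c29 LD3_c53))))))
theorem f135253 : Led Lsl_ct (LP (LK LD1_c6 LD2_c44 LD3_c12)) = (LP (LK LD1_c3 LD2_c20 LD3_c14)) :=
  Lre_c IH (LK LD1_c6 LD2_c44 LD3_c12) (LK LD1_c3 LD2_c20 LD3_c14) Lrfl Lrfl
theorem f135397 : Led Lsl_ct (LP (LK LD1_c4 LD2_c48 LD3_c41)) = (LP (LK LD1_c9 LD2_c29 LD3_c53)) :=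
  Lre_c IH (LK LD1_c4 LD2_c48 LD3_c41) (LK LD1_c9 LD2_c29 LD3_c53) Lrfl Lrfl
theorem f135398 : Led Lsl_at (LP (LK LD1_c3 LD2_c20 LD3_c14)) = (LP (LK LD1_c4 LD2_c48 LD3_c41)) :=
  Lgr Lrot107 (Lpe (f135253 IH) (Lpr_af (f135386 IH) (Lpe (f135397 IH) (Lpn (LP (LK LD1_c4 LD2_c48 LD3_c41))))))
theorem f135400 : Led Lsl_af (LP (LK LD1_c3 LD2_c20 LD3_c14)) = (LP (LK LD1_c4 LD2_c48 LD3_c41)) :=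
  Lgr Lrot0 (Lpr_at (f135398 IH) (Lpn (LP (LK LD1_c4 LD2_c48 LD3_c41))))
theorem f135407 : Led Lsl_et (LP (LK LD1_c3 LD2_c20 LD3_c14)) = (LP (LK LD1_c1 LD2_c36 LD3_c31)) :=
  Lre_e IH (LK LD1_c3 LD2_c20 LD3_c14) (LK LD1_c1 LD2_c36 LD3_c31) Lrfl Lrfl
theorem f84625 : Led Lsl_et (LP (LK LD1_c2 LD2_c22 LD3_c14)) = (LP (LK LD1_c4 LD2_c48 LD3_c41)) :=
  Lre_e IH (LK LD1_c2 LD2_c22 LD3_c14) (LK LD1_c4 LD2_c48 LD3_c41) Lrfl Lrfl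
theorem f135408 : Led Lsl_at (LP (LK LD1_c1 LD2_c36 LD3_c31)) = (LP (LK LD1_c2 LD2_c22 LD3_c14)) :=
  Lgr Lrot80 (Lpe (f135407 IH) (Lpr_af (f135400 IH) (Lpe (f84625 IH) (Lpn (LP (LK LD1_c2 LD2_c22 LD3_c14))))))
theorem f57127 : Led Lsl_ft (LP (LK LD1_c0 LD2_c44 LD3_c42)) = (LP (LK LD1_c1 LD2_c36 LD3_c31)) :=
  Lre_f IH (LK LD1_c0 LD2_c44 LD3_c42) (LK LD1_c1 LD2_c36 LD3_c31) Lrfl Lrfl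
theorem f84344 : Led Lsl_ft (LP (LK LD1_c2 LD2_c22 LD3_c14)) = (LP (LK LD1_c1 LD2_c8 LD3_c15)) :=
  Lre_f IH (LK LD1_c2 LD2_c22 LD3_c14) (LK LD1_c1 LD2_c8 LD3_c15) Lrfl Lrfl
theorem f135413 : Led Lsl_af (LP (LK LD1_c0 LD2_c44 LD3_c42)) = (LP (LK LD1_c1 LD2_c8 LD3_c15)) :=
  Lgr Lrot45 (Lpr_ft (f57127 IH) (Lpr_at (f135408 IH) (Lpr_ft (f84344 IH) (Lpn (LP (LK LD1_c1 LD2_c8 LD3_c15))))))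
theorem f57498 : Led Lsl_dt (LP (LK LD1_c0 LD2_c19 LD3_c52)) = (LP (LK LD1_c0 LD2_c44 LD3_c42)) :=
  Lre_d IH (LK LD1_c0 LD2_c19 LD3_c52) (LK LD1_c0 LD2_c44 LD3_c42) Lrfl Lrfl
theorem f57536 : Led Lsl_dt (LP (LK LD1_c0 LD2_c40 LD3_c6)) = (LP (LK LD1_c0 LD2_c17 LD3_c60)) :=
  Lre_d IH (LK LD1_c0 LD2_c40 LD3_c6) (LK LD1_c0 LD2_c17 LD3_c60) Lrfl Lrfl
theorem f57537 : Led Lsl_et (LP (LK LD1_c0 LD2_c44 LD3_c42)) = (LP (LK LD1_c0 LD2_c40 LD3_c6)) :=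
  Lgr Lrot71 (Lpe (f57498 IH) (Lpe (K1.f56743 IH) (Lpr_df (K1.f57530 IH) (Lpe (K1.f24955 IH) (Lpe (f57536 IH) (Lpn (LP (LK LD1_c0 LD2_c40 LD3_c6))))))))
theorem f23260 : Led Lsl_et (LP (LK LD1_c0 LD2_c31 LD3_c15)) = (LP (LK LD1_c0 LD2_c13 LD3_c52)) :=
  Lre_e IH (LK LD1_c0 LD2_c31 LD3_c15) (LK LD1_c0 LD2_c13 LD3_c52) Lrfl Lrfl
theorem f23271 : Led Lsl_dt (LP (LK LD1_c1 LD2_c8 LD3_c15)) = (LP (LK LD1_c0 LD2_c31 LD3_c15)) :=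
  Lre_d IH (LK LD1_c1 LD2_c8 LD3_c15) (LK LD1_c0 LD2_c31 LD3_c15) Lrfl Lrfl
theorem f84324 : Led Lsl_et (LP (LK LD1_c0 LD2_c45 LD3_c3)) = (LP (LK LD1_c1 LD2_c8 LD3_c15)) :=
  Lgr Lrot71 (Lpe (f25743 IH) (Lpr_ef (K2.f84290 IH) (Lpr_df (K0.f23265 IH) (Lpe (f23260 IH) (Lpe (f23271 IH) (Lpn (LP (LK LD1_c1 LD2_c8 LD3_c15))))))))
theorem f135425 : Led Lsl_at (LP (LK LD1_c0 LD2_c40 LD3_c6)) = (LP (LK LD1_c0 LD2_c45 LD3_c3)) :=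
  Lgr Lrot80 (Lpe (f57537 IH) (Lpr_af (f135413 IH) (Lpe (f84324 IH) (Lpn (LP (LK LD1_c0 LD2_c45 LD3_c3))))))
theorem f135434 : Led Lsl_af (LP (LK LD1_c0 LD2_c17 LD3_c60)) = (LP (LK LD1_c0 LD2_c19 LD3_c59)) :=
  Lgr Lrot117 (Lpr_dt (K5.f24956 IH) (Lpr_at (f135425 IH) (Lpr_dt (K5.f84289 IH) (Lpn (LP (LK LD1_c0 LD2_c19 LD3_c59))))))
theorem f20907 : Led Lsl_ct (LP (LK LD1_c0 LD2_c20 LD3_c6)) = (LP (LK LD1_c0 LD2_c9 LD3_c4)) :=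
  Lre_c IH (LK LD1_c0 LD2_c20 LD3_c6) (LK LD1_c0 LD2_c9 LD3_c4) Lrfl Lrfl
theorem f20908 : Led Lsl_dt (LP (LK LD1_c0 LD2_c45 LD3_c17)) = (LP (LK LD1_c0 LD2_c20 LD3_c6)) :=
  Lre_d IH (LK LD1_c0 LD2_c45 LD3_c17) (LK LD1_c0 LD2_c20 LD3_c6) Lrfl Lrfl
theorem f20909 : Led Lsl_ct (LP (LK LD1_c1 LD2_c37 LD3_c45)) = (LP (LK LD1_c0 LD2_c45 LD3_c17)) :=
  Lre_c IH (LK LD1_c1 LD2_c37 LD3_c45) (LK LD1_c0 LD2_c45 LD3_c17) Lrfl Lrfl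
theorem f135442 : Led Lsl_ft (LP (LK LD1_c0 LD2_c31 LD3_c22)) = (LP (LK LD1_c0 LD2_c19 LD3_c59)) :=
  Lgr Lrot2 (Lpr_gt (K5.f7472 IH) (Lpr_gt (K3.f57544 IH) (Lpr_af (f135434 IH) (Lpn (LP (LK LD1_c0 LD2_c19 LD3_c59))))))
theorem f24982 : Led Lsl_dt (LP (LK LD1_c0 LD2_c31 LD3_c22)) = (LP (LK LD1_c1 LD2_c8 LD3_c35)) :=
  Lre_d IH (LK LD1_c0 LD2_c31 LD3_c22) (LK LD1_c1 LD2_c8 LD3_c35) Lrfl Lrfl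
theorem f87603 : Led Lsl_ct (LP (LK LD1_c1 LD2_c8 LD3_c35)) = (LP (LK LD1_c2 LD2_c22 LD3_c57)) :=
  Lre_c IH (LK LD1_c1 LD2_c8 LD3_c35) (LK LD1_c2 LD2_c22 LD3_c57) Lrfl Lrfl
theorem f135444 : Led Lsl_df (LP (LK LD1_c1 LD2_c37 LD3_c45)) = (LP (LK LD1_c2 LD2_c22 LD3_c57)) :=
  Lgr Lrot106 (Lpr_ct (f20909 IH) (Lpr_dt (f20908 IH) (Lpr_ct (f20907 IH) (Lpr_dt (K1.f20903 IH) (Lpr_ct (K1.f57554 IH) (Lpr_af (f135434 IH) (Lpe (f135442 IH) (Lpr_dt (f24982 IH) (Lpr_ct (f87603 IH) (Lpn (LP (LK LD1_c2 LD2_c22 LD3_c57))))))))))))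
theorem f135271 : Led Lsl_af (LP (LK LD1_c1 LD2_c26 LD3_c38)) = (LP (LK LD1_c1 LD2_c37 LD3_c24)) :=
  Lgr Lrot0 (Lpr_at (f135269 IH) (Lpn (LP (LK LD1_c1 LD2_c37 LD3_c24))))
theorem f135453 : Led Lsl_ff (LP (LK LD1_c1 LD2_c37 LD3_c24)) = (LP (LK LD1_c2 LD2_c22 LD3_c57)) :=
  Lgr Lrot103 (Lpe (f135271 IH) (Lpe (K5.f57562 IH) (Lpe (K5.f24956 IH) (Lpe (K1.f57554 IH) (Lpe (K1.f20903 IH) (Lpe (f20907 IH) (Lpe (f20908 IH) (Lpe (f20909 IH) (Lpr_df (f135444 IH) (Lpn (LP (LK LD1_c2 LD2_c22 LD3_c57))))))))))))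
theorem f86369 : Led Lsl_dt (LP (LK LD1_c1 LD2_c26 LD3_c38)) = (LP (LK LD1_c2 LD2_c22 LD3_c60)) :=
  Lgr Lrot42 (Lpr_df (K5.f86359 IH) (Lpn (LP (LK LD1_c2 LD2_c22 LD3_c60))))
theorem f25746 : Led Lsl_dt (LP (LK LD1_c0 LD2_c30 LD3_c36)) = (LP (LK LD1_c0 LD2_c13 LD3_c35)) :=
  Lre_d IH (LK LD1_c0 LD2_c30 LD3_c36) (LK LD1_c0 LD2_c13 LD3_c35) Lrfl Lrfl
theorem f61216 : Led Lsl_ef (LP (LK LD1_c0 LD2_c13 LD3_c24)) = (LP (LK LD1_c0 LD2_c8 LD3_c61)) :=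
  Lgr Lrot28 (Lpr_ct (K1.f61007 IH) (Lpr_et (K0.f9662 IH) (Lpr_ct (K0.f9733 IH) (Lpn (LP (LK LD1_c0 LD2_c8 LD3_c61))))))
theorem f26009 : Led Lsl_et (LP (LK LD1_c0 LD2_c6 LD3_c7)) = (LP (LK LD1_c0 LD2_c13 LD3_c27)) :=
  Lre_e IH (LK LD1_c0 LD2_c6 LD3_c7) (LK LD1_c0 LD2_c13 LD3_c27) Lrfl Lrfl
theorem f25813 : Led Lsl_gt (LP (LK LD1_c0 LD2_c13 LD3_c27)) = (LP (LK LD1_c0 LD2_c30 LD3_c16)) :=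
  Lre_g IH (LK LD1_c0 LD2_c13 LD3_c27) (LK LD1_c0 LD2_c30 LD3_c16) Lrfl Lrfl
theorem f26010 : Led Lsl_dt (LP (LK LD1_c0 LD2_c30 LD3_c16)) = (LP (LK LD1_c1 LD2_c6 LD3_c15)) :=
  Lre_d IH (LK LD1_c0 LD2_c30 LD3_c16) (LK LD1_c1 LD2_c6 LD3_c15) Lrfl Lrfl
theorem f26313 : Led Lsl_et (LP (LK LD1_c0 LD2_c13 LD3_c35)) = (LP (LK LD1_c0 LD2_c6 LD3_c11)) :=
  Lre_e IH (LK LD1_c0 LD2_c13 LD3_c35) (LK LD1_c0 LD2_c6 LD3_c11) Lrfl Lrfl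
theorem f25748 : Led Lsl_dt (LP (LK LD1_c0 LD2_c13 LD3_c35)) = (LP (LK LD1_c0 LD2_c30 LD3_c36)) :=
  Lre_d IH (LK LD1_c0 LD2_c13 LD3_c35) (LK LD1_c0 LD2_c30 LD3_c36) Lrfl Lrfl
theorem f61256 : Led Lsl_gt (LP (LK LD1_c1 LD2_c6 LD3_c15)) = (LP (LK LD1_c0 LD2_c30 LD3_c36)) :=
  Lgr Lrot139 (Lpe (f26010 IH) (Lpe (f25813 IH) (Lpe (f26009 IH) (Lpr_dt (K0.f25728 IH) (Lpr_gf (K1.f25999 IH) (Lpe (K1.f13469 IH) (Lpe (f61216 IH) (Lpr_gf (K1.f61220 IH) (Lpe (f26313 IH) (Lpr_dt (f25748 IH) (Lpn (LP (LK LD1_c0 LD2_c30 LD3_c36)))))))))))))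
theorem f61259 : Led Lsl_ct (LP (LK LD1_c2 LD2_c18 LD3_c28)) = (LP (LK LD1_c1 LD2_c6 LD3_c15)) :=
  Lre_c IH (LK LD1_c2 LD2_c18 LD3_c28) (LK LD1_c1 LD2_c6 LD3_c15) Lrfl Lrfl
theorem f86411 : Led Lsl_gf (LP (LK LD1_c1 LD2_c26 LD3_c38)) = (LP (LK LD1_c2 LD2_c18 LD3_c28)) :=
  Lgr Lrot144 (Lpr_dt (f86369 IH) (Lpe (K3.f86357 IH) (Lpe (K2.f83203 IH) (Lpe (K2.f25062 IH) (Lpe (K1.f25061 IH) (Lpe (K2.f83186 IH) (Lpe (f25746 IH) (Lpe (f61256 IH) (Lpe (f61259 IH) (Lpn (LP (LK LD1_c2 LD2_c18 LD3_c28))))))))))))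
theorem f135468 : Led Lsl_gf (LP (LK LD1_c2 LD2_c18 LD3_c28)) = (LP (LK LD1_c2 LD2_c22 LD3_c57)) :=
  Lgr Lrot47 (Lpe (f86411 IH) (Lpr_af (f135271 IH) (Lpr_ff (f135453 IH) (Lpn (LP (LK LD1_c2 LD2_c22 LD3_c57))))))
theorem f83219 : Led Lsl_ft (LP (LK LD1_c1 LD2_c32 LD3_c13)) = (LP (LK LD1_c1 LD2_c30 LD3_c48)) :=
  Lgr Lrot54 (Lpe (K2.f67407 IH) (Lpe (K2.f67525 IH) (Lpr_df (K2.f83203 IH) (Lpn (LP (LK LD1_c1 LD2_c30 LD3_c48))))))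
theorem f83537 : Led Lsl_df (LP (LK LD1_c3 LD2_c22 LD3_c53)) = (LP (LK LD1_c6 LD2_c23 LD3_c9)) :=
  Lgr Lrot38 (Lpr_dt (K2.f83517 IH) (Lpn (LP (LK LD1_c6 LD2_c23 LD3_c9))))
theorem f77316 : Led Lsl_et (LP (LK LD1_c1 LD2_c37 LD3_c48)) = (LP (LK LD1_c3 LD2_c22 LD3_c53)) :=
  Lre_e IH (LK LD1_c1 LD2_c37 LD3_c48) (LK LD1_c3 LD2_c22 LD3_c53) Lrfl Lrfl
theorem f77317 : Led Lsl_bf (LP (LK LD1_c3 LD2_c8 LD3_c13)) = (LP (LK LD1_c3 LD2_c22 LD3_c53)) :=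
  Lgr Lrot96 (Lpr_et (K2.f77189 IH) (Lpr_bt (K4.f77312 IH) (Lpr_et (f77316 IH) (Lpn (LP (LK LD1_c3 LD2_c22 LD3_c53))))))
theorem f77334 : Led Lsl_dt (LP (LK LD1_c3 LD2_c8 LD3_c13)) = (LP (LK LD1_c6 LD2_c21 LD3_c6)) :=
  Lre_d IH (LK LD1_c3 LD2_c8 LD3_c13) (LK LD1_c6 LD2_c21 LD3_c6) Lrfl Lrfl
theorem f83547 : Led Lsl_bt (LP (LK LD1_c6 LD2_c21 LD3_c6)) = (LP (LK LD1_c6 LD2_c23 LD3_c9)) :=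
  Lgr Lrot95 (Lpe (f77334 IH) (Lpr_bf (f77317 IH) (Lpr_df (f83537 IH) (Lpn (LP (LK LD1_c6 LD2_c23 LD3_c9))))))
theorem f77105 : Led Lsl_at (LP (LK LD1_c3 LD2_c8 LD3_c18)) = (LP (LK LD1_c6 LD2_c21 LD3_c6)) :=
  Lre_a IH (LK LD1_c3 LD2_c8 LD3_c18) (LK LD1_c6 LD2_c21 LD3_c6) Lrfl Lrfl
theorem f77737 : Led Lsl_bt (LP (LK LD1_c1 LD2_c30 LD3_c23)) = (LP (LK LD1_c3 LD2_c8 LD3_c18)) :=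
  Lre_b IH (LK LD1_c1 LD2_c30 LD3_c23) (LK LD1_c3 LD2_c8 LD3_c18) Lrfl Lrfl
theorem f83550 : Led Lsl_bt (LP (LK LD1_c3 LD2_c9 LD3_c16)) = (LP (LK LD1_c1 LD2_c30 LD3_c49)) :=
  Lre_b IH (LK LD1_c3 LD2_c9 LD3_c16) (LK LD1_c1 LD2_c30 LD3_c49) Lrfl Lrfl
theorem f83551 : Led Lsl_af (LP (LK LD1_c1 LD2_c30 LD3_c23)) = (LP (LK LD1_c1 LD2_c30 LD3_c49)) :=
  Lgr Lrot36 (Lpr_bt (f77737 IH) (Lpr_at (f77105 IH) (Lpr_bt (f83547 IH) (Lpr_at (K2.f83519 IH) (Lpr_bt (f83550 IH) (Lpn (LP (LK LD1_c1 LD2_c30 LD3_c49))))))))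
theorem f77108 : Led Lsl_bt (LP (LK LD1_c3 LD2_c8 LD3_c18)) = (LP (LK LD1_c1 LD2_c30 LD3_c23)) :=
  Lre_b IH (LK LD1_c3 LD2_c8 LD3_c18) (LK LD1_c1 LD2_c30 LD3_c23) Lrfl Lrfl
theorem f67411 : Led Lsl_bt (LP (LK LD1_c0 LD2_c42 LD3_c42)) = (LP (LK LD1_c1 LD2_c32 LD3_c17)) :=
  Lre_b IH (LK LD1_c0 LD2_c42 LD3_c42) (LK LD1_c1 LD2_c32 LD3_c17) Lrfl Lrfl
theorem f77109 : Led Lsl_et (LP (LK LD1_c1 LD2_c30 LD3_c23)) = (LP (LK LD1_c0 LD2_c42 LD3_c42)) :=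
  Lgr Lrot74 (Lpe (f77108 IH) (Lpr_ef (K2.f77103 IH) (Lpe (f67411 IH) (Lpn (LP (LK LD1_c0 LD2_c42 LD3_c42))))))
theorem f83198 : Led Lsl_et (LP (LK LD1_c0 LD2_c41 LD3_c54)) = (LP (LK LD1_c1 LD2_c30 LD3_c49)) :=
  Lre_e IH (LK LD1_c0 LD2_c41 LD3_c54) (LK LD1_c1 LD2_c30 LD3_c49) Lrfl Lrfl
theorem f83553 : Led Lsl_at (LP (LK LD1_c0 LD2_c42 LD3_c42)) = (LP (LK LD1_c0 LD2_c41 LD3_c54)) :=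
  Lgr Lrot80 (Lpe (f77109 IH) (Lpr_af (f83551 IH) (Lpe (f83198 IH) (Lpn (LP (LK LD1_c0 LD2_c41 LD3_c54))))))
theorem f83558 : Led Lsl_af (LP (LK LD1_c1 LD2_c32 LD3_c18)) = (LP (LK LD1_c1 LD2_c30 LD3_c48)) :=
  Lgr Lrot68 (Lpr_ct (K2.f67362 IH) (Lpr_at (f83553 IH) (Lpr_ct (K2.f83195 IH) (Lpn (LP (LK LD1_c1 LD2_c30 LD3_c48))))))
theorem f84089 : Led Lsl_gt (LP (LK LD1_c1 LD2_c37 LD3_c29)) = (LP (LK LD1_c1 LD2_c32 LD3_c18)) :=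
  Lgr Lrot46 (Lpr_gf (K2.f84087 IH) (Lpr_ft (f83219 IH) (Lpe (f83558 IH) (Lpn (LP (LK LD1_c1 LD2_c32 LD3_c18))))))
theorem f25626 : Led Lsl_ct (LP (LK LD1_c0 LD2_c45 LD3_c6)) = (LP (LK LD1_c1 LD2_c37 LD3_c29)) :=
  Lre_c IH (LK LD1_c0 LD2_c45 LD3_c6) (LK LD1_c1 LD2_c37 LD3_c29) Lrfl Lrfl
theorem f84091 : Led Lsl_ct (LP (LK LD1_c1 LD2_c37 LD3_c24)) = (LP (LK LD1_c0 LD2_c45 LD3_c3)) :=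
  Lre_c IH (LK LD1_c1 LD2_c37 LD3_c24) (LK LD1_c0 LD2_c45 LD3_c3) Lrfl Lrfl
theorem f84092 : Led Lsl_dt (LP (LK LD1_c1 LD2_c37 LD3_c29)) = (LP (LK LD1_c1 LD2_c37 LD3_c24)) :=
  Lgr Lrot105 (Lpr_gf (K2.f84087 IH) (Lpe (K2.f67407 IH) (Lpe (f84089 IH) (Lpe (f25626 IH) (Lpr_gt (K2.f7442 IH) (Lpr_dt (K0.f7432 IH) (Lpr_gt (K2.f10992 IH) (Lpr_dt (f25743 IH) (Lpe (f84091 IH) (Lpn (LP (LK LD1_c1 LD2_c37 LD3_c24))))))))))))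
theorem f84103 : Led Lsl_et (LP (LK LD1_c3 LD2_c22 LD3_c26)) = (LP (LK LD1_c1 LD2_c37 LD3_c29)) :=
  Lre_e IH (LK LD1_c3 LD2_c22 LD3_c26) (LK LD1_c1 LD2_c37 LD3_c29) Lrfl Lrfl
theorem f84352 : Led Lsl_dt (LP (LK LD1_c6 LD2_c48 LD3_c39)) = (LP (LK LD1_c3 LD2_c22 LD3_c26)) :=
  Lre_d IH (LK LD1_c6 LD2_c48 LD3_c39) (LK LD1_c3 LD2_c22 LD3_c26) Lrfl Lrfl
theorem f84353 : Led Lsl_dt (LP (LK LD1_c2 LD2_c22 LD3_c13)) = (LP (LK LD1_c4 LD2_c48 LD3_c39)) :=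
  Lre_d IH (LK LD1_c2 LD2_c22 LD3_c13) (LK LD1_c4 LD2_c48 LD3_c39) Lrfl Lrfl
theorem f84354 : Led Lsl_ef (LP (LK LD1_c6 LD2_c48 LD3_c39)) = (LP (LK LD1_c4 LD2_c48 LD3_c39)) :=
  Lgr Lrot73 (Lpr_dt (f84352 IH) (Lpr_et (f84103 IH) (Lpr_dt (f84092 IH) (Lpr_et (f84342 IH) (Lpr_dt (f84353 IH) (Lpn (LP (LK LD1_c4 LD2_c48 LD3_c39))))))))
theorem f84502 : Led Lsl_et (LP (LK LD1_c6 LD2_c48 LD3_c39)) = (LP (LK LD1_c4 LD2_c48 LD3_c39)) :=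
  Lgr Lrot87 (Lpr_ef (f84354 IH) (Lpn (LP (LK LD1_c4 LD2_c48 LD3_c39))))
theorem f84104 : Led Lsl_dt (LP (LK LD1_c3 LD2_c22 LD3_c26)) = (LP (LK LD1_c6 LD2_c48 LD3_c39)) :=
  Lre_d IH (LK LD1_c3 LD2_c22 LD3_c26) (LK LD1_c6 LD2_c48 LD3_c39) Lrfl Lrfl
theorem f84511 : Led Lsl_et (LP (LK LD1_c1 LD2_c37 LD3_c29)) = (LP (LK LD1_c3 LD2_c22 LD3_c26)) :=
  Lre_e IH (LK LD1_c1 LD2_c37 LD3_c29) (LK LD1_c3 LD2_c22 LD3_c26) Lrfl Lrfl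
theorem f84365 : Led Lsl_dt (LP (LK LD1_c4 LD2_c48 LD3_c39)) = (LP (LK LD1_c2 LD2_c22 LD3_c13)) :=
  Lre_d IH (LK LD1_c4 LD2_c48 LD3_c39) (LK LD1_c2 LD2_c22 LD3_c13) Lrfl Lrfl
theorem f84356 : Led Lsl_ef (LP (LK LD1_c1 LD2_c37 LD3_c24)) = (LP (LK LD1_c2 LD2_c22 LD3_c13)) :=
  Lgr Lrot88 (Lpr_et (f84342 IH) (Lpn (LP (LK LD1_c2 LD2_c22 LD3_c13))))
theorem f84512 : Led Lsl_df (LP (LK LD1_c1 LD2_c37 LD3_c29)) = (LP (LK LD1_c1 LD2_c37 LD3_c24)) :=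
  Lgr Lrot70 (Lpr_et (f84511 IH) (Lpr_dt (f84104 IH) (Lpr_et (f84502 IH) (Lpr_dt (f84365 IH) (Lpe (f84356 IH) (Lpn (LP (LK LD1_c1 LD2_c37 LD3_c24))))))))
theorem f25815 : Led Lsl_ct (LP (LK LD1_c0 LD2_c41 LD3_c51)) = (LP (LK LD1_c1 LD2_c30 LD3_c40)) :=
  Lre_c IH (LK LD1_c0 LD2_c41 LD3_c51) (LK LD1_c1 LD2_c30 LD3_c40) Lrfl Lrfl
theorem f84519 : Led Lsl_gt (LP (LK LD1_c1 LD2_c30 LD3_c40)) = (LP (LK LD1_c1 LD2_c37 LD3_c24)) :=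
  Lgr Lrot94 (Lpe (f25815 IH) (Lpr_gt (K1.f25808 IH) (Lpr_dt (K1.f24983 IH) (Lpr_gt (K1.f24981 IH) (Lpr_dt (K2.f25816 IH) (Lpe (K2.f25817 IH) (Lpe (K2.f67407 IH) (Lpe (f84089 IH) (Lpr_df (f84512 IH) (Lpn (LP (LK LD1_c1 LD2_c37 LD3_c24))))))))))))
theorem f135281 : Led Lsl_gt (LP (LK LD1_c1 LD2_c37 LD3_c26)) = (LP (LK LD1_c1 LD2_c30 LD3_c40)) :=
  Lgr Lrot5 (Lpe (K5.f135263 IH) (Lpr_at (f135269 IH) (Lpe (f84519 IH) (Lpn (LP (LK LD1_c1 LD2_c30 LD3_c40))))))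
theorem f25786 : Led Lsl_dt (LP (LK LD1_c0 LD2_c30 LD3_c18)) = (LP (LK LD1_c0 LD2_c13 LD3_c27)) :=
  Lre_d IH (LK LD1_c0 LD2_c30 LD3_c18) (LK LD1_c0 LD2_c13 LD3_c27) Lrfl Lrfl
theorem f61258 : Led Lsl_ct (LP (LK LD1_c1 LD2_c6 LD3_c15)) = (LP (LK LD1_c2 LD2_c18 LD3_c28)) :=
  Lre_c IH (LK LD1_c1 LD2_c6 LD3_c15) (LK LD1_c2 LD2_c18 LD3_c28) Lrfl Lrfl
theorem f135283 : Led Lsl_df (LP (LK LD1_c2 LD2_c18 LD3_c28)) = (LP (LK LD1_c1 LD2_c30 LD3_c40)) :=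
  Lgr Lrot84 (Lpe (f61258 IH) (Lpe (f26010 IH) (Lpe (f25813 IH) (Lpe (f25786 IH) (Lpr_gf (K3.f82789 IH) (Lpe (K2.f67362 IH) (Lpe (K2.f84095 IH) (Lpr_dt (K5.f84107 IH) (Lpr_gt (f135281 IH) (Lpn (LP (LK LD1_c1 LD2_c30 LD3_c40))))))))))))
theorem f135301 : Led Lsl_dt (LP (LK LD1_c2 LD2_c18 LD3_c28)) = (LP (LK LD1_c1 LD2_c30 LD3_c40)) :=
  Lgr Lrot42 (Lpr_df (f135283 IH) (Lpn (LP (LK LD1_c1 LD2_c30 LD3_c40))))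
theorem f25818 : Led Lsl_ct (LP (LK LD1_c1 LD2_c30 LD3_c40)) = (LP (LK LD1_c0 LD2_c41 LD3_c51)) :=
  Lre_c IH (LK LD1_c1 LD2_c30 LD3_c40) (LK LD1_c0 LD2_c41 LD3_c51) Lrfl Lrfl
theorem f67088 : Led Lsl_dt (LP (LK LD1_c0 LD2_c18 LD3_c42)) = (LP (LK LD1_c0 LD2_c8 LD3_c23)) :=
  Lre_d IH (LK LD1_c0 LD2_c18 LD3_c42) (LK LD1_c0 LD2_c8 LD3_c23) Lrfl Lrfl
theorem f135448 : Led Lsl_dt (LP (LK LD1_c1 LD2_c37 LD3_c45)) = (LP (LK LD1_c2 LD2_c22 LD3_c57)) :=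
  Lgr Lrot42 (Lpr_df (f135444 IH) (Lpn (LP (LK LD1_c2 LD2_c22 LD3_c57))))
theorem f135470 : Led Lsl_gt (LP (LK LD1_c1 LD2_c30 LD3_c48)) = (LP (LK LD1_c1 LD2_c37 LD3_c45)) :=
  Lgr Lrot94 (Lpe (K2.f83195 IH) (Lpr_gt (K2.f61776 IH) (Lpr_dt (f67088 IH) (Lpr_gt (K1.f25806 IH) (Lpr_dt (K1.f25807 IH) (Lpe (f25818 IH) (Lpe (f135301 IH) (Lpr_gf (f135468 IH) (Lpe (f135448 IH) (Lpn (LP (LK LD1_c1 LD2_c37 LD3_c45))))))))))))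
theorem f83205 : Led Lsl_ct (LP (LK LD1_c1 LD2_c30 LD3_c48)) = (LP (LK LD1_c0 LD2_c41 LD3_c54)) :=
  Lre_c IH (LK LD1_c1 LD2_c30 LD3_c48) (LK LD1_c0 LD2_c41 LD3_c54) Lrfl Lrfl
theorem f83213 : Led Lsl_dt (LP (LK LD1_c1 LD2_c29 LD3_c30)) = (LP (LK LD1_c1 LD2_c30 LD3_c48)) :=
  Lgr Lrot173 (Lpe (K2.f25062 IH) (Lpe (K1.f25061 IH) (Lpr_cf (K1.f25057 IH) (Lpe (K1.f9655 IH) (Lpe (K1.f25050 IH) (Lpe (K1.f25059 IH) (Lpe (K2.f25060 IH) (Lpr_df (K2.f83203 IH) (Lpe (K2.f83195 IH) (Lpe (K2.f83188 IH) (Lpe (K1.f7318 IH) (Lpr_df (K0.f7311 IH) (Lpe (K2.f7319 IH) (Lpr_df (K2.f83196 IH) (Lpe (f83205 IH) (Lpn (LP (LK LD1_c1 LD2_c30 LD3_c48))))))))))))))))))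
theorem f135482 : Led Lsl_gf (LP (LK LD1_c1 LD2_c29 LD3_c30)) = (LP (LK LD1_c1 LD2_c37 LD3_c45)) :=
  Lgr Lrot76 (Lpr_af (K2.f67427 IH) (Lpr_ff (K2.f83221 IH) (Lpr_gt (f135470 IH) (Lpn (LP (LK LD1_c1 LD2_c37 LD3_c45))))))
theorem f135484 : Led Lsl_gt (LP (LK LD1_c0 LD2_c45 LD3_c17)) = (LP (LK LD1_c0 LD2_c40 LD3_c29)) :=
  Lgr Lrot94 (Lpe (f20909 IH) (Lpe (f135482 IH) (Lpr_dt (f83213 IH) (Lpr_gt (f135470 IH) (Lpr_dt (f135448 IH) (Lpe (f87603 IH) (Lpe (f24982 IH) (Lpe (K5.f23830 IH) (Lpe (K2.f7488 IH) (Lpn (LP (LK LD1_c0 LD2_c40 LD3_c29))))))))))))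
theorem f23829 : Led Lsl_et (LP (LK LD1_c0 LD2_c40 LD3_c29)) = (LP (LK LD1_c1 LD2_c27 LD3_c30)) :=
  Lre_e IH (LK LD1_c0 LD2_c40 LD3_c29) (LK LD1_c1 LD2_c27 LD3_c30) Lrfl Lrfl
theorem f25555 : Led Lsl_at (LP (LK LD1_c0 LD2_c41 LD3_c14)) = (LP (LK LD1_c0 LD2_c40 LD3_c29)) :=
  Lgr Lrot80 (Lpe (K0.f25554 IH) (Lpr_af (K0.f25529 IH) (Lpe (f23829 IH) (Lpn (LP (LK LD1_c0 LD2_c40 LD3_c29))))))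
theorem f135486 : Led Lsl_gf (LP (LK LD1_c0 LD2_c45 LD3_c17)) = (LP (LK LD1_c0 LD2_c31 LD3_c23)) :=
  Lgr Lrot47 (Lpr_gt (f135484 IH) (Lpe (f25555 IH) (Lpr_ff (K0.f25619 IH) (Lpn (LP (LK LD1_c0 LD2_c31 LD3_c23))))))
theorem f134879 : Led Lsl_ft (LP (LK LD1_c1 LD2_c8 LD3_c36)) = (LP (LK LD1_c0 LD2_c40 LD3_c0)) :=
  Lgr Lrot75 (Lpe (K5.f86022 IH) (Lpr_ff (K5.f134875 IH) (Lpe (K5.f24687 IH) (Lpn (LP (LK LD1_c0 LD2_c40 LD3_c0))))))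
theorem f135589 : Led Lsl_af (LP (LK LD1_c0 LD2_c45 LD3_c17)) = (LP (LK LD1_c0 LD2_c40 LD3_c0)) :=
  Lgr Lrot31 (Lpr_gf (f135486 IH) (Lpe (K3.f7471 IH) (Lpr_ft (f134879 IH) (Lpn (LP (LK LD1_c0 LD2_c40 LD3_c0))))))
theorem f112965 : Led Lsl_et (LP (LK LD1_c0 LD2_c45 LD3_c16)) = (LP (LK LD1_c0 LD2_c20 LD3_c5)) :=
  Lre_e IH (LK LD1_c0 LD2_c45 LD3_c16) (LK LD1_c0 LD2_c20 LD3_c5) Lrfl Lrfl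
theorem f113130 : Led Lsl_dt (LP (LK LD1_c1 LD2_c37 LD3_c44)) = (LP (LK LD1_c0 LD2_c45 LD3_c16)) :=
  Lre_d IH (LK LD1_c1 LD2_c37 LD3_c44) (LK LD1_c0 LD2_c45 LD3_c16) Lrfl Lrfl
theorem f113131 : Led Lsl_et (LP (LK LD1_c0 LD2_c31 LD3_c12)) = (LP (LK LD1_c1 LD2_c8 LD3_c5)) :=
  Lre_e IH (LK LD1_c0 LD2_c31 LD3_c12) (LK LD1_c1 LD2_c8 LD3_c5) Lrfl Lrfl
theorem f78127 : Led Lsl_dt (LP (LK LD1_c1 LD2_c8 LD3_c5)) = (LP (LK LD1_c2 LD2_c21 LD3_c52)) :=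
  Lre_d IH (LK LD1_c1 LD2_c8 LD3_c5) (LK LD1_c2 LD2_c21 LD3_c52) Lrfl Lrfl
theorem f113132 : Led Lsl_ef (LP (LK LD1_c1 LD2_c37 LD3_c44)) = (LP (LK LD1_c2 LD2_c21 LD3_c52)) :=
  Lgr Lrot73 (Lpr_dt (f113130 IH) (Lpr_et (f112965 IH) (Lpr_dt (K4.f113122 IH) (Lpr_et (f113131 IH) (Lpr_dt (f78127 IH) (Lpn (LP (LK LD1_c2 LD2_c21 LD3_c52))))))))
theorem f113140 : Led Lsl_bt (LP (LK LD1_c1 LD2_c37 LD3_c44)) = (LP (LK LD1_c0 LD2_c45 LD3_c17)) :=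
  Lre_b IH (LK LD1_c1 LD2_c37 LD3_c44) (LK LD1_c0 LD2_c45 LD3_c17) Lrfl Lrfl
theorem f113141 : Led Lsl_bt (LP (LK LD1_c1 LD2_c8 LD3_c8)) = (LP (LK LD1_c2 LD2_c21 LD3_c52)) :=
  Lre_b IH (LK LD1_c1 LD2_c8 LD3_c8) (LK LD1_c2 LD2_c21 LD3_c52) Lrfl Lrfl
theorem f113142 : Led Lsl_et (LP (LK LD1_c0 LD2_c45 LD3_c17)) = (LP (LK LD1_c1 LD2_c8 LD3_c8)) :=
  Lgr Lrot74 (Lpe (f113140 IH) (Lpr_ef (f113132 IH) (Lpe (f113141 IH) (Lpn (LP (LK LD1_c1 LD2_c8 LD3_c8))))))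
theorem f135624 : Led Lsl_at (LP (LK LD1_c1 LD2_c8 LD3_c8)) = (LP (LK LD1_c0 LD2_c44 LD3_c35)) :=
  Lgr Lrot80 (Lpe (f113142 IH) (Lpr_af (f135589 IH) (Lpe (K5.f24679 IH) (Lpn (LP (LK LD1_c0 LD2_c44 LD3_c35))))))
theorem f92128 : Led Lsl_ft (LP (LK LD1_c2 LD2_c21 LD3_c61)) = (LP (LK LD1_c1 LD2_c8 LD3_c8)) :=
  Lre_f IH (LK LD1_c2 LD2_c21 LD3_c61) (LK LD1_c1 LD2_c8 LD3_c8) Lrfl Lrfl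
theorem f92120 : Led Lsl_dt (LP (LK LD1_c2 LD2_c21 LD3_c61)) = (LP (LK LD1_c1 LD2_c8 LD3_c9)) :=
  Lre_d IH (LK LD1_c2 LD2_c21 LD3_c61) (LK LD1_c1 LD2_c8 LD3_c9) Lrfl Lrfl
theorem f92051 : Led Lsl_et (LP (LK LD1_c2 LD2_c14 LD3_c14)) = (LP (LK LD1_c4 LD2_c34 LD3_c32)) :=
  Lre_e IH (LK LD1_c2 LD2_c14 LD3_c14) (LK LD1_c4 LD2_c34 LD3_c32) Lrfl Lrfl
theorem f92052 : Led Lsl_dt (LP (LK LD1_c4 LD2_c34 LD3_c32)) = (LP (LK LD1_c9 LD2_c5 LD3_c58)) :=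
  Lre_d IH (LK LD1_c4 LD2_c34 LD3_c32) (LK LD1_c9 LD2_c5 LD3_c58) Lrfl Lrfl
theorem f15638 : Led Lsl_et (LP (LK LD1_c6 LD2_c54 LD3_c45)) = (LP (LK LD1_c3 LD2_c26 LD3_c27)) :=
  Lre_e IH (LK LD1_c6 LD2_c54 LD3_c45) (LK LD1_c3 LD2_c26 LD3_c27) Lrfl Lrfl
theorem f15646 : Led Lsl_dt (LP (LK LD1_c13 LD2_c7 LD3_c60)) = (LP (LK LD1_c6 LD2_c54 LD3_c45)) :=
  Lre_d IH (LK LD1_c13 LD2_c7 LD3_c60) (LK LD1_c6 LD2_c54 LD3_c45) Lrfl Lrfl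
theorem f92053 : Led Lsl_et (LP (LK LD1_c9 LD2_c5 LD3_c58)) = (LP (LK LD1_c13 LD2_c7 LD3_c60)) :=
  Lgr Lrot71 (Lpe (f92052 IH) (Lpe (f92051 IH) (Lpr_df (K3.f92034 IH) (Lpe (f15638 IH) (Lpe (f15646 IH) (Lpn (LP (LK LD1_c13 LD2_c7 LD3_c60))))))))
theorem f92063 : Led Lsl_ef (LP (LK LD1_c9 LD2_c5 LD3_c58)) = (LP (LK LD1_c13 LD2_c7 LD3_c60)) :=
  Lgr Lrot88 (Lpr_et (f92053 IH) (Lpn (LP (LK LD1_c13 LD2_c7 LD3_c60))))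
theorem f87635 : Led Lsl_et (LP (LK LD1_c2 LD2_c21 LD3_c48)) = (LP (LK LD1_c4 LD2_c47 LD3_c49)) :=
  Lre_e IH (LK LD1_c2 LD2_c21 LD3_c48) (LK LD1_c4 LD2_c47 LD3_c49) Lrfl Lrfl
theorem f87636 : Led Lsl_bf (LP (LK LD1_c6 LD2_c54 LD3_c45)) = (LP (LK LD1_c4 LD2_c47 LD3_c49)) :=
  Lgr Lrot96 (Lpr_et (f15638 IH) (Lpr_bt (K3.f87625 IH) (Lpr_et (f87635 IH) (Lpn (LP (LK LD1_c4 LD2_c47 LD3_c49))))))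
theorem f15645 : Led Lsl_dt (LP (LK LD1_c6 LD2_c54 LD3_c45)) = (LP (LK LD1_c13 LD2_c7 LD3_c60)) :=
  Lre_d IH (LK LD1_c6 LD2_c54 LD3_c45) (LK LD1_c13 LD2_c7 LD3_c60) Lrfl Lrfl
theorem f87640 : Led Lsl_dt (LP (LK LD1_c9 LD2_c28 LD3_c35)) = (LP (LK LD1_c4 LD2_c47 LD3_c49)) :=
  Lre_d IH (LK LD1_c9 LD2_c28 LD3_c35) (LK LD1_c4 LD2_c47 LD3_c49) Lrfl Lrfl
theorem f87641 : Led Lsl_bt (LP (LK LD1_c13 LD2_c7 LD3_c60)) = (LP (LK LD1_c9 LD2_c28 LD3_c35)) :=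
  Lgr Lrot95 (Lpe (f15645 IH) (Lpr_bf (f87636 IH) (Lpe (f87640 IH) (Lpn (LP (LK LD1_c9 LD2_c28 LD3_c35))))))
theorem f87643 : Led Lsl_bf (LP (LK LD1_c13 LD2_c7 LD3_c60)) = (LP (LK LD1_c9 LD2_c28 LD3_c35)) :=
  Lgr Lrot24 (Lpr_bt (f87641 IH) (Lpn (LP (LK LD1_c9 LD2_c28 LD3_c35))))
theorem f87650 : Led Lsl_et (LP (LK LD1_c4 LD2_c47 LD3_c52)) = (LP (LK LD1_c9 LD2_c28 LD3_c35)) :=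
  Lre_e IH (LK LD1_c4 LD2_c47 LD3_c52) (LK LD1_c9 LD2_c28 LD3_c35) Lrfl Lrfl
theorem f92069 : Led Lsl_bt (LP (LK LD1_c9 LD2_c5 LD3_c58)) = (LP (LK LD1_c4 LD2_c47 LD3_c52)) :=
  Lgr Lrot119 (Lpr_ef (f92063 IH) (Lpr_bf (f87643 IH) (Lpe (f87650 IH) (Lpn (LP (LK LD1_c4 LD2_c47 LD3_c52))))))
theorem f92065 : Led Lsl_ft (LP (LK LD1_c16 LD2_c57 LD3_c46)) = (LP (LK LD1_c9 LD2_c5 LD3_c58)) :=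
  Lre_f IH (LK LD1_c16 LD2_c57 LD3_c46) (LK LD1_c9 LD2_c5 LD3_c58) Lrfl Lrfl
theorem f92084 : Led Lsl_ft (LP (LK LD1_c4 LD2_c47 LD3_c52)) = (LP (LK LD1_c9 LD2_c28 LD3_c43)) :=
  Lre_f IH (LK LD1_c4 LD2_c47 LD3_c52) (LK LD1_c9 LD2_c28 LD3_c43) Lrfl Lrfl
theorem f92085 : Led Lsl_bf (LP (LK LD1_c16 LD2_c57 LD3_c46)) = (LP (LK LD1_c9 LD2_c28 LD3_c43)) :=
  Lgr Lrot61 (Lpr_ft (f92065 IH) (Lpr_bt (f92069 IH) (Lpr_ft (f92084 IH) (Lpn (LP (LK LD1_c9 LD2_c28 LD3_c43))))))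
theorem f92095 : Led Lsl_dt (LP (LK LD1_c16 LD2_c57 LD3_c46)) = (LP (LK LD1_c9 LD2_c5 LD3_c59)) :=
  Lre_d IH (LK LD1_c16 LD2_c57 LD3_c46) (LK LD1_c9 LD2_c5 LD3_c59) Lrfl Lrfl
theorem f92096 : Led Lsl_dt (LP (LK LD1_c4 LD2_c47 LD3_c53)) = (LP (LK LD1_c9 LD2_c28 LD3_c43)) :=
  Lre_d IH (LK LD1_c4 LD2_c47 LD3_c53) (LK LD1_c9 LD2_c28 LD3_c43) Lrfl Lrfl
theorem f92097 : Led Lsl_bt (LP (LK LD1_c9 LD2_c5 LD3_c59)) = (LP (LK LD1_c4 LD2_c47 LD3_c53)) :=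
  Lgr Lrot95 (Lpe (f92095 IH) (Lpr_bf (f92085 IH) (Lpe (f92096 IH) (Lpn (LP (LK LD1_c4 LD2_c47 LD3_c53))))))
theorem f92106 : Led Lsl_ct (LP (LK LD1_c4 LD2_c34 LD3_c35)) = (LP (LK LD1_c9 LD2_c5 LD3_c59)) :=
  Lre_c IH (LK LD1_c4 LD2_c34 LD3_c35) (LK LD1_c9 LD2_c5 LD3_c59) Lrfl Lrfl
theorem f92107 : Led Lsl_bt (LP (LK LD1_c2 LD2_c14 LD3_c17)) = (LP (LK LD1_c4 LD2_c34 LD3_c35)) :=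
  Lre_b IH (LK LD1_c2 LD2_c14 LD3_c17) (LK LD1_c4 LD2_c34 LD3_c35) Lrfl Lrfl
theorem f92108 : Led Lsl_ct (LP (LK LD1_c4 LD2_c47 LD3_c53)) = (LP (LK LD1_c2 LD2_c21 LD3_c53)) :=
  Lre_c IH (LK LD1_c4 LD2_c47 LD3_c53) (LK LD1_c2 LD2_c21 LD3_c53) Lrfl Lrfl
theorem f92109 : Led Lsl_bt (LP (LK LD1_c2 LD2_c21 LD3_c53)) = (LP (LK LD1_c1 LD2_c8 LD3_c9)) :=
  Lre_b IH (LK LD1_c2 LD2_c21 LD3_c53) (LK LD1_c1 LD2_c8 LD3_c9) Lrfl Lrfl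
theorem f92110 : Led Lsl_cf (LP (LK LD1_c2 LD2_c14 LD3_c17)) = (LP (LK LD1_c1 LD2_c8 LD3_c9)) :=
  Lgr Lrot97 (Lpr_bt (f92107 IH) (Lpr_ct (f92106 IH) (Lpr_bt (f92097 IH) (Lpr_ct (f92108 IH) (Lpr_bt (f92109 IH) (Lpn (LP (LK LD1_c1 LD2_c8 LD3_c9))))))))
theorem f92118 : Led Lsl_dt (LP (LK LD1_c2 LD2_c14 LD3_c17)) = (LP (LK LD1_c4 LD2_c34 LD3_c39)) :=
  Lre_d IH (LK LD1_c2 LD2_c14 LD3_c17) (LK LD1_c4 LD2_c34 LD3_c39) Lrfl Lrfl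
theorem f92119 : Led Lsl_ct (LP (LK LD1_c4 LD2_c34 LD3_c39)) = (LP (LK LD1_c9 LD2_c6 LD3_c9)) :=
  Lre_c IH (LK LD1_c4 LD2_c34 LD3_c39) (LK LD1_c9 LD2_c6 LD3_c9) Lrfl Lrfl
theorem f135638 : Led Lsl_ct (LP (LK LD1_c6 LD2_c43 LD3_c6)) = (LP (LK LD1_c3 LD2_c19 LD3_c39)) :=
  Lre_c IH (LK LD1_c6 LD2_c43 LD3_c6) (LK LD1_c3 LD2_c19 LD3_c39) Lrfl Lrfl
theorem f135639 : Led Lsl_dt (LP (LK LD1_c9 LD2_c6 LD3_c9)) = (LP (LK LD1_c6 LD2_c43 LD3_c6)) :=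
  Lgr Lrot140 (Lpe (f92119 IH) (Lpe (f92118 IH) (Lpr_cf (f92110 IH) (Lpe (f92120 IH) (Lpr_ft (f92128 IH) (Lpr_at (f135624 IH) (Lpe (K5.f24690 IH) (Lpe (K5.f24938 IH) (Lpe (f135638 IH) (Lpn (LP (LK LD1_c6 LD2_c43 LD3_c6))))))))))))
theorem f92121 : Led Lsl_ct (LP (LK LD1_c4 LD2_c48 LD3_c11)) = (LP (LK LD1_c2 LD2_c21 LD3_c61)) :=
  Lre_c IH (LK LD1_c4 LD2_c48 LD3_c11) (LK LD1_c2 LD2_c21 LD3_c61) Lrfl Lrfl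
theorem f92122 : Led Lsl_dt (LP (LK LD1_c9 LD2_c29 LD3_c9)) = (LP (LK LD1_c4 LD2_c48 LD3_c11)) :=
  Lre_d IH (LK LD1_c9 LD2_c29 LD3_c9) (LK LD1_c4 LD2_c48 LD3_c11) Lrfl Lrfl
theorem f92127 : Led Lsl_ft (LP (LK LD1_c9 LD2_c29 LD3_c9)) = (LP (LK LD1_c4 LD2_c48 LD3_c10)) :=
  Lre_f IH (LK LD1_c9 LD2_c29 LD3_c9) (LK LD1_c4 LD2_c48 LD3_c10) Lrfl Lrfl
theorem f135651 : Led Lsl_at (LP (LK LD1_c4 LD2_c48 LD3_c10)) = (LP (LK LD1_c3 LD2_c19 LD3_c39)) :=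
  Lgr Lrot33 (Lpe (f92127 IH) (Lpr_dt (f92122 IH) (Lpr_ct (f92121 IH) (Lpr_dt (f92120 IH) (Lpe (f92110 IH) (Lpr_dt (f92118 IH) (Lpr_ct (f92119 IH) (Lpr_dt (f135639 IH) (Lpr_ct (f135638 IH) (Lpn (LP (LK LD1_c3 LD2_c19 LD3_c39))))))))))))
theorem f135665 : Led Lsl_ft (LP (LK LD1_c3 LD2_c19 LD3_c39)) = (LP (LK LD1_c6 LD2_c43 LD3_c8)) :=
  Lre_f IH (LK LD1_c3 LD2_c19 LD3_c39) (LK LD1_c6 LD2_c43 LD3_c8) Lrfl Lrfl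
theorem f135666 : Led Lsl_af (LP (LK LD1_c9 LD2_c29 LD3_c9)) = (LP (LK LD1_c6 LD2_c43 LD3_c8)) :=
  Lgr Lrot45 (Lpr_ft (f92127 IH) (Lpr_at (f135651 IH) (Lpr_ft (f135665 IH) (Lpn (LP (LK LD1_c6 LD2_c43 LD3_c8))))))
theorem f135676 : Led Lsl_dt (LP (LK LD1_c3 LD2_c19 LD3_c40)) = (LP (LK LD1_c6 LD2_c43 LD3_c8)) :=
  Lre_d IH (LK LD1_c3 LD2_c19 LD3_c40) (LK LD1_c6 LD2_c43 LD3_c8) Lrfl Lrfl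
theorem f135677 : Led Lsl_at (LP (LK LD1_c4 LD2_c48 LD3_c11)) = (LP (LK LD1_c3 LD2_c19 LD3_c40)) :=
  Lgr Lrot51 (Lpe (f92122 IH) (Lpr_af (f135666 IH) (Lpe (f135676 IH) (Lpn (LP (LK LD1_c3 LD2_c19 LD3_c40))))))
theorem f135696 : Led Lsl_bt (LP (LK LD1_c9 LD2_c29 LD3_c7)) = (LP (LK LD1_c4 LD2_c48 LD3_c11)) :=
  Lre_b IH (LK LD1_c9 LD2_c29 LD3_c7) (LK LD1_c4 LD2_c48 LD3_c11) Lrfl Lrfl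
theorem f135697 : Led Lsl_at (LP (LK LD1_c17 LD2_c29 LD3_c32)) = (LP (LK LD1_c9 LD2_c29 LD3_c7)) :=
  Lre_a IH (LK LD1_c17 LD2_c29 LD3_c32) (LK LD1_c9 LD2_c29 LD3_c7) Lrfl Lrfl
theorem f135698 : Led Lsl_bt (LP (LK LD1_c3 LD2_c19 LD3_c40)) = (LP (LK LD1_c6 LD2_c43 LD3_c4)) :=
  Lre_b IH (LK LD1_c3 LD2_c19 LD3_c40) (LK LD1_c6 LD2_c43 LD3_c4) Lrfl Lrfl
theorem f135699 : Led Lsl_at (LP (LK LD1_c6 LD2_c43 LD3_c4)) = (LP (LK LD1_c12 LD2_c50 LD3_c53)) :=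
  Lre_a IH (LK LD1_c6 LD2_c43 LD3_c4) (LK LD1_c12 LD2_c50 LD3_c53) Lrfl Lrfl
theorem f135700 : Led Lsl_bf (LP (LK LD1_c17 LD2_c29 LD3_c32)) = (LP (LK LD1_c12 LD2_c50 LD3_c53)) :=
  Lgr Lrot81 (Lpr_at (f135697 IH) (Lpr_bt (f135696 IH) (Lpr_at (f135677 IH) (Lpr_bt (f135698 IH) (Lpr_at (f135699 IH) (Lpn (LP (LK LD1_c12 LD2_c50 LD3_c53))))))))
theorem f113244 : Led Lsl_ft (LP (LK LD1_c17 LD2_c29 LD3_c32)) = (LP (LK LD1_c9 LD2_c29 LD3_c5)) :=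
  Lre_f IH (LK LD1_c17 LD2_c29 LD3_c32) (LK LD1_c9 LD2_c29 LD3_c5) Lrfl Lrfl
theorem f24927 : Led Lsl_ft (LP (LK LD1_c6 LD2_c43 LD3_c2)) = (LP (LK LD1_c12 LD2_c50 LD3_c53)) :=
  Lre_f IH (LK LD1_c6 LD2_c43 LD3_c2) (LK LD1_c12 LD2_c50 LD3_c53) Lrfl Lrfl
theorem f135709 : Led Lsl_bt (LP (LK LD1_c9 LD2_c29 LD3_c5)) = (LP (LK LD1_c6 LD2_c43 LD3_c2)) :=
  Lgr Lrot35 (Lpe (f113244 IH) (Lpr_bf (f135700 IH) (Lpe (f24927 IH) (Lpn (LP (LK LD1_c6 LD2_c43 LD3_c2))))))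
theorem f113148 : Led Lsl_et (LP (LK LD1_c1 LD2_c37 LD3_c44)) = (LP (LK LD1_c2 LD2_c21 LD3_c52)) :=
  Lgr Lrot87 (Lpr_ef (f113132 IH) (Lpn (LP (LK LD1_c2 LD2_c21 LD3_c52))))
theorem f113161 : Led Lsl_ct (LP (LK LD1_c3 LD2_c22 LD3_c48)) = (LP (LK LD1_c1 LD2_c37 LD3_c44)) :=
  Lre_c IH (LK LD1_c3 LD2_c22 LD3_c48) (LK LD1_c1 LD2_c37 LD3_c44) Lrfl Lrfl
theorem f113162 : Led Lsl_ct (LP (LK LD1_c2 LD2_c21 LD3_c52)) = (LP (LK LD1_c4 LD2_c47 LD3_c61)) :=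
  Lre_c IH (LK LD1_c2 LD2_c21 LD3_c52) (LK LD1_c4 LD2_c47 LD3_c61) Lrfl Lrfl
theorem f113163 : Led Lsl_ef (LP (LK LD1_c3 LD2_c22 LD3_c48)) = (LP (LK LD1_c4 LD2_c47 LD3_c61)) :=
  Lgr Lrot28 (Lpr_ct (f113161 IH) (Lpr_et (f113148 IH) (Lpr_ct (f113162 IH) (Lpn (LP (LK LD1_c4 LD2_c47 LD3_c61))))))
theorem f113170 : Led Lsl_bt (LP (LK LD1_c3 LD2_c22 LD3_c48)) = (LP (LK LD1_c6 LD2_c49 LD3_c10)) :=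
  Lre_b IH (LK LD1_c3 LD2_c22 LD3_c48) (LK LD1_c6 LD2_c49 LD3_c10) Lrfl Lrfl
theorem f113171 : Led Lsl_bt (LP (LK LD1_c9 LD2_c28 LD3_c54)) = (LP (LK LD1_c4 LD2_c47 LD3_c61)) :=
  Lre_b IH (LK LD1_c9 LD2_c28 LD3_c54) (LK LD1_c4 LD2_c47 LD3_c61) Lrfl Lrfl
theorem f113172 : Led Lsl_et (LP (LK LD1_c6 LD2_c49 LD3_c10)) = (LP (LK LD1_c9 LD2_c28 LD3_c54)) :=
  Lgr Lrot74 (Lpe (f113170 IH) (Lpr_ef (f113163 IH) (Lpe (f113171 IH) (Lpn (LP (LK LD1_c9 LD2_c28 LD3_c54))))))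
theorem f113192 : Led Lsl_ef (LP (LK LD1_c6 LD2_c49 LD3_c10)) = (LP (LK LD1_c9 LD2_c28 LD3_c54)) :=
  Lgr Lrot88 (Lpr_et (f113172 IH) (Lpn (LP (LK LD1_c9 LD2_c28 LD3_c54))))
theorem f113205 : Led Lsl_ct (LP (LK LD1_c6 LD2_c49 LD3_c10)) = (LP (LK LD1_c3 LD2_c22 LD3_c49)) :=
  Lre_c IH (LK LD1_c6 LD2_c49 LD3_c10) (LK LD1_c3 LD2_c22 LD3_c49) Lrfl Lrfl
theorem f113206 : Led Lsl_ct (LP (LK LD1_c4 LD2_c48 LD3_c9)) = (LP (LK LD1_c9 LD2_c28 LD3_c54)) :=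
  Lre_c IH (LK LD1_c4 LD2_c48 LD3_c9) (LK LD1_c9 LD2_c28 LD3_c54) Lrfl Lrfl
theorem f113207 : Led Lsl_et (LP (LK LD1_c3 LD2_c22 LD3_c49)) = (LP (LK LD1_c4 LD2_c48 LD3_c9)) :=
  Lgr Lrot158 (Lpe (f113205 IH) (Lpr_ef (f113192 IH) (Lpe (f113206 IH) (Lpn (LP (LK LD1_c4 LD2_c48 LD3_c9))))))
theorem f113214 : Led Lsl_at (LP (LK LD1_c6 LD2_c49 LD3_c14)) = (LP (LK LD1_c3 LD2_c22 LD3_c49)) :=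
  Lre_a IH (LK LD1_c6 LD2_c49 LD3_c14) (LK LD1_c3 LD2_c22 LD3_c49) Lrfl Lrfl
theorem f113215 : Led Lsl_at (LP (LK LD1_c4 LD2_c48 LD3_c9)) = (LP (LK LD1_c9 LD2_c29 LD3_c5)) :=
  Lre_a IH (LK LD1_c4 LD2_c48 LD3_c9) (LK LD1_c9 LD2_c29 LD3_c5) Lrfl Lrfl
theorem f113216 : Led Lsl_ef (LP (LK LD1_c6 LD2_c49 LD3_c14)) = (LP (LK LD1_c9 LD2_c29 LD3_c5)) :=
  Lgr Lrot20 (Lpr_at (f113214 IH) (Lpr_et (f113207 IH) (Lpr_at (f113215 IH) (Lpn (LP (LK LD1_c9 LD2_c29 LD3_c5))))))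
theorem f113242 : Led Lsl_et (LP (LK LD1_c6 LD2_c49 LD3_c14)) = (LP (LK LD1_c9 LD2_c29 LD3_c5)) :=
  Lgr Lrot87 (Lpr_ef (f113216 IH) (Lpn (LP (LK LD1_c9 LD2_c29 LD3_c5))))
theorem f24731 : Led Lsl_at (LP (LK LD1_c3 LD2_c19 LD3_c38)) = (LP (LK LD1_c6 LD2_c43 LD3_c2)) :=
  Lre_a IH (LK LD1_c3 LD2_c19 LD3_c38) (LK LD1_c6 LD2_c43 LD3_c2) Lrfl Lrfl
theorem f24733 : Led Lsl_et (LP (LK LD1_c6 LD2_c43 LD3_c2)) = (LP (LK LD1_c6 LD2_c9 LD3_c30)) :=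
  Lgr Lrot123 (Lpe (f24731 IH) (Lpr_ef (K5.f24720 IH) (Lpe (K5.f24732 IH) (Lpn (LP (LK LD1_c6 LD2_c9 LD3_c30))))))
theorem f135721 : Led Lsl_bf (LP (LK LD1_c6 LD2_c49 LD3_c14)) = (LP (LK LD1_c6 LD2_c9 LD3_c30)) :=
  Lgr Lrot96 (Lpr_et (f113242 IH) (Lpr_bt (f135709 IH) (Lpr_et (f24733 IH) (Lpn (LP (LK LD1_c6 LD2_c9 LD3_c30))))))
theorem f113238 : Led Lsl_ct (LP (LK LD1_c6 LD2_c49 LD3_c14)) = (LP (LK LD1_c13 LD2_c0 LD3_c38)) :=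
  Lre_c IH (LK LD1_c6 LD2_c49 LD3_c14) (LK LD1_c13 LD2_c0 LD3_c38) Lrfl Lrfl
theorem f113264 : Led Lsl_bt (LP (LK LD1_c13 LD2_c0 LD3_c38)) = (LP (LK LD1_c22 LD2_c10 LD3_c48)) :=
  Lre_b IH (LK LD1_c13 LD2_c0 LD3_c38) (LK LD1_c22 LD2_c10 LD3_c48) Lrfl Lrfl
theorem f24896 : Led Lsl_ct (LP (LK LD1_c11 LD2_c59 LD3_c54)) = (LP (LK LD1_c6 LD2_c9 LD3_c30)) :=
  Lre_c IH (LK LD1_c11 LD2_c59 LD3_c54) (LK LD1_c6 LD2_c9 LD3_c30) Lrfl Lrfl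
theorem f24888 : Led Lsl_bt (LP (LK LD1_c21 LD2_c4 LD3_c28)) = (LP (LK LD1_c11 LD2_c59 LD3_c54)) :=
  Lre_b IH (LK LD1_c21 LD2_c4 LD3_c28) (LK LD1_c11 LD2_c59 LD3_c54) Lrfl Lrfl
theorem f135725 : Led Lsl_ct (LP (LK LD1_c22 LD2_c10 LD3_c48)) = (LP (LK LD1_c21 LD2_c4 LD3_c28)) :=
  Lgr Lrot83 (Lpe (f113264 IH) (Lpe (f113238 IH) (Lpr_bf (f135721 IH) (Lpe (f24896 IH) (Lpe (f24888 IH) (Lpn (LP (LK LD1_c21 LD2_c4 LD3_c28))))))))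
theorem f135729 : Led Lsl_cf (LP (LK LD1_c22 LD2_c10 LD3_c48)) = (LP (LK LD1_c21 LD2_c4 LD3_c28)) :=
  Lgr Lrot11 (Lpr_ct (f135725 IH) (Lpn (LP (LK LD1_c21 LD2_c4 LD3_c28))))
theorem f113283 : Led Lsl_at (LP (LK LD1_c22 LD2_c10 LD3_c48)) = (LP (LK LD1_c13 LD2_c0 LD3_c34)) :=
  Lre_a IH (LK LD1_c22 LD2_c10 LD3_c48) (LK LD1_c13 LD2_c0 LD3_c34) Lrfl Lrfl
theorem f24869 : Led Lsl_at (LP (LK LD1_c11 LD2_c59 LD3_c42)) = (LP (LK LD1_c21 LD2_c4 LD3_c28)) :=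
  Lre_a IH (LK LD1_c11 LD2_c59 LD3_c42) (LK LD1_c21 LD2_c4 LD3_c28) Lrfl Lrfl
theorem f135731 : Led Lsl_ct (LP (LK LD1_c13 LD2_c0 LD3_c34)) = (LP (LK LD1_c11 LD2_c59 LD3_c42)) :=
  Lgr Lrot111 (Lpe (f113283 IH) (Lpr_cf (f135729 IH) (Lpe (f24869 IH) (Lpn (LP (LK LD1_c11 LD2_c59 LD3_c42))))))
theorem f113166 : Led Lsl_at (LP (LK LD1_c3 LD2_c22 LD3_c48)) = (LP (LK LD1_c6 LD2_c49 LD3_c8)) :=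
  Lre_a IH (LK LD1_c3 LD2_c22 LD3_c48) (LK LD1_c6 LD2_c49 LD3_c8) Lrfl Lrfl
theorem f113167 : Led Lsl_at (LP (LK LD1_c9 LD2_c28 LD3_c33)) = (LP (LK LD1_c4 LD2_c47 LD3_c61)) :=
  Lre_a IH (LK LD1_c9 LD2_c28 LD3_c33) (LK LD1_c4 LD2_c47 LD3_c61) Lrfl Lrfl
theorem f113168 : Led Lsl_et (LP (LK LD1_c6 LD2_c49 LD3_c8)) = (LP (LK LD1_c9 LD2_c28 LD3_c33)) :=
  Lgr Lrot123 (Lpe (f113166 IH) (Lpr_ef (f113163 IH) (Lpe (f113167 IH) (Lpn (LP (LK LD1_c9 LD2_c28 LD3_c33))))))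
theorem f113265 : Led Lsl_bt (LP (LK LD1_c13 LD2_c0 LD3_c34)) = (LP (LK LD1_c6 LD2_c49 LD3_c8)) :=
  Lre_b IH (LK LD1_c13 LD2_c0 LD3_c34) (LK LD1_c6 LD2_c49 LD3_c8) Lrfl Lrfl
theorem f113266 : Led Lsl_bt (LP (LK LD1_c9 LD2_c28 LD3_c33)) = (LP (LK LD1_c17 LD2_c28 LD3_c31)) :=
  Lre_b IH (LK LD1_c9 LD2_c28 LD3_c33) (LK LD1_c17 LD2_c28 LD3_c31) Lrfl Lrfl
theorem f113267 : Led Lsl_ef (LP (LK LD1_c13 LD2_c0 LD3_c34)) = (LP (LK LD1_c17 LD2_c28 LD3_c31)) :=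
  Lgr Lrot29 (Lpr_bt (f113265 IH) (Lpr_et (f113168 IH) (Lpr_bt (f113266 IH) (Lpn (LP (LK LD1_c17 LD2_c28 LD3_c31))))))
theorem f24817 : Led Lsl_bt (LP (LK LD1_c6 LD2_c42 LD3_c1)) = (LP (LK LD1_c12 LD2_c49 LD3_c6)) :=
  Lre_b IH (LK LD1_c6 LD2_c42 LD3_c1) (LK LD1_c12 LD2_c49 LD3_c6) Lrfl Lrfl
theorem f24818 : Led Lsl_bt (LP (LK LD1_c11 LD2_c59 LD3_c42)) = (LP (LK LD1_c6 LD2_c9 LD3_c19)) :=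
  Lre_b IH (LK LD1_c11 LD2_c59 LD3_c42) (LK LD1_c6 LD2_c9 LD3_c19) Lrfl Lrfl
theorem f24819 : Led Lsl_et (LP (LK LD1_c12 LD2_c49 LD3_c6)) = (LP (LK LD1_c11 LD2_c59 LD3_c42)) :=
  Lgr Lrot74 (Lpe (f24817 IH) (Lpr_ef (K5.f24785 IH) (Lpe (f24818 IH) (Lpn (LP (LK LD1_c11 LD2_c59 LD3_c42))))))
theorem f24873 : Led Lsl_ef (LP (LK LD1_c12 LD2_c49 LD3_c6)) = (LP (LK LD1_c11 LD2_c59 LD3_c42)) :=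
  Lgr Lrot88 (Lpr_et (f24819 IH) (Lpn (LP (LK LD1_c11 LD2_c59 LD3_c42))))
theorem f135735 : Led Lsl_cf (LP (LK LD1_c17 LD2_c28 LD3_c31)) = (LP (LK LD1_c12 LD2_c49 LD3_c6)) :=
  Lgr Lrot39 (Lpe (f113267 IH) (Lpr_ct (f135731 IH) (Lpe (f24873 IH) (Lpn (LP (LK LD1_c12 LD2_c49 LD3_c6))))))
theorem f113277 : Led Lsl_bt (LP (LK LD1_c17 LD2_c28 LD3_c31)) = (LP (LK LD1_c9 LD2_c28 LD3_c33)) :=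
  Lre_b IH (LK LD1_c17 LD2_c28 LD3_c31) (LK LD1_c9 LD2_c28 LD3_c33) Lrfl Lrfl
theorem f113270 : Led Lsl_ct (LP (LK LD1_c9 LD2_c28 LD3_c33)) = (LP (LK LD1_c4 LD2_c47 LD3_c46)) :=
  Lre_c IH (LK LD1_c9 LD2_c28 LD3_c33) (LK LD1_c4 LD2_c47 LD3_c46) Lrfl Lrfl
theorem f24840 : Led Lsl_ct (LP (LK LD1_c3 LD2_c18 LD3_c61)) = (LP (LK LD1_c6 LD2_c42 LD3_c1)) :=
  Lre_c IH (LK LD1_c3 LD2_c18 LD3_c61) (LK LD1_c6 LD2_c42 LD3_c1) Lrfl Lrfl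
theorem f135737 : Led Lsl_bt (LP (LK LD1_c4 LD2_c47 LD3_c46)) = (LP (LK LD1_c3 LD2_c18 LD3_c61)) :=
  Lgr Lrot128 (Lpe (f113270 IH) (Lpe (f113277 IH) (Lpr_cf (f135735 IH) (Lpe (f24817 IH) (Lpe (f24840 IH) (Lpn (LP (LK LD1_c3 LD2_c18 LD3_c61))))))))
theorem f113291 : Led Lsl_dt (LP (LK LD1_c2 LD2_c21 LD3_c45)) = (LP (LK LD1_c4 LD2_c47 LD3_c46)) :=
  Lre_d IH (LK LD1_c2 LD2_c21 LD3_c45) (LK LD1_c4 LD2_c47 LD3_c46) Lrfl Lrfl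
theorem f135741 : Led Lsl_bf (LP (LK LD1_c2 LD2_c21 LD3_c45)) = (LP (LK LD1_c1 LD2_c35 LD3_c59)) :=
  Lgr Lrot93 (Lpr_dt (f113291 IH) (Lpr_bt (f135737 IH) (Lpr_dt (K5.f24834 IH) (Lpn (LP (LK LD1_c1 LD2_c35 LD3_c59))))))
theorem f113308 : Led Lsl_et (LP (LK LD1_c2 LD2_c21 LD3_c45)) = (LP (LK LD1_c1 LD2_c8 LD3_c3)) :=
  Lre_e IH (LK LD1_c2 LD2_c21 LD3_c45) (LK LD1_c1 LD2_c8 LD3_c3) Lrfl Lrfl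
theorem f135755 : Led Lsl_bt (LP (LK LD1_c1 LD2_c8 LD3_c3)) = (LP (LK LD1_c0 LD2_c44 LD3_c30)) :=
  Lgr Lrot119 (Lpe (f113308 IH) (Lpr_bf (f135741 IH) (Lpe (K5.f24829 IH) (Lpn (LP (LK LD1_c0 LD2_c44 LD3_c30))))))
theorem f113298 : Led Lsl_ct (LP (LK LD1_c1 LD2_c8 LD3_c3)) = (LP (LK LD1_c2 LD2_c21 LD3_c44)) :=
  Lre_c IH (LK LD1_c1 LD2_c8 LD3_c3) (LK LD1_c2 LD2_c21 LD3_c44) Lrfl Lrfl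
theorem f107058 : Led Lsl_bt (LP (LK LD1_c1 LD2_c48 LD3_c34)) = (LP (LK LD1_c0 LD2_c51 LD3_c4)) :=
  Lre_b IH (LK LD1_c1 LD2_c48 LD3_c34) (LK LD1_c0 LD2_c51 LD3_c4) Lrfl Lrfl
theorem f135768 : Led Lsl_gf (LP (LK LD1_c2 LD2_c21 LD3_c44)) = (LP (LK LD1_c1 LD2_c36 LD3_c17)) :=
  Lgr Lrot129 (Lpe (f113298 IH) (Lpr_bt (f135755 IH) (Lpr_gt (K5.f134794 IH) (Lpe (f107058 IH) (Lpr_ct (K5.f124689 IH) (Lpr_gt (K5.f93262 IH) (Lpe (K2.f77324 IH) (Lpr_bt (K3.f83906 IH) (Lpe (K4.f104289 IH) (Lpr_ct (K4.f103529 IH) (Lpn (LP (LK LD1_c1 LD2_c36 LD3_c17)))))))))))))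
theorem f135774 : Led Lsl_dt (LP (LK LD1_c2 LD2_c21 LD3_c44)) = (LP (LK LD1_c1 LD2_c51 LD3_c16)) :=
  Lgr Lrot57 (Lpr_gf (f135768 IH) (Lpe (K4.f103529 IH) (Lpr_gt (K3.f107505 IH) (Lpr_dt (K3.f17664 IH) (Lpe (K2.f25025 IH) (Lpr_dt (K4.f25032 IH) (Lpr_cf (K4.f89394 IH) (Lpe (K5.f64306 IH) (Lpe (K4.f11853 IH) (Lpn (LP (LK LD1_c1 LD2_c51 LD3_c16))))))))))))
theorem f135796 : Led Lsl_gf (LP (LK LD1_c1 LD2_c8 LD3_c3)) = (LP (LK LD1_c0 LD2_c43 LD3_c30)) :=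
  Lgr Lrot172 (Lpr_ct (f113298 IH) (Lpr_dt (f135774 IH) (Lpe (K4.f64307 IH) (Lpr_gf (K1.f64297 IH) (Lpe (K4.f11852 IH) (Lpe (K4.f17462 IH) (Lpr_dt (K5.f129908 IH) (Lpr_gt (K5.f26164 IH) (Lpr_ct (K3.f26160 IH) (Lpn (LP (LK LD1_c0 LD2_c43 LD3_c30))))))))))))
theorem f113299 : Led Lsl_ct (LP (LK LD1_c2 LD2_c21 LD3_c44)) = (LP (LK LD1_c1 LD2_c8 LD3_c3)) :=
  Lre_c IH (LK LD1_c2 LD2_c21 LD3_c44) (LK LD1_c1 LD2_c8 LD3_c3) Lrfl Lrfl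
theorem f92197 : Led Lsl_bt (LP (LK LD1_c2 LD2_c21 LD3_c44)) = (LP (LK LD1_c4 LD2_c47 LD3_c43)) :=
  Lre_b IH (LK LD1_c2 LD2_c21 LD3_c44) (LK LD1_c4 LD2_c47 LD3_c43) Lrfl Lrfl
theorem f113300 : Led Lsl_gt (LP (LK LD1_c4 LD2_c47 LD3_c43)) = (LP (LK LD1_c9 LD2_c28 LD3_c28)) :=
  Lre_g IH (LK LD1_c4 LD2_c47 LD3_c43) (LK LD1_c9 LD2_c28 LD3_c28) Lrfl Lrfl
theorem f15052 : Led Lsl_bt (LP (LK LD1_c3 LD2_c26 LD3_c12)) = (LP (LK LD1_c1 LD2_c39 LD3_c48)) :=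
  Lre_b IH (LK LD1_c3 LD2_c26 LD3_c12) (LK LD1_c1 LD2_c39 LD3_c48) Lrfl Lrfl
theorem f16084 : Led Lsl_gt (LP (LK LD1_c3 LD2_c47 LD3_c41)) = (LP (LK LD1_c7 LD2_c36 LD3_c16)) :=
  Lre_g IH (LK LD1_c3 LD2_c47 LD3_c41) (LK LD1_c7 LD2_c36 LD3_c16) Lrfl Lrfl
theorem f16085 : Led Lsl_gf (LP (LK LD1_c6 LD2_c54 LD3_c19)) = (LP (LK LD1_c7 LD2_c36 LD3_c16)) :=
  Lgr Lrot76 (Lpr_af (K0.f16072 IH) (Lpe (K0.f16071 IH) (Lpr_gt (f16084 IH) (Lpn (LP (LK LD1_c7 LD2_c36 LD3_c16))))))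
theorem f135805 : Led Lsl_ct (LP (LK LD1_c9 LD2_c28 LD3_c28)) = (LP (LK LD1_c7 LD2_c36 LD3_c16)) :=
  Lgr Lrot91 (Lpe (f113300 IH) (Lpe (f92197 IH) (Lpr_ct (f113299 IH) (Lpr_gf (f135796 IH) (Lpe (K3.f26160 IH) (Lpe (K3.f91758 IH) (Lpr_gf (K2.f91754 IH) (Lpe (f15052 IH) (Lpr_ct (K0.f16060 IH) (Lpr_gf (f16085 IH) (Lpn (LP (LK LD1_c7 LD2_c36 LD3_c16)))))))))))))
theorem f16765 : Led Lsl_ct (LP (LK LD1_c3 LD2_c47 LD3_c30)) = (LP (LK LD1_c1 LD2_c50 LD3_c51)) :=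
  Lre_c IH (LK LD1_c3 LD2_c47 LD3_c30) (LK LD1_c1 LD2_c50 LD3_c51) Lrfl Lrfl
theorem f64412 : Led Lsl_bt (LP (LK LD1_c1 LD2_c51 LD3_c16)) = (LP (LK LD1_c3 LD2_c48 LD3_c30)) :=
  Lre_b IH (LK LD1_c1 LD2_c51 LD3_c16) (LK LD1_c3 LD2_c48 LD3_c30) Lrfl Lrfl
theorem f64439 : Led Lsl_gf (LP (LK LD1_c3 LD2_c47 LD3_c30)) = (LP (LK LD1_c3 LD2_c48 LD3_c30)) :=
  Lgr Lrot181 (Lpr_ct (f16765 IH) (Lpr_gt (K5.f16761 IH) (Lpr_cf (K0.f15914 IH) (Lpr_bt (K0.f14650 IH) (Lpr_gt (K0.f14643 IH) (Lpe (K4.f11848 IH) (Lpr_ct (K4.f11852 IH) (Lpe (K1.f64297 IH) (Lpr_cf (K5.f64414 IH) (Lpr_bt (f64412 IH) (Lpn (LP (LK LD1_c3 LD2_c48 LD3_c30)))))))))))))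
theorem f135819 : Led Lsl_dt (LP (LK LD1_c4 LD2_c47 LD3_c43)) = (LP (LK LD1_c3 LD2_c48 LD3_c30)) :=
  Lgr Lrot6 (Lpr_gt (f113300 IH) (Lpr_ct (f135805 IH) (Lpe (f16085 IH) (Lpr_ct (K0.f16063 IH) (Lpe (K0.f16059 IH) (Lpr_cf (K0.f15914 IH) (Lpe (K5.f16761 IH) (Lpe (f16765 IH) (Lpr_gf (f64439 IH) (Lpn (LP (LK LD1_c3 LD2_c48 LD3_c30))))))))))))
theorem f57261 : Led Lsl_at (LP (LK LD1_c3 LD2_c19 LD3_c43)) = (LP (LK LD1_c1 LD2_c36 LD3_c19)) :=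
  Lre_a IH (LK LD1_c3 LD2_c19 LD3_c43) (LK LD1_c1 LD2_c36 LD3_c19) Lrfl Lrfl
theorem f64304 : Led Lsl_ff (LP (LK LD1_c3 LD2_c19 LD3_c43)) = (LP (LK LD1_c1 LD2_c51 LD3_c16)) :=
  Lgr Lrot52 (Lpr_at (f57261 IH) (Lpr_gf (K1.f64297 IH) (Lpe (K4.f11853 IH) (Lpn (LP (LK LD1_c1 LD2_c51 LD3_c16))))))
theorem f64450 : Led Lsl_ft (LP (LK LD1_c3 LD2_c19 LD3_c43)) = (LP (LK LD1_c1 LD2_c51 LD3_c16)) :=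
  Lgr Lrot48 (Lpr_ff (f64304 IH) (Lpn (LP (LK LD1_c1 LD2_c51 LD3_c16))))
theorem f57262 : Led Lsl_bt (LP (LK LD1_c6 LD2_c43 LD3_c12)) = (LP (LK LD1_c3 LD2_c19 LD3_c43)) :=
  Lre_b IH (LK LD1_c6 LD2_c43 LD3_c12) (LK LD1_c3 LD2_c19 LD3_c43) Lrfl Lrfl
theorem f64452 : Led Lsl_ff (LP (LK LD1_c6 LD2_c43 LD3_c12)) = (LP (LK LD1_c3 LD2_c48 LD3_c30)) :=
  Lgr Lrot25 (Lpr_bt (f57262 IH) (Lpr_ft (f64450 IH) (Lpr_bt (f64412 IH) (Lpn (LP (LK LD1_c3 LD2_c48 LD3_c30))))))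
theorem f57468 : Led Lsl_dt (LP (LK LD1_c6 LD2_c43 LD3_c12)) = (LP (LK LD1_c3 LD2_c19 LD3_c42)) :=
  Lre_d IH (LK LD1_c6 LD2_c43 LD3_c12) (LK LD1_c3 LD2_c19 LD3_c42) Lrfl Lrfl
theorem f135825 : Led Lsl_ff (LP (LK LD1_c4 LD2_c47 LD3_c43)) = (LP (LK LD1_c3 LD2_c19 LD3_c42)) :=
  Lgr Lrot19 (Lpr_dt (f135819 IH) (Lpe (f64452 IH) (Lpr_dt (f57468 IH) (Lpn (LP (LK LD1_c3 LD2_c19 LD3_c42))))))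
theorem f135830 : Led Lsl_ft (LP (LK LD1_c4 LD2_c47 LD3_c43)) = (LP (LK LD1_c3 LD2_c19 LD3_c42)) :=
  Lgr Lrot48 (Lpr_ff (f135825 IH) (Lpn (LP (LK LD1_c3 LD2_c19 LD3_c42))))
theorem f92123 : Led Lsl_ft (LP (LK LD1_c2 LD2_c14 LD3_c17)) = (LP (LK LD1_c1 LD2_c4 LD3_c11)) :=
  Lre_f IH (LK LD1_c2 LD2_c14 LD3_c17) (LK LD1_c1 LD2_c4 LD3_c11) Lrfl Lrfl
theorem f92124 : Led Lsl_ft (LP (LK LD1_c0 LD2_c31 LD3_c13)) = (LP (LK LD1_c1 LD2_c8 LD3_c9)) :=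
  Lre_f IH (LK LD1_c0 LD2_c31 LD3_c13) (LK LD1_c1 LD2_c8 LD3_c9) Lrfl Lrfl
theorem f92125 : Led Lsl_ct (LP (LK LD1_c1 LD2_c4 LD3_c11)) = (LP (LK LD1_c0 LD2_c31 LD3_c13)) :=
  Lgr Lrot40 (Lpe (f92123 IH) (Lpr_cf (f92110 IH) (Lpe (f92124 IH) (Lpn (LP (LK LD1_c0 LD2_c31 LD3_c13))))))
theorem f92135 : Led Lsl_cf (LP (LK LD1_c1 LD2_c4 LD3_c11)) = (LP (LK LD1_c0 LD2_c31 LD3_c13)) :=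
  Lgr Lrot11 (Lpr_ct (f92125 IH) (Lpn (LP (LK LD1_c0 LD2_c31 LD3_c13))))
theorem f92148 : Led Lsl_bt (LP (LK LD1_c1 LD2_c4 LD3_c11)) = (LP (LK LD1_c2 LD2_c14 LD3_c15)) :=
  Lre_b IH (LK LD1_c1 LD2_c4 LD3_c11) (LK LD1_c2 LD2_c14 LD3_c15) Lrfl Lrfl
theorem f79865 : Led Lsl_ct (LP (LK LD1_c2 LD2_c14 LD3_c15)) = (LP (LK LD1_c4 LD2_c34 LD3_c32)) :=
  Lre_c IH (LK LD1_c2 LD2_c14 LD3_c15) (LK LD1_c4 LD2_c34 LD3_c32) Lrfl Lrfl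
theorem f92153 : Led Lsl_bt (LP (LK LD1_c1 LD2_c8 LD3_c5)) = (LP (LK LD1_c0 LD2_c31 LD3_c13)) :=
  Lre_b IH (LK LD1_c1 LD2_c8 LD3_c5) (LK LD1_c0 LD2_c31 LD3_c13) Lrfl Lrfl
theorem f92154 : Led Lsl_ct (LP (LK LD1_c2 LD2_c21 LD3_c49)) = (LP (LK LD1_c1 LD2_c8 LD3_c5)) :=
  Lre_c IH (LK LD1_c2 LD2_c21 LD3_c49) (LK LD1_c1 LD2_c8 LD3_c5) Lrfl Lrfl
theorem f92155 : Led Lsl_bt (LP (LK LD1_c4 LD2_c34 LD3_c32)) = (LP (LK LD1_c2 LD2_c21 LD3_c49)) :=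
  Lgr Lrot128 (Lpe (f79865 IH) (Lpe (f92148 IH) (Lpr_cf (f92135 IH) (Lpe (f92153 IH) (Lpe (f92154 IH) (Lpn (LP (LK LD1_c2 LD2_c21 LD3_c49))))))))
theorem f92176 : Led Lsl_et (LP (LK LD1_c2 LD2_c21 LD3_c49)) = (LP (LK LD1_c1 LD2_c8 LD3_c4)) :=
  Lre_e IH (LK LD1_c2 LD2_c21 LD3_c49) (LK LD1_c1 LD2_c8 LD3_c4) Lrfl Lrfl
theorem f92177 : Led Lsl_bf (LP (LK LD1_c2 LD2_c14 LD3_c14)) = (LP (LK LD1_c1 LD2_c8 LD3_c4)) :=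
  Lgr Lrot96 (Lpr_et (f92051 IH) (Lpr_bt (f92155 IH) (Lpr_et (f92176 IH) (Lpn (LP (LK LD1_c1 LD2_c8 LD3_c4))))))
theorem f92045 : Led Lsl_at (LP (LK LD1_c2 LD2_c14 LD3_c14)) = (LP (LK LD1_c4 LD2_c34 LD3_c25)) :=
  Lre_a IH (LK LD1_c2 LD2_c14 LD3_c14) (LK LD1_c4 LD2_c34 LD3_c25) Lrfl Lrfl
theorem f92185 : Led Lsl_bt (LP (LK LD1_c4 LD2_c34 LD3_c25)) = (LP (LK LD1_c9 LD2_c5 LD3_c49)) :=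
  Lre_b IH (LK LD1_c4 LD2_c34 LD3_c25) (LK LD1_c9 LD2_c5 LD3_c49) Lrfl Lrfl
theorem f92186 : Led Lsl_at (LP (LK LD1_c2 LD2_c21 LD3_c44)) = (LP (LK LD1_c1 LD2_c8 LD3_c4)) :=
  Lre_a IH (LK LD1_c2 LD2_c21 LD3_c44) (LK LD1_c1 LD2_c8 LD3_c4) Lrfl Lrfl
theorem f92187 : Led Lsl_bt (LP (LK LD1_c4 LD2_c47 LD3_c43)) = (LP (LK LD1_c2 LD2_c21 LD3_c44)) :=
  Lre_b IH (LK LD1_c4 LD2_c47 LD3_c43) (LK LD1_c2 LD2_c21 LD3_c44) Lrfl Lrfl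
theorem f92188 : Led Lsl_at (LP (LK LD1_c9 LD2_c5 LD3_c49)) = (LP (LK LD1_c4 LD2_c47 LD3_c43)) :=
  Lgr Lrot67 (Lpe (f92185 IH) (Lpe (f92045 IH) (Lpr_bf (f92177 IH) (Lpe (f92186 IH) (Lpe (f92187 IH) (Lpn (LP (LK LD1_c4 LD2_c47 LD3_c43))))))))
theorem f57245 : Led Lsl_at (LP (LK LD1_c0 LD2_c44 LD3_c38)) = (LP (LK LD1_c1 LD2_c36 LD3_c15)) :=
  Lre_a IH (LK LD1_c0 LD2_c44 LD3_c38) (LK LD1_c1 LD2_c36 LD3_c15) Lrfl Lrfl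
theorem f57246 : Led Lsl_bt (LP (LK LD1_c1 LD2_c36 LD3_c15)) = (LP (LK LD1_c3 LD2_c19 LD3_c42)) :=
  Lre_b IH (LK LD1_c1 LD2_c36 LD3_c15) (LK LD1_c3 LD2_c19 LD3_c42) Lrfl Lrfl
theorem f57247 : Led Lsl_at (LP (LK LD1_c2 LD2_c50 LD3_c5)) = (LP (LK LD1_c1 LD2_c21 LD3_c10)) :=
  Lre_a IH (LK LD1_c2 LD2_c50 LD3_c5) (LK LD1_c1 LD2_c21 LD3_c10) Lrfl Lrfl
theorem f57248 : Led Lsl_bt (LP (LK LD1_c5 LD2_c48 LD3_c6)) = (LP (LK LD1_c2 LD2_c50 LD3_c5)) :=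
  Lre_b IH (LK LD1_c5 LD2_c48 LD3_c6) (LK LD1_c2 LD2_c50 LD3_c5) Lrfl Lrfl
theorem f57249 : Led Lsl_at (LP (LK LD1_c3 LD2_c19 LD3_c42)) = (LP (LK LD1_c5 LD2_c48 LD3_c6)) :=
  Lgr Lrot67 (Lpe (f57246 IH) (Lpe (f57245 IH) (Lpr_bf (K1.f57232 IH) (Lpe (f57247 IH) (Lpe (f57248 IH) (Lpn (LP (LK LD1_c5 LD2_c48 LD3_c6))))))))
theorem f135836 : Led Lsl_ff (LP (LK LD1_c9 LD2_c5 LD3_c49)) = (LP (LK LD1_c5 LD2_c48 LD3_c6)) :=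
  Lgr Lrot30 (Lpr_at (f92188 IH) (Lpr_ft (f135830 IH) (Lpr_at (f57249 IH) (Lpn (LP (LK LD1_c5 LD2_c48 LD3_c6))))))
theorem f92195 : Led Lsl_bt (LP (LK LD1_c9 LD2_c5 LD3_c49)) = (LP (LK LD1_c4 LD2_c34 LD3_c25)) :=
  Lre_b IH (LK LD1_c9 LD2_c5 LD3_c49) (LK LD1_c4 LD2_c34 LD3_c25) Lrfl Lrfl
theorem f57449 : Led Lsl_bt (LP (LK LD1_c2 LD2_c50 LD3_c5)) = (LP (LK LD1_c5 LD2_c48 LD3_c6)) :=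
  Lre_b IH (LK LD1_c2 LD2_c50 LD3_c5) (LK LD1_c5 LD2_c48 LD3_c6) Lrfl Lrfl
theorem f135841 : Led Lsl_ft (LP (LK LD1_c4 LD2_c34 LD3_c25)) = (LP (LK LD1_c2 LD2_c50 LD3_c5)) :=
  Lgr Lrot75 (Lpe (f92195 IH) (Lpr_ff (f135836 IH) (Lpe (f57449 IH) (Lpn (LP (LK LD1_c2 LD2_c50 LD3_c5))))))
theorem f135860 : Led Lsl_gt (LP (LK LD1_c4 LD2_c34 LD3_c25)) = (LP (LK LD1_c2 LD2_c50 LD3_c15)) :=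
  Lgr Lrot5 (Lpr_ft (f135841 IH) (Lpr_at (f57247 IH) (Lpe (K5.f56677 IH) (Lpn (LP (LK LD1_c2 LD2_c50 LD3_c15))))))
theorem f130205 : Led Lsl_at (LP (LK LD1_c4 LD2_c34 LD3_c31)) = (LP (LK LD1_c2 LD2_c50 LD3_c15)) :=
  Lgr Lrot100 (Lpr_af (K5.f130203 IH) (Lpn (LP (LK LD1_c2 LD2_c50 LD3_c15))))
theorem f130221 : Led Lsl_ff (LP (LK LD1_c4 LD2_c34 LD3_c31)) = (LP (LK LD1_c2 LD2_c50 LD3_c14)) :=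
  Lgr Lrot3 (Lpr_ft (K5.f130214 IH) (Lpn (LP (LK LD1_c2 LD2_c50 LD3_c14))))
theorem f135862 : Led Lsl_gf (LP (LK LD1_c4 LD2_c34 LD3_c25)) = (LP (LK LD1_c2 LD2_c50 LD3_c14)) :=
  Lgr Lrot47 (Lpr_gt (f135860 IH) (Lpe (f130205 IH) (Lpr_ff (f130221 IH) (Lpn (LP (LK LD1_c2 LD2_c50 LD3_c14))))))
theorem f57466 : Led Lsl_dt (LP (LK LD1_c1 LD2_c21 LD3_c10)) = (LP (LK LD1_c2 LD2_c50 LD3_c16)) :=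
  Lre_d IH (LK LD1_c1 LD2_c21 LD3_c10) (LK LD1_c2 LD2_c50 LD3_c16) Lrfl Lrfl
theorem f64335 : Led Lsl_cf (LP (LK LD1_c2 LD2_c50 LD3_c16)) = (LP (LK LD1_c3 LD2_c50 LD3_c29)) :=
  Lgr Lrot11 (Lpr_ct (K1.f64309 IH) (Lpn (LP (LK LD1_c3 LD2_c50 LD3_c29))))
theorem f135865 : Led Lsl_dt (LP (LK LD1_c4 LD2_c34 LD3_c25)) = (LP (LK LD1_c3 LD2_c50 LD3_c29)) :=
  Lgr Lrot105 (Lpr_gf (f135862 IH) (Lpe (K5.f130150 IH) (Lpr_gf (K4.f103767 IH) (Lpe (K4.f8354 IH) (Lpr_gt (K4.f65945 IH) (Lpr_dt (K5.f130193 IH) (Lpr_gt (K5.f56677 IH) (Lpr_dt (f57466 IH) (Lpr_cf (f64335 IH) (Lpn (LP (LK LD1_c3 LD2_c50 LD3_c29))))))))))))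
theorem f135849 : Led Lsl_ct (LP (LK LD1_c2 LD2_c14 LD3_c11)) = (LP (LK LD1_c4 LD2_c34 LD3_c25)) :=
  Lre_c IH (LK LD1_c2 LD2_c14 LD3_c11) (LK LD1_c4 LD2_c34 LD3_c25) Lrfl Lrfl
theorem f135868 : Led Lsl_dt (LP (LK LD1_c1 LD2_c4 LD3_c9)) = (LP (LK LD1_c2 LD2_c14 LD3_c11)) :=
  Lre_d IH (LK LD1_c1 LD2_c4 LD3_c9) (LK LD1_c2 LD2_c14 LD3_c11) Lrfl Lrfl
theorem f56833 : Led Lsl_dt (LP (LK LD1_c0 LD2_c37 LD3_c28)) = (LP (LK LD1_c0 LD2_c16 LD3_c41)) :=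
  Lre_d IH (LK LD1_c0 LD2_c37 LD3_c28) (LK LD1_c0 LD2_c16 LD3_c41) Lrfl Lrfl
theorem f56676 : Led Lsl_ct (LP (LK LD1_c0 LD2_c37 LD3_c28)) = (LP (LK LD1_c1 LD2_c21 LD3_c10)) :=
  Lre_c IH (LK LD1_c0 LD2_c37 LD3_c28) (LK LD1_c1 LD2_c21 LD3_c10) Lrfl Lrfl
theorem f57255 : Led Lsl_dt (LP (LK LD1_c0 LD2_c16 LD3_c41)) = (LP (LK LD1_c0 LD2_c37 LD3_c28)) :=
  Lre_d IH (LK LD1_c0 LD2_c16 LD3_c41) (LK LD1_c0 LD2_c37 LD3_c28) Lrfl Lrfl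
theorem f135885 : Led Lsl_cf (LP (LK LD1_c0 LD2_c16 LD3_c41)) = (LP (LK LD1_c0 LD2_c16 LD3_c41)) :=
  Lgr Lrot161 (Lpr_dt (f57255 IH) (Lpr_ct (f56676 IH) (Lpe (f57247 IH) (Lpe (f135841 IH) (Lpr_dt (f135865 IH) (Lpe (f64335 IH) (Lpr_dt (K1.f56675 IH) (Lpr_ct (K1.f56674 IH) (Lpr_dt (f56833 IH) (Lpn (LP (LK LD1_c0 LD2_c16 LD3_c41))))))))))))
theorem f135887 : Led Lsl_at (LP (LK LD1_c0 LD2_c37 LD3_c27)) = (LP (LK LD1_c0 LD2_c16 LD3_c41)) :=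
  Lre_a IH (LK LD1_c0 LD2_c37 LD3_c27) (LK LD1_c0 LD2_c16 LD3_c41) Lrfl Lrfl
theorem f135888 : Led Lsl_ft (LP (LK LD1_c1 LD2_c4 LD3_c9)) = (LP (LK LD1_c0 LD2_c37 LD3_c27)) :=
  Lgr Lrot142 (Lpr_dt (f135868 IH) (Lpr_ct (f135849 IH) (Lpr_dt (f135865 IH) (Lpe (f64335 IH) (Lpr_dt (K1.f56675 IH) (Lpr_ct (K1.f56674 IH) (Lpr_dt (f56833 IH) (Lpe (f135885 IH) (Lpe (f135887 IH) (Lpn (LP (LK LD1_c0 LD2_c37 LD3_c27))))))))))))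
theorem f57256 : Led Lsl_gt (LP (LK LD1_c0 LD2_c37 LD3_c26)) = (LP (LK LD1_c0 LD2_c16 LD3_c41)) :=
  Lre_g IH (LK LD1_c0 LD2_c37 LD3_c26) (LK LD1_c0 LD2_c16 LD3_c41) Lrfl Lrfl
theorem f135897 : Led Lsl_gt (LP (LK LD1_c1 LD2_c4 LD3_c9)) = (LP (LK LD1_c0 LD2_c37 LD3_c26)) :=
  Lgr Lrot5 (Lpr_ft (f135888 IH) (Lpr_at (f135887 IH) (Lpe (f57256 IH) (Lpn (LP (LK LD1_c0 LD2_c37 LD3_c26))))))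
theorem f100281 : Led Lsl_ct (LP (LK LD1_c2 LD2_c49 LD3_c60)) = (LP (LK LD1_c4 LD2_c37 LD3_c8)) :=
  Lgr Lrot59 (Lpr_cf (K4.f100250 IH) (Lpn (LP (LK LD1_c4 LD2_c37 LD3_c8))))
theorem f73013 : Led Lsl_bt (LP (LK LD1_c0 LD2_c18 LD3_c4)) = (LP (LK LD1_c0 LD2_c40 LD3_c23)) :=
  Lre_b IH (LK LD1_c0 LD2_c18 LD3_c4) (LK LD1_c0 LD2_c40 LD3_c23) Lrfl Lrfl
theorem f25192 : Led Lsl_bt (LP (LK LD1_c0 LD2_c29 LD3_c28)) = (LP (LK LD1_c1 LD2_c4 LD3_c23)) :=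
  Lre_b IH (LK LD1_c0 LD2_c29 LD3_c28) (LK LD1_c1 LD2_c4 LD3_c23) Lrfl Lrfl
theorem f100335 : Led Lsl_gt (LP (LK LD1_c1 LD2_c21 LD3_c4)) = (LP (LK LD1_c1 LD2_c4 LD3_c23)) :=
  Lgr Lrot164 (Lpe (K4.f100279 IH) (Lpr_ct (f100281 IH) (Lpe (K4.f100249 IH) (Lpe (K4.f25137 IH) (Lpe (K4.f99655 IH) (Lpe (f73013 IH) (Lpr_ct (K1.f21006 IH) (Lpr_gf (K0.f25397 IH) (Lpr_cf (K5.f25195 IH) (Lpr_bt (f25192 IH) (Lpn (LP (LK LD1_c1 LD2_c4 LD3_c23)))))))))))))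
theorem f20400 : Led Lsl_dt (LP (LK LD1_c1 LD2_c4 LD3_c23)) = (LP (LK LD1_c0 LD2_c29 LD3_c27)) :=
  Lre_d IH (LK LD1_c1 LD2_c4 LD3_c23) (LK LD1_c0 LD2_c29 LD3_c27) Lrfl Lrfl
theorem f135901 : Led Lsl_ct (LP (LK LD1_c1 LD2_c4 LD3_c9)) = (LP (LK LD1_c1 LD2_c4 LD3_c9)) :=
  Lgr Lrot8 (Lpr_gt (f135897 IH) (Lpr_dt (K5.f100339 IH) (Lpr_gt (f100335 IH) (Lpr_dt (f20400 IH) (Lpe (K2.f20301 IH) (Lpe (f20400 IH) (Lpe (f100335 IH) (Lpe (K5.f100339 IH) (Lpe (f135897 IH) (Lpn (LP (LK LD1_c1 LD2_c4 LD3_c9))))))))))))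
theorem f135867 : Led Lsl_dt (LP (LK LD1_c2 LD2_c14 LD3_c11)) = (LP (LK LD1_c1 LD2_c4 LD3_c9)) :=
  Lre_d IH (LK LD1_c2 LD2_c14 LD3_c11) (LK LD1_c1 LD2_c4 LD3_c9) Lrfl Lrfl
theorem f64413 : Led Lsl_at (LP (LK LD1_c1 LD2_c21 LD3_c6)) = (LP (LK LD1_c0 LD2_c37 LD3_c28)) :=
  Lre_a IH (LK LD1_c1 LD2_c21 LD3_c6) (LK LD1_c0 LD2_c37 LD3_c28) Lrfl Lrfl
theorem f135906 : Led Lsl_ft (LP (LK LD1_c2 LD2_c14 LD3_c11)) = (LP (LK LD1_c1 LD2_c21 LD3_c6)) :=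
  Lgr Lrot142 (Lpr_dt (f135867 IH) (Lpr_ct (f135901 IH) (Lpr_dt (f135868 IH) (Lpr_ct (f135849 IH) (Lpr_dt (f135865 IH) (Lpe (f64335 IH) (Lpr_dt (K1.f56675 IH) (Lpr_ct (K1.f56674 IH) (Lpe (f64413 IH) (Lpn (LP (LK LD1_c1 LD2_c21 LD3_c6))))))))))))
theorem f56755 : Led Lsl_gt (LP (LK LD1_c1 LD2_c21 LD3_c9)) = (LP (LK LD1_c0 LD2_c37 LD3_c28)) :=
  Lre_g IH (LK LD1_c1 LD2_c21 LD3_c9) (LK LD1_c0 LD2_c37 LD3_c28) Lrfl Lrfl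
theorem f135918 : Led Lsl_gt (LP (LK LD1_c2 LD2_c14 LD3_c11)) = (LP (LK LD1_c1 LD2_c21 LD3_c9)) :=
  Lgr Lrot5 (Lpr_ft (f135906 IH) (Lpr_at (f64413 IH) (Lpe (f56755 IH) (Lpn (LP (LK LD1_c1 LD2_c21 LD3_c9))))))
theorem f135834 : Led Lsl_ct (LP (LK LD1_c4 LD2_c34 LD3_c25)) = (LP (LK LD1_c2 LD2_c14 LD3_c11)) :=
  Lre_c IH (LK LD1_c4 LD2_c34 LD3_c25) (LK LD1_c2 LD2_c14 LD3_c11) Lrfl Lrfl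
theorem f115840 : Led Lsl_cf (LP (LK LD1_c3 LD2_c29 LD3_c59)) = (LP (LK LD1_c3 LD2_c25 LD3_c41)) :=
  Lgr Lrot11 (Lpr_ct (K4.f115835 IH) (Lpn (LP (LK LD1_c3 LD2_c25 LD3_c41))))
theorem f56828 : Led Lsl_ct (LP (LK LD1_c1 LD2_c21 LD3_c9)) = (LP (LK LD1_c2 LD2_c50 LD3_c12)) :=
  Lre_c IH (LK LD1_c1 LD2_c21 LD3_c9) (LK LD1_c2 LD2_c50 LD3_c12) Lrfl Lrfl
theorem f135925 : Led Lsl_df (LP (LK LD1_c3 LD2_c29 LD3_c59)) = (LP (LK LD1_c2 LD2_c50 LD3_c12)) :=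
  Lgr Lrot162 (Lpr_cf (f115840 IH) (Lpr_gf (K4.f103767 IH) (Lpe (K4.f8354 IH) (Lpe (K4.f103750 IH) (Lpr_dt (K5.f130150 IH) (Lpe (f135862 IH) (Lpr_ct (f135834 IH) (Lpr_gt (f135918 IH) (Lpr_ct (f56828 IH) (Lpn (LP (LK LD1_c2 LD2_c50 LD3_c12))))))))))))
theorem f103741 : Led Lsl_bt (LP (LK LD1_c3 LD2_c25 LD3_c41)) = (LP (LK LD1_c3 LD2_c45 LD3_c45)) :=
  Lgr Lrot127 (Lpr_bf (K4.f103737 IH) (Lpn (LP (LK LD1_c3 LD2_c45 LD3_c45))))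
theorem f130120 : Led Lsl_df (LP (LK LD1_c3 LD2_c25 LD3_c41)) = (LP (LK LD1_c2 LD2_c50 LD3_c14)) :=
  Lgr Lrot12 (Lpr_bt (f103741 IH) (Lpr_dt (K5.f130116 IH) (Lpr_bt (K5.f57528 IH) (Lpn (LP (LK LD1_c2 LD2_c50 LD3_c14))))))
theorem f12296 : Led Lsl_gt (LP (LK LD1_c0 LD2_c52 LD3_c49)) = (LP (LK LD1_c1 LD2_c52 LD3_c6)) :=
  Lre_g IH (LK LD1_c0 LD2_c52 LD3_c49) (LK LD1_c1 LD2_c52 LD3_c6) Lrfl Lrfl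
theorem f56885 : Led Lsl_ct (LP (LK LD1_c0 LD2_c7 LD3_c39)) = (LP (LK LD1_c0 LD2_c14 LD3_c46)) :=
  Lre_c IH (LK LD1_c0 LD2_c7 LD3_c39) (LK LD1_c0 LD2_c14 LD3_c46) Lrfl Lrfl
theorem f26538 : Led Lsl_dt (LP (LK LD1_c0 LD2_c17 LD3_c14)) = (LP (LK LD1_c0 LD2_c7 LD3_c39)) :=
  Lre_d IH (LK LD1_c0 LD2_c17 LD3_c14) (LK LD1_c0 LD2_c7 LD3_c39) Lrfl Lrfl
theorem f56766 : Led Lsl_gt (LP (LK LD1_c0 LD2_c38 LD3_c49)) = (LP (LK LD1_c0 LD2_c17 LD3_c14)) :=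
  Lre_g IH (LK LD1_c0 LD2_c38 LD3_c49) (LK LD1_c0 LD2_c17 LD3_c14) Lrfl Lrfl
theorem f56767 : Led Lsl_bt (LP (LK LD1_c1 LD2_c24 LD3_c2)) = (LP (LK LD1_c0 LD2_c38 LD3_c49)) :=
  Lre_b IH (LK LD1_c1 LD2_c24 LD3_c2) (LK LD1_c0 LD2_c38 LD3_c49) Lrfl Lrfl
theorem f76151 : Led Lsl_ct (LP (LK LD1_c2 LD2_c56 LD3_c21)) = (LP (LK LD1_c1 LD2_c24 LD3_c2)) :=
  Lre_c IH (LK LD1_c2 LD2_c56 LD3_c21) (LK LD1_c1 LD2_c24 LD3_c2) Lrfl Lrfl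
theorem f12291 : Led Lsl_bt (LP (LK LD1_c0 LD2_c23 LD3_c50)) = (LP (LK LD1_c0 LD2_c52 LD3_c49)) :=
  Lre_b IH (LK LD1_c0 LD2_c23 LD3_c50) (LK LD1_c0 LD2_c52 LD3_c49) Lrfl Lrfl
theorem f124191 : Led Lsl_df (LP (LK LD1_c2 LD2_c56 LD3_c21)) = (LP (LK LD1_c1 LD2_c52 LD3_c6)) :=
  Lgr Lrot183 (Lpr_ct (f76151 IH) (Lpr_bt (f56767 IH) (Lpr_gt (f56766 IH) (Lpr_dt (f26538 IH) (Lpr_ct (f56885 IH) (Lpr_bt (K2.f20408 IH) (Lpr_gt (K1.f37314 IH) (Lpr_dt (K1.f20540 IH) (Lpr_ct (K5.f26720 IH) (Lpr_bt (K4.f124152 IH) (Lpr_gt (K4.f86815 IH) (Lpr_dt (K4.f116055 IH) (Lpr_ct (K4.f109162 IH) (Lpr_bt (K3.f108191 IH) (Lpe (K3.f109148 IH) (Lpr_dt (K2.f62678 IH) (Lpr_ct (K0.f12193 IH) (Lpr_bt (f12291 IH) (Lpr_gt (f12296 IH) (Lpn (LP (LK LD1_c1 LD2_c52 LD3_c6))))))))))))))))))))))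
theorem f135935 : Led Lsl_gt (LP (LK LD1_c2 LD2_c56 LD3_c21)) = (LP (LK LD1_c2 LD2_c50 LD3_c12)) :=
  Lgr Lrot49 (Lpr_df (f124191 IH) (Lpe (f12296 IH) (Lpe (K1.f12201 IH) (Lpe (K1.f64341 IH) (Lpr_dt (K1.f56675 IH) (Lpr_gt (K5.f56814 IH) (Lpe (f130120 IH) (Lpe (K4.f115835 IH) (Lpr_df (f135925 IH) (Lpn (LP (LK LD1_c2 LD2_c50 LD3_c12))))))))))))
theorem f115790 : Led Lsl_at (LP (LK LD1_c3 LD2_c29 LD3_c59)) = (LP (LK LD1_c1 LD2_c41 LD3_c40)) :=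
  Lre_a IH (LK LD1_c3 LD2_c29 LD3_c59) (LK LD1_c1 LD2_c41 LD3_c40) Lrfl Lrfl
theorem f109916 : Led Lsl_dt (LP (LK LD1_c1 LD2_c41 LD3_c40)) = (LP (LK LD1_c3 LD2_c29 LD3_c60)) :=
  Lre_d IH (LK LD1_c1 LD2_c41 LD3_c40) (LK LD1_c3 LD2_c29 LD3_c60) Lrfl Lrfl
theorem f135928 : Led Lsl_at (LP (LK LD1_c3 LD2_c29 LD3_c60)) = (LP (LK LD1_c2 LD2_c50 LD3_c12)) :=
  Lgr Lrot51 (Lpe (f109916 IH) (Lpe (f115790 IH) (Lpr_df (f135925 IH) (Lpn (LP (LK LD1_c2 LD2_c50 LD3_c12))))))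
theorem f65713 : Led Lsl_bt (LP (LK LD1_c0 LD2_c52 LD3_c58)) = (LP (LK LD1_c1 LD2_c52 LD3_c30)) :=
  Lre_b IH (LK LD1_c0 LD2_c52 LD3_c58) (LK LD1_c1 LD2_c52 LD3_c30) Lrfl Lrfl
theorem f130668 : Led Lsl_ff (LP (LK LD1_c3 LD2_c29 LD3_c60)) = (LP (LK LD1_c1 LD2_c52 LD3_c30)) :=
  Lgr Lrot25 (Lpr_bt (K3.f63809 IH) (Lpr_ft (K5.f130664 IH) (Lpr_bt (f65713 IH) (Lpn (LP (LK LD1_c1 LD2_c52 LD3_c30))))))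
theorem f135942 : Led Lsl_gf (LP (LK LD1_c2 LD2_c56 LD3_c21)) = (LP (LK LD1_c1 LD2_c52 LD3_c30)) :=
  Lgr Lrot47 (Lpr_gt (f135935 IH) (Lpe (f135928 IH) (Lpr_ff (f130668 IH) (Lpn (LP (LK LD1_c1 LD2_c52 LD3_c30))))))
theorem f56768 : Led Lsl_ct (LP (LK LD1_c1 LD2_c24 LD3_c2)) = (LP (LK LD1_c2 LD2_c56 LD3_c21)) :=
  Lre_c IH (LK LD1_c1 LD2_c24 LD3_c2) (LK LD1_c2 LD2_c56 LD3_c21) Lrfl Lrfl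
theorem f56782 : Led Lsl_gt (LP (LK LD1_c0 LD2_c38 LD3_c50)) = (LP (LK LD1_c1 LD2_c24 LD3_c5)) :=
  Lre_g IH (LK LD1_c0 LD2_c38 LD3_c50) (LK LD1_c1 LD2_c24 LD3_c5) Lrfl Lrfl
theorem f75054 : Led Lsl_dt (LP (LK LD1_c2 LD2_c58 LD3_c16)) = (LP (LK LD1_c2 LD2_c56 LD3_c31)) :=
  Lgr Lrot27 (Lpe (K5.f72843 IH) (Lpe (K4.f56023 IH) (Lpe (K2.f37267 IH) (Lpe (K2.f20559 IH) (Lpr_df (K2.f75036 IH) (Lpr_gt (f56766 IH) (Lpr_ct (K4.f56781 IH) (Lpr_gt (f56782 IH) (Lpr_ct (K4.f74517 IH) (Lpn (LP (LK LD1_c2 LD2_c56 LD3_c31))))))))))))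
theorem f75071 : Led Lsl_df (LP (LK LD1_c2 LD2_c58 LD3_c16)) = (LP (LK LD1_c2 LD2_c56 LD3_c31)) :=
  Lgr Lrot38 (Lpr_dt (f75054 IH) (Lpn (LP (LK LD1_c2 LD2_c56 LD3_c31))))
theorem f119840 : Led Lsl_dt (LP (LK LD1_c2 LD2_c49 LD3_c49)) = (LP (LK LD1_c5 LD2_c47 LD3_c42)) :=
  Lre_d IH (LK LD1_c2 LD2_c49 LD3_c49) (LK LD1_c5 LD2_c47 LD3_c42) Lrfl Lrfl
theorem f119845 : Led Lsl_bf (LP (LK LD1_c2 LD2_c56 LD3_c31)) = (LP (LK LD1_c5 LD2_c47 LD3_c42)) :=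
  Lgr Lrot93 (Lpe (f75071 IH) (Lpr_bt (K5.f119841 IH) (Lpr_dt (f119840 IH) (Lpn (LP (LK LD1_c5 LD2_c47 LD3_c42))))))
theorem f119853 : Led Lsl_bt (LP (LK LD1_c2 LD2_c56 LD3_c31)) = (LP (LK LD1_c5 LD2_c47 LD3_c42)) :=
  Lgr Lrot127 (Lpr_bf (f119845 IH) (Lpn (LP (LK LD1_c5 LD2_c47 LD3_c42))))
theorem f61830 : Led Lsl_bt (LP (LK LD1_c0 LD2_c17 LD3_c17)) = (LP (LK LD1_c0 LD2_c38 LD3_c55)) :=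
  Lre_b IH (LK LD1_c0 LD2_c17 LD3_c17) (LK LD1_c0 LD2_c38 LD3_c55) Lrfl Lrfl
theorem f68568 : Led Lsl_dt (LP (LK LD1_c0 LD2_c38 LD3_c55)) = (LP (LK LD1_c0 LD2_c18 LD3_c49)) :=
  Lgr Lrot79 (Lpe (f61830 IH) (Lpr_df (K4.f68535 IH) (Lpe (K5.f68567 IH) (Lpn (LP (LK LD1_c0 LD2_c18 LD3_c49))))))
theorem f69199 : Led Lsl_df (LP (LK LD1_c0 LD2_c38 LD3_c55)) = (LP (LK LD1_c0 LD2_c18 LD3_c49)) :=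
  Lgr Lrot38 (Lpr_dt (f68568 IH) (Lpn (LP (LK LD1_c0 LD2_c18 LD3_c49))))
theorem f56761 : Led Lsl_gt (LP (LK LD1_c2 LD2_c57 LD3_c15)) = (LP (LK LD1_c1 LD2_c24 LD3_c23)) :=
  Lre_g IH (LK LD1_c2 LD2_c57 LD3_c15) (LK LD1_c1 LD2_c24 LD3_c23) Lrfl Lrfl
theorem f56760 : Led Lsl_ct (LP (LK LD1_c0 LD2_c38 LD3_c55)) = (LP (LK LD1_c1 LD2_c24 LD3_c23)) :=
  Lre_c IH (LK LD1_c0 LD2_c38 LD3_c55) (LK LD1_c1 LD2_c24 LD3_c23) Lrfl Lrfl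
theorem f56754 : Led Lsl_bt (LP (LK LD1_c0 LD2_c16 LD3_c42)) = (LP (LK LD1_c0 LD2_c37 LD3_c28)) :=
  Lre_b IH (LK LD1_c0 LD2_c16 LD3_c42) (LK LD1_c0 LD2_c37 LD3_c28) Lrfl Lrfl
theorem f56762 : Led Lsl_gt (LP (LK LD1_c0 LD2_c37 LD3_c28)) = (LP (LK LD1_c1 LD2_c21 LD3_c8)) :=
  Lre_g IH (LK LD1_c0 LD2_c37 LD3_c28) (LK LD1_c1 LD2_c21 LD3_c8) Lrfl Lrfl
theorem f56763 : Led Lsl_bt (LP (LK LD1_c2 LD2_c50 LD3_c9)) = (LP (LK LD1_c1 LD2_c21 LD3_c8)) :=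
  Lre_b IH (LK LD1_c2 LD2_c50 LD3_c9) (LK LD1_c1 LD2_c21 LD3_c8) Lrfl Lrfl
theorem f56764 : Led Lsl_cf (LP (LK LD1_c2 LD2_c57 LD3_c15)) = (LP (LK LD1_c2 LD2_c50 LD3_c9)) :=
  Lgr Lrot160 (Lpr_gt (f56761 IH) (Lpe (f56760 IH) (Lpr_bt (K4.f56759 IH) (Lpr_gt (K1.f13545 IH) (Lpr_ct (K0.f13544 IH) (Lpr_gt (K1.f20888 IH) (Lpr_cf (K1.f56671 IH) (Lpr_bt (f56754 IH) (Lpr_gt (f56762 IH) (Lpe (f56763 IH) (Lpn (LP (LK LD1_c2 LD2_c50 LD3_c9)))))))))))))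
theorem f66272 : Led Lsl_dt (LP (LK LD1_c5 LD2_c47 LD3_c42)) = (LP (LK LD1_c2 LD2_c49 LD3_c49)) :=
  Lre_d IH (LK LD1_c5 LD2_c47 LD3_c42) (LK LD1_c2 LD2_c49 LD3_c49) Lrfl Lrfl
theorem f119838 : Led Lsl_gf (LP (LK LD1_c2 LD2_c50 LD3_c9)) = (LP (LK LD1_c5 LD2_c47 LD3_c42)) :=
  Lgr Lrot147 (Lpe (f56764 IH) (Lpr_gt (f56761 IH) (Lpr_ct (K4.f56779 IH) (Lpr_df (f69199 IH) (Lpe (K4.f59714 IH) (Lpe (K4.f69211 IH) (Lpr_cf (K4.f117625 IH) (Lpe (K5.f66271 IH) (Lpe (f66272 IH) (Lpn (LP (LK LD1_c5 LD2_c47 LD3_c42))))))))))))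
theorem f56770 : Led Lsl_bt (LP (LK LD1_c1 LD2_c21 LD3_c8)) = (LP (LK LD1_c2 LD2_c50 LD3_c9)) :=
  Lre_b IH (LK LD1_c1 LD2_c21 LD3_c8) (LK LD1_c2 LD2_c50 LD3_c9) Lrfl Lrfl
theorem f135966 : Led Lsl_ct (LP (LK LD1_c1 LD2_c21 LD3_c8)) = (LP (LK LD1_c1 LD2_c52 LD3_c30)) :=
  Lgr Lrot64 (Lpr_bt (f56770 IH) (Lpr_gf (f119838 IH) (Lpe (f119853 IH) (Lpr_ct (K4.f56783 IH) (Lpe (f56782 IH) (Lpe (K4.f56781 IH) (Lpe (f56766 IH) (Lpe (f56767 IH) (Lpr_ct (f56768 IH) (Lpr_gf (f135942 IH) (Lpn (LP (LK LD1_c1 LD2_c52 LD3_c30)))))))))))))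
theorem f12706 : Led Lsl_bt (LP (LK LD1_c0 LD2_c1 LD3_c60)) = (LP (LK LD1_c0 LD2_c4 LD3_c19)) :=
  Lre_b IH (LK LD1_c0 LD2_c1 LD3_c60) (LK LD1_c0 LD2_c4 LD3_c19) Lrfl Lrfl
theorem f8319 : Led Lsl_bt (LP (LK LD1_c0 LD2_c7 LD3_c33)) = (LP (LK LD1_c0 LD2_c16 LD3_c57)) :=
  Lre_b IH (LK LD1_c0 LD2_c7 LD3_c33) (LK LD1_c0 LD2_c16 LD3_c57) Lrfl Lrfl
theorem f8320 : Led Lsl_gt (LP (LK LD1_c0 LD2_c16 LD3_c57)) = (LP (LK LD1_c0 LD2_c37 LD3_c54)) :=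
  Lre_g IH (LK LD1_c0 LD2_c16 LD3_c57) (LK LD1_c0 LD2_c37 LD3_c54) Lrfl Lrfl
theorem f136246 : Led Lsl_df (LP (LK LD1_c1 LD2_c21 LD3_c8)) = (LP (LK LD1_c0 LD2_c37 LD3_c54)) :=
  Lgr Lrot183 (Lpr_ct (f135966 IH) (Lpr_bt (K5.f20838 IH) (Lpr_gt (K2.f20837 IH) (Lpr_dt (K2.f20836 IH) (Lpr_ct (K1.f11855 IH) (Lpr_bt (K0.f11251 IH) (Lpr_gt (K0.f11511 IH) (Lpr_dt (K0.f12699 IH) (Lpr_ct (K0.f12683 IH) (Lpr_bt (f12706 IH) (Lpe (K0.f20831 IH) (Lpr_dt (K0.f7341 IH) (Lpe (K0.f26724 IH) (Lpr_bt (K0.f26728 IH) (Lpr_gt (K0.f11015 IH) (Lpe (K0.f8305 IH) (Lpr_ct (K0.f8307 IH) (Lpr_bt (f8319 IH) (Lpr_gt (f8320 IH) (Lpn (LP (LK LD1_c0 LD2_c37 LD3_c54))))))))))))))))))))))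
theorem f65772 : Led Lsl_df (LP (LK LD1_c3 LD2_c15 LD3_c48)) = (LP (LK LD1_c1 LD2_c52 LD3_c30)) :=
  Lgr Lrot12 (Lpr_bt (K4.f65771 IH) (Lpr_dt (K2.f65708 IH) (Lpr_bt (f65713 IH) (Lpn (LP (LK LD1_c1 LD2_c52 LD3_c30))))))
theorem f8371 : Led Lsl_ct (LP (LK LD1_c1 LD2_c21 LD3_c54)) = (LP (LK LD1_c0 LD2_c37 LD3_c54)) :=
  Lre_c IH (LK LD1_c1 LD2_c21 LD3_c54) (LK LD1_c0 LD2_c37 LD3_c54) Lrfl Lrfl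
theorem f8363 : Led Lsl_dt (LP (LK LD1_c2 LD2_c51 LD3_c43)) = (LP (LK LD1_c1 LD2_c21 LD3_c54)) :=
  Lre_d IH (LK LD1_c2 LD2_c51 LD3_c43) (LK LD1_c1 LD2_c21 LD3_c54) Lrfl Lrfl
theorem f136255 : Led Lsl_ct (LP (LK LD1_c2 LD2_c50 LD3_c14)) = (LP (LK LD1_c2 LD2_c51 LD3_c43)) :=
  Lgr Lrot133 (Lpe (K5.f130150 IH) (Lpr_ft (K4.f103743 IH) (Lpr_at (K4.f65933 IH) (Lpe (K4.f65936 IH) (Lpr_df (f65772 IH) (Lpe (f135966 IH) (Lpr_df (f136246 IH) (Lpe (f8371 IH) (Lpe (f8363 IH) (Lpn (LP (LK LD1_c2 LD2_c51 LD3_c43))))))))))))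
theorem f8362 : Led Lsl_ct (LP (LK LD1_c0 LD2_c37 LD3_c54)) = (LP (LK LD1_c1 LD2_c21 LD3_c54)) :=
  Lre_c IH (LK LD1_c0 LD2_c37 LD3_c54) (LK LD1_c1 LD2_c21 LD3_c54) Lrfl Lrfl
theorem f8339 : Led Lsl_bt (LP (LK LD1_c0 LD2_c16 LD3_c57)) = (LP (LK LD1_c0 LD2_c7 LD3_c33)) :=
  Lre_b IH (LK LD1_c0 LD2_c16 LD3_c57) (LK LD1_c0 LD2_c7 LD3_c33) Lrfl Lrfl
theorem f8340 : Led Lsl_ct (LP (LK LD1_c0 LD2_c16 LD3_c57)) = (LP (LK LD1_c0 LD2_c16 LD3_c57)) :=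
  Lgr Lrot83 (Lpe (f8319 IH) (Lpe (K0.f8307 IH) (Lpr_bf (K1.f8324 IH) (Lpe (K0.f8316 IH) (Lpe (f8339 IH) (Lpn (LP (LK LD1_c0 LD2_c16 LD3_c57))))))))
theorem f8361 : Led Lsl_gt (LP (LK LD1_c0 LD2_c37 LD3_c55)) = (LP (LK LD1_c0 LD2_c16 LD3_c57)) :=
  Lre_g IH (LK LD1_c0 LD2_c37 LD3_c55) (LK LD1_c0 LD2_c16 LD3_c57) Lrfl Lrfl
theorem f136269 : Led Lsl_df (LP (LK LD1_c1 LD2_c21 LD3_c9)) = (LP (LK LD1_c0 LD2_c37 LD3_c55)) :=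
  Lgr Lrot155 (Lpr_gt (f56755 IH) (Lpr_ct (f56676 IH) (Lpr_gt (K5.f56814 IH) (Lpr_ct (f136255 IH) (Lpr_dt (f8363 IH) (Lpe (f8362 IH) (Lpe (f8320 IH) (Lpe (f8340 IH) (Lpe (f8361 IH) (Lpn (LP (LK LD1_c0 LD2_c37 LD3_c55))))))))))))
theorem f8364 : Led Lsl_ct (LP (LK LD1_c1 LD2_c21 LD3_c57)) = (LP (LK LD1_c0 LD2_c37 LD3_c55)) :=
  Lre_c IH (LK LD1_c1 LD2_c21 LD3_c57) (LK LD1_c0 LD2_c37 LD3_c55) Lrfl Lrfl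
theorem f135922 : Led Lsl_dt (LP (LK LD1_c2 LD2_c51 LD3_c47)) = (LP (LK LD1_c1 LD2_c21 LD3_c57)) :=
  Lre_d IH (LK LD1_c2 LD2_c51 LD3_c47) (LK LD1_c1 LD2_c21 LD3_c57) Lrfl Lrfl
theorem f136307 : Led Lsl_ct (LP (LK LD1_c2 LD2_c50 LD3_c15)) = (LP (LK LD1_c2 LD2_c51 LD3_c47)) :=
  Lgr Lrot176 (Lpe (K5.f130193 IH) (Lpe (K4.f65936 IH) (Lpr_df (f65772 IH) (Lpe (f135966 IH) (Lpr_df (f136246 IH) (Lpe (f8371 IH) (Lpe (f8363 IH) (Lpe (f136255 IH) (Lpe (K5.f130150 IH) (Lpe (K4.f115835 IH) (Lpr_df (f135925 IH) (Lpe (f56828 IH) (Lpr_df (f136269 IH) (Lpe (f8364 IH) (Lpe (f135922 IH) (Lpn (LP (LK LD1_c2 LD2_c51 LD3_c47))))))))))))))))))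
theorem f136320 : Led Lsl_ff (LP (LK LD1_c2 LD2_c53 LD3_c2)) = (LP (LK LD1_c2 LD2_c51 LD3_c47)) :=
  Lgr Lrot23 (Lpr_ct (K5.f94980 IH) (Lpr_ft (K5.f130196 IH) (Lpr_ct (f136307 IH) (Lpn (LP (LK LD1_c2 LD2_c51 LD3_c47))))))
theorem f136328 : Led Lsl_at (LP (LK LD1_c2 LD2_c53 LD3_c2)) = (LP (LK LD1_c2 LD2_c51 LD3_c43)) :=
  Lgr Lrot33 (Lpr_ff (f136320 IH) (Lpr_dt (f135922 IH) (Lpr_ct (f8364 IH) (Lpe (f136269 IH) (Lpr_ct (f56828 IH) (Lpe (f135925 IH) (Lpr_ct (K4.f115835 IH) (Lpr_dt (K5.f130150 IH) (Lpr_ct (f136255 IH) (Lpn (LP (LK LD1_c2 LD2_c51 LD3_c43))))))))))))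
theorem f130111 : Led Lsl_bt (LP (LK LD1_c2 LD2_c50 LD3_c14)) = (LP (LK LD1_c5 LD2_c48 LD3_c18)) :=
  Lre_b IH (LK LD1_c2 LD2_c50 LD3_c14) (LK LD1_c5 LD2_c48 LD3_c18) Lrfl Lrfl
theorem f88232 : Led Lsl_ct (LP (LK LD1_c3 LD2_c45 LD3_c61)) = (LP (LK LD1_c7 LD2_c32 LD3_c51)) :=
  Lre_c IH (LK LD1_c3 LD2_c45 LD3_c61) (LK LD1_c7 LD2_c32 LD3_c51) Lrfl Lrfl
theorem f88426 : Led Lsl_gt (LP (LK LD1_c7 LD2_c32 LD3_c51)) = (LP (LK LD1_c14 LD2_c13 LD3_c49)) :=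
  Lre_g IH (LK LD1_c7 LD2_c32 LD3_c51) (LK LD1_c14 LD2_c13 LD3_c49) Lrfl Lrfl
theorem f96310 : Led Lsl_at (LP (LK LD1_c6 LD2_c53 LD3_c59)) = (LP (LK LD1_c3 LD2_c26 LD3_c4)) :=
  Lre_a IH (LK LD1_c6 LD2_c53 LD3_c59) (LK LD1_c3 LD2_c26 LD3_c4) Lrfl Lrfl
theorem f130114 : Led Lsl_ff (LP (LK LD1_c6 LD2_c53 LD3_c59)) = (LP (LK LD1_c5 LD2_c48 LD3_c18)) :=
  Lgr Lrot52 (Lpr_at (f96310 IH) (Lpe (K5.f96306 IH) (Lpr_gf (K5.f130109 IH) (Lpn (LP (LK LD1_c5 LD2_c48 LD3_c18))))))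
theorem f130216 : Led Lsl_bf (LP (LK LD1_c4 LD2_c34 LD3_c31)) = (LP (LK LD1_c6 LD2_c53 LD3_c59)) :=
  Lgr Lrot61 (Lpr_ft (K5.f130214 IH) (Lpr_bt (f130111 IH) (Lpe (f130114 IH) (Lpn (LP (LK LD1_c6 LD2_c53 LD3_c59))))))
theorem f111046 : Led Lsl_bt (LP (LK LD1_c6 LD2_c49 LD3_c60)) = (LP (LK LD1_c3 LD2_c23 LD3_c20)) :=
  Lre_b IH (LK LD1_c6 LD2_c49 LD3_c60) (LK LD1_c3 LD2_c23 LD3_c20) Lrfl Lrfl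
theorem f93278 : Led Lsl_ct (LP (LK LD1_c6 LD2_c49 LD3_c60)) = (LP (LK LD1_c3 LD2_c23 LD3_c22)) :=
  Lre_c IH (LK LD1_c6 LD2_c49 LD3_c60) (LK LD1_c3 LD2_c23 LD3_c22) Lrfl Lrfl
theorem f130228 : Led Lsl_gt (LP (LK LD1_c6 LD2_c50 LD3_c3)) = (LP (LK LD1_c3 LD2_c23 LD3_c22)) :=
  Lre_g IH (LK LD1_c6 LD2_c50 LD3_c3) (LK LD1_c3 LD2_c23 LD3_c22) Lrfl Lrfl
theorem f130229 : Led Lsl_cf (LP (LK LD1_c6 LD2_c50 LD3_c3)) = (LP (LK LD1_c6 LD2_c53 LD3_c59)) :=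
  Lgr Lrot160 (Lpr_gt (f130228 IH) (Lpe (f93278 IH) (Lpr_bt (f111046 IH) (Lpr_gt (K3.f104198 IH) (Lpr_ct (K3.f78115 IH) (Lpr_gt (K2.f78109 IH) (Lpe (K3.f11011 IH) (Lpe (f92177 IH) (Lpr_gt (K5.f92059 IH) (Lpr_bf (f130216 IH) (Lpn (LP (LK LD1_c6 LD2_c53 LD3_c59)))))))))))))
theorem f130104 : Led Lsl_ct (LP (LK LD1_c11 LD2_c26 LD3_c5)) = (LP (LK LD1_c5 LD2_c48 LD3_c18)) :=
  Lre_c IH (LK LD1_c11 LD2_c26 LD3_c5) (LK LD1_c5 LD2_c48 LD3_c18) Lrfl Lrfl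
theorem f130238 : Led Lsl_ft (LP (LK LD1_c6 LD2_c50 LD3_c3)) = (LP (LK LD1_c11 LD2_c26 LD3_c5)) :=
  Lgr Lrot4 (Lpr_cf (f130229 IH) (Lpr_ff (f130114 IH) (Lpe (f130104 IH) (Lpn (LP (LK LD1_c11 LD2_c26 LD3_c5))))))
theorem f83916 : Led Lsl_gt (LP (LK LD1_c3 LD2_c23 LD3_c22)) = (LP (LK LD1_c6 LD2_c50 LD3_c2)) :=
  Lre_g IH (LK LD1_c3 LD2_c23 LD3_c22) (LK LD1_c6 LD2_c50 LD3_c2) Lrfl Lrfl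
theorem f130243 : Led Lsl_af (LP (LK LD1_c6 LD2_c50 LD3_c2)) = (LP (LK LD1_c11 LD2_c26 LD3_c5)) :=
  Lgr Lrot31 (Lpe (f83916 IH) (Lpe (f130228 IH) (Lpr_ft (f130238 IH) (Lpn (LP (LK LD1_c11 LD2_c26 LD3_c5))))))
theorem f102487 : Led Lsl_bt (LP (LK LD1_c6 LD2_c51 LD3_c46)) = (LP (LK LD1_c3 LD2_c24 LD3_c39)) :=
  Lre_b IH (LK LD1_c6 LD2_c51 LD3_c46) (LK LD1_c3 LD2_c24 LD3_c39) Lrfl Lrfl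
theorem f102488 : Led Lsl_ft (LP (LK LD1_c3 LD2_c26 LD3_c4)) = (LP (LK LD1_c6 LD2_c51 LD3_c46)) :=
  Lgr Lrot75 (Lpe (K5.f94697 IH) (Lpr_ff (K4.f102485 IH) (Lpe (f102487 IH) (Lpn (LP (LK LD1_c6 LD2_c51 LD3_c46))))))
theorem f130107 : Led Lsl_at (LP (LK LD1_c6 LD2_c51 LD3_c46)) = (LP (LK LD1_c5 LD2_c48 LD3_c18)) :=
  Lgr Lrot26 (Lpe (f102488 IH) (Lpr_gt (K5.f94698 IH) (Lpr_gt (K5.f130105 IH) (Lpn (LP (LK LD1_c5 LD2_c48 LD3_c18))))))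
theorem f130248 : Led Lsl_ct (LP (LK LD1_c6 LD2_c50 LD3_c2)) = (LP (LK LD1_c6 LD2_c51 LD3_c46)) :=
  Lgr Lrot111 (Lpr_af (f130243 IH) (Lpe (K5.f57529 IH) (Lpe (f130107 IH) (Lpn (LP (LK LD1_c6 LD2_c51 LD3_c46))))))
theorem f93279 : Led Lsl_gt (LP (LK LD1_c13 LD2_c1 LD3_c15)) = (LP (LK LD1_c6 LD2_c49 LD3_c60)) :=
  Lre_g IH (LK LD1_c13 LD2_c1 LD3_c15) (LK LD1_c6 LD2_c49 LD3_c60) Lrfl Lrfl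
theorem f12827 : Led Lsl_dt (LP (LK LD1_c6 LD2_c51 LD3_c46)) = (LP (LK LD1_c3 LD2_c24 LD3_c38)) :=
  Lre_d IH (LK LD1_c6 LD2_c51 LD3_c46) (LK LD1_c3 LD2_c24 LD3_c38) Lrfl Lrfl
theorem f130257 : Led Lsl_df (LP (LK LD1_c13 LD2_c1 LD3_c15)) = (LP (LK LD1_c7 LD2_c28 LD3_c27)) :=
  Lgr Lrot155 (Lpr_gt (f93279 IH) (Lpr_ct (f93278 IH) (Lpr_gt (f83916 IH) (Lpr_ct (f130248 IH) (Lpr_dt (f12827 IH) (Lpe (K4.f12772 IH) (Lpe (K4.f12829 IH) (Lpe (K4.f108898 IH) (Lpr_gf (K5.f123601 IH) (Lpn (LP (LK LD1_c7 LD2_c28 LD3_c27))))))))))))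
theorem f130122 : Led Lsl_df (LP (LK LD1_c3 LD2_c45 LD3_c45)) = (LP (LK LD1_c5 LD2_c48 LD3_c18)) :=
  Lgr Lrot38 (Lpr_dt (K5.f130116 IH) (Lpn (LP (LK LD1_c5 LD2_c48 LD3_c18))))
theorem f130306 : Led Lsl_cf (LP (LK LD1_c13 LD2_c1 LD3_c15)) = (LP (LK LD1_c14 LD2_c13 LD3_c49)) :=
  Lgr Lrot99 (Lpr_df (f130257 IH) (Lpe (K5.f123600 IH) (Lpe (K5.f123599 IH) (Lpe (K5.f123578 IH) (Lpe (K4.f103648 IH) (Lpr_df (f130122 IH) (Lpe (K5.f130109 IH) (Lpr_ct (f88232 IH) (Lpr_gt (f88426 IH) (Lpn (LP (LK LD1_c14 LD2_c13 LD3_c49))))))))))))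
theorem f130308 : Led Lsl_ct (LP (LK LD1_c13 LD2_c1 LD3_c15)) = (LP (LK LD1_c14 LD2_c13 LD3_c49)) :=
  Lgr Lrot59 (Lpr_cf (f130306 IH) (Lpn (LP (LK LD1_c14 LD2_c13 LD3_c49))))
theorem f18023 : Led Lsl_bt (LP (LK LD1_c0 LD2_c49 LD3_c51)) = (LP (LK LD1_c1 LD2_c46 LD3_c11)) :=
  Lre_b IH (LK LD1_c0 LD2_c49 LD3_c51) (LK LD1_c1 LD2_c46 LD3_c11) Lrfl Lrfl
theorem f97500 : Led Lsl_bt (LP (LK LD1_c3 LD2_c29 LD3_c38)) = (LP (LK LD1_c3 LD2_c24 LD3_c33)) :=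
  Lgr Lrot128 (Lpr_cf (K3.f97467 IH) (Lpe (f18023 IH) (Lpe (K1.f18018 IH) (Lpe (K1.f17670 IH) (Lpr_cf (K2.f91220 IH) (Lpn (LP (LK LD1_c3 LD2_c24 LD3_c33))))))))
theorem f97502 : Led Lsl_ct (LP (LK LD1_c3 LD2_c29 LD3_c38)) = (LP (LK LD1_c1 LD2_c46 LD3_c11)) :=
  Lgr Lrot59 (Lpr_cf (K3.f97467 IH) (Lpn (LP (LK LD1_c1 LD2_c46 LD3_c11))))
theorem f18026 : Led Lsl_gt (LP (LK LD1_c1 LD2_c46 LD3_c11)) = (LP (LK LD1_c3 LD2_c38 LD3_c24)) :=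
  Lre_g IH (LK LD1_c1 LD2_c46 LD3_c11) (LK LD1_c3 LD2_c38 LD3_c24) Lrfl Lrfl
theorem f108909 : Led Lsl_ct (LP (LK LD1_c7 LD2_c17 LD3_c6)) = (LP (LK LD1_c3 LD2_c38 LD3_c24)) :=
  Lre_c IH (LK LD1_c7 LD2_c17 LD3_c6) (LK LD1_c3 LD2_c38 LD3_c24) Lrfl Lrfl
theorem f123609 : Led Lsl_bt (LP (LK LD1_c7 LD2_c17 LD3_c6)) = (LP (LK LD1_c7 LD2_c28 LD3_c27)) :=
  Lgr Lrot130 (Lpr_ct (f108909 IH) (Lpe (f18026 IH) (Lpe (f97502 IH) (Lpr_bt (f97500 IH) (Lpe (K2.f91138 IH) (Lpe (K4.f12771 IH) (Lpe (K4.f12812 IH) (Lpe (K4.f12829 IH) (Lpe (K4.f108898 IH) (Lpr_gf (K5.f123601 IH) (Lpn (LP (LK LD1_c7 LD2_c28 LD3_c27)))))))))))))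
theorem f109551 : Led Lsl_dt (LP (LK LD1_c13 LD2_c47 LD3_c3)) = (LP (LK LD1_c7 LD2_c17 LD3_c6)) :=
  Lre_d IH (LK LD1_c13 LD2_c47 LD3_c3) (LK LD1_c7 LD2_c17 LD3_c6) Lrfl Lrfl
theorem f130303 : Led Lsl_bt (LP (LK LD1_c13 LD2_c1 LD3_c15)) = (LP (LK LD1_c13 LD2_c47 LD3_c3)) :=
  Lgr Lrot95 (Lpr_df (f130257 IH) (Lpe (f123609 IH) (Lpe (f109551 IH) (Lpn (LP (LK LD1_c13 LD2_c47 LD3_c3))))))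
theorem f130400 : Led Lsl_gt (LP (LK LD1_c13 LD2_c47 LD3_c3)) = (LP (LK LD1_c9 LD2_c30 LD3_c10)) :=
  Lgr Lrot82 (Lpe (f130303 IH) (Lpr_ct (f130308 IH) (Lpe (f88426 IH) (Lpe (f88232 IH) (Lpr_bt (K5.f88231 IH) (Lpe (K3.f88292 IH) (Lpe (K3.f88294 IH) (Lpr_ct (K3.f65225 IH) (Lpe (K3.f109909 IH) (Lpe (K3.f103175 IH) (Lpn (LP (LK LD1_c9 LD2_c30 LD3_c10)))))))))))))
theorem f136271 : Led Lsl_gt (LP (LK LD1_c2 LD2_c22 LD3_c18)) = (LP (LK LD1_c2 LD2_c51 LD3_c43)) :=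
  Lgr Lrot65 (Lpe (K3.f26573 IH) (Lpr_bt (K3.f109398 IH) (Lpe (f130400 IH) (Lpe (f130303 IH) (Lpr_ct (f130308 IH) (Lpe (f88426 IH) (Lpe (f88232 IH) (Lpr_gf (K5.f130109 IH) (Lpe (f130111 IH) (Lpr_ct (f136255 IH) (Lpn (LP (LK LD1_c2 LD2_c51 LD3_c43)))))))))))))
theorem f136334 : Led Lsl_gt (LP (LK LD1_c2 LD2_c51 LD3_c47)) = (LP (LK LD1_c2 LD2_c22 LD3_c18)) :=
  Lgr Lrot5 (Lpe (f136320 IH) (Lpr_at (f136328 IH) (Lpe (f136271 IH) (Lpn (LP (LK LD1_c2 LD2_c22 LD3_c18))))))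
theorem f136336 : Led Lsl_ct (LP (LK LD1_c1 LD2_c52 LD3_c6)) = (LP (LK LD1_c3 LD2_c47 LD3_c15)) :=
  Lgr Lrot110 (Lpe (f12296 IH) (Lpe (K1.f12201 IH) (Lpe (K1.f12330 IH) (Lpe (f135865 IH) (Lpr_gt (f135860 IH) (Lpr_ct (f136307 IH) (Lpr_gt (f136334 IH) (Lpr_ct (K3.f109410 IH) (Lpr_df (K3.f109396 IH) (Lpn (LP (LK LD1_c3 LD2_c47 LD3_c15))))))))))))
theorem f136340 : Led Lsl_cf (LP (LK LD1_c1 LD2_c52 LD3_c6)) = (LP (LK LD1_c3 LD2_c47 LD3_c15)) :=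
  Lgr Lrot11 (Lpr_ct (f136336 IH) (Lpn (LP (LK LD1_c3 LD2_c47 LD3_c15))))
theorem f127935 : Led Lsl_bt (LP (LK LD1_c3 LD2_c26 LD3_c29)) = (LP (LK LD1_c3 LD2_c48 LD3_c26)) :=
  Lgr Lrot62 (Lpe (K5.f15212 IH) (Lpe (K3.f12058 IH) (Lpe (K5.f125876 IH) (Lpe (K4.f120966 IH) (Lpr_af (K5.f127931 IH) (Lpn (LP (LK LD1_c3 LD2_c48 LD3_c26))))))))
theorem f15208 : Led Lsl_ct (LP (LK LD1_c3 LD2_c26 LD3_c29)) = (LP (LK LD1_c3 LD2_c47 LD3_c17)) :=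
  Lgr Lrot59 (Lpr_cf (K5.f15199 IH) (Lpn (LP (LK LD1_c3 LD2_c47 LD3_c17))))
theorem f136920 : Led Lsl_gt (LP (LK LD1_c1 LD2_c52 LD3_c6)) = (LP (LK LD1_c3 LD2_c47 LD3_c17)) :=
  Lgr Lrot149 (Lpr_cf (f136340 IH) (Lpe (K3.f15090 IH) (Lpe (K3.f15078 IH) (Lpe (K3.f15081 IH) (Lpe (K3.f110214 IH) (Lpr_cf (K3.f110225 IH) (Lpr_bt (K5.f88230 IH) (Lpe (K5.f88234 IH) (Lpe (f127935 IH) (Lpr_ct (f15208 IH) (Lpn (LP (LK LD1_c3 LD2_c47 LD3_c17)))))))))))))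
theorem f56805 : Led Lsl_ct (LP (LK LD1_c2 LD2_c50 LD3_c12)) = (LP (LK LD1_c1 LD2_c21 LD3_c9)) :=
  Lre_c IH (LK LD1_c2 LD2_c50 LD3_c12) (LK LD1_c1 LD2_c21 LD3_c9) Lrfl Lrfl
theorem f136922 : Led Lsl_gf (LP (LK LD1_c3 LD2_c50 LD3_c29)) = (LP (LK LD1_c3 LD2_c26 LD3_c29)) :=
  Lgr Lrot104 (Lpe (f64335 IH) (Lpe (f57466 IH) (Lpe (f56676 IH) (Lpe (f56755 IH) (Lpe (f56805 IH) (Lpe (f135935 IH) (Lpr_df (f124191 IH) (Lpr_gt (f136920 IH) (Lpe (K5.f15199 IH) (Lpn (LP (LK LD1_c3 LD2_c26 LD3_c29))))))))))))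
theorem f135882 : Led Lsl_df (LP (LK LD1_c4 LD2_c34 LD3_c25)) = (LP (LK LD1_c3 LD2_c50 LD3_c29)) :=
  Lgr Lrot38 (Lpr_dt (f135865 IH) (Lpn (LP (LK LD1_c3 LD2_c50 LD3_c29))))
theorem f135899 : Led Lsl_gf (LP (LK LD1_c1 LD2_c4 LD3_c9)) = (LP (LK LD1_c0 LD2_c37 LD3_c25)) :=
  Lgr Lrot47 (Lpr_gt (f135897 IH) (Lpe (K5.f132325 IH) (Lpr_ff (K5.f117825 IH) (Lpn (LP (LK LD1_c0 LD2_c37 LD3_c25))))))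
theorem f66374 : Led Lsl_dt (LP (LK LD1_c1 LD2_c21 LD3_c1)) = (LP (LK LD1_c0 LD2_c37 LD3_c25)) :=
  Lre_d IH (LK LD1_c1 LD2_c21 LD3_c1) (LK LD1_c0 LD2_c37 LD3_c25) Lrfl Lrfl
theorem f66284 : Led Lsl_ft (LP (LK LD1_c6 LD2_c36 LD3_c47)) = (LP (LK LD1_c12 LD2_c39 LD3_c23)) :=
  Lre_f IH (LK LD1_c6 LD2_c36 LD3_c47) (LK LD1_c12 LD2_c39 LD3_c23) Lrfl Lrfl
theorem f66285 : Led Lsl_ft (LP (LK LD1_c11 LD2_c25 LD3_c17)) = (LP (LK LD1_c5 LD2_c47 LD3_c46)) :=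
  Lre_f IH (LK LD1_c11 LD2_c25 LD3_c17) (LK LD1_c5 LD2_c47 LD3_c46) Lrfl Lrfl
theorem f66286 : Led Lsl_ct (LP (LK LD1_c12 LD2_c39 LD3_c23)) = (LP (LK LD1_c11 LD2_c25 LD3_c17)) :=
  Lgr Lrot40 (Lpe (f66284 IH) (Lpr_cf (K4.f66267 IH) (Lpe (f66285 IH) (Lpn (LP (LK LD1_c11 LD2_c25 LD3_c17))))))
theorem f66299 : Led Lsl_cf (LP (LK LD1_c12 LD2_c39 LD3_c23)) = (LP (LK LD1_c11 LD2_c25 LD3_c17)) :=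
  Lgr Lrot11 (Lpr_ct (f66286 IH) (Lpn (LP (LK LD1_c11 LD2_c25 LD3_c17))))
theorem f66241 : Led Lsl_bt (LP (LK LD1_c3 LD2_c50 LD3_c42)) = (LP (LK LD1_c7 LD2_c42 LD3_c13)) :=
  Lre_b IH (LK LD1_c3 LD2_c50 LD3_c42) (LK LD1_c7 LD2_c42 LD3_c13) Lrfl Lrfl
theorem f66304 : Led Lsl_bt (LP (LK LD1_c5 LD2_c47 LD3_c50)) = (LP (LK LD1_c11 LD2_c25 LD3_c17)) :=
  Lre_b IH (LK LD1_c5 LD2_c47 LD3_c50) (LK LD1_c11 LD2_c25 LD3_c17) Lrfl Lrfl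
theorem f66305 : Led Lsl_ct (LP (LK LD1_c7 LD2_c42 LD3_c13)) = (LP (LK LD1_c5 LD2_c47 LD3_c50)) :=
  Lgr Lrot83 (Lpe (f66241 IH) (Lpe (K3.f66234 IH) (Lpe (K4.f66242 IH) (Lpr_cf (f66299 IH) (Lpe (f66304 IH) (Lpn (LP (LK LD1_c5 LD2_c47 LD3_c50))))))))
theorem f66311 : Led Lsl_ft (LP (LK LD1_c3 LD2_c50 LD3_c34)) = (LP (LK LD1_c7 LD2_c42 LD3_c13)) :=
  Lre_f IH (LK LD1_c3 LD2_c50 LD3_c34) (LK LD1_c7 LD2_c42 LD3_c13) Lrfl Lrfl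
theorem f66312 : Led Lsl_ft (LP (LK LD1_c5 LD2_c47 LD3_c50)) = (LP (LK LD1_c2 LD2_c49 LD3_c56)) :=
  Lre_f IH (LK LD1_c5 LD2_c47 LD3_c50) (LK LD1_c2 LD2_c49 LD3_c56) Lrfl Lrfl
theorem f66313 : Led Lsl_cf (LP (LK LD1_c3 LD2_c50 LD3_c34)) = (LP (LK LD1_c2 LD2_c49 LD3_c56)) :=
  Lgr Lrot108 (Lpr_ft (f66311 IH) (Lpr_ct (f66305 IH) (Lpr_ft (f66312 IH) (Lpn (LP (LK LD1_c2 LD2_c49 LD3_c56))))))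
theorem f66318 : Led Lsl_et (LP (LK LD1_c3 LD2_c50 LD3_c34)) = (LP (LK LD1_c1 LD2_c52 LD3_c10)) :=
  Lre_e IH (LK LD1_c3 LD2_c50 LD3_c34) (LK LD1_c1 LD2_c52 LD3_c10) Lrfl Lrfl
theorem f66319 : Led Lsl_et (LP (LK LD1_c1 LD2_c21 LD3_c1)) = (LP (LK LD1_c2 LD2_c49 LD3_c56)) :=
  Lre_e IH (LK LD1_c1 LD2_c21 LD3_c1) (LK LD1_c2 LD2_c49 LD3_c56) Lrfl Lrfl
theorem f66320 : Led Lsl_ct (LP (LK LD1_c1 LD2_c52 LD3_c10)) = (LP (LK LD1_c1 LD2_c21 LD3_c1)) :=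
  Lgr Lrot15 (Lpe (f66318 IH) (Lpr_cf (f66313 IH) (Lpe (f66319 IH) (Lpn (LP (LK LD1_c1 LD2_c21 LD3_c1))))))
theorem f20403 : Led Lsl_ct (LP (LK LD1_c1 LD2_c4 LD3_c23)) = (LP (LK LD1_c2 LD2_c14 LD3_c32)) :=
  Lre_c IH (LK LD1_c1 LD2_c4 LD3_c23) (LK LD1_c2 LD2_c14 LD3_c32) Lrfl Lrfl
theorem f25193 : Led Lsl_bf (LP (LK LD1_c1 LD2_c7 LD3_c19)) = (LP (LK LD1_c2 LD2_c14 LD3_c32)) :=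
  Lgr Lrot90 (Lpr_ct (K4.f25191 IH) (Lpr_bt (K4.f25190 IH) (Lpr_ct (K2.f25182 IH) (Lpr_bt (f25192 IH) (Lpr_ct (f20403 IH) (Lpn (LP (LK LD1_c2 LD2_c14 LD3_c32))))))))
theorem f20401 : Led Lsl_ct (LP (LK LD1_c2 LD2_c14 LD3_c32)) = (LP (LK LD1_c1 LD2_c4 LD3_c23)) :=
  Lre_c IH (LK LD1_c2 LD2_c14 LD3_c32) (LK LD1_c1 LD2_c4 LD3_c23) Lrfl Lrfl
theorem f116724 : Led Lsl_gf (LP (LK LD1_c1 LD2_c21 LD3_c1)) = (LP (LK LD1_c1 LD2_c4 LD3_c23)) :=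
  Lgr Lrot126 (Lpe (f66320 IH) (Lpr_bt (K4.f64913 IH) (Lpr_gt (K1.f64905 IH) (Lpr_ct (K1.f63495 IH) (Lpr_gt (K1.f64259 IH) (Lpe (K1.f64603 IH) (Lpr_bt (K4.f64623 IH) (Lpr_gt (K4.f116711 IH) (Lpr_bf (f25193 IH) (Lpr_ct (f20401 IH) (Lpn (LP (LK LD1_c1 LD2_c4 LD3_c23)))))))))))))
theorem f25296 : Led Lsl_gt (LP (LK LD1_c2 LD2_c14 LD3_c32)) = (LP (LK LD1_c4 LD2_c34 LD3_c52)) :=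
  Lre_g IH (LK LD1_c2 LD2_c14 LD3_c32) (LK LD1_c4 LD2_c34 LD3_c52) Lrfl Lrfl
theorem f137230 : Led Lsl_dt (LP (LK LD1_c4 LD2_c34 LD3_c52)) = (LP (LK LD1_c3 LD2_c26 LD3_c29)) :=
  Lgr Lrot57 (Lpe (f25296 IH) (Lpe (f20403 IH) (Lpe (f116724 IH) (Lpr_dt (f66374 IH) (Lpe (f135899 IH) (Lpr_dt (f135868 IH) (Lpe (f135834 IH) (Lpr_df (f135882 IH) (Lpr_gf (f136922 IH) (Lpn (LP (LK LD1_c3 LD2_c26 LD3_c29))))))))))))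
theorem f137238 : Led Lsl_af (LP (LK LD1_c4 LD2_c34 LD3_c52)) = (LP (LK LD1_c2 LD2_c51 LD3_c57)) :=
  Lgr Lrot117 (Lpr_dt (f137230 IH) (Lpr_at (K5.f15197 IH) (Lpe (K4.f112181 IH) (Lpn (LP (LK LD1_c2 LD2_c51 LD3_c57))))))
theorem f112119 : Led Lsl_dt (LP (LK LD1_c2 LD2_c51 LD3_c57)) = (LP (LK LD1_c1 LD2_c39 LD3_c56)) :=
  Lgr Lrot79 (Lpr_bf (K4.f112113 IH) (Lpe (K2.f90985 IH) (Lpe (K3.f15077 IH) (Lpn (LP (LK LD1_c1 LD2_c39 LD3_c56))))))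
theorem f132296 : Led Lsl_ft (LP (LK LD1_c3 LD2_c50 LD3_c30)) = (LP (LK LD1_c2 LD2_c51 LD3_c57)) :=
  Lgr Lrot54 (Lpe (K5.f12283 IH) (Lpr_ff (K5.f132289 IH) (Lpe (f112119 IH) (Lpn (LP (LK LD1_c2 LD2_c51 LD3_c57))))))
theorem f137300 : Led Lsl_gf (LP (LK LD1_c2 LD2_c14 LD3_c32)) = (LP (LK LD1_c3 LD2_c50 LD3_c30)) :=
  Lgr Lrot47 (Lpr_gt (f25296 IH) (Lpr_af (f137238 IH) (Lpe (f132296 IH) (Lpn (LP (LK LD1_c3 LD2_c50 LD3_c30))))))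
theorem f25293 : Led Lsl_bt (LP (LK LD1_c1 LD2_c4 LD3_c23)) = (LP (LK LD1_c0 LD2_c29 LD3_c28)) :=
  Lre_b IH (LK LD1_c1 LD2_c4 LD3_c23) (LK LD1_c0 LD2_c29 LD3_c28) Lrfl Lrfl
theorem f60919 : Led Lsl_dt (LP (LK LD1_c0 LD2_c37 LD3_c21)) = (LP (LK LD1_c0 LD2_c16 LD3_c39)) :=
  Lre_d IH (LK LD1_c0 LD2_c37 LD3_c21) (LK LD1_c0 LD2_c16 LD3_c39) Lrfl Lrfl
theorem f69320 : Led Lsl_gt (LP (LK LD1_c0 LD2_c29 LD3_c28)) = (LP (LK LD1_c0 LD2_c37 LD3_c21)) :=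
  Lgr Lrot49 (Lpe (K2.f25185 IH) (Lpr_gf (K2.f69264 IH) (Lpe (K1.f36619 IH) (Lpe (K1.f59515 IH) (Lpr_dt (K1.f59505 IH) (Lpe (K0.f26738 IH) (Lpr_dt (K1.f60905 IH) (Lpe (K1.f60910 IH) (Lpe (f60919 IH) (Lpn (LP (LK LD1_c0 LD2_c37 LD3_c21))))))))))))
theorem f132316 : Led Lsl_cf (LP (LK LD1_c3 LD2_c50 LD3_c30)) = (LP (LK LD1_c2 LD2_c50 LD3_c0)) :=
  Lgr Lrot11 (Lpr_ct (K5.f132314 IH) (Lpn (LP (LK LD1_c2 LD2_c50 LD3_c0))))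
theorem f137304 : Led Lsl_bf (LP (LK LD1_c1 LD2_c22 LD3_c51)) = (LP (LK LD1_c2 LD2_c50 LD3_c0)) :=
  Lgr Lrot34 (Lpe (K2.f22812 IH) (Lpe (K2.f59463 IH) (Lpr_ct (K1.f37947 IH) (Lpr_gf (K1.f61009 IH) (Lpr_cf (K2.f61214 IH) (Lpe (f69320 IH) (Lpe (f25293 IH) (Lpr_ct (f20403 IH) (Lpr_gf (f137300 IH) (Lpr_cf (f132316 IH) (Lpn (LP (LK LD1_c2 LD2_c50 LD3_c0)))))))))))))
theorem f83797 : Led Lsl_bt (LP (LK LD1_c1 LD2_c28 LD3_c33)) = (LP (LK LD1_c3 LD2_c4 LD3_c52)) :=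
  Lre_b IH (LK LD1_c1 LD2_c28 LD3_c33) (LK LD1_c3 LD2_c4 LD3_c52) Lrfl Lrfl
theorem f137315 : Led Lsl_ft (LP (LK LD1_c1 LD2_c22 LD3_c51)) = (LP (LK LD1_c1 LD2_c28 LD3_c33)) :=
  Lgr Lrot75 (Lpr_bf (f137304 IH) (Lpe (K5.f132387 IH) (Lpe (f83797 IH) (Lpn (LP (LK LD1_c1 LD2_c28 LD3_c33))))))
theorem f26121 : Led Lsl_gt (LP (LK LD1_c3 LD2_c26 LD3_c0)) = (LP (LK LD1_c6 LD2_c53 LD3_c54)) :=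
  Lre_g IH (LK LD1_c3 LD2_c26 LD3_c0) (LK LD1_c6 LD2_c53 LD3_c54) Lrfl Lrfl
theorem f104737 : Led Lsl_dt (LP (LK LD1_c6 LD2_c53 LD3_c54)) = (LP (LK LD1_c4 LD2_c58 LD3_c57)) :=
  Lgr Lrot182 (Lpe (f26121 IH) (Lpe (K3.f26120 IH) (Lpe (K2.f26119 IH) (Lpe (K2.f26118 IH) (Lpe (K3.f13553 IH) (Lpe (K3.f26097 IH) (Lpe (K3.f26090 IH) (Lpr_df (K4.f104734 IH) (Lpe (K2.f26939 IH) (Lpe (K2.f26938 IH) (Lpr_cf (K0.f25729 IH) (Lpe (K0.f26772 IH) (Lpr_gf (K0.f26936 IH) (Lpe (K2.f26765 IH) (Lpr_cf (K2.f72464 IH) (Lpe (K2.f72454 IH) (Lpe (K2.f72439 IH) (Lpe (K2.f72435 IH) (Lpe (K2.f72423 IH) (Lpn (LP (LK LD1_c4 LD2_c58 LD3_c57))))))))))))))))))))))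
theorem f104744 : Led Lsl_df (LP (LK LD1_c6 LD2_c53 LD3_c54)) = (LP (LK LD1_c4 LD2_c58 LD3_c57)) :=
  Lgr Lrot38 (Lpr_dt (f104737 IH) (Lpn (LP (LK LD1_c4 LD2_c58 LD3_c57))))
theorem f99530 : Led Lsl_et (LP (LK LD1_c1 LD2_c10 LD3_c54)) = (LP (LK LD1_c2 LD2_c27 LD3_c23)) :=
  Lre_e IH (LK LD1_c1 LD2_c10 LD3_c54) (LK LD1_c2 LD2_c27 LD3_c23) Lrfl Lrfl
theorem f99506 : Led Lsl_et (LP (LK LD1_c3 LD2_c3 LD3_c24)) = (LP (LK LD1_c1 LD2_c27 LD3_c36)) :=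
  Lre_e IH (LK LD1_c3 LD2_c3 LD3_c24) (LK LD1_c1 LD2_c27 LD3_c36) Lrfl Lrfl
theorem f99531 : Led Lsl_bt (LP (LK LD1_c2 LD2_c27 LD3_c23)) = (LP (LK LD1_c3 LD2_c3 LD3_c24)) :=
  Lgr Lrot119 (Lpe (f99530 IH) (Lpr_bf (K4.f99523 IH) (Lpe (f99506 IH) (Lpn (LP (LK LD1_c3 LD2_c3 LD3_c24))))))
theorem f101713 : Led Lsl_ct (LP (LK LD1_c1 LD2_c10 LD3_c56)) = (LP (LK LD1_c2 LD2_c27 LD3_c23)) :=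
  Lre_c IH (LK LD1_c1 LD2_c10 LD3_c56) (LK LD1_c2 LD2_c27 LD3_c23) Lrfl Lrfl
theorem f101714 : Led Lsl_bt (LP (LK LD1_c2 LD2_c27 LD3_c21)) = (LP (LK LD1_c1 LD2_c10 LD3_c56)) :=
  Lre_b IH (LK LD1_c2 LD2_c27 LD3_c21) (LK LD1_c1 LD2_c10 LD3_c56) Lrfl Lrfl
theorem f101715 : Led Lsl_ct (LP (LK LD1_c4 LD2_c58 LD3_c55)) = (LP (LK LD1_c2 LD2_c27 LD3_c21)) :=
  Lre_c IH (LK LD1_c4 LD2_c58 LD3_c55) (LK LD1_c2 LD2_c27 LD3_c21) Lrfl Lrfl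
theorem f101716 : Led Lsl_ct (LP (LK LD1_c3 LD2_c3 LD3_c24)) = (LP (LK LD1_c6 LD2_c13 LD3_c15)) :=
  Lre_c IH (LK LD1_c3 LD2_c3 LD3_c24) (LK LD1_c6 LD2_c13 LD3_c15) Lrfl Lrfl
theorem f101717 : Led Lsl_bf (LP (LK LD1_c4 LD2_c58 LD3_c55)) = (LP (LK LD1_c6 LD2_c13 LD3_c15)) :=
  Lgr Lrot90 (Lpr_ct (f101715 IH) (Lpr_bt (f101714 IH) (Lpr_ct (f101713 IH) (Lpr_bt (f99531 IH) (Lpr_ct (f101716 IH) (Lpn (LP (LK LD1_c6 LD2_c13 LD3_c15))))))))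
theorem f101722 : Led Lsl_bt (LP (LK LD1_c4 LD2_c58 LD3_c55)) = (LP (LK LD1_c6 LD2_c13 LD3_c15)) :=
  Lgr Lrot127 (Lpr_bf (f101717 IH) (Lpn (LP (LK LD1_c6 LD2_c13 LD3_c15))))
theorem f101742 : Led Lsl_et (LP (LK LD1_c2 LD2_c27 LD3_c19)) = (LP (LK LD1_c4 LD2_c58 LD3_c55)) :=
  Lre_e IH (LK LD1_c2 LD2_c27 LD3_c19) (LK LD1_c4 LD2_c58 LD3_c55) Lrfl Lrfl
theorem f99542 : Led Lsl_et (LP (LK LD1_c6 LD2_c13 LD3_c15)) = (LP (LK LD1_c3 LD2_c3 LD3_c23)) :=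
  Lre_e IH (LK LD1_c6 LD2_c13 LD3_c15) (LK LD1_c3 LD2_c3 LD3_c23) Lrfl Lrfl
theorem f101743 : Led Lsl_bf (LP (LK LD1_c2 LD2_c27 LD3_c19)) = (LP (LK LD1_c3 LD2_c3 LD3_c23)) :=
  Lgr Lrot96 (Lpr_et (f101742 IH) (Lpr_bt (f101722 IH) (Lpr_et (f99542 IH) (Lpn (LP (LK LD1_c3 LD2_c3 LD3_c23))))))
theorem f72251 : Led Lsl_ct (LP (LK LD1_c3 LD2_c3 LD3_c23)) = (LP (LK LD1_c1 LD2_c27 LD3_c36)) :=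
  Lre_c IH (LK LD1_c3 LD2_c3 LD3_c23) (LK LD1_c1 LD2_c27 LD3_c36) Lrfl Lrfl
theorem f69322 : Led Lsl_ct (LP (LK LD1_c1 LD2_c27 LD3_c32)) = (LP (LK LD1_c0 LD2_c40 LD3_c32)) :=
  Lre_c IH (LK LD1_c1 LD2_c27 LD3_c32) (LK LD1_c0 LD2_c40 LD3_c32) Lrfl Lrfl
theorem f69361 : Led Lsl_bt (LP (LK LD1_c1 LD2_c27 LD3_c32)) = (LP (LK LD1_c0 LD2_c40 LD3_c30)) :=
  Lre_b IH (LK LD1_c1 LD2_c27 LD3_c32) (LK LD1_c0 LD2_c40 LD3_c30) Lrfl Lrfl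
theorem f72248 : Led Lsl_ct (LP (LK LD1_c1 LD2_c22 LD3_c42)) = (LP (LK LD1_c0 LD2_c38 LD3_c19)) :=
  Lre_c IH (LK LD1_c1 LD2_c22 LD3_c42) (LK LD1_c0 LD2_c38 LD3_c19) Lrfl Lrfl
theorem f101748 : Led Lsl_gt (LP (LK LD1_c2 LD2_c27 LD3_c19)) = (LP (LK LD1_c1 LD2_c22 LD3_c42)) :=
  Lgr Lrot82 (Lpr_bf (f101743 IH) (Lpr_ct (f72251 IH) (Lpe (K4.f36621 IH) (Lpe (f69322 IH) (Lpr_bt (f69361 IH) (Lpe (K2.f69345 IH) (Lpr_bf (K2.f72240 IH) (Lpr_ct (K2.f22774 IH) (Lpe (K4.f72247 IH) (Lpe (f72248 IH) (Lpn (LP (LK LD1_c1 LD2_c22 LD3_c42)))))))))))))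
theorem f81849 : Led Lsl_dt (LP (LK LD1_c1 LD2_c22 LD3_c42)) = (LP (LK LD1_c2 LD2_c53 LD3_c13)) :=
  Lre_d IH (LK LD1_c1 LD2_c22 LD3_c42) (LK LD1_c2 LD2_c53 LD3_c13) Lrfl Lrfl
theorem f101751 : Led Lsl_ct (LP (LK LD1_c2 LD2_c53 LD3_c13)) = (LP (LK LD1_c5 LD2_c53 LD3_c44)) :=
  Lre_c IH (LK LD1_c2 LD2_c53 LD3_c13) (LK LD1_c5 LD2_c53 LD3_c44) Lrfl Lrfl
theorem f104321 : Led Lsl_bt (LP (LK LD1_c5 LD2_c53 LD3_c44)) = (LP (LK LD1_c4 LD2_c40 LD3_c25)) :=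
  Lgr Lrot178 (Lpe (f101751 IH) (Lpe (f81849 IH) (Lpe (f101748 IH) (Lpr_bf (f101743 IH) (Lpe (K4.f99525 IH) (Lpe (K4.f99504 IH) (Lpe (K4.f59455 IH) (Lpe (K4.f59443 IH) (Lpr_cf (K1.f59426 IH) (Lpr_df (K1.f20982 IH) (Lpe (K0.f20963 IH) (Lpe (K3.f57578 IH) (Lpr_cf (K3.f104310 IH) (Lpe (K4.f25020 IH) (Lpe (K3.f61883 IH) (Lpe (K3.f61884 IH) (Lpe (K3.f61892 IH) (Lpe (K3.f61901 IH) (Lpr_gf (K3.f103239 IH) (Lpn (LP (LK LD1_c4 LD2_c40 LD3_c25))))))))))))))))))))))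
theorem f103008 : Led Lsl_bt (LP (LK LD1_c2 LD2_c20 LD3_c33)) = (LP (LK LD1_c4 LD2_c44 LD3_c49)) :=
  Lre_b IH (LK LD1_c2 LD2_c20 LD3_c33) (LK LD1_c4 LD2_c44 LD3_c49) Lrfl Lrfl
theorem f104356 : Led Lsl_ff (LP (LK LD1_c5 LD2_c53 LD3_c44)) = (LP (LK LD1_c4 LD2_c44 LD3_c49)) :=
  Lgr Lrot25 (Lpr_bt (f104321 IH) (Lpr_ft (K3.f102936 IH) (Lpr_bt (f103008 IH) (Lpn (LP (LK LD1_c4 LD2_c44 LD3_c49))))))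
theorem f104366 : Led Lsl_ft (LP (LK LD1_c5 LD2_c53 LD3_c44)) = (LP (LK LD1_c4 LD2_c44 LD3_c49)) :=
  Lgr Lrot48 (Lpr_ff (f104356 IH) (Lpn (LP (LK LD1_c4 LD2_c44 LD3_c49))))
theorem f102923 : Led Lsl_dt (LP (LK LD1_c2 LD2_c20 LD3_c32)) = (LP (LK LD1_c4 LD2_c44 LD3_c49)) :=
  Lre_d IH (LK LD1_c2 LD2_c20 LD3_c32) (LK LD1_c4 LD2_c44 LD3_c49) Lrfl Lrfl
theorem f104358 : Led Lsl_dt (LP (LK LD1_c5 LD2_c53 LD3_c44)) = (LP (LK LD1_c4 LD2_c40 LD3_c24)) :=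
  Lgr Lrot60 (Lpr_ff (f104356 IH) (Lpe (f102923 IH) (Lpe (K3.f102919 IH) (Lpn (LP (LK LD1_c4 LD2_c40 LD3_c24))))))
theorem f94919 : Led Lsl_df (LP (LK LD1_c2 LD2_c53 LD3_c7)) = (LP (LK LD1_c3 LD2_c26 LD3_c0)) :=
  Lgr Lrot12 (Lpr_bt (K5.f61826 IH) (Lpr_dt (K2.f94773 IH) (Lpr_bt (K3.f26120 IH) (Lpn (LP (LK LD1_c3 LD2_c26 LD3_c0))))))
theorem f71209 : Led Lsl_dt (LP (LK LD1_c1 LD2_c22 LD3_c39)) = (LP (LK LD1_c0 LD2_c38 LD3_c18)) :=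
  Lre_d IH (LK LD1_c1 LD2_c22 LD3_c39) (LK LD1_c0 LD2_c38 LD3_c18) Lrfl Lrfl
theorem f72358 : Led Lsl_dt (LP (LK LD1_c1 LD2_c22 LD3_c38)) = (LP (LK LD1_c2 LD2_c53 LD3_c5)) :=
  Lre_d IH (LK LD1_c1 LD2_c22 LD3_c38) (LK LD1_c2 LD2_c53 LD3_c5) Lrfl Lrfl
theorem f72359 : Led Lsl_ct (LP (LK LD1_c2 LD2_c53 LD3_c5)) = (LP (LK LD1_c5 LD2_c53 LD3_c31)) :=
  Lre_c IH (LK LD1_c2 LD2_c53 LD3_c5) (LK LD1_c5 LD2_c53 LD3_c31) Lrfl Lrfl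
theorem f104373 : Led Lsl_af (LP (LK LD1_c5 LD2_c53 LD3_c31)) = (LP (LK LD1_c4 LD2_c44 LD3_c49)) :=
  Lgr Lrot109 (Lpe (f72359 IH) (Lpe (f72358 IH) (Lpe (K2.f71210 IH) (Lpe (f71209 IH) (Lpe (K5.f61846 IH) (Lpr_df (f94919 IH) (Lpe (K3.f94788 IH) (Lpe (f104358 IH) (Lpr_ft (f104366 IH) (Lpn (LP (LK LD1_c4 LD2_c44 LD3_c49))))))))))))
theorem f104382 : Led Lsl_et (LP (LK LD1_c5 LD2_c53 LD3_c31)) = (LP (LK LD1_c11 LD2_c33 LD3_c2)) :=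
  Lre_e IH (LK LD1_c5 LD2_c53 LD3_c31) (LK LD1_c11 LD2_c33 LD3_c2) Lrfl Lrfl
theorem f104362 : Led Lsl_et (LP (LK LD1_c9 LD2_c22 LD3_c15)) = (LP (LK LD1_c4 LD2_c44 LD3_c49)) :=
  Lre_e IH (LK LD1_c9 LD2_c22 LD3_c15) (LK LD1_c4 LD2_c44 LD3_c49) Lrfl Lrfl
theorem f104383 : Led Lsl_at (LP (LK LD1_c11 LD2_c33 LD3_c2)) = (LP (LK LD1_c9 LD2_c22 LD3_c15)) :=
  Lgr Lrot80 (Lpe (f104382 IH) (Lpr_af (f104373 IH) (Lpe (f104362 IH) (Lpn (LP (LK LD1_c9 LD2_c22 LD3_c15))))))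
theorem f104392 : Led Lsl_ft (LP (LK LD1_c20 LD2_c30 LD3_c10)) = (LP (LK LD1_c11 LD2_c33 LD3_c2)) :=
  Lre_f IH (LK LD1_c20 LD2_c30 LD3_c10) (LK LD1_c11 LD2_c33 LD3_c2) Lrfl Lrfl
theorem f104370 : Led Lsl_ft (LP (LK LD1_c9 LD2_c22 LD3_c15)) = (LP (LK LD1_c17 LD2_c18 LD3_c35)) :=
  Lre_f IH (LK LD1_c9 LD2_c22 LD3_c15) (LK LD1_c17 LD2_c18 LD3_c35) Lrfl Lrfl
theorem f104393 : Led Lsl_af (LP (LK LD1_c20 LD2_c30 LD3_c10)) = (LP (LK LD1_c17 LD2_c18 LD3_c35)) :=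
  Lgr Lrot45 (Lpr_ft (f104392 IH) (Lpr_at (f104383 IH) (Lpr_ft (f104370 IH) (Lpn (LP (LK LD1_c17 LD2_c18 LD3_c35))))))
theorem f104397 : Led Lsl_dt (LP (LK LD1_c20 LD2_c30 LD3_c10)) = (LP (LK LD1_c29 LD2_c28 LD3_c58)) :=
  Lre_d IH (LK LD1_c20 LD2_c30 LD3_c10) (LK LD1_c29 LD2_c28 LD3_c58) Lrfl Lrfl
theorem f104405 : Led Lsl_dt (LP (LK LD1_c27 LD2_c8 LD3_c20)) = (LP (LK LD1_c17 LD2_c18 LD3_c35)) :=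
  Lre_d IH (LK LD1_c27 LD2_c8 LD3_c20) (LK LD1_c17 LD2_c18 LD3_c35) Lrfl Lrfl
theorem f104406 : Led Lsl_at (LP (LK LD1_c29 LD2_c28 LD3_c58)) = (LP (LK LD1_c27 LD2_c8 LD3_c20)) :=
  Lgr Lrot51 (Lpe (f104397 IH) (Lpr_af (f104393 IH) (Lpe (f104405 IH) (Lpn (LP (LK LD1_c27 LD2_c8 LD3_c20))))))
theorem f104409 : Led Lsl_af (LP (LK LD1_c29 LD2_c28 LD3_c58)) = (LP (LK LD1_c27 LD2_c8 LD3_c20)) :=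
  Lgr Lrot0 (Lpr_at (f104406 IH) (Lpn (LP (LK LD1_c27 LD2_c8 LD3_c20))))
theorem f104419 : Led Lsl_ft (LP (LK LD1_c29 LD2_c28 LD3_c58)) = (LP (LK LD1_c20 LD2_c30 LD3_c9)) :=
  Lre_f IH (LK LD1_c29 LD2_c28 LD3_c58) (LK LD1_c20 LD2_c30 LD3_c9) Lrfl Lrfl
theorem f104420 : Led Lsl_ft (LP (LK LD1_c17 LD2_c18 LD3_c34)) = (LP (LK LD1_c27 LD2_c8 LD3_c20)) :=
  Lre_f IH (LK LD1_c17 LD2_c18 LD3_c34) (LK LD1_c27 LD2_c8 LD3_c20) Lrfl Lrfl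
theorem f104421 : Led Lsl_at (LP (LK LD1_c20 LD2_c30 LD3_c9)) = (LP (LK LD1_c17 LD2_c18 LD3_c34)) :=
  Lgr Lrot66 (Lpe (f104419 IH) (Lpr_af (f104409 IH) (Lpe (f104420 IH) (Lpn (LP (LK LD1_c17 LD2_c18 LD3_c34))))))
theorem f104435 : Led Lsl_et (LP (LK LD1_c17 LD2_c18 LD3_c34)) = (LP (LK LD1_c9 LD2_c22 LD3_c18)) :=
  Lre_e IH (LK LD1_c17 LD2_c18 LD3_c34) (LK LD1_c9 LD2_c22 LD3_c18) Lrfl Lrfl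
theorem f103457 : Led Lsl_at (LP (LK LD1_c9 LD2_c22 LD3_c18)) = (LP (LK LD1_c17 LD2_c18 LD3_c32)) :=
  Lre_a IH (LK LD1_c9 LD2_c22 LD3_c18) (LK LD1_c17 LD2_c18 LD3_c32) Lrfl Lrfl
theorem f104436 : Led Lsl_ef (LP (LK LD1_c20 LD2_c30 LD3_c9)) = (LP (LK LD1_c17 LD2_c18 LD3_c32)) :=
  Lgr Lrot20 (Lpr_at (f104421 IH) (Lpr_et (f104435 IH) (Lpr_at (f103457 IH) (Lpn (LP (LK LD1_c17 LD2_c18 LD3_c32))))))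
theorem f104449 : Led Lsl_et (LP (LK LD1_c20 LD2_c30 LD3_c9)) = (LP (LK LD1_c17 LD2_c18 LD3_c32)) :=
  Lgr Lrot87 (Lpr_ef (f104436 IH) (Lpn (LP (LK LD1_c17 LD2_c18 LD3_c32))))
theorem f104434 : Led Lsl_dt (LP (LK LD1_c11 LD2_c33 LD3_c2)) = (LP (LK LD1_c20 LD2_c30 LD3_c9)) :=
  Lre_d IH (LK LD1_c11 LD2_c33 LD3_c2) (LK LD1_c20 LD2_c30 LD3_c9) Lrfl Lrfl
theorem f104451 : Led Lsl_dt (LP (LK LD1_c17 LD2_c18 LD3_c32)) = (LP (LK LD1_c9 LD2_c22 LD3_c14)) :=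
  Lre_d IH (LK LD1_c17 LD2_c18 LD3_c32) (LK LD1_c9 LD2_c22 LD3_c14) Lrfl Lrfl
theorem f102933 : Led Lsl_et (LP (LK LD1_c9 LD2_c22 LD3_c14)) = (LP (LK LD1_c4 LD2_c44 LD3_c48)) :=
  Lre_e IH (LK LD1_c9 LD2_c22 LD3_c14) (LK LD1_c4 LD2_c44 LD3_c48) Lrfl Lrfl
theorem f104456 : Led Lsl_df (LP (LK LD1_c5 LD2_c53 LD3_c31)) = (LP (LK LD1_c4 LD2_c44 LD3_c48)) :=
  Lgr Lrot70 (Lpr_et (f104382 IH) (Lpr_dt (f104434 IH) (Lpr_et (f104449 IH) (Lpr_dt (f104451 IH) (Lpr_et (f102933 IH) (Lpn (LP (LK LD1_c4 LD2_c44 LD3_c48))))))))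
theorem f72356 : Led Lsl_ct (LP (LK LD1_c5 LD2_c53 LD3_c31)) = (LP (LK LD1_c2 LD2_c53 LD3_c5)) :=
  Lre_c IH (LK LD1_c5 LD2_c53 LD3_c31) (LK LD1_c2 LD2_c53 LD3_c5) Lrfl Lrfl
theorem f72262 : Led Lsl_dt (LP (LK LD1_c2 LD2_c53 LD3_c5)) = (LP (LK LD1_c1 LD2_c22 LD3_c38)) :=
  Lre_d IH (LK LD1_c2 LD2_c53 LD3_c5) (LK LD1_c1 LD2_c22 LD3_c38) Lrfl Lrfl
theorem f94771 : Led Lsl_dt (LP (LK LD1_c2 LD2_c53 LD3_c7)) = (LP (LK LD1_c3 LD2_c26 LD3_c0)) :=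
  Lgr Lrot79 (Lpr_bf (K5.f61839 IH) (Lpr_df (K2.f94741 IH) (Lpe (K3.f94770 IH) (Lpn (LP (LK LD1_c3 LD2_c26 LD3_c0))))))
theorem f94795 : Led Lsl_cf (LP (LK LD1_c4 LD2_c40 LD3_c24)) = (LP (LK LD1_c3 LD2_c26 LD3_c0)) :=
  Lgr Lrot11 (Lpr_ct (K3.f94788 IH) (Lpn (LP (LK LD1_c3 LD2_c26 LD3_c0))))
theorem f104351 : Led Lsl_df (LP (LK LD1_c5 LD2_c53 LD3_c44)) = (LP (LK LD1_c4 LD2_c40 LD3_c24)) :=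
  Lgr Lrot12 (Lpr_bt (f104321 IH) (Lpr_dt (K3.f78655 IH) (Lpr_bt (K3.f58772 IH) (Lpn (LP (LK LD1_c4 LD2_c40 LD3_c24))))))
theorem f81848 : Led Lsl_ct (LP (LK LD1_c5 LD2_c53 LD3_c44)) = (LP (LK LD1_c2 LD2_c53 LD3_c13)) :=
  Lre_c IH (LK LD1_c5 LD2_c53 LD3_c44) (LK LD1_c2 LD2_c53 LD3_c13) Lrfl Lrfl
theorem f81847 : Led Lsl_dt (LP (LK LD1_c2 LD2_c53 LD3_c13)) = (LP (LK LD1_c1 LD2_c22 LD3_c42)) :=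
  Lre_d IH (LK LD1_c2 LD2_c53 LD3_c13) (LK LD1_c1 LD2_c22 LD3_c42) Lrfl Lrfl
theorem f79353 : Led Lsl_dt (LP (LK LD1_c0 LD2_c38 LD3_c19)) = (LP (LK LD1_c1 LD2_c22 LD3_c43)) :=
  Lre_d IH (LK LD1_c0 LD2_c38 LD3_c19) (LK LD1_c1 LD2_c22 LD3_c43) Lrfl Lrfl
theorem f79354 : Led Lsl_ct (LP (LK LD1_c1 LD2_c22 LD3_c43)) = (LP (LK LD1_c2 LD2_c53 LD3_c14)) :=
  Lre_c IH (LK LD1_c1 LD2_c22 LD3_c43) (LK LD1_c2 LD2_c53 LD3_c14) Lrfl Lrfl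
theorem f79351 : Led Lsl_dt (LP (LK LD1_c2 LD2_c53 LD3_c14)) = (LP (LK LD1_c5 LD2_c53 LD3_c47)) :=
  Lre_d IH (LK LD1_c2 LD2_c53 LD3_c14) (LK LD1_c5 LD2_c53 LD3_c47) Lrfl Lrfl
theorem f104459 : Led Lsl_ct (LP (LK LD1_c5 LD2_c53 LD3_c47)) = (LP (LK LD1_c4 LD2_c44 LD3_c48)) :=
  Lgr Lrot176 (Lpe (f79351 IH) (Lpe (f79354 IH) (Lpe (f79353 IH) (Lpe (f72248 IH) (Lpe (f81847 IH) (Lpe (f81848 IH) (Lpr_df (f104351 IH) (Lpr_cf (f94795 IH) (Lpe (f94771 IH) (Lpe (K5.f37957 IH) (Lpe (K5.f37956 IH) (Lpe (K2.f71208 IH) (Lpe (f72262 IH) (Lpe (f72356 IH) (Lpr_df (f104456 IH) (Lpn (LP (LK LD1_c4 LD2_c44 LD3_c48))))))))))))))))))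
theorem f102913 : Led Lsl_at (LP (LK LD1_c4 LD2_c44 LD3_c48)) = (LP (LK LD1_c2 LD2_c20 LD3_c32)) :=
  Lre_a IH (LK LD1_c4 LD2_c44 LD3_c48) (LK LD1_c2 LD2_c20 LD3_c32) Lrfl Lrfl
theorem f102343 : Led Lsl_ct (LP (LK LD1_c2 LD2_c20 LD3_c32)) = (LP (LK LD1_c4 LD2_c44 LD3_c32)) :=
  Lre_c IH (LK LD1_c2 LD2_c20 LD3_c32) (LK LD1_c4 LD2_c44 LD3_c32) Lrfl Lrfl
theorem f104461 : Led Lsl_af (LP (LK LD1_c5 LD2_c53 LD3_c47)) = (LP (LK LD1_c4 LD2_c44 LD3_c32)) :=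
  Lgr Lrot68 (Lpr_ct (f104459 IH) (Lpr_at (f102913 IH) (Lpr_ct (f102343 IH) (Lpn (LP (LK LD1_c4 LD2_c44 LD3_c32))))))
theorem f104497 : Led Lsl_gf (LP (LK LD1_c5 LD2_c53 LD3_c47)) = (LP (LK LD1_c6 LD2_c53 LD3_c54)) :=
  Lgr Lrot76 (Lpr_af (f104461 IH) (Lpe (K3.f102908 IH) (Lpr_gt (f26121 IH) (Lpn (LP (LK LD1_c6 LD2_c53 LD3_c54))))))
theorem f79360 : Led Lsl_dt (LP (LK LD1_c5 LD2_c53 LD3_c47)) = (LP (LK LD1_c2 LD2_c53 LD3_c14)) :=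
  Lre_d IH (LK LD1_c5 LD2_c53 LD3_c47) (LK LD1_c2 LD2_c53 LD3_c14) Lrfl Lrfl
theorem f69188 : Led Lsl_ct (LP (LK LD1_c2 LD2_c53 LD3_c14)) = (LP (LK LD1_c1 LD2_c22 LD3_c43)) :=
  Lre_c IH (LK LD1_c2 LD2_c53 LD3_c14) (LK LD1_c1 LD2_c22 LD3_c43) Lrfl Lrfl
theorem f81817 : Led Lsl_gt (LP (LK LD1_c0 LD2_c38 LD3_c30)) = (LP (LK LD1_c1 LD2_c23 LD3_c10)) :=
  Lre_g IH (LK LD1_c0 LD2_c38 LD3_c30) (LK LD1_c1 LD2_c23 LD3_c10) Lrfl Lrfl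
theorem f81818 : Led Lsl_gf (LP (LK LD1_c2 LD2_c9 LD3_c46)) = (LP (LK LD1_c1 LD2_c23 LD3_c10)) :=
  Lgr Lrot76 (Lpe (K2.f34866 IH) (Lpr_ff (K2.f81806 IH) (Lpr_gt (f81817 IH) (Lpn (LP (LK LD1_c1 LD2_c23 LD3_c10))))))
theorem f38513 : Led Lsl_at (LP (LK LD1_c2 LD2_c10 LD3_c4)) = (LP (LK LD1_c1 LD2_c2 LD3_c8)) :=
  Lre_a IH (LK LD1_c2 LD2_c10 LD3_c4) (LK LD1_c1 LD2_c2 LD3_c8) Lrfl Lrfl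
theorem f38528 : Led Lsl_gt (LP (LK LD1_c2 LD2_c10 LD3_c3)) = (LP (LK LD1_c1 LD2_c2 LD3_c8)) :=
  Lre_g IH (LK LD1_c2 LD2_c10 LD3_c3) (LK LD1_c1 LD2_c2 LD3_c8) Lrfl Lrfl
theorem f72112 : Led Lsl_gf (LP (LK LD1_c2 LD2_c10 LD3_c3)) = (LP (LK LD1_c2 LD2_c53 LD3_c16)) :=
  Lgr Lrot47 (Lpr_gt (f38528 IH) (Lpe (f38513 IH) (Lpr_ff (K2.f72099 IH) (Lpn (LP (LK LD1_c2 LD2_c53 LD3_c16))))))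
theorem f38529 : Led Lsl_ct (LP (LK LD1_c4 LD2_c25 LD3_c17)) = (LP (LK LD1_c2 LD2_c10 LD3_c3)) :=
  Lre_c IH (LK LD1_c4 LD2_c25 LD3_c17) (LK LD1_c2 LD2_c10 LD3_c3) Lrfl Lrfl
theorem f36940 : Led Lsl_gt (LP (LK LD1_c1 LD2_c55 LD3_c39)) = (LP (LK LD1_c3 LD2_c57 LD3_c46)) :=
  Lre_g IH (LK LD1_c1 LD2_c55 LD3_c39) (LK LD1_c3 LD2_c57 LD3_c46) Lrfl Lrfl
theorem f38530 : Led Lsl_bt (LP (LK LD1_c4 LD2_c25 LD3_c17)) = (LP (LK LD1_c3 LD2_c57 LD3_c46)) :=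
  Lgr Lrot92 (Lpr_ct (f38529 IH) (Lpr_gt (f38528 IH) (Lpr_cf (K1.f38484 IH) (Lpr_bt (K1.f35629 IH) (Lpe (K1.f35818 IH) (Lpr_ct (K1.f3026 IH) (Lpr_gt (K1.f2962 IH) (Lpr_cf (K1.f36936 IH) (Lpr_bt (K1.f36933 IH) (Lpr_gt (f36940 IH) (Lpn (LP (LK LD1_c3 LD2_c57 LD3_c46)))))))))))))
theorem f38570 : Led Lsl_ff (LP (LK LD1_c1 LD2_c2 LD3_c8)) = (LP (LK LD1_c1 LD2_c55 LD3_c39)) :=
  Lgr Lrot3 (Lpr_ft (K1.f38511 IH) (Lpn (LP (LK LD1_c1 LD2_c55 LD3_c39))))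
theorem f38573 : Led Lsl_gf (LP (LK LD1_c2 LD2_c10 LD3_c4)) = (LP (LK LD1_c3 LD2_c57 LD3_c46)) :=
  Lgr Lrot76 (Lpe (K2.f38504 IH) (Lpr_ff (f38570 IH) (Lpr_gt (f36940 IH) (Lpn (LP (LK LD1_c3 LD2_c57 LD3_c46))))))
theorem f36013 : Led Lsl_at (LP (LK LD1_c3 LD2_c57 LD3_c43)) = (LP (LK LD1_c1 LD2_c55 LD3_c37)) :=
  Lre_a IH (LK LD1_c3 LD2_c57 LD3_c43) (LK LD1_c1 LD2_c55 LD3_c37) Lrfl Lrfl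
theorem f35578 : Led Lsl_gt (LP (LK LD1_c3 LD2_c57 LD3_c42)) = (LP (LK LD1_c1 LD2_c55 LD3_c37)) :=
  Lre_g IH (LK LD1_c3 LD2_c57 LD3_c42) (LK LD1_c1 LD2_c55 LD3_c37) Lrfl Lrfl
theorem f36019 : Led Lsl_gf (LP (LK LD1_c3 LD2_c57 LD3_c42)) = (LP (LK LD1_c2 LD2_c9 LD3_c51)) :=
  Lgr Lrot47 (Lpr_gt (f35578 IH) (Lpe (f36013 IH) (Lpr_ff (K2.f36002 IH) (Lpn (LP (LK LD1_c2 LD2_c9 LD3_c51))))))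
theorem f81824 : Led Lsl_bt (LP (LK LD1_c2 LD2_c54 LD3_c20)) = (LP (LK LD1_c1 LD2_c23 LD3_c10)) :=
  Lre_b IH (LK LD1_c2 LD2_c54 LD3_c20) (LK LD1_c1 LD2_c23 LD3_c10) Lrfl Lrfl
theorem f81825 : Led Lsl_cf (LP (LK LD1_c3 LD2_c57 LD3_c42)) = (LP (LK LD1_c2 LD2_c54 LD3_c20)) :=
  Lgr Lrot163 (Lpr_gf (f36019 IH) (Lpe (K2.f38505 IH) (Lpr_gf (f38573 IH) (Lpe (f38530 IH) (Lpr_ct (f38529 IH) (Lpr_gf (f72112 IH) (Lpe (K2.f72106 IH) (Lpe (K4.f35768 IH) (Lpr_gf (f81818 IH) (Lpe (f81824 IH) (Lpn (LP (LK LD1_c2 LD2_c54 LD3_c20)))))))))))))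
theorem f72083 : Led Lsl_bt (LP (LK LD1_c2 LD2_c10 LD3_c4)) = (LP (LK LD1_c2 LD2_c15 LD3_c11)) :=
  Lgr Lrot127 (Lpr_bf (K2.f71968 IH) (Lpn (LP (LK LD1_c2 LD2_c15 LD3_c11))))
theorem f70856 : Led Lsl_gf (LP (LK LD1_c2 LD2_c15 LD3_c11)) = (LP (LK LD1_c1 LD2_c22 LD3_c47)) :=
  Lgr Lrot76 (Lpe (K2.f70839 IH) (Lpr_ff (K2.f70837 IH) (Lpr_gt (K4.f69347 IH) (Lpn (LP (LK LD1_c1 LD2_c22 LD3_c47))))))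
theorem f71944 : Led Lsl_at (LP (LK LD1_c0 LD2_c38 LD3_c29)) = (LP (LK LD1_c0 LD2_c17 LD3_c8)) :=
  Lre_a IH (LK LD1_c0 LD2_c38 LD3_c29) (LK LD1_c0 LD2_c17 LD3_c8) Lrfl Lrfl
theorem f69439 : Led Lsl_gt (LP (LK LD1_c0 LD2_c38 LD3_c28)) = (LP (LK LD1_c0 LD2_c17 LD3_c8)) :=
  Lre_g IH (LK LD1_c0 LD2_c38 LD3_c28) (LK LD1_c0 LD2_c17 LD3_c8) Lrfl Lrfl
theorem f71951 : Led Lsl_gf (LP (LK LD1_c0 LD2_c38 LD3_c28)) = (LP (LK LD1_c1 LD2_c4 LD3_c34)) :=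
  Lgr Lrot47 (Lpr_gt (f69439 IH) (Lpe (f71944 IH) (Lpr_ff (K2.f71932 IH) (Lpn (LP (LK LD1_c1 LD2_c4 LD3_c34))))))
theorem f69440 : Led Lsl_ct (LP (LK LD1_c1 LD2_c23 LD3_c4)) = (LP (LK LD1_c0 LD2_c38 LD3_c28)) :=
  Lre_c IH (LK LD1_c1 LD2_c23 LD3_c4) (LK LD1_c0 LD2_c38 LD3_c28) Lrfl Lrfl
theorem f81833 : Led Lsl_bf (LP (LK LD1_c1 LD2_c22 LD3_c47)) = (LP (LK LD1_c1 LD2_c23 LD3_c4)) :=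
  Lgr Lrot156 (Lpe (f70856 IH) (Lpe (f72083 IH) (Lpr_ct (K2.f38505 IH) (Lpe (f36019 IH) (Lpr_cf (f81825 IH) (Lpr_bt (f81824 IH) (Lpe (f81818 IH) (Lpe (K2.f35220 IH) (Lpe (f71951 IH) (Lpe (f69440 IH) (Lpn (LP (LK LD1_c1 LD2_c23 LD3_c4)))))))))))))
theorem f35441 : Led Lsl_gt (LP (LK LD1_c1 LD2_c2 LD3_c0)) = (LP (LK LD1_c2 LD2_c9 LD3_c49)) :=
  Lre_g IH (LK LD1_c1 LD2_c2 LD3_c0) (LK LD1_c2 LD2_c9 LD3_c49) Lrfl Lrfl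
theorem f35992 : Led Lsl_gf (LP (LK LD1_c3 LD2_c57 LD3_c43)) = (LP (LK LD1_c2 LD2_c9 LD3_c49)) :=
  Lgr Lrot76 (Lpe (K2.f35767 IH) (Lpr_ff (K2.f35983 IH) (Lpr_gt (f35441 IH) (Lpn (LP (LK LD1_c2 LD2_c9 LD3_c49))))))
theorem f35440 : Led Lsl_bt (LP (LK LD1_c0 LD2_c28 LD3_c18)) = (LP (LK LD1_c1 LD2_c2 LD3_c0)) :=
  Lre_b IH (LK LD1_c0 LD2_c28 LD3_c18) (LK LD1_c1 LD2_c2 LD3_c0) Lrfl Lrfl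
theorem f72249 : Led Lsl_bf (LP (LK LD1_c2 LD2_c9 LD3_c49)) = (LP (LK LD1_c1 LD2_c22 LD3_c42)) :=
  Lgr Lrot34 (Lpe (f35441 IH) (Lpe (f35440 IH) (Lpr_ct (K1.f35439 IH) (Lpr_gf (K1.f59570 IH) (Lpe (K2.f59518 IH) (Lpe (K2.f69345 IH) (Lpr_bf (K2.f72240 IH) (Lpr_ct (K2.f22774 IH) (Lpe (K4.f72247 IH) (Lpe (f72248 IH) (Lpn (LP (LK LD1_c1 LD2_c22 LD3_c42)))))))))))))
theorem f81844 : Led Lsl_gt (LP (LK LD1_c1 LD2_c4 LD3_c42)) = (LP (LK LD1_c0 LD2_c38 LD3_c19)) :=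
  Lgr Lrot149 (Lpe (K2.f71022 IH) (Lpr_gf (f70856 IH) (Lpr_bf (f81833 IH) (Lpr_ct (f69440 IH) (Lpr_gf (f71951 IH) (Lpr_cf (K2.f35220 IH) (Lpr_bt (K2.f36149 IH) (Lpr_gf (f35992 IH) (Lpr_bf (f72249 IH) (Lpr_ct (f72248 IH) (Lpn (LP (LK LD1_c0 LD2_c38 LD3_c19)))))))))))))
theorem f104753 : Led Lsl_gf (LP (LK LD1_c2 LD2_c15 LD3_c12)) = (LP (LK LD1_c1 LD2_c22 LD3_c51)) :=
  Lgr Lrot144 (Lpr_dt (K2.f70859 IH) (Lpr_gt (f81844 IH) (Lpr_dt (f79353 IH) (Lpe (f69188 IH) (Lpe (f79360 IH) (Lpr_gf (f104497 IH) (Lpr_df (f104744 IH) (Lpr_gf (K2.f72424 IH) (Lpe (K2.f61206 IH) (Lpn (LP (LK LD1_c1 LD2_c22 LD3_c51))))))))))))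
theorem f71130 : Led Lsl_at (LP (LK LD1_c1 LD2_c22 LD3_c45)) = (LP (LK LD1_c0 LD2_c38 LD3_c22)) :=
  Lre_a IH (LK LD1_c1 LD2_c22 LD3_c45) (LK LD1_c0 LD2_c38 LD3_c22) Lrfl Lrfl
theorem f59464 : Led Lsl_gt (LP (LK LD1_c1 LD2_c22 LD3_c52)) = (LP (LK LD1_c0 LD2_c38 LD3_c22)) :=
  Lre_g IH (LK LD1_c1 LD2_c22 LD3_c52) (LK LD1_c0 LD2_c38 LD3_c22) Lrfl Lrfl
theorem f71136 : Led Lsl_gt (LP (LK LD1_c2 LD2_c15 LD3_c12)) = (LP (LK LD1_c1 LD2_c22 LD3_c52)) :=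
  Lgr Lrot5 (Lpr_ft (K2.f71118 IH) (Lpr_at (f71130 IH) (Lpe (f59464 IH) (Lpn (LP (LK LD1_c1 LD2_c22 LD3_c52))))))
theorem f137328 : Led Lsl_af (LP (LK LD1_c1 LD2_c22 LD3_c52)) = (LP (LK LD1_c1 LD2_c28 LD3_c33)) :=
  Lgr Lrot31 (Lpe (f71136 IH) (Lpr_gf (f104753 IH) (Lpr_ft (f137315 IH) (Lpn (LP (LK LD1_c1 LD2_c28 LD3_c33))))))
theorem f137338 : Led Lsl_et (LP (LK LD1_c1 LD2_c22 LD3_c52)) = (LP (LK LD1_c2 LD2_c53 LD3_c41)) :=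
  Lre_e IH (LK LD1_c1 LD2_c22 LD3_c52) (LK LD1_c2 LD2_c53 LD3_c41) Lrfl Lrfl
theorem f112367 : Led Lsl_et (LP (LK LD1_c3 LD2_c4 LD3_c60)) = (LP (LK LD1_c1 LD2_c28 LD3_c33)) :=
  Lre_e IH (LK LD1_c3 LD2_c4 LD3_c60) (LK LD1_c1 LD2_c28 LD3_c33) Lrfl Lrfl
theorem f137339 : Led Lsl_at (LP (LK LD1_c2 LD2_c53 LD3_c41)) = (LP (LK LD1_c3 LD2_c4 LD3_c60)) :=
  Lgr Lrot80 (Lpe (f137338 IH) (Lpr_af (f137328 IH) (Lpe (f112367 IH) (Lpn (LP (LK LD1_c3 LD2_c4 LD3_c60))))))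
theorem f137352 : Led Lsl_ft (LP (LK LD1_c5 LD2_c54 LD3_c39)) = (LP (LK LD1_c2 LD2_c53 LD3_c41)) :=
  Lre_f IH (LK LD1_c5 LD2_c54 LD3_c39) (LK LD1_c2 LD2_c53 LD3_c41) Lrfl Lrfl
theorem f137323 : Led Lsl_ft (LP (LK LD1_c3 LD2_c4 LD3_c60)) = (LP (LK LD1_c6 LD2_c15 LD3_c50)) :=
  Lre_f IH (LK LD1_c3 LD2_c4 LD3_c60) (LK LD1_c6 LD2_c15 LD3_c50) Lrfl Lrfl
theorem f137353 : Led Lsl_af (LP (LK LD1_c5 LD2_c54 LD3_c39)) = (LP (LK LD1_c6 LD2_c15 LD3_c50)) :=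
  Lgr Lrot45 (Lpr_ft (f137352 IH) (Lpr_at (f137339 IH) (Lpr_ft (f137323 IH) (Lpn (LP (LK LD1_c6 LD2_c15 LD3_c50))))))
theorem f137355 : Led Lsl_dt (LP (LK LD1_c5 LD2_c54 LD3_c39)) = (LP (LK LD1_c11 LD2_c34 LD3_c60)) :=
  Lre_d IH (LK LD1_c5 LD2_c54 LD3_c39) (LK LD1_c11 LD2_c34 LD3_c60) Lrfl Lrfl
theorem f137359 : Led Lsl_dt (LP (LK LD1_c12 LD2_c9 LD3_c23)) = (LP (LK LD1_c6 LD2_c15 LD3_c50)) :=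
  Lre_d IH (LK LD1_c12 LD2_c9 LD3_c23) (LK LD1_c6 LD2_c15 LD3_c50) Lrfl Lrfl
theorem f137360 : Led Lsl_at (LP (LK LD1_c11 LD2_c34 LD3_c60)) = (LP (LK LD1_c12 LD2_c9 LD3_c23)) :=
  Lgr Lrot51 (Lpe (f137355 IH) (Lpr_af (f137353 IH) (Lpe (f137359 IH) (Lpn (LP (LK LD1_c12 LD2_c9 LD3_c23))))))
theorem f137369 : Led Lsl_af (LP (LK LD1_c11 LD2_c34 LD3_c60)) = (LP (LK LD1_c12 LD2_c9 LD3_c23)) :=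
  Lgr Lrot0 (Lpr_at (f137360 IH) (Lpn (LP (LK LD1_c12 LD2_c9 LD3_c23))))
theorem f137377 : Led Lsl_ft (LP (LK LD1_c11 LD2_c34 LD3_c60)) = (LP (LK LD1_c5 LD2_c54 LD3_c38)) :=
  Lre_f IH (LK LD1_c11 LD2_c34 LD3_c60) (LK LD1_c5 LD2_c54 LD3_c38) Lrfl Lrfl
theorem f137378 : Led Lsl_ft (LP (LK LD1_c6 LD2_c15 LD3_c49)) = (LP (LK LD1_c12 LD2_c9 LD3_c23)) :=
  Lre_f IH (LK LD1_c6 LD2_c15 LD3_c49) (LK LD1_c12 LD2_c9 LD3_c23) Lrfl Lrfl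
theorem f137379 : Led Lsl_at (LP (LK LD1_c5 LD2_c54 LD3_c38)) = (LP (LK LD1_c6 LD2_c15 LD3_c49)) :=
  Lgr Lrot66 (Lpe (f137377 IH) (Lpr_af (f137369 IH) (Lpe (f137378 IH) (Lpn (LP (LK LD1_c6 LD2_c15 LD3_c49))))))
theorem f132993 : Led Lsl_et (LP (LK LD1_c6 LD2_c15 LD3_c49)) = (LP (LK LD1_c3 LD2_c5 LD3_c0)) :=
  Lre_e IH (LK LD1_c6 LD2_c15 LD3_c49) (LK LD1_c3 LD2_c5 LD3_c0) Lrfl Lrfl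
theorem f80270 : Led Lsl_et (LP (LK LD1_c3 LD2_c5 LD3_c5)) = (LP (LK LD1_c6 LD2_c15 LD3_c60)) :=
  Lre_e IH (LK LD1_c3 LD2_c5 LD3_c5) (LK LD1_c6 LD2_c15 LD3_c60) Lrfl Lrfl
theorem f81048 : Led Lsl_ft (LP (LK LD1_c6 LD2_c15 LD3_c60)) = (LP (LK LD1_c12 LD2_c9 LD3_c38)) :=
  Lre_f IH (LK LD1_c6 LD2_c15 LD3_c60) (LK LD1_c12 LD2_c9 LD3_c38) Lrfl Lrfl
theorem f132877 : Led Lsl_et (LP (LK LD1_c9 LD2_c19 LD3_c47)) = (LP (LK LD1_c4 LD2_c42 LD3_c52)) :=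
  Lre_e IH (LK LD1_c9 LD2_c19 LD3_c47) (LK LD1_c4 LD2_c42 LD3_c52) Lrfl Lrfl
theorem f132878 : Led Lsl_ft (LP (LK LD1_c17 LD2_c15 LD3_c41)) = (LP (LK LD1_c9 LD2_c19 LD3_c47)) :=
  Lre_f IH (LK LD1_c17 LD2_c15 LD3_c41) (LK LD1_c9 LD2_c19 LD3_c47) Lrfl Lrfl
theorem f132879 : Led Lsl_et (LP (LK LD1_c12 LD2_c9 LD3_c38)) = (LP (LK LD1_c17 LD2_c15 LD3_c41)) :=
  Lgr Lrot69 (Lpe (f81048 IH) (Lpe (f80270 IH) (Lpr_ff (K5.f132870 IH) (Lpe (f132877 IH) (Lpe (f132878 IH) (Lpn (LP (LK LD1_c17 LD2_c15 LD3_c41))))))))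
theorem f81095 : Led Lsl_et (LP (LK LD1_c1 LD2_c28 LD3_c36)) = (LP (LK LD1_c3 LD2_c5 LD3_c6)) :=
  Lre_e IH (LK LD1_c1 LD2_c28 LD3_c36) (LK LD1_c3 LD2_c5 LD3_c6) Lrfl Lrfl
theorem f132592 : Led Lsl_et (LP (LK LD1_c4 LD2_c42 LD3_c49)) = (LP (LK LD1_c2 LD2_c18 LD3_c53)) :=
  Lre_e IH (LK LD1_c4 LD2_c42 LD3_c49) (LK LD1_c2 LD2_c18 LD3_c53) Lrfl Lrfl
theorem f132614 : Led Lsl_at (LP (LK LD1_c3 LD2_c5 LD3_c6)) = (LP (LK LD1_c4 LD2_c42 LD3_c49)) :=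
  Lgr Lrot80 (Lpe (f81095 IH) (Lpr_af (K5.f132606 IH) (Lpe (f132592 IH) (Lpn (LP (LK LD1_c4 LD2_c42 LD3_c49))))))
theorem f81064 : Led Lsl_dt (LP (LK LD1_c6 LD2_c16 LD3_c1)) = (LP (LK LD1_c3 LD2_c5 LD3_c6)) :=
  Lre_d IH (LK LD1_c6 LD2_c16 LD3_c1) (LK LD1_c3 LD2_c5 LD3_c6) Lrfl Lrfl
theorem f132621 : Led Lsl_dt (LP (LK LD1_c4 LD2_c42 LD3_c49)) = (LP (LK LD1_c9 LD2_c19 LD3_c45)) :=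
  Lre_d IH (LK LD1_c4 LD2_c42 LD3_c49) (LK LD1_c9 LD2_c19 LD3_c45) Lrfl Lrfl
theorem f132622 : Led Lsl_af (LP (LK LD1_c6 LD2_c16 LD3_c1)) = (LP (LK LD1_c9 LD2_c19 LD3_c45)) :=
  Lgr Lrot117 (Lpr_dt (f81064 IH) (Lpr_at (f132614 IH) (Lpr_dt (f132621 IH) (Lpn (LP (LK LD1_c9 LD2_c19 LD3_c45))))))
theorem f81060 : Led Lsl_et (LP (LK LD1_c6 LD2_c16 LD3_c1)) = (LP (LK LD1_c12 LD2_c9 LD3_c37)) :=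
  Lre_e IH (LK LD1_c6 LD2_c16 LD3_c1) (LK LD1_c12 LD2_c9 LD3_c37) Lrfl Lrfl
theorem f132632 : Led Lsl_et (LP (LK LD1_c17 LD2_c15 LD3_c35)) = (LP (LK LD1_c9 LD2_c19 LD3_c45)) :=
  Lre_e IH (LK LD1_c17 LD2_c15 LD3_c35) (LK LD1_c9 LD2_c19 LD3_c45) Lrfl Lrfl
theorem f132633 : Led Lsl_at (LP (LK LD1_c12 LD2_c9 LD3_c37)) = (LP (LK LD1_c17 LD2_c15 LD3_c35)) :=
  Lgr Lrot80 (Lpe (f81060 IH) (Lpr_af (f132622 IH) (Lpe (f132632 IH) (Lpn (LP (LK LD1_c17 LD2_c15 LD3_c35))))))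
theorem f81061 : Led Lsl_ft (LP (LK LD1_c21 LD2_c15 LD3_c42)) = (LP (LK LD1_c12 LD2_c9 LD3_c37)) :=
  Lre_f IH (LK LD1_c21 LD2_c15 LD3_c42) (LK LD1_c12 LD2_c9 LD3_c37) Lrfl Lrfl
theorem f132643 : Led Lsl_ft (LP (LK LD1_c17 LD2_c15 LD3_c35)) = (LP (LK LD1_c27 LD2_c5 LD3_c35)) :=
  Lre_f IH (LK LD1_c17 LD2_c15 LD3_c35) (LK LD1_c27 LD2_c5 LD3_c35) Lrfl Lrfl
theorem f132644 : Led Lsl_af (LP (LK LD1_c21 LD2_c15 LD3_c42)) = (LP (LK LD1_c27 LD2_c5 LD3_c35)) :=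
  Lgr Lrot45 (Lpr_ft (f81061 IH) (Lpr_at (f132633 IH) (Lpr_ft (f132643 IH) (Lpn (LP (LK LD1_c27 LD2_c5 LD3_c35))))))
theorem f81046 : Led Lsl_dt (LP (LK LD1_c21 LD2_c15 LD3_c42)) = (LP (LK LD1_c12 LD2_c9 LD3_c38)) :=
  Lre_d IH (LK LD1_c21 LD2_c15 LD3_c42) (LK LD1_c12 LD2_c9 LD3_c38) Lrfl Lrfl
theorem f132649 : Led Lsl_dt (LP (LK LD1_c17 LD2_c15 LD3_c36)) = (LP (LK LD1_c27 LD2_c5 LD3_c35)) :=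
  Lre_d IH (LK LD1_c17 LD2_c15 LD3_c36) (LK LD1_c27 LD2_c5 LD3_c35) Lrfl Lrfl
theorem f132650 : Led Lsl_at (LP (LK LD1_c12 LD2_c9 LD3_c38)) = (LP (LK LD1_c17 LD2_c15 LD3_c36)) :=
  Lgr Lrot51 (Lpe (f81046 IH) (Lpr_af (f132644 IH) (Lpe (f132649 IH) (Lpn (LP (LK LD1_c17 LD2_c15 LD3_c36))))))
theorem f132655 : Led Lsl_af (LP (LK LD1_c12 LD2_c9 LD3_c38)) = (LP (LK LD1_c17 LD2_c15 LD3_c36)) :=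
  Lgr Lrot0 (Lpr_at (f132650 IH) (Lpn (LP (LK LD1_c17 LD2_c15 LD3_c36))))
theorem f81038 : Led Lsl_ft (LP (LK LD1_c12 LD2_c9 LD3_c38)) = (LP (LK LD1_c6 LD2_c15 LD3_c60)) :=
  Lre_f IH (LK LD1_c12 LD2_c9 LD3_c38) (LK LD1_c6 LD2_c15 LD3_c60) Lrfl Lrfl
theorem f132663 : Led Lsl_ft (LP (LK LD1_c9 LD2_c19 LD3_c44)) = (LP (LK LD1_c17 LD2_c15 LD3_c36)) :=
  Lre_f IH (LK LD1_c9 LD2_c19 LD3_c44) (LK LD1_c17 LD2_c15 LD3_c36) Lrfl Lrfl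
theorem f132664 : Led Lsl_at (LP (LK LD1_c6 LD2_c15 LD3_c60)) = (LP (LK LD1_c9 LD2_c19 LD3_c44)) :=
  Lgr Lrot66 (Lpe (f81038 IH) (Lpr_af (f132655 IH) (Lpe (f132663 IH) (Lpn (LP (LK LD1_c9 LD2_c19 LD3_c44))))))
theorem f132671 : Led Lsl_et (LP (LK LD1_c9 LD2_c19 LD3_c44)) = (LP (LK LD1_c4 LD2_c42 LD3_c48)) :=
  Lre_e IH (LK LD1_c9 LD2_c19 LD3_c44) (LK LD1_c4 LD2_c42 LD3_c48) Lrfl Lrfl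
theorem f132672 : Led Lsl_af (LP (LK LD1_c3 LD2_c5 LD3_c5)) = (LP (LK LD1_c4 LD2_c42 LD3_c48)) :=
  Lgr Lrot50 (Lpr_et (f80270 IH) (Lpr_at (f132664 IH) (Lpr_et (f132671 IH) (Lpn (LP (LK LD1_c4 LD2_c42 LD3_c48))))))
theorem f91383 : Led Lsl_bt (LP (LK LD1_c2 LD2_c20 LD3_c42)) = (LP (LK LD1_c4 LD2_c45 LD3_c6)) :=
  Lre_b IH (LK LD1_c2 LD2_c20 LD3_c42) (LK LD1_c4 LD2_c45 LD3_c6) Lrfl Lrfl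
theorem f102095 : Led Lsl_dt (LP (LK LD1_c4 LD2_c45 LD3_c6)) = (LP (LK LD1_c6 LD2_c15 LD3_c59)) :=
  Lgr Lrot79 (Lpe (f91383 IH) (Lpe (K3.f61890 IH) (Lpr_bf (K5.f102093 IH) (Lpn (LP (LK LD1_c6 LD2_c15 LD3_c59))))))
theorem f132679 : Led Lsl_ft (LP (LK LD1_c3 LD2_c4 LD3_c57)) = (LP (LK LD1_c4 LD2_c42 LD3_c48)) :=
  Lgr Lrot142 (Lpr_dt (K5.f80276 IH) (Lpr_ct (K5.f59365 IH) (Lpr_dt (K4.f83762 IH) (Lpr_ct (K4.f83763 IH) (Lpr_dt (K5.f83791 IH) (Lpe (K5.f91320 IH) (Lpr_dt (f102095 IH) (Lpr_ct (K5.f80262 IH) (Lpr_af (f132672 IH) (Lpn (LP (LK LD1_c4 LD2_c42 LD3_c48))))))))))))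
theorem f132682 : Led Lsl_et (LP (LK LD1_c6 LD2_c15 LD3_c42)) = (LP (LK LD1_c3 LD2_c4 LD3_c57)) :=
  Lre_e IH (LK LD1_c6 LD2_c15 LD3_c42) (LK LD1_c3 LD2_c4 LD3_c57) Lrfl Lrfl
theorem f132683 : Led Lsl_ft (LP (LK LD1_c12 LD2_c9 LD3_c13)) = (LP (LK LD1_c6 LD2_c15 LD3_c42)) :=
  Lre_f IH (LK LD1_c12 LD2_c9 LD3_c13) (LK LD1_c6 LD2_c15 LD3_c42) Lrfl Lrfl
theorem f132684 : Led Lsl_et (LP (LK LD1_c4 LD2_c42 LD3_c48)) = (LP (LK LD1_c9 LD2_c19 LD3_c44)) :=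
  Lre_e IH (LK LD1_c4 LD2_c42 LD3_c48) (LK LD1_c9 LD2_c19 LD3_c44) Lrfl Lrfl
theorem f132685 : Led Lsl_ef (LP (LK LD1_c12 LD2_c9 LD3_c13)) = (LP (LK LD1_c17 LD2_c15 LD3_c36)) :=
  Lgr Lrot21 (Lpr_ft (f132683 IH) (Lpr_et (f132682 IH) (Lpr_ft (f132679 IH) (Lpr_et (f132684 IH) (Lpr_ft (f132663 IH) (Lpn (LP (LK LD1_c17 LD2_c15 LD3_c36))))))))
theorem f132743 : Led Lsl_et (LP (LK LD1_c12 LD2_c9 LD3_c13)) = (LP (LK LD1_c17 LD2_c15 LD3_c36)) :=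
  Lgr Lrot87 (Lpr_ef (f132685 IH) (Lpn (LP (LK LD1_c17 LD2_c15 LD3_c36))))
theorem f132881 : Led Lsl_af (LP (LK LD1_c12 LD2_c9 LD3_c13)) = (LP (LK LD1_c17 LD2_c15 LD3_c41)) :=
  Lgr Lrot50 (Lpr_et (f132743 IH) (Lpe (f132655 IH) (Lpr_et (f132879 IH) (Lpn (LP (LK LD1_c17 LD2_c15 LD3_c41))))))
theorem f132867 : Led Lsl_ft (LP (LK LD1_c9 LD2_c19 LD3_c47)) = (LP (LK LD1_c17 LD2_c15 LD3_c41)) :=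
  Lre_f IH (LK LD1_c9 LD2_c19 LD3_c47) (LK LD1_c17 LD2_c15 LD3_c41) Lrfl Lrfl
theorem f132889 : Led Lsl_at (LP (LK LD1_c6 LD2_c15 LD3_c42)) = (LP (LK LD1_c9 LD2_c19 LD3_c47)) :=
  Lgr Lrot66 (Lpe (f132683 IH) (Lpr_af (f132881 IH) (Lpe (f132867 IH) (Lpn (LP (LK LD1_c9 LD2_c19 LD3_c47))))))
theorem f132734 : Led Lsl_dt (LP (LK LD1_c12 LD2_c9 LD3_c12)) = (LP (LK LD1_c6 LD2_c15 LD3_c42)) :=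
  Lre_d IH (LK LD1_c12 LD2_c9 LD3_c12) (LK LD1_c6 LD2_c15 LD3_c42) Lrfl Lrfl
theorem f132894 : Led Lsl_dt (LP (LK LD1_c9 LD2_c19 LD3_c47)) = (LP (LK LD1_c17 LD2_c15 LD3_c40)) :=
  Lre_d IH (LK LD1_c9 LD2_c19 LD3_c47) (LK LD1_c17 LD2_c15 LD3_c40) Lrfl Lrfl
theorem f132902 : Led Lsl_af (LP (LK LD1_c12 LD2_c9 LD3_c12)) = (LP (LK LD1_c17 LD2_c15 LD3_c40)) :=
  Lgr Lrot117 (Lpr_dt (f132734 IH) (Lpr_at (f132889 IH) (Lpr_dt (f132894 IH) (Lpn (LP (LK LD1_c17 LD2_c15 LD3_c40))))))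
theorem f132911 : Led Lsl_et (LP (LK LD1_c12 LD2_c9 LD3_c12)) = (LP (LK LD1_c6 LD2_c15 LD3_c43)) :=
  Lre_e IH (LK LD1_c12 LD2_c9 LD3_c12) (LK LD1_c6 LD2_c15 LD3_c43) Lrfl Lrfl
theorem f132912 : Led Lsl_et (LP (LK LD1_c9 LD2_c19 LD3_c48)) = (LP (LK LD1_c17 LD2_c15 LD3_c40)) :=
  Lre_e IH (LK LD1_c9 LD2_c19 LD3_c48) (LK LD1_c17 LD2_c15 LD3_c40) Lrfl Lrfl
theorem f132913 : Led Lsl_at (LP (LK LD1_c6 LD2_c15 LD3_c43)) = (LP (LK LD1_c9 LD2_c19 LD3_c48)) :=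
  Lgr Lrot80 (Lpe (f132911 IH) (Lpr_af (f132902 IH) (Lpe (f132912 IH) (Lpn (LP (LK LD1_c9 LD2_c19 LD3_c48))))))
theorem f132929 : Led Lsl_ft (LP (LK LD1_c12 LD2_c9 LD3_c17)) = (LP (LK LD1_c6 LD2_c15 LD3_c43)) :=
  Lre_f IH (LK LD1_c12 LD2_c9 LD3_c17) (LK LD1_c6 LD2_c15 LD3_c43) Lrfl Lrfl
theorem f132930 : Led Lsl_ft (LP (LK LD1_c9 LD2_c19 LD3_c48)) = (LP (LK LD1_c17 LD2_c15 LD3_c43)) :=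
  Lre_f IH (LK LD1_c9 LD2_c19 LD3_c48) (LK LD1_c17 LD2_c15 LD3_c43) Lrfl Lrfl
theorem f132931 : Led Lsl_af (LP (LK LD1_c12 LD2_c9 LD3_c17)) = (LP (LK LD1_c17 LD2_c15 LD3_c43)) :=
  Lgr Lrot45 (Lpr_ft (f132929 IH) (Lpr_at (f132913 IH) (Lpr_ft (f132930 IH) (Lpn (LP (LK LD1_c17 LD2_c15 LD3_c43))))))
theorem f132933 : Led Lsl_dt (LP (LK LD1_c12 LD2_c9 LD3_c17)) = (LP (LK LD1_c6 LD2_c15 LD3_c44)) :=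
  Lre_d IH (LK LD1_c12 LD2_c9 LD3_c17) (LK LD1_c6 LD2_c15 LD3_c44) Lrfl Lrfl
theorem f132847 : Led Lsl_dt (LP (LK LD1_c9 LD2_c19 LD3_c49)) = (LP (LK LD1_c17 LD2_c15 LD3_c43)) :=
  Lre_d IH (LK LD1_c9 LD2_c19 LD3_c49) (LK LD1_c17 LD2_c15 LD3_c43) Lrfl Lrfl
theorem f132941 : Led Lsl_at (LP (LK LD1_c6 LD2_c15 LD3_c44)) = (LP (LK LD1_c9 LD2_c19 LD3_c49)) :=
  Lgr Lrot51 (Lpe (f132933 IH) (Lpr_af (f132931 IH) (Lpe (f132847 IH) (Lpn (LP (LK LD1_c9 LD2_c19 LD3_c49))))))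
theorem f132949 : Led Lsl_ct (LP (LK LD1_c3 LD2_c5 LD3_c1)) = (LP (LK LD1_c6 LD2_c15 LD3_c44)) :=
  Lre_c IH (LK LD1_c3 LD2_c5 LD3_c1) (LK LD1_c6 LD2_c15 LD3_c44) Lrfl Lrfl
theorem f132843 : Led Lsl_ct (LP (LK LD1_c9 LD2_c19 LD3_c49)) = (LP (LK LD1_c4 LD2_c42 LD3_c56)) :=
  Lre_c IH (LK LD1_c9 LD2_c19 LD3_c49) (LK LD1_c4 LD2_c42 LD3_c56) Lrfl Lrfl
theorem f132950 : Led Lsl_af (LP (LK LD1_c3 LD2_c5 LD3_c1)) = (LP (LK LD1_c4 LD2_c42 LD3_c56)) :=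
  Lgr Lrot68 (Lpr_ct (f132949 IH) (Lpr_at (f132941 IH) (Lpr_ct (f132843 IH) (Lpn (LP (LK LD1_c4 LD2_c42 LD3_c56))))))
theorem f132805 : Led Lsl_ft (LP (LK LD1_c3 LD2_c5 LD3_c1)) = (LP (LK LD1_c1 LD2_c28 LD3_c34)) :=
  Lre_f IH (LK LD1_c3 LD2_c5 LD3_c1) (LK LD1_c1 LD2_c28 LD3_c34) Lrfl Lrfl
theorem f132840 : Led Lsl_ft (LP (LK LD1_c2 LD2_c18 LD3_c57)) = (LP (LK LD1_c4 LD2_c42 LD3_c56)) :=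
  Lre_f IH (LK LD1_c2 LD2_c18 LD3_c57) (LK LD1_c4 LD2_c42 LD3_c56) Lrfl Lrfl
theorem f132957 : Led Lsl_at (LP (LK LD1_c1 LD2_c28 LD3_c34)) = (LP (LK LD1_c2 LD2_c18 LD3_c57)) :=
  Lgr Lrot66 (Lpe (f132805 IH) (Lpr_af (f132950 IH) (Lpe (f132840 IH) (Lpn (LP (LK LD1_c2 LD2_c18 LD3_c57))))))
theorem f132963 : Led Lsl_dt (LP (LK LD1_c3 LD2_c5 LD3_c0)) = (LP (LK LD1_c1 LD2_c28 LD3_c34)) :=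
  Lre_d IH (LK LD1_c3 LD2_c5 LD3_c0) (LK LD1_c1 LD2_c28 LD3_c34) Lrfl Lrfl
theorem f104821 : Led Lsl_dt (LP (LK LD1_c2 LD2_c18 LD3_c57)) = (LP (LK LD1_c4 LD2_c42 LD3_c55)) :=
  Lre_d IH (LK LD1_c2 LD2_c18 LD3_c57) (LK LD1_c4 LD2_c42 LD3_c55) Lrfl Lrfl
theorem f132964 : Led Lsl_af (LP (LK LD1_c3 LD2_c5 LD3_c0)) = (LP (LK LD1_c4 LD2_c42 LD3_c55)) :=
  Lgr Lrot117 (Lpr_dt (f132963 IH) (Lpr_at (f132957 IH) (Lpr_dt (f104821 IH) (Lpn (LP (LK LD1_c4 LD2_c42 LD3_c55))))))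
theorem f132970 : Led Lsl_at (LP (LK LD1_c3 LD2_c5 LD3_c0)) = (LP (LK LD1_c4 LD2_c42 LD3_c55)) :=
  Lgr Lrot100 (Lpr_af (f132964 IH) (Lpn (LP (LK LD1_c4 LD2_c42 LD3_c55))))
theorem f137387 : Led Lsl_ef (LP (LK LD1_c5 LD2_c54 LD3_c38)) = (LP (LK LD1_c4 LD2_c42 LD3_c55)) :=
  Lgr Lrot20 (Lpr_at (f137379 IH) (Lpr_et (f132993 IH) (Lpr_at (f132970 IH) (Lpn (LP (LK LD1_c4 LD2_c42 LD3_c55))))))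
theorem f137393 : Led Lsl_et (LP (LK LD1_c5 LD2_c54 LD3_c38)) = (LP (LK LD1_c4 LD2_c42 LD3_c55)) :=
  Lgr Lrot87 (Lpr_ef (f137387 IH) (Lpn (LP (LK LD1_c4 LD2_c42 LD3_c55))))
theorem f71145 : Led Lsl_dt (LP (LK LD1_c2 LD2_c53 LD3_c41)) = (LP (LK LD1_c5 LD2_c54 LD3_c38)) :=
  Lre_d IH (LK LD1_c2 LD2_c53 LD3_c41) (LK LD1_c5 LD2_c54 LD3_c38) Lrfl Lrfl
theorem f59417 : Led Lsl_dt (LP (LK LD1_c4 LD2_c42 LD3_c55)) = (LP (LK LD1_c2 LD2_c18 LD3_c57)) :=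
  Lre_d IH (LK LD1_c4 LD2_c42 LD3_c55) (LK LD1_c2 LD2_c18 LD3_c57) Lrfl Lrfl
theorem f104820 : Led Lsl_et (LP (LK LD1_c2 LD2_c18 LD3_c57)) = (LP (LK LD1_c1 LD2_c6 LD3_c30)) :=
  Lre_e IH (LK LD1_c2 LD2_c18 LD3_c57) (LK LD1_c1 LD2_c6 LD3_c30) Lrfl Lrfl
theorem f137398 : Led Lsl_df (LP (LK LD1_c1 LD2_c22 LD3_c52)) = (LP (LK LD1_c1 LD2_c6 LD3_c30)) :=
  Lgr Lrot70 (Lpr_et (f137338 IH) (Lpr_dt (f71145 IH) (Lpr_et (f137393 IH) (Lpr_dt (f59417 IH) (Lpr_et (f104820 IH) (Lpn (LP (LK LD1_c1 LD2_c6 LD3_c30))))))))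
theorem f71138 : Led Lsl_ct (LP (LK LD1_c1 LD2_c22 LD3_c52)) = (LP (LK LD1_c2 LD2_c53 LD3_c40)) :=
  Lre_c IH (LK LD1_c1 LD2_c22 LD3_c52) (LK LD1_c2 LD2_c53 LD3_c40) Lrfl Lrfl
theorem f71140 : Led Lsl_dt (LP (LK LD1_c2 LD2_c53 LD3_c40)) = (LP (LK LD1_c5 LD2_c54 LD3_c35)) :=
  Lre_d IH (LK LD1_c2 LD2_c53 LD3_c40) (LK LD1_c5 LD2_c54 LD3_c35) Lrfl Lrfl
theorem f59335 : Led Lsl_ct (LP (LK LD1_c2 LD2_c18 LD3_c56)) = (LP (LK LD1_c1 LD2_c6 LD3_c30)) :=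
  Lre_c IH (LK LD1_c2 LD2_c18 LD3_c56) (LK LD1_c1 LD2_c6 LD3_c30) Lrfl Lrfl
theorem f112669 : Led Lsl_at (LP (LK LD1_c3 LD2_c57 LD3_c48)) = (LP (LK LD1_c5 LD2_c53 LD3_c49)) :=
  Lgr Lrot107 (Lpr_cf (K4.f81778 IH) (Lpr_af (K5.f112667 IH) (Lpe (K2.f72114 IH) (Lpn (LP (LK LD1_c5 LD2_c53 LD3_c49))))))
theorem f112696 : Led Lsl_gt (LP (LK LD1_c4 LD2_c25 LD3_c22)) = (LP (LK LD1_c5 LD2_c53 LD3_c49)) :=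
  Lgr Lrot46 (Lpe (K4.f38244 IH) (Lpr_ft (K5.f38250 IH) (Lpr_at (f112669 IH) (Lpn (LP (LK LD1_c5 LD2_c53 LD3_c49))))))
theorem f35953 : Led Lsl_at (LP (LK LD1_c4 LD2_c24 LD3_c48)) = (LP (LK LD1_c8 LD2_c46 LD3_c57)) :=
  Lre_a IH (LK LD1_c4 LD2_c24 LD3_c48) (LK LD1_c8 LD2_c46 LD3_c57) Lrfl Lrfl
theorem f81631 : Led Lsl_af (LP (LK LD1_c7 LD2_c56 LD3_c51)) = (LP (LK LD1_c11 LD2_c41 LD3_c14)) :=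
  Lgr Lrot45 (Lpr_ft (K4.f35950 IH) (Lpr_at (f35953 IH) (Lpr_ft (K2.f81625 IH) (Lpn (LP (LK LD1_c11 LD2_c41 LD3_c14))))))
theorem f112410 : Led Lsl_gt (LP (LK LD1_c8 LD2_c46 LD3_c57)) = (LP (LK LD1_c5 LD2_c59 LD3_c49)) :=
  Lgr Lrot5 (Lpr_ft (K2.f81625 IH) (Lpe (f81631 IH) (Lpr_gf (K4.f112403 IH) (Lpn (LP (LK LD1_c5 LD2_c59 LD3_c49))))))
theorem f81052 : Led Lsl_et (LP (LK LD1_c4 LD2_c24 LD3_c12)) = (LP (LK LD1_c8 LD2_c46 LD3_c5)) :=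
  Lre_e IH (LK LD1_c4 LD2_c24 LD3_c12) (LK LD1_c8 LD2_c46 LD3_c5) Lrfl Lrfl
theorem f81053 : Led Lsl_et (LP (LK LD1_c6 LD2_c15 LD3_c60)) = (LP (LK LD1_c3 LD2_c5 LD3_c5)) :=
  Lre_e IH (LK LD1_c6 LD2_c15 LD3_c60) (LK LD1_c3 LD2_c5 LD3_c5) Lrfl Lrfl
theorem f81054 : Led Lsl_bf (LP (LK LD1_c4 LD2_c24 LD3_c12)) = (LP (LK LD1_c3 LD2_c5 LD3_c5)) :=
  Lgr Lrot96 (Lpr_et (f81052 IH) (Lpr_bt (K5.f81032 IH) (Lpr_et (f81053 IH) (Lpn (LP (LK LD1_c3 LD2_c5 LD3_c5))))))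
theorem f80261 : Led Lsl_ct (LP (LK LD1_c3 LD2_c5 LD3_c5)) = (LP (LK LD1_c6 LD2_c15 LD3_c59)) :=
  Lre_c IH (LK LD1_c3 LD2_c5 LD3_c5) (LK LD1_c6 LD2_c15 LD3_c59) Lrfl Lrfl
theorem f71012 : Led Lsl_bt (LP (LK LD1_c2 LD2_c53 LD3_c17)) = (LP (LK LD1_c5 LD2_c53 LD3_c49)) :=
  Lre_b IH (LK LD1_c2 LD2_c53 LD3_c17) (LK LD1_c5 LD2_c53 LD3_c49) Lrfl Lrfl
theorem f70923 : Led Lsl_ct (LP (LK LD1_c2 LD2_c53 LD3_c17)) = (LP (LK LD1_c5 LD2_c53 LD3_c51)) :=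
  Lre_c IH (LK LD1_c2 LD2_c53 LD3_c17) (LK LD1_c5 LD2_c53 LD3_c51) Lrfl Lrfl
theorem f112704 : Led Lsl_gf (LP (LK LD1_c6 LD2_c15 LD3_c59)) = (LP (LK LD1_c5 LD2_c53 LD3_c51)) :=
  Lgr Lrot126 (Lpe (f80261 IH) (Lpe (f81054 IH) (Lpe (K4.f112585 IH) (Lpr_ct (K2.f35960 IH) (Lpr_gt (f112410 IH) (Lpe (K4.f112414 IH) (Lpr_bt (K4.f38247 IH) (Lpr_gt (f112696 IH) (Lpe (f71012 IH) (Lpr_ct (f70923 IH) (Lpn (LP (LK LD1_c5 LD2_c53 LD3_c51)))))))))))))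
theorem f102099 : Led Lsl_df (LP (LK LD1_c4 LD2_c45 LD3_c6)) = (LP (LK LD1_c6 LD2_c15 LD3_c59)) :=
  Lgr Lrot38 (Lpr_dt (f102095 IH) (Lpn (LP (LK LD1_c6 LD2_c15 LD3_c59))))
theorem f26748 : Led Lsl_bt (LP (LK LD1_c0 LD2_c8 LD3_c17)) = (LP (LK LD1_c0 LD2_c18 LD3_c25)) :=
  Lre_b IH (LK LD1_c0 LD2_c8 LD3_c17) (LK LD1_c0 LD2_c18 LD3_c25) Lrfl Lrfl
theorem f38023 : Led Lsl_bt (LP (LK LD1_c1 LD2_c28 LD3_c9)) = (LP (LK LD1_c0 LD2_c40 LD3_c46)) :=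
  Lre_b IH (LK LD1_c1 LD2_c28 LD3_c9) (LK LD1_c0 LD2_c40 LD3_c46) Lrfl Lrfl
theorem f38097 : Led Lsl_ct (LP (LK LD1_c3 LD2_c4 LD3_c14)) = (LP (LK LD1_c1 LD2_c28 LD3_c9)) :=
  Lre_c IH (LK LD1_c3 LD2_c4 LD3_c14) (LK LD1_c1 LD2_c28 LD3_c9) Lrfl Lrfl
theorem f38098 : Led Lsl_dt (LP (LK LD1_c6 LD2_c14 LD3_c40)) = (LP (LK LD1_c3 LD2_c4 LD3_c14)) :=
  Lre_d IH (LK LD1_c6 LD2_c14 LD3_c40) (LK LD1_c3 LD2_c4 LD3_c14) Lrfl Lrfl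
theorem f99135 : Led Lsl_gf (LP (LK LD1_c6 LD2_c14 LD3_c40)) = (LP (LK LD1_c4 LD2_c45 LD3_c6)) :=
  Lgr Lrot85 (Lpr_dt (f38098 IH) (Lpr_ct (f38097 IH) (Lpr_bt (f38023 IH) (Lpe (K2.f38015 IH) (Lpr_dt (K2.f70437 IH) (Lpr_ct (K2.f59518 IH) (Lpr_bt (K2.f59517 IH) (Lpe (K1.f59515 IH) (Lpr_dt (K1.f59505 IH) (Lpr_ct (K0.f22448 IH) (Lpr_bt (K0.f26740 IH) (Lpr_gt (K0.f7109 IH) (Lpr_dt (K0.f25707 IH) (Lpr_ct (K1.f25144 IH) (Lpr_bt (f26748 IH) (Lpr_gt (K3.f26749 IH) (Lpr_dt (K3.f99126 IH) (Lpr_ct (K3.f61886 IH) (Lpr_bt (f91383 IH) (Lpn (LP (LK LD1_c4 LD2_c45 LD3_c6))))))))))))))))))))))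
theorem f80263 : Led Lsl_dt (LP (LK LD1_c0 LD2_c40 LD3_c45)) = (LP (LK LD1_c1 LD2_c28 LD3_c9)) :=
  Lre_d IH (LK LD1_c0 LD2_c40 LD3_c45) (LK LD1_c1 LD2_c28 LD3_c9) Lrfl Lrfl
theorem f59804 : Led Lsl_gt (LP (LK LD1_c1 LD2_c28 LD3_c7)) = (LP (LK LD1_c0 LD2_c40 LD3_c45)) :=
  Lre_g IH (LK LD1_c1 LD2_c28 LD3_c7) (LK LD1_c0 LD2_c40 LD3_c45) Lrfl Lrfl
theorem f99137 : Led Lsl_dt (LP (LK LD1_c3 LD2_c4 LD3_c10)) = (LP (LK LD1_c1 LD2_c28 LD3_c7)) :=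
  Lre_d IH (LK LD1_c3 LD2_c4 LD3_c10) (LK LD1_c1 LD2_c28 LD3_c7) Lrfl Lrfl
theorem f112706 : Led Lsl_gf (LP (LK LD1_c3 LD2_c4 LD3_c10)) = (LP (LK LD1_c2 LD2_c53 LD3_c17)) :=
  Lgr Lrot144 (Lpr_dt (f99137 IH) (Lpr_gt (f59804 IH) (Lpr_dt (f80263 IH) (Lpe (f38097 IH) (Lpe (f38098 IH) (Lpr_gf (f99135 IH) (Lpr_df (f102099 IH) (Lpr_gf (f112704 IH) (Lpe (f70923 IH) (Lpn (LP (LK LD1_c2 LD2_c53 LD3_c17))))))))))))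
theorem f70999 : Led Lsl_at (LP (LK LD1_c4 LD2_c35 LD3_c60)) = (LP (LK LD1_c2 LD2_c15 LD3_c16)) :=
  Lre_a IH (LK LD1_c4 LD2_c35 LD3_c60) (LK LD1_c2 LD2_c15 LD3_c16) Lrfl Lrfl
theorem f112710 : Led Lsl_gt (LP (LK LD1_c3 LD2_c4 LD3_c10)) = (LP (LK LD1_c2 LD2_c15 LD3_c16)) :=
  Lgr Lrot46 (Lpr_gf (f112706 IH) (Lpe (K2.f70988 IH) (Lpr_at (f70999 IH) (Lpn (LP (LK LD1_c2 LD2_c15 LD3_c16))))))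
theorem f80278 : Led Lsl_dt (LP (LK LD1_c1 LD2_c28 LD3_c32)) = (LP (LK LD1_c3 LD2_c4 LD3_c57)) :=
  Lre_d IH (LK LD1_c1 LD2_c28 LD3_c32) (LK LD1_c3 LD2_c4 LD3_c57) Lrfl Lrfl
theorem f70913 : Led Lsl_ct (LP (LK LD1_c2 LD2_c15 LD3_c16)) = (LP (LK LD1_c4 LD2_c36 LD3_c8)) :=
  Lre_c IH (LK LD1_c2 LD2_c15 LD3_c16) (LK LD1_c4 LD2_c36 LD3_c8) Lrfl Lrfl
theorem f112742 : Led Lsl_gf (LP (LK LD1_c6 LD2_c15 LD3_c41)) = (LP (LK LD1_c4 LD2_c36 LD3_c8)) :=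
  Lgr Lrot104 (Lpr_ct (K5.f83802 IH) (Lpe (f80278 IH) (Lpe (K5.f58964 IH) (Lpe (K4.f58961 IH) (Lpe (K4.f59364 IH) (Lpe (f59804 IH) (Lpe (f99137 IH) (Lpr_gt (f112710 IH) (Lpr_ct (f70913 IH) (Lpn (LP (LK LD1_c4 LD2_c36 LD3_c8))))))))))))
theorem f58724 : Led Lsl_bt (LP (LK LD1_c4 LD2_c40 LD3_c37)) = (LP (LK LD1_c2 LD2_c17 LD3_c23)) :=
  Lre_b IH (LK LD1_c4 LD2_c40 LD3_c37) (LK LD1_c2 LD2_c17 LD3_c23) Lrfl Lrfl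
theorem f58726 : Led Lsl_bf (LP (LK LD1_c3 LD2_c0 LD3_c38)) = (LP (LK LD1_c3 LD2_c5 LD3_c56)) :=
  Lgr Lrot61 (Lpr_ft (K2.f58725 IH) (Lpr_bt (f58724 IH) (Lpr_ft (K1.f58719 IH) (Lpn (LP (LK LD1_c3 LD2_c5 LD3_c56))))))
theorem f102078 : Led Lsl_bt (LP (LK LD1_c4 LD2_c45 LD3_c7)) = (LP (LK LD1_c6 LD2_c15 LD3_c59)) :=
  Lgr Lrot128 (Lpe (K3.f102040 IH) (Lpr_bf (K4.f102071 IH) (Lpe (K4.f59629 IH) (Lpr_bf (f81054 IH) (Lpe (K5.f80262 IH) (Lpn (LP (LK LD1_c6 LD2_c15 LD3_c59))))))))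
theorem f112401 : Led Lsl_gf (LP (LK LD1_c4 LD2_c36 LD3_c8)) = (LP (LK LD1_c6 LD2_c15 LD3_c59)) :=
  Lgr Lrot181 (Lpr_ct (K4.f37813 IH) (Lpr_gt (K4.f112393 IH) (Lpr_cf (K4.f75092 IH) (Lpr_bt (K4.f75083 IH) (Lpe (K2.f75052 IH) (Lpr_bf (f58726 IH) (Lpe (K1.f58728 IH) (Lpe (K3.f102001 IH) (Lpr_cf (K3.f102044 IH) (Lpr_bt (f102078 IH) (Lpn (LP (LK LD1_c6 LD2_c15 LD3_c59)))))))))))))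
theorem f133106 : Led Lsl_ft (LP (LK LD1_c6 LD2_c15 LD3_c59)) = (LP (LK LD1_c4 LD2_c45 LD3_c41)) :=
  Lgr Lrot2 (Lpe (f112401 IH) (Lpe (f112742 IH) (Lpr_af (K5.f133093 IH) (Lpn (LP (LK LD1_c4 LD2_c45 LD3_c41))))))
theorem f133108 : Led Lsl_cf (LP (LK LD1_c4 LD2_c42 LD3_c52)) = (LP (LK LD1_c4 LD2_c45 LD3_c41)) :=
  Lgr Lrot108 (Lpe (K5.f132870 IH) (Lpr_ct (f80261 IH) (Lpr_ft (f133106 IH) (Lpn (LP (LK LD1_c4 LD2_c45 LD3_c41))))))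
theorem f113756 : Led Lsl_ff (LP (LK LD1_c4 LD2_c45 LD3_c6)) = (LP (LK LD1_c2 LD2_c20 LD3_c55)) :=
  Lgr Lrot25 (Lpr_bt (K5.f61894 IH) (Lpr_ft (K4.f113754 IH) (Lpr_bt (K5.f78250 IH) (Lpn (LP (LK LD1_c2 LD2_c20 LD3_c55))))))
theorem f91351 : Led Lsl_at (LP (LK LD1_c4 LD2_c45 LD3_c6)) = (LP (LK LD1_c9 LD2_c22 LD3_c54)) :=
  Lre_a IH (LK LD1_c4 LD2_c45 LD3_c6) (LK LD1_c9 LD2_c22 LD3_c54) Lrfl Lrfl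
theorem f137406 : Led Lsl_ct (LP (LK LD1_c5 LD2_c54 LD3_c35)) = (LP (LK LD1_c9 LD2_c22 LD3_c54)) :=
  Lgr Lrot98 (Lpe (f71140 IH) (Lpe (f71138 IH) (Lpr_df (f137398 IH) (Lpe (f59335 IH) (Lpe (K5.f59402 IH) (Lpr_cf (f133108 IH) (Lpe (K5.f133098 IH) (Lpe (f113756 IH) (Lpr_at (f91351 IH) (Lpn (LP (LK LD1_c9 LD2_c22 LD3_c54))))))))))))
theorem f83790 : Led Lsl_ct (LP (LK LD1_c3 LD2_c4 LD3_c57)) = (LP (LK LD1_c6 LD2_c15 LD3_c41)) :=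
  Lre_c IH (LK LD1_c3 LD2_c4 LD3_c57) (LK LD1_c6 LD2_c15 LD3_c41) Lrfl Lrfl
theorem f83789 : Led Lsl_dt (LP (LK LD1_c1 LD2_c28 LD3_c33)) = (LP (LK LD1_c0 LD2_c40 LD3_c57)) :=
  Lre_d IH (LK LD1_c1 LD2_c28 LD3_c33) (LK LD1_c0 LD2_c40 LD3_c57) Lrfl Lrfl
theorem f83766 : Led Lsl_ct (LP (LK LD1_c3 LD2_c4 LD3_c59)) = (LP (LK LD1_c1 LD2_c28 LD3_c33)) :=
  Lre_c IH (LK LD1_c3 LD2_c4 LD3_c59) (LK LD1_c1 LD2_c28 LD3_c33) Lrfl Lrfl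
theorem f91352 : Led Lsl_ct (LP (LK LD1_c4 LD2_c45 LD3_c6)) = (LP (LK LD1_c3 LD2_c23 LD3_c31)) :=
  Lgr Lrot59 (Lpr_cf (K5.f91320 IH) (Lpn (LP (LK LD1_c3 LD2_c23 LD3_c31))))
theorem f80267 : Led Lsl_ct (LP (LK LD1_c0 LD2_c40 LD3_c58)) = (LP (LK LD1_c1 LD2_c28 LD3_c36)) :=
  Lre_c IH (LK LD1_c0 LD2_c40 LD3_c58) (LK LD1_c1 LD2_c28 LD3_c36) Lrfl Lrfl
theorem f80266 : Led Lsl_dt (LP (LK LD1_c1 LD2_c28 LD3_c37)) = (LP (LK LD1_c0 LD2_c40 LD3_c58)) :=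
  Lre_d IH (LK LD1_c1 LD2_c28 LD3_c37) (LK LD1_c0 LD2_c40 LD3_c58) Lrfl Lrfl
theorem f80265 : Led Lsl_ct (LP (LK LD1_c3 LD2_c5 LD3_c7)) = (LP (LK LD1_c1 LD2_c28 LD3_c37)) :=
  Lre_c IH (LK LD1_c3 LD2_c5 LD3_c7) (LK LD1_c1 LD2_c28 LD3_c37) Lrfl Lrfl
theorem f102101 : Led Lsl_dt (LP (LK LD1_c6 LD2_c16 LD3_c3)) = (LP (LK LD1_c3 LD2_c5 LD3_c7)) :=
  Lre_d IH (LK LD1_c6 LD2_c16 LD3_c3) (LK LD1_c3 LD2_c5 LD3_c7) Lrfl Lrfl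
theorem f133136 : Led Lsl_cf (LP (LK LD1_c6 LD2_c16 LD3_c3)) = (LP (LK LD1_c4 LD2_c45 LD3_c40)) :=
  Lgr Lrot55 (Lpr_dt (f102101 IH) (Lpr_ct (f80265 IH) (Lpr_dt (f80266 IH) (Lpr_ct (f80267 IH) (Lpr_dt (K5.f80260 IH) (Lpr_ct (f80261 IH) (Lpe (f102099 IH) (Lpr_ct (f91352 IH) (Lpe (K5.f83773 IH) (Lpr_ct (f83766 IH) (Lpr_dt (f83789 IH) (Lpr_ct (K5.f58964 IH) (Lpr_dt (f80278 IH) (Lpr_ct (f83790 IH) (Lpr_dt (K5.f133100 IH) (Lpn (LP (LK LD1_c4 LD2_c45 LD3_c40))))))))))))))))))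
theorem f137422 : Led Lsl_ff (LP (LK LD1_c5 LD2_c54 LD3_c35)) = (LP (LK LD1_c6 LD2_c16 LD3_c3)) :=
  Lgr Lrot23 (Lpr_ct (f137406 IH) (Lpr_ft (K5.f133155 IH) (Lpe (f133136 IH) (Lpn (LP (LK LD1_c6 LD2_c16 LD3_c3))))))
theorem f137428 : Led Lsl_ft (LP (LK LD1_c5 LD2_c54 LD3_c35)) = (LP (LK LD1_c6 LD2_c16 LD3_c3)) :=
  Lgr Lrot48 (Lpr_ff (f137422 IH) (Lpn (LP (LK LD1_c6 LD2_c16 LD3_c3))))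
theorem f71139 : Led Lsl_dt (LP (LK LD1_c5 LD2_c54 LD3_c35)) = (LP (LK LD1_c2 LD2_c53 LD3_c40)) :=
  Lre_d IH (LK LD1_c5 LD2_c54 LD3_c35) (LK LD1_c2 LD2_c53 LD3_c40) Lrfl Lrfl
theorem f71141 : Led Lsl_ct (LP (LK LD1_c2 LD2_c53 LD3_c40)) = (LP (LK LD1_c1 LD2_c22 LD3_c52)) :=
  Lre_c IH (LK LD1_c2 LD2_c53 LD3_c40) (LK LD1_c1 LD2_c22 LD3_c52) Lrfl Lrfl
theorem f81073 : Led Lsl_ct (LP (LK LD1_c1 LD2_c28 LD3_c38)) = (LP (LK LD1_c3 LD2_c5 LD3_c6)) :=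
  Lre_c IH (LK LD1_c1 LD2_c28 LD3_c38) (LK LD1_c3 LD2_c5 LD3_c6) Lrfl Lrfl
theorem f132618 : Led Lsl_ct (LP (LK LD1_c4 LD2_c42 LD3_c49)) = (LP (LK LD1_c2 LD2_c18 LD3_c54)) :=
  Lre_c IH (LK LD1_c4 LD2_c42 LD3_c49) (LK LD1_c2 LD2_c18 LD3_c54) Lrfl Lrfl
theorem f132619 : Led Lsl_af (LP (LK LD1_c1 LD2_c28 LD3_c38)) = (LP (LK LD1_c2 LD2_c18 LD3_c54)) :=
  Lgr Lrot68 (Lpr_ct (f81073 IH) (Lpr_at (f132614 IH) (Lpr_ct (f132618 IH) (Lpn (LP (LK LD1_c2 LD2_c18 LD3_c54))))))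
theorem f132777 : Led Lsl_at (LP (LK LD1_c1 LD2_c28 LD3_c38)) = (LP (LK LD1_c2 LD2_c18 LD3_c54)) :=
  Lgr Lrot100 (Lpr_af (f132619 IH) (Lpn (LP (LK LD1_c2 LD2_c18 LD3_c54))))
theorem f132795 : Led Lsl_et (LP (LK LD1_c0 LD2_c40 LD3_c58)) = (LP (LK LD1_c1 LD2_c28 LD3_c38)) :=
  Lre_e IH (LK LD1_c0 LD2_c40 LD3_c58) (LK LD1_c1 LD2_c28 LD3_c38) Lrfl Lrfl
theorem f132796 : Led Lsl_et (LP (LK LD1_c2 LD2_c18 LD3_c54)) = (LP (LK LD1_c1 LD2_c6 LD3_c29)) :=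
  Lre_e IH (LK LD1_c2 LD2_c18 LD3_c54) (LK LD1_c1 LD2_c6 LD3_c29) Lrfl Lrfl
theorem f132797 : Led Lsl_af (LP (LK LD1_c0 LD2_c40 LD3_c58)) = (LP (LK LD1_c1 LD2_c6 LD3_c29)) :=
  Lgr Lrot50 (Lpr_et (f132795 IH) (Lpr_at (f132777 IH) (Lpr_et (f132796 IH) (Lpn (LP (LK LD1_c1 LD2_c6 LD3_c29))))))
theorem f80269 : Led Lsl_dt (LP (LK LD1_c3 LD2_c5 LD3_c5)) = (LP (LK LD1_c1 LD2_c28 LD3_c36)) :=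
  Lre_d IH (LK LD1_c3 LD2_c5 LD3_c5) (LK LD1_c1 LD2_c28 LD3_c36) Lrfl Lrfl
theorem f132800 : Led Lsl_ft (LP (LK LD1_c0 LD2_c40 LD3_c57)) = (LP (LK LD1_c1 LD2_c6 LD3_c29)) :=
  Lgr Lrot142 (Lpr_dt (K4.f83762 IH) (Lpr_ct (K4.f83763 IH) (Lpr_dt (K5.f83791 IH) (Lpe (K5.f91320 IH) (Lpr_dt (f102095 IH) (Lpr_ct (K5.f80262 IH) (Lpr_dt (f80269 IH) (Lpr_ct (K5.f60871 IH) (Lpr_af (f132797 IH) (Lpn (LP (LK LD1_c1 LD2_c6 LD3_c29))))))))))))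
theorem f132833 : Led Lsl_af (LP (LK LD1_c0 LD2_c40 LD3_c57)) = (LP (LK LD1_c1 LD2_c6 LD3_c30)) :=
  Lgr Lrot45 (Lpr_ft (f132800 IH) (Lpe (f132797 IH) (Lpr_ft (K5.f132831 IH) (Lpn (LP (LK LD1_c1 LD2_c6 LD3_c30))))))
theorem f137336 : Led Lsl_dt (LP (LK LD1_c1 LD2_c22 LD3_c52)) = (LP (LK LD1_c1 LD2_c6 LD3_c30)) :=
  Lgr Lrot44 (Lpr_af (f137328 IH) (Lpe (K4.f83762 IH) (Lpr_af (f132833 IH) (Lpn (LP (LK LD1_c1 LD2_c6 LD3_c30))))))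
theorem f59421 : Led Lsl_dt (LP (LK LD1_c2 LD2_c18 LD3_c56)) = (LP (LK LD1_c4 LD2_c42 LD3_c52)) :=
  Lre_d IH (LK LD1_c2 LD2_c18 LD3_c56) (LK LD1_c4 LD2_c42 LD3_c52) Lrfl Lrfl
theorem f78292 : Led Lsl_dt (LP (LK LD1_c4 LD2_c45 LD3_c41)) = (LP (LK LD1_c2 LD2_c20 LD3_c55)) :=
  Lre_d IH (LK LD1_c4 LD2_c45 LD3_c41) (LK LD1_c2 LD2_c20 LD3_c55) Lrfl Lrfl
theorem f78291 : Led Lsl_ct (LP (LK LD1_c2 LD2_c20 LD3_c55)) = (LP (LK LD1_c4 LD2_c45 LD3_c28)) :=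
  Lre_c IH (LK LD1_c2 LD2_c20 LD3_c55) (LK LD1_c4 LD2_c45 LD3_c28) Lrfl Lrfl
theorem f137451 : Led Lsl_af (LP (LK LD1_c4 LD2_c45 LD3_c28)) = (LP (LK LD1_c6 LD2_c16 LD3_c3)) :=
  Lgr Lrot109 (Lpe (f78291 IH) (Lpe (f78292 IH) (Lpr_cf (K5.f132865 IH) (Lpe (f59421 IH) (Lpe (K5.f59399 IH) (Lpe (f137336 IH) (Lpe (f71141 IH) (Lpe (f71139 IH) (Lpr_ft (f137428 IH) (Lpn (LP (LK LD1_c6 LD2_c16 LD3_c3))))))))))))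
theorem f137412 : Led Lsl_af (LP (LK LD1_c5 LD2_c54 LD3_c35)) = (LP (LK LD1_c3 LD2_c23 LD3_c31)) :=
  Lgr Lrot68 (Lpr_ct (f137406 IH) (Lpr_at (K5.f91357 IH) (Lpr_ct (f91352 IH) (Lpn (LP (LK LD1_c3 LD2_c23 LD3_c31))))))
theorem f137460 : Led Lsl_ft (LP (LK LD1_c4 LD2_c45 LD3_c28)) = (LP (LK LD1_c3 LD2_c23 LD3_c31)) :=
  Lgr Lrot101 (Lpr_af (f137451 IH) (Lpe (f137428 IH) (Lpr_af (f137412 IH) (Lpn (LP (LK LD1_c3 LD2_c23 LD3_c31))))))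
theorem f137468 : Led Lsl_ff (LP (LK LD1_c4 LD2_c45 LD3_c28)) = (LP (LK LD1_c3 LD2_c23 LD3_c31)) :=
  Lgr Lrot3 (Lpr_ft (f137460 IH) (Lpn (LP (LK LD1_c3 LD2_c23 LD3_c31))))
theorem f137453 : Led Lsl_at (LP (LK LD1_c4 LD2_c45 LD3_c28)) = (LP (LK LD1_c6 LD2_c16 LD3_c3)) :=
  Lgr Lrot100 (Lpr_af (f137451 IH) (Lpn (LP (LK LD1_c6 LD2_c16 LD3_c3))))
theorem f83796 : Led Lsl_gt (LP (LK LD1_c3 LD2_c23 LD3_c31)) = (LP (LK LD1_c6 LD2_c50 LD3_c18)) :=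
  Lre_g IH (LK LD1_c3 LD2_c23 LD3_c31) (LK LD1_c6 LD2_c50 LD3_c18) Lrfl Lrfl
theorem f137474 : Led Lsl_gf (LP (LK LD1_c6 LD2_c16 LD3_c3)) = (LP (LK LD1_c6 LD2_c50 LD3_c18)) :=
  Lgr Lrot76 (Lpe (f137453 IH) (Lpr_ff (f137468 IH) (Lpr_gt (f83796 IH) (Lpn (LP (LK LD1_c6 LD2_c50 LD3_c18))))))
theorem f80264 : Led Lsl_dt (LP (LK LD1_c0 LD2_c40 LD3_c58)) = (LP (LK LD1_c1 LD2_c28 LD3_c37)) :=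
  Lre_d IH (LK LD1_c0 LD2_c40 LD3_c58) (LK LD1_c1 LD2_c28 LD3_c37) Lrfl Lrfl
theorem f102097 : Led Lsl_ct (LP (LK LD1_c1 LD2_c28 LD3_c37)) = (LP (LK LD1_c3 LD2_c5 LD3_c7)) :=
  Lre_c IH (LK LD1_c1 LD2_c28 LD3_c37) (LK LD1_c3 LD2_c5 LD3_c7) Lrfl Lrfl
theorem f102098 : Led Lsl_dt (LP (LK LD1_c3 LD2_c5 LD3_c7)) = (LP (LK LD1_c6 LD2_c16 LD3_c3)) :=
  Lre_d IH (LK LD1_c3 LD2_c5 LD3_c7) (LK LD1_c6 LD2_c16 LD3_c3) Lrfl Lrfl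
theorem f133142 : Led Lsl_ct (LP (LK LD1_c6 LD2_c16 LD3_c3)) = (LP (LK LD1_c4 LD2_c45 LD3_c40)) :=
  Lgr Lrot176 (Lpe (f102098 IH) (Lpe (f102097 IH) (Lpe (f80264 IH) (Lpe (K5.f60871 IH) (Lpe (f80269 IH) (Lpe (K5.f80262 IH) (Lpe (f102095 IH) (Lpr_cf (K5.f91320 IH) (Lpe (K5.f83791 IH) (Lpe (K4.f83763 IH) (Lpe (K4.f83762 IH) (Lpe (K5.f59365 IH) (Lpe (K5.f80276 IH) (Lpe (K5.f83802 IH) (Lpr_df (K5.f133138 IH) (Lpn (LP (LK LD1_c4 LD2_c45 LD3_c40))))))))))))))))))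
theorem f14582 : Led Lsl_bt (LP (LK LD1_c3 LD2_c23 LD3_c31)) = (LP (LK LD1_c1 LD2_c38 LD3_c6)) :=
  Lre_b IH (LK LD1_c3 LD2_c23 LD3_c31) (LK LD1_c1 LD2_c38 LD3_c6) Lrfl Lrfl
theorem f40372 : Led Lsl_bt (LP (LK LD1_c1 LD2_c38 LD3_c7)) = (LP (LK LD1_c0 LD2_c45 LD3_c29)) :=
  Lre_b IH (LK LD1_c1 LD2_c38 LD3_c7) (LK LD1_c0 LD2_c45 LD3_c29) Lrfl Lrfl
theorem f69005 : Led Lsl_ct (LP (LK LD1_c3 LD2_c23 LD3_c60)) = (LP (LK LD1_c1 LD2_c38 LD3_c17)) :=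
  Lre_c IH (LK LD1_c3 LD2_c23 LD3_c60) (LK LD1_c1 LD2_c38 LD3_c17) Lrfl Lrfl
theorem f69023 : Led Lsl_bt (LP (LK LD1_c1 LD2_c24 LD3_c6)) = (LP (LK LD1_c2 LD2_c56 LD3_c34)) :=
  Lre_b IH (LK LD1_c1 LD2_c24 LD3_c6) (LK LD1_c2 LD2_c56 LD3_c34) Lrfl Lrfl
theorem f69024 : Led Lsl_ct (LP (LK LD1_c2 LD2_c56 LD3_c34)) = (LP (LK LD1_c6 LD2_c0 LD3_c40)) :=
  Lre_c IH (LK LD1_c2 LD2_c56 LD3_c34) (LK LD1_c6 LD2_c0 LD3_c40) Lrfl Lrfl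
theorem f69025 : Led Lsl_bt (LP (LK LD1_c6 LD2_c0 LD3_c40)) = (LP (LK LD1_c3 LD2_c23 LD3_c60)) :=
  Lgr Lrot128 (Lpe (f69024 IH) (Lpe (f69023 IH) (Lpe (K4.f26425 IH) (Lpr_bf (K4.f69015 IH) (Lpe (f69005 IH) (Lpn (LP (LK LD1_c3 LD2_c23 LD3_c60))))))))
theorem f69028 : Led Lsl_bf (LP (LK LD1_c6 LD2_c0 LD3_c40)) = (LP (LK LD1_c3 LD2_c23 LD3_c60)) :=
  Lgr Lrot24 (Lpr_bt (f69025 IH) (Lpn (LP (LK LD1_c3 LD2_c23 LD3_c60))))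
theorem f26485 : Led Lsl_bt (LP (LK LD1_c0 LD2_c38 LD3_c53)) = (LP (LK LD1_c0 LD2_c17 LD3_c16)) :=
  Lre_b IH (LK LD1_c0 LD2_c38 LD3_c53) (LK LD1_c0 LD2_c17 LD3_c16) Lrfl Lrfl
theorem f26505 : Led Lsl_ct (LP (LK LD1_c1 LD2_c24 LD3_c16)) = (LP (LK LD1_c0 LD2_c38 LD3_c53)) :=
  Lre_c IH (LK LD1_c1 LD2_c24 LD3_c16) (LK LD1_c0 LD2_c38 LD3_c53) Lrfl Lrfl
theorem f37430 : Led Lsl_dt (LP (LK LD1_c2 LD2_c57 LD3_c1)) = (LP (LK LD1_c1 LD2_c24 LD3_c16)) :=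
  Lre_d IH (LK LD1_c2 LD2_c57 LD3_c1) (LK LD1_c1 LD2_c24 LD3_c16) Lrfl Lrfl
theorem f79935 : Led Lsl_gf (LP (LK LD1_c2 LD2_c57 LD3_c1)) = (LP (LK LD1_c6 LD2_c0 LD3_c40)) :=
  Lgr Lrot85 (Lpr_dt (f37430 IH) (Lpr_ct (f26505 IH) (Lpr_bt (f26485 IH) (Lpr_gt (K1.f20554 IH) (Lpr_dt (K0.f20553 IH) (Lpr_ct (K0.f20552 IH) (Lpr_bt (K1.f35579 IH) (Lpr_gt (K1.f37384 IH) (Lpe (K1.f37439 IH) (Lpr_ct (K0.f35392 IH) (Lpr_bt (K0.f27192 IH) (Lpe (K0.f35513 IH) (Lpr_dt (K2.f60893 IH) (Lpr_ct (K1.f23013 IH) (Lpr_bt (K2.f60849 IH) (Lpr_gt (K4.f60852 IH) (Lpr_dt (K4.f79929 IH) (Lpr_ct (K4.f69000 IH) (Lpe (f69028 IH) (Lpn (LP (LK LD1_c6 LD2_c0 LD3_c40))))))))))))))))))))))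
theorem f26518 : Led Lsl_ct (LP (LK LD1_c2 LD2_c57 LD3_c1)) = (LP (LK LD1_c6 LD2_c1 LD3_c50)) :=
  Lre_c IH (LK LD1_c2 LD2_c57 LD3_c1) (LK LD1_c6 LD2_c1 LD3_c50) Lrfl Lrfl
theorem f91358 : Led Lsl_gf (LP (LK LD1_c4 LD2_c45 LD3_c6)) = (LP (LK LD1_c6 LD2_c1 LD3_c50)) :=
  Lgr Lrot129 (Lpr_cf (K5.f91320 IH) (Lpr_bt (f14582 IH) (Lpr_gt (K2.f14577 IH) (Lpe (f40372 IH) (Lpr_ct (K2.f40338 IH) (Lpr_gt (K4.f23589 IH) (Lpe (f69005 IH) (Lpe (f69028 IH) (Lpe (f79935 IH) (Lpr_ct (f26518 IH) (Lpn (LP (LK LD1_c6 LD2_c1 LD3_c50)))))))))))))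
theorem f133157 : Led Lsl_gf (LP (LK LD1_c6 LD2_c1 LD3_c50)) = (LP (LK LD1_c4 LD2_c45 LD3_c40)) :=
  Lgr Lrot47 (Lpe (f91358 IH) (Lpe (K5.f91357 IH) (Lpr_ff (K5.f133146 IH) (Lpn (LP (LK LD1_c4 LD2_c45 LD3_c40))))))
theorem f69145 : Led Lsl_ct (LP (LK LD1_c6 LD2_c1 LD3_c50)) = (LP (LK LD1_c2 LD2_c57 LD3_c1)) :=
  Lre_c IH (LK LD1_c6 LD2_c1 LD3_c50) (LK LD1_c2 LD2_c57 LD3_c1) Lrfl Lrfl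
theorem f26503 : Led Lsl_dt (LP (LK LD1_c1 LD2_c24 LD3_c16)) = (LP (LK LD1_c2 LD2_c57 LD3_c1)) :=
  Lre_d IH (LK LD1_c1 LD2_c24 LD3_c16) (LK LD1_c2 LD2_c57 LD3_c1) Lrfl Lrfl
theorem f56893 : Led Lsl_ct (LP (LK LD1_c0 LD2_c32 LD3_c54)) = (LP (LK LD1_c1 LD2_c10 LD3_c60)) :=
  Lre_c IH (LK LD1_c0 LD2_c32 LD3_c54) (LK LD1_c1 LD2_c10 LD3_c60) Lrfl Lrfl
theorem f58902 : Led Lsl_bt (LP (LK LD1_c1 LD2_c10 LD3_c60)) = (LP (LK LD1_c1 LD2_c30 LD3_c21)) :=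
  Lgr Lrot128 (Lpe (f56893 IH) (Lpe (K5.f40309 IH) (Lpr_cf (K1.f58852 IH) (Lpe (K2.f58900 IH) (Lpe (K2.f58901 IH) (Lpn (LP (LK LD1_c1 LD2_c30 LD3_c21))))))))
theorem f68993 : Led Lsl_gt (LP (LK LD1_c1 LD2_c10 LD3_c59)) = (LP (LK LD1_c0 LD2_c32 LD3_c54)) :=
  Lre_g IH (LK LD1_c1 LD2_c10 LD3_c59) (LK LD1_c0 LD2_c32 LD3_c54) Lrfl Lrfl
theorem f74382 : Led Lsl_ct (LP (LK LD1_c2 LD2_c27 LD3_c37)) = (LP (LK LD1_c1 LD2_c10 LD3_c59)) :=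
  Lre_c IH (LK LD1_c2 LD2_c27 LD3_c37) (LK LD1_c1 LD2_c10 LD3_c59) Lrfl Lrfl
theorem f76104 : Led Lsl_bt (LP (LK LD1_c2 LD2_c27 LD3_c37)) = (LP (LK LD1_c4 LD2_c59 LD3_c33)) :=
  Lre_b IH (LK LD1_c2 LD2_c27 LD3_c37) (LK LD1_c4 LD2_c59 LD3_c33) Lrfl Lrfl
theorem f79342 : Led Lsl_gt (LP (LK LD1_c6 LD2_c25 LD3_c59)) = (LP (LK LD1_c4 LD2_c59 LD3_c33)) :=
  Lgr Lrot164 (Lpr_bf (K5.f79161 IH) (Lpr_ct (K4.f23567 IH) (Lpr_gf (K3.f79252 IH) (Lpr_cf (K4.f79334 IH) (Lpe (K2.f77775 IH) (Lpe (f58902 IH) (Lpr_ct (K4.f56883 IH) (Lpe (f68993 IH) (Lpe (f74382 IH) (Lpr_bt (f76104 IH) (Lpn (LP (LK LD1_c4 LD2_c59 LD3_c33)))))))))))))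
theorem f68984 : Led Lsl_bt (LP (LK LD1_c0 LD2_c8 LD3_c31)) = (LP (LK LD1_c0 LD2_c18 LD3_c57)) :=
  Lre_b IH (LK LD1_c0 LD2_c8 LD3_c31) (LK LD1_c0 LD2_c18 LD3_c57) Lrfl Lrfl
theorem f68986 : Led Lsl_bf (LP (LK LD1_c1 LD2_c24 LD3_c16)) = (LP (LK LD1_c0 LD2_c42 LD3_c29)) :=
  Lgr Lrot90 (Lpr_ct (f26505 IH) (Lpr_bt (f26485 IH) (Lpr_ct (K4.f68570 IH) (Lpr_bt (f68984 IH) (Lpr_ct (K2.f68985 IH) (Lpn (LP (LK LD1_c0 LD2_c42 LD3_c29))))))))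
theorem f69127 : Led Lsl_bt (LP (LK LD1_c1 LD2_c24 LD3_c16)) = (LP (LK LD1_c0 LD2_c42 LD3_c29)) :=
  Lgr Lrot127 (Lpr_bf (f68986 IH) (Lpn (LP (LK LD1_c0 LD2_c42 LD3_c29))))
theorem f74384 : Led Lsl_ct (LP (LK LD1_c9 LD2_c49 LD3_c25)) = (LP (LK LD1_c4 LD2_c59 LD3_c33)) :=
  Lre_c IH (LK LD1_c9 LD2_c49 LD3_c25) (LK LD1_c4 LD2_c59 LD3_c33) Lrfl Lrfl
theorem f79346 : Led Lsl_bt (LP (LK LD1_c9 LD2_c49 LD3_c25)) = (LP (LK LD1_c4 LD2_c59 LD3_c31)) :=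
  Lre_b IH (LK LD1_c9 LD2_c49 LD3_c25) (LK LD1_c4 LD2_c59 LD3_c31) Lrfl Lrfl
theorem f79347 : Led Lsl_gf (LP (LK LD1_c2 LD2_c53 LD3_c14)) = (LP (LK LD1_c4 LD2_c59 LD3_c31)) :=
  Lgr Lrot181 (Lpr_ct (f69188 IH) (Lpr_gt (K4.f68997 IH) (Lpe (f26505 IH) (Lpr_bt (f69127 IH) (Lpr_gt (K2.f69185 IH) (Lpe (K5.f69189 IH) (Lpr_ct (K5.f69190 IH) (Lpr_gt (f79342 IH) (Lpe (f74384 IH) (Lpr_bt (f79346 IH) (Lpn (LP (LK LD1_c4 LD2_c59 LD3_c31)))))))))))))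
theorem f137478 : Led Lsl_df (LP (LK LD1_c4 LD2_c59 LD3_c31)) = (LP (LK LD1_c6 LD2_c50 LD3_c18)) :=
  Lgr Lrot155 (Lpe (f79347 IH) (Lpr_ct (f69188 IH) (Lpr_gt (K4.f68997 IH) (Lpr_ct (K4.f26486 IH) (Lpr_dt (f26503 IH) (Lpe (f69145 IH) (Lpr_gf (f133157 IH) (Lpe (f133142 IH) (Lpr_gf (f137474 IH) (Lpn (LP (LK LD1_c6 LD2_c50 LD3_c18))))))))))))
theorem f104380 : Led Lsl_dt (LP (LK LD1_c5 LD2_c53 LD3_c31)) = (LP (LK LD1_c4 LD2_c44 LD3_c48)) :=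
  Lgr Lrot44 (Lpr_af (f104373 IH) (Lpe (f102923 IH) (Lpe (f102913 IH) (Lpn (LP (LK LD1_c4 LD2_c44 LD3_c48))))))
theorem f137489 : Led Lsl_gf (LP (LK LD1_c5 LD2_c53 LD3_c31)) = (LP (LK LD1_c3 LD2_c4 LD3_c14)) :=
  Lgr Lrot143 (Lpr_dt (f104380 IH) (Lpe (f104459 IH) (Lpe (f79351 IH) (Lpr_gf (f79347 IH) (Lpr_df (f137478 IH) (Lpe (f83796 IH) (Lpe (f91352 IH) (Lpe (f99135 IH) (Lpr_dt (f38098 IH) (Lpn (LP (LK LD1_c3 LD2_c4 LD3_c14))))))))))))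
theorem f137492 : Led Lsl_gt (LP (LK LD1_c5 LD2_c53 LD3_c44)) = (LP (LK LD1_c3 LD2_c4 LD3_c14)) :=
  Lgr Lrot5 (Lpr_ft (f104366 IH) (Lpe (f104373 IH) (Lpr_gf (f137489 IH) (Lpn (LP (LK LD1_c3 LD2_c4 LD3_c14))))))
theorem f38024 : Led Lsl_ct (LP (LK LD1_c1 LD2_c28 LD3_c9)) = (LP (LK LD1_c3 LD2_c4 LD3_c14)) :=
  Lre_c IH (LK LD1_c1 LD2_c28 LD3_c9) (LK LD1_c3 LD2_c4 LD3_c14) Lrfl Lrfl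
theorem f70441 : Led Lsl_bt (LP (LK LD1_c1 LD2_c1 LD3_c56)) = (LP (LK LD1_c2 LD2_c9 LD3_c37)) :=
  Lre_b IH (LK LD1_c1 LD2_c1 LD3_c56) (LK LD1_c2 LD2_c9 LD3_c37) Lrfl Lrfl
theorem f70446 : Led Lsl_gt (LP (LK LD1_c2 LD2_c9 LD3_c37)) = (LP (LK LD1_c4 LD2_c24 LD3_c19)) :=
  Lre_g IH (LK LD1_c2 LD2_c9 LD3_c37) (LK LD1_c4 LD2_c24 LD3_c19) Lrfl Lrfl
theorem f137512 : Led Lsl_bt (LP (LK LD1_c2 LD2_c53 LD3_c13)) = (LP (LK LD1_c4 LD2_c24 LD3_c19)) :=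
  Lgr Lrot92 (Lpr_ct (f101751 IH) (Lpr_gt (f137492 IH) (Lpe (f38024 IH) (Lpr_bt (f38023 IH) (Lpe (K2.f38015 IH) (Lpr_ct (K4.f16615 IH) (Lpr_gt (K2.f38005 IH) (Lpr_cf (K2.f70229 IH) (Lpr_bt (f70441 IH) (Lpr_gt (f70446 IH) (Lpn (LP (LK LD1_c4 LD2_c24 LD3_c19)))))))))))))
theorem f137517 : Led Lsl_et (LP (LK LD1_c5 LD2_c53 LD3_c45)) = (LP (LK LD1_c2 LD2_c53 LD3_c13)) :=
  Lre_e IH (LK LD1_c5 LD2_c53 LD3_c45) (LK LD1_c2 LD2_c53 LD3_c13) Lrfl Lrfl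
theorem f137518 : Led Lsl_et (LP (LK LD1_c4 LD2_c24 LD3_c19)) = (LP (LK LD1_c8 LD2_c46 LD3_c15)) :=
  Lre_e IH (LK LD1_c4 LD2_c24 LD3_c19) (LK LD1_c8 LD2_c46 LD3_c15) Lrfl Lrfl
theorem f137519 : Led Lsl_bf (LP (LK LD1_c5 LD2_c53 LD3_c45)) = (LP (LK LD1_c8 LD2_c46 LD3_c15)) :=
  Lgr Lrot96 (Lpr_et (f137517 IH) (Lpr_bt (f137512 IH) (Lpr_et (f137518 IH) (Lpn (LP (LK LD1_c8 LD2_c46 LD3_c15))))))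
theorem f104580 : Led Lsl_ct (LP (LK LD1_c5 LD2_c53 LD3_c45)) = (LP (LK LD1_c11 LD2_c33 LD3_c24)) :=
  Lre_c IH (LK LD1_c5 LD2_c53 LD3_c45) (LK LD1_c11 LD2_c33 LD3_c24) Lrfl Lrfl
theorem f104353 : Led Lsl_et (LP (LK LD1_c11 LD2_c33 LD3_c24)) = (LP (LK LD1_c5 LD2_c53 LD3_c44)) :=
  Lre_e IH (LK LD1_c11 LD2_c33 LD3_c24) (LK LD1_c5 LD2_c53 LD3_c44) Lrfl Lrfl
theorem f78656 : Led Lsl_et (LP (LK LD1_c4 LD2_c40 LD3_c25)) = (LP (LK LD1_c9 LD2_c16 LD3_c13)) :=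
  Lre_e IH (LK LD1_c4 LD2_c40 LD3_c25) (LK LD1_c9 LD2_c16 LD3_c13) Lrfl Lrfl
theorem f104354 : Led Lsl_bf (LP (LK LD1_c11 LD2_c33 LD3_c24)) = (LP (LK LD1_c9 LD2_c16 LD3_c13)) :=
  Lgr Lrot96 (Lpr_et (f104353 IH) (Lpr_bt (f104321 IH) (Lpr_et (f78656 IH) (Lpn (LP (LK LD1_c9 LD2_c16 LD3_c13))))))
theorem f104577 : Led Lsl_bt (LP (LK LD1_c11 LD2_c33 LD3_c24)) = (LP (LK LD1_c9 LD2_c16 LD3_c13)) :=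
  Lgr Lrot127 (Lpr_bf (f104354 IH) (Lpn (LP (LK LD1_c9 LD2_c16 LD3_c13))))
theorem f102026 : Led Lsl_et (LP (LK LD1_c9 LD2_c16 LD3_c29)) = (LP (LK LD1_c4 LD2_c40 LD3_c33)) :=
  Lre_e IH (LK LD1_c9 LD2_c16 LD3_c29) (LK LD1_c4 LD2_c40 LD3_c33) Lrfl Lrfl
theorem f110514 : Led Lsl_ct (LP (LK LD1_c9 LD2_c16 LD3_c13)) = (LP (LK LD1_c9 LD2_c16 LD3_c29)) :=
  Lgr Lrot15 (Lpe (f78656 IH) (Lpr_cf (K4.f110350 IH) (Lpe (f102026 IH) (Lpn (LP (LK LD1_c9 LD2_c16 LD3_c29))))))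
theorem f137523 : Led Lsl_ct (LP (LK LD1_c16 LD2_c24 LD3_c34)) = (LP (LK LD1_c8 LD2_c46 LD3_c15)) :=
  Lre_c IH (LK LD1_c16 LD2_c24 LD3_c34) (LK LD1_c8 LD2_c46 LD3_c15) Lrfl Lrfl
theorem f137524 : Led Lsl_bt (LP (LK LD1_c9 LD2_c16 LD3_c29)) = (LP (LK LD1_c16 LD2_c24 LD3_c34)) :=
  Lgr Lrot128 (Lpe (f110514 IH) (Lpe (f104577 IH) (Lpe (f104580 IH) (Lpr_bf (f137519 IH) (Lpe (f137523 IH) (Lpn (LP (LK LD1_c16 LD2_c24 LD3_c34))))))))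
theorem f137530 : Led Lsl_bf (LP (LK LD1_c9 LD2_c16 LD3_c29)) = (LP (LK LD1_c16 LD2_c24 LD3_c34)) :=
  Lgr Lrot24 (Lpr_bt (f137524 IH) (Lpn (LP (LK LD1_c16 LD2_c24 LD3_c34))))
theorem f137533 : Led Lsl_et (LP (LK LD1_c8 LD2_c46 LD3_c14)) = (LP (LK LD1_c16 LD2_c24 LD3_c34)) :=
  Lre_e IH (LK LD1_c8 LD2_c46 LD3_c14) (LK LD1_c16 LD2_c24 LD3_c34) Lrfl Lrfl
theorem f137534 : Led Lsl_bt (LP (LK LD1_c4 LD2_c40 LD3_c33)) = (LP (LK LD1_c8 LD2_c46 LD3_c14)) :=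
  Lgr Lrot119 (Lpe (f102026 IH) (Lpr_bf (f137530 IH) (Lpe (f137533 IH) (Lpn (LP (LK LD1_c8 LD2_c46 LD3_c14))))))
theorem f58262 : Led Lsl_bt (LP (LK LD1_c4 LD2_c40 LD3_c32)) = (LP (LK LD1_c2 LD2_c17 LD3_c21)) :=
  Lre_b IH (LK LD1_c4 LD2_c40 LD3_c32) (LK LD1_c2 LD2_c17 LD3_c21) Lrfl Lrfl
theorem f137536 : Led Lsl_df (LP (LK LD1_c4 LD2_c40 LD3_c32)) = (LP (LK LD1_c8 LD2_c46 LD3_c14)) :=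
  Lgr Lrot12 (Lpr_bt (f58262 IH) (Lpr_dt (K4.f58261 IH) (Lpr_bt (f137534 IH) (Lpn (LP (LK LD1_c8 LD2_c46 LD3_c14))))))
theorem f61793 : Led Lsl_bt (LP (LK LD1_c3 LD2_c6 LD3_c26)) = (LP (LK LD1_c6 LD2_c18 LD3_c21)) :=
  Lre_b IH (LK LD1_c3 LD2_c6 LD3_c26) (LK LD1_c6 LD2_c18 LD3_c21) Lrfl Lrfl
theorem f110923 : Led Lsl_ct (LP (LK LD1_c6 LD2_c18 LD3_c21)) = (LP (LK LD1_c4 LD2_c40 LD3_c32)) :=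
  Lgr Lrot83 (Lpe (f61793 IH) (Lpe (K3.f61785 IH) (Lpr_bf (K4.f110327 IH) (Lpr_cf (K5.f110346 IH) (Lpe (f58262 IH) (Lpn (LP (LK LD1_c4 LD2_c40 LD3_c32))))))))
theorem f110928 : Led Lsl_cf (LP (LK LD1_c6 LD2_c18 LD3_c21)) = (LP (LK LD1_c4 LD2_c40 LD3_c32)) :=
  Lgr Lrot11 (Lpr_ct (f110923 IH) (Lpn (LP (LK LD1_c4 LD2_c40 LD3_c32))))
theorem f74562 : Led Lsl_bt (LP (LK LD1_c2 LD2_c17 LD3_c22)) = (LP (LK LD1_c1 LD2_c5 LD3_c38)) :=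
  Lre_b IH (LK LD1_c2 LD2_c17 LD3_c22) (LK LD1_c1 LD2_c5 LD3_c38) Lrfl Lrfl
theorem f110936 : Led Lsl_gf (LP (LK LD1_c6 LD2_c18 LD3_c21)) = (LP (LK LD1_c11 LD2_c41 LD3_c11)) :=
  Lgr Lrot129 (Lpr_cf (f110928 IH) (Lpr_bt (f58262 IH) (Lpr_gt (K4.f13666 IH) (Lpe (f74562 IH) (Lpr_ct (K2.f22838 IH) (Lpr_gt (K2.f74540 IH) (Lpe (K4.f72531 IH) (Lpr_bt (K2.f37294 IH) (Lpr_gt (K2.f37295 IH) (Lpr_ct (K5.f74563 IH) (Lpn (LP (LK LD1_c11 LD2_c41 LD3_c11)))))))))))))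
theorem f81655 : Led Lsl_dt (LP (LK LD1_c2 LD2_c55 LD3_c30)) = (LP (LK LD1_c5 LD2_c58 LD3_c19)) :=
  Lre_d IH (LK LD1_c2 LD2_c55 LD3_c30) (LK LD1_c5 LD2_c58 LD3_c19) Lrfl Lrfl
theorem f70447 : Led Lsl_ct (LP (LK LD1_c4 LD2_c24 LD3_c19)) = (LP (LK LD1_c8 LD2_c46 LD3_c14)) :=
  Lre_c IH (LK LD1_c4 LD2_c24 LD3_c19) (LK LD1_c8 LD2_c46 LD3_c14) Lrfl Lrfl
theorem f70430 : Led Lsl_ct (LP (LK LD1_c4 LD2_c24 LD3_c21)) = (LP (LK LD1_c2 LD2_c9 LD3_c37)) :=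
  Lre_c IH (LK LD1_c4 LD2_c24 LD3_c21) (LK LD1_c2 LD2_c9 LD3_c37) Lrfl Lrfl
theorem f137547 : Led Lsl_gt (LP (LK LD1_c5 LD2_c58 LD3_c19)) = (LP (LK LD1_c4 LD2_c24 LD3_c21)) :=
  Lgr Lrot9 (Lpe (f81655 IH) (Lpr_gt (K2.f37295 IH) (Lpr_ct (K5.f74563 IH) (Lpe (f110936 IH) (Lpr_ct (f110923 IH) (Lpr_df (f137536 IH) (Lpe (f70447 IH) (Lpe (f70446 IH) (Lpe (f70430 IH) (Lpn (LP (LK LD1_c4 LD2_c24 LD3_c21))))))))))))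
theorem f137551 : Led Lsl_ft (LP (LK LD1_c5 LD2_c58 LD3_c19)) = (LP (LK LD1_c11 LD2_c41 LD3_c19)) :=
  Lre_f IH (LK LD1_c5 LD2_c58 LD3_c19) (LK LD1_c11 LD2_c41 LD3_c19) Lrfl Lrfl
theorem f70462 : Led Lsl_gt (LP (LK LD1_c4 LD2_c24 LD3_c21)) = (LP (LK LD1_c8 LD2_c46 LD3_c19)) :=
  Lre_g IH (LK LD1_c4 LD2_c24 LD3_c21) (LK LD1_c8 LD2_c46 LD3_c19) Lrfl Lrfl
theorem f137552 : Led Lsl_at (LP (LK LD1_c11 LD2_c41 LD3_c19)) = (LP (LK LD1_c8 LD2_c46 LD3_c19)) :=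
  Lgr Lrot26 (Lpe (f137551 IH) (Lpr_gt (f137547 IH) (Lpr_gt (f70462 IH) (Lpn (LP (LK LD1_c8 LD2_c46 LD3_c19))))))
theorem f74698 : Led Lsl_dt (LP (LK LD1_c5 LD2_c58 LD3_c19)) = (LP (LK LD1_c2 LD2_c55 LD3_c30)) :=
  Lre_d IH (LK LD1_c5 LD2_c58 LD3_c19) (LK LD1_c2 LD2_c55 LD3_c30) Lrfl Lrfl
theorem f74697 : Led Lsl_ct (LP (LK LD1_c2 LD2_c55 LD3_c30)) = (LP (LK LD1_c5 LD2_c57 LD3_c38)) :=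
  Lre_c IH (LK LD1_c2 LD2_c55 LD3_c30) (LK LD1_c5 LD2_c57 LD3_c38) Lrfl Lrfl
theorem f38099 : Led Lsl_bt (LP (LK LD1_c0 LD2_c28 LD3_c24)) = (LP (LK LD1_c1 LD2_c2 LD3_c14)) :=
  Lre_b IH (LK LD1_c0 LD2_c28 LD3_c24) (LK LD1_c1 LD2_c2 LD3_c14) Lrfl Lrfl
theorem f38100 : Led Lsl_gt (LP (LK LD1_c1 LD2_c2 LD3_c14)) = (LP (LK LD1_c2 LD2_c10 LD3_c22)) :=
  Lre_g IH (LK LD1_c1 LD2_c2 LD3_c14) (LK LD1_c2 LD2_c10 LD3_c22) Lrfl Lrfl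
theorem f38101 : Led Lsl_ct (LP (LK LD1_c2 LD2_c10 LD3_c22)) = (LP (LK LD1_c4 LD2_c26 LD3_c11)) :=
  Lre_c IH (LK LD1_c2 LD2_c10 LD3_c22) (LK LD1_c4 LD2_c26 LD3_c11) Lrfl Lrfl
theorem f38102 : Led Lsl_gt (LP (LK LD1_c4 LD2_c26 LD3_c11)) = (LP (LK LD1_c8 LD2_c49 LD3_c45)) :=
  Lre_g IH (LK LD1_c4 LD2_c26 LD3_c11) (LK LD1_c8 LD2_c49 LD3_c45) Lrfl Lrfl
theorem f70442 : Led Lsl_gt (LP (LK LD1_c4 LD2_c24 LD3_c20)) = (LP (LK LD1_c2 LD2_c9 LD3_c37)) :=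
  Lre_g IH (LK LD1_c4 LD2_c24 LD3_c20) (LK LD1_c2 LD2_c9 LD3_c37) Lrfl Lrfl
theorem f70443 : Led Lsl_bt (LP (LK LD1_c8 LD2_c46 LD3_c16)) = (LP (LK LD1_c4 LD2_c24 LD3_c20)) :=
  Lre_b IH (LK LD1_c8 LD2_c46 LD3_c16) (LK LD1_c4 LD2_c24 LD3_c20) Lrfl Lrfl
theorem f70444 : Led Lsl_cf (LP (LK LD1_c8 LD2_c49 LD3_c45)) = (LP (LK LD1_c8 LD2_c46 LD3_c16)) :=
  Lgr Lrot163 (Lpe (f38102 IH) (Lpe (f38101 IH) (Lpe (f38100 IH) (Lpe (f38099 IH) (Lpr_ct (K0.f16567 IH) (Lpr_gf (K2.f38015 IH) (Lpr_cf (K2.f70229 IH) (Lpr_bt (f70441 IH) (Lpe (f70442 IH) (Lpe (f70443 IH) (Lpn (LP (LK LD1_c8 LD2_c46 LD3_c16)))))))))))))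
theorem f70454 : Led Lsl_ct (LP (LK LD1_c8 LD2_c49 LD3_c45)) = (LP (LK LD1_c8 LD2_c46 LD3_c16)) :=
  Lgr Lrot59 (Lpr_cf (f70444 IH) (Lpn (LP (LK LD1_c8 LD2_c46 LD3_c16))))
theorem f70484 : Led Lsl_dt (LP (LK LD1_c0 LD2_c28 LD3_c23)) = (LP (LK LD1_c1 LD2_c2 LD3_c14)) :=
  Lre_d IH (LK LD1_c0 LD2_c28 LD3_c23) (LK LD1_c1 LD2_c2 LD3_c14) Lrfl Lrfl
theorem f35893 : Led Lsl_gt (LP (LK LD1_c0 LD2_c28 LD3_c23)) = (LP (LK LD1_c1 LD2_c2 LD3_c11)) :=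
  Lre_g IH (LK LD1_c0 LD2_c28 LD3_c23) (LK LD1_c1 LD2_c2 LD3_c11) Lrfl Lrfl
theorem f38523 : Led Lsl_ct (LP (LK LD1_c1 LD2_c2 LD3_c11)) = (LP (LK LD1_c2 LD2_c10 LD3_c13)) :=
  Lre_c IH (LK LD1_c1 LD2_c2 LD3_c11) (LK LD1_c2 LD2_c10 LD3_c13) Lrfl Lrfl
theorem f38522 : Led Lsl_gt (LP (LK LD1_c2 LD2_c10 LD3_c13)) = (LP (LK LD1_c4 LD2_c25 LD3_c46)) :=
  Lre_g IH (LK LD1_c2 LD2_c10 LD3_c13) (LK LD1_c4 LD2_c25 LD3_c46) Lrfl Lrfl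
theorem f70481 : Led Lsl_ct (LP (LK LD1_c4 LD2_c25 LD3_c46)) = (LP (LK LD1_c4 LD2_c24 LD3_c42)) :=
  Lre_c IH (LK LD1_c4 LD2_c25 LD3_c46) (LK LD1_c4 LD2_c24 LD3_c42) Lrfl Lrfl
theorem f70485 : Led Lsl_df (LP (LK LD1_c4 LD2_c24 LD3_c42)) = (LP (LK LD1_c8 LD2_c46 LD3_c16)) :=
  Lgr Lrot162 (Lpe (f70481 IH) (Lpe (f38522 IH) (Lpe (f38523 IH) (Lpe (f35893 IH) (Lpr_dt (f70484 IH) (Lpr_gt (f38100 IH) (Lpr_ct (f38101 IH) (Lpr_gt (f38102 IH) (Lpr_ct (f70454 IH) (Lpn (LP (LK LD1_c8 LD2_c46 LD3_c16))))))))))))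
theorem f36007 : Led Lsl_bt (LP (LK LD1_c4 LD2_c24 LD3_c42)) = (LP (LK LD1_c2 LD2_c9 LD3_c50)) :=
  Lre_b IH (LK LD1_c4 LD2_c24 LD3_c42) (LK LD1_c2 LD2_c9 LD3_c50) Lrfl Lrfl
theorem f70449 : Led Lsl_bt (LP (LK LD1_c4 LD2_c24 LD3_c20)) = (LP (LK LD1_c8 LD2_c46 LD3_c16)) :=
  Lre_b IH (LK LD1_c4 LD2_c24 LD3_c20) (LK LD1_c8 LD2_c46 LD3_c16) Lrfl Lrfl
theorem f70488 : Led Lsl_dt (LP (LK LD1_c2 LD2_c9 LD3_c50)) = (LP (LK LD1_c4 LD2_c24 LD3_c20)) :=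
  Lgr Lrot79 (Lpe (f36007 IH) (Lpr_df (f70485 IH) (Lpe (f70449 IH) (Lpn (LP (LK LD1_c4 LD2_c24 LD3_c20))))))
theorem f36004 : Led Lsl_gt (LP (LK LD1_c2 LD2_c9 LD3_c50)) = (LP (LK LD1_c1 LD2_c2 LD3_c0)) :=
  Lre_g IH (LK LD1_c2 LD2_c9 LD3_c50) (LK LD1_c1 LD2_c2 LD3_c0) Lrfl Lrfl
theorem f38008 : Led Lsl_gt (LP (LK LD1_c1 LD2_c2 LD3_c8)) = (LP (LK LD1_c2 LD2_c10 LD3_c2)) :=
  Lre_g IH (LK LD1_c1 LD2_c2 LD3_c8) (LK LD1_c2 LD2_c10 LD3_c2) Lrfl Lrfl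
theorem f38517 : Led Lsl_ct (LP (LK LD1_c2 LD2_c10 LD3_c2)) = (LP (LK LD1_c4 LD2_c25 LD3_c14)) :=
  Lre_c IH (LK LD1_c2 LD2_c10 LD3_c2) (LK LD1_c4 LD2_c25 LD3_c14) Lrfl Lrfl
theorem f38519 : Led Lsl_dt (LP (LK LD1_c8 LD2_c48 LD3_c1)) = (LP (LK LD1_c4 LD2_c25 LD3_c14)) :=
  Lre_d IH (LK LD1_c8 LD2_c48 LD3_c1) (LK LD1_c4 LD2_c25 LD3_c14) Lrfl Lrfl
theorem f70461 : Led Lsl_ct (LP (LK LD1_c2 LD2_c9 LD3_c37)) = (LP (LK LD1_c4 LD2_c24 LD3_c21)) :=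
  Lre_c IH (LK LD1_c2 LD2_c9 LD3_c37) (LK LD1_c4 LD2_c24 LD3_c21) Lrfl Lrfl
theorem f70497 : Led Lsl_cf (LP (LK LD1_c8 LD2_c48 LD3_c1)) = (LP (LK LD1_c8 LD2_c46 LD3_c19)) :=
  Lgr Lrot175 (Lpr_dt (f38519 IH) (Lpe (f38517 IH) (Lpe (f38008 IH) (Lpr_cf (K1.f38484 IH) (Lpe (f36004 IH) (Lpr_dt (f70488 IH) (Lpr_gt (f70442 IH) (Lpr_ct (f70461 IH) (Lpr_gt (f70462 IH) (Lpn (LP (LK LD1_c8 LD2_c46 LD3_c19))))))))))))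
theorem f70503 : Led Lsl_ct (LP (LK LD1_c8 LD2_c48 LD3_c1)) = (LP (LK LD1_c8 LD2_c46 LD3_c19)) :=
  Lgr Lrot59 (Lpr_cf (f70497 IH) (Lpn (LP (LK LD1_c8 LD2_c46 LD3_c19))))
theorem f38518 : Led Lsl_dt (LP (LK LD1_c4 LD2_c25 LD3_c14)) = (LP (LK LD1_c8 LD2_c48 LD3_c1)) :=
  Lre_d IH (LK LD1_c4 LD2_c25 LD3_c14) (LK LD1_c8 LD2_c48 LD3_c1) Lrfl Lrfl
theorem f38548 : Led Lsl_dt (LP (LK LD1_c4 LD2_c25 LD3_c15)) = (LP (LK LD1_c2 LD2_c10 LD3_c2)) :=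
  Lre_d IH (LK LD1_c4 LD2_c25 LD3_c15) (LK LD1_c2 LD2_c10 LD3_c2) Lrfl Lrfl
theorem f70511 : Led Lsl_ct (LP (LK LD1_c8 LD2_c48 LD3_c2)) = (LP (LK LD1_c4 LD2_c25 LD3_c15)) :=
  Lre_c IH (LK LD1_c8 LD2_c48 LD3_c2) (LK LD1_c4 LD2_c25 LD3_c15) Lrfl Lrfl
theorem f137569 : Led Lsl_dt (LP (LK LD1_c5 LD2_c57 LD3_c38)) = (LP (LK LD1_c8 LD2_c48 LD3_c2)) :=
  Lgr Lrot32 (Lpe (f74697 IH) (Lpe (f74698 IH) (Lpr_ft (f137551 IH) (Lpr_at (f137552 IH) (Lpe (f70503 IH) (Lpe (f38518 IH) (Lpe (f38517 IH) (Lpe (f38548 IH) (Lpe (f70511 IH) (Lpn (LP (LK LD1_c8 LD2_c48 LD3_c2))))))))))))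
theorem f137572 : Led Lsl_bt (LP (LK LD1_c2 LD2_c55 LD3_c9)) = (LP (LK LD1_c5 LD2_c57 LD3_c38)) :=
  Lre_b IH (LK LD1_c2 LD2_c55 LD3_c9) (LK LD1_c5 LD2_c57 LD3_c38) Lrfl Lrfl
theorem f74692 : Led Lsl_dt (LP (LK LD1_c5 LD2_c57 LD3_c39)) = (LP (LK LD1_c2 LD2_c55 LD3_c9)) :=
  Lre_d IH (LK LD1_c5 LD2_c57 LD3_c39) (LK LD1_c2 LD2_c55 LD3_c9) Lrfl Lrfl
theorem f137573 : Led Lsl_bf (LP (LK LD1_c5 LD2_c57 LD3_c39)) = (LP (LK LD1_c8 LD2_c48 LD3_c2)) :=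
  Lgr Lrot93 (Lpr_dt (f74692 IH) (Lpr_bt (f137572 IH) (Lpr_dt (f137569 IH) (Lpn (LP (LK LD1_c8 LD2_c48 LD3_c2))))))
theorem f38010 : Led Lsl_ct (LP (LK LD1_c4 LD2_c25 LD3_c15)) = (LP (LK LD1_c8 LD2_c48 LD3_c2)) :=
  Lre_c IH (LK LD1_c4 LD2_c25 LD3_c15) (LK LD1_c8 LD2_c48 LD3_c2) Lrfl Lrfl
theorem f38009 : Led Lsl_dt (LP (LK LD1_c2 LD2_c10 LD3_c2)) = (LP (LK LD1_c4 LD2_c25 LD3_c15)) :=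
  Lre_d IH (LK LD1_c2 LD2_c10 LD3_c2) (LK LD1_c4 LD2_c25 LD3_c15) Lrfl Lrfl
theorem f20422 : Led Lsl_dt (LP (LK LD1_c4 LD2_c59 LD3_c48)) = (LP (LK LD1_c2 LD2_c27 LD3_c43)) :=
  Lre_d IH (LK LD1_c4 LD2_c59 LD3_c48) (LK LD1_c2 LD2_c27 LD3_c43) Lrfl Lrfl
theorem f137601 : Led Lsl_gt (LP (LK LD1_c5 LD2_c57 LD3_c39)) = (LP (LK LD1_c4 LD2_c59 LD3_c48)) :=
  Lgr Lrot190 (Lpr_bf (f137573 IH) (Lpe (f38010 IH) (Lpe (f38009 IH) (Lpe (f38008 IH) (Lpe (K1.f37991 IH) (Lpr_cf (K1.f37987 IH) (Lpr_df (K1.f34710 IH) (Lpr_gf (K1.f34692 IH) (Lpr_bf (K0.f8226 IH) (Lpe (K0.f8268 IH) (Lpr_df (K1.f37108 IH) (Lpe (K1.f20424 IH) (Lpe (K1.f20423 IH) (Lpe (K0.f20274 IH) (Lpe (K0.f20275 IH) (Lpe (K0.f20276 IH) (Lpe (K0.f20420 IH) (Lpe (K4.f20421 IH) (Lpe (f20422 IH) (Lpn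 (LP (LK LD1_c4 LD2_c59 LD3_c48))))))))))))))))))))))
theorem f77220 : Led Lsl_at (LP (LK LD1_c2 LD2_c56 LD3_c40)) = (LP (LK LD1_c4 LD2_c59 LD3_c48)) :=
  Lre_a IH (LK LD1_c2 LD2_c56 LD3_c40) (LK LD1_c4 LD2_c59 LD3_c48) Lrfl Lrfl
theorem f137603 : Led Lsl_ft (LP (LK LD1_c4 LD2_c46 LD3_c44)) = (LP (LK LD1_c2 LD2_c56 LD3_c40)) :=
  Lre_f IH (LK LD1_c4 LD2_c46 LD3_c44) (LK LD1_c2 LD2_c56 LD3_c40) Lrfl Lrfl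
theorem f137604 : Led Lsl_gf (LP (LK LD1_c5 LD2_c57 LD3_c39)) = (LP (LK LD1_c4 LD2_c46 LD3_c44)) :=
  Lgr Lrot47 (Lpr_gt (f137601 IH) (Lpe (f77220 IH) (Lpe (f137603 IH) (Lpn (LP (LK LD1_c4 LD2_c46 LD3_c44))))))
theorem f14385 : Led Lsl_bt (LP (LK LD1_c9 LD2_c26 LD3_c7)) = (LP (LK LD1_c4 LD2_c46 LD3_c44)) :=
  Lre_b IH (LK LD1_c9 LD2_c26 LD3_c7) (LK LD1_c4 LD2_c46 LD3_c44) Lrfl Lrfl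
theorem f40543 : Led Lsl_gt (LP (LK LD1_c9 LD2_c26 LD3_c35)) = (LP (LK LD1_c4 LD2_c46 LD3_c54)) :=
  Lre_g IH (LK LD1_c9 LD2_c26 LD3_c35) (LK LD1_c4 LD2_c46 LD3_c54) Lrfl Lrfl
theorem f40544 : Led Lsl_ct (LP (LK LD1_c17 LD2_c24 LD3_c37)) = (LP (LK LD1_c9 LD2_c26 LD3_c35)) :=
  Lre_c IH (LK LD1_c17 LD2_c24 LD3_c37) (LK LD1_c9 LD2_c26 LD3_c35) Lrfl Lrfl
theorem f80543 : Led Lsl_cf (LP (LK LD1_c1 LD2_c57 LD3_c2)) = (LP (LK LD1_c1 LD2_c1 LD3_c55)) :=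
  Lgr Lrot97 (Lpr_bt (K5.f80542 IH) (Lpr_ct (K4.f59626 IH) (Lpr_bt (K4.f80538 IH) (Lpr_ct (K4.f59353 IH) (Lpr_bt (K4.f59359 IH) (Lpn (LP (LK LD1_c1 LD2_c1 LD3_c55))))))))
theorem f38178 : Led Lsl_ct (LP (LK LD1_c2 LD2_c10 LD3_c28)) = (LP (LK LD1_c4 LD2_c26 LD3_c29)) :=
  Lre_c IH (LK LD1_c2 LD2_c10 LD3_c28) (LK LD1_c4 LD2_c26 LD3_c29) Lrfl Lrfl
theorem f38174 : Led Lsl_at (LP (LK LD1_c8 LD2_c50 LD3_c25)) = (LP (LK LD1_c4 LD2_c26 LD3_c29)) :=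
  Lre_a IH (LK LD1_c8 LD2_c50 LD3_c25) (LK LD1_c4 LD2_c26 LD3_c29) Lrfl Lrfl
theorem f38012 : Led Lsl_at (LP (LK LD1_c1 LD2_c27 LD3_c52)) = (LP (LK LD1_c0 LD2_c40 LD3_c46)) :=
  Lre_a IH (LK LD1_c1 LD2_c27 LD3_c52) (LK LD1_c0 LD2_c40 LD3_c46) Lrfl Lrfl
theorem f38013 : Led Lsl_ft (LP (LK LD1_c1 LD2_c2 LD3_c16)) = (LP (LK LD1_c1 LD2_c27 LD3_c52)) :=
  Lgr Lrot2 (Lpr_gt (K4.f38011 IH) (Lpr_gt (K2.f38005 IH) (Lpe (f38012 IH) (Lpn (LP (LK LD1_c1 LD2_c27 LD3_c52))))))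
theorem f38120 : Led Lsl_ff (LP (LK LD1_c1 LD2_c2 LD3_c16)) = (LP (LK LD1_c1 LD2_c27 LD3_c52)) :=
  Lgr Lrot3 (Lpr_ft (f38013 IH) (Lpn (LP (LK LD1_c1 LD2_c27 LD3_c52))))
theorem f38123 : Led Lsl_bt (LP (LK LD1_c1 LD2_c2 LD3_c16)) = (LP (LK LD1_c2 LD2_c10 LD3_c28)) :=
  Lre_b IH (LK LD1_c1 LD2_c2 LD3_c16) (LK LD1_c2 LD2_c10 LD3_c28) Lrfl Lrfl
theorem f38124 : Led Lsl_bt (LP (LK LD1_c3 LD2_c3 LD3_c45)) = (LP (LK LD1_c1 LD2_c27 LD3_c52)) :=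
  Lre_b IH (LK LD1_c3 LD2_c3 LD3_c45) (LK LD1_c1 LD2_c27 LD3_c52) Lrfl Lrfl
theorem f38125 : Led Lsl_ft (LP (LK LD1_c2 LD2_c10 LD3_c28)) = (LP (LK LD1_c3 LD2_c3 LD3_c45)) :=
  Lgr Lrot75 (Lpe (f38123 IH) (Lpr_ff (f38120 IH) (Lpe (f38124 IH) (Lpn (LP (LK LD1_c3 LD2_c3 LD3_c45))))))
theorem f38150 : Led Lsl_ct (LP (LK LD1_c3 LD2_c3 LD3_c45)) = (LP (LK LD1_c6 LD2_c13 LD3_c51)) :=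
  Lre_c IH (LK LD1_c3 LD2_c3 LD3_c45) (LK LD1_c6 LD2_c13 LD3_c51) Lrfl Lrfl
theorem f38151 : Led Lsl_ff (LP (LK LD1_c4 LD2_c26 LD3_c29)) = (LP (LK LD1_c6 LD2_c13 LD3_c51)) :=
  Lgr Lrot23 (Lpr_ct (K4.f38149 IH) (Lpr_ft (f38125 IH) (Lpr_ct (f38150 IH) (Lpn (LP (LK LD1_c6 LD2_c13 LD3_c51))))))
theorem f38164 : Led Lsl_ft (LP (LK LD1_c4 LD2_c26 LD3_c29)) = (LP (LK LD1_c6 LD2_c13 LD3_c51)) :=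
  Lgr Lrot48 (Lpr_ff (f38151 IH) (Lpn (LP (LK LD1_c6 LD2_c13 LD3_c51))))
theorem f38175 : Led Lsl_at (LP (LK LD1_c6 LD2_c13 LD3_c51)) = (LP (LK LD1_c12 LD2_c6 LD3_c16)) :=
  Lre_a IH (LK LD1_c6 LD2_c13 LD3_c51) (LK LD1_c12 LD2_c6 LD3_c16) Lrfl Lrfl
theorem f38176 : Led Lsl_ff (LP (LK LD1_c8 LD2_c50 LD3_c25)) = (LP (LK LD1_c12 LD2_c6 LD3_c16)) :=
  Lgr Lrot30 (Lpr_at (f38174 IH) (Lpr_ft (f38164 IH) (Lpr_at (f38175 IH) (Lpn (LP (LK LD1_c12 LD2_c6 LD3_c16))))))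
theorem f70487 : Led Lsl_dt (LP (LK LD1_c2 LD2_c9 LD3_c37)) = (LP (LK LD1_c1 LD2_c1 LD3_c55)) :=
  Lre_d IH (LK LD1_c2 LD2_c9 LD3_c37) (LK LD1_c1 LD2_c1 LD3_c55) Lrfl Lrfl
theorem f20558 : Led Lsl_bt (LP (LK LD1_c0 LD2_c7 LD3_c61)) = (LP (LK LD1_c0 LD2_c17 LD3_c49)) :=
  Lre_b IH (LK LD1_c0 LD2_c7 LD3_c61) (LK LD1_c0 LD2_c17 LD3_c49) Lrfl Lrfl
theorem f70429 : Led Lsl_bt (LP (LK LD1_c2 LD2_c9 LD3_c37)) = (LP (LK LD1_c1 LD2_c1 LD3_c56)) :=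
  Lre_b IH (LK LD1_c2 LD2_c9 LD3_c37) (LK LD1_c1 LD2_c1 LD3_c56) Lrfl Lrfl
theorem f75538 : Led Lsl_dt (LP (LK LD1_c5 LD2_c59 LD3_c46)) = (LP (LK LD1_c4 LD2_c24 LD3_c21)) :=
  Lgr Lrot182 (Lpe (K4.f26428 IH) (Lpe (K4.f75537 IH) (Lpe (K2.f26478 IH) (Lpr_df (K4.f75506 IH) (Lpe (K4.f20241 IH) (Lpe (f20558 IH) (Lpe (K0.f20551 IH) (Lpe (K0.f7102 IH) (Lpr_gf (K0.f20598 IH) (Lpe (K1.f411 IH) (Lpe (K1.f412 IH) (Lpr_df (K1.f20538 IH) (Lpr_gf (K1.f37282 IH) (Lpr_bf (K1.f2950 IH) (Lpe (K1.f3026 IH) (Lpe (K2.f3053 IH) (Lpr_gf (K2.f70225 IH) (Lpe (f70429 IH) (Lpe (f70430 IH) (Lpn (LP (LK LD1_c4 LD2_c24 LD3_c21))))))))))))))))))))))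
theorem f26429 : Led Lsl_ct (LP (LK LD1_c11 LD2_c44 LD3_c1)) = (LP (LK LD1_c5 LD2_c59 LD3_c46)) :=
  Lre_c IH (LK LD1_c11 LD2_c44 LD3_c1) (LK LD1_c5 LD2_c59 LD3_c46) Lrfl Lrfl
theorem f80709 : Led Lsl_dt (LP (LK LD1_c12 LD2_c6 LD3_c16)) = (LP (LK LD1_c11 LD2_c44 LD3_c1)) :=
  Lgr Lrot159 (Lpe (f38176 IH) (Lpr_at (f38174 IH) (Lpe (f38178 IH) (Lpe (K5.f80447 IH) (Lpr_cf (f80543 IH) (Lpe (f70487 IH) (Lpe (f70430 IH) (Lpe (f75538 IH) (Lpe (f26429 IH) (Lpn (LP (LK LD1_c11 LD2_c44 LD3_c1))))))))))))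
theorem f80713 : Led Lsl_df (LP (LK LD1_c12 LD2_c6 LD3_c16)) = (LP (LK LD1_c11 LD2_c44 LD3_c1)) :=
  Lgr Lrot38 (Lpr_dt (f80709 IH) (Lpn (LP (LK LD1_c11 LD2_c44 LD3_c1))))
theorem f38216 : Led Lsl_bt (LP (LK LD1_c12 LD2_c6 LD3_c16)) = (LP (LK LD1_c21 LD2_c12 LD3_c20)) :=
  Lre_b IH (LK LD1_c12 LD2_c6 LD3_c16) (LK LD1_c21 LD2_c12 LD3_c20) Lrfl Lrfl
theorem f75627 : Led Lsl_bt (LP (LK LD1_c20 LD2_c45 LD3_c10)) = (LP (LK LD1_c11 LD2_c44 LD3_c1)) :=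
  Lre_b IH (LK LD1_c20 LD2_c45 LD3_c10) (LK LD1_c11 LD2_c44 LD3_c1) Lrfl Lrfl
theorem f80825 : Led Lsl_dt (LP (LK LD1_c21 LD2_c12 LD3_c20)) = (LP (LK LD1_c20 LD2_c45 LD3_c10)) :=
  Lgr Lrot79 (Lpe (f38216 IH) (Lpr_df (f80713 IH) (Lpe (f75627 IH) (Lpn (LP (LK LD1_c20 LD2_c45 LD3_c10))))))
theorem f40412 : Led Lsl_bt (LP (LK LD1_c8 LD2_c0 LD3_c20)) = (LP (LK LD1_c3 LD2_c59 LD3_c39)) :=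
  Lre_b IH (LK LD1_c8 LD2_c0 LD3_c20) (LK LD1_c3 LD2_c59 LD3_c39) Lrfl Lrfl
theorem f14571 : Led Lsl_at (LP (LK LD1_c1 LD2_c38 LD3_c10)) = (LP (LK LD1_c3 LD2_c22 LD3_c52)) :=
  Lre_a IH (LK LD1_c1 LD2_c38 LD3_c10) (LK LD1_c3 LD2_c22 LD3_c52) Lrfl Lrfl
theorem f40419 : Led Lsl_af (LP (LK LD1_c8 LD2_c0 LD3_c20)) = (LP (LK LD1_c6 LD2_c49 LD3_c16)) :=
  Lgr Lrot36 (Lpr_bt (f40412 IH) (Lpr_at (K4.f40370 IH) (Lpr_bt (K2.f40396 IH) (Lpr_at (f14571 IH) (Lpr_bt (K4.f40418 IH) (Lpn (LP (LK LD1_c6 LD2_c49 LD3_c16))))))))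
theorem f17117 : Led Lsl_ft (LP (LK LD1_c3 LD2_c23 LD3_c6)) = (LP (LK LD1_c6 LD2_c49 LD3_c16)) :=
  Lre_f IH (LK LD1_c3 LD2_c23 LD3_c6) (LK LD1_c6 LD2_c49 LD3_c16) Lrfl Lrfl
theorem f14387 : Led Lsl_at (LP (LK LD1_c6 LD2_c49 LD3_c39)) = (LP (LK LD1_c3 LD2_c23 LD3_c6)) :=
  Lre_a IH (LK LD1_c6 LD2_c49 LD3_c39) (LK LD1_c3 LD2_c23 LD3_c6) Lrfl Lrfl
theorem f14388 : Led Lsl_at (LP (LK LD1_c3 LD2_c50 LD3_c61)) = (LP (LK LD1_c7 LD2_c43 LD3_c11)) :=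
  Lre_a IH (LK LD1_c3 LD2_c50 LD3_c61) (LK LD1_c7 LD2_c43 LD3_c11) Lrfl Lrfl
theorem f14389 : Led Lsl_dt (LP (LK LD1_c3 LD2_c23 LD3_c6)) = (LP (LK LD1_c3 LD2_c50 LD3_c61)) :=
  Lgr Lrot44 (Lpe (f14387 IH) (Lpr_df (K0.f14084 IH) (Lpe (f14388 IH) (Lpn (LP (LK LD1_c3 LD2_c50 LD3_c61))))))
theorem f14136 : Led Lsl_ct (LP (LK LD1_c3 LD2_c50 LD3_c61)) = (LP (LK LD1_c1 LD2_c52 LD3_c32)) :=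
  Lre_c IH (LK LD1_c3 LD2_c50 LD3_c61) (LK LD1_c1 LD2_c52 LD3_c32) Lrfl Lrfl
theorem f14135 : Led Lsl_dt (LP (LK LD1_c1 LD2_c52 LD3_c32)) = (LP (LK LD1_c3 LD2_c15 LD3_c7)) :=
  Lre_d IH (LK LD1_c1 LD2_c52 LD3_c32) (LK LD1_c3 LD2_c15 LD3_c7) Lrfl Lrfl
theorem f14134 : Led Lsl_ct (LP (LK LD1_c3 LD2_c15 LD3_c7)) = (LP (LK LD1_c4 LD2_c44 LD3_c28)) :=
  Lre_c IH (LK LD1_c3 LD2_c15 LD3_c7) (LK LD1_c4 LD2_c44 LD3_c28) Lrfl Lrfl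
theorem f13777 : Led Lsl_bt (LP (LK LD1_c2 LD2_c20 LD3_c17)) = (LP (LK LD1_c4 LD2_c44 LD3_c28)) :=
  Lre_b IH (LK LD1_c2 LD2_c20 LD3_c17) (LK LD1_c4 LD2_c44 LD3_c28) Lrfl Lrfl
theorem f13755 : Led Lsl_bt (LP (LK LD1_c4 LD2_c46 LD3_c54)) = (LP (LK LD1_c2 LD2_c21 LD3_c21)) :=
  Lre_b IH (LK LD1_c4 LD2_c46 LD3_c54) (LK LD1_c2 LD2_c21 LD3_c21) Lrfl Lrfl
theorem f13778 : Led Lsl_dt (LP (LK LD1_c4 LD2_c44 LD3_c28)) = (LP (LK LD1_c4 LD2_c46 LD3_c54)) :=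
  Lgr Lrot79 (Lpe (f13777 IH) (Lpr_df (K0.f13775 IH) (Lpe (f13755 IH) (Lpn (LP (LK LD1_c4 LD2_c46 LD3_c54))))))
theorem f14103 : Led Lsl_ct (LP (LK LD1_c4 LD2_c46 LD3_c54)) = (LP (LK LD1_c9 LD2_c26 LD3_c7)) :=
  Lre_c IH (LK LD1_c4 LD2_c46 LD3_c54) (LK LD1_c9 LD2_c26 LD3_c7) Lrfl Lrfl
theorem f14141 : Led Lsl_dt (LP (LK LD1_c9 LD2_c26 LD3_c7)) = (LP (LK LD1_c4 LD2_c59 LD3_c16)) :=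
  Lre_d IH (LK LD1_c9 LD2_c26 LD3_c7) (LK LD1_c4 LD2_c59 LD3_c16) Lrfl Lrfl
theorem f40529 : Led Lsl_cf (LP (LK LD1_c8 LD2_c0 LD3_c20)) = (LP (LK LD1_c4 LD2_c59 LD3_c16)) :=
  Lgr Lrot102 (Lpr_af (f40419 IH) (Lpe (f17117 IH) (Lpr_dt (f14389 IH) (Lpr_ct (f14136 IH) (Lpr_dt (f14135 IH) (Lpr_ct (f14134 IH) (Lpr_dt (f13778 IH) (Lpr_ct (f14103 IH) (Lpr_dt (f14141 IH) (Lpn (LP (LK LD1_c4 LD2_c59 LD3_c16))))))))))))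
theorem f23358 : Led Lsl_gt (LP (LK LD1_c3 LD2_c23 LD3_c6)) = (LP (LK LD1_c6 LD2_c49 LD3_c37)) :=
  Lre_g IH (LK LD1_c3 LD2_c23 LD3_c6) (LK LD1_c6 LD2_c49 LD3_c37) Lrfl Lrfl
theorem f40527 : Led Lsl_gf (LP (LK LD1_c8 LD2_c0 LD3_c20)) = (LP (LK LD1_c6 LD2_c49 LD3_c37)) :=
  Lgr Lrot76 (Lpr_af (f40419 IH) (Lpe (f17117 IH) (Lpr_gt (f23358 IH) (Lpn (LP (LK LD1_c6 LD2_c49 LD3_c37))))))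
theorem f40540 : Led Lsl_ct (LP (LK LD1_c13 LD2_c0 LD3_c58)) = (LP (LK LD1_c6 LD2_c49 LD3_c37)) :=
  Lre_c IH (LK LD1_c13 LD2_c0 LD3_c58) (LK LD1_c6 LD2_c49 LD3_c37) Lrfl Lrfl
theorem f26422 : Led Lsl_bt (LP (LK LD1_c4 LD2_c59 LD3_c16)) = (LP (LK LD1_c2 LD2_c27 LD3_c31)) :=
  Lre_b IH (LK LD1_c4 LD2_c59 LD3_c16) (LK LD1_c2 LD2_c27 LD3_c31) Lrfl Lrfl
theorem f26430 : Led Lsl_bt (LP (LK LD1_c11 LD2_c44 LD3_c1)) = (LP (LK LD1_c20 LD2_c45 LD3_c10)) :=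
  Lre_b IH (LK LD1_c11 LD2_c44 LD3_c1) (LK LD1_c20 LD2_c45 LD3_c10) Lrfl Lrfl
theorem f40541 : Led Lsl_gf (LP (LK LD1_c13 LD2_c0 LD3_c58)) = (LP (LK LD1_c20 LD2_c45 LD3_c10)) :=
  Lgr Lrot181 (Lpr_ct (f40540 IH) (Lpe (f40527 IH) (Lpr_cf (f40529 IH) (Lpr_bt (f26422 IH) (Lpe (K0.f26408 IH) (Lpe (K4.f26426 IH) (Lpr_ct (K4.f26427 IH) (Lpr_gt (K4.f26428 IH) (Lpe (f26429 IH) (Lpr_bt (f26430 IH) (Lpn (LP (LK LD1_c20 LD2_c45 LD3_c10)))))))))))))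
theorem f40314 : Led Lsl_bt (LP (LK LD1_c3 LD2_c59 LD3_c39)) = (LP (LK LD1_c8 LD2_c0 LD3_c20)) :=
  Lre_b IH (LK LD1_c3 LD2_c59 LD3_c39) (LK LD1_c8 LD2_c0 LD3_c20) Lrfl Lrfl
theorem f40315 : Led Lsl_ct (LP (LK LD1_c8 LD2_c0 LD3_c20)) = (LP (LK LD1_c4 LD2_c59 LD3_c16)) :=
  Lgr Lrot83 (Lpe (f40314 IH) (Lpe (K4.f40313 IH) (Lpr_bf (K1.f40299 IH) (Lpe (K4.f26419 IH) (Lpe (f26422 IH) (Lpn (LP (LK LD1_c4 LD2_c59 LD3_c16))))))))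
theorem f14105 : Led Lsl_dt (LP (LK LD1_c4 LD2_c59 LD3_c16)) = (LP (LK LD1_c9 LD2_c26 LD3_c7)) :=
  Lre_d IH (LK LD1_c4 LD2_c59 LD3_c16) (LK LD1_c9 LD2_c26 LD3_c7) Lrfl Lrfl
theorem f80827 : Led Lsl_gt (LP (LK LD1_c21 LD2_c12 LD3_c20)) = (LP (LK LD1_c17 LD2_c24 LD3_c37)) :=
  Lgr Lrot146 (Lpr_dt (f80825 IH) (Lpe (f40541 IH) (Lpr_ct (f40540 IH) (Lpe (f40527 IH) (Lpr_ct (f40315 IH) (Lpr_dt (f14105 IH) (Lpe (f14103 IH) (Lpe (f40543 IH) (Lpe (f40544 IH) (Lpn (LP (LK LD1_c17 LD2_c24 LD3_c37))))))))))))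
theorem f38156 : Led Lsl_ct (LP (LK LD1_c12 LD2_c6 LD3_c16)) = (LP (LK LD1_c6 LD2_c13 LD3_c48)) :=
  Lre_c IH (LK LD1_c12 LD2_c6 LD3_c16) (LK LD1_c6 LD2_c13 LD3_c48) Lrfl Lrfl
theorem f137617 : Led Lsl_gt (LP (LK LD1_c4 LD2_c25 LD3_c15)) = (LP (LK LD1_c6 LD2_c13 LD3_c48)) :=
  Lgr Lrot65 (Lpe (f70511 IH) (Lpe (f137573 IH) (Lpr_gf (f137604 IH) (Lpe (f14385 IH) (Lpr_ct (K0.f14003 IH) (Lpe (f40543 IH) (Lpe (f40544 IH) (Lpe (f80827 IH) (Lpe (f38216 IH) (Lpr_ct (f38156 IH) (Lpn (LP (LK LD1_c6 LD2_c13 LD3_c48)))))))))))))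
theorem f38146 : Led Lsl_at (LP (LK LD1_c3 LD2_c3 LD3_c45)) = (LP (LK LD1_c6 LD2_c13 LD3_c48)) :=
  Lre_a IH (LK LD1_c3 LD2_c3 LD3_c45) (LK LD1_c6 LD2_c13 LD3_c48) Lrfl Lrfl
theorem f137623 : Led Lsl_gf (LP (LK LD1_c4 LD2_c25 LD3_c15)) = (LP (LK LD1_c2 LD2_c10 LD3_c28)) :=
  Lgr Lrot47 (Lpr_gt (f137617 IH) (Lpe (f38146 IH) (Lpe (f38125 IH) (Lpn (LP (LK LD1_c2 LD2_c10 LD3_c28))))))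
theorem f77182 : Led Lsl_bt (LP (LK LD1_c3 LD2_c22 LD3_c40)) = (LP (LK LD1_c4 LD2_c59 LD3_c48)) :=
  Lre_b IH (LK LD1_c3 LD2_c22 LD3_c40) (LK LD1_c4 LD2_c59 LD3_c48) Lrfl Lrfl
theorem f110307 : Led Lsl_cf (LP (LK LD1_c6 LD2_c10 LD3_c24)) = (LP (LK LD1_c6 LD2_c18 LD3_c22)) :=
  Lgr Lrot11 (Lpr_ct (K3.f110304 IH) (Lpn (LP (LK LD1_c6 LD2_c18 LD3_c22))))
theorem f38198 : Led Lsl_gt (LP (LK LD1_c8 LD2_c50 LD3_c28)) = (LP (LK LD1_c4 LD2_c26 LD3_c29)) :=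
  Lre_g IH (LK LD1_c8 LD2_c50 LD3_c28) (LK LD1_c4 LD2_c26 LD3_c29) Lrfl Lrfl
theorem f137629 : Led Lsl_bt (LP (LK LD1_c6 LD2_c18 LD3_c22)) = (LP (LK LD1_c8 LD2_c50 LD3_c28)) :=
  Lgr Lrot130 (Lpe (f110307 IH) (Lpr_gf (K3.f110293 IH) (Lpr_cf (K2.f77160 IH) (Lpr_bt (f77182 IH) (Lpe (f137601 IH) (Lpr_bf (f137573 IH) (Lpr_ct (f70511 IH) (Lpr_gf (f137623 IH) (Lpe (K4.f38149 IH) (Lpe (f38198 IH) (Lpn (LP (LK LD1_c8 LD2_c50 LD3_c28)))))))))))))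
theorem f36545 : Led Lsl_gt (LP (LK LD1_c2 LD2_c9 LD3_c25)) = (LP (LK LD1_c4 LD2_c23 LD3_c59)) :=
  Lre_g IH (LK LD1_c2 LD2_c9 LD3_c25) (LK LD1_c4 LD2_c23 LD3_c59) Lrfl Lrfl
theorem f99259 : Led Lsl_ct (LP (LK LD1_c8 LD2_c45 LD3_c42)) = (LP (LK LD1_c4 LD2_c23 LD3_c59)) :=
  Lre_c IH (LK LD1_c8 LD2_c45 LD3_c42) (LK LD1_c4 LD2_c23 LD3_c59) Lrfl Lrfl
theorem f137639 : Led Lsl_bf (LP (LK LD1_c6 LD2_c10 LD3_c24)) = (LP (LK LD1_c8 LD2_c45 LD3_c42)) :=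
  Lgr Lrot165 (Lpr_gt (K3.f110300 IH) (Lpe (K2.f77160 IH) (Lpe (K3.f110293 IH) (Lpr_cf (f110307 IH) (Lpr_bt (f137629 IH) (Lpr_gt (f38198 IH) (Lpe (K4.f99248 IH) (Lpr_ct (K4.f36530 IH) (Lpr_gt (f36545 IH) (Lpe (f99259 IH) (Lpn (LP (LK LD1_c8 LD2_c45 LD3_c42)))))))))))))
theorem f119715 : Led Lsl_ft (LP (LK LD1_c5 LD2_c56 LD3_c10)) = (LP (LK LD1_c6 LD2_c24 LD3_c33)) :=
  Lgr Lrot54 (Lpr_df (K4.f119664 IH) (Lpe (K4.f117797 IH) (Lpr_df (K4.f117683 IH) (Lpn (LP (LK LD1_c6 LD2_c24 LD3_c33))))))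
theorem f117641 : Led Lsl_at (LP (LK LD1_c6 LD2_c24 LD3_c33)) = (LP (LK LD1_c5 LD2_c56 LD3_c8)) :=
  Lgr Lrot107 (Lpe (K4.f117604 IH) (Lpr_af (K4.f117627 IH) (Lpe (K4.f81797 IH) (Lpn (LP (LK LD1_c5 LD2_c56 LD3_c8))))))
theorem f81798 : Led Lsl_gt (LP (LK LD1_c11 LD2_c37 LD3_c31)) = (LP (LK LD1_c5 LD2_c56 LD3_c8)) :=
  Lre_g IH (LK LD1_c11 LD2_c37 LD3_c31) (LK LD1_c5 LD2_c56 LD3_c8) Lrfl Lrfl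
theorem f119724 : Led Lsl_gt (LP (LK LD1_c5 LD2_c56 LD3_c10)) = (LP (LK LD1_c11 LD2_c37 LD3_c31)) :=
  Lgr Lrot5 (Lpr_ft (f119715 IH) (Lpr_at (f117641 IH) (Lpe (f81798 IH) (Lpn (LP (LK LD1_c11 LD2_c37 LD3_c31))))))
theorem f81823 : Led Lsl_dt (LP (LK LD1_c1 LD2_c23 LD3_c10)) = (LP (LK LD1_c2 LD2_c54 LD3_c22)) :=
  Lre_d IH (LK LD1_c1 LD2_c23 LD3_c10) (LK LD1_c2 LD2_c54 LD3_c22) Lrfl Lrfl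
theorem f82011 : Led Lsl_ct (LP (LK LD1_c2 LD2_c54 LD3_c22)) = (LP (LK LD1_c5 LD2_c56 LD3_c1)) :=
  Lre_c IH (LK LD1_c2 LD2_c54 LD3_c22) (LK LD1_c5 LD2_c56 LD3_c1) Lrfl Lrfl
theorem f36153 : Led Lsl_at (LP (LK LD1_c2 LD2_c9 LD3_c47)) = (LP (LK LD1_c4 LD2_c24 LD3_c35)) :=
  Lre_a IH (LK LD1_c2 LD2_c9 LD3_c47) (LK LD1_c4 LD2_c24 LD3_c35) Lrfl Lrfl
theorem f81795 : Led Lsl_gf (LP (LK LD1_c4 LD2_c24 LD3_c35)) = (LP (LK LD1_c2 LD2_c54 LD3_c26)) :=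
  Lgr Lrot76 (Lpe (f36153 IH) (Lpr_ff (K2.f81780 IH) (Lpr_gt (K4.f81782 IH) (Lpn (LP (LK LD1_c2 LD2_c54 LD3_c26))))))
theorem f71866 : Led Lsl_dt (LP (LK LD1_c5 LD2_c56 LD3_c45)) = (LP (LK LD1_c8 LD2_c46 LD3_c42)) :=
  Lgr Lrot42 (Lpr_df (K2.f71860 IH) (Lpn (LP (LK LD1_c8 LD2_c46 LD3_c42))))
theorem f71876 : Led Lsl_ct (LP (LK LD1_c2 LD2_c54 LD3_c41)) = (LP (LK LD1_c5 LD2_c56 LD3_c45)) :=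
  Lre_c IH (LK LD1_c2 LD2_c54 LD3_c41) (LK LD1_c5 LD2_c56 LD3_c45) Lrfl Lrfl
theorem f1422 : Led Lsl_dt (LP (LK LD1_c0 LD2_c0 LD3_c11)) = (LP (LK LD1_c0 LD2_c0 LD3_c38)) :=
  Lre_d IH (LK LD1_c0 LD2_c0 LD3_c11) (LK LD1_c0 LD2_c0 LD3_c38) Lrfl Lrfl
theorem f7160 : Led Lsl_bt (LP (LK LD1_c0 LD2_c43 LD3_c56)) = (LP (LK LD1_c1 LD2_c34 LD3_c31)) :=
  Lre_b IH (LK LD1_c0 LD2_c43 LD3_c56) (LK LD1_c1 LD2_c34 LD3_c31) Lrfl Lrfl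
theorem f80296 : Led Lsl_gf (LP (LK LD1_c2 LD2_c54 LD3_c41)) = (LP (LK LD1_c1 LD2_c34 LD3_c31)) :=
  Lgr Lrot85 (Lpr_dt (K2.f23922 IH) (Lpr_ct (K2.f23921 IH) (Lpr_bt (K4.f23912 IH) (Lpr_gt (K0.f23906 IH) (Lpr_dt (K0.f22836 IH) (Lpr_ct (K0.f20191 IH) (Lpr_bt (K2.f72817 IH) (Lpe (K1.f60908 IH) (Lpr_dt (K1.f26595 IH) (Lpr_ct (K0.f26026 IH) (Lpqs (K0.f26321 IH) (Lpe (K0.f7153 IH) (Lpr_gt (K0.f1496 IH) (Lpr_dt (f1422 IH) (Lpr_ct (K0.f367 IH) (Lpr_bt (K0.f7156 IH) (Lpr_gt (K0.f7157 IH) (Lpr_dt (K2.f7158 IH) (Lpr_ct (K2.f7159 IH) (Lpr_bt (f7160 IH) (Lpn (LP (LK LD1_c1 LD2_c34 LD3_c31)))))))))))))))))))))))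
theorem f65551 : Led Lsl_ct (LP (LK LD1_c3 LD2_c15 LD3_c16)) = (LP (LK LD1_c1 LD2_c34 LD3_c31)) :=
  Lre_c IH (LK LD1_c3 LD2_c15 LD3_c16) (LK LD1_c1 LD2_c34 LD3_c31) Lrfl Lrfl
theorem f65633 : Led Lsl_gt (LP (LK LD1_c6 LD2_c33 LD3_c56)) = (LP (LK LD1_c3 LD2_c15 LD3_c16)) :=
  Lre_g IH (LK LD1_c6 LD2_c33 LD3_c56) (LK LD1_c3 LD2_c15 LD3_c16) Lrfl Lrfl
theorem f81801 : Led Lsl_df (LP (LK LD1_c6 LD2_c33 LD3_c56)) = (LP (LK LD1_c11 LD2_c37 LD3_c31)) :=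
  Lgr Lrot155 (Lpr_gt (f65633 IH) (Lpr_ct (f65551 IH) (Lpe (f80296 IH) (Lpr_ct (f71876 IH) (Lpr_dt (f71866 IH) (Lpe (K2.f35293 IH) (Lpr_gf (f81795 IH) (Lpe (K4.f81797 IH) (Lpe (f81798 IH) (Lpn (LP (LK LD1_c11 LD2_c37 LD3_c31))))))))))))
theorem f119726 : Led Lsl_df (LP (LK LD1_c5 LD2_c56 LD3_c1)) = (LP (LK LD1_c3 LD2_c15 LD3_c16)) :=
  Lgr Lrot84 (Lpe (f82011 IH) (Lpe (f81823 IH) (Lpe (f81817 IH) (Lpe (K2.f69452 IH) (Lpe (K4.f81783 IH) (Lpe (K4.f112689 IH) (Lpr_gt (f119724 IH) (Lpe (f81801 IH) (Lpr_gt (f65633 IH) (Lpn (LP (LK LD1_c3 LD2_c15 LD3_c16))))))))))))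
theorem f119731 : Led Lsl_dt (LP (LK LD1_c5 LD2_c56 LD3_c1)) = (LP (LK LD1_c3 LD2_c15 LD3_c16)) :=
  Lgr Lrot42 (Lpr_df (f119726 IH) (Lpn (LP (LK LD1_c3 LD2_c15 LD3_c16))))
theorem f65549 : Led Lsl_bt (LP (LK LD1_c3 LD2_c15 LD3_c16)) = (LP (LK LD1_c1 LD2_c34 LD3_c18)) :=
  Lre_b IH (LK LD1_c3 LD2_c15 LD3_c16) (LK LD1_c1 LD2_c34 LD3_c18) Lrfl Lrfl
theorem f119741 : Led Lsl_bf (LP (LK LD1_c5 LD2_c56 LD3_c1)) = (LP (LK LD1_c3 LD2_c15 LD3_c17)) :=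
  Lgr Lrot93 (Lpr_dt (f119731 IH) (Lpr_bt (f65549 IH) (Lpr_dt (K3.f65548 IH) (Lpn (LP (LK LD1_c3 LD2_c15 LD3_c17))))))
theorem f137651 : Led Lsl_ft (LP (LK LD1_c5 LD2_c56 LD3_c1)) = (LP (LK LD1_c8 LD2_c45 LD3_c42)) :=
  Lgr Lrot75 (Lpr_bf (f119741 IH) (Lpr_ff (K3.f110956 IH) (Lpr_bf (f137639 IH) (Lpn (LP (LK LD1_c8 LD2_c45 LD3_c42))))))
theorem f137704 : Led Lsl_ff (LP (LK LD1_c5 LD2_c56 LD3_c1)) = (LP (LK LD1_c8 LD2_c45 LD3_c42)) :=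
  Lgr Lrot3 (Lpr_ft (f137651 IH) (Lpn (LP (LK LD1_c8 LD2_c45 LD3_c42))))
theorem f110953 : Led Lsl_bt (LP (LK LD1_c3 LD2_c1 LD3_c48)) = (LP (LK LD1_c6 LD2_c10 LD3_c23)) :=
  Lre_b IH (LK LD1_c3 LD2_c1 LD3_c48) (LK LD1_c6 LD2_c10 LD3_c23) Lrfl Lrfl
theorem f137646 : Led Lsl_dt (LP (LK LD1_c6 LD2_c10 LD3_c23)) = (LP (LK LD1_c8 LD2_c45 LD3_c42)) :=
  Lgr Lrot79 (Lpe (f110953 IH) (Lpe (K3.f18900 IH) (Lpr_bf (f137639 IH) (Lpn (LP (LK LD1_c8 LD2_c45 LD3_c42))))))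
theorem f137708 : Led Lsl_ft (LP (LK LD1_c3 LD2_c15 LD3_c16)) = (LP (LK LD1_c6 LD2_c10 LD3_c23)) :=
  Lgr Lrot54 (Lpe (f119731 IH) (Lpr_ff (f137704 IH) (Lpe (f137646 IH) (Lpn (LP (LK LD1_c6 LD2_c10 LD3_c23))))))
theorem f65550 : Led Lsl_ct (LP (LK LD1_c1 LD2_c34 LD3_c31)) = (LP (LK LD1_c3 LD2_c15 LD3_c16)) :=
  Lre_c IH (LK LD1_c1 LD2_c34 LD3_c31) (LK LD1_c3 LD2_c15 LD3_c16) Lrfl Lrfl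
theorem f137710 : Led Lsl_ff (LP (LK LD1_c1 LD2_c34 LD3_c31)) = (LP (LK LD1_c3 LD2_c1 LD3_c49)) :=
  Lgr Lrot23 (Lpr_ct (f65550 IH) (Lpr_ft (f137708 IH) (Lpr_ct (K4.f61794 IH) (Lpn (LP (LK LD1_c3 LD2_c1 LD3_c49))))))
theorem f137714 : Led Lsl_ft (LP (LK LD1_c1 LD2_c34 LD3_c31)) = (LP (LK LD1_c3 LD2_c1 LD3_c49)) :=
  Lgr Lrot48 (Lpr_ff (f137710 IH) (Lpn (LP (LK LD1_c3 LD2_c1 LD3_c49))))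
theorem f24071 : Led Lsl_gt (LP (LK LD1_c2 LD2_c54 LD3_c41)) = (LP (LK LD1_c5 LD2_c56 LD3_c44)) :=
  Lre_g IH (LK LD1_c2 LD2_c54 LD3_c41) (LK LD1_c5 LD2_c56 LD3_c44) Lrfl Lrfl
theorem f137732 : Led Lsl_af (LP (LK LD1_c5 LD2_c56 LD3_c44)) = (LP (LK LD1_c3 LD2_c1 LD3_c49)) :=
  Lgr Lrot31 (Lpe (f24071 IH) (Lpr_gf (f80296 IH) (Lpr_ft (f137714 IH) (Lpn (LP (LK LD1_c3 LD2_c1 LD3_c49))))))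
theorem f119744 : Led Lsl_at (LP (LK LD1_c3 LD2_c15 LD3_c34)) = (LP (LK LD1_c1 LD2_c34 LD3_c31)) :=
  Lre_a IH (LK LD1_c3 LD2_c15 LD3_c34) (LK LD1_c1 LD2_c34 LD3_c31) Lrfl Lrfl
theorem f137738 : Led Lsl_ft (LP (LK LD1_c5 LD2_c56 LD3_c44)) = (LP (LK LD1_c3 LD2_c15 LD3_c34)) :=
  Lgr Lrot101 (Lpr_af (f137732 IH) (Lpe (f137714 IH) (Lpe (f119744 IH) (Lpn (LP (LK LD1_c3 LD2_c15 LD3_c34))))))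
theorem f81820 : Led Lsl_ct (LP (LK LD1_c2 LD2_c54 LD3_c21)) = (LP (LK LD1_c1 LD2_c23 LD3_c10)) :=
  Lre_c IH (LK LD1_c2 LD2_c54 LD3_c21) (LK LD1_c1 LD2_c23 LD3_c10) Lrfl Lrfl
theorem f81999 : Led Lsl_dt (LP (LK LD1_c5 LD2_c56 LD3_c0)) = (LP (LK LD1_c2 LD2_c54 LD3_c21)) :=
  Lre_d IH (LK LD1_c5 LD2_c56 LD3_c0) (LK LD1_c2 LD2_c54 LD3_c21) Lrfl Lrfl
theorem f71024 : Led Lsl_ct (LP (LK LD1_c1 LD2_c22 LD3_c47)) = (LP (LK LD1_c2 LD2_c53 LD3_c24)) :=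
  Lre_c IH (LK LD1_c1 LD2_c22 LD3_c47) (LK LD1_c2 LD2_c53 LD3_c24) Lrfl Lrfl
theorem f69453 : Led Lsl_ct (LP (LK LD1_c0 LD2_c38 LD3_c28)) = (LP (LK LD1_c1 LD2_c23 LD3_c4)) :=
  Lre_c IH (LK LD1_c0 LD2_c38 LD3_c28) (LK LD1_c1 LD2_c23 LD3_c4) Lrfl Lrfl
theorem f71958 : Led Lsl_bt (LP (LK LD1_c1 LD2_c23 LD3_c3)) = (LP (LK LD1_c0 LD2_c38 LD3_c28)) :=
  Lre_b IH (LK LD1_c1 LD2_c23 LD3_c3) (LK LD1_c0 LD2_c38 LD3_c28) Lrfl Lrfl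
theorem f81837 : Led Lsl_ct (LP (LK LD1_c2 LD2_c27 LD3_c4)) = (LP (LK LD1_c1 LD2_c23 LD3_c3)) :=
  Lgr Lrot83 (Lpe (K4.f76257 IH) (Lpe (f71024 IH) (Lpr_bf (f81833 IH) (Lpe (f69453 IH) (Lpe (f71958 IH) (Lpn (LP (LK LD1_c1 LD2_c23 LD3_c3))))))))
theorem f74313 : Led Lsl_ct (LP (LK LD1_c0 LD2_c32 LD3_c51)) = (LP (LK LD1_c1 LD2_c10 LD3_c49)) :=
  Lre_c IH (LK LD1_c0 LD2_c32 LD3_c51) (LK LD1_c1 LD2_c10 LD3_c49) Lrfl Lrfl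
theorem f74378 : Led Lsl_gt (LP (LK LD1_c0 LD2_c14 LD3_c46)) = (LP (LK LD1_c0 LD2_c32 LD3_c51)) :=
  Lre_g IH (LK LD1_c0 LD2_c14 LD3_c46) (LK LD1_c0 LD2_c32 LD3_c51) Lrfl Lrfl
theorem f56884 : Led Lsl_dt (LP (LK LD1_c0 LD2_c14 LD3_c46)) = (LP (LK LD1_c0 LD2_c32 LD3_c54)) :=
  Lre_d IH (LK LD1_c0 LD2_c14 LD3_c46) (LK LD1_c0 LD2_c32 LD3_c54) Lrfl Lrfl
theorem f57070 : Led Lsl_ct (LP (LK LD1_c1 LD2_c10 LD3_c58)) = (LP (LK LD1_c2 LD2_c27 LD3_c34)) :=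
  Lre_c IH (LK LD1_c1 LD2_c10 LD3_c58) (LK LD1_c2 LD2_c27 LD3_c34) Lrfl Lrfl
theorem f57074 : Led Lsl_gt (LP (LK LD1_c2 LD2_c27 LD3_c34)) = (LP (LK LD1_c4 LD2_c59 LD3_c22)) :=
  Lre_g IH (LK LD1_c2 LD2_c27 LD3_c34) (LK LD1_c4 LD2_c59 LD3_c22) Lrfl Lrfl
theorem f81951 : Led Lsl_dt (LP (LK LD1_c2 LD2_c54 LD3_c9)) = (LP (LK LD1_c1 LD2_c23 LD3_c3)) :=
  Lre_d IH (LK LD1_c2 LD2_c54 LD3_c9) (LK LD1_c1 LD2_c23 LD3_c3) Lrfl Lrfl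
theorem f81953 : Led Lsl_ct (LP (LK LD1_c4 LD2_c59 LD3_c22)) = (LP (LK LD1_c2 LD2_c54 LD3_c9)) :=
  Lgr Lrot110 (Lpe (f57074 IH) (Lpe (f57070 IH) (Lpe (K4.f56864 IH) (Lpe (f56884 IH) (Lpr_gt (f74378 IH) (Lpr_ct (f74313 IH) (Lpr_gt (K4.f76093 IH) (Lpr_ct (f81837 IH) (Lpe (f81951 IH) (Lpn (LP (LK LD1_c2 LD2_c54 LD3_c9))))))))))))
theorem f81960 : Led Lsl_cf (LP (LK LD1_c4 LD2_c59 LD3_c22)) = (LP (LK LD1_c2 LD2_c54 LD3_c9)) :=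
  Lgr Lrot11 (Lpr_ct (f81953 IH) (Lpn (LP (LK LD1_c2 LD2_c54 LD3_c9))))
theorem f81957 : Led Lsl_bt (LP (LK LD1_c2 LD2_c54 LD3_c9)) = (LP (LK LD1_c1 LD2_c23 LD3_c5)) :=
  Lre_b IH (LK LD1_c2 LD2_c54 LD3_c9) (LK LD1_c1 LD2_c23 LD3_c5) Lrfl Lrfl
theorem f81997 : Led Lsl_gf (LP (LK LD1_c0 LD2_c38 LD3_c55)) = (LP (LK LD1_c1 LD2_c23 LD3_c5)) :=
  Lgr Lrot124 (Lpe (f61830 IH) (Lpr_ct (K4.f57539 IH) (Lpr_gt (K1.f25133 IH) (Lpe (K1.f58904 IH) (Lpr_bt (K5.f40309 IH) (Lpr_gt (K4.f56864 IH) (Lpr_ct (f57070 IH) (Lpr_gt (f57074 IH) (Lpr_cf (f81960 IH) (Lpr_bt (f81957 IH) (Lpn (LP (LK LD1_c1 LD2_c23 LD3_c5)))))))))))))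
theorem f56863 : Led Lsl_gt (LP (LK LD1_c1 LD2_c24 LD3_c23)) = (LP (LK LD1_c2 LD2_c57 LD3_c14)) :=
  Lre_g IH (LK LD1_c1 LD2_c24 LD3_c23) (LK LD1_c2 LD2_c57 LD3_c14) Lrfl Lrfl
theorem f69449 : Led Lsl_dt (LP (LK LD1_c0 LD2_c38 LD3_c28)) = (LP (LK LD1_c1 LD2_c23 LD3_c5)) :=
  Lre_d IH (LK LD1_c0 LD2_c38 LD3_c28) (LK LD1_c1 LD2_c23 LD3_c5) Lrfl Lrfl
theorem f81822 : Led Lsl_ct (LP (LK LD1_c1 LD2_c23 LD3_c10)) = (LP (LK LD1_c2 LD2_c54 LD3_c21)) :=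
  Lre_c IH (LK LD1_c1 LD2_c23 LD3_c10) (LK LD1_c2 LD2_c54 LD3_c21) Lrfl Lrfl
theorem f82000 : Led Lsl_ct (LP (LK LD1_c2 LD2_c57 LD3_c14)) = (LP (LK LD1_c5 LD2_c56 LD3_c0)) :=
  Lgr Lrot110 (Lpe (f56863 IH) (Lpe (f56760 IH) (Lpr_gf (f81997 IH) (Lpe (f69449 IH) (Lpr_gt (f69439 IH) (Lpr_ct (K2.f37920 IH) (Lpr_gt (f81817 IH) (Lpr_ct (f81822 IH) (Lpe (f81999 IH) (Lpn (LP (LK LD1_c5 LD2_c56 LD3_c0))))))))))))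
theorem f137745 : Led Lsl_dt (LP (LK LD1_c5 LD2_c56 LD3_c44)) = (LP (LK LD1_c2 LD2_c57 LD3_c14)) :=
  Lgr Lrot159 (Lpr_ft (f137738 IH) (Lpr_at (f119744 IH) (Lpe (f65551 IH) (Lpe (f119731 IH) (Lpe (f82011 IH) (Lpe (f81823 IH) (Lpe (f81820 IH) (Lpe (f81999 IH) (Lpe (f82000 IH) (Lpn (LP (LK LD1_c2 LD2_c57 LD3_c14))))))))))))
theorem f137747 : Led Lsl_df (LP (LK LD1_c5 LD2_c56 LD3_c44)) = (LP (LK LD1_c2 LD2_c57 LD3_c14)) :=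
  Lgr Lrot38 (Lpr_dt (f137745 IH) (Lpn (LP (LK LD1_c2 LD2_c57 LD3_c14))))
theorem f82009 : Led Lsl_cf (LP (LK LD1_c2 LD2_c57 LD3_c14)) = (LP (LK LD1_c5 LD2_c56 LD3_c0)) :=
  Lgr Lrot11 (Lpr_ct (f82000 IH) (Lpn (LP (LK LD1_c5 LD2_c56 LD3_c0))))
theorem f82002 : Led Lsl_dt (LP (LK LD1_c2 LD2_c54 LD3_c21)) = (LP (LK LD1_c5 LD2_c56 LD3_c0)) :=
  Lre_d IH (LK LD1_c2 LD2_c54 LD3_c21) (LK LD1_c5 LD2_c56 LD3_c0) Lrfl Lrfl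
theorem f36523 : Led Lsl_dt (LP (LK LD1_c1 LD2_c1 LD3_c50)) = (LP (LK LD1_c2 LD2_c9 LD3_c25)) :=
  Lre_d IH (LK LD1_c1 LD2_c1 LD3_c50) (LK LD1_c2 LD2_c9 LD3_c25) Lrfl Lrfl
theorem f112612 : Led Lsl_bt (LP (LK LD1_c5 LD2_c56 LD3_c13)) = (LP (LK LD1_c9 LD2_c25 LD3_c57)) :=
  Lgr Lrot127 (Lpr_bf (K4.f112610 IH) (Lpn (LP (LK LD1_c9 LD2_c25 LD3_c57))))
theorem f105032 : Led Lsl_ct (LP (LK LD1_c4 LD2_c46 LD3_c38)) = (LP (LK LD1_c9 LD2_c25 LD3_c57)) :=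
  Lre_c IH (LK LD1_c4 LD2_c46 LD3_c38) (LK LD1_c9 LD2_c25 LD3_c57) Lrfl Lrfl
theorem f105033 : Led Lsl_dt (LP (LK LD1_c9 LD2_c25 LD3_c57)) = (LP (LK LD1_c4 LD2_c59 LD3_c13)) :=
  Lgr Lrot27 (Lpe (f105032 IH) (Lpr_gf (K4.f105026 IH) (Lpe (K2.f74791 IH) (Lpr_gf (K4.f104909 IH) (Lpe (K4.f26415 IH) (Lpr_gt (K0.f26413 IH) (Lpr_ct (K4.f20421 IH) (Lpr_gt (K0.f23455 IH) (Lpr_ct (K4.f26268 IH) (Lpn (LP (LK LD1_c4 LD2_c59 LD3_c13))))))))))))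
theorem f112873 : Led Lsl_df (LP (LK LD1_c5 LD2_c56 LD3_c13)) = (LP (LK LD1_c9 LD2_c11 LD3_c49)) :=
  Lgr Lrot12 (Lpr_bt (f112612 IH) (Lpr_dt (f105033 IH) (Lpe (K4.f26389 IH) (Lpn (LP (LK LD1_c9 LD2_c11 LD3_c49))))))
theorem f112875 : Led Lsl_dt (LP (LK LD1_c5 LD2_c56 LD3_c13)) = (LP (LK LD1_c9 LD2_c11 LD3_c49)) :=
  Lgr Lrot42 (Lpr_df (f112873 IH) (Lpn (LP (LK LD1_c9 LD2_c11 LD3_c49))))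
theorem f71889 : Led Lsl_gf (LP (LK LD1_c5 LD2_c56 LD3_c13)) = (LP (LK LD1_c8 LD2_c46 LD3_c42)) :=
  Lgr Lrot47 (Lpr_gt (K4.f69448 IH) (Lpe (K2.f71873 IH) (Lpr_ff (K2.f71874 IH) (Lpn (LP (LK LD1_c8 LD2_c46 LD3_c42))))))
theorem f119666 : Led Lsl_gf (LP (LK LD1_c2 LD2_c54 LD3_c27)) = (LP (LK LD1_c4 LD2_c24 LD3_c35)) :=
  Lgr Lrot144 (Lpr_dt (K4.f119650 IH) (Lpr_gt (K4.f36532 IH) (Lpr_dt (f36523 IH) (Lpe (K4.f36530 IH) (Lpe (K4.f36563 IH) (Lpr_gf (K4.f80032 IH) (Lpe (f112875 IH) (Lpr_gf (f71889 IH) (Lpe (K2.f35293 IH) (Lpn (LP (LK LD1_c4 LD2_c24 LD3_c35))))))))))))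
theorem f24072 : Led Lsl_dt (LP (LK LD1_c0 LD2_c17 LD3_c8)) = (LP (LK LD1_c0 LD2_c38 LD3_c31)) :=
  Lre_d IH (LK LD1_c0 LD2_c17 LD3_c8) (LK LD1_c0 LD2_c38 LD3_c31) Lrfl Lrfl
theorem f24073 : Led Lsl_ct (LP (LK LD1_c0 LD2_c38 LD3_c30)) = (LP (LK LD1_c0 LD2_c17 LD3_c8)) :=
  Lre_c IH (LK LD1_c0 LD2_c38 LD3_c30) (LK LD1_c0 LD2_c17 LD3_c8) Lrfl Lrfl
theorem f24074 : Led Lsl_gt (LP (LK LD1_c1 LD2_c23 LD3_c11)) = (LP (LK LD1_c0 LD2_c38 LD3_c30)) :=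
  Lre_g IH (LK LD1_c1 LD2_c23 LD3_c11) (LK LD1_c0 LD2_c38 LD3_c30) Lrfl Lrfl
theorem f24075 : Led Lsl_ct (LP (LK LD1_c1 LD2_c21 LD3_c53)) = (LP (LK LD1_c1 LD2_c23 LD3_c11)) :=
  Lre_c IH (LK LD1_c1 LD2_c21 LD3_c53) (LK LD1_c1 LD2_c23 LD3_c11) Lrfl Lrfl
theorem f24076 : Led Lsl_gt (LP (LK LD1_c2 LD2_c27 LD3_c5)) = (LP (LK LD1_c1 LD2_c21 LD3_c53)) :=
  Lre_g IH (LK LD1_c2 LD2_c27 LD3_c5) (LK LD1_c1 LD2_c21 LD3_c53) Lrfl Lrfl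
theorem f24077 : Led Lsl_dt (LP (LK LD1_c4 LD2_c58 LD3_c29)) = (LP (LK LD1_c2 LD2_c27 LD3_c5)) :=
  Lre_d IH (LK LD1_c4 LD2_c58 LD3_c29) (LK LD1_c2 LD2_c27 LD3_c5) Lrfl Lrfl
theorem f24078 : Led Lsl_gf (LP (LK LD1_c2 LD2_c51 LD3_c50)) = (LP (LK LD1_c4 LD2_c58 LD3_c29)) :=
  Lgr Lrot147 (Lpr_ct (K4.f24057 IH) (Lpr_gt (K4.f23923 IH) (Lpr_ct (K2.f23921 IH) (Lpe (f24072 IH) (Lpe (f24073 IH) (Lpe (f24074 IH) (Lpe (f24075 IH) (Lpe (f24076 IH) (Lpe (f24077 IH) (Lpn (LP (LK LD1_c4 LD2_c58 LD3_c29))))))))))))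
theorem f24080 : Led Lsl_dt (LP (LK LD1_c2 LD2_c27 LD3_c5)) = (LP (LK LD1_c4 LD2_c58 LD3_c29)) :=
  Lre_d IH (LK LD1_c2 LD2_c27 LD3_c5) (LK LD1_c4 LD2_c58 LD3_c29) Lrfl Lrfl
theorem f119668 : Led Lsl_gt (LP (LK LD1_c2 LD2_c54 LD3_c21)) = (LP (LK LD1_c2 LD2_c27 LD3_c5)) :=
  Lgr Lrot94 (Lpe (f81822 IH) (Lpe (f81818 IH) (Lpr_dt (K2.f35257 IH) (Lpe (f119666 IH) (Lpr_dt (K4.f119650 IH) (Lpe (K4.f36533 IH) (Lpe (K4.f112927 IH) (Lpr_gf (f24078 IH) (Lpe (f24080 IH) (Lpn (LP (LK LD1_c2 LD2_c27 LD3_c5))))))))))))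
theorem f119684 : Led Lsl_at (LP (LK LD1_c2 LD2_c51 LD3_c40)) = (LP (LK LD1_c1 LD2_c21 LD3_c53)) :=
  Lre_a IH (LK LD1_c2 LD2_c51 LD3_c40) (LK LD1_c1 LD2_c21 LD3_c53) Lrfl Lrfl
theorem f119685 : Led Lsl_ft (LP (LK LD1_c2 LD2_c54 LD3_c21)) = (LP (LK LD1_c2 LD2_c51 LD3_c40)) :=
  Lgr Lrot2 (Lpr_gt (f119668 IH) (Lpr_gt (f24076 IH) (Lpe (f119684 IH) (Lpn (LP (LK LD1_c2 LD2_c51 LD3_c40))))))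
theorem f112861 : Led Lsl_ct (LP (LK LD1_c1 LD2_c23 LD3_c11)) = (LP (LK LD1_c1 LD2_c21 LD3_c53)) :=
  Lre_c IH (LK LD1_c1 LD2_c23 LD3_c11) (LK LD1_c1 LD2_c21 LD3_c53) Lrfl Lrfl
theorem f119700 : Led Lsl_dt (LP (LK LD1_c2 LD2_c54 LD3_c24)) = (LP (LK LD1_c1 LD2_c23 LD3_c11)) :=
  Lre_d IH (LK LD1_c2 LD2_c54 LD3_c24) (LK LD1_c1 LD2_c23 LD3_c11) Lrfl Lrfl
theorem f119701 : Led Lsl_ct (LP (LK LD1_c5 LD2_c56 LD3_c4)) = (LP (LK LD1_c2 LD2_c54 LD3_c24)) :=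
  Lre_c IH (LK LD1_c5 LD2_c56 LD3_c4) (LK LD1_c2 LD2_c54 LD3_c24) Lrfl Lrfl
theorem f119702 : Led Lsl_dt (LP (LK LD1_c11 LD2_c37 LD3_c20)) = (LP (LK LD1_c5 LD2_c56 LD3_c4)) :=
  Lre_d IH (LK LD1_c11 LD2_c37 LD3_c20) (LK LD1_c5 LD2_c56 LD3_c4) Lrfl Lrfl
theorem f137753 : Led Lsl_ct (LP (LK LD1_c5 LD2_c56 LD3_c44)) = (LP (LK LD1_c11 LD2_c37 LD3_c20)) :=
  Lgr Lrot41 (Lpr_df (f137747 IH) (Lpr_cf (f82009 IH) (Lpe (f82002 IH) (Lpr_ft (f119685 IH) (Lpr_at (f119684 IH) (Lpe (f112861 IH) (Lpe (f119700 IH) (Lpe (f119701 IH) (Lpe (f119702 IH) (Lpn (LP (LK LD1_c11 LD2_c37 LD3_c20))))))))))))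
theorem f81821 : Led Lsl_dt (LP (LK LD1_c2 LD2_c54 LD3_c22)) = (LP (LK LD1_c1 LD2_c23 LD3_c10)) :=
  Lre_d IH (LK LD1_c2 LD2_c54 LD3_c22) (LK LD1_c1 LD2_c23 LD3_c10) Lrfl Lrfl
theorem f82027 : Led Lsl_ct (LP (LK LD1_c5 LD2_c56 LD3_c1)) = (LP (LK LD1_c2 LD2_c54 LD3_c22)) :=
  Lre_c IH (LK LD1_c5 LD2_c56 LD3_c1) (LK LD1_c2 LD2_c54 LD3_c22) Lrfl Lrfl
theorem f119879 : Led Lsl_ct (LP (LK LD1_c4 LD2_c23 LD3_c59)) = (LP (LK LD1_c8 LD2_c45 LD3_c42)) :=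
  Lre_c IH (LK LD1_c4 LD2_c23 LD3_c59) (LK LD1_c8 LD2_c45 LD3_c42) Lrfl Lrfl
theorem f137706 : Led Lsl_ft (LP (LK LD1_c2 LD2_c54 LD3_c22)) = (LP (LK LD1_c4 LD2_c23 LD3_c59)) :=
  Lgr Lrot4 (Lpe (f82027 IH) (Lpr_ff (f137704 IH) (Lpe (f119879 IH) (Lpn (LP (LK LD1_c4 LD2_c23 LD3_c59))))))
theorem f137768 : Led Lsl_at (LP (LK LD1_c4 LD2_c23 LD3_c59)) = (LP (LK LD1_c2 LD2_c54 LD3_c24)) :=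
  Lgr Lrot33 (Lpe (f137706 IH) (Lpr_dt (f81821 IH) (Lpr_ct (f81822 IH) (Lpr_dt (f82002 IH) (Lpe (f82009 IH) (Lpe (f137747 IH) (Lpr_ct (f137753 IH) (Lpr_dt (f119702 IH) (Lpr_ct (f119701 IH) (Lpn (LP (LK LD1_c2 LD2_c54 LD3_c24))))))))))))
theorem f137679 : Led Lsl_et (LP (LK LD1_c8 LD2_c45 LD3_c43)) = (LP (LK LD1_c4 LD2_c23 LD3_c59)) :=
  Lre_e IH (LK LD1_c8 LD2_c45 LD3_c43) (LK LD1_c4 LD2_c23 LD3_c59) Lrfl Lrfl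
theorem f137778 : Led Lsl_et (LP (LK LD1_c2 LD2_c54 LD3_c24)) = (LP (LK LD1_c5 LD2_c56 LD3_c5)) :=
  Lre_e IH (LK LD1_c2 LD2_c54 LD3_c24) (LK LD1_c5 LD2_c56 LD3_c5) Lrfl Lrfl
theorem f137779 : Led Lsl_af (LP (LK LD1_c8 LD2_c45 LD3_c43)) = (LP (LK LD1_c5 LD2_c56 LD3_c5)) :=
  Lgr Lrot50 (Lpr_et (f137679 IH) (Lpr_at (f137768 IH) (Lpr_et (f137778 IH) (Lpn (LP (LK LD1_c5 LD2_c56 LD3_c5))))))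
theorem f137663 : Led Lsl_dt (LP (LK LD1_c8 LD2_c45 LD3_c43)) = (LP (LK LD1_c16 LD2_c23 LD3_c55)) :=
  Lre_d IH (LK LD1_c8 LD2_c45 LD3_c43) (LK LD1_c16 LD2_c23 LD3_c55) Lrfl Lrfl
theorem f137787 : Led Lsl_dt (LP (LK LD1_c11 LD2_c37 LD3_c24)) = (LP (LK LD1_c5 LD2_c56 LD3_c5)) :=
  Lre_d IH (LK LD1_c11 LD2_c37 LD3_c24) (LK LD1_c5 LD2_c56 LD3_c5) Lrfl Lrfl
theorem f137788 : Led Lsl_at (LP (LK LD1_c16 LD2_c23 LD3_c55)) = (LP (LK LD1_c11 LD2_c37 LD3_c24)) :=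
  Lgr Lrot51 (Lpe (f137663 IH) (Lpr_af (f137779 IH) (Lpe (f137787 IH) (Lpn (LP (LK LD1_c11 LD2_c37 LD3_c24))))))
theorem f34874 : Led Lsl_gt (LP (LK LD1_c1 LD2_c1 LD3_c60)) = (LP (LK LD1_c2 LD2_c9 LD3_c44)) :=
  Lre_g IH (LK LD1_c1 LD2_c1 LD3_c60) (LK LD1_c2 LD2_c9 LD3_c44) Lrfl Lrfl
theorem f137653 : Led Lsl_dt (LP (LK LD1_c2 LD2_c9 LD3_c44)) = (LP (LK LD1_c4 LD2_c23 LD3_c59)) :=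
  Lgr Lrot182 (Lpe (f34874 IH) (Lpe (K2.f34754 IH) (Lpe (K0.f34740 IH) (Lpr_df (K1.f34759 IH) (Lpr_gf (K0.f27190 IH) (Lpe (K0.f7113 IH) (Lpe (K0.f7110 IH) (Lpe (K0.f25147 IH) (Lpe (K0.f3970 IH) (Lpe (K2.f25759 IH) (Lpe (K0.f20966 IH) (Lpe (K0.f25731 IH) (Lpr_gf (K1.f25999 IH) (Lpe (K3.f26001 IH) (Lpe (K2.f9749 IH) (Lpe (K2.f9750 IH) (Lpe (K3.f110300 IH) (Lpr_bf (f137639 IH) (Lpe (f119879 IH) (Lpn (LP (LK LD1_c4 LD2_c23 LD3_c59))))))))))))))))))))))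
theorem f34877 : Led Lsl_et (LP (LK LD1_c4 LD2_c24 LD3_c34)) = (LP (LK LD1_c2 LD2_c9 LD3_c44)) :=
  Lre_e IH (LK LD1_c4 LD2_c24 LD3_c34) (LK LD1_c2 LD2_c9 LD3_c44) Lrfl Lrfl
theorem f137661 : Led Lsl_dt (LP (LK LD1_c8 LD2_c46 LD3_c41)) = (LP (LK LD1_c4 LD2_c24 LD3_c34)) :=
  Lre_d IH (LK LD1_c8 LD2_c46 LD3_c41) (LK LD1_c4 LD2_c24 LD3_c34) Lrfl Lrfl
theorem f137662 : Led Lsl_et (LP (LK LD1_c4 LD2_c23 LD3_c59)) = (LP (LK LD1_c8 LD2_c45 LD3_c43)) :=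
  Lre_e IH (LK LD1_c4 LD2_c23 LD3_c59) (LK LD1_c8 LD2_c45 LD3_c43) Lrfl Lrfl
theorem f137664 : Led Lsl_ef (LP (LK LD1_c8 LD2_c46 LD3_c41)) = (LP (LK LD1_c16 LD2_c23 LD3_c55)) :=
  Lgr Lrot73 (Lpr_dt (f137661 IH) (Lpr_et (f34877 IH) (Lpr_dt (f137653 IH) (Lpr_et (f137662 IH) (Lpr_dt (f137663 IH) (Lpn (LP (LK LD1_c16 LD2_c23 LD3_c55))))))))
theorem f137671 : Led Lsl_et (LP (LK LD1_c8 LD2_c46 LD3_c41)) = (LP (LK LD1_c16 LD2_c23 LD3_c55)) :=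
  Lgr Lrot87 (Lpr_ef (f137664 IH) (Lpn (LP (LK LD1_c16 LD2_c23 LD3_c55))))
theorem f137810 : Led Lsl_et (LP (LK LD1_c11 LD2_c37 LD3_c24)) = (LP (LK LD1_c5 LD2_c56 LD3_c6)) :=
  Lre_e IH (LK LD1_c11 LD2_c37 LD3_c24) (LK LD1_c5 LD2_c56 LD3_c6) Lrfl Lrfl
theorem f137811 : Led Lsl_af (LP (LK LD1_c8 LD2_c46 LD3_c41)) = (LP (LK LD1_c5 LD2_c56 LD3_c6)) :=
  Lgr Lrot50 (Lpr_et (f137671 IH) (Lpr_at (f137788 IH) (Lpr_et (f137810 IH) (Lpn (LP (LK LD1_c5 LD2_c56 LD3_c6))))))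
theorem f112840 : Led Lsl_dt (LP (LK LD1_c2 LD2_c54 LD3_c25)) = (LP (LK LD1_c5 LD2_c56 LD3_c6)) :=
  Lre_d IH (LK LD1_c2 LD2_c54 LD3_c25) (LK LD1_c5 LD2_c56 LD3_c6) Lrfl Lrfl
theorem f137820 : Led Lsl_at (LP (LK LD1_c4 LD2_c24 LD3_c34)) = (LP (LK LD1_c2 LD2_c54 LD3_c25)) :=
  Lgr Lrot51 (Lpe (f137661 IH) (Lpr_af (f137811 IH) (Lpe (f112840 IH) (Lpn (LP (LK LD1_c2 LD2_c54 LD3_c25))))))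
theorem f112851 : Led Lsl_ct (LP (LK LD1_c2 LD2_c54 LD3_c25)) = (LP (LK LD1_c2 LD2_c51 LD3_c41)) :=
  Lre_c IH (LK LD1_c2 LD2_c54 LD3_c25) (LK LD1_c2 LD2_c51 LD3_c41) Lrfl Lrfl
theorem f137825 : Led Lsl_at (LP (LK LD1_c2 LD2_c51 LD3_c41)) = (LP (LK LD1_c5 LD2_c50 LD3_c57)) :=
  Lre_a IH (LK LD1_c2 LD2_c51 LD3_c41) (LK LD1_c5 LD2_c50 LD3_c57) Lrfl Lrfl
theorem f137826 : Led Lsl_cf (LP (LK LD1_c4 LD2_c24 LD3_c34)) = (LP (LK LD1_c5 LD2_c50 LD3_c57)) :=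
  Lgr Lrot1 (Lpr_at (f137820 IH) (Lpr_ct (f112851 IH) (Lpr_at (f137825 IH) (Lpn (LP (LK LD1_c5 LD2_c50 LD3_c57))))))
theorem f119697 : Led Lsl_et (LP (LK LD1_c2 LD2_c51 LD3_c40)) = (LP (LK LD1_c5 LD2_c50 LD3_c57)) :=
  Lre_e IH (LK LD1_c2 LD2_c51 LD3_c40) (LK LD1_c5 LD2_c50 LD3_c57) Lrfl Lrfl
theorem f137833 : Led Lsl_ct (LP (LK LD1_c2 LD2_c9 LD3_c44)) = (LP (LK LD1_c2 LD2_c51 LD3_c40)) :=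
  Lgr Lrot15 (Lpe (f34877 IH) (Lpr_cf (f137826 IH) (Lpe (f119697 IH) (Lpn (LP (LK LD1_c2 LD2_c51 LD3_c40))))))
theorem f119698 : Led Lsl_ff (LP (LK LD1_c2 LD2_c54 LD3_c21)) = (LP (LK LD1_c2 LD2_c51 LD3_c40)) :=
  Lgr Lrot3 (Lpr_ft (f119685 IH) (Lpn (LP (LK LD1_c2 LD2_c51 LD3_c40))))
theorem f137837 : Led Lsl_ff (LP (LK LD1_c2 LD2_c9 LD3_c44)) = (LP (LK LD1_c1 LD2_c23 LD3_c10)) :=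
  Lgr Lrot23 (Lpr_ct (f137833 IH) (Lpe (f119698 IH) (Lpr_ct (f81820 IH) (Lpn (LP (LK LD1_c1 LD2_c23 LD3_c10))))))
theorem f137841 : Led Lsl_ft (LP (LK LD1_c2 LD2_c9 LD3_c44)) = (LP (LK LD1_c1 LD2_c23 LD3_c10)) :=
  Lgr Lrot48 (Lpr_ff (f137837 IH) (Lpn (LP (LK LD1_c1 LD2_c23 LD3_c10))))
theorem f137655 : Led Lsl_bt (LP (LK LD1_c4 LD2_c24 LD3_c33)) = (LP (LK LD1_c2 LD2_c9 LD3_c44)) :=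
  Lre_b IH (LK LD1_c4 LD2_c24 LD3_c33) (LK LD1_c2 LD2_c9 LD3_c44) Lrfl Lrfl
theorem f81828 : Led Lsl_bt (LP (LK LD1_c1 LD2_c23 LD3_c10)) = (LP (LK LD1_c2 LD2_c54 LD3_c20)) :=
  Lre_b IH (LK LD1_c1 LD2_c23 LD3_c10) (LK LD1_c2 LD2_c54 LD3_c20) Lrfl Lrfl
theorem f137843 : Led Lsl_ff (LP (LK LD1_c4 LD2_c24 LD3_c33)) = (LP (LK LD1_c2 LD2_c54 LD3_c20)) :=
  Lgr Lrot25 (Lpr_bt (f137655 IH) (Lpr_ft (f137841 IH) (Lpr_bt (f81828 IH) (Lpn (LP (LK LD1_c2 LD2_c54 LD3_c20))))))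
theorem f137659 : Led Lsl_df (LP (LK LD1_c2 LD2_c9 LD3_c44)) = (LP (LK LD1_c4 LD2_c23 LD3_c59)) :=
  Lgr Lrot38 (Lpr_dt (f137653 IH) (Lpn (LP (LK LD1_c4 LD2_c23 LD3_c59))))
theorem f137680 : Led Lsl_bt (LP (LK LD1_c2 LD2_c9 LD3_c44)) = (LP (LK LD1_c4 LD2_c24 LD3_c33)) :=
  Lre_b IH (LK LD1_c2 LD2_c9 LD3_c44) (LK LD1_c4 LD2_c24 LD3_c33) Lrfl Lrfl
theorem f137643 : Led Lsl_bt (LP (LK LD1_c8 LD2_c45 LD3_c41)) = (LP (LK LD1_c4 LD2_c23 LD3_c59)) :=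
  Lre_b IH (LK LD1_c8 LD2_c45 LD3_c41) (LK LD1_c4 LD2_c23 LD3_c59) Lrfl Lrfl
theorem f137681 : Led Lsl_dt (LP (LK LD1_c4 LD2_c24 LD3_c33)) = (LP (LK LD1_c8 LD2_c45 LD3_c41)) :=
  Lgr Lrot79 (Lpe (f137680 IH) (Lpr_df (f137659 IH) (Lpe (f137643 IH) (Lpn (LP (LK LD1_c8 LD2_c45 LD3_c41))))))
theorem f81831 : Led Lsl_dt (LP (LK LD1_c5 LD2_c55 LD3_c61)) = (LP (LK LD1_c2 LD2_c54 LD3_c20)) :=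
  Lre_d IH (LK LD1_c5 LD2_c55 LD3_c61) (LK LD1_c2 LD2_c54 LD3_c20) Lrfl Lrfl
theorem f137845 : Led Lsl_ft (LP (LK LD1_c8 LD2_c45 LD3_c41)) = (LP (LK LD1_c5 LD2_c55 LD3_c61)) :=
  Lgr Lrot54 (Lpe (f137681 IH) (Lpr_ff (f137843 IH) (Lpe (f81831 IH) (Lpn (LP (LK LD1_c5 LD2_c55 LD3_c61))))))
theorem f137644 : Led Lsl_ct (LP (LK LD1_c8 LD2_c50 LD3_c28)) = (LP (LK LD1_c8 LD2_c45 LD3_c41)) :=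
  Lgr Lrot83 (Lpe (f137629 IH) (Lpe (K3.f110304 IH) (Lpr_bf (f137639 IH) (Lpe (f119879 IH) (Lpe (f137643 IH) (Lpn (LP (LK LD1_c8 LD2_c45 LD3_c41))))))))
theorem f82054 : Led Lsl_ct (LP (LK LD1_c5 LD2_c55 LD3_c61)) = (LP (LK LD1_c11 LD2_c37 LD3_c10)) :=
  Lre_c IH (LK LD1_c5 LD2_c55 LD3_c61) (LK LD1_c11 LD2_c37 LD3_c10) Lrfl Lrfl
theorem f137847 : Led Lsl_ff (LP (LK LD1_c8 LD2_c50 LD3_c28)) = (LP (LK LD1_c11 LD2_c37 LD3_c10)) :=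
  Lgr Lrot23 (Lpr_ct (f137644 IH) (Lpr_ft (f137845 IH) (Lpr_ct (f82054 IH) (Lpn (LP (LK LD1_c11 LD2_c37 LD3_c10))))))
theorem f137855 : Led Lsl_ft (LP (LK LD1_c8 LD2_c50 LD3_c28)) = (LP (LK LD1_c11 LD2_c37 LD3_c10)) :=
  Lgr Lrot48 (Lpr_ff (f137847 IH) (Lpn (LP (LK LD1_c11 LD2_c37 LD3_c10))))
theorem f81832 : Led Lsl_ct (LP (LK LD1_c11 LD2_c37 LD3_c10)) = (LP (LK LD1_c5 LD2_c55 LD3_c61)) :=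
  Lre_c IH (LK LD1_c11 LD2_c37 LD3_c10) (LK LD1_c5 LD2_c55 LD3_c61) Lrfl Lrfl
theorem f137851 : Led Lsl_ff (LP (LK LD1_c8 LD2_c45 LD3_c41)) = (LP (LK LD1_c5 LD2_c55 LD3_c61)) :=
  Lgr Lrot3 (Lpr_ft (f137845 IH) (Lpn (LP (LK LD1_c5 LD2_c55 LD3_c61))))
theorem f137857 : Led Lsl_cf (LP (LK LD1_c8 LD2_c50 LD3_c28)) = (LP (LK LD1_c8 LD2_c45 LD3_c41)) :=
  Lgr Lrot108 (Lpr_ft (f137855 IH) (Lpr_ct (f81832 IH) (Lpe (f137851 IH) (Lpn (LP (LK LD1_c8 LD2_c45 LD3_c41))))))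
theorem f137632 : Led Lsl_bf (LP (LK LD1_c6 LD2_c18 LD3_c22)) = (LP (LK LD1_c8 LD2_c50 LD3_c28)) :=
  Lgr Lrot24 (Lpr_bt (f137629 IH) (Lpn (LP (LK LD1_c8 LD2_c50 LD3_c28))))
theorem f127518 : Led Lsl_gt (LP (LK LD1_c6 LD2_c18 LD3_c22)) = (LP (LK LD1_c6 LD2_c32 LD3_c49)) :=
  Lgr Lrot150 (Lpe (K3.f110304 IH) (Lpr_gf (K3.f110293 IH) (Lpe (K3.f77171 IH) (Lpr_gt (K4.f77320 IH) (Lpr_ct (K3.f60976 IH) (Lpe (K3.f111004 IH) (Lpr_ct (K2.f78119 IH) (Lpe (K5.f78118 IH) (Lpr_cf (K5.f127508 IH) (Lpn (LP (LK LD1_c6 LD2_c32 LD3_c49))))))))))))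
theorem f24401 : Led Lsl_dt (LP (LK LD1_c6 LD2_c32 LD3_c49)) = (LP (LK LD1_c3 LD2_c14 LD3_c39)) :=
  Lre_d IH (LK LD1_c6 LD2_c32 LD3_c49) (LK LD1_c3 LD2_c14 LD3_c39) Lrfl Lrfl
theorem f21007 : Led Lsl_dt (LP (LK LD1_c0 LD2_c3 LD3_c43)) = (LP (LK LD1_c0 LD2_c8 LD3_c6)) :=
  Lre_d IH (LK LD1_c0 LD2_c3 LD3_c43) (LK LD1_c0 LD2_c8 LD3_c6) Lrfl Lrfl
theorem f100253 : Led Lsl_bt (LP (LK LD1_c1 LD2_c4 LD3_c52)) = (LP (LK LD1_c2 LD2_c15 LD3_c41)) :=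
  Lre_b IH (LK LD1_c1 LD2_c4 LD3_c52) (LK LD1_c2 LD2_c15 LD3_c41) Lrfl Lrfl
theorem f137865 : Led Lsl_gt (LP (LK LD1_c2 LD2_c15 LD3_c41)) = (LP (LK LD1_c4 LD2_c24 LD3_c33)) :=
  Lgr Lrot190 (Lpe (f100253 IH) (Lpe (K5.f20416 IH) (Lpe (K5.f99946 IH) (Lpe (K4.f99655 IH) (Lpe (f73013 IH) (Lpe (K0.f23034 IH) (Lpe (f21007 IH) (Lpe (K0.f10013 IH) (Lpe (K2.f24977 IH) (Lpe (K2.f57571 IH) (Lpe (K2.f57532 IH) (Lpe (K4.f103515 IH) (Lpe (K4.f103511 IH) (Lpe (K4.f24390 IH) (Lpe (f24401 IH) (Lpe (f127518 IH) (Lpr_bf (f137632 IH) (Lpr_cf (f137857 IH) (Lpe (f137681 IH) (Lpn (LP (LK LD1_c4 LD2_c24 LD3_c33))))))))))))))))))))))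
theorem f112461 : Led Lsl_dt (LP (LK LD1_c2 LD2_c15 LD3_c41)) = (LP (LK LD1_c4 LD2_c36 LD3_c55)) :=
  Lre_d IH (LK LD1_c2 LD2_c15 LD3_c41) (LK LD1_c4 LD2_c36 LD3_c55) Lrfl Lrfl
theorem f60400 : Led Lsl_bt (LP (LK LD1_c2 LD2_c48 LD3_c58)) = (LP (LK LD1_c1 LD2_c20 LD3_c35)) :=
  Lre_b IH (LK LD1_c2 LD2_c48 LD3_c58) (LK LD1_c1 LD2_c20 LD3_c35) Lrfl Lrfl
theorem f99744 : Led Lsl_bt (LP (LK LD1_c2 LD2_c15 LD3_c42)) = (LP (LK LD1_c4 LD2_c36 LD3_c55)) :=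
  Lre_b IH (LK LD1_c2 LD2_c15 LD3_c42) (LK LD1_c4 LD2_c36 LD3_c55) Lrfl Lrfl
theorem f112456 : Led Lsl_gt (LP (LK LD1_c4 LD2_c36 LD3_c55)) = (LP (LK LD1_c6 LD2_c24 LD3_c24)) :=
  Lgr Lrot82 (Lpe (f99744 IH) (Lpr_ct (K5.f99743 IH) (Lpe (K5.f99738 IH) (Lpe (K5.f60264 IH) (Lpr_bt (f60400 IH) (Lpe (K2.f69359 IH) (Lpe (K4.f38232 IH) (Lpr_ct (K5.f38509 IH) (Lpe (K4.f38516 IH) (Lpr_cf (K5.f112446 IH) (Lpn (LP (LK LD1_c6 LD2_c24 LD3_c24)))))))))))))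
theorem f137868 : Led Lsl_cf (LP (LK LD1_c2 LD2_c9 LD3_c50)) = (LP (LK LD1_c4 LD2_c24 LD3_c33)) :=
  Lgr Lrot169 (Lpr_gt (f36004 IH) (Lpe (K1.f38484 IH) (Lpe (K4.f38515 IH) (Lpe (K4.f38233 IH) (Lpe (K4.f38516 IH) (Lpr_cf (K5.f112446 IH) (Lpe (f112456 IH) (Lpe (f112461 IH) (Lpr_gt (f137865 IH) (Lpn (LP (LK LD1_c4 LD2_c24 LD3_c33))))))))))))
theorem f81829 : Led Lsl_ct (LP (LK LD1_c3 LD2_c57 LD3_c42)) = (LP (LK LD1_c2 LD2_c54 LD3_c20)) :=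
  Lgr Lrot59 (Lpr_cf (f81825 IH) (Lpn (LP (LK LD1_c2 LD2_c54 LD3_c20))))
theorem f137880 : Led Lsl_ft (LP (LK LD1_c2 LD2_c9 LD3_c50)) = (LP (LK LD1_c3 LD2_c57 LD3_c42)) :=
  Lgr Lrot4 (Lpr_cf (f137868 IH) (Lpr_ff (f137843 IH) (Lpe (f81829 IH) (Lpn (LP (LK LD1_c3 LD2_c57 LD3_c42))))))
theorem f137886 : Led Lsl_af (LP (LK LD1_c2 LD2_c9 LD3_c49)) = (LP (LK LD1_c3 LD2_c57 LD3_c42)) :=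
  Lgr Lrot31 (Lpe (f35441 IH) (Lpe (f36004 IH) (Lpr_ft (f137880 IH) (Lpn (LP (LK LD1_c3 LD2_c57 LD3_c42))))))
theorem f35997 : Led Lsl_ct (LP (LK LD1_c2 LD2_c9 LD3_c49)) = (LP (LK LD1_c4 LD2_c24 LD3_c41)) :=
  Lre_c IH (LK LD1_c2 LD2_c9 LD3_c49) (LK LD1_c4 LD2_c24 LD3_c41) Lrfl Lrfl
theorem f137890 : Led Lsl_at (LP (LK LD1_c4 LD2_c24 LD3_c41)) = (LP (LK LD1_c2 LD2_c54 LD3_c20)) :=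
  Lgr Lrot107 (Lpe (f35997 IH) (Lpr_af (f137886 IH) (Lpr_cf (f81825 IH) (Lpn (LP (LK LD1_c2 LD2_c54 LD3_c20))))))
theorem f137892 : Led Lsl_af (LP (LK LD1_c4 LD2_c24 LD3_c41)) = (LP (LK LD1_c2 LD2_c54 LD3_c20)) :=
  Lgr Lrot0 (Lpr_at (f137890 IH) (Lpn (LP (LK LD1_c2 LD2_c54 LD3_c20))))
theorem f137839 : Led Lsl_ft (LP (LK LD1_c4 LD2_c24 LD3_c33)) = (LP (LK LD1_c2 LD2_c54 LD3_c20)) :=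
  Lgr Lrot75 (Lpe (f137680 IH) (Lpr_ff (f137837 IH) (Lpe (f81824 IH) (Lpn (LP (LK LD1_c2 LD2_c54 LD3_c20))))))
theorem f61786 : Led Lsl_dt (LP (LK LD1_c3 LD2_c6 LD3_c26)) = (LP (LK LD1_c6 LD2_c18 LD3_c22)) :=
  Lre_d IH (LK LD1_c3 LD2_c6 LD3_c26) (LK LD1_c6 LD2_c18 LD3_c22) Lrfl Lrfl
theorem f110930 : Led Lsl_bt (LP (LK LD1_c6 LD2_c18 LD3_c21)) = (LP (LK LD1_c3 LD2_c6 LD3_c26)) :=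
  Lre_b IH (LK LD1_c6 LD2_c18 LD3_c21) (LK LD1_c3 LD2_c6 LD3_c26) Lrfl Lrfl
theorem f137634 : Led Lsl_df (LP (LK LD1_c6 LD2_c18 LD3_c21)) = (LP (LK LD1_c8 LD2_c50 LD3_c28)) :=
  Lgr Lrot12 (Lpr_bt (f110930 IH) (Lpr_dt (f61786 IH) (Lpr_bt (f137629 IH) (Lpn (LP (LK LD1_c8 LD2_c50 LD3_c28))))))
theorem f137544 : Led Lsl_dt (LP (LK LD1_c4 LD2_c40 LD3_c32)) = (LP (LK LD1_c8 LD2_c46 LD3_c14)) :=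
  Lgr Lrot42 (Lpr_df (f137536 IH) (Lpn (LP (LK LD1_c8 LD2_c46 LD3_c14))))
theorem f75645 : Led Lsl_ct (LP (LK LD1_c8 LD2_c46 LD3_c14)) = (LP (LK LD1_c4 LD2_c24 LD3_c19)) :=
  Lre_c IH (LK LD1_c8 LD2_c46 LD3_c14) (LK LD1_c4 LD2_c24 LD3_c19) Lrfl Lrfl
theorem f137894 : Led Lsl_df (LP (LK LD1_c2 LD2_c9 LD3_c49)) = (LP (LK LD1_c4 LD2_c24 LD3_c19)) :=
  Lgr Lrot177 (Lpr_ct (f35997 IH) (Lpr_af (f137892 IH) (Lpe (f137839 IH) (Lpr_dt (f137681 IH) (Lpe (f137857 IH) (Lpe (f137634 IH) (Lpr_ct (f110923 IH) (Lpr_dt (f137544 IH) (Lpr_ct (f75645 IH) (Lpn (LP (LK LD1_c4 LD2_c24 LD3_c19))))))))))))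
theorem f137896 : Led Lsl_bt (LP (LK LD1_c2 LD2_c9 LD3_c49)) = (LP (LK LD1_c1 LD2_c22 LD3_c42)) :=
  Lgr Lrot95 (Lpr_df (f137894 IH) (Lpe (f137512 IH) (Lpe (f81849 IH) (Lpn (LP (LK LD1_c1 LD2_c22 LD3_c42))))))
theorem f35996 : Led Lsl_ct (LP (LK LD1_c4 LD2_c24 LD3_c41)) = (LP (LK LD1_c2 LD2_c9 LD3_c49)) :=
  Lre_c IH (LK LD1_c4 LD2_c24 LD3_c41) (LK LD1_c2 LD2_c9 LD3_c49) Lrfl Lrfl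
theorem f101752 : Led Lsl_bt (LP (LK LD1_c0 LD2_c38 LD3_c19)) = (LP (LK LD1_c1 LD2_c22 LD3_c41)) :=
  Lre_b IH (LK LD1_c0 LD2_c38 LD3_c19) (LK LD1_c1 LD2_c22 LD3_c41) Lrfl Lrfl
theorem f137905 : Led Lsl_bf (LP (LK LD1_c4 LD2_c24 LD3_c41)) = (LP (LK LD1_c2 LD2_c53 LD3_c11)) :=
  Lgr Lrot90 (Lpr_ct (f35996 IH) (Lpr_bt (f137896 IH) (Lpr_ct (f72248 IH) (Lpr_bt (f101752 IH) (Lpr_ct (K4.f81851 IH) (Lpn (LP (LK LD1_c2 LD2_c53 LD3_c11))))))))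
theorem f138741 : Led Lsl_bt (LP (LK LD1_c4 LD2_c24 LD3_c41)) = (LP (LK LD1_c2 LD2_c53 LD3_c11)) :=
  Lgr Lrot127 (Lpr_bf (f137905 IH) (Lpn (LP (LK LD1_c2 LD2_c53 LD3_c11))))
theorem f71037 : Led Lsl_at (LP (LK LD1_c2 LD2_c15 LD3_c11)) = (LP (LK LD1_c1 LD2_c4 LD3_c43)) :=
  Lre_a IH (LK LD1_c2 LD2_c15 LD3_c11) (LK LD1_c1 LD2_c4 LD3_c43) Lrfl Lrfl
theorem f71047 : Led Lsl_gt (LP (LK LD1_c2 LD2_c15 LD3_c15)) = (LP (LK LD1_c1 LD2_c4 LD3_c43)) :=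
  Lre_g IH (LK LD1_c2 LD2_c15 LD3_c15) (LK LD1_c1 LD2_c4 LD3_c43) Lrfl Lrfl
theorem f71048 : Led Lsl_gf (LP (LK LD1_c2 LD2_c15 LD3_c15)) = (LP (LK LD1_c1 LD2_c22 LD3_c44)) :=
  Lgr Lrot47 (Lpr_gt (f71047 IH) (Lpe (f71037 IH) (Lpr_ff (K2.f71013 IH) (Lpn (LP (LK LD1_c1 LD2_c22 LD3_c44))))))
theorem f71053 : Led Lsl_ct (LP (LK LD1_c2 LD2_c15 LD3_c15)) = (LP (LK LD1_c2 LD2_c14 LD3_c22)) :=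
  Lre_c IH (LK LD1_c2 LD2_c15 LD3_c15) (LK LD1_c2 LD2_c14 LD3_c22) Lrfl Lrfl
theorem f82028 : Led Lsl_bt (LP (LK LD1_c0 LD2_c32 LD3_c52)) = (LP (LK LD1_c1 LD2_c10 LD3_c53)) :=
  Lre_b IH (LK LD1_c0 LD2_c32 LD3_c52) (LK LD1_c1 LD2_c10 LD3_c53) Lrfl Lrfl
theorem f99528 : Led Lsl_bt (LP (LK LD1_c2 LD2_c27 LD3_c19)) = (LP (LK LD1_c3 LD2_c3 LD3_c23)) :=
  Lgr Lrot128 (Lpe (K2.f72404 IH) (Lpe (f82028 IH) (Lpe (K4.f74364 IH) (Lpr_bf (K4.f99523 IH) (Lpe (f72251 IH) (Lpn (LP (LK LD1_c3 LD2_c3 LD3_c23))))))))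
theorem f138743 : Led Lsl_gt (LP (LK LD1_c2 LD2_c14 LD3_c22)) = (LP (LK LD1_c1 LD2_c10 LD3_c53)) :=
  Lgr Lrot149 (Lpe (f71053 IH) (Lpr_gf (f71048 IH) (Lpe (K2.f71039 IH) (Lpr_ct (K4.f71825 IH) (Lpr_gf (f35992 IH) (Lpe (f35996 IH) (Lpr_bt (f138741 IH) (Lpr_gf (K4.f99533 IH) (Lpe (f99528 IH) (Lpr_ct (K2.f72418 IH) (Lpn (LP (LK LD1_c1 LD2_c10 LD3_c53)))))))))))))
theorem f100241 : Led Lsl_gt (LP (LK LD1_c4 LD2_c25 LD3_c47)) = (LP (LK LD1_c2 LD2_c14 LD3_c22)) :=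
  Lre_g IH (LK LD1_c4 LD2_c25 LD3_c47) (LK LD1_c2 LD2_c14 LD3_c22) Lrfl Lrfl
theorem f138824 : Led Lsl_at (LP (LK LD1_c2 LD2_c27 LD3_c18)) = (LP (LK LD1_c1 LD2_c10 LD3_c53)) :=
  Lre_a IH (LK LD1_c2 LD2_c27 LD3_c18) (LK LD1_c1 LD2_c10 LD3_c53) Lrfl Lrfl
theorem f138825 : Led Lsl_ft (LP (LK LD1_c4 LD2_c25 LD3_c47)) = (LP (LK LD1_c2 LD2_c27 LD3_c18)) :=
  Lgr Lrot2 (Lpr_gt (f100241 IH) (Lpr_gt (f138743 IH) (Lpe (f138824 IH) (Lpn (LP (LK LD1_c2 LD2_c27 LD3_c18))))))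
theorem f138871 : Led Lsl_ff (LP (LK LD1_c4 LD2_c25 LD3_c47)) = (LP (LK LD1_c2 LD2_c27 LD3_c18)) :=
  Lgr Lrot3 (Lpr_ft (f138825 IH) (Lpn (LP (LK LD1_c2 LD2_c27 LD3_c18))))
theorem f138877 : Led Lsl_bt (LP (LK LD1_c4 LD2_c25 LD3_c47)) = (LP (LK LD1_c2 LD2_c10 LD3_c13)) :=
  Lre_b IH (LK LD1_c4 LD2_c25 LD3_c47) (LK LD1_c2 LD2_c10 LD3_c13) Lrfl Lrfl
theorem f99725 : Led Lsl_ft (LP (LK LD1_c2 LD2_c10 LD3_c13)) = (LP (LK LD1_c4 LD2_c25 LD3_c50)) :=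
  Lre_f IH (LK LD1_c2 LD2_c10 LD3_c13) (LK LD1_c4 LD2_c25 LD3_c50) Lrfl Lrfl
theorem f138878 : Led Lsl_bt (LP (LK LD1_c4 LD2_c25 LD3_c50)) = (LP (LK LD1_c2 LD2_c27 LD3_c18)) :=
  Lgr Lrot35 (Lpe (f99725 IH) (Lpe (f138877 IH) (Lpr_ff (f138871 IH) (Lpn (LP (LK LD1_c2 LD2_c27 LD3_c18))))))
theorem f138881 : Led Lsl_at (LP (LK LD1_c2 LD2_c10 LD3_c18)) = (LP (LK LD1_c4 LD2_c25 LD3_c50)) :=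
  Lre_a IH (LK LD1_c2 LD2_c10 LD3_c18) (LK LD1_c4 LD2_c25 LD3_c50) Lrfl Lrfl
theorem f138882 : Led Lsl_at (LP (LK LD1_c0 LD2_c32 LD3_c52)) = (LP (LK LD1_c1 LD2_c10 LD3_c52)) :=
  Lre_a IH (LK LD1_c0 LD2_c32 LD3_c52) (LK LD1_c1 LD2_c10 LD3_c52) Lrfl Lrfl
theorem f138883 : Led Lsl_bf (LP (LK LD1_c2 LD2_c10 LD3_c18)) = (LP (LK LD1_c1 LD2_c10 LD3_c52)) :=
  Lgr Lrot81 (Lpr_at (f138881 IH) (Lpr_bt (f138878 IH) (Lpr_at (f138824 IH) (Lpr_bt (K2.f72403 IH) (Lpr_at (f138882 IH) (Lpn (LP (LK LD1_c1 LD2_c10 LD3_c52))))))))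
theorem f74366 : Led Lsl_ft (LP (LK LD1_c0 LD2_c32 LD3_c51)) = (LP (LK LD1_c1 LD2_c10 LD3_c52)) :=
  Lre_f IH (LK LD1_c0 LD2_c32 LD3_c51) (LK LD1_c1 LD2_c10 LD3_c52) Lrfl Lrfl
theorem f77580 : Led Lsl_bt (LP (LK LD1_c1 LD2_c10 LD3_c48)) = (LP (LK LD1_c0 LD2_c32 LD3_c51)) :=
  Lre_b IH (LK LD1_c1 LD2_c10 LD3_c48) (LK LD1_c0 LD2_c32 LD3_c51) Lrfl Lrfl
theorem f138897 : Led Lsl_ft (LP (LK LD1_c2 LD2_c10 LD3_c18)) = (LP (LK LD1_c1 LD2_c10 LD3_c48)) :=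
  Lgr Lrot75 (Lpr_bf (f138883 IH) (Lpe (f74366 IH) (Lpe (f77580 IH) (Lpn (LP (LK LD1_c1 LD2_c10 LD3_c48))))))
theorem f138914 : Led Lsl_ff (LP (LK LD1_c2 LD2_c10 LD3_c18)) = (LP (LK LD1_c1 LD2_c10 LD3_c48)) :=
  Lgr Lrot3 (Lpr_ft (f138897 IH) (Lpn (LP (LK LD1_c1 LD2_c10 LD3_c48))))
theorem f99947 : Led Lsl_dt (LP (LK LD1_c2 LD2_c10 LD3_c18)) = (LP (LK LD1_c4 LD2_c25 LD3_c61)) :=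
  Lre_d IH (LK LD1_c2 LD2_c10 LD3_c18) (LK LD1_c4 LD2_c25 LD3_c61) Lrfl Lrfl
theorem f138921 : Led Lsl_dt (LP (LK LD1_c2 LD2_c27 LD3_c2)) = (LP (LK LD1_c1 LD2_c10 LD3_c48)) :=
  Lre_d IH (LK LD1_c2 LD2_c27 LD3_c2) (LK LD1_c1 LD2_c10 LD3_c48) Lrfl Lrfl
theorem f138922 : Led Lsl_ft (LP (LK LD1_c4 LD2_c25 LD3_c61)) = (LP (LK LD1_c2 LD2_c27 LD3_c2)) :=
  Lgr Lrot54 (Lpe (f99947 IH) (Lpr_ff (f138914 IH) (Lpe (f138921 IH) (Lpn (LP (LK LD1_c2 LD2_c27 LD3_c2))))))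
theorem f74199 : Led Lsl_bt (LP (LK LD1_c2 LD2_c27 LD3_c2)) = (LP (LK LD1_c1 LD2_c10 LD3_c50)) :=
  Lre_b IH (LK LD1_c2 LD2_c27 LD3_c2) (LK LD1_c1 LD2_c10 LD3_c50) Lrfl Lrfl
theorem f74514 : Led Lsl_ft (LP (LK LD1_c1 LD2_c10 LD3_c50)) = (LP (LK LD1_c2 LD2_c27 LD3_c12)) :=
  Lre_f IH (LK LD1_c1 LD2_c10 LD3_c50) (LK LD1_c2 LD2_c27 LD3_c12) Lrfl Lrfl
theorem f138945 : Led Lsl_bf (LP (LK LD1_c4 LD2_c25 LD3_c61)) = (LP (LK LD1_c2 LD2_c27 LD3_c12)) :=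
  Lgr Lrot61 (Lpr_ft (f138922 IH) (Lpr_bt (f74199 IH) (Lpr_ft (f74514 IH) (Lpn (LP (LK LD1_c2 LD2_c27 LD3_c12))))))
theorem f99820 : Led Lsl_df (LP (LK LD1_c2 LD2_c16 LD3_c49)) = (LP (LK LD1_c4 LD2_c25 LD3_c51)) :=
  Lgr Lrot38 (Lpr_dt (K5.f99811 IH) (Lpn (LP (LK LD1_c4 LD2_c25 LD3_c51))))
theorem f72982 : Led Lsl_ft (LP (LK LD1_c1 LD2_c20 LD3_c42)) = (LP (LK LD1_c1 LD2_c5 LD3_c27)) :=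
  Lgr Lrot48 (Lpr_ff (K4.f72975 IH) (Lpn (LP (LK LD1_c1 LD2_c5 LD3_c27))))
theorem f99642 : Led Lsl_dt (LP (LK LD1_c1 LD2_c5 LD3_c27)) = (LP (LK LD1_c2 LD2_c15 LD3_c45)) :=
  Lgr Lrot60 (Lpe (f72982 IH) (Lpr_df (K4.f72972 IH) (Lpr_ff (K4.f99629 IH) (Lpn (LP (LK LD1_c2 LD2_c15 LD3_c45))))))
theorem f99616 : Led Lsl_ct (LP (LK LD1_c2 LD2_c15 LD3_c45)) = (LP (LK LD1_c4 LD2_c37 LD3_c6)) :=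
  Lre_c IH (LK LD1_c2 LD2_c15 LD3_c45) (LK LD1_c4 LD2_c37 LD3_c6) Lrfl Lrfl
theorem f99787 : Led Lsl_ct (LP (LK LD1_c8 LD2_c49 LD3_c5)) = (LP (LK LD1_c4 LD2_c25 LD3_c51)) :=
  Lre_c IH (LK LD1_c8 LD2_c49 LD3_c5) (LK LD1_c4 LD2_c25 LD3_c51) Lrfl Lrfl
theorem f99808 : Led Lsl_dt (LP (LK LD1_c6 LD2_c10 LD3_c57)) = (LP (LK LD1_c8 LD2_c49 LD3_c5)) :=
  Lgr Lrot42 (Lpr_df (K5.f99806 IH) (Lpn (LP (LK LD1_c8 LD2_c49 LD3_c5))))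
theorem f60365 : Led Lsl_ct (LP (LK LD1_c3 LD2_c2 LD3_c6)) = (LP (LK LD1_c6 LD2_c10 LD3_c57)) :=
  Lre_c IH (LK LD1_c3 LD2_c2 LD3_c6) (LK LD1_c6 LD2_c10 LD3_c57) Lrfl Lrfl
theorem f60364 : Led Lsl_dt (LP (LK LD1_c1 LD2_c27 LD3_c3)) = (LP (LK LD1_c3 LD2_c2 LD3_c6)) :=
  Lre_d IH (LK LD1_c1 LD2_c27 LD3_c3) (LK LD1_c3 LD2_c2 LD3_c6) Lrfl Lrfl
theorem f99912 : Led Lsl_ft (LP (LK LD1_c1 LD2_c27 LD3_c3)) = (LP (LK LD1_c2 LD2_c17 LD3_c2)) :=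
  Lre_f IH (LK LD1_c1 LD2_c27 LD3_c3) (LK LD1_c2 LD2_c17 LD3_c2) Lrfl Lrfl
theorem f99913 : Led Lsl_af (LP (LK LD1_c4 LD2_c37 LD3_c6)) = (LP (LK LD1_c2 LD2_c17 LD3_c2)) :=
  Lgr Lrot109 (Lpe (f99616 IH) (Lpe (f99642 IH) (Lpe (K2.f56259 IH) (Lpr_df (f99820 IH) (Lpe (f99787 IH) (Lpe (f99808 IH) (Lpe (f60365 IH) (Lpe (f60364 IH) (Lpr_ft (f99912 IH) (Lpn (LP (LK LD1_c2 LD2_c17 LD3_c2))))))))))))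
theorem f99924 : Led Lsl_at (LP (LK LD1_c3 LD2_c2 LD3_c5)) = (LP (LK LD1_c1 LD2_c27 LD3_c3)) :=
  Lre_a IH (LK LD1_c3 LD2_c2 LD3_c5) (LK LD1_c1 LD2_c27 LD3_c3) Lrfl Lrfl
theorem f99925 : Led Lsl_ft (LP (LK LD1_c4 LD2_c37 LD3_c6)) = (LP (LK LD1_c3 LD2_c2 LD3_c5)) :=
  Lgr Lrot101 (Lpr_af (f99913 IH) (Lpe (f99912 IH) (Lpe (f99924 IH) (Lpn (LP (LK LD1_c3 LD2_c2 LD3_c5))))))
theorem f27159 : Led Lsl_gt (LP (LK LD1_c3 LD2_c2 LD3_c4)) = (LP (LK LD1_c1 LD2_c27 LD3_c3)) :=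
  Lre_g IH (LK LD1_c3 LD2_c2 LD3_c4) (LK LD1_c1 LD2_c27 LD3_c3) Lrfl Lrfl
theorem f99942 : Led Lsl_gt (LP (LK LD1_c4 LD2_c37 LD3_c6)) = (LP (LK LD1_c3 LD2_c2 LD3_c4)) :=
  Lgr Lrot5 (Lpr_ft (f99925 IH) (Lpr_at (f99924 IH) (Lpe (f27159 IH) (Lpn (LP (LK LD1_c3 LD2_c2 LD3_c4))))))
theorem f40641 : Led Lsl_ct (LP (LK LD1_c1 LD2_c4 LD3_c49)) = (LP (LK LD1_c2 LD2_c10 LD3_c10)) :=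
  Lre_c IH (LK LD1_c1 LD2_c4 LD3_c49) (LK LD1_c2 LD2_c10 LD3_c10) Lrfl Lrfl
theorem f36009 : Led Lsl_ct (LP (LK LD1_c1 LD2_c2 LD3_c12)) = (LP (LK LD1_c2 LD2_c10 LD3_c18)) :=
  Lre_c IH (LK LD1_c1 LD2_c2 LD3_c12) (LK LD1_c2 LD2_c10 LD3_c18) Lrfl Lrfl
theorem f99948 : Led Lsl_cf (LP (LK LD1_c4 LD2_c25 LD3_c61)) = (LP (LK LD1_c3 LD2_c2 LD3_c4)) :=
  Lgr Lrot99 (Lpe (f99947 IH) (Lpe (f36009 IH) (Lpe (K5.f99601 IH) (Lpe (f40641 IH) (Lpe (K4.f80111 IH) (Lpe (K5.f99946 IH) (Lpr_gt (K4.f99613 IH) (Lpr_ct (f99616 IH) (Lpr_gt (f99942 IH) (Lpn (LP (LK LD1_c3 LD2_c2 LD3_c4))))))))))))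
theorem f99968 : Led Lsl_ct (LP (LK LD1_c4 LD2_c25 LD3_c61)) = (LP (LK LD1_c3 LD2_c2 LD3_c4)) :=
  Lgr Lrot59 (Lpr_cf (f99948 IH) (Lpn (LP (LK LD1_c3 LD2_c2 LD3_c4))))
theorem f99975 : Led Lsl_bt (LP (LK LD1_c3 LD2_c2 LD3_c4)) = (LP (LK LD1_c6 LD2_c10 LD3_c53)) :=
  Lre_b IH (LK LD1_c3 LD2_c2 LD3_c4) (LK LD1_c6 LD2_c10 LD3_c53) Lrfl Lrfl
theorem f138972 : Led Lsl_ct (LP (LK LD1_c4 LD2_c58 LD3_c42)) = (LP (LK LD1_c2 LD2_c27 LD3_c12)) :=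
  Lre_c IH (LK LD1_c4 LD2_c58 LD3_c42) (LK LD1_c2 LD2_c27 LD3_c12) Lrfl Lrfl
theorem f138973 : Led Lsl_bt (LP (LK LD1_c9 LD2_c47 LD3_c51)) = (LP (LK LD1_c4 LD2_c58 LD3_c42)) :=
  Lre_b IH (LK LD1_c9 LD2_c47 LD3_c51) (LK LD1_c4 LD2_c58 LD3_c42) Lrfl Lrfl
theorem f138974 : Led Lsl_ct (LP (LK LD1_c6 LD2_c10 LD3_c53)) = (LP (LK LD1_c9 LD2_c47 LD3_c51)) :=
  Lgr Lrot83 (Lpe (f99975 IH) (Lpe (f99968 IH) (Lpr_bf (f138945 IH) (Lpe (f138972 IH) (Lpe (f138973 IH) (Lpn (LP (LK LD1_c9 LD2_c47 LD3_c51))))))))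
theorem f63512 : Led Lsl_bt (LP (LK LD1_c6 LD2_c10 LD3_c53)) = (LP (LK LD1_c3 LD2_c2 LD3_c4)) :=
  Lre_b IH (LK LD1_c6 LD2_c10 LD3_c53) (LK LD1_c3 LD2_c2 LD3_c4) Lrfl Lrfl
theorem f79610 : Led Lsl_bt (LP (LK LD1_c0 LD2_c40 LD3_c19)) = (LP (LK LD1_c1 LD2_c27 LD3_c3)) :=
  Lre_b IH (LK LD1_c0 LD2_c40 LD3_c19) (LK LD1_c1 LD2_c27 LD3_c3) Lrfl Lrfl
theorem f35338 : Led Lsl_ct (LP (LK LD1_c4 LD2_c35 LD3_c27)) = (LP (LK LD1_c9 LD2_c7 LD3_c25)) :=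
  Lre_c IH (LK LD1_c4 LD2_c35 LD3_c27) (LK LD1_c9 LD2_c7 LD3_c25) Lrfl Lrfl
theorem f139050 : Led Lsl_gt (LP (LK LD1_c9 LD2_c7 LD3_c25)) = (LP (LK LD1_c9 LD2_c47 LD3_c51)) :=
  Lgr Lrot149 (Lpe (f35338 IH) (Lpr_gf (K4.f103585 IH) (Lpe (K4.f103584 IH) (Lpr_ct (K3.f64912 IH) (Lpe (K3.f23036 IH) (Lpe (K3.f62008 IH) (Lpr_bt (f79610 IH) (Lpe (f27159 IH) (Lpe (f63512 IH) (Lpr_ct (f138974 IH) (Lpn (LP (LK LD1_c9 LD2_c47 LD3_c51)))))))))))))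
theorem f71923 : Led Lsl_ff (LP (LK LD1_c5 LD2_c56 LD3_c45)) = (LP (LK LD1_c9 LD2_c7 LD3_c25)) :=
  Lgr Lrot19 (Lpr_dt (f71866 IH) (Lpe (K2.f71874 IH) (Lpr_dt (K2.f71902 IH) (Lpn (LP (LK LD1_c9 LD2_c7 LD3_c25))))))
theorem f35295 : Led Lsl_at (LP (LK LD1_c4 LD2_c24 LD3_c36)) = (LP (LK LD1_c8 LD2_c46 LD3_c42)) :=
  Lre_a IH (LK LD1_c4 LD2_c24 LD3_c36) (LK LD1_c8 LD2_c46 LD3_c42) Lrfl Lrfl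
theorem f35336 : Led Lsl_dt (LP (LK LD1_c8 LD2_c46 LD3_c44)) = (LP (LK LD1_c4 LD2_c24 LD3_c36)) :=
  Lre_d IH (LK LD1_c8 LD2_c46 LD3_c44) (LK LD1_c4 LD2_c24 LD3_c36) Lrfl Lrfl
theorem f71862 : Led Lsl_at (LP (LK LD1_c5 LD2_c56 LD3_c45)) = (LP (LK LD1_c8 LD2_c46 LD3_c44)) :=
  Lgr Lrot51 (Lpr_df (K2.f71860 IH) (Lpe (f35295 IH) (Lpe (f35336 IH) (Lpn (LP (LK LD1_c8 LD2_c46 LD3_c44))))))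
theorem f139052 : Led Lsl_gf (LP (LK LD1_c8 LD2_c46 LD3_c44)) = (LP (LK LD1_c9 LD2_c47 LD3_c51)) :=
  Lgr Lrot76 (Lpe (f71862 IH) (Lpr_ff (f71923 IH) (Lpr_gt (f139050 IH) (Lpn (LP (LK LD1_c9 LD2_c47 LD3_c51))))))
theorem f37407 : Led Lsl_dt (LP (LK LD1_c2 LD2_c26 LD3_c51)) = (LP (LK LD1_c4 LD2_c58 LD3_c2)) :=
  Lre_d IH (LK LD1_c2 LD2_c26 LD3_c51) (LK LD1_c4 LD2_c58 LD3_c2) Lrfl Lrfl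
theorem f59375 : Led Lsl_gt (LP (LK LD1_c9 LD2_c47 LD3_c0)) = (LP (LK LD1_c4 LD2_c58 LD3_c2)) :=
  Lre_g IH (LK LD1_c9 LD2_c47 LD3_c0) (LK LD1_c4 LD2_c58 LD3_c2) Lrfl Lrfl
theorem f70236 : Led Lsl_et (LP (LK LD1_c1 LD2_c1 LD3_c56)) = (LP (LK LD1_c2 LD2_c9 LD3_c39)) :=
  Lre_e IH (LK LD1_c1 LD2_c1 LD3_c56) (LK LD1_c2 LD2_c9 LD3_c39) Lrfl Lrfl
theorem f70237 : Led Lsl_gt (LP (LK LD1_c2 LD2_c9 LD3_c39)) = (LP (LK LD1_c4 LD2_c24 LD3_c24)) :=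
  Lre_g IH (LK LD1_c2 LD2_c9 LD3_c39) (LK LD1_c4 LD2_c24 LD3_c24) Lrfl Lrfl
theorem f70238 : Led Lsl_et (LP (LK LD1_c8 LD2_c46 LD3_c29)) = (LP (LK LD1_c4 LD2_c24 LD3_c24)) :=
  Lre_e IH (LK LD1_c8 LD2_c46 LD3_c29) (LK LD1_c4 LD2_c24 LD3_c24) Lrfl Lrfl
theorem f70239 : Led Lsl_df (LP (LK LD1_c9 LD2_c47 LD3_c0)) = (LP (LK LD1_c8 LD2_c46 LD3_c29)) :=
  Lgr Lrot170 (Lpr_gt (f59375 IH) (Lpe (f37407 IH) (Lpr_et (K2.f37466 IH) (Lpr_gt (K2.f59184 IH) (Lpr_dt (K2.f35872 IH) (Lpr_gt (K2.f70216 IH) (Lpe (K4.f59621 IH) (Lpr_et (f70236 IH) (Lpr_gt (f70237 IH) (Lpe (f70238 IH) (Lpn (LP (LK LD1_c8 LD2_c46 LD3_c29)))))))))))))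
theorem f37618 : Led Lsl_dt (LP (LK LD1_c4 LD2_c58 LD3_c2)) = (LP (LK LD1_c2 LD2_c26 LD3_c51)) :=
  Lre_d IH (LK LD1_c4 LD2_c58 LD3_c2) (LK LD1_c2 LD2_c26 LD3_c51) Lrfl Lrfl
theorem f37450 : Led Lsl_cf (LP (LK LD1_c3 LD2_c57 LD3_c49)) = (LP (LK LD1_c2 LD2_c26 LD3_c51)) :=
  Lgr Lrot39 (Lpr_et (K2.f35661 IH) (Lpr_ct (K1.f37446 IH) (Lpr_et (K1.f37331 IH) (Lpn (LP (LK LD1_c2 LD2_c26 LD3_c51))))))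
theorem f59373 : Led Lsl_dt (LP (LK LD1_c7 LD2_c57 LD3_c2)) = (LP (LK LD1_c3 LD2_c57 LD3_c49)) :=
  Lre_d IH (LK LD1_c7 LD2_c57 LD3_c2) (LK LD1_c3 LD2_c57 LD3_c49) Lrfl Lrfl
theorem f59367 : Led Lsl_et (LP (LK LD1_c0 LD2_c40 LD3_c46)) = (LP (LK LD1_c1 LD2_c28 LD3_c11)) :=
  Lre_e IH (LK LD1_c0 LD2_c40 LD3_c46) (LK LD1_c1 LD2_c28 LD3_c11) Lrfl Lrfl
theorem f59368 : Led Lsl_gt (LP (LK LD1_c1 LD2_c28 LD3_c11)) = (LP (LK LD1_c3 LD2_c4 LD3_c20)) :=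
  Lre_g IH (LK LD1_c1 LD2_c28 LD3_c11) (LK LD1_c3 LD2_c4 LD3_c20) Lrfl Lrfl
theorem f38141 : Led Lsl_et (LP (LK LD1_c6 LD2_c14 LD3_c51)) = (LP (LK LD1_c3 LD2_c4 LD3_c20)) :=
  Lre_e IH (LK LD1_c6 LD2_c14 LD3_c51) (LK LD1_c3 LD2_c4 LD3_c20) Lrfl Lrfl
theorem f38142 : Led Lsl_dt (LP (LK LD1_c6 LD2_c14 LD3_c51)) = (LP (LK LD1_c12 LD2_c7 LD3_c59)) :=
  Lre_d IH (LK LD1_c6 LD2_c14 LD3_c51) (LK LD1_c12 LD2_c7 LD3_c59) Lrfl Lrfl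
theorem f35662 : Led Lsl_dt (LP (LK LD1_c3 LD2_c57 LD3_c49)) = (LP (LK LD1_c7 LD2_c57 LD3_c2)) :=
  Lre_d IH (LK LD1_c3 LD2_c57 LD3_c49) (LK LD1_c7 LD2_c57 LD3_c2) Lrfl Lrfl
theorem f59371 : Led Lsl_gt (LP (LK LD1_c12 LD2_c7 LD3_c59)) = (LP (LK LD1_c7 LD2_c57 LD3_c2)) :=
  Lgr Lrot112 (Lpe (f38142 IH) (Lpr_et (f38141 IH) (Lpe (f59368 IH) (Lpe (f59367 IH) (Lpr_dt (K2.f38004 IH) (Lpr_gf (K1.f59355 IH) (Lpe (K1.f13644 IH) (Lpr_gf (K1.f35592 IH) (Lpe (K2.f35661 IH) (Lpr_dt (f35662 IH) (Lpn (LP (LK LD1_c7 LD2_c57 LD3_c2)))))))))))))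
theorem f59374 : Led Lsl_gt (LP (LK LD1_c12 LD2_c7 LD3_c58)) = (LP (LK LD1_c6 LD2_c14 LD3_c51)) :=
  Lre_g IH (LK LD1_c12 LD2_c7 LD3_c58) (LK LD1_c6 LD2_c14 LD3_c51) Lrfl Lrfl
theorem f70253 : Led Lsl_gt (LP (LK LD1_c16 LD2_c25 LD3_c1)) = (LP (LK LD1_c8 LD2_c46 LD3_c29)) :=
  Lre_g IH (LK LD1_c16 LD2_c25 LD3_c1) (LK LD1_c8 LD2_c46 LD3_c29) Lrfl Lrfl
theorem f70271 : Led Lsl_ct (LP (LK LD1_c12 LD2_c7 LD3_c58)) = (LP (LK LD1_c16 LD2_c25 LD3_c1)) :=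
  Lgr Lrot8 (Lpr_gt (f59374 IH) (Lpr_dt (f38142 IH) (Lpr_gt (f59371 IH) (Lpr_dt (f59373 IH) (Lpr_cf (f37450 IH) (Lpe (f37618 IH) (Lpe (f59375 IH) (Lpr_df (f70239 IH) (Lpe (f70253 IH) (Lpn (LP (LK LD1_c16 LD2_c25 LD3_c1))))))))))))
theorem f70274 : Led Lsl_cf (LP (LK LD1_c12 LD2_c7 LD3_c58)) = (LP (LK LD1_c16 LD2_c25 LD3_c1)) :=
  Lgr Lrot11 (Lpr_ct (f70271 IH) (Lpn (LP (LK LD1_c16 LD2_c25 LD3_c1))))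
theorem f70276 : Led Lsl_ct (LP (LK LD1_c3 LD2_c57 LD3_c49)) = (LP (LK LD1_c2 LD2_c26 LD3_c51)) :=
  Lgr Lrot7 (Lpe (f59373 IH) (Lpe (f59371 IH) (Lpe (f38142 IH) (Lpe (f59374 IH) (Lpr_cf (f70274 IH) (Lpr_gt (f70253 IH) (Lpe (f70239 IH) (Lpr_gt (f59375 IH) (Lpr_dt (f37618 IH) (Lpn (LP (LK LD1_c2 LD2_c26 LD3_c51))))))))))))
theorem f70279 : Led Lsl_cf (LP (LK LD1_c7 LD2_c57 LD3_c3)) = (LP (LK LD1_c4 LD2_c58 LD3_c3)) :=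
  Lgr Lrot108 (Lpr_ft (K2.f38254 IH) (Lpr_ct (f70276 IH) (Lpr_ft (K1.f37472 IH) (Lpn (LP (LK LD1_c4 LD2_c58 LD3_c3))))))
theorem f38583 : Led Lsl_et (LP (LK LD1_c2 LD2_c10 LD3_c5)) = (LP (LK LD1_c4 LD2_c25 LD3_c25)) :=
  Lre_e IH (LK LD1_c2 LD2_c10 LD3_c5) (LK LD1_c4 LD2_c25 LD3_c25) Lrfl Lrfl
theorem f38584 : Led Lsl_ft (LP (LK LD1_c4 LD2_c25 LD3_c25)) = (LP (LK LD1_c8 LD2_c48 LD3_c25)) :=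
  Lre_f IH (LK LD1_c4 LD2_c25 LD3_c25) (LK LD1_c8 LD2_c48 LD3_c25) Lrfl Lrfl
theorem f38585 : Led Lsl_et (LP (LK LD1_c7 LD2_c56 LD3_c61)) = (LP (LK LD1_c3 LD2_c57 LD3_c48)) :=
  Lre_e IH (LK LD1_c7 LD2_c56 LD3_c61) (LK LD1_c3 LD2_c57 LD3_c48) Lrfl Lrfl
theorem f38586 : Led Lsl_ft (LP (LK LD1_c14 LD2_c59 LD3_c47)) = (LP (LK LD1_c7 LD2_c56 LD3_c61)) :=
  Lre_f IH (LK LD1_c14 LD2_c59 LD3_c47) (LK LD1_c7 LD2_c56 LD3_c61) Lrfl Lrfl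
theorem f38587 : Led Lsl_et (LP (LK LD1_c8 LD2_c48 LD3_c25)) = (LP (LK LD1_c14 LD2_c59 LD3_c47)) :=
  Lgr Lrot69 (Lpe (f38584 IH) (Lpe (f38583 IH) (Lpr_ff (K4.f38567 IH) (Lpe (f38585 IH) (Lpe (f38586 IH) (Lpn (LP (LK LD1_c14 LD2_c59 LD3_c47))))))))
theorem f38597 : Led Lsl_bt (LP (LK LD1_c4 LD2_c25 LD3_c33)) = (LP (LK LD1_c8 LD2_c48 LD3_c25)) :=
  Lre_b IH (LK LD1_c4 LD2_c25 LD3_c33) (LK LD1_c8 LD2_c48 LD3_c25) Lrfl Lrfl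
theorem f38598 : Led Lsl_bt (LP (LK LD1_c14 LD2_c59 LD3_c47)) = (LP (LK LD1_c7 LD2_c57 LD3_c3)) :=
  Lre_b IH (LK LD1_c14 LD2_c59 LD3_c47) (LK LD1_c7 LD2_c57 LD3_c3) Lrfl Lrfl
theorem f38599 : Led Lsl_ef (LP (LK LD1_c4 LD2_c25 LD3_c33)) = (LP (LK LD1_c7 LD2_c57 LD3_c3)) :=
  Lgr Lrot29 (Lpr_bt (f38597 IH) (Lpr_et (f38587 IH) (Lpr_bt (f38598 IH) (Lpn (LP (LK LD1_c7 LD2_c57 LD3_c3))))))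
theorem f34800 : Led Lsl_ft (LP (LK LD1_c2 LD2_c9 LD3_c48)) = (LP (LK LD1_c4 LD2_c24 LD3_c40)) :=
  Lre_f IH (LK LD1_c2 LD2_c9 LD3_c48) (LK LD1_c4 LD2_c24 LD3_c40) Lrfl Lrfl
theorem f37467 : Led Lsl_ft (LP (LK LD1_c4 LD2_c58 LD3_c3)) = (LP (LK LD1_c2 LD2_c26 LD3_c51)) :=
  Lre_f IH (LK LD1_c4 LD2_c58 LD3_c3) (LK LD1_c2 LD2_c26 LD3_c51) Lrfl Lrfl
theorem f37468 : Led Lsl_et (LP (LK LD1_c4 LD2_c24 LD3_c40)) = (LP (LK LD1_c4 LD2_c58 LD3_c3)) :=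
  Lgr Lrot69 (Lpe (f34800 IH) (Lpe (K1.f34748 IH) (Lpr_ff (K1.f37462 IH) (Lpe (K2.f37466 IH) (Lpe (f37467 IH) (Lpn (LP (LK LD1_c4 LD2_c58 LD3_c3))))))))
theorem f70333 : Led Lsl_ct (LP (LK LD1_c4 LD2_c25 LD3_c33)) = (LP (LK LD1_c4 LD2_c24 LD3_c40)) :=
  Lgr Lrot15 (Lpr_ef (f38599 IH) (Lpr_cf (f70279 IH) (Lpe (f37468 IH) (Lpn (LP (LK LD1_c4 LD2_c24 LD3_c40))))))
theorem f38293 : Led Lsl_bt (LP (LK LD1_c8 LD2_c48 LD3_c25)) = (LP (LK LD1_c4 LD2_c25 LD3_c33)) :=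
  Lre_b IH (LK LD1_c8 LD2_c48 LD3_c25) (LK LD1_c4 LD2_c25 LD3_c33) Lrfl Lrfl
theorem f38601 : Led Lsl_ct (LP (LK LD1_c16 LD2_c28 LD3_c29)) = (LP (LK LD1_c8 LD2_c48 LD3_c25)) :=
  Lre_c IH (LK LD1_c16 LD2_c28 LD3_c29) (LK LD1_c8 LD2_c48 LD3_c25) Lrfl Lrfl
theorem f34811 : Led Lsl_bt (LP (LK LD1_c4 LD2_c24 LD3_c40)) = (LP (LK LD1_c8 LD2_c46 LD3_c48)) :=
  Lre_b IH (LK LD1_c4 LD2_c24 LD3_c40) (LK LD1_c8 LD2_c46 LD3_c48) Lrfl Lrfl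
theorem f34823 : Led Lsl_ct (LP (LK LD1_c8 LD2_c46 LD3_c48)) = (LP (LK LD1_c16 LD2_c25 LD3_c31)) :=
  Lre_c IH (LK LD1_c8 LD2_c46 LD3_c48) (LK LD1_c16 LD2_c25 LD3_c31) Lrfl Lrfl
theorem f70336 : Led Lsl_bf (LP (LK LD1_c16 LD2_c28 LD3_c29)) = (LP (LK LD1_c16 LD2_c25 LD3_c31)) :=
  Lgr Lrot90 (Lpr_ct (f38601 IH) (Lpr_bt (f38293 IH) (Lpr_ct (f70333 IH) (Lpr_bt (f34811 IH) (Lpr_ct (f34823 IH) (Lpn (LP (LK LD1_c16 LD2_c25 LD3_c31))))))))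
theorem f70341 : Led Lsl_ft (LP (LK LD1_c16 LD2_c28 LD3_c29)) = (LP (LK LD1_c8 LD2_c48 LD3_c21)) :=
  Lre_f IH (LK LD1_c16 LD2_c28 LD3_c29) (LK LD1_c8 LD2_c48 LD3_c21) Lrfl Lrfl
theorem f35280 : Led Lsl_ft (LP (LK LD1_c8 LD2_c46 LD3_c45)) = (LP (LK LD1_c16 LD2_c25 LD3_c31)) :=
  Lre_f IH (LK LD1_c8 LD2_c46 LD3_c45) (LK LD1_c16 LD2_c25 LD3_c31) Lrfl Lrfl
theorem f70342 : Led Lsl_bt (LP (LK LD1_c8 LD2_c48 LD3_c21)) = (LP (LK LD1_c8 LD2_c46 LD3_c45)) :=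
  Lgr Lrot35 (Lpe (f70341 IH) (Lpr_bf (f70336 IH) (Lpe (f35280 IH) (Lpn (LP (LK LD1_c8 LD2_c46 LD3_c45))))))
theorem f70348 : Led Lsl_bf (LP (LK LD1_c8 LD2_c48 LD3_c21)) = (LP (LK LD1_c8 LD2_c46 LD3_c45)) :=
  Lgr Lrot24 (Lpr_bt (f70342 IH) (Lpn (LP (LK LD1_c8 LD2_c46 LD3_c45))))
theorem f70372 : Led Lsl_et (LP (LK LD1_c8 LD2_c48 LD3_c21)) = (LP (LK LD1_c4 LD2_c25 LD3_c24)) :=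
  Lre_e IH (LK LD1_c8 LD2_c48 LD3_c21) (LK LD1_c4 LD2_c25 LD3_c24) Lrfl Lrfl
theorem f70373 : Led Lsl_et (LP (LK LD1_c4 LD2_c24 LD3_c36)) = (LP (LK LD1_c8 LD2_c46 LD3_c45)) :=
  Lre_e IH (LK LD1_c4 LD2_c24 LD3_c36) (LK LD1_c8 LD2_c46 LD3_c45) Lrfl Lrfl
theorem f70374 : Led Lsl_bt (LP (LK LD1_c4 LD2_c25 LD3_c24)) = (LP (LK LD1_c4 LD2_c24 LD3_c36)) :=
  Lgr Lrot119 (Lpe (f70372 IH) (Lpr_bf (f70348 IH) (Lpe (f70373 IH) (Lpn (LP (LK LD1_c4 LD2_c24 LD3_c36))))))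
theorem f35226 : Led Lsl_dt (LP (LK LD1_c4 LD2_c24 LD3_c36)) = (LP (LK LD1_c8 LD2_c46 LD3_c44)) :=
  Lre_d IH (LK LD1_c4 LD2_c24 LD3_c36) (LK LD1_c8 LD2_c46 LD3_c44) Lrfl Lrfl
theorem f70380 : Led Lsl_bf (LP (LK LD1_c8 LD2_c48 LD3_c20)) = (LP (LK LD1_c8 LD2_c46 LD3_c44)) :=
  Lgr Lrot93 (Lpr_dt (K5.f69488 IH) (Lpr_bt (f70374 IH) (Lpr_dt (f35226 IH) (Lpn (LP (LK LD1_c8 LD2_c46 LD3_c44))))))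
theorem f70384 : Led Lsl_bt (LP (LK LD1_c8 LD2_c48 LD3_c20)) = (LP (LK LD1_c8 LD2_c46 LD3_c44)) :=
  Lgr Lrot127 (Lpr_bf (f70380 IH) (Lpn (LP (LK LD1_c8 LD2_c46 LD3_c44))))
theorem f38508 : Led Lsl_dt (LP (LK LD1_c1 LD2_c2 LD3_c8)) = (LP (LK LD1_c2 LD2_c10 LD3_c5)) :=
  Lre_d IH (LK LD1_c1 LD2_c2 LD3_c8) (LK LD1_c2 LD2_c10 LD3_c5) Lrfl Lrfl
theorem f38510 : Led Lsl_dt (LP (LK LD1_c4 LD2_c25 LD3_c24)) = (LP (LK LD1_c8 LD2_c48 LD3_c20)) :=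
  Lre_d IH (LK LD1_c4 LD2_c25 LD3_c24) (LK LD1_c8 LD2_c48 LD3_c20) Lrfl Lrfl
theorem f81620 : Led Lsl_ct (LP (LK LD1_c8 LD2_c48 LD3_c20)) = (LP (LK LD1_c5 LD2_c58 LD3_c17)) :=
  Lgr Lrot176 (Lpe (f38510 IH) (Lpe (K5.f38509 IH) (Lpe (f38508 IH) (Lpr_cf (K1.f38484 IH) (Lpe (K2.f35982 IH) (Lpe (K2.f35954 IH) (Lpr_df (K2.f81589 IH) (Lpe (K2.f74711 IH) (Lpe (K2.f81598 IH) (Lpe (K2.f72114 IH) (Lpe (K2.f72095 IH) (Lpe (K2.f72106 IH) (Lpe (K2.f35998 IH) (Lpr_cf (K2.f81611 IH) (Lpe (K2.f81610 IH) (Lpn (LP (LK LD1_c5 LD2_c58 LD3_c17))))))))))))))))))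
theorem f74702 : Led Lsl_gt (LP (LK LD1_c5 LD2_c58 LD3_c17)) = (LP (LK LD1_c2 LD2_c55 LD3_c30)) :=
  Lre_g IH (LK LD1_c5 LD2_c58 LD3_c17) (LK LD1_c2 LD2_c55 LD3_c30) Lrfl Lrfl
theorem f74701 : Led Lsl_ct (LP (LK LD1_c5 LD2_c57 LD3_c38)) = (LP (LK LD1_c2 LD2_c55 LD3_c30)) :=
  Lre_c IH (LK LD1_c5 LD2_c57 LD3_c38) (LK LD1_c2 LD2_c55 LD3_c30) Lrfl Lrfl
theorem f74696 : Led Lsl_bt (LP (LK LD1_c5 LD2_c57 LD3_c38)) = (LP (LK LD1_c2 LD2_c55 LD3_c9)) :=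
  Lre_b IH (LK LD1_c5 LD2_c57 LD3_c38) (LK LD1_c2 LD2_c55 LD3_c9) Lrfl Lrfl
theorem f139045 : Led Lsl_bt (LP (LK LD1_c4 LD2_c58 LD3_c42)) = (LP (LK LD1_c9 LD2_c47 LD3_c51)) :=
  Lre_b IH (LK LD1_c4 LD2_c58 LD3_c42) (LK LD1_c9 LD2_c47 LD3_c51) Lrfl Lrfl
theorem f139062 : Led Lsl_gt (LP (LK LD1_c1 LD2_c22 LD3_c1)) = (LP (LK LD1_c2 LD2_c27 LD3_c12)) :=
  Lgr Lrot149 (Lpe (K2.f61805 IH) (Lpr_gf (K4.f74560 IH) (Lpe (f74696 IH) (Lpr_ct (f74701 IH) (Lpe (f74702 IH) (Lpe (f81620 IH) (Lpr_bt (f70384 IH) (Lpr_gf (f139052 IH) (Lpe (f139045 IH) (Lpr_ct (f138972 IH) (Lpn (LP (LK LD1_c2 LD2_c27 LD3_c12)))))))))))))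
theorem f61795 : Led Lsl_et (LP (LK LD1_c3 LD2_c6 LD3_c28)) = (LP (LK LD1_c6 LD2_c18 LD3_c27)) :=
  Lre_e IH (LK LD1_c3 LD2_c6 LD3_c28) (LK LD1_c6 LD2_c18 LD3_c27) Lrfl Lrfl
theorem f76529 : Led Lsl_bf (LP (LK LD1_c11 LD2_c30 LD3_c32)) = (LP (LK LD1_c6 LD2_c18 LD3_c27)) :=
  Lgr Lrot96 (Lpr_et (K2.f74458 IH) (Lpr_bt (K4.f76525 IH) (Lpr_et (f61795 IH) (Lpn (LP (LK LD1_c6 LD2_c18 LD3_c27))))))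
theorem f74482 : Led Lsl_dt (LP (LK LD1_c11 LD2_c30 LD3_c32)) = (LP (LK LD1_c20 LD2_c27 LD3_c39)) :=
  Lre_d IH (LK LD1_c11 LD2_c30 LD3_c32) (LK LD1_c20 LD2_c27 LD3_c39) Lrfl Lrfl
theorem f76537 : Led Lsl_dt (LP (LK LD1_c12 LD2_c12 LD3_c57)) = (LP (LK LD1_c6 LD2_c18 LD3_c27)) :=
  Lre_d IH (LK LD1_c12 LD2_c12 LD3_c57) (LK LD1_c6 LD2_c18 LD3_c27) Lrfl Lrfl
theorem f76538 : Led Lsl_bt (LP (LK LD1_c20 LD2_c27 LD3_c39)) = (LP (LK LD1_c12 LD2_c12 LD3_c57)) :=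
  Lgr Lrot95 (Lpe (f74482 IH) (Lpr_bf (f76529 IH) (Lpe (f76537 IH) (Lpn (LP (LK LD1_c12 LD2_c12 LD3_c57))))))
theorem f76388 : Led Lsl_et (LP (LK LD1_c11 LD2_c30 LD3_c35)) = (LP (LK LD1_c20 LD2_c27 LD3_c39)) :=
  Lre_e IH (LK LD1_c11 LD2_c30 LD3_c35) (LK LD1_c20 LD2_c27 LD3_c39) Lrfl Lrfl
theorem f76587 : Led Lsl_et (LP (LK LD1_c12 LD2_c12 LD3_c57)) = (LP (LK LD1_c6 LD2_c18 LD3_c29)) :=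
  Lre_e IH (LK LD1_c12 LD2_c12 LD3_c57) (LK LD1_c6 LD2_c18 LD3_c29) Lrfl Lrfl
theorem f76588 : Led Lsl_bf (LP (LK LD1_c11 LD2_c30 LD3_c35)) = (LP (LK LD1_c6 LD2_c18 LD3_c29)) :=
  Lgr Lrot96 (Lpr_et (f76388 IH) (Lpr_bt (f76538 IH) (Lpr_et (f76587 IH) (Lpn (LP (LK LD1_c6 LD2_c18 LD3_c29))))))
theorem f74250 : Led Lsl_dt (LP (LK LD1_c11 LD2_c30 LD3_c35)) = (LP (LK LD1_c5 LD2_c51 LD3_c35)) :=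
  Lre_d IH (LK LD1_c11 LD2_c30 LD3_c35) (LK LD1_c5 LD2_c51 LD3_c35) Lrfl Lrfl
theorem f61801 : Led Lsl_dt (LP (LK LD1_c3 LD2_c6 LD3_c29)) = (LP (LK LD1_c6 LD2_c18 LD3_c29)) :=
  Lre_d IH (LK LD1_c3 LD2_c6 LD3_c29) (LK LD1_c6 LD2_c18 LD3_c29) Lrfl Lrfl
theorem f76595 : Led Lsl_bt (LP (LK LD1_c5 LD2_c51 LD3_c35)) = (LP (LK LD1_c3 LD2_c6 LD3_c29)) :=
  Lgr Lrot95 (Lpe (f74250 IH) (Lpr_bf (f76588 IH) (Lpe (f61801 IH) (Lpn (LP (LK LD1_c3 LD2_c6 LD3_c29))))))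
theorem f76600 : Led Lsl_bf (LP (LK LD1_c5 LD2_c51 LD3_c35)) = (LP (LK LD1_c3 LD2_c6 LD3_c29)) :=
  Lgr Lrot24 (Lpr_bt (f76595 IH) (Lpn (LP (LK LD1_c3 LD2_c6 LD3_c29))))
theorem f74499 : Led Lsl_et (LP (LK LD1_c5 LD2_c51 LD3_c35)) = (LP (LK LD1_c2 LD2_c52 LD3_c0)) :=
  Lre_e IH (LK LD1_c5 LD2_c51 LD3_c35) (LK LD1_c2 LD2_c52 LD3_c0) Lrfl Lrfl
theorem f76627 : Led Lsl_et (LP (LK LD1_c1 LD2_c29 LD3_c21)) = (LP (LK LD1_c3 LD2_c6 LD3_c29)) :=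
  Lre_e IH (LK LD1_c1 LD2_c29 LD3_c21) (LK LD1_c3 LD2_c6 LD3_c29) Lrfl Lrfl
theorem f76663 : Led Lsl_bt (LP (LK LD1_c2 LD2_c52 LD3_c0)) = (LP (LK LD1_c1 LD2_c29 LD3_c21)) :=
  Lgr Lrot119 (Lpe (f74499 IH) (Lpr_bf (f76600 IH) (Lpe (f76627 IH) (Lpn (LP (LK LD1_c1 LD2_c29 LD3_c21))))))
theorem f71912 : Led Lsl_ct (LP (LK LD1_c2 LD2_c54 LD3_c17)) = (LP (LK LD1_c1 LD2_c23 LD3_c8)) :=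
  Lre_c IH (LK LD1_c2 LD2_c54 LD3_c17) (LK LD1_c1 LD2_c23 LD3_c8) Lrfl Lrfl
theorem f71913 : Led Lsl_dt (LP (LK LD1_c5 LD2_c55 LD3_c52)) = (LP (LK LD1_c2 LD2_c54 LD3_c17)) :=
  Lre_d IH (LK LD1_c5 LD2_c55 LD3_c52) (LK LD1_c2 LD2_c54 LD3_c17) Lrfl Lrfl
theorem f71914 : Led Lsl_cf (LP (LK LD1_c5 LD2_c55 LD3_c52)) = (LP (LK LD1_c8 LD2_c46 LD3_c44)) :=
  Lgr Lrot55 (Lpr_dt (f71913 IH) (Lpr_ct (f71912 IH) (Lpr_dt (K4.f71845 IH) (Lpr_ct (K2.f71911 IH) (Lpr_dt (K2.f71910 IH) (Lpr_ct (K2.f71898 IH) (Lpr_dt (K2.f71902 IH) (Lpr_ct (K2.f35224 IH) (Lpr_dt (K2.f35223 IH) (Lpr_ct (K2.f27166 IH) (Lpr_dt (K2.f35222 IH) (Lpr_ct (K2.f35209 IH) (Lpr_dt (K2.f34845 IH) (Lpr_ct (K2.f35225 IH) (Lpr_dt (f35226 IH) (Lpn (LP (LK LD1_c8 LD2_c46 LD3_c44))))))))))))))))))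
theorem f139073 : Led Lsl_gf (LP (LK LD1_c3 LD2_c1 LD3_c49)) = (LP (LK LD1_c5 LD2_c55 LD3_c52)) :=
  Lgr Lrot129 (Lpe (K4.f61794 IH) (Lpr_bt (K4.f61790 IH) (Lpe (K3.f61767 IH) (Lpe (f76663 IH) (Lpr_ct (K2.f61805 IH) (Lpr_gt (f139062 IH) (Lpe (f138972 IH) (Lpr_bt (f139045 IH) (Lpe (f139052 IH) (Lpe (f71914 IH) (Lpn (LP (LK LD1_c5 LD2_c55 LD3_c52)))))))))))))
theorem f110954 : Led Lsl_ff (LP (LK LD1_c3 LD2_c15 LD3_c16)) = (LP (LK LD1_c6 LD2_c10 LD3_c23)) :=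
  Lgr Lrot25 (Lpr_bt (f65549 IH) (Lpr_ft (K3.f110951 IH) (Lpr_bt (f110953 IH) (Lpn (LP (LK LD1_c6 LD2_c10 LD3_c23))))))
theorem f137701 : Led Lsl_df (LP (LK LD1_c6 LD2_c10 LD3_c23)) = (LP (LK LD1_c8 LD2_c45 LD3_c42)) :=
  Lgr Lrot78 (Lpe (f110954 IH) (Lpe (f119726 IH) (Lpr_ft (f137651 IH) (Lpn (LP (LK LD1_c8 LD2_c45 LD3_c42))))))
theorem f36531 : Led Lsl_gt (LP (LK LD1_c8 LD2_c45 LD3_c47)) = (LP (LK LD1_c4 LD2_c23 LD3_c61)) :=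
  Lre_g IH (LK LD1_c8 LD2_c45 LD3_c47) (LK LD1_c4 LD2_c23 LD3_c61) Lrfl Lrfl
theorem f139077 : Led Lsl_df (LP (LK LD1_c8 LD2_c45 LD3_c47)) = (LP (LK LD1_c9 LD2_c47 LD3_c51)) :=
  Lgr Lrot155 (Lpr_gt (f36531 IH) (Lpr_ct (K4.f36530 IH) (Lpr_gt (f36545 IH) (Lpr_ct (f119879 IH) (Lpe (f137701 IH) (Lpe (K4.f61791 IH) (Lpr_gf (f139073 IH) (Lpr_cf (f71914 IH) (Lpr_gf (f139052 IH) (Lpn (LP (LK LD1_c9 LD2_c47 LD3_c51))))))))))))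
theorem f81922 : Led Lsl_ft (LP (LK LD1_c4 LD2_c58 LD3_c39)) = (LP (LK LD1_c9 LD2_c47 LD3_c51)) :=
  Lre_f IH (LK LD1_c4 LD2_c58 LD3_c39) (LK LD1_c9 LD2_c47 LD3_c51) Lrfl Lrfl
theorem f81841 : Led Lsl_et (LP (LK LD1_c1 LD2_c22 LD3_c47)) = (LP (LK LD1_c2 LD2_c53 LD3_c26)) :=
  Lre_e IH (LK LD1_c1 LD2_c22 LD3_c47) (LK LD1_c2 LD2_c53 LD3_c26) Lrfl Lrfl
theorem f69461 : Led Lsl_et (LP (LK LD1_c2 LD2_c54 LD3_c11)) = (LP (LK LD1_c1 LD2_c23 LD3_c4)) :=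
  Lre_e IH (LK LD1_c2 LD2_c54 LD3_c11) (LK LD1_c1 LD2_c23 LD3_c4) Lrfl Lrfl
theorem f81842 : Led Lsl_bt (LP (LK LD1_c2 LD2_c53 LD3_c26)) = (LP (LK LD1_c2 LD2_c54 LD3_c11)) :=
  Lgr Lrot119 (Lpe (f81841 IH) (Lpr_bf (f81833 IH) (Lpe (f69461 IH) (Lpn (LP (LK LD1_c2 LD2_c54 LD3_c11))))))
theorem f81856 : Led Lsl_dt (LP (LK LD1_c5 LD2_c54 LD3_c6)) = (LP (LK LD1_c2 LD2_c53 LD3_c26)) :=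
  Lre_d IH (LK LD1_c5 LD2_c54 LD3_c6) (LK LD1_c2 LD2_c53 LD3_c26) Lrfl Lrfl
theorem f69462 : Led Lsl_dt (LP (LK LD1_c2 LD2_c54 LD3_c11)) = (LP (LK LD1_c5 LD2_c55 LD3_c41)) :=
  Lre_d IH (LK LD1_c2 LD2_c54 LD3_c11) (LK LD1_c5 LD2_c55 LD3_c41) Lrfl Lrfl
theorem f81857 : Led Lsl_bf (LP (LK LD1_c5 LD2_c54 LD3_c6)) = (LP (LK LD1_c5 LD2_c55 LD3_c41)) :=
  Lgr Lrot93 (Lpr_dt (f81856 IH) (Lpr_bt (f81842 IH) (Lpr_dt (f69462 IH) (Lpn (LP (LK LD1_c5 LD2_c55 LD3_c41))))))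
theorem f81863 : Led Lsl_et (LP (LK LD1_c5 LD2_c54 LD3_c6)) = (LP (LK LD1_c11 LD2_c33 LD3_c59)) :=
  Lre_e IH (LK LD1_c5 LD2_c54 LD3_c6) (LK LD1_c11 LD2_c33 LD3_c59) Lrfl Lrfl
theorem f81864 : Led Lsl_et (LP (LK LD1_c11 LD2_c36 LD3_c34)) = (LP (LK LD1_c5 LD2_c55 LD3_c41)) :=
  Lre_e IH (LK LD1_c11 LD2_c36 LD3_c34) (LK LD1_c5 LD2_c55 LD3_c41) Lrfl Lrfl
theorem f81865 : Led Lsl_bt (LP (LK LD1_c11 LD2_c33 LD3_c59)) = (LP (LK LD1_c11 LD2_c36 LD3_c34)) :=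
  Lgr Lrot119 (Lpe (f81863 IH) (Lpr_bf (f81857 IH) (Lpe (f81864 IH) (Lpn (LP (LK LD1_c11 LD2_c36 LD3_c34))))))
theorem f81877 : Led Lsl_ft (LP (LK LD1_c20 LD2_c31 LD3_c25)) = (LP (LK LD1_c11 LD2_c33 LD3_c59)) :=
  Lre_f IH (LK LD1_c20 LD2_c31 LD3_c25) (LK LD1_c11 LD2_c33 LD3_c59) Lrfl Lrfl
theorem f81878 : Led Lsl_ft (LP (LK LD1_c11 LD2_c36 LD3_c34)) = (LP (LK LD1_c20 LD2_c34 LD3_c52)) :=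
  Lre_f IH (LK LD1_c11 LD2_c36 LD3_c34) (LK LD1_c20 LD2_c34 LD3_c52) Lrfl Lrfl
theorem f81879 : Led Lsl_bf (LP (LK LD1_c20 LD2_c31 LD3_c25)) = (LP (LK LD1_c20 LD2_c34 LD3_c52)) :=
  Lgr Lrot61 (Lpr_ft (f81877 IH) (Lpr_bt (f81865 IH) (Lpr_ft (f81878 IH) (Lpn (LP (LK LD1_c20 LD2_c34 LD3_c52))))))
theorem f76347 : Led Lsl_dt (LP (LK LD1_c20 LD2_c31 LD3_c25)) = (LP (LK LD1_c11 LD2_c33 LD3_c60)) :=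
  Lre_d IH (LK LD1_c20 LD2_c31 LD3_c25) (LK LD1_c11 LD2_c33 LD3_c60) Lrfl Lrfl
theorem f81887 : Led Lsl_dt (LP (LK LD1_c11 LD2_c36 LD3_c35)) = (LP (LK LD1_c20 LD2_c34 LD3_c52)) :=
  Lre_d IH (LK LD1_c11 LD2_c36 LD3_c35) (LK LD1_c20 LD2_c34 LD3_c52) Lrfl Lrfl
theorem f81888 : Led Lsl_bt (LP (LK LD1_c11 LD2_c33 LD3_c60)) = (LP (LK LD1_c11 LD2_c36 LD3_c35)) :=
  Lgr Lrot95 (Lpe (f76347 IH) (Lpr_bf (f81879 IH) (Lpe (f81887 IH) (Lpn (LP (LK LD1_c11 LD2_c36 LD3_c35))))))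
theorem f81890 : Led Lsl_bf (LP (LK LD1_c11 LD2_c33 LD3_c60)) = (LP (LK LD1_c11 LD2_c36 LD3_c35)) :=
  Lgr Lrot24 (Lpr_bt (f81888 IH) (Lpn (LP (LK LD1_c11 LD2_c36 LD3_c35))))
theorem f81896 : Led Lsl_ft (LP (LK LD1_c11 LD2_c33 LD3_c60)) = (LP (LK LD1_c5 LD2_c54 LD3_c5)) :=
  Lre_f IH (LK LD1_c11 LD2_c33 LD3_c60) (LK LD1_c5 LD2_c54 LD3_c5) Lrfl Lrfl
theorem f81897 : Led Lsl_ft (LP (LK LD1_c5 LD2_c55 LD3_c40)) = (LP (LK LD1_c11 LD2_c36 LD3_c35)) :=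
  Lre_f IH (LK LD1_c5 LD2_c55 LD3_c40) (LK LD1_c11 LD2_c36 LD3_c35) Lrfl Lrfl
theorem f81898 : Led Lsl_bt (LP (LK LD1_c5 LD2_c54 LD3_c5)) = (LP (LK LD1_c5 LD2_c55 LD3_c40)) :=
  Lgr Lrot35 (Lpe (f81896 IH) (Lpr_bf (f81890 IH) (Lpe (f81897 IH) (Lpn (LP (LK LD1_c5 LD2_c55 LD3_c40))))))
theorem f81904 : Led Lsl_et (LP (LK LD1_c2 LD2_c53 LD3_c25)) = (LP (LK LD1_c5 LD2_c54 LD3_c5)) :=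
  Lre_e IH (LK LD1_c2 LD2_c53 LD3_c25) (LK LD1_c5 LD2_c54 LD3_c5) Lrfl Lrfl
theorem f81905 : Led Lsl_et (LP (LK LD1_c5 LD2_c55 LD3_c40)) = (LP (LK LD1_c2 LD2_c54 LD3_c10)) :=
  Lre_e IH (LK LD1_c5 LD2_c55 LD3_c40) (LK LD1_c2 LD2_c54 LD3_c10) Lrfl Lrfl
theorem f81906 : Led Lsl_bf (LP (LK LD1_c2 LD2_c53 LD3_c25)) = (LP (LK LD1_c2 LD2_c54 LD3_c10)) :=
  Lgr Lrot96 (Lpr_et (f81904 IH) (Lpr_bt (f81898 IH) (Lpr_et (f81905 IH) (Lpn (LP (LK LD1_c2 LD2_c54 LD3_c10))))))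
theorem f69349 : Led Lsl_ct (LP (LK LD1_c2 LD2_c53 LD3_c25)) = (LP (LK LD1_c5 LD2_c54 LD3_c4)) :=
  Lre_c IH (LK LD1_c2 LD2_c53 LD3_c25) (LK LD1_c5 LD2_c54 LD3_c4) Lrfl Lrfl
theorem f69348 : Led Lsl_dt (LP (LK LD1_c1 LD2_c22 LD3_c47)) = (LP (LK LD1_c2 LD2_c53 LD3_c25)) :=
  Lre_d IH (LK LD1_c1 LD2_c22 LD3_c47) (LK LD1_c2 LD2_c53 LD3_c25) Lrfl Lrfl
theorem f37964 : Led Lsl_dt (LP (LK LD1_c0 LD2_c7 LD3_c47)) = (LP (LK LD1_c0 LD2_c14 LD3_c43)) :=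
  Lgr Lrot57 (Lpe (K0.f8190 IH) (Lpr_cf (K0.f35347 IH) (Lpr_gt (K0.f27217 IH) (Lpe (K1.f36919 IH) (Lpr_gt (K1.f36913 IH) (Lpr_dt (K1.f29230 IH) (Lpe (K1.f36616 IH) (Lpe (K1.f36624 IH) (Lpr_gf (K1.f37960 IH) (Lpn (LP (LK LD1_c0 LD2_c14 LD3_c43))))))))))))
theorem f69351 : Led Lsl_dt (LP (LK LD1_c1 LD2_c24 LD3_c7)) = (LP (LK LD1_c0 LD2_c38 LD3_c50)) :=
  Lre_d IH (LK LD1_c1 LD2_c24 LD3_c7) (LK LD1_c0 LD2_c38 LD3_c50) Lrfl Lrfl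
theorem f69353 : Led Lsl_bt (LP (LK LD1_c5 LD2_c54 LD3_c4)) = (LP (LK LD1_c2 LD2_c56 LD3_c39)) :=
  Lgr Lrot178 (Lpe (f69349 IH) (Lpe (f69348 IH) (Lpe (K4.f69347 IH) (Lpe (K2.f69333 IH) (Lpr_cf (K2.f69327 IH) (Lpe (f37964 IH) (Lpe (K0.f8190 IH) (Lpr_bf (K0.f35390 IH) (Lpr_cf (K0.f35347 IH) (Lpr_df (K1.f37164 IH) (Lpe (K1.f21183 IH) (Lpe (K1.f21182 IH) (Lpe (K1.f7121 IH) (Lpr_df (K1.f37931 IH) (Lpe (K1.f24614 IH) (Lpe (K4.f56780 IH) (Lpe (K2.f69350 IH) (Lpe (f69351 IH) (Lpe (K2.f69352 IH) (Lpn (LP (LK LD1_c2 LD2_c56 LD3_c39))))))))))))))))))))))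
theorem f69445 : Led Lsl_ct (LP (LK LD1_c5 LD2_c55 LD3_c39)) = (LP (LK LD1_c2 LD2_c54 LD3_c10)) :=
  Lre_c IH (LK LD1_c5 LD2_c55 LD3_c39) (LK LD1_c2 LD2_c54 LD3_c10) Lrfl Lrfl
theorem f81910 : Led Lsl_bt (LP (LK LD1_c4 LD2_c58 LD3_c40)) = (LP (LK LD1_c5 LD2_c55 LD3_c39)) :=
  Lgr Lrot128 (Lpr_cf (K4.f74300 IH) (Lpe (f69353 IH) (Lpe (f69349 IH) (Lpr_bf (f81906 IH) (Lpe (f69445 IH) (Lpn (LP (LK LD1_c5 LD2_c55 LD3_c39))))))))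
theorem f81914 : Led Lsl_bt (LP (LK LD1_c4 LD2_c58 LD3_c39)) = (LP (LK LD1_c2 LD2_c27 LD3_c10)) :=
  Lre_b IH (LK LD1_c4 LD2_c58 LD3_c39) (LK LD1_c2 LD2_c27 LD3_c10) Lrfl Lrfl
theorem f81915 : Led Lsl_df (LP (LK LD1_c4 LD2_c58 LD3_c39)) = (LP (LK LD1_c5 LD2_c55 LD3_c39)) :=
  Lgr Lrot12 (Lpr_bt (f81914 IH) (Lpr_dt (K4.f74299 IH) (Lpr_bt (f81910 IH) (Lpn (LP (LK LD1_c5 LD2_c55 LD3_c39))))))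
theorem f139112 : Led Lsl_ft (LP (LK LD1_c8 LD2_c45 LD3_c47)) = (LP (LK LD1_c5 LD2_c55 LD3_c39)) :=
  Lgr Lrot54 (Lpr_df (f139077 IH) (Lpe (f81922 IH) (Lpr_df (f81915 IH) (Lpn (LP (LK LD1_c5 LD2_c55 LD3_c39))))))
theorem f139117 : Led Lsl_ff (LP (LK LD1_c8 LD2_c45 LD3_c47)) = (LP (LK LD1_c5 LD2_c55 LD3_c39)) :=
  Lgr Lrot3 (Lpr_ft (f139112 IH) (Lpn (LP (LK LD1_c5 LD2_c55 LD3_c39))))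
theorem f74695 : Led Lsl_dt (LP (LK LD1_c2 LD2_c55 LD3_c9)) = (LP (LK LD1_c5 LD2_c57 LD3_c39)) :=
  Lre_d IH (LK LD1_c2 LD2_c55 LD3_c9) (LK LD1_c5 LD2_c57 LD3_c39) Lrfl Lrfl
theorem f26448 : Led Lsl_ct (LP (LK LD1_c4 LD2_c59 LD3_c48)) = (LP (LK LD1_c2 LD2_c56 LD3_c3)) :=
  Lre_c IH (LK LD1_c4 LD2_c59 LD3_c48) (LK LD1_c2 LD2_c56 LD3_c3) Lrfl Lrfl
theorem f14119 : Led Lsl_gt (LP (LK LD1_c2 LD2_c56 LD3_c3)) = (LP (LK LD1_c4 LD2_c46 LD3_c43)) :=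
  Lre_g IH (LK LD1_c2 LD2_c56 LD3_c3) (LK LD1_c4 LD2_c46 LD3_c43) Lrfl Lrfl
theorem f14120 : Led Lsl_ct (LP (LK LD1_c4 LD2_c46 LD3_c43)) = (LP (LK LD1_c9 LD2_c26 LD3_c5)) :=
  Lre_c IH (LK LD1_c4 LD2_c46 LD3_c43) (LK LD1_c9 LD2_c26 LD3_c5) Lrfl Lrfl
theorem f138980 : Led Lsl_ct (LP (LK LD1_c2 LD2_c27 LD3_c12)) = (LP (LK LD1_c4 LD2_c58 LD3_c42)) :=
  Lre_c IH (LK LD1_c2 LD2_c27 LD3_c12) (LK LD1_c4 LD2_c58 LD3_c42) Lrfl Lrfl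
theorem f139069 : Led Lsl_dt (LP (LK LD1_c9 LD2_c26 LD3_c5)) = (LP (LK LD1_c4 LD2_c58 LD3_c42)) :=
  Lgr Lrot27 (Lpe (f14120 IH) (Lpe (f14119 IH) (Lpe (f26448 IH) (Lpe (f137601 IH) (Lpe (f74695 IH) (Lpe (K4.f74560 IH) (Lpr_ct (K2.f61805 IH) (Lpr_gt (f139062 IH) (Lpr_ct (f138980 IH) (Lpn (LP (LK LD1_c4 LD2_c58 LD3_c42))))))))))))
theorem f139109 : Led Lsl_bt (LP (LK LD1_c8 LD2_c45 LD3_c47)) = (LP (LK LD1_c9 LD2_c26 LD3_c5)) :=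
  Lgr Lrot95 (Lpr_df (f139077 IH) (Lpe (f139045 IH) (Lpe (f139069 IH) (Lpn (LP (LK LD1_c9 LD2_c26 LD3_c5))))))
theorem f139128 : Led Lsl_ft (LP (LK LD1_c9 LD2_c26 LD3_c5)) = (LP (LK LD1_c4 LD2_c58 LD3_c40)) :=
  Lgr Lrot75 (Lpe (f139109 IH) (Lpr_ff (f139117 IH) (Lpe (f81910 IH) (Lpn (LP (LK LD1_c4 LD2_c58 LD3_c40))))))
theorem f139130 : Led Lsl_ff (LP (LK LD1_c4 LD2_c46 LD3_c43)) = (LP (LK LD1_c2 LD2_c56 LD3_c39)) :=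
  Lgr Lrot23 (Lpr_ct (f14120 IH) (Lpr_ft (f139128 IH) (Lpr_ct (K4.f74311 IH) (Lpn (LP (LK LD1_c2 LD2_c56 LD3_c39))))))
theorem f13749 : Led Lsl_gt (LP (LK LD1_c1 LD2_c24 LD3_c7)) = (LP (LK LD1_c2 LD2_c56 LD3_c38)) :=
  Lre_g IH (LK LD1_c1 LD2_c24 LD3_c7) (LK LD1_c2 LD2_c56 LD3_c38) Lrfl Lrfl
theorem f139135 : Led Lsl_at (LP (LK LD1_c4 LD2_c46 LD3_c43)) = (LP (LK LD1_c2 LD2_c56 LD3_c38)) :=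
  Lgr Lrot26 (Lpr_ff (f139130 IH) (Lpr_gt (K2.f69352 IH) (Lpr_gt (f13749 IH) (Lpn (LP (LK LD1_c2 LD2_c56 LD3_c38))))))
theorem f139137 : Led Lsl_af (LP (LK LD1_c4 LD2_c46 LD3_c43)) = (LP (LK LD1_c2 LD2_c56 LD3_c38)) :=
  Lgr Lrot0 (Lpr_at (f139135 IH) (Lpn (LP (LK LD1_c2 LD2_c56 LD3_c38))))
theorem f105007 : Led Lsl_ct (LP (LK LD1_c9 LD2_c26 LD3_c5)) = (LP (LK LD1_c4 LD2_c46 LD3_c43)) :=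
  Lre_c IH (LK LD1_c9 LD2_c26 LD3_c5) (LK LD1_c4 LD2_c46 LD3_c43) Lrfl Lrfl
theorem f139071 : Led Lsl_df (LP (LK LD1_c9 LD2_c26 LD3_c5)) = (LP (LK LD1_c4 LD2_c58 LD3_c42)) :=
  Lgr Lrot162 (Lpe (f14120 IH) (Lpe (f14119 IH) (Lpe (f26448 IH) (Lpe (f137601 IH) (Lpr_dt (f74692 IH) (Lpe (K4.f74560 IH) (Lpr_ct (K2.f61805 IH) (Lpr_gt (f139062 IH) (Lpr_ct (f138980 IH) (Lpn (LP (LK LD1_c4 LD2_c58 LD3_c42))))))))))))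
theorem f138976 : Led Lsl_dt (LP (LK LD1_c1 LD2_c10 LD3_c52)) = (LP (LK LD1_c2 LD2_c27 LD3_c12)) :=
  Lre_d IH (LK LD1_c1 LD2_c10 LD3_c52) (LK LD1_c2 LD2_c27 LD3_c12) Lrfl Lrfl
theorem f138890 : Led Lsl_ct (LP (LK LD1_c2 LD2_c27 LD3_c8)) = (LP (LK LD1_c1 LD2_c10 LD3_c52)) :=
  Lre_c IH (LK LD1_c2 LD2_c27 LD3_c8) (LK LD1_c1 LD2_c10 LD3_c52) Lrfl Lrfl
theorem f138899 : Led Lsl_dt (LP (LK LD1_c4 LD2_c58 LD3_c32)) = (LP (LK LD1_c2 LD2_c27 LD3_c8)) :=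
  Lre_d IH (LK LD1_c4 LD2_c58 LD3_c32) (LK LD1_c2 LD2_c27 LD3_c8) Lrfl Lrfl
theorem f14126 : Led Lsl_gt (LP (LK LD1_c4 LD2_c46 LD3_c42)) = (LP (LK LD1_c2 LD2_c56 LD3_c3)) :=
  Lre_g IH (LK LD1_c4 LD2_c46 LD3_c42) (LK LD1_c2 LD2_c56 LD3_c3) Lrfl Lrfl
theorem f139144 : Led Lsl_ft (LP (LK LD1_c4 LD2_c46 LD3_c42)) = (LP (LK LD1_c2 LD2_c56 LD3_c38)) :=
  Lgr Lrot2 (Lpr_gt (f14126 IH) (Lpr_gt (f14119 IH) (Lpr_af (f139137 IH) (Lpn (LP (LK LD1_c2 LD2_c56 LD3_c38))))))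
theorem f74936 : Led Lsl_bt (LP (LK LD1_c9 LD2_c15 LD3_c61)) = (LP (LK LD1_c4 LD2_c40 LD3_c36)) :=
  Lre_b IH (LK LD1_c9 LD2_c15 LD3_c61) (LK LD1_c4 LD2_c40 LD3_c36) Lrfl Lrfl
theorem f75219 : Led Lsl_dt (LP (LK LD1_c4 LD2_c40 LD3_c36)) = (LP (LK LD1_c6 LD2_c0 LD3_c33)) :=
  Lgr Lrot79 (Lpe (f74936 IH) (Lpr_df (K4.f75215 IH) (Lpe (K2.f75151 IH) (Lpn (LP (LK LD1_c6 LD2_c0 LD3_c33))))))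
theorem f72885 : Led Lsl_gt (LP (LK LD1_c3 LD2_c0 LD3_c36)) = (LP (LK LD1_c4 LD2_c40 LD3_c36)) :=
  Lre_g IH (LK LD1_c3 LD2_c0 LD3_c36) (LK LD1_c4 LD2_c40 LD3_c36) Lrfl Lrfl
theorem f99076 : Led Lsl_ct (LP (LK LD1_c2 LD2_c21 LD3_c17)) = (LP (LK LD1_c4 LD2_c46 LD3_c44)) :=
  Lre_c IH (LK LD1_c2 LD2_c21 LD3_c17) (LK LD1_c4 LD2_c46 LD3_c44) Lrfl Lrfl
theorem f99080 : Led Lsl_gt (LP (LK LD1_c2 LD2_c21 LD3_c17)) = (LP (LK LD1_c4 LD2_c46 LD3_c42)) :=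
  Lre_g IH (LK LD1_c2 LD2_c21 LD3_c17) (LK LD1_c4 LD2_c46 LD3_c42) Lrfl Lrfl
theorem f137612 : Led Lsl_df (LP (LK LD1_c3 LD2_c0 LD3_c36)) = (LP (LK LD1_c4 LD2_c46 LD3_c42)) :=
  Lgr Lrot153 (Lpr_gt (f72885 IH) (Lpr_dt (f75219 IH) (Lpe (K2.f75164 IH) (Lpe (K2.f74264 IH) (Lpr_gf (K4.f74560 IH) (Lpe (f74692 IH) (Lpr_gf (f137604 IH) (Lpe (f99076 IH) (Lpr_gt (f99080 IH) (Lpn (LP (LK LD1_c4 LD2_c46 LD3_c42))))))))))))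
theorem f139146 : Led Lsl_cf (LP (LK LD1_c4 LD2_c58 LD3_c32)) = (LP (LK LD1_c3 LD2_c0 LD3_c36)) :=
  Lgr Lrot118 (Lpr_dt (f138899 IH) (Lpr_ct (f138890 IH) (Lpr_dt (f138976 IH) (Lpr_ct (f138980 IH) (Lpe (f139071 IH) (Lpr_ct (f105007 IH) (Lpr_af (f139137 IH) (Lpe (f139144 IH) (Lpe (f137612 IH) (Lpn (LP (LK LD1_c3 LD2_c0 LD3_c36))))))))))))
theorem f139148 : Led Lsl_at (LP (LK LD1_c4 LD2_c40 LD3_c35)) = (LP (LK LD1_c3 LD2_c0 LD3_c36)) :=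
  Lgr Lrot107 (Lpr_cf (K4.f74538 IH) (Lpe (K4.f74369 IH) (Lpr_cf (f139146 IH) (Lpn (LP (LK LD1_c3 LD2_c0 LD3_c36))))))
theorem f75079 : Led Lsl_gt (LP (LK LD1_c1 LD2_c26 LD3_c8)) = (LP (LK LD1_c3 LD2_c0 LD3_c36)) :=
  Lre_g IH (LK LD1_c1 LD2_c26 LD3_c8) (LK LD1_c3 LD2_c0 LD3_c36) Lrfl Lrfl
theorem f23019 : Led Lsl_gt (LP (LK LD1_c3 LD2_c0 LD3_c37)) = (LP (LK LD1_c1 LD2_c26 LD3_c8)) :=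
  Lre_g IH (LK LD1_c3 LD2_c0 LD3_c37) (LK LD1_c1 LD2_c26 LD3_c8) Lrfl Lrfl
theorem f139293 : Led Lsl_ff (LP (LK LD1_c4 LD2_c40 LD3_c35)) = (LP (LK LD1_c3 LD2_c0 LD3_c37)) :=
  Lgr Lrot52 (Lpr_at (f139148 IH) (Lpe (f75079 IH) (Lpe (f23019 IH) (Lpn (LP (LK LD1_c3 LD2_c0 LD3_c37))))))
theorem f139150 : Led Lsl_ct (LP (LK LD1_c4 LD2_c58 LD3_c32)) = (LP (LK LD1_c3 LD2_c0 LD3_c36)) :=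
  Lgr Lrot59 (Lpr_cf (f139146 IH) (Lpn (LP (LK LD1_c3 LD2_c0 LD3_c36))))
theorem f139132 : Led Lsl_dt (LP (LK LD1_c2 LD2_c27 LD3_c8)) = (LP (LK LD1_c4 LD2_c58 LD3_c32)) :=
  Lre_d IH (LK LD1_c2 LD2_c27 LD3_c8) (LK LD1_c4 LD2_c58 LD3_c32) Lrfl Lrfl
theorem f138900 : Led Lsl_ct (LP (LK LD1_c1 LD2_c10 LD3_c52)) = (LP (LK LD1_c2 LD2_c27 LD3_c8)) :=
  Lre_c IH (LK LD1_c1 LD2_c10 LD3_c52) (LK LD1_c2 LD2_c27 LD3_c8) Lrfl Lrfl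
theorem f138891 : Led Lsl_dt (LP (LK LD1_c2 LD2_c27 LD3_c12)) = (LP (LK LD1_c1 LD2_c10 LD3_c52)) :=
  Lre_d IH (LK LD1_c2 LD2_c27 LD3_c12) (LK LD1_c1 LD2_c10 LD3_c52) Lrfl Lrfl
theorem f139295 : Led Lsl_dt (LP (LK LD1_c3 LD2_c0 LD3_c37)) = (LP (LK LD1_c4 LD2_c46 LD3_c43)) :=
  Lgr Lrot159 (Lpe (f139293 IH) (Lpr_at (f139148 IH) (Lpe (f139150 IH) (Lpe (f139132 IH) (Lpe (f138900 IH) (Lpe (f138891 IH) (Lpe (f138972 IH) (Lpe (f139069 IH) (Lpe (f14120 IH) (Lpn (LP (LK LD1_c4 LD2_c46 LD3_c43))))))))))))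
theorem f139297 : Led Lsl_df (LP (LK LD1_c3 LD2_c0 LD3_c37)) = (LP (LK LD1_c4 LD2_c46 LD3_c43)) :=
  Lgr Lrot38 (Lpr_dt (f139295 IH) (Lpn (LP (LK LD1_c4 LD2_c46 LD3_c43))))
theorem f74403 : Led Lsl_ff (LP (LK LD1_c2 LD2_c49 LD3_c24)) = (LP (LK LD1_c2 LD2_c52 LD3_c0)) :=
  Lgr Lrot30 (Lpr_at (K2.f61527 IH) (Lpr_ft (K2.f74294 IH) (Lpe (K4.f74255 IH) (Lpn (LP (LK LD1_c2 LD2_c52 LD3_c0))))))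
theorem f74691 : Led Lsl_gt (LP (LK LD1_c2 LD2_c52 LD3_c0)) = (LP (LK LD1_c5 LD2_c51 LD3_c33)) :=
  Lre_g IH (LK LD1_c2 LD2_c52 LD3_c0) (LK LD1_c5 LD2_c51 LD3_c33) Lrfl Lrfl
theorem f79685 : Led Lsl_gf (LP (LK LD1_c5 LD2_c47 LD3_c0)) = (LP (LK LD1_c5 LD2_c51 LD3_c33)) :=
  Lgr Lrot76 (Lpe (K2.f61527 IH) (Lpr_ff (f74403 IH) (Lpr_gt (f74691 IH) (Lpn (LP (LK LD1_c5 LD2_c51 LD3_c33))))))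
theorem f14358 : Led Lsl_gt (LP (LK LD1_c4 LD2_c59 LD3_c48)) = (LP (LK LD1_c9 LD2_c26 LD3_c6)) :=
  Lre_g IH (LK LD1_c4 LD2_c59 LD3_c48) (LK LD1_c9 LD2_c26 LD3_c6) Lrfl Lrfl
theorem f139313 : Led Lsl_df (LP (LK LD1_c5 LD2_c51 LD3_c33)) = (LP (LK LD1_c9 LD2_c26 LD3_c6)) :=
  Lgr Lrot153 (Lpe (f79685 IH) (Lpe (K2.f72893 IH) (Lpe (K2.f72878 IH) (Lpe (K2.f72877 IH) (Lpe (f23019 IH) (Lpr_df (f139297 IH) (Lpe (f14119 IH) (Lpe (f26448 IH) (Lpr_gt (f14358 IH) (Lpn (LP (LK LD1_c9 LD2_c26 LD3_c6))))))))))))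
theorem f26418 : Led Lsl_gt (LP (LK LD1_c9 LD2_c26 LD3_c6)) = (LP (LK LD1_c4 LD2_c46 LD3_c44)) :=
  Lre_g IH (LK LD1_c9 LD2_c26 LD3_c6) (LK LD1_c4 LD2_c46 LD3_c44) Lrfl Lrfl
theorem f99082 : Led Lsl_ct (LP (LK LD1_c4 LD2_c46 LD3_c42)) = (LP (LK LD1_c9 LD2_c26 LD3_c3)) :=
  Lre_c IH (LK LD1_c4 LD2_c46 LD3_c42) (LK LD1_c9 LD2_c26 LD3_c3) Lrfl Lrfl
theorem f139156 : Led Lsl_ft (LP (LK LD1_c1 LD2_c10 LD3_c47)) = (LP (LK LD1_c0 LD2_c32 LD3_c52)) :=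
  Lre_f IH (LK LD1_c1 LD2_c10 LD3_c47) (LK LD1_c0 LD2_c32 LD3_c52) Lrfl Lrfl
theorem f139157 : Led Lsl_dt (LP (LK LD1_c1 LD2_c10 LD3_c47)) = (LP (LK LD1_c2 LD2_c26 LD3_c61)) :=
  Lre_d IH (LK LD1_c1 LD2_c10 LD3_c47) (LK LD1_c2 LD2_c26 LD3_c61) Lrfl Lrfl
theorem f139158 : Led Lsl_ct (LP (LK LD1_c2 LD2_c26 LD3_c61)) = (LP (LK LD1_c4 LD2_c58 LD3_c18)) :=
  Lre_c IH (LK LD1_c2 LD2_c26 LD3_c61) (LK LD1_c4 LD2_c58 LD3_c18) Lrfl Lrfl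
theorem f105055 : Led Lsl_ct (LP (LK LD1_c9 LD2_c26 LD3_c3)) = (LP (LK LD1_c4 LD2_c46 LD3_c42)) :=
  Lre_c IH (LK LD1_c9 LD2_c26 LD3_c3) (LK LD1_c4 LD2_c46 LD3_c42) Lrfl Lrfl
theorem f139159 : Led Lsl_dt (LP (LK LD1_c4 LD2_c58 LD3_c18)) = (LP (LK LD1_c9 LD2_c26 LD3_c3)) :=
  Lgr Lrot32 (Lpe (f139158 IH) (Lpe (f139157 IH) (Lpr_ft (f139156 IH) (Lpr_at (f138882 IH) (Lpe (f138890 IH) (Lpe (f138899 IH) (Lpr_cf (f139146 IH) (Lpr_df (f137612 IH) (Lpe (f105055 IH) (Lpn (LP (LK LD1_c9 LD2_c26 LD3_c3))))))))))))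
theorem f139337 : Led Lsl_gt (LP (LK LD1_c2 LD2_c49 LD3_c22)) = (LP (LK LD1_c2 LD2_c26 LD3_c61)) :=
  Lgr Lrot150 (Lpe (K2.f72845 IH) (Lpr_gf (f79685 IH) (Lpr_df (f139313 IH) (Lpr_gt (f26418 IH) (Lpr_ct (K4.f98914 IH) (Lpr_gt (f99080 IH) (Lpr_ct (f99082 IH) (Lpe (f139159 IH) (Lpe (f139158 IH) (Lpn (LP (LK LD1_c2 LD2_c26 LD3_c61))))))))))))
theorem f26449 : Led Lsl_dt (LP (LK LD1_c0 LD2_c32 LD3_c55)) = (LP (LK LD1_c1 LD2_c11 LD3_c0)) :=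
  Lre_d IH (LK LD1_c0 LD2_c32 LD3_c55) (LK LD1_c1 LD2_c11 LD3_c0) Lrfl Lrfl
theorem f139178 : Led Lsl_dt (LP (LK LD1_c2 LD2_c26 LD3_c61)) = (LP (LK LD1_c1 LD2_c10 LD3_c47)) :=
  Lre_d IH (LK LD1_c2 LD2_c26 LD3_c61) (LK LD1_c1 LD2_c10 LD3_c47) Lrfl Lrfl
theorem f139339 : Led Lsl_gf (LP (LK LD1_c0 LD2_c32 LD3_c55)) = (LP (LK LD1_c1 LD2_c10 LD3_c47)) :=
  Lgr Lrot143 (Lpr_dt (f26449 IH) (Lpe (K4.f20421 IH) (Lpe (f20422 IH) (Lpe (f137601 IH) (Lpe (f74695 IH) (Lpe (K4.f74689 IH) (Lpe (K2.f72847 IH) (Lpr_gt (f139337 IH) (Lpr_dt (f139178 IH) (Lpn (LP (LK LD1_c1 LD2_c10 LD3_c47))))))))))))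
theorem f35238 : Led Lsl_bt (LP (LK LD1_c0 LD2_c17 LD3_c15)) = (LP (LK LD1_c0 LD2_c7 LD3_c41)) :=
  Lre_b IH (LK LD1_c0 LD2_c17 LD3_c15) (LK LD1_c0 LD2_c7 LD3_c41) Lrfl Lrfl
theorem f37771 : Led Lsl_gt (LP (LK LD1_c0 LD2_c24 LD3_c55)) = (LP (LK LD1_c0 LD2_c54 LD3_c61)) :=
  Lre_g IH (LK LD1_c0 LD2_c24 LD3_c55) (LK LD1_c0 LD2_c54 LD3_c61) Lrfl Lrfl
theorem f101695 : Led Lsl_bt (LP (LK LD1_c1 LD2_c56 LD3_c22)) = (LP (LK LD1_c0 LD2_c54 LD3_c61)) :=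
  Lre_b IH (LK LD1_c1 LD2_c56 LD3_c22) (LK LD1_c0 LD2_c54 LD3_c61) Lrfl Lrfl
theorem f139358 : Led Lsl_ct (LP (LK LD1_c1 LD2_c56 LD3_c22)) = (LP (LK LD1_c1 LD2_c10 LD3_c47)) :=
  Lgr Lrot64 (Lpr_bt (f101695 IH) (Lpe (f37771 IH) (Lpe (K5.f37758 IH) (Lpr_ct (K1.f35523 IH) (Lpr_gf (K0.f27193 IH) (Lpr_cf (K0.f20607 IH) (Lpe (K0.f20543 IH) (Lpe (f35238 IH) (Lpr_ct (K3.f26450 IH) (Lpr_gf (f139339 IH) (Lpn (LP (LK LD1_c1 LD2_c10 LD3_c47)))))))))))))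
theorem f139374 : Led Lsl_dt (LP (LK LD1_c3 LD2_c59 LD3_c17)) = (LP (LK LD1_c1 LD2_c56 LD3_c22)) :=
  Lre_d IH (LK LD1_c3 LD2_c59 LD3_c17) (LK LD1_c1 LD2_c56 LD3_c22) Lrfl Lrfl
theorem f74984 : Led Lsl_at (LP (LK LD1_c2 LD2_c27 LD3_c22)) = (LP (LK LD1_c4 LD2_c58 LD3_c32)) :=
  Lre_a IH (LK LD1_c2 LD2_c27 LD3_c22) (LK LD1_c4 LD2_c58 LD3_c32) Lrfl Lrfl
theorem f139382 : Led Lsl_ft (LP (LK LD1_c3 LD2_c59 LD3_c17)) = (LP (LK LD1_c2 LD2_c27 LD3_c22)) :=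
  Lgr Lrot142 (Lpr_dt (f139374 IH) (Lpr_ct (f139358 IH) (Lpr_dt (f139157 IH) (Lpr_ct (f139158 IH) (Lpr_dt (f139159 IH) (Lpr_ct (f105055 IH) (Lpe (f137612 IH) (Lpe (f139146 IH) (Lpe (f74984 IH) (Lpn (LP (LK LD1_c2 LD2_c27 LD3_c22))))))))))))
theorem f139390 : Led Lsl_ff (LP (LK LD1_c3 LD2_c59 LD3_c17)) = (LP (LK LD1_c2 LD2_c27 LD3_c22)) :=
  Lgr Lrot3 (Lpr_ft (f139382 IH) (Lpn (LP (LK LD1_c2 LD2_c27 LD3_c22))))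
theorem f139399 : Led Lsl_ft (LP (LK LD1_c1 LD2_c56 LD3_c22)) = (LP (LK LD1_c1 LD2_c10 LD3_c54)) :=
  Lgr Lrot54 (Lpe (f139374 IH) (Lpr_ff (f139390 IH) (Lpe (K4.f74319 IH) (Lpn (LP (LK LD1_c1 LD2_c10 LD3_c54))))))
theorem f139368 : Led Lsl_bt (LP (LK LD1_c0 LD2_c54 LD3_c61)) = (LP (LK LD1_c1 LD2_c56 LD3_c22)) :=
  Lre_b IH (LK LD1_c0 LD2_c54 LD3_c61) (LK LD1_c1 LD2_c56 LD3_c22) Lrfl Lrfl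
theorem f139401 : Led Lsl_ff (LP (LK LD1_c0 LD2_c54 LD3_c61)) = (LP (LK LD1_c1 LD2_c27 LD3_c36)) :=
  Lgr Lrot25 (Lpr_bt (f139368 IH) (Lpr_ft (f139399 IH) (Lpr_bt (K4.f99501 IH) (Lpn (LP (LK LD1_c1 LD2_c27 LD3_c36))))))
theorem f99546 : Led Lsl_at (LP (LK LD1_c1 LD2_c27 LD3_c38)) = (LP (LK LD1_c0 LD2_c40 LD3_c32)) :=
  Lre_a IH (LK LD1_c1 LD2_c27 LD3_c38) (LK LD1_c0 LD2_c40 LD3_c32) Lrfl Lrfl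
theorem f99570 : Led Lsl_ft (LP (LK LD1_c0 LD2_c55 LD3_c1)) = (LP (LK LD1_c1 LD2_c27 LD3_c38)) :=
  Lgr Lrot101 (Lpe (K4.f40668 IH) (Lpr_ff (K4.f99557 IH) (Lpe (f99546 IH) (Lpn (LP (LK LD1_c1 LD2_c27 LD3_c38))))))
theorem f59538 : Led Lsl_gt (LP (LK LD1_c1 LD2_c27 LD3_c37)) = (LP (LK LD1_c0 LD2_c40 LD3_c32)) :=
  Lre_g IH (LK LD1_c1 LD2_c27 LD3_c37) (LK LD1_c0 LD2_c40 LD3_c32) Lrfl Lrfl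
theorem f101681 : Led Lsl_gt (LP (LK LD1_c0 LD2_c55 LD3_c1)) = (LP (LK LD1_c1 LD2_c27 LD3_c37)) :=
  Lgr Lrot5 (Lpr_ft (f99570 IH) (Lpr_at (f99546 IH) (Lpe (f59538 IH) (Lpn (LP (LK LD1_c1 LD2_c27 LD3_c37))))))
theorem f139408 : Led Lsl_at (LP (LK LD1_c0 LD2_c54 LD3_c61)) = (LP (LK LD1_c1 LD2_c27 LD3_c37)) :=
  Lgr Lrot26 (Lpr_ff (f139401 IH) (Lpe (K4.f99581 IH) (Lpr_gt (f101681 IH) (Lpn (LP (LK LD1_c1 LD2_c27 LD3_c37))))))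
theorem f37819 : Led Lsl_dt (LP (LK LD1_c1 LD2_c56 LD3_c24)) = (LP (LK LD1_c0 LD2_c54 LD3_c61)) :=
  Lre_d IH (LK LD1_c1 LD2_c56 LD3_c24) (LK LD1_c0 LD2_c54 LD3_c61) Lrfl Lrfl
theorem f99599 : Led Lsl_bt (LP (LK LD1_c4 LD2_c36 LD3_c43)) = (LP (LK LD1_c2 LD2_c15 LD3_c35)) :=
  Lre_b IH (LK LD1_c4 LD2_c36 LD3_c43) (LK LD1_c2 LD2_c15 LD3_c35) Lrfl Lrfl
theorem f99600 : Led Lsl_ct (LP (LK LD1_c4 LD2_c36 LD3_c43)) = (LP (LK LD1_c2 LD2_c15 LD3_c41)) :=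
  Lre_c IH (LK LD1_c4 LD2_c36 LD3_c43) (LK LD1_c2 LD2_c15 LD3_c41) Lrfl Lrfl
theorem f137907 : Led Lsl_gt (LP (LK LD1_c4 LD2_c24 LD3_c41)) = (LP (LK LD1_c2 LD2_c15 LD3_c41)) :=
  Lgr Lrot65 (Lpe (f35997 IH) (Lpr_bt (f137896 IH) (Lpe (f101748 IH) (Lpr_bf (f101743 IH) (Lpr_ct (f72251 IH) (Lpe (K4.f36621 IH) (Lpe (f69322 IH) (Lpe (K5.f69325 IH) (Lpe (f99599 IH) (Lpr_ct (f99600 IH) (Lpn (LP (LK LD1_c2 LD2_c15 LD3_c41)))))))))))))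
theorem f36028 : Led Lsl_gt (LP (LK LD1_c4 LD2_c24 LD3_c47)) = (LP (LK LD1_c2 LD2_c9 LD3_c52)) :=
  Lre_g IH (LK LD1_c4 LD2_c24 LD3_c47) (LK LD1_c2 LD2_c9 LD3_c52) Lrfl Lrfl
theorem f36029 : Led Lsl_gt (LP (LK LD1_c7 LD2_c56 LD3_c50)) = (LP (LK LD1_c4 LD2_c24 LD3_c47)) :=
  Lgr Lrot5 (Lpr_ft (K2.f36015 IH) (Lpr_at (K2.f36025 IH) (Lpe (f36028 IH) (Lpn (LP (LK LD1_c4 LD2_c24 LD3_c47))))))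
theorem f132959 : Led Lsl_af (LP (LK LD1_c1 LD2_c28 LD3_c34)) = (LP (LK LD1_c2 LD2_c18 LD3_c57)) :=
  Lgr Lrot0 (Lpr_at (f132957 IH) (Lpn (LP (LK LD1_c2 LD2_c18 LD3_c57))))
theorem f132997 : Led Lsl_ct (LP (LK LD1_c1 LD2_c28 LD3_c34)) = (LP (LK LD1_c3 LD2_c4 LD3_c58)) :=
  Lre_c IH (LK LD1_c1 LD2_c28 LD3_c34) (LK LD1_c3 LD2_c4 LD3_c58) Lrfl Lrfl
theorem f59409 : Led Lsl_ct (LP (LK LD1_c4 LD2_c42 LD3_c53)) = (LP (LK LD1_c2 LD2_c18 LD3_c57)) :=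
  Lre_c IH (LK LD1_c4 LD2_c42 LD3_c53) (LK LD1_c2 LD2_c18 LD3_c57) Lrfl Lrfl
theorem f132998 : Led Lsl_at (LP (LK LD1_c3 LD2_c4 LD3_c58)) = (LP (LK LD1_c4 LD2_c42 LD3_c53)) :=
  Lgr Lrot107 (Lpe (f132997 IH) (Lpr_af (f132959 IH) (Lpe (f59409 IH) (Lpn (LP (LK LD1_c4 LD2_c42 LD3_c53))))))
theorem f132724 : Led Lsl_et (LP (LK LD1_c1 LD2_c28 LD3_c32)) = (LP (LK LD1_c3 LD2_c4 LD3_c58)) :=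
  Lre_e IH (LK LD1_c1 LD2_c28 LD3_c32) (LK LD1_c3 LD2_c4 LD3_c58) Lrfl Lrfl
theorem f59403 : Led Lsl_et (LP (LK LD1_c4 LD2_c42 LD3_c53)) = (LP (LK LD1_c2 LD2_c18 LD3_c56)) :=
  Lre_e IH (LK LD1_c4 LD2_c42 LD3_c53) (LK LD1_c2 LD2_c18 LD3_c56) Lrfl Lrfl
theorem f133001 : Led Lsl_af (LP (LK LD1_c1 LD2_c28 LD3_c32)) = (LP (LK LD1_c2 LD2_c18 LD3_c56)) :=
  Lgr Lrot50 (Lpr_et (f132724 IH) (Lpr_at (f132998 IH) (Lpr_et (f59403 IH) (Lpn (LP (LK LD1_c2 LD2_c18 LD3_c56))))))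
theorem f59336 : Led Lsl_bt (LP (LK LD1_c0 LD2_c54 LD3_c31)) = (LP (LK LD1_c1 LD2_c55 LD3_c34)) :=
  Lre_b IH (LK LD1_c0 LD2_c54 LD3_c31) (LK LD1_c1 LD2_c55 LD3_c34) Lrfl Lrfl
theorem f59337 : Led Lsl_gt (LP (LK LD1_c1 LD2_c55 LD3_c34)) = (LP (LK LD1_c3 LD2_c57 LD3_c37)) :=
  Lre_g IH (LK LD1_c1 LD2_c55 LD3_c34) (LK LD1_c3 LD2_c57 LD3_c37) Lrfl Lrfl
theorem f59338 : Led Lsl_bt (LP (LK LD1_c2 LD2_c18 LD3_c56)) = (LP (LK LD1_c3 LD2_c57 LD3_c37)) :=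
  Lgr Lrot92 (Lpr_ct (f59335 IH) (Lpr_gt (K5.f59334 IH) (Lpe (K5.f27050 IH) (Lpr_bt (K5.f56601 IH) (Lpr_gt (K1.f59168 IH) (Lpr_ct (K1.f36403 IH) (Lpr_gt (K1.f59254 IH) (Lpe (K1.f37905 IH) (Lpr_bt (f59336 IH) (Lpr_gt (f59337 IH) (Lpn (LP (LK LD1_c3 LD2_c57 LD3_c37)))))))))))))
theorem f59397 : Led Lsl_bf (LP (LK LD1_c2 LD2_c18 LD3_c56)) = (LP (LK LD1_c3 LD2_c57 LD3_c37)) :=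
  Lgr Lrot24 (Lpr_bt (f59338 IH) (Lpn (LP (LK LD1_c3 LD2_c57 LD3_c37))))
theorem f133003 : Led Lsl_at (LP (LK LD1_c2 LD2_c9 LD3_c35)) = (LP (LK LD1_c3 LD2_c57 LD3_c37)) :=
  Lgr Lrot67 (Lpe (K5.f59361 IH) (Lpe (K5.f132570 IH) (Lpe (K5.f59366 IH) (Lpr_af (f133001 IH) (Lpr_bf (f59397 IH) (Lpn (LP (LK LD1_c3 LD2_c57 LD3_c37))))))))
theorem f78334 : Led Lsl_gt (LP (LK LD1_c3 LD2_c57 LD3_c38)) = (LP (LK LD1_c1 LD2_c55 LD3_c34)) :=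
  Lre_g IH (LK LD1_c3 LD2_c57 LD3_c38) (LK LD1_c1 LD2_c55 LD3_c34) Lrfl Lrfl
theorem f133011 : Led Lsl_ff (LP (LK LD1_c2 LD2_c9 LD3_c35)) = (LP (LK LD1_c3 LD2_c57 LD3_c38)) :=
  Lgr Lrot52 (Lpr_at (f133003 IH) (Lpe (f59337 IH) (Lpe (f78334 IH) (Lpn (LP (LK LD1_c3 LD2_c57 LD3_c38))))))
theorem f133016 : Led Lsl_ft (LP (LK LD1_c2 LD2_c9 LD3_c35)) = (LP (LK LD1_c3 LD2_c57 LD3_c38)) :=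
  Lgr Lrot48 (Lpr_ff (f133011 IH) (Lpn (LP (LK LD1_c3 LD2_c57 LD3_c38))))
theorem f117517 : Led Lsl_bt (LP (LK LD1_c1 LD2_c31 LD3_c4)) = (LP (LK LD1_c3 LD2_c9 LD3_c50)) :=
  Lre_b IH (LK LD1_c1 LD2_c31 LD3_c4) (LK LD1_c3 LD2_c9 LD3_c50) Lrfl Lrfl
theorem f117547 : Led Lsl_ft (LP (LK LD1_c3 LD2_c9 LD3_c50)) = (LP (LK LD1_c4 LD2_c23 LD3_c54)) :=
  Lgr Lrot75 (Lpe (f117517 IH) (Lpr_ff (K4.f117545 IH) (Lpe (K5.f36423 IH) (Lpn (LP (LK LD1_c4 LD2_c23 LD3_c54))))))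
theorem f133020 : Led Lsl_cf (LP (LK LD1_c3 LD2_c9 LD3_c50)) = (LP (LK LD1_c3 LD2_c57 LD3_c38)) :=
  Lgr Lrot108 (Lpr_ft (f117547 IH) (Lpr_ct (K5.f80685 IH) (Lpr_ft (f133016 IH) (Lpn (LP (LK LD1_c3 LD2_c57 LD3_c38))))))
theorem f137910 : Led Lsl_dt (LP (LK LD1_c4 LD2_c24 LD3_c47)) = (LP (LK LD1_c3 LD2_c57 LD3_c38)) :=
  Lgr Lrot105 (Lpe (f36029 IH) (Lpe (K2.f35995 IH) (Lpr_gf (f35992 IH) (Lpe (f35996 IH) (Lpr_gt (f137907 IH) (Lpr_dt (f112461 IH) (Lpr_gt (f112456 IH) (Lpr_dt (K5.f112460 IH) (Lpr_cf (f133020 IH) (Lpn (LP (LK LD1_c3 LD2_c57 LD3_c38))))))))))))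
theorem f81618 : Led Lsl_ct (LP (LK LD1_c7 LD2_c56 LD3_c50)) = (LP (LK LD1_c11 LD2_c41 LD3_c14)) :=
  Lgr Lrot59 (Lpr_cf (K2.f81611 IH) (Lpn (LP (LK LD1_c11 LD2_c41 LD3_c14))))
theorem f81588 : Led Lsl_gt (LP (LK LD1_c8 LD2_c47 LD3_c4)) = (LP (LK LD1_c4 LD2_c24 LD3_c48)) :=
  Lre_g IH (LK LD1_c8 LD2_c47 LD3_c4) (LK LD1_c4 LD2_c24 LD3_c48) Lrfl Lrfl
theorem f81647 : Led Lsl_gf (LP (LK LD1_c8 LD2_c47 LD3_c4)) = (LP (LK LD1_c11 LD2_c41 LD3_c14)) :=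
  Lgr Lrot47 (Lpr_gt (f81588 IH) (Lpe (K5.f35968 IH) (Lpr_ff (K5.f81640 IH) (Lpn (LP (LK LD1_c11 LD2_c41 LD3_c14))))))
theorem f78325 : Led Lsl_dt (LP (LK LD1_c1 LD2_c55 LD3_c34)) = (LP (LK LD1_c3 LD2_c57 LD3_c39)) :=
  Lre_d IH (LK LD1_c1 LD2_c55 LD3_c34) (LK LD1_c3 LD2_c57 LD3_c39) Lrfl Lrfl
theorem f59235 : Led Lsl_ct (LP (LK LD1_c7 LD2_c56 LD3_c44)) = (LP (LK LD1_c3 LD2_c57 LD3_c39)) :=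
  Lre_c IH (LK LD1_c7 LD2_c56 LD3_c44) (LK LD1_c3 LD2_c57 LD3_c39) Lrfl Lrfl
theorem f78201 : Led Lsl_gt (LP (LK LD1_c2 LD2_c20 LD3_c55)) = (LP (LK LD1_c4 LD2_c45 LD3_c38)) :=
  Lre_g IH (LK LD1_c2 LD2_c20 LD3_c55) (LK LD1_c4 LD2_c45 LD3_c38) Lrfl Lrfl
theorem f59248 : Led Lsl_bt (LP (LK LD1_c2 LD2_c18 LD3_c46)) = (LP (LK LD1_c1 LD2_c6 LD3_c24)) :=
  Lre_b IH (LK LD1_c2 LD2_c18 LD3_c46) (LK LD1_c1 LD2_c6 LD3_c24) Lrfl Lrfl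
theorem f59256 : Led Lsl_ct (LP (LK LD1_c4 LD2_c42 LD3_c37)) = (LP (LK LD1_c2 LD2_c18 LD3_c46)) :=
  Lre_c IH (LK LD1_c4 LD2_c42 LD3_c37) (LK LD1_c2 LD2_c18 LD3_c46) Lrfl Lrfl
theorem f78251 : Led Lsl_dt (LP (LK LD1_c4 LD2_c45 LD3_c38)) = (LP (LK LD1_c4 LD2_c42 LD3_c37)) :=
  Lgr Lrot182 (Lpe (f78201 IH) (Lpe (K5.f78250 IH) (Lpe (K3.f78242 IH) (Lpr_df (K3.f78232 IH) (Lpe (K2.f13664 IH) (Lpe (K0.f13626 IH) (Lpe (K0.f13625 IH) (Lpe (K0.f6974 IH) (Lpe (K0.f20977 IH) (Lpe (K0.f8172 IH) (Lpe (K0.f8171 IH) (Lpe (K1.f8235 IH) (Lpr_gf (K1.f37752 IH) (Lpe (K1.f35547 IH) (Lpe (K1.f35590 IH) (Lpe (K1.f36293 IH) (Lpe (K1.f59244 IH) (Lpe (f59248 IH) (Lpe (f59256 IH) (Lpn (LP (LK LD1_c4 LD2_c42 LD3_c37))))))))))))))))))))))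
theorem f78278 : Led Lsl_bt (LP (LK LD1_c9 LD2_c23 LD3_c56)) = (LP (LK LD1_c4 LD2_c45 LD3_c38)) :=
  Lre_b IH (LK LD1_c9 LD2_c23 LD3_c56) (LK LD1_c4 LD2_c45 LD3_c38) Lrfl Lrfl
theorem f59232 : Led Lsl_bt (LP (LK LD1_c1 LD2_c6 LD3_c24)) = (LP (LK LD1_c2 LD2_c18 LD3_c46)) :=
  Lre_b IH (LK LD1_c1 LD2_c6 LD3_c24) (LK LD1_c2 LD2_c18 LD3_c46) Lrfl Lrfl
theorem f59233 : Led Lsl_ct (LP (LK LD1_c2 LD2_c18 LD3_c46)) = (LP (LK LD1_c4 LD2_c42 LD3_c37)) :=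
  Lre_c IH (LK LD1_c2 LD2_c18 LD3_c46) (LK LD1_c4 LD2_c42 LD3_c37) Lrfl Lrfl
theorem f59234 : Led Lsl_bt (LP (LK LD1_c3 LD2_c57 LD3_c39)) = (LP (LK LD1_c1 LD2_c55 LD3_c35)) :=
  Lre_b IH (LK LD1_c3 LD2_c57 LD3_c39) (LK LD1_c1 LD2_c55 LD3_c35) Lrfl Lrfl
theorem f59236 : Led Lsl_bt (LP (LK LD1_c4 LD2_c42 LD3_c37)) = (LP (LK LD1_c7 LD2_c56 LD3_c44)) :=
  Lgr Lrot128 (Lpe (f59233 IH) (Lpe (f59232 IH) (Lpr_cf (K1.f59186 IH) (Lpe (f59234 IH) (Lpe (f59235 IH) (Lpn (LP (LK LD1_c7 LD2_c56 LD3_c44))))))))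
theorem f78279 : Led Lsl_df (LP (LK LD1_c9 LD2_c23 LD3_c56)) = (LP (LK LD1_c7 LD2_c56 LD3_c44)) :=
  Lgr Lrot12 (Lpr_bt (f78278 IH) (Lpr_dt (f78251 IH) (Lpr_bt (f59236 IH) (Lpn (LP (LK LD1_c7 LD2_c56 LD3_c44))))))
theorem f78326 : Led Lsl_dt (LP (LK LD1_c9 LD2_c23 LD3_c56)) = (LP (LK LD1_c7 LD2_c56 LD3_c44)) :=
  Lgr Lrot42 (Lpr_df (f78279 IH) (Lpn (LP (LK LD1_c7 LD2_c56 LD3_c44))))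
theorem f56960 : Led Lsl_gt (LP (LK LD1_c4 LD2_c48 LD3_c45)) = (LP (LK LD1_c9 LD2_c23 LD3_c56)) :=
  Lre_g IH (LK LD1_c4 LD2_c48 LD3_c45) (LK LD1_c9 LD2_c23 LD3_c56) Lrfl Lrfl
theorem f137925 : Led Lsl_dt (LP (LK LD1_c8 LD2_c47 LD3_c4)) = (LP (LK LD1_c4 LD2_c48 LD3_c45)) :=
  Lgr Lrot57 (Lpr_gf (f81647 IH) (Lpe (f81618 IH) (Lpr_gt (f36029 IH) (Lpr_dt (f137910 IH) (Lpr_gt (f78334 IH) (Lpr_dt (f78325 IH) (Lpe (f59235 IH) (Lpe (f78326 IH) (Lpe (f56960 IH) (Lpn (LP (LK LD1_c4 LD2_c48 LD3_c45))))))))))))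
theorem f36039 : Led Lsl_gt (LP (LK LD1_c2 LD2_c9 LD3_c52)) = (LP (LK LD1_c4 LD2_c24 LD3_c46)) :=
  Lre_g IH (LK LD1_c2 LD2_c9 LD3_c52) (LK LD1_c4 LD2_c24 LD3_c46) Lrfl Lrfl
theorem f56979 : Led Lsl_ct (LP (LK LD1_c9 LD2_c23 LD3_c56)) = (LP (LK LD1_c9 LD2_c25 LD3_c33)) :=
  Lre_c IH (LK LD1_c9 LD2_c23 LD3_c56) (LK LD1_c9 LD2_c25 LD3_c33) Lrfl Lrfl
theorem f78421 : Led Lsl_gt (LP (LK LD1_c9 LD2_c25 LD3_c33)) = (LP (LK LD1_c4 LD2_c46 LD3_c27)) :=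
  Lre_g IH (LK LD1_c9 LD2_c25 LD3_c33) (LK LD1_c4 LD2_c46 LD3_c27) Lrfl Lrfl
theorem f78337 : Led Lsl_ct (LP (LK LD1_c4 LD2_c46 LD3_c27)) = (LP (LK LD1_c2 LD2_c21 LD3_c11)) :=
  Lre_c IH (LK LD1_c4 LD2_c46 LD3_c27) (LK LD1_c2 LD2_c21 LD3_c11) Lrfl Lrfl
theorem f137936 : Led Lsl_ct (LP (LK LD1_c4 LD2_c24 LD3_c46)) = (LP (LK LD1_c4 LD2_c46 LD3_c28)) :=
  Lgr Lrot151 (Lpe (f36039 IH) (Lpe (K2.f35954 IH) (Lpe (f81588 IH) (Lpr_dt (f137925 IH) (Lpr_gt (f56960 IH) (Lpr_ct (f56979 IH) (Lpr_gt (f78421 IH) (Lpr_ct (f78337 IH) (Lpr_dt (K5.f112452 IH) (Lpn (LP (LK LD1_c4 LD2_c46 LD3_c28))))))))))))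
theorem f72274 : Led Lsl_ct (LP (LK LD1_c2 LD2_c15 LD3_c41)) = (LP (LK LD1_c4 LD2_c36 LD3_c43)) :=
  Lre_c IH (LK LD1_c2 LD2_c15 LD3_c41) (LK LD1_c4 LD2_c36 LD3_c43) Lrfl Lrfl
theorem f137913 : Led Lsl_dt (LP (LK LD1_c4 LD2_c36 LD3_c43)) = (LP (LK LD1_c9 LD2_c9 LD3_c25)) :=
  Lre_d IH (LK LD1_c4 LD2_c36 LD3_c43) (LK LD1_c9 LD2_c9 LD3_c25) Lrfl Lrfl
theorem f78593 : Led Lsl_gt (LP (LK LD1_c4 LD2_c46 LD3_c28)) = (LP (LK LD1_c9 LD2_c25 LD3_c35)) :=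
  Lre_g IH (LK LD1_c4 LD2_c46 LD3_c28) (LK LD1_c9 LD2_c25 LD3_c35) Lrfl Lrfl
theorem f137951 : Led Lsl_cf (LP (LK LD1_c9 LD2_c9 LD3_c25)) = (LP (LK LD1_c9 LD2_c25 LD3_c35)) :=
  Lgr Lrot99 (Lpe (f137913 IH) (Lpe (f72274 IH) (Lpe (f137907 IH) (Lpe (f35997 IH) (Lpe (f35441 IH) (Lpe (K2.f35982 IH) (Lpr_gt (f36039 IH) (Lpr_ct (f137936 IH) (Lpr_gt (f78593 IH) (Lpn (LP (LK LD1_c9 LD2_c25 LD3_c35))))))))))))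
theorem f137954 : Led Lsl_ct (LP (LK LD1_c9 LD2_c9 LD3_c25)) = (LP (LK LD1_c9 LD2_c25 LD3_c35)) :=
  Lgr Lrot59 (Lpr_cf (f137951 IH) (Lpn (LP (LK LD1_c9 LD2_c25 LD3_c35))))
theorem f137953 : Led Lsl_bt (LP (LK LD1_c9 LD2_c9 LD3_c25)) = (LP (LK LD1_c4 LD2_c36 LD3_c44)) :=
  Lre_b IH (LK LD1_c9 LD2_c9 LD3_c25) (LK LD1_c4 LD2_c36 LD3_c44) Lrfl Lrfl
theorem f35900 : Led Lsl_bt (LP (LK LD1_c1 LD2_c2 LD3_c1)) = (LP (LK LD1_c2 LD2_c9 LD3_c52)) :=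
  Lre_b IH (LK LD1_c1 LD2_c2 LD3_c1) (LK LD1_c2 LD2_c9 LD3_c52) Lrfl Lrfl
theorem f69343 : Led Lsl_cf (LP (LK LD1_c1 LD2_c2 LD3_c6)) = (LP (LK LD1_c1 LD2_c2 LD3_c1)) :=
  Lgr Lrot99 (Lpe (K2.f34763 IH) (Lpr_cf (K2.f69327 IH) (Lpe (K2.f37958 IH) (Lpe (K1.f29311 IH) (Lpr_gf (K1.f37324 IH) (Lpe (K1.f37330 IH) (Lpr_gt (K2.f59184 IH) (Lpe (K2.f59699 IH) (Lpr_gt (K2.f59703 IH) (Lpn (LP (LK LD1_c1 LD2_c2 LD3_c1))))))))))))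
theorem f37205 : Led Lsl_bt (LP (LK LD1_c3 LD2_c4 LD3_c2)) = (LP (LK LD1_c1 LD2_c28 LD3_c4)) :=
  Lre_b IH (LK LD1_c3 LD2_c4 LD3_c2) (LK LD1_c1 LD2_c28 LD3_c4) Lrfl Lrfl
theorem f73313 : Led Lsl_bt (LP (LK LD1_c1 LD2_c31 LD3_c3)) = (LP (LK LD1_c2 LD2_c49 LD3_c41)) :=
  Lgr Lrot35 (Lpe (K1.f56428 IH) (Lpe (f37205 IH) (Lpr_ff (K2.f73308 IH) (Lpn (LP (LK LD1_c2 LD2_c49 LD3_c41))))))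
theorem f137959 : Led Lsl_gt (LP (LK LD1_c4 LD2_c36 LD3_c44)) = (LP (LK LD1_c2 LD2_c49 LD3_c41)) :=
  Lgr Lrot164 (Lpe (f137953 IH) (Lpr_ct (f137954 IH) (Lpe (f78593 IH) (Lpe (f137936 IH) (Lpe (f36039 IH) (Lpe (f35900 IH) (Lpe (f69343 IH) (Lpe (K2.f70559 IH) (Lpe (K1.f60403 IH) (Lpr_bt (f73313 IH) (Lpn (LP (LK LD1_c2 LD2_c49 LD3_c41)))))))))))))
theorem f99590 : Led Lsl_dt (LP (LK LD1_c2 LD2_c15 LD3_c35)) = (LP (LK LD1_c4 LD2_c36 LD3_c44)) :=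
  Lre_d IH (LK LD1_c2 LD2_c15 LD3_c35) (LK LD1_c4 LD2_c36 LD3_c44) Lrfl Lrfl
theorem f56574 : Led Lsl_ct (LP (LK LD1_c0 LD2_c37 LD3_c23)) = (LP (LK LD1_c1 LD2_c20 LD3_c58)) :=
  Lre_c IH (LK LD1_c0 LD2_c37 LD3_c23) (LK LD1_c1 LD2_c20 LD3_c58) Lrfl Lrfl
theorem f59475 : Led Lsl_dt (LP (LK LD1_c1 LD2_c20 LD3_c59)) = (LP (LK LD1_c0 LD2_c37 LD3_c23)) :=
  Lre_d IH (LK LD1_c1 LD2_c20 LD3_c59) (LK LD1_c0 LD2_c37 LD3_c23) Lrfl Lrfl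
theorem f73273 : Led Lsl_gt (LP (LK LD1_c2 LD2_c49 LD3_c43)) = (LP (LK LD1_c1 LD2_c20 LD3_c59)) :=
  Lre_g IH (LK LD1_c2 LD2_c49 LD3_c43) (LK LD1_c1 LD2_c20 LD3_c59) Lrfl Lrfl
theorem f137963 : Led Lsl_dt (LP (LK LD1_c1 LD2_c27 LD3_c37)) = (LP (LK LD1_c2 LD2_c49 LD3_c43)) :=
  Lgr Lrot57 (Lpe (f101681 IH) (Lpe (K4.f40090 IH) (Lpr_gt (K4.f99583 IH) (Lpr_dt (f99590 IH) (Lpr_gt (f137959 IH) (Lpr_dt (K2.f56748 IH) (Lpe (f56574 IH) (Lpe (f59475 IH) (Lpe (f73273 IH) (Lpn (LP (LK LD1_c2 LD2_c49 LD3_c43))))))))))))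
theorem f139414 : Led Lsl_af (LP (LK LD1_c1 LD2_c56 LD3_c24)) = (LP (LK LD1_c2 LD2_c49 LD3_c43)) :=
  Lgr Lrot117 (Lpr_dt (f37819 IH) (Lpr_at (f139408 IH) (Lpr_dt (f137963 IH) (Lpn (LP (LK LD1_c2 LD2_c49 LD3_c43))))))
theorem f59886 : Led Lsl_ct (LP (LK LD1_c1 LD2_c56 LD3_c24)) = (LP (LK LD1_c3 LD2_c59 LD3_c24)) :=
  Lre_c IH (LK LD1_c1 LD2_c56 LD3_c24) (LK LD1_c3 LD2_c59 LD3_c24) Lrfl Lrfl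
theorem f74181 : Led Lsl_ct (LP (LK LD1_c5 LD2_c47 LD3_c29)) = (LP (LK LD1_c2 LD2_c49 LD3_c43)) :=
  Lre_c IH (LK LD1_c5 LD2_c47 LD3_c29) (LK LD1_c2 LD2_c49 LD3_c43) Lrfl Lrfl
theorem f139418 : Led Lsl_at (LP (LK LD1_c3 LD2_c59 LD3_c24)) = (LP (LK LD1_c5 LD2_c47 LD3_c29)) :=
  Lgr Lrot107 (Lpe (f59886 IH) (Lpr_af (f139414 IH) (Lpe (f74181 IH) (Lpn (LP (LK LD1_c5 LD2_c47 LD3_c29))))))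
theorem f38507 : Led Lsl_bt (LP (LK LD1_c1 LD2_c2 LD3_c8)) = (LP (LK LD1_c0 LD2_c28 LD3_c22)) :=
  Lre_b IH (LK LD1_c1 LD2_c2 LD3_c8) (LK LD1_c0 LD2_c28 LD3_c22) Lrfl Lrfl
theorem f59544 : Led Lsl_ct (LP (LK LD1_c3 LD2_c3 LD3_c26)) = (LP (LK LD1_c1 LD2_c27 LD3_c37)) :=
  Lre_c IH (LK LD1_c3 LD2_c3 LD3_c26) (LK LD1_c1 LD2_c27 LD3_c37) Lrfl Lrfl
theorem f138745 : Led Lsl_gf (LP (LK LD1_c3 LD2_c3 LD3_c26)) = (LP (LK LD1_c2 LD2_c53 LD3_c11)) :=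
  Lgr Lrot181 (Lpr_ct (f59544 IH) (Lpr_gt (f59538 IH) (Lpe (f69322 IH) (Lpr_bt (f69361 IH) (Lpe (K2.f69355 IH) (Lpe (f38507 IH) (Lpr_ct (K5.f37992 IH) (Lpr_gt (f35441 IH) (Lpe (f35996 IH) (Lpr_bt (f138741 IH) (Lpn (LP (LK LD1_c2 LD2_c53 LD3_c11)))))))))))))
theorem f29490 : Led Lsl_bt (LP (LK LD1_c0 LD2_c25 LD3_c7)) = (LP (LK LD1_c0 LD2_c55 LD3_c24)) :=
  Lre_b IH (LK LD1_c0 LD2_c25 LD3_c7) (LK LD1_c0 LD2_c55 LD3_c24) Lrfl Lrfl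
theorem f29498 : Led Lsl_gt (LP (LK LD1_c0 LD2_c55 LD3_c24)) = (LP (LK LD1_c1 LD2_c57 LD3_c8)) :=
  Lre_g IH (LK LD1_c0 LD2_c55 LD3_c24) (LK LD1_c1 LD2_c57 LD3_c8) Lrfl Lrfl
theorem f69362 : Led Lsl_bf (LP (LK LD1_c1 LD2_c57 LD3_c8)) = (LP (LK LD1_c3 LD2_c3 LD3_c26)) :=
  Lgr Lrot34 (Lpe (f29498 IH) (Lpe (f29490 IH) (Lpr_ct (K1.f29311 IH) (Lpe (K1.f29559 IH) (Lpe (K2.f37994 IH) (Lpr_gf (K2.f69355 IH) (Lpe (f69361 IH) (Lpr_ct (f69322 IH) (Lpe (f59538 IH) (Lpe (f59544 IH) (Lpn (LP (LK LD1_c3 LD2_c3 LD3_c26)))))))))))))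
theorem f69419 : Led Lsl_bt (LP (LK LD1_c1 LD2_c57 LD3_c8)) = (LP (LK LD1_c3 LD2_c3 LD3_c26)) :=
  Lgr Lrot127 (Lpr_bf (f69362 IH) (Lpn (LP (LK LD1_c3 LD2_c3 LD3_c26))))
theorem f29501 : Led Lsl_ct (LP (LK LD1_c1 LD2_c57 LD3_c8)) = (LP (LK LD1_c4 LD2_c0 LD3_c41)) :=
  Lre_c IH (LK LD1_c1 LD2_c57 LD3_c8) (LK LD1_c4 LD2_c0 LD3_c41) Lrfl Lrfl
theorem f69483 : Led Lsl_gt (LP (LK LD1_c4 LD2_c0 LD3_c41)) = (LP (LK LD1_c8 LD2_c2 LD3_c11)) :=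
  Lre_g IH (LK LD1_c4 LD2_c0 LD3_c41) (LK LD1_c8 LD2_c2 LD3_c11) Lrfl Lrfl
theorem f38535 : Led Lsl_bt (LP (LK LD1_c4 LD2_c25 LD3_c16)) = (LP (LK LD1_c2 LD2_c10 LD3_c3)) :=
  Lre_b IH (LK LD1_c4 LD2_c25 LD3_c16) (LK LD1_c2 LD2_c10 LD3_c3) Lrfl Lrfl
theorem f138747 : Led Lsl_cf (LP (LK LD1_c8 LD2_c2 LD3_c11)) = (LP (LK LD1_c4 LD2_c25 LD3_c16)) :=
  Lgr Lrot58 (Lpe (f69483 IH) (Lpe (f29501 IH) (Lpr_bt (f69419 IH) (Lpr_gf (f138745 IH) (Lpe (f138741 IH) (Lpr_ct (f35996 IH) (Lpe (f35441 IH) (Lpe (K5.f37992 IH) (Lpe (f38528 IH) (Lpe (f38535 IH) (Lpn (LP (LK LD1_c4 LD2_c25 LD3_c16)))))))))))))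
theorem f138752 : Led Lsl_ct (LP (LK LD1_c8 LD2_c2 LD3_c11)) = (LP (LK LD1_c4 LD2_c25 LD3_c16)) :=
  Lgr Lrot59 (Lpr_cf (f138747 IH) (Lpn (LP (LK LD1_c4 LD2_c25 LD3_c16))))
theorem f38534 : Led Lsl_ct (LP (LK LD1_c2 LD2_c10 LD3_c3)) = (LP (LK LD1_c4 LD2_c25 LD3_c17)) :=
  Lre_c IH (LK LD1_c2 LD2_c10 LD3_c3) (LK LD1_c4 LD2_c25 LD3_c17) Lrfl Lrfl
theorem f37050 : Led Lsl_ct (LP (LK LD1_c3 LD2_c57 LD3_c46)) = (LP (LK LD1_c7 LD2_c56 LD3_c56)) :=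
  Lre_c IH (LK LD1_c3 LD2_c57 LD3_c46) (LK LD1_c7 LD2_c56 LD3_c56) Lrfl Lrfl
theorem f138773 : Led Lsl_bf (LP (LK LD1_c8 LD2_c2 LD3_c11)) = (LP (LK LD1_c7 LD2_c56 LD3_c56)) :=
  Lgr Lrot90 (Lpr_ct (f138752 IH) (Lpr_bt (f38535 IH) (Lpr_ct (f38534 IH) (Lpr_bt (f38530 IH) (Lpr_ct (f37050 IH) (Lpn (LP (LK LD1_c7 LD2_c56 LD3_c56))))))))
theorem f59554 : Led Lsl_ct (LP (LK LD1_c1 LD2_c27 LD3_c37)) = (LP (LK LD1_c3 LD2_c3 LD3_c26)) :=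
  Lre_c IH (LK LD1_c1 LD2_c27 LD3_c37) (LK LD1_c3 LD2_c3 LD3_c26) Lrfl Lrfl
theorem f59539 : Led Lsl_bt (LP (LK LD1_c3 LD2_c3 LD3_c25)) = (LP (LK LD1_c1 LD2_c27 LD3_c37)) :=
  Lre_b IH (LK LD1_c3 LD2_c3 LD3_c25) (LK LD1_c1 LD2_c27 LD3_c37) Lrfl Lrfl
theorem f37919 : Led Lsl_bt (LP (LK LD1_c0 LD2_c7 LD3_c38)) = (LP (LK LD1_c0 LD2_c17 LD3_c8)) :=
  Lre_b IH (LK LD1_c0 LD2_c7 LD3_c38) (LK LD1_c0 LD2_c17 LD3_c8) Lrfl Lrfl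
theorem f37936 : Led Lsl_gt (LP (LK LD1_c0 LD2_c17 LD3_c8)) = (LP (LK LD1_c0 LD2_c38 LD3_c27)) :=
  Lre_g IH (LK LD1_c0 LD2_c17 LD3_c8) (LK LD1_c0 LD2_c38 LD3_c27) Lrfl Lrfl
theorem f59536 : Led Lsl_ct (LP (LK LD1_c0 LD2_c38 LD3_c27)) = (LP (LK LD1_c1 LD2_c23 LD3_c1)) :=
  Lre_c IH (LK LD1_c0 LD2_c38 LD3_c27) (LK LD1_c1 LD2_c23 LD3_c1) Lrfl Lrfl
theorem f59537 : Led Lsl_gt (LP (LK LD1_c1 LD2_c23 LD3_c1)) = (LP (LK LD1_c2 LD2_c54 LD3_c5)) :=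
  Lre_g IH (LK LD1_c1 LD2_c23 LD3_c1) (LK LD1_c2 LD2_c54 LD3_c5) Lrfl Lrfl
theorem f59540 : Led Lsl_cf (LP (LK LD1_c2 LD2_c54 LD3_c5)) = (LP (LK LD1_c3 LD2_c3 LD3_c25)) :=
  Lgr Lrot163 (Lpe (f59537 IH) (Lpe (f59536 IH) (Lpe (f37936 IH) (Lpe (f37919 IH) (Lpe (K1.f37923 IH) (Lpr_gf (K1.f59515 IH) (Lpe (K1.f58956 IH) (Lpr_bt (K4.f36620 IH) (Lpe (f59538 IH) (Lpe (f59539 IH) (Lpn (LP (LK LD1_c3 LD2_c3 LD3_c25)))))))))))))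
theorem f59545 : Led Lsl_ct (LP (LK LD1_c2 LD2_c54 LD3_c5)) = (LP (LK LD1_c3 LD2_c3 LD3_c25)) :=
  Lgr Lrot59 (Lpr_cf (f59540 IH) (Lpn (LP (LK LD1_c3 LD2_c3 LD3_c25))))
theorem f69421 : Led Lsl_bt (LP (LK LD1_c4 LD2_c0 LD3_c41)) = (LP (LK LD1_c2 LD2_c54 LD3_c5)) :=
  Lgr Lrot128 (Lpe (f29501 IH) (Lpr_bf (f69362 IH) (Lpe (f59554 IH) (Lpe (f59539 IH) (Lpe (f59545 IH) (Lpn (LP (LK LD1_c2 LD2_c54 LD3_c5))))))))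
theorem f69432 : Led Lsl_bf (LP (LK LD1_c4 LD2_c0 LD3_c41)) = (LP (LK LD1_c2 LD2_c54 LD3_c5)) :=
  Lgr Lrot24 (Lpr_bt (f69421 IH) (Lpn (LP (LK LD1_c2 LD2_c54 LD3_c5))))
theorem f37080 : Led Lsl_ct (LP (LK LD1_c7 LD2_c56 LD3_c56)) = (LP (LK LD1_c3 LD2_c57 LD3_c46)) :=
  Lre_c IH (LK LD1_c7 LD2_c56 LD3_c56) (LK LD1_c3 LD2_c57 LD3_c46) Lrfl Lrfl
theorem f34880 : Led Lsl_gt (LP (LK LD1_c2 LD2_c9 LD3_c45)) = (LP (LK LD1_c1 LD2_c1 LD3_c60)) :=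
  Lre_g IH (LK LD1_c2 LD2_c9 LD3_c45) (LK LD1_c1 LD2_c1 LD3_c60) Lrfl Lrfl
theorem f71936 : Led Lsl_gt (LP (LK LD1_c1 LD2_c23 LD3_c7)) = (LP (LK LD1_c2 LD2_c9 LD3_c45)) :=
  Lgr Lrot5 (Lpr_ft (K2.f71925 IH) (Lpr_at (K2.f35227 IH) (Lpe (f34880 IH) (Lpn (LP (LK LD1_c2 LD2_c9 LD3_c45))))))
theorem f20405 : Led Lsl_gt (LP (LK LD1_c0 LD2_c29 LD3_c27)) = (LP (LK LD1_c1 LD2_c4 LD3_c20)) :=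
  Lre_g IH (LK LD1_c0 LD2_c29 LD3_c27) (LK LD1_c1 LD2_c4 LD3_c20) Lrfl Lrfl
theorem f35235 : Led Lsl_bt (LP (LK LD1_c2 LD2_c14 LD3_c27)) = (LP (LK LD1_c1 LD2_c4 LD3_c20)) :=
  Lre_b IH (LK LD1_c2 LD2_c14 LD3_c27) (LK LD1_c1 LD2_c4 LD3_c20) Lrfl Lrfl
theorem f35236 : Led Lsl_ct (LP (LK LD1_c2 LD2_c14 LD3_c27)) = (LP (LK LD1_c2 LD2_c9 LD3_c45)) :=
  Lgr Lrot64 (Lpr_bt (f35235 IH) (Lpe (f20405 IH) (Lpe (K2.f20298 IH) (Lpr_ct (K2.f20299 IH) (Lpe (K0.f9400 IH) (Lpe (K2.f21207 IH) (Lpe (K0.f25181 IH) (Lpe (K2.f26599 IH) (Lpr_ct (K2.f35209 IH) (Lpe (f34880 IH) (Lpn (LP (LK LD1_c2 LD2_c9 LD3_c45)))))))))))))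
theorem f35241 : Led Lsl_cf (LP (LK LD1_c2 LD2_c14 LD3_c27)) = (LP (LK LD1_c2 LD2_c9 LD3_c45)) :=
  Lgr Lrot11 (Lpr_ct (f35236 IH) (Lpn (LP (LK LD1_c2 LD2_c9 LD3_c45))))
theorem f138778 : Led Lsl_gf (LP (LK LD1_c3 LD2_c3 LD3_c25)) = (LP (LK LD1_c2 LD2_c14 LD3_c27)) :=
  Lgr Lrot129 (Lpe (f59545 IH) (Lpe (f69432 IH) (Lpr_gt (f69483 IH) (Lpr_bf (f138773 IH) (Lpr_ct (f37080 IH) (Lpe (f38573 IH) (Lpr_cf (K4.f72093 IH) (Lpe (K2.f71930 IH) (Lpr_gt (f71936 IH) (Lpe (f35241 IH) (Lpn (LP (LK LD1_c2 LD2_c14 LD3_c27)))))))))))))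
theorem f137979 : Led Lsl_df (LP (LK LD1_c1 LD2_c27 LD3_c37)) = (LP (LK LD1_c2 LD2_c49 LD3_c43)) :=
  Lgr Lrot38 (Lpr_dt (f137963 IH) (Lpn (LP (LK LD1_c2 LD2_c49 LD3_c43))))
theorem f59543 : Led Lsl_bt (LP (LK LD1_c1 LD2_c27 LD3_c37)) = (LP (LK LD1_c3 LD2_c3 LD3_c25)) :=
  Lre_b IH (LK LD1_c1 LD2_c27 LD3_c37) (LK LD1_c3 LD2_c3 LD3_c25) Lrfl Lrfl
theorem f74183 : Led Lsl_bt (LP (LK LD1_c5 LD2_c47 LD3_c28)) = (LP (LK LD1_c2 LD2_c49 LD3_c43)) :=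
  Lre_b IH (LK LD1_c5 LD2_c47 LD3_c28) (LK LD1_c2 LD2_c49 LD3_c43) Lrfl Lrfl
theorem f137999 : Led Lsl_dt (LP (LK LD1_c3 LD2_c3 LD3_c25)) = (LP (LK LD1_c5 LD2_c47 LD3_c28)) :=
  Lgr Lrot79 (Lpe (f59543 IH) (Lpr_df (f137979 IH) (Lpe (f74183 IH) (Lpn (LP (LK LD1_c5 LD2_c47 LD3_c28))))))
theorem f138780 : Led Lsl_gt (LP (LK LD1_c5 LD2_c47 LD3_c28)) = (LP (LK LD1_c5 LD2_c51 LD3_c7)) :=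
  Lgr Lrot49 (Lpe (f137999 IH) (Lpr_gf (f138778 IH) (Lpr_cf (f35241 IH) (Lpr_gt (f34880 IH) (Lpr_dt (K2.f34845 IH) (Lpr_gt (K4.f112440 IH) (Lpr_dt (K4.f79076 IH) (Lpe (K4.f79087 IH) (Lpr_df (K4.f117508 IH) (Lpn (LP (LK LD1_c5 LD2_c51 LD3_c7))))))))))))
theorem f137976 : Led Lsl_bt (LP (LK LD1_c2 LD2_c49 LD3_c43)) = (LP (LK LD1_c5 LD2_c47 LD3_c28)) :=
  Lre_b IH (LK LD1_c2 LD2_c49 LD3_c43) (LK LD1_c5 LD2_c47 LD3_c28) Lrfl Lrfl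
theorem f74178 : Led Lsl_ct (LP (LK LD1_c2 LD2_c49 LD3_c43)) = (LP (LK LD1_c5 LD2_c47 LD3_c29)) :=
  Lre_c IH (LK LD1_c2 LD2_c49 LD3_c43) (LK LD1_c5 LD2_c47 LD3_c29) Lrfl Lrfl
theorem f83008 : Led Lsl_at (LP (LK LD1_c1 LD2_c23 LD3_c16)) = (LP (LK LD1_c2 LD2_c54 LD3_c17)) :=
  Lre_a IH (LK LD1_c1 LD2_c23 LD3_c16) (LK LD1_c2 LD2_c54 LD3_c17) Lrfl Lrfl
theorem f83015 : Led Lsl_gf (LP (LK LD1_c2 LD2_c54 LD3_c17)) = (LP (LK LD1_c4 LD2_c35 LD3_c26)) :=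
  Lgr Lrot76 (Lpe (f83008 IH) (Lpr_ff (K4.f83002 IH) (Lpr_gt (K4.f27162 IH) (Lpn (LP (LK LD1_c4 LD2_c35 LD3_c26))))))
theorem f71842 : Led Lsl_ct (LP (LK LD1_c1 LD2_c23 LD3_c8)) = (LP (LK LD1_c2 LD2_c54 LD3_c17)) :=
  Lre_c IH (LK LD1_c1 LD2_c23 LD3_c8) (LK LD1_c2 LD2_c54 LD3_c17) Lrfl Lrfl
theorem f59465 : Led Lsl_bt (LP (LK LD1_c2 LD2_c53 LD3_c39)) = (LP (LK LD1_c1 LD2_c22 LD3_c52)) :=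
  Lre_b IH (LK LD1_c2 LD2_c53 LD3_c39) (LK LD1_c1 LD2_c22 LD3_c52) Lrfl Lrfl
theorem f59466 : Led Lsl_ct (LP (LK LD1_c2 LD2_c53 LD3_c39)) = (LP (LK LD1_c5 LD2_c54 LD3_c32)) :=
  Lre_c IH (LK LD1_c2 LD2_c53 LD3_c39) (LK LD1_c5 LD2_c54 LD3_c32) Lrfl Lrfl
theorem f138819 : Led Lsl_gf (LP (LK LD1_c5 LD2_c47 LD3_c29)) = (LP (LK LD1_c5 LD2_c54 LD3_c32)) :=
  Lgr Lrot126 (Lpe (f74178 IH) (Lpr_bt (f137976 IH) (Lpr_gt (f138780 IH) (Lpe (K4.f117501 IH) (Lpe (f83015 IH) (Lpe (f71842 IH) (Lpe (K2.f71321 IH) (Lpr_gt (f71136 IH) (Lpe (f59465 IH) (Lpr_ct (f59466 IH) (Lpn (LP (LK LD1_c5 LD2_c54 LD3_c32)))))))))))))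
theorem f59468 : Led Lsl_gf (LP (LK LD1_c5 LD2_c54 LD3_c32)) = (LP (LK LD1_c5 LD2_c47 LD3_c26)) :=
  Lgr Lrot129 (Lpe (f59466 IH) (Lpr_bt (f59465 IH) (Lpr_gt (f59464 IH) (Lpe (K2.f59463 IH) (Lpr_ct (K1.f37947 IH) (Lpr_gt (K1.f59453 IH) (Lpe (K1.f59424 IH) (Lpr_bt (K4.f59443 IH) (Lpr_gt (K4.f59455 IH) (Lpr_ct (K4.f59467 IH) (Lpn (LP (LK LD1_c5 LD2_c47 LD3_c26)))))))))))))
theorem f139436 : Led Lsl_ff (LP (LK LD1_c3 LD2_c59 LD3_c24)) = (LP (LK LD1_c5 LD2_c47 LD3_c26)) :=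
  Lgr Lrot52 (Lpr_at (f139418 IH) (Lpr_gf (f138819 IH) (Lpr_gf (f59468 IH) (Lpn (LP (LK LD1_c5 LD2_c47 LD3_c26))))))
theorem f139442 : Led Lsl_ft (LP (LK LD1_c3 LD2_c59 LD3_c24)) = (LP (LK LD1_c5 LD2_c47 LD3_c26)) :=
  Lgr Lrot48 (Lpr_ff (f139436 IH) (Lpn (LP (LK LD1_c5 LD2_c47 LD3_c26))))
theorem f139432 : Led Lsl_bt (LP (LK LD1_c8 LD2_c0 LD3_c1)) = (LP (LK LD1_c3 LD2_c59 LD3_c24)) :=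
  Lre_b IH (LK LD1_c8 LD2_c0 LD3_c1) (LK LD1_c3 LD2_c59 LD3_c24) Lrfl Lrfl
theorem f139444 : Led Lsl_ff (LP (LK LD1_c8 LD2_c0 LD3_c1)) = (LP (LK LD1_c5 LD2_c54 LD3_c47)) :=
  Lgr Lrot25 (Lpr_bt (f139432 IH) (Lpr_ft (f139442 IH) (Lpr_bt (K4.f99495 IH) (Lpn (LP (LK LD1_c5 LD2_c54 LD3_c47))))))
theorem f22771 : Led Lsl_gt (LP (LK LD1_c2 LD2_c53 LD3_c44)) = (LP (LK LD1_c5 LD2_c54 LD3_c46)) :=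
  Lre_g IH (LK LD1_c2 LD2_c53 LD3_c44) (LK LD1_c5 LD2_c54 LD3_c46) Lrfl Lrfl
theorem f139448 : Led Lsl_at (LP (LK LD1_c8 LD2_c0 LD3_c1)) = (LP (LK LD1_c5 LD2_c54 LD3_c46)) :=
  Lgr Lrot26 (Lpr_ff (f139444 IH) (Lpr_gt (K4.f22464 IH) (Lpr_gt (f22771 IH) (Lpn (LP (LK LD1_c5 LD2_c54 LD3_c46))))))
theorem f139450 : Led Lsl_af (LP (LK LD1_c8 LD2_c0 LD3_c1)) = (LP (LK LD1_c5 LD2_c54 LD3_c46)) :=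
  Lgr Lrot0 (Lpr_at (f139448 IH) (Lpn (LP (LK LD1_c5 LD2_c54 LD3_c46))))
theorem f59892 : Led Lsl_at (LP (LK LD1_c9 LD2_c8 LD3_c14)) = (LP (LK LD1_c4 LD2_c36 LD3_c16)) :=
  Lre_a IH (LK LD1_c9 LD2_c8 LD3_c14) (LK LD1_c4 LD2_c36 LD3_c16) Lrfl Lrfl
theorem f23031 : Led Lsl_ct (LP (LK LD1_c2 LD2_c15 LD3_c18)) = (LP (LK LD1_c1 LD2_c4 LD3_c44)) :=
  Lre_c IH (LK LD1_c2 LD2_c15 LD3_c18) (LK LD1_c1 LD2_c4 LD3_c44) Lrfl Lrfl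
theorem f23032 : Led Lsl_dt (LP (LK LD1_c4 LD2_c36 LD3_c16)) = (LP (LK LD1_c2 LD2_c15 LD3_c18)) :=
  Lre_d IH (LK LD1_c4 LD2_c36 LD3_c16) (LK LD1_c2 LD2_c15 LD3_c18) Lrfl Lrfl
theorem f59796 : Led Lsl_ct (LP (LK LD1_c0 LD2_c16 LD3_c37)) = (LP (LK LD1_c0 LD2_c7 LD3_c25)) :=
  Lre_c IH (LK LD1_c0 LD2_c16 LD3_c37) (LK LD1_c0 LD2_c7 LD3_c25) Lrfl Lrfl
theorem f59885 : Led Lsl_dt (LP (LK LD1_c0 LD2_c54 LD3_c61)) = (LP (LK LD1_c1 LD2_c56 LD3_c24)) :=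
  Lre_d IH (LK LD1_c0 LD2_c54 LD3_c61) (LK LD1_c1 LD2_c56 LD3_c24) Lrfl Lrfl
theorem f59887 : Led Lsl_bt (LP (LK LD1_c3 LD2_c59 LD3_c24)) = (LP (LK LD1_c8 LD2_c0 LD3_c1)) :=
  Lre_b IH (LK LD1_c3 LD2_c59 LD3_c24) (LK LD1_c8 LD2_c0 LD3_c1) Lrfl Lrfl
theorem f59888 : Led Lsl_gf (LP (LK LD1_c4 LD2_c36 LD3_c16)) = (LP (LK LD1_c8 LD2_c0 LD3_c1)) :=
  Lgr Lrot85 (Lpr_dt (f23032 IH) (Lpr_ct (f23031 IH) (Lpr_bt (K2.f23020 IH) (Lpe (K1.f23007 IH) (Lpr_dt (K1.f59817 IH) (Lpr_ct (f59796 IH) (Lpr_bt (K1.f59723 IH) (Lpr_gt (K1.f59252 IH) (Lpr_dt (K1.f36292 IH) (Lpr_ct (K1.f36306 IH) (Lpr_bt (K1.f36288 IH) (Lpr_gt (K1.f36286 IH) (Lpr_dt (K0.f6781 IH) (Lpr_ct (K0.f35517 IH) (Lpr_bt (K5.f37758 IH) (Lpr_gt (f37771 IH) (Lpr_dt (f59885 IH) (Lpr_ct (f59886 IH) (Lpr_bt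 (f59887 IH) (Lpn (LP (LK LD1_c8 LD2_c0 LD3_c1))))))))))))))))))))))
theorem f71170 : Led Lsl_gf (LP (LK LD1_c8 LD2_c0 LD3_c1)) = (LP (LK LD1_c5 LD2_c53 LD3_c56)) :=
  Lgr Lrot47 (Lpe (f59888 IH) (Lpe (f59892 IH) (Lpr_ff (K4.f71158 IH) (Lpn (LP (LK LD1_c5 LD2_c53 LD3_c56))))))
theorem f71165 : Led Lsl_at (LP (LK LD1_c2 LD2_c53 LD3_c44)) = (LP (LK LD1_c5 LD2_c53 LD3_c56)) :=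
  Lre_a IH (LK LD1_c2 LD2_c53 LD3_c44) (LK LD1_c5 LD2_c53 LD3_c56) Lrfl Lrfl
theorem f71166 : Led Lsl_ft (LP (LK LD1_c4 LD2_c36 LD3_c16)) = (LP (LK LD1_c2 LD2_c53 LD3_c44)) :=
  Lgr Lrot101 (Lpe (f59892 IH) (Lpr_ff (K4.f71158 IH) (Lpe (f71165 IH) (Lpn (LP (LK LD1_c2 LD2_c53 LD3_c44))))))
theorem f59893 : Led Lsl_gt (LP (LK LD1_c4 LD2_c36 LD3_c16)) = (LP (LK LD1_c9 LD2_c8 LD3_c41)) :=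
  Lre_g IH (LK LD1_c4 LD2_c36 LD3_c16) (LK LD1_c9 LD2_c8 LD3_c41) Lrfl Lrfl
theorem f71179 : Led Lsl_gt (LP (LK LD1_c9 LD2_c8 LD3_c41)) = (LP (LK LD1_c5 LD2_c53 LD3_c56)) :=
  Lgr Lrot46 (Lpe (f59893 IH) (Lpr_ft (f71166 IH) (Lpr_at (f71165 IH) (Lpn (LP (LK LD1_c5 LD2_c53 LD3_c56))))))
theorem f139458 : Led Lsl_ft (LP (LK LD1_c9 LD2_c8 LD3_c41)) = (LP (LK LD1_c5 LD2_c54 LD3_c46)) :=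
  Lgr Lrot2 (Lpr_gt (f71179 IH) (Lpe (f71170 IH) (Lpr_af (f139450 IH) (Lpn (LP (LK LD1_c5 LD2_c54 LD3_c46))))))
theorem f139462 : Led Lsl_ff (LP (LK LD1_c9 LD2_c8 LD3_c41)) = (LP (LK LD1_c5 LD2_c54 LD3_c46)) :=
  Lgr Lrot3 (Lpr_ft (f139458 IH) (Lpn (LP (LK LD1_c5 LD2_c54 LD3_c46))))
theorem f139464 : Led Lsl_at (LP (LK LD1_c9 LD2_c8 LD3_c41)) = (LP (LK LD1_c5 LD2_c54 LD3_c47)) :=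
  Lgr Lrot66 (Lpr_ff (f139462 IH) (Lpe (f139448 IH) (Lpr_ff (f139444 IH) (Lpn (LP (LK LD1_c5 LD2_c54 LD3_c47))))))
theorem f74523 : Led Lsl_bt (LP (LK LD1_c4 LD2_c40 LD3_c35)) = (LP (LK LD1_c9 LD2_c16 LD3_c31)) :=
  Lre_b IH (LK LD1_c4 LD2_c40 LD3_c35) (LK LD1_c9 LD2_c16 LD3_c31) Lrfl Lrfl
theorem f74524 : Led Lsl_dt (LP (LK LD1_c9 LD2_c16 LD3_c31)) = (LP (LK LD1_c5 LD2_c54 LD3_c4)) :=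
  Lgr Lrot79 (Lpe (f74523 IH) (Lpr_df (K2.f74504 IH) (Lpe (f69353 IH) (Lpn (LP (LK LD1_c5 LD2_c54 LD3_c4))))))
theorem f76305 : Led Lsl_df (LP (LK LD1_c9 LD2_c16 LD3_c31)) = (LP (LK LD1_c5 LD2_c54 LD3_c4)) :=
  Lgr Lrot38 (Lpr_dt (f74524 IH) (Lpn (LP (LK LD1_c5 LD2_c54 LD3_c4))))
theorem f76361 : Led Lsl_dt (LP (LK LD1_c5 LD2_c54 LD3_c3)) = (LP (LK LD1_c2 LD2_c53 LD3_c24)) :=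
  Lre_d IH (LK LD1_c5 LD2_c54 LD3_c3) (LK LD1_c2 LD2_c53 LD3_c24) Lrfl Lrfl
theorem f69133 : Led Lsl_ct (LP (LK LD1_c2 LD2_c56 LD3_c61)) = (LP (LK LD1_c5 LD2_c54 LD3_c3)) :=
  Lre_c IH (LK LD1_c2 LD2_c56 LD3_c61) (LK LD1_c5 LD2_c54 LD3_c3) Lrfl Lrfl
theorem f139469 : Led Lsl_df (LP (LK LD1_c2 LD2_c56 LD3_c61)) = (LP (LK LD1_c5 LD2_c54 LD3_c46)) :=
  Lgr Lrot157 (Lpr_ct (f69133 IH) (Lpr_dt (f76361 IH) (Lpr_ct (K4.f71025 IH) (Lpr_dt (f69348 IH) (Lpr_ct (f69349 IH) (Lpe (f76305 IH) (Lpr_ct (K4.f99472 IH) (Lpe (f139464 IH) (Lpr_ff (f139462 IH) (Lpn (LP (LK LD1_c5 LD2_c54 LD3_c46))))))))))))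
theorem f139473 : Led Lsl_dt (LP (LK LD1_c2 LD2_c56 LD3_c61)) = (LP (LK LD1_c5 LD2_c54 LD3_c46)) :=
  Lgr Lrot42 (Lpr_df (f139469 IH) (Lpn (LP (LK LD1_c5 LD2_c54 LD3_c46))))
theorem f139467 : Led Lsl_gf (LP (LK LD1_c9 LD2_c8 LD3_c14)) = (LP (LK LD1_c5 LD2_c54 LD3_c46)) :=
  Lgr Lrot47 (Lpr_gt (K4.f71174 IH) (Lpe (f139464 IH) (Lpr_ff (f139462 IH) (Lpn (LP (LK LD1_c5 LD2_c54 LD3_c46))))))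
theorem f71206 : Led Lsl_gf (LP (LK LD1_c1 LD2_c4 LD3_c42)) = (LP (LK LD1_c0 LD2_c38 LD3_c18)) :=
  Lgr Lrot76 (Lpe (K2.f71192 IH) (Lpr_ff (K2.f71193 IH) (Lpr_gt (K2.f37955 IH) (Lpn (LP (LK LD1_c0 LD2_c38 LD3_c18))))))
theorem f139481 : Led Lsl_gt (LP (LK LD1_c0 LD2_c38 LD3_c53)) = (LP (LK LD1_c1 LD2_c22 LD3_c39)) :=
  Lgr Lrot94 (Lpe (f26505 IH) (Lpr_gt (K4.f69011 IH) (Lpr_dt (f139473 IH) (Lpe (f139467 IH) (Lpr_dt (K2.f70861 IH) (Lpe (K2.f70888 IH) (Lpe (K2.f71023 IH) (Lpr_gf (f71206 IH) (Lpe (f71209 IH) (Lpn (LP (LK LD1_c1 LD2_c22 LD3_c39))))))))))))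
theorem f26487 : Led Lsl_gt (LP (LK LD1_c2 LD2_c57 LD3_c0)) = (LP (LK LD1_c1 LD2_c24 LD3_c16)) :=
  Lre_g IH (LK LD1_c2 LD2_c57 LD3_c0) (LK LD1_c1 LD2_c24 LD3_c16) Lrfl Lrfl
theorem f26510 : Led Lsl_bt (LP (LK LD1_c6 LD2_c1 LD3_c48)) = (LP (LK LD1_c2 LD2_c57 LD3_c0)) :=
  Lre_b IH (LK LD1_c6 LD2_c1 LD3_c48) (LK LD1_c2 LD2_c57 LD3_c0) Lrfl Lrfl
theorem f26480 : Led Lsl_bt (LP (LK LD1_c0 LD2_c16 LD3_c53)) = (LP (LK LD1_c0 LD2_c37 LD3_c49)) :=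
  Lre_b IH (LK LD1_c0 LD2_c16 LD3_c53) (LK LD1_c0 LD2_c37 LD3_c49) Lrfl Lrfl
theorem f26488 : Led Lsl_gt (LP (LK LD1_c0 LD2_c37 LD3_c49)) = (LP (LK LD1_c1 LD2_c21 LD3_c42)) :=
  Lre_g IH (LK LD1_c0 LD2_c37 LD3_c49) (LK LD1_c1 LD2_c21 LD3_c42) Lrfl Lrfl
theorem f26489 : Led Lsl_bt (LP (LK LD1_c2 LD2_c51 LD3_c15)) = (LP (LK LD1_c1 LD2_c21 LD3_c42)) :=
  Lre_b IH (LK LD1_c2 LD2_c51 LD3_c15) (LK LD1_c1 LD2_c21 LD3_c42) Lrfl Lrfl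
theorem f26490 : Led Lsl_cf (LP (LK LD1_c2 LD2_c57 LD3_c0)) = (LP (LK LD1_c2 LD2_c51 LD3_c15)) :=
  Lgr Lrot160 (Lpr_gt (f26487 IH) (Lpe (K4.f26486 IH) (Lpr_bt (f26485 IH) (Lpr_gt (K1.f20554 IH) (Lpr_ct (K1.f22835 IH) (Lpr_gt (K0.f24598 IH) (Lpr_cf (K0.f26459 IH) (Lpr_bt (f26480 IH) (Lpr_gt (f26488 IH) (Lpe (f26489 IH) (Lpn (LP (LK LD1_c2 LD2_c51 LD3_c15)))))))))))))
theorem f26494 : Led Lsl_bt (LP (LK LD1_c2 LD2_c57 LD3_c0)) = (LP (LK LD1_c6 LD2_c1 LD3_c48)) :=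
  Lre_b IH (LK LD1_c2 LD2_c57 LD3_c0) (LK LD1_c6 LD2_c1 LD3_c48) Lrfl Lrfl
theorem f26495 : Led Lsl_bt (LP (LK LD1_c1 LD2_c21 LD3_c42)) = (LP (LK LD1_c2 LD2_c51 LD3_c15)) :=
  Lre_b IH (LK LD1_c1 LD2_c21 LD3_c42) (LK LD1_c2 LD2_c51 LD3_c15) Lrfl Lrfl
theorem f26496 : Led Lsl_ct (LP (LK LD1_c2 LD2_c51 LD3_c16)) = (LP (LK LD1_c1 LD2_c21 LD3_c42)) :=
  Lre_c IH (LK LD1_c2 LD2_c51 LD3_c16) (LK LD1_c1 LD2_c21 LD3_c42) Lrfl Lrfl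
theorem f26497 : Led Lsl_bt (LP (LK LD1_c5 LD2_c50 LD3_c11)) = (LP (LK LD1_c2 LD2_c51 LD3_c16)) :=
  Lre_b IH (LK LD1_c5 LD2_c50 LD3_c11) (LK LD1_c2 LD2_c51 LD3_c16) Lrfl Lrfl
theorem f26498 : Led Lsl_ct (LP (LK LD1_c6 LD2_c1 LD3_c48)) = (LP (LK LD1_c5 LD2_c50 LD3_c11)) :=
  Lgr Lrot83 (Lpe (f26494 IH) (Lpr_cf (f26490 IH) (Lpe (f26495 IH) (Lpe (f26496 IH) (Lpe (f26497 IH) (Lpn (LP (LK LD1_c5 LD2_c50 LD3_c11))))))))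
theorem f14544 : Led Lsl_bt (LP (LK LD1_c3 LD2_c23 LD3_c37)) = (LP (LK LD1_c1 LD2_c38 LD3_c8)) :=
  Lre_b IH (LK LD1_c3 LD2_c23 LD3_c37) (LK LD1_c1 LD2_c38 LD3_c8) Lrfl Lrfl
theorem f139489 : Led Lsl_gf (LP (LK LD1_c5 LD2_c50 LD3_c11)) = (LP (LK LD1_c6 LD2_c50 LD3_c29)) :=
  Lgr Lrot126 (Lpe (f26498 IH) (Lpr_bt (f26510 IH) (Lpr_gt (f26487 IH) (Lpr_ct (f26505 IH) (Lpr_gt (f139481 IH) (Lpe (K5.f61846 IH) (Lpr_bt (K5.f61826 IH) (Lpr_gt (K2.f14580 IH) (Lpe (f14544 IH) (Lpr_ct (K4.f40352 IH) (Lpn (LP (LK LD1_c6 LD2_c50 LD3_c29)))))))))))))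
theorem f16678 : Led Lsl_at (LP (LK LD1_c4 LD2_c26 LD3_c18)) = (LP (LK LD1_c8 LD2_c50 LD3_c2)) :=
  Lre_a IH (LK LD1_c4 LD2_c26 LD3_c18) (LK LD1_c8 LD2_c50 LD3_c2) Lrfl Lrfl
theorem f40016 : Led Lsl_dt (LP (LK LD1_c8 LD2_c50 LD3_c3)) = (LP (LK LD1_c4 LD2_c26 LD3_c18)) :=
  Lre_d IH (LK LD1_c8 LD2_c50 LD3_c3) (LK LD1_c4 LD2_c26 LD3_c18) Lrfl Lrfl
theorem f40048 : Led Lsl_at (LP (LK LD1_c8 LD2_c0 LD3_c39)) = (LP (LK LD1_c8 LD2_c50 LD3_c3)) :=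
  Lgr Lrot51 (Lpr_df (K1.f40046 IH) (Lpe (f16678 IH) (Lpe (f40016 IH) (Lpn (LP (LK LD1_c8 LD2_c50 LD3_c3))))))
theorem f139496 : Led Lsl_gt (LP (LK LD1_c5 LD2_c50 LD3_c11)) = (LP (LK LD1_c8 LD2_c50 LD3_c3)) :=
  Lgr Lrot46 (Lpr_gf (f139489 IH) (Lpe (K2.f40349 IH) (Lpr_at (f40048 IH) (Lpn (LP (LK LD1_c8 LD2_c50 LD3_c3))))))
theorem f26511 : Led Lsl_bt (LP (LK LD1_c2 LD2_c51 LD3_c16)) = (LP (LK LD1_c5 LD2_c50 LD3_c11)) :=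
  Lre_b IH (LK LD1_c2 LD2_c51 LD3_c16) (LK LD1_c5 LD2_c50 LD3_c11) Lrfl Lrfl
theorem f26469 : Led Lsl_ct (LP (LK LD1_c1 LD2_c21 LD3_c44)) = (LP (LK LD1_c0 LD2_c37 LD3_c49)) :=
  Lre_c IH (LK LD1_c1 LD2_c21 LD3_c44) (LK LD1_c0 LD2_c37 LD3_c49) Lrfl Lrfl
theorem f36228 : Led Lsl_gt (LP (LK LD1_c2 LD2_c51 LD3_c20)) = (LP (LK LD1_c1 LD2_c21 LD3_c44)) :=
  Lre_g IH (LK LD1_c2 LD2_c51 LD3_c20) (LK LD1_c1 LD2_c21 LD3_c44) Lrfl Lrfl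
theorem f124076 : Led Lsl_bt (LP (LK LD1_c5 LD2_c50 LD3_c15)) = (LP (LK LD1_c2 LD2_c51 LD3_c20)) :=
  Lre_b IH (LK LD1_c5 LD2_c50 LD3_c15) (LK LD1_c2 LD2_c51 LD3_c20) Lrfl Lrfl
theorem f15596 : Led Lsl_bt (LP (LK LD1_c4 LD2_c26 LD3_c19)) = (LP (LK LD1_c8 LD2_c50 LD3_c3)) :=
  Lre_b IH (LK LD1_c4 LD2_c26 LD3_c19) (LK LD1_c8 LD2_c50 LD3_c3) Lrfl Lrfl
theorem f15585 : Led Lsl_ct (LP (LK LD1_c4 LD2_c26 LD3_c19)) = (LP (LK LD1_c3 LD2_c17 LD3_c48)) :=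
  Lre_c IH (LK LD1_c4 LD2_c26 LD3_c19) (LK LD1_c3 LD2_c17 LD3_c48) Lrfl Lrfl
theorem f15594 : Led Lsl_gt (LP (LK LD1_c3 LD2_c17 LD3_c48)) = (LP (LK LD1_c4 LD2_c38 LD3_c8)) :=
  Lre_g IH (LK LD1_c3 LD2_c17 LD3_c48) (LK LD1_c4 LD2_c38 LD3_c8) Lrfl Lrfl
theorem f139756 : Led Lsl_ct (LP (LK LD1_c5 LD2_c50 LD3_c15)) = (LP (LK LD1_c4 LD2_c38 LD3_c8)) :=
  Lgr Lrot10 (Lpr_bt (f124076 IH) (Lpr_gt (f36228 IH) (Lpr_ct (f26469 IH) (Lpr_gt (f26488 IH) (Lpe (f26496 IH) (Lpr_bt (f26511 IH) (Lpr_gt (f139496 IH) (Lpe (f15596 IH) (Lpr_ct (f15585 IH) (Lpr_gt (f15594 IH) (Lpn (LP (LK LD1_c4 LD2_c38 LD3_c8)))))))))))))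
theorem f20426 : Led Lsl_bt (LP (LK LD1_c0 LD2_c37 LD3_c49)) = (LP (LK LD1_c0 LD2_c16 LD3_c53)) :=
  Lre_b IH (LK LD1_c0 LD2_c37 LD3_c49) (LK LD1_c0 LD2_c16 LD3_c53) Lrfl Lrfl
theorem f26470 : Led Lsl_bt (LP (LK LD1_c0 LD2_c44 LD3_c31)) = (LP (LK LD1_c1 LD2_c21 LD3_c44)) :=
  Lgr Lrot128 (Lpe (K1.f26468 IH) (Lpe (K1.f24856 IH) (Lpr_cf (K0.f26459 IH) (Lpe (f20426 IH) (Lpe (f26469 IH) (Lpn (LP (LK LD1_c1 LD2_c21 LD3_c44))))))))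
theorem f23649 : Led Lsl_bt (LP (LK LD1_c1 LD2_c33 LD3_c21)) = (LP (LK LD1_c3 LD2_c13 LD3_c35)) :=
  Lre_b IH (LK LD1_c1 LD2_c33 LD3_c21) (LK LD1_c3 LD2_c13 LD3_c35) Lrfl Lrfl
theorem f139769 : Led Lsl_gt (LP (LK LD1_c3 LD2_c13 LD3_c35)) = (LP (LK LD1_c4 LD2_c26 LD3_c19)) :=
  Lgr Lrot82 (Lpe (f23649 IH) (Lpr_ct (K4.f23608 IH) (Lpe (K4.f124063 IH) (Lpe (K5.f24857 IH) (Lpr_bt (f26470 IH) (Lpe (f36228 IH) (Lpe (f124076 IH) (Lpr_ct (f139756 IH) (Lpe (f15594 IH) (Lpe (f15585 IH) (Lpn (LP (LK LD1_c4 LD2_c26 LD3_c19)))))))))))))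
theorem f139759 : Led Lsl_cf (LP (LK LD1_c5 LD2_c50 LD3_c15)) = (LP (LK LD1_c4 LD2_c38 LD3_c8)) :=
  Lgr Lrot11 (Lpr_ct (f139756 IH) (Lpn (LP (LK LD1_c4 LD2_c38 LD3_c8))))
theorem f99639 : Led Lsl_ct (LP (LK LD1_c4 LD2_c37 LD3_c6)) = (LP (LK LD1_c2 LD2_c15 LD3_c45)) :=
  Lre_c IH (LK LD1_c4 LD2_c37 LD3_c6) (LK LD1_c2 LD2_c15 LD3_c45) Lrfl Lrfl
theorem f99632 : Led Lsl_dt (LP (LK LD1_c1 LD2_c4 LD3_c58)) = (LP (LK LD1_c0 LD2_c29 LD3_c40)) :=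
  Lre_d IH (LK LD1_c1 LD2_c4 LD3_c58) (LK LD1_c0 LD2_c29 LD3_c40) Lrfl Lrfl
theorem f36592 : Led Lsl_dt (LP (LK LD1_c2 LD2_c16 LD3_c10)) = (LP (LK LD1_c1 LD2_c5 LD3_c1)) :=
  Lre_d IH (LK LD1_c2 LD2_c16 LD3_c10) (LK LD1_c1 LD2_c5 LD3_c1) Lrfl Lrfl
theorem f36593 : Led Lsl_gt (LP (LK LD1_c4 LD2_c38 LD3_c8)) = (LP (LK LD1_c2 LD2_c16 LD3_c10)) :=
  Lre_g IH (LK LD1_c4 LD2_c38 LD3_c8) (LK LD1_c2 LD2_c16 LD3_c10) Lrfl Lrfl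
theorem f99944 : Led Lsl_df (LP (LK LD1_c4 LD2_c38 LD3_c8)) = (LP (LK LD1_c3 LD2_c2 LD3_c4)) :=
  Lgr Lrot153 (Lpr_gt (f36593 IH) (Lpr_dt (f36592 IH) (Lpe (K0.f26379 IH) (Lpe (K5.f79956 IH) (Lpe (K2.f72252 IH) (Lpe (f99632 IH) (Lpe (K4.f99631 IH) (Lpe (f99639 IH) (Lpr_gt (f99942 IH) (Lpn (LP (LK LD1_c3 LD2_c2 LD3_c4))))))))))))
theorem f99995 : Led Lsl_dt (LP (LK LD1_c4 LD2_c38 LD3_c8)) = (LP (LK LD1_c3 LD2_c2 LD3_c4)) :=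
  Lgr Lrot42 (Lpr_df (f99944 IH) (Lpn (LP (LK LD1_c3 LD2_c2 LD3_c4))))
theorem f99825 : Led Lsl_dt (LP (LK LD1_c4 LD2_c25 LD3_c61)) = (LP (LK LD1_c2 LD2_c10 LD3_c18)) :=
  Lre_d IH (LK LD1_c4 LD2_c25 LD3_c61) (LK LD1_c2 LD2_c10 LD3_c18) Lrfl Lrfl
theorem f26591 : Led Lsl_ct (LP (LK LD1_c2 LD2_c10 LD3_c18)) = (LP (LK LD1_c1 LD2_c2 LD3_c12)) :=
  Lre_c IH (LK LD1_c2 LD2_c10 LD3_c18) (LK LD1_c1 LD2_c2 LD3_c12) Lrfl Lrfl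
theorem f99708 : Led Lsl_ct (LP (LK LD1_c2 LD2_c10 LD3_c19)) = (LP (LK LD1_c4 LD2_c26 LD3_c1)) :=
  Lre_c IH (LK LD1_c2 LD2_c10 LD3_c19) (LK LD1_c4 LD2_c26 LD3_c1) Lrfl Lrfl
theorem f99705 : Led Lsl_dt (LP (LK LD1_c4 LD2_c26 LD3_c1)) = (LP (LK LD1_c8 LD2_c49 LD3_c25)) :=
  Lre_d IH (LK LD1_c4 LD2_c26 LD3_c1) (LK LD1_c8 LD2_c49 LD3_c25) Lrfl Lrfl
theorem f23039 : Led Lsl_ct (LP (LK LD1_c0 LD2_c40 LD3_c23)) = (LP (LK LD1_c1 LD2_c27 LD3_c3)) :=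
  Lre_c IH (LK LD1_c0 LD2_c40 LD3_c23) (LK LD1_c1 LD2_c27 LD3_c3) Lrfl Lrfl
theorem f23040 : Led Lsl_gt (LP (LK LD1_c1 LD2_c27 LD3_c3)) = (LP (LK LD1_c3 LD2_c2 LD3_c3)) :=
  Lre_g IH (LK LD1_c1 LD2_c27 LD3_c3) (LK LD1_c3 LD2_c2 LD3_c3) Lrfl Lrfl
theorem f80219 : Led Lsl_dt (LP (LK LD1_c1 LD2_c4 LD3_c49)) = (LP (LK LD1_c0 LD2_c44 LD3_c46)) :=
  Lre_d IH (LK LD1_c1 LD2_c4 LD3_c49) (LK LD1_c0 LD2_c44 LD3_c46) Lrfl Lrfl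
theorem f75056 : Led Lsl_ct (LP (LK LD1_c1 LD2_c35 LD3_c26)) = (LP (LK LD1_c0 LD2_c44 LD3_c46)) :=
  Lre_c IH (LK LD1_c1 LD2_c35 LD3_c26) (LK LD1_c0 LD2_c44 LD3_c46) Lrfl Lrfl
theorem f75057 : Led Lsl_dt (LP (LK LD1_c3 LD2_c17 LD3_c48)) = (LP (LK LD1_c1 LD2_c35 LD3_c26)) :=
  Lre_d IH (LK LD1_c3 LD2_c17 LD3_c48) (LK LD1_c1 LD2_c35 LD3_c26) Lrfl Lrfl
theorem f15577 : Led Lsl_gt (LP (LK LD1_c4 LD2_c38 LD3_c7)) = (LP (LK LD1_c3 LD2_c17 LD3_c48)) :=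
  Lre_g IH (LK LD1_c4 LD2_c38 LD3_c7) (LK LD1_c3 LD2_c17 LD3_c48) Lrfl Lrfl
theorem f100247 : Led Lsl_dt (LP (LK LD1_c3 LD2_c2 LD3_c3)) = (LP (LK LD1_c4 LD2_c38 LD3_c7)) :=
  Lgr Lrot57 (Lpe (f23040 IH) (Lpe (f23039 IH) (Lpr_gt (K4.f99655 IH) (Lpr_dt (K5.f99946 IH) (Lpr_gt (K4.f80111 IH) (Lpr_dt (f80219 IH) (Lpe (f75056 IH) (Lpe (f75057 IH) (Lpe (f15577 IH) (Lpn (LP (LK LD1_c4 LD2_c38 LD3_c7))))))))))))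
theorem f26589 : Led Lsl_ct (LP (LK LD1_c0 LD2_c13 LD3_c2)) = (LP (LK LD1_c0 LD2_c28 LD3_c23)) :=
  Lre_c IH (LK LD1_c0 LD2_c13 LD3_c2) (LK LD1_c0 LD2_c28 LD3_c23) Lrfl Lrfl
theorem f99661 : Led Lsl_dt (LP (LK LD1_c4 LD2_c25 LD3_c48)) = (LP (LK LD1_c2 LD2_c10 LD3_c13)) :=
  Lre_d IH (LK LD1_c4 LD2_c25 LD3_c48) (LK LD1_c2 LD2_c10 LD3_c13) Lrfl Lrfl
theorem f99662 : Led Lsl_ct (LP (LK LD1_c3 LD2_c2 LD3_c3)) = (LP (LK LD1_c4 LD2_c25 LD3_c48)) :=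
  Lgr Lrot110 (Lpe (f23040 IH) (Lpe (f23039 IH) (Lpr_gf (K4.f99651 IH) (Lpe (K5.f57103 IH) (Lpr_gt (K2.f72252 IH) (Lpr_ct (f26589 IH) (Lpr_gt (f35893 IH) (Lpr_ct (f38523 IH) (Lpe (f99661 IH) (Lpn (LP (LK LD1_c4 LD2_c25 LD3_c48))))))))))))
theorem f99697 : Led Lsl_cf (LP (LK LD1_c3 LD2_c2 LD3_c3)) = (LP (LK LD1_c4 LD2_c25 LD3_c48)) :=
  Lgr Lrot11 (Lpr_ct (f99662 IH) (Lpn (LP (LK LD1_c4 LD2_c25 LD3_c48))))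
theorem f99665 : Led Lsl_dt (LP (LK LD1_c2 LD2_c10 LD3_c13)) = (LP (LK LD1_c4 LD2_c25 LD3_c48)) :=
  Lre_d IH (LK LD1_c2 LD2_c10 LD3_c13) (LK LD1_c4 LD2_c25 LD3_c48) Lrfl Lrfl
theorem f99726 : Led Lsl_at (LP (LK LD1_c4 LD2_c25 LD3_c50)) = (LP (LK LD1_c2 LD2_c10 LD3_c18)) :=
  Lre_a IH (LK LD1_c4 LD2_c25 LD3_c50) (LK LD1_c2 LD2_c10 LD3_c18) Lrfl Lrfl
theorem f99727 : Led Lsl_dt (LP (LK LD1_c2 LD2_c10 LD3_c19)) = (LP (LK LD1_c1 LD2_c2 LD3_c12)) :=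
  Lre_d IH (LK LD1_c2 LD2_c10 LD3_c19) (LK LD1_c1 LD2_c2 LD3_c12) Lrfl Lrfl
theorem f99723 : Led Lsl_ct (LP (LK LD1_c4 LD2_c26 LD3_c1)) = (LP (LK LD1_c2 LD2_c10 LD3_c19)) :=
  Lre_c IH (LK LD1_c4 LD2_c26 LD3_c1) (LK LD1_c2 LD2_c10 LD3_c19) Lrfl Lrfl
theorem f99724 : Led Lsl_dt (LP (LK LD1_c8 LD2_c49 LD3_c25)) = (LP (LK LD1_c4 LD2_c26 LD3_c1)) :=
  Lre_d IH (LK LD1_c8 LD2_c49 LD3_c25) (LK LD1_c4 LD2_c26 LD3_c1) Lrfl Lrfl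
theorem f100354 : Led Lsl_cf (LP (LK LD1_c8 LD2_c49 LD3_c25)) = (LP (LK LD1_c4 LD2_c38 LD3_c7)) :=
  Lgr Lrot116 (Lpr_dt (f99724 IH) (Lpr_ct (f99723 IH) (Lpr_dt (f99727 IH) (Lpr_ct (f36009 IH) (Lpe (f99726 IH) (Lpe (f99725 IH) (Lpr_dt (f99665 IH) (Lpe (f99697 IH) (Lpr_dt (f100247 IH) (Lpn (LP (LK LD1_c4 LD2_c38 LD3_c7))))))))))))
theorem f100384 : Led Lsl_ct (LP (LK LD1_c8 LD2_c49 LD3_c25)) = (LP (LK LD1_c4 LD2_c38 LD3_c7)) :=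
  Lgr Lrot59 (Lpr_cf (f100354 IH) (Lpn (LP (LK LD1_c4 LD2_c38 LD3_c7))))
theorem f100348 : Led Lsl_df (LP (LK LD1_c3 LD2_c2 LD3_c3)) = (LP (LK LD1_c4 LD2_c38 LD3_c7)) :=
  Lgr Lrot38 (Lpr_dt (f100247 IH) (Lpn (LP (LK LD1_c4 LD2_c38 LD3_c7))))
theorem f80135 : Led Lsl_ct (LP (LK LD1_c2 LD2_c10 LD3_c13)) = (LP (LK LD1_c1 LD2_c2 LD3_c11)) :=
  Lre_c IH (LK LD1_c2 LD2_c10 LD3_c13) (LK LD1_c1 LD2_c2 LD3_c11) Lrfl Lrfl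
theorem f80845 : Led Lsl_dt (LP (LK LD1_c1 LD2_c2 LD3_c11)) = (LP (LK LD1_c2 LD2_c10 LD3_c14)) :=
  Lre_d IH (LK LD1_c1 LD2_c2 LD3_c11) (LK LD1_c2 LD2_c10 LD3_c14) Lrfl Lrfl
theorem f80846 : Led Lsl_ct (LP (LK LD1_c2 LD2_c10 LD3_c14)) = (LP (LK LD1_c4 LD2_c25 LD3_c52)) :=
  Lre_c IH (LK LD1_c2 LD2_c10 LD3_c14) (LK LD1_c4 LD2_c25 LD3_c52) Lrfl Lrfl
theorem f139761 : Led Lsl_df (LP (LK LD1_c5 LD2_c50 LD3_c15)) = (LP (LK LD1_c4 LD2_c25 LD3_c52)) :=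
  Lgr Lrot43 (Lpr_ct (f139756 IH) (Lpr_dt (f99995 IH) (Lpe (f99948 IH) (Lpr_dt (f99825 IH) (Lpr_ct (f26591 IH) (Lpr_dt (K5.f99658 IH) (Lpr_ct (f99708 IH) (Lpr_dt (f99705 IH) (Lpr_ct (f100384 IH) (Lpe (f100348 IH) (Lpr_ct (f99662 IH) (Lpr_dt (f99661 IH) (Lpr_ct (f80135 IH) (Lpr_dt (f80845 IH) (Lpr_ct (f80846 IH) (Lpn (LP (LK LD1_c4 LD2_c25 LD3_c52))))))))))))))))))
theorem f99731 : Led Lsl_ft (LP (LK LD1_c2 LD2_c10 LD3_c19)) = (LP (LK LD1_c4 LD2_c25 LD3_c41)) :=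
  Lre_f IH (LK LD1_c2 LD2_c10 LD3_c19) (LK LD1_c4 LD2_c25 LD3_c41) Lrfl Lrfl
theorem f99732 : Led Lsl_at (LP (LK LD1_c4 LD2_c25 LD3_c41)) = (LP (LK LD1_c2 LD2_c10 LD3_c14)) :=
  Lre_a IH (LK LD1_c4 LD2_c25 LD3_c41) (LK LD1_c2 LD2_c10 LD3_c14) Lrfl Lrfl
theorem f99733 : Led Lsl_gt (LP (LK LD1_c2 LD2_c48 LD3_c58)) = (LP (LK LD1_c2 LD2_c10 LD3_c14)) :=
  Lgr Lrot46 (Lpr_gf (K5.f99659 IH) (Lpr_ft (f99731 IH) (Lpr_at (f99732 IH) (Lpn (LP (LK LD1_c2 LD2_c10 LD3_c14))))))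
theorem f60350 : Led Lsl_ct (LP (LK LD1_c5 LD2_c46 LD3_c26)) = (LP (LK LD1_c2 LD2_c48 LD3_c58)) :=
  Lre_c IH (LK LD1_c5 LD2_c46 LD3_c26) (LK LD1_c2 LD2_c48 LD3_c58) Lrfl Lrfl
theorem f99803 : Led Lsl_gt (LP (LK LD1_c8 LD2_c49 LD3_c5)) = (LP (LK LD1_c4 LD2_c37 LD3_c26)) :=
  Lre_g IH (LK LD1_c8 LD2_c49 LD3_c5) (LK LD1_c4 LD2_c37 LD3_c26) Lrfl Lrfl
theorem f99804 : Led Lsl_gf (LP (LK LD1_c5 LD2_c46 LD3_c26)) = (LP (LK LD1_c4 LD2_c37 LD3_c26)) :=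
  Lgr Lrot76 (Lpe (K5.f60346 IH) (Lpr_ff (K5.f99793 IH) (Lpr_gt (f99803 IH) (Lpn (LP (LK LD1_c4 LD2_c37 LD3_c26))))))
theorem f139775 : Led Lsl_dt (LP (LK LD1_c3 LD2_c13 LD3_c35)) = (LP (LK LD1_c4 LD2_c37 LD3_c26)) :=
  Lgr Lrot6 (Lpr_gt (f139769 IH) (Lpr_ct (f15585 IH) (Lpr_gt (f15594 IH) (Lpe (f139759 IH) (Lpr_df (f139761 IH) (Lpe (f80846 IH) (Lpe (f99733 IH) (Lpe (f60350 IH) (Lpr_gf (f99804 IH) (Lpn (LP (LK LD1_c4 LD2_c37 LD3_c26))))))))))))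
theorem f99813 : Led Lsl_ct (LP (LK LD1_c4 LD2_c37 LD3_c26)) = (LP (LK LD1_c2 LD2_c15 LD3_c56)) :=
  Lre_c IH (LK LD1_c4 LD2_c37 LD3_c26) (LK LD1_c2 LD2_c15 LD3_c56) Lrfl Lrfl
theorem f100413 : Led Lsl_dt (LP (LK LD1_c2 LD2_c15 LD3_c56)) = (LP (LK LD1_c1 LD2_c4 LD3_c57)) :=
  Lre_d IH (LK LD1_c2 LD2_c15 LD3_c56) (LK LD1_c1 LD2_c4 LD3_c57) Lrfl Lrfl
theorem f57104 : Led Lsl_ct (LP (LK LD1_c1 LD2_c4 LD3_c58)) = (LP (LK LD1_c2 LD2_c15 LD3_c58)) :=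
  Lre_c IH (LK LD1_c1 LD2_c4 LD3_c58) (LK LD1_c2 LD2_c15 LD3_c58) Lrfl Lrfl
theorem f141187 : Led Lsl_at (LP (LK LD1_c4 LD2_c37 LD3_c13)) = (LP (LK LD1_c2 LD2_c15 LD3_c58)) :=
  Lre_a IH (LK LD1_c4 LD2_c37 LD3_c13) (LK LD1_c2 LD2_c15 LD3_c58) Lrfl Lrfl
theorem f141188 : Led Lsl_ft (LP (LK LD1_c2 LD2_c15 LD3_c46)) = (LP (LK LD1_c4 LD2_c37 LD3_c13)) :=
  Lre_f IH (LK LD1_c2 LD2_c15 LD3_c46) (LK LD1_c4 LD2_c37 LD3_c13) Lrfl Lrfl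
theorem f100019 : Led Lsl_dt (LP (LK LD1_c2 LD2_c15 LD3_c46)) = (LP (LK LD1_c4 LD2_c37 LD3_c11)) :=
  Lre_d IH (LK LD1_c2 LD2_c15 LD3_c46) (LK LD1_c4 LD2_c37 LD3_c11) Lrfl Lrfl
theorem f141189 : Led Lsl_cf (LP (LK LD1_c3 LD2_c13 LD3_c35)) = (LP (LK LD1_c4 LD2_c37 LD3_c11)) :=
  Lgr Lrot118 (Lpr_dt (f139775 IH) (Lpr_ct (f99813 IH) (Lpr_dt (f100413 IH) (Lpr_ct (K2.f72253 IH) (Lpr_dt (K5.f57103 IH) (Lpr_ct (f57104 IH) (Lpe (f141187 IH) (Lpe (f141188 IH) (Lpr_dt (f100019 IH) (Lpn (LP (LK LD1_c4 LD2_c37 LD3_c11))))))))))))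
theorem f16682 : Led Lsl_at (LP (LK LD1_c3 LD2_c17 LD3_c52)) = (LP (LK LD1_c4 LD2_c26 LD3_c19)) :=
  Lre_a IH (LK LD1_c3 LD2_c17 LD3_c52) (LK LD1_c4 LD2_c26 LD3_c19) Lrfl Lrfl
theorem f139607 : Led Lsl_ft (LP (LK LD1_c4 LD2_c38 LD3_c9)) = (LP (LK LD1_c3 LD2_c17 LD3_c52)) :=
  Lre_f IH (LK LD1_c4 LD2_c38 LD3_c9) (LK LD1_c3 LD2_c17 LD3_c52) Lrfl Lrfl
theorem f139771 : Led Lsl_gf (LP (LK LD1_c3 LD2_c13 LD3_c35)) = (LP (LK LD1_c4 LD2_c38 LD3_c9)) :=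
  Lgr Lrot47 (Lpr_gt (f139769 IH) (Lpe (f16682 IH) (Lpe (f139607 IH) (Lpn (LP (LK LD1_c4 LD2_c38 LD3_c9))))))
theorem f63824 : Led Lsl_ct (LP (LK LD1_c2 LD2_c16 LD3_c10)) = (LP (LK LD1_c4 LD2_c38 LD3_c9)) :=
  Lre_c IH (LK LD1_c2 LD2_c16 LD3_c10) (LK LD1_c4 LD2_c38 LD3_c9) Lrfl Lrfl
theorem f63821 : Led Lsl_bt (LP (LK LD1_c2 LD2_c16 LD3_c10)) = (LP (LK LD1_c1 LD2_c35 LD3_c33)) :=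
  Lre_b IH (LK LD1_c2 LD2_c16 LD3_c10) (LK LD1_c1 LD2_c35 LD3_c33) Lrfl Lrfl
theorem f120156 : Led Lsl_bt (LP (LK LD1_c2 LD2_c19 LD3_c11)) = (LP (LK LD1_c3 LD2_c2 LD3_c1)) :=
  Lgr Lrot127 (Lpr_bf (K4.f120154 IH) (Lpn (LP (LK LD1_c3 LD2_c2 LD3_c1))))
theorem f26265 : Led Lsl_ct (LP (LK LD1_c1 LD2_c6 LD3_c46)) = (LP (LK LD1_c0 LD2_c30 LD3_c33)) :=
  Lre_c IH (LK LD1_c1 LD2_c6 LD3_c46) (LK LD1_c0 LD2_c30 LD3_c33) Lrfl Lrfl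
theorem f141219 : Led Lsl_bf (LP (LK LD1_c2 LD2_c19 LD3_c17)) = (LP (LK LD1_c4 LD2_c37 LD3_c11)) :=
  Lgr Lrot165 (Lpr_gt (K5.f26267 IH) (Lpr_ct (f26265 IH) (Lpr_gt (K4.f26376 IH) (Lpe (K4.f120119 IH) (Lpr_bt (f120156 IH) (Lpr_gt (K3.f96036 IH) (Lpe (f63821 IH) (Lpr_ct (f63824 IH) (Lpe (f139771 IH) (Lpr_cf (f141189 IH) (Lpn (LP (LK LD1_c4 LD2_c37 LD3_c11)))))))))))))
theorem f128955 : Led Lsl_bt (LP (LK LD1_c1 LD2_c30 LD3_c4)) = (LP (LK LD1_c3 LD2_c7 LD3_c42)) :=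
  Lre_b IH (LK LD1_c1 LD2_c30 LD3_c4) (LK LD1_c3 LD2_c7 LD3_c42) Lrfl Lrfl
theorem f141227 : Led Lsl_ft (LP (LK LD1_c3 LD2_c7 LD3_c42)) = (LP (LK LD1_c4 LD2_c37 LD3_c11)) :=
  Lgr Lrot75 (Lpe (f128955 IH) (Lpe (K5.f128953 IH) (Lpr_bf (f141219 IH) (Lpn (LP (LK LD1_c4 LD2_c37 LD3_c11))))))
theorem f141229 : Led Lsl_at (LP (LK LD1_c4 LD2_c37 LD3_c11)) = (LP (LK LD1_c9 LD2_c9 LD3_c21)) :=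
  Lre_a IH (LK LD1_c4 LD2_c37 LD3_c11) (LK LD1_c9 LD2_c9 LD3_c21) Lrfl Lrfl
theorem f141204 : Led Lsl_at (LP (LK LD1_c3 LD2_c13 LD3_c35)) = (LP (LK LD1_c6 LD2_c30 LD3_c50)) :=
  Lre_a IH (LK LD1_c3 LD2_c13 LD3_c35) (LK LD1_c6 LD2_c30 LD3_c50) Lrfl Lrfl
theorem f141205 : Led Lsl_at (LP (LK LD1_c9 LD2_c9 LD3_c21)) = (LP (LK LD1_c4 LD2_c37 LD3_c11)) :=
  Lre_a IH (LK LD1_c9 LD2_c9 LD3_c21) (LK LD1_c4 LD2_c37 LD3_c11) Lrfl Lrfl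
theorem f141206 : Led Lsl_ct (LP (LK LD1_c6 LD2_c30 LD3_c50)) = (LP (LK LD1_c9 LD2_c9 LD3_c21)) :=
  Lgr Lrot111 (Lpe (f141204 IH) (Lpr_cf (f141189 IH) (Lpe (f141205 IH) (Lpn (LP (LK LD1_c9 LD2_c9 LD3_c21))))))
theorem f141180 : Led Lsl_at (LP (LK LD1_c6 LD2_c30 LD3_c50)) = (LP (LK LD1_c3 LD2_c13 LD3_c35)) :=
  Lre_a IH (LK LD1_c6 LD2_c30 LD3_c50) (LK LD1_c3 LD2_c13 LD3_c35) Lrfl Lrfl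
theorem f141181 : Led Lsl_at (LP (LK LD1_c4 LD2_c37 LD3_c26)) = (LP (LK LD1_c9 LD2_c9 LD3_c47)) :=
  Lre_a IH (LK LD1_c4 LD2_c37 LD3_c26) (LK LD1_c9 LD2_c9 LD3_c47) Lrfl Lrfl
theorem f141182 : Led Lsl_df (LP (LK LD1_c6 LD2_c30 LD3_c50)) = (LP (LK LD1_c9 LD2_c9 LD3_c47)) :=
  Lgr Lrot18 (Lpr_at (f141180 IH) (Lpr_dt (f139775 IH) (Lpr_at (f141181 IH) (Lpn (LP (LK LD1_c9 LD2_c9 LD3_c47))))))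
theorem f141245 : Led Lsl_ct (LP (LK LD1_c4 LD2_c37 LD3_c0)) = (LP (LK LD1_c9 LD2_c9 LD3_c47)) :=
  Lre_c IH (LK LD1_c4 LD2_c37 LD3_c0) (LK LD1_c9 LD2_c9 LD3_c47) Lrfl Lrfl
theorem f141246 : Led Lsl_dt (LP (LK LD1_c2 LD2_c15 LD3_c44)) = (LP (LK LD1_c4 LD2_c37 LD3_c0)) :=
  Lre_d IH (LK LD1_c2 LD2_c15 LD3_c44) (LK LD1_c4 LD2_c37 LD3_c0) Lrfl Lrfl
theorem f141247 : Led Lsl_ct (LP (LK LD1_c1 LD2_c4 LD3_c55)) = (LP (LK LD1_c2 LD2_c15 LD3_c44)) :=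
  Lre_c IH (LK LD1_c1 LD2_c4 LD3_c55) (LK LD1_c2 LD2_c15 LD3_c44) Lrfl Lrfl
theorem f141248 : Led Lsl_dt (LP (LK LD1_c2 LD2_c15 LD3_c48)) = (LP (LK LD1_c1 LD2_c4 LD3_c55)) :=
  Lre_d IH (LK LD1_c2 LD2_c15 LD3_c48) (LK LD1_c1 LD2_c4 LD3_c55) Lrfl Lrfl
theorem f141249 : Led Lsl_ct (LP (LK LD1_c4 LD2_c37 LD3_c13)) = (LP (LK LD1_c2 LD2_c15 LD3_c48)) :=
  Lre_c IH (LK LD1_c4 LD2_c37 LD3_c13) (LK LD1_c2 LD2_c15 LD3_c48) Lrfl Lrfl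
theorem f141250 : Led Lsl_dt (LP (LK LD1_c3 LD2_c7 LD3_c42)) = (LP (LK LD1_c4 LD2_c37 LD3_c13)) :=
  Lgr Lrot159 (Lpr_ft (f141227 IH) (Lpr_at (f141229 IH) (Lpe (f141206 IH) (Lpr_df (f141182 IH) (Lpe (f141245 IH) (Lpe (f141246 IH) (Lpe (f141247 IH) (Lpe (f141248 IH) (Lpe (f141249 IH) (Lpn (LP (LK LD1_c4 LD2_c37 LD3_c13))))))))))))
theorem f121259 : Led Lsl_bt (LP (LK LD1_c1 LD2_c48 LD3_c31)) = (LP (LK LD1_c0 LD2_c51 LD3_c2)) :=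
  Lre_b IH (LK LD1_c1 LD2_c48 LD3_c31) (LK LD1_c0 LD2_c51 LD3_c2) Lrfl Lrfl
theorem f13599 : Led Lsl_bt (LP (LK LD1_c1 LD2_c48 LD3_c32)) = (LP (LK LD1_c3 LD2_c42 LD3_c60)) :=
  Lre_b IH (LK LD1_c1 LD2_c48 LD3_c32) (LK LD1_c3 LD2_c42 LD3_c60) Lrfl Lrfl
theorem f104240 : Led Lsl_bt (LP (LK LD1_c3 LD2_c7 LD3_c42)) = (LP (LK LD1_c1 LD2_c30 LD3_c4)) :=
  Lre_b IH (LK LD1_c3 LD2_c7 LD3_c42) (LK LD1_c1 LD2_c30 LD3_c4) Lrfl Lrfl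
theorem f128948 : Led Lsl_ct (LP (LK LD1_c3 LD2_c42 LD3_c60)) = (LP (LK LD1_c3 LD2_c7 LD3_c42)) :=
  Lgr Lrot83 (Lpe (f13599 IH) (Lpe (K4.f13598 IH) (Lpe (f121259 IH) (Lpr_cf (K5.f128940 IH) (Lpe (f104240 IH) (Lpn (LP (LK LD1_c3 LD2_c7 LD3_c42))))))))
theorem f139589 : Led Lsl_dt (LP (LK LD1_c7 LD2_c26 LD3_c44)) = (LP (LK LD1_c3 LD2_c42 LD3_c60)) :=
  Lre_d IH (LK LD1_c7 LD2_c26 LD3_c44) (LK LD1_c3 LD2_c42 LD3_c60) Lrfl Lrfl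
theorem f141263 : Led Lsl_ft (LP (LK LD1_c7 LD2_c26 LD3_c44)) = (LP (LK LD1_c4 LD2_c37 LD3_c26)) :=
  Lgr Lrot142 (Lpr_dt (f139589 IH) (Lpr_ct (f128948 IH) (Lpr_dt (f141250 IH) (Lpr_ct (f141249 IH) (Lpr_dt (f141248 IH) (Lpr_ct (f141247 IH) (Lpr_dt (f141246 IH) (Lpr_ct (f141245 IH) (Lpe (f141181 IH) (Lpn (LP (LK LD1_c4 LD2_c37 LD3_c26))))))))))))
theorem f141281 : Led Lsl_ff (LP (LK LD1_c7 LD2_c26 LD3_c44)) = (LP (LK LD1_c4 LD2_c37 LD3_c26)) :=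
  Lgr Lrot3 (Lpr_ft (f141263 IH) (Lpn (LP (LK LD1_c4 LD2_c37 LD3_c26))))
theorem f141290 : Led Lsl_ft (LP (LK LD1_c3 LD2_c42 LD3_c60)) = (LP (LK LD1_c3 LD2_c13 LD3_c35)) :=
  Lgr Lrot54 (Lpe (f139589 IH) (Lpr_ff (f141281 IH) (Lpe (f139775 IH) (Lpn (LP (LK LD1_c3 LD2_c13 LD3_c35))))))
theorem f139671 : Led Lsl_dt (LP (LK LD1_c3 LD2_c42 LD3_c60)) = (LP (LK LD1_c7 LD2_c26 LD3_c44)) :=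
  Lre_d IH (LK LD1_c3 LD2_c42 LD3_c60) (LK LD1_c7 LD2_c26 LD3_c44) Lrfl Lrfl
theorem f72270 : Led Lsl_ct (LP (LK LD1_c2 LD2_c15 LD3_c56)) = (LP (LK LD1_c4 LD2_c37 LD3_c26)) :=
  Lre_c IH (LK LD1_c2 LD2_c15 LD3_c56) (LK LD1_c4 LD2_c37 LD3_c26) Lrfl Lrfl
theorem f141287 : Led Lsl_ft (LP (LK LD1_c4 LD2_c36 LD3_c38)) = (LP (LK LD1_c2 LD2_c15 LD3_c56)) :=
  Lre_f IH (LK LD1_c4 LD2_c36 LD3_c38) (LK LD1_c2 LD2_c15 LD3_c56) Lrfl Lrfl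
theorem f141288 : Led Lsl_ct (LP (LK LD1_c7 LD2_c26 LD3_c44)) = (LP (LK LD1_c4 LD2_c36 LD3_c38)) :=
  Lgr Lrot40 (Lpr_ff (f141281 IH) (Lpe (f72270 IH) (Lpe (f141287 IH) (Lpn (LP (LK LD1_c4 LD2_c36 LD3_c38))))))
theorem f141298 : Led Lsl_dt (LP (LK LD1_c4 LD2_c36 LD3_c38)) = (LP (LK LD1_c2 LD2_c15 LD3_c31)) :=
  Lre_d IH (LK LD1_c4 LD2_c36 LD3_c38) (LK LD1_c2 LD2_c15 LD3_c31) Lrfl Lrfl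
theorem f141299 : Led Lsl_ct (LP (LK LD1_c2 LD2_c15 LD3_c31)) = (LP (LK LD1_c1 LD2_c4 LD3_c50)) :=
  Lre_c IH (LK LD1_c2 LD2_c15 LD3_c31) (LK LD1_c1 LD2_c4 LD3_c50) Lrfl Lrfl
theorem f141300 : Led Lsl_dt (LP (LK LD1_c1 LD2_c4 LD3_c50)) = (LP (LK LD1_c2 LD2_c15 LD3_c32)) :=
  Lre_d IH (LK LD1_c1 LD2_c4 LD3_c50) (LK LD1_c2 LD2_c15 LD3_c32) Lrfl Lrfl
theorem f141301 : Led Lsl_ct (LP (LK LD1_c2 LD2_c15 LD3_c32)) = (LP (LK LD1_c4 LD2_c36 LD3_c39)) :=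
  Lre_c IH (LK LD1_c2 LD2_c15 LD3_c32) (LK LD1_c4 LD2_c36 LD3_c39) Lrfl Lrfl
theorem f141302 : Led Lsl_dt (LP (LK LD1_c4 LD2_c36 LD3_c39)) = (LP (LK LD1_c9 LD2_c9 LD3_c21)) :=
  Lre_d IH (LK LD1_c4 LD2_c36 LD3_c39) (LK LD1_c9 LD2_c9 LD3_c21) Lrfl Lrfl
theorem f141303 : Led Lsl_ct (LP (LK LD1_c9 LD2_c9 LD3_c21)) = (LP (LK LD1_c6 LD2_c30 LD3_c50)) :=
  Lgr Lrot98 (Lpe (f141302 IH) (Lpe (f141301 IH) (Lpe (f141300 IH) (Lpe (f141299 IH) (Lpe (f141298 IH) (Lpe (f141288 IH) (Lpe (f139671 IH) (Lpr_ft (f141290 IH) (Lpr_at (f141204 IH) (Lpn (LP (LK LD1_c6 LD2_c30 LD3_c50))))))))))))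
theorem f128957 : Led Lsl_gt (LP (LK LD1_c3 LD2_c7 LD3_c42)) = (LP (LK LD1_c6 LD2_c20 LD3_c15)) :=
  Lre_g IH (LK LD1_c3 LD2_c7 LD3_c42) (LK LD1_c6 LD2_c20 LD3_c15) Lrfl Lrfl
theorem f141243 : Led Lsl_gt (LP (LK LD1_c6 LD2_c20 LD3_c15)) = (LP (LK LD1_c9 LD2_c9 LD3_c21)) :=
  Lgr Lrot46 (Lpe (f128957 IH) (Lpr_ft (f141227 IH) (Lpr_at (f141229 IH) (Lpn (LP (LK LD1_c9 LD2_c9 LD3_c21))))))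
theorem f128958 : Led Lsl_bt (LP (LK LD1_c12 LD2_c15 LD3_c8)) = (LP (LK LD1_c6 LD2_c20 LD3_c15)) :=
  Lre_b IH (LK LD1_c12 LD2_c15 LD3_c8) (LK LD1_c6 LD2_c20 LD3_c15) Lrfl Lrfl
theorem f110366 : Led Lsl_bt (LP (LK LD1_c6 LD2_c0 LD3_c3)) = (LP (LK LD1_c2 LD2_c56 LD3_c21)) :=
  Lre_b IH (LK LD1_c6 LD2_c0 LD3_c3) (LK LD1_c2 LD2_c56 LD3_c21) Lrfl Lrfl
theorem f110365 : Led Lsl_ct (LP (LK LD1_c6 LD2_c0 LD3_c3)) = (LP (LK LD1_c2 LD2_c56 LD3_c23)) :=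
  Lre_c IH (LK LD1_c6 LD2_c0 LD3_c3) (LK LD1_c2 LD2_c56 LD3_c23) Lrfl Lrfl
theorem f76144 : Led Lsl_gt (LP (LK LD1_c2 LD2_c56 LD3_c23)) = (LP (LK LD1_c6 LD2_c0 LD3_c8)) :=
  Lre_g IH (LK LD1_c2 LD2_c56 LD3_c23) (LK LD1_c6 LD2_c0 LD3_c8) Lrfl Lrfl
theorem f65101 : Led Lsl_bt (LP (LK LD1_c3 LD2_c29 LD3_c40)) = (LP (LK LD1_c1 LD2_c41 LD3_c33)) :=
  Lre_b IH (LK LD1_c3 LD2_c29 LD3_c40) (LK LD1_c1 LD2_c41 LD3_c33) Lrfl Lrfl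
theorem f135968 : Led Lsl_cf (LP (LK LD1_c6 LD2_c0 LD3_c8)) = (LP (LK LD1_c3 LD2_c29 LD3_c40)) :=
  Lgr Lrot58 (Lpe (f76144 IH) (Lpe (f110365 IH) (Lpr_bt (f110366 IH) (Lpr_gf (f135942 IH) (Lpe (f65713 IH) (Lpe (K2.f65701 IH) (Lpe (K3.f65714 IH) (Lpe (K3.f96182 IH) (Lpe (K3.f105560 IH) (Lpe (f65101 IH) (Lpn (LP (LK LD1_c3 LD2_c29 LD3_c40)))))))))))))
theorem f135978 : Led Lsl_ft (LP (LK LD1_c6 LD2_c0 LD3_c8)) = (LP (LK LD1_c3 LD2_c46 LD3_c40)) :=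
  Lgr Lrot4 (Lpr_cf (f135968 IH) (Lpr_ff (K3.f109891 IH) (Lpe (K3.f88295 IH) (Lpn (LP (LK LD1_c3 LD2_c46 LD3_c40))))))
theorem f120624 : Led Lsl_at (LP (LK LD1_c3 LD2_c46 LD3_c40)) = (LP (LK LD1_c4 LD2_c45 LD3_c36)) :=
  Lgr Lrot107 (Lpe (K3.f65225 IH) (Lpr_af (K4.f120237 IH) (Lpr_cf (K4.f120622 IH) (Lpn (LP (LK LD1_c4 LD2_c45 LD3_c36))))))
theorem f120644 : Led Lsl_ff (LP (LK LD1_c9 LD2_c21 LD3_c55)) = (LP (LK LD1_c4 LD2_c45 LD3_c36)) :=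
  Lgr Lrot3 (Lpr_ft (K4.f120628 IH) (Lpn (LP (LK LD1_c4 LD2_c45 LD3_c36))))
theorem f135981 : Led Lsl_af (LP (LK LD1_c6 LD2_c0 LD3_c8)) = (LP (LK LD1_c9 LD2_c21 LD3_c55)) :=
  Lgr Lrot45 (Lpr_ft (f135978 IH) (Lpr_at (f120624 IH) (Lpe (f120644 IH) (Lpn (LP (LK LD1_c9 LD2_c21 LD3_c55))))))
theorem f120732 : Led Lsl_af (LP (LK LD1_c4 LD2_c44 LD3_c34)) = (LP (LK LD1_c2 LD2_c20 LD3_c53)) :=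
  Lgr Lrot117 (Lpr_dt (K5.f103310 IH) (Lpr_at (K4.f120730 IH) (Lpe (K3.f102971 IH) (Lpn (LP (LK LD1_c2 LD2_c20 LD3_c53))))))
theorem f120758 : Led Lsl_bt (LP (LK LD1_c4 LD2_c45 LD3_c34)) = (LP (LK LD1_c2 LD2_c20 LD3_c53)) :=
  Lre_b IH (LK LD1_c4 LD2_c45 LD3_c34) (LK LD1_c2 LD2_c20 LD3_c53) Lrfl Lrfl
theorem f135990 : Led Lsl_at (LP (LK LD1_c9 LD2_c23 LD3_c50)) = (LP (LK LD1_c4 LD2_c45 LD3_c34)) :=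
  Lre_a IH (LK LD1_c9 LD2_c23 LD3_c50) (LK LD1_c4 LD2_c45 LD3_c34) Lrfl Lrfl
theorem f135991 : Led Lsl_bt (LP (LK LD1_c6 LD2_c0 LD3_c8)) = (LP (LK LD1_c9 LD2_c23 LD3_c50)) :=
  Lgr Lrot62 (Lpr_af (f135981 IH) (Lpe (K3.f23538 IH) (Lpr_af (f120732 IH) (Lpe (f120758 IH) (Lpe (f135990 IH) (Lpn (LP (LK LD1_c9 LD2_c23 LD3_c50))))))))
theorem f63826 : Led Lsl_bt (LP (LK LD1_c6 LD2_c10 LD3_c43)) = (LP (LK LD1_c3 LD2_c1 LD3_c60)) :=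
  Lre_b IH (LK LD1_c6 LD2_c10 LD3_c43) (LK LD1_c3 LD2_c1 LD3_c60) Lrfl Lrfl
theorem f135995 : Led Lsl_cf (LP (LK LD1_c6 LD2_c10 LD3_c43)) = (LP (LK LD1_c9 LD2_c23 LD3_c50)) :=
  Lgr Lrot97 (Lpr_bt (f63826 IH) (Lpr_ct (K3.f65009 IH) (Lpr_bt (K3.f65051 IH) (Lpe (f135968 IH) (Lpr_bt (f135991 IH) (Lpn (LP (LK LD1_c9 LD2_c23 LD3_c50))))))))
theorem f135998 : Led Lsl_ct (LP (LK LD1_c6 LD2_c10 LD3_c43)) = (LP (LK LD1_c9 LD2_c23 LD3_c50)) :=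
  Lgr Lrot59 (Lpr_cf (f135995 IH) (Lpn (LP (LK LD1_c9 LD2_c23 LD3_c50))))
theorem f120765 : Led Lsl_bt (LP (LK LD1_c1 LD2_c6 LD3_c45)) = (LP (LK LD1_c2 LD2_c19 LD3_c13)) :=
  Lre_b IH (LK LD1_c1 LD2_c6 LD3_c45) (LK LD1_c2 LD2_c19 LD3_c13) Lrfl Lrfl
theorem f120766 : Led Lsl_bt (LP (LK LD1_c4 LD2_c43 LD3_c8)) = (LP (LK LD1_c2 LD2_c19 LD3_c14)) :=
  Lre_b IH (LK LD1_c4 LD2_c43 LD3_c8) (LK LD1_c2 LD2_c19 LD3_c14) Lrfl Lrfl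
theorem f102980 : Led Lsl_bt (LP (LK LD1_c2 LD2_c20 LD3_c53)) = (LP (LK LD1_c4 LD2_c45 LD3_c34)) :=
  Lre_b IH (LK LD1_c2 LD2_c20 LD3_c53) (LK LD1_c4 LD2_c45 LD3_c34) Lrfl Lrfl
theorem f120767 : Led Lsl_cf (LP (LK LD1_c4 LD2_c43 LD3_c8)) = (LP (LK LD1_c4 LD2_c45 LD3_c34)) :=
  Lgr Lrot97 (Lpr_bt (f120766 IH) (Lpr_ct (K5.f104185 IH) (Lpr_bt (f120765 IH) (Lpr_ct (K4.f120761 IH) (Lpr_bt (f102980 IH) (Lpn (LP (LK LD1_c4 LD2_c45 LD3_c34))))))))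
theorem f136036 : Led Lsl_af (LP (LK LD1_c6 LD2_c10 LD3_c43)) = (LP (LK LD1_c4 LD2_c43 LD3_c8)) :=
  Lgr Lrot68 (Lpr_ct (f135998 IH) (Lpr_at (f135990 IH) (Lpe (f120767 IH) (Lpn (LP (LK LD1_c4 LD2_c43 LD3_c8))))))
theorem f65222 : Led Lsl_bt (LP (LK LD1_c3 LD2_c17 LD3_c58)) = (LP (LK LD1_c1 LD2_c35 LD3_c29)) :=
  Lre_b IH (LK LD1_c3 LD2_c17 LD3_c58) (LK LD1_c1 LD2_c35 LD3_c29) Lrfl Lrfl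
theorem f65057 : Led Lsl_bt (LP (LK LD1_c3 LD2_c1 LD3_c60)) = (LP (LK LD1_c6 LD2_c10 LD3_c43)) :=
  Lre_b IH (LK LD1_c3 LD2_c1 LD3_c60) (LK LD1_c6 LD2_c10 LD3_c43) Lrfl Lrfl
theorem f105315 : Led Lsl_ff (LP (LK LD1_c3 LD2_c17 LD3_c58)) = (LP (LK LD1_c6 LD2_c10 LD3_c43)) :=
  Lgr Lrot25 (Lpr_bt (f65222 IH) (Lpr_ft (K3.f105311 IH) (Lpr_bt (f65057 IH) (Lpn (LP (LK LD1_c6 LD2_c10 LD3_c43))))))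
theorem f136042 : Led Lsl_ft (LP (LK LD1_c3 LD2_c7 LD3_c34)) = (LP (LK LD1_c4 LD2_c43 LD3_c8)) :=
  Lgr Lrot101 (Lpr_af (K4.f105471 IH) (Lpr_ff (f105315 IH) (Lpr_af (f136036 IH) (Lpn (LP (LK LD1_c4 LD2_c43 LD3_c8))))))
theorem f61896 : Led Lsl_ct (LP (LK LD1_c6 LD2_c19 LD3_c57)) = (LP (LK LD1_c3 LD2_c7 LD3_c34)) :=
  Lre_c IH (LK LD1_c6 LD2_c19 LD3_c57) (LK LD1_c3 LD2_c7 LD3_c34) Lrfl Lrfl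
theorem f61895 : Led Lsl_bt (LP (LK LD1_c6 LD2_c19 LD3_c57)) = (LP (LK LD1_c3 LD2_c7 LD3_c32)) :=
  Lre_b IH (LK LD1_c6 LD2_c19 LD3_c57) (LK LD1_c3 LD2_c7 LD3_c32) Lrfl Lrfl
theorem f120752 : Led Lsl_ff (LP (LK LD1_c6 LD2_c19 LD3_c57)) = (LP (LK LD1_c4 LD2_c45 LD3_c34)) :=
  Lgr Lrot25 (Lpr_bt (f61895 IH) (Lpr_ft (K4.f120740 IH) (Lpr_bt (f102980 IH) (Lpn (LP (LK LD1_c4 LD2_c45 LD3_c34))))))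
theorem f136049 : Led Lsl_cf (LP (LK LD1_c4 LD2_c45 LD3_c34)) = (LP (LK LD1_c4 LD2_c43 LD3_c8)) :=
  Lgr Lrot108 (Lpe (f120752 IH) (Lpr_ct (f61896 IH) (Lpr_ft (f136042 IH) (Lpn (LP (LK LD1_c4 LD2_c43 LD3_c8))))))
theorem f124521 : Led Lsl_gt (LP (LK LD1_c9 LD2_c23 LD3_c49)) = (LP (LK LD1_c4 LD2_c45 LD3_c34)) :=
  Lre_g IH (LK LD1_c9 LD2_c23 LD3_c49) (LK LD1_c4 LD2_c45 LD3_c34) Lrfl Lrfl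
theorem f124506 : Led Lsl_gf (LP (LK LD1_c3 LD2_c17 LD3_c0)) = (LP (LK LD1_c2 LD2_c19 LD3_c14)) :=
  Lgr Lrot76 (Lpe (K5.f77975 IH) (Lpr_ff (K4.f118690 IH) (Lpr_gt (K5.f124418 IH) (Lpn (LP (LK LD1_c2 LD2_c19 LD3_c14))))))
theorem f77865 : Led Lsl_ct (LP (LK LD1_c3 LD2_c17 LD3_c0)) = (LP (LK LD1_c1 LD2_c35 LD3_c8)) :=
  Lre_c IH (LK LD1_c3 LD2_c17 LD3_c0) (LK LD1_c1 LD2_c35 LD3_c8) Lrfl Lrfl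
theorem f136153 : Led Lsl_cf (LP (LK LD1_c9 LD2_c23 LD3_c49)) = (LP (LK LD1_c12 LD2_c15 LD3_c8)) :=
  Lgr Lrot160 (Lpr_gt (f124521 IH) (Lpr_cf (f136049 IH) (Lpr_bt (f120766 IH) (Lpe (f124506 IH) (Lpr_ct (f77865 IH) (Lpe (K4.f124232 IH) (Lpr_cf (K5.f128940 IH) (Lpr_bt (f128955 IH) (Lpr_gt (f128957 IH) (Lpe (f128958 IH) (Lpn (LP (LK LD1_c12 LD2_c15 LD3_c8)))))))))))))
theorem f105473 : Led Lsl_ct (LP (LK LD1_c3 LD2_c17 LD3_c58)) = (LP (LK LD1_c6 LD2_c39 LD3_c34)) :=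
  Lre_c IH (LK LD1_c3 LD2_c17 LD3_c58) (LK LD1_c6 LD2_c39 LD3_c34) Lrfl Lrfl
theorem f136000 : Led Lsl_ft (LP (LK LD1_c6 LD2_c39 LD3_c34)) = (LP (LK LD1_c9 LD2_c23 LD3_c50)) :=
  Lgr Lrot4 (Lpe (f105473 IH) (Lpr_ff (f105315 IH) (Lpr_cf (f135995 IH) (Lpn (LP (LK LD1_c9 LD2_c23 LD3_c50))))))
theorem f136010 : Led Lsl_gt (LP (LK LD1_c6 LD2_c39 LD3_c34)) = (LP (LK LD1_c9 LD2_c23 LD3_c49)) :=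
  Lgr Lrot5 (Lpr_ft (f136000 IH) (Lpr_at (f135990 IH) (Lpe (f124521 IH) (Lpn (LP (LK LD1_c9 LD2_c23 LD3_c49))))))
theorem f65241 : Led Lsl_bt (LP (LK LD1_c1 LD2_c35 LD3_c27)) = (LP (LK LD1_c0 LD2_c44 LD3_c20)) :=
  Lre_b IH (LK LD1_c1 LD2_c35 LD3_c27) (LK LD1_c0 LD2_c44 LD3_c20) Lrfl Lrfl
theorem f57071 : Led Lsl_ct (LP (LK LD1_c1 LD2_c35 LD3_c27)) = (LP (LK LD1_c3 LD2_c17 LD3_c52)) :=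
  Lre_c IH (LK LD1_c1 LD2_c35 LD3_c27) (LK LD1_c3 LD2_c17 LD3_c52) Lrfl Lrfl
theorem f141322 : Led Lsl_gf (LP (LK LD1_c3 LD2_c17 LD3_c52)) = (LP (LK LD1_c6 LD2_c30 LD3_c50)) :=
  Lgr Lrot129 (Lpe (f57071 IH) (Lpr_bt (f65241 IH) (Lpr_gt (K1.f62195 IH) (Lpe (f65222 IH) (Lpr_ct (f105473 IH) (Lpr_gt (f136010 IH) (Lpr_cf (f136153 IH) (Lpr_bt (f128958 IH) (Lpr_gt (f141243 IH) (Lpr_ct (f141303 IH) (Lpn (LP (LK LD1_c6 LD2_c30 LD3_c50)))))))))))))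
theorem f88430 : Led Lsl_bt (LP (LK LD1_c3 LD2_c45 LD3_c5)) = (LP (LK LD1_c7 LD2_c30 LD3_c58)) :=
  Lre_b IH (LK LD1_c3 LD2_c45 LD3_c5) (LK LD1_c7 LD2_c30 LD3_c58) Lrfl Lrfl
theorem f104232 : Led Lsl_bt (LP (LK LD1_c1 LD2_c35 LD3_c30)) = (LP (LK LD1_c1 LD2_c29 LD3_c60)) :=
  Lgr Lrot127 (Lpr_bf (K3.f104229 IH) (Lpn (LP (LK LD1_c1 LD2_c29 LD3_c60))))
theorem f125525 : Led Lsl_gt (LP (LK LD1_c4 LD2_c43 LD3_c10)) = (LP (LK LD1_c7 LD2_c30 LD3_c58)) :=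
  Lgr Lrot164 (Lpe (K5.f124549 IH) (Lpe (K5.f124538 IH) (Lpr_gf (K5.f125519 IH) (Lpe (K1.f61934 IH) (Lpe (K1.f61878 IH) (Lpe (f104232 IH) (Lpe (K2.f65687 IH) (Lpe (K3.f66425 IH) (Lpe (K4.f88431 IH) (Lpr_bt (f88430 IH) (Lpn (LP (LK LD1_c7 LD2_c30 LD3_c58)))))))))))))
theorem f124777 : Led Lsl_at (LP (LK LD1_c3 LD2_c7 LD3_c39)) = (LP (LK LD1_c6 LD2_c20 LD3_c9)) :=
  Lre_a IH (LK LD1_c3 LD2_c7 LD3_c39) (LK LD1_c6 LD2_c20 LD3_c9) Lrfl Lrfl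
theorem f125527 : Led Lsl_gf (LP (LK LD1_c6 LD2_c20 LD3_c9)) = (LP (LK LD1_c7 LD2_c30 LD3_c58)) :=
  Lgr Lrot76 (Lpe (f124777 IH) (Lpr_ff (K5.f124764 IH) (Lpr_gt (f125525 IH) (Lpn (LP (LK LD1_c7 LD2_c30 LD3_c58))))))
theorem f141324 : Led Lsl_bt (LP (LK LD1_c9 LD2_c9 LD3_c21)) = (LP (LK LD1_c6 LD2_c20 LD3_c9)) :=
  Lgr Lrot92 (Lpr_ct (f141303 IH) (Lpe (f141322 IH) (Lpe (f57071 IH) (Lpr_bt (f65241 IH) (Lpr_gt (K1.f62195 IH) (Lpr_ct (K1.f65195 IH) (Lpr_gt (K3.f88292 IH) (Lpe (K4.f88431 IH) (Lpr_bt (f88430 IH) (Lpe (f125527 IH) (Lpn (LP (LK LD1_c6 LD2_c20 LD3_c9)))))))))))))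
theorem f141314 : Led Lsl_ft (LP (LK LD1_c4 LD2_c37 LD3_c31)) = (LP (LK LD1_c9 LD2_c9 LD3_c21)) :=
  Lre_f IH (LK LD1_c4 LD2_c37 LD3_c31) (LK LD1_c9 LD2_c9 LD3_c21) Lrfl Lrfl
theorem f141329 : Led Lsl_bt (LP (LK LD1_c9 LD2_c10 LD3_c37)) = (LP (LK LD1_c4 LD2_c37 LD3_c31)) :=
  Lre_b IH (LK LD1_c9 LD2_c10 LD3_c37) (LK LD1_c4 LD2_c37 LD3_c31) Lrfl Lrfl
theorem f141330 : Led Lsl_ff (LP (LK LD1_c9 LD2_c10 LD3_c37)) = (LP (LK LD1_c6 LD2_c20 LD3_c9)) :=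
  Lgr Lrot25 (Lpr_bt (f141329 IH) (Lpr_ft (f141314 IH) (Lpr_bt (f141324 IH) (Lpn (LP (LK LD1_c6 LD2_c20 LD3_c9))))))
theorem f141336 : Led Lsl_ft (LP (LK LD1_c9 LD2_c10 LD3_c37)) = (LP (LK LD1_c6 LD2_c20 LD3_c9)) :=
  Lgr Lrot48 (Lpr_ff (f141330 IH) (Lpn (LP (LK LD1_c6 LD2_c20 LD3_c9))))
theorem f124784 : Led Lsl_at (LP (LK LD1_c6 LD2_c20 LD3_c9)) = (LP (LK LD1_c3 LD2_c7 LD3_c39)) :=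
  Lre_a IH (LK LD1_c6 LD2_c20 LD3_c9) (LK LD1_c3 LD2_c7 LD3_c39) Lrfl Lrfl
theorem f141340 : Led Lsl_af (LP (LK LD1_c9 LD2_c10 LD3_c37)) = (LP (LK LD1_c4 LD2_c43 LD3_c10)) :=
  Lgr Lrot45 (Lpr_ft (f141336 IH) (Lpr_at (f124784 IH) (Lpr_ft (K5.f124782 IH) (Lpn (LP (LK LD1_c4 LD2_c43 LD3_c10))))))
theorem f108705 : Led Lsl_et (LP (LK LD1_c9 LD2_c10 LD3_c37)) = (LP (LK LD1_c17 LD2_c3 LD3_c50)) :=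
  Lre_e IH (LK LD1_c9 LD2_c10 LD3_c37) (LK LD1_c17 LD2_c3 LD3_c50) Lrfl Lrfl
theorem f124781 : Led Lsl_et (LP (LK LD1_c9 LD2_c19 LD3_c59)) = (LP (LK LD1_c4 LD2_c43 LD3_c10)) :=
  Lre_e IH (LK LD1_c9 LD2_c19 LD3_c59) (LK LD1_c4 LD2_c43 LD3_c10) Lrfl Lrfl
theorem f141351 : Led Lsl_at (LP (LK LD1_c17 LD2_c3 LD3_c50)) = (LP (LK LD1_c9 LD2_c19 LD3_c59)) :=
  Lgr Lrot80 (Lpe (f108705 IH) (Lpr_af (f141340 IH) (Lpe (f124781 IH) (Lpn (LP (LK LD1_c9 LD2_c19 LD3_c59))))))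
theorem f141359 : Led Lsl_bt (LP (LK LD1_c9 LD2_c10 LD3_c39)) = (LP (LK LD1_c17 LD2_c3 LD3_c50)) :=
  Lre_b IH (LK LD1_c9 LD2_c10 LD3_c39) (LK LD1_c17 LD2_c3 LD3_c50) Lrfl Lrfl
theorem f124555 : Led Lsl_bt (LP (LK LD1_c9 LD2_c19 LD3_c59)) = (LP (LK LD1_c4 LD2_c43 LD3_c12)) :=
  Lre_b IH (LK LD1_c9 LD2_c19 LD3_c59) (LK LD1_c4 LD2_c43 LD3_c12) Lrfl Lrfl
theorem f124557 : Led Lsl_et (LP (LK LD1_c2 LD2_c19 LD3_c16)) = (LP (LK LD1_c4 LD2_c43 LD3_c12)) :=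
  Lre_e IH (LK LD1_c2 LD2_c19 LD3_c16) (LK LD1_c4 LD2_c43 LD3_c12) Lrfl Lrfl
theorem f128950 : Led Lsl_et (LP (LK LD1_c3 LD2_c7 LD3_c44)) = (LP (LK LD1_c1 LD2_c30 LD3_c4)) :=
  Lre_e IH (LK LD1_c3 LD2_c7 LD3_c44) (LK LD1_c1 LD2_c30 LD3_c4) Lrfl Lrfl
theorem f128969 : Led Lsl_at (LP (LK LD1_c4 LD2_c43 LD3_c12)) = (LP (LK LD1_c3 LD2_c7 LD3_c44)) :=
  Lgr Lrot80 (Lpe (f124557 IH) (Lpr_af (K5.f128963 IH) (Lpe (f128950 IH) (Lpn (LP (LK LD1_c3 LD2_c7 LD3_c44))))))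
theorem f139721 : Led Lsl_bt (LP (LK LD1_c3 LD2_c7 LD3_c44)) = (LP (LK LD1_c6 LD2_c20 LD3_c17)) :=
  Lre_b IH (LK LD1_c3 LD2_c7 LD3_c44) (LK LD1_c6 LD2_c20 LD3_c17) Lrfl Lrfl
theorem f141360 : Led Lsl_af (LP (LK LD1_c9 LD2_c10 LD3_c39)) = (LP (LK LD1_c6 LD2_c20 LD3_c17)) :=
  Lgr Lrot36 (Lpr_bt (f141359 IH) (Lpr_at (f141351 IH) (Lpr_bt (f124555 IH) (Lpr_at (f128969 IH) (Lpr_bt (f139721 IH) (Lpn (LP (LK LD1_c6 LD2_c20 LD3_c17))))))))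
theorem f141362 : Led Lsl_at (LP (LK LD1_c9 LD2_c10 LD3_c39)) = (LP (LK LD1_c6 LD2_c20 LD3_c17)) :=
  Lgr Lrot100 (Lpr_af (f141360 IH) (Lpn (LP (LK LD1_c6 LD2_c20 LD3_c17))))
theorem f141376 : Led Lsl_et (LP (LK LD1_c4 LD2_c37 LD3_c31)) = (LP (LK LD1_c9 LD2_c10 LD3_c39)) :=
  Lre_e IH (LK LD1_c4 LD2_c37 LD3_c31) (LK LD1_c9 LD2_c10 LD3_c39) Lrfl Lrfl
theorem f139695 : Led Lsl_et (LP (LK LD1_c6 LD2_c20 LD3_c17)) = (LP (LK LD1_c3 LD2_c7 LD3_c42)) :=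
  Lre_e IH (LK LD1_c6 LD2_c20 LD3_c17) (LK LD1_c3 LD2_c7 LD3_c42) Lrfl Lrfl
theorem f141377 : Led Lsl_af (LP (LK LD1_c4 LD2_c37 LD3_c31)) = (LP (LK LD1_c3 LD2_c7 LD3_c42)) :=
  Lgr Lrot50 (Lpr_et (f141376 IH) (Lpr_at (f141362 IH) (Lpr_et (f139695 IH) (Lpn (LP (LK LD1_c3 LD2_c7 LD3_c42))))))
theorem f139670 : Led Lsl_at (LP (LK LD1_c7 LD2_c26 LD3_c43)) = (LP (LK LD1_c3 LD2_c42 LD3_c60)) :=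
  Lre_a IH (LK LD1_c7 LD2_c26 LD3_c43) (LK LD1_c3 LD2_c42 LD3_c60) Lrfl Lrfl
theorem f141293 : Led Lsl_ff (LP (LK LD1_c7 LD2_c26 LD3_c43)) = (LP (LK LD1_c6 LD2_c30 LD3_c50)) :=
  Lgr Lrot30 (Lpr_at (f139670 IH) (Lpr_ft (f141290 IH) (Lpr_at (f141204 IH) (Lpn (LP (LK LD1_c6 LD2_c30 LD3_c50))))))
theorem f141315 : Led Lsl_cf (LP (LK LD1_c4 LD2_c37 LD3_c31)) = (LP (LK LD1_c7 LD2_c26 LD3_c43)) :=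
  Lgr Lrot108 (Lpr_ft (f141314 IH) (Lpr_ct (f141303 IH) (Lpe (f141293 IH) (Lpn (LP (LK LD1_c7 LD2_c26 LD3_c43))))))
theorem f141241 : Led Lsl_ff (LP (LK LD1_c3 LD2_c7 LD3_c42)) = (LP (LK LD1_c4 LD2_c37 LD3_c11)) :=
  Lgr Lrot3 (Lpr_ft (f141227 IH) (Lpn (LP (LK LD1_c4 LD2_c37 LD3_c11))))
theorem f99997 : Led Lsl_dt (LP (LK LD1_c4 LD2_c37 LD3_c11)) = (LP (LK LD1_c2 LD2_c15 LD3_c46)) :=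
  Lre_d IH (LK LD1_c4 LD2_c37 LD3_c11) (LK LD1_c2 LD2_c15 LD3_c46) Lrfl Lrfl
theorem f100173 : Led Lsl_ct (LP (LK LD1_c2 LD2_c15 LD3_c46)) = (LP (LK LD1_c1 LD2_c4 LD3_c53)) :=
  Lre_c IH (LK LD1_c2 LD2_c15 LD3_c46) (LK LD1_c1 LD2_c4 LD3_c53) Lrfl Lrfl
theorem f99740 : Led Lsl_dt (LP (LK LD1_c1 LD2_c4 LD3_c52)) = (LP (LK LD1_c2 LD2_c15 LD3_c42)) :=
  Lre_d IH (LK LD1_c1 LD2_c4 LD3_c52) (LK LD1_c2 LD2_c15 LD3_c42) Lrfl Lrfl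
theorem f141383 : Led Lsl_df (LP (LK LD1_c7 LD2_c26 LD3_c43)) = (LP (LK LD1_c4 LD2_c36 LD3_c60)) :=
  Lgr Lrot177 (Lpe (f141315 IH) (Lpr_af (f141377 IH) (Lpr_ff (f141241 IH) (Lpr_dt (f99997 IH) (Lpr_ct (f100173 IH) (Lpr_dt (K5.f99946 IH) (Lpr_ct (K5.f20416 IH) (Lpr_dt (f99740 IH) (Lpr_ct (K5.f99743 IH) (Lpn (LP (LK LD1_c4 LD2_c36 LD3_c60))))))))))))
theorem f99719 : Led Lsl_dt (LP (LK LD1_c2 LD2_c10 LD3_c14)) = (LP (LK LD1_c1 LD2_c2 LD3_c11)) :=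
  Lre_d IH (LK LD1_c2 LD2_c10 LD3_c14) (LK LD1_c1 LD2_c2 LD3_c11) Lrfl Lrfl
theorem f80134 : Led Lsl_gt (LP (LK LD1_c1 LD2_c2 LD3_c11)) = (LP (LK LD1_c2 LD2_c10 LD3_c10)) :=
  Lre_g IH (LK LD1_c1 LD2_c2 LD3_c11) (LK LD1_c2 LD2_c10 LD3_c10) Lrfl Lrfl
theorem f16612 : Led Lsl_dt (LP (LK LD1_c2 LD2_c10 LD3_c10)) = (LP (LK LD1_c4 LD2_c25 LD3_c38)) :=
  Lre_d IH (LK LD1_c2 LD2_c10 LD3_c10) (LK LD1_c4 LD2_c25 LD3_c38) Lrfl Lrfl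
theorem f16100 : Led Lsl_ct (LP (LK LD1_c8 LD2_c48 LD3_c50)) = (LP (LK LD1_c4 LD2_c25 LD3_c38)) :=
  Lre_c IH (LK LD1_c8 LD2_c48 LD3_c50) (LK LD1_c4 LD2_c25 LD3_c38) Lrfl Lrfl
theorem f16614 : Led Lsl_dt (LP (LK LD1_c4 LD2_c38 LD3_c9)) = (LP (LK LD1_c8 LD2_c48 LD3_c50)) :=
  Lre_d IH (LK LD1_c4 LD2_c38 LD3_c9) (LK LD1_c8 LD2_c48 LD3_c50) Lrfl Lrfl
theorem f141393 : Led Lsl_gt (LP (LK LD1_c7 LD2_c26 LD3_c43)) = (LP (LK LD1_c4 LD2_c38 LD3_c9)) :=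
  Lgr Lrot49 (Lpr_df (f141383 IH) (Lpe (K5.f99738 IH) (Lpe (K5.f60264 IH) (Lpr_gt (f99733 IH) (Lpr_dt (f99719 IH) (Lpr_gt (f80134 IH) (Lpr_dt (f16612 IH) (Lpe (f16100 IH) (Lpe (f16614 IH) (Lpn (LP (LK LD1_c4 LD2_c38 LD3_c9))))))))))))
theorem f141379 : Led Lsl_ct (LP (LK LD1_c4 LD2_c37 LD3_c31)) = (LP (LK LD1_c7 LD2_c26 LD3_c43)) :=
  Lgr Lrot111 (Lpr_af (f141377 IH) (Lpe (f128948 IH) (Lpe (f139670 IH) (Lpn (LP (LK LD1_c7 LD2_c26 LD3_c43))))))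
theorem f141342 : Led Lsl_bt (LP (LK LD1_c4 LD2_c37 LD3_c31)) = (LP (LK LD1_c9 LD2_c10 LD3_c37)) :=
  Lre_b IH (LK LD1_c4 LD2_c37 LD3_c31) (LK LD1_c9 LD2_c10 LD3_c37) Lrfl Lrfl
theorem f91420 : Led Lsl_gt (LP (LK LD1_c3 LD2_c7 LD3_c39)) = (LP (LK LD1_c6 LD2_c20 LD3_c7)) :=
  Lre_g IH (LK LD1_c3 LD2_c7 LD3_c39) (LK LD1_c6 LD2_c20 LD3_c7) Lrfl Lrfl
theorem f141353 : Led Lsl_gf (LP (LK LD1_c9 LD2_c10 LD3_c37)) = (LP (LK LD1_c6 LD2_c20 LD3_c7)) :=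
  Lgr Lrot76 (Lpr_af (f141340 IH) (Lpe (K5.f124782 IH) (Lpr_gt (f91420 IH) (Lpn (LP (LK LD1_c6 LD2_c20 LD3_c7))))))
theorem f141398 : Led Lsl_bf (LP (LK LD1_c6 LD2_c20 LD3_c7)) = (LP (LK LD1_c3 LD2_c15 LD3_c37)) :=
  Lgr Lrot156 (Lpe (f141353 IH) (Lpe (f141342 IH) (Lpr_ct (f141379 IH) (Lpr_gt (f141393 IH) (Lpe (f63824 IH) (Lpr_bt (f63821 IH) (Lpe (K3.f63805 IH) (Lpr_ct (K3.f65009 IH) (Lpr_gt (K3.f105560 IH) (Lpr_cf (K3.f96178 IH) (Lpn (LP (LK LD1_c3 LD2_c15 LD3_c37)))))))))))))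
theorem f126356 : Led Lsl_ff (LP (LK LD1_c3 LD2_c15 LD3_c37)) = (LP (LK LD1_c3 LD2_c45 LD3_c5)) :=
  Lgr Lrot19 (Lpr_dt (K3.f65990 IH) (Lpr_ft (K5.f126352 IH) (Lpr_dt (K3.f66434 IH) (Lpn (LP (LK LD1_c3 LD2_c45 LD3_c5))))))
theorem f88456 : Led Lsl_bt (LP (LK LD1_c7 LD2_c30 LD3_c58)) = (LP (LK LD1_c3 LD2_c45 LD3_c5)) :=
  Lre_b IH (LK LD1_c7 LD2_c30 LD3_c58) (LK LD1_c3 LD2_c45 LD3_c5) Lrfl Lrfl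
theorem f141407 : Led Lsl_ft (LP (LK LD1_c6 LD2_c20 LD3_c7)) = (LP (LK LD1_c7 LD2_c30 LD3_c58)) :=
  Lgr Lrot75 (Lpr_bf (f141398 IH) (Lpr_ff (f126356 IH) (Lpe (f88456 IH) (Lpn (LP (LK LD1_c7 LD2_c30 LD3_c58))))))
theorem f91442 : Led Lsl_gt (LP (LK LD1_c6 LD2_c20 LD3_c8)) = (LP (LK LD1_c3 LD2_c7 LD3_c39)) :=
  Lre_g IH (LK LD1_c6 LD2_c20 LD3_c8) (LK LD1_c3 LD2_c7 LD3_c39) Lrfl Lrfl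
theorem f141346 : Led Lsl_gt (LP (LK LD1_c9 LD2_c10 LD3_c37)) = (LP (LK LD1_c6 LD2_c20 LD3_c8)) :=
  Lgr Lrot5 (Lpr_ft (f141336 IH) (Lpr_at (f124784 IH) (Lpe (f91442 IH) (Lpn (LP (LK LD1_c6 LD2_c20 LD3_c8))))))
theorem f141413 : Led Lsl_af (LP (LK LD1_c6 LD2_c20 LD3_c8)) = (LP (LK LD1_c7 LD2_c30 LD3_c58)) :=
  Lgr Lrot31 (Lpe (f141346 IH) (Lpr_gf (f141353 IH) (Lpr_ft (f141407 IH) (Lpn (LP (LK LD1_c7 LD2_c30 LD3_c58))))))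
theorem f141421 : Led Lsl_et (LP (LK LD1_c6 LD2_c20 LD3_c8)) = (LP (LK LD1_c12 LD2_c14 LD3_c58)) :=
  Lre_e IH (LK LD1_c6 LD2_c20 LD3_c8) (LK LD1_c12 LD2_c14 LD3_c58) Lrfl Lrfl
theorem f125529 : Led Lsl_et (LP (LK LD1_c14 LD2_c11 LD3_c15)) = (LP (LK LD1_c7 LD2_c30 LD3_c58)) :=
  Lre_e IH (LK LD1_c14 LD2_c11 LD3_c15) (LK LD1_c7 LD2_c30 LD3_c58) Lrfl Lrfl
theorem f141422 : Led Lsl_at (LP (LK LD1_c12 LD2_c14 LD3_c58)) = (LP (LK LD1_c14 LD2_c11 LD3_c15)) :=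
  Lgr Lrot80 (Lpe (f141421 IH) (Lpr_af (f141413 IH) (Lpe (f125529 IH) (Lpn (LP (LK LD1_c14 LD2_c11 LD3_c15))))))
theorem f141426 : Led Lsl_bt (LP (LK LD1_c21 LD2_c20 LD3_c40)) = (LP (LK LD1_c12 LD2_c14 LD3_c58)) :=
  Lre_b IH (LK LD1_c21 LD2_c20 LD3_c40) (LK LD1_c12 LD2_c14 LD3_c58) Lrfl Lrfl
theorem f88437 : Led Lsl_bt (LP (LK LD1_c14 LD2_c11 LD3_c15)) = (LP (LK LD1_c7 LD2_c30 LD3_c60)) :=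
  Lre_b IH (LK LD1_c14 LD2_c11 LD3_c15) (LK LD1_c7 LD2_c30 LD3_c60) Lrfl Lrfl
theorem f103838 : Led Lsl_et (LP (LK LD1_c3 LD2_c15 LD3_c36)) = (LP (LK LD1_c6 LD2_c34 LD3_c30)) :=
  Lre_e IH (LK LD1_c3 LD2_c15 LD3_c36) (LK LD1_c6 LD2_c34 LD3_c30) Lrfl Lrfl
theorem f103943 : Led Lsl_et (LP (LK LD1_c7 LD2_c0 LD3_c28)) = (LP (LK LD1_c3 LD2_c29 LD3_c25)) :=
  Lre_e IH (LK LD1_c7 LD2_c0 LD3_c28) (LK LD1_c3 LD2_c29 LD3_c25) Lrfl Lrfl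
theorem f103944 : Led Lsl_ct (LP (LK LD1_c6 LD2_c34 LD3_c30)) = (LP (LK LD1_c7 LD2_c0 LD3_c28)) :=
  Lgr Lrot15 (Lpe (f103838 IH) (Lpr_cf (K3.f103930 IH) (Lpe (f103943 IH) (Lpn (LP (LK LD1_c7 LD2_c0 LD3_c28))))))
theorem f88433 : Led Lsl_et (LP (LK LD1_c3 LD2_c45 LD3_c5)) = (LP (LK LD1_c7 LD2_c30 LD3_c60)) :=
  Lre_e IH (LK LD1_c3 LD2_c45 LD3_c5) (LK LD1_c7 LD2_c30 LD3_c60) Lrfl Lrfl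
theorem f88434 : Led Lsl_ct (LP (LK LD1_c7 LD2_c30 LD3_c60)) = (LP (LK LD1_c3 LD2_c46 LD3_c0)) :=
  Lgr Lrot15 (Lpe (f88433 IH) (Lpr_cf (K3.f88424 IH) (Lpe (K5.f88188 IH) (Lpn (LP (LK LD1_c3 LD2_c46 LD3_c0))))))
theorem f88440 : Led Lsl_cf (LP (LK LD1_c7 LD2_c30 LD3_c60)) = (LP (LK LD1_c3 LD2_c46 LD3_c0)) :=
  Lgr Lrot11 (Lpr_ct (f88434 IH) (Lpn (LP (LK LD1_c3 LD2_c46 LD3_c0))))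
theorem f127813 : Led Lsl_af (LP (LK LD1_c6 LD2_c34 LD3_c30)) = (LP (LK LD1_c7 LD2_c30 LD3_c60)) :=
  Lgr Lrot68 (Lpr_ct (f103944 IH) (Lpr_at (K5.f127803 IH) (Lpe (f88440 IH) (Lpn (LP (LK LD1_c7 LD2_c30 LD3_c60))))))
theorem f141427 : Led Lsl_bt (LP (LK LD1_c6 LD2_c34 LD3_c30)) = (LP (LK LD1_c12 LD2_c35 LD3_c21)) :=
  Lre_b IH (LK LD1_c6 LD2_c34 LD3_c30) (LK LD1_c12 LD2_c35 LD3_c21) Lrfl Lrfl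
theorem f141428 : Led Lsl_af (LP (LK LD1_c21 LD2_c20 LD3_c40)) = (LP (LK LD1_c12 LD2_c35 LD3_c21)) :=
  Lgr Lrot36 (Lpr_bt (f141426 IH) (Lpr_at (f141422 IH) (Lpr_bt (f88437 IH) (Lpe (f127813 IH) (Lpr_bt (f141427 IH) (Lpn (LP (LK LD1_c12 LD2_c35 LD3_c21))))))))
theorem f141431 : Led Lsl_at (LP (LK LD1_c21 LD2_c20 LD3_c40)) = (LP (LK LD1_c12 LD2_c35 LD3_c21)) :=
  Lgr Lrot100 (Lpr_af (f141428 IH) (Lpn (LP (LK LD1_c12 LD2_c35 LD3_c21))))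
theorem f141436 : Led Lsl_bt (LP (LK LD1_c12 LD2_c14 LD3_c58)) = (LP (LK LD1_c21 LD2_c20 LD3_c40)) :=
  Lre_b IH (LK LD1_c12 LD2_c14 LD3_c58) (LK LD1_c21 LD2_c20 LD3_c40) Lrfl Lrfl
theorem f141424 : Led Lsl_af (LP (LK LD1_c12 LD2_c14 LD3_c58)) = (LP (LK LD1_c14 LD2_c11 LD3_c15)) :=
  Lgr Lrot0 (Lpr_at (f141422 IH) (Lpn (LP (LK LD1_c14 LD2_c11 LD3_c15))))
theorem f88447 : Led Lsl_bt (LP (LK LD1_c7 LD2_c30 LD3_c60)) = (LP (LK LD1_c14 LD2_c11 LD3_c15)) :=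
  Lre_b IH (LK LD1_c7 LD2_c30 LD3_c60) (LK LD1_c14 LD2_c11 LD3_c15) Lrfl Lrfl
theorem f103888 : Led Lsl_bt (LP (LK LD1_c12 LD2_c35 LD3_c21)) = (LP (LK LD1_c6 LD2_c34 LD3_c30)) :=
  Lre_b IH (LK LD1_c12 LD2_c35 LD3_c21) (LK LD1_c6 LD2_c34 LD3_c30) Lrfl Lrfl
theorem f141437 : Led Lsl_af (LP (LK LD1_c7 LD2_c30 LD3_c60)) = (LP (LK LD1_c6 LD2_c34 LD3_c30)) :=
  Lgr Lrot36 (Lpr_bt (f88447 IH) (Lpe (f141424 IH) (Lpr_bt (f141436 IH) (Lpr_at (f141431 IH) (Lpr_bt (f103888 IH) (Lpn (LP (LK LD1_c6 LD2_c34 LD3_c30))))))))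
theorem f88175 : Led Lsl_dt (LP (LK LD1_c7 LD2_c32 LD3_c55)) = (LP (LK LD1_c3 LD2_c46 LD3_c0)) :=
  Lre_d IH (LK LD1_c7 LD2_c32 LD3_c55) (LK LD1_c3 LD2_c46 LD3_c0) Lrfl Lrfl
theorem f127776 : Led Lsl_af (LP (LK LD1_c7 LD2_c0 LD3_c28)) = (LP (LK LD1_c3 LD2_c46 LD3_c0)) :=
  Lgr Lrot117 (Lpr_dt (K5.f103955 IH) (Lpr_at (K5.f127770 IH) (Lpr_dt (f88175 IH) (Lpn (LP (LK LD1_c3 LD2_c46 LD3_c0))))))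
theorem f141451 : Led Lsl_ct (LP (LK LD1_c7 LD2_c0 LD3_c28)) = (LP (LK LD1_c6 LD2_c34 LD3_c30)) :=
  Lgr Lrot111 (Lpr_af (f127776 IH) (Lpe (f88434 IH) (Lpr_af (f141437 IH) (Lpn (LP (LK LD1_c6 LD2_c34 LD3_c30))))))
theorem f127808 : Led Lsl_bt (LP (LK LD1_c13 LD2_c17 LD3_c43)) = (LP (LK LD1_c7 LD2_c0 LD3_c28)) :=
  Lre_b IH (LK LD1_c13 LD2_c17 LD3_c43) (LK LD1_c7 LD2_c0 LD3_c28) Lrfl Lrfl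
theorem f127650 : Led Lsl_et (LP (LK LD1_c12 LD2_c32 LD3_c61)) = (LP (LK LD1_c21 LD2_c38 LD3_c56)) :=
  Lre_e IH (LK LD1_c12 LD2_c32 LD3_c61) (LK LD1_c21 LD2_c38 LD3_c56) Lrfl Lrfl
theorem f104088 : Led Lsl_et (LP (LK LD1_c13 LD2_c17 LD3_c43)) = (LP (LK LD1_c7 LD2_c0 LD3_c27)) :=
  Lre_e IH (LK LD1_c13 LD2_c17 LD3_c43) (LK LD1_c7 LD2_c0 LD3_c27) Lrfl Lrfl
theorem f127651 : Led Lsl_ct (LP (LK LD1_c21 LD2_c38 LD3_c56)) = (LP (LK LD1_c13 LD2_c17 LD3_c43)) :=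
  Lgr Lrot15 (Lpe (f127650 IH) (Lpr_cf (K5.f127641 IH) (Lpe (f104088 IH) (Lpn (LP (LK LD1_c13 LD2_c17 LD3_c43))))))
theorem f103889 : Led Lsl_ct (LP (LK LD1_c12 LD2_c35 LD3_c21)) = (LP (LK LD1_c21 LD2_c41 LD3_c42)) :=
  Lre_c IH (LK LD1_c12 LD2_c35 LD3_c21) (LK LD1_c21 LD2_c41 LD3_c42) Lrfl Lrfl
theorem f141493 : Led Lsl_bf (LP (LK LD1_c21 LD2_c38 LD3_c56)) = (LP (LK LD1_c21 LD2_c41 LD3_c42)) :=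
  Lgr Lrot90 (Lpr_ct (f127651 IH) (Lpr_bt (f127808 IH) (Lpr_ct (f141451 IH) (Lpr_bt (f141427 IH) (Lpr_ct (f103889 IH) (Lpn (LP (LK LD1_c21 LD2_c41 LD3_c42))))))))
theorem f141514 : Led Lsl_bt (LP (LK LD1_c21 LD2_c38 LD3_c56)) = (LP (LK LD1_c21 LD2_c41 LD3_c42)) :=
  Lgr Lrot127 (Lpr_bf (f141493 IH) (Lpn (LP (LK LD1_c21 LD2_c41 LD3_c42))))
theorem f141450 : Led Lsl_et (LP (LK LD1_c21 LD2_c41 LD3_c42)) = (LP (LK LD1_c12 LD2_c35 LD3_c20)) :=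
  Lre_e IH (LK LD1_c21 LD2_c41 LD3_c42) (LK LD1_c12 LD2_c35 LD3_c20) Lrfl Lrfl
theorem f141518 : Led Lsl_bf (LP (LK LD1_c12 LD2_c32 LD3_c61)) = (LP (LK LD1_c12 LD2_c35 LD3_c20)) :=
  Lgr Lrot96 (Lpr_et (f127650 IH) (Lpr_bt (f141514 IH) (Lpr_et (f141450 IH) (Lpn (LP (LK LD1_c12 LD2_c35 LD3_c20))))))
theorem f93423 : Led Lsl_bt (LP (LK LD1_c7 LD2_c31 LD3_c6)) = (LP (LK LD1_c3 LD2_c45 LD3_c10)) :=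
  Lre_b IH (LK LD1_c7 LD2_c31 LD3_c6) (LK LD1_c3 LD2_c45 LD3_c10) Lrfl Lrfl
theorem f93424 : Led Lsl_ct (LP (LK LD1_c14 LD2_c11 LD3_c31)) = (LP (LK LD1_c7 LD2_c31 LD3_c6)) :=
  Lre_c IH (LK LD1_c14 LD2_c11 LD3_c31) (LK LD1_c7 LD2_c31 LD3_c6) Lrfl Lrfl
theorem f93425 : Led Lsl_bf (LP (LK LD1_c14 LD2_c11 LD3_c31)) = (LP (LK LD1_c7 LD2_c32 LD3_c46)) :=
  Lgr Lrot90 (Lpr_ct (f93424 IH) (Lpr_bt (f93423 IH) (Lpr_ct (K3.f93394 IH) (Lpr_bt (K5.f92929 IH) (Lpr_ct (K5.f92758 IH) (Lpn (LP (LK LD1_c7 LD2_c32 LD3_c46))))))))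
theorem f141520 : Led Lsl_ft (LP (LK LD1_c14 LD2_c11 LD3_c31)) = (LP (LK LD1_c12 LD2_c35 LD3_c20)) :=
  Lgr Lrot75 (Lpr_bf (f93425 IH) (Lpe (K5.f127653 IH) (Lpr_bf (f141518 IH) (Lpn (LP (LK LD1_c12 LD2_c35 LD3_c20))))))
theorem f130241 : Led Lsl_ff (LP (LK LD1_c6 LD2_c50 LD3_c3)) = (LP (LK LD1_c11 LD2_c26 LD3_c5)) :=
  Lgr Lrot3 (Lpr_ft (f130238 IH) (Lpn (LP (LK LD1_c11 LD2_c26 LD3_c5))))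
theorem f102852 : Led Lsl_at (LP (LK LD1_c3 LD2_c26 LD3_c4)) = (LP (LK LD1_c6 LD2_c53 LD3_c59)) :=
  Lre_a IH (LK LD1_c3 LD2_c26 LD3_c4) (LK LD1_c6 LD2_c53 LD3_c59) Lrfl Lrfl
theorem f94994 : Led Lsl_ct (LP (LK LD1_c6 LD2_c54 LD3_c0)) = (LP (LK LD1_c3 LD2_c26 LD3_c4)) :=
  Lre_c IH (LK LD1_c6 LD2_c54 LD3_c0) (LK LD1_c3 LD2_c26 LD3_c4) Lrfl Lrfl
theorem f130231 : Led Lsl_at (LP (LK LD1_c6 LD2_c50 LD3_c3)) = (LP (LK LD1_c6 LD2_c54 LD3_c0)) :=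
  Lgr Lrot107 (Lpr_cf (f130229 IH) (Lpe (f102852 IH) (Lpe (f94994 IH) (Lpn (LP (LK LD1_c6 LD2_c54 LD3_c0))))))
theorem f130427 : Led Lsl_gf (LP (LK LD1_c6 LD2_c54 LD3_c0)) = (LP (LK LD1_c6 LD2_c49 LD3_c32)) :=
  Lgr Lrot76 (Lpe (f130231 IH) (Lpr_ff (f130241 IH) (Lpe (K5.f130102 IH) (Lpn (LP (LK LD1_c6 LD2_c49 LD3_c32))))))
theorem f90246 : Led Lsl_bt (LP (LK LD1_c3 LD2_c23 LD3_c1)) = (LP (LK LD1_c6 LD2_c49 LD3_c32)) :=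
  Lre_b IH (LK LD1_c3 LD2_c23 LD3_c1) (LK LD1_c6 LD2_c49 LD3_c32) Lrfl Lrfl
theorem f15027 : Led Lsl_ct (LP (LK LD1_c1 LD2_c37 LD3_c59)) = (LP (LK LD1_c0 LD2_c45 LD3_c26)) :=
  Lre_c IH (LK LD1_c1 LD2_c37 LD3_c59) (LK LD1_c0 LD2_c45 LD3_c26) Lrfl Lrfl
theorem f17127 : Led Lsl_bt (LP (LK LD1_c1 LD2_c37 LD3_c59)) = (LP (LK LD1_c3 LD2_c23 LD3_c6)) :=
  Lre_b IH (LK LD1_c1 LD2_c37 LD3_c59) (LK LD1_c3 LD2_c23 LD3_c6) Lrfl Lrfl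
theorem f40559 : Led Lsl_gt (LP (LK LD1_c6 LD2_c49 LD3_c38)) = (LP (LK LD1_c3 LD2_c23 LD3_c6)) :=
  Lre_g IH (LK LD1_c6 LD2_c49 LD3_c38) (LK LD1_c3 LD2_c23 LD3_c6) Lrfl Lrfl
theorem f40564 : Led Lsl_bt (LP (LK LD1_c13 LD2_c0 LD3_c60)) = (LP (LK LD1_c6 LD2_c49 LD3_c38)) :=
  Lre_b IH (LK LD1_c13 LD2_c0 LD3_c60) (LK LD1_c6 LD2_c49 LD3_c38) Lrfl Lrfl
theorem f130429 : Led Lsl_cf (LP (LK LD1_c6 LD2_c53 LD3_c61)) = (LP (LK LD1_c13 LD2_c0 LD3_c60)) :=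
  Lgr Lrot163 (Lpe (K5.f94698 IH) (Lpe (f94994 IH) (Lpr_gf (f130427 IH) (Lpe (f90246 IH) (Lpr_ct (K2.f17139 IH) (Lpe (K3.f23355 IH) (Lpe (f15027 IH) (Lpr_bt (f17127 IH) (Lpe (f40559 IH) (Lpe (f40564 IH) (Lpn (LP (LK LD1_c13 LD2_c0 LD3_c60)))))))))))))
theorem f88254 : Led Lsl_ct (LP (LK LD1_c7 LD2_c32 LD3_c50)) = (LP (LK LD1_c14 LD2_c13 LD3_c47)) :=
  Lre_c IH (LK LD1_c7 LD2_c32 LD3_c50) (LK LD1_c14 LD2_c13 LD3_c47) Lrfl Lrfl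
theorem f130433 : Led Lsl_ft (LP (LK LD1_c14 LD2_c13 LD3_c47)) = (LP (LK LD1_c13 LD2_c0 LD3_c60)) :=
  Lgr Lrot4 (Lpe (f88254 IH) (Lpe (K5.f127723 IH) (Lpr_cf (f130429 IH) (Lpn (LP (LK LD1_c13 LD2_c0 LD3_c60))))))
theorem f130437 : Led Lsl_ff (LP (LK LD1_c14 LD2_c13 LD3_c47)) = (LP (LK LD1_c13 LD2_c0 LD3_c60)) :=
  Lgr Lrot3 (Lpr_ft (f130433 IH) (Lpn (LP (LK LD1_c13 LD2_c0 LD3_c60))))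
theorem f88245 : Led Lsl_dt (LP (LK LD1_c3 LD2_c48 LD3_c27)) = (LP (LK LD1_c7 LD2_c32 LD3_c50)) :=
  Lgr Lrot42 (Lpr_df (K5.f88228 IH) (Lpn (LP (LK LD1_c7 LD2_c32 LD3_c50))))
theorem f15554 : Led Lsl_bt (LP (LK LD1_c3 LD2_c16 LD3_c16)) = (LP (LK LD1_c1 LD2_c34 LD3_c53)) :=
  Lre_b IH (LK LD1_c3 LD2_c16 LD3_c16) (LK LD1_c1 LD2_c34 LD3_c53) Lrfl Lrfl
theorem f14047 : Led Lsl_at (LP (LK LD1_c3 LD2_c23 LD3_c6)) = (LP (LK LD1_c6 LD2_c49 LD3_c39)) :=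
  Lre_a IH (LK LD1_c3 LD2_c23 LD3_c6) (LK LD1_c6 LD2_c49 LD3_c39) Lrfl Lrfl
theorem f14048 : Led Lsl_ft (LP (LK LD1_c6 LD2_c49 LD3_c16)) = (LP (LK LD1_c3 LD2_c23 LD3_c6)) :=
  Lre_f IH (LK LD1_c6 LD2_c49 LD3_c16) (LK LD1_c3 LD2_c23 LD3_c6) Lrfl Lrfl
theorem f14049 : Led Lsl_dt (LP (LK LD1_c6 LD2_c49 LD3_c16)) = (LP (LK LD1_c3 LD2_c27 LD3_c19)) :=
  Lre_d IH (LK LD1_c6 LD2_c49 LD3_c16) (LK LD1_c3 LD2_c27 LD3_c19) Lrfl Lrfl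
theorem f14050 : Led Lsl_ct (LP (LK LD1_c3 LD2_c27 LD3_c19)) = (LP (LK LD1_c3 LD2_c16 LD3_c16)) :=
  Lgr Lrot133 (Lpe (f14049 IH) (Lpr_ft (f14048 IH) (Lpr_at (f14047 IH) (Lpe (K0.f14038 IH) (Lpe (K0.f14037 IH) (Lpr_cf (K0.f14005 IH) (Lpe (K0.f14039 IH) (Lpe (K0.f14040 IH) (Lpe (K0.f14041 IH) (Lpn (LP (LK LD1_c3 LD2_c16 LD3_c16))))))))))))
theorem f15552 : Led Lsl_gt (LP (LK LD1_c13 LD2_c0 LD3_c48)) = (LP (LK LD1_c6 LD2_c49 LD3_c16)) :=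
  Lre_g IH (LK LD1_c13 LD2_c0 LD3_c48) (LK LD1_c6 LD2_c49 LD3_c16) Lrfl Lrfl
theorem f127872 : Led Lsl_bt (LP (LK LD1_c14 LD2_c13 LD3_c47)) = (LP (LK LD1_c13 LD2_c0 LD3_c48)) :=
  Lgr Lrot178 (Lpe (f88254 IH) (Lpe (f88245 IH) (Lpr_gf (K5.f127868 IH) (Lpe (K4.f65966 IH) (Lpe (K5.f90255 IH) (Lpr_df (K4.f90242 IH) (Lpr_gf (K2.f19164 IH) (Lpr_bf (K2.f9777 IH) (Lpe (K2.f66829 IH) (Lpe (K2.f66840 IH) (Lpe (K2.f94682 IH) (Lpr_bf (K2.f95711 IH) (Lpe (K3.f95720 IH) (Lpe (K3.f63500 IH) (Lpe (K3.f65102 IH) (Lpe (f15554 IH) (Lpe (f14050 IH) (Lpe (f14049 IH) (Lpe (f15552 IH) (Lpn (LP (LK LD1_c13 LD2_c0 LD3_c48))))))))))))))))))))))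
theorem f79454 : Led Lsl_bt (LP (LK LD1_c6 LD2_c49 LD3_c38)) = (LP (LK LD1_c13 LD2_c0 LD3_c60)) :=
  Lre_b IH (LK LD1_c6 LD2_c49 LD3_c38) (LK LD1_c13 LD2_c0 LD3_c60) Lrfl Lrfl
theorem f130439 : Led Lsl_ft (LP (LK LD1_c13 LD2_c0 LD3_c48)) = (LP (LK LD1_c6 LD2_c49 LD3_c38)) :=
  Lgr Lrot75 (Lpe (f127872 IH) (Lpr_ff (f130437 IH) (Lpe (f79454 IH) (Lpn (LP (LK LD1_c6 LD2_c49 LD3_c38))))))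
theorem f72604 : Led Lsl_gt (LP (LK LD1_c6 LD2_c49 LD3_c16)) = (LP (LK LD1_c13 LD2_c0 LD3_c47)) :=
  Lre_g IH (LK LD1_c6 LD2_c49 LD3_c16) (LK LD1_c13 LD2_c0 LD3_c47) Lrfl Lrfl
theorem f130473 : Led Lsl_af (LP (LK LD1_c13 LD2_c0 LD3_c47)) = (LP (LK LD1_c6 LD2_c49 LD3_c38)) :=
  Lgr Lrot31 (Lpe (f72604 IH) (Lpe (f15552 IH) (Lpr_ft (f130439 IH) (Lpn (LP (LK LD1_c6 LD2_c49 LD3_c38))))))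
theorem f14090 : Led Lsl_ct (LP (LK LD1_c13 LD2_c0 LD3_c47)) = (LP (LK LD1_c22 LD2_c11 LD3_c3)) :=
  Lre_c IH (LK LD1_c13 LD2_c0 LD3_c47) (LK LD1_c22 LD2_c11 LD3_c3) Lrfl Lrfl
theorem f40563 : Led Lsl_ct (LP (LK LD1_c13 LD2_c0 LD3_c61)) = (LP (LK LD1_c6 LD2_c49 LD3_c38)) :=
  Lre_c IH (LK LD1_c13 LD2_c0 LD3_c61) (LK LD1_c6 LD2_c49 LD3_c38) Lrfl Lrfl
theorem f130477 : Led Lsl_at (LP (LK LD1_c22 LD2_c11 LD3_c3)) = (LP (LK LD1_c13 LD2_c0 LD3_c61)) :=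
  Lgr Lrot107 (Lpe (f14090 IH) (Lpr_af (f130473 IH) (Lpe (f40563 IH) (Lpn (LP (LK LD1_c13 LD2_c0 LD3_c61))))))
theorem f72574 : Led Lsl_gt (LP (LK LD1_c1 LD2_c23 LD3_c35)) = (LP (LK LD1_c0 LD2_c38 LD3_c39)) :=
  Lre_g IH (LK LD1_c1 LD2_c23 LD3_c35) (LK LD1_c0 LD2_c38 LD3_c39) Lrfl Lrfl
theorem f72575 : Led Lsl_dt (LP (LK LD1_c2 LD2_c55 LD3_c16)) = (LP (LK LD1_c1 LD2_c23 LD3_c35)) :=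
  Lre_d IH (LK LD1_c2 LD2_c55 LD3_c16) (LK LD1_c1 LD2_c23 LD3_c35) Lrfl Lrfl
theorem f56865 : Led Lsl_bt (LP (LK LD1_c1 LD2_c4 LD3_c60)) = (LP (LK LD1_c0 LD2_c38 LD3_c47)) :=
  Lre_b IH (LK LD1_c1 LD2_c4 LD3_c60) (LK LD1_c0 LD2_c38 LD3_c47) Lrfl Lrfl
theorem f40709 : Led Lsl_gt (LP (LK LD1_c1 LD2_c8 LD3_c17)) = (LP (LK LD1_c0 LD2_c38 LD3_c47)) :=
  Lre_g IH (LK LD1_c1 LD2_c8 LD3_c17) (LK LD1_c0 LD2_c38 LD3_c47) Lrfl Lrfl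
theorem f40710 : Led Lsl_bt (LP (LK LD1_c2 LD2_c22 LD3_c15)) = (LP (LK LD1_c1 LD2_c8 LD3_c17)) :=
  Lre_b IH (LK LD1_c2 LD2_c22 LD3_c15) (LK LD1_c1 LD2_c8 LD3_c17) Lrfl Lrfl
theorem f56866 : Led Lsl_ct (LP (LK LD1_c2 LD2_c22 LD3_c15)) = (LP (LK LD1_c2 LD2_c27 LD3_c40)) :=
  Lgr Lrot63 (Lpr_bt (f40710 IH) (Lpr_gt (f40709 IH) (Lpe (f56865 IH) (Lpr_ct (K4.f56837 IH) (Lpr_gt (K4.f14354 IH) (Lpr_cf (K4.f56840 IH) (Lpr_bt (K4.f56839 IH) (Lpr_gt (K4.f56838 IH) (Lpr_ct (K4.f40688 IH) (Lpr_gt (K2.f14399 IH) (Lpn (LP (LK LD1_c2 LD2_c27 LD3_c40)))))))))))))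
theorem f72576 : Led Lsl_gf (LP (LK LD1_c2 LD2_c55 LD3_c16)) = (LP (LK LD1_c2 LD2_c22 LD3_c15)) :=
  Lgr Lrot144 (Lpr_dt (f72575 IH) (Lpr_gt (f72574 IH) (Lpr_dt (K2.f72467 IH) (Lpe (K2.f72468 IH) (Lpr_df (K2.f72542 IH) (Lpe (K2.f14023 IH) (Lpe (K2.f56881 IH) (Lpe (K2.f56880 IH) (Lpe (f56866 IH) (Lpn (LP (LK LD1_c2 LD2_c22 LD3_c15))))))))))))
theorem f72593 : Led Lsl_ct (LP (LK LD1_c5 LD2_c57 LD3_c51)) = (LP (LK LD1_c2 LD2_c55 LD3_c16)) :=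
  Lre_c IH (LK LD1_c5 LD2_c57 LD3_c51) (LK LD1_c2 LD2_c55 LD3_c16) Lrfl Lrfl
theorem f72594 : Led Lsl_bt (LP (LK LD1_c5 LD2_c57 LD3_c51)) = (LP (LK LD1_c11 LD2_c40 LD3_c28)) :=
  Lre_b IH (LK LD1_c5 LD2_c57 LD3_c51) (LK LD1_c11 LD2_c40 LD3_c28) Lrfl Lrfl
theorem f72595 : Led Lsl_gt (LP (LK LD1_c11 LD2_c40 LD3_c28)) = (LP (LK LD1_c20 LD2_c40 LD3_c25)) :=
  Lre_g IH (LK LD1_c11 LD2_c40 LD3_c28) (LK LD1_c20 LD2_c40 LD3_c25) Lrfl Lrfl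
theorem f56874 : Led Lsl_cf (LP (LK LD1_c2 LD2_c22 LD3_c15)) = (LP (LK LD1_c2 LD2_c27 LD3_c40)) :=
  Lgr Lrot11 (Lpr_ct (f56866 IH) (Lpn (LP (LK LD1_c2 LD2_c27 LD3_c40))))
theorem f14398 : Led Lsl_bt (LP (LK LD1_c9 LD2_c47 LD3_c18)) = (LP (LK LD1_c4 LD2_c58 LD3_c13)) :=
  Lre_b IH (LK LD1_c9 LD2_c47 LD3_c18) (LK LD1_c4 LD2_c58 LD3_c13) Lrfl Lrfl
theorem f14065 : Led Lsl_gt (LP (LK LD1_c13 LD2_c0 LD3_c47)) = (LP (LK LD1_c6 LD2_c49 LD3_c39)) :=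
  Lre_g IH (LK LD1_c13 LD2_c0 LD3_c47) (LK LD1_c6 LD2_c49 LD3_c39) Lrfl Lrfl
theorem f14066 : Led Lsl_ct (LP (LK LD1_c22 LD2_c11 LD3_c3)) = (LP (LK LD1_c13 LD2_c0 LD3_c47)) :=
  Lre_c IH (LK LD1_c22 LD2_c11 LD3_c3) (LK LD1_c13 LD2_c0 LD3_c47) Lrfl Lrfl
theorem f72596 : Led Lsl_bf (LP (LK LD1_c20 LD2_c40 LD3_c25)) = (LP (LK LD1_c22 LD2_c11 LD3_c3)) :=
  Lgr Lrot34 (Lpe (f72595 IH) (Lpe (f72594 IH) (Lpr_ct (f72593 IH) (Lpr_gf (f72576 IH) (Lpr_cf (f56874 IH) (Lpe (K2.f14399 IH) (Lpe (f14398 IH) (Lpr_ct (K0.f14038 IH) (Lpe (f14065 IH) (Lpe (f14066 IH) (Lpn (LP (LK LD1_c22 LD2_c11 LD3_c3)))))))))))))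
theorem f72602 : Led Lsl_bt (LP (LK LD1_c20 LD2_c40 LD3_c25)) = (LP (LK LD1_c22 LD2_c11 LD3_c3)) :=
  Lgr Lrot127 (Lpr_bf (f72596 IH) (Lpn (LP (LK LD1_c22 LD2_c11 LD3_c3))))
theorem f95267 : Led Lsl_bt (LP (LK LD1_c3 LD2_c14 LD3_c39)) = (LP (LK LD1_c6 LD2_c32 LD3_c48)) :=
  Lre_b IH (LK LD1_c3 LD2_c14 LD3_c39) (LK LD1_c6 LD2_c32 LD3_c48) Lrfl Lrfl
theorem f64551 : Led Lsl_bt (LP (LK LD1_c6 LD2_c36 LD3_c20)) = (LP (LK LD1_c3 LD2_c16 LD3_c30)) :=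
  Lre_b IH (LK LD1_c6 LD2_c36 LD3_c20) (LK LD1_c3 LD2_c16 LD3_c30) Lrfl Lrfl
theorem f78708 : Led Lsl_bt (LP (LK LD1_c3 LD2_c16 LD3_c30)) = (LP (LK LD1_c6 LD2_c36 LD3_c20)) :=
  Lre_b IH (LK LD1_c3 LD2_c16 LD3_c30) (LK LD1_c6 LD2_c36 LD3_c20) Lrfl Lrfl
theorem f15038 : Led Lsl_bt (LP (LK LD1_c3 LD2_c23 LD3_c6)) = (LP (LK LD1_c1 LD2_c37 LD3_c59)) :=
  Lre_b IH (LK LD1_c3 LD2_c23 LD3_c6) (LK LD1_c1 LD2_c37 LD3_c59) Lrfl Lrfl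
theorem f78709 : Led Lsl_ct (LP (LK LD1_c6 LD2_c36 LD3_c20)) = (LP (LK LD1_c3 LD2_c23 LD3_c6)) :=
  Lgr Lrot83 (Lpe (f78708 IH) (Lpr_cf (K2.f78157 IH) (Lpe (K3.f17130 IH) (Lpe (f15027 IH) (Lpe (f15038 IH) (Lpn (LP (LK LD1_c3 LD2_c23 LD3_c6))))))))
theorem f114930 : Led Lsl_bf (LP (LK LD1_c12 LD2_c32 LD3_c60)) = (LP (LK LD1_c13 LD2_c0 LD3_c61)) :=
  Lgr Lrot34 (Lpe (K5.f95271 IH) (Lpe (f95267 IH) (Lpr_ct (K4.f24390 IH) (Lpr_gf (K4.f114920 IH) (Lpe (K2.f14702 IH) (Lpe (K2.f64550 IH) (Lpe (f64551 IH) (Lpr_ct (f78709 IH) (Lpe (f40559 IH) (Lpe (f40563 IH) (Lpn (LP (LK LD1_c13 LD2_c0 LD3_c61)))))))))))))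
theorem f130481 : Led Lsl_af (LP (LK LD1_c20 LD2_c40 LD3_c25)) = (LP (LK LD1_c14 LD2_c11 LD3_c31)) :=
  Lgr Lrot36 (Lpr_bt (f72602 IH) (Lpr_at (f130477 IH) (Lpe (f114930 IH) (Lpr_at (K5.f127664 IH) (Lpe (f93425 IH) (Lpn (LP (LK LD1_c14 LD2_c11 LD3_c31))))))))
theorem f130483 : Led Lsl_at (LP (LK LD1_c20 LD2_c40 LD3_c25)) = (LP (LK LD1_c14 LD2_c11 LD3_c31)) :=
  Lgr Lrot100 (Lpr_af (f130481 IH) (Lpn (LP (LK LD1_c14 LD2_c11 LD3_c31))))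
theorem f94976 : Led Lsl_et (LP (LK LD1_c12 LD2_c14 LD3_c57)) = (LP (LK LD1_c21 LD2_c20 LD3_c40)) :=
  Lre_e IH (LK LD1_c12 LD2_c14 LD3_c57) (LK LD1_c21 LD2_c20 LD3_c40) Lrfl Lrfl
theorem f141439 : Led Lsl_et (LP (LK LD1_c12 LD2_c35 LD3_c21)) = (LP (LK LD1_c6 LD2_c34 LD3_c29)) :=
  Lre_e IH (LK LD1_c12 LD2_c35 LD3_c21) (LK LD1_c6 LD2_c34 LD3_c29) Lrfl Lrfl
theorem f141440 : Led Lsl_af (LP (LK LD1_c12 LD2_c14 LD3_c57)) = (LP (LK LD1_c6 LD2_c34 LD3_c29)) :=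
  Lgr Lrot50 (Lpr_et (f94976 IH) (Lpr_at (f141431 IH) (Lpr_et (f141439 IH) (Lpn (LP (LK LD1_c6 LD2_c34 LD3_c29))))))
theorem f61865 : Led Lsl_bf (LP (LK LD1_c0 LD2_c41 LD3_c38)) = (LP (LK LD1_c1 LD2_c24 LD3_c23)) :=
  Lgr Lrot90 (Lpr_ct (K5.f61864 IH) (Lpr_bt (K3.f58914 IH) (Lpr_ct (K1.f61823 IH) (Lpr_bt (f61830 IH) (Lpr_ct (f56760 IH) (Lpn (LP (LK LD1_c1 LD2_c24 LD3_c23))))))))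
theorem f69450 : Led Lsl_ct (LP (LK LD1_c2 LD2_c54 LD3_c12)) = (LP (LK LD1_c1 LD2_c23 LD3_c5)) :=
  Lre_c IH (LK LD1_c2 LD2_c54 LD3_c12) (LK LD1_c1 LD2_c23 LD3_c5) Lrfl Lrfl
theorem f71956 : Led Lsl_bt (LP (LK LD1_c2 LD2_c54 LD3_c12)) = (LP (LK LD1_c5 LD2_c55 LD3_c42)) :=
  Lre_b IH (LK LD1_c2 LD2_c54 LD3_c12) (LK LD1_c5 LD2_c55 LD3_c42) Lrfl Lrfl
theorem f94935 : Led Lsl_gt (LP (LK LD1_c6 LD2_c37 LD3_c23)) = (LP (LK LD1_c5 LD2_c55 LD3_c42)) :=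
  Lgr Lrot164 (Lpe (K4.f77869 IH) (Lpr_ct (f77865 IH) (Lpr_gf (K3.f94933 IH) (Lpr_cf (K3.f91414 IH) (Lpe (K3.f61831 IH) (Lpr_bf (f61865 IH) (Lpr_ct (K4.f56779 IH) (Lpr_gf (f81997 IH) (Lpe (f69450 IH) (Lpr_bt (f71956 IH) (Lpn (LP (LK LD1_c5 LD2_c55 LD3_c42)))))))))))))
theorem f91443 : Led Lsl_bt (LP (LK LD1_c12 LD2_c14 LD3_c57)) = (LP (LK LD1_c6 LD2_c20 LD3_c8)) :=
  Lre_b IH (LK LD1_c12 LD2_c14 LD3_c57) (LK LD1_c6 LD2_c20 LD3_c8) Lrfl Lrfl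
theorem f57075 : Led Lsl_bt (LP (LK LD1_c9 LD2_c49 LD3_c7)) = (LP (LK LD1_c4 LD2_c59 LD3_c22)) :=
  Lre_b IH (LK LD1_c9 LD2_c49 LD3_c7) (LK LD1_c4 LD2_c59 LD3_c22) Lrfl Lrfl
theorem f71953 : Led Lsl_ct (LP (LK LD1_c1 LD2_c23 LD3_c5)) = (LP (LK LD1_c2 LD2_c54 LD3_c12)) :=
  Lre_c IH (LK LD1_c1 LD2_c23 LD3_c5) (LK LD1_c2 LD2_c54 LD3_c12) Lrfl Lrfl
theorem f81958 : Led Lsl_cf (LP (LK LD1_c9 LD2_c49 LD3_c7)) = (LP (LK LD1_c5 LD2_c55 LD3_c42)) :=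
  Lgr Lrot97 (Lpr_bt (f57075 IH) (Lpr_ct (f81953 IH) (Lpr_bt (f81957 IH) (Lpr_ct (f71953 IH) (Lpr_bt (f71956 IH) (Lpn (LP (LK LD1_c5 LD2_c55 LD3_c42))))))))
theorem f81967 : Led Lsl_gt (LP (LK LD1_c9 LD2_c49 LD3_c7)) = (LP (LK LD1_c17 LD2_c59 LD3_c34)) :=
  Lre_g IH (LK LD1_c9 LD2_c49 LD3_c7) (LK LD1_c17 LD2_c59 LD3_c34) Lrfl Lrfl
theorem f94937 : Led Lsl_ct (LP (LK LD1_c12 LD2_c14 LD3_c57)) = (LP (LK LD1_c17 LD2_c59 LD3_c34)) :=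
  Lgr Lrot63 (Lpr_bt (f91443 IH) (Lpr_gt (f91442 IH) (Lpe (K5.f91411 IH) (Lpe (K3.f91414 IH) (Lpe (K3.f94933 IH) (Lpe (f77865 IH) (Lpr_bt (K4.f77869 IH) (Lpr_gt (f94935 IH) (Lpe (f81958 IH) (Lpr_gt (f81967 IH) (Lpn (LP (LK LD1_c17 LD2_c59 LD3_c34)))))))))))))
theorem f127645 : Led Lsl_ct (LP (LK LD1_c12 LD2_c35 LD3_c20)) = (LP (LK LD1_c6 LD2_c34 LD3_c29)) :=
  Lre_c IH (LK LD1_c12 LD2_c35 LD3_c20) (LK LD1_c6 LD2_c34 LD3_c29) Lrfl Lrfl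
theorem f141445 : Led Lsl_at (LP (LK LD1_c17 LD2_c59 LD3_c34)) = (LP (LK LD1_c12 LD2_c35 LD3_c20)) :=
  Lgr Lrot107 (Lpe (f94937 IH) (Lpr_af (f141440 IH) (Lpe (f127645 IH) (Lpn (LP (LK LD1_c12 LD2_c35 LD3_c20))))))
theorem f141447 : Led Lsl_af (LP (LK LD1_c17 LD2_c59 LD3_c34)) = (LP (LK LD1_c12 LD2_c35 LD3_c20)) :=
  Lgr Lrot0 (Lpr_at (f141445 IH) (Lpn (LP (LK LD1_c12 LD2_c35 LD3_c20))))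
theorem f141522 : Led Lsl_ff (LP (LK LD1_c20 LD2_c40 LD3_c25)) = (LP (LK LD1_c17 LD2_c59 LD3_c34)) :=
  Lgr Lrot30 (Lpr_at (f130483 IH) (Lpr_ft (f141520 IH) (Lpe (f141447 IH) (Lpn (LP (LK LD1_c17 LD2_c59 LD3_c34))))))
theorem f63808 : Led Lsl_bt (LP (LK LD1_c1 LD2_c35 LD3_c33)) = (LP (LK LD1_c2 LD2_c16 LD3_c10)) :=
  Lre_b IH (LK LD1_c1 LD2_c35 LD3_c33) (LK LD1_c2 LD2_c16 LD3_c10) Lrfl Lrfl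
theorem f65014 : Led Lsl_gt (LP (LK LD1_c2 LD2_c16 LD3_c10)) = (LP (LK LD1_c4 LD2_c38 LD3_c7)) :=
  Lre_g IH (LK LD1_c2 LD2_c16 LD3_c10) (LK LD1_c4 LD2_c38 LD3_c7) Lrfl Lrfl
theorem f15578 : Led Lsl_bt (LP (LK LD1_c9 LD2_c11 LD3_c55)) = (LP (LK LD1_c4 LD2_c38 LD3_c7)) :=
  Lre_b IH (LK LD1_c9 LD2_c11 LD3_c55) (LK LD1_c4 LD2_c38 LD3_c7) Lrfl Lrfl
theorem f15579 : Led Lsl_ct (LP (LK LD1_c9 LD2_c11 LD3_c55)) = (LP (LK LD1_c17 LD2_c5 LD3_c43)) :=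
  Lre_c IH (LK LD1_c9 LD2_c11 LD3_c55) (LK LD1_c17 LD2_c5 LD3_c43) Lrfl Lrfl
theorem f93391 : Led Lsl_ct (LP (LK LD1_c7 LD2_c31 LD3_c6)) = (LP (LK LD1_c14 LD2_c11 LD3_c31)) :=
  Lre_c IH (LK LD1_c7 LD2_c31 LD3_c6) (LK LD1_c14 LD2_c11 LD3_c31) Lrfl Lrfl
theorem f96246 : Led Lsl_gt (LP (LK LD1_c17 LD2_c5 LD3_c43)) = (LP (LK LD1_c14 LD2_c11 LD3_c31)) :=
  Lgr Lrot65 (Lpe (f15579 IH) (Lpr_bt (f15578 IH) (Lpe (f65014 IH) (Lpe (f63808 IH) (Lpr_ct (K3.f63731 IH) (Lpr_gf (K1.f65003 IH) (Lpr_cf (K3.f96232 IH) (Lpr_gf (K5.f96120 IH) (Lpe (f93423 IH) (Lpr_ct (f93391 IH) (Lpn (LP (LK LD1_c14 LD2_c11 LD3_c31)))))))))))))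
theorem f141547 : Led Lsl_gf (LP (LK LD1_c17 LD2_c5 LD3_c43)) = (LP (LK LD1_c17 LD2_c59 LD3_c34)) :=
  Lgr Lrot47 (Lpr_gt (f96246 IH) (Lpe (f130483 IH) (Lpr_ff (f141522 IH) (Lpn (LP (LK LD1_c17 LD2_c59 LD3_c34))))))
theorem f75058 : Led Lsl_ct (LP (LK LD1_c17 LD2_c5 LD3_c43)) = (LP (LK LD1_c9 LD2_c11 LD3_c55)) :=
  Lre_c IH (LK LD1_c17 LD2_c5 LD3_c43) (LK LD1_c9 LD2_c11 LD3_c55) Lrfl Lrfl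
theorem f141524 : Led Lsl_ff (LP (LK LD1_c14 LD2_c11 LD3_c31)) = (LP (LK LD1_c12 LD2_c35 LD3_c20)) :=
  Lgr Lrot3 (Lpr_ft (f141520 IH) (Lpn (LP (LK LD1_c12 LD2_c35 LD3_c20))))
theorem f103939 : Led Lsl_ct (LP (LK LD1_c6 LD2_c34 LD3_c29)) = (LP (LK LD1_c12 LD2_c35 LD3_c20)) :=
  Lre_c IH (LK LD1_c6 LD2_c34 LD3_c29) (LK LD1_c12 LD2_c35 LD3_c20) Lrfl Lrfl
theorem f141530 : Led Lsl_ft (LP (LK LD1_c7 LD2_c31 LD3_c6)) = (LP (LK LD1_c6 LD2_c34 LD3_c29)) :=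
  Lgr Lrot4 (Lpe (f93424 IH) (Lpr_ff (f141524 IH) (Lpe (f103939 IH) (Lpn (LP (LK LD1_c6 LD2_c34 LD3_c29))))))
theorem f93388 : Led Lsl_gt (LP (LK LD1_c7 LD2_c31 LD3_c6)) = (LP (LK LD1_c14 LD2_c11 LD3_c30)) :=
  Lre_g IH (LK LD1_c7 LD2_c31 LD3_c6) (LK LD1_c14 LD2_c11 LD3_c30) Lrfl Lrfl
theorem f141537 : Led Lsl_gt (LP (LK LD1_c14 LD2_c11 LD3_c30)) = (LP (LK LD1_c12 LD2_c14 LD3_c57)) :=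
  Lgr Lrot46 (Lpe (f93388 IH) (Lpr_ft (f141530 IH) (Lpe (f141440 IH) (Lpn (LP (LK LD1_c12 LD2_c14 LD3_c57))))))
theorem f118749 : Led Lsl_ff (LP (LK LD1_c3 LD2_c7 LD3_c28)) = (LP (LK LD1_c3 LD2_c17 LD3_c0)) :=
  Lgr Lrot30 (Lpr_at (K5.f118734 IH) (Lpe (K4.f118690 IH) (Lpr_at (K5.f77975 IH) (Lpn (LP (LK LD1_c3 LD2_c17 LD3_c0))))))
theorem f118704 : Led Lsl_bt (LP (LK LD1_c3 LD2_c7 LD3_c28)) = (LP (LK LD1_c6 LD2_c19 LD3_c50)) :=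
  Lre_b IH (LK LD1_c3 LD2_c7 LD3_c28) (LK LD1_c6 LD2_c19 LD3_c50) Lrfl Lrfl
theorem f77866 : Led Lsl_bt (LP (LK LD1_c6 LD2_c37 LD3_c23)) = (LP (LK LD1_c3 LD2_c17 LD3_c0)) :=
  Lre_b IH (LK LD1_c6 LD2_c37 LD3_c23) (LK LD1_c3 LD2_c17 LD3_c0) Lrfl Lrfl
theorem f118751 : Led Lsl_ft (LP (LK LD1_c6 LD2_c19 LD3_c50)) = (LP (LK LD1_c6 LD2_c37 LD3_c23)) :=
  Lgr Lrot75 (Lpe (f118704 IH) (Lpr_ff (f118749 IH) (Lpe (f77866 IH) (Lpn (LP (LK LD1_c6 LD2_c37 LD3_c23))))))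
theorem f118756 : Led Lsl_ff (LP (LK LD1_c6 LD2_c19 LD3_c50)) = (LP (LK LD1_c6 LD2_c37 LD3_c23)) :=
  Lgr Lrot3 (Lpr_ft (f118751 IH) (Lpn (LP (LK LD1_c6 LD2_c37 LD3_c23))))
theorem f78773 : Led Lsl_bt (LP (LK LD1_c3 LD2_c16 LD3_c28)) = (LP (LK LD1_c6 LD2_c36 LD3_c16)) :=
  Lre_b IH (LK LD1_c3 LD2_c16 LD3_c28) (LK LD1_c6 LD2_c36 LD3_c16) Lrfl Lrfl
theorem f79025 : Led Lsl_ft (LP (LK LD1_c6 LD2_c36 LD3_c16)) = (LP (LK LD1_c6 LD2_c21 LD3_c7)) :=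
  Lgr Lrot75 (Lpe (f78773 IH) (Lpr_ff (K2.f79023 IH) (Lpe (K4.f78137 IH) (Lpn (LP (LK LD1_c6 LD2_c21 LD3_c7))))))
theorem f118758 : Led Lsl_ct (LP (LK LD1_c6 LD2_c19 LD3_c50)) = (LP (LK LD1_c6 LD2_c36 LD3_c16)) :=
  Lgr Lrot40 (Lpr_ff (f118756 IH) (Lpr_cf (K4.f79366 IH) (Lpe (f79025 IH) (Lpn (LP (LK LD1_c6 LD2_c36 LD3_c16))))))
theorem f104272 : Led Lsl_bt (LP (LK LD1_c6 LD2_c19 LD3_c50)) = (LP (LK LD1_c3 LD2_c7 LD3_c28)) :=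
  Lre_b IH (LK LD1_c6 LD2_c19 LD3_c50) (LK LD1_c3 LD2_c7 LD3_c28) Lrfl Lrfl
theorem f93390 : Led Lsl_bt (LP (LK LD1_c3 LD2_c45 LD3_c10)) = (LP (LK LD1_c7 LD2_c31 LD3_c6)) :=
  Lre_b IH (LK LD1_c3 LD2_c45 LD3_c10) (LK LD1_c7 LD2_c31 LD3_c6) Lrfl Lrfl
theorem f79437 : Led Lsl_gt (LP (LK LD1_c12 LD2_c38 LD3_c38)) = (LP (LK LD1_c6 LD2_c36 LD3_c16)) :=
  Lre_g IH (LK LD1_c12 LD2_c38 LD3_c38) (LK LD1_c6 LD2_c36 LD3_c16) Lrfl Lrfl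
theorem f118833 : Led Lsl_ct (LP (LK LD1_c14 LD2_c11 LD3_c30)) = (LP (LK LD1_c12 LD2_c38 LD3_c38)) :=
  Lgr Lrot91 (Lpe (f93388 IH) (Lpe (f93390 IH) (Lpr_ct (K3.f93394 IH) (Lpe (K3.f87187 IH) (Lpr_cf (K2.f65687 IH) (Lpr_bt (f104232 IH) (Lpe (K5.f61929 IH) (Lpe (f104272 IH) (Lpr_ct (f118758 IH) (Lpe (f79437 IH) (Lpn (LP (LK LD1_c12 LD2_c38 LD3_c38)))))))))))))
theorem f118835 : Led Lsl_cf (LP (LK LD1_c14 LD2_c11 LD3_c30)) = (LP (LK LD1_c12 LD2_c38 LD3_c38)) :=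
  Lgr Lrot11 (Lpr_ct (f118833 IH) (Lpn (LP (LK LD1_c12 LD2_c38 LD3_c38))))
theorem f79430 : Led Lsl_ff (LP (LK LD1_c12 LD2_c38 LD3_c39)) = (LP (LK LD1_c12 LD2_c16 LD3_c16)) :=
  Lgr Lrot3 (Lpr_ft (K4.f79423 IH) (Lpn (LP (LK LD1_c12 LD2_c16 LD3_c16))))
theorem f79435 : Led Lsl_at (LP (LK LD1_c12 LD2_c38 LD3_c39)) = (LP (LK LD1_c6 LD2_c36 LD3_c16)) :=
  Lre_a IH (LK LD1_c12 LD2_c38 LD3_c39) (LK LD1_c6 LD2_c36 LD3_c16) Lrfl Lrfl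
theorem f79438 : Led Lsl_gf (LP (LK LD1_c12 LD2_c38 LD3_c38)) = (LP (LK LD1_c12 LD2_c16 LD3_c16)) :=
  Lgr Lrot47 (Lpr_gt (f79437 IH) (Lpe (f79435 IH) (Lpr_ff (f79430 IH) (Lpn (LP (LK LD1_c12 LD2_c16 LD3_c16))))))
theorem f117899 : Led Lsl_bt (LP (LK LD1_c11 LD2_c48 LD3_c60)) = (LP (LK LD1_c12 LD2_c16 LD3_c16)) :=
  Lgr Lrot127 (Lpr_bf (K4.f117808 IH) (Lpn (LP (LK LD1_c12 LD2_c16 LD3_c16))))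
theorem f64548 : Led Lsl_bt (LP (LK LD1_c6 LD2_c2 LD3_c21)) = (LP (LK LD1_c11 LD2_c49 LD3_c1)) :=
  Lre_b IH (LK LD1_c6 LD2_c2 LD3_c21) (LK LD1_c11 LD2_c49 LD3_c1) Lrfl Lrfl
theorem f130475 : Led Lsl_at (LP (LK LD1_c13 LD2_c0 LD3_c47)) = (LP (LK LD1_c6 LD2_c49 LD3_c38)) :=
  Lgr Lrot100 (Lpr_af (f130473 IH) (Lpn (LP (LK LD1_c6 LD2_c49 LD3_c38))))
theorem f40525 : Led Lsl_ft (LP (LK LD1_c8 LD2_c0 LD3_c20)) = (LP (LK LD1_c6 LD2_c49 LD3_c39)) :=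
  Lgr Lrot101 (Lpr_af (f40419 IH) (Lpe (f17117 IH) (Lpe (f14387 IH) (Lpn (LP (LK LD1_c6 LD2_c49 LD3_c39))))))
theorem f40560 : Led Lsl_gt (LP (LK LD1_c8 LD2_c0 LD3_c20)) = (LP (LK LD1_c6 LD2_c49 LD3_c38)) :=
  Lgr Lrot5 (Lpr_ft (f40525 IH) (Lpr_at (f14387 IH) (Lpe (f40559 IH) (Lpn (LP (LK LD1_c6 LD2_c49 LD3_c38))))))
theorem f130491 : Led Lsl_ff (LP (LK LD1_c13 LD2_c0 LD3_c47)) = (LP (LK LD1_c6 LD2_c49 LD3_c37)) :=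
  Lgr Lrot52 (Lpr_at (f130475 IH) (Lpe (f40560 IH) (Lpr_gf (f40527 IH) (Lpn (LP (LK LD1_c6 LD2_c49 LD3_c37))))))
theorem f130497 : Led Lsl_ft (LP (LK LD1_c13 LD2_c0 LD3_c47)) = (LP (LK LD1_c6 LD2_c49 LD3_c37)) :=
  Lgr Lrot48 (Lpr_ff (f130491 IH) (Lpn (LP (LK LD1_c6 LD2_c49 LD3_c37))))
theorem f40546 : Led Lsl_ct (LP (LK LD1_c6 LD2_c49 LD3_c37)) = (LP (LK LD1_c13 LD2_c0 LD3_c58)) :=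
  Lre_c IH (LK LD1_c6 LD2_c49 LD3_c37) (LK LD1_c13 LD2_c0 LD3_c58) Lrfl Lrfl
theorem f130501 : Led Lsl_ff (LP (LK LD1_c22 LD2_c11 LD3_c3)) = (LP (LK LD1_c13 LD2_c0 LD3_c58)) :=
  Lgr Lrot23 (Lpr_ct (f14066 IH) (Lpr_ft (f130497 IH) (Lpr_ct (f40546 IH) (Lpn (LP (LK LD1_c13 LD2_c0 LD3_c58))))))
theorem f79452 : Led Lsl_gt (LP (LK LD1_c11 LD2_c49 LD3_c1)) = (LP (LK LD1_c13 LD2_c0 LD3_c61)) :=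
  Lgr Lrot82 (Lpe (f64548 IH) (Lpr_ct (K4.f64547 IH) (Lpr_gf (K4.f64482 IH) (Lpe (K4.f64538 IH) (Lpr_bt (K5.f64549 IH) (Lpe (K2.f64550 IH) (Lpe (f64551 IH) (Lpr_ct (f78709 IH) (Lpe (f40559 IH) (Lpe (f40563 IH) (Lpn (LP (LK LD1_c13 LD2_c0 LD3_c61)))))))))))))
theorem f130504 : Led Lsl_gf (LP (LK LD1_c11 LD2_c49 LD3_c1)) = (LP (LK LD1_c13 LD2_c0 LD3_c58)) :=
  Lgr Lrot47 (Lpr_gt (f79452 IH) (Lpe (f130477 IH) (Lpr_ff (f130501 IH) (Lpn (LP (LK LD1_c13 LD2_c0 LD3_c58))))))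
theorem f94973 : Led Lsl_cf (LP (LK LD1_c12 LD2_c14 LD3_c57)) = (LP (LK LD1_c17 LD2_c59 LD3_c34)) :=
  Lgr Lrot11 (Lpr_ct (f94937 IH) (Lpn (LP (LK LD1_c17 LD2_c59 LD3_c34))))
theorem f141539 : Led Lsl_bf (LP (LK LD1_c13 LD2_c0 LD3_c58)) = (LP (LK LD1_c17 LD2_c59 LD3_c34)) :=
  Lgr Lrot156 (Lpe (f130504 IH) (Lpe (f64548 IH) (Lpr_ct (K4.f64547 IH) (Lpr_gt (K4.f56778 IH) (Lpe (K4.f117685 IH) (Lpr_bt (f117899 IH) (Lpe (f79438 IH) (Lpe (f118835 IH) (Lpr_gt (f141537 IH) (Lpr_cf (f94973 IH) (Lpn (LP (LK LD1_c17 LD2_c59 LD3_c34)))))))))))))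
theorem f141541 : Led Lsl_bt (LP (LK LD1_c13 LD2_c0 LD3_c58)) = (LP (LK LD1_c17 LD2_c59 LD3_c34)) :=
  Lgr Lrot127 (Lpr_bf (f141539 IH) (Lpn (LP (LK LD1_c17 LD2_c59 LD3_c34))))
theorem f141549 : Led Lsl_gt (LP (LK LD1_c9 LD2_c11 LD3_c55)) = (LP (LK LD1_c6 LD2_c37 LD3_c23)) :=
  Lgr Lrot149 (Lpe (f75058 IH) (Lpr_gf (f141547 IH) (Lpe (f141541 IH) (Lpr_ct (f40540 IH) (Lpe (f23358 IH) (Lpe (f78709 IH) (Lpr_bt (f64551 IH) (Lpr_gf (K2.f79021 IH) (Lpe (K4.f78137 IH) (Lpe (K4.f79366 IH) (Lpn (LP (LK LD1_c6 LD2_c37 LD3_c23)))))))))))))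
theorem f79363 : Led Lsl_at (LP (LK LD1_c12 LD2_c40 LD3_c37)) = (LP (LK LD1_c6 LD2_c37 LD3_c23)) :=
  Lre_a IH (LK LD1_c12 LD2_c40 LD3_c37) (LK LD1_c6 LD2_c37 LD3_c23) Lrfl Lrfl
theorem f71957 : Led Lsl_gt (LP (LK LD1_c5 LD2_c55 LD3_c42)) = (LP (LK LD1_c11 LD2_c36 LD3_c37)) :=
  Lre_g IH (LK LD1_c5 LD2_c55 LD3_c42) (LK LD1_c11 LD2_c36 LD3_c37) Lrfl Lrfl
theorem f118760 : Led Lsl_at (LP (LK LD1_c6 LD2_c19 LD3_c50)) = (LP (LK LD1_c11 LD2_c36 LD3_c37)) :=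
  Lgr Lrot26 (Lpr_ff (f118756 IH) (Lpr_gt (f94935 IH) (Lpr_gt (f71957 IH) (Lpn (LP (LK LD1_c11 LD2_c36 LD3_c37))))))
theorem f118771 : Led Lsl_ff (LP (LK LD1_c12 LD2_c40 LD3_c37)) = (LP (LK LD1_c11 LD2_c36 LD3_c37)) :=
  Lgr Lrot30 (Lpr_at (f79363 IH) (Lpe (f118756 IH) (Lpr_at (f118760 IH) (Lpn (LP (LK LD1_c11 LD2_c36 LD3_c37))))))
theorem f141551 : Led Lsl_gf (LP (LK LD1_c9 LD2_c11 LD3_c55)) = (LP (LK LD1_c11 LD2_c36 LD3_c37)) :=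
  Lgr Lrot47 (Lpr_gt (f141549 IH) (Lpe (f79363 IH) (Lpr_ff (f118771 IH) (Lpn (LP (LK LD1_c11 LD2_c36 LD3_c37))))))
theorem f96242 : Led Lsl_bt (LP (LK LD1_c6 LD2_c10 LD3_c32)) = (LP (LK LD1_c3 LD2_c1 LD3_c55)) :=
  Lre_b IH (LK LD1_c6 LD2_c10 LD3_c32) (LK LD1_c3 LD2_c1 LD3_c55) Lrfl Lrfl
theorem f79376 : Led Lsl_bt (LP (LK LD1_c12 LD2_c40 LD3_c37)) = (LP (LK LD1_c6 LD2_c37 LD3_c27)) :=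
  Lre_b IH (LK LD1_c12 LD2_c40 LD3_c37) (LK LD1_c6 LD2_c37 LD3_c27) Lrfl Lrfl
theorem f118669 : Led Lsl_at (LP (LK LD1_c3 LD2_c17 LD3_c2)) = (LP (LK LD1_c6 LD2_c37 LD3_c27)) :=
  Lre_a IH (LK LD1_c3 LD2_c17 LD3_c2) (LK LD1_c6 LD2_c37 LD3_c27) Lrfl Lrfl
theorem f117067 : Led Lsl_at (LP (LK LD1_c12 LD2_c36 LD3_c29)) = (LP (LK LD1_c6 LD2_c35 LD3_c11)) :=
  Lre_a IH (LK LD1_c12 LD2_c36 LD3_c29) (LK LD1_c6 LD2_c35 LD3_c11) Lrfl Lrfl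
theorem f118670 : Led Lsl_ft (LP (LK LD1_c6 LD2_c37 LD3_c27)) = (LP (LK LD1_c12 LD2_c36 LD3_c29)) :=
  Lgr Lrot101 (Lpe (f118669 IH) (Lpr_ff (K4.f118655 IH) (Lpe (f117067 IH) (Lpn (LP (LK LD1_c12 LD2_c36 LD3_c29))))))
theorem f118773 : Led Lsl_bt (LP (LK LD1_c12 LD2_c36 LD3_c29)) = (LP (LK LD1_c11 LD2_c36 LD3_c37)) :=
  Lgr Lrot35 (Lpe (f118670 IH) (Lpe (f79376 IH) (Lpr_ff (f118771 IH) (Lpn (LP (LK LD1_c11 LD2_c36 LD3_c37))))))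
theorem f118663 : Led Lsl_ct (LP (LK LD1_c12 LD2_c36 LD3_c29)) = (LP (LK LD1_c6 LD2_c35 LD3_c14)) :=
  Lre_c IH (LK LD1_c12 LD2_c36 LD3_c29) (LK LD1_c6 LD2_c35 LD3_c14) Lrfl Lrfl
theorem f61941 : Led Lsl_gt (LP (LK LD1_c1 LD2_c35 LD3_c11)) = (LP (LK LD1_c3 LD2_c17 LD3_c8)) :=
  Lre_g IH (LK LD1_c1 LD2_c35 LD3_c11) (LK LD1_c3 LD2_c17 LD3_c8) Lrfl Lrfl
theorem f118652 : Led Lsl_at (LP (LK LD1_c3 LD2_c15 LD3_c59)) = (LP (LK LD1_c6 LD2_c35 LD3_c14)) :=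
  Lre_a IH (LK LD1_c3 LD2_c15 LD3_c59) (LK LD1_c6 LD2_c35 LD3_c14) Lrfl Lrfl
theorem f118661 : Led Lsl_gt (LP (LK LD1_c3 LD2_c17 LD3_c8)) = (LP (LK LD1_c6 LD2_c35 LD3_c14)) :=
  Lgr Lrot46 (Lpe (f61941 IH) (Lpr_ft (K4.f118650 IH) (Lpr_at (f118652 IH) (Lpn (LP (LK LD1_c6 LD2_c35 LD3_c14))))))
theorem f141558 : Led Lsl_ct (LP (LK LD1_c6 LD2_c10 LD3_c32)) = (LP (LK LD1_c3 LD2_c17 LD3_c8)) :=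
  Lgr Lrot64 (Lpr_bt (f96242 IH) (Lpr_gf (K5.f96120 IH) (Lpe (f93423 IH) (Lpr_ct (f93391 IH) (Lpe (f96246 IH) (Lpe (f15579 IH) (Lpr_gf (f141551 IH) (Lpe (f118773 IH) (Lpr_ct (f118663 IH) (Lpe (f118661 IH) (Lpn (LP (LK LD1_c3 LD2_c17 LD3_c8)))))))))))))
theorem f65361 : Led Lsl_ct (LP (LK LD1_c6 LD2_c35 LD3_c2)) = (LP (LK LD1_c3 LD2_c15 LD3_c53)) :=
  Lre_c IH (LK LD1_c6 LD2_c35 LD3_c2) (LK LD1_c3 LD2_c15 LD3_c53) Lrfl Lrfl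
theorem f141568 : Led Lsl_ff (LP (LK LD1_c6 LD2_c35 LD3_c2)) = (LP (LK LD1_c3 LD2_c17 LD3_c8)) :=
  Lgr Lrot23 (Lpr_ct (f65361 IH) (Lpr_ft (K4.f115611 IH) (Lpr_ct (f141558 IH) (Lpn (LP (LK LD1_c3 LD2_c17 LD3_c8))))))
theorem f141572 : Led Lsl_ft (LP (LK LD1_c6 LD2_c35 LD3_c2)) = (LP (LK LD1_c3 LD2_c17 LD3_c8)) :=
  Lgr Lrot48 (Lpr_ff (f141568 IH) (Lpn (LP (LK LD1_c3 LD2_c17 LD3_c8))))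
theorem f65285 : Led Lsl_ct (LP (LK LD1_c1 LD2_c52 LD3_c29)) = (LP (LK LD1_c3 LD2_c15 LD3_c55)) :=
  Lgr Lrot59 (Lpr_cf (K4.f65273 IH) (Lpn (LP (LK LD1_c3 LD2_c15 LD3_c55))))
theorem f65332 : Led Lsl_bt (LP (LK LD1_c3 LD2_c51 LD3_c16)) = (LP (LK LD1_c1 LD2_c52 LD3_c29)) :=
  Lre_b IH (LK LD1_c3 LD2_c51 LD3_c16) (LK LD1_c1 LD2_c52 LD3_c29) Lrfl Lrfl
theorem f65333 : Led Lsl_ct (LP (LK LD1_c7 LD2_c43 LD3_c58)) = (LP (LK LD1_c3 LD2_c51 LD3_c16)) :=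
  Lre_c IH (LK LD1_c7 LD2_c43 LD3_c58) (LK LD1_c3 LD2_c51 LD3_c16) Lrfl Lrfl
theorem f65309 : Led Lsl_bt (LP (LK LD1_c3 LD2_c15 LD3_c55)) = (LP (LK LD1_c6 LD2_c35 LD3_c3)) :=
  Lre_b IH (LK LD1_c3 LD2_c15 LD3_c55) (LK LD1_c6 LD2_c35 LD3_c3) Lrfl Lrfl
theorem f65334 : Led Lsl_ct (LP (LK LD1_c6 LD2_c35 LD3_c3)) = (LP (LK LD1_c12 LD2_c36 LD3_c12)) :=
  Lre_c IH (LK LD1_c6 LD2_c35 LD3_c3) (LK LD1_c12 LD2_c36 LD3_c12) Lrfl Lrfl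
theorem f65335 : Led Lsl_bf (LP (LK LD1_c7 LD2_c43 LD3_c58)) = (LP (LK LD1_c12 LD2_c36 LD3_c12)) :=
  Lgr Lrot90 (Lpr_ct (f65333 IH) (Lpr_bt (f65332 IH) (Lpr_ct (f65285 IH) (Lpr_bt (f65309 IH) (Lpr_ct (f65334 IH) (Lpn (LP (LK LD1_c12 LD2_c36 LD3_c12))))))))
theorem f65349 : Led Lsl_et (LP (LK LD1_c7 LD2_c43 LD3_c58)) = (LP (LK LD1_c3 LD2_c51 LD3_c15)) :=
  Lre_e IH (LK LD1_c7 LD2_c43 LD3_c58) (LK LD1_c3 LD2_c51 LD3_c15) Lrfl Lrfl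
theorem f65350 : Led Lsl_et (LP (LK LD1_c6 LD2_c35 LD3_c2)) = (LP (LK LD1_c12 LD2_c36 LD3_c12)) :=
  Lre_e IH (LK LD1_c6 LD2_c35 LD3_c2) (LK LD1_c12 LD2_c36 LD3_c12) Lrfl Lrfl
theorem f65351 : Led Lsl_bt (LP (LK LD1_c3 LD2_c51 LD3_c15)) = (LP (LK LD1_c6 LD2_c35 LD3_c2)) :=
  Lgr Lrot119 (Lpe (f65349 IH) (Lpr_bf (f65335 IH) (Lpe (f65350 IH) (Lpn (LP (LK LD1_c6 LD2_c35 LD3_c2))))))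
theorem f141560 : Led Lsl_bt (LP (LK LD1_c3 LD2_c17 LD3_c8)) = (LP (LK LD1_c6 LD2_c37 LD3_c35)) :=
  Lre_b IH (LK LD1_c3 LD2_c17 LD3_c8) (LK LD1_c6 LD2_c37 LD3_c35) Lrfl Lrfl
theorem f141595 : Led Lsl_ff (LP (LK LD1_c3 LD2_c51 LD3_c15)) = (LP (LK LD1_c6 LD2_c37 LD3_c35)) :=
  Lgr Lrot25 (Lpr_bt (f65351 IH) (Lpr_ft (f141572 IH) (Lpr_bt (f141560 IH) (Lpn (LP (LK LD1_c6 LD2_c37 LD3_c35))))))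
theorem f14677 : Led Lsl_ct (LP (LK LD1_c3 LD2_c51 LD3_c15)) = (LP (LK LD1_c1 LD2_c52 LD3_c28)) :=
  Lre_c IH (LK LD1_c3 LD2_c51 LD3_c15) (LK LD1_c1 LD2_c52 LD3_c28) Lrfl Lrfl
theorem f65278 : Led Lsl_bt (LP (LK LD1_c0 LD2_c52 LD3_c57)) = (LP (LK LD1_c1 LD2_c52 LD3_c28)) :=
  Lre_b IH (LK LD1_c0 LD2_c52 LD3_c57) (LK LD1_c1 LD2_c52 LD3_c28) Lrfl Lrfl
theorem f65013 : Led Lsl_bt (LP (LK LD1_c3 LD2_c29 LD3_c53)) = (LP (LK LD1_c1 LD2_c41 LD3_c38)) :=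
  Lre_b IH (LK LD1_c3 LD2_c29 LD3_c53) (LK LD1_c1 LD2_c41 LD3_c38) Lrfl Lrfl
theorem f115636 : Led Lsl_ft (LP (LK LD1_c1 LD2_c52 LD3_c28)) = (LP (LK LD1_c3 LD2_c29 LD3_c53)) :=
  Lgr Lrot75 (Lpe (f65278 IH) (Lpr_ff (K4.f115634 IH) (Lpe (f65013 IH) (Lpn (LP (LK LD1_c3 LD2_c29 LD3_c53))))))
theorem f141597 : Led Lsl_ct (LP (LK LD1_c3 LD2_c29 LD3_c53)) = (LP (LK LD1_c6 LD2_c37 LD3_c35)) :=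
  Lgr Lrot40 (Lpe (f115636 IH) (Lpe (f14677 IH) (Lpr_ff (f141595 IH) (Lpn (LP (LK LD1_c6 LD2_c37 LD3_c35))))))
theorem f103647 : Led Lsl_dt (LP (LK LD1_c1 LD2_c41 LD3_c37)) = (LP (LK LD1_c3 LD2_c29 LD3_c53)) :=
  Lre_d IH (LK LD1_c1 LD2_c41 LD3_c37) (LK LD1_c3 LD2_c29 LD3_c53) Lrfl Lrfl
theorem f103628 : Led Lsl_cf (LP (LK LD1_c7 LD2_c1 LD3_c15)) = (LP (LK LD1_c6 LD2_c53 LD3_c44)) :=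
  Lgr Lrot11 (Lpr_ct (K4.f103624 IH) (Lpn (LP (LK LD1_c6 LD2_c53 LD3_c44))))
theorem f124096 : Led Lsl_dt (LP (LK LD1_c3 LD2_c13 LD3_c33)) = (LP (LK LD1_c6 LD2_c30 LD3_c46)) :=
  Lre_d IH (LK LD1_c3 LD2_c13 LD3_c33) (LK LD1_c6 LD2_c30 LD3_c46) Lrfl Lrfl
theorem f124626 : Led Lsl_ct (LP (LK LD1_c6 LD2_c30 LD3_c46)) = (LP (LK LD1_c3 LD2_c40 LD3_c51)) :=
  Lgr Lrot133 (Lpe (f124096 IH) (Lpe (K5.f124100 IH) (Lpr_at (K5.f124612 IH) (Lpe (K5.f124592 IH) (Lpe (K4.f114989 IH) (Lpr_cf (K2.f12084 IH) (Lpe (K4.f90253 IH) (Lpr_cf (K5.f120970 IH) (Lpe (K5.f122621 IH) (Lpn (LP (LK LD1_c3 LD2_c40 LD3_c51))))))))))))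
theorem f23609 : Led Lsl_bt (LP (LK LD1_c3 LD2_c13 LD3_c35)) = (LP (LK LD1_c1 LD2_c33 LD3_c21)) :=
  Lre_b IH (LK LD1_c3 LD2_c13 LD3_c35) (LK LD1_c1 LD2_c33 LD3_c21) Lrfl Lrfl
theorem f100174 : Led Lsl_gt (LP (LK LD1_c4 LD2_c37 LD3_c9)) = (LP (LK LD1_c2 LD2_c15 LD3_c46)) :=
  Lre_g IH (LK LD1_c4 LD2_c37 LD3_c9) (LK LD1_c2 LD2_c15 LD3_c46) Lrfl Lrfl
theorem f118665 : Led Lsl_bt (LP (LK LD1_c6 LD2_c37 LD3_c35)) = (LP (LK LD1_c3 LD2_c17 LD3_c8)) :=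
  Lre_b IH (LK LD1_c6 LD2_c37 LD3_c35) (LK LD1_c3 LD2_c17 LD3_c8) Lrfl Lrfl
theorem f118374 : Led Lsl_bt (LP (LK LD1_c3 LD2_c15 LD3_c59)) = (LP (LK LD1_c1 LD2_c34 LD3_c45)) :=
  Lre_b IH (LK LD1_c3 LD2_c15 LD3_c59) (LK LD1_c1 LD2_c34 LD3_c45) Lrfl Lrfl
theorem f118375 : Led Lsl_at (LP (LK LD1_c6 LD2_c35 LD3_c14)) = (LP (LK LD1_c3 LD2_c15 LD3_c59)) :=
  Lre_a IH (LK LD1_c6 LD2_c35 LD3_c14) (LK LD1_c3 LD2_c15 LD3_c59) Lrfl Lrfl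
theorem f117794 : Led Lsl_at (LP (LK LD1_c1 LD2_c35 LD3_c1)) = (LP (LK LD1_c3 LD2_c16 LD3_c43)) :=
  Lre_a IH (LK LD1_c1 LD2_c35 LD3_c1) (LK LD1_c3 LD2_c16 LD3_c43) Lrfl Lrfl
theorem f118376 : Led Lsl_bf (LP (LK LD1_c6 LD2_c35 LD3_c14)) = (LP (LK LD1_c3 LD2_c16 LD3_c43)) :=
  Lgr Lrot81 (Lpr_at (f118375 IH) (Lpr_bt (f118374 IH) (Lpr_at (K4.f118372 IH) (Lpr_bt (K4.f57111 IH) (Lpr_at (f117794 IH) (Lpn (LP (LK LD1_c3 LD2_c16 LD3_c43))))))))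
theorem f119895 : Led Lsl_df (LP (LK LD1_c5 LD2_c56 LD3_c41)) = (LP (LK LD1_c6 LD2_c35 LD3_c14)) :=
  Lgr Lrot12 (Lpr_bt (K4.f83033 IH) (Lpr_dt (K4.f119891 IH) (Lpe (f118376 IH) (Lpn (LP (LK LD1_c6 LD2_c35 LD3_c14))))))
theorem f141606 : Led Lsl_bf (LP (LK LD1_c4 LD2_c37 LD3_c9)) = (LP (LK LD1_c3 LD2_c15 LD3_c51)) :=
  Lgr Lrot184 (Lpr_gt (f100174 IH) (Lpr_dt (f100019 IH) (Lpe (f141189 IH) (Lpr_bt (f23609 IH) (Lpr_gt (K4.f23617 IH) (Lpr_dt (f124096 IH) (Lpr_ct (f124626 IH) (Lpr_bt (K5.f122674 IH) (Lpr_gt (K5.f129476 IH) (Lpr_dt (K5.f102874 IH) (Lpe (f103628 IH) (Lpr_bt (K4.f103623 IH) (Lpr_gt (K4.f103622 IH) (Lpr_dt (f103647 IH) (Lpr_ct (f141597 IH) (Lpr_bt (f118665 IH) (Lpr_gt (f118661 IH) (Lpe (f119895 IH) (Lpr_ct (K4.f119983 IH) (Lpn (LP (LK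 LD1_c3 LD2_c15 LD3_c51))))))))))))))))))))))
theorem f99621 : Led Lsl_bt (LP (LK LD1_c4 LD2_c37 LD3_c6)) = (LP (LK LD1_c9 LD2_c9 LD3_c57)) :=
  Lre_b IH (LK LD1_c4 LD2_c37 LD3_c6) (LK LD1_c9 LD2_c9 LD3_c57) Lrfl Lrfl
theorem f99934 : Led Lsl_et (LP (LK LD1_c9 LD2_c9 LD3_c58)) = (LP (LK LD1_c4 LD2_c37 LD3_c6)) :=
  Lre_e IH (LK LD1_c9 LD2_c9 LD3_c58) (LK LD1_c4 LD2_c37 LD3_c6) Lrfl Lrfl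
theorem f99938 : Led Lsl_ft (LP (LK LD1_c17 LD2_c3 LD3_c4)) = (LP (LK LD1_c9 LD2_c9 LD3_c58)) :=
  Lre_f IH (LK LD1_c17 LD2_c3 LD3_c4) (LK LD1_c9 LD2_c9 LD3_c58) Lrfl Lrfl
theorem f80062 : Led Lsl_et (LP (LK LD1_c3 LD2_c2 LD3_c5)) = (LP (LK LD1_c6 LD2_c10 LD3_c56)) :=
  Lre_e IH (LK LD1_c3 LD2_c2 LD3_c5) (LK LD1_c6 LD2_c10 LD3_c56) Lrfl Lrfl
theorem f99939 : Led Lsl_ft (LP (LK LD1_c6 LD2_c10 LD3_c56)) = (LP (LK LD1_c12 LD2_c2 LD3_c16)) :=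
  Lre_f IH (LK LD1_c6 LD2_c10 LD3_c56) (LK LD1_c12 LD2_c2 LD3_c16) Lrfl Lrfl
theorem f99940 : Led Lsl_ef (LP (LK LD1_c17 LD2_c3 LD3_c4)) = (LP (LK LD1_c12 LD2_c2 LD3_c16)) :=
  Lgr Lrot21 (Lpr_ft (f99938 IH) (Lpr_et (f99934 IH) (Lpr_ft (f99925 IH) (Lpr_et (f80062 IH) (Lpr_ft (f99939 IH) (Lpn (LP (LK LD1_c12 LD2_c2 LD3_c16))))))))
theorem f100032 : Led Lsl_et (LP (LK LD1_c17 LD2_c3 LD3_c4)) = (LP (LK LD1_c12 LD2_c2 LD3_c16)) :=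
  Lgr Lrot87 (Lpr_ef (f99940 IH) (Lpn (LP (LK LD1_c12 LD2_c2 LD3_c16))))
theorem f100034 : Led Lsl_at (LP (LK LD1_c12 LD2_c2 LD3_c16)) = (LP (LK LD1_c6 LD2_c11 LD3_c0)) :=
  Lre_a IH (LK LD1_c12 LD2_c2 LD3_c16) (LK LD1_c6 LD2_c11 LD3_c0) Lrfl Lrfl
theorem f100035 : Led Lsl_et (LP (LK LD1_c6 LD2_c11 LD3_c0)) = (LP (LK LD1_c9 LD2_c15 LD3_c30)) :=
  Lre_e IH (LK LD1_c6 LD2_c11 LD3_c0) (LK LD1_c9 LD2_c15 LD3_c30) Lrfl Lrfl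
theorem f100036 : Led Lsl_af (LP (LK LD1_c17 LD2_c3 LD3_c4)) = (LP (LK LD1_c9 LD2_c15 LD3_c30)) :=
  Lgr Lrot50 (Lpr_et (f100032 IH) (Lpr_at (f100034 IH) (Lpr_et (f100035 IH) (Lpn (LP (LK LD1_c9 LD2_c15 LD3_c30))))))
theorem f100028 : Led Lsl_ct (LP (LK LD1_c17 LD2_c3 LD3_c4)) = (LP (LK LD1_c9 LD2_c9 LD3_c61)) :=
  Lre_c IH (LK LD1_c17 LD2_c3 LD3_c4) (LK LD1_c9 LD2_c9 LD3_c61) Lrfl Lrfl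
theorem f100053 : Led Lsl_ct (LP (LK LD1_c4 LD2_c40 LD3_c2)) = (LP (LK LD1_c9 LD2_c15 LD3_c30)) :=
  Lre_c IH (LK LD1_c4 LD2_c40 LD3_c2) (LK LD1_c9 LD2_c15 LD3_c30) Lrfl Lrfl
theorem f100054 : Led Lsl_at (LP (LK LD1_c9 LD2_c9 LD3_c61)) = (LP (LK LD1_c4 LD2_c40 LD3_c2)) :=
  Lgr Lrot107 (Lpe (f100028 IH) (Lpr_af (f100036 IH) (Lpe (f100053 IH) (Lpn (LP (LK LD1_c4 LD2_c40 LD3_c2))))))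
theorem f100069 : Led Lsl_ft (LP (LK LD1_c4 LD2_c37 LD3_c7)) = (LP (LK LD1_c9 LD2_c9 LD3_c61)) :=
  Lre_f IH (LK LD1_c4 LD2_c37 LD3_c7) (LK LD1_c9 LD2_c9 LD3_c61) Lrfl Lrfl
theorem f100070 : Led Lsl_ft (LP (LK LD1_c4 LD2_c40 LD3_c2)) = (LP (LK LD1_c2 LD2_c17 LD3_c3)) :=
  Lre_f IH (LK LD1_c4 LD2_c40 LD3_c2) (LK LD1_c2 LD2_c17 LD3_c3) Lrfl Lrfl
theorem f100071 : Led Lsl_af (LP (LK LD1_c4 LD2_c37 LD3_c7)) = (LP (LK LD1_c2 LD2_c17 LD3_c3)) :=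
  Lgr Lrot45 (Lpr_ft (f100069 IH) (Lpr_at (f100054 IH) (Lpr_ft (f100070 IH) (Lpn (LP (LK LD1_c2 LD2_c17 LD3_c3))))))
theorem f100083 : Led Lsl_at (LP (LK LD1_c4 LD2_c37 LD3_c7)) = (LP (LK LD1_c2 LD2_c17 LD3_c3)) :=
  Lgr Lrot100 (Lpr_af (f100071 IH) (Lpn (LP (LK LD1_c2 LD2_c17 LD3_c3))))
theorem f99961 : Led Lsl_ct (LP (LK LD1_c9 LD2_c9 LD3_c58)) = (LP (LK LD1_c4 LD2_c37 LD3_c7)) :=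
  Lre_c IH (LK LD1_c9 LD2_c9 LD3_c58) (LK LD1_c4 LD2_c37 LD3_c7) Lrfl Lrfl
theorem f100094 : Led Lsl_ct (LP (LK LD1_c2 LD2_c17 LD3_c3)) = (LP (LK LD1_c4 LD2_c39 LD3_c61)) :=
  Lre_c IH (LK LD1_c2 LD2_c17 LD3_c3) (LK LD1_c4 LD2_c39 LD3_c61) Lrfl Lrfl
theorem f100095 : Led Lsl_af (LP (LK LD1_c9 LD2_c9 LD3_c58)) = (LP (LK LD1_c4 LD2_c39 LD3_c61)) :=
  Lgr Lrot68 (Lpr_ct (f99961 IH) (Lpr_at (f100083 IH) (Lpr_ct (f100094 IH) (Lpn (LP (LK LD1_c4 LD2_c39 LD3_c61))))))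
theorem f100111 : Led Lsl_bt (LP (LK LD1_c9 LD2_c9 LD3_c58)) = (LP (LK LD1_c17 LD2_c3 LD3_c0)) :=
  Lre_b IH (LK LD1_c9 LD2_c9 LD3_c58) (LK LD1_c17 LD2_c3 LD3_c0) Lrfl Lrfl
theorem f100112 : Led Lsl_bt (LP (LK LD1_c3 LD2_c2 LD3_c14)) = (LP (LK LD1_c4 LD2_c39 LD3_c61)) :=
  Lre_b IH (LK LD1_c3 LD2_c2 LD3_c14) (LK LD1_c4 LD2_c39 LD3_c61) Lrfl Lrfl
theorem f100113 : Led Lsl_at (LP (LK LD1_c6 LD2_c9 LD3_c49)) = (LP (LK LD1_c3 LD2_c2 LD3_c14)) :=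
  Lre_a IH (LK LD1_c6 LD2_c9 LD3_c49) (LK LD1_c3 LD2_c2 LD3_c14) Lrfl Lrfl
theorem f58424 : Led Lsl_bt (LP (LK LD1_c12 LD2_c0 LD3_c38)) = (LP (LK LD1_c6 LD2_c9 LD3_c49)) :=
  Lre_b IH (LK LD1_c12 LD2_c0 LD3_c38) (LK LD1_c6 LD2_c9 LD3_c49) Lrfl Lrfl
theorem f100114 : Led Lsl_at (LP (LK LD1_c17 LD2_c3 LD3_c0)) = (LP (LK LD1_c12 LD2_c0 LD3_c38)) :=
  Lgr Lrot67 (Lpe (f100111 IH) (Lpr_af (f100095 IH) (Lpe (f100112 IH) (Lpe (f100113 IH) (Lpe (f58424 IH) (Lpn (LP (LK LD1_c12 LD2_c0 LD3_c38))))))))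
theorem f100143 : Led Lsl_ft (LP (LK LD1_c26 LD2_c57 LD3_c51)) = (LP (LK LD1_c17 LD2_c3 LD3_c0)) :=
  Lre_f IH (LK LD1_c26 LD2_c57 LD3_c51) (LK LD1_c17 LD2_c3 LD3_c0) Lrfl Lrfl
theorem f58429 : Led Lsl_ft (LP (LK LD1_c12 LD2_c0 LD3_c38)) = (LP (LK LD1_c21 LD2_c5 LD3_c52)) :=
  Lre_f IH (LK LD1_c12 LD2_c0 LD3_c38) (LK LD1_c21 LD2_c5 LD3_c52) Lrfl Lrfl
theorem f100144 : Led Lsl_af (LP (LK LD1_c26 LD2_c57 LD3_c51)) = (LP (LK LD1_c21 LD2_c5 LD3_c52)) :=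
  Lgr Lrot45 (Lpr_ft (f100143 IH) (Lpr_at (f100114 IH) (Lpr_ft (f58429 IH) (Lpn (LP (LK LD1_c21 LD2_c5 LD3_c52))))))
theorem f58349 : Led Lsl_ct (LP (LK LD1_c12 LD2_c0 LD3_c41)) = (LP (LK LD1_c6 LD2_c9 LD3_c53)) :=
  Lre_c IH (LK LD1_c12 LD2_c0 LD3_c41) (LK LD1_c6 LD2_c9 LD3_c53) Lrfl Lrfl
theorem f58350 : Led Lsl_bt (LP (LK LD1_c21 LD2_c5 LD3_c52)) = (LP (LK LD1_c12 LD2_c0 LD3_c41)) :=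
  Lre_b IH (LK LD1_c21 LD2_c5 LD3_c52) (LK LD1_c12 LD2_c0 LD3_c41) Lrfl Lrfl
theorem f58351 : Led Lsl_bt (LP (LK LD1_c12 LD2_c11 LD3_c15)) = (LP (LK LD1_c21 LD2_c16 LD3_c28)) :=
  Lre_b IH (LK LD1_c12 LD2_c11 LD3_c15) (LK LD1_c21 LD2_c16 LD3_c28) Lrfl Lrfl
theorem f58352 : Led Lsl_cf (LP (LK LD1_c21 LD2_c5 LD3_c52)) = (LP (LK LD1_c21 LD2_c16 LD3_c28)) :=
  Lgr Lrot97 (Lpr_bt (f58350 IH) (Lpr_ct (f58349 IH) (Lpr_bt (K1.f58332 IH) (Lpr_ct (K1.f58290 IH) (Lpr_bt (f58351 IH) (Lpn (LP (LK LD1_c21 LD2_c16 LD3_c28))))))))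
theorem f58590 : Led Lsl_at (LP (LK LD1_c12 LD2_c11 LD3_c15)) = (LP (LK LD1_c6 LD2_c17 LD3_c29)) :=
  Lre_a IH (LK LD1_c12 LD2_c11 LD3_c15) (LK LD1_c6 LD2_c17 LD3_c29) Lrfl Lrfl
theorem f58286 : Led Lsl_bt (LP (LK LD1_c21 LD2_c16 LD3_c28)) = (LP (LK LD1_c12 LD2_c11 LD3_c15)) :=
  Lre_b IH (LK LD1_c21 LD2_c16 LD3_c28) (LK LD1_c12 LD2_c11 LD3_c15) Lrfl Lrfl
theorem f74904 : Led Lsl_bt (LP (LK LD1_c11 LD2_c40 LD3_c55)) = (LP (LK LD1_c20 LD2_c40 LD3_c37)) :=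
  Lre_b IH (LK LD1_c11 LD2_c40 LD3_c55) (LK LD1_c20 LD2_c40 LD3_c37) Lrfl Lrfl
theorem f74905 : Led Lsl_af (LP (LK LD1_c21 LD2_c16 LD3_c28)) = (LP (LK LD1_c20 LD2_c40 LD3_c37)) :=
  Lgr Lrot36 (Lpr_bt (f58286 IH) (Lpr_at (f58590 IH) (Lpe (K1.f58573 IH) (Lpr_at (K2.f74887 IH) (Lpr_bt (f74904 IH) (Lpn (LP (LK LD1_c20 LD2_c40 LD3_c37))))))))
theorem f100147 : Led Lsl_ct (LP (LK LD1_c26 LD2_c57 LD3_c51)) = (LP (LK LD1_c20 LD2_c40 LD3_c37)) :=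
  Lgr Lrot111 (Lpr_af (f100144 IH) (Lpr_cf (f58352 IH) (Lpr_af (f74905 IH) (Lpn (LP (LK LD1_c20 LD2_c40 LD3_c37))))))
theorem f100151 : Led Lsl_cf (LP (LK LD1_c26 LD2_c57 LD3_c51)) = (LP (LK LD1_c20 LD2_c40 LD3_c37)) :=
  Lgr Lrot11 (Lpr_ct (f100147 IH) (Lpn (LP (LK LD1_c20 LD2_c40 LD3_c37))))
theorem f76178 : Led Lsl_ft (LP (LK LD1_c11 LD2_c40 LD3_c50)) = (LP (LK LD1_c20 LD2_c40 LD3_c37)) :=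
  Lre_f IH (LK LD1_c11 LD2_c40 LD3_c50) (LK LD1_c20 LD2_c40 LD3_c37) Lrfl Lrfl
theorem f100156 : Led Lsl_ct (LP (LK LD1_c17 LD2_c3 LD3_c0)) = (LP (LK LD1_c11 LD2_c40 LD3_c50)) :=
  Lgr Lrot40 (Lpe (f100143 IH) (Lpr_cf (f100151 IH) (Lpe (f76178 IH) (Lpn (LP (LK LD1_c11 LD2_c40 LD3_c50))))))
theorem f100140 : Led Lsl_et (LP (LK LD1_c9 LD2_c9 LD3_c57)) = (LP (LK LD1_c17 LD2_c3 LD3_c0)) :=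
  Lre_e IH (LK LD1_c9 LD2_c9 LD3_c57) (LK LD1_c17 LD2_c3 LD3_c0) Lrfl Lrfl
theorem f75303 : Led Lsl_et (LP (LK LD1_c11 LD2_c40 LD3_c50)) = (LP (LK LD1_c5 LD2_c58 LD3_c4)) :=
  Lre_e IH (LK LD1_c11 LD2_c40 LD3_c50) (LK LD1_c5 LD2_c58 LD3_c4) Lrfl Lrfl
theorem f100158 : Led Lsl_cf (LP (LK LD1_c9 LD2_c9 LD3_c57)) = (LP (LK LD1_c5 LD2_c58 LD3_c4)) :=
  Lgr Lrot39 (Lpr_et (f100140 IH) (Lpr_ct (f100156 IH) (Lpr_et (f75303 IH) (Lpn (LP (LK LD1_c5 LD2_c58 LD3_c4))))))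
theorem f66881 : Led Lsl_ct (LP (LK LD1_c6 LD2_c10 LD3_c10)) = (LP (LK LD1_c9 LD2_c15 LD3_c61)) :=
  Lre_c IH (LK LD1_c6 LD2_c10 LD3_c10) (LK LD1_c9 LD2_c15 LD3_c61) Lrfl Lrfl
theorem f100162 : Led Lsl_ft (LP (LK LD1_c9 LD2_c9 LD3_c57)) = (LP (LK LD1_c6 LD2_c10 LD3_c10)) :=
  Lgr Lrot4 (Lpr_cf (f100158 IH) (Lpe (K4.f74950 IH) (Lpe (f66881 IH) (Lpn (LP (LK LD1_c6 LD2_c10 LD3_c10))))))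
theorem f74153 : Led Lsl_at (LP (LK LD1_c6 LD2_c10 LD3_c10)) = (LP (LK LD1_c3 LD2_c1 LD3_c42)) :=
  Lre_a IH (LK LD1_c6 LD2_c10 LD3_c10) (LK LD1_c3 LD2_c1 LD3_c42) Lrfl Lrfl
theorem f100168 : Led Lsl_gt (LP (LK LD1_c9 LD2_c9 LD3_c57)) = (LP (LK LD1_c6 LD2_c10 LD3_c9)) :=
  Lgr Lrot5 (Lpr_ft (f100162 IH) (Lpr_at (f74153 IH) (Lpe (K4.f18287 IH) (Lpn (LP (LK LD1_c6 LD2_c10 LD3_c9))))))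
theorem f119601 : Led Lsl_at (LP (LK LD1_c6 LD2_c10 LD3_c29)) = (LP (LK LD1_c3 LD2_c15 LD3_c51)) :=
  Lgr Lrot66 (Lpr_ff (K4.f117121 IH) (Lpe (K4.f119569 IH) (Lpr_ff (K4.f119598 IH) (Lpn (LP (LK LD1_c3 LD2_c15 LD3_c51))))))
theorem f119979 : Led Lsl_cf (LP (LK LD1_c5 LD2_c56 LD3_c41)) = (LP (LK LD1_c3 LD2_c15 LD3_c51)) :=
  Lgr Lrot1 (Lpr_at (K4.f119975 IH) (Lpr_ct (K4.f117029 IH) (Lpr_at (f119601 IH) (Lpn (LP (LK LD1_c3 LD2_c15 LD3_c51))))))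
theorem f141618 : Led Lsl_gt (LP (LK LD1_c6 LD2_c37 LD3_c40)) = (LP (LK LD1_c5 LD2_c56 LD3_c41)) :=
  Lgr Lrot65 (Lpr_cf (K4.f117090 IH) (Lpr_bt (K4.f19125 IH) (Lpe (f100168 IH) (Lpe (f99621 IH) (Lpr_ct (f99639 IH) (Lpe (K4.f99613 IH) (Lpe (f100173 IH) (Lpe (f100174 IH) (Lpr_bf (f141606 IH) (Lpe (f119979 IH) (Lpn (LP (LK LD1_c5 LD2_c56 LD3_c41)))))))))))))
theorem f115600 : Led Lsl_dt (LP (LK LD1_c6 LD2_c34 LD3_c57)) = (LP (LK LD1_c3 LD2_c15 LD3_c50)) :=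
  Lre_d IH (LK LD1_c6 LD2_c34 LD3_c57) (LK LD1_c3 LD2_c15 LD3_c50) Lrfl Lrfl
theorem f117125 : Led Lsl_ft (LP (LK LD1_c6 LD2_c37 LD3_c40)) = (LP (LK LD1_c6 LD2_c34 LD3_c57)) :=
  Lgr Lrot54 (Lpr_df (K4.f117071 IH) (Lpr_ff (K4.f117121 IH) (Lpe (f115600 IH) (Lpn (LP (LK LD1_c6 LD2_c34 LD3_c57))))))
theorem f119605 : Led Lsl_ft (LP (LK LD1_c6 LD2_c10 LD3_c30)) = (LP (LK LD1_c3 LD2_c15 LD3_c51)) :=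
  Lgr Lrot48 (Lpr_ff (K4.f119598 IH) (Lpn (LP (LK LD1_c3 LD2_c15 LD3_c51))))
theorem f119573 : Led Lsl_et (LP (LK LD1_c6 LD2_c10 LD3_c30)) = (LP (LK LD1_c12 LD2_c1 LD3_c36)) :=
  Lre_e IH (LK LD1_c6 LD2_c10 LD3_c30) (LK LD1_c12 LD2_c1 LD3_c36) Lrfl Lrfl
theorem f117964 : Led Lsl_et (LP (LK LD1_c12 LD2_c40 LD3_c58)) = (LP (LK LD1_c6 LD2_c37 LD3_c38)) :=
  Lre_e IH (LK LD1_c12 LD2_c40 LD3_c58) (LK LD1_c6 LD2_c37 LD3_c38) Lrfl Lrfl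
theorem f119574 : Led Lsl_ct (LP (LK LD1_c12 LD2_c1 LD3_c36)) = (LP (LK LD1_c12 LD2_c40 LD3_c58)) :=
  Lgr Lrot15 (Lpe (f119573 IH) (Lpr_cf (K4.f119567 IH) (Lpe (f117964 IH) (Lpn (LP (LK LD1_c12 LD2_c40 LD3_c58))))))
theorem f117109 : Led Lsl_et (LP (LK LD1_c3 LD2_c17 LD3_c11)) = (LP (LK LD1_c6 LD2_c37 LD3_c42)) :=
  Lre_e IH (LK LD1_c3 LD2_c17 LD3_c11) (LK LD1_c6 LD2_c37 LD3_c42) Lrfl Lrfl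
theorem f115601 : Led Lsl_et (LP (LK LD1_c6 LD2_c34 LD3_c58)) = (LP (LK LD1_c3 LD2_c15 LD3_c50)) :=
  Lre_e IH (LK LD1_c6 LD2_c34 LD3_c58) (LK LD1_c3 LD2_c15 LD3_c50) Lrfl Lrfl
theorem f117110 : Led Lsl_ct (LP (LK LD1_c6 LD2_c37 LD3_c42)) = (LP (LK LD1_c6 LD2_c34 LD3_c58)) :=
  Lgr Lrot15 (Lpe (f117109 IH) (Lpr_cf (K4.f117101 IH) (Lpe (f115601 IH) (Lpn (LP (LK LD1_c6 LD2_c34 LD3_c58))))))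
theorem f119576 : Led Lsl_af (LP (LK LD1_c12 LD2_c1 LD3_c36)) = (LP (LK LD1_c6 LD2_c34 LD3_c58)) :=
  Lgr Lrot68 (Lpr_ct (f119574 IH) (Lpr_at (K4.f117961 IH) (Lpr_ct (f117110 IH) (Lpn (LP (LK LD1_c6 LD2_c34 LD3_c58))))))
theorem f119584 : Led Lsl_at (LP (LK LD1_c12 LD2_c1 LD3_c36)) = (LP (LK LD1_c6 LD2_c34 LD3_c58)) :=
  Lgr Lrot100 (Lpr_af (f119576 IH) (Lpn (LP (LK LD1_c6 LD2_c34 LD3_c58))))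
theorem f119588 : Led Lsl_af (LP (LK LD1_c6 LD2_c10 LD3_c30)) = (LP (LK LD1_c3 LD2_c15 LD3_c50)) :=
  Lgr Lrot50 (Lpr_et (f119573 IH) (Lpr_at (f119584 IH) (Lpr_et (f115601 IH) (Lpn (LP (LK LD1_c3 LD2_c15 LD3_c50))))))
theorem f119607 : Led Lsl_af (LP (LK LD1_c6 LD2_c10 LD3_c29)) = (LP (LK LD1_c3 LD2_c15 LD3_c51)) :=
  Lgr Lrot45 (Lpr_ft (K4.f117112 IH) (Lpe (f119588 IH) (Lpr_ft (f119605 IH) (Lpn (LP (LK LD1_c3 LD2_c15 LD3_c51))))))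
theorem f119603 : Led Lsl_dt (LP (LK LD1_c6 LD2_c34 LD3_c59)) = (LP (LK LD1_c3 LD2_c15 LD3_c51)) :=
  Lre_d IH (LK LD1_c6 LD2_c34 LD3_c59) (LK LD1_c3 LD2_c15 LD3_c51) Lrfl Lrfl
theorem f119610 : Led Lsl_at (LP (LK LD1_c6 LD2_c37 LD3_c40)) = (LP (LK LD1_c6 LD2_c34 LD3_c59)) :=
  Lgr Lrot51 (Lpr_df (K4.f117071 IH) (Lpr_af (f119607 IH) (Lpe (f119603 IH) (Lpn (LP (LK LD1_c6 LD2_c34 LD3_c59))))))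
theorem f119616 : Led Lsl_af (LP (LK LD1_c6 LD2_c37 LD3_c40)) = (LP (LK LD1_c6 LD2_c34 LD3_c59)) :=
  Lgr Lrot0 (Lpr_at (f119610 IH) (Lpn (LP (LK LD1_c6 LD2_c34 LD3_c59))))
theorem f87389 : Led Lsl_gt (LP (LK LD1_c6 LD2_c37 LD3_c41)) = (LP (LK LD1_c3 LD2_c17 LD3_c11)) :=
  Lre_g IH (LK LD1_c6 LD2_c37 LD3_c41) (LK LD1_c3 LD2_c17 LD3_c11) Lrfl Lrfl
theorem f119624 : Led Lsl_ft (LP (LK LD1_c6 LD2_c37 LD3_c41)) = (LP (LK LD1_c6 LD2_c34 LD3_c59)) :=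
  Lgr Lrot2 (Lpr_gt (f87389 IH) (Lpr_gt (K4.f87375 IH) (Lpr_af (f119616 IH) (Lpn (LP (LK LD1_c6 LD2_c34 LD3_c59))))))
theorem f119626 : Led Lsl_af (LP (LK LD1_c6 LD2_c37 LD3_c41)) = (LP (LK LD1_c6 LD2_c34 LD3_c57)) :=
  Lgr Lrot45 (Lpr_ft (f119624 IH) (Lpe (f119616 IH) (Lpr_ft (f117125 IH) (Lpn (LP (LK LD1_c6 LD2_c34 LD3_c57))))))
theorem f141620 : Led Lsl_gf (LP (LK LD1_c6 LD2_c37 LD3_c41)) = (LP (LK LD1_c5 LD2_c56 LD3_c41)) :=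
  Lgr Lrot76 (Lpr_af (f119626 IH) (Lpe (f117125 IH) (Lpr_gt (f141618 IH) (Lpn (LP (LK LD1_c5 LD2_c56 LD3_c41))))))
theorem f119630 : Led Lsl_ff (LP (LK LD1_c6 LD2_c37 LD3_c41)) = (LP (LK LD1_c6 LD2_c34 LD3_c59)) :=
  Lgr Lrot3 (Lpr_ft (f119624 IH) (Lpn (LP (LK LD1_c6 LD2_c34 LD3_c59))))
theorem f119600 : Led Lsl_dt (LP (LK LD1_c3 LD2_c15 LD3_c51)) = (LP (LK LD1_c6 LD2_c34 LD3_c59)) :=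
  Lre_d IH (LK LD1_c3 LD2_c15 LD3_c51) (LK LD1_c6 LD2_c34 LD3_c59) Lrfl Lrfl
theorem f119634 : Led Lsl_dt (LP (LK LD1_c6 LD2_c37 LD3_c41)) = (LP (LK LD1_c6 LD2_c10 LD3_c30)) :=
  Lgr Lrot60 (Lpr_ff (f119630 IH) (Lpe (f119600 IH) (Lpe (f119605 IH) (Lpn (LP (LK LD1_c6 LD2_c10 LD3_c30))))))
theorem f65382 : Led Lsl_dt (LP (LK LD1_c1 LD2_c34 LD3_c41)) = (LP (LK LD1_c3 LD2_c15 LD3_c53)) :=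
  Lre_d IH (LK LD1_c1 LD2_c34 LD3_c41) (LK LD1_c3 LD2_c15 LD3_c53) Lrfl Lrfl
theorem f65277 : Led Lsl_gt (LP (LK LD1_c3 LD2_c15 LD3_c53)) = (LP (LK LD1_c6 LD2_c35 LD3_c0)) :=
  Lre_g IH (LK LD1_c3 LD2_c15 LD3_c53) (LK LD1_c6 LD2_c35 LD3_c0) Lrfl Lrfl
theorem f141622 : Led Lsl_df (LP (LK LD1_c3 LD2_c17 LD3_c8)) = (LP (LK LD1_c6 LD2_c35 LD3_c0)) :=
  Lgr Lrot84 (Lpe (f141558 IH) (Lpe (K4.f115592 IH) (Lpe (K4.f99711 IH) (Lpe (f119634 IH) (Lpr_gf (f141620 IH) (Lpr_cf (f119979 IH) (Lpr_gt (K4.f62874 IH) (Lpr_dt (f65382 IH) (Lpr_gt (f65277 IH) (Lpn (LP (LK LD1_c6 LD2_c35 LD3_c0))))))))))))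
theorem f141627 : Led Lsl_dt (LP (LK LD1_c3 LD2_c17 LD3_c8)) = (LP (LK LD1_c6 LD2_c35 LD3_c0)) :=
  Lgr Lrot42 (Lpr_df (f141622 IH) (Lpn (LP (LK LD1_c6 LD2_c35 LD3_c0))))
theorem f94790 : Led Lsl_bt (LP (LK LD1_c0 LD2_c44 LD3_c15)) = (LP (LK LD1_c1 LD2_c35 LD3_c11)) :=
  Lre_b IH (LK LD1_c0 LD2_c44 LD3_c15) (LK LD1_c1 LD2_c35 LD3_c11) Lrfl Lrfl
theorem f15550 : Led Lsl_gt (LP (LK LD1_c3 LD2_c16 LD3_c14)) = (LP (LK LD1_c1 LD2_c34 LD3_c52)) :=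
  Lre_g IH (LK LD1_c3 LD2_c16 LD3_c14) (LK LD1_c1 LD2_c34 LD3_c52) Lrfl Lrfl
theorem f15553 : Led Lsl_bt (LP (LK LD1_c6 LD2_c35 LD3_c46)) = (LP (LK LD1_c3 LD2_c16 LD3_c14)) :=
  Lre_b IH (LK LD1_c6 LD2_c35 LD3_c46) (LK LD1_c3 LD2_c16 LD3_c14) Lrfl Lrfl
theorem f141643 : Led Lsl_cf (LP (LK LD1_c6 LD2_c35 LD3_c46)) = (LP (LK LD1_c6 LD2_c35 LD3_c0)) :=
  Lgr Lrot89 (Lpr_bt (f15553 IH) (Lpr_gt (f15550 IH) (Lpr_dt (K4.f14347 IH) (Lpr_ct (K4.f15530 IH) (Lpr_bt (K4.f14994 IH) (Lpe (K2.f15005 IH) (Lpr_dt (K2.f94773 IH) (Lpr_ct (K3.f94780 IH) (Lpe (K3.f94783 IH) (Lpr_gt (K3.f58768 IH) (Lpr_dt (K1.f58208 IH) (Lpr_ct (K1.f58206 IH) (Lpe (K2.f58181 IH) (Lpr_gt (K2.f18902 IH) (Lpr_dt (K3.f61954 IH) (Lpr_ct (K3.f66006 IH) (Lpr_bt (f94790 IH) (Lpr_gt (f61941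 IH) (Lpr_dt (f141627 IH) (Lpn (LP (LK LD1_c6 LD2_c35 LD3_c0))))))))))))))))))))))
theorem f141651 : Led Lsl_ct (LP (LK LD1_c6 LD2_c35 LD3_c46)) = (LP (LK LD1_c6 LD2_c35 LD3_c0)) :=
  Lgr Lrot59 (Lpr_cf (f141643 IH) (Lpn (LP (LK LD1_c6 LD2_c35 LD3_c0))))
theorem f96626 : Led Lsl_bt (LP (LK LD1_c0 LD2_c44 LD3_c9)) = (LP (LK LD1_c1 LD2_c34 LD3_c52)) :=
  Lre_b IH (LK LD1_c0 LD2_c44 LD3_c9) (LK LD1_c1 LD2_c34 LD3_c52) Lrfl Lrfl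
theorem f110029 : Led Lsl_bt (LP (LK LD1_c1 LD2_c34 LD3_c45)) = (LP (LK LD1_c3 LD2_c15 LD3_c59)) :=
  Lre_b IH (LK LD1_c1 LD2_c34 LD3_c45) (LK LD1_c3 LD2_c15 LD3_c59) Lrfl Lrfl
theorem f141673 : Led Lsl_gt (LP (LK LD1_c3 LD2_c15 LD3_c59)) = (LP (LK LD1_c6 LD2_c35 LD3_c2)) :=
  Lgr Lrot82 (Lpe (f110029 IH) (Lpr_ct (K3.f65012 IH) (Lpe (K3.f93517 IH) (Lpe (K3.f63845 IH) (Lpr_bt (f96626 IH) (Lpe (f15550 IH) (Lpe (f15553 IH) (Lpr_ct (f141651 IH) (Lpe (f65277 IH) (Lpe (f65361 IH) (Lpn (LP (LK LD1_c6 LD2_c35 LD3_c2)))))))))))))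
theorem f118369 : Led Lsl_at (LP (LK LD1_c1 LD2_c35 LD3_c11)) = (LP (LK LD1_c3 LD2_c17 LD3_c10)) :=
  Lre_a IH (LK LD1_c1 LD2_c35 LD3_c11) (LK LD1_c3 LD2_c17 LD3_c10) Lrfl Lrfl
theorem f141677 : Led Lsl_gf (LP (LK LD1_c3 LD2_c17 LD3_c10)) = (LP (LK LD1_c6 LD2_c35 LD3_c2)) :=
  Lgr Lrot76 (Lpe (f118369 IH) (Lpr_ff (K4.f118642 IH) (Lpr_gt (f141673 IH) (Lpn (LP (LK LD1_c6 LD2_c35 LD3_c2))))))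
theorem f118646 : Led Lsl_ft (LP (LK LD1_c3 LD2_c17 LD3_c10)) = (LP (LK LD1_c6 LD2_c35 LD3_c14)) :=
  Lgr Lrot101 (Lpe (f118369 IH) (Lpr_ff (K4.f118642 IH) (Lpe (f118375 IH) (Lpn (LP (LK LD1_c6 LD2_c35 LD3_c14))))))
theorem f117041 : Led Lsl_gt (LP (LK LD1_c6 LD2_c35 LD3_c13)) = (LP (LK LD1_c3 LD2_c15 LD3_c59)) :=
  Lre_g IH (LK LD1_c6 LD2_c35 LD3_c13) (LK LD1_c3 LD2_c15 LD3_c59) Lrfl Lrfl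
theorem f118856 : Led Lsl_gt (LP (LK LD1_c3 LD2_c17 LD3_c10)) = (LP (LK LD1_c6 LD2_c35 LD3_c13)) :=
  Lgr Lrot5 (Lpr_ft (f118646 IH) (Lpr_at (f118375 IH) (Lpe (f117041 IH) (Lpn (LP (LK LD1_c6 LD2_c35 LD3_c13))))))
theorem f141680 : Led Lsl_af (LP (LK LD1_c6 LD2_c35 LD3_c13)) = (LP (LK LD1_c3 LD2_c17 LD3_c8)) :=
  Lgr Lrot31 (Lpe (f118856 IH) (Lpr_gf (f141677 IH) (Lpr_ft (f141572 IH) (Lpn (LP (LK LD1_c3 LD2_c17 LD3_c8))))))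
theorem f124529 : Led Lsl_et (LP (LK LD1_c6 LD2_c35 LD3_c13)) = (LP (LK LD1_c12 LD2_c36 LD3_c31)) :=
  Lre_e IH (LK LD1_c6 LD2_c35 LD3_c13) (LK LD1_c12 LD2_c36 LD3_c31) Lrfl Lrfl
theorem f118666 : Led Lsl_et (LP (LK LD1_c6 LD2_c37 LD3_c36)) = (LP (LK LD1_c3 LD2_c17 LD3_c8)) :=
  Lre_e IH (LK LD1_c6 LD2_c37 LD3_c36) (LK LD1_c3 LD2_c17 LD3_c8) Lrfl Lrfl
theorem f141698 : Led Lsl_at (LP (LK LD1_c12 LD2_c36 LD3_c31)) = (LP (LK LD1_c6 LD2_c37 LD3_c36)) :=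
  Lgr Lrot80 (Lpe (f124529 IH) (Lpr_af (f141680 IH) (Lpe (f118666 IH) (Lpn (LP (LK LD1_c6 LD2_c37 LD3_c36))))))
theorem f118715 : Led Lsl_bt (LP (LK LD1_c6 LD2_c35 LD3_c11)) = (LP (LK LD1_c3 LD2_c15 LD3_c57)) :=
  Lre_b IH (LK LD1_c6 LD2_c35 LD3_c11) (LK LD1_c3 LD2_c15 LD3_c57) Lrfl Lrfl
theorem f117036 : Led Lsl_ct (LP (LK LD1_c6 LD2_c35 LD3_c11)) = (LP (LK LD1_c3 LD2_c15 LD3_c59)) :=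
  Lre_c IH (LK LD1_c6 LD2_c35 LD3_c11) (LK LD1_c3 LD2_c15 LD3_c59) Lrfl Lrfl
theorem f26360 : Led Lsl_bt (LP (LK LD1_c1 LD2_c5 LD3_c4)) = (LP (LK LD1_c0 LD2_c29 LD3_c44)) :=
  Lre_b IH (LK LD1_c1 LD2_c5 LD3_c4) (LK LD1_c0 LD2_c29 LD3_c44) Lrfl Lrfl
theorem f26361 : Led Lsl_ct (LP (LK LD1_c2 LD2_c16 LD3_c18)) = (LP (LK LD1_c1 LD2_c5 LD3_c4)) :=
  Lre_c IH (LK LD1_c2 LD2_c16 LD3_c18) (LK LD1_c1 LD2_c5 LD3_c4) Lrfl Lrfl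
theorem f26362 : Led Lsl_bt (LP (LK LD1_c0 LD2_c13 LD3_c34)) = (LP (LK LD1_c0 LD2_c30 LD3_c33)) :=
  Lre_b IH (LK LD1_c0 LD2_c13 LD3_c34) (LK LD1_c0 LD2_c30 LD3_c33) Lrfl Lrfl
theorem f26363 : Led Lsl_bf (LP (LK LD1_c2 LD2_c16 LD3_c18)) = (LP (LK LD1_c1 LD2_c6 LD3_c46)) :=
  Lgr Lrot90 (Lpr_ct (f26361 IH) (Lpr_bt (f26360 IH) (Lpr_ct (K0.f26357 IH) (Lpr_bt (f26362 IH) (Lpr_ct (K5.f26256 IH) (Lpn (LP (LK LD1_c1 LD2_c6 LD3_c46))))))))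
theorem f61661 : Led Lsl_gt (LP (LK LD1_c2 LD2_c16 LD3_c18)) = (LP (LK LD1_c4 LD2_c38 LD3_c30)) :=
  Lre_g IH (LK LD1_c2 LD2_c16 LD3_c18) (LK LD1_c4 LD2_c38 LD3_c30) Lrfl Lrfl
theorem f124510 : Led Lsl_bt (LP (LK LD1_c9 LD2_c12 LD3_c53)) = (LP (LK LD1_c4 LD2_c38 LD3_c30)) :=
  Lre_b IH (LK LD1_c9 LD2_c12 LD3_c53) (LK LD1_c4 LD2_c38 LD3_c30) Lrfl Lrfl
theorem f124511 : Led Lsl_cf (LP (LK LD1_c6 LD2_c35 LD3_c13)) = (LP (LK LD1_c9 LD2_c12 LD3_c53)) :=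
  Lgr Lrot160 (Lpr_gt (f117041 IH) (Lpe (f117036 IH) (Lpr_bt (f118715 IH) (Lpr_gt (K5.f124418 IH) (Lpr_ct (K5.f104185 IH) (Lpr_gt (K2.f79144 IH) (Lpe (f26265 IH) (Lpe (f26363 IH) (Lpr_gt (f61661 IH) (Lpe (f124510 IH) (Lpn (LP (LK LD1_c9 LD2_c12 LD3_c53)))))))))))))
theorem f124530 : Led Lsl_et (LP (LK LD1_c17 LD2_c7 LD3_c20)) = (LP (LK LD1_c9 LD2_c12 LD3_c53)) :=
  Lre_e IH (LK LD1_c17 LD2_c7 LD3_c20) (LK LD1_c9 LD2_c12 LD3_c53) Lrfl Lrfl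
theorem f124531 : Led Lsl_ct (LP (LK LD1_c12 LD2_c36 LD3_c31)) = (LP (LK LD1_c17 LD2_c7 LD3_c20)) :=
  Lgr Lrot15 (Lpe (f124529 IH) (Lpr_cf (f124511 IH) (Lpe (f124530 IH) (Lpn (LP (LK LD1_c17 LD2_c7 LD3_c20))))))
theorem f124534 : Led Lsl_cf (LP (LK LD1_c12 LD2_c36 LD3_c31)) = (LP (LK LD1_c17 LD2_c7 LD3_c20)) :=
  Lgr Lrot11 (Lpr_ct (f124531 IH) (Lpn (LP (LK LD1_c17 LD2_c7 LD3_c20))))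
theorem f115607 : Led Lsl_et (LP (LK LD1_c12 LD2_c1 LD3_c38)) = (LP (LK LD1_c6 LD2_c10 LD3_c32)) :=
  Lre_e IH (LK LD1_c12 LD2_c1 LD3_c38) (LK LD1_c6 LD2_c10 LD3_c32) Lrfl Lrfl
theorem f141565 : Led Lsl_et (LP (LK LD1_c3 LD2_c17 LD3_c8)) = (LP (LK LD1_c6 LD2_c37 LD3_c36)) :=
  Lre_e IH (LK LD1_c3 LD2_c17 LD3_c8) (LK LD1_c6 LD2_c37 LD3_c36) Lrfl Lrfl
theorem f141566 : Led Lsl_cf (LP (LK LD1_c12 LD2_c1 LD3_c38)) = (LP (LK LD1_c6 LD2_c37 LD3_c36)) :=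
  Lgr Lrot39 (Lpr_et (f115607 IH) (Lpr_ct (f141558 IH) (Lpr_et (f141565 IH) (Lpn (LP (LK LD1_c6 LD2_c37 LD3_c36))))))
theorem f141703 : Led Lsl_af (LP (LK LD1_c17 LD2_c7 LD3_c20)) = (LP (LK LD1_c12 LD2_c1 LD3_c38)) :=
  Lgr Lrot68 (Lpe (f124534 IH) (Lpr_at (f141698 IH) (Lpe (f141566 IH) (Lpn (LP (LK LD1_c12 LD2_c1 LD3_c38))))))
theorem f141705 : Led Lsl_at (LP (LK LD1_c17 LD2_c7 LD3_c20)) = (LP (LK LD1_c12 LD2_c1 LD3_c38)) :=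
  Lgr Lrot100 (Lpr_af (f141703 IH) (Lpn (LP (LK LD1_c12 LD2_c1 LD3_c38))))
theorem f124537 : Led Lsl_et (LP (LK LD1_c9 LD2_c12 LD3_c53)) = (LP (LK LD1_c17 LD2_c7 LD3_c20)) :=
  Lre_e IH (LK LD1_c9 LD2_c12 LD3_c53) (LK LD1_c17 LD2_c7 LD3_c20) Lrfl Lrfl
theorem f141709 : Led Lsl_af (LP (LK LD1_c9 LD2_c12 LD3_c53)) = (LP (LK LD1_c6 LD2_c10 LD3_c32)) :=
  Lgr Lrot50 (Lpr_et (f124537 IH) (Lpr_at (f141705 IH) (Lpr_et (f115607 IH) (Lpn (LP (LK LD1_c6 LD2_c10 LD3_c32))))))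
theorem f141714 : Led Lsl_gf (LP (LK LD1_c9 LD2_c12 LD3_c53)) = (LP (LK LD1_c6 LD2_c35 LD3_c0)) :=
  Lgr Lrot76 (Lpr_af (f141709 IH) (Lpe (K4.f115611 IH) (Lpr_gt (f65277 IH) (Lpn (LP (LK LD1_c6 LD2_c35 LD3_c0))))))
theorem f124527 : Led Lsl_ct (LP (LK LD1_c6 LD2_c35 LD3_c13)) = (LP (LK LD1_c9 LD2_c12 LD3_c53)) :=
  Lgr Lrot59 (Lpr_cf (f124511 IH) (Lpn (LP (LK LD1_c9 LD2_c12 LD3_c53))))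
theorem f109908 : Led Lsl_gt (LP (LK LD1_c4 LD2_c37 LD3_c40)) = (LP (LK LD1_c3 LD2_c16 LD3_c14)) :=
  Lre_g IH (LK LD1_c4 LD2_c37 LD3_c40) (LK LD1_c3 LD2_c16 LD3_c14) Lrfl Lrfl
theorem f96650 : Led Lsl_bt (LP (LK LD1_c2 LD2_c16 LD3_c1)) = (LP (LK LD1_c4 LD2_c37 LD3_c40)) :=
  Lre_b IH (LK LD1_c2 LD2_c16 LD3_c1) (LK LD1_c4 LD2_c37 LD3_c40) Lrfl Lrfl
theorem f96651 : Led Lsl_ct (LP (LK LD1_c2 LD2_c16 LD3_c1)) = (LP (LK LD1_c1 LD2_c4 LD3_c60)) :=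
  Lre_c IH (LK LD1_c2 LD2_c16 LD3_c1) (LK LD1_c1 LD2_c4 LD3_c60) Lrfl Lrfl
theorem f57107 : Led Lsl_ct (LP (LK LD1_c1 LD2_c36 LD3_c33)) = (LP (LK LD1_c0 LD2_c44 LD3_c44)) :=
  Lre_c IH (LK LD1_c1 LD2_c36 LD3_c33) (LK LD1_c0 LD2_c44 LD3_c44) Lrfl Lrfl
theorem f139698 : Led Lsl_gt (LP (LK LD1_c3 LD2_c20 LD3_c19)) = (LP (LK LD1_c1 LD2_c36 LD3_c33)) :=
  Lre_g IH (LK LD1_c3 LD2_c20 LD3_c19) (LK LD1_c1 LD2_c36 LD3_c33) Lrfl Lrfl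
theorem f141720 : Led Lsl_bt (LP (LK LD1_c6 LD2_c35 LD3_c13)) = (LP (LK LD1_c3 LD2_c20 LD3_c19)) :=
  Lgr Lrot130 (Lpr_ct (f124527 IH) (Lpr_gf (f141714 IH) (Lpe (f141651 IH) (Lpr_bt (f15553 IH) (Lpe (f109908 IH) (Lpe (f96650 IH) (Lpr_ct (f96651 IH) (Lpe (K4.f40100 IH) (Lpe (f57107 IH) (Lpe (f139698 IH) (Lpn (LP (LK LD1_c3 LD2_c20 LD3_c19)))))))))))))
theorem f141722 : Led Lsl_bf (LP (LK LD1_c6 LD2_c35 LD3_c13)) = (LP (LK LD1_c3 LD2_c20 LD3_c19)) :=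
  Lgr Lrot24 (Lpr_bt (f141720 IH) (Lpn (LP (LK LD1_c3 LD2_c20 LD3_c19))))
theorem f141694 : Led Lsl_at (LP (LK LD1_c6 LD2_c35 LD3_c13)) = (LP (LK LD1_c3 LD2_c17 LD3_c8)) :=
  Lgr Lrot100 (Lpr_af (f141680 IH) (Lpn (LP (LK LD1_c3 LD2_c17 LD3_c8))))
theorem f130581 : Led Lsl_at (LP (LK LD1_c7 LD2_c1 LD3_c18)) = (LP (LK LD1_c3 LD2_c29 LD3_c53)) :=
  Lre_a IH (LK LD1_c7 LD2_c1 LD3_c18) (LK LD1_c3 LD2_c29 LD3_c53) Lrfl Lrfl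
theorem f141600 : Led Lsl_af (LP (LK LD1_c9 LD2_c11 LD3_c14)) = (LP (LK LD1_c6 LD2_c37 LD3_c35)) :=
  Lgr Lrot68 (Lpe (K5.f130578 IH) (Lpr_at (f130581 IH) (Lpr_ct (f141597 IH) (Lpn (LP (LK LD1_c6 LD2_c37 LD3_c35))))))
theorem f130561 : Led Lsl_bt (LP (LK LD1_c9 LD2_c11 LD3_c14)) = (LP (LK LD1_c4 LD2_c37 LD3_c48)) :=
  Lre_b IH (LK LD1_c9 LD2_c11 LD3_c14) (LK LD1_c4 LD2_c37 LD3_c48) Lrfl Lrfl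
theorem f141731 : Led Lsl_at (LP (LK LD1_c4 LD2_c37 LD3_c48)) = (LP (LK LD1_c3 LD2_c20 LD3_c19)) :=
  Lgr Lrot67 (Lpe (f130561 IH) (Lpr_af (f141600 IH) (Lpe (f141560 IH) (Lpe (f141694 IH) (Lpr_bf (f141722 IH) (Lpn (LP (LK LD1_c3 LD2_c20 LD3_c19))))))))
theorem f139704 : Led Lsl_et (LP (LK LD1_c3 LD2_c20 LD3_c19)) = (LP (LK LD1_c6 LD2_c44 LD3_c22)) :=
  Lre_e IH (LK LD1_c3 LD2_c20 LD3_c19) (LK LD1_c6 LD2_c44 LD3_c22) Lrfl Lrfl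
theorem f141907 : Led Lsl_af (LP (LK LD1_c9 LD2_c11 LD3_c15)) = (LP (LK LD1_c6 LD2_c44 LD3_c22)) :=
  Lgr Lrot50 (Lpr_et (K5.f130564 IH) (Lpr_at (f141731 IH) (Lpr_et (f139704 IH) (Lpn (LP (LK LD1_c6 LD2_c44 LD3_c22))))))
theorem f141728 : Led Lsl_ct (LP (LK LD1_c12 LD2_c53 LD3_c19)) = (LP (LK LD1_c6 LD2_c44 LD3_c22)) :=
  Lre_c IH (LK LD1_c12 LD2_c53 LD3_c19) (LK LD1_c6 LD2_c44 LD3_c22) Lrfl Lrfl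
theorem f141913 : Led Lsl_at (LP (LK LD1_c9 LD2_c5 LD3_c54)) = (LP (LK LD1_c12 LD2_c53 LD3_c19)) :=
  Lgr Lrot107 (Lpr_cf (K5.f130570 IH) (Lpr_af (f141907 IH) (Lpe (f141728 IH) (Lpn (LP (LK LD1_c12 LD2_c53 LD3_c19))))))
theorem f141919 : Led Lsl_af (LP (LK LD1_c9 LD2_c5 LD3_c54)) = (LP (LK LD1_c12 LD2_c53 LD3_c19)) :=
  Lgr Lrot0 (Lpr_at (f141913 IH) (Lpn (LP (LK LD1_c12 LD2_c53 LD3_c19))))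
theorem f130555 : Led Lsl_et (LP (LK LD1_c9 LD2_c5 LD3_c54)) = (LP (LK LD1_c4 LD2_c34 LD3_c29)) :=
  Lre_e IH (LK LD1_c9 LD2_c5 LD3_c54) (LK LD1_c4 LD2_c34 LD3_c29) Lrfl Lrfl
theorem f141754 : Led Lsl_et (LP (LK LD1_c6 LD2_c44 LD3_c21)) = (LP (LK LD1_c12 LD2_c53 LD3_c19)) :=
  Lre_e IH (LK LD1_c6 LD2_c44 LD3_c21) (LK LD1_c12 LD2_c53 LD3_c19) Lrfl Lrfl
theorem f141921 : Led Lsl_at (LP (LK LD1_c4 LD2_c34 LD3_c29)) = (LP (LK LD1_c6 LD2_c44 LD3_c21)) :=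
  Lgr Lrot80 (Lpe (f130555 IH) (Lpr_af (f141919 IH) (Lpe (f141754 IH) (Lpn (LP (LK LD1_c6 LD2_c44 LD3_c21))))))
theorem f11288 : Led Lsl_gt (LP (LK LD1_c0 LD2_c44 LD3_c7)) = (LP (LK LD1_c0 LD2_c19 LD3_c47)) :=
  Lre_g IH (LK LD1_c0 LD2_c44 LD3_c7) (LK LD1_c0 LD2_c19 LD3_c47) Lrfl Lrfl
theorem f23275 : Led Lsl_ct (LP (LK LD1_c0 LD2_c44 LD3_c22)) = (LP (LK LD1_c0 LD2_c19 LD3_c47)) :=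
  Lre_c IH (LK LD1_c0 LD2_c44 LD3_c22) (LK LD1_c0 LD2_c19 LD3_c47) Lrfl Lrfl
theorem f124491 : Led Lsl_bt (LP (LK LD1_c0 LD2_c44 LD3_c22)) = (LP (LK LD1_c1 LD2_c5 LD3_c1)) :=
  Lre_b IH (LK LD1_c0 LD2_c44 LD3_c22) (LK LD1_c1 LD2_c5 LD3_c1) Lrfl Lrfl
theorem f58895 : Led Lsl_gt (LP (LK LD1_c1 LD2_c5 LD3_c1)) = (LP (LK LD1_c2 LD2_c16 LD3_c8)) :=
  Lre_g IH (LK LD1_c1 LD2_c5 LD3_c1) (LK LD1_c2 LD2_c16 LD3_c8) Lrfl Lrfl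
theorem f80098 : Led Lsl_ct (LP (LK LD1_c2 LD2_c16 LD3_c8)) = (LP (LK LD1_c4 LD2_c38 LD3_c0)) :=
  Lre_c IH (LK LD1_c2 LD2_c16 LD3_c8) (LK LD1_c4 LD2_c38 LD3_c0) Lrfl Lrfl
theorem f139703 : Led Lsl_ct (LP (LK LD1_c3 LD2_c20 LD3_c19)) = (LP (LK LD1_c6 LD2_c44 LD3_c21)) :=
  Lre_c IH (LK LD1_c3 LD2_c20 LD3_c19) (LK LD1_c6 LD2_c44 LD3_c21) Lrfl Lrfl
theorem f141733 : Led Lsl_gt (LP (LK LD1_c4 LD2_c38 LD3_c0)) = (LP (LK LD1_c6 LD2_c44 LD3_c21)) :=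
  Lgr Lrot149 (Lpe (f80098 IH) (Lpe (f58895 IH) (Lpe (f124491 IH) (Lpr_ct (f23275 IH) (Lpe (f11288 IH) (Lpe (K3.f65012 IH) (Lpr_bt (f110029 IH) (Lpe (f117041 IH) (Lpr_bf (f141722 IH) (Lpr_ct (f139703 IH) (Lpn (LP (LK LD1_c6 LD2_c44 LD3_c21)))))))))))))
theorem f80051 : Led Lsl_gt (LP (LK LD1_c2 LD2_c16 LD3_c8)) = (LP (LK LD1_c1 LD2_c35 LD3_c26)) :=
  Lre_g IH (LK LD1_c2 LD2_c16 LD3_c8) (LK LD1_c1 LD2_c35 LD3_c26) Lrfl Lrfl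
theorem f58896 : Led Lsl_ct (LP (LK LD1_c4 LD2_c38 LD3_c0)) = (LP (LK LD1_c2 LD2_c16 LD3_c8)) :=
  Lre_c IH (LK LD1_c4 LD2_c38 LD3_c0) (LK LD1_c2 LD2_c16 LD3_c8) Lrfl Lrfl
theorem f56804 : Led Lsl_bt (LP (LK LD1_c1 LD2_c21 LD3_c9)) = (LP (LK LD1_c2 LD2_c50 LD3_c11)) :=
  Lre_b IH (LK LD1_c1 LD2_c21 LD3_c9) (LK LD1_c2 LD2_c50 LD3_c11) Lrfl Lrfl
theorem f135944 : Led Lsl_gf (LP (LK LD1_c4 LD2_c38 LD3_c0)) = (LP (LK LD1_c2 LD2_c50 LD3_c11)) :=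
  Lgr Lrot181 (Lpr_ct (f58896 IH) (Lpr_gt (f80051 IH) (Lpe (K0.f26400 IH) (Lpr_bt (K0.f26403 IH) (Lpr_gt (K2.f56898 IH) (Lpe (f56767 IH) (Lpr_ct (f56768 IH) (Lpr_gt (f135935 IH) (Lpe (f56828 IH) (Lpr_bt (f56804 IH) (Lpn (LP (LK LD1_c2 LD2_c50 LD3_c11)))))))))))))
theorem f141925 : Led Lsl_ff (LP (LK LD1_c4 LD2_c34 LD3_c29)) = (LP (LK LD1_c2 LD2_c50 LD3_c11)) :=
  Lgr Lrot52 (Lpr_at (f141921 IH) (Lpe (f141733 IH) (Lpr_gf (f135944 IH) (Lpn (LP (LK LD1_c2 LD2_c50 LD3_c11))))))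
theorem f141932 : Led Lsl_ft (LP (LK LD1_c4 LD2_c34 LD3_c29)) = (LP (LK LD1_c2 LD2_c50 LD3_c11)) :=
  Lgr Lrot48 (Lpr_ff (f141925 IH) (Lpn (LP (LK LD1_c2 LD2_c50 LD3_c11))))
theorem f61822 : Led Lsl_bt (LP (LK LD1_c4 LD2_c34 LD3_c29)) = (LP (LK LD1_c2 LD2_c14 LD3_c13)) :=
  Lre_b IH (LK LD1_c4 LD2_c34 LD3_c29) (LK LD1_c2 LD2_c14 LD3_c13) Lrfl Lrfl
theorem f72393 : Led Lsl_bt (LP (LK LD1_c1 LD2_c4 LD3_c21)) = (LP (LK LD1_c2 LD2_c14 LD3_c28)) :=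
  Lre_b IH (LK LD1_c1 LD2_c4 LD3_c21) (LK LD1_c2 LD2_c14 LD3_c28) Lrfl Lrfl
theorem f130548 : Led Lsl_df (LP (LK LD1_c4 LD2_c34 LD3_c29)) = (LP (LK LD1_c2 LD2_c14 LD3_c28)) :=
  Lgr Lrot12 (Lpr_bt (f61822 IH) (Lpr_dt (K5.f130546 IH) (Lpr_bt (f72393 IH) (Lpn (LP (LK LD1_c2 LD2_c14 LD3_c28))))))
theorem f8369 : Led Lsl_bt (LP (LK LD1_c1 LD2_c21 LD3_c56)) = (LP (LK LD1_c0 LD2_c37 LD3_c55)) :=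
  Lre_b IH (LK LD1_c1 LD2_c21 LD3_c56) (LK LD1_c0 LD2_c37 LD3_c55) Lrfl Lrfl
theorem f136305 : Led Lsl_dt (LP (LK LD1_c2 LD2_c50 LD3_c11)) = (LP (LK LD1_c1 LD2_c21 LD3_c56)) :=
  Lgr Lrot79 (Lpe (f56804 IH) (Lpr_df (f136269 IH) (Lpe (f8369 IH) (Lpn (LP (LK LD1_c1 LD2_c21 LD3_c56))))))
theorem f141938 : Led Lsl_ff (LP (LK LD1_c2 LD2_c14 LD3_c28)) = (LP (LK LD1_c1 LD2_c21 LD3_c56)) :=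
  Lgr Lrot19 (Lpe (f130548 IH) (Lpr_ft (f141932 IH) (Lpr_dt (f136305 IH) (Lpn (LP (LK LD1_c1 LD2_c21 LD3_c56))))))
theorem f141945 : Led Lsl_ft (LP (LK LD1_c2 LD2_c14 LD3_c28)) = (LP (LK LD1_c1 LD2_c21 LD3_c56)) :=
  Lgr Lrot48 (Lpr_ff (f141938 IH) (Lpn (LP (LK LD1_c1 LD2_c21 LD3_c56))))
theorem f141951 : Led Lsl_df (LP (LK LD1_c2 LD2_c50 LD3_c11)) = (LP (LK LD1_c1 LD2_c21 LD3_c56)) :=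
  Lgr Lrot78 (Lpe (f141925 IH) (Lpr_dt (K5.f130553 IH) (Lpr_ft (f141945 IH) (Lpn (LP (LK LD1_c1 LD2_c21 LD3_c56))))))
theorem f40640 : Led Lsl_dt (LP (LK LD1_c0 LD2_c44 LD3_c46)) = (LP (LK LD1_c1 LD2_c4 LD3_c49)) :=
  Lre_d IH (LK LD1_c0 LD2_c44 LD3_c46) (LK LD1_c1 LD2_c4 LD3_c49) Lrfl Lrfl
theorem f141954 : Led Lsl_gf (LP (LK LD1_c2 LD2_c10 LD3_c13)) = (LP (LK LD1_c1 LD2_c21 LD3_c56)) :=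
  Lgr Lrot147 (Lpr_ct (f80135 IH) (Lpr_gt (f80134 IH) (Lpr_ct (K5.f80209 IH) (Lpe (f40640 IH) (Lpe (f75056 IH) (Lpe (f80051 IH) (Lpe (f58896 IH) (Lpr_gf (f135944 IH) (Lpr_df (f141951 IH) (Lpn (LP (LK LD1_c1 LD2_c21 LD3_c56))))))))))))
theorem f99950 : Led Lsl_dt (LP (LK LD1_c1 LD2_c5 LD3_c1)) = (LP (LK LD1_c2 LD2_c16 LD3_c10)) :=
  Lre_d IH (LK LD1_c1 LD2_c5 LD3_c1) (LK LD1_c2 LD2_c16 LD3_c10) Lrfl Lrfl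
theorem f141960 : Led Lsl_gt (LP (LK LD1_c4 LD2_c38 LD3_c4)) = (LP (LK LD1_c2 LD2_c50 LD3_c11)) :=
  Lgr Lrot94 (Lpe (K4.f26386 IH) (Lpr_gt (K0.f26380 IH) (Lpr_dt (f99950 IH) (Lpr_gt (f65014 IH) (Lpe (f100348 IH) (Lpr_cf (f99697 IH) (Lpe (f99665 IH) (Lpr_gf (f141954 IH) (Lpe (f136305 IH) (Lpn (LP (LK LD1_c2 LD2_c50 LD3_c11))))))))))))
theorem f132544 : Led Lsl_gt (LP (LK LD1_c4 LD2_c34 LD3_c24)) = (LP (LK LD1_c2 LD2_c49 LD3_c17)) :=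
  Lgr Lrot82 (Lpr_bf (K5.f132540 IH) (Lpr_ct (K4.f117540 IH) (Lpe (K4.f23392 IH) (Lpe (K4.f36492 IH) (Lpr_bt (K4.f26764 IH) (Lpr_gf (K1.f26017 IH) (Lpe (K4.f26777 IH) (Lpr_ct (K4.f27053 IH) (Lpe (K4.f36424 IH) (Lpe (K4.f60933 IH) (Lpn (LP (LK LD1_c2 LD2_c49 LD3_c17)))))))))))))
theorem f132432 : Led Lsl_at (LP (LK LD1_c2 LD2_c49 LD3_c58)) = (LP (LK LD1_c1 LD2_c21 LD3_c2)) :=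
  Lre_a IH (LK LD1_c2 LD2_c49 LD3_c58) (LK LD1_c1 LD2_c21 LD3_c2) Lrfl Lrfl
theorem f132546 : Led Lsl_gf (LP (LK LD1_c1 LD2_c21 LD3_c2)) = (LP (LK LD1_c2 LD2_c49 LD3_c17)) :=
  Lgr Lrot76 (Lpe (f132432 IH) (Lpe (K5.f132538 IH) (Lpr_gt (f132544 IH) (Lpn (LP (LK LD1_c2 LD2_c49 LD3_c17))))))
theorem f57091 : Led Lsl_dt (LP (LK LD1_c6 LD2_c39 LD3_c1)) = (LP (LK LD1_c12 LD2_c43 LD3_c41)) :=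
  Lre_d IH (LK LD1_c6 LD2_c39 LD3_c1) (LK LD1_c12 LD2_c43 LD3_c41) Lrfl Lrfl
theorem f116791 : Led Lsl_et (LP (LK LD1_c6 LD2_c25 LD3_c9)) = (LP (LK LD1_c3 LD2_c10 LD3_c13)) :=
  Lre_e IH (LK LD1_c6 LD2_c25 LD3_c9) (LK LD1_c3 LD2_c10 LD3_c13) Lrfl Lrfl
theorem f116792 : Led Lsl_dt (LP (LK LD1_c12 LD2_c23 LD3_c20)) = (LP (LK LD1_c6 LD2_c25 LD3_c9)) :=
  Lre_d IH (LK LD1_c12 LD2_c23 LD3_c20) (LK LD1_c6 LD2_c25 LD3_c9) Lrfl Lrfl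
theorem f116793 : Led Lsl_et (LP (LK LD1_c12 LD2_c43 LD3_c41)) = (LP (LK LD1_c12 LD2_c23 LD3_c20)) :=
  Lgr Lrot71 (Lpe (f57091 IH) (Lpe (K4.f57059 IH) (Lpr_df (K4.f116783 IH) (Lpe (f116791 IH) (Lpe (f116792 IH) (Lpn (LP (LK LD1_c12 LD2_c23 LD3_c20))))))))
theorem f116818 : Led Lsl_ef (LP (LK LD1_c12 LD2_c43 LD3_c41)) = (LP (LK LD1_c12 LD2_c23 LD3_c20)) :=
  Lgr Lrot88 (Lpr_et (f116793 IH) (Lpn (LP (LK LD1_c12 LD2_c23 LD3_c20))))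
theorem f116821 : Led Lsl_bt (LP (LK LD1_c12 LD2_c43 LD3_c41)) = (LP (LK LD1_c6 LD2_c39 LD3_c4)) :=
  Lre_b IH (LK LD1_c12 LD2_c43 LD3_c41) (LK LD1_c6 LD2_c39 LD3_c4) Lrfl Lrfl
theorem f116822 : Led Lsl_et (LP (LK LD1_c6 LD2_c39 LD3_c4)) = (LP (LK LD1_c12 LD2_c43 LD3_c44)) :=
  Lre_e IH (LK LD1_c6 LD2_c39 LD3_c4) (LK LD1_c12 LD2_c43 LD3_c44) Lrfl Lrfl
theorem f116823 : Led Lsl_bt (LP (LK LD1_c12 LD2_c43 LD3_c44)) = (LP (LK LD1_c12 LD2_c23 LD3_c20)) :=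
  Lgr Lrot119 (Lpe (f116822 IH) (Lpe (f116821 IH) (Lpr_ef (f116818 IH) (Lpn (LP (LK LD1_c12 LD2_c23 LD3_c20))))))
theorem f116836 : Led Lsl_dt (LP (LK LD1_c6 LD2_c39 LD3_c2)) = (LP (LK LD1_c12 LD2_c43 LD3_c44)) :=
  Lre_d IH (LK LD1_c6 LD2_c39 LD3_c2) (LK LD1_c12 LD2_c43 LD3_c44) Lrfl Lrfl
theorem f116837 : Led Lsl_bf (LP (LK LD1_c6 LD2_c39 LD3_c2)) = (LP (LK LD1_c6 LD2_c25 LD3_c9)) :=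
  Lgr Lrot93 (Lpr_dt (f116836 IH) (Lpr_bt (f116823 IH) (Lpr_dt (f116792 IH) (Lpn (LP (LK LD1_c6 LD2_c25 LD3_c9))))))
theorem f116841 : Led Lsl_bt (LP (LK LD1_c6 LD2_c39 LD3_c2)) = (LP (LK LD1_c6 LD2_c25 LD3_c9)) :=
  Lgr Lrot127 (Lpr_bf (f116837 IH) (Lpn (LP (LK LD1_c6 LD2_c25 LD3_c9))))
theorem f116859 : Led Lsl_et (LP (LK LD1_c3 LD2_c17 LD3_c46)) = (LP (LK LD1_c6 LD2_c39 LD3_c2)) :=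
  Lre_e IH (LK LD1_c3 LD2_c17 LD3_c46) (LK LD1_c6 LD2_c39 LD3_c2) Lrfl Lrfl
theorem f116860 : Led Lsl_bf (LP (LK LD1_c3 LD2_c17 LD3_c46)) = (LP (LK LD1_c3 LD2_c10 LD3_c13)) :=
  Lgr Lrot96 (Lpr_et (f116859 IH) (Lpr_bt (f116841 IH) (Lpr_et (f116791 IH) (Lpn (LP (LK LD1_c3 LD2_c10 LD3_c13))))))
theorem f68537 : Led Lsl_bt (LP (LK LD1_c0 LD2_c8 LD3_c28)) = (LP (LK LD1_c0 LD2_c18 LD3_c49)) :=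
  Lre_b IH (LK LD1_c0 LD2_c8 LD3_c28) (LK LD1_c0 LD2_c18 LD3_c49) Lrfl Lrfl
theorem f59531 : Led Lsl_gf (LP (LK LD1_c0 LD2_c1 LD3_c40)) = (LP (LK LD1_c0 LD2_c3 LD3_c45)) :=
  Lgr Lrot147 (Lpr_ct (K1.f7125 IH) (Lpr_gt (K0.f1496 IH) (Lpr_ct (K0.f1497 IH) (Lpe (K0.f20270 IH) (Lpe (K0.f8330 IH) (Lpe (K0.f23902 IH) (Lpe (K1.f37912 IH) (Lpr_gf (K1.f59515 IH) (Lpe (K1.f36618 IH) (Lpn (LP (LK LD1_c0 LD2_c3 LD3_c45))))))))))))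
theorem f59609 : Led Lsl_bt (LP (LK LD1_c0 LD2_c8 LD3_c9)) = (LP (LK LD1_c0 LD2_c3 LD3_c45)) :=
  Lre_b IH (LK LD1_c0 LD2_c8 LD3_c9) (LK LD1_c0 LD2_c3 LD3_c45) Lrfl Lrfl
theorem f116863 : Led Lsl_gt (LP (LK LD1_c3 LD2_c17 LD3_c46)) = (LP (LK LD1_c3 LD2_c2 LD3_c6)) :=
  Lgr Lrot190 (Lpr_bf (f116860 IH) (Lpe (K4.f69208 IH) (Lpe (K4.f69205 IH) (Lpe (K4.f68538 IH) (Lpe (f68537 IH) (Lpe (K1.f56566 IH) (Lpe (K4.f25921 IH) (Lpr_gf (f59531 IH) (Lpe (f59609 IH) (Lpe (K2.f59619 IH) (Lpe (K1.f59584 IH) (Lpe (K1.f59577 IH) (Lpr_bf (K0.f34738 IH) (Lpr_cf (K0.f26586 IH) (Lpe (K0.f25186 IH) (Lpr_gf (K0.f27150 IH) (Lpe (K5.f23038 IH) (Lpe (K4.f27157 IH) (Lpe (K5.f27158 IH) (Lpn (LP (LK LD1_c3 LD2_c2 LD3_c6))))))))))))))))))))))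
theorem f14355 : Led Lsl_dt (LP (LK LD1_c1 LD2_c35 LD3_c25)) = (LP (LK LD1_c3 LD2_c17 LD3_c46)) :=
  Lre_d IH (LK LD1_c1 LD2_c35 LD3_c25) (LK LD1_c3 LD2_c17 LD3_c46) Lrfl Lrfl
theorem f96652 : Led Lsl_gt (LP (LK LD1_c1 LD2_c4 LD3_c60)) = (LP (LK LD1_c0 LD2_c44 LD3_c45)) :=
  Lre_g IH (LK LD1_c1 LD2_c4 LD3_c60) (LK LD1_c0 LD2_c44 LD3_c45) Lrfl Lrfl
theorem f116865 : Led Lsl_dt (LP (LK LD1_c0 LD2_c44 LD3_c45)) = (LP (LK LD1_c1 LD2_c20 LD3_c41)) :=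
  Lgr Lrot57 (Lpe (f96652 IH) (Lpe (f96651 IH) (Lpr_gt (K4.f14354 IH) (Lpr_dt (f14355 IH) (Lpr_gt (f116863 IH) (Lpr_dt (K5.f27158 IH) (Lpe (f23039 IH) (Lpr_df (K5.f59875 IH) (Lpe (K5.f56599 IH) (Lpn (LP (LK LD1_c1 LD2_c20 LD3_c41))))))))))))
theorem f116894 : Led Lsl_df (LP (LK LD1_c0 LD2_c44 LD3_c45)) = (LP (LK LD1_c1 LD2_c20 LD3_c41)) :=
  Lgr Lrot38 (Lpr_dt (f116865 IH) (Lpn (LP (LK LD1_c1 LD2_c20 LD3_c41))))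
theorem f62198 : Led Lsl_ct (LP (LK LD1_c1 LD2_c36 LD3_c35)) = (LP (LK LD1_c0 LD2_c44 LD3_c45)) :=
  Lre_c IH (LK LD1_c1 LD2_c36 LD3_c35) (LK LD1_c0 LD2_c44 LD3_c45) Lrfl Lrfl
theorem f56752 : Led Lsl_ct (LP (LK LD1_c0 LD2_c44 LD3_c44)) = (LP (LK LD1_c1 LD2_c36 LD3_c33)) :=
  Lre_c IH (LK LD1_c0 LD2_c44 LD3_c44) (LK LD1_c1 LD2_c36 LD3_c33) Lrfl Lrfl
theorem f56753 : Led Lsl_gt (LP (LK LD1_c1 LD2_c36 LD3_c33)) = (LP (LK LD1_c3 LD2_c20 LD3_c18)) :=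
  Lre_g IH (LK LD1_c1 LD2_c36 LD3_c33) (LK LD1_c3 LD2_c20 LD3_c18) Lrfl Lrfl
theorem f56756 : Led Lsl_bt (LP (LK LD1_c2 LD2_c50 LD3_c11)) = (LP (LK LD1_c1 LD2_c21 LD3_c9)) :=
  Lre_b IH (LK LD1_c2 LD2_c50 LD3_c11) (LK LD1_c1 LD2_c21 LD3_c9) Lrfl Lrfl
theorem f56757 : Led Lsl_cf (LP (LK LD1_c3 LD2_c20 LD3_c18)) = (LP (LK LD1_c2 LD2_c50 LD3_c11)) :=
  Lgr Lrot163 (Lpe (f56753 IH) (Lpe (f56752 IH) (Lpe (K4.f24318 IH) (Lpe (K4.f24317 IH) (Lpr_ct (K1.f22835 IH) (Lpe (K1.f350 IH) (Lpr_cf (K1.f56671 IH) (Lpr_bt (f56754 IH) (Lpe (f56755 IH) (Lpe (f56756 IH) (Lpn (LP (LK LD1_c2 LD2_c50 LD3_c11)))))))))))))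
theorem f141963 : Led Lsl_gf (LP (LK LD1_c1 LD2_c36 LD3_c35)) = (LP (LK LD1_c3 LD2_c20 LD3_c18)) :=
  Lgr Lrot104 (Lpr_ct (f62198 IH) (Lpr_df (f116894 IH) (Lpe (K5.f56600 IH) (Lpe (K5.f132574 IH) (Lpe (K5.f100283 IH) (Lpr_gf (f132546 IH) (Lpr_df (K4.f80025 IH) (Lpr_gt (f141960 IH) (Lpe (f56757 IH) (Lpn (LP (LK LD1_c3 LD2_c20 LD3_c18))))))))))))
theorem f26492 : Led Lsl_gt (LP (LK LD1_c0 LD2_c44 LD3_c45)) = (LP (LK LD1_c0 LD2_c19 LD3_c53)) :=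
  Lre_g IH (LK LD1_c0 LD2_c44 LD3_c45) (LK LD1_c0 LD2_c19 LD3_c53) Lrfl Lrfl
theorem f26507 : Led Lsl_ct (LP (LK LD1_c0 LD2_c19 LD3_c53)) = (LP (LK LD1_c0 LD2_c44 LD3_c19)) :=
  Lre_c IH (LK LD1_c0 LD2_c19 LD3_c53) (LK LD1_c0 LD2_c44 LD3_c19) Lrfl Lrfl
theorem f139612 : Led Lsl_dt (LP (LK LD1_c1 LD2_c35 LD3_c27)) = (LP (LK LD1_c0 LD2_c44 LD3_c19)) :=
  Lre_d IH (LK LD1_c1 LD2_c35 LD3_c27) (LK LD1_c0 LD2_c44 LD3_c19) Lrfl Lrfl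
theorem f114922 : Led Lsl_ct (LP (LK LD1_c3 LD2_c17 LD3_c52)) = (LP (LK LD1_c1 LD2_c35 LD3_c27)) :=
  Lre_c IH (LK LD1_c3 LD2_c17 LD3_c52) (LK LD1_c1 LD2_c35 LD3_c27) Lrfl Lrfl
theorem f141969 : Led Lsl_df (LP (LK LD1_c6 LD2_c20 LD3_c15)) = (LP (LK LD1_c3 LD2_c20 LD3_c18)) :=
  Lgr Lrot155 (Lpr_gt (f141243 IH) (Lpr_ct (f141303 IH) (Lpe (f141322 IH) (Lpr_ct (f114922 IH) (Lpr_dt (f139612 IH) (Lpe (f26507 IH) (Lpe (f26492 IH) (Lpe (f62198 IH) (Lpr_gf (f141963 IH) (Lpn (LP (LK LD1_c3 LD2_c20 LD3_c18))))))))))))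
theorem f141254 : Led Lsl_dt (LP (LK LD1_c9 LD2_c9 LD3_c21)) = (LP (LK LD1_c4 LD2_c36 LD3_c39)) :=
  Lre_d IH (LK LD1_c9 LD2_c9 LD3_c21) (LK LD1_c4 LD2_c36 LD3_c39) Lrfl Lrfl
theorem f141255 : Led Lsl_ct (LP (LK LD1_c4 LD2_c36 LD3_c39)) = (LP (LK LD1_c2 LD2_c15 LD3_c32)) :=
  Lre_c IH (LK LD1_c4 LD2_c36 LD3_c39) (LK LD1_c2 LD2_c15 LD3_c32) Lrfl Lrfl
theorem f40099 : Led Lsl_dt (LP (LK LD1_c1 LD2_c4 LD3_c60)) = (LP (LK LD1_c0 LD2_c29 LD3_c41)) :=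
  Lre_d IH (LK LD1_c1 LD2_c4 LD3_c60) (LK LD1_c0 LD2_c29 LD3_c41) Lrfl Lrfl
theorem f141984 : Led Lsl_gf (LP (LK LD1_c1 LD2_c4 LD3_c50)) = (LP (LK LD1_c0 LD2_c29 LD3_c41)) :=
  Lgr Lrot143 (Lpr_dt (f141300 IH) (Lpe (f141255 IH) (Lpe (f141254 IH) (Lpe (f141243 IH) (Lpr_df (f141969 IH) (Lpe (f56753 IH) (Lpe (f56752 IH) (Lpr_gt (K4.f40100 IH) (Lpr_dt (f40099 IH) (Lpn (LP (LK LD1_c0 LD2_c29 LD3_c41))))))))))))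
theorem f139586 : Led Lsl_ft (LP (LK LD1_c0 LD2_c29 LD3_c41)) = (LP (LK LD1_c1 LD2_c4 LD3_c49)) :=
  Lre_f IH (LK LD1_c0 LD2_c29 LD3_c41) (LK LD1_c1 LD2_c4 LD3_c49) Lrfl Lrfl
theorem f139587 : Led Lsl_at (LP (LK LD1_c1 LD2_c4 LD3_c49)) = (LP (LK LD1_c0 LD2_c29 LD3_c43)) :=
  Lre_a IH (LK LD1_c1 LD2_c4 LD3_c49) (LK LD1_c0 LD2_c29 LD3_c43) Lrfl Lrfl
theorem f142118 : Led Lsl_gt (LP (LK LD1_c1 LD2_c4 LD3_c50)) = (LP (LK LD1_c0 LD2_c29 LD3_c43)) :=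
  Lgr Lrot46 (Lpr_gf (f141984 IH) (Lpr_ft (f139586 IH) (Lpr_at (f139587 IH) (Lpn (LP (LK LD1_c0 LD2_c29 LD3_c43))))))
theorem f35546 : Led Lsl_ct (LP (LK LD1_c1 LD2_c2 LD3_c15)) = (LP (LK LD1_c0 LD2_c29 LD3_c43)) :=
  Lre_c IH (LK LD1_c1 LD2_c2 LD3_c15) (LK LD1_c0 LD2_c29 LD3_c43) Lrfl Lrfl
theorem f35543 : Led Lsl_bt (LP (LK LD1_c1 LD2_c2 LD3_c15)) = (LP (LK LD1_c0 LD2_c28 LD3_c25)) :=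
  Lre_b IH (LK LD1_c1 LD2_c2 LD3_c15) (LK LD1_c0 LD2_c28 LD3_c25) Lrfl Lrfl
theorem f2955 : Led Lsl_bt (LP (LK LD1_c0 LD2_c25 LD3_c0)) = (LP (LK LD1_c0 LD2_c55 LD3_c12)) :=
  Lre_b IH (LK LD1_c0 LD2_c25 LD3_c0) (LK LD1_c0 LD2_c55 LD3_c12) Lrfl Lrfl
theorem f3031 : Led Lsl_gt (LP (LK LD1_c0 LD2_c55 LD3_c12)) = (LP (LK LD1_c1 LD2_c56 LD3_c49)) :=
  Lre_g IH (LK LD1_c0 LD2_c55 LD3_c12) (LK LD1_c1 LD2_c56 LD3_c49) Lrfl Lrfl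
theorem f142140 : Led Lsl_bt (LP (LK LD1_c2 LD2_c15 LD3_c31)) = (LP (LK LD1_c1 LD2_c56 LD3_c49)) :=
  Lgr Lrot92 (Lpr_ct (f141299 IH) (Lpr_gt (f142118 IH) (Lpe (f35546 IH) (Lpr_bt (f35543 IH) (Lpr_gt (K1.f35533 IH) (Lpr_ct (K1.f34709 IH) (Lpe (K0.f34705 IH) (Lpe (K1.f3026 IH) (Lpr_bt (f2955 IH) (Lpr_gt (f3031 IH) (Lpn (LP (LK LD1_c1 LD2_c56 LD3_c49)))))))))))))
theorem f142154 : Led Lsl_ft (LP (LK LD1_c1 LD2_c4 LD3_c57)) = (LP (LK LD1_c2 LD2_c15 LD3_c31)) :=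
  Lre_f IH (LK LD1_c1 LD2_c4 LD3_c57) (LK LD1_c2 LD2_c15 LD3_c31) Lrfl Lrfl
theorem f72271 : Led Lsl_bt (LP (LK LD1_c2 LD2_c15 LD3_c55)) = (LP (LK LD1_c1 LD2_c4 LD3_c57)) :=
  Lre_b IH (LK LD1_c2 LD2_c15 LD3_c55) (LK LD1_c1 LD2_c4 LD3_c57) Lrfl Lrfl
theorem f142155 : Led Lsl_ff (LP (LK LD1_c2 LD2_c15 LD3_c55)) = (LP (LK LD1_c1 LD2_c56 LD3_c49)) :=
  Lgr Lrot25 (Lpr_bt (f72271 IH) (Lpr_ft (f142154 IH) (Lpr_bt (f142140 IH) (Lpn (LP (LK LD1_c1 LD2_c56 LD3_c49))))))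
theorem f142159 : Led Lsl_ft (LP (LK LD1_c2 LD2_c15 LD3_c55)) = (LP (LK LD1_c1 LD2_c56 LD3_c49)) :=
  Lgr Lrot48 (Lpr_ff (f142155 IH) (Lpn (LP (LK LD1_c1 LD2_c56 LD3_c49))))
theorem f100231 : Led Lsl_dt (LP (LK LD1_c4 LD2_c37 LD3_c25)) = (LP (LK LD1_c2 LD2_c15 LD3_c55)) :=
  Lre_d IH (LK LD1_c4 LD2_c37 LD3_c25) (LK LD1_c2 LD2_c15 LD3_c55) Lrfl Lrfl
theorem f3032 : Led Lsl_dt (LP (LK LD1_c1 LD2_c56 LD3_c49)) = (LP (LK LD1_c4 LD2_c0 LD3_c6)) :=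
  Lre_d IH (LK LD1_c1 LD2_c56 LD3_c49) (LK LD1_c4 LD2_c0 LD3_c6) Lrfl Lrfl
theorem f142241 : Led Lsl_ff (LP (LK LD1_c4 LD2_c37 LD3_c25)) = (LP (LK LD1_c4 LD2_c0 LD3_c6)) :=
  Lgr Lrot19 (Lpr_dt (f100231 IH) (Lpr_ft (f142159 IH) (Lpr_dt (f3032 IH) (Lpn (LP (LK LD1_c4 LD2_c0 LD3_c6))))))
theorem f119018 : Led Lsl_bt (LP (LK LD1_c4 LD2_c37 LD3_c25)) = (LP (LK LD1_c2 LD2_c15 LD3_c56)) :=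
  Lre_b IH (LK LD1_c4 LD2_c37 LD3_c25) (LK LD1_c2 LD2_c15 LD3_c56) Lrfl Lrfl
theorem f141279 : Led Lsl_ft (LP (LK LD1_c2 LD2_c15 LD3_c56)) = (LP (LK LD1_c4 LD2_c36 LD3_c38)) :=
  Lre_f IH (LK LD1_c2 LD2_c15 LD3_c56) (LK LD1_c4 LD2_c36 LD3_c38) Lrfl Lrfl
theorem f142243 : Led Lsl_bt (LP (LK LD1_c4 LD2_c36 LD3_c38)) = (LP (LK LD1_c4 LD2_c0 LD3_c6)) :=
  Lgr Lrot35 (Lpe (f141279 IH) (Lpe (f119018 IH) (Lpr_ff (f142241 IH) (Lpn (LP (LK LD1_c4 LD2_c0 LD3_c6))))))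
theorem f141276 : Led Lsl_bt (LP (LK LD1_c3 LD2_c42 LD3_c61)) = (LP (LK LD1_c7 LD2_c26 LD3_c44)) :=
  Lre_b IH (LK LD1_c3 LD2_c42 LD3_c61) (LK LD1_c7 LD2_c26 LD3_c44) Lrfl Lrfl
theorem f11080 : Led Lsl_bt (LP (LK LD1_c0 LD2_c2 LD3_c5)) = (LP (LK LD1_c0 LD2_c3 LD3_c44)) :=
  Lre_b IH (LK LD1_c0 LD2_c2 LD3_c5) (LK LD1_c0 LD2_c3 LD3_c44) Lrfl Lrfl
theorem f11302 : Led Lsl_gt (LP (LK LD1_c1 LD2_c49 LD3_c7)) = (LP (LK LD1_c0 LD2_c51 LD3_c20)) :=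
  Lre_g IH (LK LD1_c1 LD2_c49 LD3_c7) (LK LD1_c0 LD2_c51 LD3_c20) Lrfl Lrfl
theorem f11303 : Led Lsl_bt (LP (LK LD1_c3 LD2_c44 LD3_c8)) = (LP (LK LD1_c1 LD2_c49 LD3_c7)) :=
  Lre_b IH (LK LD1_c3 LD2_c44 LD3_c8) (LK LD1_c1 LD2_c49 LD3_c7) Lrfl Lrfl
theorem f37085 : Led Lsl_ct (LP (LK LD1_c4 LD2_c0 LD3_c6)) = (LP (LK LD1_c3 LD2_c44 LD3_c8)) :=
  Lgr Lrot191 (Lpe (f3032 IH) (Lpe (f3031 IH) (Lpe (f2955 IH) (Lpe (K0.f2954 IH) (Lpe (K0.f3052 IH) (Lpr_gf (K1.f37081 IH) (Lpe (K1.f26027 IH) (Lpe (K0.f12695 IH) (Lpe (K0.f25737 IH) (Lpe (K1.f26372 IH) (Lpe (f11080 IH) (Lpe (K0.f171 IH) (Lpe (K0.f175 IH) (Lpr_gf (K0.f11283 IH) (Lpe (K4.f11299 IH) (Lpe (K4.f11300 IH) (Lpe (K5.f11301 IH) (Lpe (f11302 IH) (Lpe (f11303 IH) (Lpn (LP (LK LD1_c3 LD2_c44 LD3_c8))))))))))))))))))))))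
theorem f142248 : Led Lsl_cf (LP (LK LD1_c3 LD2_c42 LD3_c61)) = (LP (LK LD1_c1 LD2_c49 LD3_c7)) :=
  Lgr Lrot97 (Lpr_bt (f141276 IH) (Lpr_ct (f141288 IH) (Lpr_bt (f142243 IH) (Lpr_ct (f37085 IH) (Lpr_bt (f11303 IH) (Lpn (LP (LK LD1_c1 LD2_c49 LD3_c7))))))))
theorem f120806 : Led Lsl_dt (LP (LK LD1_c3 LD2_c42 LD3_c61)) = (LP (LK LD1_c1 LD2_c48 LD3_c32)) :=
  Lre_d IH (LK LD1_c3 LD2_c42 LD3_c61) (LK LD1_c1 LD2_c48 LD3_c32) Lrfl Lrfl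
theorem f142269 : Led Lsl_dt (LP (LK LD1_c0 LD2_c53 LD3_c39)) = (LP (LK LD1_c1 LD2_c49 LD3_c7)) :=
  Lgr Lrot173 (Lpr_cf (K2.f11524 IH) (Lpe (K4.f107564 IH) (Lpe (K4.f5809 IH) (Lpe (K4.f5810 IH) (Lpe (K4.f107059 IH) (Lpe (K4.f108892 IH) (Lpe (K4.f121247 IH) (Lpr_df (K4.f121023 IH) (Lpe (K4.f121010 IH) (Lpe (K4.f107563 IH) (Lpe (K4.f120818 IH) (Lpe (K4.f120811 IH) (Lpe (K4.f120805 IH) (Lpe (f120806 IH) (Lpr_cf (f142248 IH) (Lpn (LP (LK LD1_c1 LD2_c49 LD3_c7))))))))))))))))))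
theorem f12184 : Led Lsl_cf (LP (LK LD1_c0 LD2_c4 LD3_c61)) = (LP (LK LD1_c0 LD2_c5 LD3_c0)) :=
  Lgr Lrot11 (Lpr_ct (K0.f12149 IH) (Lpn (LP (LK LD1_c0 LD2_c5 LD3_c0))))
theorem f120977 : Led Lsl_gt (LP (LK LD1_c0 LD2_c10 LD3_c46)) = (LP (LK LD1_c0 LD2_c22 LD3_c57)) :=
  Lgr Lrot82 (Lpe (K2.f12143 IH) (Lpe (f12184 IH) (Lpe (K0.f11511 IH) (Lpe (K0.f3881 IH) (Lpr_bt (K0.f12194 IH) (Lpe (K4.f17294 IH) (Lpe (K4.f90285 IH) (Lpr_ct (K4.f120964 IH) (Lpe (K4.f26198 IH) (Lpe (K4.f26197 IH) (Lpn (LP (LK LD1_c0 LD2_c22 LD3_c57)))))))))))))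
theorem f26195 : Led Lsl_dt (LP (LK LD1_c1 LD2_c48 LD3_c7)) = (LP (LK LD1_c0 LD2_c50 LD3_c48)) :=
  Lre_d IH (LK LD1_c1 LD2_c48 LD3_c7) (LK LD1_c0 LD2_c50 LD3_c48) Lrfl Lrfl
theorem f124653 : Led Lsl_ct (LP (LK LD1_c3 LD2_c42 LD3_c20)) = (LP (LK LD1_c1 LD2_c48 LD3_c7)) :=
  Lre_c IH (LK LD1_c3 LD2_c42 LD3_c20) (LK LD1_c1 LD2_c48 LD3_c7) Lrfl Lrfl
theorem f12916 : Led Lsl_ct (LP (LK LD1_c0 LD2_c51 LD3_c20)) = (LP (LK LD1_c1 LD2_c49 LD3_c8)) :=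
  Lre_c IH (LK LD1_c0 LD2_c51 LD3_c20) (LK LD1_c1 LD2_c49 LD3_c8) Lrfl Lrfl
theorem f142287 : Led Lsl_gf (LP (LK LD1_c3 LD2_c42 LD3_c20)) = (LP (LK LD1_c1 LD2_c49 LD3_c8)) :=
  Lgr Lrot172 (Lpr_ct (f124653 IH) (Lpr_dt (f26195 IH) (Lpe (K4.f26197 IH) (Lpe (f120977 IH) (Lpe (K2.f11655 IH) (Lpe (K2.f11523 IH) (Lpr_dt (f142269 IH) (Lpr_gt (f11302 IH) (Lpr_ct (f12916 IH) (Lpn (LP (LK LD1_c1 LD2_c49 LD3_c8))))))))))))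
theorem f26220 : Led Lsl_ct (LP (LK LD1_c0 LD2_c22 LD3_c56)) = (LP (LK LD1_c0 LD2_c10 LD3_c20)) :=
  Lre_c IH (LK LD1_c0 LD2_c22 LD3_c56) (LK LD1_c0 LD2_c10 LD3_c20) Lrfl Lrfl
theorem f124065 : Led Lsl_dt (LP (LK LD1_c0 LD2_c50 LD3_c48)) = (LP (LK LD1_c1 LD2_c48 LD3_c7)) :=
  Lre_d IH (LK LD1_c0 LD2_c50 LD3_c48) (LK LD1_c1 LD2_c48 LD3_c7) Lrfl Lrfl
theorem f124652 : Led Lsl_ct (LP (LK LD1_c1 LD2_c48 LD3_c7)) = (LP (LK LD1_c3 LD2_c42 LD3_c20)) :=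
  Lre_c IH (LK LD1_c1 LD2_c48 LD3_c7) (LK LD1_c3 LD2_c42 LD3_c20) Lrfl Lrfl
theorem f125620 : Led Lsl_dt (LP (LK LD1_c3 LD2_c42 LD3_c20)) = (LP (LK LD1_c1 LD2_c48 LD3_c14)) :=
  Lgr Lrot120 (Lpe (f124652 IH) (Lpe (f124065 IH) (Lpe (K4.f26197 IH) (Lpe (K4.f26184 IH) (Lpe (f26220 IH) (Lpe (K4.f26216 IH) (Lpr_ft (K5.f125611 IH) (Lpr_at (K5.f125572 IH) (Lpe (K5.f124131 IH) (Lpn (LP (LK LD1_c1 LD2_c48 LD3_c14))))))))))))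
theorem f124138 : Led Lsl_dt (LP (LK LD1_c1 LD2_c8 LD3_c11)) = (LP (LK LD1_c2 LD2_c22 LD3_c2)) :=
  Lre_d IH (LK LD1_c1 LD2_c8 LD3_c11) (LK LD1_c2 LD2_c22 LD3_c2) Lrfl Lrfl
theorem f134768 : Led Lsl_ct (LP (LK LD1_c2 LD2_c22 LD3_c2)) = (LP (LK LD1_c1 LD2_c53 LD3_c35)) :=
  Lgr Lrot59 (Lpr_cf (K5.f134764 IH) (Lpn (LP (LK LD1_c1 LD2_c53 LD3_c35))))
theorem f142320 : Led Lsl_gf (LP (LK LD1_c0 LD2_c53 LD3_c23)) = (LP (LK LD1_c0 LD2_c53 LD3_c38)) :=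
  Lgr Lrot143 (Lpr_dt (K5.f134727 IH) (Lpe (f134768 IH) (Lpe (f124138 IH) (Lpr_gf (K5.f124129 IH) (Lpe (f125620 IH) (Lpr_gf (f142287 IH) (Lpe (f12916 IH) (Lpr_gt (K4.f12926 IH) (Lpr_dt (K4.f121015 IH) (Lpn (LP (LK LD1_c0 LD2_c53 LD3_c38))))))))))))
theorem f134779 : Led Lsl_df (LP (LK LD1_c0 LD2_c20 LD3_c33)) = (LP (LK LD1_c0 LD2_c24 LD3_c0)) :=
  Lgr Lrot38 (Lpr_dt (K5.f134775 IH) (Lpn (LP (LK LD1_c0 LD2_c24 LD3_c0))))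
theorem f134839 : Led Lsl_bf (LP (LK LD1_c0 LD2_c24 LD3_c0)) = (LP (LK LD1_c0 LD2_c24 LD3_c0)) :=
  Lgr Lrot93 (Lpe (f134779 IH) (Lpr_bt (K5.f134834 IH) (Lpr_dt (K5.f134775 IH) (Lpn (LP (LK LD1_c0 LD2_c24 LD3_c0))))))
theorem f134762 : Led Lsl_gf (LP (LK LD1_c0 LD2_c53 LD3_c39)) = (LP (LK LD1_c0 LD2_c53 LD3_c23)) :=
  Lgr Lrot47 (Lpr_gt (K2.f11523 IH) (Lpe (K5.f84772 IH) (Lpr_ff (K5.f134736 IH) (Lpn (LP (LK LD1_c0 LD2_c53 LD3_c23))))))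
theorem f134724 : Led Lsl_ct (LP (LK LD1_c0 LD2_c53 LD3_c23)) = (LP (LK LD1_c0 LD2_c24 LD3_c0)) :=
  Lre_c IH (LK LD1_c0 LD2_c53 LD3_c23) (LK LD1_c0 LD2_c24 LD3_c0) Lrfl Lrfl
theorem f142285 : Led Lsl_gt (LP (LK LD1_c0 LD2_c24 LD3_c0)) = (LP (LK LD1_c0 LD2_c22 LD3_c60)) :=
  Lgr Lrot94 (Lpe (f134724 IH) (Lpe (f134762 IH) (Lpr_dt (f142269 IH) (Lpr_gt (f11302 IH) (Lpr_dt (K5.f11301 IH) (Lpe (K4.f11304 IH) (Lpe (K4.f12843 IH) (Lpe (K4.f12898 IH) (Lpe (K4.f120983 IH) (Lpn (LP (LK LD1_c0 LD2_c22 LD3_c60))))))))))))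
theorem f132153 : Led Lsl_ct (LP (LK LD1_c1 LD2_c39 LD3_c61)) = (LP (LK LD1_c1 LD2_c48 LD3_c5)) :=
  Lgr Lrot40 (Lpr_ff (K5.f96972 IH) (Lpe (K5.f96338 IH) (Lpr_ff (K5.f132147 IH) (Lpn (LP (LK LD1_c1 LD2_c48 LD3_c5))))))
theorem f142330 : Led Lsl_gt (LP (LK LD1_c0 LD2_c50 LD3_c55)) = (LP (LK LD1_c1 LD2_c48 LD3_c5)) :=
  Lgr Lrot149 (Lpe (K4.f120963 IH) (Lpe (f142285 IH) (Lpr_bf (f134839 IH) (Lpr_ct (K5.f134750 IH) (Lpr_gf (f142320 IH) (Lpe (K4.f121010 IH) (Lpr_bt (K4.f121207 IH) (Lpr_gf (K4.f114418 IH) (Lpr_bf (K5.f110076 IH) (Lpr_ct (f132153 IH) (Lpn (LP (LK LD1_c1 LD2_c48 LD3_c5)))))))))))))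
theorem f128323 : Led Lsl_df (LP (LK LD1_c0 LD2_c22 LD3_c49)) = (LP (LK LD1_c0 LD2_c20 LD3_c37)) :=
  Lgr Lrot38 (Lpr_dt (K5.f128319 IH) (Lpn (LP (LK LD1_c0 LD2_c20 LD3_c37))))
theorem f12574 : Led Lsl_ct (LP (LK LD1_c0 LD2_c22 LD3_c49)) = (LP (LK LD1_c0 LD2_c50 LD3_c28)) :=
  Lre_c IH (LK LD1_c0 LD2_c22 LD3_c49) (LK LD1_c0 LD2_c50 LD3_c28) Lrfl Lrfl
theorem f12584 : Led Lsl_dt (LP (LK LD1_c1 LD2_c47 LD3_c23)) = (LP (LK LD1_c0 LD2_c50 LD3_c28)) :=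
  Lre_d IH (LK LD1_c1 LD2_c47 LD3_c23) (LK LD1_c0 LD2_c50 LD3_c28) Lrfl Lrfl
theorem f12585 : Led Lsl_gt (LP (LK LD1_c3 LD2_c40 LD3_c52)) = (LP (LK LD1_c1 LD2_c47 LD3_c23)) :=
  Lre_g IH (LK LD1_c3 LD2_c40 LD3_c52) (LK LD1_c1 LD2_c47 LD3_c23) Lrfl Lrfl
theorem f142359 : Led Lsl_df (LP (LK LD1_c3 LD2_c40 LD3_c52)) = (LP (LK LD1_c1 LD2_c48 LD3_c5)) :=
  Lgr Lrot153 (Lpr_gt (f12585 IH) (Lpr_dt (f12584 IH) (Lpe (f12574 IH) (Lpr_df (f128323 IH) (Lpe (K2.f12078 IH) (Lpr_df (K2.f12144 IH) (Lpe (K4.f120987 IH) (Lpe (K4.f120982 IH) (Lpr_gt (f142330 IH) (Lpn (LP (LK LD1_c1 LD2_c48 LD3_c5))))))))))))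
theorem f125592 : Led Lsl_cf (LP (LK LD1_c3 LD2_c42 LD3_c6)) = (LP (LK LD1_c1 LD2_c48 LD3_c19)) :=
  Lgr Lrot11 (Lpr_ct (K5.f125587 IH) (Lpn (LP (LK LD1_c1 LD2_c48 LD3_c19))))
theorem f120981 : Led Lsl_dt (LP (LK LD1_c0 LD2_c50 LD3_c55)) = (LP (LK LD1_c1 LD2_c48 LD3_c19)) :=
  Lre_d IH (LK LD1_c0 LD2_c50 LD3_c55) (LK LD1_c1 LD2_c48 LD3_c19) Lrfl Lrfl
theorem f68466 : Led Lsl_dt (LP (LK LD1_c1 LD2_c33 LD3_c37)) = (LP (LK LD1_c3 LD2_c14 LD3_c8)) :=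
  Lre_d IH (LK LD1_c1 LD2_c33 LD3_c37) (LK LD1_c3 LD2_c14 LD3_c8) Lrfl Lrfl
theorem f108817 : Led Lsl_dt (LP (LK LD1_c1 LD2_c47 LD3_c28)) = (LP (LK LD1_c0 LD2_c50 LD3_c31)) :=
  Lre_d IH (LK LD1_c1 LD2_c47 LD3_c28) (LK LD1_c0 LD2_c50 LD3_c31) Lrfl Lrfl
theorem f122208 : Led Lsl_et (LP (LK LD1_c13 LD2_c56 LD3_c23)) = (LP (LK LD1_c14 LD2_c6 LD3_c7)) :=
  Lgr Lrot87 (Lpr_ef (K5.f122188 IH) (Lpn (LP (LK LD1_c14 LD2_c6 LD3_c7))))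
theorem f122211 : Led Lsl_bt (LP (LK LD1_c7 LD2_c22 LD3_c26)) = (LP (LK LD1_c13 LD2_c56 LD3_c23)) :=
  Lre_b IH (LK LD1_c7 LD2_c22 LD3_c26) (LK LD1_c13 LD2_c56 LD3_c23) Lrfl Lrfl
theorem f122212 : Led Lsl_bt (LP (LK LD1_c14 LD2_c6 LD3_c7)) = (LP (LK LD1_c7 LD2_c28 LD3_c18)) :=
  Lre_b IH (LK LD1_c14 LD2_c6 LD3_c7) (LK LD1_c7 LD2_c28 LD3_c18) Lrfl Lrfl
theorem f122213 : Led Lsl_ef (LP (LK LD1_c7 LD2_c22 LD3_c26)) = (LP (LK LD1_c7 LD2_c28 LD3_c18)) :=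
  Lgr Lrot29 (Lpr_bt (f122211 IH) (Lpr_et (f122208 IH) (Lpr_bt (f122212 IH) (Lpn (LP (LK LD1_c7 LD2_c28 LD3_c18))))))
theorem f122225 : Led Lsl_ft (LP (LK LD1_c7 LD2_c22 LD3_c26)) = (LP (LK LD1_c3 LD2_c41 LD3_c4)) :=
  Lre_f IH (LK LD1_c7 LD2_c22 LD3_c26) (LK LD1_c3 LD2_c41 LD3_c4) Lrfl Lrfl
theorem f122226 : Led Lsl_et (LP (LK LD1_c3 LD2_c41 LD3_c4)) = (LP (LK LD1_c1 LD2_c47 LD3_c28)) :=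
  Lre_e IH (LK LD1_c3 LD2_c41 LD3_c4) (LK LD1_c1 LD2_c47 LD3_c28) Lrfl Lrfl
theorem f122227 : Led Lsl_ft (LP (LK LD1_c3 LD2_c43 LD3_c50)) = (LP (LK LD1_c7 LD2_c28 LD3_c18)) :=
  Lre_f IH (LK LD1_c3 LD2_c43 LD3_c50) (LK LD1_c7 LD2_c28 LD3_c18) Lrfl Lrfl
theorem f122228 : Led Lsl_ft (LP (LK LD1_c1 LD2_c47 LD3_c28)) = (LP (LK LD1_c1 LD2_c48 LD3_c60)) :=
  Lgr Lrot86 (Lpe (f122226 IH) (Lpe (f122225 IH) (Lpr_ef (f122213 IH) (Lpe (f122227 IH) (Lpe (K4.f116544 IH) (Lpn (LP (LK LD1_c1 LD2_c48 LD3_c60))))))))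
theorem f122471 : Led Lsl_af (LP (LK LD1_c1 LD2_c47 LD3_c23)) = (LP (LK LD1_c1 LD2_c48 LD3_c60)) :=
  Lgr Lrot0 (Lpr_at (K4.f122458 IH) (Lpn (LP (LK LD1_c1 LD2_c48 LD3_c60))))
theorem f129099 : Led Lsl_ct (LP (LK LD1_c3 LD2_c14 LD3_c8)) = (LP (LK LD1_c1 LD2_c47 LD3_c23)) :=
  Lgr Lrot98 (Lpe (f68466 IH) (Lpr_cf (K5.f68358 IH) (Lpr_df (K5.f129093 IH) (Lpe (K2.f84643 IH) (Lpr_df (K3.f109394 IH) (Lpe (K3.f108816 IH) (Lpe (f108817 IH) (Lpr_ft (f122228 IH) (Lpe (f122471 IH) (Lpn (LP (LK LD1_c1 LD2_c47 LD3_c23))))))))))))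
theorem f129265 : Led Lsl_gf (LP (LK LD1_c2 LD2_c22 LD3_c2)) = (LP (LK LD1_c3 LD2_c14 LD3_c8)) :=
  Lgr Lrot144 (Lpr_dt (K5.f13619 IH) (Lpr_gt (K5.f129263 IH) (Lpr_dt (K5.f125586 IH) (Lpr_cf (f125592 IH) (Lpe (f120981 IH) (Lpr_gf (K4.f120979 IH) (Lpe (K5.f122621 IH) (Lpe (K5.f12589 IH) (Lpe (f129099 IH) (Lpn (LP (LK LD1_c3 LD2_c14 LD3_c8))))))))))))
theorem f129267 : Led Lsl_cf (LP (LK LD1_c3 LD2_c14 LD3_c8)) = (LP (LK LD1_c1 LD2_c47 LD3_c23)) :=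
  Lgr Lrot166 (Lpe (f129265 IH) (Lpr_dt (K5.f13619 IH) (Lpr_gt (K5.f129263 IH) (Lpr_dt (K5.f125586 IH) (Lpr_ct (K5.f125587 IH) (Lpe (f120981 IH) (Lpr_gf (K4.f120979 IH) (Lpe (K5.f122621 IH) (Lpe (K5.f12589 IH) (Lpn (LP (LK LD1_c1 LD2_c47 LD3_c23))))))))))))
theorem f134753 : Led Lsl_dt (LP (LK LD1_c1 LD2_c53 LD3_c35)) = (LP (LK LD1_c0 LD2_c53 LD3_c23)) :=
  Lre_d IH (LK LD1_c1 LD2_c53 LD3_c35) (LK LD1_c0 LD2_c53 LD3_c23) Lrfl Lrfl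
theorem f26189 : Led Lsl_ct (LP (LK LD1_c0 LD2_c50 LD3_c48)) = (LP (LK LD1_c0 LD2_c22 LD3_c57)) :=
  Lre_c IH (LK LD1_c0 LD2_c50 LD3_c48) (LK LD1_c0 LD2_c22 LD3_c57) Lrfl Lrfl
theorem f142465 : Led Lsl_gf (LP (LK LD1_c0 LD2_c24 LD3_c0)) = (LP (LK LD1_c0 LD2_c22 LD3_c57)) :=
  Lgr Lrot104 (Lpr_ct (K5.f134750 IH) (Lpe (f134753 IH) (Lpe (f134768 IH) (Lpr_gf (f129265 IH) (Lpr_cf (f129267 IH) (Lpe (f12585 IH) (Lpr_df (f142359 IH) (Lpr_gt (K5.f26199 IH) (Lpr_ct (f26189 IH) (Lpn (LP (LK LD1_c0 LD2_c22 LD3_c57))))))))))))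
theorem f123226 : Led Lsl_bt (LP (LK LD1_c0 LD2_c53 LD3_c23)) = (LP (LK LD1_c1 LD2_c53 LD3_c34)) :=
  Lre_b IH (LK LD1_c0 LD2_c53 LD3_c23) (LK LD1_c1 LD2_c53 LD3_c34) Lrfl Lrfl
theorem f134784 : Led Lsl_gt (LP (LK LD1_c1 LD2_c53 LD3_c34)) = (LP (LK LD1_c3 LD2_c53 LD3_c54)) :=
  Lre_g IH (LK LD1_c1 LD2_c53 LD3_c34) (LK LD1_c3 LD2_c53 LD3_c54) Lrfl Lrfl
theorem f132230 : Led Lsl_cf (LP (LK LD1_c1 LD2_c50 LD3_c48)) = (LP (LK LD1_c3 LD2_c42 LD3_c11)) :=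
  Lgr Lrot11 (Lpr_ct (K5.f132228 IH) (Lpn (LP (LK LD1_c3 LD2_c42 LD3_c11))))
theorem f91263 : Led Lsl_gt (LP (LK LD1_c3 LD2_c47 LD3_c23)) = (LP (LK LD1_c1 LD2_c50 LD3_c48)) :=
  Lre_g IH (LK LD1_c3 LD2_c47 LD3_c23) (LK LD1_c1 LD2_c50 LD3_c48) Lrfl Lrfl
theorem f114437 : Led Lsl_ct (LP (LK LD1_c7 LD2_c35 LD3_c37)) = (LP (LK LD1_c3 LD2_c47 LD3_c23)) :=
  Lre_c IH (LK LD1_c7 LD2_c35 LD3_c37) (LK LD1_c3 LD2_c47 LD3_c23) Lrfl Lrfl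
theorem f142477 : Led Lsl_bf (LP (LK LD1_c3 LD2_c53 LD3_c54)) = (LP (LK LD1_c7 LD2_c35 LD3_c37)) :=
  Lgr Lrot34 (Lpe (f134784 IH) (Lpe (f123226 IH) (Lpr_ct (f134724 IH) (Lpr_gf (f142465 IH) (Lpe (f26189 IH) (Lpe (K5.f26199 IH) (Lpe (K5.f108151 IH) (Lpe (f132230 IH) (Lpe (f91263 IH) (Lpe (f114437 IH) (Lpn (LP (LK LD1_c7 LD2_c35 LD3_c37)))))))))))))
theorem f142476 : Led Lsl_ct (LP (LK LD1_c3 LD2_c53 LD3_c54)) = (LP (LK LD1_c7 LD2_c49 LD3_c21)) :=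
  Lre_c IH (LK LD1_c3 LD2_c53 LD3_c54) (LK LD1_c7 LD2_c49 LD3_c21) Lrfl Lrfl
theorem f114454 : Led Lsl_ct (LP (LK LD1_c3 LD2_c47 LD3_c23)) = (LP (LK LD1_c7 LD2_c35 LD3_c37)) :=
  Lre_c IH (LK LD1_c3 LD2_c47 LD3_c23) (LK LD1_c7 LD2_c35 LD3_c37) Lrfl Lrfl
theorem f91264 : Led Lsl_bt (LP (LK LD1_c7 LD2_c35 LD3_c36)) = (LP (LK LD1_c3 LD2_c47 LD3_c23)) :=
  Lre_b IH (LK LD1_c7 LD2_c35 LD3_c36) (LK LD1_c3 LD2_c47 LD3_c23) Lrfl Lrfl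
theorem f95131 : Led Lsl_ct (LP (LK LD1_c1 LD2_c40 LD3_c2)) = (LP (LK LD1_c3 LD2_c26 LD3_c40)) :=
  Lre_c IH (LK LD1_c1 LD2_c40 LD3_c2) (LK LD1_c3 LD2_c26 LD3_c40) Lrfl Lrfl
theorem f91721 : Led Lsl_gt (LP (LK LD1_c3 LD2_c26 LD3_c40)) = (LP (LK LD1_c6 LD2_c55 LD3_c10)) :=
  Lre_g IH (LK LD1_c3 LD2_c26 LD3_c40) (LK LD1_c6 LD2_c55 LD3_c10) Lrfl Lrfl
theorem f114428 : Led Lsl_ct (LP (LK LD1_c7 LD2_c35 LD3_c36)) = (LP (LK LD1_c6 LD2_c55 LD3_c10)) :=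
  Lgr Lrot63 (Lpr_bt (f91264 IH) (Lpr_gt (f91263 IH) (Lpe (K4.f91262 IH) (Lpe (K3.f91236 IH) (Lpe (K4.f114418 IH) (Lpr_cf (K3.f110225 IH) (Lpr_bt (K5.f88230 IH) (Lpr_gt (K5.f114422 IH) (Lpr_ct (f95131 IH) (Lpr_gt (f91721 IH) (Lpn (LP (LK LD1_c6 LD2_c55 LD3_c10)))))))))))))
theorem f114438 : Led Lsl_cf (LP (LK LD1_c7 LD2_c35 LD3_c36)) = (LP (LK LD1_c6 LD2_c55 LD3_c10)) :=
  Lgr Lrot11 (Lpr_ct (f114428 IH) (Lpn (LP (LK LD1_c6 LD2_c55 LD3_c10))))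
theorem f142483 : Led Lsl_bt (LP (LK LD1_c7 LD2_c49 LD3_c21)) = (LP (LK LD1_c6 LD2_c55 LD3_c10)) :=
  Lgr Lrot128 (Lpe (f142476 IH) (Lpr_bf (f142477 IH) (Lpe (f114454 IH) (Lpe (f91264 IH) (Lpr_cf (f114438 IH) (Lpn (LP (LK LD1_c6 LD2_c55 LD3_c10))))))))
theorem f142509 : Led Lsl_ct (LP (LK LD1_c7 LD2_c49 LD3_c21)) = (LP (LK LD1_c3 LD2_c53 LD3_c54)) :=
  Lre_c IH (LK LD1_c7 LD2_c49 LD3_c21) (LK LD1_c3 LD2_c53 LD3_c54) Lrfl Lrfl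
theorem f132312 : Led Lsl_gt (LP (LK LD1_c2 LD2_c50 LD3_c16)) = (LP (LK LD1_c3 LD2_c26 LD3_c29)) :=
  Lgr Lrot46 (Lpr_gf (K1.f64341 IH) (Lpr_ft (K5.f132298 IH) (Lpr_at (K5.f15212 IH) (Lpn (LP (LK LD1_c3 LD2_c26 LD3_c29))))))
theorem f117299 : Led Lsl_bf (LP (LK LD1_c1 LD2_c51 LD3_c59)) = (LP (LK LD1_c3 LD2_c47 LD3_c17)) :=
  Lgr Lrot24 (Lpr_bt (K4.f117292 IH) (Lpn (LP (LK LD1_c3 LD2_c47 LD3_c17))))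
theorem f136342 : Led Lsl_et (LP (LK LD1_c3 LD2_c50 LD3_c23)) = (LP (LK LD1_c1 LD2_c52 LD3_c6)) :=
  Lre_e IH (LK LD1_c3 LD2_c50 LD3_c23) (LK LD1_c1 LD2_c52 LD3_c6) Lrfl Lrfl
theorem f109411 : Led Lsl_et (LP (LK LD1_c3 LD2_c47 LD3_c15)) = (LP (LK LD1_c7 LD2_c35 LD3_c22)) :=
  Lre_e IH (LK LD1_c3 LD2_c47 LD3_c15) (LK LD1_c7 LD2_c35 LD3_c22) Lrfl Lrfl
theorem f136343 : Led Lsl_cf (LP (LK LD1_c3 LD2_c50 LD3_c23)) = (LP (LK LD1_c7 LD2_c35 LD3_c22)) :=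
  Lgr Lrot39 (Lpr_et (f136342 IH) (Lpr_ct (f136336 IH) (Lpr_et (f109411 IH) (Lpn (LP (LK LD1_c7 LD2_c35 LD3_c22))))))
theorem f136349 : Led Lsl_ct (LP (LK LD1_c3 LD2_c50 LD3_c23)) = (LP (LK LD1_c7 LD2_c35 LD3_c22)) :=
  Lgr Lrot59 (Lpr_cf (f136343 IH) (Lpn (LP (LK LD1_c7 LD2_c35 LD3_c22))))
theorem f96154 : Led Lsl_bt (LP (LK LD1_c7 LD2_c41 LD3_c51)) = (LP (LK LD1_c3 LD2_c50 LD3_c23)) :=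
  Lre_b IH (LK LD1_c7 LD2_c41 LD3_c51) (LK LD1_c3 LD2_c50 LD3_c23) Lrfl Lrfl
theorem f96134 : Led Lsl_bt (LP (LK LD1_c3 LD2_c50 LD3_c22)) = (LP (LK LD1_c1 LD2_c52 LD3_c6)) :=
  Lre_b IH (LK LD1_c3 LD2_c50 LD3_c22) (LK LD1_c1 LD2_c52 LD3_c6) Lrfl Lrfl
theorem f88497 : Led Lsl_gt (LP (LK LD1_c7 LD2_c13 LD3_c23)) = (LP (LK LD1_c3 LD2_c36 LD3_c31)) :=
  Lre_g IH (LK LD1_c7 LD2_c13 LD3_c23) (LK LD1_c3 LD2_c36 LD3_c31) Lrfl Lrfl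
theorem f96135 : Led Lsl_ct (LP (LK LD1_c3 LD2_c50 LD3_c22)) = (LP (LK LD1_c7 LD2_c13 LD3_c23)) :=
  Lgr Lrot64 (Lpr_bt (f96134 IH) (Lpe (f12296 IH) (Lpe (f12291 IH) (Lpr_ct (K1.f12199 IH) (Lpe (K3.f12331 IH) (Lpr_cf (K3.f96122 IH) (Lpe (K3.f88533 IH) (Lpe (K3.f88524 IH) (Lpr_ct (K3.f88485 IH) (Lpe (f88497 IH) (Lpn (LP (LK LD1_c7 LD2_c13 LD3_c23)))))))))))))
theorem f96150 : Led Lsl_et (LP (LK LD1_c7 LD2_c41 LD3_c51)) = (LP (LK LD1_c3 LD2_c50 LD3_c22)) :=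
  Lre_e IH (LK LD1_c7 LD2_c41 LD3_c51) (LK LD1_c3 LD2_c50 LD3_c22) Lrfl Lrfl
theorem f96151 : Led Lsl_et (LP (LK LD1_c7 LD2_c13 LD3_c23)) = (LP (LK LD1_c13 LD2_c40 LD3_c25)) :=
  Lre_e IH (LK LD1_c7 LD2_c13 LD3_c23) (LK LD1_c13 LD2_c40 LD3_c25) Lrfl Lrfl
theorem f96152 : Led Lsl_cf (LP (LK LD1_c7 LD2_c41 LD3_c51)) = (LP (LK LD1_c13 LD2_c40 LD3_c25)) :=
  Lgr Lrot39 (Lpr_et (f96150 IH) (Lpr_ct (f96135 IH) (Lpr_et (f96151 IH) (Lpn (LP (LK LD1_c13 LD2_c40 LD3_c25))))))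
theorem f110239 : Led Lsl_bt (LP (LK LD1_c7 LD2_c35 LD3_c22)) = (LP (LK LD1_c14 LD2_c18 LD3_c31)) :=
  Lre_b IH (LK LD1_c7 LD2_c35 LD3_c22) (LK LD1_c14 LD2_c18 LD3_c31) Lrfl Lrfl
theorem f110232 : Led Lsl_et (LP (LK LD1_c3 LD2_c49 LD3_c5)) = (LP (LK LD1_c7 LD2_c39 LD3_c12)) :=
  Lre_e IH (LK LD1_c3 LD2_c49 LD3_c5) (LK LD1_c7 LD2_c39 LD3_c12) Lrfl Lrfl
theorem f109431 : Led Lsl_et (LP (LK LD1_c14 LD2_c18 LD3_c31)) = (LP (LK LD1_c7 LD2_c35 LD3_c21)) :=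
  Lre_e IH (LK LD1_c14 LD2_c18 LD3_c31) (LK LD1_c7 LD2_c35 LD3_c21) Lrfl Lrfl
theorem f110233 : Led Lsl_ct (LP (LK LD1_c7 LD2_c39 LD3_c12)) = (LP (LK LD1_c14 LD2_c18 LD3_c31)) :=
  Lgr Lrot15 (Lpe (f110232 IH) (Lpr_cf (K3.f110227 IH) (Lpe (f109431 IH) (Lpn (LP (LK LD1_c14 LD2_c18 LD3_c31))))))
theorem f110236 : Led Lsl_cf (LP (LK LD1_c7 LD2_c39 LD3_c12)) = (LP (LK LD1_c14 LD2_c18 LD3_c31)) :=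
  Lgr Lrot11 (Lpr_ct (f110233 IH) (Lpn (LP (LK LD1_c14 LD2_c18 LD3_c31))))
theorem f136355 : Led Lsl_bf (LP (LK LD1_c13 LD2_c40 LD3_c25)) = (LP (LK LD1_c7 LD2_c39 LD3_c12)) :=
  Lgr Lrot90 (Lpe (f96152 IH) (Lpr_bt (f96154 IH) (Lpr_ct (f136349 IH) (Lpr_bt (f110239 IH) (Lpe (f110236 IH) (Lpn (LP (LK LD1_c7 LD2_c39 LD3_c12))))))))
theorem f88598 : Led Lsl_et (LP (LK LD1_c13 LD2_c40 LD3_c25)) = (LP (LK LD1_c7 LD2_c13 LD3_c23)) :=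
  Lre_e IH (LK LD1_c13 LD2_c40 LD3_c25) (LK LD1_c7 LD2_c13 LD3_c23) Lrfl Lrfl
theorem f136357 : Led Lsl_bt (LP (LK LD1_c7 LD2_c13 LD3_c23)) = (LP (LK LD1_c3 LD2_c49 LD3_c5)) :=
  Lgr Lrot119 (Lpe (f88598 IH) (Lpr_bf (f136355 IH) (Lpe (f110232 IH) (Lpn (LP (LK LD1_c3 LD2_c49 LD3_c5))))))
theorem f96148 : Led Lsl_cf (LP (LK LD1_c3 LD2_c50 LD3_c22)) = (LP (LK LD1_c7 LD2_c13 LD3_c23)) :=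
  Lgr Lrot11 (Lpr_ct (f96135 IH) (Lpn (LP (LK LD1_c7 LD2_c13 LD3_c23))))
theorem f96147 : Led Lsl_bt (LP (LK LD1_c1 LD2_c52 LD3_c6)) = (LP (LK LD1_c3 LD2_c50 LD3_c22)) :=
  Lre_b IH (LK LD1_c1 LD2_c52 LD3_c6) (LK LD1_c3 LD2_c50 LD3_c22) Lrfl Lrfl
theorem f17477 : Led Lsl_bt (LP (LK LD1_c0 LD2_c49 LD3_c21)) = (LP (LK LD1_c1 LD2_c45 LD3_c18)) :=
  Lre_b IH (LK LD1_c0 LD2_c49 LD3_c21) (LK LD1_c1 LD2_c45 LD3_c18) Lrfl Lrfl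
theorem f95129 : Led Lsl_ct (LP (LK LD1_c1 LD2_c39 LD3_c55)) = (LP (LK LD1_c0 LD2_c51 LD3_c32)) :=
  Lgr Lrot110 (Lpr_gf (K3.f95025 IH) (Lpe (K2.f91128 IH) (Lpe (K2.f91297 IH) (Lpr_df (K0.f14974 IH) (Lpr_gt (K2.f9797 IH) (Lpr_ct (K2.f9807 IH) (Lpr_gt (K2.f94653 IH) (Lpr_ct (K3.f23688 IH) (Lpe (K0.f5752 IH) (Lpn (LP (LK LD1_c0 LD2_c51 LD3_c32))))))))))))
theorem f96528 : Led Lsl_bf (LP (LK LD1_c1 LD2_c39 LD3_c55)) = (LP (LK LD1_c1 LD2_c51 LD3_c42)) :=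
  Lgr Lrot90 (Lpr_ct (f95129 IH) (Lpr_bt (K0.f5725 IH) (Lpr_ct (K0.f17296 IH) (Lpr_bt (f17477 IH) (Lpr_ct (K3.f96468 IH) (Lpn (LP (LK LD1_c1 LD2_c51 LD3_c42))))))))
theorem f17480 : Led Lsl_gt (LP (LK LD1_c3 LD2_c36 LD3_c55)) = (LP (LK LD1_c1 LD2_c45 LD3_c18)) :=
  Lre_g IH (LK LD1_c3 LD2_c36 LD3_c55) (LK LD1_c1 LD2_c45 LD3_c18) Lrfl Lrfl
theorem f96480 : Led Lsl_ct (LP (LK LD1_c7 LD2_c14 LD3_c3)) = (LP (LK LD1_c3 LD2_c36 LD3_c55)) :=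
  Lre_c IH (LK LD1_c7 LD2_c14 LD3_c3) (LK LD1_c3 LD2_c36 LD3_c55) Lrfl Lrfl
theorem f136345 : Led Lsl_gt (LP (LK LD1_c3 LD2_c50 LD3_c22)) = (LP (LK LD1_c7 LD2_c14 LD3_c3)) :=
  Lgr Lrot82 (Lpe (f96147 IH) (Lpr_ct (f136336 IH) (Lpe (K3.f15090 IH) (Lpe (K4.f15172 IH) (Lpr_bt (K3.f15077 IH) (Lpe (K3.f14604 IH) (Lpr_bf (f96528 IH) (Lpe (K4.f96530 IH) (Lpe (f17480 IH) (Lpe (f96480 IH) (Lpn (LP (LK LD1_c7 LD2_c14 LD3_c3)))))))))))))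
theorem f96503 : Led Lsl_ct (LP (LK LD1_c3 LD2_c36 LD3_c55)) = (LP (LK LD1_c7 LD2_c14 LD3_c3)) :=
  Lre_c IH (LK LD1_c3 LD2_c36 LD3_c55) (LK LD1_c7 LD2_c14 LD3_c3) Lrfl Lrfl
theorem f96479 : Led Lsl_bt (LP (LK LD1_c3 LD2_c36 LD3_c55)) = (LP (LK LD1_c7 LD2_c14 LD3_c2)) :=
  Lre_b IH (LK LD1_c3 LD2_c36 LD3_c55) (LK LD1_c7 LD2_c14 LD3_c2) Lrfl Lrfl
theorem f96470 : Led Lsl_bt (LP (LK LD1_c1 LD2_c43 LD3_c25)) = (LP (LK LD1_c0 LD2_c48 LD3_c21)) :=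
  Lre_b IH (LK LD1_c1 LD2_c43 LD3_c25) (LK LD1_c0 LD2_c48 LD3_c21) Lrfl Lrfl
theorem f89684 : Led Lsl_ct (LP (LK LD1_c1 LD2_c43 LD3_c25)) = (LP (LK LD1_c3 LD2_c33 LD3_c17)) :=
  Lre_c IH (LK LD1_c1 LD2_c43 LD3_c25) (LK LD1_c3 LD2_c33 LD3_c17) Lrfl Lrfl
theorem f17481 : Led Lsl_bt (LP (LK LD1_c7 LD2_c14 LD3_c2)) = (LP (LK LD1_c3 LD2_c36 LD3_c55)) :=
  Lre_b IH (LK LD1_c7 LD2_c14 LD3_c2) (LK LD1_c3 LD2_c36 LD3_c55) Lrfl Lrfl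
theorem f96471 : Led Lsl_cf (LP (LK LD1_c7 LD2_c7 LD3_c28)) = (LP (LK LD1_c7 LD2_c14 LD3_c2)) :=
  Lgr Lrot58 (Lpe (K5.f89721 IH) (Lpe (f89684 IH) (Lpr_bt (f96470 IH) (Lpr_gf (K3.f96329 IH) (Lpe (K3.f11545 IH) (Lpr_ct (K3.f11546 IH) (Lpe (K3.f87299 IH) (Lpe (K3.f96468 IH) (Lpe (f17480 IH) (Lpe (f17481 IH) (Lpn (LP (LK LD1_c7 LD2_c14 LD3_c2)))))))))))))
theorem f96483 : Led Lsl_ct (LP (LK LD1_c7 LD2_c7 LD3_c28)) = (LP (LK LD1_c7 LD2_c14 LD3_c2)) :=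
  Lgr Lrot59 (Lpr_cf (f96471 IH) (Lpn (LP (LK LD1_c7 LD2_c14 LD3_c2))))
theorem f12298 : Led Lsl_gt (LP (LK LD1_c1 LD2_c52 LD3_c7)) = (LP (LK LD1_c0 LD2_c52 LD3_c49)) :=
  Lre_g IH (LK LD1_c1 LD2_c52 LD3_c7) (LK LD1_c0 LD2_c52 LD3_c49) Lrfl Lrfl
theorem f64348 : Led Lsl_bt (LP (LK LD1_c3 LD2_c50 LD3_c24)) = (LP (LK LD1_c1 LD2_c52 LD3_c7)) :=
  Lre_b IH (LK LD1_c3 LD2_c50 LD3_c24) (LK LD1_c1 LD2_c52 LD3_c7) Lrfl Lrfl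
theorem f64349 : Led Lsl_ct (LP (LK LD1_c3 LD2_c50 LD3_c24)) = (LP (LK LD1_c7 LD2_c41 LD3_c53)) :=
  Lre_c IH (LK LD1_c3 LD2_c50 LD3_c24) (LK LD1_c7 LD2_c41 LD3_c53) Lrfl Lrfl
theorem f96522 : Led Lsl_gf (LP (LK LD1_c7 LD2_c41 LD3_c53)) = (LP (LK LD1_c7 LD2_c14 LD3_c2)) :=
  Lgr Lrot129 (Lpe (f64349 IH) (Lpr_bt (f64348 IH) (Lpr_gt (f12298 IH) (Lpe (f12291 IH) (Lpr_ct (K1.f12199 IH) (Lpe (K3.f89682 IH) (Lpe (K3.f12037 IH) (Lpr_bt (K5.f89727 IH) (Lpr_gt (K5.f89721 IH) (Lpr_ct (f96483 IH) (Lpn (LP (LK LD1_c7 LD2_c14 LD3_c2)))))))))))))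
theorem f66380 : Led Lsl_ct (LP (LK LD1_c7 LD2_c41 LD3_c53)) = (LP (LK LD1_c3 LD2_c50 LD3_c24)) :=
  Lre_c IH (LK LD1_c7 LD2_c41 LD3_c53) (LK LD1_c3 LD2_c50 LD3_c24) Lrfl Lrfl
theorem f97880 : Led Lsl_cf (LP (LK LD1_c3 LD2_c27 LD3_c1)) = (LP (LK LD1_c3 LD2_c36 LD3_c44)) :=
  Lgr Lrot11 (Lpr_ct (K3.f97876 IH) (Lpn (LP (LK LD1_c3 LD2_c36 LD3_c44))))
theorem f136359 : Led Lsl_gt (LP (LK LD1_c3 LD2_c50 LD3_c24)) = (LP (LK LD1_c3 LD2_c27 LD3_c1)) :=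
  Lgr Lrot149 (Lpe (f66380 IH) (Lpr_gf (f96522 IH) (Lpe (f96479 IH) (Lpr_ct (f96503 IH) (Lpe (f136345 IH) (Lpr_cf (f96148 IH) (Lpr_bt (f136357 IH) (Lpr_gf (K3.f88608 IH) (Lpe (K3.f96557 IH) (Lpe (f97880 IH) (Lpn (LP (LK LD1_c3 LD2_c27 LD3_c1)))))))))))))
theorem f89845 : Led Lsl_at (LP (LK LD1_c1 LD2_c40 LD3_c8)) = (LP (LK LD1_c3 LD2_c27 LD3_c1)) :=
  Lre_a IH (LK LD1_c1 LD2_c40 LD3_c8) (LK LD1_c3 LD2_c27 LD3_c1) Lrfl Lrfl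
theorem f136388 : Led Lsl_gf (LP (LK LD1_c3 LD2_c50 LD3_c24)) = (LP (LK LD1_c1 LD2_c52 LD3_c16)) :=
  Lgr Lrot47 (Lpr_gt (f136359 IH) (Lpe (f89845 IH) (Lpr_ff (K3.f97740 IH) (Lpn (LP (LK LD1_c1 LD2_c52 LD3_c16))))))
theorem f136392 : Led Lsl_bt (LP (LK LD1_c1 LD2_c52 LD3_c7)) = (LP (LK LD1_c3 LD2_c50 LD3_c24)) :=
  Lre_b IH (LK LD1_c1 LD2_c52 LD3_c7) (LK LD1_c3 LD2_c50 LD3_c24) Lrfl Lrfl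
theorem f120948 : Led Lsl_ct (LP (LK LD1_c0 LD2_c52 LD3_c53)) = (LP (LK LD1_c1 LD2_c48 LD3_c10)) :=
  Lgr Lrot7 (Lpe (K3.f64392 IH) (Lpe (K3.f64390 IH) (Lpe (K1.f11441 IH) (Lpr_gf (K1.f11435 IH) (Lpe (K1.f11434 IH) (Lpr_gt (K3.f108814 IH) (Lpe (K3.f108786 IH) (Lpr_gt (K2.f84653 IH) (Lpr_dt (K4.f120937 IH) (Lpn (LP (LK LD1_c1 LD2_c48 LD3_c10))))))))))))
theorem f94612 : Led Lsl_gt (LP (LK LD1_c1 LD2_c39 LD3_c29)) = (LP (LK LD1_c3 LD2_c25 LD3_c44)) :=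
  Lre_g IH (LK LD1_c1 LD2_c39 LD3_c29) (LK LD1_c3 LD2_c25 LD3_c44) Lrfl Lrfl
theorem f102398 : Led Lsl_af (LP (LK LD1_c1 LD2_c39 LD3_c44)) = (LP (LK LD1_c3 LD2_c24 LD3_c35)) :=
  Lgr Lrot68 (Lpe (K3.f94739 IH) (Lpr_at (K4.f102394 IH) (Lpe (K3.f91756 IH) (Lpn (LP (LK LD1_c3 LD2_c24 LD3_c35))))))
theorem f102523 : Led Lsl_ft (LP (LK LD1_c1 LD2_c39 LD3_c29)) = (LP (LK LD1_c3 LD2_c24 LD3_c35)) :=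
  Lgr Lrot101 (Lpr_af (K4.f102517 IH) (Lpe (K4.f102494 IH) (Lpr_af (f102398 IH) (Lpn (LP (LK LD1_c3 LD2_c24 LD3_c35))))))
theorem f102527 : Led Lsl_gt (LP (LK LD1_c3 LD2_c25 LD3_c44)) = (LP (LK LD1_c1 LD2_c39 LD3_c44)) :=
  Lgr Lrot46 (Lpe (f94612 IH) (Lpr_ft (f102523 IH) (Lpe (f102398 IH) (Lpn (LP (LK LD1_c1 LD2_c39 LD3_c44))))))
theorem f9905 : Led Lsl_gt (LP (LK LD1_c0 LD2_c46 LD3_c30)) = (LP (LK LD1_c1 LD2_c39 LD3_c54)) :=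
  Lre_g IH (LK LD1_c0 LD2_c46 LD3_c30) (LK LD1_c1 LD2_c39 LD3_c54) Lrfl Lrfl
theorem f102529 : Led Lsl_df (LP (LK LD1_c3 LD2_c25 LD3_c44)) = (LP (LK LD1_c1 LD2_c39 LD3_c54)) :=
  Lgr Lrot153 (Lpr_gt (f102527 IH) (Lpr_dt (K2.f14603 IH) (Lpe (K3.f9799 IH) (Lpe (K2.f9798 IH) (Lpe (K2.f9797 IH) (Lpr_df (K0.f14561 IH) (Lpe (K2.f14600 IH) (Lpe (K2.f12057 IH) (Lpr_gt (f9905 IH) (Lpn (LP (LK LD1_c1 LD2_c39 LD3_c54))))))))))))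
theorem f102531 : Led Lsl_gt (LP (LK LD1_c1 LD2_c39 LD3_c54)) = (LP (LK LD1_c0 LD2_c46 LD3_c33)) :=
  Lgr Lrot146 (Lpe (f102529 IH) (Lpr_gt (f102527 IH) (Lpe (K3.f94739 IH) (Lpr_gt (K2.f15007 IH) (Lpr_ct (K0.f14556 IH) (Lpr_dt (K0.f14555 IH) (Lpe (K2.f11950 IH) (Lpe (K2.f9907 IH) (Lpe (K3.f15629 IH) (Lpn (LP (LK LD1_c0 LD2_c46 LD3_c33))))))))))))
theorem f102586 : Led Lsl_df (LP (LK LD1_c1 LD2_c39 LD3_c54)) = (LP (LK LD1_c3 LD2_c25 LD3_c44)) :=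
  Lgr Lrot153 (Lpr_gt (f102531 IH) (Lpr_dt (K2.f91129 IH) (Lpe (K2.f91283 IH) (Lpe (K4.f83757 IH) (Lpe (K2.f83735 IH) (Lpe (K2.f14976 IH) (Lpe (K2.f14580 IH) (Lpr_cf (K3.f94921 IH) (Lpr_gt (f94612 IH) (Lpn (LP (LK LD1_c3 LD2_c25 LD3_c44))))))))))))
theorem f120851 : Led Lsl_ct (LP (LK LD1_c1 LD2_c39 LD3_c54)) = (LP (LK LD1_c0 LD2_c50 LD3_c51)) :=
  Lgr Lrot7 (Lpr_df (f102586 IH) (Lpe (f94612 IH) (Lpe (K3.f94222 IH) (Lpe (K2.f94532 IH) (Lpr_cf (K2.f94610 IH) (Lpr_gt (K2.f65871 IH) (Lpr_dt (K2.f65863 IH) (Lpr_gt (K4.f120843 IH) (Lpr_dt (K4.f120847 IH) (Lpn (LP (LK LD1_c0 LD2_c50 LD3_c51))))))))))))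
theorem f15206 : Led Lsl_gt (LP (LK LD1_c3 LD2_c47 LD3_c16)) = (LP (LK LD1_c1 LD2_c50 LD3_c45)) :=
  Lre_g IH (LK LD1_c3 LD2_c47 LD3_c16) (LK LD1_c1 LD2_c50 LD3_c45) Lrfl Lrfl
theorem f136444 : Led Lsl_ct (LP (LK LD1_c1 LD2_c52 LD3_c7)) = (LP (LK LD1_c3 LD2_c47 LD3_c16)) :=
  Lgr Lrot64 (Lpr_bt (f136392 IH) (Lpr_gf (f136388 IH) (Lpe (K3.f97739 IH) (Lpr_ct (f120948 IH) (Lpe (K4.f120848 IH) (Lpe (f120851 IH) (Lpe (f9905 IH) (Lpe (K3.f15077 IH) (Lpr_ct (K4.f15172 IH) (Lpe (f15206 IH) (Lpn (LP (LK LD1_c3 LD2_c47 LD3_c16)))))))))))))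
theorem f136448 : Led Lsl_cf (LP (LK LD1_c1 LD2_c52 LD3_c7)) = (LP (LK LD1_c3 LD2_c47 LD3_c16)) :=
  Lgr Lrot11 (Lpr_ct (f136444 IH) (Lpn (LP (LK LD1_c3 LD2_c47 LD3_c16))))
theorem f95895 : Led Lsl_gt (LP (LK LD1_c0 LD2_c22 LD3_c47)) = (LP (LK LD1_c0 LD2_c10 LD3_c44)) :=
  Lgr Lrot9 (Lpe (K3.f23679 IH) (Lpr_gt (K3.f4902 IH) (Lpe (K0.f23667 IH) (Lpr_gt (K0.f20870 IH) (Lpr_ct (K0.f20871 IH) (Lpe (K4.f23654 IH) (Lpr_cf (K4.f95854 IH) (Lpe (K4.f84773 IH) (Lpe (K4.f90079 IH) (Lpn (LP (LK LD1_c0 LD2_c10 LD3_c44))))))))))))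
theorem f95903 : Led Lsl_bt (LP (LK LD1_c0 LD2_c50 LD3_c22)) = (LP (LK LD1_c0 LD2_c22 LD3_c47)) :=
  Lre_b IH (LK LD1_c0 LD2_c50 LD3_c22) (LK LD1_c0 LD2_c22 LD3_c47) Lrfl Lrfl
theorem f95907 : Led Lsl_gf (LP (LK LD1_c1 LD2_c47 LD3_c9)) = (LP (LK LD1_c0 LD2_c53 LD3_c51)) :=
  Lgr Lrot126 (Lpe (K5.f95906 IH) (Lpr_bt (f95903 IH) (Lpr_gt (f95895 IH) (Lpr_ct (K4.f90079 IH) (Lpr_gt (K4.f84773 IH) (Lpe (K4.f95851 IH) (Lpr_bt (K4.f95841 IH) (Lpr_gt (K3.f12331 IH) (Lpr_bf (K3.f12197 IH) (Lpr_ct (K1.f11841 IH) (Lpn (LP (LK LD1_c0 LD2_c53 LD3_c51)))))))))))))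
theorem f89719 : Led Lsl_gt (LP (LK LD1_c1 LD2_c40 LD3_c8)) = (LP (LK LD1_c3 LD2_c26 LD3_c61)) :=
  Lre_g IH (LK LD1_c1 LD2_c40 LD3_c8) (LK LD1_c3 LD2_c26 LD3_c61) Lrfl Lrfl
theorem f136472 : Led Lsl_bf (LP (LK LD1_c3 LD2_c26 LD3_c61)) = (LP (LK LD1_c3 LD2_c47 LD3_c16)) :=
  Lgr Lrot34 (Lpe (f89719 IH) (Lpe (K3.f89703 IH) (Lpr_ct (K2.f89846 IH) (Lpe (K3.f107278 IH) (Lpe (K5.f95904 IH) (Lpr_gf (f95907 IH) (Lpe (K5.f12285 IH) (Lpr_ct (K1.f12201 IH) (Lpe (f12298 IH) (Lpr_cf (f136448 IH) (Lpn (LP (LK LD1_c3 LD2_c47 LD3_c16)))))))))))))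
theorem f107306 : Led Lsl_ct (LP (LK LD1_c3 LD2_c26 LD3_c61)) = (LP (LK LD1_c6 LD2_c55 LD3_c52)) :=
  Lre_c IH (LK LD1_c3 LD2_c26 LD3_c61) (LK LD1_c6 LD2_c55 LD3_c52) Lrfl Lrfl
theorem f136476 : Led Lsl_bt (LP (LK LD1_c6 LD2_c55 LD3_c52)) = (LP (LK LD1_c7 LD2_c41 LD3_c53)) :=
  Lgr Lrot128 (Lpe (f107306 IH) (Lpr_bf (f136472 IH) (Lpe (f136444 IH) (Lpe (f64348 IH) (Lpe (f66380 IH) (Lpn (LP (LK LD1_c7 LD2_c41 LD3_c53))))))))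
theorem f96942 : Led Lsl_ct (LP (LK LD1_c6 LD2_c55 LD3_c52)) = (LP (LK LD1_c3 LD2_c26 LD3_c61)) :=
  Lre_c IH (LK LD1_c6 LD2_c55 LD3_c52) (LK LD1_c3 LD2_c26 LD3_c61) Lrfl Lrfl
theorem f88585 : Led Lsl_ff (LP (LK LD1_c7 LD2_c13 LD3_c24)) = (LP (LK LD1_c3 LD2_c49 LD3_c6)) :=
  Lgr Lrot23 (Lpe (K3.f88565 IH) (Lpr_ft (K3.f88579 IH) (Lpr_ct (K3.f88584 IH) (Lpn (LP (LK LD1_c3 LD2_c49 LD3_c6))))))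
theorem f88595 : Led Lsl_gf (LP (LK LD1_c7 LD2_c13 LD3_c23)) = (LP (LK LD1_c3 LD2_c49 LD3_c6)) :=
  Lgr Lrot47 (Lpr_gt (f88497 IH) (Lpe (K3.f88521 IH) (Lpr_ff (f88585 IH) (Lpn (LP (LK LD1_c3 LD2_c49 LD3_c6))))))
theorem f96873 : Led Lsl_bf (LP (LK LD1_c3 LD2_c49 LD3_c6)) = (LP (LK LD1_c3 LD2_c33 LD3_c19)) :=
  Lgr Lrot24 (Lpr_bt (K3.f96868 IH) (Lpn (LP (LK LD1_c3 LD2_c33 LD3_c19))))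
theorem f136502 : Led Lsl_gt (LP (LK LD1_c3 LD2_c26 LD3_c61)) = (LP (LK LD1_c3 LD2_c50 LD3_c48)) :=
  Lgr Lrot65 (Lpe (f96942 IH) (Lpr_bt (f136476 IH) (Lpr_gf (f96522 IH) (Lpe (f96479 IH) (Lpr_ct (f96503 IH) (Lpe (f136345 IH) (Lpr_cf (f96148 IH) (Lpr_gf (f88595 IH) (Lpr_bf (f96873 IH) (Lpr_ct (K3.f97864 IH) (Lpn (LP (LK LD1_c3 LD2_c50 LD3_c48)))))))))))))
theorem f97866 : Led Lsl_cf (LP (LK LD1_c3 LD2_c33 LD3_c19)) = (LP (LK LD1_c3 LD2_c50 LD3_c48)) :=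
  Lgr Lrot11 (Lpr_ct (K3.f97864 IH) (Lpn (LP (LK LD1_c3 LD2_c50 LD3_c48))))
theorem f136508 : Led Lsl_gf (LP (LK LD1_c1 LD2_c52 LD3_c7)) = (LP (LK LD1_c3 LD2_c47 LD3_c17)) :=
  Lgr Lrot126 (Lpr_cf (f136448 IH) (Lpe (f136472 IH) (Lpr_gt (f136502 IH) (Lpe (f97866 IH) (Lpr_gt (K5.f127900 IH) (Lpr_cf (K5.f17407 IH) (Lpe (K5.f127904 IH) (Lpr_gt (K5.f127926 IH) (Lpe (f127935 IH) (Lpr_ct (f15208 IH) (Lpn (LP (LK LD1_c3 LD2_c47 LD3_c17)))))))))))))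
theorem f136511 : Led Lsl_at (LP (LK LD1_c1 LD2_c52 LD3_c8)) = (LP (LK LD1_c0 LD2_c52 LD3_c49)) :=
  Lre_a IH (LK LD1_c1 LD2_c52 LD3_c8) (LK LD1_c0 LD2_c52 LD3_c49) Lrfl Lrfl
theorem f136512 : Led Lsl_ff (LP (LK LD1_c1 LD2_c52 LD3_c8)) = (LP (LK LD1_c3 LD2_c47 LD3_c17)) :=
  Lgr Lrot52 (Lpr_at (f136511 IH) (Lpe (f12298 IH) (Lpr_gf (f136508 IH) (Lpn (LP (LK LD1_c3 LD2_c47 LD3_c17))))))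
theorem f15631 : Led Lsl_bt (LP (LK LD1_c1 LD2_c50 LD3_c48)) = (LP (LK LD1_c0 LD2_c52 LD3_c18)) :=
  Lre_b IH (LK LD1_c1 LD2_c50 LD3_c48) (LK LD1_c0 LD2_c52 LD3_c18) Lrfl Lrfl
theorem f110089 : Led Lsl_at (LP (LK LD1_c3 LD2_c47 LD3_c24)) = (LP (LK LD1_c1 LD2_c50 LD3_c48)) :=
  Lre_a IH (LK LD1_c3 LD2_c47 LD3_c24) (LK LD1_c1 LD2_c50 LD3_c48) Lrfl Lrfl
theorem f110090 : Led Lsl_at (LP (LK LD1_c0 LD2_c52 LD3_c49)) = (LP (LK LD1_c1 LD2_c52 LD3_c8)) :=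
  Lre_a IH (LK LD1_c0 LD2_c52 LD3_c49) (LK LD1_c1 LD2_c52 LD3_c8) Lrfl Lrfl
theorem f110091 : Led Lsl_bf (LP (LK LD1_c3 LD2_c47 LD3_c24)) = (LP (LK LD1_c1 LD2_c52 LD3_c8)) :=
  Lgr Lrot81 (Lpr_at (f110089 IH) (Lpr_bt (f15631 IH) (Lpr_at (K3.f110087 IH) (Lpr_bt (f12291 IH) (Lpr_at (f110090 IH) (Lpn (LP (LK LD1_c1 LD2_c52 LD3_c8))))))))
theorem f136515 : Led Lsl_ft (LP (LK LD1_c3 LD2_c47 LD3_c24)) = (LP (LK LD1_c1 LD2_c51 LD3_c59)) :=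
  Lgr Lrot75 (Lpr_bf (f110091 IH) (Lpr_ff (f136512 IH) (Lpe (K4.f117292 IH) (Lpn (LP (LK LD1_c1 LD2_c51 LD3_c59))))))
theorem f136708 : Led Lsl_ff (LP (LK LD1_c3 LD2_c47 LD3_c24)) = (LP (LK LD1_c1 LD2_c51 LD3_c59)) :=
  Lgr Lrot3 (Lpr_ft (f136515 IH) (Lpn (LP (LK LD1_c1 LD2_c51 LD3_c59))))
theorem f136767 : Led Lsl_gf (LP (LK LD1_c3 LD2_c47 LD3_c23)) = (LP (LK LD1_c1 LD2_c51 LD3_c59)) :=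
  Lgr Lrot47 (Lpr_gt (f91263 IH) (Lpe (f110089 IH) (Lpr_ff (f136708 IH) (Lpn (LP (LK LD1_c1 LD2_c51 LD3_c59))))))
theorem f123516 : Led Lsl_dt (LP (LK LD1_c7 LD2_c53 LD3_c18)) = (LP (LK LD1_c3 LD2_c55 LD3_c47)) :=
  Lre_d IH (LK LD1_c7 LD2_c53 LD3_c18) (LK LD1_c3 LD2_c55 LD3_c47) Lrfl Lrfl
theorem f88242 : Led Lsl_dt (LP (LK LD1_c7 LD2_c37 LD3_c55)) = (LP (LK LD1_c14 LD2_c22 LD3_c60)) :=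
  Lre_d IH (LK LD1_c7 LD2_c37 LD3_c55) (LK LD1_c14 LD2_c22 LD3_c60) Lrfl Lrfl
theorem f127949 : Led Lsl_af (LP (LK LD1_c7 LD2_c53 LD3_c18)) = (LP (LK LD1_c14 LD2_c22 LD3_c60)) :=
  Lgr Lrot117 (Lpr_dt (f123516 IH) (Lpr_at (K5.f127941 IH) (Lpr_dt (f88242 IH) (Lpn (LP (LK LD1_c14 LD2_c22 LD3_c60))))))
theorem f125897 : Led Lsl_bt (LP (LK LD1_c7 LD2_c53 LD3_c18)) = (LP (LK LD1_c3 LD2_c55 LD3_c51)) :=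
  Lre_b IH (LK LD1_c7 LD2_c53 LD3_c18) (LK LD1_c3 LD2_c55 LD3_c51) Lrfl Lrfl
theorem f125889 : Led Lsl_dt (LP (LK LD1_c1 LD2_c54 LD3_c32)) = (LP (LK LD1_c3 LD2_c55 LD3_c51)) :=
  Lre_d IH (LK LD1_c1 LD2_c54 LD3_c32) (LK LD1_c3 LD2_c55 LD3_c51) Lrfl Lrfl
theorem f102555 : Led Lsl_dt (LP (LK LD1_c3 LD2_c26 LD3_c35)) = (LP (LK LD1_c1 LD2_c39 LD3_c58)) :=
  Lre_d IH (LK LD1_c3 LD2_c26 LD3_c35) (LK LD1_c1 LD2_c39 LD3_c58) Lrfl Lrfl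
theorem f125890 : Led Lsl_at (LP (LK LD1_c3 LD2_c55 LD3_c51)) = (LP (LK LD1_c3 LD2_c26 LD3_c35)) :=
  Lgr Lrot51 (Lpe (f125889 IH) (Lpr_af (K5.f125883 IH) (Lpe (f102555 IH) (Lpn (LP (LK LD1_c3 LD2_c26 LD3_c35))))))
theorem f15150 : Led Lsl_at (LP (LK LD1_c6 LD2_c54 LD3_c51)) = (LP (LK LD1_c13 LD2_c8 LD3_c3)) :=
  Lre_a IH (LK LD1_c6 LD2_c54 LD3_c51) (LK LD1_c13 LD2_c8 LD3_c3) Lrfl Lrfl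
theorem f127953 : Led Lsl_bt (LP (LK LD1_c13 LD2_c8 LD3_c3)) = (LP (LK LD1_c14 LD2_c22 LD3_c60)) :=
  Lgr Lrot62 (Lpe (f15150 IH) (Lpe (K4.f112162 IH) (Lpe (f125890 IH) (Lpe (f125897 IH) (Lpr_af (f127949 IH) (Lpn (LP (LK LD1_c14 LD2_c22 LD3_c60))))))))
theorem f127956 : Led Lsl_bf (LP (LK LD1_c13 LD2_c8 LD3_c3)) = (LP (LK LD1_c14 LD2_c22 LD3_c60)) :=
  Lgr Lrot24 (Lpr_bt (f127953 IH) (Lpn (LP (LK LD1_c14 LD2_c22 LD3_c60))))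
theorem f15230 : Led Lsl_dt (LP (LK LD1_c13 LD2_c8 LD3_c3)) = (LP (LK LD1_c6 LD2_c54 LD3_c48)) :=
  Lre_d IH (LK LD1_c13 LD2_c8 LD3_c3) (LK LD1_c6 LD2_c54 LD3_c48) Lrfl Lrfl
theorem f127958 : Led Lsl_bt (LP (LK LD1_c6 LD2_c54 LD3_c48)) = (LP (LK LD1_c7 LD2_c37 LD3_c55)) :=
  Lgr Lrot95 (Lpe (f15230 IH) (Lpr_bf (f127956 IH) (Lpe (f88242 IH) (Lpn (LP (LK LD1_c7 LD2_c37 LD3_c55))))))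
theorem f15210 : Led Lsl_et (LP (LK LD1_c3 LD2_c26 LD3_c29)) = (LP (LK LD1_c6 LD2_c54 LD3_c48)) :=
  Lre_e IH (LK LD1_c3 LD2_c26 LD3_c29) (LK LD1_c6 LD2_c54 LD3_c48) Lrfl Lrfl
theorem f127962 : Led Lsl_bf (LP (LK LD1_c3 LD2_c26 LD3_c29)) = (LP (LK LD1_c3 LD2_c48 LD3_c26)) :=
  Lgr Lrot96 (Lpr_et (f15210 IH) (Lpr_bt (f127958 IH) (Lpr_et (K5.f88241 IH) (Lpn (LP (LK LD1_c3 LD2_c48 LD3_c26))))))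
theorem f137232 : Led Lsl_gt (LP (LK LD1_c6 LD2_c55 LD3_c10)) = (LP (LK LD1_c7 LD2_c25 LD3_c1)) :=
  Lgr Lrot65 (Lpe (f114428 IH) (Lpr_bt (f91264 IH) (Lpr_gf (f136767 IH) (Lpr_bf (f117299 IH) (Lpe (K5.f15199 IH) (Lpe (f132312 IH) (Lpr_cf (f64335 IH) (Lpr_gf (f136922 IH) (Lpr_bf (f127962 IH) (Lpe (K5.f127967 IH) (Lpn (LP (LK LD1_c7 LD2_c25 LD3_c1)))))))))))))
theorem f127937 : Led Lsl_ct (LP (LK LD1_c7 LD2_c25 LD3_c1)) = (LP (LK LD1_c3 LD2_c48 LD3_c26)) :=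
  Lgr Lrot111 (Lpe (K5.f122680 IH) (Lpr_cf (K5.f122696 IH) (Lpr_af (K5.f127931 IH) (Lpn (LP (LK LD1_c3 LD2_c48 LD3_c26))))))
theorem f122749 : Led Lsl_bt (LP (LK LD1_c1 LD2_c53 LD3_c34)) = (LP (LK LD1_c0 LD2_c53 LD3_c23)) :=
  Lre_b IH (LK LD1_c1 LD2_c53 LD3_c34) (LK LD1_c0 LD2_c53 LD3_c23) Lrfl Lrfl
theorem f142513 : Led Lsl_cf (LP (LK LD1_c1 LD2_c53 LD3_c34)) = (LP (LK LD1_c1 LD2_c53 LD3_c34)) :=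
  Lgr Lrot160 (Lpr_gt (f134784 IH) (Lpe (f142509 IH) (Lpr_bt (f142483 IH) (Lpr_gt (f137232 IH) (Lpr_ct (f127937 IH) (Lpr_gt (K5.f88234 IH) (Lpr_cf (K5.f121205 IH) (Lpr_bt (K5.f121009 IH) (Lpe (f142320 IH) (Lpe (f122749 IH) (Lpn (LP (LK LD1_c1 LD2_c53 LD3_c34)))))))))))))
theorem f11648 : Led Lsl_ct (LP (LK LD1_c0 LD2_c53 LD3_c39)) = (LP (LK LD1_c0 LD2_c48 LD3_c17)) :=
  Lgr Lrot59 (Lpr_cf (K2.f11524 IH) (Lpn (LP (LK LD1_c0 LD2_c48 LD3_c17))))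
theorem f91720 : Led Lsl_bt (LP (LK LD1_c1 LD2_c40 LD3_c0)) = (LP (LK LD1_c3 LD2_c26 LD3_c40)) :=
  Lre_b IH (LK LD1_c1 LD2_c40 LD3_c0) (LK LD1_c3 LD2_c26 LD3_c40) Lrfl Lrfl
theorem f142519 : Led Lsl_gf (LP (LK LD1_c1 LD2_c53 LD3_c34)) = (LP (LK LD1_c3 LD2_c53 LD3_c54)) :=
  Lgr Lrot126 (Lpr_cf (f142513 IH) (Lpr_bt (f122749 IH) (Lpe (f134762 IH) (Lpr_ct (f11648 IH) (Lpe (K3.f96970 IH) (Lpe (K5.f13548 IH) (Lpr_bt (f91720 IH) (Lpr_gt (f91721 IH) (Lpe (f142483 IH) (Lpr_ct (f142509 IH) (Lpn (LP (LK LD1_c3 LD2_c53 LD3_c54)))))))))))))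
theorem f121004 : Led Lsl_bt (LP (LK LD1_c0 LD2_c50 LD3_c55)) = (LP (LK LD1_c1 LD2_c48 LD3_c18)) :=
  Lre_b IH (LK LD1_c0 LD2_c50 LD3_c55) (LK LD1_c1 LD2_c48 LD3_c18) Lrfl Lrfl
theorem f142327 : Led Lsl_gt (LP (LK LD1_c1 LD2_c48 LD3_c18)) = (LP (LK LD1_c3 LD2_c42 LD3_c36)) :=
  Lre_g IH (LK LD1_c1 LD2_c48 LD3_c18) (LK LD1_c3 LD2_c42 LD3_c36) Lrfl Lrfl
theorem f142521 : Led Lsl_ct (LP (LK LD1_c3 LD2_c42 LD3_c36)) = (LP (LK LD1_c1 LD2_c51 LD3_c59)) :=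
  Lgr Lrot91 (Lpe (f142327 IH) (Lpe (f121004 IH) (Lpr_ct (K4.f120982 IH) (Lpe (f142285 IH) (Lpe (f134724 IH) (Lpr_bt (f123226 IH) (Lpr_gf (f142519 IH) (Lpr_bf (f142477 IH) (Lpr_ct (f114437 IH) (Lpr_gf (f136767 IH) (Lpn (LP (LK LD1_c1 LD2_c51 LD3_c59)))))))))))))
theorem f142525 : Led Lsl_cf (LP (LK LD1_c3 LD2_c42 LD3_c36)) = (LP (LK LD1_c1 LD2_c51 LD3_c59)) :=
  Lgr Lrot11 (Lpr_ct (f142521 IH) (Lpn (LP (LK LD1_c1 LD2_c51 LD3_c59))))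
theorem f15207 : Led Lsl_bt (LP (LK LD1_c3 LD2_c26 LD3_c24)) = (LP (LK LD1_c1 LD2_c39 LD3_c54)) :=
  Lre_b IH (LK LD1_c3 LD2_c26 LD3_c24) (LK LD1_c1 LD2_c39 LD3_c54) Lrfl Lrfl
theorem f142680 : Led Lsl_cf (LP (LK LD1_c1 LD2_c48 LD3_c18)) = (LP (LK LD1_c3 LD2_c26 LD3_c24)) :=
  Lgr Lrot160 (Lpr_gt (f142327 IH) (Lpr_cf (f142525 IH) (Lpr_bt (K4.f117292 IH) (Lpe (f136508 IH) (Lpr_ct (f136444 IH) (Lpr_gt (f15206 IH) (Lpe (K4.f15172 IH) (Lpr_bt (K3.f15077 IH) (Lpr_gt (f9905 IH) (Lpe (f15207 IH) (Lpn (LP (LK LD1_c3 LD2_c26 LD3_c24)))))))))))))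
theorem f142690 : Led Lsl_gf (LP (LK LD1_c1 LD2_c48 LD3_c18)) = (LP (LK LD1_c3 LD2_c42 LD3_c11)) :=
  Lgr Lrot129 (Lpr_cf (f142680 IH) (Lpr_bt (f15207 IH) (Lpr_gt (f102531 IH) (Lpe (K5.f95027 IH) (Lpr_ct (f95131 IH) (Lpr_gt (f91721 IH) (Lpe (f114428 IH) (Lpr_bt (f91264 IH) (Lpr_gt (f91263 IH) (Lpr_ct (K5.f132228 IH) (Lpn (LP (LK LD1_c3 LD2_c42 LD3_c11)))))))))))))
theorem f132163 : Led Lsl_bt (LP (LK LD1_c1 LD2_c48 LD3_c5)) = (LP (LK LD1_c3 LD2_c42 LD3_c11)) :=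
  Lre_b IH (LK LD1_c1 LD2_c48 LD3_c5) (LK LD1_c3 LD2_c42 LD3_c11) Lrfl Lrfl
theorem f142692 : Led Lsl_gt (LP (LK LD1_c1 LD2_c33 LD3_c19)) = (LP (LK LD1_c1 LD2_c39 LD3_c61)) :=
  Lgr Lrot149 (Lpr_cf (K4.f95854 IH) (Lpe (K4.f84773 IH) (Lpr_bf (K4.f12182 IH) (Lpr_ct (K2.f11655 IH) (Lpe (K4.f120987 IH) (Lpe (K4.f120982 IH) (Lpr_bt (f121004 IH) (Lpr_gf (f142690 IH) (Lpe (f132163 IH) (Lpe (K5.f132166 IH) (Lpn (LP (LK LD1_c1 LD2_c39 LD3_c61)))))))))))))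
theorem f124057 : Led Lsl_af (LP (LK LD1_c0 LD2_c49 LD3_c15)) = (LP (LK LD1_c1 LD2_c39 LD3_c33)) :=
  Lgr Lrot45 (Lpr_ft (K4.f124050 IH) (Lpe (K4.f121243 IH) (Lpe (K4.f121213 IH) (Lpn (LP (LK LD1_c1 LD2_c39 LD3_c33))))))
theorem f142694 : Led Lsl_gf (LP (LK LD1_c0 LD2_c49 LD3_c15)) = (LP (LK LD1_c1 LD2_c39 LD3_c61)) :=
  Lgr Lrot76 (Lpr_af (f124057 IH) (Lpr_ff (K4.f121213 IH) (Lpr_gt (f142692 IH) (Lpn (LP (LK LD1_c1 LD2_c39 LD3_c61))))))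
theorem f110068 : Led Lsl_bt (LP (LK LD1_c1 LD2_c44 LD3_c48)) = (LP (LK LD1_c1 LD2_c39 LD3_c61)) :=
  Lgr Lrot35 (Lpr_ff (K3.f110064 IH) (Lpe (K4.f84927 IH) (Lpe (K5.f96979 IH) (Lpn (LP (LK LD1_c1 LD2_c39 LD3_c61))))))
theorem f21101 : Led Lsl_gt (LP (LK LD1_c0 LD2_c53 LD3_c26)) = (LP (LK LD1_c0 LD2_c24 LD3_c1)) :=
  Lre_g IH (LK LD1_c0 LD2_c53 LD3_c26) (LK LD1_c0 LD2_c24 LD3_c1) Lrfl Lrfl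
theorem f142698 : Led Lsl_ct (LP (LK LD1_c0 LD2_c49 LD3_c15)) = (LP (LK LD1_c0 LD2_c53 LD3_c26)) :=
  Lgr Lrot91 (Lpr_gf (f142694 IH) (Lpe (f110068 IH) (Lpr_ct (K3.f91234 IH) (Lpe (K3.f15627 IH) (Lpe (K3.f9880 IH) (Lpr_bt (K4.f11261 IH) (Lpr_gf (K0.f12701 IH) (Lpe (K4.f12180 IH) (Lpr_ct (K4.f90079 IH) (Lpe (f21101 IH) (Lpn (LP (LK LD1_c0 LD2_c53 LD3_c26)))))))))))))
theorem f134738 : Led Lsl_gt (LP (LK LD1_c0 LD2_c53 LD3_c36)) = (LP (LK LD1_c0 LD2_c53 LD3_c26)) :=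
  Lgr Lrot5 (Lpr_ft (K5.f134718 IH) (Lpr_at (K5.f122748 IH) (Lpe (f21101 IH) (Lpn (LP (LK LD1_c0 LD2_c53 LD3_c26))))))
theorem f142719 : Led Lsl_gt (LP (LK LD1_c0 LD2_c22 LD3_c43)) = (LP (LK LD1_c0 LD2_c24 LD3_c6)) :=
  Lgr Lrot82 (Lpr_bf (K5.f12357 IH) (Lpe (K2.f90064 IH) (Lpe (K3.f10480 IH) (Lpe (K3.f10234 IH) (Lpe (K3.f10182 IH) (Lpr_gf (K3.f10228 IH) (Lpe (K4.f5903 IH) (Lpr_ct (f142698 IH) (Lpe (f134738 IH) (Lpe (K5.f84905 IH) (Lpn (LP (LK LD1_c0 LD2_c24 LD3_c6)))))))))))))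
theorem f12356 : Led Lsl_et (LP (LK LD1_c0 LD2_c10 LD3_c15)) = (LP (LK LD1_c0 LD2_c22 LD3_c44)) :=
  Lre_e IH (LK LD1_c0 LD2_c10 LD3_c15) (LK LD1_c0 LD2_c22 LD3_c44) Lrfl Lrfl
theorem f84912 : Led Lsl_et (LP (LK LD1_c0 LD2_c20 LD3_c39)) = (LP (LK LD1_c0 LD2_c46 LD3_c4)) :=
  Lre_e IH (LK LD1_c0 LD2_c20 LD3_c39) (LK LD1_c0 LD2_c46 LD3_c4) Lrfl Lrfl
theorem f108868 : Led Lsl_et (LP (LK LD1_c0 LD2_c20 LD3_c38)) = (LP (LK LD1_c0 LD2_c46 LD3_c3)) :=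
  Lre_e IH (LK LD1_c0 LD2_c20 LD3_c38) (LK LD1_c0 LD2_c46 LD3_c3) Lrfl Lrfl
theorem f142734 : Led Lsl_gf (LP (LK LD1_c0 LD2_c46 LD3_c3)) = (LP (LK LD1_c0 LD2_c46 LD3_c4)) :=
  Lgr Lrot141 (Lpe (f108868 IH) (Lpr_dt (K3.f108793 IH) (Lpr_gt (K3.f4896 IH) (Lpe (K4.f4880 IH) (Lpe (K0.f4478 IH) (Lpr_gt (K1.f4898 IH) (Lpr_dt (K4.f4899 IH) (Lpr_gt (f142719 IH) (Lpr_df (K5.f84898 IH) (Lpr_et (f84912 IH) (Lpn (LP (LK LD1_c0 LD2_c46 LD3_c4)))))))))))))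
theorem f142736 : Led Lsl_ef (LP (LK LD1_c0 LD2_c24 LD3_c29)) = (LP (LK LD1_c0 LD2_c45 LD3_c60)) :=
  Lgr Lrot114 (Lpe (K5.f121387 IH) (Lpe (f12356 IH) (Lpr_dt (K4.f4899 IH) (Lpr_gt (f142719 IH) (Lpr_df (K5.f84898 IH) (Lpr_et (f84912 IH) (Lpe (f142734 IH) (Lpr_dt (K5.f84775 IH) (Lpr_gt (K5.f121379 IH) (Lpe (K5.f135039 IH) (Lpn (LP (LK LD1_c0 LD2_c45 LD3_c60)))))))))))))
theorem f142744 : Led Lsl_et (LP (LK LD1_c0 LD2_c24 LD3_c29)) = (LP (LK LD1_c0 LD2_c45 LD3_c60)) :=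
  Lgr Lrot87 (Lpr_ef (f142736 IH) (Lpn (LP (LK LD1_c0 LD2_c45 LD3_c60))))
theorem f21147 : Led Lsl_et (LP (LK LD1_c0 LD2_c20 LD3_c34)) = (LP (LK LD1_c0 LD2_c9 LD3_c16)) :=
  Lre_e IH (LK LD1_c0 LD2_c20 LD3_c34) (LK LD1_c0 LD2_c9 LD3_c16) Lrfl Lrfl
theorem f84632 : Led Lsl_at (LP (LK LD1_c0 LD2_c9 LD3_c21)) = (LP (LK LD1_c0 LD2_c20 LD3_c39)) :=
  Lre_a IH (LK LD1_c0 LD2_c9 LD3_c21) (LK LD1_c0 LD2_c20 LD3_c39) Lrfl Lrfl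
theorem f134703 : Led Lsl_ff (LP (LK LD1_c0 LD2_c9 LD3_c21)) = (LP (LK LD1_c0 LD2_c9 LD3_c16)) :=
  Lgr Lrot30 (Lpr_at (f84632 IH) (Lpr_ft (K5.f134701 IH) (Lpr_at (K5.f21100 IH) (Lpn (LP (LK LD1_c0 LD2_c9 LD3_c16))))))
theorem f142752 : Led Lsl_ff (LP (LK LD1_c0 LD2_c24 LD3_c29)) = (LP (LK LD1_c0 LD2_c20 LD3_c40)) :=
  Lgr Lrot72 (Lpr_et (f142744 IH) (Lpr_ft (K2.f21057 IH) (Lpr_et (f21147 IH) (Lpe (f134703 IH) (Lpr_et (K2.f19772 IH) (Lpn (LP (LK LD1_c0 LD2_c20 LD3_c40))))))))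
theorem f21061 : Led Lsl_at (LP (LK LD1_c1 LD2_c39 LD3_c1)) = (LP (LK LD1_c0 LD2_c45 LD3_c60)) :=
  Lre_a IH (LK LD1_c1 LD2_c39 LD3_c1) (LK LD1_c0 LD2_c45 LD3_c60) Lrfl Lrfl
theorem f134693 : Led Lsl_et (LP (LK LD1_c0 LD2_c50 LD3_c57)) = (LP (LK LD1_c1 LD2_c39 LD3_c1)) :=
  Lgr Lrot158 (Lpe (K5.f124266 IH) (Lpr_ef (K5.f134691 IH) (Lpe (K5.f21055 IH) (Lpn (LP (LK LD1_c1 LD2_c39 LD3_c1))))))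
theorem f142738 : Led Lsl_at (LP (LK LD1_c0 LD2_c24 LD3_c29)) = (LP (LK LD1_c0 LD2_c50 LD3_c57)) :=
  Lgr Lrot80 (Lpr_ef (f142736 IH) (Lpe (f21061 IH) (Lpe (f134693 IH) (Lpn (LP (LK LD1_c0 LD2_c50 LD3_c57))))))
theorem f126889 : Led Lsl_dt (LP (LK LD1_c3 LD2_c42 LD3_c47)) = (LP (LK LD1_c1 LD2_c48 LD3_c24)) :=
  Lre_d IH (LK LD1_c3 LD2_c42 LD3_c47) (LK LD1_c1 LD2_c48 LD3_c24) Lrfl Lrfl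
theorem f126861 : Led Lsl_ct (LP (LK LD1_c7 LD2_c26 LD3_c13)) = (LP (LK LD1_c3 LD2_c42 LD3_c47)) :=
  Lre_c IH (LK LD1_c7 LD2_c26 LD3_c13) (LK LD1_c3 LD2_c42 LD3_c47) Lrfl Lrfl
theorem f19768 : Led Lsl_dt (LP (LK LD1_c0 LD2_c20 LD3_c40)) = (LP (LK LD1_c0 LD2_c46 LD3_c5)) :=
  Lre_d IH (LK LD1_c0 LD2_c20 LD3_c40) (LK LD1_c0 LD2_c46 LD3_c5) Lrfl Lrfl
theorem f12174 : Led Lsl_ct (LP (LK LD1_c0 LD2_c46 LD3_c5)) = (LP (LK LD1_c1 LD2_c39 LD3_c17)) :=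
  Lre_c IH (LK LD1_c0 LD2_c46 LD3_c5) (LK LD1_c1 LD2_c39 LD3_c17) Lrfl Lrfl
theorem f84610 : Led Lsl_dt (LP (LK LD1_c1 LD2_c39 LD3_c17)) = (LP (LK LD1_c3 LD2_c25 LD3_c22)) :=
  Lre_d IH (LK LD1_c1 LD2_c39 LD3_c17) (LK LD1_c3 LD2_c25 LD3_c22) Lrfl Lrfl
theorem f84611 : Led Lsl_ct (LP (LK LD1_c3 LD2_c25 LD3_c22)) = (LP (LK LD1_c6 LD2_c52 LD3_c57)) :=
  Lre_c IH (LK LD1_c3 LD2_c25 LD3_c22) (LK LD1_c6 LD2_c52 LD3_c57) Lrfl Lrfl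
theorem f142760 : Led Lsl_df (LP (LK LD1_c7 LD2_c26 LD3_c13)) = (LP (LK LD1_c6 LD2_c52 LD3_c57)) :=
  Lgr Lrot13 (Lpr_ct (f126861 IH) (Lpr_dt (f126889 IH) (Lpr_ct (K5.f124266 IH) (Lpe (f142738 IH) (Lpr_ff (f142752 IH) (Lpr_dt (f19768 IH) (Lpr_ct (f12174 IH) (Lpr_dt (f84610 IH) (Lpr_ct (f84611 IH) (Lpn (LP (LK LD1_c6 LD2_c52 LD3_c57))))))))))))
theorem f126854 : Led Lsl_dt (LP (LK LD1_c1 LD2_c48 LD3_c24)) = (LP (LK LD1_c3 LD2_c42 LD3_c47)) :=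
  Lre_d IH (LK LD1_c1 LD2_c48 LD3_c24) (LK LD1_c3 LD2_c42 LD3_c47) Lrfl Lrfl
theorem f134885 : Led Lsl_gf (LP (LK LD1_c3 LD2_c1 LD3_c2)) = (LP (LK LD1_c1 LD2_c26 LD3_c29)) :=
  Lgr Lrot47 (Lpr_gt (K5.f134685 IH) (Lpe (K5.f134877 IH) (Lpr_ff (K5.f134875 IH) (Lpn (LP (LK LD1_c1 LD2_c26 LD3_c29))))))
theorem f142772 : Led Lsl_gt (LP (LK LD1_c7 LD2_c26 LD3_c25)) = (LP (LK LD1_c6 LD2_c52 LD3_c57)) :=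
  Lgr Lrot49 (Lpe (K5.f125074 IH) (Lpe (K5.f24798 IH) (Lpe (K5.f21077 IH) (Lpe (f134885 IH) (Lpr_dt (K5.f82425 IH) (Lpr_gt (K5.f126891 IH) (Lpr_dt (f126854 IH) (Lpe (f126861 IH) (Lpr_df (f142760 IH) (Lpn (LP (LK LD1_c6 LD2_c52 LD3_c57))))))))))))
theorem f134623 : Led Lsl_gf (LP (LK LD1_c7 LD2_c25 LD3_c46)) = (LP (LK LD1_c6 LD2_c9 LD3_c25)) :=
  Lgr Lrot47 (Lpr_gt (K5.f125081 IH) (Lpe (K5.f134609 IH) (Lpr_ff (K5.f134616 IH) (Lpn (LP (LK LD1_c6 LD2_c9 LD3_c25))))))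
theorem f106380 : Led Lsl_dt (LP (LK LD1_c7 LD2_c26 LD3_c58)) = (LP (LK LD1_c3 LD2_c43 LD3_c9)) :=
  Lre_d IH (LK LD1_c7 LD2_c26 LD3_c58) (LK LD1_c3 LD2_c43 LD3_c9) Lrfl Lrfl
theorem f142781 : Led Lsl_ct (LP (LK LD1_c6 LD2_c52 LD3_c57)) = (LP (LK LD1_c3 LD2_c25 LD3_c22)) :=
  Lre_c IH (LK LD1_c6 LD2_c52 LD3_c57) (LK LD1_c3 LD2_c25 LD3_c22) Lrfl Lrfl
theorem f142782 : Led Lsl_gf (LP (LK LD1_c6 LD2_c52 LD3_c36)) = (LP (LK LD1_c3 LD2_c25 LD3_c22)) :=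
  Lgr Lrot172 (Lpr_ct (K5.f106930 IH) (Lpr_dt (f106380 IH) (Lpe (K3.f86768 IH) (Lpe (K5.f86736 IH) (Lpr_cf (K5.f134887 IH) (Lpr_gf (f134623 IH) (Lpr_dt (K5.f125074 IH) (Lpr_gt (f142772 IH) (Lpr_ct (f142781 IH) (Lpn (LP (LK LD1_c3 LD2_c25 LD3_c22))))))))))))
theorem f142798 : Led Lsl_df (LP (LK LD1_c6 LD2_c9 LD3_c25)) = (LP (LK LD1_c7 LD2_c26 LD3_c25)) :=
  Lgr Lrot155 (Lpe (f134623 IH) (Lpe (K5.f134887 IH) (Lpr_gt (K5.f86736 IH) (Lpr_ct (K3.f86768 IH) (Lpr_dt (K3.f106914 IH) (Lpe (K5.f106930 IH) (Lpr_gf (f142782 IH) (Lpe (f142781 IH) (Lpe (f142772 IH) (Lpn (LP (LK LD1_c7 LD2_c26 LD3_c25))))))))))))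
theorem f17710 : Led Lsl_dt (LP (LK LD1_c3 LD2_c25 LD3_c1)) = (LP (LK LD1_c1 LD2_c38 LD3_c59)) :=
  Lre_d IH (LK LD1_c3 LD2_c25 LD3_c1) (LK LD1_c1 LD2_c38 LD3_c59) Lrfl Lrfl
theorem f86784 : Led Lsl_dt (LP (LK LD1_c3 LD2_c25 LD3_c2)) = (LP (LK LD1_c6 LD2_c52 LD3_c28)) :=
  Lre_d IH (LK LD1_c3 LD2_c25 LD3_c2) (LK LD1_c6 LD2_c52 LD3_c28) Lrfl Lrfl
theorem f125072 : Led Lsl_ct (LP (LK LD1_c6 LD2_c52 LD3_c28)) = (LP (LK LD1_c7 LD2_c25 LD3_c48)) :=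
  Lgr Lrot59 (Lpr_cf (K5.f125069 IH) (Lpn (LP (LK LD1_c7 LD2_c25 LD3_c48))))
theorem f125066 : Led Lsl_ft (LP (LK LD1_c6 LD2_c52 LD3_c48)) = (LP (LK LD1_c3 LD2_c42 LD3_c52)) :=
  Lgr Lrot48 (Lpr_ff (K5.f125048 IH) (Lpn (LP (LK LD1_c3 LD2_c42 LD3_c52))))
theorem f131026 : Led Lsl_ct (LP (LK LD1_c3 LD2_c42 LD3_c52)) = (LP (LK LD1_c7 LD2_c26 LD3_c25)) :=
  Lre_c IH (LK LD1_c3 LD2_c42 LD3_c52) (LK LD1_c7 LD2_c26 LD3_c25) Lrfl Lrfl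
theorem f131027 : Led Lsl_ft (LP (LK LD1_c7 LD2_c26 LD3_c25)) = (LP (LK LD1_c7 LD2_c20 LD3_c14)) :=
  Lgr Lrot4 (Lpe (f131026 IH) (Lpe (f125066 IH) (Lpr_cf (K5.f131011 IH) (Lpn (LP (LK LD1_c7 LD2_c20 LD3_c14))))))
theorem f142810 : Led Lsl_af (LP (LK LD1_c7 LD2_c25 LD3_c48)) = (LP (LK LD1_c7 LD2_c20 LD3_c14)) :=
  Lgr Lrot109 (Lpe (f125072 IH) (Lpe (f86784 IH) (Lpe (K5.f17714 IH) (Lpe (K5.f17719 IH) (Lpe (K3.f17703 IH) (Lpe (f17710 IH) (Lpr_cf (K5.f86771 IH) (Lpr_df (f142798 IH) (Lpr_ft (f131027 IH) (Lpn (LP (LK LD1_c7 LD2_c20 LD3_c14))))))))))))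
theorem f131020 : Led Lsl_ct (LP (LK LD1_c7 LD2_c20 LD3_c59)) = (LP (LK LD1_c3 LD2_c40 LD3_c23)) :=
  Lre_c IH (LK LD1_c7 LD2_c20 LD3_c59) (LK LD1_c3 LD2_c40 LD3_c23) Lrfl Lrfl
theorem f131021 : Led Lsl_dt (LP (LK LD1_c6 LD2_c26 LD3_c10)) = (LP (LK LD1_c7 LD2_c20 LD3_c59)) :=
  Lgr Lrot173 (Lpe (K5.f108874 IH) (Lpe (K5.f108845 IH) (Lpr_cf (K5.f108833 IH) (Lpe (K5.f108873 IH) (Lpe (K5.f94112 IH) (Lpe (K5.f94113 IH) (Lpr_cf (K5.f131011 IH) (Lpe (K5.f105652 IH) (Lpe (K5.f12455 IH) (Lpe (K1.f12432 IH) (Lpe (K3.f12556 IH) (Lpe (K5.f12559 IH) (Lpe (K5.f106791 IH) (Lpe (K5.f121389 IH) (Lpe (f131020 IH) (Lpn (LP (LK LD1_c7 LD2_c20 LD3_c59))))))))))))))))))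
theorem f142803 : Led Lsl_at (LP (LK LD1_c7 LD2_c20 LD3_c59)) = (LP (LK LD1_c7 LD2_c26 LD3_c25)) :=
  Lgr Lrot51 (Lpe (f131021 IH) (Lpr_af (K5.f134627 IH) (Lpr_df (f142798 IH) (Lpn (LP (LK LD1_c7 LD2_c26 LD3_c25))))))
theorem f142821 : Led Lsl_ft (LP (LK LD1_c7 LD2_c25 LD3_c48)) = (LP (LK LD1_c7 LD2_c20 LD3_c59)) :=
  Lgr Lrot101 (Lpr_af (f142810 IH) (Lpe (f131027 IH) (Lpe (f142803 IH) (Lpn (LP (LK LD1_c7 LD2_c20 LD3_c59))))))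
theorem f142825 : Led Lsl_df (LP (LK LD1_c6 LD2_c26 LD3_c10)) = (LP (LK LD1_c7 LD2_c20 LD3_c59)) :=
  Lgr Lrot78 (Lpr_ft (K5.f134636 IH) (Lpr_dt (K5.f125068 IH) (Lpr_ft (f142821 IH) (Lpn (LP (LK LD1_c7 LD2_c20 LD3_c59))))))
theorem f142831 : Led Lsl_at (LP (LK LD1_c7 LD2_c26 LD3_c25)) = (LP (LK LD1_c7 LD2_c20 LD3_c59)) :=
  Lgr Lrot51 (Lpe (K5.f125074 IH) (Lpe (K5.f134629 IH) (Lpr_df (f142825 IH) (Lpn (LP (LK LD1_c7 LD2_c20 LD3_c59))))))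
theorem f142776 : Led Lsl_et (LP (LK LD1_c14 LD2_c3 LD3_c50)) = (LP (LK LD1_c7 LD2_c26 LD3_c25)) :=
  Lre_e IH (LK LD1_c14 LD2_c3 LD3_c50) (LK LD1_c7 LD2_c26 LD3_c25) Lrfl Lrfl
theorem f142827 : Led Lsl_et (LP (LK LD1_c7 LD2_c20 LD3_c59)) = (LP (LK LD1_c13 LD2_c53 LD3_c50)) :=
  Lre_e IH (LK LD1_c7 LD2_c20 LD3_c59) (LK LD1_c13 LD2_c53 LD3_c50) Lrfl Lrfl
theorem f142894 : Led Lsl_af (LP (LK LD1_c14 LD2_c3 LD3_c50)) = (LP (LK LD1_c13 LD2_c53 LD3_c50)) :=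
  Lgr Lrot50 (Lpr_et (f142776 IH) (Lpr_at (f142831 IH) (Lpr_et (f142827 IH) (Lpn (LP (LK LD1_c13 LD2_c53 LD3_c50))))))
theorem f142898 : Led Lsl_ct (LP (LK LD1_c14 LD2_c3 LD3_c50)) = (LP (LK LD1_c7 LD2_c26 LD3_c26)) :=
  Lre_c IH (LK LD1_c14 LD2_c3 LD3_c50) (LK LD1_c7 LD2_c26 LD3_c26) Lrfl Lrfl
theorem f142899 : Led Lsl_ct (LP (LK LD1_c7 LD2_c20 LD3_c60)) = (LP (LK LD1_c13 LD2_c53 LD3_c50)) :=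
  Lre_c IH (LK LD1_c7 LD2_c20 LD3_c60) (LK LD1_c13 LD2_c53 LD3_c50) Lrfl Lrfl
theorem f142900 : Led Lsl_at (LP (LK LD1_c7 LD2_c26 LD3_c26)) = (LP (LK LD1_c7 LD2_c20 LD3_c60)) :=
  Lgr Lrot107 (Lpe (f142898 IH) (Lpr_af (f142894 IH) (Lpe (f142899 IH) (Lpn (LP (LK LD1_c7 LD2_c20 LD3_c60))))))
theorem f142904 : Led Lsl_dt (LP (LK LD1_c14 LD2_c3 LD3_c28)) = (LP (LK LD1_c7 LD2_c26 LD3_c26)) :=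
  Lre_d IH (LK LD1_c14 LD2_c3 LD3_c28) (LK LD1_c7 LD2_c26 LD3_c26) Lrfl Lrfl
theorem f131212 : Led Lsl_dt (LP (LK LD1_c7 LD2_c20 LD3_c60)) = (LP (LK LD1_c13 LD2_c53 LD3_c38)) :=
  Lre_d IH (LK LD1_c7 LD2_c20 LD3_c60) (LK LD1_c13 LD2_c53 LD3_c38) Lrfl Lrfl
theorem f142909 : Led Lsl_af (LP (LK LD1_c14 LD2_c3 LD3_c28)) = (LP (LK LD1_c13 LD2_c53 LD3_c38)) :=
  Lgr Lrot117 (Lpr_dt (f142904 IH) (Lpr_at (f142900 IH) (Lpr_dt (f131212 IH) (Lpn (LP (LK LD1_c13 LD2_c53 LD3_c38))))))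
theorem f142923 : Led Lsl_et (LP (LK LD1_c14 LD2_c3 LD3_c28)) = (LP (LK LD1_c7 LD2_c26 LD3_c12)) :=
  Lre_e IH (LK LD1_c14 LD2_c3 LD3_c28) (LK LD1_c7 LD2_c26 LD3_c12) Lrfl Lrfl
theorem f142924 : Led Lsl_et (LP (LK LD1_c7 LD2_c20 LD3_c50)) = (LP (LK LD1_c13 LD2_c53 LD3_c38)) :=
  Lre_e IH (LK LD1_c7 LD2_c20 LD3_c50) (LK LD1_c13 LD2_c53 LD3_c38) Lrfl Lrfl
theorem f142925 : Led Lsl_at (LP (LK LD1_c7 LD2_c26 LD3_c12)) = (LP (LK LD1_c7 LD2_c20 LD3_c50)) :=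
  Lgr Lrot80 (Lpe (f142923 IH) (Lpr_af (f142909 IH) (Lpe (f142924 IH) (Lpn (LP (LK LD1_c7 LD2_c20 LD3_c50))))))
theorem f142932 : Led Lsl_dt (LP (LK LD1_c3 LD2_c42 LD3_c46)) = (LP (LK LD1_c7 LD2_c26 LD3_c12)) :=
  Lre_d IH (LK LD1_c3 LD2_c42 LD3_c46) (LK LD1_c7 LD2_c26 LD3_c12) Lrfl Lrfl
theorem f142933 : Led Lsl_dt (LP (LK LD1_c7 LD2_c20 LD3_c50)) = (LP (LK LD1_c3 LD2_c40 LD3_c19)) :=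
  Lre_d IH (LK LD1_c7 LD2_c20 LD3_c50) (LK LD1_c3 LD2_c40 LD3_c19) Lrfl Lrfl
theorem f142934 : Led Lsl_af (LP (LK LD1_c3 LD2_c42 LD3_c46)) = (LP (LK LD1_c3 LD2_c40 LD3_c19)) :=
  Lgr Lrot117 (Lpr_dt (f142932 IH) (Lpr_at (f142925 IH) (Lpr_dt (f142933 IH) (Lpn (LP (LK LD1_c3 LD2_c40 LD3_c19))))))
theorem f142948 : Led Lsl_et (LP (LK LD1_c3 LD2_c42 LD3_c46)) = (LP (LK LD1_c1 LD2_c48 LD3_c26)) :=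
  Lre_e IH (LK LD1_c3 LD2_c42 LD3_c46) (LK LD1_c1 LD2_c48 LD3_c26) Lrfl Lrfl
theorem f142949 : Led Lsl_et (LP (LK LD1_c1 LD2_c47 LD3_c7)) = (LP (LK LD1_c3 LD2_c40 LD3_c19)) :=
  Lre_e IH (LK LD1_c1 LD2_c47 LD3_c7) (LK LD1_c3 LD2_c40 LD3_c19) Lrfl Lrfl
theorem f142950 : Led Lsl_at (LP (LK LD1_c1 LD2_c48 LD3_c26)) = (LP (LK LD1_c1 LD2_c47 LD3_c7)) :=
  Lgr Lrot80 (Lpe (f142948 IH) (Lpr_af (f142934 IH) (Lpe (f142949 IH) (Lpn (LP (LK LD1_c1 LD2_c47 LD3_c7))))))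
theorem f124274 : Led Lsl_bt (LP (LK LD1_c1 LD2_c48 LD3_c26)) = (LP (LK LD1_c3 LD2_c42 LD3_c51)) :=
  Lre_b IH (LK LD1_c1 LD2_c48 LD3_c26) (LK LD1_c3 LD2_c42 LD3_c51) Lrfl Lrfl
theorem f125031 : Led Lsl_ft (LP (LK LD1_c3 LD2_c25 LD3_c17)) = (LP (LK LD1_c1 LD2_c48 LD3_c26)) :=
  Lgr Lrot75 (Lpe (K5.f121467 IH) (Lpr_ff (K5.f125015 IH) (Lpe (f124274 IH) (Lpn (LP (LK LD1_c1 LD2_c48 LD3_c26))))))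
theorem f142959 : Led Lsl_gt (LP (LK LD1_c3 LD2_c25 LD3_c17)) = (LP (LK LD1_c3 LD2_c40 LD3_c21)) :=
  Lgr Lrot5 (Lpr_ft (f125031 IH) (Lpr_at (f142950 IH) (Lpe (K5.f106792 IH) (Lpn (LP (LK LD1_c3 LD2_c40 LD3_c21))))))
theorem f94110 : Led Lsl_ct (LP (LK LD1_c1 LD2_c39 LD3_c14)) = (LP (LK LD1_c3 LD2_c25 LD3_c17)) :=
  Lre_c IH (LK LD1_c1 LD2_c39 LD3_c14) (LK LD1_c3 LD2_c25 LD3_c17) Lrfl Lrfl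
theorem f142965 : Led Lsl_gf (LP (LK LD1_c3 LD2_c15 LD3_c20)) = (LP (LK LD1_c3 LD2_c35 LD3_c60)) :=
  Lgr Lrot124 (Lpe (K3.f95828 IH) (Lpr_ct (K3.f106288 IH) (Lpe (K5.f134952 IH) (Lpe (K5.f21064 IH) (Lpr_bt (K5.f134943 IH) (Lpe (K5.f134856 IH) (Lpr_ct (f94110 IH) (Lpr_gt (f142959 IH) (Lpr_cf (K5.f115503 IH) (Lpe (K4.f106855 IH) (Lpn (LP (LK LD1_c3 LD2_c35 LD3_c60)))))))))))))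
theorem f114410 : Led Lsl_ef (LP (LK LD1_c1 LD2_c44 LD3_c51)) = (LP (LK LD1_c3 LD2_c1 LD3_c34)) :=
  Lgr Lrot88 (Lpr_et (K4.f114406 IH) (Lpn (LP (LK LD1_c3 LD2_c1 LD3_c34))))
theorem f142967 : Led Lsl_dt (LP (LK LD1_c3 LD2_c1 LD3_c34)) = (LP (LK LD1_c3 LD2_c35 LD3_c60)) :=
  Lgr Lrot136 (Lpe (f114410 IH) (Lpe (K3.f17768 IH) (Lpe (K0.f17770 IH) (Lpr_dt (K0.f17774 IH) (Lpr_gf (K2.f91232 IH) (Lpe (K2.f23663 IH) (Lpe (K0.f23662 IH) (Lpe (K3.f65503 IH) (Lpr_dt (K3.f65504 IH) (Lpr_gf (f142965 IH) (Lpn (LP (LK LD1_c3 LD2_c35 LD3_c60)))))))))))))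
theorem f87536 : Led Lsl_bt (LP (LK LD1_c3 LD2_c32 LD3_c1)) = (LP (LK LD1_c3 LD2_c1 LD3_c34)) :=
  Lgr Lrot127 (Lpr_bf (K4.f87534 IH) (Lpn (LP (LK LD1_c3 LD2_c1 LD3_c34))))
theorem f142969 : Led Lsl_df (LP (LK LD1_c3 LD2_c32 LD3_c1)) = (LP (LK LD1_c3 LD2_c38 LD3_c4)) :=
  Lgr Lrot12 (Lpr_bt (f87536 IH) (Lpr_dt (f142967 IH) (Lpr_bt (K3.f106851 IH) (Lpn (LP (LK LD1_c3 LD2_c38 LD3_c4))))))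
theorem f115137 : Led Lsl_df (LP (LK LD1_c3 LD2_c40 LD3_c0)) = (LP (LK LD1_c3 LD2_c25 LD3_c14)) :=
  Lgr Lrot38 (Lpr_dt (K5.f115093 IH) (Lpn (LP (LK LD1_c3 LD2_c25 LD3_c14))))
theorem f106798 : Led Lsl_et (LP (LK LD1_c3 LD2_c39 LD3_c61)) = (LP (LK LD1_c1 LD2_c46 LD3_c60)) :=
  Lre_e IH (LK LD1_c3 LD2_c39 LD3_c61) (LK LD1_c1 LD2_c46 LD3_c60) Lrfl Lrfl
theorem f134597 : Led Lsl_df (LP (LK LD1_c3 LD2_c40 LD3_c1)) = (LP (LK LD1_c3 LD2_c39 LD3_c61)) :=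
  Lgr Lrot168 (Lpr_gf (K5.f134586 IH) (Lpe (K5.f108845 IH) (Lpr_et (K5.f108866 IH) (Lpr_gf (K3.f84637 IH) (Lpe (K3.f12105 IH) (Lpe (f115137 IH) (Lpe (K5.f12552 IH) (Lpe (K1.f12432 IH) (Lpe (K3.f12441 IH) (Lpe (f106798 IH) (Lpn (LP (LK LD1_c3 LD2_c39 LD3_c61)))))))))))))
theorem f134599 : Led Lsl_dt (LP (LK LD1_c3 LD2_c40 LD3_c1)) = (LP (LK LD1_c3 LD2_c39 LD3_c61)) :=
  Lgr Lrot42 (Lpr_df (f134597 IH) (Lpn (LP (LK LD1_c3 LD2_c39 LD3_c61))))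
theorem f142973 : Led Lsl_cf (LP (LK LD1_c3 LD2_c32 LD3_c1)) = (LP (LK LD1_c3 LD2_c39 LD3_c61)) :=
  Lgr Lrot14 (Lpr_df (f142969 IH) (Lpe (K4.f115501 IH) (Lpe (K3.f95930 IH) (Lpr_gf (K4.f107084 IH) (Lpe (K5.f114179 IH) (Lpr_gt (K5.f114174 IH) (Lpr_dt (K5.f108845 IH) (Lpe (K5.f134586 IH) (Lpr_dt (f134599 IH) (Lpn (LP (LK LD1_c3 LD2_c39 LD3_c61))))))))))))
theorem f142975 : Led Lsl_ft (LP (LK LD1_c3 LD2_c6 LD3_c19)) = (LP (LK LD1_c3 LD2_c39 LD3_c61)) :=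
  Lgr Lrot4 (Lpe (K2.f87548 IH) (Lpe (K4.f87532 IH) (Lpr_cf (f142973 IH) (Lpn (LP (LK LD1_c3 LD2_c39 LD3_c61))))))
theorem f142979 : Led Lsl_ff (LP (LK LD1_c3 LD2_c6 LD3_c19)) = (LP (LK LD1_c3 LD2_c39 LD3_c61)) :=
  Lgr Lrot3 (Lpr_ft (f142975 IH) (Lpn (LP (LK LD1_c3 LD2_c39 LD3_c61))))
theorem f142981 : Led Lsl_gf (LP (LK LD1_c3 LD2_c25 LD3_c3)) = (LP (LK LD1_c3 LD2_c39 LD3_c61)) :=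
  Lgr Lrot47 (Lpe (K5.f135045 IH) (Lpe (K4.f115071 IH) (Lpr_ff (f142979 IH) (Lpn (LP (LK LD1_c3 LD2_c39 LD3_c61))))))
theorem f21067 : Led Lsl_ct (LP (LK LD1_c3 LD2_c25 LD3_c3)) = (LP (LK LD1_c1 LD2_c38 LD3_c61)) :=
  Lre_c IH (LK LD1_c3 LD2_c25 LD3_c3) (LK LD1_c1 LD2_c38 LD3_c61) Lrfl Lrfl
theorem f21125 : Led Lsl_gt (LP (LK LD1_c1 LD2_c38 LD3_c61)) = (LP (LK LD1_c0 LD2_c45 LD3_c56)) :=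
  Lre_g IH (LK LD1_c1 LD2_c38 LD3_c61) (LK LD1_c0 LD2_c45 LD3_c56) Lrfl Lrfl
theorem f142983 : Led Lsl_gf (LP (LK LD1_c6 LD2_c9 LD3_c19)) = (LP (LK LD1_c3 LD2_c40 LD3_c2)) :=
  Lgr Lrot104 (Lpr_ct (K5.f21126 IH) (Lpe (K5.f21116 IH) (Lpe (K5.f21110 IH) (Lpe (f21125 IH) (Lpe (f21067 IH) (Lpr_gf (f142981 IH) (Lpe (f134599 IH) (Lpr_gt (K5.f12555 IH) (Lpr_ct (K5.f12455 IH) (Lpn (LP (LK LD1_c3 LD2_c40 LD3_c2))))))))))))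
theorem f113276 : Led Lsl_bt (LP (LK LD1_c6 LD2_c49 LD3_c8)) = (LP (LK LD1_c13 LD2_c0 LD3_c34)) :=
  Lre_b IH (LK LD1_c6 LD2_c49 LD3_c8) (LK LD1_c13 LD2_c0 LD3_c34) Lrfl Lrfl
theorem f113269 : Led Lsl_ct (LP (LK LD1_c3 LD2_c22 LD3_c46)) = (LP (LK LD1_c6 LD2_c49 LD3_c8)) :=
  Lre_c IH (LK LD1_c3 LD2_c22 LD3_c46) (LK LD1_c6 LD2_c49 LD3_c8) Lrfl Lrfl
theorem f135733 : Led Lsl_bf (LP (LK LD1_c3 LD2_c22 LD3_c46)) = (LP (LK LD1_c3 LD2_c1 LD3_c4)) :=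
  Lgr Lrot90 (Lpr_ct (f113269 IH) (Lpr_bt (f113276 IH) (Lpr_ct (f135731 IH) (Lpr_bt (f24818 IH) (Lpr_ct (K5.f21126 IH) (Lpn (LP (LK LD1_c3 LD2_c1 LD3_c4))))))))
theorem f142987 : Led Lsl_gt (LP (LK LD1_c3 LD2_c22 LD3_c46)) = (LP (LK LD1_c3 LD2_c1 LD3_c14)) :=
  Lgr Lrot164 (Lpr_bf (f135733 IH) (Lpr_ct (K5.f21117 IH) (Lpr_gf (f142983 IH) (Lpe (K5.f12455 IH) (Lpe (K5.f12555 IH) (Lpr_bf (K5.f134538 IH) (Lpr_ct (K5.f67909 IH) (Lpe (K5.f134055 IH) (Lpe (K5.f62647 IH) (Lpr_bt (K5.f125351 IH) (Lpn (LP (LK LD1_c3 LD2_c1 LD3_c14)))))))))))))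
theorem f113307 : Led Lsl_dt (LP (LK LD1_c1 LD2_c37 LD3_c42)) = (LP (LK LD1_c3 LD2_c22 LD3_c46)) :=
  Lre_d IH (LK LD1_c1 LD2_c37 LD3_c42) (LK LD1_c3 LD2_c22 LD3_c46) Lrfl Lrfl
theorem f113290 : Led Lsl_et (LP (LK LD1_c1 LD2_c37 LD3_c42)) = (LP (LK LD1_c0 LD2_c45 LD3_c15)) :=
  Lre_e IH (LK LD1_c1 LD2_c37 LD3_c42) (LK LD1_c0 LD2_c45 LD3_c15) Lrfl Lrfl
theorem f62348 : Led Lsl_et (LP (LK LD1_c1 LD2_c26 LD3_c34)) = (LP (LK LD1_c0 LD2_c40 LD3_c3)) :=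
  Lre_e IH (LK LD1_c1 LD2_c26 LD3_c34) (LK LD1_c0 LD2_c40 LD3_c3) Lrfl Lrfl
theorem f127095 : Led Lsl_et (LP (LK LD1_c0 LD2_c19 LD3_c24)) = (LP (LK LD1_c0 LD2_c40 LD3_c2)) :=
  Lgr Lrot69 (Lpr_ff (K3.f107460 IH) (Lpe (K3.f23554 IH) (Lpr_ff (K5.f126832 IH) (Lpr_ef (K5.f126650 IH) (Lpr_ff (K5.f127088 IH) (Lpn (LP (LK LD1_c0 LD2_c40 LD3_c2))))))))
theorem f142991 : Led Lsl_gf (LP (LK LD1_c0 LD2_c45 LD3_c15)) = (LP (LK LD1_c0 LD2_c40 LD3_c2)) :=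
  Lgr Lrot141 (Lpe (f113290 IH) (Lpr_dt (f113307 IH) (Lpr_gt (f142987 IH) (Lpe (K5.f62349 IH) (Lpr_et (f62348 IH) (Lpr_gt (K2.f57576 IH) (Lpe (K3.f62336 IH) (Lpe (K3.f104287 IH) (Lpe (K3.f24309 IH) (Lpr_et (f127095 IH) (Lpn (LP (LK LD1_c0 LD2_c40 LD3_c2)))))))))))))
theorem f113153 : Led Lsl_at (LP (LK LD1_c3 LD2_c22 LD3_c46)) = (LP (LK LD1_c1 LD2_c37 LD3_c44)) :=
  Lre_a IH (LK LD1_c3 LD2_c22 LD3_c46) (LK LD1_c1 LD2_c37 LD3_c44) Lrfl Lrfl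
theorem f113154 : Led Lsl_at (LP (LK LD1_c2 LD2_c21 LD3_c52)) = (LP (LK LD1_c4 LD2_c47 LD3_c46)) :=
  Lre_a IH (LK LD1_c2 LD2_c21 LD3_c52) (LK LD1_c4 LD2_c47 LD3_c46) Lrfl Lrfl
theorem f113155 : Led Lsl_ef (LP (LK LD1_c3 LD2_c22 LD3_c46)) = (LP (LK LD1_c4 LD2_c47 LD3_c46)) :=
  Lgr Lrot20 (Lpr_at (f113153 IH) (Lpr_et (f113148 IH) (Lpr_at (f113154 IH) (Lpn (LP (LK LD1_c4 LD2_c47 LD3_c46))))))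
theorem f113289 : Led Lsl_dt (LP (LK LD1_c3 LD2_c22 LD3_c46)) = (LP (LK LD1_c1 LD2_c37 LD3_c42)) :=
  Lre_d IH (LK LD1_c3 LD2_c22 LD3_c46) (LK LD1_c1 LD2_c37 LD3_c42) Lrfl Lrfl
theorem f113292 : Led Lsl_et (LP (LK LD1_c1 LD2_c8 LD3_c3)) = (LP (LK LD1_c2 LD2_c21 LD3_c45)) :=
  Lre_e IH (LK LD1_c1 LD2_c8 LD3_c3) (LK LD1_c2 LD2_c21 LD3_c45) Lrfl Lrfl
theorem f113293 : Led Lsl_dt (LP (LK LD1_c0 LD2_c45 LD3_c15)) = (LP (LK LD1_c1 LD2_c8 LD3_c3)) :=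
  Lgr Lrot77 (Lpe (f113290 IH) (Lpe (f113289 IH) (Lpr_ef (f113155 IH) (Lpe (f113291 IH) (Lpe (f113292 IH) (Lpn (LP (LK LD1_c1 LD2_c8 LD3_c3))))))))
theorem f135783 : Led Lsl_df (LP (LK LD1_c2 LD2_c21 LD3_c44)) = (LP (LK LD1_c1 LD2_c51 LD3_c16)) :=
  Lgr Lrot38 (Lpr_dt (f135774 IH) (Lpn (LP (LK LD1_c1 LD2_c51 LD3_c16))))
theorem f113124 : Led Lsl_at (LP (LK LD1_c0 LD2_c45 LD3_c15)) = (LP (LK LD1_c0 LD2_c20 LD3_c5)) :=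
  Lre_a IH (LK LD1_c0 LD2_c45 LD3_c15) (LK LD1_c0 LD2_c20 LD3_c5) Lrfl Lrfl
theorem f113125 : Led Lsl_at (LP (LK LD1_c0 LD2_c31 LD3_c12)) = (LP (LK LD1_c1 LD2_c8 LD3_c3)) :=
  Lre_a IH (LK LD1_c0 LD2_c31 LD3_c12) (LK LD1_c1 LD2_c8 LD3_c3) Lrfl Lrfl
theorem f113126 : Led Lsl_df (LP (LK LD1_c0 LD2_c45 LD3_c15)) = (LP (LK LD1_c1 LD2_c8 LD3_c3)) :=
  Lgr Lrot18 (Lpr_at (f113124 IH) (Lpr_dt (K4.f113122 IH) (Lpr_at (f113125 IH) (Lpn (LP (LK LD1_c1 LD2_c8 LD3_c3))))))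
theorem f135794 : Led Lsl_cf (LP (LK LD1_c0 LD2_c45 LD3_c15)) = (LP (LK LD1_c0 LD2_c45 LD3_c15)) :=
  Lgr Lrot116 (Lpr_dt (f113293 IH) (Lpr_ct (f113298 IH) (Lpr_dt (f135774 IH) (Lpe (K5.f64414 IH) (Lpe (f57261 IH) (Lpr_ff (f64304 IH) (Lpe (f135783 IH) (Lpr_ct (f113299 IH) (Lpe (f113126 IH) (Lpn (LP (LK LD1_c0 LD2_c45 LD3_c15))))))))))))
theorem f142995 : Led Lsl_bt (LP (LK LD1_c0 LD2_c45 LD3_c15)) = (LP (LK LD1_c0 LD2_c39 LD3_c60)) :=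
  Lgr Lrot22 (Lpe (f135794 IH) (Lpr_gf (f142991 IH) (Lpe (K5.f57591 IH) (Lpr_gf (K4.f90373 IH) (Lpe (K2.f83722 IH) (Lpe (K2.f90173 IH) (Lpr_gf (K4.f92275 IH) (Lpr_cf (K5.f84751 IH) (Lpr_bt (K4.f7371 IH) (Lpe (K5.f134801 IH) (Lpn (LP (LK LD1_c0 LD2_c39 LD3_c60)))))))))))))
theorem f142999 : Led Lsl_bf (LP (LK LD1_c1 LD2_c37 LD3_c42)) = (LP (LK LD1_c1 LD2_c26 LD3_c26)) :=
  Lgr Lrot96 (Lpr_et (f113290 IH) (Lpr_bt (f142995 IH) (Lpr_et (K5.f21106 IH) (Lpn (LP (LK LD1_c1 LD2_c26 LD3_c26))))))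
theorem f143009 : Led Lsl_bt (LP (LK LD1_c1 LD2_c37 LD3_c42)) = (LP (LK LD1_c1 LD2_c26 LD3_c26)) :=
  Lgr Lrot127 (Lpr_bf (f142999 IH) (Lpn (LP (LK LD1_c1 LD2_c26 LD3_c26))))
theorem f135811 : Led Lsl_at (LP (LK LD1_c0 LD2_c45 LD3_c16)) = (LP (LK LD1_c1 LD2_c37 LD3_c42)) :=
  Lre_a IH (LK LD1_c0 LD2_c45 LD3_c16) (LK LD1_c1 LD2_c37 LD3_c42) Lrfl Lrfl
theorem f20925 : Led Lsl_bt (LP (LK LD1_c0 LD2_c20 LD3_c6)) = (LP (LK LD1_c0 LD2_c45 LD3_c16)) :=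
  Lre_b IH (LK LD1_c0 LD2_c20 LD3_c6) (LK LD1_c0 LD2_c45 LD3_c16) Lrfl Lrfl
theorem f21083 : Led Lsl_at (LP (LK LD1_c1 LD2_c26 LD3_c26)) = (LP (LK LD1_c0 LD2_c39 LD3_c61)) :=
  Lre_a IH (LK LD1_c1 LD2_c26 LD3_c26) (LK LD1_c0 LD2_c39 LD3_c61) Lrfl Lrfl
theorem f21073 : Led Lsl_bt (LP (LK LD1_c0 LD2_c39 LD3_c61)) = (LP (LK LD1_c0 LD2_c17 LD3_c58)) :=
  Lre_b IH (LK LD1_c0 LD2_c39 LD3_c61) (LK LD1_c0 LD2_c17 LD3_c58) Lrfl Lrfl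
theorem f143011 : Led Lsl_af (LP (LK LD1_c0 LD2_c20 LD3_c6)) = (LP (LK LD1_c0 LD2_c17 LD3_c58)) :=
  Lgr Lrot36 (Lpr_bt (f20925 IH) (Lpr_at (f135811 IH) (Lpr_bt (f143009 IH) (Lpr_at (f21083 IH) (Lpr_bt (f21073 IH) (Lpn (LP (LK LD1_c0 LD2_c17 LD3_c58))))))))
theorem f20924 : Led Lsl_ct (LP (LK LD1_c0 LD2_c9 LD3_c4)) = (LP (LK LD1_c0 LD2_c20 LD3_c6)) :=
  Lre_c IH (LK LD1_c0 LD2_c9 LD3_c4) (LK LD1_c0 LD2_c20 LD3_c6) Lrfl Lrfl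
theorem f57565 : Led Lsl_ct (LP (LK LD1_c1 LD2_c26 LD3_c38)) = (LP (LK LD1_c0 LD2_c40 LD3_c6)) :=
  Lre_c IH (LK LD1_c1 LD2_c26 LD3_c38) (LK LD1_c0 LD2_c40 LD3_c6) Lrfl Lrfl
theorem f21052 : Led Lsl_ft (LP (LK LD1_c0 LD2_c40 LD3_c1)) = (LP (LK LD1_c0 LD2_c17 LD3_c58)) :=
  Lre_f IH (LK LD1_c0 LD2_c40 LD3_c1) (LK LD1_c0 LD2_c17 LD3_c58) Lrfl Lrfl
theorem f143019 : Led Lsl_df (LP (LK LD1_c1 LD2_c8 LD3_c36)) = (LP (LK LD1_c0 LD2_c40 LD3_c1)) :=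
  Lgr Lrot157 (Lpr_ct (K3.f86028 IH) (Lpe (K5.f86359 IH) (Lpr_ct (f57565 IH) (Lpr_dt (f57536 IH) (Lpe (K3.f57560 IH) (Lpe (K1.f20882 IH) (Lpr_ct (f20924 IH) (Lpr_af (f143011 IH) (Lpe (f21052 IH) (Lpn (LP (LK LD1_c0 LD2_c40 LD3_c1))))))))))))
theorem f25677 : Led Lsl_et (LP (LK LD1_c0 LD2_c13 LD3_c56)) = (LP (LK LD1_c0 LD2_c6 LD3_c20)) :=
  Lre_e IH (LK LD1_c0 LD2_c13 LD3_c56) (LK LD1_c0 LD2_c6 LD3_c20) Lrfl Lrfl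
theorem f143032 : Led Lsl_ef (LP (LK LD1_c0 LD2_c31 LD3_c22)) = (LP (LK LD1_c0 LD2_c40 LD3_c1)) :=
  Lgr Lrot17 (Lpe (K5.f23830 IH) (Lpe (K1.f57546 IH) (Lpr_dt (K0.f20067 IH) (Lpe (K1.f58776 IH) (Lpe (K0.f23183 IH) (Lpe (K0.f24024 IH) (Lpe (f25677 IH) (Lpr_dt (K0.f7453 IH) (Lpe (K3.f7471 IH) (Lpr_df (f143019 IH) (Lpn (LP (LK LD1_c0 LD2_c40 LD3_c1)))))))))))))
theorem f143040 : Led Lsl_ft (LP (LK LD1_c0 LD2_c9 LD3_c5)) = (LP (LK LD1_c0 LD2_c8 LD3_c3)) :=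
  Lgr Lrot86 (Lpe (K3.f84326 IH) (Lpe (f135442 IH) (Lpr_ef (f143032 IH) (Lpe (K2.f21034 IH) (Lpe (K5.f21144 IH) (Lpn (LP (LK LD1_c0 LD2_c8 LD3_c3))))))))
theorem f143050 : Led Lsl_ff (LP (LK LD1_c0 LD2_c9 LD3_c5)) = (LP (LK LD1_c0 LD2_c8 LD3_c3)) :=
  Lgr Lrot3 (Lpr_ft (f143040 IH) (Lpn (LP (LK LD1_c0 LD2_c8 LD3_c3))))
theorem f143060 : Led Lsl_at (LP (LK LD1_c0 LD2_c9 LD3_c5)) = (LP (LK LD1_c0 LD2_c8 LD3_c4)) :=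
  Lgr Lrot26 (Lpr_ff (f143050 IH) (Lpe (K2.f25399 IH) (Lpr_gt (K1.f57573 IH) (Lpn (LP (LK LD1_c0 LD2_c8 LD3_c4))))))
theorem f20087 : Led Lsl_et (LP (LK LD1_c0 LD2_c20 LD3_c6)) = (LP (LK LD1_c0 LD2_c9 LD3_c3)) :=
  Lre_e IH (LK LD1_c0 LD2_c20 LD3_c6) (LK LD1_c0 LD2_c9 LD3_c3) Lrfl Lrfl
theorem f143015 : Led Lsl_at (LP (LK LD1_c0 LD2_c9 LD3_c3)) = (LP (LK LD1_c0 LD2_c8 LD3_c3)) :=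
  Lgr Lrot80 (Lpe (f20087 IH) (Lpr_af (f143011 IH) (Lpe (K5.f21144 IH) (Lpn (LP (LK LD1_c0 LD2_c8 LD3_c3))))))
theorem f143068 : Led Lsl_ff (LP (LK LD1_c0 LD2_c9 LD3_c3)) = (LP (LK LD1_c0 LD2_c8 LD3_c4)) :=
  Lgr Lrot30 (Lpr_at (f143015 IH) (Lpe (f143050 IH) (Lpr_at (f143060 IH) (Lpn (LP (LK LD1_c0 LD2_c8 LD3_c4))))))
theorem f57534 : Led Lsl_dt (LP (LK LD1_c0 LD2_c8 LD3_c54)) = (LP (LK LD1_c0 LD2_c8 LD3_c4)) :=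
  Lgr Lrot42 (Lpr_df (K1.f57530 IH) (Lpn (LP (LK LD1_c0 LD2_c8 LD3_c4))))
theorem f143074 : Led Lsl_ft (LP (LK LD1_c0 LD2_c13 LD3_c51)) = (LP (LK LD1_c0 LD2_c8 LD3_c54)) :=
  Lgr Lrot54 (Lpr_df (K4.f26374 IH) (Lpr_ff (f143068 IH) (Lpe (f57534 IH) (Lpn (LP (LK LD1_c0 LD2_c8 LD3_c54))))))
theorem f143080 : Led Lsl_ff (LP (LK LD1_c0 LD2_c13 LD3_c51)) = (LP (LK LD1_c0 LD2_c8 LD3_c54)) :=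
  Lgr Lrot3 (Lpr_ft (f143074 IH) (Lpn (LP (LK LD1_c0 LD2_c8 LD3_c54))))
theorem f143088 : Led Lsl_at (LP (LK LD1_c0 LD2_c13 LD3_c51)) = (LP (LK LD1_c0 LD2_c8 LD3_c53)) :=
  Lgr Lrot26 (Lpr_ff (f143080 IH) (Lpr_gt (K1.f350 IH) (Lpr_gt (K0.f24598 IH) (Lpn (LP (LK LD1_c0 LD2_c8 LD3_c53))))))
theorem f143048 : Led Lsl_ff (LP (LK LD1_c0 LD2_c13 LD3_c52)) = (LP (LK LD1_c0 LD2_c8 LD3_c53)) :=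
  Lgr Lrot19 (Lpe (K0.f23265 IH) (Lpr_ft (f143040 IH) (Lpe (K0.f24608 IH) (Lpn (LP (LK LD1_c0 LD2_c8 LD3_c53))))))
theorem f143092 : Led Lsl_af (LP (LK LD1_c0 LD2_c8 LD3_c54)) = (LP (LK LD1_c0 LD2_c13 LD3_c52)) :=
  Lgr Lrot45 (Lpe (f143080 IH) (Lpr_at (f143088 IH) (Lpe (f143048 IH) (Lpn (LP (LK LD1_c0 LD2_c13 LD3_c52))))))
theorem f143096 : Led Lsl_at (LP (LK LD1_c0 LD2_c16 LD3_c42)) = (LP (LK LD1_c0 LD2_c29 LD3_c13)) :=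
  Lgr Lrot107 (Lpe (K1.f56669 IH) (Lpr_af (f143092 IH) (Lpe (K1.f58778 IH) (Lpn (LP (LK LD1_c0 LD2_c29 LD3_c13))))))
theorem f143084 : Led Lsl_ft (LP (LK LD1_c0 LD2_c29 LD3_c19)) = (LP (LK LD1_c0 LD2_c16 LD3_c42)) :=
  Lgr Lrot4 (Lpr_cf (K0.f26758 IH) (Lpr_ff (f143080 IH) (Lpr_cf (K1.f56671 IH) (Lpn (LP (LK LD1_c0 LD2_c16 LD3_c42))))))
theorem f143090 : Led Lsl_af (LP (LK LD1_c0 LD2_c29 LD3_c19)) = (LP (LK LD1_c0 LD2_c16 LD3_c53)) :=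
  Lgr Lrot68 (Lpe (K3.f58845 IH) (Lpr_at (f143088 IH) (Lpr_ct (K0.f26472 IH) (Lpn (LP (LK LD1_c0 LD2_c16 LD3_c53))))))
theorem f143107 : Led Lsl_ff (LP (LK LD1_c0 LD2_c16 LD3_c53)) = (LP (LK LD1_c0 LD2_c29 LD3_c13)) :=
  Lgr Lrot30 (Lpe (f143090 IH) (Lpr_ft (f143084 IH) (Lpr_at (f143096 IH) (Lpn (LP (LK LD1_c0 LD2_c29 LD3_c13))))))
theorem f143116 : Led Lsl_ft (LP (LK LD1_c0 LD2_c16 LD3_c53)) = (LP (LK LD1_c0 LD2_c29 LD3_c13)) :=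
  Lgr Lrot48 (Lpr_ff (f143107 IH) (Lpn (LP (LK LD1_c0 LD2_c29 LD3_c13))))
theorem f20432 : Led Lsl_et (LP (LK LD1_c0 LD2_c37 LD3_c50)) = (LP (LK LD1_c0 LD2_c16 LD3_c53)) :=
  Lre_e IH (LK LD1_c0 LD2_c37 LD3_c50) (LK LD1_c0 LD2_c16 LD3_c53) Lrfl Lrfl
theorem f139844 : Led Lsl_ft (LP (LK LD1_c1 LD2_c21 LD3_c48)) = (LP (LK LD1_c0 LD2_c37 LD3_c50)) :=
  Lre_f IH (LK LD1_c1 LD2_c21 LD3_c48) (LK LD1_c0 LD2_c37 LD3_c50) Lrfl Lrfl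
theorem f37271 : Led Lsl_et (LP (LK LD1_c0 LD2_c29 LD3_c13)) = (LP (LK LD1_c1 LD2_c4 LD3_c0)) :=
  Lre_e IH (LK LD1_c0 LD2_c29 LD3_c13) (LK LD1_c1 LD2_c4 LD3_c0) Lrfl Lrfl
theorem f143124 : Led Lsl_ft (LP (LK LD1_c1 LD2_c4 LD3_c0)) = (LP (LK LD1_c2 LD2_c13 LD3_c58)) :=
  Lre_f IH (LK LD1_c1 LD2_c4 LD3_c0) (LK LD1_c2 LD2_c13 LD3_c58) Lrfl Lrfl
theorem f143125 : Led Lsl_ef (LP (LK LD1_c1 LD2_c21 LD3_c48)) = (LP (LK LD1_c2 LD2_c13 LD3_c58)) :=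
  Lgr Lrot21 (Lpr_ft (f139844 IH) (Lpr_et (f20432 IH) (Lpr_ft (f143116 IH) (Lpr_et (f37271 IH) (Lpr_ft (f143124 IH) (Lpn (LP (LK LD1_c2 LD2_c13 LD3_c58))))))))
theorem f139832 : Led Lsl_bt (LP (LK LD1_c1 LD2_c21 LD3_c48)) = (LP (LK LD1_c2 LD2_c51 LD3_c24)) :=
  Lre_b IH (LK LD1_c1 LD2_c21 LD3_c48) (LK LD1_c2 LD2_c51 LD3_c24) Lrfl Lrfl
theorem f143127 : Led Lsl_bt (LP (LK LD1_c4 LD2_c34 LD3_c4)) = (LP (LK LD1_c2 LD2_c13 LD3_c58)) :=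
  Lre_b IH (LK LD1_c4 LD2_c34 LD3_c4) (LK LD1_c2 LD2_c13 LD3_c58) Lrfl Lrfl
theorem f143128 : Led Lsl_et (LP (LK LD1_c2 LD2_c51 LD3_c24)) = (LP (LK LD1_c4 LD2_c34 LD3_c4)) :=
  Lgr Lrot74 (Lpe (f139832 IH) (Lpr_ef (f143125 IH) (Lpe (f143127 IH) (Lpn (LP (LK LD1_c4 LD2_c34 LD3_c4))))))
theorem f143137 : Led Lsl_ef (LP (LK LD1_c2 LD2_c51 LD3_c24)) = (LP (LK LD1_c4 LD2_c34 LD3_c4)) :=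
  Lgr Lrot88 (Lpr_et (f143128 IH) (Lpn (LP (LK LD1_c4 LD2_c34 LD3_c4))))
theorem f139831 : Led Lsl_ct (LP (LK LD1_c2 LD2_c51 LD3_c24)) = (LP (LK LD1_c5 LD2_c50 LD3_c19)) :=
  Lre_c IH (LK LD1_c2 LD2_c51 LD3_c24) (LK LD1_c5 LD2_c50 LD3_c19) Lrfl Lrfl
theorem f143147 : Led Lsl_ct (LP (LK LD1_c9 LD2_c5 LD3_c32)) = (LP (LK LD1_c4 LD2_c34 LD3_c4)) :=
  Lre_c IH (LK LD1_c9 LD2_c5 LD3_c32) (LK LD1_c4 LD2_c34 LD3_c4) Lrfl Lrfl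
theorem f143148 : Led Lsl_et (LP (LK LD1_c5 LD2_c50 LD3_c19)) = (LP (LK LD1_c9 LD2_c5 LD3_c32)) :=
  Lgr Lrot158 (Lpe (f139831 IH) (Lpr_ef (f143137 IH) (Lpe (f143147 IH) (Lpn (LP (LK LD1_c9 LD2_c5 LD3_c32))))))
theorem f139812 : Led Lsl_ft (LP (LK LD1_c2 LD2_c51 LD3_c21)) = (LP (LK LD1_c5 LD2_c50 LD3_c19)) :=
  Lre_f IH (LK LD1_c2 LD2_c51 LD3_c21) (LK LD1_c5 LD2_c50 LD3_c19) Lrfl Lrfl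
theorem f141154 : Led Lsl_et (LP (LK LD1_c1 LD2_c21 LD3_c44)) = (LP (LK LD1_c2 LD2_c51 LD3_c21)) :=
  Lre_e IH (LK LD1_c1 LD2_c21 LD3_c44) (LK LD1_c2 LD2_c51 LD3_c21) Lrfl Lrfl
theorem f143156 : Led Lsl_ft (LP (LK LD1_c9 LD2_c5 LD3_c32)) = (LP (LK LD1_c4 LD2_c34 LD3_c0)) :=
  Lre_f IH (LK LD1_c9 LD2_c5 LD3_c32) (LK LD1_c4 LD2_c34 LD3_c0) Lrfl Lrfl
theorem f143157 : Led Lsl_et (LP (LK LD1_c4 LD2_c34 LD3_c0)) = (LP (LK LD1_c2 LD2_c13 LD3_c54)) :=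
  Lre_e IH (LK LD1_c4 LD2_c34 LD3_c0) (LK LD1_c2 LD2_c13 LD3_c54) Lrfl Lrfl
theorem f143158 : Led Lsl_ff (LP (LK LD1_c1 LD2_c21 LD3_c44)) = (LP (LK LD1_c2 LD2_c13 LD3_c54)) :=
  Lgr Lrot72 (Lpr_et (f141154 IH) (Lpr_ft (f139812 IH) (Lpr_et (f143148 IH) (Lpr_ft (f143156 IH) (Lpr_et (f143157 IH) (Lpn (LP (LK LD1_c2 LD2_c13 LD3_c54))))))))
theorem f124073 : Led Lsl_bt (LP (LK LD1_c3 LD2_c19 LD3_c3)) = (LP (LK LD1_c1 LD2_c35 LD3_c61)) :=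
  Lre_b IH (LK LD1_c3 LD2_c19 LD3_c3) (LK LD1_c1 LD2_c35 LD3_c61) Lrfl Lrfl
theorem f15586 : Led Lsl_bt (LP (LK LD1_c8 LD2_c50 LD3_c3)) = (LP (LK LD1_c4 LD2_c26 LD3_c19)) :=
  Lre_b IH (LK LD1_c8 LD2_c50 LD3_c3) (LK LD1_c4 LD2_c26 LD3_c19) Lrfl Lrfl
theorem f69140 : Led Lsl_bt (LP (LK LD1_c1 LD2_c31 LD3_c44)) = (LP (LK LD1_c3 LD2_c10 LD3_c43)) :=
  Lre_b IH (LK LD1_c1 LD2_c31 LD3_c44) (LK LD1_c3 LD2_c10 LD3_c43) Lrfl Lrfl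
theorem f139498 : Led Lsl_gt (LP (LK LD1_c3 LD2_c10 LD3_c43)) = (LP (LK LD1_c3 LD2_c23 LD3_c37)) :=
  Lgr Lrot82 (Lpe (f69140 IH) (Lpr_ct (K5.f69139 IH) (Lpe (K5.f68992 IH) (Lpe (K3.f69134 IH) (Lpe (f68986 IH) (Lpe (f26487 IH) (Lpe (f26510 IH) (Lpr_ct (f26498 IH) (Lpr_gf (f139489 IH) (Lpe (K4.f40352 IH) (Lpn (LP (LK LD1_c3 LD2_c23 LD3_c37)))))))))))))
theorem f139500 : Led Lsl_gt (LP (LK LD1_c6 LD2_c25 LD3_c50)) = (LP (LK LD1_c3 LD2_c10 LD3_c43)) :=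
  Lre_g IH (LK LD1_c6 LD2_c25 LD3_c50) (LK LD1_c3 LD2_c10 LD3_c43) Lrfl Lrfl
theorem f40351 : Led Lsl_at (LP (LK LD1_c6 LD2_c50 LD3_c26)) = (LP (LK LD1_c3 LD2_c23 LD3_c37)) :=
  Lre_a IH (LK LD1_c6 LD2_c50 LD3_c26) (LK LD1_c3 LD2_c23 LD3_c37) Lrfl Lrfl
theorem f139501 : Led Lsl_ft (LP (LK LD1_c6 LD2_c25 LD3_c50)) = (LP (LK LD1_c6 LD2_c50 LD3_c26)) :=
  Lgr Lrot2 (Lpr_gt (f139500 IH) (Lpr_gt (f139498 IH) (Lpe (f40351 IH) (Lpn (LP (LK LD1_c6 LD2_c50 LD3_c26))))))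
theorem f40040 : Led Lsl_dt (LP (LK LD1_c4 LD2_c26 LD3_c18)) = (LP (LK LD1_c8 LD2_c50 LD3_c3)) :=
  Lre_d IH (LK LD1_c4 LD2_c26 LD3_c18) (LK LD1_c8 LD2_c50 LD3_c3) Lrfl Lrfl
theorem f40041 : Led Lsl_af (LP (LK LD1_c8 LD2_c0 LD3_c39)) = (LP (LK LD1_c8 LD2_c50 LD3_c3)) :=
  Lgr Lrot117 (Lpr_dt (K1.f40038 IH) (Lpr_at (K0.f16128 IH) (Lpr_dt (f40040 IH) (Lpn (LP (LK LD1_c8 LD2_c50 LD3_c3))))))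
theorem f40070 : Led Lsl_at (LP (LK LD1_c3 LD2_c57 LD3_c60)) = (LP (LK LD1_c7 LD2_c57 LD3_c13)) :=
  Lre_a IH (LK LD1_c3 LD2_c57 LD3_c60) (LK LD1_c7 LD2_c57 LD3_c13) Lrfl Lrfl
theorem f40045 : Led Lsl_dt (LP (LK LD1_c7 LD2_c57 LD3_c20)) = (LP (LK LD1_c3 LD2_c57 LD3_c60)) :=
  Lre_d IH (LK LD1_c7 LD2_c57 LD3_c20) (LK LD1_c3 LD2_c57 LD3_c60) Lrfl Lrfl
theorem f40342 : Led Lsl_af (LP (LK LD1_c7 LD2_c57 LD3_c20)) = (LP (LK LD1_c6 LD2_c50 LD3_c29)) :=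
  Lgr Lrot117 (Lpr_dt (f40045 IH) (Lpr_at (f40070 IH) (Lpr_dt (K2.f40340 IH) (Lpn (LP (LK LD1_c6 LD2_c50 LD3_c29))))))
theorem f40361 : Led Lsl_ff (LP (LK LD1_c8 LD2_c50 LD3_c3)) = (LP (LK LD1_c7 LD2_c57 LD3_c20)) :=
  Lgr Lrot30 (Lpe (f40041 IH) (Lpr_ft (K2.f40358 IH) (Lpe (f40342 IH) (Lpn (LP (LK LD1_c7 LD2_c57 LD3_c20))))))
theorem f40644 : Led Lsl_ft (LP (LK LD1_c8 LD2_c50 LD3_c3)) = (LP (LK LD1_c7 LD2_c57 LD3_c20)) :=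
  Lgr Lrot48 (Lpr_ff (f40361 IH) (Lpn (LP (LK LD1_c7 LD2_c57 LD3_c20))))
theorem f40646 : Led Lsl_af (LP (LK LD1_c6 LD2_c50 LD3_c29)) = (LP (LK LD1_c7 LD2_c57 LD3_c20)) :=
  Lgr Lrot45 (Lpe (K2.f40349 IH) (Lpr_at (f40048 IH) (Lpr_ft (f40644 IH) (Lpn (LP (LK LD1_c7 LD2_c57 LD3_c20))))))
theorem f40650 : Led Lsl_ct (LP (LK LD1_c6 LD2_c50 LD3_c26)) = (LP (LK LD1_c7 LD2_c57 LD3_c20)) :=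
  Lgr Lrot111 (Lpe (K0.f14401 IH) (Lpe (K2.f14545 IH) (Lpr_af (f40646 IH) (Lpn (LP (LK LD1_c7 LD2_c57 LD3_c20))))))
theorem f139530 : Led Lsl_cf (LP (LK LD1_c6 LD2_c25 LD3_c50)) = (LP (LK LD1_c8 LD2_c50 LD3_c3)) :=
  Lgr Lrot108 (Lpr_ft (f139501 IH) (Lpr_ct (f40650 IH) (Lpe (f40361 IH) (Lpn (LP (LK LD1_c8 LD2_c50 LD3_c3))))))
theorem f139779 : Led Lsl_ct (LP (LK LD1_c3 LD2_c19 LD3_c3)) = (LP (LK LD1_c3 LD2_c10 LD3_c43)) :=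
  Lgr Lrot10 (Lpr_bt (f124073 IH) (Lpr_gt (K5.f24861 IH) (Lpr_ct (K5.f24857 IH) (Lpr_gt (K4.f124063 IH) (Lpe (K4.f23608 IH) (Lpr_bt (f23649 IH) (Lpr_gt (f139769 IH) (Lpe (f15586 IH) (Lpe (f139530 IH) (Lpr_gt (f139500 IH) (Lpn (LP (LK LD1_c3 LD2_c10 LD3_c43)))))))))))))
theorem f139793 : Led Lsl_bf (LP (LK LD1_c0 LD2_c44 LD3_c31)) = (LP (LK LD1_c1 LD2_c21 LD3_c44)) :=
  Lgr Lrot34 (Lpe (K5.f24861 IH) (Lpe (f124073 IH) (Lpr_ct (f139779 IH) (Lpe (f139500 IH) (Lpr_cf (f139530 IH) (Lpe (f139496 IH) (Lpe (f26511 IH) (Lpr_ct (f26496 IH) (Lpe (f26488 IH) (Lpe (f26469 IH) (Lpn (LP (LK LD1_c1 LD2_c21 LD3_c44)))))))))))))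
theorem f58839 : Led Lsl_bt (LP (LK LD1_c1 LD2_c3 LD3_c60)) = (LP (LK LD1_c0 LD2_c29 LD3_c13)) :=
  Lre_b IH (LK LD1_c1 LD2_c3 LD3_c60) (LK LD1_c0 LD2_c29 LD3_c13) Lrfl Lrfl
theorem f58840 : Led Lsl_ct (LP (LK LD1_c2 LD2_c13 LD3_c54)) = (LP (LK LD1_c1 LD2_c3 LD3_c60)) :=
  Lre_c IH (LK LD1_c2 LD2_c13 LD3_c54) (LK LD1_c1 LD2_c3 LD3_c60) Lrfl Lrfl
theorem f58841 : Led Lsl_bt (LP (LK LD1_c0 LD2_c13 LD3_c52)) = (LP (LK LD1_c0 LD2_c31 LD3_c14)) :=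
  Lre_b IH (LK LD1_c0 LD2_c13 LD3_c52) (LK LD1_c0 LD2_c31 LD3_c14) Lrfl Lrfl
theorem f58843 : Led Lsl_bf (LP (LK LD1_c2 LD2_c13 LD3_c54)) = (LP (LK LD1_c1 LD2_c8 LD3_c11)) :=
  Lgr Lrot90 (Lpr_ct (f58840 IH) (Lpr_bt (f58839 IH) (Lpr_ct (K1.f58778 IH) (Lpr_bt (f58841 IH) (Lpr_ct (K5.f58842 IH) (Lpn (LP (LK LD1_c1 LD2_c8 LD3_c11))))))))
theorem f143161 : Led Lsl_ft (LP (LK LD1_c0 LD2_c44 LD3_c31)) = (LP (LK LD1_c1 LD2_c8 LD3_c11)) :=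
  Lgr Lrot75 (Lpr_bf (f139793 IH) (Lpr_ff (f143158 IH) (Lpr_bf (f58843 IH) (Lpn (LP (LK LD1_c1 LD2_c8 LD3_c11))))))
theorem f84598 : Led Lsl_at (LP (LK LD1_c1 LD2_c8 LD3_c11)) = (LP (LK LD1_c2 LD2_c22 LD3_c0)) :=
  Lre_a IH (LK LD1_c1 LD2_c8 LD3_c11) (LK LD1_c2 LD2_c22 LD3_c0) Lrfl Lrfl
theorem f143184 : Led Lsl_gt (LP (LK LD1_c1 LD2_c35 LD3_c60)) = (LP (LK LD1_c2 LD2_c22 LD3_c0)) :=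
  Lgr Lrot46 (Lpe (K1.f66452 IH) (Lpr_ft (f143161 IH) (Lpr_at (f84598 IH) (Lpn (LP (LK LD1_c2 LD2_c22 LD3_c0))))))
theorem f84599 : Led Lsl_ct (LP (LK LD1_c2 LD2_c22 LD3_c0)) = (LP (LK LD1_c1 LD2_c8 LD3_c10)) :=
  Lre_c IH (LK LD1_c2 LD2_c22 LD3_c0) (LK LD1_c1 LD2_c8 LD3_c10) Lrfl Lrfl
theorem f84587 : Led Lsl_at (LP (LK LD1_c0 LD2_c20 LD3_c10)) = (LP (LK LD1_c0 LD2_c45 LD3_c20)) :=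
  Lre_a IH (LK LD1_c0 LD2_c20 LD3_c10) (LK LD1_c0 LD2_c45 LD3_c20) Lrfl Lrfl
theorem f84589 : Led Lsl_dt (LP (LK LD1_c0 LD2_c45 LD3_c20)) = (LP (LK LD1_c1 LD2_c8 LD3_c10)) :=
  Lgr Lrot44 (Lpe (f84587 IH) (Lpr_df (K5.f84582 IH) (Lpe (K5.f84588 IH) (Lpn (LP (LK LD1_c1 LD2_c8 LD3_c10))))))
theorem f84601 : Led Lsl_at (LP (LK LD1_c0 LD2_c45 LD3_c20)) = (LP (LK LD1_c0 LD2_c20 LD3_c10)) :=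
  Lre_a IH (LK LD1_c0 LD2_c45 LD3_c20) (LK LD1_c0 LD2_c20 LD3_c10) Lrfl Lrfl
theorem f84633 : Led Lsl_ct (LP (LK LD1_c0 LD2_c20 LD3_c39)) = (LP (LK LD1_c0 LD2_c45 LD3_c20)) :=
  Lgr Lrot111 (Lpe (f84632 IH) (Lpr_cf (K2.f84628 IH) (Lpe (f84601 IH) (Lpn (LP (LK LD1_c0 LD2_c45 LD3_c20))))))
theorem f143188 : Led Lsl_gt (LP (LK LD1_c0 LD2_c20 LD3_c31)) = (LP (LK LD1_c0 LD2_c20 LD3_c39)) :=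
  Lgr Lrot150 (Lpe (K0.f17728 IH) (Lpr_gf (K4.f109359 IH) (Lpr_df (K4.f115002 IH) (Lpr_gt (K4.f12565 IH) (Lpr_ct (K1.f66453 IH) (Lpr_gt (f143184 IH) (Lpr_ct (f84599 IH) (Lpe (f84589 IH) (Lpe (f84633 IH) (Lpn (LP (LK LD1_c0 LD2_c20 LD3_c39))))))))))))
theorem f17725 : Led Lsl_et (LP (LK LD1_c0 LD2_c45 LD3_c54)) = (LP (LK LD1_c0 LD2_c20 LD3_c31)) :=
  Lre_e IH (LK LD1_c0 LD2_c45 LD3_c54) (LK LD1_c0 LD2_c20 LD3_c31) Lrfl Lrfl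
theorem f124855 : Led Lsl_gt (LP (LK LD1_c0 LD2_c45 LD3_c53)) = (LP (LK LD1_c1 LD2_c31 LD3_c31)) :=
  Lgr Lrot164 (Lpr_bf (K0.f17730 IH) (Lpe (K0.f17771 IH) (Lpe (K3.f95140 IH) (Lpr_cf (K3.f110025 IH) (Lpe (K3.f110016 IH) (Lpe (K3.f13677 IH) (Lpr_ct (K0.f13651 IH) (Lpe (K3.f99151 IH) (Lpe (K3.f58755 IH) (Lpr_bt (K5.f124845 IH) (Lpn (LP (LK LD1_c1 LD2_c31 LD3_c31)))))))))))))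
theorem f143194 : Led Lsl_gf (LP (LK LD1_c0 LD2_c22 LD3_c47)) = (LP (LK LD1_c0 LD2_c24 LD3_c6)) :=
  Lgr Lrot143 (Lpr_dt (K4.f23678 IH) (Lpe (K3.f23676 IH) (Lpe (K4.f107288 IH) (Lpe (K5.f125672 IH) (Lpr_df (K5.f124843 IH) (Lpe (f124855 IH) (Lpe (K4.f17696 IH) (Lpr_gt (f143188 IH) (Lpe (K5.f84898 IH) (Lpn (LP (LK LD1_c0 LD2_c24 LD3_c6))))))))))))
theorem f124907 : Led Lsl_et (LP (LK LD1_c0 LD2_c10 LD3_c16)) = (LP (LK LD1_c0 LD2_c20 LD3_c32)) :=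
  Lgr Lrot74 (Lpe (K3.f12348 IH) (Lpr_ef (K5.f124903 IH) (Lpe (K5.f124861 IH) (Lpn (LP (LK LD1_c0 LD2_c20 LD3_c32))))))
theorem f143200 : Led Lsl_gf (LP (LK LD1_c1 LD2_c38 LD3_c60)) = (LP (LK LD1_c0 LD2_c45 LD3_c59)) :=
  Lgr Lrot145 (Lpe (K5.f17719 IH) (Lpr_et (f17725 IH) (Lpr_gt (f143188 IH) (Lpe (K5.f84898 IH) (Lpe (f143194 IH) (Lpe (K3.f23679 IH) (Lpr_et (f124907 IH) (Lpr_gt (K5.f12693 IH) (Lpe (f21147 IH) (Lpr_dt (K5.f21130 IH) (Lpn (LP (LK LD1_c0 LD2_c45 LD3_c59)))))))))))))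
theorem f9865 : Led Lsl_ct (LP (LK LD1_c0 LD2_c20 LD3_c61)) = (LP (LK LD1_c0 LD2_c46 LD3_c50)) :=
  Lre_c IH (LK LD1_c0 LD2_c20 LD3_c61) (LK LD1_c0 LD2_c46 LD3_c50) Lrfl Lrfl
theorem f124273 : Led Lsl_bt (LP (LK LD1_c0 LD2_c20 LD3_c35)) = (LP (LK LD1_c0 LD2_c45 LD3_c59)) :=
  Lre_b IH (LK LD1_c0 LD2_c20 LD3_c35) (LK LD1_c0 LD2_c45 LD3_c59) Lrfl Lrfl
theorem f12721 : Led Lsl_ct (LP (LK LD1_c0 LD2_c20 LD3_c35)) = (LP (LK LD1_c0 LD2_c45 LD3_c61)) :=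
  Lre_c IH (LK LD1_c0 LD2_c20 LD3_c35) (LK LD1_c0 LD2_c45 LD3_c61) Lrfl Lrfl
theorem f143204 : Led Lsl_gt (LP (LK LD1_c0 LD2_c46 LD3_c50)) = (LP (LK LD1_c0 LD2_c45 LD3_c61)) :=
  Lgr Lrot149 (Lpe (f9865 IH) (Lpr_gf (K0.f11474 IH) (Lpe (K3.f10377 IH) (Lpr_ct (K0.f11506 IH) (Lpr_gf (K3.f105855 IH) (Lpe (K3.f105883 IH) (Lpe (K5.f17708 IH) (Lpr_gf (f143200 IH) (Lpe (f124273 IH) (Lpr_ct (f12721 IH) (Lpn (LP (LK LD1_c0 LD2_c45 LD3_c61)))))))))))))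
theorem f10081 : Led Lsl_ft (LP (LK LD1_c0 LD2_c9 LD3_c52)) = (LP (LK LD1_c0 LD2_c4 LD3_c37)) :=
  Lre_f IH (LK LD1_c0 LD2_c9 LD3_c52) (LK LD1_c0 LD2_c4 LD3_c37) Lrfl Lrfl
theorem f10082 : Led Lsl_at (LP (LK LD1_c0 LD2_c4 LD3_c37)) = (LP (LK LD1_c0 LD2_c4 LD3_c37)) :=
  Lgr Lrot33 (Lpe (f10081 IH) (Lpr_dt (K0.f9967 IH) (Lpr_ct (K0.f9968 IH) (Lpr_dt (K0.f10068 IH) (Lpr_ct (K0.f9982 IH) (Lpr_dt (K0.f9958 IH) (Lpr_ct (K0.f9960 IH) (Lpr_dt (K0.f9950 IH) (Lpr_ct (K0.f9983 IH) (Lpn (LP (LK LD1_c0 LD2_c4 LD3_c37))))))))))))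
theorem f9962 : Led Lsl_gt (LP (LK LD1_c0 LD2_c9 LD3_c50)) = (LP (LK LD1_c0 LD2_c4 LD3_c37)) :=
  Lre_g IH (LK LD1_c0 LD2_c9 LD3_c50) (LK LD1_c0 LD2_c4 LD3_c37) Lrfl Lrfl
theorem f10911 : Led Lsl_gt (LP (LK LD1_c0 LD2_c9 LD3_c52)) = (LP (LK LD1_c0 LD2_c9 LD3_c50)) :=
  Lgr Lrot5 (Lpr_ft (f10081 IH) (Lpr_at (f10082 IH) (Lpe (f9962 IH) (Lpn (LP (LK LD1_c0 LD2_c9 LD3_c50))))))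
theorem f12728 : Led Lsl_ct (LP (LK LD1_c0 LD2_c45 LD3_c61)) = (LP (LK LD1_c0 LD2_c20 LD3_c35)) :=
  Lre_c IH (LK LD1_c0 LD2_c45 LD3_c61) (LK LD1_c0 LD2_c20 LD3_c35) Lrfl Lrfl
theorem f12719 : Led Lsl_ct (LP (LK LD1_c0 LD2_c4 LD3_c21)) = (LP (LK LD1_c0 LD2_c9 LD3_c17)) :=
  Lre_c IH (LK LD1_c0 LD2_c4 LD3_c21) (LK LD1_c0 LD2_c9 LD3_c17) Lrfl Lrfl
theorem f143224 : Led Lsl_ct (LP (LK LD1_c0 LD2_c9 LD3_c50)) = (LP (LK LD1_c0 LD2_c9 LD3_c19)) :=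
  Lgr Lrot152 (Lpe (f10911 IH) (Lpe (K0.f9974 IH) (Lpe (K0.f11474 IH) (Lpr_ct (f9865 IH) (Lpr_gt (f143204 IH) (Lpr_ct (f12728 IH) (Lpe (K3.f12708 IH) (Lpe (f12719 IH) (Lpe (K0.f12696 IH) (Lpn (LP (LK LD1_c0 LD2_c9 LD3_c19))))))))))))
theorem f10346 : Led Lsl_ef (LP (LK LD1_c0 LD2_c4 LD3_c40)) = (LP (LK LD1_c0 LD2_c4 LD3_c44)) :=
  Lgr Lrot28 (Lpr_ct (K0.f9966 IH) (Lpr_et (K0.f10341 IH) (Lpr_ct (K0.f9964 IH) (Lpn (LP (LK LD1_c0 LD2_c4 LD3_c44))))))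
theorem f10064 : Led Lsl_af (LP (LK LD1_c0 LD2_c4 LD3_c44)) = (LP (LK LD1_c0 LD2_c4 LD3_c44)) :=
  Lgr Lrot45 (Lpr_ft (K0.f9971 IH) (Lpr_at (K0.f10060 IH) (Lpr_ft (K0.f9952 IH) (Lpn (LP (LK LD1_c0 LD2_c4 LD3_c44))))))
theorem f10351 : Led Lsl_at (LP (LK LD1_c0 LD2_c4 LD3_c40)) = (LP (LK LD1_c0 LD2_c4 LD3_c40)) :=
  Lgr Lrot80 (Lpr_ef (f10346 IH) (Lpr_af (f10064 IH) (Lpe (K0.f10046 IH) (Lpn (LP (LK LD1_c0 LD2_c4 LD3_c40))))))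
theorem f10353 : Led Lsl_gt (LP (LK LD1_c0 LD2_c4 LD3_c38)) = (LP (LK LD1_c0 LD2_c4 LD3_c40)) :=
  Lgr Lrot46 (Lpe (K0.f4928 IH) (Lpr_ft (K0.f9957 IH) (Lpr_at (f10351 IH) (Lpn (LP (LK LD1_c0 LD2_c4 LD3_c40))))))
theorem f10360 : Led Lsl_gf (LP (LK LD1_c0 LD2_c4 LD3_c39)) = (LP (LK LD1_c0 LD2_c4 LD3_c40)) :=
  Lgr Lrot145 (Lpe (K0.f9989 IH) (Lpe (K0.f4933 IH) (Lpr_gt (K0.f4922 IH) (Lpr_dt (K0.f3979 IH) (Lpr_gt (K0.f3980 IH) (Lpr_df (K0.f4924 IH) (Lpr_et (K0.f4929 IH) (Lpr_gt (f10353 IH) (Lpr_ef (f10346 IH) (Lpr_dt (K0.f9954 IH) (Lpn (LP (LK LD1_c0 LD2_c4 LD3_c40)))))))))))))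
theorem f10913 : Led Lsl_dt (LP (LK LD1_c0 LD2_c9 LD3_c50)) = (LP (LK LD1_c0 LD2_c21 LD3_c52)) :=
  Lre_d IH (LK LD1_c0 LD2_c9 LD3_c50) (LK LD1_c0 LD2_c21 LD3_c52) Lrfl Lrfl
theorem f10914 : Led Lsl_gf (LP (LK LD1_c0 LD2_c22 LD3_c18)) = (LP (LK LD1_c0 LD2_c21 LD3_c52)) :=
  Lgr Lrot143 (Lpr_dt (K0.f9965 IH) (Lpe (K0.f9977 IH) (Lpr_df (K0.f9969 IH) (Lpe (f10353 IH) (Lpr_df (K0.f9992 IH) (Lpr_gf (f10360 IH) (Lpe (K0.f9973 IH) (Lpr_gt (f10911 IH) (Lpr_dt (f10913 IH) (Lpn (LP (LK LD1_c0 LD2_c21 LD3_c52))))))))))))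
theorem f10917 : Led Lsl_et (LP (LK LD1_c0 LD2_c9 LD3_c50)) = (LP (LK LD1_c0 LD2_c9 LD3_c50)) :=
  Lgr Lrot122 (Lpr_dt (f10913 IH) (Lpe (f10914 IH) (Lpe (K0.f9978 IH) (Lpe (K0.f10310 IH) (Lpr_gt (f10911 IH) (Lpr_dt (f10913 IH) (Lpe (f10914 IH) (Lpe (K0.f9978 IH) (Lpe (K0.f10310 IH) (Lpr_gt (f10911 IH) (Lpn (LP (LK LD1_c0 LD2_c9 LD3_c50)))))))))))))
theorem f143255 : Led Lsl_cf (LP (LK LD1_c0 LD2_c9 LD3_c50)) = (LP (LK LD1_c0 LD2_c9 LD3_c19)) :=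
  Lgr Lrot11 (Lpr_ct (f143224 IH) (Lpn (LP (LK LD1_c0 LD2_c9 LD3_c19))))
theorem f143257 : Led Lsl_ef (LP (LK LD1_c0 LD2_c9 LD3_c19)) = (LP (LK LD1_c0 LD2_c9 LD3_c19)) :=
  Lgr Lrot28 (Lpe (f143255 IH) (Lpr_et (f10917 IH) (Lpr_ct (f143224 IH) (Lpn (LP (LK LD1_c0 LD2_c9 LD3_c19))))))
theorem f446830 : Led Lsl_af (LP (LK LD1_c0 LD2_c9 LD3_c19)) = K0.v84 :=
  Lgr Lrot45 (Lpr_ft (K0.f446827 IH) (Lpe (K0.f446826 IH) (Lpr_ft (K0.f446829 IH) (Lpn K0.v84))))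
theorem f446835 : Led Lsl_ef K0.v84 = K0.v84 :=
  Lgr Lrot20 (Lpe (f446830 IH) (Lpe (f143257 IH) (Lpr_at (K0.f446833 IH) (Lpn K0.v84))))
theorem f10345 : Led Lsl_bt (LP (LK LD1_c0 LD2_c21 LD3_c45)) = (LP (LK LD1_c0 LD2_c9 LD3_c52)) :=
  Lre_b IH (LK LD1_c0 LD2_c21 LD3_c45) (LK LD1_c0 LD2_c9 LD3_c52) Lrfl Lrfl
theorem f10362 : Led Lsl_gt (LP (LK LD1_c0 LD2_c48 LD3_c13)) = (LP (LK LD1_c0 LD2_c21 LD3_c45)) :=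
  Lre_g IH (LK LD1_c0 LD2_c48 LD3_c13) (LK LD1_c0 LD2_c21 LD3_c45) Lrfl Lrfl
theorem f21072 : Led Lsl_bt (LP (LK LD1_c0 LD2_c9 LD3_c17)) = (LP (LK LD1_c0 LD2_c20 LD3_c34)) :=
  Lre_b IH (LK LD1_c0 LD2_c9 LD3_c17) (LK LD1_c0 LD2_c20 LD3_c34) Lrfl Lrfl
theorem f21086 : Led Lsl_gt (LP (LK LD1_c0 LD2_c20 LD3_c34)) = (LP (LK LD1_c0 LD2_c45 LD3_c57)) :=
  Lre_g IH (LK LD1_c0 LD2_c20 LD3_c34) (LK LD1_c0 LD2_c45 LD3_c57) Lrfl Lrfl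
theorem f21143 : Led Lsl_bt (LP (LK LD1_c1 LD2_c39 LD3_c2)) = (LP (LK LD1_c0 LD2_c45 LD3_c57)) :=
  Lre_b IH (LK LD1_c1 LD2_c39 LD3_c2) (LK LD1_c0 LD2_c45 LD3_c57) Lrfl Lrfl
theorem f143265 : Led Lsl_cf (LP (LK LD1_c0 LD2_c48 LD3_c13)) = (LP (LK LD1_c1 LD2_c39 LD3_c2)) :=
  Lgr Lrot160 (Lpr_gt (f10362 IH) (Lpr_cf (K0.f19448 IH) (Lpr_bt (f10345 IH) (Lpr_gt (f10911 IH) (Lpr_ct (f143224 IH) (Lpr_gt (K0.f12696 IH) (Lpe (K5.f12720 IH) (Lpr_bt (f21072 IH) (Lpr_gt (f21086 IH) (Lpe (f21143 IH) (Lpn (LP (LK LD1_c1 LD2_c39 LD3_c2)))))))))))))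
theorem f10246 : Led Lsl_gt (LP (LK LD1_c0 LD2_c21 LD3_c37)) = (LP (LK LD1_c0 LD2_c48 LD3_c13)) :=
  Lre_g IH (LK LD1_c0 LD2_c21 LD3_c37) (LK LD1_c0 LD2_c48 LD3_c13) Lrfl Lrfl
theorem f10358 : Led Lsl_bt (LP (LK LD1_c1 LD2_c43 LD3_c12)) = (LP (LK LD1_c0 LD2_c48 LD3_c14)) :=
  Lre_b IH (LK LD1_c1 LD2_c43 LD3_c12) (LK LD1_c0 LD2_c48 LD3_c14) Lrfl Lrfl
theorem f21140 : Led Lsl_gt (LP (LK LD1_c0 LD2_c45 LD3_c57)) = (LP (LK LD1_c1 LD2_c39 LD3_c1)) :=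
  Lre_g IH (LK LD1_c0 LD2_c45 LD3_c57) (LK LD1_c1 LD2_c39 LD3_c1) Lrfl Lrfl
theorem f134699 : Led Lsl_bt (LP (LK LD1_c1 LD2_c39 LD3_c1)) = (LP (LK LD1_c1 LD2_c39 LD3_c1)) :=
  Lgr Lrot119 (Lpe (f134693 IH) (Lpr_bf (K5.f126852 IH) (Lpr_ef (K5.f134697 IH) (Lpn (LP (LK LD1_c1 LD2_c39 LD3_c1))))))
theorem f21134 : Led Lsl_gt (LP (LK LD1_c3 LD2_c1 LD3_c5)) = (LP (LK LD1_c1 LD2_c26 LD3_c28)) :=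
  Lre_g IH (LK LD1_c3 LD2_c1 LD3_c5) (LK LD1_c1 LD2_c26 LD3_c28) Lrfl Lrfl
theorem f143276 : Led Lsl_ct (LP (LK LD1_c1 LD2_c43 LD3_c12)) = (LP (LK LD1_c1 LD2_c26 LD3_c28)) :=
  Lgr Lrot10 (Lpr_bt (f10358 IH) (Lpr_gt (K3.f10435 IH) (Lpe (K0.f19348 IH) (Lpr_gt (f10246 IH) (Lpr_cf (f143265 IH) (Lpr_bt (f21143 IH) (Lpr_gt (f21140 IH) (Lpe (f134699 IH) (Lpr_ct (K5.f21055 IH) (Lpr_gt (f21134 IH) (Lpn (LP (LK LD1_c1 LD2_c26 LD3_c28)))))))))))))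
theorem f4936 : Led Lsl_ct (LP (LK LD1_c0 LD2_c9 LD3_c54)) = (LP (LK LD1_c0 LD2_c4 LD3_c38)) :=
  Lre_c IH (LK LD1_c0 LD2_c9 LD3_c54) (LK LD1_c0 LD2_c4 LD3_c38) Lrfl Lrfl
theorem f21093 : Led Lsl_gt (LP (LK LD1_c1 LD2_c26 LD3_c28)) = (LP (LK LD1_c0 LD2_c39 LD3_c61)) :=
  Lre_g IH (LK LD1_c1 LD2_c26 LD3_c28) (LK LD1_c0 LD2_c39 LD3_c61) Lrfl Lrfl
theorem f143286 : Led Lsl_gf (LP (LK LD1_c0 LD2_c9 LD3_c54)) = (LP (LK LD1_c0 LD2_c9 LD3_c17)) :=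
  Lgr Lrot181 (Lpr_ct (f4936 IH) (Lpr_gt (f10353 IH) (Lpe (K0.f9973 IH) (Lpr_bt (K0.f9975 IH) (Lpr_gt (K3.f9976 IH) (Lpe (f10358 IH) (Lpr_ct (f143276 IH) (Lpr_gt (f21093 IH) (Lpe (K2.f21059 IH) (Lpr_bt (K5.f12743 IH) (Lpn (LP (LK LD1_c0 LD2_c9 LD3_c17)))))))))))))
theorem f143289 : Led Lsl_bt (LP (LK LD1_c0 LD2_c21 LD3_c56)) = (LP (LK LD1_c0 LD2_c9 LD3_c54)) :=
  Lre_b IH (LK LD1_c0 LD2_c21 LD3_c56) (LK LD1_c0 LD2_c9 LD3_c54) Lrfl Lrfl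
theorem f106101 : Led Lsl_ct (LP (LK LD1_c0 LD2_c21 LD3_c56)) = (LP (LK LD1_c0 LD2_c48 LD3_c53)) :=
  Lre_c IH (LK LD1_c0 LD2_c21 LD3_c56) (LK LD1_c0 LD2_c48 LD3_c53) Lrfl Lrfl
theorem f143284 : Led Lsl_gf (LP (LK LD1_c1 LD2_c43 LD3_c12)) = (LP (LK LD1_c3 LD2_c32 LD3_c1)) :=
  Lgr Lrot147 (Lpr_ct (f143276 IH) (Lpr_gt (f21093 IH) (Lpe (K5.f21028 IH) (Lpe (K5.f21074 IH) (Lpe (K5.f12738 IH) (Lpe (K3.f12741 IH) (Lpr_cf (K3.f106858 IH) (Lpe (K3.f86811 IH) (Lpe (K4.f115508 IH) (Lpn (LP (LK LD1_c3 LD2_c32 LD3_c1))))))))))))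
theorem f143290 : Led Lsl_gt (LP (LK LD1_c0 LD2_c48 LD3_c53)) = (LP (LK LD1_c1 LD2_c26 LD3_c50)) :=
  Lgr Lrot65 (Lpe (f106101 IH) (Lpr_bt (f143289 IH) (Lpr_gf (f143286 IH) (Lpe (K5.f12743 IH) (Lpr_ct (K2.f21059 IH) (Lpe (f21093 IH) (Lpe (f143276 IH) (Lpr_gf (f143284 IH) (Lpr_bf (K4.f87534 IH) (Lpr_ct (K4.f87541 IH) (Lpn (LP (LK LD1_c1 LD2_c26 LD3_c50)))))))))))))
theorem f10032 : Led Lsl_bt (LP (LK LD1_c0 LD2_c9 LD3_c54)) = (LP (LK LD1_c0 LD2_c21 LD3_c56)) :=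
  Lre_b IH (LK LD1_c0 LD2_c9 LD3_c54) (LK LD1_c0 LD2_c21 LD3_c56) Lrfl Lrfl
theorem f106099 : Led Lsl_gt (LP (LK LD1_c0 LD2_c46 LD3_c55)) = (LP (LK LD1_c0 LD2_c21 LD3_c56)) :=
  Lgr Lrot164 (Lpe (K3.f19383 IH) (Lpr_ct (K3.f90399 IH) (Lpr_gf (K3.f106087 IH) (Lpe (K3.f10359 IH) (Lpe (K3.f9976 IH) (Lpe (K0.f9975 IH) (Lpr_ct (K0.f9973 IH) (Lpe (f10353 IH) (Lpe (f4936 IH) (Lpr_bt (f10032 IH) (Lpn (LP (LK LD1_c0 LD2_c21 LD3_c56)))))))))))))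
theorem f87538 : Led Lsl_ct (LP (LK LD1_c1 LD2_c26 LD3_c50)) = (LP (LK LD1_c3 LD2_c1 LD3_c34)) :=
  Lre_c IH (LK LD1_c1 LD2_c26 LD3_c50) (LK LD1_c3 LD2_c1 LD3_c34) Lrfl Lrfl
theorem f114141 : Led Lsl_df (LP (LK LD1_c3 LD2_c1 LD3_c34)) = (LP (LK LD1_c3 LD2_c35 LD3_c60)) :=
  Lgr Lrot78 (Lpr_ft (K4.f87544 IH) (Lpr_dt (K3.f84715 IH) (Lpr_ft (K4.f114099 IH) (Lpn (LP (LK LD1_c3 LD2_c35 LD3_c60))))))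
theorem f143294 : Led Lsl_ct (LP (LK LD1_c3 LD2_c31 LD3_c7)) = (LP (LK LD1_c3 LD2_c35 LD3_c60)) :=
  Lgr Lrot110 (Lpe (K3.f12742 IH) (Lpe (K3.f11134 IH) (Lpe (K2.f87588 IH) (Lpe (K2.f85345 IH) (Lpr_gt (f106099 IH) (Lpr_ct (f106101 IH) (Lpr_gt (f143290 IH) (Lpr_ct (f87538 IH) (Lpr_df (f114141 IH) (Lpn (LP (LK LD1_c3 LD2_c35 LD3_c60))))))))))))
theorem f87602 : Led Lsl_dt (LP (LK LD1_c1 LD2_c42 LD3_c7)) = (LP (LK LD1_c3 LD2_c31 LD3_c9)) :=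
  Lre_d IH (LK LD1_c1 LD2_c42 LD3_c7) (LK LD1_c3 LD2_c31 LD3_c9) Lrfl Lrfl
theorem f105701 : Led Lsl_gt (LP (LK LD1_c3 LD2_c31 LD3_c9)) = (LP (LK LD1_c7 LD2_c4 LD3_c9)) :=
  Lre_g IH (LK LD1_c3 LD2_c31 LD3_c9) (LK LD1_c7 LD2_c4 LD3_c9) Lrfl Lrfl
theorem f143300 : Led Lsl_ct (LP (LK LD1_c7 LD2_c4 LD3_c9)) = (LP (LK LD1_c6 LD2_c10 LD3_c7)) :=
  Lgr Lrot152 (Lpe (f105701 IH) (Lpe (f87602 IH) (Lpr_gt (K3.f12742 IH) (Lpr_ct (f143294 IH) (Lpe (f142965 IH) (Lpr_ct (K3.f95763 IH) (Lpe (K5.f85301 IH) (Lpr_cf (K5.f126217 IH) (Lpe (K5.f119276 IH) (Lpn (LP (LK LD1_c6 LD2_c10 LD3_c7))))))))))))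
theorem f143304 : Led Lsl_cf (LP (LK LD1_c7 LD2_c4 LD3_c9)) = (LP (LK LD1_c6 LD2_c10 LD3_c7)) :=
  Lgr Lrot11 (Lpr_ct (f143300 IH) (Lpn (LP (LK LD1_c6 LD2_c10 LD3_c7))))
theorem f87593 : Led Lsl_gt (LP (LK LD1_c7 LD2_c4 LD3_c9)) = (LP (LK LD1_c3 LD2_c44 LD3_c43)) :=
  Lre_g IH (LK LD1_c7 LD2_c4 LD3_c9) (LK LD1_c3 LD2_c44 LD3_c43) Lrfl Lrfl
theorem f105713 : Led Lsl_ct (LP (LK LD1_c3 LD2_c44 LD3_c43)) = (LP (LK LD1_c6 LD2_c11 LD3_c49)) :=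
  Lre_c IH (LK LD1_c3 LD2_c44 LD3_c43) (LK LD1_c6 LD2_c11 LD3_c49) Lrfl Lrfl
theorem f64513 : Led Lsl_dt (LP (LK LD1_c6 LD2_c11 LD3_c49)) = (LP (LK LD1_c3 LD2_c2 LD3_c28)) :=
  Lre_d IH (LK LD1_c6 LD2_c11 LD3_c49) (LK LD1_c3 LD2_c2 LD3_c28) Lrfl Lrfl
theorem f126296 : Led Lsl_df (LP (LK LD1_c12 LD2_c1 LD3_c6)) = (LP (LK LD1_c6 LD2_c26 LD3_c15)) :=
  Lgr Lrot38 (Lpr_dt (K5.f126292 IH) (Lpn (LP (LK LD1_c6 LD2_c26 LD3_c15))))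
theorem f143327 : Led Lsl_gf (LP (LK LD1_c6 LD2_c9 LD3_c55)) = (LP (LK LD1_c6 LD2_c26 LD3_c15)) :=
  Lgr Lrot147 (Lpr_ct (K4.f114001 IH) (Lpr_gt (K4.f113995 IH) (Lpr_ct (K3.f64515 IH) (Lpe (f64513 IH) (Lpe (f105713 IH) (Lpe (f87593 IH) (Lpr_cf (f143304 IH) (Lpe (K5.f64501 IH) (Lpr_df (f126296 IH) (Lpn (LP (LK LD1_c6 LD2_c26 LD3_c15))))))))))))
theorem f114275 : Led Lsl_cf (LP (LK LD1_c6 LD2_c10 LD3_c0)) = (LP (LK LD1_c3 LD2_c10 LD3_c35)) :=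
  Lgr Lrot11 (Lpr_ct (K5.f114214 IH) (Lpn (LP (LK LD1_c3 LD2_c10 LD3_c35))))
theorem f126243 : Led Lsl_at (LP (LK LD1_c6 LD2_c10 LD3_c0)) = (LP (LK LD1_c6 LD2_c58 LD3_c61)) :=
  Lgr Lrot107 (Lpr_cf (f114275 IH) (Lpr_af (K5.f126239 IH) (Lpe (K5.f17753 IH) (Lpn (LP (LK LD1_c6 LD2_c58 LD3_c61))))))
theorem f143331 : Led Lsl_ff (LP (LK LD1_c6 LD2_c10 LD3_c0)) = (LP (LK LD1_c6 LD2_c26 LD3_c15)) :=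
  Lgr Lrot52 (Lpr_at (f126243 IH) (Lpe (K5.f114012 IH) (Lpr_gf (f143327 IH) (Lpn (LP (LK LD1_c6 LD2_c26 LD3_c15))))))
theorem f85582 : Led Lsl_dt (LP (LK LD1_c6 LD2_c59 LD3_c11)) = (LP (LK LD1_c3 LD2_c28 LD3_c47)) :=
  Lre_d IH (LK LD1_c6 LD2_c59 LD3_c11) (LK LD1_c3 LD2_c28 LD3_c47) Lrfl Lrfl
theorem f143347 : Led Lsl_cf (LP (LK LD1_c6 LD2_c59 LD3_c11)) = (LP (LK LD1_c12 LD2_c1 LD3_c6)) :=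
  Lgr Lrot118 (Lpr_dt (f85582 IH) (Lpe (K3.f85601 IH) (Lpr_dt (K3.f17769 IH) (Lpr_ct (K0.f17762 IH) (Lpr_dt (K5.f17748 IH) (Lpr_ct (K5.f17756 IH) (Lpe (f126243 IH) (Lpr_ff (f143331 IH) (Lpe (f126296 IH) (Lpn (LP (LK LD1_c12 LD2_c1 LD3_c6))))))))))))
theorem f143345 : Led Lsl_ft (LP (LK LD1_c12 LD2_c0 LD3_c51)) = (LP (LK LD1_c12 LD2_c1 LD3_c6)) :=
  Lgr Lrot54 (Lpe (K5.f78957 IH) (Lpr_ff (f143331 IH) (Lpe (K5.f126292 IH) (Lpn (LP (LK LD1_c12 LD2_c1 LD3_c6))))))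
theorem f143349 : Led Lsl_ft (LP (LK LD1_c6 LD2_c59 LD3_c11)) = (LP (LK LD1_c6 LD2_c59 LD3_c39)) :=
  Lgr Lrot4 (Lpr_cf (f143347 IH) (Lpe (f143345 IH) (Lpr_cf (K5.f121521 IH) (Lpn (LP (LK LD1_c6 LD2_c59 LD3_c39))))))
theorem f143372 : Led Lsl_df (LP (LK LD1_c3 LD2_c34 LD3_c30)) = (LP (LK LD1_c6 LD2_c59 LD3_c39)) :=
  Lgr Lrot78 (Lpr_ft (K4.f121551 IH) (Lpr_dt (K5.f85293 IH) (Lpr_ft (f143349 IH) (Lpn (LP (LK LD1_c6 LD2_c59 LD3_c39))))))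
theorem f87601 : Led Lsl_ct (LP (LK LD1_c6 LD2_c33 LD3_c52)) = (LP (LK LD1_c3 LD2_c31 LD3_c9)) :=
  Lre_c IH (LK LD1_c6 LD2_c33 LD3_c52) (LK LD1_c3 LD2_c31 LD3_c9) Lrfl Lrfl
theorem f88790 : Led Lsl_ct (LP (LK LD1_c3 LD2_c28 LD3_c61)) = (LP (LK LD1_c6 LD2_c59 LD3_c40)) :=
  Lre_c IH (LK LD1_c3 LD2_c28 LD3_c61) (LK LD1_c6 LD2_c59 LD3_c40) Lrfl Lrfl
theorem f143398 : Led Lsl_gf (LP (LK LD1_c6 LD2_c33 LD3_c52)) = (LP (LK LD1_c6 LD2_c59 LD3_c40)) :=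
  Lgr Lrot104 (Lpr_ct (f87601 IH) (Lpe (f87602 IH) (Lpe (K3.f11134 IH) (Lpe (K2.f87588 IH) (Lpe (K3.f85342 IH) (Lpr_gf (K3.f106658 IH) (Lpr_df (f143372 IH) (Lpr_gt (K5.f84994 IH) (Lpr_ct (f88790 IH) (Lpn (LP (LK LD1_c6 LD2_c59 LD3_c40))))))))))))
theorem f143400 : Led Lsl_at (LP (LK LD1_c3 LD2_c18 LD3_c56)) = (LP (LK LD1_c6 LD2_c33 LD3_c52)) :=
  Lre_a IH (LK LD1_c3 LD2_c18 LD3_c56) (LK LD1_c6 LD2_c33 LD3_c52) Lrfl Lrfl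
theorem f143401 : Led Lsl_ft (LP (LK LD1_c6 LD2_c11 LD3_c49)) = (LP (LK LD1_c3 LD2_c18 LD3_c56)) :=
  Lre_f IH (LK LD1_c6 LD2_c11 LD3_c49) (LK LD1_c3 LD2_c18 LD3_c56) Lrfl Lrfl
theorem f143402 : Led Lsl_gt (LP (LK LD1_c6 LD2_c11 LD3_c49)) = (LP (LK LD1_c6 LD2_c59 LD3_c40)) :=
  Lgr Lrot5 (Lpr_ft (f143401 IH) (Lpr_at (f143400 IH) (Lpr_gf (f143398 IH) (Lpn (LP (LK LD1_c6 LD2_c59 LD3_c40))))))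
theorem f90744 : Led Lsl_gt (LP (LK LD1_c3 LD2_c2 LD3_c28)) = (LP (LK LD1_c6 LD2_c11 LD3_c46)) :=
  Lre_g IH (LK LD1_c3 LD2_c2 LD3_c28) (LK LD1_c6 LD2_c11 LD3_c46) Lrfl Lrfl
theorem f90625 : Led Lsl_gt (LP (LK LD1_c3 LD2_c15 LD3_c13)) = (LP (LK LD1_c6 LD2_c11 LD3_c47)) :=
  Lre_g IH (LK LD1_c3 LD2_c15 LD3_c13) (LK LD1_c6 LD2_c11 LD3_c47) Lrfl Lrfl
theorem f90651 : Led Lsl_gt (LP (LK LD1_c6 LD2_c11 LD3_c46)) = (LP (LK LD1_c3 LD2_c15 LD3_c13)) :=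
  Lre_g IH (LK LD1_c6 LD2_c11 LD3_c46) (LK LD1_c3 LD2_c15 LD3_c13) Lrfl Lrfl
theorem f90652 : Led Lsl_ft (LP (LK LD1_c6 LD2_c11 LD3_c46)) = (LP (LK LD1_c3 LD2_c18 LD3_c53)) :=
  Lgr Lrot2 (Lpr_gt (f90651 IH) (Lpr_gt (f90625 IH) (Lpr_af (K3.f90626 IH) (Lpn (LP (LK LD1_c3 LD2_c18 LD3_c53))))))
theorem f90659 : Led Lsl_ff (LP (LK LD1_c6 LD2_c11 LD3_c46)) = (LP (LK LD1_c3 LD2_c18 LD3_c53)) :=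
  Lgr Lrot3 (Lpr_ft (f90652 IH) (Lpn (LP (LK LD1_c3 LD2_c18 LD3_c53))))
theorem f90664 : Led Lsl_ct (LP (LK LD1_c6 LD2_c11 LD3_c46)) = (LP (LK LD1_c3 LD2_c28 LD3_c46)) :=
  Lgr Lrot40 (Lpr_ff (f90659 IH) (Lpe (K3.f88979 IH) (Lpe (K3.f88995 IH) (Lpn (LP (LK LD1_c3 LD2_c28 LD3_c46))))))
theorem f105669 : Led Lsl_dt (LP (LK LD1_c3 LD2_c45 LD3_c8)) = (LP (LK LD1_c7 LD2_c31 LD3_c2)) :=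
  Lre_d IH (LK LD1_c3 LD2_c45 LD3_c8) (LK LD1_c7 LD2_c31 LD3_c2) Lrfl Lrfl
theorem f88718 : Led Lsl_ct (LP (LK LD1_c6 LD2_c59 LD3_c40)) = (LP (LK LD1_c3 LD2_c28 LD3_c61)) :=
  Lre_c IH (LK LD1_c6 LD2_c59 LD3_c40) (LK LD1_c3 LD2_c28 LD3_c61) Lrfl Lrfl
theorem f86976 : Led Lsl_gt (LP (LK LD1_c3 LD2_c28 LD3_c61)) = (LP (LK LD1_c6 LD2_c59 LD3_c38)) :=
  Lre_g IH (LK LD1_c3 LD2_c28 LD3_c61) (LK LD1_c6 LD2_c59 LD3_c38) Lrfl Lrfl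
theorem f143411 : Led Lsl_cf (LP (LK LD1_c7 LD2_c31 LD3_c2)) = (LP (LK LD1_c6 LD2_c59 LD3_c38)) :=
  Lgr Lrot99 (Lpe (f105669 IH) (Lpe (K5.f12446 IH) (Lpe (K3.f105648 IH) (Lpe (f90664 IH) (Lpe (f90744 IH) (Lpe (f64513 IH) (Lpr_gt (f143402 IH) (Lpr_ct (f88718 IH) (Lpr_gt (f86976 IH) (Lpn (LP (LK LD1_c6 LD2_c59 LD3_c38))))))))))))
theorem f12553 : Led Lsl_dt (LP (LK LD1_c7 LD2_c31 LD3_c2)) = (LP (LK LD1_c3 LD2_c45 LD3_c8)) :=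
  Lre_d IH (LK LD1_c7 LD2_c31 LD3_c2) (LK LD1_c3 LD2_c45 LD3_c8) Lrfl Lrfl
theorem f115506 : Led Lsl_ct (LP (LK LD1_c3 LD2_c35 LD3_c56)) = (LP (LK LD1_c6 LD2_c58 LD3_c51)) :=
  Lgr Lrot63 (Lpe (K3.f106340 IH) (Lpr_gt (K4.f115501 IH) (Lpe (K3.f106851 IH) (Lpe (K3.f106713 IH) (Lpr_gt (K3.f86618 IH) (Lpe (K3.f86594 IH) (Lpr_bt (K3.f11118 IH) (Lpe (K2.f87582 IH) (Lpr_ct (K3.f85331 IH) (Lpr_gt (K4.f85591 IH) (Lpn (LP (LK LD1_c6 LD2_c58 LD3_c51)))))))))))))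
theorem f143423 : Led Lsl_dt (LP (LK LD1_c6 LD2_c58 LD3_c51)) = (LP (LK LD1_c6 LD2_c59 LD3_c38)) :=
  Lgr Lrot173 (Lpe (f115506 IH) (Lpe (K3.f106328 IH) (Lpe (K4.f121515 IH) (Lpe (K5.f109190 IH) (Lpe (K5.f114214 IH) (Lpe (K5.f114277 IH) (Lpr_cf (K5.f121521 IH) (Lpr_df (K5.f106673 IH) (Lpe (K3.f106614 IH) (Lpe (K4.f106675 IH) (Lpr_cf (K3.f105736 IH) (Lpe (K1.f12433 IH) (Lpe (K5.f12512 IH) (Lpe (f12553 IH) (Lpr_cf (f143411 IH) (Lpn (LP (LK LD1_c6 LD2_c59 LD3_c38))))))))))))))))))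
theorem f143425 : Led Lsl_af (LP (LK LD1_c7 LD2_c31 LD3_c2)) = (LP (LK LD1_c12 LD2_c1 LD3_c6)) :=
  Lgr Lrot109 (Lpr_cf (f143411 IH) (Lpe (f143423 IH) (Lpe (f115506 IH) (Lpe (K3.f106328 IH) (Lpe (K4.f121515 IH) (Lpe (K5.f109190 IH) (Lpe (K5.f114214 IH) (Lpe (K5.f114277 IH) (Lpr_ft (f143345 IH) (Lpn (LP (LK LD1_c12 LD2_c1 LD3_c6))))))))))))
theorem f126284 : Led Lsl_af (LP (LK LD1_c12 LD2_c0 LD3_c51)) = (LP (LK LD1_c12 LD2_c1 LD3_c5)) :=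
  Lgr Lrot0 (Lpr_at (K5.f126282 IH) (Lpn (LP (LK LD1_c12 LD2_c1 LD3_c5))))
theorem f143435 : Led Lsl_ft (LP (LK LD1_c7 LD2_c31 LD3_c2)) = (LP (LK LD1_c12 LD2_c1 LD3_c5)) :=
  Lgr Lrot101 (Lpr_af (f143425 IH) (Lpe (f143345 IH) (Lpr_af (f126284 IH) (Lpn (LP (LK LD1_c12 LD2_c1 LD3_c5))))))
theorem f114203 : Led Lsl_bt (LP (LK LD1_c14 LD2_c11 LD3_c25)) = (LP (LK LD1_c7 LD2_c31 LD3_c2)) :=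
  Lre_b IH (LK LD1_c14 LD2_c11 LD3_c25) (LK LD1_c7 LD2_c31 LD3_c2) Lrfl Lrfl
theorem f126216 : Led Lsl_bt (LP (LK LD1_c12 LD2_c1 LD3_c5)) = (LP (LK LD1_c21 LD2_c6 LD3_c44)) :=
  Lre_b IH (LK LD1_c12 LD2_c1 LD3_c5) (LK LD1_c21 LD2_c6 LD3_c44) Lrfl Lrfl
theorem f143437 : Led Lsl_ff (LP (LK LD1_c14 LD2_c11 LD3_c25)) = (LP (LK LD1_c21 LD2_c6 LD3_c44)) :=
  Lgr Lrot25 (Lpr_bt (f114203 IH) (Lpr_ft (f143435 IH) (Lpr_bt (f126216 IH) (Lpn (LP (LK LD1_c21 LD2_c6 LD3_c44))))))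
theorem f12523 : Led Lsl_dt (LP (LK LD1_c14 LD2_c11 LD3_c25)) = (LP (LK LD1_c7 LD2_c31 LD3_c1)) :=
  Lre_d IH (LK LD1_c14 LD2_c11 LD3_c25) (LK LD1_c7 LD2_c31 LD3_c1) Lrfl Lrfl
theorem f17757 : Led Lsl_bt (LP (LK LD1_c6 LD2_c58 LD3_c61)) = (LP (LK LD1_c13 LD2_c15 LD3_c13)) :=
  Lre_b IH (LK LD1_c6 LD2_c58 LD3_c61) (LK LD1_c13 LD2_c15 LD3_c13) Lrfl Lrfl
theorem f126208 : Led Lsl_bt (LP (LK LD1_c21 LD2_c6 LD3_c44)) = (LP (LK LD1_c12 LD2_c1 LD3_c5)) :=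
  Lre_b IH (LK LD1_c21 LD2_c6 LD3_c44) (LK LD1_c12 LD2_c1 LD3_c5) Lrfl Lrfl
theorem f126209 : Led Lsl_dt (LP (LK LD1_c13 LD2_c15 LD3_c13)) = (LP (LK LD1_c21 LD2_c6 LD3_c44)) :=
  Lgr Lrot79 (Lpe (f17757 IH) (Lpr_df (K5.f126206 IH) (Lpe (f126208 IH) (Lpn (LP (LK LD1_c21 LD2_c6 LD3_c44))))))
theorem f143502 : Led Lsl_ft (LP (LK LD1_c7 LD2_c31 LD3_c1)) = (LP (LK LD1_c13 LD2_c15 LD3_c13)) :=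
  Lgr Lrot54 (Lpe (f12523 IH) (Lpr_ff (f143437 IH) (Lpe (f126209 IH) (Lpn (LP (LK LD1_c13 LD2_c15 LD3_c13))))))
theorem f12520 : Led Lsl_gt (LP (LK LD1_c7 LD2_c31 LD3_c1)) = (LP (LK LD1_c14 LD2_c11 LD3_c22)) :=
  Lre_g IH (LK LD1_c7 LD2_c31 LD3_c1) (LK LD1_c14 LD2_c11 LD3_c22) Lrfl Lrfl
theorem f86792 : Led Lsl_at (LP (LK LD1_c13 LD2_c15 LD3_c13)) = (LP (LK LD1_c22 LD2_c30 LD3_c16)) :=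
  Lre_a IH (LK LD1_c13 LD2_c15 LD3_c13) (LK LD1_c22 LD2_c30 LD3_c16) Lrfl Lrfl
theorem f143511 : Led Lsl_gt (LP (LK LD1_c14 LD2_c11 LD3_c22)) = (LP (LK LD1_c22 LD2_c30 LD3_c16)) :=
  Lgr Lrot46 (Lpe (f12520 IH) (Lpr_ft (f143502 IH) (Lpr_at (f86792 IH) (Lpn (LP (LK LD1_c22 LD2_c30 LD3_c16))))))
theorem f90808 : Led Lsl_bt (LP (LK LD1_c6 LD2_c11 LD3_c48)) = (LP (LK LD1_c3 LD2_c2 LD3_c28)) :=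
  Lre_b IH (LK LD1_c6 LD2_c11 LD3_c48) (LK LD1_c3 LD2_c2 LD3_c28) Lrfl Lrfl
theorem f57843 : Led Lsl_ct (LP (LK LD1_c6 LD2_c11 LD3_c48)) = (LP (LK LD1_c3 LD2_c3 LD3_c14)) :=
  Lre_c IH (LK LD1_c6 LD2_c11 LD3_c48) (LK LD1_c3 LD2_c3 LD3_c14) Lrfl Lrfl
theorem f86059 : Led Lsl_gt (LP (LK LD1_c6 LD2_c13 LD3_c2)) = (LP (LK LD1_c3 LD2_c3 LD3_c14)) :=
  Lre_g IH (LK LD1_c6 LD2_c13 LD3_c2) (LK LD1_c3 LD2_c3 LD3_c14) Lrfl Lrfl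
theorem f90809 : Led Lsl_ct (LP (LK LD1_c12 LD2_c5 LD3_c1)) = (LP (LK LD1_c6 LD2_c13 LD3_c2)) :=
  Lre_c IH (LK LD1_c12 LD2_c5 LD3_c1) (LK LD1_c6 LD2_c13 LD3_c2) Lrfl Lrfl
theorem f12447 : Led Lsl_bt (LP (LK LD1_c3 LD2_c45 LD3_c8)) = (LP (LK LD1_c7 LD2_c31 LD3_c1)) :=
  Lre_b IH (LK LD1_c3 LD2_c45 LD3_c8) (LK LD1_c7 LD2_c31 LD3_c1) Lrfl Lrfl
theorem f105670 : Led Lsl_bt (LP (LK LD1_c12 LD2_c5 LD3_c1)) = (LP (LK LD1_c14 LD2_c11 LD3_c22)) :=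
  Lgr Lrot92 (Lpr_ct (f90809 IH) (Lpr_gt (f86059 IH) (Lpe (f57843 IH) (Lpr_bt (f90808 IH) (Lpr_gt (f90744 IH) (Lpr_ct (f90664 IH) (Lpr_gt (K3.f105648 IH) (Lpe (K5.f12512 IH) (Lpr_bt (f12447 IH) (Lpr_gt (f12520 IH) (Lpn (LP (LK LD1_c14 LD2_c11 LD3_c22)))))))))))))
theorem f57900 : Led Lsl_gt (LP (LK LD1_c3 LD2_c22 LD3_c34)) = (LP (LK LD1_c6 LD2_c13 LD3_c2)) :=
  Lre_g IH (LK LD1_c3 LD2_c22 LD3_c34) (LK LD1_c6 LD2_c13 LD3_c2) Lrfl Lrfl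
theorem f57846 : Led Lsl_ct (LP (LK LD1_c6 LD2_c41 LD3_c45)) = (LP (LK LD1_c3 LD2_c22 LD3_c34)) :=
  Lre_c IH (LK LD1_c6 LD2_c41 LD3_c45) (LK LD1_c3 LD2_c22 LD3_c34) Lrfl Lrfl
theorem f85889 : Led Lsl_gt (LP (LK LD1_c12 LD2_c3 LD3_c26)) = (LP (LK LD1_c6 LD2_c41 LD3_c45)) :=
  Lre_g IH (LK LD1_c12 LD2_c3 LD3_c26) (LK LD1_c6 LD2_c41 LD3_c45) Lrfl Lrfl
theorem f85890 : Led Lsl_bt (LP (LK LD1_c21 LD2_c8 LD3_c49)) = (LP (LK LD1_c12 LD2_c3 LD3_c26)) :=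
  Lre_b IH (LK LD1_c21 LD2_c8 LD3_c49) (LK LD1_c12 LD2_c3 LD3_c26) Lrfl Lrfl
theorem f64522 : Led Lsl_bt (LP (LK LD1_c3 LD2_c2 LD3_c28)) = (LP (LK LD1_c6 LD2_c11 LD3_c48)) :=
  Lre_b IH (LK LD1_c3 LD2_c2 LD3_c28) (LK LD1_c6 LD2_c11 LD3_c48) Lrfl Lrfl
theorem f64523 : Led Lsl_gt (LP (LK LD1_c6 LD2_c11 LD3_c48)) = (LP (LK LD1_c12 LD2_c3 LD3_c26)) :=
  Lre_g IH (LK LD1_c6 LD2_c11 LD3_c48) (LK LD1_c12 LD2_c3 LD3_c26) Lrfl Lrfl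
theorem f133935 : Led Lsl_bt (LP (LK LD1_c12 LD2_c24 LD3_c30)) = (LP (LK LD1_c6 LD2_c26 LD3_c15)) :=
  Lre_b IH (LK LD1_c12 LD2_c24 LD3_c30) (LK LD1_c6 LD2_c26 LD3_c15) Lrfl Lrfl
theorem f133936 : Led Lsl_ct (LP (LK LD1_c12 LD2_c24 LD3_c30)) = (LP (LK LD1_c6 LD2_c26 LD3_c17)) :=
  Lre_c IH (LK LD1_c12 LD2_c24 LD3_c30) (LK LD1_c6 LD2_c26 LD3_c17) Lrfl Lrfl
theorem f143333 : Led Lsl_gt (LP (LK LD1_c12 LD2_c24 LD3_c32)) = (LP (LK LD1_c6 LD2_c26 LD3_c17)) :=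
  Lre_g IH (LK LD1_c12 LD2_c24 LD3_c32) (LK LD1_c6 LD2_c26 LD3_c17) Lrfl Lrfl
theorem f143334 : Led Lsl_ct (LP (LK LD1_c21 LD2_c8 LD3_c49)) = (LP (LK LD1_c12 LD2_c24 LD3_c32)) :=
  Lgr Lrot64 (Lpr_bt (f85890 IH) (Lpe (f64523 IH) (Lpe (f64522 IH) (Lpr_ct (K3.f64512 IH) (Lpe (K4.f113995 IH) (Lpe (K4.f114001 IH) (Lpr_gf (f143327 IH) (Lpe (f133935 IH) (Lpr_ct (f133936 IH) (Lpe (f143333 IH) (Lpn (LP (LK LD1_c12 LD2_c24 LD3_c32)))))))))))))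
theorem f114278 : Led Lsl_bt (LP (LK LD1_c6 LD2_c10 LD3_c0)) = (LP (LK LD1_c12 LD2_c0 LD3_c50)) :=
  Lre_b IH (LK LD1_c6 LD2_c10 LD3_c0) (LK LD1_c12 LD2_c0 LD3_c50) Lrfl Lrfl
theorem f114310 : Led Lsl_at (LP (LK LD1_c12 LD2_c0 LD3_c50)) = (LP (LK LD1_c21 LD2_c6 LD3_c8)) :=
  Lre_a IH (LK LD1_c12 LD2_c0 LD3_c50) (LK LD1_c21 LD2_c6 LD3_c8) Lrfl Lrfl
theorem f17754 : Led Lsl_bt (LP (LK LD1_c13 LD2_c15 LD3_c13)) = (LP (LK LD1_c6 LD2_c58 LD3_c61)) :=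
  Lre_b IH (LK LD1_c13 LD2_c15 LD3_c13) (LK LD1_c6 LD2_c58 LD3_c61) Lrfl Lrfl
theorem f86796 : Led Lsl_at (LP (LK LD1_c22 LD2_c30 LD3_c16)) = (LP (LK LD1_c13 LD2_c15 LD3_c13)) :=
  Lre_a IH (LK LD1_c22 LD2_c30 LD3_c16) (LK LD1_c13 LD2_c15 LD3_c13) Lrfl Lrfl
theorem f126280 : Led Lsl_bt (LP (LK LD1_c21 LD2_c6 LD3_c8)) = (LP (LK LD1_c22 LD2_c30 LD3_c16)) :=
  Lgr Lrot62 (Lpe (f114310 IH) (Lpe (f114278 IH) (Lpr_af (K5.f126278 IH) (Lpe (f17754 IH) (Lpe (f86796 IH) (Lpn (LP (LK LD1_c22 LD2_c30 LD3_c16))))))))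
theorem f114281 : Led Lsl_bt (LP (LK LD1_c1 LD2_c31 LD3_c41)) = (LP (LK LD1_c3 LD2_c10 LD3_c35)) :=
  Lre_b IH (LK LD1_c1 LD2_c31 LD3_c41) (LK LD1_c3 LD2_c10 LD3_c35) Lrfl Lrfl
theorem f109185 : Led Lsl_ct (LP (LK LD1_c3 LD2_c10 LD3_c39)) = (LP (LK LD1_c1 LD2_c31 LD3_c41)) :=
  Lre_c IH (LK LD1_c3 LD2_c10 LD3_c39) (LK LD1_c1 LD2_c31 LD3_c41) Lrfl Lrfl
theorem f114282 : Led Lsl_bt (LP (LK LD1_c6 LD2_c25 LD3_c46)) = (LP (LK LD1_c3 LD2_c10 LD3_c39)) :=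
  Lre_b IH (LK LD1_c6 LD2_c25 LD3_c46) (LK LD1_c3 LD2_c10 LD3_c39) Lrfl Lrfl
theorem f114283 : Led Lsl_ct (LP (LK LD1_c12 LD2_c0 LD3_c50)) = (LP (LK LD1_c6 LD2_c25 LD3_c46)) :=
  Lgr Lrot83 (Lpe (f114278 IH) (Lpr_cf (f114275 IH) (Lpe (f114281 IH) (Lpe (f109185 IH) (Lpe (f114282 IH) (Lpn (LP (LK LD1_c6 LD2_c25 LD3_c46))))))))
theorem f114298 : Led Lsl_at (LP (LK LD1_c21 LD2_c6 LD3_c8)) = (LP (LK LD1_c12 LD2_c0 LD3_c50)) :=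
  Lre_a IH (LK LD1_c21 LD2_c6 LD3_c8) (LK LD1_c12 LD2_c0 LD3_c50) Lrfl Lrfl
theorem f114299 : Led Lsl_at (LP (LK LD1_c6 LD2_c25 LD3_c46)) = (LP (LK LD1_c12 LD2_c23 LD3_c59)) :=
  Lre_a IH (LK LD1_c6 LD2_c25 LD3_c46) (LK LD1_c12 LD2_c23 LD3_c59) Lrfl Lrfl
theorem f114300 : Led Lsl_cf (LP (LK LD1_c21 LD2_c6 LD3_c8)) = (LP (LK LD1_c12 LD2_c23 LD3_c59)) :=
  Lgr Lrot1 (Lpr_at (f114298 IH) (Lpr_ct (f114283 IH) (Lpr_at (f114299 IH) (Lpn (LP (LK LD1_c12 LD2_c23 LD3_c59))))))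
theorem f114308 : Led Lsl_ct (LP (LK LD1_c21 LD2_c6 LD3_c8)) = (LP (LK LD1_c12 LD2_c23 LD3_c59)) :=
  Lgr Lrot59 (Lpr_cf (f114300 IH) (Lpn (LP (LK LD1_c12 LD2_c23 LD3_c59))))
theorem f143515 : Led Lsl_gf (LP (LK LD1_c12 LD2_c24 LD3_c32)) = (LP (LK LD1_c12 LD2_c23 LD3_c59)) :=
  Lgr Lrot126 (Lpe (f143334 IH) (Lpr_bt (f85890 IH) (Lpr_gt (f85889 IH) (Lpr_ct (f57846 IH) (Lpr_gt (f57900 IH) (Lpe (f90809 IH) (Lpr_bt (f105670 IH) (Lpr_gt (f143511 IH) (Lpe (f126280 IH) (Lpr_ct (f114308 IH) (Lpn (LP (LK LD1_c12 LD2_c23 LD3_c59)))))))))))))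
theorem f143517 : Led Lsl_at (LP (LK LD1_c12 LD2_c24 LD3_c33)) = (LP (LK LD1_c6 LD2_c26 LD3_c17)) :=
  Lre_a IH (LK LD1_c12 LD2_c24 LD3_c33) (LK LD1_c6 LD2_c26 LD3_c17) Lrfl Lrfl
theorem f143518 : Led Lsl_ff (LP (LK LD1_c12 LD2_c24 LD3_c33)) = (LP (LK LD1_c12 LD2_c23 LD3_c59)) :=
  Lgr Lrot52 (Lpr_at (f143517 IH) (Lpe (f143333 IH) (Lpr_gf (f143515 IH) (Lpn (LP (LK LD1_c12 LD2_c23 LD3_c59))))))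
theorem f143525 : Led Lsl_ft (LP (LK LD1_c12 LD2_c24 LD3_c33)) = (LP (LK LD1_c12 LD2_c23 LD3_c59)) :=
  Lgr Lrot48 (Lpr_ff (f143518 IH) (Lpn (LP (LK LD1_c12 LD2_c23 LD3_c59))))
theorem f143530 : Led Lsl_ct (LP (LK LD1_c21 LD2_c31 LD3_c20)) = (LP (LK LD1_c12 LD2_c24 LD3_c33)) :=
  Lre_c IH (LK LD1_c21 LD2_c31 LD3_c20) (LK LD1_c12 LD2_c24 LD3_c33) Lrfl Lrfl
theorem f143531 : Led Lsl_ff (LP (LK LD1_c21 LD2_c31 LD3_c20)) = (LP (LK LD1_c21 LD2_c6 LD3_c8)) :=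
  Lgr Lrot23 (Lpr_ct (f143530 IH) (Lpr_ft (f143525 IH) (Lpe (f114300 IH) (Lpn (LP (LK LD1_c21 LD2_c6 LD3_c8))))))
theorem f143535 : Led Lsl_at (LP (LK LD1_c21 LD2_c31 LD3_c20)) = (LP (LK LD1_c12 LD2_c24 LD3_c30)) :=
  Lre_a IH (LK LD1_c21 LD2_c31 LD3_c20) (LK LD1_c12 LD2_c24 LD3_c30) Lrfl Lrfl
theorem f143536 : Led Lsl_ft (LP (LK LD1_c12 LD2_c24 LD3_c30)) = (LP (LK LD1_c12 LD2_c0 LD3_c50)) :=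
  Lgr Lrot101 (Lpe (f143535 IH) (Lpr_ff (f143531 IH) (Lpe (f114310 IH) (Lpn (LP (LK LD1_c12 LD2_c0 LD3_c50))))))
theorem f88977 : Led Lsl_gt (LP (LK LD1_c12 LD2_c24 LD3_c30)) = (LP (LK LD1_c21 LD2_c31 LD3_c18)) :=
  Lre_g IH (LK LD1_c12 LD2_c24 LD3_c30) (LK LD1_c21 LD2_c31 LD3_c18) Lrfl Lrfl
theorem f143540 : Led Lsl_gt (LP (LK LD1_c21 LD2_c31 LD3_c18)) = (LP (LK LD1_c21 LD2_c6 LD3_c8)) :=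
  Lgr Lrot46 (Lpe (f88977 IH) (Lpr_ft (f143536 IH) (Lpr_at (f114310 IH) (Lpn (LP (LK LD1_c21 LD2_c6 LD3_c8))))))
theorem f84152 : Led Lsl_bt (LP (LK LD1_c12 LD2_c34 LD3_c35)) = (LP (LK LD1_c6 LD2_c41 LD3_c45)) :=
  Lre_b IH (LK LD1_c12 LD2_c34 LD3_c35) (LK LD1_c6 LD2_c41 LD3_c45) Lrfl Lrfl
theorem f85803 : Led Lsl_at (LP (LK LD1_c21 LD2_c16 LD3_c36)) = (LP (LK LD1_c12 LD2_c11 LD3_c18)) :=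
  Lre_a IH (LK LD1_c21 LD2_c16 LD3_c36) (LK LD1_c12 LD2_c11 LD3_c18) Lrfl Lrfl
theorem f58136 : Led Lsl_gt (LP (LK LD1_c21 LD2_c16 LD3_c35)) = (LP (LK LD1_c12 LD2_c11 LD3_c18)) :=
  Lre_g IH (LK LD1_c21 LD2_c16 LD3_c35) (LK LD1_c12 LD2_c11 LD3_c18) Lrfl Lrfl
theorem f85884 : Led Lsl_gt (LP (LK LD1_c17 LD2_c18 LD3_c3)) = (LP (LK LD1_c21 LD2_c16 LD3_c35)) :=
  Lgr Lrot5 (Lpr_ft (K3.f85870 IH) (Lpr_at (f85803 IH) (Lpe (f58136 IH) (Lpn (LP (LK LD1_c21 LD2_c16 LD3_c35))))))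
theorem f85811 : Led Lsl_ct (LP (LK LD1_c29 LD2_c56 LD3_c5)) = (LP (LK LD1_c21 LD2_c16 LD3_c35)) :=
  Lre_c IH (LK LD1_c29 LD2_c56 LD3_c5) (LK LD1_c21 LD2_c16 LD3_c35) Lrfl Lrfl
theorem f143542 : Led Lsl_bf (LP (LK LD1_c21 LD2_c31 LD3_c18)) = (LP (LK LD1_c29 LD2_c56 LD3_c5)) :=
  Lgr Lrot165 (Lpr_gt (f143540 IH) (Lpr_ct (f114308 IH) (Lpe (f143515 IH) (Lpe (f143334 IH) (Lpr_bt (f85890 IH) (Lpr_gt (f85889 IH) (Lpe (f84152 IH) (Lpr_ct (K3.f84153 IH) (Lpr_gt (f85884 IH) (Lpe (f85811 IH) (Lpn (LP (LK LD1_c29 LD2_c56 LD3_c5)))))))))))))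
theorem f85756 : Led Lsl_gt (LP (LK LD1_c21 LD2_c5 LD3_c55)) = (LP (LK LD1_c12 LD2_c34 LD3_c35)) :=
  Lre_g IH (LK LD1_c21 LD2_c5 LD3_c55) (LK LD1_c12 LD2_c34 LD3_c35) Lrfl Lrfl
theorem f78951 : Led Lsl_ct (LP (LK LD1_c3 LD2_c1 LD3_c36)) = (LP (LK LD1_c1 LD2_c26 LD3_c49)) :=
  Lre_c IH (LK LD1_c3 LD2_c1 LD3_c36) (LK LD1_c1 LD2_c26 LD3_c49) Lrfl Lrfl
theorem f84317 : Led Lsl_bt (LP (LK LD1_c6 LD2_c9 LD3_c54)) = (LP (LK LD1_c12 LD2_c0 LD3_c44)) :=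
  Lre_b IH (LK LD1_c6 LD2_c9 LD3_c54) (LK LD1_c12 LD2_c0 LD3_c44) Lrfl Lrfl
theorem f84318 : Led Lsl_gt (LP (LK LD1_c12 LD2_c0 LD3_c44)) = (LP (LK LD1_c21 LD2_c5 LD3_c55)) :=
  Lre_g IH (LK LD1_c12 LD2_c0 LD3_c44) (LK LD1_c21 LD2_c5 LD3_c55) Lrfl Lrfl
theorem f12513 : Led Lsl_bt (LP (LK LD1_c7 LD2_c31 LD3_c1)) = (LP (LK LD1_c3 LD2_c45 LD3_c8)) :=
  Lre_b IH (LK LD1_c7 LD2_c31 LD3_c1) (LK LD1_c3 LD2_c45 LD3_c8) Lrfl Lrfl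
theorem f12445 : Led Lsl_bt (LP (LK LD1_c7 LD2_c20 LD3_c13)) = (LP (LK LD1_c3 LD2_c40 LD3_c2)) :=
  Lre_b IH (LK LD1_c7 LD2_c20 LD3_c13) (LK LD1_c3 LD2_c40 LD3_c2) Lrfl Lrfl
theorem f12448 : Led Lsl_cf (LP (LK LD1_c7 LD2_c20 LD3_c13)) = (LP (LK LD1_c7 LD2_c31 LD3_c1)) :=
  Lgr Lrot97 (Lpr_bt (f12445 IH) (Lpr_ct (K5.f12444 IH) (Lpr_bt (K1.f12434 IH) (Lpr_ct (K5.f12446 IH) (Lpr_bt (f12447 IH) (Lpn (LP (LK LD1_c7 LD2_c31 LD3_c1))))))))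
theorem f12525 : Led Lsl_gt (LP (LK LD1_c13 LD2_c52 LD3_c36)) = (LP (LK LD1_c7 LD2_c20 LD3_c13)) :=
  Lre_g IH (LK LD1_c13 LD2_c52 LD3_c36) (LK LD1_c7 LD2_c20 LD3_c13) Lrfl Lrfl
theorem f12528 : Led Lsl_ct (LP (LK LD1_c23 LD2_c22 LD3_c37)) = (LP (LK LD1_c13 LD2_c52 LD3_c36)) :=
  Lre_c IH (LK LD1_c23 LD2_c22 LD3_c37) (LK LD1_c13 LD2_c52 LD3_c36) Lrfl Lrfl
theorem f114368 : Led Lsl_bf (LP (LK LD1_c21 LD2_c5 LD3_c55)) = (LP (LK LD1_c23 LD2_c22 LD3_c37)) :=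
  Lgr Lrot34 (Lpe (f84318 IH) (Lpe (f84317 IH) (Lpr_ct (K3.f58124 IH) (Lpe (K4.f114212 IH) (Lpe (f78951 IH) (Lpr_gf (K5.f114366 IH) (Lpe (f12513 IH) (Lpe (f12448 IH) (Lpe (f12525 IH) (Lpe (f12528 IH) (Lpn (LP (LK LD1_c23 LD2_c22 LD3_c37)))))))))))))
theorem f57907 : Led Lsl_bt (LP (LK LD1_c6 LD2_c41 LD3_c45)) = (LP (LK LD1_c12 LD2_c34 LD3_c35)) :=
  Lre_b IH (LK LD1_c6 LD2_c41 LD3_c45) (LK LD1_c12 LD2_c34 LD3_c35) Lrfl Lrfl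
theorem f17749 : Led Lsl_bf (LP (LK LD1_c3 LD2_c25 LD3_c1)) = (LP (LK LD1_c3 LD2_c28 LD3_c33)) :=
  Lgr Lrot93 (Lpr_dt (f17710 IH) (Lpr_bt (K0.f17741 IH) (Lpr_dt (K5.f17748 IH) (Lpn (LP (LK LD1_c3 LD2_c28 LD3_c33))))))
theorem f86786 : Led Lsl_bt (LP (LK LD1_c6 LD2_c9 LD3_c25)) = (LP (LK LD1_c11 LD2_c59 LD3_c50)) :=
  Lre_b IH (LK LD1_c6 LD2_c9 LD3_c25) (LK LD1_c11 LD2_c59 LD3_c50) Lrfl Lrfl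
theorem f86789 : Led Lsl_cf (LP (LK LD1_c13 LD2_c15 LD3_c13)) = (LP (LK LD1_c11 LD2_c59 LD3_c50)) :=
  Lgr Lrot97 (Lpr_bt (f17754 IH) (Lpr_ct (K5.f17753 IH) (Lpe (f17749 IH) (Lpr_ct (K5.f86782 IH) (Lpr_bt (f86786 IH) (Lpn (LP (LK LD1_c11 LD2_c59 LD3_c50))))))))
theorem f86793 : Led Lsl_at (LP (LK LD1_c21 LD2_c4 LD3_c31)) = (LP (LK LD1_c11 LD2_c59 LD3_c50)) :=
  Lre_a IH (LK LD1_c21 LD2_c4 LD3_c31) (LK LD1_c11 LD2_c59 LD3_c50) Lrfl Lrfl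
theorem f86794 : Led Lsl_ct (LP (LK LD1_c22 LD2_c30 LD3_c16)) = (LP (LK LD1_c21 LD2_c4 LD3_c31)) :=
  Lgr Lrot111 (Lpe (f86792 IH) (Lpr_cf (f86789 IH) (Lpe (f86793 IH) (Lpn (LP (LK LD1_c21 LD2_c4 LD3_c31))))))
theorem f143513 : Led Lsl_gf (LP (LK LD1_c13 LD2_c52 LD3_c36)) = (LP (LK LD1_c21 LD2_c4 LD3_c31)) :=
  Lgr Lrot129 (Lpe (f12528 IH) (Lpe (f114368 IH) (Lpr_gt (f85756 IH) (Lpe (f57907 IH) (Lpr_ct (f57846 IH) (Lpr_gt (f57900 IH) (Lpe (f90809 IH) (Lpr_bt (f105670 IH) (Lpr_gt (f143511 IH) (Lpr_ct (f86794 IH) (Lpn (LP (LK LD1_c21 LD2_c4 LD3_c31)))))))))))))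
theorem f143544 : Led Lsl_bt (LP (LK LD1_c22 LD2_c30 LD3_c16)) = (LP (LK LD1_c21 LD2_c6 LD3_c8)) :=
  Lgr Lrot92 (Lpr_ct (f86794 IH) (Lpe (f143513 IH) (Lpe (f12528 IH) (Lpe (f114368 IH) (Lpr_gt (f85756 IH) (Lpr_ct (K3.f84153 IH) (Lpr_gt (f85884 IH) (Lpe (f85811 IH) (Lpe (f143542 IH) (Lpr_gt (f143540 IH) (Lpn (LP (LK LD1_c21 LD2_c6 LD3_c8)))))))))))))
theorem f86798 : Led Lsl_cf (LP (LK LD1_c22 LD2_c30 LD3_c16)) = (LP (LK LD1_c21 LD2_c4 LD3_c31)) :=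
  Lgr Lrot11 (Lpr_ct (f86794 IH) (Lpn (LP (LK LD1_c21 LD2_c4 LD3_c31))))
theorem f114177 : Led Lsl_bt (LP (LK LD1_c6 LD2_c26 LD3_c10)) = (LP (LK LD1_c12 LD2_c24 LD3_c23)) :=
  Lre_b IH (LK LD1_c6 LD2_c26 LD3_c10) (LK LD1_c12 LD2_c24 LD3_c23) Lrfl Lrfl
theorem f134631 : Led Lsl_at (LP (LK LD1_c12 LD2_c24 LD3_c23)) = (LP (LK LD1_c21 LD2_c31 LD3_c10)) :=
  Lre_a IH (LK LD1_c12 LD2_c24 LD3_c23) (LK LD1_c21 LD2_c31 LD3_c10) Lrfl Lrfl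
theorem f86779 : Led Lsl_bt (LP (LK LD1_c11 LD2_c59 LD3_c50)) = (LP (LK LD1_c6 LD2_c9 LD3_c25)) :=
  Lre_b IH (LK LD1_c11 LD2_c59 LD3_c50) (LK LD1_c6 LD2_c9 LD3_c25) Lrfl Lrfl
theorem f134632 : Led Lsl_bt (LP (LK LD1_c21 LD2_c31 LD3_c10)) = (LP (LK LD1_c21 LD2_c4 LD3_c31)) :=
  Lgr Lrot62 (Lpe (f134631 IH) (Lpe (f114177 IH) (Lpr_af (K5.f134627 IH) (Lpe (f86779 IH) (Lpe (f86793 IH) (Lpn (LP (LK LD1_c21 LD2_c4 LD3_c31))))))))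
theorem f142861 : Led Lsl_ct (LP (LK LD1_c12 LD2_c24 LD3_c29)) = (LP (LK LD1_c21 LD2_c31 LD3_c10)) :=
  Lre_c IH (LK LD1_c12 LD2_c24 LD3_c29) (LK LD1_c21 LD2_c31 LD3_c10) Lrfl Lrfl
theorem f143546 : Led Lsl_bf (LP (LK LD1_c12 LD2_c24 LD3_c29)) = (LP (LK LD1_c12 LD2_c23 LD3_c59)) :=
  Lgr Lrot90 (Lpr_ct (f142861 IH) (Lpr_bt (f134632 IH) (Lpe (f86798 IH) (Lpr_bt (f143544 IH) (Lpr_ct (f114308 IH) (Lpn (LP (LK LD1_c12 LD2_c23 LD3_c59))))))))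
theorem f143550 : Led Lsl_bt (LP (LK LD1_c12 LD2_c24 LD3_c29)) = (LP (LK LD1_c12 LD2_c23 LD3_c59)) :=
  Lgr Lrot127 (Lpr_bf (f143546 IH) (Lpn (LP (LK LD1_c12 LD2_c23 LD3_c59))))
theorem f142888 : Led Lsl_at (LP (LK LD1_c6 LD2_c26 LD3_c14)) = (LP (LK LD1_c12 LD2_c24 LD3_c29)) :=
  Lre_a IH (LK LD1_c6 LD2_c26 LD3_c14) (LK LD1_c12 LD2_c24 LD3_c29) Lrfl Lrfl
theorem f131341 : Led Lsl_bt (LP (LK LD1_c3 LD2_c10 LD3_c59)) = (LP (LK LD1_c6 LD2_c26 LD3_c14)) :=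
  Lre_b IH (LK LD1_c3 LD2_c10 LD3_c59) (LK LD1_c6 LD2_c26 LD3_c14) Lrfl Lrfl
theorem f114302 : Led Lsl_at (LP (LK LD1_c12 LD2_c23 LD3_c59)) = (LP (LK LD1_c6 LD2_c25 LD3_c46)) :=
  Lre_a IH (LK LD1_c12 LD2_c23 LD3_c59) (LK LD1_c6 LD2_c25 LD3_c46) Lrfl Lrfl
theorem f143552 : Led Lsl_af (LP (LK LD1_c3 LD2_c10 LD3_c59)) = (LP (LK LD1_c3 LD2_c10 LD3_c39)) :=
  Lgr Lrot36 (Lpr_bt (f131341 IH) (Lpr_at (f142888 IH) (Lpr_bt (f143550 IH) (Lpr_at (f114302 IH) (Lpr_bt (f114282 IH) (Lpn (LP (LK LD1_c3 LD2_c10 LD3_c39))))))))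
theorem f108841 : Led Lsl_ct (LP (LK LD1_c3 LD2_c10 LD3_c59)) = (LP (LK LD1_c1 LD2_c31 LD3_c54)) :=
  Lre_c IH (LK LD1_c3 LD2_c10 LD3_c59) (LK LD1_c1 LD2_c31 LD3_c54) Lrfl Lrfl
theorem f114271 : Led Lsl_ct (LP (LK LD1_c1 LD2_c31 LD3_c41)) = (LP (LK LD1_c3 LD2_c10 LD3_c39)) :=
  Lre_c IH (LK LD1_c1 LD2_c31 LD3_c41) (LK LD1_c3 LD2_c10 LD3_c39) Lrfl Lrfl
theorem f143649 : Led Lsl_at (LP (LK LD1_c1 LD2_c31 LD3_c54)) = (LP (LK LD1_c1 LD2_c31 LD3_c41)) :=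
  Lgr Lrot107 (Lpe (f108841 IH) (Lpr_af (f143552 IH) (Lpe (f114271 IH) (Lpn (LP (LK LD1_c1 LD2_c31 LD3_c41))))))
theorem f79147 : Led Lsl_dt (LP (LK LD1_c0 LD2_c42 LD3_c31)) = (LP (LK LD1_c1 LD2_c31 LD3_c54)) :=
  Lre_d IH (LK LD1_c0 LD2_c42 LD3_c31) (LK LD1_c1 LD2_c31 LD3_c54) Lrfl Lrfl
theorem f82439 : Led Lsl_dt (LP (LK LD1_c1 LD2_c31 LD3_c41)) = (LP (LK LD1_c0 LD2_c42 LD3_c24)) :=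
  Lre_d IH (LK LD1_c1 LD2_c31 LD3_c41) (LK LD1_c0 LD2_c42 LD3_c24) Lrfl Lrfl
theorem f143653 : Led Lsl_af (LP (LK LD1_c0 LD2_c42 LD3_c31)) = (LP (LK LD1_c0 LD2_c42 LD3_c24)) :=
  Lgr Lrot117 (Lpr_dt (f79147 IH) (Lpr_at (f143649 IH) (Lpr_dt (f82439 IH) (Lpn (LP (LK LD1_c0 LD2_c42 LD3_c24))))))
theorem f125086 : Led Lsl_ft (LP (LK LD1_c0 LD2_c42 LD3_c31)) = (LP (LK LD1_c1 LD2_c6 LD3_c58)) :=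
  Lgr Lrot75 (Lpe (K5.f24989 IH) (Lpr_ff (K5.f125079 IH) (Lpe (K4.f124147 IH) (Lpn (LP (LK LD1_c1 LD2_c6 LD3_c58))))))
theorem f121506 : Led Lsl_ft (LP (LK LD1_c0 LD2_c42 LD3_c32)) = (LP (LK LD1_c0 LD2_c42 LD3_c24)) :=
  Lgr Lrot4 (Lpe (K3.f82463 IH) (Lpr_ff (K4.f121502 IH) (Lpe (K3.f82435 IH) (Lpn (LP (LK LD1_c0 LD2_c42 LD3_c24))))))
theorem f143655 : Led Lsl_at (LP (LK LD1_c1 LD2_c6 LD3_c58)) = (LP (LK LD1_c0 LD2_c42 LD3_c32)) :=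
  Lgr Lrot66 (Lpe (f125086 IH) (Lpr_af (f143653 IH) (Lpe (f121506 IH) (Lpn (LP (LK LD1_c0 LD2_c42 LD3_c32))))))
theorem f26131 : Led Lsl_dt (LP (LK LD1_c2 LD2_c19 LD3_c39)) = (LP (LK LD1_c1 LD2_c6 LD3_c58)) :=
  Lre_d IH (LK LD1_c2 LD2_c19 LD3_c39) (LK LD1_c1 LD2_c6 LD3_c58) Lrfl Lrfl
theorem f143657 : Led Lsl_af (LP (LK LD1_c2 LD2_c19 LD3_c39)) = (LP (LK LD1_c1 LD2_c31 LD3_c57)) :=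
  Lgr Lrot117 (Lpr_dt (f26131 IH) (Lpr_at (f143655 IH) (Lpr_dt (K5.f82462 IH) (Lpn (LP (LK LD1_c1 LD2_c31 LD3_c57))))))
theorem f114270 : Led Lsl_bt (LP (LK LD1_c3 LD2_c10 LD3_c35)) = (LP (LK LD1_c1 LD2_c31 LD3_c41)) :=
  Lre_b IH (LK LD1_c3 LD2_c10 LD3_c35) (LK LD1_c1 LD2_c31 LD3_c41) Lrfl Lrfl
theorem f126304 : Led Lsl_ft (LP (LK LD1_c1 LD2_c31 LD3_c41)) = (LP (LK LD1_c1 LD2_c31 LD3_c57)) :=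
  Lgr Lrot75 (Lpe (f114270 IH) (Lpr_ff (K5.f126302 IH) (Lpe (K5.f88982 IH) (Lpn (LP (LK LD1_c1 LD2_c31 LD3_c57))))))
theorem f143666 : Led Lsl_ft (LP (LK LD1_c2 LD2_c19 LD3_c39)) = (LP (LK LD1_c1 LD2_c31 LD3_c54)) :=
  Lgr Lrot101 (Lpr_af (f143657 IH) (Lpe (f126304 IH) (Lpe (f143649 IH) (Lpn (LP (LK LD1_c1 LD2_c31 LD3_c54))))))
theorem f143672 : Led Lsl_ff (LP (LK LD1_c2 LD2_c19 LD3_c39)) = (LP (LK LD1_c1 LD2_c31 LD3_c54)) :=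
  Lgr Lrot3 (Lpr_ft (f143666 IH) (Lpn (LP (LK LD1_c1 LD2_c31 LD3_c54))))
theorem f143663 : Led Lsl_ct (LP (LK LD1_c2 LD2_c19 LD3_c39)) = (LP (LK LD1_c4 LD2_c43 LD3_c44)) :=
  Lre_c IH (LK LD1_c2 LD2_c19 LD3_c39) (LK LD1_c4 LD2_c43 LD3_c44) Lrfl Lrfl
theorem f143676 : Led Lsl_ft (LP (LK LD1_c4 LD2_c43 LD3_c44)) = (LP (LK LD1_c3 LD2_c10 LD3_c59)) :=
  Lgr Lrot4 (Lpe (f143663 IH) (Lpr_ff (f143672 IH) (Lpe (f108841 IH) (Lpn (LP (LK LD1_c3 LD2_c10 LD3_c59))))))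
theorem f143678 : Led Lsl_bt (LP (LK LD1_c9 LD2_c20 LD3_c36)) = (LP (LK LD1_c4 LD2_c43 LD3_c44)) :=
  Lre_b IH (LK LD1_c9 LD2_c20 LD3_c36) (LK LD1_c4 LD2_c43 LD3_c44) Lrfl Lrfl
theorem f143679 : Led Lsl_ff (LP (LK LD1_c9 LD2_c20 LD3_c36)) = (LP (LK LD1_c6 LD2_c26 LD3_c14)) :=
  Lgr Lrot25 (Lpr_bt (f143678 IH) (Lpr_ft (f143676 IH) (Lpr_bt (f131341 IH) (Lpn (LP (LK LD1_c6 LD2_c26 LD3_c14))))))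
theorem f143686 : Led Lsl_ft (LP (LK LD1_c9 LD2_c20 LD3_c36)) = (LP (LK LD1_c6 LD2_c26 LD3_c14)) :=
  Lgr Lrot48 (Lpr_ff (f143679 IH) (Lpn (LP (LK LD1_c6 LD2_c26 LD3_c14))))
theorem f133720 : Led Lsl_ct (LP (LK LD1_c6 LD2_c26 LD3_c14)) = (LP (LK LD1_c12 LD2_c24 LD3_c23)) :=
  Lre_c IH (LK LD1_c6 LD2_c26 LD3_c14) (LK LD1_c12 LD2_c24 LD3_c23) Lrfl Lrfl
theorem f134645 : Led Lsl_bt (LP (LK LD1_c7 LD2_c25 LD3_c47)) = (LP (LK LD1_c3 LD2_c42 LD3_c35)) :=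
  Lre_b IH (LK LD1_c7 LD2_c25 LD3_c47) (LK LD1_c3 LD2_c42 LD3_c35) Lrfl Lrfl
theorem f134646 : Led Lsl_ft (LP (LK LD1_c12 LD2_c24 LD3_c23)) = (LP (LK LD1_c7 LD2_c25 LD3_c47)) :=
  Lgr Lrot75 (Lpe (f114177 IH) (Lpr_ff (K5.f134643 IH) (Lpe (f134645 IH) (Lpn (LP (LK LD1_c7 LD2_c25 LD3_c47))))))
theorem f143695 : Led Lsl_cf (LP (LK LD1_c9 LD2_c20 LD3_c36)) = (LP (LK LD1_c7 LD2_c25 LD3_c47)) :=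
  Lgr Lrot108 (Lpr_ft (f143686 IH) (Lpr_ct (f133720 IH) (Lpr_ft (f134646 IH) (Lpn (LP (LK LD1_c7 LD2_c25 LD3_c47))))))
theorem f143681 : Led Lsl_at (LP (LK LD1_c9 LD2_c20 LD3_c36)) = (LP (LK LD1_c17 LD2_c16 LD3_c34)) :=
  Lre_a IH (LK LD1_c9 LD2_c20 LD3_c36) (LK LD1_c17 LD2_c16 LD3_c34) Lrfl Lrfl
theorem f142876 : Led Lsl_at (LP (LK LD1_c14 LD2_c2 LD3_c50)) = (LP (LK LD1_c7 LD2_c25 LD3_c47)) :=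
  Lre_a IH (LK LD1_c14 LD2_c2 LD3_c50) (LK LD1_c7 LD2_c25 LD3_c47) Lrfl Lrfl
theorem f143700 : Led Lsl_ct (LP (LK LD1_c17 LD2_c16 LD3_c34)) = (LP (LK LD1_c14 LD2_c2 LD3_c50)) :=
  Lgr Lrot111 (Lpe (f143681 IH) (Lpr_cf (f143695 IH) (Lpe (f142876 IH) (Lpn (LP (LK LD1_c14 LD2_c2 LD3_c50))))))
theorem f143705 : Led Lsl_cf (LP (LK LD1_c17 LD2_c16 LD3_c34)) = (LP (LK LD1_c14 LD2_c2 LD3_c50)) :=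
  Lgr Lrot11 (Lpr_ct (f143700 IH) (Lpn (LP (LK LD1_c14 LD2_c2 LD3_c50))))
theorem f142862 : Led Lsl_ct (LP (LK LD1_c21 LD2_c31 LD3_c10)) = (LP (LK LD1_c12 LD2_c24 LD3_c29)) :=
  Lre_c IH (LK LD1_c21 LD2_c31 LD3_c10) (LK LD1_c12 LD2_c24 LD3_c29) Lrfl Lrfl
theorem f143554 : Led Lsl_bf (LP (LK LD1_c21 LD2_c31 LD3_c10)) = (LP (LK LD1_c21 LD2_c4 LD3_c31)) :=
  Lgr Lrot90 (Lpr_ct (f142862 IH) (Lpr_bt (f143550 IH) (Lpe (f114300 IH) (Lpr_bt (f126280 IH) (Lpr_ct (f86794 IH) (Lpn (LP (LK LD1_c21 LD2_c4 LD3_c31))))))))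
theorem f142833 : Led Lsl_bt (LP (LK LD1_c13 LD2_c53 LD3_c49)) = (LP (LK LD1_c7 LD2_c20 LD3_c59)) :=
  Lre_b IH (LK LD1_c13 LD2_c53 LD3_c49) (LK LD1_c7 LD2_c20 LD3_c59) Lrfl Lrfl
theorem f142834 : Led Lsl_dt (LP (LK LD1_c12 LD2_c24 LD3_c23)) = (LP (LK LD1_c13 LD2_c53 LD3_c49)) :=
  Lgr Lrot79 (Lpe (f114177 IH) (Lpr_df (f142825 IH) (Lpe (f142833 IH) (Lpn (LP (LK LD1_c13 LD2_c53 LD3_c49))))))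
theorem f142842 : Led Lsl_df (LP (LK LD1_c12 LD2_c24 LD3_c23)) = (LP (LK LD1_c13 LD2_c53 LD3_c49)) :=
  Lgr Lrot38 (Lpr_dt (f142834 IH) (Lpn (LP (LK LD1_c13 LD2_c53 LD3_c49))))
theorem f142852 : Led Lsl_dt (LP (LK LD1_c7 LD2_c25 LD3_c47)) = (LP (LK LD1_c14 LD2_c2 LD3_c51)) :=
  Lre_d IH (LK LD1_c7 LD2_c25 LD3_c47) (LK LD1_c14 LD2_c2 LD3_c51) Lrfl Lrfl
theorem f142853 : Led Lsl_ft (LP (LK LD1_c14 LD2_c2 LD3_c51)) = (LP (LK LD1_c13 LD2_c53 LD3_c49)) :=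
  Lgr Lrot54 (Lpe (f142852 IH) (Lpe (f134646 IH) (Lpr_df (f142842 IH) (Lpn (LP (LK LD1_c13 LD2_c53 LD3_c49))))))
theorem f142856 : Led Lsl_at (LP (LK LD1_c23 LD2_c35 LD3_c56)) = (LP (LK LD1_c14 LD2_c2 LD3_c51)) :=
  Lre_a IH (LK LD1_c23 LD2_c35 LD3_c56) (LK LD1_c14 LD2_c2 LD3_c51) Lrfl Lrfl
theorem f142839 : Led Lsl_at (LP (LK LD1_c13 LD2_c53 LD3_c49)) = (LP (LK LD1_c23 LD2_c23 LD3_c60)) :=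
  Lre_a IH (LK LD1_c13 LD2_c53 LD3_c49) (LK LD1_c23 LD2_c23 LD3_c60) Lrfl Lrfl
theorem f142857 : Led Lsl_ff (LP (LK LD1_c23 LD2_c35 LD3_c56)) = (LP (LK LD1_c23 LD2_c23 LD3_c60)) :=
  Lgr Lrot30 (Lpr_at (f142856 IH) (Lpr_ft (f142853 IH) (Lpr_at (f142839 IH) (Lpn (LP (LK LD1_c23 LD2_c23 LD3_c60))))))
theorem f142867 : Led Lsl_ft (LP (LK LD1_c23 LD2_c35 LD3_c56)) = (LP (LK LD1_c23 LD2_c23 LD3_c60)) :=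
  Lgr Lrot48 (Lpr_ff (f142857 IH) (Lpn (LP (LK LD1_c23 LD2_c23 LD3_c60))))
theorem f142871 : Led Lsl_dt (LP (LK LD1_c14 LD2_c2 LD3_c50)) = (LP (LK LD1_c23 LD2_c35 LD3_c56)) :=
  Lre_d IH (LK LD1_c14 LD2_c2 LD3_c50) (LK LD1_c23 LD2_c35 LD3_c56) Lrfl Lrfl
theorem f142838 : Led Lsl_at (LP (LK LD1_c21 LD2_c31 LD3_c10)) = (LP (LK LD1_c12 LD2_c24 LD3_c23)) :=
  Lre_a IH (LK LD1_c21 LD2_c31 LD3_c10) (LK LD1_c12 LD2_c24 LD3_c23) Lrfl Lrfl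
theorem f142840 : Led Lsl_df (LP (LK LD1_c21 LD2_c31 LD3_c10)) = (LP (LK LD1_c23 LD2_c23 LD3_c60)) :=
  Lgr Lrot18 (Lpr_at (f142838 IH) (Lpr_dt (f142834 IH) (Lpr_at (f142839 IH) (Lpn (LP (LK LD1_c23 LD2_c23 LD3_c60))))))
theorem f142872 : Led Lsl_ff (LP (LK LD1_c14 LD2_c2 LD3_c50)) = (LP (LK LD1_c21 LD2_c31 LD3_c10)) :=
  Lgr Lrot19 (Lpr_dt (f142871 IH) (Lpr_ft (f142867 IH) (Lpe (f142840 IH) (Lpn (LP (LK LD1_c21 LD2_c31 LD3_c10))))))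
theorem f12507 : Led Lsl_at (LP (LK LD1_c13 LD2_c52 LD3_c37)) = (LP (LK LD1_c7 LD2_c20 LD3_c13)) :=
  Lre_a IH (LK LD1_c13 LD2_c52 LD3_c37) (LK LD1_c7 LD2_c20 LD3_c13) Lrfl Lrfl
theorem f124245 : Led Lsl_bt (LP (LK LD1_c3 LD2_c42 LD3_c35)) = (LP (LK LD1_c7 LD2_c25 LD3_c47)) :=
  Lre_b IH (LK LD1_c3 LD2_c42 LD3_c35) (LK LD1_c7 LD2_c25 LD3_c47) Lrfl Lrfl
theorem f134613 : Led Lsl_at (LP (LK LD1_c7 LD2_c25 LD3_c47)) = (LP (LK LD1_c14 LD2_c2 LD3_c50)) :=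
  Lre_a IH (LK LD1_c7 LD2_c25 LD3_c47) (LK LD1_c14 LD2_c2 LD3_c50) Lrfl Lrfl
theorem f134614 : Led Lsl_bf (LP (LK LD1_c13 LD2_c52 LD3_c37)) = (LP (LK LD1_c14 LD2_c2 LD3_c50)) :=
  Lgr Lrot81 (Lpr_at (f12507 IH) (Lpr_bt (f12445 IH) (Lpr_at (K5.f134609 IH) (Lpr_bt (f124245 IH) (Lpr_at (f134613 IH) (Lpn (LP (LK LD1_c14 LD2_c2 LD3_c50))))))))
theorem f143558 : Led Lsl_ft (LP (LK LD1_c13 LD2_c52 LD3_c37)) = (LP (LK LD1_c21 LD2_c4 LD3_c31)) :=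
  Lgr Lrot75 (Lpr_bf (f134614 IH) (Lpr_ff (f142872 IH) (Lpr_bf (f143554 IH) (Lpn (LP (LK LD1_c21 LD2_c4 LD3_c31))))))
theorem f143564 : Led Lsl_ff (LP (LK LD1_c13 LD2_c52 LD3_c37)) = (LP (LK LD1_c21 LD2_c4 LD3_c31)) :=
  Lgr Lrot3 (Lpr_ft (f143558 IH) (Lpn (LP (LK LD1_c21 LD2_c4 LD3_c31))))
theorem f142864 : Led Lsl_dt (LP (LK LD1_c23 LD2_c35 LD3_c56)) = (LP (LK LD1_c14 LD2_c2 LD3_c50)) :=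
  Lre_d IH (LK LD1_c23 LD2_c35 LD3_c56) (LK LD1_c14 LD2_c2 LD3_c50) Lrfl Lrfl
theorem f142848 : Led Lsl_at (LP (LK LD1_c23 LD2_c23 LD3_c60)) = (LP (LK LD1_c13 LD2_c53 LD3_c49)) :=
  Lre_a IH (LK LD1_c23 LD2_c23 LD3_c60) (LK LD1_c13 LD2_c53 LD3_c49) Lrfl Lrfl
theorem f142849 : Led Lsl_dt (LP (LK LD1_c21 LD2_c31 LD3_c10)) = (LP (LK LD1_c23 LD2_c23 LD3_c60)) :=
  Lgr Lrot44 (Lpe (f134631 IH) (Lpr_df (f142842 IH) (Lpe (f142848 IH) (Lpn (LP (LK LD1_c23 LD2_c23 LD3_c60))))))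
theorem f142865 : Led Lsl_ft (LP (LK LD1_c14 LD2_c2 LD3_c50)) = (LP (LK LD1_c21 LD2_c31 LD3_c10)) :=
  Lgr Lrot54 (Lpe (f142864 IH) (Lpr_ff (f142857 IH) (Lpe (f142849 IH) (Lpn (LP (LK LD1_c21 LD2_c31 LD3_c10))))))
theorem f143581 : Led Lsl_bt (LP (LK LD1_c13 LD2_c52 LD3_c37)) = (LP (LK LD1_c14 LD2_c2 LD3_c50)) :=
  Lgr Lrot35 (Lpr_ff (f143564 IH) (Lpe (f134632 IH) (Lpe (f142865 IH) (Lpn (LP (LK LD1_c14 LD2_c2 LD3_c50))))))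
theorem f12458 : Led Lsl_ct (LP (LK LD1_c3 LD2_c39 LD3_c58)) = (LP (LK LD1_c7 LD2_c20 LD3_c5)) :=
  Lre_c IH (LK LD1_c3 LD2_c39 LD3_c58) (LK LD1_c7 LD2_c20 LD3_c5) Lrfl Lrfl
theorem f12459 : Led Lsl_bt (LP (LK LD1_c7 LD2_c20 LD3_c5)) = (LP (LK LD1_c13 LD2_c52 LD3_c25)) :=
  Lre_b IH (LK LD1_c7 LD2_c20 LD3_c5) (LK LD1_c13 LD2_c52 LD3_c25) Lrfl Lrfl
theorem f12460 : Led Lsl_ct (LP (LK LD1_c7 LD2_c31 LD3_c0)) = (LP (LK LD1_c3 LD2_c45 LD3_c7)) :=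
  Lre_c IH (LK LD1_c7 LD2_c31 LD3_c0) (LK LD1_c3 LD2_c45 LD3_c7) Lrfl Lrfl
theorem f12461 : Led Lsl_bt (LP (LK LD1_c14 LD2_c11 LD3_c21)) = (LP (LK LD1_c7 LD2_c31 LD3_c0)) :=
  Lre_b IH (LK LD1_c14 LD2_c11 LD3_c21) (LK LD1_c7 LD2_c31 LD3_c0) Lrfl Lrfl
theorem f12462 : Led Lsl_ct (LP (LK LD1_c13 LD2_c52 LD3_c25)) = (LP (LK LD1_c14 LD2_c11 LD3_c21)) :=
  Lgr Lrot83 (Lpe (f12459 IH) (Lpe (f12458 IH) (Lpr_bf (K1.f12452 IH) (Lpe (f12460 IH) (Lpe (f12461 IH) (Lpn (LP (LK LD1_c14 LD2_c11 LD3_c21))))))))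
theorem f12491 : Led Lsl_cf (LP (LK LD1_c13 LD2_c52 LD3_c25)) = (LP (LK LD1_c14 LD2_c11 LD3_c21)) :=
  Lgr Lrot11 (Lpr_ct (f12462 IH) (Lpn (LP (LK LD1_c14 LD2_c11 LD3_c21))))
theorem f12503 : Led Lsl_et (LP (LK LD1_c13 LD2_c52 LD3_c25)) = (LP (LK LD1_c7 LD2_c20 LD3_c13)) :=
  Lre_e IH (LK LD1_c13 LD2_c52 LD3_c25) (LK LD1_c7 LD2_c20 LD3_c13) Lrfl Lrfl
theorem f12504 : Led Lsl_et (LP (LK LD1_c7 LD2_c31 LD3_c1)) = (LP (LK LD1_c14 LD2_c11 LD3_c21)) :=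
  Lre_e IH (LK LD1_c7 LD2_c31 LD3_c1) (LK LD1_c14 LD2_c11 LD3_c21) Lrfl Lrfl
theorem f12505 : Led Lsl_ct (LP (LK LD1_c7 LD2_c20 LD3_c13)) = (LP (LK LD1_c7 LD2_c31 LD3_c1)) :=
  Lgr Lrot15 (Lpe (f12503 IH) (Lpr_cf (f12491 IH) (Lpe (f12504 IH) (Lpn (LP (LK LD1_c7 LD2_c31 LD3_c1))))))
theorem f12508 : Led Lsl_at (LP (LK LD1_c7 LD2_c31 LD3_c1)) = (LP (LK LD1_c14 LD2_c11 LD3_c24)) :=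
  Lre_a IH (LK LD1_c7 LD2_c31 LD3_c1) (LK LD1_c14 LD2_c11 LD3_c24) Lrfl Lrfl
theorem f12509 : Led Lsl_cf (LP (LK LD1_c13 LD2_c52 LD3_c37)) = (LP (LK LD1_c14 LD2_c11 LD3_c24)) :=
  Lgr Lrot1 (Lpr_at (f12507 IH) (Lpr_ct (f12505 IH) (Lpr_at (f12508 IH) (Lpn (LP (LK LD1_c14 LD2_c11 LD3_c24))))))
theorem f12535 : Led Lsl_ct (LP (LK LD1_c13 LD2_c52 LD3_c37)) = (LP (LK LD1_c14 LD2_c11 LD3_c24)) :=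
  Lgr Lrot59 (Lpr_cf (f12509 IH) (Lpn (LP (LK LD1_c14 LD2_c11 LD3_c24))))
theorem f143583 : Led Lsl_ft (LP (LK LD1_c14 LD2_c11 LD3_c24)) = (LP (LK LD1_c22 LD2_c30 LD3_c16)) :=
  Lgr Lrot4 (Lpe (f12535 IH) (Lpr_ff (f143564 IH) (Lpe (f86794 IH) (Lpn (LP (LK LD1_c22 LD2_c30 LD3_c16))))))
theorem f143628 : Led Lsl_bf (LP (LK LD1_c14 LD2_c11 LD3_c24)) = (LP (LK LD1_c21 LD2_c31 LD3_c20)) :=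
  Lgr Lrot61 (Lpr_ft (f143583 IH) (Lpr_bt (f143544 IH) (Lpe (f143531 IH) (Lpn (LP (LK LD1_c21 LD2_c31 LD3_c20))))))
theorem f143522 : Led Lsl_ct (LP (LK LD1_c12 LD2_c24 LD3_c33)) = (LP (LK LD1_c21 LD2_c31 LD3_c20)) :=
  Lre_c IH (LK LD1_c12 LD2_c24 LD3_c33) (LK LD1_c21 LD2_c31 LD3_c20) Lrfl Lrfl
theorem f143707 : Led Lsl_bt (LP (LK LD1_c17 LD2_c16 LD3_c34)) = (LP (LK LD1_c12 LD2_c24 LD3_c33)) :=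
  Lgr Lrot128 (Lpr_cf (f143705 IH) (Lpe (f143581 IH) (Lpr_cf (f12509 IH) (Lpr_bf (f143628 IH) (Lpe (f143522 IH) (Lpn (LP (LK LD1_c12 LD2_c24 LD3_c33))))))))
theorem f143694 : Led Lsl_bt (LP (LK LD1_c4 LD2_c43 LD3_c44)) = (LP (LK LD1_c9 LD2_c20 LD3_c36)) :=
  Lre_b IH (LK LD1_c4 LD2_c43 LD3_c44) (LK LD1_c9 LD2_c20 LD3_c36) Lrfl Lrfl
theorem f131329 : Led Lsl_bt (LP (LK LD1_c6 LD2_c26 LD3_c17)) = (LP (LK LD1_c3 LD2_c11 LD3_c0)) :=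
  Lre_b IH (LK LD1_c6 LD2_c26 LD3_c17) (LK LD1_c3 LD2_c11 LD3_c0) Lrfl Lrfl
theorem f143709 : Led Lsl_af (LP (LK LD1_c4 LD2_c43 LD3_c44)) = (LP (LK LD1_c3 LD2_c11 LD3_c0)) :=
  Lgr Lrot36 (Lpr_bt (f143694 IH) (Lpr_at (f143681 IH) (Lpr_bt (f143707 IH) (Lpr_at (f143517 IH) (Lpr_bt (f131329 IH) (Lpn (LP (LK LD1_c3 LD2_c11 LD3_c0))))))))
theorem f142855 : Led Lsl_at (LP (LK LD1_c12 LD2_c24 LD3_c29)) = (LP (LK LD1_c6 LD2_c26 LD3_c14)) :=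
  Lre_a IH (LK LD1_c12 LD2_c24 LD3_c29) (LK LD1_c6 LD2_c26 LD3_c14) Lrfl Lrfl
theorem f133719 : Led Lsl_bt (LP (LK LD1_c6 LD2_c26 LD3_c14)) = (LP (LK LD1_c3 LD2_c10 LD3_c59)) :=
  Lre_b IH (LK LD1_c6 LD2_c26 LD3_c14) (LK LD1_c3 LD2_c10 LD3_c59) Lrfl Lrfl
theorem f114272 : Led Lsl_bt (LP (LK LD1_c3 LD2_c10 LD3_c39)) = (LP (LK LD1_c6 LD2_c25 LD3_c46)) :=
  Lre_b IH (LK LD1_c3 LD2_c10 LD3_c39) (LK LD1_c6 LD2_c25 LD3_c46) Lrfl Lrfl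
theorem f143548 : Led Lsl_at (LP (LK LD1_c3 LD2_c10 LD3_c59)) = (LP (LK LD1_c3 LD2_c10 LD3_c39)) :=
  Lgr Lrot67 (Lpe (f133719 IH) (Lpe (f142855 IH) (Lpr_bf (f143546 IH) (Lpe (f114299 IH) (Lpe (f114272 IH) (Lpn (LP (LK LD1_c3 LD2_c10 LD3_c39))))))))
theorem f143711 : Led Lsl_ft (LP (LK LD1_c3 LD2_c10 LD3_c39)) = (LP (LK LD1_c3 LD2_c11 LD3_c0)) :=
  Lgr Lrot101 (Lpe (f143548 IH) (Lpe (f143676 IH) (Lpr_af (f143709 IH) (Lpn (LP (LK LD1_c3 LD2_c11 LD3_c0))))))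
theorem f114306 : Led Lsl_gt (LP (LK LD1_c3 LD2_c10 LD3_c39)) = (LP (LK LD1_c6 LD2_c25 LD3_c45)) :=
  Lre_g IH (LK LD1_c3 LD2_c10 LD3_c39) (LK LD1_c6 LD2_c25 LD3_c45) Lrfl Lrfl
theorem f143713 : Led Lsl_gf (LP (LK LD1_c4 LD2_c43 LD3_c44)) = (LP (LK LD1_c6 LD2_c25 LD3_c45)) :=
  Lgr Lrot76 (Lpr_af (f143709 IH) (Lpe (f143711 IH) (Lpr_gt (f114306 IH) (Lpn (LP (LK LD1_c6 LD2_c25 LD3_c45))))))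
theorem f143661 : Led Lsl_bt (LP (LK LD1_c2 LD2_c19 LD3_c39)) = (LP (LK LD1_c1 LD2_c48 LD3_c17)) :=
  Lgr Lrot62 (Lpr_af (f143657 IH) (Lpe (K5.f114393 IH) (Lpe (K5.f126298 IH) (Lpe (K1.f12434 IH) (Lpr_af (K5.f134595 IH) (Lpn (LP (LK LD1_c1 LD2_c48 LD3_c17))))))))
theorem f120906 : Led Lsl_gt (LP (LK LD1_c1 LD2_c48 LD3_c17)) = (LP (LK LD1_c3 LD2_c42 LD3_c33)) :=
  Lre_g IH (LK LD1_c1 LD2_c48 LD3_c17) (LK LD1_c3 LD2_c42 LD3_c33) Lrfl Lrfl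
theorem f121514 : Led Lsl_ct (LP (LK LD1_c4 LD2_c43 LD3_c44)) = (LP (LK LD1_c2 LD2_c19 LD3_c39)) :=
  Lre_c IH (LK LD1_c4 LD2_c43 LD3_c44) (LK LD1_c2 LD2_c19 LD3_c39) Lrfl Lrfl
theorem f26125 : Led Lsl_ct (LP (LK LD1_c2 LD2_c19 LD3_c38)) = (LP (LK LD1_c1 LD2_c6 LD3_c58)) :=
  Lre_c IH (LK LD1_c2 LD2_c19 LD3_c38) (LK LD1_c1 LD2_c6 LD3_c58) Lrfl Lrfl
theorem f125392 : Led Lsl_cf (LP (LK LD1_c1 LD2_c35 LD3_c53)) = (LP (LK LD1_c3 LD2_c7 LD3_c4)) :=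
  Lgr Lrot11 (Lpr_ct (K5.f125388 IH) (Lpn (LP (LK LD1_c3 LD2_c7 LD3_c4))))
theorem f25028 : Led Lsl_dt (LP (LK LD1_c1 LD2_c29 LD3_c44)) = (LP (LK LD1_c3 LD2_c7 LD3_c5)) :=
  Lre_d IH (LK LD1_c1 LD2_c29 LD3_c44) (LK LD1_c3 LD2_c7 LD3_c5) Lrfl Lrfl
theorem f113378 : Led Lsl_gt (LP (LK LD1_c3 LD2_c7 LD3_c5)) = (LP (LK LD1_c6 LD2_c19 LD3_c17)) :=
  Lre_g IH (LK LD1_c3 LD2_c7 LD3_c5) (LK LD1_c6 LD2_c19 LD3_c17) Lrfl Lrfl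
theorem f143715 : Led Lsl_ct (LP (LK LD1_c6 LD2_c19 LD3_c17)) = (LP (LK LD1_c6 LD2_c25 LD3_c45)) :=
  Lgr Lrot152 (Lpe (f113378 IH) (Lpe (f25028 IH) (Lpr_gt (K5.f62644 IH) (Lpe (f125392 IH) (Lpe (K4.f121512 IH) (Lpr_ct (f26125 IH) (Lpe (f26131 IH) (Lpe (f121514 IH) (Lpr_gf (f143713 IH) (Lpn (LP (LK LD1_c6 LD2_c25 LD3_c45))))))))))))
theorem f113393 : Led Lsl_bt (LP (LK LD1_c6 LD2_c19 LD3_c16)) = (LP (LK LD1_c3 LD2_c7 LD3_c5)) :=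
  Lre_b IH (LK LD1_c6 LD2_c19 LD3_c16) (LK LD1_c3 LD2_c7 LD3_c5) Lrfl Lrfl
theorem f143718 : Led Lsl_bf (LP (LK LD1_c3 LD2_c42 LD3_c33)) = (LP (LK LD1_c3 LD2_c6 LD3_c22)) :=
  Lgr Lrot34 (Lpe (f120906 IH) (Lpe (f143661 IH) (Lpr_ct (f143663 IH) (Lpr_gf (f143713 IH) (Lpe (f143715 IH) (Lpe (f113378 IH) (Lpe (f113393 IH) (Lpe (K5.f125418 IH) (Lpe (K5.f78169 IH) (Lpe (K5.f61752 IH) (Lpn (LP (LK LD1_c3 LD2_c6 LD3_c22)))))))))))))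
theorem f84099 : Led Lsl_bt (LP (LK LD1_c0 LD2_c45 LD3_c6)) = (LP (LK LD1_c1 LD2_c37 LD3_c28)) :=
  Lre_b IH (LK LD1_c0 LD2_c45 LD3_c6) (LK LD1_c1 LD2_c37 LD3_c28) Lrfl Lrfl
theorem f134059 : Led Lsl_gt (LP (LK LD1_c3 LD2_c1 LD3_c14)) = (LP (LK LD1_c1 LD2_c37 LD3_c28)) :=
  Lgr Lrot164 (Lpe (K5.f125351 IH) (Lpr_ct (K5.f62647 IH) (Lpr_gf (K5.f134046 IH) (Lpe (K5.f67671 IH) (Lpe (K4.f67412 IH) (Lpe (f67411 IH) (Lpr_ct (K2.f67360 IH) (Lpe (f84089 IH) (Lpe (f25626 IH) (Lpr_bt (f84099 IH) (Lpn (LP (LK LD1_c1 LD2_c37 LD3_c28)))))))))))))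
theorem f61232 : Led Lsl_bf (LP (LK LD1_c2 LD2_c17 LD3_c59)) = (LP (LK LD1_c3 LD2_c5 LD3_c51)) :=
  Lgr Lrot24 (Lpr_bt (K4.f61230 IH) (Lpn (LP (LK LD1_c3 LD2_c5 LD3_c51))))
theorem f79391 : Led Lsl_bf (LP (LK LD1_c6 LD2_c17 LD3_c18)) = (LP (LK LD1_c3 LD2_c11 LD3_c50)) :=
  Lgr Lrot93 (Lpr_dt (K4.f61239 IH) (Lpe (f61232 IH) (Lpr_dt (K4.f79385 IH) (Lpn (LP (LK LD1_c3 LD2_c11 LD3_c50))))))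
theorem f25638 : Led Lsl_gt (LP (LK LD1_c3 LD2_c22 LD3_c23)) = (LP (LK LD1_c6 LD2_c48 LD3_c28)) :=
  Lre_g IH (LK LD1_c3 LD2_c22 LD3_c23) (LK LD1_c6 LD2_c48 LD3_c28) Lrfl Lrfl
theorem f134063 : Led Lsl_ct (LP (LK LD1_c4 LD2_c43 LD3_c59)) = (LP (LK LD1_c6 LD2_c48 LD3_c28)) :=
  Lgr Lrot63 (Lpe (K2.f23510 IH) (Lpe (K4.f120019 IH) (Lpr_bf (f79391 IH) (Lpr_ct (K5.f67671 IH) (Lpe (K5.f134046 IH) (Lpe (K5.f62647 IH) (Lpr_bt (K5.f125351 IH) (Lpr_gt (f134059 IH) (Lpr_ct (K5.f25637 IH) (Lpr_gt (f25638 IH) (Lpn (LP (LK LD1_c6 LD2_c48 LD3_c28)))))))))))))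
theorem f134073 : Led Lsl_cf (LP (LK LD1_c4 LD2_c43 LD3_c59)) = (LP (LK LD1_c6 LD2_c48 LD3_c28)) :=
  Lgr Lrot11 (Lpr_ct (f134063 IH) (Lpn (LP (LK LD1_c6 LD2_c48 LD3_c28))))
theorem f24353 : Led Lsl_ct (LP (LK LD1_c3 LD2_c11 LD3_c61)) = (LP (LK LD1_c6 LD2_c28 LD3_c9)) :=
  Lre_c IH (LK LD1_c3 LD2_c11 LD3_c61) (LK LD1_c6 LD2_c28 LD3_c9) Lrfl Lrfl
theorem f134076 : Led Lsl_at (LP (LK LD1_c6 LD2_c28 LD3_c9)) = (LP (LK LD1_c6 LD2_c48 LD3_c28)) :=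
  Lgr Lrot107 (Lpe (f24353 IH) (Lpr_af (K3.f107482 IH) (Lpr_cf (f134073 IH) (Lpn (LP (LK LD1_c6 LD2_c48 LD3_c28))))))
theorem f134110 : Led Lsl_ff (LP (LK LD1_c6 LD2_c28 LD3_c9)) = (LP (LK LD1_c6 LD2_c19 LD3_c15)) :=
  Lgr Lrot52 (Lpr_at (f134076 IH) (Lpe (f25638 IH) (Lpr_gf (K5.f126919 IH) (Lpn (LP (LK LD1_c6 LD2_c19 LD3_c15))))))
theorem f134112 : Led Lsl_ft (LP (LK LD1_c6 LD2_c28 LD3_c9)) = (LP (LK LD1_c6 LD2_c19 LD3_c15)) :=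
  Lgr Lrot48 (Lpr_ff (f134110 IH) (Lpn (LP (LK LD1_c6 LD2_c19 LD3_c15))))
theorem f62623 : Led Lsl_ct (LP (LK LD1_c6 LD2_c19 LD3_c15)) = (LP (LK LD1_c3 LD2_c7 LD3_c2)) :=
  Lre_c IH (LK LD1_c6 LD2_c19 LD3_c15) (LK LD1_c3 LD2_c7 LD3_c2) Lrfl Lrfl
theorem f134114 : Led Lsl_ff (LP (LK LD1_c3 LD2_c11 LD3_c61)) = (LP (LK LD1_c3 LD2_c7 LD3_c2)) :=
  Lgr Lrot23 (Lpr_ct (f24353 IH) (Lpr_ft (f134112 IH) (Lpr_ct (f62623 IH) (Lpn (LP (LK LD1_c3 LD2_c7 LD3_c2))))))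
theorem f107485 : Led Lsl_at (LP (LK LD1_c3 LD2_c11 LD3_c61)) = (LP (LK LD1_c4 LD2_c43 LD3_c59)) :=
  Lgr Lrot100 (Lpr_af (K3.f107482 IH) (Lpn (LP (LK LD1_c4 LD2_c43 LD3_c59))))
theorem f25044 : Led Lsl_gt (LP (LK LD1_c3 LD2_c7 LD3_c2)) = (LP (LK LD1_c6 LD2_c19 LD3_c14)) :=
  Lre_g IH (LK LD1_c3 LD2_c7 LD3_c2) (LK LD1_c6 LD2_c19 LD3_c14) Lrfl Lrfl
theorem f134117 : Led Lsl_gf (LP (LK LD1_c4 LD2_c43 LD3_c59)) = (LP (LK LD1_c6 LD2_c19 LD3_c14)) :=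
  Lgr Lrot76 (Lpe (f107485 IH) (Lpr_ff (f134114 IH) (Lpr_gt (f25044 IH) (Lpn (LP (LK LD1_c6 LD2_c19 LD3_c14))))))
theorem f23545 : Led Lsl_dt (LP (LK LD1_c4 LD2_c43 LD3_c59)) = (LP (LK LD1_c2 LD2_c19 LD3_c54)) :=
  Lre_d IH (LK LD1_c4 LD2_c43 LD3_c59) (LK LD1_c2 LD2_c19 LD3_c54) Lrfl Lrfl
theorem f88769 : Led Lsl_dt (LP (LK LD1_c1 LD2_c53 LD3_c24)) = (LP (LK LD1_c3 LD2_c53 LD3_c35)) :=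
  Lre_d IH (LK LD1_c1 LD2_c53 LD3_c24) (LK LD1_c3 LD2_c53 LD3_c35) Lrfl Lrfl
theorem f90203 : Led Lsl_ct (LP (LK LD1_c7 LD2_c48 LD3_c45)) = (LP (LK LD1_c3 LD2_c53 LD3_c35)) :=
  Lre_c IH (LK LD1_c7 LD2_c48 LD3_c45) (LK LD1_c3 LD2_c53 LD3_c35) Lrfl Lrfl
theorem f24375 : Led Lsl_gt (LP (LK LD1_c6 LD2_c33 LD3_c4)) = (LP (LK LD1_c3 LD2_c14 LD3_c48)) :=
  Lre_g IH (LK LD1_c6 LD2_c33 LD3_c4) (LK LD1_c3 LD2_c14 LD3_c48) Lrfl Lrfl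
theorem f126626 : Led Lsl_ct (LP (LK LD1_c6 LD2_c19 LD3_c14)) = (LP (LK LD1_c6 LD2_c33 LD3_c4)) :=
  Lgr Lrot152 (Lpe (f25044 IH) (Lpe (K5.f25043 IH) (Lpr_gt (K5.f62620 IH) (Lpr_ct (K5.f126620 IH) (Lpr_gt (K5.f24364 IH) (Lpr_ct (K3.f24350 IH) (Lpe (K3.f24354 IH) (Lpe (K5.f24355 IH) (Lpe (f24375 IH) (Lpn (LP (LK LD1_c6 LD2_c33 LD3_c4))))))))))))
theorem f24372 : Led Lsl_dt (LP (LK LD1_c3 LD2_c14 LD3_c48)) = (LP (LK LD1_c6 LD2_c33 LD3_c6)) :=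
  Lre_d IH (LK LD1_c3 LD2_c14 LD3_c48) (LK LD1_c6 LD2_c33 LD3_c6) Lrfl Lrfl
theorem f134121 : Led Lsl_gt (LP (LK LD1_c6 LD2_c33 LD3_c6)) = (LP (LK LD1_c12 LD2_c33 LD3_c31)) :=
  Lre_g IH (LK LD1_c6 LD2_c33 LD3_c6) (LK LD1_c12 LD2_c33 LD3_c31) Lrfl Lrfl
theorem f134122 : Led Lsl_df (LP (LK LD1_c7 LD2_c48 LD3_c45)) = (LP (LK LD1_c12 LD2_c33 LD3_c31)) :=
  Lgr Lrot174 (Lpr_ct (f90203 IH) (Lpe (f88769 IH) (Lpr_gf (K5.f125320 IH) (Lpe (f23545 IH) (Lpr_gf (f134117 IH) (Lpr_ct (f126626 IH) (Lpr_gt (f24375 IH) (Lpr_dt (f24372 IH) (Lpr_gt (f134121 IH) (Lpn (LP (LK LD1_c12 LD2_c33 LD3_c31))))))))))))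
theorem f134127 : Led Lsl_dt (LP (LK LD1_c7 LD2_c48 LD3_c45)) = (LP (LK LD1_c12 LD2_c33 LD3_c31)) :=
  Lgr Lrot42 (Lpr_df (f134122 IH) (Lpn (LP (LK LD1_c12 LD2_c33 LD3_c31))))
theorem f62570 : Led Lsl_ct (LP (LK LD1_c3 LD2_c1 LD3_c15)) = (LP (LK LD1_c6 LD2_c9 LD3_c34)) :=
  Lre_c IH (LK LD1_c3 LD2_c1 LD3_c15) (LK LD1_c6 LD2_c9 LD3_c34) Lrfl Lrfl
theorem f126763 : Led Lsl_ff (LP (LK LD1_c3 LD2_c1 LD3_c15)) = (LP (LK LD1_c3 LD2_c14 LD3_c46)) :=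
  Lgr Lrot23 (Lpr_ct (f62570 IH) (Lpr_ft (K5.f126753 IH) (Lpr_ct (K5.f126758 IH) (Lpn (LP (LK LD1_c3 LD2_c14 LD3_c46))))))
theorem f62373 : Led Lsl_at (LP (LK LD1_c3 LD2_c1 LD3_c15)) = (LP (LK LD1_c1 LD2_c26 LD3_c37)) :=
  Lre_a IH (LK LD1_c3 LD2_c1 LD3_c15) (LK LD1_c1 LD2_c26 LD3_c37) Lrfl Lrfl
theorem f62367 : Led Lsl_gt (LP (LK LD1_c3 LD2_c1 LD3_c19)) = (LP (LK LD1_c1 LD2_c26 LD3_c37)) :=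
  Lre_g IH (LK LD1_c3 LD2_c1 LD3_c19) (LK LD1_c1 LD2_c26 LD3_c37) Lrfl Lrfl
theorem f126795 : Led Lsl_gf (LP (LK LD1_c3 LD2_c1 LD3_c19)) = (LP (LK LD1_c3 LD2_c14 LD3_c46)) :=
  Lgr Lrot47 (Lpr_gt (f62367 IH) (Lpe (f62373 IH) (Lpr_ff (f126763 IH) (Lpn (LP (LK LD1_c3 LD2_c14 LD3_c46))))))
theorem f126797 : Led Lsl_ct (LP (LK LD1_c3 LD2_c1 LD3_c19)) = (LP (LK LD1_c6 LD2_c9 LD3_c40)) :=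
  Lre_c IH (LK LD1_c3 LD2_c1 LD3_c19) (LK LD1_c6 LD2_c9 LD3_c40) Lrfl Lrfl
theorem f90201 : Led Lsl_cf (LP (LK LD1_c1 LD2_c53 LD3_c24)) = (LP (LK LD1_c3 LD2_c6 LD3_c50)) :=
  Lgr Lrot11 (Lpr_ct (K2.f90196 IH) (Lpn (LP (LK LD1_c3 LD2_c6 LD3_c50))))
theorem f126903 : Led Lsl_gt (LP (LK LD1_c6 LD2_c9 LD3_c40)) = (LP (LK LD1_c7 LD2_c48 LD3_c45)) :=
  Lgr Lrot150 (Lpe (f126797 IH) (Lpr_gf (f126795 IH) (Lpe (K5.f24362 IH) (Lpr_gt (K5.f24360 IH) (Lpe (K3.f24338 IH) (Lpr_gt (K5.f126897 IH) (Lpe (f90201 IH) (Lpe (K3.f88763 IH) (Lpe (f90203 IH) (Lpn (LP (LK LD1_c7 LD2_c48 LD3_c45))))))))))))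
theorem f126800 : Led Lsl_ct (LP (LK LD1_c6 LD2_c9 LD3_c40)) = (LP (LK LD1_c3 LD2_c1 LD3_c19)) :=
  Lre_c IH (LK LD1_c6 LD2_c9 LD3_c40) (LK LD1_c3 LD2_c1 LD3_c19) Lrfl Lrfl
theorem f126673 : Led Lsl_dt (LP (LK LD1_c12 LD2_c0 LD3_c11)) = (LP (LK LD1_c6 LD2_c9 LD3_c36)) :=
  Lre_d IH (LK LD1_c12 LD2_c0 LD3_c11) (LK LD1_c6 LD2_c9 LD3_c36) Lrfl Lrfl
theorem f134145 : Led Lsl_gf (LP (LK LD1_c12 LD2_c0 LD3_c11)) = (LP (LK LD1_c12 LD2_c33 LD3_c31)) :=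
  Lgr Lrot143 (Lpr_dt (f126673 IH) (Lpe (K5.f57568 IH) (Lpe (K5.f57567 IH) (Lpe (K5.f57566 IH) (Lpe (K5.f62345 IH) (Lpe (f62367 IH) (Lpe (f126800 IH) (Lpr_gt (f126903 IH) (Lpr_dt (f134127 IH) (Lpn (LP (LK LD1_c12 LD2_c33 LD3_c31))))))))))))
theorem f62633 : Led Lsl_dt (LP (LK LD1_c6 LD2_c9 LD3_c33)) = (LP (LK LD1_c12 LD2_c0 LD3_c7)) :=
  Lre_d IH (LK LD1_c6 LD2_c9 LD3_c33) (LK LD1_c12 LD2_c0 LD3_c7) Lrfl Lrfl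
theorem f133771 : Led Lsl_af (LP (LK LD1_c12 LD2_c0 LD3_c11)) = (LP (LK LD1_c12 LD2_c0 LD3_c7)) :=
  Lgr Lrot117 (Lpr_dt (f126673 IH) (Lpr_at (K5.f133736 IH) (Lpr_dt (f62633 IH) (Lpn (LP (LK LD1_c12 LD2_c0 LD3_c7))))))
theorem f134151 : Led Lsl_ff (LP (LK LD1_c12 LD2_c0 LD3_c7)) = (LP (LK LD1_c6 LD2_c33 LD3_c6)) :=
  Lgr Lrot52 (Lpe (f133771 IH) (Lpr_gf (f134145 IH) (Lpe (f134121 IH) (Lpn (LP (LK LD1_c6 LD2_c33 LD3_c6))))))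
theorem f134160 : Led Lsl_ft (LP (LK LD1_c12 LD2_c0 LD3_c7)) = (LP (LK LD1_c6 LD2_c33 LD3_c6)) :=
  Lgr Lrot48 (Lpr_ff (f134151 IH) (Lpn (LP (LK LD1_c6 LD2_c33 LD3_c6))))
theorem f133783 : Led Lsl_bt (LP (LK LD1_c21 LD2_c4 LD3_c59)) = (LP (LK LD1_c12 LD2_c0 LD3_c7)) :=
  Lre_b IH (LK LD1_c21 LD2_c4 LD3_c59) (LK LD1_c12 LD2_c0 LD3_c7) Lrfl Lrfl
theorem f134164 : Led Lsl_bt (LP (LK LD1_c6 LD2_c33 LD3_c6)) = (LP (LK LD1_c12 LD2_c33 LD3_c30)) :=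
  Lre_b IH (LK LD1_c6 LD2_c33 LD3_c6) (LK LD1_c12 LD2_c33 LD3_c30) Lrfl Lrfl
theorem f134165 : Led Lsl_ff (LP (LK LD1_c21 LD2_c4 LD3_c59)) = (LP (LK LD1_c12 LD2_c33 LD3_c30)) :=
  Lgr Lrot25 (Lpr_bt (f133783 IH) (Lpr_ft (f134160 IH) (Lpr_bt (f134164 IH) (Lpn (LP (LK LD1_c12 LD2_c33 LD3_c30))))))
theorem f127168 : Led Lsl_dt (LP (LK LD1_c21 LD2_c4 LD3_c59)) = (LP (LK LD1_c12 LD2_c0 LD3_c6)) :=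
  Lre_d IH (LK LD1_c21 LD2_c4 LD3_c59) (LK LD1_c12 LD2_c0 LD3_c6) Lrfl Lrfl
theorem f134174 : Led Lsl_dt (LP (LK LD1_c6 LD2_c33 LD3_c5)) = (LP (LK LD1_c12 LD2_c33 LD3_c30)) :=
  Lre_d IH (LK LD1_c6 LD2_c33 LD3_c5) (LK LD1_c12 LD2_c33 LD3_c30) Lrfl Lrfl
theorem f134175 : Led Lsl_ft (LP (LK LD1_c12 LD2_c0 LD3_c6)) = (LP (LK LD1_c6 LD2_c33 LD3_c5)) :=
  Lgr Lrot54 (Lpe (f127168 IH) (Lpr_ff (f134165 IH) (Lpe (f134174 IH) (Lpn (LP (LK LD1_c6 LD2_c33 LD3_c5))))))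
theorem f134193 : Led Lsl_ff (LP (LK LD1_c12 LD2_c0 LD3_c6)) = (LP (LK LD1_c6 LD2_c33 LD3_c5)) :=
  Lgr Lrot3 (Lpr_ft (f134175 IH) (Lpn (LP (LK LD1_c6 LD2_c33 LD3_c5))))
theorem f127154 : Led Lsl_ct (LP (LK LD1_c12 LD2_c0 LD3_c6)) = (LP (LK LD1_c21 LD2_c4 LD3_c54)) :=
  Lre_c IH (LK LD1_c12 LD2_c0 LD3_c6) (LK LD1_c21 LD2_c4 LD3_c54) Lrfl Lrfl
theorem f133536 : Led Lsl_ct (LP (LK LD1_c12 LD2_c33 LD3_c5)) = (LP (LK LD1_c6 LD2_c33 LD3_c5)) :=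
  Lre_c IH (LK LD1_c12 LD2_c33 LD3_c5) (LK LD1_c6 LD2_c33 LD3_c5) Lrfl Lrfl
theorem f134209 : Led Lsl_ft (LP (LK LD1_c21 LD2_c4 LD3_c54)) = (LP (LK LD1_c12 LD2_c33 LD3_c5)) :=
  Lgr Lrot4 (Lpe (f127154 IH) (Lpr_ff (f134193 IH) (Lpe (f133536 IH) (Lpn (LP (LK LD1_c12 LD2_c33 LD3_c5))))))
theorem f125417 : Led Lsl_bt (LP (LK LD1_c12 LD2_c0 LD3_c5)) = (LP (LK LD1_c21 LD2_c4 LD3_c54)) :=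
  Lre_b IH (LK LD1_c12 LD2_c0 LD3_c5) (LK LD1_c21 LD2_c4 LD3_c54) Lrfl Lrfl
theorem f133535 : Led Lsl_bt (LP (LK LD1_c12 LD2_c33 LD3_c5)) = (LP (LK LD1_c6 LD2_c32 LD3_c52)) :=
  Lre_b IH (LK LD1_c12 LD2_c33 LD3_c5) (LK LD1_c6 LD2_c32 LD3_c52) Lrfl Lrfl
theorem f134221 : Led Lsl_ff (LP (LK LD1_c12 LD2_c0 LD3_c5)) = (LP (LK LD1_c6 LD2_c32 LD3_c52)) :=
  Lgr Lrot25 (Lpr_bt (f125417 IH) (Lpr_ft (f134209 IH) (Lpr_bt (f133535 IH) (Lpn (LP (LK LD1_c6 LD2_c32 LD3_c52))))))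
theorem f134224 : Led Lsl_at (LP (LK LD1_c12 LD2_c0 LD3_c5)) = (LP (LK LD1_c12 LD2_c12 LD3_c31)) :=
  Lgr Lrot66 (Lpr_ff (f134221 IH) (Lpr_af (K5.f134015 IH) (Lpe (K5.f134007 IH) (Lpn (LP (LK LD1_c12 LD2_c12 LD3_c31))))))
theorem f134231 : Led Lsl_gf (LP (LK LD1_c6 LD2_c18 LD3_c12)) = (LP (LK LD1_c6 LD2_c32 LD3_c52)) :=
  Lgr Lrot47 (Lpr_gt (K5.f78169 IH) (Lpe (f134224 IH) (Lpr_ff (f134221 IH) (Lpn (LP (LK LD1_c6 LD2_c32 LD3_c52))))))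
theorem f143726 : Led Lsl_gt (LP (LK LD1_c3 LD2_c42 LD3_c33)) = (LP (LK LD1_c3 LD2_c25 LD3_c1)) :=
  Lgr Lrot164 (Lpr_bf (f143718 IH) (Lpr_ct (K5.f61752 IH) (Lpr_gf (f134231 IH) (Lpe (K5.f24394 IH) (Lpe (K5.f133816 IH) (Lpe (K5.f114380 IH) (Lpr_ct (K5.f114377 IH) (Lpe (K5.f114375 IH) (Lpe (K5.f17756 IH) (Lpe (f17749 IH) (Lpn (LP (LK LD1_c3 LD2_c25 LD3_c1)))))))))))))
theorem f120056 : Led Lsl_bt (LP (LK LD1_c3 LD2_c14 LD3_c41)) = (LP (LK LD1_c1 LD2_c33 LD3_c57)) :=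
  Lre_b IH (LK LD1_c3 LD2_c14 LD3_c41) (LK LD1_c1 LD2_c33 LD3_c57) Lrfl Lrfl
theorem f24358 : Led Lsl_gt (LP (LK LD1_c3 LD2_c14 LD3_c47)) = (LP (LK LD1_c1 LD2_c33 LD3_c57)) :=
  Lre_g IH (LK LD1_c3 LD2_c14 LD3_c47) (LK LD1_c1 LD2_c33 LD3_c57) Lrfl Lrfl
theorem f143732 : Led Lsl_bf (LP (LK LD1_c3 LD2_c14 LD3_c47)) = (LP (LK LD1_c3 LD2_c43 LD3_c8)) :=
  Lgr Lrot156 (Lpr_gt (f24358 IH) (Lpe (f120056 IH) (Lpr_ct (K5.f24394 IH) (Lpe (f134231 IH) (Lpe (K5.f61752 IH) (Lpe (f143718 IH) (Lpr_gt (f143726 IH) (Lpr_ct (K5.f86782 IH) (Lpe (f134623 IH) (Lpe (K5.f134659 IH) (Lpn (LP (LK LD1_c3 LD2_c43 LD3_c8)))))))))))))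
theorem f113157 : Led Lsl_bt (LP (LK LD1_c0 LD2_c45 LD3_c17)) = (LP (LK LD1_c1 LD2_c37 LD3_c44)) :=
  Lre_b IH (LK LD1_c0 LD2_c45 LD3_c17) (LK LD1_c1 LD2_c37 LD3_c44) Lrfl Lrfl
theorem f113136 : Led Lsl_at (LP (LK LD1_c1 LD2_c37 LD3_c44)) = (LP (LK LD1_c3 LD2_c22 LD3_c46)) :=
  Lre_a IH (LK LD1_c1 LD2_c37 LD3_c44) (LK LD1_c3 LD2_c22 LD3_c46) Lrfl Lrfl
theorem f24673 : Led Lsl_bt (LP (LK LD1_c1 LD2_c26 LD3_c29)) = (LP (LK LD1_c0 LD2_c40 LD3_c0)) :=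
  Lre_b IH (LK LD1_c1 LD2_c26 LD3_c29) (LK LD1_c0 LD2_c40 LD3_c0) Lrfl Lrfl
theorem f135618 : Led Lsl_bt (LP (LK LD1_c3 LD2_c22 LD3_c46)) = (LP (LK LD1_c3 LD2_c1 LD3_c4)) :=
  Lgr Lrot62 (Lpe (f113136 IH) (Lpe (f113157 IH) (Lpr_af (f135589 IH) (Lpe (f24673 IH) (Lpe (K5.f24827 IH) (Lpn (LP (LK LD1_c3 LD2_c1 LD3_c4))))))))
theorem f143739 : Led Lsl_ft (LP (LK LD1_c3 LD2_c14 LD3_c47)) = (LP (LK LD1_c3 LD2_c22 LD3_c46)) :=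
  Lgr Lrot75 (Lpr_bf (f143732 IH) (Lpr_ff (K5.f86803 IH) (Lpe (f135618 IH) (Lpn (LP (LK LD1_c3 LD2_c22 LD3_c46))))))
theorem f143743 : Led Lsl_ff (LP (LK LD1_c3 LD2_c14 LD3_c47)) = (LP (LK LD1_c3 LD2_c22 LD3_c46)) :=
  Lgr Lrot3 (Lpr_ft (f143739 IH) (Lpn (LP (LK LD1_c3 LD2_c22 LD3_c46))))
theorem f143760 : Led Lsl_at (LP (LK LD1_c3 LD2_c14 LD3_c47)) = (LP (LK LD1_c1 LD2_c37 LD3_c28)) :=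
  Lgr Lrot26 (Lpr_ff (f143743 IH) (Lpr_gt (f142987 IH) (Lpr_gt (f134059 IH) (Lpn (LP (LK LD1_c1 LD2_c37 LD3_c28))))))
theorem f10004 : Led Lsl_ct (LP (LK LD1_c3 LD2_c22 LD3_c23)) = (LP (LK LD1_c1 LD2_c37 LD3_c28)) :=
  Lre_c IH (LK LD1_c3 LD2_c22 LD3_c23) (LK LD1_c1 LD2_c37 LD3_c28) Lrfl Lrfl
theorem f10005 : Led Lsl_dt (LP (LK LD1_c6 LD2_c48 LD3_c30)) = (LP (LK LD1_c3 LD2_c22 LD3_c23)) :=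
  Lre_d IH (LK LD1_c6 LD2_c48 LD3_c30) (LK LD1_c3 LD2_c22 LD3_c23) Lrfl Lrfl
theorem f126923 : Led Lsl_ct (LP (LK LD1_c12 LD2_c59 LD3_c37)) = (LP (LK LD1_c6 LD2_c48 LD3_c30)) :=
  Lre_c IH (LK LD1_c12 LD2_c59 LD3_c37) (LK LD1_c6 LD2_c48 LD3_c30) Lrfl Lrfl
theorem f113301 : Led Lsl_et (LP (LK LD1_c0 LD2_c45 LD3_c15)) = (LP (LK LD1_c1 LD2_c37 LD3_c42)) :=
  Lre_e IH (LK LD1_c0 LD2_c45 LD3_c15) (LK LD1_c1 LD2_c37 LD3_c42) Lrfl Lrfl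
theorem f24288 : Led Lsl_et (LP (LK LD1_c0 LD2_c8 LD3_c44)) = (LP (LK LD1_c0 LD2_c19 LD3_c28)) :=
  Lre_e IH (LK LD1_c0 LD2_c8 LD3_c44) (LK LD1_c0 LD2_c19 LD3_c28) Lrfl Lrfl
theorem f24290 : Led Lsl_gt (LP (LK LD1_c0 LD2_c43 LD3_c40)) = (LP (LK LD1_c0 LD2_c19 LD3_c28)) :=
  Lre_g IH (LK LD1_c0 LD2_c43 LD3_c40) (LK LD1_c0 LD2_c19 LD3_c28) Lrfl Lrfl
theorem f112967 : Led Lsl_et (LP (LK LD1_c1 LD2_c34 LD3_c9)) = (LP (LK LD1_c0 LD2_c43 LD3_c40)) :=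
  Lre_e IH (LK LD1_c1 LD2_c34 LD3_c9) (LK LD1_c0 LD2_c43 LD3_c40) Lrfl Lrfl
theorem f126844 : Led Lsl_df (LP (LK LD1_c3 LD2_c1 LD3_c19)) = (LP (LK LD1_c1 LD2_c34 LD3_c9)) :=
  Lgr Lrot132 (Lpr_gf (f126795 IH) (Lpe (K5.f24362 IH) (Lpr_gf (K5.f126840 IH) (Lpr_ef (K5.f126650 IH) (Lpe (K4.f112958 IH) (Lpe (K2.f24032 IH) (Lpe (K3.f24140 IH) (Lpr_et (f24288 IH) (Lpe (f24290 IH) (Lpe (f112967 IH) (Lpn (LP (LK LD1_c1 LD2_c34 LD3_c9)))))))))))))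
theorem f135807 : Led Lsl_gt (LP (LK LD1_c1 LD2_c37 LD3_c42)) = (LP (LK LD1_c1 LD2_c34 LD3_c9)) :=
  Lgr Lrot137 (Lpe (f113301 IH) (Lpr_dt (f113293 IH) (Lpr_gf (f135796 IH) (Lpe (K3.f24309 IH) (Lpr_et (f127095 IH) (Lpe (K3.f57581 IH) (Lpe (K5.f62344 IH) (Lpr_dt (K5.f62383 IH) (Lpe (f62367 IH) (Lpr_df (f126844 IH) (Lpn (LP (LK LD1_c1 LD2_c34 LD3_c9)))))))))))))
theorem f135809 : Led Lsl_ct (LP (LK LD1_c1 LD2_c37 LD3_c42)) = (LP (LK LD1_c1 LD2_c37 LD3_c42)) :=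
  Lgr Lrot8 (Lpr_gt (f135807 IH) (Lpe (f126844 IH) (Lpr_gt (f62367 IH) (Lpr_dt (K5.f62345 IH) (Lpr_cf (K5.f126732 IH) (Lpe (K5.f62345 IH) (Lpe (f62367 IH) (Lpr_df (f126844 IH) (Lpe (f135807 IH) (Lpn (LP (LK LD1_c1 LD2_c37 LD3_c42))))))))))))
theorem f143762 : Led Lsl_df (LP (LK LD1_c12 LD2_c59 LD3_c37)) = (LP (LK LD1_c6 LD2_c49 LD3_c8)) :=
  Lgr Lrot13 (Lpr_ct (f126923 IH) (Lpr_dt (f10005 IH) (Lpr_ct (f10004 IH) (Lpe (f143760 IH) (Lpr_ff (f143743 IH) (Lpr_dt (f113289 IH) (Lpr_ct (f135809 IH) (Lpr_dt (f113307 IH) (Lpr_ct (f113269 IH) (Lpn (LP (LK LD1_c6 LD2_c49 LD3_c8))))))))))))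
theorem f113280 : Led Lsl_ct (LP (LK LD1_c6 LD2_c49 LD3_c8)) = (LP (LK LD1_c3 LD2_c22 LD3_c46)) :=
  Lre_c IH (LK LD1_c6 LD2_c49 LD3_c8) (LK LD1_c3 LD2_c22 LD3_c46) Lrfl Lrfl
theorem f143766 : Led Lsl_dt (LP (LK LD1_c12 LD2_c59 LD3_c37)) = (LP (LK LD1_c6 LD2_c49 LD3_c8)) :=
  Lgr Lrot42 (Lpr_df (f143762 IH) (Lpn (LP (LK LD1_c6 LD2_c49 LD3_c8))))
theorem f126730 : Led Lsl_ct (LP (LK LD1_c3 LD2_c14 LD3_c47)) = (LP (LK LD1_c6 LD2_c33 LD3_c1)) :=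
  Lre_c IH (LK LD1_c3 LD2_c14 LD3_c47) (LK LD1_c6 LD2_c33 LD3_c1) Lrfl Lrfl
theorem f143758 : Led Lsl_ft (LP (LK LD1_c6 LD2_c33 LD3_c1)) = (LP (LK LD1_c6 LD2_c49 LD3_c8)) :=
  Lgr Lrot4 (Lpe (f126730 IH) (Lpr_ff (f143743 IH) (Lpe (f113280 IH) (Lpn (LP (LK LD1_c6 LD2_c49 LD3_c8))))))
theorem f133730 : Led Lsl_dt (LP (LK LD1_c12 LD2_c33 LD3_c20)) = (LP (LK LD1_c6 LD2_c33 LD3_c1)) :=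
  Lre_d IH (LK LD1_c12 LD2_c33 LD3_c20) (LK LD1_c6 LD2_c33 LD3_c1) Lrfl Lrfl
theorem f143768 : Led Lsl_ft (LP (LK LD1_c12 LD2_c59 LD3_c37)) = (LP (LK LD1_c12 LD2_c33 LD3_c20)) :=
  Lgr Lrot54 (Lpr_df (f143762 IH) (Lpe (f143758 IH) (Lpe (f133730 IH) (Lpn (LP (LK LD1_c12 LD2_c33 LD3_c20))))))
theorem f143770 : Led Lsl_af (LP (LK LD1_c6 LD2_c48 LD3_c30)) = (LP (LK LD1_c12 LD2_c33 LD3_c20)) :=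
  Lgr Lrot109 (Lpe (f126923 IH) (Lpr_df (f143762 IH) (Lpe (f113269 IH) (Lpe (f113307 IH) (Lpe (f135809 IH) (Lpe (f113289 IH) (Lpe (f113280 IH) (Lpe (f143766 IH) (Lpr_ft (f143768 IH) (Lpn (LP (LK LD1_c12 LD2_c33 LD3_c20))))))))))))
theorem f133731 : Led Lsl_dt (LP (LK LD1_c6 LD2_c33 LD3_c1)) = (LP (LK LD1_c12 LD2_c33 LD3_c20)) :=
  Lre_d IH (LK LD1_c6 LD2_c33 LD3_c1) (LK LD1_c12 LD2_c33 LD3_c20) Lrfl Lrfl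
theorem f143778 : Led Lsl_at (LP (LK LD1_c3 LD2_c22 LD3_c23)) = (LP (LK LD1_c6 LD2_c33 LD3_c1)) :=
  Lgr Lrot51 (Lpe (f10005 IH) (Lpr_af (f143770 IH) (Lpe (f133731 IH) (Lpn (LP (LK LD1_c6 LD2_c33 LD3_c1))))))
theorem f113274 : Led Lsl_at (LP (LK LD1_c6 LD2_c49 LD3_c8)) = (LP (LK LD1_c3 LD2_c22 LD3_c48)) :=
  Lre_a IH (LK LD1_c6 LD2_c49 LD3_c8) (LK LD1_c3 LD2_c22 LD3_c48) Lrfl Lrfl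
theorem f143785 : Led Lsl_ff (LP (LK LD1_c3 LD2_c22 LD3_c23)) = (LP (LK LD1_c3 LD2_c22 LD3_c48)) :=
  Lgr Lrot30 (Lpr_at (f143778 IH) (Lpr_ft (f143758 IH) (Lpr_at (f113274 IH) (Lpn (LP (LK LD1_c3 LD2_c22 LD3_c48))))))
theorem f143839 : Led Lsl_ft (LP (LK LD1_c3 LD2_c22 LD3_c23)) = (LP (LK LD1_c3 LD2_c22 LD3_c48)) :=
  Lgr Lrot48 (Lpr_ff (f143785 IH) (Lpn (LP (LK LD1_c3 LD2_c22 LD3_c48))))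
theorem f143843 : Led Lsl_ff (LP (LK LD1_c1 LD2_c37 LD3_c28)) = (LP (LK LD1_c1 LD2_c37 LD3_c44)) :=
  Lgr Lrot23 (Lpr_ct (K5.f25637 IH) (Lpr_ft (f143839 IH) (Lpr_ct (f113161 IH) (Lpn (LP (LK LD1_c1 LD2_c37 LD3_c44))))))
theorem f143873 : Led Lsl_et (LP (LK LD1_c1 LD2_c37 LD3_c28)) = (LP (LK LD1_c3 LD2_c22 LD3_c24)) :=
  Lre_e IH (LK LD1_c1 LD2_c37 LD3_c28) (LK LD1_c3 LD2_c22 LD3_c24) Lrfl Lrfl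
theorem f143874 : Led Lsl_ft (LP (LK LD1_c3 LD2_c22 LD3_c24)) = (LP (LK LD1_c6 LD2_c48 LD3_c34)) :=
  Lre_f IH (LK LD1_c3 LD2_c22 LD3_c24) (LK LD1_c6 LD2_c48 LD3_c34) Lrfl Lrfl
theorem f113150 : Led Lsl_ft (LP (LK LD1_c4 LD2_c48 LD3_c0)) = (LP (LK LD1_c2 LD2_c21 LD3_c52)) :=
  Lre_f IH (LK LD1_c4 LD2_c48 LD3_c0) (LK LD1_c2 LD2_c21 LD3_c52) Lrfl Lrfl
theorem f143875 : Led Lsl_et (LP (LK LD1_c6 LD2_c48 LD3_c34)) = (LP (LK LD1_c4 LD2_c48 LD3_c0)) :=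
  Lgr Lrot69 (Lpe (f143874 IH) (Lpe (f143873 IH) (Lpr_ff (f143843 IH) (Lpr_ef (f113132 IH) (Lpe (f113150 IH) (Lpn (LP (LK LD1_c4 LD2_c48 LD3_c0))))))))
theorem f143881 : Led Lsl_ef (LP (LK LD1_c6 LD2_c48 LD3_c34)) = (LP (LK LD1_c4 LD2_c48 LD3_c0)) :=
  Lgr Lrot88 (Lpr_et (f143875 IH) (Lpn (LP (LK LD1_c4 LD2_c48 LD3_c0))))
theorem f143883 : Led Lsl_bt (LP (LK LD1_c6 LD2_c48 LD3_c34)) = (LP (LK LD1_c3 LD2_c22 LD3_c29)) :=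
  Lre_b IH (LK LD1_c6 LD2_c48 LD3_c34) (LK LD1_c3 LD2_c22 LD3_c29) Lrfl Lrfl
theorem f135685 : Led Lsl_bt (LP (LK LD1_c2 LD2_c21 LD3_c61)) = (LP (LK LD1_c4 LD2_c48 LD3_c0)) :=
  Lre_b IH (LK LD1_c2 LD2_c21 LD3_c61) (LK LD1_c4 LD2_c48 LD3_c0) Lrfl Lrfl
theorem f143884 : Led Lsl_et (LP (LK LD1_c3 LD2_c22 LD3_c29)) = (LP (LK LD1_c2 LD2_c21 LD3_c61)) :=
  Lgr Lrot74 (Lpe (f143883 IH) (Lpr_ef (f143881 IH) (Lpe (f135685 IH) (Lpn (LP (LK LD1_c2 LD2_c21 LD3_c61))))))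
theorem f143893 : Led Lsl_ft (LP (LK LD1_c1 LD2_c37 LD3_c30)) = (LP (LK LD1_c3 LD2_c22 LD3_c29)) :=
  Lre_f IH (LK LD1_c1 LD2_c37 LD3_c30) (LK LD1_c3 LD2_c22 LD3_c29) Lrfl Lrfl
theorem f143894 : Led Lsl_et (LP (LK LD1_c0 LD2_c45 LD3_c6)) = (LP (LK LD1_c1 LD2_c37 LD3_c30)) :=
  Lre_e IH (LK LD1_c0 LD2_c45 LD3_c6) (LK LD1_c1 LD2_c37 LD3_c30) Lrfl Lrfl
theorem f113158 : Led Lsl_bt (LP (LK LD1_c2 LD2_c21 LD3_c52)) = (LP (LK LD1_c1 LD2_c8 LD3_c8)) :=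
  Lre_b IH (LK LD1_c2 LD2_c21 LD3_c52) (LK LD1_c1 LD2_c8 LD3_c8) Lrfl Lrfl
theorem f113159 : Led Lsl_ef (LP (LK LD1_c0 LD2_c45 LD3_c17)) = (LP (LK LD1_c1 LD2_c8 LD3_c8)) :=
  Lgr Lrot29 (Lpr_bt (f113157 IH) (Lpr_et (f113148 IH) (Lpr_bt (f113158 IH) (Lpn (LP (LK LD1_c1 LD2_c8 LD3_c8))))))
theorem f143895 : Led Lsl_ff (LP (LK LD1_c0 LD2_c45 LD3_c6)) = (LP (LK LD1_c0 LD2_c45 LD3_c17)) :=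
  Lgr Lrot72 (Lpr_et (f143894 IH) (Lpr_ft (f143893 IH) (Lpr_et (f143884 IH) (Lpr_ft (f92128 IH) (Lpe (f113159 IH) (Lpn (LP (LK LD1_c0 LD2_c45 LD3_c17))))))))
theorem f143898 : Led Lsl_at (LP (LK LD1_c0 LD2_c45 LD3_c6)) = (LP (LK LD1_c1 LD2_c8 LD3_c36)) :=
  Lgr Lrot66 (Lpr_ff (f143895 IH) (Lpr_af (f135589 IH) (Lpe (f134879 IH) (Lpn (LP (LK LD1_c1 LD2_c8 LD3_c36))))))
theorem f25648 : Led Lsl_et (LP (LK LD1_c1 LD2_c37 LD3_c30)) = (LP (LK LD1_c0 LD2_c45 LD3_c6)) :=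
  Lre_e IH (LK LD1_c1 LD2_c37 LD3_c30) (LK LD1_c0 LD2_c45 LD3_c6) Lrfl Lrfl
theorem f143025 : Led Lsl_et (LP (LK LD1_c1 LD2_c8 LD3_c36)) = (LP (LK LD1_c2 LD2_c22 LD3_c61)) :=
  Lre_e IH (LK LD1_c1 LD2_c8 LD3_c36) (LK LD1_c2 LD2_c22 LD3_c61) Lrfl Lrfl
theorem f143904 : Led Lsl_af (LP (LK LD1_c1 LD2_c37 LD3_c30)) = (LP (LK LD1_c2 LD2_c22 LD3_c61)) :=
  Lgr Lrot50 (Lpr_et (f25648 IH) (Lpr_at (f143898 IH) (Lpr_et (f143025 IH) (Lpn (LP (LK LD1_c2 LD2_c22 LD3_c61))))))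
theorem f143909 : Led Lsl_ct (LP (LK LD1_c1 LD2_c37 LD3_c30)) = (LP (LK LD1_c3 LD2_c22 LD3_c26)) :=
  Lre_c IH (LK LD1_c1 LD2_c37 LD3_c30) (LK LD1_c3 LD2_c22 LD3_c26) Lrfl Lrfl
theorem f86378 : Led Lsl_ct (LP (LK LD1_c4 LD2_c50 LD3_c24)) = (LP (LK LD1_c2 LD2_c22 LD3_c61)) :=
  Lre_c IH (LK LD1_c4 LD2_c50 LD3_c24) (LK LD1_c2 LD2_c22 LD3_c61) Lrfl Lrfl
theorem f143910 : Led Lsl_at (LP (LK LD1_c3 LD2_c22 LD3_c26)) = (LP (LK LD1_c4 LD2_c50 LD3_c24)) :=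
  Lgr Lrot107 (Lpe (f143909 IH) (Lpr_af (f143904 IH) (Lpe (f86378 IH) (Lpn (LP (LK LD1_c4 LD2_c50 LD3_c24))))))
theorem f57500 : Led Lsl_dt (LP (LK LD1_c1 LD2_c36 LD3_c30)) = (LP (LK LD1_c3 LD2_c20 LD3_c12)) :=
  Lre_d IH (LK LD1_c1 LD2_c36 LD3_c30) (LK LD1_c3 LD2_c20 LD3_c12) Lrfl Lrfl
theorem f62490 : Led Lsl_et (LP (LK LD1_c3 LD2_c20 LD3_c12)) = (LP (LK LD1_c6 LD2_c44 LD3_c10)) :=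
  Lre_e IH (LK LD1_c3 LD2_c20 LD3_c12) (LK LD1_c6 LD2_c44 LD3_c10) Lrfl Lrfl
theorem f86365 : Led Lsl_et (LP (LK LD1_c4 LD2_c50 LD3_c24)) = (LP (LK LD1_c2 LD2_c22 LD3_c60)) :=
  Lre_e IH (LK LD1_c4 LD2_c50 LD3_c24) (LK LD1_c2 LD2_c22 LD3_c60) Lrfl Lrfl
theorem f86371 : Led Lsl_dt (LP (LK LD1_c6 LD2_c44 LD3_c10)) = (LP (LK LD1_c4 LD2_c50 LD3_c24)) :=
  Lgr Lrot77 (Lpe (f62490 IH) (Lpe (f57500 IH) (Lpr_ef (K5.f62482 IH) (Lpr_df (K5.f86359 IH) (Lpe (f86365 IH) (Lpn (LP (LK LD1_c4 LD2_c50 LD3_c24))))))))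
theorem f86379 : Led Lsl_df (LP (LK LD1_c6 LD2_c44 LD3_c10)) = (LP (LK LD1_c4 LD2_c50 LD3_c24)) :=
  Lgr Lrot38 (Lpr_dt (f86371 IH) (Lpn (LP (LK LD1_c4 LD2_c50 LD3_c24))))
theorem f143918 : Led Lsl_af (LP (LK LD1_c6 LD2_c48 LD3_c39)) = (LP (LK LD1_c6 LD2_c44 LD3_c10)) :=
  Lgr Lrot117 (Lpr_dt (f84352 IH) (Lpr_at (f143910 IH) (Lpe (f86379 IH) (Lpn (LP (LK LD1_c6 LD2_c44 LD3_c10))))))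
theorem f143924 : Led Lsl_at (LP (LK LD1_c4 LD2_c48 LD3_c39)) = (LP (LK LD1_c3 LD2_c20 LD3_c12)) :=
  Lgr Lrot80 (Lpe (f84502 IH) (Lpr_af (f143918 IH) (Lpe (f62490 IH) (Lpn (LP (LK LD1_c3 LD2_c20 LD3_c12))))))
theorem f84499 : Led Lsl_bt (LP (LK LD1_c9 LD2_c29 LD3_c50)) = (LP (LK LD1_c4 LD2_c48 LD3_c39)) :=
  Lre_b IH (LK LD1_c9 LD2_c29 LD3_c50) (LK LD1_c4 LD2_c48 LD3_c39) Lrfl Lrfl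
theorem f84566 : Led Lsl_at (LP (LK LD1_c17 LD2_c31 LD3_c0)) = (LP (LK LD1_c9 LD2_c29 LD3_c50)) :=
  Lre_a IH (LK LD1_c17 LD2_c31 LD3_c0) (LK LD1_c9 LD2_c29 LD3_c50) Lrfl Lrfl
theorem f143926 : Led Lsl_bt (LP (LK LD1_c3 LD2_c20 LD3_c12)) = (LP (LK LD1_c6 LD2_c44 LD3_c6)) :=
  Lre_b IH (LK LD1_c3 LD2_c20 LD3_c12) (LK LD1_c6 LD2_c44 LD3_c6) Lrfl Lrfl
theorem f143927 : Led Lsl_at (LP (LK LD1_c6 LD2_c44 LD3_c6)) = (LP (LK LD1_c12 LD2_c53 LD3_c4)) :=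
  Lre_a IH (LK LD1_c6 LD2_c44 LD3_c6) (LK LD1_c12 LD2_c53 LD3_c4) Lrfl Lrfl
theorem f143928 : Led Lsl_bf (LP (LK LD1_c17 LD2_c31 LD3_c0)) = (LP (LK LD1_c12 LD2_c53 LD3_c4)) :=
  Lgr Lrot81 (Lpr_at (f84566 IH) (Lpr_bt (f84499 IH) (Lpr_at (f143924 IH) (Lpr_bt (f143926 IH) (Lpr_at (f143927 IH) (Lpn (LP (LK LD1_c12 LD2_c53 LD3_c4))))))))
theorem f84496 : Led Lsl_dt (LP (LK LD1_c17 LD2_c31 LD3_c0)) = (LP (LK LD1_c9 LD2_c29 LD3_c49)) :=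
  Lre_d IH (LK LD1_c17 LD2_c31 LD3_c0) (LK LD1_c9 LD2_c29 LD3_c49) Lrfl Lrfl
theorem f62503 : Led Lsl_dt (LP (LK LD1_c6 LD2_c44 LD3_c5)) = (LP (LK LD1_c12 LD2_c53 LD3_c4)) :=
  Lre_d IH (LK LD1_c6 LD2_c44 LD3_c5) (LK LD1_c12 LD2_c53 LD3_c4) Lrfl Lrfl
theorem f143944 : Led Lsl_bt (LP (LK LD1_c9 LD2_c29 LD3_c49)) = (LP (LK LD1_c6 LD2_c44 LD3_c5)) :=
  Lgr Lrot95 (Lpe (f84496 IH) (Lpr_bf (f143928 IH) (Lpe (f62503 IH) (Lpn (LP (LK LD1_c6 LD2_c44 LD3_c5))))))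
theorem f84495 : Led Lsl_ct (LP (LK LD1_c17 LD2_c30 LD3_c29)) = (LP (LK LD1_c9 LD2_c29 LD3_c49)) :=
  Lre_c IH (LK LD1_c17 LD2_c30 LD3_c29) (LK LD1_c9 LD2_c29 LD3_c49) Lrfl Lrfl
theorem f84459 : Led Lsl_bt (LP (LK LD1_c27 LD2_c20 LD3_c9)) = (LP (LK LD1_c17 LD2_c30 LD3_c29)) :=
  Lre_b IH (LK LD1_c27 LD2_c20 LD3_c9) (LK LD1_c17 LD2_c30 LD3_c29) Lrfl Lrfl
theorem f62507 : Led Lsl_ct (LP (LK LD1_c6 LD2_c44 LD3_c5)) = (LP (LK LD1_c12 LD2_c52 LD3_c29)) :=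
  Lre_c IH (LK LD1_c6 LD2_c44 LD3_c5) (LK LD1_c12 LD2_c52 LD3_c29) Lrfl Lrfl
theorem f62510 : Led Lsl_bt (LP (LK LD1_c12 LD2_c52 LD3_c29)) = (LP (LK LD1_c22 LD2_c0 LD3_c20)) :=
  Lre_b IH (LK LD1_c12 LD2_c52 LD3_c29) (LK LD1_c22 LD2_c0 LD3_c20) Lrfl Lrfl
theorem f143949 : Led Lsl_cf (LP (LK LD1_c27 LD2_c20 LD3_c9)) = (LP (LK LD1_c22 LD2_c0 LD3_c20)) :=
  Lgr Lrot97 (Lpr_bt (f84459 IH) (Lpr_ct (f84495 IH) (Lpr_bt (f143944 IH) (Lpr_ct (f62507 IH) (Lpr_bt (f62510 IH) (Lpn (LP (LK LD1_c22 LD2_c0 LD3_c20))))))))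
theorem f143977 : Led Lsl_ct (LP (LK LD1_c27 LD2_c20 LD3_c9)) = (LP (LK LD1_c22 LD2_c0 LD3_c20)) :=
  Lgr Lrot59 (Lpr_cf (f143949 IH) (Lpn (LP (LK LD1_c22 LD2_c0 LD3_c20))))
theorem f143979 : Led Lsl_at (LP (LK LD1_c17 LD2_c29 LD3_c56)) = (LP (LK LD1_c27 LD2_c20 LD3_c9)) :=
  Lre_a IH (LK LD1_c17 LD2_c29 LD3_c56) (LK LD1_c27 LD2_c20 LD3_c9) Lrfl Lrfl
theorem f62526 : Led Lsl_at (LP (LK LD1_c22 LD2_c0 LD3_c20)) = (LP (LK LD1_c12 LD2_c51 LD3_c29)) :=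
  Lre_a IH (LK LD1_c22 LD2_c0 LD3_c20) (LK LD1_c12 LD2_c51 LD3_c29) Lrfl Lrfl
theorem f143980 : Led Lsl_cf (LP (LK LD1_c17 LD2_c29 LD3_c56)) = (LP (LK LD1_c12 LD2_c51 LD3_c29)) :=
  Lgr Lrot1 (Lpr_at (f143979 IH) (Lpr_ct (f143977 IH) (Lpr_at (f62526 IH) (Lpn (LP (LK LD1_c12 LD2_c51 LD3_c29))))))
theorem f143982 : Led Lsl_bt (LP (LK LD1_c17 LD2_c29 LD3_c56)) = (LP (LK LD1_c9 LD2_c29 LD3_c15)) :=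
  Lre_b IH (LK LD1_c17 LD2_c29 LD3_c56) (LK LD1_c9 LD2_c29 LD3_c15) Lrfl Lrfl
theorem f143983 : Led Lsl_ct (LP (LK LD1_c9 LD2_c29 LD3_c15)) = (LP (LK LD1_c4 LD2_c48 LD3_c15)) :=
  Lre_c IH (LK LD1_c9 LD2_c29 LD3_c15) (LK LD1_c4 LD2_c48 LD3_c15) Lrfl Lrfl
theorem f62532 : Led Lsl_bt (LP (LK LD1_c6 LD2_c43 LD3_c18)) = (LP (LK LD1_c12 LD2_c51 LD3_c29)) :=
  Lre_b IH (LK LD1_c6 LD2_c43 LD3_c18) (LK LD1_c12 LD2_c51 LD3_c29) Lrfl Lrfl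
theorem f62549 : Led Lsl_ct (LP (LK LD1_c3 LD2_c19 LD3_c45)) = (LP (LK LD1_c6 LD2_c43 LD3_c18)) :=
  Lre_c IH (LK LD1_c3 LD2_c19 LD3_c45) (LK LD1_c6 LD2_c43 LD3_c18) Lrfl Lrfl
theorem f143984 : Led Lsl_bt (LP (LK LD1_c4 LD2_c48 LD3_c15)) = (LP (LK LD1_c3 LD2_c19 LD3_c45)) :=
  Lgr Lrot128 (Lpe (f143983 IH) (Lpe (f143982 IH) (Lpr_cf (f143980 IH) (Lpe (f62532 IH) (Lpe (f62549 IH) (Lpn (LP (LK LD1_c3 LD2_c19 LD3_c45))))))))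
theorem f84597 : Led Lsl_dt (LP (LK LD1_c2 LD2_c22 LD3_c1)) = (LP (LK LD1_c4 LD2_c48 LD3_c15)) :=
  Lre_d IH (LK LD1_c2 LD2_c22 LD3_c1) (LK LD1_c4 LD2_c48 LD3_c15) Lrfl Lrfl
theorem f62581 : Led Lsl_dt (LP (LK LD1_c3 LD2_c19 LD3_c45)) = (LP (LK LD1_c1 LD2_c36 LD3_c16)) :=
  Lre_d IH (LK LD1_c3 LD2_c19 LD3_c45) (LK LD1_c1 LD2_c36 LD3_c16) Lrfl Lrfl
theorem f143993 : Led Lsl_bf (LP (LK LD1_c2 LD2_c22 LD3_c1)) = (LP (LK LD1_c1 LD2_c36 LD3_c16)) :=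
  Lgr Lrot93 (Lpr_dt (f84597 IH) (Lpr_bt (f143984 IH) (Lpr_dt (f62581 IH) (Lpn (LP (LK LD1_c1 LD2_c36 LD3_c16))))))
theorem f84603 : Led Lsl_et (LP (LK LD1_c2 LD2_c22 LD3_c1)) = (LP (LK LD1_c1 LD2_c8 LD3_c10)) :=
  Lre_e IH (LK LD1_c2 LD2_c22 LD3_c1) (LK LD1_c1 LD2_c8 LD3_c10) Lrfl Lrfl
theorem f62576 : Led Lsl_et (LP (LK LD1_c0 LD2_c44 LD3_c37)) = (LP (LK LD1_c1 LD2_c36 LD3_c16)) :=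
  Lre_e IH (LK LD1_c0 LD2_c44 LD3_c37) (LK LD1_c1 LD2_c36 LD3_c16) Lrfl Lrfl
theorem f144012 : Led Lsl_bt (LP (LK LD1_c1 LD2_c8 LD3_c10)) = (LP (LK LD1_c0 LD2_c44 LD3_c37)) :=
  Lgr Lrot119 (Lpe (f84603 IH) (Lpr_bf (f143993 IH) (Lpe (f62576 IH) (Lpn (LP (LK LD1_c0 LD2_c44 LD3_c37))))))
theorem f84593 : Led Lsl_ct (LP (LK LD1_c1 LD2_c8 LD3_c10)) = (LP (LK LD1_c2 LD2_c22 LD3_c0)) :=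
  Lre_c IH (LK LD1_c1 LD2_c8 LD3_c10) (LK LD1_c2 LD2_c22 LD3_c0) Lrfl Lrfl
theorem f115008 : Led Lsl_gf (LP (LK LD1_c3 LD2_c6 LD3_c20)) = (LP (LK LD1_c4 LD2_c44 LD3_c2)) :=
  Lgr Lrot129 (Lpe (K2.f61715 IH) (Lpr_bt (K4.f114987 IH) (Lpr_gt (K4.f12565 IH) (Lpr_bf (K4.f12410 IH) (Lpr_ct (K3.f12487 IH) (Lpr_gt (K3.f96619 IH) (Lpe (K3.f60975 IH) (Lpr_bt (K3.f96630 IH) (Lpe (K3.f111004 IH) (Lpr_ct (K2.f78119 IH) (Lpn (LP (LK LD1_c4 LD2_c44 LD3_c2)))))))))))))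
theorem f144022 : Led Lsl_gf (LP (LK LD1_c1 LD2_c7 LD3_c15)) = (LP (LK LD1_c0 LD2_c44 LD3_c37)) :=
  Lgr Lrot124 (Lpe (K2.f78116 IH) (Lpr_ct (K2.f78119 IH) (Lpe (f115008 IH) (Lpe (K2.f61715 IH) (Lpr_bt (K4.f114987 IH) (Lpr_gt (K4.f12565 IH) (Lpr_ct (K1.f66453 IH) (Lpr_gt (f143184 IH) (Lpe (f84593 IH) (Lpr_bt (f144012 IH) (Lpn (LP (LK LD1_c0 LD2_c44 LD3_c37)))))))))))))
theorem f23480 : Led Lsl_et (LP (LK LD1_c0 LD2_c30 LD3_c50)) = (LP (LK LD1_c1 LD2_c7 LD3_c13)) :=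
  Lre_e IH (LK LD1_c0 LD2_c30 LD3_c50) (LK LD1_c1 LD2_c7 LD3_c13) Lrfl Lrfl
theorem f62372 : Led Lsl_at (LP (LK LD1_c1 LD2_c36 LD3_c22)) = (LP (LK LD1_c3 LD2_c19 LD3_c45)) :=
  Lre_a IH (LK LD1_c1 LD2_c36 LD3_c22) (LK LD1_c3 LD2_c19 LD3_c45) Lrfl Lrfl
theorem f62374 : Led Lsl_et (LP (LK LD1_c3 LD2_c19 LD3_c45)) = (LP (LK LD1_c3 LD2_c1 LD3_c15)) :=
  Lgr Lrot123 (Lpe (f62372 IH) (Lpr_ef (K5.f62363 IH) (Lpe (f62373 IH) (Lpn (LP (LK LD1_c3 LD2_c1 LD3_c15))))))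
theorem f62575 : Led Lsl_dt (LP (LK LD1_c1 LD2_c36 LD3_c16)) = (LP (LK LD1_c3 LD2_c19 LD3_c45)) :=
  Lre_d IH (LK LD1_c1 LD2_c36 LD3_c16) (LK LD1_c3 LD2_c19 LD3_c45) Lrfl Lrfl
theorem f62577 : Led Lsl_dt (LP (LK LD1_c3 LD2_c1 LD3_c15)) = (LP (LK LD1_c1 LD2_c26 LD3_c35)) :=
  Lre_d IH (LK LD1_c3 LD2_c1 LD3_c15) (LK LD1_c1 LD2_c26 LD3_c35) Lrfl Lrfl
theorem f62578 : Led Lsl_et (LP (LK LD1_c1 LD2_c26 LD3_c35)) = (LP (LK LD1_c0 LD2_c40 LD3_c4)) :=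
  Lre_e IH (LK LD1_c1 LD2_c26 LD3_c35) (LK LD1_c0 LD2_c40 LD3_c4) Lrfl Lrfl
theorem f62579 : Led Lsl_df (LP (LK LD1_c0 LD2_c44 LD3_c37)) = (LP (LK LD1_c0 LD2_c40 LD3_c4)) :=
  Lgr Lrot70 (Lpr_et (f62576 IH) (Lpr_dt (f62575 IH) (Lpr_et (f62374 IH) (Lpr_dt (f62577 IH) (Lpr_et (f62578 IH) (Lpn (LP (LK LD1_c0 LD2_c40 LD3_c4))))))))
theorem f62589 : Led Lsl_et (LP (LK LD1_c0 LD2_c40 LD3_c4)) = (LP (LK LD1_c1 LD2_c26 LD3_c35)) :=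
  Lre_e IH (LK LD1_c0 LD2_c40 LD3_c4) (LK LD1_c1 LD2_c26 LD3_c35) Lrfl Lrfl
theorem f144037 : Led Lsl_gt (LP (LK LD1_c1 LD2_c7 LD3_c13)) = (LP (LK LD1_c1 LD2_c26 LD3_c35)) :=
  Lgr Lrot131 (Lpe (f23480 IH) (Lpr_dt (K3.f20948 IH) (Lpe (K3.f109972 IH) (Lpe (K4.f113122 IH) (Lpe (K4.f20085 IH) (Lpe (K5.f126591 IH) (Lpr_dt (K2.f78108 IH) (Lpr_gf (f144022 IH) (Lpr_df (f62579 IH) (Lpr_et (f62589 IH) (Lpn (LP (LK LD1_c1 LD2_c26 LD3_c35)))))))))))))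
theorem f126838 : Led Lsl_ft (LP (LK LD1_c1 LD2_c7 LD3_c13)) = (LP (LK LD1_c1 LD2_c26 LD3_c36)) :=
  Lgr Lrot48 (Lpr_ff (K5.f126832 IH) (Lpn (LP (LK LD1_c1 LD2_c26 LD3_c36))))
theorem f126824 : Led Lsl_af (LP (LK LD1_c1 LD2_c26 LD3_c34)) = (LP (LK LD1_c1 LD2_c26 LD3_c36)) :=
  Lgr Lrot0 (Lpr_at (K5.f126728 IH) (Lpn (LP (LK LD1_c1 LD2_c26 LD3_c36))))
theorem f144039 : Led Lsl_gf (LP (LK LD1_c1 LD2_c26 LD3_c34)) = (LP (LK LD1_c1 LD2_c26 LD3_c35)) :=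
  Lgr Lrot76 (Lpr_af (f126824 IH) (Lpe (f126838 IH) (Lpr_gt (f144037 IH) (Lpn (LP (LK LD1_c1 LD2_c26 LD3_c35))))))
theorem f131533 : Led Lsl_cf (LP (LK LD1_c1 LD2_c31 LD3_c43)) = (LP (LK LD1_c1 LD2_c29 LD3_c47)) :=
  Lgr Lrot166 (Lpr_gt (K5.f95762 IH) (Lpr_dt (K5.f82462 IH) (Lpe (K5.f114394 IH) (Lpr_dt (K5.f104592 IH) (Lpr_ct (K5.f104318 IH) (Lpe (K5.f104601 IH) (Lpe (K5.f84022 IH) (Lpr_df (K5.f126955 IH) (Lpr_gf (K5.f131527 IH) (Lpn (LP (LK LD1_c1 LD2_c29 LD3_c47))))))))))))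
theorem f95820 : Led Lsl_gt (LP (LK LD1_c0 LD2_c43 LD3_c18)) = (LP (LK LD1_c1 LD2_c33 LD3_c23)) :=
  Lre_g IH (LK LD1_c0 LD2_c43 LD3_c18) (LK LD1_c1 LD2_c33 LD3_c23) Lrfl Lrfl
theorem f126735 : Led Lsl_at (LP (LK LD1_c0 LD2_c40 LD3_c5)) = (LP (LK LD1_c1 LD2_c26 LD3_c35)) :=
  Lre_a IH (LK LD1_c0 LD2_c40 LD3_c5) (LK LD1_c1 LD2_c26 LD3_c35) Lrfl Lrfl
theorem f126736 : Led Lsl_ct (LP (LK LD1_c1 LD2_c26 LD3_c35)) = (LP (LK LD1_c1 LD2_c26 LD3_c35)) :=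
  Lgr Lrot111 (Lpe (f126735 IH) (Lpr_cf (K5.f126732 IH) (Lpe (K5.f126725 IH) (Lpn (LP (LK LD1_c1 LD2_c26 LD3_c35))))))
theorem f144041 : Led Lsl_bf (LP (LK LD1_c1 LD2_c33 LD3_c23)) = (LP (LK LD1_c1 LD2_c26 LD3_c35)) :=
  Lgr Lrot34 (Lpe (f95820 IH) (Lpr_bf (K3.f95776 IH) (Lpr_ct (K3.f82463 IH) (Lpe (K5.f95762 IH) (Lpr_cf (f131533 IH) (Lpe (K5.f62624 IH) (Lpe (K5.f62607 IH) (Lpr_ct (K2.f62613 IH) (Lpr_gf (f144039 IH) (Lpe (f126736 IH) (Lpn (LP (LK LD1_c1 LD2_c26 LD3_c35)))))))))))))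
theorem f23507 : Led Lsl_ct (LP (LK LD1_c2 LD2_c19 LD3_c54)) = (LP (LK LD1_c1 LD2_c7 LD3_c13)) :=
  Lre_c IH (LK LD1_c2 LD2_c19 LD3_c54) (LK LD1_c1 LD2_c7 LD3_c13) Lrfl Lrfl
theorem f144119 : Led Lsl_gt (LP (LK LD1_c1 LD2_c33 LD3_c23)) = (LP (LK LD1_c1 LD2_c37 LD3_c47)) :=
  Lgr Lrot82 (Lpr_bf (f144041 IH) (Lpr_ct (f126736 IH) (Lpe (f144037 IH) (Lpe (f23507 IH) (Lpe (K4.f23505 IH) (Lpe (K4.f120023 IH) (Lpr_bf (K5.f120899 IH) (Lpe (K5.f120901 IH) (Lpr_gf (K4.f106764 IH) (Lpr_cf (K2.f84758 IH) (Lpn (LP (LK LD1_c1 LD2_c37 LD3_c47)))))))))))))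
theorem f142750 : Led Lsl_ef (LP (LK LD1_c0 LD2_c54 LD3_c16)) = (LP (LK LD1_c1 LD2_c26 LD3_c30)) :=
  Lgr Lrot28 (Lpr_ct (K5.f94391 IH) (Lpr_et (f142744 IH) (Lpr_ct (K5.f21043 IH) (Lpn (LP (LK LD1_c1 LD2_c26 LD3_c30))))))
theorem f84765 : Led Lsl_at (LP (LK LD1_c0 LD2_c10 LD3_c46)) = (LP (LK LD1_c0 LD2_c24 LD3_c6)) :=
  Lre_a IH (LK LD1_c0 LD2_c10 LD3_c46) (LK LD1_c0 LD2_c24 LD3_c6) Lrfl Lrfl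
theorem f84766 : Led Lsl_dt (LP (LK LD1_c0 LD2_c24 LD3_c6)) = (LP (LK LD1_c0 LD2_c20 LD3_c39)) :=
  Lgr Lrot44 (Lpe (f84765 IH) (Lpr_df (K5.f84763 IH) (Lpe (K5.f84635 IH) (Lpn (LP (LK LD1_c0 LD2_c20 LD3_c39))))))
theorem f84594 : Led Lsl_df (LP (LK LD1_c0 LD2_c45 LD3_c20)) = (LP (LK LD1_c1 LD2_c8 LD3_c10)) :=
  Lgr Lrot38 (Lpr_dt (f84589 IH) (Lpn (LP (LK LD1_c1 LD2_c8 LD3_c10))))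
theorem f142723 : Led Lsl_gt (LP (LK LD1_c0 LD2_c43 LD3_c17)) = (LP (LK LD1_c1 LD2_c8 LD3_c10)) :=
  Lgr Lrot189 (Lpe (K4.f23601 IH) (Lpe (K0.f20870 IH) (Lpe (K0.f12333 IH) (Lpr_gt (K1.f4898 IH) (Lpr_dt (K4.f4899 IH) (Lpr_gt (f142719 IH) (Lpr_dt (f84766 IH) (Lpr_ct (f84633 IH) (Lpr_df (f84594 IH) (Lpn (LP (LK LD1_c1 LD2_c8 LD3_c10))))))))))))
theorem f144131 : Led Lsl_ef (LP (LK LD1_c1 LD2_c33 LD3_c23)) = (LP (LK LD1_c0 LD2_c45 LD3_c20)) :=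
  Lgr Lrot167 (Lpr_gt (f144119 IH) (Lpr_dt (K4.f84631 IH) (Lpe (K5.f121391 IH) (Lpr_df (K5.f134873 IH) (Lpe (f142750 IH) (Lpe (K5.f106322 IH) (Lpe (K4.f23605 IH) (Lpr_dt (K4.f23601 IH) (Lpr_gt (f142723 IH) (Lpe (f84589 IH) (Lpn (LP (LK LD1_c0 LD2_c45 LD3_c20)))))))))))))
theorem f106138 : Led Lsl_ef (LP (LK LD1_c0 LD2_c39 LD3_c59)) = (LP (LK LD1_c0 LD2_c19 LD3_c20)) :=
  Lgr Lrot29 (Lpr_bt (K2.f21162 IH) (Lpr_et (K4.f106136 IH) (Lpr_bt (K2.f12423 IH) (Lpn (LP (LK LD1_c0 LD2_c19 LD3_c20))))))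
theorem f144137 : Led Lsl_gf (LP (LK LD1_c0 LD2_c43 LD3_c20)) = (LP (LK LD1_c1 LD2_c8 LD3_c10)) :=
  Lgr Lrot145 (Lpe (K1.f23692 IH) (Lpe (f106138 IH) (Lpr_gt (K2.f21024 IH) (Lpe (K4.f24606 IH) (Lpr_gt (K4.f124063 IH) (Lpe (K4.f23601 IH) (Lpr_et (K4.f23605 IH) (Lpr_gt (f95820 IH) (Lpr_ef (f144131 IH) (Lpr_dt (f84589 IH) (Lpn (LP (LK LD1_c1 LD2_c8 LD3_c10)))))))))))))
theorem f144149 : Led Lsl_gt (LP (LK LD1_c0 LD2_c39 LD3_c58)) = (LP (LK LD1_c0 LD2_c45 LD3_c20)) :=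
  Lgr Lrot137 (Lpe (K4.f82438 IH) (Lpr_dt (K5.f82433 IH) (Lpr_gf (f134885 IH) (Lpe (K5.f21076 IH) (Lpr_et (K2.f21080 IH) (Lpe (K2.f21024 IH) (Lpr_ef (f106138 IH) (Lpr_dt (K1.f23692 IH) (Lpr_gf (f144137 IH) (Lpe (f84589 IH) (Lpn (LP (LK LD1_c0 LD2_c45 LD3_c20)))))))))))))
theorem f12745 : Led Lsl_dt (LP (LK LD1_c0 LD2_c10 LD3_c44)) = (LP (LK LD1_c0 LD2_c9 LD3_c16)) :=
  Lgr Lrot79 (Lpe (K5.f12191 IH) (Lpr_df (K0.f12703 IH) (Lpe (K2.f12705 IH) (Lpn (LP (LK LD1_c0 LD2_c9 LD3_c16))))))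
theorem f21159 : Led Lsl_gt (LP (LK LD1_c0 LD2_c48 LD3_c58)) = (LP (LK LD1_c0 LD2_c21 LD3_c59)) :=
  Lre_g IH (LK LD1_c0 LD2_c48 LD3_c58) (LK LD1_c0 LD2_c21 LD3_c59) Lrfl Lrfl
theorem f142716 : Led Lsl_df (LP (LK LD1_c1 LD2_c39 LD3_c61)) = (LP (LK LD1_c0 LD2_c48 LD3_c58)) :=
  Lgr Lrot155 (Lpe (f142694 IH) (Lpr_ct (f142698 IH) (Lpr_gt (f21101 IH) (Lpr_ct (K4.f12181 IH) (Lpr_dt (f12745 IH) (Lpr_cf (K2.f21081 IH) (Lpe (K2.f21024 IH) (Lpe (K2.f21157 IH) (Lpe (f21159 IH) (Lpn (LP (LK LD1_c0 LD2_c48 LD3_c58))))))))))))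
theorem f144151 : Led Lsl_gt (LP (LK LD1_c0 LD2_c47 LD3_c57)) = (LP (LK LD1_c0 LD2_c48 LD3_c58)) :=
  Lgr Lrot94 (Lpe (K4.f109162 IH) (Lpr_gt (f144149 IH) (Lpr_dt (f84589 IH) (Lpe (f144137 IH) (Lpr_dt (K4.f23695 IH) (Lpr_cf (K2.f23685 IH) (Lpr_df (K4.f93077 IH) (Lpr_gf (f142694 IH) (Lpr_df (f142716 IH) (Lpn (LP (LK LD1_c0 LD2_c48 LD3_c58))))))))))))
theorem f124094 : Led Lsl_cf (LP (LK LD1_c1 LD2_c48 LD3_c1)) = (LP (LK LD1_c3 LD2_c13 LD3_c33)) :=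
  Lgr Lrot11 (Lpr_ct (K4.f124071 IH) (Lpn (LP (LK LD1_c3 LD2_c13 LD3_c33))))
theorem f12582 : Led Lsl_ct (LP (LK LD1_c0 LD2_c50 LD3_c28)) = (LP (LK LD1_c0 LD2_c22 LD3_c49)) :=
  Lre_c IH (LK LD1_c0 LD2_c50 LD3_c28) (LK LD1_c0 LD2_c22 LD3_c49) Lrfl Lrfl
theorem f84704 : Led Lsl_gt (LP (LK LD1_c1 LD2_c39 LD3_c10)) = (LP (LK LD1_c0 LD2_c46 LD3_c0)) :=
  Lre_g IH (LK LD1_c1 LD2_c39 LD3_c10) (LK LD1_c0 LD2_c46 LD3_c0) Lrfl Lrfl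
theorem f144157 : Led Lsl_cf (LP (LK LD1_c1 LD2_c39 LD3_c10)) = (LP (LK LD1_c0 LD2_c48 LD3_c58)) :=
  Lgr Lrot169 (Lpr_gt (f84704 IH) (Lpr_ct (K2.f84636 IH) (Lpe (K5.f128319 IH) (Lpe (f12582 IH) (Lpe (K4.f12581 IH) (Lpr_cf (K4.f122483 IH) (Lpe (K4.f116007 IH) (Lpr_df (K4.f116015 IH) (Lpr_gt (f144151 IH) (Lpn (LP (LK LD1_c0 LD2_c48 LD3_c58))))))))))))
theorem f144161 : Led Lsl_df (LP (LK LD1_c1 LD2_c48 LD3_c1)) = (LP (LK LD1_c1 LD2_c39 LD3_c10)) :=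
  Lgr Lrot162 (Lpr_cf (f124094 IH) (Lpe (K4.f23617 IH) (Lpe (K4.f23616 IH) (Lpe (K4.f124063 IH) (Lpr_dt (K5.f24850 IH) (Lpr_gt (K3.f21026 IH) (Lpr_ct (K4.f109162 IH) (Lpr_gt (f144151 IH) (Lpe (f144157 IH) (Lpn (LP (LK LD1_c1 LD2_c39 LD3_c10))))))))))))
theorem f24847 : Led Lsl_ct (LP (LK LD1_c1 LD2_c35 LD3_c58)) = (LP (LK LD1_c0 LD2_c44 LD3_c30)) :=
  Lre_c IH (LK LD1_c1 LD2_c35 LD3_c58) (LK LD1_c0 LD2_c44 LD3_c30) Lrfl Lrfl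
theorem f144339 : Led Lsl_gt (LP (LK LD1_c1 LD2_c48 LD3_c2)) = (LP (LK LD1_c1 LD2_c35 LD3_c58)) :=
  Lgr Lrot150 (Lpe (K5.f26226 IH) (Lpe (K4.f26233 IH) (Lpr_df (f144161 IH) (Lpr_gt (f84704 IH) (Lpr_ct (K2.f84636 IH) (Lpe (K5.f134832 IH) (Lpr_ct (K5.f21098 IH) (Lpe (K5.f24842 IH) (Lpe (f24847 IH) (Lpn (LP (LK LD1_c1 LD2_c35 LD3_c58))))))))))))
theorem f13326 : Led Lsl_ct (LP (LK LD1_c1 LD2_c49 LD3_c8)) = (LP (LK LD1_c0 LD2_c51 LD3_c20)) :=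
  Lre_c IH (LK LD1_c1 LD2_c49 LD3_c8) (LK LD1_c0 LD2_c51 LD3_c20) Lrfl Lrfl
theorem f144343 : Led Lsl_gt (LP (LK LD1_c3 LD2_c42 LD3_c6)) = (LP (LK LD1_c1 LD2_c49 LD3_c8)) :=
  Lgr Lrot9 (Lpe (K5.f125586 IH) (Lpr_gt (f144339 IH) (Lpr_ct (f24847 IH) (Lpr_gt (K5.f134794 IH) (Lpr_ct (K5.f107570 IH) (Lpe (K4.f108892 IH) (Lpe (K4.f121247 IH) (Lpe (K4.f12926 IH) (Lpe (f13326 IH) (Lpn (LP (LK LD1_c1 LD2_c49 LD3_c8))))))))))))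
theorem f124066 : Led Lsl_gt (LP (LK LD1_c1 LD2_c48 LD3_c7)) = (LP (LK LD1_c3 LD2_c42 LD3_c18)) :=
  Lre_g IH (LK LD1_c1 LD2_c48 LD3_c7) (LK LD1_c3 LD2_c42 LD3_c18) Lrfl Lrfl
theorem f142696 : Led Lsl_df (LP (LK LD1_c1 LD2_c48 LD3_c50)) = (LP (LK LD1_c3 LD2_c42 LD3_c18)) :=
  Lgr Lrot84 (Lpr_cf (K3.f12764 IH) (Lpr_df (K3.f104140 IH) (Lpe (K3.f103596 IH) (Lpr_df (K4.f93077 IH) (Lpr_gf (f142694 IH) (Lpr_cf (K5.f132166 IH) (Lpr_gt (K5.f26199 IH) (Lpr_dt (f124065 IH) (Lpr_gt (f124066 IH) (Lpn (LP (LK LD1_c3 LD2_c42 LD3_c18))))))))))))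
theorem f144659 : Led Lsl_gf (LP (LK LD1_c1 LD2_c48 LD3_c19)) = (LP (LK LD1_c3 LD2_c42 LD3_c18)) :=
  Lgr Lrot147 (Lpe (f125592 IH) (Lpr_gt (f144343 IH) (Lpr_ct (f13326 IH) (Lpe (K4.f13389 IH) (Lpe (K4.f11304 IH) (Lpe (K4.f12766 IH) (Lpe (K4.f12905 IH) (Lpr_gf (K4.f116531 IH) (Lpr_df (f142696 IH) (Lpn (LP (LK LD1_c3 LD2_c42 LD3_c18))))))))))))
theorem f144663 : Led Lsl_bt (LP (LK LD1_c7 LD2_c25 LD3_c18)) = (LP (LK LD1_c3 LD2_c42 LD3_c18)) :=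
  Lre_b IH (LK LD1_c7 LD2_c25 LD3_c18) (LK LD1_c3 LD2_c42 LD3_c18) Lrfl Lrfl
theorem f12914 : Led Lsl_bt (LP (LK LD1_c0 LD2_c51 LD3_c20)) = (LP (LK LD1_c0 LD2_c50 LD3_c35)) :=
  Lgr Lrot127 (Lpr_bf (K5.f12896 IH) (Lpn (LP (LK LD1_c0 LD2_c50 LD3_c35))))
theorem f13392 : Led Lsl_ct (LP (LK LD1_c3 LD2_c41 LD3_c25)) = (LP (LK LD1_c7 LD2_c23 LD3_c20)) :=
  Lre_c IH (LK LD1_c3 LD2_c41 LD3_c25) (LK LD1_c7 LD2_c23 LD3_c20) Lrfl Lrfl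
theorem f13393 : Led Lsl_gt (LP (LK LD1_c7 LD2_c23 LD3_c20)) = (LP (LK LD1_c13 LD2_c58 LD3_c16)) :=
  Lre_g IH (LK LD1_c7 LD2_c23 LD3_c20) (LK LD1_c13 LD2_c58 LD3_c16) Lrfl Lrfl
theorem f144664 : Led Lsl_ct (LP (LK LD1_c7 LD2_c25 LD3_c18)) = (LP (LK LD1_c13 LD2_c58 LD3_c16)) :=
  Lgr Lrot10 (Lpr_bt (f144663 IH) (Lpe (f144659 IH) (Lpe (f125592 IH) (Lpr_gt (f144343 IH) (Lpe (f12916 IH) (Lpr_bt (f12914 IH) (Lpr_gt (K4.f13390 IH) (Lpe (K5.f13391 IH) (Lpr_ct (f13392 IH) (Lpr_gt (f13393 IH) (Lpn (LP (LK LD1_c13 LD2_c58 LD3_c16)))))))))))))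
theorem f136706 : Led Lsl_at (LP (LK LD1_c1 LD2_c51 LD3_c59)) = (LP (LK LD1_c0 LD2_c52 LD3_c45)) :=
  Lre_a IH (LK LD1_c1 LD2_c51 LD3_c59) (LK LD1_c0 LD2_c52 LD3_c45) Lrfl Lrfl
theorem f136710 : Led Lsl_gt (LP (LK LD1_c3 LD2_c47 LD3_c24)) = (LP (LK LD1_c1 LD2_c51 LD3_c58)) :=
  Lgr Lrot5 (Lpr_ft (f136515 IH) (Lpr_at (f136706 IH) (Lpe (K5.f65963 IH) (Lpn (LP (LK LD1_c1 LD2_c51 LD3_c58))))))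
theorem f132302 : Led Lsl_ct (LP (LK LD1_c1 LD2_c52 LD3_c8)) = (LP (LK LD1_c3 LD2_c50 LD3_c27)) :=
  Lre_c IH (LK LD1_c1 LD2_c52 LD3_c8) (LK LD1_c3 LD2_c50 LD3_c27) Lrfl Lrfl
theorem f12328 : Led Lsl_at (LP (LK LD1_c1 LD2_c52 LD3_c9)) = (LP (LK LD1_c3 LD2_c50 LD3_c27)) :=
  Lre_a IH (LK LD1_c1 LD2_c52 LD3_c9) (LK LD1_c3 LD2_c50 LD3_c27) Lrfl Lrfl
theorem f132300 : Led Lsl_gf (LP (LK LD1_c3 LD2_c50 LD3_c27)) = (LP (LK LD1_c3 LD2_c26 LD3_c27)) :=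
  Lgr Lrot76 (Lpe (f12328 IH) (Lpr_ff (K5.f132289 IH) (Lpr_gt (K3.f12059 IH) (Lpn (LP (LK LD1_c3 LD2_c26 LD3_c27))))))
theorem f15635 : Led Lsl_ct (LP (LK LD1_c3 LD2_c26 LD3_c28)) = (LP (LK LD1_c3 LD2_c26 LD3_c27)) :=
  Lgr Lrot59 (Lpr_cf (K3.f15632 IH) (Lpn (LP (LK LD1_c3 LD2_c26 LD3_c27))))
theorem f136521 : Led Lsl_ft (LP (LK LD1_c1 LD2_c52 LD3_c8)) = (LP (LK LD1_c3 LD2_c47 LD3_c17)) :=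
  Lgr Lrot48 (Lpr_ff (f136512 IH) (Lpn (LP (LK LD1_c3 LD2_c47 LD3_c17))))
theorem f136527 : Led Lsl_gt (LP (LK LD1_c1 LD2_c52 LD3_c8)) = (LP (LK LD1_c3 LD2_c47 LD3_c16)) :=
  Lgr Lrot5 (Lpr_ft (f136521 IH) (Lpr_at (K5.f15202 IH) (Lpe (f15206 IH) (Lpn (LP (LK LD1_c3 LD2_c47 LD3_c16))))))
theorem f132303 : Led Lsl_ct (LP (LK LD1_c3 LD2_c50 LD3_c27)) = (LP (LK LD1_c1 LD2_c52 LD3_c8)) :=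
  Lre_c IH (LK LD1_c3 LD2_c50 LD3_c27) (LK LD1_c1 LD2_c52 LD3_c8) Lrfl Lrfl
theorem f97905 : Led Lsl_af (LP (LK LD1_c3 LD2_c36 LD3_c33)) = (LP (LK LD1_c3 LD2_c33 LD3_c19)) :=
  Lgr Lrot45 (Lpr_ft (K3.f97020 IH) (Lpr_at (K3.f97901 IH) (Lpr_ft (K3.f96881 IH) (Lpn (LP (LK LD1_c3 LD2_c33 LD3_c19))))))
theorem f127864 : Led Lsl_gf (LP (LK LD1_c3 LD2_c33 LD3_c20)) = (LP (LK LD1_c3 LD2_c36 LD3_c44)) :=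
  Lgr Lrot47 (Lpr_gt (K5.f127862 IH) (Lpr_af (f97905 IH) (Lpe (K3.f96881 IH) (Lpn (LP (LK LD1_c3 LD2_c36 LD3_c44))))))
theorem f136529 : Led Lsl_bt (LP (LK LD1_c3 LD2_c50 LD3_c27)) = (LP (LK LD1_c3 LD2_c26 LD3_c48)) :=
  Lgr Lrot92 (Lpr_ct (f132303 IH) (Lpr_gt (f136527 IH) (Lpe (f136444 IH) (Lpr_bt (f136392 IH) (Lpr_gt (f136359 IH) (Lpr_ct (K3.f97876 IH) (Lpe (f127864 IH) (Lpe (K5.f104067 IH) (Lpr_bt (K5.f127750 IH) (Lpr_gt (K5.f127870 IH) (Lpn (LP (LK LD1_c3 LD2_c26 LD3_c48)))))))))))))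
theorem f136537 : Led Lsl_gf (LP (LK LD1_c1 LD2_c52 LD3_c8)) = (LP (LK LD1_c3 LD2_c47 LD3_c15)) :=
  Lgr Lrot129 (Lpe (f132303 IH) (Lpr_bt (f136529 IH) (Lpe (K5.f127929 IH) (Lpe (K4.f96137 IH) (Lpe (K3.f96122 IH) (Lpr_gt (K3.f12331 IH) (Lpe (K1.f12199 IH) (Lpr_bt (f12291 IH) (Lpr_gt (f12296 IH) (Lpr_ct (f136336 IH) (Lpn (LP (LK LD1_c3 LD2_c47 LD3_c15)))))))))))))
theorem f109401 : Led Lsl_dt (LP (LK LD1_c4 LD2_c48 LD3_c51)) = (LP (LK LD1_c3 LD2_c47 LD3_c15)) :=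
  Lgr Lrot42 (Lpr_df (K3.f109396 IH) (Lpn (LP (LK LD1_c3 LD2_c47 LD3_c15))))
theorem f58945 : Led Lsl_ct (LP (LK LD1_c1 LD2_c4 LD3_c10)) = (LP (LK LD1_c2 LD2_c14 LD3_c14)) :=
  Lre_c IH (LK LD1_c1 LD2_c4 LD3_c10) (LK LD1_c2 LD2_c14 LD3_c14) Lrfl Lrfl
theorem f136539 : Led Lsl_gt (LP (LK LD1_c3 LD2_c50 LD3_c27)) = (LP (LK LD1_c3 LD2_c26 LD3_c28)) :=
  Lgr Lrot150 (Lpe (f132302 IH) (Lpr_gf (f136537 IH) (Lpe (f109401 IH) (Lpr_gt (K5.f130533 IH) (Lpe (K5.f130537 IH) (Lpr_gt (K5.f61821 IH) (Lpr_ct (f58945 IH) (Lpr_df (K3.f92034 IH) (Lpe (f15635 IH) (Lpn (LP (LK LD1_c3 LD2_c26 LD3_c28))))))))))))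
theorem f136533 : Led Lsl_bf (LP (LK LD1_c3 LD2_c50 LD3_c27)) = (LP (LK LD1_c3 LD2_c26 LD3_c48)) :=
  Lgr Lrot24 (Lpr_bt (f136529 IH) (Lpn (LP (LK LD1_c3 LD2_c26 LD3_c48))))
theorem f114455 : Led Lsl_ct (LP (LK LD1_c3 LD2_c26 LD3_c48)) = (LP (LK LD1_c6 LD2_c55 LD3_c12)) :=
  Lre_c IH (LK LD1_c3 LD2_c26 LD3_c48) (LK LD1_c6 LD2_c55 LD3_c12) Lrfl Lrfl
theorem f136714 : Led Lsl_gf (LP (LK LD1_c6 LD2_c55 LD3_c12)) = (LP (LK LD1_c7 LD2_c24 LD3_c61)) :=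
  Lgr Lrot126 (Lpe (f114455 IH) (Lpe (f136533 IH) (Lpr_gt (f136539 IH) (Lpr_ct (f15635 IH) (Lpe (f132300 IH) (Lpe (f132302 IH) (Lpe (f110091 IH) (Lpr_gt (f136710 IH) (Lpe (K5.f65964 IH) (Lpe (K5.f122705 IH) (Lpn (LP (LK LD1_c7 LD2_c24 LD3_c61)))))))))))))
theorem f126475 : Led Lsl_ct (LP (LK LD1_c7 LD2_c23 LD3_c20)) = (LP (LK LD1_c3 LD2_c41 LD3_c25)) :=
  Lre_c IH (LK LD1_c7 LD2_c23 LD3_c20) (LK LD1_c3 LD2_c41 LD3_c25) Lrfl Lrfl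
theorem f126476 : Led Lsl_gt (LP (LK LD1_c13 LD2_c58 LD3_c17)) = (LP (LK LD1_c7 LD2_c23 LD3_c20)) :=
  Lre_g IH (LK LD1_c13 LD2_c58 LD3_c17) (LK LD1_c7 LD2_c23 LD3_c20) Lrfl Lrfl
theorem f122694 : Led Lsl_dt (LP (LK LD1_c14 LD2_c1 LD3_c41)) = (LP (LK LD1_c7 LD2_c24 LD3_c61)) :=
  Lre_d IH (LK LD1_c14 LD2_c1 LD3_c41) (LK LD1_c7 LD2_c24 LD3_c61) Lrfl Lrfl
theorem f88244 : Led Lsl_ct (LP (LK LD1_c14 LD2_c13 LD3_c47)) = (LP (LK LD1_c7 LD2_c32 LD3_c50)) :=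
  Lre_c IH (LK LD1_c14 LD2_c13 LD3_c47) (LK LD1_c7 LD2_c32 LD3_c50) Lrfl Lrfl
theorem f130259 : Led Lsl_gf (LP (LK LD1_c7 LD2_c32 LD3_c50)) = (LP (LK LD1_c6 LD2_c51 LD3_c46)) :=
  Lgr Lrot129 (Lpe (f88244 IH) (Lpr_bt (f127872 IH) (Lpr_gt (f15552 IH) (Lpe (K4.f40418 IH) (Lpr_ct (K0.f14980 IH) (Lpr_gt (K2.f77319 IH) (Lpe (K2.f83725 IH) (Lpr_bt (K5.f83915 IH) (Lpr_gt (f83916 IH) (Lpr_ct (f130248 IH) (Lpn (LP (LK LD1_c6 LD2_c51 LD3_c46)))))))))))))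
theorem f130263 : Led Lsl_gt (LP (LK LD1_c7 LD2_c32 LD3_c50)) = (LP (LK LD1_c6 LD2_c53 LD3_c59)) :=
  Lgr Lrot46 (Lpr_gf (f130259 IH) (Lpe (K4.f102512 IH) (Lpr_at (f102852 IH) (Lpn (LP (LK LD1_c6 LD2_c53 LD3_c59))))))
theorem f120976 : Led Lsl_dt (LP (LK LD1_c7 LD2_c24 LD3_c61)) = (LP (LK LD1_c14 LD2_c1 LD3_c41)) :=
  Lre_d IH (LK LD1_c7 LD2_c24 LD3_c61) (LK LD1_c14 LD2_c1 LD3_c41) Lrfl Lrfl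
theorem f102451 : Led Lsl_dt (LP (LK LD1_c6 LD2_c53 LD3_c59)) = (LP (LK LD1_c3 LD2_c26 LD3_c3)) :=
  Lre_d IH (LK LD1_c6 LD2_c53 LD3_c59) (LK LD1_c3 LD2_c26 LD3_c3) Lrfl Lrfl
theorem f102455 : Led Lsl_dt (LP (LK LD1_c13 LD2_c6 LD3_c21)) = (LP (LK LD1_c6 LD2_c53 LD3_c46)) :=
  Lre_d IH (LK LD1_c13 LD2_c6 LD3_c21) (LK LD1_c6 LD2_c53 LD3_c46) Lrfl Lrfl
theorem f130274 : Led Lsl_gt (LP (LK LD1_c14 LD2_c1 LD3_c41)) = (LP (LK LD1_c13 LD2_c6 LD3_c21)) :=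
  Lgr Lrot49 (Lpe (f120976 IH) (Lpe (K5.f120975 IH) (Lpr_cf (K5.f122696 IH) (Lpe (K5.f127868 IH) (Lpr_dt (f88245 IH) (Lpr_gt (f130263 IH) (Lpr_dt (f102451 IH) (Lpe (K4.f102450 IH) (Lpe (f102455 IH) (Lpn (LP (LK LD1_c13 LD2_c6 LD3_c21))))))))))))
theorem f136720 : Led Lsl_cf (LP (LK LD1_c13 LD2_c58 LD3_c17)) = (LP (LK LD1_c13 LD2_c6 LD3_c21)) :=
  Lgr Lrot169 (Lpr_gt (f126476 IH) (Lpr_ct (f126475 IH) (Lpr_df (K5.f124038 IH) (Lpe (K5.f126463 IH) (Lpr_gf (K5.f127929 IH) (Lpe (K5.f114461 IH) (Lpr_gf (f136714 IH) (Lpe (f122694 IH) (Lpr_gt (f130274 IH) (Lpn (LP (LK LD1_c13 LD2_c6 LD3_c21))))))))))))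
theorem f130302 : Led Lsl_at (LP (LK LD1_c6 LD2_c53 LD3_c47)) = (LP (LK LD1_c13 LD2_c6 LD3_c21)) :=
  Lre_a IH (LK LD1_c6 LD2_c53 LD3_c47) (LK LD1_c13 LD2_c6 LD3_c21) Lrfl Lrfl
theorem f136722 : Led Lsl_at (LP (LK LD1_c13 LD2_c58 LD3_c17)) = (LP (LK LD1_c13 LD2_c6 LD3_c24)) :=
  Lgr Lrot107 (Lpr_cf (f136720 IH) (Lpe (f130302 IH) (Lpe (K5.f103651 IH) (Lpn (LP (LK LD1_c13 LD2_c6 LD3_c24))))))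
theorem f121129 : Led Lsl_gt (LP (LK LD1_c14 LD2_c7 LD3_c41)) = (LP (LK LD1_c7 LD2_c29 LD3_c3)) :=
  Lre_g IH (LK LD1_c14 LD2_c7 LD3_c41) (LK LD1_c7 LD2_c29 LD3_c3) Lrfl Lrfl
theorem f136728 : Led Lsl_ff (LP (LK LD1_c13 LD2_c58 LD3_c17)) = (LP (LK LD1_c14 LD2_c7 LD3_c41)) :=
  Lgr Lrot52 (Lpr_at (f136722 IH) (Lpe (K5.f129160 IH) (Lpe (f121129 IH) (Lpn (LP (LK LD1_c14 LD2_c7 LD3_c41))))))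
theorem f136730 : Led Lsl_ft (LP (LK LD1_c13 LD2_c58 LD3_c17)) = (LP (LK LD1_c14 LD2_c7 LD3_c41)) :=
  Lgr Lrot48 (Lpr_ff (f136728 IH) (Lpn (LP (LK LD1_c14 LD2_c7 LD3_c41))))
theorem f136732 : Led Lsl_af (LP (LK LD1_c13 LD2_c58 LD3_c16)) = (LP (LK LD1_c14 LD2_c7 LD3_c41)) :=
  Lgr Lrot31 (Lpe (f13393 IH) (Lpe (f126476 IH) (Lpr_ft (f136730 IH) (Lpn (LP (LK LD1_c14 LD2_c7 LD3_c41))))))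
theorem f136724 : Led Lsl_ct (LP (LK LD1_c13 LD2_c58 LD3_c17)) = (LP (LK LD1_c13 LD2_c6 LD3_c21)) :=
  Lgr Lrot59 (Lpr_cf (f136720 IH) (Lpn (LP (LK LD1_c13 LD2_c6 LD3_c21))))
theorem f135877 : Led Lsl_at (LP (LK LD1_c13 LD2_c6 LD3_c21)) = (LP (LK LD1_c6 LD2_c53 LD3_c47)) :=
  Lre_a IH (LK LD1_c13 LD2_c6 LD3_c21) (LK LD1_c6 LD2_c53 LD3_c47) Lrfl Lrfl
theorem f136726 : Led Lsl_af (LP (LK LD1_c13 LD2_c58 LD3_c17)) = (LP (LK LD1_c13 LD2_c6 LD3_c24)) :=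
  Lgr Lrot68 (Lpr_ct (f136724 IH) (Lpr_at (f135877 IH) (Lpr_ct (K5.f102873 IH) (Lpn (LP (LK LD1_c13 LD2_c6 LD3_c24))))))
theorem f136736 : Led Lsl_ft (LP (LK LD1_c13 LD2_c58 LD3_c16)) = (LP (LK LD1_c13 LD2_c6 LD3_c24)) :=
  Lgr Lrot101 (Lpr_af (f136732 IH) (Lpe (f136730 IH) (Lpr_af (f136726 IH) (Lpn (LP (LK LD1_c13 LD2_c6 LD3_c24))))))
theorem f136738 : Led Lsl_ff (LP (LK LD1_c13 LD2_c58 LD3_c16)) = (LP (LK LD1_c13 LD2_c6 LD3_c24)) :=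
  Lgr Lrot3 (Lpr_ft (f136736 IH) (Lpn (LP (LK LD1_c13 LD2_c6 LD3_c24))))
theorem f136734 : Led Lsl_at (LP (LK LD1_c13 LD2_c58 LD3_c16)) = (LP (LK LD1_c14 LD2_c7 LD3_c41)) :=
  Lgr Lrot100 (Lpr_af (f136732 IH) (Lpn (LP (LK LD1_c14 LD2_c7 LD3_c41))))
theorem f121021 : Led Lsl_df (LP (LK LD1_c3 LD2_c44 LD3_c6)) = (LP (LK LD1_c1 LD2_c54 LD3_c5)) :=
  Lgr Lrot12 (Lpr_bt (K5.f12928 IH) (Lpr_dt (K4.f121015 IH) (Lpr_bt (K5.f121017 IH) (Lpn (LP (LK LD1_c1 LD2_c54 LD3_c5))))))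
theorem f129348 : Led Lsl_dt (LP (LK LD1_c3 LD2_c41 LD3_c25)) = (LP (LK LD1_c1 LD2_c53 LD3_c40)) :=
  Lgr Lrot60 (Lpe (K5.f129316 IH) (Lpr_df (f121021 IH) (Lpr_ff (K5.f129341 IH) (Lpn (LP (LK LD1_c1 LD2_c53 LD3_c40))))))
theorem f129329 : Led Lsl_at (LP (LK LD1_c7 LD2_c23 LD3_c19)) = (LP (LK LD1_c3 LD2_c41 LD3_c25)) :=
  Lre_a IH (LK LD1_c7 LD2_c23 LD3_c19) (LK LD1_c3 LD2_c41 LD3_c25) Lrfl Lrfl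
theorem f129355 : Led Lsl_df (LP (LK LD1_c7 LD2_c23 LD3_c19)) = (LP (LK LD1_c3 LD2_c54 LD3_c4)) :=
  Lgr Lrot18 (Lpr_at (f129329 IH) (Lpr_dt (f129348 IH) (Lpr_at (K5.f126471 IH) (Lpn (LP (LK LD1_c3 LD2_c54 LD3_c4))))))
theorem f129328 : Led Lsl_ct (LP (LK LD1_c13 LD2_c58 LD3_c15)) = (LP (LK LD1_c7 LD2_c23 LD3_c19)) :=
  Lre_c IH (LK LD1_c13 LD2_c58 LD3_c15) (LK LD1_c7 LD2_c23 LD3_c19) Lrfl Lrfl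
theorem f95028 : Led Lsl_ct (LP (LK LD1_c3 LD2_c26 LD3_c40)) = (LP (LK LD1_c1 LD2_c40 LD3_c2)) :=
  Lre_c IH (LK LD1_c3 LD2_c26 LD3_c40) (LK LD1_c1 LD2_c40 LD3_c2) Lrfl Lrfl
theorem f95132 : Led Lsl_gt (LP (LK LD1_c6 LD2_c55 LD3_c11)) = (LP (LK LD1_c3 LD2_c26 LD3_c40)) :=
  Lre_g IH (LK LD1_c6 LD2_c55 LD3_c11) (LK LD1_c3 LD2_c26 LD3_c40) Lrfl Lrfl
theorem f111358 : Led Lsl_at (LP (LK LD1_c6 LD2_c55 LD3_c12)) = (LP (LK LD1_c3 LD2_c26 LD3_c40)) :=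
  Lre_a IH (LK LD1_c6 LD2_c55 LD3_c12) (LK LD1_c3 LD2_c26 LD3_c40) Lrfl Lrfl
theorem f127978 : Led Lsl_gt (LP (LK LD1_c7 LD2_c25 LD3_c1)) = (LP (LK LD1_c6 LD2_c55 LD3_c11)) :=
  Lgr Lrot5 (Lpr_ft (K5.f127969 IH) (Lpr_at (f111358 IH) (Lpe (f95132 IH) (Lpn (LP (LK LD1_c6 LD2_c55 LD3_c11))))))
theorem f96313 : Led Lsl_dt (LP (LK LD1_c6 LD2_c53 LD3_c47)) = (LP (LK LD1_c3 LD2_c25 LD3_c57)) :=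
  Lre_d IH (LK LD1_c6 LD2_c53 LD3_c47) (LK LD1_c3 LD2_c25 LD3_c57) Lrfl Lrfl
theorem f96314 : Led Lsl_gt (LP (LK LD1_c13 LD2_c6 LD3_c23)) = (LP (LK LD1_c6 LD2_c53 LD3_c47)) :=
  Lre_g IH (LK LD1_c13 LD2_c6 LD3_c23) (LK LD1_c6 LD2_c53 LD3_c47) Lrfl Lrfl
theorem f127980 : Led Lsl_df (LP (LK LD1_c13 LD2_c6 LD3_c23)) = (LP (LK LD1_c6 LD2_c55 LD3_c11)) :=
  Lgr Lrot153 (Lpr_gt (f96314 IH) (Lpr_dt (f96313 IH) (Lpe (K4.f96315 IH) (Lpe (K4.f96311 IH) (Lpe (K5.f96306 IH) (Lpe (K5.f88218 IH) (Lpe (K5.f88234 IH) (Lpe (f127937 IH) (Lpr_gt (f127978 IH) (Lpn (LP (LK LD1_c6 LD2_c55 LD3_c11))))))))))))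
theorem f127984 : Led Lsl_dt (LP (LK LD1_c13 LD2_c6 LD3_c23)) = (LP (LK LD1_c6 LD2_c55 LD3_c11)) :=
  Lgr Lrot42 (Lpr_df (f127980 IH) (Lpn (LP (LK LD1_c6 LD2_c55 LD3_c11))))
theorem f129544 : Led Lsl_gf (LP (LK LD1_c13 LD2_c58 LD3_c15)) = (LP (LK LD1_c13 LD2_c6 LD3_c24)) :=
  Lgr Lrot104 (Lpr_ct (f129328 IH) (Lpr_df (f129355 IH) (Lpr_cf (K5.f129378 IH) (Lpe (K5.f91299 IH) (Lpe (f95028 IH) (Lpe (f95132 IH) (Lpe (f127984 IH) (Lpr_gt (f96314 IH) (Lpr_ct (K5.f102873 IH) (Lpn (LP (LK LD1_c13 LD2_c6 LD3_c24))))))))))))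
theorem f136740 : Led Lsl_gf (LP (LK LD1_c14 LD2_c7 LD3_c41)) = (LP (LK LD1_c13 LD2_c58 LD3_c15)) :=
  Lgr Lrot76 (Lpe (f136734 IH) (Lpr_ff (f136738 IH) (Lpe (f129544 IH) (Lpn (LP (LK LD1_c13 LD2_c58 LD3_c15))))))
theorem f121193 : Led Lsl_at (LP (LK LD1_c14 LD2_c7 LD3_c39)) = (LP (LK LD1_c7 LD2_c29 LD3_c3)) :=
  Lre_a IH (LK LD1_c14 LD2_c7 LD3_c39) (LK LD1_c7 LD2_c29 LD3_c3) Lrfl Lrfl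
theorem f136742 : Led Lsl_ff (LP (LK LD1_c14 LD2_c7 LD3_c39)) = (LP (LK LD1_c13 LD2_c58 LD3_c15)) :=
  Lgr Lrot52 (Lpr_at (f121193 IH) (Lpe (f121129 IH) (Lpr_gf (f136740 IH) (Lpn (LP (LK LD1_c13 LD2_c58 LD3_c15))))))
theorem f136744 : Led Lsl_ft (LP (LK LD1_c14 LD2_c7 LD3_c39)) = (LP (LK LD1_c13 LD2_c58 LD3_c15)) :=
  Lgr Lrot48 (Lpr_ff (f136742 IH) (Lpn (LP (LK LD1_c13 LD2_c58 LD3_c15))))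
theorem f126474 : Led Lsl_at (LP (LK LD1_c13 LD2_c58 LD3_c15)) = (LP (LK LD1_c7 LD2_c23 LD3_c20)) :=
  Lre_a IH (LK LD1_c13 LD2_c58 LD3_c15) (LK LD1_c7 LD2_c23 LD3_c20) Lrfl Lrfl
theorem f136746 : Led Lsl_gt (LP (LK LD1_c14 LD2_c7 LD3_c39)) = (LP (LK LD1_c13 LD2_c58 LD3_c17)) :=
  Lgr Lrot5 (Lpr_ft (f136744 IH) (Lpr_at (f126474 IH) (Lpe (f126476 IH) (Lpn (LP (LK LD1_c13 LD2_c58 LD3_c17))))))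
theorem f136748 : Led Lsl_gf (LP (LK LD1_c14 LD2_c7 LD3_c39)) = (LP (LK LD1_c13 LD2_c58 LD3_c16)) :=
  Lgr Lrot47 (Lpr_gt (f136746 IH) (Lpr_af (f136726 IH) (Lpe (f136736 IH) (Lpn (LP (LK LD1_c13 LD2_c58 LD3_c16))))))
theorem f121144 : Led Lsl_ct (LP (LK LD1_c14 LD2_c7 LD3_c39)) = (LP (LK LD1_c7 LD2_c29 LD3_c2)) :=
  Lre_c IH (LK LD1_c14 LD2_c7 LD3_c39) (LK LD1_c7 LD2_c29 LD3_c2) Lrfl Lrfl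
theorem f121123 : Led Lsl_at (LP (LK LD1_c7 LD2_c29 LD3_c2)) = (LP (LK LD1_c3 LD2_c44 LD3_c6)) :=
  Lre_a IH (LK LD1_c7 LD2_c29 LD3_c2) (LK LD1_c3 LD2_c44 LD3_c6) Lrfl Lrfl
theorem f121125 : Led Lsl_df (LP (LK LD1_c7 LD2_c29 LD3_c2)) = (LP (LK LD1_c3 LD2_c54 LD3_c60)) :=
  Lgr Lrot18 (Lpr_at (f121123 IH) (Lpr_dt (K5.f121113 IH) (Lpr_at (K5.f121124 IH) (Lpn (LP (LK LD1_c3 LD2_c54 LD3_c60))))))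
theorem f122691 : Led Lsl_dt (LP (LK LD1_c14 LD2_c1 LD3_c43)) = (LP (LK LD1_c7 LD2_c25 LD3_c0)) :=
  Lre_d IH (LK LD1_c14 LD2_c1 LD3_c43) (LK LD1_c7 LD2_c25 LD3_c0) Lrfl Lrfl
theorem f144675 : Led Lsl_gf (LP (LK LD1_c7 LD2_c25 LD3_c18)) = (LP (LK LD1_c14 LD2_c1 LD3_c43)) :=
  Lgr Lrot147 (Lpr_ct (f144664 IH) (Lpe (f136748 IH) (Lpr_ct (f121144 IH) (Lpr_df (f121125 IH) (Lpr_cf (K5.f129370 IH) (Lpr_gf (K5.f127868 IH) (Lpr_cf (K4.f120968 IH) (Lpe (K5.f122690 IH) (Lpe (f122691 IH) (Lpn (LP (LK LD1_c14 LD2_c1 LD3_c43))))))))))))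
theorem f122714 : Led Lsl_dt (LP (LK LD1_c7 LD2_c25 LD3_c0)) = (LP (LK LD1_c14 LD2_c1 LD3_c43)) :=
  Lre_d IH (LK LD1_c7 LD2_c25 LD3_c0) (LK LD1_c14 LD2_c1 LD3_c43) Lrfl Lrfl
theorem f122704 : Led Lsl_at (LP (LK LD1_c7 LD2_c25 LD3_c1)) = (LP (LK LD1_c3 LD2_c42 LD3_c9)) :=
  Lre_a IH (LK LD1_c7 LD2_c25 LD3_c1) (LK LD1_c3 LD2_c42 LD3_c9) Lrfl Lrfl
theorem f127995 : Led Lsl_gf (LP (LK LD1_c7 LD2_c25 LD3_c0)) = (LP (LK LD1_c6 LD2_c55 LD3_c12)) :=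
  Lgr Lrot47 (Lpr_gt (K5.f122690 IH) (Lpe (f122704 IH) (Lpr_ff (K5.f127976 IH) (Lpn (LP (LK LD1_c6 LD2_c55 LD3_c12))))))
theorem f129345 : Led Lsl_et (LP (LK LD1_c7 LD2_c49 LD3_c44)) = (LP (LK LD1_c3 LD2_c54 LD3_c4)) :=
  Lre_e IH (LK LD1_c7 LD2_c49 LD3_c44) (LK LD1_c3 LD2_c54 LD3_c4) Lrfl Lrfl
theorem f127914 : Led Lsl_et (LP (LK LD1_c3 LD2_c26 LD3_c47)) = (LP (LK LD1_c6 LD2_c55 LD3_c22)) :=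
  Lre_e IH (LK LD1_c3 LD2_c26 LD3_c47) (LK LD1_c6 LD2_c55 LD3_c22) Lrfl Lrfl
theorem f129380 : Led Lsl_cf (LP (LK LD1_c7 LD2_c49 LD3_c44)) = (LP (LK LD1_c6 LD2_c55 LD3_c22)) :=
  Lgr Lrot39 (Lpr_et (f129345 IH) (Lpr_ct (K5.f129376 IH) (Lpr_et (f127914 IH) (Lpn (LP (LK LD1_c6 LD2_c55 LD3_c22))))))
theorem f129498 : Led Lsl_ct (LP (LK LD1_c7 LD2_c49 LD3_c44)) = (LP (LK LD1_c6 LD2_c55 LD3_c22)) :=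
  Lgr Lrot59 (Lpr_cf (f129380 IH) (Lpn (LP (LK LD1_c6 LD2_c55 LD3_c22))))
theorem f129501 : Led Lsl_at (LP (LK LD1_c3 LD2_c54 LD3_c5)) = (LP (LK LD1_c7 LD2_c49 LD3_c44)) :=
  Lre_a IH (LK LD1_c3 LD2_c54 LD3_c5) (LK LD1_c7 LD2_c49 LD3_c44) Lrfl Lrfl
theorem f126458 : Led Lsl_ct (LP (LK LD1_c7 LD2_c34 LD3_c48)) = (LP (LK LD1_c3 LD2_c54 LD3_c5)) :=
  Lgr Lrot59 (Lpr_cf (K5.f126455 IH) (Lpn (LP (LK LD1_c3 LD2_c54 LD3_c5))))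
theorem f129502 : Led Lsl_af (LP (LK LD1_c7 LD2_c34 LD3_c48)) = (LP (LK LD1_c6 LD2_c55 LD3_c22)) :=
  Lgr Lrot68 (Lpr_ct (f126458 IH) (Lpr_at (f129501 IH) (Lpr_ct (f129498 IH) (Lpn (LP (LK LD1_c6 LD2_c55 LD3_c22))))))
theorem f96142 : Led Lsl_dt (LP (LK LD1_c7 LD2_c34 LD3_c48)) = (LP (LK LD1_c14 LD2_c17 LD3_c40)) :=
  Lre_d IH (LK LD1_c7 LD2_c34 LD3_c48) (LK LD1_c14 LD2_c17 LD3_c40) Lrfl Lrfl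
theorem f129500 : Led Lsl_dt (LP (LK LD1_c13 LD2_c8 LD3_c61)) = (LP (LK LD1_c6 LD2_c55 LD3_c22)) :=
  Lre_d IH (LK LD1_c13 LD2_c8 LD3_c61) (LK LD1_c6 LD2_c55 LD3_c22) Lrfl Lrfl
theorem f129508 : Led Lsl_at (LP (LK LD1_c14 LD2_c17 LD3_c40)) = (LP (LK LD1_c13 LD2_c8 LD3_c61)) :=
  Lgr Lrot51 (Lpe (f96142 IH) (Lpr_af (f129502 IH) (Lpe (f129500 IH) (Lpn (LP (LK LD1_c13 LD2_c8 LD3_c61))))))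
theorem f129512 : Led Lsl_bt (LP (LK LD1_c7 LD2_c34 LD3_c49)) = (LP (LK LD1_c14 LD2_c17 LD3_c40)) :=
  Lre_b IH (LK LD1_c7 LD2_c34 LD3_c49) (LK LD1_c14 LD2_c17 LD3_c40) Lrfl Lrfl
theorem f126441 : Led Lsl_af (LP (LK LD1_c7 LD2_c34 LD3_c49)) = (LP (LK LD1_c3 LD2_c48 LD3_c24)) :=
  Lgr Lrot0 (Lpr_at (K5.f126438 IH) (Lpn (LP (LK LD1_c3 LD2_c48 LD3_c24))))
theorem f93013 : Led Lsl_bt (LP (LK LD1_c7 LD2_c37 LD3_c49)) = (LP (LK LD1_c3 LD2_c48 LD3_c24)) :=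
  Lre_b IH (LK LD1_c7 LD2_c37 LD3_c49) (LK LD1_c3 LD2_c48 LD3_c24) Lrfl Lrfl
theorem f93043 : Led Lsl_at (LP (LK LD1_c14 LD2_c22 LD3_c44)) = (LP (LK LD1_c7 LD2_c37 LD3_c49)) :=
  Lre_a IH (LK LD1_c14 LD2_c22 LD3_c44) (LK LD1_c7 LD2_c37 LD3_c49) Lrfl Lrfl
theorem f129513 : Led Lsl_bf (LP (LK LD1_c14 LD2_c22 LD3_c44)) = (LP (LK LD1_c13 LD2_c8 LD3_c61)) :=
  Lgr Lrot81 (Lpr_at (f93043 IH) (Lpr_bt (f93013 IH) (Lpe (f126441 IH) (Lpr_bt (f129512 IH) (Lpr_at (f129508 IH) (Lpn (LP (LK LD1_c13 LD2_c8 LD3_c61))))))))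
theorem f17434 : Led Lsl_at (LP (LK LD1_c7 LD2_c37 LD3_c49)) = (LP (LK LD1_c14 LD2_c22 LD3_c44)) :=
  Lre_a IH (LK LD1_c7 LD2_c37 LD3_c49) (LK LD1_c14 LD2_c22 LD3_c44) Lrfl Lrfl
theorem f93010 : Led Lsl_ef (LP (LK LD1_c23 LD2_c49 LD3_c8)) = (LP (LK LD1_c14 LD2_c22 LD3_c44)) :=
  Lgr Lrot20 (Lpr_at (K5.f93009 IH) (Lpr_et (K5.f93007 IH) (Lpr_at (f17434 IH) (Lpn (LP (LK LD1_c14 LD2_c22 LD3_c44))))))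
theorem f129517 : Led Lsl_et (LP (LK LD1_c22 LD2_c17 LD3_c61)) = (LP (LK LD1_c13 LD2_c8 LD3_c61)) :=
  Lgr Lrot74 (Lpe (K5.f127700 IH) (Lpr_ef (f93010 IH) (Lpr_bf (f129513 IH) (Lpn (LP (LK LD1_c13 LD2_c8 LD3_c61))))))
theorem f129521 : Led Lsl_ef (LP (LK LD1_c22 LD2_c17 LD3_c61)) = (LP (LK LD1_c13 LD2_c8 LD3_c61)) :=
  Lgr Lrot88 (Lpr_et (f129517 IH) (Lpn (LP (LK LD1_c13 LD2_c8 LD3_c61))))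
theorem f93042 : Led Lsl_at (LP (LK LD1_c14 LD2_c13 LD3_c42)) = (LP (LK LD1_c23 LD2_c49 LD3_c8)) :=
  Lre_a IH (LK LD1_c14 LD2_c13 LD3_c42) (LK LD1_c23 LD2_c49 LD3_c8) Lrfl Lrfl
theorem f93012 : Led Lsl_bt (LP (LK LD1_c7 LD2_c32 LD3_c48)) = (LP (LK LD1_c14 LD2_c13 LD3_c42)) :=
  Lre_b IH (LK LD1_c7 LD2_c32 LD3_c48) (LK LD1_c14 LD2_c13 LD3_c42) Lrfl Lrfl
theorem f126432 : Led Lsl_at (LP (LK LD1_c13 LD2_c17 LD3_c47)) = (LP (LK LD1_c7 LD2_c32 LD3_c48)) :=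
  Lgr Lrot100 (Lpr_af (K5.f126430 IH) (Lpn (LP (LK LD1_c7 LD2_c32 LD3_c48))))
theorem f127703 : Led Lsl_bt (LP (LK LD1_c22 LD2_c33 LD3_c34)) = (LP (LK LD1_c13 LD2_c17 LD3_c47)) :=
  Lre_b IH (LK LD1_c22 LD2_c33 LD3_c34) (LK LD1_c13 LD2_c17 LD3_c47) Lrfl Lrfl
theorem f127704 : Led Lsl_af (LP (LK LD1_c22 LD2_c33 LD3_c34)) = (LP (LK LD1_c22 LD2_c17 LD3_c61)) :=
  Lgr Lrot36 (Lpr_bt (f127703 IH) (Lpr_at (f126432 IH) (Lpr_bt (f93012 IH) (Lpr_at (f93042 IH) (Lpr_bt (K5.f127700 IH) (Lpn (LP (LK LD1_c22 LD2_c17 LD3_c61))))))))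
theorem f129525 : Led Lsl_et (LP (LK LD1_c22 LD2_c33 LD3_c34)) = (LP (LK LD1_c14 LD2_c17 LD3_c40)) :=
  Lgr Lrot123 (Lpr_af (f127704 IH) (Lpr_ef (f129521 IH) (Lpe (f129508 IH) (Lpn (LP (LK LD1_c14 LD2_c17 LD3_c40))))))
theorem f127729 : Led Lsl_et (LP (LK LD1_c7 LD2_c0 LD3_c29)) = (LP (LK LD1_c13 LD2_c17 LD3_c46)) :=
  Lre_e IH (LK LD1_c7 LD2_c0 LD3_c29) (LK LD1_c13 LD2_c17 LD3_c46) Lrfl Lrfl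
theorem f126466 : Led Lsl_dt (LP (LK LD1_c14 LD2_c17 LD3_c40)) = (LP (LK LD1_c7 LD2_c34 LD3_c48)) :=
  Lre_d IH (LK LD1_c14 LD2_c17 LD3_c40) (LK LD1_c7 LD2_c34 LD3_c48) Lrfl Lrfl
theorem f129532 : Led Lsl_df (LP (LK LD1_c7 LD2_c0 LD3_c29)) = (LP (LK LD1_c3 LD2_c46 LD3_c59)) :=
  Lgr Lrot70 (Lpr_et (f127729 IH) (Lpr_dt (K5.f127714 IH) (Lpr_et (f129525 IH) (Lpr_dt (f126466 IH) (Lpr_et (K5.f96141 IH) (Lpn (LP (LK LD1_c3 LD2_c46 LD3_c59))))))))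
theorem f130261 : Led Lsl_gt (LP (LK LD1_c7 LD2_c0 LD3_c29)) = (LP (LK LD1_c6 LD2_c51 LD3_c46)) :=
  Lgr Lrot5 (Lpr_ft (K5.f127731 IH) (Lpr_at (K5.f88227 IH) (Lpr_gf (f130259 IH) (Lpn (LP (LK LD1_c6 LD2_c51 LD3_c46))))))
theorem f144681 : Led Lsl_dt (LP (LK LD1_c7 LD2_c25 LD3_c18)) = (LP (LK LD1_c3 LD2_c43 LD3_c30)) :=
  Lgr Lrot105 (Lpr_gf (f144675 IH) (Lpe (f122714 IH) (Lpr_gf (f127995 IH) (Lpe (f114455 IH) (Lpe (K5.f127929 IH) (Lpe (f129532 IH) (Lpr_gt (f130261 IH) (Lpr_dt (f12827 IH) (Lpe (K4.f12772 IH) (Lpn (LP (LK LD1_c3 LD2_c43 LD3_c30))))))))))))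
theorem f144686 : Led Lsl_df (LP (LK LD1_c7 LD2_c25 LD3_c18)) = (LP (LK LD1_c3 LD2_c43 LD3_c30)) :=
  Lgr Lrot38 (Lpr_dt (f144681 IH) (Lpn (LP (LK LD1_c3 LD2_c43 LD3_c30))))
theorem f144752 : Led Lsl_ft (LP (LK LD1_c7 LD2_c25 LD3_c18)) = (LP (LK LD1_c6 LD2_c53 LD3_c47)) :=
  Lgr Lrot54 (Lpr_df (f144686 IH) (Lpe (K4.f102863 IH) (Lpe (f96313 IH) (Lpn (LP (LK LD1_c6 LD2_c53 LD3_c47))))))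
theorem f144760 : Led Lsl_gt (LP (LK LD1_c7 LD2_c25 LD3_c18)) = (LP (LK LD1_c14 LD2_c1 LD3_c41)) :=
  Lgr Lrot5 (Lpr_ft (f144752 IH) (Lpr_at (f130302 IH) (Lpe (f130274 IH) (Lpn (LP (LK LD1_c14 LD2_c1 LD3_c41))))))
theorem f88233 : Led Lsl_at (LP (LK LD1_c14 LD2_c13 LD3_c47)) = (LP (LK LD1_c7 LD2_c32 LD3_c51)) :=
  Lre_a IH (LK LD1_c14 LD2_c13 LD3_c47) (LK LD1_c7 LD2_c32 LD3_c51) Lrfl Lrfl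
theorem f88237 : Led Lsl_gt (LP (LK LD1_c14 LD2_c13 LD3_c50)) = (LP (LK LD1_c7 LD2_c32 LD3_c51)) :=
  Lre_g IH (LK LD1_c14 LD2_c13 LD3_c50) (LK LD1_c7 LD2_c32 LD3_c51) Lrfl Lrfl
theorem f130441 : Led Lsl_gf (LP (LK LD1_c14 LD2_c13 LD3_c50)) = (LP (LK LD1_c13 LD2_c0 LD3_c60)) :=
  Lgr Lrot47 (Lpr_gt (f88237 IH) (Lpe (f88233 IH) (Lpr_ff (f130437 IH) (Lpn (LP (LK LD1_c13 LD2_c0 LD3_c60))))))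
theorem f40562 : Led Lsl_ct (LP (LK LD1_c6 LD2_c49 LD3_c38)) = (LP (LK LD1_c13 LD2_c0 LD3_c61)) :=
  Lre_c IH (LK LD1_c6 LD2_c49 LD3_c38) (LK LD1_c13 LD2_c0 LD3_c61) Lrfl Lrfl
theorem f127688 : Led Lsl_cf (LP (LK LD1_c13 LD2_c0 LD3_c60)) = (LP (LK LD1_c6 LD2_c53 LD3_c61)) :=
  Lgr Lrot97 (Lpr_bt (f40564 IH) (Lpr_ct (f40562 IH) (Lpe (f114930 IH) (Lpr_ct (K5.f127666 IH) (Lpr_bt (K5.f127682 IH) (Lpn (LP (LK LD1_c6 LD2_c53 LD3_c61))))))))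
theorem f14546 : Led Lsl_bt (LP (LK LD1_c1 LD2_c52 LD3_c19)) = (LP (LK LD1_c3 LD2_c47 LD3_c37)) :=
  Lre_b IH (LK LD1_c1 LD2_c52 LD3_c19) (LK LD1_c3 LD2_c47 LD3_c37) Lrfl Lrfl
theorem f14760 : Led Lsl_gt (LP (LK LD1_c6 LD2_c39 LD3_c44)) = (LP (LK LD1_c3 LD2_c47 LD3_c37)) :=
  Lre_g IH (LK LD1_c6 LD2_c39 LD3_c44) (LK LD1_c3 LD2_c47 LD3_c37) Lrfl Lrfl
theorem f14773 : Led Lsl_bt (LP (LK LD1_c12 LD2_c45 LD3_c18)) = (LP (LK LD1_c6 LD2_c39 LD3_c44)) :=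
  Lre_b IH (LK LD1_c12 LD2_c45 LD3_c18) (LK LD1_c6 LD2_c39 LD3_c44) Lrfl Lrfl
theorem f130443 : Led Lsl_cf (LP (LK LD1_c14 LD2_c13 LD3_c50)) = (LP (LK LD1_c12 LD2_c45 LD3_c18)) :=
  Lgr Lrot163 (Lpr_gf (f130441 IH) (Lpr_cf (f127688 IH) (Lpe (K5.f94698 IH) (Lpe (K5.f94697 IH) (Lpe (K3.f94739 IH) (Lpe (K3.f14576 IH) (Lpr_cf (K0.f14550 IH) (Lpr_bt (f14546 IH) (Lpe (f14760 IH) (Lpe (f14773 IH) (Lpn (LP (LK LD1_c12 LD2_c45 LD3_c18)))))))))))))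
theorem f130446 : Led Lsl_ct (LP (LK LD1_c14 LD2_c13 LD3_c50)) = (LP (LK LD1_c12 LD2_c45 LD3_c18)) :=
  Lgr Lrot59 (Lpr_cf (f130443 IH) (Lpn (LP (LK LD1_c12 LD2_c45 LD3_c18))))
theorem f123958 : Led Lsl_cf (LP (LK LD1_c6 LD2_c59 LD3_c42)) = (LP (LK LD1_c3 LD2_c43 LD3_c55)) :=
  Lgr Lrot11 (Lpr_ct (K5.f123949 IH) (Lpn (LP (LK LD1_c3 LD2_c43 LD3_c55))))
theorem f130450 : Led Lsl_dt (LP (LK LD1_c6 LD2_c59 LD3_c42)) = (LP (LK LD1_c12 LD2_c45 LD3_c18)) :=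
  Lgr Lrot27 (Lpr_cf (f123958 IH) (Lpe (K5.f123945 IH) (Lpr_cf (K4.f116452 IH) (Lpe (K4.f9801 IH) (Lpe (K4.f96311 IH) (Lpr_gt (K5.f94698 IH) (Lpe (f127688 IH) (Lpe (f130441 IH) (Lpr_ct (f130446 IH) (Lpn (LP (LK LD1_c12 LD2_c45 LD3_c18))))))))))))
theorem f123483 : Led Lsl_dt (LP (LK LD1_c7 LD2_c40 LD3_c52)) = (LP (LK LD1_c3 LD2_c49 LD3_c58)) :=
  Lre_d IH (LK LD1_c7 LD2_c40 LD3_c52) (LK LD1_c3 LD2_c49 LD3_c58) Lrfl Lrfl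
theorem f144762 : Led Lsl_gt (LP (LK LD1_c12 LD2_c45 LD3_c18)) = (LP (LK LD1_c7 LD2_c40 LD3_c52)) :=
  Lgr Lrot49 (Lpe (f130450 IH) (Lpr_gf (K5.f123964 IH) (Lpr_cf (K5.f108902 IH) (Lpr_gt (K4.f12829 IH) (Lpe (f144686 IH) (Lpr_gt (f144760 IH) (Lpr_dt (f122694 IH) (Lpr_cf (K5.f122705 IH) (Lpe (f123483 IH) (Lpn (LP (LK LD1_c7 LD2_c40 LD3_c52))))))))))))
theorem f88236 : Led Lsl_ct (LP (LK LD1_c7 LD2_c32 LD3_c51)) = (LP (LK LD1_c3 LD2_c45 LD3_c61)) :=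
  Lre_c IH (LK LD1_c7 LD2_c32 LD3_c51) (LK LD1_c3 LD2_c45 LD3_c61) Lrfl Lrfl
theorem f130276 : Led Lsl_dt (LP (LK LD1_c6 LD2_c56 LD3_c13)) = (LP (LK LD1_c6 LD2_c49 LD3_c60)) :=
  Lgr Lrot27 (Lpe (K5.f122712 IH) (Lpr_gf (f127995 IH) (Lpe (f114455 IH) (Lpe (K5.f127870 IH) (Lpr_df (K5.f88228 IH) (Lpr_gt (f130263 IH) (Lpe (f130229 IH) (Lpr_gt (f130228 IH) (Lpr_ct (K5.f93264 IH) (Lpn (LP (LK LD1_c6 LD2_c49 LD3_c60))))))))))))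
theorem f130448 : Led Lsl_gt (LP (LK LD1_c6 LD2_c49 LD3_c60)) = (LP (LK LD1_c12 LD2_c45 LD3_c18)) :=
  Lgr Lrot9 (Lpe (f130276 IH) (Lpr_gt (K5.f129579 IH) (Lpe (K5.f129559 IH) (Lpr_gt (K5.f121018 IH) (Lpe (K5.f121205 IH) (Lpr_df (K5.f88156 IH) (Lpe (f88236 IH) (Lpe (f88237 IH) (Lpr_cf (f130443 IH) (Lpn (LP (LK LD1_c12 LD2_c45 LD3_c18))))))))))))
theorem f144764 : Led Lsl_at (LP (LK LD1_c6 LD2_c32 LD3_c44)) = (LP (LK LD1_c7 LD2_c40 LD3_c52)) :=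
  Lgr Lrot26 (Lpe (K5.f130082 IH) (Lpr_gt (f130448 IH) (Lpr_gt (f144762 IH) (Lpn (LP (LK LD1_c7 LD2_c40 LD3_c52))))))
theorem f130094 : Led Lsl_et (LP (LK LD1_c12 LD2_c32 LD3_c56)) = (LP (LK LD1_c6 LD2_c32 LD3_c44)) :=
  Lre_e IH (LK LD1_c12 LD2_c32 LD3_c56) (LK LD1_c6 LD2_c32 LD3_c44) Lrfl Lrfl
theorem f144774 : Led Lsl_et (LP (LK LD1_c7 LD2_c40 LD3_c52)) = (LP (LK LD1_c14 LD2_c28 LD3_c51)) :=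
  Lre_e IH (LK LD1_c7 LD2_c40 LD3_c52) (LK LD1_c14 LD2_c28 LD3_c51) Lrfl Lrfl
theorem f144775 : Led Lsl_af (LP (LK LD1_c12 LD2_c32 LD3_c56)) = (LP (LK LD1_c14 LD2_c28 LD3_c51)) :=
  Lgr Lrot50 (Lpr_et (f130094 IH) (Lpr_at (f144764 IH) (Lpr_et (f144774 IH) (Lpn (LP (LK LD1_c14 LD2_c28 LD3_c51))))))
theorem f130074 : Led Lsl_bt (LP (LK LD1_c12 LD2_c32 LD3_c56)) = (LP (LK LD1_c6 LD2_c32 LD3_c45)) :=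
  Lre_b IH (LK LD1_c12 LD2_c32 LD3_c56) (LK LD1_c6 LD2_c32 LD3_c45) Lrfl Lrfl
theorem f127123 : Led Lsl_df (LP (LK LD1_c2 LD2_c20 LD3_c4)) = (LP (LK LD1_c3 LD2_c27 LD3_c11)) :=
  Lgr Lrot43 (Lpr_ct (K5.f25298 IH) (Lpr_dt (K5.f127119 IH) (Lpe (K2.f62331 IH) (Lpr_dt (K4.f25032 IH) (Lpr_ct (K4.f89322 IH) (Lpr_dt (K4.f11850 IH) (Lpr_ct (K2.f11849 IH) (Lpr_dt (K4.f116699 IH) (Lpr_ct (K5.f25297 IH) (Lpe (K5.f127071 IH) (Lpr_ct (K3.f57584 IH) (Lpr_dt (K5.f66648 IH) (Lpr_ct (K5.f127064 IH) (Lpe (K5.f127073 IH) (Lpe (K5.f89767 IH) (Lpn (LP (LK LD1_c3 LD2_c27 LD3_c11))))))))))))))))))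
theorem f129590 : Led Lsl_gt (LP (LK LD1_c3 LD2_c27 LD3_c9)) = (LP (LK LD1_c3 LD2_c14 LD3_c60)) :=
  Lgr Lrot180 (Lpr_ct (K5.f129581 IH) (Lpe (K5.f89832 IH) (Lpe (f127123 IH) (Lpr_gt (K4.f111072 IH) (Lpr_dt (K4.f93192 IH) (Lpe (K4.f111044 IH) (Lpe (K5.f127327 IH) (Lpr_gf (K5.f127325 IH) (Lpe (K5.f126569 IH) (Lpn (LP (LK LD1_c3 LD2_c14 LD3_c60))))))))))))
theorem f130016 : Led Lsl_af (LP (LK LD1_c3 LD2_c27 LD3_c10)) = (LP (LK LD1_c3 LD2_c48 LD3_c11)) :=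
  Lgr Lrot31 (Lpe (K5.f127352 IH) (Lpe (f129590 IH) (Lpr_ft (K5.f130011 IH) (Lpn (LP (LK LD1_c3 LD2_c48 LD3_c11))))))
theorem f113311 : Led Lsl_dt (LP (LK LD1_c3 LD2_c27 LD3_c10)) = (LP (LK LD1_c3 LD2_c28 LD3_c34)) :=
  Lgr Lrot42 (Lpr_df (K4.f113309 IH) (Lpn (LP (LK LD1_c3 LD2_c28 LD3_c34))))
theorem f107389 : Led Lsl_df (LP (LK LD1_c3 LD2_c48 LD3_c11)) = (LP (LK LD1_c3 LD2_c14 LD3_c36)) :=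
  Lgr Lrot155 (Lpe (K5.f89832 IH) (Lpe (K3.f89813 IH) (Lpe (K5.f89778 IH) (Lpe (K5.f64414 IH) (Lpr_dt (K1.f353 IH) (Lpe (K2.f56740 IH) (Lpe (K4.f103515 IH) (Lpe (K5.f24342 IH) (Lpr_gf (K4.f107385 IH) (Lpn (LP (LK LD1_c3 LD2_c14 LD3_c36))))))))))))
theorem f130022 : Led Lsl_at (LP (LK LD1_c3 LD2_c28 LD3_c34)) = (LP (LK LD1_c3 LD2_c14 LD3_c36)) :=
  Lgr Lrot51 (Lpe (f113311 IH) (Lpr_af (f130016 IH) (Lpr_df (f107389 IH) (Lpn (LP (LK LD1_c3 LD2_c14 LD3_c36))))))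
theorem f107401 : Led Lsl_et (LP (LK LD1_c3 LD2_c14 LD3_c36)) = (LP (LK LD1_c6 LD2_c32 LD3_c45)) :=
  Lre_e IH (LK LD1_c3 LD2_c14 LD3_c36) (LK LD1_c6 LD2_c32 LD3_c45) Lrfl Lrfl
theorem f130068 : Led Lsl_af (LP (LK LD1_c6 LD2_c59 LD3_c0)) = (LP (LK LD1_c6 LD2_c32 LD3_c45)) :=
  Lgr Lrot50 (Lpr_et (K5.f62296 IH) (Lpr_at (f130022 IH) (Lpr_et (f107401 IH) (Lpn (LP (LK LD1_c6 LD2_c32 LD3_c45))))))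
theorem f144779 : Led Lsl_bt (LP (LK LD1_c7 LD2_c40 LD3_c56)) = (LP (LK LD1_c14 LD2_c28 LD3_c51)) :=
  Lre_b IH (LK LD1_c7 LD2_c40 LD3_c56) (LK LD1_c14 LD2_c28 LD3_c51) Lrfl Lrfl
theorem f144780 : Led Lsl_at (LP (LK LD1_c6 LD2_c38 LD3_c22)) = (LP (LK LD1_c7 LD2_c40 LD3_c56)) :=
  Lgr Lrot67 (Lpe (K4.f62262 IH) (Lpr_af (f130068 IH) (Lpe (f130074 IH) (Lpr_af (f144775 IH) (Lpe (f144779 IH) (Lpn (LP (LK LD1_c7 LD2_c40 LD3_c56))))))))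
theorem f62295 : Led Lsl_dt (LP (LK LD1_c12 LD2_c42 LD3_c24)) = (LP (LK LD1_c6 LD2_c38 LD3_c22)) :=
  Lre_d IH (LK LD1_c12 LD2_c42 LD3_c24) (LK LD1_c6 LD2_c38 LD3_c22) Lrfl Lrfl
theorem f144787 : Led Lsl_dt (LP (LK LD1_c7 LD2_c40 LD3_c56)) = (LP (LK LD1_c14 LD2_c28 LD3_c56)) :=
  Lre_d IH (LK LD1_c7 LD2_c40 LD3_c56) (LK LD1_c14 LD2_c28 LD3_c56) Lrfl Lrfl
theorem f144788 : Led Lsl_af (LP (LK LD1_c12 LD2_c42 LD3_c24)) = (LP (LK LD1_c14 LD2_c28 LD3_c56)) :=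
  Lgr Lrot117 (Lpr_dt (f62295 IH) (Lpr_at (f144780 IH) (Lpr_dt (f144787 IH) (Lpn (LP (LK LD1_c14 LD2_c28 LD3_c56))))))
theorem f144794 : Led Lsl_et (LP (LK LD1_c7 LD2_c40 LD3_c57)) = (LP (LK LD1_c14 LD2_c28 LD3_c56)) :=
  Lre_e IH (LK LD1_c7 LD2_c40 LD3_c57) (LK LD1_c14 LD2_c28 LD3_c56) Lrfl Lrfl
theorem f144795 : Led Lsl_at (LP (LK LD1_c14 LD2_c18 LD3_c56)) = (LP (LK LD1_c7 LD2_c40 LD3_c57)) :=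
  Lgr Lrot80 (Lpr_ef (K5.f116669 IH) (Lpr_af (f144788 IH) (Lpe (f144794 IH) (Lpn (LP (LK LD1_c7 LD2_c40 LD3_c57))))))
theorem f116681 : Led Lsl_dt (LP (LK LD1_c7 LD2_c35 LD3_c35)) = (LP (LK LD1_c14 LD2_c18 LD3_c56)) :=
  Lre_d IH (LK LD1_c7 LD2_c35 LD3_c35) (LK LD1_c14 LD2_c18 LD3_c56) Lrfl Lrfl
theorem f144800 : Led Lsl_dt (LP (LK LD1_c7 LD2_c40 LD3_c57)) = (LP (LK LD1_c3 LD2_c49 LD3_c61)) :=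
  Lre_d IH (LK LD1_c7 LD2_c40 LD3_c57) (LK LD1_c3 LD2_c49 LD3_c61) Lrfl Lrfl
theorem f144801 : Led Lsl_af (LP (LK LD1_c7 LD2_c35 LD3_c35)) = (LP (LK LD1_c3 LD2_c49 LD3_c61)) :=
  Lgr Lrot117 (Lpr_dt (f116681 IH) (Lpr_at (f144795 IH) (Lpr_dt (f144800 IH) (Lpn (LP (LK LD1_c3 LD2_c49 LD3_c61))))))
theorem f144807 : Led Lsl_et (LP (LK LD1_c1 LD2_c51 LD3_c58)) = (LP (LK LD1_c3 LD2_c49 LD3_c61)) :=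
  Lre_e IH (LK LD1_c1 LD2_c51 LD3_c58) (LK LD1_c3 LD2_c49 LD3_c61) Lrfl Lrfl
theorem f144808 : Led Lsl_at (LP (LK LD1_c3 LD2_c47 LD3_c22)) = (LP (LK LD1_c1 LD2_c51 LD3_c58)) :=
  Lgr Lrot80 (Lpe (K5.f116667 IH) (Lpr_af (f144801 IH) (Lpe (f144807 IH) (Lpn (LP (LK LD1_c1 LD2_c51 LD3_c58))))))
theorem f144810 : Led Lsl_af (LP (LK LD1_c3 LD2_c47 LD3_c22)) = (LP (LK LD1_c1 LD2_c51 LD3_c58)) :=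
  Lgr Lrot0 (Lpr_at (f144808 IH) (Lpn (LP (LK LD1_c1 LD2_c51 LD3_c58))))
theorem f144829 : Led Lsl_ft (LP (LK LD1_c3 LD2_c47 LD3_c23)) = (LP (LK LD1_c1 LD2_c51 LD3_c58)) :=
  Lgr Lrot2 (Lpr_gt (f91263 IH) (Lpr_gt (K4.f91265 IH) (Lpr_af (f144810 IH) (Lpn (LP (LK LD1_c1 LD2_c51 LD3_c58))))))
theorem f144835 : Led Lsl_ff (LP (LK LD1_c3 LD2_c47 LD3_c23)) = (LP (LK LD1_c1 LD2_c51 LD3_c58)) :=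
  Lgr Lrot3 (Lpr_ft (f144829 IH) (Lpn (LP (LK LD1_c1 LD2_c51 LD3_c58))))
theorem f84966 : Led Lsl_gt (LP (LK LD1_c0 LD2_c52 LD3_c45)) = (LP (LK LD1_c1 LD2_c51 LD3_c57)) :=
  Lre_g IH (LK LD1_c0 LD2_c52 LD3_c45) (LK LD1_c1 LD2_c51 LD3_c57) Lrfl Lrfl
theorem f144842 : Led Lsl_at (LP (LK LD1_c3 LD2_c47 LD3_c23)) = (LP (LK LD1_c1 LD2_c51 LD3_c57)) :=
  Lgr Lrot26 (Lpr_ff (f144835 IH) (Lpr_gt (K5.f65963 IH) (Lpr_gt (f84966 IH) (Lpn (LP (LK LD1_c1 LD2_c51 LD3_c57))))))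
theorem f144852 : Led Lsl_ff (LP (LK LD1_c3 LD2_c47 LD3_c22)) = (LP (LK LD1_c1 LD2_c51 LD3_c57)) :=
  Lgr Lrot30 (Lpr_at (f144808 IH) (Lpe (f144835 IH) (Lpr_at (f144842 IH) (Lpn (LP (LK LD1_c1 LD2_c51 LD3_c57))))))
theorem f144865 : Led Lsl_gf (LP (LK LD1_c3 LD2_c47 LD3_c24)) = (LP (LK LD1_c1 LD2_c51 LD3_c57)) :=
  Lgr Lrot47 (Lpr_gt (f136710 IH) (Lpe (f144808 IH) (Lpr_ff (f144852 IH) (Lpn (LP (LK LD1_c1 LD2_c51 LD3_c57))))))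
theorem f136764 : Led Lsl_bt (LP (LK LD1_c3 LD2_c47 LD3_c24)) = (LP (LK LD1_c1 LD2_c52 LD3_c8)) :=
  Lgr Lrot35 (Lpr_ff (f136708 IH) (Lpr_bf (f117299 IH) (Lpe (f136521 IH) (Lpn (LP (LK LD1_c1 LD2_c52 LD3_c8))))))
theorem f95917 : Led Lsl_gt (LP (LK LD1_c1 LD2_c47 LD3_c12)) = (LP (LK LD1_c3 LD2_c40 LD3_c29)) :=
  Lre_g IH (LK LD1_c1 LD2_c47 LD3_c12) (LK LD1_c3 LD2_c40 LD3_c29) Lrfl Lrfl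
theorem f136771 : Led Lsl_ct (LP (LK LD1_c3 LD2_c47 LD3_c24)) = (LP (LK LD1_c3 LD2_c40 LD3_c29)) :=
  Lgr Lrot10 (Lpr_bt (f136764 IH) (Lpr_gt (f136527 IH) (Lpe (f136448 IH) (Lpr_gt (f12298 IH) (Lpe (K1.f12201 IH) (Lpr_bt (K5.f12285 IH) (Lpe (f95907 IH) (Lpe (K5.f95915 IH) (Lpr_ct (K5.f95916 IH) (Lpr_gt (f95917 IH) (Lpn (LP (LK LD1_c3 LD2_c40 LD3_c29)))))))))))))
theorem f136777 : Led Lsl_cf (LP (LK LD1_c3 LD2_c47 LD3_c24)) = (LP (LK LD1_c3 LD2_c40 LD3_c29)) :=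
  Lgr Lrot11 (Lpr_ct (f136771 IH) (Lpn (LP (LK LD1_c3 LD2_c40 LD3_c29))))
theorem f136775 : Led Lsl_bf (LP (LK LD1_c6 LD2_c55 LD3_c12)) = (LP (LK LD1_c3 LD2_c40 LD3_c29)) :=
  Lgr Lrot90 (Lpr_ct (K5.f114461 IH) (Lpe (f136533 IH) (Lpr_ct (f132303 IH) (Lpe (f110091 IH) (Lpr_ct (f136771 IH) (Lpn (LP (LK LD1_c3 LD2_c40 LD3_c29))))))))
theorem f129564 : Led Lsl_ct (LP (LK LD1_c3 LD2_c54 LD3_c59)) = (LP (LK LD1_c7 LD2_c30 LD3_c11)) :=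
  Lgr Lrot59 (Lpr_cf (K5.f129559 IH) (Lpn (LP (LK LD1_c7 LD2_c30 LD3_c11))))
theorem f96389 : Led Lsl_ct (LP (LK LD1_c3 LD2_c49 LD3_c55)) = (LP (LK LD1_c1 LD2_c51 LD3_c57)) :=
  Lre_c IH (LK LD1_c3 LD2_c49 LD3_c55) (LK LD1_c1 LD2_c51 LD3_c57) Lrfl Lrfl
theorem f144868 : Led Lsl_bf (LP (LK LD1_c7 LD2_c35 LD3_c34)) = (LP (LK LD1_c3 LD2_c49 LD3_c55)) :=
  Lgr Lrot34 (Lpe (K5.f123464 IH) (Lpe (K5.f123449 IH) (Lpr_ct (f129564 IH) (Lpe (K5.f129579 IH) (Lpe (K5.f122712 IH) (Lpr_gf (f127995 IH) (Lpr_bf (f136775 IH) (Lpe (f136777 IH) (Lpr_gf (f144865 IH) (Lpe (f96389 IH) (Lpn (LP (LK LD1_c3 LD2_c49 LD3_c55)))))))))))))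
theorem f144818 : Led Lsl_et (LP (LK LD1_c7 LD2_c35 LD3_c34)) = (LP (LK LD1_c14 LD2_c18 LD3_c55)) :=
  Lre_e IH (LK LD1_c7 LD2_c35 LD3_c34) (LK LD1_c14 LD2_c18 LD3_c55) Lrfl Lrfl
theorem f144876 : Led Lsl_et (LP (LK LD1_c7 LD2_c40 LD3_c47)) = (LP (LK LD1_c3 LD2_c49 LD3_c55)) :=
  Lre_e IH (LK LD1_c7 LD2_c40 LD3_c47) (LK LD1_c3 LD2_c49 LD3_c55) Lrfl Lrfl
theorem f144877 : Led Lsl_bt (LP (LK LD1_c14 LD2_c18 LD3_c55)) = (LP (LK LD1_c7 LD2_c40 LD3_c47)) :=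
  Lgr Lrot119 (Lpe (f144818 IH) (Lpr_bf (f144868 IH) (Lpe (f144876 IH) (Lpn (LP (LK LD1_c7 LD2_c40 LD3_c47))))))
theorem f116687 : Led Lsl_ct (LP (LK LD1_c7 LD2_c35 LD3_c35)) = (LP (LK LD1_c14 LD2_c18 LD3_c55)) :=
  Lre_c IH (LK LD1_c7 LD2_c35 LD3_c35) (LK LD1_c14 LD2_c18 LD3_c55) Lrfl Lrfl
theorem f116696 : Led Lsl_et (LP (LK LD1_c3 LD2_c48 LD3_c12)) = (LP (LK LD1_c7 LD2_c37 LD3_c25)) :=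
  Lre_e IH (LK LD1_c3 LD2_c48 LD3_c12) (LK LD1_c7 LD2_c37 LD3_c25) Lrfl Lrfl
theorem f113011 : Led Lsl_et (LP (LK LD1_c6 LD2_c56 LD3_c15)) = (LP (LK LD1_c3 LD2_c27 LD3_c10)) :=
  Lre_e IH (LK LD1_c6 LD2_c56 LD3_c15) (LK LD1_c3 LD2_c27 LD3_c10) Lrfl Lrfl
theorem f116697 : Led Lsl_ct (LP (LK LD1_c7 LD2_c37 LD3_c25)) = (LP (LK LD1_c6 LD2_c56 LD3_c15)) :=
  Lgr Lrot15 (Lpe (f116696 IH) (Lpr_cf (K4.f116692 IH) (Lpe (f113011 IH) (Lpn (LP (LK LD1_c6 LD2_c56 LD3_c15))))))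
theorem f144907 : Led Lsl_ct (LP (LK LD1_c7 LD2_c40 LD3_c47)) = (LP (LK LD1_c3 LD2_c49 LD3_c57)) :=
  Lre_c IH (LK LD1_c7 LD2_c40 LD3_c47) (LK LD1_c3 LD2_c49 LD3_c57) Lrfl Lrfl
theorem f144908 : Led Lsl_bf (LP (LK LD1_c7 LD2_c37 LD3_c25)) = (LP (LK LD1_c3 LD2_c49 LD3_c57)) :=
  Lgr Lrot90 (Lpr_ct (f116697 IH) (Lpe (K5.f116684 IH) (Lpr_ct (f116687 IH) (Lpr_bt (f144877 IH) (Lpr_ct (f144907 IH) (Lpn (LP (LK LD1_c3 LD2_c49 LD3_c57))))))))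
theorem f144915 : Led Lsl_bt (LP (LK LD1_c7 LD2_c37 LD3_c25)) = (LP (LK LD1_c3 LD2_c49 LD3_c57)) :=
  Lgr Lrot127 (Lpr_bf (f144908 IH) (Lpn (LP (LK LD1_c3 LD2_c49 LD3_c57))))
theorem f144861 : Led Lsl_et (LP (LK LD1_c3 LD2_c49 LD3_c57)) = (LP (LK LD1_c1 LD2_c51 LD3_c57)) :=
  Lre_e IH (LK LD1_c3 LD2_c49 LD3_c57) (LK LD1_c1 LD2_c51 LD3_c57) Lrfl Lrfl
theorem f144940 : Led Lsl_bf (LP (LK LD1_c3 LD2_c48 LD3_c12)) = (LP (LK LD1_c1 LD2_c51 LD3_c57)) :=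
  Lgr Lrot96 (Lpr_et (f116696 IH) (Lpr_bt (f144915 IH) (Lpr_et (f144861 IH) (Lpn (LP (LK LD1_c1 LD2_c51 LD3_c57))))))
theorem f120841 : Led Lsl_gt (LP (LK LD1_c0 LD2_c23 LD3_c43)) = (LP (LK LD1_c0 LD2_c50 LD3_c51)) :=
  Lgr Lrot49 (Lpe (K2.f62665 IH) (Lpe (K1.f17649 IH) (Lpr_cf (K2.f21163 IH) (Lpe (K4.f95178 IH) (Lpr_dt (K2.f83734 IH) (Lpr_gt (K3.f94924 IH) (Lpr_dt (K3.f26137 IH) (Lpr_cf (K4.f120826 IH) (Lpe (K5.f120834 IH) (Lpn (LP (LK LD1_c0 LD2_c50 LD3_c51))))))))))))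
theorem f102592 : Led Lsl_bt (LP (LK LD1_c1 LD2_c39 LD3_c54)) = (LP (LK LD1_c3 LD2_c26 LD3_c24)) :=
  Lre_b IH (LK LD1_c1 LD2_c39 LD3_c54) (LK LD1_c3 LD2_c26 LD3_c24) Lrfl Lrfl
theorem f102622 : Led Lsl_gt (LP (LK LD1_c3 LD2_c26 LD3_c24)) = (LP (LK LD1_c6 LD2_c54 LD3_c40)) :=
  Lre_g IH (LK LD1_c3 LD2_c26 LD3_c24) (LK LD1_c6 LD2_c54 LD3_c40) Lrfl Lrfl
theorem f96334 : Led Lsl_ct (LP (LK LD1_c1 LD2_c51 LD3_c57)) = (LP (LK LD1_c3 LD2_c49 LD3_c55)) :=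
  Lre_c IH (LK LD1_c1 LD2_c51 LD3_c57) (LK LD1_c3 LD2_c49 LD3_c55) Lrfl Lrfl
theorem f144867 : Led Lsl_gt (LP (LK LD1_c7 LD2_c40 LD3_c45)) = (LP (LK LD1_c3 LD2_c49 LD3_c55)) :=
  Lre_g IH (LK LD1_c7 LD2_c40 LD3_c45) (LK LD1_c3 LD2_c49 LD3_c55) Lrfl Lrfl
theorem f144951 : Led Lsl_ct (LP (LK LD1_c6 LD2_c54 LD3_c40)) = (LP (LK LD1_c7 LD2_c40 LD3_c45)) :=
  Lgr Lrot91 (Lpe (f102622 IH) (Lpe (f102592 IH) (Lpr_ct (f120851 IH) (Lpe (f120841 IH) (Lpe (K2.f11839 IH) (Lpr_bt (K2.f17298 IH) (Lpe (K4.f17462 IH) (Lpr_bf (f144940 IH) (Lpr_ct (f96334 IH) (Lpe (f144867 IH) (Lpn (LP (LK LD1_c7 LD2_c40 LD3_c45)))))))))))))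
theorem f144960 : Led Lsl_bt (LP (LK LD1_c6 LD2_c54 LD3_c40)) = (LP (LK LD1_c3 LD2_c47 LD3_c30)) :=
  Lgr Lrot92 (Lpr_ct (f144951 IH) (Lpr_gt (f144867 IH) (Lpe (f96334 IH) (Lpe (f144940 IH) (Lpr_gt (K4.f17462 IH) (Lpr_ct (K4.f11852 IH) (Lpe (K1.f64297 IH) (Lpr_cf (K5.f64414 IH) (Lpr_bt (f64412 IH) (Lpe (f64439 IH) (Lpn (LP (LK LD1_c3 LD2_c47 LD3_c30)))))))))))))
theorem f144953 : Led Lsl_cf (LP (LK LD1_c6 LD2_c54 LD3_c40)) = (LP (LK LD1_c7 LD2_c40 LD3_c45)) :=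
  Lgr Lrot11 (Lpr_ct (f144951 IH) (Lpn (LP (LK LD1_c7 LD2_c40 LD3_c45))))
theorem f64441 : Led Lsl_bt (LP (LK LD1_c1 LD2_c50 LD3_c51)) = (LP (LK LD1_c3 LD2_c47 LD3_c29)) :=
  Lre_b IH (LK LD1_c1 LD2_c50 LD3_c51) (LK LD1_c3 LD2_c47 LD3_c29) Lrfl Lrfl
theorem f144964 : Led Lsl_bf (LP (LK LD1_c7 LD2_c40 LD3_c45)) = (LP (LK LD1_c3 LD2_c54 LD3_c3)) :=
  Lgr Lrot90 (Lpe (f144953 IH) (Lpr_bt (f144960 IH) (Lpr_ct (f16765 IH) (Lpr_bt (f64441 IH) (Lpr_ct (K5.f126477 IH) (Lpn (LP (LK LD1_c3 LD2_c54 LD3_c3))))))))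
theorem f142537 : Led Lsl_bt (LP (LK LD1_c3 LD2_c42 LD3_c36)) = (LP (LK LD1_c7 LD2_c25 LD3_c1)) :=
  Lgr Lrot92 (Lpr_ct (f142521 IH) (Lpe (f136767 IH) (Lpe (f114437 IH) (Lpe (f142477 IH) (Lpe (f142519 IH) (Lpe (f142513 IH) (Lpr_gt (f134784 IH) (Lpe (f142509 IH) (Lpr_bt (f142483 IH) (Lpr_gt (f137232 IH) (Lpn (LP (LK LD1_c7 LD2_c25 LD3_c1)))))))))))))
theorem f137234 : Led Lsl_gt (LP (LK LD1_c3 LD2_c47 LD3_c22)) = (LP (LK LD1_c1 LD2_c51 LD3_c59)) :=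
  Lgr Lrot164 (Lpr_bf (K4.f116661 IH) (Lpe (K4.f116692 IH) (Lpr_gf (K5.f129923 IH) (Lpr_cf (K5.f89767 IH) (Lpe (K3.f57467 IH) (Lpr_bf (K1.f57263 IH) (Lpr_ct (K1.f64309 IH) (Lpr_gf (f136922 IH) (Lpr_cf (K5.f15199 IH) (Lpe (f117299 IH) (Lpn (LP (LK LD1_c1 LD2_c51 LD3_c59)))))))))))))
theorem f142543 : Led Lsl_bt (LP (LK LD1_c7 LD2_c25 LD3_c0)) = (LP (LK LD1_c6 LD2_c55 LD3_c11)) :=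
  Lgr Lrot92 (Lpr_ct (K5.f122712 IH) (Lpr_gt (K5.f129579 IH) (Lpe (f129564 IH) (Lpr_bt (K5.f123449 IH) (Lpr_gt (K5.f123464 IH) (Lpr_ct (K5.f116663 IH) (Lpr_gt (f137234 IH) (Lpe (f142521 IH) (Lpr_bt (f142537 IH) (Lpr_gt (f127978 IH) (Lpn (LP (LK LD1_c6 LD2_c55 LD3_c11)))))))))))))
theorem f142545 : Led Lsl_bf (LP (LK LD1_c7 LD2_c25 LD3_c0)) = (LP (LK LD1_c6 LD2_c55 LD3_c11)) :=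
  Lgr Lrot24 (Lpr_bt (f142543 IH) (Lpn (LP (LK LD1_c6 LD2_c55 LD3_c11))))
theorem f126482 : Led Lsl_cf (LP (LK LD1_c3 LD2_c47 LD3_c29)) = (LP (LK LD1_c3 LD2_c54 LD3_c3)) :=
  Lgr Lrot11 (Lpr_ct (K5.f126477 IH) (Lpn (LP (LK LD1_c3 LD2_c54 LD3_c3))))
theorem f126479 : Led Lsl_gt (LP (LK LD1_c7 LD2_c35 LD3_c51)) = (LP (LK LD1_c3 LD2_c47 LD3_c29)) :=
  Lre_g IH (LK LD1_c7 LD2_c35 LD3_c51) (LK LD1_c3 LD2_c47 LD3_c29) Lrfl Lrfl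
theorem f144998 : Led Lsl_ct (LP (LK LD1_c6 LD2_c55 LD3_c11)) = (LP (LK LD1_c7 LD2_c35 LD3_c51)) :=
  Lgr Lrot64 (Lpe (f142545 IH) (Lpr_gf (f127995 IH) (Lpr_bf (f136775 IH) (Lpe (f136777 IH) (Lpr_gf (f144865 IH) (Lpe (f96389 IH) (Lpe (f144867 IH) (Lpr_bf (f144964 IH) (Lpe (f126482 IH) (Lpe (f126479 IH) (Lpn (LP (LK LD1_c7 LD2_c35 LD3_c51)))))))))))))
theorem f95859 : Led Lsl_gt (LP (LK LD1_c1 LD2_c53 LD3_c40)) = (LP (LK LD1_c3 LD2_c54 LD3_c2)) :=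
  Lre_g IH (LK LD1_c1 LD2_c53 LD3_c40) (LK LD1_c3 LD2_c54 LD3_c2) Lrfl Lrfl
theorem f95899 : Led Lsl_ct (LP (LK LD1_c3 LD2_c54 LD3_c2)) = (LP (LK LD1_c7 LD2_c49 LD3_c41)) :=
  Lre_c IH (LK LD1_c3 LD2_c54 LD3_c2) (LK LD1_c7 LD2_c49 LD3_c41) Lrfl Lrfl
theorem f145011 : Led Lsl_gt (LP (LK LD1_c7 LD2_c49 LD3_c41)) = (LP (LK LD1_c7 LD2_c35 LD3_c51)) :=
  Lgr Lrot149 (Lpe (f95899 IH) (Lpe (f95859 IH) (Lpe (K4.f95853 IH) (Lpe (K4.f95854 IH) (Lpe (K4.f124061 IH) (Lpr_cf (K5.f120970 IH) (Lpr_bt (K4.f120967 IH) (Lpe (K5.f122690 IH) (Lpr_bf (f142545 IH) (Lpr_ct (f144998 IH) (Lpn (LP (LK LD1_c7 LD2_c35 LD3_c51)))))))))))))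
theorem f17478 : Led Lsl_gt (LP (LK LD1_c1 LD2_c45 LD3_c18)) = (LP (LK LD1_c3 LD2_c36 LD3_c54)) :=
  Lre_g IH (LK LD1_c1 LD2_c45 LD3_c18) (LK LD1_c3 LD2_c36 LD3_c54) Lrfl Lrfl
theorem f17479 : Led Lsl_ct (LP (LK LD1_c3 LD2_c36 LD3_c54)) = (LP (LK LD1_c7 LD2_c14 LD3_c0)) :=
  Lre_c IH (LK LD1_c3 LD2_c36 LD3_c54) (LK LD1_c7 LD2_c14 LD3_c0) Lrfl Lrfl
theorem f136361 : Led Lsl_gf (LP (LK LD1_c3 LD2_c50 LD3_c22)) = (LP (LK LD1_c7 LD2_c14 LD3_c0)) :=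
  Lgr Lrot129 (Lpr_cf (f96148 IH) (Lpr_bt (f136357 IH) (Lpr_gt (K3.f87934 IH) (Lpe (K3.f87161 IH) (Lpr_ct (K2.f11538 IH) (Lpe (K3.f92520 IH) (Lpe (K3.f17471 IH) (Lpr_bt (f17477 IH) (Lpr_gt (f17478 IH) (Lpr_ct (f17479 IH) (Lpn (LP (LK LD1_c7 LD2_c14 LD3_c0)))))))))))))
theorem f126480 : Led Lsl_ct (LP (LK LD1_c7 LD2_c49 LD3_c41)) = (LP (LK LD1_c3 LD2_c54 LD3_c2)) :=
  Lre_c IH (LK LD1_c7 LD2_c49 LD3_c41) (LK LD1_c3 LD2_c54 LD3_c2) Lrfl Lrfl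
theorem f136363 : Led Lsl_bt (LP (LK LD1_c7 LD2_c49 LD3_c41)) = (LP (LK LD1_c7 LD2_c14 LD3_c0)) :=
  Lgr Lrot130 (Lpr_ct (f126480 IH) (Lpe (f95859 IH) (Lpe (K5.f126463 IH) (Lpr_bt (K4.f88621 IH) (Lpe (K3.f88533 IH) (Lpe (K3.f88524 IH) (Lpr_ct (K3.f88485 IH) (Lpe (f88497 IH) (Lpe (f96135 IH) (Lpr_gf (f136361 IH) (Lpn (LP (LK LD1_c7 LD2_c14 LD3_c0)))))))))))))
theorem f136367 : Led Lsl_bf (LP (LK LD1_c7 LD2_c49 LD3_c41)) = (LP (LK LD1_c7 LD2_c14 LD3_c0)) :=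
  Lgr Lrot24 (Lpr_bt (f136363 IH) (Lpn (LP (LK LD1_c7 LD2_c14 LD3_c0))))
theorem f96613 : Led Lsl_ct (LP (LK LD1_c7 LD2_c14 LD3_c0)) = (LP (LK LD1_c3 LD2_c36 LD3_c54)) :=
  Lre_c IH (LK LD1_c7 LD2_c14 LD3_c0) (LK LD1_c3 LD2_c36 LD3_c54) Lrfl Lrfl
theorem f129583 : Led Lsl_cf (LP (LK LD1_c3 LD2_c27 LD3_c9)) = (LP (LK LD1_c3 LD2_c48 LD3_c11)) :=
  Lgr Lrot11 (Lpr_ct (K5.f129581 IH) (Lpn (LP (LK LD1_c3 LD2_c48 LD3_c11))))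
theorem f145015 : Led Lsl_bt (LP (LK LD1_c3 LD2_c48 LD3_c11)) = (LP (LK LD1_c7 LD2_c35 LD3_c51)) :=
  Lgr Lrot92 (Lpe (f129583 IH) (Lpr_gt (f129590 IH) (Lpr_cf (K5.f129600 IH) (Lpr_bt (K3.f89784 IH) (Lpr_gt (K3.f88589 IH) (Lpe (K4.f96530 IH) (Lpr_gt (f17478 IH) (Lpe (f96613 IH) (Lpe (f136367 IH) (Lpr_gt (f145011 IH) (Lpn (LP (LK LD1_c7 LD2_c35 LD3_c51)))))))))))))
theorem f145023 : Led Lsl_ff (LP (LK LD1_c6 LD2_c56 LD3_c13)) = (LP (LK LD1_c7 LD2_c35 LD3_c51)) :=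
  Lgr Lrot25 (Lpr_bt (K5.f12056 IH) (Lpr_ft (K5.f130011 IH) (Lpr_bt (f145015 IH) (Lpn (LP (LK LD1_c7 LD2_c35 LD3_c51))))))
theorem f145029 : Led Lsl_ft (LP (LK LD1_c6 LD2_c56 LD3_c13)) = (LP (LK LD1_c7 LD2_c35 LD3_c51)) :=
  Lgr Lrot48 (Lpr_ff (f145023 IH) (Lpn (LP (LK LD1_c7 LD2_c35 LD3_c51))))
theorem f145002 : Led Lsl_cf (LP (LK LD1_c6 LD2_c55 LD3_c11)) = (LP (LK LD1_c7 LD2_c35 LD3_c51)) :=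
  Lgr Lrot11 (Lpr_ct (f144998 IH) (Lpn (LP (LK LD1_c7 LD2_c35 LD3_c51))))
theorem f145036 : Led Lsl_ff (LP (LK LD1_c7 LD2_c25 LD3_c0)) = (LP (LK LD1_c6 LD2_c55 LD3_c11)) :=
  Lgr Lrot23 (Lpr_ct (K5.f122712 IH) (Lpr_ft (f145029 IH) (Lpe (f145002 IH) (Lpn (LP (LK LD1_c6 LD2_c55 LD3_c11))))))
theorem f145044 : Led Lsl_at (LP (LK LD1_c7 LD2_c25 LD3_c0)) = (LP (LK LD1_c6 LD2_c55 LD3_c10)) :=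
  Lgr Lrot26 (Lpr_ff (f145036 IH) (Lpr_gt (f95132 IH) (Lpr_gt (f91721 IH) (Lpn (LP (LK LD1_c6 LD2_c55 LD3_c10))))))
theorem f122725 : Led Lsl_et (LP (LK LD1_c14 LD2_c1 LD3_c44)) = (LP (LK LD1_c7 LD2_c25 LD3_c0)) :=
  Lre_e IH (LK LD1_c14 LD2_c1 LD3_c44) (LK LD1_c7 LD2_c25 LD3_c0) Lrfl Lrfl
theorem f114441 : Led Lsl_et (LP (LK LD1_c6 LD2_c55 LD3_c10)) = (LP (LK LD1_c13 LD2_c8 LD3_c47)) :=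
  Lre_e IH (LK LD1_c6 LD2_c55 LD3_c10) (LK LD1_c13 LD2_c8 LD3_c47) Lrfl Lrfl
theorem f145048 : Led Lsl_af (LP (LK LD1_c14 LD2_c1 LD3_c44)) = (LP (LK LD1_c13 LD2_c8 LD3_c47)) :=
  Lgr Lrot50 (Lpr_et (f122725 IH) (Lpr_at (f145044 IH) (Lpr_et (f114441 IH) (Lpn (LP (LK LD1_c13 LD2_c8 LD3_c47))))))
theorem f122715 : Led Lsl_et (LP (LK LD1_c7 LD2_c25 LD3_c0)) = (LP (LK LD1_c14 LD2_c1 LD3_c44)) :=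
  Lre_e IH (LK LD1_c7 LD2_c25 LD3_c0) (LK LD1_c14 LD2_c1 LD3_c44) Lrfl Lrfl
theorem f122716 : Led Lsl_et (LP (LK LD1_c13 LD2_c10 LD3_c28)) = (LP (LK LD1_c6 LD2_c56 LD3_c13)) :=
  Lre_e IH (LK LD1_c13 LD2_c10 LD3_c28) (LK LD1_c6 LD2_c56 LD3_c13) Lrfl Lrfl
theorem f122717 : Led Lsl_ct (LP (LK LD1_c14 LD2_c1 LD3_c44)) = (LP (LK LD1_c13 LD2_c10 LD3_c28)) :=
  Lgr Lrot15 (Lpe (f122715 IH) (Lpr_cf (K5.f122709 IH) (Lpe (f122716 IH) (Lpn (LP (LK LD1_c13 LD2_c10 LD3_c28))))))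
theorem f114440 : Led Lsl_et (LP (LK LD1_c14 LD2_c18 LD3_c57)) = (LP (LK LD1_c7 LD2_c35 LD3_c36)) :=
  Lre_e IH (LK LD1_c14 LD2_c18 LD3_c57) (LK LD1_c7 LD2_c35 LD3_c36) Lrfl Lrfl
theorem f114442 : Led Lsl_cf (LP (LK LD1_c14 LD2_c18 LD3_c57)) = (LP (LK LD1_c13 LD2_c8 LD3_c47)) :=
  Lgr Lrot39 (Lpr_et (f114440 IH) (Lpr_ct (f114428 IH) (Lpr_et (f114441 IH) (Lpn (LP (LK LD1_c13 LD2_c8 LD3_c47))))))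
theorem f114446 : Led Lsl_ct (LP (LK LD1_c14 LD2_c18 LD3_c57)) = (LP (LK LD1_c13 LD2_c8 LD3_c47)) :=
  Lgr Lrot59 (Lpr_cf (f114442 IH) (Lpn (LP (LK LD1_c13 LD2_c8 LD3_c47))))
theorem f145052 : Led Lsl_at (LP (LK LD1_c13 LD2_c10 LD3_c28)) = (LP (LK LD1_c14 LD2_c18 LD3_c57)) :=
  Lgr Lrot107 (Lpe (f122717 IH) (Lpr_af (f145048 IH) (Lpe (f114446 IH) (Lpn (LP (LK LD1_c14 LD2_c18 LD3_c57))))))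
theorem f122724 : Led Lsl_bt (LP (LK LD1_c6 LD2_c56 LD3_c14)) = (LP (LK LD1_c13 LD2_c10 LD3_c28)) :=
  Lre_b IH (LK LD1_c6 LD2_c56 LD3_c14) (LK LD1_c13 LD2_c10 LD3_c28) Lrfl Lrfl
theorem f89834 : Led Lsl_et (LP (LK LD1_c7 LD2_c37 LD3_c24)) = (LP (LK LD1_c3 LD2_c48 LD3_c11)) :=
  Lre_e IH (LK LD1_c7 LD2_c37 LD3_c24) (LK LD1_c3 LD2_c48 LD3_c11) Lrfl Lrfl
theorem f130024 : Led Lsl_at (LP (LK LD1_c6 LD2_c56 LD3_c15)) = (LP (LK LD1_c7 LD2_c37 LD3_c24)) :=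
  Lgr Lrot80 (Lpe (K5.f113313 IH) (Lpr_af (f130016 IH) (Lpe (f89834 IH) (Lpn (LP (LK LD1_c7 LD2_c37 LD3_c24))))))
theorem f129585 : Led Lsl_et (LP (LK LD1_c6 LD2_c56 LD3_c14)) = (LP (LK LD1_c3 LD2_c27 LD3_c9)) :=
  Lre_e IH (LK LD1_c6 LD2_c56 LD3_c14) (LK LD1_c3 LD2_c27 LD3_c9) Lrfl Lrfl
theorem f107396 : Led Lsl_et (LP (LK LD1_c3 LD2_c48 LD3_c11)) = (LP (LK LD1_c7 LD2_c37 LD3_c24)) :=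
  Lre_e IH (LK LD1_c3 LD2_c48 LD3_c11) (LK LD1_c7 LD2_c37 LD3_c24) Lrfl Lrfl
theorem f129586 : Led Lsl_cf (LP (LK LD1_c6 LD2_c56 LD3_c14)) = (LP (LK LD1_c7 LD2_c37 LD3_c24)) :=
  Lgr Lrot39 (Lpr_et (f129585 IH) (Lpr_ct (K5.f129581 IH) (Lpr_et (f107396 IH) (Lpn (LP (LK LD1_c7 LD2_c37 LD3_c24))))))
theorem f130028 : Led Lsl_af (LP (LK LD1_c7 LD2_c37 LD3_c25)) = (LP (LK LD1_c6 LD2_c56 LD3_c14)) :=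
  Lgr Lrot68 (Lpr_ct (f116697 IH) (Lpr_at (f130024 IH) (Lpe (f129586 IH) (Lpn (LP (LK LD1_c6 LD2_c56 LD3_c14))))))
theorem f130044 : Led Lsl_at (LP (LK LD1_c7 LD2_c37 LD3_c25)) = (LP (LK LD1_c6 LD2_c56 LD3_c14)) :=
  Lgr Lrot100 (Lpr_af (f130028 IH) (Lpn (LP (LK LD1_c6 LD2_c56 LD3_c14))))
theorem f114444 : Led Lsl_bt (LP (LK LD1_c14 LD2_c18 LD3_c57)) = (LP (LK LD1_c7 LD2_c35 LD3_c38)) :=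
  Lre_b IH (LK LD1_c14 LD2_c18 LD3_c57) (LK LD1_c7 LD2_c35 LD3_c38) Lrfl Lrfl
theorem f145054 : Led Lsl_af (LP (LK LD1_c3 LD2_c49 LD3_c57)) = (LP (LK LD1_c7 LD2_c35 LD3_c38)) :=
  Lgr Lrot36 (Lpe (f144908 IH) (Lpr_at (f130044 IH) (Lpr_bt (f122724 IH) (Lpr_at (f145052 IH) (Lpr_bt (f114444 IH) (Lpn (LP (LK LD1_c7 LD2_c35 LD3_c38))))))))
theorem f144922 : Led Lsl_ct (LP (LK LD1_c3 LD2_c49 LD3_c57)) = (LP (LK LD1_c7 LD2_c40 LD3_c47)) :=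
  Lre_c IH (LK LD1_c3 LD2_c49 LD3_c57) (LK LD1_c7 LD2_c40 LD3_c47) Lrfl Lrfl
theorem f114451 : Led Lsl_ct (LP (LK LD1_c14 LD2_c18 LD3_c58)) = (LP (LK LD1_c7 LD2_c35 LD3_c38)) :=
  Lre_c IH (LK LD1_c14 LD2_c18 LD3_c58) (LK LD1_c7 LD2_c35 LD3_c38) Lrfl Lrfl
theorem f145081 : Led Lsl_at (LP (LK LD1_c7 LD2_c40 LD3_c47)) = (LP (LK LD1_c14 LD2_c18 LD3_c58)) :=
  Lgr Lrot107 (Lpe (f144922 IH) (Lpr_af (f145054 IH) (Lpe (f114451 IH) (Lpn (LP (LK LD1_c14 LD2_c18 LD3_c58))))))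
theorem f145087 : Led Lsl_et (LP (LK LD1_c3 LD2_c49 LD3_c55)) = (LP (LK LD1_c7 LD2_c40 LD3_c47)) :=
  Lre_e IH (LK LD1_c3 LD2_c49 LD3_c55) (LK LD1_c7 LD2_c40 LD3_c47) Lrfl Lrfl
theorem f142486 : Led Lsl_et (LP (LK LD1_c14 LD2_c18 LD3_c58)) = (LP (LK LD1_c7 LD2_c35 LD3_c37)) :=
  Lre_e IH (LK LD1_c14 LD2_c18 LD3_c58) (LK LD1_c7 LD2_c35 LD3_c37) Lrfl Lrfl
theorem f145088 : Led Lsl_af (LP (LK LD1_c3 LD2_c49 LD3_c55)) = (LP (LK LD1_c7 LD2_c35 LD3_c37)) :=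
  Lgr Lrot50 (Lpr_et (f145087 IH) (Lpr_at (f145081 IH) (Lpr_et (f142486 IH) (Lpn (LP (LK LD1_c7 LD2_c35 LD3_c37))))))
theorem f123504 : Led Lsl_ct (LP (LK LD1_c1 LD2_c51 LD3_c58)) = (LP (LK LD1_c3 LD2_c49 LD3_c59)) :=
  Lre_c IH (LK LD1_c1 LD2_c51 LD3_c58) (LK LD1_c3 LD2_c49 LD3_c59) Lrfl Lrfl
theorem f144833 : Led Lsl_ff (LP (LK LD1_c7 LD2_c35 LD3_c37)) = (LP (LK LD1_c3 LD2_c49 LD3_c59)) :=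
  Lgr Lrot23 (Lpr_ct (f114437 IH) (Lpr_ft (f144829 IH) (Lpr_ct (f123504 IH) (Lpn (LP (LK LD1_c3 LD2_c49 LD3_c59))))))
theorem f145095 : Led Lsl_gf (LP (LK LD1_c7 LD2_c40 LD3_c45)) = (LP (LK LD1_c3 LD2_c49 LD3_c59)) :=
  Lgr Lrot47 (Lpr_gt (f144867 IH) (Lpr_af (f145088 IH) (Lpr_ff (f144833 IH) (Lpn (LP (LK LD1_c3 LD2_c49 LD3_c59))))))
theorem f15634 : Led Lsl_bt (LP (LK LD1_c3 LD2_c26 LD3_c28)) = (LP (LK LD1_c6 LD2_c54 LD3_c46)) :=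
  Lre_b IH (LK LD1_c3 LD2_c26 LD3_c28) (LK LD1_c6 LD2_c54 LD3_c46) Lrfl Lrfl
theorem f145097 : Led Lsl_gt (LP (LK LD1_c3 LD2_c47 LD3_c30)) = (LP (LK LD1_c6 LD2_c54 LD3_c46)) :=
  Lgr Lrot164 (Lpe (f144960 IH) (Lpr_ct (f144951 IH) (Lpr_gf (f145095 IH) (Lpe (f123504 IH) (Lpe (f136710 IH) (Lpr_bf (f110091 IH) (Lpr_ct (f132302 IH) (Lpr_gf (f132300 IH) (Lpe (f15635 IH) (Lpr_bt (f15634 IH) (Lpn (LP (LK LD1_c6 LD2_c54 LD3_c46)))))))))))))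
theorem f145101 : Led Lsl_at (LP (LK LD1_c6 LD2_c43 LD3_c12)) = (LP (LK LD1_c6 LD2_c54 LD3_c46)) :=
  Lgr Lrot26 (Lpr_ff (f64452 IH) (Lpe (f64439 IH) (Lpr_gt (f145097 IH) (Lpn (LP (LK LD1_c6 LD2_c54 LD3_c46))))))
theorem f64455 : Led Lsl_at (LP (LK LD1_c7 LD2_c37 LD3_c61)) = (LP (LK LD1_c3 LD2_c48 LD3_c30)) :=
  Lre_a IH (LK LD1_c7 LD2_c37 LD3_c61) (LK LD1_c3 LD2_c48 LD3_c30) Lrfl Lrfl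
theorem f145112 : Led Lsl_ff (LP (LK LD1_c7 LD2_c37 LD3_c61)) = (LP (LK LD1_c6 LD2_c54 LD3_c46)) :=
  Lgr Lrot30 (Lpr_at (f64455 IH) (Lpe (f64452 IH) (Lpr_at (f145101 IH) (Lpn (LP (LK LD1_c6 LD2_c54 LD3_c46))))))
theorem f145116 : Led Lsl_ft (LP (LK LD1_c7 LD2_c37 LD3_c61)) = (LP (LK LD1_c6 LD2_c54 LD3_c46)) :=
  Lgr Lrot48 (Lpr_ff (f145112 IH) (Lpn (LP (LK LD1_c6 LD2_c54 LD3_c46))))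
theorem f57450 : Led Lsl_dt (LP (LK LD1_c3 LD2_c19 LD3_c42)) = (LP (LK LD1_c6 LD2_c43 LD3_c12)) :=
  Lre_d IH (LK LD1_c3 LD2_c19 LD3_c42) (LK LD1_c6 LD2_c43 LD3_c12) Lrfl Lrfl
theorem f57265 : Led Lsl_et (LP (LK LD1_c3 LD2_c19 LD3_c50)) = (LP (LK LD1_c1 LD2_c36 LD3_c19)) :=
  Lre_e IH (LK LD1_c3 LD2_c19 LD3_c50) (LK LD1_c1 LD2_c36 LD3_c19) Lrfl Lrfl
theorem f57266 : Led Lsl_et (LP (LK LD1_c2 LD2_c50 LD3_c16)) = (LP (LK LD1_c5 LD2_c48 LD3_c21)) :=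
  Lre_e IH (LK LD1_c2 LD2_c50 LD3_c16) (LK LD1_c5 LD2_c48 LD3_c21) Lrfl Lrfl
theorem f57267 : Led Lsl_bf (LP (LK LD1_c3 LD2_c19 LD3_c50)) = (LP (LK LD1_c5 LD2_c48 LD3_c21)) :=
  Lgr Lrot96 (Lpr_et (f57265 IH) (Lpr_bt (K1.f57252 IH) (Lpr_et (f57266 IH) (Lpn (LP (LK LD1_c5 LD2_c48 LD3_c21))))))
theorem f57273 : Led Lsl_dt (LP (LK LD1_c3 LD2_c19 LD3_c50)) = (LP (LK LD1_c6 LD2_c43 LD3_c27)) :=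
  Lre_d IH (LK LD1_c3 LD2_c19 LD3_c50) (LK LD1_c6 LD2_c43 LD3_c27) Lrfl Lrfl
theorem f57274 : Led Lsl_dt (LP (LK LD1_c11 LD2_c26 LD3_c9)) = (LP (LK LD1_c5 LD2_c48 LD3_c21)) :=
  Lre_d IH (LK LD1_c11 LD2_c26 LD3_c9) (LK LD1_c5 LD2_c48 LD3_c21) Lrfl Lrfl
theorem f57275 : Led Lsl_bt (LP (LK LD1_c6 LD2_c43 LD3_c27)) = (LP (LK LD1_c11 LD2_c26 LD3_c9)) :=
  Lgr Lrot95 (Lpe (f57273 IH) (Lpr_bf (f57267 IH) (Lpe (f57274 IH) (Lpn (LP (LK LD1_c11 LD2_c26 LD3_c9))))))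
theorem f57288 : Led Lsl_bf (LP (LK LD1_c6 LD2_c43 LD3_c27)) = (LP (LK LD1_c11 LD2_c26 LD3_c9)) :=
  Lgr Lrot24 (Lpr_bt (f57275 IH) (Lpn (LP (LK LD1_c11 LD2_c26 LD3_c9))))
theorem f57306 : Led Lsl_et (LP (LK LD1_c6 LD2_c43 LD3_c27)) = (LP (LK LD1_c3 LD2_c19 LD3_c53)) :=
  Lre_e IH (LK LD1_c6 LD2_c43 LD3_c27) (LK LD1_c3 LD2_c19 LD3_c53) Lrfl Lrfl
theorem f57307 : Led Lsl_et (LP (LK LD1_c5 LD2_c48 LD3_c24)) = (LP (LK LD1_c11 LD2_c26 LD3_c9)) :=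
  Lre_e IH (LK LD1_c5 LD2_c48 LD3_c24) (LK LD1_c11 LD2_c26 LD3_c9) Lrfl Lrfl
theorem f57308 : Led Lsl_bt (LP (LK LD1_c3 LD2_c19 LD3_c53)) = (LP (LK LD1_c5 LD2_c48 LD3_c24)) :=
  Lgr Lrot119 (Lpe (f57306 IH) (Lpr_bf (f57288 IH) (Lpe (f57307 IH) (Lpn (LP (LK LD1_c5 LD2_c48 LD3_c24))))))
theorem f57316 : Led Lsl_at (LP (LK LD1_c6 LD2_c43 LD3_c16)) = (LP (LK LD1_c3 LD2_c19 LD3_c53)) :=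
  Lre_a IH (LK LD1_c6 LD2_c43 LD3_c16) (LK LD1_c3 LD2_c19 LD3_c53) Lrfl Lrfl
theorem f57317 : Led Lsl_bt (LP (LK LD1_c12 LD2_c51 LD3_c18)) = (LP (LK LD1_c6 LD2_c43 LD3_c16)) :=
  Lre_b IH (LK LD1_c12 LD2_c51 LD3_c18) (LK LD1_c6 LD2_c43 LD3_c16) Lrfl Lrfl
theorem f57318 : Led Lsl_at (LP (LK LD1_c5 LD2_c48 LD3_c24)) = (LP (LK LD1_c11 LD2_c25 LD3_c51)) :=
  Lre_a IH (LK LD1_c5 LD2_c48 LD3_c24) (LK LD1_c11 LD2_c25 LD3_c51) Lrfl Lrfl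
theorem f57319 : Led Lsl_bt (LP (LK LD1_c11 LD2_c25 LD3_c51)) = (LP (LK LD1_c20 LD2_c23 LD3_c20)) :=
  Lre_b IH (LK LD1_c11 LD2_c25 LD3_c51) (LK LD1_c20 LD2_c23 LD3_c20) Lrfl Lrfl
theorem f57320 : Led Lsl_af (LP (LK LD1_c12 LD2_c51 LD3_c18)) = (LP (LK LD1_c20 LD2_c23 LD3_c20)) :=
  Lgr Lrot36 (Lpr_bt (f57317 IH) (Lpr_at (f57316 IH) (Lpr_bt (f57308 IH) (Lpr_at (f57318 IH) (Lpr_bt (f57319 IH) (Lpn (LP (LK LD1_c20 LD2_c23 LD3_c20))))))))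
theorem f57431 : Led Lsl_dt (LP (LK LD1_c12 LD2_c51 LD3_c18)) = (LP (LK LD1_c6 LD2_c43 LD3_c13)) :=
  Lre_d IH (LK LD1_c12 LD2_c51 LD3_c18) (LK LD1_c6 LD2_c43 LD3_c13) Lrfl Lrfl
theorem f57432 : Led Lsl_dt (LP (LK LD1_c11 LD2_c25 LD3_c49)) = (LP (LK LD1_c20 LD2_c23 LD3_c20)) :=
  Lre_d IH (LK LD1_c11 LD2_c25 LD3_c49) (LK LD1_c20 LD2_c23 LD3_c20) Lrfl Lrfl
theorem f57433 : Led Lsl_at (LP (LK LD1_c6 LD2_c43 LD3_c13)) = (LP (LK LD1_c11 LD2_c25 LD3_c49)) :=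
  Lgr Lrot51 (Lpe (f57431 IH) (Lpr_af (f57320 IH) (Lpe (f57432 IH) (Lpn (LP (LK LD1_c11 LD2_c25 LD3_c49))))))
theorem f57442 : Led Lsl_et (LP (LK LD1_c3 LD2_c19 LD3_c42)) = (LP (LK LD1_c6 LD2_c43 LD3_c13)) :=
  Lre_e IH (LK LD1_c3 LD2_c19 LD3_c42) (LK LD1_c6 LD2_c43 LD3_c13) Lrfl Lrfl
theorem f57443 : Led Lsl_et (LP (LK LD1_c11 LD2_c25 LD3_c49)) = (LP (LK LD1_c5 LD2_c48 LD3_c6)) :=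
  Lre_e IH (LK LD1_c11 LD2_c25 LD3_c49) (LK LD1_c5 LD2_c48 LD3_c6) Lrfl Lrfl
theorem f57444 : Led Lsl_af (LP (LK LD1_c3 LD2_c19 LD3_c42)) = (LP (LK LD1_c5 LD2_c48 LD3_c6)) :=
  Lgr Lrot50 (Lpr_et (f57442 IH) (Lpr_at (f57433 IH) (Lpr_et (f57443 IH) (Lpn (LP (LK LD1_c5 LD2_c48 LD3_c6))))))
theorem f145107 : Led Lsl_df (LP (LK LD1_c5 LD2_c48 LD3_c6)) = (LP (LK LD1_c6 LD2_c54 LD3_c46)) :=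
  Lgr Lrot18 (Lpe (f57444 IH) (Lpr_dt (f57450 IH) (Lpr_at (f145101 IH) (Lpn (LP (LK LD1_c6 LD2_c54 LD3_c46))))))
theorem f145124 : Led Lsl_df (LP (LK LD1_c7 LD2_c37 LD3_c61)) = (LP (LK LD1_c9 LD2_c5 LD3_c49)) :=
  Lgr Lrot78 (Lpr_ft (f145116 IH) (Lpe (f145107 IH) (Lpe (f135836 IH) (Lpn (LP (LK LD1_c9 LD2_c5 LD3_c49))))))
theorem f145127 : Led Lsl_bt (LP (LK LD1_c7 LD2_c37 LD3_c61)) = (LP (LK LD1_c3 LD2_c50 LD3_c29)) :=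
  Lgr Lrot95 (Lpr_df (f145124 IH) (Lpe (f92185 IH) (Lpr_df (f135882 IH) (Lpn (LP (LK LD1_c3 LD2_c50 LD3_c29))))))
theorem f130020 : Led Lsl_at (LP (LK LD1_c3 LD2_c48 LD3_c12)) = (LP (LK LD1_c3 LD2_c27 LD3_c9)) :=
  Lgr Lrot107 (Lpr_cf (K4.f116692 IH) (Lpr_af (f130016 IH) (Lpe (K5.f129581 IH) (Lpn (LP (LK LD1_c3 LD2_c27 LD3_c9))))))
theorem f144947 : Led Lsl_at (LP (LK LD1_c6 LD2_c56 LD3_c13)) = (LP (LK LD1_c7 LD2_c35 LD3_c36)) :=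
  Lgr Lrot67 (Lpe (K5.f122711 IH) (Lpe (f130020 IH) (Lpr_bf (f144940 IH) (Lpe (f144842 IH) (Lpe (f91264 IH) (Lpn (LP (LK LD1_c7 LD2_c35 LD3_c36))))))))
theorem f145031 : Led Lsl_gf (LP (LK LD1_c7 LD2_c35 LD3_c36)) = (LP (LK LD1_c3 LD2_c47 LD3_c29)) :=
  Lgr Lrot76 (Lpe (f144947 IH) (Lpr_ff (f145023 IH) (Lpr_gt (f126479 IH) (Lpn (LP (LK LD1_c3 LD2_c47 LD3_c29))))))
theorem f16763 : Led Lsl_ct (LP (LK LD1_c1 LD2_c50 LD3_c51)) = (LP (LK LD1_c3 LD2_c47 LD3_c30)) :=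
  Lre_c IH (LK LD1_c1 LD2_c50 LD3_c51) (LK LD1_c3 LD2_c47 LD3_c30) Lrfl Lrfl
theorem f145137 : Led Lsl_ct (LP (LK LD1_c7 LD2_c37 LD3_c61)) = (LP (LK LD1_c3 LD2_c48 LD3_c30)) :=
  Lgr Lrot64 (Lpr_bt (f145127 IH) (Lpr_gf (f136922 IH) (Lpr_bf (f127962 IH) (Lpe (K5.f127967 IH) (Lpe (f137232 IH) (Lpe (f114428 IH) (Lpr_gf (f145031 IH) (Lpe (f64441 IH) (Lpr_ct (f16763 IH) (Lpr_gf (f64439 IH) (Lpn (LP (LK LD1_c3 LD2_c48 LD3_c30)))))))))))))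
theorem f145141 : Led Lsl_cf (LP (LK LD1_c6 LD2_c54 LD3_c46)) = (LP (LK LD1_c6 LD2_c43 LD3_c12)) :=
  Lgr Lrot108 (Lpe (f145112 IH) (Lpr_ct (f145137 IH) (Lpe (f64452 IH) (Lpn (LP (LK LD1_c6 LD2_c43 LD3_c12))))))
theorem f145149 : Led Lsl_gf (LP (LK LD1_c1 LD2_c50 LD3_c42)) = (LP (LK LD1_c3 LD2_c19 LD3_c43)) :=
  Lgr Lrot124 (Lpe (K3.f12031 IH) (Lpr_ct (K2.f11958 IH) (Lpr_gt (K2.f11978 IH) (Lpe (K3.f17280 IH) (Lpr_bt (K5.f17279 IH) (Lpr_gt (K5.f16760 IH) (Lpr_ct (f16763 IH) (Lpr_gt (f145097 IH) (Lpr_cf (f145141 IH) (Lpr_bt (f57262 IH) (Lpn (LP (LK LD1_c3 LD2_c19 LD3_c43)))))))))))))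
theorem f145151 : Led Lsl_gt (LP (LK LD1_c1 LD2_c51 LD3_c17)) = (LP (LK LD1_c3 LD2_c19 LD3_c43)) :=
  Lgr Lrot5 (Lpr_ft (K3.f89776 IH) (Lpe (K5.f89763 IH) (Lpr_gf (f145149 IH) (Lpn (LP (LK LD1_c3 LD2_c19 LD3_c43))))))
theorem f111042 : Led Lsl_df (LP (LK LD1_c3 LD2_c23 LD3_c20)) = (LP (LK LD1_c3 LD2_c27 LD3_c9)) :=
  Lgr Lrot153 (Lpr_gt (K3.f104198 IH) (Lpr_dt (K4.f111027 IH) (Lpe (K3.f108984 IH) (Lpe (K3.f108980 IH) (Lpe (K2.f78097 IH) (Lpe (K3.f11012 IH) (Lpe (K3.f87622 IH) (Lpr_cf (K2.f11961 IH) (Lpr_gt (K5.f11977 IH) (Lpn (LP (LK LD1_c3 LD2_c27 LD3_c9))))))))))))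
theorem f145180 : Led Lsl_cf (LP (LK LD1_c2 LD2_c21 LD3_c48)) = (LP (LK LD1_c3 LD2_c19 LD3_c43)) :=
  Lgr Lrot99 (Lpe (K3.f78112 IH) (Lpe (K2.f78096 IH) (Lpe (K2.f78109 IH) (Lpe (K3.f78115 IH) (Lpe (K3.f104198 IH) (Lpr_df (f111042 IH) (Lpr_gt (f129590 IH) (Lpe (K5.f126564 IH) (Lpr_gt (f145151 IH) (Lpn (LP (LK LD1_c3 LD2_c19 LD3_c43))))))))))))
theorem f129561 : Led Lsl_bt (LP (LK LD1_c3 LD2_c44 LD3_c34)) = (LP (LK LD1_c7 LD2_c30 LD3_c11)) :=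
  Lre_b IH (LK LD1_c3 LD2_c44 LD3_c34) (LK LD1_c7 LD2_c30 LD3_c11) Lrfl Lrfl
theorem f14743 : Led Lsl_ct (LP (LK LD1_c7 LD2_c30 LD3_c12)) = (LP (LK LD1_c3 LD2_c44 LD3_c34)) :=
  Lre_c IH (LK LD1_c7 LD2_c30 LD3_c12) (LK LD1_c3 LD2_c44 LD3_c34) Lrfl Lrfl
theorem f129562 : Led Lsl_bt (LP (LK LD1_c7 LD2_c20 LD3_c61)) = (LP (LK LD1_c7 LD2_c30 LD3_c12)) :=
  Lgr Lrot128 (Lpe (K5.f122734 IH) (Lpe (K5.f123449 IH) (Lpr_cf (K5.f129559 IH) (Lpe (f129561 IH) (Lpe (f14743 IH) (Lpn (LP (LK LD1_c7 LD2_c30 LD3_c12))))))))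
theorem f57465 : Led Lsl_bt (LP (LK LD1_c3 LD2_c19 LD3_c43)) = (LP (LK LD1_c6 LD2_c43 LD3_c12)) :=
  Lre_b IH (LK LD1_c3 LD2_c19 LD3_c43) (LK LD1_c6 LD2_c43 LD3_c12) Lrfl Lrfl
theorem f145247 : Led Lsl_gf (LP (LK LD1_c7 LD2_c30 LD3_c12)) = (LP (LK LD1_c6 LD2_c43 LD3_c12)) :=
  Lgr Lrot124 (Lpe (f129562 IH) (Lpe (K5.f123450 IH) (Lpr_gt (K5.f123464 IH) (Lpe (K5.f91266 IH) (Lpr_bt (K5.f116688 IH) (Lpr_gt (K4.f12038 IH) (Lpe (K2.f11961 IH) (Lpr_gt (K3.f87622 IH) (Lpr_cf (f145180 IH) (Lpr_bt (f57465 IH) (Lpn (LP (LK LD1_c6 LD2_c43 LD3_c12)))))))))))))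
theorem f64438 : Led Lsl_bt (LP (LK LD1_c3 LD2_c48 LD3_c30)) = (LP (LK LD1_c1 LD2_c51 LD3_c16)) :=
  Lre_b IH (LK LD1_c3 LD2_c48 LD3_c30) (LK LD1_c1 LD2_c51 LD3_c16) Lrfl Lrfl
theorem f64447 : Led Lsl_ft (LP (LK LD1_c6 LD2_c43 LD3_c12)) = (LP (LK LD1_c3 LD2_c48 LD3_c30)) :=
  Lgr Lrot75 (Lpe (f57465 IH) (Lpr_ff (f64304 IH) (Lpe (f64438 IH) (Lpn (LP (LK LD1_c3 LD2_c48 LD3_c30))))))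
theorem f64457 : Led Lsl_at (LP (LK LD1_c3 LD2_c48 LD3_c30)) = (LP (LK LD1_c7 LD2_c37 LD3_c61)) :=
  Lre_a IH (LK LD1_c3 LD2_c48 LD3_c30) (LK LD1_c7 LD2_c37 LD3_c61) Lrfl Lrfl
theorem f145249 : Led Lsl_gt (LP (LK LD1_c7 LD2_c30 LD3_c12)) = (LP (LK LD1_c7 LD2_c37 LD3_c61)) :=
  Lgr Lrot46 (Lpr_gf (f145247 IH) (Lpr_ft (f64447 IH) (Lpr_at (f64457 IH) (Lpn (LP (LK LD1_c7 LD2_c37 LD3_c61))))))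
theorem f14739 : Led Lsl_ct (LP (LK LD1_c3 LD2_c44 LD3_c34)) = (LP (LK LD1_c7 LD2_c30 LD3_c12)) :=
  Lre_c IH (LK LD1_c3 LD2_c44 LD3_c34) (LK LD1_c7 LD2_c30 LD3_c12) Lrfl Lrfl
theorem f14733 : Led Lsl_gt (LP (LK LD1_c1 LD2_c49 LD3_c20)) = (LP (LK LD1_c3 LD2_c44 LD3_c34)) :=
  Lre_g IH (LK LD1_c1 LD2_c49 LD3_c20) (LK LD1_c3 LD2_c44 LD3_c34) Lrfl Lrfl
theorem f104284 : Led Lsl_gt (LP (LK LD1_c3 LD2_c17 LD3_c61)) = (LP (LK LD1_c6 LD2_c39 LD3_c44)) :=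
  Lre_g IH (LK LD1_c3 LD2_c17 LD3_c61) (LK LD1_c6 LD2_c39 LD3_c44) Lrfl Lrfl
theorem f24852 : Led Lsl_ct (LP (LK LD1_c0 LD2_c44 LD3_c30)) = (LP (LK LD1_c1 LD2_c35 LD3_c58)) :=
  Lre_c IH (LK LD1_c0 LD2_c44 LD3_c30) (LK LD1_c1 LD2_c35 LD3_c58) Lrfl Lrfl
theorem f24854 : Led Lsl_bt (LP (LK LD1_c1 LD2_c35 LD3_c58)) = (LP (LK LD1_c3 LD2_c18 LD3_c57)) :=
  Lre_b IH (LK LD1_c1 LD2_c35 LD3_c58) (LK LD1_c3 LD2_c18 LD3_c57) Lrfl Lrfl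
theorem f135764 : Led Lsl_cf (LP (LK LD1_c4 LD2_c47 LD3_c43)) = (LP (LK LD1_c3 LD2_c18 LD3_c57)) :=
  Lgr Lrot97 (Lpr_bt (f92187 IH) (Lpr_ct (f113299 IH) (Lpr_bt (f135755 IH) (Lpr_ct (f24852 IH) (Lpr_bt (f24854 IH) (Lpn (LP (LK LD1_c3 LD2_c18 LD3_c57))))))))
theorem f134804 : Led Lsl_gt (LP (LK LD1_c6 LD2_c41 LD3_c52)) = (LP (LK LD1_c3 LD2_c18 LD3_c57)) :=
  Lre_g IH (LK LD1_c6 LD2_c41 LD3_c52) (LK LD1_c3 LD2_c18 LD3_c57) Lrfl Lrfl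
theorem f145256 : Led Lsl_ct (LP (LK LD1_c6 LD2_c39 LD3_c44)) = (LP (LK LD1_c6 LD2_c41 LD3_c52)) :=
  Lgr Lrot152 (Lpe (f104284 IH) (Lpe (K0.f14711 IH) (Lpr_gt (f14733 IH) (Lpr_ct (f14739 IH) (Lpr_gt (f145249 IH) (Lpr_ct (f145137 IH) (Lpe (f135819 IH) (Lpr_cf (f135764 IH) (Lpe (f134804 IH) (Lpn (LP (LK LD1_c6 LD2_c41 LD3_c52))))))))))))
theorem f15524 : Led Lsl_bt (LP (LK LD1_c1 LD2_c35 LD3_c31)) = (LP (LK LD1_c3 LD2_c17 LD3_c61)) :=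
  Lre_b IH (LK LD1_c1 LD2_c35 LD3_c31) (LK LD1_c3 LD2_c17 LD3_c61) Lrfl Lrfl
theorem f135772 : Led Lsl_gt (LP (LK LD1_c2 LD2_c21 LD3_c44)) = (LP (LK LD1_c1 LD2_c36 LD3_c18)) :=
  Lgr Lrot46 (Lpr_gf (f135768 IH) (Lpe (K4.f120283 IH) (Lpr_at (K3.f108987 IH) (Lpn (LP (LK LD1_c1 LD2_c36 LD3_c18))))))
theorem f145268 : Led Lsl_ct (LP (LK LD1_c4 LD2_c47 LD3_c43)) = (LP (LK LD1_c3 LD2_c18 LD3_c57)) :=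
  Lgr Lrot63 (Lpr_bt (f92187 IH) (Lpr_gt (f135772 IH) (Lpe (K3.f104234 IH) (Lpr_ct (K3.f66417 IH) (Lpr_gt (K1.f24618 IH) (Lpe (K1.f64261 IH) (Lpr_bt (f15524 IH) (Lpr_gt (f104284 IH) (Lpr_ct (f145256 IH) (Lpr_gt (f134804 IH) (Lpn (LP (LK LD1_c3 LD2_c18 LD3_c57)))))))))))))
theorem f135781 : Led Lsl_df (LP (LK LD1_c4 LD2_c47 LD3_c43)) = (LP (LK LD1_c3 LD2_c48 LD3_c30)) :=
  Lgr Lrot12 (Lpr_bt (f92187 IH) (Lpr_dt (f135774 IH) (Lpr_bt (f64412 IH) (Lpn (LP (LK LD1_c3 LD2_c48 LD3_c30))))))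
theorem f26245 : Led Lsl_bt (LP (LK LD1_c3 LD2_c42 LD3_c5)) = (LP (LK LD1_c1 LD2_c48 LD3_c2)) :=
  Lre_b IH (LK LD1_c3 LD2_c42 LD3_c5) (LK LD1_c1 LD2_c48 LD3_c2) Lrfl Lrfl
theorem f66045 : Led Lsl_bt (LP (LK LD1_c6 LD2_c36 LD3_c42)) = (LP (LK LD1_c3 LD2_c16 LD3_c41)) :=
  Lre_b IH (LK LD1_c6 LD2_c36 LD3_c42) (LK LD1_c3 LD2_c16 LD3_c41) Lrfl Lrfl
theorem f26228 : Led Lsl_et (LP (LK LD1_c0 LD2_c50 LD3_c47)) = (LP (LK LD1_c1 LD2_c48 LD3_c3)) :=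
  Lre_e IH (LK LD1_c0 LD2_c50 LD3_c47) (LK LD1_c1 LD2_c48 LD3_c3) Lrfl Lrfl
theorem f26230 : Led Lsl_bt (LP (LK LD1_c1 LD2_c48 LD3_c3)) = (LP (LK LD1_c3 LD2_c38 LD3_c11)) :=
  Lgr Lrot119 (Lpe (f26228 IH) (Lpr_bf (K4.f26218 IH) (Lpe (K5.f26229 IH) (Lpn (LP (LK LD1_c3 LD2_c38 LD3_c11))))))
theorem f26234 : Led Lsl_bf (LP (LK LD1_c1 LD2_c48 LD3_c3)) = (LP (LK LD1_c3 LD2_c38 LD3_c11)) :=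
  Lgr Lrot24 (Lpr_bt (f26230 IH) (Lpn (LP (LK LD1_c3 LD2_c38 LD3_c11))))
theorem f26239 : Led Lsl_ct (LP (LK LD1_c1 LD2_c48 LD3_c3)) = (LP (LK LD1_c3 LD2_c42 LD3_c7)) :=
  Lre_c IH (LK LD1_c1 LD2_c48 LD3_c3) (LK LD1_c3 LD2_c42 LD3_c7) Lrfl Lrfl
theorem f26240 : Led Lsl_bt (LP (LK LD1_c3 LD2_c42 LD3_c7)) = (LP (LK LD1_c7 LD2_c24 LD3_c60)) :=
  Lre_b IH (LK LD1_c3 LD2_c42 LD3_c7) (LK LD1_c7 LD2_c24 LD3_c60) Lrfl Lrfl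
theorem f130891 : Led Lsl_cf (LP (LK LD1_c6 LD2_c36 LD3_c42)) = (LP (LK LD1_c7 LD2_c24 LD3_c60)) :=
  Lgr Lrot97 (Lpr_bt (f66045 IH) (Lpr_ct (K5.f130880 IH) (Lpe (f26234 IH) (Lpr_ct (f26239 IH) (Lpr_bt (f26240 IH) (Lpn (LP (LK LD1_c7 LD2_c24 LD3_c60))))))))
theorem f130899 : Led Lsl_et (LP (LK LD1_c6 LD2_c36 LD3_c42)) = (LP (LK LD1_c3 LD2_c16 LD3_c40)) :=
  Lre_e IH (LK LD1_c6 LD2_c36 LD3_c42) (LK LD1_c3 LD2_c16 LD3_c40) Lrfl Lrfl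
theorem f130900 : Led Lsl_et (LP (LK LD1_c3 LD2_c42 LD3_c5)) = (LP (LK LD1_c7 LD2_c24 LD3_c60)) :=
  Lre_e IH (LK LD1_c3 LD2_c42 LD3_c5) (LK LD1_c7 LD2_c24 LD3_c60) Lrfl Lrfl
theorem f130901 : Led Lsl_ct (LP (LK LD1_c3 LD2_c16 LD3_c40)) = (LP (LK LD1_c3 LD2_c42 LD3_c5)) :=
  Lgr Lrot15 (Lpe (f130899 IH) (Lpr_cf (f130891 IH) (Lpe (f130900 IH) (Lpn (LP (LK LD1_c3 LD2_c42 LD3_c5))))))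
theorem f65999 : Led Lsl_bt (LP (LK LD1_c3 LD2_c16 LD3_c40)) = (LP (LK LD1_c1 LD2_c35 LD3_c0)) :=
  Lre_b IH (LK LD1_c3 LD2_c16 LD3_c40) (LK LD1_c1 LD2_c35 LD3_c0) Lrfl Lrfl
theorem f141402 : Led Lsl_dt (LP (LK LD1_c6 LD2_c20 LD3_c7)) = (LP (LK LD1_c3 LD2_c16 LD3_c40)) :=
  Lgr Lrot79 (Lpr_bf (f141398 IH) (Lpr_df (K3.f65992 IH) (Lpe (f65999 IH) (Lpn (LP (LK LD1_c3 LD2_c16 LD3_c40))))))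
theorem f123582 : Led Lsl_dt (LP (LK LD1_c1 LD2_c49 LD3_c1)) = (LP (LK LD1_c0 LD2_c51 LD3_c18)) :=
  Lre_d IH (LK LD1_c1 LD2_c49 LD3_c1) (LK LD1_c0 LD2_c51 LD3_c18) Lrfl Lrfl
theorem f95897 : Led Lsl_dt (LP (LK LD1_c0 LD2_c24 LD3_c1)) = (LP (LK LD1_c0 LD2_c53 LD3_c27)) :=
  Lre_d IH (LK LD1_c0 LD2_c24 LD3_c1) (LK LD1_c0 LD2_c53 LD3_c27) Lrfl Lrfl
theorem f142712 : Led Lsl_gf (LP (LK LD1_c1 LD2_c49 LD3_c1)) = (LP (LK LD1_c0 LD2_c53 LD3_c27)) :=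
  Lgr Lrot154 (Lpr_dt (f123582 IH) (Lpe (K4.f123570 IH) (Lpr_df (K4.f116015 IH) (Lpr_gf (K4.f115510 IH) (Lpe (K4.f90253 IH) (Lpr_gf (K4.f114997 IH) (Lpr_ct (f142698 IH) (Lpr_gt (f21101 IH) (Lpr_dt (f95897 IH) (Lpn (LP (LK LD1_c0 LD2_c53 LD3_c27))))))))))))
theorem f95909 : Led Lsl_bt (LP (LK LD1_c0 LD2_c50 LD3_c24)) = (LP (LK LD1_c1 LD2_c47 LD3_c12)) :=
  Lre_b IH (LK LD1_c0 LD2_c50 LD3_c24) (LK LD1_c1 LD2_c47 LD3_c12) Lrfl Lrfl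
theorem f122736 : Led Lsl_bf (LP (LK LD1_c0 LD2_c24 LD3_c7)) = (LP (LK LD1_c0 LD2_c24 LD3_c1)) :=
  Lgr Lrot165 (Lpr_gt (K4.f11267 IH) (Lpe (K4.f121000 IH) (Lpr_gt (K4.f121227 IH) (Lpe (K5.f96338 IH) (Lpr_bt (K5.f96336 IH) (Lpr_gt (K5.f122707 IH) (Lpe (f95909 IH) (Lpr_ct (K3.f95902 IH) (Lpr_gt (f95895 IH) (Lpe (K4.f12181 IH) (Lpn (LP (LK LD1_c0 LD2_c24 LD3_c1)))))))))))))
theorem f11654 : Led Lsl_dt (LP (LK LD1_c0 LD2_c24 LD3_c7)) = (LP (LK LD1_c0 LD2_c53 LD3_c40)) :=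
  Lre_d IH (LK LD1_c0 LD2_c24 LD3_c7) (LK LD1_c0 LD2_c53 LD3_c40) Lrfl Lrfl
theorem f21155 : Led Lsl_dt (LP (LK LD1_c0 LD2_c53 LD3_c27)) = (LP (LK LD1_c0 LD2_c24 LD3_c1)) :=
  Lre_d IH (LK LD1_c0 LD2_c53 LD3_c27) (LK LD1_c0 LD2_c24 LD3_c1) Lrfl Lrfl
theorem f122752 : Led Lsl_bt (LP (LK LD1_c0 LD2_c53 LD3_c40)) = (LP (LK LD1_c0 LD2_c53 LD3_c27)) :=
  Lgr Lrot95 (Lpe (f11654 IH) (Lpr_bf (f122736 IH) (Lpe (f21155 IH) (Lpn (LP (LK LD1_c0 LD2_c53 LD3_c27))))))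
theorem f121002 : Led Lsl_ct (LP (LK LD1_c1 LD2_c54 LD3_c9)) = (LP (LK LD1_c0 LD2_c53 LD3_c40)) :=
  Lre_c IH (LK LD1_c1 LD2_c54 LD3_c9) (LK LD1_c0 LD2_c53 LD3_c40) Lrfl Lrfl
theorem f144345 : Led Lsl_df (LP (LK LD1_c1 LD2_c54 LD3_c9)) = (LP (LK LD1_c1 LD2_c35 LD3_c58)) :=
  Lgr Lrot183 (Lpr_ct (f121002 IH) (Lpr_bt (f122752 IH) (Lpe (f142712 IH) (Lpr_dt (f123582 IH) (Lpe (K4.f123570 IH) (Lpr_bt (K5.f116019 IH) (Lpr_gt (K3.f94339 IH) (Lpr_dt (K2.f94332 IH) (Lpr_ct (K4.f104179 IH) (Lpr_bt (K4.f65463 IH) (Lpr_gt (K3.f79298 IH) (Lpr_dt (K3.f26091 IH) (Lpr_ct (K3.f91310 IH) (Lpr_bt (K5.f91411 IH) (Lpr_gt (f91420 IH) (Lpr_dt (f141402 IH) (Lpr_ct (f130901 IH) (Lpr_bt (f26245 IH) (Lpr_gt (f144339 IH) (Lpn (LP (LK LD1_c1 LD2_c35 LD3_c58))))))))))))))))))))))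
theorem f34694 : Led Lsl_dt (LP (LK LD1_c0 LD2_c53 LD3_c40)) = (LP (LK LD1_c0 LD2_c24 LD3_c7)) :=
  Lre_d IH (LK LD1_c0 LD2_c53 LD3_c40) (LK LD1_c0 LD2_c24 LD3_c7) Lrfl Lrfl
theorem f124137 : Led Lsl_at (LP (LK LD1_c2 LD2_c22 LD3_c0)) = (LP (LK LD1_c1 LD2_c8 LD3_c11)) :=
  Lre_a IH (LK LD1_c2 LD2_c22 LD3_c0) (LK LD1_c1 LD2_c8 LD3_c11) Lrfl Lrfl
theorem f144371 : Led Lsl_ff (LP (LK LD1_c2 LD2_c22 LD3_c0)) = (LP (LK LD1_c1 LD2_c35 LD3_c58)) :=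
  Lgr Lrot103 (Lpr_at (f124137 IH) (Lpe (K5.f58842 IH) (Lpe (K5.f23267 IH) (Lpe (K2.f20019 IH) (Lpr_df (K2.f12144 IH) (Lpe (K2.f11655 IH) (Lpe (f34694 IH) (Lpe (f121002 IH) (Lpr_df (f144345 IH) (Lpn (LP (LK LD1_c1 LD2_c35 LD3_c58))))))))))))
theorem f84600 : Led Lsl_bt (LP (LK LD1_c2 LD2_c22 LD3_c0)) = (LP (LK LD1_c4 LD2_c48 LD3_c12)) :=
  Lre_b IH (LK LD1_c2 LD2_c22 LD3_c0) (LK LD1_c4 LD2_c48 LD3_c12) Lrfl Lrfl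
theorem f144347 : Led Lsl_bt (LP (LK LD1_c3 LD2_c18 LD3_c57)) = (LP (LK LD1_c1 LD2_c35 LD3_c58)) :=
  Lre_b IH (LK LD1_c3 LD2_c18 LD3_c57) (LK LD1_c1 LD2_c35 LD3_c58) Lrfl Lrfl
theorem f144430 : Led Lsl_ft (LP (LK LD1_c4 LD2_c48 LD3_c12)) = (LP (LK LD1_c3 LD2_c18 LD3_c57)) :=
  Lgr Lrot75 (Lpe (f84600 IH) (Lpr_ff (f144371 IH) (Lpe (f144347 IH) (Lpn (LP (LK LD1_c3 LD2_c18 LD3_c57))))))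
theorem f144437 : Led Lsl_ff (LP (LK LD1_c4 LD2_c48 LD3_c12)) = (LP (LK LD1_c3 LD2_c18 LD3_c57)) :=
  Lgr Lrot3 (Lpr_ft (f144430 IH) (Lpn (LP (LK LD1_c3 LD2_c18 LD3_c57))))
theorem f145272 : Led Lsl_cf (LP (LK LD1_c3 LD2_c19 LD3_c42)) = (LP (LK LD1_c4 LD2_c48 LD3_c12)) :=
  Lgr Lrot108 (Lpe (f135825 IH) (Lpr_ct (f145268 IH) (Lpe (f144437 IH) (Lpn (LP (LK LD1_c4 LD2_c48 LD3_c12))))))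
theorem f144351 : Led Lsl_et (LP (LK LD1_c1 LD2_c54 LD3_c9)) = (LP (LK LD1_c3 LD2_c55 LD3_c8)) :=
  Lre_e IH (LK LD1_c1 LD2_c54 LD3_c9) (LK LD1_c3 LD2_c55 LD3_c8) Lrfl Lrfl
theorem f144368 : Led Lsl_dt (LP (LK LD1_c3 LD2_c55 LD3_c8)) = (LP (LK LD1_c7 LD2_c51 LD3_c61)) :=
  Lre_d IH (LK LD1_c3 LD2_c55 LD3_c8) (LK LD1_c7 LD2_c51 LD3_c61) Lrfl Lrfl
theorem f144355 : Led Lsl_et (LP (LK LD1_c3 LD2_c18 LD3_c58)) = (LP (LK LD1_c1 LD2_c35 LD3_c58)) :=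
  Lre_e IH (LK LD1_c3 LD2_c18 LD3_c58) (LK LD1_c1 LD2_c35 LD3_c58) Lrfl Lrfl
theorem f134817 : Led Lsl_dt (LP (LK LD1_c6 LD2_c41 LD3_c56)) = (LP (LK LD1_c3 LD2_c18 LD3_c58)) :=
  Lre_d IH (LK LD1_c6 LD2_c41 LD3_c56) (LK LD1_c3 LD2_c18 LD3_c58) Lrfl Lrfl
theorem f144369 : Led Lsl_et (LP (LK LD1_c7 LD2_c51 LD3_c61)) = (LP (LK LD1_c6 LD2_c41 LD3_c56)) :=
  Lgr Lrot71 (Lpe (f144368 IH) (Lpe (f144351 IH) (Lpr_df (f144345 IH) (Lpe (f144355 IH) (Lpe (f134817 IH) (Lpn (LP (LK LD1_c6 LD2_c41 LD3_c56))))))))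
theorem f144451 : Led Lsl_ef (LP (LK LD1_c7 LD2_c51 LD3_c61)) = (LP (LK LD1_c6 LD2_c41 LD3_c56)) :=
  Lgr Lrot88 (Lpr_et (f144369 IH) (Lpn (LP (LK LD1_c6 LD2_c41 LD3_c56))))
theorem f144457 : Led Lsl_bt (LP (LK LD1_c7 LD2_c51 LD3_c61)) = (LP (LK LD1_c14 LD2_c50 LD3_c4)) :=
  Lre_b IH (LK LD1_c7 LD2_c51 LD3_c61) (LK LD1_c14 LD2_c50 LD3_c4) Lrfl Lrfl
theorem f139874 : Led Lsl_bt (LP (LK LD1_c12 LD2_c48 LD3_c60)) = (LP (LK LD1_c6 LD2_c41 LD3_c56)) :=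
  Lre_b IH (LK LD1_c12 LD2_c48 LD3_c60) (LK LD1_c6 LD2_c41 LD3_c56) Lrfl Lrfl
theorem f144458 : Led Lsl_et (LP (LK LD1_c14 LD2_c50 LD3_c4)) = (LP (LK LD1_c12 LD2_c48 LD3_c60)) :=
  Lgr Lrot74 (Lpe (f144457 IH) (Lpr_ef (f144451 IH) (Lpe (f139874 IH) (Lpn (LP (LK LD1_c12 LD2_c48 LD3_c60))))))
theorem f123003 : Led Lsl_dt (LP (LK LD1_c7 LD2_c51 LD3_c58)) = (LP (LK LD1_c14 LD2_c50 LD3_c4)) :=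
  Lre_d IH (LK LD1_c7 LD2_c51 LD3_c58) (LK LD1_c14 LD2_c50 LD3_c4) Lrfl Lrfl
theorem f122962 : Led Lsl_et (LP (LK LD1_c3 LD2_c55 LD3_c7)) = (LP (LK LD1_c7 LD2_c51 LD3_c58)) :=
  Lre_e IH (LK LD1_c3 LD2_c55 LD3_c7) (LK LD1_c7 LD2_c51 LD3_c58) Lrfl Lrfl
theorem f144643 : Led Lsl_dt (LP (LK LD1_c12 LD2_c48 LD3_c60)) = (LP (LK LD1_c6 LD2_c41 LD3_c53)) :=
  Lre_d IH (LK LD1_c12 LD2_c48 LD3_c60) (LK LD1_c6 LD2_c41 LD3_c53) Lrfl Lrfl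
theorem f144440 : Led Lsl_et (LP (LK LD1_c6 LD2_c41 LD3_c53)) = (LP (LK LD1_c3 LD2_c18 LD3_c57)) :=
  Lre_e IH (LK LD1_c6 LD2_c41 LD3_c53) (LK LD1_c3 LD2_c18 LD3_c57) Lrfl Lrfl
theorem f144644 : Led Lsl_df (LP (LK LD1_c3 LD2_c55 LD3_c7)) = (LP (LK LD1_c3 LD2_c18 LD3_c57)) :=
  Lgr Lrot70 (Lpr_et (f122962 IH) (Lpr_dt (f123003 IH) (Lpr_et (f144458 IH) (Lpr_dt (f144643 IH) (Lpr_et (f144440 IH) (Lpn (LP (LK LD1_c3 LD2_c18 LD3_c57))))))))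
theorem f122754 : Led Lsl_et (LP (LK LD1_c0 LD2_c24 LD3_c7)) = (LP (LK LD1_c0 LD2_c53 LD3_c41)) :=
  Lre_e IH (LK LD1_c0 LD2_c24 LD3_c7) (LK LD1_c0 LD2_c53 LD3_c41) Lrfl Lrfl
theorem f122755 : Led Lsl_et (LP (LK LD1_c0 LD2_c53 LD3_c28)) = (LP (LK LD1_c0 LD2_c24 LD3_c1)) :=
  Lre_e IH (LK LD1_c0 LD2_c53 LD3_c28) (LK LD1_c0 LD2_c24 LD3_c1) Lrfl Lrfl
theorem f122756 : Led Lsl_bt (LP (LK LD1_c0 LD2_c53 LD3_c41)) = (LP (LK LD1_c0 LD2_c53 LD3_c28)) :=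
  Lgr Lrot119 (Lpe (f122754 IH) (Lpr_bf (f122736 IH) (Lpe (f122755 IH) (Lpn (LP (LK LD1_c0 LD2_c53 LD3_c28))))))
theorem f122776 : Led Lsl_ft (LP (LK LD1_c1 LD2_c54 LD3_c14)) = (LP (LK LD1_c0 LD2_c53 LD3_c41)) :=
  Lre_f IH (LK LD1_c1 LD2_c54 LD3_c14) (LK LD1_c0 LD2_c53 LD3_c41) Lrfl Lrfl
theorem f122777 : Led Lsl_ft (LP (LK LD1_c0 LD2_c53 LD3_c28)) = (LP (LK LD1_c1 LD2_c53 LD3_c49)) :=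
  Lre_f IH (LK LD1_c0 LD2_c53 LD3_c28) (LK LD1_c1 LD2_c53 LD3_c49) Lrfl Lrfl
theorem f122778 : Led Lsl_bf (LP (LK LD1_c1 LD2_c54 LD3_c14)) = (LP (LK LD1_c1 LD2_c53 LD3_c49)) :=
  Lgr Lrot61 (Lpr_ft (f122776 IH) (Lpr_bt (f122756 IH) (Lpr_ft (f122777 IH) (Lpn (LP (LK LD1_c1 LD2_c53 LD3_c49))))))
theorem f122808 : Led Lsl_dt (LP (LK LD1_c1 LD2_c54 LD3_c14)) = (LP (LK LD1_c3 LD2_c55 LD3_c21)) :=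
  Lre_d IH (LK LD1_c1 LD2_c54 LD3_c14) (LK LD1_c3 LD2_c55 LD3_c21) Lrfl Lrfl
theorem f122809 : Led Lsl_dt (LP (LK LD1_c3 LD2_c54 LD3_c28)) = (LP (LK LD1_c1 LD2_c53 LD3_c49)) :=
  Lre_d IH (LK LD1_c3 LD2_c54 LD3_c28) (LK LD1_c1 LD2_c53 LD3_c49) Lrfl Lrfl
theorem f122810 : Led Lsl_bt (LP (LK LD1_c3 LD2_c55 LD3_c21)) = (LP (LK LD1_c3 LD2_c54 LD3_c28)) :=
  Lgr Lrot95 (Lpe (f122808 IH) (Lpr_bf (f122778 IH) (Lpe (f122809 IH) (Lpn (LP (LK LD1_c3 LD2_c54 LD3_c28))))))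
theorem f122835 : Led Lsl_et (LP (LK LD1_c7 LD2_c52 LD3_c33)) = (LP (LK LD1_c3 LD2_c55 LD3_c21)) :=
  Lre_e IH (LK LD1_c7 LD2_c52 LD3_c33) (LK LD1_c3 LD2_c55 LD3_c21) Lrfl Lrfl
theorem f122836 : Led Lsl_et (LP (LK LD1_c3 LD2_c54 LD3_c28)) = (LP (LK LD1_c7 LD2_c50 LD3_c39)) :=
  Lre_e IH (LK LD1_c3 LD2_c54 LD3_c28) (LK LD1_c7 LD2_c50 LD3_c39) Lrfl Lrfl
theorem f122837 : Led Lsl_bf (LP (LK LD1_c7 LD2_c52 LD3_c33)) = (LP (LK LD1_c7 LD2_c50 LD3_c39)) :=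
  Lgr Lrot96 (Lpr_et (f122835 IH) (Lpr_bt (f122810 IH) (Lpr_et (f122836 IH) (Lpn (LP (LK LD1_c7 LD2_c50 LD3_c39))))))
theorem f122854 : Led Lsl_ft (LP (LK LD1_c7 LD2_c52 LD3_c33)) = (LP (LK LD1_c14 LD2_c50 LD3_c48)) :=
  Lre_f IH (LK LD1_c7 LD2_c52 LD3_c33) (LK LD1_c14 LD2_c50 LD3_c48) Lrfl Lrfl
theorem f122855 : Led Lsl_ft (LP (LK LD1_c14 LD2_c46 LD3_c61)) = (LP (LK LD1_c7 LD2_c50 LD3_c39)) :=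
  Lre_f IH (LK LD1_c14 LD2_c46 LD3_c61) (LK LD1_c7 LD2_c50 LD3_c39) Lrfl Lrfl
theorem f122856 : Led Lsl_bt (LP (LK LD1_c14 LD2_c50 LD3_c48)) = (LP (LK LD1_c14 LD2_c46 LD3_c61)) :=
  Lgr Lrot35 (Lpe (f122854 IH) (Lpr_bf (f122837 IH) (Lpe (f122855 IH) (Lpn (LP (LK LD1_c14 LD2_c46 LD3_c61))))))
theorem f122872 : Led Lsl_et (LP (LK LD1_c7 LD2_c52 LD3_c12)) = (LP (LK LD1_c14 LD2_c50 LD3_c48)) :=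
  Lre_e IH (LK LD1_c7 LD2_c52 LD3_c12) (LK LD1_c14 LD2_c50 LD3_c48) Lrfl Lrfl
theorem f122873 : Led Lsl_et (LP (LK LD1_c14 LD2_c46 LD3_c61)) = (LP (LK LD1_c7 LD2_c50 LD3_c13)) :=
  Lre_e IH (LK LD1_c14 LD2_c46 LD3_c61) (LK LD1_c7 LD2_c50 LD3_c13) Lrfl Lrfl
theorem f122874 : Led Lsl_bf (LP (LK LD1_c7 LD2_c52 LD3_c12)) = (LP (LK LD1_c7 LD2_c50 LD3_c13)) :=
  Lgr Lrot96 (Lpr_et (f122872 IH) (Lpr_bt (f122856 IH) (Lpr_et (f122873 IH) (Lpn (LP (LK LD1_c7 LD2_c50 LD3_c13))))))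
theorem f122894 : Led Lsl_ft (LP (LK LD1_c7 LD2_c52 LD3_c12)) = (LP (LK LD1_c3 LD2_c55 LD3_c11)) :=
  Lre_f IH (LK LD1_c7 LD2_c52 LD3_c12) (LK LD1_c3 LD2_c55 LD3_c11) Lrfl Lrfl
theorem f122895 : Led Lsl_ft (LP (LK LD1_c3 LD2_c54 LD3_c17)) = (LP (LK LD1_c7 LD2_c50 LD3_c13)) :=
  Lre_f IH (LK LD1_c3 LD2_c54 LD3_c17) (LK LD1_c7 LD2_c50 LD3_c13) Lrfl Lrfl
theorem f122896 : Led Lsl_bt (LP (LK LD1_c3 LD2_c55 LD3_c11)) = (LP (LK LD1_c3 LD2_c54 LD3_c17)) :=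
  Lgr Lrot35 (Lpe (f122894 IH) (Lpr_bf (f122874 IH) (Lpe (f122895 IH) (Lpn (LP (LK LD1_c3 LD2_c54 LD3_c17))))))
theorem f121055 : Led Lsl_dt (LP (LK LD1_c1 LD2_c54 LD3_c10)) = (LP (LK LD1_c3 LD2_c55 LD3_c11)) :=
  Lre_d IH (LK LD1_c1 LD2_c54 LD3_c10) (LK LD1_c3 LD2_c55 LD3_c11) Lrfl Lrfl
theorem f122912 : Led Lsl_dt (LP (LK LD1_c3 LD2_c54 LD3_c17)) = (LP (LK LD1_c1 LD2_c53 LD3_c45)) :=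
  Lre_d IH (LK LD1_c3 LD2_c54 LD3_c17) (LK LD1_c1 LD2_c53 LD3_c45) Lrfl Lrfl
theorem f122913 : Led Lsl_bf (LP (LK LD1_c1 LD2_c54 LD3_c10)) = (LP (LK LD1_c1 LD2_c53 LD3_c45)) :=
  Lgr Lrot93 (Lpr_dt (f121055 IH) (Lpr_bt (f122896 IH) (Lpr_dt (f122912 IH) (Lpn (LP (LK LD1_c1 LD2_c53 LD3_c45))))))
theorem f122933 : Led Lsl_ct (LP (LK LD1_c1 LD2_c54 LD3_c10)) = (LP (LK LD1_c3 LD2_c55 LD3_c8)) :=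
  Lre_c IH (LK LD1_c1 LD2_c54 LD3_c10) (LK LD1_c3 LD2_c55 LD3_c8) Lrfl Lrfl
theorem f122934 : Led Lsl_bt (LP (LK LD1_c3 LD2_c55 LD3_c8)) = (LP (LK LD1_c7 LD2_c51 LD3_c58)) :=
  Lre_b IH (LK LD1_c3 LD2_c55 LD3_c8) (LK LD1_c7 LD2_c51 LD3_c58) Lrfl Lrfl
theorem f122935 : Led Lsl_ct (LP (LK LD1_c3 LD2_c54 LD3_c14)) = (LP (LK LD1_c1 LD2_c53 LD3_c45)) :=
  Lre_c IH (LK LD1_c3 LD2_c54 LD3_c14) (LK LD1_c1 LD2_c53 LD3_c45) Lrfl Lrfl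
theorem f122936 : Led Lsl_bt (LP (LK LD1_c7 LD2_c50 LD3_c0)) = (LP (LK LD1_c3 LD2_c54 LD3_c14)) :=
  Lre_b IH (LK LD1_c7 LD2_c50 LD3_c0) (LK LD1_c3 LD2_c54 LD3_c14) Lrfl Lrfl
theorem f122937 : Led Lsl_ct (LP (LK LD1_c7 LD2_c51 LD3_c58)) = (LP (LK LD1_c7 LD2_c50 LD3_c0)) :=
  Lgr Lrot83 (Lpe (f122934 IH) (Lpe (f122933 IH) (Lpr_bf (f122913 IH) (Lpe (f122935 IH) (Lpe (f122936 IH) (Lpn (LP (LK LD1_c7 LD2_c50 LD3_c0))))))))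
theorem f122963 : Led Lsl_et (LP (LK LD1_c7 LD2_c50 LD3_c0)) = (LP (LK LD1_c3 LD2_c54 LD3_c13)) :=
  Lre_e IH (LK LD1_c7 LD2_c50 LD3_c0) (LK LD1_c3 LD2_c54 LD3_c13) Lrfl Lrfl
theorem f122964 : Led Lsl_cf (LP (LK LD1_c3 LD2_c55 LD3_c7)) = (LP (LK LD1_c3 LD2_c54 LD3_c13)) :=
  Lgr Lrot39 (Lpr_et (f122962 IH) (Lpr_ct (f122937 IH) (Lpr_et (f122963 IH) (Lpn (LP (LK LD1_c3 LD2_c54 LD3_c13))))))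
theorem f122982 : Led Lsl_ct (LP (LK LD1_c3 LD2_c55 LD3_c7)) = (LP (LK LD1_c3 LD2_c54 LD3_c13)) :=
  Lgr Lrot59 (Lpr_cf (f122964 IH) (Lpn (LP (LK LD1_c3 LD2_c54 LD3_c13))))
theorem f145274 : Led Lsl_df (LP (LK LD1_c4 LD2_c48 LD3_c12)) = (LP (LK LD1_c3 LD2_c54 LD3_c13)) :=
  Lgr Lrot13 (Lpe (f145272 IH) (Lpr_dt (f57450 IH) (Lpe (f145141 IH) (Lpe (f145101 IH) (Lpr_ff (f64452 IH) (Lpe (f135781 IH) (Lpr_ct (f145268 IH) (Lpe (f144644 IH) (Lpr_ct (f122982 IH) (Lpn (LP (LK LD1_c3 LD2_c54 LD3_c13))))))))))))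
theorem f145283 : Led Lsl_ft (LP (LK LD1_c3 LD2_c55 LD3_c7)) = (LP (LK LD1_c3 LD2_c54 LD3_c13)) :=
  Lgr Lrot54 (Lpr_df (f144644 IH) (Lpe (f144430 IH) (Lpr_df (f145274 IH) (Lpn (LP (LK LD1_c3 LD2_c54 LD3_c13))))))
theorem f145287 : Led Lsl_ff (LP (LK LD1_c3 LD2_c55 LD3_c7)) = (LP (LK LD1_c3 LD2_c54 LD3_c13)) :=
  Lgr Lrot3 (Lpr_ft (f145283 IH) (Lpn (LP (LK LD1_c3 LD2_c54 LD3_c13))))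
theorem f122979 : Led Lsl_bt (LP (LK LD1_c3 LD2_c55 LD3_c7)) = (LP (LK LD1_c1 LD2_c54 LD3_c9)) :=
  Lre_b IH (LK LD1_c3 LD2_c55 LD3_c7) (LK LD1_c1 LD2_c54 LD3_c9) Lrfl Lrfl
theorem f122981 : Led Lsl_bt (LP (LK LD1_c1 LD2_c53 LD3_c44)) = (LP (LK LD1_c3 LD2_c54 LD3_c13)) :=
  Lre_b IH (LK LD1_c1 LD2_c53 LD3_c44) (LK LD1_c3 LD2_c54 LD3_c13) Lrfl Lrfl
theorem f145289 : Led Lsl_ft (LP (LK LD1_c1 LD2_c54 LD3_c9)) = (LP (LK LD1_c1 LD2_c53 LD3_c44)) :=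
  Lgr Lrot75 (Lpe (f122979 IH) (Lpr_ff (f145287 IH) (Lpe (f122981 IH) (Lpn (LP (LK LD1_c1 LD2_c53 LD3_c44))))))
theorem f144380 : Led Lsl_et (LP (LK LD1_c3 LD2_c55 LD3_c8)) = (LP (LK LD1_c1 LD2_c54 LD3_c9)) :=
  Lre_e IH (LK LD1_c3 LD2_c55 LD3_c8) (LK LD1_c1 LD2_c54 LD3_c9) Lrfl Lrfl
theorem f144547 : Led Lsl_ft (LP (LK LD1_c7 LD2_c52 LD3_c0)) = (LP (LK LD1_c3 LD2_c55 LD3_c8)) :=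
  Lre_f IH (LK LD1_c7 LD2_c52 LD3_c0) (LK LD1_c3 LD2_c55 LD3_c8) Lrfl Lrfl
theorem f145301 : Led Lsl_et (LP (LK LD1_c1 LD2_c53 LD3_c44)) = (LP (LK LD1_c3 LD2_c54 LD3_c14)) :=
  Lre_e IH (LK LD1_c1 LD2_c53 LD3_c44) (LK LD1_c3 LD2_c54 LD3_c14) Lrfl Lrfl
theorem f145302 : Led Lsl_ft (LP (LK LD1_c3 LD2_c54 LD3_c14)) = (LP (LK LD1_c7 LD2_c50 LD3_c3)) :=
  Lre_f IH (LK LD1_c3 LD2_c54 LD3_c14) (LK LD1_c7 LD2_c50 LD3_c3) Lrfl Lrfl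
theorem f145303 : Led Lsl_ef (LP (LK LD1_c7 LD2_c52 LD3_c0)) = (LP (LK LD1_c7 LD2_c50 LD3_c3)) :=
  Lgr Lrot21 (Lpr_ft (f144547 IH) (Lpr_et (f144380 IH) (Lpr_ft (f145289 IH) (Lpr_et (f145301 IH) (Lpr_ft (f145302 IH) (Lpn (LP (LK LD1_c7 LD2_c50 LD3_c3))))))))
theorem f145307 : Led Lsl_et (LP (LK LD1_c7 LD2_c52 LD3_c0)) = (LP (LK LD1_c7 LD2_c50 LD3_c3)) :=
  Lgr Lrot87 (Lpr_ef (f145303 IH) (Lpn (LP (LK LD1_c7 LD2_c50 LD3_c3))))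
theorem f123032 : Led Lsl_ct (LP (LK LD1_c3 LD2_c55 LD3_c12)) = (LP (LK LD1_c7 LD2_c52 LD3_c0)) :=
  Lre_c IH (LK LD1_c3 LD2_c55 LD3_c12) (LK LD1_c7 LD2_c52 LD3_c0) Lrfl Lrfl
theorem f123034 : Led Lsl_ct (LP (LK LD1_c7 LD2_c50 LD3_c3)) = (LP (LK LD1_c3 LD2_c54 LD3_c18)) :=
  Lre_c IH (LK LD1_c7 LD2_c50 LD3_c3) (LK LD1_c3 LD2_c54 LD3_c18) Lrfl Lrfl
theorem f145310 : Led Lsl_ef (LP (LK LD1_c3 LD2_c55 LD3_c12)) = (LP (LK LD1_c3 LD2_c54 LD3_c18)) :=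
  Lgr Lrot28 (Lpr_ct (f123032 IH) (Lpr_et (f145307 IH) (Lpr_ct (f123034 IH) (Lpn (LP (LK LD1_c3 LD2_c54 LD3_c18))))))
theorem f123035 : Led Lsl_dt (LP (LK LD1_c3 LD2_c55 LD3_c12)) = (LP (LK LD1_c7 LD2_c52 LD3_c12)) :=
  Lre_d IH (LK LD1_c3 LD2_c55 LD3_c12) (LK LD1_c7 LD2_c52 LD3_c12) Lrfl Lrfl
theorem f123036 : Led Lsl_dt (LP (LK LD1_c7 LD2_c50 LD3_c13)) = (LP (LK LD1_c3 LD2_c54 LD3_c18)) :=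
  Lre_d IH (LK LD1_c7 LD2_c50 LD3_c13) (LK LD1_c3 LD2_c54 LD3_c18) Lrfl Lrfl
theorem f145316 : Led Lsl_dt (LP (LK LD1_c14 LD2_c50 LD3_c48)) = (LP (LK LD1_c14 LD2_c46 LD3_c61)) :=
  Lgr Lrot77 (Lpe (f122872 IH) (Lpe (f123035 IH) (Lpr_ef (f145310 IH) (Lpe (f123036 IH) (Lpe (f122873 IH) (Lpn (LP (LK LD1_c14 LD2_c46 LD3_c61))))))))
theorem f145324 : Led Lsl_df (LP (LK LD1_c7 LD2_c52 LD3_c33)) = (LP (LK LD1_c7 LD2_c50 LD3_c39)) :=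
  Lgr Lrot78 (Lpr_ft (f122854 IH) (Lpr_dt (f145316 IH) (Lpr_ft (f122855 IH) (Lpn (LP (LK LD1_c7 LD2_c50 LD3_c39))))))
theorem f123343 : Led Lsl_dt (LP (LK LD1_c3 LD2_c55 LD3_c21)) = (LP (LK LD1_c1 LD2_c54 LD3_c14)) :=
  Lre_d IH (LK LD1_c3 LD2_c55 LD3_c21) (LK LD1_c1 LD2_c54 LD3_c14) Lrfl Lrfl
theorem f123344 : Led Lsl_dt (LP (LK LD1_c1 LD2_c53 LD3_c49)) = (LP (LK LD1_c3 LD2_c54 LD3_c28)) :=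
  Lre_d IH (LK LD1_c1 LD2_c53 LD3_c49) (LK LD1_c3 LD2_c54 LD3_c28) Lrfl Lrfl
theorem f145333 : Led Lsl_et (LP (LK LD1_c1 LD2_c54 LD3_c14)) = (LP (LK LD1_c1 LD2_c53 LD3_c49)) :=
  Lgr Lrot71 (Lpe (f123343 IH) (Lpe (f122835 IH) (Lpr_df (f145324 IH) (Lpe (f122836 IH) (Lpe (f123344 IH) (Lpn (LP (LK LD1_c1 LD2_c53 LD3_c49))))))))
theorem f145344 : Led Lsl_ef (LP (LK LD1_c1 LD2_c54 LD3_c14)) = (LP (LK LD1_c1 LD2_c53 LD3_c49)) :=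
  Lgr Lrot88 (Lpr_et (f145333 IH) (Lpn (LP (LK LD1_c1 LD2_c53 LD3_c49))))
theorem f122802 : Led Lsl_ct (LP (LK LD1_c1 LD2_c54 LD3_c14)) = (LP (LK LD1_c0 LD2_c53 LD3_c45)) :=
  Lre_c IH (LK LD1_c1 LD2_c54 LD3_c14) (LK LD1_c0 LD2_c53 LD3_c45) Lrfl Lrfl
theorem f122804 : Led Lsl_ct (LP (LK LD1_c0 LD2_c53 LD3_c31)) = (LP (LK LD1_c1 LD2_c53 LD3_c49)) :=
  Lre_c IH (LK LD1_c0 LD2_c53 LD3_c31) (LK LD1_c1 LD2_c53 LD3_c49) Lrfl Lrfl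
theorem f145347 : Led Lsl_et (LP (LK LD1_c0 LD2_c53 LD3_c45)) = (LP (LK LD1_c0 LD2_c53 LD3_c31)) :=
  Lgr Lrot158 (Lpe (f122802 IH) (Lpr_ef (f145344 IH) (Lpe (f122804 IH) (Lpn (LP (LK LD1_c0 LD2_c53 LD3_c31))))))
theorem f123363 : Led Lsl_bt (LP (LK LD1_c0 LD2_c24 LD3_c11)) = (LP (LK LD1_c0 LD2_c53 LD3_c45)) :=
  Lre_b IH (LK LD1_c0 LD2_c24 LD3_c11) (LK LD1_c0 LD2_c53 LD3_c45) Lrfl Lrfl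
theorem f123368 : Led Lsl_bt (LP (LK LD1_c0 LD2_c53 LD3_c31)) = (LP (LK LD1_c0 LD2_c24 LD3_c5)) :=
  Lre_b IH (LK LD1_c0 LD2_c53 LD3_c31) (LK LD1_c0 LD2_c24 LD3_c5) Lrfl Lrfl
theorem f145353 : Led Lsl_ef (LP (LK LD1_c0 LD2_c24 LD3_c11)) = (LP (LK LD1_c0 LD2_c24 LD3_c5)) :=
  Lgr Lrot29 (Lpr_bt (f123363 IH) (Lpr_et (f145347 IH) (Lpr_bt (f123368 IH) (Lpn (LP (LK LD1_c0 LD2_c24 LD3_c5))))))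
theorem f123370 : Led Lsl_ft (LP (LK LD1_c0 LD2_c24 LD3_c11)) = (LP (LK LD1_c0 LD2_c10 LD3_c47)) :=
  Lre_f IH (LK LD1_c0 LD2_c24 LD3_c11) (LK LD1_c0 LD2_c10 LD3_c47) Lrfl Lrfl
theorem f11268 : Led Lsl_et (LP (LK LD1_c0 LD2_c10 LD3_c47)) = (LP (LK LD1_c0 LD2_c5 LD3_c0)) :=
  Lre_e IH (LK LD1_c0 LD2_c10 LD3_c47) (LK LD1_c0 LD2_c5 LD3_c0) Lrfl Lrfl
theorem f123371 : Led Lsl_ft (LP (LK LD1_c0 LD2_c10 LD3_c45)) = (LP (LK LD1_c0 LD2_c24 LD3_c5)) :=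
  Lre_f IH (LK LD1_c0 LD2_c10 LD3_c45) (LK LD1_c0 LD2_c24 LD3_c5) Lrfl Lrfl
theorem f12711 : Led Lsl_et (LP (LK LD1_c0 LD2_c4 LD3_c61)) = (LP (LK LD1_c0 LD2_c10 LD3_c45)) :=
  Lre_e IH (LK LD1_c0 LD2_c4 LD3_c61) (LK LD1_c0 LD2_c10 LD3_c45) Lrfl Lrfl
theorem f145360 : Led Lsl_ft (LP (LK LD1_c0 LD2_c5 LD3_c0)) = (LP (LK LD1_c0 LD2_c4 LD3_c61)) :=
  Lgr Lrot86 (Lpe (f11268 IH) (Lpe (f123370 IH) (Lpr_ef (f145353 IH) (Lpe (f123371 IH) (Lpe (f12711 IH) (Lpn (LP (LK LD1_c0 LD2_c4 LD3_c61))))))))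
theorem f145366 : Led Lsl_af (LP (LK LD1_c0 LD2_c4 LD3_c61)) = (LP (LK LD1_c0 LD2_c4 LD3_c61)) :=
  Lgr Lrot31 (Lpe (K0.f11511 IH) (Lpe (K0.f11021 IH) (Lpr_ft (f145360 IH) (Lpn (LP (LK LD1_c0 LD2_c4 LD3_c61))))))
theorem f12186 : Led Lsl_et (LP (LK LD1_c0 LD2_c10 LD3_c45)) = (LP (LK LD1_c0 LD2_c4 LD3_c61)) :=
  Lre_e IH (LK LD1_c0 LD2_c10 LD3_c45) (LK LD1_c0 LD2_c4 LD3_c61) Lrfl Lrfl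
theorem f145370 : Led Lsl_at (LP (LK LD1_c0 LD2_c10 LD3_c45)) = (LP (LK LD1_c0 LD2_c10 LD3_c45)) :=
  Lgr Lrot80 (Lpe (f12711 IH) (Lpr_af (f145366 IH) (Lpe (f12186 IH) (Lpn (LP (LK LD1_c0 LD2_c10 LD3_c45))))))
theorem f123358 : Led Lsl_ft (LP (LK LD1_c0 LD2_c24 LD3_c5)) = (LP (LK LD1_c0 LD2_c10 LD3_c45)) :=
  Lre_f IH (LK LD1_c0 LD2_c24 LD3_c5) (LK LD1_c0 LD2_c10 LD3_c45) Lrfl Lrfl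
theorem f145378 : Led Lsl_af (LP (LK LD1_c0 LD2_c24 LD3_c5)) = (LP (LK LD1_c0 LD2_c24 LD3_c5)) :=
  Lgr Lrot45 (Lpr_ft (f123358 IH) (Lpr_at (f145370 IH) (Lpr_ft (f123371 IH) (Lpn (LP (LK LD1_c0 LD2_c24 LD3_c5))))))
theorem f122803 : Led Lsl_bt (LP (LK LD1_c0 LD2_c53 LD3_c45)) = (LP (LK LD1_c0 LD2_c24 LD3_c11)) :=
  Lre_b IH (LK LD1_c0 LD2_c53 LD3_c45) (LK LD1_c0 LD2_c24 LD3_c11) Lrfl Lrfl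
theorem f122805 : Led Lsl_bt (LP (LK LD1_c0 LD2_c24 LD3_c5)) = (LP (LK LD1_c0 LD2_c53 LD3_c31)) :=
  Lre_b IH (LK LD1_c0 LD2_c24 LD3_c5) (LK LD1_c0 LD2_c53 LD3_c31) Lrfl Lrfl
theorem f122806 : Led Lsl_ct (LP (LK LD1_c0 LD2_c24 LD3_c11)) = (LP (LK LD1_c0 LD2_c24 LD3_c5)) :=
  Lgr Lrot83 (Lpe (f122803 IH) (Lpe (f122802 IH) (Lpr_bf (f122778 IH) (Lpe (f122804 IH) (Lpe (f122805 IH) (Lpn (LP (LK LD1_c0 LD2_c24 LD3_c5))))))))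
theorem f123354 : Led Lsl_cf (LP (LK LD1_c0 LD2_c24 LD3_c11)) = (LP (LK LD1_c0 LD2_c24 LD3_c5)) :=
  Lgr Lrot11 (Lpr_ct (f122806 IH) (Lpn (LP (LK LD1_c0 LD2_c24 LD3_c5))))
theorem f145387 : Led Lsl_at (LP (LK LD1_c0 LD2_c24 LD3_c11)) = (LP (LK LD1_c0 LD2_c24 LD3_c11)) :=
  Lgr Lrot107 (Lpr_cf (f123354 IH) (Lpr_af (f145378 IH) (Lpe (f122806 IH) (Lpn (LP (LK LD1_c0 LD2_c24 LD3_c11))))))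
theorem f123356 : Led Lsl_dt (LP (LK LD1_c0 LD2_c53 LD3_c50)) = (LP (LK LD1_c0 LD2_c24 LD3_c11)) :=
  Lre_d IH (LK LD1_c0 LD2_c53 LD3_c50) (LK LD1_c0 LD2_c24 LD3_c11) Lrfl Lrfl
theorem f123369 : Led Lsl_dt (LP (LK LD1_c0 LD2_c24 LD3_c11)) = (LP (LK LD1_c0 LD2_c53 LD3_c50)) :=
  Lre_d IH (LK LD1_c0 LD2_c24 LD3_c11) (LK LD1_c0 LD2_c53 LD3_c50) Lrfl Lrfl
theorem f145399 : Led Lsl_af (LP (LK LD1_c0 LD2_c53 LD3_c50)) = (LP (LK LD1_c0 LD2_c53 LD3_c50)) :=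
  Lgr Lrot117 (Lpr_dt (f123356 IH) (Lpr_at (f145387 IH) (Lpr_dt (f123369 IH) (Lpn (LP (LK LD1_c0 LD2_c53 LD3_c50))))))
theorem f123359 : Led Lsl_ft (LP (LK LD1_c0 LD2_c53 LD3_c50)) = (LP (LK LD1_c0 LD2_c24 LD3_c10)) :=
  Lre_f IH (LK LD1_c0 LD2_c53 LD3_c50) (LK LD1_c0 LD2_c24 LD3_c10) Lrfl Lrfl
theorem f84917 : Led Lsl_ft (LP (LK LD1_c0 LD2_c24 LD3_c10)) = (LP (LK LD1_c0 LD2_c53 LD3_c50)) :=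
  Lre_f IH (LK LD1_c0 LD2_c24 LD3_c10) (LK LD1_c0 LD2_c53 LD3_c50) Lrfl Lrfl
theorem f145407 : Led Lsl_at (LP (LK LD1_c0 LD2_c24 LD3_c10)) = (LP (LK LD1_c0 LD2_c24 LD3_c10)) :=
  Lgr Lrot66 (Lpe (f123359 IH) (Lpr_af (f145399 IH) (Lpe (f84917 IH) (Lpn (LP (LK LD1_c0 LD2_c24 LD3_c10))))))
theorem f84780 : Led Lsl_bt (LP (LK LD1_c0 LD2_c24 LD3_c10)) = (LP (LK LD1_c0 LD2_c53 LD3_c44)) :=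
  Lre_b IH (LK LD1_c0 LD2_c24 LD3_c10) (LK LD1_c0 LD2_c53 LD3_c44) Lrfl Lrfl
theorem f12171 : Led Lsl_bt (LP (LK LD1_c0 LD2_c46 LD3_c5)) = (LP (LK LD1_c0 LD2_c20 LD3_c41)) :=
  Lre_b IH (LK LD1_c0 LD2_c46 LD3_c5) (LK LD1_c0 LD2_c20 LD3_c41) Lrfl Lrfl
theorem f84781 : Led Lsl_ef (LP (LK LD1_c0 LD2_c24 LD3_c10)) = (LP (LK LD1_c0 LD2_c20 LD3_c41)) :=
  Lgr Lrot29 (Lpr_bt (f84780 IH) (Lpr_et (K5.f84770 IH) (Lpr_bt (f12171 IH) (Lpn (LP (LK LD1_c0 LD2_c20 LD3_c41))))))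
theorem f12119 : Led Lsl_et (LP (LK LD1_c0 LD2_c9 LD3_c22)) = (LP (LK LD1_c0 LD2_c4 LD3_c22)) :=
  Lre_e IH (LK LD1_c0 LD2_c9 LD3_c22) (LK LD1_c0 LD2_c4 LD3_c22) Lrfl Lrfl
theorem f12146 : Led Lsl_dt (LP (LK LD1_c0 LD2_c20 LD3_c41)) = (LP (LK LD1_c0 LD2_c9 LD3_c22)) :=
  Lre_d IH (LK LD1_c0 LD2_c20 LD3_c41) (LK LD1_c0 LD2_c9 LD3_c22) Lrfl Lrfl
theorem f12123 : Led Lsl_et (LP (LK LD1_c0 LD2_c5 LD3_c0)) = (LP (LK LD1_c0 LD2_c10 LD3_c47)) :=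
  Lre_e IH (LK LD1_c0 LD2_c5 LD3_c0) (LK LD1_c0 LD2_c10 LD3_c47) Lrfl Lrfl
theorem f11269 : Led Lsl_dt (LP (LK LD1_c0 LD2_c10 LD3_c47)) = (LP (LK LD1_c0 LD2_c24 LD3_c10)) :=
  Lre_d IH (LK LD1_c0 LD2_c10 LD3_c47) (LK LD1_c0 LD2_c24 LD3_c10) Lrfl Lrfl
theorem f12147 : Led Lsl_ef (LP (LK LD1_c0 LD2_c20 LD3_c41)) = (LP (LK LD1_c0 LD2_c24 LD3_c10)) :=
  Lgr Lrot73 (Lpr_dt (f12146 IH) (Lpr_et (f12119 IH) (Lpr_dt (K0.f12114 IH) (Lpr_et (f12123 IH) (Lpr_dt (f11269 IH) (Lpn (LP (LK LD1_c0 LD2_c24 LD3_c10))))))))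
theorem f145415 : Led Lsl_af (LP (LK LD1_c0 LD2_c20 LD3_c41)) = (LP (LK LD1_c0 LD2_c20 LD3_c41)) :=
  Lgr Lrot50 (Lpe (f84781 IH) (Lpr_at (f145407 IH) (Lpe (f12147 IH) (Lpn (LP (LK LD1_c0 LD2_c20 LD3_c41))))))
theorem f12120 : Led Lsl_dt (LP (LK LD1_c0 LD2_c9 LD3_c22)) = (LP (LK LD1_c0 LD2_c20 LD3_c41)) :=
  Lre_d IH (LK LD1_c0 LD2_c9 LD3_c22) (LK LD1_c0 LD2_c20 LD3_c41) Lrfl Lrfl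
theorem f145426 : Led Lsl_at (LP (LK LD1_c0 LD2_c9 LD3_c22)) = (LP (LK LD1_c0 LD2_c9 LD3_c22)) :=
  Lgr Lrot51 (Lpe (f12146 IH) (Lpr_af (f145415 IH) (Lpe (f12120 IH) (Lpn (LP (LK LD1_c0 LD2_c9 LD3_c22))))))
theorem f145432 : Led Lsl_af (LP (LK LD1_c0 LD2_c4 LD3_c22)) = (LP (LK LD1_c0 LD2_c4 LD3_c22)) :=
  Lgr Lrot50 (Lpr_et (K0.f12154 IH) (Lpr_at (f145426 IH) (Lpr_et (f12119 IH) (Lpn (LP (LK LD1_c0 LD2_c4 LD3_c22))))))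
theorem f145362 : Led Lsl_ff (LP (LK LD1_c0 LD2_c4 LD3_c22)) = (LP (LK LD1_c0 LD2_c4 LD3_c20)) :=
  Lgr Lrot19 (Lpr_dt (K0.f12114 IH) (Lpr_ft (f145360 IH) (Lpr_dt (K0.f12699 IH) (Lpn (LP (LK LD1_c0 LD2_c4 LD3_c20))))))
theorem f134837 : Led Lsl_af (LP (LK LD1_c0 LD2_c4 LD3_c20)) = (LP (LK LD1_c0 LD2_c4 LD3_c20)) :=
  Lgr Lrot36 (Lpr_bt (K0.f12692 IH) (Lpr_at (K5.f21096 IH) (Lpr_bt (K5.f134834 IH) (Lpr_at (K5.f21100 IH) (Lpr_bt (K2.f12705 IH) (Lpn (LP (LK LD1_c0 LD2_c4 LD3_c20))))))))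
theorem f145436 : Led Lsl_ft (LP (LK LD1_c0 LD2_c4 LD3_c22)) = (LP (LK LD1_c0 LD2_c4 LD3_c20)) :=
  Lgr Lrot101 (Lpr_af (f145432 IH) (Lpr_ff (f145362 IH) (Lpr_af (f134837 IH) (Lpn (LP (LK LD1_c0 LD2_c4 LD3_c20))))))
theorem f145438 : Led Lsl_ff (LP (LK LD1_c0 LD2_c1 LD3_c61)) = (LP (LK LD1_c0 LD2_c1 LD3_c60)) :=
  Lgr Lrot23 (Lpr_ct (K0.f3830 IH) (Lpr_ft (f145436 IH) (Lpr_ct (K0.f12683 IH) (Lpn (LP (LK LD1_c0 LD2_c1 LD3_c60))))))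
theorem f145444 : Led Lsl_ft (LP (LK LD1_c0 LD2_c1 LD3_c61)) = (LP (LK LD1_c0 LD2_c1 LD3_c60)) :=
  Lgr Lrot48 (Lpr_ff (f145438 IH) (Lpn (LP (LK LD1_c0 LD2_c1 LD3_c60))))
theorem f20010 : Led Lsl_ft (LP (LK LD1_c0 LD2_c9 LD3_c23)) = (LP (LK LD1_c0 LD2_c4 LD3_c23)) :=
  Lre_f IH (LK LD1_c0 LD2_c9 LD3_c23) (LK LD1_c0 LD2_c4 LD3_c23) Lrfl Lrfl
theorem f20861 : Led Lsl_ft (LP (LK LD1_c0 LD2_c4 LD3_c21)) = (LP (LK LD1_c0 LD2_c9 LD3_c20)) :=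
  Lre_f IH (LK LD1_c0 LD2_c4 LD3_c21) (LK LD1_c0 LD2_c9 LD3_c20) Lrfl Lrfl
theorem f145450 : Led Lsl_ef (LP (LK LD1_c0 LD2_c9 LD3_c23)) = (LP (LK LD1_c0 LD2_c9 LD3_c20)) :=
  Lgr Lrot21 (Lpr_ft (f20010 IH) (Lpr_et (K1.f12087 IH) (Lpr_ft (f145444 IH) (Lpr_et (K1.f155 IH) (Lpr_ft (f20861 IH) (Lpn (LP (LK LD1_c0 LD2_c9 LD3_c20))))))))
theorem f142740 : Led Lsl_et (LP (LK LD1_c0 LD2_c10 LD3_c54)) = (LP (LK LD1_c0 LD2_c20 LD3_c36)) :=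
  Lgr Lrot74 (Lpe (K5.f10006 IH) (Lpr_ef (f142736 IH) (Lpe (K5.f20859 IH) (Lpn (LP (LK LD1_c0 LD2_c20 LD3_c36))))))
theorem f145452 : Led Lsl_ct (LP (LK LD1_c0 LD2_c9 LD3_c23)) = (LP (LK LD1_c0 LD2_c10 LD3_c54)) :=
  Lgr Lrot15 (Lpr_ef (f145450 IH) (Lpe (K2.f20858 IH) (Lpe (f142740 IH) (Lpn (LP (LK LD1_c0 LD2_c10 LD3_c54))))))
theorem f9692 : Led Lsl_ft (LP (LK LD1_c0 LD2_c9 LD3_c6)) = (LP (LK LD1_c0 LD2_c20 LD3_c11)) :=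
  Lre_f IH (LK LD1_c0 LD2_c9 LD3_c6) (LK LD1_c0 LD2_c20 LD3_c11) Lrfl Lrfl
theorem f20011 : Led Lsl_bf (LP (LK LD1_c0 LD2_c9 LD3_c23)) = (LP (LK LD1_c0 LD2_c20 LD3_c11)) :=
  Lgr Lrot61 (Lpr_ft (f20010 IH) (Lpr_bt (K0.f20001 IH) (Lpr_ft (f9692 IH) (Lpn (LP (LK LD1_c0 LD2_c20 LD3_c11))))))
theorem f20013 : Led Lsl_bt (LP (LK LD1_c0 LD2_c9 LD3_c23)) = (LP (LK LD1_c0 LD2_c20 LD3_c11)) :=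
  Lgr Lrot127 (Lpr_bf (f20011 IH) (Lpn (LP (LK LD1_c0 LD2_c20 LD3_c11))))
theorem f25744 : Led Lsl_ct (LP (LK LD1_c0 LD2_c6 LD3_c12)) = (LP (LK LD1_c0 LD2_c13 LD3_c35)) :=
  Lre_c IH (LK LD1_c0 LD2_c6 LD3_c12) (LK LD1_c0 LD2_c13 LD3_c35) Lrfl Lrfl
theorem f145462 : Led Lsl_gf (LP (LK LD1_c0 LD2_c20 LD3_c11)) = (LP (LK LD1_c0 LD2_c20 LD3_c4)) :=
  Lgr Lrot124 (Lpe (f20013 IH) (Lpr_ct (f145452 IH) (Lpr_gt (K5.f7424 IH) (Lpe (K0.f7416 IH) (Lpr_bt (K0.f7412 IH) (Lpr_gt (K2.f25739 IH) (Lpr_ct (f25744 IH) (Lpr_gt (K2.f83186 IH) (Lpr_cf (K1.f25057 IH) (Lpr_bt (K0.f9709 IH) (Lpn (LP (LK LD1_c0 LD2_c20 LD3_c4)))))))))))))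
theorem f20844 : Led Lsl_dt (LP (LK LD1_c0 LD2_c20 LD3_c11)) = (LP (LK LD1_c0 LD2_c20 LD3_c30)) :=
  Lgr Lrot60 (Lpe (f9692 IH) (Lpr_df (f20840 IH) (Lpe (K2.f20843 IH) (Lpn (LP (LK LD1_c0 LD2_c20 LD3_c30))))))
theorem f24269 : Led Lsl_et (LP (LK LD1_c0 LD2_c8 LD3_c45)) = (LP (LK LD1_c0 LD2_c19 LD3_c29)) :=
  Lre_e IH (LK LD1_c0 LD2_c8 LD3_c45) (LK LD1_c0 LD2_c19 LD3_c29) Lrfl Lrfl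
theorem f24268 : Led Lsl_et (LP (LK LD1_c0 LD2_c19 LD3_c29)) = (LP (LK LD1_c0 LD2_c8 LD3_c45)) :=
  Lre_e IH (LK LD1_c0 LD2_c19 LD3_c29) (LK LD1_c0 LD2_c8 LD3_c45) Lrfl Lrfl
theorem f24593 : Led Lsl_df (LP (LK LD1_c0 LD2_c19 LD3_c29)) = (LP (LK LD1_c0 LD2_c19 LD3_c29)) :=
  Lgr Lrot70 (Lpr_et (f24268 IH) (Lpr_dt (K3.f24213 IH) (Lpr_et (K0.f24413 IH) (Lpr_dt (K0.f23168 IH) (Lpr_et (f24269 IH) (Lpn (LP (LK LD1_c0 LD2_c19 LD3_c29))))))))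
theorem f13431 : Led Lsl_et (LP (LK LD1_c0 LD2_c4 LD3_c13)) = (LP (LK LD1_c0 LD2_c9 LD3_c7)) :=
  Lre_e IH (LK LD1_c0 LD2_c4 LD3_c13) (LK LD1_c0 LD2_c9 LD3_c7) Lrfl Lrfl
theorem f13436 : Led Lsl_gt (LP (LK LD1_c0 LD2_c9 LD3_c7)) = (LP (LK LD1_c0 LD2_c20 LD3_c12)) :=
  Lre_g IH (LK LD1_c0 LD2_c9 LD3_c7) (LK LD1_c0 LD2_c20 LD3_c12) Lrfl Lrfl
theorem f20932 : Led Lsl_et (LP (LK LD1_c0 LD2_c20 LD3_c28)) = (LP (LK LD1_c0 LD2_c20 LD3_c12)) :=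
  Lgr Lrot122 (Lpr_dt (K1.f20928 IH) (Lpr_gt (K1.f9691 IH) (Lpr_df (K1.f20882 IH) (Lpr_et (K1.f20910 IH) (Lpe (K0.f20895 IH) (Lpr_dt (K0.f9623 IH) (Lpr_gt (K0.f13423 IH) (Lpe (K0.f13429 IH) (Lpr_et (f13431 IH) (Lpr_gt (f13436 IH) (Lpn (LP (LK LD1_c0 LD2_c20 LD3_c12)))))))))))))
theorem f20934 : Led Lsl_ef (LP (LK LD1_c0 LD2_c20 LD3_c28)) = (LP (LK LD1_c0 LD2_c20 LD3_c12)) :=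
  Lgr Lrot88 (Lpr_et (f20932 IH) (Lpn (LP (LK LD1_c0 LD2_c20 LD3_c12))))
theorem f20938 : Led Lsl_dt (LP (LK LD1_c0 LD2_c20 LD3_c12)) = (LP (LK LD1_c0 LD2_c20 LD3_c12)) :=
  Lgr Lrot77 (Lpe (f20932 IH) (Lpr_df (K1.f20930 IH) (Lpr_ef (K1.f20936 IH) (Lpe (K1.f20928 IH) (Lpr_ef (f20934 IH) (Lpn (LP (LK LD1_c0 LD2_c20 LD3_c12))))))))
theorem f24601 : Led Lsl_gf (LP (LK LD1_c0 LD2_c19 LD3_c29)) = (LP (LK LD1_c0 LD2_c20 LD3_c12)) :=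
  Lgr Lrot145 (Lpr_df (f24593 IH) (Lpr_et (f24268 IH) (Lpr_gt (K0.f24595 IH) (Lpr_dt (K0.f9739 IH) (Lpe (K0.f20829 IH) (Lpe (K1.f20268 IH) (Lpr_et (K1.f20842 IH) (Lpr_gt (K1.f12725 IH) (Lpr_ef (f20934 IH) (Lpr_dt (f20938 IH) (Lpn (LP (LK LD1_c0 LD2_c20 LD3_c12)))))))))))))
theorem f145468 : Led Lsl_gt (LP (LK LD1_c0 LD2_c20 LD3_c30)) = (LP (LK LD1_c0 LD2_c20 LD3_c8)) :=
  Lgr Lrot139 (Lpe (f20844 IH) (Lpr_gf (f145462 IH) (Lpe (K0.f9653 IH) (Lpr_dt (K0.f9651 IH) (Lpe (K0.f9646 IH) (Lpe (K3.f24213 IH) (Lpr_et (f24269 IH) (Lpr_gf (f24601 IH) (Lpe (f20932 IH) (Lpr_dt (K1.f20928 IH) (Lpn (LP (LK LD1_c0 LD2_c20 LD3_c8)))))))))))))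
theorem f145472 : Led Lsl_at (LP (LK LD1_c0 LD2_c9 LD3_c15)) = (LP (LK LD1_c0 LD2_c9 LD3_c4)) :=
  Lgr Lrot26 (Lpe (K2.f20843 IH) (Lpr_gt (f145468 IH) (Lpr_gt (K1.f9691 IH) (Lpn (LP (LK LD1_c0 LD2_c9 LD3_c4))))))
theorem f20914 : Led Lsl_ft (LP (LK LD1_c0 LD2_c9 LD3_c4)) = (LP (LK LD1_c0 LD2_c20 LD3_c9)) :=
  Lre_f IH (LK LD1_c0 LD2_c9 LD3_c4) (LK LD1_c0 LD2_c20 LD3_c9) Lrfl Lrfl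
theorem f145478 : Led Lsl_af (LP (LK LD1_c0 LD2_c20 LD3_c30)) = (LP (LK LD1_c0 LD2_c20 LD3_c9)) :=
  Lgr Lrot45 (Lpr_ft (K2.f20843 IH) (Lpr_at (f145472 IH) (Lpr_ft (f20914 IH) (Lpn (LP (LK LD1_c0 LD2_c20 LD3_c9))))))
theorem f7378 : Led Lsl_gt (LP (LK LD1_c0 LD2_c9 LD3_c4)) = (LP (LK LD1_c0 LD2_c20 LD3_c7)) :=
  Lre_g IH (LK LD1_c0 LD2_c9 LD3_c4) (LK LD1_c0 LD2_c20 LD3_c7) Lrfl Lrfl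
theorem f145488 : Led Lsl_gf (LP (LK LD1_c0 LD2_c20 LD3_c30)) = (LP (LK LD1_c0 LD2_c20 LD3_c7)) :=
  Lgr Lrot76 (Lpr_af (f145478 IH) (Lpe (f20914 IH) (Lpr_gt (f7378 IH) (Lpn (LP (LK LD1_c0 LD2_c20 LD3_c7))))))
theorem f21048 : Led Lsl_gt (LP (LK LD1_c1 LD2_c26 LD3_c30)) = (LP (LK LD1_c3 LD2_c1 LD3_c3)) :=
  Lre_g IH (LK LD1_c1 LD2_c26 LD3_c30) (LK LD1_c3 LD2_c1 LD3_c3) Lrfl Lrfl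
theorem f145490 : Led Lsl_ct (LP (LK LD1_c0 LD2_c18 LD3_c40)) = (LP (LK LD1_c0 LD2_c20 LD3_c7)) :=
  Lgr Lrot152 (Lpe (K1.f25806 IH) (Lpe (f67088 IH) (Lpr_gt (K1.f67079 IH) (Lpr_ct (K2.f25062 IH) (Lpr_gt (K3.f86008 IH) (Lpr_ct (K3.f7502 IH) (Lpr_df (f143019 IH) (Lpe (K2.f21045 IH) (Lpr_gf (f145488 IH) (Lpn (LP (LK LD1_c0 LD2_c20 LD3_c7))))))))))))
theorem f104587 : Led Lsl_bt (LP (LK LD1_c0 LD2_c18 LD3_c37)) = (LP (LK LD1_c0 LD2_c8 LD3_c23)) :=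
  Lre_b IH (LK LD1_c0 LD2_c18 LD3_c37) (LK LD1_c0 LD2_c8 LD3_c23) Lrfl Lrfl
theorem f104602 : Led Lsl_gt (LP (LK LD1_c1 LD2_c6 LD3_c8)) = (LP (LK LD1_c0 LD2_c30 LD3_c14)) :=
  Lre_g IH (LK LD1_c1 LD2_c6 LD3_c8) (LK LD1_c0 LD2_c30 LD3_c14) Lrfl Lrfl
theorem f104605 : Led Lsl_ct (LP (LK LD1_c2 LD2_c18 LD3_c16)) = (LP (LK LD1_c1 LD2_c6 LD3_c8)) :=
  Lre_c IH (LK LD1_c2 LD2_c18 LD3_c16) (LK LD1_c1 LD2_c6 LD3_c8) Lrfl Lrfl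
theorem f145492 : Led Lsl_bf (LP (LK LD1_c3 LD2_c1 LD3_c3)) = (LP (LK LD1_c2 LD2_c18 LD3_c16)) :=
  Lgr Lrot34 (Lpe (f21048 IH) (Lpe (K2.f21047 IH) (Lpe (K2.f21035 IH) (Lpr_gf (f145488 IH) (Lpe (f145490 IH) (Lpe (K1.f25806 IH) (Lpe (f104587 IH) (Lpe (K5.f104590 IH) (Lpe (f104602 IH) (Lpe (f104605 IH) (Lpn (LP (LK LD1_c2 LD2_c18 LD3_c16)))))))))))))
theorem f21127 : Led Lsl_gt (LP (LK LD1_c3 LD2_c1 LD3_c3)) = (LP (LK LD1_c1 LD2_c26 LD3_c26)) :=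
  Lre_g IH (LK LD1_c3 LD2_c1 LD3_c3) (LK LD1_c1 LD2_c26 LD3_c26) Lrfl Lrfl
theorem f104662 : Led Lsl_gt (LP (LK LD1_c2 LD2_c18 LD3_c2)) = (LP (LK LD1_c1 LD2_c6 LD3_c8)) :=
  Lre_g IH (LK LD1_c2 LD2_c18 LD3_c2) (LK LD1_c1 LD2_c6 LD3_c8) Lrfl Lrfl
theorem f104594 : Led Lsl_ft (LP (LK LD1_c1 LD2_c6 LD3_c10)) = (LP (LK LD1_c0 LD2_c30 LD3_c14)) :=
  Lre_f IH (LK LD1_c1 LD2_c6 LD3_c10) (LK LD1_c0 LD2_c30 LD3_c14) Lrfl Lrfl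
theorem f104595 : Led Lsl_ft (LP (LK LD1_c0 LD2_c18 LD3_c37)) = (LP (LK LD1_c0 LD2_c41 LD3_c43)) :=
  Lre_f IH (LK LD1_c0 LD2_c18 LD3_c37) (LK LD1_c0 LD2_c41 LD3_c43) Lrfl Lrfl
theorem f104596 : Led Lsl_cf (LP (LK LD1_c1 LD2_c6 LD3_c10)) = (LP (LK LD1_c0 LD2_c41 LD3_c43)) :=
  Lgr Lrot108 (Lpr_ft (f104594 IH) (Lpr_ct (K5.f104318 IH) (Lpr_ft (f104595 IH) (Lpn (LP (LK LD1_c0 LD2_c41 LD3_c43))))))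
theorem f104622 : Led Lsl_ct (LP (LK LD1_c1 LD2_c6 LD3_c10)) = (LP (LK LD1_c0 LD2_c41 LD3_c43)) :=
  Lgr Lrot59 (Lpr_cf (f104596 IH) (Lpn (LP (LK LD1_c0 LD2_c41 LD3_c43))))
theorem f104627 : Led Lsl_at (LP (LK LD1_c2 LD2_c18 LD3_c2)) = (LP (LK LD1_c1 LD2_c6 LD3_c10)) :=
  Lre_a IH (LK LD1_c2 LD2_c18 LD3_c2) (LK LD1_c1 LD2_c6 LD3_c10) Lrfl Lrfl
theorem f104641 : Led Lsl_at (LP (LK LD1_c0 LD2_c41 LD3_c43)) = (LP (LK LD1_c1 LD2_c29 LD3_c58)) :=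
  Lre_a IH (LK LD1_c0 LD2_c41 LD3_c43) (LK LD1_c1 LD2_c29 LD3_c58) Lrfl Lrfl
theorem f104642 : Led Lsl_cf (LP (LK LD1_c2 LD2_c18 LD3_c2)) = (LP (LK LD1_c1 LD2_c29 LD3_c58)) :=
  Lgr Lrot1 (Lpr_at (f104627 IH) (Lpr_ct (f104622 IH) (Lpr_at (f104641 IH) (Lpn (LP (LK LD1_c1 LD2_c29 LD3_c58))))))
theorem f104665 : Led Lsl_gt (LP (LK LD1_c0 LD2_c41 LD3_c40)) = (LP (LK LD1_c1 LD2_c29 LD3_c58)) :=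
  Lre_g IH (LK LD1_c0 LD2_c41 LD3_c40) (LK LD1_c1 LD2_c29 LD3_c58) Lrfl Lrfl
theorem f104668 : Led Lsl_bt (LP (LK LD1_c1 LD2_c30 LD3_c11)) = (LP (LK LD1_c0 LD2_c41 LD3_c40)) :=
  Lre_b IH (LK LD1_c1 LD2_c30 LD3_c11) (LK LD1_c0 LD2_c41 LD3_c40) Lrfl Lrfl
theorem f145496 : Led Lsl_cf (LP (LK LD1_c1 LD2_c34 LD3_c9)) = (LP (LK LD1_c1 LD2_c30 LD3_c11)) :=
  Lgr Lrot58 (Lpe (f135807 IH) (Lpe (f135809 IH) (Lpr_bt (f143009 IH) (Lpe (f21127 IH) (Lpr_bf (f145492 IH) (Lpr_ct (f104605 IH) (Lpe (f104662 IH) (Lpr_cf (f104642 IH) (Lpe (f104665 IH) (Lpe (f104668 IH) (Lpn (LP (LK LD1_c1 LD2_c30 LD3_c11)))))))))))))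
theorem f126847 : Led Lsl_dt (LP (LK LD1_c3 LD2_c1 LD3_c19)) = (LP (LK LD1_c1 LD2_c34 LD3_c9)) :=
  Lgr Lrot42 (Lpr_df (f126844 IH) (Lpn (LP (LK LD1_c1 LD2_c34 LD3_c9))))
theorem f145501 : Led Lsl_dt (LP (LK LD1_c3 LD2_c8 LD3_c0)) = (LP (LK LD1_c1 LD2_c30 LD3_c11)) :=
  Lre_d IH (LK LD1_c3 LD2_c8 LD3_c0) (LK LD1_c1 LD2_c30 LD3_c11) Lrfl Lrfl
theorem f145505 : Led Lsl_gt (LP (LK LD1_c6 LD2_c20 LD3_c53)) = (LP (LK LD1_c3 LD2_c8 LD3_c0)) :=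
  Lre_g IH (LK LD1_c6 LD2_c20 LD3_c53) (LK LD1_c3 LD2_c8 LD3_c0) Lrfl Lrfl
theorem f145506 : Led Lsl_dt (LP (LK LD1_c3 LD2_c11 LD3_c60)) = (LP (LK LD1_c6 LD2_c20 LD3_c53)) :=
  Lgr Lrot57 (Lpr_gf (K5.f126639 IH) (Lpe (K5.f126638 IH) (Lpe (K5.f126840 IH) (Lpr_dt (K5.f24362 IH) (Lpe (f126795 IH) (Lpr_dt (f126847 IH) (Lpr_cf (f145496 IH) (Lpe (f145501 IH) (Lpe (f145505 IH) (Lpn (LP (LK LD1_c6 LD2_c20 LD3_c53))))))))))))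
theorem f126652 : Led Lsl_dt (LP (LK LD1_c6 LD2_c9 LD3_c35)) = (LP (LK LD1_c3 LD2_c1 LD3_c16)) :=
  Lre_d IH (LK LD1_c6 LD2_c9 LD3_c35) (LK LD1_c3 LD2_c1 LD3_c16) Lrfl Lrfl
theorem f113177 : Led Lsl_gt (LP (LK LD1_c3 LD2_c22 LD3_c48)) = (LP (LK LD1_c6 LD2_c49 LD3_c9)) :=
  Lre_g IH (LK LD1_c3 LD2_c22 LD3_c48) (LK LD1_c6 LD2_c49 LD3_c9) Lrfl Lrfl
theorem f143787 : Led Lsl_gt (LP (LK LD1_c6 LD2_c49 LD3_c9)) = (LP (LK LD1_c6 LD2_c33 LD3_c1)) :=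
  Lgr Lrot46 (Lpe (f113177 IH) (Lpe (f143785 IH) (Lpr_at (f143778 IH) (Lpn (LP (LK LD1_c6 LD2_c33 LD3_c1))))))
theorem f143745 : Led Lsl_gt (LP (LK LD1_c1 LD2_c33 LD3_c57)) = (LP (LK LD1_c1 LD2_c37 LD3_c44)) :=
  Lgr Lrot46 (Lpe (f24358 IH) (Lpr_ft (f143739 IH) (Lpr_at (f113153 IH) (Lpn (LP (LK LD1_c1 LD2_c37 LD3_c44))))))
theorem f126699 : Led Lsl_dt (LP (LK LD1_c3 LD2_c1 LD3_c16)) = (LP (LK LD1_c6 LD2_c9 LD3_c35)) :=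
  Lre_d IH (LK LD1_c3 LD2_c1 LD3_c16) (LK LD1_c6 LD2_c9 LD3_c35) Lrfl Lrfl
theorem f113144 : Led Lsl_ct (LP (LK LD1_c1 LD2_c37 LD3_c44)) = (LP (LK LD1_c3 LD2_c22 LD3_c48)) :=
  Lre_c IH (LK LD1_c1 LD2_c37 LD3_c44) (LK LD1_c3 LD2_c22 LD3_c48) Lrfl Lrfl
theorem f143749 : Led Lsl_cf (LP (LK LD1_c6 LD2_c9 LD3_c35)) = (LP (LK LD1_c6 LD2_c49 LD3_c9)) :=
  Lgr Lrot99 (Lpe (f126699 IH) (Lpe (K5.f126638 IH) (Lpe (K5.f57566 IH) (Lpr_cf (K5.f126732 IH) (Lpe (K5.f126723 IH) (Lpe (K3.f24354 IH) (Lpr_gt (f143745 IH) (Lpr_ct (f113144 IH) (Lpr_gt (f113177 IH) (Lpn (LP (LK LD1_c6 LD2_c49 LD3_c9))))))))))))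
theorem f143753 : Led Lsl_ct (LP (LK LD1_c6 LD2_c9 LD3_c35)) = (LP (LK LD1_c6 LD2_c49 LD3_c9)) :=
  Lgr Lrot59 (Lpr_cf (f143749 IH) (Lpn (LP (LK LD1_c6 LD2_c49 LD3_c9))))
theorem f143734 : Led Lsl_bt (LP (LK LD1_c3 LD2_c14 LD3_c47)) = (LP (LK LD1_c3 LD2_c43 LD3_c8)) :=
  Lgr Lrot127 (Lpr_bf (f143732 IH) (Lpn (LP (LK LD1_c3 LD2_c43 LD3_c8))))
theorem f76758 : Led Lsl_bt (LP (LK LD1_c3 LD2_c11 LD3_c41)) = (LP (LK LD1_c6 LD2_c27 LD3_c33)) :=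
  Lre_b IH (LK LD1_c3 LD2_c11 LD3_c41) (LK LD1_c6 LD2_c27 LD3_c33) Lrfl Lrfl
theorem f90401 : Led Lsl_af (LP (LK LD1_c3 LD2_c11 LD3_c41)) = (LP (LK LD1_c3 LD2_c6 LD3_c49)) :=
  Lgr Lrot36 (Lpr_bt (f76758 IH) (Lpe (K3.f90382 IH) (Lpr_bt (K5.f88985 IH) (Lpr_at (K3.f89116 IH) (Lpr_bt (K3.f90390 IH) (Lpn (LP (LK LD1_c3 LD2_c6 LD3_c49))))))))
theorem f76762 : Led Lsl_ct (LP (LK LD1_c3 LD2_c11 LD3_c41)) = (LP (LK LD1_c6 LD2_c27 LD3_c34)) :=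
  Lre_c IH (LK LD1_c3 LD2_c11 LD3_c41) (LK LD1_c6 LD2_c27 LD3_c34) Lrfl Lrfl
theorem f90404 : Led Lsl_at (LP (LK LD1_c6 LD2_c27 LD3_c34)) = (LP (LK LD1_c6 LD2_c18 LD3_c59)) :=
  Lgr Lrot107 (Lpe (f76762 IH) (Lpr_af (f90401 IH) (Lpe (K3.f90130 IH) (Lpn (LP (LK LD1_c6 LD2_c18 LD3_c59))))))
theorem f90441 : Led Lsl_af (LP (LK LD1_c6 LD2_c27 LD3_c34)) = (LP (LK LD1_c6 LD2_c18 LD3_c59)) :=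
  Lgr Lrot0 (Lpr_at (f90404 IH) (Lpn (LP (LK LD1_c6 LD2_c18 LD3_c59))))
theorem f83489 : Led Lsl_at (LP (LK LD1_c1 LD2_c30 LD3_c47)) = (LP (LK LD1_c3 LD2_c9 LD3_c14)) :=
  Lre_a IH (LK LD1_c1 LD2_c30 LD3_c47) (LK LD1_c3 LD2_c9 LD3_c14) Lrfl Lrfl
theorem f83490 : Led Lsl_ft (LP (LK LD1_c1 LD2_c32 LD3_c12)) = (LP (LK LD1_c1 LD2_c30 LD3_c47)) :=
  Lgr Lrot101 (Lpe (K2.f68013 IH) (Lpr_ff (K2.f83487 IH) (Lpe (f83489 IH) (Lpn (LP (LK LD1_c1 LD2_c30 LD3_c47))))))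
theorem f83636 : Led Lsl_gt (LP (LK LD1_c3 LD2_c11 LD3_c40)) = (LP (LK LD1_c3 LD2_c9 LD3_c14)) :=
  Lgr Lrot46 (Lpe (K5.f67422 IH) (Lpr_ft (f83490 IH) (Lpr_at (f83489 IH) (Lpn (LP (LK LD1_c3 LD2_c9 LD3_c14))))))
theorem f90406 : Led Lsl_ft (LP (LK LD1_c3 LD2_c11 LD3_c40)) = (LP (LK LD1_c3 LD2_c6 LD3_c49)) :=
  Lgr Lrot2 (Lpr_gt (f83636 IH) (Lpe (K2.f83503 IH) (Lpr_af (f90401 IH) (Lpn (LP (LK LD1_c3 LD2_c6 LD3_c49))))))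
theorem f90410 : Led Lsl_ff (LP (LK LD1_c3 LD2_c11 LD3_c40)) = (LP (LK LD1_c3 LD2_c6 LD3_c49)) :=
  Lgr Lrot3 (Lpr_ft (f90406 IH) (Lpn (LP (LK LD1_c3 LD2_c6 LD3_c49))))
theorem f90412 : Led Lsl_ft (LP (LK LD1_c6 LD2_c27 LD3_c31)) = (LP (LK LD1_c6 LD2_c18 LD3_c59)) :=
  Lgr Lrot4 (Lpe (K5.f83638 IH) (Lpr_ff (f90410 IH) (Lpe (K3.f90130 IH) (Lpn (LP (LK LD1_c6 LD2_c18 LD3_c59))))))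
theorem f90452 : Led Lsl_gf (LP (LK LD1_c6 LD2_c27 LD3_c34)) = (LP (LK LD1_c7 LD2_c26 LD3_c47)) :=
  Lgr Lrot76 (Lpr_af (f90441 IH) (Lpe (f90412 IH) (Lpe (K5.f86749 IH) (Lpn (LP (LK LD1_c7 LD2_c26 LD3_c47))))))
theorem f143791 : Led Lsl_gf (LP (LK LD1_c6 LD2_c9 LD3_c35)) = (LP (LK LD1_c6 LD2_c27 LD3_c33)) :=
  Lgr Lrot181 (Lpr_ct (f143753 IH) (Lpr_gt (f143787 IH) (Lpe (f126730 IH) (Lpr_bt (f143734 IH) (Lpr_gt (K5.f86736 IH) (Lpe (K5.f86757 IH) (Lpr_ct (K5.f86756 IH) (Lpe (f90452 IH) (Lpe (f76762 IH) (Lpr_bt (f76758 IH) (Lpn (LP (LK LD1_c6 LD2_c27 LD3_c33)))))))))))))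
theorem f134061 : Led Lsl_gf (LP (LK LD1_c2 LD2_c19 LD3_c57)) = (LP (LK LD1_c1 LD2_c37 LD3_c28)) :=
  Lgr Lrot76 (Lpe (K5.f107435 IH) (Lpr_ff (K5.f125347 IH) (Lpr_gt (f134059 IH) (Lpn (LP (LK LD1_c1 LD2_c37 LD3_c28))))))
theorem f120064 : Led Lsl_gt (LP (LK LD1_c4 LD2_c44 LD3_c1)) = (LP (LK LD1_c9 LD2_c20 LD3_c55)) :=
  Lre_g IH (LK LD1_c4 LD2_c44 LD3_c1) (LK LD1_c9 LD2_c20 LD3_c55) Lrfl Lrfl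
theorem f134353 : Led Lsl_cf (LP (LK LD1_c9 LD2_c20 LD3_c55)) = (LP (LK LD1_c6 LD2_c27 LD3_c33)) :=
  Lgr Lrot163 (Lpe (f120064 IH) (Lpe (K5.f120063 IH) (Lpr_gf (f134061 IH) (Lpe (f84099 IH) (Lpr_ct (f25626 IH) (Lpr_gf (K2.f84087 IH) (Lpe (K2.f25819 IH) (Lpr_bt (K2.f67421 IH) (Lpe (K2.f76755 IH) (Lpe (K3.f76775 IH) (Lpn (LP (LK LD1_c6 LD2_c27 LD3_c33)))))))))))))
theorem f133745 : Led Lsl_gf (LP (LK LD1_c6 LD2_c9 LD3_c33)) = (LP (LK LD1_c9 LD2_c20 LD3_c55)) :=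
  Lgr Lrot76 (Lpe (K5.f133736 IH) (Lpr_ff (K5.f133724 IH) (Lpr_gt (f120064 IH) (Lpn (LP (LK LD1_c9 LD2_c20 LD3_c55))))))
theorem f133781 : Led Lsl_at (LP (LK LD1_c12 LD2_c0 LD3_c11)) = (LP (LK LD1_c12 LD2_c0 LD3_c7)) :=
  Lgr Lrot100 (Lpr_af (f133771 IH) (Lpn (LP (LK LD1_c12 LD2_c0 LD3_c7))))
theorem f133743 : Led Lsl_ft (LP (LK LD1_c6 LD2_c9 LD3_c36)) = (LP (LK LD1_c4 LD2_c44 LD3_c1)) :=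
  Lgr Lrot48 (Lpr_ff (K5.f133724 IH) (Lpn (LP (LK LD1_c4 LD2_c44 LD3_c1))))
theorem f125350 : Led Lsl_dt (LP (LK LD1_c4 LD2_c44 LD3_c1)) = (LP (LK LD1_c9 LD2_c20 LD3_c57)) :=
  Lre_d IH (LK LD1_c4 LD2_c44 LD3_c1) (LK LD1_c9 LD2_c20 LD3_c57) Lrfl Lrfl
theorem f133753 : Led Lsl_ff (LP (LK LD1_c12 LD2_c0 LD3_c11)) = (LP (LK LD1_c9 LD2_c20 LD3_c57)) :=
  Lgr Lrot19 (Lpr_dt (f126673 IH) (Lpr_ft (f133743 IH) (Lpr_dt (f125350 IH) (Lpn (LP (LK LD1_c9 LD2_c20 LD3_c57))))))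
theorem f134162 : Led Lsl_af (LP (LK LD1_c9 LD2_c20 LD3_c57)) = (LP (LK LD1_c6 LD2_c33 LD3_c6)) :=
  Lgr Lrot45 (Lpe (f133753 IH) (Lpr_at (f133781 IH) (Lpr_ft (f134160 IH) (Lpn (LP (LK LD1_c6 LD2_c33 LD3_c6))))))
theorem f120060 : Led Lsl_gt (LP (LK LD1_c17 LD2_c16 LD3_c57)) = (LP (LK LD1_c9 LD2_c20 LD3_c57)) :=
  Lre_g IH (LK LD1_c17 LD2_c16 LD3_c57) (LK LD1_c9 LD2_c20 LD3_c57) Lrfl Lrfl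
theorem f134167 : Led Lsl_gt (LP (LK LD1_c12 LD2_c0 LD3_c7)) = (LP (LK LD1_c17 LD2_c16 LD3_c57)) :=
  Lgr Lrot5 (Lpr_ft (f134160 IH) (Lpe (f134162 IH) (Lpe (f120060 IH) (Lpn (LP (LK LD1_c17 LD2_c16 LD3_c57))))))
theorem f145515 : Led Lsl_ct (LP (LK LD1_c12 LD2_c15 LD3_c56)) = (LP (LK LD1_c6 LD2_c20 LD3_c53)) :=
  Lre_c IH (LK LD1_c12 LD2_c15 LD3_c56) (LK LD1_c6 LD2_c20 LD3_c53) Lrfl Lrfl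
theorem f145516 : Led Lsl_dt (LP (LK LD1_c17 LD2_c16 LD3_c57)) = (LP (LK LD1_c12 LD2_c15 LD3_c56)) :=
  Lgr Lrot105 (Lpe (f134167 IH) (Lpe (f62633 IH) (Lpr_gf (f133745 IH) (Lpr_cf (f134353 IH) (Lpe (f143791 IH) (Lpr_dt (f126652 IH) (Lpe (K5.f126639 IH) (Lpr_dt (f145506 IH) (Lpe (f145515 IH) (Lpn (LP (LK LD1_c12 LD2_c15 LD3_c56))))))))))))
theorem f145529 : Led Lsl_df (LP (LK LD1_c17 LD2_c16 LD3_c57)) = (LP (LK LD1_c12 LD2_c15 LD3_c56)) :=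
  Lgr Lrot38 (Lpr_dt (f145516 IH) (Lpn (LP (LK LD1_c12 LD2_c15 LD3_c56))))
theorem f145512 : Led Lsl_ct (LP (LK LD1_c6 LD2_c20 LD3_c53)) = (LP (LK LD1_c12 LD2_c15 LD3_c56)) :=
  Lre_c IH (LK LD1_c6 LD2_c20 LD3_c53) (LK LD1_c12 LD2_c15 LD3_c56) Lrfl Lrfl
theorem f126899 : Led Lsl_ft (LP (LK LD1_c3 LD2_c11 LD3_c60)) = (LP (LK LD1_c1 LD2_c53 LD3_c24)) :=
  Lgr Lrot2 (Lpr_gt (K5.f24364 IH) (Lpr_gt (K5.f126897 IH) (Lpe (K3.f90356 IH) (Lpn (LP (LK LD1_c1 LD2_c53 LD3_c24))))))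
theorem f145536 : Led Lsl_ct (LP (LK LD1_c17 LD2_c16 LD3_c57)) = (LP (LK LD1_c12 LD2_c33 LD3_c31)) :=
  Lgr Lrot41 (Lpr_df (f145529 IH) (Lpe (f145512 IH) (Lpe (f145506 IH) (Lpr_ft (f126899 IH) (Lpr_at (K3.f90356 IH) (Lpe (K2.f90196 IH) (Lpe (K3.f88763 IH) (Lpe (f90203 IH) (Lpr_df (f134122 IH) (Lpn (LP (LK LD1_c12 LD2_c33 LD3_c31))))))))))))
theorem f83882 : Led Lsl_ct (LP (LK LD1_c6 LD2_c18 LD3_c60)) = (LP (LK LD1_c12 LD2_c13 LD3_c47)) :=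
  Lre_c IH (LK LD1_c6 LD2_c18 LD3_c60) (LK LD1_c12 LD2_c13 LD3_c47) Lrfl Lrfl
theorem f90205 : Led Lsl_ct (LP (LK LD1_c3 LD2_c53 LD3_c35)) = (LP (LK LD1_c7 LD2_c48 LD3_c45)) :=
  Lre_c IH (LK LD1_c3 LD2_c53 LD3_c35) (LK LD1_c7 LD2_c48 LD3_c45) Lrfl Lrfl
theorem f83889 : Led Lsl_ct (LP (LK LD1_c12 LD2_c13 LD3_c47)) = (LP (LK LD1_c6 LD2_c18 LD3_c60)) :=
  Lre_c IH (LK LD1_c12 LD2_c13 LD3_c47) (LK LD1_c6 LD2_c18 LD3_c60) Lrfl Lrfl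
theorem f90354 : Led Lsl_at (LP (LK LD1_c7 LD2_c48 LD3_c45)) = (LP (LK LD1_c12 LD2_c13 LD3_c47)) :=
  Lgr Lrot107 (Lpe (f90205 IH) (Lpr_af (K3.f90348 IH) (Lpe (f83889 IH) (Lpn (LP (LK LD1_c12 LD2_c13 LD3_c47))))))
theorem f145538 : Led Lsl_ff (LP (LK LD1_c7 LD2_c48 LD3_c45)) = (LP (LK LD1_c12 LD2_c15 LD3_c56)) :=
  Lgr Lrot103 (Lpr_at (f90354 IH) (Lpe (f83882 IH) (Lpe (K3.f83897 IH) (Lpe (K2.f90196 IH) (Lpe (K3.f88763 IH) (Lpe (f90203 IH) (Lpr_df (f134122 IH) (Lpe (f145536 IH) (Lpr_df (f145529 IH) (Lpn (LP (LK LD1_c12 LD2_c15 LD3_c56))))))))))))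
theorem f145547 : Led Lsl_ft (LP (LK LD1_c7 LD2_c48 LD3_c45)) = (LP (LK LD1_c12 LD2_c15 LD3_c56)) :=
  Lgr Lrot48 (Lpr_ff (f145538 IH) (Lpn (LP (LK LD1_c12 LD2_c15 LD3_c56))))
theorem f145551 : Led Lsl_ff (LP (LK LD1_c3 LD2_c53 LD3_c35)) = (LP (LK LD1_c6 LD2_c20 LD3_c53)) :=
  Lgr Lrot23 (Lpr_ct (f90205 IH) (Lpr_ft (f145547 IH) (Lpr_ct (f145515 IH) (Lpn (LP (LK LD1_c6 LD2_c20 LD3_c53))))))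
theorem f90350 : Led Lsl_at (LP (LK LD1_c3 LD2_c53 LD3_c35)) = (LP (LK LD1_c6 LD2_c18 LD3_c60)) :=
  Lgr Lrot100 (Lpr_af (K3.f90348 IH) (Lpn (LP (LK LD1_c6 LD2_c18 LD3_c60))))
theorem f145638 : Led Lsl_gf (LP (LK LD1_c6 LD2_c18 LD3_c60)) = (LP (LK LD1_c3 LD2_c8 LD3_c0)) :=
  Lgr Lrot76 (Lpe (f90350 IH) (Lpr_ff (f145551 IH) (Lpr_gt (f145505 IH) (Lpn (LP (LK LD1_c3 LD2_c8 LD3_c0))))))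
theorem f83903 : Led Lsl_dt (LP (LK LD1_c6 LD2_c18 LD3_c60)) = (LP (LK LD1_c3 LD2_c6 LD3_c50)) :=
  Lre_d IH (LK LD1_c6 LD2_c18 LD3_c60) (LK LD1_c3 LD2_c6 LD3_c50) Lrfl Lrfl
theorem f62407 : Led Lsl_gt (LP (LK LD1_c6 LD2_c9 LD3_c42)) = (LP (LK LD1_c3 LD2_c1 LD3_c20)) :=
  Lre_g IH (LK LD1_c6 LD2_c9 LD3_c42) (LK LD1_c3 LD2_c1 LD3_c20) Lrfl Lrfl
theorem f145518 : Led Lsl_cf (LP (LK LD1_c6 LD2_c9 LD3_c42)) = (LP (LK LD1_c3 LD2_c8 LD3_c0)) :=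
  Lgr Lrot188 (Lpr_gt (f62407 IH) (Lpr_ct (K5.f62379 IH) (Lpr_dt (K5.f62345 IH) (Lpr_cf (K5.f126732 IH) (Lpe (K5.f126723 IH) (Lpe (K3.f24350 IH) (Lpe (K5.f24364 IH) (Lpr_dt (f145506 IH) (Lpr_gt (f145505 IH) (Lpn (LP (LK LD1_c3 LD2_c8 LD3_c0))))))))))))
theorem f145524 : Led Lsl_ct (LP (LK LD1_c6 LD2_c9 LD3_c42)) = (LP (LK LD1_c3 LD2_c8 LD3_c0)) :=
  Lgr Lrot59 (Lpr_cf (f145518 IH) (Lpn (LP (LK LD1_c3 LD2_c8 LD3_c0))))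
theorem f62420 : Led Lsl_gt (LP (LK LD1_c6 LD2_c9 LD3_c44)) = (LP (LK LD1_c12 LD2_c0 LD3_c28)) :=
  Lre_g IH (LK LD1_c6 LD2_c9 LD3_c44) (LK LD1_c12 LD2_c0 LD3_c28) Lrfl Lrfl
theorem f145640 : Led Lsl_df (LP (LK LD1_c6 LD2_c49 LD3_c9)) = (LP (LK LD1_c12 LD2_c0 LD3_c28)) :=
  Lgr Lrot84 (Lpe (f143753 IH) (Lpe (f126699 IH) (Lpr_gf (K5.f126702 IH) (Lpe (f83903 IH) (Lpr_gf (f145638 IH) (Lpe (f145524 IH) (Lpr_gt (f62407 IH) (Lpr_dt (K5.f62400 IH) (Lpr_gt (f62420 IH) (Lpn (LP (LK LD1_c12 LD2_c0 LD3_c28))))))))))))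
theorem f125394 : Led Lsl_gt (LP (LK LD1_c1 LD2_c53 LD3_c24)) = (LP (LK LD1_c1 LD2_c29 LD3_c42)) :=
  Lgr Lrot164 (Lpe (K2.f58173 IH) (Lpr_ct (K2.f18008 IH) (Lpe (K2.f7426 IH) (Lpe (K2.f12165 IH) (Lpe (K4.f12169 IH) (Lpe (K5.f12637 IH) (Lpr_ct (K5.f125388 IH) (Lpe (K5.f62644 IH) (Lpe (K5.f62608 IH) (Lpr_bt (K2.f62626 IH) (Lpn (LP (LK LD1_c1 LD2_c29 LD3_c42)))))))))))))
theorem f134407 : Led Lsl_gt (LP (LK LD1_c3 LD2_c11 LD3_c61)) = (LP (LK LD1_c6 LD2_c27 LD3_c33)) :=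
  Lgr Lrot9 (Lpe (K3.f24352 IH) (Lpr_gt (K5.f126897 IH) (Lpe (f90201 IH) (Lpr_gt (f125394 IH) (Lpr_ct (K2.f62613 IH) (Lpe (K5.f62617 IH) (Lpe (K5.f62618 IH) (Lpr_gf (f133745 IH) (Lpr_cf (f134353 IH) (Lpn (LP (LK LD1_c6 LD2_c27 LD3_c33))))))))))))
theorem f62622 : Led Lsl_dt (LP (LK LD1_c3 LD2_c7 LD3_c2)) = (LP (LK LD1_c1 LD2_c29 LD3_c42)) :=
  Lre_d IH (LK LD1_c3 LD2_c7 LD3_c2) (LK LD1_c1 LD2_c29 LD3_c42) Lrfl Lrfl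
theorem f125336 : Led Lsl_ft (LP (LK LD1_c3 LD2_c11 LD3_c61)) = (LP (LK LD1_c3 LD2_c7 LD3_c2)) :=
  Lgr Lrot54 (Lpe (K3.f24352 IH) (Lpr_ff (K5.f125330 IH) (Lpe (f62622 IH) (Lpn (LP (LK LD1_c3 LD2_c7 LD3_c2))))))
theorem f143793 : Led Lsl_af (LP (LK LD1_c6 LD2_c9 LD3_c35)) = (LP (LK LD1_c3 LD2_c7 LD3_c2)) :=
  Lgr Lrot31 (Lpr_gf (f143791 IH) (Lpe (f134407 IH) (Lpr_ft (f125336 IH) (Lpn (LP (LK LD1_c3 LD2_c7 LD3_c2))))))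
theorem f145738 : Led Lsl_ct (LP (LK LD1_c6 LD2_c33 LD3_c6)) = (LP (LK LD1_c12 LD2_c0 LD3_c28)) :=
  Lgr Lrot53 (Lpe (f24372 IH) (Lpe (K5.f24371 IH) (Lpe (K5.f24370 IH) (Lpe (K3.f24350 IH) (Lpe (K3.f24357 IH) (Lpr_ft (f125336 IH) (Lpe (f143793 IH) (Lpr_cf (f143749 IH) (Lpr_df (f145640 IH) (Lpn (LP (LK LD1_c12 LD2_c0 LD3_c28))))))))))))
theorem f145743 : Led Lsl_cf (LP (LK LD1_c6 LD2_c33 LD3_c6)) = (LP (LK LD1_c12 LD2_c0 LD3_c28)) :=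
  Lgr Lrot11 (Lpr_ct (f145738 IH) (Lpn (LP (LK LD1_c12 LD2_c0 LD3_c28))))
theorem f24356 : Led Lsl_dt (LP (LK LD1_c6 LD2_c33 LD3_c6)) = (LP (LK LD1_c3 LD2_c14 LD3_c48)) :=
  Lre_d IH (LK LD1_c6 LD2_c33 LD3_c6) (LK LD1_c3 LD2_c14 LD3_c48) Lrfl Lrfl
theorem f126731 : Led Lsl_ct (LP (LK LD1_c6 LD2_c33 LD3_c1)) = (LP (LK LD1_c3 LD2_c14 LD3_c47)) :=
  Lre_c IH (LK LD1_c6 LD2_c33 LD3_c1) (LK LD1_c3 LD2_c14 LD3_c47) Lrfl Lrfl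
theorem f145736 : Led Lsl_dt (LP (LK LD1_c6 LD2_c49 LD3_c9)) = (LP (LK LD1_c12 LD2_c0 LD3_c28)) :=
  Lgr Lrot42 (Lpr_df (f145640 IH) (Lpn (LP (LK LD1_c12 LD2_c0 LD3_c28))))
theorem f145745 : Led Lsl_gt (LP (LK LD1_c12 LD2_c0 LD3_c28)) = (LP (LK LD1_c12 LD2_c0 LD3_c29)) :=
  Lgr Lrot9 (Lpe (f145736 IH) (Lpr_gt (f143787 IH) (Lpr_ct (f126731 IH) (Lpr_gt (f24358 IH) (Lpr_ct (K5.f24371 IH) (Lpe (f24356 IH) (Lpr_cf (f145743 IH) (Lpe (f62420 IH) (Lpe (K5.f126739 IH) (Lpn (LP (LK LD1_c12 LD2_c0 LD3_c29))))))))))))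
theorem f126755 : Led Lsl_gf (LP (LK LD1_c6 LD2_c9 LD3_c42)) = (LP (LK LD1_c6 LD2_c32 LD3_c61)) :=
  Lgr Lrot47 (Lpr_gt (f62407 IH) (Lpe (K5.f62548 IH) (Lpr_ff (K5.f126743 IH) (Lpn (LP (LK LD1_c6 LD2_c32 LD3_c61))))))
theorem f126757 : Led Lsl_dt (LP (LK LD1_c6 LD2_c9 LD3_c42)) = (LP (LK LD1_c12 LD2_c0 LD3_c23)) :=
  Lre_d IH (LK LD1_c6 LD2_c9 LD3_c42) (LK LD1_c12 LD2_c0 LD3_c23) Lrfl Lrfl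
theorem f145521 : Led Lsl_dt (LP (LK LD1_c1 LD2_c30 LD3_c11)) = (LP (LK LD1_c3 LD2_c8 LD3_c0)) :=
  Lre_d IH (LK LD1_c1 LD2_c30 LD3_c11) (LK LD1_c3 LD2_c8 LD3_c0) Lrfl Lrfl
theorem f145642 : Led Lsl_gt (LP (LK LD1_c1 LD2_c41 LD3_c0)) = (LP (LK LD1_c1 LD2_c30 LD3_c11)) :=
  Lgr Lrot137 (Lpe (K3.f62326 IH) (Lpr_dt (K2.f25033 IH) (Lpe (K3.f107505 IH) (Lpe (K4.f24314 IH) (Lpe (K5.f126905 IH) (Lpr_gf (K4.f90373 IH) (Lpe (K2.f83912 IH) (Lpr_dt (K3.f83897 IH) (Lpr_gf (f145638 IH) (Lpe (f145521 IH) (Lpn (LP (LK LD1_c1 LD2_c30 LD3_c11)))))))))))))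
theorem f133813 : Led Lsl_gf (LP (LK LD1_c3 LD2_c28 LD3_c37)) = (LP (LK LD1_c4 LD2_c43 LD3_c59)) :=
  Lgr Lrot147 (Lpr_ct (K5.f133799 IH) (Lpe (K5.f133794 IH) (Lpr_ct (K5.f126681 IH) (Lpe (K5.f57567 IH) (Lpe (K5.f126645 IH) (Lpr_gf (K5.f126702 IH) (Lpe (K2.f90196 IH) (Lpr_gf (K5.f125320 IH) (Lpe (f23545 IH) (Lpn (LP (LK LD1_c4 LD2_c43 LD3_c59))))))))))))
theorem f143847 : Led Lsl_gt (LP (LK LD1_c6 LD2_c48 LD3_c28)) = (LP (LK LD1_c6 LD2_c49 LD3_c8)) :=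
  Lgr Lrot46 (Lpe (f25638 IH) (Lpr_ft (f143839 IH) (Lpr_at (f113166 IH) (Lpn (LP (LK LD1_c6 LD2_c49 LD3_c8))))))
theorem f126759 : Led Lsl_dt (LP (LK LD1_c12 LD2_c0 LD3_c23)) = (LP (LK LD1_c6 LD2_c9 LD3_c42)) :=
  Lre_d IH (LK LD1_c12 LD2_c0 LD3_c23) (LK LD1_c6 LD2_c9 LD3_c42) Lrfl Lrfl
theorem f145648 : Led Lsl_gt (LP (LK LD1_c12 LD2_c59 LD3_c37)) = (LP (LK LD1_c12 LD2_c0 LD3_c23)) :=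
  Lgr Lrot49 (Lpr_df (f143762 IH) (Lpe (f143847 IH) (Lpe (f134063 IH) (Lpe (f133813 IH) (Lpr_dt (K3.f76785 IH) (Lpr_gt (f145642 IH) (Lpr_dt (f145521 IH) (Lpe (f145524 IH) (Lpe (f126759 IH) (Lpn (LP (LK LD1_c12 LD2_c0 LD3_c23))))))))))))
theorem f126922 : Led Lsl_ct (LP (LK LD1_c6 LD2_c48 LD3_c30)) = (LP (LK LD1_c12 LD2_c59 LD3_c37)) :=
  Lre_c IH (LK LD1_c6 LD2_c48 LD3_c30) (LK LD1_c12 LD2_c59 LD3_c37) Lrfl Lrfl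
theorem f145653 : Led Lsl_gf (LP (LK LD1_c6 LD2_c48 LD3_c30)) = (LP (LK LD1_c12 LD2_c0 LD3_c23)) :=
  Lgr Lrot76 (Lpr_af (f143770 IH) (Lpe (f143768 IH) (Lpr_gt (f145648 IH) (Lpn (LP (LK LD1_c12 LD2_c0 LD3_c23))))))
theorem f62369 : Led Lsl_gt (LP (LK LD1_c1 LD2_c26 LD3_c37)) = (LP (LK LD1_c3 LD2_c1 LD3_c18)) :=
  Lre_g IH (LK LD1_c1 LD2_c26 LD3_c37) (LK LD1_c3 LD2_c1 LD3_c18) Lrfl Lrfl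
theorem f86414 : Led Lsl_ct (LP (LK LD1_c3 LD2_c1 LD3_c18)) = (LP (LK LD1_c6 LD2_c9 LD3_c37)) :=
  Lre_c IH (LK LD1_c3 LD2_c1 LD3_c18) (LK LD1_c6 LD2_c9 LD3_c37) Lrfl Lrfl
theorem f145655 : Led Lsl_dt (LP (LK LD1_c6 LD2_c9 LD3_c37)) = (LP (LK LD1_c12 LD2_c0 LD3_c14)) :=
  Lre_d IH (LK LD1_c6 LD2_c9 LD3_c37) (LK LD1_c12 LD2_c0 LD3_c14) Lrfl Lrfl
theorem f145656 : Led Lsl_cf (LP (LK LD1_c12 LD2_c0 LD3_c14)) = (LP (LK LD1_c12 LD2_c0 LD3_c23)) :=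
  Lgr Lrot99 (Lpe (f145655 IH) (Lpe (f86414 IH) (Lpe (f62369 IH) (Lpe (K5.f62379 IH) (Lpe (f62407 IH) (Lpe (f126759 IH) (Lpe (f145653 IH) (Lpr_ct (f126922 IH) (Lpr_gt (f145648 IH) (Lpn (LP (LK LD1_c12 LD2_c0 LD3_c23))))))))))))
theorem f145667 : Led Lsl_ct (LP (LK LD1_c12 LD2_c0 LD3_c14)) = (LP (LK LD1_c12 LD2_c0 LD3_c23)) :=
  Lgr Lrot59 (Lpr_cf (f145656 IH) (Lpn (LP (LK LD1_c12 LD2_c0 LD3_c23))))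
theorem f145791 : Led Lsl_gt (LP (LK LD1_c7 LD2_c48 LD3_c45)) = (LP (LK LD1_c6 LD2_c9 LD3_c37)) :=
  Lgr Lrot49 (Lpr_df (f134122 IH) (Lpe (f134121 IH) (Lpr_cf (f145743 IH) (Lpr_gt (f145745 IH) (Lpe (K5.f126779 IH) (Lpe (f126755 IH) (Lpr_dt (f126757 IH) (Lpe (f145667 IH) (Lpe (f145655 IH) (Lpn (LP (LK LD1_c6 LD2_c9 LD3_c37))))))))))))
theorem f86415 : Led Lsl_gt (LP (LK LD1_c6 LD2_c9 LD3_c37)) = (LP (LK LD1_c12 LD2_c0 LD3_c12)) :=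
  Lre_g IH (LK LD1_c6 LD2_c9 LD3_c37) (LK LD1_c12 LD2_c0 LD3_c12) Lrfl Lrfl
theorem f145793 : Led Lsl_at (LP (LK LD1_c12 LD2_c15 LD3_c56)) = (LP (LK LD1_c12 LD2_c0 LD3_c12)) :=
  Lgr Lrot26 (Lpe (f145547 IH) (Lpr_gt (f145791 IH) (Lpr_gt (f86415 IH) (Lpn (LP (LK LD1_c12 LD2_c0 LD3_c12))))))
theorem f145553 : Led Lsl_ff (LP (LK LD1_c12 LD2_c33 LD3_c31)) = (LP (LK LD1_c17 LD2_c16 LD3_c57)) :=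
  Lgr Lrot19 (Lpe (f134122 IH) (Lpr_ft (f145547 IH) (Lpe (f145529 IH) (Lpn (LP (LK LD1_c17 LD2_c16 LD3_c57))))))
theorem f125349 : Led Lsl_gt (LP (LK LD1_c9 LD2_c20 LD3_c57)) = (LP (LK LD1_c17 LD2_c16 LD3_c56)) :=
  Lre_g IH (LK LD1_c9 LD2_c20 LD3_c57) (LK LD1_c17 LD2_c16 LD3_c56) Lrfl Lrfl
theorem f145558 : Led Lsl_at (LP (LK LD1_c12 LD2_c33 LD3_c31)) = (LP (LK LD1_c17 LD2_c16 LD3_c56)) :=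
  Lgr Lrot26 (Lpr_ff (f145553 IH) (Lpr_gt (f120060 IH) (Lpr_gt (f125349 IH) (Lpn (LP (LK LD1_c17 LD2_c16 LD3_c56))))))
theorem f145560 : Led Lsl_af (LP (LK LD1_c12 LD2_c33 LD3_c31)) = (LP (LK LD1_c17 LD2_c16 LD3_c56)) :=
  Lgr Lrot0 (Lpr_at (f145558 IH) (Lpn (LP (LK LD1_c17 LD2_c16 LD3_c56))))
theorem f133838 : Led Lsl_gt (LP (LK LD1_c12 LD2_c33 LD3_c32)) = (LP (LK LD1_c6 LD2_c33 LD3_c6)) :=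
  Lre_g IH (LK LD1_c12 LD2_c33 LD3_c32) (LK LD1_c6 LD2_c33 LD3_c6) Lrfl Lrfl
theorem f145578 : Led Lsl_ft (LP (LK LD1_c12 LD2_c33 LD3_c32)) = (LP (LK LD1_c17 LD2_c16 LD3_c56)) :=
  Lgr Lrot2 (Lpr_gt (f133838 IH) (Lpr_gt (f134121 IH) (Lpr_af (f145560 IH) (Lpn (LP (LK LD1_c17 LD2_c16 LD3_c56))))))
theorem f145585 : Led Lsl_ff (LP (LK LD1_c12 LD2_c33 LD3_c32)) = (LP (LK LD1_c17 LD2_c16 LD3_c56)) :=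
  Lgr Lrot3 (Lpr_ft (f145578 IH) (Lpn (LP (LK LD1_c17 LD2_c16 LD3_c56))))
theorem f145587 : Led Lsl_at (LP (LK LD1_c12 LD2_c33 LD3_c32)) = (LP (LK LD1_c17 LD2_c16 LD3_c57)) :=
  Lgr Lrot66 (Lpr_ff (f145585 IH) (Lpe (f145558 IH) (Lpr_ff (f145553 IH) (Lpn (LP (LK LD1_c17 LD2_c16 LD3_c57))))))
theorem f90498 : Led Lsl_af (LP (LK LD1_c7 LD2_c48 LD3_c45)) = (LP (LK LD1_c12 LD2_c13 LD3_c47)) :=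
  Lgr Lrot0 (Lpr_at (f90354 IH) (Lpn (LP (LK LD1_c12 LD2_c13 LD3_c47))))
theorem f145563 : Led Lsl_df (LP (LK LD1_c12 LD2_c13 LD3_c47)) = (LP (LK LD1_c17 LD2_c16 LD3_c56)) :=
  Lgr Lrot18 (Lpe (f90498 IH) (Lpr_dt (f134127 IH) (Lpr_at (f145558 IH) (Lpn (LP (LK LD1_c17 LD2_c16 LD3_c56))))))
theorem f145594 : Led Lsl_cf (LP (LK LD1_c17 LD2_c16 LD3_c57)) = (LP (LK LD1_c12 LD2_c33 LD3_c31)) :=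
  Lgr Lrot102 (Lpe (f145587 IH) (Lpr_ff (f145585 IH) (Lpe (f145563 IH) (Lpr_ct (f83889 IH) (Lpr_dt (f83903 IH) (Lpe (f90201 IH) (Lpr_dt (f88769 IH) (Lpr_ct (f90205 IH) (Lpr_dt (f134127 IH) (Lpn (LP (LK LD1_c12 LD2_c33 LD3_c31))))))))))))
theorem f145513 : Led Lsl_df (LP (LK LD1_c3 LD2_c11 LD3_c60)) = (LP (LK LD1_c6 LD2_c20 LD3_c53)) :=
  Lgr Lrot38 (Lpr_dt (f145506 IH) (Lpn (LP (LK LD1_c6 LD2_c20 LD3_c53))))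
theorem f126623 : Led Lsl_cf (LP (LK LD1_c3 LD2_c7 LD3_c1)) = (LP (LK LD1_c3 LD2_c11 LD3_c60)) :=
  Lgr Lrot11 (Lpr_ct (K5.f126620 IH) (Lpn (LP (LK LD1_c3 LD2_c11 LD3_c60))))
theorem f62621 : Led Lsl_dt (LP (LK LD1_c3 LD2_c7 LD3_c1)) = (LP (LK LD1_c6 LD2_c19 LD3_c13)) :=
  Lre_d IH (LK LD1_c3 LD2_c7 LD3_c1) (LK LD1_c6 LD2_c19 LD3_c13) Lrfl Lrfl
theorem f145811 : Led Lsl_ct (LP (LK LD1_c6 LD2_c19 LD3_c13)) = (LP (LK LD1_c12 LD2_c0 LD3_c12)) :=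
  Lgr Lrot98 (Lpe (f62621 IH) (Lpr_cf (f126623 IH) (Lpr_df (f145513 IH) (Lpe (f145515 IH) (Lpe (f145516 IH) (Lpr_cf (f145594 IH) (Lpe (f134127 IH) (Lpr_ft (f145547 IH) (Lpr_at (f145793 IH) (Lpn (LP (LK LD1_c12 LD2_c0 LD3_c12))))))))))))
theorem f133807 : Led Lsl_cf (LP (LK LD1_c3 LD2_c28 LD3_c37)) = (LP (LK LD1_c6 LD2_c33 LD3_c3)) :=
  Lgr Lrot11 (Lpr_ct (K5.f133799 IH) (Lpn (LP (LK LD1_c6 LD2_c33 LD3_c3))))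
theorem f126676 : Led Lsl_dt (LP (LK LD1_c6 LD2_c9 LD3_c36)) = (LP (LK LD1_c12 LD2_c0 LD3_c11)) :=
  Lre_d IH (LK LD1_c6 LD2_c9 LD3_c36) (LK LD1_c12 LD2_c0 LD3_c11) Lrfl Lrfl
theorem f133740 : Led Lsl_ft (LP (LK LD1_c12 LD2_c0 LD3_c11)) = (LP (LK LD1_c9 LD2_c20 LD3_c57)) :=
  Lgr Lrot54 (Lpe (f126676 IH) (Lpr_ff (K5.f133724 IH) (Lpe (K5.f107484 IH) (Lpn (LP (LK LD1_c9 LD2_c20 LD3_c57))))))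
theorem f134156 : Led Lsl_at (LP (LK LD1_c9 LD2_c20 LD3_c57)) = (LP (LK LD1_c6 LD2_c33 LD3_c6)) :=
  Lgr Lrot66 (Lpe (f133740 IH) (Lpr_af (f133771 IH) (Lpr_ff (f134151 IH) (Lpn (LP (LK LD1_c6 LD2_c33 LD3_c6))))))
theorem f134334 : Led Lsl_gt (LP (LK LD1_c12 LD2_c0 LD3_c11)) = (LP (LK LD1_c12 LD2_c33 LD3_c32)) :=
  Lgr Lrot5 (Lpr_ft (f133740 IH) (Lpr_at (f134156 IH) (Lpe (f133838 IH) (Lpn (LP (LK LD1_c12 LD2_c33 LD3_c32))))))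
theorem f145815 : Led Lsl_dt (LP (LK LD1_c12 LD2_c33 LD3_c32)) = (LP (LK LD1_c12 LD2_c0 LD3_c12)) :=
  Lgr Lrot113 (Lpe (f134334 IH) (Lpe (f126676 IH) (Lpr_gf (K5.f133794 IH) (Lpe (f133807 IH) (Lpr_gt (K5.f126917 IH) (Lpr_dt (f62622 IH) (Lpr_gt (K5.f62620 IH) (Lpr_dt (f62621 IH) (Lpr_ct (f145811 IH) (Lpn (LP (LK LD1_c12 LD2_c0 LD3_c12))))))))))))
theorem f145821 : Led Lsl_gf (LP (LK LD1_c6 LD2_c9 LD3_c40)) = (LP (LK LD1_c12 LD2_c0 LD3_c12)) :=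
  Lgr Lrot179 (Lpr_ct (f126800 IH) (Lpr_gt (f62367 IH) (Lpr_ct (K5.f62360 IH) (Lpr_dt (K5.f62400 IH) (Lpe (K5.f126739 IH) (Lpe (f145745 IH) (Lpe (f145738 IH) (Lpe (f133838 IH) (Lpr_dt (f145815 IH) (Lpn (LP (LK LD1_c12 LD2_c0 LD3_c12))))))))))))
theorem f62463 : Led Lsl_gt (LP (LK LD1_c6 LD2_c9 LD3_c43)) = (LP (LK LD1_c12 LD2_c0 LD3_c24)) :=
  Lre_g IH (LK LD1_c6 LD2_c9 LD3_c43) (LK LD1_c12 LD2_c0 LD3_c24) Lrfl Lrfl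
theorem f135220 : Led Lsl_bt (LP (LK LD1_c21 LD2_c5 LD3_c25)) = (LP (LK LD1_c12 LD2_c0 LD3_c24)) :=
  Lre_b IH (LK LD1_c21 LD2_c5 LD3_c25) (LK LD1_c12 LD2_c0 LD3_c24) Lrfl Lrfl
theorem f145823 : Led Lsl_bt (LP (LK LD1_c21 LD2_c5 LD3_c6)) = (LP (LK LD1_c12 LD2_c0 LD3_c12)) :=
  Lre_b IH (LK LD1_c21 LD2_c5 LD3_c6) (LK LD1_c12 LD2_c0 LD3_c12) Lrfl Lrfl
theorem f126625 : Led Lsl_dt (LP (LK LD1_c6 LD2_c19 LD3_c13)) = (LP (LK LD1_c3 LD2_c7 LD3_c1)) :=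
  Lre_d IH (LK LD1_c6 LD2_c19 LD3_c13) (LK LD1_c3 LD2_c7 LD3_c1) Lrfl Lrfl
theorem f76745 : Led Lsl_dt (LP (LK LD1_c1 LD2_c38 LD3_c16)) = (LP (LK LD1_c3 LD2_c23 LD3_c59)) :=
  Lre_d IH (LK LD1_c1 LD2_c38 LD3_c16) (LK LD1_c3 LD2_c23 LD3_c59) Lrfl Lrfl
theorem f126634 : Led Lsl_bf (LP (LK LD1_c6 LD2_c19 LD3_c13)) = (LP (LK LD1_c3 LD2_c23 LD3_c59)) :=
  Lgr Lrot93 (Lpr_dt (f126625 IH) (Lpr_bt (K5.f126628 IH) (Lpr_dt (f76745 IH) (Lpn (LP (LK LD1_c3 LD2_c23 LD3_c59))))))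
theorem f76747 : Led Lsl_ct (LP (LK LD1_c6 LD2_c50 LD3_c58)) = (LP (LK LD1_c3 LD2_c23 LD3_c59)) :=
  Lre_c IH (LK LD1_c6 LD2_c50 LD3_c58) (LK LD1_c3 LD2_c23 LD3_c59) Lrfl Lrfl
theorem f94174 : Led Lsl_bt (LP (LK LD1_c13 LD2_c2 LD3_c6)) = (LP (LK LD1_c6 LD2_c50 LD3_c58)) :=
  Lre_b IH (LK LD1_c13 LD2_c2 LD3_c6) (LK LD1_c6 LD2_c50 LD3_c58) Lrfl Lrfl
theorem f145801 : Led Lsl_bt (LP (LK LD1_c12 LD2_c0 LD3_c12)) = (LP (LK LD1_c21 LD2_c5 LD3_c6)) :=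
  Lre_b IH (LK LD1_c12 LD2_c0 LD3_c12) (LK LD1_c21 LD2_c5 LD3_c6) Lrfl Lrfl
theorem f145813 : Led Lsl_cf (LP (LK LD1_c13 LD2_c2 LD3_c6)) = (LP (LK LD1_c21 LD2_c5 LD3_c6)) :=
  Lgr Lrot97 (Lpr_bt (f94174 IH) (Lpr_ct (f76747 IH) (Lpe (f126634 IH) (Lpr_ct (f145811 IH) (Lpr_bt (f145801 IH) (Lpn (LP (LK LD1_c21 LD2_c5 LD3_c6))))))))
theorem f94191 : Led Lsl_gt (LP (LK LD1_c22 LD2_c11 LD3_c49)) = (LP (LK LD1_c13 LD2_c2 LD3_c6)) :=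
  Lre_g IH (LK LD1_c22 LD2_c11 LD3_c49) (LK LD1_c13 LD2_c2 LD3_c6) Lrfl Lrfl
theorem f145824 : Led Lsl_ct (LP (LK LD1_c21 LD2_c5 LD3_c25)) = (LP (LK LD1_c22 LD2_c11 LD3_c49)) :=
  Lgr Lrot64 (Lpr_bt (f135220 IH) (Lpe (f62463 IH) (Lpe (K5.f62395 IH) (Lpr_ct (K5.f62379 IH) (Lpe (f62367 IH) (Lpe (f126800 IH) (Lpr_gf (f145821 IH) (Lpe (f145823 IH) (Lpe (f145813 IH) (Lpe (f94191 IH) (Lpn (LP (LK LD1_c22 LD2_c11 LD3_c49)))))))))))))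
theorem f84265 : Led Lsl_at (LP (LK LD1_c6 LD2_c48 LD3_c17)) = (LP (LK LD1_c12 LD2_c59 LD3_c14)) :=
  Lre_a IH (LK LD1_c6 LD2_c48 LD3_c17) (LK LD1_c12 LD2_c59 LD3_c14) Lrfl Lrfl
theorem f135217 : Led Lsl_gt (LP (LK LD1_c12 LD2_c0 LD3_c24)) = (LP (LK LD1_c12 LD2_c59 LD3_c14)) :=
  Lgr Lrot46 (Lpe (f62463 IH) (Lpr_ft (K5.f135204 IH) (Lpr_at (f84265 IH) (Lpn (LP (LK LD1_c12 LD2_c59 LD3_c14))))))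
theorem f83815 : Led Lsl_dt (LP (LK LD1_c3 LD2_c6 LD3_c51)) = (LP (LK LD1_c1 LD2_c29 LD3_c33)) :=
  Lre_d IH (LK LD1_c3 LD2_c6 LD3_c51) (LK LD1_c1 LD2_c29 LD3_c33) Lrfl Lrfl
theorem f94164 : Led Lsl_ft (LP (LK LD1_c3 LD2_c23 LD3_c59)) = (LP (LK LD1_c3 LD2_c6 LD3_c51)) :=
  Lgr Lrot54 (Lpe (f76745 IH) (Lpr_ff (K3.f90210 IH) (Lpe (f83815 IH) (Lpn (LP (LK LD1_c3 LD2_c6 LD3_c51))))))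
theorem f83820 : Led Lsl_ct (LP (LK LD1_c3 LD2_c6 LD3_c51)) = (LP (LK LD1_c6 LD2_c18 LD3_c61)) :=
  Lre_c IH (LK LD1_c3 LD2_c6 LD3_c51) (LK LD1_c6 LD2_c18 LD3_c61) Lrfl Lrfl
theorem f94166 : Led Lsl_ff (LP (LK LD1_c6 LD2_c50 LD3_c58)) = (LP (LK LD1_c6 LD2_c18 LD3_c61)) :=
  Lgr Lrot23 (Lpr_ct (f76747 IH) (Lpr_ft (f94164 IH) (Lpr_ct (f83820 IH) (Lpn (LP (LK LD1_c6 LD2_c18 LD3_c61))))))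
theorem f94172 : Led Lsl_ft (LP (LK LD1_c6 LD2_c50 LD3_c58)) = (LP (LK LD1_c6 LD2_c18 LD3_c61)) :=
  Lgr Lrot48 (Lpr_ff (f94166 IH) (Lpn (LP (LK LD1_c6 LD2_c18 LD3_c61))))
theorem f83866 : Led Lsl_bt (LP (LK LD1_c6 LD2_c18 LD3_c61)) = (LP (LK LD1_c12 LD2_c13 LD3_c50)) :=
  Lre_b IH (LK LD1_c6 LD2_c18 LD3_c61) (LK LD1_c12 LD2_c13 LD3_c50) Lrfl Lrfl
theorem f94175 : Led Lsl_ff (LP (LK LD1_c13 LD2_c2 LD3_c6)) = (LP (LK LD1_c12 LD2_c13 LD3_c50)) :=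
  Lgr Lrot25 (Lpr_bt (f94174 IH) (Lpr_ft (f94172 IH) (Lpr_bt (f83866 IH) (Lpn (LP (LK LD1_c12 LD2_c13 LD3_c50))))))
theorem f94178 : Led Lsl_at (LP (LK LD1_c13 LD2_c2 LD3_c6)) = (LP (LK LD1_c22 LD2_c11 LD3_c50)) :=
  Lre_a IH (LK LD1_c13 LD2_c2 LD3_c6) (LK LD1_c22 LD2_c11 LD3_c50) Lrfl Lrfl
theorem f83862 : Led Lsl_at (LP (LK LD1_c21 LD2_c20 LD3_c0)) = (LP (LK LD1_c12 LD2_c13 LD3_c50)) :=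
  Lre_a IH (LK LD1_c21 LD2_c20 LD3_c0) (LK LD1_c12 LD2_c13 LD3_c50) Lrfl Lrfl
theorem f94179 : Led Lsl_ft (LP (LK LD1_c22 LD2_c11 LD3_c50)) = (LP (LK LD1_c21 LD2_c20 LD3_c0)) :=
  Lgr Lrot101 (Lpe (f94178 IH) (Lpr_ff (f94175 IH) (Lpe (f83862 IH) (Lpn (LP (LK LD1_c21 LD2_c20 LD3_c0))))))
theorem f94185 : Led Lsl_ff (LP (LK LD1_c22 LD2_c11 LD3_c50)) = (LP (LK LD1_c21 LD2_c20 LD3_c0)) :=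
  Lgr Lrot3 (Lpr_ft (f94179 IH) (Lpn (LP (LK LD1_c21 LD2_c20 LD3_c0))))
theorem f94189 : Led Lsl_at (LP (LK LD1_c22 LD2_c11 LD3_c50)) = (LP (LK LD1_c13 LD2_c2 LD3_c6)) :=
  Lre_a IH (LK LD1_c22 LD2_c11 LD3_c50) (LK LD1_c13 LD2_c2 LD3_c6) Lrfl Lrfl
theorem f94192 : Led Lsl_gf (LP (LK LD1_c22 LD2_c11 LD3_c49)) = (LP (LK LD1_c21 LD2_c20 LD3_c0)) :=
  Lgr Lrot47 (Lpr_gt (f94191 IH) (Lpe (f94189 IH) (Lpr_ff (f94185 IH) (Lpn (LP (LK LD1_c21 LD2_c20 LD3_c0))))))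
theorem f83895 : Led Lsl_ct (LP (LK LD1_c29 LD2_c58 LD3_c46)) = (LP (LK LD1_c21 LD2_c20 LD3_c0)) :=
  Lre_c IH (LK LD1_c29 LD2_c58 LD3_c46) (LK LD1_c21 LD2_c20 LD3_c0) Lrfl Lrfl
theorem f90500 : Led Lsl_bt (LP (LK LD1_c14 LD2_c44 LD3_c33)) = (LP (LK LD1_c7 LD2_c48 LD3_c45)) :=
  Lre_b IH (LK LD1_c14 LD2_c44 LD3_c33) (LK LD1_c7 LD2_c48 LD3_c45) Lrfl Lrfl
theorem f90501 : Led Lsl_at (LP (LK LD1_c24 LD2_c30 LD3_c43)) = (LP (LK LD1_c14 LD2_c44 LD3_c33)) :=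
  Lre_a IH (LK LD1_c24 LD2_c30 LD3_c43) (LK LD1_c14 LD2_c44 LD3_c33) Lrfl Lrfl
theorem f83887 : Led Lsl_bt (LP (LK LD1_c12 LD2_c13 LD3_c47)) = (LP (LK LD1_c21 LD2_c19 LD3_c59)) :=
  Lre_b IH (LK LD1_c12 LD2_c13 LD3_c47) (LK LD1_c21 LD2_c19 LD3_c59) Lrfl Lrfl
theorem f83877 : Led Lsl_at (LP (LK LD1_c21 LD2_c19 LD3_c59)) = (LP (LK LD1_c29 LD2_c58 LD3_c46)) :=
  Lre_a IH (LK LD1_c21 LD2_c19 LD3_c59) (LK LD1_c29 LD2_c58 LD3_c46) Lrfl Lrfl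
theorem f90502 : Led Lsl_bf (LP (LK LD1_c24 LD2_c30 LD3_c43)) = (LP (LK LD1_c29 LD2_c58 LD3_c46)) :=
  Lgr Lrot81 (Lpr_at (f90501 IH) (Lpr_bt (f90500 IH) (Lpr_at (f90354 IH) (Lpr_bt (f83887 IH) (Lpr_at (f83877 IH) (Lpn (LP (LK LD1_c29 LD2_c58 LD3_c46))))))))
theorem f62327 : Led Lsl_gt (LP (LK LD1_c3 LD2_c28 LD3_c36)) = (LP (LK LD1_c1 LD2_c41 LD3_c0)) :=
  Lre_g IH (LK LD1_c3 LD2_c28 LD3_c36) (LK LD1_c1 LD2_c41 LD3_c0) Lrfl Lrfl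
theorem f145498 : Led Lsl_at (LP (LK LD1_c3 LD2_c7 LD3_c61)) = (LP (LK LD1_c1 LD2_c30 LD3_c11)) :=
  Lre_a IH (LK LD1_c3 LD2_c7 LD3_c61) (LK LD1_c1 LD2_c30 LD3_c11) Lrfl Lrfl
theorem f145644 : Led Lsl_ft (LP (LK LD1_c3 LD2_c28 LD3_c36)) = (LP (LK LD1_c3 LD2_c7 LD3_c61)) :=
  Lgr Lrot2 (Lpr_gt (f62327 IH) (Lpr_gt (f145642 IH) (Lpe (f145498 IH) (Lpn (LP (LK LD1_c3 LD2_c7 LD3_c61))))))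
theorem f145716 : Led Lsl_ff (LP (LK LD1_c3 LD2_c28 LD3_c36)) = (LP (LK LD1_c3 LD2_c7 LD3_c61)) :=
  Lgr Lrot3 (Lpr_ft (f145644 IH) (Lpn (LP (LK LD1_c3 LD2_c7 LD3_c61))))
theorem f145711 : Led Lsl_dt (LP (LK LD1_c3 LD2_c28 LD3_c36)) = (LP (LK LD1_c6 LD2_c59 LD3_c4)) :=
  Lre_d IH (LK LD1_c3 LD2_c28 LD3_c36) (LK LD1_c6 LD2_c59 LD3_c4) Lrfl Lrfl
theorem f145719 : Led Lsl_dt (LP (LK LD1_c6 LD2_c20 LD3_c52)) = (LP (LK LD1_c3 LD2_c7 LD3_c61)) :=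
  Lre_d IH (LK LD1_c6 LD2_c20 LD3_c52) (LK LD1_c3 LD2_c7 LD3_c61) Lrfl Lrfl
theorem f145720 : Led Lsl_ft (LP (LK LD1_c6 LD2_c59 LD3_c4)) = (LP (LK LD1_c6 LD2_c20 LD3_c52)) :=
  Lgr Lrot54 (Lpe (f145711 IH) (Lpr_ff (f145716 IH) (Lpe (f145719 IH) (Lpn (LP (LK LD1_c6 LD2_c20 LD3_c52))))))
theorem f145522 : Led Lsl_at (LP (LK LD1_c6 LD2_c20 LD3_c52)) = (LP (LK LD1_c3 LD2_c8 LD3_c0)) :=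
  Lre_a IH (LK LD1_c6 LD2_c20 LD3_c52) (LK LD1_c3 LD2_c8 LD3_c0) Lrfl Lrfl
theorem f145723 : Led Lsl_gt (LP (LK LD1_c6 LD2_c59 LD3_c4)) = (LP (LK LD1_c6 LD2_c20 LD3_c53)) :=
  Lgr Lrot5 (Lpr_ft (f145720 IH) (Lpr_at (f145522 IH) (Lpe (f145505 IH) (Lpn (LP (LK LD1_c6 LD2_c20 LD3_c53))))))
theorem f62409 : Led Lsl_gt (LP (LK LD1_c3 LD2_c1 LD3_c20)) = (LP (LK LD1_c6 LD2_c9 LD3_c41)) :=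
  Lre_g IH (LK LD1_c3 LD2_c1 LD3_c20) (LK LD1_c6 LD2_c9 LD3_c41) Lrfl Lrfl
theorem f145747 : Led Lsl_cf (LP (LK LD1_c6 LD2_c59 LD3_c4)) = (LP (LK LD1_c6 LD2_c9 LD3_c41)) :=
  Lgr Lrot169 (Lpr_gt (f145723 IH) (Lpr_ct (f145512 IH) (Lpe (f145516 IH) (Lpr_cf (f145594 IH) (Lpe (f134121 IH) (Lpr_cf (f145743 IH) (Lpe (f62420 IH) (Lpe (K5.f62400 IH) (Lpr_gt (f62409 IH) (Lpn (LP (LK LD1_c6 LD2_c9 LD3_c41))))))))))))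
theorem f145520 : Led Lsl_bt (LP (LK LD1_c12 LD2_c15 LD3_c56)) = (LP (LK LD1_c21 LD2_c21 LD3_c7)) :=
  Lre_b IH (LK LD1_c12 LD2_c15 LD3_c56) (LK LD1_c21 LD2_c21 LD3_c7) Lrfl Lrfl
theorem f62452 : Led Lsl_bt (LP (LK LD1_c6 LD2_c9 LD3_c43)) = (LP (LK LD1_c3 LD2_c1 LD3_c20)) :=
  Lre_b IH (LK LD1_c6 LD2_c9 LD3_c43) (LK LD1_c3 LD2_c1 LD3_c20) Lrfl Lrfl
theorem f62561 : Led Lsl_gt (LP (LK LD1_c6 LD2_c9 LD3_c46)) = (LP (LK LD1_c3 LD2_c1 LD3_c21)) :=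
  Lre_g IH (LK LD1_c6 LD2_c9 LD3_c46) (LK LD1_c3 LD2_c1 LD3_c21) Lrfl Lrfl
theorem f86419 : Led Lsl_ct (LP (LK LD1_c12 LD2_c0 LD3_c34)) = (LP (LK LD1_c6 LD2_c9 LD3_c46)) :=
  Lre_c IH (LK LD1_c12 LD2_c0 LD3_c34) (LK LD1_c6 LD2_c9 LD3_c46) Lrfl Lrfl
theorem f145757 : Led Lsl_bt (LP (LK LD1_c12 LD2_c0 LD3_c34)) = (LP (LK LD1_c21 LD2_c5 LD3_c45)) :=
  Lre_b IH (LK LD1_c12 LD2_c0 LD3_c34) (LK LD1_c21 LD2_c5 LD3_c45) Lrfl Lrfl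
theorem f145758 : Led Lsl_gt (LP (LK LD1_c21 LD2_c21 LD3_c7)) = (LP (LK LD1_c21 LD2_c5 LD3_c45)) :=
  Lgr Lrot164 (Lpe (f145520 IH) (Lpr_ct (f145515 IH) (Lpe (f145723 IH) (Lpr_cf (f145747 IH) (Lpe (f62409 IH) (Lpe (f62452 IH) (Lpr_ct (K5.f62454 IH) (Lpe (f62561 IH) (Lpe (f86419 IH) (Lpr_bt (f145757 IH) (Lpn (LP (LK LD1_c21 LD2_c5 LD3_c45)))))))))))))
theorem f145549 : Led Lsl_ff (LP (LK LD1_c14 LD2_c44 LD3_c33)) = (LP (LK LD1_c21 LD2_c21 LD3_c7)) :=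
  Lgr Lrot25 (Lpr_bt (f90500 IH) (Lpr_ft (f145547 IH) (Lpr_bt (f145520 IH) (Lpn (LP (LK LD1_c21 LD2_c21 LD3_c7))))))
theorem f90506 : Led Lsl_at (LP (LK LD1_c14 LD2_c44 LD3_c33)) = (LP (LK LD1_c24 LD2_c30 LD3_c43)) :=
  Lre_a IH (LK LD1_c14 LD2_c44 LD3_c33) (LK LD1_c24 LD2_c30 LD3_c43) Lrfl Lrfl
theorem f145764 : Led Lsl_gf (LP (LK LD1_c24 LD2_c30 LD3_c43)) = (LP (LK LD1_c21 LD2_c5 LD3_c45)) :=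
  Lgr Lrot76 (Lpe (f90506 IH) (Lpr_ff (f145549 IH) (Lpr_gt (f145758 IH) (Lpn (LP (LK LD1_c21 LD2_c5 LD3_c45))))))
theorem f145837 : Led Lsl_gt (LP (LK LD1_c6 LD2_c48 LD3_c24)) = (LP (LK LD1_c6 LD2_c9 LD3_c46)) :=
  Lgr Lrot149 (Lpe (K5.f84251 IH) (Lpe (f135217 IH) (Lpe (f135220 IH) (Lpr_ct (f145824 IH) (Lpr_gf (f94192 IH) (Lpe (f83895 IH) (Lpe (f90502 IH) (Lpr_gf (f145764 IH) (Lpe (f145757 IH) (Lpr_ct (f86419 IH) (Lpn (LP (LK LD1_c6 LD2_c9 LD3_c46)))))))))))))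
theorem f62467 : Led Lsl_at (LP (LK LD1_c6 LD2_c9 LD3_c47)) = (LP (LK LD1_c3 LD2_c1 LD3_c21)) :=
  Lre_a IH (LK LD1_c6 LD2_c9 LD3_c47) (LK LD1_c3 LD2_c1 LD3_c21) Lrfl Lrfl
theorem f145839 : Led Lsl_ft (LP (LK LD1_c6 LD2_c48 LD3_c24)) = (LP (LK LD1_c6 LD2_c9 LD3_c47)) :=
  Lgr Lrot2 (Lpr_gt (f145837 IH) (Lpr_gt (f62561 IH) (Lpe (f62467 IH) (Lpn (LP (LK LD1_c6 LD2_c9 LD3_c47))))))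
theorem f84254 : Led Lsl_dt (LP (LK LD1_c6 LD2_c9 LD3_c30)) = (LP (LK LD1_c6 LD2_c48 LD3_c24)) :=
  Lgr Lrot42 (Lpr_df (K5.f84217 IH) (Lpn (LP (LK LD1_c6 LD2_c48 LD3_c24))))
theorem f86383 : Led Lsl_bt (LP (LK LD1_c6 LD2_c44 LD3_c10)) = (LP (LK LD1_c12 LD2_c53 LD3_c8)) :=
  Lre_b IH (LK LD1_c6 LD2_c44 LD3_c10) (LK LD1_c12 LD2_c53 LD3_c8) Lrfl Lrfl
theorem f86384 : Led Lsl_bt (LP (LK LD1_c9 LD2_c33 LD3_c6)) = (LP (LK LD1_c4 LD2_c50 LD3_c24)) :=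
  Lre_b IH (LK LD1_c9 LD2_c33 LD3_c6) (LK LD1_c4 LD2_c50 LD3_c24) Lrfl Lrfl
theorem f86385 : Led Lsl_dt (LP (LK LD1_c12 LD2_c53 LD3_c8)) = (LP (LK LD1_c9 LD2_c33 LD3_c6)) :=
  Lgr Lrot79 (Lpe (f86383 IH) (Lpr_df (f86379 IH) (Lpe (f86384 IH) (Lpn (LP (LK LD1_c9 LD2_c33 LD3_c6))))))
theorem f62475 : Led Lsl_et (LP (LK LD1_c6 LD2_c44 LD3_c6)) = (LP (LK LD1_c12 LD2_c53 LD3_c8)) :=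
  Lre_e IH (LK LD1_c6 LD2_c44 LD3_c6) (LK LD1_c12 LD2_c53 LD3_c8) Lrfl Lrfl
theorem f62474 : Led Lsl_dt (LP (LK LD1_c3 LD2_c20 LD3_c11)) = (LP (LK LD1_c6 LD2_c44 LD3_c6)) :=
  Lre_d IH (LK LD1_c3 LD2_c20 LD3_c11) (LK LD1_c6 LD2_c44 LD3_c6) Lrfl Lrfl
theorem f86387 : Led Lsl_et (LP (LK LD1_c9 LD2_c33 LD3_c6)) = (LP (LK LD1_c4 LD2_c50 LD3_c23)) :=
  Lre_e IH (LK LD1_c9 LD2_c33 LD3_c6) (LK LD1_c4 LD2_c50 LD3_c23) Lrfl Lrfl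
theorem f86388 : Led Lsl_df (LP (LK LD1_c3 LD2_c1 LD3_c21)) = (LP (LK LD1_c4 LD2_c50 LD3_c23)) :=
  Lgr Lrot70 (Lpe (K5.f62455 IH) (Lpr_dt (f62474 IH) (Lpr_et (f62475 IH) (Lpr_dt (f86385 IH) (Lpr_et (f86387 IH) (Lpn (LP (LK LD1_c4 LD2_c50 LD3_c23))))))))
theorem f62506 : Led Lsl_at (LP (LK LD1_c3 LD2_c1 LD3_c21)) = (LP (LK LD1_c6 LD2_c9 LD3_c47)) :=
  Lre_a IH (LK LD1_c3 LD2_c1 LD3_c21) (LK LD1_c6 LD2_c9 LD3_c47) Lrfl Lrfl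
theorem f86392 : Led Lsl_at (LP (LK LD1_c9 LD2_c33 LD3_c5)) = (LP (LK LD1_c4 LD2_c50 LD3_c23)) :=
  Lre_a IH (LK LD1_c9 LD2_c33 LD3_c5) (LK LD1_c4 LD2_c50 LD3_c23) Lrfl Lrfl
theorem f86393 : Led Lsl_dt (LP (LK LD1_c6 LD2_c9 LD3_c47)) = (LP (LK LD1_c9 LD2_c33 LD3_c5)) :=
  Lgr Lrot44 (Lpe (f62506 IH) (Lpr_df (f86388 IH) (Lpe (f86392 IH) (Lpn (LP (LK LD1_c9 LD2_c33 LD3_c5))))))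
theorem f145846 : Led Lsl_ff (LP (LK LD1_c6 LD2_c9 LD3_c30)) = (LP (LK LD1_c9 LD2_c33 LD3_c5)) :=
  Lgr Lrot19 (Lpr_dt (f84254 IH) (Lpr_ft (f145839 IH) (Lpr_dt (f86393 IH) (Lpn (LP (LK LD1_c9 LD2_c33 LD3_c5))))))
theorem f145850 : Led Lsl_ft (LP (LK LD1_c6 LD2_c9 LD3_c30)) = (LP (LK LD1_c9 LD2_c33 LD3_c5)) :=
  Lgr Lrot48 (Lpr_ff (f145846 IH) (Lpn (LP (LK LD1_c9 LD2_c33 LD3_c5))))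
theorem f135723 : Led Lsl_bt (LP (LK LD1_c6 LD2_c49 LD3_c14)) = (LP (LK LD1_c6 LD2_c9 LD3_c30)) :=
  Lgr Lrot127 (Lpr_bf (f135721 IH) (Lpn (LP (LK LD1_c6 LD2_c9 LD3_c30))))
theorem f84360 : Led Lsl_bt (LP (LK LD1_c1 LD2_c37 LD3_c24)) = (LP (LK LD1_c3 LD2_c22 LD3_c16)) :=
  Lre_b IH (LK LD1_c1 LD2_c37 LD3_c24) (LK LD1_c3 LD2_c22 LD3_c16) Lrfl Lrfl
theorem f84361 : Led Lsl_bt (LP (LK LD1_c4 LD2_c48 LD3_c38)) = (LP (LK LD1_c2 LD2_c22 LD3_c13)) :=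
  Lre_b IH (LK LD1_c4 LD2_c48 LD3_c38) (LK LD1_c2 LD2_c22 LD3_c13) Lrfl Lrfl
theorem f84362 : Led Lsl_et (LP (LK LD1_c3 LD2_c22 LD3_c16)) = (LP (LK LD1_c4 LD2_c48 LD3_c38)) :=
  Lgr Lrot74 (Lpe (f84360 IH) (Lpr_ef (f84356 IH) (Lpe (f84361 IH) (Lpn (LP (LK LD1_c4 LD2_c48 LD3_c38))))))
theorem f84372 : Led Lsl_ct (LP (LK LD1_c6 LD2_c48 LD3_c8)) = (LP (LK LD1_c3 LD2_c22 LD3_c16)) :=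
  Lre_c IH (LK LD1_c6 LD2_c48 LD3_c8) (LK LD1_c3 LD2_c22 LD3_c16) Lrfl Lrfl
theorem f84373 : Led Lsl_ct (LP (LK LD1_c4 LD2_c48 LD3_c38)) = (LP (LK LD1_c9 LD2_c29 LD3_c36)) :=
  Lre_c IH (LK LD1_c4 LD2_c48 LD3_c38) (LK LD1_c9 LD2_c29 LD3_c36) Lrfl Lrfl
theorem f84374 : Led Lsl_ef (LP (LK LD1_c6 LD2_c48 LD3_c8)) = (LP (LK LD1_c9 LD2_c29 LD3_c36)) :=
  Lgr Lrot28 (Lpr_ct (f84372 IH) (Lpr_et (f84362 IH) (Lpr_ct (f84373 IH) (Lpn (LP (LK LD1_c9 LD2_c29 LD3_c36))))))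
theorem f84398 : Led Lsl_et (LP (LK LD1_c6 LD2_c48 LD3_c8)) = (LP (LK LD1_c9 LD2_c29 LD3_c36)) :=
  Lgr Lrot87 (Lpr_ef (f84374 IH) (Lpn (LP (LK LD1_c9 LD2_c29 LD3_c36))))
theorem f84406 : Led Lsl_at (LP (LK LD1_c12 LD2_c58 LD3_c59)) = (LP (LK LD1_c6 LD2_c48 LD3_c8)) :=
  Lre_a IH (LK LD1_c12 LD2_c58 LD3_c59) (LK LD1_c6 LD2_c48 LD3_c8) Lrfl Lrfl
theorem f84407 : Led Lsl_at (LP (LK LD1_c9 LD2_c29 LD3_c36)) = (LP (LK LD1_c17 LD2_c30 LD3_c29)) :=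
  Lre_a IH (LK LD1_c9 LD2_c29 LD3_c36) (LK LD1_c17 LD2_c30 LD3_c29) Lrfl Lrfl
theorem f84408 : Led Lsl_ef (LP (LK LD1_c12 LD2_c58 LD3_c59)) = (LP (LK LD1_c17 LD2_c30 LD3_c29)) :=
  Lgr Lrot20 (Lpr_at (f84406 IH) (Lpr_et (f84398 IH) (Lpr_at (f84407 IH) (Lpn (LP (LK LD1_c17 LD2_c30 LD3_c29))))))
theorem f84460 : Led Lsl_ct (LP (LK LD1_c12 LD2_c58 LD3_c59)) = (LP (LK LD1_c6 LD2_c48 LD3_c12)) :=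
  Lre_c IH (LK LD1_c12 LD2_c58 LD3_c59) (LK LD1_c6 LD2_c48 LD3_c12) Lrfl Lrfl
theorem f84461 : Led Lsl_ct (LP (LK LD1_c9 LD2_c29 LD3_c49)) = (LP (LK LD1_c17 LD2_c30 LD3_c29)) :=
  Lre_c IH (LK LD1_c9 LD2_c29 LD3_c49) (LK LD1_c17 LD2_c30 LD3_c29) Lrfl Lrfl
theorem f84462 : Led Lsl_et (LP (LK LD1_c6 LD2_c48 LD3_c12)) = (LP (LK LD1_c9 LD2_c29 LD3_c49)) :=
  Lgr Lrot158 (Lpe (f84460 IH) (Lpr_ef (f84408 IH) (Lpe (f84461 IH) (Lpn (LP (LK LD1_c9 LD2_c29 LD3_c49))))))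
theorem f62466 : Led Lsl_at (LP (LK LD1_c3 LD2_c20 LD3_c11)) = (LP (LK LD1_c6 LD2_c44 LD3_c5)) :=
  Lre_a IH (LK LD1_c3 LD2_c20 LD3_c11) (LK LD1_c6 LD2_c44 LD3_c5) Lrfl Lrfl
theorem f62468 : Led Lsl_et (LP (LK LD1_c6 LD2_c44 LD3_c5)) = (LP (LK LD1_c6 LD2_c9 LD3_c47)) :=
  Lgr Lrot123 (Lpe (f62466 IH) (Lpr_ef (K5.f62455 IH) (Lpe (f62467 IH) (Lpn (LP (LK LD1_c6 LD2_c9 LD3_c47))))))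
theorem f143951 : Led Lsl_bf (LP (LK LD1_c6 LD2_c48 LD3_c12)) = (LP (LK LD1_c6 LD2_c9 LD3_c47)) :=
  Lgr Lrot96 (Lpr_et (f84462 IH) (Lpr_bt (f143944 IH) (Lpr_et (f62468 IH) (Lpn (LP (LK LD1_c6 LD2_c9 LD3_c47))))))
theorem f25635 : Led Lsl_bt (LP (LK LD1_c1 LD2_c37 LD3_c29)) = (LP (LK LD1_c3 LD2_c22 LD3_c25)) :=
  Lre_b IH (LK LD1_c1 LD2_c37 LD3_c29) (LK LD1_c3 LD2_c22 LD3_c25) Lrfl Lrfl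
theorem f84348 : Led Lsl_bt (LP (LK LD1_c3 LD2_c22 LD3_c16)) = (LP (LK LD1_c1 LD2_c37 LD3_c24)) :=
  Lre_b IH (LK LD1_c3 LD2_c22 LD3_c16) (LK LD1_c1 LD2_c37 LD3_c24) Lrfl Lrfl
theorem f84517 : Led Lsl_dt (LP (LK LD1_c3 LD2_c22 LD3_c25)) = (LP (LK LD1_c3 LD2_c22 LD3_c16)) :=
  Lgr Lrot79 (Lpe (f25635 IH) (Lpr_df (f84512 IH) (Lpe (f84348 IH) (Lpn (LP (LK LD1_c3 LD2_c22 LD3_c16))))))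
theorem f84528 : Led Lsl_at (LP (LK LD1_c6 LD2_c48 LD3_c37)) = (LP (LK LD1_c3 LD2_c22 LD3_c25)) :=
  Lre_a IH (LK LD1_c6 LD2_c48 LD3_c37) (LK LD1_c3 LD2_c22 LD3_c25) Lrfl Lrfl
theorem f84464 : Led Lsl_at (LP (LK LD1_c3 LD2_c22 LD3_c16)) = (LP (LK LD1_c6 LD2_c48 LD3_c12)) :=
  Lre_a IH (LK LD1_c3 LD2_c22 LD3_c16) (LK LD1_c6 LD2_c48 LD3_c12) Lrfl Lrfl
theorem f84529 : Led Lsl_df (LP (LK LD1_c6 LD2_c48 LD3_c37)) = (LP (LK LD1_c6 LD2_c48 LD3_c12)) :=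
  Lgr Lrot18 (Lpr_at (f84528 IH) (Lpr_dt (f84517 IH) (Lpr_at (f84464 IH) (Lpn (LP (LK LD1_c6 LD2_c48 LD3_c12))))))
theorem f86406 : Led Lsl_df (LP (LK LD1_c6 LD2_c9 LD3_c47)) = (LP (LK LD1_c9 LD2_c33 LD3_c5)) :=
  Lgr Lrot38 (Lpr_dt (f86393 IH) (Lpn (LP (LK LD1_c9 LD2_c33 LD3_c5))))
theorem f143970 : Led Lsl_bt (LP (LK LD1_c6 LD2_c48 LD3_c37)) = (LP (LK LD1_c9 LD2_c33 LD3_c5)) :=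
  Lgr Lrot95 (Lpr_df (f84529 IH) (Lpr_bf (f143951 IH) (Lpr_df (f86406 IH) (Lpn (LP (LK LD1_c9 LD2_c33 LD3_c5))))))
theorem f143972 : Led Lsl_bf (LP (LK LD1_c6 LD2_c48 LD3_c37)) = (LP (LK LD1_c9 LD2_c33 LD3_c5)) :=
  Lgr Lrot24 (Lpr_bt (f143970 IH) (Lpn (LP (LK LD1_c9 LD2_c33 LD3_c5))))
theorem f145854 : Led Lsl_ff (LP (LK LD1_c6 LD2_c49 LD3_c14)) = (LP (LK LD1_c6 LD2_c48 LD3_c37)) :=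
  Lgr Lrot25 (Lpr_bt (f135723 IH) (Lpr_ft (f145850 IH) (Lpe (f143972 IH) (Lpn (LP (LK LD1_c6 LD2_c48 LD3_c37))))))
theorem f84547 : Led Lsl_at (LP (LK LD1_c3 LD2_c22 LD3_c25)) = (LP (LK LD1_c6 LD2_c48 LD3_c37)) :=
  Lre_a IH (LK LD1_c3 LD2_c22 LD3_c25) (LK LD1_c6 LD2_c48 LD3_c37) Lrfl Lrfl
theorem f145858 : Led Lsl_ft (LP (LK LD1_c3 LD2_c22 LD3_c49)) = (LP (LK LD1_c3 LD2_c22 LD3_c25)) :=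
  Lgr Lrot101 (Lpe (f113214 IH) (Lpr_ff (f145854 IH) (Lpe (f84547 IH) (Lpn (LP (LK LD1_c3 LD2_c22 LD3_c25))))))
theorem f145948 : Led Lsl_ff (LP (LK LD1_c3 LD2_c22 LD3_c49)) = (LP (LK LD1_c3 LD2_c22 LD3_c25)) :=
  Lgr Lrot3 (Lpr_ft (f145858 IH) (Lpn (LP (LK LD1_c3 LD2_c22 LD3_c25))))
theorem f113224 : Led Lsl_ft (LP (LK LD1_c4 LD2_c48 LD3_c9)) = (LP (LK LD1_c9 LD2_c29 LD3_c7)) :=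
  Lre_f IH (LK LD1_c4 LD2_c48 LD3_c9) (LK LD1_c9 LD2_c29 LD3_c7) Lrfl Lrfl
theorem f84535 : Led Lsl_et (LP (LK LD1_c6 LD2_c48 LD3_c38)) = (LP (LK LD1_c3 LD2_c22 LD3_c25)) :=
  Lre_e IH (LK LD1_c6 LD2_c48 LD3_c38) (LK LD1_c3 LD2_c22 LD3_c25) Lrfl Lrfl
theorem f145954 : Led Lsl_ft (LP (LK LD1_c12 LD2_c59 LD3_c47)) = (LP (LK LD1_c6 LD2_c48 LD3_c38)) :=
  Lre_f IH (LK LD1_c12 LD2_c59 LD3_c47) (LK LD1_c6 LD2_c48 LD3_c38) Lrfl Lrfl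
theorem f145955 : Led Lsl_et (LP (LK LD1_c9 LD2_c29 LD3_c7)) = (LP (LK LD1_c12 LD2_c59 LD3_c47)) :=
  Lgr Lrot69 (Lpe (f113224 IH) (Lpe (f113207 IH) (Lpr_ff (f145948 IH) (Lpe (f84535 IH) (Lpe (f145954 IH) (Lpn (LP (LK LD1_c12 LD2_c59 LD3_c47))))))))
theorem f145959 : Led Lsl_bt (LP (LK LD1_c4 LD2_c48 LD3_c11)) = (LP (LK LD1_c9 LD2_c29 LD3_c7)) :=
  Lre_b IH (LK LD1_c4 LD2_c48 LD3_c11) (LK LD1_c9 LD2_c29 LD3_c7) Lrfl Lrfl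
theorem f145960 : Led Lsl_bt (LP (LK LD1_c12 LD2_c59 LD3_c47)) = (LP (LK LD1_c6 LD2_c48 LD3_c40)) :=
  Lre_b IH (LK LD1_c12 LD2_c59 LD3_c47) (LK LD1_c6 LD2_c48 LD3_c40) Lrfl Lrfl
theorem f145961 : Led Lsl_ef (LP (LK LD1_c4 LD2_c48 LD3_c11)) = (LP (LK LD1_c6 LD2_c48 LD3_c40)) :=
  Lgr Lrot29 (Lpr_bt (f145959 IH) (Lpr_et (f145955 IH) (Lpr_bt (f145960 IH) (Lpn (LP (LK LD1_c6 LD2_c48 LD3_c40))))))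
theorem f24706 : Led Lsl_et (LP (LK LD1_c3 LD2_c19 LD3_c40)) = (LP (LK LD1_c6 LD2_c43 LD3_c9)) :=
  Lre_e IH (LK LD1_c3 LD2_c19 LD3_c40) (LK LD1_c6 LD2_c43 LD3_c9) Lrfl Lrfl
theorem f145966 : Led Lsl_at (LP (LK LD1_c6 LD2_c43 LD3_c9)) = (LP (LK LD1_c6 LD2_c48 LD3_c40)) :=
  Lgr Lrot80 (Lpe (f24706 IH) (Lpe (f135677 IH) (Lpr_ef (f145961 IH) (Lpn (LP (LK LD1_c6 LD2_c48 LD3_c40))))))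
theorem f143920 : Led Lsl_ft (LP (LK LD1_c6 LD2_c48 LD3_c40)) = (LP (LK LD1_c3 LD2_c22 LD3_c26)) :=
  Lre_f IH (LK LD1_c6 LD2_c48 LD3_c40) (LK LD1_c3 LD2_c22 LD3_c26) Lrfl Lrfl
theorem f145983 : Led Lsl_ff (LP (LK LD1_c6 LD2_c43 LD3_c9)) = (LP (LK LD1_c4 LD2_c50 LD3_c24)) :=
  Lgr Lrot30 (Lpr_at (f145966 IH) (Lpr_ft (f143920 IH) (Lpr_at (f143910 IH) (Lpn (LP (LK LD1_c4 LD2_c50 LD3_c24))))))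
theorem f145993 : Led Lsl_ft (LP (LK LD1_c6 LD2_c43 LD3_c9)) = (LP (LK LD1_c4 LD2_c50 LD3_c24)) :=
  Lgr Lrot48 (Lpr_ff (f145983 IH) (Lpn (LP (LK LD1_c4 LD2_c50 LD3_c24))))
theorem f145980 : Led Lsl_ct (LP (LK LD1_c3 LD2_c19 LD3_c41)) = (LP (LK LD1_c6 LD2_c43 LD3_c9)) :=
  Lre_c IH (LK LD1_c3 LD2_c19 LD3_c41) (LK LD1_c6 LD2_c43 LD3_c9) Lrfl Lrfl
theorem f145997 : Led Lsl_ff (LP (LK LD1_c3 LD2_c19 LD3_c41)) = (LP (LK LD1_c2 LD2_c22 LD3_c61)) :=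
  Lgr Lrot23 (Lpr_ct (f145980 IH) (Lpr_ft (f145993 IH) (Lpr_ct (f86378 IH) (Lpn (LP (LK LD1_c2 LD2_c22 LD3_c61))))))
theorem f143906 : Led Lsl_at (LP (LK LD1_c1 LD2_c37 LD3_c30)) = (LP (LK LD1_c2 LD2_c22 LD3_c61)) :=
  Lgr Lrot100 (Lpr_af (f143904 IH) (Lpn (LP (LK LD1_c2 LD2_c22 LD3_c61))))
theorem f145999 : Led Lsl_ft (LP (LK LD1_c3 LD2_c22 LD3_c29)) = (LP (LK LD1_c1 LD2_c37 LD3_c30)) :=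
  Lre_f IH (LK LD1_c3 LD2_c22 LD3_c29) (LK LD1_c1 LD2_c37 LD3_c30) Lrfl Lrfl
theorem f146000 : Led Lsl_at (LP (LK LD1_c3 LD2_c19 LD3_c41)) = (LP (LK LD1_c3 LD2_c22 LD3_c29)) :=
  Lgr Lrot66 (Lpr_ff (f145997 IH) (Lpe (f143906 IH) (Lpe (f145999 IH) (Lpn (LP (LK LD1_c3 LD2_c22 LD3_c29))))))
theorem f24682 : Led Lsl_et (LP (LK LD1_c1 LD2_c36 LD3_c14)) = (LP (LK LD1_c3 LD2_c19 LD3_c41)) :=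
  Lre_e IH (LK LD1_c1 LD2_c36 LD3_c14) (LK LD1_c3 LD2_c19 LD3_c41) Lrfl Lrfl
theorem f146007 : Led Lsl_af (LP (LK LD1_c1 LD2_c36 LD3_c14)) = (LP (LK LD1_c2 LD2_c21 LD3_c61)) :=
  Lgr Lrot50 (Lpr_et (f24682 IH) (Lpr_at (f146000 IH) (Lpr_et (f143884 IH) (Lpn (LP (LK LD1_c2 LD2_c21 LD3_c61))))))
theorem f139842 : Led Lsl_dt (LP (LK LD1_c1 LD2_c36 LD3_c14)) = (LP (LK LD1_c0 LD2_c44 LD3_c36)) :=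
  Lre_d IH (LK LD1_c1 LD2_c36 LD3_c14) (LK LD1_c0 LD2_c44 LD3_c36) Lrfl Lrfl
theorem f92219 : Led Lsl_dt (LP (LK LD1_c1 LD2_c8 LD3_c9)) = (LP (LK LD1_c2 LD2_c21 LD3_c61)) :=
  Lre_d IH (LK LD1_c1 LD2_c8 LD3_c9) (LK LD1_c2 LD2_c21 LD3_c61) Lrfl Lrfl
theorem f146009 : Led Lsl_at (LP (LK LD1_c0 LD2_c44 LD3_c36)) = (LP (LK LD1_c1 LD2_c8 LD3_c9)) :=
  Lgr Lrot51 (Lpe (f139842 IH) (Lpr_af (f146007 IH) (Lpe (f92219 IH) (Lpn (LP (LK LD1_c1 LD2_c8 LD3_c9))))))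
theorem f146014 : Led Lsl_af (LP (LK LD1_c0 LD2_c44 LD3_c36)) = (LP (LK LD1_c1 LD2_c8 LD3_c9)) :=
  Lgr Lrot0 (Lpr_at (f146009 IH) (Lpn (LP (LK LD1_c1 LD2_c8 LD3_c9))))
theorem f92139 : Led Lsl_et (LP (LK LD1_c0 LD2_c31 LD3_c13)) = (LP (LK LD1_c0 LD2_c13 LD3_c51)) :=
  Lre_e IH (LK LD1_c0 LD2_c31 LD3_c13) (LK LD1_c0 LD2_c13 LD3_c51) Lrfl Lrfl
theorem f92159 : Led Lsl_ft (LP (LK LD1_c1 LD2_c8 LD3_c9)) = (LP (LK LD1_c0 LD2_c31 LD3_c13)) :=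
  Lre_f IH (LK LD1_c1 LD2_c8 LD3_c9) (LK LD1_c0 LD2_c31 LD3_c13) Lrfl Lrfl
theorem f57195 : Led Lsl_ft (LP (LK LD1_c0 LD2_c19 LD3_c52)) = (LP (LK LD1_c0 LD2_c44 LD3_c43)) :=
  Lre_f IH (LK LD1_c0 LD2_c19 LD3_c52) (LK LD1_c0 LD2_c44 LD3_c43) Lrfl Lrfl
theorem f143078 : Led Lsl_ef (LP (LK LD1_c1 LD2_c8 LD3_c9)) = (LP (LK LD1_c0 LD2_c44 LD3_c43)) :=
  Lgr Lrot21 (Lpr_ft (f92159 IH) (Lpr_et (f92139 IH) (Lpr_ft (f143074 IH) (Lpr_et (K1.f56743 IH) (Lpr_ft (f57195 IH) (Lpn (LP (LK LD1_c0 LD2_c44 LD3_c43))))))))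
theorem f57177 : Led Lsl_dt (LP (LK LD1_c0 LD2_c44 LD3_c43)) = (LP (LK LD1_c1 LD2_c36 LD3_c31)) :=
  Lre_d IH (LK LD1_c0 LD2_c44 LD3_c43) (LK LD1_c1 LD2_c36 LD3_c31) Lrfl Lrfl
theorem f135392 : Led Lsl_dt (LP (LK LD1_c2 LD2_c22 LD3_c14)) = (LP (LK LD1_c1 LD2_c8 LD3_c16)) :=
  Lre_d IH (LK LD1_c2 LD2_c22 LD3_c14) (LK LD1_c1 LD2_c8 LD3_c16) Lrfl Lrfl
theorem f135411 : Led Lsl_af (LP (LK LD1_c0 LD2_c44 LD3_c43)) = (LP (LK LD1_c1 LD2_c8 LD3_c16)) :=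
  Lgr Lrot117 (Lpr_dt (f57177 IH) (Lpr_at (f135408 IH) (Lpr_dt (f135392 IH) (Lpn (LP (LK LD1_c1 LD2_c8 LD3_c16))))))
theorem f146053 : Led Lsl_et (LP (LK LD1_c0 LD2_c44 LD3_c36)) = (LP (LK LD1_c1 LD2_c8 LD3_c16)) :=
  Lgr Lrot123 (Lpr_af (f146014 IH) (Lpr_ef (f143078 IH) (Lpr_af (f135411 IH) (Lpn (LP (LK LD1_c1 LD2_c8 LD3_c16))))))
theorem f146064 : Led Lsl_ef (LP (LK LD1_c0 LD2_c44 LD3_c36)) = (LP (LK LD1_c1 LD2_c8 LD3_c16)) :=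
  Lgr Lrot88 (Lpr_et (f146053 IH) (Lpn (LP (LK LD1_c1 LD2_c8 LD3_c16))))
theorem f135703 : Led Lsl_dt (LP (LK LD1_c0 LD2_c44 LD3_c36)) = (LP (LK LD1_c1 LD2_c36 LD3_c14)) :=
  Lre_d IH (LK LD1_c0 LD2_c44 LD3_c36) (LK LD1_c1 LD2_c36 LD3_c14) Lrfl Lrfl
theorem f84345 : Led Lsl_et (LP (LK LD1_c4 LD2_c48 LD3_c41)) = (LP (LK LD1_c2 LD2_c22 LD3_c14)) :=
  Lre_e IH (LK LD1_c4 LD2_c48 LD3_c41) (LK LD1_c2 LD2_c22 LD3_c14) Lrfl Lrfl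
theorem f146074 : Led Lsl_dt (LP (LK LD1_c3 LD2_c19 LD3_c41)) = (LP (LK LD1_c4 LD2_c48 LD3_c41)) :=
  Lgr Lrot77 (Lpe (f24682 IH) (Lpe (f135703 IH) (Lpr_ef (f146064 IH) (Lpe (f135392 IH) (Lpe (f84345 IH) (Lpn (LP (LK LD1_c4 LD2_c48 LD3_c41))))))))
theorem f23831 : Led Lsl_et (LP (LK LD1_c1 LD2_c8 LD3_c35)) = (LP (LK LD1_c2 LD2_c22 LD3_c58)) :=
  Lre_e IH (LK LD1_c1 LD2_c8 LD3_c35) (LK LD1_c2 LD2_c22 LD3_c58) Lrfl Lrfl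
theorem f143023 : Led Lsl_dt (LP (LK LD1_c1 LD2_c8 LD3_c36)) = (LP (LK LD1_c0 LD2_c40 LD3_c1)) :=
  Lgr Lrot42 (Lpr_df (f143019 IH) (Lpn (LP (LK LD1_c0 LD2_c40 LD3_c1))))
theorem f62602 : Led Lsl_et (LP (LK LD1_c2 LD2_c22 LD3_c61)) = (LP (LK LD1_c1 LD2_c8 LD3_c36)) :=
  Lre_e IH (LK LD1_c2 LD2_c22 LD3_c61) (LK LD1_c1 LD2_c8 LD3_c36) Lrfl Lrfl
theorem f143036 : Led Lsl_dt (LP (LK LD1_c2 LD2_c22 LD3_c58)) = (LP (LK LD1_c2 LD2_c22 LD3_c61)) :=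
  Lgr Lrot77 (Lpe (f23831 IH) (Lpe (f24982 IH) (Lpr_ef (f143032 IH) (Lpe (f143023 IH) (Lpe (f62602 IH) (Lpn (LP (LK LD1_c2 LD2_c22 LD3_c61))))))))
theorem f146077 : Led Lsl_ff (LP (LK LD1_c2 LD2_c22 LD3_c58)) = (LP (LK LD1_c4 LD2_c48 LD3_c41)) :=
  Lgr Lrot19 (Lpr_dt (f143036 IH) (Lpe (f145997 IH) (Lpr_dt (f146074 IH) (Lpn (LP (LK LD1_c4 LD2_c48 LD3_c41))))))
theorem f146085 : Led Lsl_ft (LP (LK LD1_c2 LD2_c22 LD3_c58)) = (LP (LK LD1_c4 LD2_c48 LD3_c41)) :=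
  Lgr Lrot48 (Lpr_ff (f146077 IH) (Lpn (LP (LK LD1_c4 LD2_c48 LD3_c41))))
theorem f24695 : Led Lsl_et (LP (LK LD1_c3 LD2_c19 LD3_c41)) = (LP (LK LD1_c1 LD2_c36 LD3_c14)) :=
  Lre_e IH (LK LD1_c3 LD2_c19 LD3_c41) (LK LD1_c1 LD2_c36 LD3_c14) Lrfl Lrfl
theorem f135390 : Led Lsl_dt (LP (LK LD1_c1 LD2_c8 LD3_c16)) = (LP (LK LD1_c2 LD2_c22 LD3_c14)) :=
  Lre_d IH (LK LD1_c1 LD2_c8 LD3_c16) (LK LD1_c2 LD2_c22 LD3_c14) Lrfl Lrfl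
theorem f146062 : Led Lsl_df (LP (LK LD1_c3 LD2_c19 LD3_c41)) = (LP (LK LD1_c4 LD2_c48 LD3_c41)) :=
  Lgr Lrot70 (Lpr_et (f24695 IH) (Lpr_dt (f139842 IH) (Lpr_et (f146053 IH) (Lpr_dt (f135390 IH) (Lpr_et (f84625 IH) (Lpn (LP (LK LD1_c4 LD2_c48 LD3_c41))))))))
theorem f145988 : Led Lsl_ct (LP (LK LD1_c6 LD2_c43 LD3_c9)) = (LP (LK LD1_c3 LD2_c19 LD3_c41)) :=
  Lre_c IH (LK LD1_c6 LD2_c43 LD3_c9) (LK LD1_c3 LD2_c19 LD3_c41) Lrfl Lrfl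
theorem f86381 : Led Lsl_ct (LP (LK LD1_c2 LD2_c22 LD3_c61)) = (LP (LK LD1_c4 LD2_c50 LD3_c24)) :=
  Lre_c IH (LK LD1_c2 LD2_c22 LD3_c61) (LK LD1_c4 LD2_c50 LD3_c24) Lrfl Lrfl
theorem f145989 : Led Lsl_ft (LP (LK LD1_c3 LD2_c19 LD3_c41)) = (LP (LK LD1_c2 LD2_c22 LD3_c61)) :=
  Lgr Lrot4 (Lpe (f145988 IH) (Lpr_ff (f145983 IH) (Lpe (f86381 IH) (Lpn (LP (LK LD1_c2 LD2_c22 LD3_c61))))))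
theorem f146094 : Led Lsl_df (LP (LK LD1_c2 LD2_c22 LD3_c58)) = (LP (LK LD1_c2 LD2_c22 LD3_c61)) :=
  Lgr Lrot78 (Lpr_ft (f146085 IH) (Lpe (f146062 IH) (Lpr_ft (f145989 IH) (Lpn (LP (LK LD1_c2 LD2_c22 LD3_c61))))))
theorem f135257 : Led Lsl_ct (LP (LK LD1_c3 LD2_c20 LD3_c14)) = (LP (LK LD1_c6 LD2_c44 LD3_c12)) :=
  Lre_c IH (LK LD1_c3 LD2_c20 LD3_c14) (LK LD1_c6 LD2_c44 LD3_c12) Lrfl Lrfl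
theorem f57679 : Led Lsl_ct (LP (LK LD1_c3 LD2_c22 LD3_c21)) = (LP (LK LD1_c1 LD2_c37 LD3_c27)) :=
  Lre_c IH (LK LD1_c3 LD2_c22 LD3_c21) (LK LD1_c1 LD2_c37 LD3_c27) Lrfl Lrfl
theorem f135261 : Led Lsl_ff (LP (LK LD1_c3 LD2_c20 LD3_c14)) = (LP (LK LD1_c1 LD2_c37 LD3_c27)) :=
  Lgr Lrot23 (Lpr_ct (f135257 IH) (Lpr_ft (K5.f135245 IH) (Lpr_ct (f57679 IH) (Lpn (LP (LK LD1_c1 LD2_c37 LD3_c27))))))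
theorem f146079 : Led Lsl_at (LP (LK LD1_c2 LD2_c22 LD3_c58)) = (LP (LK LD1_c1 LD2_c37 LD3_c27)) :=
  Lgr Lrot66 (Lpr_ff (f146077 IH) (Lpe (f135398 IH) (Lpr_ff (f135261 IH) (Lpn (LP (LK LD1_c1 LD2_c37 LD3_c27))))))
theorem f146098 : Led Lsl_dt (LP (LK LD1_c1 LD2_c37 LD3_c27)) = (LP (LK LD1_c1 LD2_c37 LD3_c30)) :=
  Lgr Lrot44 (Lpe (f146079 IH) (Lpr_df (f146094 IH) (Lpe (f143906 IH) (Lpn (LP (LK LD1_c1 LD2_c37 LD3_c30))))))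
theorem f146116 : Led Lsl_df (LP (LK LD1_c1 LD2_c37 LD3_c27)) = (LP (LK LD1_c1 LD2_c37 LD3_c30)) :=
  Lgr Lrot38 (Lpr_dt (f146098 IH) (Lpn (LP (LK LD1_c1 LD2_c37 LD3_c30))))
theorem f146125 : Led Lsl_at (LP (LK LD1_c1 LD2_c37 LD3_c27)) = (LP (LK LD1_c2 LD2_c22 LD3_c58)) :=
  Lgr Lrot51 (Lpr_df (f146116 IH) (Lpr_af (f143904 IH) (Lpe (f143036 IH) (Lpn (LP (LK LD1_c2 LD2_c22 LD3_c58))))))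
theorem f146181 : Led Lsl_ff (LP (LK LD1_c1 LD2_c37 LD3_c27)) = (LP (LK LD1_c3 LD2_c20 LD3_c14)) :=
  Lgr Lrot30 (Lpr_at (f146125 IH) (Lpr_ft (f146085 IH) (Lpe (f135400 IH) (Lpn (LP (LK LD1_c3 LD2_c20 LD3_c14))))))
theorem f146122 : Led Lsl_et (LP (LK LD1_c1 LD2_c37 LD3_c27)) = (LP (LK LD1_c0 LD2_c45 LD3_c5)) :=
  Lre_e IH (LK LD1_c1 LD2_c37 LD3_c27) (LK LD1_c0 LD2_c45 LD3_c5) Lrfl Lrfl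
theorem f62597 : Led Lsl_et (LP (LK LD1_c1 LD2_c36 LD3_c31)) = (LP (LK LD1_c3 LD2_c20 LD3_c14)) :=
  Lre_e IH (LK LD1_c1 LD2_c36 LD3_c31) (LK LD1_c3 LD2_c20 LD3_c14) Lrfl Lrfl
theorem f62355 : Led Lsl_bt (LP (LK LD1_c0 LD2_c44 LD3_c42)) = (LP (LK LD1_c1 LD2_c36 LD3_c22)) :=
  Lre_b IH (LK LD1_c0 LD2_c44 LD3_c42) (LK LD1_c1 LD2_c36 LD3_c22) Lrfl Lrfl
theorem f62356 : Led Lsl_bt (LP (LK LD1_c1 LD2_c26 LD3_c37)) = (LP (LK LD1_c0 LD2_c40 LD3_c6)) :=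
  Lre_b IH (LK LD1_c1 LD2_c26 LD3_c37) (LK LD1_c0 LD2_c40 LD3_c6) Lrfl Lrfl
theorem f62357 : Led Lsl_ef (LP (LK LD1_c0 LD2_c44 LD3_c42)) = (LP (LK LD1_c0 LD2_c40 LD3_c6)) :=
  Lgr Lrot29 (Lpr_bt (f62355 IH) (Lpr_et (K5.f62346 IH) (Lpr_bt (f62356 IH) (Lpn (LP (LK LD1_c0 LD2_c40 LD3_c6))))))
theorem f146189 : Led Lsl_ft (LP (LK LD1_c0 LD2_c45 LD3_c5)) = (LP (LK LD1_c0 LD2_c40 LD3_c6)) :=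
  Lgr Lrot86 (Lpe (f146122 IH) (Lpr_ff (f146181 IH) (Lpe (f62597 IH) (Lpe (f57127 IH) (Lpr_ef (f62357 IH) (Lpn (LP (LK LD1_c0 LD2_c40 LD3_c6))))))))
theorem f146194 : Led Lsl_ff (LP (LK LD1_c0 LD2_c19 LD3_c60)) = (LP (LK LD1_c0 LD2_c17 LD3_c60)) :=
  Lgr Lrot19 (Lpr_dt (K5.f25745 IH) (Lpr_ft (f146189 IH) (Lpr_dt (f57536 IH) (Lpn (LP (LK LD1_c0 LD2_c17 LD3_c60))))))
theorem f146203 : Led Lsl_ft (LP (LK LD1_c0 LD2_c19 LD3_c60)) = (LP (LK LD1_c0 LD2_c17 LD3_c60)) :=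
  Lgr Lrot48 (Lpr_ff (f146194 IH) (Lpn (LP (LK LD1_c0 LD2_c17 LD3_c60))))
theorem f20902 : Led Lsl_ft (LP (LK LD1_c0 LD2_c16 LD3_c51)) = (LP (LK LD1_c0 LD2_c37 LD3_c46)) :=
  Lre_f IH (LK LD1_c0 LD2_c16 LD3_c51) (LK LD1_c0 LD2_c37 LD3_c46) Lrfl Lrfl
theorem f146209 : Led Lsl_cf (LP (LK LD1_c0 LD2_c19 LD3_c60)) = (LP (LK LD1_c0 LD2_c37 LD3_c46)) :=
  Lgr Lrot108 (Lpr_ft (f146203 IH) (Lpe (K3.f57560 IH) (Lpr_ft (f20902 IH) (Lpn (LP (LK LD1_c0 LD2_c37 LD3_c46))))))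
theorem f19999 : Led Lsl_bt (LP (LK LD1_c0 LD2_c2 LD3_c9)) = (LP (LK LD1_c0 LD2_c2 LD3_c9)) :=
  Lgr Lrot35 (Lpe (K0.f9971 IH) (Lpr_bf (K0.f19757 IH) (Lpe (K0.f9952 IH) (Lpn (LP (LK LD1_c0 LD2_c2 LD3_c9))))))
theorem f146215 : Led Lsl_gt (LP (LK LD1_c0 LD2_c20 LD3_c3)) = (LP (LK LD1_c0 LD2_c37 LD3_c46)) :=
  Lgr Lrot82 (Lpe (K0.f7334 IH) (Lpr_ct (K0.f11911 IH) (Lpe (K0.f11497 IH) (Lpe (K0.f9944 IH) (Lpr_bt (f19999 IH) (Lpe (K0.f10001 IH) (Lpe (K0.f7413 IH) (Lpr_ct (K0.f7434 IH) (Lpe (K5.f7443 IH) (Lpr_cf (f146209 IH) (Lpn (LP (LK LD1_c0 LD2_c37 LD3_c46)))))))))))))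
theorem f146213 : Led Lsl_gf (LP (LK LD1_c0 LD2_c20 LD3_c2)) = (LP (LK LD1_c0 LD2_c37 LD3_c46)) :=
  Lgr Lrot144 (Lpr_dt (K0.f7302 IH) (Lpr_gt (K0.f9686 IH) (Lpe (K1.f20006 IH) (Lpr_cf (f21030 IH) (Lpe (K5.f21037 IH) (Lpr_gf (K2.f25411 IH) (Lpe (K2.f7435 IH) (Lpe (K5.f7443 IH) (Lpr_cf (f146209 IH) (Lpn (LP (LK LD1_c0 LD2_c37 LD3_c46))))))))))))
theorem f20911 : Led Lsl_ft (LP (LK LD1_c0 LD2_c20 LD3_c9)) = (LP (LK LD1_c0 LD2_c9 LD3_c4)) :=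
  Lre_f IH (LK LD1_c0 LD2_c20 LD3_c9) (LK LD1_c0 LD2_c9 LD3_c4) Lrfl Lrfl
theorem f20912 : Led Lsl_df (LP (LK LD1_c0 LD2_c20 LD3_c9)) = (LP (LK LD1_c0 LD2_c37 LD3_c46)) :=
  Lgr Lrot78 (Lpr_ft (f20911 IH) (Lpr_dt (K1.f20903 IH) (Lpr_ft (f20902 IH) (Lpn (LP (LK LD1_c0 LD2_c37 LD3_c46))))))
theorem f20915 : Led Lsl_dt (LP (LK LD1_c0 LD2_c20 LD3_c9)) = (LP (LK LD1_c0 LD2_c37 LD3_c46)) :=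
  Lgr Lrot42 (Lpr_df (f20912 IH) (Lpn (LP (LK LD1_c0 LD2_c37 LD3_c46))))
theorem f146222 : Led Lsl_ef (LP (LK LD1_c0 LD2_c37 LD3_c46)) = (LP (LK LD1_c0 LD2_c20 LD3_c9)) :=
  Lgr Lrot114 (Lpe (f146213 IH) (Lpe (K0.f7299 IH) (Lpr_dt (K0.f7300 IH) (Lpr_gt (K0.f7304 IH) (Lpe (K0.f7368 IH) (Lpr_et (K0.f9685 IH) (Lpe (K0.f9689 IH) (Lpr_dt (K0.f7326 IH) (Lpr_gt (f146215 IH) (Lpe (f20915 IH) (Lpn (LP (LK LD1_c0 LD2_c20 LD3_c9)))))))))))))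
theorem f20917 : Led Lsl_ft (LP (LK LD1_c0 LD2_c37 LD3_c46)) = (LP (LK LD1_c0 LD2_c16 LD3_c51)) :=
  Lre_f IH (LK LD1_c0 LD2_c37 LD3_c46) (LK LD1_c0 LD2_c16 LD3_c51) Lrfl Lrfl
theorem f146224 : Led Lsl_ft (LP (LK LD1_c0 LD2_c7 LD3_c30)) = (LP (LK LD1_c0 LD2_c4 LD3_c10)) :=
  Lgr Lrot86 (Lpe (K1.f20910 IH) (Lpe (f20917 IH) (Lpr_ef (f146222 IH) (Lpe (f20914 IH) (Lpe (K1.f7377 IH) (Lpn (LP (LK LD1_c0 LD2_c4 LD3_c10))))))))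
theorem f146228 : Led Lsl_ff (LP (LK LD1_c0 LD2_c3 LD3_c22)) = (LP (LK LD1_c0 LD2_c1 LD3_c51)) :=
  Lgr Lrot19 (Lpr_dt (K0.f20880 IH) (Lpr_ft (f146224 IH) (Lpr_dt (K0.f7376 IH) (Lpn (LP (LK LD1_c0 LD2_c1 LD3_c51))))))
theorem f146234 : Led Lsl_at (LP (LK LD1_c0 LD2_c3 LD3_c22)) = (LP (LK LD1_c0 LD2_c1 LD3_c52)) :=
  Lgr Lrot26 (Lpr_ff (f146228 IH) (Lpr_gt (K0.f7307 IH) (Lpr_gt (K0.f7304 IH) (Lpn (LP (LK LD1_c0 LD2_c1 LD3_c52))))))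
theorem f146242 : Led Lsl_af (LP (LK LD1_c0 LD2_c1 LD3_c51)) = (LP (LK LD1_c0 LD2_c1 LD3_c59)) :=
  Lgr Lrot50 (Lpr_et (K0.f20876 IH) (Lpr_at (f146234 IH) (Lpe (K0.f20025 IH) (Lpn (LP (LK LD1_c0 LD2_c1 LD3_c59))))))
theorem f146244 : Led Lsl_ff (LP (LK LD1_c0 LD2_c1 LD3_c59)) = (LP (LK LD1_c0 LD2_c1 LD3_c52)) :=
  Lgr Lrot30 (Lpe (f146242 IH) (Lpe (f146228 IH) (Lpr_at (f146234 IH) (Lpn (LP (LK LD1_c0 LD2_c1 LD3_c52))))))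
theorem f146248 : Led Lsl_ft (LP (LK LD1_c0 LD2_c1 LD3_c59)) = (LP (LK LD1_c0 LD2_c1 LD3_c52)) :=
  Lgr Lrot48 (Lpr_ff (f146244 IH) (Lpn (LP (LK LD1_c0 LD2_c1 LD3_c52))))
theorem f146252 : Led Lsl_ff (LP (LK LD1_c0 LD2_c1 LD3_c22)) = (LP (LK LD1_c0 LD2_c2 LD3_c39)) :=
  Lgr Lrot23 (Lpe (K0.f20259 IH) (Lpr_ft (f146248 IH) (Lpr_ct (K0.f13595 IH) (Lpn (LP (LK LD1_c0 LD2_c2 LD3_c39))))))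
theorem f146256 : Led Lsl_at (LP (LK LD1_c0 LD2_c1 LD3_c22)) = (LP (LK LD1_c0 LD2_c2 LD3_c38)) :=
  Lgr Lrot26 (Lpr_ff (f146252 IH) (Lpr_gt (K0.f7006 IH) (Lpr_gt (K0.f7005 IH) (Lpn (LP (LK LD1_c0 LD2_c2 LD3_c38))))))
theorem f146264 : Led Lsl_af (LP (LK LD1_c0 LD2_c2 LD3_c39)) = (LP (LK LD1_c0 LD2_c1 LD3_c23)) :=
  Lgr Lrot50 (Lpe (K0.f20436 IH) (Lpr_at (f146256 IH) (Lpe (K0.f21196 IH) (Lpn (LP (LK LD1_c0 LD2_c1 LD3_c23))))))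
theorem f146266 : Led Lsl_ff (LP (LK LD1_c0 LD2_c1 LD3_c23)) = (LP (LK LD1_c0 LD2_c2 LD3_c38)) :=
  Lgr Lrot30 (Lpe (f146264 IH) (Lpe (f146252 IH) (Lpr_at (f146256 IH) (Lpn (LP (LK LD1_c0 LD2_c2 LD3_c38))))))
theorem f146270 : Led Lsl_ft (LP (LK LD1_c0 LD2_c3 LD3_c23)) = (LP (LK LD1_c0 LD2_c5 LD3_c53)) :=
  Lgr Lrot54 (Lpe (K0.f16655 IH) (Lpr_ff (f146266 IH) (Lpe (K0.f20046 IH) (Lpn (LP (LK LD1_c0 LD2_c5 LD3_c53))))))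
theorem f146280 : Led Lsl_ff (LP (LK LD1_c0 LD2_c3 LD3_c23)) = (LP (LK LD1_c0 LD2_c5 LD3_c53)) :=
  Lgr Lrot3 (Lpr_ft (f146270 IH) (Lpn (LP (LK LD1_c0 LD2_c5 LD3_c53))))
theorem f146288 : Led Lsl_at (LP (LK LD1_c0 LD2_c3 LD3_c23)) = (LP (LK LD1_c0 LD2_c5 LD3_c54)) :=
  Lgr Lrot26 (Lpr_ff (f146280 IH) (Lpr_gt (K0.f20964 IH) (Lpe (K0.f20182 IH) (Lpn (LP (LK LD1_c0 LD2_c5 LD3_c54))))))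
theorem f21188 : Led Lsl_et (LP (LK LD1_c0 LD2_c7 LD3_c32)) = (LP (LK LD1_c0 LD2_c3 LD3_c23)) :=
  Lre_e IH (LK LD1_c0 LD2_c7 LD3_c32) (LK LD1_c0 LD2_c3 LD3_c23) Lrfl Lrfl
theorem f20476 : Led Lsl_et (LP (LK LD1_c0 LD2_c5 LD3_c54)) = (LP (LK LD1_c0 LD2_c12 LD3_c57)) :=
  Lre_e IH (LK LD1_c0 LD2_c5 LD3_c54) (LK LD1_c0 LD2_c12 LD3_c57) Lrfl Lrfl
theorem f146294 : Led Lsl_af (LP (LK LD1_c0 LD2_c7 LD3_c32)) = (LP (LK LD1_c0 LD2_c12 LD3_c57)) :=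
  Lgr Lrot50 (Lpr_et (f21188 IH) (Lpr_at (f146288 IH) (Lpr_et (f20476 IH) (Lpn (LP (LK LD1_c0 LD2_c12 LD3_c57))))))
theorem f21200 : Led Lsl_et (LP (LK LD1_c0 LD2_c3 LD3_c23)) = (LP (LK LD1_c0 LD2_c7 LD3_c32)) :=
  Lre_e IH (LK LD1_c0 LD2_c3 LD3_c23) (LK LD1_c0 LD2_c7 LD3_c32) Lrfl Lrfl
theorem f21201 : Led Lsl_et (LP (LK LD1_c0 LD2_c12 LD3_c55)) = (LP (LK LD1_c0 LD2_c5 LD3_c53)) :=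
  Lre_e IH (LK LD1_c0 LD2_c12 LD3_c55) (LK LD1_c0 LD2_c5 LD3_c53) Lrfl Lrfl
theorem f21202 : Led Lsl_dt (LP (LK LD1_c0 LD2_c7 LD3_c32)) = (LP (LK LD1_c0 LD2_c12 LD3_c55)) :=
  Lgr Lrot77 (Lpe (f21200 IH) (Lpe (K0.f16655 IH) (Lpr_ef (K0.f21196 IH) (Lpe (K0.f20046 IH) (Lpe (f21201 IH) (Lpn (LP (LK LD1_c0 LD2_c12 LD3_c55))))))))
theorem f20441 : Led Lsl_et (LP (LK LD1_c0 LD2_c3 LD3_c20)) = (LP (LK LD1_c0 LD2_c7 LD3_c27)) :=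
  Lre_e IH (LK LD1_c0 LD2_c3 LD3_c20) (LK LD1_c0 LD2_c7 LD3_c27) Lrfl Lrfl
theorem f20217 : Led Lsl_et (LP (LK LD1_c0 LD2_c12 LD3_c57)) = (LP (LK LD1_c0 LD2_c5 LD3_c54)) :=
  Lre_e IH (LK LD1_c0 LD2_c12 LD3_c57) (LK LD1_c0 LD2_c5 LD3_c54) Lrfl Lrfl
theorem f20442 : Led Lsl_dt (LP (LK LD1_c0 LD2_c7 LD3_c27)) = (LP (LK LD1_c0 LD2_c12 LD3_c57)) :=
  Lgr Lrot77 (Lpe (f20441 IH) (Lpe (K0.f13443 IH) (Lpr_ef (K0.f20436 IH) (Lpe (K0.f20181 IH) (Lpe (f20217 IH) (Lpn (LP (LK LD1_c0 LD2_c12 LD3_c57))))))))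
theorem f146299 : Led Lsl_at (LP (LK LD1_c0 LD2_c12 LD3_c55)) = (LP (LK LD1_c0 LD2_c7 LD3_c27)) :=
  Lgr Lrot51 (Lpe (f21202 IH) (Lpr_af (f146294 IH) (Lpe (f20442 IH) (Lpn (LP (LK LD1_c0 LD2_c7 LD3_c27))))))
theorem f146285 : Led Lsl_ft (LP (LK LD1_c0 LD2_c29 LD3_c17)) = (LP (LK LD1_c0 LD2_c12 LD3_c55)) :=
  Lre_f IH (LK LD1_c0 LD2_c29 LD3_c17) (LK LD1_c0 LD2_c12 LD3_c55) Lrfl Lrfl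
theorem f146323 : Led Lsl_ft (LP (LK LD1_c0 LD2_c7 LD3_c27)) = (LP (LK LD1_c0 LD2_c16 LD3_c46)) :=
  Lre_f IH (LK LD1_c0 LD2_c7 LD3_c27) (LK LD1_c0 LD2_c16 LD3_c46) Lrfl Lrfl
theorem f146324 : Led Lsl_af (LP (LK LD1_c0 LD2_c29 LD3_c17)) = (LP (LK LD1_c0 LD2_c16 LD3_c46)) :=
  Lgr Lrot45 (Lpr_ft (f146285 IH) (Lpr_at (f146299 IH) (Lpr_ft (f146323 IH) (Lpn (LP (LK LD1_c0 LD2_c16 LD3_c46))))))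
theorem f146276 : Led Lsl_ft (LP (LK LD1_c0 LD2_c16 LD3_c56)) = (LP (LK LD1_c0 LD2_c7 LD3_c32)) :=
  Lre_f IH (LK LD1_c0 LD2_c16 LD3_c56) (LK LD1_c0 LD2_c7 LD3_c32) Lrfl Lrfl
theorem f20768 : Led Lsl_et (LP (LK LD1_c0 LD2_c5 LD3_c53)) = (LP (LK LD1_c0 LD2_c12 LD3_c55)) :=
  Lre_e IH (LK LD1_c0 LD2_c5 LD3_c53) (LK LD1_c0 LD2_c12 LD3_c55) Lrfl Lrfl
theorem f146277 : Led Lsl_ft (LP (LK LD1_c0 LD2_c12 LD3_c55)) = (LP (LK LD1_c0 LD2_c29 LD3_c17)) :=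
  Lre_f IH (LK LD1_c0 LD2_c12 LD3_c55) (LK LD1_c0 LD2_c29 LD3_c17) Lrfl Lrfl
theorem f146278 : Led Lsl_ef (LP (LK LD1_c0 LD2_c16 LD3_c56)) = (LP (LK LD1_c0 LD2_c29 LD3_c17)) :=
  Lgr Lrot21 (Lpr_ft (f146276 IH) (Lpr_et (f21188 IH) (Lpr_ft (f146270 IH) (Lpr_et (f20768 IH) (Lpr_ft (f146277 IH) (Lpn (LP (LK LD1_c0 LD2_c29 LD3_c17))))))))
theorem f146284 : Led Lsl_ft (LP (LK LD1_c0 LD2_c7 LD3_c32)) = (LP (LK LD1_c0 LD2_c16 LD3_c56)) :=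
  Lre_f IH (LK LD1_c0 LD2_c7 LD3_c32) (LK LD1_c0 LD2_c16 LD3_c56) Lrfl Lrfl
theorem f146301 : Led Lsl_ft (LP (LK LD1_c0 LD2_c29 LD3_c23)) = (LP (LK LD1_c0 LD2_c12 LD3_c57)) :=
  Lre_f IH (LK LD1_c0 LD2_c29 LD3_c23) (LK LD1_c0 LD2_c12 LD3_c57) Lrfl Lrfl
theorem f146302 : Led Lsl_at (LP (LK LD1_c0 LD2_c16 LD3_c56)) = (LP (LK LD1_c0 LD2_c29 LD3_c23)) :=
  Lgr Lrot66 (Lpe (f146284 IH) (Lpr_af (f146294 IH) (Lpe (f146301 IH) (Lpn (LP (LK LD1_c0 LD2_c29 LD3_c23))))))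
theorem f146344 : Led Lsl_et (LP (LK LD1_c0 LD2_c29 LD3_c23)) = (LP (LK LD1_c0 LD2_c16 LD3_c46)) :=
  Lgr Lrot123 (Lpe (f146302 IH) (Lpr_ef (f146278 IH) (Lpr_af (f146324 IH) (Lpn (LP (LK LD1_c0 LD2_c16 LD3_c46))))))
theorem f146358 : Led Lsl_ef (LP (LK LD1_c0 LD2_c29 LD3_c23)) = (LP (LK LD1_c0 LD2_c16 LD3_c46)) :=
  Lgr Lrot88 (Lpr_et (f146344 IH) (Lpn (LP (LK LD1_c0 LD2_c16 LD3_c46))))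
theorem f146361 : Led Lsl_ft (LP (LK LD1_c0 LD2_c5 LD3_c54)) = (LP (LK LD1_c0 LD2_c3 LD3_c20)) :=
  Lgr Lrot86 (Lpe (f20217 IH) (Lpe (f146301 IH) (Lpr_ef (f146358 IH) (Lpe (f146323 IH) (Lpe (f20441 IH) (Lpn (LP (LK LD1_c0 LD2_c3 LD3_c20))))))))
theorem f146363 : Led Lsl_ff (LP (LK LD1_c0 LD2_c12 LD3_c56)) = (LP (LK LD1_c0 LD2_c7 LD3_c26)) :=
  Lgr Lrot23 (Lpr_ct (K1.f20206 IH) (Lpr_ft (f146361 IH) (Lpr_ct (K1.f13444 IH) (Lpn (LP (LK LD1_c0 LD2_c7 LD3_c26))))))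
theorem f146368 : Led Lsl_ft (LP (LK LD1_c0 LD2_c12 LD3_c56)) = (LP (LK LD1_c0 LD2_c7 LD3_c26)) :=
  Lgr Lrot48 (Lpr_ff (f146363 IH) (Lpn (LP (LK LD1_c0 LD2_c7 LD3_c26))))
theorem f146371 : Led Lsl_af (LP (LK LD1_c0 LD2_c12 LD3_c54)) = (LP (LK LD1_c0 LD2_c7 LD3_c26)) :=
  Lgr Lrot31 (Lpe (K1.f37263 IH) (Lpe (K1.f20196 IH) (Lpr_ft (f146368 IH) (Lpn (LP (LK LD1_c0 LD2_c7 LD3_c26))))))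
theorem f69275 : Led Lsl_et (LP (LK LD1_c0 LD2_c12 LD3_c54)) = (LP (LK LD1_c0 LD2_c29 LD3_c14)) :=
  Lre_e IH (LK LD1_c0 LD2_c12 LD3_c54) (LK LD1_c0 LD2_c29 LD3_c14) Lrfl Lrfl
theorem f61292 : Led Lsl_et (LP (LK LD1_c0 LD2_c16 LD3_c43)) = (LP (LK LD1_c0 LD2_c7 LD3_c26)) :=
  Lre_e IH (LK LD1_c0 LD2_c16 LD3_c43) (LK LD1_c0 LD2_c7 LD3_c26) Lrfl Lrfl
theorem f146376 : Led Lsl_at (LP (LK LD1_c0 LD2_c29 LD3_c14)) = (LP (LK LD1_c0 LD2_c16 LD3_c43)) :=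
  Lgr Lrot80 (Lpe (f69275 IH) (Lpr_af (f146371 IH) (Lpe (f61292 IH) (Lpn (LP (LK LD1_c0 LD2_c16 LD3_c43))))))
theorem f68551 : Led Lsl_dt (LP (LK LD1_c1 LD2_c4 LD3_c1)) = (LP (LK LD1_c0 LD2_c29 LD3_c14)) :=
  Lre_d IH (LK LD1_c1 LD2_c4 LD3_c1) (LK LD1_c0 LD2_c29 LD3_c14) Lrfl Lrfl
theorem f61293 : Led Lsl_dt (LP (LK LD1_c0 LD2_c16 LD3_c43)) = (LP (LK LD1_c0 LD2_c37 LD3_c33)) :=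
  Lre_d IH (LK LD1_c0 LD2_c16 LD3_c43) (LK LD1_c0 LD2_c37 LD3_c33) Lrfl Lrfl
theorem f146383 : Led Lsl_af (LP (LK LD1_c1 LD2_c4 LD3_c1)) = (LP (LK LD1_c0 LD2_c37 LD3_c33)) :=
  Lgr Lrot117 (Lpr_dt (f68551 IH) (Lpr_at (f146376 IH) (Lpr_dt (f61293 IH) (Lpn (LP (LK LD1_c0 LD2_c37 LD3_c33))))))
theorem f146392 : Led Lsl_et (LP (LK LD1_c1 LD2_c4 LD3_c1)) = (LP (LK LD1_c2 LD2_c13 LD3_c57)) :=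
  Lre_e IH (LK LD1_c1 LD2_c4 LD3_c1) (LK LD1_c2 LD2_c13 LD3_c57) Lrfl Lrfl
theorem f61331 : Led Lsl_et (LP (LK LD1_c1 LD2_c21 LD3_c16)) = (LP (LK LD1_c0 LD2_c37 LD3_c33)) :=
  Lre_e IH (LK LD1_c1 LD2_c21 LD3_c16) (LK LD1_c0 LD2_c37 LD3_c33) Lrfl Lrfl
theorem f146393 : Led Lsl_at (LP (LK LD1_c2 LD2_c13 LD3_c57)) = (LP (LK LD1_c1 LD2_c21 LD3_c16)) :=
  Lgr Lrot80 (Lpe (f146392 IH) (Lpr_af (f146383 IH) (Lpe (f61331 IH) (Lpn (LP (LK LD1_c1 LD2_c21 LD3_c16))))))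
theorem f146411 : Led Lsl_ft (LP (LK LD1_c4 LD2_c34 LD3_c7)) = (LP (LK LD1_c2 LD2_c13 LD3_c57)) :=
  Lre_f IH (LK LD1_c4 LD2_c34 LD3_c7) (LK LD1_c2 LD2_c13 LD3_c57) Lrfl Lrfl
theorem f57502 : Led Lsl_ft (LP (LK LD1_c1 LD2_c21 LD3_c16)) = (LP (LK LD1_c2 LD2_c50 LD3_c34)) :=
  Lre_f IH (LK LD1_c1 LD2_c21 LD3_c16) (LK LD1_c2 LD2_c50 LD3_c34) Lrfl Lrfl
theorem f146412 : Led Lsl_af (LP (LK LD1_c4 LD2_c34 LD3_c7)) = (LP (LK LD1_c2 LD2_c50 LD3_c34)) :=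
  Lgr Lrot45 (Lpr_ft (f146411 IH) (Lpr_at (f146393 IH) (Lpr_ft (f57502 IH) (Lpn (LP (LK LD1_c2 LD2_c50 LD3_c34))))))
theorem f143130 : Led Lsl_dt (LP (LK LD1_c4 LD2_c34 LD3_c7)) = (LP (LK LD1_c2 LD2_c13 LD3_c58)) :=
  Lre_d IH (LK LD1_c4 LD2_c34 LD3_c7) (LK LD1_c2 LD2_c13 LD3_c58) Lrfl Lrfl
theorem f57194 : Led Lsl_dt (LP (LK LD1_c1 LD2_c21 LD3_c17)) = (LP (LK LD1_c2 LD2_c50 LD3_c34)) :=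
  Lre_d IH (LK LD1_c1 LD2_c21 LD3_c17) (LK LD1_c2 LD2_c50 LD3_c34) Lrfl Lrfl
theorem f146422 : Led Lsl_at (LP (LK LD1_c2 LD2_c13 LD3_c58)) = (LP (LK LD1_c1 LD2_c21 LD3_c17)) :=
  Lgr Lrot51 (Lpe (f143130 IH) (Lpr_af (f146412 IH) (Lpe (f57194 IH) (Lpn (LP (LK LD1_c1 LD2_c21 LD3_c17))))))
theorem f59434 : Led Lsl_et (LP (LK LD1_c0 LD2_c16 LD3_c53)) = (LP (LK LD1_c0 LD2_c37 LD3_c50)) :=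
  Lre_e IH (LK LD1_c0 LD2_c16 LD3_c53) (LK LD1_c0 LD2_c37 LD3_c50) Lrfl Lrfl
theorem f139852 : Led Lsl_ft (LP (LK LD1_c0 LD2_c37 LD3_c50)) = (LP (LK LD1_c1 LD2_c21 LD3_c48)) :=
  Lre_f IH (LK LD1_c0 LD2_c37 LD3_c50) (LK LD1_c1 LD2_c21 LD3_c48) Lrfl Lrfl
theorem f58847 : Led Lsl_et (LP (LK LD1_c1 LD2_c4 LD3_c0)) = (LP (LK LD1_c0 LD2_c29 LD3_c13)) :=
  Lre_e IH (LK LD1_c1 LD2_c4 LD3_c0) (LK LD1_c0 LD2_c29 LD3_c13) Lrfl Lrfl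
theorem f143113 : Led Lsl_ft (LP (LK LD1_c2 LD2_c13 LD3_c58)) = (LP (LK LD1_c1 LD2_c4 LD3_c0)) :=
  Lre_f IH (LK LD1_c2 LD2_c13 LD3_c58) (LK LD1_c1 LD2_c4 LD3_c0) Lrfl Lrfl
theorem f143114 : Led Lsl_et (LP (LK LD1_c1 LD2_c21 LD3_c48)) = (LP (LK LD1_c2 LD2_c13 LD3_c58)) :=
  Lgr Lrot69 (Lpe (f139852 IH) (Lpe (f59434 IH) (Lpr_ff (f143107 IH) (Lpe (f58847 IH) (Lpe (f143113 IH) (Lpn (LP (LK LD1_c2 LD2_c13 LD3_c58))))))))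
theorem f139795 : Led Lsl_et (LP (LK LD1_c0 LD2_c44 LD3_c31)) = (LP (LK LD1_c1 LD2_c36 LD3_c1)) :=
  Lre_e IH (LK LD1_c0 LD2_c44 LD3_c31) (LK LD1_c1 LD2_c36 LD3_c1) Lrfl Lrfl
theorem f139796 : Led Lsl_et (LP (LK LD1_c2 LD2_c51 LD3_c21)) = (LP (LK LD1_c1 LD2_c21 LD3_c44)) :=
  Lre_e IH (LK LD1_c2 LD2_c51 LD3_c21) (LK LD1_c1 LD2_c21 LD3_c44) Lrfl Lrfl
theorem f139797 : Led Lsl_bt (LP (LK LD1_c1 LD2_c36 LD3_c1)) = (LP (LK LD1_c2 LD2_c51 LD3_c21)) :=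
  Lgr Lrot119 (Lpe (f139795 IH) (Lpr_bf (f139793 IH) (Lpe (f139796 IH) (Lpn (LP (LK LD1_c2 LD2_c51 LD3_c21))))))
theorem f139811 : Led Lsl_ft (LP (LK LD1_c3 LD2_c19 LD3_c11)) = (LP (LK LD1_c1 LD2_c36 LD3_c1)) :=
  Lre_f IH (LK LD1_c3 LD2_c19 LD3_c11) (LK LD1_c1 LD2_c36 LD3_c1) Lrfl Lrfl
theorem f139813 : Led Lsl_bf (LP (LK LD1_c3 LD2_c19 LD3_c11)) = (LP (LK LD1_c5 LD2_c50 LD3_c19)) :=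
  Lgr Lrot61 (Lpr_ft (f139811 IH) (Lpr_bt (f139797 IH) (Lpr_ft (f139812 IH) (Lpn (LP (LK LD1_c5 LD2_c50 LD3_c19))))))
theorem f139829 : Led Lsl_ct (LP (LK LD1_c3 LD2_c19 LD3_c11)) = (LP (LK LD1_c1 LD2_c36 LD3_c5)) :=
  Lre_c IH (LK LD1_c3 LD2_c19 LD3_c11) (LK LD1_c1 LD2_c36 LD3_c5) Lrfl Lrfl
theorem f139830 : Led Lsl_bt (LP (LK LD1_c1 LD2_c36 LD3_c5)) = (LP (LK LD1_c0 LD2_c44 LD3_c36)) :=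
  Lre_b IH (LK LD1_c1 LD2_c36 LD3_c5) (LK LD1_c0 LD2_c44 LD3_c36) Lrfl Lrfl
theorem f139833 : Led Lsl_ct (LP (LK LD1_c0 LD2_c44 LD3_c36)) = (LP (LK LD1_c1 LD2_c21 LD3_c48)) :=
  Lgr Lrot83 (Lpe (f139830 IH) (Lpe (f139829 IH) (Lpr_bf (f139813 IH) (Lpe (f139831 IH) (Lpe (f139832 IH) (Lpn (LP (LK LD1_c1 LD2_c21 LD3_c48))))))))
theorem f139840 : Led Lsl_cf (LP (LK LD1_c0 LD2_c44 LD3_c36)) = (LP (LK LD1_c1 LD2_c21 LD3_c48)) :=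
  Lgr Lrot11 (Lpr_ct (f139833 IH) (Lpn (LP (LK LD1_c1 LD2_c21 LD3_c48))))
theorem f146017 : Led Lsl_af (LP (LK LD1_c1 LD2_c21 LD3_c48)) = (LP (LK LD1_c2 LD2_c14 LD3_c17)) :=
  Lgr Lrot68 (Lpe (f139840 IH) (Lpr_at (f146009 IH) (Lpe (f92110 IH) (Lpn (LP (LK LD1_c2 LD2_c14 LD3_c17))))))
theorem f146440 : Led Lsl_ef (LP (LK LD1_c2 LD2_c14 LD3_c17)) = (LP (LK LD1_c1 LD2_c21 LD3_c17)) :=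
  Lgr Lrot20 (Lpe (f146017 IH) (Lpr_et (f143114 IH) (Lpr_at (f146422 IH) (Lpn (LP (LK LD1_c1 LD2_c21 LD3_c17))))))
theorem f146444 : Led Lsl_et (LP (LK LD1_c2 LD2_c14 LD3_c17)) = (LP (LK LD1_c1 LD2_c21 LD3_c17)) :=
  Lgr Lrot87 (Lpr_ef (f146440 IH) (Lpn (LP (LK LD1_c1 LD2_c21 LD3_c17))))
theorem f92217 : Led Lsl_bt (LP (LK LD1_c4 LD2_c34 LD3_c35)) = (LP (LK LD1_c2 LD2_c14 LD3_c17)) :=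
  Lre_b IH (LK LD1_c4 LD2_c34 LD3_c35) (LK LD1_c2 LD2_c14 LD3_c17) Lrfl Lrfl
theorem f146446 : Led Lsl_ef (LP (LK LD1_c4 LD2_c34 LD3_c35)) = (LP (LK LD1_c2 LD2_c50 LD3_c21)) :=
  Lgr Lrot29 (Lpr_bt (f92217 IH) (Lpr_et (f146444 IH) (Lpr_bt (K1.f57184 IH) (Lpn (LP (LK LD1_c2 LD2_c50 LD3_c21))))))
theorem f146454 : Led Lsl_ft (LP (LK LD1_c4 LD2_c34 LD3_c35)) = (LP (LK LD1_c2 LD2_c14 LD3_c15)) :=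
  Lre_f IH (LK LD1_c4 LD2_c34 LD3_c35) (LK LD1_c2 LD2_c14 LD3_c15) Lrfl Lrfl
theorem f109947 : Led Lsl_et (LP (LK LD1_c2 LD2_c14 LD3_c15)) = (LP (LK LD1_c1 LD2_c4 LD3_c10)) :=
  Lre_e IH (LK LD1_c2 LD2_c14 LD3_c15) (LK LD1_c1 LD2_c4 LD3_c10) Lrfl Lrfl
theorem f146455 : Led Lsl_ft (LP (LK LD1_c1 LD2_c21 LD3_c11)) = (LP (LK LD1_c2 LD2_c50 LD3_c21)) :=
  Lre_f IH (LK LD1_c1 LD2_c21 LD3_c11) (LK LD1_c2 LD2_c50 LD3_c21) Lrfl Lrfl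
theorem f146456 : Led Lsl_et (LP (LK LD1_c0 LD2_c37 LD3_c28)) = (LP (LK LD1_c1 LD2_c21 LD3_c11)) :=
  Lre_e IH (LK LD1_c0 LD2_c37 LD3_c28) (LK LD1_c1 LD2_c21 LD3_c11) Lrfl Lrfl
theorem f146457 : Led Lsl_ft (LP (LK LD1_c1 LD2_c4 LD3_c10)) = (LP (LK LD1_c0 LD2_c37 LD3_c28)) :=
  Lgr Lrot86 (Lpe (f109947 IH) (Lpe (f146454 IH) (Lpr_ef (f146446 IH) (Lpe (f146455 IH) (Lpe (f146456 IH) (Lpn (LP (LK LD1_c0 LD2_c37 LD3_c28))))))))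
theorem f61820 : Led Lsl_dt (LP (LK LD1_c1 LD2_c4 LD3_c10)) = (LP (LK LD1_c0 LD2_c29 LD3_c18)) :=
  Lre_d IH (LK LD1_c1 LD2_c4 LD3_c10) (LK LD1_c0 LD2_c29 LD3_c18) Lrfl Lrfl
theorem f20238 : Led Lsl_bt (LP (LK LD1_c0 LD2_c29 LD3_c18)) = (LP (LK LD1_c0 LD2_c12 LD3_c56)) :=
  Lre_b IH (LK LD1_c0 LD2_c29 LD3_c18) (LK LD1_c0 LD2_c12 LD3_c56) Lrfl Lrfl
theorem f59657 : Led Lsl_cf (LP (LK LD1_c0 LD2_c29 LD3_c18)) = (LP (LK LD1_c0 LD2_c29 LD3_c18)) :=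
  Lgr Lrot97 (Lpr_bt (f20238 IH) (Lpr_ct (K1.f20206 IH) (Lpr_bt (K1.f59652 IH) (Lpr_ct (K0.f20195 IH) (Lpr_bt (K4.f20207 IH) (Lpn (LP (LK LD1_c0 LD2_c29 LD3_c18))))))))
theorem f92048 : Led Lsl_dt (LP (LK LD1_c0 LD2_c29 LD3_c18)) = (LP (LK LD1_c1 LD2_c4 LD3_c10)) :=
  Lre_d IH (LK LD1_c0 LD2_c29 LD3_c18) (LK LD1_c1 LD2_c4 LD3_c10) Lrfl Lrfl
theorem f92049 : Led Lsl_dt (LP (LK LD1_c2 LD2_c14 LD3_c14)) = (LP (LK LD1_c3 LD2_c26 LD3_c27)) :=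
  Lgr Lrot42 (Lpr_df (K3.f92034 IH) (Lpn (LP (LK LD1_c3 LD2_c26 LD3_c27))))
theorem f146461 : Led Lsl_at (LP (LK LD1_c0 LD2_c37 LD3_c28)) = (LP (LK LD1_c1 LD2_c21 LD3_c6)) :=
  Lre_a IH (LK LD1_c0 LD2_c37 LD3_c28) (LK LD1_c1 LD2_c21 LD3_c6) Lrfl Lrfl
theorem f135840 : Led Lsl_ct (LP (LK LD1_c2 LD2_c50 LD3_c5)) = (LP (LK LD1_c1 LD2_c21 LD3_c6)) :=
  Lre_c IH (LK LD1_c2 LD2_c50 LD3_c5) (LK LD1_c1 LD2_c21 LD3_c6) Lrfl Lrfl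
theorem f146464 : Led Lsl_dt (LP (LK LD1_c3 LD2_c26 LD3_c28)) = (LP (LK LD1_c2 LD2_c50 LD3_c5)) :=
  Lgr Lrot120 (Lpr_cf (K3.f15632 IH) (Lpe (f92049 IH) (Lpe (f58945 IH) (Lpe (f92048 IH) (Lpr_cf (f59657 IH) (Lpe (f61820 IH) (Lpr_ft (f146457 IH) (Lpr_at (f146461 IH) (Lpe (f135840 IH) (Lpn (LP (LK LD1_c2 LD2_c50 LD3_c5))))))))))))
theorem f135911 : Led Lsl_dt (LP (LK LD1_c1 LD2_c21 LD3_c6)) = (LP (LK LD1_c0 LD2_c37 LD3_c27)) :=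
  Lre_d IH (LK LD1_c1 LD2_c21 LD3_c6) (LK LD1_c0 LD2_c37 LD3_c27) Lrfl Lrfl
theorem f135895 : Led Lsl_ff (LP (LK LD1_c1 LD2_c4 LD3_c9)) = (LP (LK LD1_c0 LD2_c37 LD3_c27)) :=
  Lgr Lrot3 (Lpr_ft (f135888 IH) (Lpn (LP (LK LD1_c0 LD2_c37 LD3_c27))))
theorem f135904 : Led Lsl_cf (LP (LK LD1_c0 LD2_c37 LD3_c27)) = (LP (LK LD1_c0 LD2_c37 LD3_c27)) :=
  Lgr Lrot108 (Lpe (f135895 IH) (Lpr_ct (f135901 IH) (Lpr_ft (f135888 IH) (Lpn (LP (LK LD1_c0 LD2_c37 LD3_c27))))))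
theorem f135846 : Led Lsl_dt (LP (LK LD1_c0 LD2_c37 LD3_c27)) = (LP (LK LD1_c1 LD2_c21 LD3_c6)) :=
  Lre_d IH (LK LD1_c0 LD2_c37 LD3_c27) (LK LD1_c1 LD2_c21 LD3_c6) Lrfl Lrfl
theorem f135845 : Led Lsl_ct (LP (LK LD1_c1 LD2_c21 LD3_c6)) = (LP (LK LD1_c2 LD2_c50 LD3_c5)) :=
  Lre_c IH (LK LD1_c1 LD2_c21 LD3_c6) (LK LD1_c2 LD2_c50 LD3_c5) Lrfl Lrfl
theorem f57448 : Led Lsl_at (LP (LK LD1_c1 LD2_c21 LD3_c10)) = (LP (LK LD1_c2 LD2_c50 LD3_c5)) :=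
  Lre_a IH (LK LD1_c1 LD2_c21 LD3_c10) (LK LD1_c2 LD2_c50 LD3_c5) Lrfl Lrfl
theorem f146473 : Led Lsl_ft (LP (LK LD1_c2 LD2_c14 LD3_c14)) = (LP (LK LD1_c1 LD2_c21 LD3_c10)) :=
  Lgr Lrot142 (Lpr_dt (f92049 IH) (Lpe (K3.f15632 IH) (Lpr_dt (f146464 IH) (Lpr_ct (f135840 IH) (Lpr_dt (f135911 IH) (Lpe (f135904 IH) (Lpr_dt (f135846 IH) (Lpr_ct (f135845 IH) (Lpe (f57448 IH) (Lpn (LP (LK LD1_c1 LD2_c21 LD3_c10))))))))))))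
theorem f146480 : Led Lsl_gt (LP (LK LD1_c4 LD2_c34 LD3_c31)) = (LP (LK LD1_c2 LD2_c50 LD3_c5)) :=
  Lgr Lrot46 (Lpe (K5.f92059 IH) (Lpr_ft (f146473 IH) (Lpr_at (f57448 IH) (Lpn (LP (LK LD1_c2 LD2_c50 LD3_c5))))))
theorem f130541 : Led Lsl_ct (LP (LK LD1_c2 LD2_c14 LD3_c13)) = (LP (LK LD1_c3 LD2_c51 LD3_c21)) :=
  Lgr Lrot59 (Lpr_cf (K5.f130537 IH) (Lpn (LP (LK LD1_c3 LD2_c51 LD3_c21))))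
theorem f146484 : Led Lsl_gf (LP (LK LD1_c2 LD2_c14 LD3_c13)) = (LP (LK LD1_c1 LD2_c21 LD3_c6)) :=
  Lgr Lrot104 (Lpr_ct (f130541 IH) (Lpe (K5.f65976 IH) (Lpr_cf (K4.f65942 IH) (Lpe (K4.f103761 IH) (Lpe (K4.f115867 IH) (Lpr_gf (K4.f103755 IH) (Lpe (K5.f130209 IH) (Lpr_gt (f146480 IH) (Lpr_ct (f135840 IH) (Lpn (LP (LK LD1_c1 LD2_c21 LD3_c6))))))))))))
theorem f146462 : Led Lsl_gt (LP (LK LD1_c2 LD2_c14 LD3_c12)) = (LP (LK LD1_c1 LD2_c21 LD3_c6)) :=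
  Lgr Lrot46 (Lpe (K3.f92248 IH) (Lpr_ft (f146457 IH) (Lpr_at (f146461 IH) (Lpn (LP (LK LD1_c1 LD2_c21 LD3_c6))))))
theorem f136242 : Led Lsl_ff (LP (LK LD1_c1 LD2_c21 LD3_c8)) = (LP (LK LD1_c2 LD2_c14 LD3_c12)) :=
  Lgr Lrot23 (Lpr_ct (f135966 IH) (Lpe (f130668 IH) (Lpe (K3.f109929 IH) (Lpn (LP (LK LD1_c2 LD2_c14 LD3_c12))))))
theorem f146488 : Led Lsl_af (LP (LK LD1_c2 LD2_c14 LD3_c13)) = (LP (LK LD1_c1 LD2_c21 LD3_c8)) :=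
  Lgr Lrot31 (Lpr_gf (f146484 IH) (Lpe (f146462 IH) (Lpe (f136242 IH) (Lpn (LP (LK LD1_c1 LD2_c21 LD3_c8))))))
theorem f141928 : Led Lsl_ft (LP (LK LD1_c2 LD2_c14 LD3_c13)) = (LP (LK LD1_c1 LD2_c21 LD3_c9)) :=
  Lgr Lrot75 (Lpe (f61822 IH) (Lpr_ff (f141925 IH) (Lpe (f56804 IH) (Lpn (LP (LK LD1_c1 LD2_c21 LD3_c9))))))
theorem f146611 : Led Lsl_at (LP (LK LD1_c1 LD2_c21 LD3_c9)) = (LP (LK LD1_c2 LD2_c14 LD3_c12)) :=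
  Lgr Lrot66 (Lpe (f141928 IH) (Lpr_af (f146488 IH) (Lpr_ff (f136242 IH) (Lpn (LP (LK LD1_c2 LD2_c14 LD3_c12))))))
theorem f135927 : Led Lsl_et (LP (LK LD1_c2 LD2_c50 LD3_c13)) = (LP (LK LD1_c1 LD2_c21 LD3_c9)) :=
  Lre_e IH (LK LD1_c2 LD2_c50 LD3_c13) (LK LD1_c1 LD2_c21 LD3_c9) Lrfl Lrfl
theorem f109942 : Led Lsl_et (LP (LK LD1_c2 LD2_c14 LD3_c12)) = (LP (LK LD1_c4 LD2_c34 LD3_c28)) :=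
  Lre_e IH (LK LD1_c2 LD2_c14 LD3_c12) (LK LD1_c4 LD2_c34 LD3_c28) Lrfl Lrfl
theorem f146617 : Led Lsl_af (LP (LK LD1_c2 LD2_c50 LD3_c13)) = (LP (LK LD1_c4 LD2_c34 LD3_c28)) :=
  Lgr Lrot50 (Lpr_et (f135927 IH) (Lpr_at (f146611 IH) (Lpr_et (f109942 IH) (Lpn (LP (LK LD1_c4 LD2_c34 LD3_c28))))))
theorem f56817 : Led Lsl_ct (LP (LK LD1_c2 LD2_c50 LD3_c13)) = (LP (LK LD1_c5 LD2_c48 LD3_c17)) :=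
  Lre_c IH (LK LD1_c2 LD2_c50 LD3_c13) (LK LD1_c5 LD2_c48 LD3_c17) Lrfl Lrfl
theorem f109931 : Led Lsl_et (LP (LK LD1_c4 LD2_c34 LD3_c28)) = (LP (LK LD1_c2 LD2_c14 LD3_c12)) :=
  Lre_e IH (LK LD1_c4 LD2_c34 LD3_c28) (LK LD1_c2 LD2_c14 LD3_c12) Lrfl Lrfl
theorem f109932 : Led Lsl_et (LP (LK LD1_c3 LD2_c29 LD3_c60)) = (LP (LK LD1_c7 LD2_c1 LD3_c36)) :=
  Lre_e IH (LK LD1_c3 LD2_c29 LD3_c60) (LK LD1_c7 LD2_c1 LD3_c36) Lrfl Lrfl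
theorem f109933 : Led Lsl_cf (LP (LK LD1_c4 LD2_c34 LD3_c28)) = (LP (LK LD1_c7 LD2_c1 LD3_c36)) :=
  Lgr Lrot39 (Lpr_et (f109931 IH) (Lpr_ct (K3.f109918 IH) (Lpr_et (f109932 IH) (Lpn (LP (LK LD1_c7 LD2_c1 LD3_c36))))))
theorem f146621 : Led Lsl_at (LP (LK LD1_c5 LD2_c48 LD3_c17)) = (LP (LK LD1_c7 LD2_c1 LD3_c36)) :=
  Lgr Lrot107 (Lpe (f56817 IH) (Lpr_af (f146617 IH) (Lpr_cf (f109933 IH) (Lpn (LP (LK LD1_c7 LD2_c1 LD3_c36))))))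
theorem f135930 : Led Lsl_dt (LP (LK LD1_c11 LD2_c26 LD3_c4)) = (LP (LK LD1_c5 LD2_c48 LD3_c17)) :=
  Lre_d IH (LK LD1_c11 LD2_c26 LD3_c4) (LK LD1_c5 LD2_c48 LD3_c17) Lrfl Lrfl
theorem f109921 : Led Lsl_dt (LP (LK LD1_c7 LD2_c1 LD3_c36)) = (LP (LK LD1_c13 LD2_c19 LD3_c41)) :=
  Lre_d IH (LK LD1_c7 LD2_c1 LD3_c36) (LK LD1_c13 LD2_c19 LD3_c41) Lrfl Lrfl
theorem f146627 : Led Lsl_af (LP (LK LD1_c11 LD2_c26 LD3_c4)) = (LP (LK LD1_c13 LD2_c19 LD3_c41)) :=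
  Lgr Lrot117 (Lpr_dt (f135930 IH) (Lpr_at (f146621 IH) (Lpr_dt (f109921 IH) (Lpn (LP (LK LD1_c13 LD2_c19 LD3_c41))))))
theorem f115750 : Led Lsl_bt (LP (LK LD1_c7 LD2_c1 LD3_c43)) = (LP (LK LD1_c13 LD2_c19 LD3_c41)) :=
  Lre_b IH (LK LD1_c7 LD2_c1 LD3_c43) (LK LD1_c13 LD2_c19 LD3_c41) Lrfl Lrfl
theorem f115748 : Led Lsl_bt (LP (LK LD1_c7 LD2_c43 LD3_c61)) = (LP (LK LD1_c3 LD2_c51 LD3_c19)) :=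
  Lre_b IH (LK LD1_c7 LD2_c43 LD3_c61) (LK LD1_c3 LD2_c51 LD3_c19) Lrfl Lrfl
theorem f115749 : Led Lsl_at (LP (LK LD1_c14 LD2_c34 LD3_c48)) = (LP (LK LD1_c7 LD2_c43 LD3_c61)) :=
  Lre_a IH (LK LD1_c14 LD2_c34 LD3_c48) (LK LD1_c7 LD2_c43 LD3_c61) Lrfl Lrfl
theorem f146631 : Led Lsl_bt (LP (LK LD1_c11 LD2_c26 LD3_c4)) = (LP (LK LD1_c14 LD2_c34 LD3_c48)) :=
  Lgr Lrot62 (Lpr_af (f146627 IH) (Lpe (f115750 IH) (Lpe (K4.f115656 IH) (Lpe (f115748 IH) (Lpe (f115749 IH) (Lpn (LP (LK LD1_c14 LD2_c34 LD3_c48))))))))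
theorem f115861 : Led Lsl_dt (LP (LK LD1_c7 LD2_c1 LD3_c35)) = (LP (LK LD1_c13 LD2_c19 LD3_c39)) :=
  Lre_d IH (LK LD1_c7 LD2_c1 LD3_c35) (LK LD1_c13 LD2_c19 LD3_c39) Lrfl Lrfl
theorem f66383 : Led Lsl_et (LP (LK LD1_c5 LD2_c48 LD3_c17)) = (LP (LK LD1_c2 LD2_c50 LD3_c12)) :=
  Lre_e IH (LK LD1_c5 LD2_c48 LD3_c17) (LK LD1_c2 LD2_c50 LD3_c12) Lrfl Lrfl
theorem f135931 : Led Lsl_et (LP (LK LD1_c13 LD2_c19 LD3_c39)) = (LP (LK LD1_c11 LD2_c26 LD3_c4)) :=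
  Lgr Lrot71 (Lpe (f115861 IH) (Lpe (K4.f115785 IH) (Lpr_df (f135925 IH) (Lpe (f66383 IH) (Lpe (f135930 IH) (Lpn (LP (LK LD1_c11 LD2_c26 LD3_c4))))))))
theorem f115758 : Led Lsl_bt (LP (LK LD1_c6 LD2_c34 LD3_c9)) = (LP (LK LD1_c12 LD2_c34 LD3_c56)) :=
  Lre_b IH (LK LD1_c6 LD2_c34 LD3_c9) (LK LD1_c12 LD2_c34 LD3_c56) Lrfl Lrfl
theorem f115759 : Led Lsl_at (LP (LK LD1_c12 LD2_c34 LD3_c56)) = (LP (LK LD1_c21 LD2_c41 LD3_c17)) :=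
  Lre_a IH (LK LD1_c12 LD2_c34 LD3_c56) (LK LD1_c21 LD2_c41 LD3_c17) Lrfl Lrfl
theorem f115760 : Led Lsl_bt (LP (LK LD1_c7 LD2_c1 LD3_c39)) = (LP (LK LD1_c3 LD2_c30 LD3_c1)) :=
  Lre_b IH (LK LD1_c7 LD2_c1 LD3_c39) (LK LD1_c3 LD2_c30 LD3_c1) Lrfl Lrfl
theorem f115761 : Led Lsl_at (LP (LK LD1_c13 LD2_c19 LD3_c39)) = (LP (LK LD1_c7 LD2_c1 LD3_c39)) :=
  Lre_a IH (LK LD1_c13 LD2_c19 LD3_c39) (LK LD1_c7 LD2_c1 LD3_c39) Lrfl Lrfl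
theorem f115762 : Led Lsl_bt (LP (LK LD1_c21 LD2_c41 LD3_c17)) = (LP (LK LD1_c13 LD2_c19 LD3_c39)) :=
  Lgr Lrot62 (Lpe (f115759 IH) (Lpe (f115758 IH) (Lpr_af (K4.f115752 IH) (Lpe (f115760 IH) (Lpe (f115761 IH) (Lpn (LP (LK LD1_c13 LD2_c19 LD3_c39))))))))
theorem f146642 : Led Lsl_ef (LP (LK LD1_c21 LD2_c41 LD3_c17)) = (LP (LK LD1_c14 LD2_c34 LD3_c48)) :=
  Lgr Lrot29 (Lpr_bt (f115762 IH) (Lpr_et (f135931 IH) (Lpr_bt (f146631 IH) (Lpn (LP (LK LD1_c14 LD2_c34 LD3_c48))))))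
theorem f146654 : Led Lsl_et (LP (LK LD1_c21 LD2_c41 LD3_c17)) = (LP (LK LD1_c14 LD2_c34 LD3_c48)) :=
  Lgr Lrot87 (Lpr_ef (f146642 IH) (Lpn (LP (LK LD1_c14 LD2_c34 LD3_c48))))
theorem f115782 : Led Lsl_dt (LP (LK LD1_c12 LD2_c34 LD3_c53)) = (LP (LK LD1_c21 LD2_c41 LD3_c17)) :=
  Lre_d IH (LK LD1_c12 LD2_c34 LD3_c53) (LK LD1_c21 LD2_c41 LD3_c17) Lrfl Lrfl
theorem f115797 : Led Lsl_et (LP (LK LD1_c6 LD2_c34 LD3_c7)) = (LP (LK LD1_c12 LD2_c34 LD3_c53)) :=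
  Lre_e IH (LK LD1_c6 LD2_c34 LD3_c7) (LK LD1_c12 LD2_c34 LD3_c53) Lrfl Lrfl
theorem f146641 : Led Lsl_dt (LP (LK LD1_c14 LD2_c34 LD3_c48)) = (LP (LK LD1_c7 LD2_c43 LD3_c54)) :=
  Lre_d IH (LK LD1_c14 LD2_c34 LD3_c48) (LK LD1_c7 LD2_c43 LD3_c54) Lrfl Lrfl
theorem f146663 : Led Lsl_et (LP (LK LD1_c7 LD2_c43 LD3_c54)) = (LP (LK LD1_c3 LD2_c51 LD3_c14)) :=
  Lre_e IH (LK LD1_c7 LD2_c43 LD3_c54) (LK LD1_c3 LD2_c51 LD3_c14) Lrfl Lrfl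
theorem f146664 : Led Lsl_df (LP (LK LD1_c6 LD2_c34 LD3_c7)) = (LP (LK LD1_c3 LD2_c51 LD3_c14)) :=
  Lgr Lrot70 (Lpr_et (f115797 IH) (Lpr_dt (f115782 IH) (Lpr_et (f146654 IH) (Lpr_dt (f146641 IH) (Lpr_et (f146663 IH) (Lpn (LP (LK LD1_c3 LD2_c51 LD3_c14))))))))
theorem f135923 : Led Lsl_dt (LP (LK LD1_c3 LD2_c29 LD3_c59)) = (LP (LK LD1_c2 LD2_c50 LD3_c12)) :=
  Lgr Lrot27 (Lpr_cf (f115840 IH) (Lpr_gf (K4.f103767 IH) (Lpe (K4.f8354 IH) (Lpe (K4.f103750 IH) (Lpr_df (f130120 IH) (Lpe (f135862 IH) (Lpr_ct (f135834 IH) (Lpr_gt (f135918 IH) (Lpr_ct (f56828 IH) (Lpn (LP (LK LD1_c2 LD2_c50 LD3_c12))))))))))))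
theorem f146667 : Led Lsl_bt (LP (LK LD1_c2 LD2_c50 LD3_c12)) = (LP (LK LD1_c3 LD2_c51 LD3_c14)) :=
  Lgr Lrot95 (Lpe (f135923 IH) (Lpe (K4.f115786 IH) (Lpr_df (f146664 IH) (Lpn (LP (LK LD1_c3 LD2_c51 LD3_c14))))))
theorem f62180 : Led Lsl_bt (LP (LK LD1_c3 LD2_c28 LD3_c34)) = (LP (LK LD1_c3 LD2_c17 LD3_c30)) :=
  Lgr Lrot128 (Lpe (K3.f62177 IH) (Lpe (K2.f62176 IH) (Lpr_cf (K1.f62010 IH) (Lpe (K4.f62178 IH) (Lpe (K4.f62179 IH) (Lpn (LP (LK LD1_c3 LD2_c17 LD3_c30))))))))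
theorem f146697 : Led Lsl_gt (LP (LK LD1_c3 LD2_c17 LD3_c30)) = (LP (LK LD1_c3 LD2_c51 LD3_c14)) :=
  Lgr Lrot164 (Lpe (f62180 IH) (Lpr_ct (K4.f62284 IH) (Lpe (K3.f107505 IH) (Lpr_cf (K4.f103521 IH) (Lpe (K4.f57254 IH) (Lpr_bf (K1.f57232 IH) (Lpr_ct (K1.f56674 IH) (Lpe (f56755 IH) (Lpe (f56805 IH) (Lpr_bt (f146667 IH) (Lpn (LP (LK LD1_c3 LD2_c51 LD3_c14)))))))))))))
theorem f62197 : Led Lsl_bt (LP (LK LD1_c0 LD2_c44 LD3_c19)) = (LP (LK LD1_c0 LD2_c19 LD3_c45)) :=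
  Lre_b IH (LK LD1_c0 LD2_c44 LD3_c19) (LK LD1_c0 LD2_c19 LD3_c45) Lrfl Lrfl
theorem f56861 : Led Lsl_ct (LP (LK LD1_c0 LD2_c44 LD3_c19)) = (LP (LK LD1_c0 LD2_c19 LD3_c53)) :=
  Lre_c IH (LK LD1_c0 LD2_c44 LD3_c19) (LK LD1_c0 LD2_c19 LD3_c53) Lrfl Lrfl
theorem f56827 : Led Lsl_bt (LP (LK LD1_c6 LD2_c44 LD3_c19)) = (LP (LK LD1_c3 LD2_c20 LD3_c18)) :=
  Lre_b IH (LK LD1_c6 LD2_c44 LD3_c19) (LK LD1_c3 LD2_c20 LD3_c18) Lrfl Lrfl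
theorem f146715 : Led Lsl_ct (LP (LK LD1_c6 LD2_c44 LD3_c19)) = (LP (LK LD1_c3 LD2_c51 LD3_c14)) :=
  Lgr Lrot10 (Lpr_bt (f56827 IH) (Lpe (f141963 IH) (Lpr_ct (f62198 IH) (Lpr_gt (f26492 IH) (Lpe (f56861 IH) (Lpr_bt (f62197 IH) (Lpr_gt (K1.f61914 IH) (Lpe (K4.f62178 IH) (Lpr_ct (K5.f62286 IH) (Lpr_gt (f146697 IH) (Lpn (LP (LK LD1_c3 LD2_c51 LD3_c14)))))))))))))
theorem f136156 : Led Lsl_bt (LP (LK LD1_c6 LD2_c20 LD3_c15)) = (LP (LK LD1_c12 LD2_c15 LD3_c8)) :=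
  Lre_b IH (LK LD1_c6 LD2_c20 LD3_c15) (LK LD1_c12 LD2_c15 LD3_c8) Lrfl Lrfl
theorem f141978 : Led Lsl_dt (LP (LK LD1_c12 LD2_c15 LD3_c8)) = (LP (LK LD1_c6 LD2_c44 LD3_c19)) :=
  Lgr Lrot79 (Lpe (f136156 IH) (Lpr_df (f141969 IH) (Lpe (f56827 IH) (Lpn (LP (LK LD1_c6 LD2_c44 LD3_c19))))))
theorem f136157 : Led Lsl_ct (LP (LK LD1_c9 LD2_c23 LD3_c49)) = (LP (LK LD1_c12 LD2_c15 LD3_c8)) :=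
  Lgr Lrot59 (Lpr_cf (f136153 IH) (Lpn (LP (LK LD1_c12 LD2_c15 LD3_c8))))
theorem f146666 : Led Lsl_at (LP (LK LD1_c1 LD2_c52 LD3_c28)) = (LP (LK LD1_c3 LD2_c51 LD3_c14)) :=
  Lre_a IH (LK LD1_c1 LD2_c52 LD3_c28) (LK LD1_c3 LD2_c51 LD3_c14) Lrfl Lrfl
theorem f115823 : Led Lsl_at (LP (LK LD1_c3 LD2_c29 LD3_c51)) = (LP (LK LD1_c1 LD2_c41 LD3_c37)) :=
  Lre_a IH (LK LD1_c3 LD2_c29 LD3_c51) (LK LD1_c1 LD2_c41 LD3_c37) Lrfl Lrfl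
theorem f115824 : Led Lsl_ft (LP (LK LD1_c6 LD2_c34 LD3_c7)) = (LP (LK LD1_c3 LD2_c29 LD3_c51)) :=
  Lgr Lrot101 (Lpe (K4.f115789 IH) (Lpr_ff (K4.f115812 IH) (Lpe (f115823 IH) (Lpn (LP (LK LD1_c3 LD2_c29 LD3_c51))))))
theorem f146669 : Led Lsl_ft (LP (LK LD1_c7 LD2_c1 LD3_c18)) = (LP (LK LD1_c3 LD2_c51 LD3_c14)) :=
  Lgr Lrot54 (Lpe (K5.f115818 IH) (Lpe (f115824 IH) (Lpr_df (f146664 IH) (Lpn (LP (LK LD1_c3 LD2_c51 LD3_c14))))))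
theorem f146673 : Led Lsl_ff (LP (LK LD1_c7 LD2_c1 LD3_c18)) = (LP (LK LD1_c3 LD2_c51 LD3_c14)) :=
  Lgr Lrot3 (Lpr_ft (f146669 IH) (Lpn (LP (LK LD1_c3 LD2_c51 LD3_c14))))
theorem f146675 : Led Lsl_ft (LP (LK LD1_c3 LD2_c29 LD3_c53)) = (LP (LK LD1_c1 LD2_c52 LD3_c28)) :=
  Lgr Lrot101 (Lpe (f130581 IH) (Lpr_ff (f146673 IH) (Lpe (f146666 IH) (Lpn (LP (LK LD1_c1 LD2_c52 LD3_c28))))))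
theorem f111229 : Led Lsl_dt (LP (LK LD1_c3 LD2_c29 LD3_c53)) = (LP (LK LD1_c1 LD2_c41 LD3_c37)) :=
  Lre_d IH (LK LD1_c3 LD2_c29 LD3_c53) (LK LD1_c1 LD2_c41 LD3_c37) Lrfl Lrfl
theorem f122073 : Led Lsl_dt (LP (LK LD1_c3 LD2_c29 LD3_c52)) = (LP (LK LD1_c7 LD2_c1 LD3_c20)) :=
  Lre_d IH (LK LD1_c3 LD2_c29 LD3_c52) (LK LD1_c7 LD2_c1 LD3_c20) Lrfl Lrfl
theorem f122075 : Led Lsl_ct (LP (LK LD1_c7 LD2_c1 LD3_c20)) = (LP (LK LD1_c13 LD2_c19 LD3_c10)) :=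
  Lre_c IH (LK LD1_c7 LD2_c1 LD3_c20) (LK LD1_c13 LD2_c19 LD3_c10) Lrfl Lrfl
theorem f146724 : Led Lsl_df (LP (LK LD1_c9 LD2_c23 LD3_c49)) = (LP (LK LD1_c13 LD2_c19 LD3_c10)) :=
  Lgr Lrot13 (Lpr_ct (f136157 IH) (Lpr_dt (f141978 IH) (Lpr_ct (f146715 IH) (Lpe (f146666 IH) (Lpe (f146675 IH) (Lpr_dt (f111229 IH) (Lpr_ct (K4.f19046 IH) (Lpr_dt (f122073 IH) (Lpr_ct (f122075 IH) (Lpn (LP (LK LD1_c13 LD2_c19 LD3_c10))))))))))))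
theorem f146726 : Led Lsl_dt (LP (LK LD1_c9 LD2_c23 LD3_c49)) = (LP (LK LD1_c13 LD2_c19 LD3_c10)) :=
  Lgr Lrot42 (Lpr_df (f146724 IH) (Lpn (LP (LK LD1_c13 LD2_c19 LD3_c10))))
theorem f65223 : Led Lsl_ct (LP (LK LD1_c6 LD2_c39 LD3_c34)) = (LP (LK LD1_c3 LD2_c17 LD3_c58)) :=
  Lre_c IH (LK LD1_c6 LD2_c39 LD3_c34) (LK LD1_c3 LD2_c17 LD3_c58) Lrfl Lrfl
theorem f65224 : Led Lsl_bt (LP (LK LD1_c0 LD2_c52 LD3_c8)) = (LP (LK LD1_c1 LD2_c50 LD3_c27)) :=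
  Lre_b IH (LK LD1_c0 LD2_c52 LD3_c8) (LK LD1_c1 LD2_c50 LD3_c27) Lrfl Lrfl
theorem f65226 : Led Lsl_bf (LP (LK LD1_c6 LD2_c39 LD3_c34)) = (LP (LK LD1_c3 LD2_c46 LD3_c40)) :=
  Lgr Lrot90 (Lpr_ct (f65223 IH) (Lpr_bt (f65222 IH) (Lpr_ct (K1.f65195 IH) (Lpr_bt (f65224 IH) (Lpr_ct (K3.f65225 IH) (Lpn (LP (LK LD1_c3 LD2_c46 LD3_c40))))))))
theorem f94545 : Led Lsl_dt (LP (LK LD1_c0 LD2_c52 LD3_c7)) = (LP (LK LD1_c1 LD2_c50 LD3_c27)) :=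
  Lre_d IH (LK LD1_c0 LD2_c52 LD3_c7) (LK LD1_c1 LD2_c50 LD3_c27) Lrfl Lrfl
theorem f107231 : Led Lsl_gf (LP (LK LD1_c0 LD2_c52 LD3_c11)) = (LP (LK LD1_c0 LD2_c49 LD3_c48)) :=
  Lgr Lrot147 (Lpr_ct (K3.f88487 IH) (Lpr_gt (K3.f96765 IH) (Lpr_ct (K3.f6110 IH) (Lpr_df (K0.f17465 IH) (Lpe (K1.f5247 IH) (Lpr_gf (K3.f94668 IH) (Lpr_cf (K3.f95965 IH) (Lpr_gf (K3.f107229 IH) (Lpe (K3.f5259 IH) (Lpn (LP (LK LD1_c0 LD2_c49 LD3_c48))))))))))))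
theorem f26196 : Led Lsl_gt (LP (LK LD1_c3 LD2_c42 LD3_c19)) = (LP (LK LD1_c1 LD2_c48 LD3_c7)) :=
  Lre_g IH (LK LD1_c3 LD2_c42 LD3_c19) (LK LD1_c1 LD2_c48 LD3_c7) Lrfl Lrfl
theorem f122074 : Led Lsl_ct (LP (LK LD1_c13 LD2_c19 LD3_c10)) = (LP (LK LD1_c7 LD2_c1 LD3_c20)) :=
  Lre_c IH (LK LD1_c13 LD2_c19 LD3_c10) (LK LD1_c7 LD2_c1 LD3_c20) Lrfl Lrfl
theorem f146731 : Led Lsl_bf (LP (LK LD1_c3 LD2_c42 LD3_c19)) = (LP (LK LD1_c7 LD2_c1 LD3_c20)) :=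
  Lgr Lrot184 (Lpr_gt (f26196 IH) (Lpr_dt (f26195 IH) (Lpr_ct (f26189 IH) (Lpr_bt (K4.f26185 IH) (Lpe (f107231 IH) (Lpr_dt (K3.f88479 IH) (Lpr_ct (K2.f87577 IH) (Lpe (K2.f19366 IH) (Lpe (K2.f87557 IH) (Lpe (K2.f90600 IH) (Lpe (K2.f94610 IH) (Lpr_bt (K3.f94568 IH) (Lpr_gt (K2.f62825 IH) (Lpr_dt (f94545 IH) (Lpr_ct (K3.f65225 IH) (Lpe (f65226 IH) (Lpr_gt (f136010 IH) (Lpr_dt (f146726 IH) (Lpr_ct (f122074 IH) (Lpn (LP (LK LD1_c7 LD2_c1 LD3_c20))))))))))))))))))))))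
theorem f124646 : Led Lsl_et (LP (LK LD1_c3 LD2_c42 LD3_c19)) = (LP (LK LD1_c7 LD2_c25 LD3_c20)) :=
  Lre_e IH (LK LD1_c3 LD2_c42 LD3_c19) (LK LD1_c7 LD2_c25 LD3_c20) Lrfl Lrfl
theorem f146737 : Led Lsl_et (LP (LK LD1_c13 LD2_c19 LD3_c11)) = (LP (LK LD1_c7 LD2_c1 LD3_c20)) :=
  Lre_e IH (LK LD1_c13 LD2_c19 LD3_c11) (LK LD1_c7 LD2_c1 LD3_c20) Lrfl Lrfl
theorem f146738 : Led Lsl_bt (LP (LK LD1_c7 LD2_c25 LD3_c20)) = (LP (LK LD1_c13 LD2_c19 LD3_c11)) :=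
  Lgr Lrot119 (Lpe (f124646 IH) (Lpr_bf (f146731 IH) (Lpe (f146737 IH) (Lpn (LP (LK LD1_c13 LD2_c19 LD3_c11))))))
theorem f122668 : Led Lsl_dt (LP (LK LD1_c14 LD2_c2 LD3_c14)) = (LP (LK LD1_c7 LD2_c25 LD3_c20)) :=
  Lre_d IH (LK LD1_c14 LD2_c2 LD3_c14) (LK LD1_c7 LD2_c25 LD3_c20) Lrfl Lrfl
theorem f146742 : Led Lsl_dt (LP (LK LD1_c13 LD2_c19 LD3_c11)) = (LP (LK LD1_c22 LD2_c35 LD3_c35)) :=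
  Lre_d IH (LK LD1_c13 LD2_c19 LD3_c11) (LK LD1_c22 LD2_c35 LD3_c35) Lrfl Lrfl
theorem f146743 : Led Lsl_bf (LP (LK LD1_c14 LD2_c2 LD3_c14)) = (LP (LK LD1_c22 LD2_c35 LD3_c35)) :=
  Lgr Lrot93 (Lpr_dt (f122668 IH) (Lpr_bt (f146738 IH) (Lpr_dt (f146742 IH) (Lpn (LP (LK LD1_c22 LD2_c35 LD3_c35))))))
theorem f137088 : Led Lsl_et (LP (LK LD1_c13 LD2_c19 LD3_c12)) = (LP (LK LD1_c22 LD2_c35 LD3_c35)) :=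
  Lre_e IH (LK LD1_c13 LD2_c19 LD3_c12) (LK LD1_c22 LD2_c35 LD3_c35) Lrfl Lrfl
theorem f136924 : Led Lsl_df (LP (LK LD1_c1 LD2_c52 LD3_c6)) = (LP (LK LD1_c2 LD2_c56 LD3_c21)) :=
  Lgr Lrot155 (Lpr_gt (f136920 IH) (Lpe (K5.f15199 IH) (Lpe (f136922 IH) (Lpe (f64335 IH) (Lpr_dt (K1.f56675 IH) (Lpe (f56676 IH) (Lpe (f56755 IH) (Lpe (f56805 IH) (Lpe (f135935 IH) (Lpn (LP (LK LD1_c2 LD2_c56 LD3_c21))))))))))))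
theorem f94630 : Led Lsl_gt (LP (LK LD1_c3 LD2_c29 LD3_c58)) = (LP (LK LD1_c1 LD2_c41 LD3_c40)) :=
  Lre_g IH (LK LD1_c3 LD2_c29 LD3_c58) (LK LD1_c1 LD2_c41 LD3_c40) Lrfl Lrfl
theorem f65940 : Led Lsl_gt (LP (LK LD1_c6 LD2_c34 LD3_c54)) = (LP (LK LD1_c3 LD2_c15 LD3_c48)) :=
  Lre_g IH (LK LD1_c6 LD2_c34 LD3_c54) (LK LD1_c3 LD2_c15 LD3_c48) Lrfl Lrfl
theorem f136936 : Led Lsl_cf (LP (LK LD1_c3 LD2_c29 LD3_c58)) = (LP (LK LD1_c6 LD2_c34 LD3_c54)) :=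
  Lgr Lrot166 (Lpr_gt (f94630 IH) (Lpr_dt (f109916 IH) (Lpe (K3.f109912 IH) (Lpr_dt (f109401 IH) (Lpe (f136340 IH) (Lpr_df (f136924 IH) (Lpr_gf (f135942 IH) (Lpe (K5.f65955 IH) (Lpe (f65940 IH) (Lpn (LP (LK LD1_c6 LD2_c34 LD3_c54))))))))))))
theorem f115838 : Led Lsl_cf (LP (LK LD1_c1 LD2_c41 LD3_c40)) = (LP (LK LD1_c1 LD2_c39 LD3_c28)) :=
  Lgr Lrot1 (Lpr_at (K4.f115794 IH) (Lpr_ct (K4.f115835 IH) (Lpr_at (K4.f103740 IH) (Lpn (LP (LK LD1_c1 LD2_c39 LD3_c28))))))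
theorem f94578 : Led Lsl_bt (LP (LK LD1_c1 LD2_c39 LD3_c28)) = (LP (LK LD1_c0 LD2_c46 LD3_c14)) :=
  Lre_b IH (LK LD1_c1 LD2_c39 LD3_c28) (LK LD1_c0 LD2_c46 LD3_c14) Lrfl Lrfl
theorem f121943 : Led Lsl_bt (LP (LK LD1_c3 LD2_c25 LD3_c34)) = (LP (LK LD1_c1 LD2_c39 LD3_c26)) :=
  Lre_b IH (LK LD1_c3 LD2_c25 LD3_c34) (LK LD1_c1 LD2_c39 LD3_c26) Lrfl Lrfl
theorem f122128 : Led Lsl_ct (LP (LK LD1_c3 LD2_c25 LD3_c34)) = (LP (LK LD1_c1 LD2_c48 LD3_c59)) :=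
  Lgr Lrot59 (Lpr_cf (K4.f122125 IH) (Lpn (LP (LK LD1_c1 LD2_c48 LD3_c59))))
theorem f122137 : Led Lsl_gt (LP (LK LD1_c1 LD2_c48 LD3_c59)) = (LP (LK LD1_c3 LD2_c43 LD3_c46)) :=
  Lre_g IH (LK LD1_c1 LD2_c48 LD3_c59) (LK LD1_c3 LD2_c43 LD3_c46) Lrfl Lrfl
theorem f115859 : Led Lsl_gt (LP (LK LD1_c3 LD2_c29 LD3_c59)) = (LP (LK LD1_c6 LD2_c34 LD3_c54)) :=
  Lgr Lrot5 (Lpr_ft (K4.f115851 IH) (Lpr_at (K4.f65938 IH) (Lpe (f65940 IH) (Lpn (LP (LK LD1_c6 LD2_c34 LD3_c54))))))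
theorem f136945 : Led Lsl_cf (LP (LK LD1_c3 LD2_c43 LD3_c46)) = (LP (LK LD1_c6 LD2_c34 LD3_c7)) :=
  Lgr Lrot58 (Lpe (f122137 IH) (Lpe (f122128 IH) (Lpr_bt (f121943 IH) (Lpe (K4.f94218 IH) (Lpe (f94578 IH) (Lpe (f115838 IH) (Lpe (f94630 IH) (Lpr_cf (f136936 IH) (Lpe (f115859 IH) (Lpe (K4.f115786 IH) (Lpn (LP (LK LD1_c6 LD2_c34 LD3_c7)))))))))))))
theorem f122614 : Led Lsl_ct (LP (LK LD1_c3 LD2_c40 LD3_c45)) = (LP (LK LD1_c3 LD2_c15 LD3_c23)) :=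
  Lgr Lrot83 (Lpe (K4.f122613 IH) (Lpr_cf (K4.f122483 IH) (Lpe (K3.f62824 IH) (Lpe (K1.f62817 IH) (Lpe (K4.f62835 IH) (Lpn (LP (LK LD1_c3 LD2_c15 LD3_c23))))))))
theorem f136959 : Led Lsl_at (LP (LK LD1_c3 LD2_c43 LD3_c46)) = (LP (LK LD1_c3 LD2_c40 LD3_c45)) :=
  Lgr Lrot107 (Lpr_cf (f136945 IH) (Lpe (K4.f115789 IH) (Lpe (f122614 IH) (Lpn (LP (LK LD1_c3 LD2_c40 LD3_c45))))))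
theorem f63505 : Led Lsl_ct (LP (LK LD1_c3 LD2_c29 LD3_c52)) = (LP (LK LD1_c1 LD2_c41 LD3_c37)) :=
  Lre_c IH (LK LD1_c3 LD2_c29 LD3_c52) (LK LD1_c1 LD2_c41 LD3_c37) Lrfl Lrfl
theorem f123562 : Led Lsl_ft (LP (LK LD1_c3 LD2_c40 LD3_c45)) = (LP (LK LD1_c3 LD2_c29 LD3_c52)) :=
  Lgr Lrot4 (Lpr_cf (K4.f123555 IH) (Lpr_ff (K4.f115812 IH) (Lpe (f63505 IH) (Lpn (LP (LK LD1_c3 LD2_c29 LD3_c52))))))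
theorem f108790 : Led Lsl_gt (LP (LK LD1_c1 LD2_c47 LD3_c27)) = (LP (LK LD1_c3 LD2_c41 LD3_c0)) :=
  Lre_g IH (LK LD1_c1 LD2_c47 LD3_c27) (LK LD1_c3 LD2_c41 LD3_c0) Lrfl Lrfl
theorem f123568 : Led Lsl_at (LP (LK LD1_c3 LD2_c29 LD3_c52)) = (LP (LK LD1_c3 LD2_c41 LD3_c0)) :=
  Lgr Lrot26 (Lpe (f123562 IH) (Lpr_gt (K4.f123564 IH) (Lpr_gt (f108790 IH) (Lpn (LP (LK LD1_c3 LD2_c41 LD3_c0))))))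
theorem f137049 : Led Lsl_ff (LP (LK LD1_c3 LD2_c43 LD3_c46)) = (LP (LK LD1_c3 LD2_c41 LD3_c0)) :=
  Lgr Lrot30 (Lpr_at (f136959 IH) (Lpr_ft (f123562 IH) (Lpr_at (f123568 IH) (Lpn (LP (LK LD1_c3 LD2_c41 LD3_c0))))))
theorem f137055 : Led Lsl_ft (LP (LK LD1_c3 LD2_c43 LD3_c46)) = (LP (LK LD1_c3 LD2_c41 LD3_c0)) :=
  Lgr Lrot48 (Lpr_ff (f137049 IH) (Lpn (LP (LK LD1_c3 LD2_c41 LD3_c0))))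
theorem f136965 : Led Lsl_et (LP (LK LD1_c3 LD2_c43 LD3_c46)) = (LP (LK LD1_c7 LD2_c28 LD3_c9)) :=
  Lre_e IH (LK LD1_c3 LD2_c43 LD3_c46) (LK LD1_c7 LD2_c28 LD3_c9) Lrfl Lrfl
theorem f136966 : Led Lsl_ct (LP (LK LD1_c7 LD2_c28 LD3_c9)) = (LP (LK LD1_c12 LD2_c34 LD3_c53)) :=
  Lgr Lrot15 (Lpe (f136965 IH) (Lpr_cf (f136945 IH) (Lpe (K4.f115784 IH) (Lpn (LP (LK LD1_c12 LD2_c34 LD3_c53))))))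
theorem f136997 : Led Lsl_cf (LP (LK LD1_c7 LD2_c28 LD3_c9)) = (LP (LK LD1_c12 LD2_c34 LD3_c53)) :=
  Lgr Lrot11 (Lpr_ct (f136966 IH) (Lpn (LP (LK LD1_c12 LD2_c34 LD3_c53))))
theorem f115798 : Led Lsl_et (LP (LK LD1_c7 LD2_c1 LD3_c35)) = (LP (LK LD1_c3 LD2_c29 LD3_c59)) :=
  Lre_e IH (LK LD1_c7 LD2_c1 LD3_c35) (LK LD1_c3 LD2_c29 LD3_c59) Lrfl Lrfl
theorem f115842 : Led Lsl_cf (LP (LK LD1_c7 LD2_c1 LD3_c35)) = (LP (LK LD1_c6 LD2_c53 LD3_c16)) :=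
  Lgr Lrot39 (Lpr_et (f115798 IH) (Lpr_ct (K4.f115835 IH) (Lpr_et (K4.f103736 IH) (Lpn (LP (LK LD1_c6 LD2_c53 LD3_c16))))))
theorem f12785 : Led Lsl_bt (LP (LK LD1_c3 LD2_c24 LD3_c40)) = (LP (LK LD1_c6 LD2_c51 LD3_c47)) :=
  Lre_b IH (LK LD1_c3 LD2_c24 LD3_c40) (LK LD1_c6 LD2_c51 LD3_c47) Lrfl Lrfl
theorem f94291 : Led Lsl_dt (LP (LK LD1_c3 LD2_c25 LD3_c49)) = (LP (LK LD1_c1 LD2_c39 LD3_c30)) :=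
  Lre_d IH (LK LD1_c3 LD2_c25 LD3_c49) (LK LD1_c1 LD2_c39 LD3_c30) Lrfl Lrfl
theorem f91143 : Led Lsl_dt (LP (LK LD1_c3 LD2_c24 LD3_c40)) = (LP (LK LD1_c6 LD2_c51 LD3_c50)) :=
  Lre_d IH (LK LD1_c3 LD2_c24 LD3_c40) (LK LD1_c6 LD2_c51 LD3_c50) Lrfl Lrfl
theorem f102690 : Led Lsl_at (LP (LK LD1_c1 LD2_c39 LD3_c30)) = (LP (LK LD1_c3 LD2_c24 LD3_c40)) :=
  Lgr Lrot51 (Lpe (f94291 IH) (Lpr_af (K4.f102677 IH) (Lpe (f91143 IH) (Lpn (LP (LK LD1_c3 LD2_c24 LD3_c40))))))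
theorem f102694 : Led Lsl_bt (LP (LK LD1_c3 LD2_c25 LD3_c43)) = (LP (LK LD1_c1 LD2_c39 LD3_c30)) :=
  Lre_b IH (LK LD1_c3 LD2_c25 LD3_c43) (LK LD1_c1 LD2_c39 LD3_c30) Lrfl Lrfl
theorem f102695 : Led Lsl_at (LP (LK LD1_c6 LD2_c53 LD3_c16)) = (LP (LK LD1_c3 LD2_c25 LD3_c43)) :=
  Lre_a IH (LK LD1_c6 LD2_c53 LD3_c16) (LK LD1_c3 LD2_c25 LD3_c43) Lrfl Lrfl
theorem f103687 : Led Lsl_bf (LP (LK LD1_c6 LD2_c53 LD3_c16)) = (LP (LK LD1_c7 LD2_c32 LD3_c11)) :=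
  Lgr Lrot81 (Lpr_at (f102695 IH) (Lpr_bt (f102694 IH) (Lpr_at (f102690 IH) (Lpr_bt (f12785 IH) (Lpr_at (K4.f103684 IH) (Lpn (LP (LK LD1_c7 LD2_c32 LD3_c11))))))))
theorem f137003 : Led Lsl_bt (LP (LK LD1_c7 LD2_c28 LD3_c9)) = (LP (LK LD1_c14 LD2_c5 LD3_c3)) :=
  Lgr Lrot128 (Lpr_cf (f136997 IH) (Lpr_bf (K4.f115777 IH) (Lpr_cf (f115842 IH) (Lpr_bf (f103687 IH) (Lpe (K4.f103672 IH) (Lpn (LP (LK LD1_c14 LD2_c5 LD3_c3))))))))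
theorem f102877 : Led Lsl_et (LP (LK LD1_c14 LD2_c5 LD3_c3)) = (LP (LK LD1_c7 LD2_c27 LD3_c37)) :=
  Lre_e IH (LK LD1_c14 LD2_c5 LD3_c3) (LK LD1_c7 LD2_c27 LD3_c37) Lrfl Lrfl
theorem f137009 : Led Lsl_bf (LP (LK LD1_c3 LD2_c43 LD3_c46)) = (LP (LK LD1_c7 LD2_c27 LD3_c37)) :=
  Lgr Lrot96 (Lpr_et (f136965 IH) (Lpr_bt (f137003 IH) (Lpr_et (f102877 IH) (Lpn (LP (LK LD1_c7 LD2_c27 LD3_c37))))))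
theorem f137059 : Led Lsl_bf (LP (LK LD1_c6 LD2_c53 LD3_c46)) = (LP (LK LD1_c3 LD2_c41 LD3_c0)) :=
  Lgr Lrot61 (Lpr_ft (K5.f102885 IH) (Lpe (f137009 IH) (Lpr_ft (f137055 IH) (Lpn (LP (LK LD1_c3 LD2_c41 LD3_c0))))))
theorem f131685 : Led Lsl_bf (LP (LK LD1_c3 LD2_c29 LD3_c52)) = (LP (LK LD1_c1 LD2_c48 LD3_c51)) :=
  Lgr Lrot90 (Lpr_ct (f63505 IH) (Lpr_bt (K4.f19045 IH) (Lpr_ct (K3.f103582 IH) (Lpe (K3.f98645 IH) (Lpr_ct (K5.f131675 IH) (Lpn (LP (LK LD1_c1 LD2_c48 LD3_c51))))))))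
theorem f137094 : Led Lsl_at (LP (LK LD1_c1 LD2_c39 LD3_c37)) = (LP (LK LD1_c1 LD2_c48 LD3_c51)) :=
  Lgr Lrot67 (Lpe (K4.f12595 IH) (Lpe (K4.f102865 IH) (Lpr_bf (f137059 IH) (Lpe (f123568 IH) (Lpr_bf (f131685 IH) (Lpn (LP (LK LD1_c1 LD2_c48 LD3_c51))))))))
theorem f12605 : Led Lsl_et (LP (LK LD1_c3 LD2_c25 LD3_c59)) = (LP (LK LD1_c1 LD2_c39 LD3_c37)) :=
  Lre_e IH (LK LD1_c3 LD2_c25 LD3_c59) (LK LD1_c1 LD2_c39 LD3_c37) Lrfl Lrfl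
theorem f131689 : Led Lsl_et (LP (LK LD1_c1 LD2_c48 LD3_c51)) = (LP (LK LD1_c3 LD2_c43 LD3_c32)) :=
  Lre_e IH (LK LD1_c1 LD2_c48 LD3_c51) (LK LD1_c3 LD2_c43 LD3_c32) Lrfl Lrfl
theorem f137112 : Led Lsl_af (LP (LK LD1_c3 LD2_c25 LD3_c59)) = (LP (LK LD1_c3 LD2_c43 LD3_c32)) :=
  Lgr Lrot50 (Lpr_et (f12605 IH) (Lpr_at (f137094 IH) (Lpr_et (f131689 IH) (Lpn (LP (LK LD1_c3 LD2_c43 LD3_c32))))))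
theorem f12606 : Led Lsl_dt (LP (LK LD1_c3 LD2_c25 LD3_c59)) = (LP (LK LD1_c6 LD2_c53 LD3_c51)) :=
  Lre_d IH (LK LD1_c3 LD2_c25 LD3_c59) (LK LD1_c6 LD2_c53 LD3_c51) Lrfl Lrfl
theorem f137122 : Led Lsl_dt (LP (LK LD1_c7 LD2_c27 LD3_c40)) = (LP (LK LD1_c3 LD2_c43 LD3_c32)) :=
  Lre_d IH (LK LD1_c7 LD2_c27 LD3_c40) (LK LD1_c3 LD2_c43 LD3_c32) Lrfl Lrfl
theorem f137123 : Led Lsl_at (LP (LK LD1_c6 LD2_c53 LD3_c51)) = (LP (LK LD1_c7 LD2_c27 LD3_c40)) :=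
  Lgr Lrot51 (Lpe (f12606 IH) (Lpr_af (f137112 IH) (Lpe (f137122 IH) (Lpn (LP (LK LD1_c7 LD2_c27 LD3_c40))))))
theorem f137105 : Led Lsl_bt (LP (LK LD1_c13 LD2_c6 LD3_c28)) = (LP (LK LD1_c6 LD2_c53 LD3_c51)) :=
  Lre_b IH (LK LD1_c13 LD2_c6 LD3_c28) (LK LD1_c6 LD2_c53 LD3_c51) Lrfl Lrfl
theorem f137104 : Led Lsl_at (LP (LK LD1_c22 LD2_c17 LD3_c46)) = (LP (LK LD1_c13 LD2_c6 LD3_c28)) :=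
  Lre_a IH (LK LD1_c22 LD2_c17 LD3_c46) (LK LD1_c13 LD2_c6 LD3_c28) Lrfl Lrfl
theorem f102884 : Led Lsl_et (LP (LK LD1_c6 LD2_c53 LD3_c46)) = (LP (LK LD1_c13 LD2_c6 LD3_c22)) :=
  Lre_e IH (LK LD1_c6 LD2_c53 LD3_c46) (LK LD1_c13 LD2_c6 LD3_c22) Lrfl Lrfl
theorem f122157 : Led Lsl_et (LP (LK LD1_c7 LD2_c22 LD3_c14)) = (LP (LK LD1_c3 LD2_c41 LD3_c0)) :=
  Lre_e IH (LK LD1_c7 LD2_c22 LD3_c14) (LK LD1_c3 LD2_c41 LD3_c0) Lrfl Lrfl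
theorem f137096 : Led Lsl_bt (LP (LK LD1_c13 LD2_c6 LD3_c22)) = (LP (LK LD1_c7 LD2_c22 LD3_c14)) :=
  Lgr Lrot119 (Lpe (f102884 IH) (Lpr_bf (f137059 IH) (Lpe (f122157 IH) (Lpn (LP (LK LD1_c7 LD2_c22 LD3_c14))))))
theorem f102465 : Led Lsl_dt (LP (LK LD1_c22 LD2_c17 LD3_c46)) = (LP (LK LD1_c13 LD2_c6 LD3_c22)) :=
  Lre_d IH (LK LD1_c22 LD2_c17 LD3_c46) (LK LD1_c13 LD2_c6 LD3_c22) Lrfl Lrfl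
theorem f122158 : Led Lsl_dt (LP (LK LD1_c7 LD2_c22 LD3_c14)) = (LP (LK LD1_c13 LD2_c56 LD3_c15)) :=
  Lre_d IH (LK LD1_c7 LD2_c22 LD3_c14) (LK LD1_c13 LD2_c56 LD3_c15) Lrfl Lrfl
theorem f137102 : Led Lsl_bf (LP (LK LD1_c22 LD2_c17 LD3_c46)) = (LP (LK LD1_c13 LD2_c56 LD3_c15)) :=
  Lgr Lrot93 (Lpr_dt (f102465 IH) (Lpr_bt (f137096 IH) (Lpr_dt (f122158 IH) (Lpn (LP (LK LD1_c13 LD2_c56 LD3_c15))))))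
theorem f137061 : Led Lsl_cf (LP (LK LD1_c3 LD2_c29 LD3_c51)) = (LP (LK LD1_c3 LD2_c41 LD3_c0)) :=
  Lgr Lrot108 (Lpe (K4.f115808 IH) (Lpe (f136945 IH) (Lpr_ft (f137055 IH) (Lpn (LP (LK LD1_c3 LD2_c41 LD3_c0))))))
theorem f115866 : Led Lsl_et (LP (LK LD1_c3 LD2_c29 LD3_c51)) = (LP (LK LD1_c7 LD2_c1 LD3_c19)) :=
  Lre_e IH (LK LD1_c3 LD2_c29 LD3_c51) (LK LD1_c7 LD2_c1 LD3_c19) Lrfl Lrfl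
theorem f137064 : Led Lsl_ct (LP (LK LD1_c7 LD2_c1 LD3_c19)) = (LP (LK LD1_c7 LD2_c22 LD3_c14)) :=
  Lgr Lrot15 (Lpe (f115866 IH) (Lpr_cf (f137061 IH) (Lpe (f122157 IH) (Lpn (LP (LK LD1_c7 LD2_c22 LD3_c14))))))
theorem f137070 : Led Lsl_cf (LP (LK LD1_c7 LD2_c1 LD3_c19)) = (LP (LK LD1_c7 LD2_c22 LD3_c14)) :=
  Lgr Lrot11 (Lpr_ct (f137064 IH) (Lpn (LP (LK LD1_c7 LD2_c22 LD3_c14))))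
theorem f137075 : Led Lsl_at (LP (LK LD1_c7 LD2_c1 LD3_c19)) = (LP (LK LD1_c3 LD2_c29 LD3_c54)) :=
  Lre_a IH (LK LD1_c7 LD2_c1 LD3_c19) (LK LD1_c3 LD2_c29 LD3_c54) Lrfl Lrfl
theorem f137076 : Led Lsl_ct (LP (LK LD1_c3 LD2_c29 LD3_c54)) = (LP (LK LD1_c7 LD2_c1 LD3_c21)) :=
  Lre_c IH (LK LD1_c3 LD2_c29 LD3_c54) (LK LD1_c7 LD2_c1 LD3_c21) Lrfl Lrfl
theorem f137077 : Led Lsl_at (LP (LK LD1_c7 LD2_c1 LD3_c21)) = (LP (LK LD1_c7 LD2_c22 LD3_c14)) :=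
  Lgr Lrot107 (Lpe (f137076 IH) (Lpe (f137075 IH) (Lpr_cf (f137070 IH) (Lpn (LP (LK LD1_c7 LD2_c22 LD3_c14))))))
theorem f137081 : Led Lsl_dt (LP (LK LD1_c13 LD2_c19 LD3_c12)) = (LP (LK LD1_c7 LD2_c1 LD3_c21)) :=
  Lre_d IH (LK LD1_c13 LD2_c19 LD3_c12) (LK LD1_c7 LD2_c1 LD3_c21) Lrfl Lrfl
theorem f137082 : Led Lsl_af (LP (LK LD1_c13 LD2_c19 LD3_c12)) = (LP (LK LD1_c13 LD2_c56 LD3_c15)) :=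
  Lgr Lrot117 (Lpr_dt (f137081 IH) (Lpr_at (f137077 IH) (Lpr_dt (f122158 IH) (Lpn (LP (LK LD1_c13 LD2_c56 LD3_c15))))))
theorem f137085 : Led Lsl_at (LP (LK LD1_c13 LD2_c19 LD3_c12)) = (LP (LK LD1_c13 LD2_c56 LD3_c15)) :=
  Lgr Lrot100 (Lpr_af (f137082 IH) (Lpn (LP (LK LD1_c13 LD2_c56 LD3_c15))))
theorem f137128 : Led Lsl_bf (LP (LK LD1_c13 LD2_c19 LD3_c12)) = (LP (LK LD1_c7 LD2_c27 LD3_c40)) :=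
  Lgr Lrot81 (Lpr_at (f137085 IH) (Lpe (f137102 IH) (Lpr_at (f137104 IH) (Lpr_bt (f137105 IH) (Lpr_at (f137123 IH) (Lpn (LP (LK LD1_c7 LD2_c27 LD3_c40))))))))
theorem f146755 : Led Lsl_et (LP (LK LD1_c14 LD2_c2 LD3_c14)) = (LP (LK LD1_c7 LD2_c27 LD3_c40)) :=
  Lgr Lrot74 (Lpr_bf (f146743 IH) (Lpe (f137088 IH) (Lpr_bf (f137128 IH) (Lpn (LP (LK LD1_c7 LD2_c27 LD3_c40))))))
theorem f146761 : Led Lsl_ef (LP (LK LD1_c14 LD2_c2 LD3_c14)) = (LP (LK LD1_c7 LD2_c27 LD3_c40)) :=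
  Lgr Lrot88 (Lpr_et (f146755 IH) (Lpn (LP (LK LD1_c7 LD2_c27 LD3_c40))))
theorem f137134 : Led Lsl_et (LP (LK LD1_c13 LD2_c6 LD3_c30)) = (LP (LK LD1_c6 LD2_c53 LD3_c51)) :=
  Lre_e IH (LK LD1_c13 LD2_c6 LD3_c30) (LK LD1_c6 LD2_c53 LD3_c51) Lrfl Lrfl
theorem f146765 : Led Lsl_at (LP (LK LD1_c14 LD2_c2 LD3_c14)) = (LP (LK LD1_c13 LD2_c6 LD3_c30)) :=
  Lgr Lrot80 (Lpr_ef (f146761 IH) (Lpe (f137123 IH) (Lpe (f137134 IH) (Lpn (LP (LK LD1_c13 LD2_c6 LD3_c30))))))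
theorem f122640 : Led Lsl_dt (LP (LK LD1_c7 LD2_c25 LD3_c20)) = (LP (LK LD1_c14 LD2_c2 LD3_c14)) :=
  Lre_d IH (LK LD1_c7 LD2_c25 LD3_c20) (LK LD1_c14 LD2_c2 LD3_c14) Lrfl Lrfl
theorem f146767 : Led Lsl_dt (LP (LK LD1_c13 LD2_c6 LD3_c30)) = (LP (LK LD1_c6 LD2_c53 LD3_c50)) :=
  Lre_d IH (LK LD1_c13 LD2_c6 LD3_c30) (LK LD1_c6 LD2_c53 LD3_c50) Lrfl Lrfl
theorem f146768 : Led Lsl_af (LP (LK LD1_c7 LD2_c25 LD3_c20)) = (LP (LK LD1_c6 LD2_c53 LD3_c50)) :=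
  Lgr Lrot117 (Lpr_dt (f122640 IH) (Lpr_at (f146765 IH) (Lpr_dt (f146767 IH) (Lpn (LP (LK LD1_c6 LD2_c53 LD3_c50))))))
theorem f122639 : Led Lsl_et (LP (LK LD1_c7 LD2_c25 LD3_c20)) = (LP (LK LD1_c3 LD2_c42 LD3_c19)) :=
  Lre_e IH (LK LD1_c7 LD2_c25 LD3_c20) (LK LD1_c3 LD2_c42 LD3_c19) Lrfl Lrfl
theorem f12604 : Led Lsl_et (LP (LK LD1_c3 LD2_c25 LD3_c58)) = (LP (LK LD1_c6 LD2_c53 LD3_c50)) :=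
  Lre_e IH (LK LD1_c3 LD2_c25 LD3_c58) (LK LD1_c6 LD2_c53 LD3_c50) Lrfl Lrfl
theorem f146778 : Led Lsl_at (LP (LK LD1_c3 LD2_c42 LD3_c19)) = (LP (LK LD1_c3 LD2_c25 LD3_c58)) :=
  Lgr Lrot80 (Lpe (f122639 IH) (Lpr_af (f146768 IH) (Lpe (f12604 IH) (Lpn (LP (LK LD1_c3 LD2_c25 LD3_c58))))))
theorem f12603 : Led Lsl_dt (LP (LK LD1_c3 LD2_c25 LD3_c58)) = (LP (LK LD1_c1 LD2_c39 LD3_c37)) :=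
  Lre_d IH (LK LD1_c3 LD2_c25 LD3_c58) (LK LD1_c1 LD2_c39 LD3_c37) Lrfl Lrfl
theorem f66556 : Led Lsl_dt (LP (LK LD1_c0 LD2_c50 LD3_c18)) = (LP (LK LD1_c1 LD2_c47 LD3_c2)) :=
  Lre_d IH (LK LD1_c0 LD2_c50 LD3_c18) (LK LD1_c1 LD2_c47 LD3_c2) Lrfl Lrfl
theorem f107574 : Led Lsl_gf (LP (LK LD1_c3 LD2_c25 LD3_c58)) = (LP (LK LD1_c1 LD2_c47 LD3_c2)) :=
  Lgr Lrot143 (Lpr_dt (f12603 IH) (Lpe (K3.f12593 IH) (Lpe (K4.f12579 IH) (Lpr_gf (K3.f98609 IH) (Lpr_df (K3.f107566 IH) (Lpe (K2.f84760 IH) (Lpe (K5.f96338 IH) (Lpr_gt (K4.f12370 IH) (Lpr_dt (f66556 IH) (Lpn (LP (LK LD1_c1 LD2_c47 LD3_c2))))))))))))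
theorem f12366 : Led Lsl_gt (LP (LK LD1_c3 LD2_c40 LD3_c10)) = (LP (LK LD1_c1 LD2_c47 LD3_c2)) :=
  Lre_g IH (LK LD1_c3 LD2_c40 LD3_c10) (LK LD1_c1 LD2_c47 LD3_c2) Lrfl Lrfl
theorem f146795 : Led Lsl_ff (LP (LK LD1_c3 LD2_c42 LD3_c19)) = (LP (LK LD1_c3 LD2_c40 LD3_c10)) :=
  Lgr Lrot52 (Lpr_at (f146778 IH) (Lpr_gf (f107574 IH) (Lpe (f12366 IH) (Lpn (LP (LK LD1_c3 LD2_c40 LD3_c10))))))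
theorem f109210 : Led Lsl_gf (LP (LK LD1_c0 LD2_c42 LD3_c21)) = (LP (LK LD1_c0 LD2_c46 LD3_c54)) :=
  Lgr Lrot144 (Lpr_dt (K3.f109196 IH) (Lpr_gt (K3.f62948 IH) (Lpr_dt (K1.f62853 IH) (Lpe (K0.f5714 IH) (Lpe (K2.f65238 IH) (Lpr_gf (K2.f65830 IH) (Lpe (K2.f62826 IH) (Lpe (K2.f87566 IH) (Lpe (K2.f87565 IH) (Lpn (LP (LK LD1_c0 LD2_c46 LD3_c54))))))))))))
theorem f11386 : Led Lsl_at (LP (LK LD1_c0 LD2_c4 LD3_c30)) = (LP (LK LD1_c0 LD2_c9 LD3_c34)) :=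
  Lre_a IH (LK LD1_c0 LD2_c4 LD3_c30) (LK LD1_c0 LD2_c9 LD3_c34) Lrfl Lrfl
theorem f11388 : Led Lsl_at (LP (LK LD1_c0 LD2_c9 LD3_c34)) = (LP (LK LD1_c0 LD2_c4 LD3_c30)) :=
  Lre_a IH (LK LD1_c0 LD2_c9 LD3_c34) (LK LD1_c0 LD2_c4 LD3_c30) Lrfl Lrfl
theorem f11389 : Led Lsl_bt (LP (LK LD1_c0 LD2_c9 LD3_c34)) = (LP (LK LD1_c0 LD2_c9 LD3_c34)) :=
  Lgr Lrot62 (Lpe (f11386 IH) (Lpe (K0.f3945 IH) (Lpr_af (K0.f11277 IH) (Lpe (K2.f11387 IH) (Lpe (f11388 IH) (Lpn (LP (LK LD1_c0 LD2_c9 LD3_c34))))))))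
theorem f110018 : Led Lsl_at (LP (LK LD1_c0 LD2_c17 LD3_c61)) = (LP (LK LD1_c0 LD2_c40 LD3_c8)) :=
  Lre_a IH (LK LD1_c0 LD2_c17 LD3_c61) (LK LD1_c0 LD2_c40 LD3_c8) Lrfl Lrfl
theorem f64472 : Led Lsl_ft (LP (LK LD1_c0 LD2_c40 LD3_c12)) = (LP (LK LD1_c0 LD2_c17 LD3_c61)) :=
  Lre_f IH (LK LD1_c0 LD2_c40 LD3_c12) (LK LD1_c0 LD2_c17 LD3_c61) Lrfl Lrfl
theorem f110019 : Led Lsl_gf (LP (LK LD1_c0 LD2_c18 LD3_c1)) = (LP (LK LD1_c0 LD2_c40 LD3_c12)) :=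
  Lgr Lrot47 (Lpr_gt (K3.f110016 IH) (Lpe (f110018 IH) (Lpe (f64472 IH) (Lpn (LP (LK LD1_c0 LD2_c40 LD3_c12))))))
theorem f144163 : Led Lsl_bt (LP (LK LD1_c0 LD2_c49 LD3_c3)) = (LP (LK LD1_c0 LD2_c48 LD3_c58)) :=
  Lgr Lrot92 (Lpr_ct (K4.f110054 IH) (Lpe (f110019 IH) (Lpe (K2.f13675 IH) (Lpr_bt (f11389 IH) (Lpe (K2.f87569 IH) (Lpr_ct (K2.f84705 IH) (Lpe (f109210 IH) (Lpr_cf (K3.f109200 IH) (Lpr_bt (K5.f109224 IH) (Lpr_gt (f144151 IH) (Lpn (LP (LK LD1_c0 LD2_c48 LD3_c58)))))))))))))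
theorem f144173 : Led Lsl_ff (LP (LK LD1_c0 LD2_c47 LD3_c56)) = (LP (LK LD1_c0 LD2_c48 LD3_c58)) :=
  Lgr Lrot25 (Lpr_bt (K2.f84738 IH) (Lpe (K4.f110080 IH) (Lpr_bt (f144163 IH) (Lpn (LP (LK LD1_c0 LD2_c48 LD3_c58))))))
theorem f144177 : Led Lsl_ft (LP (LK LD1_c0 LD2_c47 LD3_c56)) = (LP (LK LD1_c0 LD2_c48 LD3_c58)) :=
  Lgr Lrot48 (Lpr_ff (f144173 IH) (Lpn (LP (LK LD1_c0 LD2_c48 LD3_c58))))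
theorem f144181 : Led Lsl_ff (LP (LK LD1_c1 LD2_c29 LD3_c15)) = (LP (LK LD1_c1 LD2_c39 LD3_c10)) :=
  Lgr Lrot23 (Lpe (K2.f87553 IH) (Lpr_ft (f144177 IH) (Lpe (f144157 IH) (Lpn (LP (LK LD1_c1 LD2_c39 LD3_c10))))))
theorem f114973 : Led Lsl_af (LP (LK LD1_c1 LD2_c46 LD3_c57)) = (LP (LK LD1_c1 LD2_c48 LD3_c0)) :=
  Lgr Lrot0 (Lpr_at (K4.f114971 IH) (Lpn (LP (LK LD1_c1 LD2_c48 LD3_c0))))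
theorem f115061 : Led Lsl_at (LP (LK LD1_c1 LD2_c29 LD3_c15)) = (LP (LK LD1_c1 LD2_c39 LD3_c9)) :=
  Lgr Lrot51 (Lpr_df (K4.f115002 IH) (Lpr_af (f114973 IH) (Lpe (K4.f114989 IH) (Lpn (LP (LK LD1_c1 LD2_c39 LD3_c9))))))
theorem f144185 : Led Lsl_at (LP (LK LD1_c1 LD2_c31 LD3_c31)) = (LP (LK LD1_c1 LD2_c39 LD3_c10)) :=
  Lgr Lrot66 (Lpe (K5.f124841 IH) (Lpe (f115061 IH) (Lpr_ff (f144181 IH) (Lpn (LP (LK LD1_c1 LD2_c39 LD3_c10))))))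
theorem f124600 : Led Lsl_dt (LP (LK LD1_c3 LD2_c13 LD3_c34)) = (LP (LK LD1_c6 LD2_c30 LD3_c48)) :=
  Lre_d IH (LK LD1_c3 LD2_c13 LD3_c34) (LK LD1_c6 LD2_c30 LD3_c48) Lrfl Lrfl
theorem f142714 : Led Lsl_dt (LP (LK LD1_c1 LD2_c39 LD3_c61)) = (LP (LK LD1_c0 LD2_c48 LD3_c58)) :=
  Lgr Lrot6 (Lpe (f142694 IH) (Lpr_ct (f142698 IH) (Lpr_gt (f21101 IH) (Lpr_ct (K4.f12181 IH) (Lpe (K5.f124866 IH) (Lpr_cf (K2.f21081 IH) (Lpe (K2.f21024 IH) (Lpe (K2.f21157 IH) (Lpe (f21159 IH) (Lpn (LP (LK LD1_c0 LD2_c48 LD3_c58))))))))))))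
theorem f142456 : Led Lsl_dt (LP (LK LD1_c3 LD2_c40 LD3_c52)) = (LP (LK LD1_c1 LD2_c48 LD3_c5)) :=
  Lgr Lrot42 (Lpr_df (f142359 IH) (Lpn (LP (LK LD1_c1 LD2_c48 LD3_c5))))
theorem f144249 : Led Lsl_ct (LP (LK LD1_c6 LD2_c30 LD3_c48)) = (LP (LK LD1_c3 LD2_c40 LD3_c52)) :=
  Lgr Lrot41 (Lpe (f124600 IH) (Lpe (K5.f124592 IH) (Lpe (K4.f114989 IH) (Lpr_ft (K5.f124841 IH) (Lpr_at (f144185 IH) (Lpr_cf (f144157 IH) (Lpe (f142714 IH) (Lpr_cf (K5.f132166 IH) (Lpe (f142456 IH) (Lpn (LP (LK LD1_c3 LD2_c40 LD3_c52))))))))))))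
theorem f124614 : Led Lsl_gf (LP (LK LD1_c3 LD2_c43 LD3_c11)) = (LP (LK LD1_c6 LD2_c30 LD3_c48)) :=
  Lgr Lrot143 (Lpr_dt (K4.f116066 IH) (Lpe (K4.f116089 IH) (Lpr_df (K4.f116067 IH) (Lpe (K3.f21026 IH) (Lpe (K5.f24850 IH) (Lpe (K1.f66557 IH) (Lpe (K4.f23696 IH) (Lpr_gt (K5.f124610 IH) (Lpr_dt (f124600 IH) (Lpn (LP (LK LD1_c6 LD2_c30 LD3_c48))))))))))))
theorem f12577 : Led Lsl_gt (LP (LK LD1_c0 LD2_c50 LD3_c28)) = (LP (LK LD1_c1 LD2_c39 LD3_c37)) :=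
  Lgr Lrot150 (Lpe (f12574 IH) (Lpe (K4.f4893 IH) (Lpe (K4.f4880 IH) (Lpr_gt (K1.f4898 IH) (Lpr_ct (K1.f12339 IH) (Lpr_gt (K3.f12341 IH) (Lpr_ct (K3.f12567 IH) (Lpe (K4.f12575 IH) (Lpe (K5.f12576 IH) (Lpn (LP (LK LD1_c1 LD2_c39 LD3_c37))))))))))))
theorem f144255 : Led Lsl_dt (LP (LK LD1_c3 LD2_c39 LD3_c54)) = (LP (LK LD1_c6 LD2_c53 LD3_c49)) :=
  Lgr Lrot113 (Lpe (K4.f121235 IH) (Lpe (K4.f116066 IH) (Lpr_gf (f124614 IH) (Lpr_ct (f144249 IH) (Lpr_gt (f12585 IH) (Lpr_dt (f12584 IH) (Lpr_gt (f12577 IH) (Lpr_dt (K5.f12583 IH) (Lpr_ct (K5.f12587 IH) (Lpn (LP (LK LD1_c6 LD2_c53 LD3_c49))))))))))))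
theorem f146797 : Led Lsl_dt (LP (LK LD1_c3 LD2_c40 LD3_c10)) = (LP (LK LD1_c1 LD2_c47 LD3_c21)) :=
  Lgr Lrot159 (Lpe (f146795 IH) (Lpr_at (f146778 IH) (Lpe (K5.f12586 IH) (Lpe (f144255 IH) (Lpe (K4.f107290 IH) (Lpe (K5.f107287 IH) (Lpr_cf (K4.f107200 IH) (Lpe (K5.f65532 IH) (Lpe (K4.f122616 IH) (Lpn (LP (LK LD1_c1 LD2_c47 LD3_c21))))))))))))
theorem f146809 : Led Lsl_gf (LP (LK LD1_c3 LD2_c40 LD3_c10)) = (LP (LK LD1_c1 LD2_c47 LD3_c13)) :=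
  Lgr Lrot143 (Lpr_dt (f146797 IH) (Lpr_cf (K4.f122483 IH) (Lpe (K3.f65533 IH) (Lpe (K4.f121231 IH) (Lpe (K4.f109453 IH) (Lpr_gf (K5.f128047 IH) (Lpe (K5.f13548 IH) (Lpe (K3.f107303 IH) (Lpr_dt (K5.f107308 IH) (Lpn (LP (LK LD1_c1 LD2_c47 LD3_c13))))))))))))
theorem f129143 : Led Lsl_ff (LP (LK LD1_c3 LD2_c14 LD3_c10)) = (LP (LK LD1_c3 LD2_c42 LD3_c6)) :=
  Lgr Lrot19 (Lpr_dt (K5.f129129 IH) (Lpe (K5.f125607 IH) (Lpr_dt (K5.f125586 IH) (Lpn (LP (LK LD1_c3 LD2_c42 LD3_c6))))))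
theorem f129230 : Led Lsl_ff (LP (LK LD1_c1 LD2_c48 LD3_c19)) = (LP (LK LD1_c1 LD2_c47 LD3_c13)) :=
  Lgr Lrot23 (Lpe (f125592 IH) (Lpe (f129143 IH) (Lpr_ct (K5.f129199 IH) (Lpn (LP (LK LD1_c1 LD2_c47 LD3_c13))))))
theorem f146814 : Led Lsl_af (LP (LK LD1_c1 LD2_c47 LD3_c2)) = (LP (LK LD1_c1 LD2_c48 LD3_c19)) :=
  Lgr Lrot31 (Lpe (f12366 IH) (Lpr_gf (f146809 IH) (Lpe (f129230 IH) (Lpn (LP (LK LD1_c1 LD2_c48 LD3_c19))))))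
theorem f22616 : Led Lsl_dt (LP (LK LD1_c1 LD2_c33 LD3_c38)) = (LP (LK LD1_c0 LD2_c43 LD3_c24)) :=
  Lre_d IH (LK LD1_c1 LD2_c33 LD3_c38) (LK LD1_c0 LD2_c43 LD3_c24) Lrfl Lrfl
theorem f22640 : Led Lsl_gt (LP (LK LD1_c3 LD2_c14 LD3_c11)) = (LP (LK LD1_c1 LD2_c33 LD3_c38)) :=
  Lre_g IH (LK LD1_c3 LD2_c14 LD3_c11) (LK LD1_c1 LD2_c33 LD3_c38) Lrfl Lrfl
theorem f143186 : Led Lsl_gf (LP (LK LD1_c1 LD2_c35 LD3_c61)) = (LP (LK LD1_c2 LD2_c22 LD3_c0)) :=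
  Lgr Lrot76 (Lpe (K5.f129232 IH) (Lpr_ff (K5.f125607 IH) (Lpr_gt (f143184 IH) (Lpn (LP (LK LD1_c2 LD2_c22 LD3_c0))))))
theorem f144139 : Led Lsl_df (LP (LK LD1_c3 LD2_c14 LD3_c11)) = (LP (LK LD1_c1 LD2_c35 LD3_c61)) :=
  Lgr Lrot153 (Lpr_gt (f22640 IH) (Lpr_dt (f22616 IH) (Lpe (K5.f22613 IH) (Lpe (K0.f22620 IH) (Lpe (K1.f12422 IH) (Lpe (K4.f23695 IH) (Lpr_gf (f144137 IH) (Lpe (f84599 IH) (Lpe (f143186 IH) (Lpn (LP (LK LD1_c1 LD2_c35 LD3_c61))))))))))))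
theorem f146832 : Led Lsl_cf (LP (LK LD1_c1 LD2_c47 LD3_c2)) = (LP (LK LD1_c3 LD2_c14 LD3_c11)) :=
  Lgr Lrot102 (Lpr_af (f146814 IH) (Lpr_ff (f129230 IH) (Lpr_dt (K5.f107302 IH) (Lpr_ct (K3.f95902 IH) (Lpr_dt (K4.f23678 IH) (Lpr_ct (K4.f107283 IH) (Lpr_dt (K4.f107291 IH) (Lpe (K5.f125678 IH) (Lpe (f144139 IH) (Lpn (LP (LK LD1_c3 LD2_c14 LD3_c11))))))))))))
theorem f116054 : Led Lsl_dt (LP (LK LD1_c0 LD2_c50 LD3_c31)) = (LP (LK LD1_c1 LD2_c47 LD3_c28)) :=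
  Lre_d IH (LK LD1_c0 LD2_c50 LD3_c31) (LK LD1_c1 LD2_c47 LD3_c28) Lrfl Lrfl
theorem f22814 : Led Lsl_gt (LP (LK LD1_c0 LD2_c43 LD3_c24)) = (LP (LK LD1_c1 LD2_c33 LD3_c36)) :=
  Lre_g IH (LK LD1_c0 LD2_c43 LD3_c24) (LK LD1_c1 LD2_c33 LD3_c36) Lrfl Lrfl
theorem f22815 : Led Lsl_dt (LP (LK LD1_c1 LD2_c33 LD3_c36)) = (LP (LK LD1_c3 LD2_c14 LD3_c5)) :=
  Lre_d IH (LK LD1_c1 LD2_c33 LD3_c36) (LK LD1_c3 LD2_c14 LD3_c5) Lrfl Lrfl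
theorem f146842 : Led Lsl_ct (LP (LK LD1_c1 LD2_c47 LD3_c28)) = (LP (LK LD1_c3 LD2_c14 LD3_c5)) :=
  Lgr Lrot7 (Lpe (f116054 IH) (Lpe (K3.f108819 IH) (Lpe (f12603 IH) (Lpr_gf (f107574 IH) (Lpr_cf (f146832 IH) (Lpr_gt (f22640 IH) (Lpr_dt (f22616 IH) (Lpr_gt (f22814 IH) (Lpr_dt (f22815 IH) (Lpn (LP (LK LD1_c3 LD2_c14 LD3_c5))))))))))))
theorem f144155 : Led Lsl_gt (LP (LK LD1_c1 LD2_c47 LD3_c28)) = (LP (LK LD1_c3 LD2_c40 LD3_c52)) :=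
  Lgr Lrot49 (Lpe (f116054 IH) (Lpe (K3.f108819 IH) (Lpe (K3.f12593 IH) (Lpr_gt (K4.f12590 IH) (Lpr_dt (K4.f116021 IH) (Lpr_gt (f144151 IH) (Lpe (f142716 IH) (Lpr_cf (K5.f132166 IH) (Lpe (f142456 IH) (Lpn (LP (LK LD1_c3 LD2_c40 LD3_c52))))))))))))
theorem f26213 : Led Lsl_dt (LP (LK LD1_c0 LD2_c22 LD3_c57)) = (LP (LK LD1_c0 LD2_c10 LD3_c20)) :=
  Lre_d IH (LK LD1_c0 LD2_c22 LD3_c57) (LK LD1_c0 LD2_c10 LD3_c20) Lrfl Lrfl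
theorem f125594 : Led Lsl_df (LP (LK LD1_c3 LD2_c42 LD3_c20)) = (LP (LK LD1_c1 LD2_c48 LD3_c14)) :=
  Lgr Lrot43 (Lpr_ct (f124653 IH) (Lpr_dt (f26195 IH) (Lpr_ct (f26189 IH) (Lpr_dt (f26213 IH) (Lpr_ct (K3.f12840 IH) (Lpr_dt (K4.f26246 IH) (Lpr_ct (K5.f26226 IH) (Lpr_dt (K5.f125586 IH) (Lpr_ct (K5.f125587 IH) (Lpr_dt (K5.f120992 IH) (Lpr_ct (K4.f120982 IH) (Lpr_dt (K4.f120983 IH) (Lpr_ct (K4.f120855 IH) (Lpr_dt (K4.f124107 IH) (Lpr_ct (K5.f124121 IH) (Lpn (LP (LK LD1_c1 LD2_c48 LD3_c14))))))))))))))))))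
theorem f144341 : Led Lsl_gf (LP (LK LD1_c1 LD2_c48 LD3_c14)) = (LP (LK LD1_c1 LD2_c35 LD3_c58)) :=
  Lgr Lrot76 (Lpe (K5.f125574 IH) (Lpe (K5.f125596 IH) (Lpr_gt (f144339 IH) (Lpn (LP (LK LD1_c1 LD2_c35 LD3_c58))))))
theorem f11768 : Led Lsl_ct (LP (LK LD1_c0 LD2_c53 LD3_c40)) = (LP (LK LD1_c1 LD2_c54 LD3_c9)) :=
  Lre_c IH (LK LD1_c0 LD2_c53 LD3_c40) (LK LD1_c1 LD2_c54 LD3_c9) Lrfl Lrfl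
theorem f134777 : Led Lsl_df (LP (LK LD1_c1 LD2_c35 LD3_c58)) = (LP (LK LD1_c1 LD2_c54 LD3_c9)) :=
  Lgr Lrot43 (Lpr_ct (f24847 IH) (Lpr_dt (K5.f24842 IH) (Lpe (K5.f21103 IH) (Lpr_dt (K5.f134775 IH) (Lpr_ct (K5.f134750 IH) (Lpr_dt (K5.f134727 IH) (Lpe (K5.f134764 IH) (Lpr_dt (K5.f13619 IH) (Lpr_ct (K5.f13618 IH) (Lpe (K5.f84582 IH) (Lpe (K2.f84628 IH) (Lpe (K5.f84763 IH) (Lpr_ct (K2.f11266 IH) (Lpr_dt (f11654 IH) (Lpr_ct (f11768 IH) (Lpn (LP (LK LD1_c1 LD2_c54 LD3_c9))))))))))))))))))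
theorem f146858 : Led Lsl_gf (LP (LK LD1_c1 LD2_c54 LD3_c9)) = (LP (LK LD1_c3 LD2_c14 LD3_c5)) :=
  Lgr Lrot148 (Lpe (f134777 IH) (Lpe (f144341 IH) (Lpe (f125594 IH) (Lpr_ct (f124653 IH) (Lpe (f124065 IH) (Lpe (K5.f26199 IH) (Lpe (f142456 IH) (Lpe (f144155 IH) (Lpr_ct (f146842 IH) (Lpn (LP (LK LD1_c3 LD2_c14 LD3_c5))))))))))))
theorem f122996 : Led Lsl_at (LP (LK LD1_c0 LD2_c53 LD3_c40)) = (LP (LK LD1_c1 LD2_c53 LD3_c61)) :=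
  Lre_a IH (LK LD1_c0 LD2_c53 LD3_c40) (LK LD1_c1 LD2_c53 LD3_c61) Lrfl Lrfl
theorem f134711 : Led Lsl_af (LP (LK LD1_c1 LD2_c54 LD3_c9)) = (LP (LK LD1_c1 LD2_c36 LD3_c0)) :=
  Lgr Lrot68 (Lpr_ct (f121002 IH) (Lpr_at (f122996 IH) (Lpr_ct (K5.f134709 IH) (Lpn (LP (LK LD1_c1 LD2_c36 LD3_c0))))))
theorem f134754 : Led Lsl_ft (LP (LK LD1_c1 LD2_c53 LD3_c61)) = (LP (LK LD1_c1 LD2_c53 LD3_c35)) :=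
  Lgr Lrot54 (Lpe (K5.f84906 IH) (Lpr_ff (K5.f134736 IH) (Lpe (f134753 IH) (Lpn (LP (LK LD1_c1 LD2_c53 LD3_c35))))))
theorem f134713 : Led Lsl_cf (LP (LK LD1_c1 LD2_c53 LD3_c61)) = (LP (LK LD1_c1 LD2_c36 LD3_c0)) :=
  Lgr Lrot11 (Lpr_ct (K5.f134709 IH) (Lpn (LP (LK LD1_c1 LD2_c36 LD3_c0))))
theorem f134773 : Led Lsl_ft (LP (LK LD1_c2 LD2_c22 LD3_c2)) = (LP (LK LD1_c1 LD2_c36 LD3_c0)) :=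
  Lgr Lrot4 (Lpr_cf (K5.f134764 IH) (Lpe (f134754 IH) (Lpr_cf (f134713 IH) (Lpn (LP (LK LD1_c1 LD2_c36 LD3_c0))))))
theorem f146861 : Led Lsl_gt (LP (LK LD1_c2 LD2_c22 LD3_c2)) = (LP (LK LD1_c3 LD2_c14 LD3_c5)) :=
  Lgr Lrot5 (Lpr_ft (f134773 IH) (Lpe (f134711 IH) (Lpr_gf (f146858 IH) (Lpn (LP (LK LD1_c3 LD2_c14 LD3_c5))))))
theorem f122180 : Led Lsl_bt (LP (LK LD1_c1 LD2_c47 LD3_c28)) = (LP (LK LD1_c3 LD2_c41 LD3_c2)) :=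
  Lre_b IH (LK LD1_c1 LD2_c47 LD3_c28) (LK LD1_c3 LD2_c41 LD3_c2) Lrfl Lrfl
theorem f122190 : Led Lsl_gt (LP (LK LD1_c3 LD2_c41 LD3_c2)) = (LP (LK LD1_c7 LD2_c22 LD3_c17)) :=
  Lre_g IH (LK LD1_c3 LD2_c41 LD3_c2) (LK LD1_c7 LD2_c22 LD3_c17) Lrfl Lrfl
theorem f111131 : Led Lsl_bt (LP (LK LD1_c6 LD2_c34 LD3_c6)) = (LP (LK LD1_c12 LD2_c34 LD3_c51)) :=
  Lre_b IH (LK LD1_c6 LD2_c34 LD3_c6) (LK LD1_c12 LD2_c34 LD3_c51) Lrfl Lrfl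
theorem f111284 : Led Lsl_bt (LP (LK LD1_c12 LD2_c33 LD3_c42)) = (LP (LK LD1_c7 LD2_c31 LD3_c13)) :=
  Lgr Lrot95 (Lpr_df (K4.f111280 IH) (Lpe (f111131 IH) (Lpe (K4.f111226 IH) (Lpn (LP (LK LD1_c7 LD2_c31 LD3_c13))))))
theorem f93552 : Led Lsl_bt (LP (LK LD1_c1 LD2_c50 LD3_c49)) = (LP (LK LD1_c3 LD2_c47 LD3_c25)) :=
  Lre_b IH (LK LD1_c1 LD2_c50 LD3_c49) (LK LD1_c3 LD2_c47 LD3_c25) Lrfl Lrfl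
theorem f111349 : Led Lsl_gt (LP (LK LD1_c7 LD2_c31 LD3_c13)) = (LP (LK LD1_c3 LD2_c47 LD3_c25)) :=
  Lgr Lrot164 (Lpe (f111284 IH) (Lpe (K4.f93223 IH) (Lpe (K4.f95646 IH) (Lpr_cf (K4.f111345 IH) (Lpr_gf (K4.f108736 IH) (Lpe (K4.f64626 IH) (Lpe (K4.f108681 IH) (Lpr_gf (K3.f93550 IH) (Lpe (K3.f93520 IH) (Lpr_bt (f93552 IH) (Lpn (LP (LK LD1_c3 LD2_c47 LD3_c25)))))))))))))
theorem f122273 : Led Lsl_af (LP (LK LD1_c6 LD2_c10 LD3_c42)) = (LP (LK LD1_c3 LD2_c50 LD3_c4)) :=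
  Lgr Lrot31 (Lpe (K4.f117056 IH) (Lpe (f111349 IH) (Lpr_ft (K5.f122262 IH) (Lpn (LP (LK LD1_c3 LD2_c50 LD3_c4))))))
theorem f122281 : Led Lsl_ft (LP (LK LD1_c6 LD2_c10 LD3_c42)) = (LP (LK LD1_c3 LD2_c45 LD3_c13)) :=
  Lgr Lrot101 (Lpr_af (f122273 IH) (Lpe (K5.f122262 IH) (Lpe (K4.f95603 IH) (Lpn (LP (LK LD1_c3 LD2_c45 LD3_c13))))))
theorem f111167 : Led Lsl_dt (LP (LK LD1_c3 LD2_c45 LD3_c13)) = (LP (LK LD1_c3 LD2_c29 LD3_c49)) :=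
  Lgr Lrot79 (Lpe (K4.f62894 IH) (Lpe (K4.f93110 IH) (Lpr_bf (K4.f111155 IH) (Lpn (LP (LK LD1_c3 LD2_c29 LD3_c49))))))
theorem f122283 : Led Lsl_df (LP (LK LD1_c6 LD2_c10 LD3_c42)) = (LP (LK LD1_c6 LD2_c34 LD3_c5)) :=
  Lgr Lrot78 (Lpr_ft (f122281 IH) (Lpr_dt (f111167 IH) (Lpe (K4.f111145 IH) (Lpn (LP (LK LD1_c6 LD2_c34 LD3_c5))))))
theorem f142532 : Led Lsl_df (LP (LK LD1_c3 LD2_c42 LD3_c36)) = (LP (LK LD1_c7 LD2_c22 LD3_c17)) :=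
  Lgr Lrot174 (Lpr_ct (f142521 IH) (Lpe (K4.f117151 IH) (Lpe (K4.f117148 IH) (Lpr_df (f122283 IH) (Lpe (K4.f94533 IH) (Lpe (K4.f123555 IH) (Lpr_gt (K4.f123564 IH) (Lpr_dt (K5.f122154 IH) (Lpr_gt (f122190 IH) (Lpn (LP (LK LD1_c7 LD2_c22 LD3_c17))))))))))))
theorem f142539 : Led Lsl_bf (LP (LK LD1_c7 LD2_c22 LD3_c17)) = (LP (LK LD1_c13 LD2_c55 LD3_c32)) :=
  Lgr Lrot93 (Lpe (f142532 IH) (Lpr_bt (f142537 IH) (Lpe (K5.f122681 IH) (Lpn (LP (LK LD1_c13 LD2_c55 LD3_c32))))))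
theorem f116502 : Led Lsl_ct (LP (LK LD1_c3 LD2_c41 LD3_c13)) = (LP (LK LD1_c7 LD2_c22 LD3_c50)) :=
  Lre_c IH (LK LD1_c3 LD2_c41 LD3_c13) (LK LD1_c7 LD2_c22 LD3_c50) Lrfl Lrfl
theorem f116377 : Led Lsl_bt (LP (LK LD1_c3 LD2_c41 LD3_c13)) = (LP (LK LD1_c1 LD2_c47 LD3_c33)) :=
  Lre_b IH (LK LD1_c3 LD2_c41 LD3_c13) (LK LD1_c1 LD2_c47 LD3_c33) Lrfl Lrfl
theorem f146870 : Led Lsl_gf (LP (LK LD1_c1 LD2_c53 LD3_c35)) = (LP (LK LD1_c1 LD2_c47 LD3_c33)) :=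
  Lgr Lrot181 (Lpe (K5.f134764 IH) (Lpr_gt (f146861 IH) (Lpe (f146842 IH) (Lpr_bt (f122180 IH) (Lpr_gt (f122190 IH) (Lpr_bf (f142539 IH) (Lpe (K5.f129388 IH) (Lpr_gt (K5.f116509 IH) (Lpe (f116502 IH) (Lpr_bt (f116377 IH) (Lpn (LP (LK LD1_c1 LD2_c47 LD3_c33)))))))))))))
theorem f124028 : Led Lsl_ct (LP (LK LD1_c0 LD2_c50 LD3_c34)) = (LP (LK LD1_c0 LD2_c47 LD3_c58)) :=
  Lgr Lrot59 (Lpr_cf (K4.f124019 IH) (Lpn (LP (LK LD1_c0 LD2_c47 LD3_c58))))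
theorem f124021 : Led Lsl_dt (LP (LK LD1_c1 LD2_c47 LD3_c36)) = (LP (LK LD1_c0 LD2_c50 LD3_c34)) :=
  Lre_d IH (LK LD1_c1 LD2_c47 LD3_c36) (LK LD1_c0 LD2_c50 LD3_c34) Lrfl Lrfl
theorem f142325 : Led Lsl_gt (LP (LK LD1_c1 LD2_c53 LD3_c35)) = (LP (LK LD1_c1 LD2_c47 LD3_c36)) :=
  Lgr Lrot49 (Lpe (K5.f134727 IH) (Lpr_gf (f142320 IH) (Lpe (K4.f121010 IH) (Lpr_gt (K4.f121227 IH) (Lpr_dt (K2.f84762 IH) (Lpr_gt (K2.f84732 IH) (Lpr_dt (K3.f84746 IH) (Lpe (f124028 IH) (Lpe (f124021 IH) (Lpn (LP (LK LD1_c1 LD2_c47 LD3_c36))))))))))))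
theorem f116340 : Led Lsl_bt (LP (LK LD1_c7 LD2_c22 LD3_c58)) = (LP (LK LD1_c13 LD2_c57 LD3_c17)) :=
  Lre_b IH (LK LD1_c7 LD2_c22 LD3_c58) (LK LD1_c13 LD2_c57 LD3_c17) Lrfl Lrfl
theorem f123861 : Led Lsl_bt (LP (LK LD1_c14 LD2_c6 LD3_c54)) = (LP (LK LD1_c7 LD2_c28 LD3_c46)) :=
  Lre_b IH (LK LD1_c14 LD2_c6 LD3_c54) (LK LD1_c7 LD2_c28 LD3_c46) Lrfl Lrfl
theorem f123862 : Led Lsl_ef (LP (LK LD1_c7 LD2_c22 LD3_c58)) = (LP (LK LD1_c7 LD2_c28 LD3_c46)) :=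
  Lgr Lrot29 (Lpr_bt (f116340 IH) (Lpr_et (K5.f123851 IH) (Lpr_bt (f123861 IH) (Lpn (LP (LK LD1_c7 LD2_c28 LD3_c46))))))
theorem f116342 : Led Lsl_ft (LP (LK LD1_c7 LD2_c22 LD3_c58)) = (LP (LK LD1_c3 LD2_c41 LD3_c15)) :=
  Lre_f IH (LK LD1_c7 LD2_c22 LD3_c58) (LK LD1_c3 LD2_c41 LD3_c15) Lrfl Lrfl
theorem f116367 : Led Lsl_et (LP (LK LD1_c3 LD2_c41 LD3_c15)) = (LP (LK LD1_c1 LD2_c47 LD3_c33)) :=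
  Lre_e IH (LK LD1_c3 LD2_c41 LD3_c15) (LK LD1_c1 LD2_c47 LD3_c33) Lrfl Lrfl
theorem f123872 : Led Lsl_ft (LP (LK LD1_c3 LD2_c43 LD3_c59)) = (LP (LK LD1_c7 LD2_c28 LD3_c46)) :=
  Lre_f IH (LK LD1_c3 LD2_c43 LD3_c59) (LK LD1_c7 LD2_c28 LD3_c46) Lrfl Lrfl
theorem f123873 : Led Lsl_et (LP (LK LD1_c1 LD2_c49 LD3_c1)) = (LP (LK LD1_c3 LD2_c43 LD3_c59)) :=
  Lre_e IH (LK LD1_c1 LD2_c49 LD3_c1) (LK LD1_c3 LD2_c43 LD3_c59) Lrfl Lrfl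
theorem f123874 : Led Lsl_ft (LP (LK LD1_c1 LD2_c47 LD3_c33)) = (LP (LK LD1_c1 LD2_c49 LD3_c1)) :=
  Lgr Lrot86 (Lpe (f116367 IH) (Lpe (f116342 IH) (Lpr_ef (f123862 IH) (Lpe (f123872 IH) (Lpe (f123873 IH) (Lpn (LP (LK LD1_c1 LD2_c49 LD3_c1))))))))
theorem f146878 : Led Lsl_af (LP (LK LD1_c1 LD2_c47 LD3_c36)) = (LP (LK LD1_c1 LD2_c49 LD3_c1)) :=
  Lgr Lrot31 (Lpe (f142325 IH) (Lpr_gf (f146870 IH) (Lpr_ft (f123874 IH) (Lpn (LP (LK LD1_c1 LD2_c49 LD3_c1))))))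
theorem f116272 : Led Lsl_dt (LP (LK LD1_c1 LD2_c47 LD3_c33)) = (LP (LK LD1_c0 LD2_c50 LD3_c33)) :=
  Lre_d IH (LK LD1_c1 LD2_c47 LD3_c33) (LK LD1_c0 LD2_c50 LD3_c33) Lrfl Lrfl
theorem f116273 : Led Lsl_af (LP (LK LD1_c1 LD2_c47 LD3_c33)) = (LP (LK LD1_c1 LD2_c49 LD3_c4)) :=
  Lgr Lrot117 (Lpr_dt (f116272 IH) (Lpr_at (K4.f116121 IH) (Lpr_dt (K4.f116073 IH) (Lpn (LP (LK LD1_c1 LD2_c49 LD3_c4))))))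
theorem f146890 : Led Lsl_ft (LP (LK LD1_c1 LD2_c47 LD3_c36)) = (LP (LK LD1_c1 LD2_c49 LD3_c4)) :=
  Lgr Lrot101 (Lpr_af (f146878 IH) (Lpe (f123874 IH) (Lpr_af (f116273 IH) (Lpn (LP (LK LD1_c1 LD2_c49 LD3_c4))))))
theorem f4881 : Led Lsl_dt (LP (LK LD1_c0 LD2_c10 LD3_c18)) = (LP (LK LD1_c0 LD2_c4 LD3_c51)) :=
  Lre_d IH (LK LD1_c0 LD2_c10 LD3_c18) (LK LD1_c0 LD2_c4 LD3_c51) Lrfl Lrfl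
theorem f134849 : Led Lsl_df (LP (LK LD1_c0 LD2_c43 LD3_c23)) = (LP (LK LD1_c0 LD2_c45 LD3_c19)) :=
  Lgr Lrot153 (Lpr_gt (K2.f22503 IH) (Lpr_dt (K0.f23675 IH) (Lpr_cf (K0.f23667 IH) (Lpe (f4881 IH) (Lpe (K3.f4896 IH) (Lpe (K3.f108793 IH) (Lpr_gf (K5.f134845 IH) (Lpr_cf (K5.f21103 IH) (Lpr_gt (K5.f134801 IH) (Lpn (LP (LK LD1_c0 LD2_c45 LD3_c19))))))))))))
theorem f94213 : Led Lsl_ct (LP (LK LD1_c0 LD2_c43 LD3_c23)) = (LP (LK LD1_c1 LD2_c33 LD3_c34)) :=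
  Lre_c IH (LK LD1_c0 LD2_c43 LD3_c23) (LK LD1_c1 LD2_c33 LD3_c34) Lrfl Lrfl
theorem f146899 : Led Lsl_dt (LP (LK LD1_c1 LD2_c33 LD3_c34)) = (LP (LK LD1_c3 LD2_c13 LD3_c61)) :=
  Lre_d IH (LK LD1_c1 LD2_c33 LD3_c34) (LK LD1_c3 LD2_c13 LD3_c61) Lrfl Lrfl
theorem f146900 : Led Lsl_ct (LP (LK LD1_c3 LD2_c13 LD3_c61)) = (LP (LK LD1_c1 LD2_c47 LD3_c33)) :=
  Lgr Lrot98 (Lpe (f146899 IH) (Lpe (f94213 IH) (Lpr_df (f134849 IH) (Lpe (K2.f84747 IH) (Lpe (K4.f84755 IH) (Lpe (f124028 IH) (Lpe (f124021 IH) (Lpr_ft (f146890 IH) (Lpe (f116273 IH) (Lpn (LP (LK LD1_c1 LD2_c47 LD3_c33))))))))))))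
theorem f146904 : Led Lsl_cf (LP (LK LD1_c3 LD2_c13 LD3_c61)) = (LP (LK LD1_c1 LD2_c47 LD3_c33)) :=
  Lgr Lrot11 (Lpr_ct (f146900 IH) (Lpn (LP (LK LD1_c1 LD2_c47 LD3_c33))))
theorem f116300 : Led Lsl_et (LP (LK LD1_c7 LD2_c22 LD3_c57)) = (LP (LK LD1_c3 LD2_c41 LD3_c16)) :=
  Lre_e IH (LK LD1_c7 LD2_c22 LD3_c57) (LK LD1_c3 LD2_c41 LD3_c16) Lrfl Lrfl
theorem f116301 : Led Lsl_et (LP (LK LD1_c3 LD2_c44 LD3_c5)) = (LP (LK LD1_c7 LD2_c28 LD3_c60)) :=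
  Lre_e IH (LK LD1_c3 LD2_c44 LD3_c5) (LK LD1_c7 LD2_c28 LD3_c60) Lrfl Lrfl
theorem f116302 : Led Lsl_af (LP (LK LD1_c7 LD2_c22 LD3_c57)) = (LP (LK LD1_c7 LD2_c28 LD3_c60)) :=
  Lgr Lrot50 (Lpr_et (f116300 IH) (Lpr_at (K4.f116287 IH) (Lpr_et (f116301 IH) (Lpn (LP (LK LD1_c7 LD2_c28 LD3_c60))))))
theorem f116314 : Led Lsl_ft (LP (LK LD1_c7 LD2_c22 LD3_c57)) = (LP (LK LD1_c13 LD2_c57 LD3_c36)) :=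
  Lre_f IH (LK LD1_c7 LD2_c22 LD3_c57) (LK LD1_c13 LD2_c57 LD3_c36) Lrfl Lrfl
theorem f116107 : Led Lsl_ft (LP (LK LD1_c14 LD2_c7 LD3_c36)) = (LP (LK LD1_c7 LD2_c28 LD3_c60)) :=
  Lre_f IH (LK LD1_c14 LD2_c7 LD3_c36) (LK LD1_c7 LD2_c28 LD3_c60) Lrfl Lrfl
theorem f116315 : Led Lsl_at (LP (LK LD1_c13 LD2_c57 LD3_c36)) = (LP (LK LD1_c14 LD2_c7 LD3_c36)) :=
  Lgr Lrot66 (Lpe (f116314 IH) (Lpr_af (f116302 IH) (Lpe (f116107 IH) (Lpn (LP (LK LD1_c14 LD2_c7 LD3_c36))))))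
theorem f116328 : Led Lsl_dt (LP (LK LD1_c7 LD2_c22 LD3_c58)) = (LP (LK LD1_c13 LD2_c57 LD3_c36)) :=
  Lre_d IH (LK LD1_c7 LD2_c22 LD3_c58) (LK LD1_c13 LD2_c57 LD3_c36) Lrfl Lrfl
theorem f116105 : Led Lsl_dt (LP (LK LD1_c14 LD2_c7 LD3_c36)) = (LP (LK LD1_c7 LD2_c28 LD3_c61)) :=
  Lre_d IH (LK LD1_c14 LD2_c7 LD3_c36) (LK LD1_c7 LD2_c28 LD3_c61) Lrfl Lrfl
theorem f116329 : Led Lsl_af (LP (LK LD1_c7 LD2_c22 LD3_c58)) = (LP (LK LD1_c7 LD2_c28 LD3_c61)) :=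
  Lgr Lrot117 (Lpr_dt (f116328 IH) (Lpr_at (f116315 IH) (Lpr_dt (f116105 IH) (Lpn (LP (LK LD1_c7 LD2_c28 LD3_c61))))))
theorem f116338 : Led Lsl_at (LP (LK LD1_c7 LD2_c22 LD3_c58)) = (LP (LK LD1_c7 LD2_c28 LD3_c61)) :=
  Lgr Lrot100 (Lpr_af (f116329 IH) (Lpn (LP (LK LD1_c7 LD2_c28 LD3_c61))))
theorem f116350 : Led Lsl_ft (LP (LK LD1_c3 LD2_c41 LD3_c15)) = (LP (LK LD1_c7 LD2_c22 LD3_c58)) :=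
  Lre_f IH (LK LD1_c3 LD2_c41 LD3_c15) (LK LD1_c7 LD2_c22 LD3_c58) Lrfl Lrfl
theorem f116111 : Led Lsl_ft (LP (LK LD1_c7 LD2_c28 LD3_c61)) = (LP (LK LD1_c3 LD2_c44 LD3_c4)) :=
  Lre_f IH (LK LD1_c7 LD2_c28 LD3_c61) (LK LD1_c3 LD2_c44 LD3_c4) Lrfl Lrfl
theorem f116351 : Led Lsl_af (LP (LK LD1_c3 LD2_c41 LD3_c15)) = (LP (LK LD1_c3 LD2_c44 LD3_c4)) :=
  Lgr Lrot45 (Lpr_ft (f116350 IH) (Lpr_at (f116338 IH) (Lpr_ft (f116111 IH) (Lpn (LP (LK LD1_c3 LD2_c44 LD3_c4))))))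
theorem f116113 : Led Lsl_et (LP (LK LD1_c1 LD2_c49 LD3_c4)) = (LP (LK LD1_c3 LD2_c44 LD3_c4)) :=
  Lre_e IH (LK LD1_c1 LD2_c49 LD3_c4) (LK LD1_c3 LD2_c44 LD3_c4) Lrfl Lrfl
theorem f116368 : Led Lsl_at (LP (LK LD1_c1 LD2_c47 LD3_c33)) = (LP (LK LD1_c1 LD2_c49 LD3_c4)) :=
  Lgr Lrot80 (Lpe (f116367 IH) (Lpr_af (f116351 IH) (Lpe (f116113 IH) (Lpn (LP (LK LD1_c1 LD2_c49 LD3_c4))))))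
theorem f146902 : Led Lsl_af (LP (LK LD1_c3 LD2_c13 LD3_c61)) = (LP (LK LD1_c3 LD2_c43 LD3_c11)) :=
  Lgr Lrot68 (Lpr_ct (f146900 IH) (Lpr_at (f116368 IH) (Lpe (K4.f116074 IH) (Lpn (LP (LK LD1_c3 LD2_c43 LD3_c11))))))
theorem f12900 : Led Lsl_dt (LP (LK LD1_c0 LD2_c50 LD3_c33)) = (LP (LK LD1_c1 LD2_c47 LD3_c33)) :=
  Lre_d IH (LK LD1_c0 LD2_c50 LD3_c33) (LK LD1_c1 LD2_c47 LD3_c33) Lrfl Lrfl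
theorem f22622 : Led Lsl_ct (LP (LK LD1_c1 LD2_c33 LD3_c31)) = (LP (LK LD1_c0 LD2_c43 LD3_c22)) :=
  Lre_c IH (LK LD1_c1 LD2_c33 LD3_c31) (LK LD1_c0 LD2_c43 LD3_c22) Lrfl Lrfl
theorem f146908 : Led Lsl_dt (LP (LK LD1_c3 LD2_c13 LD3_c56)) = (LP (LK LD1_c1 LD2_c33 LD3_c31)) :=
  Lre_d IH (LK LD1_c3 LD2_c13 LD3_c56) (LK LD1_c1 LD2_c33 LD3_c31) Lrfl Lrfl
theorem f146911 : Led Lsl_ff (LP (LK LD1_c3 LD2_c43 LD3_c11)) = (LP (LK LD1_c3 LD2_c13 LD3_c56)) :=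
  Lgr Lrot103 (Lpe (f146902 IH) (Lpr_cf (f146904 IH) (Lpe (f12900 IH) (Lpr_cf (K3.f108777 IH) (Lpe (K3.f108776 IH) (Lpe (K3.f109380 IH) (Lpr_df (K3.f109390 IH) (Lpe (f22622 IH) (Lpe (f146908 IH) (Lpn (LP (LK LD1_c3 LD2_c13 LD3_c56))))))))))))
theorem f147446 : Led Lsl_gt (LP (LK LD1_c3 LD2_c13 LD3_c56)) = (LP (LK LD1_c6 LD2_c31 LD3_c25)) :=
  Lre_g IH (LK LD1_c3 LD2_c13 LD3_c56) (LK LD1_c6 LD2_c31 LD3_c25) Lrfl Lrfl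
theorem f147447 : Led Lsl_gf (LP (LK LD1_c3 LD2_c13 LD3_c61)) = (LP (LK LD1_c6 LD2_c31 LD3_c25)) :=
  Lgr Lrot76 (Lpr_af (f146902 IH) (Lpr_ff (f146911 IH) (Lpr_gt (f147446 IH) (Lpn (LP (LK LD1_c6 LD2_c31 LD3_c25))))))
theorem f147453 : Led Lsl_df (LP (LK LD1_c3 LD2_c39 LD3_c56)) = (LP (LK LD1_c6 LD2_c31 LD3_c25)) :=
  Lgr Lrot155 (Lpe (K4.f124220 IH) (Lpr_ct (K4.f107059 IH) (Lpe (K5.f129269 IH) (Lpr_ct (K5.f58842 IH) (Lpr_dt (f124138 IH) (Lpr_cf (K5.f134764 IH) (Lpr_gf (f146870 IH) (Lpe (f146900 IH) (Lpr_gf (f147447 IH) (Lpn (LP (LK LD1_c6 LD2_c31 LD3_c25))))))))))))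
theorem f117295 : Led Lsl_dt (LP (LK LD1_c1 LD2_c21 LD3_c3)) = (LP (LK LD1_c2 LD2_c50 LD3_c0)) :=
  Lre_d IH (LK LD1_c1 LD2_c21 LD3_c3) (LK LD1_c2 LD2_c50 LD3_c0) Lrfl Lrfl
theorem f132802 : Led Lsl_bf (LP (LK LD1_c1 LD2_c21 LD3_c3)) = (LP (LK LD1_c1 LD2_c6 LD3_c29)) :=
  Lgr Lrot61 (Lpe (K5.f132391 IH) (Lpr_bt (K5.f58962 IH) (Lpr_ft (f132800 IH) (Lpn (LP (LK LD1_c1 LD2_c6 LD3_c29))))))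
theorem f137310 : Led Lsl_dt (LP (LK LD1_c1 LD2_c22 LD3_c51)) = (LP (LK LD1_c1 LD2_c6 LD3_c29)) :=
  Lgr Lrot79 (Lpr_bf (f137304 IH) (Lpe (f117295 IH) (Lpr_bf (f132802 IH) (Lpn (LP (LK LD1_c1 LD2_c6 LD3_c29))))))
theorem f72987 : Led Lsl_dt (LP (LK LD1_c2 LD2_c49 LD3_c6)) = (LP (LK LD1_c5 LD2_c46 LD3_c48)) :=
  Lre_d IH (LK LD1_c2 LD2_c49 LD3_c6) (LK LD1_c5 LD2_c46 LD3_c48) Lrfl Lrfl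
theorem f147436 : Led Lsl_bt (LP (LK LD1_c6 LD2_c31 LD3_c23)) = (LP (LK LD1_c3 LD2_c13 LD3_c56)) :=
  Lre_b IH (LK LD1_c6 LD2_c31 LD3_c23) (LK LD1_c3 LD2_c13 LD3_c56) Lrfl Lrfl
theorem f147473 : Led Lsl_ct (LP (LK LD1_c5 LD2_c46 LD3_c48)) = (LP (LK LD1_c6 LD2_c31 LD3_c23)) :=
  Lgr Lrot191 (Lpe (f72987 IH) (Lpe (K5.f132574 IH) (Lpr_bf (K5.f132580 IH) (Lpe (K4.f60939 IH) (Lpe (f137310 IH) (Lpe (K2.f22812 IH) (Lpe (K2.f59463 IH) (Lpr_cf (K1.f59479 IH) (Lpe (K1.f23375 IH) (Lpe (K0.f23346 IH) (Lpe (K0.f13466 IH) (Lpe (K0.f13483 IH) (Lpr_df (K2.f58920 IH) (Lpe (K4.f79042 IH) (Lpe (K4.f114968 IH) (Lpe (K5.f12573 IH) (Lpr_df (f147453 IH) (Lpe (f147446 IH) (Lpe (f147436 IH) (Lpn (LP (LK LD1_c6 LD2_c31 LD3_c23))))))))))))))))))))))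
theorem f100227 : Led Lsl_gt (LP (LK LD1_c4 LD2_c36 LD3_c58)) = (LP (LK LD1_c2 LD2_c15 LD3_c56)) :=
  Lre_g IH (LK LD1_c4 LD2_c36 LD3_c58) (LK LD1_c2 LD2_c15 LD3_c56) Lrfl Lrfl
theorem f132578 : Led Lsl_df (LP (LK LD1_c2 LD2_c49 LD3_c59)) = (LP (LK LD1_c4 LD2_c36 LD3_c58)) :=
  Lgr Lrot155 (Lpr_gt (K5.f132574 IH) (Lpr_ct (K5.f56600 IH) (Lpr_gt (K5.f56599 IH) (Lpr_ct (K5.f56597 IH) (Lpr_dt (K5.f60263 IH) (Lpe (f60350 IH) (Lpr_gf (f99804 IH) (Lpe (f72270 IH) (Lpe (f100227 IH) (Lpn (LP (LK LD1_c4 LD2_c36 LD3_c58))))))))))))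
theorem f99780 : Led Lsl_gt (LP (LK LD1_c2 LD2_c15 LD3_c42)) = (LP (LK LD1_c4 LD2_c36 LD3_c58)) :=
  Lre_g IH (LK LD1_c2 LD2_c15 LD3_c42) (LK LD1_c4 LD2_c36 LD3_c58) Lrfl Lrfl
theorem f147484 : Led Lsl_dt (LP (LK LD1_c3 LD2_c13 LD3_c55)) = (LP (LK LD1_c6 LD2_c31 LD3_c23)) :=
  Lre_d IH (LK LD1_c3 LD2_c13 LD3_c55) (LK LD1_c6 LD2_c31 LD3_c23) Lrfl Lrfl
theorem f147485 : Led Lsl_gt (LP (LK LD1_c6 LD2_c10 LD3_c57)) = (LP (LK LD1_c3 LD2_c13 LD3_c55)) :=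
  Lgr Lrot189 (Lpr_df (K5.f99806 IH) (Lpe (K5.f99777 IH) (Lpr_ct (K5.f99737 IH) (Lpr_gt (f99780 IH) (Lpe (f132578 IH) (Lpr_gt (K5.f132574 IH) (Lpr_dt (f72987 IH) (Lpr_ct (f147473 IH) (Lpe (f147484 IH) (Lpn (LP (LK LD1_c3 LD2_c13 LD3_c55))))))))))))
theorem f56860 : Led Lsl_dt (LP (LK LD1_c3 LD2_c17 LD3_c46)) = (LP (LK LD1_c1 LD2_c35 LD3_c25)) :=
  Lre_d IH (LK LD1_c3 LD2_c17 LD3_c46) (LK LD1_c1 LD2_c35 LD3_c25) Lrfl Lrfl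
theorem f56829 : Led Lsl_dt (LP (LK LD1_c1 LD2_c36 LD3_c33)) = (LP (LK LD1_c3 LD2_c20 LD3_c20)) :=
  Lre_d IH (LK LD1_c1 LD2_c36 LD3_c33) (LK LD1_c3 LD2_c20 LD3_c20) Lrfl Lrfl
theorem f147492 : Led Lsl_cf (LP (LK LD1_c3 LD2_c20 LD3_c20)) = (LP (LK LD1_c3 LD2_c13 LD3_c55)) :=
  Lgr Lrot99 (Lpe (f56829 IH) (Lpe (f56752 IH) (Lpe (K4.f24318 IH) (Lpe (f56861 IH) (Lpe (K4.f56857 IH) (Lpe (f56860 IH) (Lpr_gt (f116863 IH) (Lpr_ct (f60365 IH) (Lpr_gt (f147485 IH) (Lpn (LP (LK LD1_c3 LD2_c13 LD3_c55))))))))))))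
theorem f56830 : Led Lsl_gt (LP (LK LD1_c3 LD2_c20 LD3_c20)) = (LP (LK LD1_c6 LD2_c44 LD3_c23)) :=
  Lre_g IH (LK LD1_c3 LD2_c20 LD3_c20) (LK LD1_c6 LD2_c44 LD3_c23) Lrfl Lrfl
theorem f80096 : Led Lsl_dt (LP (LK LD1_c1 LD2_c35 LD3_c26)) = (LP (LK LD1_c3 LD2_c17 LD3_c48)) :=
  Lre_d IH (LK LD1_c1 LD2_c35 LD3_c26) (LK LD1_c3 LD2_c17 LD3_c48) Lrfl Lrfl
theorem f35239 : Led Lsl_gt (LP (LK LD1_c4 LD2_c25 LD3_c46)) = (LP (LK LD1_c2 LD2_c10 LD3_c18)) :=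
  Lre_g IH (LK LD1_c4 LD2_c25 LD3_c46) (LK LD1_c2 LD2_c10 LD3_c18) Lrfl Lrfl
theorem f141735 : Led Lsl_df (LP (LK LD1_c4 LD2_c25 LD3_c46)) = (LP (LK LD1_c6 LD2_c44 LD3_c21)) :=
  Lgr Lrot153 (Lpr_gt (f35239 IH) (Lpr_dt (f99947 IH) (Lpr_cf (f99948 IH) (Lpe (f99995 IH) (Lpe (f15594 IH) (Lpe (f80096 IH) (Lpe (f80051 IH) (Lpe (f58896 IH) (Lpr_gt (f141733 IH) (Lpn (LP (LK LD1_c6 LD2_c44 LD3_c21))))))))))))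
theorem f36591 : Led Lsl_ct (LP (LK LD1_c1 LD2_c5 LD3_c1)) = (LP (LK LD1_c0 LD2_c29 LD3_c42)) :=
  Lre_c IH (LK LD1_c1 LD2_c5 LD3_c1) (LK LD1_c0 LD2_c29 LD3_c42) Lrfl Lrfl
theorem f141752 : Led Lsl_gf (LP (LK LD1_c4 LD2_c38 LD3_c4)) = (LP (LK LD1_c6 LD2_c44 LD3_c21)) :=
  Lgr Lrot147 (Lpr_ct (K0.f26381 IH) (Lpr_gt (K0.f26380 IH) (Lpr_ct (f36591 IH) (Lpe (K5.f79956 IH) (Lpe (K2.f27174 IH) (Lpe (K5.f26590 IH) (Lpe (f26591 IH) (Lpe (f35239 IH) (Lpr_df (f141735 IH) (Lpn (LP (LK LD1_c6 LD2_c44 LD3_c21))))))))))))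
theorem f141755 : Led Lsl_df (LP (LK LD1_c4 LD2_c37 LD3_c8)) = (LP (LK LD1_c6 LD2_c44 LD3_c23)) :=
  Lgr Lrot84 (Lpe (f100281 IH) (Lpe (K4.f73026 IH) (Lpr_gf (f132546 IH) (Lpr_df (K4.f80025 IH) (Lpr_gf (f141752 IH) (Lpe (f139703 IH) (Lpr_gt (f139698 IH) (Lpr_dt (f56829 IH) (Lpr_gt (f56830 IH) (Lpn (LP (LK LD1_c6 LD2_c44 LD3_c23))))))))))))
theorem f99929 : Led Lsl_dt (LP (LK LD1_c2 LD2_c15 LD3_c58)) = (LP (LK LD1_c4 LD2_c37 LD3_c31)) :=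
  Lre_d IH (LK LD1_c2 LD2_c15 LD3_c58) (LK LD1_c4 LD2_c37 LD3_c31) Lrfl Lrfl
theorem f22624 : Led Lsl_gt (LP (LK LD1_c3 LD2_c13 LD3_c55)) = (LP (LK LD1_c6 LD2_c31 LD3_c21)) :=
  Lre_g IH (LK LD1_c3 LD2_c13 LD3_c55) (LK LD1_c6 LD2_c31 LD3_c21) Lrfl Lrfl
theorem f147499 : Led Lsl_df (LP (LK LD1_c5 LD2_c46 LD3_c26)) = (LP (LK LD1_c6 LD2_c31 LD3_c21)) :=
  Lgr Lrot153 (Lpr_gt (K5.f99738 IH) (Lpe (f141383 IH) (Lpe (f141379 IH) (Lpe (f99929 IH) (Lpe (K4.f99664 IH) (Lpr_df (f141755 IH) (Lpe (f56830 IH) (Lpr_cf (f147492 IH) (Lpr_gt (f22624 IH) (Lpn (LP (LK LD1_c6 LD2_c31 LD3_c21))))))))))))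
theorem f69335 : Led Lsl_ct (LP (LK LD1_c0 LD2_c28 LD3_c21)) = (LP (LK LD1_c0 LD2_c14 LD3_c43)) :=
  Lgr Lrot59 (Lpr_cf (K2.f69327 IH) (Lpn (LP (LK LD1_c0 LD2_c14 LD3_c43))))
theorem f22623 : Led Lsl_bt (LP (LK LD1_c1 LD2_c33 LD3_c31)) = (LP (LK LD1_c3 LD2_c13 LD3_c55)) :=
  Lre_b IH (LK LD1_c1 LD2_c33 LD3_c31) (LK LD1_c3 LD2_c13 LD3_c55) Lrfl Lrfl
theorem f22498 : Led Lsl_ct (LP (LK LD1_c0 LD2_c43 LD3_c22)) = (LP (LK LD1_c1 LD2_c33 LD3_c31)) :=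
  Lre_c IH (LK LD1_c0 LD2_c43 LD3_c22) (LK LD1_c1 LD2_c33 LD3_c31) Lrfl Lrfl
theorem f147508 : Led Lsl_dt (LP (LK LD1_c0 LD2_c45 LD3_c18)) = (LP (LK LD1_c0 LD2_c43 LD3_c22)) :=
  Lgr Lrot182 (Lpe (K3.f9670 IH) (Lpe (K3.f7369 IH) (Lpe (K0.f7366 IH) (Lpe (K0.f7305 IH) (Lpe (K0.f7304 IH) (Lpr_bf (K4.f9725 IH) (Lpr_cf (K1.f59630 IH) (Lpe (K2.f58969 IH) (Lpe (K2.f59527 IH) (Lpe (K2.f37743 IH) (Lpe (f69335 IH) (Lpe (K2.f60409 IH) (Lpe (K2.f70559 IH) (Lpe (f60400 IH) (Lpe (f60350 IH) (Lpr_df (f147499 IH) (Lpe (f22624 IH) (Lpe (f22623 IH) (Lpe (f22498 IH) (Lpn (LP (LK LD1_c0 LD2_c43 LD3_c22))))))))))))))))))))))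
theorem f147517 : Led Lsl_gt (LP (LK LD1_c6 LD2_c31 LD3_c26)) = (LP (LK LD1_c3 LD2_c13 LD3_c56)) :=
  Lre_g IH (LK LD1_c6 LD2_c31 LD3_c26) (LK LD1_c3 LD2_c13 LD3_c56) Lrfl Lrfl
theorem f147518 : Led Lsl_dt (LP (LK LD1_c3 LD2_c39 LD3_c55)) = (LP (LK LD1_c6 LD2_c31 LD3_c26)) :=
  Lgr Lrot57 (Lpe (K5.f124685 IH) (Lpe (K5.f107570 IH) (Lpe (K5.f129269 IH) (Lpe (K5.f84582 IH) (Lpr_gt (K3.f9670 IH) (Lpr_dt (f147508 IH) (Lpe (f22622 IH) (Lpe (f146908 IH) (Lpe (f147517 IH) (Lpn (LP (LK LD1_c6 LD2_c31 LD3_c26))))))))))))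
theorem f66559 : Led Lsl_gt (LP (LK LD1_c1 LD2_c36 LD3_c0)) = (LP (LK LD1_c3 LD2_c19 LD3_c5)) :=
  Lre_g IH (LK LD1_c1 LD2_c36 LD3_c0) (LK LD1_c3 LD2_c19 LD3_c5) Lrfl Lrfl
theorem f121250 : Led Lsl_cf (LP (LK LD1_c1 LD2_c49 LD3_c6)) = (LP (LK LD1_c3 LD2_c43 LD3_c4)) :=
  Lgr Lrot11 (Lpr_ct (K4.f121247 IH) (Lpn (LP (LK LD1_c3 LD2_c43 LD3_c4))))
theorem f90062 : Led Lsl_gf (LP (LK LD1_c1 LD2_c40 LD3_c0)) = (LP (LK LD1_c0 LD2_c50 LD3_c18)) :=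
  Lgr Lrot126 (Lpe (K3.f9909 IH) (Lpr_bt (K3.f9908 IH) (Lpr_gt (K2.f9907 IH) (Lpr_ct (K2.f11950 IH) (Lpr_gt (K2.f11951 IH) (Lpr_cf (K2.f90056 IH) (Lpr_bt (K2.f88639 IH) (Lpr_gt (K2.f17469 IH) (Lpe (K4.f12354 IH) (Lpr_ct (K4.f12369 IH) (Lpn (LP (LK LD1_c0 LD2_c50 LD3_c18)))))))))))))
theorem f12365 : Led Lsl_dt (LP (LK LD1_c1 LD2_c47 LD3_c2)) = (LP (LK LD1_c0 LD2_c50 LD3_c18)) :=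
  Lre_d IH (LK LD1_c1 LD2_c47 LD3_c2) (LK LD1_c0 LD2_c50 LD3_c18) Lrfl Lrfl
theorem f128051 : Led Lsl_gf (LP (LK LD1_c3 LD2_c43 LD3_c4)) = (LP (LK LD1_c6 LD2_c53 LD3_c49)) :=
  Lgr Lrot104 (Lpe (f121250 IH) (Lpr_df (K4.f121023 IH) (Lpe (K4.f121010 IH) (Lpr_gf (K5.f128047 IH) (Lpe (K5.f13548 IH) (Lpr_gf (f90062 IH) (Lpe (f12365 IH) (Lpe (f107574 IH) (Lpr_ct (K5.f12587 IH) (Lpn (LP (LK LD1_c6 LD2_c53 LD3_c49))))))))))))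
theorem f96448 : Led Lsl_et (LP (LK LD1_c3 LD2_c40 LD3_c3)) = (LP (LK LD1_c7 LD2_c20 LD3_c15)) :=
  Lre_e IH (LK LD1_c3 LD2_c40 LD3_c3) (LK LD1_c7 LD2_c20 LD3_c15) Lrfl Lrfl
theorem f122628 : Led Lsl_et (LP (LK LD1_c7 LD2_c21 LD3_c56)) = (LP (LK LD1_c3 LD2_c40 LD3_c51)) :=
  Lre_e IH (LK LD1_c7 LD2_c21 LD3_c56) (LK LD1_c3 LD2_c40 LD3_c51) Lrfl Lrfl
theorem f132034 : Led Lsl_at (LP (LK LD1_c7 LD2_c20 LD3_c15)) = (LP (LK LD1_c7 LD2_c21 LD3_c56)) :=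
  Lgr Lrot80 (Lpe (f96448 IH) (Lpr_af (K5.f132007 IH) (Lpe (f122628 IH) (Lpn (LP (LK LD1_c7 LD2_c21 LD3_c56))))))
theorem f96425 : Led Lsl_dt (LP (LK LD1_c13 LD2_c52 LD3_c41)) = (LP (LK LD1_c7 LD2_c20 LD3_c15)) :=
  Lre_d IH (LK LD1_c13 LD2_c52 LD3_c41) (LK LD1_c7 LD2_c20 LD3_c15) Lrfl Lrfl

end

end K6

end

end Cfsg.Agent.Helper28.S1692
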