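import Cfsg.Agent.Lib.Helper28.S1692.Seeds59

set_option autoImplicit false
set_option maxRecDepth 100000
set_option linter.all false

namespace Cfsg.Agent.Helper28.S1692

open Cfsg.Agent.Helper28
open Cfsg.Spor.ON (Gen)

noncomputable section

namespace K60
abbrev LD1_c0 := D1.c0
abbrev LD1_c1 := D1.c1
abbrev LD1_c2 := D1.c2
abbrev LD1_c3 := D1.c3
abbrev LD1_c4 := D1.c4
abbrev LD1_c5 := D1.c5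
abbrev LD1_c6 := D1.c6
abbrev LD1_c7 := D1.c7
abbrev LD1_c8 := D1.c8
abbrev LD1_c9 := D1.c9
abbrev LD1_c10 := D1.c10
abbrev LD1_c11 := D1.c11
abbrev LD1_c12 := D1.c12
abbrev LD1_c13 := D1.c13
abbrev LD1_c14 := D1.c14
abbrev LD1_c15 := D1.c15
abbrev LD1_c16 := D1.c16
abbrev LD1_c17 := D1.c17
abbrev LD1_c18 := D1.c18
abbrev LD1_c19 := D1.c19
abbrev LD1_c20 := D1.c20
abbrev LD1_c21 := D1.c21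
abbrev LD1_c22 := D1.c22
abbrev LD1_c23 := D1.c23
abbrev LD1_c24 := D1.c24
abbrev LD1_c25 := D1.c25
abbrev LD1_c26 := D1.c26
abbrev LD1_c27 := D1.c27
abbrev LD1_c28 := D1.c28
abbrev LD1_c29 := D1.c29
abbrev LD1_c30 := D1.c30
abbrev LD1_c31 := D1.c31
abbrev LD1_c32 := D1.c32
abbrev LD2_c0 := D2.c0
abbrev LD2_c1 := D2.c1
abbrev LD2_c2 := D2.c2
abbrev LD2_c3 := D2.c3
abbrev LD2_c4 := D2.c4
abbrev LD2_c5 := D2.c5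
abbrev LD2_c6 := D2.c6
abbrev LD2_c7 := D2.c7
abbrev LD2_c8 := D2.c8
abbrev LD2_c9 := D2.c9
abbrev LD2_c10 := D2.c10
abbrev LD2_c11 := D2.c11
abbrev LD2_c12 := D2.c12
abbrev LD2_c13 := D2.c13
abbrev LD2_c14 := D2.c14
abbrev LD2_c15 := D2.c15
abbrev LD2_c16 := D2.c16
abbrev LD2_c17 := D2.c17
abbrev LD2_c18 := D2.c18
abbrev LD2_c19 := D2.c19
abbrev LD2_c20 := D2.c20
abbrev LD2_c21 := D2.c21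
abbrev LD2_c22 := D2.c22
abbrev LD2_c23 := D2.c23
abbrev LD2_c24 := D2.c24
abbrev LD2_c25 := D2.c25
abbrev LD2_c26 := D2.c26
abbrev LD2_c27 := D2.c27
abbrev LD2_c28 := D2.c28
abbrev LD2_c29 := D2.c29
abbrev LD2_c30 := D2.c30
abbrev LD2_c31 := D2.c31
abbrev LD2_c32 := D2.c32
abbrev LD2_c33 := D2.c33
abbrev LD2_c34 := D2.c34
abbrev LD2_c35 := D2.c35
abbrev LD2_c36 := D2.c36
abbrev LD2_c37 := D2.c37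
abbrev LD2_c38 := D2.c38
abbrev LD2_c39 := D2.c39
abbrev LD2_c40 := D2.c40
abbrev LD2_c41 := D2.c41
abbrev LD2_c42 := D2.c42
abbrev LD2_c43 := D2.c43
abbrev LD2_c44 := D2.c44
abbrev LD2_c45 := D2.c45
abbrev LD2_c46 := D2.c46
abbrev LD2_c47 := D2.c47
abbrev LD2_c48 := D2.c48
abbrev LD2_c49 := D2.c49
abbrev LD2_c50 := D2.c50
abbrev LD2_c51 := D2.c51
abbrev LD2_c52 := D2.c52
abbrev LD2_c53 := D2.c53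
abbrev LD2_c54 := D2.c54
abbrev LD2_c55 := D2.c55
abbrev LD2_c56 := D2.c56
abbrev LD2_c57 := D2.c57
abbrev LD2_c58 := D2.c58
abbrev LD2_c59 := D2.c59
abbrev LD3_c0 := D3.c0
abbrev LD3_c1 := D3.c1
abbrev LD3_c2 := D3.c2
abbrev LD3_c3 := D3.c3
abbrev LD3_c4 := D3.c4
abbrev LD3_c5 := D3.c5
abbrev LD3_c6 := D3.c6
abbrev LD3_c7 := D3.c7
abbrev LD3_c8 := D3.c8
abbrev LD3_c9 := D3.c9
abbrev LD3_c10 := D3.c10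
abbrev LD3_c11 := D3.c11
abbrev LD3_c12 := D3.c12
abbrev LD3_c13 := D3.c13
abbrev LD3_c14 := D3.c14
abbrev LD3_c15 := D3.c15
abbrev LD3_c16 := D3.c16
abbrev LD3_c17 := D3.c17
abbrev LD3_c18 := D3.c18
abbrev LD3_c19 := D3.c19
abbrev LD3_c20 := D3.c20
abbrev LD3_c21 := D3.c21
abbrev LD3_c22 := D3.c22
abbrev LD3_c23 := D3.c23
abbrev LD3_c24 := D3.c24
abbrev LD3_c25 := D3.c25
abbrev LD3_c26 := D3.c26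
abbrev LD3_c27 := D3.c27
abbrev LD3_c28 := D3.c28
abbrev LD3_c29 := D3.c29
abbrev LD3_c30 := D3.c30
abbrev LD3_c31 := D3.c31
abbrev LD3_c32 := D3.c32
abbrev LD3_c33 := D3.c33
abbrev LD3_c34 := D3.c34
abbrev LD3_c35 := D3.c35
abbrev LD3_c36 := D3.c36
abbrev LD3_c37 := D3.c37
abbrev LD3_c38 := D3.c38
abbrev LD3_c39 := D3.c39
abbrev LD3_c40 := D3.c40
abbrev LD3_c41 := D3.c41
abbrev LD3_c42 := D3.c42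
abbrev LD3_c43 := D3.c43
abbrev LD3_c44 := D3.c44
abbrev LD3_c45 := D3.c45
abbrev LD3_c46 := D3.c46
abbrev LD3_c47 := D3.c47
abbrev LD3_c48 := D3.c48
abbrev LD3_c49 := D3.c49
abbrev LD3_c50 := D3.c50
abbrev LD3_c51 := D3.c51
abbrev LD3_c52 := D3.c52
abbrev LD3_c53 := D3.c53
abbrev LD3_c54 := D3.c54
abbrev LD3_c55 := D3.c55
abbrev LD3_c56 := D3.c56
abbrev LD3_c57 := D3.c57
abbrev LD3_c58 := D3.c58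
abbrev LD3_c59 := D3.c59
abbrev LD3_c60 := D3.c60
abbrev LD3_c61 := D3.c61
abbrev LG_g := Gen.g
abbrev Lsl_gt : Gen × Bool := sl_gt
alias Lfl_gt := fl_gt
alias Lpr_gt := pr_gt
abbrev Lsl_gf : Gen × Bool := sl_gf
alias Lfl_gf := fl_gf
alias Lpr_gf := pr_gf
alias Lre_g := re_g
alias Leoe_g := eoe_g
abbrev LG_a := Gen.a
abbrev Lsl_at : Gen × Bool := sl_at
alias Lfl_at := fl_at
alias Lpr_at := pr_at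
abbrev Lsl_af : Gen × Bool := sl_af
alias Lfl_af := fl_af
alias Lpr_af := pr_af
alias Lre_a := re_a
alias Leoe_a := eoe_a
abbrev LG_b := Gen.b
abbrev Lsl_bt : Gen × Bool := sl_bt
alias Lfl_bt := fl_bt
alias Lpr_bt := pr_bt
abbrev Lsl_bf : Gen × Bool := sl_bf
alias Lfl_bf := fl_bf
alias Lpr_bf := pr_bf
alias Lre_b := re_b
alias Leoe_b := eoe_b
abbrev LG_c := Gen.c
abbrev Lsl_ct : Gen × Bool := sl_ct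
alias Lfl_ct := fl_ct
alias Lpr_ct := pr_ct
abbrev Lsl_cf : Gen × Bool := sl_cf
alias Lfl_cf := fl_cf
alias Lpr_cf := pr_cf
alias Lre_c := re_c
alias Leoe_c := eoe_c
abbrev LG_d := Gen.d
abbrev Lsl_dt : Gen × Bool := sl_dt
alias Lfl_dt := fl_dt
alias Lpr_dt := pr_dt
abbrev Lsl_df : Gen × Bool := sl_df
alias Lfl_df := fl_df
alias Lpr_df := pr_df
alias Lre_d := re_d
alias Leoe_d := eoe_d
abbrev LG_e := Gen.e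
abbrev Lsl_et : Gen × Bool := sl_et
alias Lfl_et := fl_et
alias Lpr_et := pr_et
abbrev Lsl_ef : Gen × Bool := sl_ef
alias Lfl_ef := fl_ef
alias Lpr_ef := pr_ef
alias Lre_e := re_e
alias Leoe_e := eoe_e
abbrev LG_f := Gen.f
abbrev Lsl_ft : Gen × Bool := sl_ft
alias Lfl_ft := fl_ft
alias Lpr_ft := pr_ft
abbrev Lsl_ff : Gen × Bool := sl_ff
alias Lfl_ff := fl_ff
alias Lpr_ff := pr_ff
alias Lre_f := re_f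
alias Leoe_f := eoe_f
abbrev LK := Pt.mk
abbrev LQ : Type := Qt rels S
abbrev LP (p : Pt) : LQ := P p
abbrev Led (l : Gen × Bool) (c : LQ) : LQ := ed l c
abbrev LEOK (x : Gen) (p : Pt) : Prop := EntryOK rels S fwd inv o plet idx x p
alias Lpe := pe
alias Lpn := pn
alias Lgr := gr
alias Lpq := pq
alias Lpqs := pqs
alias Llr := lr
alias Leop := eop
alias Lefun := efun
alias Lecon := econ
theorem Lrfl {α : Sort _} {a : α} : a = a := rfl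
alias Lrot0 := rot0
alias Lrot1 := rot1
alias Lrot2 := rot2
alias Lrot3 := rot3
alias Lrot4 := rot4
alias Lrot5 := rot5
alias Lrot6 := rot6
alias Lrot7 := rot7
alias Lrot8 := rot8
alias Lrot9 := rot9
alias Lrot10 := rot10
alias Lrot11 := rot11
alias Lrot12 := rot12
alias Lrot13 := rot13
alias Lrot14 := rot14
alias Lrot15 := rot15
alias Lrot17 := rot17
alias Lrot18 := rot18
alias Lrot19 := rot19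
alias Lrot20 := rot20
alias Lrot21 := rot21
alias Lrot22 := rot22
alias Lrot23 := rot23
alias Lrot24 := rot24
alias Lrot25 := rot25
alias Lrot26 := rot26
alias Lrot28 := rot28
alias Lrot29 := rot29
alias Lrot30 := rot30
alias Lrot31 := rot31
alias Lrot33 := rot33
alias Lrot34 := rot34
alias Lrot35 := rot35
alias Lrot36 := rot36
alias Lrot37 := rot37
alias Lrot38 := rot38
alias Lrot39 := rot39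
alias Lrot40 := rot40
alias Lrot42 := rot42
alias Lrot44 := rot44
alias Lrot45 := rot45
alias Lrot46 := rot46
alias Lrot47 := rot47
alias Lrot48 := rot48
alias Lrot49 := rot49
alias Lrot50 := rot50
alias Lrot51 := rot51
alias Lrot52 := rot52
alias Lrot54 := rot54
alias Lrot56 := rot56
alias Lrot57 := rot57
alias Lrot58 := rot58
alias Lrot59 := rot59
alias Lrot60 := rot60
alias Lrot61 := rot61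
alias Lrot62 := rot62
alias Lrot63 := rot63
alias Lrot64 := rot64
alias Lrot65 := rot65
alias Lrot66 := rot66
alias Lrot67 := rot67
alias Lrot68 := rot68
alias Lrot69 := rot69
alias Lrot70 := rot70
alias Lrot71 := rot71
alias Lrot72 := rot72
alias Lrot73 := rot73
alias Lrot74 := rot74
alias Lrot75 := rot75
alias Lrot76 := rot76
alias Lrot77 := rot77
alias Lrot78 := rot78
alias Lrot79 := rot79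
alias Lrot80 := rot80
alias Lrot81 := rot81
alias Lrot82 := rot82
alias Lrot83 := rot83
alias Lrot84 := rot84
alias Lrot86 := rot86
alias Lrot87 := rot87
alias Lrot88 := rot88
alias Lrot90 := rot90
alias Lrot91 := rot91
alias Lrot92 := rot92
alias Lrot93 := rot93
alias Lrot94 := rot94
alias Lrot95 := rot95
alias Lrot96 := rot96
alias Lrot97 := rot97
alias Lrot98 := rot98
alias Lrot99 := rot99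
alias Lrot100 := rot100
alias Lrot101 := rot101
alias Lrot103 := rot103
alias Lrot104 := rot104
alias Lrot105 := rot105
alias Lrot106 := rot106
alias Lrot107 := rot107
alias Lrot108 := rot108
alias Lrot110 := rot110
alias Lrot111 := rot111
alias Lrot112 := rot112
alias Lrot113 := rot113
alias Lrot114 := rot114
alias Lrot116 := rot116
alias Lrot117 := rot117
alias Lrot118 := rot118
alias Lrot119 := rot119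
alias Lrot120 := rot120
alias Lrot121 := rot121
alias Lrot122 := rot122
alias Lrot123 := rot123
alias Lrot124 := rot124
alias Lrot125 := rot125
alias Lrot126 := rot126
alias Lrot127 := rot127
alias Lrot128 := rot128
alias Lrot129 := rot129
alias Lrot130 := rot130
alias Lrot131 := rot131
alias Lrot132 := rot132
alias Lrot133 := rot133
alias Lrot134 := rot134
alias Lrot135 := rot135
alias Lrot136 := rot136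
alias Lrot137 := rot137
alias Lrot138 := rot138
alias Lrot139 := rot139
alias Lrot141 := rot141
alias Lrot142 := rot142
alias Lrot143 := rot143
alias Lrot144 := rot144
alias Lrot145 := rot145
alias Lrot147 := rot147
alias Lrot148 := rot148
alias Lrot149 := rot149
alias Lrot150 := rot150
alias Lrot151 := rot151
alias Lrot152 := rot152
alias Lrot153 := rot153
alias Lrot154 := rot154
alias Lrot155 := rot155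
alias Lrot156 := rot156
alias Lrot158 := rot158
alias Lrot160 := rot160
alias Lrot161 := rot161
alias Lrot162 := rot162
alias Lrot163 := rot163
alias Lrot164 := rot164
alias Lrot165 := rot165
alias Lrot166 := rot166
alias Lrot168 := rot168
alias Lrot169 := rot169
alias Lrot170 := rot170
alias Lrot171 := rot171
alias Lrot172 := rot172
alias Lrot174 := rot174
alias Lrot175 := rot175
alias Lrot176 := rot176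
alias Lrot177 := rot177
alias Lrot178 := rot178
alias Lrot181 := rot181
alias Lrot183 := rot183
alias Lrot185 := rot185
alias Lrot190 := rot190

section
variable (IH : IHT)
include IH

theorem f119189 : Led Lsl_ct (LP (LK LD1_c12 LD2_c40 LD3_c16)) = (LP (LK LD1_c6 LD2_c37 LD3_c13)) :=
  Lre_c IH (LK LD1_c12 LD2_c40 LD3_c16) (LK LD1_c6 LD2_c37 LD3_c13) Lrfl Lrfl
theorem f651904 : Led Lsl_at (LP (LK LD1_c21 LD2_c42 LD3_c61)) = (LP (LK LD1_c12 LD2_c40 LD3_c16)) :=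
  Lgr Lrot107 (Lpe (K59.f651860 IH) (Lpr_af (K56.f651900 IH) (Lpe (f119189 IH) (Lpn (LP (LK LD1_c12 LD2_c40 LD3_c16))))))
theorem f650680 : Led Lsl_ct (LP (LK LD1_c6 LD2_c37 LD3_c8)) = (LP (LK LD1_c12 LD2_c40 LD3_c10)) :=
  Lre_c IH (LK LD1_c6 LD2_c37 LD3_c8) (LK LD1_c12 LD2_c40 LD3_c10) Lrfl Lrfl
theorem f118597 : Led Lsl_ct (LP (LK LD1_c21 LD2_c42 LD3_c61)) = (LP (LK LD1_c12 LD2_c36 LD3_c47)) :=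
  Lre_c IH (LK LD1_c21 LD2_c42 LD3_c61) (LK LD1_c12 LD2_c36 LD3_c47) Lrfl Lrfl
theorem f651878 : Led Lsl_ft (LP (LK LD1_c12 LD2_c40 LD3_c10)) = (LP (LK LD1_c21 LD2_c42 LD3_c61)) :=
  Lgr Lrot4 (Lpe (f650680 IH) (Lpr_ff (K56.f651872 IH) (Lpe (f118597 IH) (Lpn (LP (LK LD1_c21 LD2_c42 LD3_c61))))))
theorem f130857 : Led Lsl_ct (LP (LK LD1_c12 LD2_c3 LD3_c3)) = (LP (LK LD1_c21 LD2_c8 LD3_c19)) :=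
  Lre_c IH (LK LD1_c12 LD2_c3 LD3_c3) (LK LD1_c21 LD2_c8 LD3_c19) Lrfl Lrfl
theorem f130858 : Led Lsl_gt (LP (LK LD1_c21 LD2_c8 LD3_c19)) = (LP (LK LD1_c12 LD2_c40 LD3_c16)) :=
  Lgr Lrot150 (Lpe (f130857 IH) (Lpr_gf (K5.f130840 IH) (Lpe (K5.f96114 IH) (Lpe (K58.f119085 IH) (Lpr_ct (K4.f118487 IH) (Lpr_gt (K56.f119181 IH) (Lpr_ct (K56.f119187 IH) (Lpe (K56.f119188 IH) (Lpe (f119189 IH) (Lpn (LP (LK LD1_c12 LD2_c40 LD3_c16))))))))))))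
theorem f651909 : Led Lsl_gt (LP (LK LD1_c12 LD2_c40 LD3_c10)) = (LP (LK LD1_c21 LD2_c8 LD3_c19)) :=
  Lgr Lrot5 (Lpr_ft (f651878 IH) (Lpr_at (f651904 IH) (Lpe (f130858 IH) (Lpn (LP (LK LD1_c21 LD2_c8 LD3_c19))))))
theorem f118589 : Led Lsl_dt (LP (LK LD1_c6 LD2_c37 LD3_c5)) = (LP (LK LD1_c12 LD2_c40 LD3_c4)) :=
  Lre_d IH (LK LD1_c6 LD2_c37 LD3_c5) (LK LD1_c12 LD2_c40 LD3_c4) Lrfl Lrfl
theorem f119094 : Led Lsl_gt (LP (LK LD1_c12 LD2_c40 LD3_c4)) = (LP (LK LD1_c21 LD2_c46 LD3_c26)) :=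
  Lre_g IH (LK LD1_c12 LD2_c40 LD3_c4) (LK LD1_c21 LD2_c46 LD3_c26) Lrfl Lrfl
theorem f508721 : Led Lsl_ct (LP (LK LD1_c12 LD2_c40 LD3_c10)) = (LP (LK LD1_c6 LD2_c37 LD3_c8)) :=
  Lre_c IH (LK LD1_c12 LD2_c40 LD3_c10) (LK LD1_c6 LD2_c37 LD3_c8) Lrfl Lrfl
theorem f755168 : Led Lsl_dt (LP (LK LD1_c21 LD2_c46 LD3_c26)) = (LP (LK LD1_c12 LD2_c40 LD3_c10)) :=
  Lgr Lrot105 (Lpe (f119094 IH) (Lpe (f118589 IH) (Lpe (K59.f119144 IH) (Lpr_cf (K59.f755160 IH) (Lpr_gt (K56.f62226 IH) (Lpr_dt (K3.f62225 IH) (Lpr_gt (K56.f508760 IH) (Lpqs (K56.f754450 IH) (Lpr_dt (K56.f650678 IH) (Lpe (f508721 IH) (Lpn (LP (LK LD1_c12 LD2_c40 LD3_c10)))))))))))))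
theorem f755170 : Led Lsl_df (LP (LK LD1_c21 LD2_c46 LD3_c26)) = (LP (LK LD1_c12 LD2_c40 LD3_c10)) :=
  Lgr Lrot38 (Lpr_dt (f755168 IH) (Lpn (LP (LK LD1_c12 LD2_c40 LD3_c10))))
theorem f118411 : Led Lsl_dt (LP (LK LD1_c12 LD2_c36 LD3_c44)) = (LP (LK LD1_c21 LD2_c42 LD3_c57)) :=
  Lre_d IH (LK LD1_c12 LD2_c36 LD3_c44) (LK LD1_c21 LD2_c42 LD3_c57) Lrfl Lrfl
theorem f118493 : Led Lsl_ft (LP (LK LD1_c21 LD2_c42 LD3_c57)) = (LP (LK LD1_c12 LD2_c40 LD3_c34)) :=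
  Lgr Lrot54 (Lpe (f118411 IH) (Lpe (K59.f118492 IH) (Lpr_df (K4.f118483 IH) (Lpn (LP (LK LD1_c12 LD2_c40 LD3_c34))))))
theorem f119090 : Led Lsl_ff (LP (LK LD1_c21 LD2_c42 LD3_c57)) = (LP (LK LD1_c12 LD2_c40 LD3_c34)) :=
  Lgr Lrot3 (Lpr_ft (f118493 IH) (Lpn (LP (LK LD1_c12 LD2_c40 LD3_c34))))
theorem f118422 : Led Lsl_dt (LP (LK LD1_c12 LD2_c40 LD3_c4)) = (LP (LK LD1_c6 LD2_c37 LD3_c5)) :=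
  Lre_d IH (LK LD1_c12 LD2_c40 LD3_c4) (LK LD1_c6 LD2_c37 LD3_c5) Lrfl Lrfl
theorem f118443 : Led Lsl_at (LP (LK LD1_c21 LD2_c42 LD3_c57)) = (LP (LK LD1_c12 LD2_c40 LD3_c4)) :=
  Lgr Lrot51 (Lpe (f118411 IH) (Lpr_af (K4.f118432 IH) (Lpe (f118422 IH) (Lpn (LP (LK LD1_c12 LD2_c40 LD3_c4))))))
theorem f118485 : Led Lsl_at (LP (LK LD1_c21 LD2_c43 LD3_c5)) = (LP (LK LD1_c12 LD2_c40 LD3_c34)) :=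
  Lgr Lrot51 (Lpr_df (K4.f118407 IH) (Lpe (K4.f118450 IH) (Lpr_df (K4.f118483 IH) (Lpn (LP (LK LD1_c12 LD2_c40 LD3_c34))))))
theorem f119092 : Led Lsl_ft (LP (LK LD1_c12 LD2_c40 LD3_c4)) = (LP (LK LD1_c21 LD2_c43 LD3_c5)) :=
  Lgr Lrot101 (Lpe (f118443 IH) (Lpr_ff (f119090 IH) (Lpe (f118485 IH) (Lpn (LP (LK LD1_c21 LD2_c43 LD3_c5))))))
theorem f119095 : Led Lsl_gt (LP (LK LD1_c21 LD2_c46 LD3_c26)) = (LP (LK LD1_c12 LD2_c40 LD3_c34)) :=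
  Lgr Lrot46 (Lpe (f119094 IH) (Lpr_ft (f119092 IH) (Lpr_at (f118485 IH) (Lpn (LP (LK LD1_c12 LD2_c40 LD3_c34))))))
theorem f118545 : Led Lsl_ct (LP (LK LD1_c12 LD2_c40 LD3_c34)) = (LP (LK LD1_c6 LD2_c37 LD3_c21)) :=
  Lre_c IH (LK LD1_c12 LD2_c40 LD3_c34) (LK LD1_c6 LD2_c37 LD3_c21) Lrfl Lrfl
theorem f119202 : Led Lsl_dt (LP (LK LD1_c21 LD2_c46 LD3_c9)) = (LP (LK LD1_c12 LD2_c39 LD3_c55)) :=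
  Lre_d IH (LK LD1_c21 LD2_c46 LD3_c9) (LK LD1_c12 LD2_c39 LD3_c55) Lrfl Lrfl
theorem f772744 : Led Lsl_ct (LP (LK LD1_c12 LD2_c40 LD3_c32)) = (LP (LK LD1_c21 LD2_c46 LD3_c9)) :=
  Lgr Lrot110 (Lpe (K59.f78907 IH) (Lpe (f118545 IH) (Lpe (f119095 IH) (Lpr_df (f755170 IH) (Lpr_gt (f651909 IH) (Lpr_ct (K59.f130863 IH) (Lpr_gt (K59.f772742 IH) (Lpr_ct (K59.f119203 IH) (Lpe (f119202 IH) (Lpn (LP (LK LD1_c21 LD2_c46 LD3_c9))))))))))))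
theorem f119200 : Led Lsl_dt (LP (LK LD1_c3 LD2_c16 LD3_c50)) = (LP (LK LD1_c6 LD2_c37 LD3_c2)) :=
  Lre_d IH (LK LD1_c3 LD2_c16 LD3_c50) (LK LD1_c6 LD2_c37 LD3_c2) Lrfl Lrfl
theorem f769451 : Led Lsl_gf (LP (LK LD1_c21 LD2_c46 LD3_c9)) = (LP (LK LD1_c21 LD2_c50 LD3_c12)) :=
  Lgr Lrot143 (Lpr_dt (f119202 IH) (Lpe (K59.f119203 IH) (Lpe (f119200 IH) (Lpe (K59.f119198 IH) (Lpe (K4.f118470 IH) (Lpr_gf (K59.f118478 IH) (Lpe (K59.f118499 IH) (Lpr_gt (K58.f769449 IH) (Lpr_dt (K59.f62255 IH) (Lpn (LP (LK LD1_c21 LD2_c50 LD3_c12))))))))))))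
theorem f62244 : Led Lsl_ft (LP (LK LD1_c21 LD2_c50 LD3_c12)) = (LP (LK LD1_c12 LD2_c42 LD3_c53)) :=
  Lre_f IH (LK LD1_c21 LD2_c50 LD3_c12) (LK LD1_c12 LD2_c42 LD3_c53) Lrfl Lrfl
theorem f93330 : Led Lsl_af (LP (LK LD1_c21 LD2_c43 LD3_c35)) = (LP (LK LD1_c12 LD2_c42 LD3_c53)) :=
  Lgr Lrot45 (Lpr_ft (K3.f93325 IH) (Lpe (K3.f89102 IH) (Lpr_ft (f62244 IH) (Lpn (LP (LK LD1_c12 LD2_c42 LD3_c53))))))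
theorem f769466 : Led Lsl_gt (LP (LK LD1_c21 LD2_c46 LD3_c9)) = (LP (LK LD1_c21 LD2_c43 LD3_c35)) :=
  Lgr Lrot46 (Lpr_gf (f769451 IH) (Lpr_ft (f62244 IH) (Lpe (f93330 IH) (Lpn (LP (LK LD1_c21 LD2_c43 LD3_c35))))))
theorem f777462 : Led Lsl_gf (LP (LK LD1_c6 LD2_c59 LD3_c8)) = K59.v19057 :=
  Lgr Lrot104 (Lpr_ct (K3.f89083 IH) (Lpe (K3.f89091 IH) (Lpe (K3.f93315 IH) (Lpe (f769466 IH) (Lpe (f772744 IH) (Lpe (K59.f78907 IH) (Lpe (K4.f78892 IH) (Lpr_gt (K59.f78934 IH) (Lpr_ct (K59.f777459 IH) (Lpn K59.v19057))))))))))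
theorem f777557 : Led Lsl_gf (LP (LK LD1_c7 LD2_c48 LD3_c54)) = (LP (LK LD1_c13 LD2_c23 LD3_c56)) :=
  Lgr Lrot141 (Lpr_ef (K59.f88868 IH) (Lpr_dt (K58.f88748 IH) (Lpqs (K58.f768757 IH) (Lpe (K58.f677645 IH) (Lpr_df (K59.f677652 IH) (Lpr_et (K59.f777488 IH) (Lpe (f777462 IH) (Lpr_dt (K3.f62246 IH) (Lpr_gt (K59.f653834 IH) (Lpq (K59.f772678 IH) (Lpq (K59.f772646 IH) (Lpr_df (K59.f777368 IH) (Lpe (K59.f777372 IH) (Lpn (LP (LK LD1_c13 LD2_c23 LD3_c56))))))))))))))))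
theorem f777558 : Led Lsl_gt (LP (LK LD1_c13 LD2_c23 LD3_c56)) = (LP (LK LD1_c7 LD2_c48 LD3_c54)) :=
  Leop (Lpr_gf (f777557 IH) (Lpn (LP (LK LD1_c13 LD2_c23 LD3_c56))))
theorem seed_1413 : LEOK LG_g (LK LD1_c13 LD2_c23 LD3_c56) :=
  Leoe_g (LK LD1_c13 LD2_c23 LD3_c56) (f777558 IH)
def v19058 : LQ := Led Lsl_et (LP (LK LD1_c6 LD2_c37 LD3_c18))
theorem f777559 : Led Lsl_et (LP (LK LD1_c6 LD2_c37 LD3_c18)) = v19058 :=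
  Lrfl
theorem f777562 : Led Lsl_ef (LP (LK LD1_c6 LD2_c37 LD3_c18)) = v19058 :=
  Lgr Lrot88 (Lpr_et (f777559 IH) (Lpn v19058))
theorem f78925 : Led Lsl_gt (LP (LK LD1_c12 LD2_c0 LD3_c58)) = (LP (LK LD1_c6 LD2_c10 LD3_c2)) :=
  Lre_g IH (LK LD1_c12 LD2_c0 LD3_c58) (LK LD1_c6 LD2_c10 LD3_c2) Lrfl Lrfl
theorem f64529 : Led Lsl_gt (LP (LK LD1_c3 LD2_c1 LD3_c41)) = (LP (LK LD1_c6 LD2_c10 LD3_c4)) :=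
  Lre_g IH (LK LD1_c3 LD2_c1 LD3_c41) (LK LD1_c6 LD2_c10 LD3_c4) Lrfl Lrfl
theorem f155203 : Led Lsl_dt (LP (LK LD1_c6 LD2_c10 LD3_c4)) = (LP (LK LD1_c12 LD2_c0 LD3_c58)) :=
  Lgr Lrot57 (Lpe (f64529 IH) (Lpe (K5.f64499 IH) (Lpr_gt (K7.f155201 IH) (Lpr_dt (K46.f154335 IH) (Lpe (K46.f155118 IH) (Lpr_dt (K4.f78963 IH) (Lpe (K6.f78951 IH) (Lpe (K34.f78893 IH) (Lpe (f78925 IH) (Lpn (LP (LK LD1_c12 LD2_c0 LD3_c58))))))))))))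
theorem f777565 : Led Lsl_df (LP (LK LD1_c12 LD2_c42 LD3_c8)) = v19058 :=
  Lgr Lrot170 (Lpr_gt (K58.f118289 IH) (Lpe (K7.f118144 IH) (Lpe (K7.f61981 IH) (Lpr_gt (f64529 IH) (Lpr_dt (f155203 IH) (Lpr_gt (f78925 IH) (Lpe (K34.f78923 IH) (Lpe (K57.f78868 IH) (Lpr_gt (K59.f78934 IH) (Lpr_ef (f777562 IH) (Lpn v19058)))))))))))
theorem f776730 : Led Lsl_et (LP (LK LD1_c12 LD2_c36 LD3_c50)) = (LP (LK LD1_c13 LD2_c15 LD3_c56)) :=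
  Lgr Lrot158 (Lpr_cf (K59.f776722 IH) (Lpr_ef (K59.f432962 IH) (Lpe (K58.f433072 IH) (Lpn (LP (LK LD1_c13 LD2_c15 LD3_c56))))))
theorem f777563 : Led Lsl_at (LP (LK LD1_c13 LD2_c15 LD3_c56)) = v19058 :=
  Lgr Lrot80 (Lpe (f776730 IH) (Lpqs (K59.f777489 IH) (Lpe (K59.f777451 IH) (Lpr_ef (f777562 IH) (Lpn v19058)))))
theorem f777566 : Led Lsl_at (LP (LK LD1_c12 LD2_c42 LD3_c8)) = (LP (LK LD1_c21 LD2_c43 LD3_c30)) :=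
  Lgr Lrot51 (Lpr_df (f777565 IH) (Lpe (f777563 IH) (Lpr_df (K58.f769432 IH) (Lpn (LP (LK LD1_c21 LD2_c43 LD3_c30))))))
theorem f777567 : Led Lsl_at (LP (LK LD1_c12 LD2_c42 LD3_c8)) = (LP (LK LD1_c21 LD2_c43 LD3_c30)) :=
  Leop (Lpe (f777566 IH) (Lpn (LP (LK LD1_c12 LD2_c42 LD3_c8))))
theorem seed_1414 : LEOK LG_a (LK LD1_c12 LD2_c42 LD3_c8) :=
  Leoe_a (LK LD1_c12 LD2_c42 LD3_c8) (f777567 IH)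
theorem f769317 : Led Lsl_et (LP (LK LD1_c12 LD2_c42 LD3_c8)) = (LP (LK LD1_c21 LD2_c49 LD3_c26)) :=
  Lre_e IH (LK LD1_c12 LD2_c42 LD3_c8) (LK LD1_c21 LD2_c49 LD3_c26) Lrfl Lrfl
theorem f432895 : Led Lsl_dt (LP (LK LD1_c12 LD2_c40 LD3_c24)) = (LP (LK LD1_c6 LD2_c37 LD3_c18)) :=
  Lre_d IH (LK LD1_c12 LD2_c40 LD3_c24) (LK LD1_c6 LD2_c37 LD3_c18) Lrfl Lrfl
theorem f775118 : Led Lsl_et (LP (LK LD1_c21 LD2_c46 LD3_c49)) = (LP (LK LD1_c12 LD2_c40 LD3_c24)) :=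
  Lre_e IH (LK LD1_c21 LD2_c46 LD3_c49) (LK LD1_c12 LD2_c40 LD3_c24) Lrfl Lrfl
theorem f777569 : Led Lsl_dt (LP (LK LD1_c21 LD2_c49 LD3_c26)) = (LP (LK LD1_c21 LD2_c46 LD3_c49)) :=
  Lgr Lrot77 (Lpe (f769317 IH) (Lpr_df (f777565 IH) (Lpe (f777559 IH) (Lpe (f432895 IH) (Lpe (f775118 IH) (Lpn (LP (LK LD1_c21 LD2_c46 LD3_c49))))))))
theorem f777570 : Led Lsl_dt (LP (LK LD1_c21 LD2_c49 LD3_c26)) = (LP (LK LD1_c21 LD2_c46 LD3_c49)) :=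
  Leop (Lpe (f777569 IH) (Lpn (LP (LK LD1_c21 LD2_c49 LD3_c26))))
theorem seed_1415 : LEOK LG_d (LK LD1_c21 LD2_c49 LD3_c26) :=
  Leoe_d (LK LD1_c21 LD2_c49 LD3_c26) (f777570 IH)
theorem f769291 : Led Lsl_cf (LP (LK LD1_c12 LD2_c42 LD3_c8)) = (LP (LK LD1_c21 LD2_c48 LD3_c16)) :=
  Lgr Lrot11 (Lpr_ct (K58.f769287 IH) (Lpn (LP (LK LD1_c21 LD2_c48 LD3_c16))))
theorem f650841 : Led Lsl_dt (LP (LK LD1_c12 LD2_c41 LD3_c30)) = (LP (LK LD1_c21 LD2_c48 LD3_c16)) :=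
  Lre_d IH (LK LD1_c12 LD2_c41 LD3_c30) (LK LD1_c21 LD2_c48 LD3_c16) Lrfl Lrfl
theorem f769298 : Led Lsl_dt (LP (LK LD1_c30 LD2_c9 LD3_c31)) = (LP (LK LD1_c21 LD2_c48 LD3_c14)) :=
  Lre_d IH (LK LD1_c30 LD2_c9 LD3_c31) (LK LD1_c21 LD2_c48 LD3_c14) Lrfl Lrfl
theorem f118268 : Led Lsl_ct (LP (LK LD1_c6 LD2_c37 LD3_c60)) = (LP (LK LD1_c12 LD2_c41 LD3_c51)) :=
  Lre_c IH (LK LD1_c6 LD2_c37 LD3_c60) (LK LD1_c12 LD2_c41 LD3_c51) Lrfl Lrfl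
theorem f777571 : Led Lsl_gt (LP (LK LD1_c12 LD2_c41 LD3_c51)) = v19058 :=
  Lgr Lrot94 (Lpe (f118268 IH) (Lpr_gt (K46.f650944 IH) (Lpr_dt (K46.f119412 IH) (Lpr_gt (K46.f62021 IH) (Lpr_dt (K46.f62050 IH) (Lpe (K4.f118101 IH) (Lpe (K4.f118061 IH) (Lpe (K58.f118289 IH) (Lpr_df (f777565 IH) (Lpn v19058))))))))))
theorem f772500 : Led Lsl_ft (LP (LK LD1_c12 LD2_c43 LD3_c17)) = (LP (LK LD1_c12 LD2_c41 LD3_c35)) :=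
  Lgr Lrot54 (Lpe (K59.f650883 IH) (Lpr_ff (K59.f772498 IH) (Lpe (K59.f769322 IH) (Lpn (LP (LK LD1_c12 LD2_c41 LD3_c35))))))
theorem f443669 : Led Lsl_gt (LP (LK LD1_c6 LD2_c38 LD3_c49)) = (LP (LK LD1_c12 LD2_c43 LD3_c16)) :=
  Lre_g IH (LK LD1_c6 LD2_c38 LD3_c49) (LK LD1_c12 LD2_c43 LD3_c16) Lrfl Lrfl
theorem f773208 : Led Lsl_af (LP (LK LD1_c12 LD2_c43 LD3_c16)) = (LP (LK LD1_c12 LD2_c41 LD3_c35)) :=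
  Lgr Lrot31 (Lpe (f443669 IH) (Lpe (K59.f93904 IH) (Lpr_ft (f772500 IH) (Lpn (LP (LK LD1_c12 LD2_c41 LD3_c35))))))
theorem f772474 : Led Lsl_at (LP (LK LD1_c12 LD2_c41 LD3_c39)) = (LP (LK LD1_c12 LD2_c43 LD3_c17)) :=
  Lgr Lrot100 (Lpr_af (K59.f772472 IH) (Lpn (LP (LK LD1_c12 LD2_c43 LD3_c17))))
theorem f773218 : Led Lsl_ft (LP (LK LD1_c12 LD2_c43 LD3_c16)) = (LP (LK LD1_c12 LD2_c41 LD3_c39)) :=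
  Lgr Lrot101 (Lpr_af (f773208 IH) (Lpe (f772500 IH) (Lpe (f772474 IH) (Lpn (LP (LK LD1_c12 LD2_c41 LD3_c39))))))
theorem f443670 : Led Lsl_dt (LP (LK LD1_c12 LD2_c43 LD3_c16)) = (LP (LK LD1_c21 LD2_c50 LD3_c30)) :=
  Lre_d IH (LK LD1_c12 LD2_c43 LD3_c16) (LK LD1_c21 LD2_c50 LD3_c30) Lrfl Lrfl
theorem f773231 : Led Lsl_ct (LP (LK LD1_c21 LD2_c50 LD3_c30)) = (LP (LK LD1_c21 LD2_c43 LD3_c29)) :=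
  Lgr Lrot133 (Lpe (f443670 IH) (Lpr_ft (f773218 IH) (Lpr_at (f772474 IH) (Lpr_cf (K59.f769405 IH) (Lpe (K58.f769438 IH) (Lpe (K59.f93383 IH) (Lpr_df (K58.f93377 IH) (Lpr_cf (K59.f769403 IH) (Lpe (K59.f118074 IH) (Lpn (LP (LK LD1_c21 LD2_c43 LD3_c29))))))))))))
theorem f773236 : Led Lsl_cf (LP (LK LD1_c21 LD2_c50 LD3_c30)) = (LP (LK LD1_c21 LD2_c43 LD3_c29)) :=
  Lgr Lrot11 (Lpr_ct (f773231 IH) (Lpn (LP (LK LD1_c21 LD2_c43 LD3_c29))))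
theorem f777572 : Led Lsl_gf (LP (LK LD1_c30 LD2_c9 LD3_c31)) = (LP (LK LD1_c21 LD2_c50 LD3_c30)) :=
  Lgr Lrot148 (Lpr_dt (f769298 IH) (Lpr_gt (K58.f650842 IH) (Lpr_dt (f650841 IH) (Lpe (f769291 IH) (Lpr_df (f777565 IH) (Lpe (f777571 IH) (Lpe (K56.f650958 IH) (Lpe (K56.f753947 IH) (Lpe (f773236 IH) (Lpn (LP (LK LD1_c21 LD2_c50 LD3_c30))))))))))))
theorem f777573 : Led Lsl_gt (LP (LK LD1_c21 LD2_c50 LD3_c30)) = (LP (LK LD1_c30 LD2_c9 LD3_c31)) :=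
  Leop (Lpr_gf (f777572 IH) (Lpn (LP (LK LD1_c21 LD2_c50 LD3_c30))))
theorem seed_1416 : LEOK LG_g (LK LD1_c21 LD2_c50 LD3_c30) :=
  Leoe_g (LK LD1_c21 LD2_c50 LD3_c30) (f777573 IH)
theorem f769500 : Led Lsl_ct (LP (LK LD1_c21 LD2_c48 LD3_c14)) = (LP (LK LD1_c17 LD2_c30 LD3_c40)) :=
  Lgr Lrot59 (Lpr_cf (K58.f769491 IH) (Lpn (LP (LK LD1_c17 LD2_c30 LD3_c40))))
theorem f93717 : Led Lsl_ct (LP (LK LD1_c3 LD2_c17 LD3_c39)) = (LP (LK LD1_c6 LD2_c38 LD3_c49)) :=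
  Lre_c IH (LK LD1_c3 LD2_c17 LD3_c39) (LK LD1_c6 LD2_c38 LD3_c49) Lrfl Lrfl
theorem f777576 : Led Lsl_df (LP (LK LD1_c17 LD2_c30 LD3_c40)) = K59.v18903 :=
  Lgr Lrot84 (Lpe (f769500 IH) (Lpe (f769298 IH) (Lpr_gf (f777572 IH) (Lpe (f443670 IH) (Lpe (f443669 IH) (Lpe (f93717 IH) (Lpr_gt (K46.f443649 IH) (Lpr_dt (K46.f443665 IH) (Lpr_gt (K59.f776376 IH) (Lpn K59.v18903))))))))))
def v6131 : LQ := Led Lsl_dt (LP (LK LD1_c3 LD2_c18 LD3_c14))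
theorem f651413 : Led Lsl_dt (LP (LK LD1_c3 LD2_c18 LD3_c14)) = v6131 :=
  Lrfl
theorem f651414 : Led Lsl_df (LP (LK LD1_c3 LD2_c18 LD3_c14)) = v6131 :=
  Lgr Lrot38 (Lpr_dt (f651413 IH) (Lpn v6131))
theorem f776379 : Led Lsl_et v6131 = K59.v18903 :=
  Lgr Lrot121 (Lpe (f651414 IH) (Lpe (K46.f508816 IH) (Lpe (K56.f87379 IH) (Lpr_et (K56.f87378 IH) (Lpe (K1.f36230 IH) (Lpe (K4.f64600 IH) (Lpr_dt (K46.f65260 IH) (Lpe (K59.f65261 IH) (Lpr_df (K59.f675488 IH) (Lpqs (K59.f754527 IH) (Lpr_gf (K59.f776375 IH) (Lpn K59.v18903))))))))))))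
theorem f651406 : Led Lsl_et (LP (LK LD1_c6 LD2_c40 LD3_c25)) = (LP (LK LD1_c3 LD2_c18 LD3_c14)) :=
  Lre_e IH (LK LD1_c6 LD2_c40 LD3_c25) (LK LD1_c3 LD2_c18 LD3_c14) Lrfl Lrfl
theorem f651415 : Led Lsl_dt (LP (LK LD1_c12 LD2_c46 LD3_c36)) = (LP (LK LD1_c6 LD2_c40 LD3_c25)) :=
  Lre_d IH (LK LD1_c12 LD2_c46 LD3_c36) (LK LD1_c6 LD2_c40 LD3_c25) Lrfl Lrfl
theorem f777578 : Led Lsl_et (LP (LK LD1_c17 LD2_c30 LD3_c40)) = (LP (LK LD1_c12 LD2_c46 LD3_c36)) :=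
  Lgr Lrot71 (Lpr_df (f777576 IH) (Lpe (f776379 IH) (Lpe (f651413 IH) (Lpe (f651406 IH) (Lpe (f651415 IH) (Lpn (LP (LK LD1_c12 LD2_c46 LD3_c36))))))))
theorem f777579 : Led Lsl_et (LP (LK LD1_c17 LD2_c30 LD3_c40)) = (LP (LK LD1_c12 LD2_c46 LD3_c36)) :=
  Leop (Lpe (f777578 IH) (Lpn (LP (LK LD1_c17 LD2_c30 LD3_c40))))
theorem seed_1417 : LEOK LG_e (LK LD1_c17 LD2_c30 LD3_c40) :=
  Leoe_e (LK LD1_c17 LD2_c30 LD3_c40) (f777579 IH)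
def v19078 : LQ := Led Lsl_at (LP (LK LD1_c6 LD2_c37 LD3_c47))
theorem f777705 : Led Lsl_at (LP (LK LD1_c6 LD2_c37 LD3_c47)) = v19078 :=
  Lrfl
theorem f777706 : Led Lsl_af (LP (LK LD1_c6 LD2_c37 LD3_c47)) = v19078 :=
  Lgr Lrot0 (Lpr_at (f777705 IH) (Lpn v19078))
theorem f87765 : Led Lsl_dt (LP (LK LD1_c14 LD2_c17 LD3_c50)) = (LP (LK LD1_c7 LD2_c34 LD3_c57)) :=
  Lre_d IH (LK LD1_c14 LD2_c17 LD3_c50) (LK LD1_c7 LD2_c34 LD3_c57) Lrfl Lrfl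
theorem f93610 : Led Lsl_ct (LP (LK LD1_c23 LD2_c55 LD3_c31)) = (LP (LK LD1_c14 LD2_c17 LD3_c50)) :=
  Lre_c IH (LK LD1_c23 LD2_c55 LD3_c31) (LK LD1_c14 LD2_c17 LD3_c50) Lrfl Lrfl
theorem f87392 : Led Lsl_ct (LP (LK LD1_c3 LD2_c17 LD3_c13)) = (LP (LK LD1_c1 LD2_c52 LD3_c3)) :=
  Lgr Lrot59 (Lpr_cf (K48.f87387 IH) (Lpn (LP (LK LD1_c1 LD2_c52 LD3_c3))))
theorem f63190 : Led Lsl_dt (LP (LK LD1_c3 LD2_c50 LD3_c17)) = (LP (LK LD1_c1 LD2_c52 LD3_c3)) :=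
  Lre_d IH (LK LD1_c3 LD2_c50 LD3_c17) (LK LD1_c1 LD2_c52 LD3_c3) Lrfl Lrfl
theorem f87397 : Led Lsl_ct (LP (LK LD1_c7 LD2_c41 LD3_c42)) = (LP (LK LD1_c3 LD2_c50 LD3_c17)) :=
  Lre_c IH (LK LD1_c7 LD2_c41 LD3_c42) (LK LD1_c3 LD2_c50 LD3_c17) Lrfl Lrfl
theorem f87468 : Led Lsl_gt (LP (LK LD1_c14 LD2_c30 LD3_c16)) = (LP (LK LD1_c7 LD2_c41 LD3_c42)) :=
  Lre_g IH (LK LD1_c14 LD2_c30 LD3_c16) (LK LD1_c7 LD2_c41 LD3_c42) Lrfl Lrfl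
theorem f711889 : Led Lsl_ct (LP (LK LD1_c14 LD2_c14 LD3_c12)) = (LP (LK LD1_c14 LD2_c30 LD3_c16)) :=
  Lgr Lrot152 (Lpr_gf (K52.f93608 IH) (Lpe (K52.f64885 IH) (Lpe (K51.f87776 IH) (Lpr_ct (K52.f711880 IH) (Lpr_gt (K52.f66098 IH) (Lpr_ct (f87392 IH) (Lpe (f63190 IH) (Lpe (f87397 IH) (Lpe (f87468 IH) (Lpn (LP (LK LD1_c14 LD2_c30 LD3_c16))))))))))))
theorem f87721 : Led Lsl_dt (LP (LK LD1_c7 LD2_c34 LD3_c59)) = (LP (LK LD1_c3 LD2_c47 LD3_c3)) :=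
  Lre_d IH (LK LD1_c7 LD2_c34 LD3_c59) (LK LD1_c3 LD2_c47 LD3_c3) Lrfl Lrfl
theorem f87767 : Led Lsl_dt (LP (LK LD1_c7 LD2_c34 LD3_c57)) = (LP (LK LD1_c14 LD2_c17 LD3_c50)) :=
  Lre_d IH (LK LD1_c7 LD2_c34 LD3_c57) (LK LD1_c14 LD2_c17 LD3_c50) Lrfl Lrfl
theorem f87464 : Led Lsl_dt (LP (LK LD1_c7 LD2_c41 LD3_c42)) = (LP (LK LD1_c14 LD2_c30 LD3_c18)) :=
  Lre_d IH (LK LD1_c7 LD2_c41 LD3_c42) (LK LD1_c14 LD2_c30 LD3_c18) Lrfl Lrfl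
theorem f711898 : Led Lsl_gt (LP (LK LD1_c14 LD2_c30 LD3_c18)) = (LP (LK LD1_c24 LD2_c11 LD3_c25)) :=
  Lre_g IH (LK LD1_c14 LD2_c30 LD3_c18) (LK LD1_c24 LD2_c11 LD3_c25) Lrfl Lrfl
theorem f711899 : Led Lsl_df (LP (LK LD1_c23 LD2_c55 LD3_c31)) = (LP (LK LD1_c24 LD2_c11 LD3_c25)) :=
  Lgr Lrot174 (Lpr_ct (f93610 IH) (Lpe (f87767 IH) (Lpe (K52.f87760 IH) (Lpe (f87721 IH) (Lpe (K52.f93601 IH) (Lpr_ct (f711889 IH) (Lpr_gt (f87468 IH) (Lpr_dt (f87464 IH) (Lpr_gt (f711898 IH) (Lpn (LP (LK LD1_c24 LD2_c11 LD3_c25))))))))))))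
theorem f777707 : Led Lsl_ft (LP (LK LD1_c6 LD2_c37 LD3_c48)) = v19078 :=
  Lgr Lrot2 (Lpr_gt (K52.f66098 IH) (Lpr_gt (K48.f66079 IH) (Lpr_af (f777706 IH) (Lpn v19078))))
theorem f87467 : Led Lsl_dt (LP (LK LD1_c6 LD2_c37 LD3_c48)) = (LP (LK LD1_c12 LD2_c41 LD3_c20)) :=
  Lre_d IH (LK LD1_c6 LD2_c37 LD3_c48) (LK LD1_c12 LD2_c41 LD3_c20) Lrfl Lrfl
theorem f440787 : Led Lsl_ct (LP (LK LD1_c12 LD2_c41 LD3_c20)) = (LP (LK LD1_c21 LD2_c47 LD3_c51)) :=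
  Lre_c IH (LK LD1_c12 LD2_c41 LD3_c20) (LK LD1_c21 LD2_c47 LD3_c51) Lrfl Lrfl
theorem f711885 : Led Lsl_dt (LP (LK LD1_c21 LD2_c47 LD3_c51)) = (LP (LK LD1_c30 LD2_c9 LD3_c15)) :=
  Lre_d IH (LK LD1_c21 LD2_c47 LD3_c51) (LK LD1_c30 LD2_c9 LD3_c15) Lrfl Lrfl
theorem f777708 : Led Lsl_cf (LP (LK LD1_c24 LD2_c11 LD3_c25)) = (LP (LK LD1_c30 LD2_c9 LD3_c15)) :=
  Lgr Lrot116 (Lpe (f711899 IH) (Lpr_ct (f93610 IH) (Lpr_dt (f87765 IH) (Lpr_ct (K52.f712030 IH) (Lpr_af (f777706 IH) (Lpe (f777707 IH) (Lpr_dt (f87467 IH) (Lpr_ct (f440787 IH) (Lpr_dt (f711885 IH) (Lpn (LP (LK LD1_c30 LD2_c9 LD3_c15))))))))))))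
theorem f777709 : Led Lsl_ct (LP (LK LD1_c30 LD2_c9 LD3_c15)) = (LP (LK LD1_c24 LD2_c11 LD3_c25)) :=
  Leop (Lpr_cf (f777708 IH) (Lpn (LP (LK LD1_c30 LD2_c9 LD3_c15))))
theorem seed_1418 : LEOK LG_c (LK LD1_c30 LD2_c9 LD3_c15) :=
  Leoe_c (LK LD1_c30 LD2_c9 LD3_c15) (f777709 IH)
def v19083 : LQ := Led Lsl_at (LP (LK LD1_c6 LD2_c37 LD3_c52))
theorem f777731 : Led Lsl_at (LP (LK LD1_c6 LD2_c37 LD3_c52)) = v19083 :=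
  Lrfl
theorem f777734 : Led Lsl_ff (LP (LK LD1_c6 LD2_c37 LD3_c53)) = v19083 :=
  Lgr Lrot30 (Lpe (K59.f769383 IH) (Lpe (K59.f769342 IH) (Lpr_at (f777731 IH) (Lpn v19083))))
theorem f777736 : Led Lsl_ft (LP (LK LD1_c6 LD2_c37 LD3_c53)) = v19083 :=
  Lgr Lrot48 (Lpr_ff (f777734 IH) (Lpn v19083))
theorem f777732 : Led Lsl_af (LP (LK LD1_c6 LD2_c37 LD3_c52)) = v19083 :=
  Lgr Lrot0 (Lpr_at (f777731 IH) (Lpn v19083))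
theorem f119478 : Led Lsl_gt (LP (LK LD1_c12 LD2_c41 LD3_c29)) = (LP (LK LD1_c6 LD2_c37 LD3_c52)) :=
  Lre_g IH (LK LD1_c12 LD2_c41 LD3_c29) (LK LD1_c6 LD2_c37 LD3_c52) Lrfl Lrfl
theorem f777737 : Led Lsl_gt (LP (LK LD1_c6 LD2_c37 LD3_c53)) = (LP (LK LD1_c12 LD2_c41 LD3_c29)) :=
  Lgr Lrot5 (Lpr_ft (f777736 IH) (Lpe (f777732 IH) (Lpe (f119478 IH) (Lpn (LP (LK LD1_c12 LD2_c41 LD3_c29))))))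
theorem f777738 : Led Lsl_gt (LP (LK LD1_c6 LD2_c37 LD3_c53)) = (LP (LK LD1_c12 LD2_c41 LD3_c29)) :=
  Leop (Lpe (f777737 IH) (Lpn (LP (LK LD1_c6 LD2_c37 LD3_c53))))
theorem seed_1419 : LEOK LG_g (LK LD1_c6 LD2_c37 LD3_c53) :=
  Leoe_g (LK LD1_c6 LD2_c37 LD3_c53) (f777738 IH)
def v19087 : LQ := Led Lsl_at (LP (LK LD1_c6 LD2_c37 LD3_c59))
theorem f777751 : Led Lsl_at (LP (LK LD1_c6 LD2_c37 LD3_c59)) = v19087 :=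
  Lrfl
def v10132 : LQ := Led Lsl_dt K58.v3192
theorem f678905 : Led Lsl_dt K58.v3192 = v10132 :=
  Lrfl
theorem f769010 : v10132 = (LP (LK LD1_c6 LD2_c37 LD3_c59)) :=
  Lefun (Lecon (f678905 IH) (K59.f768962 IH)) (K59.f650856 IH)
theorem f678908 : Led Lsl_ff (LP (LK LD1_c9 LD2_c29 LD3_c40)) = v10132 :=
  Lgr Lrot19 (Lpr_dt (K58.f508524 IH) (Lpr_ft (K58.f624574 IH) (Lpr_dt (f678905 IH) (Lpn v10132))))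
theorem f678909 : Led Lsl_ft (LP (LK LD1_c9 LD2_c29 LD3_c40)) = v10132 :=
  Lgr Lrot48 (Lpr_ff (f678908 IH) (Lpn v10132))
theorem f119406 : Led Lsl_dt (LP (LK LD1_c6 LD2_c38 LD3_c2)) = (LP (LK LD1_c3 LD2_c17 LD3_c20)) :=
  Lre_d IH (LK LD1_c6 LD2_c38 LD3_c2) (LK LD1_c3 LD2_c17 LD3_c20) Lrfl Lrfl
def v6084 : LQ := Led Lsl_ft (LP (LK LD1_c3 LD2_c17 LD3_c18))
theorem f650916 : Led Lsl_ft (LP (LK LD1_c3 LD2_c17 LD3_c18)) = v6084 :=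
  Lrfl
theorem f650919 : Led Lsl_ff (LP (LK LD1_c3 LD2_c17 LD3_c18)) = v6084 :=
  Lgr Lrot3 (Lpr_ft (f650916 IH) (Lpn v6084))
theorem f650869 : Led Lsl_ff (LP (LK LD1_c3 LD2_c17 LD3_c20)) = K46.v6081 :=
  Lgr Lrot3 (Lpr_ft (K46.f650868 IH) (Lpn K46.v6081))
theorem f650920 : Led Lsl_at (LP (LK LD1_c3 LD2_c17 LD3_c20)) = v6084 :=
  Lgr Lrot66 (Lpr_ff (f650869 IH) (Lpe (K46.f650864 IH) (Lpr_ff (f650919 IH) (Lpn v6084))))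
theorem f650896 : Led Lsl_et (LP (LK LD1_c3 LD2_c17 LD3_c20)) = (LP (LK LD1_c6 LD2_c38 LD3_c3)) :=
  Lre_e IH (LK LD1_c3 LD2_c17 LD3_c20) (LK LD1_c6 LD2_c38 LD3_c3) Lrfl Lrfl
theorem f650917 : Led Lsl_af (LP (LK LD1_c3 LD2_c17 LD3_c20)) = v6084 :=
  Lgr Lrot45 (Lpr_ft (K46.f650868 IH) (Lpe (K46.f650865 IH) (Lpr_ft (f650916 IH) (Lpn v6084))))
theorem f678628 : Led Lsl_ef v6084 = (LP (LK LD1_c6 LD2_c40 LD3_c54)) :=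
  Lgr Lrot20 (Lpe (f650917 IH) (Lpr_et (f650896 IH) (Lpe (K57.f678620 IH) (Lpn (LP (LK LD1_c6 LD2_c40 LD3_c54))))))
theorem f768938 : (LP (LK LD1_c4 LD2_c48 LD3_c32)) = v6084 :=
  Lefun (Lecon (Lfl_ef (K59.f672144 IH)) (K59.f768901 IH)) (Lfl_ef (f678628 IH))
theorem f775846 : Led Lsl_af (LP (LK LD1_c6 LD2_c38 LD3_c2)) = (LP (LK LD1_c9 LD2_c29 LD3_c40)) :=
  Lgr Lrot117 (Lpr_dt (f119406 IH) (Lpr_at (f650920 IH) (Lpq (f768938 IH) (Lpr_dt (K59.f509208 IH) (Lpn (LP (LK LD1_c9 LD2_c29 LD3_c40)))))))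
theorem f775848 : Led Lsl_at (LP (LK LD1_c6 LD2_c38 LD3_c2)) = (LP (LK LD1_c9 LD2_c29 LD3_c40)) :=
  Lgr Lrot100 (Lpr_af (f775846 IH) (Lpn (LP (LK LD1_c9 LD2_c29 LD3_c40))))
theorem f777754 : Led Lsl_ff (LP (LK LD1_c6 LD2_c38 LD3_c2)) = v19087 :=
  Lgr Lrot30 (Lpr_at (f775848 IH) (Lpr_ft (f678909 IH) (Lpqs (f769010 IH) (Lpr_at (f777751 IH) (Lpn v19087)))))
theorem f777757 : Led Lsl_ft (LP (LK LD1_c6 LD2_c38 LD3_c2)) = v19087 :=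
  Lgr Lrot48 (Lpr_ff (f777754 IH) (Lpn v19087))
theorem f777752 : Led Lsl_af (LP (LK LD1_c6 LD2_c37 LD3_c59)) = v19087 :=
  Lgr Lrot0 (Lpr_at (f777751 IH) (Lpn v19087))
theorem f508751 : Led Lsl_gt (LP (LK LD1_c12 LD2_c41 LD3_c48)) = (LP (LK LD1_c6 LD2_c37 LD3_c59)) :=
  Lre_g IH (LK LD1_c12 LD2_c41 LD3_c48) (LK LD1_c6 LD2_c37 LD3_c59) Lrfl Lrfl
theorem f777759 : Led Lsl_gt (LP (LK LD1_c6 LD2_c38 LD3_c2)) = (LP (LK LD1_c12 LD2_c41 LD3_c48)) :=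
  Lgr Lrot5 (Lpr_ft (f777757 IH) (Lpe (f777752 IH) (Lpe (f508751 IH) (Lpn (LP (LK LD1_c12 LD2_c41 LD3_c48))))))
theorem f777760 : Led Lsl_gt (LP (LK LD1_c6 LD2_c38 LD3_c2)) = (LP (LK LD1_c12 LD2_c41 LD3_c48)) :=
  Leop (Lpe (f777759 IH) (Lpn (LP (LK LD1_c6 LD2_c38 LD3_c2))))
theorem seed_1420 : LEOK LG_g (LK LD1_c6 LD2_c38 LD3_c2) :=
  Leoe_g (LK LD1_c6 LD2_c38 LD3_c2) (f777760 IH)
def v19092 : LQ := Led Lsl_at (LP (LK LD1_c6 LD2_c38 LD3_c0))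
theorem f777772 : Led Lsl_at (LP (LK LD1_c6 LD2_c38 LD3_c0)) = v19092 :=
  Lrfl
def v2141 : LQ := Led Lsl_bt (LP (LK LD1_c1 LD2_c36 LD3_c24))
def v8670 : LQ := Led Lsl_ct v2141
theorem f671951 : Led Lsl_ct v2141 = v8670 :=
  Lrfl
theorem f443681 : Led Lsl_ct (LP (LK LD1_c3 LD2_c17 LD3_c19)) = (LP (LK LD1_c6 LD2_c38 LD3_c0)) :=
  Lre_c IH (LK LD1_c3 LD2_c17 LD3_c19) (LK LD1_c6 LD2_c38 LD3_c0) Lrfl Lrfl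
theorem f509202 : Led Lsl_bt (LP (LK LD1_c1 LD2_c36 LD3_c24)) = v2141 :=
  Lrfl
theorem f508382 : Led Lsl_ff (LP (LK LD1_c1 LD2_c36 LD3_c24)) = (LP (LK LD1_c2 LD2_c22 LD3_c10)) :=
  Lgr Lrot23 (Lpr_ct (K58.f57626 IH) (Lpr_ft (K58.f508378 IH) (Lpr_ct (K32.f135525 IH) (Lpn (LP (LK LD1_c2 LD2_c22 LD3_c10))))))
theorem f509205 : Led Lsl_ff (LP (LK LD1_c4 LD2_c48 LD3_c33)) = v2141 :=
  Lgr Lrot25 (Lpr_bt (K57.f135522 IH) (Lpe (f508382 IH) (Lpr_bt (f509202 IH) (Lpn v2141))))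
theorem f135539 : Led Lsl_dt (LP (LK LD1_c4 LD2_c48 LD3_c33)) = (LP (LK LD1_c2 LD2_c22 LD3_c9)) :=
  Lre_d IH (LK LD1_c4 LD2_c48 LD3_c33) (LK LD1_c2 LD2_c22 LD3_c9) Lrfl Lrfl
theorem f509206 : Led Lsl_dt K58.v554 = v2141 :=
  Lgr Lrot60 (Lpe (K58.f508522 IH) (Lpe (f135539 IH) (Lpr_ff (f509205 IH) (Lpn v2141))))
theorem f768965 : v2141 = (LP (LK LD1_c3 LD2_c17 LD3_c19)) :=
  Lefun (Lecon (f509206 IH) (K59.f768933 IH)) (K46.f62024 IH)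
theorem f769015 : v8670 = (LP (LK LD1_c6 LD2_c38 LD3_c0)) :=
  Lefun (Lecon (f671951 IH) (f768965 IH)) (f443681 IH)
theorem f509207 : Led Lsl_ft (LP (LK LD1_c4 LD2_c48 LD3_c33)) = v2141 :=
  Lgr Lrot48 (Lpr_ff (f509205 IH) (Lpn v2141))
theorem f671953 : Led Lsl_ff (LP (LK LD1_c9 LD2_c29 LD3_c43)) = v8670 :=
  Lgr Lrot23 (Lpr_ct (K59.f135535 IH) (Lpr_ft (f509207 IH) (Lpr_ct (f671951 IH) (Lpn v8670))))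
theorem f671954 : Led Lsl_ft (LP (LK LD1_c9 LD2_c29 LD3_c43)) = v8670 :=
  Lgr Lrot48 (Lpr_ff (f671953 IH) (Lpn v8670))
theorem f769737 : Led Lsl_af (LP (LK LD1_c9 LD2_c29 LD3_c43)) = (LP (LK LD1_c6 LD2_c38 LD3_c4)) :=
  Lgr Lrot0 (Lpr_at (K59.f769735 IH) (Lpn (LP (LK LD1_c6 LD2_c38 LD3_c4))))
theorem f777775 : Led Lsl_ff (LP (LK LD1_c6 LD2_c38 LD3_c4)) = v19092 :=
  Lgr Lrot30 (Lpe (f769737 IH) (Lpr_ft (f671954 IH) (Lpqs (f769015 IH) (Lpr_at (f777772 IH) (Lpn v19092)))))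
theorem f777779 : Led Lsl_gf (LP (LK LD1_c17 LD2_c30 LD3_c45)) = v19092 :=
  Lgr Lrot47 (Lpr_gt (K57.f135549 IH) (Lpr_af (f769737 IH) (Lpr_ff (f777775 IH) (Lpn v19092))))
theorem f119403 : Led Lsl_ct (LP (LK LD1_c6 LD2_c38 LD3_c4)) = (LP (LK LD1_c3 LD2_c17 LD3_c21)) :=
  Lre_c IH (LK LD1_c6 LD2_c38 LD3_c4) (LK LD1_c3 LD2_c17 LD3_c21) Lrfl Lrfl
theorem f777777 : Led Lsl_ct K46.v6085 = v19092 :=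
  Lgr Lrot40 (Lpe (K46.f650926 IH) (Lpe (f119403 IH) (Lpr_ff (f777775 IH) (Lpn v19092))))
theorem f650925 : Led Lsl_dt K46.v2084 = K46.v6085 :=
  Lgr Lrot42 (Lpr_df (K46.f650924 IH) (Lpn K46.v6085))
def v8515 : LQ := Led Lsl_dt K49.v2073
theorem f671495 : Led Lsl_dt K49.v2073 = v8515 :=
  Lrfl
theorem f678521 : K46.v6085 = v8515 :=
  Lefun (Lecon (f650925 IH) (K49.f678515 IH)) (f671495 IH)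
def v17116 : LQ := Led Lsl_dt (LP (LK LD1_c6 LD2_c11 LD3_c42))
theorem f755230 : Led Lsl_dt (LP (LK LD1_c6 LD2_c11 LD3_c42)) = v17116 :=
  Lrfl
theorem f755234 : Led Lsl_gt v8515 = v17116 :=
  Lgr Lrot139 (Lpe (f671495 IH) (Lpe (K49.f508691 IH) (Lpe (K4.f113978 IH) (Lpr_dt (K39.f113976 IH) (Lpe (K4.f113990 IH) (Lpe (K1.f12153 IH) (Lpr_et (K48.f110219 IH) (Lpe (K50.f114399 IH) (Lpe (K56.f441147 IH) (Lpr_dt (f755230 IH) (Lpn v17116)))))))))))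
theorem f755232 : Led Lsl_df (LP (LK LD1_c6 LD2_c11 LD3_c42)) = v17116 :=
  Lgr Lrot38 (Lpr_dt (f755230 IH) (Lpn v17116))
theorem f651035 : Led Lsl_gt (LP (LK LD1_c21 LD2_c49 LD3_c0)) = (LP (LK LD1_c12 LD2_c41 LD3_c58)) :=
  Lre_g IH (LK LD1_c21 LD2_c49 LD3_c0) (LK LD1_c12 LD2_c41 LD3_c58) Lrfl Lrfl
theorem f777780 : Led Lsl_dt (LP (LK LD1_c17 LD2_c30 LD3_c45)) = (LP (LK LD1_c21 LD2_c49 LD3_c0)) :=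
  Lgr Lrot57 (Lpr_gf (f777779 IH) (Lpe (f777777 IH) (Lpqs (f678521 IH) (Lpr_gt (f755234 IH) (Lpe (f755232 IH) (Lpq (K56.f753951 IH) (Lpr_gt (K56.f651012 IH) (Lpr_dt (K46.f62051 IH) (Lpe (K59.f119490 IH) (Lpe (K59.f443664 IH) (Lpe (f651035 IH) (Lpn (LP (LK LD1_c21 LD2_c49 LD3_c0))))))))))))))
theorem f777781 : Led Lsl_dt (LP (LK LD1_c17 LD2_c30 LD3_c45)) = (LP (LK LD1_c21 LD2_c49 LD3_c0)) :=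
  Leop (Lpe (f777780 IH) (Lpn (LP (LK LD1_c17 LD2_c30 LD3_c45))))
theorem seed_1421 : LEOK LG_d (LK LD1_c17 LD2_c30 LD3_c45) :=
  Leoe_d (LK LD1_c17 LD2_c30 LD3_c45) (f777781 IH)
def v19101 : LQ := Led Lsl_gt (LP (LK LD1_c6 LD2_c38 LD3_c3))
theorem f777817 : Led Lsl_gt (LP (LK LD1_c6 LD2_c38 LD3_c3)) = v19101 :=
  Lrfl
theorem f646719 : Led Lsl_ct (LP (LK LD1_c3 LD2_c17 LD3_c22)) = (LP (LK LD1_c6 LD2_c38 LD3_c3)) :=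
  Lre_c IH (LK LD1_c3 LD2_c17 LD3_c22) (LK LD1_c6 LD2_c38 LD3_c3) Lrfl Lrfl
theorem f777820 : Led Lsl_cf K56.v6572 = v19101 :=
  Lgr Lrot99 (Lpe (K56.f653961 IH) (Lpr_cf (K46.f414284 IH) (Lpe (K46.f63856 IH) (Lpe (K49.f113044 IH) (Lpe (K32.f62965 IH) (Lpr_df (K24.f453910 IH) (Lpq (K49.f678501 IH) (Lpe (K49.f650973 IH) (Lpr_ct (f646719 IH) (Lpr_gt (f777817 IH) (Lpn v19101)))))))))))
theorem f777821 : Led Lsl_ct K56.v6572 = v19101 :=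
  Lgr Lrot59 (Lpr_cf (f777820 IH) (Lpn v19101))
theorem f777819 : Led Lsl_gf K46.v6121 = v19101 :=
  Lgr Lrot76 (Lpe (K49.f678618 IH) (Lpe (K49.f678610 IH) (Lpr_gt (f777817 IH) (Lpn v19101))))
theorem f139973 : Led Lsl_ct (LP (LK LD1_c1 LD2_c26 LD3_c57)) = (LP (LK LD1_c3 LD2_c1 LD3_c44)) :=
  Lre_c IH (LK LD1_c1 LD2_c26 LD3_c57) (LK LD1_c3 LD2_c1 LD3_c44) Lrfl Lrfl
theorem f651363 : Led Lsl_cf K46.v3180 = K46.v6121 :=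
  Lgr Lrot166 (Lpe (K46.f624546 IH) (Lpe (K24.f453910 IH) (Lpr_gt (K32.f62965 IH) (Lpr_dt (K46.f110218 IH) (Lpr_ct (f139973 IH) (Lpr_df (K46.f646457 IH) (Lpr_gf (K46.f651360 IH) (Lpe (K46.f651357 IH) (Lpr_gf (K46.f651352 IH) (Lpn K46.v6121))))))))))
theorem f446185 : Led Lsl_ct (LP (LK LD1_c9 LD2_c21 LD3_c41)) = (LP (LK LD1_c4 LD2_c44 LD3_c27)) :=
  Lre_c IH (LK LD1_c9 LD2_c21 LD3_c41) (LK LD1_c4 LD2_c44 LD3_c27) Lrfl Lrfl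
theorem f777006 : Led Lsl_cf K59.v7340 = K59.v18981 :=
  Lgr Lrot14 (Lpe (K59.f664639 IH) (Lpe (K46.f94134 IH) (Lpr_df (K5.f105623 IH) (Lpe (K46.f651366 IH) (Lpe (K46.f650534 IH) (Lpr_gt (K46.f443304 IH) (Lpr_dt (K46.f113030 IH) (Lpr_gt (K46.f414293 IH) (Lpr_dt (K59.f777001 IH) (Lpn K59.v18981))))))))))
theorem f754885 : Led Lsl_ff K59.v7340 = K59.v17067 :=
  Lgr Lrot19 (Lpe (K59.f664641 IH) (Lpr_ft (K51.f664648 IH) (Lpqs (K56.f709641 IH) (Lpr_dt (K59.f754881 IH) (Lpn K59.v17067)))))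
theorem f754892 : Led Lsl_ft K59.v7340 = K59.v17067 :=
  Lgr Lrot48 (Lpr_ff (f754885 IH) (Lpn K59.v17067))
theorem f777008 : Led Lsl_ft K56.v6133 = K59.v18981 :=
  Lgr Lrot4 (Lpr_cf (K59.f754887 IH) (Lpe (f754892 IH) (Lpr_cf (f777006 IH) (Lpn K59.v18981))))
theorem f651429 : Led Lsl_ff (LP (LK LD1_c3 LD2_c18 LD3_c14)) = K56.v6132 :=
  Lgr Lrot3 (Lpr_ft (K56.f651426 IH) (Lpn K56.v6132))
theorem f753873 : K56.v6130 = (LP (LK LD1_c6 LD2_c36 LD3_c5)) :=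
  (Llr Lrot26 (Lpe (K56.f651403 IH) (Lpr_ff (f651429 IH) (Lpqs (K56.f753859 IH) (Lpr_gt (K48.f113031 IH) (Lpr_gt (K46.f414293 IH) (Lpn (LP (LK LD1_c6 LD2_c36 LD3_c5))))))))).symm
theorem f777002 : Led Lsl_af v6131 = K59.v18981 :=
  Lgr Lrot117 (Lpe (f651414 IH) (Lpr_at (K56.f651403 IH) (Lpqs (f753873 IH) (Lpr_dt (K59.f777001 IH) (Lpn K59.v18981)))))
theorem f754812 : Led Lsl_df (LP (LK LD1_c6 LD2_c11 LD3_c7)) = K59.v17065 :=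
  Lgr Lrot38 (Lpr_dt (K59.f754810 IH) (Lpn K59.v17065))
theorem f754814 : Led Lsl_ct v6131 = K59.v17065 :=
  Lgr Lrot7 (Lpe (f651413 IH) (Lpe (K46.f508816 IH) (Lpe (K56.f87379 IH) (Lpe (K46.f65263 IH) (Lpe (K46.f416426 IH) (Lpq (K56.f634285 IH) (Lpe (K56.f527787 IH) (Lpr_dt (K5.f105630 IH) (Lpr_gt (K46.f649353 IH) (Lpq (K46.f649454 IH) (Lpr_dt (K59.f754810 IH) (Lpn K59.v17065))))))))))))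
theorem f446183 : Led Lsl_ct (LP (LK LD1_c4 LD2_c44 LD3_c27)) = (LP (LK LD1_c9 LD2_c21 LD3_c41)) :=
  Lre_c IH (LK LD1_c4 LD2_c44 LD3_c27) (LK LD1_c9 LD2_c21 LD3_c41) Lrfl Lrfl
theorem f775890 : Led Lsl_gf v6131 = (LP (LK LD1_c9 LD2_c21 LD3_c41)) :=
  Lgr Lrot172 (Lpr_ct (f754814 IH) (Lpe (f754812 IH) (Lpe (K57.f646561 IH) (Lpe (K46.f443625 IH) (Lpe (K51.f413548 IH) (Lpe (K5.f130828 IH) (Lpr_dt (K32.f443618 IH) (Lpr_gt (K49.f646710 IH) (Lpqs (K58.f768796 IH) (Lpr_ct (f446183 IH) (Lpn (LP (LK LD1_c9 LD2_c21 LD3_c41)))))))))))))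
theorem f777010 : Led Lsl_gt K56.v6133 = (LP (LK LD1_c9 LD2_c21 LD3_c41)) :=
  Lgr Lrot5 (Lpr_ft (f777008 IH) (Lpe (f777002 IH) (Lpr_gf (f775890 IH) (Lpn (LP (LK LD1_c9 LD2_c21 LD3_c41))))))
theorem f777827 : Led Lsl_gf K56.v6572 = K59.v6768 :=
  Lgr Lrot147 (Lpr_ct (f777821 IH) (Lpe (f777819 IH) (Lpe (f651363 IH) (Lpqs (K58.f768818 IH) (Lpe (K58.f509531 IH) (Lpe (f446185 IH) (Lpe (f777010 IH) (Lpr_cf (K59.f754887 IH) (Lpr_gf (K59.f769159 IH) (Lpe (K59.f769162 IH) (Lpn K59.v6768)))))))))))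
theorem f508840 : Led Lsl_gt (LP (LK LD1_c6 LD2_c40 LD3_c56)) = (LP (LK LD1_c3 LD2_c18 LD3_c28)) :=
  Lre_g IH (LK LD1_c6 LD2_c40 LD3_c56) (LK LD1_c3 LD2_c18 LD3_c28) Lrfl Lrfl
def v18950 : LQ := Led Lsl_et (LP (LK LD1_c6 LD2_c35 LD3_c29))
theorem f776774 : Led Lsl_et (LP (LK LD1_c6 LD2_c35 LD3_c29)) = v18950 :=
  Lrfl
theorem f776776 : Led Lsl_cf K59.v6768 = v18950 :=
  Lgr Lrot39 (Lpe (K59.f658305 IH) (Lpqs (K58.f769182 IH) (Lpr_ct (K58.f769028 IH) (Lpqs (K58.f769332 IH) (Lpr_et (f776774 IH) (Lpn v18950))))))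
theorem f777829 : (LP (LK LD1_c6 LD2_c40 LD3_c56)) = v18950 :=
  (Llr Lrot144 (Lpr_gt (f508840 IH) (Lpr_dt (K57.f651543 IH) (Lpr_gt (K57.f755025 IH) (Lpe (K57.f755022 IH) (Lpr_cf (K46.f649359 IH) (Lpe (K48.f649367 IH) (Lpe (K46.f651186 IH) (Lpr_df (K56.f653963 IH) (Lpr_gf (f777827 IH) (Lpr_cf (f776776 IH) (Lpn v18950)))))))))))).symm
theorem f776775 : Led Lsl_af (LP (LK LD1_c6 LD2_c37 LD3_c54)) = v18950 :=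
  Lgr Lrot50 (Lpr_et (K49.f103819 IH) (Lpr_at (K58.f650849 IH) (Lpqs (K58.f769332 IH) (Lpr_et (f776774 IH) (Lpn v18950)))))
theorem f777830 : Led Lsl_at (LP (LK LD1_c6 LD2_c40 LD3_c56)) = (LP (LK LD1_c6 LD2_c37 LD3_c54)) :=
  Leop (Lpr_af (f776775 IH) (Lpq (f777829 IH) (Lpn (LP (LK LD1_c6 LD2_c40 LD3_c56)))))
theorem seed_1422 : LEOK LG_a (LK LD1_c6 LD2_c40 LD3_c56) :=
  Leoe_a (LK LD1_c6 LD2_c40 LD3_c56) (f777830 IH)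
def v19121 : LQ := Led Lsl_ft (LP (LK LD1_c6 LD2_c38 LD3_c22))
theorem f777919 : Led Lsl_ft (LP (LK LD1_c6 LD2_c38 LD3_c22)) = v19121 :=
  Lrfl
theorem f62209 : Led Lsl_ct (LP (LK LD1_c3 LD2_c17 LD3_c32)) = (LP (LK LD1_c6 LD2_c38 LD3_c22)) :=
  Lre_c IH (LK LD1_c3 LD2_c17 LD3_c32) (LK LD1_c6 LD2_c38 LD3_c22) Lrfl Lrfl
theorem f93872 : Led Lsl_ft (LP (LK LD1_c6 LD2_c38 LD3_c28)) = (LP (LK LD1_c3 LD2_c17 LD3_c32)) :=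
  Lre_f IH (LK LD1_c6 LD2_c38 LD3_c28) (LK LD1_c3 LD2_c17 LD3_c32) Lrfl Lrfl
theorem f777921 : Led Lsl_cf (LP (LK LD1_c6 LD2_c38 LD3_c28)) = v19121 :=
  Lgr Lrot108 (Lpr_ft (f93872 IH) (Lpr_ct (f62209 IH) (Lpr_ft (f777919 IH) (Lpn v19121))))
theorem f62248 : Led Lsl_gt (LP (LK LD1_c12 LD2_c42 LD3_c21)) = (LP (LK LD1_c6 LD2_c38 LD3_c28)) :=
  Lre_g IH (LK LD1_c12 LD2_c42 LD3_c21) (LK LD1_c6 LD2_c38 LD3_c28) Lrfl Lrfl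
theorem f437712 : Led Lsl_ct (LP (LK LD1_c21 LD2_c49 LD3_c38)) = (LP (LK LD1_c12 LD2_c42 LD3_c21)) :=
  Lre_c IH (LK LD1_c21 LD2_c49 LD3_c38) (LK LD1_c12 LD2_c42 LD3_c21) Lrfl Lrfl
theorem f777920 : Led Lsl_bf (LP (LK LD1_c13 LD2_c15 LD3_c15)) = v19121 :=
  Lgr Lrot61 (Lpr_ft (K59.f62282 IH) (Lpr_bt (K4.f62262 IH) (Lpr_ft (f777919 IH) (Lpn v19121))))
theorem f633502 : Led Lsl_ff (LP (LK LD1_c2 LD2_c21 LD3_c50)) = K59.v4457 :=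
  Lgr Lrot3 (Lpr_ft (K59.f633500 IH) (Lpn K59.v4457))
theorem f704738 : Led Lsl_cf K59.v4457 = K57.v13765 :=
  Lgr Lrot108 (Lpe (f633502 IH) (Lpr_ct (K57.f92168 IH) (Lpr_ft (K57.f704736 IH) (Lpn K57.v13765))))
theorem f92172 : Led Lsl_bt (LP (LK LD1_c4 LD2_c47 LD3_c44)) = (LP (LK LD1_c9 LD2_c28 LD3_c30)) :=
  Lre_b IH (LK LD1_c4 LD2_c47 LD3_c44) (LK LD1_c9 LD2_c28 LD3_c30) Lrfl Lrfl
theorem f135827 : Led Lsl_gt (LP (LK LD1_c9 LD2_c28 LD3_c30)) = (LP (LK LD1_c17 LD2_c28 LD3_c26)) :=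
  Lre_g IH (LK LD1_c9 LD2_c28 LD3_c30) (LK LD1_c17 LD2_c28 LD3_c26) Lrfl Lrfl
theorem f777927 : Led Lsl_bt (LP (LK LD1_c21 LD2_c49 LD3_c38)) = (LP (LK LD1_c17 LD2_c28 LD3_c26)) :=
  Lgr Lrot92 (Lpr_ct (f437712 IH) (Lpr_gt (f62248 IH) (Lpr_cf (f777921 IH) (Lpe (f777920 IH) (Lpr_gt (K59.f768339 IH) (Lpq (K59.f772882 IH) (Lpe (f704738 IH) (Lpq (K59.f709304 IH) (Lpe (K59.f633454 IH) (Lpe (K51.f437692 IH) (Lpr_bt (f92172 IH) (Lpr_gt (f135827 IH) (Lpn (LP (LK LD1_c17 LD2_c28 LD3_c26)))))))))))))))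
theorem f777928 : Led Lsl_bt (LP (LK LD1_c21 LD2_c49 LD3_c38)) = (LP (LK LD1_c17 LD2_c28 LD3_c26)) :=
  Leop (Lpe (f777927 IH) (Lpn (LP (LK LD1_c21 LD2_c49 LD3_c38))))
theorem seed_1423 : LEOK LG_b (LK LD1_c21 LD2_c49 LD3_c38) :=
  Leoe_b (LK LD1_c21 LD2_c49 LD3_c38) (f777928 IH)
def v19161 : LQ := Led Lsl_ft (LP (LK LD1_c6 LD2_c39 LD3_c15))
theorem f778108 : Led Lsl_ft (LP (LK LD1_c6 LD2_c39 LD3_c15)) = v19161 :=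
  Lrfl
theorem f100387 : Led Lsl_et (LP (LK LD1_c9 LD2_c11 LD3_c56)) = (LP (LK LD1_c4 LD2_c38 LD3_c7)) :=
  Lre_e IH (LK LD1_c9 LD2_c11 LD3_c56) (LK LD1_c4 LD2_c38 LD3_c7) Lrfl Lrfl
theorem f206759 : Led Lsl_at (LP (LK LD1_c6 LD2_c39 LD3_c15)) = (LP (LK LD1_c9 LD2_c11 LD3_c56)) :=
  Lgr Lrot80 (Lpe (K57.f157150 IH) (Lpr_af (K11.f206751 IH) (Lpe (f100387 IH) (Lpn (LP (LK LD1_c9 LD2_c11 LD3_c56))))))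
theorem f209947 : Led Lsl_af (LP (LK LD1_c6 LD2_c39 LD3_c15)) = (LP (LK LD1_c9 LD2_c11 LD3_c56)) :=
  Lgr Lrot0 (Lpr_at (f206759 IH) (Lpn (LP (LK LD1_c9 LD2_c11 LD3_c56))))
theorem f100400 : Led Lsl_ft (LP (LK LD1_c17 LD2_c5 LD3_c48)) = (LP (LK LD1_c9 LD2_c11 LD3_c56)) :=
  Lre_f IH (LK LD1_c17 LD2_c5 LD3_c48) (LK LD1_c9 LD2_c11 LD3_c56) Lrfl Lrfl
theorem f778109 : Led Lsl_af (LP (LK LD1_c17 LD2_c5 LD3_c48)) = v19161 :=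
  Lgr Lrot45 (Lpr_ft (f100400 IH) (Lpe (f209947 IH) (Lpr_ft (f778108 IH) (Lpn v19161))))
theorem f778112 : Led Lsl_gt (LP (LK LD1_c12 LD2_c44 LD3_c9)) = (LP (LK LD1_c17 LD2_c5 LD3_c48)) :=
  Lgr Lrot46 (Lpe (K57.f209917 IH) (Lpr_ft (f778108 IH) (Lpe (f778109 IH) (Lpn (LP (LK LD1_c17 LD2_c5 LD3_c48))))))
theorem f778113 : Led Lsl_gt (LP (LK LD1_c12 LD2_c44 LD3_c9)) = (LP (LK LD1_c17 LD2_c5 LD3_c48)) :=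
  Leop (Lpe (f778112 IH) (Lpn (LP (LK LD1_c12 LD2_c44 LD3_c9))))
theorem seed_1424 : LEOK LG_g (LK LD1_c12 LD2_c44 LD3_c9) :=
  Leoe_g (LK LD1_c12 LD2_c44 LD3_c9) (f778113 IH)
theorem f778111 : Led Lsl_ff (LP (LK LD1_c6 LD2_c39 LD3_c15)) = v19161 :=
  Lgr Lrot3 (Lpr_ft (f778108 IH) (Lpn v19161))
theorem f100397 : Led Lsl_gt (LP (LK LD1_c17 LD2_c5 LD3_c46)) = (LP (LK LD1_c9 LD2_c11 LD3_c56)) :=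
  Lre_g IH (LK LD1_c17 LD2_c5 LD3_c46) (LK LD1_c9 LD2_c11 LD3_c56) Lrfl Lrfl
theorem f778116 : Led Lsl_gf (LP (LK LD1_c17 LD2_c5 LD3_c46)) = v19161 :=
  Lgr Lrot47 (Lpr_gt (f100397 IH) (Lpe (f206759 IH) (Lpr_ff (f778111 IH) (Lpn v19161))))
theorem f778115 : Led Lsl_bt (LP (LK LD1_c9 LD2_c13 LD3_c45)) = v19161 :=
  Lgr Lrot35 (Lpr_ff (K52.f713963 IH) (Lpe (K57.f209903 IH) (Lpr_ff (f778111 IH) (Lpn v19161))))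
theorem f140102 : Led Lsl_bt (LP (LK LD1_c1 LD2_c5 LD3_c8)) = (LP (LK LD1_c2 LD2_c16 LD3_c31)) :=
  Lre_b IH (LK LD1_c1 LD2_c5 LD3_c8) (LK LD1_c2 LD2_c16 LD3_c31) Lrfl Lrfl
theorem f140104 : Led Lsl_bt (LP (LK LD1_c4 LD2_c39 LD3_c1)) = (LP (LK LD1_c6 LD2_c51 LD3_c21)) :=
  Lgr Lrot128 (Lpe (K52.f140103 IH) (Lpe (f140102 IH) (Lpr_cf (K9.f140099 IH) (Lpe (K51.f77368 IH) (Lpe (K52.f77369 IH) (Lpn (LP (LK LD1_c6 LD2_c51 LD3_c21))))))))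
theorem f139056 : Led Lsl_et (LP (LK LD1_c9 LD2_c10 LD3_c2)) = (LP (LK LD1_c4 LD2_c37 LD3_c10)) :=
  Lre_e IH (LK LD1_c9 LD2_c10 LD3_c2) (LK LD1_c4 LD2_c37 LD3_c10) Lrfl Lrfl
theorem f428494 : Led Lsl_dt (LP (LK LD1_c17 LD2_c3 LD3_c10)) = (LP (LK LD1_c9 LD2_c10 LD3_c2)) :=
  Lre_d IH (LK LD1_c17 LD2_c3 LD3_c10) (LK LD1_c9 LD2_c10 LD3_c2) Lrfl Lrfl
theorem f428495 : Led Lsl_ef (LP (LK LD1_c17 LD2_c3 LD3_c10)) = (LP (LK LD1_c9 LD2_c19 LD3_c60)) :=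
  Lgr Lrot73 (Lpr_dt (f428494 IH) (Lpr_et (f139056 IH) (Lpr_dt (K32.f428469 IH) (Lpr_et (K5.f124079 IH) (Lpr_dt (K51.f124087 IH) (Lpn (LP (LK LD1_c9 LD2_c19 LD3_c60))))))))
theorem f428505 : Led Lsl_et (LP (LK LD1_c17 LD2_c3 LD3_c10)) = (LP (LK LD1_c9 LD2_c19 LD3_c60)) :=
  Lgr Lrot87 (Lpr_ef (f428495 IH) (Lpn (LP (LK LD1_c9 LD2_c19 LD3_c60))))
theorem f428509 : Led Lsl_bt (LP (LK LD1_c9 LD2_c10 LD3_c8)) = (LP (LK LD1_c17 LD2_c3 LD3_c10)) :=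
  Lre_b IH (LK LD1_c9 LD2_c10 LD3_c8) (LK LD1_c17 LD2_c3 LD3_c10) Lrfl Lrfl
theorem f428510 : Led Lsl_et (LP (LK LD1_c17 LD2_c3 LD3_c14)) = (LP (LK LD1_c9 LD2_c10 LD3_c8)) :=
  Lre_e IH (LK LD1_c17 LD2_c3 LD3_c14) (LK LD1_c9 LD2_c10 LD3_c8) Lrfl Lrfl
theorem f428511 : Led Lsl_bf (LP (LK LD1_c17 LD2_c3 LD3_c14)) = (LP (LK LD1_c9 LD2_c19 LD3_c60)) :=
  Lgr Lrot96 (Lpr_et (f428510 IH) (Lpr_bt (f428509 IH) (Lpr_et (f428505 IH) (Lpn (LP (LK LD1_c9 LD2_c19 LD3_c60))))))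
theorem f428513 : Led Lsl_dt (LP (LK LD1_c17 LD2_c3 LD3_c14)) = (LP (LK LD1_c9 LD2_c10 LD3_c5)) :=
  Lre_d IH (LK LD1_c17 LD2_c3 LD3_c14) (LK LD1_c9 LD2_c10 LD3_c5) Lrfl Lrfl
theorem f428514 : Led Lsl_bt (LP (LK LD1_c9 LD2_c10 LD3_c5)) = (LP (LK LD1_c4 LD2_c43 LD3_c13)) :=
  Lgr Lrot95 (Lpe (f428513 IH) (Lpr_bf (f428511 IH) (Lpe (K51.f124087 IH) (Lpn (LP (LK LD1_c4 LD2_c43 LD3_c13))))))
theorem f141201 : Led Lsl_gt (LP (LK LD1_c12 LD2_c30 LD3_c26)) = (LP (LK LD1_c6 LD2_c30 LD3_c51)) :=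
  Lre_g IH (LK LD1_c12 LD2_c30 LD3_c26) (LK LD1_c6 LD2_c30 LD3_c51) Lrfl Lrfl
theorem f778117 : Led Lsl_ct (LP (LK LD1_c17 LD2_c5 LD3_c46)) = (LP (LK LD1_c12 LD2_c30 LD3_c26)) :=
  Lgr Lrot91 (Lpr_gf (f778116 IH) (Lpe (f778115 IH) (Lpr_ct (K52.f140967 IH) (Lpe (K52.f23068 IH) (Lpe (K52.f140137 IH) (Lpr_bt (f140104 IH) (Lpqs (K57.f760455 IH) (Lpe (K57.f702369 IH) (Lpe (f428514 IH) (Lpr_ct (K57.f438102 IH) (Lpe (f141201 IH) (Lpn (LP (LK LD1_c12 LD2_c30 LD3_c26))))))))))))))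
theorem f778118 : Led Lsl_ct (LP (LK LD1_c17 LD2_c5 LD3_c46)) = (LP (LK LD1_c12 LD2_c30 LD3_c26)) :=
  Leop (Lpe (f778117 IH) (Lpn (LP (LK LD1_c17 LD2_c5 LD3_c46))))
theorem seed_1425 : LEOK LG_c (LK LD1_c17 LD2_c5 LD3_c46) :=
  Leoe_c (LK LD1_c17 LD2_c5 LD3_c46) (f778118 IH)
theorem f778119 : Led Lsl_bf (LP (LK LD1_c17 LD2_c5 LD3_c46)) = (LP (LK LD1_c12 LD2_c1 LD3_c59)) :=
  Lgr Lrot34 (Lpr_gf (f778116 IH) (Lpe (f778115 IH) (Lpr_ct (K52.f140967 IH) (Lpe (K52.f23068 IH) (Lpe (K52.f140137 IH) (Lpr_gf (K52.f700977 IH) (Lpqs (K52.f713883 IH) (Lpr_bf (K52.f420487 IH) (Lpr_ct (K52.f96055 IH) (Lpe (K52.f109956 IH) (Lpr_cf (K52.f714661 IH) (Lpn (LP (LK LD1_c12 LD2_c1 LD3_c59))))))))))))))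
theorem f778120 : Led Lsl_bt (LP (LK LD1_c12 LD2_c1 LD3_c59)) = (LP (LK LD1_c17 LD2_c5 LD3_c46)) :=
  Leop (Lpr_bf (f778119 IH) (Lpn (LP (LK LD1_c12 LD2_c1 LD3_c59))))
theorem seed_1426 : LEOK LG_b (LK LD1_c12 LD2_c1 LD3_c59) :=
  Leoe_b (LK LD1_c12 LD2_c1 LD3_c59) (f778120 IH)
def v19177 : LQ := Led Lsl_at (LP (LK LD1_c6 LD2_c39 LD3_c24))
theorem f778246 : Led Lsl_at (LP (LK LD1_c6 LD2_c39 LD3_c24)) = v19177 :=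
  Lrfl
theorem f157158 : Led Lsl_dt (LP (LK LD1_c3 LD2_c17 LD3_c54)) = (LP (LK LD1_c6 LD2_c39 LD3_c24)) :=
  Lre_d IH (LK LD1_c3 LD2_c17 LD3_c54) (LK LD1_c6 LD2_c39 LD3_c24) Lrfl Lrfl
def v6104 : LQ := Led Lsl_at (LP (LK LD1_c3 LD2_c17 LD3_c54))
theorem f651086 : Led Lsl_at (LP (LK LD1_c3 LD2_c17 LD3_c54)) = v6104 :=
  Lrfl
theorem f651087 : Led Lsl_af (LP (LK LD1_c3 LD2_c17 LD3_c54)) = v6104 :=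
  Lgr Lrot0 (Lpr_at (f651086 IH) (Lpn v6104))
theorem f778249 : Led Lsl_df v6104 = v19177 :=
  Lgr Lrot18 (Lpe (f651087 IH) (Lpr_dt (f157158 IH) (Lpr_at (f778246 IH) (Lpn v19177))))
theorem f157157 : Led Lsl_gt (LP (LK LD1_c1 LD2_c35 LD3_c28)) = (LP (LK LD1_c3 LD2_c17 LD3_c54)) :=
  Lre_g IH (LK LD1_c1 LD2_c35 LD3_c28) (LK LD1_c3 LD2_c17 LD3_c54) Lrfl Lrfl
theorem f651091 : Led Lsl_ft (LP (LK LD1_c3 LD2_c17 LD3_c55)) = v6104 :=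
  Lgr Lrot2 (Lpr_gt (K17.f140987 IH) (Lpr_gt (f157157 IH) (Lpr_af (f651087 IH) (Lpn v6104))))
theorem f651095 : Led Lsl_ff (LP (LK LD1_c3 LD2_c17 LD3_c55)) = v6104 :=
  Lgr Lrot3 (Lpr_ft (f651091 IH) (Lpn v6104))
theorem f651092 : Led Lsl_dt (LP (LK LD1_c3 LD2_c17 LD3_c55)) = (LP (LK LD1_c6 LD2_c39 LD3_c28)) :=
  Lre_d IH (LK LD1_c3 LD2_c17 LD3_c55) (LK LD1_c6 LD2_c39 LD3_c28) Lrfl Lrfl
theorem f778252 : Led Lsl_ft (LP (LK LD1_c6 LD2_c39 LD3_c28)) = v19177 :=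
  Lgr Lrot54 (Lpe (f651092 IH) (Lpr_ff (f651095 IH) (Lpr_df (f778249 IH) (Lpn v19177))))
theorem f778247 : Led Lsl_af (LP (LK LD1_c6 LD2_c39 LD3_c24)) = v19177 :=
  Lgr Lrot0 (Lpr_at (f778246 IH) (Lpn v19177))
theorem f778231 : Led Lsl_gt (LP (LK LD1_c12 LD2_c44 LD3_c32)) = (LP (LK LD1_c6 LD2_c39 LD3_c24)) :=
  Lre_g IH (LK LD1_c12 LD2_c44 LD3_c32) (LK LD1_c6 LD2_c39 LD3_c24) Lrfl Lrfl
theorem f778257 : Led Lsl_gt (LP (LK LD1_c6 LD2_c39 LD3_c28)) = (LP (LK LD1_c12 LD2_c44 LD3_c32)) :=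
  Lgr Lrot5 (Lpr_ft (f778252 IH) (Lpe (f778247 IH) (Lpe (f778231 IH) (Lpn (LP (LK LD1_c12 LD2_c44 LD3_c32))))))
theorem f778258 : Led Lsl_gt (LP (LK LD1_c6 LD2_c39 LD3_c28)) = (LP (LK LD1_c12 LD2_c44 LD3_c32)) :=
  Leop (Lpe (f778257 IH) (Lpn (LP (LK LD1_c6 LD2_c39 LD3_c28))))
theorem seed_1427 : LEOK LG_g (LK LD1_c6 LD2_c39 LD3_c28) :=
  Leoe_g (LK LD1_c6 LD2_c39 LD3_c28) (f778258 IH)
def v19178 : LQ := Led Lsl_ft (LP (LK LD1_c6 LD2_c39 LD3_c24))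
theorem f778272 : Led Lsl_ft (LP (LK LD1_c6 LD2_c39 LD3_c24)) = v19178 :=
  Lrfl
theorem f157159 : Led Lsl_gt (LP (LK LD1_c6 LD2_c39 LD3_c24)) = (LP (LK LD1_c12 LD2_c44 LD3_c31)) :=
  Lre_g IH (LK LD1_c6 LD2_c39 LD3_c24) (LK LD1_c12 LD2_c44 LD3_c31) Lrfl Lrfl
theorem f778273 : Led Lsl_af (LP (LK LD1_c6 LD2_c39 LD3_c28)) = v19178 :=
  Lgr Lrot45 (Lpr_ft (f778252 IH) (Lpe (f778247 IH) (Lpr_ft (f778272 IH) (Lpn v19178))))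
theorem f778277 : Led Lsl_gt (LP (LK LD1_c12 LD2_c44 LD3_c31)) = (LP (LK LD1_c6 LD2_c39 LD3_c28)) :=
  Lgr Lrot46 (Lpe (f157159 IH) (Lpr_ft (f778272 IH) (Lpe (f778273 IH) (Lpn (LP (LK LD1_c6 LD2_c39 LD3_c28))))))
theorem f778278 : Led Lsl_gt (LP (LK LD1_c12 LD2_c44 LD3_c31)) = (LP (LK LD1_c6 LD2_c39 LD3_c28)) :=
  Leop (Lpe (f778277 IH) (Lpn (LP (LK LD1_c12 LD2_c44 LD3_c31))))
theorem seed_1428 : LEOK LG_g (LK LD1_c12 LD2_c44 LD3_c31) :=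
  Leoe_g (LK LD1_c12 LD2_c44 LD3_c31) (f778278 IH)
def v19179 : LQ := Led Lsl_gt (LP (LK LD1_c6 LD2_c39 LD3_c25))
theorem f778315 : Led Lsl_gt (LP (LK LD1_c6 LD2_c39 LD3_c25)) = v19179 :=
  Lrfl
def v19182 : LQ := Led Lsl_dt (LP (LK LD1_c6 LD2_c39 LD3_c25))
theorem f778321 : Led Lsl_dt (LP (LK LD1_c6 LD2_c39 LD3_c25)) = v19182 :=
  Lrfl
theorem f80081 : Led Lsl_et (LP (LK LD1_c6 LD2_c39 LD3_c25)) = (LP (LK LD1_c3 LD2_c17 LD3_c54)) :=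
  Lre_e IH (LK LD1_c6 LD2_c39 LD3_c25) (LK LD1_c3 LD2_c17 LD3_c54) Lrfl Lrfl
theorem f157156 : Led Lsl_et (LP (LK LD1_c0 LD2_c44 LD3_c19)) = (LP (LK LD1_c1 LD2_c35 LD3_c28)) :=
  Lre_e IH (LK LD1_c0 LD2_c44 LD3_c19) (LK LD1_c1 LD2_c35 LD3_c28) Lrfl Lrfl
theorem f100042 : Led Lsl_et (LP (LK LD1_c6 LD2_c10 LD3_c56)) = (LP (LK LD1_c3 LD2_c2 LD3_c5)) :=
  Lre_e IH (LK LD1_c6 LD2_c10 LD3_c56) (LK LD1_c3 LD2_c2 LD3_c5) Lrfl Lrfl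
theorem f61464 : Led Lsl_dt (LP (LK LD1_c6 LD2_c10 LD3_c56)) = (LP (LK LD1_c12 LD2_c2 LD3_c15)) :=
  Lre_d IH (LK LD1_c6 LD2_c10 LD3_c56) (LK LD1_c12 LD2_c2 LD3_c15) Lrfl Lrfl
theorem f778324 : Led Lsl_gf (LP (LK LD1_c12 LD2_c2 LD3_c15)) = v19182 :=
  Lgr Lrot145 (Lpe (f61464 IH) (Lpr_et (f100042 IH) (Lpr_gt (K38.f100221 IH) (Lpe (K8.f157039 IH) (Lpr_gt (K8.f65995 IH) (Lpe (K7.f56858 IH) (Lpr_et (f157156 IH) (Lpr_gt (f157157 IH) (Lpe (f80081 IH) (Lpr_dt (f778321 IH) (Lpn v19182)))))))))))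
theorem f61466 : Led Lsl_dt (LP (LK LD1_c12 LD2_c2 LD3_c15)) = (LP (LK LD1_c6 LD2_c10 LD3_c56)) :=
  Lre_d IH (LK LD1_c12 LD2_c2 LD3_c15) (LK LD1_c6 LD2_c10 LD3_c56) Lrfl Lrfl
theorem f61455 : Led Lsl_ct (LP (LK LD1_c3 LD2_c2 LD3_c29)) = (LP (LK LD1_c6 LD2_c10 LD3_c56)) :=
  Lre_c IH (LK LD1_c3 LD2_c2 LD3_c29) (LK LD1_c6 LD2_c10 LD3_c56) Lrfl Lrfl
def v19180 : LQ := Led Lsl_gf (LP (LK LD1_c6 LD2_c39 LD3_c25))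
theorem f778316 : Led Lsl_gf (LP (LK LD1_c6 LD2_c39 LD3_c25)) = v19180 :=
  Lrfl
theorem f778326 : Led Lsl_cf K55.v6336 = v19180 :=
  Lgr Lrot166 (Lpe (K55.f652886 IH) (Lpr_dt (K51.f79991 IH) (Lpe (K55.f617086 IH) (Lpe (K50.f549523 IH) (Lpr_ct (f61455 IH) (Lpe (f61466 IH) (Lpr_gf (f778324 IH) (Lpe (f778321 IH) (Lpr_gf (f778316 IH) (Lpn v19180))))))))))
theorem f778329 : Led Lsl_ft (LP (LK LD1_c12 LD2_c47 LD3_c18)) = v19180 :=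
  Lgr Lrot4 (Lpr_cf (K59.f775862 IH) (Lpq (K59.f700279 IH) (Lpr_ff (K55.f672063 IH) (Lpq (K55.f747241 IH) (Lpr_cf (f778326 IH) (Lpn v19180))))))
theorem f778331 : Led Lsl_ff (LP (LK LD1_c12 LD2_c47 LD3_c18)) = v19180 :=
  Lgr Lrot3 (Lpr_ft (f778329 IH) (Lpn v19180))
theorem f700343 : Led Lsl_ft (LP (LK LD1_c6 LD2_c2 LD3_c0)) = (LP (LK LD1_c9 LD2_c11 LD3_c23)) :=
  Lgr Lrot75 (Lpr_bf (K59.f624571 IH) (Lpe (K58.f624574 IH) (Lpr_bf (K58.f700337 IH) (Lpn (LP (LK LD1_c9 LD2_c11 LD3_c23))))))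
theorem f700349 : Led Lsl_af (LP (LK LD1_c6 LD2_c39 LD3_c3)) = (LP (LK LD1_c9 LD2_c11 LD3_c23)) :=
  Lgr Lrot31 (Lpe (K55.f499288 IH) (Lpr_gf (K46.f651072 IH) (Lpqs (K52.f698908 IH) (Lpr_ft (f700343 IH) (Lpn (LP (LK LD1_c9 LD2_c11 LD3_c23)))))))
theorem f700351 : Led Lsl_at (LP (LK LD1_c6 LD2_c39 LD3_c3)) = (LP (LK LD1_c9 LD2_c11 LD3_c23)) :=
  Lgr Lrot100 (Lpr_af (f700349 IH) (Lpn (LP (LK LD1_c9 LD2_c11 LD3_c23))))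
theorem f116876 : Led Lsl_et (LP (LK LD1_c12 LD2_c43 LD3_c47)) = (LP (LK LD1_c6 LD2_c39 LD3_c3)) :=
  Lre_e IH (LK LD1_c12 LD2_c43 LD3_c47) (LK LD1_c6 LD2_c39 LD3_c3) Lrfl Lrfl
theorem f775854 : Led Lsl_at (LP (LK LD1_c12 LD2_c47 LD3_c18)) = (LP (LK LD1_c12 LD2_c43 LD3_c47)) :=
  Lgr Lrot80 (Lpr_ef (K59.f775852 IH) (Lpe (f700351 IH) (Lpe (f116876 IH) (Lpn (LP (LK LD1_c12 LD2_c43 LD3_c47))))))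
theorem f778332 : (LP (LK LD1_c12 LD2_c43 LD3_c47)) = v19179 :=
  (Llr Lrot26 (Lpe (f775854 IH) (Lpr_ff (f778331 IH) (Lpe (f778316 IH) (Lpr_gt (f778315 IH) (Lpn v19179)))))).symm
theorem f778333 : Led Lsl_gt (LP (LK LD1_c6 LD2_c39 LD3_c25)) = (LP (LK LD1_c12 LD2_c43 LD3_c47)) :=
  Leop (Lpqs (f778332 IH) (Lpe (f778315 IH) (Lpn (LP (LK LD1_c6 LD2_c39 LD3_c25)))))
theorem seed_1429 : LEOK LG_g (LK LD1_c6 LD2_c39 LD3_c25) :=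
  Leoe_g (LK LD1_c6 LD2_c39 LD3_c25) (f778333 IH)
def v19202 : LQ := Led Lsl_et (LP (LK LD1_c6 LD2_c39 LD3_c47))
theorem f778444 : Led Lsl_et (LP (LK LD1_c6 LD2_c39 LD3_c47)) = v19202 :=
  Lrfl
theorem f778446 : Led Lsl_ef (LP (LK LD1_c6 LD2_c39 LD3_c47)) = v19202 :=
  Lgr Lrot88 (Lpr_et (f778444 IH) (Lpn v19202))
theorem f63794 : Led Lsl_gt (LP (LK LD1_c6 LD2_c39 LD3_c47)) = (LP (LK LD1_c3 LD2_c51 LD3_c47)) :=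
  Lre_g IH (LK LD1_c6 LD2_c39 LD3_c47) (LK LD1_c3 LD2_c51 LD3_c47) Lrfl Lrfl
theorem f63757 : Led Lsl_dt (LP (LK LD1_c3 LD2_c51 LD3_c47)) = (LP (LK LD1_c7 LD2_c45 LD3_c18)) :=
  Lre_d IH (LK LD1_c3 LD2_c51 LD3_c47) (LK LD1_c7 LD2_c45 LD3_c18) Lrfl Lrfl
theorem f63758 : Led Lsl_gt (LP (LK LD1_c7 LD2_c45 LD3_c18)) = (LP (LK LD1_c12 LD2_c45 LD3_c29)) :=
  Lre_g IH (LK LD1_c7 LD2_c45 LD3_c18) (LK LD1_c12 LD2_c45 LD3_c29) Lrfl Lrfl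
theorem f63224 : Led Lsl_at (LP (LK LD1_c6 LD2_c59 LD3_c58)) = (LP (LK LD1_c3 LD2_c30 LD3_c17)) :=
  Lre_a IH (LK LD1_c6 LD2_c59 LD3_c58) (LK LD1_c3 LD2_c30 LD3_c17) Lrfl Lrfl
theorem f63225 : Led Lsl_et (LP (LK LD1_c3 LD2_c30 LD3_c17)) = (LP (LK LD1_c7 LD2_c2 LD3_c21)) :=
  Lre_e IH (LK LD1_c3 LD2_c30 LD3_c17) (LK LD1_c7 LD2_c2 LD3_c21) Lrfl Lrfl
theorem f63226 : Led Lsl_at (LP (LK LD1_c7 LD2_c2 LD3_c21)) = (LP (LK LD1_c7 LD2_c41 LD3_c33)) :=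
  Lgr Lrot80 (Lpe (f63225 IH) (Lpe (f63224 IH) (Lpr_ef (K2.f63219 IH) (Lpn (LP (LK LD1_c7 LD2_c41 LD3_c33))))))
theorem f19114 : Led Lsl_ft (LP (LK LD1_c3 LD2_c30 LD3_c18)) = (LP (LK LD1_c7 LD2_c2 LD3_c21)) :=
  Lre_f IH (LK LD1_c3 LD2_c30 LD3_c18) (LK LD1_c7 LD2_c2 LD3_c21) Lrfl Lrfl
theorem f19115 : Led Lsl_gt (LP (LK LD1_c3 LD2_c30 LD3_c18)) = (LP (LK LD1_c7 LD2_c2 LD3_c22)) :=
  Lre_g IH (LK LD1_c3 LD2_c30 LD3_c18) (LK LD1_c7 LD2_c2 LD3_c22) Lrfl Lrfl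
theorem f63611 : Led Lsl_gt (LP (LK LD1_c7 LD2_c2 LD3_c22)) = (LP (LK LD1_c7 LD2_c41 LD3_c33)) :=
  Lgr Lrot46 (Lpe (f19115 IH) (Lpr_ft (f19114 IH) (Lpr_at (f63226 IH) (Lpn (LP (LK LD1_c7 LD2_c41 LD3_c33))))))
theorem f63614 : Led Lsl_et (LP (LK LD1_c13 LD2_c20 LD3_c61)) = (LP (LK LD1_c7 LD2_c2 LD3_c22)) :=
  Lre_e IH (LK LD1_c13 LD2_c20 LD3_c61) (LK LD1_c7 LD2_c2 LD3_c22) Lrfl Lrfl
theorem f63756 : Led Lsl_et (LP (LK LD1_c3 LD2_c51 LD3_c47)) = (LP (LK LD1_c1 LD2_c52 LD3_c37)) :=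
  Lre_e IH (LK LD1_c3 LD2_c51 LD3_c47) (LK LD1_c1 LD2_c52 LD3_c37) Lrfl Lrfl
theorem f63759 : Led Lsl_dt (LP (LK LD1_c13 LD2_c20 LD3_c61)) = (LP (LK LD1_c12 LD2_c45 LD3_c29)) :=
  Lgr Lrot37 (Lpr_et (f63614 IH) (Lpr_gt (f63611 IH) (Lpr_dt (K3.f63215 IH) (Lpe (K3.f63580 IH) (Lpr_df (K3.f63738 IH) (Lpr_et (K3.f63737 IH) (Lpr_gt (K3.f14467 IH) (Lpe (f63756 IH) (Lpr_dt (f63757 IH) (Lpr_gt (f63758 IH) (Lpn (LP (LK LD1_c12 LD2_c45 LD3_c29)))))))))))))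
theorem f63222 : Led Lsl_gt (LP (LK LD1_c13 LD2_c16 LD3_c52)) = (LP (LK LD1_c7 LD2_c2 LD3_c18)) :=
  Lre_g IH (LK LD1_c13 LD2_c16 LD3_c52) (LK LD1_c7 LD2_c2 LD3_c18) Lrfl Lrfl
theorem f778447 : Led Lsl_df (LP (LK LD1_c7 LD2_c2 LD3_c18)) = v19202 :=
  Lgr Lrot168 (Lpe (f63222 IH) (Lpe (K2.f63221 IH) (Lpr_et (K1.f63203 IH) (Lpe (f63611 IH) (Lpe (f63614 IH) (Lpr_dt (f63759 IH) (Lpe (f63758 IH) (Lpe (f63757 IH) (Lpe (f63794 IH) (Lpr_ef (f778446 IH) (Lpn v19202)))))))))))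
theorem f778449 : Led Lsl_et (LP (LK LD1_c7 LD2_c2 LD3_c18)) = (LP (LK LD1_c13 LD2_c20 LD3_c54)) :=
  Lre_e IH (LK LD1_c7 LD2_c2 LD3_c18) (LK LD1_c13 LD2_c20 LD3_c54) Lrfl Lrfl
theorem f64028 : Led Lsl_dt (LP (LK LD1_c12 LD2_c45 LD3_c24)) = (LP (LK LD1_c6 LD2_c39 LD3_c47)) :=
  Lre_d IH (LK LD1_c12 LD2_c45 LD3_c24) (LK LD1_c6 LD2_c39 LD3_c47) Lrfl Lrfl
theorem f778445 : Led Lsl_et (LP (LK LD1_c21 LD2_c52 LD3_c33)) = (LP (LK LD1_c12 LD2_c45 LD3_c24)) :=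
  Lre_e IH (LK LD1_c21 LD2_c52 LD3_c33) (LK LD1_c12 LD2_c45 LD3_c24) Lrfl Lrfl
theorem f778450 : Led Lsl_dt (LP (LK LD1_c13 LD2_c20 LD3_c54)) = (LP (LK LD1_c21 LD2_c52 LD3_c33)) :=
  Lgr Lrot77 (Lpe (f778449 IH) (Lpr_df (f778447 IH) (Lpe (f778444 IH) (Lpe (f64028 IH) (Lpe (f778445 IH) (Lpn (LP (LK LD1_c21 LD2_c52 LD3_c33))))))))
theorem f778451 : Led Lsl_dt (LP (LK LD1_c13 LD2_c20 LD3_c54)) = (LP (LK LD1_c21 LD2_c52 LD3_c33)) :=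
  Leop (Lpe (f778450 IH) (Lpn (LP (LK LD1_c13 LD2_c20 LD3_c54))))
theorem seed_1430 : LEOK LG_d (LK LD1_c13 LD2_c20 LD3_c54) :=
  Leoe_d (LK LD1_c13 LD2_c20 LD3_c54) (f778451 IH)
def v7380 : LQ := Led Lsl_gt (LP (LK LD1_c3 LD2_c45 LD3_c60))
theorem f664813 : Led Lsl_gt (LP (LK LD1_c3 LD2_c45 LD3_c60)) = v7380 :=
  Lrfl
def v19205 : LQ := Led Lsl_at (LP (LK LD1_c6 LD2_c39 LD3_c51))
theorem f778472 : Led Lsl_at (LP (LK LD1_c6 LD2_c39 LD3_c51)) = v19205 :=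
  Lrfl
theorem f651112 : Led Lsl_ct (LP (LK LD1_c3 LD2_c18 LD3_c1)) = (LP (LK LD1_c6 LD2_c39 LD3_c51)) :=
  Lre_c IH (LK LD1_c3 LD2_c18 LD3_c1) (LK LD1_c6 LD2_c39 LD3_c51) Lrfl Lrfl
def v6106 : LQ := Led Lsl_at (LP (LK LD1_c3 LD2_c18 LD3_c1))
theorem f651110 : Led Lsl_at (LP (LK LD1_c3 LD2_c18 LD3_c1)) = v6106 :=
  Lrfl
theorem f651111 : Led Lsl_af (LP (LK LD1_c3 LD2_c18 LD3_c1)) = v6106 :=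
  Lgr Lrot0 (Lpr_at (f651110 IH) (Lpn v6106))
theorem f778474 : Led Lsl_cf v6106 = v19205 :=
  Lgr Lrot1 (Lpe (f651111 IH) (Lpr_ct (f651112 IH) (Lpr_at (f778472 IH) (Lpn v19205))))
theorem f64278 : Led Lsl_gt (LP (LK LD1_c1 LD2_c35 LD3_c32)) = (LP (LK LD1_c3 LD2_c18 LD3_c1)) :=
  Lre_g IH (LK LD1_c1 LD2_c35 LD3_c32) (LK LD1_c3 LD2_c18 LD3_c1) Lrfl Lrfl
theorem f109788 : Led Lsl_gt (LP (LK LD1_c3 LD2_c18 LD3_c2)) = (LP (LK LD1_c1 LD2_c35 LD3_c32)) :=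
  Lre_g IH (LK LD1_c3 LD2_c18 LD3_c2) (LK LD1_c1 LD2_c35 LD3_c32) Lrfl Lrfl
theorem f651113 : Led Lsl_ft (LP (LK LD1_c3 LD2_c18 LD3_c2)) = v6106 :=
  Lgr Lrot2 (Lpr_gt (f109788 IH) (Lpr_gt (f64278 IH) (Lpr_af (f651111 IH) (Lpn v6106))))
theorem f651121 : Led Lsl_ff (LP (LK LD1_c3 LD2_c18 LD3_c2)) = v6106 :=
  Lgr Lrot3 (Lpr_ft (f651113 IH) (Lpn v6106))
theorem f109789 : Led Lsl_ct (LP (LK LD1_c3 LD2_c18 LD3_c2)) = (LP (LK LD1_c6 LD2_c39 LD3_c53)) :=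
  Lre_c IH (LK LD1_c3 LD2_c18 LD3_c2) (LK LD1_c6 LD2_c39 LD3_c53) Lrfl Lrfl
theorem f778476 : Led Lsl_ft (LP (LK LD1_c6 LD2_c39 LD3_c53)) = v19205 :=
  Lgr Lrot4 (Lpe (f109789 IH) (Lpr_ff (f651121 IH) (Lpr_cf (f778474 IH) (Lpn v19205))))
theorem f109763 : Led Lsl_gt (LP (LK LD1_c21 LD2_c49 LD3_c60)) = (LP (LK LD1_c12 LD2_c42 LD3_c44)) :=
  Lre_g IH (LK LD1_c21 LD2_c49 LD3_c60) (LK LD1_c12 LD2_c42 LD3_c44) Lrfl Lrfl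
theorem f92674 : Led Lsl_gt (LP (LK LD1_c14 LD2_c26 LD3_c51)) = (LP (LK LD1_c7 LD2_c39 LD3_c56)) :=
  Lre_g IH (LK LD1_c14 LD2_c26 LD3_c51) (LK LD1_c7 LD2_c39 LD3_c56) Lrfl Lrfl
theorem f109764 : Led Lsl_ct (LP (LK LD1_c21 LD2_c49 LD3_c60)) = (LP (LK LD1_c14 LD2_c26 LD3_c51)) :=
  Lgr Lrot8 (Lpr_gt (f109763 IH) (Lpr_dt (K4.f105280 IH) (Lpr_gt (K4.f66415 IH) (Lpr_dt (K3.f66406 IH) (Lpr_cf (K52.f109739 IH) (Lpe (K3.f92675 IH) (Lpe (K52.f92653 IH) (Lpr_df (K52.f92654 IH) (Lpe (f92674 IH) (Lpn (LP (LK LD1_c14 LD2_c26 LD3_c51))))))))))))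
theorem f109768 : Led Lsl_et (LP (LK LD1_c12 LD2_c45 LD3_c42)) = (LP (LK LD1_c21 LD2_c49 LD3_c60)) :=
  Lre_e IH (LK LD1_c12 LD2_c45 LD3_c42) (LK LD1_c21 LD2_c49 LD3_c60) Lrfl Lrfl
theorem f109769 : Led Lsl_ct (LP (LK LD1_c21 LD2_c53 LD3_c0)) = (LP (LK LD1_c12 LD2_c45 LD3_c42)) :=
  Lre_c IH (LK LD1_c21 LD2_c53 LD3_c0) (LK LD1_c12 LD2_c45 LD3_c42) Lrfl Lrfl
theorem f109770 : Led Lsl_ef (LP (LK LD1_c21 LD2_c53 LD3_c0)) = (LP (LK LD1_c14 LD2_c26 LD3_c51)) :=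
  Lgr Lrot28 (Lpr_ct (f109769 IH) (Lpr_et (f109768 IH) (Lpr_ct (f109764 IH) (Lpn (LP (LK LD1_c14 LD2_c26 LD3_c51))))))
theorem f109772 : Led Lsl_et (LP (LK LD1_c21 LD2_c53 LD3_c0)) = (LP (LK LD1_c14 LD2_c26 LD3_c51)) :=
  Lgr Lrot87 (Lpr_ef (f109770 IH) (Lpn (LP (LK LD1_c14 LD2_c26 LD3_c51))))
theorem f109776 : Led Lsl_dt (LP (LK LD1_c21 LD2_c53 LD3_c0)) = (LP (LK LD1_c14 LD2_c13 LD3_c44)) :=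
  Lgr Lrot37 (Lpr_et (f109772 IH) (Lpr_gt (f92674 IH) (Lpe (K52.f92654 IH) (Lpr_gt (K52.f92653 IH) (Lpe (K52.f92652 IH) (Lpr_et (K52.f92651 IH) (Lpr_gt (K3.f87187 IH) (Lpe (K5.f92680 IH) (Lpr_dt (K5.f92681 IH) (Lpr_gt (K48.f92682 IH) (Lpn (LP (LK LD1_c14 LD2_c13 LD3_c44)))))))))))))
theorem f109781 : Led Lsl_df (LP (LK LD1_c21 LD2_c53 LD3_c0)) = (LP (LK LD1_c14 LD2_c13 LD3_c44)) :=
  Lgr Lrot38 (Lpr_dt (f109776 IH) (Lpn (LP (LK LD1_c14 LD2_c13 LD3_c44))))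
theorem f109778 : Led Lsl_dt (LP (LK LD1_c6 LD2_c39 LD3_c56)) = (LP (LK LD1_c12 LD2_c45 LD3_c42)) :=
  Lre_d IH (LK LD1_c6 LD2_c39 LD3_c56) (LK LD1_c12 LD2_c45 LD3_c42) Lrfl Lrfl
theorem f109787 : Led Lsl_gt (LP (LK LD1_c3 LD2_c18 LD3_c3)) = (LP (LK LD1_c6 LD2_c39 LD3_c56)) :=
  Lre_g IH (LK LD1_c3 LD2_c18 LD3_c3) (LK LD1_c6 LD2_c39 LD3_c56) Lrfl Lrfl
theorem f66214 : Led Lsl_dt (LP (LK LD1_c1 LD2_c35 LD3_c32)) = (LP (LK LD1_c3 LD2_c18 LD3_c3)) :=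
  Lre_d IH (LK LD1_c1 LD2_c35 LD3_c32) (LK LD1_c3 LD2_c18 LD3_c3) Lrfl Lrfl
theorem f109790 : Led Lsl_gt (LP (LK LD1_c6 LD2_c39 LD3_c53)) = (LP (LK LD1_c3 LD2_c45 LD3_c60)) :=
  Lgr Lrot94 (Lpe (f109789 IH) (Lpr_gt (f109788 IH) (Lpr_dt (f66214 IH) (Lpr_gt (f109787 IH) (Lpr_dt (f109778 IH) (Lpe (f109769 IH) (Lpr_df (f109781 IH) (Lpe (K48.f92682 IH) (Lpe (K5.f92681 IH) (Lpn (LP (LK LD1_c3 LD2_c45 LD3_c60))))))))))))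
theorem f778473 : Led Lsl_af (LP (LK LD1_c6 LD2_c39 LD3_c51)) = v19205 :=
  Lgr Lrot0 (Lpr_at (f778472 IH) (Lpn v19205))
theorem f778479 : v7380 = (LP (LK LD1_c6 LD2_c39 LD3_c51)) :=
  (Llr Lrot46 (Lpe (f664813 IH) (Lpe (f109790 IH) (Lpr_ft (f778476 IH) (Lpe (f778473 IH) (Lpn (LP (LK LD1_c6 LD2_c39 LD3_c51)))))))).symm
theorem f778481 : Led Lsl_gt (LP (LK LD1_c3 LD2_c45 LD3_c60)) = (LP (LK LD1_c6 LD2_c39 LD3_c51)) :=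
  Leop (Lpq (f778479 IH) (Lpe (f664813 IH) (Lpn (LP (LK LD1_c3 LD2_c45 LD3_c60)))))
theorem seed_1431 : LEOK LG_g (LK LD1_c3 LD2_c45 LD3_c60) :=
  Leoe_g (LK LD1_c3 LD2_c45 LD3_c60) (f778481 IH)
def v19207 : LQ := Led Lsl_et (LP (LK LD1_c6 LD2_c39 LD3_c51))
theorem f778579 : Led Lsl_et (LP (LK LD1_c6 LD2_c39 LD3_c51)) = v19207 :=
  Lrfl
theorem f778581 : Led Lsl_ef (LP (LK LD1_c6 LD2_c39 LD3_c51)) = v19207 :=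
  Lgr Lrot88 (Lpr_et (f778579 IH) (Lpn v19207))
def v19204 : LQ := Led Lsl_gf (LP (LK LD1_c6 LD2_c39 LD3_c51))
theorem f778468 : Led Lsl_gf (LP (LK LD1_c6 LD2_c39 LD3_c51)) = v19204 :=
  Lrfl
theorem f778480 : (LP (LK LD1_c3 LD2_c45 LD3_c60)) = v19204 :=
  Lefun (Lecon (Lfl_gt (f664813 IH)) (f778479 IH)) (f778468 IH)
theorem f64809 : Led Lsl_gt (LP (LK LD1_c14 LD2_c23 LD3_c48)) = (LP (LK LD1_c7 LD2_c38 LD3_c24)) :=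
  Lre_g IH (LK LD1_c14 LD2_c23 LD3_c48) (LK LD1_c7 LD2_c38 LD3_c24) Lrfl Lrfl
theorem f778583 : Led Lsl_df (LP (LK LD1_c14 LD2_c23 LD3_c48)) = v19207 :=
  Lgr Lrot170 (Lpr_gt (f64809 IH) (Lpe (K4.f64631 IH) (Lpr_et (K3.f64808 IH) (Lpr_gt (K3.f62758 IH) (Lpr_dt (K1.f17455 IH) (Lpr_gt (K0.f17302 IH) (Lpr_df (K3.f92646 IH) (Lpr_et (K5.f92658 IH) (Lpqs (f778480 IH) (Lpe (f778468 IH) (Lpr_ef (f778581 IH) (Lpn v19207))))))))))))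
theorem f778585 : Led Lsl_et (LP (LK LD1_c14 LD2_c23 LD3_c48)) = (LP (LK LD1_c24 LD2_c2 LD3_c18)) :=
  Lre_e IH (LK LD1_c14 LD2_c23 LD3_c48) (LK LD1_c24 LD2_c2 LD3_c18) Lrfl Lrfl
theorem f651114 : Led Lsl_dt (LP (LK LD1_c12 LD2_c45 LD3_c33)) = (LP (LK LD1_c6 LD2_c39 LD3_c51)) :=
  Lre_d IH (LK LD1_c12 LD2_c45 LD3_c33) (LK LD1_c6 LD2_c39 LD3_c51) Lrfl Lrfl
theorem f778558 : Led Lsl_et (LP (LK LD1_c21 LD2_c52 LD3_c53)) = (LP (LK LD1_c12 LD2_c45 LD3_c33)) :=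
  Lre_e IH (LK LD1_c21 LD2_c52 LD3_c53) (LK LD1_c12 LD2_c45 LD3_c33) Lrfl Lrfl
theorem f778586 : Led Lsl_dt (LP (LK LD1_c24 LD2_c2 LD3_c18)) = (LP (LK LD1_c21 LD2_c52 LD3_c53)) :=
  Lgr Lrot77 (Lpe (f778585 IH) (Lpr_df (f778583 IH) (Lpe (f778579 IH) (Lpe (f651114 IH) (Lpe (f778558 IH) (Lpn (LP (LK LD1_c21 LD2_c52 LD3_c53))))))))
theorem f778587 : Led Lsl_dt (LP (LK LD1_c24 LD2_c2 LD3_c18)) = (LP (LK LD1_c21 LD2_c52 LD3_c53)) :=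
  Leop (Lpe (f778586 IH) (Lpn (LP (LK LD1_c24 LD2_c2 LD3_c18))))
theorem seed_1432 : LEOK LG_d (LK LD1_c24 LD2_c2 LD3_c18) :=
  Leoe_d (LK LD1_c24 LD2_c2 LD3_c18) (f778587 IH)
def v19209 : LQ := Led Lsl_at (LP (LK LD1_c6 LD2_c39 LD3_c52))
theorem f778604 : Led Lsl_at (LP (LK LD1_c6 LD2_c39 LD3_c52)) = v19209 :=
  Lrfl
theorem f66229 : Led Lsl_dt (LP (LK LD1_c3 LD2_c18 LD3_c1)) = (LP (LK LD1_c6 LD2_c39 LD3_c52)) :=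
  Lre_d IH (LK LD1_c3 LD2_c18 LD3_c1) (LK LD1_c6 LD2_c39 LD3_c52) Lrfl Lrfl
theorem f778606 : Led Lsl_df v6106 = v19209 :=
  Lgr Lrot18 (Lpe (f651111 IH) (Lpr_dt (f66229 IH) (Lpr_at (f778604 IH) (Lpn v19209))))
theorem f651116 : Led Lsl_dt (LP (LK LD1_c3 LD2_c18 LD3_c2)) = (LP (LK LD1_c6 LD2_c39 LD3_c54)) :=
  Lre_d IH (LK LD1_c3 LD2_c18 LD3_c2) (LK LD1_c6 LD2_c39 LD3_c54) Lrfl Lrfl
theorem f778608 : Led Lsl_ft (LP (LK LD1_c6 LD2_c39 LD3_c54)) = v19209 :=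
  Lgr Lrot54 (Lpe (f651116 IH) (Lpr_ff (f651121 IH) (Lpr_df (f778606 IH) (Lpn v19209))))
theorem f778605 : Led Lsl_af (LP (LK LD1_c6 LD2_c39 LD3_c52)) = v19209 :=
  Lgr Lrot0 (Lpr_at (f778604 IH) (Lpn v19209))
theorem f651130 : Led Lsl_gt (LP (LK LD1_c12 LD2_c45 LD3_c35)) = (LP (LK LD1_c6 LD2_c39 LD3_c52)) :=
  Lre_g IH (LK LD1_c12 LD2_c45 LD3_c35) (LK LD1_c6 LD2_c39 LD3_c52) Lrfl Lrfl
theorem f778611 : Led Lsl_gt (LP (LK LD1_c6 LD2_c39 LD3_c54)) = (LP (LK LD1_c12 LD2_c45 LD3_c35)) :=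
  Lgr Lrot5 (Lpr_ft (f778608 IH) (Lpe (f778605 IH) (Lpe (f651130 IH) (Lpn (LP (LK LD1_c12 LD2_c45 LD3_c35))))))
theorem f778612 : Led Lsl_gt (LP (LK LD1_c6 LD2_c39 LD3_c54)) = (LP (LK LD1_c12 LD2_c45 LD3_c35)) :=
  Leop (Lpe (f778611 IH) (Lpn (LP (LK LD1_c6 LD2_c39 LD3_c54))))
theorem seed_1433 : LEOK LG_g (LK LD1_c6 LD2_c39 LD3_c54) :=
  Leoe_g (LK LD1_c6 LD2_c39 LD3_c54) (f778612 IH)
def v19213 : LQ := Led Lsl_ft (LP (LK LD1_c6 LD2_c39 LD3_c52))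
theorem f778625 : Led Lsl_ft (LP (LK LD1_c6 LD2_c39 LD3_c52)) = v19213 :=
  Lrfl
theorem f66227 : Led Lsl_gt (LP (LK LD1_c6 LD2_c39 LD3_c52)) = (LP (LK LD1_c12 LD2_c45 LD3_c34)) :=
  Lre_g IH (LK LD1_c6 LD2_c39 LD3_c52) (LK LD1_c12 LD2_c45 LD3_c34) Lrfl Lrfl
theorem f778626 : Led Lsl_af (LP (LK LD1_c6 LD2_c39 LD3_c54)) = v19213 :=
  Lgr Lrot45 (Lpr_ft (f778608 IH) (Lpe (f778605 IH) (Lpr_ft (f778625 IH) (Lpn v19213))))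
theorem f778629 : Led Lsl_gt (LP (LK LD1_c12 LD2_c45 LD3_c34)) = (LP (LK LD1_c6 LD2_c39 LD3_c54)) :=
  Lgr Lrot46 (Lpe (f66227 IH) (Lpr_ft (f778625 IH) (Lpe (f778626 IH) (Lpn (LP (LK LD1_c6 LD2_c39 LD3_c54))))))
theorem f778630 : Led Lsl_gt (LP (LK LD1_c12 LD2_c45 LD3_c34)) = (LP (LK LD1_c6 LD2_c39 LD3_c54)) :=
  Leop (Lpe (f778629 IH) (Lpn (LP (LK LD1_c12 LD2_c45 LD3_c34))))
theorem seed_1434 : LEOK LG_g (LK LD1_c12 LD2_c45 LD3_c34) :=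
  Leoe_g (LK LD1_c12 LD2_c45 LD3_c34) (f778630 IH)
def v19215 : LQ := Led Lsl_et (LP (LK LD1_c6 LD2_c39 LD3_c53))
theorem f778636 : Led Lsl_et (LP (LK LD1_c6 LD2_c39 LD3_c53)) = v19215 :=
  Lrfl
theorem f778639 : Led Lsl_ef (LP (LK LD1_c6 LD2_c39 LD3_c53)) = v19215 :=
  Lgr Lrot88 (Lpr_et (f778636 IH) (Lpn v19215))
theorem f92668 : Led Lsl_et (LP (LK LD1_c3 LD2_c49 LD3_c30)) = (LP (LK LD1_c7 LD2_c39 LD3_c56)) :=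
  Lre_e IH (LK LD1_c3 LD2_c49 LD3_c30) (LK LD1_c7 LD2_c39 LD3_c56) Lrfl Lrfl
theorem f87217 : Led Lsl_dt (LP (LK LD1_c3 LD2_c49 LD3_c30)) = (LP (LK LD1_c7 LD2_c39 LD3_c55)) :=
  Lre_d IH (LK LD1_c3 LD2_c49 LD3_c30) (LK LD1_c7 LD2_c39 LD3_c55) Lrfl Lrfl
theorem f87218 : Led Lsl_gt (LP (LK LD1_c7 LD2_c39 LD3_c55)) = (LP (LK LD1_c14 LD2_c26 LD3_c47)) :=
  Lre_g IH (LK LD1_c7 LD2_c39 LD3_c55) (LK LD1_c14 LD2_c26 LD3_c47) Lrfl Lrfl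
theorem f778641 : Led Lsl_df (LP (LK LD1_c14 LD2_c26 LD3_c47)) = v19215 :=
  Lgr Lrot168 (Lpe (f87218 IH) (Lpe (f87217 IH) (Lpr_et (f92668 IH) (Lpe (f92674 IH) (Lpe (f109772 IH) (Lpr_dt (f109776 IH) (Lpe (K48.f92682 IH) (Lpe (K5.f92681 IH) (Lpe (f109790 IH) (Lpr_ef (f778639 IH) (Lpn v19215)))))))))))
theorem f778643 : Led Lsl_et (LP (LK LD1_c14 LD2_c26 LD3_c47)) = (LP (LK LD1_c24 LD2_c7 LD3_c13)) :=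
  Lre_e IH (LK LD1_c14 LD2_c26 LD3_c47) (LK LD1_c24 LD2_c7 LD3_c13) Lrfl Lrfl
theorem f109793 : Led Lsl_dt (LP (LK LD1_c12 LD2_c45 LD3_c36)) = (LP (LK LD1_c6 LD2_c39 LD3_c53)) :=
  Lre_d IH (LK LD1_c12 LD2_c45 LD3_c36) (LK LD1_c6 LD2_c39 LD3_c53) Lrfl Lrfl
theorem f778638 : Led Lsl_et (LP (LK LD1_c21 LD2_c52 LD3_c56)) = (LP (LK LD1_c12 LD2_c45 LD3_c36)) :=
  Lre_e IH (LK LD1_c21 LD2_c52 LD3_c56) (LK LD1_c12 LD2_c45 LD3_c36) Lrfl Lrfl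
theorem f778644 : Led Lsl_dt (LP (LK LD1_c24 LD2_c7 LD3_c13)) = (LP (LK LD1_c21 LD2_c52 LD3_c56)) :=
  Lgr Lrot77 (Lpe (f778643 IH) (Lpr_df (f778641 IH) (Lpe (f778636 IH) (Lpe (f109793 IH) (Lpe (f778638 IH) (Lpn (LP (LK LD1_c21 LD2_c52 LD3_c56))))))))
theorem f778645 : Led Lsl_dt (LP (LK LD1_c24 LD2_c7 LD3_c13)) = (LP (LK LD1_c21 LD2_c52 LD3_c56)) :=
  Leop (Lpe (f778644 IH) (Lpn (LP (LK LD1_c24 LD2_c7 LD3_c13))))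
theorem seed_1435 : LEOK LG_d (LK LD1_c24 LD2_c7 LD3_c13) :=
  Leoe_d (LK LD1_c24 LD2_c7 LD3_c13) (f778645 IH)
def v18519 : LQ := Led Lsl_bt (LP (LK LD1_c6 LD2_c30 LD3_c16))
theorem f767276 : Led Lsl_bt (LP (LK LD1_c6 LD2_c30 LD3_c16)) = v18519 :=
  Lrfl
theorem f767277 : Led Lsl_bf (LP (LK LD1_c6 LD2_c30 LD3_c16)) = v18519 :=
  Lgr Lrot24 (Lpr_bt (f767276 IH) (Lpn v18519))
theorem f664646 : Led Lsl_ef (LP (LK LD1_c3 LD2_c45 LD3_c20)) = K57.v7341 :=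
  Lgr Lrot88 (Lpr_et (K57.f664644 IH) (Lpn K57.v7341))
theorem f664647 : Led Lsl_bt (LP (LK LD1_c6 LD2_c19 LD3_c3)) = K57.v7341 :=
  Lgr Lrot119 (Lpe (K57.f646452 IH) (Lpr_bf (K46.f646446 IH) (Lpr_ef (f664646 IH) (Lpn K57.v7341))))
theorem f773884 : Led Lsl_ff v18519 = K57.v7341 :=
  Lgr Lrot25 (Lpe (f767277 IH) (Lpq (K59.f772080 IH) (Lpe (K59.f759777 IH) (Lpr_bt (f664647 IH) (Lpn K57.v7341)))))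
def v19243 : LQ := Led Lsl_et (LP (LK LD1_c6 LD2_c40 LD3_c7))
theorem f778796 : Led Lsl_et (LP (LK LD1_c6 LD2_c40 LD3_c7)) = v19243 :=
  Lrfl
theorem f778801 : Led Lsl_ef (LP (LK LD1_c6 LD2_c40 LD3_c7)) = v19243 :=
  Lgr Lrot88 (Lpr_et (f778796 IH) (Lpn v19243))
theorem f681521 : Led Lsl_df K56.v3445 = K56.v10728 :=
  Lgr Lrot38 (Lpr_dt (K56.f681520 IH) (Lpn K56.v10728))
theorem f778800 : Led Lsl_df K56.v7362 = v19243 :=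
  Lgr Lrot70 (Lpe (K56.f664747 IH) (Lpq (K56.f654012 IH) (Lpr_dt (K46.f651364 IH) (Lpe (K46.f651285 IH) (Lpr_dt (K56.f508989 IH) (Lpr_et (f778796 IH) (Lpn v19243)))))))
def v3421 : LQ := Led Lsl_et K56.v819
theorem f625582 : Led Lsl_et K56.v819 = v3421 :=
  Lrfl
def v10649 : LQ := Led Lsl_gf v3421
theorem f681248 : Led Lsl_gf v3421 = v10649 :=
  Lrfl
theorem f778810 : K57.v7341 = v10649 :=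
  (Llr Lrot185 (Lpe (K57.f664644 IH) (Lpr_dt (K59.f664639 IH) (Lpr_gf (K59.f681484 IH) (Lpr_df (f681521 IH) (Lpe (K56.f681522 IH) (Lpr_ef (f778801 IH) (Lpe (f778800 IH) (Lpe (K56.f664743 IH) (Lpe (K56.f625580 IH) (Lpr_et (f625582 IH) (Lpr_gf (f681248 IH) (Lpn v10649))))))))))))).symm
def v10648 : LQ := Led Lsl_gt v3421
theorem f681247 : Led Lsl_gt v3421 = v10648 :=
  Lrfl
theorem f778811 : Led Lsl_at v18519 = v10648 :=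
  Lgr Lrot26 (Lpr_ff (f773884 IH) (Lpqs (f778810 IH) (Lpe (f681248 IH) (Lpr_gt (f681247 IH) (Lpn v10648)))))
theorem f778813 : Led Lsl_ff (LP (LK LD1_c12 LD2_c2 LD3_c36)) = v10648 :=
  Lgr Lrot30 (Lpr_at (K57.f709658 IH) (Lpe (f773884 IH) (Lpr_at (f778811 IH) (Lpn v10648))))
theorem f778815 : Led Lsl_ft (LP (LK LD1_c12 LD2_c2 LD3_c36)) = v10648 :=
  Lgr Lrot48 (Lpr_ff (f778813 IH) (Lpn v10648))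
theorem f443656 : Led Lsl_ct (LP (LK LD1_c6 LD2_c11 LD3_c8)) = (LP (LK LD1_c12 LD2_c2 LD3_c36)) :=
  Lre_c IH (LK LD1_c6 LD2_c11 LD3_c8) (LK LD1_c12 LD2_c2 LD3_c36) Lrfl Lrfl
theorem f646569 : Led Lsl_ft (LP (LK LD1_c12 LD2_c2 LD3_c39)) = (LP (LK LD1_c6 LD2_c11 LD3_c8)) :=
  Lre_f IH (LK LD1_c12 LD2_c2 LD3_c39) (LK LD1_c6 LD2_c11 LD3_c8) Lrfl Lrfl
theorem f778816 : Led Lsl_cf (LP (LK LD1_c12 LD2_c2 LD3_c39)) = v10648 :=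
  Lgr Lrot108 (Lpr_ft (f646569 IH) (Lpr_ct (f443656 IH) (Lpr_ft (f778815 IH) (Lpn v10648))))
theorem f754829 : Led Lsl_dt (LP (LK LD1_c6 LD2_c40 LD3_c41)) = K56.v17066 :=
  Lgr Lrot42 (Lpr_df (K56.f754826 IH) (Lpn K56.v17066))
theorem f754821 : Led Lsl_af (LP (LK LD1_c6 LD2_c11 LD3_c8)) = K56.v17066 :=
  Lgr Lrot0 (Lpr_at (K56.f754820 IH) (Lpn K56.v17066))
theorem f754830 : Led Lsl_af (LP (LK LD1_c6 LD2_c40 LD3_c41)) = (LP (LK LD1_c12 LD2_c2 LD3_c38)) :=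
  Lgr Lrot117 (Lpr_dt (f754829 IH) (Lpe (f754821 IH) (Lpr_dt (K46.f443629 IH) (Lpn (LP (LK LD1_c12 LD2_c2 LD3_c38))))))
theorem f633070 : Led Lsl_gt (LP (LK LD1_c6 LD2_c40 LD3_c40)) = (LP (LK LD1_c12 LD2_c34 LD3_c24)) :=
  Lre_g IH (LK LD1_c6 LD2_c40 LD3_c40) (LK LD1_c12 LD2_c34 LD3_c24) Lrfl Lrfl
theorem f754835 : Led Lsl_ft (LP (LK LD1_c6 LD2_c40 LD3_c40)) = (LP (LK LD1_c12 LD2_c2 LD3_c38)) :=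
  Lgr Lrot2 (Lpr_gt (f633070 IH) (Lpr_gt (K56.f651359 IH) (Lpr_af (f754830 IH) (Lpn (LP (LK LD1_c12 LD2_c2 LD3_c38))))))
theorem f646572 : Led Lsl_ft (LP (LK LD1_c6 LD2_c11 LD3_c8)) = (LP (LK LD1_c12 LD2_c2 LD3_c39)) :=
  Lre_f IH (LK LD1_c6 LD2_c11 LD3_c8) (LK LD1_c12 LD2_c2 LD3_c39) Lrfl Lrfl
theorem f754841 : Led Lsl_df (LP (LK LD1_c6 LD2_c40 LD3_c40)) = (LP (LK LD1_c12 LD2_c2 LD3_c39)) :=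
  Lgr Lrot78 (Lpr_ft (f754835 IH) (Lpr_dt (K56.f443644 IH) (Lpr_ft (f646572 IH) (Lpn (LP (LK LD1_c12 LD2_c2 LD3_c39))))))
theorem f754840 : Led Lsl_ct (LP (LK LD1_c12 LD2_c46 LD3_c57)) = (LP (LK LD1_c6 LD2_c40 LD3_c40)) :=
  Lre_c IH (LK LD1_c12 LD2_c46 LD3_c57) (LK LD1_c6 LD2_c40 LD3_c40) Lrfl Lrfl
def v10646 : LQ := Led Lsl_et K59.v3419
theorem f681241 : Led Lsl_et K59.v3419 = v10646 :=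
  Lrfl
theorem f625583 : Led Lsl_ef K56.v819 = v3421 :=
  Lgr Lrot88 (Lpr_et (f625582 IH) (Lpn v3421))
theorem f681242 : Led Lsl_cf v3421 = v10646 :=
  Lgr Lrot39 (Lpe (f625583 IH) (Lpr_ct (K59.f625578 IH) (Lpr_et (f681241 IH) (Lpn v10646))))
theorem f664716 : Led Lsl_et (LP (LK LD1_c3 LD2_c45 LD3_c35)) = (LP (LK LD1_c7 LD2_c31 LD3_c52)) :=
  Lre_e IH (LK LD1_c3 LD2_c45 LD3_c35) (LK LD1_c7 LD2_c31 LD3_c52) Lrfl Lrfl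
theorem f772512 : Led Lsl_ff (LP (LK LD1_c6 LD2_c34 LD3_c40)) = (LP (LK LD1_c12 LD2_c2 LD3_c56)) :=
  Lgr Lrot72 (Lpr_et (K57.f103937 IH) (Lpqs (K59.f769509 IH) (Lpq (K59.f772385 IH) (Lpe (K59.f664720 IH) (Lpr_et (f664716 IH) (Lpr_ft (K59.f772504 IH) (Lpr_et (K59.f646655 IH) (Lpn (LP (LK LD1_c12 LD2_c2 LD3_c56))))))))))
def v17090 : LQ := Led Lsl_gt (LP (LK LD1_c6 LD2_c11 LD3_c21))
theorem f755051 : Led Lsl_gt (LP (LK LD1_c6 LD2_c11 LD3_c21)) = v17090 :=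
  Lrfl
theorem f773201 : Led Lsl_at (LP (LK LD1_c6 LD2_c34 LD3_c40)) = v17090 :=
  Lgr Lrot26 (Lpr_ff (f772512 IH) (Lpr_gt (K59.f646654 IH) (Lpr_gt (f755051 IH) (Lpn v17090))))
def v9319 : LQ := Led Lsl_et K58.v2604
theorem f675370 : Led Lsl_et K58.v2604 = v9319 :=
  Lrfl
theorem f769513 : Led Lsl_cf (LP (LK LD1_c6 LD2_c34 LD3_c40)) = v9319 :=
  Lgr Lrot39 (Lpr_et (K57.f103937 IH) (Lpr_ct (K58.f650243 IH) (Lpqs (K58.f769508 IH) (Lpr_et (f675370 IH) (Lpn v9319)))))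
def v9367 : LQ := Led Lsl_et K59.v2623
theorem f675524 : Led Lsl_et K59.v2623 = v9367 :=
  Lrfl
theorem f772387 : v9367 = v9319 :=
  Lefun (Lecon (f675524 IH) (K59.f772381 IH)) (f675370 IH)
theorem f675526 : Led Lsl_ef K59.v2623 = v9367 :=
  Lgr Lrot88 (Lpr_et (f675524 IH) (Lpn v9367))
theorem f675527 : Led Lsl_at v3421 = v9367 :=
  Lgr Lrot80 (Lpe (f625582 IH) (Lpr_af (K59.f527917 IH) (Lpr_ef (f675526 IH) (Lpn v9367))))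
theorem f773203 : v10646 = v17090 :=
  (Llr Lrot1 (Lpe (f681242 IH) (Lpr_at (f675527 IH) (Lpqs (f772387 IH) (Lpe (f769513 IH) (Lpr_at (f773201 IH) (Lpn v17090))))))).symm
def v17092 : LQ := Led Lsl_dt (LP (LK LD1_c6 LD2_c11 LD3_c21))
theorem f755056 : Led Lsl_dt (LP (LK LD1_c6 LD2_c11 LD3_c21)) = v17092 :=
  Lrfl
theorem f755057 : Led Lsl_df (LP (LK LD1_c6 LD2_c11 LD3_c21)) = v17092 :=
  Lgr Lrot38 (Lpr_dt (f755056 IH) (Lpn v17092))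
theorem f755058 : Led Lsl_gf (LP (LK LD1_c6 LD2_c36 LD3_c40)) = v17092 :=
  Lgr Lrot134 (Lpe (K56.f103816 IH) (Lpr_et (K56.f79129 IH) (Lpe (K3.f103812 IH) (Lpe (K58.f66014 IH) (Lpr_dt (K4.f66015 IH) (Lpr_gt (K58.f103841 IH) (Lpe (K59.f103842 IH) (Lpr_et (K59.f646655 IH) (Lpr_gt (K59.f646654 IH) (Lpr_dt (f755056 IH) (Lpn v17092)))))))))))
theorem f141480 : Led Lsl_ct (LP (LK LD1_c6 LD2_c36 LD3_c40)) = (LP (LK LD1_c12 LD2_c39 LD3_c10)) :=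
  Lre_c IH (LK LD1_c6 LD2_c36 LD3_c40) (LK LD1_c12 LD2_c39 LD3_c10) Lrfl Lrfl
theorem f778817 : Led Lsl_gf (LP (LK LD1_c12 LD2_c46 LD3_c57)) = (LP (LK LD1_c12 LD2_c39 LD3_c10)) :=
  Lgr Lrot104 (Lpr_ct (f754840 IH) (Lpr_df (f754841 IH) (Lpr_cf (f778816 IH) (Lpe (f681247 IH) (Lpr_cf (f681242 IH) (Lpqs (f773203 IH) (Lpe (f755051 IH) (Lpr_df (f755057 IH) (Lpe (f755058 IH) (Lpr_ct (f141480 IH) (Lpn (LP (LK LD1_c12 LD2_c39 LD3_c10)))))))))))))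
theorem f778818 : Led Lsl_gt (LP (LK LD1_c12 LD2_c39 LD3_c10)) = (LP (LK LD1_c12 LD2_c46 LD3_c57)) :=
  Leop (Lpr_gf (f778817 IH) (Lpn (LP (LK LD1_c12 LD2_c39 LD3_c10))))
theorem seed_1436 : LEOK LG_g (LK LD1_c12 LD2_c39 LD3_c10) :=
  Leoe_g (LK LD1_c12 LD2_c39 LD3_c10) (f778818 IH)
def v19300 : LQ := Led Lsl_ft (LP (LK LD1_c6 LD2_c40 LD3_c37))
theorem f779015 : Led Lsl_ft (LP (LK LD1_c6 LD2_c40 LD3_c37)) = v19300 :=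
  Lrfl
def v19299 : LQ := Led Lsl_at (LP (LK LD1_c6 LD2_c40 LD3_c37))
theorem f779007 : Led Lsl_at (LP (LK LD1_c6 LD2_c40 LD3_c37)) = v19299 :=
  Lrfl
theorem f779008 : Led Lsl_af (LP (LK LD1_c6 LD2_c40 LD3_c37)) = v19299 :=
  Lgr Lrot0 (Lpr_at (f779007 IH) (Lpn v19299))
theorem f779009 : Led Lsl_df K57.v6134 = v19299 :=
  Lgr Lrot18 (Lpe (K57.f651448 IH) (Lpr_dt (K46.f96050 IH) (Lpr_at (f779007 IH) (Lpn v19299))))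
theorem f651425 : Led Lsl_dt (LP (LK LD1_c3 LD2_c18 LD3_c20)) = (LP (LK LD1_c6 LD2_c40 LD3_c39)) :=
  Lre_d IH (LK LD1_c3 LD2_c18 LD3_c20) (LK LD1_c6 LD2_c40 LD3_c39) Lrfl Lrfl
theorem f779011 : Led Lsl_ft (LP (LK LD1_c6 LD2_c40 LD3_c39)) = v19299 :=
  Lgr Lrot54 (Lpe (f651425 IH) (Lpr_ff (K57.f651457 IH) (Lpr_df (f779009 IH) (Lpn v19299))))
theorem f779016 : Led Lsl_af (LP (LK LD1_c6 LD2_c40 LD3_c39)) = v19300 :=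
  Lgr Lrot45 (Lpr_ft (f779011 IH) (Lpe (f779008 IH) (Lpr_ft (f779015 IH) (Lpn v19300))))
theorem f779020 : Led Lsl_gt (LP (LK LD1_c12 LD2_c46 LD3_c50)) = (LP (LK LD1_c6 LD2_c40 LD3_c39)) :=
  Lgr Lrot46 (Lpe (K46.f96051 IH) (Lpr_ft (f779015 IH) (Lpe (f779016 IH) (Lpn (LP (LK LD1_c6 LD2_c40 LD3_c39))))))
theorem f779021 : Led Lsl_gt (LP (LK LD1_c12 LD2_c46 LD3_c50)) = (LP (LK LD1_c6 LD2_c40 LD3_c39)) :=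
  Leop (Lpe (f779020 IH) (Lpn (LP (LK LD1_c12 LD2_c46 LD3_c50))))
theorem seed_1437 : LEOK LG_g (LK LD1_c12 LD2_c46 LD3_c50) :=
  Leoe_g (LK LD1_c12 LD2_c46 LD3_c50) (f779021 IH)
def v19309 : LQ := Led Lsl_ct (LP (LK LD1_c6 LD2_c40 LD3_c41))
theorem f779048 : Led Lsl_ct (LP (LK LD1_c6 LD2_c40 LD3_c41)) = v19309 :=
  Lrfl
theorem f633069 : Led Lsl_dt (LP (LK LD1_c12 LD2_c34 LD3_c24)) = (LP (LK LD1_c6 LD2_c33 LD3_c43)) :=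
  Lre_d IH (LK LD1_c12 LD2_c34 LD3_c24) (LK LD1_c6 LD2_c33 LD3_c43) Lrfl Lrfl
theorem f439812 : Led Lsl_gt (LP (LK LD1_c6 LD2_c33 LD3_c43)) = (LP (LK LD1_c3 LD2_c18 LD3_c20)) :=
  Lre_g IH (LK LD1_c6 LD2_c33 LD3_c43) (LK LD1_c3 LD2_c18 LD3_c20) Lrfl Lrfl
theorem f527784 : Led Lsl_ff (LP (LK LD1_c1 LD2_c49 LD3_c40)) = K56.v2612 :=
  Lgr Lrot3 (Lpr_ft (K56.f527782 IH) (Lpn K56.v2612))
theorem f527785 : Led Lsl_bt K56.v2510 = K56.v2612 :=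
  Lgr Lrot35 (Lpe (K56.f523685 IH) (Lpr_bf (K1.f12472 IH) (Lpr_ff (f527784 IH) (Lpn K56.v2612))))
def v8228 : LQ := Led Lsl_gf K56.v1933
theorem f670447 : Led Lsl_gf K56.v1933 = v8228 :=
  Lrfl
theorem f506459 : Led Lsl_at (LP (LK LD1_c1 LD2_c49 LD3_c40)) = K56.v1933 :=
  Lgr Lrot80 (Lpe (K1.f12483 IH) (Lpe (K5.f126336 IH) (Lpr_ef (K56.f506458 IH) (Lpn K56.v1933))))
theorem f670448 : Led Lsl_gt K56.v2612 = v8228 :=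
  Lgr Lrot5 (Lpe (f527784 IH) (Lpr_at (f506459 IH) (Lpr_gf (f670447 IH) (Lpn v8228))))
theorem f754178 : v8228 = K57.v6138 :=
  (Llr Lrot82 (Lpe (f670448 IH) (Lpe (f527785 IH) (Lpe (K57.f523686 IH) (Lpe (K56.f674774 IH) (Lpqs (K56.f754161 IH) (Lpe (K56.f415645 IH) (Lpr_bt (K56.f415743 IH) (Lpe (K0.f25407 IH) (Lpe (K51.f415753 IH) (Lpr_ct (K46.f415754 IH) (Lpe (K57.f63833 IH) (Lpr_cf (K57.f651474 IH) (Lpn K57.v6138)))))))))))))).symm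
theorem f141468 : Led Lsl_ct (LP (LK LD1_c12 LD2_c39 LD3_c10)) = (LP (LK LD1_c6 LD2_c36 LD3_c40)) :=
  Lre_c IH (LK LD1_c12 LD2_c39 LD3_c10) (LK LD1_c6 LD2_c36 LD3_c40) Lrfl Lrfl
theorem f779050 : Led Lsl_gf (LP (LK LD1_c12 LD2_c39 LD3_c10)) = v19309 :=
  Lgr Lrot104 (Lpr_ct (f141468 IH) (Lpe (K56.f103816 IH) (Lpr_cf (K56.f506457 IH) (Lpr_gf (f670447 IH) (Lpqs (f754178 IH) (Lpe (K57.f651473 IH) (Lpe (f439812 IH) (Lpe (f633069 IH) (Lpr_gt (K56.f651359 IH) (Lpr_ct (f779048 IH) (Lpn v19309)))))))))))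
theorem f141476 : Led Lsl_dt (LP (LK LD1_c12 LD2_c39 LD3_c10)) = (LP (LK LD1_c21 LD2_c45 LD3_c30)) :=
  Lre_d IH (LK LD1_c12 LD2_c39 LD3_c10) (LK LD1_c21 LD2_c45 LD3_c30) Lrfl Lrfl
theorem f93532 : Led Lsl_gt (LP (LK LD1_c6 LD2_c40 LD3_c41)) = (LP (LK LD1_c3 LD2_c18 LD3_c21)) :=
  Lre_g IH (LK LD1_c6 LD2_c40 LD3_c41) (LK LD1_c3 LD2_c18 LD3_c21) Lrfl Lrfl
theorem f441165 : Led Lsl_dt (LP (LK LD1_c3 LD2_c18 LD3_c21)) = (LP (LK LD1_c1 LD2_c35 LD3_c38)) :=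
  Lre_d IH (LK LD1_c3 LD2_c18 LD3_c21) (LK LD1_c1 LD2_c35 LD3_c38) Lrfl Lrfl
theorem f439826 : Led Lsl_ct (LP (LK LD1_c12 LD2_c46 LD3_c52)) = (LP (LK LD1_c6 LD2_c40 LD3_c37)) :=
  Lre_c IH (LK LD1_c12 LD2_c46 LD3_c52) (LK LD1_c6 LD2_c40 LD3_c37) Lrfl Lrfl
theorem f651461 : Led Lsl_dt (LP (LK LD1_c21 LD2_c54 LD3_c13)) = (LP (LK LD1_c12 LD2_c46 LD3_c52)) :=
  Lre_d IH (LK LD1_c21 LD2_c54 LD3_c13) (LK LD1_c12 LD2_c46 LD3_c52) Lrfl Lrfl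
theorem f779051 : Led Lsl_gt (LP (LK LD1_c21 LD2_c45 LD3_c30)) = (LP (LK LD1_c21 LD2_c54 LD3_c13)) :=
  Lgr Lrot49 (Lpe (f141476 IH) (Lpr_gf (f779050 IH) (Lpe (f779048 IH) (Lpr_gt (f93532 IH) (Lpr_dt (f441165 IH) (Lpr_gt (K46.f96048 IH) (Lpr_dt (K46.f96050 IH) (Lpe (f439826 IH) (Lpe (f651461 IH) (Lpn (LP (LK LD1_c21 LD2_c54 LD3_c13))))))))))))
theorem f779052 : Led Lsl_gt (LP (LK LD1_c21 LD2_c45 LD3_c30)) = (LP (LK LD1_c21 LD2_c54 LD3_c13)) :=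
  Leop (Lpe (f779051 IH) (Lpn (LP (LK LD1_c21 LD2_c45 LD3_c30))))
theorem seed_1438 : LEOK LG_g (LK LD1_c21 LD2_c45 LD3_c30) :=
  Leoe_g (LK LD1_c21 LD2_c45 LD3_c30) (f779052 IH)
def v19364 : LQ := Led Lsl_at (LP (LK LD1_c6 LD2_c41 LD3_c17))
theorem f779297 : Led Lsl_at (LP (LK LD1_c6 LD2_c41 LD3_c17)) = v19364 :=
  Lrfl
def v6183 : LQ := Led Lsl_ft (LP (LK LD1_c3 LD2_c18 LD3_c43))
theorem f651699 : Led Lsl_ft (LP (LK LD1_c3 LD2_c18 LD3_c43)) = v6183 :=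
  Lrfl
theorem f651702 : Led Lsl_ff (LP (LK LD1_c3 LD2_c18 LD3_c43)) = v6183 :=
  Lgr Lrot3 (Lpr_ft (f651699 IH) (Lpn v6183))
theorem f439809 : Led Lsl_dt (LP (LK LD1_c3 LD2_c18 LD3_c43)) = (LP (LK LD1_c1 LD2_c35 LD3_c47)) :=
  Lre_d IH (LK LD1_c3 LD2_c18 LD3_c43) (LK LD1_c1 LD2_c35 LD3_c47) Lrfl Lrfl
theorem f651704 : Led Lsl_dt K57.v2115 = v6183 :=
  Lgr Lrot60 (Lpe (K57.f509066 IH) (Lpe (f439809 IH) (Lpr_ff (f651702 IH) (Lpn v6183))))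
theorem f634014 : Led Lsl_dt (LP (LK LD1_c3 LD2_c15 LD3_c10)) = (LP (LK LD1_c6 LD2_c33 LD3_c47)) :=
  Lre_d IH (LK LD1_c3 LD2_c15 LD3_c10) (LK LD1_c6 LD2_c33 LD3_c47) Lrfl Lrfl
theorem f760676 : v6183 = (LP (LK LD1_c6 LD2_c33 LD3_c47)) :=
  Lefun (Lecon (f651704 IH) (K57.f760665 IH)) (f634014 IH)
theorem f439806 : Led Lsl_ct (LP (LK LD1_c6 LD2_c41 LD3_c17)) = (LP (LK LD1_c3 LD2_c18 LD3_c43)) :=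
  Lre_c IH (LK LD1_c6 LD2_c41 LD3_c17) (LK LD1_c3 LD2_c18 LD3_c43) Lrfl Lrfl
theorem f634015 : Led Lsl_ct (LP (LK LD1_c6 LD2_c33 LD3_c47)) = (LP (LK LD1_c12 LD2_c34 LD3_c28)) :=
  Lre_c IH (LK LD1_c6 LD2_c33 LD3_c47) (LK LD1_c12 LD2_c34 LD3_c28) Lrfl Lrfl
theorem f760779 : Led Lsl_ff (LP (LK LD1_c6 LD2_c41 LD3_c17)) = (LP (LK LD1_c12 LD2_c34 LD3_c28)) :=
  Lgr Lrot23 (Lpr_ct (f439806 IH) (Lpr_ft (f651699 IH) (Lpqs (f760676 IH) (Lpr_ct (f634015 IH) (Lpn (LP (LK LD1_c12 LD2_c34 LD3_c28)))))))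
theorem f659758 : Led Lsl_ct (LP (LK LD1_c12 LD2_c34 LD3_c28)) = (LP (LK LD1_c6 LD2_c33 LD3_c47)) :=
  Lre_c IH (LK LD1_c12 LD2_c34 LD3_c28) (LK LD1_c6 LD2_c33 LD3_c47) Lrfl Lrfl
theorem f651700 : Led Lsl_af (LP (LK LD1_c3 LD2_c18 LD3_c45)) = v6183 :=
  Lgr Lrot45 (Lpr_ft (K46.f651683 IH) (Lpe (K46.f651680 IH) (Lpr_ft (f651699 IH) (Lpn v6183))))
theorem f114241 : Led Lsl_ct (LP (LK LD1_c3 LD2_c18 LD3_c45)) = (LP (LK LD1_c6 LD2_c41 LD3_c20)) :=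
  Lre_c IH (LK LD1_c3 LD2_c18 LD3_c45) (LK LD1_c6 LD2_c41 LD3_c20) Lrfl Lrfl
theorem f760787 : Led Lsl_af (LP (LK LD1_c12 LD2_c34 LD3_c28)) = (LP (LK LD1_c6 LD2_c41 LD3_c20)) :=
  Lgr Lrot68 (Lpr_ct (f659758 IH) (Lpq (f760676 IH) (Lpe (f651700 IH) (Lpr_ct (f114241 IH) (Lpn (LP (LK LD1_c6 LD2_c41 LD3_c20)))))))
theorem f779300 : Led Lsl_ff (LP (LK LD1_c6 LD2_c41 LD3_c20)) = v19364 :=
  Lgr Lrot30 (Lpe (f760787 IH) (Lpe (f760779 IH) (Lpr_at (f779297 IH) (Lpn v19364))))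
theorem f779302 : Led Lsl_ft (LP (LK LD1_c6 LD2_c41 LD3_c20)) = v19364 :=
  Lgr Lrot48 (Lpr_ff (f779300 IH) (Lpn v19364))
theorem f779298 : Led Lsl_af (LP (LK LD1_c6 LD2_c41 LD3_c17)) = v19364 :=
  Lgr Lrot0 (Lpr_at (f779297 IH) (Lpn v19364))
theorem f439813 : Led Lsl_gt (LP (LK LD1_c12 LD2_c47 LD3_c51)) = (LP (LK LD1_c6 LD2_c41 LD3_c17)) :=
  Lre_g IH (LK LD1_c12 LD2_c47 LD3_c51) (LK LD1_c6 LD2_c41 LD3_c17) Lrfl Lrfl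
theorem f779303 : Led Lsl_gt (LP (LK LD1_c6 LD2_c41 LD3_c20)) = (LP (LK LD1_c12 LD2_c47 LD3_c51)) :=
  Lgr Lrot5 (Lpr_ft (f779302 IH) (Lpe (f779298 IH) (Lpe (f439813 IH) (Lpn (LP (LK LD1_c12 LD2_c47 LD3_c51))))))
theorem f779304 : Led Lsl_gt (LP (LK LD1_c6 LD2_c41 LD3_c20)) = (LP (LK LD1_c12 LD2_c47 LD3_c51)) :=
  Leop (Lpe (f779303 IH) (Lpn (LP (LK LD1_c6 LD2_c41 LD3_c20))))
theorem seed_1439 : LEOK LG_g (LK LD1_c6 LD2_c41 LD3_c20) :=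
  Leoe_g (LK LD1_c6 LD2_c41 LD3_c20) (f779304 IH)
def v19382 : LQ := Led Lsl_ct (LP (LK LD1_c6 LD2_c41 LD3_c26))
theorem f779380 : Led Lsl_ct (LP (LK LD1_c6 LD2_c41 LD3_c26)) = v19382 :=
  Lrfl
def v19380 : LQ := Led Lsl_at (LP (LK LD1_c6 LD2_c41 LD3_c25))
theorem f779351 : Led Lsl_at (LP (LK LD1_c6 LD2_c41 LD3_c25)) = v19380 :=
  Lrfl
theorem f779352 : Led Lsl_af (LP (LK LD1_c6 LD2_c41 LD3_c25)) = v19380 :=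
  Lgr Lrot0 (Lpr_at (f779351 IH) (Lpn v19380))
theorem f430076 : Led Lsl_gt (LP (LK LD1_c3 LD2_c18 LD3_c48)) = (LP (LK LD1_c6 LD2_c41 LD3_c25)) :=
  Lre_g IH (LK LD1_c3 LD2_c18 LD3_c48) (LK LD1_c6 LD2_c41 LD3_c25) Lrfl Lrfl
theorem f415760 : Led Lsl_gt (LP (LK LD1_c6 LD2_c41 LD3_c26)) = (LP (LK LD1_c3 LD2_c18 LD3_c48)) :=
  Lre_g IH (LK LD1_c6 LD2_c41 LD3_c26) (LK LD1_c3 LD2_c18 LD3_c48) Lrfl Lrfl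
theorem f779356 : Led Lsl_ft (LP (LK LD1_c6 LD2_c41 LD3_c26)) = v19380 :=
  Lgr Lrot2 (Lpr_gt (f415760 IH) (Lpr_gt (f430076 IH) (Lpr_af (f779352 IH) (Lpn v19380))))
theorem f779357 : Led Lsl_ff (LP (LK LD1_c6 LD2_c41 LD3_c26)) = v19380 :=
  Lgr Lrot3 (Lpr_ft (f779356 IH) (Lpn v19380))
def v19381 : LQ := Led Lsl_ct (LP (LK LD1_c6 LD2_c41 LD3_c25))
theorem f779359 : Led Lsl_ct (LP (LK LD1_c6 LD2_c41 LD3_c25)) = v19381 :=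
  Lrfl
theorem f114239 : Led Lsl_ct (LP (LK LD1_c1 LD2_c35 LD3_c49)) = (LP (LK LD1_c3 LD2_c18 LD3_c48)) :=
  Lre_c IH (LK LD1_c1 LD2_c35 LD3_c49) (LK LD1_c3 LD2_c18 LD3_c48) Lrfl Lrfl
theorem f416159 : Led Lsl_ct (LP (LK LD1_c3 LD2_c14 LD3_c32)) = (LP (LK LD1_c6 LD2_c32 LD3_c37)) :=
  Lre_c IH (LK LD1_c3 LD2_c14 LD3_c32) (LK LD1_c6 LD2_c32 LD3_c37) Lrfl Lrfl
def v18747 : LQ := Led Lsl_gt (LP (LK LD1_c6 LD2_c32 LD3_c37))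
theorem f768291 : Led Lsl_gt (LP (LK LD1_c6 LD2_c32 LD3_c37)) = v18747 :=
  Lrfl
theorem f633068 : Led Lsl_ct (LP (LK LD1_c6 LD2_c33 LD3_c43)) = (LP (LK LD1_c3 LD2_c15 LD3_c12)) :=
  Lre_c IH (LK LD1_c6 LD2_c33 LD3_c43) (LK LD1_c3 LD2_c15 LD3_c12) Lrfl Lrfl
theorem f434169 : Led Lsl_dt (LP (LK LD1_c6 LD2_c33 LD3_c50)) = (LP (LK LD1_c3 LD2_c15 LD3_c12)) :=
  Lre_d IH (LK LD1_c6 LD2_c33 LD3_c50) (LK LD1_c3 LD2_c15 LD3_c12) Lrfl Lrfl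
theorem f754880 : Led Lsl_gt K49.v10012 = (LP (LK LD1_c12 LD2_c2 LD3_c39)) :=
  Lgr Lrot94 (Lpe (K49.f678362 IH) (Lpr_gt (K46.f651731 IH) (Lpe (K46.f651729 IH) (Lpr_gt (K46.f434168 IH) (Lpr_dt (f434169 IH) (Lpe (f633068 IH) (Lpe (f633069 IH) (Lpe (f633070 IH) (Lpr_df (f754841 IH) (Lpn (LP (LK LD1_c12 LD2_c2 LD3_c39))))))))))))
theorem f771834 : K49.v10012 = (LP (LK LD1_c6 LD2_c32 LD3_c37)) :=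
  Lefun (Lecon (K49.f678362 IH) (K59.f771774 IH)) (f416159 IH)
theorem f771915 : (LP (LK LD1_c12 LD2_c2 LD3_c39)) = v18747 :=
  Lefun (Lecon (f754880 IH) (f771834 IH)) (f768291 IH)
theorem f443657 : Led Lsl_ct (LP (LK LD1_c12 LD2_c2 LD3_c36)) = (LP (LK LD1_c6 LD2_c11 LD3_c8)) :=
  Lre_c IH (LK LD1_c12 LD2_c2 LD3_c36) (LK LD1_c6 LD2_c11 LD3_c8) Lrfl Lrfl
theorem f778814 : Led Lsl_ct (LP (LK LD1_c12 LD2_c2 LD3_c39)) = v10648 :=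
  Lgr Lrot40 (Lpe (f646572 IH) (Lpe (f443657 IH) (Lpr_ff (f778813 IH) (Lpn v10648))))
theorem f779363 : Led Lsl_df v10648 = v19381 :=
  Lgr Lrot162 (Lpe (f778814 IH) (Lpqs (f771915 IH) (Lpe (f768291 IH) (Lpe (f416159 IH) (Lpq (K59.f771774 IH) (Lpr_gf (K46.f651732 IH) (Lpe (K46.f441150 IH) (Lpr_gt (K46.f119260 IH) (Lpr_ct (f114239 IH) (Lpr_gt (f430076 IH) (Lpr_ct (f779359 IH) (Lpn v19381))))))))))))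
theorem f779368 : Led Lsl_ft K58.v7329 = v19381 :=
  Lgr Lrot54 (Lpe (K58.f664594 IH) (Lpr_ff (f778813 IH) (Lpr_df (f779363 IH) (Lpn v19381))))
def v7328 : LQ := Led Lsl_gt (LP (LK LD1_c3 LD2_c45 LD3_c7))
theorem f664591 : Led Lsl_gt (LP (LK LD1_c3 LD2_c45 LD3_c7)) = v7328 :=
  Lrfl
theorem f779372 : Led Lsl_af v7328 = v19381 :=
  Lgr Lrot31 (Lpe (f664591 IH) (Lpr_gf (K58.f664592 IH) (Lpr_ft (f779368 IH) (Lpn v19381))))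
def v18843 : LQ := Led Lsl_gt (LP (LK LD1_c6 LD2_c33 LD3_c49))
theorem f776085 : Led Lsl_gt (LP (LK LD1_c6 LD2_c33 LD3_c49)) = v18843 :=
  Lrfl
theorem f760809 : Led Lsl_ft (LP (LK LD1_c6 LD2_c33 LD3_c49)) = (LP (LK LD1_c12 LD2_c34 LD3_c32)) :=
  Lre_f IH (LK LD1_c6 LD2_c33 LD3_c49) (LK LD1_c12 LD2_c34 LD3_c32) Lrfl Lrfl
theorem f760808 : Led Lsl_at (LP (LK LD1_c12 LD2_c34 LD3_c32)) = (LP (LK LD1_c6 LD2_c41 LD3_c13)) :=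
  Lre_a IH (LK LD1_c12 LD2_c34 LD3_c32) (LK LD1_c6 LD2_c41 LD3_c13) Lrfl Lrfl
theorem f776086 : Led Lsl_gf (LP (LK LD1_c6 LD2_c41 LD3_c13)) = v18843 :=
  Lgr Lrot76 (Lpe (f760808 IH) (Lpe (f760809 IH) (Lpr_gt (f776085 IH) (Lpn v18843))))
theorem f62062 : Led Lsl_ct (LP (LK LD1_c6 LD2_c41 LD3_c13)) = (LP (LK LD1_c3 LD2_c18 LD3_c41)) :=
  Lre_c IH (LK LD1_c6 LD2_c41 LD3_c13) (LK LD1_c3 LD2_c18 LD3_c41) Lrfl Lrfl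
theorem f62072 : Led Lsl_dt (LP (LK LD1_c3 LD2_c18 LD3_c41)) = (LP (LK LD1_c1 LD2_c35 LD3_c46)) :=
  Lre_d IH (LK LD1_c3 LD2_c18 LD3_c41) (LK LD1_c1 LD2_c35 LD3_c46) Lrfl Lrfl
theorem f776091 : Led Lsl_ct v7328 = v18843 :=
  Lgr Lrot152 (Lpe (f664591 IH) (Lpe (K1.f12465 IH) (Lpr_gt (K56.f527780 IH) (Lpqs (K56.f754199 IH) (Lpe (K56.f654334 IH) (Lpe (K56.f650113 IH) (Lpr_ct (K52.f415975 IH) (Lpe (f62072 IH) (Lpe (f62062 IH) (Lpr_gf (f776086 IH) (Lpn v18843)))))))))))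
theorem f779373 : v18843 = v19380 :=
  (Llr Lrot111 (Lpe (f776091 IH) (Lpr_af (f779372 IH) (Lpe (f779359 IH) (Lpr_af (f779352 IH) (Lpn v19380)))))).symm
theorem f779384 : Led Lsl_ff v7328 = v19382 :=
  Lgr Lrot23 (Lpr_ct (f776091 IH) (Lpqs (f779373 IH) (Lpe (f779357 IH) (Lpr_ct (f779380 IH) (Lpn v19382)))))
theorem f779390 : Led Lsl_ft v7328 = v19382 :=
  Lgr Lrot48 (Lpr_ff (f779384 IH) (Lpn v19382))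
def v18833 : LQ := Led Lsl_gf (LP (LK LD1_c6 LD2_c33 LD3_c38))
theorem f775985 : Led Lsl_gf (LP (LK LD1_c6 LD2_c33 LD3_c38)) = v18833 :=
  Lrfl
theorem f416142 : Led Lsl_ct (LP (LK LD1_c2 LD2_c17 LD3_c41)) = (LP (LK LD1_c4 LD2_c41 LD3_c15)) :=
  Lre_c IH (LK LD1_c2 LD2_c17 LD3_c41) (LK LD1_c4 LD2_c41 LD3_c15) Lrfl Lrfl
def v3904 : LQ := Led Lsl_ft K29.v1115
theorem f627836 : Led Lsl_ft K29.v1115 = v3904 :=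
  Lrfl
theorem f627789 : Led Lsl_cf K29.v1115 = K35.v3898 :=
  Lgr Lrot39 (Lpe (K29.f491575 IH) (Lpr_ct (K35.f491570 IH) (Lpr_et (K35.f627787 IH) (Lpn K35.v3898))))
theorem f627794 : Led Lsl_ft (LP (LK LD1_c5 LD2_c50 LD3_c22)) = K35.v3898 :=
  Lgr Lrot48 (Lpr_ff (K35.f627791 IH) (Lpn K35.v3898))
theorem f627838 : Led Lsl_cf (LP (LK LD1_c5 LD2_c50 LD3_c22)) = v3904 :=
  Lgr Lrot108 (Lpr_ft (f627794 IH) (Lpe (f627789 IH) (Lpr_ft (f627836 IH) (Lpn v3904))))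
theorem f627770 : Led Lsl_bf K29.v1115 = K58.v3895 :=
  Lgr Lrot96 (Lpe (K29.f491575 IH) (Lpr_bt (K58.f491568 IH) (Lpr_et (K58.f627769 IH) (Lpn K58.v3895))))
theorem f685955 : Led Lsl_bt v3904 = K59.v11810 :=
  Lgr Lrot35 (Lpe (f627836 IH) (Lpr_bf (f627770 IH) (Lpr_ff (K59.f685954 IH) (Lpn K59.v11810))))
theorem f772149 : Led Lsl_gt K59.v17432 = K59.v18522 :=
  Lgr Lrot46 (Lpe (K59.f759796 IH) (Lpr_ft (K59.f759811 IH) (Lpq (K59.f772147 IH) (Lpqs (K59.f772147 IH) (Lpr_at (K59.f772135 IH) (Lpn K59.v18522))))))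
def v10714 : LQ := Led Lsl_gf K59.v3440
theorem f681488 : Led Lsl_gf K59.v3440 = v10714 :=
  Lrfl
theorem f775986 : Led Lsl_ct v10714 = v18833 :=
  Lgr Lrot8 (Lpe (f681488 IH) (Lpr_dt (K59.f658234 IH) (Lpe (K59.f658233 IH) (Lpr_dt (K59.f62214 IH) (Lpr_cf (K3.f62212 IH) (Lpe (K3.f62225 IH) (Lpe (K56.f62226 IH) (Lpr_df (K56.f675653 IH) (Lpqs (K59.f768800 IH) (Lpr_gf (f775985 IH) (Lpn v18833)))))))))))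
theorem f775988 : Led Lsl_bf K59.v18522 = v10714 :=
  Lgr Lrot34 (Lpe (f772149 IH) (Lpqs (K59.f769629 IH) (Lpe (f685955 IH) (Lpe (f627838 IH) (Lpr_gf (K35.f622586 IH) (Lpe (f416142 IH) (Lpe (K35.f437527 IH) (Lpe (K59.f435617 IH) (Lpr_ct (K59.f435582 IH) (Lpr_gf (f775985 IH) (Lpe (f775986 IH) (Lpn v10714))))))))))))
theorem f775991 : Led Lsl_et v18519 = v10714 :=
  Lgr Lrot74 (Lpe (f767276 IH) (Lpr_ef (K59.f767283 IH) (Lpr_bf (f775988 IH) (Lpn v10714))))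
def v17856 : LQ := Led Lsl_bt (LP (LK LD1_c6 LD2_c23 LD3_c15))
theorem f762469 : Led Lsl_bt (LP (LK LD1_c6 LD2_c23 LD3_c15)) = v17856 :=
  Lrfl
theorem f773889 : Led Lsl_df v18519 = v17856 :=
  Lgr Lrot12 (Lpe (f767277 IH) (Lpq (K59.f772080 IH) (Lpe (K59.f759776 IH) (Lpr_bt (f762469 IH) (Lpn v17856)))))
theorem f773890 : Led Lsl_dt v18519 = v17856 :=
  Lgr Lrot42 (Lpr_df (f773889 IH) (Lpn v17856))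
theorem f775998 : v17856 = v7328 :=
  (Llr Lrot56 (Lpe (f773890 IH) (Lpr_et (f775991 IH) (Lpe (f681488 IH) (Lpe (K59.f625662 IH) (Lpr_dt (K58.f625660 IH) (Lpr_gt (K59.f681470 IH) (Lpe (K59.f681471 IH) (Lpe (K59.f675447 IH) (Lpe (K57.f527781 IH) (Lpr_dt (K1.f12465 IH) (Lpr_gt (f664591 IH) (Lpn v7328))))))))))))).symm
theorem f779394 : Led Lsl_bf (LP (LK LD1_c12 LD2_c13 LD3_c54)) = v19382 :=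
  Lgr Lrot61 (Lpe (K57.f759729 IH) (Lpr_bt (f762469 IH) (Lpqs (f775998 IH) (Lpr_ft (f779390 IH) (Lpn v19382)))))
theorem f83718 : Led Lsl_ct (LP (LK LD1_c12 LD2_c13 LD3_c54)) = (LP (LK LD1_c21 LD2_c20 LD3_c5)) :=
  Lre_c IH (LK LD1_c12 LD2_c13 LD3_c54) (LK LD1_c21 LD2_c20 LD3_c5) Lrfl Lrfl
theorem f779335 : Led Lsl_bt (LP (LK LD1_c12 LD2_c47 LD3_c61)) = (LP (LK LD1_c6 LD2_c41 LD3_c26)) :=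
  Lre_b IH (LK LD1_c12 LD2_c47 LD3_c61) (LK LD1_c6 LD2_c41 LD3_c26) Lrfl Lrfl
theorem f779382 : Led Lsl_ct (LP (LK LD1_c21 LD2_c55 LD3_c22)) = (LP (LK LD1_c12 LD2_c47 LD3_c61)) :=
  Lre_c IH (LK LD1_c21 LD2_c55 LD3_c22) (LK LD1_c12 LD2_c47 LD3_c61) Lrfl Lrfl
theorem f779395 : Led Lsl_bt (LP (LK LD1_c21 LD2_c20 LD3_c5)) = (LP (LK LD1_c21 LD2_c55 LD3_c22)) :=
  Lgr Lrot128 (Lpe (f83718 IH) (Lpr_bf (f779394 IH) (Lpe (f779380 IH) (Lpe (f779335 IH) (Lpe (f779382 IH) (Lpn (LP (LK LD1_c21 LD2_c55 LD3_c22))))))))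
theorem f779396 : Led Lsl_bt (LP (LK LD1_c21 LD2_c20 LD3_c5)) = (LP (LK LD1_c21 LD2_c55 LD3_c22)) :=
  Leop (Lpe (f779395 IH) (Lpn (LP (LK LD1_c21 LD2_c20 LD3_c5))))
theorem seed_1440 : LEOK LG_b (LK LD1_c21 LD2_c20 LD3_c5) :=
  Leoe_b (LK LD1_c21 LD2_c20 LD3_c5) (f779396 IH)
theorem f83536 : Led Lsl_ct (LP (LK LD1_c6 LD2_c23 LD3_c9)) = (LP (LK LD1_c12 LD2_c19 LD3_c45)) :=
  Lre_c IH (LK LD1_c6 LD2_c23 LD3_c9) (LK LD1_c12 LD2_c19 LD3_c45) Lrfl Lrfl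
theorem f779383 : Led Lsl_cf (LP (LK LD1_c6 LD2_c41 LD3_c26)) = v19382 :=
  Lgr Lrot11 (Lpr_ct (f779380 IH) (Lpn v19382))
theorem f441178 : Led Lsl_gt (LP (LK LD1_c12 LD2_c34 LD3_c32)) = (LP (LK LD1_c6 LD2_c41 LD3_c26)) :=
  Lre_g IH (LK LD1_c12 LD2_c34 LD3_c32) (LK LD1_c6 LD2_c41 LD3_c26) Lrfl Lrfl
theorem f441177 : Led Lsl_ct (LP (LK LD1_c6 LD2_c33 LD3_c50)) = (LP (LK LD1_c12 LD2_c34 LD3_c32)) :=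
  Lre_c IH (LK LD1_c6 LD2_c33 LD3_c50) (LK LD1_c12 LD2_c34 LD3_c32) Lrfl Lrfl
theorem f62047 : Led Lsl_bt (LP (LK LD1_c4 LD2_c44 LD3_c30)) = (LP (LK LD1_c3 LD2_c15 LD3_c11)) :=
  Lre_b IH (LK LD1_c4 LD2_c44 LD3_c30) (LK LD1_c3 LD2_c15 LD3_c11) Lrfl Lrfl
theorem f650155 : Led Lsl_ft (LP (LK LD1_c3 LD2_c15 LD3_c11)) = (LP (LK LD1_c6 LD2_c33 LD3_c50)) :=
  Lre_f IH (LK LD1_c3 LD2_c15 LD3_c11) (LK LD1_c6 LD2_c33 LD3_c50) Lrfl Lrfl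
theorem f703347 : Led Lsl_bt (LP (LK LD1_c6 LD2_c33 LD3_c50)) = K50.v13497 :=
  Lgr Lrot35 (Lpe (f650155 IH) (Lpe (f62047 IH) (Lpr_ff (K51.f703342 IH) (Lpn K50.v13497))))
theorem f446056 : Led Lsl_ft (LP (LK LD1_c2 LD2_c21 LD3_c36)) = (LP (LK LD1_c4 LD2_c47 LD3_c23)) :=
  Lre_f IH (LK LD1_c2 LD2_c21 LD3_c36) (LK LD1_c4 LD2_c47 LD3_c23) Lrfl Lrfl
theorem f703346 : Led Lsl_at (LP (LK LD1_c4 LD2_c47 LD3_c23)) = K50.v13497 :=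
  Lgr Lrot66 (Lpe (f446056 IH) (Lpe (K51.f703336 IH) (Lpr_ff (K51.f703342 IH) (Lpn K50.v13497))))
theorem f703354 : Led Lsl_gt (LP (LK LD1_c4 LD2_c47 LD3_c28)) = K50.v13497 :=
  Lgr Lrot46 (Lpe (K58.f415905 IH) (Lpr_ft (f446056 IH) (Lpr_at (f703346 IH) (Lpn K50.v13497))))
theorem f415906 : Led Lsl_bt (LP (LK LD1_c9 LD2_c27 LD3_c58)) = (LP (LK LD1_c4 LD2_c47 LD3_c28)) :=
  Lre_b IH (LK LD1_c9 LD2_c27 LD3_c58) (LK LD1_c4 LD2_c47 LD3_c28) Lrfl Lrfl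
theorem f415907 : Led Lsl_ct (LP (LK LD1_c9 LD2_c27 LD3_c58)) = (LP (LK LD1_c17 LD2_c27 LD3_c21)) :=
  Lre_c IH (LK LD1_c9 LD2_c27 LD3_c58) (LK LD1_c17 LD2_c27 LD3_c21) Lrfl Lrfl
theorem f779397 : Led Lsl_gt (LP (LK LD1_c12 LD2_c19 LD3_c45)) = (LP (LK LD1_c17 LD2_c27 LD3_c21)) :=
  Lgr Lrot149 (Lpe (f83536 IH) (Lpe (K2.f83715 IH) (Lpr_bf (f779394 IH) (Lpe (f779383 IH) (Lpe (f441178 IH) (Lpe (f441177 IH) (Lpr_bt (f703347 IH) (Lpe (f703354 IH) (Lpe (f415906 IH) (Lpr_ct (f415907 IH) (Lpn (LP (LK LD1_c17 LD2_c27 LD3_c21)))))))))))))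
theorem f779398 : Led Lsl_gt (LP (LK LD1_c12 LD2_c19 LD3_c45)) = (LP (LK LD1_c17 LD2_c27 LD3_c21)) :=
  Leop (Lpe (f779397 IH) (Lpn (LP (LK LD1_c12 LD2_c19 LD3_c45))))
theorem seed_1441 : LEOK LG_g (LK LD1_c12 LD2_c19 LD3_c45) :=
  Leoe_g (LK LD1_c12 LD2_c19 LD3_c45) (f779398 IH)
def v19399 : LQ := Led Lsl_dt (LP (LK LD1_c6 LD2_c41 LD3_c54))
theorem f779525 : Led Lsl_dt (LP (LK LD1_c6 LD2_c41 LD3_c54)) = v19399 :=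
  Lrfl
theorem f652090 : Led Lsl_dt (LP (LK LD1_c6 LD2_c42 LD3_c23)) = (LP (LK LD1_c3 LD2_c19 LD3_c9)) :=
  Lre_d IH (LK LD1_c6 LD2_c42 LD3_c23) (LK LD1_c3 LD2_c19 LD3_c9) Lrfl Lrfl
theorem f779528 : Led Lsl_ff (LP (LK LD1_c6 LD2_c42 LD3_c23)) = v19399 :=
  Lgr Lrot19 (Lpr_dt (f652090 IH) (Lpr_ft (K59.f652084 IH) (Lpq (K59.f772603 IH) (Lpr_dt (f779525 IH) (Lpn v19399)))))
theorem f779530 : Led Lsl_ft (LP (LK LD1_c6 LD2_c42 LD3_c23)) = v19399 :=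
  Lgr Lrot48 (Lpr_ff (f779528 IH) (Lpn v19399))
theorem f148658 : Led Lsl_dt (LP (LK LD1_c6 LD2_c42 LD3_c20)) = (LP (LK LD1_c3 LD2_c19 LD3_c8)) :=
  Lre_d IH (LK LD1_c6 LD2_c42 LD3_c20) (LK LD1_c3 LD2_c19 LD3_c8) Lrfl Lrfl
theorem f779526 : Led Lsl_af (LP (LK LD1_c6 LD2_c42 LD3_c20)) = v19399 :=
  Lgr Lrot117 (Lpr_dt (f148658 IH) (Lpr_at (K59.f652079 IH) (Lpq (K59.f772603 IH) (Lpr_dt (f779525 IH) (Lpn v19399)))))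
theorem f663994 : Led Lsl_gt (LP (LK LD1_c12 LD2_c49 LD3_c48)) = (LP (LK LD1_c6 LD2_c42 LD3_c20)) :=
  Lre_g IH (LK LD1_c12 LD2_c49 LD3_c48) (LK LD1_c6 LD2_c42 LD3_c20) Lrfl Lrfl
theorem f779531 : Led Lsl_gt (LP (LK LD1_c6 LD2_c42 LD3_c23)) = (LP (LK LD1_c12 LD2_c49 LD3_c48)) :=
  Lgr Lrot5 (Lpr_ft (f779530 IH) (Lpe (f779526 IH) (Lpe (f663994 IH) (Lpn (LP (LK LD1_c12 LD2_c49 LD3_c48))))))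
theorem f779532 : Led Lsl_gt (LP (LK LD1_c6 LD2_c42 LD3_c23)) = (LP (LK LD1_c12 LD2_c49 LD3_c48)) :=
  Leop (Lpe (f779531 IH) (Lpn (LP (LK LD1_c6 LD2_c42 LD3_c23))))
theorem seed_1442 : LEOK LG_g (LK LD1_c6 LD2_c42 LD3_c23) :=
  Leoe_g (LK LD1_c6 LD2_c42 LD3_c23) (f779532 IH)
def v19413 : LQ := Led Lsl_ft (LP (LK LD1_c6 LD2_c42 LD3_c1))
theorem f779618 : Led Lsl_ft (LP (LK LD1_c6 LD2_c42 LD3_c1)) = v19413 :=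
  Lrfl
theorem f779621 : Led Lsl_ff (LP (LK LD1_c6 LD2_c42 LD3_c1)) = v19413 :=
  Lgr Lrot3 (Lpr_ft (f779618 IH) (Lpn v19413))
theorem f24777 : Led Lsl_ft (LP (LK LD1_c3 LD2_c19 LD3_c21)) = (LP (LK LD1_c6 LD2_c42 LD3_c47)) :=
  Lre_f IH (LK LD1_c3 LD2_c19 LD3_c21) (LK LD1_c6 LD2_c42 LD3_c47) Lrfl Lrfl
theorem f779623 : Led Lsl_at (LP (LK LD1_c6 LD2_c42 LD3_c47)) = v19413 :=
  Lgr Lrot66 (Lpe (f24777 IH) (Lpe (K5.f24784 IH) (Lpr_ff (f779621 IH) (Lpn v19413))))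
theorem f24778 : Led Lsl_gt (LP (LK LD1_c3 LD2_c19 LD3_c21)) = (LP (LK LD1_c6 LD2_c42 LD3_c44)) :=
  Lre_g IH (LK LD1_c3 LD2_c19 LD3_c21) (LK LD1_c6 LD2_c42 LD3_c44) Lrfl Lrfl
theorem f779627 : Led Lsl_gt (LP (LK LD1_c6 LD2_c42 LD3_c44)) = v19413 :=
  Lgr Lrot46 (Lpe (f24778 IH) (Lpr_ft (f24777 IH) (Lpr_at (f779623 IH) (Lpn v19413))))
theorem f444104 : Led Lsl_bt (LP (LK LD1_c12 LD2_c50 LD3_c18)) = (LP (LK LD1_c6 LD2_c42 LD3_c44)) :=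
  Lre_b IH (LK LD1_c12 LD2_c50 LD3_c18) (LK LD1_c6 LD2_c42 LD3_c44) Lrfl Lrfl
theorem f776728 : Led Lsl_ct (LP (LK LD1_c12 LD2_c36 LD3_c50)) = (LP (LK LD1_c6 LD2_c59 LD3_c7)) :=
  Lgr Lrot59 (Lpr_cf (K59.f776722 IH) (Lpn (LP (LK LD1_c6 LD2_c59 LD3_c7))))
theorem f776727 : Led Lsl_bt (LP (LK LD1_c12 LD2_c36 LD3_c50)) = (LP (LK LD1_c21 LD2_c43 LD3_c1)) :=
  Lre_b IH (LK LD1_c12 LD2_c36 LD3_c50) (LK LD1_c21 LD2_c43 LD3_c1) Lrfl Lrfl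
theorem f435390 : Led Lsl_bt (LP (LK LD1_c4 LD2_c42 LD3_c11)) = (LP (LK LD1_c9 LD2_c18 LD3_c42)) :=
  Lre_b IH (LK LD1_c4 LD2_c42 LD3_c11) (LK LD1_c9 LD2_c18 LD3_c42) Lrfl Lrfl
theorem f153534 : Led Lsl_ct (LP (LK LD1_c9 LD2_c18 LD3_c42)) = (LP (LK LD1_c17 LD2_c13 LD3_c57)) :=
  Lre_c IH (LK LD1_c9 LD2_c18 LD3_c42) (LK LD1_c17 LD2_c13 LD3_c57) Lrfl Lrfl
theorem f435401 : Led Lsl_bf (LP (LK LD1_c9 LD2_c29 LD3_c2)) = (LP (LK LD1_c17 LD2_c13 LD3_c57)) :=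
  Lgr Lrot90 (Lpr_ct (K59.f135551 IH) (Lpr_bt (K59.f135529 IH) (Lpr_ct (K32.f435399 IH) (Lpr_bt (f435390 IH) (Lpr_ct (f153534 IH) (Lpn (LP (LK LD1_c17 LD2_c13 LD3_c57))))))))
theorem f435467 : Led Lsl_bt (LP (LK LD1_c9 LD2_c29 LD3_c2)) = (LP (LK LD1_c17 LD2_c13 LD3_c57)) :=
  Lgr Lrot127 (Lpr_bf (f435401 IH) (Lpn (LP (LK LD1_c17 LD2_c13 LD3_c57))))
theorem f508278 : Led Lsl_ft (LP (LK LD1_c3 LD2_c8 LD3_c54)) = (LP (LK LD1_c4 LD2_c42 LD3_c11)) :=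
  Lgr Lrot48 (Lpr_ff (K58.f508272 IH) (Lpn (LP (LK LD1_c4 LD2_c42 LD3_c11))))
theorem f435746 : Led Lsl_bt (LP (LK LD1_c6 LD2_c22 LD3_c21)) = (LP (LK LD1_c3 LD2_c8 LD3_c54)) :=
  Lre_b IH (LK LD1_c6 LD2_c22 LD3_c21) (LK LD1_c3 LD2_c8 LD3_c54) Lrfl Lrfl
theorem f508302 : Led Lsl_ff (LP (LK LD1_c6 LD2_c22 LD3_c21)) = (LP (LK LD1_c9 LD2_c18 LD3_c42)) :=
  Lgr Lrot25 (Lpr_bt (f435746 IH) (Lpr_ft (f508278 IH) (Lpr_bt (f435390 IH) (Lpn (LP (LK LD1_c9 LD2_c18 LD3_c42))))))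
theorem f435747 : Led Lsl_ct (LP (LK LD1_c6 LD2_c22 LD3_c21)) = (LP (LK LD1_c12 LD2_c18 LD3_c13)) :=
  Lre_c IH (LK LD1_c6 LD2_c22 LD3_c21) (LK LD1_c12 LD2_c18 LD3_c13) Lrfl Lrfl
theorem f153533 : Led Lsl_ct (LP (LK LD1_c17 LD2_c13 LD3_c57)) = (LP (LK LD1_c9 LD2_c18 LD3_c42)) :=
  Lre_c IH (LK LD1_c17 LD2_c13 LD3_c57) (LK LD1_c9 LD2_c18 LD3_c42) Lrfl Lrfl
theorem f508306 : Led Lsl_ft (LP (LK LD1_c12 LD2_c18 LD3_c13)) = (LP (LK LD1_c17 LD2_c13 LD3_c57)) :=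
  Lgr Lrot4 (Lpe (f435747 IH) (Lpr_ff (f508302 IH) (Lpe (f153533 IH) (Lpn (LP (LK LD1_c17 LD2_c13 LD3_c57))))))
theorem f508310 : Led Lsl_ff (LP (LK LD1_c12 LD2_c18 LD3_c13)) = (LP (LK LD1_c17 LD2_c13 LD3_c57)) :=
  Lgr Lrot3 (Lpr_ft (f508306 IH) (Lpn (LP (LK LD1_c17 LD2_c13 LD3_c57))))
theorem f671861 : Led Lsl_bt (LP (LK LD1_c12 LD2_c18 LD3_c13)) = K59.v8639 :=
  Lgr Lrot35 (Lpr_ff (f508310 IH) (Lpe (f435467 IH) (Lpr_ff (K59.f671860 IH) (Lpn K59.v8639))))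
theorem f444077 : Led Lsl_ct (LP (LK LD1_c12 LD2_c18 LD3_c13)) = (LP (LK LD1_c6 LD2_c22 LD3_c21)) :=
  Lre_c IH (LK LD1_c12 LD2_c18 LD3_c13) (LK LD1_c6 LD2_c22 LD3_c21) Lrfl Lrfl
theorem f444080 : Led Lsl_gt (LP (LK LD1_c12 LD2_c18 LD3_c11)) = (LP (LK LD1_c6 LD2_c22 LD3_c21)) :=
  Lre_g IH (LK LD1_c12 LD2_c18 LD3_c11) (LK LD1_c6 LD2_c22 LD3_c21) Lrfl Lrfl
theorem f444086 : Led Lsl_ct (LP (LK LD1_c21 LD2_c23 LD3_c45)) = (LP (LK LD1_c12 LD2_c18 LD3_c11)) :=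
  Lre_c IH (LK LD1_c21 LD2_c23 LD3_c45) (LK LD1_c12 LD2_c18 LD3_c11) Lrfl Lrfl
theorem f444101 : Led Lsl_bt (LP (LK LD1_c21 LD2_c23 LD3_c45)) = (LP (LK LD1_c30 LD2_c0 LD3_c6)) :=
  Lre_b IH (LK LD1_c21 LD2_c23 LD3_c45) (LK LD1_c30 LD2_c0 LD3_c6) Lrfl Lrfl
theorem f776743 : Led Lsl_gt (LP (LK LD1_c21 LD2_c43 LD3_c1)) = (LP (LK LD1_c30 LD2_c0 LD3_c6)) :=
  Lgr Lrot164 (Lpe (f776727 IH) (Lpr_ct (f776728 IH) (Lpe (K59.f62662 IH) (Lpr_cf (K3.f88993 IH) (Lpr_gf (K56.f754472 IH) (Lpq (K59.f768916 IH) (Lpe (f671861 IH) (Lpr_ct (f444077 IH) (Lpe (f444080 IH) (Lpe (f444086 IH) (Lpr_bt (f444101 IH) (Lpn (LP (LK LD1_c30 LD2_c0 LD3_c6))))))))))))))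
theorem f24744 : Led Lsl_gt (LP (LK LD1_c3 LD2_c19 LD3_c38)) = (LP (LK LD1_c6 LD2_c43 LD3_c0)) :=
  Lre_g IH (LK LD1_c3 LD2_c19 LD3_c38) (LK LD1_c6 LD2_c43 LD3_c0) Lrfl Lrfl
theorem f444078 : Led Lsl_ct (LP (LK LD1_c6 LD2_c43 LD3_c0)) = (LP (LK LD1_c12 LD2_c50 LD3_c56)) :=
  Lre_c IH (LK LD1_c6 LD2_c43 LD3_c0) (LK LD1_c12 LD2_c50 LD3_c56) Lrfl Lrfl
theorem f444079 : Led Lsl_gt (LP (LK LD1_c12 LD2_c50 LD3_c56)) = (LP (LK LD1_c21 LD2_c59 LD3_c25)) :=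
  Lre_g IH (LK LD1_c12 LD2_c50 LD3_c56) (LK LD1_c21 LD2_c59 LD3_c25) Lrfl Lrfl
theorem f444014 : Led Lsl_bt (LP (LK LD1_c3 LD2_c8 LD3_c54)) = (LP (LK LD1_c6 LD2_c22 LD3_c21)) :=
  Lre_b IH (LK LD1_c3 LD2_c8 LD3_c54) (LK LD1_c6 LD2_c22 LD3_c21) Lrfl Lrfl
theorem f444081 : Led Lsl_bt (LP (LK LD1_c21 LD2_c23 LD3_c44)) = (LP (LK LD1_c12 LD2_c18 LD3_c11)) :=
  Lre_b IH (LK LD1_c21 LD2_c23 LD3_c44) (LK LD1_c12 LD2_c18 LD3_c11) Lrfl Lrfl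
theorem f444082 : Led Lsl_cf (LP (LK LD1_c21 LD2_c59 LD3_c25)) = (LP (LK LD1_c21 LD2_c23 LD3_c44)) :=
  Lgr Lrot163 (Lpe (f444079 IH) (Lpe (f444078 IH) (Lpe (f24744 IH) (Lpe (K5.f24699 IH) (Lpr_ct (K5.f24690 IH) (Lpe (K32.f24685 IH) (Lpr_cf (K58.f444015 IH) (Lpr_bt (f444014 IH) (Lpe (f444080 IH) (Lpe (f444081 IH) (Lpn (LP (LK LD1_c21 LD2_c23 LD3_c44)))))))))))))
theorem f444084 : Led Lsl_bt (LP (LK LD1_c21 LD2_c59 LD3_c25)) = (LP (LK LD1_c30 LD2_c14 LD3_c36)) :=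
  Lre_b IH (LK LD1_c21 LD2_c59 LD3_c25) (LK LD1_c30 LD2_c14 LD3_c36) Lrfl Lrfl
theorem f444085 : Led Lsl_bt (LP (LK LD1_c12 LD2_c18 LD3_c11)) = (LP (LK LD1_c21 LD2_c23 LD3_c44)) :=
  Lre_b IH (LK LD1_c12 LD2_c18 LD3_c11) (LK LD1_c21 LD2_c23 LD3_c44) Lrfl Lrfl
theorem f444087 : Led Lsl_bt (LP (LK LD1_c30 LD2_c0 LD3_c6)) = (LP (LK LD1_c21 LD2_c23 LD3_c45)) :=
  Lre_b IH (LK LD1_c30 LD2_c0 LD3_c6) (LK LD1_c21 LD2_c23 LD3_c45) Lrfl Lrfl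
theorem f444088 : Led Lsl_ct (LP (LK LD1_c30 LD2_c14 LD3_c36)) = (LP (LK LD1_c30 LD2_c0 LD3_c6)) :=
  Lgr Lrot83 (Lpe (f444084 IH) (Lpr_cf (f444082 IH) (Lpe (f444085 IH) (Lpe (f444086 IH) (Lpe (f444087 IH) (Lpn (LP (LK LD1_c30 LD2_c0 LD3_c6))))))))
theorem f444099 : Led Lsl_bt (LP (LK LD1_c30 LD2_c14 LD3_c36)) = (LP (LK LD1_c21 LD2_c59 LD3_c25)) :=
  Lre_b IH (LK LD1_c30 LD2_c14 LD3_c36) (LK LD1_c21 LD2_c59 LD3_c25) Lrfl Lrfl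
theorem f444092 : Led Lsl_gt (LP (LK LD1_c21 LD2_c59 LD3_c25)) = (LP (LK LD1_c12 LD2_c50 LD3_c61)) :=
  Lre_g IH (LK LD1_c21 LD2_c59 LD3_c25) (LK LD1_c12 LD2_c50 LD3_c61) Lrfl Lrfl
theorem f444094 : Led Lsl_ct (LP (LK LD1_c12 LD2_c50 LD3_c61)) = (LP (LK LD1_c6 LD2_c43 LD3_c1)) :=
  Lre_c IH (LK LD1_c12 LD2_c50 LD3_c61) (LK LD1_c6 LD2_c43 LD3_c1) Lrfl Lrfl
theorem f24748 : Led Lsl_gt (LP (LK LD1_c6 LD2_c43 LD3_c1)) = (LP (LK LD1_c3 LD2_c19 LD3_c38)) :=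
  Lre_g IH (LK LD1_c6 LD2_c43 LD3_c1) (LK LD1_c3 LD2_c19 LD3_c38) Lrfl Lrfl
theorem f24714 : Led Lsl_ct (LP (LK LD1_c6 LD2_c42 LD3_c45)) = (LP (LK LD1_c3 LD2_c19 LD3_c38)) :=
  Lre_c IH (LK LD1_c6 LD2_c42 LD3_c45) (LK LD1_c3 LD2_c19 LD3_c38) Lrfl Lrfl
theorem f24787 : Led Lsl_bt (LP (LK LD1_c6 LD2_c42 LD3_c45)) = (LP (LK LD1_c3 LD2_c19 LD3_c21)) :=
  Lre_b IH (LK LD1_c6 LD2_c42 LD3_c45) (LK LD1_c3 LD2_c19 LD3_c21) Lrfl Lrfl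
theorem f776745 : Led Lsl_cf (LP (LK LD1_c21 LD2_c43 LD3_c1)) = (LP (LK LD1_c12 LD2_c50 LD3_c18)) :=
  Lgr Lrot160 (Lpr_gt (f776743 IH) (Lpe (f444088 IH) (Lpr_bt (f444099 IH) (Lpr_gt (f444092 IH) (Lpr_ct (f444094 IH) (Lpr_gt (f24748 IH) (Lpe (f24714 IH) (Lpr_bt (f24787 IH) (Lpr_gt (f24778 IH) (Lpe (f444104 IH) (Lpn (LP (LK LD1_c12 LD2_c50 LD3_c18)))))))))))))
theorem f776742 : Led Lsl_gt (LP (LK LD1_c30 LD2_c7 LD3_c42)) = (LP (LK LD1_c21 LD2_c43 LD3_c1)) :=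
  Lre_g IH (LK LD1_c30 LD2_c7 LD3_c42) (LK LD1_c21 LD2_c43 LD3_c1) Lrfl Lrfl
theorem f779620 : Led Lsl_cf K46.v6201 = v19413 :=
  Lgr Lrot108 (Lpe (K58.f652036 IH) (Lpr_ct (K6.f24840 IH) (Lpr_ft (f779618 IH) (Lpn v19413))))
theorem f652049 : Led Lsl_bt (LP (LK LD1_c6 LD2_c42 LD3_c42)) = (LP (LK LD1_c12 LD2_c50 LD3_c16)) :=
  Lre_b IH (LK LD1_c6 LD2_c42 LD3_c42) (LK LD1_c12 LD2_c50 LD3_c16) Lrfl Lrfl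
theorem f652050 : Led Lsl_gt (LP (LK LD1_c12 LD2_c50 LD3_c16)) = (LP (LK LD1_c21 LD2_c58 LD3_c28)) :=
  Lre_g IH (LK LD1_c12 LD2_c50 LD3_c16) (LK LD1_c21 LD2_c58 LD3_c28) Lrfl Lrfl
theorem f652051 : Led Lsl_bt (LP (LK LD1_c30 LD2_c14 LD3_c21)) = (LP (LK LD1_c21 LD2_c58 LD3_c28)) :=
  Lre_b IH (LK LD1_c30 LD2_c14 LD3_c21) (LK LD1_c21 LD2_c58 LD3_c28) Lrfl Lrfl
theorem f779629 : Led Lsl_cf (LP (LK LD1_c30 LD2_c7 LD3_c42)) = (LP (LK LD1_c30 LD2_c14 LD3_c21)) :=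
  Lgr Lrot160 (Lpr_gt (f776742 IH) (Lpr_cf (f776745 IH) (Lpr_bt (f444104 IH) (Lpr_gt (f779627 IH) (Lpe (f779620 IH) (Lpe (K58.f652043 IH) (Lpe (K58.f652048 IH) (Lpr_bt (f652049 IH) (Lpr_gt (f652050 IH) (Lpe (f652051 IH) (Lpn (LP (LK LD1_c30 LD2_c14 LD3_c21)))))))))))))
theorem f779630 : Led Lsl_ct (LP (LK LD1_c30 LD2_c14 LD3_c21)) = (LP (LK LD1_c30 LD2_c7 LD3_c42)) :=
  Leop (Lpr_cf (f779629 IH) (Lpn (LP (LK LD1_c30 LD2_c14 LD3_c21))))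
theorem seed_1443 : LEOK LG_c (LK LD1_c30 LD2_c14 LD3_c21) :=
  Leoe_c (LK LD1_c30 LD2_c14 LD3_c21) (f779630 IH)
def v19483 : LQ := Led Lsl_ft (LP (LK LD1_c6 LD2_c42 LD3_c57))
theorem f779971 : Led Lsl_ft (LP (LK LD1_c6 LD2_c42 LD3_c57)) = v19483 :=
  Lrfl
theorem f779973 : Led Lsl_ff (LP (LK LD1_c6 LD2_c42 LD3_c57)) = v19483 :=
  Lgr Lrot3 (Lpr_ft (f779971 IH) (Lpn v19483))
theorem f779974 : Led Lsl_ct K58.v4465 = v19483 :=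
  Lgr Lrot40 (Lpe (K58.f634035 IH) (Lpe (K58.f416951 IH) (Lpr_ff (f779973 IH) (Lpn v19483))))
theorem f703503 : Led Lsl_ff (LP (LK LD1_c4 LD2_c45 LD3_c4)) = K58.v13539 :=
  Lgr Lrot3 (Lpr_ft (K58.f703500 IH) (Lpn K58.v13539))
theorem f703507 : Led Lsl_gf K58.v4414 = K58.v13539 :=
  Lgr Lrot47 (Lpe (K58.f633249 IH) (Lpe (K4.f113645 IH) (Lpr_ff (f703503 IH) (Lpn K58.v13539))))
theorem f441194 : Led Lsl_ft (LP (LK LD1_c4 LD2_c45 LD3_c5)) = (LP (LK LD1_c2 LD2_c20 LD3_c41)) :=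
  Lre_f IH (LK LD1_c4 LD2_c45 LD3_c5) (LK LD1_c2 LD2_c20 LD3_c41) Lrfl Lrfl
theorem f703502 : Led Lsl_df (LP (LK LD1_c4 LD2_c45 LD3_c5)) = K58.v13539 :=
  Lgr Lrot78 (Lpr_ft (f441194 IH) (Lpr_dt (K4.f102145 IH) (Lpr_ft (K58.f703500 IH) (Lpn K58.v13539))))
theorem f113650 : Led Lsl_at (LP (LK LD1_c2 LD2_c20 LD3_c41)) = (LP (LK LD1_c1 LD2_c7 LD3_c48)) :=
  Lgr Lrot100 (Lpr_af (K4.f113648 IH) (Lpn (LP (LK LD1_c1 LD2_c7 LD3_c48))))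
theorem f441206 : Led Lsl_gt (LP (LK LD1_c4 LD2_c45 LD3_c5)) = (LP (LK LD1_c2 LD2_c20 LD3_c59)) :=
  Lgr Lrot5 (Lpr_ft (f441194 IH) (Lpr_at (f113650 IH) (Lpe (K57.f78238 IH) (Lpn (LP (LK LD1_c2 LD2_c20 LD3_c59))))))
def v13588 : LQ := Led Lsl_gf (LP (LK LD1_c4 LD2_c45 LD3_c50))
theorem f703778 : Led Lsl_gf (LP (LK LD1_c4 LD2_c45 LD3_c50)) = v13588 :=
  Lrfl
theorem f703787 : Led Lsl_gt (LP (LK LD1_c4 LD2_c45 LD3_c53)) = v13588 :=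
  Lgr Lrot5 (Lpr_ft (K58.f703785 IH) (Lpe (K58.f703782 IH) (Lpr_gf (f703778 IH) (Lpn v13588))))
theorem f770496 : (LP (LK LD1_c2 LD2_c21 LD3_c10)) = v13588 :=
  Lefun (Lecon (Lfl_gf (K58.f633287 IH)) ((K58.f769986 IH).symm.trans (K58.f770456 IH))) (f703787 IH)
theorem f115154 : Led Lsl_et (LP (LK LD1_c4 LD2_c47 LD3_c39)) = (LP (LK LD1_c9 LD2_c28 LD3_c17)) :=
  Lre_e IH (LK LD1_c4 LD2_c47 LD3_c39) (LK LD1_c9 LD2_c28 LD3_c17) Lrfl Lrfl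
theorem f701217 : Led Lsl_ct (LP (LK LD1_c9 LD2_c28 LD3_c17)) = K58.v13120 :=
  Lgr Lrot15 (Lpe (f115154 IH) (Lpr_cf (K5.f115147 IH) (Lpr_ef (K58.f701214 IH) (Lpn K58.v13120))))
theorem f779975 : Led Lsl_gf (LP (LK LD1_c9 LD2_c28 LD3_c17)) = v19483 :=
  Lgr Lrot104 (Lpr_ct (f701217 IH) (Lpe (K58.f701210 IH) (Lpe (K5.f78071 IH) (Lpqs (f770496 IH) (Lpe (f703787 IH) (Lpe (K58.f441211 IH) (Lpe (f441206 IH) (Lpr_df (f703502 IH) (Lpe (f703507 IH) (Lpqs (K58.f770956 IH) (Lpr_ct (f779974 IH) (Lpn v19483))))))))))))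
def v6261 : LQ := Led Lsl_at (LP (LK LD1_c3 LD2_c19 LD3_c34))
theorem f652351 : Led Lsl_at (LP (LK LD1_c3 LD2_c19 LD3_c34)) = v6261 :=
  Lrfl
def v13797 : LQ := Led Lsl_at (LP (LK LD1_c4 LD2_c48 LD3_c8))
theorem f704900 : Led Lsl_at (LP (LK LD1_c4 LD2_c48 LD3_c8)) = v13797 :=
  Lrfl
theorem f652352 : Led Lsl_af (LP (LK LD1_c3 LD2_c19 LD3_c34)) = v6261 :=
  Lgr Lrot0 (Lpr_at (f652351 IH) (Lpn v6261))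
theorem f704902 : Led Lsl_bf v6261 = v13797 :=
  Lgr Lrot81 (Lpe (f652352 IH) (Lpr_bt (K58.f416950 IH) (Lpr_at (K32.f507976 IH) (Lpr_bt (K59.f135521 IH) (Lpr_at (f704900 IH) (Lpn v13797))))))
def v6054 : LQ := Led Lsl_bt (LP (LK LD1_c3 LD2_c16 LD3_c58))
theorem f650759 : Led Lsl_bt (LP (LK LD1_c3 LD2_c16 LD3_c58)) = v6054 :=
  Lrfl
def v8638 : LQ := Led Lsl_at K59.v2132
theorem f671853 : Led Lsl_at K59.v2132 = v8638 :=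
  Lrfl
theorem f671854 : Led Lsl_af K59.v2132 = v8638 :=
  Lgr Lrot0 (Lpr_at (f671853 IH) (Lpn v8638))
theorem f704903 : Led Lsl_ff v8638 = v13797 :=
  Lgr Lrot30 (Lpe (f671854 IH) (Lpe (K59.f509156 IH) (Lpr_at (f704900 IH) (Lpn v13797))))
theorem f704905 : Led Lsl_ft v8638 = v13797 :=
  Lgr Lrot48 (Lpr_ff (f704903 IH) (Lpn v13797))
def v5934 : LQ := Led Lsl_at (LP (LK LD1_c3 LD2_c15 LD3_c6))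
theorem f650106 : Led Lsl_at (LP (LK LD1_c3 LD2_c15 LD3_c6)) = v5934 :=
  Lrfl
theorem f650107 : Led Lsl_af (LP (LK LD1_c3 LD2_c15 LD3_c6)) = v5934 :=
  Lgr Lrot0 (Lpr_at (f650106 IH) (Lpn v5934))
theorem f671855 : Led Lsl_df v5934 = v8638 :=
  Lgr Lrot18 (Lpe (f650107 IH) (Lpr_dt (K59.f509158 IH) (Lpr_at (f671853 IH) (Lpn v8638))))
theorem f671856 : Led Lsl_dt v5934 = v8638 :=
  Lgr Lrot42 (Lpr_df (f671855 IH) (Lpn v8638))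
theorem f650108 : Led Lsl_ef K58.v2045 = v5934 :=
  Lgr Lrot20 (Lpe (K58.f507904 IH) (Lpr_et (K59.f507905 IH) (Lpr_at (f650106 IH) (Lpn v5934))))
theorem f650109 : Led Lsl_et K58.v2045 = v5934 :=
  Lgr Lrot87 (Lpr_ef (f650108 IH) (Lpn v5934))
theorem f671582 : Led Lsl_cf K49.v3043 = K58.v5207 :=
  Lgr Lrot166 (Lpr_gt (K49.f622628 IH) (Lpr_dt (K49.f624514 IH) (Lpr_gt (K49.f671579 IH) (Lpe (K49.f671578 IH) (Lpr_ct (K59.f650902 IH) (Lpe (K58.f650904 IH) (Lpr_gf (K58.f664922 IH) (Lpe (K58.f664921 IH) (Lpe (K58.f646540 IH) (Lpn K58.v5207))))))))))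
theorem f703281 : Led Lsl_ft K58.v5931 = K58.v13491 :=
  Lgr Lrot48 (Lpr_ff (K58.f703278 IH) (Lpn K58.v13491))
theorem f703276 : Led Lsl_af (LP (LK LD1_c4 LD2_c44 LD3_c26)) = K58.v13491 :=
  Lgr Lrot0 (Lpr_at (K58.f703275 IH) (Lpn K58.v13491))
theorem f703283 : Led Lsl_gt K58.v5931 = K58.v13490 :=
  Lgr Lrot5 (Lpr_ft (f703281 IH) (Lpe (f703276 IH) (Lpr_gf (K58.f703272 IH) (Lpn K58.v13490))))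
theorem f768780 : K58.v5931 = K58.v5207 :=
  Lefun (Lecon (Lfl_gt (f703283 IH)) (K58.f768777 IH)) (Lfl_gt (K58.f646540 IH))
theorem f768786 : K58.v2045 = K49.v3043 :=
  Lefun (Lecon (Lfl_cf (K58.f650102 IH)) (f768780 IH)) (Lfl_cf (f671582 IH))
theorem f768805 : K49.v9701 = v5934 :=
  Lefun (Lecon (K49.f677229 IH) (f768786 IH).symm) (f650109 IH)
theorem f768825 : v8638 = (LP (LK LD1_c6 LD2_c35 LD3_c24)) :=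
  Lefun (Lecon (f671856 IH) (f768805 IH).symm) (Lfl_df (K49.f677231 IH))
theorem f768884 : v13797 = (LP (LK LD1_c3 LD2_c16 LD3_c58)) :=
  Lefun (Lecon (f704905 IH) ((f768825 IH).trans (K49.f678580 IH).symm)) (Lfl_ff (K49.f650763 IH))
theorem f768921 : v6261 = v6054 :=
  Lefun (Lecon (Lfl_bf (f704902 IH)) (f768884 IH)) (f650759 IH)
def v6089 : LQ := Led Lsl_bt (LP (LK LD1_c3 LD2_c17 LD3_c21))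
theorem f650966 : Led Lsl_bt (LP (LK LD1_c3 LD2_c17 LD3_c21)) = v6089 :=
  Lrfl
theorem f650760 : Led Lsl_bf (LP (LK LD1_c3 LD2_c16 LD3_c58)) = v6054 :=
  Lgr Lrot24 (Lpr_bt (f650759 IH) (Lpn v6054))
theorem f650969 : Led Lsl_ef v6054 = v6089 :=
  Lgr Lrot29 (Lpe (f650760 IH) (Lpe (K46.f155217 IH) (Lpr_bt (f650966 IH) (Lpn v6089))))
theorem f650968 : Led Lsl_df K59.v2088 = v6089 :=
  Lgr Lrot12 (Lpe (K59.f508759 IH) (Lpr_dt (K46.f119400 IH) (Lpr_bt (f650966 IH) (Lpn v6089))))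
theorem f650971 : Led Lsl_dt K59.v2088 = v6089 :=
  Lgr Lrot42 (Lpr_df (f650968 IH) (Lpn v6089))
theorem f770943 : v6089 = (LP (LK LD1_c4 LD2_c46 LD3_c10)) :=
  Lefun (Lecon (f650971 IH) ((K59.f768952 IH).symm.trans (K59.f770932 IH))) (K57.f435797 IH)
theorem f770951 : v6054 = (LP (LK LD1_c4 LD2_c45 LD3_c56)) :=
  Lefun (Lecon (Lfl_ef (f650969 IH)) (f770943 IH)) (Lfl_ef (K57.f435791 IH))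
theorem f435793 : Led Lsl_ct (LP (LK LD1_c4 LD2_c45 LD3_c56)) = (LP (LK LD1_c9 LD2_c24 LD3_c22)) :=
  Lre_c IH (LK LD1_c4 LD2_c45 LD3_c56) (LK LD1_c9 LD2_c24 LD3_c22) Lrfl Lrfl
theorem f775366 : Led Lsl_af (LP (LK LD1_c6 LD2_c42 LD3_c57)) = (LP (LK LD1_c9 LD2_c24 LD3_c22)) :=
  Lgr Lrot68 (Lpr_ct (K58.f416951 IH) (Lpr_at (f652351 IH) (Lpqs (f768921 IH) (Lpqs (f770951 IH) (Lpr_ct (f435793 IH) (Lpn (LP (LK LD1_c9 LD2_c24 LD3_c22))))))))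
theorem f775368 : Led Lsl_at (LP (LK LD1_c6 LD2_c42 LD3_c57)) = (LP (LK LD1_c9 LD2_c24 LD3_c22)) :=
  Lgr Lrot100 (Lpr_af (f775366 IH) (Lpn (LP (LK LD1_c9 LD2_c24 LD3_c22))))
theorem f779976 : Led Lsl_gt (LP (LK LD1_c9 LD2_c28 LD3_c17)) = (LP (LK LD1_c9 LD2_c24 LD3_c22)) :=
  Lgr Lrot46 (Lpr_gf (f779975 IH) (Lpe (f779973 IH) (Lpr_at (f775368 IH) (Lpn (LP (LK LD1_c9 LD2_c24 LD3_c22))))))
theorem f779977 : Led Lsl_gt (LP (LK LD1_c9 LD2_c28 LD3_c17)) = (LP (LK LD1_c9 LD2_c24 LD3_c22)) :=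
  Leop (Lpe (f779976 IH) (Lpn (LP (LK LD1_c9 LD2_c28 LD3_c17))))
theorem seed_1444 : LEOK LG_g (LK LD1_c9 LD2_c28 LD3_c17) :=
  Leoe_g (LK LD1_c9 LD2_c28 LD3_c17) (f779977 IH)
def v19504 : LQ := Led Lsl_ft (LP (LK LD1_c6 LD2_c43 LD3_c16))
theorem f780084 : Led Lsl_ft (LP (LK LD1_c6 LD2_c43 LD3_c16)) = v19504 :=
  Lrfl
theorem f437799 : Led Lsl_gt (LP (LK LD1_c6 LD2_c43 LD3_c16)) = (LP (LK LD1_c12 LD2_c51 LD3_c22)) :=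
  Lre_g IH (LK LD1_c6 LD2_c43 LD3_c16) (LK LD1_c12 LD2_c51 LD3_c22) Lrfl Lrfl
theorem f57453 : Led Lsl_at (LP (LK LD1_c3 LD2_c19 LD3_c53)) = (LP (LK LD1_c6 LD2_c43 LD3_c16)) :=
  Lre_a IH (LK LD1_c3 LD2_c19 LD3_c53) (LK LD1_c6 LD2_c43 LD3_c16) Lrfl Lrfl
theorem f57330 : Led Lsl_ft (LP (LK LD1_c6 LD2_c43 LD3_c36)) = (LP (LK LD1_c3 LD2_c19 LD3_c53)) :=
  Lre_f IH (LK LD1_c6 LD2_c43 LD3_c36) (LK LD1_c3 LD2_c19 LD3_c53) Lrfl Lrfl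
theorem f780085 : Led Lsl_af (LP (LK LD1_c6 LD2_c43 LD3_c36)) = v19504 :=
  Lgr Lrot45 (Lpr_ft (f57330 IH) (Lpr_at (f57453 IH) (Lpr_ft (f780084 IH) (Lpn v19504))))
theorem f780088 : Led Lsl_gt (LP (LK LD1_c12 LD2_c51 LD3_c22)) = (LP (LK LD1_c6 LD2_c43 LD3_c36)) :=
  Lgr Lrot46 (Lpe (f437799 IH) (Lpr_ft (f780084 IH) (Lpe (f780085 IH) (Lpn (LP (LK LD1_c6 LD2_c43 LD3_c36))))))
theorem f780089 : Led Lsl_gt (LP (LK LD1_c12 LD2_c51 LD3_c22)) = (LP (LK LD1_c6 LD2_c43 LD3_c36)) :=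
  Leop (Lpe (f780088 IH) (Lpn (LP (LK LD1_c12 LD2_c51 LD3_c22))))
theorem seed_1445 : LEOK LG_g (LK LD1_c12 LD2_c51 LD3_c22) :=
  Leoe_g (LK LD1_c12 LD2_c51 LD3_c22) (f780089 IH)
theorem f57354 : Led Lsl_gt (LP (LK LD1_c6 LD2_c43 LD3_c36)) = (LP (LK LD1_c12 LD2_c51 LD3_c23)) :=
  Lre_g IH (LK LD1_c6 LD2_c43 LD3_c36) (LK LD1_c12 LD2_c51 LD3_c23) Lrfl Lrfl
theorem f57515 : Led Lsl_et (LP (LK LD1_c1 LD2_c36 LD3_c20)) = (LP (LK LD1_c0 LD2_c44 LD3_c38)) :=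
  Lre_e IH (LK LD1_c1 LD2_c36 LD3_c20) (LK LD1_c0 LD2_c44 LD3_c38) Lrfl Lrfl
theorem f57328 : Led Lsl_dt (LP (LK LD1_c1 LD2_c36 LD3_c20)) = (LP (LK LD1_c3 LD2_c19 LD3_c53)) :=
  Lre_d IH (LK LD1_c1 LD2_c36 LD3_c20) (LK LD1_c3 LD2_c19 LD3_c53) Lrfl Lrfl
theorem f57482 : Led Lsl_gt (LP (LK LD1_c6 LD2_c43 LD3_c34)) = (LP (LK LD1_c3 LD2_c19 LD3_c53)) :=
  Lre_g IH (LK LD1_c6 LD2_c43 LD3_c34) (LK LD1_c3 LD2_c19 LD3_c53) Lrfl Lrfl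
theorem f649615 : Led Lsl_dt (LP (LK LD1_c12 LD2_c28 LD3_c36)) = (LP (LK LD1_c6 LD2_c43 LD3_c34)) :=
  Lgr Lrot136 (Lpr_et (K52.f632969 IH) (Lpr_gf (K46.f649608 IH) (Lpe (K51.f156583 IH) (Lpe (K7.f156553 IH) (Lpe (K51.f137189 IH) (Lpr_df (K51.f120492 IH) (Lpe (K4.f57254 IH) (Lpe (f57515 IH) (Lpr_dt (f57328 IH) (Lpe (f57482 IH) (Lpn (LP (LK LD1_c6 LD2_c43 LD3_c34)))))))))))))
theorem f25380 : Led Lsl_et (LP (LK LD1_c1 LD2_c7 LD3_c19)) = (LP (LK LD1_c2 LD2_c20 LD3_c8)) :=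
  Lre_e IH (LK LD1_c1 LD2_c7 LD3_c19) (LK LD1_c2 LD2_c20 LD3_c8) Lrfl Lrfl
theorem f437797 : Led Lsl_et (LP (LK LD1_c3 LD2_c19 LD3_c44)) = (LP (LK LD1_c1 LD2_c36 LD3_c15)) :=
  Lre_e IH (LK LD1_c3 LD2_c19 LD3_c44) (LK LD1_c1 LD2_c36 LD3_c15) Lrfl Lrfl
theorem f437798 : Led Lsl_dt (LP (LK LD1_c3 LD2_c19 LD3_c44)) = (LP (LK LD1_c6 LD2_c43 LD3_c16)) :=
  Lre_d IH (LK LD1_c3 LD2_c19 LD3_c44) (LK LD1_c6 LD2_c43 LD3_c16) Lrfl Lrfl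
theorem f144015 : Led Lsl_gt (LP (LK LD1_c12 LD2_c51 LD3_c23)) = (LP (LK LD1_c6 LD2_c43 LD3_c16)) :=
  Lre_g IH (LK LD1_c12 LD2_c51 LD3_c23) (LK LD1_c6 LD2_c43 LD3_c16) Lrfl Lrfl
theorem f437814 : Led Lsl_dt (LP (LK LD1_c9 LD2_c21 LD3_c25)) = (LP (LK LD1_c12 LD2_c51 LD3_c23)) :=
  Lgr Lrot136 (Lpr_et (K52.f437813 IH) (Lpe (K51.f25276 IH) (Lpe (f25380 IH) (Lpr_dt (K7.f25392 IH) (Lpr_gf (K7.f129610 IH) (Lpe (K4.f109965 IH) (Lpr_gf (K7.f144026 IH) (Lpe (f437797 IH) (Lpr_dt (f437798 IH) (Lpe (f144015 IH) (Lpn (LP (LK LD1_c12 LD2_c51 LD3_c23)))))))))))))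
theorem f437817 : Led Lsl_df (LP (LK LD1_c9 LD2_c21 LD3_c25)) = (LP (LK LD1_c12 LD2_c51 LD3_c23)) :=
  Lgr Lrot38 (Lpr_dt (f437814 IH) (Lpn (LP (LK LD1_c12 LD2_c51 LD3_c23))))
theorem f707941 : Led Lsl_at (LP (LK LD1_c6 LD2_c43 LD3_c34)) = (LP (LK LD1_c12 LD2_c51 LD3_c23)) :=
  Lgr Lrot51 (Lpe (f649615 IH) (Lpr_af (K52.f707935 IH) (Lpr_df (f437817 IH) (Lpn (LP (LK LD1_c12 LD2_c51 LD3_c23))))))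
theorem f780090 : Led Lsl_ft (LP (LK LD1_c12 LD2_c51 LD3_c22)) = (LP (LK LD1_c6 LD2_c43 LD3_c34)) :=
  Lgr Lrot2 (Lpr_gt (f780088 IH) (Lpr_gt (f57354 IH) (Lpe (f707941 IH) (Lpn (LP (LK LD1_c6 LD2_c43 LD3_c34))))))
theorem f780101 : Led Lsl_ff (LP (LK LD1_c12 LD2_c51 LD3_c22)) = (LP (LK LD1_c6 LD2_c43 LD3_c34)) :=
  Lgr Lrot3 (Lpr_ft (f780090 IH) (Lpn (LP (LK LD1_c6 LD2_c43 LD3_c34))))
theorem f57473 : Led Lsl_gt (LP (LK LD1_c3 LD2_c19 LD3_c53)) = (LP (LK LD1_c6 LD2_c43 LD3_c33)) :=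
  Lre_g IH (LK LD1_c3 LD2_c19 LD3_c53) (LK LD1_c6 LD2_c43 LD3_c33) Lrfl Lrfl
theorem f780110 : Led Lsl_at (LP (LK LD1_c12 LD2_c51 LD3_c22)) = (LP (LK LD1_c6 LD2_c43 LD3_c33)) :=
  Lgr Lrot26 (Lpr_ff (f780101 IH) (Lpr_gt (f57482 IH) (Lpr_gt (f57473 IH) (Lpn (LP (LK LD1_c6 LD2_c43 LD3_c33))))))
theorem f780112 : Led Lsl_ct (LP (LK LD1_c12 LD2_c51 LD3_c56)) = (LP (LK LD1_c6 LD2_c43 LD3_c33)) :=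
  Lre_c IH (LK LD1_c12 LD2_c51 LD3_c56) (LK LD1_c6 LD2_c43 LD3_c33) Lrfl Lrfl
theorem f780113 : Led Lsl_dt (LP (LK LD1_c22 LD2_c1 LD3_c16)) = (LP (LK LD1_c12 LD2_c51 LD3_c56)) :=
  Lre_d IH (LK LD1_c22 LD2_c1 LD3_c16) (LK LD1_c12 LD2_c51 LD3_c56) Lrfl Lrfl
theorem f649620 : Led Lsl_df (LP (LK LD1_c12 LD2_c28 LD3_c36)) = (LP (LK LD1_c6 LD2_c43 LD3_c34)) :=
  Lgr Lrot38 (Lpr_dt (f649615 IH) (Lpn (LP (LK LD1_c6 LD2_c43 LD3_c34))))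
def v18391 : LQ := Led Lsl_dt (LP (LK LD1_c6 LD2_c29 LD3_c9))
theorem f766740 : Led Lsl_dt (LP (LK LD1_c6 LD2_c29 LD3_c9)) = v18391 :=
  Lrfl
theorem f649127 : Led Lsl_bt (LP (LK LD1_c3 LD2_c12 LD3_c34)) = (LP (LK LD1_c6 LD2_c29 LD3_c9)) :=
  Lre_b IH (LK LD1_c3 LD2_c12 LD3_c34) (LK LD1_c6 LD2_c29 LD3_c9) Lrfl Lrfl
theorem f649130 : Led Lsl_df (LP (LK LD1_c3 LD2_c12 LD3_c34)) = K57.v5737 :=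
  Lgr Lrot38 (Lpr_dt (K57.f649129 IH) (Lpn K57.v5737))
theorem f766741 : Led Lsl_bf K57.v5737 = v18391 :=
  Lgr Lrot93 (Lpe (f649130 IH) (Lpr_bt (f649127 IH) (Lpr_dt (f766740 IH) (Lpn v18391))))
theorem f506680 : Led Lsl_dt K46.v1970 = K46.v1970 :=
  Lgr Lrot60 (Lpe (K46.f506674 IH) (Lpr_df (K51.f82661 IH) (Lpr_ff (K46.f506676 IH) (Lpn K46.v1970))))
theorem f506681 : Led Lsl_gf K51.v497 = K46.v1970 :=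
  Lgr Lrot47 (Lpe (K51.f453629 IH) (Lpe (K46.f82659 IH) (Lpr_ff (K46.f506676 IH) (Lpn K46.v1970))))
theorem f153667 : Led Lsl_gt (LP (LK LD1_c3 LD2_c7 LD3_c20)) = (LP (LK LD1_c1 LD2_c30 LD3_c10)) :=
  Lre_g IH (LK LD1_c3 LD2_c7 LD3_c20) (LK LD1_c1 LD2_c30 LD3_c10) Lrfl Lrfl
def v4321 : LQ := Led Lsl_ft (LP (LK LD1_c2 LD2_c19 LD3_c21))
theorem f632633 : Led Lsl_ft (LP (LK LD1_c2 LD2_c19 LD3_c21)) = v4321 :=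
  Lrfl
theorem f632636 : Led Lsl_ff (LP (LK LD1_c2 LD2_c19 LD3_c21)) = v4321 :=
  Lgr Lrot3 (Lpr_ft (f632633 IH) (Lpn v4321))
theorem f632638 : Led Lsl_dt (LP (LK LD1_c2 LD2_c19 LD3_c22)) = v4321 :=
  Lgr Lrot60 (Lpe (K51.f153665 IH) (Lpe (K59.f150477 IH) (Lpr_ff (f632636 IH) (Lpn v4321))))
theorem f649131 : Led Lsl_gt v4321 = K57.v5737 :=
  Lgr Lrot112 (Lpe (f632638 IH) (Lpe (K59.f153658 IH) (Lpe (f153667 IH) (Lpr_ef (K51.f623810 IH) (Lpe (K51.f623809 IH) (Lpr_gf (f506681 IH) (Lpe (f506680 IH) (Lpe (K46.f506682 IH) (Lpe (K57.f91448 IH) (Lpr_dt (K57.f649129 IH) (Lpn K57.v5737)))))))))))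
theorem f435284 : Led Lsl_bt (LP (LK LD1_c2 LD2_c19 LD3_c21)) = (LP (LK LD1_c1 LD2_c6 LD3_c53)) :=
  Lre_b IH (LK LD1_c2 LD2_c19 LD3_c21) (LK LD1_c1 LD2_c6 LD3_c53) Lrfl Lrfl
theorem f632637 : Led Lsl_bt (LP (LK LD1_c2 LD2_c19 LD3_c35)) = v4321 :=
  Lgr Lrot35 (Lpe (K7.f153696 IH) (Lpe (f435284 IH) (Lpr_ff (f632636 IH) (Lpn v4321))))
theorem f62376 : Led Lsl_bt (LP (LK LD1_c1 LD2_c36 LD3_c22)) = (LP (LK LD1_c0 LD2_c44 LD3_c42)) :=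
  Lre_b IH (LK LD1_c1 LD2_c36 LD3_c22) (LK LD1_c0 LD2_c44 LD3_c42) Lrfl Lrfl
theorem f62595 : Led Lsl_gt (LP (LK LD1_c6 LD2_c43 LD3_c47)) = (LP (LK LD1_c3 LD2_c19 LD3_c59)) :=
  Lre_g IH (LK LD1_c6 LD2_c43 LD3_c47) (LK LD1_c3 LD2_c19 LD3_c59) Lrfl Lrfl
theorem f766744 : Led Lsl_cf (LP (LK LD1_c6 LD2_c43 LD3_c47)) = v18391 :=
  Lgr Lrot160 (Lpr_gt (f62595 IH) (Lpe (K5.f62378 IH) (Lpr_bt (f62376 IH) (Lpr_gt (K16.f62598 IH) (Lpe (K32.f435291 IH) (Lpr_gt (K16.f435287 IH) (Lpe (K32.f150515 IH) (Lpr_bt (f632637 IH) (Lpr_gt (f649131 IH) (Lpr_bf (f766741 IH) (Lpn v18391)))))))))))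
theorem f766746 : Led Lsl_dt (LP (LK LD1_c6 LD2_c43 LD3_c47)) = (LP (LK LD1_c12 LD2_c52 LD3_c25)) :=
  Lre_d IH (LK LD1_c6 LD2_c43 LD3_c47) (LK LD1_c12 LD2_c52 LD3_c25) Lrfl Lrfl
theorem f780114 : Led Lsl_cf (LP (LK LD1_c22 LD2_c1 LD3_c16)) = (LP (LK LD1_c12 LD2_c52 LD3_c25)) :=
  Lgr Lrot161 (Lpr_dt (f780113 IH) (Lpr_ct (f780112 IH) (Lpe (f780110 IH) (Lpr_ff (f780101 IH) (Lpe (f649620 IH) (Lpr_ct (K52.f649117 IH) (Lpr_dt (f766740 IH) (Lpe (f766744 IH) (Lpr_dt (f766746 IH) (Lpn (LP (LK LD1_c12 LD2_c52 LD3_c25))))))))))))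
theorem f780115 : Led Lsl_ct (LP (LK LD1_c12 LD2_c52 LD3_c25)) = (LP (LK LD1_c22 LD2_c1 LD3_c16)) :=
  Leop (Lpr_cf (f780114 IH) (Lpn (LP (LK LD1_c12 LD2_c52 LD3_c25))))
theorem seed_1446 : LEOK LG_c (LK LD1_c12 LD2_c52 LD3_c25) :=
  Leoe_c (LK LD1_c12 LD2_c52 LD3_c25) (f780115 IH)
theorem f57474 : Led Lsl_dt (LP (LK LD1_c6 LD2_c43 LD3_c33)) = (LP (LK LD1_c12 LD2_c51 LD3_c57)) :=
  Lre_d IH (LK LD1_c6 LD2_c43 LD3_c33) (LK LD1_c12 LD2_c51 LD3_c57) Lrfl Lrfl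
theorem f649067 : Led Lsl_ft (LP (LK LD1_c6 LD2_c29 LD3_c9)) = (LP (LK LD1_c12 LD2_c28 LD3_c41)) :=
  Lre_f IH (LK LD1_c6 LD2_c29 LD3_c9) (LK LD1_c12 LD2_c28 LD3_c41) Lrfl Lrfl
theorem f766193 : Led Lsl_at (LP (LK LD1_c12 LD2_c28 LD3_c41)) = (LP (LK LD1_c21 LD2_c35 LD3_c25)) :=
  Lre_a IH (LK LD1_c12 LD2_c28 LD3_c41) (LK LD1_c21 LD2_c35 LD3_c25) Lrfl Lrfl
theorem f780118 : Led Lsl_ct (LP (LK LD1_c12 LD2_c51 LD3_c57)) = (LP (LK LD1_c21 LD2_c35 LD3_c25)) :=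
  Lgr Lrot98 (Lpe (f57474 IH) (Lpe (f780112 IH) (Lpe (f780113 IH) (Lpr_cf (f780114 IH) (Lpe (f766746 IH) (Lpr_cf (f766744 IH) (Lpe (f766740 IH) (Lpr_ft (f649067 IH) (Lpr_at (f766193 IH) (Lpn (LP (LK LD1_c21 LD2_c35 LD3_c25))))))))))))
theorem f766192 : Led Lsl_at (LP (LK LD1_c21 LD2_c35 LD3_c25)) = (LP (LK LD1_c12 LD2_c28 LD3_c41)) :=
  Lre_a IH (LK LD1_c21 LD2_c35 LD3_c25) (LK LD1_c12 LD2_c28 LD3_c41) Lrfl Lrfl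
theorem f766190 : Led Lsl_ct (LP (LK LD1_c12 LD2_c28 LD3_c41)) = (LP (LK LD1_c21 LD2_c35 LD3_c28)) :=
  Lre_c IH (LK LD1_c12 LD2_c28 LD3_c41) (LK LD1_c21 LD2_c35 LD3_c28) Lrfl Lrfl
theorem f780124 : Led Lsl_af (LP (LK LD1_c12 LD2_c51 LD3_c57)) = (LP (LK LD1_c21 LD2_c35 LD3_c28)) :=
  Lgr Lrot68 (Lpr_ct (f780118 IH) (Lpr_at (f766192 IH) (Lpr_ct (f766190 IH) (Lpn (LP (LK LD1_c21 LD2_c35 LD3_c28))))))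
theorem f649628 : Led Lsl_ft (LP (LK LD1_c12 LD2_c28 LD3_c36)) = (LP (LK LD1_c21 LD2_c35 LD3_c28)) :=
  Lre_f IH (LK LD1_c12 LD2_c28 LD3_c36) (LK LD1_c21 LD2_c35 LD3_c28) Lrfl Lrfl
theorem f780179 : Led Lsl_gf (LP (LK LD1_c12 LD2_c51 LD3_c57)) = (LP (LK LD1_c12 LD2_c4 LD3_c47)) :=
  Lgr Lrot76 (Lpr_af (f780124 IH) (Lpe (f649628 IH) (Lpe (K51.f708819 IH) (Lpn (LP (LK LD1_c12 LD2_c4 LD3_c47))))))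
theorem f652548 : Led Lsl_dt (LP (LK LD1_c12 LD2_c51 LD3_c57)) = (LP (LK LD1_c6 LD2_c43 LD3_c33)) :=
  Lre_d IH (LK LD1_c12 LD2_c51 LD3_c57) (LK LD1_c6 LD2_c43 LD3_c33) Lrfl Lrfl
theorem f703226 : Led Lsl_ff (LP (LK LD1_c4 LD2_c44 LD3_c21)) = K58.v13478 :=
  Lgr Lrot3 (Lpr_ft (K58.f703225 IH) (Lpn K58.v13478))
theorem f709276 : Led Lsl_at (LP (LK LD1_c12 LD2_c51 LD3_c26)) = K58.v13478 :=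
  Lgr Lrot66 (Lpr_ff (K51.f709274 IH) (Lpe (K51.f703217 IH) (Lpr_ff (f703226 IH) (Lpn K58.v13478))))
theorem f709427 : Led Lsl_gt (LP (LK LD1_c6 LD2_c12 LD3_c51)) = (LP (LK LD1_c6 LD2_c43 LD3_c42)) :=
  Lgr Lrot46 (Lpe (K51.f708816 IH) (Lpq (K51.f709364 IH) (Lpe (K51.f709274 IH) (Lpr_at (f709276 IH) (Lpq (K58.f709399 IH) (Lpn (LP (LK LD1_c6 LD2_c43 LD3_c42))))))))
theorem f62384 : Led Lsl_ft (LP (LK LD1_c1 LD2_c36 LD3_c22)) = (LP (LK LD1_c3 LD2_c19 LD3_c60)) :=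
  Lre_f IH (LK LD1_c1 LD2_c36 LD3_c22) (LK LD1_c3 LD2_c19 LD3_c60) Lrfl Lrfl
theorem f652500 : Led Lsl_at (LP (LK LD1_c3 LD2_c19 LD3_c60)) = K46.v6268 :=
  Lgr Lrot66 (Lpe (f62384 IH) (Lpe (K51.f62351 IH) (Lpr_ff (K59.f652495 IH) (Lpn K46.v6268))))
theorem f652509 : Led Lsl_gt (LP (LK LD1_c3 LD2_c19 LD3_c57)) = K46.v6268 :=
  Lgr Lrot46 (Lpe (K58.f62386 IH) (Lpr_ft (f62384 IH) (Lpr_at (f652500 IH) (Lpn K46.v6268))))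
theorem f144016 : Led Lsl_ct (LP (LK LD1_c1 LD2_c36 LD3_c16)) = (LP (LK LD1_c3 LD2_c19 LD3_c44)) :=
  Lre_c IH (LK LD1_c1 LD2_c36 LD3_c16) (LK LD1_c3 LD2_c19 LD3_c44) Lrfl Lrfl
theorem f652466 : Led Lsl_cf K50.v2136 = K50.v6266 :=
  Lgr Lrot108 (Lpe (K50.f509170 IH) (Lpr_ct (f144016 IH) (Lpr_ft (K50.f652464 IH) (Lpn K50.v6266))))
theorem f780086 : Led Lsl_df K50.v6266 = v19504 :=
  Lgr Lrot78 (Lpe (K50.f652467 IH) (Lpr_dt (f437798 IH) (Lpr_ft (f780084 IH) (Lpn v19504))))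
theorem f780181 : Led Lsl_gt (LP (LK LD1_c6 LD2_c43 LD3_c33)) = v19504 :=
  Lgr Lrot49 (Lpe (f652548 IH) (Lpr_gf (f780179 IH) (Lpe (K51.f415354 IH) (Lpr_gt (f709427 IH) (Lpr_dt (K58.f103528 IH) (Lpr_gt (f652509 IH) (Lpe (K59.f652494 IH) (Lpr_cf (f652466 IH) (Lpr_df (f780086 IH) (Lpn v19504))))))))))
theorem f649682 : Led Lsl_ft (LP (LK LD1_c21 LD2_c35 LD3_c25)) = (LP (LK LD1_c12 LD2_c28 LD3_c34)) :=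
  Lre_f IH (LK LD1_c21 LD2_c35 LD3_c25) (LK LD1_c12 LD2_c28 LD3_c34) Lrfl Lrfl
theorem f780129 : Led Lsl_ff (LP (LK LD1_c12 LD2_c51 LD3_c57)) = (LP (LK LD1_c9 LD2_c21 LD3_c25)) :=
  Lgr Lrot23 (Lpr_ct (f780118 IH) (Lpr_ft (f649682 IH) (Lpr_ct (K52.f707939 IH) (Lpn (LP (LK LD1_c9 LD2_c21 LD3_c25))))))
theorem f780136 : Led Lsl_ft (LP (LK LD1_c6 LD2_c43 LD3_c33)) = (LP (LK LD1_c12 LD2_c51 LD3_c23)) :=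
  Lgr Lrot54 (Lpe (f652548 IH) (Lpr_ff (f780129 IH) (Lpr_df (f437817 IH) (Lpn (LP (LK LD1_c12 LD2_c51 LD3_c23))))))
theorem f707943 : Led Lsl_af (LP (LK LD1_c6 LD2_c43 LD3_c34)) = (LP (LK LD1_c12 LD2_c51 LD3_c23)) :=
  Lgr Lrot0 (Lpr_at (f707941 IH) (Lpn (LP (LK LD1_c12 LD2_c51 LD3_c23))))
theorem f780204 : Led Lsl_gf (LP (LK LD1_c6 LD2_c43 LD3_c34)) = v19504 :=
  Lgr Lrot76 (Lpr_af (f707943 IH) (Lpe (f780136 IH) (Lpr_gt (f780181 IH) (Lpn v19504))))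
theorem f649618 : Led Lsl_ct (LP (LK LD1_c6 LD2_c43 LD3_c34)) = (LP (LK LD1_c12 LD2_c51 LD3_c60)) :=
  Lre_c IH (LK LD1_c6 LD2_c43 LD3_c34) (LK LD1_c12 LD2_c51 LD3_c60) Lrfl Lrfl
theorem f780138 : Led Lsl_ft (LP (LK LD1_c12 LD2_c51 LD3_c57)) = (LP (LK LD1_c9 LD2_c21 LD3_c25)) :=
  Lgr Lrot48 (Lpr_ff (f780129 IH) (Lpn (LP (LK LD1_c9 LD2_c21 LD3_c25))))
theorem f780142 : Led Lsl_ff (LP (LK LD1_c6 LD2_c43 LD3_c33)) = (LP (LK LD1_c12 LD2_c51 LD3_c23)) :=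
  Lgr Lrot19 (Lpr_dt (f57474 IH) (Lpr_ft (f780138 IH) (Lpr_dt (f437814 IH) (Lpn (LP (LK LD1_c12 LD2_c51 LD3_c23))))))
theorem f57477 : Led Lsl_ct (LP (LK LD1_c6 LD2_c43 LD3_c33)) = (LP (LK LD1_c12 LD2_c51 LD3_c56)) :=
  Lre_c IH (LK LD1_c6 LD2_c43 LD3_c33) (LK LD1_c12 LD2_c51 LD3_c56) Lrfl Lrfl
theorem f437825 : Led Lsl_ct (LP (LK LD1_c22 LD2_c0 LD3_c7)) = (LP (LK LD1_c12 LD2_c51 LD3_c23)) :=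
  Lre_c IH (LK LD1_c22 LD2_c0 LD3_c7) (LK LD1_c12 LD2_c51 LD3_c23) Lrfl Lrfl
theorem f780147 : Led Lsl_ft (LP (LK LD1_c12 LD2_c51 LD3_c56)) = (LP (LK LD1_c22 LD2_c0 LD3_c7)) :=
  Lgr Lrot4 (Lpe (f57477 IH) (Lpr_ff (f780142 IH) (Lpe (f437825 IH) (Lpn (LP (LK LD1_c22 LD2_c0 LD3_c7))))))
theorem f649629 : Led Lsl_ct (LP (LK LD1_c12 LD2_c51 LD3_c60)) = (LP (LK LD1_c6 LD2_c43 LD3_c34)) :=
  Lre_c IH (LK LD1_c12 LD2_c51 LD3_c60) (LK LD1_c6 LD2_c43 LD3_c34) Lrfl Lrfl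
theorem f57355 : Led Lsl_ct (LP (LK LD1_c12 LD2_c51 LD3_c23)) = (LP (LK LD1_c22 LD2_c0 LD3_c7)) :=
  Lre_c IH (LK LD1_c12 LD2_c51 LD3_c23) (LK LD1_c22 LD2_c0 LD3_c7) Lrfl Lrfl
theorem f707946 : Led Lsl_af (LP (LK LD1_c12 LD2_c51 LD3_c60)) = (LP (LK LD1_c22 LD2_c0 LD3_c7)) :=
  Lgr Lrot68 (Lpr_ct (f649629 IH) (Lpr_at (f707941 IH) (Lpr_ct (f57355 IH) (Lpn (LP (LK LD1_c22 LD2_c0 LD3_c7))))))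
theorem f780092 : Led Lsl_ct (LP (LK LD1_c22 LD2_c0 LD3_c6)) = (LP (LK LD1_c12 LD2_c51 LD3_c22)) :=
  Lre_c IH (LK LD1_c22 LD2_c0 LD3_c6) (LK LD1_c12 LD2_c51 LD3_c22) Lrfl Lrfl
theorem f780097 : Led Lsl_ff (LP (LK LD1_c22 LD2_c0 LD3_c6)) = (LP (LK LD1_c12 LD2_c51 LD3_c60)) :=
  Lgr Lrot23 (Lpr_ct (f780092 IH) (Lpr_ft (f780090 IH) (Lpr_ct (f649618 IH) (Lpn (LP (LK LD1_c12 LD2_c51 LD3_c60))))))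
theorem f780151 : Led Lsl_af (LP (LK LD1_c12 LD2_c51 LD3_c56)) = (LP (LK LD1_c22 LD2_c0 LD3_c6)) :=
  Lgr Lrot45 (Lpr_ft (f780147 IH) (Lpe (f707946 IH) (Lpe (f780097 IH) (Lpn (LP (LK LD1_c22 LD2_c0 LD3_c6))))))
theorem f780121 : Led Lsl_gt (LP (LK LD1_c22 LD2_c1 LD3_c15)) = (LP (LK LD1_c12 LD2_c51 LD3_c56)) :=
  Lre_g IH (LK LD1_c22 LD2_c1 LD3_c15) (LK LD1_c12 LD2_c51 LD3_c56) Lrfl Lrfl
theorem f780172 : Led Lsl_gf (LP (LK LD1_c22 LD2_c1 LD3_c15)) = (LP (LK LD1_c12 LD2_c51 LD3_c60)) :=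
  Lgr Lrot47 (Lpr_gt (f780121 IH) (Lpr_af (f780151 IH) (Lpr_ff (f780097 IH) (Lpn (LP (LK LD1_c12 LD2_c51 LD3_c60))))))
theorem f435309 : Led Lsl_ct (LP (LK LD1_c3 LD2_c19 LD3_c52)) = (LP (LK LD1_c6 LD2_c43 LD3_c31)) :=
  Lre_c IH (LK LD1_c3 LD2_c19 LD3_c52) (LK LD1_c6 LD2_c43 LD3_c31) Lrfl Lrfl
theorem f780206 : Led Lsl_ct (LP (LK LD1_c22 LD2_c1 LD3_c15)) = (LP (LK LD1_c13 LD2_c1 LD3_c17)) :=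
  Lgr Lrot151 (Lpr_gf (f780172 IH) (Lpe (f649618 IH) (Lpr_gf (f780204 IH) (Lpe (f780086 IH) (Lpe (K50.f652473 IH) (Lpr_ct (f435309 IH) (Lpqs (K58.f771123 IH) (Lpe (K58.f653868 IH) (Lpr_ct (K58.f509748 IH) (Lpr_dt (K58.f111050 IH) (Lpn (LP (LK LD1_c13 LD2_c1 LD3_c17)))))))))))))
theorem f780207 : Led Lsl_ct (LP (LK LD1_c22 LD2_c1 LD3_c15)) = (LP (LK LD1_c13 LD2_c1 LD3_c17)) :=
  Leop (Lpe (f780206 IH) (Lpn (LP (LK LD1_c22 LD2_c1 LD3_c15))))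
theorem seed_1447 : LEOK LG_c (LK LD1_c22 LD2_c1 LD3_c15) :=
  Leoe_c (LK LD1_c22 LD2_c1 LD3_c15) (f780207 IH)
theorem f780099 : Led Lsl_df (LP (LK LD1_c12 LD2_c51 LD3_c22)) = (LP (LK LD1_c21 LD2_c35 LD3_c28)) :=
  Lgr Lrot78 (Lpr_ft (f780090 IH) (Lpe (f649620 IH) (Lpr_ft (f649628 IH) (Lpn (LP (LK LD1_c21 LD2_c35 LD3_c28))))))
theorem f57351 : Led Lsl_dt (LP (LK LD1_c6 LD2_c43 LD3_c36)) = (LP (LK LD1_c3 LD2_c19 LD3_c54)) :=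
  Lre_d IH (LK LD1_c6 LD2_c43 LD3_c36) (LK LD1_c3 LD2_c19 LD3_c54) Lrfl Lrfl
theorem f57494 : Led Lsl_dt (LP (LK LD1_c3 LD2_c19 LD3_c60)) = (LP (LK LD1_c1 LD2_c36 LD3_c23)) :=
  Lre_d IH (LK LD1_c3 LD2_c19 LD3_c60) (LK LD1_c1 LD2_c36 LD3_c23) Lrfl Lrfl
theorem f709406 : Led Lsl_gt K51.v13474 = (LP (LK LD1_c12 LD2_c51 LD3_c26)) :=
  Lgr Lrot46 (Lpe (K51.f703213 IH) (Lpr_ft (K58.f703225 IH) (Lpq (K58.f709399 IH) (Lpqs (K58.f709399 IH) (Lpe (K58.f709272 IH) (Lpn (LP (LK LD1_c12 LD2_c51 LD3_c26))))))))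
theorem f780232 : Led Lsl_gt (LP (LK LD1_c14 LD2_c23 LD3_c14)) = (LP (LK LD1_c21 LD2_c35 LD3_c28)) :=
  Lgr Lrot94 (Lpr_cf (K50.f703088 IH) (Lpq (K51.f708788 IH) (Lpr_gt (f709406 IH) (Lpr_dt (K51.f437843 IH) (Lpr_gt (K46.f652496 IH) (Lpr_dt (f57494 IH) (Lpe (K1.f57189 IH) (Lpe (f57351 IH) (Lpe (f780088 IH) (Lpr_df (f780099 IH) (Lpn (LP (LK LD1_c21 LD2_c35 LD3_c28)))))))))))))
theorem f780233 : Led Lsl_gt (LP (LK LD1_c14 LD2_c23 LD3_c14)) = (LP (LK LD1_c21 LD2_c35 LD3_c28)) :=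
  Leop (Lpe (f780232 IH) (Lpn (LP (LK LD1_c14 LD2_c23 LD3_c14))))
theorem seed_1448 : LEOK LG_g (LK LD1_c14 LD2_c23 LD3_c14) :=
  Leoe_g (LK LD1_c14 LD2_c23 LD3_c14) (f780233 IH)
theorem f707937 : Led Lsl_at (LP (LK LD1_c12 LD2_c28 LD3_c36)) = (LP (LK LD1_c9 LD2_c21 LD3_c25)) :=
  Lgr Lrot100 (Lpr_af (K52.f707935 IH) (Lpn (LP (LK LD1_c9 LD2_c21 LD3_c25))))
theorem f649627 : Led Lsl_ft (LP (LK LD1_c21 LD2_c35 LD3_c28)) = (LP (LK LD1_c12 LD2_c28 LD3_c36)) :=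
  Lre_f IH (LK LD1_c21 LD2_c35 LD3_c28) (LK LD1_c12 LD2_c28 LD3_c36) Lrfl Lrfl
theorem f780132 : Led Lsl_at (LP (LK LD1_c12 LD2_c51 LD3_c57)) = (LP (LK LD1_c21 LD2_c35 LD3_c28)) :=
  Lgr Lrot66 (Lpr_ff (f780129 IH) (Lpe (f707937 IH) (Lpe (f649627 IH) (Lpn (LP (LK LD1_c21 LD2_c35 LD3_c28))))))
theorem f780247 : Led Lsl_gf (LP (LK LD1_c14 LD2_c23 LD3_c14)) = (LP (LK LD1_c9 LD2_c21 LD3_c25)) :=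
  Lgr Lrot47 (Lpr_gt (f780232 IH) (Lpe (f780132 IH) (Lpr_ff (f780129 IH) (Lpn (LP (LK LD1_c9 LD2_c21 LD3_c25))))))
theorem f437826 : Led Lsl_ct (LP (LK LD1_c6 LD2_c43 LD3_c16)) = (LP (LK LD1_c12 LD2_c51 LD3_c24)) :=
  Lre_c IH (LK LD1_c6 LD2_c43 LD3_c16) (LK LD1_c12 LD2_c51 LD3_c24) Lrfl Lrfl
theorem f437827 : Led Lsl_gt (LP (LK LD1_c12 LD2_c51 LD3_c24)) = (LP (LK LD1_c22 LD2_c0 LD3_c9)) :=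
  Lre_g IH (LK LD1_c12 LD2_c51 LD3_c24) (LK LD1_c22 LD2_c0 LD3_c9) Lrfl Lrfl
theorem f780249 : Led Lsl_cf (LP (LK LD1_c22 LD2_c11 LD3_c20)) = (LP (LK LD1_c22 LD2_c0 LD3_c9)) :=
  Lgr Lrot99 (Lpr_df (K58.f768662 IH) (Lpe (K58.f143996 IH) (Lpe (f709406 IH) (Lpqs (K51.f708788 IH) (Lpe (K51.f703087 IH) (Lpr_gf (f780247 IH) (Lpr_df (f437817 IH) (Lpr_gt (f144015 IH) (Lpr_ct (f437826 IH) (Lpr_gt (f437827 IH) (Lpn (LP (LK LD1_c22 LD2_c0 LD3_c9)))))))))))))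
theorem f780250 : Led Lsl_ct (LP (LK LD1_c22 LD2_c0 LD3_c9)) = (LP (LK LD1_c22 LD2_c11 LD3_c20)) :=
  Leop (Lpr_cf (f780249 IH) (Lpn (LP (LK LD1_c22 LD2_c0 LD3_c9))))
theorem seed_1449 : LEOK LG_c (LK LD1_c22 LD2_c0 LD3_c9) :=
  Leoe_c (LK LD1_c22 LD2_c0 LD3_c9) (f780250 IH)
theorem f780251 : Led Lsl_ct (LP (LK LD1_c22 LD2_c11 LD3_c20)) = (LP (LK LD1_c22 LD2_c0 LD3_c9)) :=
  Lgr Lrot59 (Lpr_cf (f780249 IH) (Lpn (LP (LK LD1_c22 LD2_c0 LD3_c9))))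
theorem f130300 : Led Lsl_dt (LP (LK LD1_c13 LD2_c1 LD3_c17)) = (LP (LK LD1_c6 LD2_c49 LD3_c61)) :=
  Lre_d IH (LK LD1_c13 LD2_c1 LD3_c17) (LK LD1_c6 LD2_c49 LD3_c61) Lrfl Lrfl
def v3186 : LQ := Led Lsl_ct K50.v552
theorem f624560 : Led Lsl_ct K50.v552 = v3186 :=
  Lrfl
theorem f652563 : Led Lsl_ft v3186 = K58.v6283 :=
  Lgr Lrot4 (Lpe (f624560 IH) (Lpr_ff (K50.f509190 IH) (Lpr_cf (K58.f652561 IH) (Lpn K58.v6283))))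
theorem f652564 : Led Lsl_ff v3186 = K58.v6283 :=
  Lgr Lrot3 (Lpr_ft (f652563 IH) (Lpn K58.v6283))
def v6285 : LQ := Led Lsl_ft (LP (LK LD1_c3 LD2_c19 LD3_c55))
theorem f652571 : Led Lsl_ft (LP (LK LD1_c3 LD2_c19 LD3_c55)) = v6285 :=
  Lrfl
theorem f652574 : Led Lsl_ff (LP (LK LD1_c3 LD2_c19 LD3_c55)) = v6285 :=
  Lgr Lrot3 (Lpr_ft (f652571 IH) (Lpn v6285))
theorem f652576 : Led Lsl_at v3186 = v6285 :=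
  Lgr Lrot66 (Lpr_ff (f652564 IH) (Lpe (K58.f652559 IH) (Lpr_ff (f652574 IH) (Lpn v6285))))
theorem f768667 : Led Lsl_gt (LP (LK LD1_c6 LD2_c49 LD3_c61)) = v6285 :=
  Lgr Lrot46 (Lpr_gf (K58.f768666 IH) (Lpq (K58.f708294 IH) (Lpe (f652564 IH) (Lpr_at (f652576 IH) (Lpn v6285)))))
theorem f652573 : Led Lsl_cf K51.v2140 = v6285 :=
  Lgr Lrot108 (Lpe (K51.f509199 IH) (Lpr_ct (K58.f509178 IH) (Lpr_ft (f652571 IH) (Lpn v6285))))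
theorem f57203 : Led Lsl_dt (LP (LK LD1_c3 LD2_c19 LD3_c54)) = (LP (LK LD1_c6 LD2_c43 LD3_c36)) :=
  Lre_d IH (LK LD1_c3 LD2_c19 LD3_c54) (LK LD1_c6 LD2_c43 LD3_c36) Lrfl Lrfl
theorem f57373 : Led Lsl_ct (LP (LK LD1_c12 LD2_c52 LD3_c4)) = (LP (LK LD1_c6 LD2_c43 LD3_c36)) :=
  Lre_c IH (LK LD1_c12 LD2_c52 LD3_c4) (LK LD1_c6 LD2_c43 LD3_c36) Lrfl Lrfl
theorem f780254 : Led Lsl_gf (LP (LK LD1_c12 LD2_c52 LD3_c4)) = (LP (LK LD1_c22 LD2_c0 LD3_c9)) :=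
  Lgr Lrot104 (Lpr_ct (f57373 IH) (Lpe (f57203 IH) (Lpe (K58.f57170 IH) (Lpe (K51.f509171 IH) (Lpq (K51.f708283 IH) (Lpr_cf (f652573 IH) (Lpe (f768667 IH) (Lpe (f130300 IH) (Lpr_gt (K58.f130301 IH) (Lpr_ct (f780251 IH) (Lpn (LP (LK LD1_c22 LD2_c0 LD3_c9)))))))))))))
theorem f780255 : Led Lsl_gt (LP (LK LD1_c22 LD2_c0 LD3_c9)) = (LP (LK LD1_c12 LD2_c52 LD3_c4)) :=
  Leop (Lpr_gf (f780254 IH) (Lpn (LP (LK LD1_c22 LD2_c0 LD3_c9))))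
theorem seed_1450 : LEOK LG_g (LK LD1_c22 LD2_c0 LD3_c9) :=
  Leoe_g (LK LD1_c22 LD2_c0 LD3_c9) (f780255 IH)
def v19507 : LQ := Led Lsl_ft (LP (LK LD1_c6 LD2_c43 LD3_c18))
theorem f780272 : Led Lsl_ft (LP (LK LD1_c6 LD2_c43 LD3_c18)) = v19507 :=
  Lrfl
theorem f62573 : Led Lsl_gt (LP (LK LD1_c6 LD2_c43 LD3_c18)) = (LP (LK LD1_c12 LD2_c51 LD3_c27)) :=
  Lre_g IH (LK LD1_c6 LD2_c43 LD3_c18) (LK LD1_c12 LD2_c51 LD3_c27) Lrfl Lrfl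
theorem f62547 : Led Lsl_at (LP (LK LD1_c3 LD2_c19 LD3_c59)) = (LP (LK LD1_c6 LD2_c43 LD3_c18)) :=
  Lre_a IH (LK LD1_c3 LD2_c19 LD3_c59) (LK LD1_c6 LD2_c43 LD3_c18) Lrfl Lrfl
theorem f62404 : Led Lsl_ft (LP (LK LD1_c6 LD2_c43 LD3_c50)) = (LP (LK LD1_c3 LD2_c19 LD3_c59)) :=
  Lre_f IH (LK LD1_c6 LD2_c43 LD3_c50) (LK LD1_c3 LD2_c19 LD3_c59) Lrfl Lrfl
theorem f780273 : Led Lsl_af (LP (LK LD1_c6 LD2_c43 LD3_c50)) = v19507 :=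
  Lgr Lrot45 (Lpr_ft (f62404 IH) (Lpr_at (f62547 IH) (Lpr_ft (f780272 IH) (Lpn v19507))))
theorem f780276 : Led Lsl_gt (LP (LK LD1_c12 LD2_c51 LD3_c27)) = (LP (LK LD1_c6 LD2_c43 LD3_c50)) :=
  Lgr Lrot46 (Lpe (f62573 IH) (Lpr_ft (f780272 IH) (Lpe (f780273 IH) (Lpn (LP (LK LD1_c6 LD2_c43 LD3_c50))))))
theorem f780277 : Led Lsl_gt (LP (LK LD1_c12 LD2_c51 LD3_c27)) = (LP (LK LD1_c6 LD2_c43 LD3_c50)) :=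
  Leop (Lpe (f780276 IH) (Lpn (LP (LK LD1_c12 LD2_c51 LD3_c27))))
theorem seed_1451 : LEOK LG_g (LK LD1_c12 LD2_c51 LD3_c27) :=
  Leoe_g (LK LD1_c12 LD2_c51 LD3_c27) (f780277 IH)
def v19516 : LQ := Led Lsl_dt (LP (LK LD1_c6 LD2_c43 LD3_c24))
theorem f780318 : Led Lsl_dt (LP (LK LD1_c6 LD2_c43 LD3_c24)) = v19516 :=
  Lrfl
theorem f780322 : Led Lsl_ef (LP (LK LD1_c9 LD2_c21 LD3_c18)) = v19516 :=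
  Lgr Lrot73 (Lpr_dt (K51.f128739 IH) (Lpr_et (K51.f128725 IH) (Lpe (K5.f127073 IH) (Lpr_et (K3.f89769 IH) (Lpr_dt (f780318 IH) (Lpn v19516))))))
theorem f128722 : Led Lsl_dt (LP (LK LD1_c14 LD2_c25 LD3_c61)) = (LP (LK LD1_c7 LD2_c39 LD3_c30)) :=
  Lre_d IH (LK LD1_c14 LD2_c25 LD3_c61) (LK LD1_c7 LD2_c39 LD3_c30) Lrfl Lrfl
theorem f128723 : Led Lsl_bf (LP (LK LD1_c14 LD2_c25 LD3_c61)) = (LP (LK LD1_c9 LD2_c21 LD3_c18)) :=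
  Lgr Lrot93 (Lpr_dt (f128722 IH) (Lpr_bt (K28.f128716 IH) (Lpr_dt (K51.f127081 IH) (Lpn (LP (LK LD1_c9 LD2_c21 LD3_c18))))))
theorem f128732 : Led Lsl_et (LP (LK LD1_c14 LD2_c25 LD3_c61)) = (LP (LK LD1_c7 LD2_c39 LD3_c32)) :=
  Lre_e IH (LK LD1_c14 LD2_c25 LD3_c61) (LK LD1_c7 LD2_c39 LD3_c32) Lrfl Lrfl
theorem f780325 : Led Lsl_bt (LP (LK LD1_c7 LD2_c39 LD3_c32)) = v19516 :=
  Lgr Lrot119 (Lpe (f128732 IH) (Lpr_bf (f128723 IH) (Lpr_ef (f780322 IH) (Lpn v19516))))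
theorem f158558 : Led Lsl_ct (LP (LK LD1_c7 LD2_c39 LD3_c32)) = (LP (LK LD1_c14 LD2_c26 LD3_c5)) :=
  Lre_c IH (LK LD1_c7 LD2_c39 LD3_c32) (LK LD1_c14 LD2_c26 LD3_c5) Lrfl Lrfl
theorem f158559 : Led Lsl_gt (LP (LK LD1_c14 LD2_c26 LD3_c5)) = (LP (LK LD1_c24 LD2_c6 LD3_c3)) :=
  Lre_g IH (LK LD1_c14 LD2_c26 LD3_c5) (LK LD1_c24 LD2_c6 LD3_c3) Lrfl Lrfl
theorem f89775 : Led Lsl_et (LP (LK LD1_c6 LD2_c43 LD3_c24)) = (LP (LK LD1_c3 LD2_c19 LD3_c49)) :=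
  Lre_e IH (LK LD1_c6 LD2_c43 LD3_c24) (LK LD1_c3 LD2_c19 LD3_c49) Lrfl Lrfl
theorem f109824 : Led Lsl_et (LP (LK LD1_c0 LD2_c51 LD3_c53)) = (LP (LK LD1_c1 LD2_c50 LD3_c3)) :=
  Lre_e IH (LK LD1_c0 LD2_c51 LD3_c53) (LK LD1_c1 LD2_c50 LD3_c3) Lrfl Lrfl
theorem f438274 : Led Lsl_et (LP (LK LD1_c7 LD2_c32 LD3_c38)) = (LP (LK LD1_c3 LD2_c45 LD3_c55)) :=
  Lre_e IH (LK LD1_c7 LD2_c32 LD3_c38) (LK LD1_c3 LD2_c45 LD3_c55) Lrfl Lrfl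
theorem f438275 : Led Lsl_dt (LP (LK LD1_c7 LD2_c32 LD3_c38)) = (LP (LK LD1_c14 LD2_c13 LD3_c29)) :=
  Lre_d IH (LK LD1_c7 LD2_c32 LD3_c38) (LK LD1_c14 LD2_c13 LD3_c29) Lrfl Lrfl
theorem f780323 : Led Lsl_gt (LP (LK LD1_c14 LD2_c13 LD3_c29)) = v19516 :=
  Lgr Lrot112 (Lpe (f438275 IH) (Lpr_et (f438274 IH) (Lpe (K46.f85279 IH) (Lpe (f109824 IH) (Lpr_dt (K3.f104293 IH) (Lpe (K6.f135772 IH) (Lpr_df (K6.f135783 IH) (Lpr_gf (K5.f89778 IH) (Lpe (f89775 IH) (Lpr_dt (f780318 IH) (Lpn v19516)))))))))))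
theorem f478581 : Led Lsl_et (LP (LK LD1_c14 LD2_c13 LD3_c27)) = (LP (LK LD1_c7 LD2_c32 LD3_c36)) :=
  Lre_e IH (LK LD1_c14 LD2_c13 LD3_c27) (LK LD1_c7 LD2_c32 LD3_c36) Lrfl Lrfl
theorem f65944 : Led Lsl_et (LP (LK LD1_c3 LD2_c24 LD3_c34)) = (LP (LK LD1_c6 LD2_c51 LD3_c42)) :=
  Lre_e IH (LK LD1_c3 LD2_c24 LD3_c34) (LK LD1_c6 LD2_c51 LD3_c42) Lrfl Lrfl
theorem f15231 : Led Lsl_gt (LP (LK LD1_c22 LD2_c20 LD3_c1)) = (LP (LK LD1_c13 LD2_c8 LD3_c3)) :=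
  Lre_g IH (LK LD1_c22 LD2_c20 LD3_c1) (LK LD1_c13 LD2_c8 LD3_c3) Lrfl Lrfl
theorem f511658 : Led Lsl_dt (LP (LK LD1_c14 LD2_c13 LD3_c27)) = (LP (LK LD1_c22 LD2_c20 LD3_c1)) :=
  Lgr Lrot136 (Lpr_et (f478581 IH) (Lpr_gf (K46.f511656 IH) (Lpe (f65944 IH) (Lpr_dt (K5.f130193 IH) (Lpe (K6.f135860 IH) (Lpr_df (K6.f135882 IH) (Lpr_gf (K6.f136922 IH) (Lpe (K8.f15213 IH) (Lpr_dt (K52.f15218 IH) (Lpe (f15231 IH) (Lpn (LP (LK LD1_c22 LD2_c20 LD3_c1)))))))))))))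
theorem f511660 : Led Lsl_bt (LP (LK LD1_c7 LD2_c32 LD3_c38)) = (LP (LK LD1_c14 LD2_c13 LD3_c27)) :=
  Lre_b IH (LK LD1_c7 LD2_c32 LD3_c38) (LK LD1_c14 LD2_c13 LD3_c27) Lrfl Lrfl
theorem f511661 : Led Lsl_dt (LP (LK LD1_c14 LD2_c13 LD3_c29)) = (LP (LK LD1_c7 LD2_c32 LD3_c38)) :=
  Lre_d IH (LK LD1_c14 LD2_c13 LD3_c29) (LK LD1_c7 LD2_c32 LD3_c38) Lrfl Lrfl
theorem f511662 : Led Lsl_bf (LP (LK LD1_c14 LD2_c13 LD3_c29)) = (LP (LK LD1_c22 LD2_c20 LD3_c1)) :=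
  Lgr Lrot93 (Lpr_dt (f511661 IH) (Lpr_bt (f511660 IH) (Lpr_dt (f511658 IH) (Lpn (LP (LK LD1_c22 LD2_c20 LD3_c1))))))
theorem f486209 : Led Lsl_gt (LP (LK LD1_c24 LD2_c12 LD3_c19)) = (LP (LK LD1_c14 LD2_c31 LD3_c26)) :=
  Lre_g IH (LK LD1_c24 LD2_c12 LD3_c19) (LK LD1_c14 LD2_c31 LD3_c26) Lrfl Lrfl
theorem f476983 : Led Lsl_ct (LP (LK LD1_c14 LD2_c30 LD3_c53)) = (LP (LK LD1_c24 LD2_c12 LD3_c19)) :=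
  Lre_c IH (LK LD1_c14 LD2_c30 LD3_c53) (LK LD1_c24 LD2_c12 LD3_c19) Lrfl Lrfl
theorem f136703 : Led Lsl_gt (LP (LK LD1_c7 LD2_c42 LD3_c19)) = (LP (LK LD1_c14 LD2_c30 LD3_c53)) :=
  Lre_g IH (LK LD1_c7 LD2_c42 LD3_c19) (LK LD1_c14 LD2_c30 LD3_c53) Lrfl Lrfl
theorem f476981 : Led Lsl_bt (LP (LK LD1_c14 LD2_c31 LD3_c17)) = (LP (LK LD1_c7 LD2_c42 LD3_c19)) :=
  Lre_b IH (LK LD1_c14 LD2_c31 LD3_c17) (LK LD1_c7 LD2_c42 LD3_c19) Lrfl Lrfl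
theorem f780328 : Led Lsl_cf (LP (LK LD1_c24 LD2_c6 LD3_c3)) = (LP (LK LD1_c14 LD2_c31 LD3_c17)) :=
  Lgr Lrot58 (Lpe (f158559 IH) (Lpe (f158558 IH) (Lpr_bt (f780325 IH) (Lpe (f780323 IH) (Lpr_bf (f511662 IH) (Lpr_ct (K48.f486200 IH) (Lpe (f486209 IH) (Lpe (f476983 IH) (Lpe (f136703 IH) (Lpe (f476981 IH) (Lpn (LP (LK LD1_c14 LD2_c31 LD3_c17)))))))))))))
theorem f780329 : Led Lsl_ct (LP (LK LD1_c14 LD2_c31 LD3_c17)) = (LP (LK LD1_c24 LD2_c6 LD3_c3)) :=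
  Leop (Lpr_cf (f780328 IH) (Lpn (LP (LK LD1_c14 LD2_c31 LD3_c17))))
theorem seed_1452 : LEOK LG_c (LK LD1_c14 LD2_c31 LD3_c17) :=
  Leoe_c (LK LD1_c14 LD2_c31 LD3_c17) (f780329 IH)
def v19527 : LQ := Led Lsl_at (LP (LK LD1_c6 LD2_c43 LD3_c30))
theorem f780446 : Led Lsl_at (LP (LK LD1_c6 LD2_c43 LD3_c30)) = v19527 :=
  Lrfl
theorem f649656 : Led Lsl_dt (LP (LK LD1_c6 LD2_c43 LD3_c30)) = (LP (LK LD1_c3 LD2_c19 LD3_c51)) :=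
  Lre_d IH (LK LD1_c6 LD2_c43 LD3_c30) (LK LD1_c3 LD2_c19 LD3_c51) Lrfl Lrfl
theorem f57212 : Led Lsl_dt (LP (LK LD1_c6 LD2_c43 LD3_c15)) = (LP (LK LD1_c12 LD2_c51 LD3_c21)) :=
  Lre_d IH (LK LD1_c6 LD2_c43 LD3_c15) (LK LD1_c12 LD2_c51 LD3_c21) Lrfl Lrfl
theorem f775281 : Led Lsl_ff (LP (LK LD1_c6 LD2_c43 LD3_c30)) = (LP (LK LD1_c12 LD2_c51 LD3_c21)) :=
  Lgr Lrot19 (Lpr_dt (f649656 IH) (Lpr_ft (K59.f652539 IH) (Lpqs (K59.f775276 IH) (Lpr_dt (f57212 IH) (Lpn (LP (LK LD1_c12 LD2_c51 LD3_c21)))))))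
theorem f509162 : Led Lsl_dt (LP (LK LD1_c12 LD2_c51 LD3_c21)) = (LP (LK LD1_c6 LD2_c43 LD3_c15)) :=
  Lre_d IH (LK LD1_c12 LD2_c51 LD3_c21) (LK LD1_c6 LD2_c43 LD3_c15) Lrfl Lrfl
theorem f453959 : Led Lsl_dt (LP (LK LD1_c3 LD2_c19 LD3_c52)) = (LP (LK LD1_c6 LD2_c43 LD3_c32)) :=
  Lre_d IH (LK LD1_c3 LD2_c19 LD3_c52) (LK LD1_c6 LD2_c43 LD3_c32) Lrfl Lrfl
theorem f775303 : Led Lsl_af (LP (LK LD1_c12 LD2_c51 LD3_c21)) = (LP (LK LD1_c6 LD2_c43 LD3_c32)) :=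
  Lgr Lrot117 (Lpr_dt (f509162 IH) (Lpq (K59.f775276 IH) (Lpe (K59.f652540 IH) (Lpr_dt (f453959 IH) (Lpn (LP (LK LD1_c6 LD2_c43 LD3_c32)))))))
theorem f780449 : Led Lsl_ff (LP (LK LD1_c6 LD2_c43 LD3_c32)) = v19527 :=
  Lgr Lrot30 (Lpe (f775303 IH) (Lpe (f775281 IH) (Lpr_at (f780446 IH) (Lpn v19527))))
theorem f780451 : Led Lsl_ft (LP (LK LD1_c6 LD2_c43 LD3_c32)) = v19527 :=
  Lgr Lrot48 (Lpr_ff (f780449 IH) (Lpn v19527))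
theorem f780447 : Led Lsl_af (LP (LK LD1_c6 LD2_c43 LD3_c30)) = v19527 :=
  Lgr Lrot0 (Lpr_at (f780446 IH) (Lpn v19527))
theorem f652480 : Led Lsl_gt (LP (LK LD1_c12 LD2_c51 LD3_c50)) = (LP (LK LD1_c6 LD2_c43 LD3_c30)) :=
  Lre_g IH (LK LD1_c12 LD2_c51 LD3_c50) (LK LD1_c6 LD2_c43 LD3_c30) Lrfl Lrfl
theorem f780452 : Led Lsl_gt (LP (LK LD1_c6 LD2_c43 LD3_c32)) = (LP (LK LD1_c12 LD2_c51 LD3_c50)) :=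
  Lgr Lrot5 (Lpr_ft (f780451 IH) (Lpe (f780447 IH) (Lpe (f652480 IH) (Lpn (LP (LK LD1_c12 LD2_c51 LD3_c50))))))
theorem f780453 : Led Lsl_gt (LP (LK LD1_c6 LD2_c43 LD3_c32)) = (LP (LK LD1_c12 LD2_c51 LD3_c50)) :=
  Leop (Lpe (f780452 IH) (Lpn (LP (LK LD1_c6 LD2_c43 LD3_c32))))
theorem seed_1453 : LEOK LG_g (LK LD1_c6 LD2_c43 LD3_c32) :=
  Leoe_g (LK LD1_c6 LD2_c43 LD3_c32) (f780453 IH)
def v19546 : LQ := Led Lsl_ft (LP (LK LD1_c6 LD2_c43 LD3_c41))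
theorem f780564 : Led Lsl_ft (LP (LK LD1_c6 LD2_c43 LD3_c41)) = v19546 :=
  Lrfl
theorem f438365 : Led Lsl_gt (LP (LK LD1_c6 LD2_c43 LD3_c41)) = (LP (LK LD1_c12 LD2_c52 LD3_c12)) :=
  Lre_g IH (LK LD1_c6 LD2_c43 LD3_c41) (LK LD1_c12 LD2_c52 LD3_c12) Lrfl Lrfl
theorem f780565 : Led Lsl_af (LP (LK LD1_c6 LD2_c43 LD3_c44)) = v19546 :=
  Lgr Lrot45 (Lpr_ft (K59.f709384 IH) (Lpr_at (K59.f709431 IH) (Lpr_ft (f780564 IH) (Lpn v19546))))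
theorem f780568 : Led Lsl_gt (LP (LK LD1_c12 LD2_c52 LD3_c12)) = (LP (LK LD1_c6 LD2_c43 LD3_c44)) :=
  Lgr Lrot46 (Lpe (f438365 IH) (Lpr_ft (f780564 IH) (Lpe (f780565 IH) (Lpn (LP (LK LD1_c6 LD2_c43 LD3_c44))))))
theorem f780569 : Led Lsl_gt (LP (LK LD1_c12 LD2_c52 LD3_c12)) = (LP (LK LD1_c6 LD2_c43 LD3_c44)) :=
  Leop (Lpe (f780568 IH) (Lpn (LP (LK LD1_c12 LD2_c52 LD3_c12))))
theorem seed_1454 : LEOK LG_g (LK LD1_c12 LD2_c52 LD3_c12) :=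
  Leoe_g (LK LD1_c12 LD2_c52 LD3_c12) (f780569 IH)
theorem f780567 : Led Lsl_ff (LP (LK LD1_c6 LD2_c43 LD3_c41)) = v19546 :=
  Lgr Lrot3 (Lpr_ft (f780564 IH) (Lpn v19546))
theorem f652510 : Led Lsl_ct (LP (LK LD1_c6 LD2_c43 LD3_c41)) = (LP (LK LD1_c3 LD2_c19 LD3_c57)) :=
  Lre_c IH (LK LD1_c6 LD2_c43 LD3_c41) (LK LD1_c3 LD2_c19 LD3_c57) Lrfl Lrfl
theorem f780585 : Led Lsl_ct K58.v6293 = v19546 :=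
  Lgr Lrot40 (Lpe (K58.f652611 IH) (Lpe (f652510 IH) (Lpr_ff (f780567 IH) (Lpn v19546))))
theorem f509747 : Led Lsl_ct (LP (LK LD1_c6 LD2_c49 LD3_c61)) = (LP (LK LD1_c3 LD2_c23 LD3_c21)) :=
  Lre_c IH (LK LD1_c6 LD2_c49 LD3_c61) (LK LD1_c3 LD2_c23 LD3_c21) Lrfl Lrfl
theorem f83913 : Led Lsl_dt (LP (LK LD1_c3 LD2_c23 LD3_c21)) = (LP (LK LD1_c6 LD2_c50 LD3_c0)) :=
  Lre_d IH (LK LD1_c3 LD2_c23 LD3_c21) (LK LD1_c6 LD2_c50 LD3_c0) Lrfl Lrfl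
theorem f83883 : Led Lsl_ct (LP (LK LD1_c13 LD2_c1 LD3_c18)) = (LP (LK LD1_c6 LD2_c50 LD3_c0)) :=
  Lre_c IH (LK LD1_c13 LD2_c1 LD3_c18) (LK LD1_c6 LD2_c50 LD3_c0) Lrfl Lrfl
theorem f780587 : Led Lsl_gf (LP (LK LD1_c13 LD2_c1 LD3_c18)) = v19546 :=
  Lgr Lrot104 (Lpr_ct (f83883 IH) (Lpe (f83913 IH) (Lpe (f509747 IH) (Lpr_gf (K58.f768666 IH) (Lpe (K58.f671899 IH) (Lpe (K51.f509164 IH) (Lpe (f57494 IH) (Lpr_gt (K57.f652484 IH) (Lpq (K58.f709398 IH) (Lpr_ct (f780585 IH) (Lpn v19546)))))))))))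
theorem f780588 : Led Lsl_gt (LP (LK LD1_c13 LD2_c1 LD3_c18)) = (LP (LK LD1_c12 LD2_c51 LD3_c25)) :=
  Lgr Lrot46 (Lpr_gf (f780587 IH) (Lpe (f780567 IH) (Lpe (K59.f709429 IH) (Lpn (LP (LK LD1_c12 LD2_c51 LD3_c25))))))
theorem f780589 : Led Lsl_gt (LP (LK LD1_c13 LD2_c1 LD3_c18)) = (LP (LK LD1_c12 LD2_c51 LD3_c25)) :=
  Leop (Lpe (f780588 IH) (Lpn (LP (LK LD1_c13 LD2_c1 LD3_c18))))
theorem seed_1455 : LEOK LG_g (LK LD1_c13 LD2_c1 LD3_c18) :=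
  Leoe_g (LK LD1_c13 LD2_c1 LD3_c18) (f780589 IH)
theorem f648493 : Led Lsl_bt (LP (LK LD1_c12 LD2_c24 LD3_c19)) = (LP (LK LD1_c6 LD2_c26 LD3_c8)) :=
  Lre_b IH (LK LD1_c12 LD2_c24 LD3_c19) (LK LD1_c6 LD2_c26 LD3_c8) Lrfl Lrfl
theorem f648494 : Led Lsl_ct (LP (LK LD1_c21 LD2_c31 LD3_c4)) = (LP (LK LD1_c12 LD2_c24 LD3_c19)) :=
  Lre_c IH (LK LD1_c21 LD2_c31 LD3_c4) (LK LD1_c12 LD2_c24 LD3_c19) Lrfl Lrfl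
theorem f780586 : Led Lsl_bf (LP (LK LD1_c21 LD2_c31 LD3_c4)) = v19546 :=
  Lgr Lrot90 (Lpr_ct (f648494 IH) (Lpr_bt (f648493 IH) (Lpr_ct (K57.f764885 IH) (Lpe (K57.f764889 IH) (Lpq (K58.f709398 IH) (Lpr_ct (f780585 IH) (Lpn v19546)))))))
theorem f652609 : Led Lsl_bt (LP (LK LD1_c12 LD2_c52 LD3_c14)) = (LP (LK LD1_c6 LD2_c43 LD3_c41)) :=
  Lre_b IH (LK LD1_c12 LD2_c52 LD3_c14) (LK LD1_c6 LD2_c43 LD3_c41) Lrfl Lrfl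
theorem f780591 : Led Lsl_ft (LP (LK LD1_c21 LD2_c31 LD3_c4)) = (LP (LK LD1_c12 LD2_c52 LD3_c14)) :=
  Lgr Lrot75 (Lpr_bf (f780586 IH) (Lpe (f780564 IH) (Lpe (f652609 IH) (Lpn (LP (LK LD1_c12 LD2_c52 LD3_c14))))))
theorem f780592 : Led Lsl_ft (LP (LK LD1_c21 LD2_c31 LD3_c4)) = (LP (LK LD1_c12 LD2_c52 LD3_c14)) :=
  Leop (Lpe (f780591 IH) (Lpn (LP (LK LD1_c21 LD2_c31 LD3_c4))))
theorem seed_1456 : LEOK LG_f (LK LD1_c21 LD2_c31 LD3_c4) :=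
  Leoe_f (LK LD1_c21 LD2_c31 LD3_c4) (f780592 IH)
theorem f780590 : Led Lsl_bt (LP (LK LD1_c21 LD2_c31 LD3_c4)) = v19546 :=
  Lgr Lrot127 (Lpr_bf (f780586 IH) (Lpn v19546))
theorem f764887 : Led Lsl_gt (LP (LK LD1_c21 LD2_c31 LD3_c2)) = (LP (LK LD1_c12 LD2_c24 LD3_c19)) :=
  Lre_g IH (LK LD1_c21 LD2_c31 LD3_c2) (LK LD1_c12 LD2_c24 LD3_c19) Lrfl Lrfl
theorem f780598 : Led Lsl_ct (LP (LK LD1_c30 LD2_c3 LD3_c27)) = (LP (LK LD1_c21 LD2_c31 LD3_c2)) :=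
  Lre_c IH (LK LD1_c30 LD2_c3 LD3_c27) (LK LD1_c21 LD2_c31 LD3_c2) Lrfl Lrfl
theorem f62591 : Led Lsl_gt (LP (LK LD1_c3 LD2_c19 LD3_c59)) = (LP (LK LD1_c6 LD2_c43 LD3_c46)) :=
  Lre_g IH (LK LD1_c3 LD2_c19 LD3_c59) (LK LD1_c6 LD2_c43 LD3_c46) Lrfl Lrfl
theorem f708818 : Led Lsl_ct (LP (LK LD1_c6 LD2_c43 LD3_c46)) = (LP (LK LD1_c12 LD2_c52 LD3_c22)) :=
  Lre_c IH (LK LD1_c6 LD2_c43 LD3_c46) (LK LD1_c12 LD2_c52 LD3_c22) Lrfl Lrfl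
theorem f780184 : Led Lsl_df (LP (LK LD1_c21 LD2_c35 LD3_c25)) = (LP (LK LD1_c12 LD2_c52 LD3_c22)) :=
  Lgr Lrot162 (Lpe (f780118 IH) (Lpr_gf (f780179 IH) (Lpe (K51.f415354 IH) (Lpe (K51.f708816 IH) (Lpr_dt (K51.f104301 IH) (Lpr_gt (K51.f57235 IH) (Lpr_ct (K5.f62378 IH) (Lpr_gt (f62591 IH) (Lpr_ct (f708818 IH) (Lpn (LP (LK LD1_c12 LD2_c52 LD3_c22))))))))))))
theorem f780127 : Led Lsl_cf (LP (LK LD1_c12 LD2_c51 LD3_c57)) = (LP (LK LD1_c21 LD2_c35 LD3_c25)) :=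
  Lgr Lrot11 (Lpr_ct (f780118 IH) (Lpn (LP (LK LD1_c21 LD2_c35 LD3_c25))))
theorem f780193 : Led Lsl_gt (LP (LK LD1_c6 LD2_c50 LD3_c0)) = (LP (LK LD1_c12 LD2_c52 LD3_c22)) :=
  Lgr Lrot49 (Lpe (f83913 IH) (Lpr_gf (K58.f653868 IH) (Lpq (K58.f771123 IH) (Lpe (f435309 IH) (Lpr_gt (K50.f57526 IH) (Lpr_dt (f57328 IH) (Lpr_gt (f57473 IH) (Lpr_dt (f57474 IH) (Lpr_cf (f780127 IH) (Lpr_df (f780184 IH) (Lpn (LP (LK LD1_c12 LD2_c52 LD3_c22)))))))))))))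
theorem f780195 : Led Lsl_bt (LP (LK LD1_c6 LD2_c43 LD3_c46)) = (LP (LK LD1_c12 LD2_c52 LD3_c21)) :=
  Lre_b IH (LK LD1_c6 LD2_c43 LD3_c46) (LK LD1_c12 LD2_c52 LD3_c21) Lrfl Lrfl
theorem f780196 : Led Lsl_gt (LP (LK LD1_c12 LD2_c52 LD3_c21)) = (LP (LK LD1_c22 LD2_c2 LD3_c7)) :=
  Lre_g IH (LK LD1_c12 LD2_c52 LD3_c21) (LK LD1_c22 LD2_c2 LD3_c7) Lrfl Lrfl
theorem f780599 : Led Lsl_bt (LP (LK LD1_c30 LD2_c3 LD3_c27)) = (LP (LK LD1_c22 LD2_c2 LD3_c7)) :=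
  Lgr Lrot92 (Lpr_ct (f780598 IH) (Lpr_gt (f764887 IH) (Lpe (f648494 IH) (Lpr_bt (f780590 IH) (Lpe (f780587 IH) (Lpr_ct (f83883 IH) (Lpr_gt (f780193 IH) (Lpe (f708818 IH) (Lpr_bt (f780195 IH) (Lpr_gt (f780196 IH) (Lpn (LP (LK LD1_c22 LD2_c2 LD3_c7)))))))))))))
theorem f780600 : Led Lsl_bt (LP (LK LD1_c30 LD2_c3 LD3_c27)) = (LP (LK LD1_c22 LD2_c2 LD3_c7)) :=
  Leop (Lpe (f780599 IH) (Lpn (LP (LK LD1_c30 LD2_c3 LD3_c27))))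
theorem seed_1457 : LEOK LG_b (LK LD1_c30 LD2_c3 LD3_c27) :=
  Leoe_b (LK LD1_c30 LD2_c3 LD3_c27) (f780600 IH)
def v19564 : LQ := Led Lsl_at (LP (LK LD1_c6 LD2_c43 LD3_c59))
theorem f780702 : Led Lsl_at (LP (LK LD1_c6 LD2_c43 LD3_c59)) = v19564 :=
  Lrfl
theorem f505276 : Led Lsl_af (LP (LK LD1_c3 LD2_c20 LD3_c9)) = (LP (LK LD1_c3 LD2_c11 LD3_c26)) :=
  Lgr Lrot31 (Lpe (K24.f62493 IH) (Lpe (K32.f57503 IH) (Lpr_ft (K58.f505271 IH) (Lpn (LP (LK LD1_c3 LD2_c11 LD3_c26))))))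
theorem f505253 : Led Lsl_af (LP (LK LD1_c3 LD2_c20 LD3_c10)) = (LP (LK LD1_c3 LD2_c11 LD3_c30)) :=
  Lgr Lrot0 (Lpr_at (K46.f505224 IH) (Lpn (LP (LK LD1_c3 LD2_c11 LD3_c30))))
theorem f505281 : Led Lsl_ft (LP (LK LD1_c3 LD2_c20 LD3_c9)) = (LP (LK LD1_c3 LD2_c11 LD3_c30)) :=
  Lgr Lrot101 (Lpr_af (f505276 IH) (Lpe (K58.f505271 IH) (Lpr_af (f505253 IH) (Lpn (LP (LK LD1_c3 LD2_c11 LD3_c30))))))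
theorem f135393 : Led Lsl_bt (LP (LK LD1_c6 LD2_c43 LD3_c59)) = (LP (LK LD1_c3 LD2_c20 LD3_c9)) :=
  Lre_b IH (LK LD1_c6 LD2_c43 LD3_c59) (LK LD1_c3 LD2_c20 LD3_c9) Lrfl Lrfl
theorem f79758 : Led Lsl_bt (LP (LK LD1_c3 LD2_c11 LD3_c30)) = (LP (LK LD1_c6 LD2_c27 LD3_c12)) :=
  Lre_b IH (LK LD1_c3 LD2_c11 LD3_c30) (LK LD1_c6 LD2_c27 LD3_c12) Lrfl Lrfl
theorem f505283 : Led Lsl_ff (LP (LK LD1_c6 LD2_c43 LD3_c59)) = (LP (LK LD1_c6 LD2_c27 LD3_c12)) :=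
  Lgr Lrot25 (Lpr_bt (f135393 IH) (Lpr_ft (f505281 IH) (Lpr_bt (f79758 IH) (Lpn (LP (LK LD1_c6 LD2_c27 LD3_c12))))))
theorem f505312 : Led Lsl_at (LP (LK LD1_c12 LD2_c26 LD3_c0)) = (LP (LK LD1_c6 LD2_c27 LD3_c12)) :=
  Lre_a IH (LK LD1_c12 LD2_c26 LD3_c0) (LK LD1_c6 LD2_c27 LD3_c12) Lrfl Lrfl
theorem f780705 : Led Lsl_ff (LP (LK LD1_c12 LD2_c26 LD3_c0)) = v19564 :=
  Lgr Lrot30 (Lpr_at (f505312 IH) (Lpe (f505283 IH) (Lpr_at (f780702 IH) (Lpn v19564))))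
theorem f780708 : Led Lsl_ft (LP (LK LD1_c12 LD2_c26 LD3_c0)) = v19564 :=
  Lgr Lrot48 (Lpr_ff (f780705 IH) (Lpn v19564))
theorem f780703 : Led Lsl_af (LP (LK LD1_c6 LD2_c43 LD3_c59)) = v19564 :=
  Lgr Lrot0 (Lpr_at (f780702 IH) (Lpn v19564))
theorem f438423 : Led Lsl_gt (LP (LK LD1_c12 LD2_c52 LD3_c50)) = (LP (LK LD1_c6 LD2_c43 LD3_c59)) :=
  Lre_g IH (LK LD1_c12 LD2_c52 LD3_c50) (LK LD1_c6 LD2_c43 LD3_c59) Lrfl Lrfl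
theorem f780710 : Led Lsl_gt (LP (LK LD1_c12 LD2_c26 LD3_c0)) = (LP (LK LD1_c12 LD2_c52 LD3_c50)) :=
  Lgr Lrot5 (Lpr_ft (f780708 IH) (Lpe (f780703 IH) (Lpe (f438423 IH) (Lpn (LP (LK LD1_c12 LD2_c52 LD3_c50))))))
theorem f780711 : Led Lsl_gt (LP (LK LD1_c12 LD2_c26 LD3_c0)) = (LP (LK LD1_c12 LD2_c52 LD3_c50)) :=
  Leop (Lpe (f780710 IH) (Lpn (LP (LK LD1_c12 LD2_c26 LD3_c0))))
theorem seed_1458 : LEOK LG_g (LK LD1_c12 LD2_c26 LD3_c0) :=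
  Leoe_g (LK LD1_c12 LD2_c26 LD3_c0) (f780711 IH)
def v19592 : LQ := Led Lsl_ct (LP (LK LD1_c6 LD2_c44 LD3_c16))
theorem f780871 : Led Lsl_ct (LP (LK LD1_c6 LD2_c44 LD3_c16)) = v19592 :=
  Lrfl
def v19591 : LQ := Led Lsl_bt (LP (LK LD1_c6 LD2_c44 LD3_c16))
theorem f780869 : Led Lsl_bt (LP (LK LD1_c6 LD2_c44 LD3_c16)) = v19591 :=
  Lrfl
theorem f157784 : Led Lsl_gt (LP (LK LD1_c3 LD2_c20 LD3_c17)) = (LP (LK LD1_c6 LD2_c44 LD3_c16)) :=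
  Lre_g IH (LK LD1_c3 LD2_c20 LD3_c17) (LK LD1_c6 LD2_c44 LD3_c16) Lrfl Lrfl
theorem f141886 : Led Lsl_gt (LP (LK LD1_c6 LD2_c44 LD3_c27)) = (LP (LK LD1_c3 LD2_c20 LD3_c21)) :=
  Lre_g IH (LK LD1_c6 LD2_c44 LD3_c27) (LK LD1_c3 LD2_c20 LD3_c21) Lrfl Lrfl
theorem f207368 : Led Lsl_ct (LP (LK LD1_c12 LD2_c53 LD3_c28)) = (LP (LK LD1_c6 LD2_c44 LD3_c27)) :=
  Lre_c IH (LK LD1_c12 LD2_c53 LD3_c28) (LK LD1_c6 LD2_c44 LD3_c27) Lrfl Lrfl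
theorem f207396 : Led Lsl_ct (LP (LK LD1_c6 LD2_c44 LD3_c26)) = (LP (LK LD1_c12 LD2_c53 LD3_c26)) :=
  Lre_c IH (LK LD1_c6 LD2_c44 LD3_c26) (LK LD1_c12 LD2_c53 LD3_c26) Lrfl Lrfl
theorem f713246 : Led Lsl_at (LP (LK LD1_c9 LD2_c11 LD3_c30)) = (LP (LK LD1_c6 LD2_c44 LD3_c26)) :=
  Lgr Lrot107 (Lpe (K50.f644151 IH) (Lpr_af (K55.f713242 IH) (Lpe (f207396 IH) (Lpn (LP (LK LD1_c6 LD2_c44 LD3_c26))))))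
theorem f713498 : Led Lsl_ff (LP (LK LD1_c9 LD2_c11 LD3_c30)) = (LP (LK LD1_c6 LD2_c44 LD3_c27)) :=
  Lgr Lrot52 (Lpr_at (f713246 IH) (Lpe (K52.f207392 IH) (Lpe (f141886 IH) (Lpn (LP (LK LD1_c6 LD2_c44 LD3_c27))))))
theorem f713504 : Led Lsl_ft (LP (LK LD1_c9 LD2_c11 LD3_c30)) = (LP (LK LD1_c6 LD2_c44 LD3_c27)) :=
  Lgr Lrot48 (Lpr_ff (f713498 IH) (Lpn (LP (LK LD1_c6 LD2_c44 LD3_c27))))
theorem f207366 : Led Lsl_ct (LP (LK LD1_c6 LD2_c44 LD3_c27)) = (LP (LK LD1_c12 LD2_c53 LD3_c28)) :=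
  Lre_c IH (LK LD1_c6 LD2_c44 LD3_c27) (LK LD1_c12 LD2_c53 LD3_c28) Lrfl Lrfl
theorem f713508 : Led Lsl_ff (LP (LK LD1_c12 LD2_c43 LD3_c29)) = (LP (LK LD1_c12 LD2_c53 LD3_c28)) :=
  Lgr Lrot23 (Lpr_ct (K50.f644151 IH) (Lpr_ft (f713504 IH) (Lpr_ct (f207366 IH) (Lpn (LP (LK LD1_c12 LD2_c53 LD3_c28))))))
theorem f713244 : Led Lsl_at (LP (LK LD1_c12 LD2_c43 LD3_c29)) = (LP (LK LD1_c12 LD2_c53 LD3_c26)) :=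
  Lgr Lrot100 (Lpr_af (K55.f713242 IH) (Lpn (LP (LK LD1_c12 LD2_c53 LD3_c26))))
theorem f713516 : Led Lsl_gf (LP (LK LD1_c9 LD2_c11 LD3_c51)) = (LP (LK LD1_c12 LD2_c53 LD3_c28)) :=
  Lgr Lrot47 (Lpe (K52.f643955 IH) (Lpe (f713244 IH) (Lpr_ff (f713508 IH) (Lpn (LP (LK LD1_c12 LD2_c53 LD3_c28))))))
theorem f112892 : Led Lsl_ct (LP (LK LD1_c9 LD2_c11 LD3_c51)) = (LP (LK LD1_c4 LD2_c38 LD3_c6)) :=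
  Lre_c IH (LK LD1_c9 LD2_c11 LD3_c51) (LK LD1_c4 LD2_c38 LD3_c6) Lrfl Lrfl
theorem f204257 : Led Lsl_ct (LP (LK LD1_c2 LD2_c57 LD3_c20)) = (LP (LK LD1_c6 LD2_c2 LD3_c26)) :=
  Lre_c IH (LK LD1_c2 LD2_c57 LD3_c20) (LK LD1_c6 LD2_c2 LD3_c26) Lrfl Lrfl
theorem f204258 : Led Lsl_gt (LP (LK LD1_c6 LD2_c2 LD3_c26)) = (LP (LK LD1_c11 LD2_c48 LD3_c51)) :=
  Lre_g IH (LK LD1_c6 LD2_c2 LD3_c26) (LK LD1_c11 LD2_c48 LD3_c51) Lrfl Lrfl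
theorem f204207 : Led Lsl_ct (LP (LK LD1_c20 LD2_c51 LD3_c19)) = (LP (LK LD1_c11 LD2_c48 LD3_c51)) :=
  Lre_c IH (LK LD1_c20 LD2_c51 LD3_c19) (LK LD1_c11 LD2_c48 LD3_c51) Lrfl Lrfl
theorem f713520 : Led Lsl_bt (LP (LK LD1_c20 LD2_c51 LD3_c19)) = (LP (LK LD1_c12 LD2_c53 LD3_c28)) :=
  Lgr Lrot130 (Lpr_ct (f204207 IH) (Lpe (f204258 IH) (Lpe (f204257 IH) (Lpr_bt (K32.f204210 IH) (Lpr_gf (K32.f204250 IH) (Lpr_bf (K49.f614636 IH) (Lpr_ct (K49.f207331 IH) (Lpe (K49.f643764 IH) (Lpe (f112892 IH) (Lpr_gf (f713516 IH) (Lpn (LP (LK LD1_c12 LD2_c53 LD3_c28)))))))))))))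
theorem f713526 : Led Lsl_bf (LP (LK LD1_c20 LD2_c51 LD3_c19)) = (LP (LK LD1_c12 LD2_c53 LD3_c28)) :=
  Lgr Lrot24 (Lpr_bt (f713520 IH) (Lpn (LP (LK LD1_c12 LD2_c53 LD3_c28))))
theorem f713529 : Led Lsl_ff (LP (LK LD1_c20 LD2_c51 LD3_c19)) = (LP (LK LD1_c11 LD2_c49 LD3_c7)) :=
  Lgr Lrot25 (Lpr_bt (f713520 IH) (Lpe (f713508 IH) (Lpe (K50.f615280 IH) (Lpn (LP (LK LD1_c11 LD2_c49 LD3_c7))))))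
theorem f713535 : Led Lsl_ft (LP (LK LD1_c20 LD2_c51 LD3_c19)) = (LP (LK LD1_c11 LD2_c49 LD3_c7)) :=
  Lgr Lrot48 (Lpr_ff (f713529 IH) (Lpn (LP (LK LD1_c11 LD2_c49 LD3_c7))))
theorem f713541 : Led Lsl_gt (LP (LK LD1_c20 LD2_c51 LD3_c19)) = (LP (LK LD1_c15 LD2_c5 LD3_c11)) :=
  Lgr Lrot5 (Lpr_ft (f713535 IH) (Lpr_at (K53.f713090 IH) (Lpr_gf (K50.f700915 IH) (Lpn (LP (LK LD1_c15 LD2_c5 LD3_c11))))))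
theorem f643784 : Led Lsl_ft (LP (LK LD1_c8 LD2_c0 LD3_c36)) = (LP (LK LD1_c12 LD2_c17 LD3_c45)) :=
  Lgr Lrot48 (Lpr_ff (K49.f643778 IH) (Lpn (LP (LK LD1_c12 LD2_c17 LD3_c45))))
theorem f506231 : Led Lsl_dt (LP (LK LD1_c12 LD2_c17 LD3_c45)) = (LP (LK LD1_c6 LD2_c22 LD3_c1)) :=
  Lre_d IH (LK LD1_c12 LD2_c17 LD3_c45) (LK LD1_c6 LD2_c22 LD3_c1) Lrfl Lrfl
theorem f643919 : Led Lsl_ff (LP (LK LD1_c3 LD2_c59 LD3_c46)) = (LP (LK LD1_c6 LD2_c22 LD3_c1)) :=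
  Lgr Lrot19 (Lpr_dt (K49.f40691 IH) (Lpr_ft (f643784 IH) (Lpr_dt (f506231 IH) (Lpn (LP (LK LD1_c6 LD2_c22 LD3_c1))))))
theorem f443708 : Led Lsl_ct (LP (LK LD1_c12 LD2_c17 LD3_c44)) = (LP (LK LD1_c6 LD2_c22 LD3_c1)) :=
  Lre_c IH (LK LD1_c12 LD2_c17 LD3_c44) (LK LD1_c6 LD2_c22 LD3_c1) Lrfl Lrfl
theorem f643923 : Led Lsl_ft (LP (LK LD1_c8 LD2_c0 LD3_c35)) = (LP (LK LD1_c12 LD2_c17 LD3_c44)) :=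
  Lgr Lrot4 (Lpe (K36.f204165 IH) (Lpr_ff (f643919 IH) (Lpe (f443708 IH) (Lpn (LP (LK LD1_c12 LD2_c17 LD3_c44))))))
theorem f643929 : Led Lsl_ff (LP (LK LD1_c8 LD2_c0 LD3_c35)) = (LP (LK LD1_c12 LD2_c17 LD3_c44)) :=
  Lgr Lrot3 (Lpr_ft (f643923 IH) (Lpn (LP (LK LD1_c12 LD2_c17 LD3_c44))))
theorem f443715 : Led Lsl_bt (LP (LK LD1_c20 LD2_c51 LD3_c47)) = (LP (LK LD1_c11 LD2_c49 LD3_c14)) :=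
  Lre_b IH (LK LD1_c20 LD2_c51 LD3_c47) (LK LD1_c11 LD2_c49 LD3_c14) Lrfl Lrfl
theorem f204541 : Led Lsl_ct (LP (LK LD1_c2 LD2_c57 LD3_c17)) = (LP (LK LD1_c1 LD2_c24 LD3_c24)) :=
  Lre_c IH (LK LD1_c2 LD2_c57 LD3_c17) (LK LD1_c1 LD2_c24 LD3_c24) Lrfl Lrfl
theorem f204513 : Led Lsl_ef (LP (LK LD1_c9 LD2_c12 LD3_c61)) = (LP (LK LD1_c6 LD2_c2 LD3_c26)) :=
  Lgr Lrot88 (Lpr_et (K59.f204505 IH) (Lpn (LP (LK LD1_c6 LD2_c2 LD3_c26))))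
theorem f153598 : Led Lsl_ct (LP (LK LD1_c3 LD2_c7 LD3_c51)) = (LP (LK LD1_c1 LD2_c30 LD3_c10)) :=
  Lre_c IH (LK LD1_c3 LD2_c7 LD3_c51) (LK LD1_c1 LD2_c30 LD3_c10) Lrfl Lrfl
theorem f153656 : Led Lsl_ef (LP (LK LD1_c3 LD2_c7 LD3_c51)) = (LP (LK LD1_c4 LD2_c43 LD3_c17)) :=
  Lgr Lrot28 (Lpr_ct (f153598 IH) (Lpr_et (K59.f153653 IH) (Lpr_ct (K50.f150513 IH) (Lpn (LP (LK LD1_c4 LD2_c43 LD3_c17))))))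
theorem f204517 : Led Lsl_bt (LP (LK LD1_c3 LD2_c7 LD3_c51)) = (LP (LK LD1_c6 LD2_c2 LD3_c26)) :=
  Lgr Lrot119 (Lpr_ef (f153656 IH) (Lpe (K11.f150473 IH) (Lpr_ef (f204513 IH) (Lpn (LP (LK LD1_c6 LD2_c2 LD3_c26))))))
theorem f153670 : Led Lsl_ft (LP (LK LD1_c1 LD2_c30 LD3_c6)) = (LP (LK LD1_c3 LD2_c7 LD3_c51)) :=
  Lre_f IH (LK LD1_c1 LD2_c30 LD3_c6) (LK LD1_c3 LD2_c7 LD3_c51) Lrfl Lrfl
theorem f204515 : Led Lsl_ft (LP (LK LD1_c6 LD2_c2 LD3_c26)) = (LP (LK LD1_c2 LD2_c57 LD3_c17)) :=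
  Lre_f IH (LK LD1_c6 LD2_c2 LD3_c26) (LK LD1_c2 LD2_c57 LD3_c17) Lrfl Lrfl
theorem f204522 : Led Lsl_bf (LP (LK LD1_c1 LD2_c30 LD3_c6)) = (LP (LK LD1_c2 LD2_c57 LD3_c17)) :=
  Lgr Lrot61 (Lpr_ft (f153670 IH) (Lpr_bt (f204517 IH) (Lpr_ft (f204515 IH) (Lpn (LP (LK LD1_c2 LD2_c57 LD3_c17))))))
theorem f204544 : Led Lsl_bt (LP (LK LD1_c6 LD2_c20 LD3_c28)) = (LP (LK LD1_c3 LD2_c7 LD3_c48)) :=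
  Lre_b IH (LK LD1_c6 LD2_c20 LD3_c28) (LK LD1_c3 LD2_c7 LD3_c48) Lrfl Lrfl
theorem f204545 : Led Lsl_ct (LP (LK LD1_c6 LD2_c20 LD3_c28)) = (LP (LK LD1_c12 LD2_c15 LD3_c29)) :=
  Lre_c IH (LK LD1_c6 LD2_c20 LD3_c28) (LK LD1_c12 LD2_c15 LD3_c29) Lrfl Lrfl
theorem f204546 : Led Lsl_gt (LP (LK LD1_c12 LD2_c15 LD3_c29)) = (LP (LK LD1_c21 LD2_c20 LD3_c51)) :=
  Lre_g IH (LK LD1_c12 LD2_c15 LD3_c29) (LK LD1_c21 LD2_c20 LD3_c51) Lrfl Lrfl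
theorem f614963 : Led Lsl_ct (LP (LK LD1_c20 LD2_c51 LD3_c47)) = (LP (LK LD1_c21 LD2_c20 LD3_c51)) :=
  Lgr Lrot10 (Lpr_bt (f443715 IH) (Lpr_gt (K45.f614961 IH) (Lpr_ct (K45.f204542 IH) (Lpr_gt (K45.f69223 IH) (Lpe (f204541 IH) (Lpe (f204522 IH) (Lpr_gt (K57.f110460 IH) (Lpe (f204544 IH) (Lpr_ct (f204545 IH) (Lpr_gt (f204546 IH) (Lpn (LP (LK LD1_c21 LD2_c20 LD3_c51)))))))))))))
theorem f443709 : Led Lsl_bt (LP (LK LD1_c11 LD2_c49 LD3_c14)) = (LP (LK LD1_c20 LD2_c51 LD3_c47)) :=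
  Lre_b IH (LK LD1_c11 LD2_c49 LD3_c14) (LK LD1_c20 LD2_c51 LD3_c47) Lrfl Lrfl
theorem f443707 : Led Lsl_bt (LP (LK LD1_c6 LD2_c22 LD3_c1)) = (LP (LK LD1_c12 LD2_c17 LD3_c43)) :=
  Lre_b IH (LK LD1_c6 LD2_c22 LD3_c1) (LK LD1_c12 LD2_c17 LD3_c43) Lrfl Lrfl
theorem f614966 : Led Lsl_bf (LP (LK LD1_c12 LD2_c17 LD3_c44)) = (LP (LK LD1_c21 LD2_c20 LD3_c51)) :=
  Lgr Lrot90 (Lpr_ct (f443708 IH) (Lpr_bt (f443707 IH) (Lpr_ct (K42.f443705 IH) (Lpr_bt (f443709 IH) (Lpr_ct (f614963 IH) (Lpn (LP (LK LD1_c21 LD2_c20 LD3_c51))))))))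
theorem f643933 : Led Lsl_ft (LP (LK LD1_c15 LD2_c5 LD3_c13)) = (LP (LK LD1_c21 LD2_c20 LD3_c51)) :=
  Lgr Lrot75 (Lpe (K36.f204166 IH) (Lpr_ff (f643929 IH) (Lpr_bf (f614966 IH) (Lpn (LP (LK LD1_c21 LD2_c20 LD3_c51))))))
theorem f614968 : Led Lsl_cf (LP (LK LD1_c20 LD2_c51 LD3_c47)) = (LP (LK LD1_c21 LD2_c20 LD3_c51)) :=
  Lgr Lrot11 (Lpr_ct (f614963 IH) (Lpn (LP (LK LD1_c21 LD2_c20 LD3_c51))))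
theorem f643935 : Led Lsl_ff (LP (LK LD1_c24 LD2_c18 LD3_c61)) = (LP (LK LD1_c20 LD2_c51 LD3_c47)) :=
  Lgr Lrot23 (Lpe (K36.f204169 IH) (Lpr_ft (f643933 IH) (Lpe (f614968 IH) (Lpn (LP (LK LD1_c20 LD2_c51 LD3_c47))))))
theorem f643937 : Led Lsl_ft (LP (LK LD1_c15 LD2_c5 LD3_c12)) = (LP (LK LD1_c11 LD2_c49 LD3_c14)) :=
  Lgr Lrot75 (Lpr_bf (K36.f204159 IH) (Lpr_ff (f643935 IH) (Lpe (f443709 IH) (Lpn (LP (LK LD1_c11 LD2_c49 LD3_c14))))))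
theorem f443710 : Led Lsl_cf (LP (LK LD1_c12 LD2_c17 LD3_c43)) = (LP (LK LD1_c11 LD2_c49 LD3_c14)) :=
  Lgr Lrot11 (Lpr_ct (K42.f443705 IH) (Lpn (LP (LK LD1_c11 LD2_c49 LD3_c14))))
theorem f643941 : Led Lsl_ff (LP (LK LD1_c8 LD2_c0 LD3_c32)) = (LP (LK LD1_c12 LD2_c17 LD3_c43)) :=
  Lgr Lrot23 (Lpr_ct (K42.f204176 IH) (Lpr_ft (f643937 IH) (Lpe (f443710 IH) (Lpn (LP (LK LD1_c12 LD2_c17 LD3_c43))))))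
theorem f713543 : Led Lsl_gf (LP (LK LD1_c20 LD2_c51 LD3_c19)) = (LP (LK LD1_c12 LD2_c17 LD3_c43)) :=
  Lgr Lrot47 (Lpr_gt (f713541 IH) (Lpe (K50.f497261 IH) (Lpr_ff (f643941 IH) (Lpn (LP (LK LD1_c12 LD2_c17 LD3_c43))))))
theorem f443714 : Led Lsl_ct (LP (LK LD1_c6 LD2_c22 LD3_c1)) = (LP (LK LD1_c12 LD2_c17 LD3_c44)) :=
  Lre_c IH (LK LD1_c6 LD2_c22 LD3_c1) (LK LD1_c12 LD2_c17 LD3_c44) Lrfl Lrfl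
theorem f780873 : Led Lsl_gf (LP (LK LD1_c12 LD2_c17 LD3_c44)) = v19592 :=
  Lgr Lrot129 (Lpe (f443714 IH) (Lpr_bt (f443707 IH) (Lpe (f713543 IH) (Lpr_bf (f713526 IH) (Lpr_ct (f207368 IH) (Lpr_gt (f141886 IH) (Lpe (K52.f157776 IH) (Lpr_bt (K45.f157779 IH) (Lpr_gt (f157784 IH) (Lpr_ct (f780871 IH) (Lpn v19592)))))))))))
theorem f160851 : Led Lsl_gt (LP (LK LD1_c11 LD2_c48 LD3_c51)) = (LP (LK LD1_c6 LD2_c2 LD3_c13)) :=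
  Lre_g IH (LK LD1_c11 LD2_c48 LD3_c51) (LK LD1_c6 LD2_c2 LD3_c13) Lrfl Lrfl
theorem f161880 : Led Lsl_ct (LP (LK LD1_c2 LD2_c57 LD3_c13)) = (LP (LK LD1_c6 LD2_c2 LD3_c13)) :=
  Lre_c IH (LK LD1_c2 LD2_c57 LD3_c13) (LK LD1_c6 LD2_c2 LD3_c13) Lrfl Lrfl
theorem f104882 : Led Lsl_gt (LP (LK LD1_c4 LD2_c38 LD3_c44)) = (LP (LK LD1_c9 LD2_c13 LD3_c17)) :=
  Lre_g IH (LK LD1_c4 LD2_c38 LD3_c44) (LK LD1_c9 LD2_c13 LD3_c17) Lrfl Lrfl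
theorem f780874 : v19591 = (LP (LK LD1_c9 LD2_c13 LD3_c17)) :=
  (Llr Lrot92 (Lpe (f780869 IH) (Lpr_ct (f780871 IH) (Lpe (f780873 IH) (Lpe (f443714 IH) (Lpr_bt (f443707 IH) (Lpe (f713543 IH) (Lpr_ct (f204207 IH) (Lpr_gt (f160851 IH) (Lpe (f161880 IH) (Lpr_bt (K11.f204189 IH) (Lpr_gt (f104882 IH) (Lpn (LP (LK LD1_c9 LD2_c13 LD3_c17))))))))))))))).symm
theorem f780870 : Led Lsl_bf (LP (LK LD1_c6 LD2_c44 LD3_c16)) = v19591 :=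
  Lgr Lrot24 (Lpr_bt (f780869 IH) (Lpn v19591))
theorem f780875 : Led Lsl_bt (LP (LK LD1_c9 LD2_c13 LD3_c17)) = (LP (LK LD1_c6 LD2_c44 LD3_c16)) :=
  Leop (Lpr_bf (f780870 IH) (Lpqs (f780874 IH) (Lpn (LP (LK LD1_c9 LD2_c13 LD3_c17)))))
theorem seed_1459 : LEOK LG_b (LK LD1_c9 LD2_c13 LD3_c17) :=
  Leoe_b (LK LD1_c9 LD2_c13 LD3_c17) (f780875 IH)
def v19595 : LQ := Led Lsl_ct (LP (LK LD1_c6 LD2_c44 LD3_c17))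
theorem f780886 : Led Lsl_ct (LP (LK LD1_c6 LD2_c44 LD3_c17)) = v19595 :=
  Lrfl
def v19594 : LQ := Led Lsl_bt (LP (LK LD1_c6 LD2_c44 LD3_c17))
theorem f780884 : Led Lsl_bt (LP (LK LD1_c6 LD2_c44 LD3_c17)) = v19594 :=
  Lrfl
theorem f557969 : Led Lsl_gf (LP (LK LD1_c6 LD2_c44 LD3_c17)) = (LP (LK LD1_c9 LD2_c13 LD3_c33)) :=
  Lgr Lrot47 (Lpr_gt (K55.f157783 IH) (Lpr_af (K40.f557958 IH) (Lpe (K40.f104828 IH) (Lpn (LP (LK LD1_c9 LD2_c13 LD3_c33))))))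
theorem f204296 : Led Lsl_bt (LP (LK LD1_c4 LD2_c38 LD3_c60)) = (LP (LK LD1_c9 LD2_c13 LD3_c33)) :=
  Lre_b IH (LK LD1_c4 LD2_c38 LD3_c60) (LK LD1_c9 LD2_c13 LD3_c33) Lrfl Lrfl
theorem f61113 : Led Lsl_ct (LP (LK LD1_c4 LD2_c38 LD3_c60)) = (LP (LK LD1_c9 LD2_c13 LD3_c43)) :=
  Lre_c IH (LK LD1_c4 LD2_c38 LD3_c60) (LK LD1_c9 LD2_c13 LD3_c43) Lrfl Lrfl
theorem f780888 : Led Lsl_gf (LP (LK LD1_c6 LD2_c50 LD3_c61)) = v19595 :=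
  Lgr Lrot129 (Lpe (K42.f69042 IH) (Lpr_bt (K42.f570776 IH) (Lpe (K42.f643174 IH) (Lpe (K45.f438501 IH) (Lpe (K45.f438474 IH) (Lpr_gt (K45.f204319 IH) (Lpe (f61113 IH) (Lpr_bt (f204296 IH) (Lpe (f557969 IH) (Lpr_ct (f780886 IH) (Lpn v19595)))))))))))
theorem f501934 : Led Lsl_bt (LP (LK LD1_c2 LD2_c56 LD3_c29)) = (LP (LK LD1_c6 LD2_c0 LD3_c7)) :=
  Lre_b IH (LK LD1_c2 LD2_c56 LD3_c29) (LK LD1_c6 LD2_c0 LD3_c7) Lrfl Lrfl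
theorem f501954 : Led Lsl_gt (LP (LK LD1_c6 LD2_c0 LD3_c7)) = (LP (LK LD1_c11 LD2_c44 LD3_c32)) :=
  Lre_g IH (LK LD1_c6 LD2_c0 LD3_c7) (LK LD1_c11 LD2_c44 LD3_c32) Lrfl Lrfl
theorem f780889 : v19594 = (LP (LK LD1_c11 LD2_c44 LD3_c32)) :=
  (Llr Lrot92 (Lpe (f780884 IH) (Lpr_ct (f780886 IH) (Lpe (f780888 IH) (Lpe (K42.f69042 IH) (Lpr_bt (K42.f570776 IH) (Lpe (K42.f643174 IH) (Lpr_ct (K42.f643165 IH) (Lpe (K42.f502593 IH) (Lpe (K37.f501937 IH) (Lpr_bt (f501934 IH) (Lpr_gt (f501954 IH) (Lpn (LP (LK LD1_c11 LD2_c44 LD3_c32))))))))))))))).symm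
theorem f780885 : Led Lsl_bf (LP (LK LD1_c6 LD2_c44 LD3_c17)) = v19594 :=
  Lgr Lrot24 (Lpr_bt (f780884 IH) (Lpn v19594))
theorem f780890 : Led Lsl_bt (LP (LK LD1_c11 LD2_c44 LD3_c32)) = (LP (LK LD1_c6 LD2_c44 LD3_c17)) :=
  Leop (Lpr_bf (f780885 IH) (Lpqs (f780889 IH) (Lpn (LP (LK LD1_c11 LD2_c44 LD3_c32)))))
theorem seed_1460 : LEOK LG_b (LK LD1_c11 LD2_c44 LD3_c32) :=
  Leoe_b (LK LD1_c11 LD2_c44 LD3_c32) (f780890 IH)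
def v19604 : LQ := Led Lsl_et (LP (LK LD1_c6 LD2_c44 LD3_c30))
theorem f780927 : Led Lsl_et (LP (LK LD1_c6 LD2_c44 LD3_c30)) = v19604 :=
  Lrfl
theorem f780928 : Led Lsl_ef (LP (LK LD1_c6 LD2_c44 LD3_c30)) = v19604 :=
  Lgr Lrot88 (Lpr_et (f780927 IH) (Lpn v19604))
theorem f706516 : Led Lsl_et K52.v13173 = (LP (LK LD1_c11 LD2_c49 LD3_c25)) :=
  Lgr Lrot69 (Lpe (K52.f701517 IH) (Lpe (K51.f646802 IH) (Lpr_ff (K52.f640127 IH) (Lpe (K51.f706212 IH) (Lpr_ff (K51.f706512 IH) (Lpn (LP (LK LD1_c11 LD2_c49 LD3_c25))))))))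
theorem f140676 : Led Lsl_gt (LP (LK LD1_c6 LD2_c12 LD3_c2)) = (LP (LK LD1_c12 LD2_c3 LD3_c48)) :=
  Lre_g IH (LK LD1_c6 LD2_c12 LD3_c2) (LK LD1_c12 LD2_c3 LD3_c48) Lrfl Lrfl
theorem f706389 : Led Lsl_gt (LP (LK LD1_c12 LD2_c3 LD3_c48)) = (LP (LK LD1_c9 LD2_c4 LD3_c14)) :=
  Lgr Lrot46 (Lpe (f140676 IH) (Lpr_ft (K50.f639696 IH) (Lpr_at (K55.f706383 IH) (Lpn (LP (LK LD1_c9 LD2_c4 LD3_c14))))))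
theorem f116996 : Led Lsl_et (LP (LK LD1_c2 LD2_c57 LD3_c18)) = (LP (LK LD1_c6 LD2_c2 LD3_c29)) :=
  Lre_e IH (LK LD1_c2 LD2_c57 LD3_c18) (LK LD1_c6 LD2_c2 LD3_c29) Lrfl Lrfl
theorem f510176 : Led Lsl_et (LP (LK LD1_c4 LD2_c49 LD3_c22)) = (LP (LK LD1_c9 LD2_c31 LD3_c31)) :=
  Lre_e IH (LK LD1_c4 LD2_c49 LD3_c22) (LK LD1_c9 LD2_c31 LD3_c31) Lrfl Lrfl
theorem f509392 : Led Lsl_at (LP (LK LD1_c6 LD2_c45 LD3_c14)) = (LP (LK LD1_c3 LD2_c20 LD3_c45)) :=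
  Lre_a IH (LK LD1_c6 LD2_c45 LD3_c14) (LK LD1_c3 LD2_c20 LD3_c45) Lrfl Lrfl
theorem f141005 : Led Lsl_gt (LP (LK LD1_c6 LD2_c45 LD3_c18)) = (LP (LK LD1_c3 LD2_c20 LD3_c45)) :=
  Lre_g IH (LK LD1_c6 LD2_c45 LD3_c18) (LK LD1_c3 LD2_c20 LD3_c45) Lrfl Lrfl
theorem f705623 : Led Lsl_gf (LP (LK LD1_c6 LD2_c45 LD3_c18)) = K51.v13872 :=
  Lgr Lrot47 (Lpr_gt (f141005 IH) (Lpe (f509392 IH) (Lpr_ff (K51.f705619 IH) (Lpn K51.v13872))))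
theorem f780932 : Led Lsl_df (LP (LK LD1_c6 LD2_c45 LD3_c18)) = v19604 :=
  Lgr Lrot168 (Lpr_gf (f705623 IH) (Lpe (K51.f705615 IH) (Lpr_et (f510176 IH) (Lpr_gf (K55.f707312 IH) (Lpe (f116996 IH) (Lpr_dt (K49.f69214 IH) (Lpr_gf (K56.f568471 IH) (Lpe (K53.f615025 IH) (Lpr_gf (K51.f615021 IH) (Lpr_ef (f780928 IH) (Lpn v19604)))))))))))
theorem f509373 : Led Lsl_dt (LP (LK LD1_c1 LD2_c36 LD3_c42)) = (LP (LK LD1_c3 LD2_c20 LD3_c45)) :=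
  Lre_d IH (LK LD1_c1 LD2_c36 LD3_c42) (LK LD1_c3 LD2_c20 LD3_c45) Lrfl Lrfl
theorem f509380 : Led Lsl_et (LP (LK LD1_c1 LD2_c36 LD3_c42)) = (LP (LK LD1_c3 LD2_c20 LD3_c46)) :=
  Lre_e IH (LK LD1_c1 LD2_c36 LD3_c42) (LK LD1_c3 LD2_c20 LD3_c46) Lrfl Lrfl
theorem f140991 : Led Lsl_gt (LP (LK LD1_c3 LD2_c20 LD3_c46)) = (LP (LK LD1_c6 LD2_c45 LD3_c21)) :=
  Lre_g IH (LK LD1_c3 LD2_c20 LD3_c46) (LK LD1_c6 LD2_c45 LD3_c21) Lrfl Lrfl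
theorem f780933 : Led Lsl_df (LP (LK LD1_c12 LD2_c3 LD3_c48)) = (LP (LK LD1_c6 LD2_c45 LD3_c21)) :=
  Lgr Lrot135 (Lpr_gt (f706389 IH) (Lpe (K52.f559992 IH) (Lpqs (K52.f706369 IH) (Lpr_et (f706516 IH) (Lpr_gt (K51.f615029 IH) (Lpr_ef (f780928 IH) (Lpe (f780932 IH) (Lpr_gt (f141005 IH) (Lpe (f509373 IH) (Lpr_et (f509380 IH) (Lpr_gt (f140991 IH) (Lpn (LP (LK LD1_c6 LD2_c45 LD3_c21))))))))))))))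
theorem f780934 : Led Lsl_dt (LP (LK LD1_c6 LD2_c45 LD3_c21)) = (LP (LK LD1_c12 LD2_c3 LD3_c48)) :=
  Leop (Lpr_df (f780933 IH) (Lpn (LP (LK LD1_c6 LD2_c45 LD3_c21))))
theorem seed_1461 : LEOK LG_d (LK LD1_c6 LD2_c45 LD3_c21) :=
  Leoe_d (LK LD1_c6 LD2_c45 LD3_c21) (f780934 IH)
def v13049 : LQ := Led Lsl_at (LP (LK LD1_c4 LD2_c38 LD3_c34))
theorem f700736 : Led Lsl_at (LP (LK LD1_c4 LD2_c38 LD3_c34)) = v13049 :=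
  Lrfl
theorem f700737 : Led Lsl_af (LP (LK LD1_c4 LD2_c38 LD3_c34)) = v13049 :=
  Lgr Lrot0 (Lpr_at (f700736 IH) (Lpn v13049))
theorem f26849 : Led Lsl_gt (LP (LK LD1_c2 LD2_c16 LD3_c19)) = (LP (LK LD1_c4 LD2_c38 LD3_c34)) :=
  Lre_g IH (LK LD1_c2 LD2_c16 LD3_c19) (LK LD1_c4 LD2_c38 LD3_c34) Lrfl Lrfl
theorem f700738 : Led Lsl_ft (LP (LK LD1_c4 LD2_c38 LD3_c35)) = v13049 :=
  Lgr Lrot2 (Lpr_gt (K55.f26852 IH) (Lpr_gt (f26849 IH) (Lpr_af (f700737 IH) (Lpn v13049))))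
theorem f700739 : Led Lsl_ff (LP (LK LD1_c4 LD2_c38 LD3_c35)) = v13049 :=
  Lgr Lrot3 (Lpr_ft (f700738 IH) (Lpn v13049))
def v13054 : LQ := Led Lsl_ft (LP (LK LD1_c4 LD2_c38 LD3_c34))
theorem f700750 : Led Lsl_ft (LP (LK LD1_c4 LD2_c38 LD3_c34)) = v13054 :=
  Lrfl
theorem f700752 : Led Lsl_ff (LP (LK LD1_c4 LD2_c38 LD3_c34)) = v13054 :=
  Lgr Lrot3 (Lpr_ft (f700750 IH) (Lpn v13054))
theorem f700754 : Led Lsl_at (LP (LK LD1_c4 LD2_c38 LD3_c35)) = v13054 :=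
  Lgr Lrot66 (Lpr_ff (f700739 IH) (Lpe (f700736 IH) (Lpr_ff (f700752 IH) (Lpn v13054))))
theorem f150497 : Led Lsl_gt (LP (LK LD1_c4 LD2_c38 LD3_c37)) = (LP (LK LD1_c9 LD2_c12 LD3_c50)) :=
  Lre_g IH (LK LD1_c4 LD2_c38 LD3_c37) (LK LD1_c9 LD2_c12 LD3_c50) Lrfl Lrfl
theorem f780941 : Led Lsl_ef (LP (LK LD1_c9 LD2_c12 LD3_c50)) = (LP (LK LD1_c6 LD2_c45 LD3_c21)) :=
  Lgr Lrot17 (Lpe (f150497 IH) (Lpr_ef (K56.f204500 IH) (Lpe (K35.f538056 IH) (Lpr_gf (K50.f207399 IH) (Lpe (K45.f206823 IH) (Lpe (K51.f615029 IH) (Lpe (f706516 IH) (Lpq (K52.f706369 IH) (Lpr_dt (K52.f559992 IH) (Lpe (f706389 IH) (Lpr_df (f780933 IH) (Lpn (LP (LK LD1_c6 LD2_c45 LD3_c21))))))))))))))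
theorem f780945 : Led Lsl_et (LP (LK LD1_c9 LD2_c12 LD3_c50)) = (LP (LK LD1_c6 LD2_c45 LD3_c21)) :=
  Lgr Lrot87 (Lpr_ef (f780941 IH) (Lpn (LP (LK LD1_c6 LD2_c45 LD3_c21))))
theorem f438564 : Led Lsl_gt (LP (LK LD1_c6 LD2_c26 LD3_c28)) = (LP (LK LD1_c12 LD2_c24 LD3_c50)) :=
  Lre_g IH (LK LD1_c6 LD2_c26 LD3_c28) (LK LD1_c12 LD2_c24 LD3_c50) Lrfl Lrfl
theorem f57508 : Led Lsl_gt (LP (LK LD1_c11 LD2_c27 LD3_c11)) = (LP (LK LD1_c5 LD2_c48 LD3_c55)) :=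
  Lre_g IH (LK LD1_c11 LD2_c27 LD3_c11) (LK LD1_c5 LD2_c48 LD3_c55) Lrfl Lrfl
theorem f699179 : Led Lsl_ct (LP (LK LD1_c9 LD2_c11 LD3_c13)) = (LP (LK LD1_c11 LD2_c27 LD3_c11)) :=
  Lgr Lrot64 (Lpr_bt (K55.f152551 IH) (Lpr_gf (K46.f509248 IH) (Lpqs (K52.f698902 IH) (Lpe (K52.f435299 IH) (Lpe (K32.f435300 IH) (Lpe (K24.f57129 IH) (Lpr_cf (K32.f57118 IH) (Lpe (K24.f57152 IH) (Lpe (K59.f57506 IH) (Lpr_ct (K59.f57507 IH) (Lpe (f57508 IH) (Lpn (LP (LK LD1_c11 LD2_c27 LD3_c11))))))))))))))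
theorem f40618 : Led Lsl_ft (LP (LK LD1_c4 LD2_c37 LD3_c47)) = (LP (LK LD1_c9 LD2_c11 LD3_c13)) :=
  Lre_f IH (LK LD1_c4 LD2_c37 LD3_c47) (LK LD1_c9 LD2_c11 LD3_c13) Lrfl Lrfl
theorem f699187 : Led Lsl_ff (LP (LK LD1_c6 LD2_c50 LD3_c25)) = (LP (LK LD1_c11 LD2_c27 LD3_c11)) :=
  Lgr Lrot23 (Lpe (K35.f40605 IH) (Lpr_ft (f40618 IH) (Lpr_ct (f699179 IH) (Lpn (LP (LK LD1_c11 LD2_c27 LD3_c11))))))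
theorem f699191 : Led Lsl_ft (LP (LK LD1_c6 LD2_c50 LD3_c25)) = (LP (LK LD1_c11 LD2_c27 LD3_c11)) :=
  Lgr Lrot48 (Lpr_ff (f699187 IH) (Lpn (LP (LK LD1_c11 LD2_c27 LD3_c11))))
theorem f700369 : Led Lsl_af (LP (LK LD1_c12 LD2_c24 LD3_c50)) = (LP (LK LD1_c11 LD2_c27 LD3_c11)) :=
  Lgr Lrot31 (Lpe (f438564 IH) (Lpr_gf (K55.f700367 IH) (Lpr_ft (f699191 IH) (Lpn (LP (LK LD1_c11 LD2_c27 LD3_c11))))))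
theorem f207857 : Led Lsl_af (LP (LK LD1_c6 LD2_c50 LD3_c25)) = (LP (LK LD1_c8 LD2_c0 LD3_c38)) :=
  Lgr Lrot0 (Lpr_at (K35.f207851 IH) (Lpn (LP (LK LD1_c8 LD2_c0 LD3_c38))))
theorem f700398 : Led Lsl_ft (LP (LK LD1_c12 LD2_c24 LD3_c50)) = (LP (LK LD1_c8 LD2_c0 LD3_c38)) :=
  Lgr Lrot101 (Lpr_af (f700369 IH) (Lpe (f699191 IH) (Lpr_af (f207857 IH) (Lpn (LP (LK LD1_c8 LD2_c0 LD3_c38))))))
theorem f207865 : Led Lsl_ft (LP (LK LD1_c9 LD2_c11 LD3_c9)) = (LP (LK LD1_c17 LD2_c4 LD3_c39)) :=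
  Lre_f IH (LK LD1_c9 LD2_c11 LD3_c9) (LK LD1_c17 LD2_c4 LD3_c39) Lrfl Lrfl
theorem f700400 : Led Lsl_cf (LP (LK LD1_c12 LD2_c24 LD3_c50)) = (LP (LK LD1_c17 LD2_c4 LD3_c39)) :=
  Lgr Lrot108 (Lpr_ft (f700398 IH) (Lpe (K35.f207859 IH) (Lpr_ft (f207865 IH) (Lpn (LP (LK LD1_c17 LD2_c4 LD3_c39))))))
theorem f437356 : Led Lsl_gt (LP (LK LD1_c9 LD2_c5 LD3_c30)) = (LP (LK LD1_c4 LD2_c34 LD3_c0)) :=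
  Lre_g IH (LK LD1_c9 LD2_c5 LD3_c30) (LK LD1_c4 LD2_c34 LD3_c0) Lrfl Lrfl
theorem f557940 : Led Lsl_bt (LP (LK LD1_c17 LD2_c4 LD3_c39)) = (LP (LK LD1_c9 LD2_c13 LD3_c44)) :=
  Lgr Lrot127 (Lpr_bf (K40.f557936 IH) (Lpn (LP (LK LD1_c9 LD2_c13 LD3_c44))))
theorem f204338 : Led Lsl_gf (LP (LK LD1_c6 LD2_c25 LD3_c28)) = (LP (LK LD1_c9 LD2_c13 LD3_c44)) :=
  Lgr Lrot47 (Lpr_gt (K50.f204337 IH) (Lpr_af (K11.f204329 IH) (Lpr_ff (K11.f104844 IH) (Lpn (LP (LK LD1_c9 LD2_c13 LD3_c44))))))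
theorem f700413 : Led Lsl_cf (LP (LK LD1_c9 LD2_c5 LD3_c30)) = (LP (LK LD1_c6 LD2_c25 LD3_c28)) :=
  Lgr Lrot125 (Lpr_gt (f437356 IH) (Lpe (K55.f416355 IH) (Lpr_bt (K32.f416354 IH) (Lpe (K32.f438554 IH) (Lpe (K55.f438557 IH) (Lpr_ct (K55.f438560 IH) (Lpr_gt (f438564 IH) (Lpr_cf (f700400 IH) (Lpr_bt (f557940 IH) (Lpe (f204338 IH) (Lpn (LP (LK LD1_c6 LD2_c25 LD3_c28)))))))))))))
theorem f700417 : Led Lsl_bf (LP (LK LD1_c9 LD2_c12 LD3_c50)) = (LP (LK LD1_c6 LD2_c25 LD3_c28)) :=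
  Lgr Lrot34 (Lpe (f150497 IH) (Lpe (K11.f150487 IH) (Lpr_ct (K32.f150499 IH) (Lpe (K17.f153681 IH) (Lpe (K56.f69118 IH) (Lpr_gf (K32.f438554 IH) (Lpe (K32.f416354 IH) (Lpr_ct (K55.f416355 IH) (Lpe (f437356 IH) (Lpr_cf (f700413 IH) (Lpn (LP (LK LD1_c6 LD2_c25 LD3_c28)))))))))))))
theorem f780947 : Led Lsl_bf (LP (LK LD1_c12 LD2_c23 LD3_c44)) = (LP (LK LD1_c6 LD2_c45 LD3_c21)) :=
  Lgr Lrot96 (Lpr_et (K50.f204340 IH) (Lpe (f700417 IH) (Lpr_et (f780945 IH) (Lpn (LP (LK LD1_c6 LD2_c45 LD3_c21))))))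
def v15717 : LQ := Led Lsl_ft (LP (LK LD1_c5 LD2_c45 LD3_c34))
theorem f741067 : Led Lsl_ft (LP (LK LD1_c5 LD2_c45 LD3_c34)) = v15717 :=
  Lrfl
theorem f741068 : Led Lsl_af (LP (LK LD1_c5 LD2_c45 LD3_c60)) = v15717 :=
  Lgr Lrot45 (Lpr_ft (K55.f741061 IH) (Lpe (K55.f741058 IH) (Lpr_ft (f741067 IH) (Lpn v15717))))
theorem f741374 : v15717 = (LP (LK LD1_c9 LD2_c5 LD3_c5)) :=
  (Llr Lrot117 (Lpe (f741068 IH) (Lpr_dt (K55.f741335 IH) (Lpr_at (K55.f741371 IH) (Lpe (K50.f640407 IH) (Lpn (LP (LK LD1_c9 LD2_c5 LD3_c5)))))))).symm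
theorem f181167 : Led Lsl_dt (LP (LK LD1_c11 LD2_c21 LD3_c35)) = (LP (LK LD1_c5 LD2_c45 LD3_c34)) :=
  Lre_d IH (LK LD1_c11 LD2_c21 LD3_c35) (LK LD1_c5 LD2_c45 LD3_c34) Lrfl Lrfl
theorem f741379 : Led Lsl_ff (LP (LK LD1_c11 LD2_c21 LD3_c35)) = (LP (LK LD1_c12 LD2_c23 LD3_c44)) :=
  Lgr Lrot19 (Lpr_dt (f181167 IH) (Lpr_ft (f741067 IH) (Lpqs (f741374 IH) (Lpr_dt (K50.f640409 IH) (Lpn (LP (LK LD1_c12 LD2_c23 LD3_c44)))))))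
theorem f741037 : Led Lsl_bt (LP (LK LD1_c11 LD2_c21 LD3_c34)) = (LP (LK LD1_c5 LD2_c45 LD3_c34)) :=
  Lre_b IH (LK LD1_c11 LD2_c21 LD3_c34) (LK LD1_c5 LD2_c45 LD3_c34) Lrfl Lrfl
theorem f168303 : Led Lsl_dt (LP (LK LD1_c5 LD2_c45 LD3_c34)) = (LP (LK LD1_c11 LD2_c21 LD3_c35)) :=
  Lre_d IH (LK LD1_c5 LD2_c45 LD3_c34) (LK LD1_c11 LD2_c21 LD3_c35) Lrfl Lrfl
theorem f751623 : Led Lsl_bt (LP (LK LD1_c11 LD2_c21 LD3_c35)) = (LP (LK LD1_c11 LD2_c50 LD3_c23)) :=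
  Lgr Lrot95 (Lpe (f168303 IH) (Lpe (f741037 IH) (Lpr_df (K57.f751613 IH) (Lpn (LP (LK LD1_c11 LD2_c50 LD3_c23))))))
theorem f780951 : Led Lsl_ft (LP (LK LD1_c11 LD2_c50 LD3_c23)) = (LP (LK LD1_c6 LD2_c45 LD3_c21)) :=
  Lgr Lrot75 (Lpe (f751623 IH) (Lpr_ff (f741379 IH) (Lpr_bf (f780947 IH) (Lpn (LP (LK LD1_c6 LD2_c45 LD3_c21))))))
theorem f780955 : Led Lsl_ff (LP (LK LD1_c11 LD2_c50 LD3_c23)) = (LP (LK LD1_c6 LD2_c45 LD3_c21)) :=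
  Lgr Lrot3 (Lpr_ft (f780951 IH) (Lpn (LP (LK LD1_c6 LD2_c45 LD3_c21))))
theorem f780936 : Led Lsl_dt (LP (LK LD1_c12 LD2_c3 LD3_c48)) = (LP (LK LD1_c6 LD2_c45 LD3_c21)) :=
  Lgr Lrot42 (Lpr_df (f780933 IH) (Lpn (LP (LK LD1_c6 LD2_c45 LD3_c21))))
theorem f780957 : Led Lsl_ft (LP (LK LD1_c11 LD2_c21 LD3_c34)) = (LP (LK LD1_c12 LD2_c3 LD3_c48)) :=
  Lgr Lrot54 (Lpr_df (K57.f751613 IH) (Lpr_ff (f780955 IH) (Lpe (f780936 IH) (Lpn (LP (LK LD1_c12 LD2_c3 LD3_c48))))))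
theorem f141861 : Led Lsl_et (LP (LK LD1_c9 LD2_c13 LD3_c3)) = (LP (LK LD1_c4 LD2_c38 LD3_c35)) :=
  Lre_e IH (LK LD1_c9 LD2_c13 LD3_c3) (LK LD1_c4 LD2_c38 LD3_c35) Lrfl Lrfl
theorem f141862 : Led Lsl_dt (LP (LK LD1_c9 LD2_c13 LD3_c3)) = (LP (LK LD1_c17 LD2_c7 LD3_c35)) :=
  Lre_d IH (LK LD1_c9 LD2_c13 LD3_c3) (LK LD1_c17 LD2_c7 LD3_c35) Lrfl Lrfl
theorem f141863 : Led Lsl_gt (LP (LK LD1_c11 LD2_c38 LD3_c24)) = (LP (LK LD1_c17 LD2_c7 LD3_c35)) :=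
  Lgr Lrot139 (Lpe (K51.f141860 IH) (Lpe (K50.f141816 IH) (Lpe (K51.f141854 IH) (Lpr_dt (K8.f141852 IH) (Lpe (K8.f26870 IH) (Lpe (K8.f26770 IH) (Lpr_et (K8.f26841 IH) (Lpe (K55.f26852 IH) (Lpe (f141861 IH) (Lpr_dt (f141862 IH) (Lpn (LP (LK LD1_c17 LD2_c7 LD3_c35)))))))))))))
theorem f780986 : Led Lsl_af (LP (LK LD1_c17 LD2_c7 LD3_c35)) = (LP (LK LD1_c12 LD2_c3 LD3_c48)) :=
  Lgr Lrot31 (Lpe (f141863 IH) (Lpe (K57.f751625 IH) (Lpr_ft (f780957 IH) (Lpn (LP (LK LD1_c12 LD2_c3 LD3_c48))))))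
theorem f141867 : Led Lsl_dt (LP (LK LD1_c17 LD2_c7 LD3_c35)) = (LP (LK LD1_c9 LD2_c13 LD3_c3)) :=
  Lre_d IH (LK LD1_c17 LD2_c7 LD3_c35) (LK LD1_c9 LD2_c13 LD3_c3) Lrfl Lrfl
theorem f780990 : Led Lsl_at (LP (LK LD1_c9 LD2_c13 LD3_c3)) = (LP (LK LD1_c6 LD2_c45 LD3_c21)) :=
  Lgr Lrot51 (Lpe (f141867 IH) (Lpr_af (f780986 IH) (Lpr_df (f780933 IH) (Lpn (LP (LK LD1_c6 LD2_c45 LD3_c21))))))
theorem f700741 : Led Lsl_et (LP (LK LD1_c4 LD2_c38 LD3_c35)) = (LP (LK LD1_c9 LD2_c13 LD3_c3)) :=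
  Lre_e IH (LK LD1_c4 LD2_c38 LD3_c35) (LK LD1_c9 LD2_c13 LD3_c3) Lrfl Lrfl
theorem f700751 : Led Lsl_af (LP (LK LD1_c4 LD2_c38 LD3_c35)) = v13054 :=
  Lgr Lrot45 (Lpr_ft (f700738 IH) (Lpe (f700737 IH) (Lpr_ft (f700750 IH) (Lpn v13054))))
theorem f781004 : v13054 = (LP (LK LD1_c9 LD2_c12 LD3_c50)) :=
  (Llr Lrot50 (Lpe (f700751 IH) (Lpr_et (f700741 IH) (Lpr_at (f780990 IH) (Lpe (f780941 IH) (Lpn (LP (LK LD1_c9 LD2_c12 LD3_c50)))))))).symm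
theorem f150498 : Led Lsl_gt (LP (LK LD1_c9 LD2_c12 LD3_c49)) = (LP (LK LD1_c4 LD2_c38 LD3_c37)) :=
  Lre_g IH (LK LD1_c9 LD2_c12 LD3_c49) (LK LD1_c4 LD2_c38 LD3_c37) Lrfl Lrfl
theorem f781014 : (LP (LK LD1_c9 LD2_c12 LD3_c49)) = v13049 :=
  (Llr Lrot47 (Lpr_gt (f150498 IH) (Lpr_gt (f150497 IH) (Lpq (f781004 IH) (Lpe (f700754 IH) (Lpr_ff (f700739 IH) (Lpn v13049))))))).symm
def v13053 : LQ := Led Lsl_et (LP (LK LD1_c4 LD2_c38 LD3_c34))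
theorem f700748 : Led Lsl_et (LP (LK LD1_c4 LD2_c38 LD3_c34)) = v13053 :=
  Lrfl
theorem f700749 : Led Lsl_ef (LP (LK LD1_c4 LD2_c38 LD3_c34)) = v13053 :=
  Lgr Lrot88 (Lpr_et (f700748 IH) (Lpn v13053))
theorem f645872 : Led Lsl_et (LP (LK LD1_c11 LD2_c50 LD3_c23)) = (LP (LK LD1_c6 LD2_c3 LD3_c17)) :=
  Lre_e IH (LK LD1_c11 LD2_c50 LD3_c23) (LK LD1_c6 LD2_c3 LD3_c17) Lrfl Lrfl
def v16601 : LQ := Led Lsl_ft (LP (LK LD1_c6 LD2_c3 LD3_c17))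
theorem f750674 : Led Lsl_ft (LP (LK LD1_c6 LD2_c3 LD3_c17)) = v16601 :=
  Lrfl
theorem f781010 : v13053 = v16601 :=
  (Llr Lrot21 (Lpe (f700749 IH) (Lpr_ft (f700750 IH) (Lpqs (f781004 IH) (Lpr_et (f780945 IH) (Lpe (f780955 IH) (Lpr_et (f645872 IH) (Lpr_ft (f750674 IH) (Lpn v16601))))))))).symm
def v16599 : LQ := Led Lsl_at (LP (LK LD1_c6 LD2_c3 LD3_c17))
theorem f750668 : Led Lsl_at (LP (LK LD1_c6 LD2_c3 LD3_c17)) = v16599 :=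
  Lrfl
theorem f750669 : Led Lsl_af (LP (LK LD1_c6 LD2_c3 LD3_c17)) = v16599 :=
  Lgr Lrot0 (Lpr_at (f750668 IH) (Lpn v16599))
theorem f501185 : Led Lsl_gt (LP (LK LD1_c6 LD2_c3 LD3_c18)) = (LP (LK LD1_c2 LD2_c57 LD3_c45)) :=
  Lre_g IH (LK LD1_c6 LD2_c3 LD3_c18) (LK LD1_c2 LD2_c57 LD3_c45) Lrfl Lrfl
theorem f750670 : Led Lsl_ft (LP (LK LD1_c6 LD2_c3 LD3_c18)) = v16599 :=
  Lgr Lrot2 (Lpr_gt (f501185 IH) (Lpr_gt (K57.f501183 IH) (Lpr_af (f750669 IH) (Lpn v16599))))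
theorem f750675 : Led Lsl_af (LP (LK LD1_c6 LD2_c3 LD3_c18)) = v16601 :=
  Lgr Lrot45 (Lpr_ft (f750670 IH) (Lpe (f750669 IH) (Lpr_ft (f750674 IH) (Lpn v16601))))
def v16605 : LQ := Led Lsl_et (LP (LK LD1_c6 LD2_c3 LD3_c18))
theorem f750684 : Led Lsl_et (LP (LK LD1_c6 LD2_c3 LD3_c18)) = v16605 :=
  Lrfl
theorem f781011 : v13049 = v16605 :=
  (Llr Lrot50 (Lpe (f700737 IH) (Lpr_et (f700748 IH) (Lpqs (f781010 IH) (Lpe (f750675 IH) (Lpr_et (f750684 IH) (Lpn v16605))))))).symm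
theorem f750685 : Led Lsl_ef (LP (LK LD1_c6 LD2_c3 LD3_c18)) = v16605 :=
  Lgr Lrot88 (Lpr_et (f750684 IH) (Lpn v16605))
theorem f781017 : Led Lsl_et (LP (LK LD1_c9 LD2_c12 LD3_c49)) = (LP (LK LD1_c6 LD2_c3 LD3_c18)) :=
  Leop (Lpr_ef (f750685 IH) (Lpq (f781011 IH) (Lpq (f781014 IH) (Lpn (LP (LK LD1_c9 LD2_c12 LD3_c49))))))
theorem seed_1462 : LEOK LG_e (LK LD1_c9 LD2_c12 LD3_c49) :=
  Leoe_e (LK LD1_c9 LD2_c12 LD3_c49) (f781017 IH)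
theorem f781175 : Led Lsl_et (LP (LK LD1_c6 LD2_c45 LD3_c18)) = (LP (LK LD1_c9 LD2_c10 LD3_c47)) :=
  Lgr Lrot71 (Lpr_df (f780932 IH) (Lpe (f780927 IH) (Lpe (K45.f206814 IH) (Lpe (K42.f206815 IH) (Lpr_df (K42.f206820 IH) (Lpn (LP (LK LD1_c9 LD2_c10 LD3_c47))))))))
theorem f781176 : Led Lsl_et (LP (LK LD1_c6 LD2_c45 LD3_c18)) = (LP (LK LD1_c9 LD2_c10 LD3_c47)) :=
  Leop (Lpe (f781175 IH) (Lpn (LP (LK LD1_c6 LD2_c45 LD3_c18))))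
theorem seed_1463 : LEOK LG_e (LK LD1_c6 LD2_c45 LD3_c18) :=
  Leoe_e (LK LD1_c6 LD2_c45 LD3_c18) (f781176 IH)
theorem f780929 : Led Lsl_ff (LP (LK LD1_c9 LD2_c7 LD3_c32)) = v19604 :=
  Lgr Lrot72 (Lpr_et (K51.f442685 IH) (Lpe (K56.f615321 IH) (Lpr_et (K56.f557984 IH) (Lpr_ft (K45.f615013 IH) (Lpr_et (f780927 IH) (Lpn v19604))))))
theorem f780931 : Led Lsl_ft (LP (LK LD1_c9 LD2_c7 LD3_c32)) = v19604 :=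
  Lgr Lrot48 (Lpr_ff (f780929 IH) (Lpn v19604))
theorem f781177 : Led Lsl_ft (LP (LK LD1_c6 LD2_c45 LD3_c18)) = K51.v13875 :=
  Lgr Lrot54 (Lpr_df (f780932 IH) (Lpe (f780931 IH) (Lpe (K56.f707298 IH) (Lpn K51.v13875))))
def v6356 : LQ := Led Lsl_gt (LP (LK LD1_c3 LD2_c20 LD3_c45))
theorem f652967 : Led Lsl_gt (LP (LK LD1_c3 LD2_c20 LD3_c45)) = v6356 :=
  Lrfl
theorem f781179 : Led Lsl_af v6356 = K51.v13875 :=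
  Lgr Lrot31 (Lpe (f652967 IH) (Lpe (f141005 IH) (Lpr_ft (f781177 IH) (Lpn K51.v13875))))
theorem f781180 : Led Lsl_at v6356 = K51.v13875 :=
  Lgr Lrot100 (Lpr_af (f781179 IH) (Lpn K51.v13875))
def v13874 : LQ := Led Lsl_gt (LP (LK LD1_c4 LD2_c49 LD3_c24))
theorem f705632 : Led Lsl_gt (LP (LK LD1_c4 LD2_c49 LD3_c24)) = v13874 :=
  Lrfl
theorem f705633 : Led Lsl_gf (LP (LK LD1_c6 LD2_c45 LD3_c14)) = v13874 :=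
  Lgr Lrot76 (Lpe (K49.f509397 IH) (Lpr_ff (K49.f510180 IH) (Lpr_gt (f705632 IH) (Lpn v13874))))
theorem f781181 : Led Lsl_ff v6356 = v13874 :=
  Lgr Lrot52 (Lpr_at (f781180 IH) (Lpe (K51.f705635 IH) (Lpr_gf (f705633 IH) (Lpn v13874))))
theorem f781183 : Led Lsl_ft v6356 = v13874 :=
  Lgr Lrot48 (Lpr_ff (f781181 IH) (Lpn v13874))
theorem f781184 : Led Lsl_af (LP (LK LD1_c6 LD2_c45 LD3_c18)) = v13874 :=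
  Lgr Lrot45 (Lpr_ft (f781177 IH) (Lpe (f781179 IH) (Lpr_ft (f781183 IH) (Lpn v13874))))
theorem f615039 : Led Lsl_af (LP (LK LD1_c5 LD2_c57 LD3_c24)) = (LP (LK LD1_c9 LD2_c10 LD3_c47)) :=
  Lgr Lrot0 (Lpr_at (K42.f615037 IH) (Lpn (LP (LK LD1_c9 LD2_c10 LD3_c47))))
def v16307 : LQ := Led Lsl_et (LP (LK LD1_c5 LD2_c57 LD3_c24))
theorem f748379 : Led Lsl_et (LP (LK LD1_c5 LD2_c57 LD3_c24)) = v16307 :=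
  Lrfl
theorem f781185 : v16307 = v13874 :=
  (Llr Lrot123 (Lpe (f748379 IH) (Lpr_af (f615039 IH) (Lpe (f781175 IH) (Lpr_af (f781184 IH) (Lpn v13874)))))).symm
theorem f748381 : Led Lsl_ef (LP (LK LD1_c5 LD2_c57 LD3_c24)) = v16307 :=
  Lgr Lrot88 (Lpr_et (f748379 IH) (Lpn v16307))
theorem f781178 : Led Lsl_ff (LP (LK LD1_c6 LD2_c45 LD3_c18)) = K51.v13875 :=
  Lgr Lrot3 (Lpr_ft (f781177 IH) (Lpn K51.v13875))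
theorem f781182 : Led Lsl_at (LP (LK LD1_c6 LD2_c45 LD3_c18)) = v13874 :=
  Lgr Lrot66 (Lpr_ff (f781178 IH) (Lpe (f781180 IH) (Lpr_ff (f781181 IH) (Lpn v13874))))
theorem f781186 : Led Lsl_et (LP (LK LD1_c9 LD2_c10 LD3_c47)) = (LP (LK LD1_c6 LD2_c45 LD3_c18)) :=
  Lgr Lrot123 (Lpe (K42.f615037 IH) (Lpr_ef (f748381 IH) (Lpqs (f781185 IH) (Lpe (f781182 IH) (Lpn (LP (LK LD1_c6 LD2_c45 LD3_c18)))))))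
theorem f510297 : Led Lsl_et (LP (LK LD1_c6 LD2_c45 LD3_c20)) = (LP (LK LD1_c3 LD2_c20 LD3_c45)) :=
  Lre_e IH (LK LD1_c6 LD2_c45 LD3_c20) (LK LD1_c3 LD2_c20 LD3_c45) Lrfl Lrfl
theorem f652972 : Led Lsl_dt (LP (LK LD1_c6 LD2_c45 LD3_c20)) = (LP (LK LD1_c12 LD2_c54 LD3_c59)) :=
  Lre_d IH (LK LD1_c6 LD2_c45 LD3_c20) (LK LD1_c12 LD2_c54 LD3_c59) Lrfl Lrfl
theorem f780988 : Led Lsl_at (LP (LK LD1_c17 LD2_c7 LD3_c35)) = (LP (LK LD1_c12 LD2_c3 LD3_c48)) :=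
  Lgr Lrot100 (Lpr_af (f780986 IH) (Lpn (LP (LK LD1_c12 LD2_c3 LD3_c48))))
theorem f140674 : Led Lsl_gt (LP (LK LD1_c12 LD2_c3 LD3_c49)) = (LP (LK LD1_c6 LD2_c12 LD3_c2)) :=
  Lre_g IH (LK LD1_c12 LD2_c3 LD3_c49) (LK LD1_c6 LD2_c12 LD3_c2) Lrfl Lrfl
theorem f781097 : Led Lsl_ff (LP (LK LD1_c17 LD2_c7 LD3_c35)) = (LP (LK LD1_c12 LD2_c3 LD3_c49)) :=
  Lgr Lrot52 (Lpr_at (f780988 IH) (Lpe (f140676 IH) (Lpe (f140674 IH) (Lpn (LP (LK LD1_c12 LD2_c3 LD3_c49))))))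
theorem f781105 : Led Lsl_ft (LP (LK LD1_c17 LD2_c7 LD3_c35)) = (LP (LK LD1_c12 LD2_c3 LD3_c49)) :=
  Lgr Lrot48 (Lpr_ff (f781097 IH) (Lpn (LP (LK LD1_c12 LD2_c3 LD3_c49))))
theorem f714756 : Led Lsl_gt (LP (LK LD1_c6 LD2_c45 LD3_c21)) = (LP (LK LD1_c12 LD2_c54 LD3_c48)) :=
  Lre_g IH (LK LD1_c6 LD2_c45 LD3_c21) (LK LD1_c12 LD2_c54 LD3_c48) Lrfl Lrfl
theorem f714757 : Led Lsl_gt (LP (LK LD1_c12 LD2_c54 LD3_c48)) = (LP (LK LD1_c6 LD2_c45 LD3_c22)) :=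
  Lre_g IH (LK LD1_c12 LD2_c54 LD3_c48) (LK LD1_c6 LD2_c45 LD3_c22) Lrfl Lrfl
theorem f780959 : Led Lsl_at (LP (LK LD1_c11 LD2_c50 LD3_c23)) = (LP (LK LD1_c6 LD2_c45 LD3_c22)) :=
  Lgr Lrot26 (Lpr_ff (f780955 IH) (Lpr_gt (f714756 IH) (Lpr_gt (f714757 IH) (Lpn (LP (LK LD1_c6 LD2_c45 LD3_c22))))))
theorem f781002 : Led Lsl_ff (LP (LK LD1_c9 LD2_c13 LD3_c3)) = (LP (LK LD1_c6 LD2_c45 LD3_c22)) :=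
  Lgr Lrot30 (Lpr_at (f780990 IH) (Lpe (f780955 IH) (Lpr_at (f780959 IH) (Lpn (LP (LK LD1_c6 LD2_c45 LD3_c22))))))
theorem f781111 : Led Lsl_df (LP (LK LD1_c6 LD2_c45 LD3_c22)) = (LP (LK LD1_c12 LD2_c3 LD3_c49)) :=
  Lgr Lrot78 (Lpe (f781002 IH) (Lpr_dt (f141862 IH) (Lpr_ft (f781105 IH) (Lpn (LP (LK LD1_c12 LD2_c3 LD3_c49))))))
theorem f141044 : Led Lsl_gt (LP (LK LD1_c6 LD2_c45 LD3_c22)) = (LP (LK LD1_c3 LD2_c20 LD3_c46)) :=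
  Lre_g IH (LK LD1_c6 LD2_c45 LD3_c22) (LK LD1_c3 LD2_c20 LD3_c46) Lrfl Lrfl
theorem f510120 : Led Lsl_et (LP (LK LD1_c6 LD2_c45 LD3_c23)) = (LP (LK LD1_c12 LD2_c54 LD3_c59)) :=
  Lre_e IH (LK LD1_c6 LD2_c45 LD3_c23) (LK LD1_c12 LD2_c54 LD3_c59) Lrfl Lrfl
theorem f706385 : Led Lsl_gf (LP (LK LD1_c12 LD2_c3 LD3_c49)) = (LP (LK LD1_c9 LD2_c4 LD3_c14)) :=
  Lgr Lrot47 (Lpr_gt (f140674 IH) (Lpr_af (K55.f706379 IH) (Lpe (K55.f706366 IH) (Lpn (LP (LK LD1_c9 LD2_c4 LD3_c14))))))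
def v16583 : LQ := Led Lsl_et (LP (LK LD1_c6 LD2_c3 LD3_c0))
theorem f750520 : Led Lsl_et (LP (LK LD1_c6 LD2_c3 LD3_c0)) = v16583 :=
  Lrfl
theorem f781113 : Led Lsl_gt (LP (LK LD1_c12 LD2_c54 LD3_c59)) = v16583 :=
  Lgr Lrot131 (Lpe (f510120 IH) (Lpr_dt (K55.f510117 IH) (Lpe (f141044 IH) (Lpr_df (f781111 IH) (Lpr_gf (f706385 IH) (Lpe (K52.f559994 IH) (Lpr_dt (K45.f140533 IH) (Lpr_gf (K51.f644804 IH) (Lpe (K46.f507614 IH) (Lpr_et (f750520 IH) (Lpn v16583)))))))))))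
theorem f750524 : Led Lsl_ef (LP (LK LD1_c6 LD2_c3 LD3_c0)) = v16583 :=
  Lgr Lrot88 (Lpr_et (f750520 IH) (Lpn v16583))
def v16304 : LQ := Led Lsl_et (LP (LK LD1_c5 LD2_c57 LD3_c21))
theorem f748358 : Led Lsl_et (LP (LK LD1_c5 LD2_c57 LD3_c21)) = v16304 :=
  Lrfl
theorem f750527 : Led Lsl_dt v16304 = v16583 :=
  Lgr Lrot77 (Lpe (f748358 IH) (Lpe (K51.f82955 IH) (Lpe (K46.f507548 IH) (Lpe (K46.f507614 IH) (Lpr_ef (f750524 IH) (Lpn v16583))))))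
theorem f748360 : Led Lsl_ef (LP (LK LD1_c5 LD2_c57 LD3_c21)) = v16304 :=
  Lgr Lrot88 (Lpr_et (f748358 IH) (Lpn v16304))
theorem f641164 : Led Lsl_gt (LP (LK LD1_c5 LD2_c57 LD3_c21)) = (LP (LK LD1_c11 LD2_c39 LD3_c60)) :=
  Lre_g IH (LK LD1_c5 LD2_c57 LD3_c21) (LK LD1_c11 LD2_c39 LD3_c60) Lrfl Lrfl
theorem f781189 : Led Lsl_df (LP (LK LD1_c12 LD2_c53 LD3_c32)) = (LP (LK LD1_c11 LD2_c39 LD3_c60)) :=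
  Lgr Lrot135 (Lpr_gt (K51.f206826 IH) (Lpr_df (K42.f206820 IH) (Lpr_et (f781186 IH) (Lpr_gt (f141005 IH) (Lpe (f510297 IH) (Lpr_dt (f652972 IH) (Lpr_gt (f781113 IH) (Lpe (f750527 IH) (Lpe (f748360 IH) (Lpr_gt (f641164 IH) (Lpn (LP (LK LD1_c11 LD2_c39 LD3_c60)))))))))))))
theorem f781190 : Led Lsl_dt (LP (LK LD1_c11 LD2_c39 LD3_c60)) = (LP (LK LD1_c12 LD2_c53 LD3_c32)) :=
  Leop (Lpr_df (f781189 IH) (Lpn (LP (LK LD1_c11 LD2_c39 LD3_c60))))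
theorem seed_1464 : LEOK LG_d (LK LD1_c11 LD2_c39 LD3_c60) :=
  Leoe_d (LK LD1_c11 LD2_c39 LD3_c60) (f781190 IH)
def v19609 : LQ := Led Lsl_ft (LP (LK LD1_c6 LD2_c44 LD3_c41))
theorem f781223 : Led Lsl_ft (LP (LK LD1_c6 LD2_c44 LD3_c41)) = v19609 :=
  Lrfl
theorem f781226 : Led Lsl_ff (LP (LK LD1_c6 LD2_c44 LD3_c41)) = v19609 :=
  Lgr Lrot3 (Lpr_ft (f781223 IH) (Lpn v19609))
theorem f700330 : Led Lsl_ff (LP (LK LD1_c11 LD2_c16 LD3_c15)) = (LP (LK LD1_c12 LD2_c53 LD3_c50)) :=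
  Lgr Lrot3 (Lpr_ft (K55.f700326 IH) (Lpn (LP (LK LD1_c12 LD2_c53 LD3_c50))))
theorem f552639 : Led Lsl_dt (LP (LK LD1_c11 LD2_c16 LD3_c15)) = (LP (LK LD1_c20 LD2_c12 LD3_c14)) :=
  Lre_d IH (LK LD1_c11 LD2_c16 LD3_c15) (LK LD1_c20 LD2_c12 LD3_c14) Lrfl Lrfl
theorem f700333 : Led Lsl_ft (LP (LK LD1_c20 LD2_c12 LD3_c14)) = (LP (LK LD1_c21 LD2_c9 LD3_c1)) :=
  Lgr Lrot54 (Lpe (f552639 IH) (Lpr_ff (f700330 IH) (Lpr_df (K55.f116915 IH) (Lpn (LP (LK LD1_c21 LD2_c9 LD3_c1))))))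
theorem f747187 : Led Lsl_ff (LP (LK LD1_c11 LD2_c21 LD3_c31)) = (LP (LK LD1_c12 LD2_c3 LD3_c33)) :=
  Lgr Lrot72 (Lpr_et (K55.f168311 IH) (Lpr_ft (K55.f740982 IH) (Lpqs (K55.f747180 IH) (Lpr_et (K55.f552640 IH) (Lpr_ft (f700333 IH) (Lpr_et (K55.f116922 IH) (Lpn (LP (LK LD1_c12 LD2_c3 LD3_c33)))))))))
theorem f781228 : Led Lsl_dt (LP (LK LD1_c11 LD2_c21 LD3_c31)) = v19609 :=
  Lgr Lrot60 (Lpr_ff (f747187 IH) (Lpe (K55.f116906 IH) (Lpr_ff (f781226 IH) (Lpn v19609))))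
theorem f706558 : Led Lsl_df (LP (LK LD1_c6 LD2_c44 LD3_c61)) = (LP (LK LD1_c6 LD2_c11 LD3_c59)) :=
  Lgr Lrot38 (Lpr_dt (K51.f706555 IH) (Lpn (LP (LK LD1_c6 LD2_c11 LD3_c59))))
theorem f781229 : Led Lsl_gt (LP (LK LD1_c6 LD2_c44 LD3_c61)) = v19609 :=
  Lgr Lrot139 (Lpr_df (f706558 IH) (Lpe (K51.f73045 IH) (Lpe (K40.f73018 IH) (Lpr_dt (K40.f73043 IH) (Lpq (K38.f547708 IH) (Lpe (K38.f495223 IH) (Lpr_df (K18.f168221 IH) (Lpr_et (K18.f168245 IH) (Lpe (K55.f168249 IH) (Lpe (K55.f168311 IH) (Lpr_dt (f781228 IH) (Lpn v19609))))))))))))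
theorem f781227 : Led Lsl_at K55.v8711 = v19609 :=
  Lgr Lrot66 (Lpe (K55.f672064 IH) (Lpr_af (K55.f698914 IH) (Lpr_ff (f781226 IH) (Lpn v19609))))
theorem f781230 : Led Lsl_gf (LP (LK LD1_c6 LD2_c44 LD3_c61)) = (LP (LK LD1_c6 LD2_c46 LD3_c49)) :=
  Lgr Lrot47 (Lpr_gt (f781229 IH) (Lpe (f781227 IH) (Lpe (K55.f672064 IH) (Lpn (LP (LK LD1_c6 LD2_c46 LD3_c49))))))
theorem f781231 : Led Lsl_gt (LP (LK LD1_c6 LD2_c46 LD3_c49)) = (LP (LK LD1_c6 LD2_c44 LD3_c61)) :=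
  Leop (Lpr_gf (f781230 IH) (Lpn (LP (LK LD1_c6 LD2_c46 LD3_c49))))
theorem seed_1465 : LEOK LG_g (LK LD1_c6 LD2_c46 LD3_c49) :=
  Leoe_g (LK LD1_c6 LD2_c46 LD3_c49) (f781231 IH)
theorem f509316 : Led Lsl_ft (LP (LK LD1_c6 LD2_c44 LD3_c61)) = (LP (LK LD1_c3 LD2_c20 LD3_c36)) :=
  Lre_f IH (LK LD1_c6 LD2_c44 LD3_c61) (LK LD1_c3 LD2_c20 LD3_c36) Lrfl Lrfl
theorem f781232 : Led Lsl_gf K51.v6337 = v19609 :=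
  Lgr Lrot76 (Lpe (K51.f652887 IH) (Lpe (f509316 IH) (Lpr_gt (f781229 IH) (Lpn v19609))))
theorem f781233 : Led Lsl_gt K51.v6337 = (LP (LK LD1_c6 LD2_c46 LD3_c49)) :=
  Lgr Lrot46 (Lpr_gf (f781232 IH) (Lpe (f781226 IH) (Lpe (K55.f698914 IH) (Lpn (LP (LK LD1_c6 LD2_c46 LD3_c49))))))
theorem f781234 : Led Lsl_gt (LP (LK LD1_c6 LD2_c44 LD3_c46)) = (LP (LK LD1_c6 LD2_c46 LD3_c49)) :=
  Leop (Lpe (f781233 IH) (Lpqs (K51.f706577 IH) (Lpn (LP (LK LD1_c6 LD2_c44 LD3_c46)))))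
theorem seed_1466 : LEOK LG_g (LK LD1_c6 LD2_c44 LD3_c46) :=
  Leoe_g (LK LD1_c6 LD2_c44 LD3_c46) (f781234 IH)
def v19614 : LQ := Led Lsl_dt (LP (LK LD1_c6 LD2_c44 LD3_c50))
theorem f781255 : Led Lsl_dt (LP (LK LD1_c6 LD2_c44 LD3_c50)) = v19614 :=
  Lrfl
theorem f446204 : Led Lsl_gt (LP (LK LD1_c9 LD2_c7 LD3_c52)) = (LP (LK LD1_c4 LD2_c35 LD3_c42)) :=
  Lre_g IH (LK LD1_c9 LD2_c7 LD3_c52) (LK LD1_c4 LD2_c35 LD3_c42) Lrfl Lrfl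
theorem f613126 : Led Lsl_at (LP (LK LD1_c4 LD2_c36 LD3_c40)) = (LP (LK LD1_c2 LD2_c15 LD3_c47)) :=
  Lre_a IH (LK LD1_c4 LD2_c36 LD3_c40) (LK LD1_c2 LD2_c15 LD3_c47) Lrfl Lrfl
theorem f622269 : Led Lsl_ff (LP (LK LD1_c4 LD2_c36 LD3_c40)) = (LP (LK LD1_c9 LD2_c7 LD3_c52)) :=
  Lgr Lrot52 (Lpr_at (f613126 IH) (Lpr_gf (K51.f622267 IH) (Lpe (f446204 IH) (Lpn (LP (LK LD1_c9 LD2_c7 LD3_c52))))))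
theorem f622281 : Led Lsl_et (LP (LK LD1_c4 LD2_c37 LD3_c35)) = (LP (LK LD1_c9 LD2_c7 LD3_c52)) :=
  Lgr Lrot69 (Lpe (K55.f622280 IH) (Lpe (K50.f494480 IH) (Lpe (K8.f141267 IH) (Lpe (K49.f428912 IH) (Lpr_ff (f622269 IH) (Lpn (LP (LK LD1_c9 LD2_c7 LD3_c52))))))))
theorem f615059 : Led Lsl_gt (LP (LK LD1_c17 LD2_c2 LD3_c15)) = (LP (LK LD1_c9 LD2_c10 LD3_c49)) :=
  Lgr Lrot5 (Lpr_ft (K42.f615045 IH) (Lpe (f615039 IH) (Lpr_gf (K55.f614727 IH) (Lpn (LP (LK LD1_c9 LD2_c10 LD3_c49))))))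
theorem f652707 : Led Lsl_et (LP (LK LD1_c3 LD2_c20 LD3_c31)) = (LP (LK LD1_c6 LD2_c44 LD3_c50)) :=
  Lre_e IH (LK LD1_c3 LD2_c20 LD3_c31) (LK LD1_c6 LD2_c44 LD3_c50) Lrfl Lrfl
theorem f706660 : Led Lsl_gf (LP (LK LD1_c12 LD2_c53 LD3_c33)) = (LP (LK LD1_c6 LD2_c44 LD3_c50)) :=
  Lgr Lrot138 (Lpe (K42.f615057 IH) (Lpr_gt (f615059 IH) (Lpe (K55.f599509 IH) (Lpr_et (f622281 IH) (Lpr_gt (f446204 IH) (Lpe (K51.f508536 IH) (Lpr_dt (K51.f622274 IH) (Lpr_gt (K51.f706658 IH) (Lpe (K51.f77018 IH) (Lpr_et (f652707 IH) (Lpn (LP (LK LD1_c6 LD2_c44 LD3_c50)))))))))))))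
theorem f615063 : Led Lsl_bf (LP (LK LD1_c12 LD2_c32 LD3_c46)) = (LP (LK LD1_c12 LD2_c53 LD3_c33)) :=
  Lgr Lrot24 (Lpr_bt (K42.f615061 IH) (Lpn (LP (LK LD1_c12 LD2_c53 LD3_c33))))
theorem f653018 : Led Lsl_af (LP (LK LD1_c12 LD2_c53 LD3_c33)) = K46.v6369 :=
  Lgr Lrot36 (Lpe (f615063 IH) (Lpr_at (K50.f446118 IH) (Lpr_bt (K42.f23853 IH) (Lpe (K35.f507749 IH) (Lpr_bt (K46.f653017 IH) (Lpn K46.v6369))))))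
theorem f706662 : Led Lsl_gt (LP (LK LD1_c6 LD2_c32 LD3_c40)) = (LP (LK LD1_c6 LD2_c44 LD3_c50)) :=
  Lgr Lrot5 (Lpr_ft (K55.f653024 IH) (Lpe (f653018 IH) (Lpr_gf (f706660 IH) (Lpn (LP (LK LD1_c6 LD2_c44 LD3_c50))))))
theorem f706518 : Led Lsl_ft (LP (LK LD1_c17 LD2_c5 LD3_c13)) = (LP (LK LD1_c11 LD2_c49 LD3_c25)) :=
  Lgr Lrot48 (Lpr_ff (K51.f706512 IH) (Lpn (LP (LK LD1_c11 LD2_c49 LD3_c25))))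
theorem f614703 : Led Lsl_ff (LP (LK LD1_c6 LD2_c2 LD3_c36)) = (LP (LK LD1_c9 LD2_c11 LD3_c35)) :=
  Lgr Lrot19 (Lpr_dt (K51.f614675 IH) (Lpr_ft (K42.f614666 IH) (Lpr_dt (K45.f207334 IH) (Lpn (LP (LK LD1_c9 LD2_c11 LD3_c35))))))
theorem f614710 : Led Lsl_gf (LP (LK LD1_c9 LD2_c11 LD3_c37)) = (LP (LK LD1_c17 LD2_c5 LD3_c13)) :=
  Lgr Lrot76 (Lpe (K56.f614697 IH) (Lpr_ff (f614703 IH) (Lpr_gt (K51.f207335 IH) (Lpn (LP (LK LD1_c17 LD2_c5 LD3_c13))))))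
theorem f706506 : Led Lsl_af (LP (LK LD1_c9 LD2_c17 LD3_c23)) = (LP (LK LD1_c11 LD2_c49 LD3_c25)) :=
  Lgr Lrot0 (Lpr_at (K51.f706504 IH) (Lpn (LP (LK LD1_c11 LD2_c49 LD3_c25))))
theorem f706520 : Led Lsl_gt (LP (LK LD1_c9 LD2_c11 LD3_c37)) = (LP (LK LD1_c9 LD2_c17 LD3_c23)) :=
  Lgr Lrot46 (Lpr_gf (f614710 IH) (Lpr_ft (f706518 IH) (Lpe (f706506 IH) (Lpn (LP (LK LD1_c9 LD2_c17 LD3_c23))))))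
theorem f706522 : Led Lsl_gf (LP (LK LD1_c9 LD2_c11 LD3_c35)) = (LP (LK LD1_c9 LD2_c17 LD3_c23)) :=
  Lgr Lrot76 (Lpr_af (K45.f615007 IH) (Lpe (K45.f615013 IH) (Lpr_gt (f706520 IH) (Lpn (LP (LK LD1_c9 LD2_c17 LD3_c23))))))
theorem f706321 : Led Lsl_df (LP (LK LD1_c9 LD2_c17 LD3_c23)) = (LP (LK LD1_c11 LD2_c35 LD3_c59)) :=
  Lgr Lrot38 (Lpr_dt (K51.f706317 IH) (Lpn (LP (LK LD1_c11 LD2_c35 LD3_c59))))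
theorem f642567 : Led Lsl_et (LP (LK LD1_c4 LD2_c37 LD3_c33)) = (LP (LK LD1_c9 LD2_c10 LD3_c46)) :=
  Lre_e IH (LK LD1_c4 LD2_c37 LD3_c33) (LK LD1_c9 LD2_c10 LD3_c46) Lrfl Lrfl
theorem f642566 : Led Lsl_dt (LP (LK LD1_c4 LD2_c37 LD3_c33)) = (LP (LK LD1_c9 LD2_c10 LD3_c45)) :=
  Lre_d IH (LK LD1_c4 LD2_c37 LD3_c33) (LK LD1_c9 LD2_c10 LD3_c45) Lrfl Lrfl
theorem f781260 : Led Lsl_gf (LP (LK LD1_c9 LD2_c10 LD3_c45)) = v19614 :=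
  Lgr Lrot134 (Lpe (f642566 IH) (Lpr_et (f642567 IH) (Lpe (K51.f642876 IH) (Lpr_ef (K51.f614982 IH) (Lpe (f706321 IH) (Lpe (f706522 IH) (Lpe (K45.f207334 IH) (Lpe (K42.f614642 IH) (Lpr_gt (f706662 IH) (Lpr_dt (f781255 IH) (Lpn v19614)))))))))))
theorem f571963 : Led Lsl_dt (LP (LK LD1_c9 LD2_c10 LD3_c45)) = (LP (LK LD1_c4 LD2_c37 LD3_c33)) :=
  Lre_d IH (LK LD1_c9 LD2_c10 LD3_c45) (LK LD1_c4 LD2_c37 LD3_c33) Lrfl Lrfl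
theorem f781261 : Led Lsl_gf (LP (LK LD1_c12 LD2_c43 LD3_c61)) = (LP (LK LD1_c12 LD2_c32 LD3_c51)) :=
  Lgr Lrot144 (Lpr_dt (K51.f100010 IH) (Lpr_gt (K51.f642864 IH) (Lpr_dt (K51.f100013 IH) (Lpe (K45.f100014 IH) (Lpe (f571963 IH) (Lpr_gf (f781260 IH) (Lpe (f781255 IH) (Lpe (f706662 IH) (Lpe (K57.f435456 IH) (Lpn (LP (LK LD1_c12 LD2_c32 LD3_c51))))))))))))
theorem f781262 : Led Lsl_gt (LP (LK LD1_c12 LD2_c32 LD3_c51)) = (LP (LK LD1_c12 LD2_c43 LD3_c61)) :=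
  Leop (Lpr_gf (f781261 IH) (Lpn (LP (LK LD1_c12 LD2_c32 LD3_c51))))
theorem seed_1467 : LEOK LG_g (LK LD1_c12 LD2_c32 LD3_c51) :=
  Leoe_g (LK LD1_c12 LD2_c32 LD3_c51) (f781262 IH)
def v19616 : LQ := Led Lsl_bt (LP (LK LD1_c6 LD2_c44 LD3_c52))
theorem f781274 : Led Lsl_bt (LP (LK LD1_c6 LD2_c44 LD3_c52)) = v19616 :=
  Lrfl
theorem f706701 : Led Lsl_ct (LP (LK LD1_c6 LD2_c44 LD3_c52)) = (LP (LK LD1_c6 LD2_c50 LD3_c31)) :=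
  Lgr Lrot59 (Lpr_cf (K51.f706699 IH) (Lpn (LP (LK LD1_c6 LD2_c50 LD3_c31))))
def v6350 : LQ := Led Lsl_bt (LP (LK LD1_c3 LD2_c20 LD3_c42))
theorem f652942 : Led Lsl_bt (LP (LK LD1_c3 LD2_c20 LD3_c42)) = v6350 :=
  Lrfl
theorem f781278 : Led Lsl_gf v6350 = v19616 :=
  Lgr Lrot124 (Lpe (f652942 IH) (Lpr_ct (K52.f140982 IH) (Lpe (K54.f710635 IH) (Lpr_cf (K54.f710637 IH) (Lpr_bt (K54.f140984 IH) (Lpr_gt (K54.f101704 IH) (Lpr_ct (K17.f413873 IH) (Lpr_gt (K51.f76882 IH) (Lpe (f706701 IH) (Lpr_bt (f781274 IH) (Lpn v19616)))))))))))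
def v19587 : LQ := Led Lsl_gf (LP (LK LD1_c6 LD2_c44 LD3_c14))
theorem f780838 : Led Lsl_gf (LP (LK LD1_c6 LD2_c44 LD3_c14)) = v19587 :=
  Lrfl
theorem f780840 : Led Lsl_ff (LP (LK LD1_c6 LD2_c44 LD3_c52)) = v19587 :=
  Lgr Lrot52 (Lpr_at (K51.f509294 IH) (Lpr_gf (K54.f652758 IH) (Lpq (K54.f739302 IH) (Lpr_gf (f780838 IH) (Lpn v19587)))))
theorem f780843 : Led Lsl_ft (LP (LK LD1_c6 LD2_c44 LD3_c52)) = v19587 :=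
  Lgr Lrot48 (Lpr_ff (f780840 IH) (Lpn v19587))
theorem f780845 : Led Lsl_cf (LP (LK LD1_c12 LD2_c56 LD3_c25)) = v19587 :=
  Lgr Lrot108 (Lpr_ft (K51.f706703 IH) (Lpe (K51.f706699 IH) (Lpr_ft (f780843 IH) (Lpn v19587))))
def v2178 : LQ := Led Lsl_bt (LP (LK LD1_c1 LD2_c36 LD3_c54))
theorem f509491 : Led Lsl_bt (LP (LK LD1_c1 LD2_c36 LD3_c54)) = v2178 :=
  Lrfl
theorem f509493 : Led Lsl_cf (LP (LK LD1_c1 LD2_c36 LD3_c58)) = v2178 :=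
  Lgr Lrot97 (Lpr_bt (K50.f413577 IH) (Lpr_ct (K16.f413451 IH) (Lpr_bt (K46.f414092 IH) (Lpr_ct (K46.f414624 IH) (Lpr_bt (f509491 IH) (Lpn v2178))))))
theorem f509494 : Led Lsl_ct (LP (LK LD1_c1 LD2_c36 LD3_c58)) = v2178 :=
  Lgr Lrot59 (Lpr_cf (f509493 IH) (Lpn v2178))
def v8718 : LQ := Led Lsl_gf v2178
theorem f672078 : Led Lsl_gf v2178 = v8718 :=
  Lrfl
def v4873 : LQ := Led Lsl_et (LP (LK LD1_c2 LD2_c51 LD3_c20))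
theorem f640662 : Led Lsl_et (LP (LK LD1_c2 LD2_c51 LD3_c20)) = v4873 :=
  Lrfl
theorem f640664 : Led Lsl_ef (LP (LK LD1_c2 LD2_c51 LD3_c20)) = v4873 :=
  Lgr Lrot88 (Lpr_et (f640662 IH) (Lpn v4873))
def v1910 : LQ := Led Lsl_ct (LP (LK LD1_c1 LD2_c31 LD3_c22))
theorem f506353 : Led Lsl_ct (LP (LK LD1_c1 LD2_c31 LD3_c22)) = v1910 :=
  Lrfl
def v1110 : LQ := Led Lsl_ct K35.v265
theorem f491553 : Led Lsl_ct K35.v265 = v1110 :=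
  Lrfl
def v337 : LQ := Led Lsl_ft (LP (LK LD1_c0 LD2_c29 LD3_c20))
theorem f452232 : Led Lsl_ft (LP (LK LD1_c0 LD2_c29 LD3_c20)) = v337 :=
  Lrfl
theorem f452236 : Led Lsl_ff (LP (LK LD1_c0 LD2_c29 LD3_c20)) = v337 :=
  Lgr Lrot3 (Lpr_ft (f452232 IH) (Lpn v337))
theorem f452237 : Led Lsl_at K35.v117 = v337 :=
  Lgr Lrot66 (Lpe (K38.f448961 IH) (Lpe (K38.f446803 IH) (Lpr_ff (f452236 IH) (Lpn v337))))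
theorem f452238 : Led Lsl_ct (LP (LK LD1_c0 LD2_c29 LD3_c23)) = v337 :=
  Lgr Lrot40 (Lpe (K9.f146313 IH) (Lpe (K11.f146298 IH) (Lpr_ff (f452236 IH) (Lpn v337))))
theorem f146343 : Led Lsl_ct (LP (LK LD1_c0 LD2_c37 LD3_c34)) = (LP (LK LD1_c0 LD2_c16 LD3_c46)) :=
  Lre_c IH (LK LD1_c0 LD2_c37 LD3_c34) (LK LD1_c0 LD2_c16 LD3_c46) Lrfl Lrfl
theorem f491556 : Led Lsl_df (LP (LK LD1_c2 LD2_c50 LD3_c54)) = v1110 :=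
  Lgr Lrot106 (Lpr_ct (K31.f146400 IH) (Lpr_dt (K55.f146399 IH) (Lpr_ct (f146343 IH) (Lpr_dt (K9.f176876 IH) (Lpr_ct (f452238 IH) (Lpe (f452237 IH) (Lpe (K38.f448961 IH) (Lpr_dt (K35.f451461 IH) (Lpr_ct (f491553 IH) (Lpn v1110))))))))))
theorem f506355 : Led Lsl_gf v1110 = v1910 :=
  Lgr Lrot148 (Lpe (f491556 IH) (Lpe (K41.f380668 IH) (Lpr_dt (K18.f302609 IH) (Lpr_ct (K18.f169785 IH) (Lpe (K11.f22141 IH) (Lpr_gf (K11.f169780 IH) (Lpe (K11.f25938 IH) (Lpe (K12.f25939 IH) (Lpr_ct (f506353 IH) (Lpn v1910))))))))))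
theorem f20427 : Led Lsl_ct (LP (LK LD1_c0 LD2_c37 LD3_c49)) = (LP (LK LD1_c1 LD2_c21 LD3_c44)) :=
  Lre_c IH (LK LD1_c0 LD2_c37 LD3_c49) (LK LD1_c1 LD2_c21 LD3_c44) Lrfl Lrfl
theorem f537262 : v1110 = (LP (LK LD1_c1 LD2_c21 LD3_c44)) :=
  Lefun (Lecon (f491553 IH) (K35.f537103 IH)) (f20427 IH)
theorem f537636 : v1910 = (LP (LK LD1_c2 LD2_c51 LD3_c20)) :=
  Lefun (Lecon (f506355 IH) (f537262 IH)) (Lfl_gt (K6.f36228 IH))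
theorem f506354 : Led Lsl_cf (LP (LK LD1_c1 LD2_c31 LD3_c22)) = v1910 :=
  Lgr Lrot11 (Lpr_ct (f506353 IH) (Lpn v1910))
theorem f640665 : Led Lsl_ct K54.v1911 = v4873 :=
  Lgr Lrot15 (Lpe (K54.f506356 IH) (Lpr_cf (f506354 IH) (Lpqs (f537636 IH) (Lpr_ef (f640664 IH) (Lpn v4873)))))
theorem f707283 : v8718 = v4873 :=
  (Llr Lrot126 (Lpe (f672078 IH) (Lpe (f509494 IH) (Lpr_bt (K50.f413577 IH) (Lpr_gt (K16.f413543 IH) (Lpr_ct (K16.f413544 IH) (Lpr_gt (K9.f73782 IH) (Lpr_cf (K17.f76934 IH) (Lpr_bt (K49.f76930 IH) (Lpr_gt (K51.f634199 IH) (Lpqs (K51.f707253 IH) (Lpr_bf (K54.f549480 IH) (Lpr_ct (f640665 IH) (Lpn v4873)))))))))))))).symm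
def v8201 : LQ := Led Lsl_gf K54.v1911
theorem f670321 : Led Lsl_gf K54.v1911 = v8201 :=
  Lrfl
theorem f780846 : Led Lsl_bf v8201 = v19587 :=
  Lgr Lrot165 (Lpe (f670321 IH) (Lpr_ct (f640665 IH) (Lpq (f707283 IH) (Lpe (f672078 IH) (Lpe (f509494 IH) (Lpr_bt (K50.f413577 IH) (Lpr_gt (K16.f413543 IH) (Lpe (K17.f413551 IH) (Lpr_ct (K51.f413889 IH) (Lpr_gt (K51.f414019 IH) (Lpr_cf (f780845 IH) (Lpn v19587))))))))))))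
theorem f780847 : Led Lsl_bt v8201 = v19587 :=
  Lgr Lrot127 (Lpr_bf (f780846 IH) (Lpn v19587))
theorem f781277 : Led Lsl_ff v8201 = v19616 :=
  Lgr Lrot25 (Lpr_bt (f780847 IH) (Lpe (f780840 IH) (Lpr_bt (f781274 IH) (Lpn v19616))))
theorem f780841 : Led Lsl_at K51.v6327 = v19587 :=
  Lgr Lrot66 (Lpe (K51.f652776 IH) (Lpe (K51.f509294 IH) (Lpr_ff (f780840 IH) (Lpn v19587))))
def v6322 : LQ := Led Lsl_ft (LP (LK LD1_c3 LD2_c20 LD3_c30))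
theorem f652716 : Led Lsl_ft (LP (LK LD1_c3 LD2_c20 LD3_c30)) = v6322 :=
  Lrfl
def v6319 : LQ := Led Lsl_at (LP (LK LD1_c3 LD2_c20 LD3_c30))
theorem f652701 : Led Lsl_at (LP (LK LD1_c3 LD2_c20 LD3_c30)) = v6319 :=
  Lrfl
theorem f652702 : Led Lsl_af (LP (LK LD1_c3 LD2_c20 LD3_c30)) = v6319 :=
  Lgr Lrot0 (Lpr_at (f652701 IH) (Lpn v6319))
theorem f652703 : Led Lsl_ft (LP (LK LD1_c3 LD2_c20 LD3_c31)) = v6319 :=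
  Lgr Lrot2 (Lpr_gt (K17.f77004 IH) (Lpr_gt (K40.f100255 IH) (Lpr_af (f652702 IH) (Lpn v6319))))
theorem f652717 : Led Lsl_af (LP (LK LD1_c3 LD2_c20 LD3_c31)) = v6322 :=
  Lgr Lrot45 (Lpr_ft (f652703 IH) (Lpe (f652702 IH) (Lpr_ft (f652716 IH) (Lpn v6322))))
theorem f706593 : (LP (LK LD1_c1 LD2_c36 LD3_c39)) = v6322 :=
  Lefun (Lecon (Lfl_ff (K46.f509309 IH)) (K51.f706580 IH)) (f652716 IH)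
def v6340 : LQ := Led Lsl_at (LP (LK LD1_c3 LD2_c20 LD3_c37))
theorem f652894 : Led Lsl_at (LP (LK LD1_c3 LD2_c20 LD3_c37)) = v6340 :=
  Lrfl
theorem f652895 : Led Lsl_af (LP (LK LD1_c3 LD2_c20 LD3_c37)) = v6340 :=
  Lgr Lrot0 (Lpr_at (f652894 IH) (Lpn v6340))
theorem f780848 : v8201 = v6340 :=
  (Llr Lrot62 (Lpr_bf (f780846 IH) (Lpe (f780841 IH) (Lpqs (K51.f706601 IH) (Lpe (K51.f414476 IH) (Lpr_af (f652717 IH) (Lpq (f706593 IH) (Lpe (K54.f454788 IH) (Lpr_af (f652895 IH) (Lpn v6340)))))))))).symm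
def v6339 : LQ := Led Lsl_gf (LP (LK LD1_c3 LD2_c20 LD3_c37))
theorem f652893 : Led Lsl_gf (LP (LK LD1_c3 LD2_c20 LD3_c37)) = v6339 :=
  Lrfl
theorem f781280 : v6350 = v6339 :=
  (Llr Lrot5 (Lpr_gf (f781278 IH) (Lpe (f781277 IH) (Lpqs (f780848 IH) (Lpe (f652895 IH) (Lpr_gf (f652893 IH) (Lpn v6339))))))).symm
theorem f81990 : Led Lsl_gt (LP (LK LD1_c5 LD2_c55 LD3_c44)) = (LP (LK LD1_c11 LD2_c36 LD3_c40)) :=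
  Lre_g IH (LK LD1_c5 LD2_c55 LD3_c44) (LK LD1_c11 LD2_c36 LD3_c40) Lrfl Lrfl
theorem f710669 : Led Lsl_gt (LP (LK LD1_c11 LD2_c36 LD3_c40)) = (LP (LK LD1_c6 LD2_c45 LD3_c12)) :=
  Lgr Lrot46 (Lpe (f81990 IH) (Lpe (K52.f707264 IH) (Lpr_at (K52.f710633 IH) (Lpn (LP (LK LD1_c6 LD2_c45 LD3_c12))))))
theorem f509310 : Led Lsl_bt (LP (LK LD1_c1 LD2_c36 LD3_c39)) = (LP (LK LD1_c3 LD2_c20 LD3_c37)) :=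
  Lre_b IH (LK LD1_c1 LD2_c36 LD3_c39) (LK LD1_c3 LD2_c20 LD3_c37) Lrfl Lrfl
theorem f781288 : Led Lsl_cf (LP (LK LD1_c11 LD2_c36 LD3_c40)) = (LP (LK LD1_c17 LD2_c23 LD3_c60)) :=
  Lgr Lrot125 (Lpr_gt (f710669 IH) (Lpe (K52.f140982 IH) (Lpr_bt (f652942 IH) (Lpqs (f781280 IH) (Lpe (f652893 IH) (Lpe (f509310 IH) (Lpr_ct (K46.f509311 IH) (Lpr_gt (K53.f652795 IH) (Lpq (K53.f710188 IH) (Lpe (K6.f141728 IH) (Lpr_bt (K51.f149701 IH) (Lpr_gt (K53.f710186 IH) (Lpn (LP (LK LD1_c17 LD2_c23 LD3_c60)))))))))))))))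
theorem f781289 : Led Lsl_ct (LP (LK LD1_c17 LD2_c23 LD3_c60)) = (LP (LK LD1_c11 LD2_c36 LD3_c40)) :=
  Leop (Lpr_cf (f781288 IH) (Lpn (LP (LK LD1_c17 LD2_c23 LD3_c60))))
theorem seed_1468 : LEOK LG_c (LK LD1_c17 LD2_c23 LD3_c60) :=
  Leoe_c (LK LD1_c17 LD2_c23 LD3_c60) (f781289 IH)
def v19624 : LQ := Led Lsl_at (LP (LK LD1_c6 LD2_c44 LD3_c58))
theorem f781329 : Led Lsl_at (LP (LK LD1_c6 LD2_c44 LD3_c58)) = v19624 :=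
  Lrfl
theorem f781332 : Led Lsl_ff (LP (LK LD1_c6 LD2_c45 LD3_c4)) = v19624 :=
  Lgr Lrot30 (Lpe (K55.f706650 IH) (Lpe (K55.f706631 IH) (Lpr_at (f781329 IH) (Lpn v19624))))
theorem f781334 : Led Lsl_ft (LP (LK LD1_c6 LD2_c45 LD3_c4)) = v19624 :=
  Lgr Lrot48 (Lpr_ff (f781332 IH) (Lpn v19624))
theorem f781330 : Led Lsl_af (LP (LK LD1_c6 LD2_c44 LD3_c58)) = v19624 :=
  Lgr Lrot0 (Lpr_at (f781329 IH) (Lpn v19624))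
theorem f652785 : Led Lsl_gt (LP (LK LD1_c12 LD2_c54 LD3_c13)) = (LP (LK LD1_c6 LD2_c44 LD3_c58)) :=
  Lre_g IH (LK LD1_c12 LD2_c54 LD3_c13) (LK LD1_c6 LD2_c44 LD3_c58) Lrfl Lrfl
theorem f781335 : Led Lsl_gt (LP (LK LD1_c6 LD2_c45 LD3_c4)) = (LP (LK LD1_c12 LD2_c54 LD3_c13)) :=
  Lgr Lrot5 (Lpr_ft (f781334 IH) (Lpe (f781330 IH) (Lpe (f652785 IH) (Lpn (LP (LK LD1_c12 LD2_c54 LD3_c13))))))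
theorem f781336 : Led Lsl_gt (LP (LK LD1_c6 LD2_c45 LD3_c4)) = (LP (LK LD1_c12 LD2_c54 LD3_c13)) :=
  Leop (Lpe (f781335 IH) (Lpn (LP (LK LD1_c6 LD2_c45 LD3_c4))))
theorem seed_1469 : LEOK LG_g (LK LD1_c6 LD2_c45 LD3_c4) :=
  Leoe_g (LK LD1_c6 LD2_c45 LD3_c4) (f781336 IH)
def v19626 : LQ := Led Lsl_bt (LP (LK LD1_c6 LD2_c44 LD3_c60))
theorem f781346 : Led Lsl_bt (LP (LK LD1_c6 LD2_c44 LD3_c60)) = v19626 :=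
  Lrfl
def v6326 : LQ := Led Lsl_et (LP (LK LD1_c3 LD2_c20 LD3_c33))
theorem f652771 : Led Lsl_et (LP (LK LD1_c3 LD2_c20 LD3_c33)) = v6326 :=
  Lrfl
theorem f509297 : Led Lsl_bt (LP (LK LD1_c1 LD2_c36 LD3_c38)) = (LP (LK LD1_c3 LD2_c20 LD3_c33)) :=
  Lre_b IH (LK LD1_c1 LD2_c36 LD3_c38) (LK LD1_c3 LD2_c20 LD3_c33) Lrfl Lrfl
theorem f652772 : Led Lsl_bf (LP (LK LD1_c3 LD2_c20 LD3_c36)) = v6326 :=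
  Lgr Lrot96 (Lpr_et (K53.f79990 IH) (Lpr_bt (f509297 IH) (Lpr_et (f652771 IH) (Lpn v6326))))
theorem f781349 : Led Lsl_df v6326 = v19626 :=
  Lgr Lrot12 (Lpe (f652772 IH) (Lpr_dt (K51.f79991 IH) (Lpr_bt (f781346 IH) (Lpn v19626))))
theorem f781353 : Led Lsl_dt v6326 = v19626 :=
  Lgr Lrot42 (Lpr_df (f781349 IH) (Lpn v19626))
theorem f652774 : Led Lsl_ef (LP (LK LD1_c3 LD2_c20 LD3_c33)) = v6326 :=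
  Lgr Lrot88 (Lpr_et (f652771 IH) (Lpn v6326))
theorem f148997 : Led Lsl_et (LP (LK LD1_c3 LD2_c20 LD3_c15)) = (LP (LK LD1_c6 LD2_c44 LD3_c14)) :=
  Lre_e IH (LK LD1_c3 LD2_c20 LD3_c15) (LK LD1_c6 LD2_c44 LD3_c14) Lrfl Lrfl
theorem f781354 : Led Lsl_gf (LP (LK LD1_c9 LD2_c2 LD3_c42)) = v19626 :=
  Lgr Lrot145 (Lpr_df (K40.f561574 IH) (Lpr_et (K55.f138523 IH) (Lpe (K8.f157868 IH) (Lpr_dt (K8.f157872 IH) (Lpe (K8.f159001 IH) (Lpe (K35.f148990 IH) (Lpr_et (f148997 IH) (Lpqs (K54.f739302 IH) (Lpe (K54.f652758 IH) (Lpr_ef (f652774 IH) (Lpr_dt (f781353 IH) (Lpn v19626))))))))))))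
theorem f781350 : Led Lsl_ff K54.v15545 = v19626 :=
  Lgr Lrot25 (Lpe (K54.f737934 IH) (Lpe (K51.f706561 IH) (Lpr_bt (f781346 IH) (Lpn v19626))))
theorem f706750 : Led Lsl_at (LP (LK LD1_c11 LD2_c14 LD3_c26)) = (LP (LK LD1_c6 LD2_c11 LD3_c59)) :=
  Lgr Lrot66 (Lpr_ff (K53.f706748 IH) (Lpe (K51.f706571 IH) (Lpr_ff (K51.f706561 IH) (Lpn (LP (LK LD1_c6 LD2_c11 LD3_c59))))))
theorem f289261 : Led Lsl_bt (LP (LK LD1_c11 LD2_c6 LD3_c33)) = (LP (LK LD1_c5 LD2_c37 LD3_c23)) :=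
  Lre_b IH (LK LD1_c11 LD2_c6 LD3_c33) (LK LD1_c5 LD2_c37 LD3_c23) Lrfl Lrfl
theorem f737933 : Led Lsl_af (LP (LK LD1_c11 LD2_c6 LD3_c33)) = K54.v15545 :=
  Lgr Lrot36 (Lpr_bt (f289261 IH) (Lpr_at (K54.f715221 IH) (Lpr_bt (K53.f408466 IH) (Lpr_at (f706750 IH) (Lpr_bt (K54.f737932 IH) (Lpn K54.v15545))))))
theorem f781356 : Led Lsl_gt (LP (LK LD1_c9 LD2_c2 LD3_c42)) = (LP (LK LD1_c11 LD2_c6 LD3_c33)) :=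
  Lgr Lrot46 (Lpr_gf (f781354 IH) (Lpe (f781350 IH) (Lpe (f737933 IH) (Lpn (LP (LK LD1_c11 LD2_c6 LD3_c33))))))
theorem f781357 : Led Lsl_gt (LP (LK LD1_c9 LD2_c2 LD3_c42)) = (LP (LK LD1_c11 LD2_c6 LD3_c33)) :=
  Leop (Lpe (f781356 IH) (Lpn (LP (LK LD1_c9 LD2_c2 LD3_c42))))
theorem seed_1470 : LEOK LG_g (LK LD1_c9 LD2_c2 LD3_c42) :=
  Leoe_g (LK LD1_c9 LD2_c2 LD3_c42) (f781357 IH)
theorem f561589 : Led Lsl_ft (LP (LK LD1_c11 LD2_c13 LD3_c48)) = (LP (LK LD1_c5 LD2_c41 LD3_c48)) :=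
  Lre_f IH (LK LD1_c11 LD2_c13 LD3_c48) (LK LD1_c5 LD2_c41 LD3_c48) Lrfl Lrfl
theorem f781355 : Led Lsl_gt (LP (LK LD1_c11 LD2_c13 LD3_c48)) = v19626 :=
  Lgr Lrot5 (Lpr_ft (f561589 IH) (Lpe (K40.f561579 IH) (Lpr_gf (f781354 IH) (Lpn v19626))))
theorem f737940 : Led Lsl_ft (LP (LK LD1_c11 LD2_c6 LD3_c33)) = (LP (LK LD1_c11 LD2_c13 LD3_c47)) :=
  Lgr Lrot48 (Lpr_ff (K54.f737936 IH) (Lpn (LP (LK LD1_c11 LD2_c13 LD3_c47))))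
theorem f781351 : Led Lsl_at (LP (LK LD1_c11 LD2_c13 LD3_c47)) = v19626 :=
  Lgr Lrot66 (Lpe (f737940 IH) (Lpr_af (f737933 IH) (Lpr_ff (f781350 IH) (Lpn v19626))))
theorem f781366 : Led Lsl_gf (LP (LK LD1_c11 LD2_c13 LD3_c48)) = (LP (LK LD1_c11 LD2_c6 LD3_c33)) :=
  Lgr Lrot47 (Lpr_gt (f781355 IH) (Lpe (f781351 IH) (Lpe (f737940 IH) (Lpn (LP (LK LD1_c11 LD2_c6 LD3_c33))))))
theorem f781367 : Led Lsl_gt (LP (LK LD1_c11 LD2_c6 LD3_c33)) = (LP (LK LD1_c11 LD2_c13 LD3_c48)) :=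
  Leop (Lpr_gf (f781366 IH) (Lpn (LP (LK LD1_c11 LD2_c6 LD3_c33))))
theorem seed_1471 : LEOK LG_g (LK LD1_c11 LD2_c6 LD3_c33) :=
  Leoe_g (LK LD1_c11 LD2_c6 LD3_c33) (f781367 IH)
def v19636 : LQ := Led Lsl_gf (LP (LK LD1_c6 LD2_c45 LD3_c6))
theorem f781404 : Led Lsl_gf (LP (LK LD1_c6 LD2_c45 LD3_c6)) = v19636 :=
  Lrfl
theorem f781407 : Led Lsl_dt (LP (LK LD1_c9 LD2_c9 LD3_c6)) = v19636 :=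
  Lgr Lrot171 (Lpr_gf (K46.f641163 IH) (Lpq (K46.f642390 IH) (Lpe (K46.f438064 IH) (Lpr_dt (K6.f141248 IH) (Lpr_gf (K8.f142138 IH) (Lpe (K46.f35545 IH) (Lpr_et (K55.f142142 IH) (Lpe (K46.f438065 IH) (Lpe (K51.f438066 IH) (Lpr_dt (K51.f438067 IH) (Lpr_gf (f781404 IH) (Lpn v19636))))))))))))
theorem f622311 : Led Lsl_gt (LP (LK LD1_c9 LD2_c10 LD3_c43)) = (LP (LK LD1_c17 LD2_c3 LD3_c18)) :=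
  Lre_g IH (LK LD1_c9 LD2_c10 LD3_c43) (LK LD1_c17 LD2_c3 LD3_c18) Lrfl Lrfl
theorem f755832 : Led Lsl_at (LP (LK LD1_c11 LD2_c38 LD3_c47)) = (LP (LK LD1_c9 LD2_c6 LD3_c27)) :=
  Lgr Lrot100 (Lpr_af (K57.f755830 IH) (Lpn (LP (LK LD1_c9 LD2_c6 LD3_c27))))
theorem f710983 : Led Lsl_gt (LP (LK LD1_c9 LD2_c6 LD3_c27)) = (LP (LK LD1_c12 LD2_c30 LD3_c1)) :=
  Lgr Lrot82 (Lpe (K57.f616375 IH) (Lpr_ct (K52.f25235 IH) (Lpr_gf (K52.f644864 IH) (Lpr_cf (K55.f426782 IH) (Lpr_bt (K24.f426009 IH) (Lpr_gf (K52.f710979 IH) (Lpe (K52.f641135 IH) (Lpr_ct (K52.f641136 IH) (Lpe (K52.f710973 IH) (Lpr_cf (K52.f82930 IH) (Lpn (LP (LK LD1_c12 LD2_c30 LD3_c1)))))))))))))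
theorem f139292 : Led Lsl_gt (LP (LK LD1_c20 LD2_c22 LD3_c44)) = (LP (LK LD1_c11 LD2_c25 LD3_c14)) :=
  Lre_g IH (LK LD1_c20 LD2_c22 LD3_c44) (LK LD1_c11 LD2_c25 LD3_c14) Lrfl Lrfl
theorem f641820 : Led Lsl_gf (LP (LK LD1_c20 LD2_c22 LD3_c44)) = (LP (LK LD1_c12 LD2_c30 LD3_c1)) :=
  Lgr Lrot47 (Lpr_gt (f139292 IH) (Lpe (K52.f160904 IH) (Lpr_ff (K52.f641811 IH) (Lpn (LP (LK LD1_c12 LD2_c30 LD3_c1))))))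
theorem f755459 : Led Lsl_at (LP (LK LD1_c11 LD2_c38 LD3_c51)) = (LP (LK LD1_c20 LD2_c22 LD3_c44)) :=
  Lgr Lrot26 (Lpr_ff (K57.f755447 IH) (Lpr_gt (f710983 IH) (Lpe (f641820 IH) (Lpn (LP (LK LD1_c20 LD2_c22 LD3_c44))))))
theorem f755884 : Led Lsl_ff (LP (LK LD1_c11 LD2_c38 LD3_c47)) = (LP (LK LD1_c20 LD2_c22 LD3_c44)) :=
  Lgr Lrot30 (Lpr_at (f755832 IH) (Lpe (K57.f755447 IH) (Lpr_at (f755459 IH) (Lpn (LP (LK LD1_c20 LD2_c22 LD3_c44))))))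
theorem f755890 : Led Lsl_ft (LP (LK LD1_c11 LD2_c38 LD3_c47)) = (LP (LK LD1_c20 LD2_c22 LD3_c44)) :=
  Lgr Lrot48 (Lpr_ff (f755884 IH) (Lpn (LP (LK LD1_c20 LD2_c22 LD3_c44))))
theorem f82987 : Led Lsl_ct (LP (LK LD1_c5 LD2_c56 LD3_c46)) = (LP (LK LD1_c11 LD2_c38 LD3_c47)) :=
  Lre_c IH (LK LD1_c5 LD2_c56 LD3_c46) (LK LD1_c11 LD2_c38 LD3_c47) Lrfl Lrfl
theorem f755894 : Led Lsl_cf K57.v16282 = (LP (LK LD1_c20 LD2_c22 LD3_c44)) :=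
  Lgr Lrot108 (Lpe (K57.f747514 IH) (Lpr_ct (f82987 IH) (Lpr_ft (f755890 IH) (Lpn (LP (LK LD1_c20 LD2_c22 LD3_c44))))))
theorem f71348 : Led Lsl_ct (LP (LK LD1_c2 LD2_c54 LD3_c46)) = (LP (LK LD1_c5 LD2_c56 LD3_c48)) :=
  Lre_c IH (LK LD1_c2 LD2_c54 LD3_c46) (LK LD1_c5 LD2_c56 LD3_c48) Lrfl Lrfl
theorem f82911 : Led Lsl_gt (LP (LK LD1_c5 LD2_c55 LD3_c54)) = (LP (LK LD1_c2 LD2_c54 LD3_c46)) :=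
  Lre_g IH (LK LD1_c5 LD2_c55 LD3_c54) (LK LD1_c2 LD2_c54 LD3_c46) Lrfl Lrfl
theorem f747390 : Led Lsl_bf (LP (LK LD1_c5 LD2_c55 LD3_c54)) = K55.v16260 :=
  Lgr Lrot24 (Lpr_bt (K55.f747389 IH) (Lpn K55.v16260))
theorem f428364 : Led Lsl_ct (LP (LK LD1_c5 LD2_c58 LD3_c53)) = (LP (LK LD1_c11 LD2_c42 LD3_c10)) :=
  Lre_c IH (LK LD1_c5 LD2_c58 LD3_c53) (LK LD1_c11 LD2_c42 LD3_c10) Lrfl Lrfl
theorem f747825 : Led Lsl_ft (LP (LK LD1_c5 LD2_c56 LD3_c53)) = K55.v16260 :=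
  Lgr Lrot48 (Lpr_ff (K55.f747588 IH) (Lpn K55.v16260))
theorem f642320 : Led Lsl_ct (LP (LK LD1_c9 LD2_c48 LD3_c31)) = (LP (LK LD1_c5 LD2_c56 LD3_c53)) :=
  Lgr Lrot59 (Lpr_cf (K52.f642314 IH) (Lpn (LP (LK LD1_c5 LD2_c56 LD3_c53))))
theorem f747835 : Led Lsl_ff (LP (LK LD1_c9 LD2_c48 LD3_c31)) = (LP (LK LD1_c11 LD2_c42 LD3_c10)) :=
  Lgr Lrot23 (Lpr_ct (f642320 IH) (Lpr_ft (f747825 IH) (Lpq (K55.f747826 IH) (Lpr_ct (f428364 IH) (Lpn (LP (LK LD1_c11 LD2_c42 LD3_c10)))))))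
theorem f643730 : Led Lsl_ct (LP (LK LD1_c11 LD2_c42 LD3_c12)) = (LP (LK LD1_c5 LD2_c58 LD3_c54)) :=
  Lre_c IH (LK LD1_c11 LD2_c42 LD3_c12) (LK LD1_c5 LD2_c58 LD3_c54) Lrfl Lrfl
theorem f747550 : Led Lsl_at (LP (LK LD1_c9 LD2_c48 LD3_c31)) = (LP (LK LD1_c11 LD2_c42 LD3_c12)) :=
  Lgr Lrot107 (Lpr_cf (K52.f642314 IH) (Lpr_af (K55.f747546 IH) (Lpe (f643730 IH) (Lpn (LP (LK LD1_c11 LD2_c42 LD3_c12))))))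
theorem f747847 : Led Lsl_gf (LP (LK LD1_c9 LD2_c48 LD3_c33)) = (LP (LK LD1_c11 LD2_c42 LD3_c10)) :=
  Lgr Lrot47 (Lpr_gt (K55.f700540 IH) (Lpe (f747550 IH) (Lpr_ff (f747835 IH) (Lpn (LP (LK LD1_c11 LD2_c42 LD3_c10))))))
theorem f642234 : Led Lsl_ct (LP (LK LD1_c9 LD2_c48 LD3_c33)) = (LP (LK LD1_c4 LD2_c59 LD3_c5)) :=
  Lre_c IH (LK LD1_c9 LD2_c48 LD3_c33) (LK LD1_c4 LD2_c59 LD3_c5) Lrfl Lrfl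
theorem f642235 : Led Lsl_af (LP (LK LD1_c9 LD2_c48 LD3_c33)) = (LP (LK LD1_c12 LD2_c29 LD3_c42)) :=
  Lgr Lrot68 (Lpr_ct (f642234 IH) (Lpr_at (K45.f642229 IH) (Lpr_ct (K52.f82944 IH) (Lpn (LP (LK LD1_c12 LD2_c29 LD3_c42))))))
theorem f642244 : Led Lsl_ft (LP (LK LD1_c9 LD2_c47 LD3_c57)) = (LP (LK LD1_c12 LD2_c29 LD3_c42)) :=
  Lgr Lrot4 (Lpe (K8.f138986 IH) (Lpr_ff (K45.f642239 IH) (Lpe (K55.f82946 IH) (Lpn (LP (LK LD1_c12 LD2_c29 LD3_c42))))))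
theorem f747850 : Led Lsl_gt (LP (LK LD1_c9 LD2_c47 LD3_c57)) = (LP (LK LD1_c11 LD2_c42 LD3_c10)) :=
  Lgr Lrot5 (Lpr_ft (f642244 IH) (Lpe (f642235 IH) (Lpr_gf (f747847 IH) (Lpn (LP (LK LD1_c11 LD2_c42 LD3_c10))))))
theorem f99985 : Led Lsl_gt (LP (LK LD1_c16 LD2_c29 LD3_c57)) = (LP (LK LD1_c8 LD2_c49 LD3_c20)) :=
  Lre_g IH (LK LD1_c16 LD2_c29 LD3_c57) (LK LD1_c8 LD2_c49 LD3_c20) Lrfl Lrfl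
theorem f755898 : Led Lsl_bf (LP (LK LD1_c16 LD2_c29 LD3_c57)) = (LP (LK LD1_c20 LD2_c22 LD3_c44)) :=
  Lgr Lrot156 (Lpr_gt (f99985 IH) (Lpr_bf (K11.f138984 IH) (Lpr_ct (K8.f138986 IH) (Lpr_gt (f747850 IH) (Lpe (f428364 IH) (Lpqs (K55.f747826 IH) (Lpe (f747390 IH) (Lpr_gt (f82911 IH) (Lpr_ct (f71348 IH) (Lpr_gt (K59.f71368 IH) (Lpqs (K57.f755401 IH) (Lpr_cf (f755894 IH) (Lpn (LP (LK LD1_c20 LD2_c22 LD3_c44)))))))))))))))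
theorem f743765 : Led Lsl_bt (LP (LK LD1_c17 LD2_c3 LD3_c53)) = (LP (LK LD1_c11 LD2_c38 LD3_c47)) :=
  Lgr Lrot127 (Lpr_bf (K57.f743763 IH) (Lpn (LP (LK LD1_c11 LD2_c38 LD3_c47))))
theorem f755906 : Led Lsl_ft (LP (LK LD1_c16 LD2_c29 LD3_c57)) = (LP (LK LD1_c17 LD2_c3 LD3_c53)) :=
  Lgr Lrot75 (Lpr_bf (f755898 IH) (Lpe (f755890 IH) (Lpe (f743765 IH) (Lpn (LP (LK LD1_c17 LD2_c3 LD3_c53))))))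
theorem f755636 : Led Lsl_af (LP (LK LD1_c16 LD2_c29 LD3_c56)) = (LP (LK LD1_c17 LD2_c3 LD3_c53)) :=
  Lgr Lrot0 (Lpr_at (K57.f755634 IH) (Lpn (LP (LK LD1_c17 LD2_c3 LD3_c53))))
theorem f755646 : Led Lsl_ft (LP (LK LD1_c16 LD2_c29 LD3_c56)) = (LP (LK LD1_c9 LD2_c6 LD3_c31)) :=
  Lgr Lrot48 (Lpr_ff (K57.f755640 IH) (Lpn (LP (LK LD1_c9 LD2_c6 LD3_c31))))
theorem f755908 : Led Lsl_af (LP (LK LD1_c16 LD2_c29 LD3_c57)) = (LP (LK LD1_c9 LD2_c6 LD3_c31)) :=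
  Lgr Lrot45 (Lpr_ft (f755906 IH) (Lpe (f755636 IH) (Lpr_ft (f755646 IH) (Lpn (LP (LK LD1_c9 LD2_c6 LD3_c31))))))
theorem f711679 : Led Lsl_et (LP (LK LD1_c16 LD2_c29 LD3_c57)) = (LP (LK LD1_c26 LD2_c26 LD3_c47)) :=
  Lre_e IH (LK LD1_c16 LD2_c29 LD3_c57) (LK LD1_c26 LD2_c26 LD3_c47) Lrfl Lrfl
theorem f755914 : Led Lsl_at (LP (LK LD1_c26 LD2_c26 LD3_c47)) = (LP (LK LD1_c16 LD2_c58 LD3_c26)) :=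
  Lgr Lrot80 (Lpe (f711679 IH) (Lpr_af (f755908 IH) (Lpe (K55.f711498 IH) (Lpn (LP (LK LD1_c16 LD2_c58 LD3_c26))))))
theorem f642692 : Led Lsl_dt (LP (LK LD1_c9 LD2_c12 LD3_c1)) = (LP (LK LD1_c17 LD2_c5 LD3_c61)) :=
  Lre_d IH (LK LD1_c9 LD2_c12 LD3_c1) (LK LD1_c17 LD2_c5 LD3_c61) Lrfl Lrfl
theorem f711671 : Led Lsl_gt (LP (LK LD1_c17 LD2_c5 LD3_c61)) = (LP (LK LD1_c26 LD2_c59 LD3_c29)) :=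
  Lre_g IH (LK LD1_c17 LD2_c5 LD3_c61) (LK LD1_c26 LD2_c59 LD3_c29) Lrfl Lrfl
theorem f438075 : Led Lsl_et (LP (LK LD1_c26 LD2_c26 LD3_c47)) = (LP (LK LD1_c16 LD2_c29 LD3_c57)) :=
  Lre_e IH (LK LD1_c26 LD2_c26 LD3_c47) (LK LD1_c16 LD2_c29 LD3_c57) Lrfl Lrfl
theorem f711674 : Led Lsl_df (LP (LK LD1_c26 LD2_c59 LD3_c29)) = (LP (LK LD1_c26 LD2_c26 LD3_c47)) :=
  Lgr Lrot132 (Lpe (f711671 IH) (Lpe (f642692 IH) (Lpr_gf (K54.f711668 IH) (Lpe (K54.f56826 IH) (Lpr_dt (K6.f136305 IH) (Lpe (K8.f141956 IH) (Lpe (K6.f99825 IH) (Lpr_et (K8.f99970 IH) (Lpe (f99985 IH) (Lpe (f438075 IH) (Lpn (LP (LK LD1_c26 LD2_c26 LD3_c47)))))))))))))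
theorem f711677 : Led Lsl_dt (LP (LK LD1_c26 LD2_c59 LD3_c29)) = (LP (LK LD1_c26 LD2_c26 LD3_c47)) :=
  Lgr Lrot42 (Lpr_df (f711674 IH) (Lpn (LP (LK LD1_c26 LD2_c26 LD3_c47))))
theorem f755918 : Led Lsl_af (LP (LK LD1_c26 LD2_c59 LD3_c29)) = (LP (LK LD1_c18 LD2_c1 LD3_c16)) :=
  Lgr Lrot117 (Lpr_dt (f711677 IH) (Lpr_at (f755914 IH) (Lpr_dt (K55.f711541 IH) (Lpn (LP (LK LD1_c18 LD2_c1 LD3_c16))))))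
theorem f711515 : Led Lsl_ct (LP (LK LD1_c9 LD2_c6 LD3_c34)) = (LP (LK LD1_c16 LD2_c58 LD3_c29)) :=
  Lre_c IH (LK LD1_c9 LD2_c6 LD3_c34) (LK LD1_c16 LD2_c58 LD3_c29) Lrfl Lrfl
theorem f645094 : Led Lsl_ct (LP (LK LD1_c20 LD2_c41 LD3_c54)) = (LP (LK LD1_c16 LD2_c58 LD3_c2)) :=
  Lgr Lrot15 (Lpe (K57.f645093 IH) (Lpr_cf (K48.f645089 IH) (Lpe (K52.f151741 IH) (Lpn (LP (LK LD1_c16 LD2_c58 LD3_c2))))))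
theorem f755713 : Led Lsl_af (LP (LK LD1_c9 LD2_c6 LD3_c34)) = (LP (LK LD1_c16 LD2_c58 LD3_c2)) :=
  Lgr Lrot68 (Lpr_ct (f711515 IH) (Lpr_at (K57.f755711 IH) (Lpr_ct (f645094 IH) (Lpn (LP (LK LD1_c16 LD2_c58 LD3_c2))))))
theorem f755777 : Led Lsl_at (LP (LK LD1_c9 LD2_c51 LD3_c1)) = (LP (LK LD1_c15 LD2_c5 LD3_c38)) :=
  Lgr Lrot51 (Lpr_df (K55.f719763 IH) (Lpr_af (f755713 IH) (Lpr_df (K52.f713014 IH) (Lpn (LP (LK LD1_c15 LD2_c5 LD3_c38))))))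
theorem f669016 : Led Lsl_gt (LP (LK LD1_c15 LD2_c5 LD3_c39)) = (LP (LK LD1_c8 LD2_c0 LD3_c54)) :=
  Lre_g IH (LK LD1_c15 LD2_c5 LD3_c39) (LK LD1_c8 LD2_c0 LD3_c54) Lrfl Lrfl
theorem f755781 : Led Lsl_ff (LP (LK LD1_c9 LD2_c51 LD3_c1)) = (LP (LK LD1_c15 LD2_c5 LD3_c39)) :=
  Lgr Lrot52 (Lpr_at (f755777 IH) (Lpe (K49.f415585 IH) (Lpe (f669016 IH) (Lpn (LP (LK LD1_c15 LD2_c5 LD3_c39))))))
theorem f755787 : Led Lsl_ft (LP (LK LD1_c9 LD2_c51 LD3_c1)) = (LP (LK LD1_c15 LD2_c5 LD3_c39)) :=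
  Lgr Lrot48 (Lpr_ff (f755781 IH) (Lpn (LP (LK LD1_c15 LD2_c5 LD3_c39))))
theorem f755791 : Led Lsl_bt (LP (LK LD1_c15 LD2_c5 LD3_c39)) = (LP (LK LD1_c24 LD2_c53 LD3_c43)) :=
  Lre_b IH (LK LD1_c15 LD2_c5 LD3_c39) (LK LD1_c24 LD2_c53 LD3_c43) Lrfl Lrfl
theorem f755792 : Led Lsl_ff (LP (LK LD1_c18 LD2_c1 LD3_c16)) = (LP (LK LD1_c24 LD2_c53 LD3_c43)) :=
  Lgr Lrot25 (Lpe (K55.f719752 IH) (Lpr_ft (f755787 IH) (Lpr_bt (f755791 IH) (Lpn (LP (LK LD1_c24 LD2_c53 LD3_c43))))))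
theorem f755993 : Led Lsl_gf (LP (LK LD1_c17 LD2_c5 LD3_c61)) = (LP (LK LD1_c24 LD2_c53 LD3_c43)) :=
  Lgr Lrot47 (Lpr_gt (f711671 IH) (Lpr_af (f755918 IH) (Lpr_ff (f755792 IH) (Lpn (LP (LK LD1_c24 LD2_c53 LD3_c43))))))
theorem f642627 : Led Lsl_dt (LP (LK LD1_c17 LD2_c5 LD3_c61)) = (LP (LK LD1_c9 LD2_c12 LD3_c1)) :=
  Lre_d IH (LK LD1_c17 LD2_c5 LD3_c61) (LK LD1_c9 LD2_c12 LD3_c1) Lrfl Lrfl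
theorem f642626 : Led Lsl_dt (LP (LK LD1_c9 LD2_c12 LD3_c2)) = (LP (LK LD1_c4 LD2_c38 LD3_c11)) :=
  Lre_d IH (LK LD1_c9 LD2_c12 LD3_c2) (LK LD1_c4 LD2_c38 LD3_c11) Lrfl Lrfl
theorem f699677 : Led Lsl_ft (LP (LK LD1_c16 LD2_c58 LD3_c31)) = (LP (LK LD1_c9 LD2_c6 LD3_c34)) :=
  Lre_f IH (LK LD1_c16 LD2_c58 LD3_c31) (LK LD1_c9 LD2_c6 LD3_c34) Lrfl Lrfl
theorem f755794 : Led Lsl_df (LP (LK LD1_c16 LD2_c58 LD3_c31)) = (LP (LK LD1_c15 LD2_c5 LD3_c39)) :=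
  Lgr Lrot78 (Lpr_ft (f699677 IH) (Lpe (K55.f719763 IH) (Lpr_ft (f755787 IH) (Lpn (LP (LK LD1_c15 LD2_c5 LD3_c39))))))
theorem f719776 : Led Lsl_bt (LP (LK LD1_c16 LD2_c58 LD3_c31)) = (LP (LK LD1_c26 LD2_c54 LD3_c3)) :=
  Lre_b IH (LK LD1_c16 LD2_c58 LD3_c31) (LK LD1_c26 LD2_c54 LD3_c3) Lrfl Lrfl
theorem f669017 : Led Lsl_bt (LP (LK LD1_c24 LD2_c53 LD3_c43)) = (LP (LK LD1_c15 LD2_c5 LD3_c39)) :=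
  Lre_b IH (LK LD1_c24 LD2_c53 LD3_c43) (LK LD1_c15 LD2_c5 LD3_c39) Lrfl Lrfl
theorem f755798 : Led Lsl_dt (LP (LK LD1_c26 LD2_c54 LD3_c3)) = (LP (LK LD1_c24 LD2_c53 LD3_c43)) :=
  Lgr Lrot79 (Lpe (f719776 IH) (Lpr_df (f755794 IH) (Lpe (f669017 IH) (Lpn (LP (LK LD1_c24 LD2_c53 LD3_c43))))))
theorem f755995 : Led Lsl_gt (LP (LK LD1_c17 LD2_c56 LD3_c0)) = (LP (LK LD1_c26 LD2_c54 LD3_c3)) :=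
  Lgr Lrot94 (Lpe (K52.f644698 IH) (Lpe (K52.f644420 IH) (Lpr_dt (K45.f642616 IH) (Lpr_gt (K45.f642610 IH) (Lpr_dt (f642626 IH) (Lpe (K54.f80090 IH) (Lpe (f642627 IH) (Lpr_gf (f755993 IH) (Lpe (f755798 IH) (Lpn (LP (LK LD1_c26 LD2_c54 LD3_c3))))))))))))
theorem f755920 : Led Lsl_ff (LP (LK LD1_c26 LD2_c26 LD3_c47)) = (LP (LK LD1_c27 LD2_c43 LD3_c37)) :=
  Lgr Lrot30 (Lpr_at (f755914 IH) (Lpr_ft (K57.f711522 IH) (Lpe (K57.f719769 IH) (Lpn (LP (LK LD1_c27 LD2_c43 LD3_c37))))))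
theorem f755926 : Led Lsl_ft (LP (LK LD1_c26 LD2_c26 LD3_c47)) = (LP (LK LD1_c27 LD2_c43 LD3_c37)) :=
  Lgr Lrot48 (Lpr_ff (f755920 IH) (Lpn (LP (LK LD1_c27 LD2_c43 LD3_c37))))
theorem f755997 : Led Lsl_gf (LP (LK LD1_c17 LD2_c56 LD3_c0)) = (LP (LK LD1_c26 LD2_c26 LD3_c47)) :=
  Lgr Lrot47 (Lpr_gt (f755995 IH) (Lpe (K57.f719774 IH) (Lpe (f755926 IH) (Lpn (LP (LK LD1_c26 LD2_c26 LD3_c47))))))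
theorem f444633 : Led Lsl_ct (LP (LK LD1_c20 LD2_c19 LD3_c60)) = (LP (LK LD1_c11 LD2_c22 LD3_c19)) :=
  Lre_c IH (LK LD1_c20 LD2_c19 LD3_c60) (LK LD1_c11 LD2_c22 LD3_c19) Lrfl Lrfl
theorem f756002 : Led Lsl_gf (LP (LK LD1_c17 LD2_c6 LD3_c8)) = (LP (LK LD1_c26 LD2_c59 LD3_c29)) :=
  Lgr Lrot147 (Lpe (K50.f644465 IH) (Lpe (K45.f644487 IH) (Lpr_ct (K45.f642671 IH) (Lpe (K51.f642674 IH) (Lpe (f444633 IH) (Lpr_gf (K52.f644420 IH) (Lpr_cf (K52.f644703 IH) (Lpr_gf (f755997 IH) (Lpe (f711677 IH) (Lpn (LP (LK LD1_c26 LD2_c59 LD3_c29))))))))))))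
theorem f140159 : Led Lsl_dt (LP (LK LD1_c9 LD2_c12 LD3_c6)) = (LP (LK LD1_c4 LD2_c38 LD3_c12)) :=
  Lre_d IH (LK LD1_c9 LD2_c12 LD3_c6) (LK LD1_c4 LD2_c38 LD3_c12) Lrfl Lrfl
theorem f642606 : Led Lsl_ff (LP (LK LD1_c26 LD2_c58 LD3_c42)) = (LP (LK LD1_c17 LD2_c6 LD3_c1)) :=
  Lgr Lrot3 (Lpr_ft (K57.f642601 IH) (Lpn (LP (LK LD1_c17 LD2_c6 LD3_c1))))
theorem f642613 : Led Lsl_at (LP (LK LD1_c26 LD2_c58 LD3_c42)) = (LP (LK LD1_c17 LD2_c6 LD3_c2)) :=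
  Lgr Lrot66 (Lpr_ff (f642606 IH) (Lpe (K45.f642596 IH) (Lpr_ff (K45.f642611 IH) (Lpn (LP (LK LD1_c17 LD2_c6 LD3_c2))))))
theorem f642630 : Led Lsl_gf (LP (LK LD1_c9 LD2_c12 LD3_c6)) = (LP (LK LD1_c17 LD2_c6 LD3_c1)) :=
  Lgr Lrot47 (Lpr_gt (K45.f642628 IH) (Lpe (f642613 IH) (Lpr_ff (f642606 IH) (Lpn (LP (LK LD1_c17 LD2_c6 LD3_c1))))))
theorem f644696 : Led Lsl_gf (LP (LK LD1_c17 LD2_c4 LD3_c0)) = (LP (LK LD1_c12 LD2_c2 LD3_c23)) :=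
  Lgr Lrot76 (Lpe (K45.f642582 IH) (Lpr_ff (K45.f507566 IH) (Lpr_gt (K54.f644694 IH) (Lpn (LP (LK LD1_c12 LD2_c2 LD3_c23))))))
theorem f756006 : Led Lsl_gt (LP (LK LD1_c20 LD2_c27 LD3_c4)) = (LP (LK LD1_c26 LD2_c26 LD3_c47)) :=
  Lgr Lrot94 (Lpe (K54.f713756 IH) (Lpe (f644696 IH) (Lpr_dt (K45.f100000 IH) (Lpe (f642630 IH) (Lpr_dt (f140159 IH) (Lpe (K9.f140149 IH) (Lpe (K50.f140156 IH) (Lpr_gf (f756002 IH) (Lpr_df (f711674 IH) (Lpn (LP (LK LD1_c26 LD2_c26 LD3_c47))))))))))))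
theorem f706914 : Led Lsl_ff (LP (LK LD1_c16 LD2_c54 LD3_c41)) = (LP (LK LD1_c9 LD2_c4 LD3_c16)) :=
  Lgr Lrot30 (Lpr_at (K55.f706396 IH) (Lpr_ft (K55.f706911 IH) (Lpe (K55.f706421 IH) (Lpn (LP (LK LD1_c9 LD2_c4 LD3_c16))))))
theorem f713039 : Led Lsl_gt (LP (LK LD1_c16 LD2_c54 LD3_c50)) = (LP (LK LD1_c9 LD2_c4 LD3_c12)) :=
  Lgr Lrot46 (Lpr_gf (K52.f713035 IH) (Lpe (f706914 IH) (Lpr_at (K55.f706396 IH) (Lpn (LP (LK LD1_c9 LD2_c4 LD3_c12))))))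
theorem f614951 : Led Lsl_ct (LP (LK LD1_c16 LD2_c55 LD3_c46)) = (LP (LK LD1_c9 LD2_c4 LD3_c13)) :=
  Lre_c IH (LK LD1_c16 LD2_c55 LD3_c46) (LK LD1_c9 LD2_c4 LD3_c13) Lrfl Lrfl
theorem f644423 : Led Lsl_gt (LP (LK LD1_c26 LD2_c52 LD3_c12)) = (LP (LK LD1_c16 LD2_c55 LD3_c46)) :=
  Lre_g IH (LK LD1_c26 LD2_c52 LD3_c12) (LK LD1_c16 LD2_c55 LD3_c46) Lrfl Lrfl
theorem f756008 : Led Lsl_cf (LP (LK LD1_c26 LD2_c52 LD3_c12)) = (LP (LK LD1_c26 LD2_c26 LD3_c47)) :=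
  Lgr Lrot169 (Lpr_gt (f644423 IH) (Lpr_ct (f614951 IH) (Lpe (K45.f140533 IH) (Lpe (K55.f644522 IH) (Lpe (f713039 IH) (Lpe (K52.f619133 IH) (Lpe (K54.f713783 IH) (Lpr_df (K54.f713781 IH) (Lpr_gt (f756006 IH) (Lpn (LP (LK LD1_c26 LD2_c26 LD3_c47))))))))))))
theorem f642886 : Led Lsl_gt (LP (LK LD1_c16 LD2_c54 LD3_c41)) = (LP (LK LD1_c26 LD2_c50 LD3_c49)) :=
  Lre_g IH (LK LD1_c16 LD2_c54 LD3_c41) (LK LD1_c26 LD2_c50 LD3_c49) Lrfl Lrfl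
theorem f706423 : Led Lsl_gt (LP (LK LD1_c26 LD2_c50 LD3_c49)) = (LP (LK LD1_c16 LD2_c54 LD3_c44)) :=
  Lgr Lrot46 (Lpe (f642886 IH) (Lpe (K55.f706337 IH) (Lpr_at (K55.f706419 IH) (Lpn (LP (LK LD1_c16 LD2_c54 LD3_c44))))))
theorem f710488 : Led Lsl_ff (LP (LK LD1_c16 LD2_c54 LD3_c50)) = (LP (LK LD1_c26 LD2_c50 LD3_c49)) :=
  Lgr Lrot52 (Lpe (K52.f619129 IH) (Lpr_gf (K52.f710426 IH) (Lpe (f706423 IH) (Lpn (LP (LK LD1_c26 LD2_c50 LD3_c49))))))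
theorem f713592 : Led Lsl_af (LP (LK LD1_c26 LD2_c50 LD3_c49)) = (LP (LK LD1_c16 LD2_c55 LD3_c41)) :=
  Lgr Lrot45 (Lpe (f710488 IH) (Lpe (K52.f619129 IH) (Lpr_ft (K57.f713590 IH) (Lpn (LP (LK LD1_c16 LD2_c55 LD3_c41))))))
theorem f713609 : Led Lsl_at (LP (LK LD1_c26 LD2_c50 LD3_c49)) = (LP (LK LD1_c16 LD2_c55 LD3_c41)) :=
  Lgr Lrot100 (Lpr_af (f713592 IH) (Lpn (LP (LK LD1_c16 LD2_c55 LD3_c41))))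
theorem f713611 : Led Lsl_ff (LP (LK LD1_c26 LD2_c50 LD3_c49)) = (LP (LK LD1_c16 LD2_c54 LD3_c50)) :=
  Lgr Lrot30 (Lpr_at (f713609 IH) (Lpe (K57.f713037 IH) (Lpr_at (K57.f619131 IH) (Lpn (LP (LK LD1_c16 LD2_c54 LD3_c50))))))
theorem f719370 : Led Lsl_cf (LP (LK LD1_c26 LD2_c51 LD3_c42)) = (LP (LK LD1_c26 LD2_c50 LD3_c49)) :=
  Lgr Lrot108 (Lpr_ft (K54.f719368 IH) (Lpr_ct (K52.f619133 IH) (Lpe (f713611 IH) (Lpn (LP (LK LD1_c26 LD2_c50 LD3_c49))))))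
theorem f116960 : Led Lsl_gt (LP (LK LD1_c9 LD2_c11 LD3_c2)) = (LP (LK LD1_c17 LD2_c4 LD3_c30)) :=
  Lre_g IH (LK LD1_c9 LD2_c11 LD3_c2) (LK LD1_c17 LD2_c4 LD3_c30) Lrfl Lrfl
theorem f719400 : Led Lsl_cf (LP (LK LD1_c17 LD2_c5 LD3_c60)) = (LP (LK LD1_c17 LD2_c4 LD3_c30)) :=
  Lgr Lrot99 (Lpe (K54.f719360 IH) (Lpr_cf (f719370 IH) (Lpe (f642886 IH) (Lpe (K55.f642879 IH) (Lpe (K51.f494175 IH) (Lpe (K36.f116901 IH) (Lpr_gt (K36.f116949 IH) (Lpr_ct (K57.f116959 IH) (Lpr_gt (f116960 IH) (Lpn (LP (LK LD1_c17 LD2_c4 LD3_c30))))))))))))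
theorem f719348 : Led Lsl_af (LP (LK LD1_c9 LD2_c50 LD3_c15)) = (LP (LK LD1_c17 LD2_c5 LD3_c60)) :=
  Lgr Lrot0 (Lpr_at (K54.f719346 IH) (Lpn (LP (LK LD1_c17 LD2_c5 LD3_c60))))
theorem f719404 : Led Lsl_at (LP (LK LD1_c9 LD2_c12 LD3_c17)) = (LP (LK LD1_c17 LD2_c4 LD3_c30)) :=
  Lgr Lrot107 (Lpe (K53.f719336 IH) (Lpr_af (f719348 IH) (Lpr_cf (f719400 IH) (Lpn (LP (LK LD1_c17 LD2_c4 LD3_c30))))))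
theorem f719427 : Led Lsl_gt (LP (LK LD1_c6 LD2_c44 LD3_c20)) = (LP (LK LD1_c9 LD2_c11 LD3_c2)) :=
  Lgr Lrot5 (Lpr_ft (K53.f713621 IH) (Lpr_at (f719404 IH) (Lpe (f116960 IH) (Lpn (LP (LK LD1_c9 LD2_c11 LD3_c2))))))
theorem f719412 : Led Lsl_gt (LP (LK LD1_c17 LD2_c4 LD3_c31)) = (LP (LK LD1_c26 LD2_c58 LD3_c47)) :=
  Lre_g IH (LK LD1_c17 LD2_c4 LD3_c31) (LK LD1_c26 LD2_c58 LD3_c47) Lrfl Lrfl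
theorem f756014 : Led Lsl_df (LP (LK LD1_c26 LD2_c52 LD3_c12)) = (LP (LK LD1_c26 LD2_c58 LD3_c47)) :=
  Lgr Lrot84 (Lpr_cf (f756008 IH) (Lpe (f711677 IH) (Lpe (f711671 IH) (Lpe (f642692 IH) (Lpr_gf (K54.f711668 IH) (Lpe (K52.f56810 IH) (Lpr_gt (f719427 IH) (Lpr_dt (K57.f644802 IH) (Lpr_gt (f719412 IH) (Lpn (LP (LK LD1_c26 LD2_c58 LD3_c47))))))))))))
theorem f756018 : Led Lsl_dt (LP (LK LD1_c26 LD2_c52 LD3_c12)) = (LP (LK LD1_c26 LD2_c58 LD3_c47)) :=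
  Lgr Lrot42 (Lpr_df (f756014 IH) (Lpn (LP (LK LD1_c26 LD2_c58 LD3_c47))))
theorem f141992 : Led Lsl_gt (LP (LK LD1_c17 LD2_c3 LD3_c18)) = (LP (LK LD1_c9 LD2_c10 LD3_c10)) :=
  Lre_g IH (LK LD1_c17 LD2_c3 LD3_c18) (LK LD1_c9 LD2_c10 LD3_c10) Lrfl Lrfl
theorem f756022 : Led Lsl_et (LP (LK LD1_c26 LD2_c52 LD3_c12)) = (LP (LK LD1_c17 LD2_c3 LD3_c18)) :=
  Lgr Lrot185 (Lpr_dt (f756018 IH) (Lpe (f719412 IH) (Lpe (K57.f644802 IH) (Lpe (f719427 IH) (Lpe (K52.f56808 IH) (Lpe (K6.f141969 IH) (Lpe (K6.f128957 IH) (Lpr_df (K7.f141235 IH) (Lpr_et (K55.f141261 IH) (Lpe (f141992 IH) (Lpn (LP (LK LD1_c17 LD2_c3 LD3_c18)))))))))))))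
theorem f756024 : Led Lsl_cf (LP (LK LD1_c16 LD2_c29 LD3_c57)) = (LP (LK LD1_c17 LD2_c3 LD3_c18)) :=
  Lgr Lrot39 (Lpr_et (f711679 IH) (Lpe (f756008 IH) (Lpr_et (f756022 IH) (Lpn (LP (LK LD1_c17 LD2_c3 LD3_c18))))))
theorem f99988 : Led Lsl_dt (LP (LK LD1_c26 LD2_c26 LD3_c46)) = (LP (LK LD1_c16 LD2_c29 LD3_c57)) :=
  Lre_d IH (LK LD1_c26 LD2_c26 LD3_c46) (LK LD1_c16 LD2_c29 LD3_c57) Lrfl Lrfl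
theorem f644816 : Led Lsl_ct (LP (LK LD1_c6 LD2_c45 LD3_c6)) = (LP (LK LD1_c12 LD2_c54 LD3_c30)) :=
  Lre_c IH (LK LD1_c6 LD2_c45 LD3_c6) (LK LD1_c12 LD2_c54 LD3_c30) Lrfl Lrfl
theorem f644817 : Led Lsl_gt (LP (LK LD1_c12 LD2_c54 LD3_c30)) = (LP (LK LD1_c22 LD2_c4 LD3_c11)) :=
  Lre_g IH (LK LD1_c12 LD2_c54 LD3_c30) (LK LD1_c22 LD2_c4 LD3_c11) Lrfl Lrfl
theorem f781411 : Led Lsl_cf (LP (LK LD1_c26 LD2_c26 LD3_c46)) = (LP (LK LD1_c22 LD2_c4 LD3_c11)) :=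
  Lgr Lrot175 (Lpr_dt (f99988 IH) (Lpr_cf (f756024 IH) (Lpe (f622311 IH) (Lpe (K55.f599560 IH) (Lpqs (K55.f642401 IH) (Lpe (K55.f641173 IH) (Lpr_dt (f781407 IH) (Lpe (f781404 IH) (Lpr_ct (f644816 IH) (Lpr_gt (f644817 IH) (Lpn (LP (LK LD1_c22 LD2_c4 LD3_c11)))))))))))))
theorem f781412 : Led Lsl_ct (LP (LK LD1_c22 LD2_c4 LD3_c11)) = (LP (LK LD1_c26 LD2_c26 LD3_c46)) :=
  Leop (Lpr_cf (f781411 IH) (Lpn (LP (LK LD1_c22 LD2_c4 LD3_c11))))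
theorem seed_1472 : LEOK LG_c (LK LD1_c22 LD2_c4 LD3_c11) :=
  Leoe_c (LK LD1_c22 LD2_c4 LD3_c11) (f781412 IH)
def v19649 : LQ := Led Lsl_dt (LP (LK LD1_c6 LD2_c45 LD3_c13))
theorem f781509 : Led Lsl_dt (LP (LK LD1_c6 LD2_c45 LD3_c13)) = v19649 :=
  Lrfl
theorem f510173 : Led Lsl_dt (LP (LK LD1_c17 LD2_c33 LD3_c22)) = (LP (LK LD1_c9 LD2_c31 LD3_c30)) :=
  Lre_d IH (LK LD1_c17 LD2_c33 LD3_c22) (LK LD1_c9 LD2_c31 LD3_c30) Lrfl Lrfl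
theorem f781512 : Led Lsl_ff (LP (LK LD1_c17 LD2_c33 LD3_c22)) = v19649 :=
  Lgr Lrot19 (Lpr_dt (f510173 IH) (Lpe (K51.f510218 IH) (Lpr_dt (f781509 IH) (Lpn v19649))))
theorem f510294 : Led Lsl_at (LP (LK LD1_c17 LD2_c33 LD3_c22)) = (LP (LK LD1_c9 LD2_c31 LD3_c33)) :=
  Lre_a IH (LK LD1_c17 LD2_c33 LD3_c22) (LK LD1_c9 LD2_c31 LD3_c33) Lrfl Lrfl
theorem f510295 : Led Lsl_gt (LP (LK LD1_c17 LD2_c33 LD3_c26)) = (LP (LK LD1_c9 LD2_c31 LD3_c33)) :=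
  Lre_g IH (LK LD1_c17 LD2_c33 LD3_c26) (LK LD1_c9 LD2_c31 LD3_c33) Lrfl Lrfl
theorem f781515 : Led Lsl_gf (LP (LK LD1_c17 LD2_c33 LD3_c26)) = v19649 :=
  Lgr Lrot47 (Lpr_gt (f510295 IH) (Lpe (f510294 IH) (Lpr_ff (f781512 IH) (Lpn v19649))))
theorem f83028 : Led Lsl_et (LP (LK LD1_c2 LD2_c14 LD3_c55)) = (LP (LK LD1_c4 LD2_c35 LD3_c28)) :=
  Lre_e IH (LK LD1_c2 LD2_c14 LD3_c55) (LK LD1_c4 LD2_c35 LD3_c28) Lrfl Lrfl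
theorem f137722 : Led Lsl_et (LP (LK LD1_c16 LD2_c59 LD3_c42)) = (LP (LK LD1_c9 LD2_c7 LD3_c28)) :=
  Lre_e IH (LK LD1_c16 LD2_c59 LD3_c42) (LK LD1_c9 LD2_c7 LD3_c28) Lrfl Lrfl
theorem f781516 : Led Lsl_df (LP (LK LD1_c17 LD2_c33 LD3_c26)) = (LP (LK LD1_c16 LD2_c59 LD3_c42)) :=
  Lgr Lrot132 (Lpr_gf (f781515 IH) (Lpe (f781509 IH) (Lpr_gf (K52.f705628 IH) (Lpqs (K52.f709994 IH) (Lpe (K51.f149707 IH) (Lpr_dt (K7.f149712 IH) (Lpr_gf (K8.f137716 IH) (Lpe (K8.f35337 IH) (Lpr_et (f83028 IH) (Lpe (K55.f137721 IH) (Lpe (f137722 IH) (Lpn (LP (LK LD1_c16 LD2_c59 LD3_c42))))))))))))))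
theorem f781517 : Led Lsl_dt (LP (LK LD1_c16 LD2_c59 LD3_c42)) = (LP (LK LD1_c17 LD2_c33 LD3_c26)) :=
  Leop (Lpr_df (f781516 IH) (Lpn (LP (LK LD1_c16 LD2_c59 LD3_c42))))
theorem seed_1473 : LEOK LG_d (LK LD1_c16 LD2_c59 LD3_c42) :=
  Leoe_d (LK LD1_c16 LD2_c59 LD3_c42) (f781517 IH)
def v19707 : LQ := Led Lsl_ct (LP (LK LD1_c6 LD2_c45 LD3_c55))
theorem f781736 : Led Lsl_ct (LP (LK LD1_c6 LD2_c45 LD3_c55)) = v19707 :=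
  Lrfl
theorem f639609 : Led Lsl_dt (LP (LK LD1_c3 LD2_c21 LD3_c0)) = (LP (LK LD1_c6 LD2_c45 LD3_c55)) :=
  Lre_d IH (LK LD1_c3 LD2_c21 LD3_c0) (LK LD1_c6 LD2_c45 LD3_c55) Lrfl Lrfl
def v6372 : LQ := Led Lsl_gf (LP (LK LD1_c3 LD2_c21 LD3_c0))
theorem f653074 : Led Lsl_gf (LP (LK LD1_c3 LD2_c21 LD3_c0)) = v6372 :=
  Lrfl
theorem f510252 : Led Lsl_ff (LP (LK LD1_c3 LD2_c20 LD3_c43)) = (LP (LK LD1_c4 LD2_c49 LD3_c22)) :=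
  Lgr Lrot3 (Lpr_ft (K51.f510233 IH) (Lpn (LP (LK LD1_c4 LD2_c49 LD3_c22))))
theorem f453980 : Led Lsl_at (LP (LK LD1_c3 LD2_c20 LD3_c43)) = (LP (LK LD1_c1 LD2_c36 LD3_c42)) :=
  Lre_a IH (LK LD1_c3 LD2_c20 LD3_c43) (LK LD1_c1 LD2_c36 LD3_c42) Lrfl Lrfl
def v2159 : LQ := Led Lsl_gf (LP (LK LD1_c1 LD2_c36 LD3_c42))
theorem f509372 : Led Lsl_gf (LP (LK LD1_c1 LD2_c36 LD3_c42)) = v2159 :=
  Lrfl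
theorem f510264 : Led Lsl_gf v2159 = (LP (LK LD1_c4 LD2_c49 LD3_c22)) :=
  Lgr Lrot47 (Lpe (f509372 IH) (Lpe (f453980 IH) (Lpr_ff (f510252 IH) (Lpn (LP (LK LD1_c4 LD2_c49 LD3_c22))))))
theorem f707330 : (LP (LK LD1_c2 LD2_c54 LD3_c13)) = v2159 :=
  Lefun (Lecon (Lfl_gt (K51.f641094 IH)) (K51.f707328 IH)) (f509372 IH)
theorem f752762 : v6372 = (LP (LK LD1_c5 LD2_c55 LD3_c45)) :=
  (Llr Lrot134 (Lpe (f653074 IH) (Lpe (K56.f639614 IH) (Lpr_et (K56.f748354 IH) (Lpq (K56.f752752 IH) (Lpr_gt (K56.f425730 IH) (Lpe (K55.f641129 IH) (Lpr_dt (K51.f82900 IH) (Lpr_gt (K51.f641099 IH) (Lpe (K51.f707346 IH) (Lpr_et (K51.f510164 IH) (Lpe (f510264 IH) (Lpq (f707330 IH) (Lpr_dt (K52.f82006 IH) (Lpn (LP (LK LD1_c5 LD2_c55 LD3_c45))))))))))))))))).symm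
theorem f510170 : Led Lsl_ct (LP (LK LD1_c9 LD2_c31 LD3_c30)) = (LP (LK LD1_c4 LD2_c49 LD3_c22)) :=
  Lre_c IH (LK LD1_c9 LD2_c31 LD3_c30) (LK LD1_c4 LD2_c49 LD3_c22) Lrfl Lrfl
theorem f56797 : Led Lsl_dt (LP (LK LD1_c6 LD2_c2 LD3_c19)) = (LP (LK LD1_c11 LD2_c48 LD3_c59)) :=
  Lre_d IH (LK LD1_c6 LD2_c2 LD3_c19) (LK LD1_c11 LD2_c48 LD3_c59) Lrfl Lrfl
theorem f161917 : Led Lsl_gt (LP (LK LD1_c11 LD2_c48 LD3_c59)) = (LP (LK LD1_c20 LD2_c51 LD3_c26)) :=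
  Lre_g IH (LK LD1_c11 LD2_c48 LD3_c59) (LK LD1_c20 LD2_c51 LD3_c26) Lrfl Lrfl
theorem f781738 : Led Lsl_dt (LP (LK LD1_c20 LD2_c51 LD3_c26)) = v19707 :=
  Lgr Lrot113 (Lpe (f161917 IH) (Lpe (f56797 IH) (Lpq (K51.f707374 IH) (Lpe (K51.f652958 IH) (Lpr_ct (f510170 IH) (Lpq (K51.f707332 IH) (Lpe (K51.f641097 IH) (Lpr_dt (K52.f82006 IH) (Lpq (f752762 IH) (Lpe (f653074 IH) (Lpr_dt (f639609 IH) (Lpr_ct (f781736 IH) (Lpn v19707)))))))))))))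
theorem f781739 : Led Lsl_df (LP (LK LD1_c20 LD2_c51 LD3_c26)) = v19707 :=
  Lgr Lrot38 (Lpr_dt (f781738 IH) (Lpn v19707))
theorem f707372 : Led Lsl_et (LP (LK LD1_c5 LD2_c56 LD3_c46)) = (LP (LK LD1_c11 LD2_c38 LD3_c49)) :=
  Lre_e IH (LK LD1_c5 LD2_c56 LD3_c46) (LK LD1_c11 LD2_c38 LD3_c49) Lrfl Lrfl
theorem f707373 : Led Lsl_gt (LP (LK LD1_c20 LD2_c38 LD3_c3)) = (LP (LK LD1_c11 LD2_c38 LD3_c49)) :=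
  Lre_g IH (LK LD1_c20 LD2_c38 LD3_c3) (LK LD1_c11 LD2_c38 LD3_c49) Lrfl Lrfl
theorem f781740 : Led Lsl_ef (LP (LK LD1_c20 LD2_c38 LD3_c3)) = v19707 :=
  Lgr Lrot114 (Lpr_gt (f707373 IH) (Lpe (f707372 IH) (Lpr_dt (K51.f82985 IH) (Lpr_gt (K51.f436687 IH) (Lpe (K51.f707366 IH) (Lpr_et (K51.f510229 IH) (Lpr_gt (K51.f652958 IH) (Lpqs (K51.f707374 IH) (Lpr_dt (f56797 IH) (Lpr_gt (f161917 IH) (Lpr_df (f781739 IH) (Lpn v19707))))))))))))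
theorem f414598 : Led Lsl_bt (LP (LK LD1_c6 LD2_c45 LD3_c55)) = (LP (LK LD1_c3 LD2_c21 LD3_c2)) :=
  Lre_b IH (LK LD1_c6 LD2_c45 LD3_c55) (LK LD1_c3 LD2_c21 LD3_c2) Lrfl Lrfl
theorem f748352 : Led Lsl_ef (LP (LK LD1_c6 LD2_c45 LD3_c55)) = K56.v16303 :=
  Lgr Lrot29 (Lpr_bt (f414598 IH) (Lpe (K50.f442909 IH) (Lpr_bt (K56.f748350 IH) (Lpn K56.v16303))))
theorem f781741 : Led Lsl_ct (LP (LK LD1_c20 LD2_c38 LD3_c3)) = K56.v16303 :=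
  Lgr Lrot15 (Lpr_ef (f781740 IH) (Lpe (f781736 IH) (Lpr_ef (f748352 IH) (Lpn K56.v16303))))
theorem f781742 : Led Lsl_ct (LP (LK LD1_c20 LD2_c38 LD3_c3)) = (LP (LK LD1_c11 LD2_c38 LD3_c61)) :=
  Leop (Lpqs (K56.f752752 IH) (Lpe (f781741 IH) (Lpn (LP (LK LD1_c20 LD2_c38 LD3_c3)))))
theorem seed_1474 : LEOK LG_c (LK LD1_c20 LD2_c38 LD3_c3) :=
  Leoe_c (LK LD1_c20 LD2_c38 LD3_c3) (f781742 IH)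
def v19748 : LQ := Led Lsl_ct (LP (LK LD1_c6 LD2_c46 LD3_c18))
theorem f781909 : Led Lsl_ct (LP (LK LD1_c6 LD2_c46 LD3_c18)) = v19748 :=
  Lrfl
theorem f781910 : Led Lsl_cf (LP (LK LD1_c6 LD2_c46 LD3_c18)) = v19748 :=
  Lgr Lrot11 (Lpr_ct (f781909 IH) (Lpn v19748))
theorem f454770 : Led Lsl_gt (LP (LK LD1_c3 LD2_c21 LD3_c17)) = (LP (LK LD1_c6 LD2_c46 LD3_c18)) :=
  Lre_g IH (LK LD1_c3 LD2_c21 LD3_c17) (LK LD1_c6 LD2_c46 LD3_c18) Lrfl Lrfl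
theorem f416796 : Led Lsl_ct (LP (LK LD1_c1 LD2_c36 LD3_c56)) = (LP (LK LD1_c3 LD2_c21 LD3_c17)) :=
  Lre_c IH (LK LD1_c1 LD2_c36 LD3_c56) (LK LD1_c3 LD2_c21 LD3_c17) Lrfl Lrfl
theorem f509527 : Led Lsl_bf (LP (LK LD1_c1 LD2_c37 LD3_c3)) = K58.v2188 :=
  Lgr Lrot24 (Lpr_bt (K58.f509526 IH) (Lpn K58.v2188))
theorem f781912 : Led Lsl_bf K59.v6768 = v19748 :=
  Lgr Lrot165 (Lpe (f777827 IH) (Lpr_ct (f777821 IH) (Lpe (f777819 IH) (Lpqs (K59.f768870 IH) (Lpe (K59.f672178 IH) (Lpe (f509527 IH) (Lpr_gt (K32.f23185 IH) (Lpe (K46.f23191 IH) (Lpr_ct (f416796 IH) (Lpr_gt (f454770 IH) (Lpr_cf (f781910 IH) (Lpn v19748))))))))))))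
theorem f781915 : Led Lsl_et K58.v6766 = v19748 :=
  Lgr Lrot74 (Lpe (K58.f658300 IH) (Lpr_ef (K59.f658305 IH) (Lpr_bf (f781912 IH) (Lpn v19748))))
theorem f769186 : Led Lsl_ct K58.v13805 = K58.v6766 :=
  Lgr Lrot40 (Lpe (K58.f704999 IH) (Lpr_cf (K58.f704991 IH) (Lpq (K58.f769073 IH) (Lpr_ff (K58.f769184 IH) (Lpn K58.v6766)))))
theorem f781916 : Led Lsl_ef K58.v13805 = (LP (LK LD1_c6 LD2_c46 LD3_c18)) :=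
  Lgr Lrot28 (Lpr_ct (f769186 IH) (Lpr_et (f781915 IH) (Lpe (f781910 IH) (Lpn (LP (LK LD1_c6 LD2_c46 LD3_c18))))))
theorem f781917 : Led Lsl_et (LP (LK LD1_c6 LD2_c46 LD3_c18)) = (LP (LK LD1_c9 LD2_c29 LD3_c11)) :=
  Leop (Lpq (K58.f769191 IH) (Lpr_ef (f781916 IH) (Lpn (LP (LK LD1_c6 LD2_c46 LD3_c18)))))
theorem seed_1475 : LEOK LG_e (LK LD1_c6 LD2_c46 LD3_c18) :=
  Leoe_e (LK LD1_c6 LD2_c46 LD3_c18) (f781917 IH)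
def v19766 : LQ := Led Lsl_dt (LP (LK LD1_c6 LD2_c46 LD3_c24))
theorem f782019 : Led Lsl_dt (LP (LK LD1_c6 LD2_c46 LD3_c24)) = v19766 :=
  Lrfl
theorem f509484 : Led Lsl_ct (LP (LK LD1_c6 LD2_c46 LD3_c19)) = (LP (LK LD1_c3 LD2_c21 LD3_c18)) :=
  Lre_c IH (LK LD1_c6 LD2_c46 LD3_c19) (LK LD1_c3 LD2_c21 LD3_c18) Lrfl Lrfl
theorem f446263 : Led Lsl_ct (LP (LK LD1_c3 LD2_c21 LD3_c22)) = (LP (LK LD1_c6 LD2_c46 LD3_c24)) :=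
  Lre_c IH (LK LD1_c3 LD2_c21 LD3_c22) (LK LD1_c6 LD2_c46 LD3_c24) Lrfl Lrfl
theorem f675187 : Led Lsl_ff (LP (LK LD1_c6 LD2_c46 LD3_c19)) = (LP (LK LD1_c6 LD2_c46 LD3_c24)) :=
  Lgr Lrot23 (Lpr_ct (f509484 IH) (Lpq (K49.f675148 IH) (Lpe (K49.f653252 IH) (Lpr_ct (f446263 IH) (Lpn (LP (LK LD1_c6 LD2_c46 LD3_c24)))))))
theorem f675194 : Led Lsl_ft (LP (LK LD1_c6 LD2_c46 LD3_c19)) = (LP (LK LD1_c6 LD2_c46 LD3_c24)) :=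
  Lgr Lrot48 (Lpr_ff (f675187 IH) (Lpn (LP (LK LD1_c6 LD2_c46 LD3_c24))))
def v19752 : LQ := Led Lsl_dt (LP (LK LD1_c6 LD2_c46 LD3_c19))
theorem f781945 : Led Lsl_dt (LP (LK LD1_c6 LD2_c46 LD3_c19)) = v19752 :=
  Lrfl
theorem f781946 : Led Lsl_df (LP (LK LD1_c6 LD2_c46 LD3_c19)) = v19752 :=
  Lgr Lrot38 (Lpr_dt (f781945 IH) (Lpn v19752))
theorem f782022 : Led Lsl_ff v19752 = v19766 :=
  Lgr Lrot19 (Lpe (f781946 IH) (Lpr_ft (f675194 IH) (Lpr_dt (f782019 IH) (Lpn v19766))))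
theorem f782023 : Led Lsl_ft v19752 = v19766 :=
  Lgr Lrot48 (Lpr_ff (f782022 IH) (Lpn v19766))
theorem f509470 : Led Lsl_ct (LP (LK LD1_c6 LD2_c46 LD3_c20)) = (LP (LK LD1_c3 LD2_c21 LD3_c19)) :=
  Lre_c IH (LK LD1_c6 LD2_c46 LD3_c20) (LK LD1_c3 LD2_c21 LD3_c19) Lrfl Lrfl
theorem f675160 : Led Lsl_ef (LP (LK LD1_c6 LD2_c46 LD3_c20)) = (LP (LK LD1_c4 LD2_c48 LD3_c23)) :=
  Lgr Lrot28 (Lpr_ct (f509470 IH) (Lpqs (K49.f675153 IH) (Lpqs (K49.f675108 IH) (Lpe (K49.f634080 IH) (Lpr_ct (K58.f634053 IH) (Lpn (LP (LK LD1_c4 LD2_c48 LD3_c23))))))))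
theorem f675115 : Led Lsl_at (LP (LK LD1_c9 LD2_c29 LD3_c13)) = (LP (LK LD1_c4 LD2_c48 LD3_c23)) :=
  Lgr Lrot100 (Lpr_af (K58.f675113 IH) (Lpn (LP (LK LD1_c4 LD2_c48 LD3_c23))))
theorem f454727 : Led Lsl_ct (LP (LK LD1_c6 LD2_c46 LD3_c24)) = (LP (LK LD1_c3 LD2_c21 LD3_c22)) :=
  Lre_c IH (LK LD1_c6 LD2_c46 LD3_c24) (LK LD1_c3 LD2_c21 LD3_c22) Lrfl Lrfl
theorem f675106 : Led Lsl_ef (LP (LK LD1_c6 LD2_c46 LD3_c24)) = (LP (LK LD1_c9 LD2_c29 LD3_c13)) :=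
  Lgr Lrot28 (Lpr_ct (f454727 IH) (Lpr_et (K49.f653248 IH) (Lpqs (K49.f675103 IH) (Lpr_ct (K58.f432221 IH) (Lpn (LP (LK LD1_c9 LD2_c29 LD3_c13)))))))
theorem f675109 : Led Lsl_et (LP (LK LD1_c6 LD2_c46 LD3_c24)) = (LP (LK LD1_c9 LD2_c29 LD3_c13)) :=
  Lgr Lrot87 (Lpr_ef (f675106 IH) (Lpn (LP (LK LD1_c9 LD2_c29 LD3_c13))))
theorem f675174 : Led Lsl_at (LP (LK LD1_c6 LD2_c46 LD3_c20)) = (LP (LK LD1_c6 LD2_c46 LD3_c24)) :=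
  Lgr Lrot80 (Lpr_ef (f675160 IH) (Lpe (f675115 IH) (Lpe (f675109 IH) (Lpn (LP (LK LD1_c6 LD2_c46 LD3_c24))))))
def v19755 : LQ := Led Lsl_dt (LP (LK LD1_c6 LD2_c46 LD3_c20))
theorem f781958 : Led Lsl_dt (LP (LK LD1_c6 LD2_c46 LD3_c20)) = v19755 :=
  Lrfl
theorem f781959 : Led Lsl_df (LP (LK LD1_c6 LD2_c46 LD3_c20)) = v19755 :=
  Lgr Lrot38 (Lpr_dt (f781958 IH) (Lpn v19755))
theorem f782020 : Led Lsl_af v19755 = v19766 :=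
  Lgr Lrot117 (Lpe (f781959 IH) (Lpr_at (f675174 IH) (Lpr_dt (f782019 IH) (Lpn v19766))))
theorem f675176 : Led Lsl_et (LP (LK LD1_c6 LD2_c46 LD3_c20)) = (LP (LK LD1_c4 LD2_c48 LD3_c23)) :=
  Lgr Lrot87 (Lpr_ef (f675160 IH) (Lpn (LP (LK LD1_c4 LD2_c48 LD3_c23))))
def v18622 : LQ := Led Lsl_dt (LP (LK LD1_c6 LD2_c31 LD3_c28))
theorem f767775 : Led Lsl_dt (LP (LK LD1_c6 LD2_c31 LD3_c28)) = v18622 :=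
  Lrfl
theorem f781960 : Led Lsl_gt v18622 = v19755 :=
  Lgr Lrot139 (Lpe (f767775 IH) (Lpe (K46.f147533 IH) (Lpe (K49.f147532 IH) (Lpr_dt (K7.f147437 IH) (Lpe (K6.f147517 IH) (Lpe (K6.f147518 IH) (Lpr_et (K58.f661541 IH) (Lpq (K58.f769825 IH) (Lpe (K58.f705018 IH) (Lpe (f675176 IH) (Lpr_dt (f781958 IH) (Lpn v19755))))))))))))
theorem f782024 : Led Lsl_gt v19752 = v18622 :=
  Lgr Lrot5 (Lpr_ft (f782023 IH) (Lpe (f782020 IH) (Lpe (f781960 IH) (Lpn v18622))))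
def v19751 : LQ := Led Lsl_gf (LP (LK LD1_c6 LD2_c46 LD3_c19))
theorem f781941 : Led Lsl_gf (LP (LK LD1_c6 LD2_c46 LD3_c19)) = v19751 :=
  Lrfl
def v19764 : LQ := Led Lsl_gt (LP (LK LD1_c6 LD2_c46 LD3_c24))
theorem f781997 : Led Lsl_gt (LP (LK LD1_c6 LD2_c46 LD3_c24)) = v19764 :=
  Lrfl
theorem f413644 : Led Lsl_bt (LP (LK LD1_c0 LD2_c44 LD3_c55)) = (LP (LK LD1_c1 LD2_c36 LD3_c56)) :=
  Lre_b IH (LK LD1_c0 LD2_c44 LD3_c55) (LK LD1_c1 LD2_c36 LD3_c56) Lrfl Lrfl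
theorem f416543 : Led Lsl_bt (LP (LK LD1_c3 LD2_c11 LD3_c19)) = (LP (LK LD1_c1 LD2_c32 LD3_c5)) :=
  Lre_b IH (LK LD1_c3 LD2_c11 LD3_c19) (LK LD1_c1 LD2_c32 LD3_c5) Lrfl Lrfl
theorem f648735 : Led Lsl_bt K35.v1960 = K58.v5660 :=
  Lgr Lrot35 (Lpe (K35.f506608 IH) (Lpe (f416543 IH) (Lpr_ff (K58.f648734 IH) (Lpn K58.v5660))))
def v9200 : LQ := Led Lsl_dt K49.v2514
theorem f674231 : Led Lsl_dt K49.v2514 = v9200 :=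
  Lrfl
theorem f674232 : Led Lsl_df K49.v2514 = v9200 :=
  Lgr Lrot38 (Lpr_dt (f674231 IH) (Lpn v9200))
theorem f674238 : Led Lsl_dt K49.v2541 = K49.v9201 :=
  Lgr Lrot42 (Lpr_df (K49.f674237 IH) (Lpn K49.v9201))
theorem f674537 : Led Lsl_ff v9200 = K49.v9201 :=
  Lgr Lrot19 (Lpe (f674232 IH) (Lpq (K50.f674533 IH) (Lpe (K49.f674434 IH) (Lpr_dt (f674238 IH) (Lpn K49.v9201)))))
theorem f769764 : Led Lsl_bt v9200 = K58.v18153 :=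
  Lgr Lrot35 (Lpr_ff (f674537 IH) (Lpe (K49.f674236 IH) (Lpr_ff (K58.f769763 IH) (Lpn K58.v18153))))
theorem f782000 : Led Lsl_ct v9200 = v19764 :=
  Lgr Lrot63 (Lpr_bt (f769764 IH) (Lpr_gt (K58.f765320 IH) (Lpe (f648735 IH) (Lpqs (K35.f623406 IH) (Lpe (K35.f509779 IH) (Lpr_gt (K24.f23212 IH) (Lpe (K24.f413642 IH) (Lpr_bt (f413644 IH) (Lpr_gt (K49.f413645 IH) (Lpr_ct (f446263 IH) (Lpr_gt (f781997 IH) (Lpn v19764))))))))))))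
def v19750 : LQ := Led Lsl_gt (LP (LK LD1_c6 LD2_c46 LD3_c19))
theorem f781935 : Led Lsl_gt (LP (LK LD1_c6 LD2_c46 LD3_c19)) = v19750 :=
  Lrfl
theorem f416547 : Led Lsl_ct (LP (LK LD1_c3 LD2_c21 LD3_c18)) = (LP (LK LD1_c6 LD2_c46 LD3_c19)) :=
  Lre_c IH (LK LD1_c3 LD2_c21 LD3_c18) (LK LD1_c6 LD2_c46 LD3_c19) Lrfl Lrfl
theorem f653644 : Led Lsl_ct K49.v6382 = K49.v6496 :=
  Lgr Lrot59 (Lpr_cf (K49.f653643 IH) (Lpn K49.v6496))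
theorem f781937 : Led Lsl_cf K49.v9201 = v19750 :=
  Lgr Lrot99 (Lpe (f674238 IH) (Lpqs (K49.f674239 IH) (Lpe (f653644 IH) (Lpe (K49.f653131 IH) (Lpe (K49.f414094 IH) (Lpe (K46.f414093 IH) (Lpe (K46.f446255 IH) (Lpr_gt (K48.f141146 IH) (Lpr_ct (f416547 IH) (Lpr_gt (f781935 IH) (Lpn v19750)))))))))))
theorem f782003 : Led Lsl_ff v19750 = v19764 :=
  Lgr Lrot23 (Lpe (f781937 IH) (Lpe (f674537 IH) (Lpr_ct (f782000 IH) (Lpn v19764))))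
theorem f674234 : Led Lsl_bf K49.v6498 = K49.v9201 :=
  Lgr Lrot96 (Lpe (K49.f653649 IH) (Lpr_bt (K50.f673994 IH) (Lpr_et (K49.f674233 IH) (Lpn K49.v9201))))
theorem f781938 : Led Lsl_ct K49.v9201 = v19750 :=
  Lgr Lrot63 (Lpe (f674234 IH) (Lpq (K58.f770066 IH) (Lpe (K58.f648730 IH) (Lpe (K59.f414842 IH) (Lpr_ct (K32.f79834 IH) (Lpr_gt (K32.f416539 IH) (Lpe (K16.f139926 IH) (Lpr_bt (K51.f141145 IH) (Lpr_gt (K48.f141146 IH) (Lpr_ct (f416547 IH) (Lpr_gt (f781935 IH) (Lpn v19750))))))))))))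
theorem f673991 : Led Lsl_ct K49.v7233 = K49.v2514 :=
  Lgr Lrot59 (Lpr_cf (K49.f673990 IH) (Lpn K49.v2514))
theorem f781939 : Led Lsl_ef K49.v7233 = v19750 :=
  Lgr Lrot28 (Lpr_ct (f673991 IH) (Lpr_et (K49.f674233 IH) (Lpr_ct (f781938 IH) (Lpn v19750))))
theorem f674536 : Led Lsl_ff K49.v7233 = K49.v6382 :=
  Lgr Lrot23 (Lpr_ct (f673991 IH) (Lpq (K50.f674533 IH) (Lpe (K49.f674434 IH) (Lpqs (K49.f674239 IH) (Lpe (K49.f653643 IH) (Lpn K49.v6382))))))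
theorem f674539 : Led Lsl_ft K49.v7233 = K49.v5818 :=
  Lgr Lrot48 (Lpr_ff (f674536 IH) (Lpqs (K49.f662836 IH) (Lpn K49.v5818)))
def v19440 : LQ := Led Lsl_gt (LP (LK LD1_c6 LD2_c42 LD3_c29))
theorem f779746 : Led Lsl_gt (LP (LK LD1_c6 LD2_c42 LD3_c29)) = v19440 :=
  Lrfl
theorem f148411 : Led Lsl_ct (LP (LK LD1_c3 LD2_c19 LD3_c15)) = (LP (LK LD1_c6 LD2_c42 LD3_c29)) :=
  Lre_c IH (LK LD1_c3 LD2_c19 LD3_c15) (LK LD1_c6 LD2_c42 LD3_c29) Lrfl Lrfl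
def v18469 : LQ := Led Lsl_bt (LP (LK LD1_c6 LD2_c29 LD3_c58))
theorem f767107 : Led Lsl_bt (LP (LK LD1_c6 LD2_c29 LD3_c58)) = v18469 :=
  Lrfl
theorem f767108 : Led Lsl_bf (LP (LK LD1_c6 LD2_c29 LD3_c58)) = v18469 :=
  Lgr Lrot24 (Lpr_bt (f767107 IH) (Lpn v18469))
theorem f779750 : Led Lsl_ct v18469 = v19440 :=
  Lgr Lrot63 (Lpe (f767108 IH) (Lpr_gt (K58.f79820 IH) (Lpe (K59.f140762 IH) (Lpr_ct (K32.f13576 IH) (Lpr_gt (K57.f454597 IH) (Lpe (K24.f24661 IH) (Lpr_bt (K48.f139950 IH) (Lpqs (K48.f662728 IH) (Lpe (K48.f652196 IH) (Lpr_ct (f148411 IH) (Lpr_gt (f779746 IH) (Lpn v19440))))))))))))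
def v9223 : LQ := Led Lsl_et K49.v2541
theorem f674738 : Led Lsl_et K49.v2541 = v9223 :=
  Lrfl
theorem f674741 : Led Lsl_ef K49.v2541 = v9223 :=
  Lgr Lrot88 (Lpr_et (f674738 IH) (Lpn v9223))
theorem f674743 : Led Lsl_bt K58.v6499 = v9223 :=
  Lgr Lrot119 (Lpe (K58.f653651 IH) (Lpr_bf (K49.f653642 IH) (Lpq (K49.f674239 IH) (Lpr_ef (f674741 IH) (Lpn v9223)))))
theorem f770041 : v9223 = v18469 :=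
  Lefun (Lecon (f674743 IH) (K58.f770035 IH).symm) (f767107 IH)
theorem f779752 : Led Lsl_ef K49.v6382 = v19440 :=
  Lgr Lrot28 (Lpr_ct (f653644 IH) (Lpq (K49.f674239 IH) (Lpr_et (f674738 IH) (Lpqs (f770041 IH) (Lpr_ct (f779750 IH) (Lpn v19440))))))
theorem f779756 : Led Lsl_et K49.v6382 = v19440 :=
  Lgr Lrot87 (Lpr_ef (f779752 IH) (Lpn v19440))
def v17716 : LQ := Led Lsl_bt (LP (LK LD1_c6 LD2_c21 LD3_c35))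
theorem f761843 : Led Lsl_bt (LP (LK LD1_c6 LD2_c21 LD3_c35)) = v17716 :=
  Lrfl
theorem f761844 : Led Lsl_bf (LP (LK LD1_c6 LD2_c21 LD3_c35)) = v17716 :=
  Lgr Lrot24 (Lpr_bt (f761843 IH) (Lpn v17716))
theorem f775673 : Led Lsl_ff v17716 = v18469 :=
  Lgr Lrot25 (Lpe (f761844 IH) (Lpqs (K58.f770091 IH) (Lpqs (K58.f770042 IH) (Lpe (K58.f767094 IH) (Lpr_bt (f767107 IH) (Lpn v18469))))))
theorem f775679 : Led Lsl_ft v17716 = v9223 :=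
  Lgr Lrot48 (Lpr_ff (f775673 IH) (Lpq (f770041 IH) (Lpn v9223)))
def v18714 : LQ := Led Lsl_gt (LP (LK LD1_c6 LD2_c32 LD3_c20))
theorem f768171 : Led Lsl_gt (LP (LK LD1_c6 LD2_c32 LD3_c20)) = v18714 :=
  Lrfl
theorem f22531 : Led Lsl_ct (LP (LK LD1_c3 LD2_c14 LD3_c19)) = (LP (LK LD1_c6 LD2_c32 LD3_c20)) :=
  Lre_c IH (LK LD1_c3 LD2_c14 LD3_c19) (LK LD1_c6 LD2_c32 LD3_c20) Lrfl Lrfl
theorem f82633 : Led Lsl_bt (LP (LK LD1_c1 LD2_c30 LD3_c28)) = (LP (LK LD1_c3 LD2_c8 LD3_c28)) :=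
  Lre_b IH (LK LD1_c1 LD2_c30 LD3_c28) (LK LD1_c3 LD2_c8 LD3_c28) Lrfl Lrfl
theorem f768173 : Led Lsl_ct v17716 = v18714 :=
  Lgr Lrot63 (Lpe (f761844 IH) (Lpr_gt (K46.f82635 IH) (Lpe (f82633 IH) (Lpr_ct (K48.f82645 IH) (Lpr_gt (K32.f454595 IH) (Lpe (K24.f446142 IH) (Lpr_bt (K48.f446139 IH) (Lpqs (K49.f662773 IH) (Lpe (K49.f649875 IH) (Lpr_ct (f22531 IH) (Lpr_gt (f768171 IH) (Lpn v18714))))))))))))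
theorem f768174 : Led Lsl_cf v17716 = v18714 :=
  Lgr Lrot11 (Lpr_ct (f768173 IH) (Lpn v18714))
theorem f779753 : Led Lsl_ff v18714 = v19440 :=
  Lgr Lrot23 (Lpe (f768174 IH) (Lpr_ft (f775679 IH) (Lpqs (f770041 IH) (Lpr_ct (f779750 IH) (Lpn v19440)))))
theorem f782004 : Led Lsl_et v18714 = v19764 :=
  Lgr Lrot69 (Lpr_ff (f779753 IH) (Lpe (f779756 IH) (Lpqs (K49.f662836 IH) (Lpe (f674539 IH) (Lpr_ef (f781939 IH) (Lpr_ff (f782003 IH) (Lpn v19764)))))))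
def v19441 : LQ := Led Lsl_gf (LP (LK LD1_c6 LD2_c42 LD3_c29))
theorem f779758 : Led Lsl_gf (LP (LK LD1_c6 LD2_c42 LD3_c29)) = v19441 :=
  Lrfl
theorem f674540 : Led Lsl_at K49.v7233 = K54.v5817 :=
  Lgr Lrot26 (Lpr_ff (f674536 IH) (Lpqs (K49.f662836 IH) (Lpe (K49.f649568 IH) (Lpr_gt (K54.f649567 IH) (Lpn K54.v5817)))))
theorem f674541 : Led Lsl_af K49.v7233 = K54.v5817 :=
  Lgr Lrot0 (Lpr_at (f674540 IH) (Lpn K54.v5817))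
theorem f674542 : Led Lsl_ft K48.v7234 = K54.v5817 :=
  Lgr Lrot2 (Lpe (K48.f662593 IH) (Lpr_gt (K49.f662592 IH) (Lpr_af (f674541 IH) (Lpn K54.v5817))))
theorem f674543 : Led Lsl_af K48.v7234 = K49.v5818 :=
  Lgr Lrot45 (Lpr_ft (f674542 IH) (Lpe (f674541 IH) (Lpr_ft (f674539 IH) (Lpn K49.v5818))))
def v19424 : LQ := Led Lsl_et (LP (LK LD1_c6 LD2_c42 LD3_c19))
theorem f779681 : Led Lsl_et (LP (LK LD1_c6 LD2_c42 LD3_c19)) = v19424 :=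
  Lrfl
theorem f779685 : Led Lsl_ef (LP (LK LD1_c6 LD2_c42 LD3_c19)) = v19424 :=
  Lgr Lrot88 (Lpr_et (f779681 IH) (Lpn v19424))
theorem f527237 : Led Lsl_ef (LP (LK LD1_c1 LD2_c47 LD3_c59)) = K58.v2537 :=
  Lgr Lrot88 (Lpr_et (K58.f527234 IH) (Lpn K58.v2537))
theorem f527240 : Led Lsl_dt K58.v2537 = K58.v2537 :=
  Lgr Lrot77 (Lpe (K58.f527234 IH) (Lpe (K4.f26249 IH) (Lpe (K3.f104118 IH) (Lpe (K4.f104122 IH) (Lpr_ef (f527237 IH) (Lpn K58.v2537))))))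
def v9214 : LQ := Led Lsl_gf K58.v2537
theorem f674403 : Led Lsl_gf K58.v2537 = v9214 :=
  Lrfl
theorem f779689 : Led Lsl_df v9214 = v19424 :=
  Lgr Lrot170 (Lpe (f674403 IH) (Lpe (f527240 IH) (Lpe (f527237 IH) (Lpe (K5.f128328 IH) (Lpr_dt (K5.f124836 IH) (Lpe (K5.f124828 IH) (Lpr_df (K4.f115002 IH) (Lpr_et (K5.f114970 IH) (Lpq (K58.f769943 IH) (Lpe (K58.f761740 IH) (Lpr_ef (f779685 IH) (Lpn v19424))))))))))))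
theorem f775680 : Led Lsl_ef v17716 = v9200 :=
  Lgr Lrot21 (Lpr_ft (f775679 IH) (Lpe (f674741 IH) (Lpr_ft (K49.f674432 IH) (Lpqs (K50.f674533 IH) (Lpr_et (K49.f674233 IH) (Lpe (f674537 IH) (Lpn v9200)))))))
theorem f779692 : Led Lsl_gt v17716 = v19424 :=
  Lgr Lrot137 (Lpr_ef (f775680 IH) (Lpe (f674232 IH) (Lpe (K49.f523713 IH) (Lpe (K35.f125668 IH) (Lpr_et (K34.f125659 IH) (Lpr_gf (K5.f128328 IH) (Lpr_ef (f527237 IH) (Lpr_dt (f527240 IH) (Lpr_gf (f674403 IH) (Lpr_df (f779689 IH) (Lpn v19424)))))))))))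
def v7166 : LQ := Led Lsl_et (LP (LK LD1_c3 LD2_c40 LD3_c27))
theorem f661635 : Led Lsl_et (LP (LK LD1_c3 LD2_c40 LD3_c27)) = v7166 :=
  Lrfl
theorem f661636 : Led Lsl_ef (LP (LK LD1_c3 LD2_c40 LD3_c27)) = v7166 :=
  Lgr Lrot88 (Lpr_et (f661635 IH) (Lpn v7166))
theorem f674739 : Led Lsl_af v7166 = v9223 :=
  Lgr Lrot50 (Lpe (f661636 IH) (Lpr_at (K50.f661625 IH) (Lpq (K50.f674535 IH) (Lpr_et (f674738 IH) (Lpn v9223)))))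
theorem f779693 : Led Lsl_gf v7166 = v19424 :=
  Lgr Lrot76 (Lpr_af (f674739 IH) (Lpe (f775679 IH) (Lpr_gt (f779692 IH) (Lpn v19424))))
theorem f779690 : Led Lsl_dt v9214 = v19424 :=
  Lgr Lrot42 (Lpr_df (f779689 IH) (Lpn v19424))
theorem f23736 : Led Lsl_ct (LP (LK LD1_c6 LD2_c32 LD3_c20)) = (LP (LK LD1_c3 LD2_c14 LD3_c19)) :=
  Lre_c IH (LK LD1_c6 LD2_c32 LD3_c20) (LK LD1_c3 LD2_c14 LD3_c19) Lrfl Lrfl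
def v18715 : LQ := Led Lsl_gf (LP (LK LD1_c6 LD2_c32 LD3_c20))
theorem f768175 : Led Lsl_gf (LP (LK LD1_c6 LD2_c32 LD3_c20)) = v18715 :=
  Lrfl
theorem f779695 : Led Lsl_ct v7166 = v18715 :=
  Lgr Lrot152 (Lpr_gf (f779693 IH) (Lpe (f779690 IH) (Lpe (f674403 IH) (Lpr_ct (K58.f649717 IH) (Lpq (K58.f770743 IH) (Lpe (K58.f649854 IH) (Lpr_ct (K58.f22741 IH) (Lpe (K48.f23738 IH) (Lpe (f23736 IH) (Lpr_gf (f768175 IH) (Lpn v18715)))))))))))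
theorem f661630 : Led Lsl_cf (LP (LK LD1_c3 LD2_c40 LD3_c27)) = K48.v7164 :=
  Lgr Lrot11 (Lpr_ct (K48.f661629 IH) (Lpn K48.v7164))
theorem f779697 : Led Lsl_ef K48.v7164 = v18715 :=
  Lgr Lrot28 (Lpe (f661630 IH) (Lpr_et (f661635 IH) (Lpr_ct (f779695 IH) (Lpn v18715))))
theorem f779698 : Led Lsl_et K48.v7164 = v18715 :=
  Lgr Lrot87 (Lpr_ef (f779697 IH) (Lpn v18715))
theorem f779755 : Led Lsl_at v18715 = v19440 :=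
  Lgr Lrot80 (Lpe (f779698 IH) (Lpq (K48.f663115 IH) (Lpr_af (f674543 IH) (Lpq (K49.f662836 IH) (Lpr_ef (f779752 IH) (Lpn v19440))))))
theorem f779760 : Led Lsl_ff v18715 = v19441 :=
  Lgr Lrot52 (Lpr_at (f779755 IH) (Lpe (f779746 IH) (Lpr_gf (f779758 IH) (Lpn v19441))))
theorem f779762 : Led Lsl_ft v18715 = v19441 :=
  Lgr Lrot48 (Lpr_ff (f779760 IH) (Lpn v19441))
theorem f674742 : Led Lsl_at v7166 = v9223 :=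
  Lgr Lrot80 (Lpe (f661635 IH) (Lpr_af (K50.f661626 IH) (Lpq (K50.f674535 IH) (Lpr_ef (f674741 IH) (Lpn v9223)))))
theorem f779696 : Led Lsl_cf v7166 = v18715 :=
  Lgr Lrot11 (Lpr_ct (f779695 IH) (Lpn v18715))
theorem f779751 : Led Lsl_af v18715 = v19440 :=
  Lgr Lrot68 (Lpe (f779696 IH) (Lpr_at (f674742 IH) (Lpqs (f770041 IH) (Lpr_ct (f779750 IH) (Lpn v19440)))))
theorem f779754 : Led Lsl_ft v18714 = v19440 :=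
  Lgr Lrot48 (Lpr_ff (f779753 IH) (Lpn v19440))
theorem f779763 : Led Lsl_af v18714 = v19441 :=
  Lgr Lrot45 (Lpr_ft (f779754 IH) (Lpe (f779751 IH) (Lpr_ft (f779762 IH) (Lpn v19441))))
theorem f674733 : Led Lsl_af v9200 = K50.v9222 :=
  Lgr Lrot117 (Lpe (f674232 IH) (Lpq (K50.f674533 IH) (Lpe (K49.f674431 IH) (Lpr_dt (K50.f674732 IH) (Lpn K50.v9222)))))
def v6398 : LQ := Led Lsl_bt (LP (LK LD1_c3 LD2_c21 LD3_c18))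
theorem f653214 : Led Lsl_bt (LP (LK LD1_c3 LD2_c21 LD3_c18)) = v6398 :=
  Lrfl
theorem f754339 : Led Lsl_ff (LP (LK LD1_c6 LD2_c10 LD3_c26)) = K59.v17013 :=
  Lgr Lrot3 (Lpr_ft (K59.f754335 IH) (Lpn K59.v17013))
theorem f129638 : Led Lsl_at (LP (LK LD1_c6 LD2_c10 LD3_c26)) = (LP (LK LD1_c3 LD2_c1 LD3_c53)) :=
  Lre_a IH (LK LD1_c6 LD2_c10 LD3_c26) (LK LD1_c3 LD2_c1 LD3_c53) Lrfl Lrfl
theorem f754341 : Led Lsl_at K59.v5201 = K59.v17013 :=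
  Lgr Lrot66 (Lpe (K59.f646510 IH) (Lpe (f129638 IH) (Lpr_ff (f754339 IH) (Lpn K59.v17013))))
theorem f754346 : Led Lsl_gt (LP (LK LD1_c6 LD2_c10 LD3_c28)) = K59.v17013 :=
  Lgr Lrot46 (Lpe (K59.f124422 IH) (Lpr_ft (K59.f646510 IH) (Lpr_at (f754341 IH) (Lpn K59.v17013))))
theorem f129636 : Led Lsl_df (LP (LK LD1_c6 LD2_c10 LD3_c26)) = (LP (LK LD1_c6 LD2_c10 LD3_c26)) :=
  Lgr Lrot70 (Lpr_et (K59.f115555 IH) (Lpe (K32.f129624 IH) (Lpr_et (K5.f129628 IH) (Lpr_dt (K5.f129622 IH) (Lpr_et (K59.f128906 IH) (Lpn (LP (LK LD1_c6 LD2_c10 LD3_c26))))))))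
theorem f754343 : Led Lsl_dt K59.v17013 = K59.v17013 :=
  Lgr Lrot60 (Lpe (K59.f754335 IH) (Lpr_df (f129636 IH) (Lpr_ff (f754339 IH) (Lpn K59.v17013))))
def v2061 : LQ := Led Lsl_et (LP (LK LD1_c1 LD2_c34 LD3_c35))
theorem f508639 : Led Lsl_et (LP (LK LD1_c1 LD2_c34 LD3_c35)) = v2061 :=
  Lrfl
theorem f508641 : Led Lsl_ef (LP (LK LD1_c1 LD2_c34 LD3_c35)) = v2061 :=
  Lgr Lrot88 (Lpr_et (f508639 IH) (Lpn v2061))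
def v8487 : LQ := Led Lsl_ft v2061
theorem f671380 : Led Lsl_ft v2061 = v8487 :=
  Lrfl
theorem f671382 : Led Lsl_ff v2061 = v8487 :=
  Lgr Lrot3 (Lpr_ft (f671380 IH) (Lpn v8487))
theorem f754338 : Led Lsl_ef v8487 = K59.v17013 :=
  Lgr Lrot21 (Lpe (f671382 IH) (Lpe (f508641 IH) (Lpr_ft (K32.f115537 IH) (Lpr_et (K59.f128906 IH) (Lpr_ft (K59.f754335 IH) (Lpn K59.v17013))))))
def v537 : LQ := Led Lsl_et (LP (LK LD1_c0 LD2_c43 LD3_c61))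
theorem f453849 : Led Lsl_et (LP (LK LD1_c0 LD2_c43 LD3_c61)) = v537 :=
  Lrfl
theorem f453851 : Led Lsl_ef (LP (LK LD1_c0 LD2_c43 LD3_c61)) = v537 :=
  Lgr Lrot88 (Lpr_et (f453849 IH) (Lpn v537))
theorem f508640 : Led Lsl_af v537 = v2061 :=
  Lgr Lrot50 (Lpe (f453851 IH) (Lpr_at (K30.f115536 IH) (Lpr_et (f508639 IH) (Lpn v2061))))
def v3154 : LQ := Led Lsl_gf v537
theorem f624063 : Led Lsl_gf v537 = v3154 :=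
  Lrfl
theorem f671385 : Led Lsl_gf v3154 = v8487 :=
  Lgr Lrot47 (Lpe (f624063 IH) (Lpr_af (f508640 IH) (Lpr_ff (f671382 IH) (Lpn v8487))))
def v10031 : LQ := Led Lsl_et v3154
theorem f678443 : Led Lsl_et v3154 = v10031 :=
  Lrfl
theorem f678444 : Led Lsl_ef v3154 = v10031 :=
  Lgr Lrot88 (Lpr_et (f678443 IH) (Lpn v10031))
def v2572 : LQ := Led Lsl_bt (LP (LK LD1_c1 LD2_c48 LD3_c49))
def v9279 : LQ := Led Lsl_ft v2572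
theorem f674998 : Led Lsl_ft v2572 = v9279 :=
  Lrfl
theorem f675000 : Led Lsl_ff v2572 = v9279 :=
  Lgr Lrot3 (Lpr_ft (f674998 IH) (Lpn v9279))
theorem f527546 : Led Lsl_bt (LP (LK LD1_c1 LD2_c48 LD3_c49)) = v2572 :=
  Lrfl
theorem f527547 : Led Lsl_bf (LP (LK LD1_c1 LD2_c48 LD3_c49)) = v2572 :=
  Lgr Lrot24 (Lpr_bt (f527546 IH) (Lpn v2572))
theorem f675001 : Led Lsl_bt K49.v2575 = v9279 :=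
  Lgr Lrot35 (Lpe (K49.f527552 IH) (Lpr_bf (f527547 IH) (Lpr_ff (f675000 IH) (Lpn v9279))))
def v3153 : LQ := Led Lsl_gt v537
def v10022 : LQ := Led Lsl_at v3153
theorem f678421 : Led Lsl_at v3153 = v10022 :=
  Lrfl
theorem f678422 : Led Lsl_af v3153 = v10022 :=
  Lgr Lrot0 (Lpr_at (f678421 IH) (Lpn v10022))
theorem f624062 : Led Lsl_gt v537 = v3153 :=
  Lrfl
theorem f678423 : Led Lsl_ft v3154 = v10022 :=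
  Lgr Lrot2 (Lpe (f624063 IH) (Lpr_gt (f624062 IH) (Lpr_af (f678422 IH) (Lpn v10022))))
theorem f678424 : Led Lsl_ff v3154 = v10022 :=
  Lgr Lrot3 (Lpr_ft (f678423 IH) (Lpn v10022))
def v9276 : LQ := Led Lsl_at v2572
theorem f674988 : Led Lsl_at v2572 = v9276 :=
  Lrfl
theorem f674989 : Led Lsl_af v2572 = v9276 :=
  Lgr Lrot0 (Lpr_at (f674988 IH) (Lpn v9276))
def v1991 : LQ := Led Lsl_gf (LP (LK LD1_c1 LD2_c33 LD3_c7))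
def v8342 : LQ := Led Lsl_et v1991
theorem f670869 : Led Lsl_et v1991 = v8342 :=
  Lrfl
theorem f670871 : Led Lsl_ef v1991 = v8342 :=
  Lgr Lrot88 (Lpr_et (f670869 IH) (Lpn v8342))
theorem f506777 : Led Lsl_gf (LP (LK LD1_c1 LD2_c33 LD3_c7)) = v1991 :=
  Lrfl
theorem f453726 : Led Lsl_df (LP (LK LD1_c1 LD2_c6 LD3_c40)) = K51.v514 :=
  Lgr Lrot12 (Lpe (K5.f67043 IH) (Lpe (K4.f112958 IH) (Lpr_bt (K51.f453724 IH) (Lpn K51.v514))))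
def v535 : LQ := Led Lsl_dt (LP (LK LD1_c0 LD2_c43 LD3_c60))
theorem f453836 : Led Lsl_dt (LP (LK LD1_c0 LD2_c43 LD3_c60)) = v535 :=
  Lrfl
theorem f453839 : Led Lsl_gf K51.v514 = v535 :=
  Lgr Lrot143 (Lpe (f453726 IH) (Lpe (K3.f61659 IH) (Lpr_df (K5.f128403 IH) (Lpe (K5.f82331 IH) (Lpe (K2.f23579 IH) (Lpr_gf (K4.f107537 IH) (Lpe (K3.f24327 IH) (Lpr_gt (K3.f24391 IH) (Lpr_dt (f453836 IH) (Lpn v535))))))))))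
theorem f506780 : Led Lsl_cf v535 = v1991 :=
  Lgr Lrot166 (Lpe (f453839 IH) (Lpe (f453726 IH) (Lpr_gt (K4.f110007 IH) (Lpe (K2.f77983 IH) (Lpr_ct (K2.f60965 IH) (Lpe (K5.f25205 IH) (Lpe (K8.f160789 IH) (Lpe (K41.f157760 IH) (Lpr_gf (f506777 IH) (Lpn v1991))))))))))
def v3151 : LQ := Led Lsl_et v535
theorem f624052 : Led Lsl_et v535 = v3151 :=
  Lrfl
theorem f670872 : Led Lsl_ct v3151 = v8342 :=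
  Lgr Lrot15 (Lpe (f624052 IH) (Lpr_cf (f506780 IH) (Lpr_ef (f670871 IH) (Lpn v8342))))
def v3225 : LQ := Led Lsl_et K54.v583
theorem f624675 : Led Lsl_et K54.v583 = v3225 :=
  Lrfl
theorem f624678 : Led Lsl_ef K54.v583 = v3225 :=
  Lgr Lrot88 (Lpr_et (f624675 IH) (Lpn v3225))
theorem f98828 : Led Lsl_ff (LP (LK LD1_c0 LD2_c46 LD3_c11)) = (LP (LK LD1_c0 LD2_c43 LD3_c60)) :=
  Lgr Lrot25 (Lpr_bt (K4.f26122 IH) (Lpr_ft (K2.f94344 IH) (Lpr_bt (K3.f98709 IH) (Lpn (LP (LK LD1_c0 LD2_c43 LD3_c60))))))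
theorem f453838 : Led Lsl_df (LP (LK LD1_c0 LD2_c43 LD3_c60)) = v535 :=
  Lgr Lrot38 (Lpr_dt (f453836 IH) (Lpn v535))
theorem f455004 : Led Lsl_ff v535 = K58.v581 :=
  Lgr Lrot19 (Lpe (f453838 IH) (Lpe (f98828 IH) (Lpr_dt (K58.f455001 IH) (Lpn K58.v581))))
theorem f455008 : Led Lsl_ft v535 = K58.v581 :=
  Lgr Lrot48 (Lpr_ff (f455004 IH) (Lpn K58.v581))
theorem f455016 : Led Lsl_bf v535 = K54.v583 :=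
  Lgr Lrot61 (Lpr_ft (f455008 IH) (Lpe (K58.f455002 IH) (Lpr_ft (K54.f455014 IH) (Lpn K54.v583))))
theorem f624680 : Led Lsl_bt v3151 = v3225 :=
  Lgr Lrot119 (Lpe (f624052 IH) (Lpr_bf (f455016 IH) (Lpr_ef (f624678 IH) (Lpn v3225))))
def v10195 : LQ := Led Lsl_gt v3225
theorem f679196 : Led Lsl_gt v3225 = v10195 :=
  Lrfl
def v2835 : LQ := Led Lsl_et K51.v353
def v9647 : LQ := Led Lsl_ft v2835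
theorem f677048 : Led Lsl_ft v2835 = v9647 :=
  Lrfl
def v2834 : LQ := Led Lsl_ct K51.v353
def v9643 : LQ := Led Lsl_et v2834
theorem f677034 : Led Lsl_et v2834 = v9643 :=
  Lrfl
theorem f535881 : Led Lsl_ct K51.v353 = v2834 :=
  Lrfl
theorem f535889 : Led Lsl_et K51.v353 = v2835 :=
  Lrfl
theorem f535891 : Led Lsl_ef K51.v353 = v2835 :=
  Lgr Lrot88 (Lpr_et (f535889 IH) (Lpn v2835))
theorem f677036 : Led Lsl_cf v2835 = v9643 :=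
  Lgr Lrot39 (Lpe (f535891 IH) (Lpr_ct (f535881 IH) (Lpr_et (f677034 IH) (Lpn v9643))))
theorem f677050 : Led Lsl_ff v2835 = v9647 :=
  Lgr Lrot3 (Lpr_ft (f677048 IH) (Lpn v9647))
theorem f452375 : Led Lsl_bt (LP (LK LD1_c0 LD2_c31 LD3_c3)) = K51.v353 :=
  Lgr Lrot95 (Lpe (K3.f97556 IH) (Lpe (K3.f23317 IH) (Lpr_df (K51.f452374 IH) (Lpn K51.v353))))
theorem f535890 : Led Lsl_bf K58.v355 = v2835 :=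
  Lgr Lrot96 (Lpe (K58.f452382 IH) (Lpr_bt (f452375 IH) (Lpr_et (f535889 IH) (Lpn v2835))))
theorem f677051 : Led Lsl_bt K58.v2840 = v9647 :=
  Lgr Lrot35 (Lpe (K58.f535904 IH) (Lpr_bf (f535890 IH) (Lpr_ff (f677050 IH) (Lpn v9647))))
def v7796 : LQ := Led Lsl_gf K58.v1287
theorem f668449 : Led Lsl_gf K58.v1287 = v7796 :=
  Lrfl
theorem f494637 : Led Lsl_ef (LP (LK LD1_c1 LD2_c5 LD3_c36)) = K58.v1287 :=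
  Lgr Lrot88 (Lpr_et (K58.f494634 IH) (Lpn K58.v1287))
theorem f441925 : Led Lsl_at (LP (LK LD1_c1 LD2_c5 LD3_c36)) = (LP (LK LD1_c0 LD2_c31 LD3_c3)) :=
  Lgr Lrot51 (Lpr_df (K4.f104146 IH) (Lpe (K3.f79317 IH) (Lpe (K54.f23326 IH) (Lpn (LP (LK LD1_c0 LD2_c31 LD3_c3))))))
theorem f494638 : Led Lsl_at K58.v355 = K58.v1287 :=
  Lgr Lrot80 (Lpe (K58.f452381 IH) (Lpe (f441925 IH) (Lpr_ef (f494637 IH) (Lpn K58.v1287))))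
theorem f535905 : Led Lsl_ff K58.v355 = K58.v2840 :=
  Lgr Lrot3 (Lpr_ft (K58.f535904 IH) (Lpn K58.v2840))
theorem f668450 : Led Lsl_gt K58.v2840 = v7796 :=
  Lgr Lrot5 (Lpe (f535905 IH) (Lpr_at (f494638 IH) (Lpr_gf (f668449 IH) (Lpn v7796))))
theorem f668876 : Led Lsl_et K57.v4447 = K57.v7886 :=
  Lgr Lrot69 (Lpe (K57.f633430 IH) (Lpe (K49.f495053 IH) (Lpr_ff (K35.f495051 IH) (Lpr_ef (K57.f633402 IH) (Lpr_ff (K57.f668874 IH) (Lpn K57.v7886))))))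
theorem f633400 : Led Lsl_af (LP (LK LD1_c2 LD2_c21 LD3_c31)) = K57.v4440 :=
  Lgr Lrot0 (Lpr_at (K57.f633399 IH) (Lpn K57.v4440))
def v4439 : LQ := Led Lsl_gf (LP (LK LD1_c2 LD2_c21 LD3_c31))
theorem f633398 : Led Lsl_gf (LP (LK LD1_c2 LD2_c21 LD3_c31)) = v4439 :=
  Lrfl
theorem f668878 : Led Lsl_gf v4439 = K57.v7886 :=
  Lgr Lrot47 (Lpe (f633398 IH) (Lpr_af (f633400 IH) (Lpr_ff (K57.f668874 IH) (Lpn K57.v7886))))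
def v13157 : LQ := Led Lsl_gf (LP (LK LD1_c4 LD2_c40 LD3_c47))
theorem f701451 : Led Lsl_gf (LP (LK LD1_c4 LD2_c40 LD3_c47)) = v13157 :=
  Lrfl
theorem f758421 : Led Lsl_dt v4439 = v13157 :=
  Lgr Lrot171 (Lpr_gf (f668878 IH) (Lpe (f668876 IH) (Lpqs (K57.f668879 IH) (Lpe (K57.f633428 IH) (Lpr_gf (K49.f633415 IH) (Lpq (K49.f674033 IH) (Lpr_df (K57.f103357 IH) (Lpr_et (K58.f701288 IH) (Lpqs (K58.f758420 IH) (Lpe (K58.f701466 IH) (Lpe (K58.f632145 IH) (Lpr_dt (K51.f22878 IH) (Lpr_gf (f701451 IH) (Lpn v13157))))))))))))))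
theorem f758422 : Led Lsl_df v4439 = v13157 :=
  Lgr Lrot38 (Lpr_dt (f758421 IH) (Lpn v13157))
theorem f632119 : Led Lsl_dt K57.v4237 = K57.v4237 :=
  Lgr Lrot60 (Lpe (K57.f632113 IH) (Lpe (K49.f103346 IH) (Lpr_ff (K59.f632116 IH) (Lpn K57.v4237))))
theorem f632115 : Led Lsl_ef K58.v2840 = K57.v4237 :=
  Lgr Lrot21 (Lpe (f535905 IH) (Lpe (K58.f452382 IH) (Lpe (K3.f103327 IH) (Lpr_et (K57.f103331 IH) (Lpr_ft (K57.f632113 IH) (Lpn K57.v4237))))))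
theorem f758423 : Led Lsl_ef v7796 = v13157 :=
  Lgr Lrot17 (Lpe (f668450 IH) (Lpr_ef (f632115 IH) (Lpr_dt (f632119 IH) (Lpe (K59.f632122 IH) (Lpr_df (K58.f668796 IH) (Lpe (K57.f674042 IH) (Lpe (K49.f98968 IH) (Lpe (K54.f98965 IH) (Lpr_gf (f633398 IH) (Lpr_df (f758422 IH) (Lpn v13157)))))))))))
def v8733 : LQ := Led Lsl_gf K58.v2184
theorem f672114 : Led Lsl_gf K58.v2184 = v8733 :=
  Lrfl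
theorem f672120 : Led Lsl_ft K59.v8683 = K58.v8734 :=
  Lgr Lrot48 (Lpr_ff (K59.f672118 IH) (Lpn K58.v8734))
theorem f672116 : Led Lsl_af K58.v2184 = K58.v8734 :=
  Lgr Lrot0 (Lpr_at (K58.f672115 IH) (Lpn K58.v8734))
theorem f672122 : Led Lsl_gt K59.v8683 = v8733 :=
  Lgr Lrot5 (Lpr_ft (f672120 IH) (Lpe (f672116 IH) (Lpr_gf (f672114 IH) (Lpn v8733))))
def v4441 : LQ := Led Lsl_ft (LP (LK LD1_c2 LD2_c21 LD3_c31))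
theorem f633405 : Led Lsl_ft (LP (LK LD1_c2 LD2_c21 LD3_c31)) = v4441 :=
  Lrfl
theorem f668875 : Led Lsl_at v4441 = K57.v7886 :=
  Lgr Lrot66 (Lpe (f633405 IH) (Lpr_af (f633400 IH) (Lpr_ff (K57.f668874 IH) (Lpn K57.v7886))))
def v4438 : LQ := Led Lsl_gt (LP (LK LD1_c2 LD2_c21 LD3_c31))
theorem f633397 : Led Lsl_gt (LP (LK LD1_c2 LD2_c21 LD3_c31)) = v4438 :=
  Lrfl
theorem f668882 : Led Lsl_gt v4438 = K57.v7886 :=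
  Lgr Lrot46 (Lpe (f633397 IH) (Lpr_ft (f633405 IH) (Lpr_at (f668875 IH) (Lpn K57.v7886))))
theorem f650982 : Led Lsl_et K59.v2088 = K59.v6093 :=
  Lgr Lrot87 (Lpr_ef (K59.f650981 IH) (Lpn K59.v6093))
theorem f770946 : K59.v6093 = K57.v4419 :=
  Lefun (Lecon (f650982 IH) ((K59.f768952 IH).symm.trans (K59.f770932 IH))) (K57.f633269 IH)
theorem f58326 : Led Lsl_at (LP (LK LD1_c4 LD2_c40 LD3_c22)) = (LP (LK LD1_c2 LD2_c17 LD3_c27)) :=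
  Lre_a IH (LK LD1_c4 LD2_c40 LD3_c22) (LK LD1_c2 LD2_c17 LD3_c27) Lrfl Lrfl
theorem f58327 : Led Lsl_at (LP (LK LD1_c3 LD2_c5 LD3_c61)) = (LP (LK LD1_c6 LD2_c17 LD3_c23)) :=
  Lre_a IH (LK LD1_c3 LD2_c5 LD3_c61) (LK LD1_c6 LD2_c17 LD3_c23) Lrfl Lrfl
theorem f58328 : Led Lsl_et (LP (LK LD1_c2 LD2_c17 LD3_c27)) = (LP (LK LD1_c3 LD2_c5 LD3_c61)) :=
  Lgr Lrot123 (Lpe (f58326 IH) (Lpr_ef (K1.f58314 IH) (Lpe (f58327 IH) (Lpn (LP (LK LD1_c3 LD2_c5 LD3_c61))))))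
theorem f98979 : Led Lsl_dt (LP (LK LD1_c2 LD2_c17 LD3_c27)) = (LP (LK LD1_c1 LD2_c7 LD3_c60)) :=
  Lre_d IH (LK LD1_c2 LD2_c17 LD3_c27) (LK LD1_c1 LD2_c7 LD3_c60) Lrfl Lrfl
theorem f758152 : v4438 = K57.v4419 :=
  (Llr Lrot138 (Lpr_gt (f668882 IH) (Lpe (K58.f668872 IH) (Lpe (K49.f495019 IH) (Lpe (f98979 IH) (Lpr_et (f58328 IH) (Lpr_gt (K57.f58584 IH) (Lpr_ef (K57.f758150 IH) (Lpe (K58.f758149 IH) (Lpe (K58.f703989 IH) (Lpe (K57.f435797 IH) (Lpr_et (K57.f633269 IH) (Lpn K57.v4419))))))))))))).symm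
theorem f770954 : v8733 = K57.v7886 :=
  Lefun (Lecon (f672122 IH) (((K59.f768924 IH).trans (f770946 IH)).trans (f758152 IH).symm)) (f668882 IH)
theorem f770960 : K58.v2184 = v4439 :=
  Lefun (Lecon (Lfl_gf (f672114 IH)) (f770954 IH)) (Lfl_gf (f668878 IH))
theorem f770963 : v13157 = K58.v2049 :=
  Lefun (Lecon (f758421 IH) (f770960 IH).symm) (Lfl_df (K58.f509509 IH))
theorem f770967 : v7796 = K58.v522 :=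
  Lefun (Lecon (Lfl_ef (f758423 IH)) (f770963 IH)) (Lfl_ef (K58.f508563 IH))
theorem f770976 : K58.v2840 = K58.v3124 :=
  Lefun (Lecon (Lfl_gt (f668450 IH)) (f770967 IH)) (K58.f623952 IH)
theorem f770985 : K58.v9939 = v9647 :=
  Lefun (Lecon (K58.f678128 IH) (f770976 IH).symm) (f677051 IH)
theorem f771230 : Led Lsl_ff v9643 = K58.v11036 :=
  Lgr Lrot23 (Lpe (f677036 IH) (Lpr_ft (f677048 IH) (Lpq (f770985 IH) (Lpr_ct (K58.f682907 IH) (Lpn K58.v11036)))))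
theorem f535883 : Led Lsl_cf K51.v353 = v2834 :=
  Lgr Lrot11 (Lpr_ct (f535881 IH) (Lpn v2834))
theorem f453840 : Led Lsl_at K51.v353 = v535 :=
  Lgr Lrot51 (Lpe (K51.f452372 IH) (Lpe (K3.f79289 IH) (Lpr_df (f453838 IH) (Lpn v535))))
theorem f506779 : Led Lsl_ct v535 = v1991 :=
  Lgr Lrot8 (Lpe (f453839 IH) (Lpe (f453726 IH) (Lpr_gt (K4.f110007 IH) (Lpe (K2.f77983 IH) (Lpe (K2.f25204 IH) (Lpe (K5.f25205 IH) (Lpe (K8.f160789 IH) (Lpe (K41.f157760 IH) (Lpr_gf (f506777 IH) (Lpn v1991))))))))))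
theorem f535888 : Led Lsl_at v1991 = v2834 :=
  Lgr Lrot107 (Lpe (f506779 IH) (Lpe (f453840 IH) (Lpr_cf (f535883 IH) (Lpn v2834))))
theorem f677035 : Led Lsl_af v8342 = v9643 :=
  Lgr Lrot50 (Lpe (f670871 IH) (Lpr_at (f535888 IH) (Lpr_et (f677034 IH) (Lpn v9643))))
def v11037 : LQ := Led Lsl_gf K58.v3586
theorem f682909 : Led Lsl_gf K58.v3586 = v11037 :=
  Lrfl
theorem f682910 : Led Lsl_gt K58.v3591 = v11037 :=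
  Lgr Lrot5 (Lpr_ft (K58.f682878 IH) (Lpe (K58.f682875 IH) (Lpr_gf (f682909 IH) (Lpn v11037))))
theorem f771232 : v8342 = v11037 :=
  (Llr Lrot26 (Lpr_af (f677035 IH) (Lpr_ff (f771230 IH) (Lpr_gt (K58.f682923 IH) (Lpr_gt (f682910 IH) (Lpn v11037)))))).symm
def v6518 : LQ := Led Lsl_ft (LP (LK LD1_c3 LD2_c22 LD3_c61))
theorem f653745 : Led Lsl_ft (LP (LK LD1_c3 LD2_c22 LD3_c61)) = v6518 :=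
  Lrfl
theorem f675629 : Led Lsl_at v6518 = K58.v9382 :=
  Lgr Lrot66 (Lpe (f653745 IH) (Lpr_af (K58.f529935 IH) (Lpr_ff (K58.f675627 IH) (Lpn K58.v9382))))
def v6516 : LQ := Led Lsl_gt (LP (LK LD1_c3 LD2_c22 LD3_c61))
theorem f653742 : Led Lsl_gt (LP (LK LD1_c3 LD2_c22 LD3_c61)) = v6516 :=
  Lrfl
theorem f675633 : Led Lsl_gt v6516 = K58.v9382 :=
  Lgr Lrot46 (Lpe (f653742 IH) (Lpr_ft (f653745 IH) (Lpr_at (f675629 IH) (Lpn K58.v9382))))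
theorem f771233 : Led Lsl_ct v10195 = v6516 :=
  Lgr Lrot91 (Lpe (f679196 IH) (Lpe (f624680 IH) (Lpr_ct (f670872 IH) (Lpqs (f771232 IH) (Lpe (f682910 IH) (Lpe (K58.f626369 IH) (Lpr_bt (K58.f626367 IH) (Lpqs (K58.f768806 IH) (Lpe (K58.f625587 IH) (Lpr_bf (K58.f625638 IH) (Lpr_ct (K58.f675630 IH) (Lpe (f675633 IH) (Lpn v6516)))))))))))))
def v4399 : LQ := Led Lsl_et (LP (LK LD1_c2 LD2_c20 LD3_c35))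
theorem f633139 : Led Lsl_et (LP (LK LD1_c2 LD2_c20 LD3_c35)) = v4399 :=
  Lrfl
theorem f110811 : Led Lsl_at (LP (LK LD1_c2 LD2_c17 LD3_c20)) = (LP (LK LD1_c2 LD2_c20 LD3_c35)) :=
  Lgr Lrot107 (Lpr_cf (K4.f110802 IH) (Lpe (K4.f103460 IH) (Lpe (K3.f99008 IH) (Lpn (LP (LK LD1_c2 LD2_c20 LD3_c35))))))
def v4238 : LQ := Led Lsl_et (LP (LK LD1_c2 LD2_c17 LD3_c20))
theorem f632123 : Led Lsl_et (LP (LK LD1_c2 LD2_c17 LD3_c20)) = v4238 :=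
  Lrfl
theorem f632124 : Led Lsl_ef (LP (LK LD1_c2 LD2_c17 LD3_c20)) = v4238 :=
  Lgr Lrot88 (Lpr_et (f632123 IH) (Lpn v4238))
theorem f633140 : Led Lsl_af v4238 = v4399 :=
  Lgr Lrot50 (Lpe (f632124 IH) (Lpr_at (f110811 IH) (Lpr_et (f633139 IH) (Lpn v4399))))
def v4394 : LQ := Led Lsl_et (LP (LK LD1_c2 LD2_c20 LD3_c28))
theorem f633115 : Led Lsl_et (LP (LK LD1_c2 LD2_c20 LD3_c28)) = v4394 :=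
  Lrfl
theorem f455045 : Led Lsl_bf (LP (LK LD1_c2 LD2_c20 LD3_c28)) = K49.v587 :=
  Lgr Lrot93 (Lpr_dt (K4.f103462 IH) (Lpr_bt (K3.f104131 IH) (Lpr_dt (K49.f455043 IH) (Lpn K49.v587))))
def v3228 : LQ := Led Lsl_et K49.v587
theorem f624695 : Led Lsl_et K49.v587 = v3228 :=
  Lrfl
theorem f624697 : Led Lsl_ef K49.v587 = v3228 :=
  Lgr Lrot88 (Lpr_et (f624695 IH) (Lpn v3228))
theorem f633117 : Led Lsl_bf v3228 = v4394 :=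
  Lgr Lrot96 (Lpe (f624697 IH) (Lpe (f455045 IH) (Lpr_et (f633115 IH) (Lpn v4394))))
theorem f633118 : Led Lsl_cf v4238 = v4394 :=
  Lgr Lrot39 (Lpe (f632124 IH) (Lpe (K4.f107556 IH) (Lpr_et (f633115 IH) (Lpn v4394))))
def v10200 : LQ := Led Lsl_gt v3228
theorem f679218 : Led Lsl_gt v3228 = v10200 :=
  Lrfl
def v10203 : LQ := Led Lsl_ft v3228
theorem f679227 : Led Lsl_ft v3228 = v10203 :=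
  Lrfl
theorem f23313 : Led Lsl_at (LP (LK LD1_c1 LD2_c7 LD3_c34)) = (LP (LK LD1_c0 LD2_c31 LD3_c2)) :=
  Lre_a IH (LK LD1_c1 LD2_c7 LD3_c34) (LK LD1_c0 LD2_c31 LD3_c2) Lrfl Lrfl
theorem f104127 : Led Lsl_bf (LP (LK LD1_c1 LD2_c7 LD3_c34)) = (LP (LK LD1_c0 LD2_c46 LD3_c19)) :=
  Lgr Lrot61 (Lpr_ft (K3.f102285 IH) (Lpe (K3.f104109 IH) (Lpr_ft (K3.f104123 IH) (Lpn (LP (LK LD1_c0 LD2_c46 LD3_c19))))))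
theorem f107204 : Led Lsl_at (LP (LK LD1_c0 LD2_c50 LD3_c46)) = (LP (LK LD1_c0 LD2_c46 LD3_c19)) :=
  Lgr Lrot67 (Lpr_bf (K3.f107202 IH) (Lpr_af (K3.f103486 IH) (Lpr_bf (K0.f23308 IH) (Lpe (f23313 IH) (Lpr_bf (f104127 IH) (Lpn (LP (LK LD1_c0 LD2_c46 LD3_c19))))))))
theorem f455044 : Led Lsl_af (LP (LK LD1_c1 LD2_c47 LD3_c60)) = K49.v587 :=
  Lgr Lrot117 (Lpr_dt (K7.f107217 IH) (Lpr_at (f107204 IH) (Lpr_dt (K49.f455043 IH) (Lpn K49.v587))))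
def v2538 : LQ := Led Lsl_et (LP (LK LD1_c1 LD2_c47 LD3_c60))
theorem f527241 : Led Lsl_et (LP (LK LD1_c1 LD2_c47 LD3_c60)) = v2538 :=
  Lrfl
theorem f624698 : Led Lsl_at v2538 = v3228 :=
  Lgr Lrot80 (Lpe (f527241 IH) (Lpr_af (f455044 IH) (Lpr_ef (f624697 IH) (Lpn v3228))))
def v9219 : LQ := Led Lsl_ft v2538
theorem f674421 : Led Lsl_ft v2538 = v9219 :=
  Lrfl
theorem f674423 : Led Lsl_ff v2538 = v9219 :=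
  Lgr Lrot3 (Lpr_ft (f674421 IH) (Lpn v9219))
theorem f679228 : Led Lsl_af v9219 = v10203 :=
  Lgr Lrot45 (Lpe (f674423 IH) (Lpr_at (f624698 IH) (Lpr_ft (f679227 IH) (Lpn v10203))))
theorem f679231 : Led Lsl_gt v10200 = v9219 :=
  Lgr Lrot46 (Lpe (f679218 IH) (Lpr_ft (f679227 IH) (Lpe (f679228 IH) (Lpn v9219))))
def v10201 : LQ := Led Lsl_gf v3228
theorem f679219 : Led Lsl_gf v3228 = v10201 :=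
  Lrfl
theorem f679220 : Led Lsl_gt v9219 = v10201 :=
  Lgr Lrot5 (Lpe (f674423 IH) (Lpr_at (f624698 IH) (Lpr_gf (f679219 IH) (Lpn v10201))))
def v2573 : LQ := Led Lsl_ct (LP (LK LD1_c1 LD2_c48 LD3_c49))
theorem f527548 : Led Lsl_ct (LP (LK LD1_c1 LD2_c48 LD3_c49)) = v2573 :=
  Lrfl
def v9281 : LQ := Led Lsl_gf v2573
theorem f675003 : Led Lsl_gf v2573 = v9281 :=
  Lrfl
def v5831 : LQ := Led Lsl_et (LP (LK LD1_c3 LD2_c13 LD3_c53))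
theorem f649710 : Led Lsl_et (LP (LK LD1_c3 LD2_c13 LD3_c53)) = v5831 :=
  Lrfl
theorem f527242 : Led Lsl_ef (LP (LK LD1_c1 LD2_c47 LD3_c60)) = v2538 :=
  Lgr Lrot88 (Lpr_et (f527241 IH) (Lpn v2538))
theorem f649711 : Led Lsl_cf v2538 = v5831 :=
  Lgr Lrot39 (Lpe (f527242 IH) (Lpe (K7.f147566 IH) (Lpr_et (f649710 IH) (Lpn v5831))))
def v467 : LQ := Led Lsl_gf (LP (LK LD1_c0 LD2_c41 LD3_c18))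
def v3048 : LQ := Led Lsl_et v467
def v9715 : LQ := Led Lsl_ft v3048
theorem f677300 : Led Lsl_ft v3048 = v9715 :=
  Lrfl
theorem f622640 : Led Lsl_et v467 = v3048 :=
  Lrfl
theorem f622643 : Led Lsl_ef v467 = v3048 :=
  Lgr Lrot88 (Lpr_et (f622640 IH) (Lpn v3048))
theorem f453492 : Led Lsl_gf (LP (LK LD1_c0 LD2_c41 LD3_c18)) = v467 :=
  Lrfl
theorem f141184 : Led Lsl_bf (LP (LK LD1_c3 LD2_c13 LD3_c36)) = (LP (LK LD1_c4 LD2_c37 LD3_c26)) :=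
  Lgr Lrot93 (Lpr_dt (K7.f23614 IH) (Lpr_bt (K6.f23649 IH) (Lpr_dt (K6.f139775 IH) (Lpn (LP (LK LD1_c4 LD2_c37 LD3_c26))))))
theorem f453497 : Led Lsl_bt (LP (LK LD1_c1 LD2_c47 LD3_c60)) = v467 :=
  Lgr Lrot178 (Lpe (K7.f107227 IH) (Lpr_df (K7.f124607 IH) (Lpe (K7.f124606 IH) (Lpr_bf (f141184 IH) (Lpe (K6.f72270 IH) (Lpe (K8.f72269 IH) (Lpe (K2.f72254 IH) (Lpr_bf (K2.f72255 IH) (Lpe (K2.f71210 IH) (Lpe (K6.f71209 IH) (Lpe (K6.f139481 IH) (Lpe (K4.f61668 IH) (Lpr_cf (K1.f58931 IH) (Lpe (K1.f7124 IH) (Lpe (K1.f61633 IH) (Lpe (K2.f25098 IH) (Lpr_cf (K2.f25088 IH) (Lpe (K2.f25103 IH) (Lpr_gf (f453492 IH) (Lpn v467))))))))))))))))))))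
theorem f453498 : Led Lsl_bf (LP (LK LD1_c1 LD2_c47 LD3_c60)) = v467 :=
  Lgr Lrot24 (Lpr_bt (f453497 IH) (Lpn v467))
theorem f622645 : Led Lsl_bt v2538 = v3048 :=
  Lgr Lrot119 (Lpe (f527241 IH) (Lpr_bf (f453498 IH) (Lpr_ef (f622643 IH) (Lpn v3048))))
theorem f677302 : Led Lsl_bf v9219 = v9715 :=
  Lgr Lrot61 (Lpe (f674423 IH) (Lpr_bt (f622645 IH) (Lpr_ft (f677300 IH) (Lpn v9715))))
def v3906 : LQ := Led Lsl_gf K56.v1117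
def v11834 : LQ := Led Lsl_bt v3906
theorem f686095 : Led Lsl_bt v3906 = v11834 :=
  Lrfl
theorem f677304 : Led Lsl_ff v3048 = v9715 :=
  Lgr Lrot3 (Lpr_ft (f677300 IH) (Lpn v9715))
theorem f436728 : Led Lsl_ff (LP (LK LD1_c1 LD2_c46 LD3_c55)) = (LP (LK LD1_c1 LD2_c47 LD3_c60)) :=
  Lgr Lrot23 (Lpr_ct (K4.f107290 IH) (Lpr_ft (K58.f148683 IH) (Lpr_ct (K7.f107227 IH) (Lpn (LP (LK LD1_c1 LD2_c47 LD3_c60))))))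
theorem f453499 : Led Lsl_ft (LP (LK LD1_c1 LD2_c32 LD3_c24)) = v467 :=
  Lgr Lrot75 (Lpr_bf (K4.f124195 IH) (Lpr_ff (f436728 IH) (Lpr_bf (f453498 IH) (Lpn v467))))
theorem f436749 : Led Lsl_af (LP (LK LD1_c1 LD2_c32 LD3_c24)) = (LP (LK LD1_c1 LD2_c29 LD3_c20)) :=
  Lgr Lrot36 (Lpr_bt (K4.f124199 IH) (Lpr_at (K58.f436747 IH) (Lpr_bt (K4.f104116 IH) (Lpr_at (K7.f104134 IH) (Lpe (K4.f110327 IH) (Lpn (LP (LK LD1_c1 LD2_c29 LD3_c20))))))))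
theorem f453500 : Led Lsl_af (LP (LK LD1_c1 LD2_c32 LD3_c22)) = v467 :=
  Lgr Lrot45 (Lpe (K58.f110331 IH) (Lpe (f436749 IH) (Lpr_ft (f453499 IH) (Lpn v467))))
theorem f453501 : Led Lsl_at (LP (LK LD1_c1 LD2_c32 LD3_c22)) = v467 :=
  Lgr Lrot100 (Lpr_af (f453500 IH) (Lpn v467))
theorem f622641 : Led Lsl_af K58.v1963 = v3048 :=
  Lgr Lrot50 (Lpe (K58.f506627 IH) (Lpr_at (f453501 IH) (Lpr_et (f622640 IH) (Lpn v3048))))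
def v8280 : LQ := Led Lsl_gf K58.v1963
theorem f670637 : Led Lsl_gf K58.v1963 = v8280 :=
  Lrfl
theorem f677309 : Led Lsl_gf v8280 = v9715 :=
  Lgr Lrot47 (Lpe (f670637 IH) (Lpr_af (f622641 IH) (Lpr_ff (f677304 IH) (Lpn v9715))))
theorem f627846 : Led Lsl_gf K56.v1117 = v3906 :=
  Lrfl
theorem f648736 : Led Lsl_dt K58.v3910 = K58.v5660 :=
  Lgr Lrot60 (Lpe (K58.f627860 IH) (Lpe (K58.f67317 IH) (Lpr_ff (K58.f648734 IH) (Lpn K58.v5660))))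
theorem f769768 : v8280 = K56.v1117 :=
  (Llr Lrot141 (Lpe (f670637 IH) (Lpe (K58.f506625 IH) (Lpr_dt (K49.f13488 IH) (Lpe (K0.f13485 IH) (Lpe (K2.f9764 IH) (Lpr_et (K49.f13491 IH) (Lpr_gt (K49.f653585 IH) (Lpq (K50.f674532 IH) (Lpr_dt (K58.f769765 IH) (Lpr_gt (K58.f765320 IH) (Lpe (f648736 IH) (Lpe (K58.f627857 IH) (Lpn K56.v1117)))))))))))))).symm
theorem f769770 : v9715 = v3906 :=
  Lefun (Lecon (f677309 IH) (f769768 IH)) (f627846 IH)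
theorem f769778 : v9219 = v11834 :=
  Lefun (Lecon (Lfl_bf (f677302 IH)) (f769770 IH)) (f686095 IH)
theorem f686096 : Led Lsl_bf v3906 = v11834 :=
  Lgr Lrot24 (Lpr_bt (f686095 IH) (Lpn v11834))
def v9280 : LQ := Led Lsl_gt v2573
theorem f675002 : Led Lsl_gt v2573 = v9280 :=
  Lrfl
theorem f686097 : Led Lsl_cf v9280 = v11834 :=
  Lgr Lrot163 (Lpe (f675002 IH) (Lpe (f527548 IH) (Lpe (K48.f134805 IH) (Lpr_bf (K58.f206552 IH) (Lpe (K24.f206513 IH) (Lpr_gf (K49.f494348 IH) (Lpq (K49.f623415 IH) (Lpqs (K35.f623411 IH) (Lpe (K35.f491587 IH) (Lpr_bt (K56.f491585 IH) (Lpr_gf (f627846 IH) (Lpr_bf (f686096 IH) (Lpn v11834)))))))))))))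
theorem f769781 : Led Lsl_ff v5831 = v9280 :=
  Lgr Lrot23 (Lpe (f649711 IH) (Lpr_ft (f674421 IH) (Lpqs (f769778 IH) (Lpe (f686097 IH) (Lpn v9280)))))
def v9255 : LQ := Led Lsl_et K50.v2560
theorem f674917 : Led Lsl_et K50.v2560 = v9255 :=
  Lrfl
theorem f674920 : Led Lsl_ef K50.v2560 = v9255 :=
  Lgr Lrot88 (Lpr_et (f674917 IH) (Lpn v9255))
theorem f527486 : Led Lsl_cf K49.v587 = K50.v2560 :=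
  Lgr Lrot166 (Lpe (K49.f455048 IH) (Lpr_dt (K49.f129097 IH) (Lpr_gt (K7.f144245 IH) (Lpe (K6.f144161 IH) (Lpr_ct (K4.f124071 IH) (Lpe (K7.f124102 IH) (Lpr_gf (K7.f148134 IH) (Lpe (K4.f116088 IH) (Lpr_gf (K50.f527482 IH) (Lpn K50.v2560))))))))))
theorem f455047 : Led Lsl_ff (LP (LK LD1_c1 LD2_c47 LD3_c59)) = K49.v587 :=
  Lgr Lrot19 (Lpr_dt (K4.f104122 IH) (Lpr_ft (K3.f104123 IH) (Lpr_dt (K49.f455043 IH) (Lpn K49.v587))))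
theorem f527488 : Led Lsl_ft (LP (LK LD1_c3 LD2_c13 LD3_c54)) = K50.v2560 :=
  Lgr Lrot4 (Lpe (K7.f147467 IH) (Lpr_ff (f455047 IH) (Lpr_cf (f527486 IH) (Lpn K50.v2560))))
theorem f527489 : Led Lsl_af (LP (LK LD1_c3 LD2_c13 LD3_c53)) = K50.v2560 :=
  Lgr Lrot45 (Lpe (K58.f436730 IH) (Lpr_at (K58.f436738 IH) (Lpr_ft (f527488 IH) (Lpn K50.v2560))))
theorem f674921 : Led Lsl_at v5831 = v9255 :=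
  Lgr Lrot80 (Lpe (f649710 IH) (Lpr_af (f527489 IH) (Lpr_ef (f674920 IH) (Lpn v9255))))
def v9284 : LQ := Led Lsl_ft v2573
theorem f675009 : Led Lsl_ft v2573 = v9284 :=
  Lrfl
def v9272 : LQ := Led Lsl_ct K49.v2571
theorem f674974 : Led Lsl_ct K49.v2571 = v9272 :=
  Lrfl
theorem f527549 : Led Lsl_cf (LP (LK LD1_c1 LD2_c48 LD3_c49)) = v2573 :=
  Lgr Lrot11 (Lpr_ct (f527548 IH) (Lpn v2573))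
theorem f674975 : Led Lsl_af v2573 = v9272 :=
  Lgr Lrot68 (Lpe (f527549 IH) (Lpr_at (K49.f527542 IH) (Lpr_ct (f674974 IH) (Lpn v9272))))
def v3391 : LQ := Led Lsl_ct K48.v799
theorem f625472 : Led Lsl_ct K48.v799 = v3391 :=
  Lrfl
theorem f625473 : Led Lsl_cf K48.v799 = v3391 :=
  Lgr Lrot11 (Lpr_ct (f625472 IH) (Lpn v3391))
theorem f674977 : Led Lsl_ff v3391 = v9272 :=
  Lgr Lrot23 (Lpe (f625473 IH) (Lpr_ft (K49.f527544 IH) (Lpr_ct (f674974 IH) (Lpn v9272))))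
theorem f674978 : Led Lsl_ft v3391 = v9272 :=
  Lgr Lrot48 (Lpr_ff (f674977 IH) (Lpn v9272))
theorem f675010 : Led Lsl_af v3391 = v9284 :=
  Lgr Lrot45 (Lpr_ft (f674978 IH) (Lpe (f674975 IH) (Lpr_ft (f675009 IH) (Lpn v9284))))
theorem f675013 : Led Lsl_gt v9280 = v3391 :=
  Lgr Lrot46 (Lpe (f675002 IH) (Lpr_ft (f675009 IH) (Lpe (f675010 IH) (Lpn v3391))))
theorem f675004 : Led Lsl_gt v3391 = v9281 :=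
  Lgr Lrot5 (Lpr_ft (f674978 IH) (Lpe (f674975 IH) (Lpr_gf (f675003 IH) (Lpn v9281))))
theorem f769783 : v9255 = v9281 :=
  (Llr Lrot26 (Lpe (f674921 IH) (Lpr_ff (f769781 IH) (Lpr_gt (f675013 IH) (Lpr_gt (f675004 IH) (Lpn v9281)))))).symm
theorem f674922 : Led Lsl_ct v3228 = v9255 :=
  Lgr Lrot15 (Lpe (f624695 IH) (Lpr_cf (f527486 IH) (Lpr_ef (f674920 IH) (Lpn v9255))))
def v9274 : LQ := Led Lsl_gt v2572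
theorem f674986 : Led Lsl_gt v2572 = v9274 :=
  Lrfl
def v344 : LQ := Led Lsl_et (LP (LK LD1_c0 LD2_c30 LD3_c46))
def v2810 : LQ := Led Lsl_gt v344
def v9594 : LQ := Led Lsl_bt v2810
theorem f676784 : Led Lsl_bt v2810 = v9594 :=
  Lrfl
theorem f676785 : Led Lsl_bf v2810 = v9594 :=
  Lgr Lrot24 (Lpr_bt (f676784 IH) (Lpn v9594))
theorem f535731 : Led Lsl_gt v344 = v2810 :=
  Lrfl
theorem f452323 : Led Lsl_et (LP (LK LD1_c0 LD2_c30 LD3_c46)) = v344 :=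
  Lrfl
theorem f452325 : Led Lsl_ef (LP (LK LD1_c0 LD2_c30 LD3_c46)) = v344 :=
  Lgr Lrot88 (Lpr_et (f452323 IH) (Lpn v344))
theorem f82243 : Led Lsl_bt (LP (LK LD1_c0 LD2_c30 LD3_c46)) = (LP (LK LD1_c0 LD2_c13 LD3_c40)) :=
  Lre_b IH (LK LD1_c0 LD2_c30 LD3_c46) (LK LD1_c0 LD2_c13 LD3_c40) Lrfl Lrfl
theorem f452326 : Led Lsl_bt (LP (LK LD1_c0 LD2_c30 LD3_c48)) = v344 :=
  Lgr Lrot119 (Lpe (K29.f27169 IH) (Lpe (f82243 IH) (Lpr_ef (f452325 IH) (Lpn v344))))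
theorem f453769 : Led Lsl_bf (LP (LK LD1_c0 LD2_c43 LD3_c43)) = K51.v524 :=
  Lgr Lrot24 (Lpr_bt (K51.f453768 IH) (Lpn K51.v524))
def v515 : LQ := Led Lsl_et (LP (LK LD1_c0 LD2_c43 LD3_c38))
def v3113 : LQ := Led Lsl_ft v515
theorem f623915 : Led Lsl_ft v515 = v3113 :=
  Lrfl
theorem f623917 : Led Lsl_ff v515 = v3113 :=
  Lgr Lrot3 (Lpr_ft (f623915 IH) (Lpn v3113))
theorem f453732 : Led Lsl_et (LP (LK LD1_c0 LD2_c43 LD3_c38)) = v515 :=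
  Lrfl
theorem f453733 : Led Lsl_cf K51.v131 = v515 :=
  Lgr Lrot39 (Lpe (K51.f450635 IH) (Lpr_ct (K4.f23173 IH) (Lpr_et (f453732 IH) (Lpn v515))))
theorem f623918 : Led Lsl_ct K51.v524 = v3113 :=
  Lgr Lrot40 (Lpe (K51.f453771 IH) (Lpr_cf (f453733 IH) (Lpr_ff (f623917 IH) (Lpn v3113))))
def v2032 : LQ := Led Lsl_et (LP (LK LD1_c1 LD2_c33 LD3_c58))
def v8423 : LQ := Led Lsl_ft v2032
theorem f671184 : Led Lsl_ft v2032 = v8423 :=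
  Lrfl
def v8420 : LQ := Led Lsl_gt v2032
theorem f671177 : Led Lsl_gt v2032 = v8420 :=
  Lrfl
theorem f507842 : Led Lsl_et (LP (LK LD1_c1 LD2_c33 LD3_c58)) = v2032 :=
  Lrfl
theorem f507845 : Led Lsl_ef (LP (LK LD1_c1 LD2_c33 LD3_c58)) = v2032 :=
  Lgr Lrot88 (Lpr_et (f507842 IH) (Lpn v2032))
theorem f507846 : Led Lsl_at v515 = v2032 :=
  Lgr Lrot80 (Lpe (f453732 IH) (Lpe (K7.f24132 IH) (Lpr_ef (f507845 IH) (Lpn v2032))))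
theorem f671185 : Led Lsl_af v3113 = v8423 :=
  Lgr Lrot45 (Lpe (f623917 IH) (Lpr_at (f507846 IH) (Lpr_ft (f671184 IH) (Lpn v8423))))
theorem f671188 : Led Lsl_gt v8420 = v3113 :=
  Lgr Lrot46 (Lpe (f671177 IH) (Lpr_ft (f671184 IH) (Lpe (f671185 IH) (Lpn v3113))))
theorem f676786 : Led Lsl_cf v8420 = v9594 :=
  Lgr Lrot160 (Lpr_gt (f671188 IH) (Lpe (f623918 IH) (Lpe (f453769 IH) (Lpe (K32.f436221 IH) (Lpr_ct (K35.f446201 IH) (Lpr_gt (K50.f186190 IH) (Lpr_cf (K42.f27170 IH) (Lpr_bt (f452326 IH) (Lpr_gt (f535731 IH) (Lpr_bf (f676785 IH) (Lpn v9594)))))))))))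
theorem f459557 : Led Lsl_cf (LP (LK LD1_c3 LD2_c1 LD3_c61)) = K56.v820 :=
  Lgr Lrot39 (Lpr_et (K46.f64279 IH) (Lpr_ct (K3.f95983 IH) (Lpr_et (K56.f459555 IH) (Lpn K56.v820))))
def v2617 : LQ := Led Lsl_et (LP (LK LD1_c1 LD2_c49 LD3_c47))
theorem f527882 : Led Lsl_et (LP (LK LD1_c1 LD2_c49 LD3_c47)) = v2617 :=
  Lrfl
theorem f527885 : Led Lsl_ef (LP (LK LD1_c1 LD2_c49 LD3_c47)) = v2617 :=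
  Lgr Lrot88 (Lpr_et (f527882 IH) (Lpn v2617))
theorem f527887 : Led Lsl_bt K56.v820 = v2617 :=
  Lgr Lrot119 (Lpe (K56.f459555 IH) (Lpe (K2.f95542 IH) (Lpr_ef (f527885 IH) (Lpn v2617))))
def v9345 : LQ := Led Lsl_gt v2617
theorem f675456 : Led Lsl_gt v2617 = v9345 :=
  Lrfl
theorem f771149 : v9594 = v9345 :=
  (Llr Lrot125 (Lpe (f676786 IH) (Lpr_gt (f671188 IH) (Lpe (f623918 IH) (Lpe (f453769 IH) (Lpe (K32.f436221 IH) (Lpe (K58.f206524 IH) (Lpr_ct (K58.f206525 IH) (Lpr_gt (K58.f703268 IH) (Lpq (K58.f768781 IH) (Lpr_cf (f459557 IH) (Lpr_bt (f527887 IH) (Lpr_gt (f675456 IH) (Lpn v9345)))))))))))))).symm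
def v9597 : LQ := Led Lsl_et v2810
theorem f676792 : Led Lsl_et v2810 = v9597 :=
  Lrfl
theorem f676793 : Led Lsl_ef v2810 = v9597 :=
  Lgr Lrot88 (Lpr_et (f676792 IH) (Lpn v9597))
def v1322 : LQ := Led Lsl_et (LP (LK LD1_c1 LD2_c7 LD3_c6))
def v7839 : LQ := Led Lsl_ft v1322
theorem f668661 : Led Lsl_ft v1322 = v7839 :=
  Lrfl
theorem f668665 : Led Lsl_ff v1322 = v7839 :=
  Lgr Lrot3 (Lpr_ft (f668661 IH) (Lpn v7839))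
theorem f494830 : Led Lsl_et (LP (LK LD1_c1 LD2_c7 LD3_c6)) = v1322 :=
  Lrfl
theorem f82305 : Led Lsl_at (LP (LK LD1_c0 LD2_c30 LD3_c46)) = (LP (LK LD1_c1 LD2_c7 LD3_c6)) :=
  Lre_a IH (LK LD1_c0 LD2_c30 LD3_c46) (LK LD1_c1 LD2_c7 LD3_c6) Lrfl Lrfl
theorem f494831 : Led Lsl_af v344 = v1322 :=
  Lgr Lrot50 (Lpe (f452325 IH) (Lpr_at (f82305 IH) (Lpr_et (f494830 IH) (Lpn v1322))))
def v2813 : LQ := Led Lsl_ft v344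
theorem f535739 : Led Lsl_ft v344 = v2813 :=
  Lrfl
theorem f668667 : Led Lsl_at v2813 = v7839 :=
  Lgr Lrot66 (Lpe (f535739 IH) (Lpr_af (f494831 IH) (Lpr_ff (f668665 IH) (Lpn v7839))))
theorem f668671 : Led Lsl_gt v2810 = v7839 :=
  Lgr Lrot46 (Lpe (f535731 IH) (Lpr_ft (f535739 IH) (Lpr_at (f668667 IH) (Lpn v7839))))
theorem f494833 : Led Lsl_ef (LP (LK LD1_c1 LD2_c7 LD3_c6)) = v1322 :=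
  Lgr Lrot88 (Lpr_et (f494830 IH) (Lpn v1322))
theorem f668669 : Led Lsl_et K46.v1970 = v7839 :=
  Lgr Lrot69 (Lpe (K46.f506674 IH) (Lpe (K50.f82327 IH) (Lpe (K4.f82323 IH) (Lpr_ef (f494833 IH) (Lpr_ff (f668665 IH) (Lpn v7839))))))
theorem f153660 : Led Lsl_ft (LP (LK LD1_c0 LD2_c41 LD3_c39)) = (LP (LK LD1_c1 LD2_c30 LD3_c10)) :=
  Lre_f IH (LK LD1_c0 LD2_c41 LD3_c39) (LK LD1_c1 LD2_c30 LD3_c10) Lrfl Lrfl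
theorem f504619 : Led Lsl_dt (LP (LK LD1_c1 LD2_c30 LD3_c10)) = K59.v1860 :=
  Lgr Lrot60 (Lpe (f153660 IH) (Lpe (K51.f126937 IH) (Lpr_ff (K59.f504617 IH) (Lpn K59.v1860))))
theorem f676794 : Led Lsl_df K59.v5400 = v9597 :=
  Lgr Lrot132 (Lpe (K59.f647380 IH) (Lpe (f504619 IH) (Lpe (f153667 IH) (Lpr_ef (K51.f623810 IH) (Lpe (K51.f623809 IH) (Lpr_gf (f506681 IH) (Lpe (f506680 IH) (Lpr_et (f668669 IH) (Lpe (f668671 IH) (Lpr_ef (f676793 IH) (Lpn v9597)))))))))))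
theorem f647711 : Led Lsl_af K59.v1858 = K59.v5454 :=
  Lgr Lrot45 (Lpr_ft (K59.f647704 IH) (Lpe (K59.f647700 IH) (Lpr_ft (K59.f647710 IH) (Lpn K59.v5454))))
def v8150 : LQ := Led Lsl_dt K59.v1858
theorem f670184 : Led Lsl_dt K59.v1858 = v8150 :=
  Lrfl
theorem f771140 : Led Lsl_af v9597 = v8150 :=
  Lgr Lrot117 (Lpe (f676794 IH) (Lpq (K59.f771137 IH) (Lpe (f647711 IH) (Lpr_dt (f670184 IH) (Lpn v8150)))))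
def v9593 : LQ := Led Lsl_at v2810
theorem f676780 : Led Lsl_at v2810 = v9593 :=
  Lrfl
theorem f670185 : Led Lsl_df K59.v1858 = v8150 :=
  Lgr Lrot38 (Lpr_dt (f670184 IH) (Lpn v8150))
theorem f104226 : Led Lsl_dt (LP (LK LD1_c0 LD2_c41 LD3_c39)) = (LP (LK LD1_c1 LD2_c30 LD3_c9)) :=
  Lre_d IH (LK LD1_c0 LD2_c41 LD3_c39) (LK LD1_c1 LD2_c30 LD3_c9) Lrfl Lrfl
theorem f104225 : Led Lsl_et (LP (LK LD1_c0 LD2_c41 LD3_c39)) = (LP (LK LD1_c0 LD2_c18 LD3_c36)) :=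
  Lre_e IH (LK LD1_c0 LD2_c41 LD3_c39) (LK LD1_c0 LD2_c18 LD3_c36) Lrfl Lrfl
def v7836 : LQ := Led Lsl_gt v1322
theorem f668650 : Led Lsl_gt v1322 = v7836 :=
  Lrfl
theorem f670186 : Led Lsl_ef v7836 = v8150 :=
  Lgr Lrot17 (Lpe (f668650 IH) (Lpe (f494830 IH) (Lpr_dt (K2.f23575 IH) (Lpr_gf (K4.f107537 IH) (Lpr_df (K4.f104220 IH) (Lpe (K1.f25018 IH) (Lpe (f104225 IH) (Lpr_dt (f104226 IH) (Lpr_gf (K59.f504606 IH) (Lpr_df (f670185 IH) (Lpn v8150)))))))))))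
theorem f670187 : Led Lsl_et v7836 = v8150 :=
  Lgr Lrot87 (Lpr_ef (f670186 IH) (Lpn v8150))
theorem f771142 : v9593 = v7836 :=
  (Llr Lrot80 (Lpe (f676780 IH) (Lpr_ef (f676793 IH) (Lpr_af (f771140 IH) (Lpe (f670187 IH) (Lpn v7836)))))).symm
theorem f676781 : Led Lsl_af v2810 = v9593 :=
  Lgr Lrot0 (Lpr_at (f676780 IH) (Lpn v9593))
def v2811 : LQ := Led Lsl_gf v344
theorem f535732 : Led Lsl_gf v344 = v2811 :=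
  Lrfl
theorem f676782 : Led Lsl_ft v2811 = v9593 :=
  Lgr Lrot2 (Lpe (f535732 IH) (Lpr_gt (f535731 IH) (Lpr_af (f676781 IH) (Lpn v9593))))
theorem f676783 : Led Lsl_ff v2811 = v9593 :=
  Lgr Lrot3 (Lpr_ft (f676782 IH) (Lpn v9593))
def v9598 : LQ := Led Lsl_ft v2810
theorem f676796 : Led Lsl_ft v2810 = v9598 :=
  Lrfl
theorem f676798 : Led Lsl_ff v2810 = v9598 :=
  Lgr Lrot3 (Lpr_ft (f676796 IH) (Lpn v9598))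
theorem f676799 : Led Lsl_at v2811 = v9598 :=
  Lgr Lrot66 (Lpr_ff (f676783 IH) (Lpe (f676780 IH) (Lpr_ff (f676798 IH) (Lpn v9598))))
theorem f494834 : Led Lsl_at v344 = v1322 :=
  Lgr Lrot80 (Lpe (f452323 IH) (Lpe (K8.f82377 IH) (Lpr_ef (f494833 IH) (Lpn v1322))))
theorem f535742 : Led Lsl_ff v344 = v2813 :=
  Lgr Lrot3 (Lpr_ft (f535739 IH) (Lpn v2813))
theorem f668662 : Led Lsl_af v2813 = v7839 :=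
  Lgr Lrot45 (Lpe (f535742 IH) (Lpr_at (f494834 IH) (Lpr_ft (f668661 IH) (Lpn v7839))))
theorem f668666 : Led Lsl_gt v7836 = v2813 :=
  Lgr Lrot46 (Lpe (f668650 IH) (Lpr_ft (f668661 IH) (Lpe (f668662 IH) (Lpn v2813))))
def v7837 : LQ := Led Lsl_gf v1322
theorem f668651 : Led Lsl_gf v1322 = v7837 :=
  Lrfl
theorem f668652 : Led Lsl_gt v2813 = v7837 :=
  Lgr Lrot5 (Lpe (f535742 IH) (Lpr_at (f494834 IH) (Lpr_gf (f668651 IH) (Lpn v7837))))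
theorem f771143 : v9598 = v7837 :=
  (Llr Lrot26 (Lpe (f676799 IH) (Lpr_ff (f676783 IH) (Lpqs (f771142 IH) (Lpr_gt (f668666 IH) (Lpr_gt (f668652 IH) (Lpn v7837))))))).symm
def v3111 : LQ := Led Lsl_gf v515
def v9904 : LQ := Led Lsl_ct v3111
theorem f678017 : Led Lsl_ct v3111 = v9904 :=
  Lrfl
theorem f678018 : Led Lsl_cf v3111 = v9904 :=
  Lgr Lrot11 (Lpr_ct (f678017 IH) (Lpn v9904))
theorem f623912 : Led Lsl_gf v515 = v3111 :=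
  Lrfl
theorem f453734 : Led Lsl_ef (LP (LK LD1_c0 LD2_c43 LD3_c38)) = v515 :=
  Lgr Lrot88 (Lpr_et (f453732 IH) (Lpn v515))
theorem f453735 : Led Lsl_ct K51.v131 = v515 :=
  Lgr Lrot15 (Lpe (K51.f450633 IH) (Lpe (K3.f24017 IH) (Lpr_ef (f453734 IH) (Lpn v515))))
theorem f452343 : Led Lsl_cf (LP (LK LD1_c2 LD2_c15 LD3_c2)) = K29.v349 :=
  Lgr Lrot108 (Lpr_ft (K2.f82225 IH) (Lpr_ct (K56.f445858 IH) (Lpr_ft (K29.f452341 IH) (Lpn K29.v349))))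
theorem f452324 : Led Lsl_bf (LP (LK LD1_c0 LD2_c30 LD3_c48)) = v344 :=
  Lgr Lrot96 (Lpr_et (K29.f61677 IH) (Lpr_bt (K4.f27160 IH) (Lpr_et (f452323 IH) (Lpn v344))))
theorem f535743 : Led Lsl_bt K29.v349 = v2813 :=
  Lgr Lrot35 (Lpe (K29.f452341 IH) (Lpr_bf (f452324 IH) (Lpr_ff (f535742 IH) (Lpn v2813))))
theorem f678019 : Led Lsl_bf v7837 = v9904 :=
  Lgr Lrot34 (Lpe (f668652 IH) (Lpe (f535743 IH) (Lpe (f452343 IH) (Lpe (K24.f452820 IH) (Lpe (K35.f435590 IH) (Lpe (K32.f24041 IH) (Lpr_bf (K51.f450634 IH) (Lpr_ct (f453735 IH) (Lpr_gf (f623912 IH) (Lpr_cf (f678018 IH) (Lpn v9904)))))))))))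
theorem f678020 : Led Lsl_bt v7837 = v9904 :=
  Lgr Lrot127 (Lpr_bf (f678019 IH) (Lpn v9904))
theorem f771144 : Led Lsl_ff v9594 = v9904 :=
  Lgr Lrot25 (Lpe (f676785 IH) (Lpr_ft (f676796 IH) (Lpqs (f771143 IH) (Lpr_bt (f678020 IH) (Lpn v9904)))))
theorem f771145 : Led Lsl_ft v9594 = v9904 :=
  Lgr Lrot48 (Lpr_ff (f771144 IH) (Lpn v9904))
def v7338 : LQ := Led Lsl_et (LP (LK LD1_c3 LD2_c45 LD3_c17))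
theorem f664629 : Led Lsl_et (LP (LK LD1_c3 LD2_c45 LD3_c17)) = v7338 :=
  Lrfl
theorem f664632 : Led Lsl_ff v2617 = v7338 :=
  Lgr Lrot72 (Lpe (f527885 IH) (Lpr_ft (K2.f95551 IH) (Lpr_et (K3.f85069 IH) (Lpr_ft (K56.f85083 IH) (Lpr_et (f664629 IH) (Lpn v7338))))))
theorem f664634 : Led Lsl_ft v2617 = v7338 :=
  Lgr Lrot48 (Lpr_ff (f664632 IH) (Lpn v7338))
def v2217 : LQ := Led Lsl_et (LP (LK LD1_c1 LD2_c37 LD3_c52))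
def v8811 : LQ := Led Lsl_ft v2217
theorem f672367 : Led Lsl_ft v2217 = v8811 :=
  Lrfl
theorem f672371 : Led Lsl_ff v2217 = v8811 :=
  Lgr Lrot3 (Lpr_ft (f672367 IH) (Lpn v8811))
theorem f95546 : Led Lsl_af (LP (LK LD1_c1 LD2_c37 LD3_c52)) = (LP (LK LD1_c1 LD2_c49 LD3_c47)) :=
  Lgr Lrot0 (Lpr_at (K2.f95543 IH) (Lpn (LP (LK LD1_c1 LD2_c49 LD3_c47))))
theorem f509721 : Led Lsl_et (LP (LK LD1_c1 LD2_c37 LD3_c52)) = v2217 :=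
  Lrfl
theorem f527886 : Led Lsl_at v2217 = v2617 :=
  Lgr Lrot80 (Lpe (f509721 IH) (Lpr_af (f95546 IH) (Lpr_ef (f527885 IH) (Lpn v2617))))
theorem f672373 : Led Lsl_at v7338 = v8811 :=
  Lgr Lrot66 (Lpe (f664634 IH) (Lpe (f527886 IH) (Lpr_ff (f672371 IH) (Lpn v8811))))
theorem f675457 : Led Lsl_gf v8811 = v9345 :=
  Lgr Lrot76 (Lpe (f672373 IH) (Lpe (f664634 IH) (Lpr_gt (f675456 IH) (Lpn v9345))))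
def v9346 : LQ := Led Lsl_gf v2617
theorem f675458 : Led Lsl_gf v2617 = v9346 :=
  Lrfl
theorem f675459 : Led Lsl_gt v8811 = v9346 :=
  Lgr Lrot5 (Lpe (f672371 IH) (Lpr_at (f527886 IH) (Lpr_gf (f675458 IH) (Lpn v9346))))
theorem f771150 : Led Lsl_at v9904 = v9346 :=
  Lgr Lrot26 (Lpe (f771145 IH) (Lpqs (f771149 IH) (Lpe (f675457 IH) (Lpr_gt (f675459 IH) (Lpn v9346)))))
def v3110 : LQ := Led Lsl_gt v515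
def v9902 : LQ := Led Lsl_ft v3110
theorem f678011 : Led Lsl_ft v3110 = v9902 :=
  Lrfl
def v9897 : LQ := Led Lsl_at v3110
theorem f677999 : Led Lsl_at v3110 = v9897 :=
  Lrfl
theorem f678000 : Led Lsl_af v3110 = v9897 :=
  Lgr Lrot0 (Lpr_at (f677999 IH) (Lpn v9897))
theorem f623911 : Led Lsl_gt v515 = v3110 :=
  Lrfl
theorem f678001 : Led Lsl_ft v3111 = v9897 :=
  Lgr Lrot2 (Lpe (f623912 IH) (Lpr_gt (f623911 IH) (Lpr_af (f678000 IH) (Lpn v9897))))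
theorem f678012 : Led Lsl_af v3111 = v9902 :=
  Lgr Lrot45 (Lpr_ft (f678001 IH) (Lpe (f678000 IH) (Lpr_ft (f678011 IH) (Lpn v9902))))
theorem f771152 : Led Lsl_cf v9902 = v9346 :=
  Lgr Lrot1 (Lpe (f678012 IH) (Lpr_ct (f678017 IH) (Lpr_at (f771150 IH) (Lpn v9346))))
theorem f678002 : Led Lsl_ff v3111 = v9897 :=
  Lgr Lrot3 (Lpr_ft (f678001 IH) (Lpn v9897))
theorem f771146 : v8420 = v9897 :=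
  (Llr Lrot40 (Lpr_cf (f676786 IH) (Lpr_ff (f771144 IH) (Lpe (f678017 IH) (Lpr_ff (f678002 IH) (Lpn v9897)))))).symm
theorem f678013 : Led Lsl_ff v3110 = v9902 :=
  Lgr Lrot3 (Lpr_ft (f678011 IH) (Lpn v9902))
theorem f678014 : Led Lsl_at v3111 = v9902 :=
  Lgr Lrot66 (Lpr_ff (f678002 IH) (Lpe (f677999 IH) (Lpr_ff (f678013 IH) (Lpn v9902))))
def v8421 : LQ := Led Lsl_gf v2032
theorem f671178 : Led Lsl_gf v2032 = v8421 :=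
  Lrfl
theorem f671179 : Led Lsl_gt v3113 = v8421 :=
  Lgr Lrot5 (Lpe (f623917 IH) (Lpr_at (f507846 IH) (Lpr_gf (f671178 IH) (Lpn v8421))))
theorem f771147 : v9902 = v8421 :=
  (Llr Lrot26 (Lpe (f678014 IH) (Lpr_ff (f678002 IH) (Lpq (f771146 IH) (Lpr_gt (f671188 IH) (Lpr_gt (f671179 IH) (Lpn v8421))))))).symm
theorem f507847 : Led Lsl_ct K51.v512 = v2032 :=
  Lgr Lrot15 (Lpe (K51.f453715 IH) (Lpe (K7.f24305 IH) (Lpr_ef (f507845 IH) (Lpn v2032))))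
theorem f459417 : Led Lsl_bt K51.v512 = K48.v793 :=
  Lgr Lrot119 (Lpe (K51.f453715 IH) (Lpr_bf (K51.f156448 IH) (Lpr_ef (K48.f459415 IH) (Lpn K48.v793))))
def v9271 : LQ := Led Lsl_bt K49.v2571
theorem f674970 : Led Lsl_bt K49.v2571 = v9271 :=
  Lrfl
theorem f674971 : Led Lsl_bf K49.v2571 = v9271 :=
  Lgr Lrot24 (Lpr_bt (f674970 IH) (Lpn v9271))
theorem f509722 : Led Lsl_bf (LP (LK LD1_c1 LD2_c37 LD3_c55)) = v2217 :=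
  Lgr Lrot96 (Lpr_et (K58.f91966 IH) (Lpr_bt (K2.f95541 IH) (Lpr_et (f509721 IH) (Lpn v2217))))
theorem f672374 : Led Lsl_bt K58.v2222 = v8811 :=
  Lgr Lrot35 (Lpe (K58.f509740 IH) (Lpr_bf (f509722 IH) (Lpr_ff (f672371 IH) (Lpn v8811))))
theorem f653747 : Led Lsl_ff (LP (LK LD1_c3 LD2_c22 LD3_c61)) = v6518 :=
  Lgr Lrot3 (Lpr_ft (f653745 IH) (Lpn v6518))
theorem f459607 : Led Lsl_ct (LP (LK LD1_c3 LD2_c22 LD3_c61)) = (LP (LK LD1_c1 LD2_c37 LD3_c55)) :=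
  Lre_c IH (LK LD1_c3 LD2_c22 LD3_c61) (LK LD1_c1 LD2_c37 LD3_c55) Lrfl Lrfl
theorem f653748 : Led Lsl_ct K58.v2222 = v6518 :=
  Lgr Lrot40 (Lpe (K58.f509740 IH) (Lpe (f459607 IH) (Lpr_ff (f653747 IH) (Lpn v6518))))
def v9379 : LQ := Led Lsl_gt K58.v2633
theorem f675615 : Led Lsl_gt K58.v2633 = v9379 :=
  Lrfl
theorem f529937 : Led Lsl_ef (LP (LK LD1_c1 LD2_c50 LD3_c20)) = K58.v2633 :=
  Lgr Lrot88 (Lpr_et (K58.f529934 IH) (Lpn K58.v2633))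
theorem f95650 : Led Lsl_et (LP (LK LD1_c1 LD2_c37 LD3_c54)) = (LP (LK LD1_c3 LD2_c22 LD3_c61)) :=
  Lre_e IH (LK LD1_c1 LD2_c37 LD3_c54) (LK LD1_c3 LD2_c22 LD3_c61) Lrfl Lrfl
theorem f529938 : Led Lsl_at (LP (LK LD1_c3 LD2_c22 LD3_c61)) = K58.v2633 :=
  Lgr Lrot80 (Lpe (f95650 IH) (Lpr_af (K37.f95535 IH) (Lpr_ef (f529937 IH) (Lpn K58.v2633))))
theorem f675624 : Led Lsl_af v6518 = K58.v9382 :=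
  Lgr Lrot45 (Lpe (f653747 IH) (Lpr_at (f529938 IH) (Lpr_ft (K58.f675623 IH) (Lpn K58.v9382))))
theorem f675628 : Led Lsl_gt v9379 = v6518 :=
  Lgr Lrot46 (Lpe (f675615 IH) (Lpr_ft (K58.f675623 IH) (Lpe (f675624 IH) (Lpn v6518))))
theorem f771157 : Led Lsl_ct v9271 = v9379 :=
  Lgr Lrot64 (Lpe (f674971 IH) (Lpqs (K49.f675143 IH) (Lpe (K49.f625403 IH) (Lpe (f459417 IH) (Lpr_ct (f507847 IH) (Lpr_gf (f671178 IH) (Lpq (f771147 IH) (Lpr_cf (f771152 IH) (Lpe (f675459 IH) (Lpe (f672374 IH) (Lpr_ct (f653748 IH) (Lpe (f675628 IH) (Lpn v9379)))))))))))))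
theorem f674972 : Led Lsl_ff K58.v3390 = v9271 :=
  Lgr Lrot25 (Lpe (K58.f625471 IH) (Lpr_ft (K49.f527544 IH) (Lpr_bt (f674970 IH) (Lpn v9271))))
theorem f674973 : Led Lsl_ft K58.v3390 = v9271 :=
  Lgr Lrot48 (Lpr_ff (f674972 IH) (Lpn v9271))
theorem f680967 : Led Lsl_cf K58.v3390 = K58.v10570 :=
  Lgr Lrot11 (Lpr_ct (K58.f680966 IH) (Lpn K58.v10570))
theorem f771163 : Led Lsl_ff K58.v10570 = v9379 :=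
  Lgr Lrot23 (Lpe (f680967 IH) (Lpr_ft (f674973 IH) (Lpr_ct (f771157 IH) (Lpn v9379))))
def v9380 : LQ := Led Lsl_gf K58.v2633
theorem f675616 : Led Lsl_gf K58.v2633 = v9380 :=
  Lrfl
theorem f675617 : Led Lsl_gt v6518 = v9380 :=
  Lgr Lrot5 (Lpe (f653747 IH) (Lpr_at (f529938 IH) (Lpr_gf (f675616 IH) (Lpn v9380))))
theorem f771165 : Led Lsl_at K58.v10570 = v9380 :=
  Lgr Lrot26 (Lpr_ff (f771163 IH) (Lpr_gt (f675628 IH) (Lpr_gt (f675617 IH) (Lpn v9380))))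
def v10569 : LQ := Led Lsl_at K58.v3390
theorem f680964 : Led Lsl_at K58.v3390 = v10569 :=
  Lrfl
theorem f680965 : Led Lsl_af K58.v3390 = v10569 :=
  Lgr Lrot0 (Lpr_at (f680964 IH) (Lpn v10569))
theorem f771167 : Led Lsl_cf v10569 = v9380 :=
  Lgr Lrot1 (Lpe (f680965 IH) (Lpr_ct (K58.f680966 IH) (Lpr_at (f771165 IH) (Lpn v9380))))
theorem f771168 : Led Lsl_ct v10569 = v9380 :=
  Lgr Lrot59 (Lpr_cf (f771167 IH) (Lpn v9380))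
theorem f529939 : Led Lsl_ct K58.v828 = K58.v2633 :=
  Lgr Lrot15 (Lpe (K58.f459601 IH) (Lpe (K2.f23364 IH) (Lpr_ef (f529937 IH) (Lpn K58.v2633))))
theorem f459603 : Led Lsl_bf (LP (LK LD1_c0 LD2_c52 LD3_c3)) = K58.v828 :=
  Lgr Lrot96 (Lpr_et (K56.f441539 IH) (Lpr_bt (K2.f65645 IH) (Lpr_et (K58.f459601 IH) (Lpn K58.v828))))
def v10702 : LQ := Led Lsl_gt K59.v3438
theorem f681452 : Led Lsl_gt K59.v3438 = v10702 :=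
  Lrfl
theorem f502883 : Led Lsl_at (LP (LK LD1_c1 LD2_c34 LD3_c43)) = K59.v1785 :=
  Lgr Lrot80 (Lpe (K59.f66158 IH) (Lpe (K7.f130759 IH) (Lpr_ef (K59.f502882 IH) (Lpn K59.v1785))))
theorem f508681 : Led Lsl_ff (LP (LK LD1_c1 LD2_c34 LD3_c43)) = K59.v2070 :=
  Lgr Lrot3 (Lpr_ft (K59.f508678 IH) (Lpn K59.v2070))
theorem f669906 : Led Lsl_af K59.v2070 = K59.v8082 :=
  Lgr Lrot45 (Lpe (f508681 IH) (Lpr_at (f502883 IH) (Lpr_ft (K59.f669905 IH) (Lpn K59.v8082))))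
theorem f669910 : Led Lsl_gt K59.v8080 = K59.v2070 :=
  Lgr Lrot46 (Lpe (K59.f669902 IH) (Lpr_ft (K59.f669905 IH) (Lpe (f669906 IH) (Lpn K59.v2070))))
theorem f769148 : K59.v2070 = v10702 :=
  Lefun (Lecon (f669910 IH) ((K59.f769112 IH).symm.trans (K59.f769136 IH))) (f681452 IH)
theorem f453001 : Led Lsl_ct (LP (LK LD1_c1 LD2_c34 LD3_c43)) = (LP (LK LD1_c0 LD2_c44 LD3_c4)) :=
  Lre_c IH (LK LD1_c1 LD2_c34 LD3_c43) (LK LD1_c0 LD2_c44 LD3_c4) Lrfl Lrfl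
theorem f508682 : Led Lsl_ct K49.v543 = K59.v2070 :=
  Lgr Lrot40 (Lpe (K49.f453870 IH) (Lpe (f453001 IH) (Lpr_ff (f508681 IH) (Lpn K59.v2070))))
def v3156 : LQ := Led Lsl_ft v537
theorem f624070 : Led Lsl_ft v537 = v3156 :=
  Lrfl
theorem f624072 : Led Lsl_ff v537 = v3156 :=
  Lgr Lrot3 (Lpr_ft (f624070 IH) (Lpn v3156))
theorem f453850 : Led Lsl_bf (LP (LK LD1_c0 LD2_c44 LD3_c4)) = v537 :=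
  Lgr Lrot96 (Lpr_et (K35.f62878 IH) (Lpr_bt (K49.f96727 IH) (Lpr_et (f453849 IH) (Lpn v537))))
theorem f624073 : Led Lsl_bt K49.v543 = v3156 :=
  Lgr Lrot35 (Lpe (K49.f453870 IH) (Lpr_bf (f453850 IH) (Lpr_ff (f624072 IH) (Lpn v3156))))
def v8485 : LQ := Led Lsl_gf v2061
theorem f671372 : Led Lsl_gf v2061 = v8485 :=
  Lrfl
theorem f508642 : Led Lsl_at v537 = v2061 :=
  Lgr Lrot80 (Lpe (f453849 IH) (Lpe (K48.f115545 IH) (Lpr_ef (f508641 IH) (Lpn v2061))))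
theorem f671373 : Led Lsl_gt v3156 = v8485 :=
  Lgr Lrot5 (Lpe (f624072 IH) (Lpr_at (f508642 IH) (Lpr_gf (f671372 IH) (Lpn v8485))))
theorem f771169 : Led Lsl_bt v10569 = v8485 :=
  Lgr Lrot92 (Lpr_ct (f771168 IH) (Lpe (f675616 IH) (Lpe (f529939 IH) (Lpe (f459603 IH) (Lpr_gt (K58.f459618 IH) (Lpr_ct (K59.f625658 IH) (Lpr_gt (f681452 IH) (Lpq (f769148 IH) (Lpe (f508682 IH) (Lpr_bt (f624073 IH) (Lpr_gt (f671373 IH) (Lpn v8485))))))))))))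
theorem f771171 : Led Lsl_bf v10569 = v8485 :=
  Lgr Lrot24 (Lpr_bt (f771169 IH) (Lpn v8485))
theorem f771173 : Led Lsl_at v9279 = v8485 :=
  Lgr Lrot67 (Lpe (f675001 IH) (Lpe (K49.f527555 IH) (Lpr_bf (K58.f625471 IH) (Lpr_af (f680965 IH) (Lpr_bf (f771171 IH) (Lpn v8485))))))
theorem f771175 : v9274 = v3156 :=
  (Llr Lrot5 (Lpe (f674986 IH) (Lpr_ft (f674998 IH) (Lpr_at (f771173 IH) (Lpe (f671373 IH) (Lpn v3156)))))).symm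
theorem f669904 : Led Lsl_gt K59.v2070 = K59.v8081 :=
  Lgr Lrot5 (Lpe (f508681 IH) (Lpr_at (f502883 IH) (Lpr_gf (K59.f669903 IH) (Lpn K59.v8081))))
theorem f771184 : v10201 = K58.v3442 :=
  (Llr Lrot181 (Lpe (f679219 IH) (Lpr_ct (f674922 IH) (Lpqs (f769783 IH) (Lpe (f675003 IH) (Lpe (f527548 IH) (Lpr_bt (f527546 IH) (Lpr_gt (f674986 IH) (Lpqs (f771175 IH) (Lpe (f624073 IH) (Lpr_ct (f508682 IH) (Lpr_gt (f669904 IH) (Lpq (K59.f769115 IH) (Lpq (K59.f769137 IH) (Lpe (K59.f625670 IH) (Lpr_bt (K58.f625668 IH) (Lpn K58.v3442))))))))))))))))).symm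
def v10719 : LQ := Led Lsl_at K58.v3442
theorem f681497 : Led Lsl_at K58.v3442 = v10719 :=
  Lrfl
theorem f681498 : Led Lsl_af K58.v3442 = v10719 :=
  Lgr Lrot0 (Lpr_at (f681497 IH) (Lpn v10719))
theorem f771187 : Led Lsl_ft v10200 = v10719 :=
  Lgr Lrot2 (Lpr_gt (f679231 IH) (Lpr_gt (f679220 IH) (Lpqs (f771184 IH) (Lpr_af (f681498 IH) (Lpn v10719)))))
theorem f771189 : v10200 = K58.v3585 :=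
  (Llr Lrot30 (Lpr_ft (f771187 IH) (Lpe (f681498 IH) (Lpr_ft (K58.f681417 IH) (Lpq (K58.f769125 IH) (Lpq (K58.f769120 IH) (Lpqs (K58.f769119 IH) (Lpe (K58.f682893 IH) (Lpn K58.v3585))))))))).symm
theorem f452373 : Led Lsl_bf (LP (LK LD1_c0 LD2_c31 LD3_c3)) = K51.v353 :=
  Lgr Lrot93 (Lpr_dt (K54.f23326 IH) (Lpr_bt (K3.f79283 IH) (Lpr_dt (K51.f452372 IH) (Lpn K51.v353))))
theorem f535892 : Led Lsl_bt K58.v355 = v2835 :=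
  Lgr Lrot119 (Lpe (K58.f452381 IH) (Lpr_bf (f452373 IH) (Lpr_ef (f535891 IH) (Lpn v2835))))
theorem f677049 : Led Lsl_bf K58.v2840 = v9647 :=
  Lgr Lrot61 (Lpe (f535905 IH) (Lpr_bt (f535892 IH) (Lpr_ft (f677048 IH) (Lpn v9647))))
def v3126 : LQ := Led Lsl_ct K58.v522
theorem f623955 : Led Lsl_ct K58.v522 = v3126 :=
  Lrfl
def v9945 : LQ := Led Lsl_gt v3126
theorem f678144 : Led Lsl_gt v3126 = v9945 :=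
  Lrfl
theorem f771193 : v4238 = v9945 :=
  (Llr Lrot63 (Lpr_cf (f633118 IH) (Lpe (f633117 IH) (Lpr_gt (f679218 IH) (Lpqs (f771189 IH) (Lpe (K58.f626355 IH) (Lpr_ct (K58.f626357 IH) (Lpr_gt (K58.f682906 IH) (Lpe (K58.f682907 IH) (Lpqs (f770985 IH) (Lpe (f677049 IH) (Lpr_gt (f668450 IH) (Lpqs (f770967 IH) (Lpr_ct (f623955 IH) (Lpr_gt (f678144 IH) (Lpn v9945)))))))))))))))).symm
def v9946 : LQ := Led Lsl_gf v3126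
theorem f678145 : Led Lsl_gf v3126 = v9946 :=
  Lrfl
theorem f771196 : Led Lsl_ff v4399 = v9946 :=
  Lgr Lrot52 (Lpe (f633140 IH) (Lpqs (f771193 IH) (Lpe (f678144 IH) (Lpr_gf (f678145 IH) (Lpn v9946)))))
theorem f771200 : Led Lsl_ft v4399 = v9946 :=
  Lgr Lrot48 (Lpr_ff (f771196 IH) (Lpn v9946))
theorem f633142 : Led Lsl_ef (LP (LK LD1_c2 LD2_c20 LD3_c35)) = v4399 :=
  Lgr Lrot88 (Lpr_et (f633139 IH) (Lpn v4399))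
theorem f633144 : Led Lsl_ct K58.v1344 = v4399 :=
  Lgr Lrot15 (Lpe (K58.f494998 IH) (Lpe (K3.f99008 IH) (Lpr_ef (f633142 IH) (Lpn v4399))))
def v7856 : LQ := Led Lsl_ct K58.v1334
theorem f668744 : Led Lsl_ct K58.v1334 = v7856 :=
  Lrfl
theorem f769785 : Led Lsl_gt v4399 = v7856 :=
  Lgr Lrot65 (Lpe (f633144 IH) (Lpr_bt (K58.f506628 IH) (Lpr_gf (f670637 IH) (Lpqs (f769768 IH) (Lpe (K56.f491585 IH) (Lpr_ct (K35.f491587 IH) (Lpq (K35.f623411 IH) (Lpqs (K49.f623415 IH) (Lpe (K49.f494349 IH) (Lpr_cf (K24.f24038 IH) (Lpr_gf (K32.f206545 IH) (Lpr_bf (K58.f494904 IH) (Lpr_ct (f668744 IH) (Lpn v7856))))))))))))))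
theorem f633143 : Led Lsl_at v4238 = v4399 :=
  Lgr Lrot80 (Lpe (f632123 IH) (Lpr_af (K7.f110813 IH) (Lpr_ef (f633142 IH) (Lpn v4399))))
theorem f110777 : Led Lsl_ff (LP (LK LD1_c2 LD2_c17 LD3_c20)) = (LP (LK LD1_c2 LD2_c20 LD3_c26)) :=
  Lgr Lrot19 (Lpr_dt (K7.f78588 IH) (Lpr_ft (K4.f110770 IH) (Lpe (K3.f98883 IH) (Lpn (LP (LK LD1_c2 LD2_c20 LD3_c26))))))
theorem f98933 : Led Lsl_et (LP (LK LD1_c4 LD2_c44 LD3_c39)) = (LP (LK LD1_c2 LD2_c20 LD3_c26)) :=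
  Lre_e IH (LK LD1_c4 LD2_c44 LD3_c39) (LK LD1_c2 LD2_c20 LD3_c26) Lrfl Lrfl
def v18729 : LQ := Led Lsl_et (LP (LK LD1_c6 LD2_c32 LD3_c29))
theorem f768224 : Led Lsl_et (LP (LK LD1_c6 LD2_c32 LD3_c29)) = v18729 :=
  Lrfl
theorem f768225 : Led Lsl_ef (LP (LK LD1_c6 LD2_c32 LD3_c29)) = v18729 :=
  Lgr Lrot88 (Lpr_et (f768224 IH) (Lpn v18729))
theorem f771194 : Led Lsl_ff v18729 = v4238 :=
  Lgr Lrot72 (Lpe (f768225 IH) (Lpqs (K58.f769999 IH) (Lpe (K58.f703391 IH) (Lpr_et (f98933 IH) (Lpe (f110777 IH) (Lpr_et (f632123 IH) (Lpn v4238)))))))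
theorem f771195 : Led Lsl_ft v18729 = v4238 :=
  Lgr Lrot48 (Lpr_ff (f771194 IH) (Lpn v4238))
theorem f771201 : Led Lsl_af v18729 = v9946 :=
  Lgr Lrot45 (Lpr_ft (f771195 IH) (Lpr_at (f633143 IH) (Lpr_ft (f771200 IH) (Lpn v9946))))
theorem f771204 : Led Lsl_gt v7856 = v18729 :=
  Lgr Lrot46 (Lpe (f769785 IH) (Lpr_ft (f771200 IH) (Lpe (f771201 IH) (Lpn v18729))))
theorem f623956 : Led Lsl_cf K58.v522 = v3126 :=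
  Lgr Lrot11 (Lpr_ct (f623955 IH) (Lpn v3126))
theorem f668746 : Led Lsl_ff v3126 = v7856 :=
  Lgr Lrot23 (Lpe (f623956 IH) (Lpr_ft (K58.f508560 IH) (Lpr_ct (f668744 IH) (Lpn v7856))))
def v9943 : LQ := Led Lsl_ct K58.v3125
theorem f678136 : Led Lsl_ct K58.v3125 = v9943 :=
  Lrfl
theorem f678138 : Led Lsl_cf K58.v3125 = v9943 :=
  Lgr Lrot11 (Lpr_ct (f678136 IH) (Lpn v9943))
theorem f678139 : Led Lsl_at v3126 = v9943 :=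
  Lgr Lrot107 (Lpe (f623955 IH) (Lpr_af (K58.f623954 IH) (Lpr_cf (f678138 IH) (Lpn v9943))))
theorem f771205 : Led Lsl_gf v9943 = v18729 :=
  Lgr Lrot76 (Lpe (f678139 IH) (Lpr_ff (f668746 IH) (Lpr_gt (f771204 IH) (Lpn v18729))))
theorem f771206 : Led Lsl_gt v9943 = v4399 :=
  Lgr Lrot46 (Lpr_gf (f771205 IH) (Lpr_ft (f771195 IH) (Lpr_at (f633143 IH) (Lpn v4399))))
def v9656 : LQ := Led Lsl_ct K58.v2838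
theorem f677077 : Led Lsl_ct K58.v2838 = v9656 :=
  Lrfl
theorem f770990 : v9943 = v9656 :=
  Lefun (Lecon (f678136 IH) (K58.f770977 IH)) (f677077 IH)
def v590 : LQ := Led Lsl_et (LP (LK LD1_c0 LD2_c46 LD3_c22))
theorem f455069 : Led Lsl_et (LP (LK LD1_c0 LD2_c46 LD3_c22)) = v590 :=
  Lrfl
theorem f455070 : Led Lsl_ef (LP (LK LD1_c0 LD2_c46 LD3_c22)) = v590 :=
  Lgr Lrot88 (Lpr_et (f455069 IH) (Lpn v590))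
theorem f494636 : Led Lsl_bf v590 = K58.v1287 :=
  Lgr Lrot96 (Lpe (f455070 IH) (Lpe (K3.f94783 IH) (Lpr_et (K58.f494634 IH) (Lpn K58.v1287))))
def v3234 : LQ := Led Lsl_ft v590
theorem f624717 : Led Lsl_ft v590 = v3234 :=
  Lrfl
theorem f668466 : Led Lsl_bt v3234 = K58.v7798 :=
  Lgr Lrot35 (Lpe (f624717 IH) (Lpr_bf (f494636 IH) (Lpr_ff (K58.f668463 IH) (Lpn K58.v7798))))
def v2266 : LQ := Led Lsl_et (LP (LK LD1_c1 LD2_c39 LD3_c40))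
def v8891 : LQ := Led Lsl_ft v2266
theorem f672644 : Led Lsl_ft v2266 = v8891 :=
  Lrfl
theorem f672646 : Led Lsl_ff v2266 = v8891 :=
  Lgr Lrot3 (Lpr_ft (f672644 IH) (Lpn v8891))
theorem f511349 : Led Lsl_et (LP (LK LD1_c1 LD2_c39 LD3_c40)) = v2266 :=
  Lrfl
theorem f511350 : Led Lsl_cf v590 = v2266 :=
  Lgr Lrot39 (Lpe (f455070 IH) (Lpr_ct (K2.f26119 IH) (Lpr_et (f511349 IH) (Lpn v2266))))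
theorem f672647 : Led Lsl_ct v3234 = v8891 :=
  Lgr Lrot40 (Lpe (f624717 IH) (Lpr_cf (f511350 IH) (Lpr_ff (f672646 IH) (Lpn v8891))))
def v8279 : LQ := Led Lsl_gt K58.v1963
theorem f670636 : Led Lsl_gt K58.v1963 = v8279 :=
  Lrfl
def v9611 : LQ := Led Lsl_at K56.v2816
theorem f676832 : Led Lsl_at K56.v2816 = v9611 :=
  Lrfl
def v3905 : LQ := Led Lsl_gt K56.v1117
theorem f627845 : Led Lsl_gt K56.v1117 = v3905 :=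
  Lrfl
theorem f676836 : Led Lsl_gt v3905 = v9611 :=
  Lgr Lrot46 (Lpe (f627845 IH) (Lpr_ft (K56.f623433 IH) (Lpr_at (f676832 IH) (Lpn v9611))))
theorem f769769 : K58.v1963 = v3905 :=
  Lefun (Lecon (Lfl_gf (f670637 IH)) (f769768 IH)) (f627845 IH)
theorem f769771 : v9611 = v8279 :=
  Lefun (Lecon (f676836 IH) (f769769 IH).symm) (f670636 IH)
theorem f676834 : Led Lsl_bf K59.v3892 = v9611 :=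
  Lgr Lrot81 (Lpe (K59.f627762 IH) (Lpe (K58.f491569 IH) (Lpqs (K35.f623413 IH) (Lpe (K35.f535749 IH) (Lpr_bt (K56.f535752 IH) (Lpr_at (f676832 IH) (Lpn v9611)))))))
theorem f676840 : Led Lsl_bt K59.v3892 = v9611 :=
  Lgr Lrot127 (Lpr_bf (f676834 IH) (Lpn v9611))
def v10675 : LQ := Led Lsl_ct K59.v3431
theorem f681351 : Led Lsl_ct K59.v3431 = v10675 :=
  Lrfl
theorem f771207 : Led Lsl_gf v8891 = v10675 :=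
  Lgr Lrot126 (Lpe (f672647 IH) (Lpr_bt (f668466 IH) (Lpe (K58.f668468 IH) (Lpr_ct (f677077 IH) (Lpq (f770990 IH) (Lpr_gt (f771206 IH) (Lpe (f633144 IH) (Lpr_bt (K58.f506628 IH) (Lpr_gt (f670636 IH) (Lpq (f769771 IH) (Lpe (f676840 IH) (Lpqs (K59.f769615 IH) (Lpr_ct (f681351 IH) (Lpn v10675))))))))))))))
def v8820 : LQ := Led Lsl_ct K58.v2220
theorem f672401 : Led Lsl_ct K58.v2220 = v8820 :=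
  Lrfl
theorem f672402 : Led Lsl_cf K58.v2220 = v8820 :=
  Lgr Lrot11 (Lpr_ct (f672401 IH) (Lpn v8820))
theorem f769656 : Led Lsl_ff v8820 = v10675 :=
  Lgr Lrot23 (Lpe (f672402 IH) (Lpq (K59.f768765 IH) (Lpq (K59.f769610 IH) (Lpe (K59.f681359 IH) (Lpr_ct (f681351 IH) (Lpn v10675))))))
def v11796 : LQ := Led Lsl_ct K59.v3892
theorem f685909 : Led Lsl_ct K59.v3892 = v11796 :=
  Lrfl
theorem f769618 : v11796 = v10675 :=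
  Lefun (Lecon (f685909 IH) (K59.f769615 IH)) (f681351 IH)
theorem f685911 : Led Lsl_cf K59.v3892 = v11796 :=
  Lgr Lrot11 (Lpr_ct (f685909 IH) (Lpn v11796))
def v3893 : LQ := Led Lsl_ct K58.v1112
theorem f627763 : Led Lsl_ct K58.v1112 = v3893 :=
  Lrfl
theorem f685912 : Led Lsl_at v3893 = v11796 :=
  Lgr Lrot107 (Lpe (f627763 IH) (Lpr_af (K59.f627762 IH) (Lpr_cf (f685911 IH) (Lpn v11796))))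
def v9622 : LQ := Led Lsl_ct K58.v2821
theorem f676907 : Led Lsl_ct K58.v2821 = v9622 :=
  Lrfl
theorem f627764 : Led Lsl_cf K58.v1112 = v3893 :=
  Lgr Lrot11 (Lpr_ct (f627763 IH) (Lpn v3893))
theorem f676910 : Led Lsl_ff v3893 = v9622 :=
  Lgr Lrot23 (Lpe (f627764 IH) (Lpe (K58.f623416 IH) (Lpr_ct (f676907 IH) (Lpn v9622))))
theorem f769657 : Led Lsl_at v8820 = v9622 :=
  Lgr Lrot66 (Lpr_ff (f769656 IH) (Lpq (f769618 IH) (Lpe (f685912 IH) (Lpr_ff (f676910 IH) (Lpn v9622)))))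
theorem f771208 : Led Lsl_gt v8891 = v9622 :=
  Lgr Lrot46 (Lpr_gf (f771207 IH) (Lpe (f769656 IH) (Lpr_at (f769657 IH) (Lpn v9622))))
def v10194 : LQ := Led Lsl_et K59.v3224
theorem f679186 : Led Lsl_et K59.v3224 = v10194 :=
  Lrfl
theorem f679190 : Led Lsl_ff v3225 = v10194 :=
  Lgr Lrot72 (Lpe (f624678 IH) (Lpe (K54.f455018 IH) (Lpr_et (K58.f455009 IH) (Lpr_ft (K59.f624672 IH) (Lpr_et (f679186 IH) (Lpn v10194))))))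
theorem f679193 : Led Lsl_ft v3225 = v10194 :=
  Lgr Lrot48 (Lpr_ff (f679190 IH) (Lpn v10194))
theorem f633107 : Led Lsl_et v3234 = K58.v4390 :=
  Lgr Lrot69 (Lpe (f624717 IH) (Lpe (f455069 IH) (Lpr_ff (K3.f102374 IH) (Lpe (K59.f102315 IH) (Lpr_ff (K58.f633102 IH) (Lpn K58.v4390))))))
theorem f679187 : Led Lsl_af v3234 = v10194 :=
  Lgr Lrot50 (Lpr_et (f633107 IH) (Lpe (K59.f633099 IH) (Lpr_et (f679186 IH) (Lpn v10194))))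
theorem f679197 : Led Lsl_gf v3234 = v10195 :=
  Lgr Lrot76 (Lpr_af (f679187 IH) (Lpe (f679193 IH) (Lpr_gt (f679196 IH) (Lpn v10195))))
def v1324 : LQ := Led Lsl_et (LP (LK LD1_c1 LD2_c7 LD3_c8))
theorem f494843 : Led Lsl_et (LP (LK LD1_c1 LD2_c7 LD3_c8)) = v1324 :=
  Lrfl
theorem f494846 : Led Lsl_ef (LP (LK LD1_c1 LD2_c7 LD3_c8)) = v1324 :=
  Lgr Lrot88 (Lpr_et (f494843 IH) (Lpn v1324))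
theorem f494848 : Led Lsl_ct v344 = v1324 :=
  Lgr Lrot15 (Lpe (f452323 IH) (Lpe (K4.f23447 IH) (Lpr_ef (f494846 IH) (Lpn v1324))))
def v7841 : LQ := Led Lsl_gt v1324
theorem f668677 : Led Lsl_gt v1324 = v7841 :=
  Lrfl
theorem f674999 : Led Lsl_bf K49.v2575 = v9279 :=
  Lgr Lrot61 (Lpe (K49.f527554 IH) (Lpr_bt (f527546 IH) (Lpr_ft (f674998 IH) (Lpn v9279))))
theorem f459461 : Led Lsl_bt (LP (LK LD1_c1 LD2_c7 LD3_c26)) = K49.v801 :=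
  Lgr Lrot35 (Lpe (K32.f152071 IH) (Lpr_bf (K24.f124189 IH) (Lpr_ff (K49.f459460 IH) (Lpn K49.v801))))
theorem f22241 : Led Lsl_ft (LP (LK LD1_c0 LD2_c37 LD3_c60)) = (LP (LK LD1_c1 LD2_c22 LD3_c7)) :=
  Lre_f IH (LK LD1_c0 LD2_c37 LD3_c60) (LK LD1_c1 LD2_c22 LD3_c7) Lrfl Lrfl
theorem f163611 : Led Lsl_gt (LP (LK LD1_c1 LD2_c22 LD3_c5)) = (LP (LK LD1_c2 LD2_c14 LD3_c26)) :=
  Lgr Lrot46 (Lpe (K35.f22245 IH) (Lpr_ft (f22241 IH) (Lpr_at (K32.f163604 IH) (Lpn (LP (LK LD1_c2 LD2_c14 LD3_c26))))))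
def v7842 : LQ := Led Lsl_gf v1324
theorem f668678 : Led Lsl_gf v1324 = v7842 :=
  Lrfl
theorem f675235 : Led Lsl_ct v9279 = v7842 :=
  Lgr Lrot64 (Lpe (f674999 IH) (Lpr_gf (K49.f674967 IH) (Lpq (K49.f675144 IH) (Lpe (f459461 IH) (Lpe (K24.f206528 IH) (Lpe (f163611 IH) (Lpr_cf (K56.f500212 IH) (Lpqs (K35.f535787 IH) (Lpe (K35.f452332 IH) (Lpr_bf (f452324 IH) (Lpr_ct (f494848 IH) (Lpr_gf (f668678 IH) (Lpn v7842)))))))))))))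
def v9277 : LQ := Led Lsl_ct v2572
theorem f674990 : Led Lsl_ct v2572 = v9277 :=
  Lrfl
theorem f674991 : Led Lsl_cf v2572 = v9277 :=
  Lgr Lrot11 (Lpr_ct (f674990 IH) (Lpn v9277))
theorem f675237 : Led Lsl_ff v9277 = v7842 :=
  Lgr Lrot23 (Lpe (f674991 IH) (Lpr_ft (f674998 IH) (Lpr_ct (f675235 IH) (Lpn v7842))))
theorem f675239 : Led Lsl_at v9277 = v7841 :=
  Lgr Lrot26 (Lpr_ff (f675237 IH) (Lpe (f668678 IH) (Lpr_gt (f668677 IH) (Lpn v7841))))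
theorem f675241 : Led Lsl_cf v9276 = v7841 :=
  Lgr Lrot1 (Lpe (f674989 IH) (Lpr_ct (f674990 IH) (Lpr_at (f675239 IH) (Lpn v7841))))
theorem f675242 : Led Lsl_ct v9276 = v7841 :=
  Lgr Lrot59 (Lpr_cf (f675241 IH) (Lpn v7841))
theorem f771210 : Led Lsl_bf v10195 = v9276 :=
  Lgr Lrot165 (Lpe (f679197 IH) (Lpr_ct (f672647 IH) (Lpr_gt (f771208 IH) (Lpe (f676907 IH) (Lpe (K58.f535768 IH) (Lpe (K35.f452333 IH) (Lpr_bf (f452324 IH) (Lpr_ct (f494848 IH) (Lpr_gt (f668677 IH) (Lpe (f675242 IH) (Lpn v9276)))))))))))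
theorem f771212 : Led Lsl_bt v10195 = v9276 :=
  Lgr Lrot127 (Lpr_bf (f771210 IH) (Lpn v9276))
theorem f453002 : Led Lsl_ct (LP (LK LD1_c0 LD2_c44 LD3_c4)) = (LP (LK LD1_c1 LD2_c34 LD3_c43)) :=
  Lre_c IH (LK LD1_c0 LD2_c44 LD3_c4) (LK LD1_c1 LD2_c34 LD3_c43) Lrfl Lrfl
theorem f453852 : Led Lsl_bt (LP (LK LD1_c0 LD2_c44 LD3_c4)) = v537 :=
  Lgr Lrot119 (Lpe (K35.f130772 IH) (Lpe (K4.f62860 IH) (Lpr_ef (f453851 IH) (Lpn v537))))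
theorem f771237 : v9276 = v3153 :=
  (Llr Lrot92 (Lpe (f771212 IH) (Lpr_ct (f771233 IH) (Lpr_gt (f675633 IH) (Lpe (K58.f675630 IH) (Lpe (K58.f625638 IH) (Lpr_gt (K58.f625587 IH) (Lpr_ct (K59.f681272 IH) (Lpq (K59.f768829 IH) (Lpqs (K59.f768885 IH) (Lpe (K59.f508676 IH) (Lpe (f453002 IH) (Lpr_bt (f453852 IH) (Lpr_gt (f624062 IH) (Lpn v3153))))))))))))))).symm
theorem f771238 : v2572 = v10022 :=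
  Lefun (Lecon (Lfl_af (f674989 IH)) (f771237 IH)) (f678421 IH)
theorem f771242 : v3154 = v9279 :=
  Lefun (Lecon (Lfl_ff (f678424 IH)) (f771238 IH).symm) (f674998 IH)
theorem f771245 : Led Lsl_bf K49.v9290 = v10031 :=
  Lgr Lrot96 (Lpe (K49.f675034 IH) (Lpr_bt (f675001 IH) (Lpq (f771242 IH) (Lpr_et (f678443 IH) (Lpn v10031)))))
theorem f675040 : Led Lsl_ff K49.v6411 = K49.v9290 :=
  Lgr Lrot3 (Lpr_ft (K49.f675038 IH) (Lpn K49.v9290))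
def v17143 : LQ := Led Lsl_bt (LP (LK LD1_c6 LD2_c12 LD3_c23))
theorem f756328 : Led Lsl_bt (LP (LK LD1_c6 LD2_c12 LD3_c23)) = v17143 :=
  Lrfl
theorem f771248 : Led Lsl_ft v17143 = v10031 :=
  Lgr Lrot75 (Lpe (f756328 IH) (Lpq (K49.f675041 IH) (Lpr_ff (f675040 IH) (Lpr_bf (f771245 IH) (Lpn v10031)))))
def v6410 : LQ := Led Lsl_bt (LP (LK LD1_c3 LD2_c21 LD3_c22))
theorem f653243 : Led Lsl_bt (LP (LK LD1_c3 LD2_c21 LD3_c22)) = v6410 :=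
  Lrfl
theorem f653244 : Led Lsl_bf (LP (LK LD1_c3 LD2_c21 LD3_c22)) = v6410 :=
  Lgr Lrot24 (Lpr_bt (f653243 IH) (Lpn v6410))
theorem f756330 : Led Lsl_df v6410 = v17143 :=
  Lgr Lrot12 (Lpe (f653244 IH) (Lpr_dt (K49.f653246 IH) (Lpqs (K49.f675041 IH) (Lpr_bt (f756328 IH) (Lpn v17143)))))
theorem f756331 : Led Lsl_dt v6410 = v17143 :=
  Lgr Lrot42 (Lpr_df (f756330 IH) (Lpn v17143))
theorem f653215 : Led Lsl_bf (LP (LK LD1_c3 LD2_c21 LD3_c18)) = v6398 :=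
  Lgr Lrot24 (Lpr_bt (f653214 IH) (Lpn v6398))
theorem f675186 : Led Lsl_ff v6398 = v6410 :=
  Lgr Lrot25 (Lpe (f653215 IH) (Lpq (K49.f675148 IH) (Lpe (K49.f653252 IH) (Lpr_bt (f653243 IH) (Lpn v6410)))))
theorem f675199 : Led Lsl_ft v6398 = v6410 :=
  Lgr Lrot48 (Lpr_ff (f675186 IH) (Lpn v6410))
theorem f771249 : Led Lsl_df v6398 = v10031 :=
  Lgr Lrot78 (Lpr_ft (f675199 IH) (Lpr_dt (f756331 IH) (Lpr_ft (f771248 IH) (Lpn v10031))))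
def v6167 : LQ := Led Lsl_gf (LP (LK LD1_c3 LD2_c18 LD3_c33))
theorem f651597 : Led Lsl_gf (LP (LK LD1_c3 LD2_c18 LD3_c33)) = v6167 :=
  Lrfl
theorem f772364 : v6398 = v6167 :=
  (Llr Lrot136 (Lpr_df (f771249 IH) (Lpe (f678444 IH) (Lpr_gf (f671385 IH) (Lpr_ef (f754338 IH) (Lpr_dt (f754343 IH) (Lpe (f754346 IH) (Lpr_df (K59.f754374 IH) (Lpq (K59.f772256 IH) (Lpqs (K59.f772355 IH) (Lpe (K59.f650664 IH) (Lpe (K59.f62175 IH) (Lpr_dt (K48.f62161 IH) (Lpr_gf (f651597 IH) (Lpn v6167))))))))))))))).symm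
theorem f624183 : Led Lsl_gf (LP (LK LD1_c6 LD2_c40 LD3_c56)) = (LP (LK LD1_c3 LD2_c18 LD3_c38)) :=
  Lgr Lrot47 (Lpr_gt (f508840 IH) (Lpe (K46.f624167 IH) (Lpr_ff (K49.f624179 IH) (Lpn (LP (LK LD1_c3 LD2_c18 LD3_c38))))))
theorem f776777 : Led Lsl_ef (LP (LK LD1_c6 LD2_c35 LD3_c29)) = v18950 :=
  Lgr Lrot88 (Lpr_et (f776774 IH) (Lpn v18950))
theorem f776779 : Led Lsl_ct K59.v6768 = v18950 :=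
  Lgr Lrot15 (Lpe (K59.f658304 IH) (Lpqs (K58.f769182 IH) (Lpr_cf (K58.f769026 IH) (Lpqs (K58.f769332 IH) (Lpr_ef (f776777 IH) (Lpn v18950))))))
theorem f781913 : Led Lsl_bt K59.v6768 = v19748 :=
  Lgr Lrot127 (Lpr_bf (f781912 IH) (Lpn v19748))
def v6391 : LQ := Led Lsl_ct (LP (LK LD1_c3 LD2_c21 LD3_c15))
theorem f653175 : Led Lsl_ct (LP (LK LD1_c3 LD2_c21 LD3_c15)) = v6391 :=
  Lrfl
def v6389 : LQ := Led Lsl_et (LP (LK LD1_c3 LD2_c21 LD3_c14))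
theorem f653159 : Led Lsl_et (LP (LK LD1_c3 LD2_c21 LD3_c14)) = v6389 :=
  Lrfl
theorem f653161 : Led Lsl_cf K48.v2176 = v6389 :=
  Lgr Lrot39 (Lpe (K48.f509479 IH) (Lpr_ct (K46.f454728 IH) (Lpr_et (f653159 IH) (Lpn v6389))))
theorem f653178 : Led Lsl_ff v6389 = v6391 :=
  Lgr Lrot23 (Lpe (f653161 IH) (Lpe (K48.f509482 IH) (Lpr_ct (f653175 IH) (Lpn v6391))))
theorem f653160 : Led Lsl_af (LP (LK LD1_c3 LD2_c21 LD3_c17)) = v6389 :=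
  Lgr Lrot50 (Lpr_et (K46.f454745 IH) (Lpr_at (K35.f454763 IH) (Lpr_et (f653159 IH) (Lpn v6389))))
theorem f454732 : Led Lsl_ff (LP (LK LD1_c3 LD2_c21 LD3_c20)) = (LP (LK LD1_c3 LD2_c21 LD3_c17)) :=
  Lgr Lrot23 (Lpr_ct (K48.f453996 IH) (Lpr_ft (K46.f454722 IH) (Lpr_ct (f416796 IH) (Lpn (LP (LK LD1_c3 LD2_c21 LD3_c17))))))
theorem f653179 : Led Lsl_at (LP (LK LD1_c3 LD2_c21 LD3_c20)) = v6391 :=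
  Lgr Lrot66 (Lpr_ff (f454732 IH) (Lpr_af (f653160 IH) (Lpr_ff (f653178 IH) (Lpn v6391))))
theorem f653181 : Led Lsl_gt (LP (LK LD1_c6 LD2_c46 LD3_c18)) = v6391 :=
  Lgr Lrot46 (Lpe (f454770 IH) (Lpe (f454732 IH) (Lpr_at (f653179 IH) (Lpn v6391))))
theorem f653177 : Led Lsl_cf (LP (LK LD1_c3 LD2_c21 LD3_c15)) = v6391 :=
  Lgr Lrot11 (Lpr_ct (f653175 IH) (Lpn v6391))
theorem f781911 : Led Lsl_gt K49.v9201 = v19748 :=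
  Lgr Lrot9 (Lpe (f674238 IH) (Lpe (K49.f527257 IH) (Lpr_ct (K6.f26239 IH) (Lpqs (K35.f634278 IH) (Lpe (K35.f634269 IH) (Lpr_ct (K48.f454005 IH) (Lpe (K48.f454726 IH) (Lpr_cf (f653177 IH) (Lpe (f653181 IH) (Lpr_cf (f781910 IH) (Lpn v19748)))))))))))
theorem f674546 : Led Lsl_af K49.v9201 = K50.v7165 :=
  Lgr Lrot117 (Lpe (K49.f674237 IH) (Lpqs (K50.f674535 IH) (Lpe (K50.f661626 IH) (Lpr_dt (K50.f661631 IH) (Lpn K50.v7165)))))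
theorem f674736 : Led Lsl_at v9200 = K50.v9222 :=
  Lgr Lrot66 (Lpr_ff (f674537 IH) (Lpr_af (f674546 IH) (Lpr_ff (K50.f674735 IH) (Lpn K50.v9222))))
theorem f781931 : Led Lsl_gf K50.v9222 = v19748 :=
  Lgr Lrot76 (Lpe (f674736 IH) (Lpr_ff (f674537 IH) (Lpr_gt (f781911 IH) (Lpn v19748))))
theorem f781943 : Led Lsl_ct K50.v9222 = v19751 :=
  Lgr Lrot91 (Lpr_gf (f781931 IH) (Lpe (f781913 IH) (Lpr_ct (f776779 IH) (Lpq (f777829 IH) (Lpr_gf (f624183 IH) (Lpe (K49.f62119 IH) (Lpr_bt (K59.f62115 IH) (Lpr_gf (f651597 IH) (Lpq (f772364 IH) (Lpe (f653214 IH) (Lpr_ct (f416547 IH) (Lpr_gf (f781941 IH) (Lpn v19751)))))))))))))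
theorem f781944 : Led Lsl_cf K50.v9222 = v19751 :=
  Lgr Lrot11 (Lpr_ct (f781943 IH) (Lpn v19751))
theorem f782001 : Led Lsl_af v19751 = v19764 :=
  Lgr Lrot68 (Lpe (f781944 IH) (Lpe (f674733 IH) (Lpr_ct (f782000 IH) (Lpn v19764))))
theorem f782006 : Led Lsl_ef v19441 = v19751 :=
  Lgr Lrot20 (Lpe (f779763 IH) (Lpr_et (f782004 IH) (Lpe (f782001 IH) (Lpn v19751))))
theorem f782007 : Led Lsl_et v19441 = v19751 :=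
  Lgr Lrot87 (Lpr_ef (f782006 IH) (Lpn v19751))
theorem f134826 : Led Lsl_ct (LP (LK LD1_c6 LD2_c41 LD3_c58)) = (LP (LK LD1_c3 LD2_c18 LD3_c59)) :=
  Lre_c IH (LK LD1_c6 LD2_c41 LD3_c58) (LK LD1_c3 LD2_c18 LD3_c59) Lrfl Lrfl
theorem f438909 : Led Lsl_ef (LP (LK LD1_c6 LD2_c41 LD3_c58)) = (LP (LK LD1_c6 LD2_c32 LD3_c27)) :=
  Lgr Lrot28 (Lpr_ct (f134826 IH) (Lpr_et (K48.f438906 IH) (Lpr_ct (K58.f438908 IH) (Lpn (LP (LK LD1_c6 LD2_c32 LD3_c27))))))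
theorem f652147 : Led Lsl_et (LP (LK LD1_c3 LD2_c19 LD3_c13)) = (LP (LK LD1_c6 LD2_c42 LD3_c29)) :=
  Lre_e IH (LK LD1_c3 LD2_c19 LD3_c13) (LK LD1_c6 LD2_c42 LD3_c29) Lrfl Lrfl
theorem f663817 : Led Lsl_af (LP (LK LD1_c6 LD2_c32 LD3_c27)) = (LP (LK LD1_c6 LD2_c42 LD3_c29)) :=
  Lgr Lrot50 (Lpe (f438909 IH) (Lpq (K58.f663680 IH) (Lpe (K46.f652138 IH) (Lpr_et (f652147 IH) (Lpn (LP (LK LD1_c6 LD2_c42 LD3_c29)))))))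
theorem f663819 : Led Lsl_at (LP (LK LD1_c6 LD2_c32 LD3_c27)) = (LP (LK LD1_c6 LD2_c42 LD3_c29)) :=
  Lgr Lrot100 (Lpr_af (f663817 IH) (Lpn (LP (LK LD1_c6 LD2_c42 LD3_c29))))
def v18609 : LQ := Led Lsl_ct (LP (LK LD1_c6 LD2_c31 LD3_c16))
theorem f767713 : Led Lsl_ct (LP (LK LD1_c6 LD2_c31 LD3_c16)) = v18609 :=
  Lrfl
theorem f652204 : Led Lsl_ff (LP (LK LD1_c6 LD2_c31 LD3_c16)) = K48.v6226 :=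
  Lgr Lrot3 (Lpr_ft (K48.f652203 IH) (Lpn K48.v6226))
theorem f438899 : Led Lsl_ct (LP (LK LD1_c6 LD2_c32 LD3_c27)) = (LP (LK LD1_c3 LD2_c14 LD3_c22)) :=
  Lre_c IH (LK LD1_c6 LD2_c32 LD3_c27) (LK LD1_c3 LD2_c14 LD3_c22) Lrfl Lrfl
theorem f767716 : Led Lsl_ff (LP (LK LD1_c6 LD2_c32 LD3_c27)) = v18609 :=
  Lgr Lrot23 (Lpr_ct (f438899 IH) (Lpqs (K57.f663656 IH) (Lpe (f652204 IH) (Lpr_ct (f767713 IH) (Lpn v18609)))))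
theorem f779759 : Led Lsl_gt v18609 = v19441 :=
  Lgr Lrot5 (Lpe (f767716 IH) (Lpr_at (f663819 IH) (Lpr_gf (f779758 IH) (Lpn v19441))))
theorem f767715 : Led Lsl_cf (LP (LK LD1_c6 LD2_c31 LD3_c16)) = v18609 :=
  Lgr Lrot11 (Lpr_ct (f767713 IH) (Lpn v18609))
theorem f446134 : Led Lsl_df (LP (LK LD1_c2 LD2_c22 LD3_c45)) = (LP (LK LD1_c3 LD2_c21 LD3_c21)) :=
  Lgr Lrot12 (Lpr_bt (K46.f446133 IH) (Lpr_dt (K24.f23206 IH) (Lpr_bt (K48.f139950 IH) (Lpn (LP (LK LD1_c3 LD2_c21 LD3_c21))))))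
theorem f506901 : Led Lsl_dt (LP (LK LD1_c6 LD2_c32 LD3_c17)) = (LP (LK LD1_c3 LD2_c14 LD3_c18)) :=
  Lre_d IH (LK LD1_c6 LD2_c32 LD3_c17) (LK LD1_c3 LD2_c14 LD3_c18) Lrfl Lrfl
theorem f649839 : Led Lsl_gt (LP (LK LD1_c12 LD2_c32 LD3_c18)) = (LP (LK LD1_c6 LD2_c32 LD3_c17)) :=
  Lre_g IH (LK LD1_c12 LD2_c32 LD3_c18) (LK LD1_c6 LD2_c32 LD3_c17) Lrfl Lrfl
theorem f779764 : Led Lsl_df (LP (LK LD1_c12 LD2_c32 LD3_c18)) = v19441 :=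
  Lgr Lrot153 (Lpr_gt (f649839 IH) (Lpr_dt (f506901 IH) (Lpe (K58.f22733 IH) (Lpe (K48.f23738 IH) (Lpq (K48.f662772 IH) (Lpe (K48.f634309 IH) (Lpr_df (f446134 IH) (Lpqs (K48.f662728 IH) (Lpe (K48.f652205 IH) (Lpr_cf (f767715 IH) (Lpr_gt (f779759 IH) (Lpn v19441))))))))))))
theorem f506881 : Led Lsl_dt (LP (LK LD1_c6 LD2_c32 LD3_c25)) = (LP (LK LD1_c3 LD2_c14 LD3_c21)) :=
  Lre_d IH (LK LD1_c6 LD2_c32 LD3_c25) (LK LD1_c3 LD2_c14 LD3_c21) Lrfl Lrfl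
theorem f652206 : Led Lsl_dt (LP (LK LD1_c6 LD2_c31 LD3_c15)) = (LP (LK LD1_c12 LD2_c31 LD3_c3)) :=
  Lre_d IH (LK LD1_c6 LD2_c31 LD3_c15) (LK LD1_c12 LD2_c31 LD3_c3) Lrfl Lrfl
theorem f663916 : Led Lsl_ff (LP (LK LD1_c6 LD2_c32 LD3_c25)) = (LP (LK LD1_c12 LD2_c31 LD3_c3)) :=
  Lgr Lrot19 (Lpr_dt (f506881 IH) (Lpr_ft (K58.f649860 IH) (Lpqs (K58.f663639 IH) (Lpr_dt (f652206 IH) (Lpn (LP (LK LD1_c12 LD2_c31 LD3_c3)))))))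
theorem f663921 : Led Lsl_ft (LP (LK LD1_c6 LD2_c32 LD3_c25)) = (LP (LK LD1_c12 LD2_c31 LD3_c3)) :=
  Lgr Lrot48 (Lpr_ff (f663916 IH) (Lpn (LP (LK LD1_c12 LD2_c31 LD3_c3))))
theorem f148409 : Led Lsl_dt (LP (LK LD1_c12 LD2_c31 LD3_c4)) = (LP (LK LD1_c6 LD2_c31 LD3_c18)) :=
  Lre_d IH (LK LD1_c12 LD2_c31 LD3_c4) (LK LD1_c6 LD2_c31 LD3_c18) Lrfl Lrfl
theorem f649867 : Led Lsl_af (LP (LK LD1_c3 LD2_c14 LD3_c21)) = K58.v5863 :=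
  Lgr Lrot45 (Lpr_ft (K58.f649860 IH) (Lpe (K58.f649857 IH) (Lpr_ft (K58.f649866 IH) (Lpn K58.v5863))))
theorem f506880 : Led Lsl_dt (LP (LK LD1_c3 LD2_c14 LD3_c21)) = (LP (LK LD1_c6 LD2_c32 LD3_c25)) :=
  Lre_d IH (LK LD1_c3 LD2_c14 LD3_c21) (LK LD1_c6 LD2_c32 LD3_c25) Lrfl Lrfl
theorem f663841 : Led Lsl_af (LP (LK LD1_c12 LD2_c31 LD3_c4)) = (LP (LK LD1_c6 LD2_c32 LD3_c25)) :=
  Lgr Lrot117 (Lpr_dt (f148409 IH) (Lpq (K58.f663665 IH) (Lpe (f649867 IH) (Lpr_dt (f506880 IH) (Lpn (LP (LK LD1_c6 LD2_c32 LD3_c25)))))))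
theorem f663843 : Led Lsl_at (LP (LK LD1_c12 LD2_c31 LD3_c4)) = (LP (LK LD1_c6 LD2_c32 LD3_c25)) :=
  Lgr Lrot100 (Lpr_af (f663841 IH) (Lpn (LP (LK LD1_c6 LD2_c32 LD3_c25))))
theorem f148404 : Led Lsl_dt (LP (LK LD1_c6 LD2_c31 LD3_c18)) = (LP (LK LD1_c12 LD2_c31 LD3_c4)) :=
  Lre_d IH (LK LD1_c6 LD2_c31 LD3_c18) (LK LD1_c12 LD2_c31 LD3_c4) Lrfl Lrfl
theorem f663834 : Led Lsl_ff (LP (LK LD1_c6 LD2_c32 LD3_c17)) = (LP (LK LD1_c12 LD2_c31 LD3_c4)) :=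
  Lgr Lrot19 (Lpr_dt (f506901 IH) (Lpr_ft (K58.f649866 IH) (Lpqs (K58.f663665 IH) (Lpr_dt (f148404 IH) (Lpn (LP (LK LD1_c12 LD2_c31 LD3_c4)))))))
theorem f663837 : Led Lsl_ft (LP (LK LD1_c6 LD2_c32 LD3_c17)) = (LP (LK LD1_c12 LD2_c31 LD3_c4)) :=
  Lgr Lrot48 (Lpr_ff (f663834 IH) (Lpn (LP (LK LD1_c12 LD2_c31 LD3_c4))))
theorem f663923 : Led Lsl_af (LP (LK LD1_c6 LD2_c32 LD3_c17)) = (LP (LK LD1_c12 LD2_c31 LD3_c3)) :=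
  Lgr Lrot45 (Lpr_ft (f663837 IH) (Lpr_at (f663843 IH) (Lpr_ft (f663921 IH) (Lpn (LP (LK LD1_c12 LD2_c31 LD3_c3))))))
theorem f663926 : Led Lsl_gt (LP (LK LD1_c6 LD2_c32 LD3_c25)) = (LP (LK LD1_c12 LD2_c32 LD3_c18)) :=
  Lgr Lrot5 (Lpr_ft (f663921 IH) (Lpe (f663923 IH) (Lpe (f649839 IH) (Lpn (LP (LK LD1_c12 LD2_c32 LD3_c18))))))
theorem f649864 : Led Lsl_et (LP (LK LD1_c3 LD2_c14 LD3_c21)) = (LP (LK LD1_c6 LD2_c32 LD3_c26)) :=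
  Lre_e IH (LK LD1_c3 LD2_c14 LD3_c21) (LK LD1_c6 LD2_c32 LD3_c26) Lrfl Lrfl
def v18723 : LQ := Led Lsl_gf (LP (LK LD1_c6 LD2_c32 LD3_c26))
theorem f768198 : Led Lsl_gf (LP (LK LD1_c6 LD2_c32 LD3_c26)) = v18723 :=
  Lrfl
theorem f147539 : Led Lsl_et (LP (LK LD1_c6 LD2_c31 LD3_c28)) = (LP (LK LD1_c12 LD2_c31 LD3_c14)) :=
  Lre_e IH (LK LD1_c6 LD2_c31 LD3_c28) (LK LD1_c12 LD2_c31 LD3_c14) Lrfl Lrfl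
theorem f782025 : v18723 = (LP (LK LD1_c12 LD2_c31 LD3_c14)) :=
  (Llr Lrot141 (Lpe (f768198 IH) (Lpe (f649864 IH) (Lpr_dt (f506880 IH) (Lpr_gt (f663926 IH) (Lpr_df (f779764 IH) (Lpr_et (f782007 IH) (Lpe (f781941 IH) (Lpr_dt (f781945 IH) (Lpr_gt (f782024 IH) (Lpe (f767775 IH) (Lpr_et (f147539 IH) (Lpn (LP (LK LD1_c12 LD2_c31 LD3_c14))))))))))))))).symm
theorem f782026 : Led Lsl_gt (LP (LK LD1_c12 LD2_c31 LD3_c14)) = (LP (LK LD1_c6 LD2_c32 LD3_c26)) :=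
  Leop (Lpr_gf (f768198 IH) (Lpqs (f782025 IH) (Lpn (LP (LK LD1_c12 LD2_c31 LD3_c14)))))
theorem seed_1476 : LEOK LG_g (LK LD1_c12 LD2_c31 LD3_c14) :=
  Leoe_g (LK LD1_c12 LD2_c31 LD3_c14) (f782026 IH)
def v19773 : LQ := Led Lsl_et (LP (LK LD1_c6 LD2_c46 LD3_c26))
theorem f782050 : Led Lsl_et (LP (LK LD1_c6 LD2_c46 LD3_c26)) = v19773 :=
  Lrfl
theorem f782052 : Led Lsl_ef (LP (LK LD1_c6 LD2_c46 LD3_c26)) = v19773 :=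
  Lgr Lrot88 (Lpr_et (f782050 IH) (Lpn v19773))
theorem f413869 : Led Lsl_at (LP (LK LD1_c6 LD2_c46 LD3_c27)) = (LP (LK LD1_c3 LD2_c21 LD3_c23)) :=
  Lre_a IH (LK LD1_c6 LD2_c46 LD3_c27) (LK LD1_c3 LD2_c21 LD3_c23) Lrfl Lrfl
theorem f413870 : Led Lsl_ff (LP (LK LD1_c6 LD2_c46 LD3_c27)) = (LP (LK LD1_c3 LD2_c24 LD3_c3)) :=
  Lgr Lrot30 (Lpr_at (f413869 IH) (Lpr_ft (K17.f413864 IH) (Lpr_at (K17.f413863 IH) (Lpn (LP (LK LD1_c3 LD2_c24 LD3_c3))))))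
theorem f413578 : Led Lsl_gt (LP (LK LD1_c6 LD2_c46 LD3_c26)) = (LP (LK LD1_c3 LD2_c21 LD3_c23)) :=
  Lre_g IH (LK LD1_c6 LD2_c46 LD3_c26) (LK LD1_c3 LD2_c21 LD3_c23) Lrfl Lrfl
theorem f415173 : Led Lsl_gf (LP (LK LD1_c6 LD2_c46 LD3_c26)) = (LP (LK LD1_c3 LD2_c24 LD3_c3)) :=
  Lgr Lrot47 (Lpr_gt (f413578 IH) (Lpe (f413869 IH) (Lpr_ff (f413870 IH) (Lpn (LP (LK LD1_c3 LD2_c24 LD3_c3))))))
theorem f73871 : Led Lsl_dt (LP (LK LD1_c2 LD2_c52 LD3_c7)) = (LP (LK LD1_c5 LD2_c51 LD3_c47)) :=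
  Lre_d IH (LK LD1_c2 LD2_c52 LD3_c7) (LK LD1_c5 LD2_c51 LD3_c47) Lrfl Lrfl
theorem f782053 : Led Lsl_df (LP (LK LD1_c11 LD2_c30 LD3_c51)) = v19773 :=
  Lgr Lrot170 (Lpr_gt (K54.f73859 IH) (Lpe (f73871 IH) (Lpr_et (K2.f73803 IH) (Lpr_gt (K7.f149347 IH) (Lpr_dt (K6.f37819 IH) (Lpr_gt (K7.f101688 IH) (Lpe (K7.f99547 IH) (Lpr_et (K7.f40331 IH) (Lpe (f415173 IH) (Lpr_ef (f782052 IH) (Lpn v19773)))))))))))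
theorem f714970 : Led Lsl_et (LP (LK LD1_c11 LD2_c30 LD3_c51)) = (LP (LK LD1_c20 LD2_c27 LD3_c53)) :=
  Lre_e IH (LK LD1_c11 LD2_c30 LD3_c51) (LK LD1_c20 LD2_c27 LD3_c53) Lrfl Lrfl
theorem f415176 : Led Lsl_dt (LP (LK LD1_c12 LD2_c56 LD3_c23)) = (LP (LK LD1_c6 LD2_c46 LD3_c26)) :=
  Lre_d IH (LK LD1_c12 LD2_c56 LD3_c23) (LK LD1_c6 LD2_c46 LD3_c26) Lrfl Lrfl
theorem f782051 : Led Lsl_et (LP (LK LD1_c22 LD2_c6 LD3_c9)) = (LP (LK LD1_c12 LD2_c56 LD3_c23)) :=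
  Lre_e IH (LK LD1_c22 LD2_c6 LD3_c9) (LK LD1_c12 LD2_c56 LD3_c23) Lrfl Lrfl
theorem f782056 : Led Lsl_dt (LP (LK LD1_c20 LD2_c27 LD3_c53)) = (LP (LK LD1_c22 LD2_c6 LD3_c9)) :=
  Lgr Lrot77 (Lpe (f714970 IH) (Lpr_df (f782053 IH) (Lpe (f782050 IH) (Lpe (f415176 IH) (Lpe (f782051 IH) (Lpn (LP (LK LD1_c22 LD2_c6 LD3_c9))))))))
theorem f782057 : Led Lsl_dt (LP (LK LD1_c20 LD2_c27 LD3_c53)) = (LP (LK LD1_c22 LD2_c6 LD3_c9)) :=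
  Leop (Lpe (f782056 IH) (Lpn (LP (LK LD1_c20 LD2_c27 LD3_c53))))
theorem seed_1477 : LEOK LG_d (LK LD1_c20 LD2_c27 LD3_c53) :=
  Leoe_d (LK LD1_c20 LD2_c27 LD3_c53) (f782057 IH)
theorem f782055 : Led Lsl_dt (LP (LK LD1_c11 LD2_c30 LD3_c51)) = v19773 :=
  Lgr Lrot42 (Lpr_df (f782053 IH) (Lpn v19773))
theorem f714962 : Led Lsl_gt (LP (LK LD1_c20 LD2_c27 LD3_c52)) = (LP (LK LD1_c20 LD2_c0 LD3_c37)) :=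
  Lgr Lrot46 (Lpr_gf (K54.f714960 IH) (Lpr_ft (K43.f557224 IH) (Lpr_at (K52.f589406 IH) (Lpn (LP (LK LD1_c20 LD2_c0 LD3_c37))))))
theorem f56792 : Led Lsl_gt (LP (LK LD1_c5 LD2_c48 LD3_c15)) = (LP (LK LD1_c11 LD2_c26 LD3_c1)) :=
  Lre_g IH (LK LD1_c5 LD2_c48 LD3_c15) (LK LD1_c11 LD2_c26 LD3_c1) Lrfl Lrfl
theorem f438260 : Led Lsl_et (LP (LK LD1_c20 LD2_c23 LD3_c34)) = (LP (LK LD1_c11 LD2_c26 LD3_c1)) :=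
  Lre_e IH (LK LD1_c20 LD2_c23 LD3_c34) (LK LD1_c11 LD2_c26 LD3_c1) Lrfl Lrfl
theorem f715007 : Led Lsl_df (LP (LK LD1_c20 LD2_c27 LD3_c52)) = (LP (LK LD1_c20 LD2_c23 LD3_c34)) :=
  Lgr Lrot170 (Lpr_gt (f714962 IH) (Lpr_df (K51.f589255 IH) (Lpr_et (K8.f117535 IH) (Lpr_gt (K7.f117538 IH) (Lpr_dt (K6.f24077 IH) (Lpr_gt (K6.f24076 IH) (Lpe (K7.f136249 IH) (Lpr_et (K55.f56801 IH) (Lpr_gt (f56792 IH) (Lpe (f438260 IH) (Lpn (LP (LK LD1_c20 LD2_c23 LD3_c34)))))))))))))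
theorem f782060 : Led Lsl_bf (LP (LK LD1_c20 LD2_c23 LD3_c34)) = v19773 :=
  Lgr Lrot93 (Lpe (f715007 IH) (Lpr_bt (K54.f141028 IH) (Lpr_dt (f782055 IH) (Lpn v19773))))
def v19771 : LQ := Led Lsl_bt (LP (LK LD1_c6 LD2_c46 LD3_c26))
theorem f782044 : Led Lsl_bt (LP (LK LD1_c6 LD2_c46 LD3_c26)) = v19771 :=
  Lrfl
theorem f782045 : Led Lsl_bf (LP (LK LD1_c6 LD2_c46 LD3_c26)) = v19771 :=
  Lgr Lrot24 (Lpr_bt (f782044 IH) (Lpn v19771))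
theorem f782061 : (LP (LK LD1_c11 LD2_c26 LD3_c1)) = v19771 :=
  (Llr Lrot74 (Lpe (f438260 IH) (Lpr_bf (f782060 IH) (Lpe (f782050 IH) (Lpr_bf (f782045 IH) (Lpn v19771)))))).symm
theorem f782062 : Led Lsl_bt (LP (LK LD1_c11 LD2_c26 LD3_c1)) = (LP (LK LD1_c6 LD2_c46 LD3_c26)) :=
  Leop (Lpr_bf (f782045 IH) (Lpq (f782061 IH) (Lpn (LP (LK LD1_c11 LD2_c26 LD3_c1)))))
theorem seed_1478 : LEOK LG_b (LK LD1_c11 LD2_c26 LD3_c1) :=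
  Leoe_b (LK LD1_c11 LD2_c26 LD3_c1) (f782062 IH)
def v19774 : LQ := Led Lsl_dt (LP (LK LD1_c6 LD2_c46 LD3_c27))
theorem f782074 : Led Lsl_dt (LP (LK LD1_c6 LD2_c46 LD3_c27)) = v19774 :=
  Lrfl
theorem f100470 : Led Lsl_dt (LP (LK LD1_c6 LD2_c51 LD3_c5)) = (LP (LK LD1_c3 LD2_c24 LD3_c3)) :=
  Lre_d IH (LK LD1_c6 LD2_c51 LD3_c5) (LK LD1_c3 LD2_c24 LD3_c3) Lrfl Lrfl
theorem f782078 : Led Lsl_ff (LP (LK LD1_c6 LD2_c51 LD3_c5)) = v19774 :=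
  Lgr Lrot19 (Lpr_dt (f100470 IH) (Lpe (f413870 IH) (Lpr_dt (f782074 IH) (Lpn v19774))))
theorem f782081 : Led Lsl_ft (LP (LK LD1_c6 LD2_c51 LD3_c5)) = v19774 :=
  Lgr Lrot48 (Lpr_ff (f782078 IH) (Lpn v19774))
theorem f782075 : Led Lsl_af (LP (LK LD1_c6 LD2_c46 LD3_c29)) = v19774 :=
  Lgr Lrot117 (Lpr_dt (K24.f413876 IH) (Lpr_at (K17.f413883 IH) (Lpr_dt (f782074 IH) (Lpn v19774))))
theorem f413914 : Led Lsl_gt (LP (LK LD1_c12 LD2_c56 LD3_c26)) = (LP (LK LD1_c6 LD2_c46 LD3_c29)) :=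
  Lre_g IH (LK LD1_c12 LD2_c56 LD3_c26) (LK LD1_c6 LD2_c46 LD3_c29) Lrfl Lrfl
theorem f782086 : Led Lsl_gt (LP (LK LD1_c6 LD2_c51 LD3_c5)) = (LP (LK LD1_c12 LD2_c56 LD3_c26)) :=
  Lgr Lrot5 (Lpr_ft (f782081 IH) (Lpe (f782075 IH) (Lpe (f413914 IH) (Lpn (LP (LK LD1_c12 LD2_c56 LD3_c26))))))
theorem f782087 : Led Lsl_gt (LP (LK LD1_c6 LD2_c51 LD3_c5)) = (LP (LK LD1_c12 LD2_c56 LD3_c26)) :=
  Leop (Lpe (f782086 IH) (Lpn (LP (LK LD1_c6 LD2_c51 LD3_c5))))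
theorem seed_1479 : LEOK LG_g (LK LD1_c6 LD2_c51 LD3_c5) :=
  Leoe_g (LK LD1_c6 LD2_c51 LD3_c5) (f782087 IH)
def v19776 : LQ := Led Lsl_gt (LP (LK LD1_c6 LD2_c46 LD3_c29))
theorem f782095 : Led Lsl_gt (LP (LK LD1_c6 LD2_c46 LD3_c29)) = v19776 :=
  Lrfl
theorem f413882 : Led Lsl_dt (LP (LK LD1_c3 LD2_c21 LD3_c23)) = (LP (LK LD1_c6 LD2_c46 LD3_c29)) :=
  Lre_d IH (LK LD1_c3 LD2_c21 LD3_c23) (LK LD1_c6 LD2_c46 LD3_c29) Lrfl Lrfl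
theorem f413893 : Led Lsl_ft (LP (LK LD1_c6 LD2_c46 LD3_c29)) = (LP (LK LD1_c3 LD2_c24 LD3_c6)) :=
  Lgr Lrot54 (Lpe (f413882 IH) (Lpr_ff (K17.f413880 IH) (Lpe (K55.f101585 IH) (Lpn (LP (LK LD1_c3 LD2_c24 LD3_c6))))))
theorem f100457 : Led Lsl_at (LP (LK LD1_c3 LD2_c24 LD3_c6)) = (LP (LK LD1_c6 LD2_c51 LD3_c5)) :=
  Lre_a IH (LK LD1_c3 LD2_c24 LD3_c6) (LK LD1_c6 LD2_c51 LD3_c5) Lrfl Lrfl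
theorem f782096 : Led Lsl_gf (LP (LK LD1_c6 LD2_c51 LD3_c5)) = v19776 :=
  Lgr Lrot76 (Lpe (f100457 IH) (Lpe (f413893 IH) (Lpr_gt (f782095 IH) (Lpn v19776))))
theorem f40678 : Led Lsl_et (LP (LK LD1_c3 LD2_c24 LD3_c3)) = (LP (LK LD1_c1 LD2_c38 LD3_c19)) :=
  Lre_e IH (LK LD1_c3 LD2_c24 LD3_c3) (LK LD1_c1 LD2_c38 LD3_c19) Lrfl Lrfl
theorem f40690 : Led Lsl_et (LP (LK LD1_c3 LD2_c59 LD3_c46)) = (LP (LK LD1_c1 LD2_c56 LD3_c32)) :=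
  Lre_e IH (LK LD1_c3 LD2_c59 LD3_c46) (LK LD1_c1 LD2_c56 LD3_c32) Lrfl Lrfl
theorem f139899 : Led Lsl_ct (LP (LK LD1_c2 LD2_c51 LD3_c22)) = (LP (LK LD1_c5 LD2_c50 LD3_c21)) :=
  Lre_c IH (LK LD1_c2 LD2_c51 LD3_c22) (LK LD1_c5 LD2_c50 LD3_c21) Lrfl Lrfl
theorem f615336 : Led Lsl_gt (LP (LK LD1_c5 LD2_c50 LD3_c21)) = (LP (LK LD1_c6 LD2_c2 LD3_c48)) :=
  Lgr Lrot149 (Lpe (f139899 IH) (Lpe (K35.f139897 IH) (Lpe (K45.f139894 IH) (Lpe (K9.f139805 IH) (Lpe (K29.f24630 IH) (Lpr_cf (K32.f444001 IH) (Lpr_bt (K42.f444000 IH) (Lpqs (K42.f615000 IH) (Lpe (K42.f509241 IH) (Lpr_bf (K50.f538054 IH) (Lpr_ct (K35.f204252 IH) (Lpn (LP (LK LD1_c6 LD2_c2 LD3_c48))))))))))))))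
theorem f537649 : Led Lsl_bt (LP (LK LD1_c2 LD2_c51 LD3_c22)) = (LP (LK LD1_c5 LD2_c50 LD3_c20)) :=
  Lre_b IH (LK LD1_c2 LD2_c51 LD3_c22) (LK LD1_c5 LD2_c50 LD3_c20) Lrfl Lrfl
theorem f570811 : Led Lsl_bf (LP (LK LD1_c8 LD2_c0 LD3_c36)) = (LP (LK LD1_c6 LD2_c38 LD3_c55)) :=
  Lgr Lrot81 (Lpr_at (K49.f570809 IH) (Lpr_bt (K49.f499393 IH) (Lpe (K42.f499389 IH) (Lpe (K42.f26393 IH) (Lpr_at (K42.f499236 IH) (Lpn (LP (LK LD1_c6 LD2_c38 LD3_c55))))))))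
theorem f615346 : Led Lsl_gf (LP (LK LD1_c5 LD2_c50 LD3_c20)) = (LP (LK LD1_c8 LD2_c0 LD3_c36)) :=
  Lgr Lrot124 (Lpe (f537649 IH) (Lpr_ct (f139899 IH) (Lpr_gt (f615336 IH) (Lpe (K35.f204252 IH) (Lpe (K50.f538054 IH) (Lpr_gt (K42.f509241 IH) (Lpq (K42.f615000 IH) (Lpr_ct (K42.f435532 IH) (Lpr_gt (K42.f615069 IH) (Lpe (K42.f103916 IH) (Lpe (f570811 IH) (Lpn (LP (LK LD1_c8 LD2_c0 LD3_c36))))))))))))))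
theorem f157816 : Led Lsl_et (LP (LK LD1_c11 LD2_c25 LD3_c2)) = (LP (LK LD1_c5 LD2_c47 LD3_c34)) :=
  Lre_e IH (LK LD1_c11 LD2_c25 LD3_c2) (LK LD1_c5 LD2_c47 LD3_c34) Lrfl Lrfl
theorem f782097 : Led Lsl_dt (LP (LK LD1_c11 LD2_c25 LD3_c2)) = v19776 :=
  Lgr Lrot136 (Lpr_et (f157816 IH) (Lpe (K55.f73268 IH) (Lpe (K2.f73257 IH) (Lpr_dt (K6.f59475 IH) (Lpe (K8.f73285 IH) (Lpe (K8.f157800 IH) (Lpr_gf (K8.f40679 IH) (Lpe (f40678 IH) (Lpr_dt (K7.f40689 IH) (Lpr_gf (f782096 IH) (Lpn v19776)))))))))))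
theorem f782098 : Led Lsl_gt (LP (LK LD1_c11 LD2_c31 LD3_c3)) = (LP (LK LD1_c11 LD2_c25 LD3_c2)) :=
  Lgr Lrot137 (Lpr_ef (K49.f622964 IH) (Lpr_dt (K52.f615350 IH) (Lpr_gf (f615346 IH) (Lpe (K49.f40691 IH) (Lpr_et (f40690 IH) (Lpr_gf (K8.f40679 IH) (Lpe (f40678 IH) (Lpr_dt (K7.f40689 IH) (Lpr_gf (f782096 IH) (Lpe (f782097 IH) (Lpn (LP (LK LD1_c11 LD2_c25 LD3_c2)))))))))))))
theorem f782099 : Led Lsl_gt (LP (LK LD1_c11 LD2_c31 LD3_c3)) = (LP (LK LD1_c11 LD2_c25 LD3_c2)) :=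
  Leop (Lpe (f782098 IH) (Lpn (LP (LK LD1_c11 LD2_c31 LD3_c3))))
theorem seed_1480 : LEOK LG_g (LK LD1_c11 LD2_c31 LD3_c3) :=
  Leoe_g (LK LD1_c11 LD2_c31 LD3_c3) (f782099 IH)
def v19795 : LQ := Led Lsl_et (LP (LK LD1_c6 LD2_c46 LD3_c42))
theorem f782166 : Led Lsl_et (LP (LK LD1_c6 LD2_c46 LD3_c42)) = v19795 :=
  Lrfl
theorem f782168 : Led Lsl_ef (LP (LK LD1_c6 LD2_c46 LD3_c42)) = v19795 :=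
  Lgr Lrot88 (Lpr_et (f782166 IH) (Lpn v19795))
theorem f416395 : Led Lsl_dt (LP (LK LD1_c6 LD2_c46 LD3_c42)) = (LP (LK LD1_c11 LD2_c59 LD3_c26)) :=
  Lgr Lrot42 (Lpr_df (K57.f416391 IH) (Lpn (LP (LK LD1_c11 LD2_c59 LD3_c26))))
theorem f782169 : Led Lsl_dt (LP (LK LD1_c9 LD2_c1 LD3_c37)) = v19795 :=
  Lgr Lrot77 (Lpe (K57.f613418 IH) (Lpe (K57.f380651 IH) (Lpe (K57.f613419 IH) (Lpe (f416395 IH) (Lpr_ef (f782168 IH) (Lpn v19795))))))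
theorem f168839 : Led Lsl_et (LP (LK LD1_c9 LD2_c1 LD3_c37)) = (LP (LK LD1_c4 LD2_c31 LD3_c52)) :=
  Lre_e IH (LK LD1_c9 LD2_c1 LD3_c37) (LK LD1_c4 LD2_c31 LD3_c52) Lrfl Lrfl
theorem f168837 : Led Lsl_et (LP (LK LD1_c1 LD2_c3 LD3_c30)) = (LP (LK LD1_c2 LD2_c12 LD3_c57)) :=
  Lre_e IH (LK LD1_c1 LD2_c3 LD3_c30) (LK LD1_c2 LD2_c12 LD3_c57) Lrfl Lrfl
theorem f100936 : Led Lsl_dt (LP (LK LD1_c7 LD2_c59 LD3_c51)) = (LP (LK LD1_c15 LD2_c4 LD3_c36)) :=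
  Lre_d IH (LK LD1_c7 LD2_c59 LD3_c51) (LK LD1_c15 LD2_c4 LD3_c36) Lrfl Lrfl
theorem f782170 : Led Lsl_gt (LP (LK LD1_c15 LD2_c4 LD3_c36)) = v19795 :=
  Lgr Lrot139 (Lpe (f100936 IH) (Lpe (K57.f100935 IH) (Lpe (K1.f40855 IH) (Lpr_dt (K1.f40841 IH) (Lpr_gf (K9.f168826 IH) (Lpe (K15.f164713 IH) (Lpr_et (f168837 IH) (Lpe (K57.f168838 IH) (Lpe (f168839 IH) (Lpr_dt (f782169 IH) (Lpn v19795)))))))))))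
theorem f168847 : Led Lsl_et (LP (LK LD1_c5 LD2_c8 LD3_c9)) = (LP (LK LD1_c10 LD2_c6 LD3_c52)) :=
  Lre_e IH (LK LD1_c5 LD2_c8 LD3_c9) (LK LD1_c10 LD2_c6 LD3_c52) Lrfl Lrfl
theorem f168844 : Led Lsl_et (LP (LK LD1_c7 LD2_c59 LD3_c51)) = (LP (LK LD1_c10 LD2_c6 LD3_c51)) :=
  Lgr Lrot87 (Lpr_ef (K57.f168840 IH) (Lpn (LP (LK LD1_c10 LD2_c6 LD3_c51))))
theorem f100937 : Led Lsl_dt (LP (LK LD1_c15 LD2_c4 LD3_c36)) = (LP (LK LD1_c7 LD2_c59 LD3_c51)) :=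
  Lre_d IH (LK LD1_c15 LD2_c4 LD3_c36) (LK LD1_c7 LD2_c59 LD3_c51) Lrfl Lrfl
theorem f414173 : Led Lsl_et (LP (LK LD1_c12 LD2_c56 LD3_c35)) = (LP (LK LD1_c15 LD2_c4 LD3_c36)) :=
  Lgr Lrot71 (Lpr_df (K55.f414169 IH) (Lpe (f168847 IH) (Lpe (K57.f165090 IH) (Lpe (f168844 IH) (Lpe (f100937 IH) (Lpn (LP (LK LD1_c15 LD2_c4 LD3_c36))))))))
theorem f613548 : Led Lsl_at (LP (LK LD1_c11 LD2_c59 LD3_c28)) = (LP (LK LD1_c9 LD2_c0 LD3_c21)) :=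
  Lgr Lrot66 (Lpe (K56.f176744 IH) (Lpr_af (K56.f613544 IH) (Lpe (K56.f354413 IH) (Lpn (LP (LK LD1_c9 LD2_c0 LD3_c21))))))
theorem f613554 : Led Lsl_gt (LP (LK LD1_c11 LD2_c59 LD3_c26)) = (LP (LK LD1_c9 LD2_c0 LD3_c21)) :=
  Lgr Lrot46 (Lpe (K57.f176746 IH) (Lpr_ft (K56.f176744 IH) (Lpr_at (f613548 IH) (Lpn (LP (LK LD1_c9 LD2_c0 LD3_c21))))))
def v16677 : LQ := Led Lsl_ft (LP (LK LD1_c6 LD2_c4 LD3_c13))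
theorem f751028 : Led Lsl_ft (LP (LK LD1_c6 LD2_c4 LD3_c13)) = v16677 :=
  Lrfl
theorem f751032 : Led Lsl_df (LP (LK LD1_c9 LD2_c0 LD3_c21)) = v16677 :=
  Lgr Lrot78 (Lpr_ft (K56.f354413 IH) (Lpe (K56.f613558 IH) (Lpr_ft (f751028 IH) (Lpn v16677))))
theorem f186155 : Led Lsl_et (LP (LK LD1_c6 LD2_c4 LD3_c13)) = (LP (LK LD1_c2 LD2_c58 LD3_c14)) :=
  Lre_e IH (LK LD1_c6 LD2_c4 LD3_c13) (LK LD1_c2 LD2_c58 LD3_c14) Lrfl Lrfl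
theorem f334704 : Led Lsl_af (LP (LK LD1_c2 LD2_c27 LD3_c57)) = (LP (LK LD1_c2 LD2_c58 LD3_c14)) :=
  Lgr Lrot50 (Lpr_et (K56.f176521 IH) (Lpr_at (K56.f334702 IH) (Lpr_et (f186155 IH) (Lpn (LP (LK LD1_c2 LD2_c58 LD3_c14))))))
theorem f334706 : Led Lsl_ft (LP (LK LD1_c2 LD2_c27 LD3_c56)) = (LP (LK LD1_c2 LD2_c58 LD3_c14)) :=
  Lgr Lrot2 (Lpr_gt (K10.f101573 IH) (Lpe (K9.f101577 IH) (Lpr_af (f334704 IH) (Lpn (LP (LK LD1_c2 LD2_c58 LD3_c14))))))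
theorem f751033 : Led Lsl_ef (LP (LK LD1_c9 LD2_c51 LD3_c10)) = v16677 :=
  Lgr Lrot21 (Lpr_ft (K36.f176540 IH) (Lpr_et (K17.f101575 IH) (Lpr_ft (f334706 IH) (Lpr_et (K56.f176870 IH) (Lpr_ft (f751028 IH) (Lpn v16677))))))
theorem f334850 : Led Lsl_dt (LP (LK LD1_c11 LD2_c51 LD3_c57)) = (LP (LK LD1_c10 LD2_c19 LD3_c7)) :=
  Lgr Lrot42 (Lpr_df (K49.f334847 IH) (Lpn (LP (LK LD1_c10 LD2_c19 LD3_c7))))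
theorem f782171 : Led Lsl_gf (LP (LK LD1_c10 LD2_c6 LD3_c52)) = (LP (LK LD1_c10 LD2_c19 LD3_c7)) :=
  Lgr Lrot134 (Lpe (K55.f414171 IH) (Lpr_et (f414173 IH) (Lpr_gt (f782170 IH) (Lpe (f782166 IH) (Lpr_dt (f416395 IH) (Lpr_gt (f613554 IH) (Lpr_df (f751032 IH) (Lpe (f751033 IH) (Lpr_gt (K49.f334825 IH) (Lpr_dt (f334850 IH) (Lpn (LP (LK LD1_c10 LD2_c19 LD3_c7)))))))))))))
theorem f782172 : Led Lsl_gt (LP (LK LD1_c10 LD2_c19 LD3_c7)) = (LP (LK LD1_c10 LD2_c6 LD3_c52)) :=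
  Leop (Lpr_gf (f782171 IH) (Lpn (LP (LK LD1_c10 LD2_c19 LD3_c7))))
theorem seed_1481 : LEOK LG_g (LK LD1_c10 LD2_c19 LD3_c7) :=
  Leoe_g (LK LD1_c10 LD2_c19 LD3_c7) (f782172 IH)
def v19801 : LQ := Led Lsl_dt (LP (LK LD1_c6 LD2_c46 LD3_c47))
theorem f782209 : Led Lsl_dt (LP (LK LD1_c6 LD2_c46 LD3_c47)) = v19801 :=
  Lrfl
theorem f669239 : Led Lsl_dt (LP (LK LD1_c11 LD2_c44 LD3_c28)) = (LP (LK LD1_c5 LD2_c59 LD3_c60)) :=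
  Lre_d IH (LK LD1_c11 LD2_c44 LD3_c28) (LK LD1_c5 LD2_c59 LD3_c60) Lrfl Lrfl
theorem f782212 : Led Lsl_ff (LP (LK LD1_c11 LD2_c44 LD3_c28)) = v19801 :=
  Lgr Lrot19 (Lpr_dt (f669239 IH) (Lpq (K53.f669234 IH) (Lpe (K53.f645222 IH) (Lpr_dt (f782209 IH) (Lpn v19801)))))
theorem f645220 : Led Lsl_bf (LP (LK LD1_c2 LD2_c57 LD3_c9)) = K53.v5080 :=
  Lgr Lrot24 (Lpr_bt (K53.f645219 IH) (Lpn K53.v5080))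
theorem f669258 : Led Lsl_bf (LP (LK LD1_c11 LD2_c44 LD3_c28)) = (LP (LK LD1_c6 LD2_c2 LD3_c7)) :=
  Lgr Lrot93 (Lpr_dt (f669239 IH) (Lpq (K53.f669234 IH) (Lpe (f645220 IH) (Lpr_dt (K16.f59825 IH) (Lpn (LP (LK LD1_c6 LD2_c2 LD3_c7)))))))
theorem f669260 : Led Lsl_bt (LP (LK LD1_c11 LD2_c44 LD3_c28)) = (LP (LK LD1_c6 LD2_c2 LD3_c7)) :=
  Lgr Lrot127 (Lpr_bf (f669258 IH) (Lpn (LP (LK LD1_c6 LD2_c2 LD3_c7))))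
theorem f782215 : Led Lsl_bt (LP (LK LD1_c6 LD2_c46 LD3_c48)) = v19801 :=
  Lgr Lrot35 (Lpe (K32.f508061 IH) (Lpe (f669260 IH) (Lpr_ff (f782212 IH) (Lpn v19801))))
theorem f416368 : Led Lsl_bt (LP (LK LD1_c12 LD2_c25 LD3_c43)) = (LP (LK LD1_c6 LD2_c26 LD3_c61)) :=
  Lre_b IH (LK LD1_c12 LD2_c25 LD3_c43) (LK LD1_c6 LD2_c26 LD3_c61) Lrfl Lrfl
theorem f416370 : Led Lsl_ct (LP (LK LD1_c12 LD2_c25 LD3_c43)) = (LP (LK LD1_c21 LD2_c32 LD3_c45)) :=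
  Lre_c IH (LK LD1_c12 LD2_c25 LD3_c43) (LK LD1_c21 LD2_c32 LD3_c45) Lrfl Lrfl
theorem f74618 : Led Lsl_et (LP (LK LD1_c4 LD2_c40 LD3_c51)) = (LP (LK LD1_c9 LD2_c17 LD3_c10)) :=
  Lre_e IH (LK LD1_c4 LD2_c40 LD3_c51) (LK LD1_c9 LD2_c17 LD3_c10) Lrfl Lrfl
def v13165 : LQ := Led Lsl_dt (LP (LK LD1_c4 LD2_c40 LD3_c51))
theorem f701486 : Led Lsl_dt (LP (LK LD1_c4 LD2_c40 LD3_c51)) = v13165 :=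
  Lrfl
theorem f782214 : Led Lsl_gf v13165 = v19801 :=
  Lgr Lrot134 (Lpe (f701486 IH) (Lpr_et (f74618 IH) (Lpe (K53.f644913 IH) (Lpe (K41.f564012 IH) (Lpr_dt (K55.f564000 IH) (Lpr_gt (K55.f749055 IH) (Lpe (K55.f749064 IH) (Lpe (K56.f740495 IH) (Lpr_gt (K55.f414539 IH) (Lpr_dt (f782209 IH) (Lpn v19801)))))))))))
theorem f701487 : Led Lsl_df (LP (LK LD1_c4 LD2_c40 LD3_c51)) = v13165 :=
  Lgr Lrot38 (Lpr_dt (f701486 IH) (Lpn v13165))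
theorem f740084 : Led Lsl_ff v13165 = (LP (LK LD1_c11 LD2_c19 LD3_c59)) :=
  Lgr Lrot19 (Lpe (f701487 IH) (Lpr_ft (K55.f701489 IH) (Lpqs (K55.f740079 IH) (Lpr_dt (K55.f714079 IH) (Lpn (LP (LK LD1_c11 LD2_c19 LD3_c59)))))))
theorem f740086 : Led Lsl_ft v13165 = (LP (LK LD1_c11 LD2_c19 LD3_c59)) :=
  Lgr Lrot48 (Lpr_ff (f740084 IH) (Lpn (LP (LK LD1_c11 LD2_c19 LD3_c59))))
theorem f740087 : Led Lsl_bf v13165 = (LP (LK LD1_c11 LD2_c20 LD3_c7)) :=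
  Lgr Lrot61 (Lpr_ft (f740086 IH) (Lpr_bt (K55.f714083 IH) (Lpr_ft (K56.f639008 IH) (Lpn (LP (LK LD1_c11 LD2_c20 LD3_c7))))))
theorem f740089 : Led Lsl_ct (LP (LK LD1_c11 LD2_c20 LD3_c7)) = (LP (LK LD1_c20 LD2_c17 LD3_c14)) :=
  Lre_c IH (LK LD1_c11 LD2_c20 LD3_c7) (LK LD1_c20 LD2_c17 LD3_c14) Lrfl Lrfl
theorem f782217 : Led Lsl_gf (LP (LK LD1_c21 LD2_c32 LD3_c45)) = (LP (LK LD1_c20 LD2_c17 LD3_c14)) :=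
  Lgr Lrot126 (Lpe (f416370 IH) (Lpr_bt (f416368 IH) (Lpr_gt (K24.f416364 IH) (Lpr_ct (K24.f414343 IH) (Lpr_gt (K24.f416728 IH) (Lpr_cf (K24.f416741 IH) (Lpr_bt (f782215 IH) (Lpe (f782214 IH) (Lpr_bf (f740087 IH) (Lpr_ct (f740089 IH) (Lpn (LP (LK LD1_c20 LD2_c17 LD3_c14)))))))))))))
theorem f782218 : Led Lsl_gt (LP (LK LD1_c20 LD2_c17 LD3_c14)) = (LP (LK LD1_c21 LD2_c32 LD3_c45)) :=
  Leop (Lpr_gf (f782217 IH) (Lpn (LP (LK LD1_c20 LD2_c17 LD3_c14))))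
theorem seed_1482 : LEOK LG_g (LK LD1_c20 LD2_c17 LD3_c14) :=
  Leoe_g (LK LD1_c20 LD2_c17 LD3_c14) (f782218 IH)
def v19809 : LQ := Led Lsl_gf (LP (LK LD1_c6 LD2_c46 LD3_c56))
theorem f782256 : Led Lsl_gf (LP (LK LD1_c6 LD2_c46 LD3_c56)) = v19809 :=
  Lrfl
theorem f495175 : Led Lsl_bt (LP (LK LD1_c3 LD2_c21 LD3_c39)) = (LP (LK LD1_c6 LD2_c46 LD3_c56)) :=
  Lre_b IH (LK LD1_c3 LD2_c21 LD3_c39) (LK LD1_c6 LD2_c46 LD3_c56) Lrfl Lrfl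
theorem f709894 : Led Lsl_cf (LP (LK LD1_c17 LD2_c32 LD3_c15)) = (LP (LK LD1_c14 LD2_c35 LD3_c29)) :=
  Lgr Lrot11 (Lpr_ct (K55.f709891 IH) (Lpn (LP (LK LD1_c14 LD2_c35 LD3_c29))))
theorem f709913 : Led Lsl_ct (LP (LK LD1_c9 LD2_c30 LD3_c51)) = (LP (LK LD1_c7 LD2_c44 LD3_c11)) :=
  Lgr Lrot15 (Lpe (K55.f709903 IH) (Lpr_cf (f709894 IH) (Lpe (K55.f709885 IH) (Lpn (LP (LK LD1_c7 LD2_c44 LD3_c11))))))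
theorem f65981 : Led Lsl_gt (LP (LK LD1_c7 LD2_c44 LD3_c9)) = (LP (LK LD1_c14 LD2_c35 LD3_c22)) :=
  Lre_g IH (LK LD1_c7 LD2_c44 LD3_c9) (LK LD1_c14 LD2_c35 LD3_c22) Lrfl Lrfl
theorem f712909 : Led Lsl_af (LP (LK LD1_c14 LD2_c35 LD3_c22)) = (LP (LK LD1_c7 LD2_c44 LD3_c10)) :=
  Lgr Lrot31 (Lpe (f65981 IH) (Lpr_gf (K57.f712905 IH) (Lpr_ft (K55.f709863 IH) (Lpn (LP (LK LD1_c7 LD2_c44 LD3_c10))))))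
theorem f709878 : Led Lsl_af (LP (LK LD1_c9 LD2_c30 LD3_c52)) = (LP (LK LD1_c7 LD2_c44 LD3_c11)) :=
  Lgr Lrot0 (Lpr_at (K55.f709876 IH) (Lpn (LP (LK LD1_c7 LD2_c44 LD3_c11))))
theorem f712946 : Led Lsl_ft (LP (LK LD1_c14 LD2_c35 LD3_c22)) = (LP (LK LD1_c7 LD2_c44 LD3_c11)) :=
  Lgr Lrot101 (Lpr_af (f712909 IH) (Lpe (K55.f709863 IH) (Lpr_af (f709878 IH) (Lpn (LP (LK LD1_c7 LD2_c44 LD3_c11))))))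
theorem f712950 : Led Lsl_ff (LP (LK LD1_c14 LD2_c35 LD3_c22)) = (LP (LK LD1_c7 LD2_c44 LD3_c11)) :=
  Lgr Lrot3 (Lpr_ft (f712946 IH) (Lpn (LP (LK LD1_c7 LD2_c44 LD3_c11))))
theorem f739117 : Led Lsl_cf (LP (LK LD1_c11 LD2_c29 LD3_c29)) = (LP (LK LD1_c14 LD2_c35 LD3_c22)) :=
  Lgr Lrot108 (Lpr_ft (K54.f739027 IH) (Lpr_ct (f709913 IH) (Lpe (f712950 IH) (Lpn (LP (LK LD1_c14 LD2_c35 LD3_c22))))))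
theorem f782258 : Led Lsl_bt (LP (LK LD1_c14 LD2_c35 LD3_c22)) = v19809 :=
  Lgr Lrot22 (Lpe (f739117 IH) (Lpe (K54.f159041 IH) (Lpe (K55.f438258 IH) (Lpqs (K54.f739284 IH) (Lpe (K54.f653397 IH) (Lpe (K32.f454340 IH) (Lpr_ct (K32.f454373 IH) (Lpe (K46.f141119 IH) (Lpe (K51.f495174 IH) (Lpr_bt (f495175 IH) (Lpr_gf (f782256 IH) (Lpn v19809))))))))))))
theorem f65769 : Led Lsl_bt (LP (LK LD1_c14 LD2_c35 LD3_c27)) = (LP (LK LD1_c7 LD2_c44 LD3_c11)) :=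
  Lre_b IH (LK LD1_c14 LD2_c35 LD3_c27) (LK LD1_c7 LD2_c44 LD3_c11) Lrfl Lrfl
theorem f782260 : Led Lsl_ff (LP (LK LD1_c14 LD2_c35 LD3_c27)) = v19809 :=
  Lgr Lrot25 (Lpr_bt (f65769 IH) (Lpe (f712950 IH) (Lpr_bt (f782258 IH) (Lpn v19809))))
def v19808 : LQ := Led Lsl_gt (LP (LK LD1_c6 LD2_c46 LD3_c56))
theorem f782254 : Led Lsl_gt (LP (LK LD1_c6 LD2_c46 LD3_c56)) = v19808 :=
  Lrfl
theorem f782262 : Led Lsl_at (LP (LK LD1_c14 LD2_c35 LD3_c27)) = v19808 :=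
  Lgr Lrot26 (Lpr_ff (f782260 IH) (Lpe (f782256 IH) (Lpr_gt (f782254 IH) (Lpn v19808))))
theorem f782263 : Led Lsl_af (LP (LK LD1_c14 LD2_c35 LD3_c27)) = v19808 :=
  Lgr Lrot0 (Lpr_at (f782262 IH) (Lpn v19808))
theorem f120398 : Led Lsl_bt (LP (LK LD1_c9 LD2_c20 LD3_c60)) = (LP (LK LD1_c4 LD2_c44 LD3_c4)) :=
  Lre_b IH (LK LD1_c9 LD2_c20 LD3_c60) (LK LD1_c4 LD2_c44 LD3_c4) Lrfl Lrfl
theorem f91776 : Led Lsl_bf (LP (LK LD1_c3 LD2_c44 LD3_c59)) = (LP (LK LD1_c3 LD2_c14 LD3_c38)) :=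
  Lgr Lrot24 (Lpr_bt (K3.f91774 IH) (Lpn (LP (LK LD1_c3 LD2_c14 LD3_c38))))
theorem f94709 : Led Lsl_bt (LP (LK LD1_c3 LD2_c27 LD3_c17)) = (LP (LK LD1_c6 LD2_c56 LD3_c30)) :=
  Lre_b IH (LK LD1_c3 LD2_c27 LD3_c17) (LK LD1_c6 LD2_c56 LD3_c30) Lrfl Lrfl
theorem f120399 : Led Lsl_af (LP (LK LD1_c9 LD2_c20 LD3_c60)) = (LP (LK LD1_c6 LD2_c56 LD3_c30)) :=
  Lgr Lrot36 (Lpr_bt (f120398 IH) (Lpr_at (K4.f120392 IH) (Lpe (f91776 IH) (Lpe (K3.f95440 IH) (Lpr_bt (f94709 IH) (Lpn (LP (LK LD1_c6 LD2_c56 LD3_c30))))))))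
theorem f95452 : Led Lsl_dt (LP (LK LD1_c14 LD2_c11 LD3_c12)) = (LP (LK LD1_c7 LD2_c30 LD3_c53)) :=
  Lre_d IH (LK LD1_c14 LD2_c11 LD3_c12) (LK LD1_c7 LD2_c30 LD3_c53) Lrfl Lrfl
theorem f649981 : Led Lsl_ff (LP (LK LD1_c3 LD2_c14 LD3_c38)) = K51.v5897 :=
  Lgr Lrot3 (Lpr_ft (K51.f649978 IH) (Lpn K51.v5897))
theorem f91846 : Led Lsl_ft (LP (LK LD1_c3 LD2_c44 LD3_c59)) = (LP (LK LD1_c7 LD2_c30 LD3_c53)) :=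
  Lre_f IH (LK LD1_c3 LD2_c44 LD3_c59) (LK LD1_c7 LD2_c30 LD3_c53) Lrfl Lrfl
theorem f649982 : Led Lsl_bt (LP (LK LD1_c7 LD2_c30 LD3_c53)) = K51.v5897 :=
  Lgr Lrot35 (Lpe (f91846 IH) (Lpr_bf (f91776 IH) (Lpr_ff (f649981 IH) (Lpn K51.v5897))))
theorem f708077 : K46.v6424 = K51.v5897 :=
  Lefun (Lecon (K46.f653348 IH) (K51.f708032 IH)) (K51.f649978 IH)
theorem f414473 : Led Lsl_dt (LP (LK LD1_c4 LD2_c49 LD3_c42)) = (LP (LK LD1_c9 LD2_c31 LD3_c61)) :=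
  Lre_d IH (LK LD1_c4 LD2_c49 LD3_c42) (LK LD1_c9 LD2_c31 LD3_c61) Lrfl Lrfl
theorem f715660 : Led Lsl_bf (LP (LK LD1_c14 LD2_c11 LD3_c12)) = (LP (LK LD1_c9 LD2_c31 LD3_c61)) :=
  Lgr Lrot93 (Lpr_dt (f95452 IH) (Lpr_bt (f649982 IH) (Lpq (f708077 IH) (Lpqs (K51.f678943 IH) (Lpr_dt (f414473 IH) (Lpn (LP (LK LD1_c9 LD2_c31 LD3_c61))))))))
theorem f715664 : Led Lsl_bt (LP (LK LD1_c14 LD2_c11 LD3_c12)) = (LP (LK LD1_c9 LD2_c31 LD3_c61)) :=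
  Lgr Lrot127 (Lpr_bf (f715660 IH) (Lpn (LP (LK LD1_c9 LD2_c31 LD3_c61))))
theorem f414471 : Led Lsl_dt (LP (LK LD1_c9 LD2_c31 LD3_c61)) = (LP (LK LD1_c4 LD2_c49 LD3_c42)) :=
  Lre_d IH (LK LD1_c9 LD2_c31 LD3_c61) (LK LD1_c4 LD2_c49 LD3_c42) Lrfl Lrfl
theorem f495172 : Led Lsl_dt (LP (LK LD1_c3 LD2_c21 LD3_c39)) = (LP (LK LD1_c6 LD2_c46 LD3_c57)) :=
  Lre_d IH (LK LD1_c3 LD2_c21 LD3_c39) (LK LD1_c6 LD2_c46 LD3_c57) Lrfl Lrfl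
theorem f678959 : Led Lsl_af (LP (LK LD1_c9 LD2_c31 LD3_c61)) = (LP (LK LD1_c6 LD2_c46 LD3_c57)) :=
  Lgr Lrot117 (Lpr_dt (f414471 IH) (Lpq (K51.f678943 IH) (Lpe (K46.f653344 IH) (Lpr_dt (f495172 IH) (Lpn (LP (LK LD1_c6 LD2_c46 LD3_c57)))))))
theorem f678961 : Led Lsl_at (LP (LK LD1_c9 LD2_c31 LD3_c61)) = (LP (LK LD1_c6 LD2_c46 LD3_c57)) :=
  Lgr Lrot100 (Lpr_af (f678959 IH) (Lpn (LP (LK LD1_c6 LD2_c46 LD3_c57))))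
theorem f678965 : Led Lsl_bt (LP (LK LD1_c6 LD2_c46 LD3_c57)) = (LP (LK LD1_c12 LD2_c56 LD3_c55)) :=
  Lre_b IH (LK LD1_c6 LD2_c46 LD3_c57) (LK LD1_c12 LD2_c56 LD3_c55) Lrfl Lrfl
theorem f678966 : Led Lsl_at (LP (LK LD1_c12 LD2_c56 LD3_c55)) = (LP (LK LD1_c22 LD2_c6 LD3_c31)) :=
  Lre_a IH (LK LD1_c12 LD2_c56 LD3_c55) (LK LD1_c22 LD2_c6 LD3_c31) Lrfl Lrfl
theorem f715666 : Led Lsl_bf (LP (LK LD1_c13 LD2_c10 LD3_c54)) = (LP (LK LD1_c22 LD2_c6 LD3_c31)) :=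
  Lgr Lrot81 (Lpr_at (K3.f95464 IH) (Lpr_bt (f715664 IH) (Lpr_at (f678961 IH) (Lpr_bt (f678965 IH) (Lpr_at (f678966 IH) (Lpn (LP (LK LD1_c22 LD2_c6 LD3_c31))))))))
theorem f94854 : Led Lsl_ft (LP (LK LD1_c13 LD2_c10 LD3_c54)) = (LP (LK LD1_c6 LD2_c56 LD3_c33)) :=
  Lre_f IH (LK LD1_c13 LD2_c10 LD3_c54) (LK LD1_c6 LD2_c56 LD3_c33) Lrfl Lrfl
theorem f94838 : Led Lsl_bt (LP (LK LD1_c6 LD2_c56 LD3_c33)) = (LP (LK LD1_c13 LD2_c10 LD3_c47)) :=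
  Lre_b IH (LK LD1_c6 LD2_c56 LD3_c33) (LK LD1_c13 LD2_c10 LD3_c47) Lrfl Lrfl
theorem f715672 : Led Lsl_ft (LP (LK LD1_c13 LD2_c10 LD3_c47)) = (LP (LK LD1_c22 LD2_c6 LD3_c31)) :=
  Lgr Lrot75 (Lpe (f94838 IH) (Lpe (f94854 IH) (Lpr_bf (f715666 IH) (Lpn (LP (LK LD1_c22 LD2_c6 LD3_c31))))))
theorem f715679 : Led Lsl_dt (LP (LK LD1_c22 LD2_c6 LD3_c31)) = (LP (LK LD1_c12 LD2_c56 LD3_c54)) :=
  Lre_d IH (LK LD1_c22 LD2_c6 LD3_c31) (LK LD1_c12 LD2_c56 LD3_c54) Lrfl Lrfl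
theorem f715680 : Led Lsl_ff (LP (LK LD1_c6 LD2_c56 LD3_c30)) = (LP (LK LD1_c12 LD2_c56 LD3_c54)) :=
  Lgr Lrot19 (Lpr_dt (K4.f94910 IH) (Lpr_ft (f715672 IH) (Lpr_dt (f715679 IH) (Lpn (LP (LK LD1_c12 LD2_c56 LD3_c54))))))
theorem f744569 : Led Lsl_gf (LP (LK LD1_c14 LD2_c35 LD3_c27)) = (LP (LK LD1_c12 LD2_c56 LD3_c54)) :=
  Lgr Lrot47 (Lpr_gt (K55.f744567 IH) (Lpr_af (f120399 IH) (Lpr_ff (f715680 IH) (Lpn (LP (LK LD1_c12 LD2_c56 LD3_c54))))))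
theorem f715682 : Led Lsl_ff (LP (LK LD1_c13 LD2_c10 LD3_c47)) = (LP (LK LD1_c22 LD2_c6 LD3_c31)) :=
  Lgr Lrot3 (Lpr_ft (f715672 IH) (Lpn (LP (LK LD1_c22 LD2_c6 LD3_c31))))
theorem f715669 : Led Lsl_dt (LP (LK LD1_c12 LD2_c56 LD3_c54)) = (LP (LK LD1_c22 LD2_c6 LD3_c31)) :=
  Lre_d IH (LK LD1_c12 LD2_c56 LD3_c54) (LK LD1_c22 LD2_c6 LD3_c31) Lrfl Lrfl
theorem f715689 : Led Lsl_ft (LP (LK LD1_c6 LD2_c56 LD3_c30)) = (LP (LK LD1_c12 LD2_c56 LD3_c54)) :=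
  Lgr Lrot54 (Lpe (K38.f94893 IH) (Lpr_ff (f715682 IH) (Lpe (f715669 IH) (Lpn (LP (LK LD1_c12 LD2_c56 LD3_c54))))))
theorem f653345 : Led Lsl_at (LP (LK LD1_c12 LD2_c56 LD3_c54)) = (LP (LK LD1_c6 LD2_c46 LD3_c56)) :=
  Lre_a IH (LK LD1_c12 LD2_c56 LD3_c54) (LK LD1_c6 LD2_c46 LD3_c56) Lrfl Lrfl
theorem f715691 : Led Lsl_ff (LP (LK LD1_c9 LD2_c20 LD3_c60)) = (LP (LK LD1_c6 LD2_c46 LD3_c56)) :=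
  Lgr Lrot30 (Lpr_at (K4.f120432 IH) (Lpr_ft (f715689 IH) (Lpr_at (f653345 IH) (Lpn (LP (LK LD1_c6 LD2_c46 LD3_c56))))))
theorem f715700 : Led Lsl_ft (LP (LK LD1_c9 LD2_c20 LD3_c60)) = (LP (LK LD1_c6 LD2_c46 LD3_c56)) :=
  Lgr Lrot48 (Lpr_ff (f715691 IH) (Lpn (LP (LK LD1_c6 LD2_c46 LD3_c56))))
theorem f120428 : Led Lsl_gt (LP (LK LD1_c9 LD2_c20 LD3_c60)) = (LP (LK LD1_c17 LD2_c16 LD3_c59)) :=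
  Lre_g IH (LK LD1_c9 LD2_c20 LD3_c60) (LK LD1_c17 LD2_c16 LD3_c59) Lrfl Lrfl
theorem f653353 : Led Lsl_at (LP (LK LD1_c6 LD2_c46 LD3_c56)) = (LP (LK LD1_c12 LD2_c56 LD3_c54)) :=
  Lre_a IH (LK LD1_c6 LD2_c46 LD3_c56) (LK LD1_c12 LD2_c56 LD3_c54) Lrfl Lrfl
theorem f715704 : Led Lsl_gt (LP (LK LD1_c17 LD2_c16 LD3_c59)) = (LP (LK LD1_c12 LD2_c56 LD3_c54)) :=
  Lgr Lrot46 (Lpe (f120428 IH) (Lpr_ft (f715700 IH) (Lpr_at (f653353 IH) (Lpn (LP (LK LD1_c12 LD2_c56 LD3_c54))))))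
theorem f782264 : Led Lsl_ft (LP (LK LD1_c17 LD2_c16 LD3_c59)) = v19808 :=
  Lgr Lrot2 (Lpr_gt (f715704 IH) (Lpe (f744569 IH) (Lpr_af (f782263 IH) (Lpn v19808))))
theorem f782266 : Led Lsl_ff (LP (LK LD1_c17 LD2_c16 LD3_c59)) = v19808 :=
  Lgr Lrot3 (Lpr_ft (f782264 IH) (Lpn v19808))
theorem f782267 : Led Lsl_at (LP (LK LD1_c17 LD2_c16 LD3_c59)) = v19809 :=
  Lgr Lrot66 (Lpr_ff (f782266 IH) (Lpe (f782262 IH) (Lpr_ff (f782260 IH) (Lpn v19809))))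
theorem f782259 : Led Lsl_bf (LP (LK LD1_c14 LD2_c35 LD3_c22)) = v19809 :=
  Lgr Lrot24 (Lpr_bt (f782258 IH) (Lpn v19809))
theorem f712942 : Led Lsl_at (LP (LK LD1_c14 LD2_c35 LD3_c22)) = (LP (LK LD1_c7 LD2_c44 LD3_c10)) :=
  Lgr Lrot100 (Lpr_af (f712909 IH) (Lpn (LP (LK LD1_c7 LD2_c44 LD3_c10))))
theorem f709850 : Led Lsl_bt (LP (LK LD1_c7 LD2_c44 LD3_c10)) = (LP (LK LD1_c14 LD2_c35 LD3_c24)) :=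
  Lre_b IH (LK LD1_c7 LD2_c44 LD3_c10) (LK LD1_c14 LD2_c35 LD3_c24) Lrfl Lrfl
theorem f705277 : Led Lsl_bt (LP (LK LD1_c9 LD2_c30 LD3_c52)) = (LP (LK LD1_c17 LD2_c32 LD3_c16)) :=
  Lre_b IH (LK LD1_c9 LD2_c30 LD3_c52) (LK LD1_c17 LD2_c32 LD3_c16) Lrfl Lrfl
theorem f709871 : Led Lsl_ft (LP (LK LD1_c17 LD2_c32 LD3_c16)) = (LP (LK LD1_c14 LD2_c35 LD3_c24)) :=
  Lgr Lrot75 (Lpe (f705277 IH) (Lpr_ff (K55.f709869 IH) (Lpe (K52.f65770 IH) (Lpn (LP (LK LD1_c14 LD2_c35 LD3_c24))))))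
theorem f705222 : Led Lsl_ct (LP (LK LD1_c9 LD2_c30 LD3_c55)) = (LP (LK LD1_c17 LD2_c32 LD3_c16)) :=
  Lre_c IH (LK LD1_c9 LD2_c30 LD3_c55) (LK LD1_c17 LD2_c32 LD3_c16) Lrfl Lrfl
theorem f709920 : Led Lsl_ff (LP (LK LD1_c9 LD2_c30 LD3_c55)) = (LP (LK LD1_c17 LD2_c20 LD3_c49)) :=
  Lgr Lrot23 (Lpr_ct (f705222 IH) (Lpr_ft (f709871 IH) (Lpe (K52.f709848 IH) (Lpn (LP (LK LD1_c17 LD2_c20 LD3_c49))))))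
theorem f709924 : Led Lsl_ft (LP (LK LD1_c9 LD2_c30 LD3_c55)) = (LP (LK LD1_c17 LD2_c20 LD3_c49)) :=
  Lgr Lrot48 (Lpr_ff (f709920 IH) (Lpn (LP (LK LD1_c17 LD2_c20 LD3_c49))))
def v13701 : LQ := Led Lsl_ft (LP (LK LD1_c4 LD2_c47 LD3_c16))
theorem f704420 : Led Lsl_ft (LP (LK LD1_c4 LD2_c47 LD3_c16)) = v13701 :=
  Lrfl
theorem f704422 : Led Lsl_ff (LP (LK LD1_c4 LD2_c47 LD3_c16)) = v13701 :=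
  Lgr Lrot3 (Lpr_ft (f704420 IH) (Lpn v13701))
def v13698 : LQ := Led Lsl_at (LP (LK LD1_c4 LD2_c47 LD3_c16))
theorem f704401 : Led Lsl_at (LP (LK LD1_c4 LD2_c47 LD3_c16)) = v13698 :=
  Lrfl
theorem f704402 : Led Lsl_af (LP (LK LD1_c4 LD2_c47 LD3_c16)) = v13698 :=
  Lgr Lrot0 (Lpr_at (f704401 IH) (Lpn v13698))
theorem f704406 : Led Lsl_ft K51.v4435 = v13698 :=
  Lgr Lrot2 (Lpe (K51.f633354 IH) (Lpr_gt (K35.f76954 IH) (Lpr_af (f704402 IH) (Lpn v13698))))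
theorem f704407 : Led Lsl_ff K51.v4435 = v13698 :=
  Lgr Lrot3 (Lpr_ft (f704406 IH) (Lpn v13698))
theorem f704423 : Led Lsl_at K51.v4435 = v13701 :=
  Lgr Lrot66 (Lpr_ff (f704407 IH) (Lpe (f704401 IH) (Lpr_ff (f704422 IH) (Lpn v13701))))
theorem f708587 : v13701 = (LP (LK LD1_c6 LD2_c19 LD3_c59)) :=
  Lefun (Lecon (f704423 IH) (K51.f708582 IH)) (Lfl_af (K4.f120681 IH))
theorem f633387 : Led Lsl_bt (LP (LK LD1_c9 LD2_c27 LD3_c34)) = (LP (LK LD1_c4 LD2_c47 LD3_c16)) :=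
  Lre_b IH (LK LD1_c9 LD2_c27 LD3_c34) (LK LD1_c4 LD2_c47 LD3_c16) Lrfl Lrfl
theorem f105522 : Led Lsl_bt (LP (LK LD1_c6 LD2_c19 LD3_c59)) = (LP (LK LD1_c12 LD2_c14 LD3_c40)) :=
  Lre_b IH (LK LD1_c6 LD2_c19 LD3_c59) (LK LD1_c12 LD2_c14 LD3_c40) Lrfl Lrfl
theorem f708591 : Led Lsl_ff (LP (LK LD1_c9 LD2_c27 LD3_c34)) = (LP (LK LD1_c12 LD2_c14 LD3_c40)) :=
  Lgr Lrot25 (Lpr_bt (f633387 IH) (Lpr_ft (f704420 IH) (Lpqs (f708587 IH) (Lpr_bt (f105522 IH) (Lpn (LP (LK LD1_c12 LD2_c14 LD3_c40)))))))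
theorem f708599 : Led Lsl_ft (LP (LK LD1_c9 LD2_c27 LD3_c34)) = (LP (LK LD1_c12 LD2_c14 LD3_c40)) :=
  Lgr Lrot48 (Lpr_ff (f708591 IH) (Lpn (LP (LK LD1_c12 LD2_c14 LD3_c40))))
theorem f704411 : Led Lsl_gt (LP (LK LD1_c9 LD2_c27 LD3_c34)) = (LP (LK LD1_c17 LD2_c26 LD3_c41)) :=
  Lre_g IH (LK LD1_c9 LD2_c27 LD3_c34) (LK LD1_c17 LD2_c26 LD3_c41) Lrfl Lrfl
theorem f708603 : Led Lsl_gt (LP (LK LD1_c17 LD2_c26 LD3_c41)) = (LP (LK LD1_c12 LD2_c44 LD3_c61)) :=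
  Lgr Lrot46 (Lpe (f704411 IH) (Lpr_ft (f708599 IH) (Lpr_at (K51.f105515 IH) (Lpn (LP (LK LD1_c12 LD2_c44 LD3_c61))))))
theorem f708541 : Led Lsl_ff (LP (LK LD1_c9 LD2_c26 LD3_c59)) = (LP (LK LD1_c6 LD2_c19 LD3_c56)) :=
  Lgr Lrot3 (Lpr_ft (K51.f708535 IH) (Lpn (LP (LK LD1_c6 LD2_c19 LD3_c56))))
theorem f131465 : Led Lsl_bt (LP (LK LD1_c3 LD2_c7 LD3_c38)) = (LP (LK LD1_c6 LD2_c19 LD3_c60)) :=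
  Lre_b IH (LK LD1_c3 LD2_c7 LD3_c38) (LK LD1_c6 LD2_c19 LD3_c60) Lrfl Lrfl
theorem f131466 : Led Lsl_df (LP (LK LD1_c6 LD2_c19 LD3_c26)) = (LP (LK LD1_c6 LD2_c19 LD3_c60)) :=
  Lgr Lrot12 (Lpr_bt (K5.f128463 IH) (Lpr_dt (K57.f131461 IH) (Lpr_bt (f131465 IH) (Lpn (LP (LK LD1_c6 LD2_c19 LD3_c60))))))
theorem f708531 : Led Lsl_at (LP (LK LD1_c9 LD2_c26 LD3_c59)) = (LP (LK LD1_c6 LD2_c19 LD3_c60)) :=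
  Lgr Lrot51 (Lpr_df (K51.f708529 IH) (Lpe (K51.f131485 IH) (Lpr_df (f131466 IH) (Lpn (LP (LK LD1_c6 LD2_c19 LD3_c60))))))
theorem f708553 : Led Lsl_gt (LP (LK LD1_c6 LD2_c49 LD3_c6)) = (LP (LK LD1_c6 LD2_c19 LD3_c60)) :=
  Lgr Lrot46 (Lpr_gf (K51.f708549 IH) (Lpe (f708541 IH) (Lpr_at (f708531 IH) (Lpn (LP (LK LD1_c6 LD2_c19 LD3_c60))))))
theorem f98976 : Led Lsl_gt (LP (LK LD1_c2 LD2_c20 LD3_c48)) = (LP (LK LD1_c4 LD2_c45 LD3_c22)) :=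
  Lre_g IH (LK LD1_c2 LD2_c20 LD3_c48) (LK LD1_c4 LD2_c45 LD3_c22) Lrfl Lrfl
theorem f141139 : Led Lsl_bt (LP (LK LD1_c4 LD2_c45 LD3_c20)) = (LP (LK LD1_c2 LD2_c20 LD3_c48)) :=
  Lre_b IH (LK LD1_c4 LD2_c45 LD3_c20) (LK LD1_c2 LD2_c20 LD3_c48) Lrfl Lrfl
theorem f141140 : Led Lsl_ct (LP (LK LD1_c4 LD2_c45 LD3_c20)) = (LP (LK LD1_c3 LD2_c16 LD3_c17)) :=
  Lre_c IH (LK LD1_c4 LD2_c45 LD3_c20) (LK LD1_c3 LD2_c16 LD3_c17) Lrfl Lrfl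
theorem f141141 : Led Lsl_gt (LP (LK LD1_c6 LD2_c35 LD3_c56)) = (LP (LK LD1_c3 LD2_c16 LD3_c17)) :=
  Lre_g IH (LK LD1_c6 LD2_c35 LD3_c56) (LK LD1_c3 LD2_c16 LD3_c17) Lrfl Lrfl
theorem f141142 : Led Lsl_ct (LP (LK LD1_c12 LD2_c37 LD3_c57)) = (LP (LK LD1_c6 LD2_c35 LD3_c56)) :=
  Lre_c IH (LK LD1_c12 LD2_c37 LD3_c57) (LK LD1_c6 LD2_c35 LD3_c56) Lrfl Lrfl
theorem f704414 : Led Lsl_bt K51.v6501 = K51.v13699 :=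
  Lgr Lrot127 (Lpr_bf (K51.f704413 IH) (Lpn K51.v13699))
theorem f707638 : K51.v13699 = (LP (LK LD1_c6 LD2_c19 LD3_c60)) :=
  Lefun (Lecon (f704414 IH) (K51.f707597 IH).symm) (f131465 IH)
theorem f704404 : Led Lsl_bt (LP (LK LD1_c4 LD2_c47 LD3_c16)) = (LP (LK LD1_c9 LD2_c27 LD3_c34)) :=
  Lre_b IH (LK LD1_c4 LD2_c47 LD3_c16) (LK LD1_c9 LD2_c27 LD3_c34) Lrfl Lrfl
theorem f708563 : Led Lsl_bt (LP (LK LD1_c12 LD2_c37 LD3_c57)) = (LP (LK LD1_c17 LD2_c26 LD3_c41)) :=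
  Lgr Lrot92 (Lpr_ct (f141142 IH) (Lpr_gt (f141141 IH) (Lpe (f141140 IH) (Lpr_bt (f141139 IH) (Lpr_gt (f98976 IH) (Lpr_ct (K50.f141125 IH) (Lpr_gt (f708553 IH) (Lpq (f707638 IH) (Lpe (K51.f704408 IH) (Lpr_bt (f704404 IH) (Lpr_gt (f704411 IH) (Lpn (LP (LK LD1_c17 LD2_c26 LD3_c41))))))))))))))
theorem f652751 : Led Lsl_gt (LP (LK LD1_c12 LD2_c37 LD3_c46)) = (LP (LK LD1_c6 LD2_c35 LD3_c56)) :=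
  Lre_g IH (LK LD1_c12 LD2_c37 LD3_c46) (LK LD1_c6 LD2_c35 LD3_c56) Lrfl Lrfl
theorem f704158 : Led Lsl_ct (LP (LK LD1_c17 LD2_c19 LD3_c54)) = (LP (LK LD1_c12 LD2_c37 LD3_c46)) :=
  Lre_c IH (LK LD1_c17 LD2_c19 LD3_c54) (LK LD1_c12 LD2_c37 LD3_c46) Lrfl Lrfl
theorem f705471 : Led Lsl_gt (LP (LK LD1_c9 LD2_c23 LD3_c24)) = (LP (LK LD1_c17 LD2_c19 LD3_c54)) :=
  Lre_g IH (LK LD1_c9 LD2_c23 LD3_c24) (LK LD1_c17 LD2_c19 LD3_c54) Lrfl Lrfl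
theorem f136015 : Led Lsl_bf (LP (LK LD1_c12 LD2_c44 LD3_c61)) = (LP (LK LD1_c7 LD2_c34 LD3_c8)) :=
  Lgr Lrot96 (Lpr_et (K51.f105524 IH) (Lpr_bt (K36.f136013 IH) (Lpr_et (K4.f120650 IH) (Lpn (LP (LK LD1_c7 LD2_c34 LD3_c8))))))
theorem f120230 : Led Lsl_ct (LP (LK LD1_c7 LD2_c34 LD3_c8)) = (LP (LK LD1_c3 LD2_c46 LD3_c41)) :=
  Lre_c IH (LK LD1_c7 LD2_c34 LD3_c8) (LK LD1_c3 LD2_c46 LD3_c41) Lrfl Lrfl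
theorem f136021 : Led Lsl_gt (LP (LK LD1_c3 LD2_c46 LD3_c41)) = (LP (LK LD1_c7 LD2_c34 LD3_c9)) :=
  Lre_g IH (LK LD1_c3 LD2_c46 LD3_c41) (LK LD1_c7 LD2_c34 LD3_c9) Lrfl Lrfl
theorem f136022 : Led Lsl_ct (LP (LK LD1_c14 LD2_c16 LD3_c16)) = (LP (LK LD1_c7 LD2_c34 LD3_c9)) :=
  Lre_c IH (LK LD1_c14 LD2_c16 LD3_c16) (LK LD1_c7 LD2_c34 LD3_c9) Lrfl Lrfl
theorem f708606 : Led Lsl_bf (LP (LK LD1_c9 LD2_c23 LD3_c24)) = (LP (LK LD1_c14 LD2_c16 LD3_c16)) :=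
  Lgr Lrot165 (Lpr_gt (f705471 IH) (Lpr_ct (f704158 IH) (Lpr_gt (f652751 IH) (Lpe (f141142 IH) (Lpr_bt (f708563 IH) (Lpr_gt (f708603 IH) (Lpr_bf (f136015 IH) (Lpr_ct (f120230 IH) (Lpr_gt (f136021 IH) (Lpe (f136022 IH) (Lpn (LP (LK LD1_c14 LD2_c16 LD3_c16)))))))))))))
theorem f705206 : Led Lsl_bt (LP (LK LD1_c9 LD2_c26 LD3_c2)) = (LP (LK LD1_c17 LD2_c19 LD3_c54)) :=
  Lre_b IH (LK LD1_c9 LD2_c26 LD3_c2) (LK LD1_c17 LD2_c19 LD3_c54) Lrfl Lrfl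
theorem f644047 : Led Lsl_ct (LP (LK LD1_c9 LD2_c26 LD3_c2)) = (LP (LK LD1_c4 LD2_c49 LD3_c0)) :=
  Lre_c IH (LK LD1_c9 LD2_c26 LD3_c2) (LK LD1_c4 LD2_c49 LD3_c0) Lrfl Lrfl
theorem f634134 : Led Lsl_ct (LP (LK LD1_c4 LD2_c49 LD3_c6)) = (LP (LK LD1_c2 LD2_c22 LD3_c23)) :=
  Lre_c IH (LK LD1_c4 LD2_c49 LD3_c6) (LK LD1_c2 LD2_c22 LD3_c23) Lrfl Lrfl
theorem f644089 : Led Lsl_bt (LP (LK LD1_c4 LD2_c49 LD3_c6)) = (LP (LK LD1_c9 LD2_c30 LD3_c55)) :=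
  Lre_b IH (LK LD1_c4 LD2_c49 LD3_c6) (LK LD1_c9 LD2_c30 LD3_c55) Lrfl Lrfl
theorem f708618 : Led Lsl_gt (LP (LK LD1_c9 LD2_c30 LD3_c55)) = (LP (LK LD1_c7 LD2_c34 LD3_c8)) :=
  Lgr Lrot82 (Lpe (f644089 IH) (Lpr_ct (f634134 IH) (Lpe (K50.f634145 IH) (Lpe (f644047 IH) (Lpr_bt (f705206 IH) (Lpe (f705471 IH) (Lpr_bf (f708606 IH) (Lpr_ct (f136022 IH) (Lpe (f136021 IH) (Lpe (f120230 IH) (Lpn (LP (LK LD1_c7 LD2_c34 LD3_c8)))))))))))))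
theorem f440619 : Led Lsl_gt (LP (LK LD1_c7 LD2_c34 LD3_c8)) = (LP (LK LD1_c14 LD2_c16 LD3_c12)) :=
  Lre_g IH (LK LD1_c7 LD2_c34 LD3_c8) (LK LD1_c14 LD2_c16 LD3_c12) Lrfl Lrfl
theorem f709939 : Led Lsl_af (LP (LK LD1_c14 LD2_c16 LD3_c12)) = (LP (LK LD1_c17 LD2_c20 LD3_c49)) :=
  Lgr Lrot31 (Lpe (f440619 IH) (Lpe (f708618 IH) (Lpr_ft (f709924 IH) (Lpn (LP (LK LD1_c17 LD2_c20 LD3_c49))))))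
theorem f440622 : Led Lsl_ct (LP (LK LD1_c14 LD2_c16 LD3_c12)) = (LP (LK LD1_c23 LD2_c53 LD3_c2)) :=
  Lre_c IH (LK LD1_c14 LD2_c16 LD3_c12) (LK LD1_c23 LD2_c53 LD3_c2) Lrfl Lrfl
theorem f709946 : Led Lsl_at (LP (LK LD1_c23 LD2_c53 LD3_c2)) = (LP (LK LD1_c14 LD2_c35 LD3_c24)) :=
  Lgr Lrot107 (Lpe (f440622 IH) (Lpr_af (f709939 IH) (Lpr_cf (K52.f709848 IH) (Lpn (LP (LK LD1_c14 LD2_c35 LD3_c24))))))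
theorem f709952 : Led Lsl_af (LP (LK LD1_c23 LD2_c53 LD3_c2)) = (LP (LK LD1_c14 LD2_c35 LD3_c24)) :=
  Lgr Lrot0 (Lpr_at (f709946 IH) (Lpn (LP (LK LD1_c14 LD2_c35 LD3_c24))))
theorem f782268 : Led Lsl_bf (LP (LK LD1_c17 LD2_c16 LD3_c59)) = (LP (LK LD1_c23 LD2_c53 LD3_c2)) :=
  Lgr Lrot81 (Lpr_at (f782267 IH) (Lpe (f782259 IH) (Lpr_at (f712942 IH) (Lpr_bt (f709850 IH) (Lpe (f709952 IH) (Lpn (LP (LK LD1_c23 LD2_c53 LD3_c2))))))))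
theorem f782269 : Led Lsl_bt (LP (LK LD1_c23 LD2_c53 LD3_c2)) = (LP (LK LD1_c17 LD2_c16 LD3_c59)) :=
  Leop (Lpr_bf (f782268 IH) (Lpn (LP (LK LD1_c23 LD2_c53 LD3_c2))))
theorem seed_1483 : LEOK LG_b (LK LD1_c23 LD2_c53 LD3_c2) :=
  Leoe_b (LK LD1_c23 LD2_c53 LD3_c2) (f782269 IH)
def v19838 : LQ := Led Lsl_gf (LP (LK LD1_c6 LD2_c47 LD3_c26))
theorem f782436 : Led Lsl_gf (LP (LK LD1_c6 LD2_c47 LD3_c26)) = v19838 :=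
  Lrfl
theorem f500325 : Led Lsl_ct (LP (LK LD1_c6 LD2_c47 LD3_c26)) = (LP (LK LD1_c12 LD2_c57 LD3_c58)) :=
  Lre_c IH (LK LD1_c6 LD2_c47 LD3_c26) (LK LD1_c12 LD2_c57 LD3_c58) Lrfl Lrfl
theorem f500326 : Led Lsl_gt (LP (LK LD1_c12 LD2_c57 LD3_c58)) = (LP (LK LD1_c22 LD2_c7 LD3_c49)) :=
  Lre_g IH (LK LD1_c12 LD2_c57 LD3_c58) (LK LD1_c22 LD2_c7 LD3_c49) Lrfl Lrfl
theorem f710094 : Led Lsl_dt (LP (LK LD1_c6 LD2_c47 LD3_c26)) = (LP (LK LD1_c3 LD2_c21 LD3_c51)) :=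
  Lre_d IH (LK LD1_c6 LD2_c47 LD3_c26) (LK LD1_c3 LD2_c21 LD3_c51) Lrfl Lrfl
theorem f414564 : Led Lsl_dt (LP (LK LD1_c12 LD2_c57 LD3_c9)) = (LP (LK LD1_c6 LD2_c47 LD3_c5)) :=
  Lre_d IH (LK LD1_c12 LD2_c57 LD3_c9) (LK LD1_c6 LD2_c47 LD3_c5) Lrfl Lrfl
theorem f414565 : Led Lsl_gt (LP (LK LD1_c22 LD2_c6 LD3_c55)) = (LP (LK LD1_c12 LD2_c57 LD3_c9)) :=
  Lre_g IH (LK LD1_c22 LD2_c6 LD3_c55) (LK LD1_c12 LD2_c57 LD3_c9) Lrfl Lrfl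
theorem f151684 : Led Lsl_et (LP (LK LD1_c4 LD2_c34 LD3_c49)) = (LP (LK LD1_c9 LD2_c6 LD3_c16)) :=
  Lre_e IH (LK LD1_c4 LD2_c34 LD3_c49) (LK LD1_c9 LD2_c6 LD3_c16) Lrfl Lrfl
theorem f151685 : Led Lsl_gt (LP (LK LD1_c9 LD2_c6 LD3_c16)) = (LP (LK LD1_c16 LD2_c57 LD3_c60)) :=
  Lre_g IH (LK LD1_c9 LD2_c6 LD3_c16) (LK LD1_c16 LD2_c57 LD3_c60) Lrfl Lrfl
theorem f454345 : Led Lsl_et (LP (LK LD1_c6 LD2_c47 LD3_c5)) = (LP (LK LD1_c3 LD2_c21 LD3_c43)) :=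
  Lre_e IH (LK LD1_c6 LD2_c47 LD3_c5) (LK LD1_c3 LD2_c21 LD3_c43) Lrfl Lrfl
theorem f653399 : Led Lsl_dt (LP (LK LD1_c6 LD2_c47 LD3_c5)) = (LP (LK LD1_c12 LD2_c57 LD3_c9)) :=
  Lre_d IH (LK LD1_c6 LD2_c47 LD3_c5) (LK LD1_c12 LD2_c57 LD3_c9) Lrfl Lrfl
theorem f739287 : Led Lsl_dt (LP (LK LD1_c16 LD2_c57 LD3_c60)) = (LP (LK LD1_c22 LD2_c6 LD3_c55)) :=
  Lgr Lrot171 (Lpe (f151685 IH) (Lpe (f151684 IH) (Lpr_dt (K7.f151673 IH) (Lpe (K4.f103750 IH) (Lpr_df (K6.f130120 IH) (Lpr_et (K5.f130149 IH) (Lpqs (K54.f739284 IH) (Lpe (K54.f653397 IH) (Lpe (f454345 IH) (Lpr_dt (f653399 IH) (Lpe (f414565 IH) (Lpn (LP (LK LD1_c22 LD2_c6 LD3_c55))))))))))))))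
theorem f151972 : Led Lsl_ct (LP (LK LD1_c9 LD2_c6 LD3_c16)) = (LP (LK LD1_c4 LD2_c34 LD3_c50)) :=
  Lre_c IH (LK LD1_c9 LD2_c6 LD3_c16) (LK LD1_c4 LD2_c34 LD3_c50) Lrfl Lrfl
theorem f782438 : Led Lsl_dt (LP (LK LD1_c9 LD2_c6 LD3_c17)) = v19838 :=
  Lgr Lrot57 (Lpe (K7.f151715 IH) (Lpe (f151972 IH) (Lpr_gt (f151685 IH) (Lpr_dt (f739287 IH) (Lpr_gt (f414565 IH) (Lpr_dt (f414564 IH) (Lpe (K52.f414566 IH) (Lpe (f710094 IH) (Lpr_gf (f782436 IH) (Lpn v19838))))))))))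
theorem f428847 : Led Lsl_gt (LP (LK LD1_c9 LD2_c6 LD3_c26)) = (LP (LK LD1_c16 LD2_c57 LD3_c61)) :=
  Lre_g IH (LK LD1_c9 LD2_c6 LD3_c26) (LK LD1_c16 LD2_c57 LD3_c61) Lrfl Lrfl
theorem f641331 : Led Lsl_ct (LP (LK LD1_c5 LD2_c59 LD3_c10)) = (LP (LK LD1_c11 LD2_c42 LD3_c50)) :=
  Lre_c IH (LK LD1_c5 LD2_c59 LD3_c10) (LK LD1_c11 LD2_c42 LD3_c50) Lrfl Lrfl
theorem f428149 : Led Lsl_bt (LP (LK LD1_c5 LD2_c59 LD3_c10)) = (LP (LK LD1_c11 LD2_c41 LD3_c60)) :=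
  Lre_b IH (LK LD1_c5 LD2_c59 LD3_c10) (LK LD1_c11 LD2_c41 LD3_c60) Lrfl Lrfl
theorem f599754 : Led Lsl_gt (LP (LK LD1_c26 LD2_c53 LD3_c33)) = (LP (LK LD1_c16 LD2_c58 LD3_c4)) :=
  Lre_g IH (LK LD1_c26 LD2_c53 LD3_c33) (LK LD1_c16 LD2_c58 LD3_c4) Lrfl Lrfl
theorem f643637 : Led Lsl_ct (LP (LK LD1_c20 LD2_c41 LD3_c39)) = (LP (LK LD1_c26 LD2_c53 LD3_c33)) :=
  Lgr Lrot91 (Lpe (K45.f428147 IH) (Lpe (f428149 IH) (Lpr_ct (f641331 IH) (Lpr_gf (K55.f641929 IH) (Lpr_cf (K55.f643590 IH) (Lpr_bt (K55.f599762 IH) (Lpe (K55.f176780 IH) (Lpe (K45.f599756 IH) (Lpr_ct (K52.f157948 IH) (Lpe (f599754 IH) (Lpn (LP (LK LD1_c26 LD2_c53 LD3_c33)))))))))))))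
theorem f426814 : Led Lsl_dt (LP (LK LD1_c11 LD2_c41 LD3_c60)) = (LP (LK LD1_c5 LD2_c58 LD3_c45)) :=
  Lre_d IH (LK LD1_c11 LD2_c41 LD3_c60) (LK LD1_c5 LD2_c58 LD3_c45) Lrfl Lrfl
theorem f502249 : Led Lsl_gt (LP (LK LD1_c5 LD2_c58 LD3_c45)) = (LP (LK LD1_c11 LD2_c41 LD3_c39)) :=
  Lre_g IH (LK LD1_c5 LD2_c58 LD3_c45) (LK LD1_c11 LD2_c41 LD3_c39) Lrfl Lrfl
theorem f151689 : Led Lsl_gt (LP (LK LD1_c16 LD2_c57 LD3_c61)) = (LP (LK LD1_c9 LD2_c6 LD3_c16)) :=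
  Lre_g IH (LK LD1_c16 LD2_c57 LD3_c61) (LK LD1_c9 LD2_c6 LD3_c16) Lrfl Lrfl
theorem f643641 : Led Lsl_ct (LP (LK LD1_c11 LD2_c41 LD3_c39)) = (LP (LK LD1_c16 LD2_c57 LD3_c61)) :=
  Lgr Lrot152 (Lpe (f502249 IH) (Lpe (f426814 IH) (Lpr_gt (K45.f428147 IH) (Lpr_ct (f643637 IH) (Lpr_gt (f599754 IH) (Lpr_ct (K45.f157954 IH) (Lpe (K45.f157941 IH) (Lpe (f151972 IH) (Lpe (f151689 IH) (Lpn (LP (LK LD1_c16 LD2_c57 LD3_c61))))))))))))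
theorem f643643 : Led Lsl_cf (LP (LK LD1_c11 LD2_c41 LD3_c39)) = (LP (LK LD1_c16 LD2_c57 LD3_c61)) :=
  Lgr Lrot11 (Lpr_ct (f643641 IH) (Lpn (LP (LK LD1_c16 LD2_c57 LD3_c61))))
theorem f426799 : Led Lsl_dt (LP (LK LD1_c20 LD2_c41 LD3_c38)) = (LP (LK LD1_c11 LD2_c41 LD3_c39)) :=
  Lre_d IH (LK LD1_c20 LD2_c41 LD3_c38) (LK LD1_c11 LD2_c41 LD3_c39) Lrfl Lrfl
theorem f782439 : Led Lsl_ct (LP (LK LD1_c22 LD2_c7 LD3_c49)) = (LP (LK LD1_c20 LD2_c41 LD3_c38)) :=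
  Lgr Lrot110 (Lpe (f500326 IH) (Lpe (f500325 IH) (Lpr_gf (f782436 IH) (Lpe (f782438 IH) (Lpr_gt (K7.f25248 IH) (Lpr_ct (K42.f25237 IH) (Lpr_gt (f428847 IH) (Lpe (f643643 IH) (Lpe (f426799 IH) (Lpn (LP (LK LD1_c20 LD2_c41 LD3_c38))))))))))))
theorem f782440 : Led Lsl_ct (LP (LK LD1_c22 LD2_c7 LD3_c49)) = (LP (LK LD1_c20 LD2_c41 LD3_c38)) :=
  Leop (Lpe (f782439 IH) (Lpn (LP (LK LD1_c22 LD2_c7 LD3_c49))))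
theorem seed_1484 : LEOK LG_c (LK LD1_c22 LD2_c7 LD3_c49) :=
  Leoe_c (LK LD1_c22 LD2_c7 LD3_c49) (f782440 IH)
def v19871 : LQ := Led Lsl_at (LP (LK LD1_c6 LD2_c47 LD3_c49))
theorem f782608 : Led Lsl_at (LP (LK LD1_c6 LD2_c47 LD3_c49)) = v19871 :=
  Lrfl
theorem f782609 : Led Lsl_af (LP (LK LD1_c6 LD2_c47 LD3_c49)) = v19871 :=
  Lgr Lrot0 (Lpr_at (f782608 IH) (Lpn v19871))
theorem f436122 : Led Lsl_gt (LP (LK LD1_c3 LD2_c22 LD3_c6)) = (LP (LK LD1_c6 LD2_c47 LD3_c49)) :=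
  Lre_g IH (LK LD1_c3 LD2_c22 LD3_c6) (LK LD1_c6 LD2_c47 LD3_c49) Lrfl Lrfl
theorem f782612 : Led Lsl_ft (LP (LK LD1_c6 LD2_c47 LD3_c50)) = v19871 :=
  Lgr Lrot2 (Lpr_gt (K32.f436109 IH) (Lpr_gt (f436122 IH) (Lpr_af (f782609 IH) (Lpn v19871))))
theorem f434513 : Led Lsl_dt (LP (LK LD1_c3 LD2_c22 LD3_c28)) = (LP (LK LD1_c6 LD2_c48 LD3_c46)) :=
  Lre_d IH (LK LD1_c3 LD2_c22 LD3_c28) (LK LD1_c6 LD2_c48 LD3_c46) Lrfl Lrfl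
theorem f434523 : Led Lsl_gf (LP (LK LD1_c6 LD2_c12 LD3_c58)) = (LP (LK LD1_c6 LD2_c48 LD3_c46)) :=
  Lgr Lrot134 (Lpr_df (K52.f23825 IH) (Lpr_et (K29.f23810 IH) (Lpr_gt (K0.f23794 IH) (Lpr_ef (K54.f68374 IH) (Lpr_dt (K24.f68384 IH) (Lpe (K32.f146055 IH) (Lpe (K6.f139842 IH) (Lpr_et (K6.f24682 IH) (Lpr_gt (K57.f434516 IH) (Lpr_dt (f434513 IH) (Lpn (LP (LK LD1_c6 LD2_c48 LD3_c46)))))))))))))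
theorem f503710 : Led Lsl_et (LP (LK LD1_c3 LD2_c22 LD3_c28)) = (LP (LK LD1_c6 LD2_c47 LD3_c49)) :=
  Lgr Lrot122 (Lpr_dt (f434513 IH) (Lpe (f434523 IH) (Lpr_df (K52.f23825 IH) (Lpr_et (K29.f23810 IH) (Lpr_gt (K0.f23794 IH) (Lpr_dt (K24.f23835 IH) (Lpr_gt (K32.f503671 IH) (Lpe (K50.f503662 IH) (Lpr_et (K32.f436114 IH) (Lpr_gt (f436122 IH) (Lpn (LP (LK LD1_c6 LD2_c47 LD3_c49)))))))))))))
def v6476 : LQ := Led Lsl_ft (LP (LK LD1_c3 LD2_c22 LD3_c27))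
theorem f653561 : Led Lsl_ft (LP (LK LD1_c3 LD2_c22 LD3_c27)) = v6476 :=
  Lrfl
def v6474 : LQ := Led Lsl_at (LP (LK LD1_c3 LD2_c22 LD3_c27))
theorem f653554 : Led Lsl_at (LP (LK LD1_c3 LD2_c22 LD3_c27)) = v6474 :=
  Lrfl
theorem f653555 : Led Lsl_af (LP (LK LD1_c3 LD2_c22 LD3_c27)) = v6474 :=
  Lgr Lrot0 (Lpr_at (f653554 IH) (Lpn v6474))
theorem f653556 : Led Lsl_ft (LP (LK LD1_c3 LD2_c22 LD3_c28)) = v6474 :=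
  Lgr Lrot2 (Lpr_gt (K57.f143912 IH) (Lpr_gt (K32.f146118 IH) (Lpr_af (f653555 IH) (Lpn v6474))))
theorem f653562 : Led Lsl_af (LP (LK LD1_c3 LD2_c22 LD3_c28)) = v6476 :=
  Lgr Lrot45 (Lpr_ft (f653556 IH) (Lpe (f653555 IH) (Lpr_ft (f653561 IH) (Lpn v6476))))
theorem f782610 : Led Lsl_ef v6476 = v19871 :=
  Lgr Lrot20 (Lpe (f653562 IH) (Lpr_et (f503710 IH) (Lpr_at (f782608 IH) (Lpn v19871))))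
theorem f653563 : Led Lsl_ff (LP (LK LD1_c3 LD2_c22 LD3_c27)) = v6476 :=
  Lgr Lrot3 (Lpr_ft (f653561 IH) (Lpn v6476))
theorem f782613 : Led Lsl_ff (LP (LK LD1_c6 LD2_c48 LD3_c42)) = (LP (LK LD1_c6 LD2_c48 LD3_c43)) :=
  Lgr Lrot72 (Lpr_et (K32.f436110 IH) (Lpr_ft (f782612 IH) (Lpe (f782610 IH) (Lpe (f653563 IH) (Lpr_et (K52.f435215 IH) (Lpn (LP (LK LD1_c6 LD2_c48 LD3_c43))))))))
theorem f782614 : Led Lsl_ft (LP (LK LD1_c6 LD2_c48 LD3_c43)) = (LP (LK LD1_c6 LD2_c48 LD3_c42)) :=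
  Leop (Lpr_ff (f782613 IH) (Lpn (LP (LK LD1_c6 LD2_c48 LD3_c43))))
theorem seed_1485 : LEOK LG_f (LK LD1_c6 LD2_c48 LD3_c43) :=
  Leoe_f (LK LD1_c6 LD2_c48 LD3_c43) (f782614 IH)
def v19900 : LQ := Led Lsl_at (LP (LK LD1_c6 LD2_c48 LD3_c10))
theorem f782811 : Led Lsl_at (LP (LK LD1_c6 LD2_c48 LD3_c10)) = v19900 :=
  Lrfl
theorem f782812 : Led Lsl_af (LP (LK LD1_c6 LD2_c48 LD3_c10)) = v19900 :=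
  Lgr Lrot0 (Lpr_at (f782811 IH) (Lpn v19900))
theorem f84545 : Led Lsl_gt (LP (LK LD1_c6 LD2_c48 LD3_c11)) = (LP (LK LD1_c3 LD2_c22 LD3_c16)) :=
  Lre_g IH (LK LD1_c6 LD2_c48 LD3_c11) (LK LD1_c3 LD2_c22 LD3_c16) Lrfl Lrfl
theorem f782814 : Led Lsl_ft (LP (LK LD1_c6 LD2_c48 LD3_c11)) = v19900 :=
  Lgr Lrot2 (Lpr_gt (f84545 IH) (Lpr_gt (K57.f84539 IH) (Lpr_af (f782812 IH) (Lpn v19900))))
theorem f782816 : Led Lsl_ff (LP (LK LD1_c6 LD2_c48 LD3_c11)) = v19900 :=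
  Lgr Lrot3 (Lpr_ft (f782814 IH) (Lpn v19900))
theorem f86420 : Led Lsl_bt (LP (LK LD1_c12 LD2_c0 LD3_c33)) = (LP (LK LD1_c6 LD2_c9 LD3_c46)) :=
  Lre_b IH (LK LD1_c12 LD2_c0 LD3_c33) (LK LD1_c6 LD2_c9 LD3_c46) Lrfl Lrfl
theorem f145843 : Led Lsl_ct (LP (LK LD1_c12 LD2_c0 LD3_c33)) = (LP (LK LD1_c21 LD2_c5 LD3_c43)) :=
  Lre_c IH (LK LD1_c12 LD2_c0 LD3_c33) (LK LD1_c21 LD2_c5 LD3_c43) Lrfl Lrfl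
theorem f155312 : Led Lsl_ct (LP (LK LD1_c6 LD2_c24 LD3_c12)) = (LP (LK LD1_c12 LD2_c21 LD3_c39)) :=
  Lre_c IH (LK LD1_c6 LD2_c24 LD3_c12) (LK LD1_c12 LD2_c21 LD3_c39) Lrfl Lrfl
theorem f435222 : Led Lsl_gf (LP (LK LD1_c21 LD2_c5 LD3_c43)) = (LP (LK LD1_c12 LD2_c21 LD3_c39)) :=
  Lgr Lrot129 (Lpe (f145843 IH) (Lpr_bt (f86420 IH) (Lpr_gt (K6.f62561 IH) (Lpe (K5.f62471 IH) (Lpr_ct (K6.f57565 IH) (Lpr_gt (K11.f154115 IH) (Lpe (K7.f154181 IH) (Lpr_bt (K49.f154187 IH) (Lpr_gt (K49.f154188 IH) (Lpr_ct (f155312 IH) (Lpn (LP (LK LD1_c12 LD2_c21 LD3_c39)))))))))))))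
theorem f86421 : Led Lsl_ct (LP (LK LD1_c21 LD2_c5 LD3_c43)) = (LP (LK LD1_c12 LD2_c0 LD3_c33)) :=
  Lre_c IH (LK LD1_c21 LD2_c5 LD3_c43) (LK LD1_c12 LD2_c0 LD3_c33) Lrfl Lrfl
theorem f433853 : Led Lsl_at (LP (LK LD1_c12 LD2_c21 LD3_c3)) = (LP (LK LD1_c21 LD2_c27 LD3_c13)) :=
  Lre_a IH (LK LD1_c12 LD2_c21 LD3_c3) (LK LD1_c21 LD2_c27 LD3_c13) Lrfl Lrfl
theorem f433862 : Led Lsl_ct (LP (LK LD1_c30 LD2_c1 LD3_c31)) = (LP (LK LD1_c21 LD2_c27 LD3_c13)) :=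
  Lre_c IH (LK LD1_c30 LD2_c1 LD3_c31) (LK LD1_c21 LD2_c27 LD3_c13) Lrfl Lrfl
theorem f154630 : Led Lsl_df (LP (LK LD1_c3 LD2_c9 LD3_c44)) = (LP (LK LD1_c4 LD2_c42 LD3_c30)) :=
  Lgr Lrot12 (Lpr_bt (K11.f154395 IH) (Lpr_dt (K7.f154388 IH) (Lpr_bt (K49.f135514 IH) (Lpn (LP (LK LD1_c4 LD2_c42 LD3_c30))))))
theorem f433442 : Led Lsl_dt (LP (LK LD1_c6 LD2_c24 LD3_c6)) = (LP (LK LD1_c12 LD2_c21 LD3_c28)) :=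
  Lre_d IH (LK LD1_c6 LD2_c24 LD3_c6) (LK LD1_c12 LD2_c21 LD3_c28) Lrfl Lrfl
theorem f433081 : Led Lsl_ct (LP (LK LD1_c12 LD2_c21 LD3_c28)) = (LP (LK LD1_c21 LD2_c27 LD3_c59)) :=
  Lre_c IH (LK LD1_c12 LD2_c21 LD3_c28) (LK LD1_c21 LD2_c27 LD3_c59) Lrfl Lrfl
theorem f433863 : Led Lsl_df (LP (LK LD1_c30 LD2_c1 LD3_c31)) = (LP (LK LD1_c21 LD2_c27 LD3_c59)) :=
  Lgr Lrot177 (Lpr_ct (f433862 IH) (Lpe (f433853 IH) (Lpr_ff (K11.f433851 IH) (Lpr_dt (K11.f154408 IH) (Lpr_ct (K49.f153424 IH) (Lpe (f154630 IH) (Lpr_ct (K49.f154396 IH) (Lpr_dt (f433442 IH) (Lpr_ct (f433081 IH) (Lpn (LP (LK LD1_c21 LD2_c27 LD3_c59))))))))))))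
theorem f433821 : Led Lsl_dt (LP (LK LD1_c21 LD2_c27 LD3_c13)) = (LP (LK LD1_c12 LD2_c21 LD3_c2)) :=
  Lre_d IH (LK LD1_c21 LD2_c27 LD3_c13) (LK LD1_c12 LD2_c21 LD3_c2) Lrfl Lrfl
theorem f433758 : Led Lsl_ct (LP (LK LD1_c12 LD2_c21 LD3_c2)) = (LP (LK LD1_c6 LD2_c23 LD3_c61)) :=
  Lre_c IH (LK LD1_c12 LD2_c21 LD3_c2) (LK LD1_c6 LD2_c23 LD3_c61) Lrfl Lrfl
theorem f155159 : Led Lsl_bt (LP (LK LD1_c3 LD2_c9 LD3_c42)) = (LP (LK LD1_c6 LD2_c24 LD3_c6)) :=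
  Lre_b IH (LK LD1_c3 LD2_c9 LD3_c42) (LK LD1_c6 LD2_c24 LD3_c6) Lrfl Lrfl
theorem f154916 : Led Lsl_bt (LP (LK LD1_c7 LD2_c11 LD3_c38)) = (LP (LK LD1_c3 LD2_c35 LD3_c19)) :=
  Lre_b IH (LK LD1_c7 LD2_c11 LD3_c38) (LK LD1_c3 LD2_c35 LD3_c19) Lrfl Lrfl
theorem f433287 : Led Lsl_ft (LP (LK LD1_c6 LD2_c24 LD3_c6)) = (LP (LK LD1_c7 LD2_c11 LD3_c38)) :=
  Lgr Lrot75 (Lpe (f155159 IH) (Lpr_ff (K11.f433285 IH) (Lpe (f154916 IH) (Lpn (LP (LK LD1_c7 LD2_c11 LD3_c38))))))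
theorem f433279 : Led Lsl_at (LP (LK LD1_c7 LD2_c11 LD3_c38)) = (LP (LK LD1_c13 LD2_c37 LD3_c42)) :=
  Lre_a IH (LK LD1_c7 LD2_c11 LD3_c38) (LK LD1_c13 LD2_c37 LD3_c42) Lrfl Lrfl
theorem f433870 : Led Lsl_dt (LP (LK LD1_c6 LD2_c23 LD3_c61)) = (LP (LK LD1_c7 LD2_c11 LD3_c43)) :=
  Lgr Lrot120 (Lpe (f433758 IH) (Lpe (f433821 IH) (Lpe (f433862 IH) (Lpr_df (f433863 IH) (Lpe (f433081 IH) (Lpe (f433442 IH) (Lpr_ft (f433287 IH) (Lpr_at (f433279 IH) (Lpe (K49.f433482 IH) (Lpn (LP (LK LD1_c7 LD2_c11 LD3_c43))))))))))))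
theorem f433748 : Led Lsl_ct (LP (LK LD1_c17 LD2_c14 LD3_c45)) = (LP (LK LD1_c9 LD2_c19 LD3_c20)) :=
  Lre_c IH (LK LD1_c17 LD2_c14 LD3_c45) (LK LD1_c9 LD2_c19 LD3_c20) Lrfl Lrfl
theorem f433819 : Led Lsl_ff (LP (LK LD1_c6 LD2_c23 LD3_c61)) = (LP (LK LD1_c9 LD2_c19 LD3_c20)) :=
  Lgr Lrot23 (Lpr_ct (K49.f433644 IH) (Lpr_ft (K11.f433811 IH) (Lpr_ct (f433748 IH) (Lpn (LP (LK LD1_c9 LD2_c19 LD3_c20))))))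
theorem f433469 : Led Lsl_at (LP (LK LD1_c6 LD2_c24 LD3_c14)) = (LP (LK LD1_c3 LD2_c9 LD3_c44)) :=
  Lre_a IH (LK LD1_c6 LD2_c24 LD3_c14) (LK LD1_c3 LD2_c9 LD3_c44) Lrfl Lrfl
theorem f433471 : Led Lsl_ff (LP (LK LD1_c6 LD2_c24 LD3_c14)) = (LP (LK LD1_c7 LD2_c11 LD3_c43)) :=
  Lgr Lrot30 (Lpr_at (f433469 IH) (Lpr_ft (K11.f433458 IH) (Lpr_at (K49.f433470 IH) (Lpn (LP (LK LD1_c7 LD2_c11 LD3_c43))))))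
theorem f433874 : Led Lsl_df (LP (LK LD1_c9 LD2_c19 LD3_c20)) = (LP (LK LD1_c6 LD2_c24 LD3_c14)) :=
  Lgr Lrot78 (Lpe (f433819 IH) (Lpr_dt (f433870 IH) (Lpe (f433471 IH) (Lpn (LP (LK LD1_c6 LD2_c24 LD3_c14))))))
theorem f433876 : Led Lsl_dt (LP (LK LD1_c9 LD2_c19 LD3_c20)) = (LP (LK LD1_c6 LD2_c24 LD3_c14)) :=
  Lgr Lrot42 (Lpr_df (f433874 IH) (Lpn (LP (LK LD1_c6 LD2_c24 LD3_c14))))
theorem f433828 : Led Lsl_at (LP (LK LD1_c4 LD2_c42 LD3_c30)) = (LP (LK LD1_c9 LD2_c19 LD3_c20)) :=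
  Lre_a IH (LK LD1_c4 LD2_c42 LD3_c30) (LK LD1_c9 LD2_c19 LD3_c20) Lrfl Lrfl
theorem f433880 : Led Lsl_df (LP (LK LD1_c4 LD2_c42 LD3_c30)) = (LP (LK LD1_c3 LD2_c9 LD3_c44)) :=
  Lgr Lrot18 (Lpr_at (f433828 IH) (Lpr_dt (f433876 IH) (Lpr_at (f433469 IH) (Lpn (LP (LK LD1_c3 LD2_c9 LD3_c44))))))
theorem f84557 : Led Lsl_bt (LP (LK LD1_c12 LD2_c59 LD3_c3)) = (LP (LK LD1_c6 LD2_c48 LD3_c11)) :=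
  Lre_b IH (LK LD1_c12 LD2_c59 LD3_c3) (LK LD1_c6 LD2_c48 LD3_c11) Lrfl Lrfl
theorem f135515 : Led Lsl_ct (LP (LK LD1_c12 LD2_c59 LD3_c3)) = (LP (LK LD1_c22 LD2_c8 LD3_c61)) :=
  Lre_c IH (LK LD1_c12 LD2_c59 LD3_c3) (LK LD1_c22 LD2_c8 LD3_c61) Lrfl Lrfl
theorem f431528 : Led Lsl_gf (LP (LK LD1_c22 LD2_c8 LD3_c61)) = (LP (LK LD1_c13 LD2_c0 LD3_c10)) :=
  Lgr Lrot129 (Lpe (f135515 IH) (Lpr_bt (f84557 IH) (Lpr_gt (f84545 IH) (Lpe (K6.f84360 IH) (Lpr_ct (K6.f84091 IH) (Lpe (K24.f135496 IH) (Lpe (K7.f25897 IH) (Lpr_bt (K49.f135514 IH) (Lpr_gt (K49.f431523 IH) (Lpr_ct (K49.f57765 IH) (Lpn (LP (LK LD1_c13 LD2_c0 LD3_c10)))))))))))))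
theorem f84558 : Led Lsl_ct (LP (LK LD1_c22 LD2_c8 LD3_c61)) = (LP (LK LD1_c12 LD2_c59 LD3_c3)) :=
  Lre_c IH (LK LD1_c22 LD2_c8 LD3_c61) (LK LD1_c12 LD2_c59 LD3_c3) Lrfl Lrfl
theorem f435227 : Led Lsl_df (LP (LK LD1_c12 LD2_c0 LD3_c33)) = (LP (LK LD1_c12 LD2_c59 LD3_c3)) :=
  Lgr Lrot162 (Lpe (f86421 IH) (Lpr_gf (f435222 IH) (Lpe (f155312 IH) (Lpe (K49.f154188 IH) (Lpe (f433880 IH) (Lpr_gt (K49.f431523 IH) (Lpr_ct (K49.f57765 IH) (Lpe (f431528 IH) (Lpr_ct (f84558 IH) (Lpn (LP (LK LD1_c12 LD2_c59 LD3_c3))))))))))))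
theorem f435230 : Led Lsl_bt (LP (LK LD1_c6 LD2_c48 LD3_c11)) = (LP (LK LD1_c12 LD2_c59 LD3_c3)) :=
  Lre_b IH (LK LD1_c6 LD2_c48 LD3_c11) (LK LD1_c12 LD2_c59 LD3_c3) Lrfl Lrfl
theorem f435231 : Led Lsl_dt (LP (LK LD1_c6 LD2_c9 LD3_c46)) = (LP (LK LD1_c6 LD2_c48 LD3_c11)) :=
  Lgr Lrot79 (Lpe (f86420 IH) (Lpr_df (f435227 IH) (Lpe (f435230 IH) (Lpn (LP (LK LD1_c6 LD2_c48 LD3_c11))))))
theorem f435236 : Led Lsl_df (LP (LK LD1_c6 LD2_c9 LD3_c46)) = (LP (LK LD1_c6 LD2_c48 LD3_c11)) :=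
  Lgr Lrot38 (Lpr_dt (f435231 IH) (Lpn (LP (LK LD1_c6 LD2_c48 LD3_c11))))
def v16972 : LQ := Led Lsl_at (LP (LK LD1_c6 LD2_c9 LD3_c45))
theorem f753835 : Led Lsl_at (LP (LK LD1_c6 LD2_c9 LD3_c45)) = v16972 :=
  Lrfl
theorem f753836 : Led Lsl_af (LP (LK LD1_c6 LD2_c9 LD3_c45)) = v16972 :=
  Lgr Lrot0 (Lpr_at (f753835 IH) (Lpn v16972))
theorem f62564 : Led Lsl_gt (LP (LK LD1_c3 LD2_c1 LD3_c21)) = (LP (LK LD1_c6 LD2_c9 LD3_c45)) :=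
  Lre_g IH (LK LD1_c3 LD2_c1 LD3_c21) (LK LD1_c6 LD2_c9 LD3_c45) Lrfl Lrfl
theorem f753838 : Led Lsl_ft (LP (LK LD1_c6 LD2_c9 LD3_c46)) = v16972 :=
  Lgr Lrot2 (Lpr_gt (K6.f62561 IH) (Lpr_gt (f62564 IH) (Lpr_af (f753836 IH) (Lpn v16972))))
theorem f782817 : Led Lsl_dt v16972 = v19900 :=
  Lgr Lrot60 (Lpe (f753838 IH) (Lpr_df (f435236 IH) (Lpr_ff (f782816 IH) (Lpn v19900))))
def v16974 : LQ := Led Lsl_dt (LP (LK LD1_c6 LD2_c9 LD3_c45))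
theorem f753842 : Led Lsl_dt (LP (LK LD1_c6 LD2_c9 LD3_c45)) = v16974 :=
  Lrfl
theorem f753843 : Led Lsl_df (LP (LK LD1_c6 LD2_c9 LD3_c45)) = v16974 :=
  Lgr Lrot38 (Lpr_dt (f753842 IH) (Lpn v16974))
theorem f782818 : v16974 = (LP (LK LD1_c6 LD2_c48 LD3_c10)) :=
  (Llr Lrot18 (Lpe (f753843 IH) (Lpr_at (f753835 IH) (Lpr_dt (f782817 IH) (Lpe (f782812 IH) (Lpn (LP (LK LD1_c6 LD2_c48 LD3_c10)))))))).symm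
theorem f782819 : Led Lsl_dt (LP (LK LD1_c6 LD2_c48 LD3_c10)) = (LP (LK LD1_c6 LD2_c9 LD3_c45)) :=
  Leop (Lpr_df (f753843 IH) (Lpqs (f782818 IH) (Lpn (LP (LK LD1_c6 LD2_c48 LD3_c10)))))
theorem seed_1486 : LEOK LG_d (LK LD1_c6 LD2_c48 LD3_c10) :=
  Leoe_d (LK LD1_c6 LD2_c48 LD3_c10) (f782819 IH)
def v19928 : LQ := Led Lsl_at (LP (LK LD1_c6 LD2_c48 LD3_c35))
theorem f782934 : Led Lsl_at (LP (LK LD1_c6 LD2_c48 LD3_c35)) = v19928 :=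
  Lrfl
theorem f782935 : Led Lsl_af (LP (LK LD1_c6 LD2_c48 LD3_c35)) = v19928 :=
  Lgr Lrot0 (Lpr_at (f782934 IH) (Lpn v19928))
theorem f84537 : Led Lsl_gt (LP (LK LD1_c6 LD2_c48 LD3_c36)) = (LP (LK LD1_c3 LD2_c22 LD3_c25)) :=
  Lre_g IH (LK LD1_c6 LD2_c48 LD3_c36) (LK LD1_c3 LD2_c22 LD3_c25) Lrfl Lrfl
theorem f782936 : Led Lsl_ft (LP (LK LD1_c6 LD2_c48 LD3_c36)) = v19928 :=
  Lgr Lrot2 (Lpr_gt (f84537 IH) (Lpr_gt (K57.f25636 IH) (Lpr_af (f782935 IH) (Lpn v19928))))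
theorem f782938 : Led Lsl_ff (LP (LK LD1_c6 LD2_c48 LD3_c36)) = v19928 :=
  Lgr Lrot3 (Lpr_ft (f782936 IH) (Lpn v19928))
theorem f57722 : Led Lsl_bt (LP (LK LD1_c12 LD2_c59 LD3_c42)) = (LP (LK LD1_c6 LD2_c48 LD3_c36)) :=
  Lre_b IH (LK LD1_c12 LD2_c59 LD3_c42) (LK LD1_c6 LD2_c48 LD3_c36) Lrfl Lrfl
theorem f57723 : Led Lsl_bt (LP (LK LD1_c6 LD2_c9 LD3_c29)) = (LP (LK LD1_c12 LD2_c0 LD3_c0)) :=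
  Lre_b IH (LK LD1_c6 LD2_c9 LD3_c29) (LK LD1_c12 LD2_c0 LD3_c0) Lrfl Lrfl
theorem f57724 : Led Lsl_dt (LP (LK LD1_c6 LD2_c48 LD3_c36)) = (LP (LK LD1_c6 LD2_c9 LD3_c29)) :=
  Lgr Lrot79 (Lpe (f57722 IH) (Lpr_df (K1.f57713 IH) (Lpe (f57723 IH) (Lpn (LP (LK LD1_c6 LD2_c9 LD3_c29))))))
def v16963 : LQ := Led Lsl_at (LP (LK LD1_c6 LD2_c9 LD3_c28))
theorem f753794 : Led Lsl_at (LP (LK LD1_c6 LD2_c9 LD3_c28)) = v16963 :=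
  Lrfl
theorem f753795 : Led Lsl_af (LP (LK LD1_c6 LD2_c9 LD3_c28)) = v16963 :=
  Lgr Lrot0 (Lpr_at (f753794 IH) (Lpn v16963))
theorem f24729 : Led Lsl_gt (LP (LK LD1_c3 LD2_c1 LD3_c11)) = (LP (LK LD1_c6 LD2_c9 LD3_c28)) :=
  Lre_g IH (LK LD1_c3 LD2_c1 LD3_c11) (LK LD1_c6 LD2_c9 LD3_c28) Lrfl Lrfl
theorem f753797 : Led Lsl_ft (LP (LK LD1_c6 LD2_c9 LD3_c29)) = v16963 :=
  Lgr Lrot2 (Lpr_gt (K1.f24726 IH) (Lpr_gt (f24729 IH) (Lpr_af (f753795 IH) (Lpn v16963))))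
theorem f782939 : Led Lsl_dt v16963 = v19928 :=
  Lgr Lrot60 (Lpe (f753797 IH) (Lpe (f57724 IH) (Lpr_ff (f782938 IH) (Lpn v19928))))
def v16964 : LQ := Led Lsl_dt (LP (LK LD1_c6 LD2_c9 LD3_c28))
theorem f753799 : Led Lsl_dt (LP (LK LD1_c6 LD2_c9 LD3_c28)) = v16964 :=
  Lrfl
theorem f753800 : Led Lsl_df (LP (LK LD1_c6 LD2_c9 LD3_c28)) = v16964 :=
  Lgr Lrot38 (Lpr_dt (f753799 IH) (Lpn v16964))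
theorem f782940 : v16964 = (LP (LK LD1_c6 LD2_c48 LD3_c35)) :=
  (Llr Lrot18 (Lpe (f753800 IH) (Lpr_at (f753794 IH) (Lpr_dt (f782939 IH) (Lpe (f782935 IH) (Lpn (LP (LK LD1_c6 LD2_c48 LD3_c35)))))))).symm
theorem f782941 : Led Lsl_dt (LP (LK LD1_c6 LD2_c48 LD3_c35)) = (LP (LK LD1_c6 LD2_c9 LD3_c28)) :=
  Leop (Lpr_df (f753800 IH) (Lpqs (f782940 IH) (Lpn (LP (LK LD1_c6 LD2_c48 LD3_c35)))))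
theorem seed_1487 : LEOK LG_d (LK LD1_c6 LD2_c48 LD3_c35) :=
  Leoe_d (LK LD1_c6 LD2_c48 LD3_c35) (f782941 IH)
theorem f25429 : Led Lsl_bt (LP (LK LD1_c11 LD2_c59 LD3_c59)) = (LP (LK LD1_c6 LD2_c9 LD3_c28)) :=
  Lre_b IH (LK LD1_c11 LD2_c59 LD3_c59) (LK LD1_c6 LD2_c9 LD3_c28) Lrfl Lrfl
theorem f67136 : Led Lsl_bt (LP (LK LD1_c1 LD2_c30 LD3_c50)) = (LP (LK LD1_c0 LD2_c41 LD3_c55)) :=
  Lre_b IH (LK LD1_c1 LD2_c30 LD3_c50) (LK LD1_c0 LD2_c41 LD3_c55) Lrfl Lrfl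
theorem f67123 : Led Lsl_ct (LP (LK LD1_c1 LD2_c30 LD3_c50)) = (LP (LK LD1_c3 LD2_c8 LD3_c11)) :=
  Lre_c IH (LK LD1_c1 LD2_c30 LD3_c50) (LK LD1_c3 LD2_c8 LD3_c11) Lrfl Lrfl
theorem f84016 : Led Lsl_gt (LP (LK LD1_c6 LD2_c21 LD3_c2)) = (LP (LK LD1_c3 LD2_c8 LD3_c11)) :=
  Lre_g IH (LK LD1_c6 LD2_c21 LD3_c2) (LK LD1_c3 LD2_c8 LD3_c11) Lrfl Lrfl
theorem f84017 : Led Lsl_ct (LP (LK LD1_c12 LD2_c16 LD3_c7)) = (LP (LK LD1_c6 LD2_c21 LD3_c2)) :=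
  Lre_c IH (LK LD1_c12 LD2_c16 LD3_c7) (LK LD1_c6 LD2_c21 LD3_c2) Lrfl Lrfl
theorem f84018 : Led Lsl_bf (LP (LK LD1_c6 LD2_c48 LD3_c35)) = (LP (LK LD1_c12 LD2_c16 LD3_c7)) :=
  Lgr Lrot34 (Lpe (K57.f25636 IH) (Lpe (K6.f25635 IH) (Lpr_ct (K2.f25634 IH) (Lpe (K11.f25621 IH) (Lpe (K1.f25614 IH) (Lpr_gf (K2.f83939 IH) (Lpe (f67136 IH) (Lpr_ct (f67123 IH) (Lpe (f84016 IH) (Lpe (f84017 IH) (Lpn (LP (LK LD1_c12 LD2_c16 LD3_c7)))))))))))))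
theorem f84047 : Led Lsl_bt (LP (LK LD1_c6 LD2_c48 LD3_c35)) = (LP (LK LD1_c12 LD2_c16 LD3_c7)) :=
  Lgr Lrot127 (Lpr_bf (f84018 IH) (Lpn (LP (LK LD1_c12 LD2_c16 LD3_c7))))
theorem f782943 : Led Lsl_df (LP (LK LD1_c11 LD2_c59 LD3_c59)) = (LP (LK LD1_c12 LD2_c16 LD3_c7)) :=
  Lgr Lrot12 (Lpr_bt (f25429 IH) (Lpr_dt (f753799 IH) (Lpqs (f782940 IH) (Lpr_bt (f84047 IH) (Lpn (LP (LK LD1_c12 LD2_c16 LD3_c7)))))))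
theorem f25430 : Led Lsl_bt (LP (LK LD1_c3 LD2_c22 LD3_c30)) = (LP (LK LD1_c1 LD2_c37 LD3_c31)) :=
  Lre_b IH (LK LD1_c3 LD2_c22 LD3_c30) (LK LD1_c1 LD2_c37 LD3_c31) Lrfl Lrfl
theorem f25432 : Led Lsl_gt (LP (LK LD1_c12 LD2_c59 LD3_c55)) = (LP (LK LD1_c6 LD2_c48 LD3_c48)) :=
  Lre_g IH (LK LD1_c12 LD2_c59 LD3_c55) (LK LD1_c6 LD2_c48 LD3_c48) Lrfl Lrfl
theorem f25433 : Led Lsl_ct (LP (LK LD1_c11 LD2_c59 LD3_c59)) = (LP (LK LD1_c12 LD2_c59 LD3_c55)) :=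
  Lgr Lrot64 (Lpr_bt (f25429 IH) (Lpe (f24729 IH) (Lpe (K1.f24736 IH) (Lpr_ct (K1.f21038 IH) (Lpr_gf (K2.f25411 IH) (Lpe (K0.f7433 IH) (Lpe (K7.f25414 IH) (Lpe (f25430 IH) (Lpr_ct (K16.f25431 IH) (Lpe (f25432 IH) (Lpn (LP (LK LD1_c12 LD2_c59 LD3_c55)))))))))))))
theorem f25459 : Led Lsl_cf (LP (LK LD1_c11 LD2_c59 LD3_c59)) = (LP (LK LD1_c12 LD2_c59 LD3_c55)) :=
  Lgr Lrot11 (Lpr_ct (f25433 IH) (Lpn (LP (LK LD1_c12 LD2_c59 LD3_c55))))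
theorem f154455 : Led Lsl_at (LP (LK LD1_c12 LD2_c59 LD3_c53)) = (LP (LK LD1_c6 LD2_c48 LD3_c48)) :=
  Lre_a IH (LK LD1_c12 LD2_c59 LD3_c53) (LK LD1_c6 LD2_c48 LD3_c48) Lrfl Lrfl
theorem f154456 : Led Lsl_at (LP (LK LD1_c4 LD2_c41 LD3_c60)) = (LP (LK LD1_c9 LD2_c18 LD3_c27)) :=
  Lre_a IH (LK LD1_c4 LD2_c41 LD3_c60) (LK LD1_c9 LD2_c18 LD3_c27) Lrfl Lrfl
theorem f154457 : Led Lsl_ff (LP (LK LD1_c12 LD2_c59 LD3_c53)) = (LP (LK LD1_c9 LD2_c18 LD3_c27)) :=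
  Lgr Lrot30 (Lpr_at (f154455 IH) (Lpr_ft (K16.f154445 IH) (Lpr_at (f154456 IH) (Lpn (LP (LK LD1_c9 LD2_c18 LD3_c27))))))
theorem f154616 : Led Lsl_gf (LP (LK LD1_c12 LD2_c59 LD3_c55)) = (LP (LK LD1_c9 LD2_c18 LD3_c27)) :=
  Lgr Lrot47 (Lpr_gt (f25432 IH) (Lpe (f154455 IH) (Lpr_ff (f154457 IH) (Lpn (LP (LK LD1_c9 LD2_c18 LD3_c27))))))
theorem f154467 : Led Lsl_ct (LP (LK LD1_c4 LD2_c42 LD3_c26)) = (LP (LK LD1_c9 LD2_c18 LD3_c27)) :=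
  Lre_c IH (LK LD1_c4 LD2_c42 LD3_c26) (LK LD1_c9 LD2_c18 LD3_c27) Lrfl Lrfl
def v6477 : LQ := Led Lsl_gt (LP (LK LD1_c3 LD2_c22 LD3_c30))
theorem f653565 : Led Lsl_gt (LP (LK LD1_c3 LD2_c22 LD3_c30)) = v6477 :=
  Lrfl
theorem f152641 : Led Lsl_bt (LP (LK LD1_c1 LD2_c37 LD3_c31)) = (LP (LK LD1_c3 LD2_c22 LD3_c30)) :=
  Lre_b IH (LK LD1_c1 LD2_c37 LD3_c31) (LK LD1_c3 LD2_c22 LD3_c30) Lrfl Lrfl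
theorem f154415 : Led Lsl_ft (LP (LK LD1_c3 LD2_c22 LD3_c30)) = (LP (LK LD1_c2 LD2_c18 LD3_c34)) :=
  Lgr Lrot75 (Lpe (f152641 IH) (Lpr_ff (K16.f154413 IH) (Lpe (K3.f82861 IH) (Lpn (LP (LK LD1_c2 LD2_c18 LD3_c34))))))
theorem f154490 : Led Lsl_at (LP (LK LD1_c2 LD2_c18 LD3_c34)) = (LP (LK LD1_c4 LD2_c42 LD3_c26)) :=
  Lre_a IH (LK LD1_c2 LD2_c18 LD3_c34) (LK LD1_c4 LD2_c42 LD3_c26) Lrfl Lrfl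
theorem f653566 : Led Lsl_gf (LP (LK LD1_c4 LD2_c42 LD3_c26)) = v6477 :=
  Lgr Lrot76 (Lpe (f154490 IH) (Lpe (f154415 IH) (Lpr_gt (f653565 IH) (Lpn v6477))))
theorem f84049 : Led Lsl_ct (LP (LK LD1_c6 LD2_c21 LD3_c2)) = (LP (LK LD1_c12 LD2_c16 LD3_c7)) :=
  Lre_c IH (LK LD1_c6 LD2_c21 LD3_c2) (LK LD1_c12 LD2_c16 LD3_c7) Lrfl Lrfl
theorem f761272 : Led Lsl_gf (LP (LK LD1_c6 LD2_c21 LD3_c2)) = K57.v17644 :=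
  Lgr Lrot47 (Lpr_gt (f84016 IH) (Lpe (K57.f504568 IH) (Lpr_ff (K57.f761269 IH) (Lpn K57.v17644))))
theorem f153888 : Led Lsl_gt (LP (LK LD1_c3 LD2_c9 LD3_c22)) = (LP (LK LD1_c6 LD2_c23 LD3_c25)) :=
  Lre_g IH (LK LD1_c3 LD2_c9 LD3_c22) (LK LD1_c6 LD2_c23 LD3_c25) Lrfl Lrfl
theorem f153924 : Led Lsl_dt (LP (LK LD1_c6 LD2_c23 LD3_c29)) = (LP (LK LD1_c3 LD2_c9 LD3_c22)) :=
  Lre_d IH (LK LD1_c6 LD2_c23 LD3_c29) (LK LD1_c3 LD2_c9 LD3_c22) Lrfl Lrfl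
theorem f782947 : v6477 = (LP (LK LD1_c6 LD2_c23 LD3_c29)) :=
  (Llr Lrot147 (Lpe (f653566 IH) (Lpr_ct (f154467 IH) (Lpe (f154616 IH) (Lpe (f25459 IH) (Lpr_df (f782943 IH) (Lpe (f84049 IH) (Lpr_gf (f761272 IH) (Lpe (K57.f761270 IH) (Lpe (f153888 IH) (Lpe (f153924 IH) (Lpn (LP (LK LD1_c6 LD2_c23 LD3_c29)))))))))))))).symm
theorem f782949 : Led Lsl_gt (LP (LK LD1_c6 LD2_c23 LD3_c29)) = (LP (LK LD1_c4 LD2_c42 LD3_c26)) :=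
  Leop (Lpr_gf (f653566 IH) (Lpqs (f782947 IH) (Lpn (LP (LK LD1_c6 LD2_c23 LD3_c29)))))
theorem seed_1488 : LEOK LG_g (LK LD1_c6 LD2_c23 LD3_c29) :=
  Leoe_g (LK LD1_c6 LD2_c23 LD3_c29) (f782949 IH)
def v19955 : LQ := Led Lsl_ft (LP (LK LD1_c6 LD2_c48 LD3_c56))
theorem f783318 : Led Lsl_ft (LP (LK LD1_c6 LD2_c48 LD3_c56)) = v19955 :=
  Lrfl
theorem f783321 : Led Lsl_ff (LP (LK LD1_c6 LD2_c48 LD3_c56)) = v19955 :=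
  Lgr Lrot3 (Lpr_ft (f783318 IH) (Lpn v19955))
theorem f25425 : Led Lsl_bt (LP (LK LD1_c6 LD2_c48 LD3_c56)) = (LP (LK LD1_c3 LD2_c22 LD3_c33)) :=
  Lre_b IH (LK LD1_c6 LD2_c48 LD3_c56) (LK LD1_c3 LD2_c22 LD3_c33) Lrfl Lrfl
def v6480 : LQ := Led Lsl_at (LP (LK LD1_c3 LD2_c22 LD3_c32))
theorem f653571 : Led Lsl_at (LP (LK LD1_c3 LD2_c22 LD3_c32)) = v6480 :=
  Lrfl
theorem f653572 : Led Lsl_af (LP (LK LD1_c3 LD2_c22 LD3_c32)) = v6480 :=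
  Lgr Lrot0 (Lpr_at (f653571 IH) (Lpn v6480))
theorem f25424 : Led Lsl_gt (LP (LK LD1_c3 LD2_c22 LD3_c33)) = (LP (LK LD1_c1 LD2_c37 LD3_c32)) :=
  Lre_g IH (LK LD1_c3 LD2_c22 LD3_c33) (LK LD1_c1 LD2_c37 LD3_c32) Lrfl Lrfl
theorem f653573 : Led Lsl_ft (LP (LK LD1_c3 LD2_c22 LD3_c33)) = v6480 :=
  Lgr Lrot2 (Lpr_gt (f25424 IH) (Lpr_gt (K1.f57709 IH) (Lpr_af (f653572 IH) (Lpn v6480))))
theorem f783323 : Led Lsl_bt v6480 = v19955 :=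
  Lgr Lrot35 (Lpe (f653573 IH) (Lpe (f25425 IH) (Lpr_ff (f783321 IH) (Lpn v19955))))
theorem f84071 : Led Lsl_at (LP (LK LD1_c13 LD2_c0 LD3_c2)) = (LP (LK LD1_c6 LD2_c48 LD3_c52)) :=
  Lre_a IH (LK LD1_c13 LD2_c0 LD3_c2) (LK LD1_c6 LD2_c48 LD3_c52) Lrfl Lrfl
theorem f653583 : Led Lsl_at (LP (LK LD1_c13 LD2_c0 LD3_c16)) = (LP (LK LD1_c6 LD2_c48 LD3_c56)) :=
  Lre_a IH (LK LD1_c13 LD2_c0 LD3_c16) (LK LD1_c6 LD2_c48 LD3_c56) Lrfl Lrfl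
theorem f67872 : Led Lsl_at (LP (LK LD1_c21 LD2_c34 LD3_c36)) = (LP (LK LD1_c12 LD2_c27 LD3_c14)) :=
  Lre_a IH (LK LD1_c21 LD2_c34 LD3_c36) (LK LD1_c12 LD2_c27 LD3_c14) Lrfl Lrfl
theorem f67701 : Led Lsl_bt (LP (LK LD1_c6 LD2_c27 LD3_c50)) = (LP (LK LD1_c12 LD2_c26 LD3_c61)) :=
  Lre_b IH (LK LD1_c6 LD2_c27 LD3_c50) (LK LD1_c12 LD2_c26 LD3_c61) Lrfl Lrfl
theorem f67813 : Led Lsl_ff (LP (LK LD1_c12 LD2_c12 LD3_c42)) = (LP (LK LD1_c12 LD2_c26 LD3_c61)) :=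
  Lgr Lrot25 (Lpr_bt (K7.f67812 IH) (Lpr_ft (K46.f67726 IH) (Lpr_bt (f67701 IH) (Lpn (LP (LK LD1_c12 LD2_c26 LD3_c61))))))
theorem f67826 : Led Lsl_ft (LP (LK LD1_c12 LD2_c12 LD3_c42)) = (LP (LK LD1_c12 LD2_c26 LD3_c61)) :=
  Lgr Lrot48 (Lpr_ff (f67813 IH) (Lpn (LP (LK LD1_c12 LD2_c26 LD3_c61))))
theorem f67841 : Led Lsl_dt (LP (LK LD1_c21 LD2_c18 LD3_c32)) = (LP (LK LD1_c12 LD2_c12 LD3_c42)) :=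
  Lre_d IH (LK LD1_c21 LD2_c18 LD3_c32) (LK LD1_c12 LD2_c12 LD3_c42) Lrfl Lrfl
theorem f67700 : Led Lsl_bt (LP (LK LD1_c21 LD2_c19 LD3_c27)) = (LP (LK LD1_c12 LD2_c13 LD3_c29)) :=
  Lre_b IH (LK LD1_c21 LD2_c19 LD3_c27) (LK LD1_c12 LD2_c13 LD3_c29) Lrfl Lrfl
theorem f67702 : Led Lsl_df (LP (LK LD1_c21 LD2_c19 LD3_c27)) = (LP (LK LD1_c12 LD2_c26 LD3_c61)) :=
  Lgr Lrot12 (Lpr_bt (f67700 IH) (Lpr_dt (K2.f67695 IH) (Lpr_bt (f67701 IH) (Lpn (LP (LK LD1_c12 LD2_c26 LD3_c61))))))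
theorem f67842 : Led Lsl_ff (LP (LK LD1_c21 LD2_c18 LD3_c32)) = (LP (LK LD1_c21 LD2_c19 LD3_c27)) :=
  Lgr Lrot19 (Lpr_dt (f67841 IH) (Lpr_ft (f67826 IH) (Lpe (f67702 IH) (Lpn (LP (LK LD1_c21 LD2_c19 LD3_c27))))))
theorem f67850 : Led Lsl_at (LP (LK LD1_c21 LD2_c18 LD3_c32)) = (LP (LK LD1_c29 LD2_c57 LD3_c53)) :=
  Lre_a IH (LK LD1_c21 LD2_c18 LD3_c32) (LK LD1_c29 LD2_c57 LD3_c53) Lrfl Lrfl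
theorem f67851 : Led Lsl_at (LP (LK LD1_c29 LD2_c58 LD3_c28)) = (LP (LK LD1_c21 LD2_c19 LD3_c27)) :=
  Lre_a IH (LK LD1_c29 LD2_c58 LD3_c28) (LK LD1_c21 LD2_c19 LD3_c27) Lrfl Lrfl
theorem f67852 : Led Lsl_ft (LP (LK LD1_c29 LD2_c57 LD3_c53)) = (LP (LK LD1_c29 LD2_c58 LD3_c28)) :=
  Lgr Lrot101 (Lpe (f67850 IH) (Lpr_ff (f67842 IH) (Lpe (f67851 IH) (Lpn (LP (LK LD1_c29 LD2_c58 LD3_c28))))))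
theorem f67831 : Led Lsl_dt (LP (LK LD1_c21 LD2_c18 LD3_c31)) = (LP (LK LD1_c29 LD2_c57 LD3_c53)) :=
  Lre_d IH (LK LD1_c21 LD2_c18 LD3_c31) (LK LD1_c29 LD2_c57 LD3_c53) Lrfl Lrfl
theorem f67836 : Led Lsl_at (LP (LK LD1_c21 LD2_c18 LD3_c31)) = (LP (LK LD1_c12 LD2_c12 LD3_c42)) :=
  Lre_a IH (LK LD1_c21 LD2_c18 LD3_c31) (LK LD1_c12 LD2_c12 LD3_c42) Lrfl Lrfl
theorem f67837 : Led Lsl_at (LP (LK LD1_c12 LD2_c26 LD3_c61)) = (LP (LK LD1_c21 LD2_c34 LD3_c14)) :=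
  Lre_a IH (LK LD1_c12 LD2_c26 LD3_c61) (LK LD1_c21 LD2_c34 LD3_c14) Lrfl Lrfl
theorem f67838 : Led Lsl_ff (LP (LK LD1_c21 LD2_c18 LD3_c31)) = (LP (LK LD1_c21 LD2_c34 LD3_c14)) :=
  Lgr Lrot30 (Lpr_at (f67836 IH) (Lpr_ft (f67826 IH) (Lpr_at (f67837 IH) (Lpn (LP (LK LD1_c21 LD2_c34 LD3_c14))))))
theorem f67859 : Led Lsl_df (LP (LK LD1_c21 LD2_c34 LD3_c14)) = (LP (LK LD1_c29 LD2_c58 LD3_c28)) :=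
  Lgr Lrot78 (Lpe (f67838 IH) (Lpr_dt (f67831 IH) (Lpr_ft (f67852 IH) (Lpn (LP (LK LD1_c29 LD2_c58 LD3_c28))))))
theorem f67581 : Led Lsl_bt (LP (LK LD1_c21 LD2_c34 LD3_c14)) = (LP (LK LD1_c12 LD2_c27 LD3_c13)) :=
  Lre_b IH (LK LD1_c21 LD2_c34 LD3_c14) (LK LD1_c12 LD2_c27 LD3_c13) Lrfl Lrfl
theorem f67576 : Led Lsl_dt (LP (LK LD1_c12 LD2_c27 LD3_c13)) = (LP (LK LD1_c21 LD2_c34 LD3_c36)) :=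
  Lre_d IH (LK LD1_c12 LD2_c27 LD3_c13) (LK LD1_c21 LD2_c34 LD3_c36) Lrfl Lrfl
theorem f67868 : Led Lsl_bt (LP (LK LD1_c21 LD2_c34 LD3_c36)) = (LP (LK LD1_c29 LD2_c58 LD3_c28)) :=
  Lgr Lrot95 (Lpe (f67576 IH) (Lpe (f67581 IH) (Lpr_df (f67859 IH) (Lpn (LP (LK LD1_c29 LD2_c58 LD3_c28))))))
theorem f67861 : Led Lsl_ff (LP (LK LD1_c29 LD2_c57 LD3_c53)) = (LP (LK LD1_c29 LD2_c58 LD3_c28)) :=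
  Lgr Lrot3 (Lpr_ft (f67852 IH) (Lpn (LP (LK LD1_c29 LD2_c58 LD3_c28))))
theorem f67865 : Led Lsl_bt (LP (LK LD1_c29 LD2_c57 LD3_c53)) = (LP (LK LD1_c21 LD2_c19 LD3_c24)) :=
  Lre_b IH (LK LD1_c29 LD2_c57 LD3_c53) (LK LD1_c21 LD2_c19 LD3_c24) Lrfl Lrfl
theorem f67870 : Led Lsl_ff (LP (LK LD1_c21 LD2_c34 LD3_c36)) = (LP (LK LD1_c21 LD2_c19 LD3_c24)) :=
  Lgr Lrot25 (Lpr_bt (f67868 IH) (Lpe (f67861 IH) (Lpr_bt (f67865 IH) (Lpn (LP (LK LD1_c21 LD2_c19 LD3_c24))))))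
theorem f765792 : Led Lsl_gf (LP (LK LD1_c21 LD2_c24 LD3_c35)) = (LP (LK LD1_c21 LD2_c19 LD3_c24)) :=
  Lgr Lrot47 (Lpr_gt (K57.f765790 IH) (Lpe (f67872 IH) (Lpr_ff (f67870 IH) (Lpn (LP (LK LD1_c21 LD2_c19 LD3_c24))))))
theorem f431547 : Led Lsl_dt (LP (LK LD1_c21 LD2_c24 LD3_c35)) = (LP (LK LD1_c12 LD2_c18 LD3_c43)) :=
  Lre_d IH (LK LD1_c21 LD2_c24 LD3_c35) (LK LD1_c12 LD2_c18 LD3_c43) Lrfl Lrfl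
theorem f84086 : Led Lsl_gt (LP (LK LD1_c13 LD2_c0 LD3_c1)) = (LP (LK LD1_c6 LD2_c48 LD3_c52)) :=
  Lre_g IH (LK LD1_c13 LD2_c0 LD3_c1) (LK LD1_c6 LD2_c48 LD3_c52) Lrfl Lrfl
theorem f57669 : Led Lsl_bt (LP (LK LD1_c12 LD2_c12 LD3_c13)) = (LP (LK LD1_c6 LD2_c17 LD3_c61)) :=
  Lre_b IH (LK LD1_c12 LD2_c12 LD3_c13) (LK LD1_c6 LD2_c17 LD3_c61) Lrfl Lrfl
theorem f67928 : Led Lsl_gt (LP (LK LD1_c12 LD2_c27 LD3_c12)) = (LP (LK LD1_c6 LD2_c27 LD3_c57)) :=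
  Lre_g IH (LK LD1_c12 LD2_c27 LD3_c12) (LK LD1_c6 LD2_c27 LD3_c57) Lrfl Lrfl
theorem f84110 : Led Lsl_ct (LP (LK LD1_c12 LD2_c12 LD3_c13)) = (LP (LK LD1_c12 LD2_c27 LD3_c12)) :=
  Lgr Lrot64 (Lpr_bt (f57669 IH) (Lpe (K1.f57662 IH) (Lpe (K1.f25639 IH) (Lpr_ct (K1.f25614 IH) (Lpr_gf (K1.f57600 IH) (Lpe (K1.f21038 IH) (Lpr_gf (K2.f84095 IH) (Lpe (K2.f67414 IH) (Lpr_ct (K2.f67593 IH) (Lpe (f67928 IH) (Lpn (LP (LK LD1_c12 LD2_c27 LD3_c12)))))))))))))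
theorem f57717 : Led Lsl_gt (LP (LK LD1_c21 LD2_c17 LD3_c56)) = (LP (LK LD1_c12 LD2_c12 LD3_c13)) :=
  Lre_g IH (LK LD1_c21 LD2_c17 LD3_c56) (LK LD1_c12 LD2_c12 LD3_c13) Lrfl Lrfl
theorem f84117 : Led Lsl_dt (LP (LK LD1_c21 LD2_c17 LD3_c56)) = (LP (LK LD1_c13 LD2_c0 LD3_c1)) :=
  Lgr Lrot6 (Lpr_gt (f57717 IH) (Lpr_ct (f84110 IH) (Lpr_gt (f67928 IH) (Lpr_ct (K2.f67534 IH) (Lpr_df (K2.f67416 IH) (Lpe (K57.f67931 IH) (Lpe (K2.f68082 IH) (Lpe (K2.f84069 IH) (Lpe (f84086 IH) (Lpn (LP (LK LD1_c13 LD2_c0 LD3_c1))))))))))))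
theorem f67549 : Led Lsl_dt (LP (LK LD1_c12 LD2_c13 LD3_c25)) = (LP (LK LD1_c21 LD2_c19 LD3_c24)) :=
  Lre_d IH (LK LD1_c12 LD2_c13 LD3_c25) (LK LD1_c21 LD2_c19 LD3_c24) Lrfl Lrfl
theorem f765800 : Led Lsl_gf (LP (LK LD1_c21 LD2_c17 LD3_c56)) = (LP (LK LD1_c12 LD2_c20 LD3_c25)) :=
  Lgr Lrot144 (Lpr_dt (f84117 IH) (Lpr_gt (f84086 IH) (Lpr_dt (K49.f84154 IH) (Lpe (K49.f431543 IH) (Lpe (f431547 IH) (Lpr_gf (f765792 IH) (Lpe (f67549 IH) (Lpr_gf (K57.f67599 IH) (Lpr_cf (K57.f762563 IH) (Lpn (LP (LK LD1_c12 LD2_c20 LD3_c25))))))))))))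
theorem f762609 : Led Lsl_ft (LP (LK LD1_c6 LD2_c23 LD3_c32)) = (LP (LK LD1_c12 LD2_c20 LD3_c9)) :=
  Lre_f IH (LK LD1_c6 LD2_c23 LD3_c32) (LK LD1_c12 LD2_c20 LD3_c9) Lrfl Lrfl
theorem f765802 : Led Lsl_af (LP (LK LD1_c21 LD2_c17 LD3_c56)) = (LP (LK LD1_c12 LD2_c20 LD3_c9)) :=
  Lgr Lrot31 (Lpr_gf (f765800 IH) (Lpe (K57.f67117 IH) (Lpr_ft (f762609 IH) (Lpn (LP (LK LD1_c12 LD2_c20 LD3_c9))))))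
theorem f762519 : Led Lsl_bt (LP (LK LD1_c6 LD2_c23 LD3_c26)) = (LP (LK LD1_c12 LD2_c20 LD3_c9)) :=
  Lre_b IH (LK LD1_c6 LD2_c23 LD3_c26) (LK LD1_c12 LD2_c20 LD3_c9) Lrfl Lrfl
theorem f86423 : Led Lsl_bt (LP (LK LD1_c6 LD2_c23 LD3_c27)) = (LP (LK LD1_c3 LD2_c9 LD3_c22)) :=
  Lre_b IH (LK LD1_c6 LD2_c23 LD3_c27) (LK LD1_c3 LD2_c9 LD3_c22) Lrfl Lrfl
theorem f765806 : Led Lsl_at (LP (LK LD1_c12 LD2_c20 LD3_c12)) = (LP (LK LD1_c6 LD2_c23 LD3_c27)) :=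
  Lre_a IH (LK LD1_c12 LD2_c20 LD3_c12) (LK LD1_c6 LD2_c23 LD3_c27) Lrfl Lrfl
theorem f765807 : Led Lsl_bt (LP (LK LD1_c21 LD2_c17 LD3_c56)) = (LP (LK LD1_c12 LD2_c20 LD3_c12)) :=
  Lgr Lrot62 (Lpr_af (f765802 IH) (Lpe (f762519 IH) (Lpe (K57.f648122 IH) (Lpe (f86423 IH) (Lpe (f765806 IH) (Lpn (LP (LK LD1_c12 LD2_c20 LD3_c12))))))))
theorem f67405 : Led Lsl_dt (LP (LK LD1_c3 LD2_c11 LD3_c53)) = (LP (LK LD1_c3 LD2_c11 LD3_c44)) :=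
  Lgr Lrot79 (Lpe (K2.f67403 IH) (Lpr_df (K2.f67401 IH) (Lpe (K2.f67404 IH) (Lpn (LP (LK LD1_c3 LD2_c11 LD3_c44))))))
theorem f84119 : Led Lsl_df (LP (LK LD1_c21 LD2_c17 LD3_c56)) = (LP (LK LD1_c13 LD2_c0 LD3_c1)) :=
  Lgr Lrot155 (Lpr_gt (f57717 IH) (Lpr_ct (f84110 IH) (Lpr_gt (f67928 IH) (Lpr_ct (K2.f67534 IH) (Lpr_dt (f67405 IH) (Lpe (K57.f67931 IH) (Lpe (K2.f68082 IH) (Lpe (K2.f84069 IH) (Lpe (f84086 IH) (Lpn (LP (LK LD1_c13 LD2_c0 LD3_c1))))))))))))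
theorem f57861 : Led Lsl_dt (LP (LK LD1_c9 LD2_c28 LD3_c23)) = (LP (LK LD1_c4 LD2_c47 LD3_c41)) :=
  Lre_d IH (LK LD1_c9 LD2_c28 LD3_c23) (LK LD1_c4 LD2_c47 LD3_c41) Lrfl Lrfl
theorem f57866 : Led Lsl_ft (LP (LK LD1_c9 LD2_c28 LD3_c23)) = (LP (LK LD1_c12 LD2_c11 LD3_c54)) :=
  Lgr Lrot142 (Lpr_dt (f57861 IH) (Lpr_ct (K49.f57860 IH) (Lpe (K1.f7484 IH) (Lpr_ct (K1.f57859 IH) (Lpr_dt (K1.f57858 IH) (Lpr_ct (K1.f57856 IH) (Lpr_dt (K1.f57809 IH) (Lpr_ct (K1.f57839 IH) (Lpe (K1.f57825 IH) (Lpn (LP (LK LD1_c12 LD2_c11 LD3_c54))))))))))))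
theorem f86015 : Led Lsl_gt (LP (LK LD1_c9 LD2_c28 LD3_c23)) = (LP (LK LD1_c17 LD2_c28 LD3_c13)) :=
  Lre_g IH (LK LD1_c9 LD2_c28 LD3_c23) (LK LD1_c17 LD2_c28 LD3_c13) Lrfl Lrfl
theorem f444407 : Led Lsl_gt (LP (LK LD1_c17 LD2_c28 LD3_c13)) = (LP (LK LD1_c21 LD2_c17 LD3_c34)) :=
  Lgr Lrot46 (Lpe (f86015 IH) (Lpr_ft (f57866 IH) (Lpr_at (K1.f57825 IH) (Lpn (LP (LK LD1_c21 LD2_c17 LD3_c34))))))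
theorem f57740 : Led Lsl_at (LP (LK LD1_c1 LD2_c37 LD3_c32)) = (LP (LK LD1_c3 LD2_c22 LD3_c34)) :=
  Lre_a IH (LK LD1_c1 LD2_c37 LD3_c32) (LK LD1_c3 LD2_c22 LD3_c34) Lrfl Lrfl
theorem f57741 : Led Lsl_at (LP (LK LD1_c6 LD2_c18 LD3_c1)) = (LP (LK LD1_c3 LD2_c6 LD3_c13)) :=
  Lre_a IH (LK LD1_c6 LD2_c18 LD3_c1) (LK LD1_c3 LD2_c6 LD3_c13) Lrfl Lrfl
theorem f57742 : Led Lsl_dt (LP (LK LD1_c3 LD2_c22 LD3_c34)) = (LP (LK LD1_c6 LD2_c18 LD3_c1)) :=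
  Lgr Lrot44 (Lpe (f57740 IH) (Lpr_df (K1.f57738 IH) (Lpe (f57741 IH) (Lpn (LP (LK LD1_c6 LD2_c18 LD3_c1))))))
theorem f84134 : Led Lsl_gt (LP (LK LD1_c6 LD2_c13 LD3_c1)) = (LP (LK LD1_c3 LD2_c22 LD3_c34)) :=
  Lre_g IH (LK LD1_c6 LD2_c13 LD3_c1) (LK LD1_c3 LD2_c22 LD3_c34) Lrfl Lrfl
theorem f431082 : Led Lsl_dt (LP (LK LD1_c27 LD2_c17 LD3_c43)) = (LP (LK LD1_c30 LD2_c4 LD3_c30)) :=
  Lgr Lrot42 (Lpr_df (K49.f431080 IH) (Lpn (LP (LK LD1_c30 LD2_c4 LD3_c30))))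
theorem f152845 : Led Lsl_bt (LP (LK LD1_c6 LD2_c23 LD3_c56)) = (LP (LK LD1_c3 LD2_c9 LD3_c34)) :=
  Lre_b IH (LK LD1_c6 LD2_c23 LD3_c56) (LK LD1_c3 LD2_c9 LD3_c34) Lrfl Lrfl
theorem f152793 : Led Lsl_ct (LP (LK LD1_c6 LD2_c23 LD3_c56)) = (LP (LK LD1_c3 LD2_c9 LD3_c36)) :=
  Lre_c IH (LK LD1_c6 LD2_c23 LD3_c56) (LK LD1_c3 LD2_c9 LD3_c36) Lrfl Lrfl
theorem f152312 : Led Lsl_gt (LP (LK LD1_c3 LD2_c9 LD3_c36)) = (LP (LK LD1_c6 LD2_c23 LD3_c59)) :=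
  Lre_g IH (LK LD1_c3 LD2_c9 LD3_c36) (LK LD1_c6 LD2_c23 LD3_c59) Lrfl Lrfl
theorem f153005 : Led Lsl_ct (LP (LK LD1_c12 LD2_c21 LD3_c9)) = (LP (LK LD1_c6 LD2_c23 LD3_c59)) :=
  Lre_c IH (LK LD1_c12 LD2_c21 LD3_c9) (LK LD1_c6 LD2_c23 LD3_c59) Lrfl Lrfl
theorem f153006 : Led Lsl_bt (LP (LK LD1_c12 LD2_c21 LD3_c9)) = (LP (LK LD1_c21 LD2_c27 LD3_c27)) :=
  Lre_b IH (LK LD1_c12 LD2_c21 LD3_c9) (LK LD1_c21 LD2_c27 LD3_c27) Lrfl Lrfl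
theorem f153017 : Led Lsl_gt (LP (LK LD1_c21 LD2_c27 LD3_c27)) = (LP (LK LD1_c27 LD2_c17 LD3_c43)) :=
  Lgr Lrot82 (Lpe (f153006 IH) (Lpr_ct (f153005 IH) (Lpe (f152312 IH) (Lpe (f152793 IH) (Lpr_bt (f152845 IH) (Lpe (K7.f152852 IH) (Lpe (K49.f152860 IH) (Lpe (K49.f152998 IH) (Lpe (K49.f114679 IH) (Lpr_cf (K49.f153007 IH) (Lpn (LP (LK LD1_c27 LD2_c17 LD3_c43)))))))))))))
theorem f153021 : Led Lsl_ct (LP (LK LD1_c6 LD2_c23 LD3_c59)) = (LP (LK LD1_c12 LD2_c21 LD3_c9)) :=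
  Lre_c IH (LK LD1_c6 LD2_c23 LD3_c59) (LK LD1_c12 LD2_c21 LD3_c9) Lrfl Lrfl
theorem f57553 : Led Lsl_bt (LP (LK LD1_c0 LD2_c40 LD3_c5)) = (LP (LK LD1_c0 LD2_c17 LD3_c60)) :=
  Lre_b IH (LK LD1_c0 LD2_c40 LD3_c5) (LK LD1_c0 LD2_c17 LD3_c60) Lrfl Lrfl
theorem f57551 : Led Lsl_bt (LP (LK LD1_c1 LD2_c27 LD3_c31)) = (LP (LK LD1_c3 LD2_c3 LD3_c14)) :=
  Lre_b IH (LK LD1_c1 LD2_c27 LD3_c31) (LK LD1_c3 LD2_c3 LD3_c14) Lrfl Lrfl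
theorem f57552 : Led Lsl_gt (LP (LK LD1_c3 LD2_c3 LD3_c14)) = (LP (LK LD1_c6 LD2_c13 LD3_c1)) :=
  Lre_g IH (LK LD1_c3 LD2_c3 LD3_c14) (LK LD1_c6 LD2_c13 LD3_c1) Lrfl Lrfl
theorem f431094 : Led Lsl_df (LP (LK LD1_c6 LD2_c23 LD3_c59)) = (LP (LK LD1_c6 LD2_c13 LD3_c1)) :=
  Lgr Lrot183 (Lpr_ct (f153021 IH) (Lpr_bt (f153006 IH) (Lpr_gt (f153017 IH) (Lpr_dt (f431082 IH) (Lpr_ct (K49.f114579 IH) (Lpr_bt (K49.f114589 IH) (Lpr_gt (K46.f430739 IH) (Lpr_dt (K46.f126747 IH) (Lpr_ct (K46.f126746 IH) (Lpr_bt (K46.f126745 IH) (Lpr_gt (K6.f62367 IH) (Lpr_dt (K5.f62345 IH) (Lpe (K5.f126732 IH) (Lpr_bt (f57553 IH) (Lpe (K1.f57547 IH) (Lpr_dt (K0.f7465 IH) (Lpr_ct (K0.f7466 IH) (Lpr_bt (f57551 IH) (Lpr_gt (f57552 IH) (Lpn (LP (LK LD1_c6 LD2_c13 LD3_c1))))))))))))))))))))))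
theorem f431101 : Led Lsl_dt (LP (LK LD1_c6 LD2_c23 LD3_c59)) = (LP (LK LD1_c6 LD2_c13 LD3_c1)) :=
  Lgr Lrot42 (Lpr_df (f431094 IH) (Lpn (LP (LK LD1_c6 LD2_c13 LD3_c1))))
theorem f152867 : Led Lsl_gt (LP (LK LD1_c6 LD2_c23 LD3_c56)) = (LP (LK LD1_c12 LD2_c21 LD3_c0)) :=
  Lre_g IH (LK LD1_c6 LD2_c23 LD3_c56) (LK LD1_c12 LD2_c21 LD3_c0) Lrfl Lrfl
theorem f444409 : Led Lsl_df (LP (LK LD1_c17 LD2_c28 LD3_c13)) = (LP (LK LD1_c12 LD2_c21 LD3_c0)) :=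
  Lgr Lrot153 (Lpr_gt (f444407 IH) (Lpr_dt (K1.f57863 IH) (Lpe (K3.f57845 IH) (Lpe (f57742 IH) (Lpe (f84134 IH) (Lpe (f431101 IH) (Lpe (f152312 IH) (Lpe (f152793 IH) (Lpr_gt (f152867 IH) (Lpn (LP (LK LD1_c12 LD2_c21 LD3_c0))))))))))))
theorem f433801 : Led Lsl_at (LP (LK LD1_c12 LD2_c21 LD3_c2)) = (LP (LK LD1_c6 LD2_c23 LD3_c56)) :=
  Lre_a IH (LK LD1_c12 LD2_c21 LD3_c2) (LK LD1_c6 LD2_c23 LD3_c56) Lrfl Lrfl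
theorem f433802 : Led Lsl_at (LP (LK LD1_c9 LD2_c19 LD3_c15)) = (LP (LK LD1_c17 LD2_c14 LD3_c45)) :=
  Lre_a IH (LK LD1_c9 LD2_c19 LD3_c15) (LK LD1_c17 LD2_c14 LD3_c45) Lrfl Lrfl
theorem f433803 : Led Lsl_ft (LP (LK LD1_c6 LD2_c23 LD3_c56)) = (LP (LK LD1_c9 LD2_c19 LD3_c15)) :=
  Lgr Lrot101 (Lpe (f433801 IH) (Lpr_ff (K11.f433797 IH) (Lpe (f433802 IH) (Lpn (LP (LK LD1_c9 LD2_c19 LD3_c15))))))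
theorem f434082 : Led Lsl_gt (LP (LK LD1_c12 LD2_c21 LD3_c0)) = (LP (LK LD1_c17 LD2_c14 LD3_c45)) :=
  Lgr Lrot46 (Lpe (f152867 IH) (Lpr_ft (f433803 IH) (Lpr_at (f433802 IH) (Lpn (LP (LK LD1_c17 LD2_c14 LD3_c45))))))
theorem f433643 : Led Lsl_at (LP (LK LD1_c6 LD2_c23 LD3_c61)) = (LP (LK LD1_c3 LD2_c9 LD3_c36)) :=
  Lre_a IH (LK LD1_c6 LD2_c23 LD3_c61) (LK LD1_c3 LD2_c9 LD3_c36) Lrfl Lrfl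
theorem f432349 : Led Lsl_gt (LP (LK LD1_c6 LD2_c23 LD3_c60)) = (LP (LK LD1_c3 LD2_c9 LD3_c36)) :=
  Lre_g IH (LK LD1_c6 LD2_c23 LD3_c60) (LK LD1_c3 LD2_c9 LD3_c36) Lrfl Lrfl
theorem f433830 : Led Lsl_gf (LP (LK LD1_c6 LD2_c23 LD3_c60)) = (LP (LK LD1_c9 LD2_c19 LD3_c20)) :=
  Lgr Lrot47 (Lpr_gt (f432349 IH) (Lpe (f433643 IH) (Lpr_ff (f433819 IH) (Lpn (LP (LK LD1_c9 LD2_c19 LD3_c20))))))
theorem f433832 : Led Lsl_ct (LP (LK LD1_c6 LD2_c23 LD3_c60)) = (LP (LK LD1_c12 LD2_c21 LD3_c12)) :=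
  Lre_c IH (LK LD1_c6 LD2_c23 LD3_c60) (LK LD1_c12 LD2_c21 LD3_c12) Lrfl Lrfl
theorem f433834 : Led Lsl_dt (LP (LK LD1_c21 LD2_c27 LD3_c32)) = (LP (LK LD1_c12 LD2_c21 LD3_c12)) :=
  Lre_d IH (LK LD1_c21 LD2_c27 LD3_c32) (LK LD1_c12 LD2_c21 LD3_c12) Lrfl Lrfl
theorem f85896 : Led Lsl_ft (LP (LK LD1_c9 LD2_c28 LD3_c22)) = (LP (LK LD1_c12 LD2_c11 LD3_c53)) :=
  Lgr Lrot48 (Lpr_ff (K3.f85881 IH) (Lpn (LP (LK LD1_c12 LD2_c11 LD3_c53))))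
theorem f57844 : Led Lsl_dt (LP (LK LD1_c12 LD2_c11 LD3_c53)) = (LP (LK LD1_c21 LD2_c17 LD3_c34)) :=
  Lre_d IH (LK LD1_c12 LD2_c11 LD3_c53) (LK LD1_c21 LD2_c17 LD3_c34) Lrfl Lrfl
theorem f85908 : Led Lsl_ff (LP (LK LD1_c17 LD2_c28 LD3_c12)) = (LP (LK LD1_c21 LD2_c17 LD3_c34)) :=
  Lgr Lrot19 (Lpr_dt (K1.f57932 IH) (Lpr_ft (f85896 IH) (Lpr_dt (f57844 IH) (Lpn (LP (LK LD1_c21 LD2_c17 LD3_c34))))))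
theorem f57935 : Led Lsl_at (LP (LK LD1_c17 LD2_c28 LD3_c12)) = (LP (LK LD1_c9 LD2_c28 LD3_c23)) :=
  Lre_a IH (LK LD1_c17 LD2_c28 LD3_c12) (LK LD1_c9 LD2_c28 LD3_c23) Lrfl Lrfl
theorem f57862 : Led Lsl_ct (LP (LK LD1_c17 LD2_c28 LD3_c15)) = (LP (LK LD1_c9 LD2_c28 LD3_c23)) :=
  Lre_c IH (LK LD1_c17 LD2_c28 LD3_c15) (LK LD1_c9 LD2_c28 LD3_c23) Lrfl Lrfl
theorem f57868 : Led Lsl_ft (LP (LK LD1_c21 LD2_c8 LD3_c58)) = (LP (LK LD1_c12 LD2_c48 LD3_c45)) :=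
  Lre_f IH (LK LD1_c21 LD2_c8 LD3_c58) (LK LD1_c12 LD2_c48 LD3_c45) Lrfl Lrfl
theorem f57869 : Led Lsl_at (LP (LK LD1_c12 LD2_c48 LD3_c45)) = (LP (LK LD1_c21 LD2_c56 LD3_c37)) :=
  Lre_a IH (LK LD1_c12 LD2_c48 LD3_c45) (LK LD1_c21 LD2_c56 LD3_c37) Lrfl Lrfl
theorem f57870 : Led Lsl_ct (LP (LK LD1_c12 LD2_c48 LD3_c42)) = (LP (LK LD1_c21 LD2_c56 LD3_c37)) :=
  Lre_c IH (LK LD1_c12 LD2_c48 LD3_c42) (LK LD1_c21 LD2_c56 LD3_c37) Lrfl Lrfl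
theorem f57871 : Led Lsl_dt (LP (LK LD1_c6 LD2_c41 LD3_c45)) = (LP (LK LD1_c12 LD2_c48 LD3_c42)) :=
  Lre_d IH (LK LD1_c6 LD2_c41 LD3_c45) (LK LD1_c12 LD2_c48 LD3_c42) Lrfl Lrfl
theorem f57872 : Led Lsl_ct (LP (LK LD1_c3 LD2_c22 LD3_c34)) = (LP (LK LD1_c6 LD2_c41 LD3_c45)) :=
  Lre_c IH (LK LD1_c3 LD2_c22 LD3_c34) (LK LD1_c6 LD2_c41 LD3_c45) Lrfl Lrfl
theorem f57873 : Led Lsl_df (LP (LK LD1_c3 LD2_c22 LD3_c34)) = (LP (LK LD1_c6 LD2_c18 LD3_c1)) :=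
  Lgr Lrot13 (Lpr_ct (f57872 IH) (Lpr_dt (f57871 IH) (Lpr_ct (f57870 IH) (Lpe (f57869 IH) (Lpe (f57868 IH) (Lpr_dt (K1.f57809 IH) (Lpr_ct (K1.f57839 IH) (Lpr_dt (K1.f57863 IH) (Lpr_ct (K1.f57864 IH) (Lpn (LP (LK LD1_c6 LD2_c18 LD3_c1))))))))))))
theorem f85943 : Led Lsl_df (LP (LK LD1_c17 LD2_c28 LD3_c15)) = (LP (LK LD1_c21 LD2_c56 LD3_c37)) :=
  Lgr Lrot177 (Lpr_ct (f57862 IH) (Lpe (f57935 IH) (Lpr_ff (f85908 IH) (Lpr_dt (K1.f57863 IH) (Lpr_ct (K1.f57864 IH) (Lpe (f57873 IH) (Lpr_ct (f57872 IH) (Lpr_dt (f57871 IH) (Lpr_ct (f57870 IH) (Lpn (LP (LK LD1_c21 LD2_c56 LD3_c37))))))))))))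
theorem f85948 : Led Lsl_dt (LP (LK LD1_c17 LD2_c28 LD3_c15)) = (LP (LK LD1_c21 LD2_c56 LD3_c37)) :=
  Lgr Lrot42 (Lpr_df (f85943 IH) (Lpn (LP (LK LD1_c21 LD2_c56 LD3_c37))))
theorem f57760 : Led Lsl_at (LP (LK LD1_c21 LD2_c56 LD3_c37)) = (LP (LK LD1_c12 LD2_c48 LD3_c45)) :=
  Lre_a IH (LK LD1_c21 LD2_c56 LD3_c37) (LK LD1_c12 LD2_c48 LD3_c45) Lrfl Lrfl
theorem f85959 : Led Lsl_af (LP (LK LD1_c17 LD2_c28 LD3_c15)) = (LP (LK LD1_c21 LD2_c56 LD3_c46)) :=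
  Lgr Lrot117 (Lpr_dt (f85948 IH) (Lpr_at (f57760 IH) (Lpr_dt (K1.f57746 IH) (Lpn (LP (LK LD1_c21 LD2_c56 LD3_c46))))))
theorem f85958 : Led Lsl_gt (LP (LK LD1_c27 LD2_c18 LD3_c30)) = (LP (LK LD1_c17 LD2_c28 LD3_c15)) :=
  Lre_g IH (LK LD1_c27 LD2_c18 LD3_c30) (LK LD1_c17 LD2_c28 LD3_c15) Lrfl Lrfl
theorem f57850 : Led Lsl_ft (LP (LK LD1_c29 LD2_c52 LD3_c19)) = (LP (LK LD1_c21 LD2_c56 LD3_c46)) :=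
  Lre_f IH (LK LD1_c29 LD2_c52 LD3_c19) (LK LD1_c21 LD2_c56 LD3_c46) Lrfl Lrfl
theorem f85972 : Led Lsl_gf (LP (LK LD1_c27 LD2_c18 LD3_c30)) = (LP (LK LD1_c29 LD2_c52 LD3_c19)) :=
  Lgr Lrot47 (Lpr_gt (f85958 IH) (Lpr_af (f85959 IH) (Lpe (f57850 IH) (Lpn (LP (LK LD1_c29 LD2_c52 LD3_c19))))))
theorem f444413 : Led Lsl_cf (LP (LK LD1_c21 LD2_c27 LD3_c32)) = (LP (LK LD1_c27 LD2_c18 LD3_c30)) :=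
  Lgr Lrot175 (Lpr_dt (f433834 IH) (Lpe (f433832 IH) (Lpr_gf (f433830 IH) (Lpe (f433748 IH) (Lpe (f434082 IH) (Lpe (f444409 IH) (Lpr_gt (f444407 IH) (Lpe (K1.f57826 IH) (Lpe (f85972 IH) (Lpn (LP (LK LD1_c27 LD2_c18 LD3_c30))))))))))))
theorem f444418 : Led Lsl_ct (LP (LK LD1_c21 LD2_c27 LD3_c32)) = (LP (LK LD1_c27 LD2_c18 LD3_c30)) :=
  Lgr Lrot59 (Lpr_cf (f444413 IH) (Lpn (LP (LK LD1_c27 LD2_c18 LD3_c30))))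
theorem f86400 : Led Lsl_ct (LP (LK LD1_c6 LD2_c9 LD3_c45)) = (LP (LK LD1_c12 LD2_c0 LD3_c31)) :=
  Lre_c IH (LK LD1_c6 LD2_c9 LD3_c45) (LK LD1_c12 LD2_c0 LD3_c31) Lrfl Lrfl
theorem f86401 : Led Lsl_gt (LP (LK LD1_c12 LD2_c0 LD3_c31)) = (LP (LK LD1_c21 LD2_c5 LD3_c37)) :=
  Lre_g IH (LK LD1_c12 LD2_c0 LD3_c31) (LK LD1_c21 LD2_c5 LD3_c37) Lrfl Lrfl
theorem f152311 : Led Lsl_bt (LP (LK LD1_c1 LD2_c30 LD3_c58)) = (LP (LK LD1_c3 LD2_c9 LD3_c36)) :=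
  Lre_b IH (LK LD1_c1 LD2_c30 LD3_c58) (LK LD1_c3 LD2_c9 LD3_c36) Lrfl Lrfl
theorem f433835 : Led Lsl_bt (LP (LK LD1_c12 LD2_c21 LD3_c11)) = (LP (LK LD1_c6 LD2_c23 LD3_c60)) :=
  Lre_b IH (LK LD1_c12 LD2_c21 LD3_c11) (LK LD1_c6 LD2_c23 LD3_c60) Lrfl Lrfl
theorem f436031 : Led Lsl_cf (LP (LK LD1_c21 LD2_c5 LD3_c37)) = (LP (LK LD1_c12 LD2_c21 LD3_c11)) :=
  Lgr Lrot163 (Lpe (f86401 IH) (Lpe (f86400 IH) (Lpe (f62564 IH) (Lpe (K5.f62471 IH) (Lpr_ct (K6.f57565 IH) (Lpr_gf (K7.f152309 IH) (Lpe (K7.f25799 IH) (Lpr_bt (f152311 IH) (Lpe (f432349 IH) (Lpe (f433835 IH) (Lpn (LP (LK LD1_c12 LD2_c21 LD3_c11)))))))))))))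
theorem f436038 : Led Lsl_ct (LP (LK LD1_c21 LD2_c5 LD3_c37)) = (LP (LK LD1_c12 LD2_c21 LD3_c11)) :=
  Lgr Lrot59 (Lpr_cf (f436031 IH) (Lpn (LP (LK LD1_c12 LD2_c21 LD3_c11))))
theorem f86035 : Led Lsl_gt (LP (LK LD1_c4 LD2_c50 LD3_c23)) = (LP (LK LD1_c9 LD2_c33 LD3_c3)) :=
  Lre_g IH (LK LD1_c4 LD2_c50 LD3_c23) (LK LD1_c9 LD2_c33 LD3_c3) Lrfl Lrfl
theorem f86045 : Led Lsl_ct (LP (LK LD1_c9 LD2_c33 LD3_c3)) = (LP (LK LD1_c17 LD2_c35 LD3_c18)) :=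
  Lre_c IH (LK LD1_c9 LD2_c33 LD3_c3) (LK LD1_c17 LD2_c35 LD3_c18) Lrfl Lrfl
theorem f86055 : Led Lsl_gt (LP (LK LD1_c17 LD2_c35 LD3_c18)) = (LP (LK LD1_c21 LD2_c10 LD3_c18)) :=
  Lre_g IH (LK LD1_c17 LD2_c35 LD3_c18) (LK LD1_c21 LD2_c10 LD3_c18) Lrfl Lrfl
theorem f86056 : Led Lsl_ct (LP (LK LD1_c21 LD2_c10 LD3_c18)) = (LP (LK LD1_c12 LD2_c5 LD3_c0)) :=
  Lre_c IH (LK LD1_c21 LD2_c10 LD3_c18) (LK LD1_c12 LD2_c5 LD3_c0) Lrfl Lrfl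
theorem f436048 : Led Lsl_df (LP (LK LD1_c12 LD2_c5 LD3_c0)) = (LP (LK LD1_c12 LD2_c21 LD3_c11)) :=
  Lgr Lrot162 (Lpe (f86056 IH) (Lpe (f86055 IH) (Lpe (f86045 IH) (Lpe (f86035 IH) (Lpe (K6.f86388 IH) (Lpr_gt (f62564 IH) (Lpr_ct (f86400 IH) (Lpr_gt (f86401 IH) (Lpr_ct (f436038 IH) (Lpn (LP (LK LD1_c12 LD2_c21 LD3_c11))))))))))))
theorem f86058 : Led Lsl_bt (LP (LK LD1_c12 LD2_c5 LD3_c0)) = (LP (LK LD1_c6 LD2_c13 LD3_c2)) :=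
  Lre_b IH (LK LD1_c12 LD2_c5 LD3_c0) (LK LD1_c6 LD2_c13 LD3_c2) Lrfl Lrfl
theorem f435976 : Led Lsl_bt (LP (LK LD1_c6 LD2_c23 LD3_c60)) = (LP (LK LD1_c12 LD2_c21 LD3_c11)) :=
  Lre_b IH (LK LD1_c6 LD2_c23 LD3_c60) (LK LD1_c12 LD2_c21 LD3_c11) Lrfl Lrfl
theorem f436050 : Led Lsl_dt (LP (LK LD1_c6 LD2_c13 LD3_c2)) = (LP (LK LD1_c6 LD2_c23 LD3_c60)) :=
  Lgr Lrot79 (Lpe (f86058 IH) (Lpr_df (f436048 IH) (Lpe (f435976 IH) (Lpn (LP (LK LD1_c6 LD2_c23 LD3_c60))))))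
theorem f57898 : Led Lsl_gt (LP (LK LD1_c9 LD2_c33 LD3_c9)) = (LP (LK LD1_c17 LD2_c35 LD3_c24)) :=
  Lre_g IH (LK LD1_c9 LD2_c33 LD3_c9) (LK LD1_c17 LD2_c35 LD3_c24) Lrfl Lrfl
theorem f57899 : Led Lsl_dt (LP (LK LD1_c17 LD2_c35 LD3_c24)) = (LP (LK LD1_c27 LD2_c23 LD3_c25)) :=
  Lre_d IH (LK LD1_c17 LD2_c35 LD3_c24) (LK LD1_c27 LD2_c23 LD3_c25) Lrfl Lrfl
theorem f432350 : Led Lsl_ct (LP (LK LD1_c12 LD2_c21 LD3_c12)) = (LP (LK LD1_c6 LD2_c23 LD3_c60)) :=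
  Lre_c IH (LK LD1_c12 LD2_c21 LD3_c12) (LK LD1_c6 LD2_c23 LD3_c60) Lrfl Lrfl
theorem f436059 : Led Lsl_gt (LP (LK LD1_c27 LD2_c23 LD3_c25)) = (LP (LK LD1_c21 LD2_c27 LD3_c32)) :=
  Lgr Lrot49 (Lpe (f57899 IH) (Lpe (f57898 IH) (Lpe (K49.f57897 IH) (Lpr_gt (K3.f57895 IH) (Lpe (f57873 IH) (Lpr_gt (K6.f57900 IH) (Lpr_dt (f436050 IH) (Lpe (f432350 IH) (Lpe (f433834 IH) (Lpn (LP (LK LD1_c21 LD2_c27 LD3_c32))))))))))))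
theorem f86404 : Led Lsl_dt (LP (LK LD1_c27 LD2_c23 LD3_c25)) = (LP (LK LD1_c17 LD2_c35 LD3_c24)) :=
  Lre_d IH (LK LD1_c27 LD2_c23 LD3_c25) (LK LD1_c17 LD2_c35 LD3_c24) Lrfl Lrfl
theorem f85953 : Led Lsl_dt (LP (LK LD1_c4 LD2_c47 LD3_c41)) = (LP (LK LD1_c9 LD2_c28 LD3_c23)) :=
  Lre_d IH (LK LD1_c4 LD2_c47 LD3_c41) (LK LD1_c9 LD2_c28 LD3_c23) Lrfl Lrfl
theorem f115193 : Led Lsl_gt (LP (LK LD1_c4 LD2_c50 LD3_c28)) = (LP (LK LD1_c2 LD2_c23 LD3_c0)) :=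
  Lre_g IH (LK LD1_c4 LD2_c50 LD3_c28) (LK LD1_c2 LD2_c23 LD3_c0) Lrfl Lrfl
theorem f115194 : Led Lsl_ct (LP (LK LD1_c9 LD2_c33 LD3_c12)) = (LP (LK LD1_c4 LD2_c50 LD3_c28)) :=
  Lre_c IH (LK LD1_c9 LD2_c33 LD3_c12) (LK LD1_c4 LD2_c50 LD3_c28) Lrfl Lrfl
theorem f444441 : Led Lsl_gt (LP (LK LD1_c17 LD2_c35 LD3_c24)) = (LP (LK LD1_c9 LD2_c33 LD3_c12)) :=
  Lgr Lrot9 (Lpe (f86404 IH) (Lpr_gt (f436059 IH) (Lpr_ct (f444418 IH) (Lpr_gt (f85958 IH) (Lpr_ct (f57862 IH) (Lpe (f85953 IH) (Lpe (K3.f57920 IH) (Lpe (f115193 IH) (Lpe (f115194 IH) (Lpn (LP (LK LD1_c9 LD2_c33 LD3_c12))))))))))))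
theorem f105666 : Led Lsl_ct (LP (LK LD1_c17 LD2_c35 LD3_c19)) = (LP (LK LD1_c17 LD2_c35 LD3_c24)) :=
  Lre_c IH (LK LD1_c17 LD2_c35 LD3_c19) (LK LD1_c17 LD2_c35 LD3_c24) Lrfl Lrfl
theorem f86402 : Led Lsl_bt (LP (LK LD1_c17 LD2_c35 LD3_c19)) = (LP (LK LD1_c9 LD2_c33 LD3_c4)) :=
  Lre_b IH (LK LD1_c17 LD2_c35 LD3_c19) (LK LD1_c9 LD2_c33 LD3_c4) Lrfl Lrfl
theorem f86397 : Led Lsl_gt (LP (LK LD1_c9 LD2_c33 LD3_c4)) = (LP (LK LD1_c4 LD2_c50 LD3_c23)) :=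
  Lre_g IH (LK LD1_c9 LD2_c33 LD3_c4) (LK LD1_c4 LD2_c50 LD3_c23) Lrfl Lrfl
theorem f145856 : Led Lsl_gt (LP (LK LD1_c6 LD2_c9 LD3_c30)) = (LP (LK LD1_c9 LD2_c33 LD3_c4)) :=
  Lgr Lrot5 (Lpr_ft (K6.f145850 IH) (Lpr_at (K6.f86392 IH) (Lpe (f86397 IH) (Lpn (LP (LK LD1_c9 LD2_c33 LD3_c4))))))
theorem f134065 : Led Lsl_bt (LP (LK LD1_c3 LD2_c22 LD3_c23)) = (LP (LK LD1_c6 LD2_c48 LD3_c29)) :=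
  Lre_b IH (LK LD1_c3 LD2_c22 LD3_c23) (LK LD1_c6 LD2_c48 LD3_c29) Lrfl Lrfl
theorem f113203 : Led Lsl_bt (LP (LK LD1_c6 LD2_c49 LD3_c10)) = (LP (LK LD1_c3 LD2_c22 LD3_c48)) :=
  Lre_b IH (LK LD1_c6 LD2_c49 LD3_c10) (LK LD1_c3 LD2_c22 LD3_c48) Lrfl Lrfl
theorem f143832 : Led Lsl_ft (LP (LK LD1_c6 LD2_c48 LD3_c29)) = (LP (LK LD1_c6 LD2_c49 LD3_c10)) :=
  Lgr Lrot75 (Lpe (f134065 IH) (Lpr_ff (K6.f143785 IH) (Lpe (f113203 IH) (Lpn (LP (LK LD1_c6 LD2_c49 LD3_c10))))))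
theorem f84102 : Led Lsl_gt (LP (LK LD1_c6 LD2_c48 LD3_c29)) = (LP (LK LD1_c12 LD2_c59 LD3_c32)) :=
  Lre_g IH (LK LD1_c6 LD2_c48 LD3_c29) (LK LD1_c12 LD2_c59 LD3_c32) Lrfl Lrfl
theorem f113199 : Led Lsl_at (LP (LK LD1_c6 LD2_c49 LD3_c10)) = (LP (LK LD1_c13 LD2_c0 LD3_c38)) :=
  Lre_a IH (LK LD1_c6 LD2_c49 LD3_c10) (LK LD1_c13 LD2_c0 LD3_c38) Lrfl Lrfl
theorem f437855 : Led Lsl_gt (LP (LK LD1_c12 LD2_c59 LD3_c32)) = (LP (LK LD1_c13 LD2_c0 LD3_c38)) :=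
  Lgr Lrot46 (Lpe (f84102 IH) (Lpr_ft (f143832 IH) (Lpr_at (f113199 IH) (Lpn (LP (LK LD1_c13 LD2_c0 LD3_c38))))))
theorem f431106 : Led Lsl_ct (LP (LK LD1_c4 LD2_c50 LD3_c28)) = (LP (LK LD1_c9 LD2_c33 LD3_c12)) :=
  Lre_c IH (LK LD1_c4 LD2_c50 LD3_c28) (LK LD1_c9 LD2_c33 LD3_c12) Lrfl Lrfl
theorem f435183 : Led Lsl_bt (LP (LK LD1_c4 LD2_c50 LD3_c28)) = (LP (LK LD1_c9 LD2_c33 LD3_c11)) :=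
  Lre_b IH (LK LD1_c4 LD2_c50 LD3_c28) (LK LD1_c9 LD2_c33 LD3_c11) Lrfl Lrfl
theorem f135614 : Led Lsl_gt (LP (LK LD1_c9 LD2_c33 LD3_c11)) = (LP (LK LD1_c17 LD2_c35 LD3_c30)) :=
  Lre_g IH (LK LD1_c9 LD2_c33 LD3_c11) (LK LD1_c17 LD2_c35 LD3_c30) Lrfl Lrfl
theorem f444449 : Led Lsl_cf (LP (LK LD1_c12 LD2_c59 LD3_c32)) = (LP (LK LD1_c17 LD2_c35 LD3_c30)) :=
  Lgr Lrot125 (Lpr_gt (f437855 IH) (Lpe (K6.f113238 IH) (Lpr_bt (K6.f135723 IH) (Lpr_gt (f145856 IH) (Lpe (f86402 IH) (Lpr_ct (f105666 IH) (Lpr_gt (f444441 IH) (Lpe (f431106 IH) (Lpr_bt (f435183 IH) (Lpr_gt (f135614 IH) (Lpn (LP (LK LD1_c17 LD2_c35 LD3_c30)))))))))))))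
theorem f84101 : Led Lsl_ct (LP (LK LD1_c3 LD2_c22 LD3_c25)) = (LP (LK LD1_c6 LD2_c48 LD3_c29)) :=
  Lre_c IH (LK LD1_c3 LD2_c22 LD3_c25) (LK LD1_c6 LD2_c48 LD3_c29) Lrfl Lrfl
theorem f57726 : Led Lsl_ct (LP (LK LD1_c12 LD2_c59 LD3_c42)) = (LP (LK LD1_c13 LD2_c0 LD3_c5)) :=
  Lre_c IH (LK LD1_c12 LD2_c59 LD3_c42) (LK LD1_c13 LD2_c0 LD3_c5) Lrfl Lrfl
theorem f84072 : Led Lsl_bt (LP (LK LD1_c3 LD2_c22 LD3_c32)) = (LP (LK LD1_c6 LD2_c48 LD3_c52)) :=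
  Lre_b IH (LK LD1_c3 LD2_c22 LD3_c32) (LK LD1_c6 LD2_c48 LD3_c52) Lrfl Lrfl
theorem f444454 : Led Lsl_bf (LP (LK LD1_c13 LD2_c0 LD3_c1)) = (LP (LK LD1_c17 LD2_c35 LD3_c30)) :=
  Lgr Lrot156 (Lpr_gt (f84086 IH) (Lpe (f84072 IH) (Lpr_ct (K1.f57710 IH) (Lpr_gt (K1.f57711 IH) (Lpe (f57726 IH) (Lpr_bt (f57722 IH) (Lpr_gt (f84537 IH) (Lpr_ct (f84101 IH) (Lpr_gt (f84102 IH) (Lpr_cf (f444449 IH) (Lpn (LP (LK LD1_c17 LD2_c35 LD3_c30)))))))))))))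
theorem f765819 : Led Lsl_df (LP (LK LD1_c17 LD2_c35 LD3_c30)) = (LP (LK LD1_c12 LD2_c20 LD3_c12)) :=
  Lgr Lrot12 (Lpe (f444454 IH) (Lpe (f84119 IH) (Lpr_bt (f765807 IH) (Lpn (LP (LK LD1_c12 LD2_c20 LD3_c12))))))
theorem f444452 : Led Lsl_ct (LP (LK LD1_c12 LD2_c59 LD3_c32)) = (LP (LK LD1_c17 LD2_c35 LD3_c30)) :=
  Lgr Lrot59 (Lpr_cf (f444449 IH) (Lpn (LP (LK LD1_c17 LD2_c35 LD3_c30))))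
theorem f24715 : Led Lsl_ct (LP (LK LD1_c3 LD2_c1 LD3_c11)) = (LP (LK LD1_c6 LD2_c9 LD3_c26)) :=
  Lre_c IH (LK LD1_c3 LD2_c1 LD3_c11) (LK LD1_c6 LD2_c9 LD3_c26) Lrfl Lrfl
theorem f24765 : Led Lsl_gt (LP (LK LD1_c6 LD2_c9 LD3_c26)) = (LP (LK LD1_c11 LD2_c59 LD3_c52)) :=
  Lre_g IH (LK LD1_c6 LD2_c9 LD3_c26) (LK LD1_c11 LD2_c59 LD3_c52) Lrfl Lrfl
theorem f765825 : Led Lsl_ct (LP (LK LD1_c11 LD2_c59 LD3_c52)) = (LP (LK LD1_c12 LD2_c20 LD3_c12)) :=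
  Lgr Lrot110 (Lpe (f24765 IH) (Lpe (f24715 IH) (Lpe (K1.f24726 IH) (Lpe (f57724 IH) (Lpr_gt (f84537 IH) (Lpr_ct (f84101 IH) (Lpr_gt (f84102 IH) (Lpr_ct (f444452 IH) (Lpr_df (f765819 IH) (Lpn (LP (LK LD1_c12 LD2_c20 LD3_c12))))))))))))
theorem f765829 : Led Lsl_cf (LP (LK LD1_c11 LD2_c59 LD3_c52)) = (LP (LK LD1_c12 LD2_c20 LD3_c12)) :=
  Lgr Lrot11 (Lpr_ct (f765825 IH) (Lpn (LP (LK LD1_c12 LD2_c20 LD3_c12))))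
theorem f762549 : Led Lsl_at (LP (LK LD1_c6 LD2_c23 LD3_c27)) = (LP (LK LD1_c12 LD2_c20 LD3_c12)) :=
  Lre_a IH (LK LD1_c6 LD2_c23 LD3_c27) (LK LD1_c12 LD2_c20 LD3_c12) Lrfl Lrfl
theorem f86429 : Led Lsl_ct (LP (LK LD1_c12 LD2_c20 LD3_c13)) = (LP (LK LD1_c6 LD2_c23 LD3_c27)) :=
  Lre_c IH (LK LD1_c12 LD2_c20 LD3_c13) (LK LD1_c6 LD2_c23 LD3_c27) Lrfl Lrfl
theorem f765832 : Led Lsl_at (LP (LK LD1_c11 LD2_c59 LD3_c52)) = (LP (LK LD1_c12 LD2_c20 LD3_c13)) :=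
  Lgr Lrot107 (Lpr_cf (f765829 IH) (Lpe (f762549 IH) (Lpe (f86429 IH) (Lpn (LP (LK LD1_c12 LD2_c20 LD3_c13))))))
theorem f135228 : Led Lsl_ft (LP (LK LD1_c4 LD2_c50 LD3_c23)) = (LP (LK LD1_c3 LD2_c1 LD3_c11)) :=
  Lgr Lrot54 (Lpe (K5.f86366 IH) (Lpr_ff (K5.f135214 IH) (Lpe (K5.f84204 IH) (Lpn (LP (LK LD1_c3 LD2_c1 LD3_c11))))))
theorem f24711 : Led Lsl_at (LP (LK LD1_c3 LD2_c1 LD3_c11)) = (LP (LK LD1_c6 LD2_c9 LD3_c30)) :=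
  Lre_a IH (LK LD1_c3 LD2_c1 LD3_c11) (LK LD1_c6 LD2_c9 LD3_c30) Lrfl Lrfl
theorem f438847 : Led Lsl_gt (LP (LK LD1_c9 LD2_c33 LD3_c3)) = (LP (LK LD1_c6 LD2_c9 LD3_c30)) :=
  Lgr Lrot46 (Lpe (f86035 IH) (Lpr_ft (f135228 IH) (Lpr_at (f24711 IH) (Lpn (LP (LK LD1_c6 LD2_c9 LD3_c30))))))
theorem f86032 : Led Lsl_gt (LP (LK LD1_c9 LD2_c18 LD3_c26)) = (LP (LK LD1_c4 LD2_c41 LD3_c60)) :=
  Lre_g IH (LK LD1_c9 LD2_c18 LD3_c26) (LK LD1_c4 LD2_c41 LD3_c60) Lrfl Lrfl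
theorem f86033 : Led Lsl_ct (LP (LK LD1_c17 LD2_c13 LD3_c37)) = (LP (LK LD1_c9 LD2_c18 LD3_c26)) :=
  Lre_c IH (LK LD1_c17 LD2_c13 LD3_c37) (LK LD1_c9 LD2_c18 LD3_c26) Lrfl Lrfl
theorem f86034 : Led Lsl_bt (LP (LK LD1_c2 LD2_c22 LD3_c60)) = (LP (LK LD1_c4 LD2_c50 LD3_c23)) :=
  Lre_b IH (LK LD1_c2 LD2_c22 LD3_c60) (LK LD1_c4 LD2_c50 LD3_c23) Lrfl Lrfl
theorem f86036 : Led Lsl_bt (LP (LK LD1_c17 LD2_c13 LD3_c37)) = (LP (LK LD1_c9 LD2_c33 LD3_c3)) :=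
  Lgr Lrot92 (Lpr_ct (f86033 IH) (Lpr_gt (f86032 IH) (Lpe (K3.f82846 IH) (Lpr_bt (K3.f82861 IH) (Lpr_gt (K3.f86019 IH) (Lpr_ct (K2.f7489 IH) (Lpr_gt (K3.f20099 IH) (Lpe (K3.f7502 IH) (Lpr_bt (f86034 IH) (Lpr_gt (f86035 IH) (Lpn (LP (LK LD1_c9 LD2_c33 LD3_c3)))))))))))))
theorem f154486 : Led Lsl_gt (LP (LK LD1_c12 LD2_c59 LD3_c53)) = (LP (LK LD1_c9 LD2_c18 LD3_c26)) :=
  Lgr Lrot5 (Lpr_ft (K16.f154474 IH) (Lpr_at (K16.f154473 IH) (Lpe (f86032 IH) (Lpn (LP (LK LD1_c9 LD2_c18 LD3_c26))))))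
theorem f86424 : Led Lsl_ct (LP (LK LD1_c6 LD2_c23 LD3_c27)) = (LP (LK LD1_c12 LD2_c20 LD3_c13)) :=
  Lre_c IH (LK LD1_c6 LD2_c23 LD3_c27) (LK LD1_c12 LD2_c20 LD3_c13) Lrfl Lrfl
theorem f438849 : Led Lsl_gf (LP (LK LD1_c12 LD2_c20 LD3_c13)) = (LP (LK LD1_c11 LD2_c59 LD3_c54)) :=
  Lgr Lrot129 (Lpe (f86424 IH) (Lpr_bt (f86423 IH) (Lpr_gt (f153888 IH) (Lpe (K16.f154491 IH) (Lpr_ct (K16.f154450 IH) (Lpr_gt (f154486 IH) (Lpe (f86033 IH) (Lpr_bt (f86036 IH) (Lpr_gt (f438847 IH) (Lpr_ct (K5.f24909 IH) (Lpn (LP (LK LD1_c11 LD2_c59 LD3_c54)))))))))))))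
theorem f86364 : Led Lsl_gt (LP (LK LD1_c9 LD2_c33 LD3_c1)) = (LP (LK LD1_c17 LD2_c35 LD3_c15)) :=
  Lre_g IH (LK LD1_c9 LD2_c33 LD3_c1) (LK LD1_c17 LD2_c35 LD3_c15) Lrfl Lrfl
theorem f135170 : Led Lsl_gt (LP (LK LD1_c17 LD2_c35 LD3_c15)) = (LP (LK LD1_c11 LD2_c59 LD3_c54)) :=
  Lgr Lrot46 (Lpe (f86364 IH) (Lpr_ft (K5.f135164 IH) (Lpr_at (K5.f24751 IH) (Lpn (LP (LK LD1_c11 LD2_c59 LD3_c54))))))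
theorem f765835 : Led Lsl_ff (LP (LK LD1_c11 LD2_c59 LD3_c52)) = (LP (LK LD1_c17 LD2_c35 LD3_c15)) :=
  Lgr Lrot52 (Lpr_at (f765832 IH) (Lpr_gf (f438849 IH) (Lpe (f135170 IH) (Lpn (LP (LK LD1_c17 LD2_c35 LD3_c15))))))
theorem f765839 : Led Lsl_ft (LP (LK LD1_c11 LD2_c59 LD3_c52)) = (LP (LK LD1_c17 LD2_c35 LD3_c15)) :=
  Lgr Lrot48 (Lpr_ff (f765835 IH) (Lpn (LP (LK LD1_c17 LD2_c35 LD3_c15))))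
theorem f145848 : Led Lsl_ft (LP (LK LD1_c6 LD2_c49 LD3_c14)) = (LP (LK LD1_c6 LD2_c48 LD3_c37)) :=
  Lgr Lrot75 (Lpr_bf (K6.f135721 IH) (Lpr_ff (K6.f145846 IH) (Lpe (K6.f143970 IH) (Lpn (LP (LK LD1_c6 LD2_c48 LD3_c37))))))
theorem f437581 : Led Lsl_gt (LP (LK LD1_c6 LD2_c49 LD3_c14)) = (LP (LK LD1_c6 LD2_c48 LD3_c36)) :=
  Lgr Lrot5 (Lpr_ft (f145848 IH) (Lpr_at (K6.f84528 IH) (Lpe (f84537 IH) (Lpn (LP (LK LD1_c6 LD2_c48 LD3_c36))))))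
theorem f134400 : Led Lsl_bt (LP (LK LD1_c9 LD2_c20 LD3_c55)) = (LP (LK LD1_c17 LD2_c16 LD3_c53)) :=
  Lre_b IH (LK LD1_c9 LD2_c20 LD3_c55) (LK LD1_c17 LD2_c16 LD3_c53) Lrfl Lrfl
theorem f134456 : Led Lsl_at (LP (LK LD1_c17 LD2_c16 LD3_c53)) = (LP (LK LD1_c27 LD2_c6 LD3_c16)) :=
  Lre_a IH (LK LD1_c17 LD2_c16 LD3_c53) (LK LD1_c27 LD2_c6 LD3_c16) Lrfl Lrfl
theorem f133798 : Led Lsl_bt (LP (LK LD1_c12 LD2_c33 LD3_c22)) = (LP (LK LD1_c6 LD2_c33 LD3_c3)) :=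
  Lre_b IH (LK LD1_c12 LD2_c33 LD3_c22) (LK LD1_c6 LD2_c33 LD3_c3) Lrfl Lrfl
theorem f134472 : Led Lsl_at (LP (LK LD1_c21 LD2_c39 LD3_c28)) = (LP (LK LD1_c12 LD2_c33 LD3_c22)) :=
  Lre_a IH (LK LD1_c21 LD2_c39 LD3_c28) (LK LD1_c12 LD2_c33 LD3_c22) Lrfl Lrfl
theorem f134473 : Led Lsl_bt (LP (LK LD1_c27 LD2_c6 LD3_c16)) = (LP (LK LD1_c21 LD2_c39 LD3_c28)) :=
  Lgr Lrot62 (Lpe (f134456 IH) (Lpe (f134400 IH) (Lpr_af (K46.f134463 IH) (Lpe (f133798 IH) (Lpe (f134472 IH) (Lpn (LP (LK LD1_c21 LD2_c39 LD3_c28))))))))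
theorem f133749 : Led Lsl_bt (LP (LK LD1_c17 LD2_c16 LD3_c53)) = (LP (LK LD1_c9 LD2_c20 LD3_c55)) :=
  Lre_b IH (LK LD1_c17 LD2_c16 LD3_c53) (LK LD1_c9 LD2_c20 LD3_c55) Lrfl Lrfl
theorem f76773 : Led Lsl_bt (LP (LK LD1_c6 LD2_c27 LD3_c34)) = (LP (LK LD1_c12 LD2_c26 LD3_c35)) :=
  Lre_b IH (LK LD1_c6 LD2_c27 LD3_c34) (LK LD1_c12 LD2_c26 LD3_c35) Lrfl Lrfl
theorem f134465 : Led Lsl_cf (LP (LK LD1_c17 LD2_c16 LD3_c53)) = (LP (LK LD1_c12 LD2_c26 LD3_c35)) :=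
  Lgr Lrot97 (Lpr_bt (f133749 IH) (Lpr_ct (K7.f134403 IH) (Lpr_bt (K3.f76775 IH) (Lpr_ct (K6.f76762 IH) (Lpr_bt (f76773 IH) (Lpn (LP (LK LD1_c12 LD2_c26 LD3_c35))))))))
theorem f90444 : Led Lsl_at (LP (LK LD1_c21 LD2_c33 LD3_c47)) = (LP (LK LD1_c12 LD2_c26 LD3_c35)) :=
  Lre_a IH (LK LD1_c21 LD2_c33 LD3_c47) (LK LD1_c12 LD2_c26 LD3_c35) Lrfl Lrfl
theorem f134467 : Led Lsl_ct (LP (LK LD1_c27 LD2_c6 LD3_c16)) = (LP (LK LD1_c21 LD2_c33 LD3_c47)) :=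
  Lgr Lrot111 (Lpe (f134456 IH) (Lpr_cf (f134465 IH) (Lpe (f90444 IH) (Lpn (LP (LK LD1_c21 LD2_c33 LD3_c47))))))
theorem f134470 : Led Lsl_cf (LP (LK LD1_c27 LD2_c6 LD3_c16)) = (LP (LK LD1_c21 LD2_c33 LD3_c47)) :=
  Lgr Lrot11 (Lpr_ct (f134467 IH) (Lpn (LP (LK LD1_c21 LD2_c33 LD3_c47))))
theorem f90443 : Led Lsl_bt (LP (LK LD1_c12 LD2_c26 LD3_c35)) = (LP (LK LD1_c6 LD2_c27 LD3_c34)) :=
  Lre_b IH (LK LD1_c12 LD2_c26 LD3_c35) (LK LD1_c6 LD2_c27 LD3_c34) Lrfl Lrfl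
theorem f90403 : Led Lsl_bt (LP (LK LD1_c6 LD2_c18 LD3_c59)) = (LP (LK LD1_c12 LD2_c13 LD3_c45)) :=
  Lre_b IH (LK LD1_c6 LD2_c18 LD3_c59) (LK LD1_c12 LD2_c13 LD3_c45) Lrfl Lrfl
theorem f90429 : Led Lsl_at (LP (LK LD1_c12 LD2_c13 LD3_c45)) = (LP (LK LD1_c21 LD2_c19 LD3_c56)) :=
  Lre_a IH (LK LD1_c12 LD2_c13 LD3_c45) (LK LD1_c21 LD2_c19 LD3_c56) Lrfl Lrfl
theorem f90445 : Led Lsl_bf (LP (LK LD1_c21 LD2_c33 LD3_c47)) = (LP (LK LD1_c21 LD2_c19 LD3_c56)) :=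
  Lgr Lrot81 (Lpr_at (f90444 IH) (Lpr_bt (f90443 IH) (Lpr_at (K6.f90404 IH) (Lpr_bt (f90403 IH) (Lpr_at (f90429 IH) (Lpn (LP (LK LD1_c21 LD2_c19 LD3_c56))))))))
theorem f90628 : Led Lsl_bt (LP (LK LD1_c12 LD2_c3 LD3_c24)) = (LP (LK LD1_c6 LD2_c11 LD3_c47)) :=
  Lre_b IH (LK LD1_c12 LD2_c3 LD3_c24) (LK LD1_c6 LD2_c11 LD3_c47) Lrfl Lrfl
theorem f90629 : Led Lsl_cf (LP (LK LD1_c12 LD2_c3 LD3_c24)) = (LP (LK LD1_c12 LD2_c13 LD3_c45)) :=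
  Lgr Lrot97 (Lpr_bt (f90628 IH) (Lpr_ct (K3.f90621 IH) (Lpr_bt (K3.f90390 IH) (Lpr_ct (K58.f90134 IH) (Lpr_bt (f90403 IH) (Lpn (LP (LK LD1_c12 LD2_c13 LD3_c45))))))))
theorem f90636 : Led Lsl_at (LP (LK LD1_c12 LD2_c3 LD3_c24)) = (LP (LK LD1_c21 LD2_c8 LD3_c46)) :=
  Lre_a IH (LK LD1_c12 LD2_c3 LD3_c24) (LK LD1_c21 LD2_c8 LD3_c46) Lrfl Lrfl
theorem f90418 : Led Lsl_at (LP (LK LD1_c21 LD2_c19 LD3_c56)) = (LP (LK LD1_c12 LD2_c13 LD3_c45)) :=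
  Lre_a IH (LK LD1_c21 LD2_c19 LD3_c56) (LK LD1_c12 LD2_c13 LD3_c45) Lrfl Lrfl
theorem f90637 : Led Lsl_ct (LP (LK LD1_c21 LD2_c8 LD3_c46)) = (LP (LK LD1_c21 LD2_c19 LD3_c56)) :=
  Lgr Lrot111 (Lpe (f90636 IH) (Lpr_cf (f90629 IH) (Lpe (f90418 IH) (Lpn (LP (LK LD1_c21 LD2_c19 LD3_c56))))))
theorem f90654 : Led Lsl_bt (LP (LK LD1_c12 LD2_c3 LD3_c23)) = (LP (LK LD1_c6 LD2_c11 LD3_c46)) :=
  Lre_b IH (LK LD1_c12 LD2_c3 LD3_c23) (LK LD1_c6 LD2_c11 LD3_c46) Lrfl Lrfl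
theorem f90670 : Led Lsl_at (LP (LK LD1_c21 LD2_c8 LD3_c44)) = (LP (LK LD1_c12 LD2_c3 LD3_c23)) :=
  Lre_a IH (LK LD1_c21 LD2_c8 LD3_c44) (LK LD1_c12 LD2_c3 LD3_c23) Lrfl Lrfl
theorem f90671 : Led Lsl_bt (LP (LK LD1_c3 LD2_c18 LD3_c54)) = (LP (LK LD1_c6 LD2_c41 LD3_c40)) :=
  Lre_b IH (LK LD1_c3 LD2_c18 LD3_c54) (LK LD1_c6 LD2_c41 LD3_c40) Lrfl Lrfl
theorem f90672 : Led Lsl_at (LP (LK LD1_c6 LD2_c41 LD3_c40)) = (LP (LK LD1_c12 LD2_c48 LD3_c30)) :=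
  Lre_a IH (LK LD1_c6 LD2_c41 LD3_c40) (LK LD1_c12 LD2_c48 LD3_c30) Lrfl Lrfl
theorem f90673 : Led Lsl_bf (LP (LK LD1_c21 LD2_c8 LD3_c44)) = (LP (LK LD1_c12 LD2_c48 LD3_c30)) :=
  Lgr Lrot81 (Lpr_at (f90670 IH) (Lpr_bt (f90654 IH) (Lpr_at (K11.f90666 IH) (Lpr_bt (f90671 IH) (Lpr_at (f90672 IH) (Lpn (LP (LK LD1_c12 LD2_c48 LD3_c30))))))))
theorem f90778 : Led Lsl_bt (LP (LK LD1_c21 LD2_c8 LD3_c44)) = (LP (LK LD1_c12 LD2_c48 LD3_c30)) :=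
  Lgr Lrot127 (Lpr_bf (f90673 IH) (Lpn (LP (LK LD1_c12 LD2_c48 LD3_c30))))
theorem f90741 : Led Lsl_ff (LP (LK LD1_c12 LD2_c3 LD3_c24)) = (LP (LK LD1_c6 LD2_c41 LD3_c40)) :=
  Lgr Lrot25 (Lpr_bt (f90628 IH) (Lpr_ft (K11.f90683 IH) (Lpr_bt (f90671 IH) (Lpn (LP (LK LD1_c6 LD2_c41 LD3_c40))))))
theorem f90618 : Led Lsl_bt (LP (LK LD1_c6 LD2_c11 LD3_c47)) = (LP (LK LD1_c12 LD2_c3 LD3_c24)) :=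
  Lre_b IH (LK LD1_c6 LD2_c11 LD3_c47) (LK LD1_c12 LD2_c3 LD3_c24) Lrfl Lrfl
theorem f90392 : Led Lsl_bt (LP (LK LD1_c12 LD2_c13 LD3_c45)) = (LP (LK LD1_c6 LD2_c18 LD3_c59)) :=
  Lre_b IH (LK LD1_c12 LD2_c13 LD3_c45) (LK LD1_c6 LD2_c18 LD3_c59) Lrfl Lrfl
theorem f90619 : Led Lsl_ct (LP (LK LD1_c12 LD2_c3 LD3_c24)) = (LP (LK LD1_c12 LD2_c13 LD3_c45)) :=
  Lgr Lrot83 (Lpe (f90618 IH) (Lpr_cf (K3.f90614 IH) (Lpr_bf (K3.f90387 IH) (Lpe (K3.f90130 IH) (Lpe (f90392 IH) (Lpn (LP (LK LD1_c12 LD2_c13 LD3_c45))))))))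
theorem f86755 : Led Lsl_bt (LP (LK LD1_c12 LD2_c26 LD3_c34)) = (LP (LK LD1_c6 LD2_c27 LD3_c31)) :=
  Lre_b IH (LK LD1_c12 LD2_c26 LD3_c34) (LK LD1_c6 LD2_c27 LD3_c31) Lrfl Lrfl
theorem f90415 : Led Lsl_ff (LP (LK LD1_c12 LD2_c26 LD3_c34)) = (LP (LK LD1_c12 LD2_c13 LD3_c45)) :=
  Lgr Lrot25 (Lpr_bt (f86755 IH) (Lpr_ft (K6.f90412 IH) (Lpr_bt (f90403 IH) (Lpn (LP (LK LD1_c12 LD2_c13 LD3_c45))))))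
theorem f90748 : Led Lsl_ct (LP (LK LD1_c12 LD2_c26 LD3_c34)) = (LP (LK LD1_c6 LD2_c41 LD3_c40)) :=
  Lgr Lrot40 (Lpr_ff (f90415 IH) (Lpe (f90619 IH) (Lpr_ff (f90741 IH) (Lpn (LP (LK LD1_c6 LD2_c41 LD3_c40))))))
theorem f90759 : Led Lsl_cf (LP (LK LD1_c12 LD2_c26 LD3_c34)) = (LP (LK LD1_c6 LD2_c41 LD3_c40)) :=
  Lgr Lrot11 (Lpr_ct (f90748 IH) (Lpn (LP (LK LD1_c6 LD2_c41 LD3_c40))))
theorem f90417 : Led Lsl_at (LP (LK LD1_c12 LD2_c26 LD3_c34)) = (LP (LK LD1_c21 LD2_c33 LD3_c44)) :=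
  Lre_a IH (LK LD1_c12 LD2_c26 LD3_c34) (LK LD1_c21 LD2_c33 LD3_c44) Lrfl Lrfl
theorem f90745 : Led Lsl_at (LP (LK LD1_c12 LD2_c48 LD3_c30)) = (LP (LK LD1_c6 LD2_c41 LD3_c40)) :=
  Lre_a IH (LK LD1_c12 LD2_c48 LD3_c30) (LK LD1_c6 LD2_c41 LD3_c40) Lrfl Lrfl
theorem f90764 : Led Lsl_ct (LP (LK LD1_c21 LD2_c33 LD3_c44)) = (LP (LK LD1_c12 LD2_c48 LD3_c30)) :=
  Lgr Lrot111 (Lpe (f90417 IH) (Lpr_cf (f90759 IH) (Lpe (f90745 IH) (Lpn (LP (LK LD1_c12 LD2_c48 LD3_c30))))))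
theorem f90422 : Led Lsl_ft (LP (LK LD1_c12 LD2_c26 LD3_c34)) = (LP (LK LD1_c12 LD2_c13 LD3_c45)) :=
  Lgr Lrot48 (Lpr_ff (f90415 IH) (Lpn (LP (LK LD1_c12 LD2_c13 LD3_c45))))
theorem f90428 : Led Lsl_at (LP (LK LD1_c21 LD2_c33 LD3_c44)) = (LP (LK LD1_c12 LD2_c26 LD3_c34)) :=
  Lre_a IH (LK LD1_c21 LD2_c33 LD3_c44) (LK LD1_c12 LD2_c26 LD3_c34) Lrfl Lrfl
theorem f90430 : Led Lsl_ff (LP (LK LD1_c21 LD2_c33 LD3_c44)) = (LP (LK LD1_c21 LD2_c19 LD3_c56)) :=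
  Lgr Lrot30 (Lpr_at (f90428 IH) (Lpr_ft (f90422 IH) (Lpr_at (f90429 IH) (Lpn (LP (LK LD1_c21 LD2_c19 LD3_c56))))))
theorem f90769 : Led Lsl_ff (LP (LK LD1_c21 LD2_c8 LD3_c46)) = (LP (LK LD1_c12 LD2_c48 LD3_c30)) :=
  Lgr Lrot23 (Lpr_ct (f90637 IH) (Lpe (f90430 IH) (Lpr_ct (f90764 IH) (Lpn (LP (LK LD1_c12 LD2_c48 LD3_c30))))))
theorem f85862 : Led Lsl_bt (LP (LK LD1_c6 LD2_c41 LD3_c37)) = (LP (LK LD1_c3 LD2_c18 LD3_c53)) :=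
  Lre_b IH (LK LD1_c6 LD2_c41 LD3_c37) (LK LD1_c3 LD2_c18 LD3_c53) Lrfl Lrfl
theorem f90646 : Led Lsl_at (LP (LK LD1_c12 LD2_c48 LD3_c22)) = (LP (LK LD1_c6 LD2_c41 LD3_c37)) :=
  Lre_a IH (LK LD1_c12 LD2_c48 LD3_c22) (LK LD1_c6 LD2_c41 LD3_c37) Lrfl Lrfl
theorem f90647 : Led Lsl_bt (LP (LK LD1_c21 LD2_c8 LD3_c46)) = (LP (LK LD1_c12 LD2_c48 LD3_c22)) :=
  Lgr Lrot62 (Lpe (f90636 IH) (Lpe (f90618 IH) (Lpr_af (K3.f90626 IH) (Lpe (f85862 IH) (Lpe (f90646 IH) (Lpn (LP (LK LD1_c12 LD2_c48 LD3_c22))))))))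
theorem f90781 : Led Lsl_ff (LP (LK LD1_c21 LD2_c8 LD3_c44)) = (LP (LK LD1_c12 LD2_c48 LD3_c22)) :=
  Lgr Lrot25 (Lpr_bt (f90778 IH) (Lpe (f90769 IH) (Lpr_bt (f90647 IH) (Lpn (LP (LK LD1_c12 LD2_c48 LD3_c22))))))
theorem f90786 : Led Lsl_ft (LP (LK LD1_c21 LD2_c8 LD3_c44)) = (LP (LK LD1_c12 LD2_c48 LD3_c22)) :=
  Lgr Lrot48 (Lpr_ff (f90781 IH) (Lpn (LP (LK LD1_c12 LD2_c48 LD3_c22))))
theorem f90746 : Led Lsl_ft (LP (LK LD1_c21 LD2_c8 LD3_c46)) = (LP (LK LD1_c12 LD2_c48 LD3_c30)) :=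
  Lgr Lrot101 (Lpe (f90636 IH) (Lpr_ff (f90741 IH) (Lpe (f90745 IH) (Lpn (LP (LK LD1_c12 LD2_c48 LD3_c30))))))
theorem f90796 : Led Lsl_bf (LP (LK LD1_c21 LD2_c8 LD3_c46)) = (LP (LK LD1_c12 LD2_c48 LD3_c22)) :=
  Lgr Lrot61 (Lpr_ft (f90746 IH) (Lpe (f90673 IH) (Lpr_ft (f90786 IH) (Lpn (LP (LK LD1_c12 LD2_c48 LD3_c22))))))
theorem f134492 : Led Lsl_cf (LP (LK LD1_c12 LD2_c48 LD3_c22)) = (LP (LK LD1_c21 LD2_c39 LD3_c28)) :=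
  Lgr Lrot97 (Lpe (f90796 IH) (Lpr_ct (f90637 IH) (Lpe (f90445 IH) (Lpe (f134470 IH) (Lpr_bt (f134473 IH) (Lpn (LP (LK LD1_c21 LD2_c39 LD3_c28))))))))
theorem f134495 : Led Lsl_at (LP (LK LD1_c12 LD2_c33 LD3_c22)) = (LP (LK LD1_c21 LD2_c39 LD3_c28)) :=
  Lre_a IH (LK LD1_c12 LD2_c33 LD3_c22) (LK LD1_c21 LD2_c39 LD3_c28) Lrfl Lrfl
theorem f134496 : Led Lsl_ct (LP (LK LD1_c6 LD2_c41 LD3_c37)) = (LP (LK LD1_c12 LD2_c33 LD3_c22)) :=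
  Lgr Lrot111 (Lpe (f90646 IH) (Lpr_cf (f134492 IH) (Lpe (f134495 IH) (Lpn (LP (LK LD1_c12 LD2_c33 LD3_c22))))))
theorem f57773 : Led Lsl_bt (LP (LK LD1_c3 LD2_c18 LD3_c55)) = (LP (LK LD1_c1 LD2_c35 LD3_c57)) :=
  Lre_b IH (LK LD1_c3 LD2_c18 LD3_c55) (LK LD1_c1 LD2_c35 LD3_c57) Lrfl Lrfl
theorem f57768 : Led Lsl_ct (LP (LK LD1_c3 LD2_c18 LD3_c55)) = (LP (LK LD1_c1 LD2_c37 LD3_c32)) :=
  Lre_c IH (LK LD1_c3 LD2_c18 LD3_c55) (LK LD1_c1 LD2_c37 LD3_c32) Lrfl Lrfl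
theorem f133815 : Led Lsl_gt (LP (LK LD1_c12 LD2_c33 LD3_c22)) = (LP (LK LD1_c21 LD2_c39 LD3_c27)) :=
  Lre_g IH (LK LD1_c12 LD2_c33 LD3_c22) (LK LD1_c21 LD2_c39 LD3_c27) Lrfl Lrfl
theorem f133804 : Led Lsl_bt (LP (LK LD1_c6 LD2_c33 LD3_c3)) = (LP (LK LD1_c12 LD2_c33 LD3_c22)) :=
  Lre_b IH (LK LD1_c6 LD2_c33 LD3_c3) (LK LD1_c12 LD2_c33 LD3_c22) Lrfl Lrfl
theorem f84556 : Led Lsl_bt (LP (LK LD1_c6 LD2_c48 LD3_c29)) = (LP (LK LD1_c3 LD2_c22 LD3_c23)) :=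
  Lre_b IH (LK LD1_c6 LD2_c48 LD3_c29) (LK LD1_c3 LD2_c22 LD3_c23) Lrfl Lrfl
theorem f84531 : Led Lsl_ct (LP (LK LD1_c6 LD2_c48 LD3_c29)) = (LP (LK LD1_c3 LD2_c22 LD3_c25)) :=
  Lre_c IH (LK LD1_c6 LD2_c48 LD3_c29) (LK LD1_c3 LD2_c22 LD3_c25) Lrfl Lrfl
theorem f84540 : Led Lsl_ct (LP (LK LD1_c12 LD2_c59 LD3_c43)) = (LP (LK LD1_c6 LD2_c48 LD3_c36)) :=
  Lre_c IH (LK LD1_c12 LD2_c59 LD3_c43) (LK LD1_c6 LD2_c48 LD3_c36) Lrfl Lrfl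
theorem f134081 : Led Lsl_bf (LP (LK LD1_c21 LD2_c39 LD3_c27)) = (LP (LK LD1_c12 LD2_c59 LD3_c43)) :=
  Lgr Lrot34 (Lpe (f133815 IH) (Lpe (f133804 IH) (Lpe (K6.f133807 IH) (Lpr_gf (K6.f133813 IH) (Lpr_cf (K6.f134073 IH) (Lpe (K6.f25638 IH) (Lpe (f84556 IH) (Lpr_ct (f84531 IH) (Lpe (f84537 IH) (Lpe (f84540 IH) (Lpn (LP (LK LD1_c12 LD2_c59 LD3_c43)))))))))))))
theorem f84538 : Led Lsl_ct (LP (LK LD1_c6 LD2_c48 LD3_c36)) = (LP (LK LD1_c12 LD2_c59 LD3_c43)) :=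
  Lre_c IH (LK LD1_c6 LD2_c48 LD3_c36) (LK LD1_c12 LD2_c59 LD3_c43) Lrfl Lrfl
theorem f134089 : Led Lsl_bt (LP (LK LD1_c22 LD2_c10 LD3_c11)) = (LP (LK LD1_c13 LD2_c0 LD3_c5)) :=
  Lre_b IH (LK LD1_c22 LD2_c10 LD3_c11) (LK LD1_c13 LD2_c0 LD3_c5) Lrfl Lrfl
theorem f134090 : Led Lsl_ct (LP (LK LD1_c21 LD2_c39 LD3_c27)) = (LP (LK LD1_c22 LD2_c10 LD3_c11)) :=
  Lgr Lrot83 (Lpr_bf (f134081 IH) (Lpe (f84538 IH) (Lpe (f57722 IH) (Lpe (K1.f57712 IH) (Lpe (f134089 IH) (Lpn (LP (LK LD1_c22 LD2_c10 LD3_c11))))))))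
theorem f134093 : Led Lsl_cf (LP (LK LD1_c21 LD2_c39 LD3_c27)) = (LP (LK LD1_c22 LD2_c10 LD3_c11)) :=
  Lgr Lrot11 (Lpr_ct (f134090 IH) (Lpn (LP (LK LD1_c22 LD2_c10 LD3_c11))))
theorem f134509 : Led Lsl_gf (LP (LK LD1_c6 LD2_c48 LD3_c57)) = (LP (LK LD1_c13 LD2_c0 LD3_c5)) :=
  Lgr Lrot181 (Lpr_ct (K34.f89119 IH) (Lpr_gt (f25424 IH) (Lpe (f57768 IH) (Lpr_bt (f57773 IH) (Lpr_gt (K5.f57774 IH) (Lpe (f85862 IH) (Lpr_ct (f134496 IH) (Lpr_gt (f133815 IH) (Lpr_cf (f134093 IH) (Lpr_bt (f134089 IH) (Lpn (LP (LK LD1_c13 LD2_c0 LD3_c5)))))))))))))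
theorem f86481 : Led Lsl_ct (LP (LK LD1_c3 LD2_c22 LD3_c33)) = (LP (LK LD1_c6 LD2_c48 LD3_c57)) :=
  Lre_c IH (LK LD1_c3 LD2_c22 LD3_c33) (LK LD1_c6 LD2_c48 LD3_c57) Lrfl Lrfl
theorem f134514 : Led Lsl_bt (LP (LK LD1_c3 LD2_c22 LD3_c33)) = (LP (LK LD1_c6 LD2_c48 LD3_c56)) :=
  Lre_b IH (LK LD1_c3 LD2_c22 LD3_c33) (LK LD1_c6 LD2_c48 LD3_c56) Lrfl Lrfl
theorem f25486 : Led Lsl_gt (LP (LK LD1_c6 LD2_c48 LD3_c56)) = (LP (LK LD1_c13 LD2_c0 LD3_c15)) :=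
  Lre_g IH (LK LD1_c6 LD2_c48 LD3_c56) (LK LD1_c13 LD2_c0 LD3_c15) Lrfl Lrfl
theorem f437585 : Led Lsl_cf (LP (LK LD1_c17 LD2_c35 LD3_c15)) = (LP (LK LD1_c13 LD2_c0 LD3_c15)) :=
  Lgr Lrot125 (Lpr_gt (f135170 IH) (Lpe (K5.f24909 IH) (Lpe (K6.f135721 IH) (Lpr_gt (f437581 IH) (Lpe (f57722 IH) (Lpr_ct (f57726 IH) (Lpe (f134509 IH) (Lpe (f86481 IH) (Lpr_bt (f134514 IH) (Lpr_gt (f25486 IH) (Lpn (LP (LK LD1_c13 LD2_c0 LD3_c15)))))))))))))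
theorem f437587 : Led Lsl_ct (LP (LK LD1_c17 LD2_c35 LD3_c15)) = (LP (LK LD1_c13 LD2_c0 LD3_c15)) :=
  Lgr Lrot59 (Lpr_cf (f437585 IH) (Lpn (LP (LK LD1_c13 LD2_c0 LD3_c15))))
theorem f765841 : Led Lsl_ff (LP (LK LD1_c12 LD2_c20 LD3_c12)) = (LP (LK LD1_c13 LD2_c0 LD3_c15)) :=
  Lgr Lrot23 (Lpe (f765829 IH) (Lpr_ft (f765839 IH) (Lpr_ct (f437587 IH) (Lpn (LP (LK LD1_c13 LD2_c0 LD3_c15))))))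
theorem f762546 : Led Lsl_ft (LP (LK LD1_c6 LD2_c23 LD3_c27)) = (LP (LK LD1_c12 LD2_c20 LD3_c16)) :=
  Lre_f IH (LK LD1_c6 LD2_c23 LD3_c27) (LK LD1_c12 LD2_c20 LD3_c16) Lrfl Lrfl
theorem f765843 : Led Lsl_at (LP (LK LD1_c12 LD2_c20 LD3_c16)) = (LP (LK LD1_c13 LD2_c0 LD3_c15)) :=
  Lgr Lrot66 (Lpe (f762546 IH) (Lpe (f765806 IH) (Lpr_ff (f765841 IH) (Lpn (LP (LK LD1_c13 LD2_c0 LD3_c15))))))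
def v17872 : LQ := Led Lsl_gt (LP (LK LD1_c6 LD2_c23 LD3_c27))
theorem f762545 : Led Lsl_gt (LP (LK LD1_c6 LD2_c23 LD3_c27)) = v17872 :=
  Lrfl
theorem f765894 : v17872 = (LP (LK LD1_c6 LD2_c48 LD3_c56)) :=
  (Llr Lrot5 (Lpe (f762545 IH) (Lpr_ft (f762546 IH) (Lpr_at (f765843 IH) (Lpe (f25486 IH) (Lpn (LP (LK LD1_c6 LD2_c48 LD3_c56)))))))).symm
theorem f86427 : Led Lsl_gt (LP (LK LD1_c12 LD2_c20 LD3_c11)) = (LP (LK LD1_c6 LD2_c23 LD3_c27)) :=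
  Lre_g IH (LK LD1_c12 LD2_c20 LD3_c11) (LK LD1_c6 LD2_c23 LD3_c27) Lrfl Lrfl
theorem f765906 : Led Lsl_ff (LP (LK LD1_c13 LD2_c0 LD3_c16)) = (LP (LK LD1_c12 LD2_c20 LD3_c11)) :=
  Lgr Lrot52 (Lpr_at (f653583 IH) (Lpq (f765894 IH) (Lpe (f762545 IH) (Lpe (f86427 IH) (Lpn (LP (LK LD1_c12 LD2_c20 LD3_c11)))))))
theorem f783319 : Led Lsl_af (LP (LK LD1_c12 LD2_c20 LD3_c11)) = v19955 :=
  Lgr Lrot45 (Lpe (f765906 IH) (Lpr_at (f653583 IH) (Lpr_ft (f783318 IH) (Lpn v19955))))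
theorem f783324 : Led Lsl_bf (LP (LK LD1_c13 LD2_c0 LD3_c2)) = (LP (LK LD1_c12 LD2_c20 LD3_c11)) :=
  Lgr Lrot81 (Lpr_at (f84071 IH) (Lpr_bt (K2.f84068 IH) (Lpr_at (f653571 IH) (Lpr_bt (f783323 IH) (Lpe (f783319 IH) (Lpn (LP (LK LD1_c12 LD2_c20 LD3_c11))))))))
theorem f783325 : Led Lsl_bt (LP (LK LD1_c12 LD2_c20 LD3_c11)) = (LP (LK LD1_c13 LD2_c0 LD3_c2)) :=
  Leop (Lpr_bf (f783324 IH) (Lpn (LP (LK LD1_c12 LD2_c20 LD3_c11))))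
theorem seed_1489 : LEOK LG_b (LK LD1_c12 LD2_c20 LD3_c11) :=
  Leoe_b (LK LD1_c12 LD2_c20 LD3_c11) (f783325 IH)
def v19949 : LQ := Led Lsl_at (LP (LK LD1_c6 LD2_c48 LD3_c53))
theorem f783281 : Led Lsl_at (LP (LK LD1_c6 LD2_c48 LD3_c53)) = v19949 :=
  Lrfl
theorem f783283 : Led Lsl_cf v6480 = v19949 :=
  Lgr Lrot1 (Lpe (f653572 IH) (Lpr_ct (K1.f57710 IH) (Lpr_at (f783281 IH) (Lpn v19949))))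
theorem f783284 : Led Lsl_ct v6480 = v19949 :=
  Lgr Lrot59 (Lpr_cf (f783283 IH) (Lpn v19949))
theorem f105674 : Led Lsl_ct (LP (LK LD1_c6 LD2_c13 LD3_c2)) = (LP (LK LD1_c12 LD2_c5 LD3_c1)) :=
  Lre_c IH (LK LD1_c6 LD2_c13 LD3_c2) (LK LD1_c12 LD2_c5 LD3_c1) Lrfl Lrfl
def v17190 : LQ := Led Lsl_at (LP (LK LD1_c6 LD2_c13 LD3_c1))
theorem f756569 : Led Lsl_at (LP (LK LD1_c6 LD2_c13 LD3_c1)) = v17190 :=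
  Lrfl
theorem f756570 : Led Lsl_af (LP (LK LD1_c6 LD2_c13 LD3_c1)) = v17190 :=
  Lgr Lrot0 (Lpr_at (f756569 IH) (Lpn v17190))
theorem f756571 : Led Lsl_ft (LP (LK LD1_c6 LD2_c13 LD3_c2)) = v17190 :=
  Lgr Lrot2 (Lpr_gt (K6.f86059 IH) (Lpr_gt (f57552 IH) (Lpr_af (f756570 IH) (Lpn v17190))))
theorem f756572 : Led Lsl_ff (LP (LK LD1_c6 LD2_c13 LD3_c2)) = v17190 :=
  Lgr Lrot3 (Lpr_ft (f756571 IH) (Lpn v17190))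
def v6481 : LQ := Led Lsl_ft (LP (LK LD1_c3 LD2_c22 LD3_c32))
theorem f653577 : Led Lsl_ft (LP (LK LD1_c3 LD2_c22 LD3_c32)) = v6481 :=
  Lrfl
theorem f653578 : Led Lsl_af (LP (LK LD1_c3 LD2_c22 LD3_c33)) = v6481 :=
  Lgr Lrot45 (Lpr_ft (f653573 IH) (Lpe (f653572 IH) (Lpr_ft (f653577 IH) (Lpn v6481))))
def v19948 : LQ := Led Lsl_ft (LP (LK LD1_c6 LD2_c48 LD3_c52))
theorem f783277 : Led Lsl_ft (LP (LK LD1_c6 LD2_c48 LD3_c52)) = v19948 :=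
  Lrfl
theorem f653580 : Led Lsl_ff (LP (LK LD1_c3 LD2_c22 LD3_c32)) = v6481 :=
  Lgr Lrot3 (Lpr_ft (f653577 IH) (Lpn v6481))
theorem f783278 : Led Lsl_bf v6481 = v19948 :=
  Lgr Lrot61 (Lpe (f653580 IH) (Lpr_bt (f84072 IH) (Lpr_ft (f783277 IH) (Lpn v19948))))
theorem f84135 : Led Lsl_bt (LP (LK LD1_c12 LD2_c4 LD3_c59)) = (LP (LK LD1_c6 LD2_c13 LD3_c1)) :=
  Lre_b IH (LK LD1_c12 LD2_c4 LD3_c59) (LK LD1_c6 LD2_c13 LD3_c1) Lrfl Lrfl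
theorem f783330 : Led Lsl_dt (LP (LK LD1_c13 LD2_c0 LD3_c2)) = (LP (LK LD1_c22 LD2_c10 LD3_c4)) :=
  Lre_d IH (LK LD1_c13 LD2_c0 LD3_c2) (LK LD1_c22 LD2_c10 LD3_c4) Lrfl Lrfl
theorem f86431 : Led Lsl_dt (LP (LK LD1_c21 LD2_c26 LD3_c29)) = (LP (LK LD1_c12 LD2_c20 LD3_c11)) :=
  Lre_d IH (LK LD1_c21 LD2_c26 LD3_c29) (LK LD1_c12 LD2_c20 LD3_c11) Lrfl Lrfl
theorem f783331 : Led Lsl_bt (LP (LK LD1_c22 LD2_c10 LD3_c4)) = (LP (LK LD1_c21 LD2_c26 LD3_c29)) :=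
  Lgr Lrot95 (Lpe (f783330 IH) (Lpr_bf (f783324 IH) (Lpe (f86431 IH) (Lpn (LP (LK LD1_c21 LD2_c26 LD3_c29))))))
theorem f153858 : Led Lsl_bt (LP (LK LD1_c1 LD2_c30 LD3_c51)) = (LP (LK LD1_c3 LD2_c9 LD3_c25)) :=
  Lre_b IH (LK LD1_c1 LD2_c30 LD3_c51) (LK LD1_c3 LD2_c9 LD3_c25) Lrfl Lrfl
theorem f153865 : Led Lsl_gt (LP (LK LD1_c3 LD2_c9 LD3_c25)) = (LP (LK LD1_c6 LD2_c23 LD3_c37)) :=
  Lre_g IH (LK LD1_c3 LD2_c9 LD3_c25) (LK LD1_c6 LD2_c23 LD3_c37) Lrfl Lrfl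
theorem f153873 : Led Lsl_bt (LP (LK LD1_c12 LD2_c20 LD3_c37)) = (LP (LK LD1_c6 LD2_c23 LD3_c37)) :=
  Lre_b IH (LK LD1_c12 LD2_c20 LD3_c37) (LK LD1_c6 LD2_c23 LD3_c37) Lrfl Lrfl
theorem f62461 : Led Lsl_gt (LP (LK LD1_c12 LD2_c0 LD3_c25)) = (LP (LK LD1_c6 LD2_c9 LD3_c43)) :=
  Lre_g IH (LK LD1_c12 LD2_c0 LD3_c25) (LK LD1_c6 LD2_c9 LD3_c43) Lrfl Lrfl
theorem f153971 : Led Lsl_ct (LP (LK LD1_c12 LD2_c20 LD3_c37)) = (LP (LK LD1_c12 LD2_c0 LD3_c25)) :=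
  Lgr Lrot64 (Lpr_bt (f153873 IH) (Lpe (f153865 IH) (Lpe (f153858 IH) (Lpr_ct (K16.f153465 IH) (Lpr_gf (K7.f153968 IH) (Lpe (K7.f82867 IH) (Lpr_gf (K7.f152243 IH) (Lpe (K7.f62489 IH) (Lpr_ct (K5.f62432 IH) (Lpe (f62461 IH) (Lpn (LP (LK LD1_c12 LD2_c0 LD3_c25)))))))))))))
theorem f86051 : Led Lsl_ct (LP (LK LD1_c9 LD2_c33 LD3_c1)) = (LP (LK LD1_c4 LD2_c50 LD3_c23)) :=
  Lre_c IH (LK LD1_c9 LD2_c33 LD3_c1) (LK LD1_c4 LD2_c50 LD3_c23) Lrfl Lrfl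
theorem f86425 : Led Lsl_gt (LP (LK LD1_c12 LD2_c20 LD3_c13)) = (LP (LK LD1_c9 LD2_c33 LD3_c1)) :=
  Lgr Lrot65 (Lpe (f86424 IH) (Lpr_bt (f86423 IH) (Lpe (K57.f86422 IH) (Lpe (K16.f67097 IH) (Lpr_ct (K2.f67085 IH) (Lpe (K2.f61776 IH) (Lpe (K6.f83205 IH) (Lpr_gf (K3.f86357 IH) (Lpe (K5.f86362 IH) (Lpr_ct (K5.f86363 IH) (Lpn (LP (LK LD1_c9 LD2_c33 LD3_c1)))))))))))))
theorem f153989 : Led Lsl_gf (LP (LK LD1_c12 LD2_c20 LD3_c37)) = (LP (LK LD1_c21 LD2_c26 LD3_c29)) :=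
  Lgr Lrot147 (Lpr_ct (f153971 IH) (Lpr_gt (f62461 IH) (Lpr_ct (K5.f62454 IH) (Lpr_df (K6.f86388 IH) (Lpe (f86051 IH) (Lpe (f86425 IH) (Lpe (f86424 IH) (Lpe (f86427 IH) (Lpe (f86431 IH) (Lpn (LP (LK LD1_c21 LD2_c26 LD3_c29))))))))))))
theorem f152248 : Led Lsl_ct (LP (LK LD1_c4 LD2_c42 LD3_c20)) = (LP (LK LD1_c9 LD2_c18 LD3_c57)) :=
  Lre_c IH (LK LD1_c4 LD2_c42 LD3_c20) (LK LD1_c9 LD2_c18 LD3_c57) Lrfl Lrfl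
theorem f152251 : Led Lsl_gt (LP (LK LD1_c9 LD2_c18 LD3_c57)) = (LP (LK LD1_c17 LD2_c14 LD3_c15)) :=
  Lre_g IH (LK LD1_c9 LD2_c18 LD3_c57) (LK LD1_c17 LD2_c14 LD3_c15) Lrfl Lrfl
theorem f783336 : Led Lsl_ct (LP (LK LD1_c22 LD2_c10 LD3_c4)) = (LP (LK LD1_c17 LD2_c14 LD3_c15)) :=
  Lgr Lrot10 (Lpr_bt (f783331 IH) (Lpe (f153989 IH) (Lpr_ct (f153971 IH) (Lpr_gt (f62461 IH) (Lpe (K5.f62432 IH) (Lpr_bt (K7.f62489 IH) (Lpe (K7.f152243 IH) (Lpe (K49.f152245 IH) (Lpr_ct (f152248 IH) (Lpr_gt (f152251 IH) (Lpn (LP (LK LD1_c17 LD2_c14 LD3_c15)))))))))))))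
theorem f152197 : Led Lsl_bt (LP (LK LD1_c2 LD2_c18 LD3_c32)) = (LP (LK LD1_c4 LD2_c42 LD3_c20)) :=
  Lre_b IH (LK LD1_c2 LD2_c18 LD3_c32) (LK LD1_c4 LD2_c42 LD3_c20) Lrfl Lrfl
theorem f152198 : Led Lsl_gt (LP (LK LD1_c4 LD2_c42 LD3_c20)) = (LP (LK LD1_c9 LD2_c19 LD3_c0)) :=
  Lre_g IH (LK LD1_c4 LD2_c42 LD3_c20) (LK LD1_c9 LD2_c19 LD3_c0) Lrfl Lrfl
theorem f152204 : Led Lsl_bt (LP (LK LD1_c17 LD2_c14 LD3_c24)) = (LP (LK LD1_c9 LD2_c19 LD3_c0)) :=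
  Lre_b IH (LK LD1_c17 LD2_c14 LD3_c24) (LK LD1_c9 LD2_c19 LD3_c0) Lrfl Lrfl
theorem f155876 : Led Lsl_bt (LP (LK LD1_c3 LD2_c35 LD3_c21)) = (LP (LK LD1_c1 LD2_c44 LD3_c31)) :=
  Lre_b IH (LK LD1_c3 LD2_c35 LD3_c21) (LK LD1_c1 LD2_c44 LD3_c31) Lrfl Lrfl
theorem f154950 : Led Lsl_gt (LP (LK LD1_c13 LD2_c37 LD3_c41)) = (LP (LK LD1_c7 LD2_c11 LD3_c38)) :=
  Lre_g IH (LK LD1_c13 LD2_c37 LD3_c41) (LK LD1_c7 LD2_c11 LD3_c38) Lrfl Lrfl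
theorem f155878 : Led Lsl_ct (LP (LK LD1_c17 LD2_c14 LD3_c24)) = (LP (LK LD1_c13 LD2_c37 LD3_c41)) :=
  Lgr Lrot64 (Lpr_bt (f152204 IH) (Lpe (f152198 IH) (Lpe (f152197 IH) (Lpr_ct (K7.f82867 IH) (Lpr_gf (K7.f152192 IH) (Lpe (K7.f25747 IH) (Lpr_gf (K7.f155871 IH) (Lpe (f155876 IH) (Lpr_ct (K11.f154930 IH) (Lpe (f154950 IH) (Lpn (LP (LK LD1_c13 LD2_c37 LD3_c41)))))))))))))
theorem f434409 : Led Lsl_cf (LP (LK LD1_c17 LD2_c14 LD3_c24)) = (LP (LK LD1_c13 LD2_c37 LD3_c41)) :=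
  Lgr Lrot11 (Lpr_ct (f155878 IH) (Lpn (LP (LK LD1_c13 LD2_c37 LD3_c41))))
theorem f433455 : Led Lsl_at (LP (LK LD1_c13 LD2_c37 LD3_c42)) = (LP (LK LD1_c7 LD2_c11 LD3_c38)) :=
  Lre_a IH (LK LD1_c13 LD2_c37 LD3_c42) (LK LD1_c7 LD2_c11 LD3_c38) Lrfl Lrfl
theorem f433456 : Led Lsl_ft (LP (LK LD1_c12 LD2_c21 LD3_c27)) = (LP (LK LD1_c13 LD2_c37 LD3_c42)) :=
  Lgr Lrot101 (Lpe (K57.f433454 IH) (Lpr_ff (K11.f433421 IH) (Lpe (f433455 IH) (Lpn (LP (LK LD1_c13 LD2_c37 LD3_c42))))))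
theorem f434135 : Led Lsl_gt (LP (LK LD1_c12 LD2_c21 LD3_c27)) = (LP (LK LD1_c13 LD2_c37 LD3_c41)) :=
  Lgr Lrot5 (Lpr_ft (f433456 IH) (Lpr_at (f433455 IH) (Lpe (f154950 IH) (Lpn (LP (LK LD1_c13 LD2_c37 LD3_c41))))))
theorem f433463 : Led Lsl_ct (LP (LK LD1_c6 LD2_c24 LD3_c14)) = (LP (LK LD1_c12 LD2_c21 LD3_c27)) :=
  Lre_c IH (LK LD1_c6 LD2_c24 LD3_c14) (LK LD1_c12 LD2_c21 LD3_c27) Lrfl Lrfl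
theorem f433491 : Led Lsl_gf (LP (LK LD1_c6 LD2_c24 LD3_c14)) = (LP (LK LD1_c7 LD2_c11 LD3_c41)) :=
  Lgr Lrot76 (Lpe (K57.f433484 IH) (Lpr_ff (K11.f433477 IH) (Lpr_gt (K57.f154918 IH) (Lpn (LP (LK LD1_c7 LD2_c11 LD3_c41))))))
theorem f57957 : Led Lsl_ct (LP (LK LD1_c4 LD2_c50 LD3_c29)) = (LP (LK LD1_c9 LD2_c28 LD3_c22)) :=
  Lre_c IH (LK LD1_c4 LD2_c50 LD3_c29) (LK LD1_c9 LD2_c28 LD3_c22) Lrfl Lrfl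
theorem f85906 : Led Lsl_at (LP (LK LD1_c12 LD2_c11 LD3_c53)) = (LP (LK LD1_c6 LD2_c17 LD3_c44)) :=
  Lre_a IH (LK LD1_c12 LD2_c11 LD3_c53) (LK LD1_c6 LD2_c17 LD3_c44) Lrfl Lrfl
theorem f57772 : Led Lsl_gt (LP (LK LD1_c12 LD2_c11 LD3_c52)) = (LP (LK LD1_c6 LD2_c17 LD3_c44)) :=
  Lre_g IH (LK LD1_c12 LD2_c11 LD3_c52) (LK LD1_c6 LD2_c17 LD3_c44) Lrfl Lrfl
theorem f85913 : Led Lsl_gt (LP (LK LD1_c9 LD2_c28 LD3_c22)) = (LP (LK LD1_c12 LD2_c11 LD3_c52)) :=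
  Lgr Lrot5 (Lpr_ft (f85896 IH) (Lpr_at (f85906 IH) (Lpe (f57772 IH) (Lpn (LP (LK LD1_c12 LD2_c11 LD3_c52))))))
theorem f67929 : Led Lsl_gt (LP (LK LD1_c12 LD2_c13 LD3_c25)) = (LP (LK LD1_c12 LD2_c27 LD3_c12)) :=
  Lgr Lrot5 (Lpr_ft (K2.f67586 IH) (Lpr_at (K2.f67585 IH) (Lpe (f67928 IH) (Lpn (LP (LK LD1_c12 LD2_c27 LD3_c12))))))
theorem f83369 : Led Lsl_ff (LP (LK LD1_c3 LD2_c11 LD3_c44)) = (LP (LK LD1_c3 LD2_c9 LD3_c17)) :=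
  Lgr Lrot30 (Lpr_at (K2.f67517 IH) (Lpr_ft (K2.f83363 IH) (Lpr_at (K57.f83368 IH) (Lpn (LP (LK LD1_c3 LD2_c9 LD3_c17))))))
theorem f83207 : Led Lsl_gt (LP (LK LD1_c3 LD2_c9 LD3_c17)) = (LP (LK LD1_c6 LD2_c23 LD3_c18)) :=
  Lre_g IH (LK LD1_c3 LD2_c9 LD3_c17) (LK LD1_c6 LD2_c23 LD3_c18) Lrfl Lrfl
theorem f83680 : Led Lsl_gf (LP (LK LD1_c6 LD2_c27 LD3_c46)) = (LP (LK LD1_c6 LD2_c23 LD3_c18)) :=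
  Lgr Lrot76 (Lpe (K2.f67517 IH) (Lpr_ff (f83369 IH) (Lpr_gt (f83207 IH) (Lpn (LP (LK LD1_c6 LD2_c23 LD3_c18))))))
theorem f83684 : Led Lsl_bt (LP (LK LD1_c12 LD2_c20 LD3_c2)) = (LP (LK LD1_c6 LD2_c23 LD3_c18)) :=
  Lre_b IH (LK LD1_c12 LD2_c20 LD3_c2) (LK LD1_c6 LD2_c23 LD3_c18) Lrfl Lrfl
theorem f85920 : Led Lsl_ct (LP (LK LD1_c12 LD2_c20 LD3_c2)) = (LP (LK LD1_c12 LD2_c11 LD3_c52)) :=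
  Lgr Lrot63 (Lpr_bt (f83684 IH) (Lpe (f83680 IH) (Lpe (K2.f67988 IH) (Lpr_ct (K2.f67548 IH) (Lpr_gt (f67929 IH) (Lpe (f84110 IH) (Lpr_bt (f57669 IH) (Lpe (K57.f57929 IH) (Lpr_ct (f57957 IH) (Lpr_gt (f85913 IH) (Lpn (LP (LK LD1_c12 LD2_c11 LD3_c52)))))))))))))
theorem f85928 : Led Lsl_cf (LP (LK LD1_c12 LD2_c20 LD3_c2)) = (LP (LK LD1_c12 LD2_c11 LD3_c52)) :=
  Lgr Lrot11 (Lpr_ct (f85920 IH) (Lpn (LP (LK LD1_c12 LD2_c11 LD3_c52))))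
theorem f434414 : Led Lsl_df (LP (LK LD1_c17 LD2_c14 LD3_c24)) = (LP (LK LD1_c12 LD2_c20 LD3_c2)) :=
  Lgr Lrot162 (Lpr_cf (f434409 IH) (Lpe (f434135 IH) (Lpe (f433463 IH) (Lpr_gf (f433491 IH) (Lpe (K57.f432429 IH) (Lpe (K57.f57929 IH) (Lpr_ct (f57957 IH) (Lpr_gt (f85913 IH) (Lpe (f85928 IH) (Lpn (LP (LK LD1_c12 LD2_c20 LD3_c2))))))))))))
theorem f85923 : Led Lsl_bt (LP (LK LD1_c6 LD2_c23 LD3_c18)) = (LP (LK LD1_c12 LD2_c20 LD3_c2)) :=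
  Lre_b IH (LK LD1_c6 LD2_c23 LD3_c18) (LK LD1_c12 LD2_c20 LD3_c2) Lrfl Lrfl
theorem f434416 : Led Lsl_dt (LP (LK LD1_c9 LD2_c19 LD3_c0)) = (LP (LK LD1_c6 LD2_c23 LD3_c18)) :=
  Lgr Lrot79 (Lpe (f152204 IH) (Lpr_df (f434414 IH) (Lpe (f85923 IH) (Lpn (LP (LK LD1_c6 LD2_c23 LD3_c18))))))
theorem f67582 : Led Lsl_dt (LP (LK LD1_c21 LD2_c34 LD3_c36)) = (LP (LK LD1_c12 LD2_c27 LD3_c13)) :=
  Lre_d IH (LK LD1_c21 LD2_c34 LD3_c36) (LK LD1_c12 LD2_c27 LD3_c13) Lrfl Lrfl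
theorem f67617 : Led Lsl_gt (LP (LK LD1_c12 LD2_c13 LD3_c26)) = (LP (LK LD1_c21 LD2_c19 LD3_c25)) :=
  Lre_g IH (LK LD1_c12 LD2_c13 LD3_c26) (LK LD1_c21 LD2_c19 LD3_c25) Lrfl Lrfl
theorem f67609 : Led Lsl_at (LP (LK LD1_c12 LD2_c27 LD3_c14)) = (LP (LK LD1_c21 LD2_c34 LD3_c36)) :=
  Lre_a IH (LK LD1_c12 LD2_c27 LD3_c14) (LK LD1_c21 LD2_c34 LD3_c36) Lrfl Lrfl
theorem f67618 : Led Lsl_gt (LP (LK LD1_c21 LD2_c19 LD3_c25)) = (LP (LK LD1_c21 LD2_c34 LD3_c36)) :=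
  Lgr Lrot46 (Lpe (f67617 IH) (Lpr_ft (K2.f67595 IH) (Lpr_at (f67609 IH) (Lpn (LP (LK LD1_c21 LD2_c34 LD3_c36))))))
theorem f434422 : Led Lsl_dt (LP (LK LD1_c17 LD2_c14 LD3_c15)) = (LP (LK LD1_c21 LD2_c19 LD3_c25)) :=
  Lgr Lrot57 (Lpe (f152251 IH) (Lpe (f152248 IH) (Lpr_gt (f152198 IH) (Lpr_dt (f434416 IH) (Lpe (f83680 IH) (Lpe (K3.f68089 IH) (Lpe (K2.f67579 IH) (Lpe (f67582 IH) (Lpe (f67618 IH) (Lpn (LP (LK LD1_c21 LD2_c19 LD3_c25))))))))))))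
theorem f434433 : Led Lsl_df (LP (LK LD1_c17 LD2_c14 LD3_c15)) = (LP (LK LD1_c21 LD2_c19 LD3_c25)) :=
  Lgr Lrot38 (Lpr_dt (f434422 IH) (Lpn (LP (LK LD1_c21 LD2_c19 LD3_c25))))
theorem f86002 : Led Lsl_ct (LP (LK LD1_c12 LD2_c13 LD3_c24)) = (LP (LK LD1_c9 LD2_c33 LD3_c8)) :=
  Lgr Lrot59 (Lpr_cf (K3.f85995 IH) (Lpn (LP (LK LD1_c9 LD2_c33 LD3_c8))))
theorem f765817 : Led Lsl_bf (LP (LK LD1_c21 LD2_c17 LD3_c56)) = (LP (LK LD1_c12 LD2_c20 LD3_c12)) :=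
  Lgr Lrot24 (Lpr_bt (f765807 IH) (Lpn (LP (LK LD1_c12 LD2_c20 LD3_c12))))
theorem f762603 : Led Lsl_at (LP (LK LD1_c12 LD2_c20 LD3_c26)) = (LP (LK LD1_c6 LD2_c23 LD3_c32)) :=
  Lre_a IH (LK LD1_c12 LD2_c20 LD3_c26) (LK LD1_c6 LD2_c23 LD3_c32) Lrfl Lrfl
theorem f765810 : Led Lsl_ft (LP (LK LD1_c21 LD2_c17 LD3_c56)) = (LP (LK LD1_c12 LD2_c20 LD3_c26)) :=
  Lgr Lrot101 (Lpr_af (f765802 IH) (Lpe (f762609 IH) (Lpe (f762603 IH) (Lpn (LP (LK LD1_c12 LD2_c20 LD3_c26))))))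
theorem f765845 : Led Lsl_bt (LP (LK LD1_c12 LD2_c20 LD3_c26)) = (LP (LK LD1_c13 LD2_c0 LD3_c15)) :=
  Lgr Lrot35 (Lpe (f765810 IH) (Lpr_bf (f765817 IH) (Lpr_ff (f765841 IH) (Lpn (LP (LK LD1_c13 LD2_c0 LD3_c15))))))
theorem f765851 : Led Lsl_bf (LP (LK LD1_c12 LD2_c20 LD3_c26)) = (LP (LK LD1_c13 LD2_c0 LD3_c15)) :=
  Lgr Lrot24 (Lpr_bt (f765845 IH) (Lpn (LP (LK LD1_c13 LD2_c0 LD3_c15))))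
theorem f765853 : Led Lsl_gt (LP (LK LD1_c12 LD2_c20 LD3_c26)) = (LP (LK LD1_c9 LD2_c33 LD3_c8)) :=
  Lgr Lrot82 (Lpr_bf (f765851 IH) (Lpe (f437585 IH) (Lpe (f86364 IH) (Lpe (K5.f86363 IH) (Lpr_bt (K5.f86362 IH) (Lpe (K3.f86008 IH) (Lpe (K2.f67515 IH) (Lpr_ct (K2.f67533 IH) (Lpe (K3.f67966 IH) (Lpr_cf (K3.f85995 IH) (Lpn (LP (LK LD1_c9 LD2_c33 LD3_c8)))))))))))))
theorem f765812 : Led Lsl_ff (LP (LK LD1_c21 LD2_c17 LD3_c56)) = (LP (LK LD1_c12 LD2_c20 LD3_c26)) :=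
  Lgr Lrot3 (Lpr_ft (f765810 IH) (Lpn (LP (LK LD1_c12 LD2_c20 LD3_c26))))
theorem f765804 : Led Lsl_at (LP (LK LD1_c21 LD2_c17 LD3_c56)) = (LP (LK LD1_c12 LD2_c20 LD3_c9)) :=
  Lgr Lrot100 (Lpr_af (f765802 IH) (Lpn (LP (LK LD1_c12 LD2_c20 LD3_c9))))
theorem f765855 : Led Lsl_gf (LP (LK LD1_c12 LD2_c20 LD3_c9)) = (LP (LK LD1_c9 LD2_c33 LD3_c8)) :=
  Lgr Lrot76 (Lpe (f765804 IH) (Lpr_ff (f765812 IH) (Lpr_gt (f765853 IH) (Lpn (LP (LK LD1_c9 LD2_c33 LD3_c8))))))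
def v17871 : LQ := Led Lsl_dt (LP (LK LD1_c6 LD2_c23 LD3_c26))
theorem f762533 : Led Lsl_dt (LP (LK LD1_c6 LD2_c23 LD3_c26)) = v17871 :=
  Lrfl
theorem f762535 : Led Lsl_df (LP (LK LD1_c6 LD2_c23 LD3_c26)) = v17871 :=
  Lgr Lrot38 (Lpr_dt (f762533 IH) (Lpn v17871))
def v13288 : LQ := Led Lsl_at (LP (LK LD1_c4 LD2_c42 LD3_c24))
theorem f702167 : Led Lsl_at (LP (LK LD1_c4 LD2_c42 LD3_c24)) = v13288 :=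
  Lrfl
theorem f702168 : Led Lsl_af (LP (LK LD1_c4 LD2_c42 LD3_c24)) = v13288 :=
  Lgr Lrot0 (Lpr_at (f702167 IH) (Lpn v13288))
theorem f82796 : Led Lsl_gt (LP (LK LD1_c2 LD2_c18 LD3_c34)) = (LP (LK LD1_c4 LD2_c42 LD3_c24)) :=
  Lre_g IH (LK LD1_c2 LD2_c18 LD3_c34) (LK LD1_c4 LD2_c42 LD3_c24) Lrfl Lrfl
theorem f702170 : Led Lsl_ft (LP (LK LD1_c4 LD2_c42 LD3_c25)) = v13288 :=
  Lgr Lrot2 (Lpr_gt (K3.f82825 IH) (Lpr_gt (f82796 IH) (Lpr_af (f702168 IH) (Lpn v13288))))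
theorem f702171 : Led Lsl_ff (LP (LK LD1_c4 LD2_c42 LD3_c25)) = v13288 :=
  Lgr Lrot3 (Lpr_ft (f702170 IH) (Lpn v13288))
theorem f153926 : Led Lsl_dt (LP (LK LD1_c6 LD2_c23 LD3_c34)) = (LP (LK LD1_c3 LD2_c9 LD3_c23)) :=
  Lre_d IH (LK LD1_c6 LD2_c23 LD3_c34) (LK LD1_c3 LD2_c9 LD3_c23) Lrfl Lrfl
theorem f762536 : Led Lsl_ff (LP (LK LD1_c6 LD2_c23 LD3_c34)) = v17871 :=
  Lgr Lrot19 (Lpr_dt (f153926 IH) (Lpr_ft (K57.f648129 IH) (Lpr_dt (f762533 IH) (Lpn v17871))))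
theorem f762538 : Led Lsl_ft (LP (LK LD1_c6 LD2_c23 LD3_c34)) = v17871 :=
  Lgr Lrot48 (Lpr_ff (f762536 IH) (Lpn v17871))
def v17878 : LQ := Led Lsl_ft (LP (LK LD1_c6 LD2_c23 LD3_c29))
theorem f762582 : Led Lsl_ft (LP (LK LD1_c6 LD2_c23 LD3_c29)) = v17878 :=
  Lrfl
theorem f762534 : Led Lsl_af (LP (LK LD1_c6 LD2_c23 LD3_c29)) = v17871 :=
  Lgr Lrot117 (Lpr_dt (f153924 IH) (Lpr_at (K57.f648122 IH) (Lpr_dt (f762533 IH) (Lpn v17871))))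
theorem f762583 : Led Lsl_af (LP (LK LD1_c6 LD2_c23 LD3_c34)) = v17878 :=
  Lgr Lrot45 (Lpr_ft (f762538 IH) (Lpe (f762534 IH) (Lpr_ft (f762582 IH) (Lpn v17878))))
theorem f113234 : Led Lsl_bt (LP (LK LD1_c3 LD2_c22 LD3_c49)) = (LP (LK LD1_c1 LD2_c37 LD3_c45)) :=
  Lre_b IH (LK LD1_c3 LD2_c22 LD3_c49) (LK LD1_c1 LD2_c37 LD3_c45) Lrfl Lrfl
theorem f113185 : Led Lsl_ct (LP (LK LD1_c3 LD2_c22 LD3_c49)) = (LP (LK LD1_c6 LD2_c49 LD3_c10)) :=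
  Lre_c IH (LK LD1_c3 LD2_c22 LD3_c49) (LK LD1_c6 LD2_c49 LD3_c10) Lrfl Lrfl
theorem f113212 : Led Lsl_gt (LP (LK LD1_c13 LD2_c0 LD3_c37)) = (LP (LK LD1_c6 LD2_c49 LD3_c10)) :=
  Lre_g IH (LK LD1_c13 LD2_c0 LD3_c37) (LK LD1_c6 LD2_c49 LD3_c10) Lrfl Lrfl
theorem f762542 : Led Lsl_bt (LP (LK LD1_c12 LD2_c20 LD3_c14)) = (LP (LK LD1_c6 LD2_c23 LD3_c29)) :=
  Lre_b IH (LK LD1_c12 LD2_c20 LD3_c14) (LK LD1_c6 LD2_c23 LD3_c29) Lrfl Lrfl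
theorem f782993 : Led Lsl_cf (LP (LK LD1_c13 LD2_c0 LD3_c37)) = (LP (LK LD1_c12 LD2_c20 LD3_c14)) :=
  Lgr Lrot160 (Lpr_gt (f113212 IH) (Lpe (f113185 IH) (Lpr_bt (f113234 IH) (Lpe (K6.f135482 IH) (Lpr_ct (K2.f25060 IH) (Lpr_gt (K7.f152654 IH) (Lpe (K7.f152645 IH) (Lpr_bt (f152641 IH) (Lpr_gt (f653565 IH) (Lpqs (f782947 IH) (Lpe (f762542 IH) (Lpn (LP (LK LD1_c12 LD2_c20 LD3_c14))))))))))))))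
theorem f783003 : Led Lsl_ct (LP (LK LD1_c13 LD2_c0 LD3_c37)) = (LP (LK LD1_c12 LD2_c20 LD3_c14)) :=
  Lgr Lrot59 (Lpr_cf (f782993 IH) (Lpn (LP (LK LD1_c12 LD2_c20 LD3_c14))))
theorem f765823 : Led Lsl_dt (LP (LK LD1_c17 LD2_c35 LD3_c30)) = (LP (LK LD1_c12 LD2_c20 LD3_c12)) :=
  Lgr Lrot42 (Lpr_df (f765819 IH) (Lpn (LP (LK LD1_c12 LD2_c20 LD3_c12))))
theorem f438859 : Led Lsl_dt (LP (LK LD1_c6 LD2_c23 LD3_c27)) = (LP (LK LD1_c12 LD2_c20 LD3_c14)) :=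
  Lre_d IH (LK LD1_c6 LD2_c23 LD3_c27) (LK LD1_c12 LD2_c20 LD3_c14) Lrfl Lrfl
theorem f765943 : Led Lsl_af (LP (LK LD1_c17 LD2_c35 LD3_c30)) = (LP (LK LD1_c12 LD2_c20 LD3_c14)) :=
  Lgr Lrot117 (Lpr_dt (f765823 IH) (Lpr_at (f765806 IH) (Lpr_dt (f438859 IH) (Lpn (LP (LK LD1_c12 LD2_c20 LD3_c14))))))
theorem f783013 : Led Lsl_af (LP (LK LD1_c13 LD2_c0 LD3_c37)) = (LP (LK LD1_c12 LD2_c59 LD3_c32)) :=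
  Lgr Lrot68 (Lpr_ct (f783003 IH) (Lpe (f765943 IH) (Lpe (f444449 IH) (Lpn (LP (LK LD1_c12 LD2_c59 LD3_c32))))))
theorem f84561 : Led Lsl_ct (LP (LK LD1_c12 LD2_c59 LD3_c34)) = (LP (LK LD1_c6 LD2_c48 LD3_c37)) :=
  Lre_c IH (LK LD1_c12 LD2_c59 LD3_c34) (LK LD1_c6 LD2_c48 LD3_c37) Lrfl Lrfl
theorem f145860 : Led Lsl_ft (LP (LK LD1_c13 LD2_c0 LD3_c38)) = (LP (LK LD1_c12 LD2_c59 LD3_c34)) :=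
  Lgr Lrot4 (Lpe (K6.f113238 IH) (Lpr_ff (K6.f145854 IH) (Lpe (f84561 IH) (Lpn (LP (LK LD1_c12 LD2_c59 LD3_c34))))))
theorem f145865 : Led Lsl_ff (LP (LK LD1_c13 LD2_c0 LD3_c38)) = (LP (LK LD1_c12 LD2_c59 LD3_c34)) :=
  Lgr Lrot3 (Lpr_ft (f145860 IH) (Lpn (LP (LK LD1_c12 LD2_c59 LD3_c34))))
theorem f113181 : Led Lsl_at (LP (LK LD1_c13 LD2_c0 LD3_c38)) = (LP (LK LD1_c6 LD2_c49 LD3_c10)) :=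
  Lre_a IH (LK LD1_c13 LD2_c0 LD3_c38) (LK LD1_c6 LD2_c49 LD3_c10) Lrfl Lrfl
theorem f145872 : Led Lsl_gf (LP (LK LD1_c13 LD2_c0 LD3_c37)) = (LP (LK LD1_c12 LD2_c59 LD3_c34)) :=
  Lgr Lrot47 (Lpr_gt (f113212 IH) (Lpe (f113181 IH) (Lpr_ff (f145865 IH) (Lpn (LP (LK LD1_c12 LD2_c59 LD3_c34))))))
theorem f143841 : Led Lsl_ff (LP (LK LD1_c6 LD2_c48 LD3_c29)) = (LP (LK LD1_c6 LD2_c49 LD3_c10)) :=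
  Lgr Lrot25 (Lpr_bt (f84556 IH) (Lpr_ft (K6.f143839 IH) (Lpr_bt (K6.f113170 IH) (Lpn (LP (LK LD1_c6 LD2_c49 LD3_c10))))))
theorem f84565 : Led Lsl_at (LP (LK LD1_c6 LD2_c48 LD3_c29)) = (LP (LK LD1_c12 LD2_c59 LD3_c34)) :=
  Lre_a IH (LK LD1_c6 LD2_c48 LD3_c29) (LK LD1_c12 LD2_c59 LD3_c34) Lrfl Lrfl
theorem f113211 : Led Lsl_gt (LP (LK LD1_c6 LD2_c49 LD3_c10)) = (LP (LK LD1_c13 LD2_c0 LD3_c36)) :=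
  Lre_g IH (LK LD1_c6 LD2_c49 LD3_c10) (LK LD1_c13 LD2_c0 LD3_c36) Lrfl Lrfl
theorem f437851 : Led Lsl_gf (LP (LK LD1_c12 LD2_c59 LD3_c34)) = (LP (LK LD1_c13 LD2_c0 LD3_c36)) :=
  Lgr Lrot76 (Lpe (f84565 IH) (Lpr_ff (f143841 IH) (Lpr_gt (f113211 IH) (Lpn (LP (LK LD1_c13 LD2_c0 LD3_c36))))))
theorem f783025 : Led Lsl_ft (LP (LK LD1_c13 LD2_c0 LD3_c36)) = (LP (LK LD1_c12 LD2_c59 LD3_c32)) :=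
  Lgr Lrot2 (Lpe (f437851 IH) (Lpe (f145872 IH) (Lpr_af (f783013 IH) (Lpn (LP (LK LD1_c12 LD2_c59 LD3_c32))))))
theorem f783027 : Led Lsl_ff (LP (LK LD1_c13 LD2_c0 LD3_c36)) = (LP (LK LD1_c12 LD2_c59 LD3_c32)) :=
  Lgr Lrot3 (Lpr_ft (f783025 IH) (Lpn (LP (LK LD1_c12 LD2_c59 LD3_c32))))
theorem f84553 : Led Lsl_at (LP (LK LD1_c12 LD2_c59 LD3_c34)) = (LP (LK LD1_c6 LD2_c48 LD3_c29)) :=
  Lre_a IH (LK LD1_c12 LD2_c59 LD3_c34) (LK LD1_c6 LD2_c48 LD3_c29) Lrfl Lrfl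
theorem f84543 : Led Lsl_gt (LP (LK LD1_c12 LD2_c59 LD3_c33)) = (LP (LK LD1_c6 LD2_c48 LD3_c29)) :=
  Lre_g IH (LK LD1_c12 LD2_c59 LD3_c33) (LK LD1_c6 LD2_c48 LD3_c29) Lrfl Lrfl
theorem f145867 : Led Lsl_gt (LP (LK LD1_c13 LD2_c0 LD3_c38)) = (LP (LK LD1_c12 LD2_c59 LD3_c33)) :=
  Lgr Lrot5 (Lpr_ft (f145860 IH) (Lpr_at (f84553 IH) (Lpe (f84543 IH) (Lpn (LP (LK LD1_c12 LD2_c59 LD3_c33))))))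
theorem f783029 : Led Lsl_at (LP (LK LD1_c13 LD2_c0 LD3_c36)) = (LP (LK LD1_c12 LD2_c59 LD3_c33)) :=
  Lgr Lrot26 (Lpr_ff (f783027 IH) (Lpr_gt (f437855 IH) (Lpr_gt (f145867 IH) (Lpn (LP (LK LD1_c12 LD2_c59 LD3_c33))))))
theorem f438860 : Led Lsl_dt (LP (LK LD1_c12 LD2_c20 LD3_c14)) = (LP (LK LD1_c6 LD2_c23 LD3_c27)) :=
  Lre_d IH (LK LD1_c12 LD2_c20 LD3_c14) (LK LD1_c6 LD2_c23 LD3_c27) Lrfl Lrfl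
theorem f765821 : Led Lsl_at (LP (LK LD1_c17 LD2_c35 LD3_c30)) = (LP (LK LD1_c12 LD2_c20 LD3_c14)) :=
  Lgr Lrot51 (Lpr_df (f765819 IH) (Lpe (f762549 IH) (Lpe (f438860 IH) (Lpn (LP (LK LD1_c12 LD2_c20 LD3_c14))))))
theorem f782999 : Led Lsl_at (LP (LK LD1_c13 LD2_c0 LD3_c37)) = (LP (LK LD1_c12 LD2_c59 LD3_c32)) :=
  Lgr Lrot107 (Lpr_cf (f782993 IH) (Lpe (f765821 IH) (Lpe (f444452 IH) (Lpn (LP (LK LD1_c12 LD2_c59 LD3_c32))))))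
theorem f783035 : Led Lsl_ff (LP (LK LD1_c13 LD2_c0 LD3_c37)) = (LP (LK LD1_c12 LD2_c59 LD3_c33)) :=
  Lgr Lrot30 (Lpr_at (f782999 IH) (Lpe (f783027 IH) (Lpr_at (f783029 IH) (Lpn (LP (LK LD1_c12 LD2_c59 LD3_c33))))))
theorem f783043 : Led Lsl_ft (LP (LK LD1_c13 LD2_c0 LD3_c37)) = (LP (LK LD1_c12 LD2_c59 LD3_c33)) :=
  Lgr Lrot48 (Lpr_ff (f783035 IH) (Lpn (LP (LK LD1_c12 LD2_c59 LD3_c33))))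
theorem f154447 : Led Lsl_gf (LP (LK LD1_c6 LD2_c48 LD3_c47)) = (LP (LK LD1_c4 LD2_c42 LD3_c24)) :=
  Lgr Lrot76 (Lpe (K57.f154442 IH) (Lpr_ff (K16.f154439 IH) (Lpr_gt (f82796 IH) (Lpn (LP (LK LD1_c4 LD2_c42 LD3_c24))))))
theorem f82804 : Led Lsl_bt (LP (LK LD1_c9 LD2_c19 LD3_c6)) = (LP (LK LD1_c4 LD2_c42 LD3_c24)) :=
  Lre_b IH (LK LD1_c9 LD2_c19 LD3_c6) (LK LD1_c4 LD2_c42 LD3_c24) Lrfl Lrfl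
theorem f438851 : Led Lsl_ct (LP (LK LD1_c9 LD2_c19 LD3_c6)) = (LP (LK LD1_c12 LD2_c59 LD3_c33)) :=
  Lgr Lrot10 (Lpr_bt (f82804 IH) (Lpe (f154447 IH) (Lpr_ct (K16.f154450 IH) (Lpr_gt (f154486 IH) (Lpe (f86033 IH) (Lpr_bt (f86036 IH) (Lpr_gt (f438847 IH) (Lpe (K6.f135723 IH) (Lpr_ct (K6.f113238 IH) (Lpr_gt (f145867 IH) (Lpn (LP (LK LD1_c12 LD2_c59 LD3_c33)))))))))))))
theorem f438855 : Led Lsl_cf (LP (LK LD1_c9 LD2_c19 LD3_c6)) = (LP (LK LD1_c12 LD2_c59 LD3_c33)) :=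
  Lgr Lrot11 (Lpr_ct (f438851 IH) (Lpn (LP (LK LD1_c12 LD2_c59 LD3_c33))))
theorem f783047 : Led Lsl_ff (LP (LK LD1_c12 LD2_c20 LD3_c14)) = (LP (LK LD1_c9 LD2_c19 LD3_c6)) :=
  Lgr Lrot23 (Lpe (f782993 IH) (Lpr_ft (f783043 IH) (Lpe (f438855 IH) (Lpn (LP (LK LD1_c9 LD2_c19 LD3_c6))))))
theorem f82811 : Led Lsl_bt (LP (LK LD1_c4 LD2_c42 LD3_c24)) = (LP (LK LD1_c9 LD2_c19 LD3_c6)) :=
  Lre_b IH (LK LD1_c4 LD2_c42 LD3_c24) (LK LD1_c9 LD2_c19 LD3_c6) Lrfl Lrfl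
theorem f783070 : v17878 = (LP (LK LD1_c4 LD2_c42 LD3_c24)) :=
  (Llr Lrot75 (Lpe (f762582 IH) (Lpe (f762542 IH) (Lpr_ff (f783047 IH) (Lpe (f82811 IH) (Lpn (LP (LK LD1_c4 LD2_c42 LD3_c24)))))))).symm
theorem f783071 : (LP (LK LD1_c6 LD2_c23 LD3_c34)) = v13288 :=
  Lefun (Lecon (Lfl_af (f762583 IH)) (f783070 IH)) (f702167 IH)
theorem f783080 : (LP (LK LD1_c4 LD2_c42 LD3_c25)) = v17871 :=
  Lefun (Lecon (Lfl_ff (f702171 IH)) (f783071 IH).symm) (f762538 IH)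
theorem f783088 : Led Lsl_df (LP (LK LD1_c9 LD2_c19 LD3_c9)) = (LP (LK LD1_c12 LD2_c20 LD3_c9)) :=
  Lgr Lrot12 (Lpr_bt (K3.f82826 IH) (Lpqs (f783080 IH) (Lpe (f762535 IH) (Lpr_bt (f762519 IH) (Lpn (LP (LK LD1_c12 LD2_c20 LD3_c9)))))))
theorem f783342 : Led Lsl_gf (LP (LK LD1_c13 LD2_c0 LD3_c2)) = (LP (LK LD1_c9 LD2_c19 LD3_c9)) :=
  Lgr Lrot154 (Lpr_dt (f783330 IH) (Lpr_ct (f783336 IH) (Lpr_df (f434433 IH) (Lpe (f67617 IH) (Lpe (K2.f67574 IH) (Lpe (K3.f67966 IH) (Lpr_ct (f86002 IH) (Lpe (f765855 IH) (Lpe (f783088 IH) (Lpn (LP (LK LD1_c9 LD2_c19 LD3_c9))))))))))))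
theorem f442398 : Led Lsl_at (LP (LK LD1_c6 LD2_c48 LD3_c52)) = (LP (LK LD1_c13 LD2_c0 LD3_c2)) :=
  Lre_a IH (LK LD1_c6 LD2_c48 LD3_c52) (LK LD1_c13 LD2_c0 LD3_c2) Lrfl Lrfl
theorem f783279 : Led Lsl_ff (LP (LK LD1_c6 LD2_c48 LD3_c52)) = v19948 :=
  Lgr Lrot3 (Lpr_ft (f783277 IH) (Lpn v19948))
theorem f67120 : Led Lsl_dt (LP (LK LD1_c12 LD2_c20 LD3_c28)) = (LP (LK LD1_c6 LD2_c23 LD3_c32)) :=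
  Lre_d IH (LK LD1_c12 LD2_c20 LD3_c28) (LK LD1_c6 LD2_c23 LD3_c32) Lrfl Lrfl
theorem f783095 : Led Lsl_ft (LP (LK LD1_c9 LD2_c19 LD3_c9)) = (LP (LK LD1_c12 LD2_c20 LD3_c28)) :=
  Lgr Lrot54 (Lpr_df (f783088 IH) (Lpe (f762609 IH) (Lpe (f67120 IH) (Lpn (LP (LK LD1_c12 LD2_c20 LD3_c28))))))
theorem f83211 : Led Lsl_dt (LP (LK LD1_c3 LD2_c6 LD3_c48)) = (LP (LK LD1_c3 LD2_c9 LD3_c17)) :=
  Lgr Lrot79 (Lpe (K2.f67092 IH) (Lpr_df (K2.f83203 IH) (Lpe (K3.f83210 IH) (Lpn (LP (LK LD1_c3 LD2_c9 LD3_c17))))))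
theorem f83384 : Led Lsl_ct (LP (LK LD1_c6 LD2_c23 LD3_c12)) = (LP (LK LD1_c3 LD2_c9 LD3_c17)) :=
  Lre_c IH (LK LD1_c6 LD2_c23 LD3_c12) (LK LD1_c3 LD2_c9 LD3_c17) Lrfl Lrfl
theorem f83406 : Led Lsl_gt (LP (LK LD1_c12 LD2_c19 LD3_c51)) = (LP (LK LD1_c6 LD2_c23 LD3_c12)) :=
  Lre_g IH (LK LD1_c12 LD2_c19 LD3_c51) (LK LD1_c6 LD2_c23 LD3_c12) Lrfl Lrfl
theorem f84121 : Led Lsl_bt (LP (LK LD1_c3 LD2_c22 LD3_c34)) = (LP (LK LD1_c4 LD2_c50 LD3_c29)) :=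
  Lre_b IH (LK LD1_c3 LD2_c22 LD3_c34) (LK LD1_c4 LD2_c50 LD3_c29) Lrfl Lrfl
theorem f84122 : Led Lsl_gt (LP (LK LD1_c6 LD2_c41 LD3_c45)) = (LP (LK LD1_c12 LD2_c3 LD3_c27)) :=
  Lre_g IH (LK LD1_c6 LD2_c41 LD3_c45) (LK LD1_c12 LD2_c3 LD3_c27) Lrfl Lrfl
theorem f67539 : Led Lsl_gt (LP (LK LD1_c3 LD2_c11 LD3_c53)) = (LP (LK LD1_c6 LD2_c27 LD3_c59)) :=
  Lre_g IH (LK LD1_c3 LD2_c11 LD3_c53) (LK LD1_c6 LD2_c27 LD3_c59) Lrfl Lrfl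
theorem f67540 : Led Lsl_gf (LP (LK LD1_c6 LD2_c18 LD3_c58)) = (LP (LK LD1_c6 LD2_c27 LD3_c59)) :=
  Lgr Lrot76 (Lpe (K2.f67529 IH) (Lpr_ff (K2.f67527 IH) (Lpr_gt (f67539 IH) (Lpn (LP (LK LD1_c6 LD2_c27 LD3_c59))))))
theorem f67550 : Led Lsl_bt (LP (LK LD1_c12 LD2_c27 LD3_c16)) = (LP (LK LD1_c6 LD2_c27 LD3_c59)) :=
  Lre_b IH (LK LD1_c12 LD2_c27 LD3_c16) (LK LD1_c6 LD2_c27 LD3_c59) Lrfl Lrfl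
theorem f84123 : Led Lsl_cf (LP (LK LD1_c12 LD2_c3 LD3_c27)) = (LP (LK LD1_c12 LD2_c27 LD3_c16)) :=
  Lgr Lrot58 (Lpe (f84122 IH) (Lpe (f57872 IH) (Lpr_bt (f84121 IH) (Lpr_gf (K57.f57929 IH) (Lpe (f57669 IH) (Lpr_ct (f84110 IH) (Lpe (f67929 IH) (Lpe (K2.f67548 IH) (Lpr_gf (f67540 IH) (Lpe (f67550 IH) (Lpn (LP (LK LD1_c12 LD2_c27 LD3_c16)))))))))))))
theorem f83407 : Led Lsl_gt (LP (LK LD1_c12 LD2_c26 LD3_c41)) = (LP (LK LD1_c12 LD2_c19 LD3_c51)) :=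
  Lgr Lrot5 (Lpr_ft (K2.f83386 IH) (Lpr_at (K2.f83401 IH) (Lpe (f83406 IH) (Lpn (LP (LK LD1_c12 LD2_c19 LD3_c51))))))
theorem f84136 : Led Lsl_ct (LP (LK LD1_c12 LD2_c4 LD3_c59)) = (LP (LK LD1_c12 LD2_c19 LD3_c51)) :=
  Lgr Lrot10 (Lpr_bt (f84135 IH) (Lpr_gt (f84134 IH) (Lpr_ct (f57872 IH) (Lpr_gt (f84122 IH) (Lpr_cf (f84123 IH) (Lpr_bt (f67550 IH) (Lpe (f67540 IH) (Lpr_bf (K2.f67518 IH) (Lpr_ct (K2.f67553 IH) (Lpr_gt (f83407 IH) (Lpn (LP (LK LD1_c12 LD2_c19 LD3_c51)))))))))))))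
theorem f84145 : Led Lsl_gt (LP (LK LD1_c21 LD2_c10 LD3_c10)) = (LP (LK LD1_c12 LD2_c4 LD3_c59)) :=
  Lre_g IH (LK LD1_c21 LD2_c10 LD3_c10) (LK LD1_c12 LD2_c4 LD3_c59) Lrfl Lrfl
theorem f765859 : Led Lsl_df (LP (LK LD1_c12 LD2_c20 LD3_c26)) = (LP (LK LD1_c21 LD2_c10 LD3_c10)) :=
  Lgr Lrot155 (Lpr_gt (f765853 IH) (Lpe (K3.f85995 IH) (Lpr_gt (K3.f67966 IH) (Lpr_ct (K46.f67592 IH) (Lpr_dt (f83211 IH) (Lpe (f83384 IH) (Lpe (f83406 IH) (Lpe (f84136 IH) (Lpe (f84145 IH) (Lpn (LP (LK LD1_c21 LD2_c10 LD3_c10))))))))))))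
theorem f67119 : Led Lsl_dt (LP (LK LD1_c6 LD2_c23 LD3_c32)) = (LP (LK LD1_c12 LD2_c20 LD3_c28)) :=
  Lre_d IH (LK LD1_c6 LD2_c23 LD3_c32) (LK LD1_c12 LD2_c20 LD3_c28) Lrfl Lrfl
theorem f765861 : Led Lsl_at (LP (LK LD1_c12 LD2_c20 LD3_c28)) = (LP (LK LD1_c21 LD2_c10 LD3_c10)) :=
  Lgr Lrot51 (Lpe (f67119 IH) (Lpe (f762603 IH) (Lpr_df (f765859 IH) (Lpn (LP (LK LD1_c21 LD2_c10 LD3_c10))))))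
theorem f765863 : Led Lsl_ft (LP (LK LD1_c13 LD2_c0 LD3_c1)) = (LP (LK LD1_c21 LD2_c10 LD3_c10)) :=
  Lgr Lrot54 (Lpe (f84117 IH) (Lpr_ff (f765812 IH) (Lpr_df (f765859 IH) (Lpn (LP (LK LD1_c21 LD2_c10 LD3_c10))))))
theorem f765865 : Led Lsl_ff (LP (LK LD1_c13 LD2_c0 LD3_c1)) = (LP (LK LD1_c21 LD2_c10 LD3_c10)) :=
  Lgr Lrot3 (Lpr_ft (f765863 IH) (Lpn (LP (LK LD1_c21 LD2_c10 LD3_c10))))
theorem f783098 : Led Lsl_af (LP (LK LD1_c9 LD2_c19 LD3_c9)) = (LP (LK LD1_c13 LD2_c0 LD3_c1)) :=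
  Lgr Lrot45 (Lpr_ft (f783095 IH) (Lpr_at (f765861 IH) (Lpe (f765865 IH) (Lpn (LP (LK LD1_c13 LD2_c0 LD3_c1))))))
theorem f783103 : Led Lsl_gf (LP (LK LD1_c9 LD2_c19 LD3_c9)) = (LP (LK LD1_c12 LD2_c4 LD3_c59)) :=
  Lgr Lrot76 (Lpr_af (f783098 IH) (Lpr_ff (f765865 IH) (Lpr_gt (f84145 IH) (Lpn (LP (LK LD1_c12 LD2_c4 LD3_c59))))))
theorem f783351 : v19948 = (LP (LK LD1_c12 LD2_c4 LD3_c59)) :=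
  (Llr Lrot52 (Lpe (f783279 IH) (Lpr_at (f442398 IH) (Lpr_gf (f783342 IH) (Lpr_gf (f783103 IH) (Lpn (LP (LK LD1_c12 LD2_c4 LD3_c59)))))))).symm
theorem f783354 : v6481 = (LP (LK LD1_c6 LD2_c13 LD3_c1)) :=
  Lefun (Lecon (Lfl_bf (f783278 IH)) (f783351 IH)) (f84135 IH)
theorem f783355 : (LP (LK LD1_c3 LD2_c22 LD3_c33)) = v17190 :=
  Lefun (Lecon (Lfl_af (f653578 IH)) (f783354 IH)) (f756569 IH)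
theorem f783370 : (LP (LK LD1_c6 LD2_c13 LD3_c2)) = v6480 :=
  Lefun (Lecon (Lfl_ff (f756572 IH)) (f783355 IH).symm) (f653573 IH)
theorem f783388 : v19949 = (LP (LK LD1_c12 LD2_c5 LD3_c1)) :=
  Lefun (Lecon (f783284 IH) (f783370 IH).symm) (f105674 IH)
theorem f653575 : Led Lsl_ff (LP (LK LD1_c3 LD2_c22 LD3_c33)) = v6480 :=
  Lgr Lrot3 (Lpr_ft (f653573 IH) (Lpn v6480))
theorem f783285 : Led Lsl_ft (LP (LK LD1_c6 LD2_c48 LD3_c57)) = v19949 :=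
  Lgr Lrot4 (Lpe (f86481 IH) (Lpr_ff (f653575 IH) (Lpr_cf (f783283 IH) (Lpn v19949))))
theorem f134517 : Led Lsl_dt (LP (LK LD1_c13 LD2_c0 LD3_c21)) = (LP (LK LD1_c6 LD2_c48 LD3_c57)) :=
  Lre_d IH (LK LD1_c13 LD2_c0 LD3_c21) (LK LD1_c6 LD2_c48 LD3_c57) Lrfl Lrfl
theorem f105686 : Led Lsl_dt (LP (LK LD1_c12 LD2_c5 LD3_c1)) = (LP (LK LD1_c21 LD2_c10 LD3_c20)) :=
  Lre_d IH (LK LD1_c12 LD2_c5 LD3_c1) (LK LD1_c21 LD2_c10 LD3_c20) Lrfl Lrfl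
theorem f783408 : Led Lsl_ff (LP (LK LD1_c13 LD2_c0 LD3_c21)) = (LP (LK LD1_c21 LD2_c10 LD3_c20)) :=
  Lgr Lrot19 (Lpr_dt (f134517 IH) (Lpr_ft (f783285 IH) (Lpqs (f783388 IH) (Lpr_dt (f105686 IH) (Lpn (LP (LK LD1_c21 LD2_c10 LD3_c20)))))))
theorem f105677 : Led Lsl_dt (LP (LK LD1_c21 LD2_c10 LD3_c20)) = (LP (LK LD1_c12 LD2_c5 LD3_c1)) :=
  Lre_d IH (LK LD1_c21 LD2_c10 LD3_c20) (LK LD1_c12 LD2_c5 LD3_c1) Lrfl Lrfl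
theorem f433833 : Led Lsl_dt (LP (LK LD1_c12 LD2_c21 LD3_c12)) = (LP (LK LD1_c21 LD2_c27 LD3_c32)) :=
  Lre_d IH (LK LD1_c12 LD2_c21 LD3_c12) (LK LD1_c21 LD2_c27 LD3_c32) Lrfl Lrfl
theorem f84129 : Led Lsl_dt (LP (LK LD1_c12 LD2_c3 LD3_c27)) = (LP (LK LD1_c21 LD2_c8 LD3_c53)) :=
  Lre_d IH (LK LD1_c12 LD2_c3 LD3_c27) (LK LD1_c21 LD2_c8 LD3_c53) Lrfl Lrfl
theorem f433504 : Led Lsl_at (LP (LK LD1_c3 LD2_c9 LD3_c36)) = (LP (LK LD1_c6 LD2_c23 LD3_c61)) :=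
  Lre_a IH (LK LD1_c3 LD2_c9 LD3_c36) (LK LD1_c6 LD2_c23 LD3_c61) Lrfl Lrfl
theorem f433868 : Led Lsl_ff (LP (LK LD1_c3 LD2_c9 LD3_c36)) = (LP (LK LD1_c4 LD2_c42 LD3_c30)) :=
  Lgr Lrot103 (Lpr_at (f433504 IH) (Lpe (f433758 IH) (Lpe (f433821 IH) (Lpe (f433862 IH) (Lpr_df (f433863 IH) (Lpe (f433081 IH) (Lpe (f433442 IH) (Lpe (K49.f154396 IH) (Lpr_df (f154630 IH) (Lpn (LP (LK LD1_c4 LD2_c42 LD3_c30))))))))))))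
theorem f433882 : Led Lsl_dt (LP (LK LD1_c3 LD2_c9 LD3_c36)) = (LP (LK LD1_c3 LD2_c35 LD3_c21)) :=
  Lgr Lrot60 (Lpr_ff (f433868 IH) (Lpr_df (f433880 IH) (Lpr_ff (K11.f433477 IH) (Lpn (LP (LK LD1_c3 LD2_c35 LD3_c21))))))
theorem f155877 : Led Lsl_dt (LP (LK LD1_c13 LD2_c37 LD3_c43)) = (LP (LK LD1_c7 LD2_c11 LD3_c38)) :=
  Lre_d IH (LK LD1_c13 LD2_c37 LD3_c43) (LK LD1_c7 LD2_c11 LD3_c38) Lrfl Lrfl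
theorem f436057 : Led Lsl_gt (LP (LK LD1_c21 LD2_c8 LD3_c53)) = (LP (LK LD1_c13 LD2_c37 LD3_c43)) :=
  Lgr Lrot49 (Lpe (f84129 IH) (Lpe (f84122 IH) (Lpe (f57872 IH) (Lpr_gt (K6.f57900 IH) (Lpr_dt (f436050 IH) (Lpr_gt (f432349 IH) (Lpr_dt (f433882 IH) (Lpe (K57.f154917 IH) (Lpe (f155877 IH) (Lpn (LP (LK LD1_c13 LD2_c37 LD3_c43))))))))))))
theorem f84133 : Led Lsl_dt (LP (LK LD1_c21 LD2_c8 LD3_c53)) = (LP (LK LD1_c12 LD2_c3 LD3_c27)) :=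
  Lre_d IH (LK LD1_c21 LD2_c8 LD3_c53) (LK LD1_c12 LD2_c3 LD3_c27) Lrfl Lrfl
theorem f84131 : Led Lsl_gt (LP (LK LD1_c12 LD2_c3 LD3_c27)) = (LP (LK LD1_c6 LD2_c11 LD3_c48)) :=
  Lre_g IH (LK LD1_c12 LD2_c3 LD3_c27) (LK LD1_c6 LD2_c11 LD3_c48) Lrfl Lrfl
theorem f84147 : Led Lsl_ct (LP (LK LD1_c6 LD2_c13 LD3_c1)) = (LP (LK LD1_c12 LD2_c4 LD3_c60)) :=
  Lre_c IH (LK LD1_c6 LD2_c13 LD3_c1) (LK LD1_c12 LD2_c4 LD3_c60) Lrfl Lrfl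
theorem f135579 : Led Lsl_dt (LP (LK LD1_c12 LD2_c4 LD3_c60)) = (LP (LK LD1_c21 LD2_c10 LD3_c15)) :=
  Lre_d IH (LK LD1_c12 LD2_c4 LD3_c60) (LK LD1_c21 LD2_c10 LD3_c15) Lrfl Lrfl
theorem f431100 : Led Lsl_ct (LP (LK LD1_c29 LD2_c52 LD3_c36)) = (LP (LK LD1_c21 LD2_c10 LD3_c15)) :=
  Lre_c IH (LK LD1_c29 LD2_c52 LD3_c36) (LK LD1_c21 LD2_c10 LD3_c15) Lrfl Lrfl
theorem f433415 : Led Lsl_ct (LP (LK LD1_c13 LD2_c37 LD3_c43)) = (LP (LK LD1_c23 LD2_c2 LD3_c31)) :=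
  Lre_c IH (LK LD1_c13 LD2_c37 LD3_c43) (LK LD1_c23 LD2_c2 LD3_c31) Lrfl Lrfl
theorem f436076 : Led Lsl_gf (LP (LK LD1_c29 LD2_c52 LD3_c36)) = (LP (LK LD1_c23 LD2_c2 LD3_c31)) :=
  Lgr Lrot104 (Lpr_ct (f431100 IH) (Lpe (f135579 IH) (Lpe (f84147 IH) (Lpe (f57552 IH) (Lpe (K6.f57843 IH) (Lpe (f84131 IH) (Lpe (f84133 IH) (Lpr_gt (f436057 IH) (Lpr_ct (f433415 IH) (Lpn (LP (LK LD1_c23 LD2_c2 LD3_c31))))))))))))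
theorem f152792 : Led Lsl_bt (LP (LK LD1_c3 LD2_c9 LD3_c36)) = (LP (LK LD1_c1 LD2_c30 LD3_c58)) :=
  Lre_b IH (LK LD1_c3 LD2_c9 LD3_c36) (LK LD1_c1 LD2_c30 LD3_c58) Lrfl Lrfl
theorem f154635 : Led Lsl_dt (LP (LK LD1_c3 LD2_c35 LD3_c21)) = (LP (LK LD1_c3 LD2_c9 LD3_c36)) :=
  Lgr Lrot79 (Lpe (K11.f154634 IH) (Lpr_df (K7.f154632 IH) (Lpe (f152792 IH) (Lpn (LP (LK LD1_c3 LD2_c9 LD3_c36))))))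
theorem f433475 : Led Lsl_ff (LP (LK LD1_c4 LD2_c42 LD3_c30)) = (LP (LK LD1_c3 LD2_c9 LD3_c36)) :=
  Lgr Lrot19 (Lpe (f154630 IH) (Lpr_ft (K11.f433458 IH) (Lpr_dt (f154635 IH) (Lpn (LP (LK LD1_c3 LD2_c9 LD3_c36))))))
theorem f434112 : Led Lsl_gf (LP (LK LD1_c9 LD2_c19 LD3_c20)) = (LP (LK LD1_c6 LD2_c23 LD3_c59)) :=
  Lgr Lrot76 (Lpe (f433828 IH) (Lpr_ff (f433475 IH) (Lpr_gt (f152312 IH) (Lpn (LP (LK LD1_c6 LD2_c23 LD3_c59))))))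
theorem f433467 : Led Lsl_dt (LP (LK LD1_c21 LD2_c27 LD3_c57)) = (LP (LK LD1_c12 LD2_c21 LD3_c27)) :=
  Lre_d IH (LK LD1_c21 LD2_c27 LD3_c57) (LK LD1_c12 LD2_c21 LD3_c27) Lrfl Lrfl
theorem f64524 : Led Lsl_dt (LP (LK LD1_c12 LD2_c3 LD3_c26)) = (LP (LK LD1_c21 LD2_c8 LD3_c51)) :=
  Lre_d IH (LK LD1_c12 LD2_c3 LD3_c26) (LK LD1_c21 LD2_c8 LD3_c51) Lrfl Lrfl
theorem f434114 : Led Lsl_gf (LP (LK LD1_c21 LD2_c27 LD3_c57)) = (LP (LK LD1_c21 LD2_c8 LD3_c51)) :=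
  Lgr Lrot143 (Lpr_dt (f433467 IH) (Lpe (f433463 IH) (Lpe (f433876 IH) (Lpr_gf (f434112 IH) (Lpr_df (f431094 IH) (Lpe (f57552 IH) (Lpe (K6.f57843 IH) (Lpr_gt (K6.f64523 IH) (Lpr_dt (f64524 IH) (Lpn (LP (LK LD1_c21 LD2_c8 LD3_c51))))))))))))
theorem f433447 : Led Lsl_at (LP (LK LD1_c12 LD2_c21 LD3_c28)) = (LP (LK LD1_c21 LD2_c27 LD3_c57)) :=
  Lre_a IH (LK LD1_c12 LD2_c21 LD3_c28) (LK LD1_c21 LD2_c27 LD3_c57) Lrfl Lrfl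
theorem f155116 : Led Lsl_dt (LP (LK LD1_c6 LD2_c24 LD3_c7)) = (LP (LK LD1_c3 LD2_c9 LD3_c42)) :=
  Lre_d IH (LK LD1_c6 LD2_c24 LD3_c7) (LK LD1_c3 LD2_c9 LD3_c42) Lrfl Lrfl
theorem f433423 : Led Lsl_ff (LP (LK LD1_c6 LD2_c24 LD3_c7)) = (LP (LK LD1_c7 LD2_c11 LD3_c39)) :=
  Lgr Lrot19 (Lpr_dt (f155116 IH) (Lpr_ft (K11.f433294 IH) (Lpr_dt (K11.f154915 IH) (Lpn (LP (LK LD1_c7 LD2_c11 LD3_c39))))))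
theorem f433425 : Led Lsl_bt (LP (LK LD1_c6 LD2_c24 LD3_c7)) = (LP (LK LD1_c12 LD2_c21 LD3_c28)) :=
  Lre_b IH (LK LD1_c6 LD2_c24 LD3_c7) (LK LD1_c12 LD2_c21 LD3_c28) Lrfl Lrfl
theorem f433301 : Led Lsl_bt (LP (LK LD1_c13 LD2_c37 LD3_c43)) = (LP (LK LD1_c7 LD2_c11 LD3_c39)) :=
  Lre_b IH (LK LD1_c13 LD2_c37 LD3_c43) (LK LD1_c7 LD2_c11 LD3_c39) Lrfl Lrfl
theorem f433426 : Led Lsl_ft (LP (LK LD1_c12 LD2_c21 LD3_c28)) = (LP (LK LD1_c13 LD2_c37 LD3_c43)) :=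
  Lgr Lrot75 (Lpe (f433425 IH) (Lpr_ff (f433423 IH) (Lpe (f433301 IH) (Lpn (LP (LK LD1_c13 LD2_c37 LD3_c43))))))
theorem f433445 : Led Lsl_ff (LP (LK LD1_c12 LD2_c21 LD3_c28)) = (LP (LK LD1_c13 LD2_c37 LD3_c43)) :=
  Lgr Lrot3 (Lpr_ft (f433426 IH) (Lpn (LP (LK LD1_c13 LD2_c37 LD3_c43))))
theorem f434119 : Led Lsl_gt (LP (LK LD1_c13 LD2_c37 LD3_c43)) = (LP (LK LD1_c21 LD2_c8 LD3_c51)) :=
  Lgr Lrot5 (Lpe (f433445 IH) (Lpr_at (f433447 IH) (Lpr_gf (f434114 IH) (Lpn (LP (LK LD1_c21 LD2_c8 LD3_c51))))))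
theorem f85967 : Led Lsl_dt (LP (LK LD1_c21 LD2_c8 LD3_c51)) = (LP (LK LD1_c12 LD2_c3 LD3_c26)) :=
  Lre_d IH (LK LD1_c21 LD2_c8 LD3_c51) (LK LD1_c12 LD2_c3 LD3_c26) Lrfl Lrfl
theorem f57848 : Led Lsl_ct (LP (LK LD1_c21 LD2_c56 LD3_c37)) = (LP (LK LD1_c12 LD2_c48 LD3_c42)) :=
  Lre_c IH (LK LD1_c21 LD2_c56 LD3_c37) (LK LD1_c12 LD2_c48 LD3_c42) Lrfl Lrfl
theorem f436080 : Led Lsl_dt (LP (LK LD1_c29 LD2_c52 LD3_c36)) = (LP (LK LD1_c27 LD2_c18 LD3_c30)) :=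
  Lgr Lrot57 (Lpr_gf (f436076 IH) (Lpe (f433415 IH) (Lpr_gt (f434119 IH) (Lpr_dt (f85967 IH) (Lpr_gt (K6.f85889 IH) (Lpr_dt (f57871 IH) (Lpe (f57848 IH) (Lpe (f85948 IH) (Lpe (f85958 IH) (Lpn (LP (LK LD1_c27 LD2_c18 LD3_c30))))))))))))
theorem f436082 : Led Lsl_df (LP (LK LD1_c29 LD2_c52 LD3_c36)) = (LP (LK LD1_c27 LD2_c18 LD3_c30)) :=
  Lgr Lrot38 (Lpr_dt (f436080 IH) (Lpn (LP (LK LD1_c27 LD2_c18 LD3_c30))))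
theorem f783414 : Led Lsl_at (LP (LK LD1_c13 LD2_c0 LD3_c21)) = (LP (LK LD1_c21 LD2_c10 LD3_c15)) :=
  Lgr Lrot33 (Lpr_ff (f783408 IH) (Lpr_dt (f105677 IH) (Lpr_ct (K6.f90809 IH) (Lpr_dt (f436050 IH) (Lpr_ct (f433832 IH) (Lpr_dt (f433833 IH) (Lpr_ct (f444418 IH) (Lpe (f436082 IH) (Lpr_ct (f431100 IH) (Lpn (LP (LK LD1_c21 LD2_c10 LD3_c15))))))))))))
theorem f134513 : Led Lsl_ct (LP (LK LD1_c22 LD2_c10 LD3_c37)) = (LP (LK LD1_c13 LD2_c0 LD3_c21)) :=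
  Lre_c IH (LK LD1_c22 LD2_c10 LD3_c37) (LK LD1_c13 LD2_c0 LD3_c21) Lrfl Lrfl
theorem f431119 : Led Lsl_ct (LP (LK LD1_c21 LD2_c10 LD3_c15)) = (LP (LK LD1_c29 LD2_c52 LD3_c36)) :=
  Lre_c IH (LK LD1_c21 LD2_c10 LD3_c15) (LK LD1_c29 LD2_c52 LD3_c36) Lrfl Lrfl
theorem f783418 : Led Lsl_af (LP (LK LD1_c22 LD2_c10 LD3_c37)) = (LP (LK LD1_c29 LD2_c52 LD3_c36)) :=
  Lgr Lrot68 (Lpr_ct (f134513 IH) (Lpr_at (f783414 IH) (Lpr_ct (f431119 IH) (Lpn (LP (LK LD1_c29 LD2_c52 LD3_c36))))))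
theorem f433951 : Led Lsl_gt (LP (LK LD1_c30 LD2_c13 LD3_c30)) = (LP (LK LD1_c22 LD2_c10 LD3_c37)) :=
  Lre_g IH (LK LD1_c30 LD2_c13 LD3_c30) (LK LD1_c22 LD2_c10 LD3_c37) Lrfl Lrfl
theorem f84214 : Led Lsl_gt (LP (LK LD1_c3 LD2_c22 LD3_c20)) = (LP (LK LD1_c6 LD2_c48 LD3_c22)) :=
  Lre_g IH (LK LD1_c3 LD2_c22 LD3_c20) (LK LD1_c6 LD2_c48 LD3_c22) Lrfl Lrfl
theorem f84231 : Led Lsl_ct (LP (LK LD1_c6 LD2_c48 LD3_c22)) = (LP (LK LD1_c12 LD2_c59 LD3_c21)) :=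
  Lre_c IH (LK LD1_c6 LD2_c48 LD3_c22) (LK LD1_c12 LD2_c59 LD3_c21) Lrfl Lrfl
theorem f84232 : Led Lsl_gt (LP (LK LD1_c12 LD2_c59 LD3_c21)) = (LP (LK LD1_c22 LD2_c9 LD3_c28)) :=
  Lre_g IH (LK LD1_c12 LD2_c59 LD3_c21) (LK LD1_c22 LD2_c9 LD3_c28) Lrfl Lrfl
theorem f25422 : Led Lsl_ct (LP (LK LD1_c6 LD2_c9 LD3_c28)) = (LP (LK LD1_c11 LD2_c59 LD3_c60)) :=
  Lre_c IH (LK LD1_c6 LD2_c9 LD3_c28) (LK LD1_c11 LD2_c59 LD3_c60) Lrfl Lrfl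
theorem f25426 : Led Lsl_ct (LP (LK LD1_c6 LD2_c48 LD3_c56)) = (LP (LK LD1_c13 LD2_c0 LD3_c17)) :=
  Lre_c IH (LK LD1_c6 LD2_c48 LD3_c56) (LK LD1_c13 LD2_c0 LD3_c17) Lrfl Lrfl
theorem f25427 : Led Lsl_gt (LP (LK LD1_c11 LD2_c59 LD3_c60)) = (LP (LK LD1_c13 LD2_c0 LD3_c17)) :=
  Lgr Lrot149 (Lpe (f25422 IH) (Lpe (f24729 IH) (Lpe (K1.f24736 IH) (Lpr_ct (K1.f21038 IH) (Lpr_gf (K2.f25411 IH) (Lpe (K0.f7433 IH) (Lpr_bt (K1.f25423 IH) (Lpe (f25424 IH) (Lpe (f25425 IH) (Lpr_ct (f25426 IH) (Lpn (LP (LK LD1_c13 LD2_c0 LD3_c17)))))))))))))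
theorem f25485 : Led Lsl_ct (LP (LK LD1_c13 LD2_c0 LD3_c17)) = (LP (LK LD1_c6 LD2_c48 LD3_c56)) :=
  Lre_c IH (LK LD1_c13 LD2_c0 LD3_c17) (LK LD1_c6 LD2_c48 LD3_c56) Lrfl Lrfl
theorem f25497 : Led Lsl_dt (LP (LK LD1_c13 LD2_c0 LD3_c18)) = (LP (LK LD1_c6 LD2_c48 LD3_c56)) :=
  Lre_d IH (LK LD1_c13 LD2_c0 LD3_c18) (LK LD1_c6 LD2_c48 LD3_c56) Lrfl Lrfl
theorem f84233 : Led Lsl_cf (LP (LK LD1_c13 LD2_c0 LD3_c18)) = (LP (LK LD1_c22 LD2_c9 LD3_c28)) :=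
  Lgr Lrot175 (Lpr_dt (f25497 IH) (Lpe (f25485 IH) (Lpe (f25427 IH) (Lpe (f25422 IH) (Lpe (f24729 IH) (Lpr_dt (K5.f84204 IH) (Lpr_gt (f84214 IH) (Lpr_ct (f84231 IH) (Lpr_gt (f84232 IH) (Lpn (LP (LK LD1_c22 LD2_c9 LD3_c28))))))))))))
theorem f84241 : Led Lsl_ct (LP (LK LD1_c13 LD2_c0 LD3_c18)) = (LP (LK LD1_c22 LD2_c9 LD3_c28)) :=
  Lgr Lrot59 (Lpr_cf (f84233 IH) (Lpn (LP (LK LD1_c22 LD2_c9 LD3_c28))))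
theorem f84238 : Led Lsl_bt (LP (LK LD1_c13 LD2_c0 LD3_c18)) = (LP (LK LD1_c6 LD2_c48 LD3_c58)) :=
  Lre_b IH (LK LD1_c13 LD2_c0 LD3_c18) (LK LD1_c6 LD2_c48 LD3_c58) Lrfl Lrfl
theorem f436105 : Led Lsl_gt (LP (LK LD1_c6 LD2_c48 LD3_c58)) = (LP (LK LD1_c4 LD2_c42 LD3_c30)) :=
  Lgr Lrot164 (Lpe (f84238 IH) (Lpr_ct (f84241 IH) (Lpe (f84232 IH) (Lpe (f84231 IH) (Lpe (f84214 IH) (Lpe (K7.f84174 IH) (Lpr_ct (K5.f57660 IH) (Lpr_gf (K7.f152178 IH) (Lpe (K7.f25897 IH) (Lpr_bt (K49.f135514 IH) (Lpn (LP (LK LD1_c4 LD2_c42 LD3_c30)))))))))))))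
theorem f86480 : Led Lsl_dt (LP (LK LD1_c3 LD2_c22 LD3_c33)) = (LP (LK LD1_c6 LD2_c48 LD3_c58)) :=
  Lre_d IH (LK LD1_c3 LD2_c22 LD3_c33) (LK LD1_c6 LD2_c48 LD3_c58) Lrfl Lrfl
theorem f84060 : Led Lsl_dt (LP (LK LD1_c6 LD2_c41 LD3_c44)) = (LP (LK LD1_c12 LD2_c48 LD3_c40)) :=
  Lre_d IH (LK LD1_c6 LD2_c41 LD3_c44) (LK LD1_c12 LD2_c48 LD3_c40) Lrfl Lrfl
theorem f432540 : Led Lsl_dt (LP (LK LD1_c12 LD2_c21 LD3_c28)) = (LP (LK LD1_c6 LD2_c24 LD3_c6)) :=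
  Lre_d IH (LK LD1_c12 LD2_c21 LD3_c28) (LK LD1_c6 LD2_c24 LD3_c6) Lrfl Lrfl
theorem f436135 : Led Lsl_gt (LP (LK LD1_c12 LD2_c48 LD3_c40)) = (LP (LK LD1_c12 LD2_c21 LD3_c28)) :=
  Lgr Lrot49 (Lpe (f84060 IH) (Lpe (K2.f84066 IH) (Lpe (K2.f25476 IH) (Lpr_gt (K34.f86479 IH) (Lpr_dt (f86480 IH) (Lpr_gt (f436105 IH) (Lpe (f154630 IH) (Lpe (K11.f155254 IH) (Lpe (f432540 IH) (Lpn (LP (LK LD1_c12 LD2_c21 LD3_c28))))))))))))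
theorem f84064 : Led Lsl_dt (LP (LK LD1_c12 LD2_c48 LD3_c40)) = (LP (LK LD1_c6 LD2_c41 LD3_c44)) :=
  Lre_d IH (LK LD1_c12 LD2_c48 LD3_c40) (LK LD1_c6 LD2_c41 LD3_c44) Lrfl Lrfl
theorem f434949 : Led Lsl_dt (LP (LK LD1_c6 LD2_c48 LD3_c53)) = (LP (LK LD1_c13 LD2_c0 LD3_c8)) :=
  Lre_d IH (LK LD1_c6 LD2_c48 LD3_c53) (LK LD1_c13 LD2_c0 LD3_c8) Lrfl Lrfl
theorem f436149 : Led Lsl_ct (LP (LK LD1_c22 LD2_c10 LD3_c20)) = (LP (LK LD1_c13 LD2_c0 LD3_c8)) :=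
  Lre_c IH (LK LD1_c22 LD2_c10 LD3_c20) (LK LD1_c13 LD2_c0 LD3_c8) Lrfl Lrfl
theorem f436150 : Led Lsl_gf (LP (LK LD1_c22 LD2_c10 LD3_c20)) = (LP (LK LD1_c21 LD2_c27 LD3_c59)) :=
  Lgr Lrot104 (Lpr_ct (f436149 IH) (Lpe (f434949 IH) (Lpe (K1.f57710 IH) (Lpe (K1.f57709 IH) (Lpe (f57768 IH) (Lpe (K2.f57771 IH) (Lpe (f84064 IH) (Lpr_gt (f436135 IH) (Lpr_ct (f433081 IH) (Lpn (LP (LK LD1_c21 LD2_c27 LD3_c59))))))))))))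
theorem f433302 : Led Lsl_ct (LP (LK LD1_c23 LD2_c2 LD3_c31)) = (LP (LK LD1_c13 LD2_c37 LD3_c43)) :=
  Lre_c IH (LK LD1_c23 LD2_c2 LD3_c31) (LK LD1_c13 LD2_c37 LD3_c43) Lrfl Lrfl
theorem f433448 : Led Lsl_ft (LP (LK LD1_c21 LD2_c27 LD3_c59)) = (LP (LK LD1_c23 LD2_c2 LD3_c31)) :=
  Lgr Lrot4 (Lpe (f433081 IH) (Lpr_ff (f433445 IH) (Lpe (f433302 IH) (Lpn (LP (LK LD1_c23 LD2_c2 LD3_c31))))))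
theorem f433910 : Led Lsl_gf (LP (LK LD1_c6 LD2_c23 LD3_c61)) = (LP (LK LD1_c6 LD2_c48 LD3_c54)) :=
  Lgr Lrot76 (Lpe (f433504 IH) (Lpr_ff (f433868 IH) (Lpr_gt (K49.f431523 IH) (Lpn (LP (LK LD1_c6 LD2_c48 LD3_c54))))))
theorem f433912 : Led Lsl_dt (LP (LK LD1_c6 LD2_c41 LD3_c43)) = (LP (LK LD1_c12 LD2_c48 LD3_c37)) :=
  Lre_d IH (LK LD1_c6 LD2_c41 LD3_c43) (LK LD1_c12 LD2_c48 LD3_c37) Lrfl Lrfl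
theorem f433913 : Led Lsl_gt (LP (LK LD1_c12 LD2_c48 LD3_c37)) = (LP (LK LD1_c21 LD2_c56 LD3_c28)) :=
  Lre_g IH (LK LD1_c12 LD2_c48 LD3_c37) (LK LD1_c21 LD2_c56 LD3_c28) Lrfl Lrfl
theorem f433914 : Led Lsl_df (LP (LK LD1_c13 LD2_c37 LD3_c42)) = (LP (LK LD1_c21 LD2_c56 LD3_c28)) :=
  Lgr Lrot84 (Lpe (K49.f433482 IH) (Lpe (f433870 IH) (Lpr_gf (f433910 IH) (Lpe (K49.f57764 IH) (Lpe (K1.f57709 IH) (Lpe (f57768 IH) (Lpr_gt (K34.f25465 IH) (Lpr_dt (f433912 IH) (Lpr_gt (f433913 IH) (Lpn (LP (LK LD1_c21 LD2_c56 LD3_c28))))))))))))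
theorem f433464 : Led Lsl_dt (LP (LK LD1_c12 LD2_c21 LD3_c27)) = (LP (LK LD1_c21 LD2_c27 LD3_c57)) :=
  Lre_d IH (LK LD1_c12 LD2_c21 LD3_c27) (LK LD1_c21 LD2_c27 LD3_c57) Lrfl Lrfl
theorem f433924 : Led Lsl_ft (LP (LK LD1_c21 LD2_c27 LD3_c57)) = (LP (LK LD1_c21 LD2_c56 LD3_c28)) :=
  Lgr Lrot54 (Lpe (f433464 IH) (Lpe (K49.f433788 IH) (Lpr_df (f433914 IH) (Lpn (LP (LK LD1_c21 LD2_c56 LD3_c28))))))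
theorem f433929 : Led Lsl_af (LP (LK LD1_c13 LD2_c37 LD3_c43)) = (LP (LK LD1_c21 LD2_c56 LD3_c28)) :=
  Lgr Lrot45 (Lpe (f433445 IH) (Lpr_at (f433447 IH) (Lpr_ft (f433924 IH) (Lpn (LP (LK LD1_c21 LD2_c56 LD3_c28))))))
theorem f433919 : Led Lsl_ct (LP (LK LD1_c30 LD2_c13 LD3_c30)) = (LP (LK LD1_c21 LD2_c56 LD3_c28)) :=
  Lre_c IH (LK LD1_c30 LD2_c13 LD3_c30) (LK LD1_c21 LD2_c56 LD3_c28) Lrfl Lrfl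
theorem f433935 : Led Lsl_at (LP (LK LD1_c23 LD2_c2 LD3_c31)) = (LP (LK LD1_c30 LD2_c13 LD3_c30)) :=
  Lgr Lrot107 (Lpe (f433415 IH) (Lpr_af (f433929 IH) (Lpe (f433919 IH) (Lpn (LP (LK LD1_c30 LD2_c13 LD3_c30))))))
theorem f436158 : Led Lsl_gt (LP (LK LD1_c22 LD2_c10 LD3_c20)) = (LP (LK LD1_c30 LD2_c13 LD3_c30)) :=
  Lgr Lrot46 (Lpr_gf (f436150 IH) (Lpr_ft (f433448 IH) (Lpr_at (f433935 IH) (Lpn (LP (LK LD1_c30 LD2_c13 LD3_c30))))))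
theorem f783424 : Led Lsl_ft (LP (LK LD1_c22 LD2_c10 LD3_c20)) = (LP (LK LD1_c29 LD2_c52 LD3_c36)) :=
  Lgr Lrot2 (Lpr_gt (f436158 IH) (Lpr_gt (f433951 IH) (Lpr_af (f783418 IH) (Lpn (LP (LK LD1_c29 LD2_c52 LD3_c36))))))
theorem f783432 : Led Lsl_ff (LP (LK LD1_c22 LD2_c10 LD3_c20)) = (LP (LK LD1_c29 LD2_c52 LD3_c36)) :=
  Lgr Lrot3 (Lpr_ft (f783424 IH) (Lpn (LP (LK LD1_c29 LD2_c52 LD3_c36))))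
theorem f436054 : Led Lsl_df (LP (LK LD1_c6 LD2_c13 LD3_c2)) = (LP (LK LD1_c6 LD2_c23 LD3_c60)) :=
  Lgr Lrot38 (Lpr_dt (f436050 IH) (Lpn (LP (LK LD1_c6 LD2_c23 LD3_c60))))
theorem f105683 : Led Lsl_ct (LP (LK LD1_c21 LD2_c10 LD3_c20)) = (LP (LK LD1_c29 LD2_c52 LD3_c38)) :=
  Lre_c IH (LK LD1_c21 LD2_c10 LD3_c20) (LK LD1_c29 LD2_c52 LD3_c38) Lrfl Lrfl
theorem f783438 : Led Lsl_at (LP (LK LD1_c22 LD2_c10 LD3_c20)) = (LP (LK LD1_c29 LD2_c52 LD3_c38)) :=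
  Lgr Lrot33 (Lpr_ff (f783432 IH) (Lpr_dt (f436080 IH) (Lpe (f444413 IH) (Lpr_dt (f433834 IH) (Lpr_ct (f432350 IH) (Lpe (f436054 IH) (Lpr_ct (f105674 IH) (Lpr_dt (f105686 IH) (Lpr_ct (f105683 IH) (Lpn (LP (LK LD1_c29 LD2_c52 LD3_c38))))))))))))
theorem f783420 : Led Lsl_at (LP (LK LD1_c22 LD2_c10 LD3_c37)) = (LP (LK LD1_c29 LD2_c52 LD3_c36)) :=
  Lgr Lrot100 (Lpr_af (f783418 IH) (Lpn (LP (LK LD1_c29 LD2_c52 LD3_c36))))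
theorem f783444 : Led Lsl_ff (LP (LK LD1_c22 LD2_c10 LD3_c37)) = (LP (LK LD1_c29 LD2_c52 LD3_c38)) :=
  Lgr Lrot30 (Lpr_at (f783420 IH) (Lpe (f783432 IH) (Lpr_at (f783438 IH) (Lpn (LP (LK LD1_c29 LD2_c52 LD3_c38))))))
theorem f783448 : Led Lsl_gf (LP (LK LD1_c23 LD2_c2 LD3_c31)) = (LP (LK LD1_c29 LD2_c52 LD3_c38)) :=
  Lgr Lrot47 (Lpe (f436076 IH) (Lpe (f783420 IH) (Lpr_ff (f783444 IH) (Lpn (LP (LK LD1_c29 LD2_c52 LD3_c38))))))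
theorem f683982 : Led Lsl_at (LP (LK LD1_c6 LD2_c24 LD3_c7)) = K59.v11310 :=
  Lgr Lrot33 (Lpr_ff (f433423 IH) (Lpr_dt (K11.f154922 IH) (Lpr_ct (K11.f106103 IH) (Lpr_dt (K35.f106102 IH) (Lpr_ct (K7.f106105 IH) (Lpr_dt (K34.f450839 IH) (Lpr_ct (K35.f490939 IH) (Lpr_dt (K59.f626802 IH) (Lpr_ct (K59.f683977 IH) (Lpn K59.v11310))))))))))
theorem f755260 : Led Lsl_gt (LP (LK LD1_c7 LD2_c11 LD3_c39)) = K59.v17119 :=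
  Lgr Lrot5 (Lpe (f433423 IH) (Lpr_at (f683982 IH) (Lpr_gf (K59.f755258 IH) (Lpn K59.v17119))))
theorem f85387 : Led Lsl_dt (LP (LK LD1_c6 LD2_c58 LD3_c53)) = (LP (LK LD1_c3 LD2_c28 LD3_c23)) :=
  Lre_d IH (LK LD1_c6 LD2_c58 LD3_c53) (LK LD1_c3 LD2_c28 LD3_c23) Lrfl Lrfl
theorem f755257 : Led Lsl_cf (LP (LK LD1_c6 LD2_c58 LD3_c53)) = K59.v17119 :=
  Lgr Lrot118 (Lpr_dt (f85387 IH) (Lpr_ct (K3.f85342 IH) (Lpr_dt (K48.f85334 IH) (Lpr_ct (K3.f85347 IH) (Lpr_dt (K3.f85348 IH) (Lpe (K3.f90614 IH) (Lpr_af (K3.f90626 IH) (Lpe (K6.f90652 IH) (Lpr_dt (K59.f755253 IH) (Lpn K59.v17119))))))))))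
def v3838 : LQ := Led Lsl_gf K49.v1066
def v11657 : LQ := Led Lsl_dt v3838
theorem f685365 : Led Lsl_dt v3838 = v11657 :=
  Lrfl
theorem f627485 : Led Lsl_gf K49.v1066 = v3838 :=
  Lrfl
theorem f491229 : Led Lsl_cf K34.v212 = K49.v1066 :=
  Lgr Lrot11 (Lpr_ct (K49.f491227 IH) (Lpn K49.v1066))
theorem f451129 : Led Lsl_af (LP (LK LD1_c0 LD2_c47 LD3_c13)) = K34.v212 :=
  Lgr Lrot117 (Lpr_dt (K3.f84976 IH) (Lpe (K2.f88662 IH) (Lpr_dt (K34.f451128 IH) (Lpn K34.v212))))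
theorem f491235 : Led Lsl_at (LP (LK LD1_c1 LD2_c41 LD3_c14)) = K49.v1066 :=
  Lgr Lrot107 (Lpe (K5.f84992 IH) (Lpr_af (f451129 IH) (Lpr_cf (f491229 IH) (Lpn K49.v1066))))
def v1067 : LQ := Led Lsl_ct K35.v213
theorem f491236 : Led Lsl_ct K35.v213 = v1067 :=
  Lrfl
theorem f451140 : Led Lsl_ff (LP (LK LD1_c0 LD2_c47 LD3_c13)) = K35.v213 :=
  Lgr Lrot19 (Lpr_dt (K3.f84976 IH) (Lpe (K2.f88782 IH) (Lpr_dt (K35.f451137 IH) (Lpn K35.v213))))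
theorem f451145 : Led Lsl_ft (LP (LK LD1_c0 LD2_c47 LD3_c13)) = K35.v213 :=
  Lgr Lrot48 (Lpr_ff (f451140 IH) (Lpn K35.v213))
theorem f491239 : Led Lsl_ff (LP (LK LD1_c1 LD2_c41 LD3_c14)) = v1067 :=
  Lgr Lrot23 (Lpr_ct (K7.f84995 IH) (Lpr_ft (f451145 IH) (Lpr_ct (f491236 IH) (Lpn v1067))))
theorem f627486 : Led Lsl_gt v1067 = v3838 :=
  Lgr Lrot5 (Lpe (f491239 IH) (Lpr_at (f491235 IH) (Lpr_gf (f627485 IH) (Lpn v3838))))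
def v3842 : LQ := Led Lsl_dt v1067
theorem f627520 : Led Lsl_dt v1067 = v3842 :=
  Lrfl
theorem f627523 : Led Lsl_df v1067 = v3842 :=
  Lgr Lrot38 (Lpr_dt (f627520 IH) (Lpn v3842))
theorem f106725 : Led Lsl_et (LP (LK LD1_c0 LD2_c23 LD3_c60)) = (LP (LK LD1_c0 LD2_c48 LD3_c55)) :=
  Lgr Lrot74 (Lpe (K2.f10009 IH) (Lpr_ef (K3.f106723 IH) (Lpe (K7.f106091 IH) (Lpn (LP (LK LD1_c0 LD2_c48 LD3_c55))))))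
theorem f433243 : Led Lsl_gf (LP (LK LD1_c0 LD2_c48 LD3_c56)) = (LP (LK LD1_c0 LD2_c47 LD3_c7)) :=
  Lgr Lrot147 (Lpr_ct (K11.f155112 IH) (Lpr_gt (K11.f433235 IH) (Lpr_ct (K4.f114010 IH) (Lpe (K4.f92029 IH) (Lpr_cf (K11.f106282 IH) (Lpe (K3.f86615 IH) (Lpe (K3.f86594 IH) (Lpe (K3.f87586 IH) (Lpe (K7.f85321 IH) (Lpn (LP (LK LD1_c0 LD2_c47 LD3_c7))))))))))))
theorem f451142 : Led Lsl_gt (LP (LK LD1_c1 LD2_c44 LD3_c35)) = K35.v213 :=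
  Lgr Lrot112 (Lpe (K11.f10031 IH) (Lpr_et (K11.f10025 IH) (Lpr_gf (f433243 IH) (Lpr_ef (K3.f88834 IH) (Lpr_dt (K3.f7409 IH) (Lpe (K34.f432814 IH) (Lpe (K34.f10027 IH) (Lpe (K7.f10029 IH) (Lpe (f106725 IH) (Lpr_dt (K35.f451137 IH) (Lpn K35.v213)))))))))))
theorem f531324 : Led Lsl_ft (LP (LK LD1_c1 LD2_c53 LD3_c33)) = (LP (LK LD1_c3 LD2_c31 LD3_c9)) :=
  Lre_f IH (LK LD1_c1 LD2_c53 LD3_c33) (LK LD1_c3 LD2_c31 LD3_c9) Lrfl Lrfl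
theorem f531325 : Led Lsl_at (LP (LK LD1_c3 LD2_c31 LD3_c9)) = (LP (LK LD1_c6 LD2_c41 LD3_c49)) :=
  Lre_a IH (LK LD1_c3 LD2_c31 LD3_c9) (LK LD1_c6 LD2_c41 LD3_c49) Lrfl Lrfl
theorem f531326 : Led Lsl_gf (LP (LK LD1_c6 LD2_c41 LD3_c49)) = K35.v2715 :=
  Lgr Lrot76 (Lpe (f531325 IH) (Lpe (f531324 IH) (Lpr_gt (K35.f531323 IH) (Lpn K35.v2715))))
theorem f143646 : Led Lsl_ct (LP (LK LD1_c6 LD2_c41 LD3_c49)) = (LP (LK LD1_c3 LD2_c18 LD3_c56)) :=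
  Lre_c IH (LK LD1_c6 LD2_c41 LD3_c49) (LK LD1_c3 LD2_c18 LD3_c56) Lrfl Lrfl
theorem f627526 : Led Lsl_ct (LP (LK LD1_c6 LD2_c41 LD3_c47)) = v3842 :=
  Lgr Lrot151 (Lpe (K59.f86580 IH) (Lpe (f143646 IH) (Lpr_gf (f531326 IH) (Lpr_dt (K35.f626775 IH) (Lpe (K35.f626769 IH) (Lpr_ct (K11.f433145 IH) (Lpr_gt (f451142 IH) (Lpr_ct (f491236 IH) (Lpr_dt (f627520 IH) (Lpn v3842))))))))))
theorem f84316 : Led Lsl_dt (LP (LK LD1_c1 LD2_c26 LD3_c40)) = (LP (LK LD1_c3 LD2_c1 LD3_c24)) :=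
  Lre_d IH (LK LD1_c1 LD2_c26 LD3_c40) (LK LD1_c3 LD2_c1 LD3_c24) Lrfl Lrfl
theorem f58125 : Led Lsl_dt (LP (LK LD1_c3 LD2_c53 LD3_c52)) = (LP (LK LD1_c6 LD2_c9 LD3_c54)) :=
  Lre_d IH (LK LD1_c3 LD2_c53 LD3_c52) (LK LD1_c6 LD2_c9 LD3_c54) Lrfl Lrfl
theorem f58126 : Led Lsl_gt (LP (LK LD1_c6 LD2_c41 LD3_c47)) = (LP (LK LD1_c3 LD2_c53 LD3_c52)) :=
  Lre_g IH (LK LD1_c6 LD2_c41 LD3_c47) (LK LD1_c3 LD2_c53 LD3_c52) Lrfl Lrfl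
theorem f154945 : Led Lsl_dt (LP (LK LD1_c3 LD2_c53 LD3_c36)) = (LP (LK LD1_c6 LD2_c41 LD3_c47)) :=
  Lgr Lrot57 (Lpe (K7.f154913 IH) (Lpe (K7.f154905 IH) (Lpr_gt (K7.f154934 IH) (Lpr_dt (K5.f94384 IH) (Lpr_gt (K3.f84302 IH) (Lpr_dt (f84316 IH) (Lpe (K3.f58124 IH) (Lpe (f58125 IH) (Lpe (f58126 IH) (Lpn (LP (LK LD1_c6 LD2_c41 LD3_c47))))))))))))
def v3840 : LQ := Led Lsl_dt K49.v1066
theorem f627501 : Led Lsl_dt K49.v1066 = v3840 :=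
  Lrfl
theorem f627503 : Led Lsl_df K49.v1066 = v3840 :=
  Lgr Lrot38 (Lpr_dt (f627501 IH) (Lpn v3840))
theorem f87600 : Led Lsl_dt (LP (LK LD1_c7 LD2_c4 LD3_c5)) = (LP (LK LD1_c3 LD2_c31 LD3_c5)) :=
  Lre_d IH (LK LD1_c7 LD2_c4 LD3_c5) (LK LD1_c3 LD2_c31 LD3_c5) Lrfl Lrfl
theorem f627504 : Led Lsl_ff (LP (LK LD1_c7 LD2_c4 LD3_c5)) = v3840 :=
  Lgr Lrot19 (Lpr_dt (f87600 IH) (Lpr_ft (K49.f491234 IH) (Lpr_dt (f627501 IH) (Lpn v3840))))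
theorem f627527 : Led Lsl_at (LP (LK LD1_c7 LD2_c4 LD3_c5)) = v3842 :=
  Lgr Lrot33 (Lpr_ff (f627504 IH) (Lpe (f627503 IH) (Lpe (f491229 IH) (Lpe (K34.f451130 IH) (Lpr_ct (K2.f10993 IH) (Lpr_dt (K3.f18012 IH) (Lpr_ct (K7.f86345 IH) (Lpr_dt (f154945 IH) (Lpr_ct (f627526 IH) (Lpn v3842))))))))))
def v1007 : LQ := Led Lsl_bt K11.v167
def v3700 : LQ := Led Lsl_at v1007
theorem f626859 : Led Lsl_at v1007 = v3700 :=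
  Lrfl
theorem f490973 : Led Lsl_bt K11.v167 = v1007 :=
  Lrfl
theorem f490976 : Led Lsl_ff (LP (LK LD1_c1 LD2_c43 LD3_c61)) = v1007 :=
  Lgr Lrot25 (Lpr_bt (K11.f433000 IH) (Lpr_ft (K11.f450861 IH) (Lpr_bt (f490973 IH) (Lpn v1007))))
theorem f490978 : Led Lsl_ft (LP (LK LD1_c1 LD2_c43 LD3_c61)) = v1007 :=
  Lgr Lrot48 (Lpr_ff (f490976 IH) (Lpn v1007))
theorem f626864 : Led Lsl_gt (LP (LK LD1_c3 LD2_c34 LD3_c25)) = v3700 :=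
  Lgr Lrot46 (Lpe (K59.f432796 IH) (Lpr_ft (f490978 IH) (Lpr_at (f626859 IH) (Lpn v3700))))
theorem f627488 : Led Lsl_ct v3700 = v3838 :=
  Lgr Lrot152 (Lpe (f626864 IH) (Lpe (K59.f434185 IH) (Lpe (K3.f106705 IH) (Lpr_ct (K3.f95749 IH) (Lpr_gt (K3.f86339 IH) (Lpr_ct (K2.f18008 IH) (Lpr_df (K34.f451130 IH) (Lpr_cf (f491229 IH) (Lpr_gf (f627485 IH) (Lpn v3838))))))))))
theorem f627490 : Led Lsl_cf v3700 = v3838 :=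
  Lgr Lrot11 (Lpr_ct (f627488 IH) (Lpn v3838))
theorem f125185 : Led Lsl_ft (LP (LK LD1_c1 LD2_c44 LD3_c51)) = (LP (LK LD1_c1 LD2_c35 LD3_c51)) :=
  Lgr Lrot75 (Lpe (K3.f106719 IH) (Lpr_ff (K7.f125183 IH) (Lpr_bf (K3.f94378 IH) (Lpn (LP (LK LD1_c1 LD2_c35 LD3_c51))))))
theorem f509082 : Led Lsl_ff (LP (LK LD1_c3 LD2_c34 LD3_c25)) = K35.v2118 :=
  Lgr Lrot19 (Lpe (K59.f434183 IH) (Lpr_ft (f125185 IH) (Lpr_dt (K35.f509078 IH) (Lpn K35.v2118))))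
theorem f509085 : Led Lsl_ft (LP (LK LD1_c3 LD2_c34 LD3_c25)) = K35.v2118 :=
  Lgr Lrot48 (Lpr_ff (f509082 IH) (Lpn K35.v2118))
theorem f113955 : Led Lsl_af (LP (LK LD1_c1 LD2_c35 LD3_c51)) = (LP (LK LD1_c1 LD2_c26 LD3_c54)) :=
  Lgr Lrot68 (Lpr_ct (K3.f84307 IH) (Lpr_at (K4.f113949 IH) (Lpr_ct (K4.f64503 IH) (Lpn (LP (LK LD1_c1 LD2_c26 LD3_c54))))))
def v1782 : LQ := Led Lsl_dt (LP (LK LD1_c1 LD2_c26 LD3_c54))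
theorem f502854 : Led Lsl_dt (LP (LK LD1_c1 LD2_c26 LD3_c54)) = v1782 :=
  Lrfl
theorem f502857 : Led Lsl_df (LP (LK LD1_c1 LD2_c26 LD3_c54)) = v1782 :=
  Lgr Lrot38 (Lpr_dt (f502854 IH) (Lpn v1782))
theorem f509079 : Led Lsl_af v1782 = K35.v2118 :=
  Lgr Lrot117 (Lpe (f502857 IH) (Lpe (f113955 IH) (Lpr_dt (K35.f509078 IH) (Lpn K35.v2118))))
theorem f626865 : Led Lsl_gf v1782 = v3700 :=
  Lgr Lrot76 (Lpr_af (f509079 IH) (Lpe (f509085 IH) (Lpr_gt (f626864 IH) (Lpn v3700))))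
theorem f627506 : Led Lsl_gf (LP (LK LD1_c6 LD2_c59 LD3_c11)) = v3840 :=
  Lgr Lrot143 (Lpr_dt (K6.f85582 IH) (Lpe (K3.f86695 IH) (Lpe (K3.f17764 IH) (Lpr_gf (K3.f94536 IH) (Lpr_df (f502857 IH) (Lpr_gf (f626865 IH) (Lpr_cf (f627490 IH) (Lpe (f627485 IH) (Lpr_dt (f627501 IH) (Lpn v3840))))))))))
theorem f627528 : Led Lsl_gt (LP (LK LD1_c6 LD2_c59 LD3_c11)) = v3842 :=
  Lgr Lrot46 (Lpr_gf (f627506 IH) (Lpe (f627504 IH) (Lpr_at (f627527 IH) (Lpn v3842))))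
theorem f685371 : Led Lsl_ct (LP (LK LD1_c12 LD2_c0 LD3_c58)) = v11657 :=
  Lgr Lrot7 (Lpe (f155203 IH) (Lpe (f64529 IH) (Lpe (K7.f64500 IH) (Lpe (K5.f64501 IH) (Lpr_cf (K5.f126294 IH) (Lpr_gt (f627528 IH) (Lpe (f627523 IH) (Lpr_gt (f627486 IH) (Lpr_dt (f685365 IH) (Lpn v11657))))))))))
theorem f119224 : Led Lsl_af (LP (LK LD1_c6 LD2_c10 LD3_c7)) = (LP (LK LD1_c6 LD2_c41 LD3_c34)) :=
  Lgr Lrot117 (Lpr_dt (K7.f64500 IH) (Lpr_at (K5.f119215 IH) (Lpr_dt (K7.f114199 IH) (Lpn (LP (LK LD1_c6 LD2_c41 LD3_c34))))))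
theorem f126184 : Led Lsl_gt (LP (LK LD1_c12 LD2_c3 LD3_c22)) = (LP (LK LD1_c12 LD2_c1 LD3_c6)) :=
  Lgr Lrot5 (Lpr_ft (K34.f126178 IH) (Lpe (f119224 IH) (Lpe (K5.f64501 IH) (Lpn (LP (LK LD1_c12 LD2_c1 LD3_c6))))))
theorem f126122 : Led Lsl_gt (LP (LK LD1_c6 LD2_c10 LD3_c4)) = (LP (LK LD1_c6 LD2_c11 LD3_c45)) :=
  Lgr Lrot46 (Lpe (f64529 IH) (Lpr_ft (K5.f126114 IH) (Lpe (K5.f126116 IH) (Lpn (LP (LK LD1_c6 LD2_c11 LD3_c45))))))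
theorem f432972 : Led Lsl_ct (LP (LK LD1_c3 LD2_c34 LD3_c24)) = (LP (LK LD1_c6 LD2_c10 LD3_c4)) :=
  Lgr Lrot8 (Lpr_gt (K11.f432968 IH) (Lpr_dt (K7.f84300 IH) (Lpr_gt (K3.f88970 IH) (Lpr_dt (K3.f86346 IH) (Lpe (K5.f88974 IH) (Lpe (K5.f126292 IH) (Lpe (f126184 IH) (Lpe (K5.f106712 IH) (Lpe (f126122 IH) (Lpn (LP (LK LD1_c6 LD2_c10 LD3_c4))))))))))))
theorem f155067 : Led Lsl_dt (LP (LK LD1_c1 LD2_c43 LD3_c61)) = (LP (LK LD1_c0 LD2_c48 LD3_c33)) :=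
  Lre_d IH (LK LD1_c1 LD2_c43 LD3_c61) (LK LD1_c0 LD2_c48 LD3_c33) Lrfl Lrfl
theorem f155066 : Led Lsl_ct (LP (LK LD1_c3 LD2_c34 LD3_c26)) = (LP (LK LD1_c1 LD2_c43 LD3_c61)) :=
  Lre_c IH (LK LD1_c3 LD2_c34 LD3_c26) (LK LD1_c1 LD2_c43 LD3_c61) Lrfl Lrfl
theorem f432797 : Led Lsl_dt (LP (LK LD1_c7 LD2_c9 LD3_c60)) = (LP (LK LD1_c3 LD2_c34 LD3_c26)) :=
  Lre_d IH (LK LD1_c7 LD2_c9 LD3_c60) (LK LD1_c3 LD2_c34 LD3_c26) Lrfl Lrfl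
def v6762 : LQ := Led Lsl_gt (LP (LK LD1_c3 LD2_c28 LD3_c50))
theorem f658267 : Led Lsl_gt (LP (LK LD1_c3 LD2_c28 LD3_c50)) = v6762 :=
  Lrfl
theorem f90690 : Led Lsl_ct (LP (LK LD1_c3 LD2_c28 LD3_c50)) = (LP (LK LD1_c6 LD2_c41 LD3_c41)) :=
  Lgr Lrot59 (Lpr_cf (K11.f90685 IH) (Lpn (LP (LK LD1_c6 LD2_c41 LD3_c41))))
theorem f434719 : Led Lsl_gt (LP (LK LD1_c6 LD2_c41 LD3_c41)) = (LP (LK LD1_c6 LD2_c24 LD3_c7)) :=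
  Lgr Lrot49 (Lpe (K11.f85851 IH) (Lpe (K11.f79578 IH) (Lpe (K5.f58130 IH) (Lpr_gt (K4.f86282 IH) (Lpr_dt (K34.f155122 IH) (Lpr_gt (K7.f145652 IH) (Lpr_dt (K7.f154334 IH) (Lpe (K7.f155102 IH) (Lpe (f155116 IH) (Lpn (LP (LK LD1_c6 LD2_c24 LD3_c7))))))))))))
theorem f86941 : Led Lsl_dt (LP (LK LD1_c1 LD2_c41 LD3_c14)) = (LP (LK LD1_c3 LD2_c28 LD3_c61)) :=
  Lre_d IH (LK LD1_c1 LD2_c41 LD3_c14) (LK LD1_c3 LD2_c28 LD3_c61) Lrfl Lrfl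
def v2292 : LQ := Led Lsl_gf (LP (LK LD1_c1 LD2_c41 LD3_c14))
theorem f511915 : Led Lsl_gf (LP (LK LD1_c1 LD2_c41 LD3_c14)) = v2292 :=
  Lrfl
theorem f658269 : Led Lsl_df v2292 = v6762 :=
  Lgr Lrot153 (Lpe (f511915 IH) (Lpr_dt (f86941 IH) (Lpe (K6.f88718 IH) (Lpr_df (K7.f155284 IH) (Lpe (K7.f155207 IH) (Lpe (f155116 IH) (Lpe (f434719 IH) (Lpe (f90690 IH) (Lpr_gt (f658267 IH) (Lpn v6762))))))))))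
theorem f432783 : Led Lsl_ct (LP (LK LD1_c1 LD2_c43 LD3_c61)) = (LP (LK LD1_c3 LD2_c34 LD3_c26)) :=
  Lre_c IH (LK LD1_c1 LD2_c43 LD3_c61) (LK LD1_c3 LD2_c34 LD3_c26) Lrfl Lrfl
theorem f447973 : Led Lsl_af (LP (LK LD1_c3 LD2_c28 LD3_c59)) = (LP (LK LD1_c3 LD2_c34 LD3_c26)) :=
  Lgr Lrot68 (Lpr_ct (K11.f447971 IH) (Lpr_at (K11.f432924 IH) (Lpr_ct (f432783 IH) (Lpn (LP (LK LD1_c3 LD2_c34 LD3_c26))))))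
theorem f511917 : Led Lsl_ff (LP (LK LD1_c3 LD2_c34 LD3_c26)) = v2292 :=
  Lgr Lrot52 (Lpe (f447973 IH) (Lpe (K11.f86948 IH) (Lpr_gf (f511915 IH) (Lpn v2292))))
theorem f432909 : Led Lsl_dt (LP (LK LD1_c3 LD2_c34 LD3_c26)) = (LP (LK LD1_c7 LD2_c9 LD3_c60)) :=
  Lre_d IH (LK LD1_c3 LD2_c34 LD3_c26) (LK LD1_c7 LD2_c9 LD3_c60) Lrfl Lrfl
theorem f658271 : Led Lsl_ft (LP (LK LD1_c7 LD2_c9 LD3_c60)) = v6762 :=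
  Lgr Lrot54 (Lpe (f432909 IH) (Lpr_ff (f511917 IH) (Lpr_df (f658269 IH) (Lpn v6762))))
theorem f685372 : Led Lsl_at v6762 = v11657 :=
  Lgr Lrot33 (Lpe (f658271 IH) (Lpr_dt (f432797 IH) (Lpr_ct (f155066 IH) (Lpr_dt (f155067 IH) (Lpr_ct (K7.f10751 IH) (Lpr_dt (K11.f155061 IH) (Lpr_ct (f432972 IH) (Lpr_dt (f155203 IH) (Lpr_ct (f685371 IH) (Lpn v11657))))))))))
theorem f432881 : Led Lsl_df (LP (LK LD1_c12 LD2_c0 LD3_c57)) = (LP (LK LD1_c6 LD2_c10 LD3_c5)) :=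
  Lgr Lrot38 (Lpr_dt (K34.f432874 IH) (Lpn (LP (LK LD1_c6 LD2_c10 LD3_c5))))
theorem f432900 : Led Lsl_gt (LP (LK LD1_c12 LD2_c0 LD3_c57)) = (LP (LK LD1_c6 LD2_c41 LD3_c36)) :=
  Lgr Lrot49 (Lpr_df (f432881 IH) (Lpr_gf (K34.f119391 IH) (Lpe (K5.f86060 IH) (Lpe (K11.f105719 IH) (Lpr_dt (K11.f64528 IH) (Lpr_gt (K7.f155160 IH) (Lpe (K7.f155124 IH) (Lpe (K4.f114197 IH) (Lpe (K4.f114196 IH) (Lpn (LP (LK LD1_c6 LD2_c41 LD3_c36))))))))))))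
theorem f85346 : Led Lsl_dt (LP (LK LD1_c6 LD2_c59 LD3_c22)) = (LP (LK LD1_c3 LD2_c28 LD3_c51)) :=
  Lre_d IH (LK LD1_c6 LD2_c59 LD3_c22) (LK LD1_c3 LD2_c28 LD3_c51) Lrfl Lrfl
theorem f432798 : Led Lsl_gt (LP (LK LD1_c6 LD2_c59 LD3_c22)) = (LP (LK LD1_c7 LD2_c9 LD3_c60)) :=
  Lgr Lrot49 (Lpe (K59.f85567 IH) (Lpr_gf (K59.f85592 IH) (Lpe (K6.f115506 IH) (Lpr_gt (K4.f114146 IH) (Lpr_dt (K11.f432790 IH) (Lpr_gt (K11.f155080 IH) (Lpr_dt (K59.f155065 IH) (Lpe (f155066 IH) (Lpe (f432797 IH) (Lpn (LP (LK LD1_c7 LD2_c9 LD3_c60))))))))))))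
theorem f432902 : Led Lsl_cf (LP (LK LD1_c12 LD2_c0 LD3_c57)) = (LP (LK LD1_c7 LD2_c9 LD3_c60)) :=
  Lgr Lrot169 (Lpr_gt (f432900 IH) (Lpe (K4.f114334 IH) (Lpe (K4.f85600 IH) (Lpe (K3.f109131 IH) (Lpr_gf (K3.f109137 IH) (Lpe (K3.f106667 IH) (Lpe (K3.f106665 IH) (Lpe (f85346 IH) (Lpr_gt (f432798 IH) (Lpn (LP (LK LD1_c7 LD2_c9 LD3_c60))))))))))))
theorem f143421 : Led Lsl_ct (LP (LK LD1_c7 LD2_c31 LD3_c2)) = (LP (LK LD1_c6 LD2_c59 LD3_c38)) :=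
  Lgr Lrot59 (Lpr_cf (K6.f143411 IH) (Lpn (LP (LK LD1_c6 LD2_c59 LD3_c38))))
theorem f432913 : Led Lsl_gf (LP (LK LD1_c6 LD2_c58 LD3_c53)) = (LP (LK LD1_c7 LD2_c9 LD3_c60)) :=
  Lgr Lrot144 (Lpr_dt (f85387 IH) (Lpr_gt (K4.f85591 IH) (Lpr_dt (K6.f143423 IH) (Lpe (f143421 IH) (Lpe (K6.f105669 IH) (Lpr_gf (K5.f114162 IH) (Lpe (K4.f114196 IH) (Lpe (f432900 IH) (Lpr_cf (f432902 IH) (Lpn (LP (LK LD1_c7 LD2_c9 LD3_c60))))))))))))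
theorem f685373 : Led Lsl_gt (LP (LK LD1_c6 LD2_c58 LD3_c53)) = v11657 :=
  Lgr Lrot46 (Lpr_gf (f432913 IH) (Lpr_ft (f658271 IH) (Lpr_at (f685372 IH) (Lpn v11657))))
theorem f429760 : Led Lsl_bt (LP (LK LD1_c12 LD2_c0 LD3_c58)) = (LP (LK LD1_c21 LD2_c6 LD3_c24)) :=
  Lre_b IH (LK LD1_c12 LD2_c0 LD3_c58) (LK LD1_c21 LD2_c6 LD3_c24) Lrfl Lrfl
theorem f12521 : Led Lsl_dt (LP (LK LD1_c14 LD2_c11 LD3_c22)) = (LP (LK LD1_c23 LD2_c46 LD3_c56)) :=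
  Lre_d IH (LK LD1_c14 LD2_c11 LD3_c22) (LK LD1_c23 LD2_c46 LD3_c56) Lrfl Lrfl
theorem f105678 : Led Lsl_bf (LP (LK LD1_c21 LD2_c10 LD3_c20)) = (LP (LK LD1_c23 LD2_c46 LD3_c56)) :=
  Lgr Lrot93 (Lpr_dt (f105677 IH) (Lpr_bt (K6.f105670 IH) (Lpr_dt (f12521 IH) (Lpn (LP (LK LD1_c23 LD2_c46 LD3_c56))))))
theorem f105681 : Led Lsl_bt (LP (LK LD1_c21 LD2_c10 LD3_c20)) = (LP (LK LD1_c23 LD2_c46 LD3_c56)) :=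
  Lgr Lrot127 (Lpr_bf (f105678 IH) (Lpn (LP (LK LD1_c23 LD2_c46 LD3_c56))))
theorem f783450 : Led Lsl_gt (LP (LK LD1_c21 LD2_c6 LD3_c24)) = (LP (LK LD1_c23 LD2_c46 LD3_c56)) :=
  Lgr Lrot164 (Lpe (f429760 IH) (Lpr_ct (f685371 IH) (Lpe (f685373 IH) (Lpr_cf (f755257 IH) (Lpe (f755260 IH) (Lpe (f433301 IH) (Lpr_ct (f433415 IH) (Lpr_gf (f783448 IH) (Lpe (f105683 IH) (Lpr_bt (f105681 IH) (Lpn (LP (LK LD1_c23 LD2_c46 LD3_c56)))))))))))))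
theorem f783451 : Led Lsl_gt (LP (LK LD1_c21 LD2_c6 LD3_c24)) = (LP (LK LD1_c23 LD2_c46 LD3_c56)) :=
  Leop (Lpe (f783450 IH) (Lpn (LP (LK LD1_c21 LD2_c6 LD3_c24))))
theorem seed_1490 : LEOK LG_g (LK LD1_c21 LD2_c6 LD3_c24) :=
  Leoe_g (LK LD1_c21 LD2_c6 LD3_c24) (f783451 IH)
theorem f134515 : Led Lsl_bt (LP (LK LD1_c13 LD2_c0 LD3_c20)) = (LP (LK LD1_c6 LD2_c48 LD3_c57)) :=
  Lre_b IH (LK LD1_c13 LD2_c0 LD3_c20) (LK LD1_c6 LD2_c48 LD3_c57) Lrfl Lrfl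
theorem f783406 : Led Lsl_ff (LP (LK LD1_c13 LD2_c0 LD3_c20)) = (LP (LK LD1_c14 LD2_c11 LD3_c22)) :=
  Lgr Lrot25 (Lpr_bt (f134515 IH) (Lpr_ft (f783285 IH) (Lpqs (f783388 IH) (Lpr_bt (K6.f105670 IH) (Lpn (LP (LK LD1_c14 LD2_c11 LD3_c22)))))))
theorem f12518 : Led Lsl_at (LP (LK LD1_c14 LD2_c11 LD3_c24)) = (LP (LK LD1_c7 LD2_c31 LD3_c1)) :=
  Lre_a IH (LK LD1_c14 LD2_c11 LD3_c24) (LK LD1_c7 LD2_c31 LD3_c1) Lrfl Lrfl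
theorem f143509 : Led Lsl_ff (LP (LK LD1_c14 LD2_c11 LD3_c24)) = (LP (LK LD1_c22 LD2_c30 LD3_c16)) :=
  Lgr Lrot30 (Lpr_at (f12518 IH) (Lpr_ft (K6.f143502 IH) (Lpr_at (K6.f86792 IH) (Lpn (LP (LK LD1_c22 LD2_c30 LD3_c16))))))
theorem f12531 : Led Lsl_gt (LP (LK LD1_c14 LD2_c11 LD3_c23)) = (LP (LK LD1_c7 LD2_c31 LD3_c1)) :=
  Lre_g IH (LK LD1_c14 LD2_c11 LD3_c23) (LK LD1_c7 LD2_c31 LD3_c1) Lrfl Lrfl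
theorem f437873 : Led Lsl_gf (LP (LK LD1_c14 LD2_c11 LD3_c23)) = (LP (LK LD1_c22 LD2_c30 LD3_c16)) :=
  Lgr Lrot47 (Lpr_gt (f12531 IH) (Lpe (f12518 IH) (Lpr_ff (f143509 IH) (Lpn (LP (LK LD1_c22 LD2_c30 LD3_c16))))))
theorem f783634 : Led Lsl_at (LP (LK LD1_c13 LD2_c0 LD3_c20)) = (LP (LK LD1_c14 LD2_c11 LD3_c23)) :=
  Lgr Lrot26 (Lpr_ff (f783406 IH) (Lpr_gt (K6.f143511 IH) (Lpe (f437873 IH) (Lpn (LP (LK LD1_c14 LD2_c11 LD3_c23))))))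
theorem f783636 : Led Lsl_af (LP (LK LD1_c13 LD2_c0 LD3_c20)) = (LP (LK LD1_c14 LD2_c11 LD3_c23)) :=
  Lgr Lrot0 (Lpr_at (f783634 IH) (Lpn (LP (LK LD1_c14 LD2_c11 LD3_c23))))
theorem f126274 : Led Lsl_ff (LP (LK LD1_c7 LD2_c31 LD3_c1)) = (LP (LK LD1_c13 LD2_c15 LD3_c13)) :=
  Lgr Lrot25 (Lpr_bt (K6.f12513 IH) (Lpr_ft (K5.f126272 IH) (Lpr_bt (K6.f17757 IH) (Lpn (LP (LK LD1_c13 LD2_c15 LD3_c13))))))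
theorem f143570 : Led Lsl_gt (LP (LK LD1_c13 LD2_c15 LD3_c13)) = (LP (LK LD1_c13 LD2_c0 LD3_c20)) :=
  Lgr Lrot5 (Lpe (f126274 IH) (Lpr_at (K6.f12508 IH) (Lpr_gf (K34.f143568 IH) (Lpn (LP (LK LD1_c13 LD2_c0 LD3_c20))))))
theorem f86797 : Led Lsl_gt (LP (LK LD1_c22 LD2_c30 LD3_c15)) = (LP (LK LD1_c13 LD2_c15 LD3_c13)) :=
  Lre_g IH (LK LD1_c22 LD2_c30 LD3_c15) (LK LD1_c13 LD2_c15 LD3_c13) Lrfl Lrfl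
theorem f783652 : Led Lsl_ft (LP (LK LD1_c22 LD2_c30 LD3_c15)) = (LP (LK LD1_c14 LD2_c11 LD3_c23)) :=
  Lgr Lrot2 (Lpr_gt (f86797 IH) (Lpr_gt (f143570 IH) (Lpr_af (f783636 IH) (Lpn (LP (LK LD1_c14 LD2_c11 LD3_c23))))))
theorem f783658 : Led Lsl_ff (LP (LK LD1_c22 LD2_c30 LD3_c15)) = (LP (LK LD1_c14 LD2_c11 LD3_c23)) :=
  Lgr Lrot3 (Lpr_ft (f783652 IH) (Lpn (LP (LK LD1_c14 LD2_c11 LD3_c23))))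
theorem f86774 : Led Lsl_bt (LP (LK LD1_c3 LD2_c43 LD3_c9)) = (LP (LK LD1_c7 LD2_c26 LD3_c57)) :=
  Lre_b IH (LK LD1_c3 LD2_c43 LD3_c9) (LK LD1_c7 LD2_c26 LD3_c57) Lrfl Lrfl
theorem f86760 : Led Lsl_gt (LP (LK LD1_c7 LD2_c26 LD3_c57)) = (LP (LK LD1_c14 LD2_c4 LD3_c34)) :=
  Lre_g IH (LK LD1_c7 LD2_c26 LD3_c57) (LK LD1_c14 LD2_c4 LD3_c34) Lrfl Lrfl
theorem f134895 : Led Lsl_bt (LP (LK LD1_c23 LD2_c37 LD3_c54)) = (LP (LK LD1_c14 LD2_c4 LD3_c34)) :=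
  Lre_b IH (LK LD1_c23 LD2_c37 LD3_c54) (LK LD1_c14 LD2_c4 LD3_c34) Lrfl Lrfl
theorem f134896 : Led Lsl_ct (LP (LK LD1_c23 LD2_c37 LD3_c54)) = (LP (LK LD1_c22 LD2_c30 LD3_c15)) :=
  Lgr Lrot64 (Lpr_bt (f134895 IH) (Lpe (f86760 IH) (Lpe (f86774 IH) (Lpr_ct (K3.f86770 IH) (Lpe (K5.f86736 IH) (Lpr_cf (K5.f134887 IH) (Lpr_gf (K6.f134623 IH) (Lpe (K6.f86779 IH) (Lpe (K6.f86789 IH) (Lpe (f86797 IH) (Lpn (LP (LK LD1_c22 LD2_c30 LD3_c15)))))))))))))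
theorem f134902 : Led Lsl_cf (LP (LK LD1_c23 LD2_c37 LD3_c54)) = (LP (LK LD1_c22 LD2_c30 LD3_c15)) :=
  Lgr Lrot11 (Lpr_ct (f134896 IH) (Lpn (LP (LK LD1_c22 LD2_c30 LD3_c15))))
theorem f12532 : Led Lsl_ct (LP (LK LD1_c23 LD2_c46 LD3_c58)) = (LP (LK LD1_c14 LD2_c11 LD3_c23)) :=
  Lre_c IH (LK LD1_c23 LD2_c46 LD3_c58) (LK LD1_c14 LD2_c11 LD3_c23) Lrfl Lrfl
theorem f783662 : Led Lsl_ft (LP (LK LD1_c23 LD2_c37 LD3_c54)) = (LP (LK LD1_c23 LD2_c46 LD3_c58)) :=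
  Lgr Lrot4 (Lpr_cf (f134902 IH) (Lpr_ff (f783658 IH) (Lpe (f12532 IH) (Lpn (LP (LK LD1_c23 LD2_c46 LD3_c58))))))
theorem f25488 : Led Lsl_ct (LP (LK LD1_c22 LD2_c10 LD3_c33)) = (LP (LK LD1_c13 LD2_c0 LD3_c20)) :=
  Lre_c IH (LK LD1_c22 LD2_c10 LD3_c33) (LK LD1_c13 LD2_c0 LD3_c20) Lrfl Lrfl
theorem f434155 : Led Lsl_ct (LP (LK LD1_c14 LD2_c11 LD3_c23)) = (LP (LK LD1_c23 LD2_c46 LD3_c58)) :=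
  Lre_c IH (LK LD1_c14 LD2_c11 LD3_c23) (LK LD1_c23 LD2_c46 LD3_c58) Lrfl Lrfl
theorem f783641 : Led Lsl_af (LP (LK LD1_c22 LD2_c10 LD3_c33)) = (LP (LK LD1_c23 LD2_c46 LD3_c58)) :=
  Lgr Lrot68 (Lpr_ct (f25488 IH) (Lpr_at (f783634 IH) (Lpr_ct (f434155 IH) (Lpn (LP (LK LD1_c23 LD2_c46 LD3_c58))))))
theorem f134516 : Led Lsl_ct (LP (LK LD1_c13 LD2_c0 LD3_c20)) = (LP (LK LD1_c22 LD2_c10 LD3_c33)) :=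
  Lre_c IH (LK LD1_c13 LD2_c0 LD3_c20) (LK LD1_c22 LD2_c10 LD3_c33) Lrfl Lrfl
theorem f12534 : Led Lsl_ct (LP (LK LD1_c23 LD2_c46 LD3_c55)) = (LP (LK LD1_c14 LD2_c11 LD3_c22)) :=
  Lre_c IH (LK LD1_c23 LD2_c46 LD3_c55) (LK LD1_c14 LD2_c11 LD3_c22) Lrfl Lrfl
theorem f783630 : Led Lsl_ft (LP (LK LD1_c22 LD2_c10 LD3_c33)) = (LP (LK LD1_c23 LD2_c46 LD3_c55)) :=
  Lgr Lrot4 (Lpe (f134516 IH) (Lpr_ff (f783406 IH) (Lpe (f12534 IH) (Lpn (LP (LK LD1_c23 LD2_c46 LD3_c55))))))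
theorem f783664 : Led Lsl_af (LP (LK LD1_c23 LD2_c37 LD3_c54)) = (LP (LK LD1_c23 LD2_c46 LD3_c55)) :=
  Lgr Lrot45 (Lpr_ft (f783662 IH) (Lpe (f783641 IH) (Lpr_ft (f783630 IH) (Lpn (LP (LK LD1_c23 LD2_c46 LD3_c55))))))
theorem f134905 : Led Lsl_dt (LP (LK LD1_c23 LD2_c37 LD3_c54)) = (LP (LK LD1_c31 LD2_c8 LD3_c14)) :=
  Lre_d IH (LK LD1_c23 LD2_c37 LD3_c54) (LK LD1_c31 LD2_c8 LD3_c14) Lrfl Lrfl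
theorem f12527 : Led Lsl_dt (LP (LK LD1_c31 LD2_c13 LD3_c4)) = (LP (LK LD1_c23 LD2_c46 LD3_c55)) :=
  Lre_d IH (LK LD1_c31 LD2_c13 LD3_c4) (LK LD1_c23 LD2_c46 LD3_c55) Lrfl Lrfl
theorem f783676 : Led Lsl_at (LP (LK LD1_c31 LD2_c8 LD3_c14)) = (LP (LK LD1_c31 LD2_c13 LD3_c4)) :=
  Lgr Lrot51 (Lpe (f134905 IH) (Lpr_af (f783664 IH) (Lpe (f12527 IH) (Lpn (LP (LK LD1_c31 LD2_c13 LD3_c4))))))
theorem f134904 : Led Lsl_dt (LP (LK LD1_c31 LD2_c8 LD3_c14)) = (LP (LK LD1_c23 LD2_c37 LD3_c54)) :=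
  Lre_d IH (LK LD1_c31 LD2_c8 LD3_c14) (LK LD1_c23 LD2_c37 LD3_c54) Lrfl Lrfl
theorem f437875 : Led Lsl_dt (LP (LK LD1_c23 LD2_c46 LD3_c58)) = (LP (LK LD1_c31 LD2_c13 LD3_c5)) :=
  Lre_d IH (LK LD1_c23 LD2_c46 LD3_c58) (LK LD1_c31 LD2_c13 LD3_c5) Lrfl Lrfl
theorem f783666 : Led Lsl_ff (LP (LK LD1_c31 LD2_c8 LD3_c14)) = (LP (LK LD1_c31 LD2_c13 LD3_c5)) :=
  Lgr Lrot19 (Lpr_dt (f134904 IH) (Lpr_ft (f783662 IH) (Lpr_dt (f437875 IH) (Lpn (LP (LK LD1_c31 LD2_c13 LD3_c5))))))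
theorem f143574 : Led Lsl_dt (LP (LK LD1_c22 LD2_c10 LD3_c33)) = (LP (LK LD1_c30 LD2_c20 LD3_c18)) :=
  Lre_d IH (LK LD1_c22 LD2_c10 LD3_c33) (LK LD1_c30 LD2_c20 LD3_c18) Lrfl Lrfl
theorem f437876 : Led Lsl_dt (LP (LK LD1_c31 LD2_c13 LD3_c5)) = (LP (LK LD1_c23 LD2_c46 LD3_c58)) :=
  Lre_d IH (LK LD1_c31 LD2_c13 LD3_c5) (LK LD1_c23 LD2_c46 LD3_c58) Lrfl Lrfl
theorem f783645 : Led Lsl_at (LP (LK LD1_c30 LD2_c20 LD3_c18)) = (LP (LK LD1_c31 LD2_c13 LD3_c5)) :=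
  Lgr Lrot51 (Lpe (f143574 IH) (Lpr_af (f783641 IH) (Lpe (f437876 IH) (Lpn (LP (LK LD1_c31 LD2_c13 LD3_c5))))))
theorem f783680 : Led Lsl_ff (LP (LK LD1_c30 LD2_c20 LD3_c18)) = (LP (LK LD1_c31 LD2_c13 LD3_c4)) :=
  Lgr Lrot30 (Lpr_at (f783645 IH) (Lpe (f783666 IH) (Lpr_at (f783676 IH) (Lpn (LP (LK LD1_c31 LD2_c13 LD3_c4))))))
theorem f783682 : Led Lsl_ft (LP (LK LD1_c30 LD2_c20 LD3_c18)) = (LP (LK LD1_c31 LD2_c13 LD3_c4)) :=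
  Lgr Lrot48 (Lpr_ff (f783680 IH) (Lpn (LP (LK LD1_c31 LD2_c13 LD3_c4))))
theorem f783684 : Led Lsl_ff (LP (LK LD1_c22 LD2_c10 LD3_c33)) = (LP (LK LD1_c23 LD2_c46 LD3_c55)) :=
  Lgr Lrot19 (Lpr_dt (f143574 IH) (Lpr_ft (f783682 IH) (Lpr_dt (f12527 IH) (Lpn (LP (LK LD1_c23 LD2_c46 LD3_c55))))))
theorem f25487 : Led Lsl_bt (LP (LK LD1_c22 LD2_c10 LD3_c33)) = (LP (LK LD1_c13 LD2_c0 LD3_c17)) :=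
  Lre_b IH (LK LD1_c22 LD2_c10 LD3_c33) (LK LD1_c13 LD2_c0 LD3_c17) Lrfl Lrfl
theorem f12526 : Led Lsl_ct (LP (LK LD1_c14 LD2_c11 LD3_c22)) = (LP (LK LD1_c23 LD2_c46 LD3_c55)) :=
  Lre_c IH (LK LD1_c14 LD2_c11 LD3_c22) (LK LD1_c23 LD2_c46 LD3_c55) Lrfl Lrfl
theorem f105675 : Led Lsl_bf (LP (LK LD1_c21 LD2_c10 LD3_c18)) = (LP (LK LD1_c23 LD2_c46 LD3_c55)) :=
  Lgr Lrot90 (Lpr_ct (f86056 IH) (Lpr_bt (f86058 IH) (Lpr_ct (f105674 IH) (Lpr_bt (K6.f105670 IH) (Lpr_ct (f12526 IH) (Lpn (LP (LK LD1_c23 LD2_c46 LD3_c55))))))))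
theorem f105689 : Led Lsl_bt (LP (LK LD1_c21 LD2_c10 LD3_c18)) = (LP (LK LD1_c23 LD2_c46 LD3_c55)) :=
  Lgr Lrot127 (Lpr_bf (f105675 IH) (Lpn (LP (LK LD1_c23 LD2_c46 LD3_c55))))
theorem f783686 : Led Lsl_ft (LP (LK LD1_c13 LD2_c0 LD3_c17)) = (LP (LK LD1_c21 LD2_c10 LD3_c18)) :=
  Lgr Lrot75 (Lpe (f25487 IH) (Lpr_ff (f783684 IH) (Lpe (f105689 IH) (Lpn (LP (LK LD1_c21 LD2_c10 LD3_c18))))))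
theorem f783690 : Led Lsl_ff (LP (LK LD1_c13 LD2_c0 LD3_c17)) = (LP (LK LD1_c21 LD2_c10 LD3_c18)) :=
  Lgr Lrot3 (Lpr_ft (f783686 IH) (Lpn (LP (LK LD1_c21 LD2_c10 LD3_c18))))
theorem f25506 : Led Lsl_at (LP (LK LD1_c13 LD2_c0 LD3_c17)) = (LP (LK LD1_c22 LD2_c10 LD3_c32)) :=
  Lre_a IH (LK LD1_c13 LD2_c0 LD3_c17) (LK LD1_c22 LD2_c10 LD3_c32) Lrfl Lrfl
theorem f25489 : Led Lsl_gt (LP (LK LD1_c21 LD2_c4 LD3_c42)) = (LP (LK LD1_c11 LD2_c59 LD3_c60)) :=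
  Lre_g IH (LK LD1_c21 LD2_c4 LD3_c42) (LK LD1_c11 LD2_c59 LD3_c60) Lrfl Lrfl
theorem f25491 : Led Lsl_at (LP (LK LD1_c22 LD2_c10 LD3_c32)) = (LP (LK LD1_c13 LD2_c0 LD3_c17)) :=
  Lre_a IH (LK LD1_c22 LD2_c10 LD3_c32) (LK LD1_c13 LD2_c0 LD3_c17) Lrfl Lrfl
theorem f25492 : Led Lsl_ft (LP (LK LD1_c21 LD2_c4 LD3_c42)) = (LP (LK LD1_c22 LD2_c10 LD3_c32)) :=
  Lgr Lrot2 (Lpr_gt (f25489 IH) (Lpr_gt (f25427 IH) (Lpe (f25491 IH) (Lpn (LP (LK LD1_c22 LD2_c10 LD3_c32))))))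
theorem f25504 : Led Lsl_ff (LP (LK LD1_c21 LD2_c4 LD3_c42)) = (LP (LK LD1_c22 LD2_c10 LD3_c32)) :=
  Lgr Lrot3 (Lpr_ft (f25492 IH) (Lpn (LP (LK LD1_c22 LD2_c10 LD3_c32))))
theorem f783698 : Led Lsl_at (LP (LK LD1_c21 LD2_c4 LD3_c42)) = (LP (LK LD1_c21 LD2_c10 LD3_c18)) :=
  Lgr Lrot66 (Lpr_ff (f25504 IH) (Lpe (f25506 IH) (Lpr_ff (f783690 IH) (Lpn (LP (LK LD1_c21 LD2_c10 LD3_c18))))))
theorem f25507 : Led Lsl_ct (LP (LK LD1_c13 LD2_c0 LD3_c16)) = (LP (LK LD1_c22 LD2_c10 LD3_c32)) :=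
  Lre_c IH (LK LD1_c13 LD2_c0 LD3_c16) (LK LD1_c22 LD2_c10 LD3_c32) Lrfl Lrfl
theorem f765908 : Led Lsl_ct (LP (LK LD1_c21 LD2_c4 LD3_c42)) = (LP (LK LD1_c12 LD2_c20 LD3_c11)) :=
  Lgr Lrot40 (Lpr_ff (f25504 IH) (Lpe (f25507 IH) (Lpr_ff (f765906 IH) (Lpn (LP (LK LD1_c12 LD2_c20 LD3_c11))))))
theorem f765847 : Led Lsl_gf (LP (LK LD1_c12 LD2_c20 LD3_c11)) = (LP (LK LD1_c13 LD2_c0 LD3_c15)) :=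
  Lgr Lrot47 (Lpr_gt (f86427 IH) (Lpe (f765806 IH) (Lpr_ff (f765841 IH) (Lpn (LP (LK LD1_c13 LD2_c0 LD3_c15))))))
theorem f86432 : Led Lsl_bt (LP (LK LD1_c4 LD2_c50 LD3_c22)) = (LP (LK LD1_c9 LD2_c33 LD3_c1)) :=
  Lre_b IH (LK LD1_c4 LD2_c50 LD3_c22) (LK LD1_c9 LD2_c33 LD3_c1) Lrfl Lrfl
theorem f121399 : Led Lsl_bt (LP (LK LD1_c6 LD2_c49 LD3_c15)) = (LP (LK LD1_c13 LD2_c0 LD3_c45)) :=
  Lre_b IH (LK LD1_c6 LD2_c49 LD3_c15) (LK LD1_c13 LD2_c0 LD3_c45) Lrfl Lrfl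
theorem f121400 : Led Lsl_gt (LP (LK LD1_c22 LD2_c11 LD3_c1)) = (LP (LK LD1_c13 LD2_c0 LD3_c45)) :=
  Lre_g IH (LK LD1_c22 LD2_c11 LD3_c1) (LK LD1_c13 LD2_c0 LD3_c45) Lrfl Lrfl
theorem f765914 : Led Lsl_bt (LP (LK LD1_c21 LD2_c4 LD3_c42)) = (LP (LK LD1_c22 LD2_c11 LD3_c1)) :=
  Lgr Lrot22 (Lpr_ct (f765908 IH) (Lpr_gf (f765847 IH) (Lpe (f437587 IH) (Lpe (f86364 IH) (Lpe (f86432 IH) (Lpr_ct (K11.f86352 IH) (Lpr_gf (K5.f121391 IH) (Lpe (K3.f87489 IH) (Lpr_bt (f121399 IH) (Lpe (f121400 IH) (Lpn (LP (LK LD1_c22 LD2_c11 LD3_c1)))))))))))))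
theorem f765916 : Led Lsl_bf (LP (LK LD1_c21 LD2_c4 LD3_c42)) = (LP (LK LD1_c22 LD2_c11 LD3_c1)) :=
  Lgr Lrot24 (Lpr_bt (f765914 IH) (Lpn (LP (LK LD1_c22 LD2_c11 LD3_c1))))
theorem f783710 : Led Lsl_af (LP (LK LD1_c22 LD2_c11 LD3_c1)) = (LP (LK LD1_c14 LD2_c4 LD3_c34)) :=
  Lgr Lrot36 (Lpe (f765916 IH) (Lpr_at (f783698 IH) (Lpr_bt (f105689 IH) (Lpe (f783664 IH) (Lpr_bt (f134895 IH) (Lpn (LP (LK LD1_c14 LD2_c4 LD3_c34))))))))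
theorem f783714 : Led Lsl_at (LP (LK LD1_c22 LD2_c11 LD3_c1)) = (LP (LK LD1_c14 LD2_c4 LD3_c34)) :=
  Lgr Lrot100 (Lpr_af (f783710 IH) (Lpn (LP (LK LD1_c14 LD2_c4 LD3_c34))))
theorem f86775 : Led Lsl_gt (LP (LK LD1_c14 LD2_c4 LD3_c35)) = (LP (LK LD1_c7 LD2_c26 LD3_c57)) :=
  Lre_g IH (LK LD1_c14 LD2_c4 LD3_c35) (LK LD1_c7 LD2_c26 LD3_c57) Lrfl Lrfl
theorem f783717 : Led Lsl_ff (LP (LK LD1_c22 LD2_c11 LD3_c1)) = (LP (LK LD1_c14 LD2_c4 LD3_c35)) :=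
  Lgr Lrot52 (Lpr_at (f783714 IH) (Lpe (f86760 IH) (Lpe (f86775 IH) (Lpn (LP (LK LD1_c14 LD2_c4 LD3_c35))))))
theorem f783721 : Led Lsl_bt (LP (LK LD1_c22 LD2_c10 LD3_c32)) = (LP (LK LD1_c14 LD2_c4 LD3_c35)) :=
  Lgr Lrot35 (Lpe (f25492 IH) (Lpr_bf (f765916 IH) (Lpr_ff (f783717 IH) (Lpn (LP (LK LD1_c14 LD2_c4 LD3_c35))))))
theorem f25503 : Led Lsl_ct (LP (LK LD1_c22 LD2_c10 LD3_c32)) = (LP (LK LD1_c13 LD2_c0 LD3_c16)) :=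
  Lre_c IH (LK LD1_c22 LD2_c10 LD3_c32) (LK LD1_c13 LD2_c0 LD3_c16) Lrfl Lrfl
theorem f24788 : Led Lsl_bt (LP (LK LD1_c3 LD2_c1 LD3_c10)) = (LP (LK LD1_c6 LD2_c9 LD3_c26)) :=
  Lre_b IH (LK LD1_c3 LD2_c1 LD3_c10) (LK LD1_c6 LD2_c9 LD3_c26) Lrfl Lrfl
theorem f783735 : Led Lsl_gf (LP (LK LD1_c13 LD2_c0 LD3_c16)) = (LP (LK LD1_c12 LD2_c20 LD3_c12)) :=
  Lgr Lrot129 (Lpe (f25503 IH) (Lpr_bt (f783721 IH) (Lpr_gt (f86775 IH) (Lpe (f86774 IH) (Lpr_ct (K3.f86770 IH) (Lpr_gt (K5.f86761 IH) (Lpe (K5.f21091 IH) (Lpr_bt (f24788 IH) (Lpr_gt (f24765 IH) (Lpr_ct (f765825 IH) (Lpn (LP (LK LD1_c12 LD2_c20 LD3_c12)))))))))))))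
theorem f765837 : Led Lsl_ft (LP (LK LD1_c12 LD2_c20 LD3_c12)) = (LP (LK LD1_c13 LD2_c0 LD3_c15)) :=
  Lgr Lrot4 (Lpe (f765825 IH) (Lpr_ff (f765835 IH) (Lpr_cf (f437585 IH) (Lpn (LP (LK LD1_c13 LD2_c0 LD3_c15))))))
theorem f762607 : Led Lsl_at (LP (LK LD1_c6 LD2_c23 LD3_c32)) = (LP (LK LD1_c12 LD2_c20 LD3_c26)) :=
  Lre_a IH (LK LD1_c6 LD2_c23 LD3_c32) (LK LD1_c12 LD2_c20 LD3_c26) Lrfl Lrfl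
theorem f762574 : Led Lsl_at (LP (LK LD1_c6 LD2_c23 LD3_c31)) = (LP (LK LD1_c3 LD2_c9 LD3_c23)) :=
  Lre_a IH (LK LD1_c6 LD2_c23 LD3_c31) (LK LD1_c3 LD2_c9 LD3_c23) Lrfl Lrfl
theorem f762513 : Led Lsl_bt (LP (LK LD1_c12 LD2_c20 LD3_c16)) = (LP (LK LD1_c6 LD2_c23 LD3_c31)) :=
  Lre_b IH (LK LD1_c12 LD2_c20 LD3_c16) (LK LD1_c6 LD2_c23 LD3_c31) Lrfl Lrfl
theorem f765849 : Led Lsl_af (LP (LK LD1_c12 LD2_c20 LD3_c16)) = (LP (LK LD1_c13 LD2_c0 LD3_c15)) :=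
  Lgr Lrot36 (Lpr_bt (f762513 IH) (Lpr_at (f762574 IH) (Lpr_bt (K57.f648127 IH) (Lpr_at (f762607 IH) (Lpr_bt (f765845 IH) (Lpn (LP (LK LD1_c13 LD2_c0 LD3_c15))))))))
theorem f783739 : Led Lsl_gt (LP (LK LD1_c13 LD2_c0 LD3_c16)) = (LP (LK LD1_c12 LD2_c20 LD3_c16)) :=
  Lgr Lrot46 (Lpr_gf (f783735 IH) (Lpr_ft (f765837 IH) (Lpe (f765849 IH) (Lpn (LP (LK LD1_c12 LD2_c20 LD3_c16))))))
theorem f765910 : Led Lsl_ft (LP (LK LD1_c13 LD2_c0 LD3_c16)) = (LP (LK LD1_c12 LD2_c20 LD3_c11)) :=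
  Lgr Lrot48 (Lpr_ff (f765906 IH) (Lpn (LP (LK LD1_c12 LD2_c20 LD3_c11))))
theorem f653584 : Led Lsl_at (LP (LK LD1_c6 LD2_c48 LD3_c56)) = (LP (LK LD1_c13 LD2_c0 LD3_c16)) :=
  Lre_a IH (LK LD1_c6 LD2_c48 LD3_c56) (LK LD1_c13 LD2_c0 LD3_c16) Lrfl Lrfl
theorem f783322 : Led Lsl_at (LP (LK LD1_c12 LD2_c20 LD3_c11)) = v19955 :=
  Lgr Lrot66 (Lpe (f765910 IH) (Lpe (f653584 IH) (Lpr_ff (f783321 IH) (Lpn v19955))))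
theorem f783741 : Led Lsl_gf v19955 = (LP (LK LD1_c12 LD2_c20 LD3_c16)) :=
  Lgr Lrot76 (Lpe (f783322 IH) (Lpe (f765910 IH) (Lpr_gt (f783739 IH) (Lpn (LP (LK LD1_c12 LD2_c20 LD3_c16))))))
theorem f105695 : Led Lsl_bt (LP (LK LD1_c6 LD2_c13 LD3_c2)) = (LP (LK LD1_c12 LD2_c5 LD3_c0)) :=
  Lre_b IH (LK LD1_c6 LD2_c13 LD3_c2) (LK LD1_c12 LD2_c5 LD3_c0) Lrfl Lrfl
theorem f783383 : v19955 = (LP (LK LD1_c12 LD2_c5 LD3_c0)) :=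
  Lefun (Lecon (f783323 IH) (f783370 IH).symm) (f105695 IH)
theorem f86057 : Led Lsl_ct (LP (LK LD1_c12 LD2_c5 LD3_c0)) = (LP (LK LD1_c21 LD2_c10 LD3_c18)) :=
  Lre_c IH (LK LD1_c12 LD2_c5 LD3_c0) (LK LD1_c21 LD2_c10 LD3_c18) Lrfl Lrfl
theorem f86052 : Led Lsl_bt (LP (LK LD1_c9 LD2_c33 LD3_c1)) = (LP (LK LD1_c4 LD2_c50 LD3_c22)) :=
  Lre_b IH (LK LD1_c9 LD2_c33 LD3_c1) (LK LD1_c4 LD2_c50 LD3_c22) Lrfl Lrfl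
theorem f86398 : Led Lsl_ct (LP (LK LD1_c17 LD2_c35 LD3_c20)) = (LP (LK LD1_c9 LD2_c33 LD3_c4)) :=
  Lre_c IH (LK LD1_c17 LD2_c35 LD3_c20) (LK LD1_c9 LD2_c33 LD3_c4) Lrfl Lrfl
theorem f105692 : Led Lsl_gt (LP (LK LD1_c21 LD2_c10 LD3_c18)) = (LP (LK LD1_c17 LD2_c35 LD3_c20)) :=
  Lgr Lrot82 (Lpr_bf (f105675 IH) (Lpr_ct (f12534 IH) (Lpe (K6.f12520 IH) (Lpe (K6.f12505 IH) (Lpr_bt (K6.f12445 IH) (Lpe (K5.f105650 IH) (Lpe (f86052 IH) (Lpr_ct (f86051 IH) (Lpe (f86397 IH) (Lpe (f86398 IH) (Lpn (LP (LK LD1_c17 LD2_c35 LD3_c20)))))))))))))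
theorem f113261 : Led Lsl_gt (LP (LK LD1_c6 LD2_c49 LD3_c13)) = (LP (LK LD1_c3 LD2_c22 LD3_c49)) :=
  Lre_g IH (LK LD1_c6 LD2_c49 LD3_c13) (LK LD1_c3 LD2_c22 LD3_c49) Lrfl Lrfl
theorem f135490 : Led Lsl_bt (LP (LK LD1_c13 LD2_c0 LD3_c42)) = (LP (LK LD1_c6 LD2_c49 LD3_c13)) :=
  Lre_b IH (LK LD1_c13 LD2_c0 LD3_c42) (LK LD1_c6 LD2_c49 LD3_c13) Lrfl Lrfl
theorem f135491 : Led Lsl_gt (LP (LK LD1_c12 LD2_c4 LD3_c60)) = (LP (LK LD1_c21 LD2_c10 LD3_c13)) :=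
  Lre_g IH (LK LD1_c12 LD2_c4 LD3_c60) (LK LD1_c21 LD2_c10 LD3_c13) Lrfl Lrfl
theorem f135492 : Led Lsl_ct (LP (LK LD1_c13 LD2_c0 LD3_c42)) = (LP (LK LD1_c21 LD2_c10 LD3_c13)) :=
  Lgr Lrot63 (Lpr_bt (f135490 IH) (Lpr_gt (f113261 IH) (Lpe (K32.f113218 IH) (Lpr_ct (K6.f20909 IH) (Lpr_gt (K6.f135484 IH) (Lpe (K2.f7489 IH) (Lpr_bt (f57551 IH) (Lpr_gt (f57552 IH) (Lpr_ct (f84147 IH) (Lpr_gt (f135491 IH) (Lpn (LP (LK LD1_c21 LD2_c10 LD3_c13)))))))))))))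
theorem f135565 : Led Lsl_cf (LP (LK LD1_c13 LD2_c0 LD3_c42)) = (LP (LK LD1_c21 LD2_c10 LD3_c13)) :=
  Lgr Lrot11 (Lpr_ct (f135492 IH) (Lpn (LP (LK LD1_c21 LD2_c10 LD3_c13))))
theorem f57753 : Led Lsl_ft (LP (LK LD1_c1 LD2_c37 LD3_c32)) = (LP (LK LD1_c3 LD2_c3 LD3_c14)) :=
  Lre_f IH (LK LD1_c1 LD2_c37 LD3_c32) (LK LD1_c3 LD2_c3 LD3_c14) Lrfl Lrfl
theorem f57885 : Led Lsl_df (LP (LK LD1_c2 LD2_c23 LD3_c0)) = (LP (LK LD1_c3 LD2_c3 LD3_c14)) :=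
  Lgr Lrot78 (Lpr_ft (K1.f57878 IH) (Lpe (K1.f57738 IH) (Lpr_ft (f57753 IH) (Lpn (LP (LK LD1_c3 LD2_c3 LD3_c14))))))
theorem f86403 : Led Lsl_ct (LP (LK LD1_c17 LD2_c35 LD3_c24)) = (LP (LK LD1_c17 LD2_c35 LD3_c19)) :=
  Lre_c IH (LK LD1_c17 LD2_c35 LD3_c24) (LK LD1_c17 LD2_c35 LD3_c19) Lrfl Lrfl
theorem f135577 : Led Lsl_df (LP (LK LD1_c13 LD2_c0 LD3_c42)) = (LP (LK LD1_c17 LD2_c35 LD3_c19)) :=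
  Lgr Lrot162 (Lpr_cf (f135565 IH) (Lpe (f135491 IH) (Lpe (f84147 IH) (Lpe (f57552 IH) (Lpe (f57885 IH) (Lpr_gt (K3.f57894 IH) (Lpr_ct (K49.f57897 IH) (Lpr_gt (f57898 IH) (Lpr_ct (f86403 IH) (Lpn (LP (LK LD1_c17 LD2_c35 LD3_c19))))))))))))
theorem f105665 : Led Lsl_bt (LP (LK LD1_c9 LD2_c33 LD3_c4)) = (LP (LK LD1_c17 LD2_c35 LD3_c19)) :=
  Lre_b IH (LK LD1_c9 LD2_c33 LD3_c4) (LK LD1_c17 LD2_c35 LD3_c19) Lrfl Lrfl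
theorem f135580 : Led Lsl_dt (LP (LK LD1_c6 LD2_c49 LD3_c13)) = (LP (LK LD1_c9 LD2_c33 LD3_c4)) :=
  Lgr Lrot79 (Lpe (f135490 IH) (Lpr_df (f135577 IH) (Lpe (f105665 IH) (Lpn (LP (LK LD1_c9 LD2_c33 LD3_c4))))))
theorem f135584 : Led Lsl_df (LP (LK LD1_c6 LD2_c49 LD3_c13)) = (LP (LK LD1_c9 LD2_c33 LD3_c4)) :=
  Lgr Lrot38 (Lpr_dt (f135580 IH) (Lpn (LP (LK LD1_c9 LD2_c33 LD3_c4))))
theorem f135563 : Led Lsl_ct (LP (LK LD1_c13 LD2_c0 LD3_c43)) = (LP (LK LD1_c6 LD2_c49 LD3_c13)) :=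
  Lre_c IH (LK LD1_c13 LD2_c0 LD3_c43) (LK LD1_c6 LD2_c49 LD3_c13) Lrfl Lrfl
theorem f762585 : Led Lsl_ff (LP (LK LD1_c6 LD2_c23 LD3_c29)) = v17878 :=
  Lgr Lrot3 (Lpr_ft (f762582 IH) (Lpn v17878))
theorem f648125 : Led Lsl_ft (LP (LK LD1_c3 LD2_c9 LD3_c22)) = (LP (LK LD1_c6 LD2_c23 LD3_c31)) :=
  Lre_f IH (LK LD1_c3 LD2_c9 LD3_c22) (LK LD1_c6 LD2_c23 LD3_c31) Lrfl Lrfl
theorem f762588 : Led Lsl_dt (LP (LK LD1_c6 LD2_c23 LD3_c31)) = v17878 :=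
  Lgr Lrot60 (Lpe (f648125 IH) (Lpe (f153924 IH) (Lpr_ff (f762585 IH) (Lpn v17878))))
theorem f783172 : Led Lsl_dt (LP (LK LD1_c9 LD2_c19 LD3_c6)) = (LP (LK LD1_c12 LD2_c20 LD3_c16)) :=
  Lgr Lrot79 (Lpe (f82811 IH) (Lpq (f783070 IH) (Lpe (f762588 IH) (Lpe (f762513 IH) (Lpn (LP (LK LD1_c12 LD2_c20 LD3_c16)))))))
theorem f783068 : Led Lsl_gf (LP (LK LD1_c9 LD2_c33 LD3_c11)) = (LP (LK LD1_c9 LD2_c19 LD3_c6)) :=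
  Lgr Lrot47 (Lpr_gt (f135614 IH) (Lpr_af (f765943 IH) (Lpr_ff (f783047 IH) (Lpn (LP (LK LD1_c9 LD2_c19 LD3_c6))))))
theorem f135593 : Led Lsl_ct (LP (LK LD1_c9 LD2_c33 LD3_c11)) = (LP (LK LD1_c17 LD2_c35 LD3_c32)) :=
  Lre_c IH (LK LD1_c9 LD2_c33 LD3_c11) (LK LD1_c17 LD2_c35 LD3_c32) Lrfl Lrfl
theorem f783772 : Led Lsl_gf (LP (LK LD1_c13 LD2_c0 LD3_c43)) = (LP (LK LD1_c17 LD2_c35 LD3_c32)) :=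
  Lgr Lrot104 (Lpr_ct (f135563 IH) (Lpr_df (f135584 IH) (Lpe (f86398 IH) (Lpe (f105692 IH) (Lpe (f86057 IH) (Lpq (f783383 IH) (Lpr_gf (f783741 IH) (Lpe (f783172 IH) (Lpe (f783068 IH) (Lpr_ct (f135593 IH) (Lpn (LP (LK LD1_c17 LD2_c35 LD3_c32)))))))))))))
theorem f135570 : Led Lsl_ct (LP (LK LD1_c6 LD2_c49 LD3_c13)) = (LP (LK LD1_c13 LD2_c0 LD3_c43)) :=
  Lre_c IH (LK LD1_c6 LD2_c49 LD3_c13) (LK LD1_c13 LD2_c0 LD3_c43) Lrfl Lrfl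
theorem f135562 : Led Lsl_bt (LP (LK LD1_c6 LD2_c49 LD3_c13)) = (LP (LK LD1_c13 LD2_c0 LD3_c42)) :=
  Lre_b IH (LK LD1_c6 LD2_c49 LD3_c13) (LK LD1_c13 LD2_c0 LD3_c42) Lrfl Lrfl
theorem f135592 : Led Lsl_bt (LP (LK LD1_c9 LD2_c33 LD3_c11)) = (LP (LK LD1_c4 LD2_c50 LD3_c28)) :=
  Lre_b IH (LK LD1_c9 LD2_c33 LD3_c11) (LK LD1_c4 LD2_c50 LD3_c28) Lrfl Lrfl
theorem f57880 : Led Lsl_at (LP (LK LD1_c4 LD2_c50 LD3_c29)) = (LP (LK LD1_c2 LD2_c23 LD3_c0)) :=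
  Lre_a IH (LK LD1_c4 LD2_c50 LD3_c29) (LK LD1_c2 LD2_c23 LD3_c0) Lrfl Lrfl
theorem f57881 : Led Lsl_ff (LP (LK LD1_c4 LD2_c50 LD3_c29)) = (LP (LK LD1_c6 LD2_c18 LD3_c1)) :=
  Lgr Lrot30 (Lpr_at (f57880 IH) (Lpr_ft (K1.f57878 IH) (Lpr_at (K1.f57877 IH) (Lpn (LP (LK LD1_c6 LD2_c18 LD3_c1))))))
theorem f444363 : Led Lsl_gf (LP (LK LD1_c4 LD2_c50 LD3_c28)) = (LP (LK LD1_c6 LD2_c18 LD3_c1)) :=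
  Lgr Lrot47 (Lpr_gt (f115193 IH) (Lpe (f57880 IH) (Lpr_ff (f57881 IH) (Lpn (LP (LK LD1_c6 LD2_c18 LD3_c1))))))
theorem f25466 : Led Lsl_ct (LP (LK LD1_c12 LD2_c48 LD3_c36)) = (LP (LK LD1_c6 LD2_c41 LD3_c43)) :=
  Lre_c IH (LK LD1_c12 LD2_c48 LD3_c36) (LK LD1_c6 LD2_c41 LD3_c43) Lrfl Lrfl
theorem f783774 : Led Lsl_gt (LP (LK LD1_c13 LD2_c0 LD3_c42)) = (LP (LK LD1_c12 LD2_c48 LD3_c36)) :=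
  Lgr Lrot82 (Lpe (f135562 IH) (Lpr_ct (f135570 IH) (Lpr_gf (f783772 IH) (Lpe (f135593 IH) (Lpr_bt (f135592 IH) (Lpr_gf (f444363 IH) (Lpe (K3.f85864 IH) (Lpr_ct (K2.f25476 IH) (Lpe (K34.f25475 IH) (Lpe (f25466 IH) (Lpn (LP (LK LD1_c12 LD2_c48 LD3_c36)))))))))))))
theorem f25461 : Led Lsl_gt (LP (LK LD1_c21 LD2_c4 LD3_c41)) = (LP (LK LD1_c11 LD2_c59 LD3_c59)) :=
  Lre_g IH (LK LD1_c21 LD2_c4 LD3_c41) (LK LD1_c11 LD2_c59 LD3_c59) Lrfl Lrfl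
theorem f25467 : Led Lsl_bf (LP (LK LD1_c21 LD2_c4 LD3_c41)) = (LP (LK LD1_c12 LD2_c48 LD3_c36)) :=
  Lgr Lrot165 (Lpr_gt (f25461 IH) (Lpr_ct (f25433 IH) (Lpr_gt (f25432 IH) (Lpe (K16.f25431 IH) (Lpr_bt (f25430 IH) (Lpr_gt (K7.f25414 IH) (Lpe (K2.f25463 IH) (Lpr_ct (K1.f25464 IH) (Lpr_gt (K34.f25465 IH) (Lpe (f25466 IH) (Lpn (LP (LK LD1_c12 LD2_c48 LD3_c36)))))))))))))
theorem f25469 : Led Lsl_bt (LP (LK LD1_c21 LD2_c4 LD3_c41)) = (LP (LK LD1_c12 LD2_c48 LD3_c36)) :=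
  Lgr Lrot127 (Lpr_bf (f25467 IH) (Lpn (LP (LK LD1_c12 LD2_c48 LD3_c36))))
theorem f82797 : Led Lsl_ct (LP (LK LD1_c4 LD2_c42 LD3_c24)) = (LP (LK LD1_c9 LD2_c19 LD3_c7)) :=
  Lre_c IH (LK LD1_c4 LD2_c42 LD3_c24) (LK LD1_c9 LD2_c19 LD3_c7) Lrfl Lrfl
theorem f154451 : Led Lsl_gt (LP (LK LD1_c17 LD2_c14 LD3_c32)) = (LP (LK LD1_c9 LD2_c19 LD3_c7)) :=
  Lre_g IH (LK LD1_c17 LD2_c14 LD3_c32) (LK LD1_c9 LD2_c19 LD3_c7) Lrfl Lrfl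
theorem f783776 : Led Lsl_ct (LP (LK LD1_c21 LD2_c4 LD3_c41)) = (LP (LK LD1_c17 LD2_c14 LD3_c32)) :=
  Lgr Lrot64 (Lpr_bt (f25469 IH) (Lpe (f783774 IH) (Lpe (f135562 IH) (Lpr_ct (f135570 IH) (Lpr_gf (f783772 IH) (Lpe (f135593 IH) (Lpr_gf (f783068 IH) (Lpe (f82811 IH) (Lpr_ct (f82797 IH) (Lpe (f154451 IH) (Lpn (LP (LK LD1_c17 LD2_c14 LD3_c32)))))))))))))
theorem f131351 : Led Lsl_ct (LP (LK LD1_c9 LD2_c19 LD3_c7)) = (LP (LK LD1_c4 LD2_c42 LD3_c24)) :=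
  Lre_c IH (LK LD1_c9 LD2_c19 LD3_c7) (LK LD1_c4 LD2_c42 LD3_c24) Lrfl Lrfl
theorem f155029 : Led Lsl_ct (LP (LK LD1_c6 LD2_c23 LD3_c29)) = (LP (LK LD1_c12 LD2_c20 LD3_c20)) :=
  Lre_c IH (LK LD1_c6 LD2_c23 LD3_c29) (LK LD1_c12 LD2_c20 LD3_c20) Lrfl Lrfl
theorem f783138 : Led Lsl_ff (LP (LK LD1_c9 LD2_c19 LD3_c7)) = (LP (LK LD1_c12 LD2_c20 LD3_c20)) :=
  Lgr Lrot23 (Lpr_ct (f131351 IH) (Lpq (f783070 IH) (Lpe (f762585 IH) (Lpr_ct (f155029 IH) (Lpn (LP (LK LD1_c12 LD2_c20 LD3_c20)))))))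
theorem f783147 : Led Lsl_ft (LP (LK LD1_c9 LD2_c19 LD3_c7)) = (LP (LK LD1_c12 LD2_c20 LD3_c20)) :=
  Lgr Lrot48 (Lpr_ff (f783138 IH) (Lpn (LP (LK LD1_c12 LD2_c20 LD3_c20))))
theorem f154626 : Led Lsl_et (LP (LK LD1_c9 LD2_c19 LD3_c11)) = (LP (LK LD1_c4 LD2_c42 LD3_c25)) :=
  Lre_e IH (LK LD1_c9 LD2_c19 LD3_c11) (LK LD1_c4 LD2_c42 LD3_c25) Lrfl Lrfl
def v13290 : LQ := Led Lsl_ft (LP (LK LD1_c4 LD2_c42 LD3_c24))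
theorem f702176 : Led Lsl_ft (LP (LK LD1_c4 LD2_c42 LD3_c24)) = v13290 :=
  Lrfl
theorem f702178 : Led Lsl_ff (LP (LK LD1_c4 LD2_c42 LD3_c24)) = v13290 :=
  Lgr Lrot3 (Lpr_ft (f702176 IH) (Lpn v13290))
theorem f702179 : Led Lsl_at (LP (LK LD1_c4 LD2_c42 LD3_c25)) = v13290 :=
  Lgr Lrot66 (Lpr_ff (f702171 IH) (Lpe (f702167 IH) (Lpr_ff (f702178 IH) (Lpn v13290))))
theorem f783077 : (LP (LK LD1_c6 LD2_c23 LD3_c29)) = v13290 :=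
  Lefun (Lecon (Lfl_ff (f762585 IH)) (f783070 IH)) (f702176 IH)
theorem f153925 : Led Lsl_et (LP (LK LD1_c6 LD2_c23 LD3_c29)) = (LP (LK LD1_c12 LD2_c20 LD3_c21)) :=
  Lre_e IH (LK LD1_c6 LD2_c23 LD3_c29) (LK LD1_c12 LD2_c20 LD3_c21) Lrfl Lrfl
theorem f783114 : Led Lsl_af (LP (LK LD1_c9 LD2_c19 LD3_c11)) = (LP (LK LD1_c12 LD2_c20 LD3_c21)) :=
  Lgr Lrot50 (Lpr_et (f154626 IH) (Lpr_at (f702179 IH) (Lpq (f783077 IH) (Lpr_et (f153925 IH) (Lpn (LP (LK LD1_c12 LD2_c20 LD3_c21)))))))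
theorem f783121 : Led Lsl_ct (LP (LK LD1_c9 LD2_c19 LD3_c11)) = (LP (LK LD1_c17 LD2_c14 LD3_c40)) :=
  Lre_c IH (LK LD1_c9 LD2_c19 LD3_c11) (LK LD1_c17 LD2_c14 LD3_c40) Lrfl Lrfl
theorem f783012 : Led Lsl_ct (LP (LK LD1_c21 LD2_c26 LD3_c38)) = (LP (LK LD1_c12 LD2_c20 LD3_c21)) :=
  Lre_c IH (LK LD1_c21 LD2_c26 LD3_c38) (LK LD1_c12 LD2_c20 LD3_c21) Lrfl Lrfl
theorem f783122 : Led Lsl_at (LP (LK LD1_c17 LD2_c14 LD3_c40)) = (LP (LK LD1_c21 LD2_c26 LD3_c38)) :=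
  Lgr Lrot107 (Lpe (f783121 IH) (Lpr_af (f783114 IH) (Lpe (f783012 IH) (Lpn (LP (LK LD1_c21 LD2_c26 LD3_c38))))))
theorem f783107 : Led Lsl_et (LP (LK LD1_c9 LD2_c19 LD3_c10)) = (LP (LK LD1_c17 LD2_c14 LD3_c40)) :=
  Lre_e IH (LK LD1_c9 LD2_c19 LD3_c10) (LK LD1_c17 LD2_c14 LD3_c40) Lrfl Lrfl
theorem f782998 : Led Lsl_et (LP (LK LD1_c21 LD2_c26 LD3_c38)) = (LP (LK LD1_c12 LD2_c20 LD3_c20)) :=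
  Lre_e IH (LK LD1_c21 LD2_c26 LD3_c38) (LK LD1_c12 LD2_c20 LD3_c20) Lrfl Lrfl
theorem f783126 : Led Lsl_af (LP (LK LD1_c9 LD2_c19 LD3_c10)) = (LP (LK LD1_c12 LD2_c20 LD3_c20)) :=
  Lgr Lrot50 (Lpr_et (f783107 IH) (Lpr_at (f783122 IH) (Lpr_et (f782998 IH) (Lpn (LP (LK LD1_c12 LD2_c20 LD3_c20))))))
theorem f153922 : Led Lsl_ct (LP (LK LD1_c12 LD2_c20 LD3_c31)) = (LP (LK LD1_c6 LD2_c23 LD3_c34)) :=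
  Lre_c IH (LK LD1_c12 LD2_c20 LD3_c31) (LK LD1_c6 LD2_c23 LD3_c34) Lrfl Lrfl
theorem f154621 : Led Lsl_ct (LP (LK LD1_c4 LD2_c42 LD3_c25)) = (LP (LK LD1_c9 LD2_c19 LD3_c10)) :=
  Lre_c IH (LK LD1_c4 LD2_c42 LD3_c25) (LK LD1_c9 LD2_c19 LD3_c10) Lrfl Lrfl
theorem f783108 : Led Lsl_ff (LP (LK LD1_c12 LD2_c20 LD3_c31)) = (LP (LK LD1_c9 LD2_c19 LD3_c10)) :=
  Lgr Lrot23 (Lpr_ct (f153922 IH) (Lpqs (f783071 IH) (Lpe (f702171 IH) (Lpr_ct (f154621 IH) (Lpn (LP (LK LD1_c9 LD2_c19 LD3_c10)))))))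
theorem f783149 : Led Lsl_af (LP (LK LD1_c9 LD2_c19 LD3_c7)) = (LP (LK LD1_c12 LD2_c20 LD3_c31)) :=
  Lgr Lrot45 (Lpr_ft (f783147 IH) (Lpe (f783126 IH) (Lpe (f783108 IH) (Lpn (LP (LK LD1_c12 LD2_c20 LD3_c31))))))
theorem f783160 : Led Lsl_gf (LP (LK LD1_c17 LD2_c14 LD3_c32)) = (LP (LK LD1_c9 LD2_c19 LD3_c10)) :=
  Lgr Lrot47 (Lpr_gt (f154451 IH) (Lpr_af (f783149 IH) (Lpr_ff (f783108 IH) (Lpn (LP (LK LD1_c9 LD2_c19 LD3_c10))))))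
theorem f67098 : Led Lsl_gt (LP (LK LD1_c3 LD2_c9 LD3_c23)) = (LP (LK LD1_c1 LD2_c30 LD3_c50)) :=
  Lre_g IH (LK LD1_c3 LD2_c9 LD3_c23) (LK LD1_c1 LD2_c30 LD3_c50) Lrfl Lrfl
theorem f67099 : Led Lsl_bt (LP (LK LD1_c6 LD2_c23 LD3_c32)) = (LP (LK LD1_c3 LD2_c9 LD3_c23)) :=
  Lre_b IH (LK LD1_c6 LD2_c23 LD3_c32) (LK LD1_c3 LD2_c9 LD3_c23) Lrfl Lrfl
theorem f67100 : Led Lsl_ct (LP (LK LD1_c6 LD2_c23 LD3_c32)) = (LP (LK LD1_c12 LD2_c20 LD3_c27)) :=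
  Lre_c IH (LK LD1_c6 LD2_c23 LD3_c32) (LK LD1_c12 LD2_c20 LD3_c27) Lrfl Lrfl
theorem f67101 : Led Lsl_ct (LP (LK LD1_c6 LD2_c18 LD3_c56)) = (LP (LK LD1_c12 LD2_c13 LD3_c40)) :=
  Lre_c IH (LK LD1_c6 LD2_c18 LD3_c56) (LK LD1_c12 LD2_c13 LD3_c40) Lrfl Lrfl
theorem f67102 : Led Lsl_gf (LP (LK LD1_c12 LD2_c20 LD3_c27)) = (LP (LK LD1_c12 LD2_c13 LD3_c40)) :=
  Lgr Lrot129 (Lpe (f67100 IH) (Lpr_bt (f67099 IH) (Lpr_gt (f67098 IH) (Lpe (K16.f67097 IH) (Lpr_ct (K2.f67085 IH) (Lpr_gt (K1.f67079 IH) (Lpe (K2.f25060 IH) (Lpr_bt (K2.f67092 IH) (Lpr_gt (K2.f67093 IH) (Lpr_ct (f67101 IH) (Lpn (LP (LK LD1_c12 LD2_c13 LD3_c40)))))))))))))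
theorem f67126 : Led Lsl_bt (LP (LK LD1_c6 LD2_c18 LD3_c56)) = (LP (LK LD1_c12 LD2_c13 LD3_c39)) :=
  Lre_b IH (LK LD1_c6 LD2_c18 LD3_c56) (LK LD1_c12 LD2_c13 LD3_c39) Lrfl Lrfl
theorem f67127 : Led Lsl_gt (LP (LK LD1_c21 LD2_c19 LD3_c43)) = (LP (LK LD1_c12 LD2_c13 LD3_c39)) :=
  Lre_g IH (LK LD1_c21 LD2_c19 LD3_c43) (LK LD1_c12 LD2_c13 LD3_c39) Lrfl Lrfl
theorem f67128 : Led Lsl_bt (LP (LK LD1_c12 LD2_c16 LD3_c5)) = (LP (LK LD1_c21 LD2_c19 LD3_c43)) :=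
  Lgr Lrot22 (Lpr_ct (K57.f67125 IH) (Lpe (K57.f67124 IH) (Lpe (f67123 IH) (Lpe (f67098 IH) (Lpe (f67099 IH) (Lpr_ct (f67100 IH) (Lpr_gf (f67102 IH) (Lpe (f67101 IH) (Lpr_bt (f67126 IH) (Lpe (f67127 IH) (Lpn (LP (LK LD1_c21 LD2_c19 LD3_c43)))))))))))))
theorem f783785 : Led Lsl_gt (LP (LK LD1_c12 LD2_c48 LD3_c36)) = (LP (LK LD1_c21 LD2_c19 LD3_c43)) :=
  Lgr Lrot164 (Lpe (f25469 IH) (Lpr_ct (f783776 IH) (Lpr_gf (f783160 IH) (Lpe (f154621 IH) (Lpe (K57.f154619 IH) (Lpr_bf (K16.f154495 IH) (Lpr_ct (K57.f761270 IH) (Lpe (K57.f761265 IH) (Lpe (K57.f67125 IH) (Lpr_bt (f67128 IH) (Lpn (LP (LK LD1_c21 LD2_c19 LD3_c43)))))))))))))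
theorem f783786 : Led Lsl_gt (LP (LK LD1_c12 LD2_c48 LD3_c36)) = (LP (LK LD1_c21 LD2_c19 LD3_c43)) :=
  Leop (Lpe (f783785 IH) (Lpn (LP (LK LD1_c12 LD2_c48 LD3_c36))))
theorem seed_1491 : LEOK LG_g (LK LD1_c12 LD2_c48 LD3_c36) :=
  Leoe_g (LK LD1_c12 LD2_c48 LD3_c36) (f783786 IH)
def v19969 : LQ := Led Lsl_et (LP (LK LD1_c6 LD2_c49 LD3_c7))
theorem f784046 : Led Lsl_et (LP (LK LD1_c6 LD2_c49 LD3_c7)) = v19969 :=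
  Lrfl
theorem f784049 : Led Lsl_cf K51.v5764 = v19969 :=
  Lgr Lrot39 (Lpe (K51.f649261 IH) (Lpr_ct (K46.f76966 IH) (Lpr_et (f784046 IH) (Lpn v19969))))
theorem f715904 : Led Lsl_bt (LP (LK LD1_c21 LD2_c35 LD3_c32)) = (LP (LK LD1_c12 LD2_c28 LD3_c46)) :=
  Lre_b IH (LK LD1_c21 LD2_c35 LD3_c32) (LK LD1_c12 LD2_c28 LD3_c46) Lrfl Lrfl
theorem f772279 : Led Lsl_ft (LP (LK LD1_c12 LD2_c28 LD3_c46)) = (LP (LK LD1_c6 LD2_c41 LD3_c0)) :=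
  Lgr Lrot48 (Lpr_ff (K59.f772275 IH) (Lpn (LP (LK LD1_c6 LD2_c41 LD3_c0))))
theorem f651603 : Led Lsl_bt (LP (LK LD1_c6 LD2_c41 LD3_c0)) = (LP (LK LD1_c12 LD2_c47 LD3_c22)) :=
  Lre_b IH (LK LD1_c6 LD2_c41 LD3_c0) (LK LD1_c12 LD2_c47 LD3_c22) Lrfl Lrfl
theorem f772295 : Led Lsl_ff (LP (LK LD1_c21 LD2_c35 LD3_c32)) = (LP (LK LD1_c12 LD2_c47 LD3_c22)) :=
  Lgr Lrot25 (Lpr_bt (f715904 IH) (Lpr_ft (f772279 IH) (Lpr_bt (f651603 IH) (Lpn (LP (LK LD1_c12 LD2_c47 LD3_c22))))))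
theorem f650665 : Led Lsl_ct (LP (LK LD1_c6 LD2_c41 LD3_c5)) = (LP (LK LD1_c12 LD2_c47 LD3_c22)) :=
  Lre_c IH (LK LD1_c6 LD2_c41 LD3_c5) (LK LD1_c12 LD2_c47 LD3_c22) Lrfl Lrfl
theorem f772297 : Led Lsl_ct (LP (LK LD1_c21 LD2_c35 LD3_c32)) = (LP (LK LD1_c12 LD2_c47 LD3_c35)) :=
  Lgr Lrot40 (Lpr_ff (f772295 IH) (Lpe (f650665 IH) (Lpe (K52.f624185 IH) (Lpn (LP (LK LD1_c12 LD2_c47 LD3_c35))))))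
theorem f509048 : Led Lsl_gt (LP (LK LD1_c21 LD2_c54 LD3_c48)) = (LP (LK LD1_c12 LD2_c47 LD3_c35)) :=
  Lre_g IH (LK LD1_c21 LD2_c54 LD3_c48) (LK LD1_c12 LD2_c47 LD3_c35) Lrfl Lrfl
theorem f784048 : Led Lsl_bf (LP (LK LD1_c9 LD2_c31 LD3_c34)) = v19969 :=
  Lgr Lrot96 (Lpr_et (K55.f77071 IH) (Lpe (K49.f76932 IH) (Lpr_et (f784046 IH) (Lpn v19969))))
theorem f507771 : Led Lsl_gt (LP (LK LD1_c9 LD2_c31 LD3_c34)) = (LP (LK LD1_c17 LD2_c33 LD3_c28)) :=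
  Lre_g IH (LK LD1_c9 LD2_c31 LD3_c34) (LK LD1_c17 LD2_c33 LD3_c28) Lrfl Lrfl
theorem f755872 : Led Lsl_bt (LP (LK LD1_c27 LD2_c22 LD3_c11)) = (LP (LK LD1_c17 LD2_c33 LD3_c28)) :=
  Lre_b IH (LK LD1_c27 LD2_c22 LD3_c11) (LK LD1_c17 LD2_c33 LD3_c28) Lrfl Lrfl
theorem f784058 : Led Lsl_cf (LP (LK LD1_c21 LD2_c54 LD3_c48)) = (LP (LK LD1_c27 LD2_c22 LD3_c11)) :=
  Lgr Lrot160 (Lpr_gt (f509048 IH) (Lpe (f772297 IH) (Lpr_bt (f715904 IH) (Lpr_gt (K59.f715903 IH) (Lpe (K59.f677723 IH) (Lpr_gt (K51.f649097 IH) (Lpqs (K51.f707856 IH) (Lpr_cf (f784049 IH) (Lpe (f784048 IH) (Lpr_gt (f507771 IH) (Lpe (f755872 IH) (Lpn (LP (LK LD1_c27 LD2_c22 LD3_c11))))))))))))))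
theorem f784059 : Led Lsl_ct (LP (LK LD1_c27 LD2_c22 LD3_c11)) = (LP (LK LD1_c21 LD2_c54 LD3_c48)) :=
  Leop (Lpr_cf (f784058 IH) (Lpn (LP (LK LD1_c27 LD2_c22 LD3_c11))))
theorem seed_1492 : LEOK LG_c (LK LD1_c27 LD2_c22 LD3_c11) :=
  Leoe_c (LK LD1_c27 LD2_c22 LD3_c11) (f784059 IH)
def v19972 : LQ := Led Lsl_bt (LP (LK LD1_c6 LD2_c49 LD3_c12))
theorem f784073 : Led Lsl_bt (LP (LK LD1_c6 LD2_c49 LD3_c12)) = v19972 :=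
  Lrfl
theorem f84564 : Led Lsl_ct (LP (LK LD1_c6 LD2_c48 LD3_c37)) = (LP (LK LD1_c12 LD2_c59 LD3_c34)) :=
  Lre_c IH (LK LD1_c6 LD2_c48 LD3_c37) (LK LD1_c12 LD2_c59 LD3_c34) Lrfl Lrfl
theorem f113259 : Led Lsl_gt (LP (LK LD1_c3 LD2_c22 LD3_c49)) = (LP (LK LD1_c6 LD2_c49 LD3_c12)) :=
  Lre_g IH (LK LD1_c3 LD2_c22 LD3_c49) (LK LD1_c6 LD2_c49 LD3_c12) Lrfl Lrfl
theorem f145950 : Led Lsl_gt (LP (LK LD1_c6 LD2_c49 LD3_c12)) = (LP (LK LD1_c6 LD2_c48 LD3_c37)) :=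
  Lgr Lrot46 (Lpe (f113259 IH) (Lpr_ft (K6.f145858 IH) (Lpr_at (K6.f84547 IH) (Lpn (LP (LK LD1_c6 LD2_c48 LD3_c37))))))
theorem f783019 : Led Lsl_df (LP (LK LD1_c6 LD2_c49 LD3_c12)) = (LP (LK LD1_c9 LD2_c33 LD3_c3)) :=
  Lgr Lrot155 (Lpr_gt (f145950 IH) (Lpr_ct (f84564 IH) (Lpe (f145872 IH) (Lpr_ct (f783003 IH) (Lpr_dt (f438860 IH) (Lpe (f86429 IH) (Lpr_gf (f438849 IH) (Lpe (K5.f24909 IH) (Lpe (f438847 IH) (Lpn (LP (LK LD1_c9 LD2_c33 LD3_c3))))))))))))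
theorem f784075 : Led Lsl_df (LP (LK LD1_c17 LD2_c13 LD3_c37)) = v19972 :=
  Lgr Lrot12 (Lpr_bt (f86036 IH) (Lpe (f783019 IH) (Lpr_bt (f784073 IH) (Lpn v19972))))
theorem f653581 : Led Lsl_at (LP (LK LD1_c3 LD2_c22 LD3_c33)) = v6481 :=
  Lgr Lrot66 (Lpr_ff (f653575 IH) (Lpe (f653571 IH) (Lpr_ff (f653580 IH) (Lpn v6481))))
theorem f84139 : Led Lsl_bt (LP (LK LD1_c6 LD2_c13 LD3_c1)) = (LP (LK LD1_c12 LD2_c4 LD3_c59)) :=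
  Lre_b IH (LK LD1_c6 LD2_c13 LD3_c1) (LK LD1_c12 LD2_c4 LD3_c59) Lrfl Lrfl
theorem f84146 : Led Lsl_at (LP (LK LD1_c12 LD2_c4 LD3_c59)) = (LP (LK LD1_c21 LD2_c10 LD3_c11)) :=
  Lre_a IH (LK LD1_c12 LD2_c4 LD3_c59) (LK LD1_c21 LD2_c10 LD3_c11) Lrfl Lrfl
theorem f783855 : Led Lsl_bf (LP (LK LD1_c13 LD2_c0 LD3_c16)) = (LP (LK LD1_c21 LD2_c10 LD3_c11)) :=
  Lgr Lrot81 (Lpr_at (f653583 IH) (Lpr_bt (f25425 IH) (Lpr_at (f653581 IH) (Lpqs (f783354 IH) (Lpr_bt (f84139 IH) (Lpr_at (f84146 IH) (Lpn (LP (LK LD1_c21 LD2_c10 LD3_c11)))))))))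
theorem f765827 : Led Lsl_af (LP (LK LD1_c11 LD2_c59 LD3_c52)) = (LP (LK LD1_c12 LD2_c20 LD3_c13)) :=
  Lgr Lrot68 (Lpr_ct (f765825 IH) (Lpr_at (f765806 IH) (Lpr_ct (f86424 IH) (Lpn (LP (LK LD1_c12 LD2_c20 LD3_c13))))))
theorem f24763 : Led Lsl_gt (LP (LK LD1_c11 LD2_c59 LD3_c53)) = (LP (LK LD1_c6 LD2_c9 LD3_c26)) :=
  Lre_g IH (LK LD1_c11 LD2_c59 LD3_c53) (LK LD1_c6 LD2_c9 LD3_c26) Lrfl Lrfl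
theorem f765918 : Led Lsl_ft (LP (LK LD1_c11 LD2_c59 LD3_c53)) = (LP (LK LD1_c12 LD2_c20 LD3_c13)) :=
  Lgr Lrot2 (Lpr_gt (f24763 IH) (Lpr_gt (f24765 IH) (Lpr_af (f765827 IH) (Lpn (LP (LK LD1_c12 LD2_c20 LD3_c13))))))
theorem f765922 : Led Lsl_cf (LP (LK LD1_c11 LD2_c59 LD3_c53)) = (LP (LK LD1_c12 LD2_c20 LD3_c16)) :=
  Lgr Lrot108 (Lpr_ft (f765918 IH) (Lpr_ct (f86429 IH) (Lpr_ft (f762546 IH) (Lpn (LP (LK LD1_c12 LD2_c20 LD3_c16))))))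
theorem f83435 : Led Lsl_gt (LP (LK LD1_c6 LD2_c27 LD3_c38)) = (LP (LK LD1_c12 LD2_c26 LD3_c39)) :=
  Lre_g IH (LK LD1_c6 LD2_c27 LD3_c38) (LK LD1_c12 LD2_c26 LD3_c39) Lrfl Lrfl
theorem f783861 : Led Lsl_cf (LP (LK LD1_c12 LD2_c26 LD3_c39)) = (LP (LK LD1_c21 LD2_c10 LD3_c11)) :=
  Lgr Lrot58 (Lpe (f83435 IH) (Lpe (K2.f67544 IH) (Lpr_bt (K2.f67404 IH) (Lpe (K2.f84105 IH) (Lpe (K5.f24700 IH) (Lpr_ct (f24715 IH) (Lpe (f24763 IH) (Lpr_cf (f765922 IH) (Lpe (f783739 IH) (Lpr_bf (f783855 IH) (Lpn (LP (LK LD1_c21 LD2_c10 LD3_c11)))))))))))))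
theorem f83425 : Led Lsl_at (LP (LK LD1_c6 LD2_c23 LD3_c12)) = (LP (LK LD1_c12 LD2_c19 LD3_c52)) :=
  Lre_a IH (LK LD1_c6 LD2_c23 LD3_c12) (LK LD1_c12 LD2_c19 LD3_c52) Lrfl Lrfl
theorem f83436 : Led Lsl_gt (LP (LK LD1_c12 LD2_c26 LD3_c39)) = (LP (LK LD1_c12 LD2_c19 LD3_c52)) :=
  Lgr Lrot46 (Lpe (f83435 IH) (Lpr_ft (K2.f83418 IH) (Lpr_at (f83425 IH) (Lpn (LP (LK LD1_c12 LD2_c19 LD3_c52))))))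
theorem f67542 : Led Lsl_ct (LP (LK LD1_c12 LD2_c13 LD3_c25)) = (LP (LK LD1_c6 LD2_c18 LD3_c58)) :=
  Lre_c IH (LK LD1_c12 LD2_c13 LD3_c25) (LK LD1_c6 LD2_c18 LD3_c58) Lrfl Lrfl
theorem f783868 : Led Lsl_gt (LP (LK LD1_c12 LD2_c20 LD3_c28)) = (LP (LK LD1_c21 LD2_c10 LD3_c11)) :=
  Lgr Lrot9 (Lpe (f67119 IH) (Lpr_gt (K57.f67117 IH) (Lpe (K57.f762563 IH) (Lpe (K57.f67599 IH) (Lpr_ct (f67542 IH) (Lpr_df (K2.f83354 IH) (Lpe (K2.f83359 IH) (Lpe (f83436 IH) (Lpr_cf (f783861 IH) (Lpn (LP (LK LD1_c21 LD2_c10 LD3_c11))))))))))))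
theorem f762537 : Led Lsl_bt (LP (LK LD1_c6 LD2_c23 LD3_c34)) = (LP (LK LD1_c12 LD2_c20 LD3_c28)) :=
  Lre_b IH (LK LD1_c6 LD2_c23 LD3_c34) (LK LD1_c12 LD2_c20 LD3_c28) Lrfl Lrfl
theorem f153923 : Led Lsl_ct (LP (LK LD1_c6 LD2_c23 LD3_c34)) = (LP (LK LD1_c12 LD2_c20 LD3_c31)) :=
  Lre_c IH (LK LD1_c6 LD2_c23 LD3_c34) (LK LD1_c12 LD2_c20 LD3_c31) Lrfl Lrfl
def v17877 : LQ := Led Lsl_gf (LP (LK LD1_c6 LD2_c23 LD3_c29))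
theorem f762577 : Led Lsl_gf (LP (LK LD1_c6 LD2_c23 LD3_c29)) = v17877 :=
  Lrfl
theorem f762578 : Led Lsl_gt (LP (LK LD1_c6 LD2_c23 LD3_c34)) = v17877 :=
  Lgr Lrot5 (Lpr_ft (f762538 IH) (Lpe (f762534 IH) (Lpr_gf (f762577 IH) (Lpn v17877))))
theorem f782950 : (LP (LK LD1_c3 LD2_c22 LD3_c30)) = v17877 :=
  Lefun (Lecon (Lfl_gt (f653565 IH)) (f782947 IH)) (f762577 IH)
theorem f25462 : Led Lsl_ct (LP (LK LD1_c6 LD2_c48 LD3_c48)) = (LP (LK LD1_c3 LD2_c22 LD3_c30)) :=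
  Lre_c IH (LK LD1_c6 LD2_c48 LD3_c48) (LK LD1_c3 LD2_c22 LD3_c30) Lrfl Lrfl
theorem f152642 : Led Lsl_bt (LP (LK LD1_c2 LD2_c18 LD3_c19)) = (LP (LK LD1_c1 LD2_c6 LD3_c19)) :=
  Lre_b IH (LK LD1_c2 LD2_c18 LD3_c19) (LK LD1_c1 LD2_c6 LD3_c19) Lrfl Lrfl
theorem f104635 : Led Lsl_ct (LP (LK LD1_c4 LD2_c41 LD3_c61)) = (LP (LK LD1_c2 LD2_c18 LD3_c19)) :=
  Lre_c IH (LK LD1_c4 LD2_c41 LD3_c61) (LK LD1_c2 LD2_c18 LD3_c19) Lrfl Lrfl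
theorem f152643 : Led Lsl_bt (LP (LK LD1_c6 LD2_c48 LD3_c48)) = (LP (LK LD1_c4 LD2_c41 LD3_c61)) :=
  Lgr Lrot128 (Lpe (K16.f25431 IH) (Lpe (f152641 IH) (Lpr_cf (K7.f152639 IH) (Lpe (f152642 IH) (Lpe (f104635 IH) (Lpn (LP (LK LD1_c4 LD2_c41 LD3_c61))))))))
theorem f104625 : Led Lsl_ct (LP (LK LD1_c2 LD2_c18 LD3_c19)) = (LP (LK LD1_c4 LD2_c41 LD3_c61)) :=
  Lre_c IH (LK LD1_c2 LD2_c18 LD3_c19) (LK LD1_c4 LD2_c41 LD3_c61) Lrfl Lrfl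
theorem f152637 : Led Lsl_gf (LP (LK LD1_c6 LD2_c28 LD3_c10)) = (LP (LK LD1_c4 LD2_c41 LD3_c61)) :=
  Lgr Lrot104 (Lpr_ct (K11.f120076 IH) (Lpe (K11.f79316 IH) (Lpe (K5.f24345 IH) (Lpe (K7.f131575 IH) (Lpe (K7.f82474 IH) (Lpr_gf (K58.f131583 IH) (Lpe (K6.f82439 IH) (Lpr_gt (K7.f152628 IH) (Lpr_ct (f104625 IH) (Lpn (LP (LK LD1_c4 LD2_c41 LD3_c61))))))))))))
theorem f125447 : Led Lsl_bt (LP (LK LD1_c12 LD2_c27 LD3_c38)) = (LP (LK LD1_c6 LD2_c28 LD3_c10)) :=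
  Lre_b IH (LK LD1_c12 LD2_c27 LD3_c38) (LK LD1_c6 LD2_c28 LD3_c10) Lrfl Lrfl
theorem f133717 : Led Lsl_gt (LP (LK LD1_c4 LD2_c47 LD3_c36)) = (LP (LK LD1_c3 LD2_c12 LD3_c2)) :=
  Lgr Lrot46 (Lpe (K5.f131323 IH) (Lpr_ft (K5.f133709 IH) (Lpe (K11.f133713 IH) (Lpn (LP (LK LD1_c3 LD2_c12 LD3_c2))))))
theorem f134048 : Led Lsl_bt (LP (LK LD1_c6 LD2_c9 LD3_c58)) = (LP (LK LD1_c3 LD2_c12 LD3_c2)) :=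
  Lgr Lrot92 (Lpr_ct (K5.f126718 IH) (Lpr_gt (K5.f134031 IH) (Lpe (K5.f67671 IH) (Lpe (K6.f79391 IH) (Lpr_gt (K5.f127036 IH) (Lpe (K5.f125304 IH) (Lpe (K5.f113590 IH) (Lpe (K4.f58121 IH) (Lpr_bt (K11.f113447 IH) (Lpr_gt (f133717 IH) (Lpn (LP (LK LD1_c3 LD2_c12 LD3_c2)))))))))))))
theorem f134000 : Led Lsl_bt (LP (LK LD1_c21 LD2_c5 LD3_c59)) = (LP (LK LD1_c12 LD2_c0 LD3_c46)) :=
  Lre_b IH (LK LD1_c21 LD2_c5 LD3_c59) (LK LD1_c12 LD2_c0 LD3_c46) Lrfl Lrfl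
theorem f125442 : Led Lsl_bt (LP (LK LD1_c6 LD2_c28 LD3_c10)) = (LP (LK LD1_c12 LD2_c27 LD3_c38)) :=
  Lre_b IH (LK LD1_c6 LD2_c28 LD3_c10) (LK LD1_c12 LD2_c27 LD3_c38) Lrfl Lrfl
theorem f134051 : Led Lsl_cf (LP (LK LD1_c21 LD2_c5 LD3_c59)) = (LP (LK LD1_c12 LD2_c27 LD3_c38)) :=
  Lgr Lrot97 (Lpr_bt (f134000 IH) (Lpr_ct (K5.f114546 IH) (Lpr_bt (f134048 IH) (Lpr_ct (K11.f125450 IH) (Lpr_bt (f125442 IH) (Lpn (LP (LK LD1_c12 LD2_c27 LD3_c38))))))))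
theorem f648053 : Led Lsl_ct (LP (LK LD1_c29 LD2_c58 LD3_c40)) = (LP (LK LD1_c21 LD2_c19 LD3_c49)) :=
  Lre_c IH (LK LD1_c29 LD2_c58 LD3_c40) (LK LD1_c21 LD2_c19 LD3_c49) Lrfl Lrfl
theorem f648054 : Led Lsl_bt (LP (LK LD1_c29 LD2_c58 LD3_c40)) = (LP (LK LD1_c21 LD2_c19 LD3_c47)) :=
  Lre_b IH (LK LD1_c29 LD2_c58 LD3_c40) (LK LD1_c21 LD2_c19 LD3_c47) Lrfl Lrfl
theorem f782966 : Led Lsl_gf (LP (LK LD1_c12 LD2_c20 LD3_c31)) = (LP (LK LD1_c21 LD2_c19 LD3_c47)) :=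
  Lgr Lrot181 (Lpr_ct (f153922 IH) (Lpr_gt (f762578 IH) (Lpq (f782950 IH) (Lpe (f25462 IH) (Lpr_bt (f152643 IH) (Lpe (f152637 IH) (Lpe (f125447 IH) (Lpe (f134051 IH) (Lpe (K46.f648049 IH) (Lpe (f648053 IH) (Lpr_bt (f648054 IH) (Lpn (LP (LK LD1_c21 LD2_c19 LD3_c47))))))))))))))
theorem f67951 : Led Lsl_ct (LP (LK LD1_c12 LD2_c13 LD3_c41)) = (LP (LK LD1_c21 LD2_c19 LD3_c47)) :=
  Lre_c IH (LK LD1_c12 LD2_c13 LD3_c41) (LK LD1_c21 LD2_c19 LD3_c47) Lrfl Lrfl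
theorem f783857 : Led Lsl_bt (LP (LK LD1_c13 LD2_c0 LD3_c16)) = (LP (LK LD1_c21 LD2_c10 LD3_c11)) :=
  Lgr Lrot127 (Lpr_bf (f783855 IH) (Lpn (LP (LK LD1_c21 LD2_c10 LD3_c11))))
theorem f783712 : Led Lsl_gt (LP (LK LD1_c22 LD2_c10 LD3_c32)) = (LP (LK LD1_c17 LD2_c35 LD3_c18)) :=
  Lgr Lrot5 (Lpe (f25504 IH) (Lpr_at (f783698 IH) (Lpe (f86055 IH) (Lpn (LP (LK LD1_c17 LD2_c35 LD3_c18))))))
theorem f86040 : Led Lsl_bf (LP (LK LD1_c17 LD2_c13 LD3_c37)) = (LP (LK LD1_c9 LD2_c33 LD3_c3)) :=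
  Lgr Lrot24 (Lpr_bt (f86036 IH) (Lpn (LP (LK LD1_c9 LD2_c33 LD3_c3))))
theorem f783872 : Led Lsl_gf (LP (LK LD1_c12 LD2_c13 LD3_c41)) = (LP (LK LD1_c17 LD2_c13 LD3_c37)) :=
  Lgr Lrot181 (Lpr_ct (f67951 IH) (Lpe (f782966 IH) (Lpe (f153923 IH) (Lpr_bt (f762537 IH) (Lpr_gt (f783868 IH) (Lpe (f783857 IH) (Lpr_ct (f25507 IH) (Lpr_gt (f783712 IH) (Lpe (f86045 IH) (Lpe (f86040 IH) (Lpn (LP (LK LD1_c17 LD2_c13 LD3_c37)))))))))))))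
theorem f784077 : Led Lsl_gf K57.v17861 = v19972 :=
  Lgr Lrot147 (Lpr_ct (K57.f762552 IH) (Lpr_gt (K57.f762562 IH) (Lpr_ct (K57.f504632 IH) (Lpe (f153926 IH) (Lpe (f153922 IH) (Lpr_gf (f782966 IH) (Lpe (f67951 IH) (Lpr_gf (f783872 IH) (Lpr_df (f784075 IH) (Lpn v19972))))))))))
theorem f67978 : Led Lsl_gt (LP (LK LD1_c6 LD2_c27 LD3_c60)) = (LP (LK LD1_c3 LD2_c11 LD3_c53)) :=
  Lre_g IH (LK LD1_c6 LD2_c27 LD3_c60) (LK LD1_c3 LD2_c11 LD3_c53) Lrfl Lrfl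
theorem f67982 : Led Lsl_bt (LP (LK LD1_c12 LD2_c27 LD3_c18)) = (LP (LK LD1_c6 LD2_c27 LD3_c60)) :=
  Lre_b IH (LK LD1_c12 LD2_c27 LD3_c18) (LK LD1_c6 LD2_c27 LD3_c60) Lrfl Lrfl
theorem f82798 : Led Lsl_gt (LP (LK LD1_c9 LD2_c19 LD3_c7)) = (LP (LK LD1_c17 LD2_c14 LD3_c31)) :=
  Lre_g IH (LK LD1_c9 LD2_c19 LD3_c7) (LK LD1_c17 LD2_c14 LD3_c31) Lrfl Lrfl
theorem f82799 : Led Lsl_cf (LP (LK LD1_c17 LD2_c14 LD3_c31)) = (LP (LK LD1_c12 LD2_c27 LD3_c18)) :=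
  Lgr Lrot163 (Lpe (f82798 IH) (Lpe (f82797 IH) (Lpe (f82796 IH) (Lpe (K3.f82795 IH) (Lpr_ct (K3.f82794 IH) (Lpr_gf (K3.f82789 IH) (Lpe (K2.f67362 IH) (Lpr_bt (K2.f67403 IH) (Lpe (f67978 IH) (Lpe (f67982 IH) (Lpn (LP (LK LD1_c12 LD2_c27 LD3_c18)))))))))))))
theorem f82812 : Led Lsl_gt (LP (LK LD1_c17 LD2_c14 LD3_c30)) = (LP (LK LD1_c9 LD2_c19 LD3_c6)) :=
  Lre_g IH (LK LD1_c17 LD2_c14 LD3_c30) (LK LD1_c9 LD2_c19 LD3_c6) Lrfl Lrfl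
theorem f762567 : Led Lsl_bf (LP (LK LD1_c17 LD2_c14 LD3_c30)) = (LP (LK LD1_c12 LD2_c20 LD3_c25)) :=
  Lgr Lrot156 (Lpr_gt (f82812 IH) (Lpe (f82811 IH) (Lpr_ct (f82797 IH) (Lpr_gt (f82798 IH) (Lpr_cf (f82799 IH) (Lpr_bt (f67982 IH) (Lpr_gt (f67978 IH) (Lpr_ct (K2.f67593 IH) (Lpr_gt (K57.f67598 IH) (Lpr_cf (K57.f762563 IH) (Lpn (LP (LK LD1_c12 LD2_c20 LD3_c25)))))))))))))
theorem f762569 : Led Lsl_bt (LP (LK LD1_c17 LD2_c14 LD3_c30)) = (LP (LK LD1_c12 LD2_c20 LD3_c25)) :=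
  Lgr Lrot127 (Lpr_bf (f762567 IH) (Lpn (LP (LK LD1_c12 LD2_c20 LD3_c25))))
theorem f135591 : Led Lsl_ct (LP (LK LD1_c6 LD2_c49 LD3_c12)) = (LP (LK LD1_c13 LD2_c0 LD3_c41)) :=
  Lre_c IH (LK LD1_c6 LD2_c49 LD3_c12) (LK LD1_c13 LD2_c0 LD3_c41) Lrfl Lrfl
theorem f135609 : Led Lsl_gt (LP (LK LD1_c22 LD2_c10 LD3_c57)) = (LP (LK LD1_c13 LD2_c0 LD3_c41)) :=
  Lre_g IH (LK LD1_c22 LD2_c10 LD3_c57) (LK LD1_c13 LD2_c0 LD3_c41) Lrfl Lrfl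
theorem f784080 : Led Lsl_ct (LP (LK LD1_c17 LD2_c14 LD3_c30)) = (LP (LK LD1_c22 LD2_c10 LD3_c57)) :=
  Lgr Lrot64 (Lpr_bt (f762569 IH) (Lpe (K57.f67117 IH) (Lpe (K57.f648127 IH) (Lpr_ct (K57.f153894 IH) (Lpe (K57.f762562 IH) (Lpe (K57.f762552 IH) (Lpr_gf (f784077 IH) (Lpe (f784073 IH) (Lpr_ct (f135591 IH) (Lpe (f135609 IH) (Lpn (LP (LK LD1_c22 LD2_c10 LD3_c57)))))))))))))
theorem f784081 : Led Lsl_ct (LP (LK LD1_c17 LD2_c14 LD3_c30)) = (LP (LK LD1_c22 LD2_c10 LD3_c57)) :=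
  Leop (Lpe (f784080 IH) (Lpn (LP (LK LD1_c17 LD2_c14 LD3_c30))))
theorem seed_1493 : LEOK LG_c (LK LD1_c17 LD2_c14 LD3_c30) :=
  Leoe_c (LK LD1_c17 LD2_c14 LD3_c30) (f784081 IH)
def v19997 : LQ := Led Lsl_gf (LP (LK LD1_c6 LD2_c49 LD3_c29))
theorem f784222 : Led Lsl_gf (LP (LK LD1_c6 LD2_c49 LD3_c29)) = v19997 :=
  Lrfl
theorem f94705 : Led Lsl_et (LP (LK LD1_c3 LD2_c22 LD3_c60)) = (LP (LK LD1_c6 LD2_c49 LD3_c29)) :=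
  Lre_e IH (LK LD1_c3 LD2_c22 LD3_c60) (LK LD1_c6 LD2_c49 LD3_c29) Lrfl Lrfl
theorem f94706 : Led Lsl_cf (LP (LK LD1_c3 LD2_c27 LD3_c17)) = (LP (LK LD1_c6 LD2_c49 LD3_c29)) :=
  Lgr Lrot39 (Lpr_et (K3.f94704 IH) (Lpr_ct (K2.f94695 IH) (Lpr_et (f94705 IH) (Lpn (LP (LK LD1_c6 LD2_c49 LD3_c29))))))
theorem f94711 : Led Lsl_ct (LP (LK LD1_c3 LD2_c27 LD3_c17)) = (LP (LK LD1_c6 LD2_c49 LD3_c29)) :=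
  Lgr Lrot59 (Lpr_cf (f94706 IH) (Lpn (LP (LK LD1_c6 LD2_c49 LD3_c29))))
theorem f782257 : Led Lsl_gt (LP (LK LD1_c6 LD2_c56 LD3_c30)) = v19809 :=
  Lgr Lrot5 (Lpr_ft (f715689 IH) (Lpr_at (f653345 IH) (Lpr_gf (f782256 IH) (Lpn v19809))))
theorem f739272 : Led Lsl_bf (LP (LK LD1_c6 LD2_c53 LD3_c27)) = (LP (LK LD1_c6 LD2_c47 LD3_c2)) :=
  Lgr Lrot24 (Lpr_bt (K54.f739268 IH) (Lpn (LP (LK LD1_c6 LD2_c47 LD3_c2))))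
theorem f91223 : Led Lsl_gt (LP (LK LD1_c13 LD2_c3 LD3_c8)) = (LP (LK LD1_c6 LD2_c51 LD3_c48)) :=
  Lre_g IH (LK LD1_c13 LD2_c3 LD3_c8) (LK LD1_c6 LD2_c51 LD3_c48) Lrfl Lrfl
theorem f102641 : Led Lsl_gt (LP (LK LD1_c6 LD2_c53 LD3_c27)) = (LP (LK LD1_c13 LD2_c3 LD3_c8)) :=
  Lgr Lrot5 (Lpr_ft (K4.f95218 IH) (Lpr_at (K4.f102521 IH) (Lpe (f91223 IH) (Lpn (LP (LK LD1_c13 LD2_c3 LD3_c8))))))
theorem f784223 : Led Lsl_ct (LP (LK LD1_c13 LD2_c3 LD3_c8)) = v19997 :=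
  Lgr Lrot91 (Lpe (f102641 IH) (Lpr_bf (f739272 IH) (Lpr_ct (K54.f705574 IH) (Lpe (K54.f739019 IH) (Lpr_cf (f739117 IH) (Lpr_bt (f782258 IH) (Lpe (f782257 IH) (Lpe (f94709 IH) (Lpr_ct (f94711 IH) (Lpr_gf (f784222 IH) (Lpn v19997)))))))))))
theorem f102500 : Led Lsl_gt (LP (LK LD1_c22 LD2_c12 LD3_c49)) = (LP (LK LD1_c13 LD2_c3 LD3_c9)) :=
  Lre_g IH (LK LD1_c22 LD2_c12 LD3_c49) (LK LD1_c13 LD2_c3 LD3_c9) Lrfl Lrfl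
theorem f102679 : Led Lsl_gt (LP (LK LD1_c13 LD2_c5 LD3_c52)) = (LP (LK LD1_c22 LD2_c12 LD3_c49)) :=
  Lgr Lrot5 (Lpr_ft (K4.f95215 IH) (Lpr_at (K4.f102667 IH) (Lpe (f102500 IH) (Lpn (LP (LK LD1_c22 LD2_c12 LD3_c49))))))
theorem f94723 : Led Lsl_gt (LP (LK LD1_c22 LD2_c23 LD3_c27)) = (LP (LK LD1_c13 LD2_c10 LD3_c53)) :=
  Lre_g IH (LK LD1_c22 LD2_c23 LD3_c27) (LK LD1_c13 LD2_c10 LD3_c53) Lrfl Lrfl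
theorem f784225 : Led Lsl_ct (LP (LK LD1_c22 LD2_c12 LD3_c49)) = (LP (LK LD1_c22 LD2_c23 LD3_c27)) :=
  Lgr Lrot152 (Lpe (f102679 IH) (Lpe (K4.f95216 IH) (Lpr_gt (f102641 IH) (Lpr_ct (f784223 IH) (Lpe (f784222 IH) (Lpe (f94706 IH) (Lpe (K3.f94720 IH) (Lpe (K3.f94722 IH) (Lpe (f94723 IH) (Lpn (LP (LK LD1_c22 LD2_c23 LD3_c27))))))))))))
theorem f784226 : Led Lsl_ct (LP (LK LD1_c22 LD2_c12 LD3_c49)) = (LP (LK LD1_c22 LD2_c23 LD3_c27)) :=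
  Leop (Lpe (f784225 IH) (Lpn (LP (LK LD1_c22 LD2_c12 LD3_c49))))
theorem seed_1494 : LEOK LG_c (LK LD1_c22 LD2_c12 LD3_c49) :=
  Leoe_c (LK LD1_c22 LD2_c12 LD3_c49) (f784226 IH)
def v20041 : LQ := Led Lsl_ft (LP (LK LD1_c6 LD2_c50 LD3_c0))
theorem f784483 : Led Lsl_ft (LP (LK LD1_c6 LD2_c50 LD3_c0)) = v20041 :=
  Lrfl
theorem f784487 : Led Lsl_ff (LP (LK LD1_c6 LD2_c50 LD3_c0)) = v20041 :=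
  Lgr Lrot3 (Lpr_ft (f784483 IH) (Lpn v20041))
theorem f90344 : Led Lsl_af (LP (LK LD1_c7 LD2_c48 LD3_c46)) = (LP (LK LD1_c6 LD2_c50 LD3_c0)) :=
  Lgr Lrot0 (Lpr_at (K3.f90322 IH) (Lpn (LP (LK LD1_c6 LD2_c50 LD3_c0))))
theorem f90497 : Led Lsl_gt (LP (LK LD1_c14 LD2_c44 LD3_c34)) = (LP (LK LD1_c7 LD2_c48 LD3_c46)) :=
  Lre_g IH (LK LD1_c14 LD2_c44 LD3_c34) (LK LD1_c7 LD2_c48 LD3_c46) Lrfl Lrfl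
theorem f784491 : Led Lsl_gf (LP (LK LD1_c14 LD2_c44 LD3_c34)) = v20041 :=
  Lgr Lrot47 (Lpr_gt (f90497 IH) (Lpr_af (f90344 IH) (Lpr_ff (f784487 IH) (Lpn v20041))))
def v19555 : LQ := Led Lsl_ft (LP (LK LD1_c6 LD2_c43 LD3_c46))
theorem f780658 : Led Lsl_ft (LP (LK LD1_c6 LD2_c43 LD3_c46)) = v19555 :=
  Lrfl
theorem f780661 : Led Lsl_ff (LP (LK LD1_c6 LD2_c43 LD3_c46)) = v19555 :=
  Lgr Lrot3 (Lpr_ft (f780658 IH) (Lpn v19555))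
theorem f780120 : Led Lsl_dt (LP (LK LD1_c12 LD2_c51 LD3_c56)) = (LP (LK LD1_c22 LD2_c1 LD3_c16)) :=
  Lre_d IH (LK LD1_c12 LD2_c51 LD3_c56) (LK LD1_c22 LD2_c1 LD3_c16) Lrfl Lrfl
theorem f780116 : Led Lsl_ct (LP (LK LD1_c22 LD2_c1 LD3_c16)) = (LP (LK LD1_c12 LD2_c52 LD3_c25)) :=
  Lgr Lrot59 (Lpr_cf (f780114 IH) (Lpn (LP (LK LD1_c12 LD2_c52 LD3_c25))))
theorem f766748 : Led Lsl_dt (LP (LK LD1_c12 LD2_c52 LD3_c25)) = (LP (LK LD1_c6 LD2_c43 LD3_c47)) :=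
  Lre_d IH (LK LD1_c12 LD2_c52 LD3_c25) (LK LD1_c6 LD2_c43 LD3_c47) Lrfl Lrfl
theorem f766745 : Led Lsl_ct (LP (LK LD1_c6 LD2_c43 LD3_c47)) = v18391 :=
  Lgr Lrot59 (Lpr_cf (f766744 IH) (Lpn v18391))
theorem f708002 : Led Lsl_et (LP (LK LD1_c12 LD2_c28 LD3_c34)) = (LP (LK LD1_c6 LD2_c29 LD3_c6)) :=
  Lre_e IH (LK LD1_c12 LD2_c28 LD3_c34) (LK LD1_c6 LD2_c29 LD3_c6) Lrfl Lrfl
theorem f772240 : Led Lsl_dt (LP (LK LD1_c12 LD2_c28 LD3_c34)) = (LP (LK LD1_c14 LD2_c44 LD3_c34)) :=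
  Lgr Lrot136 (Lpr_et (f708002 IH) (Lpr_gf (K58.f766660 IH) (Lpq (K59.f772229 IH) (Lpe (K2.f85152 IH) (Lpr_dt (K2.f66444 IH) (Lpr_gf (K5.f104166 IH) (Lpe (K4.f120180 IH) (Lpr_gf (K5.f120189 IH) (Lpe (K59.f90489 IH) (Lpe (K59.f90346 IH) (Lpe (f90497 IH) (Lpn (LP (LK LD1_c14 LD2_c44 LD3_c34))))))))))))))
theorem f766742 : Led Lsl_df (LP (LK LD1_c6 LD2_c29 LD3_c9)) = v18391 :=
  Lgr Lrot38 (Lpr_dt (f766740 IH) (Lpn v18391))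
theorem f772242 : Led Lsl_af v18391 = (LP (LK LD1_c14 LD2_c44 LD3_c34)) :=
  Lgr Lrot117 (Lpe (f766742 IH) (Lpr_at (K52.f649128 IH) (Lpr_dt (f772240 IH) (Lpn (LP (LK LD1_c14 LD2_c44 LD3_c34))))))
theorem f780191 : Led Lsl_ff (LP (LK LD1_c14 LD2_c44 LD3_c34)) = (LP (LK LD1_c12 LD2_c52 LD3_c22)) :=
  Lgr Lrot103 (Lpe (f772242 IH) (Lpe (f766745 IH) (Lpe (f766748 IH) (Lpe (f780116 IH) (Lpe (f780120 IH) (Lpe (f57477 IH) (Lpe (f652548 IH) (Lpr_cf (f780127 IH) (Lpr_df (f780184 IH) (Lpn (LP (LK LD1_c12 LD2_c52 LD3_c22))))))))))))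
theorem f780663 : Led Lsl_ct (LP (LK LD1_c14 LD2_c44 LD3_c34)) = v19555 :=
  Lgr Lrot40 (Lpr_ff (f780191 IH) (Lpe (f708818 IH) (Lpr_ff (f780661 IH) (Lpn v19555))))
theorem f90490 : Led Lsl_ft (LP (LK LD1_c3 LD2_c23 LD3_c21)) = (LP (LK LD1_c6 LD2_c50 LD3_c1)) :=
  Lre_f IH (LK LD1_c3 LD2_c23 LD3_c21) (LK LD1_c6 LD2_c50 LD3_c1) Lrfl Lrfl
theorem f784490 : Led Lsl_dt (LP (LK LD1_c6 LD2_c50 LD3_c1)) = v20041 :=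
  Lgr Lrot60 (Lpe (f90490 IH) (Lpe (K3.f83899 IH) (Lpr_ff (f784487 IH) (Lpn v20041))))
def v19503 : LQ := Led Lsl_ct (LP (LK LD1_c6 LD2_c43 LD3_c15))
theorem f780074 : Led Lsl_ct (LP (LK LD1_c6 LD2_c43 LD3_c15)) = v19503 :=
  Lrfl
theorem f57216 : Led Lsl_ct (LP (LK LD1_c11 LD2_c25 LD3_c53)) = (LP (LK LD1_c5 LD2_c48 LD3_c8)) :=
  Lre_c IH (LK LD1_c11 LD2_c25 LD3_c53) (LK LD1_c5 LD2_c48 LD3_c8) Lrfl Lrfl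
theorem f152546 : Led Lsl_bt (LP (LK LD1_c17 LD2_c4 LD3_c48)) = (LP (LK LD1_c9 LD2_c11 LD3_c17)) :=
  Lre_b IH (LK LD1_c17 LD2_c4 LD3_c48) (LK LD1_c9 LD2_c11 LD3_c17) Lrfl Lrfl
theorem f93669 : Led Lsl_bt (LP (LK LD1_c6 LD2_c35 LD3_c39)) = (LP (LK LD1_c3 LD2_c16 LD3_c12)) :=
  Lre_b IH (LK LD1_c6 LD2_c35 LD3_c39) (LK LD1_c3 LD2_c16 LD3_c12) Lrfl Lrfl
theorem f128818 : Led Lsl_et (LP (LK LD1_c12 LD2_c28 LD3_c3)) = (LP (LK LD1_c6 LD2_c28 LD3_c40)) :=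
  Lre_e IH (LK LD1_c12 LD2_c28 LD3_c3) (LK LD1_c6 LD2_c28 LD3_c40) Lrfl Lrfl
theorem f151408 : Led Lsl_et (LP (LK LD1_c7 LD2_c1 LD3_c22)) = (LP (LK LD1_c13 LD2_c19 LD3_c13)) :=
  Lre_e IH (LK LD1_c7 LD2_c1 LD3_c22) (LK LD1_c13 LD2_c19 LD3_c13) Lrfl Lrfl
theorem f436485 : Led Lsl_cf (LP (LK LD1_c12 LD2_c28 LD3_c3)) = (LP (LK LD1_c13 LD2_c19 LD3_c13)) :=
  Lgr Lrot39 (Lpr_et (f128818 IH) (Lpr_ct (K32.f151456 IH) (Lpr_et (f151408 IH) (Lpn (LP (LK LD1_c13 LD2_c19 LD3_c13))))))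
theorem f436487 : Led Lsl_ct (LP (LK LD1_c12 LD2_c28 LD3_c3)) = (LP (LK LD1_c13 LD2_c19 LD3_c13)) :=
  Lgr Lrot59 (Lpr_cf (f436485 IH) (Lpn (LP (LK LD1_c13 LD2_c19 LD3_c13))))
theorem f436490 : Led Lsl_af (LP (LK LD1_c7 LD2_c40 LD3_c48)) = (LP (LK LD1_c13 LD2_c19 LD3_c13)) :=
  Lgr Lrot68 (Lpe (K59.f148782 IH) (Lpe (K59.f208187 IH) (Lpr_ct (f436487 IH) (Lpn (LP (LK LD1_c13 LD2_c19 LD3_c13))))))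
theorem f436492 : Led Lsl_at (LP (LK LD1_c7 LD2_c40 LD3_c48)) = (LP (LK LD1_c13 LD2_c19 LD3_c13)) :=
  Lgr Lrot100 (Lpr_af (f436490 IH) (Lpn (LP (LK LD1_c13 LD2_c19 LD3_c13))))
theorem f436505 : Led Lsl_cf (LP (LK LD1_c7 LD2_c40 LD3_c48)) = (LP (LK LD1_c6 LD2_c35 LD3_c39)) :=
  Lgr Lrot1 (Lpr_at (f436492 IH) (Lpe (f436485 IH) (Lpr_at (K59.f208183 IH) (Lpn (LP (LK LD1_c6 LD2_c35 LD3_c39))))))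
theorem f436509 : Led Lsl_gt (LP (LK LD1_c7 LD2_c40 LD3_c48)) = (LP (LK LD1_c14 LD2_c28 LD3_c43)) :=
  Lre_g IH (LK LD1_c7 LD2_c40 LD3_c48) (LK LD1_c14 LD2_c28 LD3_c43) Lrfl Lrfl
theorem f775866 : Led Lsl_ct (LP (LK LD1_c17 LD2_c4 LD3_c48)) = (LP (LK LD1_c14 LD2_c28 LD3_c43)) :=
  Lgr Lrot10 (Lpr_bt (f152546 IH) (Lpr_gt (K55.f207247 IH) (Lpr_ct (K55.f207135 IH) (Lpe (K51.f209305 IH) (Lpe (K58.f152563 IH) (Lpe (K58.f700337 IH) (Lpr_gt (K58.f705082 IH) (Lpq (K58.f768749 IH) (Lpe (f93669 IH) (Lpe (f436505 IH) (Lpr_gt (f436509 IH) (Lpn (LP (LK LD1_c14 LD2_c28 LD3_c43))))))))))))))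
theorem f742067 : K55.v15844 = K55.v15818 :=
  Lefun (Lecon (K55.f742013 IH) (K55.f742062 IH).symm) (K55.f741850 IH)
theorem f699144 : Led Lsl_ct (LP (LK LD1_c6 LD2_c44 LD3_c37)) = (LP (LK LD1_c5 LD2_c48 LD3_c30)) :=
  Lgr Lrot59 (Lpr_cf (K52.f699139 IH) (Lpn (LP (LK LD1_c5 LD2_c48 LD3_c30))))
theorem f743574 : Led Lsl_ff (LP (LK LD1_c6 LD2_c44 LD3_c37)) = (LP (LK LD1_c9 LD2_c11 LD3_c17)) :=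
  Lgr Lrot23 (Lpr_ct (f699144 IH) (Lpr_ft (K55.f742008 IH) (Lpqs (f742067 IH) (Lpq (K55.f743565 IH) (Lpqs (K55.f743565 IH) (Lpe (K55.f741852 IH) (Lpn (LP (LK LD1_c9 LD2_c11 LD3_c17)))))))))
theorem f743589 : Led Lsl_ft (LP (LK LD1_c12 LD2_c53 LD3_c43)) = (LP (LK LD1_c17 LD2_c4 LD3_c48)) :=
  Lgr Lrot75 (Lpe (K59.f699141 IH) (Lpr_ff (f743574 IH) (Lpe (f152546 IH) (Lpn (LP (LK LD1_c17 LD2_c4 LD3_c48))))))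
theorem f57524 : Led Lsl_bt (LP (LK LD1_c5 LD2_c48 LD3_c31)) = (LP (LK LD1_c11 LD2_c26 LD3_c31)) :=
  Lre_b IH (LK LD1_c5 LD2_c48 LD3_c31) (LK LD1_c11 LD2_c26 LD3_c31) Lrfl Lrfl
theorem f699172 : Led Lsl_cf (LP (LK LD1_c12 LD2_c53 LD3_c43)) = (LP (LK LD1_c11 LD2_c26 LD3_c31)) :=
  Lgr Lrot97 (Lpr_bt (K59.f207211 IH) (Lpr_ct (f699144 IH) (Lpr_bt (K52.f57510 IH) (Lpr_ct (K52.f66351 IH) (Lpr_bt (f57524 IH) (Lpn (LP (LK LD1_c11 LD2_c26 LD3_c31))))))))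
theorem f775872 : Led Lsl_ff (LP (LK LD1_c11 LD2_c26 LD3_c31)) = (LP (LK LD1_c14 LD2_c28 LD3_c43)) :=
  Lgr Lrot23 (Lpe (f699172 IH) (Lpr_ft (f743589 IH) (Lpr_ct (f775866 IH) (Lpn (LP (LK LD1_c14 LD2_c28 LD3_c43))))))
theorem f775874 : Led Lsl_bt K55.v15835 = (LP (LK LD1_c14 LD2_c28 LD3_c43)) :=
  Lgr Lrot35 (Lpe (K55.f741935 IH) (Lpe (K59.f66367 IH) (Lpr_ff (f775872 IH) (Lpn (LP (LK LD1_c14 LD2_c28 LD3_c43))))))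
theorem f148759 : Led Lsl_et (LP (LK LD1_c7 LD2_c40 LD3_c48)) = (LP (LK LD1_c3 LD2_c49 LD3_c56)) :=
  Lre_e IH (LK LD1_c7 LD2_c40 LD3_c48) (LK LD1_c3 LD2_c49 LD3_c56) Lrfl Lrfl
theorem f649969 : Led Lsl_bf (LP (LK LD1_c7 LD2_c40 LD3_c48)) = K58.v5895 :=
  Lgr Lrot96 (Lpr_et (f148759 IH) (Lpe (K32.f148778 IH) (Lpr_et (K58.f649967 IH) (Lpn K58.v5895))))
theorem f780079 : Led Lsl_gf (LP (LK LD1_c6 LD2_c49 LD3_c59)) = v19503 :=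
  Lgr Lrot129 (Lpr_cf (K59.f649970 IH) (Lpe (f649969 IH) (Lpr_gt (f436509 IH) (Lpe (f775874 IH) (Lpqs (K55.f742068 IH) (Lpr_ct (f57216 IH) (Lpr_gt (K55.f57185 IH) (Lpe (K55.f57172 IH) (Lpe (K1.f57191 IH) (Lpr_gt (K59.f57211 IH) (Lpr_ct (f780074 IH) (Lpn v19503))))))))))))
theorem f94163 : Led Lsl_ft (LP (LK LD1_c6 LD2_c50 LD3_c1)) = (LP (LK LD1_c3 LD2_c23 LD3_c21)) :=
  Lre_f IH (LK LD1_c6 LD2_c50 LD3_c1) (LK LD1_c3 LD2_c23 LD3_c21) Lrfl Lrfl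
theorem f780080 : Led Lsl_gt (LP (LK LD1_c6 LD2_c50 LD3_c1)) = v19503 :=
  Lgr Lrot5 (Lpr_ft (f94163 IH) (Lpr_at (K58.f90312 IH) (Lpr_gf (f780079 IH) (Lpn v19503))))
theorem f780077 : Led Lsl_cf (LP (LK LD1_c6 LD2_c43 LD3_c15)) = v19503 :=
  Lgr Lrot11 (Lpr_ct (f780074 IH) (Lpn v19503))
theorem f144017 : Led Lsl_gt (LP (LK LD1_c6 LD2_c43 LD3_c15)) = (LP (LK LD1_c3 LD2_c19 LD3_c44)) :=
  Lre_g IH (LK LD1_c6 LD2_c43 LD3_c15) (LK LD1_c3 LD2_c19 LD3_c44) Lrfl Lrfl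
theorem f62569 : Led Lsl_ct (LP (LK LD1_c6 LD2_c43 LD3_c18)) = (LP (LK LD1_c3 LD2_c19 LD3_c45)) :=
  Lre_c IH (LK LD1_c6 LD2_c43 LD3_c18) (LK LD1_c3 LD2_c19 LD3_c45) Lrfl Lrfl
theorem f62574 : Led Lsl_gt (LP (LK LD1_c12 LD2_c51 LD3_c28)) = (LP (LK LD1_c6 LD2_c43 LD3_c18)) :=
  Lre_g IH (LK LD1_c12 LD2_c51 LD3_c28) (LK LD1_c6 LD2_c43 LD3_c18) Lrfl Lrfl
theorem f784492 : v19555 = (LP (LK LD1_c12 LD2_c51 LD3_c28)) :=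
  (Llr Lrot152 (Lpe (f780663 IH) (Lpr_gf (f784491 IH) (Lpe (f784490 IH) (Lpr_gt (f780080 IH) (Lpe (f780077 IH) (Lpr_gt (f144017 IH) (Lpr_ct (K50.f144009 IH) (Lpe (K6.f62581 IH) (Lpe (f62569 IH) (Lpe (f62574 IH) (Lpn (LP (LK LD1_c12 LD2_c51 LD3_c28)))))))))))))).symm
def v19554 : LQ := Led Lsl_at (LP (LK LD1_c6 LD2_c43 LD3_c46))
theorem f780653 : Led Lsl_at (LP (LK LD1_c6 LD2_c43 LD3_c46)) = v19554 :=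
  Lrfl
theorem f780654 : Led Lsl_af (LP (LK LD1_c6 LD2_c43 LD3_c46)) = v19554 :=
  Lgr Lrot0 (Lpr_at (f780653 IH) (Lpn v19554))
theorem f780656 : Led Lsl_ft (LP (LK LD1_c6 LD2_c43 LD3_c47)) = v19554 :=
  Lgr Lrot2 (Lpr_gt (f62595 IH) (Lpr_gt (f62591 IH) (Lpr_af (f780654 IH) (Lpn v19554))))
theorem f780659 : Led Lsl_af (LP (LK LD1_c6 LD2_c43 LD3_c47)) = v19555 :=
  Lgr Lrot45 (Lpr_ft (f780656 IH) (Lpe (f780654 IH) (Lpr_ft (f780658 IH) (Lpn v19555))))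
theorem f784493 : Led Lsl_at (LP (LK LD1_c12 LD2_c51 LD3_c28)) = (LP (LK LD1_c6 LD2_c43 LD3_c47)) :=
  Leop (Lpr_af (f780659 IH) (Lpqs (f784492 IH) (Lpn (LP (LK LD1_c12 LD2_c51 LD3_c28)))))
theorem seed_1495 : LEOK LG_a (LK LD1_c12 LD2_c51 LD3_c28) :=
  Leoe_a (LK LD1_c12 LD2_c51 LD3_c28) (f784493 IH)
theorem f780186 : Led Lsl_dt (LP (LK LD1_c12 LD2_c52 LD3_c23)) = (LP (LK LD1_c6 LD2_c43 LD3_c46)) :=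
  Lre_d IH (LK LD1_c12 LD2_c52 LD3_c23) (LK LD1_c6 LD2_c43 LD3_c46) Lrfl Lrfl
theorem f652491 : Led Lsl_dt (LP (LK LD1_c12 LD2_c51 LD3_c28)) = (LP (LK LD1_c22 LD2_c0 LD3_c17)) :=
  Lre_d IH (LK LD1_c12 LD2_c51 LD3_c28) (LK LD1_c22 LD2_c0 LD3_c17) Lrfl Lrfl
theorem f784502 : Led Lsl_ff (LP (LK LD1_c12 LD2_c52 LD3_c23)) = (LP (LK LD1_c22 LD2_c0 LD3_c17)) :=
  Lgr Lrot19 (Lpr_dt (f780186 IH) (Lpr_ft (f780658 IH) (Lpqs (f784492 IH) (Lpr_dt (f652491 IH) (Lpn (LP (LK LD1_c22 LD2_c0 LD3_c17)))))))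
theorem f649619 : Led Lsl_dt (LP (LK LD1_c12 LD2_c51 LD3_c60)) = (LP (LK LD1_c22 LD2_c1 LD3_c21)) :=
  Lre_d IH (LK LD1_c12 LD2_c51 LD3_c60) (LK LD1_c22 LD2_c1 LD3_c21) Lrfl Lrfl
theorem f780187 : Led Lsl_ct (LP (LK LD1_c22 LD2_c1 LD3_c21)) = (LP (LK LD1_c12 LD2_c52 LD3_c23)) :=
  Lgr Lrot176 (Lpe (f649619 IH) (Lpe (f649618 IH) (Lpe (f649615 IH) (Lpe (K51.f649118 IH) (Lpr_df (f766742 IH) (Lpe (f766745 IH) (Lpe (f766748 IH) (Lpe (f780116 IH) (Lpe (f780120 IH) (Lpe (f57477 IH) (Lpe (f652548 IH) (Lpr_cf (f780127 IH) (Lpr_df (f780184 IH) (Lpe (f708818 IH) (Lpe (f780186 IH) (Lpn (LP (LK LD1_c12 LD2_c52 LD3_c23))))))))))))))))))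
theorem f780200 : Led Lsl_cf (LP (LK LD1_c22 LD2_c1 LD3_c21)) = (LP (LK LD1_c12 LD2_c52 LD3_c23)) :=
  Lgr Lrot11 (Lpr_ct (f780187 IH) (Lpn (LP (LK LD1_c12 LD2_c52 LD3_c23))))
theorem f780154 : Led Lsl_ff (LP (LK LD1_c12 LD2_c51 LD3_c56)) = (LP (LK LD1_c22 LD2_c0 LD3_c7)) :=
  Lgr Lrot3 (Lpr_ft (f780147 IH) (Lpn (LP (LK LD1_c22 LD2_c0 LD3_c7))))
theorem f649653 : Led Lsl_et (LP (LK LD1_c12 LD2_c51 LD3_c61)) = (LP (LK LD1_c6 LD2_c43 LD3_c34)) :=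
  Lre_e IH (LK LD1_c12 LD2_c51 LD3_c61) (LK LD1_c6 LD2_c43 LD3_c34) Lrfl Lrfl
theorem f437822 : Led Lsl_et (LP (LK LD1_c12 LD2_c51 LD3_c23)) = (LP (LK LD1_c22 LD2_c0 LD3_c8)) :=
  Lre_e IH (LK LD1_c12 LD2_c51 LD3_c23) (LK LD1_c22 LD2_c0 LD3_c8) Lrfl Lrfl
theorem f707948 : Led Lsl_af (LP (LK LD1_c12 LD2_c51 LD3_c61)) = (LP (LK LD1_c22 LD2_c0 LD3_c8)) :=
  Lgr Lrot50 (Lpr_et (f649653 IH) (Lpr_at (f707941 IH) (Lpr_et (f437822 IH) (Lpn (LP (LK LD1_c22 LD2_c0 LD3_c8))))))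
theorem f649668 : Led Lsl_ct (LP (LK LD1_c12 LD2_c51 LD3_c61)) = (LP (LK LD1_c22 LD2_c1 LD3_c22)) :=
  Lre_c IH (LK LD1_c12 LD2_c51 LD3_c61) (LK LD1_c22 LD2_c1 LD3_c22) Lrfl Lrfl
theorem f437828 : Led Lsl_ct (LP (LK LD1_c30 LD2_c14 LD3_c57)) = (LP (LK LD1_c22 LD2_c0 LD3_c8)) :=
  Lre_c IH (LK LD1_c30 LD2_c14 LD3_c57) (LK LD1_c22 LD2_c0 LD3_c8) Lrfl Lrfl
theorem f707952 : Led Lsl_at (LP (LK LD1_c22 LD2_c1 LD3_c22)) = (LP (LK LD1_c30 LD2_c14 LD3_c57)) :=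
  Lgr Lrot107 (Lpe (f649668 IH) (Lpr_af (f707948 IH) (Lpe (f437828 IH) (Lpn (LP (LK LD1_c30 LD2_c14 LD3_c57))))))
theorem f707982 : Led Lsl_af (LP (LK LD1_c22 LD2_c1 LD3_c22)) = (LP (LK LD1_c30 LD2_c14 LD3_c57)) :=
  Lgr Lrot0 (Lpr_at (f707952 IH) (Lpn (LP (LK LD1_c30 LD2_c14 LD3_c57))))
theorem f707987 : Led Lsl_et (LP (LK LD1_c22 LD2_c1 LD3_c22)) = (LP (LK LD1_c12 LD2_c51 LD3_c60)) :=
  Lre_e IH (LK LD1_c22 LD2_c1 LD3_c22) (LK LD1_c12 LD2_c51 LD3_c60) Lrfl Lrfl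
theorem f707988 : Led Lsl_et (LP (LK LD1_c22 LD2_c0 LD3_c7)) = (LP (LK LD1_c30 LD2_c14 LD3_c57)) :=
  Lre_e IH (LK LD1_c22 LD2_c0 LD3_c7) (LK LD1_c30 LD2_c14 LD3_c57) Lrfl Lrfl
theorem f707989 : Led Lsl_at (LP (LK LD1_c12 LD2_c51 LD3_c60)) = (LP (LK LD1_c22 LD2_c0 LD3_c7)) :=
  Lgr Lrot80 (Lpe (f707987 IH) (Lpr_af (f707982 IH) (Lpe (f707988 IH) (Lpn (LP (LK LD1_c22 LD2_c0 LD3_c7))))))
theorem f652463 : Led Lsl_ct (LP (LK LD1_c12 LD2_c51 LD3_c22)) = (LP (LK LD1_c22 LD2_c0 LD3_c6)) :=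
  Lre_c IH (LK LD1_c12 LD2_c51 LD3_c22) (LK LD1_c22 LD2_c0 LD3_c6) Lrfl Lrfl
theorem f780106 : Led Lsl_ft (LP (LK LD1_c22 LD2_c0 LD3_c6)) = (LP (LK LD1_c12 LD2_c51 LD3_c60)) :=
  Lgr Lrot4 (Lpe (f652463 IH) (Lpr_ff (f780101 IH) (Lpe (f649629 IH) (Lpn (LP (LK LD1_c12 LD2_c51 LD3_c60))))))
theorem f780159 : Led Lsl_at (LP (LK LD1_c12 LD2_c51 LD3_c56)) = (LP (LK LD1_c22 LD2_c0 LD3_c6)) :=
  Lgr Lrot66 (Lpr_ff (f780154 IH) (Lpe (f707989 IH) (Lpe (f780106 IH) (Lpn (LP (LK LD1_c22 LD2_c0 LD3_c6))))))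
theorem f780162 : Led Lsl_dt (LP (LK LD1_c22 LD2_c0 LD3_c6)) = (LP (LK LD1_c30 LD2_c14 LD3_c56)) :=
  Lre_d IH (LK LD1_c22 LD2_c0 LD3_c6) (LK LD1_c30 LD2_c14 LD3_c56) Lrfl Lrfl
theorem f780163 : Led Lsl_af (LP (LK LD1_c22 LD2_c1 LD3_c16)) = (LP (LK LD1_c30 LD2_c14 LD3_c56)) :=
  Lgr Lrot117 (Lpr_dt (f780113 IH) (Lpr_at (f780159 IH) (Lpr_dt (f780162 IH) (Lpn (LP (LK LD1_c30 LD2_c14 LD3_c56))))))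
theorem f649630 : Led Lsl_dt (LP (LK LD1_c22 LD2_c1 LD3_c21)) = (LP (LK LD1_c12 LD2_c51 LD3_c60)) :=
  Lre_d IH (LK LD1_c22 LD2_c1 LD3_c21) (LK LD1_c12 LD2_c51 LD3_c60) Lrfl Lrfl
theorem f780167 : Led Lsl_ft (LP (LK LD1_c22 LD2_c1 LD3_c21)) = (LP (LK LD1_c30 LD2_c14 LD3_c56)) :=
  Lgr Lrot142 (Lpr_dt (f649630 IH) (Lpr_ct (f649629 IH) (Lpe (f649620 IH) (Lpr_ct (K52.f649117 IH) (Lpr_dt (f766740 IH) (Lpe (f766744 IH) (Lpr_dt (f766746 IH) (Lpe (f780114 IH) (Lpr_af (f780163 IH) (Lpn (LP (LK LD1_c30 LD2_c14 LD3_c56))))))))))))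
theorem f784504 : Led Lsl_ct (LP (LK LD1_c30 LD2_c14 LD3_c56)) = (LP (LK LD1_c22 LD2_c0 LD3_c17)) :=
  Lgr Lrot40 (Lpe (f780167 IH) (Lpr_cf (f780200 IH) (Lpr_ff (f784502 IH) (Lpn (LP (LK LD1_c22 LD2_c0 LD3_c17))))))
theorem f780150 : Led Lsl_dt (LP (LK LD1_c30 LD2_c14 LD3_c56)) = (LP (LK LD1_c22 LD2_c0 LD3_c6)) :=
  Lre_d IH (LK LD1_c30 LD2_c14 LD3_c56) (LK LD1_c22 LD2_c0 LD3_c6) Lrfl Lrfl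
theorem f57519 : Led Lsl_ct (LP (LK LD1_c6 LD2_c43 LD3_c30)) = (LP (LK LD1_c12 LD2_c51 LD3_c51)) :=
  Lre_c IH (LK LD1_c6 LD2_c43 LD3_c30) (LK LD1_c12 LD2_c51 LD3_c51) Lrfl Lrfl
theorem f64329 : Led Lsl_gt (LP (LK LD1_c12 LD2_c51 LD3_c51)) = (LP (LK LD1_c22 LD2_c0 LD3_c61)) :=
  Lre_g IH (LK LD1_c12 LD2_c51 LD3_c51) (LK LD1_c22 LD2_c0 LD3_c61) Lrfl Lrfl
theorem f64330 : Led Lsl_dt (LP (LK LD1_c22 LD2_c0 LD3_c61)) = (LP (LK LD1_c30 LD2_c15 LD3_c37)) :=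
  Lre_d IH (LK LD1_c22 LD2_c0 LD3_c61) (LK LD1_c30 LD2_c15 LD3_c37) Lrfl Lrfl
theorem f780234 : Led Lsl_gf (LP (LK LD1_c30 LD2_c14 LD3_c56)) = (LP (LK LD1_c30 LD2_c15 LD3_c37)) :=
  Lgr Lrot154 (Lpr_dt (f780150 IH) (Lpr_ct (f780092 IH) (Lpr_df (f780099 IH) (Lpe (f780232 IH) (Lpe (K50.f64320 IH) (Lpe (K50.f64313 IH) (Lpr_ct (f57519 IH) (Lpr_gt (f64329 IH) (Lpr_dt (f64330 IH) (Lpn (LP (LK LD1_c30 LD2_c15 LD3_c37))))))))))))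
theorem f83890 : Led Lsl_ct (LP (LK LD1_c6 LD2_c50 LD3_c0)) = (LP (LK LD1_c13 LD2_c1 LD3_c18)) :=
  Lre_c IH (LK LD1_c6 LD2_c50 LD3_c0) (LK LD1_c13 LD2_c1 LD3_c18) Lrfl Lrfl
theorem f775743 : Led Lsl_at (LP (LK LD1_c13 LD2_c1 LD3_c18)) = (LP (LK LD1_c12 LD2_c52 LD3_c13)) :=
  Lgr Lrot107 (Lpe (f83890 IH) (Lpe (K3.f90322 IH) (Lpr_cf (K59.f775741 IH) (Lpn (LP (LK LD1_c12 LD2_c52 LD3_c13))))))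
theorem f780570 : Led Lsl_ft (LP (LK LD1_c12 LD2_c52 LD3_c12)) = (LP (LK LD1_c13 LD2_c1 LD3_c18)) :=
  Lgr Lrot2 (Lpr_gt (f780568 IH) (Lpr_gt (K59.f709445 IH) (Lpe (f775743 IH) (Lpn (LP (LK LD1_c13 LD2_c1 LD3_c18))))))
theorem f780575 : Led Lsl_ff (LP (LK LD1_c12 LD2_c52 LD3_c12)) = (LP (LK LD1_c13 LD2_c1 LD3_c18)) :=
  Lgr Lrot3 (Lpr_ft (f780570 IH) (Lpn (LP (LK LD1_c13 LD2_c1 LD3_c18))))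
theorem f784489 : Led Lsl_ct (LP (LK LD1_c12 LD2_c52 LD3_c12)) = v20041 :=
  Lgr Lrot40 (Lpr_ff (f780575 IH) (Lpe (f83890 IH) (Lpr_ff (f784487 IH) (Lpn v20041))))
theorem f652605 : Led Lsl_dt (LP (LK LD1_c12 LD2_c52 LD3_c15)) = (LP (LK LD1_c6 LD2_c43 LD3_c41)) :=
  Lre_d IH (LK LD1_c12 LD2_c52 LD3_c15) (LK LD1_c6 LD2_c43 LD3_c41) Lrfl Lrfl
theorem f775751 : Led Lsl_gt (LP (LK LD1_c12 LD2_c52 LD3_c15)) = (LP (LK LD1_c22 LD2_c1 LD3_c59)) :=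
  Lre_g IH (LK LD1_c12 LD2_c52 LD3_c15) (LK LD1_c22 LD2_c1 LD3_c59) Lrfl Lrfl
theorem f784516 : Led Lsl_cf (LP (LK LD1_c30 LD2_c15 LD3_c37)) = (LP (LK LD1_c22 LD2_c1 LD3_c59)) :=
  Lgr Lrot169 (Lpe (f780234 IH) (Lpr_ct (f784504 IH) (Lpe (f652491 IH) (Lpq (f784492 IH) (Lpe (f780663 IH) (Lpr_gf (f784491 IH) (Lpe (f784489 IH) (Lpe (f438365 IH) (Lpe (f652605 IH) (Lpr_gt (f775751 IH) (Lpn (LP (LK LD1_c22 LD2_c1 LD3_c59)))))))))))))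
theorem f784517 : Led Lsl_ct (LP (LK LD1_c22 LD2_c1 LD3_c59)) = (LP (LK LD1_c30 LD2_c15 LD3_c37)) :=
  Leop (Lpr_cf (f784516 IH) (Lpn (LP (LK LD1_c22 LD2_c1 LD3_c59))))
theorem seed_1496 : LEOK LG_c (LK LD1_c22 LD2_c1 LD3_c59) :=
  Leoe_c (LK LD1_c22 LD2_c1 LD3_c59) (f784517 IH)
def v20085 : LQ := Led Lsl_bt (LP (LK LD1_c6 LD2_c50 LD3_c32))
theorem f784731 : Led Lsl_bt (LP (LK LD1_c6 LD2_c50 LD3_c32)) = v20085 :=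
  Lrfl
theorem f414477 : Led Lsl_ct (LP (LK LD1_c6 LD2_c44 LD3_c48)) = (LP (LK LD1_c3 LD2_c20 LD3_c31)) :=
  Lre_c IH (LK LD1_c6 LD2_c44 LD3_c48) (LK LD1_c3 LD2_c20 LD3_c31) Lrfl Lrfl
def v19613 : LQ := Led Lsl_bt (LP (LK LD1_c6 LD2_c44 LD3_c48))
theorem f781251 : Led Lsl_bt (LP (LK LD1_c6 LD2_c44 LD3_c48)) = v19613 :=
  Lrfl
theorem f781252 : Led Lsl_bf (LP (LK LD1_c6 LD2_c44 LD3_c48)) = v19613 :=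
  Lgr Lrot24 (Lpr_bt (f781251 IH) (Lpn v19613))
theorem f784733 : Led Lsl_cf v19613 = v20085 :=
  Lgr Lrot97 (Lpe (f781252 IH) (Lpr_ct (f414477 IH) (Lpr_bt (K51.f414476 IH) (Lpe (K17.f414459 IH) (Lpr_bt (f784731 IH) (Lpn v20085))))))
theorem f784734 : Led Lsl_ct v19613 = v20085 :=
  Lgr Lrot59 (Lpr_cf (f784733 IH) (Lpn v20085))
theorem f652815 : Led Lsl_ff (LP (LK LD1_c3 LD2_c20 LD3_c34)) = K46.v6332 :=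
  Lgr Lrot3 (Lpr_ft (K46.f652812 IH) (Lpn K46.v6332))
theorem f509295 : Led Lsl_ct (LP (LK LD1_c3 LD2_c20 LD3_c34)) = (LP (LK LD1_c1 LD2_c36 LD3_c38)) :=
  Lre_c IH (LK LD1_c3 LD2_c20 LD3_c34) (LK LD1_c1 LD2_c36 LD3_c38) Lrfl Lrfl
theorem f652840 : Led Lsl_ct K51.v2155 = K46.v6332 :=
  Lgr Lrot40 (Lpe (K51.f509314 IH) (Lpe (f509295 IH) (Lpr_ff (f652815 IH) (Lpn K46.v6332))))
theorem f415093 : Led Lsl_ct (LP (LK LD1_c3 LD2_c20 LD3_c31)) = (LP (LK LD1_c6 LD2_c44 LD3_c48)) :=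
  Lre_c IH (LK LD1_c3 LD2_c20 LD3_c31) (LK LD1_c6 LD2_c44 LD3_c48) Lrfl Lrfl
theorem f706604 : K46.v6332 = (LP (LK LD1_c6 LD2_c44 LD3_c48)) :=
  Lefun (Lecon (f652840 IH) (K51.f706596 IH)) (f415093 IH)
theorem f652789 : Led Lsl_ct K46.v2154 = K46.v6329 :=
  Lgr Lrot59 (Lpr_cf (K46.f652788 IH) (Lpn K46.v6329))
theorem f706587 : K46.v6329 = (LP (LK LD1_c6 LD2_c44 LD3_c45)) :=
  Lefun (Lecon (f652789 IH) (K51.f706580 IH)) (K54.f509268 IH)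
theorem f712851 : Led Lsl_gf (LP (LK LD1_c9 LD2_c11 LD3_c15)) = K46.v6332 :=
  Lgr Lrot47 (Lpr_gt (K54.f712773 IH) (Lpq (f706587 IH) (Lpe (K46.f652786 IH) (Lpr_ff (f652815 IH) (Lpn K46.v6332)))))
def v6112 : LQ := Led Lsl_ft (LP (LK LD1_c3 LD2_c18 LD3_c6))
theorem f651167 : Led Lsl_ft (LP (LK LD1_c3 LD2_c18 LD3_c6)) = v6112 :=
  Lrfl
theorem f651169 : Led Lsl_ff (LP (LK LD1_c3 LD2_c18 LD3_c6)) = v6112 :=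
  Lgr Lrot3 (Lpr_ft (f651167 IH) (Lpn v6112))
theorem f651170 : Led Lsl_bt K56.v2094 = v6112 :=
  Lgr Lrot35 (Lpe (K56.f508807 IH) (Lpe (K51.f508792 IH) (Lpr_ff (f651169 IH) (Lpn v6112))))
theorem f650515 : Led Lsl_bt (LP (LK LD1_c3 LD2_c16 LD3_c20)) = (LP (LK LD1_c6 LD2_c36 LD3_c2)) :=
  Lre_b IH (LK LD1_c3 LD2_c16 LD3_c20) (LK LD1_c6 LD2_c36 LD3_c2) Lrfl Lrfl
theorem f654028 : v6112 = (LP (LK LD1_c6 LD2_c36 LD3_c2)) :=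
  Lefun (Lecon (f651170 IH) (K56.f654023 IH).symm) (f650515 IH)
theorem f712771 : Led Lsl_ft (LP (LK LD1_c12 LD2_c32 LD3_c57)) = (LP (LK LD1_c6 LD2_c40 LD3_c4)) :=
  Lgr Lrot4 (Lpr_cf (K54.f712767 IH) (Lpq (f654028 IH) (Lpe (f651167 IH) (Lpe (K51.f649469 IH) (Lpn (LP (LK LD1_c6 LD2_c40 LD3_c4)))))))
theorem f705748 : Led Lsl_at (LP (LK LD1_c6 LD2_c40 LD3_c4)) = (LP (LK LD1_c12 LD2_c46 LD3_c0)) :=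
  Lre_a IH (LK LD1_c6 LD2_c40 LD3_c4) (LK LD1_c12 LD2_c46 LD3_c0) Lrfl Lrfl
theorem f712861 : Led Lsl_gt (LP (LK LD1_c13 LD2_c19 LD3_c8)) = (LP (LK LD1_c12 LD2_c46 LD3_c0)) :=
  Lgr Lrot46 (Lpe (K54.f712130 IH) (Lpr_ft (f712771 IH) (Lpr_at (f705748 IH) (Lpn (LP (LK LD1_c12 LD2_c46 LD3_c0))))))
theorem f654117 : Led Lsl_ct (LP (LK LD1_c6 LD2_c40 LD3_c3)) = (LP (LK LD1_c12 LD2_c46 LD3_c0)) :=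
  Lre_c IH (LK LD1_c6 LD2_c40 LD3_c3) (LK LD1_c12 LD2_c46 LD3_c0) Lrfl Lrfl
def v19236 : LQ := Led Lsl_bt (LP (LK LD1_c6 LD2_c40 LD3_c3))
theorem f778770 : Led Lsl_bt (LP (LK LD1_c6 LD2_c40 LD3_c3)) = v19236 :=
  Lrfl
theorem f651297 : Led Lsl_bt (LP (LK LD1_c6 LD2_c40 LD3_c5)) = (LP (LK LD1_c3 LD2_c18 LD3_c8)) :=
  Lre_b IH (LK LD1_c6 LD2_c40 LD3_c5) (LK LD1_c3 LD2_c18 LD3_c8) Lrfl Lrfl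
theorem f654040 : Led Lsl_bt (LP (LK LD1_c6 LD2_c36 LD3_c3)) = (LP (LK LD1_c12 LD2_c38 LD3_c13)) :=
  Lre_b IH (LK LD1_c6 LD2_c36 LD3_c3) (LK LD1_c12 LD2_c38 LD3_c13) Lrfl Lrfl
theorem f654101 : Led Lsl_ff (LP (LK LD1_c6 LD2_c40 LD3_c5)) = (LP (LK LD1_c12 LD2_c38 LD3_c13)) :=
  Lgr Lrot25 (Lpr_bt (f651297 IH) (Lpr_ft (K46.f651335 IH) (Lpqs (K59.f654035 IH) (Lpr_bt (f654040 IH) (Lpn (LP (LK LD1_c12 LD2_c38 LD3_c13)))))))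
theorem f654111 : Led Lsl_ft (LP (LK LD1_c6 LD2_c40 LD3_c5)) = (LP (LK LD1_c12 LD2_c38 LD3_c13)) :=
  Lgr Lrot48 (Lpr_ff (f654101 IH) (Lpn (LP (LK LD1_c12 LD2_c38 LD3_c13))))
theorem f651298 : Led Lsl_at (LP (LK LD1_c12 LD2_c46 LD3_c1)) = (LP (LK LD1_c6 LD2_c40 LD3_c5)) :=
  Lre_a IH (LK LD1_c12 LD2_c46 LD3_c1) (LK LD1_c6 LD2_c40 LD3_c5) Lrfl Lrfl
theorem f654119 : Led Lsl_at (LP (LK LD1_c12 LD2_c38 LD3_c13)) = (LP (LK LD1_c21 LD2_c44 LD3_c43)) :=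
  Lre_a IH (LK LD1_c12 LD2_c38 LD3_c13) (LK LD1_c21 LD2_c44 LD3_c43) Lrfl Lrfl
theorem f654120 : Led Lsl_ff (LP (LK LD1_c12 LD2_c46 LD3_c1)) = (LP (LK LD1_c21 LD2_c44 LD3_c43)) :=
  Lgr Lrot30 (Lpr_at (f651298 IH) (Lpr_ft (f654111 IH) (Lpr_at (f654119 IH) (Lpn (LP (LK LD1_c21 LD2_c44 LD3_c43))))))
theorem f654116 : Led Lsl_dt (LP (LK LD1_c12 LD2_c46 LD3_c1)) = (LP (LK LD1_c6 LD2_c40 LD3_c3)) :=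
  Lre_d IH (LK LD1_c12 LD2_c46 LD3_c1) (LK LD1_c6 LD2_c40 LD3_c3) Lrfl Lrfl
theorem f654127 : Led Lsl_dt (LP (LK LD1_c12 LD2_c38 LD3_c12)) = (LP (LK LD1_c21 LD2_c44 LD3_c43)) :=
  Lre_d IH (LK LD1_c12 LD2_c38 LD3_c12) (LK LD1_c21 LD2_c44 LD3_c43) Lrfl Lrfl
theorem f654128 : Led Lsl_ft (LP (LK LD1_c6 LD2_c40 LD3_c3)) = (LP (LK LD1_c12 LD2_c38 LD3_c12)) :=
  Lgr Lrot54 (Lpe (f654116 IH) (Lpr_ff (f654120 IH) (Lpe (f654127 IH) (Lpn (LP (LK LD1_c12 LD2_c38 LD3_c12))))))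
theorem f654136 : Led Lsl_ff (LP (LK LD1_c6 LD2_c40 LD3_c3)) = (LP (LK LD1_c12 LD2_c38 LD3_c12)) :=
  Lgr Lrot3 (Lpr_ft (f654128 IH) (Lpn (LP (LK LD1_c12 LD2_c38 LD3_c12))))
theorem f654041 : Led Lsl_bt (LP (LK LD1_c12 LD2_c38 LD3_c13)) = (LP (LK LD1_c6 LD2_c36 LD3_c3)) :=
  Lre_b IH (LK LD1_c12 LD2_c38 LD3_c13) (LK LD1_c6 LD2_c36 LD3_c3) Lrfl Lrfl
theorem f654107 : Led Lsl_at (LP (LK LD1_c21 LD2_c44 LD3_c43)) = (LP (LK LD1_c12 LD2_c38 LD3_c13)) :=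
  Lre_a IH (LK LD1_c21 LD2_c44 LD3_c43) (LK LD1_c12 LD2_c38 LD3_c13) Lrfl Lrfl
theorem f651329 : Led Lsl_bt (LP (LK LD1_c3 LD2_c18 LD3_c12)) = (LP (LK LD1_c6 LD2_c40 LD3_c15)) :=
  Lre_b IH (LK LD1_c3 LD2_c18 LD3_c12) (LK LD1_c6 LD2_c40 LD3_c15) Lrfl Lrfl
theorem f651350 : Led Lsl_at (LP (LK LD1_c6 LD2_c40 LD3_c15)) = (LP (LK LD1_c12 LD2_c46 LD3_c19)) :=
  Lre_a IH (LK LD1_c6 LD2_c40 LD3_c15) (LK LD1_c12 LD2_c46 LD3_c19) Lrfl Lrfl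
theorem f654148 : Led Lsl_bf (LP (LK LD1_c21 LD2_c44 LD3_c43)) = (LP (LK LD1_c12 LD2_c46 LD3_c19)) :=
  Lgr Lrot81 (Lpr_at (f654107 IH) (Lpr_bt (f654041 IH) (Lpq (K59.f654035 IH) (Lpe (K46.f651336 IH) (Lpr_bt (f651329 IH) (Lpr_at (f651350 IH) (Lpn (LP (LK LD1_c12 LD2_c46 LD3_c19)))))))))
theorem f654126 : Led Lsl_dt (LP (LK LD1_c21 LD2_c44 LD3_c43)) = (LP (LK LD1_c12 LD2_c38 LD3_c12)) :=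
  Lre_d IH (LK LD1_c21 LD2_c44 LD3_c43) (LK LD1_c12 LD2_c38 LD3_c12) Lrfl Lrfl
theorem f654152 : Led Lsl_dt (LP (LK LD1_c6 LD2_c40 LD3_c14)) = (LP (LK LD1_c12 LD2_c46 LD3_c19)) :=
  Lre_d IH (LK LD1_c6 LD2_c40 LD3_c14) (LK LD1_c12 LD2_c46 LD3_c19) Lrfl Lrfl
theorem f654153 : Led Lsl_bt (LP (LK LD1_c12 LD2_c38 LD3_c12)) = (LP (LK LD1_c6 LD2_c40 LD3_c14)) :=
  Lgr Lrot95 (Lpe (f654126 IH) (Lpr_bf (f654148 IH) (Lpe (f654152 IH) (Lpn (LP (LK LD1_c6 LD2_c40 LD3_c14))))))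
theorem f654155 : Led Lsl_bf (LP (LK LD1_c12 LD2_c38 LD3_c12)) = (LP (LK LD1_c6 LD2_c40 LD3_c14)) :=
  Lgr Lrot24 (Lpr_bt (f654153 IH) (Lpn (LP (LK LD1_c6 LD2_c40 LD3_c14))))
theorem f778773 : Led Lsl_ff (LP (LK LD1_c6 LD2_c40 LD3_c14)) = v19236 :=
  Lgr Lrot25 (Lpe (f654155 IH) (Lpe (f654136 IH) (Lpr_bt (f778770 IH) (Lpn v19236))))
theorem f508814 : Led Lsl_at (LP (LK LD1_c6 LD2_c40 LD3_c14)) = (LP (LK LD1_c3 LD2_c18 LD3_c10)) :=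
  Lre_a IH (LK LD1_c6 LD2_c40 LD3_c14) (LK LD1_c3 LD2_c18 LD3_c10) Lrfl Lrfl
theorem f634293 : Led Lsl_gt (LP (LK LD1_c6 LD2_c40 LD3_c13)) = (LP (LK LD1_c3 LD2_c18 LD3_c10)) :=
  Lre_g IH (LK LD1_c6 LD2_c40 LD3_c13) (LK LD1_c3 LD2_c18 LD3_c10) Lrfl Lrfl
theorem f778776 : Led Lsl_gf (LP (LK LD1_c6 LD2_c40 LD3_c13)) = v19236 :=
  Lgr Lrot47 (Lpr_gt (f634293 IH) (Lpe (f508814 IH) (Lpr_ff (f778773 IH) (Lpn v19236))))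
def v19252 : LQ := Led Lsl_ct (LP (LK LD1_c6 LD2_c40 LD3_c13))
theorem f778847 : Led Lsl_ct (LP (LK LD1_c6 LD2_c40 LD3_c13)) = v19252 :=
  Lrfl
theorem f784735 : Led Lsl_gt v19252 = v20085 :=
  Lgr Lrot149 (Lpe (f778847 IH) (Lpr_gf (f778776 IH) (Lpe (f778770 IH) (Lpr_ct (f654117 IH) (Lpe (f712861 IH) (Lpr_cf (K54.f130591 IH) (Lpr_bt (K5.f130576 IH) (Lpr_gf (f712851 IH) (Lpqs (f706604 IH) (Lpr_bf (f781252 IH) (Lpr_ct (f784734 IH) (Lpn v20085))))))))))))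
def v19251 : LQ := Led Lsl_bt (LP (LK LD1_c6 LD2_c40 LD3_c13))
theorem f778845 : Led Lsl_bt (LP (LK LD1_c6 LD2_c40 LD3_c13)) = v19251 :=
  Lrfl
theorem f624497 : Led Lsl_ct (LP (LK LD1_c3 LD2_c17 LD3_c54)) = (LP (LK LD1_c6 LD2_c39 LD3_c23)) :=
  Lre_c IH (LK LD1_c3 LD2_c17 LD3_c54) (LK LD1_c6 LD2_c39 LD3_c23) Lrfl Lrfl
theorem f651089 : Led Lsl_bt (LP (LK LD1_c3 LD2_c17 LD3_c54)) = (LP (LK LD1_c6 LD2_c39 LD3_c22)) :=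
  Lre_b IH (LK LD1_c3 LD2_c17 LD3_c54) (LK LD1_c6 LD2_c39 LD3_c22) Lrfl Lrfl
theorem f712907 : Led Lsl_gt (LP (LK LD1_c6 LD2_c39 LD3_c22)) = (LP (LK LD1_c12 LD2_c44 LD3_c27)) :=
  Lre_g IH (LK LD1_c6 LD2_c39 LD3_c22) (LK LD1_c12 LD2_c44 LD3_c27) Lrfl Lrfl
theorem f784736 : v19251 = (LP (LK LD1_c12 LD2_c44 LD3_c27)) :=
  (Llr Lrot92 (Lpe (f778845 IH) (Lpr_ct (f778847 IH) (Lpr_gt (f784735 IH) (Lpe (f784734 IH) (Lpe (f781252 IH) (Lpq (f706604 IH) (Lpe (f712851 IH) (Lpe (K5.f130570 IH) (Lpr_gt (K57.f712899 IH) (Lpe (f624497 IH) (Lpr_bt (f651089 IH) (Lpr_gt (f712907 IH) (Lpn (LP (LK LD1_c12 LD2_c44 LD3_c27)))))))))))))))).symm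
theorem f778846 : Led Lsl_bf (LP (LK LD1_c6 LD2_c40 LD3_c13)) = v19251 :=
  Lgr Lrot24 (Lpr_bt (f778845 IH) (Lpn v19251))
theorem f784737 : Led Lsl_bt (LP (LK LD1_c12 LD2_c44 LD3_c27)) = (LP (LK LD1_c6 LD2_c40 LD3_c13)) :=
  Leop (Lpr_bf (f778846 IH) (Lpqs (f784736 IH) (Lpn (LP (LK LD1_c12 LD2_c44 LD3_c27)))))
theorem seed_1497 : LEOK LG_b (LK LD1_c12 LD2_c44 LD3_c27) :=
  Leoe_b (LK LD1_c12 LD2_c44 LD3_c27) (f784737 IH)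
def v20086 : LQ := Led Lsl_et (LP (LK LD1_c6 LD2_c50 LD3_c32))
theorem f784739 : Led Lsl_et (LP (LK LD1_c6 LD2_c50 LD3_c32)) = v20086 :=
  Lrfl
theorem f784741 : Led Lsl_ef (LP (LK LD1_c6 LD2_c50 LD3_c32)) = v20086 :=
  Lgr Lrot88 (Lpr_et (f784739 IH) (Lpn v20086))
theorem f414478 : Led Lsl_ct (LP (LK LD1_c6 LD2_c50 LD3_c32)) = (LP (LK LD1_c6 LD2_c44 LD3_c47)) :=
  Lgr Lrot59 (Lpr_cf (K17.f414459 IH) (Lpn (LP (LK LD1_c6 LD2_c44 LD3_c47))))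
theorem f415094 : Led Lsl_et (LP (LK LD1_c6 LD2_c44 LD3_c47)) = (LP (LK LD1_c12 LD2_c53 LD3_c59)) :=
  Lre_e IH (LK LD1_c6 LD2_c44 LD3_c47) (LK LD1_c12 LD2_c53 LD3_c59) Lrfl Lrfl
theorem f784742 : Led Lsl_ct (LP (LK LD1_c12 LD2_c53 LD3_c59)) = v20086 :=
  Lgr Lrot15 (Lpe (f415094 IH) (Lpe (f414478 IH) (Lpr_ef (f784741 IH) (Lpn v20086))))
theorem f706623 : Led Lsl_bt (LP (LK LD1_c12 LD2_c53 LD3_c59)) = (LP (LK LD1_c6 LD2_c44 LD3_c50)) :=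
  Lre_b IH (LK LD1_c12 LD2_c53 LD3_c59) (LK LD1_c6 LD2_c44 LD3_c50) Lrfl Lrfl
theorem f445659 : Led Lsl_ct (LP (LK LD1_c9 LD2_c20 LD3_c40)) = (LP (LK LD1_c17 LD2_c16 LD3_c35)) :=
  Lre_c IH (LK LD1_c9 LD2_c20 LD3_c40) (LK LD1_c17 LD2_c16 LD3_c35) Lrfl Lrfl
theorem f784743 : Led Lsl_gf (LP (LK LD1_c17 LD2_c16 LD3_c35)) = v20086 :=
  Lgr Lrot126 (Lpe (f445659 IH) (Lpr_bt (K35.f445652 IH) (Lpr_gt (K24.f454585 IH) (Lpe (K24.f454581 IH) (Lpe (K24.f416136 IH) (Lpe (K32.f68372 IH) (Lpr_bt (K42.f151952 IH) (Lpr_gt (f706662 IH) (Lpe (f706623 IH) (Lpr_ct (f784742 IH) (Lpn v20086)))))))))))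
theorem f454546 : Led Lsl_bt (LP (LK LD1_c6 LD2_c47 LD3_c27)) = (LP (LK LD1_c3 LD2_c21 LD3_c55)) :=
  Lre_b IH (LK LD1_c6 LD2_c47 LD3_c27) (LK LD1_c3 LD2_c21 LD3_c55) Lrfl Lrfl
def v19819 : LQ := Led Lsl_ft (LP (LK LD1_c6 LD2_c47 LD3_c5))
theorem f782305 : Led Lsl_ft (LP (LK LD1_c6 LD2_c47 LD3_c5)) = v19819 :=
  Lrfl
theorem f782310 : Led Lsl_ff (LP (LK LD1_c6 LD2_c47 LD3_c5)) = v19819 :=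
  Lgr Lrot3 (Lpr_ft (f782305 IH) (Lpn v19819))
theorem f454495 : Led Lsl_ft (LP (LK LD1_c3 LD2_c21 LD3_c51)) = (LP (LK LD1_c6 LD2_c47 LD3_c27)) :=
  Lre_f IH (LK LD1_c3 LD2_c21 LD3_c51) (LK LD1_c6 LD2_c47 LD3_c27) Lrfl Lrfl
theorem f782312 : Led Lsl_ct (LP (LK LD1_c6 LD2_c47 LD3_c27)) = v19819 :=
  Lgr Lrot40 (Lpe (f454495 IH) (Lpe (K52.f414563 IH) (Lpr_ff (f782310 IH) (Lpn v19819))))
theorem f713354 : Led Lsl_at (LP (LK LD1_c6 LD2_c47 LD3_c5)) = (LP (LK LD1_c12 LD2_c57 LD3_c2)) :=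
  Lre_a IH (LK LD1_c6 LD2_c47 LD3_c5) (LK LD1_c12 LD2_c57 LD3_c2) Lrfl Lrfl
theorem f151750 : Led Lsl_gt (LP (LK LD1_c16 LD2_c58 LD3_c3)) = (LP (LK LD1_c9 LD2_c6 LD3_c38)) :=
  Lre_g IH (LK LD1_c16 LD2_c58 LD3_c3) (LK LD1_c9 LD2_c6 LD3_c38) Lrfl Lrfl
theorem f713336 : Led Lsl_af (LP (LK LD1_c16 LD2_c57 LD3_c50)) = (LP (LK LD1_c9 LD2_c6 LD3_c36)) :=
  Lgr Lrot31 (Lpe (K48.f151728 IH) (Lpe (f151750 IH) (Lpr_ft (K55.f713330 IH) (Lpn (LP (LK LD1_c9 LD2_c6 LD3_c36))))))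
theorem f713283 : Led Lsl_ft (LP (LK LD1_c16 LD2_c57 LD3_c50)) = (LP (LK LD1_c9 LD2_c6 LD3_c35)) :=
  Lgr Lrot54 (Lpe (K48.f151727 IH) (Lpr_ff (K55.f713279 IH) (Lpe (K52.f710250 IH) (Lpn (LP (LK LD1_c9 LD2_c6 LD3_c35))))))
theorem f713338 : Led Lsl_at (LP (LK LD1_c9 LD2_c6 LD3_c35)) = (LP (LK LD1_c16 LD2_c58 LD3_c3)) :=
  Lgr Lrot66 (Lpe (f713283 IH) (Lpr_af (f713336 IH) (Lpe (K55.f713330 IH) (Lpn (LP (LK LD1_c16 LD2_c58 LD3_c3))))))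
theorem f713340 : Led Lsl_df (LP (LK LD1_c12 LD2_c57 LD3_c39)) = (LP (LK LD1_c16 LD2_c58 LD3_c3)) :=
  Lgr Lrot18 (Lpr_at (K55.f713273 IH) (Lpe (K52.f710244 IH) (Lpr_at (f713338 IH) (Lpn (LP (LK LD1_c16 LD2_c58 LD3_c3))))))
theorem f454575 : Led Lsl_ct (LP (LK LD1_c12 LD2_c57 LD3_c39)) = (LP (LK LD1_c22 LD2_c7 LD3_c32)) :=
  Lre_c IH (LK LD1_c12 LD2_c57 LD3_c39) (LK LD1_c22 LD2_c7 LD3_c32) Lrfl Lrfl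
theorem f645091 : Led Lsl_ct (LP (LK LD1_c11 LD2_c41 LD3_c49)) = (LP (LK LD1_c9 LD2_c6 LD3_c18)) :=
  Lgr Lrot59 (Lpr_cf (K48.f645089 IH) (Lpn (LP (LK LD1_c9 LD2_c6 LD3_c18))))
theorem f157609 : Led Lsl_gt (LP (LK LD1_c11 LD2_c41 LD3_c50)) = (LP (LK LD1_c20 LD2_c41 LD3_c55)) :=
  Lre_g IH (LK LD1_c11 LD2_c41 LD3_c50) (LK LD1_c20 LD2_c41 LD3_c55) Lrfl Lrfl
theorem f713342 : Led Lsl_df (LP (LK LD1_c22 LD2_c7 LD3_c32)) = (LP (LK LD1_c20 LD2_c41 LD3_c55)) :=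
  Lgr Lrot84 (Lpe (f454575 IH) (Lpr_df (f713340 IH) (Lpe (K52.f157947 IH) (Lpe (K45.f157941 IH) (Lpe (K52.f436238 IH) (Lpe (f645091 IH) (Lpr_gt (K48.f426826 IH) (Lpr_dt (K36.f157608 IH) (Lpr_gt (f157609 IH) (Lpn (LP (LK LD1_c20 LD2_c41 LD3_c55))))))))))))
theorem f454574 : Led Lsl_gt (LP (LK LD1_c6 LD2_c47 LD3_c19)) = (LP (LK LD1_c12 LD2_c57 LD3_c39)) :=
  Lre_g IH (LK LD1_c6 LD2_c47 LD3_c19) (LK LD1_c12 LD2_c57 LD3_c39) Lrfl Lrfl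
theorem f454561 : Led Lsl_ct (LP (LK LD1_c12 LD2_c57 LD3_c2)) = (LP (LK LD1_c6 LD2_c47 LD3_c19)) :=
  Lre_c IH (LK LD1_c12 LD2_c57 LD3_c2) (LK LD1_c6 LD2_c47 LD3_c19) Lrfl Lrfl
theorem f426821 : Led Lsl_ct (LP (LK LD1_c29 LD2_c35 LD3_c49)) = (LP (LK LD1_c20 LD2_c41 LD3_c55)) :=
  Lre_c IH (LK LD1_c29 LD2_c35 LD3_c49) (LK LD1_c20 LD2_c41 LD3_c55) Lrfl Lrfl
theorem f643600 : Led Lsl_ct (LP (LK LD1_c11 LD2_c41 LD3_c48)) = (LP (LK LD1_c9 LD2_c6 LD3_c17)) :=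
  Lgr Lrot59 (Lpr_cf (K52.f643598 IH) (Lpn (LP (LK LD1_c9 LD2_c6 LD3_c17))))
theorem f426822 : Led Lsl_ct (LP (LK LD1_c20 LD2_c41 LD3_c55)) = (LP (LK LD1_c29 LD2_c35 LD3_c49)) :=
  Lre_c IH (LK LD1_c20 LD2_c41 LD3_c55) (LK LD1_c29 LD2_c35 LD3_c49) Lrfl Lrfl
theorem f151907 : Led Lsl_dt (LP (LK LD1_c16 LD2_c58 LD3_c20)) = (LP (LK LD1_c9 LD2_c6 LD3_c26)) :=
  Lre_d IH (LK LD1_c16 LD2_c58 LD3_c20) (LK LD1_c9 LD2_c6 LD3_c26) Lrfl Lrfl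
theorem f428846 : Led Lsl_ct (LP (LK LD1_c26 LD2_c53 LD3_c54)) = (LP (LK LD1_c16 LD2_c58 LD3_c20)) :=
  Lre_c IH (LK LD1_c26 LD2_c53 LD3_c54) (LK LD1_c16 LD2_c58 LD3_c20) Lrfl Lrfl
theorem f643615 : Led Lsl_gt (LP (LK LD1_c29 LD2_c35 LD3_c49)) = (LP (LK LD1_c26 LD2_c53 LD3_c54)) :=
  Lgr Lrot150 (Lpe (f426822 IH) (Lpe (f157609 IH) (Lpe (K36.f157608 IH) (Lpr_gt (K52.f137176 IH) (Lpr_ct (f643600 IH) (Lpr_gt (K7.f25248 IH) (Lpr_ct (K42.f25237 IH) (Lpe (f151907 IH) (Lpe (f428846 IH) (Lpn (LP (LK LD1_c26 LD2_c53 LD3_c54))))))))))))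
theorem f643618 : Led Lsl_at (LP (LK LD1_c32 LD2_c17 LD3_c24)) = (LP (LK LD1_c26 LD2_c53 LD3_c54)) :=
  Lre_a IH (LK LD1_c32 LD2_c17 LD3_c24) (LK LD1_c26 LD2_c53 LD3_c54) Lrfl Lrfl
theorem f643619 : Led Lsl_ft (LP (LK LD1_c26 LD2_c53 LD3_c30)) = (LP (LK LD1_c32 LD2_c17 LD3_c24)) :=
  Lre_f IH (LK LD1_c26 LD2_c53 LD3_c30) (LK LD1_c32 LD2_c17 LD3_c24) Lrfl Lrfl
theorem f643620 : Led Lsl_gf (LP (LK LD1_c29 LD2_c35 LD3_c49)) = (LP (LK LD1_c26 LD2_c53 LD3_c30)) :=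
  Lgr Lrot47 (Lpr_gt (f643615 IH) (Lpe (f643618 IH) (Lpe (f643619 IH) (Lpn (LP (LK LD1_c26 LD2_c53 LD3_c30))))))
theorem f151697 : Led Lsl_ct (LP (LK LD1_c16 LD2_c58 LD3_c0)) = (LP (LK LD1_c26 LD2_c53 LD3_c30)) :=
  Lre_c IH (LK LD1_c16 LD2_c58 LD3_c0) (LK LD1_c26 LD2_c53 LD3_c30) Lrfl Lrfl
theorem f713350 : Led Lsl_gf (LP (LK LD1_c12 LD2_c57 LD3_c2)) = (LP (LK LD1_c16 LD2_c57 LD3_c43)) :=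
  Lgr Lrot147 (Lpr_ct (f454561 IH) (Lpr_gt (f454574 IH) (Lpr_ct (f454575 IH) (Lpr_df (f713342 IH) (Lpe (f426821 IH) (Lpr_gf (f643620 IH) (Lpe (f151697 IH) (Lpr_gf (K45.f428831 IH) (Lpe (K45.f92243 IH) (Lpn (LP (LK LD1_c16 LD2_c57 LD3_c43))))))))))))
theorem f782314 : Led Lsl_gf (LP (LK LD1_c16 LD2_c57 LD3_c43)) = v19819 :=
  Lgr Lrot47 (Lpe (f713350 IH) (Lpe (f713354 IH) (Lpr_ff (f782310 IH) (Lpn v19819))))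
theorem f445630 : Led Lsl_ct (LP (LK LD1_c16 LD2_c57 LD3_c60)) = (LP (LK LD1_c9 LD2_c8 LD3_c44)) :=
  Lgr Lrot59 (Lpr_cf (K42.f445625 IH) (Lpn (LP (LK LD1_c9 LD2_c8 LD3_c44))))
theorem f643267 : Led Lsl_ct (LP (LK LD1_c11 LD2_c44 LD3_c41)) = (LP (LK LD1_c16 LD2_c57 LD3_c43)) :=
  Lgr Lrot7 (Lpe (K45.f428143 IH) (Lpe (K45.f428147 IH) (Lpe (K45.f426747 IH) (Lpr_gf (K45.f642530 IH) (Lpe (f445630 IH) (Lpr_gt (K42.f151693 IH) (Lpr_dt (K45.f151694 IH) (Lpr_gt (K45.f428839 IH) (Lpr_dt (K45.f428844 IH) (Lpn (LP (LK LD1_c16 LD2_c57 LD3_c43))))))))))))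
theorem f207134 : Led Lsl_at (LP (LK LD1_c9 LD2_c11 LD3_c13)) = (LP (LK LD1_c17 LD2_c4 LD3_c39)) :=
  Lre_a IH (LK LD1_c9 LD2_c11 LD3_c13) (LK LD1_c17 LD2_c4 LD3_c39) Lrfl Lrfl
theorem f557948 : Led Lsl_af (LP (LK LD1_c6 LD2_c44 LD3_c18)) = (LP (LK LD1_c9 LD2_c13 LD3_c33)) :=
  Lgr Lrot50 (Lpe (K56.f209300 IH) (Lpr_at (f207134 IH) (Lpr_et (K40.f557944 IH) (Lpn (LP (LK LD1_c9 LD2_c13 LD3_c33))))))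
theorem f104837 : Led Lsl_gt (LP (LK LD1_c4 LD2_c38 LD3_c51)) = (LP (LK LD1_c9 LD2_c13 LD3_c32)) :=
  Lre_g IH (LK LD1_c4 LD2_c38 LD3_c51) (LK LD1_c9 LD2_c13 LD3_c32) Lrfl Lrfl
theorem f618605 : Led Lsl_gf (LP (LK LD1_c6 LD2_c44 LD3_c18)) = (LP (LK LD1_c9 LD2_c13 LD3_c32)) :=
  Lgr Lrot76 (Lpr_af (f557948 IH) (Lpe (K42.f104834 IH) (Lpr_gt (f104837 IH) (Lpn (LP (LK LD1_c9 LD2_c13 LD3_c32))))))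
theorem f643279 : Led Lsl_bt (LP (LK LD1_c6 LD2_c0 LD3_c5)) = (LP (LK LD1_c9 LD2_c13 LD3_c32)) :=
  Lgr Lrot130 (Lpr_ct (K45.f643274 IH) (Lpe (K45.f79866 IH) (Lpe (K6.f79865 IH) (Lpr_bt (K50.f79864 IH) (Lpr_gf (K31.f79848 IH) (Lpe (K42.f79858 IH) (Lpr_ct (K42.f79860 IH) (Lpe (K42.f79861 IH) (Lpr_cf (K42.f614626 IH) (Lpr_gf (f618605 IH) (Lpn (LP (LK LD1_c9 LD2_c13 LD3_c32)))))))))))))
theorem f644342 : Led Lsl_et (LP (LK LD1_c9 LD2_c13 LD3_c32)) = (LP (LK LD1_c17 LD2_c7 LD3_c55)) :=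
  Lre_e IH (LK LD1_c9 LD2_c13 LD3_c32) (LK LD1_c17 LD2_c7 LD3_c55) Lrfl Lrfl
theorem f644343 : Led Lsl_bf (LP (LK LD1_c11 LD2_c44 LD3_c41)) = (LP (LK LD1_c17 LD2_c7 LD3_c55)) :=
  Lgr Lrot96 (Lpr_et (K45.f76157 IH) (Lpr_bt (f643279 IH) (Lpr_et (f644342 IH) (Lpn (LP (LK LD1_c17 LD2_c7 LD3_c55))))))
theorem f644345 : Led Lsl_bt (LP (LK LD1_c11 LD2_c44 LD3_c41)) = (LP (LK LD1_c17 LD2_c7 LD3_c55)) :=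
  Lgr Lrot127 (Lpr_bf (f644343 IH) (Lpn (LP (LK LD1_c17 LD2_c7 LD3_c55))))
theorem f784744 : Led Lsl_gt (LP (LK LD1_c17 LD2_c7 LD3_c55)) = (LP (LK LD1_c12 LD2_c53 LD3_c59)) :=
  Lgr Lrot82 (Lpe (f644345 IH) (Lpr_ct (f643267 IH) (Lpr_gf (f782314 IH) (Lpe (f782312 IH) (Lpr_bt (f454546 IH) (Lpe (K24.f454585 IH) (Lpe (K35.f445652 IH) (Lpr_ct (f445659 IH) (Lpr_gf (f784743 IH) (Lpe (f784742 IH) (Lpn (LP (LK LD1_c12 LD2_c53 LD3_c59)))))))))))))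
theorem f784745 : Led Lsl_gt (LP (LK LD1_c17 LD2_c7 LD3_c55)) = (LP (LK LD1_c12 LD2_c53 LD3_c59)) :=
  Leop (Lpe (f784744 IH) (Lpn (LP (LK LD1_c17 LD2_c7 LD3_c55))))
theorem seed_1498 : LEOK LG_g (LK LD1_c17 LD2_c7 LD3_c55) :=
  Leoe_g (LK LD1_c17 LD2_c7 LD3_c55) (f784745 IH)
def v20090 : LQ := Led Lsl_gf (LP (LK LD1_c6 LD2_c50 LD3_c35))
theorem f784756 : Led Lsl_gf (LP (LK LD1_c6 LD2_c50 LD3_c35)) = v20090 :=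
  Lrfl
def v16555 : LQ := Led Lsl_bt (LP (LK LD1_c6 LD2_c2 LD3_c50))
theorem f750395 : Led Lsl_bt (LP (LK LD1_c6 LD2_c2 LD3_c50)) = v16555 :=
  Lrfl
theorem f750398 : Led Lsl_ff (LP (LK LD1_c7 LD2_c43 LD3_c8)) = v16555 :=
  Lgr Lrot25 (Lpe (K53.f149143 IH) (Lpe (K57.f739781 IH) (Lpr_bt (f750395 IH) (Lpn v16555))))
theorem f784757 : Led Lsl_gt v16555 = v20090 :=
  Lgr Lrot5 (Lpe (f750398 IH) (Lpe (K4.f102400 IH) (Lpr_gf (f784756 IH) (Lpn v20090))))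
def v8052 : LQ := Led Lsl_bt K54.v1715
theorem f669790 : Led Lsl_bt K54.v1715 = v8052 :=
  Lrfl
def v8236 : LQ := Led Lsl_gt K57.v1938
theorem f670478 : Led Lsl_gt K57.v1938 = v8236 :=
  Lrfl
theorem f501026 : Led Lsl_bf (LP (LK LD1_c1 LD2_c24 LD3_c30)) = K56.v1718 :=
  Lgr Lrot24 (Lpr_bt (K56.f501025 IH) (Lpn K56.v1718))
theorem f669792 : Led Lsl_cf K56.v1718 = v8052 :=
  Lgr Lrot97 (Lpe (f501026 IH) (Lpr_ct (K31.f140236 IH) (Lpr_bt (K54.f140251 IH) (Lpr_ct (K54.f501004 IH) (Lpr_bt (f669790 IH) (Lpn v8052))))))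
theorem f669793 : Led Lsl_ct K56.v1718 = v8052 :=
  Lgr Lrot59 (Lpr_cf (f669792 IH) (Lpn v8052))
theorem f760283 : v8236 = v8052 :=
  (Llr Lrot65 (Lpe (f670478 IH) (Lpr_cf (K57.f632860 IH) (Lpe (K57.f632859 IH) (Lpr_gf (K57.f632887 IH) (Lpqs (K57.f760224 IH) (Lpe (K51.f454807 IH) (Lpr_ct (K46.f140864 IH) (Lpe (K32.f40956 IH) (Lpr_cf (K2.f40467 IH) (Lpe (K9.f140231 IH) (Lpr_bf (f501026 IH) (Lpr_ct (f669793 IH) (Lpn v8052)))))))))))))).symm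
def v5601 : LQ := Led Lsl_et (LP (LK LD1_c3 LD2_c10 LD3_c48))
theorem f648455 : Led Lsl_et (LP (LK LD1_c3 LD2_c10 LD3_c48)) = v5601 :=
  Lrfl
theorem f109982 : Led Lsl_bt (LP (LK LD1_c1 LD2_c31 LD3_c49)) = (LP (LK LD1_c3 LD2_c10 LD3_c48)) :=
  Lre_b IH (LK LD1_c1 LD2_c31 LD3_c49) (LK LD1_c3 LD2_c10 LD3_c48) Lrfl Lrfl
theorem f648456 : Led Lsl_bf K57.v1938 = v5601 :=
  Lgr Lrot96 (Lpe (K57.f506487 IH) (Lpr_bt (f109982 IH) (Lpr_et (f648455 IH) (Lpn v5601))))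
theorem f130360 : Led Lsl_at (LP (LK LD1_c7 LD2_c30 LD3_c39)) = (LP (LK LD1_c4 LD2_c41 LD3_c47)) :=
  Lgr Lrot100 (Lpr_af (K8.f130358 IH) (Lpn (LP (LK LD1_c4 LD2_c41 LD3_c47))))
theorem f130378 : Led Lsl_af (LP (LK LD1_c3 LD2_c44 LD3_c50)) = (LP (LK LD1_c3 LD2_c10 LD3_c48)) :=
  Lgr Lrot36 (Lpr_bt (K8.f95282 IH) (Lpr_at (f130360 IH) (Lpr_bt (K8.f124449 IH) (Lpr_at (K8.f130372 IH) (Lpr_bt (f109982 IH) (Lpn (LP (LK LD1_c3 LD2_c10 LD3_c48))))))))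
theorem f130382 : Led Lsl_ct (LP (LK LD1_c1 LD2_c40 LD3_c15)) = (LP (LK LD1_c3 LD2_c10 LD3_c48)) :=
  Lgr Lrot111 (Lpe (K4.f107364 IH) (Lpe (K2.f95272 IH) (Lpr_af (f130378 IH) (Lpn (LP (LK LD1_c3 LD2_c10 LD3_c48))))))
theorem f91909 : Led Lsl_et (LP (LK LD1_c3 LD2_c27 LD3_c18)) = (LP (LK LD1_c1 LD2_c40 LD3_c15)) :=
  Lre_e IH (LK LD1_c3 LD2_c27 LD3_c18) (LK LD1_c1 LD2_c40 LD3_c15) Lrfl Lrfl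
theorem f648457 : Led Lsl_cf (LP (LK LD1_c3 LD2_c27 LD3_c18)) = v5601 :=
  Lgr Lrot39 (Lpr_et (f91909 IH) (Lpr_ct (f130382 IH) (Lpr_et (f648455 IH) (Lpn v5601))))
def v6710 : LQ := Led Lsl_gf (LP (LK LD1_c3 LD2_c27 LD3_c18))
theorem f657937 : Led Lsl_gf (LP (LK LD1_c3 LD2_c27 LD3_c18)) = v6710 :=
  Lrfl
theorem f784758 : Led Lsl_cf v6710 = v20090 :=
  Lgr Lrot125 (Lpe (f657937 IH) (Lpr_cf (f648457 IH) (Lpe (f648456 IH) (Lpr_gt (f670478 IH) (Lpqs (f760283 IH) (Lpe (f669790 IH) (Lpe (K54.f501005 IH) (Lpr_gt (K54.f140715 IH) (Lpe (K55.f140802 IH) (Lpr_bt (f750395 IH) (Lpr_gt (f784757 IH) (Lpn v20090))))))))))))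
theorem f784759 : Led Lsl_ct v6710 = v20090 :=
  Lgr Lrot59 (Lpr_cf (f784758 IH) (Lpn v20090))
theorem f136857 : Led Lsl_bt (LP (LK LD1_c7 LD2_c43 LD3_c4)) = (LP (LK LD1_c3 LD2_c50 LD3_c59)) :=
  Lre_b IH (LK LD1_c7 LD2_c43 LD3_c4) (LK LD1_c3 LD2_c50 LD3_c59) Lrfl Lrfl
theorem f91913 : Led Lsl_et (LP (LK LD1_c2 LD2_c19 LD3_c55)) = (LP (LK LD1_c4 LD2_c43 LD3_c60)) :=
  Lre_e IH (LK LD1_c2 LD2_c19 LD3_c55) (LK LD1_c4 LD2_c43 LD3_c60) Lrfl Lrfl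
theorem f91922 : Led Lsl_bf (LP (LK LD1_c3 LD2_c27 LD3_c18)) = (LP (LK LD1_c4 LD2_c43 LD3_c60)) :=
  Lgr Lrot96 (Lpr_et (f91909 IH) (Lpr_bt (K4.f91916 IH) (Lpr_et (f91913 IH) (Lpn (LP (LK LD1_c4 LD2_c43 LD3_c60))))))
theorem f91924 : Led Lsl_bt (LP (LK LD1_c3 LD2_c27 LD3_c18)) = (LP (LK LD1_c4 LD2_c43 LD3_c60)) :=
  Lgr Lrot127 (Lpr_bf (f91922 IH) (Lpn (LP (LK LD1_c4 LD2_c43 LD3_c60))))
theorem f136859 : Led Lsl_at (LP (LK LD1_c3 LD2_c50 LD3_c59)) = (LP (LK LD1_c3 LD2_c27 LD3_c18)) :=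
  Lgr Lrot67 (Lpe (f136857 IH) (Lpr_af (K58.f136853 IH) (Lpe (K58.f136858 IH) (Lpr_af (K57.f107404 IH) (Lpe (f91924 IH) (Lpn (LP (LK LD1_c3 LD2_c27 LD3_c18))))))))
theorem f95433 : Led Lsl_ft (LP (LK LD1_c7 LD2_c43 LD3_c7)) = (LP (LK LD1_c3 LD2_c50 LD3_c59)) :=
  Lre_f IH (LK LD1_c7 LD2_c43 LD3_c7) (LK LD1_c3 LD2_c50 LD3_c59) Lrfl Lrfl
theorem f657938 : Led Lsl_gt (LP (LK LD1_c7 LD2_c43 LD3_c7)) = v6710 :=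
  Lgr Lrot5 (Lpr_ft (f95433 IH) (Lpr_at (f136859 IH) (Lpr_gf (f657937 IH) (Lpn v6710))))
theorem f95519 : Led Lsl_dt (LP (LK LD1_c7 LD2_c43 LD3_c7)) = (LP (LK LD1_c14 LD2_c33 LD3_c3)) :=
  Lre_d IH (LK LD1_c7 LD2_c43 LD3_c7) (LK LD1_c14 LD2_c33 LD3_c3) Lrfl Lrfl
theorem f136864 : Led Lsl_dt (LP (LK LD1_c12 LD2_c33 LD3_c11)) = (LP (LK LD1_c6 LD2_c32 LD3_c56)) :=
  Lre_d IH (LK LD1_c12 LD2_c33 LD3_c11) (LK LD1_c6 LD2_c32 LD3_c56) Lrfl Lrfl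
theorem f136865 : Led Lsl_at (LP (LK LD1_c14 LD2_c32 LD3_c59)) = (LP (LK LD1_c12 LD2_c33 LD3_c11)) :=
  Lgr Lrot51 (Lpe (K47.f95388 IH) (Lpr_af (K58.f136853 IH) (Lpe (f136864 IH) (Lpn (LP (LK LD1_c12 LD2_c33 LD3_c11))))))
theorem f107417 : Led Lsl_bt (LP (LK LD1_c12 LD2_c33 LD3_c11)) = (LP (LK LD1_c6 LD2_c32 LD3_c58)) :=
  Lre_b IH (LK LD1_c12 LD2_c33 LD3_c11) (LK LD1_c6 LD2_c32 LD3_c58) Lrfl Lrfl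
theorem f107410 : Led Lsl_dt (LP (LK LD1_c6 LD2_c32 LD3_c58)) = (LP (LK LD1_c3 LD2_c14 LD3_c44)) :=
  Lre_d IH (LK LD1_c6 LD2_c32 LD3_c58) (LK LD1_c3 LD2_c14 LD3_c44) Lrfl Lrfl
theorem f107411 : Led Lsl_af (LP (LK LD1_c6 LD2_c32 LD3_c58)) = (LP (LK LD1_c9 LD2_c20 LD3_c50)) :=
  Lgr Lrot117 (Lpr_dt (f107410 IH) (Lpr_at (K3.f107383 IH) (Lpr_dt (K58.f91914 IH) (Lpn (LP (LK LD1_c9 LD2_c20 LD3_c50))))))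
theorem f107414 : Led Lsl_at (LP (LK LD1_c6 LD2_c32 LD3_c58)) = (LP (LK LD1_c9 LD2_c20 LD3_c50)) :=
  Lgr Lrot100 (Lpr_af (f107411 IH) (Lpn (LP (LK LD1_c9 LD2_c20 LD3_c50))))
theorem f90894 : Led Lsl_dt (LP (LK LD1_c3 LD2_c27 LD3_c18)) = (LP (LK LD1_c6 LD2_c56 LD3_c35)) :=
  Lre_d IH (LK LD1_c3 LD2_c27 LD3_c18) (LK LD1_c6 LD2_c56 LD3_c35) Lrfl Lrfl
theorem f91927 : Led Lsl_bt (LP (LK LD1_c6 LD2_c56 LD3_c35)) = (LP (LK LD1_c9 LD2_c20 LD3_c50)) :=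
  Lgr Lrot95 (Lpe (f90894 IH) (Lpr_bf (f91922 IH) (Lpe (K58.f91919 IH) (Lpn (LP (LK LD1_c9 LD2_c20 LD3_c50))))))
theorem f91935 : Led Lsl_bf (LP (LK LD1_c6 LD2_c56 LD3_c35)) = (LP (LK LD1_c9 LD2_c20 LD3_c50)) :=
  Lgr Lrot24 (Lpr_bt (f91927 IH) (Lpn (LP (LK LD1_c9 LD2_c20 LD3_c50))))
theorem f136870 : Led Lsl_af (LP (LK LD1_c7 LD2_c43 LD3_c6)) = (LP (LK LD1_c6 LD2_c56 LD3_c35)) :=
  Lgr Lrot36 (Lpr_bt (K47.f95380 IH) (Lpr_at (f136865 IH) (Lpr_bt (f107417 IH) (Lpr_at (f107414 IH) (Lpe (f91935 IH) (Lpn (LP (LK LD1_c6 LD2_c56 LD3_c35))))))))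
theorem f136880 : Led Lsl_at (LP (LK LD1_c7 LD2_c43 LD3_c6)) = (LP (LK LD1_c6 LD2_c56 LD3_c35)) :=
  Lgr Lrot100 (Lpr_af (f136870 IH) (Lpn (LP (LK LD1_c6 LD2_c56 LD3_c35))))
theorem f95375 : Led Lsl_ft (LP (LK LD1_c14 LD2_c33 LD3_c3)) = (LP (LK LD1_c7 LD2_c43 LD3_c6)) :=
  Lre_f IH (LK LD1_c14 LD2_c33 LD3_c3) (LK LD1_c7 LD2_c43 LD3_c6) Lrfl Lrfl
theorem f91944 : Led Lsl_gt (LP (LK LD1_c13 LD2_c10 LD3_c56)) = (LP (LK LD1_c6 LD2_c56 LD3_c35)) :=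
  Lre_g IH (LK LD1_c13 LD2_c10 LD3_c56) (LK LD1_c6 LD2_c56 LD3_c35) Lrfl Lrfl
theorem f136894 : Led Lsl_gt (LP (LK LD1_c14 LD2_c33 LD3_c3)) = (LP (LK LD1_c13 LD2_c10 LD3_c56)) :=
  Lgr Lrot5 (Lpr_ft (f95375 IH) (Lpr_at (f136880 IH) (Lpe (f91944 IH) (Lpn (LP (LK LD1_c13 LD2_c10 LD3_c56))))))
theorem f94752 : Led Lsl_ct (LP (LK LD1_c13 LD2_c6 LD3_c55)) = (LP (LK LD1_c6 LD2_c54 LD3_c5)) :=
  Lre_c IH (LK LD1_c13 LD2_c6 LD3_c55) (LK LD1_c6 LD2_c54 LD3_c5) Lrfl Lrfl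
theorem f94767 : Led Lsl_gt (LP (LK LD1_c22 LD2_c18 LD3_c23)) = (LP (LK LD1_c13 LD2_c6 LD3_c55)) :=
  Lre_g IH (LK LD1_c22 LD2_c18 LD3_c23) (LK LD1_c13 LD2_c6 LD3_c55) Lrfl Lrfl
theorem f784760 : Led Lsl_ct (LP (LK LD1_c13 LD2_c10 LD3_c56)) = (LP (LK LD1_c22 LD2_c18 LD3_c23)) :=
  Lgr Lrot152 (Lpe (f136894 IH) (Lpe (f95519 IH) (Lpr_gt (f657938 IH) (Lpr_ct (f784759 IH) (Lpe (f784756 IH) (Lpr_ct (K4.f94749 IH) (Lpe (K4.f94751 IH) (Lpe (f94752 IH) (Lpe (f94767 IH) (Lpn (LP (LK LD1_c22 LD2_c18 LD3_c23))))))))))))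
theorem f784761 : Led Lsl_ct (LP (LK LD1_c13 LD2_c10 LD3_c56)) = (LP (LK LD1_c22 LD2_c18 LD3_c23)) :=
  Leop (Lpe (f784760 IH) (Lpn (LP (LK LD1_c13 LD2_c10 LD3_c56))))
theorem seed_1499 : LEOK LG_c (LK LD1_c13 LD2_c10 LD3_c56) :=
  Leoe_c (LK LD1_c13 LD2_c10 LD3_c56) (f784761 IH)
def v20124 : LQ := Led Lsl_et (LP (LK LD1_c6 LD2_c50 LD3_c48))
theorem f784905 : Led Lsl_et (LP (LK LD1_c6 LD2_c50 LD3_c48)) = v20124 :=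
  Lrfl
theorem f784908 : Led Lsl_ef (LP (LK LD1_c6 LD2_c50 LD3_c48)) = v20124 :=
  Lgr Lrot88 (Lpr_et (f784905 IH) (Lpn v20124))
theorem f653988 : Led Lsl_et (LP (LK LD1_c3 LD2_c23 LD3_c51)) = (LP (LK LD1_c6 LD2_c50 LD3_c49)) :=
  Lre_e IH (LK LD1_c3 LD2_c23 LD3_c51) (LK LD1_c6 LD2_c50 LD3_c49) Lrfl Lrfl
theorem f784910 : Led Lsl_ct (LP (LK LD1_c6 LD2_c50 LD3_c49)) = v20124 :=
  Lgr Lrot15 (Lpe (f653988 IH) (Lpe (K46.f77082 IH) (Lpr_ef (f784908 IH) (Lpn v20124))))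
theorem f654236 : Led Lsl_bt (LP (LK LD1_c6 LD2_c50 LD3_c49)) = (LP (LK LD1_c3 LD2_c23 LD3_c54)) :=
  Lre_b IH (LK LD1_c6 LD2_c50 LD3_c49) (LK LD1_c3 LD2_c23 LD3_c54) Lrfl Lrfl
theorem f445650 : Led Lsl_bt (LP (LK LD1_c2 LD2_c19 LD3_c42)) = (LP (LK LD1_c4 LD2_c43 LD3_c47)) :=
  Lre_b IH (LK LD1_c2 LD2_c19 LD3_c42) (LK LD1_c4 LD2_c43 LD3_c47) Lrfl Lrfl
theorem f509584 : Led Lsl_bt (LP (LK LD1_c1 LD2_c37 LD3_c14)) = K32.v2200 :=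
  Lgr Lrot119 (Lpe (K24.f415306 IH) (Lpr_bf (K51.f495178 IH) (Lpr_ef (K32.f509581 IH) (Lpn K32.v2200))))
theorem f653367 : Led Lsl_gt K32.v2200 = K51.v6428 :=
  Lgr Lrot5 (Lpe (K32.f509587 IH) (Lpr_at (K32.f454612 IH) (Lpr_gf (K51.f653366 IH) (Lpn K51.v6428))))
def v13764 : LQ := Led Lsl_et (LP (LK LD1_c4 LD2_c47 LD3_c54))
theorem f704731 : Led Lsl_et (LP (LK LD1_c4 LD2_c47 LD3_c54)) = v13764 :=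
  Lrfl
theorem f704734 : Led Lsl_ef (LP (LK LD1_c4 LD2_c47 LD3_c54)) = v13764 :=
  Lgr Lrot88 (Lpr_et (f704731 IH) (Lpn v13764))
theorem f704735 : Led Lsl_ct K51.v4456 = v13764 :=
  Lgr Lrot15 (Lpe (K51.f633496 IH) (Lpe (K59.f92235 IH) (Lpr_ef (f704734 IH) (Lpn v13764))))
theorem f784916 : Led Lsl_gt v13764 = v20124 :=
  Lgr Lrot149 (Lpe (f704735 IH) (Lpq (K51.f709168 IH) (Lpe (f653367 IH) (Lpe (f509584 IH) (Lpr_ct (K50.f454587 IH) (Lpe (K24.f454585 IH) (Lpe (K24.f82569 IH) (Lpr_bt (f445650 IH) (Lpqs (K59.f771566 IH) (Lpe (K58.f654313 IH) (Lpe (f654236 IH) (Lpr_ct (f784910 IH) (Lpn v20124)))))))))))))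
theorem f704732 : Led Lsl_cf K51.v4456 = v13764 :=
  Lgr Lrot39 (Lpe (K51.f633497 IH) (Lpr_ct (K57.f92168 IH) (Lpr_et (f704731 IH) (Lpn v13764))))
theorem f632941 : Led Lsl_dt (LP (LK LD1_c9 LD2_c21 LD3_c34)) = (LP (LK LD1_c4 LD2_c44 LD3_c22)) :=
  Lre_d IH (LK LD1_c9 LD2_c21 LD3_c34) (LK LD1_c4 LD2_c44 LD3_c22) Lrfl Lrfl
theorem f111047 : Led Lsl_et (LP (LK LD1_c2 LD2_c19 LD3_c59)) = (LP (LK LD1_c4 LD2_c44 LD3_c4)) :=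
  Lre_e IH (LK LD1_c2 LD2_c19 LD3_c59) (LK LD1_c4 LD2_c44 LD3_c4) Lrfl Lrfl
def v7332 : LQ := Led Lsl_gt (LP (LK LD1_c3 LD2_c45 LD3_c15))
theorem f664606 : Led Lsl_gt (LP (LK LD1_c3 LD2_c45 LD3_c15)) = v7332 :=
  Lrfl
theorem f773122 : (LP (LK LD1_c4 LD2_c44 LD3_c20)) = v7332 :=
  Lefun (Lecon (Lfl_gf (K59.f703187 IH)) (K59.f773120 IH).symm) (f664606 IH)
theorem f784911 : Led Lsl_df (LP (LK LD1_c17 LD2_c17 LD3_c40)) = v20124 :=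
  Lgr Lrot132 (Lpe (K58.f703172 IH) (Lpe (K58.f632986 IH) (Lpqs (f773122 IH) (Lpe (f664606 IH) (Lpe (K59.f95608 IH) (Lpr_dt (K4.f93192 IH) (Lpr_gf (K4.f111040 IH) (Lpe (K4.f111027 IH) (Lpr_et (f111047 IH) (Lpq (K51.f708050 IH) (Lpq (K51.f678951 IH) (Lpe (K51.f678954 IH) (Lpr_ef (f784908 IH) (Lpn v20124))))))))))))))
theorem f784917 : Led Lsl_gf (LP (LK LD1_c9 LD2_c21 LD3_c34)) = (LP (LK LD1_c17 LD2_c17 LD3_c40)) :=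
  Lgr Lrot143 (Lpr_dt (f632941 IH) (Lpe (K51.f144058 IH) (Lpqs (K51.f708308 IH) (Lpe (K51.f653429 IH) (Lpr_gf (K51.f653379 IH) (Lpe (K51.f653368 IH) (Lpr_gf (K51.f653366 IH) (Lpqs (K51.f709168 IH) (Lpr_cf (f704732 IH) (Lpr_gt (f784916 IH) (Lpe (f784911 IH) (Lpn (LP (LK LD1_c17 LD2_c17 LD3_c40))))))))))))))
theorem f784918 : Led Lsl_gt (LP (LK LD1_c17 LD2_c17 LD3_c40)) = (LP (LK LD1_c9 LD2_c21 LD3_c34)) :=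
  Leop (Lpr_gf (f784917 IH) (Lpn (LP (LK LD1_c17 LD2_c17 LD3_c40))))
theorem seed_1500 : LEOK LG_g (LK LD1_c17 LD2_c17 LD3_c40) :=
  Leoe_g (LK LD1_c17 LD2_c17 LD3_c40) (f784918 IH)
def v20149 : LQ := Led Lsl_et (LP (LK LD1_c6 LD2_c51 LD3_c6))
theorem f785047 : Led Lsl_et (LP (LK LD1_c6 LD2_c51 LD3_c6)) = v20149 :=
  Lrfl
theorem f785049 : Led Lsl_ef (LP (LK LD1_c6 LD2_c51 LD3_c6)) = v20149 :=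
  Lgr Lrot88 (Lpr_et (f785047 IH) (Lpn v20149))
theorem f428723 : Led Lsl_ct (LP (LK LD1_c11 LD2_c33 LD3_c54)) = (LP (LK LD1_c6 LD2_c1 LD3_c47)) :=
  Lre_c IH (LK LD1_c11 LD2_c33 LD3_c54) (LK LD1_c6 LD2_c1 LD3_c47) Lrfl Lrfl
theorem f428733 : Led Lsl_bt (LP (LK LD1_c11 LD2_c33 LD3_c54)) = (LP (LK LD1_c9 LD2_c47 LD3_c37)) :=
  Lre_b IH (LK LD1_c11 LD2_c33 LD3_c54) (LK LD1_c9 LD2_c47 LD3_c37) Lrfl Lrfl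
theorem f698827 : Led Lsl_gt (LP (LK LD1_c9 LD2_c47 LD3_c37)) = (LP (LK LD1_c6 LD2_c51 LD3_c6)) :=
  Lgr Lrot82 (Lpe (f428733 IH) (Lpr_ct (f428723 IH) (Lpq (K50.f698824 IH) (Lpe (K50.f652993 IH) (Lpe (K50.f414495 IH) (Lpr_bt (K50.f414494 IH) (Lpe (K17.f186139 IH) (Lpe (K17.f414493 IH) (Lpr_ct (K17.f414492 IH) (Lpe (K17.f105085 IH) (Lpe (K17.f414482 IH) (Lpn (LP (LK LD1_c6 LD2_c51 LD3_c6))))))))))))))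
theorem f163263 : Led Lsl_et (LP (LK LD1_c4 LD2_c58 LD3_c28)) = (LP (LK LD1_c9 LD2_c47 LD3_c37)) :=
  Lre_e IH (LK LD1_c4 LD2_c58 LD3_c28) (LK LD1_c9 LD2_c47 LD3_c37) Lrfl Lrfl
theorem f139392 : Led Lsl_at (LP (LK LD1_c3 LD2_c59 LD3_c17)) = (LP (LK LD1_c2 LD2_c27 LD3_c6)) :=
  Lgr Lrot66 (Lpr_ff (K6.f139390 IH) (Lpe (K4.f74369 IH) (Lpe (K4.f74368 IH) (Lpn (LP (LK LD1_c2 LD2_c27 LD3_c6))))))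
theorem f496613 : Led Lsl_gt (LP (LK LD1_c2 LD2_c51 LD3_c12)) = (LP (LK LD1_c2 LD2_c27 LD3_c6)) :=
  Lgr Lrot46 (Lpr_gf (K32.f496611 IH) (Lpe (K6.f139390 IH) (Lpr_at (f139392 IH) (Lpn (LP (LK LD1_c2 LD2_c27 LD3_c6))))))
theorem f496470 : Led Lsl_et (LP (LK LD1_c5 LD2_c50 LD3_c5)) = (LP (LK LD1_c2 LD2_c51 LD3_c12)) :=
  Lre_e IH (LK LD1_c5 LD2_c50 LD3_c5) (LK LD1_c2 LD2_c51 LD3_c12) Lrfl Lrfl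
theorem f615371 : Led Lsl_df (LP (LK LD1_c5 LD2_c40 LD3_c37)) = (LP (LK LD1_c5 LD2_c50 LD3_c5)) :=
  Lgr Lrot12 (Lpr_bt (K20.f319504 IH) (Lpr_dt (K41.f615367 IH) (Lpr_bt (K58.f496320 IH) (Lpn (LP (LK LD1_c5 LD2_c50 LD3_c5))))))
theorem f289618 : Led Lsl_gt (LP (LK LD1_c11 LD2_c11 LD3_c58)) = (LP (LK LD1_c5 LD2_c40 LD3_c37)) :=
  Lre_g IH (LK LD1_c11 LD2_c11 LD3_c58) (LK LD1_c5 LD2_c40 LD3_c37) Lrfl Lrfl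
theorem f785051 : Led Lsl_df (LP (LK LD1_c11 LD2_c11 LD3_c58)) = v20149 :=
  Lgr Lrot170 (Lpr_gt (f289618 IH) (Lpr_df (f615371 IH) (Lpr_et (f496470 IH) (Lpr_gt (f496613 IH) (Lpr_dt (K4.f74361 IH) (Lpr_gt (K4.f76093 IH) (Lpe (K4.f74535 IH) (Lpr_et (f163263 IH) (Lpr_gt (f698827 IH) (Lpr_ef (f785049 IH) (Lpn v20149)))))))))))
theorem f654356 : Led Lsl_et (LP (LK LD1_c3 LD2_c24 LD3_c4)) = (LP (LK LD1_c6 LD2_c51 LD3_c9)) :=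
  Lre_e IH (LK LD1_c3 LD2_c24 LD3_c4) (LK LD1_c6 LD2_c51 LD3_c9) Lrfl Lrfl
theorem f785050 : Led Lsl_bt (LP (LK LD1_c6 LD2_c51 LD3_c9)) = v20149 :=
  Lgr Lrot119 (Lpe (f654356 IH) (Lpe (K17.f413904 IH) (Lpr_ef (f785049 IH) (Lpn v20149))))
theorem f138007 : Led Lsl_dt (LP (LK LD1_c13 LD2_c2 LD3_c14)) = (LP (LK LD1_c6 LD2_c51 LD3_c9)) :=
  Lre_d IH (LK LD1_c13 LD2_c2 LD3_c14) (LK LD1_c6 LD2_c51 LD3_c9) Lrfl Lrfl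
theorem f785052 : Led Lsl_bt (LP (LK LD1_c11 LD2_c11 LD3_c58)) = (LP (LK LD1_c13 LD2_c2 LD3_c14)) :=
  Lgr Lrot95 (Lpr_df (f785051 IH) (Lpe (f785050 IH) (Lpe (f138007 IH) (Lpn (LP (LK LD1_c13 LD2_c2 LD3_c14))))))
theorem f785053 : Led Lsl_bt (LP (LK LD1_c11 LD2_c11 LD3_c58)) = (LP (LK LD1_c13 LD2_c2 LD3_c14)) :=
  Leop (Lpe (f785052 IH) (Lpn (LP (LK LD1_c11 LD2_c11 LD3_c58))))
theorem seed_1501 : LEOK LG_b (LK LD1_c11 LD2_c11 LD3_c58) :=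
  Leoe_b (LK LD1_c11 LD2_c11 LD3_c58) (f785053 IH)
def v20152 : LQ := Led Lsl_at (LP (LK LD1_c6 LD2_c51 LD3_c7))
theorem f785075 : Led Lsl_at (LP (LK LD1_c6 LD2_c51 LD3_c7)) = v20152 :=
  Lrfl
theorem f413902 : Led Lsl_ct (LP (LK LD1_c3 LD2_c24 LD3_c4)) = (LP (LK LD1_c6 LD2_c51 LD3_c7)) :=
  Lre_c IH (LK LD1_c3 LD2_c24 LD3_c4) (LK LD1_c6 LD2_c51 LD3_c7) Lrfl Lrfl
def v6597 : LQ := Led Lsl_at (LP (LK LD1_c3 LD2_c24 LD3_c4))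
theorem f654354 : Led Lsl_at (LP (LK LD1_c3 LD2_c24 LD3_c4)) = v6597 :=
  Lrfl
theorem f654355 : Led Lsl_af (LP (LK LD1_c3 LD2_c24 LD3_c4)) = v6597 :=
  Lgr Lrot0 (Lpr_at (f654354 IH) (Lpn v6597))
theorem f785077 : Led Lsl_cf v6597 = v20152 :=
  Lgr Lrot1 (Lpe (f654355 IH) (Lpr_ct (f413902 IH) (Lpr_at (f785075 IH) (Lpn v20152))))
theorem f654357 : Led Lsl_ft (LP (LK LD1_c3 LD2_c24 LD3_c5)) = v6597 :=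
  Lgr Lrot2 (Lpr_gt (K54.f101704 IH) (Lpr_gt (K17.f101701 IH) (Lpr_af (f654355 IH) (Lpn v6597))))
theorem f654359 : Led Lsl_ff (LP (LK LD1_c3 LD2_c24 LD3_c5)) = v6597 :=
  Lgr Lrot3 (Lpr_ft (f654357 IH) (Lpn v6597))
theorem f415163 : Led Lsl_ct (LP (LK LD1_c3 LD2_c24 LD3_c5)) = (LP (LK LD1_c6 LD2_c51 LD3_c11)) :=
  Lre_c IH (LK LD1_c3 LD2_c24 LD3_c5) (LK LD1_c6 LD2_c51 LD3_c11) Lrfl Lrfl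
theorem f785079 : Led Lsl_ft (LP (LK LD1_c6 LD2_c51 LD3_c11)) = v20152 :=
  Lgr Lrot4 (Lpe (f415163 IH) (Lpr_ff (f654359 IH) (Lpr_cf (f785077 IH) (Lpn v20152))))
theorem f159036 : Led Lsl_bt (LP (LK LD1_c6 LD2_c44 LD3_c14)) = (LP (LK LD1_c5 LD2_c50 LD3_c60)) :=
  Lgr Lrot127 (Lpr_bf (K54.f159034 IH) (Lpn (LP (LK LD1_c5 LD2_c50 LD3_c60))))
theorem f159038 : Led Lsl_ct (LP (LK LD1_c6 LD2_c44 LD3_c14)) = (LP (LK LD1_c12 LD2_c53 LD3_c13)) :=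
  Lre_c IH (LK LD1_c6 LD2_c44 LD3_c14) (LK LD1_c12 LD2_c53 LD3_c13) Lrfl Lrfl
theorem f739020 : Led Lsl_gf (LP (LK LD1_c12 LD2_c53 LD3_c13)) = (LP (LK LD1_c6 LD2_c51 LD3_c11)) :=
  Lgr Lrot129 (Lpe (f159038 IH) (Lpr_bt (f159036 IH) (Lpr_gt (K54.f159041 IH) (Lpr_bf (K54.f739013 IH) (Lpr_ct (K54.f705460 IH) (Lpe (K54.f415180 IH) (Lpe (K17.f413833 IH) (Lpe (K31.f414490 IH) (Lpr_gt (K54.f415156 IH) (Lpr_ct (f415163 IH) (Lpn (LP (LK LD1_c6 LD2_c51 LD3_c11)))))))))))))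
theorem f785076 : Led Lsl_af (LP (LK LD1_c6 LD2_c51 LD3_c7)) = v20152 :=
  Lgr Lrot0 (Lpr_at (f785075 IH) (Lpn v20152))
def v20151 : LQ := Led Lsl_gf (LP (LK LD1_c6 LD2_c51 LD3_c7))
theorem f785074 : Led Lsl_gf (LP (LK LD1_c6 LD2_c51 LD3_c7)) = v20151 :=
  Lrfl
theorem f785081 : (LP (LK LD1_c12 LD2_c53 LD3_c13)) = v20151 :=
  (Llr Lrot5 (Lpr_gf (f739020 IH) (Lpr_ft (f785079 IH) (Lpe (f785076 IH) (Lpr_gf (f785074 IH) (Lpn v20151)))))).symm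
theorem f785082 : Led Lsl_gt (LP (LK LD1_c12 LD2_c53 LD3_c13)) = (LP (LK LD1_c6 LD2_c51 LD3_c7)) :=
  Leop (Lpr_gf (f785074 IH) (Lpq (f785081 IH) (Lpn (LP (LK LD1_c12 LD2_c53 LD3_c13)))))
theorem seed_1502 : LEOK LG_g (LK LD1_c12 LD2_c53 LD3_c13) :=
  Leoe_g (LK LD1_c12 LD2_c53 LD3_c13) (f785082 IH)
def v20164 : LQ := Led Lsl_ft (LP (LK LD1_c6 LD2_c51 LD3_c10))
theorem f785131 : Led Lsl_ft (LP (LK LD1_c6 LD2_c51 LD3_c10)) = v20164 :=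
  Lrfl
theorem f785134 : Led Lsl_ff (LP (LK LD1_c6 LD2_c51 LD3_c10)) = v20164 :=
  Lgr Lrot3 (Lpr_ft (f785131 IH) (Lpn v20164))
theorem f785136 : Led Lsl_bt v6597 = v20164 :=
  Lgr Lrot35 (Lpe (f654357 IH) (Lpe (K54.f140984 IH) (Lpr_ff (f785134 IH) (Lpn v20164))))
def v20147 : LQ := Led Lsl_at (LP (LK LD1_c6 LD2_c51 LD3_c6))
theorem f785041 : Led Lsl_at (LP (LK LD1_c6 LD2_c51 LD3_c6)) = v20147 :=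
  Lrfl
theorem f785042 : Led Lsl_af (LP (LK LD1_c6 LD2_c51 LD3_c6)) = v20147 :=
  Lgr Lrot0 (Lpr_at (f785041 IH) (Lpn v20147))
def v20163 : LQ := Led Lsl_at (LP (LK LD1_c6 LD2_c51 LD3_c10))
theorem f785127 : Led Lsl_at (LP (LK LD1_c6 LD2_c51 LD3_c10)) = v20163 :=
  Lrfl
theorem f785128 : Led Lsl_af (LP (LK LD1_c6 LD2_c51 LD3_c10)) = v20163 :=
  Lgr Lrot0 (Lpr_at (f785127 IH) (Lpn v20163))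
theorem f654360 : Led Lsl_bt (LP (LK LD1_c3 LD2_c24 LD3_c5)) = (LP (LK LD1_c6 LD2_c51 LD3_c10)) :=
  Lre_b IH (LK LD1_c3 LD2_c24 LD3_c5) (LK LD1_c6 LD2_c51 LD3_c10) Lrfl Lrfl
theorem f739025 : Led Lsl_ct (LP (LK LD1_c11 LD2_c29 LD3_c29)) = (LP (LK LD1_c14 LD2_c35 LD3_c22)) :=
  Lgr Lrot111 (Lpr_af (K54.f739023 IH) (Lpr_cf (K52.f709857 IH) (Lpe (f712942 IH) (Lpn (LP (LK LD1_c14 LD2_c35 LD3_c22))))))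
theorem f707408 : Led Lsl_af (LP (LK LD1_c7 LD2_c44 LD3_c13)) = (LP (LK LD1_c6 LD2_c47 LD3_c18)) :=
  Lgr Lrot45 (Lpr_ft (K53.f438261 IH) (Lpr_at (K51.f130605 IH) (Lpr_ft (K51.f707404 IH) (Lpn (LP (LK LD1_c6 LD2_c47 LD3_c18))))))
theorem f707414 : Led Lsl_gt (LP (LK LD1_c14 LD2_c35 LD3_c22)) = (LP (LK LD1_c7 LD2_c44 LD3_c13)) :=
  Lgr Lrot46 (Lpe (f65981 IH) (Lpr_ft (K51.f707404 IH) (Lpe (f707408 IH) (Lpn (LP (LK LD1_c7 LD2_c44 LD3_c13))))))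
theorem f705474 : Led Lsl_bt (LP (LK LD1_c4 LD2_c49 LD3_c48)) = (LP (LK LD1_c9 LD2_c32 LD3_c13)) :=
  Lre_b IH (LK LD1_c4 LD2_c49 LD3_c48) (LK LD1_c9 LD2_c32 LD3_c13) Lrfl Lrfl
theorem f739092 : Led Lsl_gf (LP (LK LD1_c6 LD2_c51 LD3_c10)) = (LP (LK LD1_c9 LD2_c32 LD3_c13)) :=
  Lgr Lrot124 (Lpe (f654360 IH) (Lpr_ct (f415163 IH) (Lpe (f739020 IH) (Lpe (f159038 IH) (Lpr_bt (f159036 IH) (Lpr_gt (K54.f159041 IH) (Lpr_ct (f739025 IH) (Lpr_gt (f707414 IH) (Lpr_cf (K53.f640503 IH) (Lpqs (K52.f710129 IH) (Lpr_bt (f705474 IH) (Lpn (LP (LK LD1_c9 LD2_c32 LD3_c13))))))))))))))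
theorem f785129 : Led Lsl_ft (LP (LK LD1_c17 LD2_c23 LD3_c60)) = v20163 :=
  Lgr Lrot2 (Lpr_gt (K53.f414982 IH) (Lpe (f739092 IH) (Lpr_af (f785128 IH) (Lpn v20163))))
theorem f785132 : Led Lsl_af (LP (LK LD1_c17 LD2_c23 LD3_c60)) = v20164 :=
  Lgr Lrot45 (Lpr_ft (f785129 IH) (Lpe (f785128 IH) (Lpr_ft (f785131 IH) (Lpn v20164))))
theorem f672106 : Led Lsl_bt (LP (LK LD1_c17 LD2_c23 LD3_c60)) = (LP (LK LD1_c9 LD2_c26 LD3_c13)) :=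
  Lre_b IH (LK LD1_c17 LD2_c23 LD3_c60) (LK LD1_c9 LD2_c26 LD3_c13) Lrfl Lrfl
theorem f785137 : v20147 = (LP (LK LD1_c9 LD2_c26 LD3_c13)) :=
  (Llr Lrot36 (Lpe (f785042 IH) (Lpr_bt (K17.f413904 IH) (Lpr_at (f654354 IH) (Lpr_bt (f785136 IH) (Lpe (f785132 IH) (Lpr_bt (f672106 IH) (Lpn (LP (LK LD1_c9 LD2_c26 LD3_c13)))))))))).symm
theorem f785138 : Led Lsl_at (LP (LK LD1_c9 LD2_c26 LD3_c13)) = (LP (LK LD1_c6 LD2_c51 LD3_c6)) :=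
  Leop (Lpr_af (f785042 IH) (Lpqs (f785137 IH) (Lpn (LP (LK LD1_c9 LD2_c26 LD3_c13)))))
theorem seed_1503 : LEOK LG_a (LK LD1_c9 LD2_c26 LD3_c13) :=
  Leoe_a (LK LD1_c9 LD2_c26 LD3_c13) (f785138 IH)
theorem f644049 : Led Lsl_ct (LP (LK LD1_c4 LD2_c46 LD3_c46)) = (LP (LK LD1_c9 LD2_c26 LD3_c13)) :=
  Lre_c IH (LK LD1_c4 LD2_c46 LD3_c46) (LK LD1_c9 LD2_c26 LD3_c13) Lrfl Lrfl
def v13665 : LQ := Led Lsl_at (LP (LK LD1_c4 LD2_c46 LD3_c46))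
theorem f704147 : Led Lsl_at (LP (LK LD1_c4 LD2_c46 LD3_c46)) = v13665 :=
  Lrfl
theorem f704148 : Led Lsl_af (LP (LK LD1_c4 LD2_c46 LD3_c46)) = v13665 :=
  Lgr Lrot0 (Lpr_at (f704147 IH) (Lpn v13665))
theorem f785142 : v13665 = (LP (LK LD1_c9 LD2_c25 LD3_c61)) :=
  (Llr Lrot68 (Lpe (f704148 IH) (Lpr_ct (f644049 IH) (Lpq (f785137 IH) (Lpe (f785042 IH) (Lpr_ct (K17.f414482 IH) (Lpn (LP (LK LD1_c9 LD2_c25 LD3_c61))))))))).symm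
theorem f139303 : Led Lsl_gt (LP (LK LD1_c2 LD2_c21 LD3_c18)) = (LP (LK LD1_c4 LD2_c46 LD3_c46)) :=
  Lre_g IH (LK LD1_c2 LD2_c21 LD3_c18) (LK LD1_c4 LD2_c46 LD3_c46) Lrfl Lrfl
theorem f704149 : Led Lsl_ft (LP (LK LD1_c4 LD2_c46 LD3_c47)) = v13665 :=
  Lgr Lrot2 (Lpr_gt (K17.f139228 IH) (Lpr_gt (f139303 IH) (Lpr_af (f704148 IH) (Lpn v13665))))
theorem f414485 : Led Lsl_cf (LP (LK LD1_c6 LD2_c51 LD3_c6)) = (LP (LK LD1_c9 LD2_c25 LD3_c61)) :=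
  Lgr Lrot11 (Lpr_ct (K17.f414482 IH) (Lpn (LP (LK LD1_c9 LD2_c25 LD3_c61))))
def v20150 : LQ := Led Lsl_ft (LP (LK LD1_c6 LD2_c51 LD3_c6))
theorem f785070 : Led Lsl_ft (LP (LK LD1_c6 LD2_c51 LD3_c6)) = v20150 :=
  Lrfl
theorem f785147 : (LP (LK LD1_c9 LD2_c26 LD3_c16)) = v20150 :=
  (Llr Lrot108 (Lpr_ct (K17.f141039 IH) (Lpr_ft (f704149 IH) (Lpqs (f785142 IH) (Lpe (f414485 IH) (Lpr_ft (f785070 IH) (Lpn v20150))))))).symm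
theorem f785072 : Led Lsl_ff (LP (LK LD1_c6 LD2_c51 LD3_c6)) = v20150 :=
  Lgr Lrot3 (Lpr_ft (f785070 IH) (Lpn v20150))
def v8728 : LQ := Led Lsl_ct K50.v2181
theorem f672099 : Led Lsl_ct K50.v2181 = v8728 :=
  Lrfl
def v6341 : LQ := Led Lsl_ct (LP (LK LD1_c3 LD2_c20 LD3_c37))
theorem f652897 : Led Lsl_ct (LP (LK LD1_c3 LD2_c20 LD3_c37)) = v6341 :=
  Lrfl
theorem f672102 : Led Lsl_gf v6341 = v8728 :=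
  Lgr Lrot129 (Lpe (f652897 IH) (Lpr_bt (K54.f454788 IH) (Lpr_gt (K46.f438065 IH) (Lpe (K54.f414062 IH) (Lpr_ct (K17.f22961 IH) (Lpr_gt (K0.f23179 IH) (Lpe (K16.f413451 IH) (Lpr_bt (K46.f454014 IH) (Lpr_gt (K50.f509499 IH) (Lpr_ct (f672099 IH) (Lpn v8728)))))))))))
theorem f653315 : Led Lsl_ft K50.v4184 = K50.v2181 :=
  Lgr Lrot48 (Lpr_ff (K50.f653313 IH) (Lpn K50.v2181))
def v8204 : LQ := Led Lsl_et K38.v1912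
theorem f670336 : Led Lsl_et K38.v1912 = v8204 :=
  Lrfl
theorem f670338 : Led Lsl_cf K50.v4184 = v8204 :=
  Lgr Lrot39 (Lpe (K50.f631717 IH) (Lpq (K38.f537294 IH) (Lpr_ct (K38.f506360 IH) (Lpr_et (f670336 IH) (Lpn v8204)))))
theorem f672101 : Led Lsl_ff v8204 = v8728 :=
  Lgr Lrot23 (Lpe (f670338 IH) (Lpr_ft (f653315 IH) (Lpr_ct (f672099 IH) (Lpn v8728))))
theorem f102257 : Led Lsl_cf (LP (LK LD1_c7 LD2_c20 LD3_c0)) = (LP (LK LD1_c4 LD2_c45 LD3_c13)) :=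
  Lgr Lrot11 (Lpr_ct (K37.f102254 IH) (Lpn (LP (LK LD1_c4 LD2_c45 LD3_c13))))
theorem f567829 : Led Lsl_gf (LP (LK LD1_c7 LD2_c20 LD3_c0)) = (LP (LK LD1_c12 LD2_c23 LD3_c39)) :=
  Lgr Lrot129 (Lpr_cf (f102257 IH) (Lpr_bt (K7.f13748 IH) (Lpr_gt (K3.f13718 IH) (Lpe (K7.f99186 IH) (Lpr_ct (K4.f14346 IH) (Lpr_gt (K7.f96627 IH) (Lpe (K7.f14116 IH) (Lpe (K7.f156825 IH) (Lpe (K42.f203190 IH) (Lpr_ct (K42.f567823 IH) (Lpn (LP (LK LD1_c12 LD2_c23 LD3_c39)))))))))))))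
theorem f567831 : Led Lsl_bt (LP (LK LD1_c11 LD2_c28 LD3_c42)) = (LP (LK LD1_c12 LD2_c23 LD3_c39)) :=
  Lgr Lrot22 (Lpe (K8.f158939 IH) (Lpr_gf (K37.f208400 IH) (Lpe (K32.f129258 IH) (Lpe (K8.f129256 IH) (Lpe (K7.f129237 IH) (Lpe (K5.f129241 IH) (Lpe (K5.f125672 IH) (Lpe (K5.f66561 IH) (Lpr_bt (K5.f66562 IH) (Lpr_gf (f567829 IH) (Lpn (LP (LK LD1_c12 LD2_c23 LD3_c39)))))))))))))
theorem f567833 : Led Lsl_af (LP (LK LD1_c2 LD2_c51 LD3_c16)) = (LP (LK LD1_c3 LD2_c10 LD3_c21)) :=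
  Lgr Lrot36 (Lpr_bt (K6.f26511 IH) (Lpr_at (K8.f26520 IH) (Lpr_bt (f567831 IH) (Lpr_at (K42.f567810 IH) (Lpr_bt (K59.f210206 IH) (Lpn (LP (LK LD1_c3 LD2_c10 LD3_c21))))))))
theorem f540207 : Led Lsl_gf (LP (LK LD1_c2 LD2_c51 LD3_c16)) = (LP (LK LD1_c2 LD2_c19 LD3_c2)) :=
  Lgr Lrot47 (Lpr_gt (K36.f540205 IH) (Lpe (K11.f210170 IH) (Lpr_ff (K11.f204358 IH) (Lpn (LP (LK LD1_c2 LD2_c19 LD3_c2))))))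
theorem f567835 : Led Lsl_ft K36.v1566 = (LP (LK LD1_c3 LD2_c10 LD3_c21)) :=
  Lgr Lrot2 (Lpr_gt (K36.f540190 IH) (Lpe (f540207 IH) (Lpr_af (f567833 IH) (Lpn (LP (LK LD1_c3 LD2_c10 LD3_c21))))))
theorem f567837 : Led Lsl_ff K36.v1566 = (LP (LK LD1_c3 LD2_c10 LD3_c21)) :=
  Lgr Lrot3 (Lpr_ft (f567835 IH) (Lpn (LP (LK LD1_c3 LD2_c10 LD3_c21))))
theorem f506359 : Led Lsl_gt (LP (LK LD1_c4 LD2_c41 LD3_c36)) = K38.v1912 :=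
  Lgr Lrot5 (Lpe (K11.f210262 IH) (Lpr_at (K11.f210266 IH) (Lpr_gf (K38.f506358 IH) (Lpn K38.v1912))))
theorem f567838 : Led Lsl_at K36.v1566 = K38.v1912 :=
  Lgr Lrot26 (Lpr_ff (f567837 IH) (Lpr_gt (K38.f210204 IH) (Lpr_gt (f506359 IH) (Lpn K38.v1912))))
def v7987 : LQ := Led Lsl_et K36.v1566
theorem f669516 : Led Lsl_et K36.v1566 = v7987 :=
  Lrfl
theorem f669518 : Led Lsl_ef K36.v1566 = v7987 :=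
  Lgr Lrot88 (Lpr_et (f669516 IH) (Lpn v7987))
theorem f670337 : Led Lsl_af v7987 = v8204 :=
  Lgr Lrot50 (Lpe (f669518 IH) (Lpr_at (f567838 IH) (Lpr_et (f670336 IH) (Lpn v8204))))
theorem f672103 : Led Lsl_gt v6341 = v7987 :=
  Lgr Lrot46 (Lpr_gf (f672102 IH) (Lpe (f672101 IH) (Lpe (f670337 IH) (Lpn v7987))))
theorem f669519 : Led Lsl_ct K46.v1567 = v7987 :=
  Lgr Lrot15 (Lpe (K46.f499989 IH) (Lpr_cf (K36.f499988 IH) (Lpr_ef (f669518 IH) (Lpn v7987))))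
theorem f640658 : Led Lsl_ef (LP (LK LD1_c2 LD2_c51 LD3_c18)) = K46.v4872 :=
  Lgr Lrot88 (Lpr_et (K46.f640654 IH) (Lpn K46.v4872))
theorem f640660 : Led Lsl_bt K46.v1567 = K46.v4872 :=
  Lgr Lrot119 (Lpe (K46.f499989 IH) (Lpe (K7.f26482 IH) (Lpr_ef (f640658 IH) (Lpn K46.v4872))))
theorem f672104 : Led Lsl_gf (LP (LK LD1_c9 LD2_c26 LD3_c13)) = K46.v4872 :=
  Lgr Lrot181 (Lpr_ct (K53.f510307 IH) (Lpr_gt (K53.f75295 IH) (Lpe (K17.f413586 IH) (Lpr_bt (K53.f413587 IH) (Lpr_gt (K51.f509318 IH) (Lpe (K54.f454788 IH) (Lpr_ct (f652897 IH) (Lpr_gt (f672103 IH) (Lpe (f669519 IH) (Lpr_bt (f640660 IH) (Lpn K46.v4872)))))))))))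
theorem f785257 : Led Lsl_gf K46.v4872 = (LP (LK LD1_c9 LD2_c26 LD3_c16)) :=
  Lgr Lrot47 (Lpe (f672104 IH) (Lpq (f785137 IH) (Lpe (f785041 IH) (Lpr_ff (f785072 IH) (Lpq (f785147 IH) (Lpn (LP (LK LD1_c9 LD2_c26 LD3_c16))))))))
theorem f72666 : Led Lsl_dt (LP (LK LD1_c5 LD2_c59 LD3_c44)) = (LP (LK LD1_c11 LD2_c43 LD3_c61)) :=
  Lre_d IH (LK LD1_c5 LD2_c59 LD3_c44) (LK LD1_c11 LD2_c43 LD3_c61) Lrfl Lrfl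
theorem f163243 : Led Lsl_ct (LP (LK LD1_c20 LD2_c45 LD3_c8)) = (LP (LK LD1_c11 LD2_c43 LD3_c61)) :=
  Lre_c IH (LK LD1_c20 LD2_c45 LD3_c8) (LK LD1_c11 LD2_c43 LD3_c61) Lrfl Lrfl
theorem f413581 : Led Lsl_ct (LP (LK LD1_c4 LD2_c46 LD3_c47)) = (LP (LK LD1_c9 LD2_c26 LD3_c16)) :=
  Lre_c IH (LK LD1_c4 LD2_c46 LD3_c47) (LK LD1_c9 LD2_c26 LD3_c16) Lrfl Lrfl
theorem f705205 : Led Lsl_dt (LP (LK LD1_c17 LD2_c23 LD3_c37)) = (LP (LK LD1_c9 LD2_c26 LD3_c2)) :=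
  Lre_d IH (LK LD1_c17 LD2_c23 LD3_c37) (LK LD1_c9 LD2_c26 LD3_c2) Lrfl Lrfl
theorem f641494 : Led Lsl_gt (LP (LK LD1_c17 LD2_c23 LD3_c37)) = (LP (LK LD1_c9 LD2_c26 LD3_c20)) :=
  Lre_g IH (LK LD1_c17 LD2_c23 LD3_c37) (LK LD1_c9 LD2_c26 LD3_c20) Lrfl Lrfl
theorem f785258 : Led Lsl_ct (LP (LK LD1_c9 LD2_c26 LD3_c20)) = (LP (LK LD1_c17 LD2_c24 LD3_c10)) :=
  Lre_c IH (LK LD1_c9 LD2_c26 LD3_c20) (LK LD1_c17 LD2_c24 LD3_c10) Lrfl Lrfl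
theorem f785259 : Led Lsl_gf (LP (LK LD1_c20 LD2_c45 LD3_c8)) = (LP (LK LD1_c17 LD2_c24 LD3_c10)) :=
  Lgr Lrot104 (Lpr_ct (f163243 IH) (Lpe (f72666 IH) (Lpr_cf (K46.f640657 IH) (Lpr_gf (f785257 IH) (Lpe (f413581 IH) (Lpe (K17.f413585 IH) (Lpe (f705205 IH) (Lpr_gt (f641494 IH) (Lpr_ct (f785258 IH) (Lpn (LP (LK LD1_c17 LD2_c24 LD3_c10))))))))))))
theorem f785260 : Led Lsl_gt (LP (LK LD1_c17 LD2_c24 LD3_c10)) = (LP (LK LD1_c20 LD2_c45 LD3_c8)) :=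
  Leop (Lpr_gf (f785259 IH) (Lpn (LP (LK LD1_c17 LD2_c24 LD3_c10))))
theorem seed_1504 : LEOK LG_g (LK LD1_c17 LD2_c24 LD3_c10) :=
  Leoe_g (LK LD1_c17 LD2_c24 LD3_c10) (f785260 IH)
def v20171 : LQ := Led Lsl_dt (LP (LK LD1_c6 LD2_c51 LD3_c15))
theorem f785301 : Led Lsl_dt (LP (LK LD1_c6 LD2_c51 LD3_c15)) = v20171 :=
  Lrfl
theorem f785302 : Led Lsl_df (LP (LK LD1_c6 LD2_c51 LD3_c15)) = v20171 :=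
  Lgr Lrot38 (Lpr_dt (f785301 IH) (Lpn v20171))
theorem f80247 : Led Lsl_gt (LP (LK LD1_c6 LD2_c51 LD3_c15)) = (LP (LK LD1_c3 LD2_c24 LD3_c6)) :=
  Lre_g IH (LK LD1_c6 LD2_c51 LD3_c15) (LK LD1_c3 LD2_c24 LD3_c6) Lrfl Lrfl
theorem f80245 : Led Lsl_et (LP (LK LD1_c1 LD2_c38 LD3_c20)) = (LP (LK LD1_c0 LD2_c45 LD3_c33)) :=
  Lre_e IH (LK LD1_c1 LD2_c38 LD3_c20) (LK LD1_c0 LD2_c45 LD3_c33) Lrfl Lrfl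
theorem f79931 : Led Lsl_df (LP (LK LD1_c1 LD2_c28 LD3_c24)) = (LP (LK LD1_c1 LD2_c38 LD3_c17)) :=
  Lgr Lrot38 (Lpr_dt (K4.f79929 IH) (Lpn (LP (LK LD1_c1 LD2_c38 LD3_c17))))
theorem f73433 : Led Lsl_et (LP (LK LD1_c2 LD2_c49 LD3_c38)) = (LP (LK LD1_c5 LD2_c47 LD3_c21)) :=
  Lre_e IH (LK LD1_c2 LD2_c49 LD3_c38) (LK LD1_c5 LD2_c47 LD3_c21) Lrfl Lrfl
theorem f73446 : Led Lsl_gt (LP (LK LD1_c5 LD2_c47 LD3_c21)) = (LP (LK LD1_c11 LD2_c24 LD3_c46)) :=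
  Lre_g IH (LK LD1_c5 LD2_c47 LD3_c21) (LK LD1_c11 LD2_c24 LD3_c46) Lrfl Lrfl
theorem f785303 : Led Lsl_ef (LP (LK LD1_c11 LD2_c24 LD3_c46)) = v20171 :=
  Lgr Lrot17 (Lpe (f73446 IH) (Lpe (f73433 IH) (Lpr_dt (K57.f73407 IH) (Lpe (K4.f79922 IH) (Lpr_df (f79931 IH) (Lpe (K4.f23589 IH) (Lpe (f80245 IH) (Lpr_dt (K55.f80246 IH) (Lpe (f80247 IH) (Lpr_df (f785302 IH) (Lpn v20171)))))))))))
theorem f785305 : Led Lsl_et (LP (LK LD1_c11 LD2_c24 LD3_c46)) = v20171 :=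
  Lgr Lrot87 (Lpr_ef (f785303 IH) (Lpn v20171))
theorem f560109 : Led Lsl_gt (LP (LK LD1_c11 LD2_c38 LD3_c27)) = (LP (LK LD1_c11 LD2_c29 LD3_c7)) :=
  Lgr Lrot5 (Lpr_ft (K32.f157101 IH) (Lpr_at (K50.f560101 IH) (Lpe (K56.f22195 IH) (Lpn (LP (LK LD1_c11 LD2_c29 LD3_c7))))))
theorem f157098 : Led Lsl_ct (LP (LK LD1_c5 LD2_c56 LD3_c40)) = (LP (LK LD1_c11 LD2_c38 LD3_c34)) :=
  Lre_c IH (LK LD1_c5 LD2_c56 LD3_c40) (LK LD1_c11 LD2_c38 LD3_c34) Lrfl Lrfl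
theorem f496807 : Led Lsl_af (LP (LK LD1_c11 LD2_c38 LD3_c34)) = (LP (LK LD1_c12 LD2_c23 LD3_c21)) :=
  Lgr Lrot68 (Lpr_ct (K52.f157093 IH) (Lpr_at (K32.f496796 IH) (Lpr_ct (K56.f116854 IH) (Lpn (LP (LK LD1_c12 LD2_c23 LD3_c21))))))
theorem f116857 : Led Lsl_ft (LP (LK LD1_c6 LD2_c25 LD3_c9)) = (LP (LK LD1_c12 LD2_c23 LD3_c21)) :=
  Lre_f IH (LK LD1_c6 LD2_c25 LD3_c9) (LK LD1_c12 LD2_c23 LD3_c21) Lrfl Lrfl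
theorem f69231 : Led Lsl_gt (LP (LK LD1_c6 LD2_c25 LD3_c9)) = (LP (LK LD1_c12 LD2_c23 LD3_c18)) :=
  Lre_g IH (LK LD1_c6 LD2_c25 LD3_c9) (LK LD1_c12 LD2_c23 LD3_c18) Lrfl Lrfl
theorem f499887 : Led Lsl_gf (LP (LK LD1_c11 LD2_c38 LD3_c34)) = (LP (LK LD1_c12 LD2_c23 LD3_c18)) :=
  Lgr Lrot76 (Lpr_af (f496807 IH) (Lpe (f116857 IH) (Lpr_gt (f69231 IH) (Lpn (LP (LK LD1_c12 LD2_c23 LD3_c18))))))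
theorem f24098 : Led Lsl_gt (LP (LK LD1_c5 LD2_c51 LD3_c8)) = (LP (LK LD1_c11 LD2_c29 LD3_c43)) :=
  Lre_g IH (LK LD1_c5 LD2_c51 LD3_c8) (LK LD1_c11 LD2_c29 LD3_c43) Lrfl Lrfl
theorem f753201 : Led Lsl_cf (LP (LK LD1_c12 LD2_c23 LD3_c18)) = (LP (LK LD1_c11 LD2_c29 LD3_c43)) :=
  Lgr Lrot125 (Lpe (f499887 IH) (Lpe (f157098 IH) (Lpr_bt (K32.f157092 IH) (Lpr_gt (f560109 IH) (Lpr_bf (K56.f752884 IH) (Lpr_ct (K56.f753049 IH) (Lpr_gt (K56.f112212 IH) (Lpe (K56.f24086 IH) (Lpr_bt (K52.f24120 IH) (Lpr_gt (f24098 IH) (Lpn (LP (LK LD1_c11 LD2_c29 LD3_c43)))))))))))))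
theorem f69233 : Led Lsl_ct (LP (LK LD1_c3 LD2_c10 LD3_c14)) = (LP (LK LD1_c6 LD2_c25 LD3_c9)) :=
  Lre_c IH (LK LD1_c3 LD2_c10 LD3_c14) (LK LD1_c6 LD2_c25 LD3_c9) Lrfl Lrfl
theorem f73243 : Led Lsl_gt (LP (LK LD1_c11 LD2_c24 LD3_c46)) = (LP (LK LD1_c5 LD2_c47 LD3_c36)) :=
  Lre_g IH (LK LD1_c11 LD2_c24 LD3_c46) (LK LD1_c5 LD2_c47 LD3_c36) Lrfl Lrfl
theorem f753208 : Led Lsl_bf (LP (LK LD1_c11 LD2_c24 LD3_c46)) = (LP (LK LD1_c11 LD2_c29 LD3_c43)) :=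
  Lgr Lrot156 (Lpr_gt (f73243 IH) (Lpe (K2.f73223 IH) (Lpe (K2.f73510 IH) (Lpr_gt (K32.f443219 IH) (Lpr_cf (K32.f444204 IH) (Lpr_bt (K52.f444201 IH) (Lpqs (K56.f714141 IH) (Lpe (K56.f648262 IH) (Lpr_ct (f69233 IH) (Lpr_gt (f69231 IH) (Lpr_cf (f753201 IH) (Lpn (LP (LK LD1_c11 LD2_c29 LD3_c43))))))))))))))
theorem f112946 : Led Lsl_et (LP (LK LD1_c20 LD2_c26 LD3_c49)) = (LP (LK LD1_c11 LD2_c29 LD3_c43)) :=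
  Lre_e IH (LK LD1_c20 LD2_c26 LD3_c49) (LK LD1_c11 LD2_c29 LD3_c43) Lrfl Lrfl
theorem f785306 : Led Lsl_bf (LP (LK LD1_c20 LD2_c26 LD3_c49)) = v20171 :=
  Lgr Lrot96 (Lpr_et (f112946 IH) (Lpe (f753208 IH) (Lpr_et (f785305 IH) (Lpn v20171))))
theorem f414723 : Led Lsl_bt (LP (LK LD1_c13 LD2_c2 LD3_c23)) = (LP (LK LD1_c6 LD2_c51 LD3_c15)) :=
  Lre_b IH (LK LD1_c13 LD2_c2 LD3_c23) (LK LD1_c6 LD2_c51 LD3_c15) Lrfl Lrfl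
theorem f785307 : Led Lsl_dt (LP (LK LD1_c20 LD2_c26 LD3_c49)) = (LP (LK LD1_c13 LD2_c2 LD3_c23)) :=
  Lgr Lrot79 (Lpr_bf (f785306 IH) (Lpe (f785301 IH) (Lpe (f414723 IH) (Lpn (LP (LK LD1_c13 LD2_c2 LD3_c23))))))
theorem f785308 : Led Lsl_dt (LP (LK LD1_c20 LD2_c26 LD3_c49)) = (LP (LK LD1_c13 LD2_c2 LD3_c23)) :=
  Leop (Lpe (f785307 IH) (Lpn (LP (LK LD1_c20 LD2_c26 LD3_c49))))
theorem seed_1505 : LEOK LG_d (LK LD1_c20 LD2_c26 LD3_c49) :=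
  Leoe_d (LK LD1_c20 LD2_c26 LD3_c49) (f785308 IH)
def v20198 : LQ := Led Lsl_gf (LP (LK LD1_c6 LD2_c51 LD3_c45))
theorem f785460 : Led Lsl_gf (LP (LK LD1_c6 LD2_c51 LD3_c45)) = v20198 :=
  Lrfl
def v2248 : LQ := Led Lsl_dt (LP (LK LD1_c1 LD2_c38 LD3_c43))
theorem f510465 : Led Lsl_dt (LP (LK LD1_c1 LD2_c38 LD3_c43)) = v2248 :=
  Lrfl
theorem f510468 : Led Lsl_df (LP (LK LD1_c1 LD2_c38 LD3_c43)) = v2248 :=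
  Lgr Lrot38 (Lpr_dt (f510465 IH) (Lpn v2248))
def v598 : LQ := Led Lsl_gt (LP (LK LD1_c0 LD2_c46 LD3_c34))
theorem f455105 : Led Lsl_gt (LP (LK LD1_c0 LD2_c46 LD3_c34)) = v598 :=
  Lrfl
theorem f476757 : (LP (LK LD1_c0 LD2_c49 LD3_c34)) = v598 :=
  Lefun (Lecon (Lfl_gf (K29.f456883 IH)) (K29.f476756 IH)) (f455105 IH)
def v1146 : LQ := Led Lsl_bt K24.v283
theorem f493377 : Led Lsl_bt K24.v283 = v1146 :=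
  Lrfl
theorem f456891 : Led Lsl_bf K24.v171 = K49.v711 :=
  Lgr Lrot96 (Lpe (K24.f450904 IH) (Lpr_bt (K29.f450890 IH) (Lpr_et (K49.f456890 IH) (Lpn K49.v711))))
theorem f493379 : Led Lsl_df K49.v711 = v1146 :=
  Lgr Lrot12 (Lpe (f456891 IH) (Lpr_dt (K24.f451514 IH) (Lpr_bt (f493377 IH) (Lpn v1146))))
theorem f493382 : Led Lsl_dt K49.v711 = v1146 :=
  Lgr Lrot42 (Lpr_df (f493379 IH) (Lpn v1146))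
theorem f510470 : Led Lsl_gt v1146 = v2248 :=
  Lgr Lrot112 (Lpe (f493382 IH) (Lpe (K49.f456892 IH) (Lpqs (f476757 IH) (Lpe (f455105 IH) (Lpe (K28.f91497 IH) (Lpe (K2.f91301 IH) (Lpe (K2.f19340 IH) (Lpr_df (K2.f18078 IH) (Lpr_gf (K2.f18171 IH) (Lpe (K29.f18176 IH) (Lpr_dt (f510465 IH) (Lpn v2248))))))))))))
def v9533 : LQ := Led Lsl_ft K49.v2761
theorem f676538 : Led Lsl_ft K49.v2761 = v9533 :=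
  Lrfl
theorem f676540 : Led Lsl_ff K49.v2761 = v9533 :=
  Lgr Lrot3 (Lpr_ft (f676538 IH) (Lpn v9533))
theorem f532564 : Led Lsl_cf K49.v905 = K49.v2761 :=
  Lgr Lrot39 (Lpe (K49.f490379 IH) (Lpr_ct (K34.f14861 IH) (Lpr_et (K49.f532563 IH) (Lpn K49.v2761))))
theorem f676541 : Led Lsl_ct K49.v3518 = v9533 :=
  Lgr Lrot40 (Lpe (K49.f626074 IH) (Lpr_cf (f532564 IH) (Lpr_ff (f676540 IH) (Lpn v9533))))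
def v9529 : LQ := Led Lsl_ft K49.v2759
theorem f676500 : Led Lsl_ft K49.v2759 = v9529 :=
  Lrfl
theorem f676503 : Led Lsl_ff K49.v2759 = v9529 :=
  Lgr Lrot3 (Lpr_ft (f676500 IH) (Lpn v9529))
theorem f531789 : Led Lsl_bf K49.v905 = K49.v2759 :=
  Lgr Lrot96 (Lpe (K49.f490379 IH) (Lpr_bt (K29.f471176 IH) (Lpr_et (K49.f531788 IH) (Lpn K49.v2759))))
theorem f676505 : Led Lsl_bt K49.v3518 = v9529 :=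
  Lgr Lrot35 (Lpe (K49.f626074 IH) (Lpr_bf (f531789 IH) (Lpr_ff (f676503 IH) (Lpn v9529))))
theorem f659217 : Led Lsl_ef (LP (LK LD1_c3 LD2_c33 LD3_c0)) = K49.v6882 :=
  Lgr Lrot88 (Lpr_et (K49.f659215 IH) (Lpn K49.v6882))
theorem f659218 : Led Lsl_at K49.v2759 = K49.v6882 :=
  Lgr Lrot80 (Lpe (K49.f531788 IH) (Lpr_af (K34.f531781 IH) (Lpq (K34.f531858 IH) (Lpr_ef (f659217 IH) (Lpn K49.v6882)))))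
def v7498 : LQ := Led Lsl_et (LP (LK LD1_c3 LD2_c49 LD3_c35))
theorem f666115 : Led Lsl_et (LP (LK LD1_c3 LD2_c49 LD3_c35)) = v7498 :=
  Lrfl
theorem f666118 : Led Lsl_cf K34.v2665 = v7498 :=
  Lgr Lrot39 (Lpe (K34.f530186 IH) (Lpr_ct (K33.f459814 IH) (Lpr_et (f666115 IH) (Lpn v7498))))
theorem f487929 : Led Lsl_bt (LP (LK LD1_c3 LD2_c26 LD3_c43)) = (LP (LK LD1_c3 LD2_c49 LD3_c35)) :=
  Lgr Lrot127 (Lpr_bf (K33.f487927 IH) (Lpn (LP (LK LD1_c3 LD2_c49 LD3_c35))))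
def v6703 : LQ := Led Lsl_et (LP (LK LD1_c3 LD2_c26 LD3_c43))
theorem f657899 : Led Lsl_et (LP (LK LD1_c3 LD2_c26 LD3_c43)) = v6703 :=
  Lrfl
theorem f657902 : Led Lsl_ef (LP (LK LD1_c3 LD2_c26 LD3_c43)) = v6703 :=
  Lgr Lrot88 (Lpr_et (f657899 IH) (Lpn v6703))
theorem f666117 : Led Lsl_bf v6703 = v7498 :=
  Lgr Lrot96 (Lpe (f657902 IH) (Lpr_bt (f487929 IH) (Lpr_et (f666115 IH) (Lpn v7498))))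
theorem f675902 : Led Lsl_ct K49.v3479 = K49.v9424 :=
  Lgr Lrot8 (Lpe (K49.f625836 IH) (Lpr_dt (K49.f493829 IH) (Lpe (K49.f493830 IH) (Lpe (K49.f455516 IH) (Lpe (K30.f120559 IH) (Lpe (K48.f120549 IH) (Lpe (K34.f89314 IH) (Lpr_df (K34.f530187 IH) (Lpr_gf (K49.f675899 IH) (Lpn K49.v9424))))))))))
def v9421 : LQ := Led Lsl_gf K49.v2663
theorem f675843 : Led Lsl_gf K49.v2663 = v9421 :=
  Lrfl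
def v2631 : LQ := Led Lsl_dt (LP (LK LD1_c1 LD2_c50 LD3_c18))
def v9374 : LQ := Led Lsl_gt v2631
theorem f675585 : Led Lsl_gt v2631 = v9374 :=
  Lrfl
theorem f529926 : Led Lsl_dt (LP (LK LD1_c1 LD2_c50 LD3_c18)) = v2631 :=
  Lrfl
def v7112 : LQ := Led Lsl_et (LP (LK LD1_c3 LD2_c39 LD3_c15))
theorem f661173 : Led Lsl_et (LP (LK LD1_c3 LD2_c39 LD3_c15)) = v7112 :=
  Lrfl
theorem f661176 : Led Lsl_ef (LP (LK LD1_c3 LD2_c39 LD3_c15)) = v7112 :=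
  Lgr Lrot88 (Lpr_et (f661173 IH) (Lpn v7112))
theorem f675587 : Led Lsl_dt v7112 = v9374 :=
  Lgr Lrot56 (Lpe (f661176 IH) (Lpr_gt (K35.f12402 IH) (Lpe (K28.f12362 IH) (Lpr_dt (K2.f5245 IH) (Lpr_gt (K4.f94670 IH) (Lpe (K2.f5763 IH) (Lpr_et (K30.f5769 IH) (Lpr_gt (K33.f94672 IH) (Lpr_dt (f529926 IH) (Lpr_gt (f675585 IH) (Lpn v9374)))))))))))
def v9369 : LQ := Led Lsl_dt K34.v2627
theorem f675537 : Led Lsl_dt K34.v2627 = v9369 :=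
  Lrfl
theorem f529928 : Led Lsl_df (LP (LK LD1_c1 LD2_c50 LD3_c18)) = v2631 :=
  Lgr Lrot38 (Lpr_dt (f529926 IH) (Lpn v2631))
theorem f675541 : Led Lsl_ff v2631 = v9369 :=
  Lgr Lrot19 (Lpe (f529928 IH) (Lpqs (K35.f528041 IH) (Lpr_ft (K34.f527954 IH) (Lpr_dt (f675537 IH) (Lpn v9369)))))
theorem f675546 : Led Lsl_ft v2631 = v9369 :=
  Lgr Lrot48 (Lpr_ff (f675541 IH) (Lpn v9369))
def v2632 : LQ := Led Lsl_dt (LP (LK LD1_c1 LD2_c50 LD3_c19))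
theorem f529930 : Led Lsl_dt (LP (LK LD1_c1 LD2_c50 LD3_c19)) = v2632 :=
  Lrfl
theorem f529931 : Led Lsl_df (LP (LK LD1_c1 LD2_c50 LD3_c19)) = v2632 :=
  Lgr Lrot38 (Lpr_dt (f529930 IH) (Lpn v2632))
theorem f675538 : Led Lsl_af v2632 = v9369 :=
  Lgr Lrot117 (Lpe (f529931 IH) (Lpq (K34.f528000 IH) (Lpr_at (K34.f527953 IH) (Lpr_dt (f675537 IH) (Lpn v9369)))))
theorem f675586 : Led Lsl_gf v2632 = v9374 :=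
  Lgr Lrot76 (Lpr_af (f675538 IH) (Lpe (f675546 IH) (Lpr_gt (f675585 IH) (Lpn v9374))))
def v7119 : LQ := Led Lsl_gt (LP (LK LD1_c3 LD2_c39 LD3_c36))
theorem f661307 : Led Lsl_gt (LP (LK LD1_c3 LD2_c39 LD3_c36)) = v7119 :=
  Lrfl
theorem f5646 : Led Lsl_dt (LP (LK LD1_c1 LD2_c46 LD3_c43)) = (LP (LK LD1_c3 LD2_c39 LD3_c36)) :=
  Lre_d IH (LK LD1_c1 LD2_c46 LD3_c43) (LK LD1_c3 LD2_c39 LD3_c36) Lrfl Lrfl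
def v7026 : LQ := Led Lsl_et (LP (LK LD1_c3 LD2_c36 LD3_c53))
theorem f660412 : Led Lsl_et (LP (LK LD1_c3 LD2_c36 LD3_c53)) = v7026 :=
  Lrfl
theorem f660415 : Led Lsl_ef (LP (LK LD1_c3 LD2_c36 LD3_c53)) = v7026 :=
  Lgr Lrot88 (Lpr_et (f660412 IH) (Lpn v7026))
theorem f661310 : Led Lsl_dt v7026 = v7119 :=
  Lgr Lrot56 (Lpe (f660415 IH) (Lpr_gt (K30.f471336 IH) (Lpe (K28.f17510 IH) (Lpr_dt (K3.f10482 IH) (Lpr_gt (K3.f17467 IH) (Lpe (K2.f4978 IH) (Lpr_et (K2.f5340 IH) (Lpr_gt (K33.f5645 IH) (Lpr_dt (f5646 IH) (Lpr_gt (f661307 IH) (Lpn v7119)))))))))))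
theorem f128270 : Led Lsl_ff (LP (LK LD1_c0 LD2_c50 LD3_c0)) = (LP (LK LD1_c0 LD2_c49 LD3_c48)) :=
  Lgr Lrot23 (Lpe (K2.f90064 IH) (Lpr_ft (K5.f128263 IH) (Lpr_ct (K8.f108021 IH) (Lpn (LP (LK LD1_c0 LD2_c49 LD3_c48))))))
theorem f128286 : Led Lsl_at (LP (LK LD1_c0 LD2_c49 LD3_c61)) = (LP (LK LD1_c0 LD2_c49 LD3_c48)) :=
  Lgr Lrot100 (Lpr_af (K5.f128284 IH) (Lpn (LP (LK LD1_c0 LD2_c49 LD3_c48))))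
theorem f425243 : Led Lsl_ff (LP (LK LD1_c0 LD2_c49 LD3_c61)) = (LP (LK LD1_c0 LD2_c49 LD3_c44)) :=
  Lgr Lrot30 (Lpr_at (f128286 IH) (Lpe (f128270 IH) (Lpr_at (K29.f425223 IH) (Lpn (LP (LK LD1_c0 LD2_c49 LD3_c44))))))
theorem f425247 : Led Lsl_ft (LP (LK LD1_c0 LD2_c49 LD3_c61)) = (LP (LK LD1_c0 LD2_c49 LD3_c44)) :=
  Lgr Lrot48 (Lpr_ff (f425243 IH) (Lpn (LP (LK LD1_c0 LD2_c49 LD3_c44))))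
theorem f425249 : Led Lsl_ef (LP (LK LD1_c3 LD2_c39 LD3_c13)) = (LP (LK LD1_c3 LD2_c38 LD3_c8)) :=
  Lgr Lrot21 (Lpr_ft (K4.f5740 IH) (Lpr_et (K4.f5749 IH) (Lpr_ft (f425247 IH) (Lpr_et (K3.f97324 IH) (Lpr_ft (K34.f86859 IH) (Lpn (LP (LK LD1_c3 LD2_c38 LD3_c8))))))))
theorem f464136 : Led Lsl_et (LP (LK LD1_c3 LD2_c28 LD3_c1)) = (LP (LK LD1_c3 LD2_c33 LD3_c34)) :=
  Lgr Lrot158 (Lpr_cf (K28.f464131 IH) (Lpr_ef (f425249 IH) (Lpr_cf (K29.f97334 IH) (Lpn (LP (LK LD1_c3 LD2_c33 LD3_c34))))))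
theorem f661311 : Led Lsl_gf (LP (LK LD1_c3 LD2_c39 LD3_c39)) = v7119 :=
  Lgr Lrot145 (Lpe (K47.f479659 IH) (Lpr_et (K33.f479660 IH) (Lpr_gt (K33.f479750 IH) (Lpr_dt (K33.f464177 IH) (Lpe (K33.f479761 IH) (Lpe (K28.f455312 IH) (Lpr_et (f464136 IH) (Lpe (K32.f471378 IH) (Lpr_ef (f660415 IH) (Lpr_dt (f661310 IH) (Lpn v7119)))))))))))
theorem f660879 : Led Lsl_et (LP (LK LD1_c6 LD2_c52 LD3_c23)) = K47.v7091 :=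
  Lgr Lrot121 (Lpr_dt (K33.f464177 IH) (Lpe (K33.f10510 IH) (Lpe (K8.f10509 IH) (Lpr_et (K8.f10508 IH) (Lpr_gf (K3.f10499 IH) (Lpe (K3.f10495 IH) (Lpr_dt (K29.f10502 IH) (Lpe (K29.f10503 IH) (Lpe (K29.f441998 IH) (Lpr_gf (K47.f660873 IH) (Lpn K47.v7091)))))))))))
theorem f660884 : Led Lsl_ef (LP (LK LD1_c6 LD2_c52 LD3_c23)) = K47.v7091 :=
  Lgr Lrot88 (Lpr_et (f660879 IH) (Lpn K47.v7091))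
theorem f479584 : Led Lsl_dt (LP (LK LD1_c13 LD2_c26 LD3_c58)) = (LP (LK LD1_c7 LD2_c5 LD3_c47)) :=
  Lre_d IH (LK LD1_c13 LD2_c26 LD3_c58) (LK LD1_c7 LD2_c5 LD3_c47) Lrfl Lrfl
theorem f660878 : Led Lsl_df (LP (LK LD1_c7 LD2_c14 LD3_c43)) = K47.v7091 :=
  Lgr Lrot155 (Lpr_gt (K47.f467441 IH) (Lpr_ct (K47.f6017 IH) (Lpr_gt (K47.f525034 IH) (Lpe (K47.f528523 IH) (Lpr_dt (f479584 IH) (Lpe (K47.f489652 IH) (Lpe (K47.f660534 IH) (Lpr_cf (K29.f481006 IH) (Lpr_gf (K47.f660873 IH) (Lpn K47.v7091))))))))))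
theorem f6016 : Led Lsl_dt (LP (LK LD1_c1 LD2_c45 LD3_c27)) = (LP (LK LD1_c3 LD2_c37 LD3_c9)) :=
  Lre_d IH (LK LD1_c1 LD2_c45 LD3_c27) (LK LD1_c3 LD2_c37 LD3_c9) Lrfl Lrfl
theorem f661313 : Led Lsl_gt K49.v2439 = v7026 :=
  Lgr Lrot137 (Lpe (K49.f519752 IH) (Lpr_dt (f6016 IH) (Lpe (K47.f467441 IH) (Lpr_df (f660878 IH) (Lpe (f660884 IH) (Lpe (K33.f479750 IH) (Lpe (K33.f479660 IH) (Lpr_dt (K47.f479659 IH) (Lpr_gf (f661311 IH) (Lpe (f661310 IH) (Lpn v7026)))))))))))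
theorem f530180 : Led Lsl_cf K49.v2439 = K49.v2663 :=
  Lgr Lrot39 (Lpe (K49.f519754 IH) (Lpr_ct (K33.f467433 IH) (Lpr_et (K49.f530179 IH) (Lpn K49.v2663))))
theorem f675590 : Led Lsl_gf v7112 = K49.v2663 :=
  Lgr Lrot144 (Lpr_dt (f675587 IH) (Lpe (f675586 IH) (Lpe (f529931 IH) (Lpe (K48.f479657 IH) (Lpe (K55.f479663 IH) (Lpr_gf (f661311 IH) (Lpe (f661310 IH) (Lpe (f661313 IH) (Lpr_cf (f530180 IH) (Lpn K49.v2663))))))))))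
theorem f661177 : Led Lsl_at K49.v2704 = v7112 :=
  Lgr Lrot80 (Lpe (K49.f530483 IH) (Lpr_af (K34.f530476 IH) (Lpqs (K41.f530778 IH) (Lpr_ef (f661176 IH) (Lpn v7112)))))
theorem f675845 : Led Lsl_ff K49.v2704 = v9421 :=
  Lgr Lrot52 (Lpr_at (f661177 IH) (Lpr_gf (f675590 IH) (Lpr_gf (f675843 IH) (Lpn v9421))))
theorem f675846 : Led Lsl_bt K49.v3479 = v9421 :=
  Lgr Lrot35 (Lpe (K49.f625832 IH) (Lpr_bf (K49.f530484 IH) (Lpr_ff (f675845 IH) (Lpn v9421))))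
def v2732 : LQ := Led Lsl_et (LP (LK LD1_c1 LD2_c54 LD3_c15))
theorem f531654 : Led Lsl_et (LP (LK LD1_c1 LD2_c54 LD3_c15)) = v2732 :=
  Lrfl
theorem f528159 : Led Lsl_af (LP (LK LD1_c1 LD2_c51 LD3_c38)) = (LP (LK LD1_c3 LD2_c49 LD3_c1)) :=
  Lgr Lrot50 (Lpr_et (K33.f487832 IH) (Lpr_at (K35.f528153 IH) (Lpe (K29.f477603 IH) (Lpn (LP (LK LD1_c3 LD2_c49 LD3_c1))))))
theorem f528206 : Led Lsl_ff (LP (LK LD1_c1 LD2_c54 LD3_c15)) = (LP (LK LD1_c1 LD2_c51 LD3_c38)) :=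
  Lgr Lrot25 (Lpr_bt (K29.f437652 IH) (Lpr_ft (K35.f490281 IH) (Lpq (K35.f528201 IH) (Lpr_bt (K33.f487859 IH) (Lpn (LP (LK LD1_c1 LD2_c51 LD3_c38)))))))
theorem f529075 : Led Lsl_af (LP (LK LD1_c1 LD2_c51 LD3_c37)) = (LP (LK LD1_c1 LD2_c54 LD3_c15)) :=
  Lgr Lrot45 (Lpr_ft (K49.f529073 IH) (Lpe (f528159 IH) (Lpe (f528206 IH) (Lpn (LP (LK LD1_c1 LD2_c54 LD3_c15))))))
theorem f529077 : Led Lsl_at (LP (LK LD1_c1 LD2_c51 LD3_c37)) = (LP (LK LD1_c1 LD2_c54 LD3_c15)) :=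
  Lgr Lrot100 (Lpr_af (f529075 IH) (Lpn (LP (LK LD1_c1 LD2_c54 LD3_c15))))
theorem f531655 : Led Lsl_af K49.v2663 = v2732 :=
  Lgr Lrot50 (Lpe (K49.f530181 IH) (Lpr_at (f529077 IH) (Lpr_et (f531654 IH) (Lpn v2732))))
def v7611 : LQ := Led Lsl_et (LP (LK LD1_c3 LD2_c53 LD3_c8))
theorem f667250 : Led Lsl_et (LP (LK LD1_c3 LD2_c53 LD3_c8)) = v7611 :=
  Lrfl
theorem f531657 : Led Lsl_ef (LP (LK LD1_c1 LD2_c54 LD3_c15)) = v2732 :=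
  Lgr Lrot88 (Lpr_et (f531654 IH) (Lpn v2732))
theorem f667254 : Led Lsl_ff v2732 = v7611 :=
  Lgr Lrot72 (Lpe (f531657 IH) (Lpe (K35.f528290 IH) (Lpr_et (K33.f487832 IH) (Lpr_ft (K35.f528167 IH) (Lpr_et (f667250 IH) (Lpn v7611))))))
theorem f675844 : Led Lsl_gt v7611 = v9421 :=
  Lgr Lrot5 (Lpe (f667254 IH) (Lpe (f531655 IH) (Lpr_gf (f675843 IH) (Lpn v9421))))
theorem f531656 : Led Lsl_bf K49.v890 = v2732 :=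
  Lgr Lrot96 (Lpe (K49.f490280 IH) (Lpr_bt (K29.f456617 IH) (Lpr_et (f531654 IH) (Lpn v2732))))
theorem f667255 : Led Lsl_bt K49.v2771 = v7611 :=
  Lgr Lrot35 (Lpe (K49.f535520 IH) (Lpr_bf (f531656 IH) (Lpr_ff (f667254 IH) (Lpn v7611))))
def v7752 : LQ := Led Lsl_et (LP (LK LD1_c3 LD2_c56 LD3_c24))
theorem f668193 : Led Lsl_et (LP (LK LD1_c3 LD2_c56 LD3_c24)) = v7752 :=
  Lrfl
theorem f668196 : Led Lsl_ff K49.v2733 = v7752 :=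
  Lgr Lrot72 (Lpe (K49.f531662 IH) (Lpr_ft (K35.f528216 IH) (Lpe (K33.f480126 IH) (Lpr_ft (K35.f528173 IH) (Lpr_et (f668193 IH) (Lpn v7752))))))
theorem f531661 : Led Lsl_cf K49.v890 = K49.v2733 :=
  Lgr Lrot39 (Lpe (K49.f490280 IH) (Lpr_ct (K29.f446416 IH) (Lpr_et (K49.f531660 IH) (Lpn K49.v2733))))
theorem f668198 : Led Lsl_ct K49.v2771 = v7752 :=
  Lgr Lrot40 (Lpe (K49.f535520 IH) (Lpr_cf (f531661 IH) (Lpr_ff (f668196 IH) (Lpn v7752))))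
theorem f532076 : Led Lsl_af (LP (LK LD1_c7 LD2_c20 LD3_c39)) = (LP (LK LD1_c7 LD2_c26 LD3_c3)) :=
  Lgr Lrot45 (Lpr_ft (K34.f532074 IH) (Lpe (K34.f531898 IH) (Lpr_ft (K34.f531879 IH) (Lpn (LP (LK LD1_c7 LD2_c26 LD3_c3))))))
theorem f532431 : Led Lsl_gf (LP (LK LD1_c7 LD2_c20 LD3_c39)) = (LP (LK LD1_c7 LD2_c24 LD3_c40)) :=
  Lgr Lrot76 (Lpr_af (f532076 IH) (Lpe (K34.f531879 IH) (Lpe (K49.f483650 IH) (Lpn (LP (LK LD1_c7 LD2_c24 LD3_c40))))))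
theorem f668197 : Led Lsl_gt K49.v7154 = v7752 :=
  Lgr Lrot131 (Lpe (K49.f661584 IH) (Lpr_dt (K48.f203921 IH) (Lpr_gf (f532431 IH) (Lpe (K49.f483602 IH) (Lpe (K34.f519251 IH) (Lpe (K34.f142376 IH) (Lpr_dt (K32.f142403 IH) (Lpe (K33.f479618 IH) (Lpe (K29.f458187 IH) (Lpr_et (f668193 IH) (Lpn v7752)))))))))))
theorem f675904 : Led Lsl_gt v6703 = K49.v6882 :=
  Lgr Lrot82 (Lpr_bf (f666117 IH) (Lpe (f666118 IH) (Lpr_gf (K49.f675899 IH) (Lpe (f675902 IH) (Lpr_bt (f675846 IH) (Lpe (f675844 IH) (Lpe (f667255 IH) (Lpr_ct (f668198 IH) (Lpe (f668197 IH) (Lpe (K49.f661587 IH) (Lpn K49.v6882)))))))))))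
theorem f676506 : Led Lsl_gf v6703 = v9529 :=
  Lgr Lrot47 (Lpr_gt (f675904 IH) (Lpe (f659218 IH) (Lpr_ff (f676503 IH) (Lpn v9529))))
theorem f657903 : Led Lsl_at K49.v2443 = v6703 :=
  Lgr Lrot80 (Lpe (K49.f519770 IH) (Lpr_af (K33.f519763 IH) (Lpq (K33.f519790 IH) (Lpr_ef (f657902 IH) (Lpn v6703)))))
theorem f676507 : Led Lsl_gt K49.v9108 = v9529 :=
  Lgr Lrot5 (Lpe (K49.f673608 IH) (Lpr_at (f657903 IH) (Lpr_gf (f676506 IH) (Lpn v9529))))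
theorem f456868 : Led Lsl_ef (LP (LK LD1_c0 LD2_c49 LD3_c25)) = K49.v706 :=
  Lgr Lrot88 (Lpr_et (K49.f456867 IH) (Lpn K49.v706))
theorem f519771 : Led Lsl_bf K49.v706 = K49.v2443 :=
  Lgr Lrot96 (Lpe (f456868 IH) (Lpr_bt (K29.f456854 IH) (Lpr_et (K49.f519770 IH) (Lpn K49.v2443))))
def v3311 : LQ := Led Lsl_ft K49.v706
theorem f625070 : Led Lsl_ft K49.v706 = v3311 :=
  Lrfl
theorem f673609 : Led Lsl_bt v3311 = K49.v9108 :=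
  Lgr Lrot35 (Lpe (f625070 IH) (Lpr_bf (f519771 IH) (Lpr_ff (K49.f673608 IH) (Lpn K49.v9108))))
def v9110 : LQ := Led Lsl_ft K49.v2445
theorem f673621 : Led Lsl_ft K49.v2445 = v9110 :=
  Lrfl
theorem f673624 : Led Lsl_ff K49.v2445 = v9110 :=
  Lgr Lrot3 (Lpr_ft (f673621 IH) (Lpn v9110))
theorem f522338 : Led Lsl_cf K49.v706 = K49.v2445 :=
  Lgr Lrot39 (Lpe (f456868 IH) (Lpr_ct (K29.f6644 IH) (Lpr_et (K49.f522337 IH) (Lpn K49.v2445))))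
theorem f673625 : Led Lsl_ct v3311 = v9110 :=
  Lgr Lrot40 (Lpe (f625070 IH) (Lpr_cf (f522338 IH) (Lpr_ff (f673624 IH) (Lpn v9110))))
theorem f673626 : Led Lsl_et (LP (LK LD1_c6 LD2_c58 LD3_c22)) = v9110 :=
  Lgr Lrot69 (Lpr_ff (K33.f519866 IH) (Lpr_ef (K29.f479573 IH) (Lpe (K33.f519985 IH) (Lpr_ef (K49.f522339 IH) (Lpr_ff (f673624 IH) (Lpn v9110))))))
theorem f530799 : Led Lsl_gf (LP (LK LD1_c7 LD2_c7 LD3_c16)) = (LP (LK LD1_c7 LD2_c18 LD3_c28)) :=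
  Lgr Lrot76 (Lpr_af (K41.f530787 IH) (Lpr_ff (K41.f530705 IH) (Lpr_gt (K47.f481472 IH) (Lpn (LP (LK LD1_c7 LD2_c18 LD3_c28))))))
def v6885 : LQ := Led Lsl_et (LP (LK LD1_c3 LD2_c33 LD3_c10))
theorem f659234 : Led Lsl_et (LP (LK LD1_c3 LD2_c33 LD3_c10)) = v6885 :=
  Lrfl
theorem f673627 : Led Lsl_gt v6885 = v9110 :=
  Lgr Lrot131 (Lpe (f659234 IH) (Lpr_dt (K47.f160213 IH) (Lpr_gf (f530799 IH) (Lpe (K47.f481469 IH) (Lpr_gf (K30.f483091 IH) (Lpe (K30.f97046 IH) (Lpr_dt (K29.f97056 IH) (Lpr_gf (K30.f477672 IH) (Lpe (K30.f458613 IH) (Lpr_et (f673626 IH) (Lpn v9110)))))))))))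
theorem f659235 : Led Lsl_ef (LP (LK LD1_c3 LD2_c33 LD3_c10)) = v6885 :=
  Lgr Lrot88 (Lpr_et (f659234 IH) (Lpn v6885))
theorem f661175 : Led Lsl_cf v6885 = v7112 :=
  Lgr Lrot39 (Lpe (f659235 IH) (Lpr_ct (K35.f475267 IH) (Lpr_et (f661173 IH) (Lpn v7112))))
def v7486 : LQ := Led Lsl_et (LP (LK LD1_c3 LD2_c49 LD3_c11))
theorem f665978 : Led Lsl_et (LP (LK LD1_c3 LD2_c49 LD3_c11)) = v7486 :=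
  Lrfl
theorem f665980 : Led Lsl_bf K49.v2663 = v7486 :=
  Lgr Lrot96 (Lpe (K49.f530181 IH) (Lpr_bt (K29.f467450 IH) (Lpr_et (f665978 IH) (Lpn v7486))))
def v6705 : LQ := Led Lsl_et (LP (LK LD1_c3 LD2_c26 LD3_c52))
theorem f657913 : Led Lsl_et (LP (LK LD1_c3 LD2_c26 LD3_c52)) = v6705 :=
  Lrfl
theorem f657914 : Led Lsl_ef (LP (LK LD1_c3 LD2_c26 LD3_c52)) = v6705 :=
  Lgr Lrot88 (Lpr_et (f657913 IH) (Lpn v6705))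
theorem f665981 : Led Lsl_cf v6705 = v7486 :=
  Lgr Lrot39 (Lpe (f657914 IH) (Lpr_ct (K33.f476951 IH) (Lpr_et (f665978 IH) (Lpn v7486))))
theorem f676542 : Led Lsl_gf v6705 = v9533 :=
  Lgr Lrot126 (Lpr_cf (f665981 IH) (Lpe (f665980 IH) (Lpe (f675590 IH) (Lpe (f661175 IH) (Lpr_gt (f673627 IH) (Lpe (f673625 IH) (Lpr_bt (f673609 IH) (Lpr_gt (f676507 IH) (Lpe (f676505 IH) (Lpr_ct (f676541 IH) (Lpn v9533)))))))))))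
theorem f785462 : Led Lsl_dt v6705 = v20198 :=
  Lgr Lrot57 (Lpr_gf (f676542 IH) (Lpe (f676541 IH) (Lpqs (K49.f654543 IH) (Lpe (K49.f625119 IH) (Lpr_dt (f493382 IH) (Lpr_gt (f510470 IH) (Lpe (f510468 IH) (Lpe (K46.f65924 IH) (Lpe (K4.f65926 IH) (Lpr_gf (f785460 IH) (Lpn v20198)))))))))))
theorem f676513 : Led Lsl_ff v6705 = K49.v9530 :=
  Lgr Lrot72 (Lpe (f657914 IH) (Lpr_ft (K35.f528657 IH) (Lpr_et (K29.f480712 IH) (Lpe (K35.f528913 IH) (Lpr_et (K49.f676510 IH) (Lpn K49.v9530))))))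
theorem f676517 : Led Lsl_dt (LP (LK LD1_c6 LD2_c54 LD3_c13)) = K49.v9530 :=
  Lgr Lrot42 (Lpr_df (K49.f676515 IH) (Lpn K49.v9530))
theorem f785466 : Led Lsl_ff (LP (LK LD1_c6 LD2_c54 LD3_c13)) = v20198 :=
  Lgr Lrot19 (Lpr_dt (f676517 IH) (Lpe (f676513 IH) (Lpr_dt (f785462 IH) (Lpn v20198))))
theorem f785467 : Led Lsl_ft (LP (LK LD1_c6 LD2_c54 LD3_c13)) = v20198 :=
  Lgr Lrot48 (Lpr_ff (f785466 IH) (Lpn v20198))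
theorem f676534 : Led Lsl_bt (LP (LK LD1_c13 LD2_c7 LD3_c3)) = (LP (LK LD1_c6 LD2_c54 LD3_c13)) :=
  Lre_b IH (LK LD1_c13 LD2_c7 LD3_c3) (LK LD1_c6 LD2_c54 LD3_c13) Lrfl Lrfl
def v9101 : LQ := Led Lsl_gf K49.v2439
theorem f673567 : Led Lsl_gf K49.v2439 = v9101 :=
  Lrfl
def v7088 : LQ := Led Lsl_gt (LP (LK LD1_c3 LD2_c38 LD3_c30))
theorem f660807 : Led Lsl_gt (LP (LK LD1_c3 LD2_c38 LD3_c30)) = v7088 :=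
  Lrfl
theorem f625035 : Led Lsl_df K34.v2366 = K49.v3304 :=
  Lgr Lrot38 (Lpr_dt (K49.f625033 IH) (Lpn K49.v3304))
theorem f660810 : Led Lsl_df K47.v6731 = v7088 :=
  Lgr Lrot84 (Lpe (K47.f658110 IH) (Lpr_df (f625035 IH) (Lpe (K49.f625031 IH) (Lpe (K49.f456828 IH) (Lpe (K33.f17827 IH) (Lpe (K43.f108482 IH) (Lpe (K33.f489975 IH) (Lpr_dt (K35.f5055 IH) (Lpr_gt (f660807 IH) (Lpn v7088))))))))))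
theorem f660812 : Led Lsl_dt K47.v6731 = v7088 :=
  Lgr Lrot42 (Lpr_df (f660810 IH) (Lpn v7088))
theorem f673571 : Led Lsl_et K47.v6731 = v9101 :=
  Lgr Lrot121 (Lpr_dt (f660812 IH) (Lpe (f660807 IH) (Lpe (K35.f5055 IH) (Lpr_et (K35.f5054 IH) (Lpr_gf (K3.f5051 IH) (Lpe (K33.f5050 IH) (Lpr_dt (K49.f4991 IH) (Lpr_gf (K49.f661259 IH) (Lpe (K49.f661261 IH) (Lpr_gf (f673567 IH) (Lpn v9101)))))))))))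
theorem f673573 : Led Lsl_ef K47.v6731 = v9101 :=
  Lgr Lrot88 (Lpr_et (f673571 IH) (Lpn v9101))
theorem f658106 : Led Lsl_bf (LP (LK LD1_c3 LD2_c28 LD3_c5)) = K47.v6731 :=
  Lgr Lrot24 (Lpr_bt (K47.f658105 IH) (Lpn K47.v6731))
theorem f673574 : Led Lsl_bt K47.v6732 = v9101 :=
  Lgr Lrot119 (Lpe (K47.f658112 IH) (Lpr_bf (f658106 IH) (Lpr_ef (f673573 IH) (Lpn v9101))))
theorem f658113 : Led Lsl_cf K33.v2285 = K47.v6732 :=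
  Lgr Lrot39 (Lpe (K33.f511694 IH) (Lpr_ct (K24.f455147 IH) (Lpr_et (K47.f658112 IH) (Lpn K47.v6732))))
def v7097 : LQ := Led Lsl_at (LP (LK LD1_c3 LD2_c38 LD3_c57))
theorem f660960 : Led Lsl_at (LP (LK LD1_c3 LD2_c38 LD3_c57)) = v7097 :=
  Lrfl
theorem f522497 : Led Lsl_af (LP (LK LD1_c1 LD2_c46 LD3_c23)) = K33.v2472 :=
  Lgr Lrot117 (Lpr_dt (K29.f4409 IH) (Lpr_at (K29.f456985 IH) (Lpq (K33.f517135 IH) (Lpr_dt (K33.f522496 IH) (Lpn K33.v2472)))))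
theorem f660962 : Led Lsl_cf K33.v2472 = v7097 :=
  Lgr Lrot1 (Lpe (f522497 IH) (Lpr_ct (K29.f4447 IH) (Lpr_at (f660960 IH) (Lpn v7097))))
theorem f660964 : Led Lsl_gt (LP (LK LD1_c3 LD2_c53 LD3_c6)) = v7097 :=
  Lgr Lrot46 (Lpr_gf (K29.f482449 IH) (Lpe (K47.f515323 IH) (Lpr_at (f660960 IH) (Lpn v7097))))
theorem f467995 : Led Lsl_bt (LP (LK LD1_c7 LD2_c47 LD3_c60)) = (LP (LK LD1_c3 LD2_c53 LD3_c6)) :=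
  Lre_b IH (LK LD1_c7 LD2_c47 LD3_c60) (LK LD1_c3 LD2_c53 LD3_c6) Lrfl Lrfl
theorem f474423 : Led Lsl_ct (LP (LK LD1_c7 LD2_c47 LD3_c60)) = (LP (LK LD1_c3 LD2_c53 LD3_c16)) :=
  Lre_c IH (LK LD1_c7 LD2_c47 LD3_c60) (LK LD1_c3 LD2_c53 LD3_c16) Lrfl Lrfl
def v7614 : LQ := Led Lsl_gf (LP (LK LD1_c3 LD2_c53 LD3_c16))
theorem f667280 : Led Lsl_gf (LP (LK LD1_c3 LD2_c53 LD3_c16)) = v7614 :=
  Lrfl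
def v7027 : LQ := Led Lsl_et (LP (LK LD1_c3 LD2_c37 LD3_c8))
theorem f660418 : Led Lsl_et (LP (LK LD1_c3 LD2_c37 LD3_c8)) = v7027 :=
  Lrfl
theorem f660419 : Led Lsl_bf K49.v2439 = v7027 :=
  Lgr Lrot96 (Lpe (K49.f519754 IH) (Lpr_bt (K33.f467437 IH) (Lpr_et (f660418 IH) (Lpn v7027))))
theorem f673580 : Led Lsl_cf v7614 = v7027 :=
  Lgr Lrot160 (Lpe (f667280 IH) (Lpe (f474423 IH) (Lpr_bt (f467995 IH) (Lpr_gt (f660964 IH) (Lpe (f660962 IH) (Lpe (K33.f522500 IH) (Lpr_cf (f658113 IH) (Lpr_bt (f673574 IH) (Lpe (f673567 IH) (Lpr_bf (f660419 IH) (Lpn v7027)))))))))))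
theorem f660420 : Led Lsl_ef (LP (LK LD1_c3 LD2_c37 LD3_c8)) = v7027 :=
  Lgr Lrot88 (Lpr_et (f660418 IH) (Lpn v7027))
theorem f660421 : Led Lsl_bt K49.v2439 = v7027 :=
  Lgr Lrot119 (Lpe (K49.f519752 IH) (Lpe (K33.f6022 IH) (Lpr_ef (f660420 IH) (Lpn v7027))))
theorem f665982 : Led Lsl_ef (LP (LK LD1_c3 LD2_c49 LD3_c11)) = v7486 :=
  Lgr Lrot88 (Lpr_et (f665978 IH) (Lpn v7486))
theorem f665985 : Led Lsl_ct v6705 = v7486 :=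
  Lgr Lrot15 (Lpe (f657913 IH) (Lpr_cf (K29.f476945 IH) (Lpr_ef (f665982 IH) (Lpn v7486))))
theorem f673581 : Led Lsl_bt v7614 = v6705 :=
  Lgr Lrot128 (Lpr_cf (f673580 IH) (Lpe (f660421 IH) (Lpr_cf (f530180 IH) (Lpr_bf (f665980 IH) (Lpe (f665985 IH) (Lpn v6705))))))
theorem f673583 : Led Lsl_et v7614 = (LP (LK LD1_c6 LD2_c55 LD3_c33)) :=
  Lgr Lrot158 (Lpr_cf (f673580 IH) (Lpe (f660418 IH) (Lpe (K33.f476949 IH) (Lpn (LP (LK LD1_c6 LD2_c55 LD3_c33))))))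
theorem f157583 : Led Lsl_et (LP (LK LD1_c3 LD2_c29 LD3_c41)) = (LP (LK LD1_c1 LD2_c41 LD3_c32)) :=
  Lre_e IH (LK LD1_c3 LD2_c29 LD3_c41) (LK LD1_c1 LD2_c41 LD3_c32) Lrfl Lrfl
theorem f157584 : Led Lsl_dt (LP (LK LD1_c3 LD2_c29 LD3_c41)) = (LP (LK LD1_c7 LD2_c0 LD3_c56)) :=
  Lre_d IH (LK LD1_c3 LD2_c29 LD3_c41) (LK LD1_c7 LD2_c0 LD3_c56) Lrfl Lrfl
theorem f157585 : Led Lsl_gt (LP (LK LD1_c13 LD2_c18 LD3_c27)) = (LP (LK LD1_c7 LD2_c0 LD3_c56)) :=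
  Lre_g IH (LK LD1_c13 LD2_c18 LD3_c27) (LK LD1_c7 LD2_c0 LD3_c56) Lrfl Lrfl
theorem f673586 : Led Lsl_dt v7614 = (LP (LK LD1_c13 LD2_c18 LD3_c27)) :=
  Lgr Lrot136 (Lpr_et (f673583 IH) (Lpe (K33.f480764 IH) (Lpe (K3.f88564 IH) (Lpe (K34.f111957 IH) (Lpr_gf (K8.f111976 IH) (Lpr_df (K8.f157513 IH) (Lpe (K4.f95987 IH) (Lpe (f157583 IH) (Lpr_dt (f157584 IH) (Lpe (f157585 IH) (Lpn (LP (LK LD1_c13 LD2_c18 LD3_c27)))))))))))))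
theorem f673587 : Led Lsl_df v7614 = (LP (LK LD1_c13 LD2_c18 LD3_c27)) :=
  Lgr Lrot38 (Lpr_dt (f673586 IH) (Lpn (LP (LK LD1_c13 LD2_c18 LD3_c27))))
theorem f785464 : Led Lsl_bf (LP (LK LD1_c13 LD2_c18 LD3_c27)) = v20198 :=
  Lgr Lrot93 (Lpe (f673587 IH) (Lpr_bt (f673581 IH) (Lpr_dt (f785462 IH) (Lpn v20198))))
theorem f785474 : Led Lsl_ff (LP (LK LD1_c13 LD2_c7 LD3_c3)) = (LP (LK LD1_c13 LD2_c18 LD3_c27)) :=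
  Lgr Lrot25 (Lpr_bt (f676534 IH) (Lpr_ft (f785467 IH) (Lpe (f785464 IH) (Lpn (LP (LK LD1_c13 LD2_c18 LD3_c27))))))
theorem f785475 : Led Lsl_ft (LP (LK LD1_c13 LD2_c18 LD3_c27)) = (LP (LK LD1_c13 LD2_c7 LD3_c3)) :=
  Leop (Lpr_ff (f785474 IH) (Lpn (LP (LK LD1_c13 LD2_c18 LD3_c27))))
theorem seed_1506 : LEOK LG_f (LK LD1_c13 LD2_c18 LD3_c27) :=
  Leoe_f (LK LD1_c13 LD2_c18 LD3_c27) (f785475 IH)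
def v20200 : LQ := Led Lsl_et (LP (LK LD1_c6 LD2_c51 LD3_c49))
theorem f785502 : Led Lsl_et (LP (LK LD1_c6 LD2_c51 LD3_c49)) = v20200 :=
  Lrfl
theorem f523810 : Led Lsl_ff (LP (LK LD1_c6 LD2_c51 LD3_c49)) = (LP (LK LD1_c3 LD2_c25 LD3_c48)) :=
  Lgr Lrot23 (Lpr_ct (K47.f484119 IH) (Lpr_ft (K34.f523795 IH) (Lpr_ct (K34.f483029 IH) (Lpn (LP (LK LD1_c3 LD2_c25 LD3_c48))))))
theorem f102630 : Led Lsl_et (LP (LK LD1_c6 LD2_c53 LD3_c32)) = (LP (LK LD1_c3 LD2_c25 LD3_c48)) :=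
  Lre_e IH (LK LD1_c6 LD2_c53 LD3_c32) (LK LD1_c3 LD2_c25 LD3_c48) Lrfl Lrfl
theorem f525775 : Led Lsl_at (LP (LK LD1_c6 LD2_c53 LD3_c32)) = (LP (LK LD1_c7 LD2_c24 LD3_c32)) :=
  Lgr Lrot100 (Lpr_af (K45.f525763 IH) (Lpn (LP (LK LD1_c7 LD2_c24 LD3_c32))))
theorem f527346 : Led Lsl_ft (LP (LK LD1_c13 LD2_c3 LD3_c59)) = (LP (LK LD1_c6 LD2_c53 LD3_c32)) :=
  Lgr Lrot2 (Lpr_gt (K34.f458435 IH) (Lpr_gt (K34.f527344 IH) (Lpe (f525775 IH) (Lpn (LP (LK LD1_c6 LD2_c53 LD3_c32))))))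
theorem f785506 : Led Lsl_ff (LP (LK LD1_c13 LD2_c9 LD3_c21)) = v20200 :=
  Lgr Lrot72 (Lpe (K34.f479938 IH) (Lpr_ft (f527346 IH) (Lpr_et (f102630 IH) (Lpe (f523810 IH) (Lpr_et (f785502 IH) (Lpn v20200))))))
def v7307 : LQ := Led Lsl_et (LP (LK LD1_c3 LD2_c44 LD3_c46))
theorem f664443 : Led Lsl_et (LP (LK LD1_c3 LD2_c44 LD3_c46)) = v7307 :=
  Lrfl
theorem f523814 : Led Lsl_ff (LP (LK LD1_c3 LD2_c44 LD3_c46)) = (LP (LK LD1_c1 LD2_c49 LD3_c37)) :=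
  Lgr Lrot3 (Lpr_ft (K34.f523795 IH) (Lpn (LP (LK LD1_c1 LD2_c49 LD3_c37))))
theorem f527367 : Led Lsl_ft (LP (LK LD1_c7 LD2_c3 LD3_c17)) = (LP (LK LD1_c3 LD2_c45 LD3_c3)) :=
  Lgr Lrot2 (Lpr_gt (K48.f457513 IH) (Lpr_gt (K48.f527365 IH) (Lpe (K45.f525777 IH) (Lpn (LP (LK LD1_c3 LD2_c45 LD3_c3))))))
theorem f664447 : Led Lsl_ff (LP (LK LD1_c13 LD2_c22 LD3_c42)) = v7307 :=
  Lgr Lrot72 (Lpe (K48.f661889 IH) (Lpr_ft (f527367 IH) (Lpr_et (K45.f85258 IH) (Lpe (f523814 IH) (Lpr_et (f664443 IH) (Lpn v7307))))))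
theorem f664449 : Led Lsl_ft (LP (LK LD1_c13 LD2_c22 LD3_c42)) = v7307 :=
  Lgr Lrot48 (Lpr_ff (f664447 IH) (Lpn v7307))
theorem f785507 : Led Lsl_ct v7307 = v20200 :=
  Lgr Lrot40 (Lpe (f664449 IH) (Lpe (K48.f661885 IH) (Lpr_ff (f785506 IH) (Lpn v20200))))
theorem f664445 : Led Lsl_bf (LP (LK LD1_c7 LD2_c0 LD3_c47)) = v7307 :=
  Lgr Lrot96 (Lpr_et (K29.f107237 IH) (Lpr_bt (K29.f481456 IH) (Lpr_et (f664443 IH) (Lpn v7307))))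
def v11925 : LQ := Led Lsl_ct K46.v3942
theorem f686679 : Led Lsl_ct K46.v3942 = v11925 :=
  Lrfl
theorem f785509 : Led Lsl_gt v11925 = v20200 :=
  Lgr Lrot65 (Lpe (f686679 IH) (Lpr_bt (K49.f686554 IH) (Lpe (K49.f686565 IH) (Lpe (K49.f97117 IH) (Lpr_ct (K47.f97099 IH) (Lpe (K47.f514181 IH) (Lpe (K47.f489652 IH) (Lpe (K47.f660534 IH) (Lpr_bf (f664445 IH) (Lpr_ct (f785507 IH) (Lpn v20200)))))))))))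
theorem f686680 : Led Lsl_cf K46.v3942 = v11925 :=
  Lgr Lrot11 (Lpr_ct (f686679 IH) (Lpn v11925))
theorem f12220 : Led Lsl_dt (LP (LK LD1_c3 LD2_c55 LD3_c45)) = (LP (LK LD1_c1 LD2_c54 LD3_c28)) :=
  Lre_d IH (LK LD1_c3 LD2_c55 LD3_c45) (LK LD1_c1 LD2_c54 LD3_c28) Lrfl Lrfl
theorem f12221 : Led Lsl_gt (LP (LK LD1_c7 LD2_c53 LD3_c15)) = (LP (LK LD1_c3 LD2_c55 LD3_c45)) :=
  Lre_g IH (LK LD1_c7 LD2_c53 LD3_c15) (LK LD1_c3 LD2_c55 LD3_c45) Lrfl Lrfl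
theorem f785511 : Led Lsl_df (LP (LK LD1_c7 LD2_c53 LD3_c15)) = v20200 :=
  Lgr Lrot153 (Lpr_gt (f12221 IH) (Lpr_dt (f12220 IH) (Lpe (K33.f12222 IH) (Lpr_df (K47.f490319 IH) (Lpe (K29.f490323 IH) (Lpr_df (K29.f491669 IH) (Lpr_gf (K46.f628171 IH) (Lpr_cf (f686680 IH) (Lpr_gt (f785509 IH) (Lpn v20200))))))))))
theorem f785513 : Led Lsl_et (LP (LK LD1_c7 LD2_c53 LD3_c15)) = (LP (LK LD1_c14 LD2_c52 LD3_c44)) :=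
  Lre_e IH (LK LD1_c7 LD2_c53 LD3_c15) (LK LD1_c14 LD2_c52 LD3_c44) Lrfl Lrfl
theorem f525861 : Led Lsl_et (LP (LK LD1_c22 LD2_c12 LD3_c53)) = (LP (LK LD1_c13 LD2_c3 LD3_c11)) :=
  Lre_e IH (LK LD1_c22 LD2_c12 LD3_c53) (LK LD1_c13 LD2_c3 LD3_c11) Lrfl Lrfl
theorem f785514 : Led Lsl_dt (LP (LK LD1_c14 LD2_c52 LD3_c44)) = (LP (LK LD1_c22 LD2_c12 LD3_c53)) :=
  Lgr Lrot77 (Lpe (f785513 IH) (Lpr_df (f785511 IH) (Lpe (f785502 IH) (Lpe (K35.f91181 IH) (Lpe (f525861 IH) (Lpn (LP (LK LD1_c22 LD2_c12 LD3_c53))))))))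
theorem f785515 : Led Lsl_dt (LP (LK LD1_c14 LD2_c52 LD3_c44)) = (LP (LK LD1_c22 LD2_c12 LD3_c53)) :=
  Leop (Lpe (f785514 IH) (Lpn (LP (LK LD1_c14 LD2_c52 LD3_c44))))
theorem seed_1507 : LEOK LG_d (LK LD1_c14 LD2_c52 LD3_c44) :=
  Leoe_d (LK LD1_c14 LD2_c52 LD3_c44) (f785515 IH)
def v20212 : LQ := Led Lsl_et (LP (LK LD1_c6 LD2_c52 LD3_c6))
theorem f785651 : Led Lsl_et (LP (LK LD1_c6 LD2_c52 LD3_c6)) = v20212 :=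
  Lrfl
theorem f660991 : Led Lsl_ef (LP (LK LD1_c3 LD2_c47 LD3_c55)) = K48.v7099 :=
  Lgr Lrot73 (Lpr_dt (K33.f464046 IH) (Lpr_et (K28.f464811 IH) (Lpr_dt (K29.f459869 IH) (Lpr_et (K32.f464847 IH) (Lpr_dt (K48.f660988 IH) (Lpn K48.v7099))))))
theorem f660985 : Led Lsl_df (LP (LK LD1_c7 LD2_c45 LD3_c45)) = K48.v7099 :=
  Lgr Lrot153 (Lpe (K32.f464848 IH) (Lpr_dt (K32.f94336 IH) (Lpe (K29.f483333 IH) (Lpe (K29.f440702 IH) (Lpe (K29.f474337 IH) (Lpe (K29.f88004 IH) (Lpr_gf (K29.f474292 IH) (Lpr_cf (K29.f482909 IH) (Lpr_gt (K48.f660982 IH) (Lpn K48.v7099))))))))))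
theorem f483269 : Led Lsl_et (LP (LK LD1_c3 LD2_c25 LD3_c26)) = (LP (LK LD1_c6 LD2_c53 LD3_c1)) :=
  Lre_e IH (LK LD1_c3 LD2_c25 LD3_c26) (LK LD1_c6 LD2_c53 LD3_c1) Lrfl Lrfl
theorem f785658 : Led Lsl_gf (LP (LK LD1_c6 LD2_c53 LD3_c1)) = v20212 :=
  Lgr Lrot141 (Lpe (f483269 IH) (Lpr_dt (K46.f657591 IH) (Lpe (K46.f657599 IH) (Lpr_df (f660985 IH) (Lpe (f660991 IH) (Lpe (K28.f463733 IH) (Lpr_dt (K24.f128071 IH) (Lpr_gt (K28.f463705 IH) (Lpe (K29.f458358 IH) (Lpr_et (f785651 IH) (Lpn v20212)))))))))))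
theorem f660106 : Led Lsl_df (LP (LK LD1_c3 LD2_c35 LD3_c55)) = K48.v7000 :=
  Lgr Lrot38 (Lpr_dt (K48.f660103 IH) (Lpn K48.v7000))
theorem f91271 : Led Lsl_dt (LP (LK LD1_c3 LD2_c47 LD3_c28)) = (LP (LK LD1_c1 LD2_c50 LD3_c50)) :=
  Lre_d IH (LK LD1_c3 LD2_c47 LD3_c28) (LK LD1_c1 LD2_c50 LD3_c50) Lrfl Lrfl
theorem f785660 : Led Lsl_ct (LP (LK LD1_c7 LD2_c24 LD3_c48)) = v20212 :=
  Lgr Lrot8 (Lpr_gt (K48.f459327 IH) (Lpr_dt (K48.f466921 IH) (Lpe (K48.f481891 IH) (Lpr_dt (f91271 IH) (Lpe (K5.f91260 IH) (Lpr_df (f660106 IH) (Lpe (K48.f660108 IH) (Lpr_df (K48.f483265 IH) (Lpr_gf (f785658 IH) (Lpn v20212))))))))))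
theorem f481899 : Led Lsl_bt (LP (LK LD1_c7 LD2_c24 LD3_c48)) = (LP (LK LD1_c14 LD2_c1 LD3_c22)) :=
  Lre_b IH (LK LD1_c7 LD2_c24 LD3_c48) (LK LD1_c14 LD2_c1 LD3_c22) Lrfl Lrfl
theorem f518103 : Led Lsl_af (LP (LK LD1_c6 LD2_c53 LD3_c1)) = (LP (LK LD1_c6 LD2_c34 LD3_c11)) :=
  Lgr Lrot0 (Lpr_at (K47.f518083 IH) (Lpn (LP (LK LD1_c6 LD2_c34 LD3_c11))))
theorem f785659 : Led Lsl_gt (LP (LK LD1_c12 LD2_c34 LD3_c58)) = v20212 :=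
  Lgr Lrot5 (Lpr_ft (K48.f486242 IH) (Lpe (f518103 IH) (Lpr_gf (f785658 IH) (Lpn v20212))))
theorem f477349 : Led Lsl_bt (LP (LK LD1_c13 LD2_c23 LD3_c52)) = (LP (LK LD1_c7 LD2_c4 LD3_c2)) :=
  Lre_b IH (LK LD1_c13 LD2_c23 LD3_c52) (LK LD1_c7 LD2_c4 LD3_c2) Lrfl Lrfl
theorem f490105 : Led Lsl_ct (LP (LK LD1_c13 LD2_c23 LD3_c52)) = (LP (LK LD1_c13 LD2_c39 LD3_c1)) :=
  Lgr Lrot59 (Lpr_cf (K41.f490100 IH) (Lpn (LP (LK LD1_c13 LD2_c39 LD3_c1))))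
theorem f501758 : Led Lsl_bt (LP (LK LD1_c22 LD2_c36 LD3_c11)) = (LP (LK LD1_c13 LD2_c19 LD3_c44)) :=
  Lre_b IH (LK LD1_c22 LD2_c36 LD3_c11) (LK LD1_c13 LD2_c19 LD3_c44) Lrfl Lrfl
theorem f785662 : Led Lsl_gt (LP (LK LD1_c14 LD2_c1 LD3_c22)) = (LP (LK LD1_c13 LD2_c19 LD3_c44)) :=
  Lgr Lrot164 (Lpe (f481899 IH) (Lpr_ct (f785660 IH) (Lpe (f785659 IH) (Lpe (K48.f517936 IH) (Lpr_gf (K48.f517124 IH) (Lpe (f477349 IH) (Lpr_ct (f490105 IH) (Lpe (K47.f478186 IH) (Lpe (K47.f611443 IH) (Lpr_bt (f501758 IH) (Lpn (LP (LK LD1_c13 LD2_c19 LD3_c44)))))))))))))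
theorem f785663 : Led Lsl_gt (LP (LK LD1_c14 LD2_c1 LD3_c22)) = (LP (LK LD1_c13 LD2_c19 LD3_c44)) :=
  Leop (Lpe (f785662 IH) (Lpn (LP (LK LD1_c14 LD2_c1 LD3_c22))))
theorem seed_1508 : LEOK LG_g (LK LD1_c14 LD2_c1 LD3_c22) :=
  Leoe_g (LK LD1_c14 LD2_c1 LD3_c22) (f785663 IH)
def v20215 : LQ := Led Lsl_at (LP (LK LD1_c6 LD2_c52 LD3_c13))
theorem f785696 : Led Lsl_at (LP (LK LD1_c6 LD2_c52 LD3_c13)) = v20215 :=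
  Lrfl
theorem f785702 : Led Lsl_ct K46.v6635 = v20215 :=
  Lgr Lrot98 (Lpe (K46.f654531 IH) (Lpe (K28.f19138 IH) (Lpe (K34.f91998 IH) (Lpe (K29.f460893 IH) (Lpr_df (K29.f473333 IH) (Lpr_cf (K29.f464124 IH) (Lpe (K28.f98733 IH) (Lpr_ft (K46.f655968 IH) (Lpr_at (f785696 IH) (Lpn v20215))))))))))
theorem f785703 : Led Lsl_ef v11925 = v20215 :=
  Lgr Lrot28 (Lpe (f686680 IH) (Lpr_et (K47.f654539 IH) (Lpr_ct (f785702 IH) (Lpn v20215))))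
theorem f686681 : Led Lsl_ff (LP (LK LD1_c7 LD2_c4 LD3_c22)) = v11925 :=
  Lgr Lrot23 (Lpr_ct (K49.f466239 IH) (Lpr_ft (K46.f654682 IH) (Lpr_ct (f686679 IH) (Lpn v11925))))
theorem f90863 : Led Lsl_et (LP (LK LD1_c7 LD2_c4 LD3_c12)) = (LP (LK LD1_c6 LD2_c52 LD3_c19)) :=
  Lgr Lrot158 (Lpe (K28.f18740 IH) (Lpr_ef (K2.f90858 IH) (Lpe (K28.f90862 IH) (Lpn (LP (LK LD1_c6 LD2_c52 LD3_c19))))))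
theorem f785707 : Led Lsl_ft (LP (LK LD1_c6 LD2_c52 LD3_c19)) = v20215 :=
  Lgr Lrot86 (Lpe (f90863 IH) (Lpr_ff (K46.f654734 IH) (Lpe (K48.f466231 IH) (Lpr_ff (f686681 IH) (Lpr_ef (f785703 IH) (Lpn v20215))))))
theorem f654903 : Led Lsl_ft (LP (LK LD1_c13 LD2_c17 LD3_c31)) = (LP (LK LD1_c13 LD2_c6 LD3_c37)) :=
  Lgr Lrot4 (Lpr_cf (K46.f654860 IH) (Lpe (K46.f654886 IH) (Lpr_cf (K46.f654897 IH) (Lpn (LP (LK LD1_c13 LD2_c6 LD3_c37))))))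
theorem f654905 : Led Lsl_af (LP (LK LD1_c13 LD2_c17 LD3_c30)) = (LP (LK LD1_c13 LD2_c6 LD3_c37)) :=
  Lgr Lrot45 (Lpr_ft (K46.f654738 IH) (Lpe (K46.f654744 IH) (Lpr_ft (f654903 IH) (Lpn (LP (LK LD1_c13 LD2_c6 LD3_c37))))))
theorem f493035 : Led Lsl_bf (LP (LK LD1_c7 LD2_c45 LD3_c61)) = (LP (LK LD1_c6 LD2_c57 LD3_c47)) :=
  Lgr Lrot90 (Lpr_ct (K41.f492269 IH) (Lpr_bt (K34.f492266 IH) (Lpe (K57.f493025 IH) (Lpr_bt (K35.f493033 IH) (Lpr_ct (K33.f492600 IH) (Lpn (LP (LK LD1_c6 LD2_c57 LD3_c47))))))))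
theorem f492469 : Led Lsl_dt (LP (LK LD1_c7 LD2_c45 LD3_c61)) = (LP (LK LD1_c14 LD2_c38 LD3_c59)) :=
  Lre_d IH (LK LD1_c7 LD2_c45 LD3_c61) (LK LD1_c14 LD2_c38 LD3_c59) Lrfl Lrfl
theorem f493037 : Led Lsl_bt (LP (LK LD1_c14 LD2_c38 LD3_c59)) = (LP (LK LD1_c13 LD2_c13 LD3_c11)) :=
  Lgr Lrot95 (Lpe (f492469 IH) (Lpr_bf (f493035 IH) (Lpe (K48.f492603 IH) (Lpn (LP (LK LD1_c13 LD2_c13 LD3_c11))))))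
theorem f492446 : Led Lsl_at (LP (LK LD1_c6 LD2_c57 LD3_c24)) = (LP (LK LD1_c13 LD2_c12 LD3_c34)) :=
  Lre_a IH (LK LD1_c6 LD2_c57 LD3_c24) (LK LD1_c13 LD2_c12 LD3_c34) Lrfl Lrfl
theorem f458118 : Led Lsl_at (LP (LK LD1_c14 LD2_c38 LD3_c59)) = (LP (LK LD1_c7 LD2_c46 LD3_c2)) :=
  Lre_a IH (LK LD1_c14 LD2_c38 LD3_c59) (LK LD1_c7 LD2_c46 LD3_c2) Lrfl Lrfl
theorem f492447 : Led Lsl_ft (LP (LK LD1_c13 LD2_c12 LD3_c34)) = (LP (LK LD1_c14 LD2_c38 LD3_c59)) :=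
  Lgr Lrot101 (Lpe (f492446 IH) (Lpr_ff (K33.f492444 IH) (Lpe (f458118 IH) (Lpn (LP (LK LD1_c14 LD2_c38 LD3_c59))))))
theorem f457945 : Led Lsl_dt (LP (LK LD1_c13 LD2_c12 LD3_c34)) = (LP (LK LD1_c6 LD2_c57 LD3_c23)) :=
  Lre_d IH (LK LD1_c13 LD2_c12 LD3_c34) (LK LD1_c6 LD2_c57 LD3_c23) Lrfl Lrfl
theorem f492566 : Led Lsl_bf (LP (LK LD1_c13 LD2_c12 LD3_c34)) = (LP (LK LD1_c22 LD2_c19 LD3_c43)) :=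
  Lgr Lrot93 (Lpr_dt (f457945 IH) (Lpr_bt (K34.f492564 IH) (Lpr_dt (K48.f98803 IH) (Lpn (LP (LK LD1_c22 LD2_c19 LD3_c43))))))
theorem f493046 : Led Lsl_ff (LP (LK LD1_c22 LD2_c19 LD3_c43)) = (LP (LK LD1_c13 LD2_c13 LD3_c11)) :=
  Lgr Lrot25 (Lpe (f492566 IH) (Lpr_ft (f492447 IH) (Lpr_bt (f493037 IH) (Lpn (LP (LK LD1_c13 LD2_c13 LD3_c11))))))
theorem f492581 : Led Lsl_at (LP (LK LD1_c22 LD2_c19 LD3_c43)) = (LP (LK LD1_c13 LD2_c7 LD3_c43)) :=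
  Lre_a IH (LK LD1_c22 LD2_c19 LD3_c43) (LK LD1_c13 LD2_c7 LD3_c43) Lrfl Lrfl
theorem f493048 : Led Lsl_at (LP (LK LD1_c6 LD2_c57 LD3_c48)) = (LP (LK LD1_c13 LD2_c13 LD3_c11)) :=
  Lre_a IH (LK LD1_c6 LD2_c57 LD3_c48) (LK LD1_c13 LD2_c13 LD3_c11) Lrfl Lrfl
theorem f493049 : Led Lsl_ft (LP (LK LD1_c13 LD2_c7 LD3_c43)) = (LP (LK LD1_c6 LD2_c57 LD3_c48)) :=
  Lgr Lrot101 (Lpe (f492581 IH) (Lpr_ff (f493046 IH) (Lpe (f493048 IH) (Lpn (LP (LK LD1_c6 LD2_c57 LD3_c48))))))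
theorem f493054 : Led Lsl_ff (LP (LK LD1_c13 LD2_c7 LD3_c43)) = (LP (LK LD1_c6 LD2_c57 LD3_c48)) :=
  Lgr Lrot3 (Lpr_ft (f493049 IH) (Lpn (LP (LK LD1_c6 LD2_c57 LD3_c48))))
theorem f492568 : Led Lsl_at (LP (LK LD1_c13 LD2_c7 LD3_c43)) = (LP (LK LD1_c22 LD2_c19 LD3_c43)) :=
  Lre_a IH (LK LD1_c13 LD2_c7 LD3_c43) (LK LD1_c22 LD2_c19 LD3_c43) Lrfl Lrfl
theorem f465463 : Led Lsl_gt (LP (LK LD1_c6 LD2_c57 LD3_c48)) = (LP (LK LD1_c13 LD2_c13 LD3_c13)) :=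
  Lre_g IH (LK LD1_c6 LD2_c57 LD3_c48) (LK LD1_c13 LD2_c13 LD3_c13) Lrfl Lrfl
theorem f493064 : Led Lsl_gf (LP (LK LD1_c22 LD2_c19 LD3_c43)) = (LP (LK LD1_c13 LD2_c13 LD3_c13)) :=
  Lgr Lrot76 (Lpe (f492568 IH) (Lpr_ff (f493054 IH) (Lpr_gt (f465463 IH) (Lpn (LP (LK LD1_c13 LD2_c13 LD3_c13))))))
theorem f489507 : Led Lsl_dt (LP (LK LD1_c22 LD2_c27 LD3_c21)) = (LP (LK LD1_c13 LD2_c13 LD3_c13)) :=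
  Lre_d IH (LK LD1_c22 LD2_c27 LD3_c21) (LK LD1_c13 LD2_c13 LD3_c13) Lrfl Lrfl
theorem f463428 : Led Lsl_gt (LP (LK LD1_c13 LD2_c4 LD3_c6)) = (LP (LK LD1_c22 LD2_c14 LD3_c27)) :=
  Lre_g IH (LK LD1_c13 LD2_c4 LD3_c6) (LK LD1_c22 LD2_c14 LD3_c27) Lrfl Lrfl
theorem f529555 : Led Lsl_et (LP (LK LD1_c22 LD2_c27 LD3_c21)) = (LP (LK LD1_c22 LD2_c14 LD3_c27)) :=
  Lgr Lrot122 (Lpr_dt (f489507 IH) (Lpe (f493064 IH) (Lpe (K48.f98803 IH) (Lpe (K34.f98793 IH) (Lpr_gt (K48.f492924 IH) (Lpr_dt (K33.f484786 IH) (Lpr_gt (K48.f529553 IH) (Lpe (K46.f463442 IH) (Lpr_et (K46.f463440 IH) (Lpr_gt (f463428 IH) (Lpn (LP (LK LD1_c22 LD2_c14 LD3_c27)))))))))))))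
theorem f461614 : Led Lsl_et (LP (LK LD1_c3 LD2_c49 LD3_c40)) = (LP (LK LD1_c7 LD2_c40 LD3_c16)) :=
  Lre_e IH (LK LD1_c3 LD2_c49 LD3_c40) (LK LD1_c7 LD2_c40 LD3_c16) Lrfl Lrfl
theorem f517035 : Led Lsl_et (LP (LK LD1_c14 LD2_c27 LD3_c45)) = (LP (LK LD1_c7 LD2_c48 LD3_c31)) :=
  Lgr Lrot71 (Lpe (K48.f461615 IH) (Lpe (f461614 IH) (Lpe (K47.f92657 IH) (Lpr_ef (K48.f461607 IH) (Lpr_df (K48.f517031 IH) (Lpn (LP (LK LD1_c7 LD2_c48 LD3_c31))))))))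
theorem f517093 : Led Lsl_ef (LP (LK LD1_c14 LD2_c27 LD3_c45)) = (LP (LK LD1_c7 LD2_c48 LD3_c31)) :=
  Lgr Lrot88 (Lpr_et (f517035 IH) (Lpn (LP (LK LD1_c7 LD2_c48 LD3_c31))))
theorem f517117 : Led Lsl_bt (LP (LK LD1_c14 LD2_c27 LD3_c45)) = (LP (LK LD1_c24 LD2_c8 LD3_c26)) :=
  Lre_b IH (LK LD1_c14 LD2_c27 LD3_c45) (LK LD1_c24 LD2_c8 LD3_c26) Lrfl Lrfl
theorem f472475 : Led Lsl_bt (LP (LK LD1_c14 LD2_c44 LD3_c4)) = (LP (LK LD1_c7 LD2_c48 LD3_c31)) :=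
  Lre_b IH (LK LD1_c14 LD2_c44 LD3_c4) (LK LD1_c7 LD2_c48 LD3_c31) Lrfl Lrfl
theorem f517118 : Led Lsl_et (LP (LK LD1_c24 LD2_c8 LD3_c26)) = (LP (LK LD1_c14 LD2_c44 LD3_c4)) :=
  Lgr Lrot74 (Lpe (f517117 IH) (Lpr_ef (f517093 IH) (Lpe (f472475 IH) (Lpn (LP (LK LD1_c14 LD2_c44 LD3_c4))))))
theorem f461623 : Led Lsl_dt (LP (LK LD1_c14 LD2_c27 LD3_c41)) = (LP (LK LD1_c24 LD2_c8 LD3_c26)) :=
  Lre_d IH (LK LD1_c14 LD2_c27 LD3_c41) (LK LD1_c24 LD2_c8 LD3_c26) Lrfl Lrfl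
theorem f461622 : Led Lsl_et (LP (LK LD1_c7 LD2_c40 LD3_c13)) = (LP (LK LD1_c14 LD2_c27 LD3_c41)) :=
  Lre_e IH (LK LD1_c7 LD2_c40 LD3_c13) (LK LD1_c14 LD2_c27 LD3_c41) Lrfl Lrfl
theorem f461620 : Led Lsl_dt (LP (LK LD1_c14 LD2_c27 LD3_c40)) = (LP (LK LD1_c7 LD2_c40 LD3_c13)) :=
  Lre_d IH (LK LD1_c14 LD2_c27 LD3_c40) (LK LD1_c7 LD2_c40 LD3_c13) Lrfl Lrfl
theorem f461600 : Led Lsl_bt (LP (LK LD1_c14 LD2_c27 LD3_c40)) = (LP (LK LD1_c7 LD2_c40 LD3_c15)) :=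
  Lre_b IH (LK LD1_c14 LD2_c27 LD3_c40) (LK LD1_c7 LD2_c40 LD3_c15) Lrfl Lrfl
theorem f461602 : Led Lsl_ef (LP (LK LD1_c14 LD2_c27 LD3_c40)) = (LP (LK LD1_c13 LD2_c23 LD3_c4)) :=
  Lgr Lrot29 (Lpr_bt (f461600 IH) (Lpr_et (K47.f461598 IH) (Lpr_bt (K48.f461601 IH) (Lpn (LP (LK LD1_c13 LD2_c23 LD3_c4))))))
theorem f517121 : Led Lsl_df (LP (LK LD1_c13 LD2_c23 LD3_c4)) = (LP (LK LD1_c14 LD2_c44 LD3_c4)) :=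
  Lgr Lrot70 (Lpe (f461602 IH) (Lpr_dt (f461620 IH) (Lpr_et (f461622 IH) (Lpr_dt (f461623 IH) (Lpr_et (f517118 IH) (Lpn (LP (LK LD1_c14 LD2_c44 LD3_c4))))))))
theorem f518343 : Led Lsl_ff (LP (LK LD1_c14 LD2_c44 LD3_c4)) = (LP (LK LD1_c13 LD2_c13 LD3_c14)) :=
  Lgr Lrot19 (Lpe (f517121 IH) (Lpe (K48.f516859 IH) (Lpr_dt (K48.f518333 IH) (Lpn (LP (LK LD1_c13 LD2_c13 LD3_c14))))))
theorem f518351 : Led Lsl_at (LP (LK LD1_c14 LD2_c44 LD3_c4)) = (LP (LK LD1_c13 LD2_c13 LD3_c13)) :=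
  Lgr Lrot26 (Lpr_ff (f518343 IH) (Lpr_gt (K48.f462757 IH) (Lpr_gt (f465463 IH) (Lpn (LP (LK LD1_c13 LD2_c13 LD3_c13))))))
theorem f517033 : Led Lsl_dt (LP (LK LD1_c13 LD2_c23 LD3_c4)) = (LP (LK LD1_c14 LD2_c44 LD3_c4)) :=
  Lgr Lrot79 (Lpe (K48.f461601 IH) (Lpr_df (K48.f517031 IH) (Lpe (f472475 IH) (Lpn (LP (LK LD1_c14 LD2_c44 LD3_c4))))))
theorem f469044 : Led Lsl_dt (LP (LK LD1_c13 LD2_c13 LD3_c13)) = (LP (LK LD1_c22 LD2_c27 LD3_c21)) :=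
  Lre_d IH (LK LD1_c13 LD2_c13 LD3_c13) (LK LD1_c22 LD2_c27 LD3_c21) Lrfl Lrfl
theorem f518356 : Led Lsl_af (LP (LK LD1_c13 LD2_c23 LD3_c4)) = (LP (LK LD1_c22 LD2_c27 LD3_c21)) :=
  Lgr Lrot117 (Lpr_dt (f517033 IH) (Lpr_at (f518351 IH) (Lpr_dt (f469044 IH) (Lpn (LP (LK LD1_c22 LD2_c27 LD3_c21))))))
theorem f518369 : Led Lsl_ft (LP (LK LD1_c14 LD2_c14 LD3_c50)) = (LP (LK LD1_c22 LD2_c27 LD3_c21)) :=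
  Lgr Lrot101 (Lpe (K46.f516892 IH) (Lpr_ff (K48.f516859 IH) (Lpr_af (f518356 IH) (Lpn (LP (LK LD1_c22 LD2_c27 LD3_c21))))))
theorem f529561 : Led Lsl_ff (LP (LK LD1_c13 LD2_c6 LD3_c48)) = (LP (LK LD1_c22 LD2_c14 LD3_c27)) :=
  Lgr Lrot72 (Lpr_et (K48.f96320 IH) (Lpe (K47.f518154 IH) (Lpr_et (K46.f486122 IH) (Lpr_ft (f518369 IH) (Lpr_et (f529555 IH) (Lpn (LP (LK LD1_c22 LD2_c14 LD3_c27))))))))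
theorem f529567 : Led Lsl_ft (LP (LK LD1_c13 LD2_c6 LD3_c48)) = (LP (LK LD1_c22 LD2_c14 LD3_c27)) :=
  Lgr Lrot48 (Lpr_ff (f529561 IH) (Lpn (LP (LK LD1_c22 LD2_c14 LD3_c27))))
theorem f96328 : Led Lsl_dt (LP (LK LD1_c22 LD2_c18 LD3_c8)) = (LP (LK LD1_c13 LD2_c6 LD3_c48)) :=
  Lre_d IH (LK LD1_c22 LD2_c18 LD3_c8) (LK LD1_c13 LD2_c6 LD3_c48) Lrfl Lrfl
theorem f88133 : Led Lsl_et (LP (LK LD1_c7 LD2_c33 LD3_c8)) = (LP (LK LD1_c14 LD2_c14 LD3_c36)) :=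
  Lre_e IH (LK LD1_c7 LD2_c33 LD3_c8) (LK LD1_c14 LD2_c14 LD3_c36) Lrfl Lrfl
theorem f518254 : Led Lsl_bt (LP (LK LD1_c14 LD2_c14 LD3_c36)) = (LP (LK LD1_c13 LD2_c6 LD3_c48)) :=
  Lgr Lrot119 (Lpe (f88133 IH) (Lpr_bf (K48.f518250 IH) (Lpe (K48.f96320 IH) (Lpn (LP (LK LD1_c13 LD2_c6 LD3_c48))))))
theorem f518260 : Led Lsl_bf (LP (LK LD1_c14 LD2_c27 LD3_c47)) = (LP (LK LD1_c22 LD2_c18 LD3_c8)) :=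
  Lgr Lrot93 (Lpe (K48.f88112 IH) (Lpr_bt (f518254 IH) (Lpr_dt (K48.f96321 IH) (Lpn (LP (LK LD1_c22 LD2_c18 LD3_c8))))))
theorem f88132 : Led Lsl_at (LP (LK LD1_c14 LD2_c27 LD3_c47)) = (LP (LK LD1_c7 LD2_c40 LD3_c17)) :=
  Lre_a IH (LK LD1_c14 LD2_c27 LD3_c47) (LK LD1_c7 LD2_c40 LD3_c17) Lrfl Lrfl
theorem f88115 : Led Lsl_bt (LP (LK LD1_c7 LD2_c40 LD3_c17)) = (LP (LK LD1_c3 LD2_c49 LD3_c41)) :=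
  Lre_b IH (LK LD1_c7 LD2_c40 LD3_c17) (LK LD1_c3 LD2_c49 LD3_c41) Lrfl Lrfl
theorem f103968 : Led Lsl_bt (LP (LK LD1_c7 LD2_c35 LD3_c19)) = (LP (LK LD1_c14 LD2_c18 LD3_c27)) :=
  Lre_b IH (LK LD1_c7 LD2_c35 LD3_c19) (LK LD1_c14 LD2_c18 LD3_c27) Lrfl Lrfl
theorem f518262 : Led Lsl_at (LP (LK LD1_c14 LD2_c18 LD3_c27)) = (LP (LK LD1_c22 LD2_c18 LD3_c8)) :=
  Lgr Lrot67 (Lpe (f103968 IH) (Lpe (K47.f517988 IH) (Lpe (f88115 IH) (Lpe (f88132 IH) (Lpr_bf (f518260 IH) (Lpn (LP (LK LD1_c22 LD2_c18 LD3_c8))))))))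
theorem f488009 : Led Lsl_bt (LP (LK LD1_c3 LD2_c49 LD3_c40)) = (LP (LK LD1_c7 LD2_c40 LD3_c13)) :=
  Lre_b IH (LK LD1_c3 LD2_c49 LD3_c40) (LK LD1_c7 LD2_c40 LD3_c13) Lrfl Lrfl
theorem f104018 : Led Lsl_bt (LP (LK LD1_c14 LD2_c18 LD3_c27)) = (LP (LK LD1_c7 LD2_c35 LD3_c19)) :=
  Lre_b IH (LK LD1_c14 LD2_c18 LD3_c27) (LK LD1_c7 LD2_c35 LD3_c19) Lrfl Lrfl
theorem f517948 : Led Lsl_ft (LP (LK LD1_c7 LD2_c40 LD3_c13)) = (LP (LK LD1_c14 LD2_c18 LD3_c27)) :=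
  Lgr Lrot75 (Lpe (f488009 IH) (Lpr_ff (K47.f517946 IH) (Lpe (f104018 IH) (Lpn (LP (LK LD1_c14 LD2_c18 LD3_c27))))))
theorem f517957 : Led Lsl_at (LP (LK LD1_c14 LD2_c27 LD3_c39)) = (LP (LK LD1_c7 LD2_c40 LD3_c13)) :=
  Lre_a IH (LK LD1_c14 LD2_c27 LD3_c39) (LK LD1_c7 LD2_c40 LD3_c13) Lrfl Lrfl
theorem f518270 : Led Lsl_ff (LP (LK LD1_c14 LD2_c27 LD3_c39)) = (LP (LK LD1_c22 LD2_c18 LD3_c8)) :=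
  Lgr Lrot30 (Lpr_at (f517957 IH) (Lpr_ft (f517948 IH) (Lpr_at (f518262 IH) (Lpn (LP (LK LD1_c22 LD2_c18 LD3_c8))))))
theorem f518274 : Led Lsl_ft (LP (LK LD1_c14 LD2_c27 LD3_c39)) = (LP (LK LD1_c22 LD2_c18 LD3_c8)) :=
  Lgr Lrot48 (Lpr_ff (f518270 IH) (Lpn (LP (LK LD1_c22 LD2_c18 LD3_c8))))
theorem f529569 : Led Lsl_df (LP (LK LD1_c14 LD2_c27 LD3_c39)) = (LP (LK LD1_c22 LD2_c14 LD3_c27)) :=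
  Lgr Lrot78 (Lpr_ft (f518274 IH) (Lpr_dt (f96328 IH) (Lpr_ft (f529567 IH) (Lpn (LP (LK LD1_c22 LD2_c14 LD3_c27))))))
theorem f103986 : Led Lsl_df (LP (LK LD1_c14 LD2_c18 LD3_c28)) = (LP (LK LD1_c13 LD2_c18 LD3_c41)) :=
  Lgr Lrot38 (Lpr_dt (K47.f103977 IH) (Lpn (LP (LK LD1_c13 LD2_c18 LD3_c41))))
theorem f104002 : Led Lsl_bt (LP (LK LD1_c14 LD2_c18 LD3_c28)) = (LP (LK LD1_c23 LD2_c56 LD3_c28)) :=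
  Lre_b IH (LK LD1_c14 LD2_c18 LD3_c28) (LK LD1_c23 LD2_c56 LD3_c28) Lrfl Lrfl
theorem f104003 : Led Lsl_bt (LP (LK LD1_c22 LD2_c34 LD3_c40)) = (LP (LK LD1_c13 LD2_c18 LD3_c41)) :=
  Lre_b IH (LK LD1_c22 LD2_c34 LD3_c40) (LK LD1_c13 LD2_c18 LD3_c41) Lrfl Lrfl
theorem f104004 : Led Lsl_dt (LP (LK LD1_c23 LD2_c56 LD3_c28)) = (LP (LK LD1_c22 LD2_c34 LD3_c40)) :=
  Lgr Lrot79 (Lpe (f104002 IH) (Lpr_df (f103986 IH) (Lpe (f104003 IH) (Lpn (LP (LK LD1_c22 LD2_c34 LD3_c40))))))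
theorem f104007 : Led Lsl_et (LP (LK LD1_c14 LD2_c18 LD3_c27)) = (LP (LK LD1_c23 LD2_c56 LD3_c28)) :=
  Lre_e IH (LK LD1_c14 LD2_c18 LD3_c27) (LK LD1_c23 LD2_c56 LD3_c28) Lrfl Lrfl
theorem f104009 : Led Lsl_dt (LP (LK LD1_c13 LD2_c18 LD3_c38)) = (LP (LK LD1_c7 LD2_c1 LD3_c0)) :=
  Lre_d IH (LK LD1_c13 LD2_c18 LD3_c38) (LK LD1_c7 LD2_c1 LD3_c0) Lrfl Lrfl
theorem f104010 : Led Lsl_et (LP (LK LD1_c7 LD2_c1 LD3_c0)) = (LP (LK LD1_c13 LD2_c18 LD3_c39)) :=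
  Lre_e IH (LK LD1_c7 LD2_c1 LD3_c0) (LK LD1_c13 LD2_c18 LD3_c39) Lrfl Lrfl
theorem f104011 : Led Lsl_df (LP (LK LD1_c14 LD2_c18 LD3_c27)) = (LP (LK LD1_c13 LD2_c18 LD3_c39)) :=
  Lgr Lrot70 (Lpr_et (f104007 IH) (Lpr_dt (f104004 IH) (Lpr_et (K47.f104008 IH) (Lpr_dt (f104009 IH) (Lpr_et (f104010 IH) (Lpn (LP (LK LD1_c13 LD2_c18 LD3_c39))))))))
theorem f102448 : Led Lsl_et (LP (LK LD1_c3 LD2_c26 LD3_c3)) = (LP (LK LD1_c6 LD2_c53 LD3_c60)) :=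
  Lre_e IH (LK LD1_c3 LD2_c26 LD3_c3) (LK LD1_c6 LD2_c53 LD3_c60) Lrfl Lrfl
theorem f96146 : Led Lsl_dt (LP (LK LD1_c3 LD2_c55 LD3_c47)) = (LP (LK LD1_c7 LD2_c53 LD3_c18)) :=
  Lre_d IH (LK LD1_c3 LD2_c55 LD3_c47) (LK LD1_c7 LD2_c53 LD3_c18) Lrfl Lrfl
theorem f522798 : Led Lsl_gt (LP (LK LD1_c14 LD2_c18 LD3_c27)) = (LP (LK LD1_c7 LD2_c53 LD3_c18)) :=
  Lgr Lrot112 (Lpr_df (f104011 IH) (Lpr_et (K47.f104020 IH) (Lpr_gf (K47.f522792 IH) (Lpe (f102448 IH) (Lpr_dt (K7.f102447 IH) (Lpe (K6.f130263 IH) (Lpe (K6.f88245 IH) (Lpr_gf (K5.f127868 IH) (Lpe (K5.f96145 IH) (Lpr_dt (f96146 IH) (Lpn (LP (LK LD1_c7 LD2_c53 LD3_c18)))))))))))))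
theorem f517978 : Led Lsl_at (LP (LK LD1_c7 LD2_c40 LD3_c13)) = (LP (LK LD1_c14 LD2_c27 LD3_c39)) :=
  Lre_a IH (LK LD1_c7 LD2_c40 LD3_c13) (LK LD1_c14 LD2_c27 LD3_c39) Lrfl Lrfl
theorem f518264 : Led Lsl_bt (LP (LK LD1_c14 LD2_c27 LD3_c47)) = (LP (LK LD1_c22 LD2_c18 LD3_c8)) :=
  Lgr Lrot127 (Lpr_bf (f518260 IH) (Lpn (LP (LK LD1_c22 LD2_c18 LD3_c8))))
theorem f518266 : Led Lsl_af (LP (LK LD1_c14 LD2_c18 LD3_c27)) = (LP (LK LD1_c22 LD2_c18 LD3_c8)) :=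
  Lgr Lrot36 (Lpr_bt (f104018 IH) (Lpe (K48.f517982 IH) (Lpr_bt (K47.f87947 IH) (Lpr_at (K48.f88111 IH) (Lpr_bt (f518264 IH) (Lpn (LP (LK LD1_c22 LD2_c18 LD3_c8))))))))
theorem f518278 : Led Lsl_ff (LP (LK LD1_c7 LD2_c40 LD3_c13)) = (LP (LK LD1_c14 LD2_c18 LD3_c27)) :=
  Lgr Lrot30 (Lpr_at (f517978 IH) (Lpr_ft (f518274 IH) (Lpe (f518266 IH) (Lpn (LP (LK LD1_c14 LD2_c18 LD3_c27))))))
theorem f522800 : Led Lsl_gf (LP (LK LD1_c14 LD2_c27 LD3_c39)) = (LP (LK LD1_c7 LD2_c53 LD3_c18)) :=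
  Lgr Lrot76 (Lpe (f517978 IH) (Lpr_ff (f518278 IH) (Lpr_gt (f522798 IH) (Lpn (LP (LK LD1_c7 LD2_c53 LD3_c18))))))
theorem f529559 : Led Lsl_ef (LP (LK LD1_c22 LD2_c27 LD3_c21)) = (LP (LK LD1_c22 LD2_c14 LD3_c27)) :=
  Lgr Lrot88 (Lpr_et (f529555 IH) (Lpn (LP (LK LD1_c22 LD2_c14 LD3_c27))))
theorem f518371 : Led Lsl_ff (LP (LK LD1_c14 LD2_c14 LD3_c50)) = (LP (LK LD1_c22 LD2_c27 LD3_c21)) :=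
  Lgr Lrot3 (Lpr_ft (f518369 IH) (Lpn (LP (LK LD1_c22 LD2_c27 LD3_c21))))
theorem f483449 : Led Lsl_gt (LP (LK LD1_c14 LD2_c14 LD3_c54)) = (LP (LK LD1_c7 LD2_c33 LD3_c17)) :=
  Lre_g IH (LK LD1_c14 LD2_c14 LD3_c54) (LK LD1_c7 LD2_c33 LD3_c17) Lrfl Lrfl
theorem f518373 : Led Lsl_gf (LP (LK LD1_c14 LD2_c14 LD3_c54)) = (LP (LK LD1_c22 LD2_c27 LD3_c21)) :=
  Lgr Lrot47 (Lpr_gt (f483449 IH) (Lpe (K46.f516846 IH) (Lpr_ff (f518371 IH) (Lpn (LP (LK LD1_c22 LD2_c27 LD3_c21))))))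
theorem f518375 : Led Lsl_dt (LP (LK LD1_c14 LD2_c14 LD3_c54)) = (LP (LK LD1_c23 LD2_c50 LD3_c60)) :=
  Lre_d IH (LK LD1_c14 LD2_c14 LD3_c54) (LK LD1_c23 LD2_c50 LD3_c60) Lrfl Lrfl
theorem f529573 : Led Lsl_gf (LP (LK LD1_c14 LD2_c17 LD3_c40)) = (LP (LK LD1_c23 LD2_c50 LD3_c60)) :=
  Lgr Lrot134 (Lpe (K6.f96142 IH) (Lpr_et (K5.f96141 IH) (Lpe (K4.f96138 IH) (Lpe (K5.f96145 IH) (Lpr_dt (f96146 IH) (Lpe (f522800 IH) (Lpr_df (f529569 IH) (Lpe (f529559 IH) (Lpe (f518373 IH) (Lpr_dt (f518375 IH) (Lpn (LP (LK LD1_c23 LD2_c50 LD3_c60)))))))))))))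
theorem f529576 : Led Lsl_ef (LP (LK LD1_c13 LD2_c6 LD3_c37)) = (LP (LK LD1_c14 LD2_c14 LD3_c54)) :=
  Lgr Lrot17 (Lpe (K33.f116475 IH) (Lpe (K4.f103793 IH) (Lpr_dt (K4.f9802 IH) (Lpe (K8.f129417 IH) (Lpe (K8.f96140 IH) (Lpr_gf (K4.f96138 IH) (Lpe (K5.f96141 IH) (Lpr_dt (K6.f96142 IH) (Lpr_gf (f529573 IH) (Lpe (f518375 IH) (Lpn (LP (LK LD1_c14 LD2_c14 LD3_c54)))))))))))))
theorem f654909 : Led Lsl_at (LP (LK LD1_c13 LD2_c4 LD3_c11)) = (LP (LK LD1_c14 LD2_c14 LD3_c54)) :=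
  Lgr Lrot80 (Lpe (K28.f463957 IH) (Lpr_af (f654905 IH) (Lpr_ef (f529576 IH) (Lpn (LP (LK LD1_c14 LD2_c14 LD3_c54))))))
theorem f518367 : Led Lsl_at (LP (LK LD1_c13 LD2_c23 LD3_c4)) = (LP (LK LD1_c22 LD2_c27 LD3_c21)) :=
  Lgr Lrot100 (Lpr_af (f518356 IH) (Lpn (LP (LK LD1_c22 LD2_c27 LD3_c21))))
theorem f483445 : Led Lsl_bt (LP (LK LD1_c3 LD2_c46 LD3_c10)) = (LP (LK LD1_c7 LD2_c33 LD3_c17)) :=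
  Lre_b IH (LK LD1_c3 LD2_c46 LD3_c10) (LK LD1_c7 LD2_c33 LD3_c17) Lrfl Lrfl
theorem f461611 : Led Lsl_bt (LP (LK LD1_c13 LD2_c23 LD3_c4)) = (LP (LK LD1_c7 LD2_c3 LD3_c28)) :=
  Lre_b IH (LK LD1_c13 LD2_c23 LD3_c4) (LK LD1_c7 LD2_c3 LD3_c28) Lrfl Lrfl
theorem f516855 : Led Lsl_ft (LP (LK LD1_c7 LD2_c33 LD3_c17)) = (LP (LK LD1_c13 LD2_c23 LD3_c4)) :=
  Lgr Lrot75 (Lpe (f483445 IH) (Lpr_ff (K47.f516853 IH) (Lpe (f461611 IH) (Lpn (LP (LK LD1_c13 LD2_c23 LD3_c4))))))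
theorem f483448 : Led Lsl_gt (LP (LK LD1_c7 LD2_c33 LD3_c17)) = (LP (LK LD1_c14 LD2_c14 LD3_c53)) :=
  Lre_g IH (LK LD1_c7 LD2_c33 LD3_c17) (LK LD1_c14 LD2_c14 LD3_c53) Lrfl Lrfl
theorem f518378 : Led Lsl_gt (LP (LK LD1_c14 LD2_c14 LD3_c53)) = (LP (LK LD1_c22 LD2_c27 LD3_c21)) :=
  Lgr Lrot46 (Lpe (f483448 IH) (Lpr_ft (f516855 IH) (Lpr_at (f518367 IH) (Lpn (LP (LK LD1_c22 LD2_c27 LD3_c21))))))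
theorem f654913 : Led Lsl_ff (LP (LK LD1_c13 LD2_c4 LD3_c11)) = (LP (LK LD1_c14 LD2_c14 LD3_c53)) :=
  Lgr Lrot52 (Lpr_at (f654909 IH) (Lpr_gf (f518373 IH) (Lpe (f518378 IH) (Lpn (LP (LK LD1_c14 LD2_c14 LD3_c53))))))
theorem f785708 : Led Lsl_bf (LP (LK LD1_c14 LD2_c14 LD3_c53)) = v20215 :=
  Lgr Lrot61 (Lpe (f654913 IH) (Lpr_bt (K28.f92011 IH) (Lpr_ft (f785707 IH) (Lpn v20215))))
theorem f785705 : Led Lsl_dt (LP (LK LD1_c13 LD2_c53 LD3_c58)) = v20215 :=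
  Lgr Lrot113 (Lpe (K29.f95921 IH) (Lpe (K28.f95920 IH) (Lpe (K28.f463246 IH) (Lpr_ct (K29.f15722 IH) (Lpr_gt (K2.f15903 IH) (Lpr_dt (K46.f14646 IH) (Lpr_gt (K28.f14647 IH) (Lpr_dt (K46.f654531 IH) (Lpr_ct (f785702 IH) (Lpn v20215))))))))))
theorem f464440 : Led Lsl_bt (LP (LK LD1_c23 LD2_c24 LD3_c9)) = (LP (LK LD1_c13 LD2_c53 LD3_c58)) :=
  Lre_b IH (LK LD1_c23 LD2_c24 LD3_c9) (LK LD1_c13 LD2_c53 LD3_c58) Lrfl Lrfl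
theorem f785710 : Led Lsl_dt (LP (LK LD1_c14 LD2_c14 LD3_c53)) = (LP (LK LD1_c23 LD2_c24 LD3_c9)) :=
  Lgr Lrot79 (Lpr_bf (f785708 IH) (Lpe (f785705 IH) (Lpe (f464440 IH) (Lpn (LP (LK LD1_c23 LD2_c24 LD3_c9))))))
theorem f785711 : Led Lsl_dt (LP (LK LD1_c14 LD2_c14 LD3_c53)) = (LP (LK LD1_c23 LD2_c24 LD3_c9)) :=
  Leop (Lpe (f785710 IH) (Lpn (LP (LK LD1_c14 LD2_c14 LD3_c53))))
theorem seed_1509 : LEOK LG_d (LK LD1_c14 LD2_c14 LD3_c53) :=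
  Leoe_d (LK LD1_c14 LD2_c14 LD3_c53) (f785711 IH)
def v20221 : LQ := Led Lsl_at (LP (LK LD1_c6 LD2_c52 LD3_c27))
theorem f785761 : Led Lsl_at (LP (LK LD1_c6 LD2_c52 LD3_c27)) = v20221 :=
  Lrfl
theorem f429387 : Led Lsl_at (LP (LK LD1_c7 LD2_c20 LD3_c55)) = (LP (LK LD1_c3 LD2_c40 LD3_c22)) :=
  Lre_a IH (LK LD1_c7 LD2_c20 LD3_c55) (LK LD1_c3 LD2_c40 LD3_c22) Lrfl Lrfl
theorem f785765 : Led Lsl_ff (LP (LK LD1_c7 LD2_c20 LD3_c55)) = v20221 :=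
  Lgr Lrot30 (Lpr_at (f429387 IH) (Lpe (K29.f429381 IH) (Lpr_at (f785761 IH) (Lpn v20221))))
theorem f785771 : Led Lsl_ft (LP (LK LD1_c7 LD2_c20 LD3_c55)) = v20221 :=
  Lgr Lrot48 (Lpr_ff (f785765 IH) (Lpn v20221))
theorem f785762 : Led Lsl_af (LP (LK LD1_c6 LD2_c52 LD3_c27)) = v20221 :=
  Lgr Lrot0 (Lpr_at (f785761 IH) (Lpn v20221))
theorem f131053 : Led Lsl_gt (LP (LK LD1_c13 LD2_c4 LD3_c20)) = (LP (LK LD1_c6 LD2_c52 LD3_c27)) :=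
  Lre_g IH (LK LD1_c13 LD2_c4 LD3_c20) (LK LD1_c6 LD2_c52 LD3_c27) Lrfl Lrfl
theorem f785772 : Led Lsl_gt (LP (LK LD1_c7 LD2_c20 LD3_c55)) = (LP (LK LD1_c13 LD2_c4 LD3_c20)) :=
  Lgr Lrot5 (Lpr_ft (f785771 IH) (Lpe (f785762 IH) (Lpe (f131053 IH) (Lpn (LP (LK LD1_c13 LD2_c4 LD3_c20))))))
theorem f785773 : Led Lsl_gt (LP (LK LD1_c7 LD2_c20 LD3_c55)) = (LP (LK LD1_c13 LD2_c4 LD3_c20)) :=
  Leop (Lpe (f785772 IH) (Lpn (LP (LK LD1_c7 LD2_c20 LD3_c55))))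
theorem seed_1510 : LEOK LG_g (LK LD1_c7 LD2_c20 LD3_c55) :=
  Leoe_g (LK LD1_c7 LD2_c20 LD3_c55) (f785773 IH)
theorem f125008 : Led Lsl_bt (LP (LK LD1_c3 LD2_c42 LD3_c51)) = (LP (LK LD1_c1 LD2_c48 LD3_c26)) :=
  Lre_b IH (LK LD1_c3 LD2_c42 LD3_c51) (LK LD1_c1 LD2_c48 LD3_c26) Lrfl Lrfl
theorem f125028 : Led Lsl_at (LP (LK LD1_c7 LD2_c26 LD3_c23)) = (LP (LK LD1_c3 LD2_c42 LD3_c51)) :=
  Lre_a IH (LK LD1_c7 LD2_c26 LD3_c23) (LK LD1_c3 LD2_c42 LD3_c51) Lrfl Lrfl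
theorem f121393 : Led Lsl_bt (LP (LK LD1_c1 LD2_c47 LD3_c7)) = (LP (LK LD1_c3 LD2_c40 LD3_c22)) :=
  Lre_b IH (LK LD1_c1 LD2_c47 LD3_c7) (LK LD1_c3 LD2_c40 LD3_c22) Lrfl Lrfl
theorem f142956 : Led Lsl_at (LP (LK LD1_c3 LD2_c40 LD3_c22)) = (LP (LK LD1_c7 LD2_c20 LD3_c55)) :=
  Lre_a IH (LK LD1_c3 LD2_c40 LD3_c22) (LK LD1_c7 LD2_c20 LD3_c55) Lrfl Lrfl
theorem f142957 : Led Lsl_bf (LP (LK LD1_c7 LD2_c26 LD3_c23)) = (LP (LK LD1_c7 LD2_c20 LD3_c55)) :=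
  Lgr Lrot81 (Lpr_at (f125028 IH) (Lpr_bt (f125008 IH) (Lpr_at (K6.f142950 IH) (Lpr_bt (f121393 IH) (Lpr_at (f142956 IH) (Lpn (LP (LK LD1_c7 LD2_c20 LD3_c55))))))))
theorem f121480 : Led Lsl_at (LP (LK LD1_c13 LD2_c4 LD3_c46)) = (LP (LK LD1_c6 LD2_c52 LD3_c47)) :=
  Lre_a IH (LK LD1_c13 LD2_c4 LD3_c46) (LK LD1_c6 LD2_c52 LD3_c47) Lrfl Lrfl
theorem f125005 : Led Lsl_at (LP (LK LD1_c3 LD2_c42 LD3_c51)) = (LP (LK LD1_c7 LD2_c26 LD3_c23)) :=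
  Lre_a IH (LK LD1_c3 LD2_c42 LD3_c51) (LK LD1_c7 LD2_c26 LD3_c23) Lrfl Lrfl
theorem f125006 : Led Lsl_ff (LP (LK LD1_c13 LD2_c4 LD3_c46)) = (LP (LK LD1_c7 LD2_c26 LD3_c23)) :=
  Lgr Lrot30 (Lpr_at (f121480 IH) (Lpr_ft (K5.f124993 IH) (Lpr_at (f125005 IH) (Lpn (LP (LK LD1_c7 LD2_c26 LD3_c23))))))
theorem f785770 : Led Lsl_bt (LP (LK LD1_c13 LD2_c4 LD3_c46)) = v20221 :=
  Lgr Lrot35 (Lpr_ff (f125006 IH) (Lpr_bf (f142957 IH) (Lpr_ff (f785765 IH) (Lpn v20221))))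
theorem f121472 : Led Lsl_at (LP (LK LD1_c6 LD2_c52 LD3_c47)) = (LP (LK LD1_c13 LD2_c4 LD3_c46)) :=
  Lre_a IH (LK LD1_c6 LD2_c52 LD3_c47) (LK LD1_c13 LD2_c4 LD3_c46) Lrfl Lrfl
theorem f121473 : Led Lsl_at (LP (LK LD1_c22 LD2_c12 LD3_c8)) = (LP (LK LD1_c13 LD2_c2 LD3_c33)) :=
  Lre_a IH (LK LD1_c22 LD2_c12 LD3_c8) (LK LD1_c13 LD2_c2 LD3_c33) Lrfl Lrfl
theorem f121474 : Led Lsl_ct (LP (LK LD1_c13 LD2_c4 LD3_c46)) = (LP (LK LD1_c22 LD2_c12 LD3_c8)) :=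
  Lgr Lrot111 (Lpe (f121472 IH) (Lpr_cf (K5.f121469 IH) (Lpe (f121473 IH) (Lpn (LP (LK LD1_c22 LD2_c12 LD3_c8))))))
theorem f121485 : Led Lsl_at (LP (LK LD1_c13 LD2_c2 LD3_c33)) = (LP (LK LD1_c22 LD2_c12 LD3_c8)) :=
  Lre_a IH (LK LD1_c13 LD2_c2 LD3_c33) (LK LD1_c22 LD2_c12 LD3_c8) Lrfl Lrfl
theorem f124997 : Led Lsl_gt (LP (LK LD1_c7 LD2_c25 LD3_c37)) = (LP (LK LD1_c14 LD2_c2 LD3_c35)) :=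
  Lre_g IH (LK LD1_c7 LD2_c25 LD3_c37) (LK LD1_c14 LD2_c2 LD3_c35) Lrfl Lrfl
theorem f124998 : Led Lsl_gf (LP (LK LD1_c22 LD2_c12 LD3_c8)) = (LP (LK LD1_c14 LD2_c2 LD3_c35)) :=
  Lgr Lrot76 (Lpe (f121485 IH) (Lpr_ff (K5.f124987 IH) (Lpr_gt (f124997 IH) (Lpn (LP (LK LD1_c14 LD2_c2 LD3_c35))))))
theorem f125001 : Led Lsl_ct (LP (LK LD1_c23 LD2_c35 LD3_c34)) = (LP (LK LD1_c14 LD2_c2 LD3_c35)) :=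
  Lre_c IH (LK LD1_c23 LD2_c35 LD3_c34) (LK LD1_c14 LD2_c2 LD3_c35) Lrfl Lrfl
theorem f429305 : Led Lsl_dt (LP (LK LD1_c3 LD2_c40 LD3_c22)) = (LP (LK LD1_c7 LD2_c20 LD3_c56)) :=
  Lre_d IH (LK LD1_c3 LD2_c40 LD3_c22) (LK LD1_c7 LD2_c20 LD3_c56) Lrfl Lrfl
theorem f131293 : Led Lsl_ct (LP (LK LD1_c7 LD2_c20 LD3_c56)) = (LP (LK LD1_c13 LD2_c53 LD3_c45)) :=
  Lre_c IH (LK LD1_c7 LD2_c20 LD3_c56) (LK LD1_c13 LD2_c53 LD3_c45) Lrfl Lrfl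
theorem f429306 : Led Lsl_dt (LP (LK LD1_c13 LD2_c53 LD3_c45)) = (LP (LK LD1_c23 LD2_c23 LD3_c51)) :=
  Lre_d IH (LK LD1_c13 LD2_c53 LD3_c45) (LK LD1_c23 LD2_c23 LD3_c51) Lrfl Lrfl
theorem f153481 : Led Lsl_at (LP (LK LD1_c0 LD2_c18 LD3_c42)) = (LP (LK LD1_c0 LD2_c30 LD3_c18)) :=
  Lgr Lrot107 (Lpe (K2.f67085 IH) (Lpr_af (K7.f153475 IH) (Lpe (K3.f25777 IH) (Lpn (LP (LK LD1_c0 LD2_c30 LD3_c18))))))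
theorem f67089 : Led Lsl_bt (LP (LK LD1_c0 LD2_c41 LD3_c42)) = (LP (LK LD1_c0 LD2_c18 LD3_c42)) :=
  Lre_b IH (LK LD1_c0 LD2_c41 LD3_c42) (LK LD1_c0 LD2_c18 LD3_c42) Lrfl Lrfl
theorem f435748 : Led Lsl_at (LP (LK LD1_c1 LD2_c29 LD3_c57)) = (LP (LK LD1_c0 LD2_c41 LD3_c42)) :=
  Lre_a IH (LK LD1_c1 LD2_c29 LD3_c57) (LK LD1_c0 LD2_c41 LD3_c42) Lrfl Lrfl
theorem f104653 : Led Lsl_at (LP (LK LD1_c1 LD2_c6 LD3_c9)) = (LP (LK LD1_c2 LD2_c18 LD3_c1)) :=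
  Lre_a IH (LK LD1_c1 LD2_c6 LD3_c9) (LK LD1_c2 LD2_c18 LD3_c1) Lrfl Lrfl
theorem f435749 : Led Lsl_bf (LP (LK LD1_c1 LD2_c29 LD3_c57)) = (LP (LK LD1_c2 LD2_c18 LD3_c1)) :=
  Lgr Lrot81 (Lpr_at (f435748 IH) (Lpr_bt (f67089 IH) (Lpr_at (f153481 IH) (Lpr_bt (K5.f86021 IH) (Lpr_at (f104653 IH) (Lpn (LP (LK LD1_c2 LD2_c18 LD3_c1))))))))
theorem f133726 : Led Lsl_gt (LP (LK LD1_c3 LD2_c1 LD3_c17)) = (LP (LK LD1_c3 LD2_c14 LD3_c47)) :=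
  Lgr Lrot5 (Lpr_ft (K5.f133707 IH) (Lpe (K3.f107433 IH) (Lpe (K6.f24358 IH) (Lpn (LP (LK LD1_c3 LD2_c14 LD3_c47))))))
theorem f24359 : Led Lsl_ct (LP (LK LD1_c6 LD2_c28 LD3_c9)) = (LP (LK LD1_c3 LD2_c11 LD3_c61)) :=
  Lre_c IH (LK LD1_c6 LD2_c28 LD3_c9) (LK LD1_c3 LD2_c11 LD3_c61) Lrfl Lrfl
theorem f133728 : Led Lsl_gf (LP (LK LD1_c6 LD2_c28 LD3_c9)) = (LP (LK LD1_c6 LD2_c33 LD3_c1)) :=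
  Lgr Lrot104 (Lpr_ct (f24359 IH) (Lpe (K3.f24352 IH) (Lpr_cf (K3.f24338 IH) (Lpe (K5.f24360 IH) (Lpe (K5.f126783 IH) (Lpr_gf (K5.f126840 IH) (Lpe (K5.f62389 IH) (Lpr_gt (f133726 IH) (Lpr_ct (K6.f126730 IH) (Lpn (LP (LK LD1_c6 LD2_c33 LD3_c1))))))))))))
theorem f104630 : Led Lsl_ct (LP (LK LD1_c2 LD2_c18 LD3_c1)) = (LP (LK LD1_c4 LD2_c41 LD3_c43)) :=
  Lre_c IH (LK LD1_c2 LD2_c18 LD3_c1) (LK LD1_c4 LD2_c41 LD3_c43) Lrfl Lrfl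
theorem f152630 : Led Lsl_gt (LP (LK LD1_c4 LD2_c41 LD3_c43)) = (LP (LK LD1_c9 LD2_c18 LD3_c8)) :=
  Lre_g IH (LK LD1_c4 LD2_c41 LD3_c43) (LK LD1_c9 LD2_c18 LD3_c8) Lrfl Lrfl
theorem f435754 : Led Lsl_ct (LP (LK LD1_c4 LD2_c43 LD3_c1)) = (LP (LK LD1_c9 LD2_c18 LD3_c8)) :=
  Lgr Lrot10 (Lpe (K5.f126648 IH) (Lpr_gt (f133726 IH) (Lpr_ct (K6.f126730 IH) (Lpe (f133728 IH) (Lpe (K6.f24353 IH) (Lpr_bt (K4.f104213 IH) (Lpr_gt (K7.f155496 IH) (Lpr_bf (f435749 IH) (Lpr_ct (f104630 IH) (Lpr_gt (f152630 IH) (Lpn (LP (LK LD1_c9 LD2_c18 LD3_c8)))))))))))))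
theorem f435765 : Led Lsl_gf (LP (LK LD1_c4 LD2_c41 LD3_c61)) = (LP (LK LD1_c9 LD2_c18 LD3_c8)) :=
  Lgr Lrot126 (Lpe (f104625 IH) (Lpr_bt (f152642 IH) (Lpr_gt (K35.f152660 IH) (Lpr_ct (K2.f83195 IH) (Lpr_gt (K6.f135470 IH) (Lpe (K7.f86368 IH) (Lpr_bt (K6.f113157 IH) (Lpe (K33.f143747 IH) (Lpr_bf (K5.f126648 IH) (Lpr_ct (f435754 IH) (Lpn (LP (LK LD1_c9 LD2_c18 LD3_c8)))))))))))))
theorem f435767 : Led Lsl_bt (LP (LK LD1_c17 LD2_c13 LD3_c11)) = (LP (LK LD1_c9 LD2_c18 LD3_c8)) :=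
  Lre_b IH (LK LD1_c17 LD2_c13 LD3_c11) (LK LD1_c9 LD2_c18 LD3_c8) Lrfl Lrfl
theorem f126669 : Led Lsl_bt (LP (LK LD1_c12 LD2_c0 LD3_c10)) = (LP (LK LD1_c6 LD2_c9 LD3_c36)) :=
  Lre_b IH (LK LD1_c12 LD2_c0 LD3_c10) (LK LD1_c6 LD2_c9 LD3_c36) Lrfl Lrfl
theorem f435758 : Led Lsl_bt (LP (LK LD1_c9 LD2_c18 LD3_c8)) = (LP (LK LD1_c17 LD2_c13 LD3_c11)) :=
  Lre_b IH (LK LD1_c9 LD2_c18 LD3_c8) (LK LD1_c17 LD2_c13 LD3_c11) Lrfl Lrfl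
theorem f435759 : Led Lsl_cf (LP (LK LD1_c12 LD2_c0 LD3_c10)) = (LP (LK LD1_c17 LD2_c13 LD3_c11)) :=
  Lgr Lrot97 (Lpr_bt (f126669 IH) (Lpr_ct (K5.f126681 IH) (Lpe (K5.f133715 IH) (Lpr_ct (f435754 IH) (Lpr_bt (f435758 IH) (Lpn (LP (LK LD1_c17 LD2_c13 LD3_c11))))))))
theorem f126694 : Led Lsl_gt (LP (LK LD1_c21 LD2_c5 LD3_c3)) = (LP (LK LD1_c12 LD2_c0 LD3_c10)) :=
  Lre_g IH (LK LD1_c21 LD2_c5 LD3_c3) (LK LD1_c12 LD2_c0 LD3_c10) Lrfl Lrfl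
theorem f434764 : Led Lsl_ct (LP (LK LD1_c12 LD2_c20 LD3_c20)) = (LP (LK LD1_c6 LD2_c23 LD3_c29)) :=
  Lre_c IH (LK LD1_c12 LD2_c20 LD3_c20) (LK LD1_c6 LD2_c23 LD3_c29) Lrfl Lrfl
theorem f155030 : Led Lsl_bt (LP (LK LD1_c12 LD2_c20 LD3_c20)) = (LP (LK LD1_c21 LD2_c26 LD3_c36)) :=
  Lre_b IH (LK LD1_c12 LD2_c20 LD3_c20) (LK LD1_c21 LD2_c26 LD3_c36) Lrfl Lrfl
theorem f155028 : Led Lsl_dt (LP (LK LD1_c3 LD2_c9 LD3_c22)) = (LP (LK LD1_c6 LD2_c23 LD3_c29)) :=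
  Lre_d IH (LK LD1_c3 LD2_c9 LD3_c22) (LK LD1_c6 LD2_c23 LD3_c29) Lrfl Lrfl
theorem f91589 : Led Lsl_bt (LP (LK LD1_c3 LD2_c24 LD3_c23)) = (LP (LK LD1_c1 LD2_c38 LD3_c39)) :=
  Lre_b IH (LK LD1_c3 LD2_c24 LD3_c23) (LK LD1_c1 LD2_c38 LD3_c39) Lrfl Lrfl
theorem f131206 : Led Lsl_bt (LP (LK LD1_c7 LD2_c20 LD3_c56)) = (LP (LK LD1_c3 LD2_c40 LD3_c23)) :=
  Lre_b IH (LK LD1_c7 LD2_c20 LD3_c56) (LK LD1_c3 LD2_c40 LD3_c23) Lrfl Lrfl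
theorem f131207 : Led Lsl_ct (LP (LK LD1_c13 LD2_c53 LD3_c45)) = (LP (LK LD1_c7 LD2_c20 LD3_c56)) :=
  Lre_c IH (LK LD1_c13 LD2_c53 LD3_c45) (LK LD1_c7 LD2_c20 LD3_c56) Lrfl Lrfl
theorem f131208 : Led Lsl_dt (LP (LK LD1_c23 LD2_c23 LD3_c51)) = (LP (LK LD1_c13 LD2_c53 LD3_c45)) :=
  Lre_d IH (LK LD1_c23 LD2_c23 LD3_c51) (LK LD1_c13 LD2_c53 LD3_c45) Lrfl Lrfl
theorem f155031 : Led Lsl_gt (LP (LK LD1_c21 LD2_c26 LD3_c36)) = (LP (LK LD1_c23 LD2_c23 LD3_c51)) :=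
  Lgr Lrot190 (Lpe (f155030 IH) (Lpe (f155029 IH) (Lpe (f155028 IH) (Lpe (K57.f86422 IH) (Lpe (K16.f67097 IH) (Lpe (K2.f67082 IH) (Lpe (K1.f61775 IH) (Lpe (K1.f58935 IH) (Lpe (K11.f67145 IH) (Lpr_cf (K7.f155009 IH) (Lpe (K7.f10928 IH) (Lpr_gf (K7.f154965 IH) (Lpe (f91589 IH) (Lpe (K5.f91686 IH) (Lpe (K5.f131195 IH) (Lpe (K5.f131119 IH) (Lpe (f131206 IH) (Lpe (f131207 IH) (Lpe (f131208 IH) (Lpn (LP (LK LD1_c23 LD2_c23 LD3_c51))))))))))))))))))))))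
theorem f782969 : Led Lsl_cf (LP (LK LD1_c21 LD2_c5 LD3_c3)) = (LP (LK LD1_c23 LD2_c23 LD3_c51)) :=
  Lgr Lrot125 (Lpr_gt (f126694 IH) (Lpr_cf (f435759 IH) (Lpr_bt (f435767 IH) (Lpe (f435765 IH) (Lpe (f152643 IH) (Lpr_ct (f25462 IH) (Lpr_gt (f653565 IH) (Lpqs (f782947 IH) (Lpe (f434764 IH) (Lpr_bt (f155030 IH) (Lpr_gt (f155031 IH) (Lpn (LP (LK LD1_c23 LD2_c23 LD3_c51))))))))))))))
theorem f435778 : Led Lsl_dt (LP (LK LD1_c21 LD2_c5 LD3_c3)) = (LP (LK LD1_c29 LD2_c50 LD3_c45)) :=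
  Lre_d IH (LK LD1_c21 LD2_c5 LD3_c3) (LK LD1_c29 LD2_c50 LD3_c45) Lrfl Lrfl
theorem f429287 : Led Lsl_at (LP (LK LD1_c13 LD2_c28 LD3_c51)) = (LP (LK LD1_c22 LD2_c48 LD3_c46)) :=
  Lre_a IH (LK LD1_c13 LD2_c28 LD3_c51) (LK LD1_c22 LD2_c48 LD3_c46) Lrfl Lrfl
theorem f782974 : Led Lsl_ct (LP (LK LD1_c29 LD2_c50 LD3_c45)) = (LP (LK LD1_c22 LD2_c48 LD3_c46)) :=
  Lgr Lrot98 (Lpe (f435778 IH) (Lpr_cf (f782969 IH) (Lpe (f429306 IH) (Lpe (f131293 IH) (Lpe (f429305 IH) (Lpe (K29.f429068 IH) (Lpe (K29.f429304 IH) (Lpe (K29.f429285 IH) (Lpr_at (f429287 IH) (Lpn (LP (LK LD1_c22 LD2_c48 LD3_c46))))))))))))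
theorem f429307 : Led Lsl_dt (LP (LK LD1_c22 LD2_c48 LD3_c46)) = (LP (LK LD1_c13 LD2_c28 LD3_c50)) :=
  Lre_d IH (LK LD1_c22 LD2_c48 LD3_c46) (LK LD1_c13 LD2_c28 LD3_c50) Lrfl Lrfl
theorem f785767 : Led Lsl_ct (LP (LK LD1_c13 LD2_c28 LD3_c50)) = v20221 :=
  Lgr Lrot98 (Lpe (f429307 IH) (Lpe (f782974 IH) (Lpe (f435778 IH) (Lpr_cf (f782969 IH) (Lpe (f429306 IH) (Lpe (f131293 IH) (Lpe (f429305 IH) (Lpe (K29.f429381 IH) (Lpr_at (f785761 IH) (Lpn v20221))))))))))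
theorem f121728 : Led Lsl_at (LP (LK LD1_c7 LD2_c6 LD3_c50)) = (LP (LK LD1_c13 LD2_c28 LD3_c50)) :=
  Lre_a IH (LK LD1_c7 LD2_c6 LD3_c50) (LK LD1_c13 LD2_c28 LD3_c50) Lrfl Lrfl
theorem f429081 : Led Lsl_gt (LP (LK LD1_c3 LD2_c34 LD3_c40)) = (LP (LK LD1_c7 LD2_c10 LD3_c27)) :=
  Lre_g IH (LK LD1_c3 LD2_c34 LD3_c40) (LK LD1_c7 LD2_c10 LD3_c27) Lrfl Lrfl
theorem f429340 : Led Lsl_gf (LP (LK LD1_c13 LD2_c28 LD3_c50)) = (LP (LK LD1_c7 LD2_c10 LD3_c27)) :=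
  Lgr Lrot76 (Lpe (f121728 IH) (Lpr_ff (K29.f429318 IH) (Lpr_gt (f429081 IH) (Lpn (LP (LK LD1_c7 LD2_c10 LD3_c27))))))
theorem f429345 : Led Lsl_bt (LP (LK LD1_c13 LD2_c35 LD3_c12)) = (LP (LK LD1_c7 LD2_c10 LD3_c27)) :=
  Lre_b IH (LK LD1_c13 LD2_c35 LD3_c12) (LK LD1_c7 LD2_c10 LD3_c27) Lrfl Lrfl
theorem f429070 : Led Lsl_ct (LP (LK LD1_c1 LD2_c44 LD3_c6)) = (LP (LK LD1_c1 LD2_c45 LD3_c41)) :=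
  Lgr Lrot59 (Lpr_cf (K29.f429061 IH) (Lpn (LP (LK LD1_c1 LD2_c45 LD3_c41))))
theorem f86706 : Led Lsl_bt (LP (LK LD1_c3 LD2_c36 LD3_c15)) = (LP (LK LD1_c1 LD2_c44 LD3_c60)) :=
  Lre_b IH (LK LD1_c3 LD2_c36 LD3_c15) (LK LD1_c1 LD2_c44 LD3_c60) Lrfl Lrfl
theorem f86701 : Led Lsl_gt (LP (LK LD1_c13 LD2_c15 LD3_c21)) = (LP (LK LD1_c6 LD2_c59 LD3_c10)) :=
  Lre_g IH (LK LD1_c13 LD2_c15 LD3_c21) (LK LD1_c6 LD2_c59 LD3_c10) Lrfl Lrfl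
theorem f429589 : Led Lsl_ct (LP (LK LD1_c13 LD2_c35 LD3_c12)) = (LP (LK LD1_c13 LD2_c15 LD3_c21)) :=
  Lgr Lrot64 (Lpr_bt (f429345 IH) (Lpe (f429081 IH) (Lpe (K29.f429067 IH) (Lpr_ct (f429070 IH) (Lpe (K29.f105982 IH) (Lpr_cf (K33.f105987 IH) (Lpe (K5.f86711 IH) (Lpe (f86706 IH) (Lpr_ct (K4.f86693 IH) (Lpe (f86701 IH) (Lpn (LP (LK LD1_c13 LD2_c15 LD3_c21)))))))))))))
theorem f429446 : Led Lsl_bt (LP (LK LD1_c7 LD2_c10 LD3_c31)) = (LP (LK LD1_c3 LD2_c34 LD3_c42)) :=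
  Lre_b IH (LK LD1_c7 LD2_c10 LD3_c31) (LK LD1_c3 LD2_c34 LD3_c42) Lrfl Lrfl
theorem f429428 : Led Lsl_at (LP (LK LD1_c13 LD2_c35 LD3_c20)) = (LP (LK LD1_c7 LD2_c10 LD3_c31)) :=
  Lre_a IH (LK LD1_c13 LD2_c35 LD3_c20) (LK LD1_c7 LD2_c10 LD3_c31) Lrfl Lrfl
theorem f86854 : Led Lsl_bt (LP (LK LD1_c7 LD2_c6 LD3_c54)) = (LP (LK LD1_c13 LD2_c28 LD3_c57)) :=
  Lre_b IH (LK LD1_c7 LD2_c6 LD3_c54) (LK LD1_c13 LD2_c28 LD3_c57) Lrfl Lrfl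
theorem f429486 : Led Lsl_at (LP (LK LD1_c13 LD2_c28 LD3_c57)) = (LP (LK LD1_c22 LD2_c48 LD3_c57)) :=
  Lre_a IH (LK LD1_c13 LD2_c28 LD3_c57) (LK LD1_c22 LD2_c48 LD3_c57) Lrfl Lrfl
theorem f429487 : Led Lsl_bf (LP (LK LD1_c13 LD2_c35 LD3_c20)) = (LP (LK LD1_c22 LD2_c48 LD3_c57)) :=
  Lgr Lrot81 (Lpr_at (f429428 IH) (Lpr_bt (f429446 IH) (Lpr_at (K35.f429457 IH) (Lpr_bt (f86854 IH) (Lpr_at (f429486 IH) (Lpn (LP (LK LD1_c22 LD2_c48 LD3_c57))))))))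
theorem f429367 : Led Lsl_et (LP (LK LD1_c13 LD2_c35 LD3_c20)) = (LP (LK LD1_c7 LD2_c10 LD3_c29)) :=
  Lre_e IH (LK LD1_c13 LD2_c35 LD3_c20) (LK LD1_c7 LD2_c10 LD3_c29) Lrfl Lrfl
theorem f106410 : Led Lsl_et (LP (LK LD1_c13 LD2_c28 LD3_c55)) = (LP (LK LD1_c22 LD2_c48 LD3_c57)) :=
  Lre_e IH (LK LD1_c13 LD2_c28 LD3_c55) (LK LD1_c22 LD2_c48 LD3_c57) Lrfl Lrfl
theorem f429492 : Led Lsl_bt (LP (LK LD1_c7 LD2_c10 LD3_c29)) = (LP (LK LD1_c13 LD2_c28 LD3_c55)) :=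
  Lgr Lrot119 (Lpe (f429367 IH) (Lpr_bf (f429487 IH) (Lpe (f106410 IH) (Lpn (LP (LK LD1_c13 LD2_c28 LD3_c55))))))
theorem f429327 : Led Lsl_dt (LP (LK LD1_c13 LD2_c35 LD3_c19)) = (LP (LK LD1_c7 LD2_c10 LD3_c29)) :=
  Lre_d IH (LK LD1_c13 LD2_c35 LD3_c19) (LK LD1_c7 LD2_c10 LD3_c29) Lrfl Lrfl
theorem f106408 : Led Lsl_dt (LP (LK LD1_c13 LD2_c28 LD3_c55)) = (LP (LK LD1_c22 LD2_c48 LD3_c56)) :=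
  Lre_d IH (LK LD1_c13 LD2_c28 LD3_c55) (LK LD1_c22 LD2_c48 LD3_c56) Lrfl Lrfl
theorem f429496 : Led Lsl_bf (LP (LK LD1_c13 LD2_c35 LD3_c19)) = (LP (LK LD1_c22 LD2_c48 LD3_c56)) :=
  Lgr Lrot93 (Lpr_dt (f429327 IH) (Lpr_bt (f429492 IH) (Lpr_dt (f106408 IH) (Lpn (LP (LK LD1_c22 LD2_c48 LD3_c56))))))
theorem f121720 : Led Lsl_at (LP (LK LD1_c22 LD2_c48 LD3_c46)) = (LP (LK LD1_c13 LD2_c28 LD3_c51)) :=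
  Lre_a IH (LK LD1_c22 LD2_c48 LD3_c46) (LK LD1_c13 LD2_c28 LD3_c51) Lrfl Lrfl
theorem f429227 : Led Lsl_at (LP (LK LD1_c7 LD2_c10 LD3_c30)) = (LP (LK LD1_c13 LD2_c35 LD3_c19)) :=
  Lre_a IH (LK LD1_c7 LD2_c10 LD3_c30) (LK LD1_c13 LD2_c35 LD3_c19) Lrfl Lrfl
theorem f429313 : Led Lsl_ff (LP (LK LD1_c22 LD2_c48 LD3_c46)) = (LP (LK LD1_c13 LD2_c35 LD3_c19)) :=
  Lgr Lrot30 (Lpr_at (f121720 IH) (Lpr_ft (K29.f429300 IH) (Lpr_at (f429227 IH) (Lpn (LP (LK LD1_c13 LD2_c35 LD3_c19))))))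
theorem f121644 : Led Lsl_at (LP (LK LD1_c7 LD2_c10 LD3_c23)) = (LP (LK LD1_c13 LD2_c34 LD3_c59)) :=
  Lre_a IH (LK LD1_c7 LD2_c10 LD3_c23) (LK LD1_c13 LD2_c34 LD3_c59) Lrfl Lrfl
theorem f121645 : Led Lsl_at (LP (LK LD1_c22 LD2_c48 LD3_c56)) = (LP (LK LD1_c13 LD2_c28 LD3_c56)) :=
  Lre_a IH (LK LD1_c22 LD2_c48 LD3_c56) (LK LD1_c13 LD2_c28 LD3_c56) Lrfl Lrfl
theorem f121646 : Led Lsl_ft (LP (LK LD1_c13 LD2_c34 LD3_c59)) = (LP (LK LD1_c22 LD2_c48 LD3_c56)) :=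
  Lgr Lrot101 (Lpe (f121644 IH) (Lpr_ff (K4.f121638 IH) (Lpe (f121645 IH) (Lpn (LP (LK LD1_c22 LD2_c48 LD3_c56))))))
theorem f429500 : Led Lsl_bt (LP (LK LD1_c22 LD2_c48 LD3_c46)) = (LP (LK LD1_c13 LD2_c34 LD3_c59)) :=
  Lgr Lrot35 (Lpr_ff (f429313 IH) (Lpr_bf (f429496 IH) (Lpe (f121646 IH) (Lpn (LP (LK LD1_c13 LD2_c34 LD3_c59))))))
theorem f429312 : Led Lsl_dt (LP (LK LD1_c13 LD2_c28 LD3_c50)) = (LP (LK LD1_c22 LD2_c48 LD3_c46)) :=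
  Lre_d IH (LK LD1_c13 LD2_c28 LD3_c50) (LK LD1_c22 LD2_c48 LD3_c46) Lrfl Lrfl
theorem f429502 : Led Lsl_dt (LP (LK LD1_c13 LD2_c34 LD3_c59)) = (LP (LK LD1_c7 LD2_c10 LD3_c21)) :=
  Lre_d IH (LK LD1_c13 LD2_c34 LD3_c59) (LK LD1_c7 LD2_c10 LD3_c21) Lrfl Lrfl
theorem f429503 : Led Lsl_bf (LP (LK LD1_c13 LD2_c28 LD3_c50)) = (LP (LK LD1_c7 LD2_c10 LD3_c21)) :=
  Lgr Lrot93 (Lpr_dt (f429312 IH) (Lpr_bt (f429500 IH) (Lpr_dt (f429502 IH) (Lpn (LP (LK LD1_c7 LD2_c10 LD3_c21))))))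
theorem f429510 : Led Lsl_ct (LP (LK LD1_c7 LD2_c10 LD3_c21)) = (LP (LK LD1_c13 LD2_c34 LD3_c58)) :=
  Lre_c IH (LK LD1_c7 LD2_c10 LD3_c21) (LK LD1_c13 LD2_c34 LD3_c58) Lrfl Lrfl
theorem f429333 : Led Lsl_at (LP (LK LD1_c7 LD2_c10 LD3_c29)) = (LP (LK LD1_c3 LD2_c34 LD3_c40)) :=
  Lre_a IH (LK LD1_c7 LD2_c10 LD3_c29) (LK LD1_c3 LD2_c34 LD3_c40) Lrfl Lrfl
theorem f429334 : Led Lsl_ft (LP (LK LD1_c13 LD2_c28 LD3_c50)) = (LP (LK LD1_c7 LD2_c10 LD3_c29)) :=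
  Lgr Lrot101 (Lpe (f121728 IH) (Lpr_ff (K29.f429318 IH) (Lpe (f429333 IH) (Lpn (LP (LK LD1_c7 LD2_c10 LD3_c29))))))
theorem f429508 : Led Lsl_ft (LP (LK LD1_c13 LD2_c28 LD3_c55)) = (LP (LK LD1_c7 LD2_c10 LD3_c21)) :=
  Lgr Lrot75 (Lpe (f429492 IH) (Lpe (f429334 IH) (Lpr_bf (f429503 IH) (Lpn (LP (LK LD1_c7 LD2_c10 LD3_c21))))))
theorem f92261 : Led Lsl_bt (LP (LK LD1_c13 LD2_c2 LD3_c34)) = (LP (LK LD1_c6 LD2_c51 LD3_c24)) :=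
  Lre_b IH (LK LD1_c13 LD2_c2 LD3_c34) (LK LD1_c6 LD2_c51 LD3_c24) Lrfl Lrfl
theorem f86846 : Led Lsl_bt (LP (LK LD1_c3 LD2_c32 LD3_c58)) = (LP (LK LD1_c7 LD2_c6 LD3_c52)) :=
  Lre_b IH (LK LD1_c3 LD2_c32 LD3_c58) (LK LD1_c7 LD2_c6 LD3_c52) Lrfl Lrfl
theorem f106389 : Led Lsl_cf (LP (LK LD1_c13 LD2_c2 LD3_c34)) = (LP (LK LD1_c7 LD2_c6 LD3_c52)) :=
  Lgr Lrot97 (Lpr_bt (f92261 IH) (Lpr_ct (K4.f106359 IH) (Lpe (K4.f86816 IH) (Lpr_ct (K3.f86844 IH) (Lpr_bt (f86846 IH) (Lpn (LP (LK LD1_c7 LD2_c6 LD3_c52))))))))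
theorem f106392 : Led Lsl_at (LP (LK LD1_c13 LD2_c2 LD3_c34)) = (LP (LK LD1_c22 LD2_c12 LD3_c10)) :=
  Lre_a IH (LK LD1_c13 LD2_c2 LD3_c34) (LK LD1_c22 LD2_c12 LD3_c10) Lrfl Lrfl
theorem f106393 : Led Lsl_at (LP (LK LD1_c13 LD2_c28 LD3_c55)) = (LP (LK LD1_c7 LD2_c6 LD3_c52)) :=
  Lre_a IH (LK LD1_c13 LD2_c28 LD3_c55) (LK LD1_c7 LD2_c6 LD3_c52) Lrfl Lrfl
theorem f106394 : Led Lsl_ct (LP (LK LD1_c22 LD2_c12 LD3_c10)) = (LP (LK LD1_c13 LD2_c28 LD3_c55)) :=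
  Lgr Lrot111 (Lpe (f106392 IH) (Lpr_cf (f106389 IH) (Lpe (f106393 IH) (Lpn (LP (LK LD1_c13 LD2_c28 LD3_c55))))))
theorem f429511 : Led Lsl_ff (LP (LK LD1_c22 LD2_c12 LD3_c10)) = (LP (LK LD1_c13 LD2_c34 LD3_c58)) :=
  Lgr Lrot23 (Lpr_ct (f106394 IH) (Lpr_ft (f429508 IH) (Lpr_ct (f429510 IH) (Lpn (LP (LK LD1_c13 LD2_c34 LD3_c58))))))
theorem f106398 : Led Lsl_at (LP (LK LD1_c22 LD2_c12 LD3_c10)) = (LP (LK LD1_c13 LD2_c2 LD3_c34)) :=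
  Lre_a IH (LK LD1_c22 LD2_c12 LD3_c10) (LK LD1_c13 LD2_c2 LD3_c34) Lrfl Lrfl
theorem f106391 : Led Lsl_gt (LP (LK LD1_c22 LD2_c12 LD3_c9)) = (LP (LK LD1_c13 LD2_c2 LD3_c34)) :=
  Lre_g IH (LK LD1_c22 LD2_c12 LD3_c9) (LK LD1_c13 LD2_c2 LD3_c34) Lrfl Lrfl
theorem f429543 : Led Lsl_gf (LP (LK LD1_c22 LD2_c12 LD3_c9)) = (LP (LK LD1_c13 LD2_c34 LD3_c58)) :=
  Lgr Lrot47 (Lpr_gt (f106391 IH) (Lpe (f106398 IH) (Lpr_ff (f429511 IH) (Lpn (LP (LK LD1_c13 LD2_c34 LD3_c58))))))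
theorem f10722 : Led Lsl_bt (LP (LK LD1_c7 LD2_c6 LD3_c52)) = (LP (LK LD1_c3 LD2_c32 LD3_c58)) :=
  Lre_b IH (LK LD1_c7 LD2_c6 LD3_c52) (LK LD1_c3 LD2_c32 LD3_c58) Lrfl Lrfl
theorem f86888 : Led Lsl_gt (LP (LK LD1_c3 LD2_c36 LD3_c15)) = (LP (LK LD1_c7 LD2_c12 LD3_c50)) :=
  Lre_g IH (LK LD1_c3 LD2_c36 LD3_c15) (LK LD1_c7 LD2_c12 LD3_c50) Lrfl Lrfl
theorem f105768 : Led Lsl_bt (LP (LK LD1_c13 LD2_c39 LD3_c16)) = (LP (LK LD1_c7 LD2_c12 LD3_c50)) :=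
  Lre_b IH (LK LD1_c13 LD2_c39 LD3_c16) (LK LD1_c7 LD2_c12 LD3_c50) Lrfl Lrfl
theorem f106399 : Led Lsl_cf (LP (LK LD1_c22 LD2_c12 LD3_c9)) = (LP (LK LD1_c13 LD2_c39 LD3_c16)) :=
  Lgr Lrot160 (Lpr_gt (f106391 IH) (Lpr_cf (f106389 IH) (Lpr_bt (f10722 IH) (Lpr_gt (K3.f10406 IH) (Lpr_ct (K0.f10391 IH) (Lpe (K3.f105758 IH) (Lpe (K3.f86705 IH) (Lpr_bt (K4.f86692 IH) (Lpr_gt (f86888 IH) (Lpe (f105768 IH) (Lpn (LP (LK LD1_c13 LD2_c39 LD3_c16)))))))))))))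
theorem f121581 : Led Lsl_at (LP (LK LD1_c3 LD2_c34 LD3_c32)) = (LP (LK LD1_c7 LD2_c10 LD3_c11)) :=
  Lre_a IH (LK LD1_c3 LD2_c34 LD3_c32) (LK LD1_c7 LD2_c10 LD3_c11) Lrfl Lrfl
theorem f121588 : Led Lsl_gf (LP (LK LD1_c7 LD2_c10 LD3_c11)) = (LP (LK LD1_c7 LD2_c12 LD3_c50)) :=
  Lgr Lrot76 (Lpe (f121581 IH) (Lpr_ff (K4.f121577 IH) (Lpr_gt (f86888 IH) (Lpn (LP (LK LD1_c7 LD2_c12 LD3_c50))))))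
theorem f121565 : Led Lsl_ct (LP (LK LD1_c7 LD2_c10 LD3_c11)) = (LP (LK LD1_c13 LD2_c34 LD3_c37)) :=
  Lre_c IH (LK LD1_c7 LD2_c10 LD3_c11) (LK LD1_c13 LD2_c34 LD3_c37) Lrfl Lrfl
theorem f429598 : Led Lsl_gt (LP (LK LD1_c13 LD2_c34 LD3_c37)) = (LP (LK LD1_c13 LD2_c15 LD3_c21)) :=
  Lgr Lrot149 (Lpe (f121565 IH) (Lpr_gf (f121588 IH) (Lpe (f105768 IH) (Lpe (f106399 IH) (Lpr_gf (f429543 IH) (Lpe (f429510 IH) (Lpe (f429503 IH) (Lpr_gf (f429340 IH) (Lpe (f429345 IH) (Lpr_ct (f429589 IH) (Lpn (LP (LK LD1_c13 LD2_c15 LD3_c21)))))))))))))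
theorem f107953 : Led Lsl_bt (LP (LK LD1_c3 LD2_c34 LD3_c34)) = (LP (LK LD1_c7 LD2_c10 LD3_c13)) :=
  Lre_b IH (LK LD1_c3 LD2_c34 LD3_c34) (LK LD1_c7 LD2_c10 LD3_c13) Lrfl Lrfl
theorem f160120 : Led Lsl_at (LP (LK LD1_c7 LD2_c10 LD3_c13)) = (LP (LK LD1_c13 LD2_c34 LD3_c41)) :=
  Lre_a IH (LK LD1_c7 LD2_c10 LD3_c13) (LK LD1_c13 LD2_c34 LD3_c41) Lrfl Lrfl
theorem f107627 : Led Lsl_bt (LP (LK LD1_c7 LD2_c7 LD3_c26)) = (LP (LK LD1_c3 LD2_c33 LD3_c16)) :=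
  Lre_b IH (LK LD1_c7 LD2_c7 LD3_c26) (LK LD1_c3 LD2_c33 LD3_c16) Lrfl Lrfl
theorem f107615 : Led Lsl_at (LP (LK LD1_c13 LD2_c29 LD3_c54)) = (LP (LK LD1_c7 LD2_c7 LD3_c26)) :=
  Lre_a IH (LK LD1_c13 LD2_c29 LD3_c54) (LK LD1_c7 LD2_c7 LD3_c26) Lrfl Lrfl
theorem f160121 : Led Lsl_bt (LP (LK LD1_c13 LD2_c34 LD3_c41)) = (LP (LK LD1_c13 LD2_c29 LD3_c54)) :=
  Lgr Lrot62 (Lpe (f160120 IH) (Lpe (f107953 IH) (Lpr_af (K47.f160114 IH) (Lpe (f107627 IH) (Lpe (f107615 IH) (Lpn (LP (LK LD1_c13 LD2_c29 LD3_c54))))))))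
theorem f160183 : Led Lsl_et (LP (LK LD1_c7 LD2_c10 LD3_c11)) = (LP (LK LD1_c13 LD2_c34 LD3_c41)) :=
  Lre_e IH (LK LD1_c7 LD2_c10 LD3_c11) (LK LD1_c13 LD2_c34 LD3_c41) Lrfl Lrfl
theorem f107630 : Led Lsl_at (LP (LK LD1_c7 LD2_c16 LD3_c41)) = (LP (LK LD1_c3 LD2_c38 LD3_c9)) :=
  Lre_a IH (LK LD1_c7 LD2_c16 LD3_c41) (LK LD1_c3 LD2_c38 LD3_c9) Lrfl Lrfl
theorem f107631 : Led Lsl_at (LP (LK LD1_c7 LD2_c7 LD3_c26)) = (LP (LK LD1_c13 LD2_c29 LD3_c54)) :=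
  Lre_a IH (LK LD1_c7 LD2_c7 LD3_c26) (LK LD1_c13 LD2_c29 LD3_c54) Lrfl Lrfl
theorem f107632 : Led Lsl_ef (LP (LK LD1_c7 LD2_c16 LD3_c41)) = (LP (LK LD1_c13 LD2_c29 LD3_c54)) :=
  Lgr Lrot20 (Lpr_at (f107630 IH) (Lpr_et (K3.f107622 IH) (Lpr_at (f107631 IH) (Lpn (LP (LK LD1_c13 LD2_c29 LD3_c54))))))
theorem f160184 : Led Lsl_bf (LP (LK LD1_c7 LD2_c10 LD3_c11)) = (LP (LK LD1_c7 LD2_c16 LD3_c41)) :=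
  Lgr Lrot96 (Lpr_et (f160183 IH) (Lpr_bt (f160121 IH) (Lpe (f107632 IH) (Lpn (LP (LK LD1_c7 LD2_c16 LD3_c41))))))
theorem f160187 : Led Lsl_bt (LP (LK LD1_c7 LD2_c10 LD3_c11)) = (LP (LK LD1_c7 LD2_c16 LD3_c41)) :=
  Lgr Lrot127 (Lpr_bf (f160184 IH) (Lpn (LP (LK LD1_c7 LD2_c16 LD3_c41))))
theorem f107640 : Led Lsl_at (LP (LK LD1_c3 LD2_c38 LD3_c9)) = (LP (LK LD1_c7 LD2_c16 LD3_c41)) :=
  Lre_a IH (LK LD1_c3 LD2_c38 LD3_c9) (LK LD1_c7 LD2_c16 LD3_c41) Lrfl Lrfl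
theorem f94404 : Led Lsl_gt (LP (LK LD1_c3 LD2_c32 LD3_c32)) = (LP (LK LD1_c7 LD2_c5 LD3_c61)) :=
  Lre_g IH (LK LD1_c3 LD2_c32 LD3_c32) (LK LD1_c7 LD2_c5 LD3_c61) Lrfl Lrfl
theorem f107662 : Led Lsl_gf (LP (LK LD1_c7 LD2_c16 LD3_c41)) = (LP (LK LD1_c7 LD2_c5 LD3_c61)) :=
  Lgr Lrot76 (Lpe (f107640 IH) (Lpr_ff (K3.f107651 IH) (Lpr_gt (f94404 IH) (Lpn (LP (LK LD1_c7 LD2_c5 LD3_c61))))))
theorem f106031 : Led Lsl_bt (LP (LK LD1_c13 LD2_c27 LD3_c24)) = (LP (LK LD1_c7 LD2_c5 LD3_c61)) :=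
  Lre_b IH (LK LD1_c13 LD2_c27 LD3_c24) (LK LD1_c7 LD2_c5 LD3_c61) Lrfl Lrfl
theorem f106032 : Led Lsl_bt (LP (LK LD1_c3 LD2_c34 LD3_c40)) = (LP (LK LD1_c1 LD2_c44 LD3_c6)) :=
  Lre_b IH (LK LD1_c3 LD2_c34 LD3_c40) (LK LD1_c1 LD2_c44 LD3_c6) Lrfl Lrfl
theorem f94403 : Led Lsl_bt (LP (LK LD1_c1 LD2_c42 LD3_c58)) = (LP (LK LD1_c3 LD2_c32 LD3_c32)) :=
  Lre_b IH (LK LD1_c1 LD2_c42 LD3_c58) (LK LD1_c3 LD2_c32 LD3_c32) Lrfl Lrfl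
theorem f134861 : Led Lsl_gt (LP (LK LD1_c7 LD2_c20 LD3_c54)) = (LP (LK LD1_c3 LD2_c40 LD3_c22)) :=
  Lre_g IH (LK LD1_c7 LD2_c20 LD3_c54) (LK LD1_c3 LD2_c40 LD3_c22) Lrfl Lrfl
theorem f429602 : Led Lsl_ct (LP (LK LD1_c13 LD2_c27 LD3_c24)) = (LP (LK LD1_c7 LD2_c20 LD3_c54)) :=
  Lgr Lrot64 (Lpr_bt (f106031 IH) (Lpe (f94404 IH) (Lpe (f94403 IH) (Lpr_ct (K4.f94401 IH) (Lpr_gf (K3.f106004 IH) (Lpe (K3.f19734 IH) (Lpe (K29.f106019 IH) (Lpe (f106032 IH) (Lpr_ct (K29.f429068 IH) (Lpe (f134861 IH) (Lpn (LP (LK LD1_c7 LD2_c20 LD3_c54)))))))))))))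
theorem f785768 : Led Lsl_gf (LP (LK LD1_c7 LD2_c20 LD3_c54)) = v20221 :=
  Lgr Lrot129 (Lpe (f429602 IH) (Lpr_bt (f106031 IH) (Lpe (f107662 IH) (Lpe (f160187 IH) (Lpr_ct (f121565 IH) (Lpr_gt (f429598 IH) (Lpe (f429589 IH) (Lpr_bt (f429345 IH) (Lpe (f429340 IH) (Lpr_ct (f785767 IH) (Lpn v20221)))))))))))
theorem f134862 : Led Lsl_bt (LP (LK LD1_c13 LD2_c53 LD3_c43)) = (LP (LK LD1_c7 LD2_c20 LD3_c54)) :=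
  Lre_b IH (LK LD1_c13 LD2_c53 LD3_c43) (LK LD1_c7 LD2_c20 LD3_c54) Lrfl Lrfl
theorem f429611 : Led Lsl_bt (LP (LK LD1_c7 LD2_c5 LD3_c61)) = (LP (LK LD1_c13 LD2_c27 LD3_c24)) :=
  Lre_b IH (LK LD1_c7 LD2_c5 LD3_c61) (LK LD1_c13 LD2_c27 LD3_c24) Lrfl Lrfl
theorem f107666 : Led Lsl_ct (LP (LK LD1_c13 LD2_c27 LD3_c25)) = (LP (LK LD1_c7 LD2_c5 LD3_c61)) :=
  Lre_c IH (LK LD1_c13 LD2_c27 LD3_c25) (LK LD1_c7 LD2_c5 LD3_c61) Lrfl Lrfl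
theorem f429613 : Led Lsl_bt (LP (LK LD1_c22 LD2_c46 LD3_c61)) = (LP (LK LD1_c13 LD2_c27 LD3_c25)) :=
  Lre_b IH (LK LD1_c22 LD2_c46 LD3_c61) (LK LD1_c13 LD2_c27 LD3_c25) Lrfl Lrfl
theorem f429614 : Led Lsl_bt (LP (LK LD1_c7 LD2_c20 LD3_c54)) = (LP (LK LD1_c13 LD2_c53 LD3_c43)) :=
  Lre_b IH (LK LD1_c7 LD2_c20 LD3_c54) (LK LD1_c13 LD2_c53 LD3_c43) Lrfl Lrfl
theorem f429615 : Led Lsl_cf (LP (LK LD1_c22 LD2_c46 LD3_c61)) = (LP (LK LD1_c13 LD2_c53 LD3_c43)) :=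
  Lgr Lrot97 (Lpr_bt (f429613 IH) (Lpr_ct (f107666 IH) (Lpr_bt (f429611 IH) (Lpr_ct (f429602 IH) (Lpr_bt (f429614 IH) (Lpn (LP (LK LD1_c13 LD2_c53 LD3_c43))))))))
theorem f134945 : Led Lsl_gt (LP (LK LD1_c13 LD2_c4 LD3_c21)) = (LP (LK LD1_c6 LD2_c52 LD3_c29)) :=
  Lre_g IH (LK LD1_c13 LD2_c4 LD3_c21) (LK LD1_c6 LD2_c52 LD3_c29) Lrfl Lrfl
theorem f134946 : Led Lsl_ct (LP (LK LD1_c22 LD2_c14 LD3_c43)) = (LP (LK LD1_c13 LD2_c4 LD3_c21)) :=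
  Lre_c IH (LK LD1_c22 LD2_c14 LD3_c43) (LK LD1_c13 LD2_c4 LD3_c21) Lrfl Lrfl
theorem f107669 : Led Lsl_bt (LP (LK LD1_c13 LD2_c27 LD3_c25)) = (LP (LK LD1_c22 LD2_c46 LD3_c61)) :=
  Lre_b IH (LK LD1_c13 LD2_c27 LD3_c25) (LK LD1_c22 LD2_c46 LD3_c61) Lrfl Lrfl
theorem f134969 : Led Lsl_gf (LP (LK LD1_c22 LD2_c14 LD3_c43)) = (LP (LK LD1_c22 LD2_c46 LD3_c61)) :=
  Lgr Lrot181 (Lpr_ct (f134946 IH) (Lpr_gt (f134945 IH) (Lpr_cf (K5.f134927 IH) (Lpr_bt (K5.f134924 IH) (Lpr_gt (K5.f134956 IH) (Lpe (K3.f106041 IH) (Lpr_ct (K3.f106048 IH) (Lpr_gt (f94404 IH) (Lpe (f107666 IH) (Lpr_bt (f107669 IH) (Lpn (LP (LK LD1_c22 LD2_c46 LD3_c61)))))))))))))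
theorem f134972 : Led Lsl_ct (LP (LK LD1_c13 LD2_c4 LD3_c21)) = (LP (LK LD1_c22 LD2_c14 LD3_c43)) :=
  Lre_c IH (LK LD1_c13 LD2_c4 LD3_c21) (LK LD1_c22 LD2_c14 LD3_c43) Lrfl Lrfl
theorem f134973 : Led Lsl_bt (LP (LK LD1_c13 LD2_c4 LD3_c21)) = (LP (LK LD1_c22 LD2_c14 LD3_c42)) :=
  Lre_b IH (LK LD1_c13 LD2_c4 LD3_c21) (LK LD1_c22 LD2_c14 LD3_c42) Lrfl Lrfl
theorem f785774 : Led Lsl_gf (LP (LK LD1_c23 LD2_c35 LD3_c34)) = (LP (LK LD1_c22 LD2_c14 LD3_c42)) :=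
  Lgr Lrot181 (Lpr_ct (f125001 IH) (Lpe (f124998 IH) (Lpe (f121474 IH) (Lpr_bt (f785770 IH) (Lpe (f785768 IH) (Lpe (f134862 IH) (Lpe (f429615 IH) (Lpe (f134969 IH) (Lpe (f134972 IH) (Lpr_bt (f134973 IH) (Lpn (LP (LK LD1_c22 LD2_c14 LD3_c42)))))))))))))
theorem f785775 : Led Lsl_gt (LP (LK LD1_c22 LD2_c14 LD3_c42)) = (LP (LK LD1_c23 LD2_c35 LD3_c34)) :=
  Leop (Lpr_gf (f785774 IH) (Lpn (LP (LK LD1_c22 LD2_c14 LD3_c42))))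
theorem seed_1511 : LEOK LG_g (LK LD1_c22 LD2_c14 LD3_c42) :=
  Leoe_g (LK LD1_c22 LD2_c14 LD3_c42) (f785775 IH)
def v20275 : LQ := Led Lsl_ct (LP (LK LD1_c6 LD2_c53 LD3_c19))
theorem f786035 : Led Lsl_ct (LP (LK LD1_c6 LD2_c53 LD3_c19)) = v20275 :=
  Lrfl
theorem f786036 : Led Lsl_cf (LP (LK LD1_c6 LD2_c53 LD3_c19)) = v20275 :=
  Lgr Lrot11 (Lpr_ct (f786035 IH) (Lpn v20275))
theorem f115923 : Led Lsl_gt (LP (LK LD1_c6 LD2_c53 LD3_c19)) = (LP (LK LD1_c3 LD2_c25 LD3_c43)) :=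
  Lre_g IH (LK LD1_c6 LD2_c53 LD3_c19) (LK LD1_c3 LD2_c25 LD3_c43) Lrfl Lrfl
theorem f115904 : Led Lsl_cf (LP (LK LD1_c3 LD2_c25 LD3_c43)) = (LP (LK LD1_c3 LD2_c29 LD3_c61)) :=
  Lgr Lrot11 (Lpr_ct (K4.f115893 IH) (Lpn (LP (LK LD1_c3 LD2_c29 LD3_c61))))
theorem f786039 : Led Lsl_bf (LP (LK LD1_c7 LD2_c32 LD3_c33)) = v20275 :=
  Lgr Lrot34 (Lpe (K47.f85244 IH) (Lpe (K3.f85243 IH) (Lpr_ct (K3.f85237 IH) (Lpq (K28.f467667 IH) (Lpe (K28.f457176 IH) (Lpe (K29.f436801 IH) (Lpe (K29.f481878 IH) (Lpe (K29.f115901 IH) (Lpe (f115904 IH) (Lpe (f115923 IH) (Lpr_cf (f786036 IH) (Lpn v20275))))))))))))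
theorem f658397 : Led Lsl_bt (LP (LK LD1_c7 LD2_c0 LD3_c25)) = (LP (LK LD1_c13 LD2_c17 LD3_c36)) :=
  Lre_b IH (LK LD1_c7 LD2_c0 LD3_c25) (LK LD1_c13 LD2_c17 LD3_c36) Lrfl Lrfl
theorem f115930 : Led Lsl_bt (LP (LK LD1_c13 LD2_c5 LD3_c36)) = (LP (LK LD1_c6 LD2_c53 LD3_c19)) :=
  Lre_b IH (LK LD1_c13 LD2_c5 LD3_c36) (LK LD1_c6 LD2_c53 LD3_c19) Lrfl Lrfl
theorem f786041 : Led Lsl_ct (LP (LK LD1_c13 LD2_c17 LD3_c36)) = (LP (LK LD1_c13 LD2_c5 LD3_c36)) :=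
  Lgr Lrot83 (Lpe (f658397 IH) (Lpr_cf (K47.f658395 IH) (Lpr_bf (f786039 IH) (Lpe (f786035 IH) (Lpe (f115930 IH) (Lpn (LP (LK LD1_c13 LD2_c5 LD3_c36))))))))
theorem f786042 : Led Lsl_ct (LP (LK LD1_c13 LD2_c17 LD3_c36)) = (LP (LK LD1_c13 LD2_c5 LD3_c36)) :=
  Leop (Lpe (f786041 IH) (Lpn (LP (LK LD1_c13 LD2_c17 LD3_c36))))
theorem seed_1512 : LEOK LG_c (LK LD1_c13 LD2_c17 LD3_c36) :=
  Leoe_c (LK LD1_c13 LD2_c17 LD3_c36) (f786042 IH)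
def v20280 : LQ := Led Lsl_ct (LP (LK LD1_c6 LD2_c53 LD3_c24))
theorem f786062 : Led Lsl_ct (LP (LK LD1_c6 LD2_c53 LD3_c24)) = v20280 :=
  Lrfl
theorem f95204 : Led Lsl_gt (LP (LK LD1_c3 LD2_c25 LD3_c46)) = (LP (LK LD1_c6 LD2_c53 LD3_c24)) :=
  Lre_g IH (LK LD1_c3 LD2_c25 LD3_c46) (LK LD1_c6 LD2_c53 LD3_c24) Lrfl Lrfl
theorem f715670 : Led Lsl_bt (LP (LK LD1_c6 LD2_c56 LD3_c34)) = (LP (LK LD1_c12 LD2_c56 LD3_c54)) :=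
  Lgr Lrot95 (Lpe (K3.f95456 IH) (Lpr_bf (f715666 IH) (Lpe (f715669 IH) (Lpn (LP (LK LD1_c12 LD2_c56 LD3_c54))))))
def v19998 : LQ := Led Lsl_ft (LP (LK LD1_c6 LD2_c49 LD3_c29))
theorem f784231 : Led Lsl_ft (LP (LK LD1_c6 LD2_c49 LD3_c29)) = v19998 :=
  Lrfl
theorem f784233 : Led Lsl_ff (LP (LK LD1_c6 LD2_c49 LD3_c29)) = v19998 :=
  Lgr Lrot3 (Lpr_ft (f784231 IH) (Lpn v19998))
theorem f784234 : Led Lsl_ct (LP (LK LD1_c6 LD2_c56 LD3_c34)) = v19998 :=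
  Lgr Lrot40 (Lpe (K3.f94717 IH) (Lpr_cf (f94706 IH) (Lpr_ff (f784233 IH) (Lpn v19998))))
theorem f786065 : Led Lsl_gf v19998 = v20280 :=
  Lgr Lrot129 (Lpe (f784234 IH) (Lpr_bt (f715670 IH) (Lpe (f744569 IH) (Lpe (K55.f709880 IH) (Lpe (K55.f709881 IH) (Lpr_gt (K55.f709906 IH) (Lpr_cf (K52.f95194 IH) (Lpr_bt (K8.f95219 IH) (Lpr_gt (f95204 IH) (Lpr_ct (f786062 IH) (Lpn v20280)))))))))))
theorem f94731 : Led Lsl_ft (LP (LK LD1_c6 LD2_c56 LD3_c34)) = (LP (LK LD1_c3 LD2_c27 LD3_c17)) :=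
  Lre_f IH (LK LD1_c6 LD2_c56 LD3_c34) (LK LD1_c3 LD2_c27 LD3_c17) Lrfl Lrfl
theorem f784232 : Led Lsl_cf (LP (LK LD1_c6 LD2_c56 LD3_c34)) = v19998 :=
  Lgr Lrot108 (Lpr_ft (f94731 IH) (Lpr_ct (f94711 IH) (Lpr_ft (f784231 IH) (Lpn v19998))))
theorem f95472 : Led Lsl_dt (LP (LK LD1_c6 LD2_c56 LD3_c34)) = (LP (LK LD1_c13 LD2_c10 LD3_c54)) :=
  Lre_d IH (LK LD1_c6 LD2_c56 LD3_c34) (LK LD1_c13 LD2_c10 LD3_c54) Lrfl Lrfl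
theorem f95469 : Led Lsl_ct (LP (LK LD1_c22 LD2_c23 LD3_c30)) = (LP (LK LD1_c13 LD2_c10 LD3_c54)) :=
  Lre_c IH (LK LD1_c22 LD2_c23 LD3_c30) (LK LD1_c13 LD2_c10 LD3_c54) Lrfl Lrfl
theorem f95206 : Led Lsl_dt (LP (LK LD1_c6 LD2_c53 LD3_c26)) = (LP (LK LD1_c3 LD2_c25 LD3_c46)) :=
  Lre_d IH (LK LD1_c6 LD2_c53 LD3_c26) (LK LD1_c3 LD2_c25 LD3_c46) Lrfl Lrfl
theorem f102655 : Led Lsl_gt (LP (LK LD1_c6 LD2_c53 LD3_c26)) = (LP (LK LD1_c13 LD2_c5 LD3_c49)) :=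
  Lre_g IH (LK LD1_c6 LD2_c53 LD3_c26) (LK LD1_c13 LD2_c5 LD3_c49) Lrfl Lrfl
theorem f102658 : Led Lsl_ct (LP (LK LD1_c13 LD2_c5 LD3_c49)) = (LP (LK LD1_c22 LD2_c16 LD3_c44)) :=
  Lre_c IH (LK LD1_c13 LD2_c5 LD3_c49) (LK LD1_c22 LD2_c16 LD3_c44) Lrfl Lrfl
theorem f786066 : Led Lsl_gf (LP (LK LD1_c22 LD2_c23 LD3_c30)) = (LP (LK LD1_c22 LD2_c16 LD3_c44)) :=
  Lgr Lrot104 (Lpr_ct (f95469 IH) (Lpe (f95472 IH) (Lpr_cf (f784232 IH) (Lpr_gf (f786065 IH) (Lpe (f786062 IH) (Lpe (f95204 IH) (Lpe (f95206 IH) (Lpr_gt (f102655 IH) (Lpr_ct (f102658 IH) (Lpn (LP (LK LD1_c22 LD2_c16 LD3_c44))))))))))))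
theorem f786067 : Led Lsl_gt (LP (LK LD1_c22 LD2_c16 LD3_c44)) = (LP (LK LD1_c22 LD2_c23 LD3_c30)) :=
  Leop (Lpr_gf (f786066 IH) (Lpn (LP (LK LD1_c22 LD2_c16 LD3_c44))))
theorem seed_1513 : LEOK LG_g (LK LD1_c22 LD2_c16 LD3_c44) :=
  Leoe_g (LK LD1_c22 LD2_c16 LD3_c44) (f786067 IH)
def v20287 : LQ := Led Lsl_gf (LP (LK LD1_c6 LD2_c53 LD3_c35))
theorem f786098 : Led Lsl_gf (LP (LK LD1_c6 LD2_c53 LD3_c35)) = v20287 :=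
  Lrfl
def v7106 : LQ := Led Lsl_dt (LP (LK LD1_c3 LD2_c39 LD3_c7))
theorem f661113 : Led Lsl_dt (LP (LK LD1_c3 LD2_c39 LD3_c7)) = v7106 :=
  Lrfl
def v2387 : LQ := Led Lsl_et (LP (LK LD1_c1 LD2_c44 LD3_c11))
def v9020 : LQ := Led Lsl_dt v2387
theorem f673201 : Led Lsl_dt v2387 = v9020 :=
  Lrfl
theorem f519429 : Led Lsl_et (LP (LK LD1_c1 LD2_c44 LD3_c11)) = v2387 :=
  Lrfl
theorem f519431 : Led Lsl_ef (LP (LK LD1_c1 LD2_c44 LD3_c11)) = v2387 :=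
  Lgr Lrot88 (Lpr_et (f519429 IH) (Lpn v2387))
theorem f11991 : Led Lsl_ft (LP (LK LD1_c3 LD2_c27 LD3_c15)) = (LP (LK LD1_c1 LD2_c40 LD3_c13)) :=
  Lre_f IH (LK LD1_c3 LD2_c27 LD3_c15) (LK LD1_c1 LD2_c40 LD3_c13) Lrfl Lrfl
theorem f467271 : Led Lsl_ef (LP (LK LD1_c3 LD2_c27 LD3_c15)) = (LP (LK LD1_c3 LD2_c35 LD3_c0)) :=
  Lgr Lrot21 (Lpr_ft (f11991 IH) (Lpr_et (K46.f12011 IH) (Lpr_ft (K2.f89829 IH) (Lpr_et (K49.f89838 IH) (Lpr_ft (K29.f467243 IH) (Lpn (LP (LK LD1_c3 LD2_c35 LD3_c0))))))))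
theorem f479206 : Led Lsl_ef (LP (LK LD1_c3 LD2_c27 LD3_c8)) = (LP (LK LD1_c3 LD2_c37 LD3_c60)) :=
  Lgr Lrot20 (Lpr_at (K48.f467235 IH) (Lpe (f467271 IH) (Lpr_at (K29.f479175 IH) (Lpn (LP (LK LD1_c3 LD2_c37 LD3_c60))))))
theorem f485785 : Led Lsl_gf (LP (LK LD1_c3 LD2_c39 LD3_c7)) = (LP (LK LD1_c3 LD2_c25 LD3_c51)) :=
  Lgr Lrot47 (Lpr_gt (K28.f5329 IH) (Lpe (K30.f455911 IH) (Lpr_ff (K34.f485776 IH) (Lpn (LP (LK LD1_c3 LD2_c25 LD3_c51))))))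
theorem f673207 : Led Lsl_gt v7106 = v9020 :=
  Lgr Lrot139 (Lpe (f661113 IH) (Lpr_gf (f485785 IH) (Lpe (K46.f485784 IH) (Lpe (K46.f485869 IH) (Lpr_gf (K46.f487497 IH) (Lpe (K46.f456723 IH) (Lpe (f479206 IH) (Lpe (K29.f467909 IH) (Lpr_ef (f519431 IH) (Lpr_dt (f673201 IH) (Lpn v9020)))))))))))
theorem f786101 : Led Lsl_ct v9020 = v20287 :=
  Lgr Lrot152 (Lpe (f673207 IH) (Lpe (f661113 IH) (Lpr_gt (K28.f5329 IH) (Lpr_ct (K30.f4036 IH) (Lpq (K29.f481864 IH) (Lpe (K29.f455034 IH) (Lpr_ct (K29.f94294 IH) (Lpe (K6.f94291 IH) (Lpe (K29.f94292 IH) (Lpr_gf (f786098 IH) (Lpn v20287)))))))))))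
def v3471 : LQ := Led Lsl_et K33.v863
theorem f625789 : Led Lsl_et K33.v863 = v3471 :=
  Lrfl
theorem f480738 : Led Lsl_ft K33.v863 = (LP (LK LD1_c1 LD2_c54 LD3_c24)) :=
  Lgr Lrot4 (Lpr_cf (K33.f480735 IH) (Lpq (K29.f478680 IH) (Lpr_ff (K29.f459807 IH) (Lpqs (K29.f478683 IH) (Lpe (K29.f451186 IH) (Lpn (LP (LK LD1_c1 LD2_c54 LD3_c24))))))))
theorem f480739 : Led Lsl_bf K33.v863 = (LP (LK LD1_c1 LD2_c44 LD3_c11)) :=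
  Lgr Lrot61 (Lpr_ft (f480738 IH) (Lpe (K33.f456059 IH) (Lpr_ft (K33.f478815 IH) (Lpn (LP (LK LD1_c1 LD2_c44 LD3_c11))))))
theorem f625790 : Led Lsl_bf v2387 = v3471 :=
  Lgr Lrot96 (Lpe (f519431 IH) (Lpe (f480739 IH) (Lpr_et (f625789 IH) (Lpn v3471))))
def v6786 : LQ := Led Lsl_gf (LP (LK LD1_c3 LD2_c29 LD3_c56))
theorem f658465 : Led Lsl_gf (LP (LK LD1_c3 LD2_c29 LD3_c56)) = v6786 :=
  Lrfl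
theorem f63636 : Led Lsl_dt (LP (LK LD1_c1 LD2_c41 LD3_c39)) = (LP (LK LD1_c3 LD2_c29 LD3_c56)) :=
  Lre_d IH (LK LD1_c1 LD2_c41 LD3_c39) (LK LD1_c3 LD2_c29 LD3_c56) Lrfl Lrfl
theorem f625792 : Led Lsl_ef K33.v863 = v3471 :=
  Lgr Lrot88 (Lpr_et (f625789 IH) (Lpn v3471))
theorem f658466 : Led Lsl_dt v3471 = v6786 :=
  Lgr Lrot136 (Lpe (f625792 IH) (Lpe (K33.f459824 IH) (Lpe (K3.f64935 IH) (Lpr_dt (K1.f14742 IH) (Lpr_gf (K3.f64907 IH) (Lpe (K3.f63119 IH) (Lpe (K1.f18885 IH) (Lpe (K34.f63635 IH) (Lpr_dt (f63636 IH) (Lpr_gf (f658465 IH) (Lpn v6786)))))))))))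
theorem f658467 : Led Lsl_df v3471 = v6786 :=
  Lgr Lrot38 (Lpr_dt (f658466 IH) (Lpn v6786))
theorem f673203 : Led Lsl_bf v6786 = v9020 :=
  Lgr Lrot93 (Lpe (f658467 IH) (Lpe (f625790 IH) (Lpr_dt (f673201 IH) (Lpn v9020))))
theorem f658463 : Led Lsl_bt (LP (LK LD1_c7 LD2_c1 LD3_c26)) = (LP (LK LD1_c3 LD2_c29 LD3_c56)) :=
  Lre_b IH (LK LD1_c7 LD2_c1 LD3_c26) (LK LD1_c3 LD2_c29 LD3_c56) Lrfl Lrfl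
theorem f528030 : Led Lsl_ct (LP (LK LD1_c7 LD2_c1 LD3_c26)) = (LP (LK LD1_c13 LD2_c19 LD3_c25)) :=
  Lre_c IH (LK LD1_c7 LD2_c1 LD3_c26) (LK LD1_c13 LD2_c19 LD3_c25) Lrfl Lrfl
theorem f786099 : Led Lsl_gt (LP (LK LD1_c13 LD2_c6 LD3_c7)) = v20287 :=
  Lgr Lrot5 (Lpe (K29.f102730 IH) (Lpr_at (K35.f102736 IH) (Lpr_gf (f786098 IH) (Lpn v20287))))
theorem f102722 : Led Lsl_af (LP (LK LD1_c13 LD2_c6 LD3_c8)) = (LP (LK LD1_c13 LD2_c6 LD3_c7)) :=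
  Lgr Lrot45 (Lpr_ft (K29.f102706 IH) (Lpr_at (K29.f102688 IH) (Lpr_ft (K29.f102718 IH) (Lpn (LP (LK LD1_c13 LD2_c6 LD3_c7))))))
theorem f94324 : Led Lsl_ct (LP (LK LD1_c13 LD2_c6 LD3_c8)) = (LP (LK LD1_c6 LD2_c53 LD3_c36)) :=
  Lre_c IH (LK LD1_c13 LD2_c6 LD3_c8) (LK LD1_c6 LD2_c53 LD3_c36) Lrfl Lrfl
theorem f484026 : Led Lsl_af (LP (LK LD1_c7 LD2_c18 LD3_c33)) = (LP (LK LD1_c6 LD2_c53 LD3_c36)) :=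
  Lgr Lrot68 (Lpr_ct (K29.f484024 IH) (Lpe (f102722 IH) (Lpr_ct (f94324 IH) (Lpn (LP (LK LD1_c6 LD2_c53 LD3_c36))))))
theorem f94302 : Led Lsl_ft (LP (LK LD1_c3 LD2_c25 LD3_c49)) = (LP (LK LD1_c6 LD2_c53 LD3_c36)) :=
  Lre_f IH (LK LD1_c3 LD2_c25 LD3_c49) (LK LD1_c6 LD2_c53 LD3_c36) Lrfl Lrfl
theorem f471776 : Led Lsl_gt (LP (LK LD1_c3 LD2_c25 LD3_c49)) = (LP (LK LD1_c6 LD2_c53 LD3_c33)) :=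
  Lre_g IH (LK LD1_c3 LD2_c25 LD3_c49) (LK LD1_c6 LD2_c53 LD3_c33) Lrfl Lrfl
theorem f485753 : Led Lsl_gf (LP (LK LD1_c7 LD2_c18 LD3_c33)) = (LP (LK LD1_c6 LD2_c53 LD3_c33)) :=
  Lgr Lrot76 (Lpr_af (f484026 IH) (Lpe (f94302 IH) (Lpr_gt (f471776 IH) (Lpn (LP (LK LD1_c6 LD2_c53 LD3_c33))))))
theorem f485756 : Led Lsl_bt (LP (LK LD1_c13 LD2_c6 LD3_c0)) = (LP (LK LD1_c6 LD2_c53 LD3_c33)) :=
  Lre_b IH (LK LD1_c13 LD2_c6 LD3_c0) (LK LD1_c6 LD2_c53 LD3_c33) Lrfl Lrfl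
theorem f485759 : Led Lsl_ct (LP (LK LD1_c13 LD2_c6 LD3_c0)) = (LP (LK LD1_c22 LD2_c17 LD3_c11)) :=
  Lre_c IH (LK LD1_c13 LD2_c6 LD3_c0) (LK LD1_c22 LD2_c17 LD3_c11) Lrfl Lrfl
theorem f786104 : Led Lsl_gt (LP (LK LD1_c13 LD2_c19 LD3_c25)) = (LP (LK LD1_c22 LD2_c17 LD3_c11)) :=
  Lgr Lrot65 (Lpe (f528030 IH) (Lpr_bt (f658463 IH) (Lpr_gf (f658465 IH) (Lpr_bf (f673203 IH) (Lpr_ct (f786101 IH) (Lpe (f786099 IH) (Lpe (K29.f484024 IH) (Lpr_gf (f485753 IH) (Lpe (f485756 IH) (Lpr_ct (f485759 IH) (Lpn (LP (LK LD1_c22 LD2_c17 LD3_c11)))))))))))))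
theorem f786105 : Led Lsl_gt (LP (LK LD1_c13 LD2_c19 LD3_c25)) = (LP (LK LD1_c22 LD2_c17 LD3_c11)) :=
  Leop (Lpe (f786104 IH) (Lpn (LP (LK LD1_c13 LD2_c19 LD3_c25))))
theorem seed_1514 : LEOK LG_g (LK LD1_c13 LD2_c19 LD3_c25) :=
  Leoe_g (LK LD1_c13 LD2_c19 LD3_c25) (f786105 IH)
def v20303 : LQ := Led Lsl_ft (LP (LK LD1_c6 LD2_c54 LD3_c3))
theorem f786218 : Led Lsl_ft (LP (LK LD1_c6 LD2_c54 LD3_c3)) = v20303 :=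
  Lrfl
theorem f103658 : Led Lsl_gt (LP (LK LD1_c6 LD2_c54 LD3_c3)) = (LP (LK LD1_c13 LD2_c6 LD3_c49)) :=
  Lre_g IH (LK LD1_c6 LD2_c54 LD3_c3) (LK LD1_c13 LD2_c6 LD3_c49) Lrfl Lrfl
theorem f102423 : Led Lsl_at (LP (LK LD1_c13 LD2_c6 LD3_c41)) = (LP (LK LD1_c6 LD2_c54 LD3_c3)) :=
  Lre_a IH (LK LD1_c13 LD2_c6 LD3_c41) (LK LD1_c6 LD2_c54 LD3_c3) Lrfl Lrfl
theorem f518439 : Led Lsl_ff (LP (LK LD1_c7 LD2_c33 LD3_c14)) = (LP (LK LD1_c6 LD2_c53 LD3_c60)) :=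
  Lgr Lrot3 (Lpr_ft (K48.f518329 IH) (Lpn (LP (LK LD1_c6 LD2_c53 LD3_c60))))
theorem f486105 : Led Lsl_dt (LP (LK LD1_c7 LD2_c33 LD3_c14)) = (LP (LK LD1_c14 LD2_c14 LD3_c48)) :=
  Lre_d IH (LK LD1_c7 LD2_c33 LD3_c14) (LK LD1_c14 LD2_c14 LD3_c48) Lrfl Lrfl
theorem f102464 : Led Lsl_dt (LP (LK LD1_c13 LD2_c6 LD3_c41)) = (LP (LK LD1_c6 LD2_c53 LD3_c60)) :=
  Lre_d IH (LK LD1_c13 LD2_c6 LD3_c41) (LK LD1_c6 LD2_c53 LD3_c60) Lrfl Lrfl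
theorem f518443 : Led Lsl_ft (LP (LK LD1_c14 LD2_c14 LD3_c48)) = (LP (LK LD1_c13 LD2_c6 LD3_c41)) :=
  Lgr Lrot54 (Lpe (f486105 IH) (Lpr_ff (f518439 IH) (Lpe (f102464 IH) (Lpn (LP (LK LD1_c13 LD2_c6 LD3_c41))))))
theorem f786219 : Led Lsl_af (LP (LK LD1_c14 LD2_c14 LD3_c48)) = v20303 :=
  Lgr Lrot45 (Lpr_ft (f518443 IH) (Lpr_at (f102423 IH) (Lpr_ft (f786218 IH) (Lpn v20303))))
theorem f786224 : Led Lsl_gt (LP (LK LD1_c13 LD2_c6 LD3_c49)) = (LP (LK LD1_c14 LD2_c14 LD3_c48)) :=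
  Lgr Lrot46 (Lpe (f103658 IH) (Lpr_ft (f786218 IH) (Lpe (f786219 IH) (Lpn (LP (LK LD1_c14 LD2_c14 LD3_c48))))))
theorem f786225 : Led Lsl_gt (LP (LK LD1_c13 LD2_c6 LD3_c49)) = (LP (LK LD1_c14 LD2_c14 LD3_c48)) :=
  Leop (Lpe (f786224 IH) (Lpn (LP (LK LD1_c13 LD2_c6 LD3_c49))))
theorem seed_1515 : LEOK LG_g (LK LD1_c13 LD2_c6 LD3_c49) :=
  Leoe_g (LK LD1_c13 LD2_c6 LD3_c49) (f786225 IH)
def v20312 : LQ := Led Lsl_ft (LP (LK LD1_c6 LD2_c54 LD3_c10))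
theorem f786270 : Led Lsl_ft (LP (LK LD1_c6 LD2_c54 LD3_c10)) = v20312 :=
  Lrfl
theorem f786271 : Led Lsl_af (LP (LK LD1_c13 LD2_c18 LD3_c21)) = v20312 :=
  Lgr Lrot45 (Lpr_ft (K48.f611546 IH) (Lpr_at (K48.f488437 IH) (Lpr_ft (f786270 IH) (Lpn v20312))))
theorem f786275 : Led Lsl_gt (LP (LK LD1_c13 LD2_c5 LD3_c12)) = (LP (LK LD1_c13 LD2_c18 LD3_c21)) :=
  Lgr Lrot46 (Lpe (K47.f517823 IH) (Lpr_ft (f786270 IH) (Lpe (f786271 IH) (Lpn (LP (LK LD1_c13 LD2_c18 LD3_c21))))))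
theorem f786276 : Led Lsl_gt (LP (LK LD1_c13 LD2_c5 LD3_c12)) = (LP (LK LD1_c13 LD2_c18 LD3_c21)) :=
  Leop (Lpe (f786275 IH) (Lpn (LP (LK LD1_c13 LD2_c5 LD3_c12))))
theorem seed_1516 : LEOK LG_g (LK LD1_c13 LD2_c5 LD3_c12) :=
  Leoe_g (LK LD1_c13 LD2_c5 LD3_c12) (f786276 IH)
def v20342 : LQ := Led Lsl_ct (LP (LK LD1_c6 LD2_c54 LD3_c53))
theorem f786441 : Led Lsl_ct (LP (LK LD1_c6 LD2_c54 LD3_c53)) = v20342 :=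
  Lrfl
theorem f91118 : Led Lsl_gt (LP (LK LD1_c3 LD2_c26 LD3_c32)) = (LP (LK LD1_c6 LD2_c54 LD3_c53)) :=
  Lre_g IH (LK LD1_c3 LD2_c26 LD3_c32) (LK LD1_c6 LD2_c54 LD3_c53) Lrfl Lrfl
theorem f738987 : Led Lsl_cf (LP (LK LD1_c12 LD2_c9 LD3_c2)) = (LP (LK LD1_c7 LD2_c42 LD3_c11)) :=
  Lgr Lrot11 (Lpr_ct (K54.f738985 IH) (Lpn (LP (LK LD1_c7 LD2_c42 LD3_c11))))
theorem f428757 : Led Lsl_ct (LP (LK LD1_c11 LD2_c30 LD3_c3)) = (LP (LK LD1_c5 LD2_c51 LD3_c18)) :=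
  Lre_c IH (LK LD1_c11 LD2_c30 LD3_c3) (LK LD1_c5 LD2_c51 LD3_c18) Lrfl Lrfl
theorem f710398 : Led Lsl_ff (LP (LK LD1_c11 LD2_c30 LD3_c3)) = (LP (LK LD1_c11 LD2_c25 LD3_c21)) :=
  Lgr Lrot23 (Lpr_ct (f428757 IH) (Lpq (K55.f710353 IH) (Lpr_ft (K55.f701578 IH) (Lpqs (K52.f710390 IH) (Lpr_ct (K52.f66294 IH) (Lpn (LP (LK LD1_c11 LD2_c25 LD3_c21))))))))
theorem f710404 : Led Lsl_ft (LP (LK LD1_c11 LD2_c30 LD3_c3)) = (LP (LK LD1_c11 LD2_c25 LD3_c21)) :=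
  Lgr Lrot48 (Lpr_ff (f710398 IH) (Lpn (LP (LK LD1_c11 LD2_c25 LD3_c21))))
theorem f713692 : Led Lsl_at (LP (LK LD1_c11 LD2_c25 LD3_c21)) = (LP (LK LD1_c9 LD2_c17 LD3_c33)) :=
  Lgr Lrot100 (Lpr_af (K52.f713690 IH) (Lpn (LP (LK LD1_c9 LD2_c17 LD3_c33))))
theorem f739169 : Led Lsl_gt (LP (LK LD1_c5 LD2_c51 LD3_c22)) = (LP (LK LD1_c9 LD2_c17 LD3_c33)) :=
  Lgr Lrot46 (Lpr_gf (K54.f739165 IH) (Lpr_ft (f710404 IH) (Lpr_at (f713692 IH) (Lpn (LP (LK LD1_c9 LD2_c17 LD3_c33))))))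
theorem f740704 : Led Lsl_gf (LP (LK LD1_c16 LD2_c58 LD3_c11)) = (LP (LK LD1_c9 LD2_c17 LD3_c33)) :=
  Lgr Lrot76 (Lpr_af (K52.f137265 IH) (Lpe (K8.f112325 IH) (Lpr_gt (f739169 IH) (Lpn (LP (LK LD1_c9 LD2_c17 LD3_c33))))))
theorem f504137 : Led Lsl_bt (LP (LK LD1_c4 LD2_c41 LD3_c2)) = (LP (LK LD1_c9 LD2_c17 LD3_c33)) :=
  Lre_b IH (LK LD1_c4 LD2_c41 LD3_c2) (LK LD1_c9 LD2_c17 LD3_c33) Lrfl Lrfl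
theorem f503337 : Led Lsl_ct (LP (LK LD1_c4 LD2_c41 LD3_c2)) = (LP (LK LD1_c2 LD2_c17 LD3_c34)) :=
  Lre_c IH (LK LD1_c4 LD2_c41 LD3_c2) (LK LD1_c2 LD2_c17 LD3_c34) Lrfl Lrfl
theorem f126587 : Led Lsl_bt (LP (LK LD1_c3 LD2_c14 LD3_c61)) = (LP (LK LD1_c6 LD2_c33 LD3_c24)) :=
  Lre_b IH (LK LD1_c3 LD2_c14 LD3_c61) (LK LD1_c6 LD2_c33 LD3_c24) Lrfl Lrfl
theorem f127387 : Led Lsl_gt (LP (LK LD1_c12 LD2_c33 LD3_c58)) = (LP (LK LD1_c6 LD2_c33 LD3_c24)) :=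
  Lre_g IH (LK LD1_c12 LD2_c33 LD3_c58) (LK LD1_c6 LD2_c33 LD3_c24) Lrfl Lrfl
theorem f740706 : Led Lsl_bt (LP (LK LD1_c7 LD2_c42 LD3_c11)) = (LP (LK LD1_c12 LD2_c33 LD3_c58)) :=
  Lgr Lrot22 (Lpe (f738987 IH) (Lpr_gf (K54.f117883 IH) (Lpe (K52.f137269 IH) (Lpr_gf (f740704 IH) (Lpe (f504137 IH) (Lpr_ct (f503337 IH) (Lpr_gf (K51.f632186 IH) (Lpqs (K51.f708717 IH) (Lpe (K51.f126584 IH) (Lpr_bt (f126587 IH) (Lpe (f127387 IH) (Lpn (LP (LK LD1_c12 LD2_c33 LD3_c58))))))))))))))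
theorem f97757 : Led Lsl_ft (LP (LK LD1_c13 LD2_c10 LD3_c2)) = (LP (LK LD1_c6 LD2_c56 LD3_c0)) :=
  Lre_f IH (LK LD1_c13 LD2_c10 LD3_c2) (LK LD1_c6 LD2_c56 LD3_c0) Lrfl Lrfl
theorem f127388 : Led Lsl_gf (LP (LK LD1_c12 LD2_c33 LD3_c58)) = (LP (LK LD1_c13 LD2_c10 LD3_c2)) :=
  Lgr Lrot47 (Lpr_gt (f127387 IH) (Lpr_af (K5.f127376 IH) (Lpe (f97757 IH) (Lpn (LP (LK LD1_c13 LD2_c10 LD3_c2))))))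
theorem f90149 : Led Lsl_et (LP (LK LD1_c6 LD2_c50 LD3_c6)) = (LP (LK LD1_c3 LD2_c23 LD3_c23)) :=
  Lre_e IH (LK LD1_c6 LD2_c50 LD3_c6) (LK LD1_c3 LD2_c23 LD3_c23) Lrfl Lrfl
theorem f90150 : Led Lsl_ct (LP (LK LD1_c3 LD2_c27 LD3_c6)) = (LP (LK LD1_c6 LD2_c50 LD3_c6)) :=
  Lgr Lrot15 (Lpe (K3.f89960 IH) (Lpr_cf (K2.f90144 IH) (Lpe (f90149 IH) (Lpn (LP (LK LD1_c6 LD2_c50 LD3_c6))))))
theorem f90158 : Led Lsl_ft (LP (LK LD1_c6 LD2_c50 LD3_c6)) = (LP (LK LD1_c13 LD2_c1 LD3_c22)) :=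
  Lre_f IH (LK LD1_c6 LD2_c50 LD3_c6) (LK LD1_c13 LD2_c1 LD3_c22) Lrfl Lrfl
theorem f90159 : Led Lsl_cf (LP (LK LD1_c6 LD2_c56 LD3_c9)) = (LP (LK LD1_c13 LD2_c1 LD3_c22)) :=
  Lgr Lrot108 (Lpr_ft (K3.f89949 IH) (Lpr_ct (f90150 IH) (Lpr_ft (f90158 IH) (Lpn (LP (LK LD1_c13 LD2_c1 LD3_c22))))))
theorem f90165 : Led Lsl_ct (LP (LK LD1_c6 LD2_c56 LD3_c9)) = (LP (LK LD1_c13 LD2_c1 LD3_c22)) :=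
  Lgr Lrot59 (Lpr_cf (f90159 IH) (Lpn (LP (LK LD1_c13 LD2_c1 LD3_c22))))
theorem f786443 : Led Lsl_gf (LP (LK LD1_c13 LD2_c1 LD3_c22)) = v20342 :=
  Lgr Lrot129 (Lpe (f90165 IH) (Lpr_bt (K3.f89948 IH) (Lpe (f127388 IH) (Lpe (f740706 IH) (Lpe (f738987 IH) (Lpr_gt (K54.f112335 IH) (Lpe (K4.f112326 IH) (Lpr_bt (K4.f112122 IH) (Lpr_gt (f91118 IH) (Lpr_ct (f786441 IH) (Lpn v20342)))))))))))
theorem f89906 : Led Lsl_dt (LP (LK LD1_c6 LD2_c56 LD3_c9)) = (LP (LK LD1_c13 LD2_c10 LD3_c20)) :=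
  Lre_d IH (LK LD1_c6 LD2_c56 LD3_c9) (LK LD1_c13 LD2_c10 LD3_c20) Lrfl Lrfl
theorem f89907 : Led Lsl_ct (LP (LK LD1_c22 LD2_c22 LD3_c58)) = (LP (LK LD1_c13 LD2_c10 LD3_c20)) :=
  Lre_c IH (LK LD1_c22 LD2_c22 LD3_c58) (LK LD1_c13 LD2_c10 LD3_c20) Lrfl Lrfl
theorem f91114 : Led Lsl_dt (LP (LK LD1_c6 LD2_c54 LD3_c55)) = (LP (LK LD1_c3 LD2_c26 LD3_c32)) :=
  Lre_d IH (LK LD1_c6 LD2_c54 LD3_c55) (LK LD1_c3 LD2_c26 LD3_c32) Lrfl Lrfl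
theorem f112165 : Led Lsl_gt (LP (LK LD1_c6 LD2_c54 LD3_c55)) = (LP (LK LD1_c13 LD2_c8 LD3_c20)) :=
  Lre_g IH (LK LD1_c6 LD2_c54 LD3_c55) (LK LD1_c13 LD2_c8 LD3_c20) Lrfl Lrfl
theorem f112168 : Led Lsl_ct (LP (LK LD1_c13 LD2_c8 LD3_c20)) = (LP (LK LD1_c22 LD2_c20 LD3_c25)) :=
  Lre_c IH (LK LD1_c13 LD2_c8 LD3_c20) (LK LD1_c22 LD2_c20 LD3_c25) Lrfl Lrfl
theorem f786444 : Led Lsl_gf (LP (LK LD1_c22 LD2_c22 LD3_c58)) = (LP (LK LD1_c22 LD2_c20 LD3_c25)) :=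
  Lgr Lrot104 (Lpr_ct (f89907 IH) (Lpe (f89906 IH) (Lpr_cf (f90159 IH) (Lpr_gf (f786443 IH) (Lpe (f786441 IH) (Lpe (f91118 IH) (Lpe (f91114 IH) (Lpr_gt (f112165 IH) (Lpr_ct (f112168 IH) (Lpn (LP (LK LD1_c22 LD2_c20 LD3_c25))))))))))))
theorem f786445 : Led Lsl_gt (LP (LK LD1_c22 LD2_c20 LD3_c25)) = (LP (LK LD1_c22 LD2_c22 LD3_c58)) :=
  Leop (Lpr_gf (f786444 IH) (Lpn (LP (LK LD1_c22 LD2_c20 LD3_c25))))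
theorem seed_1517 : LEOK LG_g (LK LD1_c22 LD2_c20 LD3_c25) :=
  Leoe_g (LK LD1_c22 LD2_c20 LD3_c25) (f786445 IH)
def v20348 : LQ := Led Lsl_gt (LP (LK LD1_c6 LD2_c55 LD3_c2))
theorem f786476 : Led Lsl_gt (LP (LK LD1_c6 LD2_c55 LD3_c2)) = v20348 :=
  Lrfl
theorem f125967 : Led Lsl_ft (LP (LK LD1_c6 LD2_c55 LD3_c2)) = (LP (LK LD1_c13 LD2_c8 LD3_c39)) :=
  Lre_f IH (LK LD1_c6 LD2_c55 LD3_c2) (LK LD1_c13 LD2_c8 LD3_c39) Lrfl Lrfl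
theorem f125898 : Led Lsl_ct (LP (LK LD1_c7 LD2_c53 LD3_c26)) = (LP (LK LD1_c3 LD2_c55 LD3_c51)) :=
  Lre_c IH (LK LD1_c7 LD2_c53 LD3_c26) (LK LD1_c3 LD2_c55 LD3_c51) Lrfl Lrfl
theorem f484448 : Led Lsl_ct (LP (LK LD1_c7 LD2_c11 LD3_c3)) = (LP (LK LD1_c13 LD2_c36 LD3_c41)) :=
  Lre_c IH (LK LD1_c7 LD2_c11 LD3_c3) (LK LD1_c13 LD2_c36 LD3_c41) Lrfl Lrfl
theorem f484449 : Led Lsl_ff (LP (LK LD1_c7 LD2_c53 LD3_c26)) = (LP (LK LD1_c13 LD2_c36 LD3_c41)) :=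
  Lgr Lrot23 (Lpr_ct (f125898 IH) (Lpr_ft (K33.f484441 IH) (Lpr_ct (f484448 IH) (Lpn (LP (LK LD1_c13 LD2_c36 LD3_c41))))))
theorem f125922 : Led Lsl_ct (LP (LK LD1_c24 LD2_c39 LD3_c30)) = (LP (LK LD1_c14 LD2_c52 LD3_c52)) :=
  Lre_c IH (LK LD1_c24 LD2_c39 LD3_c30) (LK LD1_c14 LD2_c52 LD3_c52) Lrfl Lrfl
theorem f112144 : Led Lsl_ct (LP (LK LD1_c13 LD2_c8 LD3_c23)) = (LP (LK LD1_c22 LD2_c20 LD3_c30)) :=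
  Lre_c IH (LK LD1_c13 LD2_c8 LD3_c23) (LK LD1_c22 LD2_c20 LD3_c30) Lrfl Lrfl
theorem f125923 : Led Lsl_af (LP (LK LD1_c24 LD2_c39 LD3_c30)) = (LP (LK LD1_c22 LD2_c20 LD3_c30)) :=
  Lgr Lrot68 (Lpr_ct (f125922 IH) (Lpr_at (K8.f125916 IH) (Lpr_ct (f112144 IH) (Lpn (LP (LK LD1_c22 LD2_c20 LD3_c30))))))
theorem f125952 : Led Lsl_at (LP (LK LD1_c24 LD2_c39 LD3_c30)) = (LP (LK LD1_c22 LD2_c20 LD3_c30)) :=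
  Lgr Lrot100 (Lpr_af (f125923 IH) (Lpn (LP (LK LD1_c22 LD2_c20 LD3_c30))))
theorem f125956 : Led Lsl_ft (LP (LK LD1_c14 LD2_c52 LD3_c51)) = (LP (LK LD1_c24 LD2_c39 LD3_c30)) :=
  Lre_f IH (LK LD1_c14 LD2_c52 LD3_c51) (LK LD1_c24 LD2_c39 LD3_c30) Lrfl Lrfl
theorem f125957 : Led Lsl_ft (LP (LK LD1_c22 LD2_c20 LD3_c30)) = (LP (LK LD1_c13 LD2_c8 LD3_c22)) :=
  Lre_f IH (LK LD1_c22 LD2_c20 LD3_c30) (LK LD1_c13 LD2_c8 LD3_c22) Lrfl Lrfl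
theorem f125958 : Led Lsl_af (LP (LK LD1_c14 LD2_c52 LD3_c51)) = (LP (LK LD1_c13 LD2_c8 LD3_c22)) :=
  Lgr Lrot45 (Lpr_ft (f125956 IH) (Lpr_at (f125952 IH) (Lpr_ft (f125957 IH) (Lpn (LP (LK LD1_c13 LD2_c8 LD3_c22))))))
theorem f125960 : Led Lsl_et (LP (LK LD1_c14 LD2_c52 LD3_c51)) = (LP (LK LD1_c7 LD2_c53 LD3_c26)) :=
  Lre_e IH (LK LD1_c14 LD2_c52 LD3_c51) (LK LD1_c7 LD2_c53 LD3_c26) Lrfl Lrfl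
theorem f125961 : Led Lsl_et (LP (LK LD1_c6 LD2_c55 LD3_c2)) = (LP (LK LD1_c13 LD2_c8 LD3_c22)) :=
  Lre_e IH (LK LD1_c6 LD2_c55 LD3_c2) (LK LD1_c13 LD2_c8 LD3_c22) Lrfl Lrfl
theorem f125962 : Led Lsl_at (LP (LK LD1_c7 LD2_c53 LD3_c26)) = (LP (LK LD1_c6 LD2_c55 LD3_c2)) :=
  Lgr Lrot80 (Lpe (f125960 IH) (Lpr_af (f125958 IH) (Lpe (f125961 IH) (Lpn (LP (LK LD1_c6 LD2_c55 LD3_c2))))))
theorem f484451 : Led Lsl_at (LP (LK LD1_c13 LD2_c8 LD3_c39)) = (LP (LK LD1_c13 LD2_c36 LD3_c41)) :=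
  Lgr Lrot66 (Lpe (f125967 IH) (Lpe (f125962 IH) (Lpr_ff (f484449 IH) (Lpn (LP (LK LD1_c13 LD2_c36 LD3_c41))))))
theorem f786477 : Led Lsl_gf (LP (LK LD1_c13 LD2_c36 LD3_c41)) = v20348 :=
  Lgr Lrot76 (Lpe (f484451 IH) (Lpe (f125967 IH) (Lpr_gt (f786476 IH) (Lpn v20348))))
theorem f478875 : Led Lsl_ct (LP (LK LD1_c13 LD2_c36 LD3_c41)) = (LP (LK LD1_c7 LD2_c11 LD3_c3)) :=
  Lre_c IH (LK LD1_c13 LD2_c36 LD3_c41) (LK LD1_c7 LD2_c11 LD3_c3) Lrfl Lrfl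
theorem f478876 : Led Lsl_dt (LP (LK LD1_c7 LD2_c11 LD3_c3)) = (LP (LK LD1_c3 LD2_c34 LD3_c58)) :=
  Lre_d IH (LK LD1_c7 LD2_c11 LD3_c3) (LK LD1_c3 LD2_c34 LD3_c58) Lrfl Lrfl
theorem f786478 : Led Lsl_ct (LP (LK LD1_c6 LD2_c56 LD3_c10)) = v20348 :=
  Lgr Lrot152 (Lpe (K48.f458379 IH) (Lpe (K48.f89990 IH) (Lpr_gt (K33.f484235 IH) (Lpr_ct (K33.f481759 IH) (Lpq (K33.f484142 IH) (Lpe (K33.f478872 IH) (Lpr_ct (K33.f478873 IH) (Lpe (f478876 IH) (Lpe (f478875 IH) (Lpr_gf (f786477 IH) (Lpn v20348)))))))))))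
theorem f662171 : Led Lsl_bt (LP (LK LD1_c6 LD2_c56 LD3_c10)) = (LP (LK LD1_c13 LD2_c10 LD3_c21)) :=
  Lre_b IH (LK LD1_c6 LD2_c56 LD3_c10) (LK LD1_c13 LD2_c10 LD3_c21) Lrfl Lrfl
theorem f102557 : Led Lsl_ct (LP (LK LD1_c3 LD2_c26 LD3_c35)) = (LP (LK LD1_c6 LD2_c55 LD3_c2)) :=
  Lre_c IH (LK LD1_c3 LD2_c26 LD3_c35) (LK LD1_c6 LD2_c55 LD3_c2) Lrfl Lrfl
theorem f15181 : Led Lsl_gt (LP (LK LD1_c13 LD2_c8 LD3_c13)) = (LP (LK LD1_c6 LD2_c54 LD3_c51)) :=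
  Lre_g IH (LK LD1_c13 LD2_c8 LD3_c13) (LK LD1_c6 LD2_c54 LD3_c51) Lrfl Lrfl
theorem f15265 : Led Lsl_bt (LP (LK LD1_c22 LD2_c20 LD3_c13)) = (LP (LK LD1_c13 LD2_c8 LD3_c13)) :=
  Lre_b IH (LK LD1_c22 LD2_c20 LD3_c13) (LK LD1_c13 LD2_c8 LD3_c13) Lrfl Lrfl
theorem f780362 : Led Lsl_ct (LP (LK LD1_c22 LD2_c20 LD3_c13)) = (LP (LK LD1_c30 LD2_c26 LD3_c21)) :=
  Lre_c IH (LK LD1_c22 LD2_c20 LD3_c13) (LK LD1_c30 LD2_c26 LD3_c21) Lrfl Lrfl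
theorem f484883 : Led Lsl_gt (LP (LK LD1_c3 LD2_c50 LD3_c37)) = (LP (LK LD1_c7 LD2_c42 LD3_c19)) :=
  Lre_g IH (LK LD1_c3 LD2_c50 LD3_c37) (LK LD1_c7 LD2_c42 LD3_c19) Lrfl Lrfl
theorem f110114 : Led Lsl_bt (LP (LK LD1_c1 LD2_c52 LD3_c14)) = (LP (LK LD1_c3 LD2_c50 LD3_c37)) :=
  Lre_b IH (LK LD1_c1 LD2_c52 LD3_c14) (LK LD1_c3 LD2_c50 LD3_c37) Lrfl Lrfl
theorem f110118 : Led Lsl_ct (LP (LK LD1_c1 LD2_c52 LD3_c14)) = (LP (LK LD1_c3 LD2_c50 LD3_c45)) :=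
  Lre_c IH (LK LD1_c1 LD2_c52 LD3_c14) (LK LD1_c3 LD2_c50 LD3_c45) Lrfl Lrfl
theorem f441342 : Led Lsl_gt (LP (LK LD1_c7 LD2_c42 LD3_c36)) = (LP (LK LD1_c3 LD2_c50 LD3_c45)) :=
  Lre_g IH (LK LD1_c7 LD2_c42 LD3_c36) (LK LD1_c3 LD2_c50 LD3_c45) Lrfl Lrfl
theorem f519788 : Led Lsl_gt (LP (LK LD1_c3 LD2_c37 LD3_c22)) = (LP (LK LD1_c1 LD2_c52 LD3_c12)) :=
  Lgr Lrot82 (Lpr_bf (K33.f519780 IH) (Lpe (K33.f480255 IH) (Lpe (K33.f122812 IH) (Lpe (K29.f123367 IH) (Lpr_bt (K6.f122803 IH) (Lpr_gf (K24.f448765 IH) (Lpr_bf (K29.f452109 IH) (Lpe (K33.f480735 IH) (Lpe (K33.f459824 IH) (Lpe (K5.f12214 IH) (Lpn (LP (LK LD1_c1 LD2_c52 LD3_c12)))))))))))))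
theorem f110126 : Led Lsl_ct (LP (LK LD1_c3 LD2_c50 LD3_c45)) = (LP (LK LD1_c1 LD2_c52 LD3_c14)) :=
  Lre_c IH (LK LD1_c3 LD2_c50 LD3_c45) (LK LD1_c1 LD2_c52 LD3_c14) Lrfl Lrfl
theorem f520114 : Led Lsl_cf (LP (LK LD1_c7 LD2_c42 LD3_c36)) = (LP (LK LD1_c7 LD2_c35 LD3_c19)) :=
  Lgr Lrot169 (Lpr_gt (f441342 IH) (Lpr_ct (f110126 IH) (Lpe (K47.f64957 IH) (Lpe (K5.f12214 IH) (Lpe (f519788 IH) (Lpr_cf (K33.f520110 IH) (Lpr_gf (K33.f89208 IH) (Lpe (K49.f89215 IH) (Lpe (K49.f442288 IH) (Lpn (LP (LK LD1_c7 LD2_c35 LD3_c19))))))))))))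
theorem f442293 : Led Lsl_bt (LP (LK LD1_c7 LD2_c39 LD3_c52)) = (LP (LK LD1_c3 LD2_c49 LD3_c43)) :=
  Lre_b IH (LK LD1_c7 LD2_c39 LD3_c52) (LK LD1_c3 LD2_c49 LD3_c43) Lrfl Lrfl
theorem f158563 : Led Lsl_ct (LP (LK LD1_c7 LD2_c39 LD3_c52)) = (LP (LK LD1_c14 LD2_c26 LD3_c41)) :=
  Lre_c IH (LK LD1_c7 LD2_c39 LD3_c52) (LK LD1_c14 LD2_c26 LD3_c41) Lrfl Lrfl
theorem f780345 : Led Lsl_gt (LP (LK LD1_c24 LD2_c6 LD3_c3)) = (LP (LK LD1_c14 LD2_c26 LD3_c41)) :=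
  Lgr Lrot65 (Lpr_cf (f780328 IH) (Lpr_bt (f476981 IH) (Lpe (f484883 IH) (Lpe (f110114 IH) (Lpr_ct (f110118 IH) (Lpe (f441342 IH) (Lpr_cf (f520114 IH) (Lpr_gf (K49.f442288 IH) (Lpe (f442293 IH) (Lpr_ct (f158563 IH) (Lpn (LP (LK LD1_c14 LD2_c26 LD3_c41)))))))))))))
theorem f780336 : Led Lsl_ct (LP (LK LD1_c24 LD2_c6 LD3_c3)) = (LP (LK LD1_c14 LD2_c31 LD3_c17)) :=
  Lgr Lrot59 (Lpr_cf (f780328 IH) (Lpn (LP (LK LD1_c14 LD2_c31 LD3_c17))))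
theorem f481077 : Led Lsl_dt (LP (LK LD1_c14 LD2_c26 LD3_c41)) = (LP (LK LD1_c24 LD2_c7 LD3_c0)) :=
  Lre_d IH (LK LD1_c14 LD2_c26 LD3_c41) (LK LD1_c24 LD2_c7 LD3_c0) Lrfl Lrfl
theorem f524775 : Led Lsl_gt (LP (LK LD1_c24 LD2_c7 LD3_c0)) = (LP (LK LD1_c31 LD2_c22 LD3_c41)) :=
  Lre_g IH (LK LD1_c24 LD2_c7 LD3_c0) (LK LD1_c31 LD2_c22 LD3_c41) Lrfl Lrfl
theorem f524765 : Led Lsl_gt (LP (LK LD1_c22 LD2_c41 LD3_c50)) = (LP (LK LD1_c14 LD2_c26 LD3_c2)) :=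
  Lgr Lrot46 (Lpr_gf (K33.f478011 IH) (Lpe (K43.f524706 IH) (Lpr_at (K35.f524749 IH) (Lpn (LP (LK LD1_c14 LD2_c26 LD3_c2))))))
theorem f482346 : Led Lsl_ct (LP (LK LD1_c30 LD2_c27 LD3_c35)) = (LP (LK LD1_c22 LD2_c22 LD3_c40)) :=
  Lre_c IH (LK LD1_c30 LD2_c27 LD3_c35) (LK LD1_c22 LD2_c22 LD3_c40) Lrfl Lrfl
theorem f482355 : Led Lsl_gf (LP (LK LD1_c30 LD2_c27 LD3_c35)) = (LP (LK LD1_c30 LD2_c39 LD3_c44)) :=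
  Lgr Lrot104 (Lpr_ct (f482346 IH) (Lpe (K47.f482352 IH) (Lpr_cf (K29.f482343 IH) (Lpe (K29.f477964 IH) (Lpr_cf (K29.f481040 IH) (Lpr_gf (K29.f477981 IH) (Lpe (K33.f477992 IH) (Lpe (K33.f478011 IH) (Lpr_ct (K47.f461843 IH) (Lpn (LP (LK LD1_c30 LD2_c39 LD3_c44))))))))))))
theorem f481026 : Led Lsl_ct (LP (LK LD1_c14 LD2_c26 LD3_c5)) = (LP (LK LD1_c7 LD2_c39 LD3_c32)) :=
  Lre_c IH (LK LD1_c14 LD2_c26 LD3_c5) (LK LD1_c7 LD2_c39 LD3_c32) Lrfl Lrfl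
theorem f481047 : Led Lsl_dt (LP (LK LD1_c24 LD2_c6 LD3_c6)) = (LP (LK LD1_c14 LD2_c26 LD3_c5)) :=
  Lre_d IH (LK LD1_c24 LD2_c6 LD3_c6) (LK LD1_c14 LD2_c26 LD3_c5) Lrfl Lrfl
theorem f524767 : Led Lsl_gt (LP (LK LD1_c31 LD2_c22 LD3_c41)) = (LP (LK LD1_c24 LD2_c6 LD3_c6)) :=
  Lre_g IH (LK LD1_c31 LD2_c22 LD3_c41) (LK LD1_c24 LD2_c6 LD3_c6) Lrfl Lrfl
theorem f524768 : Led Lsl_dt (LP (LK LD1_c30 LD2_c27 LD3_c35)) = (LP (LK LD1_c31 LD2_c22 LD3_c41)) :=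
  Lgr Lrot57 (Lpr_gf (f482355 IH) (Lpe (K47.f461843 IH) (Lpr_gt (f524765 IH) (Lpr_dt (K47.f481441 IH) (Lpr_gt (K47.f89800 IH) (Lpr_dt (K47.f89799 IH) (Lpe (f481026 IH) (Lpe (f481047 IH) (Lpe (f524767 IH) (Lpn (LP (LK LD1_c31 LD2_c22 LD3_c41))))))))))))
theorem f524773 : Led Lsl_df (LP (LK LD1_c30 LD2_c27 LD3_c35)) = (LP (LK LD1_c31 LD2_c22 LD3_c41)) :=
  Lgr Lrot38 (Lpr_dt (f524768 IH) (Lpn (LP (LK LD1_c31 LD2_c22 LD3_c41))))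
theorem f482353 : Led Lsl_ct (LP (LK LD1_c22 LD2_c22 LD3_c40)) = (LP (LK LD1_c30 LD2_c27 LD3_c35)) :=
  Lre_c IH (LK LD1_c22 LD2_c22 LD3_c40) (LK LD1_c30 LD2_c27 LD3_c35) Lrfl Lrfl
theorem f162239 : Led Lsl_dt (LP (LK LD1_c23 LD2_c57 LD3_c42)) = (LP (LK LD1_c14 LD2_c19 LD3_c40)) :=
  Lre_d IH (LK LD1_c23 LD2_c57 LD3_c42) (LK LD1_c14 LD2_c19 LD3_c40) Lrfl Lrfl
theorem f780347 : Led Lsl_gt (LP (LK LD1_c14 LD2_c31 LD3_c17)) = (LP (LK LD1_c23 LD2_c57 LD3_c42)) :=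
  Lgr Lrot94 (Lpe (f780336 IH) (Lpr_gt (f780345 IH) (Lpr_dt (f481077 IH) (Lpr_gt (f524775 IH) (Lpe (f524773 IH) (Lpe (f482353 IH) (Lpe (K47.f482352 IH) (Lpe (K37.f488812 IH) (Lpe (f162239 IH) (Lpn (LP (LK LD1_c23 LD2_c57 LD3_c42))))))))))))
theorem f780331 : Led Lsl_bt (LP (LK LD1_c7 LD2_c42 LD3_c19)) = (LP (LK LD1_c14 LD2_c31 LD3_c17)) :=
  Lre_b IH (LK LD1_c7 LD2_c42 LD3_c19) (LK LD1_c14 LD2_c31 LD3_c17) Lrfl Lrfl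
theorem f484884 : Led Lsl_ct (LP (LK LD1_c7 LD2_c42 LD3_c19)) = (LP (LK LD1_c14 LD2_c31 LD3_c18)) :=
  Lre_c IH (LK LD1_c7 LD2_c42 LD3_c19) (LK LD1_c14 LD2_c31 LD3_c18) Lrfl Lrfl
theorem f6376 : Led Lsl_ct (LP (LK LD1_c13 LD2_c39 LD3_c28)) = (LP (LK LD1_c7 LD2_c12 LD3_c58)) :=
  Lre_c IH (LK LD1_c13 LD2_c39 LD3_c28) (LK LD1_c7 LD2_c12 LD3_c58) Lrfl Lrfl
theorem f745302 : Led Lsl_ff (LP (LK LD1_c7 LD2_c6 LD3_c27)) = (LP (LK LD1_c7 LD2_c12 LD3_c58)) :=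
  Lgr Lrot23 (Lpr_ct (K40.f6588 IH) (Lpr_ft (K55.f745298 IH) (Lpr_ct (f6376 IH) (Lpn (LP (LK LD1_c7 LD2_c12 LD3_c58))))))
theorem f6587 : Led Lsl_dt (LP (LK LD1_c7 LD2_c6 LD3_c27)) = (LP (LK LD1_c13 LD2_c28 LD3_c4)) :=
  Lre_d IH (LK LD1_c7 LD2_c6 LD3_c27) (LK LD1_c13 LD2_c28 LD3_c4) Lrfl Lrfl
theorem f6374 : Led Lsl_dt (LP (LK LD1_c13 LD2_c39 LD3_c29)) = (LP (LK LD1_c7 LD2_c12 LD3_c58)) :=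
  Lre_d IH (LK LD1_c13 LD2_c39 LD3_c29) (LK LD1_c7 LD2_c12 LD3_c58) Lrfl Lrfl
theorem f745341 : Led Lsl_ft (LP (LK LD1_c13 LD2_c28 LD3_c4)) = (LP (LK LD1_c13 LD2_c39 LD3_c29)) :=
  Lgr Lrot54 (Lpe (f6587 IH) (Lpr_ff (f745302 IH) (Lpe (f6374 IH) (Lpn (LP (LK LD1_c13 LD2_c39 LD3_c29))))))
theorem f745347 : Led Lsl_ff (LP (LK LD1_c13 LD2_c28 LD3_c4)) = (LP (LK LD1_c13 LD2_c39 LD3_c29)) :=
  Lgr Lrot3 (Lpr_ft (f745341 IH) (Lpn (LP (LK LD1_c13 LD2_c39 LD3_c29))))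
theorem f606679 : Led Lsl_bt (LP (LK LD1_c13 LD2_c28 LD3_c4)) = (LP (LK LD1_c22 LD2_c47 LD3_c29)) :=
  Lre_b IH (LK LD1_c13 LD2_c28 LD3_c4) (LK LD1_c22 LD2_c47 LD3_c29) Lrfl Lrfl
theorem f614085 : Led Lsl_bt (LP (LK LD1_c23 LD2_c4 LD3_c41)) = (LP (LK LD1_c13 LD2_c39 LD3_c29)) :=
  Lre_b IH (LK LD1_c23 LD2_c4 LD3_c41) (LK LD1_c13 LD2_c39 LD3_c29) Lrfl Lrfl
theorem f745349 : Led Lsl_ft (LP (LK LD1_c22 LD2_c47 LD3_c29)) = (LP (LK LD1_c23 LD2_c4 LD3_c41)) :=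
  Lgr Lrot75 (Lpe (f606679 IH) (Lpr_ff (f745347 IH) (Lpe (f614085 IH) (Lpn (LP (LK LD1_c23 LD2_c4 LD3_c41))))))
theorem f478224 : Led Lsl_dt (LP (LK LD1_c13 LD2_c28 LD3_c2)) = (LP (LK LD1_c22 LD2_c47 LD3_c29)) :=
  Lre_d IH (LK LD1_c13 LD2_c28 LD3_c2) (LK LD1_c22 LD2_c47 LD3_c29) Lrfl Lrfl
theorem f478238 : Led Lsl_dt (LP (LK LD1_c23 LD2_c4 LD3_c41)) = (LP (LK LD1_c13 LD2_c39 LD3_c27)) :=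
  Lre_d IH (LK LD1_c23 LD2_c4 LD3_c41) (LK LD1_c13 LD2_c39 LD3_c27) Lrfl Lrfl
theorem f745367 : Led Lsl_ff (LP (LK LD1_c13 LD2_c28 LD3_c2)) = (LP (LK LD1_c13 LD2_c39 LD3_c27)) :=
  Lgr Lrot19 (Lpr_dt (f478224 IH) (Lpr_ft (f745349 IH) (Lpr_dt (f478238 IH) (Lpn (LP (LK LD1_c13 LD2_c39 LD3_c27))))))
theorem f606527 : Led Lsl_ft (LP (LK LD1_c11 LD2_c50 LD3_c31)) = (LP (LK LD1_c17 LD2_c8 LD3_c30)) :=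
  Lgr Lrot54 (Lpr_df (K41.f565539 IH) (Lpe (K41.f564265 IH) (Lpr_df (K55.f606524 IH) (Lpn (LP (LK LD1_c17 LD2_c8 LD3_c30))))))
theorem f418584 : Led Lsl_et (LP (LK LD1_c16 LD2_c28 LD3_c60)) = (LP (LK LD1_c26 LD2_c25 LD3_c60)) :=
  Lre_e IH (LK LD1_c16 LD2_c28 LD3_c60) (LK LD1_c26 LD2_c25 LD3_c60) Lrfl Lrfl
theorem f606522 : Led Lsl_bf (LP (LK LD1_c16 LD2_c28 LD3_c60)) = (LP (LK LD1_c17 LD2_c8 LD3_c30)) :=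
  Lgr Lrot96 (Lpr_et (f418584 IH) (Lpe (K55.f606507 IH) (Lpr_et (K55.f606518 IH) (Lpn (LP (LK LD1_c17 LD2_c8 LD3_c30))))))
theorem f606529 : Led Lsl_bf (LP (LK LD1_c11 LD2_c50 LD3_c31)) = (LP (LK LD1_c8 LD2_c49 LD3_c31)) :=
  Lgr Lrot61 (Lpr_ft (f606527 IH) (Lpe (f606522 IH) (Lpe (K42.f571981 IH) (Lpn (LP (LK LD1_c8 LD2_c49 LD3_c31))))))

end

end K60

end

end Cfsg.Agent.Helper28.S1692
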