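import Cfsg.Agent.Lib.Helper28.S1692.Seeds60

set_option autoImplicit false
set_option maxRecDepth 100000
set_option linter.all false

namespace Cfsg.Agent.Helper28.S1692

open Cfsg.Agent.Helper28
open Cfsg.Spor.ON (Gen)

noncomputable section

namespace K61
abbrev LD1_c0 := D1.c0
abbrev LD1_c1 := D1.c1
abbrev LD1_c2 := D1.c2
abbrev LD1_c3 := D1.c3
abbrev LD1_c4 := D1.c4
abbrev LD1_c5 := D1.c5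
abbrev LD1_c6 := D1.c6
abbrev LD1_c7 := D1.c7
abbrev LD1_c8 := D1.c8
abbrev LD1_c9 := D1.c9
abbrev LD1_c10 := D1.c10
abbrev LD1_c11 := D1.c11
abbrev LD1_c12 := D1.c12
abbrev LD1_c13 := D1.c13
abbrev LD1_c14 := D1.c14
abbrev LD1_c15 := D1.c15
abbrev LD1_c16 := D1.c16
abbrev LD1_c17 := D1.c17
abbrev LD1_c18 := D1.c18
abbrev LD1_c19 := D1.c19
abbrev LD1_c20 := D1.c20
abbrev LD1_c21 := D1.c21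
abbrev LD1_c22 := D1.c22
abbrev LD1_c23 := D1.c23
abbrev LD1_c24 := D1.c24
abbrev LD1_c25 := D1.c25
abbrev LD1_c26 := D1.c26
abbrev LD1_c27 := D1.c27
abbrev LD1_c28 := D1.c28
abbrev LD1_c29 := D1.c29
abbrev LD1_c30 := D1.c30
abbrev LD1_c31 := D1.c31
abbrev LD1_c32 := D1.c32
abbrev LD2_c0 := D2.c0
abbrev LD2_c1 := D2.c1
abbrev LD2_c2 := D2.c2
abbrev LD2_c3 := D2.c3
abbrev LD2_c4 := D2.c4
abbrev LD2_c5 := D2.c5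
abbrev LD2_c6 := D2.c6
abbrev LD2_c7 := D2.c7
abbrev LD2_c8 := D2.c8
abbrev LD2_c9 := D2.c9
abbrev LD2_c10 := D2.c10
abbrev LD2_c11 := D2.c11
abbrev LD2_c12 := D2.c12
abbrev LD2_c13 := D2.c13
abbrev LD2_c14 := D2.c14
abbrev LD2_c15 := D2.c15
abbrev LD2_c16 := D2.c16
abbrev LD2_c17 := D2.c17
abbrev LD2_c18 := D2.c18
abbrev LD2_c19 := D2.c19
abbrev LD2_c20 := D2.c20
abbrev LD2_c21 := D2.c21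
abbrev LD2_c22 := D2.c22
abbrev LD2_c23 := D2.c23
abbrev LD2_c24 := D2.c24
abbrev LD2_c25 := D2.c25
abbrev LD2_c26 := D2.c26
abbrev LD2_c27 := D2.c27
abbrev LD2_c28 := D2.c28
abbrev LD2_c29 := D2.c29
abbrev LD2_c30 := D2.c30
abbrev LD2_c31 := D2.c31
abbrev LD2_c32 := D2.c32
abbrev LD2_c33 := D2.c33
abbrev LD2_c34 := D2.c34
abbrev LD2_c35 := D2.c35
abbrev LD2_c36 := D2.c36
abbrev LD2_c37 := D2.c37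
abbrev LD2_c38 := D2.c38
abbrev LD2_c39 := D2.c39
abbrev LD2_c40 := D2.c40
abbrev LD2_c41 := D2.c41
abbrev LD2_c42 := D2.c42
abbrev LD2_c43 := D2.c43
abbrev LD2_c44 := D2.c44
abbrev LD2_c45 := D2.c45
abbrev LD2_c46 := D2.c46
abbrev LD2_c47 := D2.c47
abbrev LD2_c48 := D2.c48
abbrev LD2_c49 := D2.c49
abbrev LD2_c50 := D2.c50
abbrev LD2_c51 := D2.c51
abbrev LD2_c52 := D2.c52
abbrev LD2_c53 := D2.c53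
abbrev LD2_c54 := D2.c54
abbrev LD2_c55 := D2.c55
abbrev LD2_c56 := D2.c56
abbrev LD2_c57 := D2.c57
abbrev LD2_c58 := D2.c58
abbrev LD2_c59 := D2.c59
abbrev LD3_c0 := D3.c0
abbrev LD3_c1 := D3.c1
abbrev LD3_c2 := D3.c2
abbrev LD3_c3 := D3.c3
abbrev LD3_c4 := D3.c4
abbrev LD3_c5 := D3.c5
abbrev LD3_c6 := D3.c6
abbrev LD3_c7 := D3.c7
abbrev LD3_c8 := D3.c8
abbrev LD3_c9 := D3.c9
abbrev LD3_c10 := D3.c10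
abbrev LD3_c11 := D3.c11
abbrev LD3_c12 := D3.c12
abbrev LD3_c13 := D3.c13
abbrev LD3_c14 := D3.c14
abbrev LD3_c15 := D3.c15
abbrev LD3_c16 := D3.c16
abbrev LD3_c17 := D3.c17
abbrev LD3_c18 := D3.c18
abbrev LD3_c19 := D3.c19
abbrev LD3_c20 := D3.c20
abbrev LD3_c21 := D3.c21
abbrev LD3_c22 := D3.c22
abbrev LD3_c23 := D3.c23
abbrev LD3_c24 := D3.c24
abbrev LD3_c25 := D3.c25
abbrev LD3_c26 := D3.c26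
abbrev LD3_c27 := D3.c27
abbrev LD3_c28 := D3.c28
abbrev LD3_c29 := D3.c29
abbrev LD3_c30 := D3.c30
abbrev LD3_c31 := D3.c31
abbrev LD3_c32 := D3.c32
abbrev LD3_c33 := D3.c33
abbrev LD3_c34 := D3.c34
abbrev LD3_c35 := D3.c35
abbrev LD3_c36 := D3.c36
abbrev LD3_c37 := D3.c37
abbrev LD3_c38 := D3.c38
abbrev LD3_c39 := D3.c39
abbrev LD3_c40 := D3.c40
abbrev LD3_c41 := D3.c41
abbrev LD3_c42 := D3.c42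
abbrev LD3_c43 := D3.c43
abbrev LD3_c44 := D3.c44
abbrev LD3_c45 := D3.c45
abbrev LD3_c46 := D3.c46
abbrev LD3_c47 := D3.c47
abbrev LD3_c48 := D3.c48
abbrev LD3_c49 := D3.c49
abbrev LD3_c50 := D3.c50
abbrev LD3_c51 := D3.c51
abbrev LD3_c52 := D3.c52
abbrev LD3_c53 := D3.c53
abbrev LD3_c54 := D3.c54
abbrev LD3_c55 := D3.c55
abbrev LD3_c56 := D3.c56
abbrev LD3_c57 := D3.c57
abbrev LD3_c58 := D3.c58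
abbrev LD3_c59 := D3.c59
abbrev LD3_c60 := D3.c60
abbrev LD3_c61 := D3.c61
abbrev LG_g := Gen.g
abbrev Lsl_gt : Gen × Bool := sl_gt
alias Lfl_gt := fl_gt
alias Lpr_gt := pr_gt
abbrev Lsl_gf : Gen × Bool := sl_gf
alias Lfl_gf := fl_gf
alias Lpr_gf := pr_gf
alias Lre_g := re_g
alias Leoe_g := eoe_g
abbrev LG_a := Gen.a
abbrev Lsl_at : Gen × Bool := sl_at
alias Lfl_at := fl_at
alias Lpr_at := pr_at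
abbrev Lsl_af : Gen × Bool := sl_af
alias Lfl_af := fl_af
alias Lpr_af := pr_af
alias Lre_a := re_a
alias Leoe_a := eoe_a
abbrev LG_b := Gen.b
abbrev Lsl_bt : Gen × Bool := sl_bt
alias Lfl_bt := fl_bt
alias Lpr_bt := pr_bt
abbrev Lsl_bf : Gen × Bool := sl_bf
alias Lfl_bf := fl_bf
alias Lpr_bf := pr_bf
alias Lre_b := re_b
alias Leoe_b := eoe_b
abbrev LG_c := Gen.c
abbrev Lsl_ct : Gen × Bool := sl_ct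
alias Lfl_ct := fl_ct
alias Lpr_ct := pr_ct
abbrev Lsl_cf : Gen × Bool := sl_cf
alias Lfl_cf := fl_cf
alias Lpr_cf := pr_cf
alias Lre_c := re_c
alias Leoe_c := eoe_c
abbrev LG_d := Gen.d
abbrev Lsl_dt : Gen × Bool := sl_dt
alias Lfl_dt := fl_dt
alias Lpr_dt := pr_dt
abbrev Lsl_df : Gen × Bool := sl_df
alias Lfl_df := fl_df
alias Lpr_df := pr_df
alias Lre_d := re_d
alias Leoe_d := eoe_d
abbrev LG_e := Gen.e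
abbrev Lsl_et : Gen × Bool := sl_et
alias Lfl_et := fl_et
alias Lpr_et := pr_et
abbrev Lsl_ef : Gen × Bool := sl_ef
alias Lfl_ef := fl_ef
alias Lpr_ef := pr_ef
alias Lre_e := re_e
alias Leoe_e := eoe_e
abbrev LG_f := Gen.f
abbrev Lsl_ft : Gen × Bool := sl_ft
alias Lfl_ft := fl_ft
alias Lpr_ft := pr_ft
abbrev Lsl_ff : Gen × Bool := sl_ff
alias Lfl_ff := fl_ff
alias Lpr_ff := pr_ff
alias Lre_f := re_f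
alias Leoe_f := eoe_f
abbrev LK := Pt.mk
abbrev LQ : Type := Qt rels S
abbrev LP (p : Pt) : LQ := P p
abbrev Led (l : Gen × Bool) (c : LQ) : LQ := ed l c
abbrev LEOK (x : Gen) (p : Pt) : Prop := EntryOK rels S fwd inv o plet idx x p
alias Lpe := pe
alias Lpn := pn
alias Lgr := gr
alias Lpq := pq
alias Lpqs := pqs
alias Llr := lr
alias Leop := eop
alias Lefun := efun
alias Lecon := econ
theorem Lrfl {α : Sort _} {a : α} : a = a := rfl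
alias Lrot0 := rot0
alias Lrot1 := rot1
alias Lrot2 := rot2
alias Lrot3 := rot3
alias Lrot4 := rot4
alias Lrot5 := rot5
alias Lrot6 := rot6
alias Lrot7 := rot7
alias Lrot8 := rot8
alias Lrot9 := rot9
alias Lrot10 := rot10
alias Lrot11 := rot11
alias Lrot12 := rot12
alias Lrot13 := rot13
alias Lrot14 := rot14
alias Lrot15 := rot15
alias Lrot17 := rot17
alias Lrot18 := rot18
alias Lrot19 := rot19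
alias Lrot20 := rot20
alias Lrot21 := rot21
alias Lrot22 := rot22
alias Lrot23 := rot23
alias Lrot24 := rot24
alias Lrot25 := rot25
alias Lrot26 := rot26
alias Lrot27 := rot27
alias Lrot28 := rot28
alias Lrot29 := rot29
alias Lrot30 := rot30
alias Lrot31 := rot31
alias Lrot32 := rot32
alias Lrot33 := rot33
alias Lrot34 := rot34
alias Lrot35 := rot35
alias Lrot36 := rot36
alias Lrot37 := rot37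
alias Lrot38 := rot38
alias Lrot39 := rot39
alias Lrot40 := rot40
alias Lrot42 := rot42
alias Lrot43 := rot43
alias Lrot44 := rot44
alias Lrot45 := rot45
alias Lrot46 := rot46
alias Lrot47 := rot47
alias Lrot48 := rot48
alias Lrot49 := rot49
alias Lrot50 := rot50
alias Lrot51 := rot51
alias Lrot52 := rot52
alias Lrot53 := rot53
alias Lrot54 := rot54
alias Lrot55 := rot55
alias Lrot56 := rot56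
alias Lrot57 := rot57
alias Lrot58 := rot58
alias Lrot59 := rot59
alias Lrot60 := rot60
alias Lrot61 := rot61
alias Lrot62 := rot62
alias Lrot63 := rot63
alias Lrot64 := rot64
alias Lrot65 := rot65
alias Lrot66 := rot66
alias Lrot67 := rot67
alias Lrot68 := rot68
alias Lrot69 := rot69
alias Lrot70 := rot70
alias Lrot71 := rot71
alias Lrot72 := rot72
alias Lrot73 := rot73
alias Lrot74 := rot74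
alias Lrot75 := rot75
alias Lrot76 := rot76
alias Lrot77 := rot77
alias Lrot78 := rot78
alias Lrot79 := rot79
alias Lrot80 := rot80
alias Lrot81 := rot81
alias Lrot82 := rot82
alias Lrot83 := rot83
alias Lrot84 := rot84
alias Lrot86 := rot86
alias Lrot87 := rot87
alias Lrot88 := rot88
alias Lrot90 := rot90
alias Lrot91 := rot91
alias Lrot92 := rot92
alias Lrot93 := rot93
alias Lrot94 := rot94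
alias Lrot95 := rot95
alias Lrot96 := rot96
alias Lrot97 := rot97
alias Lrot98 := rot98
alias Lrot99 := rot99
alias Lrot100 := rot100
alias Lrot101 := rot101
alias Lrot102 := rot102
alias Lrot103 := rot103
alias Lrot104 := rot104
alias Lrot105 := rot105
alias Lrot106 := rot106
alias Lrot107 := rot107
alias Lrot108 := rot108
alias Lrot109 := rot109
alias Lrot110 := rot110
alias Lrot111 := rot111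
alias Lrot112 := rot112
alias Lrot113 := rot113
alias Lrot114 := rot114
alias Lrot115 := rot115
alias Lrot116 := rot116
alias Lrot117 := rot117
alias Lrot118 := rot118
alias Lrot119 := rot119
alias Lrot120 := rot120
alias Lrot121 := rot121
alias Lrot122 := rot122
alias Lrot123 := rot123
alias Lrot124 := rot124
alias Lrot125 := rot125
alias Lrot126 := rot126
alias Lrot127 := rot127
alias Lrot128 := rot128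
alias Lrot129 := rot129
alias Lrot130 := rot130
alias Lrot131 := rot131
alias Lrot132 := rot132
alias Lrot133 := rot133
alias Lrot134 := rot134
alias Lrot135 := rot135
alias Lrot136 := rot136
alias Lrot137 := rot137
alias Lrot138 := rot138
alias Lrot139 := rot139
alias Lrot140 := rot140
alias Lrot141 := rot141
alias Lrot142 := rot142
alias Lrot143 := rot143
alias Lrot144 := rot144
alias Lrot145 := rot145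
alias Lrot146 := rot146
alias Lrot147 := rot147
alias Lrot148 := rot148
alias Lrot149 := rot149
alias Lrot150 := rot150
alias Lrot151 := rot151
alias Lrot152 := rot152
alias Lrot153 := rot153
alias Lrot154 := rot154
alias Lrot155 := rot155
alias Lrot156 := rot156
alias Lrot157 := rot157
alias Lrot158 := rot158
alias Lrot160 := rot160
alias Lrot161 := rot161
alias Lrot162 := rot162
alias Lrot163 := rot163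
alias Lrot164 := rot164
alias Lrot165 := rot165
alias Lrot166 := rot166
alias Lrot167 := rot167
alias Lrot168 := rot168
alias Lrot169 := rot169
alias Lrot170 := rot170
alias Lrot171 := rot171
alias Lrot172 := rot172
alias Lrot173 := rot173
alias Lrot176 := rot176
alias Lrot177 := rot177
alias Lrot179 := rot179
alias Lrot180 := rot180
alias Lrot181 := rot181
alias Lrot185 := rot185
alias Lrot188 := rot188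
alias Lrot189 := rot189

section
variable (IH : IHT)
include IH

theorem f96520 : Led Lsl_dt (LP (LK LD1_c13 LD2_c41 LD3_c29)) = (LP (LK LD1_c7 LD2_c14 LD3_c4)) :=
  Lre_d IH (LK LD1_c13 LD2_c41 LD3_c29) (LK LD1_c7 LD2_c14 LD3_c4) Lrfl Lrfl
theorem f565545 : Led Lsl_et (LP (LK LD1_c11 LD2_c50 LD3_c31)) = (LP (LK LD1_c13 LD2_c41 LD3_c29)) :=
  Lgr Lrot71 (Lpr_df (K41.f565539 IH) (Lpe (K42.f272495 IH) (Lpr_df (K41.f559145 IH) (Lpe (K33.f162197 IH) (Lpe (f96520 IH) (Lpn (LP (LK LD1_c13 LD2_c41 LD3_c29))))))))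
theorem f557755 : Led Lsl_et (LP (LK LD1_c16 LD2_c30 LD3_c9)) = (LP (LK LD1_c8 LD2_c49 LD3_c31)) :=
  Lre_e IH (LK LD1_c16 LD2_c30 LD3_c9) (LK LD1_c8 LD2_c49 LD3_c31) Lrfl Lrfl
theorem f606535 : Led Lsl_bt (LP (LK LD1_c13 LD2_c41 LD3_c29)) = (LP (LK LD1_c16 LD2_c30 LD3_c9)) :=
  Lgr Lrot119 (Lpe (f565545 IH) (Lpr_bf (K60.f606529 IH) (Lpe (f557755 IH) (Lpn (LP (LK LD1_c16 LD2_c30 LD3_c9))))))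
theorem f467018 : Led Lsl_dt (LP (LK LD1_c13 LD2_c39 LD3_c41)) = (LP (LK LD1_c23 LD2_c5 LD3_c1)) :=
  Lre_d IH (LK LD1_c13 LD2_c39 LD3_c41) (LK LD1_c23 LD2_c5 LD3_c1) Lrfl Lrfl
theorem f486381 : Led Lsl_ff (LP (LK LD1_c13 LD2_c41 LD3_c29)) = (LP (LK LD1_c23 LD2_c5 LD3_c1)) :=
  Lgr Lrot19 (Lpr_dt (f96520 IH) (Lpr_ft (K33.f486363 IH) (Lpr_dt (f467018 IH) (Lpn (LP (LK LD1_c23 LD2_c5 LD3_c1))))))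
theorem f486318 : Led Lsl_dt (LP (LK LD1_c24 LD2_c3 LD3_c19)) = (LP (LK LD1_c14 LD2_c24 LD3_c22)) :=
  Lre_d IH (LK LD1_c24 LD2_c3 LD3_c19) (LK LD1_c14 LD2_c24 LD3_c22) Lrfl Lrfl
theorem f486357 : Led Lsl_bf (LP (LK LD1_c24 LD2_c3 LD3_c19)) = (LP (LK LD1_c23 LD2_c5 LD3_c1)) :=
  Lgr Lrot93 (Lpr_dt (f486318 IH) (Lpr_bt (K33.f486353 IH) (Lpr_dt (f467018 IH) (Lpn (LP (LK LD1_c23 LD2_c5 LD3_c1))))))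
theorem f486431 : Led Lsl_bt (LP (LK LD1_c24 LD2_c3 LD3_c19)) = (LP (LK LD1_c23 LD2_c5 LD3_c1)) :=
  Lgr Lrot127 (Lpr_bf (f486357 IH) (Lpn (LP (LK LD1_c23 LD2_c5 LD3_c1))))
theorem f606541 : Led Lsl_ff (LP (LK LD1_c24 LD2_c3 LD3_c19)) = (LP (LK LD1_c16 LD2_c30 LD3_c9)) :=
  Lgr Lrot25 (Lpr_bt (f486431 IH) (Lpe (f486381 IH) (Lpr_bt (f606535 IH) (Lpn (LP (LK LD1_c16 LD2_c30 LD3_c9))))))
theorem f606547 : Led Lsl_ft (LP (LK LD1_c24 LD2_c3 LD3_c19)) = (LP (LK LD1_c16 LD2_c30 LD3_c9)) :=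
  Lgr Lrot48 (Lpr_ff (f606541 IH) (Lpn (LP (LK LD1_c16 LD2_c30 LD3_c9))))
theorem f486434 : Led Lsl_et (LP (LK LD1_c31 LD2_c20 LD3_c58)) = (LP (LK LD1_c24 LD2_c3 LD3_c19)) :=
  Lre_e IH (LK LD1_c31 LD2_c20 LD3_c58) (LK LD1_c24 LD2_c3 LD3_c19) Lrfl Lrfl
theorem f606551 : Led Lsl_ff (LP (LK LD1_c31 LD2_c20 LD3_c58)) = (LP (LK LD1_c26 LD2_c25 LD3_c60)) :=
  Lgr Lrot72 (Lpr_et (f486434 IH) (Lpr_ft (f606547 IH) (Lpr_et (f557755 IH) (Lpr_ft (K42.f571964 IH) (Lpr_et (K60.f418584 IH) (Lpn (LP (LK LD1_c26 LD2_c25 LD3_c60))))))))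
theorem f450513 : Led Lsl_ft (LP (LK LD1_c26 LD2_c26 LD3_c2)) = (LP (LK LD1_c16 LD2_c28 LD3_c61)) :=
  Lre_f IH (LK LD1_c26 LD2_c26 LD3_c2) (LK LD1_c16 LD2_c28 LD3_c61) Lrfl Lrfl
theorem f606553 : Led Lsl_at (LP (LK LD1_c31 LD2_c20 LD3_c58)) = (LP (LK LD1_c26 LD2_c26 LD3_c2)) :=
  Lgr Lrot66 (Lpr_ff (f606551 IH) (Lpe (K55.f449687 IH) (Lpe (f450513 IH) (Lpn (LP (LK LD1_c26 LD2_c26 LD3_c2))))))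
theorem f486433 : Led Lsl_et (LP (LK LD1_c24 LD2_c3 LD3_c19)) = (LP (LK LD1_c31 LD2_c20 LD3_c58)) :=
  Lre_e IH (LK LD1_c24 LD2_c3 LD3_c19) (LK LD1_c31 LD2_c20 LD3_c58) Lrfl Lrfl
theorem f449702 : Led Lsl_bt (LP (LK LD1_c16 LD2_c29 LD3_c3)) = (LP (LK LD1_c26 LD2_c26 LD3_c2)) :=
  Lre_b IH (LK LD1_c16 LD2_c29 LD3_c3) (LK LD1_c26 LD2_c26 LD3_c2) Lrfl Lrfl
theorem f449941 : Led Lsl_bt (LP (LK LD1_c29 LD2_c15 LD3_c26)) = (LP (LK LD1_c20 LD2_c1 LD3_c61)) :=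
  Lre_b IH (LK LD1_c29 LD2_c15 LD3_c26) (LK LD1_c20 LD2_c1 LD3_c61) Lrfl Lrfl
theorem f449942 : Led Lsl_et (LP (LK LD1_c26 LD2_c26 LD3_c2)) = (LP (LK LD1_c29 LD2_c15 LD3_c26)) :=
  Lgr Lrot74 (Lpe (f449702 IH) (Lpr_ef (K36.f449726 IH) (Lpe (f449941 IH) (Lpn (LP (LK LD1_c29 LD2_c15 LD3_c26))))))
theorem f606559 : Led Lsl_af (LP (LK LD1_c24 LD2_c3 LD3_c19)) = (LP (LK LD1_c29 LD2_c15 LD3_c26)) :=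
  Lgr Lrot50 (Lpr_et (f486433 IH) (Lpr_at (f606553 IH) (Lpr_et (f449942 IH) (Lpn (LP (LK LD1_c29 LD2_c15 LD3_c26))))))
theorem f450515 : Led Lsl_ft (LP (LK LD1_c20 LD2_c1 LD3_c59)) = (LP (LK LD1_c29 LD2_c15 LD3_c26)) :=
  Lre_f IH (LK LD1_c20 LD2_c1 LD3_c59) (LK LD1_c29 LD2_c15 LD3_c26) Lrfl Lrfl
theorem f606561 : Led Lsl_at (LP (LK LD1_c16 LD2_c30 LD3_c9)) = (LP (LK LD1_c20 LD2_c1 LD3_c59)) :=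
  Lgr Lrot66 (Lpe (f606547 IH) (Lpr_af (f606559 IH) (Lpe (f450515 IH) (Lpn (LP (LK LD1_c20 LD2_c1 LD3_c59))))))
theorem f96498 : Led Lsl_et (LP (LK LD1_c7 LD2_c14 LD3_c2)) = (LP (LK LD1_c13 LD2_c41 LD3_c26)) :=
  Lre_e IH (LK LD1_c7 LD2_c14 LD3_c2) (LK LD1_c13 LD2_c41 LD3_c26) Lrfl Lrfl
theorem f571996 : Led Lsl_df (LP (LK LD1_c16 LD2_c30 LD3_c9)) = (LP (LK LD1_c13 LD2_c41 LD3_c26)) :=
  Lgr Lrot70 (Lpr_et (f557755 IH) (Lpr_dt (K42.f571985 IH) (Lpr_et (K42.f272494 IH) (Lpe (K45.f563878 IH) (Lpr_et (f96498 IH) (Lpn (LP (LK LD1_c13 LD2_c41 LD3_c26))))))))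
theorem f560812 : Led Lsl_dt (LP (LK LD1_c20 LD2_c1 LD3_c59)) = (LP (LK LD1_c11 LD2_c27 LD3_c61)) :=
  Lre_d IH (LK LD1_c20 LD2_c1 LD3_c59) (LK LD1_c11 LD2_c27 LD3_c61) Lrfl Lrfl
theorem f606567 : Led Lsl_af (LP (LK LD1_c13 LD2_c41 LD3_c26)) = (LP (LK LD1_c11 LD2_c27 LD3_c61)) :=
  Lgr Lrot117 (Lpe (f571996 IH) (Lpr_at (f606561 IH) (Lpr_dt (f560812 IH) (Lpn (LP (LK LD1_c11 LD2_c27 LD3_c61))))))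
theorem f606571 : Led Lsl_at (LP (LK LD1_c13 LD2_c41 LD3_c26)) = (LP (LK LD1_c11 LD2_c27 LD3_c61)) :=
  Lgr Lrot100 (Lpr_af (f606567 IH) (Lpn (LP (LK LD1_c11 LD2_c27 LD3_c61))))
theorem f486324 : Led Lsl_ff (LP (LK LD1_c7 LD2_c38 LD3_c38)) = (LP (LK LD1_c13 LD2_c29 LD3_c57)) :=
  Lgr Lrot3 (Lpr_ft (K33.f486315 IH) (Lpn (LP (LK LD1_c13 LD2_c29 LD3_c57))))
theorem f486252 : Led Lsl_ct (LP (LK LD1_c7 LD2_c38 LD3_c38)) = (LP (LK LD1_c14 LD2_c24 LD3_c22)) :=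
  Lre_c IH (LK LD1_c7 LD2_c38 LD3_c38) (LK LD1_c14 LD2_c24 LD3_c22) Lrfl Lrfl
theorem f486326 : Led Lsl_ft (LP (LK LD1_c14 LD2_c24 LD3_c22)) = (LP (LK LD1_c13 LD2_c41 LD3_c26)) :=
  Lgr Lrot4 (Lpe (f486252 IH) (Lpr_ff (f486324 IH) (Lpr_cf (K8.f96492 IH) (Lpn (LP (LK LD1_c13 LD2_c41 LD3_c26))))))
theorem f560809 : Led Lsl_gt (LP (LK LD1_c20 LD2_c25 LD3_c38)) = (LP (LK LD1_c11 LD2_c27 LD3_c61)) :=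
  Lre_g IH (LK LD1_c20 LD2_c25 LD3_c38) (LK LD1_c11 LD2_c27 LD3_c61) Lrfl Lrfl
theorem f606581 : Led Lsl_gt (LP (LK LD1_c14 LD2_c24 LD3_c22)) = (LP (LK LD1_c20 LD2_c25 LD3_c38)) :=
  Lgr Lrot5 (Lpr_ft (f486326 IH) (Lpr_at (f606571 IH) (Lpe (f560809 IH) (Lpn (LP (LK LD1_c20 LD2_c25 LD3_c38))))))
theorem f745371 : Led Lsl_at (LP (LK LD1_c13 LD2_c28 LD3_c2)) = (LP (LK LD1_c20 LD2_c25 LD3_c38)) :=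
  Lgr Lrot26 (Lpr_ff (K60.f745367 IH) (Lpr_gt (K55.f560810 IH) (Lpr_gt (f606581 IH) (Lpn (LP (LK LD1_c20 LD2_c25 LD3_c38))))))
theorem f478136 : Led Lsl_dt (LP (LK LD1_c22 LD2_c47 LD3_c29)) = (LP (LK LD1_c13 LD2_c28 LD3_c2)) :=
  Lre_d IH (LK LD1_c22 LD2_c47 LD3_c29) (LK LD1_c13 LD2_c28 LD3_c2) Lrfl Lrfl
theorem f606583 : Led Lsl_dt (LP (LK LD1_c20 LD2_c25 LD3_c38)) = (LP (LK LD1_c29 LD2_c27 LD3_c8)) :=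
  Lre_d IH (LK LD1_c20 LD2_c25 LD3_c38) (LK LD1_c29 LD2_c27 LD3_c8) Lrfl Lrfl
theorem f745379 : Led Lsl_af (LP (LK LD1_c22 LD2_c47 LD3_c29)) = (LP (LK LD1_c29 LD2_c27 LD3_c8)) :=
  Lgr Lrot117 (Lpr_dt (f478136 IH) (Lpr_at (f745371 IH) (Lpr_dt (f606583 IH) (Lpn (LP (LK LD1_c29 LD2_c27 LD3_c8))))))
theorem f162549 : Led Lsl_dt (LP (LK LD1_c7 LD2_c14 LD3_c4)) = (LP (LK LD1_c13 LD2_c41 LD3_c29)) :=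
  Lre_d IH (LK LD1_c7 LD2_c14 LD3_c4) (LK LD1_c13 LD2_c41 LD3_c29) Lrfl Lrfl
theorem f606539 : Led Lsl_df (LP (LK LD1_c13 LD2_c41 LD3_c26)) = (LP (LK LD1_c16 LD2_c30 LD3_c9)) :=
  Lgr Lrot12 (Lpr_bt (K33.f96488 IH) (Lpr_dt (f162549 IH) (Lpr_bt (f606535 IH) (Lpn (LP (LK LD1_c16 LD2_c30 LD3_c9))))))
theorem f486345 : Led Lsl_ct (LP (LK LD1_c7 LD2_c38 LD3_c39)) = (LP (LK LD1_c13 LD2_c28 LD3_c37)) :=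
  Lgr Lrot59 (Lpr_cf (K43.f486270 IH) (Lpn (LP (LK LD1_c13 LD2_c28 LD3_c37))))
theorem f516242 : Led Lsl_bf (LP (LK LD1_c7 LD2_c9 LD3_c17)) = (LP (LK LD1_c13 LD2_c28 LD3_c37)) :=
  Lgr Lrot90 (Lpr_ct (K33.f482569 IH) (Lpr_bt (K46.f515139 IH) (Lpe (K33.f515544 IH) (Lpr_bt (K33.f516238 IH) (Lpr_ct (f486345 IH) (Lpn (LP (LK LD1_c13 LD2_c28 LD3_c37))))))))
theorem f516388 : Led Lsl_gt (LP (LK LD1_c13 LD2_c29 LD3_c57)) = (LP (LK LD1_c7 LD2_c38 LD3_c39)) :=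
  Lgr Lrot5 (Lpe (f486324 IH) (Lpr_at (K55.f486311 IH) (Lpr_gf (K34.f516386 IH) (Lpn (LP (LK LD1_c7 LD2_c38 LD3_c39))))))
theorem f560698 : Led Lsl_cf (LP (LK LD1_c22 LD2_c47 LD3_c27)) = (LP (LK LD1_c21 LD2_c14 LD3_c56)) :=
  Lgr Lrot108 (Lpr_ft (K40.f560635 IH) (Lpr_ct (K40.f560687 IH) (Lpr_ft (K40.f560665 IH) (Lpn (LP (LK LD1_c21 LD2_c14 LD3_c56))))))
theorem f478132 : Led Lsl_bt (LP (LK LD1_c7 LD2_c6 LD3_c27)) = (LP (LK LD1_c13 LD2_c28 LD3_c2)) :=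
  Lre_b IH (LK LD1_c7 LD2_c6 LD3_c27) (LK LD1_c13 LD2_c28 LD3_c2) Lrfl Lrfl
theorem f560771 : Led Lsl_gf (LP (LK LD1_c13 LD2_c41 LD3_c26)) = (LP (LK LD1_c13 LD2_c28 LD3_c2)) :=
  Lgr Lrot181 (Lpe (K8.f96492 IH) (Lpr_gt (f516388 IH) (Lpr_cf (K43.f486270 IH) (Lpe (f516242 IH) (Lpr_gt (K46.f560767 IH) (Lpe (K40.f560654 IH) (Lpe (f560698 IH) (Lpe (K40.f524924 IH) (Lpe (K40.f6588 IH) (Lpr_bt (f478132 IH) (Lpn (LP (LK LD1_c13 LD2_c28 LD3_c2)))))))))))))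
theorem f571973 : Led Lsl_et (LP (LK LD1_c8 LD2_c49 LD3_c28)) = (LP (LK LD1_c4 LD2_c26 LD3_c4)) :=
  Lre_e IH (LK LD1_c8 LD2_c49 LD3_c28) (LK LD1_c4 LD2_c26 LD3_c4) Lrfl Lrfl
theorem f571974 : Led Lsl_dt (LP (LK LD1_c8 LD2_c49 LD3_c28)) = (LP (LK LD1_c4 LD2_c26 LD3_c2)) :=
  Lre_d IH (LK LD1_c8 LD2_c49 LD3_c28) (LK LD1_c4 LD2_c26 LD3_c2) Lrfl Lrfl
theorem f576760 : Led Lsl_gf (LP (LK LD1_c23 LD2_c3 LD3_c19)) = (LP (LK LD1_c13 LD2_c50 LD3_c7)) :=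
  Lgr Lrot129 (Lpe (K55.f576646 IH) (Lpr_bt (K55.f576759 IH) (Lpr_gt (K46.f576650 IH) (Lpe (K24.f108254 IH) (Lpr_ct (K24.f108258 IH) (Lpe (K33.f108476 IH) (Lpe (K43.f108482 IH) (Lpr_bt (K33.f108483 IH) (Lpe (K43.f575157 IH) (Lpr_ct (K28.f426682 IH) (Lpn (LP (LK LD1_c13 LD2_c50 LD3_c7)))))))))))))
theorem f205511 : Led Lsl_ct (LP (LK LD1_c21 LD2_c14 LD3_c35)) = (LP (LK LD1_c12 LD2_c8 LD3_c16)) :=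
  Lre_c IH (LK LD1_c21 LD2_c14 LD3_c35) (LK LD1_c12 LD2_c8 LD3_c16) Lrfl Lrfl
theorem f576315 : Led Lsl_gt (LP (LK LD1_c7 LD2_c23 LD3_c11)) = (LP (LK LD1_c12 LD2_c8 LD3_c12)) :=
  Lgr Lrot9 (Lpe (K43.f147292 IH) (Lpr_gt (K43.f552954 IH) (Lpr_ct (K43.f560403 IH) (Lpr_gt (K43.f576313 IH) (Lpr_ct (f205511 IH) (Lpe (K39.f75764 IH) (Lpe (K37.f70727 IH) (Lpe (K43.f38105 IH) (Lpe (K43.f70726 IH) (Lpn (LP (LK LD1_c12 LD2_c8 LD3_c12))))))))))))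
theorem f70711 : Led Lsl_bt (LP (LK LD1_c6 LD2_c14 LD3_c56)) = (LP (LK LD1_c12 LD2_c8 LD3_c11)) :=
  Lre_b IH (LK LD1_c6 LD2_c14 LD3_c56) (LK LD1_c12 LD2_c8 LD3_c11) Lrfl Lrfl
theorem f576780 : Led Lsl_gt (LP (LK LD1_c12 LD2_c8 LD3_c11)) = (LP (LK LD1_c8 LD2_c49 LD3_c49)) :=
  Lgr Lrot164 (Lpe (f70711 IH) (Lpr_ct (K43.f70715 IH) (Lpe (f576315 IH) (Lpe (K28.f147275 IH) (Lpe (K46.f576650 IH) (Lpe (K55.f576759 IH) (Lpr_ct (K55.f576646 IH) (Lpr_gf (f576760 IH) (Lpe (K28.f426682 IH) (Lpr_bt (K43.f575144 IH) (Lpn (LP (LK LD1_c8 LD2_c49 LD3_c49)))))))))))))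
theorem f70719 : Led Lsl_et (LP (LK LD1_c6 LD2_c14 LD3_c56)) = (LP (LK LD1_c12 LD2_c8 LD3_c13)) :=
  Lre_e IH (LK LD1_c6 LD2_c14 LD3_c56) (LK LD1_c12 LD2_c8 LD3_c13) Lrfl Lrfl
theorem f70578 : Led Lsl_et (LP (LK LD1_c4 LD2_c25 LD3_c30)) = (LP (LK LD1_c8 LD2_c48 LD3_c33)) :=
  Lre_e IH (LK LD1_c4 LD2_c25 LD3_c30) (LK LD1_c8 LD2_c48 LD3_c33) Lrfl Lrfl
theorem f70588 : Led Lsl_et (LP (LK LD1_c16 LD2_c28 LD3_c50)) = (LP (LK LD1_c8 LD2_c48 LD3_c32)) :=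
  Lre_e IH (LK LD1_c16 LD2_c28 LD3_c50) (LK LD1_c8 LD2_c48 LD3_c32) Lrfl Lrfl
theorem f70720 : Led Lsl_dt (LP (LK LD1_c12 LD2_c8 LD3_c13)) = (LP (LK LD1_c16 LD2_c28 LD3_c50)) :=
  Lgr Lrot77 (Lpe (f70719 IH) (Lpr_df (K46.f70561 IH) (Lpe (f70578 IH) (Lpe (K43.f38066 IH) (Lpe (f70588 IH) (Lpn (LP (LK LD1_c16 LD2_c28 LD3_c50))))))))
theorem f70734 : Led Lsl_df (LP (LK LD1_c12 LD2_c8 LD3_c13)) = (LP (LK LD1_c16 LD2_c28 LD3_c50)) :=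
  Lgr Lrot38 (Lpr_dt (f70720 IH) (Lpn (LP (LK LD1_c16 LD2_c28 LD3_c50))))
theorem f70741 : Led Lsl_bt (LP (LK LD1_c12 LD2_c8 LD3_c13)) = (LP (LK LD1_c21 LD2_c14 LD3_c25)) :=
  Lre_b IH (LK LD1_c12 LD2_c8 LD3_c13) (LK LD1_c21 LD2_c14 LD3_c25) Lrfl Lrfl
theorem f70742 : Led Lsl_bt (LP (LK LD1_c26 LD2_c25 LD3_c48)) = (LP (LK LD1_c16 LD2_c28 LD3_c50)) :=
  Lre_b IH (LK LD1_c26 LD2_c25 LD3_c48) (LK LD1_c16 LD2_c28 LD3_c50) Lrfl Lrfl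
theorem f70743 : Led Lsl_dt (LP (LK LD1_c21 LD2_c14 LD3_c25)) = (LP (LK LD1_c26 LD2_c25 LD3_c48)) :=
  Lgr Lrot79 (Lpe (f70741 IH) (Lpr_df (f70734 IH) (Lpe (f70742 IH) (Lpn (LP (LK LD1_c26 LD2_c25 LD3_c48))))))
theorem f70745 : Led Lsl_et (LP (LK LD1_c12 LD2_c8 LD3_c11)) = (LP (LK LD1_c21 LD2_c14 LD3_c25)) :=
  Lre_e IH (LK LD1_c12 LD2_c8 LD3_c11) (LK LD1_c21 LD2_c14 LD3_c25) Lrfl Lrfl
theorem f70746 : Led Lsl_et (LP (LK LD1_c26 LD2_c25 LD3_c48)) = (LP (LK LD1_c16 LD2_c28 LD3_c45)) :=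
  Lre_e IH (LK LD1_c26 LD2_c25 LD3_c48) (LK LD1_c16 LD2_c28 LD3_c45) Lrfl Lrfl
theorem f70747 : Led Lsl_dt (LP (LK LD1_c16 LD2_c28 LD3_c45)) = (LP (LK LD1_c8 LD2_c48 LD3_c31)) :=
  Lre_d IH (LK LD1_c16 LD2_c28 LD3_c45) (LK LD1_c8 LD2_c48 LD3_c31) Lrfl Lrfl
theorem f70748 : Led Lsl_et (LP (LK LD1_c8 LD2_c48 LD3_c31)) = (LP (LK LD1_c16 LD2_c28 LD3_c46)) :=
  Lre_e IH (LK LD1_c8 LD2_c48 LD3_c31) (LK LD1_c16 LD2_c28 LD3_c46) Lrfl Lrfl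
theorem f70749 : Led Lsl_df (LP (LK LD1_c12 LD2_c8 LD3_c11)) = (LP (LK LD1_c16 LD2_c28 LD3_c46)) :=
  Lgr Lrot70 (Lpr_et (f70745 IH) (Lpr_dt (f70743 IH) (Lpr_et (f70746 IH) (Lpr_dt (f70747 IH) (Lpr_et (f70748 IH) (Lpn (LP (LK LD1_c16 LD2_c28 LD3_c46))))))))
theorem f70757 : Led Lsl_et (LP (LK LD1_c16 LD2_c28 LD3_c46)) = (LP (LK LD1_c8 LD2_c48 LD3_c31)) :=
  Lre_e IH (LK LD1_c16 LD2_c28 LD3_c46) (LK LD1_c8 LD2_c48 LD3_c31) Lrfl Lrfl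
theorem f80237 : Led Lsl_et (LP (LK LD1_c4 LD2_c26 LD3_c12)) = (LP (LK LD1_c2 LD2_c10 LD3_c22)) :=
  Lre_e IH (LK LD1_c4 LD2_c26 LD3_c12) (LK LD1_c2 LD2_c10 LD3_c22) Lrfl Lrfl
theorem f576788 : Led Lsl_et (LP (LK LD1_c2 LD2_c10 LD3_c19)) = (LP (LK LD1_c4 LD2_c26 LD3_c2)) :=
  Lre_e IH (LK LD1_c2 LD2_c10 LD3_c19) (LK LD1_c4 LD2_c26 LD3_c2) Lrfl Lrfl
theorem f576789 : Led Lsl_gf (LP (LK LD1_c8 LD2_c48 LD3_c31)) = (LP (LK LD1_c4 LD2_c26 LD3_c2)) :=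
  Lgr Lrot141 (Lpe (f70757 IH) (Lpe (f70749 IH) (Lpr_gt (f576780 IH) (Lpe (K50.f80226 IH) (Lpr_et (f80237 IH) (Lpr_gt (K7.f16159 IH) (Lpr_dt (K7.f16148 IH) (Lpr_gt (K5.f99601 IH) (Lpe (K6.f99727 IH) (Lpr_et (f576788 IH) (Lpn (LP (LK LD1_c4 LD2_c26 LD3_c2)))))))))))))
theorem f70759 : Led Lsl_et (LP (LK LD1_c16 LD2_c28 LD3_c45)) = (LP (LK LD1_c26 LD2_c25 LD3_c48)) :=
  Lre_e IH (LK LD1_c16 LD2_c28 LD3_c45) (LK LD1_c26 LD2_c25 LD3_c48) Lrfl Lrfl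
theorem f606677 : Led Lsl_gf (LP (LK LD1_c22 LD2_c47 LD3_c29)) = (LP (LK LD1_c26 LD2_c25 LD3_c48)) :=
  Lgr Lrot138 (Lpr_dt (f478136 IH) (Lpe (f560771 IH) (Lpr_df (f606539 IH) (Lpr_et (f557755 IH) (Lpr_gt (K42.f80234 IH) (Lpe (f571973 IH) (Lpr_dt (f571974 IH) (Lpe (f576789 IH) (Lpe (f70747 IH) (Lpr_et (f70759 IH) (Lpn (LP (LK LD1_c26 LD2_c25 LD3_c48)))))))))))))
theorem f70752 : Led Lsl_et (LP (LK LD1_c21 LD2_c14 LD3_c25)) = (LP (LK LD1_c12 LD2_c8 LD3_c11)) :=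
  Lre_e IH (LK LD1_c21 LD2_c14 LD3_c25) (LK LD1_c12 LD2_c8 LD3_c11) Lrfl Lrfl
theorem f485062 : Led Lsl_gf (LP (LK LD1_c14 LD2_c32 LD3_c19)) = (LP (LK LD1_c13 LD2_c41 LD3_c26)) :=
  Lgr Lrot129 (Lpe (K46.f97948 IH) (Lpe (K33.f481839 IH) (Lpr_gt (K29.f15134 IH) (Lpe (K4.f15120 IH) (Lpe (K4.f15123 IH) (Lpe (K33.f484331 IH) (Lpe (K33.f466698 IH) (Lpr_bt (K33.f484340 IH) (Lpr_gt (K33.f485056 IH) (Lpr_ct (K8.f96486 IH) (Lpn (LP (LK LD1_c13 LD2_c41 LD3_c26)))))))))))))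
theorem f97952 : Led Lsl_dt (LP (LK LD1_c14 LD2_c32 LD3_c19)) = (LP (LK LD1_c24 LD2_c14 LD3_c34)) :=
  Lre_d IH (LK LD1_c14 LD2_c32 LD3_c19) (LK LD1_c24 LD2_c14 LD3_c34) Lrfl Lrfl
theorem f576786 : Led Lsl_gf (LP (LK LD1_c26 LD2_c25 LD3_c48)) = (LP (LK LD1_c24 LD2_c14 LD3_c34)) :=
  Lgr Lrot134 (Lpe (f70743 IH) (Lpr_et (f70752 IH) (Lpr_gt (f576780 IH) (Lpe (K43.f575146 IH) (Lpe (K41.f563618 IH) (Lpe (K43.f565176 IH) (Lpr_df (K43.f559143 IH) (Lpr_et (f96498 IH) (Lpe (f485062 IH) (Lpr_dt (f97952 IH) (Lpn (LP (LK LD1_c24 LD2_c14 LD3_c34)))))))))))))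
theorem f745475 : Led Lsl_ft (LP (LK LD1_c24 LD2_c14 LD3_c34)) = (LP (LK LD1_c29 LD2_c27 LD3_c8)) :=
  Lgr Lrot2 (Lpe (f576786 IH) (Lpe (f606677 IH) (Lpr_af (f745379 IH) (Lpn (LP (LK LD1_c29 LD2_c27 LD3_c8))))))
theorem f745484 : Led Lsl_ff (LP (LK LD1_c24 LD2_c14 LD3_c34)) = (LP (LK LD1_c29 LD2_c27 LD3_c8)) :=
  Lgr Lrot3 (Lpr_ft (f745475 IH) (Lpn (LP (LK LD1_c29 LD2_c27 LD3_c8))))
theorem f97949 : Led Lsl_dt (LP (LK LD1_c24 LD2_c14 LD3_c34)) = (LP (LK LD1_c14 LD2_c32 LD3_c19)) :=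
  Lre_d IH (LK LD1_c24 LD2_c14 LD3_c34) (LK LD1_c14 LD2_c32 LD3_c19) Lrfl Lrfl
theorem f745490 : Led Lsl_ft (LP (LK LD1_c14 LD2_c32 LD3_c19)) = (LP (LK LD1_c20 LD2_c25 LD3_c38)) :=
  Lgr Lrot54 (Lpe (f97949 IH) (Lpr_ff (f745484 IH) (Lpe (f606583 IH) (Lpn (LP (LK LD1_c20 LD2_c25 LD3_c38))))))
theorem f478037 : Led Lsl_ff (LP (LK LD1_c3 LD2_c50 LD3_c50)) = (LP (LK LD1_c7 LD2_c16 LD3_c23)) :=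
  Lgr Lrot23 (Lpe (K29.f97937 IH) (Lpr_ft (K29.f478033 IH) (Lpe (K29.f467104 IH) (Lpn (LP (LK LD1_c7 LD2_c16 LD3_c23))))))
theorem f467111 : Led Lsl_gt (LP (LK LD1_c7 LD2_c16 LD3_c23)) = (LP (LK LD1_c13 LD2_c45 LD3_c47)) :=
  Lre_g IH (LK LD1_c7 LD2_c16 LD3_c23) (LK LD1_c13 LD2_c45 LD3_c47) Lrfl Lrfl
theorem f487796 : Led Lsl_gf (LP (LK LD1_c7 LD2_c42 LD3_c42)) = (LP (LK LD1_c13 LD2_c45 LD3_c47)) :=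
  Lgr Lrot76 (Lpe (K28.f97933 IH) (Lpr_ff (f478037 IH) (Lpr_gt (f467111 IH) (Lpn (LP (LK LD1_c13 LD2_c45 LD3_c47))))))
theorem f487799 : Led Lsl_bt (LP (LK LD1_c7 LD2_c35 LD3_c26)) = (LP (LK LD1_c13 LD2_c45 LD3_c47)) :=
  Lgr Lrot22 (Lpe (K37.f485360 IH) (Lpe (K47.f136673 IH) (Lpr_cf (K37.f476976 IH) (Lpe (K37.f487020 IH) (Lpe (K37.f487011 IH) (Lpr_ct (K37.f467724 IH) (Lpr_gf (K37.f487032 IH) (Lpr_cf (K37.f89809 IH) (Lpr_bt (K3.f97851 IH) (Lpr_gf (f487796 IH) (Lpn (LP (LK LD1_c13 LD2_c45 LD3_c47)))))))))))))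
theorem f487802 : Led Lsl_bf (LP (LK LD1_c7 LD2_c35 LD3_c26)) = (LP (LK LD1_c13 LD2_c45 LD3_c47)) :=
  Lgr Lrot24 (Lpr_bt (f487799 IH) (Lpn (LP (LK LD1_c13 LD2_c45 LD3_c47))))
theorem f606584 : Led Lsl_ct (LP (LK LD1_c13 LD2_c45 LD3_c47)) = (LP (LK LD1_c20 LD2_c25 LD3_c38)) :=
  Lgr Lrot63 (Lpe (f487802 IH) (Lpr_gt (K37.f15113 IH) (Lpe (K37.f15112 IH) (Lpe (K4.f15086 IH) (Lpr_gt (K29.f15105 IH) (Lpe (K33.f482915 IH) (Lpr_bt (K33.f485565 IH) (Lpr_gt (K33.f64768 IH) (Lpr_ct (f486252 IH) (Lpr_gt (f606581 IH) (Lpn (LP (LK LD1_c20 LD2_c25 LD3_c38)))))))))))))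
theorem f606589 : Led Lsl_cf (LP (LK LD1_c13 LD2_c45 LD3_c47)) = (LP (LK LD1_c20 LD2_c25 LD3_c38)) :=
  Lgr Lrot11 (Lpr_ct (f606584 IH) (Lpn (LP (LK LD1_c20 LD2_c25 LD3_c38))))
theorem f745496 : Led Lsl_ff (LP (LK LD1_c7 LD2_c42 LD3_c45)) = (LP (LK LD1_c13 LD2_c45 LD3_c47)) :=
  Lgr Lrot23 (Lpr_ct (K46.f97948 IH) (Lpr_ft (f745490 IH) (Lpe (f606589 IH) (Lpn (LP (LK LD1_c13 LD2_c45 LD3_c47))))))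
theorem f745504 : Led Lsl_ft (LP (LK LD1_c7 LD2_c42 LD3_c45)) = (LP (LK LD1_c13 LD2_c45 LD3_c47)) :=
  Lgr Lrot48 (Lpr_ff (f745496 IH) (Lpn (LP (LK LD1_c13 LD2_c45 LD3_c47))))
theorem f745508 : Led Lsl_ff (LP (LK LD1_c14 LD2_c18 LD3_c34)) = (LP (LK LD1_c7 LD2_c35 LD3_c26)) :=
  Lgr Lrot25 (Lpr_bt (K33.f481837 IH) (Lpr_ft (f745504 IH) (Lpe (f487802 IH) (Lpn (LP (LK LD1_c7 LD2_c35 LD3_c26))))))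
theorem f666436 : Led Lsl_ff (LP (LK LD1_c3 LD2_c50 LD3_c36)) = K48.v7534 :=
  Lgr Lrot3 (Lpr_ft (K48.f666435 IH) (Lpn K48.v7534))
theorem f745518 : (LP (LK LD1_c7 LD2_c41 LD3_c61)) = K48.v7534 :=
  (Llr Lrot40 (Lpe (K29.f481810 IH) (Lpr_ff (f745508 IH) (Lpe (K37.f485364 IH) (Lpr_ff (f666436 IH) (Lpn K48.v7534)))))).symm
theorem f485372 : Led Lsl_dt (LP (LK LD1_c7 LD2_c42 LD3_c17)) = (LP (LK LD1_c3 LD2_c50 LD3_c36)) :=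
  Lre_d IH (LK LD1_c7 LD2_c42 LD3_c17) (LK LD1_c3 LD2_c50 LD3_c36) Lrfl Lrfl
theorem f136798 : Led Lsl_dt (LP (LK LD1_c7 LD2_c41 LD3_c61)) = (LP (LK LD1_c14 LD2_c30 LD3_c48)) :=
  Lre_d IH (LK LD1_c7 LD2_c41 LD3_c61) (LK LD1_c14 LD2_c30 LD3_c48) Lrfl Lrfl
theorem f745525 : Led Lsl_ff (LP (LK LD1_c7 LD2_c42 LD3_c17)) = (LP (LK LD1_c14 LD2_c30 LD3_c48)) :=
  Lgr Lrot19 (Lpr_dt (f485372 IH) (Lpr_ft (K48.f666435 IH) (Lpq (f745518 IH) (Lpr_dt (f136798 IH) (Lpn (LP (LK LD1_c14 LD2_c30 LD3_c48)))))))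
theorem f745532 : Led Lsl_ft (LP (LK LD1_c7 LD2_c42 LD3_c17)) = (LP (LK LD1_c14 LD2_c30 LD3_c48)) :=
  Lgr Lrot48 (Lpr_ff (f745525 IH) (Lpn (LP (LK LD1_c14 LD2_c30 LD3_c48))))
theorem f745534 : Led Lsl_bt (LP (LK LD1_c14 LD2_c31 LD3_c13)) = (LP (LK LD1_c7 LD2_c42 LD3_c17)) :=
  Lre_b IH (LK LD1_c14 LD2_c31 LD3_c13) (LK LD1_c7 LD2_c42 LD3_c17) Lrfl Lrfl
theorem f90039 : Led Lsl_dt (LP (LK LD1_c6 LD2_c56 LD3_c1)) = (LP (LK LD1_c13 LD2_c10 LD3_c4)) :=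
  Lre_d IH (LK LD1_c6 LD2_c56 LD3_c1) (LK LD1_c13 LD2_c10 LD3_c4) Lrfl Lrfl
theorem f428827 : Led Lsl_dt (LP (LK LD1_c14 LD2_c30 LD3_c48)) = (LP (LK LD1_c7 LD2_c41 LD3_c61)) :=
  Lre_d IH (LK LD1_c14 LD2_c30 LD3_c48) (LK LD1_c7 LD2_c41 LD3_c61) Lrfl Lrfl
theorem f488048 : Led Lsl_bt (LP (LK LD1_c13 LD2_c10 LD3_c4)) = (LP (LK LD1_c14 LD2_c30 LD3_c48)) :=
  Lgr Lrot95 (Lpe (f90039 IH) (Lpr_bf (K33.f488041 IH) (Lpe (f428827 IH) (Lpn (LP (LK LD1_c14 LD2_c30 LD3_c48))))))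
theorem f488051 : Led Lsl_bf (LP (LK LD1_c13 LD2_c10 LD3_c4)) = (LP (LK LD1_c14 LD2_c30 LD3_c48)) :=
  Lgr Lrot24 (Lpr_bt (f488048 IH) (Lpn (LP (LK LD1_c14 LD2_c30 LD3_c48))))
theorem f745535 : Led Lsl_ff (LP (LK LD1_c14 LD2_c31 LD3_c13)) = (LP (LK LD1_c13 LD2_c10 LD3_c4)) :=
  Lgr Lrot25 (Lpr_bt (f745534 IH) (Lpr_ft (f745532 IH) (Lpe (f488051 IH) (Lpn (LP (LK LD1_c13 LD2_c10 LD3_c4))))))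
theorem f485388 : Led Lsl_dt (LP (LK LD1_c14 LD2_c31 LD3_c13)) = (LP (LK LD1_c7 LD2_c42 LD3_c16)) :=
  Lre_d IH (LK LD1_c14 LD2_c31 LD3_c13) (LK LD1_c7 LD2_c42 LD3_c16) Lrfl Lrfl
theorem f745568 : Led Lsl_ft (LP (LK LD1_c7 LD2_c42 LD3_c16)) = (LP (LK LD1_c6 LD2_c56 LD3_c1)) :=
  Lgr Lrot54 (Lpe (f485388 IH) (Lpr_ff (f745535 IH) (Lpe (f90039 IH) (Lpn (LP (LK LD1_c6 LD2_c56 LD3_c1))))))
theorem f745572 : Led Lsl_af (LP (LK LD1_c13 LD2_c9 LD3_c52)) = (LP (LK LD1_c6 LD2_c56 LD3_c1)) :=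
  Lgr Lrot31 (Lpe (K33.f97893 IH) (Lpe (K37.f485383 IH) (Lpr_ft (f745568 IH) (Lpn (LP (LK LD1_c6 LD2_c56 LD3_c1))))))
theorem f97894 : Led Lsl_dt (LP (LK LD1_c13 LD2_c9 LD3_c52)) = (LP (LK LD1_c22 LD2_c22 LD3_c24)) :=
  Lre_d IH (LK LD1_c13 LD2_c9 LD3_c52) (LK LD1_c22 LD2_c22 LD3_c24) Lrfl Lrfl
theorem f482388 : Led Lsl_dt (LP (LK LD1_c13 LD2_c10 LD3_c4)) = (LP (LK LD1_c6 LD2_c56 LD3_c1)) :=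
  Lre_d IH (LK LD1_c13 LD2_c10 LD3_c4) (LK LD1_c6 LD2_c56 LD3_c1) Lrfl Lrfl
theorem f745580 : Led Lsl_at (LP (LK LD1_c22 LD2_c22 LD3_c24)) = (LP (LK LD1_c13 LD2_c10 LD3_c4)) :=
  Lgr Lrot51 (Lpe (f97894 IH) (Lpr_af (f745572 IH) (Lpe (f482388 IH) (Lpn (LP (LK LD1_c13 LD2_c10 LD3_c4))))))
theorem f127415 : Led Lsl_dt (LP (LK LD1_c22 LD2_c22 LD3_c24)) = (LP (LK LD1_c13 LD2_c9 LD3_c52)) :=
  Lre_d IH (LK LD1_c22 LD2_c22 LD3_c24) (LK LD1_c13 LD2_c9 LD3_c52) Lrfl Lrfl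
theorem f96807 : Led Lsl_dt (LP (LK LD1_c14 LD2_c19 LD3_c37)) = (LP (LK LD1_c23 LD2_c57 LD3_c37)) :=
  Lre_d IH (LK LD1_c14 LD2_c19 LD3_c37) (LK LD1_c23 LD2_c57 LD3_c37) Lrfl Lrfl
theorem f489248 : Led Lsl_bf (LP (LK LD1_c22 LD2_c22 LD3_c24)) = (LP (LK LD1_c23 LD2_c57 LD3_c37)) :=
  Lgr Lrot93 (Lpr_dt (f127415 IH) (Lpr_bt (K33.f489242 IH) (Lpr_dt (f96807 IH) (Lpn (LP (LK LD1_c23 LD2_c57 LD3_c37))))))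
theorem f15188 : Led Lsl_dt (LP (LK LD1_c7 LD2_c35 LD3_c26)) = (LP (LK LD1_c14 LD2_c18 LD3_c40)) :=
  Lre_d IH (LK LD1_c7 LD2_c35 LD3_c26) (LK LD1_c14 LD2_c18 LD3_c40) Lrfl Lrfl
theorem f117322 : Led Lsl_ct (LP (LK LD1_c14 LD2_c18 LD3_c40)) = (LP (LK LD1_c23 LD2_c56 LD3_c33)) :=
  Lre_c IH (LK LD1_c14 LD2_c18 LD3_c40) (LK LD1_c23 LD2_c56 LD3_c33) Lrfl Lrfl
theorem f485377 : Led Lsl_dt (LP (LK LD1_c23 LD2_c56 LD3_c33)) = (LP (LK LD1_c31 LD2_c17 LD3_c33)) :=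
  Lre_d IH (LK LD1_c23 LD2_c56 LD3_c33) (LK LD1_c31 LD2_c17 LD3_c33) Lrfl Lrfl
theorem f666445 : Led Lsl_cf (LP (LK LD1_c24 LD2_c12 LD3_c50)) = (LP (LK LD1_c31 LD2_c17 LD3_c33)) :=
  Lgr Lrot11 (Lpr_ct (K48.f666443 IH) (Lpn (LP (LK LD1_c31 LD2_c17 LD3_c33))))
theorem f484882 : Led Lsl_dt (LP (LK LD1_c24 LD2_c12 LD3_c50)) = (LP (LK LD1_c14 LD2_c31 LD3_c10)) :=
  Lre_d IH (LK LD1_c24 LD2_c12 LD3_c50) (LK LD1_c14 LD2_c31 LD3_c10) Lrfl Lrfl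
theorem f151628 : Led Lsl_ct (LP (LK LD1_c14 LD2_c31 LD3_c10)) = (LP (LK LD1_c7 LD2_c42 LD3_c15)) :=
  Lre_c IH (LK LD1_c14 LD2_c31 LD3_c10) (LK LD1_c7 LD2_c42 LD3_c15) Lrfl Lrfl
theorem f745539 : Led Lsl_af (LP (LK LD1_c7 LD2_c42 LD3_c15)) = (LP (LK LD1_c14 LD2_c30 LD3_c48)) :=
  Lgr Lrot109 (Lpe (f151628 IH) (Lpe (f484882 IH) (Lpr_cf (f666445 IH) (Lpe (f485377 IH) (Lpe (f117322 IH) (Lpe (f15188 IH) (Lpe (K37.f485364 IH) (Lpe (f485372 IH) (Lpr_ft (f745532 IH) (Lpn (LP (LK LD1_c14 LD2_c30 LD3_c48))))))))))))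
theorem f485406 : Led Lsl_bt (LP (LK LD1_c7 LD2_c42 LD3_c15)) = (LP (LK LD1_c14 LD2_c31 LD3_c8)) :=
  Lre_b IH (LK LD1_c7 LD2_c42 LD3_c15) (LK LD1_c14 LD2_c31 LD3_c8) Lrfl Lrfl
theorem f745584 : Led Lsl_af (LP (LK LD1_c23 LD2_c57 LD3_c37)) = (LP (LK LD1_c14 LD2_c31 LD3_c8)) :=
  Lgr Lrot36 (Lpe (f489248 IH) (Lpr_at (f745580 IH) (Lpr_bt (f488048 IH) (Lpe (f745539 IH) (Lpr_bt (f485406 IH) (Lpn (LP (LK LD1_c14 LD2_c31 LD3_c8))))))))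
theorem f745590 : Led Lsl_at (LP (LK LD1_c23 LD2_c57 LD3_c37)) = (LP (LK LD1_c14 LD2_c31 LD3_c8)) :=
  Lgr Lrot100 (Lpr_af (f745584 IH) (Lpn (LP (LK LD1_c14 LD2_c31 LD3_c8))))
theorem f745594 : Led Lsl_ff (LP (LK LD1_c23 LD2_c57 LD3_c37)) = (LP (LK LD1_c22 LD2_c22 LD3_c40)) :=
  Lgr Lrot52 (Lpr_at (f745590 IH) (Lpe (K47.f486977 IH) (Lpr_gf (K47.f529775 IH) (Lpn (LP (LK LD1_c22 LD2_c22 LD3_c40))))))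
theorem f489139 : Led Lsl_dt (LP (LK LD1_c23 LD2_c57 LD3_c37)) = (LP (LK LD1_c14 LD2_c19 LD3_c37)) :=
  Lre_d IH (LK LD1_c23 LD2_c57 LD3_c37) (LK LD1_c14 LD2_c19 LD3_c37) Lrfl Lrfl
theorem f745598 : Led Lsl_ft (LP (LK LD1_c14 LD2_c19 LD3_c37)) = (LP (LK LD1_c13 LD2_c10 LD3_c6)) :=
  Lgr Lrot54 (Lpe (f489139 IH) (Lpr_ff (f745594 IH) (Lpe (K47.f482352 IH) (Lpn (LP (LK LD1_c13 LD2_c10 LD3_c6))))))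
theorem f745699 : Led Lsl_af (LP (LK LD1_c14 LD2_c19 LD3_c38)) = (LP (LK LD1_c13 LD2_c10 LD3_c6)) :=
  Lgr Lrot31 (Lpr_gf (K33.f488995 IH) (Lpe (K33.f489137 IH) (Lpr_ft (f745598 IH) (Lpn (LP (LK LD1_c13 LD2_c10 LD3_c6))))))
theorem f482340 : Led Lsl_bt (LP (LK LD1_c6 LD2_c56 LD3_c2)) = (LP (LK LD1_c13 LD2_c10 LD3_c6)) :=
  Lre_b IH (LK LD1_c6 LD2_c56 LD3_c2) (LK LD1_c13 LD2_c10 LD3_c6) Lrfl Lrfl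
theorem f745600 : Led Lsl_ft (LP (LK LD1_c23 LD2_c57 LD3_c37)) = (LP (LK LD1_c22 LD2_c22 LD3_c40)) :=
  Lgr Lrot48 (Lpr_ff (f745594 IH) (Lpn (LP (LK LD1_c22 LD2_c22 LD3_c40))))
theorem f745604 : Led Lsl_ff (LP (LK LD1_c14 LD2_c19 LD3_c37)) = (LP (LK LD1_c13 LD2_c10 LD3_c6)) :=
  Lgr Lrot19 (Lpr_dt (f96807 IH) (Lpr_ft (f745600 IH) (Lpr_dt (K47.f482345 IH) (Lpn (LP (LK LD1_c13 LD2_c10 LD3_c6))))))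
theorem f489244 : Led Lsl_bf (LP (LK LD1_c13 LD2_c9 LD3_c52)) = (LP (LK LD1_c14 LD2_c19 LD3_c37)) :=
  Lgr Lrot24 (Lpr_bt (K33.f489242 IH) (Lpn (LP (LK LD1_c14 LD2_c19 LD3_c37))))
theorem f745606 : Led Lsl_ft (LP (LK LD1_c13 LD2_c9 LD3_c52)) = (LP (LK LD1_c6 LD2_c56 LD3_c2)) :=
  Lgr Lrot75 (Lpr_bf (f489244 IH) (Lpr_ff (f745604 IH) (Lpe (f482340 IH) (Lpn (LP (LK LD1_c6 LD2_c56 LD3_c2))))))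
theorem f745612 : Led Lsl_ff (LP (LK LD1_c13 LD2_c9 LD3_c52)) = (LP (LK LD1_c6 LD2_c56 LD3_c2)) :=
  Lgr Lrot3 (Lpr_ft (f745606 IH) (Lpn (LP (LK LD1_c6 LD2_c56 LD3_c2))))
theorem f745574 : Led Lsl_at (LP (LK LD1_c13 LD2_c9 LD3_c52)) = (LP (LK LD1_c6 LD2_c56 LD3_c1)) :=
  Lgr Lrot100 (Lpr_af (f745572 IH) (Lpn (LP (LK LD1_c6 LD2_c56 LD3_c1))))
theorem f745523 : Led Lsl_ff (LP (LK LD1_c7 LD2_c42 LD3_c16)) = (LP (LK LD1_c6 LD2_c56 LD3_c1)) :=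
  Lgr Lrot25 (Lpr_bt (K37.f485374 IH) (Lpr_ft (K48.f666435 IH) (Lpq (f745518 IH) (Lpe (K33.f488041 IH) (Lpn (LP (LK LD1_c6 LD2_c56 LD3_c1)))))))
theorem f745614 : Led Lsl_at (LP (LK LD1_c7 LD2_c42 LD3_c16)) = (LP (LK LD1_c6 LD2_c56 LD3_c2)) :=
  Lgr Lrot66 (Lpr_ff (f745523 IH) (Lpe (f745574 IH) (Lpr_ff (f745612 IH) (Lpn (LP (LK LD1_c6 LD2_c56 LD3_c2))))))
theorem f745711 : (LP (LK LD1_c7 LD2_c42 LD3_c0)) = K48.v7536 :=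
  (Llr Lrot62 (Lpe (K34.f488990 IH) (Lpr_af (f745699 IH) (Lpe (f482340 IH) (Lpe (f745614 IH) (Lpe (K37.f485362 IH) (Lpr_af (K48.f666441 IH) (Lpn K48.v7536)))))))).symm
theorem f476980 : Led Lsl_dt (LP (LK LD1_c7 LD2_c42 LD3_c15)) = (LP (LK LD1_c3 LD2_c50 LD3_c35)) :=
  Lre_d IH (LK LD1_c7 LD2_c42 LD3_c15) (LK LD1_c3 LD2_c50 LD3_c35) Lrfl Lrfl
theorem f136695 : Led Lsl_dt (LP (LK LD1_c7 LD2_c42 LD3_c0)) = (LP (LK LD1_c14 LD2_c30 LD3_c49)) :=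
  Lre_d IH (LK LD1_c7 LD2_c42 LD3_c0) (LK LD1_c14 LD2_c30 LD3_c49) Lrfl Lrfl
theorem f745718 : Led Lsl_ff (LP (LK LD1_c7 LD2_c42 LD3_c15)) = (LP (LK LD1_c14 LD2_c30 LD3_c49)) :=
  Lgr Lrot19 (Lpr_dt (f476980 IH) (Lpr_ft (K48.f666440 IH) (Lpq (f745711 IH) (Lpr_dt (f136695 IH) (Lpn (LP (LK LD1_c14 LD2_c30 LD3_c49)))))))
theorem f745726 : Led Lsl_ft (LP (LK LD1_c7 LD2_c42 LD3_c15)) = (LP (LK LD1_c14 LD2_c30 LD3_c49)) :=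
  Lgr Lrot48 (Lpr_ff (f745718 IH) (Lpn (LP (LK LD1_c14 LD2_c30 LD3_c49))))
theorem f151629 : Led Lsl_bt (LP (LK LD1_c14 LD2_c31 LD3_c8)) = (LP (LK LD1_c7 LD2_c42 LD3_c15)) :=
  Lre_b IH (LK LD1_c14 LD2_c31 LD3_c8) (LK LD1_c7 LD2_c42 LD3_c15) Lrfl Lrfl
theorem f96813 : Led Lsl_dt (LP (LK LD1_c14 LD2_c19 LD3_c38)) = (LP (LK LD1_c23 LD2_c57 LD3_c38)) :=
  Lre_d IH (LK LD1_c14 LD2_c19 LD3_c38) (LK LD1_c23 LD2_c57 LD3_c38) Lrfl Lrfl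
theorem f428829 : Led Lsl_dt (LP (LK LD1_c14 LD2_c30 LD3_c49)) = (LP (LK LD1_c7 LD2_c42 LD3_c0)) :=
  Lre_d IH (LK LD1_c14 LD2_c30 LD3_c49) (LK LD1_c7 LD2_c42 LD3_c0) Lrfl Lrfl
theorem f488992 : Led Lsl_bt (LP (LK LD1_c23 LD2_c57 LD3_c38)) = (LP (LK LD1_c14 LD2_c30 LD3_c49)) :=
  Lgr Lrot95 (Lpe (f96813 IH) (Lpr_bf (K33.f488943 IH) (Lpe (f428829 IH) (Lpn (LP (LK LD1_c14 LD2_c30 LD3_c49))))))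
theorem f489063 : Led Lsl_bf (LP (LK LD1_c23 LD2_c57 LD3_c38)) = (LP (LK LD1_c14 LD2_c30 LD3_c49)) :=
  Lgr Lrot24 (Lpr_bt (f488992 IH) (Lpn (LP (LK LD1_c14 LD2_c30 LD3_c49))))
theorem f745730 : Led Lsl_ff (LP (LK LD1_c14 LD2_c31 LD3_c8)) = (LP (LK LD1_c23 LD2_c57 LD3_c38)) :=
  Lgr Lrot25 (Lpr_bt (f151629 IH) (Lpr_ft (f745726 IH) (Lpe (f489063 IH) (Lpn (LP (LK LD1_c23 LD2_c57 LD3_c38))))))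
theorem f745760 : Led Lsl_ft (LP (LK LD1_c7 LD2_c42 LD3_c14)) = (LP (LK LD1_c14 LD2_c19 LD3_c38)) :=
  Lgr Lrot54 (Lpe (K43.f486976 IH) (Lpr_ff (f745730 IH) (Lpe (f96813 IH) (Lpn (LP (LK LD1_c14 LD2_c19 LD3_c38))))))
theorem f745762 : Led Lsl_ff (LP (LK LD1_c13 LD2_c43 LD3_c28)) = (LP (LK LD1_c7 LD2_c39 LD3_c16)) :=
  Lgr Lrot23 (Lpe (K37.f486970 IH) (Lpr_ft (f745760 IH) (Lpr_ct (K33.f488998 IH) (Lpn (LP (LK LD1_c7 LD2_c39 LD3_c16))))))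
theorem f745770 : Led Lsl_at (LP (LK LD1_c13 LD2_c43 LD3_c28)) = (LP (LK LD1_c7 LD2_c39 LD3_c15)) :=
  Lgr Lrot26 (Lpr_ff (f745762 IH) (Lpr_gt (K33.f467610 IH) (Lpr_gt (K33.f157575 IH) (Lpn (LP (LK LD1_c7 LD2_c39 LD3_c15))))))
theorem f745276 : Led Lsl_ft (LP (LK LD1_c7 LD2_c39 LD3_c15)) = (LP (LK LD1_c13 LD2_c43 LD3_c27)) :=
  Lgr Lrot75 (Lpe (K33.f487821 IH) (Lpr_ff (K55.f745274 IH) (Lpe (K40.f481014 IH) (Lpn (LP (LK LD1_c13 LD2_c43 LD3_c27))))))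
theorem f745778 : Led Lsl_af (LP (LK LD1_c7 LD2_c39 LD3_c16)) = (LP (LK LD1_c13 LD2_c43 LD3_c27)) :=
  Lgr Lrot45 (Lpe (f745762 IH) (Lpr_at (f745770 IH) (Lpr_ft (f745276 IH) (Lpn (LP (LK LD1_c13 LD2_c43 LD3_c27))))))
theorem f487784 : Led Lsl_dt (LP (LK LD1_c7 LD2_c39 LD3_c16)) = (LP (LK LD1_c14 LD2_c25 LD3_c37)) :=
  Lre_d IH (LK LD1_c7 LD2_c39 LD3_c16) (LK LD1_c14 LD2_c25 LD3_c37) Lrfl Lrfl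
theorem f481023 : Led Lsl_dt (LP (LK LD1_c23 LD2_c9 LD3_c58)) = (LP (LK LD1_c13 LD2_c43 LD3_c27)) :=
  Lre_d IH (LK LD1_c23 LD2_c9 LD3_c58) (LK LD1_c13 LD2_c43 LD3_c27) Lrfl Lrfl
theorem f745782 : Led Lsl_at (LP (LK LD1_c14 LD2_c25 LD3_c37)) = (LP (LK LD1_c23 LD2_c9 LD3_c58)) :=
  Lgr Lrot51 (Lpe (f487784 IH) (Lpr_af (f745778 IH) (Lpe (f481023 IH) (Lpn (LP (LK LD1_c23 LD2_c9 LD3_c58))))))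
theorem f487787 : Led Lsl_dt (LP (LK LD1_c14 LD2_c25 LD3_c37)) = (LP (LK LD1_c7 LD2_c39 LD3_c16)) :=
  Lre_d IH (LK LD1_c14 LD2_c25 LD3_c37) (LK LD1_c7 LD2_c39 LD3_c16) Lrfl Lrfl
theorem f745766 : Led Lsl_ft (LP (LK LD1_c23 LD2_c9 LD3_c59)) = (LP (LK LD1_c14 LD2_c25 LD3_c37)) :=
  Lgr Lrot54 (Lpe (K41.f481438 IH) (Lpr_ff (f745762 IH) (Lpe (f487787 IH) (Lpn (LP (LK LD1_c14 LD2_c25 LD3_c37))))))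
theorem f481226 : Led Lsl_dt (LP (LK LD1_c23 LD2_c9 LD3_c59)) = (LP (LK LD1_c13 LD2_c43 LD3_c28)) :=
  Lre_d IH (LK LD1_c23 LD2_c9 LD3_c59) (LK LD1_c13 LD2_c43 LD3_c28) Lrfl Lrfl
theorem f157576 : Led Lsl_dt (LP (LK LD1_c7 LD2_c39 LD3_c15)) = (LP (LK LD1_c14 LD2_c25 LD3_c36)) :=
  Lre_d IH (LK LD1_c7 LD2_c39 LD3_c15) (LK LD1_c14 LD2_c25 LD3_c36) Lrfl Lrfl
theorem f745776 : Led Lsl_af (LP (LK LD1_c23 LD2_c9 LD3_c59)) = (LP (LK LD1_c14 LD2_c25 LD3_c36)) :=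
  Lgr Lrot117 (Lpr_dt (f481226 IH) (Lpr_at (f745770 IH) (Lpr_dt (f157576 IH) (Lpn (LP (LK LD1_c14 LD2_c25 LD3_c36))))))
theorem f745803 : Led Lsl_ff (LP (LK LD1_c14 LD2_c25 LD3_c36)) = (LP (LK LD1_c23 LD2_c9 LD3_c58)) :=
  Lgr Lrot30 (Lpe (f745776 IH) (Lpr_ft (f745766 IH) (Lpr_at (f745782 IH) (Lpn (LP (LK LD1_c23 LD2_c9 LD3_c58))))))
theorem f477965 : Led Lsl_dt (LP (LK LD1_c13 LD2_c43 LD3_c27)) = (LP (LK LD1_c23 LD2_c9 LD3_c58)) :=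
  Lre_d IH (LK LD1_c13 LD2_c43 LD3_c27) (LK LD1_c23 LD2_c9 LD3_c58) Lrfl Lrfl
theorem f478004 : Led Lsl_gt (LP (LK LD1_c22 LD2_c53 LD3_c9)) = (LP (LK LD1_c13 LD2_c31 LD3_c40)) :=
  Lre_g IH (LK LD1_c22 LD2_c53 LD3_c9) (LK LD1_c13 LD2_c31 LD3_c40) Lrfl Lrfl
theorem f478005 : Led Lsl_ct (LP (LK LD1_c22 LD2_c56 LD3_c39)) = (LP (LK LD1_c22 LD2_c53 LD3_c9)) :=
  Lre_c IH (LK LD1_c22 LD2_c56 LD3_c39) (LK LD1_c22 LD2_c53 LD3_c9) Lrfl Lrfl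
theorem f481024 : Led Lsl_gt (LP (LK LD1_c23 LD2_c9 LD3_c58)) = (LP (LK LD1_c22 LD2_c56 LD3_c39)) :=
  Lgr Lrot9 (Lpe (f477965 IH) (Lpr_gt (K29.f481019 IH) (Lpr_ct (K28.f89804 IH) (Lpr_gt (K29.f477989 IH) (Lpr_ct (K29.f466682 IH) (Lpe (K35.f478003 IH) (Lpe (K35.f468840 IH) (Lpe (f478004 IH) (Lpe (f478005 IH) (Lpn (LP (LK LD1_c22 LD2_c56 LD3_c39))))))))))))
theorem f745809 : Led Lsl_gf (LP (LK LD1_c23 LD2_c9 LD3_c59)) = (LP (LK LD1_c22 LD2_c56 LD3_c39)) :=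
  Lgr Lrot76 (Lpr_af (f745776 IH) (Lpr_ff (f745803 IH) (Lpr_gt (f481024 IH) (Lpn (LP (LK LD1_c22 LD2_c56 LD3_c39))))))
theorem f481046 : Led Lsl_dt (LP (LK LD1_c7 LD2_c15 LD3_c8)) = (LP (LK LD1_c13 LD2_c43 LD3_c30)) :=
  Lre_d IH (LK LD1_c7 LD2_c15 LD3_c8) (LK LD1_c13 LD2_c43 LD3_c30) Lrfl Lrfl
theorem f481034 : Led Lsl_ct (LP (LK LD1_c22 LD2_c53 LD3_c9)) = (LP (LK LD1_c22 LD2_c56 LD3_c39)) :=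
  Lre_c IH (LK LD1_c22 LD2_c53 LD3_c9) (LK LD1_c22 LD2_c56 LD3_c39) Lrfl Lrfl
theorem f524626 : Led Lsl_gt (LP (LK LD1_c22 LD2_c53 LD3_c11)) = (LP (LK LD1_c30 LD2_c46 LD3_c42)) :=
  Lre_g IH (LK LD1_c22 LD2_c53 LD3_c11) (LK LD1_c30 LD2_c46 LD3_c42) Lrfl Lrfl
theorem f745813 : Led Lsl_df (LP (LK LD1_c22 LD2_c54 LD3_c7)) = (LP (LK LD1_c30 LD2_c46 LD3_c42)) :=
  Lgr Lrot84 (Lpe (K47.f481211 IH) (Lpe (f481046 IH) (Lpe (K37.f481225 IH) (Lpe (f481226 IH) (Lpr_gf (f745809 IH) (Lpe (f481034 IH) (Lpr_gt (f478004 IH) (Lpr_dt (K35.f524623 IH) (Lpr_gt (f524626 IH) (Lpn (LP (LK LD1_c30 LD2_c46 LD3_c42))))))))))))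
theorem f481083 : Led Lsl_dt (LP (LK LD1_c14 LD2_c26 LD3_c5)) = (LP (LK LD1_c24 LD2_c6 LD3_c6)) :=
  Lre_d IH (LK LD1_c14 LD2_c26 LD3_c5) (LK LD1_c24 LD2_c6 LD3_c6) Lrfl Lrfl
theorem f745821 : Led Lsl_ct (LP (LK LD1_c24 LD2_c6 LD3_c6)) = (LP (LK LD1_c30 LD2_c46 LD3_c42)) :=
  Lgr Lrot53 (Lpe (f481083 IH) (Lpe (K60.f158558 IH) (Lpe (K47.f89799 IH) (Lpe (K28.f89804 IH) (Lpe (K43.f89806 IH) (Lpe (K33.f481070 IH) (Lpr_at (K33.f481069 IH) (Lpr_cf (K47.f481218 IH) (Lpr_df (f745813 IH) (Lpn (LP (LK LD1_c30 LD2_c46 LD3_c42))))))))))))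
theorem f481224 : Led Lsl_at (LP (LK LD1_c14 LD2_c26 LD3_c40)) = (LP (LK LD1_c24 LD2_c6 LD3_c6)) :=
  Lre_a IH (LK LD1_c14 LD2_c26 LD3_c40) (LK LD1_c24 LD2_c6 LD3_c6) Lrfl Lrfl
theorem f745823 : Led Lsl_af (LP (LK LD1_c24 LD2_c6 LD3_c60)) = (LP (LK LD1_c30 LD2_c46 LD3_c42)) :=
  Lgr Lrot68 (Lpr_ct (K33.f481100 IH) (Lpr_at (f481224 IH) (Lpr_ct (f745821 IH) (Lpn (LP (LK LD1_c30 LD2_c46 LD3_c42))))))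
theorem f481105 : Led Lsl_dt (LP (LK LD1_c14 LD2_c25 LD3_c41)) = (LP (LK LD1_c24 LD2_c5 LD3_c36)) :=
  Lre_d IH (LK LD1_c14 LD2_c25 LD3_c41) (LK LD1_c24 LD2_c5 LD3_c36) Lrfl Lrfl
theorem f745819 : Led Lsl_ft (LP (LK LD1_c24 LD2_c5 LD3_c36)) = (LP (LK LD1_c30 LD2_c46 LD3_c42)) :=
  Lgr Lrot54 (Lpe (f481105 IH) (Lpr_ff (K47.f481220 IH) (Lpr_df (f745813 IH) (Lpn (LP (LK LD1_c30 LD2_c46 LD3_c42))))))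
theorem f526853 : Led Lsl_gf (LP (LK LD1_c30 LD2_c46 LD3_c26)) = (LP (LK LD1_c24 LD2_c5 LD3_c36)) :=
  Lgr Lrot143 (Lpr_dt (K35.f524605 IH) (Lpe (K35.f524619 IH) (Lpe (K35.f524634 IH) (Lpr_gf (K43.f524668 IH) (Lpe (K43.f136381 IH) (Lpr_gf (K47.f488845 IH) (Lpe (K47.f10825 IH) (Lpe (K47.f481173 IH) (Lpr_dt (f481105 IH) (Lpn (LP (LK LD1_c24 LD2_c5 LD3_c36))))))))))))
theorem f745831 : Led Lsl_gf (LP (LK LD1_c24 LD2_c6 LD3_c60)) = (LP (LK LD1_c30 LD2_c46 LD3_c26)) :=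
  Lgr Lrot76 (Lpr_af (f745823 IH) (Lpe (f745819 IH) (Lpe (f526853 IH) (Lpn (LP (LK LD1_c30 LD2_c46 LD3_c26))))))
theorem f529852 : Led Lsl_ct (LP (LK LD1_c14 LD2_c26 LD3_c35)) = (LP (LK LD1_c7 LD2_c39 LD3_c50)) :=
  Lre_c IH (LK LD1_c14 LD2_c26 LD3_c35) (LK LD1_c7 LD2_c39 LD3_c50) Lrfl Lrfl
theorem f524698 : Led Lsl_gf (LP (LK LD1_c24 LD2_c6 LD3_c38)) = (LP (LK LD1_c31 LD2_c22 LD3_c55)) :=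
  Lgr Lrot76 (Lpe (K35.f524610 IH) (Lpr_ff (K35.f524680 IH) (Lpr_gt (K47.f524697 IH) (Lpn (LP (LK LD1_c31 LD2_c22 LD3_c55))))))
theorem f745833 : Led Lsl_gf (LP (LK LD1_c14 LD2_c26 LD3_c35)) = (LP (LK LD1_c24 LD2_c6 LD3_c44)) :=
  Lgr Lrot147 (Lpr_ct (f529852 IH) (Lpr_gt (K48.f110299 IH) (Lpr_ct (K33.f481062 IH) (Lpe (K33.f481099 IH) (Lpe (K33.f481100 IH) (Lpr_gf (f745831 IH) (Lpr_cf (K35.f524606 IH) (Lpr_gf (f524698 IH) (Lpe (K47.f529765 IH) (Lpn (LP (LK LD1_c24 LD2_c6 LD3_c44))))))))))))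
theorem f529858 : Led Lsl_ct (LP (LK LD1_c7 LD2_c39 LD3_c50)) = (LP (LK LD1_c14 LD2_c26 LD3_c35)) :=
  Lre_c IH (LK LD1_c7 LD2_c39 LD3_c50) (LK LD1_c14 LD2_c26 LD3_c35) Lrfl Lrfl
theorem f102585 : Led Lsl_bt (LP (LK LD1_c6 LD2_c54 LD3_c9)) = (LP (LK LD1_c13 LD2_c6 LD3_c58)) :=
  Lre_b IH (LK LD1_c6 LD2_c54 LD3_c9) (LK LD1_c13 LD2_c6 LD3_c58) Lrfl Lrfl
theorem f102547 : Led Lsl_dt (LP (LK LD1_c6 LD2_c55 LD3_c1)) = (LP (LK LD1_c6 LD2_c54 LD3_c9)) :=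
  Lgr Lrot42 (Lpr_df (K35.f102540 IH) (Lpn (LP (LK LD1_c6 LD2_c54 LD3_c9))))
theorem f628372 : Led Lsl_bf (LP (LK LD1_c6 LD2_c55 LD3_c1)) = (LP (LK LD1_c7 LD2_c39 LD3_c50)) :=
  Lgr Lrot93 (Lpr_dt (f102547 IH) (Lpr_bt (f102585 IH) (Lpr_dt (K48.f628365 IH) (Lpn (LP (LK LD1_c7 LD2_c39 LD3_c50))))))
theorem f780360 : Led Lsl_gf (LP (LK LD1_c14 LD2_c31 LD3_c18)) = (LP (LK LD1_c13 LD2_c8 LD3_c14)) :=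
  Lgr Lrot126 (Lpe (K60.f484884 IH) (Lpr_bt (K60.f780331 IH) (Lpr_gt (K60.f780347 IH) (Lpr_ct (K47.f524687 IH) (Lpe (f745833 IH) (Lpe (f529858 IH) (Lpe (f628372 IH) (Lpr_gt (K35.f102537 IH) (Lpe (K47.f112178 IH) (Lpr_ct (K47.f15165 IH) (Lpn (LP (LK LD1_c13 LD2_c8 LD3_c14)))))))))))))
theorem f489102 : Led Lsl_bt (LP (LK LD1_c14 LD2_c19 LD3_c49)) = (LP (LK LD1_c23 LD2_c57 LD3_c42)) :=
  Lre_b IH (LK LD1_c14 LD2_c19 LD3_c49) (LK LD1_c23 LD2_c57 LD3_c42) Lrfl Lrfl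
theorem f425595 : Led Lsl_ct (LP (LK LD1_c14 LD2_c19 LD3_c49)) = (LP (LK LD1_c23 LD2_c57 LD3_c52)) :=
  Lre_c IH (LK LD1_c14 LD2_c19 LD3_c49) (LK LD1_c23 LD2_c57 LD3_c52) Lrfl Lrfl
theorem f780363 : Led Lsl_gf (LP (LK LD1_c30 LD2_c26 LD3_c21)) = (LP (LK LD1_c23 LD2_c57 LD3_c52)) :=
  Lgr Lrot126 (Lpe (K60.f780362 IH) (Lpr_bt (K60.f15265 IH) (Lpr_gt (K60.f15181 IH) (Lpr_ct (K47.f15165 IH) (Lpe (f780360 IH) (Lpe (K60.f484884 IH) (Lpr_bt (K60.f780331 IH) (Lpr_gt (K60.f780347 IH) (Lpe (f489102 IH) (Lpr_ct (f425595 IH) (Lpn (LP (LK LD1_c23 LD2_c57 LD3_c52)))))))))))))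
theorem f786482 : Led Lsl_gt (LP (LK LD1_c13 LD2_c10 LD3_c21)) = (LP (LK LD1_c14 LD2_c19 LD3_c49)) :=
  Lgr Lrot82 (Lpe (K60.f662171 IH) (Lpr_ct (K60.f786478 IH) (Lpe (K60.f786476 IH) (Lpe (K60.f102557 IH) (Lpr_bt (K4.f112162 IH) (Lpe (K60.f15181 IH) (Lpe (K60.f15265 IH) (Lpr_ct (K60.f780362 IH) (Lpr_gf (f780363 IH) (Lpe (f425595 IH) (Lpn (LP (LK LD1_c14 LD2_c19 LD3_c49)))))))))))))
theorem f786483 : Led Lsl_gt (LP (LK LD1_c13 LD2_c10 LD3_c21)) = (LP (LK LD1_c14 LD2_c19 LD3_c49)) :=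
  Leop (Lpe (f786482 IH) (Lpn (LP (LK LD1_c13 LD2_c10 LD3_c21))))
theorem seed_1518 : LEOK LG_g (LK LD1_c13 LD2_c10 LD3_c21) :=
  Leoe_g (LK LD1_c13 LD2_c10 LD3_c21) (f786483 IH)
def v20349 : LQ := Led Lsl_gf (LP (LK LD1_c6 LD2_c55 LD3_c2))
theorem f786491 : Led Lsl_gf (LP (LK LD1_c6 LD2_c55 LD3_c2)) = v20349 :=
  Lrfl
theorem f125905 : Led Lsl_ct (LP (LK LD1_c6 LD2_c55 LD3_c2)) = (LP (LK LD1_c3 LD2_c26 LD3_c35)) :=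
  Lre_c IH (LK LD1_c6 LD2_c55 LD3_c2) (LK LD1_c3 LD2_c26 LD3_c35) Lrfl Lrfl
theorem f786494 : Led Lsl_ct K48.v6708 = v20349 :=
  Lgr Lrot152 (Lpe (K48.f657931 IH) (Lpe (K48.f456741 IH) (Lpr_gt (K29.f5934 IH) (Lpr_ct (K33.f450789 IH) (Lpq (K33.f484139 IH) (Lpe (K33.f455098 IH) (Lpr_ct (K5.f15092 IH) (Lpe (K6.f102555 IH) (Lpe (f125905 IH) (Lpr_gf (f786491 IH) (Lpn v20349)))))))))))
theorem f110112 : Led Lsl_bt (LP (LK LD1_c7 LD2_c35 LD3_c44)) = (LP (LK LD1_c3 LD2_c47 LD3_c28)) :=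
  Lre_b IH (LK LD1_c7 LD2_c35 LD3_c44) (LK LD1_c3 LD2_c47 LD3_c28) Lrfl Lrfl
theorem f132239 : Led Lsl_ct (LP (LK LD1_c7 LD2_c35 LD3_c44)) = (LP (LK LD1_c14 LD2_c19 LD3_c10)) :=
  Lre_c IH (LK LD1_c7 LD2_c35 LD3_c44) (LK LD1_c14 LD2_c19 LD3_c10) Lrfl Lrfl
theorem f786492 : Led Lsl_gt (LP (LK LD1_c13 LD2_c36 LD3_c41)) = v20349 :=
  Lgr Lrot5 (Lpe (K60.f484449 IH) (Lpr_at (K60.f125962 IH) (Lpr_gf (f786491 IH) (Lpn v20349))))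
theorem f484453 : Led Lsl_ft (LP (LK LD1_c7 LD2_c53 LD3_c26)) = (LP (LK LD1_c13 LD2_c36 LD3_c41)) :=
  Lgr Lrot48 (Lpr_ff (K60.f484449 IH) (Lpn (LP (LK LD1_c13 LD2_c36 LD3_c41))))
theorem f125899 : Led Lsl_af (LP (LK LD1_c7 LD2_c53 LD3_c26)) = (LP (LK LD1_c6 LD2_c55 LD3_c2)) :=
  Lgr Lrot68 (Lpr_ct (K60.f125898 IH) (Lpr_at (K6.f125890 IH) (Lpr_ct (K60.f102557 IH) (Lpn (LP (LK LD1_c6 LD2_c55 LD3_c2))))))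
theorem f125988 : Led Lsl_ft (LP (LK LD1_c13 LD2_c8 LD3_c39)) = (LP (LK LD1_c6 LD2_c55 LD3_c2)) :=
  Lre_f IH (LK LD1_c13 LD2_c8 LD3_c39) (LK LD1_c6 LD2_c55 LD3_c2) Lrfl Lrfl
theorem f484455 : Led Lsl_af (LP (LK LD1_c13 LD2_c8 LD3_c39)) = (LP (LK LD1_c13 LD2_c36 LD3_c41)) :=
  Lgr Lrot45 (Lpr_ft (f125988 IH) (Lpe (f125899 IH) (Lpr_ft (f484453 IH) (Lpn (LP (LK LD1_c13 LD2_c36 LD3_c41))))))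
theorem f484457 : Led Lsl_at (LP (LK LD1_c6 LD2_c55 LD3_c3)) = (LP (LK LD1_c7 LD2_c11 LD3_c3)) :=
  Lgr Lrot107 (Lpe (K48.f125996 IH) (Lpr_af (f484455 IH) (Lpe (K60.f484448 IH) (Lpn (LP (LK LD1_c7 LD2_c11 LD3_c3))))))
theorem f125904 : Led Lsl_ft (LP (LK LD1_c3 LD2_c26 LD3_c35)) = (LP (LK LD1_c6 LD2_c55 LD3_c3)) :=
  Lre_f IH (LK LD1_c3 LD2_c26 LD3_c35) (LK LD1_c6 LD2_c55 LD3_c3) Lrfl Lrfl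
theorem f484462 : Led Lsl_gt (LP (LK LD1_c6 LD2_c55 LD3_c0)) = (LP (LK LD1_c7 LD2_c11 LD3_c3)) :=
  Lgr Lrot46 (Lpe (K47.f473271 IH) (Lpr_ft (f125904 IH) (Lpr_at (f484457 IH) (Lpn (LP (LK LD1_c7 LD2_c11 LD3_c3))))))
theorem f484466 : Led Lsl_bt (LP (LK LD1_c13 LD2_c8 LD3_c33)) = (LP (LK LD1_c6 LD2_c55 LD3_c0)) :=
  Lre_b IH (LK LD1_c13 LD2_c8 LD3_c33) (LK LD1_c6 LD2_c55 LD3_c0) Lrfl Lrfl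
theorem f484468 : Led Lsl_ct (LP (LK LD1_c13 LD2_c8 LD3_c33)) = (LP (LK LD1_c22 LD2_c20 LD3_c48)) :=
  Lre_c IH (LK LD1_c13 LD2_c8 LD3_c33) (LK LD1_c22 LD2_c20 LD3_c48) Lrfl Lrfl
theorem f786497 : Led Lsl_gt (LP (LK LD1_c14 LD2_c19 LD3_c10)) = (LP (LK LD1_c22 LD2_c20 LD3_c48)) :=
  Lgr Lrot65 (Lpe (f132239 IH) (Lpr_bt (f110112 IH) (Lpr_gf (K48.f481891 IH) (Lpr_bf (K48.f657934 IH) (Lpr_ct (f786494 IH) (Lpe (f786492 IH) (Lpe (K60.f484448 IH) (Lpe (f484462 IH) (Lpe (f484466 IH) (Lpr_ct (f484468 IH) (Lpn (LP (LK LD1_c22 LD2_c20 LD3_c48)))))))))))))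
theorem f786498 : Led Lsl_gt (LP (LK LD1_c14 LD2_c19 LD3_c10)) = (LP (LK LD1_c22 LD2_c20 LD3_c48)) :=
  Leop (Lpe (f786497 IH) (Lpn (LP (LK LD1_c14 LD2_c19 LD3_c10))))
theorem seed_1519 : LEOK LG_g (LK LD1_c14 LD2_c19 LD3_c10) :=
  Leoe_g (LK LD1_c14 LD2_c19 LD3_c10) (f786498 IH)
def v20359 : LQ := Led Lsl_et (LP (LK LD1_c6 LD2_c55 LD3_c19))
theorem f786567 : Led Lsl_et (LP (LK LD1_c6 LD2_c55 LD3_c19)) = v20359 :=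
  Lrfl
theorem f478285 : Led Lsl_dt (LP (LK LD1_c6 LD2_c55 LD3_c19)) = (LP (LK LD1_c3 LD2_c38 LD3_c52)) :=
  Lgr Lrot42 (Lpr_df (K29.f478281 IH) (Lpn (LP (LK LD1_c3 LD2_c38 LD3_c52))))
def v3856 : LQ := Led Lsl_bt K30.v1074
def v11699 : LQ := Led Lsl_ct v3856
theorem f685555 : Led Lsl_ct v3856 = v11699 :=
  Lrfl
theorem f627579 : Led Lsl_bt K30.v1074 = v3856 :=
  Lrfl
theorem f627580 : Led Lsl_bf K30.v1074 = v3856 :=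
  Lgr Lrot24 (Lpr_bt (f627579 IH) (Lpn v3856))
def v1075 : LQ := Led Lsl_ct K24.v223
theorem f491292 : Led Lsl_ct K24.v223 = v1075 :=
  Lrfl
def v3709 : LQ := Led Lsl_ct K32.v1011
theorem f626927 : Led Lsl_ct K32.v1011 = v3709 :=
  Lrfl
def v728 : LQ := Led Lsl_dt (LP (LK LD1_c0 LD2_c49 LD3_c38))
def v3337 : LQ := Led Lsl_ft v728
theorem f625201 : Led Lsl_ft v728 = v3337 :=
  Lrfl
theorem f456953 : Led Lsl_dt (LP (LK LD1_c0 LD2_c49 LD3_c38)) = v728 :=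
  Lrfl
theorem f625203 : Led Lsl_df K29.v729 = v3337 :=
  Lgr Lrot78 (Lpe (K29.f456958 IH) (Lpr_dt (f456953 IH) (Lpr_ft (f625201 IH) (Lpn v3337))))
theorem f625204 : Led Lsl_ff v728 = v3337 :=
  Lgr Lrot3 (Lpr_ft (f625201 IH) (Lpn v3337))
theorem f456954 : Led Lsl_df (LP (LK LD1_c0 LD2_c49 LD3_c38)) = v728 :=
  Lgr Lrot38 (Lpr_dt (f456953 IH) (Lpn v728))
theorem f456955 : Led Lsl_at v728 = v728 :=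
  Lgr Lrot51 (Lpe (f456953 IH) (Lpe (K29.f10120 IH) (Lpr_df (f456954 IH) (Lpn v728))))
def v3335 : LQ := Led Lsl_gf v728
theorem f625186 : Led Lsl_gf v728 = v3335 :=
  Lrfl
theorem f625208 : Led Lsl_gf v3335 = v3337 :=
  Lgr Lrot47 (Lpe (f625186 IH) (Lpe (f456955 IH) (Lpr_ff (f625204 IH) (Lpn v3337))))
theorem f10905 : Led Lsl_et (LP (LK LD1_c0 LD2_c49 LD3_c38)) = (LP (LK LD1_c0 LD2_c22 LD3_c17)) :=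
  Lre_e IH (LK LD1_c0 LD2_c49 LD3_c38) (LK LD1_c0 LD2_c22 LD3_c17) Lrfl Lrfl
def v165 : LQ := Led Lsl_ct (LP (LK LD1_c0 LD2_c21 LD3_c58))
theorem f450845 : Led Lsl_ct (LP (LK LD1_c0 LD2_c21 LD3_c58)) = v165 :=
  Lrfl
theorem f9991 : Led Lsl_dt (LP (LK LD1_c0 LD2_c9 LD3_c55)) = (LP (LK LD1_c0 LD2_c21 LD3_c58)) :=
  Lre_d IH (LK LD1_c0 LD2_c9 LD3_c55) (LK LD1_c0 LD2_c21 LD3_c58) Lrfl Lrfl
theorem f435138 : Led Lsl_dt (LP (LK LD1_c0 LD2_c24 LD3_c30)) = (LP (LK LD1_c0 LD2_c20 LD3_c36)) :=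
  Lgr Lrot6 (Lpr_gt (K3.f7423 IH) (Lpr_ct (K3.f7418 IH) (Lpr_gt (K3.f11896 IH) (Lpr_ct (K29.f9949 IH) (Lpe (K0.f9984 IH) (Lpe (K0.f9983 IH) (Lpe (K0.f5843 IH) (Lpe (K7.f9959 IH) (Lpr_gf (K11.f154362 IH) (Lpn (LP (LK LD1_c0 LD2_c20 LD3_c36))))))))))))
theorem f450846 : Led Lsl_cf (LP (LK LD1_c0 LD2_c21 LD3_c58)) = v165 :=
  Lgr Lrot11 (Lpr_ct (f450845 IH) (Lpn v165))
theorem f450847 : Led Lsl_df v165 = v165 :=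
  Lgr Lrot106 (Lpe (f450846 IH) (Lpr_dt (K11.f9997 IH) (Lpr_ct (K7.f9959 IH) (Lpe (K0.f9992 IH) (Lpr_ct (K7.f4932 IH) (Lpe (K34.f433170 IH) (Lpr_ff (K11.f433168 IH) (Lpr_dt (f9991 IH) (Lpr_ct (f450845 IH) (Lpn v165))))))))))
theorem f450849 : Led Lsl_gt (LP (LK LD1_c0 LD2_c22 LD3_c17)) = v165 :=
  Lgr Lrot189 (Lpe (K0.f10068 IH) (Lpr_gf (K29.f450744 IH) (Lpe (K29.f450741 IH) (Lpe (K3.f11126 IH) (Lpr_dt (f435138 IH) (Lpe (K11.f154362 IH) (Lpr_dt (f9991 IH) (Lpr_ct (f450845 IH) (Lpr_df (f450847 IH) (Lpn v165))))))))))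
theorem f85656 : Led Lsl_bt (LP (LK LD1_c0 LD2_c21 LD3_c22)) = (LP (LK LD1_c0 LD2_c47 LD3_c33)) :=
  Lre_b IH (LK LD1_c0 LD2_c21 LD3_c22) (LK LD1_c0 LD2_c47 LD3_c33) Lrfl Lrfl
theorem f450745 : Led Lsl_gt (LP (LK LD1_c0 LD2_c21 LD3_c53)) = K29.v148 :=
  Lgr Lrot65 (Lpe (K3.f9985 IH) (Lpr_bt (K2.f10383 IH) (Lpe (K3.f94430 IH) (Lpe (K3.f106434 IH) (Lpr_ct (K3.f106614 IH) (Lpe (K3.f106665 IH) (Lpe (K3.f85578 IH) (Lpr_gf (K3.f87597 IH) (Lpe (f85656 IH) (Lpr_ct (K29.f450740 IH) (Lpn K29.v148)))))))))))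
def v163 : LQ := Led Lsl_dt (LP (LK LD1_c0 LD2_c21 LD3_c53))
theorem f450832 : Led Lsl_dt (LP (LK LD1_c0 LD2_c21 LD3_c53)) = v163 :=
  Lrfl
theorem f450834 : Led Lsl_df (LP (LK LD1_c0 LD2_c21 LD3_c53)) = v163 :=
  Lgr Lrot38 (Lpr_dt (f450832 IH) (Lpn v163))
theorem f450848 : Led Lsl_gf v163 = v165 :=
  Lgr Lrot148 (Lpe (f450834 IH) (Lpr_gt (f450745 IH) (Lpe (K29.f450743 IH) (Lpr_ct (K3.f7421 IH) (Lpe (K0.f7417 IH) (Lpe (K5.f7424 IH) (Lpr_df (K11.f448782 IH) (Lpe (K11.f448785 IH) (Lpr_ct (f450845 IH) (Lpn v165))))))))))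
def v158 : LQ := Led Lsl_ct (LP (LK LD1_c0 LD2_c21 LD3_c48))
theorem f450796 : Led Lsl_ct (LP (LK LD1_c0 LD2_c21 LD3_c48)) = v158 :=
  Lrfl
theorem f450798 : Led Lsl_ef (LP (LK LD1_c0 LD2_c21 LD3_c53)) = v158 :=
  Lgr Lrot28 (Lpr_ct (K29.f9949 IH) (Lpr_et (K29.f10389 IH) (Lpr_ct (f450796 IH) (Lpn v158))))
theorem f450804 : Led Lsl_et (LP (LK LD1_c0 LD2_c21 LD3_c53)) = v158 :=
  Lgr Lrot87 (Lpr_ef (f450798 IH) (Lpn v158))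
def v989 : LQ := Led Lsl_gt v158
theorem f490891 : Led Lsl_gt v158 = v989 :=
  Lrfl
def v992 : LQ := Led Lsl_ft v158
theorem f490899 : Led Lsl_ft v158 = v992 :=
  Lrfl
theorem f490901 : Led Lsl_ff v158 = v992 :=
  Lgr Lrot3 (Lpr_ft (f490899 IH) (Lpn v992))
theorem f450805 : Led Lsl_af v158 = v158 :=
  Lgr Lrot50 (Lpe (f450798 IH) (Lpr_at (K3.f10079 IH) (Lpr_et (f450804 IH) (Lpn v158))))
theorem f490902 : Led Lsl_at v992 = v992 :=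
  Lgr Lrot66 (Lpe (f490899 IH) (Lpr_af (f450805 IH) (Lpr_ff (f490901 IH) (Lpn v992))))
theorem f490905 : Led Lsl_gt v989 = v992 :=
  Lgr Lrot46 (Lpe (f490891 IH) (Lpr_ft (f490899 IH) (Lpr_at (f490902 IH) (Lpn v992))))
theorem f490900 : Led Lsl_cf K24.v159 = v992 :=
  Lgr Lrot108 (Lpe (K24.f450812 IH) (Lpr_ct (f450796 IH) (Lpr_ft (f490899 IH) (Lpn v992))))
theorem f490907 : Led Lsl_cf v989 = K24.v307 :=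
  Lgr Lrot169 (Lpr_gt (f490905 IH) (Lpe (f490900 IH) (Lpe (K24.f450814 IH) (Lpe (K0.f5919 IH) (Lpr_gf (K24.f10146 IH) (Lpr_cf (K29.f450897 IH) (Lpqs (K24.f455968 IH) (Lpe (K24.f123401 IH) (Lpr_df (K24.f448760 IH) (Lpr_gt (K24.f452095 IH) (Lpn K24.v307)))))))))))
theorem f490908 : Led Lsl_ct v989 = K24.v307 :=
  Lgr Lrot59 (Lpr_cf (f490907 IH) (Lpn K24.v307))
theorem f491294 : Led Lsl_ef v989 = v1075 :=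
  Lgr Lrot28 (Lpr_ct (f490908 IH) (Lpe (K24.f452098 IH) (Lpr_ct (f491292 IH) (Lpn v1075))))
theorem f625188 : Led Lsl_dt v1075 = v3335 :=
  Lgr Lrot136 (Lpe (f491294 IH) (Lpe (f490891 IH) (Lpe (f450804 IH) (Lpr_dt (f450832 IH) (Lpr_gf (f450848 IH) (Lpr_df (f450847 IH) (Lpe (f450849 IH) (Lpe (f10905 IH) (Lpr_dt (f456953 IH) (Lpr_gf (f625186 IH) (Lpn v3335)))))))))))
theorem f625190 : Led Lsl_df v1075 = v3335 :=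
  Lgr Lrot38 (Lpr_dt (f625188 IH) (Lpn v3335))
theorem f491295 : Led Lsl_et v989 = v1075 :=
  Lgr Lrot87 (Lpr_ef (f491294 IH) (Lpn v1075))
theorem f490909 : Led Lsl_af v989 = v989 :=
  Lgr Lrot68 (Lpr_ct (f490908 IH) (Lpe (K30.f479122 IH) (Lpe (f490907 IH) (Lpn v989))))
theorem f491296 : Led Lsl_af v1075 = v1075 :=
  Lgr Lrot50 (Lpe (f491294 IH) (Lpe (f490909 IH) (Lpr_et (f491295 IH) (Lpn v1075))))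
theorem f625191 : Led Lsl_at v3335 = v3335 :=
  Lgr Lrot51 (Lpe (f625188 IH) (Lpr_af (f491296 IH) (Lpr_df (f625190 IH) (Lpn v3335))))
def v1197 : LQ := Led Lsl_ct K30.v312
theorem f493901 : Led Lsl_ct K30.v312 = v1197 :=
  Lrfl
theorem f479167 : Led Lsl_ft K24.v223 = K30.v312 :=
  Lgr Lrot48 (Lpr_ff (K30.f479166 IH) (Lpn K30.v312))
theorem f491293 : Led Lsl_cf K24.v223 = v1075 :=
  Lgr Lrot11 (Lpr_ct (f491292 IH) (Lpn v1075))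
theorem f493903 : Led Lsl_ff v1075 = v1197 :=
  Lgr Lrot23 (Lpe (f491293 IH) (Lpr_ft (f479167 IH) (Lpr_ct (f493901 IH) (Lpn v1197))))
theorem f493904 : Led Lsl_ft v1075 = v1197 :=
  Lgr Lrot48 (Lpr_ff (f493903 IH) (Lpn v1197))
def v3334 : LQ := Led Lsl_gt v728
theorem f625180 : Led Lsl_gt v728 = v3334 :=
  Lrfl
theorem f456952 : Led Lsl_cf (LP (LK LD1_c0 LD2_c53 LD3_c49)) = K47.v727 :=
  Lgr Lrot11 (Lpr_ct (K47.f456948 IH) (Lpn K47.v727))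
theorem f625181 : Led Lsl_df v1197 = v3334 :=
  Lgr Lrot84 (Lpe (f493901 IH) (Lpe (K30.f452112 IH) (Lpe (K24.f448764 IH) (Lpe (K24.f12179 IH) (Lpe (K24.f84918 IH) (Lpr_cf (f456952 IH) (Lpe (K47.f456947 IH) (Lpr_dt (f456953 IH) (Lpr_gt (f625180 IH) (Lpn v3334))))))))))
theorem f625182 : Led Lsl_dt v1197 = v3334 :=
  Lgr Lrot42 (Lpr_df (f625181 IH) (Lpn v3334))
theorem f625193 : Led Lsl_ft v3334 = v3335 :=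
  Lgr Lrot54 (Lpe (f625182 IH) (Lpe (f493904 IH) (Lpr_df (f625190 IH) (Lpn v3335))))
theorem f625209 : Led Lsl_gt v3334 = v3337 :=
  Lgr Lrot5 (Lpr_ft (f625193 IH) (Lpr_at (f625191 IH) (Lpr_gf (f625208 IH) (Lpn v3337))))
theorem f626931 : Led Lsl_gf v1197 = v3709 :=
  Lgr Lrot148 (Lpr_dt (f625182 IH) (Lpr_gt (f625209 IH) (Lpe (f625203 IH) (Lpe (K29.f456957 IH) (Lpe (K0.f5966 IH) (Lpr_gf (K24.f10146 IH) (Lpr_df (K29.f450901 IH) (Lpr_gf (K32.f490993 IH) (Lpr_ct (f626927 IH) (Lpn v3709))))))))))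
theorem f493905 : Led Lsl_af v1197 = v1197 :=
  Lgr Lrot45 (Lpe (f493903 IH) (Lpe (f491296 IH) (Lpr_ft (f493904 IH) (Lpn v1197))))
theorem f626932 : Led Lsl_gt v1075 = v3709 :=
  Lgr Lrot5 (Lpr_ft (f493904 IH) (Lpe (f493905 IH) (Lpr_gf (f626931 IH) (Lpn v3709))))
def v2481 : LQ := Led Lsl_gf (LP (LK LD1_c1 LD2_c46 LD3_c24))
theorem f522602 : Led Lsl_gf (LP (LK LD1_c1 LD2_c46 LD3_c24)) = v2481 :=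
  Lrfl
theorem f522604 : Led Lsl_et (LP (LK LD1_c3 LD2_c24 LD3_c58)) = v2481 :=
  Lgr Lrot121 (Lpr_dt (K28.f458528 IH) (Lpq (K28.f464172 IH) (Lpe (K28.f455822 IH) (Lpr_df (K28.f128099 IH) (Lpr_et (K24.f10467 IH) (Lpr_gf (K3.f10459 IH) (Lpe (K3.f10450 IH) (Lpr_dt (K3.f10465 IH) (Lpe (K3.f10466 IH) (Lpe (K3.f97294 IH) (Lpr_gf (f522602 IH) (Lpn v2481))))))))))))
theorem f522606 : Led Lsl_ef (LP (LK LD1_c3 LD2_c24 LD3_c58)) = v2481 :=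
  Lgr Lrot88 (Lpr_et (f522604 IH) (Lpn v2481))
def v2446 : LQ := Led Lsl_gt (LP (LK LD1_c1 LD2_c45 LD3_c35))
theorem f522341 : Led Lsl_gt (LP (LK LD1_c1 LD2_c45 LD3_c35)) = v2446 :=
  Lrfl
theorem f522609 : Led Lsl_df v2446 = v2481 :=
  Lgr Lrot168 (Lpe (f522341 IH) (Lpe (K29.f10818 IH) (Lpr_et (K33.f456860 IH) (Lpr_gf (K29.f477587 IH) (Lpe (K47.f446475 IH) (Lpr_dt (K29.f446464 IH) (Lpr_gf (K29.f455434 IH) (Lpr_df (K29.f479551 IH) (Lpe (K28.f458347 IH) (Lpr_ef (f522606 IH) (Lpn v2481)))))))))))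
theorem f458526 : Led Lsl_et (LP (LK LD1_c3 LD2_c24 LD3_c59)) = (LP (LK LD1_c1 LD2_c38 LD3_c53)) :=
  Lre_e IH (LK LD1_c3 LD2_c24 LD3_c59) (LK LD1_c1 LD2_c38 LD3_c53) Lrfl Lrfl
theorem f522612 : Led Lsl_et v2446 = K29.v1083 :=
  Lgr Lrot71 (Lpr_df (f522609 IH) (Lpe (f522604 IH) (Lpe (K29.f458527 IH) (Lpe (f458526 IH) (Lpr_df (K29.f491331 IH) (Lpn K29.v1083))))))
theorem f522613 : Led Lsl_bf v2446 = K32.v1011 :=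
  Lgr Lrot96 (Lpr_et (f522612 IH) (Lpe (K32.f491330 IH) (Lpr_et (K32.f490995 IH) (Lpn K32.v1011))))
theorem f522342 : Led Lsl_gf K33.v705 = v2446 :=
  Lgr Lrot76 (Lpe (K49.f522173 IH) (Lpe (K49.f519833 IH) (Lpr_gt (f522341 IH) (Lpn v2446))))
def v2442 : LQ := Led Lsl_dt (LP (LK LD1_c1 LD2_c45 LD3_c31))
theorem f519766 : Led Lsl_dt (LP (LK LD1_c1 LD2_c45 LD3_c31)) = v2442 :=
  Lrfl
theorem f456862 : Led Lsl_df (LP (LK LD1_c0 LD2_c49 LD3_c25)) = K33.v705 :=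
  Lgr Lrot38 (Lpr_dt (K33.f456861 IH) (Lpn K33.v705))
theorem f519767 : Led Lsl_bf K33.v705 = v2442 :=
  Lgr Lrot93 (Lpe (f456862 IH) (Lpr_bt (K29.f456854 IH) (Lpr_dt (f519766 IH) (Lpn v2442))))
def v9104 : LQ := Led Lsl_ct v2442
theorem f673595 : Led Lsl_ct v2442 = v9104 :=
  Lrfl
theorem f685559 : Led Lsl_gt v9104 = v11699 :=
  Lgr Lrot65 (Lpe (f673595 IH) (Lpe (f519767 IH) (Lpr_gf (f522342 IH) (Lpr_bf (f522613 IH) (Lpr_ct (f626927 IH) (Lpe (f626932 IH) (Lpe (f491292 IH) (Lpr_gf (K30.f491285 IH) (Lpr_bf (f627580 IH) (Lpr_ct (f685555 IH) (Lpn v11699)))))))))))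
def v9103 : LQ := Led Lsl_gf v2442
theorem f673594 : Led Lsl_gf v2442 = v9103 :=
  Lrfl
theorem f685557 : Led Lsl_cf v3856 = v11699 :=
  Lgr Lrot11 (Lpr_ct (f685555 IH) (Lpn v11699))
theorem f491289 : Led Lsl_df K30.v649 = K30.v1074 :=
  Lgr Lrot38 (Lpr_dt (K30.f491288 IH) (Lpn K30.v1074))
def v1073 : LQ := Led Lsl_gt K24.v223
theorem f491278 : Led Lsl_gt K24.v223 = v1073 :=
  Lrfl
theorem f455710 : Led Lsl_ef (LP (LK LD1_c0 LD2_c47 LD3_c41)) = K30.v640 :=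
  Lgr Lrot88 (Lpr_et (K30.f455709 IH) (Lpn K30.v640))
theorem f491281 : Led Lsl_dt K30.v640 = v1073 :=
  Lgr Lrot56 (Lpe (f455710 IH) (Lpr_gt (K24.f12127 IH) (Lpr_ef (K29.f455793 IH) (Lpe (K24.f455790 IH) (Lpe (K24.f452096 IH) (Lpe (K24.f451175 IH) (Lpe (K6.f145353 IH) (Lpe (K24.f437663 IH) (Lpr_dt (K24.f451188 IH) (Lpr_gt (f491278 IH) (Lpn v1073)))))))))))
theorem f491291 : Led Lsl_ft v1073 = K30.v1074 :=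
  Lgr Lrot54 (Lpe (f491281 IH) (Lpe (K30.f457713 IH) (Lpr_df (f491289 IH) (Lpn K30.v1074))))
def v889 : LQ := Led Lsl_dt (LP (LK LD1_c0 LD2_c53 LD3_c42))
def v3493 : LQ := Led Lsl_gf v889
theorem f625928 : Led Lsl_gf v889 = v3493 :=
  Lrfl
theorem f490277 : Led Lsl_dt (LP (LK LD1_c0 LD2_c53 LD3_c42)) = v889 :=
  Lrfl
def v2325 : LQ := Led Lsl_et (LP (LK LD1_c1 LD2_c42 LD3_c18))
theorem f514648 : Led Lsl_et (LP (LK LD1_c1 LD2_c42 LD3_c18)) = v2325 :=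
  Lrfl
theorem f514650 : Led Lsl_ef (LP (LK LD1_c1 LD2_c42 LD3_c18)) = v2325 :=
  Lgr Lrot88 (Lpr_et (f514648 IH) (Lpn v2325))
theorem f625930 : Led Lsl_dt v2325 = v3493 :=
  Lgr Lrot136 (Lpe (f514650 IH) (Lpe (K33.f483767 IH) (Lpe (K34.f459515 IH) (Lpr_dt (K49.f459526 IH) (Lpr_gf (K49.f625530 IH) (Lpe (K49.f625531 IH) (Lpe (K49.f535544 IH) (Lpe (K49.f490279 IH) (Lpr_dt (f490277 IH) (Lpr_gf (f625928 IH) (Lpn v3493)))))))))))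
theorem f12140 : Led Lsl_bt (LP (LK LD1_c1 LD2_c42 LD3_c18)) = (LP (LK LD1_c0 LD2_c47 LD3_c41)) :=
  Lre_b IH (LK LD1_c1 LD2_c42 LD3_c18) (LK LD1_c0 LD2_c47 LD3_c41) Lrfl Lrfl
theorem f514652 : Led Lsl_bt K30.v640 = v2325 :=
  Lgr Lrot119 (Lpe (K30.f455709 IH) (Lpe (f12140 IH) (Lpr_ef (f514650 IH) (Lpn v2325))))
theorem f490252 : Led Lsl_dt K24.v654 = K46.v883 :=
  Lgr Lrot136 (Lpr_et (K24.f457680 IH) (Lpe (K24.f457682 IH) (Lpe (K24.f451004 IH) (Lpr_dt (K24.f451013 IH) (Lpr_gf (K24.f451330 IH) (Lpe (K11.f451331 IH) (Lpq (K11.f451588 IH) (Lpe (K24.f451375 IH) (Lpe (K24.f451017 IH) (Lpr_dt (K24.f123402 IH) (Lpr_gf (K46.f490249 IH) (Lpn K46.v883))))))))))))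
theorem f490253 : Led Lsl_df K24.v654 = K46.v883 :=
  Lgr Lrot38 (Lpr_dt (f490252 IH) (Lpn K46.v883))
theorem f457711 : Led Lsl_ct K24.v654 = K30.v640 :=
  Lgr Lrot8 (Lpr_gt (K29.f457709 IH) (Lpr_dt (K24.f452101 IH) (Lpe (K24.f452099 IH) (Lpe (K24.f448760 IH) (Lpr_cf (K24.f12187 IH) (Lpe (K24.f12179 IH) (Lpe (K24.f84918 IH) (Lpe (K30.f123403 IH) (Lpr_gf (K30.f455711 IH) (Lpn K30.v640))))))))))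
theorem f491280 : Led Lsl_df K30.v640 = v1073 :=
  Lgr Lrot84 (Lpe (f457711 IH) (Lpr_df (f490253 IH) (Lpe (K46.f490250 IH) (Lpe (K46.f123405 IH) (Lpe (K24.f145380 IH) (Lpe (K6.f122806 IH) (Lpe (K24.f437663 IH) (Lpr_dt (K24.f451188 IH) (Lpr_gt (f491278 IH) (Lpn v1073))))))))))
theorem f625931 : Led Lsl_bf v1073 = v3493 :=
  Lgr Lrot93 (Lpe (f491280 IH) (Lpr_bt (f514652 IH) (Lpr_dt (f625930 IH) (Lpn v3493))))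
theorem f627582 : Led Lsl_ff v3493 = v3856 :=
  Lgr Lrot25 (Lpe (f625931 IH) (Lpr_ft (f491291 IH) (Lpr_bt (f627579 IH) (Lpn v3856))))
theorem f625932 : Led Lsl_df v2325 = v3493 :=
  Lgr Lrot38 (Lpr_dt (f625930 IH) (Lpn v3493))
def v2330 : LQ := Led Lsl_et (LP (LK LD1_c1 LD2_c42 LD3_c29))
theorem f514671 : Led Lsl_et (LP (LK LD1_c1 LD2_c42 LD3_c29)) = v2330 :=
  Lrfl
theorem f514674 : Led Lsl_ff v2325 = v2330 :=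
  Lgr Lrot72 (Lpe (f514650 IH) (Lpe (K33.f458923 IH) (Lpr_et (K29.f458262 IH) (Lpe (K24.f458807 IH) (Lpr_et (f514671 IH) (Lpn v2330))))))
theorem f514676 : Led Lsl_ft v2325 = v2330 :=
  Lgr Lrot48 (Lpr_ff (f514674 IH) (Lpn v2330))
theorem f627583 : Led Lsl_dt v2330 = v3856 :=
  Lgr Lrot60 (Lpe (f514676 IH) (Lpr_df (f625932 IH) (Lpr_ff (f627582 IH) (Lpn v3856))))
def v6839 : LQ := Led Lsl_et (LP (LK LD1_c3 LD2_c31 LD3_c42))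
theorem f658881 : Led Lsl_et (LP (LK LD1_c3 LD2_c31 LD3_c42)) = v6839 :=
  Lrfl
theorem f514673 : Led Lsl_ef (LP (LK LD1_c1 LD2_c42 LD3_c29)) = v2330 :=
  Lgr Lrot88 (Lpr_et (f514671 IH) (Lpn v2330))
theorem f658883 : Led Lsl_cf v2330 = v6839 :=
  Lgr Lrot39 (Lpe (f514673 IH) (Lpr_ct (K28.f455663 IH) (Lpr_et (f658881 IH) (Lpn v6839))))
theorem f478287 : Led Lsl_et (LP (LK LD1_c1 LD2_c46 LD3_c21)) = (LP (LK LD1_c3 LD2_c38 LD3_c52)) :=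
  Lre_e IH (LK LD1_c1 LD2_c46 LD3_c21) (LK LD1_c3 LD2_c38 LD3_c52) Lrfl Lrfl
theorem f660891 : Led Lsl_ct (LP (LK LD1_c3 LD2_c38 LD3_c52)) = K47.v7092 :=
  Lgr Lrot15 (Lpe (f478287 IH) (Lpe (K33.f4423 IH) (Lpr_ef (K47.f660889 IH) (Lpn K47.v7092))))
theorem f491703 : Led Lsl_et (LP (LK LD1_c1 LD2_c38 LD3_c54)) = K32.v1135 :=
  Lgr Lrot121 (Lpr_dt (K28.f11041 IH) (Lpe (K24.f11034 IH) (Lpe (K2.f11956 IH) (Lpr_et (K24.f9887 IH) (Lpr_gf (K0.f11937 IH) (Lpe (K0.f5894 IH) (Lpr_dt (K28.f5914 IH) (Lpe (K24.f5926 IH) (Lpr_df (K24.f451497 IH) (Lpr_gf (K32.f491701 IH) (Lpn K32.v1135)))))))))))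
theorem f522607 : Led Lsl_bt K32.v1135 = v2481 :=
  Lgr Lrot119 (Lpe (f491703 IH) (Lpe (K29.f11042 IH) (Lpr_ef (f522606 IH) (Lpn v2481))))
theorem f459353 : Led Lsl_gf K30.v640 = K30.v781 :=
  Lgr Lrot47 (Lpe (K30.f455711 IH) (Lpe (K29.f457350 IH) (Lpr_ff (K30.f459349 IH) (Lpn K30.v781))))
theorem f458773 : Led Lsl_af K30.v640 = K30.v640 :=
  Lgr Lrot68 (Lpe (K30.f457712 IH) (Lpr_at (K24.f458772 IH) (Lpr_ct (f457711 IH) (Lpn K30.v640))))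
theorem f459354 : Led Lsl_gt K30.v649 = K30.v781 :=
  Lgr Lrot5 (Lpr_ft (K30.f457713 IH) (Lpe (f458773 IH) (Lpr_gf (f459353 IH) (Lpn K30.v781))))
theorem f514672 : Led Lsl_bf K30.v649 = v2330 :=
  Lgr Lrot96 (Lpe (K30.f455776 IH) (Lpr_bt (K24.f446522 IH) (Lpr_et (f514671 IH) (Lpn v2330))))
theorem f658885 : Led Lsl_ff K49.v6834 = v6839 :=
  Lgr Lrot72 (Lpe (K49.f658840 IH) (Lpe (K24.f458927 IH) (Lpr_et (K24.f458242 IH) (Lpe (K24.f458815 IH) (Lpr_et (f658881 IH) (Lpn v6839))))))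
theorem f658839 : Led Lsl_cf v2325 = K49.v6834 :=
  Lgr Lrot39 (Lpe (f514650 IH) (Lpr_ct (K29.f455622 IH) (Lpr_et (K49.f658838 IH) (Lpn K49.v6834))))
theorem f658886 : Led Lsl_ct v2330 = v6839 :=
  Lgr Lrot40 (Lpe (f514676 IH) (Lpr_cf (f658839 IH) (Lpr_ff (f658885 IH) (Lpn v6839))))
theorem f660936 : Led Lsl_gf v6839 = K47.v7092 :=
  Lgr Lrot126 (Lpe (f658886 IH) (Lpe (f514672 IH) (Lpr_gt (f459354 IH) (Lpr_ct (K30.f490870 IH) (Lpr_gt (K32.f493356 IH) (Lpe (K32.f493357 IH) (Lpr_bt (f522607 IH) (Lpe (f522602 IH) (Lpe (K47.f97296 IH) (Lpr_ct (f660891 IH) (Lpn K47.v7092)))))))))))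
theorem f685560 : Led Lsl_dt v9103 = K48.v7096 :=
  Lgr Lrot6 (Lpe (f673594 IH) (Lpr_ct (f673595 IH) (Lpr_gt (f685559 IH) (Lpe (f685557 IH) (Lpe (f627583 IH) (Lpr_cf (f658883 IH) (Lpr_gf (f660936 IH) (Lpe (f660891 IH) (Lpr_gf (K48.f660954 IH) (Lpn K48.v7096))))))))))
def v20353 : LQ := Led Lsl_dt (LP (LK LD1_c6 LD2_c55 LD3_c7))
theorem f786522 : Led Lsl_dt (LP (LK LD1_c6 LD2_c55 LD3_c7)) = v20353 :=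
  Lrfl
theorem f528763 : Led Lsl_at (LP (LK LD1_c7 LD2_c51 LD3_c29)) = (LP (LK LD1_c3 LD2_c55 LD3_c24)) :=
  Lgr Lrot100 (Lpr_af (K35.f528761 IH) (Lpn (LP (LK LD1_c3 LD2_c55 LD3_c24))))
theorem f528753 : Led Lsl_ft (LP (LK LD1_c3 LD2_c55 LD3_c26)) = (LP (LK LD1_c7 LD2_c51 LD3_c29)) :=
  Lgr Lrot48 (Lpr_ff (K35.f528744 IH) (Lpn (LP (LK LD1_c7 LD2_c51 LD3_c29))))
theorem f481010 : Led Lsl_gt (LP (LK LD1_c7 LD2_c52 LD3_c40)) = (LP (LK LD1_c3 LD2_c55 LD3_c24)) :=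
  Lre_g IH (LK LD1_c7 LD2_c52 LD3_c40) (LK LD1_c3 LD2_c55 LD3_c24) Lrfl Lrfl
theorem f529675 : Led Lsl_gt (LP (LK LD1_c3 LD2_c55 LD3_c26)) = (LP (LK LD1_c7 LD2_c52 LD3_c40)) :=
  Lgr Lrot5 (Lpr_ft (f528753 IH) (Lpr_at (f528763 IH) (Lpe (f481010 IH) (Lpn (LP (LK LD1_c7 LD2_c52 LD3_c40))))))
theorem f485208 : Led Lsl_et (LP (LK LD1_c3 LD2_c54 LD3_c30)) = (LP (LK LD1_c3 LD2_c55 LD3_c22)) :=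
  Lgr Lrot123 (Lpr_af (K33.f485152 IH) (Lpr_ef (K5.f132170 IH) (Lpr_af (K33.f480807 IH) (Lpn (LP (LK LD1_c3 LD2_c55 LD3_c22))))))
theorem f148267 : Led Lsl_dt (LP (LK LD1_c3 LD2_c54 LD3_c30)) = (LP (LK LD1_c7 LD2_c50 LD3_c41)) :=
  Lre_d IH (LK LD1_c3 LD2_c54 LD3_c30) (LK LD1_c7 LD2_c50 LD3_c41) Lrfl Lrfl
theorem f485225 : Led Lsl_ft (LP (LK LD1_c7 LD2_c50 LD3_c41)) = (LP (LK LD1_c7 LD2_c25 LD3_c3)) :=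
  Lgr Lrot54 (Lpe (f148267 IH) (Lpr_ff (K33.f485221 IH) (Lpe (K7.f122673 IH) (Lpn (LP (LK LD1_c7 LD2_c25 LD3_c3))))))
theorem f132056 : Led Lsl_af (LP (LK LD1_c7 LD2_c20 LD3_c16)) = (LP (LK LD1_c7 LD2_c25 LD3_c3)) :=
  Lgr Lrot0 (Lpr_at (K7.f132054 IH) (Lpn (LP (LK LD1_c7 LD2_c25 LD3_c3))))
theorem f96353 : Led Lsl_ft (LP (LK LD1_c7 LD2_c20 LD3_c16)) = (LP (LK LD1_c13 LD2_c52 LD3_c43)) :=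
  Lre_f IH (LK LD1_c7 LD2_c20 LD3_c16) (LK LD1_c13 LD2_c52 LD3_c43) Lrfl Lrfl
theorem f485227 : Led Lsl_af (LP (LK LD1_c7 LD2_c50 LD3_c41)) = (LP (LK LD1_c13 LD2_c52 LD3_c43)) :=
  Lgr Lrot45 (Lpr_ft (f485225 IH) (Lpe (f132056 IH) (Lpr_ft (f96353 IH) (Lpn (LP (LK LD1_c13 LD2_c52 LD3_c43))))))
theorem f485233 : Led Lsl_gf (LP (LK LD1_c7 LD2_c50 LD3_c41)) = (LP (LK LD1_c13 LD2_c26 LD3_c1)) :=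
  Lgr Lrot76 (Lpr_af (f485227 IH) (Lpe (f96353 IH) (Lpe (K49.f480453 IH) (Lpn (LP (LK LD1_c13 LD2_c26 LD3_c1))))))
theorem f483846 : Led Lsl_gt (LP (LK LD1_c7 LD2_c30 LD3_c9)) = (LP (LK LD1_c7 LD2_c4 LD3_c43)) :=
  Lgr Lrot146 (Lpr_dt (K33.f483771 IH) (Lpr_gt (K33.f462718 IH) (Lpr_ct (K28.f462422 IH) (Lpe (K32.f470055 IH) (Lpe (K32.f465822 IH) (Lpr_dt (K28.f463474 IH) (Lpe (K28.f458945 IH) (Lpr_gf (K33.f459217 IH) (Lpe (K48.f459219 IH) (Lpn (LP (LK LD1_c7 LD2_c4 LD3_c43))))))))))))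
theorem f484671 : Led Lsl_ef (LP (LK LD1_c7 LD2_c30 LD3_c9)) = (LP (LK LD1_c7 LD2_c24 LD3_c24)) :=
  Lgr Lrot88 (Lpr_et (K34.f484669 IH) (Lpn (LP (LK LD1_c7 LD2_c24 LD3_c24))))
theorem f529683 : Led Lsl_dt (LP (LK LD1_c7 LD2_c24 LD3_c24)) = (LP (LK LD1_c7 LD2_c52 LD3_c40)) :=
  Lgr Lrot56 (Lpe (f484671 IH) (Lpr_gt (f483846 IH) (Lpe (K49.f480431 IH) (Lpr_dt (K49.f480441 IH) (Lpe (f485233 IH) (Lpe (f148267 IH) (Lpr_et (f485208 IH) (Lpe (K33.f480820 IH) (Lpr_dt (K46.f463682 IH) (Lpr_gt (f529675 IH) (Lpn (LP (LK LD1_c7 LD2_c52 LD3_c40)))))))))))))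
theorem f529687 : Led Lsl_df (LP (LK LD1_c7 LD2_c24 LD3_c24)) = (LP (LK LD1_c7 LD2_c52 LD3_c40)) :=
  Lgr Lrot38 (Lpr_dt (f529683 IH) (Lpn (LP (LK LD1_c7 LD2_c52 LD3_c40))))
theorem f660955 : Led Lsl_ct (LP (LK LD1_c7 LD2_c24 LD3_c24)) = K48.v7096 :=
  Lgr Lrot8 (Lpr_gt (K34.f456512 IH) (Lpr_dt (K33.f4875 IH) (Lpe (K34.f484663 IH) (Lpr_dt (K48.f132223 IH) (Lpe (K29.f132179 IH) (Lpe (K48.f91699 IH) (Lpe (K29.f91705 IH) (Lpr_df (K29.f478281 IH) (Lpr_gf (K48.f660954 IH) (Lpn K48.v7096))))))))))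
theorem f786528 : Led Lsl_gf v9103 = v20353 :=
  Lgr Lrot143 (Lpr_dt (f685560 IH) (Lpe (f660955 IH) (Lpr_df (f529687 IH) (Lpe (f529675 IH) (Lpe (K46.f463682 IH) (Lpr_gf (K33.f480820 IH) (Lpe (K29.f480805 IH) (Lpr_gt (K33.f476896 IH) (Lpr_dt (f786522 IH) (Lpn v20353))))))))))
theorem f479784 : Led Lsl_dt (LP (LK LD1_c7 LD2_c9 LD3_c47)) = (LP (LK LD1_c3 LD2_c34 LD3_c18)) :=
  Lre_d IH (LK LD1_c7 LD2_c9 LD3_c47) (LK LD1_c3 LD2_c34 LD3_c18) Lrfl Lrfl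
theorem f519307 : Led Lsl_at (LP (LK LD1_c3 LD2_c34 LD3_c18)) = (LP (LK LD1_c7 LD2_c9 LD3_c46)) :=
  Lre_a IH (LK LD1_c3 LD2_c34 LD3_c18) (LK LD1_c7 LD2_c9 LD3_c46) Lrfl Lrfl
theorem f521094 : Led Lsl_df (LP (LK LD1_c13 LD2_c4 LD3_c4)) = (LP (LK LD1_c7 LD2_c9 LD3_c46)) :=
  Lgr Lrot18 (Lpr_at (K34.f521090 IH) (Lpr_dt (f479784 IH) (Lpr_at (f519307 IH) (Lpn (LP (LK LD1_c7 LD2_c9 LD3_c46))))))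
theorem f786526 : Led Lsl_ef (LP (LK LD1_c7 LD2_c9 LD3_c46)) = v20353 :=
  Lgr Lrot73 (Lpe (f521094 IH) (Lpe (K34.f493309 IH) (Lpr_dt (K33.f464665 IH) (Lpr_et (K33.f480253 IH) (Lpr_dt (f786522 IH) (Lpn v20353))))))
theorem f786534 : Led Lsl_et (LP (LK LD1_c7 LD2_c9 LD3_c46)) = v20353 :=
  Lgr Lrot87 (Lpr_ef (f786526 IH) (Lpn v20353))
theorem f93149 : Led Lsl_dt (LP (LK LD1_c1 LD2_c43 LD3_c42)) = (LP (LK LD1_c3 LD2_c34 LD3_c2)) :=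
  Lre_d IH (LK LD1_c1 LD2_c43 LD3_c42) (LK LD1_c3 LD2_c34 LD3_c2) Lrfl Lrfl
theorem f482587 : Led Lsl_gt (LP (LK LD1_c3 LD2_c34 LD3_c2)) = (LP (LK LD1_c7 LD2_c9 LD3_c11)) :=
  Lre_g IH (LK LD1_c3 LD2_c34 LD3_c2) (LK LD1_c7 LD2_c9 LD3_c11) Lrfl Lrfl
theorem f482588 : Led Lsl_dt (LP (LK LD1_c6 LD2_c52 LD3_c15)) = (LP (LK LD1_c7 LD2_c9 LD3_c11)) :=
  Lgr Lrot37 (Lpr_et (K34.f463403 IH) (Lpr_gt (K28.f464585 IH) (Lpe (K5.f128065 IH) (Lpr_gt (K28.f128085 IH) (Lpe (K32.f128090 IH) (Lpr_et (K33.f482585 IH) (Lpr_gt (K32.f93144 IH) (Lpe (K33.f93142 IH) (Lpr_dt (f93149 IH) (Lpr_gt (f482587 IH) (Lpn (LP (LK LD1_c7 LD2_c9 LD3_c11)))))))))))))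
theorem f482609 : Led Lsl_df (LP (LK LD1_c6 LD2_c52 LD3_c15)) = (LP (LK LD1_c7 LD2_c9 LD3_c11)) :=
  Lgr Lrot38 (Lpr_dt (f482588 IH) (Lpn (LP (LK LD1_c7 LD2_c9 LD3_c11))))
def v6850 : LQ := Led Lsl_dt (LP (LK LD1_c3 LD2_c32 LD3_c3))
theorem f658968 : Led Lsl_dt (LP (LK LD1_c3 LD2_c32 LD3_c3)) = v6850 :=
  Lrfl
theorem f658971 : Led Lsl_ef (LP (LK LD1_c7 LD2_c9 LD3_c11)) = v6850 :=
  Lgr Lrot73 (Lpe (f482609 IH) (Lpr_et (K34.f463403 IH) (Lpr_dt (K28.f463441 IH) (Lpr_et (K28.f464576 IH) (Lpr_dt (f658968 IH) (Lpn v6850))))))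
theorem f658975 : Led Lsl_et (LP (LK LD1_c7 LD2_c9 LD3_c11)) = v6850 :=
  Lgr Lrot87 (Lpr_ef (f658971 IH) (Lpn v6850))
theorem f786572 : Led Lsl_gf v6850 = v20359 :=
  Lgr Lrot141 (Lpe (f658975 IH) (Lpe (f482609 IH) (Lpr_gt (K34.f463415 IH) (Lpr_df (f521094 IH) (Lpr_et (f786534 IH) (Lpe (f786528 IH) (Lpr_dt (f685560 IH) (Lpe (K48.f660954 IH) (Lpe (f478285 IH) (Lpr_et (f786567 IH) (Lpn v20359)))))))))))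
def v20290 : LQ := Led Lsl_dt (LP (LK LD1_c6 LD2_c53 LD3_c41))
theorem f786134 : Led Lsl_dt (LP (LK LD1_c6 LD2_c53 LD3_c41)) = v20290 :=
  Lrfl
theorem f464538 : Led Lsl_bt (LP (LK LD1_c3 LD2_c31 LD3_c10)) = (LP (LK LD1_c3 LD2_c32 LD3_c3)) :=
  Lgr Lrot22 (Lpr_ct (K28.f18740 IH) (Lpr_gf (K46.f464388 IH) (Lpe (K46.f108809 IH) (Lpe (K28.f108799 IH) (Lpr_bf (K28.f464536 IH) (Lpr_ct (K28.f18567 IH) (Lpe (K28.f463466 IH) (Lpr_cf (K24.f130711 IH) (Lpe (K24.f130709 IH) (Lpr_gf (K32.f116049 IH) (Lpn (LP (LK LD1_c3 LD2_c32 LD3_c3)))))))))))))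
theorem f655988 : Led Lsl_at (LP (LK LD1_c3 LD2_c32 LD3_c3)) = (LP (LK LD1_c6 LD2_c53 LD3_c41)) :=
  Lgr Lrot67 (Lpe (f464538 IH) (Lpqs (K46.f654671 IH) (Lpe (K46.f514606 IH) (Lpe (K28.f18952 IH) (Lpr_af (K48.f655984 IH) (Lpe (K28.f461818 IH) (Lpn (LP (LK LD1_c6 LD2_c53 LD3_c41)))))))))
theorem f658970 : Led Lsl_df (LP (LK LD1_c3 LD2_c32 LD3_c3)) = v6850 :=
  Lgr Lrot38 (Lpr_dt (f658968 IH) (Lpn v6850))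
theorem f786135 : Led Lsl_af v6850 = v20290 :=
  Lgr Lrot117 (Lpe (f658970 IH) (Lpr_at (f655988 IH) (Lpr_dt (f786134 IH) (Lpn v20290))))
theorem f655042 : Led Lsl_ff (LP (LK LD1_c6 LD2_c53 LD3_c41)) = (LP (LK LD1_c3 LD2_c32 LD3_c4)) :=
  Lgr Lrot23 (Lpe (K28.f464540 IH) (Lpr_ft (K46.f655038 IH) (Lpr_ct (K35.f463567 IH) (Lpn (LP (LK LD1_c3 LD2_c32 LD3_c4))))))
def v6851 : LQ := Led Lsl_dt (LP (LK LD1_c3 LD2_c32 LD3_c4))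
theorem f658976 : Led Lsl_dt (LP (LK LD1_c3 LD2_c32 LD3_c4)) = v6851 :=
  Lrfl
theorem f658978 : Led Lsl_df (LP (LK LD1_c3 LD2_c32 LD3_c4)) = v6851 :=
  Lgr Lrot38 (Lpr_dt (f658976 IH) (Lpn v6851))
theorem f786138 : Led Lsl_ff v6851 = v20290 :=
  Lgr Lrot19 (Lpe (f658978 IH) (Lpe (f655042 IH) (Lpr_dt (f786134 IH) (Lpn v20290))))
theorem f786141 : Led Lsl_ft v6851 = v20290 :=
  Lgr Lrot48 (Lpr_ff (f786138 IH) (Lpn v20290))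
theorem f786573 : Led Lsl_gt v6851 = v20359 :=
  Lgr Lrot5 (Lpr_ft (f786141 IH) (Lpe (f786135 IH) (Lpr_gf (f786572 IH) (Lpn v20359))))
theorem f458297 : Led Lsl_ct (LP (LK LD1_c7 LD2_c4 LD3_c49)) = (LP (LK LD1_c3 LD2_c31 LD3_c35)) :=
  Lre_c IH (LK LD1_c7 LD2_c4 LD3_c49) (LK LD1_c3 LD2_c31 LD3_c35) Lrfl Lrfl
theorem f478271 : Led Lsl_cf (LP (LK LD1_c6 LD2_c55 LD3_c19)) = (LP (LK LD1_c3 LD2_c55 LD3_c34)) :=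
  Lgr Lrot11 (Lpr_ct (K29.f478267 IH) (Lpn (LP (LK LD1_c3 LD2_c55 LD3_c34))))
theorem f84916 : Led Lsl_et (LP (LK LD1_c7 LD2_c52 LD3_c58)) = (LP (LK LD1_c3 LD2_c55 LD3_c34)) :=
  Lre_e IH (LK LD1_c7 LD2_c52 LD3_c58) (LK LD1_c3 LD2_c55 LD3_c34) Lrfl Lrfl
theorem f786569 : Led Lsl_cf (LP (LK LD1_c7 LD2_c52 LD3_c58)) = v20359 :=
  Lgr Lrot39 (Lpr_et (f84916 IH) (Lpe (f478271 IH) (Lpr_et (f786567 IH) (Lpn v20359))))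
theorem f786576 : Led Lsl_gf (LP (LK LD1_c7 LD2_c4 LD3_c49)) = (LP (LK LD1_c7 LD2_c52 LD3_c58)) :=
  Lgr Lrot104 (Lpr_ct (f458297 IH) (Lpe (K29.f458291 IH) (Lpe (K28.f455646 IH) (Lpe (K24.f460754 IH) (Lpr_cf (K28.f146926 IH) (Lpe (K28.f90119 IH) (Lpr_df (f658978 IH) (Lpr_gt (f786573 IH) (Lpe (f786569 IH) (Lpn (LP (LK LD1_c7 LD2_c52 LD3_c58))))))))))))
theorem f786577 : Led Lsl_gt (LP (LK LD1_c7 LD2_c52 LD3_c58)) = (LP (LK LD1_c7 LD2_c4 LD3_c49)) :=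
  Leop (Lpr_gf (f786576 IH) (Lpn (LP (LK LD1_c7 LD2_c52 LD3_c58))))
theorem seed_1520 : LEOK LG_g (LK LD1_c7 LD2_c52 LD3_c58) :=
  Leoe_g (LK LD1_c7 LD2_c52 LD3_c58) (f786577 IH)
def v20368 : LQ := Led Lsl_et (LP (LK LD1_c6 LD2_c55 LD3_c29))
theorem f786607 : Led Lsl_et (LP (LK LD1_c6 LD2_c55 LD3_c29)) = v20368 :=
  Lrfl
theorem f786609 : Led Lsl_ef (LP (LK LD1_c6 LD2_c55 LD3_c29)) = v20368 :=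
  Lgr Lrot88 (Lpr_et (f786607 IH) (Lpn v20368))
theorem f95083 : Led Lsl_gt (LP (LK LD1_c3 LD2_c26 LD3_c51)) = (LP (LK LD1_c6 LD2_c55 LD3_c29)) :=
  Lre_g IH (LK LD1_c3 LD2_c26 LD3_c51) (LK LD1_c6 LD2_c55 LD3_c29) Lrfl Lrfl
theorem f91290 : Led Lsl_et (LP (LK LD1_c1 LD2_c40 LD3_c3)) = (LP (LK LD1_c3 LD2_c26 LD3_c51)) :=
  Lre_e IH (LK LD1_c1 LD2_c40 LD3_c3) (LK LD1_c3 LD2_c26 LD3_c51) Lrfl Lrfl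
theorem f95198 : Led Lsl_dt (LP (LK LD1_c3 LD2_c25 LD3_c46)) = (LP (LK LD1_c6 LD2_c53 LD3_c26)) :=
  Lre_d IH (LK LD1_c3 LD2_c25 LD3_c46) (LK LD1_c6 LD2_c53 LD3_c26) Lrfl Lrfl
theorem f95207 : Led Lsl_gt (LP (LK LD1_c13 LD2_c5 LD3_c50)) = (LP (LK LD1_c6 LD2_c53 LD3_c26)) :=
  Lre_g IH (LK LD1_c13 LD2_c5 LD3_c50) (LK LD1_c6 LD2_c53 LD3_c26) Lrfl Lrfl
theorem f786610 : Led Lsl_df (LP (LK LD1_c13 LD2_c5 LD3_c50)) = v20368 :=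
  Lgr Lrot170 (Lpr_gt (f95207 IH) (Lpe (f95198 IH) (Lpr_et (K8.f94982 IH) (Lpr_gt (K6.f94612 IH) (Lpe (K6.f102586 IH) (Lpr_gt (K6.f102531 IH) (Lpe (K5.f91289 IH) (Lpr_et (f91290 IH) (Lpr_gt (f95083 IH) (Lpr_ef (f786609 IH) (Lpn v20368)))))))))))
theorem f786612 : Led Lsl_et (LP (LK LD1_c13 LD2_c5 LD3_c50)) = (LP (LK LD1_c22 LD2_c16 LD3_c47)) :=
  Lre_e IH (LK LD1_c13 LD2_c5 LD3_c50) (LK LD1_c22 LD2_c16 LD3_c47) Lrfl Lrfl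
theorem f95084 : Led Lsl_dt (LP (LK LD1_c13 LD2_c9 LD3_c9)) = (LP (LK LD1_c6 LD2_c55 LD3_c29)) :=
  Lre_d IH (LK LD1_c13 LD2_c9 LD3_c9) (LK LD1_c6 LD2_c55 LD3_c29) Lrfl Lrfl
theorem f786608 : Led Lsl_et (LP (LK LD1_c22 LD2_c21 LD3_c43)) = (LP (LK LD1_c13 LD2_c9 LD3_c9)) :=
  Lre_e IH (LK LD1_c22 LD2_c21 LD3_c43) (LK LD1_c13 LD2_c9 LD3_c9) Lrfl Lrfl
theorem f786613 : Led Lsl_dt (LP (LK LD1_c22 LD2_c16 LD3_c47)) = (LP (LK LD1_c22 LD2_c21 LD3_c43)) :=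
  Lgr Lrot77 (Lpe (f786612 IH) (Lpr_df (f786610 IH) (Lpe (f786607 IH) (Lpe (f95084 IH) (Lpe (f786608 IH) (Lpn (LP (LK LD1_c22 LD2_c21 LD3_c43))))))))
theorem f786614 : Led Lsl_dt (LP (LK LD1_c22 LD2_c16 LD3_c47)) = (LP (LK LD1_c22 LD2_c21 LD3_c43)) :=
  Leop (Lpe (f786613 IH) (Lpn (LP (LK LD1_c22 LD2_c16 LD3_c47))))
theorem seed_1521 : LEOK LG_d (LK LD1_c22 LD2_c16 LD3_c47) :=
  Leoe_d (LK LD1_c22 LD2_c16 LD3_c47) (f786614 IH)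
def v20370 : LQ := Led Lsl_ct (LP (LK LD1_c6 LD2_c55 LD3_c30))
theorem f786623 : Led Lsl_ct (LP (LK LD1_c6 LD2_c55 LD3_c30)) = v20370 :=
  Lrfl
theorem f95135 : Led Lsl_gt (LP (LK LD1_c6 LD2_c55 LD3_c30)) = (LP (LK LD1_c3 LD2_c26 LD3_c51)) :=
  Lre_g IH (LK LD1_c6 LD2_c55 LD3_c30) (LK LD1_c3 LD2_c26 LD3_c51) Lrfl Lrfl
theorem f136591 : Led Lsl_gt (LP (LK LD1_c7 LD2_c53 LD3_c10)) = (LP (LK LD1_c6 LD2_c55 LD3_c30)) :=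
  Lgr Lrot5 (Lpr_ft (K8.f12272 IH) (Lpr_at (K8.f136583 IH) (Lpe (f95135 IH) (Lpn (LP (LK LD1_c6 LD2_c55 LD3_c30))))))
theorem f711756 : Led Lsl_bt K51.v5924 = (LP (LK LD1_c11 LD2_c29 LD3_c53)) :=
  Lgr Lrot127 (Lpr_bf (K52.f711729 IH) (Lpn (LP (LK LD1_c11 LD2_c29 LD3_c53))))
theorem f97759 : Led Lsl_ft (LP (LK LD1_c7 LD2_c42 LD3_c44)) = (LP (LK LD1_c14 LD2_c32 LD3_c18)) :=
  Lre_f IH (LK LD1_c7 LD2_c42 LD3_c44) (LK LD1_c14 LD2_c32 LD3_c18) Lrfl Lrfl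
theorem f120453 : Led Lsl_gt (LP (LK LD1_c7 LD2_c42 LD3_c44)) = (LP (LK LD1_c14 LD2_c32 LD3_c15)) :=
  Lre_g IH (LK LD1_c7 LD2_c42 LD3_c44) (LK LD1_c14 LD2_c32 LD3_c15) Lrfl Lrfl
theorem f440260 : Led Lsl_gf (LP (LK LD1_c17 LD2_c17 LD3_c13)) = (LP (LK LD1_c14 LD2_c32 LD3_c15)) :=
  Lgr Lrot76 (Lpr_af (K52.f127216 IH) (Lpe (f97759 IH) (Lpr_gt (f120453 IH) (Lpn (LP (LK LD1_c14 LD2_c32 LD3_c15))))))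
theorem f427262 : Led Lsl_cf (LP (LK LD1_c9 LD2_c5 LD3_c47)) = (LP (LK LD1_c5 LD2_c51 LD3_c21)) :=
  Lgr Lrot1 (Lpr_at (K56.f132370 IH) (Lpe (K52.f132319 IH) (Lpr_at (K56.f427255 IH) (Lpn (LP (LK LD1_c5 LD2_c51 LD3_c21))))))
theorem f752834 : Led Lsl_bf (LP (LK LD1_c14 LD2_c32 LD3_c15)) = (LP (LK LD1_c11 LD2_c25 LD3_c37)) :=
  Lgr Lrot156 (Lpe (f440260 IH) (Lpe (K5.f127208 IH) (Lpr_ct (K5.f127203 IH) (Lpq (K51.f708763 IH) (Lpe (K51.f646927 IH) (Lpe (K52.f438618 IH) (Lpqs (K51.f708239 IH) (Lpr_bt (f711756 IH) (Lpqs (K56.f752491 IH) (Lpe (K56.f744701 IH) (Lpe (f427262 IH) (Lpr_gt (K55.f132380 IH) (Lpr_cf (K56.f738965 IH) (Lpn (LP (LK LD1_c11 LD2_c25 LD3_c37))))))))))))))))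
theorem f97813 : Led Lsl_bt (LP (LK LD1_c3 LD2_c50 LD3_c51)) = (LP (LK LD1_c7 LD2_c42 LD3_c44)) :=
  Lre_b IH (LK LD1_c3 LD2_c50 LD3_c51) (LK LD1_c7 LD2_c42 LD3_c44) Lrfl Lrfl
def v7544 : LQ := Led Lsl_ct (LP (LK LD1_c3 LD2_c50 LD3_c51))
theorem f666477 : Led Lsl_ct (LP (LK LD1_c3 LD2_c50 LD3_c51)) = v7544 :=
  Lrfl
theorem f786625 : Led Lsl_gf v7544 = v20370 :=
  Lgr Lrot129 (Lpe (f666477 IH) (Lpr_bt (f97813 IH) (Lpr_gt (f120453 IH) (Lpr_bf (f752834 IH) (Lpe (K56.f738965 IH) (Lpr_gt (K55.f132381 IH) (Lpe (K56.f136615 IH) (Lpr_bt (K8.f12273 IH) (Lpr_gt (f136591 IH) (Lpr_ct (f786623 IH) (Lpn v20370)))))))))))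
theorem f91763 : Led Lsl_et (LP (LK LD1_c1 LD2_c52 LD3_c17)) = (LP (LK LD1_c3 LD2_c50 LD3_c51)) :=
  Lre_e IH (LK LD1_c1 LD2_c52 LD3_c17) (LK LD1_c3 LD2_c50 LD3_c51) Lrfl Lrfl
def v2674 : LQ := Led Lsl_ct (LP (LK LD1_c1 LD2_c52 LD3_c17))
theorem f530273 : Led Lsl_ct (LP (LK LD1_c1 LD2_c52 LD3_c17)) = v2674 :=
  Lrfl
theorem f530275 : Led Lsl_cf (LP (LK LD1_c1 LD2_c52 LD3_c17)) = v2674 :=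
  Lgr Lrot11 (Lpr_ct (f530273 IH) (Lpn v2674))
theorem f666480 : Led Lsl_ef v2674 = v7544 :=
  Lgr Lrot28 (Lpe (f530275 IH) (Lpr_et (f91763 IH) (Lpr_ct (f666477 IH) (Lpn v7544))))
theorem f89836 : Led Lsl_ff (LP (LK LD1_c1 LD2_c40 LD3_c12)) = (LP (LK LD1_c1 LD2_c51 LD3_c7)) :=
  Lgr Lrot19 (Lpr_dt (K2.f11972 IH) (Lpr_ft (K2.f89829 IH) (Lpr_dt (K3.f11845 IH) (Lpn (LP (LK LD1_c1 LD2_c51 LD3_c7))))))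
theorem f97574 : Led Lsl_af (LP (LK LD1_c1 LD2_c52 LD3_c17)) = (LP (LK LD1_c1 LD2_c40 LD3_c12)) :=
  Lgr Lrot31 (Lpe (K3.f64390 IH) (Lpr_gf (K3.f97554 IH) (Lpe (f89836 IH) (Lpn (LP (LK LD1_c1 LD2_c40 LD3_c12))))))
theorem f530274 : Led Lsl_af (LP (LK LD1_c3 LD2_c23 LD3_c14)) = v2674 :=
  Lgr Lrot68 (Lpr_ct (K2.f93239 IH) (Lpe (f97574 IH) (Lpr_ct (f530273 IH) (Lpn v2674))))
theorem f93241 : Led Lsl_et (LP (LK LD1_c3 LD2_c23 LD3_c14)) = (LP (LK LD1_c6 LD2_c49 LD3_c49)) :=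
  Lre_e IH (LK LD1_c3 LD2_c23 LD3_c14) (LK LD1_c6 LD2_c49 LD3_c49) Lrfl Lrfl
theorem f666482 : Led Lsl_at (LP (LK LD1_c6 LD2_c49 LD3_c49)) = v7544 :=
  Lgr Lrot80 (Lpe (f93241 IH) (Lpr_af (f530274 IH) (Lpr_ef (f666480 IH) (Lpn v7544))))
def v20027 : LQ := Led Lsl_ft (LP (LK LD1_c6 LD2_c49 LD3_c49))
theorem f784412 : Led Lsl_ft (LP (LK LD1_c6 LD2_c49 LD3_c49)) = v20027 :=
  Lrfl
theorem f784414 : Led Lsl_ff (LP (LK LD1_c6 LD2_c49 LD3_c49)) = v20027 :=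
  Lgr Lrot3 (Lpr_ft (f784412 IH) (Lpn v20027))
theorem f786626 : Led Lsl_gt v20027 = v20370 :=
  Lgr Lrot5 (Lpe (f784414 IH) (Lpr_at (f666482 IH) (Lpr_gf (f786625 IH) (Lpn v20370))))
theorem f93242 : Led Lsl_ct (LP (LK LD1_c6 LD2_c49 LD3_c49)) = (LP (LK LD1_c3 LD2_c27 LD3_c13)) :=
  Lgr Lrot15 (Lpe (f93241 IH) (Lpr_cf (K2.f90574 IH) (Lpe (K3.f90983 IH) (Lpn (LP (LK LD1_c3 LD2_c27 LD3_c13))))))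
theorem f91727 : Led Lsl_ft (LP (LK LD1_c3 LD2_c27 LD3_c13)) = (LP (LK LD1_c6 LD2_c56 LD3_c24)) :=
  Lre_f IH (LK LD1_c3 LD2_c27 LD3_c13) (LK LD1_c6 LD2_c56 LD3_c24) Lrfl Lrfl
theorem f784415 : Led Lsl_ct (LP (LK LD1_c6 LD2_c56 LD3_c24)) = v20027 :=
  Lgr Lrot40 (Lpe (f91727 IH) (Lpe (f93242 IH) (Lpr_ff (f784414 IH) (Lpn v20027))))
theorem f91764 : Led Lsl_gt (LP (LK LD1_c3 LD2_c50 LD3_c51)) = (LP (LK LD1_c7 LD2_c42 LD3_c48)) :=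
  Lre_g IH (LK LD1_c3 LD2_c50 LD3_c51) (LK LD1_c7 LD2_c42 LD3_c48) Lrfl Lrfl
theorem f97804 : Led Lsl_gf (LP (LK LD1_c6 LD2_c56 LD3_c24)) = (LP (LK LD1_c7 LD2_c42 LD3_c48)) :=
  Lgr Lrot76 (Lpr_af (K3.f97798 IH) (Lpe (K3.f97796 IH) (Lpr_gt (f91764 IH) (Lpn (LP (LK LD1_c7 LD2_c42 LD3_c48))))))
theorem f97810 : Led Lsl_dt (LP (LK LD1_c7 LD2_c42 LD3_c48)) = (LP (LK LD1_c14 LD2_c32 LD3_c28)) :=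
  Lre_d IH (LK LD1_c7 LD2_c42 LD3_c48) (LK LD1_c14 LD2_c32 LD3_c28) Lrfl Lrfl
theorem f97808 : Led Lsl_gt (LP (LK LD1_c14 LD2_c32 LD3_c28)) = (LP (LK LD1_c14 LD2_c33 LD3_c34)) :=
  Lre_g IH (LK LD1_c14 LD2_c32 LD3_c28) (LK LD1_c14 LD2_c33 LD3_c34) Lrfl Lrfl
theorem f97809 : Led Lsl_ct (LP (LK LD1_c14 LD2_c33 LD3_c34)) = (LP (LK LD1_c24 LD2_c15 LD3_c56)) :=
  Lre_c IH (LK LD1_c14 LD2_c33 LD3_c34) (LK LD1_c24 LD2_c15 LD3_c56) Lrfl Lrfl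
theorem f786624 : Led Lsl_cf (LP (LK LD1_c6 LD2_c55 LD3_c30)) = v20370 :=
  Lgr Lrot11 (Lpr_ct (f786623 IH) (Lpn v20370))
theorem f136597 : Led Lsl_dt (LP (LK LD1_c13 LD2_c9 LD3_c11)) = (LP (LK LD1_c6 LD2_c55 LD3_c30)) :=
  Lre_d IH (LK LD1_c13 LD2_c9 LD3_c11) (LK LD1_c6 LD2_c55 LD3_c30) Lrfl Lrfl
theorem f136594 : Led Lsl_ct (LP (LK LD1_c22 LD2_c21 LD3_c44)) = (LP (LK LD1_c13 LD2_c9 LD3_c11)) :=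
  Lre_c IH (LK LD1_c22 LD2_c21 LD3_c44) (LK LD1_c13 LD2_c9 LD3_c11) Lrfl Lrfl
theorem f786627 : Led Lsl_gt (LP (LK LD1_c24 LD2_c15 LD3_c56)) = (LP (LK LD1_c22 LD2_c21 LD3_c44)) :=
  Lgr Lrot150 (Lpe (f97809 IH) (Lpe (f97808 IH) (Lpe (f97810 IH) (Lpe (f97804 IH) (Lpr_ct (f784415 IH) (Lpr_gt (f786626 IH) (Lpe (f786624 IH) (Lpe (f136597 IH) (Lpe (f136594 IH) (Lpn (LP (LK LD1_c22 LD2_c21 LD3_c44))))))))))))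
theorem f786628 : Led Lsl_gt (LP (LK LD1_c24 LD2_c15 LD3_c56)) = (LP (LK LD1_c22 LD2_c21 LD3_c44)) :=
  Leop (Lpe (f786627 IH) (Lpn (LP (LK LD1_c24 LD2_c15 LD3_c56))))
theorem seed_1522 : LEOK LG_g (LK LD1_c24 LD2_c15 LD3_c56) :=
  Leoe_g (LK LD1_c24 LD2_c15 LD3_c56) (f786628 IH)
def v20375 : LQ := Led Lsl_gt (LP (LK LD1_c6 LD2_c55 LD3_c34))
theorem f786642 : Led Lsl_gt (LP (LK LD1_c6 LD2_c55 LD3_c34)) = v20375 :=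
  Lrfl
theorem f102359 : Led Lsl_et (LP (LK LD1_c0 LD2_c46 LD3_c33)) = (LP (LK LD1_c1 LD2_c40 LD3_c4)) :=
  Lre_e IH (LK LD1_c0 LD2_c46 LD3_c33) (LK LD1_c1 LD2_c40 LD3_c4) Lrfl Lrfl
def v2274 : LQ := Led Lsl_gt (LP (LK LD1_c1 LD2_c39 LD3_c57))
theorem f511398 : Led Lsl_gt (LP (LK LD1_c1 LD2_c39 LD3_c57)) = v2274 :=
  Lrfl
theorem f125830 : Led Lsl_ff (LP (LK LD1_c1 LD2_c54 LD3_c27)) = (LP (LK LD1_c1 LD2_c39 LD3_c57)) :=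
  Lgr Lrot23 (Lpr_ct (K3.f12282 IH) (Lpr_ft (K5.f125828 IH) (Lpe (K2.f90986 IH) (Lpn (LP (LK LD1_c1 LD2_c39 LD3_c57))))))
theorem f125836 : Led Lsl_at (LP (LK LD1_c1 LD2_c54 LD3_c31)) = (LP (LK LD1_c1 LD2_c39 LD3_c57)) :=
  Lgr Lrot107 (Lpe (K5.f90288 IH) (Lpr_af (K5.f125834 IH) (Lpe (K2.f91106 IH) (Lpn (LP (LK LD1_c1 LD2_c39 LD3_c57))))))
theorem f125844 : Led Lsl_at (LP (LK LD1_c1 LD2_c54 LD3_c27)) = (LP (LK LD1_c1 LD2_c40 LD3_c3)) :=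
  Lgr Lrot66 (Lpr_ff (f125830 IH) (Lpe (f125836 IH) (Lpr_ff (K5.f125842 IH) (Lpn (LP (LK LD1_c1 LD2_c40 LD3_c3))))))
theorem f511400 : Led Lsl_gf (LP (LK LD1_c1 LD2_c40 LD3_c3)) = v2274 :=
  Lgr Lrot76 (Lpe (f125844 IH) (Lpr_ff (f125830 IH) (Lpr_gt (f511398 IH) (Lpn v2274))))
theorem f511402 : Led Lsl_dt (LP (LK LD1_c1 LD2_c47 LD3_c25)) = v2274 :=
  Lgr Lrot56 (Lpr_et (K28.f121960 IH) (Lpe (K46.f464388 IH) (Lpr_ef (K28.f92008 IH) (Lpr_dt (K28.f92002 IH) (Lpe (K28.f473259 IH) (Lpe (K28.f94990 IH) (Lpr_et (K36.f95023 IH) (Lpr_gt (K3.f14604 IH) (Lpr_dt (K2.f90985 IH) (Lpr_gt (f511398 IH) (Lpn v2274)))))))))))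
def v11923 : LQ := Led Lsl_ct K46.v3941
theorem f686548 : Led Lsl_ct K46.v3941 = v11923 :=
  Lrfl
theorem f686551 : Led Lsl_ef (LP (LK LD1_c7 LD2_c4 LD3_c13)) = v11923 :=
  Lgr Lrot28 (Lpr_ct (K47.f457453 IH) (Lpr_et (K47.f628170 IH) (Lpr_ct (f686548 IH) (Lpn v11923))))
theorem f786645 : Led Lsl_dt v11923 = v20375 :=
  Lgr Lrot56 (Lpe (f686551 IH) (Lpr_gt (K46.f466190 IH) (Lpe (K28.f121960 IH) (Lpr_dt (f511402 IH) (Lpe (f511400 IH) (Lpe (K2.f91129 IH) (Lpr_et (f102359 IH) (Lpr_gt (K29.f95076 IH) (Lpr_dt (K35.f455106 IH) (Lpr_gt (f786642 IH) (Lpn v20375)))))))))))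
def v11921 : LQ := Led Lsl_gf K48.v3939
theorem f686498 : Led Lsl_gf K48.v3939 = v11921 :=
  Lrfl
theorem f686502 : Led Lsl_et (LP (LK LD1_c7 LD2_c3 LD3_c15)) = v11921 :=
  Lgr Lrot121 (Lpr_dt (K49.f472235 IH) (Lpe (K29.f97718 IH) (Lpe (K29.f14654 IH) (Lpr_et (K29.f14653 IH) (Lpr_gf (K3.f97709 IH) (Lpe (K48.f97716 IH) (Lpr_dt (K46.f97717 IH) (Lpr_gf (K48.f666485 IH) (Lpe (K48.f666487 IH) (Lpr_gf (f686498 IH) (Lpn v11921)))))))))))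
theorem f686505 : Led Lsl_ef (LP (LK LD1_c7 LD2_c3 LD3_c15)) = v11921 :=
  Lgr Lrot88 (Lpr_et (f686502 IH) (Lpn v11921))
theorem f472237 : Led Lsl_et (LP (LK LD1_c6 LD2_c54 LD3_c26)) = (LP (LK LD1_c13 LD2_c7 LD3_c32)) :=
  Lre_e IH (LK LD1_c6 LD2_c54 LD3_c26) (LK LD1_c13 LD2_c7 LD3_c32) Lrfl Lrfl
theorem f686463 : Led Lsl_af (LP (LK LD1_c7 LD2_c2 LD3_c1)) = K49.v11920 :=
  Lgr Lrot31 (Lpe (K35.f625134 IH) (Lpe (K49.f485843 IH) (Lpr_ft (K49.f686459 IH) (Lpn K49.v11920))))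
theorem f686453 : Led Lsl_dt (LP (LK LD1_c7 LD2_c16 LD3_c25)) = K49.v11920 :=
  Lgr Lrot42 (Lpr_df (K49.f686451 IH) (Lpn K49.v11920))
theorem f686464 : Led Lsl_at (LP (LK LD1_c7 LD2_c16 LD3_c30)) = (LP (LK LD1_c7 LD2_c16 LD3_c25)) :=
  Lgr Lrot51 (Lpr_df (K29.f473765 IH) (Lpr_af (f686463 IH) (Lpe (f686453 IH) (Lpn (LP (LK LD1_c7 LD2_c16 LD3_c25))))))
theorem f10151 : Led Lsl_gt (LP (LK LD1_c7 LD2_c16 LD3_c26)) = (LP (LK LD1_c3 LD2_c37 LD3_c61)) :=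
  Lre_g IH (LK LD1_c7 LD2_c16 LD3_c26) (LK LD1_c3 LD2_c37 LD3_c61) Lrfl Lrfl
theorem f686468 : Led Lsl_ff (LP (LK LD1_c7 LD2_c16 LD3_c30)) = (LP (LK LD1_c7 LD2_c16 LD3_c26)) :=
  Lgr Lrot52 (Lpr_at (f686464 IH) (Lpe (K49.f456671 IH) (Lpe (f10151 IH) (Lpn (LP (LK LD1_c7 LD2_c16 LD3_c26))))))
theorem f686472 : Led Lsl_ft (LP (LK LD1_c7 LD2_c16 LD3_c30)) = (LP (LK LD1_c7 LD2_c16 LD3_c26)) :=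
  Lgr Lrot48 (Lpr_ff (f686468 IH) (Lpn (LP (LK LD1_c7 LD2_c16 LD3_c26))))
theorem f686476 : Led Lsl_af (LP (LK LD1_c7 LD2_c16 LD3_c29)) = (LP (LK LD1_c7 LD2_c16 LD3_c26)) :=
  Lgr Lrot31 (Lpe (K49.f457310 IH) (Lpe (K29.f456648 IH) (Lpr_ft (f686472 IH) (Lpn (LP (LK LD1_c7 LD2_c16 LD3_c26))))))
theorem f15334 : Led Lsl_et (LP (LK LD1_c6 LD2_c57 LD3_c5)) = (LP (LK LD1_c3 LD2_c27 LD3_c28)) :=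
  Lre_e IH (LK LD1_c6 LD2_c57 LD3_c5) (LK LD1_c3 LD2_c27 LD3_c28) Lrfl Lrfl
theorem f485882 : Led Lsl_dt (LP (LK LD1_c13 LD2_c12 LD3_c2)) = (LP (LK LD1_c6 LD2_c57 LD3_c5)) :=
  Lre_d IH (LK LD1_c13 LD2_c12 LD3_c2) (LK LD1_c6 LD2_c57 LD3_c5) Lrfl Lrfl
theorem f485891 : Led Lsl_et (LP (LK LD1_c7 LD2_c16 LD3_c29)) = (LP (LK LD1_c13 LD2_c12 LD3_c2)) :=
  Lgr Lrot71 (Lpr_df (K49.f485886 IH) (Lpe (K49.f485880 IH) (Lpe (K33.f15461 IH) (Lpe (f15334 IH) (Lpe (f485882 IH) (Lpn (LP (LK LD1_c13 LD2_c12 LD3_c2))))))))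
theorem f487469 : Led Lsl_et (LP (LK LD1_c13 LD2_c45 LD3_c56)) = (LP (LK LD1_c7 LD2_c16 LD3_c26)) :=
  Lre_e IH (LK LD1_c13 LD2_c45 LD3_c56) (LK LD1_c7 LD2_c16 LD3_c26) Lrfl Lrfl
theorem f686478 : Led Lsl_at (LP (LK LD1_c13 LD2_c12 LD3_c2)) = (LP (LK LD1_c13 LD2_c45 LD3_c56)) :=
  Lgr Lrot80 (Lpe (f485891 IH) (Lpr_af (f686476 IH) (Lpe (f487469 IH) (Lpn (LP (LK LD1_c13 LD2_c45 LD3_c56))))))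
theorem f15335 : Led Lsl_dt (LP (LK LD1_c6 LD2_c57 LD3_c5)) = (LP (LK LD1_c13 LD2_c12 LD3_c2)) :=
  Lre_d IH (LK LD1_c6 LD2_c57 LD3_c5) (LK LD1_c13 LD2_c12 LD3_c2) Lrfl Lrfl
theorem f473266 : Led Lsl_et (LP (LK LD1_c3 LD2_c27 LD3_c28)) = (LP (LK LD1_c6 LD2_c57 LD3_c5)) :=
  Lre_e IH (LK LD1_c3 LD2_c27 LD3_c28) (LK LD1_c6 LD2_c57 LD3_c5) Lrfl Lrfl
theorem f15393 : Led Lsl_et (LP (LK LD1_c13 LD2_c7 LD3_c32)) = (LP (LK LD1_c6 LD2_c54 LD3_c26)) :=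
  Lre_e IH (LK LD1_c13 LD2_c7 LD3_c32) (LK LD1_c6 LD2_c54 LD3_c26) Lrfl Lrfl
theorem f512254 : Led Lsl_at (LP (LK LD1_c6 LD2_c57 LD3_c5)) = (LP (LK LD1_c13 LD2_c7 LD3_c32)) :=
  Lgr Lrot80 (Lpe (f473266 IH) (Lpr_af (K33.f512243 IH) (Lpe (f15393 IH) (Lpn (LP (LK LD1_c13 LD2_c7 LD3_c32))))))
theorem f514494 : Led Lsl_af (LP (LK LD1_c6 LD2_c57 LD3_c5)) = (LP (LK LD1_c13 LD2_c7 LD3_c32)) :=
  Lgr Lrot0 (Lpr_at (f512254 IH) (Lpn (LP (LK LD1_c13 LD2_c7 LD3_c32))))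
theorem f686488 : Led Lsl_df (LP (LK LD1_c13 LD2_c7 LD3_c32)) = (LP (LK LD1_c13 LD2_c45 LD3_c56)) :=
  Lgr Lrot18 (Lpe (f514494 IH) (Lpr_dt (f15335 IH) (Lpr_at (f686478 IH) (Lpn (LP (LK LD1_c13 LD2_c45 LD3_c56))))))
theorem f686495 : Led Lsl_dt (LP (LK LD1_c13 LD2_c7 LD3_c32)) = (LP (LK LD1_c13 LD2_c45 LD3_c56)) :=
  Lgr Lrot42 (Lpr_df (f686488 IH) (Lpn (LP (LK LD1_c13 LD2_c45 LD3_c56))))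
theorem f686507 : Led Lsl_dt (LP (LK LD1_c7 LD2_c16 LD3_c26)) = v11921 :=
  Lgr Lrot77 (Lpe (f487469 IH) (Lpe (f686495 IH) (Lpe (f472237 IH) (Lpe (K49.f472235 IH) (Lpr_ef (f686505 IH) (Lpn v11921))))))
theorem f456665 : Led Lsl_ct (LP (LK LD1_c3 LD2_c37 LD3_c61)) = (LP (LK LD1_c7 LD2_c16 LD3_c27)) :=
  Lre_c IH (LK LD1_c3 LD2_c37 LD3_c61) (LK LD1_c7 LD2_c16 LD3_c27) Lrfl Lrfl
theorem f456718 : Led Lsl_gt (LP (LK LD1_c7 LD2_c16 LD3_c27)) = (LP (LK LD1_c13 LD2_c45 LD3_c57)) :=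
  Lre_g IH (LK LD1_c7 LD2_c16 LD3_c27) (LK LD1_c13 LD2_c45 LD3_c57) Lrfl Lrfl
theorem f786647 : Led Lsl_ct (LP (LK LD1_c13 LD2_c45 LD3_c57)) = v20375 :=
  Lgr Lrot151 (Lpe (f456718 IH) (Lpe (f456665 IH) (Lpe (f10151 IH) (Lpr_dt (f686507 IH) (Lpe (f686498 IH) (Lpe (K48.f628024 IH) (Lpr_gt (K46.f628166 IH) (Lpr_ct (f686548 IH) (Lpr_dt (f786645 IH) (Lpn v20375))))))))))
theorem f654709 : Led Lsl_at (LP (LK LD1_c7 LD2_c4 LD3_c13)) = (LP (LK LD1_c3 LD2_c31 LD3_c18)) :=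
  Lgr Lrot100 (Lpr_af (K46.f654707 IH) (Lpn (LP (LK LD1_c3 LD2_c31 LD3_c18))))
theorem f686552 : Led Lsl_at (LP (LK LD1_c7 LD2_c4 LD3_c22)) = v11923 :=
  Lgr Lrot80 (Lpe (K48.f525813 IH) (Lpe (f654709 IH) (Lpr_ef (f686551 IH) (Lpn v11923))))
theorem f466236 : Led Lsl_dt (LP (LK LD1_c13 LD2_c24 LD3_c29)) = (LP (LK LD1_c7 LD2_c4 LD3_c22)) :=
  Lre_d IH (LK LD1_c13 LD2_c24 LD3_c29) (LK LD1_c7 LD2_c4 LD3_c22) Lrfl Lrfl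
theorem f786646 : Led Lsl_af (LP (LK LD1_c13 LD2_c24 LD3_c29)) = v20375 :=
  Lgr Lrot117 (Lpr_dt (f466236 IH) (Lpr_at (f686552 IH) (Lpr_dt (f786645 IH) (Lpn v20375))))
theorem f466234 : Led Lsl_gt (LP (LK LD1_c7 LD2_c53 LD3_c12)) = (LP (LK LD1_c13 LD2_c24 LD3_c29)) :=
  Lgr Lrot139 (Lpe (K35.f12237 IH) (Lpe (K33.f12224 IH) (Lpe (K29.f12293 IH) (Lpr_dt (K5.f11842 IH) (Lpe (K3.f97667 IH) (Lpe (K3.f94572 IH) (Lpr_et (K2.f94575 IH) (Lpr_gf (K28.f466223 IH) (Lpe (K48.f466231 IH) (Lpr_dt (K48.f466232 IH) (Lpn (LP (LK LD1_c13 LD2_c24 LD3_c29)))))))))))))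
theorem f6649 : Led Lsl_ct (LP (LK LD1_c0 LD2_c49 LD3_c35)) = (LP (LK LD1_c1 LD2_c45 LD3_c53)) :=
  Lre_c IH (LK LD1_c0 LD2_c49 LD3_c35) (LK LD1_c1 LD2_c45 LD3_c53) Lrfl Lrfl
theorem f456905 : Led Lsl_ct (LP (LK LD1_c7 LD2_c16 LD3_c31)) = (LP (LK LD1_c3 LD2_c38 LD3_c0)) :=
  Lre_c IH (LK LD1_c7 LD2_c16 LD3_c31) (LK LD1_c3 LD2_c38 LD3_c0) Lrfl Lrfl
theorem f456906 : Led Lsl_gt (LP (LK LD1_c13 LD2_c46 LD3_c6)) = (LP (LK LD1_c7 LD2_c16 LD3_c31)) :=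
  Lre_g IH (LK LD1_c13 LD2_c46 LD3_c6) (LK LD1_c7 LD2_c16 LD3_c31) Lrfl Lrfl
theorem f480793 : Led Lsl_ct (LP (LK LD1_c13 LD2_c24 LD3_c29)) = (LP (LK LD1_c13 LD2_c46 LD3_c6)) :=
  Lgr Lrot152 (Lpe (f466234 IH) (Lpe (K35.f12237 IH) (Lpr_gt (K33.f477155 IH) (Lpr_ct (K33.f136649 IH) (Lpqs (K29.f480729 IH) (Lpe (K29.f456903 IH) (Lpr_ct (f6649 IH) (Lpe (K29.f456647 IH) (Lpe (f456905 IH) (Lpe (f456906 IH) (Lpn (LP (LK LD1_c13 LD2_c46 LD3_c6)))))))))))))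
theorem f786648 : Led Lsl_af (LP (LK LD1_c13 LD2_c45 LD3_c57)) = (LP (LK LD1_c13 LD2_c46 LD3_c6)) :=
  Lgr Lrot68 (Lpr_ct (f786647 IH) (Lpe (f786646 IH) (Lpr_ct (f480793 IH) (Lpn (LP (LK LD1_c13 LD2_c46 LD3_c6))))))
theorem f786649 : Led Lsl_at (LP (LK LD1_c13 LD2_c46 LD3_c6)) = (LP (LK LD1_c13 LD2_c45 LD3_c57)) :=
  Leop (Lpr_af (f786648 IH) (Lpn (LP (LK LD1_c13 LD2_c46 LD3_c6))))
theorem seed_1523 : LEOK LG_a (LK LD1_c13 LD2_c46 LD3_c6) :=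
  Leoe_a (LK LD1_c13 LD2_c46 LD3_c6) (f786649 IH)
def v20378 : LQ := Led Lsl_ct (LP (LK LD1_c6 LD2_c55 LD3_c36))
theorem f786688 : Led Lsl_ct (LP (LK LD1_c6 LD2_c55 LD3_c36)) = v20378 :=
  Lrfl
theorem f786689 : Led Lsl_cf (LP (LK LD1_c6 LD2_c55 LD3_c36)) = v20378 :=
  Lgr Lrot11 (Lpr_ct (f786688 IH) (Lpn v20378))
def v2649 : LQ := Led Lsl_ft (LP (LK LD1_c1 LD2_c50 LD3_c41))
theorem f530080 : Led Lsl_ft (LP (LK LD1_c1 LD2_c50 LD3_c41)) = v2649 :=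
  Lrfl
theorem f530084 : Led Lsl_ff (LP (LK LD1_c1 LD2_c50 LD3_c41)) = v2649 :=
  Lgr Lrot3 (Lpr_ft (f530080 IH) (Lpn v2649))
theorem f440576 : Led Lsl_at (LP (LK LD1_c1 LD2_c50 LD3_c41)) = (LP (LK LD1_c3 LD2_c42 LD3_c25)) :=
  Lgr Lrot107 (Lpr_cf (K3.f11968 IH) (Lpr_af (K3.f97841 IH) (Lpr_cf (K29.f440574 IH) (Lpn (LP (LK LD1_c3 LD2_c42 LD3_c25))))))
theorem f530088 : Led Lsl_gf (LP (LK LD1_c1 LD2_c54 LD3_c17)) = v2649 :=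
  Lgr Lrot47 (Lpe (K33.f480544 IH) (Lpe (f440576 IH) (Lpr_ff (f530084 IH) (Lpn v2649))))
theorem f530086 : Led Lsl_ct (LP (LK LD1_c3 LD2_c27 LD3_c15)) = v2649 :=
  Lgr Lrot40 (Lpe (K29.f12012 IH) (Lpe (K3.f11987 IH) (Lpr_ff (f530084 IH) (Lpn v2649))))
theorem f479202 : Led Lsl_af (LP (LK LD1_c3 LD2_c27 LD3_c15)) = (LP (LK LD1_c3 LD2_c37 LD3_c60)) :=
  Lgr Lrot0 (Lpr_at (K29.f479175 IH) (Lpn (LP (LK LD1_c3 LD2_c37 LD3_c60))))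
theorem f479298 : Led Lsl_gf (LP (LK LD1_c3 LD2_c27 LD3_c15)) = (LP (LK LD1_c3 LD2_c37 LD3_c59)) :=
  Lgr Lrot76 (Lpr_af (f479202 IH) (Lpe (K46.f479215 IH) (Lpr_gt (K29.f479294 IH) (Lpn (LP (LK LD1_c3 LD2_c37 LD3_c59))))))
theorem f473768 : Led Lsl_ct (LP (LK LD1_c7 LD2_c16 LD3_c30)) = (LP (LK LD1_c13 LD2_c46 LD3_c4)) :=
  Lre_c IH (LK LD1_c7 LD2_c16 LD3_c30) (LK LD1_c13 LD2_c46 LD3_c4) Lrfl Lrfl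
theorem f786693 : Led Lsl_gt (LP (LK LD1_c13 LD2_c46 LD3_c4)) = v20378 :=
  Lgr Lrot150 (Lpe (f473768 IH) (Lpr_gf (K29.f479292 IH) (Lpe (K29.f457271 IH) (Lpe (f479298 IH) (Lpr_ct (f530086 IH) (Lpe (f530088 IH) (Lpe (K29.f477002 IH) (Lpe (K33.f455110 IH) (Lpr_cf (f786689 IH) (Lpn v20378))))))))))
theorem f456713 : Led Lsl_bt (LP (LK LD1_c13 LD2_c45 LD3_c44)) = (LP (LK LD1_c7 LD2_c16 LD3_c22)) :=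
  Lre_b IH (LK LD1_c13 LD2_c45 LD3_c44) (LK LD1_c7 LD2_c16 LD3_c22) Lrfl Lrfl
theorem f457320 : Led Lsl_ct (LP (LK LD1_c13 LD2_c45 LD3_c44)) = (LP (LK LD1_c23 LD2_c12 LD3_c52)) :=
  Lre_c IH (LK LD1_c13 LD2_c45 LD3_c44) (LK LD1_c23 LD2_c12 LD3_c52) Lrfl Lrfl
theorem f457342 : Led Lsl_gt (LP (LK LD1_c30 LD2_c56 LD3_c43)) = (LP (LK LD1_c23 LD2_c12 LD3_c52)) :=
  Lre_g IH (LK LD1_c30 LD2_c56 LD3_c43) (LK LD1_c23 LD2_c12 LD3_c52) Lrfl Lrfl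
theorem f478236 : Led Lsl_ct (LP (LK LD1_c13 LD2_c45 LD3_c48)) = (LP (LK LD1_c13 LD2_c39 LD3_c27)) :=
  Lgr Lrot59 (Lpr_cf (K29.f478233 IH) (Lpn (LP (LK LD1_c13 LD2_c39 LD3_c27))))
theorem f116733 : Led Lsl_gt (LP (LK LD1_c3 LD2_c48 LD3_c35)) = (LP (LK LD1_c1 LD2_c51 LD3_c19)) :=
  Lre_g IH (LK LD1_c3 LD2_c48 LD3_c35) (LK LD1_c1 LD2_c51 LD3_c19) Lrfl Lrfl
theorem f467914 : Led Lsl_ct (LP (LK LD1_c7 LD2_c38 LD3_c12)) = (LP (LK LD1_c3 LD2_c48 LD3_c35)) :=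
  Lre_c IH (LK LD1_c7 LD2_c38 LD3_c12) (LK LD1_c3 LD2_c48 LD3_c35) Lrfl Lrfl
theorem f487277 : Led Lsl_bf (LP (LK LD1_c13 LD2_c8 LD3_c2)) = (LP (LK LD1_c7 LD2_c38 LD3_c12)) :=
  Lgr Lrot34 (Lpe (K48.f15151 IH) (Lpe (K4.f15128 IH) (Lpr_ct (K29.f15118 IH) (Lpqs (K29.f481858 IH) (Lpe (K29.f455886 IH) (Lpe (K29.f10164 IH) (Lpr_gf (K28.f467907 IH) (Lpe (K33.f130006 IH) (Lpr_ct (K33.f130002 IH) (Lpe (f116733 IH) (Lpe (f467914 IH) (Lpn (LP (LK LD1_c7 LD2_c38 LD3_c12))))))))))))))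
theorem f487279 : Led Lsl_bt (LP (LK LD1_c13 LD2_c8 LD3_c2)) = (LP (LK LD1_c7 LD2_c38 LD3_c12)) :=
  Lgr Lrot127 (Lpr_bf (f487277 IH) (Lpn (LP (LK LD1_c7 LD2_c38 LD3_c12))))
theorem f487296 : Led Lsl_gf (LP (LK LD1_c6 LD2_c43 LD3_c24)) = (LP (LK LD1_c7 LD2_c38 LD3_c12)) :=
  Lgr Lrot124 (Lpr_bf (K28.f89796 IH) (Lpr_ct (K37.f89798 IH) (Lpe (K41.f481436 IH) (Lpe (K43.f486972 IH) (Lpr_bt (K37.f476982 IH) (Lpr_gt (K37.f135959 IH) (Lpr_ct (K37.f476974 IH) (Lpe (K48.f476990 IH) (Lpe (K48.f486197 IH) (Lpr_bt (f487279 IH) (Lpn (LP (LK LD1_c7 LD2_c38 LD3_c12)))))))))))))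
theorem f487281 : Led Lsl_ct (LP (LK LD1_c3 LD2_c48 LD3_c35)) = (LP (LK LD1_c7 LD2_c38 LD3_c12)) :=
  Lre_c IH (LK LD1_c3 LD2_c48 LD3_c35) (LK LD1_c7 LD2_c38 LD3_c12) Lrfl Lrfl
theorem f487295 : Led Lsl_bt (LP (LK LD1_c3 LD2_c48 LD3_c35)) = (LP (LK LD1_c7 LD2_c38 LD3_c11)) :=
  Lre_b IH (LK LD1_c3 LD2_c48 LD3_c35) (LK LD1_c7 LD2_c38 LD3_c11) Lrfl Lrfl
theorem f487298 : Led Lsl_gt (LP (LK LD1_c14 LD2_c23 LD3_c19)) = (LP (LK LD1_c7 LD2_c38 LD3_c11)) :=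
  Lre_g IH (LK LD1_c14 LD2_c23 LD3_c19) (LK LD1_c7 LD2_c38 LD3_c11) Lrfl Lrfl
theorem f560816 : Led Lsl_bf (LP (LK LD1_c14 LD2_c23 LD3_c19)) = (LP (LK LD1_c7 LD2_c38 LD3_c38)) :=
  Lgr Lrot156 (Lpr_gt (f487298 IH) (Lpe (f487295 IH) (Lpr_ct (f487281 IH) (Lpe (f487296 IH) (Lpr_cf (K37.f89809 IH) (Lpr_bt (K3.f97851 IH) (Lpe (K29.f478231 IH) (Lpr_ct (f478236 IH) (Lpr_gt (K55.f560810 IH) (Lpe (f486252 IH) (Lpn (LP (LK LD1_c7 LD2_c38 LD3_c38)))))))))))))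
theorem f560824 : Led Lsl_ft (LP (LK LD1_c14 LD2_c23 LD3_c19)) = (LP (LK LD1_c14 LD2_c10 LD3_c17)) :=
  Lgr Lrot75 (Lpr_bf (f560816 IH) (Lpr_ff (f486324 IH) (Lpr_bf (K33.f89738 IH) (Lpn (LP (LK LD1_c14 LD2_c10 LD3_c17))))))
theorem f560835 : Led Lsl_gt (LP (LK LD1_c7 LD2_c38 LD3_c11)) = (LP (LK LD1_c7 LD2_c35 LD3_c55)) :=
  Lgr Lrot46 (Lpe (f487298 IH) (Lpr_ft (f560824 IH) (Lpr_at (K8.f162126 IH) (Lpn (LP (LK LD1_c7 LD2_c35 LD3_c55))))))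
theorem f560826 : Led Lsl_dt (LP (LK LD1_c7 LD2_c38 LD3_c11)) = (LP (LK LD1_c14 LD2_c23 LD3_c21)) :=
  Lre_d IH (LK LD1_c7 LD2_c38 LD3_c11) (LK LD1_c14 LD2_c23 LD3_c21) Lrfl Lrfl
theorem f560839 : Led Lsl_gt (LP (LK LD1_c14 LD2_c23 LD3_c21)) = (LP (LK LD1_c24 LD2_c1 LD3_c42)) :=
  Lre_g IH (LK LD1_c14 LD2_c23 LD3_c21) (LK LD1_c24 LD2_c1 LD3_c42) Lrfl Lrfl
theorem f457337 : Led Lsl_ct (LP (LK LD1_c23 LD2_c12 LD3_c52)) = (LP (LK LD1_c13 LD2_c45 LD3_c44)) :=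
  Lre_c IH (LK LD1_c23 LD2_c12 LD3_c52) (LK LD1_c13 LD2_c45 LD3_c44) Lrfl Lrfl
theorem f560840 : Led Lsl_ct (LP (LK LD1_c24 LD2_c1 LD3_c42)) = (LP (LK LD1_c30 LD2_c56 LD3_c43)) :=
  Lgr Lrot152 (Lpe (f560839 IH) (Lpe (f560826 IH) (Lpr_gt (f560835 IH) (Lpr_ct (K33.f144979 IH) (Lpe (K33.f486776 IH) (Lpr_ct (K33.f457333 IH) (Lpe (K33.f457336 IH) (Lpe (f457337 IH) (Lpe (f457342 IH) (Lpn (LP (LK LD1_c30 LD2_c56 LD3_c43))))))))))))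
theorem f528957 : Led Lsl_bt (LP (LK LD1_c6 LD2_c55 LD3_c36)) = (LP (LK LD1_c13 LD2_c9 LD3_c18)) :=
  Lre_b IH (LK LD1_c6 LD2_c55 LD3_c36) (LK LD1_c13 LD2_c9 LD3_c18) Lrfl Lrfl
theorem f479985 : Led Lsl_gt (LP (LK LD1_c13 LD2_c9 LD3_c18)) = (LP (LK LD1_c22 LD2_c21 LD3_c56)) :=
  Lre_g IH (LK LD1_c13 LD2_c9 LD3_c18) (LK LD1_c22 LD2_c21 LD3_c56) Lrfl Lrfl
theorem f786694 : Led Lsl_bt (LP (LK LD1_c24 LD2_c1 LD3_c42)) = (LP (LK LD1_c22 LD2_c21 LD3_c56)) :=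
  Lgr Lrot92 (Lpr_ct (f560840 IH) (Lpr_gt (f457342 IH) (Lpe (f457320 IH) (Lpr_bt (f456713 IH) (Lpe (K29.f479292 IH) (Lpr_ct (f473768 IH) (Lpr_gt (f786693 IH) (Lpe (f786688 IH) (Lpr_bt (f528957 IH) (Lpr_gt (f479985 IH) (Lpn (LP (LK LD1_c22 LD2_c21 LD3_c56)))))))))))))
theorem f786695 : Led Lsl_bt (LP (LK LD1_c24 LD2_c1 LD3_c42)) = (LP (LK LD1_c22 LD2_c21 LD3_c56)) :=
  Leop (Lpe (f786694 IH) (Lpn (LP (LK LD1_c24 LD2_c1 LD3_c42))))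
theorem seed_1524 : LEOK LG_b (LK LD1_c24 LD2_c1 LD3_c42) :=
  Leoe_b (LK LD1_c24 LD2_c1 LD3_c42) (f786695 IH)
def v20398 : LQ := Led Lsl_dt (LP (LK LD1_c6 LD2_c56 LD3_c10))
theorem f786783 : Led Lsl_dt (LP (LK LD1_c6 LD2_c56 LD3_c10)) = v20398 :=
  Lrfl
def v597 : LQ := Led Lsl_dt (LP (LK LD1_c0 LD2_c46 LD3_c31))
theorem f455099 : Led Lsl_dt (LP (LK LD1_c0 LD2_c46 LD3_c31)) = v597 :=
  Lrfl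
def v3241 : LQ := Led Lsl_gt v597
theorem f624749 : Led Lsl_gt v597 = v3241 :=
  Lrfl
def v10237 : LQ := Led Lsl_dt v3241
theorem f679371 : Led Lsl_dt v3241 = v10237 :=
  Lrfl
theorem f786789 : Led Lsl_cf v10237 = v20398 :=
  Lgr Lrot14 (Lpe (f679371 IH) (Lpe (f624749 IH) (Lpe (f455099 IH) (Lpqs (K33.f484140 IH) (Lpe (K33.f456738 IH) (Lpr_ct (K29.f5933 IH) (Lpe (K29.f467245 IH) (Lpr_dt (K48.f89990 IH) (Lpr_gt (K48.f458379 IH) (Lpr_dt (f786783 IH) (Lpn v20398)))))))))))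
theorem f455101 : Led Lsl_ef (LP (LK LD1_c1 LD2_c38 LD3_c35)) = v597 :=
  Lgr Lrot73 (Lpr_dt (K5.f92033 IH) (Lpr_et (K3.f18153 IH) (Lpr_dt (K2.f90847 IH) (Lpr_et (K5.f90860 IH) (Lpr_dt (f455099 IH) (Lpn v597))))))
theorem f455102 : Led Lsl_et (LP (LK LD1_c1 LD2_c38 LD3_c35)) = v597 :=
  Lgr Lrot87 (Lpr_ef (f455101 IH) (Lpn v597))
def v689 : LQ := Led Lsl_et (LP (LK LD1_c0 LD2_c48 LD3_c49))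
theorem f456784 : Led Lsl_et (LP (LK LD1_c0 LD2_c48 LD3_c49)) = v689 :=
  Lrfl
def v3279 : LQ := Led Lsl_gf v689
theorem f624960 : Led Lsl_gf v689 = v3279 :=
  Lrfl
def v8948 : LQ := Led Lsl_et K33.v2319
theorem f672890 : Led Lsl_et K33.v2319 = v8948 :=
  Lrfl
def v6824 : LQ := Led Lsl_dt (LP (LK LD1_c3 LD2_c31 LD3_c10))
theorem f658723 : Led Lsl_dt (LP (LK LD1_c3 LD2_c31 LD3_c10)) = v6824 :=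
  Lrfl
theorem f514616 : Led Lsl_df (LP (LK LD1_c1 LD2_c42 LD3_c10)) = K33.v2319 :=
  Lgr Lrot38 (Lpr_dt (K33.f514615 IH) (Lpn K33.v2319))
theorem f658727 : Led Lsl_ff K33.v2319 = v6824 :=
  Lgr Lrot19 (Lpe (f514616 IH) (Lpr_ft (K46.f514608 IH) (Lpq (K46.f654671 IH) (Lpr_dt (f658723 IH) (Lpn v6824)))))
theorem f657667 : Led Lsl_ef (LP (LK LD1_c3 LD2_c25 LD3_c52)) = K46.v6685 :=
  Lgr Lrot88 (Lpr_et (K46.f657664 IH) (Lpn K46.v6685))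
theorem f91602 : Led Lsl_et (LP (LK LD1_c6 LD2_c55 LD3_c46)) = (LP (LK LD1_c3 LD2_c26 LD3_c58)) :=
  Lre_e IH (LK LD1_c6 LD2_c55 LD3_c46) (LK LD1_c3 LD2_c26 LD3_c58) Lrfl Lrfl
theorem f657666 : Led Lsl_df (LP (LK LD1_c6 LD2_c55 LD3_c46)) = K46.v6685 :=
  Lgr Lrot70 (Lpr_et (f91602 IH) (Lpr_dt (K29.f485844 IH) (Lpr_et (K47.f481867 IH) (Lpr_dt (K33.f94304 IH) (Lpr_et (K46.f657664 IH) (Lpn K46.v6685))))))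
theorem f658729 : Led Lsl_gt (LP (LK LD1_c6 LD2_c55 LD3_c46)) = v6824 :=
  Lgr Lrot112 (Lpr_df (f657666 IH) (Lpe (f657667 IH) (Lpr_gf (K33.f511463 IH) (Lpe (K33.f511384 IH) (Lpr_dt (K24.f90875 IH) (Lpr_gf (K32.f511448 IH) (Lpe (K32.f511451 IH) (Lpr_gf (K28.f464358 IH) (Lpe (K28.f90865 IH) (Lpr_dt (f658723 IH) (Lpn v6824)))))))))))
theorem f485851 : Led Lsl_et (LP (LK LD1_c3 LD2_c26 LD3_c58)) = (LP (LK LD1_c6 LD2_c55 LD3_c46)) :=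
  Lre_e IH (LK LD1_c3 LD2_c26 LD3_c58) (LK LD1_c6 LD2_c55 LD3_c46) Lrfl Lrfl
theorem f511674 : Led Lsl_gt (LP (LK LD1_c3 LD2_c25 LD3_c52)) = K33.v2282 :=
  Lgr Lrot139 (Lpe (K33.f94304 IH) (Lpe (K29.f94303 IH) (Lpe (K4.f94240 IH) (Lpr_dt (K2.f14988 IH) (Lpe (K2.f20200 IH) (Lpe (K0.f11976 IH) (Lpr_et (K2.f14624 IH) (Lpe (K24.f16742 IH) (Lpe (K33.f17106 IH) (Lpr_dt (K33.f511670 IH) (Lpn K33.v2282)))))))))))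
theorem f657441 : Led Lsl_gf (LP (LK LD1_c3 LD2_c25 LD3_c53)) = K46.v6644 :=
  Lgr Lrot141 (Lpe (K29.f485778 IH) (Lpr_dt (K33.f94304 IH) (Lpr_gt (f511674 IH) (Lpe (K33.f511670 IH) (Lpr_et (K33.f17106 IH) (Lpr_gt (K24.f16742 IH) (Lpr_dt (K2.f19071 IH) (Lpr_gt (K28.f18584 IH) (Lpe (K28.f17091 IH) (Lpr_et (K46.f657435 IH) (Lpn K46.v6644)))))))))))
def v1017 : LQ := Led Lsl_ct K34.v175
theorem f491025 : Led Lsl_ct K34.v175 = v1017 :=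
  Lrfl
def v896 : LQ := Led Lsl_ct (LP (LK LD1_c0 LD2_c53 LD3_c50))
theorem f490305 : Led Lsl_ct (LP (LK LD1_c0 LD2_c53 LD3_c50)) = v896 :=
  Lrfl
theorem f490306 : Led Lsl_cf (LP (LK LD1_c0 LD2_c53 LD3_c50)) = v896 :=
  Lgr Lrot11 (Lpr_ct (f490305 IH) (Lpn v896))
theorem f491028 : Led Lsl_gf v896 = v1017 :=
  Lgr Lrot104 (Lpe (f490306 IH) (Lpe (K6.f123369 IH) (Lpr_cf (K6.f123354 IH) (Lpr_gf (K24.f145389 IH) (Lpq (K24.f455968 IH) (Lpe (K24.f450896 IH) (Lpe (K24.f5921 IH) (Lpe (K28.f5925 IH) (Lpr_gt (K34.f450916 IH) (Lpr_ct (f491025 IH) (Lpn v1017)))))))))))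
theorem f91681 : Led Lsl_ct (LP (LK LD1_c6 LD2_c55 LD3_c20)) = (LP (LK LD1_c3 LD2_c26 LD3_c45)) :=
  Lre_c IH (LK LD1_c6 LD2_c55 LD3_c20) (LK LD1_c3 LD2_c26 LD3_c45) Lrfl Lrfl
theorem f476763 : Led Lsl_gt (LP (LK LD1_c7 LD2_c24 LD3_c29)) = (LP (LK LD1_c6 LD2_c55 LD3_c20)) :=
  Lgr Lrot150 (Lpe (K48.f437913 IH) (Lpr_gf (K29.f437911 IH) (Lpe (K29.f145357 IH) (Lpr_gt (K33.f123364 IH) (Lpr_ct (K33.f123365 IH) (Lpr_gt (K33.f476759 IH) (Lpr_ct (K29.f132190 IH) (Lpe (K48.f91699 IH) (Lpe (f91681 IH) (Lpn (LP (LK LD1_c6 LD2_c55 LD3_c20))))))))))))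
theorem f91687 : Led Lsl_ct (LP (LK LD1_c3 LD2_c26 LD3_c45)) = (LP (LK LD1_c6 LD2_c55 LD3_c20)) :=
  Lre_c IH (LK LD1_c3 LD2_c26 LD3_c45) (LK LD1_c6 LD2_c55 LD3_c20) Lrfl Lrfl
theorem f91604 : Led Lsl_bt (LP (LK LD1_c3 LD2_c26 LD3_c45)) = (LP (LK LD1_c1 LD2_c40 LD3_c6)) :=
  Lre_b IH (LK LD1_c3 LD2_c26 LD3_c45) (LK LD1_c1 LD2_c40 LD3_c6) Lrfl Lrfl
theorem f491029 : Led Lsl_gf K46.v1016 = (LP (LK LD1_c1 LD2_c40 LD3_c6)) :=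
  Lgr Lrot124 (Lpe (K46.f491021 IH) (Lpr_ct (f491025 IH) (Lpe (f491028 IH) (Lpe (f490305 IH) (Lpr_bt (K47.f145401 IH) (Lpe (K29.f437911 IH) (Lpr_ct (K48.f437913 IH) (Lpr_gt (f476763 IH) (Lpe (f91687 IH) (Lpr_bt (f91604 IH) (Lpn (LP (LK LD1_c1 LD2_c40 LD3_c6)))))))))))))
theorem f17164 : Led Lsl_ef (LP (LK LD1_c1 LD2_c54 LD3_c34)) = (LP (LK LD1_c1 LD2_c39 LD3_c18)) :=
  Lgr Lrot29 (Lpr_bt (K24.f14910 IH) (Lpr_et (K24.f14981 IH) (Lpe (K3.f9824 IH) (Lpn (LP (LK LD1_c1 LD2_c39 LD3_c18))))))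
def v986 : LQ := Led Lsl_bt K24.v157
theorem f490878 : Led Lsl_bt K24.v157 = v986 :=
  Lrfl
theorem f490859 : Led Lsl_bf K29.v156 = K49.v983 :=
  Lgr Lrot24 (Lpr_bt (K49.f490858 IH) (Lpn K49.v983))
theorem f490880 : Led Lsl_ff K49.v983 = v986 :=
  Lgr Lrot25 (Lpe (f490859 IH) (Lpe (K29.f457347 IH) (Lpr_bt (f490878 IH) (Lpn v986))))
theorem f493341 : Led Lsl_bt K24.v281 = K49.v1140 :=
  Lgr Lrot119 (Lpe (K24.f451506 IH) (Lpr_bf (K47.f451501 IH) (Lpr_ef (K49.f493340 IH) (Lpn K49.v1140))))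
theorem f490879 : Led Lsl_bf K24.v157 = v986 :=
  Lgr Lrot24 (Lpr_bt (f490878 IH) (Lpn v986))
theorem f493342 : Led Lsl_df v986 = K49.v1140 :=
  Lgr Lrot12 (Lpe (f490879 IH) (Lpr_dt (K24.f451509 IH) (Lpr_bt (f493341 IH) (Lpn K49.v1140))))
theorem f626605 : Led Lsl_ff K49.v1140 = K49.v3652 :=
  Lgr Lrot19 (Lpe (f493342 IH) (Lpe (f490880 IH) (Lpr_dt (K49.f626601 IH) (Lpn K49.v3652))))
theorem f626607 : Led Lsl_et (LP (LK LD1_c3 LD2_c38 LD3_c2)) = K49.v3652 :=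
  Lgr Lrot69 (Lpe (K28.f457370 IH) (Lpe (K28.f456268 IH) (Lpr_ff (K29.f457107 IH) (Lpqs (K29.f457212 IH) (Lpr_ef (K49.f493340 IH) (Lpr_ff (f626605 IH) (Lpn K49.v3652)))))))
theorem f15825 : Led Lsl_dt (LP (LK LD1_c1 LD2_c38 LD3_c51)) = (LP (LK LD1_c3 LD2_c24 LD3_c55)) :=
  Lre_d IH (LK LD1_c1 LD2_c38 LD3_c51) (LK LD1_c3 LD2_c24 LD3_c55) Lrfl Lrfl
theorem f92010 : Led Lsl_et (LP (LK LD1_c1 LD2_c38 LD3_c51)) = (LP (LK LD1_c3 LD2_c24 LD3_c56)) :=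
  Lre_e IH (LK LD1_c1 LD2_c38 LD3_c51) (LK LD1_c3 LD2_c24 LD3_c56) Lrfl Lrfl
theorem f626609 : Led Lsl_gt (LP (LK LD1_c3 LD2_c24 LD3_c56)) = K49.v3652 :=
  Lgr Lrot131 (Lpe (f92010 IH) (Lpr_dt (f15825 IH) (Lpe (K28.f458374 IH) (Lpr_df (K28.f91500 IH) (Lpr_gf (K29.f479362 IH) (Lpe (K35.f90877 IH) (Lpr_dt (K28.f91989 IH) (Lpe (K29.f473175 IH) (Lpe (K28.f456912 IH) (Lpr_et (f626607 IH) (Lpn K49.v3652)))))))))))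
theorem f468935 : Led Lsl_dt (LP (LK LD1_c13 LD2_c4 LD3_c10)) = (LP (LK LD1_c6 LD2_c52 LD3_c18)) :=
  Lre_d IH (LK LD1_c13 LD2_c4 LD3_c10) (LK LD1_c6 LD2_c52 LD3_c18) Lrfl Lrfl
theorem f463409 : Led Lsl_ct (LP (LK LD1_c3 LD2_c24 LD3_c56)) = (LP (LK LD1_c6 LD2_c52 LD3_c18)) :=
  Lre_c IH (LK LD1_c3 LD2_c24 LD3_c56) (LK LD1_c6 LD2_c52 LD3_c18) Lrfl Lrfl
theorem f485638 : Led Lsl_dt (LP (LK LD1_c3 LD2_c35 LD3_c3)) = (LP (LK LD1_c3 LD2_c24 LD3_c56)) :=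
  Lgr Lrot105 (Lpr_gf (K33.f484159 IH) (Lpe (K33.f15108 IH) (Lpe (K33.f15107 IH) (Lpe (K33.f15162 IH) (Lpr_gt (K29.f15189 IH) (Lpr_dt (K29.f15190 IH) (Lpr_gt (K29.f468933 IH) (Lpr_dt (f468935 IH) (Lpe (f463409 IH) (Lpn (LP (LK LD1_c3 LD2_c24 LD3_c56))))))))))))
theorem f478925 : Led Lsl_df (LP (LK LD1_c7 LD2_c18 LD3_c36)) = (LP (LK LD1_c7 LD2_c43 LD3_c32)) :=
  Lgr Lrot38 (Lpr_dt (K49.f478917 IH) (Lpn (LP (LK LD1_c7 LD2_c43 LD3_c32))))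
theorem f478908 : Led Lsl_ct (LP (LK LD1_c7 LD2_c18 LD3_c36)) = (LP (LK LD1_c3 LD2_c39 LD3_c6)) :=
  Lre_c IH (LK LD1_c7 LD2_c18 LD3_c36) (LK LD1_c3 LD2_c39 LD3_c6) Lrfl Lrfl
theorem f626042 : Led Lsl_df (LP (LK LD1_c3 LD2_c39 LD3_c6)) = K35.v3511 :=
  Lgr Lrot84 (Lpe (f478908 IH) (Lpr_df (f478925 IH) (Lpe (K49.f91768 IH) (Lpe (K49.f91767 IH) (Lpe (K2.f91751 IH) (Lpe (K34.f451206 IH) (Lpr_gt (K28.f17263 IH) (Lpr_dt (K35.f490370 IH) (Lpr_gt (K35.f626040 IH) (Lpn K35.v3511))))))))))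
def v3322 : LQ := Led Lsl_gt K29.v716
theorem f625128 : Led Lsl_gt K29.v716 = v3322 :=
  Lrfl
theorem f626610 : Led Lsl_et K48.v2745 = v3322 :=
  Lgr Lrot122 (Lpe (K48.f531723 IH) (Lpr_gt (K33.f511680 IH) (Lpr_df (f626042 IH) (Lpe (K46.f626046 IH) (Lpe (K33.f484159 IH) (Lpr_dt (f485638 IH) (Lpr_gt (f626609 IH) (Lpe (K49.f626601 IH) (Lpe (K49.f490860 IH) (Lpr_gt (f625128 IH) (Lpn v3322)))))))))))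
theorem f626611 : Led Lsl_ef K48.v2745 = v3322 :=
  Lgr Lrot88 (Lpr_et (f626610 IH) (Lpn v3322))
theorem f657442 : Led Lsl_dt v3322 = K46.v6644 :=
  Lgr Lrot56 (Lpe (f626611 IH) (Lpe (K48.f531720 IH) (Lpr_ef (f17164 IH) (Lpr_dt (K1.f9822 IH) (Lpe (K2.f92036 IH) (Lpe (K7.f91600 IH) (Lpr_et (K29.f91493 IH) (Lpe (f491029 IH) (Lpr_dt (K46.f626985 IH) (Lpr_gt (K46.f657440 IH) (Lpn K46.v6644)))))))))))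
theorem f658730 : Led Lsl_et (LP (LK LD1_c3 LD2_c35 LD3_c3)) = v6824 :=
  Lgr Lrot122 (Lpr_dt (f485638 IH) (Lpr_gt (f626609 IH) (Lpe (K49.f626601 IH) (Lpe (K49.f490860 IH) (Lpr_gt (f625128 IH) (Lpr_dt (f657442 IH) (Lpe (f657441 IH) (Lpe (K29.f485844 IH) (Lpr_et (f485851 IH) (Lpr_gt (f658729 IH) (Lpn v6824)))))))))))
def v6943 : LQ := Led Lsl_et (LP (LK LD1_c3 LD2_c34 LD3_c55))
theorem f659585 : Led Lsl_et (LP (LK LD1_c3 LD2_c34 LD3_c55)) = v6943 :=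
  Lrfl
theorem f659586 : Led Lsl_ef (LP (LK LD1_c3 LD2_c34 LD3_c55)) = v6943 :=
  Lgr Lrot88 (Lpr_et (f659585 IH) (Lpn v6943))
theorem f672893 : Led Lsl_ff v6943 = v8948 :=
  Lgr Lrot72 (Lpe (f659586 IH) (Lpe (K49.f657380 IH) (Lpr_et (f658730 IH) (Lpe (f658727 IH) (Lpr_et (f672890 IH) (Lpn v8948))))))
theorem f672895 : Led Lsl_ft v6943 = v8948 :=
  Lgr Lrot48 (Lpr_ff (f672893 IH) (Lpn v8948))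
theorem f514609 : Led Lsl_ff (LP (LK LD1_c1 LD2_c42 LD3_c10)) = K46.v2317 :=
  Lgr Lrot3 (Lpr_ft (K46.f514608 IH) (Lpn K46.v2317))
theorem f514614 : Led Lsl_at (LP (LK LD1_c1 LD2_c42 LD3_c10)) = K46.v2318 :=
  Lgr Lrot66 (Lpr_ff (f514609 IH) (Lpe (K46.f514606 IH) (Lpr_ff (K46.f514613 IH) (Lpn K46.v2318))))
theorem f658734 : Led Lsl_af K33.v2319 = K47.v6825 :=
  Lgr Lrot117 (Lpe (f514616 IH) (Lpr_at (f514614 IH) (Lpqs (K46.f654686 IH) (Lpr_dt (K47.f658733 IH) (Lpn K47.v6825)))))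
theorem f514598 : Led Lsl_ef (LP (LK LD1_c1 LD2_c42 LD3_c35)) = K34.v2316 :=
  Lgr Lrot73 (Lpr_dt (K2.f18081 IH) (Lpr_et (K2.f18080 IH) (Lpr_dt (K2.f18065 IH) (Lpr_et (K2.f18082 IH) (Lpr_dt (K34.f514595 IH) (Lpn K34.v2316))))))
def v3278 : LQ := Led Lsl_gt v689
theorem f624959 : Led Lsl_gt v689 = v3278 :=
  Lrfl
theorem f658762 : Led Lsl_ef v3278 = K47.v6825 :=
  Lgr Lrot17 (Lpe (f624959 IH) (Lpe (f456784 IH) (Lpr_dt (K7.f10928 IH) (Lpe (K7.f10929 IH) (Lpe (K33.f155024 IH) (Lpe (K4.f19319 IH) (Lpr_ef (f514598 IH) (Lpe (K47.f514597 IH) (Lpe (K46.f18094 IH) (Lpr_df (K47.f658735 IH) (Lpn K47.v6825)))))))))))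
theorem f658763 : Led Lsl_et v3278 = K47.v6825 :=
  Lgr Lrot87 (Lpr_ef (f658762 IH) (Lpn K47.v6825))
theorem f672891 : Led Lsl_af v3278 = v8948 :=
  Lgr Lrot50 (Lpr_et (f658763 IH) (Lpe (f658734 IH) (Lpr_et (f672890 IH) (Lpn v8948))))
theorem f672896 : v6943 = v3279 :=
  (Llr Lrot52 (Lpr_ft (f672895 IH) (Lpe (f672891 IH) (Lpe (f624959 IH) (Lpr_gf (f624960 IH) (Lpn v3279)))))).symm
def v6646 : LQ := Led Lsl_ft (LP (LK LD1_c3 LD2_c24 LD3_c56))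
theorem f657450 : Led Lsl_ft (LP (LK LD1_c3 LD2_c24 LD3_c56)) = v6646 :=
  Lrfl
theorem f657452 : Led Lsl_ff (LP (LK LD1_c3 LD2_c24 LD3_c56)) = v6646 :=
  Lgr Lrot3 (Lpr_ft (f657450 IH) (Lpn v6646))
theorem f657453 : Led Lsl_dt (LP (LK LD1_c3 LD2_c34 LD3_c55)) = v6646 :=
  Lgr Lrot60 (Lpe (K49.f657384 IH) (Lpr_df (K33.f485642 IH) (Lpr_ff (f657452 IH) (Lpn v6646))))
theorem f679377 : Led Lsl_gf v6646 = v10237 :=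
  Lgr Lrot134 (Lpe (f657453 IH) (Lpr_et (f659585 IH) (Lpqs (f672896 IH) (Lpe (f624960 IH) (Lpe (f456784 IH) (Lpr_dt (K7.f10928 IH) (Lpr_gt (K7.f154955 IH) (Lpe (K5.f92033 IH) (Lpr_et (f455102 IH) (Lpr_gt (f624749 IH) (Lpr_dt (f679371 IH) (Lpn v10237))))))))))))
theorem f657451 : Led Lsl_df (LP (LK LD1_c3 LD2_c34 LD3_c55)) = v6646 :=
  Lgr Lrot78 (Lpe (K49.f657380 IH) (Lpr_dt (f485638 IH) (Lpr_ft (f657450 IH) (Lpn v6646))))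
theorem f10166 : Led Lsl_gt (LP (LK LD1_c7 LD2_c10 LD3_c55)) = (LP (LK LD1_c3 LD2_c34 LD3_c53)) :=
  Lre_g IH (LK LD1_c7 LD2_c10 LD3_c55) (LK LD1_c3 LD2_c34 LD3_c53) Lrfl Lrfl
def v11940 : LQ := Led Lsl_gf K48.v3950
theorem f686919 : Led Lsl_gf K48.v3950 = v11940 :=
  Lrfl
theorem f512618 : Led Lsl_ff (LP (LK LD1_c6 LD2_c51 LD3_c35)) = (LP (LK LD1_c3 LD2_c24 LD3_c45)) :=
  Lgr Lrot23 (Lpr_ct (K34.f473451 IH) (Lpr_ft (K29.f468326 IH) (Lpr_ct (K33.f512612 IH) (Lpn (LP (LK LD1_c3 LD2_c24 LD3_c45))))))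
theorem f512648 : Led Lsl_at (LP (LK LD1_c6 LD2_c51 LD3_c35)) = (LP (LK LD1_c3 LD2_c24 LD3_c46)) :=
  Lgr Lrot66 (Lpr_ff (f512618 IH) (Lpe (K34.f512642 IH) (Lpr_ff (K34.f512646 IH) (Lpn (LP (LK LD1_c3 LD2_c24 LD3_c46))))))
theorem f458368 : Led Lsl_et (LP (LK LD1_c3 LD2_c24 LD3_c46)) = (LP (LK LD1_c6 LD2_c52 LD3_c1)) :=
  Lre_e IH (LK LD1_c3 LD2_c24 LD3_c46) (LK LD1_c6 LD2_c52 LD3_c1) Lrfl Lrfl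
theorem f686798 : Led Lsl_at (LP (LK LD1_c6 LD2_c52 LD3_c1)) = K49.v11939 :=
  Lgr Lrot80 (Lpe (f458368 IH) (Lpe (f512648 IH) (Lpr_ef (K49.f686797 IH) (Lpn K49.v11939))))
theorem f686920 : Led Lsl_ff (LP (LK LD1_c6 LD2_c52 LD3_c1)) = v11940 :=
  Lgr Lrot52 (Lpr_at (f686798 IH) (Lpe (K49.f686793 IH) (Lpr_gf (f686919 IH) (Lpn v11940))))
theorem f686922 : Led Lsl_ft (LP (LK LD1_c6 LD2_c52 LD3_c1)) = v11940 :=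
  Lgr Lrot48 (Lpr_ff (f686920 IH) (Lpn v11940))
theorem f484247 : Led Lsl_df (LP (LK LD1_c6 LD2_c52 LD3_c1)) = (LP (LK LD1_c7 LD2_c11 LD3_c11)) :=
  Lgr Lrot38 (Lpr_dt (K49.f484241 IH) (Lpn (LP (LK LD1_c7 LD2_c11 LD3_c11))))
theorem f686809 : Led Lsl_ff (LP (LK LD1_c7 LD2_c11 LD3_c11)) = (LP (LK LD1_c7 LD2_c10 LD3_c55)) :=
  Lgr Lrot52 (Lpr_at (K49.f686801 IH) (Lpe (K49.f467911 IH) (Lpe (f10166 IH) (Lpn (LP (LK LD1_c7 LD2_c10 LD3_c55))))))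
theorem f686923 : Led Lsl_df (LP (LK LD1_c7 LD2_c10 LD3_c55)) = v11940 :=
  Lgr Lrot78 (Lpe (f686809 IH) (Lpe (f484247 IH) (Lpr_ft (f686922 IH) (Lpn v11940))))
theorem f786793 : Led Lsl_gf v11940 = v20398 :=
  Lgr Lrot144 (Lpe (f686923 IH) (Lpr_gt (f10166 IH) (Lpr_dt (K29.f10165 IH) (Lpe (K28.f10168 IH) (Lpe (K29.f455887 IH) (Lpe (K49.f455888 IH) (Lpr_df (f657451 IH) (Lpr_gf (f679377 IH) (Lpr_cf (f786789 IH) (Lpn v20398))))))))))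
theorem f686818 : Led Lsl_ft (LP (LK LD1_c7 LD2_c11 LD3_c11)) = (LP (LK LD1_c7 LD2_c10 LD3_c55)) :=
  Lgr Lrot48 (Lpr_ff (f686809 IH) (Lpn (LP (LK LD1_c7 LD2_c10 LD3_c55))))
theorem f686921 : Led Lsl_dt (LP (LK LD1_c7 LD2_c10 LD3_c55)) = v11940 :=
  Lgr Lrot60 (Lpe (f686818 IH) (Lpe (K49.f484241 IH) (Lpr_ff (f686920 IH) (Lpn v11940))))
theorem f686824 : Led Lsl_et (LP (LK LD1_c7 LD2_c10 LD3_c55)) = (LP (LK LD1_c13 LD2_c36 LD3_c25)) :=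
  Lre_e IH (LK LD1_c7 LD2_c10 LD3_c55) (LK LD1_c13 LD2_c36 LD3_c25) Lrfl Lrfl
theorem f90011 : Led Lsl_et (LP (LK LD1_c6 LD2_c56 LD3_c8)) = (LP (LK LD1_c3 LD2_c27 LD3_c7)) :=
  Lre_e IH (LK LD1_c6 LD2_c56 LD3_c8) (LK LD1_c3 LD2_c27 LD3_c7) Lrfl Lrfl
theorem f89959 : Led Lsl_dt (LP (LK LD1_c6 LD2_c56 LD3_c8)) = (LP (LK LD1_c3 LD2_c27 LD3_c6)) :=
  Lre_d IH (LK LD1_c6 LD2_c56 LD3_c8) (LK LD1_c3 LD2_c27 LD3_c6) Lrfl Lrfl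
theorem f89999 : Led Lsl_gt (LP (LK LD1_c6 LD2_c56 LD3_c7)) = (LP (LK LD1_c3 LD2_c27 LD3_c6)) :=
  Lre_g IH (LK LD1_c6 LD2_c56 LD3_c7) (LK LD1_c3 LD2_c27 LD3_c6) Lrfl Lrfl
theorem f90005 : Led Lsl_dt (LP (LK LD1_c13 LD2_c10 LD3_c18)) = (LP (LK LD1_c6 LD2_c56 LD3_c7)) :=
  Lre_d IH (LK LD1_c13 LD2_c10 LD3_c18) (LK LD1_c6 LD2_c56 LD3_c7) Lrfl Lrfl
theorem f90006 : Led Lsl_et (LP (LK LD1_c13 LD2_c10 LD3_c18)) = (LP (LK LD1_c22 LD2_c22 LD3_c55)) :=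
  Lre_e IH (LK LD1_c13 LD2_c10 LD3_c18) (LK LD1_c22 LD2_c22 LD3_c55) Lrfl Lrfl
theorem f786794 : Led Lsl_gt (LP (LK LD1_c13 LD2_c36 LD3_c25)) = (LP (LK LD1_c22 LD2_c22 LD3_c55)) :=
  Lgr Lrot131 (Lpe (f686824 IH) (Lpr_dt (f686921 IH) (Lpr_gf (f786793 IH) (Lpe (f786783 IH) (Lpe (K48.f458379 IH) (Lpe (f90011 IH) (Lpr_dt (f89959 IH) (Lpe (f89999 IH) (Lpe (f90005 IH) (Lpr_et (f90006 IH) (Lpn (LP (LK LD1_c22 LD2_c22 LD3_c55)))))))))))))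
theorem f786795 : Led Lsl_gt (LP (LK LD1_c13 LD2_c36 LD3_c25)) = (LP (LK LD1_c22 LD2_c22 LD3_c55)) :=
  Leop (Lpe (f786794 IH) (Lpn (LP (LK LD1_c13 LD2_c36 LD3_c25))))
theorem seed_1525 : LEOK LG_g (LK LD1_c13 LD2_c36 LD3_c25) :=
  Leoe_g (LK LD1_c13 LD2_c36 LD3_c25) (f786795 IH)
def v20416 : LQ := Led Lsl_gt (LP (LK LD1_c6 LD2_c56 LD3_c27))
theorem f786858 : Led Lsl_gt (LP (LK LD1_c6 LD2_c56 LD3_c27)) = v20416 :=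
  Lrfl
theorem f12009 : Led Lsl_ct (LP (LK LD1_c3 LD2_c27 LD3_c14)) = (LP (LK LD1_c6 LD2_c56 LD3_c27)) :=
  Lre_c IH (LK LD1_c3 LD2_c27 LD3_c14) (LK LD1_c6 LD2_c56 LD3_c27) Lrfl Lrfl
theorem f661695 : Led Lsl_ef (LP (LK LD1_c3 LD2_c40 LD3_c60)) = K49.v7174 :=
  Lgr Lrot88 (Lpr_et (K49.f661692 IH) (Lpn K49.v7174))
theorem f661699 : Led Lsl_ct (LP (LK LD1_c7 LD2_c2 LD3_c1)) = K49.v7174 :=
  Lgr Lrot15 (Lpe (K49.f464533 IH) (Lpe (K28.f464526 IH) (Lpr_ef (f661695 IH) (Lpn K49.v7174))))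
def v7322 : LQ := Led Lsl_ft (LP (LK LD1_c3 LD2_c45 LD3_c0))
theorem f664550 : Led Lsl_ft (LP (LK LD1_c3 LD2_c45 LD3_c0)) = v7322 :=
  Lrfl
theorem f664554 : Led Lsl_ff (LP (LK LD1_c3 LD2_c45 LD3_c0)) = v7322 :=
  Lgr Lrot3 (Lpr_ft (f664550 IH) (Lpn v7322))
theorem f664446 : Led Lsl_ef (LP (LK LD1_c3 LD2_c44 LD3_c46)) = K60.v7307 :=
  Lgr Lrot88 (Lpr_et (K60.f664443 IH) (Lpn K60.v7307))
theorem f523791 : Led Lsl_at (LP (LK LD1_c3 LD2_c41 LD3_c54)) = (LP (LK LD1_c3 LD2_c45 LD3_c2)) :=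
  Lgr Lrot51 (Lpe (K29.f478485 IH) (Lpr_af (K34.f523785 IH) (Lpe (K28.f85225 IH) (Lpn (LP (LK LD1_c3 LD2_c45 LD3_c2))))))
theorem f525830 : Led Lsl_ff (LP (LK LD1_c3 LD2_c41 LD3_c54)) = (LP (LK LD1_c3 LD2_c44 LD3_c61)) :=
  Lgr Lrot52 (Lpr_at (f523791 IH) (Lpr_gf (K48.f525828 IH) (Lpe (K48.f489718 IH) (Lpn (LP (LK LD1_c3 LD2_c44 LD3_c61))))))
theorem f525832 : Led Lsl_ft (LP (LK LD1_c1 LD2_c47 LD3_c50)) = (LP (LK LD1_c1 LD2_c49 LD3_c36)) :=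
  Lgr Lrot54 (Lpe (K29.f478484 IH) (Lpr_ff (f525830 IH) (Lpe (K48.f85253 IH) (Lpn (LP (LK LD1_c1 LD2_c49 LD3_c36))))))
theorem f525834 : Led Lsl_af (LP (LK LD1_c3 LD2_c44 LD3_c46)) = (LP (LK LD1_c1 LD2_c49 LD3_c36)) :=
  Lgr Lrot45 (Lpr_ft (K34.f523795 IH) (Lpe (K34.f523785 IH) (Lpr_ft (f525832 IH) (Lpn (LP (LK LD1_c1 LD2_c49 LD3_c36))))))
theorem f525836 : Led Lsl_at (LP (LK LD1_c3 LD2_c44 LD3_c46)) = (LP (LK LD1_c1 LD2_c49 LD3_c36)) :=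
  Lgr Lrot100 (Lpr_af (f525834 IH) (Lpn (LP (LK LD1_c1 LD2_c49 LD3_c36))))
theorem f664450 : Led Lsl_at (LP (LK LD1_c3 LD2_c45 LD3_c0)) = K60.v7307 :=
  Lgr Lrot80 (Lpe (K34.f483490 IH) (Lpe (f525836 IH) (Lpr_ef (f664446 IH) (Lpn K60.v7307))))
theorem f664556 : Led Lsl_at (LP (LK LD1_c13 LD2_c22 LD3_c42)) = v7322 :=
  Lgr Lrot66 (Lpr_ff (K60.f664447 IH) (Lpe (f664450 IH) (Lpr_ff (f664554 IH) (Lpn v7322))))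
theorem f664535 : Led Lsl_ef (LP (LK LD1_c3 LD2_c44 LD3_c61)) = K48.v7321 :=
  Lgr Lrot88 (Lpr_et (K48.f664531 IH) (Lpn K48.v7321))
theorem f525871 : Led Lsl_af (LP (LK LD1_c7 LD2_c30 LD3_c35)) = (LP (LK LD1_c3 LD2_c44 LD3_c61)) :=
  Lgr Lrot117 (Lpr_dt (K47.f85214 IH) (Lpr_at (f525836 IH) (Lpr_dt (K48.f85253 IH) (Lpn (LP (LK LD1_c3 LD2_c44 LD3_c61))))))
theorem f661946 : Led Lsl_gf (LP (LK LD1_c7 LD2_c30 LD3_c35)) = K48.v7194 :=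
  Lgr Lrot76 (Lpr_af (f525871 IH) (Lpe (K48.f523880 IH) (Lpr_gt (K48.f661944 IH) (Lpn K48.v7194))))
theorem f664549 : Led Lsl_gf K49.v7174 = K60.v7307 :=
  Lgr Lrot141 (Lpe (K49.f661692 IH) (Lpr_dt (K48.f661683 IH) (Lpr_gt (K48.f664546 IH) (Lpr_df (K48.f664534 IH) (Lpe (f664535 IH) (Lpr_gt (K48.f489718 IH) (Lpr_dt (K48.f661950 IH) (Lpe (f661946 IH) (Lpe (K32.f85213 IH) (Lpr_et (K60.f664443 IH) (Lpn K60.v7307)))))))))))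
theorem f664559 : Led Lsl_gt K49.v7174 = v7322 :=
  Lgr Lrot46 (Lpr_gf (f664549 IH) (Lpe (K60.f664447 IH) (Lpr_at (f664556 IH) (Lpn v7322))))
def v20285 : LQ := Led Lsl_ft (LP (LK LD1_c6 LD2_c53 LD3_c30))
theorem f786081 : Led Lsl_ft (LP (LK LD1_c6 LD2_c53 LD3_c30)) = v20285 :=
  Lrfl
theorem f786086 : Led Lsl_ff (LP (LK LD1_c6 LD2_c53 LD3_c30)) = v20285 :=
  Lgr Lrot3 (Lpr_ft (f786081 IH) (Lpn v20285))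
theorem f483499 : Led Lsl_cf (LP (LK LD1_c3 LD2_c45 LD3_c0)) = (LP (LK LD1_c6 LD2_c53 LD3_c30)) :=
  Lgr Lrot39 (Lpr_et (K48.f85226 IH) (Lpr_ct (K34.f483492 IH) (Lpr_et (K46.f95048 IH) (Lpn (LP (LK LD1_c6 LD2_c53 LD3_c30))))))
theorem f786088 : Led Lsl_ct v7322 = v20285 :=
  Lgr Lrot40 (Lpe (f664550 IH) (Lpr_cf (f483499 IH) (Lpr_ff (f786086 IH) (Lpn v20285))))
theorem f785508 : Led Lsl_ft (LP (LK LD1_c13 LD2_c9 LD3_c21)) = K60.v20200 :=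
  Lgr Lrot48 (Lpr_ff (K60.f785506 IH) (Lpn K60.v20200))
theorem f476935 : Led Lsl_dt (LP (LK LD1_c6 LD2_c55 LD3_c38)) = (LP (LK LD1_c13 LD2_c9 LD3_c21)) :=
  Lre_d IH (LK LD1_c6 LD2_c55 LD3_c38) (LK LD1_c13 LD2_c9 LD3_c21) Lrfl Lrfl
theorem f785516 : Led Lsl_ft (LP (LK LD1_c7 LD2_c53 LD3_c15)) = (LP (LK LD1_c6 LD2_c55 LD3_c38)) :=
  Lgr Lrot54 (Lpr_df (K60.f785511 IH) (Lpe (f785508 IH) (Lpe (f476935 IH) (Lpn (LP (LK LD1_c6 LD2_c55 LD3_c38))))))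
theorem f12315 : Led Lsl_gt (LP (LK LD1_c3 LD2_c55 LD3_c45)) = (LP (LK LD1_c7 LD2_c53 LD3_c14)) :=
  Lre_g IH (LK LD1_c3 LD2_c55 LD3_c45) (LK LD1_c7 LD2_c53 LD3_c14) Lrfl Lrfl
theorem f785521 : Led Lsl_af (LP (LK LD1_c7 LD2_c53 LD3_c14)) = (LP (LK LD1_c6 LD2_c55 LD3_c38)) :=
  Lgr Lrot31 (Lpe (f12315 IH) (Lpe (K60.f12221 IH) (Lpr_ft (f785516 IH) (Lpn (LP (LK LD1_c6 LD2_c55 LD3_c38))))))
theorem f785523 : Led Lsl_at (LP (LK LD1_c7 LD2_c53 LD3_c14)) = (LP (LK LD1_c6 LD2_c55 LD3_c38)) :=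
  Lgr Lrot100 (Lpr_af (f785521 IH) (Lpn (LP (LK LD1_c6 LD2_c55 LD3_c38))))
theorem f785538 : Led Lsl_ff (LP (LK LD1_c7 LD2_c53 LD3_c14)) = (LP (LK LD1_c6 LD2_c55 LD3_c39)) :=
  Lgr Lrot52 (Lpr_at (f785523 IH) (Lpe (K34.f102588 IH) (Lpe (K46.f95033 IH) (Lpn (LP (LK LD1_c6 LD2_c55 LD3_c39))))))
theorem f785546 : Led Lsl_ft (LP (LK LD1_c7 LD2_c53 LD3_c14)) = (LP (LK LD1_c6 LD2_c55 LD3_c39)) :=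
  Lgr Lrot48 (Lpr_ff (f785538 IH) (Lpn (LP (LK LD1_c6 LD2_c55 LD3_c39))))
theorem f786084 : Led Lsl_df (LP (LK LD1_c7 LD2_c53 LD3_c14)) = v20285 :=
  Lgr Lrot78 (Lpr_ft (f785546 IH) (Lpr_dt (K49.f95045 IH) (Lpr_ft (f786081 IH) (Lpn v20285))))
theorem f786859 : Led Lsl_cf (LP (LK LD1_c7 LD2_c53 LD3_c14)) = v20416 :=
  Lgr Lrot99 (Lpr_df (f786084 IH) (Lpe (f786088 IH) (Lpe (f664559 IH) (Lpe (f661699 IH) (Lpe (K35.f625134 IH) (Lpe (K46.f485874 IH) (Lpr_gt (K46.f11994 IH) (Lpr_ct (f12009 IH) (Lpr_gt (f786858 IH) (Lpn v20416))))))))))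
theorem f786861 : Led Lsl_ct (LP (LK LD1_c7 LD2_c53 LD3_c14)) = v20416 :=
  Lgr Lrot59 (Lpr_cf (f786859 IH) (Lpn v20416))
theorem f785525 : Led Lsl_bt (LP (LK LD1_c7 LD2_c53 LD3_c14)) = (LP (LK LD1_c14 LD2_c52 LD3_c42)) :=
  Lre_b IH (LK LD1_c7 LD2_c53 LD3_c14) (LK LD1_c14 LD2_c52 LD3_c42) Lrfl Lrfl
theorem f11995 : Led Lsl_bt (LP (LK LD1_c13 LD2_c10 LD3_c43)) = (LP (LK LD1_c6 LD2_c56 LD3_c26)) :=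
  Lre_b IH (LK LD1_c13 LD2_c10 LD3_c43) (LK LD1_c6 LD2_c56 LD3_c26) Lrfl Lrfl
theorem f485956 : Led Lsl_ct (LP (LK LD1_c13 LD2_c10 LD3_c43)) = (LP (LK LD1_c22 LD2_c23 LD3_c15)) :=
  Lre_c IH (LK LD1_c13 LD2_c10 LD3_c43) (LK LD1_c22 LD2_c23 LD3_c15) Lrfl Lrfl
theorem f628022 : Led Lsl_af (LP (LK LD1_c6 LD2_c53 LD3_c39)) = K48.v3939 :=
  Lgr Lrot50 (Lpr_et (K46.f485784 IH) (Lpr_at (K35.f491644 IH) (Lpr_et (K48.f628021 IH) (Lpn K48.v3939))))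
theorem f666491 : Led Lsl_at (LP (LK LD1_c6 LD2_c56 LD3_c26)) = K48.v7545 :=
  Lgr Lrot51 (Lpr_df (K46.f485869 IH) (Lpr_af (f628022 IH) (Lpr_df (K48.f666490 IH) (Lpn K48.v7545))))
theorem f666519 : Led Lsl_ff (LP (LK LD1_c6 LD2_c56 LD3_c26)) = (LP (LK LD1_c7 LD2_c42 LD3_c51)) :=
  Lgr Lrot30 (Lpr_at (f666491 IH) (Lpe (K48.f666493 IH) (Lpr_at (K48.f666496 IH) (Lpn (LP (LK LD1_c7 LD2_c42 LD3_c51))))))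
theorem f485871 : Led Lsl_bt (LP (LK LD1_c6 LD2_c56 LD3_c26)) = (LP (LK LD1_c13 LD2_c10 LD3_c43)) :=
  Lre_b IH (LK LD1_c6 LD2_c56 LD3_c26) (LK LD1_c13 LD2_c10 LD3_c43) Lrfl Lrfl
theorem f532769 : Led Lsl_bf (LP (LK LD1_c7 LD2_c42 LD3_c51)) = (LP (LK LD1_c14 LD2_c19 LD3_c32)) :=
  Lgr Lrot24 (Lpr_bt (K48.f532703 IH) (Lpn (LP (LK LD1_c14 LD2_c19 LD3_c32))))
theorem f666521 : Led Lsl_ft (LP (LK LD1_c13 LD2_c10 LD3_c43)) = (LP (LK LD1_c14 LD2_c19 LD3_c32)) :=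
  Lgr Lrot75 (Lpe (f485871 IH) (Lpr_ff (f666519 IH) (Lpr_bf (f532769 IH) (Lpn (LP (LK LD1_c14 LD2_c19 LD3_c32))))))
theorem f485835 : Led Lsl_bt (LP (LK LD1_c13 LD2_c6 LD3_c11)) = (LP (LK LD1_c6 LD2_c53 LD3_c39)) :=
  Lre_b IH (LK LD1_c13 LD2_c6 LD3_c11) (LK LD1_c6 LD2_c53 LD3_c39) Lrfl Lrfl
theorem f485872 : Led Lsl_dt (LP (LK LD1_c13 LD2_c10 LD3_c43)) = (LP (LK LD1_c13 LD2_c6 LD3_c11)) :=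
  Lgr Lrot79 (Lpe (f485871 IH) (Lpr_df (K46.f485869 IH) (Lpe (f485835 IH) (Lpn (LP (LK LD1_c13 LD2_c6 LD3_c11))))))
theorem f478898 : Led Lsl_bt (LP (LK LD1_c3 LD2_c39 LD3_c5)) = (LP (LK LD1_c7 LD2_c18 LD3_c34)) :=
  Lre_b IH (LK LD1_c3 LD2_c39 LD3_c5) (LK LD1_c7 LD2_c18 LD3_c34) Lrfl Lrfl
theorem f485779 : Led Lsl_bt (LP (LK LD1_c6 LD2_c53 LD3_c37)) = (LP (LK LD1_c3 LD2_c25 LD3_c51)) :=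
  Lre_b IH (LK LD1_c6 LD2_c53 LD3_c37) (LK LD1_c3 LD2_c25 LD3_c51) Lrfl Lrfl
theorem f485780 : Led Lsl_ft (LP (LK LD1_c7 LD2_c18 LD3_c34)) = (LP (LK LD1_c6 LD2_c53 LD3_c37)) :=
  Lgr Lrot75 (Lpe (f478898 IH) (Lpr_ff (K34.f485776 IH) (Lpe (f485779 IH) (Lpn (LP (LK LD1_c6 LD2_c53 LD3_c37))))))
theorem f485825 : Led Lsl_ff (LP (LK LD1_c7 LD2_c18 LD3_c34)) = (LP (LK LD1_c6 LD2_c53 LD3_c37)) :=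
  Lgr Lrot3 (Lpr_ft (f485780 IH) (Lpn (LP (LK LD1_c6 LD2_c53 LD3_c37))))
theorem f478903 : Led Lsl_ct (LP (LK LD1_c7 LD2_c18 LD3_c34)) = (LP (LK LD1_c7 LD2_c18 LD3_c34)) :=
  Lgr Lrot83 (Lpe (f478898 IH) (Lpe (K34.f478894 IH) (Lpr_bf (K34.f478899 IH) (Lpe (K34.f457010 IH) (Lpe (K30.f478902 IH) (Lpn (LP (LK LD1_c7 LD2_c18 LD3_c34))))))))
theorem f485827 : Led Lsl_ct (LP (LK LD1_c6 LD2_c53 LD3_c37)) = (LP (LK LD1_c6 LD2_c53 LD3_c37)) :=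
  Lgr Lrot40 (Lpe (f485780 IH) (Lpe (f478903 IH) (Lpr_ff (f485825 IH) (Lpn (LP (LK LD1_c6 LD2_c53 LD3_c37))))))
theorem f485830 : Led Lsl_et (LP (LK LD1_c13 LD2_c6 LD3_c11)) = (LP (LK LD1_c6 LD2_c53 LD3_c37)) :=
  Lre_e IH (LK LD1_c13 LD2_c6 LD3_c11) (LK LD1_c6 LD2_c53 LD3_c37) Lrfl Lrfl
theorem f485824 : Led Lsl_et (LP (LK LD1_c6 LD2_c53 LD3_c37)) = (LP (LK LD1_c13 LD2_c6 LD3_c11)) :=
  Lre_e IH (LK LD1_c6 LD2_c53 LD3_c37) (LK LD1_c13 LD2_c6 LD3_c11) Lrfl Lrfl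
theorem f485833 : Led Lsl_cf (LP (LK LD1_c13 LD2_c6 LD3_c11)) = (LP (LK LD1_c13 LD2_c6 LD3_c11)) :=
  Lgr Lrot39 (Lpr_et (f485830 IH) (Lpr_ct (f485827 IH) (Lpr_et (f485824 IH) (Lpn (LP (LK LD1_c13 LD2_c6 LD3_c11))))))
theorem f485876 : Led Lsl_et (LP (LK LD1_c6 LD2_c56 LD3_c26)) = (LP (LK LD1_c13 LD2_c10 LD3_c44)) :=
  Lre_e IH (LK LD1_c6 LD2_c56 LD3_c26) (LK LD1_c13 LD2_c10 LD3_c44) Lrfl Lrfl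
theorem f485877 : Led Lsl_et (LP (LK LD1_c3 LD2_c25 LD3_c51)) = (LP (LK LD1_c6 LD2_c53 LD3_c39)) :=
  Lre_e IH (LK LD1_c3 LD2_c25 LD3_c51) (LK LD1_c6 LD2_c53 LD3_c39) Lrfl Lrfl
theorem f485804 : Led Lsl_et (LP (LK LD1_c13 LD2_c6 LD3_c13)) = (LP (LK LD1_c6 LD2_c53 LD3_c38)) :=
  Lre_e IH (LK LD1_c13 LD2_c6 LD3_c13) (LK LD1_c6 LD2_c53 LD3_c38) Lrfl Lrfl
theorem f485878 : Led Lsl_dt (LP (LK LD1_c13 LD2_c10 LD3_c44)) = (LP (LK LD1_c13 LD2_c6 LD3_c13)) :=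
  Lgr Lrot77 (Lpe (f485876 IH) (Lpr_df (K46.f485869 IH) (Lpe (f485877 IH) (Lpe (K34.f481873 IH) (Lpe (f485804 IH) (Lpn (LP (LK LD1_c13 LD2_c6 LD3_c13))))))))
theorem f485922 : Led Lsl_df (LP (LK LD1_c13 LD2_c10 LD3_c44)) = (LP (LK LD1_c13 LD2_c6 LD3_c13)) :=
  Lgr Lrot38 (Lpr_dt (f485878 IH) (Lpn (LP (LK LD1_c13 LD2_c6 LD3_c13))))
theorem f485941 : Led Lsl_bt (LP (LK LD1_c13 LD2_c10 LD3_c44)) = (LP (LK LD1_c22 LD2_c23 LD3_c16)) :=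
  Lre_b IH (LK LD1_c13 LD2_c10 LD3_c44) (LK LD1_c22 LD2_c23 LD3_c16) Lrfl Lrfl
theorem f485942 : Led Lsl_bt (LP (LK LD1_c22 LD2_c17 LD3_c34)) = (LP (LK LD1_c13 LD2_c6 LD3_c13)) :=
  Lre_b IH (LK LD1_c22 LD2_c17 LD3_c34) (LK LD1_c13 LD2_c6 LD3_c13) Lrfl Lrfl
theorem f485943 : Led Lsl_dt (LP (LK LD1_c22 LD2_c23 LD3_c16)) = (LP (LK LD1_c22 LD2_c17 LD3_c34)) :=
  Lgr Lrot79 (Lpe (f485941 IH) (Lpr_df (f485922 IH) (Lpe (f485942 IH) (Lpn (LP (LK LD1_c22 LD2_c17 LD3_c34))))))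
theorem f485949 : Led Lsl_et (LP (LK LD1_c13 LD2_c10 LD3_c43)) = (LP (LK LD1_c22 LD2_c23 LD3_c16)) :=
  Lre_e IH (LK LD1_c13 LD2_c10 LD3_c43) (LK LD1_c22 LD2_c23 LD3_c16) Lrfl Lrfl
theorem f485950 : Led Lsl_et (LP (LK LD1_c22 LD2_c17 LD3_c34)) = (LP (LK LD1_c13 LD2_c6 LD3_c10)) :=
  Lre_e IH (LK LD1_c22 LD2_c17 LD3_c34) (LK LD1_c13 LD2_c6 LD3_c10) Lrfl Lrfl
theorem f485829 : Led Lsl_dt (LP (LK LD1_c13 LD2_c6 LD3_c10)) = (LP (LK LD1_c6 LD2_c53 LD3_c37)) :=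
  Lre_d IH (LK LD1_c13 LD2_c6 LD3_c10) (LK LD1_c6 LD2_c53 LD3_c37) Lrfl Lrfl
theorem f485951 : Led Lsl_df (LP (LK LD1_c13 LD2_c10 LD3_c43)) = (LP (LK LD1_c13 LD2_c6 LD3_c11)) :=
  Lgr Lrot70 (Lpr_et (f485949 IH) (Lpr_dt (f485943 IH) (Lpr_et (f485950 IH) (Lpr_dt (f485829 IH) (Lpr_et (f485824 IH) (Lpn (LP (LK LD1_c13 LD2_c6 LD3_c11))))))))
theorem f485957 : Led Lsl_dt (LP (LK LD1_c22 LD2_c23 LD3_c15)) = (LP (LK LD1_c30 LD2_c27 LD3_c50)) :=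
  Lre_d IH (LK LD1_c22 LD2_c23 LD3_c15) (LK LD1_c30 LD2_c27 LD3_c50) Lrfl Lrfl
theorem f665504 : Led Lsl_ct (LP (LK LD1_c14 LD2_c30 LD3_c21)) = (LP (LK LD1_c7 LD2_c41 LD3_c44)) :=
  Lre_c IH (LK LD1_c14 LD2_c30 LD3_c21) (LK LD1_c7 LD2_c41 LD3_c44) Lrfl Lrfl
theorem f665505 : Led Lsl_dt (LP (LK LD1_c24 LD2_c11 LD3_c32)) = (LP (LK LD1_c14 LD2_c30 LD3_c21)) :=
  Lre_d IH (LK LD1_c24 LD2_c11 LD3_c32) (LK LD1_c14 LD2_c30 LD3_c21) Lrfl Lrfl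
theorem f666546 : Led Lsl_ct (LP (LK LD1_c30 LD2_c27 LD3_c50)) = (LP (LK LD1_c24 LD2_c11 LD3_c32)) :=
  Lgr Lrot53 (Lpe (f485957 IH) (Lpe (f485956 IH) (Lpr_df (f485951 IH) (Lpr_cf (f485833 IH) (Lpe (f485872 IH) (Lpr_ft (f666521 IH) (Lpe (K48.f666513 IH) (Lpe (f665504 IH) (Lpe (f665505 IH) (Lpn (LP (LK LD1_c24 LD2_c11 LD3_c32))))))))))))
theorem f11996 : Led Lsl_ct (LP (LK LD1_c22 LD2_c23 LD3_c15)) = (LP (LK LD1_c13 LD2_c10 LD3_c43)) :=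
  Lre_c IH (LK LD1_c22 LD2_c23 LD3_c15) (LK LD1_c13 LD2_c10 LD3_c43) Lrfl Lrfl
theorem f11997 : Led Lsl_dt (LP (LK LD1_c30 LD2_c27 LD3_c50)) = (LP (LK LD1_c22 LD2_c23 LD3_c15)) :=
  Lre_d IH (LK LD1_c30 LD2_c27 LD3_c50) (LK LD1_c22 LD2_c23 LD3_c15) Lrfl Lrfl
theorem f666527 : Led Lsl_ft (LP (LK LD1_c6 LD2_c56 LD3_c26)) = (LP (LK LD1_c7 LD2_c42 LD3_c51)) :=
  Lgr Lrot48 (Lpr_ff (f666519 IH) (Lpn (LP (LK LD1_c7 LD2_c42 LD3_c51))))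
theorem f666529 : Led Lsl_ff (LP (LK LD1_c13 LD2_c10 LD3_c43)) = (LP (LK LD1_c14 LD2_c19 LD3_c32)) :=
  Lgr Lrot25 (Lpr_bt (f11995 IH) (Lpr_ft (f666527 IH) (Lpr_bt (K48.f532703 IH) (Lpn (LP (LK LD1_c14 LD2_c19 LD3_c32))))))
theorem f532785 : Led Lsl_ct (LP (LK LD1_c23 LD2_c57 LD3_c28)) = (LP (LK LD1_c14 LD2_c19 LD3_c32)) :=
  Lre_c IH (LK LD1_c23 LD2_c57 LD3_c28) (LK LD1_c14 LD2_c19 LD3_c32) Lrfl Lrfl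
theorem f666535 : Led Lsl_ft (LP (LK LD1_c22 LD2_c23 LD3_c15)) = (LP (LK LD1_c23 LD2_c57 LD3_c28)) :=
  Lgr Lrot4 (Lpe (f485956 IH) (Lpr_ff (f666529 IH) (Lpe (f532785 IH) (Lpn (LP (LK LD1_c23 LD2_c57 LD3_c28))))))
theorem f666540 : Led Lsl_ff (LP (LK LD1_c22 LD2_c23 LD3_c15)) = (LP (LK LD1_c23 LD2_c57 LD3_c28)) :=
  Lgr Lrot3 (Lpr_ft (f666535 IH) (Lpn (LP (LK LD1_c23 LD2_c57 LD3_c28))))
theorem f532786 : Led Lsl_dt (LP (LK LD1_c31 LD2_c17 LD3_c56)) = (LP (LK LD1_c23 LD2_c57 LD3_c28)) :=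
  Lre_d IH (LK LD1_c31 LD2_c17 LD3_c56) (LK LD1_c23 LD2_c57 LD3_c28) Lrfl Lrfl
theorem f666542 : Led Lsl_ft (LP (LK LD1_c30 LD2_c27 LD3_c50)) = (LP (LK LD1_c31 LD2_c17 LD3_c56)) :=
  Lgr Lrot54 (Lpe (f485957 IH) (Lpr_ff (f666540 IH) (Lpe (f532786 IH) (Lpn (LP (LK LD1_c31 LD2_c17 LD3_c56))))))
theorem f666551 : Led Lsl_at (LP (LK LD1_c31 LD2_c17 LD3_c56)) = (LP (LK LD1_c24 LD2_c11 LD3_c32)) :=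
  Lgr Lrot33 (Lpe (f666542 IH) (Lpr_dt (f11997 IH) (Lpr_ct (f11996 IH) (Lpr_dt (f485872 IH) (Lpe (f485833 IH) (Lpe (f485951 IH) (Lpr_ct (f485956 IH) (Lpr_dt (f485957 IH) (Lpr_ct (f666546 IH) (Lpn (LP (LK LD1_c24 LD2_c11 LD3_c32))))))))))))
theorem f666537 : Led Lsl_dt (LP (LK LD1_c23 LD2_c57 LD3_c28)) = (LP (LK LD1_c31 LD2_c17 LD3_c56)) :=
  Lre_d IH (LK LD1_c23 LD2_c57 LD3_c28) (LK LD1_c31 LD2_c17 LD3_c56) Lrfl Lrfl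
theorem f666556 : Led Lsl_af (LP (LK LD1_c23 LD2_c57 LD3_c28)) = (LP (LK LD1_c14 LD2_c30 LD3_c21)) :=
  Lgr Lrot117 (Lpr_dt (f666537 IH) (Lpr_at (f666551 IH) (Lpr_dt (f665505 IH) (Lpn (LP (LK LD1_c14 LD2_c30 LD3_c21))))))
theorem f666560 : Led Lsl_at (LP (LK LD1_c23 LD2_c57 LD3_c28)) = (LP (LK LD1_c14 LD2_c30 LD3_c21)) :=
  Lgr Lrot100 (Lpr_af (f666556 IH) (Lpn (LP (LK LD1_c14 LD2_c30 LD3_c21))))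
theorem f665508 : Led Lsl_gt (LP (LK LD1_c24 LD2_c11 LD3_c31)) = (LP (LK LD1_c14 LD2_c30 LD3_c21)) :=
  Lre_g IH (LK LD1_c24 LD2_c11 LD3_c31) (LK LD1_c14 LD2_c30 LD3_c21) Lrfl Lrfl
theorem f666566 : Led Lsl_gt (LP (LK LD1_c22 LD2_c23 LD3_c15)) = (LP (LK LD1_c24 LD2_c11 LD3_c31)) :=
  Lgr Lrot5 (Lpr_ft (f666535 IH) (Lpr_at (f666560 IH) (Lpe (f665508 IH) (Lpn (LP (LK LD1_c24 LD2_c11 LD3_c31))))))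
theorem f487490 : Led Lsl_bt (LP (LK LD1_c13 LD2_c45 LD3_c50)) = (LP (LK LD1_c7 LD2_c16 LD3_c24)) :=
  Lre_b IH (LK LD1_c13 LD2_c45 LD3_c50) (LK LD1_c7 LD2_c16 LD3_c24) Lrfl Lrfl
theorem f467122 : Led Lsl_ct (LP (LK LD1_c13 LD2_c45 LD3_c50)) = (LP (LK LD1_c23 LD2_c12 LD3_c60)) :=
  Lre_c IH (LK LD1_c13 LD2_c45 LD3_c50) (LK LD1_c23 LD2_c12 LD3_c60) Lrfl Lrfl
theorem f477790 : Led Lsl_bt (LP (LK LD1_c14 LD2_c17 LD3_c61)) = (LP (LK LD1_c23 LD2_c55 LD3_c47)) :=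
  Lre_b IH (LK LD1_c14 LD2_c17 LD3_c61) (LK LD1_c23 LD2_c55 LD3_c47) Lrfl Lrfl
theorem f521560 : Led Lsl_et (LP (LK LD1_c3 LD2_c48 LD3_c52)) = (LP (LK LD1_c7 LD2_c38 LD3_c55)) :=
  Lre_e IH (LK LD1_c3 LD2_c48 LD3_c52) (LK LD1_c7 LD2_c38 LD3_c55) Lrfl Lrfl
theorem f477762 : Led Lsl_et (LP (LK LD1_c14 LD2_c17 LD3_c61)) = (LP (LK LD1_c7 LD2_c35 LD3_c1)) :=
  Lre_e IH (LK LD1_c14 LD2_c17 LD3_c61) (LK LD1_c7 LD2_c35 LD3_c1) Lrfl Lrfl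
theorem f521561 : Led Lsl_at (LP (LK LD1_c7 LD2_c38 LD3_c55)) = (LP (LK LD1_c14 LD2_c17 LD3_c61)) :=
  Lgr Lrot80 (Lpe (f521560 IH) (Lpr_af (K48.f521555 IH) (Lpe (f477762 IH) (Lpn (LP (LK LD1_c14 LD2_c17 LD3_c61))))))
theorem f521725 : Led Lsl_bt (LP (LK LD1_c14 LD2_c24 LD3_c58)) = (LP (LK LD1_c7 LD2_c38 LD3_c55)) :=
  Lre_b IH (LK LD1_c14 LD2_c24 LD3_c58) (LK LD1_c7 LD2_c38 LD3_c55) Lrfl Lrfl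
theorem f521760 : Led Lsl_at (LP (LK LD1_c24 LD2_c4 LD3_c12)) = (LP (LK LD1_c14 LD2_c24 LD3_c58)) :=
  Lre_a IH (LK LD1_c24 LD2_c4 LD3_c12) (LK LD1_c14 LD2_c24 LD3_c58) Lrfl Lrfl
theorem f523342 : Led Lsl_bt (LP (LK LD1_c22 LD2_c21 LD3_c36)) = (LP (LK LD1_c24 LD2_c4 LD3_c12)) :=
  Lgr Lrot62 (Lpr_af (K47.f523340 IH) (Lpe (f477790 IH) (Lpe (f521561 IH) (Lpe (f521725 IH) (Lpe (f521760 IH) (Lpn (LP (LK LD1_c24 LD2_c4 LD3_c12))))))))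
theorem f521759 : Led Lsl_et (LP (LK LD1_c24 LD2_c4 LD3_c12)) = (LP (LK LD1_c14 LD2_c24 LD3_c56)) :=
  Lre_e IH (LK LD1_c24 LD2_c4 LD3_c12) (LK LD1_c14 LD2_c24 LD3_c56) Lrfl Lrfl
theorem f523388 : Led Lsl_bf (LP (LK LD1_c13 LD2_c9 LD3_c6)) = (LP (LK LD1_c14 LD2_c24 LD3_c56)) :=
  Lgr Lrot96 (Lpr_et (K47.f523289 IH) (Lpr_bt (f523342 IH) (Lpr_et (f521759 IH) (Lpn (LP (LK LD1_c14 LD2_c24 LD3_c56))))))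
theorem f136640 : Led Lsl_gt (LP (LK LD1_c13 LD2_c9 LD3_c27)) = (LP (LK LD1_c6 LD2_c55 LD3_c40)) :=
  Lre_g IH (LK LD1_c13 LD2_c9 LD3_c27) (LK LD1_c6 LD2_c55 LD3_c40) Lrfl Lrfl
theorem f95053 : Led Lsl_dt (LP (LK LD1_c3 LD2_c26 LD3_c54)) = (LP (LK LD1_c1 LD2_c40 LD3_c4)) :=
  Lre_d IH (LK LD1_c3 LD2_c26 LD3_c54) (LK LD1_c1 LD2_c40 LD3_c4) Lrfl Lrfl
theorem f132268 : Led Lsl_ct (LP (LK LD1_c6 LD2_c55 LD3_c40)) = (LP (LK LD1_c3 LD2_c26 LD3_c54)) :=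
  Lre_c IH (LK LD1_c6 LD2_c55 LD3_c40) (LK LD1_c3 LD2_c26 LD3_c54) Lrfl Lrfl
theorem f487499 : Led Lsl_ct (LP (LK LD1_c6 LD2_c56 LD3_c26)) = (LP (LK LD1_c13 LD2_c9 LD3_c27)) :=
  Lgr Lrot152 (Lpr_gf (K46.f487497 IH) (Lpe (K46.f456723 IH) (Lpe (K29.f479217 IH) (Lpr_ct (K33.f91584 IH) (Lpr_gt (K28.f91498 IH) (Lpr_ct (K29.f95057 IH) (Lpe (f95053 IH) (Lpe (f132268 IH) (Lpe (f136640 IH) (Lpn (LP (LK LD1_c13 LD2_c9 LD3_c27))))))))))))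
theorem f521666 : Led Lsl_ct (LP (LK LD1_c14 LD2_c24 LD3_c56)) = (LP (LK LD1_c24 LD2_c4 LD3_c11)) :=
  Lre_c IH (LK LD1_c14 LD2_c24 LD3_c56) (LK LD1_c24 LD2_c4 LD3_c11) Lrfl Lrfl
theorem f523390 : Led Lsl_gf (LP (LK LD1_c23 LD2_c12 LD3_c60)) = (LP (LK LD1_c24 LD2_c4 LD3_c11)) :=
  Lgr Lrot126 (Lpe (f467122 IH) (Lpr_bt (f487490 IH) (Lpe (K46.f487497 IH) (Lpr_ct (f487499 IH) (Lpr_gt (f136640 IH) (Lpe (K48.f95058 IH) (Lpr_bt (K8.f136565 IH) (Lpr_gt (K34.f114433 IH) (Lpr_bf (f523388 IH) (Lpr_ct (f521666 IH) (Lpn (LP (LK LD1_c24 LD2_c4 LD3_c11)))))))))))))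
theorem f467107 : Led Lsl_ct (LP (LK LD1_c23 LD2_c12 LD3_c60)) = (LP (LK LD1_c13 LD2_c45 LD3_c50)) :=
  Lre_c IH (LK LD1_c23 LD2_c12 LD3_c60) (LK LD1_c13 LD2_c45 LD3_c50) Lrfl Lrfl
theorem f467106 : Led Lsl_dt (LP (LK LD1_c13 LD2_c45 LD3_c50)) = (LP (LK LD1_c7 LD2_c16 LD3_c23)) :=
  Lre_d IH (LK LD1_c13 LD2_c45 LD3_c50) (LK LD1_c7 LD2_c16 LD3_c23) Lrfl Lrfl
theorem f516399 : Led Lsl_gf (LP (LK LD1_c7 LD2_c9 LD3_c36)) = (LP (LK LD1_c13 LD2_c28 LD3_c37)) :=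
  Lgr Lrot129 (Lpe (K29.f467100 IH) (Lpr_bt (K29.f456725 IH) (Lpe (K29.f479217 IH) (Lpe (K33.f91586 IH) (Lpe (K33.f473232 IH) (Lpr_gt (K33.f485046 IH) (Lpe (K8.f89740 IH) (Lpe (K33.f89738 IH) (Lpr_gt (f516388 IH) (Lpr_ct (f486345 IH) (Lpn (LP (LK LD1_c13 LD2_c28 LD3_c37)))))))))))))
theorem f89749 : Led Lsl_dt (LP (LK LD1_c13 LD2_c29 LD3_c57)) = (LP (LK LD1_c22 LD2_c50 LD3_c43)) :=
  Lre_d IH (LK LD1_c13 LD2_c29 LD3_c57) (LK LD1_c22 LD2_c50 LD3_c43) Lrfl Lrfl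
theorem f523392 : Led Lsl_gt (LP (LK LD1_c22 LD2_c50 LD3_c43)) = (LP (LK LD1_c14 LD2_c24 LD3_c56)) :=
  Lgr Lrot9 (Lpe (f89749 IH) (Lpr_gt (f516388 IH) (Lpr_ct (f486345 IH) (Lpe (f516399 IH) (Lpe (K29.f467104 IH) (Lpe (f467106 IH) (Lpe (f467107 IH) (Lpr_gf (f523390 IH) (Lpe (f521666 IH) (Lpn (LP (LK LD1_c14 LD2_c24 LD3_c56))))))))))))
theorem f666572 : Led Lsl_ct (LP (LK LD1_c23 LD2_c45 LD3_c30)) = (LP (LK LD1_c24 LD2_c11 LD3_c31)) :=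
  Lgr Lrot10 (Lpe (K8.f89743 IH) (Lpr_gt (f523392 IH) (Lpr_ct (f521666 IH) (Lpe (f523390 IH) (Lpe (f467122 IH) (Lpr_bt (f487490 IH) (Lpe (K46.f487497 IH) (Lpe (f11995 IH) (Lpr_ct (f485956 IH) (Lpr_gt (f666566 IH) (Lpn (LP (LK LD1_c24 LD2_c11 LD3_c31)))))))))))))
theorem f560833 : Led Lsl_ff (LP (LK LD1_c14 LD2_c23 LD3_c19)) = (LP (LK LD1_c14 LD2_c10 LD3_c17)) :=
  Lgr Lrot3 (Lpr_ft (f560824 IH) (Lpn (LP (LK LD1_c14 LD2_c10 LD3_c17))))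
theorem f560818 : Led Lsl_at (LP (LK LD1_c14 LD2_c23 LD3_c19)) = (LP (LK LD1_c14 LD2_c19 LD3_c29)) :=
  Lgr Lrot67 (Lpr_bf (f560816 IH) (Lpr_af (K33.f486305 IH) (Lpr_bf (K33.f485067 IH) (Lpe (K37.f485410 IH) (Lpr_bf (K33.f485421 IH) (Lpn (LP (LK LD1_c14 LD2_c19 LD3_c29))))))))
theorem f162440 : Led Lsl_dt (LP (LK LD1_c14 LD2_c19 LD3_c34)) = (LP (LK LD1_c7 LD2_c35 LD3_c58)) :=
  Lre_d IH (LK LD1_c14 LD2_c19 LD3_c34) (LK LD1_c7 LD2_c35 LD3_c58) Lrfl Lrfl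
theorem f162462 : Led Lsl_ct (LP (LK LD1_c23 LD2_c57 LD3_c33)) = (LP (LK LD1_c14 LD2_c19 LD3_c34)) :=
  Lre_c IH (LK LD1_c23 LD2_c57 LD3_c33) (LK LD1_c14 LD2_c19 LD3_c34) Lrfl Lrfl
theorem f162461 : Led Lsl_dt (LP (LK LD1_c31 LD2_c18 LD3_c0)) = (LP (LK LD1_c23 LD2_c57 LD3_c33)) :=
  Lre_d IH (LK LD1_c31 LD2_c18 LD3_c0) (LK LD1_c23 LD2_c57 LD3_c33) Lrfl Lrfl
theorem f659932 : Led Lsl_gf (LP (LK LD1_c6 LD2_c53 LD3_c37)) = (LP (LK LD1_c6 LD2_c59 LD3_c44)) :=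
  Lgr Lrot126 (Lpe (f485827 IH) (Lpr_bt (f485779 IH) (Lpe (K60.f485785 IH) (Lpr_ct (K30.f467645 IH) (Lpe (K29.f483578 IH) (Lpe (K29.f4891 IH) (Lpr_bt (K47.f483584 IH) (Lpr_gt (K47.f659930 IH) (Lpe (K32.f123973 IH) (Lpr_ct (K47.f123984 IH) (Lpn (LP (LK LD1_c6 LD2_c59 LD3_c44)))))))))))))
theorem f130458 : Led Lsl_et (LP (LK LD1_c3 LD2_c29 LD3_c0)) = (LP (LK LD1_c6 LD2_c59 LD3_c44)) :=
  Lre_e IH (LK LD1_c3 LD2_c29 LD3_c0) (LK LD1_c6 LD2_c59 LD3_c44) Lrfl Lrfl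
theorem f16689 : Led Lsl_et (LP (LK LD1_c7 LD2_c30 LD3_c17)) = (LP (LK LD1_c3 LD2_c44 LD3_c35)) :=
  Lre_e IH (LK LD1_c7 LD2_c30 LD3_c17) (LK LD1_c3 LD2_c44 LD3_c35) Lrfl Lrfl
theorem f16690 : Led Lsl_dt (LP (LK LD1_c7 LD2_c30 LD3_c17)) = (LP (LK LD1_c14 LD2_c10 LD3_c19)) :=
  Lre_d IH (LK LD1_c7 LD2_c30 LD3_c17) (LK LD1_c14 LD2_c10 LD3_c19) Lrfl Lrfl
theorem f659995 : Led Lsl_gt (LP (LK LD1_c13 LD2_c10 LD3_c43)) = (LP (LK LD1_c14 LD2_c10 LD3_c19)) :=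
  Lgr Lrot112 (Lpr_df (f485951 IH) (Lpr_et (f485830 IH) (Lpr_gf (f659932 IH) (Lpe (f130458 IH) (Lpr_dt (K8.f130454 IH) (Lpe (K6.f104284 IH) (Lpe (K0.f14711 IH) (Lpe (K5.f14737 IH) (Lpe (f16689 IH) (Lpr_dt (f16690 IH) (Lpn (LP (LK LD1_c14 LD2_c10 LD3_c19)))))))))))))
theorem f89754 : Led Lsl_dt (LP (LK LD1_c14 LD2_c10 LD3_c19)) = (LP (LK LD1_c7 LD2_c30 LD3_c17)) :=
  Lre_d IH (LK LD1_c14 LD2_c10 LD3_c19) (LK LD1_c7 LD2_c30 LD3_c17) Lrfl Lrfl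
theorem f485048 : Led Lsl_gf (LP (LK LD1_c3 LD2_c48 LD3_c56)) = (LP (LK LD1_c7 LD2_c30 LD3_c17)) :=
  Lgr Lrot76 (Lpe (K33.f482170 IH) (Lpe (K33.f482187 IH) (Lpr_gt (K33.f485046 IH) (Lpn (LP (LK LD1_c7 LD2_c30 LD3_c17))))))
theorem f482019 : Led Lsl_gt (LP (LK LD1_c31 LD2_c22 LD3_c10)) = (LP (LK LD1_c24 LD2_c4 LD3_c52)) :=
  Lre_g IH (LK LD1_c31 LD2_c22 LD3_c10) (LK LD1_c24 LD2_c4 LD3_c52) Lrfl Lrfl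
theorem f666568 : Led Lsl_df (LP (LK LD1_c31 LD2_c22 LD3_c10)) = (LP (LK LD1_c24 LD2_c11 LD3_c31)) :=
  Lgr Lrot153 (Lpr_gt (f482019 IH) (Lpr_dt (K49.f482018 IH) (Lpe (K49.f482020 IH) (Lpe (K33.f482003 IH) (Lpr_gf (f485048 IH) (Lpe (f89754 IH) (Lpe (f659995 IH) (Lpe (f11996 IH) (Lpr_gt (f666566 IH) (Lpn (LP (LK LD1_c24 LD2_c11 LD3_c31))))))))))))
theorem f666576 : Led Lsl_cf (LP (LK LD1_c31 LD2_c18 LD3_c0)) = (LP (LK LD1_c31 LD2_c22 LD3_c10)) :=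
  Lgr Lrot116 (Lpr_dt (f162461 IH) (Lpr_ct (f162462 IH) (Lpr_dt (f162440 IH) (Lpr_ct (K34.f162441 IH) (Lpe (f560818 IH) (Lpr_ff (f560833 IH) (Lpr_dt (K8.f89742 IH) (Lpr_ct (f666572 IH) (Lpe (f666568 IH) (Lpn (LP (LK LD1_c31 LD2_c22 LD3_c10))))))))))))
theorem f162460 : Led Lsl_ft (LP (LK LD1_c31 LD2_c18 LD3_c0)) = (LP (LK LD1_c23 LD2_c57 LD3_c32)) :=
  Lre_f IH (LK LD1_c31 LD2_c18 LD3_c0) (LK LD1_c23 LD2_c57 LD3_c32) Lrfl Lrfl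
theorem f162464 : Led Lsl_ct (LP (LK LD1_c23 LD2_c57 LD3_c32)) = (LP (LK LD1_c31 LD2_c17 LD3_c60)) :=
  Lre_c IH (LK LD1_c23 LD2_c57 LD3_c32) (LK LD1_c31 LD2_c17 LD3_c60) Lrfl Lrfl
theorem f666580 : Led Lsl_ft (LP (LK LD1_c31 LD2_c17 LD3_c60)) = (LP (LK LD1_c31 LD2_c22 LD3_c10)) :=
  Lgr Lrot4 (Lpe (f162464 IH) (Lpe (f162460 IH) (Lpr_cf (f666576 IH) (Lpn (LP (LK LD1_c31 LD2_c22 LD3_c10))))))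
theorem f666594 : Led Lsl_ff (LP (LK LD1_c31 LD2_c17 LD3_c60)) = (LP (LK LD1_c31 LD2_c22 LD3_c10)) :=
  Lgr Lrot3 (Lpr_ft (f666580 IH) (Lpn (LP (LK LD1_c31 LD2_c22 LD3_c10))))
theorem f482204 : Led Lsl_gt (LP (LK LD1_c24 LD2_c4 LD3_c52)) = (LP (LK LD1_c31 LD2_c22 LD3_c9)) :=
  Lre_g IH (LK LD1_c24 LD2_c4 LD3_c52) (LK LD1_c31 LD2_c22 LD3_c9) Lrfl Lrfl
theorem f666596 : Led Lsl_at (LP (LK LD1_c31 LD2_c17 LD3_c60)) = (LP (LK LD1_c31 LD2_c22 LD3_c9)) :=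
  Lgr Lrot26 (Lpr_ff (f666594 IH) (Lpr_gt (f482019 IH) (Lpr_gt (f482204 IH) (Lpn (LP (LK LD1_c31 LD2_c22 LD3_c9))))))
theorem f162147 : Led Lsl_dt (LP (LK LD1_c23 LD2_c57 LD3_c33)) = (LP (LK LD1_c31 LD2_c18 LD3_c0)) :=
  Lre_d IH (LK LD1_c23 LD2_c57 LD3_c33) (LK LD1_c31 LD2_c18 LD3_c0) Lrfl Lrfl
theorem f162146 : Led Lsl_ct (LP (LK LD1_c14 LD2_c19 LD3_c34)) = (LP (LK LD1_c23 LD2_c57 LD3_c33)) :=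
  Lre_c IH (LK LD1_c14 LD2_c19 LD3_c34) (LK LD1_c23 LD2_c57 LD3_c33) Lrfl Lrfl
theorem f482168 : Led Lsl_at (LP (LK LD1_c23 LD2_c12 LD3_c52)) = (LP (LK LD1_c14 LD2_c25 LD3_c12)) :=
  Lgr Lrot107 (Lpe (f457320 IH) (Lpr_af (K33.f482164 IH) (Lpe (K49.f482017 IH) (Lpn (LP (LK LD1_c14 LD2_c25 LD3_c12))))))
theorem f482202 : Led Lsl_ft (LP (LK LD1_c22 LD2_c22 LD3_c7)) = (LP (LK LD1_c23 LD2_c12 LD3_c52)) :=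
  Lgr Lrot142 (Lpr_dt (K49.f473235 IH) (Lpr_ct (K49.f482197 IH) (Lpr_dt (K49.f482018 IH) (Lpr_ct (K49.f482017 IH) (Lpr_dt (K49.f482009 IH) (Lpe (K33.f482177 IH) (Lpr_dt (K33.f482003 IH) (Lpr_ct (K49.f482020 IH) (Lpe (f482168 IH) (Lpn (LP (LK LD1_c23 LD2_c12 LD3_c52))))))))))))
theorem f482208 : Led Lsl_ff (LP (LK LD1_c22 LD2_c22 LD3_c7)) = (LP (LK LD1_c23 LD2_c12 LD3_c52)) :=
  Lgr Lrot3 (Lpr_ft (f482202 IH) (Lpn (LP (LK LD1_c23 LD2_c12 LD3_c52))))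
theorem f457338 : Led Lsl_dt (LP (LK LD1_c30 LD2_c56 LD3_c44)) = (LP (LK LD1_c23 LD2_c12 LD3_c52)) :=
  Lre_d IH (LK LD1_c30 LD2_c56 LD3_c44) (LK LD1_c23 LD2_c12 LD3_c52) Lrfl Lrfl
theorem f482213 : Led Lsl_ft (LP (LK LD1_c30 LD2_c27 LD3_c25)) = (LP (LK LD1_c30 LD2_c56 LD3_c44)) :=
  Lgr Lrot54 (Lpe (K49.f473235 IH) (Lpr_ff (f482208 IH) (Lpe (f457338 IH) (Lpn (LP (LK LD1_c30 LD2_c56 LD3_c44))))))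
theorem f91579 : Led Lsl_dt (LP (LK LD1_c13 LD2_c9 LD3_c31)) = (LP (LK LD1_c6 LD2_c55 LD3_c42)) :=
  Lre_d IH (LK LD1_c13 LD2_c9 LD3_c31) (LK LD1_c6 LD2_c55 LD3_c42) Lrfl Lrfl
theorem f482216 : Led Lsl_af (LP (LK LD1_c24 LD2_c4 LD3_c52)) = (LP (LK LD1_c30 LD2_c56 LD3_c44)) :=
  Lgr Lrot109 (Lpe (K49.f482197 IH) (Lpe (K49.f473235 IH) (Lpe (K49.f473234 IH) (Lpe (K49.f91564 IH) (Lpr_cf (K33.f473232 IH) (Lpe (f91579 IH) (Lpe (K49.f473236 IH) (Lpe (K49.f473237 IH) (Lpr_ft (f482213 IH) (Lpn (LP (LK LD1_c30 LD2_c56 LD3_c44))))))))))))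
theorem f482222 : Led Lsl_gf (LP (LK LD1_c31 LD2_c22 LD3_c10)) = (LP (LK LD1_c30 LD2_c27 LD3_c25)) :=
  Lgr Lrot47 (Lpr_gt (f482019 IH) (Lpr_af (f482216 IH) (Lpe (f482213 IH) (Lpn (LP (LK LD1_c30 LD2_c27 LD3_c25))))))
theorem f666582 : Led Lsl_gf (LP (LK LD1_c14 LD2_c19 LD3_c34)) = (LP (LK LD1_c7 LD2_c41 LD3_c44)) :=
  Lgr Lrot104 (Lpr_ct (f162146 IH) (Lpe (f162461 IH) (Lpr_cf (f666576 IH) (Lpr_gf (f482222 IH) (Lpr_cf (K49.f482199 IH) (Lpe (f482019 IH) (Lpr_df (f666568 IH) (Lpr_gt (f665508 IH) (Lpr_ct (f665504 IH) (Lpn (LP (LK LD1_c7 LD2_c41 LD3_c44))))))))))))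
theorem f666584 : Led Lsl_df (LP (LK LD1_c24 LD2_c11 LD3_c31)) = (LP (LK LD1_c31 LD2_c22 LD3_c10)) :=
  Lgr Lrot155 (Lpr_gt (f665508 IH) (Lpr_ct (f665504 IH) (Lpe (f666582 IH) (Lpr_ct (f162146 IH) (Lpr_dt (f162147 IH) (Lpr_cf (f666576 IH) (Lpr_gf (f482222 IH) (Lpr_cf (K49.f482199 IH) (Lpe (f482019 IH) (Lpn (LP (LK LD1_c31 LD2_c22 LD3_c10))))))))))))
theorem f16770 : Led Lsl_et (LP (LK LD1_c3 LD2_c47 LD3_c31)) = (LP (LK LD1_c7 LD2_c35 LD3_c56)) :=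
  Lre_e IH (LK LD1_c3 LD2_c47 LD3_c31) (LK LD1_c7 LD2_c35 LD3_c56) Lrfl Lrfl
theorem f96509 : Led Lsl_et (LP (LK LD1_c14 LD2_c10 LD3_c18)) = (LP (LK LD1_c7 LD2_c30 LD3_c16)) :=
  Lre_e IH (LK LD1_c14 LD2_c10 LD3_c18) (LK LD1_c7 LD2_c30 LD3_c16) Lrfl Lrfl
theorem f162389 : Led Lsl_at (LP (LK LD1_c7 LD2_c35 LD3_c56)) = (LP (LK LD1_c14 LD2_c10 LD3_c18)) :=
  Lgr Lrot80 (Lpe (f16770 IH) (Lpr_af (K8.f162374 IH) (Lpe (f96509 IH) (Lpn (LP (LK LD1_c14 LD2_c10 LD3_c18))))))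
theorem f156569 : Led Lsl_dt (LP (LK LD1_c14 LD2_c19 LD3_c30)) = (LP (LK LD1_c7 LD2_c35 LD3_c56)) :=
  Lre_d IH (LK LD1_c14 LD2_c19 LD3_c30) (LK LD1_c7 LD2_c35 LD3_c56) Lrfl Lrfl
theorem f96515 : Led Lsl_dt (LP (LK LD1_c14 LD2_c10 LD3_c18)) = (LP (LK LD1_c23 LD2_c45 LD3_c31)) :=
  Lre_d IH (LK LD1_c14 LD2_c10 LD3_c18) (LK LD1_c23 LD2_c45 LD3_c31) Lrfl Lrfl
theorem f162421 : Led Lsl_af (LP (LK LD1_c14 LD2_c19 LD3_c30)) = (LP (LK LD1_c23 LD2_c45 LD3_c31)) :=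
  Lgr Lrot117 (Lpr_dt (f156569 IH) (Lpr_at (f162389 IH) (Lpr_dt (f96515 IH) (Lpn (LP (LK LD1_c23 LD2_c45 LD3_c31))))))
theorem f162427 : Led Lsl_et (LP (LK LD1_c14 LD2_c19 LD3_c30)) = (LP (LK LD1_c7 LD2_c35 LD3_c57)) :=
  Lre_e IH (LK LD1_c14 LD2_c19 LD3_c30) (LK LD1_c7 LD2_c35 LD3_c57) Lrfl Lrfl
theorem f162428 : Led Lsl_et (LP (LK LD1_c14 LD2_c10 LD3_c19)) = (LP (LK LD1_c23 LD2_c45 LD3_c31)) :=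
  Lre_e IH (LK LD1_c14 LD2_c10 LD3_c19) (LK LD1_c23 LD2_c45 LD3_c31) Lrfl Lrfl
theorem f162429 : Led Lsl_at (LP (LK LD1_c7 LD2_c35 LD3_c57)) = (LP (LK LD1_c14 LD2_c10 LD3_c19)) :=
  Lgr Lrot80 (Lpe (f162427 IH) (Lpr_af (f162421 IH) (Lpe (f162428 IH) (Lpn (LP (LK LD1_c14 LD2_c10 LD3_c19))))))
theorem f162439 : Led Lsl_ft (LP (LK LD1_c14 LD2_c19 LD3_c34)) = (LP (LK LD1_c7 LD2_c35 LD3_c57)) :=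
  Lre_f IH (LK LD1_c14 LD2_c19 LD3_c34) (LK LD1_c7 LD2_c35 LD3_c57) Lrfl Lrfl
theorem f659997 : Led Lsl_gf (LP (LK LD1_c13 LD2_c10 LD3_c43)) = (LP (LK LD1_c14 LD2_c19 LD3_c34)) :=
  Lgr Lrot47 (Lpr_gt (f659995 IH) (Lpe (f162429 IH) (Lpe (f162439 IH) (Lpn (LP (LK LD1_c14 LD2_c19 LD3_c34))))))
theorem f666570 : Led Lsl_cf (LP (LK LD1_c23 LD2_c45 LD3_c30)) = (LP (LK LD1_c24 LD2_c11 LD3_c31)) :=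
  Lgr Lrot99 (Lpe (K8.f89742 IH) (Lpe (K33.f89751 IH) (Lpe (K33.f485046 IH) (Lpr_cf (K33.f473232 IH) (Lpr_gf (K33.f485042 IH) (Lpe (f162440 IH) (Lpe (f659997 IH) (Lpr_ct (f485956 IH) (Lpr_gt (f666566 IH) (Lpn (LP (LK LD1_c24 LD2_c11 LD3_c31))))))))))))
theorem f162434 : Led Lsl_ct (LP (LK LD1_c14 LD2_c10 LD3_c19)) = (LP (LK LD1_c23 LD2_c45 LD3_c32)) :=
  Lre_c IH (LK LD1_c14 LD2_c10 LD3_c19) (LK LD1_c23 LD2_c45 LD3_c32) Lrfl Lrfl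
theorem f162465 : Led Lsl_dt (LP (LK LD1_c23 LD2_c45 LD3_c32)) = (LP (LK LD1_c31 LD2_c12 LD3_c28)) :=
  Lre_d IH (LK LD1_c23 LD2_c45 LD3_c32) (LK LD1_c31 LD2_c12 LD3_c28) Lrfl Lrfl
theorem f666598 : Led Lsl_cf (LP (LK LD1_c31 LD2_c22 LD3_c9)) = (LP (LK LD1_c31 LD2_c12 LD3_c28)) :=
  Lgr Lrot102 (Lpe (f666596 IH) (Lpr_ff (f666594 IH) (Lpe (f666584 IH) (Lpe (f666570 IH) (Lpr_dt (K8.f89750 IH) (Lpr_ct (K8.f89740 IH) (Lpr_dt (f16690 IH) (Lpr_ct (f162434 IH) (Lpr_dt (f162465 IH) (Lpn (LP (LK LD1_c31 LD2_c12 LD3_c28))))))))))))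
theorem f162136 : Led Lsl_ct (LP (LK LD1_c14 LD2_c19 LD3_c33)) = (LP (LK LD1_c7 LD2_c35 LD3_c57)) :=
  Lre_c IH (LK LD1_c14 LD2_c19 LD3_c33) (LK LD1_c7 LD2_c35 LD3_c57) Lrfl Lrfl
theorem f162435 : Led Lsl_af (LP (LK LD1_c14 LD2_c19 LD3_c33)) = (LP (LK LD1_c23 LD2_c45 LD3_c32)) :=
  Lgr Lrot68 (Lpr_ct (f162136 IH) (Lpr_at (f162429 IH) (Lpr_ct (f162434 IH) (Lpn (LP (LK LD1_c23 LD2_c45 LD3_c32))))))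
theorem f162449 : Led Lsl_dt (LP (LK LD1_c14 LD2_c19 LD3_c33)) = (LP (LK LD1_c23 LD2_c57 LD3_c32)) :=
  Lre_d IH (LK LD1_c14 LD2_c19 LD3_c33) (LK LD1_c23 LD2_c57 LD3_c32) Lrfl Lrfl
theorem f162444 : Led Lsl_dt (LP (LK LD1_c31 LD2_c12 LD3_c28)) = (LP (LK LD1_c23 LD2_c45 LD3_c32)) :=
  Lre_d IH (LK LD1_c31 LD2_c12 LD3_c28) (LK LD1_c23 LD2_c45 LD3_c32) Lrfl Lrfl
theorem f162450 : Led Lsl_at (LP (LK LD1_c23 LD2_c57 LD3_c32)) = (LP (LK LD1_c31 LD2_c12 LD3_c28)) :=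
  Lgr Lrot51 (Lpe (f162449 IH) (Lpr_af (f162435 IH) (Lpe (f162444 IH) (Lpn (LP (LK LD1_c31 LD2_c12 LD3_c28))))))
theorem f162138 : Led Lsl_ct (LP (LK LD1_c31 LD2_c17 LD3_c60)) = (LP (LK LD1_c23 LD2_c57 LD3_c32)) :=
  Lre_c IH (LK LD1_c31 LD2_c17 LD3_c60) (LK LD1_c23 LD2_c57 LD3_c32) Lrfl Lrfl
theorem f666600 : Led Lsl_at (LP (LK LD1_c31 LD2_c22 LD3_c9)) = (LP (LK LD1_c31 LD2_c17 LD3_c60)) :=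
  Lgr Lrot107 (Lpr_cf (f666598 IH) (Lpe (f162450 IH) (Lpe (f162138 IH) (Lpn (LP (LK LD1_c31 LD2_c17 LD3_c60))))))
theorem f144984 : Led Lsl_ct (LP (LK LD1_c23 LD2_c57 LD3_c24)) = (LP (LK LD1_c14 LD2_c19 LD3_c28)) :=
  Lre_c IH (LK LD1_c23 LD2_c57 LD3_c24) (LK LD1_c14 LD2_c19 LD3_c28) Lrfl Lrfl
theorem f666574 : Led Lsl_af (LP (LK LD1_c23 LD2_c57 LD3_c24)) = (LP (LK LD1_c24 LD2_c11 LD3_c31)) :=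
  Lgr Lrot68 (Lpr_ct (f144984 IH) (Lpe (K8.f162134 IH) (Lpr_ct (f666572 IH) (Lpn (LP (LK LD1_c24 LD2_c11 LD3_c31))))))
theorem f560862 : Led Lsl_dt (LP (LK LD1_c23 LD2_c57 LD3_c24)) = (LP (LK LD1_c31 LD2_c17 LD3_c54)) :=
  Lre_d IH (LK LD1_c23 LD2_c57 LD3_c24) (LK LD1_c31 LD2_c17 LD3_c54) Lrfl Lrfl
theorem f666586 : Led Lsl_at (LP (LK LD1_c31 LD2_c17 LD3_c54)) = (LP (LK LD1_c31 LD2_c22 LD3_c10)) :=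
  Lgr Lrot51 (Lpe (f560862 IH) (Lpr_af (f666574 IH) (Lpr_df (f666584 IH) (Lpn (LP (LK LD1_c31 LD2_c22 LD3_c10))))))
theorem f666588 : Led Lsl_af (LP (LK LD1_c31 LD2_c17 LD3_c54)) = (LP (LK LD1_c31 LD2_c22 LD3_c10)) :=
  Lgr Lrot0 (Lpr_at (f666586 IH) (Lpn (LP (LK LD1_c31 LD2_c22 LD3_c10))))
theorem f666604 : Led Lsl_ff (LP (LK LD1_c31 LD2_c22 LD3_c9)) = (LP (LK LD1_c31 LD2_c17 LD3_c54)) :=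
  Lgr Lrot30 (Lpr_at (f666600 IH) (Lpr_ft (f666580 IH) (Lpe (f666588 IH) (Lpn (LP (LK LD1_c31 LD2_c17 LD3_c54))))))
theorem f666606 : Led Lsl_ft (LP (LK LD1_c31 LD2_c22 LD3_c9)) = (LP (LK LD1_c31 LD2_c17 LD3_c54)) :=
  Lgr Lrot48 (Lpr_ff (f666604 IH) (Lpn (LP (LK LD1_c31 LD2_c17 LD3_c54))))
theorem f666608 : Led Lsl_gt (LP (LK LD1_c31 LD2_c22 LD3_c9)) = (LP (LK LD1_c30 LD2_c27 LD3_c25)) :=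
  Lgr Lrot5 (Lpr_ft (f666606 IH) (Lpr_at (f666586 IH) (Lpr_gf (f482222 IH) (Lpn (LP (LK LD1_c30 LD2_c27 LD3_c25))))))
theorem f666592 : Led Lsl_gt (LP (LK LD1_c14 LD2_c30 LD3_c21)) = (LP (LK LD1_c24 LD2_c11 LD3_c30)) :=
  Lre_g IH (LK LD1_c14 LD2_c30 LD3_c21) (LK LD1_c24 LD2_c11 LD3_c30) Lrfl Lrfl
theorem f666610 : Led Lsl_df (LP (LK LD1_c31 LD2_c22 LD3_c9)) = (LP (LK LD1_c24 LD2_c11 LD3_c30)) :=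
  Lgr Lrot153 (Lpr_gt (f666608 IH) (Lpr_dt (K49.f473237 IH) (Lpe (K49.f473234 IH) (Lpe (K49.f91564 IH) (Lpr_gf (K33.f485042 IH) (Lpe (f162440 IH) (Lpr_gf (f666582 IH) (Lpe (f665504 IH) (Lpr_gt (f666592 IH) (Lpn (LP (LK LD1_c24 LD2_c11 LD3_c30))))))))))))
theorem f666602 : Led Lsl_ct (LP (LK LD1_c31 LD2_c22 LD3_c9)) = (LP (LK LD1_c31 LD2_c12 LD3_c28)) :=
  Lgr Lrot59 (Lpr_cf (f666598 IH) (Lpn (LP (LK LD1_c31 LD2_c12 LD3_c28))))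
theorem f666612 : Led Lsl_gt (LP (LK LD1_c24 LD2_c11 LD3_c30)) = (LP (LK LD1_c22 LD2_c23 LD3_c15)) :=
  Lgr Lrot146 (Lpe (f666610 IH) (Lpr_gt (f666608 IH) (Lpr_ct (K49.f482197 IH) (Lpr_gt (f482204 IH) (Lpr_ct (f666602 IH) (Lpr_dt (f162444 IH) (Lpe (f162434 IH) (Lpe (f659995 IH) (Lpe (f11996 IH) (Lpn (LP (LK LD1_c22 LD2_c23 LD3_c15))))))))))))
theorem f666548 : Led Lsl_cf (LP (LK LD1_c30 LD2_c27 LD3_c50)) = (LP (LK LD1_c24 LD2_c11 LD3_c32)) :=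
  Lgr Lrot11 (Lpr_ct (f666546 IH) (Lpn (LP (LK LD1_c24 LD2_c11 LD3_c32))))
theorem f666550 : Led Lsl_dt (LP (LK LD1_c14 LD2_c30 LD3_c21)) = (LP (LK LD1_c24 LD2_c11 LD3_c32)) :=
  Lre_d IH (LK LD1_c14 LD2_c30 LD3_c21) (LK LD1_c24 LD2_c11 LD3_c32) Lrfl Lrfl
theorem f666616 : Led Lsl_df (LP (LK LD1_c24 LD2_c11 LD3_c30)) = (LP (LK LD1_c31 LD2_c22 LD3_c9)) :=
  Lgr Lrot153 (Lpr_gt (f666612 IH) (Lpr_dt (f485957 IH) (Lpr_cf (f666548 IH) (Lpe (f666550 IH) (Lpe (f665508 IH) (Lpr_df (f666584 IH) (Lpr_gf (f482222 IH) (Lpr_cf (K49.f482199 IH) (Lpr_gt (f482204 IH) (Lpn (LP (LK LD1_c31 LD2_c22 LD3_c9))))))))))))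
theorem f666578 : Led Lsl_ct (LP (LK LD1_c31 LD2_c18 LD3_c0)) = (LP (LK LD1_c31 LD2_c22 LD3_c10)) :=
  Lgr Lrot59 (Lpr_cf (f666576 IH) (Lpn (LP (LK LD1_c31 LD2_c22 LD3_c10))))
theorem f162145 : Led Lsl_dt (LP (LK LD1_c7 LD2_c35 LD3_c58)) = (LP (LK LD1_c14 LD2_c19 LD3_c34)) :=
  Lre_d IH (LK LD1_c7 LD2_c35 LD3_c58) (LK LD1_c14 LD2_c19 LD3_c34) Lrfl Lrfl
theorem f162143 : Led Lsl_dt (LP (LK LD1_c23 LD2_c57 LD3_c25)) = (LP (LK LD1_c14 LD2_c19 LD3_c29)) :=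
  Lre_d IH (LK LD1_c23 LD2_c57 LD3_c25) (LK LD1_c14 LD2_c19 LD3_c29) Lrfl Lrfl
theorem f666618 : Led Lsl_ct (LP (LK LD1_c24 LD2_c11 LD3_c30)) = (LP (LK LD1_c23 LD2_c57 LD3_c25)) :=
  Lgr Lrot176 (Lpr_df (f666616 IH) (Lpr_cf (f666598 IH) (Lpe (f162465 IH) (Lpe (f162434 IH) (Lpe (f16690 IH) (Lpe (K8.f89740 IH) (Lpe (K8.f89750 IH) (Lpr_cf (f666570 IH) (Lpr_df (f666584 IH) (Lpe (f666578 IH) (Lpe (f162147 IH) (Lpe (f162146 IH) (Lpe (f162145 IH) (Lpe (K33.f162144 IH) (Lpe (f162143 IH) (Lpn (LP (LK LD1_c23 LD2_c57 LD3_c25))))))))))))))))))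
theorem f666620 : Led Lsl_cf (LP (LK LD1_c24 LD2_c11 LD3_c30)) = (LP (LK LD1_c23 LD2_c57 LD3_c25)) :=
  Lgr Lrot11 (Lpr_ct (f666618 IH) (Lpn (LP (LK LD1_c23 LD2_c57 LD3_c25))))
theorem f485359 : Led Lsl_dt (LP (LK LD1_c14 LD2_c52 LD3_c37)) = (LP (LK LD1_c24 LD2_c39 LD3_c13)) :=
  Lre_d IH (LK LD1_c14 LD2_c52 LD3_c37) (LK LD1_c24 LD2_c39 LD3_c13) Lrfl Lrfl
theorem f485427 : Led Lsl_ft (LP (LK LD1_c24 LD2_c39 LD3_c13)) = (LP (LK LD1_c22 LD2_c19 LD3_c52)) :=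
  Lgr Lrot54 (Lpe (f485359 IH) (Lpr_ff (K37.f485425 IH) (Lpe (K8.f144985 IH) (Lpn (LP (LK LD1_c22 LD2_c19 LD3_c52))))))
theorem f144983 : Led Lsl_ft (LP (LK LD1_c14 LD2_c19 LD3_c28)) = (LP (LK LD1_c23 LD2_c57 LD3_c25)) :=
  Lre_f IH (LK LD1_c14 LD2_c19 LD3_c28) (LK LD1_c23 LD2_c57 LD3_c25) Lrfl Lrfl
theorem f485431 : Led Lsl_bf (LP (LK LD1_c24 LD2_c39 LD3_c13)) = (LP (LK LD1_c23 LD2_c57 LD3_c25)) :=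
  Lgr Lrot61 (Lpr_ft (f485427 IH) (Lpr_bt (K8.f144975 IH) (Lpr_ft (f144983 IH) (Lpn (LP (LK LD1_c23 LD2_c57 LD3_c25))))))
theorem f786866 : Led Lsl_gt (LP (LK LD1_c14 LD2_c52 LD3_c42)) = (LP (LK LD1_c24 LD2_c39 LD3_c13)) :=
  Lgr Lrot164 (Lpe (f785525 IH) (Lpr_ct (f786861 IH) (Lpe (f786858 IH) (Lpe (f12009 IH) (Lpe (K46.f11994 IH) (Lpe (f11995 IH) (Lpr_ct (f485956 IH) (Lpe (f666612 IH) (Lpr_cf (f666620 IH) (Lpe (f485431 IH) (Lpn (LP (LK LD1_c24 LD2_c39 LD3_c13)))))))))))))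
theorem f786867 : Led Lsl_gt (LP (LK LD1_c14 LD2_c52 LD3_c42)) = (LP (LK LD1_c24 LD2_c39 LD3_c13)) :=
  Leop (Lpe (f786866 IH) (Lpn (LP (LK LD1_c14 LD2_c52 LD3_c42))))
theorem seed_1526 : LEOK LG_g (LK LD1_c14 LD2_c52 LD3_c42) :=
  Leoe_g (LK LD1_c14 LD2_c52 LD3_c42) (f786867 IH)
def v7079 : LQ := Led Lsl_ct (LP (LK LD1_c3 LD2_c37 LD3_c60))
theorem f660746 : Led Lsl_ct (LP (LK LD1_c3 LD2_c37 LD3_c60)) = v7079 :=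
  Lrfl
theorem f467103 : Led Lsl_bt (LP (LK LD1_c3 LD2_c37 LD3_c60)) = (LP (LK LD1_c7 LD2_c16 LD3_c23)) :=
  Lre_b IH (LK LD1_c3 LD2_c37 LD3_c60) (LK LD1_c7 LD2_c16 LD3_c23) Lrfl Lrfl
theorem f543197 : Led Lsl_cf (LP (LK LD1_c11 LD2_c27 LD3_c61)) = (LP (LK LD1_c7 LD2_c37 LD3_c45)) :=
  Lgr Lrot108 (Lpr_ft (K37.f450503 IH) (Lpr_ct (K37.f543164 IH) (Lpr_ft (K33.f485060 IH) (Lpn (LP (LK LD1_c7 LD2_c37 LD3_c45))))))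
theorem f660752 : Led Lsl_gt (LP (LK LD1_c3 LD2_c47 LD3_c8)) = v7079 :=
  Lgr Lrot65 (Lpe (K33.f485437 IH) (Lpr_bt (K33.f485354 IH) (Lpr_gf (K33.f485445 IH) (Lpe (K8.f144891 IH) (Lpe (f543197 IH) (Lpe (f560809 IH) (Lpe (f606584 IH) (Lpe (f467111 IH) (Lpe (f467103 IH) (Lpr_ct (f660746 IH) (Lpn v7079)))))))))))
theorem f660749 : Led Lsl_cf (LP (LK LD1_c3 LD2_c37 LD3_c60)) = v7079 :=
  Lgr Lrot11 (Lpr_ct (f660746 IH) (Lpn v7079))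
theorem f487493 : Led Lsl_ct (LP (LK LD1_c13 LD2_c45 LD3_c51)) = (LP (LK LD1_c7 LD2_c16 LD3_c24)) :=
  Lre_c IH (LK LD1_c13 LD2_c45 LD3_c51) (LK LD1_c7 LD2_c16 LD3_c24) Lrfl Lrfl
theorem f786865 : Led Lsl_gf (LP (LK LD1_c13 LD2_c45 LD3_c51)) = v20416 :=
  Lgr Lrot104 (Lpr_ct (f487493 IH) (Lpe (K46.f456723 IH) (Lpr_cf (f660749 IH) (Lpe (f660752 IH) (Lpe (K33.f485437 IH) (Lpe (K33.f12224 IH) (Lpe (K60.f12220 IH) (Lpr_gt (f12315 IH) (Lpr_ct (f786861 IH) (Lpn v20416))))))))))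
theorem f456724 : Led Lsl_ct (LP (LK LD1_c7 LD2_c16 LD3_c24)) = (LP (LK LD1_c13 LD2_c45 LD3_c51)) :=
  Lre_c IH (LK LD1_c7 LD2_c16 LD3_c24) (LK LD1_c13 LD2_c45 LD3_c51) Lrfl Lrfl
theorem f487509 : Led Lsl_bt (LP (LK LD1_c7 LD2_c16 LD3_c24)) = (LP (LK LD1_c13 LD2_c45 LD3_c50)) :=
  Lre_b IH (LK LD1_c7 LD2_c16 LD3_c24) (LK LD1_c13 LD2_c45 LD3_c50) Lrfl Lrfl
theorem f478239 : Led Lsl_gt (LP (LK LD1_c13 LD2_c45 LD3_c50)) = (LP (LK LD1_c23 LD2_c12 LD3_c59)) :=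
  Lre_g IH (LK LD1_c13 LD2_c45 LD3_c50) (LK LD1_c23 LD2_c12 LD3_c59) Lrfl Lrfl
theorem f467121 : Led Lsl_dt (LP (LK LD1_c7 LD2_c16 LD3_c23)) = (LP (LK LD1_c13 LD2_c45 LD3_c50)) :=
  Lre_d IH (LK LD1_c7 LD2_c16 LD3_c23) (LK LD1_c13 LD2_c45 LD3_c50) Lrfl Lrfl
theorem f487515 : Led Lsl_ct (LP (LK LD1_c23 LD2_c12 LD3_c59)) = (LP (LK LD1_c30 LD2_c56 LD3_c46)) :=
  Lre_c IH (LK LD1_c23 LD2_c12 LD3_c59) (LK LD1_c30 LD2_c56 LD3_c46) Lrfl Lrfl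
theorem f449922 : Led Lsl_bt (LP (LK LD1_c11 LD2_c27 LD3_c61)) = (LP (LK LD1_c5 LD2_c49 LD3_c40)) :=
  Lre_b IH (LK LD1_c11 LD2_c27 LD3_c61) (LK LD1_c5 LD2_c49 LD3_c40) Lrfl Lrfl
theorem f543041 : Led Lsl_cf (LP (LK LD1_c7 LD2_c37 LD3_c45)) = (LP (LK LD1_c11 LD2_c27 LD3_c61)) :=
  Lgr Lrot160 (Lpe (K33.f486303 IH) (Lpr_cf (K33.f486245 IH) (Lpr_bt (K33.f442170 IH) (Lpr_gt (K28.f10828 IH) (Lpr_ct (K37.f467934 IH) (Lpr_gt (K29.f479128 IH) (Lpe (K40.f10653 IH) (Lpr_bt (K55.f456593 IH) (Lpr_gt (K37.f543035 IH) (Lpe (f449922 IH) (Lpn (LP (LK LD1_c11 LD2_c27 LD3_c61)))))))))))))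
theorem f144902 : Led Lsl_ct (LP (LK LD1_c24 LD2_c0 LD3_c52)) = (LP (LK LD1_c14 LD2_c22 LD3_c41)) :=
  Lre_c IH (LK LD1_c24 LD2_c0 LD3_c52) (LK LD1_c14 LD2_c22 LD3_c41) Lrfl Lrfl
theorem f606591 : Led Lsl_gt (LP (LK LD1_c30 LD2_c56 LD3_c46)) = (LP (LK LD1_c24 LD2_c0 LD3_c52)) :=
  Lgr Lrot150 (Lpe (f487515 IH) (Lpe (f478239 IH) (Lpe (f467121 IH) (Lpr_gt (f467111 IH) (Lpr_ct (f606584 IH) (Lpr_gt (f560809 IH) (Lpe (f543041 IH) (Lpe (K8.f144895 IH) (Lpe (f144902 IH) (Lpn (LP (LK LD1_c24 LD2_c0 LD3_c52))))))))))))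
theorem f89748 : Led Lsl_ct (LP (LK LD1_c30 LD2_c45 LD3_c11)) = (LP (LK LD1_c22 LD2_c50 LD3_c43)) :=
  Lre_c IH (LK LD1_c30 LD2_c45 LD3_c11) (LK LD1_c22 LD2_c50 LD3_c43) Lrfl Lrfl
theorem f144900 : Led Lsl_ct (LP (LK LD1_c14 LD2_c22 LD3_c41)) = (LP (LK LD1_c24 LD2_c0 LD3_c52)) :=
  Lre_c IH (LK LD1_c14 LD2_c22 LD3_c41) (LK LD1_c24 LD2_c0 LD3_c52) Lrfl Lrfl
theorem f162150 : Led Lsl_af (LP (LK LD1_c30 LD2_c45 LD3_c11)) = (LP (LK LD1_c24 LD2_c0 LD3_c52)) :=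
  Lgr Lrot68 (Lpr_ct (f89748 IH) (Lpr_at (K8.f162141 IH) (Lpr_ct (f144900 IH) (Lpn (LP (LK LD1_c24 LD2_c0 LD3_c52))))))
theorem f162152 : Led Lsl_at (LP (LK LD1_c30 LD2_c45 LD3_c11)) = (LP (LK LD1_c24 LD2_c0 LD3_c52)) :=
  Lgr Lrot100 (Lpr_af (f162150 IH) (Lpn (LP (LK LD1_c24 LD2_c0 LD3_c52))))
theorem f64769 : Led Lsl_dt (LP (LK LD1_c7 LD2_c38 LD3_c38)) = (LP (LK LD1_c14 LD2_c24 LD3_c23)) :=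
  Lre_d IH (LK LD1_c7 LD2_c38 LD3_c38) (LK LD1_c14 LD2_c24 LD3_c23) Lrfl Lrfl
theorem f486328 : Led Lsl_ft (LP (LK LD1_c14 LD2_c24 LD3_c23)) = (LP (LK LD1_c22 LD2_c50 LD3_c43)) :=
  Lgr Lrot54 (Lpe (f64769 IH) (Lpr_ff (f486324 IH) (Lpe (K8.f89741 IH) (Lpn (LP (LK LD1_c22 LD2_c50 LD3_c43))))))
theorem f486332 : Led Lsl_ct (LP (LK LD1_c24 LD2_c3 LD3_c20)) = (LP (LK LD1_c14 LD2_c24 LD3_c23)) :=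
  Lre_c IH (LK LD1_c24 LD2_c3 LD3_c20) (LK LD1_c14 LD2_c24 LD3_c23) Lrfl Lrfl
theorem f89747 : Led Lsl_ct (LP (LK LD1_c22 LD2_c50 LD3_c43)) = (LP (LK LD1_c30 LD2_c45 LD3_c11)) :=
  Lre_c IH (LK LD1_c22 LD2_c50 LD3_c43) (LK LD1_c30 LD2_c45 LD3_c11) Lrfl Lrfl
theorem f486333 : Led Lsl_ff (LP (LK LD1_c24 LD2_c3 LD3_c20)) = (LP (LK LD1_c30 LD2_c45 LD3_c11)) :=
  Lgr Lrot23 (Lpr_ct (f486332 IH) (Lpr_ft (f486328 IH) (Lpr_ct (f89747 IH) (Lpn (LP (LK LD1_c30 LD2_c45 LD3_c11))))))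
theorem f486338 : Led Lsl_ft (LP (LK LD1_c24 LD2_c3 LD3_c20)) = (LP (LK LD1_c30 LD2_c45 LD3_c11)) :=
  Lgr Lrot48 (Lpr_ff (f486333 IH) (Lpn (LP (LK LD1_c30 LD2_c45 LD3_c11))))
theorem f606593 : Led Lsl_gf (LP (LK LD1_c30 LD2_c56 LD3_c46)) = (LP (LK LD1_c24 LD2_c3 LD3_c20)) :=
  Lgr Lrot47 (Lpr_gt (f606591 IH) (Lpe (f162152 IH) (Lpe (f486338 IH) (Lpn (LP (LK LD1_c24 LD2_c3 LD3_c20))))))
theorem f486267 : Led Lsl_ct (LP (LK LD1_c14 LD2_c24 LD3_c23)) = (LP (LK LD1_c24 LD2_c3 LD3_c20)) :=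
  Lre_c IH (LK LD1_c14 LD2_c24 LD3_c23) (LK LD1_c24 LD2_c3 LD3_c20) Lrfl Lrfl
theorem f127300 : Led Lsl_bt (LP (LK LD1_c7 LD2_c42 LD3_c47)) = (LP (LK LD1_c3 LD2_c50 LD3_c52)) :=
  Lre_b IH (LK LD1_c7 LD2_c42 LD3_c47) (LK LD1_c3 LD2_c50 LD3_c52) Lrfl Lrfl
theorem f97941 : Led Lsl_ct (LP (LK LD1_c7 LD2_c42 LD3_c47)) = (LP (LK LD1_c14 LD2_c32 LD3_c27)) :=
  Lre_c IH (LK LD1_c7 LD2_c42 LD3_c47) (LK LD1_c14 LD2_c32 LD3_c27) Lrfl Lrfl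
theorem f97951 : Led Lsl_gt (LP (LK LD1_c24 LD2_c14 LD3_c43)) = (LP (LK LD1_c14 LD2_c32 LD3_c27)) :=
  Lre_g IH (LK LD1_c24 LD2_c14 LD3_c43) (LK LD1_c14 LD2_c32 LD3_c27) Lrfl Lrfl
theorem f92863 : Led Lsl_bt (LP (LK LD1_c7 LD2_c38 LD3_c56)) = (LP (LK LD1_c3 LD2_c48 LD3_c53)) :=
  Lre_b IH (LK LD1_c7 LD2_c38 LD3_c56) (LK LD1_c3 LD2_c48 LD3_c53) Lrfl Lrfl
theorem f92887 : Led Lsl_at (LP (LK LD1_c14 LD2_c25 LD3_c2)) = (LP (LK LD1_c7 LD2_c38 LD3_c56)) :=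
  Lre_a IH (LK LD1_c14 LD2_c25 LD3_c2) (LK LD1_c7 LD2_c38 LD3_c56) Lrfl Lrfl
theorem f484361 : Led Lsl_bt (LP (LK LD1_c7 LD2_c35 LD3_c2)) = (LP (LK LD1_c14 LD2_c18 LD3_c0)) :=
  Lre_b IH (LK LD1_c7 LD2_c35 LD3_c2) (LK LD1_c14 LD2_c18 LD3_c0) Lrfl Lrfl
theorem f521480 : Led Lsl_at (LP (LK LD1_c14 LD2_c18 LD3_c0)) = (LP (LK LD1_c23 LD2_c55 LD3_c51)) :=
  Lre_a IH (LK LD1_c14 LD2_c18 LD3_c0) (LK LD1_c23 LD2_c55 LD3_c51) Lrfl Lrfl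
theorem f521481 : Led Lsl_bf (LP (LK LD1_c14 LD2_c25 LD3_c2)) = (LP (LK LD1_c23 LD2_c55 LD3_c51)) :=
  Lgr Lrot81 (Lpr_at (f92887 IH) (Lpr_bt (f92863 IH) (Lpr_at (K48.f521476 IH) (Lpr_bt (f484361 IH) (Lpr_at (f521480 IH) (Lpn (LP (LK LD1_c23 LD2_c55 LD3_c51))))))))
theorem f532705 : Led Lsl_cf (LP (LK LD1_c24 LD2_c14 LD3_c43)) = (LP (LK LD1_c23 LD2_c55 LD3_c51)) :=
  Lgr Lrot160 (Lpr_gt (f97951 IH) (Lpe (f97941 IH) (Lpr_bt (f127300 IH) (Lpr_gt (K48.f457516 IH) (Lpr_ct (K48.f479300 IH) (Lpe (K48.f480799 IH) (Lpe (K48.f136655 IH) (Lpr_bt (K48.f476939 IH) (Lpr_gt (K48.f532699 IH) (Lpr_bf (f521481 IH) (Lpn (LP (LK LD1_c23 LD2_c55 LD3_c51)))))))))))))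
theorem f532717 : Led Lsl_gt (LP (LK LD1_c14 LD2_c24 LD3_c23)) = (LP (LK LD1_c23 LD2_c55 LD3_c51)) :=
  Lgr Lrot9 (Lpe (f64769 IH) (Lpe (K55.f516440 IH) (Lpr_ct (K43.f516333 IH) (Lpr_gt (K43.f516631 IH) (Lpr_ct (K28.f97920 IH) (Lpe (K33.f97946 IH) (Lpe (K33.f97950 IH) (Lpe (f97951 IH) (Lpr_cf (f532705 IH) (Lpn (LP (LK LD1_c23 LD2_c55 LD3_c51))))))))))))
theorem f486261 : Led Lsl_bt (LP (LK LD1_c3 LD2_c48 LD3_c52)) = (LP (LK LD1_c7 LD2_c38 LD3_c53)) :=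
  Lre_b IH (LK LD1_c3 LD2_c48 LD3_c52) (LK LD1_c7 LD2_c38 LD3_c53) Lrfl Lrfl
theorem f442344 : Led Lsl_bt (LP (LK LD1_c14 LD2_c18 LD3_c0)) = (LP (LK LD1_c7 LD2_c35 LD3_c2)) :=
  Lre_b IH (LK LD1_c14 LD2_c18 LD3_c0) (LK LD1_c7 LD2_c35 LD3_c2) Lrfl Lrfl
theorem f521576 : Led Lsl_ft (LP (LK LD1_c7 LD2_c38 LD3_c53)) = (LP (LK LD1_c14 LD2_c18 LD3_c0)) :=
  Lgr Lrot75 (Lpe (f486261 IH) (Lpr_ff (K48.f521574 IH) (Lpe (f442344 IH) (Lpn (LP (LK LD1_c14 LD2_c18 LD3_c0))))))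
theorem f532719 : Led Lsl_gf (LP (LK LD1_c14 LD2_c24 LD3_c23)) = (LP (LK LD1_c7 LD2_c38 LD3_c53)) :=
  Lgr Lrot47 (Lpr_gt (f532717 IH) (Lpe (f521480 IH) (Lpe (f521576 IH) (Lpn (LP (LK LD1_c7 LD2_c38 LD3_c53))))))
theorem f486253 : Led Lsl_ct (LP (LK LD1_c7 LD2_c38 LD3_c54)) = (LP (LK LD1_c3 LD2_c48 LD3_c52)) :=
  Lre_c IH (LK LD1_c7 LD2_c38 LD3_c54) (LK LD1_c3 LD2_c48 LD3_c52) Lrfl Lrfl
theorem f521568 : Led Lsl_ff (LP (LK LD1_c7 LD2_c38 LD3_c54)) = (LP (LK LD1_c7 LD2_c41 LD3_c47)) :=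
  Lgr Lrot23 (Lpr_ct (f486253 IH) (Lpr_ft (K48.f521563 IH) (Lpr_ct (K48.f484347 IH) (Lpn (LP (LK LD1_c7 LD2_c41 LD3_c47))))))
theorem f521778 : Led Lsl_gt (LP (LK LD1_c3 LD2_c50 LD3_c20)) = (LP (LK LD1_c7 LD2_c41 LD3_c46)) :=
  Lre_g IH (LK LD1_c3 LD2_c50 LD3_c20) (LK LD1_c7 LD2_c41 LD3_c46) Lrfl Lrfl
theorem f521779 : Led Lsl_at (LP (LK LD1_c7 LD2_c38 LD3_c54)) = (LP (LK LD1_c7 LD2_c41 LD3_c46)) :=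
  Lgr Lrot26 (Lpr_ff (f521568 IH) (Lpr_gt (K48.f117366 IH) (Lpr_gt (f521778 IH) (Lpn (LP (LK LD1_c7 LD2_c41 LD3_c46))))))
theorem f92801 : Led Lsl_et (LP (LK LD1_c7 LD2_c38 LD3_c58)) = (LP (LK LD1_c3 LD2_c48 LD3_c53)) :=
  Lre_e IH (LK LD1_c7 LD2_c38 LD3_c58) (LK LD1_c3 LD2_c48 LD3_c53) Lrfl Lrfl
theorem f484392 : Led Lsl_et (LP (LK LD1_c7 LD2_c35 LD3_c2)) = (LP (LK LD1_c14 LD2_c18 LD3_c1)) :=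
  Lre_e IH (LK LD1_c7 LD2_c35 LD3_c2) (LK LD1_c14 LD2_c18 LD3_c1) Lrfl Lrfl
theorem f521485 : Led Lsl_af (LP (LK LD1_c7 LD2_c38 LD3_c58)) = (LP (LK LD1_c14 LD2_c18 LD3_c1)) :=
  Lgr Lrot50 (Lpr_et (f92801 IH) (Lpr_at (K48.f521476 IH) (Lpr_et (f484392 IH) (Lpn (LP (LK LD1_c14 LD2_c18 LD3_c1))))))
theorem f92797 : Led Lsl_ft (LP (LK LD1_c7 LD2_c38 LD3_c58)) = (LP (LK LD1_c14 LD2_c25 LD3_c9)) :=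
  Lre_f IH (LK LD1_c7 LD2_c38 LD3_c58) (LK LD1_c14 LD2_c25 LD3_c9) Lrfl Lrfl
theorem f484385 : Led Lsl_ft (LP (LK LD1_c23 LD2_c55 LD3_c55)) = (LP (LK LD1_c14 LD2_c18 LD3_c1)) :=
  Lre_f IH (LK LD1_c23 LD2_c55 LD3_c55) (LK LD1_c14 LD2_c18 LD3_c1) Lrfl Lrfl
theorem f521494 : Led Lsl_at (LP (LK LD1_c14 LD2_c25 LD3_c9)) = (LP (LK LD1_c23 LD2_c55 LD3_c55)) :=
  Lgr Lrot66 (Lpe (f92797 IH) (Lpr_af (f521485 IH) (Lpe (f484385 IH) (Lpn (LP (LK LD1_c23 LD2_c55 LD3_c55))))))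
theorem f92822 : Led Lsl_ct (LP (LK LD1_c24 LD2_c4 LD3_c44)) = (LP (LK LD1_c14 LD2_c25 LD3_c9)) :=
  Lre_c IH (LK LD1_c24 LD2_c4 LD3_c44) (LK LD1_c14 LD2_c25 LD3_c9) Lrfl Lrfl
theorem f89190 : Led Lsl_et (LP (LK LD1_c14 LD2_c18 LD3_c1)) = (LP (LK LD1_c7 LD2_c35 LD3_c2)) :=
  Lre_e IH (LK LD1_c14 LD2_c18 LD3_c1) (LK LD1_c7 LD2_c35 LD3_c2) Lrfl Lrfl
theorem f484357 : Led Lsl_et (LP (LK LD1_c7 LD2_c41 LD3_c47)) = (LP (LK LD1_c14 LD2_c30 LD3_c28)) :=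
  Lre_e IH (LK LD1_c7 LD2_c41 LD3_c47) (LK LD1_c14 LD2_c30 LD3_c28) Lrfl Lrfl
theorem f484358 : Led Lsl_cf (LP (LK LD1_c14 LD2_c18 LD3_c1)) = (LP (LK LD1_c14 LD2_c30 LD3_c28)) :=
  Lgr Lrot39 (Lpr_et (f89190 IH) (Lpr_ct (K48.f484347 IH) (Lpr_et (f484357 IH) (Lpn (LP (LK LD1_c14 LD2_c30 LD3_c28))))))
theorem f484369 : Led Lsl_ft (LP (LK LD1_c14 LD2_c18 LD3_c1)) = (LP (LK LD1_c23 LD2_c55 LD3_c55)) :=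
  Lre_f IH (LK LD1_c14 LD2_c18 LD3_c1) (LK LD1_c23 LD2_c55 LD3_c55) Lrfl Lrfl
theorem f484370 : Led Lsl_ft (LP (LK LD1_c24 LD2_c11 LD3_c51)) = (LP (LK LD1_c14 LD2_c30 LD3_c28)) :=
  Lre_f IH (LK LD1_c24 LD2_c11 LD3_c51) (LK LD1_c14 LD2_c30 LD3_c28) Lrfl Lrfl
theorem f484371 : Led Lsl_ct (LP (LK LD1_c23 LD2_c55 LD3_c55)) = (LP (LK LD1_c24 LD2_c11 LD3_c51)) :=
  Lgr Lrot40 (Lpe (f484369 IH) (Lpr_cf (f484358 IH) (Lpe (f484370 IH) (Lpn (LP (LK LD1_c24 LD2_c11 LD3_c51))))))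
theorem f521500 : Led Lsl_af (LP (LK LD1_c24 LD2_c4 LD3_c44)) = (LP (LK LD1_c24 LD2_c11 LD3_c51)) :=
  Lgr Lrot68 (Lpr_ct (f92822 IH) (Lpr_at (f521494 IH) (Lpr_ct (f484371 IH) (Lpn (LP (LK LD1_c24 LD2_c11 LD3_c51))))))
theorem f521504 : Led Lsl_at (LP (LK LD1_c24 LD2_c4 LD3_c44)) = (LP (LK LD1_c24 LD2_c11 LD3_c51)) :=
  Lgr Lrot100 (Lpr_af (f521500 IH) (Lpn (LP (LK LD1_c24 LD2_c11 LD3_c51))))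
theorem f521507 : Led Lsl_ft (LP (LK LD1_c14 LD2_c25 LD3_c6)) = (LP (LK LD1_c24 LD2_c4 LD3_c44)) :=
  Lre_f IH (LK LD1_c14 LD2_c25 LD3_c6) (LK LD1_c24 LD2_c4 LD3_c44) Lrfl Lrfl
theorem f521508 : Led Lsl_af (LP (LK LD1_c14 LD2_c25 LD3_c6)) = (LP (LK LD1_c14 LD2_c30 LD3_c28)) :=
  Lgr Lrot45 (Lpr_ft (f521507 IH) (Lpr_at (f521504 IH) (Lpr_ft (f484370 IH) (Lpn (LP (LK LD1_c14 LD2_c30 LD3_c28))))))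
theorem f521518 : Led Lsl_et (LP (LK LD1_c14 LD2_c25 LD3_c6)) = (LP (LK LD1_c7 LD2_c38 LD3_c57)) :=
  Lre_e IH (LK LD1_c14 LD2_c25 LD3_c6) (LK LD1_c7 LD2_c38 LD3_c57) Lrfl Lrfl
theorem f521519 : Led Lsl_at (LP (LK LD1_c7 LD2_c38 LD3_c57)) = (LP (LK LD1_c7 LD2_c41 LD3_c47)) :=
  Lgr Lrot80 (Lpe (f521518 IH) (Lpr_af (f521508 IH) (Lpe (f484357 IH) (Lpn (LP (LK LD1_c7 LD2_c41 LD3_c47))))))
theorem f521792 : Led Lsl_ff (LP (LK LD1_c7 LD2_c38 LD3_c57)) = (LP (LK LD1_c7 LD2_c41 LD3_c46)) :=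
  Lgr Lrot30 (Lpr_at (f521519 IH) (Lpe (f521568 IH) (Lpr_at (f521779 IH) (Lpn (LP (LK LD1_c7 LD2_c41 LD3_c46))))))
theorem f521803 : Led Lsl_ft (LP (LK LD1_c7 LD2_c38 LD3_c57)) = (LP (LK LD1_c7 LD2_c41 LD3_c46)) :=
  Lgr Lrot48 (Lpr_ff (f521792 IH) (Lpn (LP (LK LD1_c7 LD2_c41 LD3_c46))))
theorem f440829 : Led Lsl_ft (LP (LK LD1_c7 LD2_c41 LD3_c49)) = (LP (LK LD1_c3 LD2_c50 LD3_c20)) :=
  Lre_f IH (LK LD1_c7 LD2_c41 LD3_c49) (LK LD1_c3 LD2_c50 LD3_c20) Lrfl Lrfl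
theorem f117356 : Led Lsl_at (LP (LK LD1_c3 LD2_c50 LD3_c20)) = (LP (LK LD1_c7 LD2_c35 LD3_c33)) :=
  Lgr Lrot100 (Lpr_af (K4.f117352 IH) (Lpn (LP (LK LD1_c7 LD2_c35 LD3_c33))))
theorem f521766 : Led Lsl_gf (LP (LK LD1_c7 LD2_c35 LD3_c33)) = (LP (LK LD1_c7 LD2_c38 LD3_c57)) :=
  Lgr Lrot76 (Lpe (f117356 IH) (Lpe (f440829 IH) (Lpr_gt (K48.f521764 IH) (Lpn (LP (LK LD1_c7 LD2_c38 LD3_c57))))))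
theorem f521781 : Led Lsl_af (LP (LK LD1_c7 LD2_c38 LD3_c54)) = (LP (LK LD1_c7 LD2_c41 LD3_c46)) :=
  Lgr Lrot0 (Lpr_at (f521779 IH) (Lpn (LP (LK LD1_c7 LD2_c41 LD3_c46))))
theorem f521810 : Led Lsl_gt (LP (LK LD1_c7 LD2_c35 LD3_c33)) = (LP (LK LD1_c7 LD2_c38 LD3_c54)) :=
  Lgr Lrot46 (Lpr_gf (f521766 IH) (Lpr_ft (f521803 IH) (Lpe (f521781 IH) (Lpn (LP (LK LD1_c7 LD2_c38 LD3_c54))))))
theorem f112215 : Led Lsl_bt (LP (LK LD1_c3 LD2_c47 LD3_c20)) = (LP (LK LD1_c7 LD2_c35 LD3_c27)) :=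
  Lre_b IH (LK LD1_c3 LD2_c47 LD3_c20) (LK LD1_c7 LD2_c35 LD3_c27) Lrfl Lrfl
theorem f15182 : Led Lsl_gt (LP (LK LD1_c14 LD2_c18 LD3_c42)) = (LP (LK LD1_c7 LD2_c35 LD3_c27)) :=
  Lre_g IH (LK LD1_c14 LD2_c18 LD3_c42) (LK LD1_c7 LD2_c35 LD3_c27) Lrfl Lrfl
theorem f606595 : Led Lsl_bt (LP (LK LD1_c23 LD2_c12 LD3_c59)) = (LP (LK LD1_c14 LD2_c18 LD3_c42)) :=
  Lgr Lrot22 (Lpr_ct (f487515 IH) (Lpr_gf (f606593 IH) (Lpe (f486267 IH) (Lpr_gf (f532719 IH) (Lpe (f486261 IH) (Lpr_ct (K48.f486249 IH) (Lpe (f521810 IH) (Lpe (K4.f15252 IH) (Lpr_bt (f112215 IH) (Lpe (f15182 IH) (Lpn (LP (LK LD1_c14 LD2_c18 LD3_c42)))))))))))))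
theorem f606597 : Led Lsl_bf (LP (LK LD1_c23 LD2_c12 LD3_c59)) = (LP (LK LD1_c14 LD2_c18 LD3_c42)) :=
  Lgr Lrot24 (Lpr_bt (f606595 IH) (Lpn (LP (LK LD1_c14 LD2_c18 LD3_c42))))
theorem f606599 : Led Lsl_ct (LP (LK LD1_c14 LD2_c18 LD3_c42)) = (LP (LK LD1_c23 LD2_c56 LD3_c36)) :=
  Lre_c IH (LK LD1_c14 LD2_c18 LD3_c42) (LK LD1_c23 LD2_c56 LD3_c36) Lrfl Lrfl
theorem f786868 : Led Lsl_gf (LP (LK LD1_c14 LD2_c30 LD3_c58)) = (LP (LK LD1_c23 LD2_c56 LD3_c36)) :=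
  Lgr Lrot126 (Lpe (K29.f12246 IH) (Lpr_bt (K8.f12244 IH) (Lpr_gt (f12315 IH) (Lpr_ct (f786861 IH) (Lpe (f786865 IH) (Lpe (f456724 IH) (Lpr_bt (f487509 IH) (Lpr_gt (f478239 IH) (Lpr_bf (f606597 IH) (Lpr_ct (f606599 IH) (Lpn (LP (LK LD1_c23 LD2_c56 LD3_c36)))))))))))))
theorem f786869 : Led Lsl_gt (LP (LK LD1_c23 LD2_c56 LD3_c36)) = (LP (LK LD1_c14 LD2_c30 LD3_c58)) :=
  Leop (Lpr_gf (f786868 IH) (Lpn (LP (LK LD1_c23 LD2_c56 LD3_c36))))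
theorem seed_1527 : LEOK LG_g (LK LD1_c23 LD2_c56 LD3_c36) :=
  Leoe_g (LK LD1_c23 LD2_c56 LD3_c36) (f786869 IH)
def v20419 : LQ := Led Lsl_ft (LP (LK LD1_c6 LD2_c56 LD3_c27))
theorem f786889 : Led Lsl_ft (LP (LK LD1_c6 LD2_c56 LD3_c27)) = v20419 :=
  Lrfl
theorem f786892 : Led Lsl_ff (LP (LK LD1_c6 LD2_c56 LD3_c27)) = v20419 :=
  Lgr Lrot3 (Lpr_ft (f786889 IH) (Lpn v20419))
theorem f11990 : Led Lsl_ct (LP (LK LD1_c6 LD2_c56 LD3_c27)) = (LP (LK LD1_c3 LD2_c27 LD3_c14)) :=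
  Lre_c IH (LK LD1_c6 LD2_c56 LD3_c27) (LK LD1_c3 LD2_c27 LD3_c14) Lrfl Lrfl
theorem f97838 : Led Lsl_af (LP (LK LD1_c6 LD2_c56 LD3_c27)) = (LP (LK LD1_c7 LD2_c42 LD3_c52)) :=
  Lgr Lrot68 (Lpr_ct (f11990 IH) (Lpr_at (K3.f97826 IH) (Lpr_ct (K46.f97837 IH) (Lpn (LP (LK LD1_c7 LD2_c42 LD3_c52))))))
theorem f441970 : Led Lsl_at (LP (LK LD1_c6 LD2_c56 LD3_c27)) = (LP (LK LD1_c7 LD2_c42 LD3_c52)) :=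
  Lgr Lrot100 (Lpr_af (f97838 IH) (Lpn (LP (LK LD1_c7 LD2_c42 LD3_c52))))
theorem f786895 : Led Lsl_gf (LP (LK LD1_c13 LD2_c9 LD3_c24)) = v20419 :=
  Lgr Lrot47 (Lpe (K46.f480547 IH) (Lpe (f441970 IH) (Lpr_ff (f786892 IH) (Lpn v20419))))
theorem f144980 : Led Lsl_bf (LP (LK LD1_c22 LD2_c19 LD3_c52)) = (LP (LK LD1_c14 LD2_c19 LD3_c28)) :=
  Lgr Lrot24 (Lpr_bt (K8.f144975 IH) (Lpn (LP (LK LD1_c14 LD2_c19 LD3_c28))))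
theorem f144982 : Led Lsl_ct (LP (LK LD1_c14 LD2_c19 LD3_c28)) = (LP (LK LD1_c23 LD2_c57 LD3_c24)) :=
  Lre_c IH (LK LD1_c14 LD2_c19 LD3_c28) (LK LD1_c23 LD2_c57 LD3_c24) Lrfl Lrfl
theorem f11992 : Led Lsl_ft (LP (LK LD1_c3 LD2_c27 LD3_c14)) = (LP (LK LD1_c6 LD2_c56 LD3_c28)) :=
  Lre_f IH (LK LD1_c3 LD2_c27 LD3_c14) (LK LD1_c6 LD2_c56 LD3_c28) Lrfl Lrfl
theorem f786894 : Led Lsl_ct (LP (LK LD1_c6 LD2_c56 LD3_c28)) = v20419 :=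
  Lgr Lrot40 (Lpe (f11992 IH) (Lpe (f11990 IH) (Lpr_ff (f786892 IH) (Lpn v20419))))
theorem f479210 : Led Lsl_dt (LP (LK LD1_c7 LD2_c16 LD3_c24)) = (LP (LK LD1_c3 LD2_c37 LD3_c60)) :=
  Lre_d IH (LK LD1_c7 LD2_c16 LD3_c24) (LK LD1_c3 LD2_c37 LD3_c60) Lrfl Lrfl
theorem f479211 : Led Lsl_ft (LP (LK LD1_c3 LD2_c50 LD3_c52)) = (LP (LK LD1_c7 LD2_c16 LD3_c24)) :=
  Lgr Lrot54 (Lpe (K46.f97717 IH) (Lpr_ff (K29.f479208 IH) (Lpe (f479210 IH) (Lpn (LP (LK LD1_c7 LD2_c16 LD3_c24))))))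
theorem f97844 : Led Lsl_dt (LP (LK LD1_c6 LD2_c56 LD3_c28)) = (LP (LK LD1_c3 LD2_c27 LD3_c15)) :=
  Lre_d IH (LK LD1_c6 LD2_c56 LD3_c28) (LK LD1_c3 LD2_c27 LD3_c15) Lrfl Lrfl
theorem f479204 : Led Lsl_af (LP (LK LD1_c6 LD2_c56 LD3_c28)) = (LP (LK LD1_c7 LD2_c16 LD3_c24)) :=
  Lgr Lrot117 (Lpr_dt (f97844 IH) (Lpr_at (K29.f479175 IH) (Lpr_dt (K46.f456723 IH) (Lpn (LP (LK LD1_c7 LD2_c16 LD3_c24))))))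
theorem f487538 : Led Lsl_gt (LP (LK LD1_c7 LD2_c42 LD3_c51)) = (LP (LK LD1_c6 LD2_c56 LD3_c28)) :=
  Lgr Lrot46 (Lpe (K48.f457516 IH) (Lpr_ft (f479211 IH) (Lpe (f479204 IH) (Lpn (LP (LK LD1_c6 LD2_c56 LD3_c28))))))
theorem f486781 : Led Lsl_ct (LP (LK LD1_c14 LD2_c19 LD3_c32)) = (LP (LK LD1_c23 LD2_c57 LD3_c28)) :=
  Lre_c IH (LK LD1_c14 LD2_c19 LD3_c32) (LK LD1_c23 LD2_c57 LD3_c28) Lrfl Lrfl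
theorem f786897 : Led Lsl_gt (LP (LK LD1_c23 LD2_c57 LD3_c24)) = (LP (LK LD1_c23 LD2_c57 LD3_c28)) :=
  Lgr Lrot65 (Lpe (f144982 IH) (Lpe (f144980 IH) (Lpr_gf (K46.f543178 IH) (Lpe (K46.f95040 IH) (Lpr_ct (K46.f95044 IH) (Lpr_gf (f786895 IH) (Lpe (f786894 IH) (Lpe (f487538 IH) (Lpr_bf (f532769 IH) (Lpr_ct (f486781 IH) (Lpn (LP (LK LD1_c23 LD2_c57 LD3_c28)))))))))))))
theorem f786898 : Led Lsl_gt (LP (LK LD1_c23 LD2_c57 LD3_c24)) = (LP (LK LD1_c23 LD2_c57 LD3_c28)) :=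
  Leop (Lpe (f786897 IH) (Lpn (LP (LK LD1_c23 LD2_c57 LD3_c24))))
theorem seed_1528 : LEOK LG_g (LK LD1_c23 LD2_c57 LD3_c24) :=
  Leoe_g (LK LD1_c23 LD2_c57 LD3_c24) (f786898 IH)
def v20426 : LQ := Led Lsl_ft (LP (LK LD1_c6 LD2_c56 LD3_c35))
theorem f786922 : Led Lsl_ft (LP (LK LD1_c6 LD2_c56 LD3_c35)) = v20426 :=
  Lrfl
theorem f91943 : Led Lsl_gt (LP (LK LD1_c6 LD2_c56 LD3_c35)) = (LP (LK LD1_c13 LD2_c10 LD3_c55)) :=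
  Lre_g IH (LK LD1_c6 LD2_c56 LD3_c35) (LK LD1_c13 LD2_c10 LD3_c55) Lrfl Lrfl
theorem f786923 : Led Lsl_af (LP (LK LD1_c14 LD2_c33 LD3_c3)) = v20426 :=
  Lgr Lrot45 (Lpr_ft (K60.f95375 IH) (Lpr_at (K60.f136880 IH) (Lpr_ft (f786922 IH) (Lpn v20426))))
theorem f786926 : Led Lsl_gt (LP (LK LD1_c13 LD2_c10 LD3_c55)) = (LP (LK LD1_c14 LD2_c33 LD3_c3)) :=
  Lgr Lrot46 (Lpe (f91943 IH) (Lpr_ft (f786922 IH) (Lpe (f786923 IH) (Lpn (LP (LK LD1_c14 LD2_c33 LD3_c3))))))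
theorem f786927 : Led Lsl_gt (LP (LK LD1_c13 LD2_c10 LD3_c55)) = (LP (LK LD1_c14 LD2_c33 LD3_c3)) :=
  Leop (Lpe (f786926 IH) (Lpn (LP (LK LD1_c13 LD2_c10 LD3_c55))))
theorem seed_1529 : LEOK LG_g (LK LD1_c13 LD2_c10 LD3_c55) :=
  Leoe_g (LK LD1_c13 LD2_c10 LD3_c55) (f786927 IH)
def v20449 : LQ := Led Lsl_ct (LP (LK LD1_c6 LD2_c56 LD3_c55))
theorem f787038 : Led Lsl_ct (LP (LK LD1_c6 LD2_c56 LD3_c55)) = v20449 :=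
  Lrfl
theorem f473726 : Led Lsl_bt (LP (LK LD1_c6 LD2_c56 LD3_c55)) = (LP (LK LD1_c13 LD2_c11 LD3_c26)) :=
  Lre_b IH (LK LD1_c6 LD2_c56 LD3_c55) (LK LD1_c13 LD2_c11 LD3_c26) Lrfl Lrfl
theorem f578062 : Led Lsl_ff (LP (LK LD1_c22 LD2_c24 LD3_c8)) = (LP (LK LD1_c22 LD2_c13 LD3_c14)) :=
  Lgr Lrot3 (Lpr_ft (K43.f578054 IH) (Lpn (LP (LK LD1_c22 LD2_c13 LD3_c14))))
theorem f578068 : Led Lsl_dt (LP (LK LD1_c22 LD2_c24 LD3_c8)) = (LP (LK LD1_c13 LD2_c19 LD3_c33)) :=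
  Lgr Lrot60 (Lpr_ff (f578062 IH) (Lpe (K41.f91086 IH) (Lpr_ff (K41.f564343 IH) (Lpn (LP (LK LD1_c13 LD2_c19 LD3_c33))))))
theorem f578070 : Led Lsl_bf (LP (LK LD1_c22 LD2_c24 LD3_c8)) = (LP (LK LD1_c13 LD2_c19 LD3_c35)) :=
  Lgr Lrot93 (Lpr_dt (f578068 IH) (Lpr_bt (K43.f136956 IH) (Lpr_dt (K36.f109926 IH) (Lpn (LP (LK LD1_c13 LD2_c19 LD3_c35))))))
theorem f137166 : Led Lsl_ct (LP (LK LD1_c13 LD2_c19 LD3_c35)) = (LP (LK LD1_c22 LD2_c36 LD3_c7)) :=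
  Lre_c IH (LK LD1_c13 LD2_c19 LD3_c35) (LK LD1_c22 LD2_c36 LD3_c7) Lrfl Lrfl
theorem f473861 : Led Lsl_ct (LP (LK LD1_c22 LD2_c24 LD3_c8)) = (LP (LK LD1_c30 LD2_c28 LD3_c26)) :=
  Lre_c IH (LK LD1_c22 LD2_c24 LD3_c8) (LK LD1_c30 LD2_c28 LD3_c26) Lrfl Lrfl
theorem f473860 : Led Lsl_gt (LP (LK LD1_c30 LD2_c28 LD3_c26)) = (LP (LK LD1_c32 LD2_c52 LD3_c40)) :=
  Lre_g IH (LK LD1_c30 LD2_c28 LD3_c26) (LK LD1_c32 LD2_c52 LD3_c40) Lrfl Lrfl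
theorem f513502 : Led Lsl_ct (LP (LK LD1_c30 LD2_c21 LD3_c23)) = (LP (LK LD1_c22 LD2_c13 LD3_c14)) :=
  Lre_c IH (LK LD1_c30 LD2_c21 LD3_c23) (LK LD1_c22 LD2_c13 LD3_c14) Lrfl Lrfl
theorem f578066 : Led Lsl_ft (LP (LK LD1_c30 LD2_c28 LD3_c26)) = (LP (LK LD1_c30 LD2_c21 LD3_c23)) :=
  Lgr Lrot4 (Lpe (f473861 IH) (Lpr_ff (f578062 IH) (Lpe (f513502 IH) (Lpn (LP (LK LD1_c30 LD2_c21 LD3_c23))))))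
theorem f473908 : Led Lsl_ct (LP (LK LD1_c30 LD2_c28 LD3_c28)) = (LP (LK LD1_c22 LD2_c24 LD3_c9)) :=
  Lre_c IH (LK LD1_c30 LD2_c28 LD3_c28) (LK LD1_c22 LD2_c24 LD3_c9) Lrfl Lrfl
theorem f512622 : Led Lsl_ct (LP (LK LD1_c22 LD2_c13 LD3_c14)) = (LP (LK LD1_c30 LD2_c21 LD3_c23)) :=
  Lre_c IH (LK LD1_c22 LD2_c13 LD3_c14) (LK LD1_c30 LD2_c21 LD3_c23) Lrfl Lrfl
theorem f578046 : Led Lsl_af (LP (LK LD1_c30 LD2_c28 LD3_c28)) = (LP (LK LD1_c30 LD2_c21 LD3_c23)) :=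
  Lgr Lrot68 (Lpr_ct (f473908 IH) (Lpr_at (K43.f578040 IH) (Lpr_ct (f512622 IH) (Lpn (LP (LK LD1_c30 LD2_c21 LD3_c23))))))
theorem f578108 : Led Lsl_gt (LP (LK LD1_c32 LD2_c52 LD3_c40)) = (LP (LK LD1_c30 LD2_c28 LD3_c28)) :=
  Lgr Lrot46 (Lpe (f473860 IH) (Lpr_ft (f578066 IH) (Lpe (f578046 IH) (Lpn (LP (LK LD1_c30 LD2_c28 LD3_c28))))))
theorem f470246 : Led Lsl_bt (LP (LK LD1_c7 LD2_c17 LD3_c17)) = (LP (LK LD1_c13 LD2_c47 LD3_c17)) :=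
  Lre_b IH (LK LD1_c7 LD2_c17 LD3_c17) (LK LD1_c13 LD2_c47 LD3_c17) Lrfl Lrfl
theorem f513521 : Led Lsl_gf (LP (LK LD1_c23 LD2_c3 LD3_c45)) = (LP (LK LD1_c13 LD2_c47 LD3_c17)) :=
  Lgr Lrot181 (Lpr_ct (K43.f513516 IH) (Lpr_gt (K41.f476500 IH) (Lpe (K34.f513469 IH) (Lpr_bt (K34.f116186 IH) (Lpr_gt (K33.f106227 IH) (Lpe (K33.f108613 IH) (Lpr_ct (K4.f116149 IH) (Lpr_gt (K35.f116145 IH) (Lpe (K35.f470234 IH) (Lpr_bt (f470246 IH) (Lpn (LP (LK LD1_c13 LD2_c47 LD3_c17)))))))))))))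
theorem f17927 : Led Lsl_dt (LP (LK LD1_c22 LD2_c33 LD3_c10)) = (LP (LK LD1_c13 LD2_c17 LD3_c23)) :=
  Lre_d IH (LK LD1_c22 LD2_c33 LD3_c10) (LK LD1_c13 LD2_c17 LD3_c23) Lrfl Lrfl
theorem f89606 : Led Lsl_gt (LP (LK LD1_c22 LD2_c33 LD3_c10)) = (LP (LK LD1_c30 LD2_c34 LD3_c19)) :=
  Lre_g IH (LK LD1_c22 LD2_c33 LD3_c10) (LK LD1_c30 LD2_c34 LD3_c19) Lrfl Lrfl
theorem f578110 : Led Lsl_cf (LP (LK LD1_c32 LD2_c52 LD3_c40)) = (LP (LK LD1_c30 LD2_c34 LD3_c19)) :=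
  Lgr Lrot169 (Lpr_gt (f578108 IH) (Lpr_ct (f473908 IH) (Lpe (K41.f513184 IH) (Lpe (K43.f513516 IH) (Lpr_gf (f513521 IH) (Lpr_cf (K35.f489659 IH) (Lpe (K34.f17926 IH) (Lpe (f17927 IH) (Lpr_gt (f89606 IH) (Lpn (LP (LK LD1_c30 LD2_c34 LD3_c19))))))))))))
theorem f472511 : Led Lsl_bt (LP (LK LD1_c30 LD2_c28 LD3_c27)) = (LP (LK LD1_c22 LD2_c24 LD3_c9)) :=
  Lre_b IH (LK LD1_c30 LD2_c28 LD3_c27) (LK LD1_c22 LD2_c24 LD3_c9) Lrfl Lrfl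
theorem f513189 : Led Lsl_dt (LP (LK LD1_c22 LD2_c46 LD3_c17)) = (LP (LK LD1_c30 LD2_c28 LD3_c27)) :=
  Lgr Lrot79 (Lpe (K55.f476575 IH) (Lpr_df (K43.f513186 IH) (Lpe (f472511 IH) (Lpn (LP (LK LD1_c30 LD2_c28 LD3_c27))))))
theorem f543723 : Led Lsl_df (LP (LK LD1_c12 LD2_c7 LD3_c31)) = (LP (LK LD1_c7 LD2_c17 LD3_c13)) :=
  Lgr Lrot38 (Lpr_dt (K37.f543719 IH) (Lpn (LP (LK LD1_c7 LD2_c17 LD3_c13))))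
theorem f420569 : Led Lsl_dt (LP (LK LD1_c6 LD2_c14 LD3_c43)) = (LP (LK LD1_c12 LD2_c7 LD3_c44)) :=
  Lre_d IH (LK LD1_c6 LD2_c14 LD3_c43) (LK LD1_c12 LD2_c7 LD3_c44) Lrfl Lrfl
theorem f543769 : Led Lsl_ct (LP (LK LD1_c21 LD2_c14 LD3_c3)) = (LP (LK LD1_c12 LD2_c7 LD3_c44)) :=
  Lre_c IH (LK LD1_c21 LD2_c14 LD3_c3) (LK LD1_c12 LD2_c7 LD3_c44) Lrfl Lrfl
theorem f543770 : Led Lsl_dt (LP (LK LD1_c29 LD2_c55 LD3_c6)) = (LP (LK LD1_c21 LD2_c14 LD3_c3)) :=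
  Lre_d IH (LK LD1_c29 LD2_c55 LD3_c6) (LK LD1_c21 LD2_c14 LD3_c3) Lrfl Lrfl
theorem f590001 : Led Lsl_gt (LP (LK LD1_c30 LD2_c28 LD3_c27)) = (LP (LK LD1_c29 LD2_c55 LD3_c6)) :=
  Lgr Lrot49 (Lpe (f513189 IH) (Lpr_gf (K55.f589927 IH) (Lpe (K43.f543768 IH) (Lpr_gt (K43.f543766 IH) (Lpe (f543723 IH) (Lpr_gt (K55.f420567 IH) (Lpr_dt (f420569 IH) (Lpe (f543769 IH) (Lpe (f543770 IH) (Lpn (LP (LK LD1_c29 LD2_c55 LD3_c6))))))))))))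
theorem f513194 : Led Lsl_bt (LP (LK LD1_c22 LD2_c24 LD3_c9)) = (LP (LK LD1_c30 LD2_c28 LD3_c27)) :=
  Lre_b IH (LK LD1_c22 LD2_c24 LD3_c9) (LK LD1_c30 LD2_c28 LD3_c27) Lrfl Lrfl
theorem f473905 : Led Lsl_ct (LP (LK LD1_c22 LD2_c24 LD3_c9)) = (LP (LK LD1_c30 LD2_c28 LD3_c28)) :=
  Lre_c IH (LK LD1_c22 LD2_c24 LD3_c9) (LK LD1_c30 LD2_c28 LD3_c28) Lrfl Lrfl
theorem f513192 : Led Lsl_df (LP (LK LD1_c22 LD2_c46 LD3_c17)) = (LP (LK LD1_c30 LD2_c28 LD3_c27)) :=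
  Lgr Lrot38 (Lpr_dt (f513189 IH) (Lpn (LP (LK LD1_c30 LD2_c28 LD3_c27))))
theorem f543718 : Led Lsl_ct (LP (LK LD1_c21 LD2_c14 LD3_c10)) = (LP (LK LD1_c12 LD2_c7 LD3_c47)) :=
  Lre_c IH (LK LD1_c21 LD2_c14 LD3_c10) (LK LD1_c12 LD2_c7 LD3_c47) Lrfl Lrfl
theorem f543710 : Led Lsl_ct (LP (LK LD1_c6 LD2_c14 LD3_c44)) = (LP (LK LD1_c3 LD2_c46 LD3_c34)) :=
  Lgr Lrot91 (Lpe (K37.f75668 IH) (Lpr_bf (K37.f543701 IH) (Lpe (K37.f469399 IH) (Lpe (K34.f469371 IH) (Lpr_cf (K28.f469267 IH) (Lpe (K35.f466529 IH) (Lpr_gf (K34.f466533 IH) (Lpr_bf (K34.f513340 IH) (Lpe (K34.f513316 IH) (Lpe (K34.f419656 IH) (Lpn (LP (LK LD1_c3 LD2_c46 LD3_c34)))))))))))))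
theorem f419670 : Led Lsl_ct (LP (LK LD1_c14 LD2_c16 LD3_c5)) = (LP (LK LD1_c7 LD2_c34 LD3_c0)) :=
  Lre_c IH (LK LD1_c14 LD2_c16 LD3_c5) (LK LD1_c7 LD2_c34 LD3_c0) Lrfl Lrfl
theorem f419726 : Led Lsl_gt (LP (LK LD1_c23 LD2_c52 LD3_c52)) = (LP (LK LD1_c14 LD2_c16 LD3_c5)) :=
  Lre_g IH (LK LD1_c23 LD2_c52 LD3_c52) (LK LD1_c14 LD2_c16 LD3_c5) Lrfl Lrfl
theorem f590115 : Led Lsl_cf (LP (LK LD1_c23 LD2_c52 LD3_c52)) = (LP (LK LD1_c29 LD2_c55 LD3_c6)) :=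
  Lgr Lrot169 (Lpr_gt (f419726 IH) (Lpr_ct (f419670 IH) (Lpe (K42.f419440 IH) (Lpe (f543710 IH) (Lpe (K37.f75668 IH) (Lpe (f543718 IH) (Lpe (K55.f589899 IH) (Lpr_df (f513192 IH) (Lpr_gt (f590001 IH) (Lpn (LP (LK LD1_c29 LD2_c55 LD3_c6))))))))))))
theorem f419737 : Led Lsl_bt (LP (LK LD1_c7 LD2_c34 LD3_c0)) = (LP (LK LD1_c14 LD2_c15 LD3_c61)) :=
  Lre_b IH (LK LD1_c7 LD2_c34 LD3_c0) (LK LD1_c14 LD2_c15 LD3_c61) Lrfl Lrfl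
theorem f590117 : Led Lsl_bt (LP (LK LD1_c30 LD2_c34 LD3_c19)) = (LP (LK LD1_c23 LD2_c52 LD3_c42)) :=
  Lgr Lrot92 (Lpe (f578110 IH) (Lpr_gt (f578108 IH) (Lpe (f473905 IH) (Lpr_bt (f513194 IH) (Lpr_gt (f590001 IH) (Lpe (f590115 IH) (Lpr_gt (f419726 IH) (Lpe (K43.f419659 IH) (Lpr_bt (f419737 IH) (Lpr_gt (K39.f420067 IH) (Lpn (LP (LK LD1_c23 LD2_c52 LD3_c42)))))))))))))
theorem f464488 : Led Lsl_bt (LP (LK LD1_c13 LD2_c3 LD3_c50)) = (LP (LK LD1_c22 LD2_c13 LD3_c61)) :=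
  Lre_b IH (LK LD1_c13 LD2_c3 LD3_c50) (LK LD1_c22 LD2_c13 LD3_c61) Lrfl Lrfl
theorem f787046 : Led Lsl_gt (LP (LK LD1_c22 LD2_c14 LD3_c0)) = v20449 :=
  Lgr Lrot65 (Lpe (K28.f458441 IH) (Lpr_bt (f464488 IH) (Lpr_gf (K39.f464495 IH) (Lpe (f590117 IH) (Lpe (f578110 IH) (Lpe (f473860 IH) (Lpe (f473861 IH) (Lpe (K43.f473855 IH) (Lpe (f473726 IH) (Lpr_ct (f787038 IH) (Lpn v20449)))))))))))
theorem f468962 : Led Lsl_bt (LP (LK LD1_c13 LD2_c12 LD3_c59)) = (LP (LK LD1_c6 LD2_c57 LD3_c35)) :=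
  Lre_b IH (LK LD1_c13 LD2_c12 LD3_c59) (LK LD1_c6 LD2_c57 LD3_c35) Lrfl Lrfl
theorem f463940 : Led Lsl_ct (LP (LK LD1_c13 LD2_c12 LD3_c59)) = (LP (LK LD1_c22 LD2_c26 LD3_c60)) :=
  Lre_c IH (LK LD1_c13 LD2_c12 LD3_c59) (LK LD1_c22 LD2_c26 LD3_c60) Lrfl Lrfl
theorem f787047 : Led Lsl_gt (LP (LK LD1_c22 LD2_c36 LD3_c7)) = (LP (LK LD1_c22 LD2_c26 LD3_c60)) :=
  Lgr Lrot65 (Lpe (f137166 IH) (Lpe (f578070 IH) (Lpe (K43.f473855 IH) (Lpe (f473726 IH) (Lpr_ct (f787038 IH) (Lpe (f787046 IH) (Lpe (K28.f458441 IH) (Lpr_gf (K28.f468957 IH) (Lpe (f468962 IH) (Lpr_ct (f463940 IH) (Lpn (LP (LK LD1_c22 LD2_c26 LD3_c60)))))))))))))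
theorem f787048 : Led Lsl_gt (LP (LK LD1_c22 LD2_c36 LD3_c7)) = (LP (LK LD1_c22 LD2_c26 LD3_c60)) :=
  Leop (Lpe (f787047 IH) (Lpn (LP (LK LD1_c22 LD2_c36 LD3_c7))))
theorem seed_1530 : LEOK LG_g (LK LD1_c22 LD2_c36 LD3_c7) :=
  Leoe_g (LK LD1_c22 LD2_c36 LD3_c7) (f787048 IH)
def v20488 : LQ := Led Lsl_ct (LP (LK LD1_c6 LD2_c58 LD3_c11))
theorem f787293 : Led Lsl_ct (LP (LK LD1_c6 LD2_c58 LD3_c11)) = v20488 :=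
  Lrfl
theorem f455298 : Led Lsl_ct (LP (LK LD1_c13 LD2_c14 LD3_c35)) = (LP (LK LD1_c22 LD2_c29 LD3_c24)) :=
  Lre_c IH (LK LD1_c13 LD2_c14 LD3_c35) (LK LD1_c22 LD2_c29 LD3_c24) Lrfl Lrfl
theorem f455299 : Led Lsl_gt (LP (LK LD1_c30 LD2_c31 LD3_c61)) = (LP (LK LD1_c22 LD2_c29 LD3_c24)) :=
  Lre_g IH (LK LD1_c30 LD2_c31 LD3_c61) (LK LD1_c22 LD2_c29 LD3_c24) Lrfl Lrfl
theorem f511867 : Led Lsl_dt (LP (LK LD1_c22 LD2_c14 LD3_c34)) = (LP (LK LD1_c13 LD2_c14 LD3_c40)) :=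
  Lgr Lrot113 (Lpe (K35.f458554 IH) (Lpr_df (K32.f510485 IH) (Lpr_gf (K33.f464916 IH) (Lpr_ct (K28.f462165 IH) (Lpe (K28.f464955 IH) (Lpe (K28.f466608 IH) (Lpe (K33.f511715 IH) (Lpr_dt (K34.f511821 IH) (Lpr_ct (K46.f511854 IH) (Lpn (LP (LK LD1_c13 LD2_c14 LD3_c40))))))))))))
theorem f511890 : Led Lsl_df (LP (LK LD1_c22 LD2_c14 LD3_c34)) = (LP (LK LD1_c13 LD2_c14 LD3_c40)) :=
  Lgr Lrot38 (Lpr_dt (f511867 IH) (Lpn (LP (LK LD1_c13 LD2_c14 LD3_c40))))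
theorem f787297 : Led Lsl_gf (LP (LK LD1_c13 LD2_c14 LD3_c40)) = v20488 :=
  Lgr Lrot148 (Lpe (f511890 IH) (Lpe (K35.f511191 IH) (Lpe (K33.f510491 IH) (Lpr_ct (K33.f489561 IH) (Lpe (K33.f464177 IH) (Lpe (K33.f479750 IH) (Lpr_df (K33.f479670 IH) (Lpe (K33.f455411 IH) (Lpr_ct (f787293 IH) (Lpn v20488))))))))))
theorem f530632 : Led Lsl_at (LP (LK LD1_c23 LD2_c6 LD3_c39)) = (LP (LK LD1_c13 LD2_c41 LD3_c9)) :=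
  Lre_a IH (LK LD1_c23 LD2_c6 LD3_c39) (LK LD1_c13 LD2_c41 LD3_c9) Lrfl Lrfl
theorem f530791 : Led Lsl_at (LP (LK LD1_c13 LD2_c29 LD3_c32)) = (LP (LK LD1_c22 LD2_c29 LD3_c7)) :=
  Lgr Lrot67 (Lpe (K47.f475322 IH) (Lpr_af (K41.f530787 IH) (Lpe (K41.f518668 IH) (Lpe (f530632 IH) (Lpr_bf (K47.f530630 IH) (Lpn (LP (LK LD1_c22 LD2_c29 LD3_c7))))))))
theorem f530863 : Led Lsl_gf (LP (LK LD1_c22 LD2_c29 LD3_c7)) = (LP (LK LD1_c13 LD2_c52 LD3_c7)) :=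
  Lgr Lrot76 (Lpe (f530791 IH) (Lpr_ff (K41.f530810 IH) (Lpe (K46.f511870 IH) (Lpn (LP (LK LD1_c13 LD2_c52 LD3_c7))))))
theorem f530633 : Led Lsl_bt (LP (LK LD1_c23 LD2_c6 LD3_c39)) = (LP (LK LD1_c22 LD2_c29 LD3_c7)) :=
  Lgr Lrot127 (Lpr_bf (K47.f530630 IH) (Lpn (LP (LK LD1_c22 LD2_c29 LD3_c7))))
theorem f787298 : Led Lsl_cf (LP (LK LD1_c30 LD2_c31 LD3_c61)) = (LP (LK LD1_c23 LD2_c6 LD3_c39)) :=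
  Lgr Lrot160 (Lpr_gt (f455299 IH) (Lpe (f455298 IH) (Lpr_bt (K47.f455295 IH) (Lpe (K29.f455292 IH) (Lpr_ct (f787293 IH) (Lpe (f787297 IH) (Lpe (K46.f511854 IH) (Lpr_bt (K46.f511869 IH) (Lpe (f530863 IH) (Lpe (f530633 IH) (Lpn (LP (LK LD1_c23 LD2_c6 LD3_c39)))))))))))))
theorem f787299 : Led Lsl_ct (LP (LK LD1_c23 LD2_c6 LD3_c39)) = (LP (LK LD1_c30 LD2_c31 LD3_c61)) :=
  Leop (Lpr_cf (f787298 IH) (Lpn (LP (LK LD1_c23 LD2_c6 LD3_c39))))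
theorem seed_1531 : LEOK LG_c (LK LD1_c23 LD2_c6 LD3_c39) :=
  Leoe_c (LK LD1_c23 LD2_c6 LD3_c39) (f787299 IH)
def v20503 : LQ := Led Lsl_ct (LP (LK LD1_c6 LD2_c58 LD3_c33))
theorem f787389 : Led Lsl_ct (LP (LK LD1_c6 LD2_c58 LD3_c33)) = v20503 :=
  Lrfl
theorem f787391 : Led Lsl_cf (LP (LK LD1_c6 LD2_c58 LD3_c33)) = v20503 :=
  Lgr Lrot11 (Lpr_ct (f787389 IH) (Lpn v20503))
def v7143 : LQ := Led Lsl_at (LP (LK LD1_c3 LD2_c39 LD3_c51))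
theorem f661518 : Led Lsl_at (LP (LK LD1_c3 LD2_c39 LD3_c51)) = v7143 :=
  Lrfl
theorem f520943 : Led Lsl_ft (LP (LK LD1_c7 LD2_c15 LD3_c28)) = (LP (LK LD1_c3 LD2_c39 LD3_c51)) :=
  Lgr Lrot4 (Lpe (K29.f441629 IH) (Lpr_ff (K34.f520941 IH) (Lpe (K33.f511704 IH) (Lpn (LP (LK LD1_c3 LD2_c39 LD3_c51))))))
theorem f457474 : Led Lsl_gt (LP (LK LD1_c13 LD2_c4 LD3_c18)) = (LP (LK LD1_c22 LD2_c14 LD3_c39)) :=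
  Lre_g IH (LK LD1_c13 LD2_c4 LD3_c18) (LK LD1_c22 LD2_c14 LD3_c39) Lrfl Lrfl
theorem f510742 : Led Lsl_df (LP (LK LD1_c13 LD2_c14 LD3_c13)) = (LP (LK LD1_c22 LD2_c14 LD3_c39)) :=
  Lgr Lrot84 (Lpr_cf (K47.f464867 IH) (Lpe (K29.f477595 IH) (Lpr_gf (K29.f477548 IH) (Lpe (K32.f475157 IH) (Lpe (K32.f462008 IH) (Lpe (K28.f106220 IH) (Lpr_gt (K33.f441569 IH) (Lpr_dt (K33.f510734 IH) (Lpr_gt (f457474 IH) (Lpn (LP (LK LD1_c22 LD2_c14 LD3_c39))))))))))))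
theorem f510746 : Led Lsl_dt (LP (LK LD1_c13 LD2_c14 LD3_c13)) = (LP (LK LD1_c22 LD2_c14 LD3_c39)) :=
  Lgr Lrot42 (Lpr_df (f510742 IH) (Lpn (LP (LK LD1_c22 LD2_c14 LD3_c39))))
theorem f458612 : Led Lsl_dt (LP (LK LD1_c13 LD2_c14 LD3_c16)) = (LP (LK LD1_c6 LD2_c58 LD3_c22)) :=
  Lre_d IH (LK LD1_c13 LD2_c14 LD3_c16) (LK LD1_c6 LD2_c58 LD3_c22) Lrfl Lrfl
theorem f489551 : Led Lsl_ct (LP (LK LD1_c22 LD2_c14 LD3_c39)) = (LP (LK LD1_c13 LD2_c14 LD3_c16)) :=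
  Lgr Lrot110 (Lpe (f457474 IH) (Lpe (K33.f457463 IH) (Lpr_gf (K34.f489549 IH) (Lpe (K33.f10527 IH) (Lpe (K33.f487917 IH) (Lpr_ct (K34.f455149 IH) (Lpr_gt (K28.f455146 IH) (Lpr_ct (K28.f455185 IH) (Lpe (f458612 IH) (Lpn (LP (LK LD1_c13 LD2_c14 LD3_c16))))))))))))
theorem f479119 : Led Lsl_gf (LP (LK LD1_c1 LD2_c38 LD3_c55)) = K30.v741 :=
  Lgr Lrot144 (Lpr_dt (K24.f451239 IH) (Lpe (K24.f451234 IH) (Lpr_dt (K24.f11236 IH) (Lpe (K24.f11224 IH) (Lpe (K11.f4473 IH) (Lpe (K24.f12714 IH) (Lpe (K24.f12715 IH) (Lpe (K24.f455719 IH) (Lpr_cf (K30.f479078 IH) (Lpn K30.v741))))))))))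
theorem f479118 : Led Lsl_ct (LP (LK LD1_c1 LD2_c42 LD3_c22)) = K30.v741 :=
  Lgr Lrot59 (Lpr_cf (K30.f479078 IH) (Lpn K30.v741))
theorem f523650 : Led Lsl_bt (LP (LK LD1_c6 LD2_c53 LD3_c53)) = K42.v2503 :=
  Lgr Lrot92 (Lpe (K34.f489770 IH) (Lpr_gt (K49.f489782 IH) (Lpe (K29.f455622 IH) (Lpr_bt (f12140 IH) (Lpr_gt (K24.f12127 IH) (Lpr_ct (f479118 IH) (Lpe (f479119 IH) (Lpr_cf (K24.f457399 IH) (Lpr_bt (K24.f446488 IH) (Lpr_gt (K42.f523648 IH) (Lpn K42.v2503)))))))))))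
theorem f523651 : Led Lsl_bf (LP (LK LD1_c6 LD2_c53 LD3_c53)) = K42.v2503 :=
  Lgr Lrot24 (Lpr_bt (f523650 IH) (Lpn K42.v2503))
theorem f523652 : Led Lsl_dt (LP (LK LD1_c3 LD2_c28 LD3_c4)) = K42.v2503 :=
  Lgr Lrot79 (Lpe (K28.f464670 IH) (Lpr_df (K33.f464762 IH) (Lpr_bf (f523651 IH) (Lpn K42.v2503))))
theorem f661525 : Led Lsl_ct K42.v2503 = v7143 :=
  Lgr Lrot98 (Lpe (f523652 IH) (Lpe (K42.f455398 IH) (Lpe (f458612 IH) (Lpe (f489551 IH) (Lpe (f510746 IH) (Lpr_cf (K47.f464867 IH) (Lpe (K29.f477595 IH) (Lpr_ft (f520943 IH) (Lpr_at (f661518 IH) (Lpn v7143))))))))))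
theorem f661526 : Led Lsl_gf (LP (LK LD1_c13 LD2_c17 LD3_c7)) = v7143 :=
  Lgr Lrot148 (Lpe (K32.f475162 IH) (Lpe (K32.f489533 IH) (Lpr_dt (K28.f455357 IH) (Lpr_ct (K28.f446486 IH) (Lpq (K24.f461932 IH) (Lpe (K28.f455832 IH) (Lpe (K29.f441625 IH) (Lpe (K32.f106232 IH) (Lpr_gf (K42.f523649 IH) (Lpr_ct (f661525 IH) (Lpn v7143)))))))))))
theorem f441574 : Led Lsl_dt (LP (LK LD1_c7 LD2_c13 LD3_c38)) = (LP (LK LD1_c3 LD2_c36 LD3_c40)) :=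
  Lre_d IH (LK LD1_c7 LD2_c13 LD3_c38) (LK LD1_c3 LD2_c36 LD3_c40) Lrfl Lrfl
theorem f98520 : Led Lsl_dt (LP (LK LD1_c3 LD2_c33 LD3_c24)) = (LP (LK LD1_c7 LD2_c7 LD3_c42)) :=
  Lre_d IH (LK LD1_c3 LD2_c33 LD3_c24) (LK LD1_c7 LD2_c7 LD3_c42) Lrfl Lrfl
theorem f475184 : Led Lsl_ff (LP (LK LD1_c7 LD2_c13 LD3_c38)) = (LP (LK LD1_c7 LD2_c7 LD3_c42)) :=
  Lgr Lrot19 (Lpr_dt (f441574 IH) (Lpr_ft (K29.f475155 IH) (Lpr_dt (f98520 IH) (Lpn (LP (LK LD1_c7 LD2_c7 LD3_c42))))))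
theorem f475104 : Led Lsl_at (LP (LK LD1_c7 LD2_c13 LD3_c38)) = (LP (LK LD1_c3 LD2_c53 LD3_c5)) :=
  Lgr Lrot51 (Lpe (K29.f456836 IH) (Lpr_af (K29.f475093 IH) (Lpe (K29.f458606 IH) (Lpn (LP (LK LD1_c3 LD2_c53 LD3_c5))))))
theorem f464866 : Led Lsl_gt (LP (LK LD1_c7 LD2_c48 LD3_c0)) = (LP (LK LD1_c3 LD2_c53 LD3_c5)) :=
  Lre_g IH (LK LD1_c7 LD2_c48 LD3_c0) (LK LD1_c3 LD2_c53 LD3_c5) Lrfl Lrfl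
theorem f475234 : Led Lsl_gf (LP (LK LD1_c7 LD2_c48 LD3_c0)) = (LP (LK LD1_c7 LD2_c7 LD3_c42)) :=
  Lgr Lrot47 (Lpr_gt (f464866 IH) (Lpe (f475104 IH) (Lpr_ff (f475184 IH) (Lpn (LP (LK LD1_c7 LD2_c7 LD3_c42))))))
theorem f520993 : Led Lsl_af (LP (LK LD1_c7 LD2_c48 LD3_c0)) = (LP (LK LD1_c7 LD2_c19 LD3_c56)) :=
  Lgr Lrot31 (Lpr_gf (f475234 IH) (Lpe (K29.f475202 IH) (Lpr_ft (K47.f520982 IH) (Lpn (LP (LK LD1_c7 LD2_c19 LD3_c56))))))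
theorem f520995 : Led Lsl_at (LP (LK LD1_c7 LD2_c48 LD3_c0)) = (LP (LK LD1_c7 LD2_c19 LD3_c56)) :=
  Lgr Lrot100 (Lpr_af (f520993 IH) (Lpn (LP (LK LD1_c7 LD2_c19 LD3_c56))))
theorem f661521 : Led Lsl_df (LP (LK LD1_c7 LD2_c48 LD3_c0)) = v7143 :=
  Lgr Lrot18 (Lpr_at (f520995 IH) (Lpr_dt (K33.f511705 IH) (Lpr_at (f661518 IH) (Lpn v7143))))
theorem f458596 : Led Lsl_ct (LP (LK LD1_c3 LD2_c53 LD3_c5)) = (LP (LK LD1_c7 LD2_c48 LD3_c1)) :=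
  Lre_c IH (LK LD1_c3 LD2_c53 LD3_c5) (LK LD1_c7 LD2_c48 LD3_c1) Lrfl Lrfl
theorem f787395 : Led Lsl_gt (LP (LK LD1_c7 LD2_c48 LD3_c1)) = v20503 :=
  Lgr Lrot150 (Lpe (f458596 IH) (Lpe (f464866 IH) (Lpr_df (f661521 IH) (Lpe (f661526 IH) (Lpr_ct (K29.f463851 IH) (Lpr_gt (K29.f477599 IH) (Lpe (K29.f479474 IH) (Lpr_df (K29.f479481 IH) (Lpr_cf (f787391 IH) (Lpn v20503))))))))))
theorem f475238 : Led Lsl_bt (LP (LK LD1_c14 LD2_c43 LD3_c4)) = (LP (LK LD1_c7 LD2_c48 LD3_c0)) :=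
  Lre_b IH (LK LD1_c14 LD2_c43 LD3_c4) (LK LD1_c7 LD2_c48 LD3_c0) Lrfl Lrfl
theorem f475239 : Led Lsl_ct (LP (LK LD1_c14 LD2_c43 LD3_c4)) = (LP (LK LD1_c24 LD2_c28 LD3_c26)) :=
  Lre_c IH (LK LD1_c14 LD2_c43 LD3_c4) (LK LD1_c24 LD2_c28 LD3_c26) Lrfl Lrfl
theorem f543356 : Led Lsl_af (LP (LK LD1_c12 LD2_c7 LD3_c55)) = (LP (LK LD1_c7 LD2_c14 LD3_c50)) :=
  Lgr Lrot50 (Lpr_et (K37.f543353 IH) (Lpr_at (K47.f519760 IH) (Lpr_et (K33.f487873 IH) (Lpn (LP (LK LD1_c7 LD2_c14 LD3_c50))))))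
theorem f628251 : Led Lsl_bf (LP (LK LD1_c21 LD2_c13 LD3_c57)) = (LP (LK LD1_c12 LD2_c7 LD3_c55)) :=
  Lgr Lrot81 (Lpr_at (K47.f628247 IH) (Lpr_bt (K47.f455391 IH) (Lpe (K47.f528157 IH) (Lpr_bt (K33.f487851 IH) (Lpe (f543356 IH) (Lpn (LP (LK LD1_c12 LD2_c7 LD3_c55))))))))
theorem f529594 : Led Lsl_at (LP (LK LD1_c14 LD2_c55 LD3_c5)) = (LP (LK LD1_c7 LD2_c54 LD3_c30)) :=
  Lre_a IH (LK LD1_c14 LD2_c55 LD3_c5) (LK LD1_c7 LD2_c54 LD3_c30) Lrfl Lrfl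
theorem f451968 : Led Lsl_gt (LP (LK LD1_c14 LD2_c55 LD3_c4)) = (LP (LK LD1_c7 LD2_c54 LD3_c30)) :=
  Lre_g IH (LK LD1_c14 LD2_c55 LD3_c4) (LK LD1_c7 LD2_c54 LD3_c30) Lrfl Lrfl
theorem f529598 : Led Lsl_gf (LP (LK LD1_c14 LD2_c55 LD3_c4)) = (LP (LK LD1_c14 LD2_c55 LD3_c16)) :=
  Lgr Lrot47 (Lpr_gt (f451968 IH) (Lpe (f529594 IH) (Lpr_ff (K47.f529592 IH) (Lpn (LP (LK LD1_c14 LD2_c55 LD3_c16))))))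
theorem f608280 : Led Lsl_dt (LP (LK LD1_c14 LD2_c55 LD3_c4)) = (LP (LK LD1_c21 LD2_c14 LD3_c33)) :=
  Lgr Lrot115 (Lpr_gf (f529598 IH) (Lpe (K47.f543358 IH) (Lpr_gt (K37.f543348 IH) (Lpr_dt (K39.f70738 IH) (Lpr_gt (K11.f38140 IH) (Lpe (K40.f554163 IH) (Lpr_ct (K29.f463360 IH) (Lpe (K29.f463354 IH) (Lpr_gf (K47.f608278 IH) (Lpn (LP (LK LD1_c21 LD2_c14 LD3_c33))))))))))))
theorem f608358 : Led Lsl_cf (LP (LK LD1_c14 LD2_c55 LD3_c16)) = (LP (LK LD1_c12 LD2_c7 LD3_c55)) :=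
  Lgr Lrot166 (Lpe (f529598 IH) (Lpr_dt (f608280 IH) (Lpe (K47.f608278 IH) (Lpr_dt (K29.f463354 IH) (Lpe (K39.f463363 IH) (Lpr_df (K40.f554163 IH) (Lpe (K11.f38140 IH) (Lpe (K39.f70738 IH) (Lpe (K37.f543348 IH) (Lpn (LP (LK LD1_c12 LD2_c7 LD3_c55))))))))))))
theorem f560384 : Led Lsl_cf (LP (LK LD1_c17 LD2_c15 LD3_c15)) = (LP (LK LD1_c26 LD2_c22 LD3_c39)) :=
  Lgr Lrot166 (Lpr_gt (K43.f69503 IH) (Lpr_dt (K37.f59322 IH) (Lpr_gt (K11.f201945 IH) (Lpr_dt (K11.f38139 IH) (Lpr_ct (K47.f99301 IH) (Lpr_df (K43.f560359 IH) (Lpe (K43.f147303 IH) (Lpr_df (K43.f560376 IH) (Lpe (K43.f560379 IH) (Lpn (LP (LK LD1_c26 LD2_c22 LD3_c39))))))))))))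
theorem f80362 : Led Lsl_et (LP (LK LD1_c6 LD2_c24 LD3_c49)) = (LP (LK LD1_c3 LD2_c10 LD3_c0)) :=
  Lre_e IH (LK LD1_c6 LD2_c24 LD3_c49) (LK LD1_c3 LD2_c10 LD3_c0) Lrfl Lrfl
theorem f80336 : Led Lsl_et (LP (LK LD1_c4 LD2_c24 LD3_c4)) = (LP (LK LD1_c8 LD2_c45 LD3_c56)) :=
  Lre_e IH (LK LD1_c4 LD2_c24 LD3_c4) (LK LD1_c8 LD2_c45 LD3_c56) Lrfl Lrfl
theorem f607054 : Led Lsl_cf (LP (LK LD1_c6 LD2_c24 LD3_c49)) = (LP (LK LD1_c8 LD2_c45 LD3_c56)) :=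
  Lgr Lrot39 (Lpr_et (f80362 IH) (Lpr_ct (K46.f607050 IH) (Lpr_et (f80336 IH) (Lpn (LP (LK LD1_c8 LD2_c45 LD3_c56))))))
theorem f418409 : Led Lsl_et (LP (LK LD1_c4 LD2_c24 LD3_c39)) = (LP (LK LD1_c8 LD2_c46 LD3_c54)) :=
  Lre_e IH (LK LD1_c4 LD2_c24 LD3_c39) (LK LD1_c8 LD2_c46 LD3_c54) Lrfl Lrfl
theorem f36174 : Led Lsl_dt (LP (LK LD1_c4 LD2_c24 LD3_c39)) = (LP (LK LD1_c8 LD2_c46 LD3_c53)) :=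
  Lre_d IH (LK LD1_c4 LD2_c24 LD3_c39) (LK LD1_c8 LD2_c46 LD3_c53) Lrfl Lrfl
theorem f30115 : Led Lsl_et (LP (LK LD1_c8 LD2_c1 LD3_c25)) = (LP (LK LD1_c15 LD2_c6 LD3_c35)) :=
  Lre_e IH (LK LD1_c8 LD2_c1 LD3_c25) (LK LD1_c15 LD2_c6 LD3_c35) Lrfl Lrfl
theorem f229320 : Led Lsl_gt (LP (LK LD1_c8 LD2_c10 LD3_c29)) = (LP (LK LD1_c15 LD2_c6 LD3_c35)) :=
  Lgr Lrot131 (Lpe (K23.f53115 IH) (Lpr_dt (K23.f53121 IH) (Lpe (K12.f225024 IH) (Lpe (K13.f173280 IH) (Lpr_gf (K12.f229289 IH) (Lpe (K35.f29998 IH) (Lpr_dt (K1.f29941 IH) (Lpe (K37.f30104 IH) (Lpe (K40.f30114 IH) (Lpr_et (f30115 IH) (Lpn (LP (LK LD1_c15 LD2_c6 LD3_c35)))))))))))))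
theorem f53116 : Led Lsl_et (LP (LK LD1_c1 LD2_c59 LD3_c27)) = (LP (LK LD1_c3 LD2_c59 LD3_c58)) :=
  Lgr Lrot87 (Lpr_ef (K12.f53107 IH) (Lpn (LP (LK LD1_c3 LD2_c59 LD3_c58))))
theorem f53122 : Led Lsl_et (LP (LK LD1_c8 LD2_c10 LD3_c29)) = (LP (LK LD1_c4 LD2_c4 LD3_c49)) :=
  Lre_e IH (LK LD1_c8 LD2_c10 LD3_c29) (LK LD1_c4 LD2_c4 LD3_c49) Lrfl Lrfl
theorem f225018 : Led Lsl_dt (LP (LK LD1_c8 LD2_c38 LD3_c24)) = (LP (LK LD1_c8 LD2_c10 LD3_c29)) :=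
  Lgr Lrot77 (Lpe (K37.f225017 IH) (Lpr_df (K12.f225010 IH) (Lpe (f53116 IH) (Lpe (K23.f53121 IH) (Lpe (f53122 IH) (Lpn (LP (LK LD1_c8 LD2_c10 LD3_c29))))))))
theorem f34794 : Led Lsl_df (LP (LK LD1_c2 LD2_c9 LD3_c48)) = (LP (LK LD1_c4 LD2_c20 LD3_c17)) :=
  Lgr Lrot38 (Lpr_dt (K1.f34785 IH) (Lpn (LP (LK LD1_c4 LD2_c20 LD3_c17))))
theorem f35360 : Led Lsl_dt (LP (LK LD1_c24 LD2_c54 LD3_c43)) = (LP (LK LD1_c15 LD2_c6 LD3_c35)) :=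
  Lre_d IH (LK LD1_c24 LD2_c54 LD3_c43) (LK LD1_c15 LD2_c6 LD3_c35) Lrfl Lrfl
theorem f35359 : Led Lsl_et (LP (LK LD1_c24 LD2_c54 LD3_c43)) = (LP (LK LD1_c15 LD2_c6 LD3_c37)) :=
  Lre_e IH (LK LD1_c24 LD2_c54 LD3_c43) (LK LD1_c15 LD2_c6 LD3_c37) Lrfl Lrfl
theorem f418406 : Led Lsl_gf (LP (LK LD1_c8 LD2_c46 LD3_c53)) = (LP (LK LD1_c15 LD2_c6 LD3_c37)) :=
  Lgr Lrot138 (Lpr_dt (K40.f34802 IH) (Lpr_gt (K40.f34749 IH) (Lpr_df (f34794 IH) (Lpr_et (K1.f34784 IH) (Lpr_gt (K12.f34788 IH) (Lpe (K39.f35317 IH) (Lpr_dt (f225018 IH) (Lpr_gt (f229320 IH) (Lpe (f35360 IH) (Lpr_et (f35359 IH) (Lpn (LP (LK LD1_c15 LD2_c6 LD3_c37)))))))))))))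
theorem f568149 : Led Lsl_gf (LP (LK LD1_c8 LD2_c1 LD3_c26)) = (LP (LK LD1_c8 LD2_c45 LD3_c56)) :=
  Lgr Lrot138 (Lpr_dt (K37.f30117 IH) (Lpe (f418406 IH) (Lpe (f36174 IH) (Lpr_et (f418409 IH) (Lpr_gt (K40.f418085 IH) (Lpr_ef (K46.f445446 IH) (Lpr_dt (K46.f568129 IH) (Lpr_gt (K46.f210855 IH) (Lpe (K46.f80339 IH) (Lpr_et (f80336 IH) (Lpn (LP (LK LD1_c8 LD2_c45 LD3_c56)))))))))))))
theorem f607060 : Led Lsl_gt (LP (LK LD1_c6 LD2_c24 LD3_c49)) = (LP (LK LD1_c12 LD2_c5 LD3_c59)) :=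
  Lgr Lrot94 (Lpr_cf (f607054 IH) (Lpe (f568149 IH) (Lpr_dt (K37.f30117 IH) (Lpe (f418406 IH) (Lpr_dt (K40.f34802 IH) (Lpr_cf (K41.f445069 IH) (Lpe (K40.f37399 IH) (Lpe (K40.f445415 IH) (Lpe (K37.f37340 IH) (Lpn (LP (LK LD1_c12 LD2_c5 LD3_c59))))))))))))
theorem f80399 : Led Lsl_gt (LP (LK LD1_c12 LD2_c22 LD3_c31)) = (LP (LK LD1_c6 LD2_c24 LD3_c48)) :=
  Lre_g IH (LK LD1_c12 LD2_c22 LD3_c31) (LK LD1_c6 LD2_c24 LD3_c48) Lrfl Lrfl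
theorem f35365 : Led Lsl_et (LP (LK LD1_c16 LD2_c25 LD3_c43)) = (LP (LK LD1_c15 LD2_c5 LD3_c60)) :=
  Lgr Lrot87 (Lpr_ef (K40.f35363 IH) (Lpn (LP (LK LD1_c15 LD2_c5 LD3_c60))))
theorem f607072 : Led Lsl_df (LP (LK LD1_c12 LD2_c22 LD3_c31)) = (LP (LK LD1_c16 LD2_c25 LD3_c43)) :=
  Lgr Lrot170 (Lpr_gt (f80399 IH) (Lpe (K47.f80356 IH) (Lpr_et (K57.f80370 IH) (Lpr_gt (f607060 IH) (Lpr_dt (K37.f37340 IH) (Lpr_gt (K40.f445415 IH) (Lpe (K40.f37413 IH) (Lpr_et (K40.f37398 IH) (Lpe (K40.f445233 IH) (Lpe (f35365 IH) (Lpn (LP (LK LD1_c16 LD2_c25 LD3_c43)))))))))))))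
theorem f607074 : Led Lsl_dt (LP (LK LD1_c12 LD2_c22 LD3_c31)) = (LP (LK LD1_c16 LD2_c25 LD3_c43)) :=
  Lgr Lrot42 (Lpr_df (f607072 IH) (Lpn (LP (LK LD1_c16 LD2_c25 LD3_c43))))
theorem f607766 : Led Lsl_gf (LP (LK LD1_c12 LD2_c22 LD3_c31)) = (LP (LK LD1_c6 LD2_c24 LD3_c51)) :=
  Lgr Lrot143 (Lpr_dt (f607074 IH) (Lpe (K40.f561079 IH) (Lpe (K40.f487914 IH) (Lpr_gf (K46.f607764 IH) (Lpe (K46.f75732 IH) (Lpe (K46.f75731 IH) (Lpe (K11.f75720 IH) (Lpr_gt (K46.f420367 IH) (Lpr_dt (K46.f81314 IH) (Lpn (LP (LK LD1_c6 LD2_c24 LD3_c51))))))))))))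
theorem f607768 : Led Lsl_gf (LP (LK LD1_c21 LD2_c29 LD3_c15)) = (LP (LK LD1_c12 LD2_c22 LD3_c39)) :=
  Lgr Lrot144 (Lpr_dt (K47.f607447 IH) (Lpe (K47.f607550 IH) (Lpr_dt (K47.f560368 IH) (Lpr_cf (K43.f560366 IH) (Lpe (K40.f443104 IH) (Lpe (K40.f35362 IH) (Lpe (f607074 IH) (Lpr_gf (f607766 IH) (Lpe (K46.f81292 IH) (Lpn (LP (LK LD1_c12 LD2_c22 LD3_c39))))))))))))
theorem f607704 : Led Lsl_ft (LP (LK LD1_c21 LD2_c29 LD3_c14)) = (LP (LK LD1_c26 LD2_c22 LD3_c39)) :=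
  Lgr Lrot48 (Lpr_ff (K46.f607426 IH) (Lpn (LP (LK LD1_c26 LD2_c22 LD3_c39))))
theorem f607772 : Led Lsl_af (LP (LK LD1_c21 LD2_c29 LD3_c15)) = (LP (LK LD1_c26 LD2_c22 LD3_c39)) :=
  Lgr Lrot31 (Lpr_gf (f607768 IH) (Lpe (K47.f607430 IH) (Lpr_ft (f607704 IH) (Lpn (LP (LK LD1_c26 LD2_c22 LD3_c39))))))
theorem f607774 : Led Lsl_at (LP (LK LD1_c21 LD2_c29 LD3_c15)) = (LP (LK LD1_c26 LD2_c22 LD3_c39)) :=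
  Lgr Lrot100 (Lpr_af (f607772 IH) (Lpn (LP (LK LD1_c26 LD2_c22 LD3_c39))))
theorem f607776 : Led Lsl_ff (LP (LK LD1_c21 LD2_c29 LD3_c15)) = (LP (LK LD1_c26 LD2_c22 LD3_c38)) :=
  Lgr Lrot30 (Lpr_at (f607774 IH) (Lpe (K46.f607426 IH) (Lpr_at (K46.f607706 IH) (Lpn (LP (LK LD1_c26 LD2_c22 LD3_c38))))))
theorem f607778 : Led Lsl_ct (LP (LK LD1_c17 LD2_c15 LD3_c14)) = (LP (LK LD1_c26 LD2_c22 LD3_c38)) :=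
  Lgr Lrot40 (Lpr_ff (K43.f576276 IH) (Lpe (K47.f607415 IH) (Lpr_ff (f607776 IH) (Lpn (LP (LK LD1_c26 LD2_c22 LD3_c38))))))
theorem f75769 : Led Lsl_dt (LP (LK LD1_c4 LD2_c24 LD3_c25)) = (LP (LK LD1_c8 LD2_c46 LD3_c31)) :=
  Lre_d IH (LK LD1_c4 LD2_c24 LD3_c25) (LK LD1_c8 LD2_c46 LD3_c31) Lrfl Lrfl
theorem f205661 : Led Lsl_ct (LP (LK LD1_c16 LD2_c25 LD3_c5)) = (LP (LK LD1_c8 LD2_c46 LD3_c31)) :=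
  Lre_c IH (LK LD1_c16 LD2_c25 LD3_c5) (LK LD1_c8 LD2_c46 LD3_c31) Lrfl Lrfl
theorem f607780 : Led Lsl_gf (LP (LK LD1_c16 LD2_c25 LD3_c5)) = (LP (LK LD1_c26 LD2_c22 LD3_c38)) :=
  Lgr Lrot104 (Lpr_ct (f205661 IH) (Lpe (f75769 IH) (Lpe (K37.f544244 IH) (Lpe (K37.f210827 IH) (Lpr_cf (K4.f99287 IH) (Lpe (K11.f201945 IH) (Lpe (K37.f59322 IH) (Lpr_gt (K43.f56610 IH) (Lpr_ct (f607778 IH) (Lpn (LP (LK LD1_c26 LD2_c22 LD3_c38))))))))))))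
theorem f607783 : Led Lsl_gt (LP (LK LD1_c16 LD2_c25 LD3_c5)) = (LP (LK LD1_c26 LD2_c22 LD3_c39)) :=
  Lgr Lrot46 (Lpr_gf (f607780 IH) (Lpe (f607776 IH) (Lpr_at (f607774 IH) (Lpn (LP (LK LD1_c26 LD2_c22 LD3_c39))))))
theorem f608186 : Led Lsl_df (LP (LK LD1_c16 LD2_c25 LD3_c5)) = (LP (LK LD1_c23 LD2_c29 LD3_c58)) :=
  Lgr Lrot155 (Lpr_gt (f607783 IH) (Lpe (f560384 IH) (Lpr_gt (K43.f69503 IH) (Lpr_ct (K47.f56647 IH) (Lpr_dt (K47.f607670 IH) (Lpe (K47.f607802 IH) (Lpe (K46.f147413 IH) (Lpe (K47.f561107 IH) (Lpr_gf (K47.f608180 IH) (Lpn (LP (LK LD1_c23 LD2_c29 LD3_c58))))))))))))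
theorem f75772 : Led Lsl_dt (LP (LK LD1_c8 LD2_c46 LD3_c31)) = (LP (LK LD1_c4 LD2_c24 LD3_c25)) :=
  Lre_d IH (LK LD1_c8 LD2_c46 LD3_c31) (LK LD1_c4 LD2_c24 LD3_c25) Lrfl Lrfl
theorem f561096 : Led Lsl_cf (LP (LK LD1_c7 LD2_c56 LD3_c45)) = (LP (LK LD1_c4 LD2_c24 LD3_c24)) :=
  Lgr Lrot11 (Lpr_ct (K40.f561093 IH) (Lpn (LP (LK LD1_c4 LD2_c24 LD3_c24))))
theorem f70203 : Led Lsl_dt (LP (LK LD1_c7 LD2_c56 LD3_c45)) = (LP (LK LD1_c14 LD2_c59 LD3_c29)) :=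
  Lre_d IH (LK LD1_c7 LD2_c56 LD3_c45) (LK LD1_c14 LD2_c59 LD3_c29) Lrfl Lrfl
theorem f608354 : Led Lsl_cf (LP (LK LD1_c14 LD2_c55 LD3_c4)) = (LP (LK LD1_c14 LD2_c59 LD3_c29)) :=
  Lgr Lrot55 (Lpr_dt (f608280 IH) (Lpr_ct (K47.f608184 IH) (Lpe (f608186 IH) (Lpr_ct (f205661 IH) (Lpr_dt (f75772 IH) (Lpe (K43.f544280 IH) (Lpr_dt (K57.f210829 IH) (Lpr_ct (K57.f558939 IH) (Lpr_dt (K47.f607581 IH) (Lpe (K47.f607571 IH) (Lpr_dt (K43.f560374 IH) (Lpr_ct (K43.f70254 IH) (Lpr_dt (K43.f70266 IH) (Lpe (f561096 IH) (Lpr_dt (f70203 IH) (Lpn (LP (LK LD1_c14 LD2_c59 LD3_c29))))))))))))))))))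
theorem f617741 : Led Lsl_bt (LP (LK LD1_c14 LD2_c59 LD3_c29)) = (LP (LK LD1_c22 LD2_c29 LD3_c3)) :=
  Lgr Lrot95 (Lpe (f70203 IH) (Lpe (K55.f617725 IH) (Lpr_df (K55.f617737 IH) (Lpn (LP (LK LD1_c22 LD2_c29 LD3_c3))))))
theorem f464685 : Led Lsl_cf (LP (LK LD1_c14 LD2_c55 LD3_c3)) = (LP (LK LD1_c22 LD2_c29 LD3_c0)) :=
  Lgr Lrot1 (Lpr_at (K40.f464683 IH) (Lpr_ct (K47.f464680 IH) (Lpr_at (K55.f464684 IH) (Lpn (LP (LK LD1_c22 LD2_c29 LD3_c0))))))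
theorem f607595 : Led Lsl_df (LP (LK LD1_c14 LD2_c7 LD3_c29)) = (LP (LK LD1_c14 LD2_c51 LD3_c1)) :=
  Lgr Lrot153 (Lpr_gt (K39.f116176 IH) (Lpr_dt (K36.f116175 IH) (Lpe (K4.f116149 IH) (Lpe (K55.f116160 IH) (Lpe (K40.f116174 IH) (Lpe (K40.f552199 IH) (Lpr_gf (K48.f607591 IH) (Lpe (K48.f464678 IH) (Lpe (K55.f520640 IH) (Lpn (LP (LK LD1_c14 LD2_c51 LD3_c1))))))))))))
theorem f607625 : Led Lsl_bt (LP (LK LD1_c14 LD2_c46 LD3_c13)) = (LP (LK LD1_c14 LD2_c51 LD3_c1)) :=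
  Lgr Lrot95 (Lpr_df (K46.f144707 IH) (Lpe (K39.f489631 IH) (Lpr_df (f607595 IH) (Lpn (LP (LK LD1_c14 LD2_c51 LD3_c1))))))
theorem f111696 : Led Lsl_bt (LP (LK LD1_c3 LD2_c45 LD3_c50)) = (LP (LK LD1_c7 LD2_c32 LD3_c17)) :=
  Lre_b IH (LK LD1_c3 LD2_c45 LD3_c50) (LK LD1_c7 LD2_c32 LD3_c17) Lrfl Lrfl
theorem f89509 : Led Lsl_bt (LP (LK LD1_c13 LD2_c17 LD3_c26)) = (LP (LK LD1_c7 LD2_c0 LD3_c20)) :=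
  Lre_b IH (LK LD1_c13 LD2_c17 LD3_c26) (LK LD1_c7 LD2_c0 LD3_c20) Lrfl Lrfl
theorem f111697 : Led Lsl_bt (LP (LK LD1_c14 LD2_c12 LD3_c48)) = (LP (LK LD1_c22 LD2_c33 LD3_c10)) :=
  Lgr Lrot62 (Lpe (K4.f111403 IH) (Lpe (f111696 IH) (Lpr_af (K4.f111682 IH) (Lpe (f89509 IH) (Lpe (K41.f89546 IH) (Lpn (LP (LK LD1_c22 LD2_c33 LD3_c10))))))))
theorem f111396 : Led Lsl_ct (LP (LK LD1_c14 LD2_c12 LD3_c48)) = (LP (LK LD1_c23 LD2_c47 LD3_c60)) :=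
  Lre_c IH (LK LD1_c14 LD2_c12 LD3_c48) (LK LD1_c23 LD2_c47 LD3_c60) Lrfl Lrfl
theorem f123814 : Led Lsl_gt (LP (LK LD1_c31 LD2_c13 LD3_c30)) = (LP (LK LD1_c23 LD2_c47 LD3_c60)) :=
  Lre_g IH (LK LD1_c31 LD2_c13 LD3_c30) (LK LD1_c23 LD2_c47 LD3_c60) Lrfl Lrfl
theorem f111407 : Led Lsl_ct (LP (LK LD1_c23 LD2_c47 LD3_c60)) = (LP (LK LD1_c14 LD2_c12 LD3_c48)) :=
  Lre_c IH (LK LD1_c23 LD2_c47 LD3_c60) (LK LD1_c14 LD2_c12 LD3_c48) Lrfl Lrfl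
theorem f532975 : Led Lsl_ct (LP (LK LD1_c31 LD2_c12 LD3_c57)) = (LP (LK LD1_c31 LD2_c13 LD3_c30)) :=
  Lgr Lrot152 (Lpr_gf (K41.f532973 IH) (Lpe (K39.f473495 IH) (Lpr_gt (K34.f473473 IH) (Lpr_ct (K35.f123749 IH) (Lpr_gt (K35.f123748 IH) (Lpe (K33.f123733 IH) (Lpe (K4.f111374 IH) (Lpe (f111407 IH) (Lpe (f123814 IH) (Lpn (LP (LK LD1_c31 LD2_c13 LD3_c30))))))))))))
theorem f590119 : Led Lsl_bt (LP (LK LD1_c31 LD2_c12 LD3_c57)) = (LP (LK LD1_c29 LD2_c55 LD3_c6)) :=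
  Lgr Lrot92 (Lpr_ct (f532975 IH) (Lpr_gt (f123814 IH) (Lpe (f111396 IH) (Lpr_bt (f111697 IH) (Lpr_gt (f89606 IH) (Lpe (f578110 IH) (Lpr_gt (f578108 IH) (Lpe (f473905 IH) (Lpr_bt (f513194 IH) (Lpr_gt (f590001 IH) (Lpn (LP (LK LD1_c29 LD2_c55 LD3_c6)))))))))))))
theorem f590123 : Led Lsl_bf (LP (LK LD1_c24 LD2_c32 LD3_c25)) = (LP (LK LD1_c21 LD2_c14 LD3_c3)) :=
  Lgr Lrot93 (Lpr_dt (K41.f533780 IH) (Lpr_bt (f590119 IH) (Lpr_dt (f543770 IH) (Lpn (LP (LK LD1_c21 LD2_c14 LD3_c3))))))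
theorem f543772 : Led Lsl_ct (LP (LK LD1_c12 LD2_c7 LD3_c44)) = (LP (LK LD1_c21 LD2_c14 LD3_c3)) :=
  Lre_c IH (LK LD1_c12 LD2_c7 LD3_c44) (LK LD1_c21 LD2_c14 LD3_c3) Lrfl Lrfl
theorem f617817 : Led Lsl_bf (LP (LK LD1_c12 LD2_c7 LD3_c44)) = (LP (LK LD1_c13 LD2_c32 LD3_c8)) :=
  Lgr Lrot90 (Lpr_ct (f543772 IH) (Lpe (f590123 IH) (Lpr_ct (K46.f144705 IH) (Lpr_bt (f607625 IH) (Lpr_ct (K55.f617815 IH) (Lpn (LP (LK LD1_c13 LD2_c32 LD3_c8))))))))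
theorem f628309 : Led Lsl_gf (LP (LK LD1_c21 LD2_c13 LD3_c57)) = (LP (LK LD1_c12 LD2_c7 LD3_c44)) :=
  Lgr Lrot124 (Lpr_bf (f628251 IH) (Lpe (f608358 IH) (Lpe (f529598 IH) (Lpr_cf (f608354 IH) (Lpr_bt (f617741 IH) (Lpe (K55.f522168 IH) (Lpe (f464685 IH) (Lpe (K55.f520640 IH) (Lpr_cf (K55.f617819 IH) (Lpe (f617817 IH) (Lpn (LP (LK LD1_c12 LD2_c7 LD3_c44)))))))))))))
theorem f479491 : Led Lsl_et (LP (LK LD1_c22 LD2_c14 LD3_c37)) = (LP (LK LD1_c13 LD2_c32 LD3_c19)) :=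
  Lgr Lrot74 (Lpe (K47.f479476 IH) (Lpr_ef (K29.f479486 IH) (Lpe (K47.f479490 IH) (Lpn (LP (LK LD1_c13 LD2_c32 LD3_c19))))))
theorem f590127 : Led Lsl_et (LP (LK LD1_c13 LD2_c41 LD3_c32)) = (LP (LK LD1_c21 LD2_c14 LD3_c3)) :=
  Lgr Lrot74 (Lpe (K41.f488328 IH) (Lpe (K41.f488337 IH) (Lpr_bf (f590123 IH) (Lpn (LP (LK LD1_c21 LD2_c14 LD3_c3))))))
theorem f590131 : Led Lsl_ef (LP (LK LD1_c13 LD2_c41 LD3_c32)) = (LP (LK LD1_c21 LD2_c14 LD3_c3)) :=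
  Lgr Lrot88 (Lpr_et (f590127 IH) (Lpn (LP (LK LD1_c21 LD2_c14 LD3_c3))))
theorem f590133 : Led Lsl_et (LP (LK LD1_c7 LD2_c14 LD3_c9)) = (LP (LK LD1_c12 LD2_c7 LD3_c44)) :=
  Lgr Lrot158 (Lpe (K41.f96586 IH) (Lpr_ef (f590131 IH) (Lpe (f543772 IH) (Lpn (LP (LK LD1_c12 LD2_c7 LD3_c44))))))
theorem f17490 : Led Lsl_dt (LP (LK LD1_c7 LD2_c14 LD3_c9)) = (LP (LK LD1_c13 LD2_c41 LD3_c33)) :=
  Lre_d IH (LK LD1_c7 LD2_c14 LD3_c9) (LK LD1_c13 LD2_c41 LD3_c33) Lrfl Lrfl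
theorem f628315 : Led Lsl_gt (LP (LK LD1_c13 LD2_c14 LD3_c35)) = (LP (LK LD1_c13 LD2_c41 LD3_c33)) :=
  Lgr Lrot112 (Lpr_df (K47.f480634 IH) (Lpr_et (f479491 IH) (Lpr_gf (K47.f628269 IH) (Lpe (K47.f575391 IH) (Lpr_dt (K43.f97540 IH) (Lpe (K47.f578491 IH) (Lpe (K47.f628261 IH) (Lpr_gf (f628309 IH) (Lpe (f590133 IH) (Lpr_dt (f17490 IH) (Lpn (LP (LK LD1_c13 LD2_c41 LD3_c33)))))))))))))
theorem f611884 : Led Lsl_bt (LP (LK LD1_c23 LD2_c7 LD3_c4)) = (LP (LK LD1_c13 LD2_c41 LD3_c33)) :=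
  Lre_b IH (LK LD1_c23 LD2_c7 LD3_c4) (LK LD1_c13 LD2_c41 LD3_c33) Lrfl Lrfl
theorem f227872 : Led Lsl_ct (LP (LK LD1_c29 LD2_c55 LD3_c32)) = (LP (LK LD1_c21 LD2_c14 LD3_c58)) :=
  Lre_c IH (LK LD1_c29 LD2_c55 LD3_c32) (LK LD1_c21 LD2_c14 LD3_c58) Lrfl Lrfl
theorem f514794 : Led Lsl_ct (LP (LK LD1_c13 LD2_c51 LD3_c55)) = (LP (LK LD1_c23 LD2_c21 LD3_c28)) :=
  Lre_c IH (LK LD1_c13 LD2_c51 LD3_c55) (LK LD1_c23 LD2_c21 LD3_c28) Lrfl Lrfl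
theorem f609177 : Led Lsl_ff (LP (LK LD1_c29 LD2_c55 LD3_c32)) = (LP (LK LD1_c23 LD2_c21 LD3_c28)) :=
  Lgr Lrot23 (Lpr_ct (f227872 IH) (Lpr_ft (K47.f609175 IH) (Lpr_ct (f514794 IH) (Lpn (LP (LK LD1_c23 LD2_c21 LD3_c28))))))
theorem f543125 : Led Lsl_cf (LP (LK LD1_c6 LD2_c15 LD3_c1)) = (LP (LK LD1_c7 LD2_c49 LD3_c52)) :=
  Lgr Lrot11 (Lpr_ct (K37.f543118 IH) (Lpn (LP (LK LD1_c7 LD2_c49 LD3_c52))))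
theorem f241841 : Led Lsl_dt (LP (LK LD1_c12 LD2_c8 LD3_c24)) = (LP (LK LD1_c6 LD2_c15 LD3_c1)) :=
  Lre_d IH (LK LD1_c12 LD2_c8 LD3_c24) (LK LD1_c6 LD2_c15 LD3_c1) Lrfl Lrfl
theorem f543127 : Led Lsl_ct (LP (LK LD1_c21 LD2_c14 LD3_c42)) = (LP (LK LD1_c12 LD2_c8 LD3_c24)) :=
  Lre_c IH (LK LD1_c21 LD2_c14 LD3_c42) (LK LD1_c12 LD2_c8 LD3_c24) Lrfl Lrfl
theorem f608853 : Led Lsl_gt (LP (LK LD1_c23 LD2_c21 LD3_c28)) = (LP (LK LD1_c21 LD2_c14 LD3_c42)) :=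
  Lgr Lrot150 (Lpe (f514794 IH) (Lpr_gf (K47.f608847 IH) (Lpe (K47.f560658 IH) (Lpe (K43.f560755 IH) (Lpr_ct (K33.f456084 IH) (Lpe (K37.f489325 IH) (Lpe (f543125 IH) (Lpe (f241841 IH) (Lpe (f543127 IH) (Lpn (LP (LK LD1_c21 LD2_c14 LD3_c42))))))))))))
theorem f241514 : Led Lsl_gt (LP (LK LD1_c21 LD2_c14 LD3_c42)) = (LP (LK LD1_c29 LD2_c55 LD3_c26)) :=
  Lre_g IH (LK LD1_c21 LD2_c14 LD3_c42) (LK LD1_c29 LD2_c55 LD3_c26) Lrfl Lrfl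
theorem f611823 : Led Lsl_at (LP (LK LD1_c29 LD2_c55 LD3_c32)) = (LP (LK LD1_c29 LD2_c55 LD3_c26)) :=
  Lgr Lrot26 (Lpr_ff (f609177 IH) (Lpr_gt (f608853 IH) (Lpr_gt (f241514 IH) (Lpn (LP (LK LD1_c29 LD2_c55 LD3_c26))))))
theorem f30204 : Led Lsl_ct (LP (LK LD1_c24 LD2_c54 LD3_c10)) = (LP (LK LD1_c31 LD2_c42 LD3_c25)) :=
  Lre_c IH (LK LD1_c24 LD2_c54 LD3_c10) (LK LD1_c31 LD2_c42 LD3_c25) Lrfl Lrfl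
theorem f227873 : Led Lsl_et (LP (LK LD1_c31 LD2_c42 LD3_c25)) = (LP (LK LD1_c29 LD2_c55 LD3_c32)) :=
  Lgr Lrot158 (Lpe (f30204 IH) (Lpr_ef (K47.f227870 IH) (Lpe (f227872 IH) (Lpn (LP (LK LD1_c29 LD2_c55 LD3_c32))))))
theorem f30184 : Led Lsl_ct (LP (LK LD1_c31 LD2_c43 LD3_c16)) = (LP (LK LD1_c24 LD2_c56 LD3_c40)) :=
  Lre_c IH (LK LD1_c31 LD2_c43 LD3_c16) (LK LD1_c24 LD2_c56 LD3_c40) Lrfl Lrfl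
theorem f609198 : Led Lsl_at (LP (LK LD1_c31 LD2_c42 LD3_c25)) = (LP (LK LD1_c31 LD2_c43 LD3_c16)) :=
  Lgr Lrot107 (Lpe (f30204 IH) (Lpr_af (K47.f609194 IH) (Lpe (f30184 IH) (Lpn (LP (LK LD1_c31 LD2_c43 LD3_c16))))))
theorem f611183 : Led Lsl_af (LP (LK LD1_c31 LD2_c42 LD3_c25)) = (LP (LK LD1_c31 LD2_c43 LD3_c16)) :=
  Lgr Lrot0 (Lpr_at (f609198 IH) (Lpn (LP (LK LD1_c31 LD2_c43 LD3_c16))))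
theorem f611829 : Led Lsl_ef (LP (LK LD1_c31 LD2_c43 LD3_c16)) = (LP (LK LD1_c29 LD2_c55 LD3_c26)) :=
  Lgr Lrot20 (Lpe (f611183 IH) (Lpr_et (f227873 IH) (Lpr_at (f611823 IH) (Lpn (LP (LK LD1_c29 LD2_c55 LD3_c26))))))
theorem f611833 : Led Lsl_et (LP (LK LD1_c31 LD2_c43 LD3_c16)) = (LP (LK LD1_c29 LD2_c55 LD3_c26)) :=
  Lgr Lrot87 (Lpr_ef (f611829 IH) (Lpn (LP (LK LD1_c29 LD2_c55 LD3_c26))))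
theorem f16531 : Led Lsl_gt (LP (LK LD1_c32 LD2_c10 LD3_c8)) = (LP (LK LD1_c26 LD2_c30 LD3_c46)) :=
  Lre_g IH (LK LD1_c32 LD2_c10 LD3_c8) (LK LD1_c26 LD2_c30 LD3_c46) Lrfl Lrfl
theorem f611835 : Led Lsl_dt (LP (LK LD1_c31 LD2_c43 LD3_c16)) = (LP (LK LD1_c32 LD2_c10 LD3_c8)) :=
  Lgr Lrot136 (Lpr_et (f611833 IH) (Lpe (f241514 IH) (Lpe (K40.f241502 IH) (Lpr_dt (K13.f241500 IH) (Lpe (K13.f241487 IH) (Lpr_df (K12.f198372 IH) (Lpr_gf (K12.f101099 IH) (Lpe (K9.f42952 IH) (Lpr_dt (K9.f16527 IH) (Lpe (f16531 IH) (Lpn (LP (LK LD1_c32 LD2_c10 LD3_c8)))))))))))))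
theorem f16532 : Led Lsl_dt (LP (LK LD1_c26 LD2_c30 LD3_c46)) = (LP (LK LD1_c16 LD2_c34 LD3_c25)) :=
  Lre_d IH (LK LD1_c26 LD2_c30 LD3_c46) (LK LD1_c16 LD2_c34 LD3_c25) Lrfl Lrfl
theorem f39229 : Led Lsl_ct (LP (LK LD1_c32 LD2_c7 LD3_c31)) = (LP (LK LD1_c26 LD2_c19 LD3_c21)) :=
  Lre_c IH (LK LD1_c32 LD2_c7 LD3_c31) (LK LD1_c26 LD2_c19 LD3_c21) Lrfl Lrfl
theorem f611841 : Led Lsl_gf (LP (LK LD1_c31 LD2_c43 LD3_c16)) = (LP (LK LD1_c32 LD2_c7 LD3_c31)) :=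
  Lgr Lrot144 (Lpr_dt (f611835 IH) (Lpr_gt (f16531 IH) (Lpr_dt (f16532 IH) (Lpe (K9.f100987 IH) (Lpr_df (K9.f100976 IH) (Lpe (K40.f39838 IH) (Lpe (K40.f100989 IH) (Lpe (K47.f609777 IH) (Lpe (f39229 IH) (Lpn (LP (LK LD1_c32 LD2_c7 LD3_c31))))))))))))
theorem f39228 : Led Lsl_ct (LP (LK LD1_c26 LD2_c19 LD3_c21)) = (LP (LK LD1_c32 LD2_c7 LD3_c31)) :=
  Lre_c IH (LK LD1_c26 LD2_c19 LD3_c21) (LK LD1_c32 LD2_c7 LD3_c31) Lrfl Lrfl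
theorem f39320 : Led Lsl_dt (LP (LK LD1_c7 LD2_c55 LD3_c61)) = (LP (LK LD1_c14 LD2_c57 LD3_c2)) :=
  Lre_d IH (LK LD1_c7 LD2_c55 LD3_c61) (LK LD1_c14 LD2_c57 LD3_c2) Lrfl Lrfl
theorem f39322 : Led Lsl_at (LP (LK LD1_c14 LD2_c57 LD3_c2)) = (LP (LK LD1_c8 LD2_c40 LD3_c31)) :=
  Lgr Lrot51 (Lpe (f39320 IH) (Lpr_af (K1.f39294 IH) (Lpe (K9.f39321 IH) (Lpn (LP (LK LD1_c8 LD2_c40 LD3_c31))))))
theorem f39364 : Led Lsl_ft (LP (LK LD1_c24 LD2_c44 LD3_c37)) = (LP (LK LD1_c14 LD2_c57 LD3_c2)) :=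
  Lre_f IH (LK LD1_c24 LD2_c44 LD3_c37) (LK LD1_c14 LD2_c57 LD3_c2) Lrfl Lrfl
theorem f39348 : Led Lsl_dt (LP (LK LD1_c24 LD2_c44 LD3_c37)) = (LP (LK LD1_c14 LD2_c58 LD3_c2)) :=
  Lre_d IH (LK LD1_c24 LD2_c44 LD3_c37) (LK LD1_c14 LD2_c58 LD3_c2) Lrfl Lrfl
theorem f39846 : Led Lsl_cf (LP (LK LD1_c8 LD2_c45 LD3_c19)) = (LP (LK LD1_c14 LD2_c58 LD3_c2)) :=
  Lgr Lrot118 (Lpr_dt (K9.f16374 IH) (Lpr_ct (K9.f16393 IH) (Lpr_dt (K9.f39826 IH) (Lpr_ct (K9.f39820 IH) (Lpr_dt (K9.f39600 IH) (Lpr_ct (K9.f39389 IH) (Lpe (f39322 IH) (Lpe (f39364 IH) (Lpr_dt (f39348 IH) (Lpn (LP (LK LD1_c14 LD2_c58 LD3_c2))))))))))))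
theorem f39850 : Led Lsl_ct (LP (LK LD1_c8 LD2_c45 LD3_c19)) = (LP (LK LD1_c14 LD2_c58 LD3_c2)) :=
  Lgr Lrot59 (Lpr_cf (f39846 IH) (Lpn (LP (LK LD1_c14 LD2_c58 LD3_c2))))
theorem f39310 : Led Lsl_at (LP (LK LD1_c7 LD2_c55 LD3_c61)) = (LP (LK LD1_c4 LD2_c22 LD3_c13)) :=
  Lgr Lrot100 (Lpr_af (K1.f39294 IH) (Lpn (LP (LK LD1_c4 LD2_c22 LD3_c13))))
theorem f39402 : Led Lsl_ft (LP (LK LD1_c14 LD2_c58 LD3_c2)) = (LP (LK LD1_c7 LD2_c55 LD3_c61)) :=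
  Lre_f IH (LK LD1_c14 LD2_c58 LD3_c2) (LK LD1_c7 LD2_c55 LD3_c61) Lrfl Lrfl
theorem f39829 : Led Lsl_gt (LP (LK LD1_c8 LD2_c42 LD3_c22)) = (LP (LK LD1_c4 LD2_c22 LD3_c13)) :=
  Lre_g IH (LK LD1_c8 LD2_c42 LD3_c22) (LK LD1_c4 LD2_c22 LD3_c13) Lrfl Lrfl
theorem f444739 : Led Lsl_gt (LP (LK LD1_c14 LD2_c58 LD3_c2)) = (LP (LK LD1_c8 LD2_c42 LD3_c22)) :=
  Lgr Lrot5 (Lpr_ft (f39402 IH) (Lpr_at (f39310 IH) (Lpe (f39829 IH) (Lpn (LP (LK LD1_c8 LD2_c42 LD3_c22))))))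
theorem f611845 : Led Lsl_cf (LP (LK LD1_c15 LD2_c7 LD3_c47)) = (LP (LK LD1_c8 LD2_c42 LD3_c22)) :=
  Lgr Lrot99 (Lpe (K43.f30189 IH) (Lpe (f30184 IH) (Lpr_gf (f611841 IH) (Lpe (f39228 IH) (Lpe (K47.f39219 IH) (Lpe (K47.f39214 IH) (Lpe (K37.f407847 IH) (Lpr_ct (f39850 IH) (Lpr_gt (f444739 IH) (Lpn (LP (LK LD1_c8 LD2_c42 LD3_c22))))))))))))
theorem f237661 : Led Lsl_et (LP (LK LD1_c15 LD2_c7 LD3_c47)) = (LP (LK LD1_c24 LD2_c56 LD3_c41)) :=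
  Lre_e IH (LK LD1_c15 LD2_c7 LD3_c47) (LK LD1_c24 LD2_c56 LD3_c41) Lrfl Lrfl
theorem f444743 : Led Lsl_et (LP (LK LD1_c16 LD2_c18 LD3_c42)) = (LP (LK LD1_c8 LD2_c42 LD3_c22)) :=
  Lre_e IH (LK LD1_c16 LD2_c18 LD3_c42) (LK LD1_c8 LD2_c42 LD3_c22) Lrfl Lrfl
theorem f611851 : Led Lsl_ct (LP (LK LD1_c24 LD2_c56 LD3_c41)) = (LP (LK LD1_c16 LD2_c18 LD3_c42)) :=
  Lgr Lrot15 (Lpe (f237661 IH) (Lpr_cf (f611845 IH) (Lpe (f444743 IH) (Lpn (LP (LK LD1_c16 LD2_c18 LD3_c42))))))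
theorem f610933 : Led Lsl_ct (LP (LK LD1_c22 LD2_c45 LD3_c20)) = (LP (LK LD1_c26 LD2_c19 LD3_c8)) :=
  Lgr Lrot59 (Lpr_cf (K47.f610726 IH) (Lpn (LP (LK LD1_c26 LD2_c19 LD3_c8))))
theorem f471164 : Led Lsl_ct (LP (LK LD1_c24 LD2_c32 LD3_c38)) = (LP (LK LD1_c23 LD2_c22 LD3_c46)) :=
  Lgr Lrot59 (Lpr_cf (K47.f471162 IH) (Lpn (LP (LK LD1_c23 LD2_c22 LD3_c46))))
theorem f576774 : Led Lsl_cf (LP (LK LD1_c13 LD2_c55 LD3_c25)) = (LP (LK LD1_c16 LD2_c21 LD3_c11)) :=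
  Lgr Lrot39 (Lpr_et (K39.f469296 IH) (Lpe (K43.f576643 IH) (Lpr_et (K55.f576769 IH) (Lpn (LP (LK LD1_c16 LD2_c21 LD3_c11))))))
theorem f610949 : Led Lsl_gt (LP (LK LD1_c26 LD2_c19 LD3_c8)) = (LP (LK LD1_c16 LD2_c21 LD3_c11)) :=
  Lgr Lrot150 (Lpe (f610933 IH) (Lpe (K47.f521415 IH) (Lpr_df (K47.f610943 IH) (Lpr_gt (K47.f489527 IH) (Lpr_ct (K47.f465045 IH) (Lpe (K47.f471169 IH) (Lpr_ct (f471164 IH) (Lpe (K39.f554214 IH) (Lpr_cf (f576774 IH) (Lpn (LP (LK LD1_c16 LD2_c21 LD3_c11))))))))))))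
theorem f237632 : Led Lsl_et (LP (LK LD1_c2 LD2_c8 LD3_c59)) = (LP (LK LD1_c4 LD2_c23 LD3_c5)) :=
  Lre_e IH (LK LD1_c2 LD2_c8 LD3_c59) (LK LD1_c4 LD2_c23 LD3_c5) Lrfl Lrfl
theorem f30190 : Led Lsl_et (LP (LK LD1_c24 LD2_c56 LD3_c41)) = (LP (LK LD1_c15 LD2_c7 LD3_c47)) :=
  Lre_e IH (LK LD1_c24 LD2_c56 LD3_c41) (LK LD1_c15 LD2_c7 LD3_c47) Lrfl Lrfl
theorem f237636 : Led Lsl_df (LP (LK LD1_c26 LD2_c19 LD3_c8)) = (LP (LK LD1_c24 LD2_c56 LD3_c41)) :=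
  Lgr Lrot132 (Lpe (K47.f237635 IH) (Lpe (K47.f237634 IH) (Lpe (K39.f237633 IH) (Lpe (f237632 IH) (Lpr_dt (K13.f229866 IH) (Lpr_gf (K14.f237623 IH) (Lpe (K12.f29355 IH) (Lpr_et (K37.f30198 IH) (Lpe (K43.f30180 IH) (Lpe (f30190 IH) (Lpn (LP (LK LD1_c24 LD2_c56 LD3_c41)))))))))))))
theorem f30630 : Led Lsl_dt (LP (LK LD1_c8 LD2_c2 LD3_c35)) = (LP (LK LD1_c4 LD2_c0 LD3_c55)) :=
  Lre_d IH (LK LD1_c8 LD2_c2 LD3_c35) (LK LD1_c4 LD2_c0 LD3_c55) Lrfl Lrfl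
theorem f30631 : Led Lsl_gt (LP (LK LD1_c15 LD2_c8 LD3_c34)) = (LP (LK LD1_c8 LD2_c2 LD3_c35)) :=
  Lre_g IH (LK LD1_c15 LD2_c8 LD3_c34) (LK LD1_c8 LD2_c2 LD3_c35) Lrfl Lrfl
theorem f237686 : Led Lsl_dt (LP (LK LD1_c8 LD2_c43 LD3_c58)) = (LP (LK LD1_c16 LD2_c21 LD3_c11)) :=
  Lre_d IH (LK LD1_c8 LD2_c43 LD3_c58) (LK LD1_c16 LD2_c21 LD3_c11) Lrfl Lrfl
theorem f610957 : Led Lsl_ef (LP (LK LD1_c15 LD2_c8 LD3_c34)) = (LP (LK LD1_c8 LD2_c43 LD3_c58)) :=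
  Lgr Lrot167 (Lpr_gt (f30631 IH) (Lpr_dt (f30630 IH) (Lpe (K37.f30628 IH) (Lpe (K1.f30069 IH) (Lpr_et (K1.f30090 IH) (Lpr_gt (K43.f30181 IH) (Lpe (f30190 IH) (Lpe (f237636 IH) (Lpr_gt (f610949 IH) (Lpe (f237686 IH) (Lpn (LP (LK LD1_c8 LD2_c43 LD3_c58)))))))))))))
theorem f37412 : Led Lsl_et (LP (LK LD1_c15 LD2_c8 LD3_c36)) = (LP (LK LD1_c8 LD2_c2 LD3_c35)) :=
  Lre_e IH (LK LD1_c15 LD2_c8 LD3_c36) (LK LD1_c8 LD2_c2 LD3_c35) Lrfl Lrfl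
theorem f37405 : Led Lsl_et (LP (LK LD1_c4 LD2_c0 LD3_c55)) = (LP (LK LD1_c8 LD2_c2 LD3_c36)) :=
  Lre_e IH (LK LD1_c4 LD2_c0 LD3_c55) (LK LD1_c8 LD2_c2 LD3_c36) Lrfl Lrfl
theorem f81518 : Led Lsl_et (LP (LK LD1_c8 LD2_c3 LD3_c53)) = (LP (LK LD1_c15 LD2_c10 LD3_c58)) :=
  Lre_e IH (LK LD1_c8 LD2_c3 LD3_c53) (LK LD1_c15 LD2_c10 LD3_c58) Lrfl Lrfl
theorem f81519 : Led Lsl_df (LP (LK LD1_c15 LD2_c8 LD3_c36)) = (LP (LK LD1_c15 LD2_c10 LD3_c58)) :=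
  Lgr Lrot70 (Lpr_et (f37412 IH) (Lpr_dt (f30630 IH) (Lpr_et (f37405 IH) (Lpr_dt (K37.f81510 IH) (Lpr_et (f81518 IH) (Lpn (LP (LK LD1_c15 LD2_c10 LD3_c58))))))))
theorem f81530 : Led Lsl_dt (LP (LK LD1_c15 LD2_c8 LD3_c36)) = (LP (LK LD1_c15 LD2_c10 LD3_c58)) :=
  Lgr Lrot42 (Lpr_df (f81519 IH) (Lpn (LP (LK LD1_c15 LD2_c10 LD3_c58))))
theorem f298082 : Led Lsl_dt (LP (LK LD1_c16 LD2_c18 LD3_c36)) = (LP (LK LD1_c26 LD2_c16 LD3_c24)) :=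
  Lre_d IH (LK LD1_c16 LD2_c18 LD3_c36) (LK LD1_c26 LD2_c16 LD3_c24) Lrfl Lrfl
theorem f298083 : Led Lsl_ct (LP (LK LD1_c26 LD2_c16 LD3_c24)) = (LP (LK LD1_c32 LD2_c6 LD3_c48)) :=
  Lre_c IH (LK LD1_c26 LD2_c16 LD3_c24) (LK LD1_c32 LD2_c6 LD3_c48) Lrfl Lrfl
theorem f297193 : Led Lsl_dt (LP (LK LD1_c16 LD2_c19 LD3_c52)) = (LP (LK LD1_c8 LD2_c43 LD3_c4)) :=
  Lre_d IH (LK LD1_c16 LD2_c19 LD3_c52) (LK LD1_c8 LD2_c43 LD3_c4) Lrfl Lrfl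
theorem f297308 : Led Lsl_ct (LP (LK LD1_c26 LD2_c17 LD3_c57)) = (LP (LK LD1_c16 LD2_c19 LD3_c52)) :=
  Lre_c IH (LK LD1_c26 LD2_c17 LD3_c57) (LK LD1_c16 LD2_c19 LD3_c52) Lrfl Lrfl
theorem f297307 : Led Lsl_dt (LP (LK LD1_c32 LD2_c7 LD3_c13)) = (LP (LK LD1_c26 LD2_c17 LD3_c57)) :=
  Lre_d IH (LK LD1_c32 LD2_c7 LD3_c13) (LK LD1_c26 LD2_c17 LD3_c57) Lrfl Lrfl
theorem f297282 : Led Lsl_cf (LP (LK LD1_c32 LD2_c7 LD3_c13)) = (LP (LK LD1_c32 LD2_c27 LD3_c30)) :=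
  Lgr Lrot11 (Lpr_ct (K18.f297280 IH) (Lpn (LP (LK LD1_c32 LD2_c27 LD3_c30))))
theorem f236787 : Led Lsl_dt (LP (LK LD1_c27 LD2_c39 LD3_c41)) = (LP (LK LD1_c32 LD2_c27 LD3_c30)) :=
  Lre_d IH (LK LD1_c27 LD2_c39 LD3_c41) (LK LD1_c32 LD2_c27 LD3_c30) Lrfl Lrfl
theorem f298088 : Led Lsl_ft (LP (LK LD1_c27 LD2_c39 LD3_c41)) = (LP (LK LD1_c32 LD2_c27 LD3_c31)) :=
  Lre_f IH (LK LD1_c27 LD2_c39 LD3_c41) (LK LD1_c32 LD2_c27 LD3_c31) Lrfl Lrfl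
theorem f298089 : Led Lsl_af (LP (LK LD1_c32 LD2_c6 LD3_c48)) = (LP (LK LD1_c32 LD2_c27 LD3_c31)) :=
  Lgr Lrot109 (Lpe (f298083 IH) (Lpe (f298082 IH) (Lpr_cf (K19.f298067 IH) (Lpe (f297193 IH) (Lpe (f297308 IH) (Lpe (f297307 IH) (Lpr_cf (f297282 IH) (Lpe (f236787 IH) (Lpr_ft (f298088 IH) (Lpn (LP (LK LD1_c32 LD2_c27 LD3_c31))))))))))))
theorem f298093 : Led Lsl_at (LP (LK LD1_c32 LD2_c6 LD3_c48)) = (LP (LK LD1_c32 LD2_c27 LD3_c31)) :=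
  Lgr Lrot100 (Lpr_af (f298089 IH) (Lpn (LP (LK LD1_c32 LD2_c27 LD3_c31))))
theorem f298098 : Led Lsl_ft (LP (LK LD1_c26 LD2_c16 LD3_c23)) = (LP (LK LD1_c32 LD2_c6 LD3_c48)) :=
  Lre_f IH (LK LD1_c26 LD2_c16 LD3_c23) (LK LD1_c32 LD2_c6 LD3_c48) Lrfl Lrfl
theorem f298099 : Led Lsl_ft (LP (LK LD1_c32 LD2_c27 LD3_c31)) = (LP (LK LD1_c27 LD2_c39 LD3_c41)) :=
  Lre_f IH (LK LD1_c32 LD2_c27 LD3_c31) (LK LD1_c27 LD2_c39 LD3_c41) Lrfl Lrfl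
theorem f298100 : Led Lsl_af (LP (LK LD1_c26 LD2_c16 LD3_c23)) = (LP (LK LD1_c27 LD2_c39 LD3_c41)) :=
  Lgr Lrot45 (Lpr_ft (f298098 IH) (Lpr_at (f298093 IH) (Lpr_ft (f298099 IH) (Lpn (LP (LK LD1_c27 LD2_c39 LD3_c41))))))
theorem f298035 : Led Lsl_ct (LP (LK LD1_c16 LD2_c18 LD3_c35)) = (LP (LK LD1_c26 LD2_c16 LD3_c23)) :=
  Lre_c IH (LK LD1_c16 LD2_c18 LD3_c35) (LK LD1_c26 LD2_c16 LD3_c23) Lrfl Lrfl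
theorem f225156 : Led Lsl_et (LP (LK LD1_c2 LD2_c8 LD3_c43)) = (LP (LK LD1_c4 LD2_c22 LD3_c34)) :=
  Lre_e IH (LK LD1_c2 LD2_c8 LD3_c43) (LK LD1_c4 LD2_c22 LD3_c34) Lrfl Lrfl
theorem f237465 : Led Lsl_ct (LP (LK LD1_c4 LD2_c22 LD3_c34)) = (LP (LK LD1_c8 LD2_c42 LD3_c20)) :=
  Lgr Lrot15 (Lpe (f225156 IH) (Lpr_cf (K13.f237409 IH) (Lpe (K19.f39308 IH) (Lpn (LP (LK LD1_c8 LD2_c42 LD3_c20))))))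
theorem f237649 : Led Lsl_dt (LP (LK LD1_c8 LD2_c43 LD3_c3)) = (LP (LK LD1_c4 LD2_c22 LD3_c34)) :=
  Lre_d IH (LK LD1_c8 LD2_c43 LD3_c3) (LK LD1_c4 LD2_c22 LD3_c34) Lrfl Lrfl
theorem f272925 : Led Lsl_ct (LP (LK LD1_c16 LD2_c19 LD3_c51)) = (LP (LK LD1_c8 LD2_c43 LD3_c3)) :=
  Lre_c IH (LK LD1_c16 LD2_c19 LD3_c51) (LK LD1_c8 LD2_c43 LD3_c3) Lrfl Lrfl
theorem f272600 : Led Lsl_dt (LP (LK LD1_c26 LD2_c17 LD3_c56)) = (LP (LK LD1_c16 LD2_c19 LD3_c51)) :=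
  Lre_d IH (LK LD1_c26 LD2_c17 LD3_c56) (LK LD1_c16 LD2_c19 LD3_c51) Lrfl Lrfl
theorem f272596 : Led Lsl_ct (LP (LK LD1_c32 LD2_c7 LD3_c12)) = (LP (LK LD1_c26 LD2_c17 LD3_c56)) :=
  Lre_c IH (LK LD1_c32 LD2_c7 LD3_c12) (LK LD1_c26 LD2_c17 LD3_c56) Lrfl Lrfl
theorem f298109 : Led Lsl_df (LP (LK LD1_c32 LD2_c7 LD3_c12)) = (LP (LK LD1_c32 LD2_c27 LD3_c31)) :=
  Lgr Lrot157 (Lpr_ct (f272596 IH) (Lpr_dt (f272600 IH) (Lpr_ct (f272925 IH) (Lpr_dt (f237649 IH) (Lpr_ct (f237465 IH) (Lpr_dt (K19.f39309 IH) (Lpr_ct (f298035 IH) (Lpr_af (f298100 IH) (Lpe (f298099 IH) (Lpn (LP (LK LD1_c32 LD2_c27 LD3_c31))))))))))))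
theorem f298111 : Led Lsl_ft (LP (LK LD1_c32 LD2_c7 LD3_c12)) = (LP (LK LD1_c32 LD2_c27 LD3_c30)) :=
  Lgr Lrot54 (Lpr_df (f298109 IH) (Lpe (f298088 IH) (Lpe (K18.f236826 IH) (Lpn (LP (LK LD1_c32 LD2_c27 LD3_c30))))))
theorem f236810 : Led Lsl_ct (LP (LK LD1_c32 LD2_c27 LD3_c31)) = (LP (LK LD1_c27 LD2_c39 LD3_c42)) :=
  Lre_c IH (LK LD1_c32 LD2_c27 LD3_c31) (LK LD1_c27 LD2_c39 LD3_c42) Lrfl Lrfl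
theorem f237655 : Led Lsl_ct (LP (LK LD1_c8 LD2_c43 LD3_c3)) = (LP (LK LD1_c16 LD2_c19 LD3_c51)) :=
  Lre_c IH (LK LD1_c8 LD2_c43 LD3_c3) (LK LD1_c16 LD2_c19 LD3_c51) Lrfl Lrfl
theorem f242185 : Led Lsl_dt (LP (LK LD1_c16 LD2_c19 LD3_c51)) = (LP (LK LD1_c26 LD2_c17 LD3_c56)) :=
  Lre_d IH (LK LD1_c16 LD2_c19 LD3_c51) (LK LD1_c26 LD2_c17 LD3_c56) Lrfl Lrfl
theorem f272601 : Led Lsl_ct (LP (LK LD1_c26 LD2_c17 LD3_c56)) = (LP (LK LD1_c32 LD2_c7 LD3_c12)) :=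
  Lre_c IH (LK LD1_c26 LD2_c17 LD3_c56) (LK LD1_c32 LD2_c7 LD3_c12) Lrfl Lrfl
theorem f298063 : Led Lsl_df (LP (LK LD1_c32 LD2_c27 LD3_c31)) = (LP (LK LD1_c32 LD2_c7 LD3_c12)) :=
  Lgr Lrot43 (Lpr_ct (f236810 IH) (Lpr_dt (K19.f236809 IH) (Lpe (K18.f236790 IH) (Lpr_dt (K19.f236806 IH) (Lpr_ct (K19.f236807 IH) (Lpr_dt (K19.f236808 IH) (Lpe (K19.f298047 IH) (Lpr_dt (K19.f298046 IH) (Lpr_ct (K19.f298045 IH) (Lpr_dt (K19.f237652 IH) (Lpr_ct (K19.f298051 IH) (Lpr_dt (K40.f229295 IH) (Lpr_ct (f237655 IH) (Lpr_dt (f242185 IH) (Lpr_ct (f272601 IH) (Lpn (LP (LK LD1_c32 LD2_c7 LD3_c12))))))))))))))))))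
theorem f298113 : Led Lsl_af (LP (LK LD1_c32 LD2_c6 LD3_c47)) = (LP (LK LD1_c32 LD2_c27 LD3_c30)) :=
  Lgr Lrot109 (Lpr_cf (K19.f298047 IH) (Lpe (K19.f236808 IH) (Lpe (K19.f236807 IH) (Lpe (K19.f236806 IH) (Lpr_cf (K18.f236790 IH) (Lpe (K19.f236809 IH) (Lpe (f236810 IH) (Lpr_df (f298063 IH) (Lpr_ft (f298111 IH) (Lpn (LP (LK LD1_c32 LD2_c27 LD3_c30))))))))))))
theorem f298049 : Led Lsl_ct (LP (LK LD1_c32 LD2_c6 LD3_c47)) = (LP (LK LD1_c32 LD2_c57 LD3_c36)) :=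
  Lgr Lrot59 (Lpr_cf (K19.f298047 IH) (Lpn (LP (LK LD1_c32 LD2_c57 LD3_c36))))
theorem f298115 : Led Lsl_at (LP (LK LD1_c32 LD2_c57 LD3_c36)) = (LP (LK LD1_c32 LD2_c7 LD3_c13)) :=
  Lgr Lrot107 (Lpe (f298049 IH) (Lpr_af (f298113 IH) (Lpe (K18.f297280 IH) (Lpn (LP (LK LD1_c32 LD2_c7 LD3_c13))))))
theorem f298119 : Led Lsl_af (LP (LK LD1_c31 LD2_c38 LD3_c42)) = (LP (LK LD1_c26 LD2_c17 LD3_c57)) :=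
  Lgr Lrot117 (Lpr_dt (K19.f236808 IH) (Lpr_at (f298115 IH) (Lpr_dt (f297307 IH) (Lpn (LP (LK LD1_c26 LD2_c17 LD3_c57))))))
theorem f236813 : Led Lsl_ct (LP (LK LD1_c31 LD2_c38 LD3_c42)) = (LP (LK LD1_c24 LD2_c45 LD3_c57)) :=
  Lre_c IH (LK LD1_c31 LD2_c38 LD3_c42) (LK LD1_c24 LD2_c45 LD3_c57) Lrfl Lrfl
theorem f298123 : Led Lsl_at (LP (LK LD1_c24 LD2_c45 LD3_c57)) = (LP (LK LD1_c16 LD2_c19 LD3_c52)) :=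
  Lgr Lrot107 (Lpe (f236813 IH) (Lpr_af (f298119 IH) (Lpe (K18.f297284 IH) (Lpn (LP (LK LD1_c16 LD2_c19 LD3_c52))))))
theorem f236792 : Led Lsl_ft (LP (LK LD1_c14 LD2_c58 LD3_c26)) = (LP (LK LD1_c24 LD2_c45 LD3_c57)) :=
  Lre_f IH (LK LD1_c14 LD2_c58 LD3_c26) (LK LD1_c24 LD2_c45 LD3_c57) Lrfl Lrfl
theorem f298129 : Led Lsl_gt (LP (LK LD1_c17 LD2_c57 LD3_c5)) = (LP (LK LD1_c16 LD2_c19 LD3_c52)) :=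
  Lgr Lrot46 (Lpe (K40.f272848 IH) (Lpr_ft (f236792 IH) (Lpr_at (f298123 IH) (Lpn (LP (LK LD1_c16 LD2_c19 LD3_c52))))))
theorem f37614 : Led Lsl_ft (LP (LK LD1_c4 LD2_c58 LD3_c2)) = (LP (LK LD1_c9 LD2_c47 LD3_c2)) :=
  Lre_f IH (LK LD1_c4 LD2_c58 LD3_c2) (LK LD1_c9 LD2_c47 LD3_c2) Lrfl Lrfl
theorem f37616 : Led Lsl_gt (LP (LK LD1_c9 LD2_c46 LD3_c61)) = (LP (LK LD1_c8 LD2_c47 LD3_c25)) :=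
  Lgr Lrot46 (Lpe (K47.f37408 IH) (Lpr_ft (f37614 IH) (Lpr_at (K1.f37603 IH) (Lpn (LP (LK LD1_c8 LD2_c47 LD3_c25))))))
theorem f272568 : Led Lsl_et (LP (LK LD1_c8 LD2_c43 LD3_c3)) = (LP (LK LD1_c4 LD2_c22 LD3_c37)) :=
  Lre_e IH (LK LD1_c8 LD2_c43 LD3_c3) (LK LD1_c4 LD2_c22 LD3_c37) Lrfl Lrfl
theorem f297239 : Led Lsl_ft (LP (LK LD1_c16 LD2_c19 LD3_c52)) = (LP (LK LD1_c8 LD2_c43 LD3_c3)) :=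
  Lre_f IH (LK LD1_c16 LD2_c19 LD3_c52) (LK LD1_c8 LD2_c43 LD3_c3) Lrfl Lrfl
theorem f193849 : Led Lsl_ft (LP (LK LD1_c15 LD2_c13 LD3_c10)) = (LP (LK LD1_c25 LD2_c2 LD3_c10)) :=
  Lre_f IH (LK LD1_c15 LD2_c13 LD3_c10) (LK LD1_c25 LD2_c2 LD3_c10) Lrfl Lrfl
theorem f297240 : Led Lsl_ef (LP (LK LD1_c16 LD2_c19 LD3_c52)) = (LP (LK LD1_c25 LD2_c2 LD3_c10)) :=
  Lgr Lrot21 (Lpr_ft (f297239 IH) (Lpr_et (f272568 IH) (Lpr_ft (K18.f297233 IH) (Lpr_et (K18.f193887 IH) (Lpr_ft (f193849 IH) (Lpn (LP (LK LD1_c25 LD2_c2 LD3_c10))))))))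
theorem f298134 : Led Lsl_gf (LP (LK LD1_c15 LD2_c10 LD3_c29)) = (LP (LK LD1_c15 LD2_c13 LD3_c11)) :=
  Lgr Lrot145 (Lpe (K47.f272645 IH) (Lpr_et (K47.f37625 IH) (Lpr_gt (f37616 IH) (Lpr_dt (K1.f36037 IH) (Lpr_gt (K41.f101825 IH) (Lpe (K40.f37399 IH) (Lpr_et (K40.f37414 IH) (Lpr_gt (f298129 IH) (Lpr_ef (f297240 IH) (Lpr_dt (K18.f193865 IH) (Lpn (LP (LK LD1_c15 LD2_c13 LD3_c11)))))))))))))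
theorem f297162 : Led Lsl_at (LP (LK LD1_c8 LD2_c43 LD3_c33)) = (LP (LK LD1_c9 LD2_c45 LD3_c3)) :=
  Lgr Lrot100 (Lpr_af (K18.f297156 IH) (Lpn (LP (LK LD1_c9 LD2_c45 LD3_c3))))
theorem f225048 : Led Lsl_gt (LP (LK LD1_c4 LD2_c22 LD3_c50)) = (LP (LK LD1_c8 LD2_c43 LD3_c31)) :=
  Lre_g IH (LK LD1_c4 LD2_c22 LD3_c50) (LK LD1_c8 LD2_c43 LD3_c31) Lrfl Lrfl
theorem f407022 : Led Lsl_gt (LP (LK LD1_c8 LD2_c43 LD3_c31)) = (LP (LK LD1_c9 LD2_c45 LD3_c3)) :=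
  Lgr Lrot46 (Lpe (f225048 IH) (Lpr_ft (K18.f225043 IH) (Lpr_at (f297162 IH) (Lpn (LP (LK LD1_c9 LD2_c45 LD3_c3))))))
theorem f225072 : Led Lsl_dt (LP (LK LD1_c16 LD2_c20 LD3_c28)) = (LP (LK LD1_c8 LD2_c43 LD3_c31)) :=
  Lre_d IH (LK LD1_c16 LD2_c20 LD3_c28) (LK LD1_c8 LD2_c43 LD3_c31) Lrfl Lrfl
theorem f81516 : Led Lsl_df (LP (LK LD1_c8 LD2_c2 LD3_c36)) = (LP (LK LD1_c8 LD2_c3 LD3_c53)) :=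
  Lgr Lrot38 (Lpr_dt (K37.f81510 IH) (Lpn (LP (LK LD1_c8 LD2_c3 LD3_c53))))
theorem f608021 : Led Lsl_gf (LP (LK LD1_c16 LD2_c20 LD3_c28)) = (LP (LK LD1_c15 LD2_c10 LD3_c58)) :=
  Lgr Lrot138 (Lpr_dt (f225072 IH) (Lpr_gt (f407022 IH) (Lpe (K18.f197282 IH) (Lpr_et (K18.f287336 IH) (Lpe (f298134 IH) (Lpe (K47.f608019 IH) (Lpr_dt (K47.f608017 IH) (Lpr_gt (K47.f37406 IH) (Lpr_df (f81516 IH) (Lpr_et (f81518 IH) (Lpn (LP (LK LD1_c15 LD2_c10 LD3_c58)))))))))))))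
theorem f225133 : Led Lsl_dt (LP (LK LD1_c8 LD2_c43 LD3_c31)) = (LP (LK LD1_c16 LD2_c20 LD3_c28)) :=
  Lre_d IH (LK LD1_c8 LD2_c43 LD3_c31) (LK LD1_c16 LD2_c20 LD3_c28) Lrfl Lrfl
theorem f608023 : Led Lsl_et (LP (LK LD1_c8 LD2_c43 LD3_c31)) = (LP (LK LD1_c16 LD2_c20 LD3_c29)) :=
  Lre_e IH (LK LD1_c8 LD2_c43 LD3_c31) (LK LD1_c16 LD2_c20 LD3_c29) Lrfl Lrfl
theorem f610963 : Led Lsl_gt (LP (LK LD1_c16 LD2_c20 LD3_c29)) = (LP (LK LD1_c24 LD2_c56 LD3_c41)) :=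
  Lgr Lrot137 (Lpe (f608023 IH) (Lpr_dt (f225133 IH) (Lpr_gf (f608021 IH) (Lpe (f81530 IH) (Lpr_et (f37412 IH) (Lpe (f30631 IH) (Lpr_ef (f610957 IH) (Lpr_dt (f237686 IH) (Lpe (f610949 IH) (Lpr_df (f237636 IH) (Lpn (LP (LK LD1_c24 LD2_c56 LD3_c41)))))))))))))
theorem f609238 : Led Lsl_at (LP (LK LD1_c23 LD2_c6 LD3_c9)) = (LP (LK LD1_c24 LD2_c56 LD3_c41)) :=
  Lgr Lrot80 (Lpr_ef (K47.f609236 IH) (Lpr_af (K47.f609202 IH) (Lpe (f30190 IH) (Lpn (LP (LK LD1_c24 LD2_c56 LD3_c41))))))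
theorem f566337 : Led Lsl_df (LP (LK LD1_c22 LD2_c47 LD3_c13)) = (LP (LK LD1_c23 LD2_c6 LD3_c29)) :=
  Lgr Lrot38 (Lpr_dt (K47.f566331 IH) (Lpn (LP (LK LD1_c23 LD2_c6 LD3_c29))))
theorem f237659 : Led Lsl_dt (LP (LK LD1_c26 LD2_c19 LD3_c8)) = (LP (LK LD1_c24 LD2_c56 LD3_c41)) :=
  Lgr Lrot42 (Lpr_df (f237636 IH) (Lpn (LP (LK LD1_c24 LD2_c56 LD3_c41))))
theorem f610728 : Led Lsl_bf (LP (LK LD1_c23 LD2_c6 LD3_c29)) = (LP (LK LD1_c24 LD2_c56 LD3_c41)) :=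
  Lgr Lrot93 (Lpe (f566337 IH) (Lpr_bt (K47.f610722 IH) (Lpr_dt (f237659 IH) (Lpn (LP (LK LD1_c24 LD2_c56 LD3_c41))))))
theorem f530958 : Led Lsl_at (LP (LK LD1_c23 LD2_c6 LD3_c29)) = (LP (LK LD1_c14 LD2_c43 LD3_c2)) :=
  Lgr Lrot66 (Lpr_ff (K47.f530956 IH) (Lpe (K47.f530927 IH) (Lpe (K47.f520975 IH) (Lpn (LP (LK LD1_c14 LD2_c43 LD3_c2))))))
theorem f464872 : Led Lsl_bt (LP (LK LD1_c14 LD2_c43 LD3_c2)) = (LP (LK LD1_c7 LD2_c47 LD3_c61)) :=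
  Lre_b IH (LK LD1_c14 LD2_c43 LD3_c2) (LK LD1_c7 LD2_c47 LD3_c61) Lrfl Lrfl
theorem f610730 : Led Lsl_bt (LP (LK LD1_c13 LD2_c40 LD3_c46)) = (LP (LK LD1_c23 LD2_c6 LD3_c9)) :=
  Lgr Lrot62 (Lpe (K47.f520965 IH) (Lpe (f464872 IH) (Lpe (f530958 IH) (Lpr_bf (f610728 IH) (Lpe (f609238 IH) (Lpn (LP (LK LD1_c23 LD2_c6 LD3_c9))))))))
theorem f520967 : Led Lsl_af (LP (LK LD1_c7 LD2_c47 LD3_c61)) = (LP (LK LD1_c13 LD2_c40 LD3_c46)) :=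
  Lgr Lrot0 (Lpr_at (K47.f520965 IH) (Lpn (LP (LK LD1_c13 LD2_c40 LD3_c46))))
theorem f521001 : Led Lsl_ft (LP (LK LD1_c7 LD2_c48 LD3_c0)) = (LP (LK LD1_c13 LD2_c40 LD3_c46)) :=
  Lgr Lrot101 (Lpr_af (f520993 IH) (Lpe (K47.f520982 IH) (Lpr_af (f520967 IH) (Lpn (LP (LK LD1_c13 LD2_c40 LD3_c46))))))
theorem f610845 : Led Lsl_ff (LP (LK LD1_c14 LD2_c43 LD3_c4)) = (LP (LK LD1_c23 LD2_c6 LD3_c9)) :=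
  Lgr Lrot25 (Lpr_bt (f475238 IH) (Lpr_ft (f521001 IH) (Lpr_bt (f610730 IH) (Lpn (LP (LK LD1_c23 LD2_c6 LD3_c9))))))
theorem f610862 : Led Lsl_ft (LP (LK LD1_c14 LD2_c43 LD3_c4)) = (LP (LK LD1_c23 LD2_c6 LD3_c9)) :=
  Lgr Lrot48 (Lpr_ff (f610845 IH) (Lpn (LP (LK LD1_c23 LD2_c6 LD3_c9))))
theorem f610965 : Led Lsl_gf (LP (LK LD1_c16 LD2_c20 LD3_c29)) = (LP (LK LD1_c14 LD2_c43 LD3_c4)) :=
  Lgr Lrot47 (Lpr_gt (f610963 IH) (Lpe (f609238 IH) (Lpe (f610862 IH) (Lpn (LP (LK LD1_c14 LD2_c43 LD3_c4))))))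
theorem f610870 : Led Lsl_et (LP (LK LD1_c24 LD2_c28 LD3_c27)) = (LP (LK LD1_c14 LD2_c43 LD3_c4)) :=
  Lre_e IH (LK LD1_c24 LD2_c28 LD3_c27) (LK LD1_c14 LD2_c43 LD3_c4) Lrfl Lrfl
theorem f160504 : Led Lsl_gt (LP (LK LD1_c13 LD2_c40 LD3_c37)) = (LP (LK LD1_c23 LD2_c6 LD3_c8)) :=
  Lre_g IH (LK LD1_c13 LD2_c40 LD3_c37) (LK LD1_c23 LD2_c6 LD3_c8) Lrfl Lrfl
theorem f610864 : Led Lsl_at (LP (LK LD1_c14 LD2_c43 LD3_c4)) = (LP (LK LD1_c23 LD2_c6 LD3_c8)) :=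
  Lgr Lrot26 (Lpr_ff (f610845 IH) (Lpr_gt (K47.f470595 IH) (Lpr_gt (f160504 IH) (Lpn (LP (LK LD1_c23 LD2_c6 LD3_c8))))))
theorem f609244 : Led Lsl_af (LP (LK LD1_c23 LD2_c6 LD3_c9)) = (LP (LK LD1_c24 LD2_c56 LD3_c41)) :=
  Lgr Lrot50 (Lpr_et (K47.f609242 IH) (Lpr_at (K47.f609200 IH) (Lpr_et (f237661 IH) (Lpn (LP (LK LD1_c24 LD2_c56 LD3_c41))))))
theorem f610871 : Led Lsl_ff (LP (LK LD1_c24 LD2_c56 LD3_c41)) = (LP (LK LD1_c23 LD2_c6 LD3_c8)) :=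
  Lgr Lrot30 (Lpe (f609244 IH) (Lpe (f610845 IH) (Lpr_at (f610864 IH) (Lpn (LP (LK LD1_c23 LD2_c6 LD3_c8))))))
theorem f610877 : Led Lsl_gf (LP (LK LD1_c13 LD2_c40 LD3_c41)) = (LP (LK LD1_c23 LD2_c6 LD3_c8)) :=
  Lgr Lrot47 (Lpe (K47.f610660 IH) (Lpr_af (f609244 IH) (Lpr_ff (f610871 IH) (Lpn (LP (LK LD1_c23 LD2_c6 LD3_c8))))))
theorem f160514 : Led Lsl_dt (LP (LK LD1_c13 LD2_c40 LD3_c41)) = (LP (LK LD1_c7 LD2_c13 LD3_c34)) :=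
  Lre_d IH (LK LD1_c13 LD2_c40 LD3_c41) (LK LD1_c7 LD2_c13 LD3_c34) Lrfl Lrfl
theorem f240673 : Led Lsl_gt (LP (LK LD1_c8 LD2_c39 LD3_c3)) = (LP (LK LD1_c16 LD2_c12 LD3_c9)) :=
  Lre_g IH (LK LD1_c8 LD2_c39 LD3_c3) (LK LD1_c16 LD2_c12 LD3_c9) Lrfl Lrfl
theorem f346877 : Led Lsl_dt (LP (LK LD1_c26 LD2_c8 LD3_c59)) = (LP (LK LD1_c16 LD2_c12 LD3_c9)) :=
  Lre_d IH (LK LD1_c26 LD2_c8 LD3_c59) (LK LD1_c16 LD2_c12 LD3_c9) Lrfl Lrfl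
theorem f610879 : Led Lsl_et (LP (LK LD1_c26 LD2_c8 LD3_c59)) = (LP (LK LD1_c23 LD2_c6 LD3_c8)) :=
  Lgr Lrot121 (Lpr_dt (f346877 IH) (Lpe (f240673 IH) (Lpr_df (K37.f346880 IH) (Lpr_et (K23.f239104 IH) (Lpe (K13.f239097 IH) (Lpe (K13.f237620 IH) (Lpe (K39.f552905 IH) (Lpe (K39.f160509 IH) (Lpe (f160514 IH) (Lpr_gf (f610877 IH) (Lpn (LP (LK LD1_c23 LD2_c6 LD3_c8)))))))))))))
theorem f196315 : Led Lsl_et (LP (LK LD1_c15 LD2_c6 LD3_c4)) = (LP (LK LD1_c24 LD2_c54 LD3_c9)) :=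
  Lre_e IH (LK LD1_c15 LD2_c6 LD3_c4) (LK LD1_c24 LD2_c54 LD3_c9) Lrfl Lrfl
theorem f610885 : Led Lsl_ff (LP (LK LD1_c26 LD2_c8 LD3_c59)) = (LP (LK LD1_c24 LD2_c54 LD3_c9)) :=
  Lgr Lrot72 (Lpr_et (f610879 IH) (Lpe (f610871 IH) (Lpr_et (f30190 IH) (Lpe (K47.f609226 IH) (Lpr_et (f196315 IH) (Lpn (LP (LK LD1_c24 LD2_c54 LD3_c9))))))))
theorem f610889 : Led Lsl_ft (LP (LK LD1_c26 LD2_c8 LD3_c59)) = (LP (LK LD1_c24 LD2_c54 LD3_c9)) :=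
  Lgr Lrot48 (Lpr_ff (f610885 IH) (Lpn (LP (LK LD1_c24 LD2_c54 LD3_c9))))
theorem f240674 : Led Lsl_dt (LP (LK LD1_c16 LD2_c12 LD3_c9)) = (LP (LK LD1_c26 LD2_c8 LD3_c59)) :=
  Lre_d IH (LK LD1_c16 LD2_c12 LD3_c9) (LK LD1_c26 LD2_c8 LD3_c59) Lrfl Lrfl
theorem f30624 : Led Lsl_et (LP (LK LD1_c24 LD2_c54 LD3_c9)) = (LP (LK LD1_c15 LD2_c6 LD3_c4)) :=
  Lre_e IH (LK LD1_c24 LD2_c54 LD3_c9) (LK LD1_c15 LD2_c6 LD3_c4) Lrfl Lrfl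
theorem f346839 : Led Lsl_gt (LP (LK LD1_c16 LD2_c10 LD3_c50)) = (LP (LK LD1_c8 LD2_c38 LD3_c24)) :=
  Lre_g IH (LK LD1_c16 LD2_c10 LD3_c50) (LK LD1_c8 LD2_c38 LD3_c24) Lrfl Lrfl
theorem f346840 : Led Lsl_dt (LP (LK LD1_c24 LD2_c54 LD3_c9)) = (LP (LK LD1_c16 LD2_c10 LD3_c50)) :=
  Lgr Lrot136 (Lpr_et (f30624 IH) (Lpe (K47.f30474 IH) (Lpe (K12.f29264 IH) (Lpr_dt (K1.f6939 IH) (Lpr_gf (K10.f196296 IH) (Lpe (K13.f196302 IH) (Lpr_gf (K39.f225148 IH) (Lpe (f53122 IH) (Lpr_dt (K37.f346825 IH) (Lpe (f346839 IH) (Lpn (LP (LK LD1_c16 LD2_c10 LD3_c50)))))))))))))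
theorem f610893 : Led Lsl_ff (LP (LK LD1_c16 LD2_c12 LD3_c9)) = (LP (LK LD1_c16 LD2_c10 LD3_c50)) :=
  Lgr Lrot19 (Lpr_dt (f240674 IH) (Lpr_ft (f610889 IH) (Lpr_dt (f346840 IH) (Lpn (LP (LK LD1_c16 LD2_c10 LD3_c50))))))
theorem f346835 : Led Lsl_gt (LP (LK LD1_c8 LD2_c38 LD3_c24)) = (LP (LK LD1_c16 LD2_c10 LD3_c49)) :=
  Lre_g IH (LK LD1_c8 LD2_c38 LD3_c24) (LK LD1_c16 LD2_c10 LD3_c49) Lrfl Lrfl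
theorem f610895 : Led Lsl_at (LP (LK LD1_c16 LD2_c12 LD3_c9)) = (LP (LK LD1_c16 LD2_c10 LD3_c49)) :=
  Lgr Lrot26 (Lpr_ff (f610893 IH) (Lpr_gt (f346839 IH) (Lpr_gt (f346835 IH) (Lpn (LP (LK LD1_c16 LD2_c10 LD3_c49))))))
theorem f610866 : Led Lsl_af (LP (LK LD1_c14 LD2_c43 LD3_c4)) = (LP (LK LD1_c23 LD2_c6 LD3_c8)) :=
  Lgr Lrot0 (Lpr_at (f610864 IH) (Lpn (LP (LK LD1_c23 LD2_c6 LD3_c8))))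
theorem f610859 : Led Lsl_et (LP (LK LD1_c14 LD2_c43 LD3_c4)) = (LP (LK LD1_c24 LD2_c28 LD3_c27)) :=
  Lre_e IH (LK LD1_c14 LD2_c43 LD3_c4) (LK LD1_c24 LD2_c28 LD3_c27) Lrfl Lrfl
theorem f610881 : Led Lsl_af (LP (LK LD1_c26 LD2_c8 LD3_c59)) = (LP (LK LD1_c24 LD2_c28 LD3_c27)) :=
  Lgr Lrot50 (Lpr_et (f610879 IH) (Lpe (f610866 IH) (Lpr_et (f610859 IH) (Lpn (LP (LK LD1_c24 LD2_c28 LD3_c27))))))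
theorem f610899 : Led Lsl_df (LP (LK LD1_c24 LD2_c28 LD3_c27)) = (LP (LK LD1_c16 LD2_c10 LD3_c49)) :=
  Lgr Lrot18 (Lpe (f610881 IH) (Lpr_dt (f346877 IH) (Lpr_at (f610895 IH) (Lpn (LP (LK LD1_c16 LD2_c10 LD3_c49))))))
theorem f610901 : Led Lsl_dt (LP (LK LD1_c24 LD2_c28 LD3_c27)) = (LP (LK LD1_c16 LD2_c10 LD3_c49)) :=
  Lgr Lrot42 (Lpr_df (f610899 IH) (Lpn (LP (LK LD1_c16 LD2_c10 LD3_c49))))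
theorem f552879 : Led Lsl_df (LP (LK LD1_c7 LD2_c13 LD3_c32)) = (LP (LK LD1_c4 LD2_c56 LD3_c60)) :=
  Lgr Lrot78 (Lpr_ft (K28.f464981 IH) (Lpr_dt (K39.f552875 IH) (Lpr_ft (K39.f172791 IH) (Lpn (LP (LK LD1_c4 LD2_c56 LD3_c60))))))
theorem f610969 : Led Lsl_dt (LP (LK LD1_c16 LD2_c20 LD3_c29)) = (LP (LK LD1_c13 LD2_c13 LD3_c56)) :=
  Lgr Lrot171 (Lpr_gf (f610965 IH) (Lpe (f610870 IH) (Lpr_dt (f610901 IH) (Lpe (f346835 IH) (Lpe (K37.f346825 IH) (Lpr_et (f53122 IH) (Lpr_gf (K36.f238911 IH) (Lpe (K39.f172758 IH) (Lpe (f552879 IH) (Lpr_gf (K37.f489531 IH) (Lpn (LP (LK LD1_c13 LD2_c13 LD3_c56)))))))))))))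
theorem f611881 : Led Lsl_gt (LP (LK LD1_c16 LD2_c18 LD3_c42)) = (LP (LK LD1_c26 LD2_c16 LD3_c34)) :=
  Lre_g IH (LK LD1_c16 LD2_c18 LD3_c42) (LK LD1_c26 LD2_c16 LD3_c34) Lrfl Lrfl
theorem f611882 : Led Lsl_cf (LP (LK LD1_c23 LD2_c7 LD3_c4)) = (LP (LK LD1_c26 LD2_c16 LD3_c34)) :=
  Lgr Lrot99 (Lpe (K47.f471503 IH) (Lpr_cf (K41.f488320 IH) (Lpe (K48.f488322 IH) (Lpe (K29.f160486 IH) (Lpr_gf (K37.f489531 IH) (Lpe (f610969 IH) (Lpr_gt (f610963 IH) (Lpr_ct (f611851 IH) (Lpr_gt (f611881 IH) (Lpn (LP (LK LD1_c26 LD2_c16 LD3_c34))))))))))))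
theorem f611885 : Led Lsl_ct (LP (LK LD1_c23 LD2_c7 LD3_c4)) = (LP (LK LD1_c26 LD2_c16 LD3_c34)) :=
  Lgr Lrot59 (Lpr_cf (f611882 IH) (Lpn (LP (LK LD1_c26 LD2_c16 LD3_c34))))
theorem f787399 : Led Lsl_gf (LP (LK LD1_c24 LD2_c28 LD3_c26)) = (LP (LK LD1_c26 LD2_c16 LD3_c34)) :=
  Lgr Lrot126 (Lpe (f475239 IH) (Lpr_bt (f475238 IH) (Lpr_gt (f464866 IH) (Lpr_ct (f458596 IH) (Lpr_gt (f787395 IH) (Lpe (f787389 IH) (Lpr_bt (K47.f479548 IH) (Lpr_gt (f628315 IH) (Lpe (f611884 IH) (Lpr_ct (f611885 IH) (Lpn (LP (LK LD1_c26 LD2_c16 LD3_c34)))))))))))))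
theorem f787400 : Led Lsl_gt (LP (LK LD1_c26 LD2_c16 LD3_c34)) = (LP (LK LD1_c24 LD2_c28 LD3_c26)) :=
  Leop (Lpr_gf (f787399 IH) (Lpn (LP (LK LD1_c26 LD2_c16 LD3_c34))))
theorem seed_1532 : LEOK LG_g (LK LD1_c26 LD2_c16 LD3_c34) :=
  Leoe_g (LK LD1_c26 LD2_c16 LD3_c34) (f787400 IH)
def v2404 : LQ := Led Lsl_dt (LP (LK LD1_c1 LD2_c44 LD3_c27))
theorem f519521 : Led Lsl_dt (LP (LK LD1_c1 LD2_c44 LD3_c27)) = v2404 :=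
  Lrfl
def v2401 : LQ := Led Lsl_dt (LP (LK LD1_c1 LD2_c44 LD3_c26))
def v9045 : LQ := Led Lsl_gf v2401
theorem f673342 : Led Lsl_gf v2401 = v9045 :=
  Lrfl
def v9042 : LQ := Led Lsl_dt K47.v2400
theorem f673331 : Led Lsl_dt K47.v2400 = v9042 :=
  Lrfl
theorem f519511 : Led Lsl_dt (LP (LK LD1_c1 LD2_c44 LD3_c26)) = v2401 :=
  Lrfl
theorem f519512 : Led Lsl_df (LP (LK LD1_c1 LD2_c44 LD3_c26)) = v2401 :=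
  Lgr Lrot38 (Lpr_dt (f519511 IH) (Lpn v2401))
theorem f673332 : Led Lsl_af v2401 = v9042 :=
  Lgr Lrot117 (Lpe (f519512 IH) (Lpr_at (K47.f519501 IH) (Lpr_dt (f673331 IH) (Lpn v9042))))
theorem f519522 : Led Lsl_df (LP (LK LD1_c1 LD2_c44 LD3_c27)) = v2404 :=
  Lgr Lrot38 (Lpr_dt (f519521 IH) (Lpn v2404))
theorem f673334 : Led Lsl_ff v2404 = v9042 :=
  Lgr Lrot19 (Lpe (f519522 IH) (Lpr_ft (K47.f519506 IH) (Lpr_dt (f673331 IH) (Lpn v9042))))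
theorem f673335 : Led Lsl_ft v2404 = v9042 :=
  Lgr Lrot48 (Lpr_ff (f673334 IH) (Lpn v9042))
theorem f673343 : Led Lsl_gt v2404 = v9045 :=
  Lgr Lrot5 (Lpr_ft (f673335 IH) (Lpe (f673332 IH) (Lpr_gf (f673342 IH) (Lpn v9045))))
def v2406 : LQ := Led Lsl_gt (LP (LK LD1_c1 LD2_c44 LD3_c28))
theorem f519526 : Led Lsl_gt (LP (LK LD1_c1 LD2_c44 LD3_c28)) = v2406 :=
  Lrfl
theorem f10392 : Led Lsl_bt (LP (LK LD1_c3 LD2_c32 LD3_c59)) = (LP (LK LD1_c1 LD2_c43 LD3_c14)) :=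
  Lre_b IH (LK LD1_c3 LD2_c32 LD3_c59) (LK LD1_c1 LD2_c43 LD3_c14) Lrfl Lrfl
theorem f10394 : Led Lsl_bt (LP (LK LD1_c1 LD2_c43 LD3_c14)) = (LP (LK LD1_c3 LD2_c32 LD3_c59)) :=
  Lre_b IH (LK LD1_c1 LD2_c43 LD3_c14) (LK LD1_c3 LD2_c32 LD3_c59) Lrfl Lrfl
theorem f10395 : Led Lsl_cf (LP (LK LD1_c3 LD2_c32 LD3_c59)) = (LP (LK LD1_c3 LD2_c32 LD3_c59)) :=
  Lgr Lrot97 (Lpr_bt (f10392 IH) (Lpr_ct (K0.f10391 IH) (Lpr_bt (K2.f10387 IH) (Lpr_ct (K0.f10393 IH) (Lpr_bt (f10394 IH) (Lpn (LP (LK LD1_c3 LD2_c32 LD3_c59))))))))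
theorem f10696 : Led Lsl_at (LP (LK LD1_c3 LD2_c32 LD3_c59)) = (LP (LK LD1_c7 LD2_c6 LD3_c57)) :=
  Lre_a IH (LK LD1_c3 LD2_c32 LD3_c59) (LK LD1_c7 LD2_c6 LD3_c57) Lrfl Lrfl
theorem f10697 : Led Lsl_at (LP (LK LD1_c7 LD2_c6 LD3_c57)) = (LP (LK LD1_c3 LD2_c32 LD3_c59)) :=
  Lre_a IH (LK LD1_c7 LD2_c6 LD3_c57) (LK LD1_c3 LD2_c32 LD3_c59) Lrfl Lrfl
theorem f10698 : Led Lsl_ct (LP (LK LD1_c7 LD2_c6 LD3_c57)) = (LP (LK LD1_c7 LD2_c6 LD3_c57)) :=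
  Lgr Lrot111 (Lpe (f10696 IH) (Lpr_cf (f10395 IH) (Lpe (f10697 IH) (Lpn (LP (LK LD1_c7 LD2_c6 LD3_c57))))))
theorem f10724 : Led Lsl_bt (LP (LK LD1_c3 LD2_c34 LD3_c45)) = (LP (LK LD1_c7 LD2_c6 LD3_c57)) :=
  Lre_b IH (LK LD1_c3 LD2_c34 LD3_c45) (LK LD1_c7 LD2_c6 LD3_c57) Lrfl Lrfl
theorem f10726 : Led Lsl_bt (LP (LK LD1_c7 LD2_c6 LD3_c57)) = (LP (LK LD1_c3 LD2_c34 LD3_c45)) :=
  Lre_b IH (LK LD1_c7 LD2_c6 LD3_c57) (LK LD1_c3 LD2_c34 LD3_c45) Lrfl Lrfl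
theorem f10728 : Led Lsl_bf (LP (LK LD1_c1 LD2_c44 LD3_c28)) = (LP (LK LD1_c1 LD2_c44 LD3_c28)) :=
  Lgr Lrot90 (Lpr_ct (K47.f10725 IH) (Lpr_bt (f10724 IH) (Lpr_ct (f10698 IH) (Lpr_bt (f10726 IH) (Lpr_ct (K49.f10727 IH) (Lpn (LP (LK LD1_c1 LD2_c44 LD3_c28))))))))
theorem f519495 : Led Lsl_ft (LP (LK LD1_c1 LD2_c44 LD3_c28)) = K47.v2399 :=
  Lgr Lrot75 (Lpr_bf (f10728 IH) (Lpr_ff (K47.f519494 IH) (Lpr_bf (K49.f519492 IH) (Lpn K47.v2399))))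
theorem f519527 : Led Lsl_gf (LP (LK LD1_c1 LD2_c44 LD3_c29)) = v2406 :=
  Lgr Lrot76 (Lpr_af (K49.f519491 IH) (Lpe (f519495 IH) (Lpr_gt (f519526 IH) (Lpn v2406))))
def v9061 : LQ := Led Lsl_bt v2406
theorem f673379 : Led Lsl_bt v2406 = v9061 :=
  Lrfl
theorem f673380 : Led Lsl_bf v2406 = v9061 :=
  Lgr Lrot24 (Lpr_bt (f673379 IH) (Lpn v9061))
def v6975 : LQ := Led Lsl_dt (LP (LK LD1_c3 LD2_c35 LD3_c17))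
theorem f659739 : Led Lsl_dt (LP (LK LD1_c3 LD2_c35 LD3_c17)) = v6975 :=
  Lrfl
theorem f519510 : Led Lsl_bt (LP (LK LD1_c1 LD2_c44 LD3_c27)) = (LP (LK LD1_c3 LD2_c35 LD3_c17)) :=
  Lre_b IH (LK LD1_c1 LD2_c44 LD3_c27) (LK LD1_c3 LD2_c35 LD3_c17) Lrfl Lrfl
theorem f659740 : Led Lsl_bf v2404 = v6975 :=
  Lgr Lrot93 (Lpe (f519522 IH) (Lpr_bt (f519510 IH) (Lpr_dt (f659739 IH) (Lpn v6975))))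
def v20509 : LQ := Led Lsl_at (LP (LK LD1_c6 LD2_c58 LD3_c40))
theorem f787434 : Led Lsl_at (LP (LK LD1_c6 LD2_c58 LD3_c40)) = v20509 :=
  Lrfl
theorem f429542 : Led Lsl_ct (LP (LK LD1_c3 LD2_c28 LD3_c13)) = (LP (LK LD1_c6 LD2_c58 LD3_c40)) :=
  Lre_c IH (LK LD1_c3 LD2_c28 LD3_c13) (LK LD1_c6 LD2_c58 LD3_c40) Lrfl Lrfl
def v6733 : LQ := Led Lsl_at (LP (LK LD1_c3 LD2_c28 LD3_c13))
theorem f658119 : Led Lsl_at (LP (LK LD1_c3 LD2_c28 LD3_c13)) = v6733 :=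
  Lrfl
theorem f658120 : Led Lsl_af (LP (LK LD1_c3 LD2_c28 LD3_c13)) = v6733 :=
  Lgr Lrot0 (Lpr_at (f658119 IH) (Lpn v6733))
theorem f787436 : Led Lsl_cf v6733 = v20509 :=
  Lgr Lrot1 (Lpe (f658120 IH) (Lpr_ct (f429542 IH) (Lpr_at (f787434 IH) (Lpn v20509))))
def v3644 : LQ := Led Lsl_at K29.v980
theorem f626553 : Led Lsl_at K29.v980 = v3644 :=
  Lrfl
theorem f490829 : Led Lsl_ft (LP (LK LD1_c1 LD2_c40 LD3_c44)) = K29.v980 :=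
  Lgr Lrot48 (Lpr_ff (K29.f490828 IH) (Lpn K29.v980))
theorem f626557 : Led Lsl_ff (LP (LK LD1_c3 LD2_c28 LD3_c14)) = v3644 :=
  Lgr Lrot30 (Lpr_at (K29.f9859 IH) (Lpr_ft (f490829 IH) (Lpr_at (f626553 IH) (Lpn v3644))))
theorem f626560 : Led Lsl_gf (LP (LK LD1_c3 LD2_c28 LD3_c13)) = v3644 :=
  Lgr Lrot47 (Lpr_gt (K47.f11486 IH) (Lpe (K29.f9859 IH) (Lpr_ff (f626557 IH) (Lpn v3644))))
def v2287 : LQ := Led Lsl_gt (LP (LK LD1_c1 LD2_c40 LD3_c44))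
theorem f511892 : Led Lsl_gt (LP (LK LD1_c1 LD2_c40 LD3_c44)) = v2287 :=
  Lrfl
theorem f626558 : Led Lsl_gt v2287 = v3644 :=
  Lgr Lrot46 (Lpe (f511892 IH) (Lpr_ft (f490829 IH) (Lpr_at (f626553 IH) (Lpn v3644))))
theorem f658121 : Led Lsl_ft v2287 = v6733 :=
  Lgr Lrot2 (Lpr_gt (f626558 IH) (Lpe (f626560 IH) (Lpr_af (f658120 IH) (Lpn v6733))))
theorem f658122 : Led Lsl_ff v2287 = v6733 :=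
  Lgr Lrot3 (Lpr_ft (f658121 IH) (Lpn v6733))
def v8919 : LQ := Led Lsl_ct v2287
theorem f672759 : Led Lsl_ct v2287 = v8919 :=
  Lrfl
theorem f787438 : Led Lsl_ft v8919 = v20509 :=
  Lgr Lrot4 (Lpe (f672759 IH) (Lpr_ff (f658122 IH) (Lpr_cf (f787436 IH) (Lpn v20509))))
theorem f787435 : Led Lsl_af (LP (LK LD1_c6 LD2_c58 LD3_c40)) = v20509 :=
  Lgr Lrot0 (Lpr_at (f787434 IH) (Lpn v20509))
def v20508 : LQ := Led Lsl_gf (LP (LK LD1_c6 LD2_c58 LD3_c40))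
theorem f787432 : Led Lsl_gf (LP (LK LD1_c6 LD2_c58 LD3_c40)) = v20508 :=
  Lrfl
theorem f787440 : Led Lsl_gt v8919 = v20508 :=
  Lgr Lrot5 (Lpr_ft (f787438 IH) (Lpe (f787435 IH) (Lpr_gf (f787432 IH) (Lpn v20508))))
theorem f787442 : Led Lsl_ct v9061 = v20508 :=
  Lgr Lrot63 (Lpe (f673380 IH) (Lpe (f519527 IH) (Lpe (K49.f10371 IH) (Lpr_ct (K29.f9979 IH) (Lpe (K0.f11474 IH) (Lpe (K29.f9864 IH) (Lpr_bt (K29.f9858 IH) (Lpr_gt (f511892 IH) (Lpr_ct (f672759 IH) (Lpr_gt (f787440 IH) (Lpn v20508)))))))))))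
theorem f490847 : Led Lsl_dt (LP (LK LD1_c1 LD2_c40 LD3_c44)) = K29.v980 :=
  Lgr Lrot42 (Lpr_df (K29.f490827 IH) (Lpn K29.v980))
def v3642 : LQ := Led Lsl_gt K29.v980
theorem f626550 : Led Lsl_gt K29.v980 = v3642 :=
  Lrfl
def v11197 : LQ := Led Lsl_ct v3642
theorem f683431 : Led Lsl_ct v3642 = v11197 :=
  Lrfl
theorem f446506 : Led Lsl_bt (LP (LK LD1_c3 LD2_c35 LD3_c17)) = (LP (LK LD1_c1 LD2_c44 LD3_c27)) :=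
  Lre_b IH (LK LD1_c3 LD2_c35 LD3_c17) (LK LD1_c1 LD2_c44 LD3_c27) Lrfl Lrfl
theorem f107818 : Led Lsl_ct (LP (LK LD1_c3 LD2_c35 LD3_c17)) = (LP (LK LD1_c7 LD2_c11 LD3_c35)) :=
  Lre_c IH (LK LD1_c3 LD2_c35 LD3_c17) (LK LD1_c7 LD2_c11 LD3_c35) Lrfl Lrfl
theorem f683433 : Led Lsl_gf (LP (LK LD1_c7 LD2_c11 LD3_c35)) = v11197 :=
  Lgr Lrot129 (Lpe (f107818 IH) (Lpr_bt (f446506 IH) (Lpr_gt (K47.f107804 IH) (Lpe (K47.f10737 IH) (Lpr_ct (K29.f9949 IH) (Lpr_gt (K24.f11493 IH) (Lpr_cf (K29.f450751 IH) (Lpr_bt (K29.f490825 IH) (Lpr_gt (f626550 IH) (Lpr_ct (f683431 IH) (Lpn v11197)))))))))))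
theorem f107819 : Led Lsl_ct (LP (LK LD1_c7 LD2_c11 LD3_c35)) = (LP (LK LD1_c3 LD2_c35 LD3_c17)) :=
  Lre_c IH (LK LD1_c7 LD2_c11 LD3_c35) (LK LD1_c3 LD2_c35 LD3_c17) Lrfl Lrfl
theorem f787441 : Led Lsl_cf v6975 = v20508 :=
  Lgr Lrot99 (Lpe (f659739 IH) (Lpe (f107819 IH) (Lpr_gf (f683433 IH) (Lpe (f683431 IH) (Lpe (f626550 IH) (Lpe (f490847 IH) (Lpr_gt (f511892 IH) (Lpr_ct (f672759 IH) (Lpr_gt (f787440 IH) (Lpn v20508))))))))))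
theorem f787443 : v9061 = v6975 :=
  (Llr Lrot11 (Lpr_ct (f787442 IH) (Lpe (f787441 IH) (Lpn v6975)))).symm
theorem f787444 : v2406 = v2404 :=
  Lefun (Lecon (Lfl_bf (f673380 IH)) (f787443 IH)) (Lfl_bf (f659740 IH))
theorem f787445 : (LP (LK LD1_c1 LD2_c44 LD3_c29)) = v9045 :=
  Lefun (Lecon (Lfl_gf (f519527 IH)) (f787444 IH)) (f673343 IH)
theorem f10945 : Led Lsl_dt (LP (LK LD1_c1 LD2_c44 LD3_c29)) = (LP (LK LD1_c0 LD2_c49 LD3_c40)) :=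
  Lgr Lrot79 (Lpe (K49.f10371 IH) (Lpr_df (K35.f10074 IH) (Lpe (K49.f10909 IH) (Lpn (LP (LK LD1_c0 LD2_c49 LD3_c40))))))
theorem f10962 : Led Lsl_dt (LP (LK LD1_c3 LD2_c37 LD3_c53)) = (LP (LK LD1_c1 LD2_c45 LD3_c46)) :=
  Lre_d IH (LK LD1_c3 LD2_c37 LD3_c53) (LK LD1_c1 LD2_c45 LD3_c46) Lrfl Lrfl
def v7071 : LQ := Led Lsl_gf (LP (LK LD1_c3 LD2_c37 LD3_c53))
theorem f660709 : Led Lsl_gf (LP (LK LD1_c3 LD2_c37 LD3_c53)) = v7071 :=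
  Lrfl
theorem f659510 : Led Lsl_dt (LP (LK LD1_c3 LD2_c34 LD3_c44)) = (LP (LK LD1_c7 LD2_c10 LD3_c40)) :=
  Lre_d IH (LK LD1_c3 LD2_c34 LD3_c44) (LK LD1_c7 LD2_c10 LD3_c40) Lrfl Lrfl
theorem f787469 : v7071 = (LP (LK LD1_c7 LD2_c10 LD3_c40)) :=
  (Llr Lrot143 (Lpe (f660709 IH) (Lpr_dt (f10962 IH) (Lpe (K49.f10950 IH) (Lpe (f10945 IH) (Lpqs (f787445 IH) (Lpe (f673343 IH) (Lpe (f519521 IH) (Lpr_gf (K47.f519496 IH) (Lpr_cf (K47.f659501 IH) (Lpe (K47.f659507 IH) (Lpr_dt (f659510 IH) (Lpn (LP (LK LD1_c7 LD2_c10 LD3_c40))))))))))))))).symm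
theorem f787470 : Led Lsl_gt (LP (LK LD1_c7 LD2_c10 LD3_c40)) = (LP (LK LD1_c3 LD2_c37 LD3_c53)) :=
  Leop (Lpr_gf (f660709 IH) (Lpqs (f787469 IH) (Lpn (LP (LK LD1_c7 LD2_c10 LD3_c40)))))
theorem seed_1533 : LEOK LG_g (LK LD1_c7 LD2_c10 LD3_c40) :=
  Leoe_g (LK LD1_c7 LD2_c10 LD3_c40) (f787470 IH)
def v20512 : LQ := Led Lsl_et (LP (LK LD1_c6 LD2_c58 LD3_c41))
theorem f787503 : Led Lsl_et (LP (LK LD1_c6 LD2_c58 LD3_c41)) = v20512 :=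
  Lrfl
theorem f787507 : Led Lsl_ef (LP (LK LD1_c6 LD2_c58 LD3_c41)) = v20512 :=
  Lgr Lrot88 (Lpr_et (f787503 IH) (Lpn v20512))
theorem f65921 : Led Lsl_et (LP (LK LD1_c7 LD2_c32 LD3_c26)) = (LP (LK LD1_c14 LD2_c13 LD3_c15)) :=
  Lre_e IH (LK LD1_c7 LD2_c32 LD3_c26) (LK LD1_c14 LD2_c13 LD3_c15) Lrfl Lrfl
theorem f787510 : Led Lsl_ct (LP (LK LD1_c14 LD2_c13 LD3_c15)) = v20512 :=
  Lgr Lrot15 (Lpe (f65921 IH) (Lpr_cf (K4.f65918 IH) (Lpr_ef (f787507 IH) (Lpn v20512))))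
theorem f673896 : Led Lsl_bf K49.v2505 = K49.v9178 :=
  Lgr Lrot24 (Lpr_bt (K49.f673895 IH) (Lpn K49.v9178))
theorem f628674 : Led Lsl_gf K49.v2505 = K47.v3945 :=
  Lgr Lrot129 (Lpe (K49.f523665 IH) (Lpe (K49.f511949 IH) (Lpe (K34.f455527 IH) (Lpq (K34.f477467 IH) (Lpe (K34.f459659 IH) (Lpr_ct (K46.f451069 IH) (Lpr_gt (K46.f508651 IH) (Lpe (K46.f508653 IH) (Lpr_bt (K46.f65922 IH) (Lpq (K33.f511458 IH) (Lpr_gt (K47.f493323 IH) (Lpr_ct (K47.f628669 IH) (Lpn K47.v3945)))))))))))))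
def v7385 : LQ := Led Lsl_at (LP (LK LD1_c3 LD2_c46 LD3_c15))
theorem f664843 : Led Lsl_at (LP (LK LD1_c3 LD2_c46 LD3_c15)) = v7385 :=
  Lrfl
theorem f493328 : Led Lsl_cf K29.v278 = K47.v1138 :=
  Lgr Lrot11 (Lpr_ct (K47.f493326 IH) (Lpn K47.v1138))
theorem f628670 : Led Lsl_af K47.v1138 = K47.v3945 :=
  Lgr Lrot68 (Lpe (f493328 IH) (Lpr_at (K47.f493319 IH) (Lpr_ct (K47.f628669 IH) (Lpn K47.v3945))))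
theorem f664845 : Led Lsl_bf K47.v3945 = v7385 :=
  Lgr Lrot81 (Lpe (f628670 IH) (Lpe (K48.f493327 IH) (Lpe (K29.f466843 IH) (Lpr_bt (K47.f441411 IH) (Lpr_at (f664843 IH) (Lpn v7385))))))
theorem f664844 : Led Lsl_af (LP (LK LD1_c3 LD2_c46 LD3_c15)) = v7385 :=
  Lgr Lrot0 (Lpr_at (f664843 IH) (Lpn v7385))
theorem f664846 : Led Lsl_cf v7385 = v7385 :=
  Lgr Lrot1 (Lpe (f664844 IH) (Lpe (K47.f466802 IH) (Lpr_at (f664843 IH) (Lpn v7385))))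
theorem f787511 : Led Lsl_gf v7385 = v20512 :=
  Lgr Lrot129 (Lpr_cf (f664846 IH) (Lpe (f664845 IH) (Lpe (f628674 IH) (Lpr_bf (f673896 IH) (Lpe (K49.f673897 IH) (Lpr_gt (K49.f664803 IH) (Lpe (K49.f664800 IH) (Lpr_bt (K49.f664790 IH) (Lpe (K49.f673903 IH) (Lpr_ct (f787510 IH) (Lpn v20512)))))))))))
theorem f787512 : Led Lsl_gt (LP (LK LD1_c7 LD2_c1 LD3_c10)) = v20512 :=
  Lgr Lrot5 (Lpe (K47.f474687 IH) (Lpr_at (f664843 IH) (Lpr_gf (f787511 IH) (Lpn v20512))))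
theorem f487176 : Led Lsl_bt (LP (LK LD1_c7 LD2_c46 LD3_c45)) = (LP (LK LD1_c14 LD2_c40 LD3_c33)) :=
  Lre_b IH (LK LD1_c7 LD2_c46 LD3_c45) (LK LD1_c14 LD2_c40 LD3_c33) Lrfl Lrfl
theorem f456283 : Led Lsl_bt (LP (LK LD1_c7 LD2_c19 LD3_c60)) = (LP (LK LD1_c7 LD2_c24 LD3_c54)) :=
  Lgr Lrot95 (Lpe (K28.f456281 IH) (Lpr_bf (K29.f456279 IH) (Lpe (K48.f456282 IH) (Lpn (LP (LK LD1_c7 LD2_c24 LD3_c54))))))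
theorem f469065 : Led Lsl_bt (LP (LK LD1_c13 LD2_c11 LD3_c28)) = (LP (LK LD1_c6 LD2_c56 LD3_c51)) :=
  Lre_b IH (LK LD1_c13 LD2_c11 LD3_c28) (LK LD1_c6 LD2_c56 LD3_c51) Lrfl Lrfl
theorem f487210 : Led Lsl_at (LP (LK LD1_c14 LD2_c40 LD3_c33)) = (LP (LK LD1_c13 LD2_c11 LD3_c28)) :=
  Lgr Lrot67 (Lpe (f487176 IH) (Lpr_af (K48.f487206 IH) (Lpe (f456283 IH) (Lpe (K29.f472932 IH) (Lpe (f469065 IH) (Lpn (LP (LK LD1_c13 LD2_c11 LD3_c28))))))))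
theorem f472871 : Led Lsl_dt (LP (LK LD1_c13 LD2_c11 LD3_c28)) = (LP (LK LD1_c13 LD2_c7 LD3_c11)) :=
  Lre_d IH (LK LD1_c13 LD2_c11 LD3_c28) (LK LD1_c13 LD2_c7 LD3_c11) Lrfl Lrfl
theorem f487266 : Led Lsl_df (LP (LK LD1_c14 LD2_c40 LD3_c33)) = (LP (LK LD1_c13 LD2_c18 LD3_c58)) :=
  Lgr Lrot18 (Lpr_at (f487210 IH) (Lpr_dt (f472871 IH) (Lpr_at (K29.f474657 IH) (Lpn (LP (LK LD1_c13 LD2_c18 LD3_c58))))))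
theorem f15923 : Led Lsl_dt (LP (LK LD1_c6 LD2_c54 LD3_c20)) = (LP (LK LD1_c13 LD2_c7 LD3_c16)) :=
  Lre_d IH (LK LD1_c6 LD2_c54 LD3_c20) (LK LD1_c13 LD2_c7 LD3_c16) Lrfl Lrfl
theorem f787513 : Led Lsl_gf (LP (LK LD1_c14 LD2_c40 LD3_c33)) = (LP (LK LD1_c13 LD2_c7 LD3_c16)) :=
  Lgr Lrot134 (Lpr_df (f487266 IH) (Lpr_et (K29.f474656 IH) (Lpr_gt (f787512 IH) (Lpe (f787503 IH) (Lpe (K32.f156712 IH) (Lpr_gt (K7.f16783 IH) (Lpe (K0.f16059 IH) (Lpr_et (K0.f15912 IH) (Lpr_gt (K8.f15922 IH) (Lpr_dt (f15923 IH) (Lpn (LP (LK LD1_c13 LD2_c7 LD3_c16)))))))))))))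
theorem f787514 : Led Lsl_gt (LP (LK LD1_c13 LD2_c7 LD3_c16)) = (LP (LK LD1_c14 LD2_c40 LD3_c33)) :=
  Leop (Lpr_gf (f787513 IH) (Lpn (LP (LK LD1_c13 LD2_c7 LD3_c16))))
theorem seed_1534 : LEOK LG_g (LK LD1_c13 LD2_c7 LD3_c16) :=
  Leoe_g (LK LD1_c13 LD2_c7 LD3_c16) (f787514 IH)
theorem f116525 : Led Lsl_et (LP (LK LD1_c7 LD2_c22 LD3_c43)) = (LP (LK LD1_c13 LD2_c57 LD3_c5)) :=
  Lre_e IH (LK LD1_c7 LD2_c22 LD3_c43) (LK LD1_c13 LD2_c57 LD3_c5) Lrfl Lrfl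
theorem f787509 : Led Lsl_bt (LP (LK LD1_c13 LD2_c57 LD3_c5)) = v20512 :=
  Lgr Lrot119 (Lpe (f116525 IH) (Lpr_bf (K7.f116518 IH) (Lpr_ef (f787507 IH) (Lpn v20512))))
theorem f486110 : Led Lsl_bt (LP (LK LD1_c7 LD2_c33 LD3_c34)) = (LP (LK LD1_c14 LD2_c15 LD3_c22)) :=
  Lre_b IH (LK LD1_c7 LD2_c33 LD3_c34) (LK LD1_c14 LD2_c15 LD3_c22) Lrfl Lrfl
theorem f787520 : Led Lsl_ff (LP (LK LD1_c7 LD2_c33 LD3_c34)) = v20512 :=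
  Lgr Lrot25 (Lpr_bt (f486110 IH) (Lpe (K49.f501796 IH) (Lpr_bt (f787509 IH) (Lpn v20512))))
theorem f466820 : Led Lsl_ct (LP (LK LD1_c7 LD2_c33 LD3_c34)) = (LP (LK LD1_c14 LD2_c15 LD3_c23)) :=
  Lre_c IH (LK LD1_c7 LD2_c33 LD3_c34) (LK LD1_c14 LD2_c15 LD3_c23) Lrfl Lrfl
theorem f787521 : Led Lsl_ft (LP (LK LD1_c14 LD2_c15 LD3_c23)) = (LP (LK LD1_c14 LD2_c13 LD3_c15)) :=
  Lgr Lrot4 (Lpe (f466820 IH) (Lpr_ff (f787520 IH) (Lpe (f787510 IH) (Lpn (LP (LK LD1_c14 LD2_c13 LD3_c15))))))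
theorem f787522 : Led Lsl_ft (LP (LK LD1_c14 LD2_c15 LD3_c23)) = (LP (LK LD1_c14 LD2_c13 LD3_c15)) :=
  Leop (Lpe (f787521 IH) (Lpn (LP (LK LD1_c14 LD2_c15 LD3_c23))))
theorem seed_1535 : LEOK LG_f (LK LD1_c14 LD2_c15 LD3_c23) :=
  Leoe_f (LK LD1_c14 LD2_c15 LD3_c23) (f787522 IH)
def v20516 : LQ := Led Lsl_at (LP (LK LD1_c6 LD2_c58 LD3_c50))
theorem f787550 : Led Lsl_at (LP (LK LD1_c6 LD2_c58 LD3_c50)) = v20516 :=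
  Lrfl
theorem f85669 : Led Lsl_ft (LP (LK LD1_c3 LD2_c44 LD3_c42)) = (LP (LK LD1_c6 LD2_c58 LD3_c50)) :=
  Lre_f IH (LK LD1_c3 LD2_c44 LD3_c42) (LK LD1_c6 LD2_c58 LD3_c50) Lrfl Lrfl
theorem f85702 : Led Lsl_at (LP (LK LD1_c7 LD2_c30 LD3_c32)) = (LP (LK LD1_c3 LD2_c44 LD3_c42)) :=
  Lre_a IH (LK LD1_c7 LD2_c30 LD3_c32) (LK LD1_c3 LD2_c44 LD3_c42) Lrfl Lrfl
theorem f787554 : Led Lsl_ff (LP (LK LD1_c7 LD2_c30 LD3_c32)) = v20516 :=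
  Lgr Lrot30 (Lpr_at (f85702 IH) (Lpr_ft (f85669 IH) (Lpr_at (f787550 IH) (Lpn v20516))))
theorem f85692 : Led Lsl_dt (LP (LK LD1_c14 LD2_c10 LD3_c49)) = (LP (LK LD1_c7 LD2_c30 LD3_c32)) :=
  Lre_d IH (LK LD1_c14 LD2_c10 LD3_c49) (LK LD1_c7 LD2_c30 LD3_c32) Lrfl Lrfl
theorem f85664 : Led Lsl_ct (LP (LK LD1_c21 LD2_c56 LD3_c45)) = (LP (LK LD1_c12 LD2_c48 LD3_c51)) :=
  Lre_c IH (LK LD1_c21 LD2_c56 LD3_c45) (LK LD1_c12 LD2_c48 LD3_c51) Lrfl Lrfl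
theorem f85665 : Led Lsl_dt (LP (LK LD1_c30 LD2_c13 LD3_c42)) = (LP (LK LD1_c21 LD2_c56 LD3_c45)) :=
  Lre_d IH (LK LD1_c30 LD2_c13 LD3_c42) (LK LD1_c21 LD2_c56 LD3_c45) Lrfl Lrfl
theorem f85693 : Led Lsl_dt (LP (LK LD1_c23 LD2_c46 LD3_c19)) = (LP (LK LD1_c31 LD2_c12 LD3_c55)) :=
  Lre_d IH (LK LD1_c23 LD2_c46 LD3_c19) (LK LD1_c31 LD2_c12 LD3_c55) Lrfl Lrfl
theorem f85694 : Led Lsl_ct (LP (LK LD1_c14 LD2_c10 LD3_c49)) = (LP (LK LD1_c23 LD2_c46 LD3_c19)) :=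
  Lre_c IH (LK LD1_c14 LD2_c10 LD3_c49) (LK LD1_c23 LD2_c46 LD3_c19) Lrfl Lrfl
theorem f85695 : Led Lsl_dt (LP (LK LD1_c7 LD2_c30 LD3_c32)) = (LP (LK LD1_c14 LD2_c10 LD3_c49)) :=
  Lre_d IH (LK LD1_c7 LD2_c30 LD3_c32) (LK LD1_c14 LD2_c10 LD3_c49) Lrfl Lrfl
theorem f85696 : Led Lsl_ct (LP (LK LD1_c7 LD2_c30 LD3_c32)) = (LP (LK LD1_c7 LD2_c30 LD3_c32)) :=
  Lgr Lrot176 (Lpe (f85692 IH) (Lpe (K3.f85675 IH) (Lpe (K3.f85676 IH) (Lpr_cf (K3.f85677 IH) (Lpe (K3.f85668 IH) (Lpe (K3.f85667 IH) (Lpe (K3.f85666 IH) (Lpe (K3.f85658 IH) (Lpe (K3.f85663 IH) (Lpe (f85664 IH) (Lpe (f85665 IH) (Lpe (K3.f85690 IH) (Lpe (f85693 IH) (Lpe (f85694 IH) (Lpe (f85695 IH) (Lpn (LP (LK LD1_c7 LD2_c30 LD3_c32))))))))))))))))))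
theorem f787551 : Led Lsl_af (LP (LK LD1_c6 LD2_c58 LD3_c50)) = v20516 :=
  Lgr Lrot0 (Lpr_at (f787550 IH) (Lpn v20516))
theorem f787553 : Led Lsl_cf v20516 = v20516 :=
  Lgr Lrot1 (Lpe (f787551 IH) (Lpr_ct (K3.f85658 IH) (Lpr_at (f787550 IH) (Lpn v20516))))
theorem f787558 : Led Lsl_ft (LP (LK LD1_c7 LD2_c30 LD3_c32)) = v20516 :=
  Lgr Lrot4 (Lpe (f85696 IH) (Lpr_ff (f787554 IH) (Lpr_cf (f787553 IH) (Lpn v20516))))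
theorem f85681 : Led Lsl_gt (LP (LK LD1_c13 LD2_c15 LD3_c4)) = (LP (LK LD1_c6 LD2_c58 LD3_c50)) :=
  Lre_g IH (LK LD1_c13 LD2_c15 LD3_c4) (LK LD1_c6 LD2_c58 LD3_c50) Lrfl Lrfl
theorem f787559 : Led Lsl_gt (LP (LK LD1_c7 LD2_c30 LD3_c32)) = (LP (LK LD1_c13 LD2_c15 LD3_c4)) :=
  Lgr Lrot5 (Lpr_ft (f787558 IH) (Lpe (f787551 IH) (Lpe (f85681 IH) (Lpn (LP (LK LD1_c13 LD2_c15 LD3_c4))))))
theorem f787560 : Led Lsl_gt (LP (LK LD1_c7 LD2_c30 LD3_c32)) = (LP (LK LD1_c13 LD2_c15 LD3_c4)) :=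
  Leop (Lpe (f787559 IH) (Lpn (LP (LK LD1_c7 LD2_c30 LD3_c32))))
theorem seed_1536 : LEOK LG_g (LK LD1_c7 LD2_c30 LD3_c32) :=
  Leoe_g (LK LD1_c7 LD2_c30 LD3_c32) (f787560 IH)
def v20524 : LQ := Led Lsl_et (LP (LK LD1_c6 LD2_c58 LD3_c58))
theorem f787632 : Led Lsl_et (LP (LK LD1_c6 LD2_c58 LD3_c58)) = v20524 :=
  Lrfl
theorem f754818 : Led Lsl_ef K59.v7369 = K59.v17065 :=
  Lgr Lrot114 (Lpe (K59.f664766 IH) (Lpe (K59.f93379 IH) (Lpr_dt (K56.f85126 IH) (Lpr_gt (K56.f664724 IH) (Lpe (K56.f664725 IH) (Lpe (K56.f651390 IH) (Lpq (K56.f634285 IH) (Lpe (K56.f527787 IH) (Lpr_dt (K5.f105630 IH) (Lpr_gt (K46.f649353 IH) (Lpq (K46.f649454 IH) (Lpr_df (K60.f754812 IH) (Lpn K59.v17065)))))))))))))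
theorem f754819 : Led Lsl_et K59.v7369 = K59.v17065 :=
  Lgr Lrot87 (Lpr_ef (f754818 IH) (Lpn K59.v17065))
theorem f787636 : Led Lsl_ff K59.v7369 = v20524 :=
  Lgr Lrot72 (Lpr_et (f754819 IH) (Lpe (K59.f754813 IH) (Lpe (K48.f664662 IH) (Lpr_ft (K56.f664686 IH) (Lpqs (K56.f709731 IH) (Lpr_et (f787632 IH) (Lpn v20524)))))))
theorem f787637 : Led Lsl_ft K59.v7369 = v20524 :=
  Lgr Lrot48 (Lpr_ff (f787636 IH) (Lpn v20524))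
theorem f776377 : Led Lsl_ct K59.v7369 = K59.v18903 :=
  Lgr Lrot8 (Lpe (K59.f664766 IH) (Lpr_dt (K58.f93374 IH) (Lpr_gt (K58.f66608 IH) (Lpr_dt (K3.f66591 IH) (Lpe (K59.f93826 IH) (Lpe (K59.f93382 IH) (Lpe (K59.f65261 IH) (Lpr_df (K59.f675488 IH) (Lpqs (K59.f754527 IH) (Lpr_gf (K59.f776375 IH) (Lpn K59.v18903)))))))))))
theorem f649631 : Led Lsl_gt (LP (LK LD1_c12 LD2_c28 LD3_c40)) = (LP (LK LD1_c6 LD2_c29 LD3_c9)) :=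
  Lre_g IH (LK LD1_c12 LD2_c28 LD3_c40) (LK LD1_c6 LD2_c29 LD3_c9) Lrfl Lrfl
theorem f776385 : Led Lsl_bt K59.v7369 = (LP (LK LD1_c12 LD2_c28 LD3_c40)) :=
  Lgr Lrot130 (Lpr_ct (f776377 IH) (Lpe (K59.f776376 IH) (Lpe (K46.f62060 IH) (Lpq (K59.f771922 IH) (Lpe (K59.f652660 IH) (Lpe (K32.f415351 IH) (Lpe (K51.f23285 IH) (Lpr_ct (K51.f415354 IH) (Lpr_gf (K51.f708819 IH) (Lpe (K51.f649118 IH) (Lpe (f649631 IH) (Lpn (LP (LK LD1_c12 LD2_c28 LD3_c40))))))))))))))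
theorem f776386 : Led Lsl_bf K59.v7369 = (LP (LK LD1_c12 LD2_c28 LD3_c40)) :=
  Lgr Lrot24 (Lpr_bt (f776385 IH) (Lpn (LP (LK LD1_c12 LD2_c28 LD3_c40))))
theorem f90368 : Led Lsl_et (LP (LK LD1_c12 LD2_c13 LD3_c59)) = (LP (LK LD1_c6 LD2_c19 LD3_c10)) :=
  Lre_e IH (LK LD1_c12 LD2_c13 LD3_c59) (LK LD1_c6 LD2_c19 LD3_c10) Lrfl Lrfl
theorem f787634 : Led Lsl_bf (LP (LK LD1_c12 LD2_c13 LD3_c59)) = v20524 :=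
  Lgr Lrot96 (Lpr_et (f90368 IH) (Lpe (K56.f709223 IH) (Lpr_et (f787632 IH) (Lpn v20524))))
theorem f787638 : Led Lsl_ff (LP (LK LD1_c12 LD2_c28 LD3_c40)) = (LP (LK LD1_c12 LD2_c13 LD3_c59)) :=
  Lgr Lrot25 (Lpe (f776386 IH) (Lpr_ft (f787637 IH) (Lpe (f787634 IH) (Lpn (LP (LK LD1_c12 LD2_c13 LD3_c59))))))
theorem f787639 : Led Lsl_ft (LP (LK LD1_c12 LD2_c13 LD3_c59)) = (LP (LK LD1_c12 LD2_c28 LD3_c40)) :=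
  Leop (Lpr_ff (f787638 IH) (Lpn (LP (LK LD1_c12 LD2_c13 LD3_c59))))
theorem seed_1537 : LEOK LG_f (LK LD1_c12 LD2_c13 LD3_c59) :=
  Leoe_f (LK LD1_c12 LD2_c13 LD3_c59) (f787639 IH)
def v20529 : LQ := Led Lsl_dt (LP (LK LD1_c6 LD2_c59 LD3_c1))
theorem f787673 : Led Lsl_dt (LP (LK LD1_c6 LD2_c59 LD3_c1)) = v20529 :=
  Lrfl
theorem f760082 : Led Lsl_ff (LP (LK LD1_c6 LD2_c20 LD3_c37)) = K57.v17490 :=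
  Lgr Lrot30 (Lpr_at (K57.f504586 IH) (Lpr_ft (K57.f647600 IH) (Lpqs (K57.f707794 IH) (Lpr_at (K57.f760078 IH) (Lpn K57.v17490)))))
theorem f760087 : Led Lsl_gf K59.v5429 = K57.v17490 :=
  Lgr Lrot47 (Lpe (K59.f647594 IH) (Lpe (K57.f504586 IH) (Lpr_ff (f760082 IH) (Lpn K57.v17490))))
theorem f25041 : Led Lsl_gt (LP (LK LD1_c6 LD2_c59 LD3_c1)) = (LP (LK LD1_c3 LD2_c28 LD3_c35)) :=
  Lre_g IH (LK LD1_c6 LD2_c59 LD3_c1) (LK LD1_c3 LD2_c28 LD3_c35) Lrfl Lrfl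
theorem f771437 : K57.v17490 = (LP (LK LD1_c6 LD2_c59 LD3_c1)) :=
  Lefun (Lecon (f760087 IH) (K59.f771434 IH)) (Lfl_gt (f25041 IH))
theorem f760086 : Led Lsl_ft (LP (LK LD1_c6 LD2_c20 LD3_c37)) = K57.v17490 :=
  Lgr Lrot48 (Lpr_ff (f760082 IH) (Lpn K57.v17490))
theorem f715897 : Led Lsl_dt (LP (LK LD1_c12 LD2_c15 LD3_c38)) = (LP (LK LD1_c6 LD2_c20 LD3_c37)) :=
  Lre_d IH (LK LD1_c12 LD2_c15 LD3_c38) (LK LD1_c6 LD2_c20 LD3_c37) Lrfl Lrfl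
theorem f787677 : Led Lsl_ff (LP (LK LD1_c12 LD2_c15 LD3_c38)) = v20529 :=
  Lgr Lrot19 (Lpr_dt (f715897 IH) (Lpr_ft (f760086 IH) (Lpqs (f771437 IH) (Lpr_dt (f787673 IH) (Lpn v20529)))))
theorem f647646 : Led Lsl_at (LP (LK LD1_c12 LD2_c15 LD3_c38)) = (LP (LK LD1_c6 LD2_c20 LD3_c39)) :=
  Lre_a IH (LK LD1_c12 LD2_c15 LD3_c38) (LK LD1_c6 LD2_c20 LD3_c39) Lrfl Lrfl
theorem f647658 : Led Lsl_gt (LP (LK LD1_c12 LD2_c15 LD3_c41)) = (LP (LK LD1_c6 LD2_c20 LD3_c39)) :=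
  Lre_g IH (LK LD1_c12 LD2_c15 LD3_c41) (LK LD1_c6 LD2_c20 LD3_c39) Lrfl Lrfl
theorem f787681 : Led Lsl_gf (LP (LK LD1_c12 LD2_c15 LD3_c41)) = v20529 :=
  Lgr Lrot47 (Lpr_gt (f647658 IH) (Lpe (f647646 IH) (Lpr_ff (f787677 IH) (Lpn v20529))))
theorem f113152 : Led Lsl_dt (LP (LK LD1_c4 LD2_c47 LD3_c55)) = (LP (LK LD1_c2 LD2_c21 LD3_c50)) :=
  Lre_d IH (LK LD1_c4 LD2_c47 LD3_c55) (LK LD1_c2 LD2_c21 LD3_c50) Lrfl Lrfl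
theorem f704713 : Led Lsl_ct (LP (LK LD1_c9 LD2_c28 LD3_c45)) = (LP (LK LD1_c4 LD2_c47 LD3_c55)) :=
  Lre_c IH (LK LD1_c9 LD2_c28 LD3_c45) (LK LD1_c4 LD2_c47 LD3_c55) Lrfl Lrfl
theorem f704714 : Led Lsl_gt (LP (LK LD1_c17 LD2_c28 LD3_c59)) = (LP (LK LD1_c9 LD2_c28 LD3_c45)) :=
  Lre_g IH (LK LD1_c17 LD2_c28 LD3_c59) (LK LD1_c9 LD2_c28 LD3_c45) Lrfl Lrfl
theorem f787682 : Led Lsl_ct (LP (LK LD1_c12 LD2_c15 LD3_c41)) = (LP (LK LD1_c17 LD2_c28 LD3_c59)) :=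
  Lgr Lrot152 (Lpr_gf (f787681 IH) (Lpe (f787673 IH) (Lpr_gt (f25041 IH) (Lpr_ct (K4.f62259 IH) (Lpqs (K59.f772753 IH) (Lpe (K59.f704711 IH) (Lpr_ct (K59.f92235 IH) (Lpe (f113152 IH) (Lpe (f704713 IH) (Lpe (f704714 IH) (Lpn (LP (LK LD1_c17 LD2_c28 LD3_c59)))))))))))))
theorem f787683 : Led Lsl_ct (LP (LK LD1_c12 LD2_c15 LD3_c41)) = (LP (LK LD1_c17 LD2_c28 LD3_c59)) :=
  Leop (Lpe (f787682 IH) (Lpn (LP (LK LD1_c12 LD2_c15 LD3_c41))))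
theorem seed_1538 : LEOK LG_c (LK LD1_c12 LD2_c15 LD3_c41) :=
  Leoe_c (LK LD1_c12 LD2_c15 LD3_c41) (f787683 IH)
def v17491 : LQ := Led Lsl_dt (LP (LK LD1_c6 LD2_c19 LD3_c46))
theorem f760093 : Led Lsl_dt (LP (LK LD1_c6 LD2_c19 LD3_c46)) = v17491 :=
  Lrfl
theorem f647583 : Led Lsl_dt (LP (LK LD1_c6 LD2_c20 LD3_c39)) = (LP (LK LD1_c3 LD2_c7 LD3_c52)) :=
  Lre_d IH (LK LD1_c6 LD2_c20 LD3_c39) (LK LD1_c3 LD2_c7 LD3_c52) Lrfl Lrfl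
theorem f760096 : Led Lsl_ff (LP (LK LD1_c6 LD2_c20 LD3_c39)) = v17491 :=
  Lgr Lrot19 (Lpr_dt (f647583 IH) (Lpr_ft (K57.f647600 IH) (Lpqs (K57.f707794 IH) (Lpr_dt (f760093 IH) (Lpn v17491)))))
theorem f760098 : Led Lsl_ft (LP (LK LD1_c6 LD2_c20 LD3_c39)) = v17491 :=
  Lgr Lrot48 (Lpr_ff (f760096 IH) (Lpn v17491))
theorem f787678 : Led Lsl_at v17491 = v20529 :=
  Lgr Lrot66 (Lpe (f760098 IH) (Lpe (f647646 IH) (Lpr_ff (f787677 IH) (Lpn v20529))))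
theorem f787687 : Led Lsl_gt (LP (LK LD1_c12 LD2_c15 LD3_c40)) = v20529 :=
  Lgr Lrot46 (Lpe (K59.f647595 IH) (Lpr_ft (f760098 IH) (Lpr_at (f787678 IH) (Lpn v20529))))
theorem f633491 : Led Lsl_dt (LP (LK LD1_c9 LD2_c28 LD3_c49)) = (LP (LK LD1_c17 LD2_c29 LD3_c6)) :=
  Lre_d IH (LK LD1_c9 LD2_c28 LD3_c49) (LK LD1_c17 LD2_c29 LD3_c6) Lrfl Lrfl
theorem f787676 : Led Lsl_df (LP (LK LD1_c6 LD2_c59 LD3_c1)) = v20529 :=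
  Lgr Lrot38 (Lpr_dt (f787673 IH) (Lpn v20529))
theorem f134527 : Led Lsl_dt (LP (LK LD1_c21 LD2_c39 LD3_c32)) = (LP (LK LD1_c12 LD2_c33 LD3_c24)) :=
  Lre_d IH (LK LD1_c21 LD2_c39 LD3_c32) (LK LD1_c12 LD2_c33 LD3_c24) Lrfl Lrfl
theorem f787688 : Led Lsl_gt (LP (LK LD1_c17 LD2_c29 LD3_c6)) = (LP (LK LD1_c21 LD2_c39 LD3_c32)) :=
  Lgr Lrot49 (Lpe (f633491 IH) (Lpe (K59.f772757 IH) (Lpr_cf (K57.f762048 IH) (Lpqs (K59.f772216 IH) (Lpr_gt (f787687 IH) (Lpe (f787676 IH) (Lpr_gt (f25041 IH) (Lpr_dt (K59.f62323 IH) (Lpr_cf (K59.f133810 IH) (Lpe (f134527 IH) (Lpn (LP (LK LD1_c21 LD2_c39 LD3_c32)))))))))))))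
theorem f787689 : Led Lsl_gt (LP (LK LD1_c17 LD2_c29 LD3_c6)) = (LP (LK LD1_c21 LD2_c39 LD3_c32)) :=
  Leop (Lpe (f787688 IH) (Lpn (LP (LK LD1_c17 LD2_c29 LD3_c6))))
theorem seed_1539 : LEOK LG_g (LK LD1_c17 LD2_c29 LD3_c6) :=
  Leoe_g (LK LD1_c17 LD2_c29 LD3_c6) (f787689 IH)
def v20534 : LQ := Led Lsl_gf (LP (LK LD1_c6 LD2_c59 LD3_c5))
theorem f787731 : Led Lsl_gf (LP (LK LD1_c6 LD2_c59 LD3_c5)) = v20534 :=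
  Lrfl
theorem f772760 : Led Lsl_bt (LP (LK LD1_c13 LD2_c15 LD3_c17)) = (LP (LK LD1_c22 LD2_c30 LD3_c18)) :=
  Lre_b IH (LK LD1_c13 LD2_c15 LD3_c17) (LK LD1_c22 LD2_c30 LD3_c18) Lrfl Lrfl
theorem f658218 : Led Lsl_ct (LP (LK LD1_c6 LD2_c59 LD3_c5)) = (LP (LK LD1_c13 LD2_c15 LD3_c17)) :=
  Lre_c IH (LK LD1_c6 LD2_c59 LD3_c5) (LK LD1_c13 LD2_c15 LD3_c17) Lrfl Lrfl
theorem f776600 : Led Lsl_dt (LP (LK LD1_c13 LD2_c15 LD3_c17)) = (LP (LK LD1_c21 LD2_c43 LD3_c3)) :=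
  Lgr Lrot42 (Lpr_df (K59.f776598 IH) (Lpn (LP (LK LD1_c21 LD2_c43 LD3_c3))))
def v8630 : LQ := Led Lsl_at K59.v2130
theorem f671829 : Led Lsl_at K59.v2130 = v8630 :=
  Lrfl
theorem f671832 : Led Lsl_gt (LP (LK LD1_c9 LD2_c28 LD3_c57)) = v8630 :=
  Lgr Lrot46 (Lpe (K59.f68439 IH) (Lpr_ft (K59.f509148 IH) (Lpr_at (f671829 IH) (Lpn v8630))))
theorem f68428 : Led Lsl_dt (LP (LK LD1_c4 LD2_c48 LD3_c2)) = (LP (LK LD1_c2 LD2_c21 LD3_c54)) :=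
  Lre_d IH (LK LD1_c4 LD2_c48 LD3_c2) (LK LD1_c2 LD2_c21 LD3_c54) Lrfl Lrfl
theorem f509147 : Led Lsl_dt K59.v551 = K59.v2130 :=
  Lgr Lrot60 (Lpr_ff (K59.f507819 IH) (Lpe (f68428 IH) (Lpr_ff (K59.f509146 IH) (Lpn K59.v2130))))
theorem f671831 : Led Lsl_df K59.v3183 = v8630 :=
  Lgr Lrot18 (Lpe (K59.f624551 IH) (Lpr_dt (f509147 IH) (Lpr_at (f671829 IH) (Lpn v8630))))
theorem f671834 : Led Lsl_dt K59.v3183 = v8630 :=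
  Lgr Lrot42 (Lpr_df (f671831 IH) (Lpn v8630))
theorem f771638 : v8630 = (LP (LK LD1_c6 LD2_c35 LD3_c23)) :=
  Lefun (Lecon (f671834 IH) (K59.f771589 IH)) (K57.f118591 IH)
theorem f118570 : Led Lsl_dt (LP (LK LD1_c6 LD2_c35 LD3_c23)) = (LP (LK LD1_c3 LD2_c16 LD3_c0)) :=
  Lre_d IH (LK LD1_c6 LD2_c35 LD3_c23) (LK LD1_c3 LD2_c16 LD3_c0) Lrfl Lrfl
theorem f772661 : Led Lsl_dt (LP (LK LD1_c13 LD2_c15 LD3_c18)) = (LP (LK LD1_c21 LD2_c43 LD3_c4)) :=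
  Lgr Lrot57 (Lpr_gf (K59.f772659 IH) (Lpe (K59.f415394 IH) (Lpr_gt (f671832 IH) (Lpqs (f771638 IH) (Lpr_dt (f118570 IH) (Lpr_gt (K46.f110220 IH) (Lpr_dt (K49.f103592 IH) (Lpe (K4.f118403 IH) (Lpe (K4.f118404 IH) (Lpe (K59.f118436 IH) (Lpn (LP (LK LD1_c21 LD2_c43 LD3_c4)))))))))))))
theorem f119123 : Led Lsl_dt (LP (LK LD1_c12 LD2_c36 LD3_c42)) = (LP (LK LD1_c6 LD2_c35 LD3_c19)) :=
  Lre_d IH (LK LD1_c12 LD2_c36 LD3_c42) (LK LD1_c6 LD2_c35 LD3_c19) Lrfl Lrfl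
theorem f776609 : Led Lsl_dt (LP (LK LD1_c21 LD2_c50 LD3_c9)) = (LP (LK LD1_c21 LD2_c42 LD3_c52)) :=
  Lgr Lrot120 (Lpr_cf (K59.f776604 IH) (Lpe (f772661 IH) (Lpe (K59.f93305 IH) (Lpe (K59.f62228 IH) (Lpr_cf (K59.f658230 IH) (Lpqs (K59.f772663 IH) (Lpe (f119123 IH) (Lpe (K59.f772671 IH) (Lpe (K59.f772710 IH) (Lpe (K59.f527833 IH) (Lpn (LP (LK LD1_c21 LD2_c42 LD3_c52)))))))))))))
theorem f772696 : Led Lsl_ft (LP (LK LD1_c6 LD2_c37 LD3_c2)) = (LP (LK LD1_c12 LD2_c36 LD3_c41)) :=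
  Lgr Lrot48 (Lpr_ff (K59.f772692 IH) (Lpn (LP (LK LD1_c12 LD2_c36 LD3_c41))))
theorem f772699 : Led Lsl_ff (LP (LK LD1_c12 LD2_c39 LD3_c55)) = (LP (LK LD1_c21 LD2_c42 LD3_c52)) :=
  Lgr Lrot23 (Lpr_ct (K59.f119201 IH) (Lpr_ft (f772696 IH) (Lpr_ct (K59.f527836 IH) (Lpn (LP (LK LD1_c21 LD2_c42 LD3_c52))))))
theorem f650650 : Led Lsl_dt (LP (LK LD1_c12 LD2_c39 LD3_c55)) = (LP (LK LD1_c21 LD2_c46 LD3_c9)) :=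
  Lre_d IH (LK LD1_c12 LD2_c39 LD3_c55) (LK LD1_c21 LD2_c46 LD3_c9) Lrfl Lrfl
theorem f776615 : Led Lsl_ff (LP (LK LD1_c21 LD2_c50 LD3_c9)) = (LP (LK LD1_c21 LD2_c46 LD3_c9)) :=
  Lgr Lrot19 (Lpr_dt (f776609 IH) (Lpe (f772699 IH) (Lpr_dt (f650650 IH) (Lpn (LP (LK LD1_c21 LD2_c46 LD3_c9))))))
theorem f776621 : Led Lsl_ft (LP (LK LD1_c21 LD2_c50 LD3_c9)) = (LP (LK LD1_c21 LD2_c46 LD3_c9)) :=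
  Lgr Lrot48 (Lpr_ff (f776615 IH) (Lpn (LP (LK LD1_c21 LD2_c46 LD3_c9))))
theorem f93323 : Led Lsl_at (LP (LK LD1_c21 LD2_c43 LD3_c35)) = (LP (LK LD1_c12 LD2_c42 LD3_c53)) :=
  Lgr Lrot66 (Lpr_ff (K3.f93321 IH) (Lpe (K3.f89100 IH) (Lpe (K3.f62268 IH) (Lpn (LP (LK LD1_c12 LD2_c42 LD3_c53))))))
theorem f93327 : Led Lsl_gt (LP (LK LD1_c21 LD2_c50 LD3_c10)) = (LP (LK LD1_c12 LD2_c42 LD3_c53)) :=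
  Lre_g IH (LK LD1_c21 LD2_c50 LD3_c10) (LK LD1_c12 LD2_c42 LD3_c53) Lrfl Lrfl
theorem f93328 : Led Lsl_gf (LP (LK LD1_c21 LD2_c50 LD3_c10)) = (LP (LK LD1_c21 LD2_c56 LD3_c11)) :=
  Lgr Lrot47 (Lpr_gt (f93327 IH) (Lpe (f93323 IH) (Lpr_ff (K3.f93321 IH) (Lpn (LP (LK LD1_c21 LD2_c56 LD3_c11))))))
theorem f776630 : Led Lsl_af (LP (LK LD1_c21 LD2_c50 LD3_c10)) = (LP (LK LD1_c21 LD2_c46 LD3_c9)) :=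
  Lgr Lrot31 (Lpr_gf (f93328 IH) (Lpe (K59.f89109 IH) (Lpr_ft (f776621 IH) (Lpn (LP (LK LD1_c21 LD2_c46 LD3_c9))))))
theorem f776632 : Led Lsl_ct (LP (LK LD1_c21 LD2_c43 LD3_c3)) = (LP (LK LD1_c21 LD2_c50 LD3_c10)) :=
  Lgr Lrot98 (Lpe (f776600 IH) (Lpe (f658218 IH) (Lpe (K59.f62224 IH) (Lpr_cf (K59.f658216 IH) (Lpqs (K59.f772681 IH) (Lpq (K59.f772682 IH) (Lpe (K59.f119163 IH) (Lpe (K59.f527833 IH) (Lpe (f776609 IH) (Lpr_ft (f776621 IH) (Lpe (f776630 IH) (Lpn (LP (LK LD1_c21 LD2_c50 LD3_c10))))))))))))))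
theorem f776634 : Led Lsl_cf (LP (LK LD1_c21 LD2_c43 LD3_c3)) = (LP (LK LD1_c21 LD2_c50 LD3_c10)) :=
  Lgr Lrot11 (Lpr_ct (f776632 IH) (Lpn (LP (LK LD1_c21 LD2_c50 LD3_c10))))
theorem f119185 : Led Lsl_dt (LP (LK LD1_c12 LD2_c40 LD3_c19)) = (LP (LK LD1_c6 LD2_c37 LD3_c14)) :=
  Lre_d IH (LK LD1_c12 LD2_c40 LD3_c19) (LK LD1_c6 LD2_c37 LD3_c14) Lrfl Lrfl
theorem f774986 : Led Lsl_at (LP (LK LD1_c9 LD2_c28 LD3_c59)) = (LP (LK LD1_c6 LD2_c37 LD3_c11)) :=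
  Lgr Lrot100 (Lpr_af (K59.f774959 IH) (Lpn (LP (LK LD1_c6 LD2_c37 LD3_c11))))
theorem f130846 : Led Lsl_gt (LP (LK LD1_c12 LD2_c40 LD3_c13)) = (LP (LK LD1_c6 LD2_c37 LD3_c11)) :=
  Lre_g IH (LK LD1_c12 LD2_c40 LD3_c13) (LK LD1_c6 LD2_c37 LD3_c11) Lrfl Lrfl
theorem f774992 : Led Lsl_gt K59.v8631 = (LP (LK LD1_c12 LD2_c40 LD3_c13)) :=
  Lgr Lrot5 (Lpe (K59.f671837 IH) (Lpr_at (f774986 IH) (Lpe (f130846 IH) (Lpn (LP (LK LD1_c12 LD2_c40 LD3_c13))))))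
theorem f787732 : Led Lsl_ct (LP (LK LD1_c12 LD2_c40 LD3_c13)) = v20534 :=
  Lgr Lrot152 (Lpe (f774992 IH) (Lpqs (K59.f771780 IH) (Lpe (f119185 IH) (Lpe (K59.f777421 IH) (Lpr_ct (K3.f89097 IH) (Lpe (f93328 IH) (Lpe (f776634 IH) (Lpe (f776600 IH) (Lpe (f658218 IH) (Lpr_gf (f787731 IH) (Lpn v20534)))))))))))
theorem f650749 : Led Lsl_bt (LP (LK LD1_c12 LD2_c40 LD3_c18)) = (LP (LK LD1_c6 LD2_c37 LD3_c14)) :=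
  Lre_b IH (LK LD1_c12 LD2_c40 LD3_c18) (LK LD1_c6 LD2_c37 LD3_c14) Lrfl Lrfl
theorem f68440 : Led Lsl_bt (LP (LK LD1_c17 LD2_c29 LD3_c22)) = (LP (LK LD1_c9 LD2_c28 LD3_c59)) :=
  Lre_b IH (LK LD1_c17 LD2_c29 LD3_c22) (LK LD1_c9 LD2_c28 LD3_c59) Lrfl Lrfl
theorem f119191 : Led Lsl_bt (LP (LK LD1_c6 LD2_c37 LD3_c14)) = (LP (LK LD1_c12 LD2_c40 LD3_c18)) :=
  Lre_b IH (LK LD1_c6 LD2_c37 LD3_c14) (LK LD1_c12 LD2_c40 LD3_c18) Lrfl Lrfl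
theorem f774961 : Led Lsl_ff (LP (LK LD1_c17 LD2_c29 LD3_c22)) = (LP (LK LD1_c12 LD2_c40 LD3_c18)) :=
  Lgr Lrot25 (Lpr_bt (f68440 IH) (Lpr_ft (K59.f671838 IH) (Lpqs (K59.f771780 IH) (Lpr_bt (f119191 IH) (Lpn (LP (LK LD1_c12 LD2_c40 LD3_c18)))))))
theorem f774969 : Led Lsl_ft (LP (LK LD1_c17 LD2_c29 LD3_c22)) = (LP (LK LD1_c12 LD2_c40 LD3_c18)) :=
  Lgr Lrot48 (Lpr_ff (f774961 IH) (Lpn (LP (LK LD1_c12 LD2_c40 LD3_c18))))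
theorem f68415 : Led Lsl_ct (LP (LK LD1_c9 LD2_c28 LD3_c60)) = (LP (LK LD1_c17 LD2_c29 LD3_c22)) :=
  Lre_c IH (LK LD1_c9 LD2_c28 LD3_c60) (LK LD1_c17 LD2_c29 LD3_c22) Lrfl Lrfl
theorem f507392 : Led Lsl_at (LP (LK LD1_c6 LD2_c22 LD3_c27)) = (LP (LK LD1_c9 LD2_c18 LD3_c50)) :=
  Lgr Lrot51 (Lpe (K50.f444023 IH) (Lpr_af (K51.f507369 IH) (Lpe (K50.f415381 IH) (Lpn (LP (LK LD1_c9 LD2_c18 LD3_c50))))))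
theorem f507396 : Led Lsl_af (LP (LK LD1_c6 LD2_c22 LD3_c27)) = (LP (LK LD1_c9 LD2_c18 LD3_c50)) :=
  Lgr Lrot0 (Lpr_at (f507392 IH) (Lpn (LP (LK LD1_c9 LD2_c18 LD3_c50))))
theorem f507398 : Led Lsl_ft (LP (LK LD1_c6 LD2_c22 LD3_c28)) = (LP (LK LD1_c9 LD2_c18 LD3_c50)) :=
  Lgr Lrot2 (Lpr_gt (K32.f84031 IH) (Lpr_gt (K50.f84054 IH) (Lpr_af (f507396 IH) (Lpn (LP (LK LD1_c9 LD2_c18 LD3_c50))))))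
theorem f507402 : Led Lsl_ff (LP (LK LD1_c6 LD2_c22 LD3_c28)) = (LP (LK LD1_c9 LD2_c18 LD3_c50)) :=
  Lgr Lrot3 (Lpr_ft (f507398 IH) (Lpn (LP (LK LD1_c9 LD2_c18 LD3_c50))))
theorem f435644 : Led Lsl_bt (LP (LK LD1_c6 LD2_c22 LD3_c28)) = (LP (LK LD1_c12 LD2_c18 LD3_c27)) :=
  Lre_b IH (LK LD1_c6 LD2_c22 LD3_c28) (LK LD1_c12 LD2_c18 LD3_c27) Lrfl Lrfl
theorem f153558 : Led Lsl_bt (LP (LK LD1_c17 LD2_c14 LD3_c8)) = (LP (LK LD1_c9 LD2_c18 LD3_c50)) :=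
  Lre_b IH (LK LD1_c17 LD2_c14 LD3_c8) (LK LD1_c9 LD2_c18 LD3_c50) Lrfl Lrfl
theorem f507404 : Led Lsl_ft (LP (LK LD1_c12 LD2_c18 LD3_c27)) = (LP (LK LD1_c17 LD2_c14 LD3_c8)) :=
  Lgr Lrot75 (Lpe (f435644 IH) (Lpr_ff (f507402 IH) (Lpe (f153558 IH) (Lpn (LP (LK LD1_c17 LD2_c14 LD3_c8))))))
theorem f435639 : Led Lsl_bt (LP (LK LD1_c12 LD2_c18 LD3_c27)) = (LP (LK LD1_c6 LD2_c22 LD3_c28)) :=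
  Lre_b IH (LK LD1_c12 LD2_c18 LD3_c27) (LK LD1_c6 LD2_c22 LD3_c28) Lrfl Lrfl
theorem f416958 : Led Lsl_bt (LP (LK LD1_c3 LD2_c19 LD3_c29)) = (LP (LK LD1_c6 LD2_c42 LD3_c54)) :=
  Lre_b IH (LK LD1_c3 LD2_c19 LD3_c29) (LK LD1_c6 LD2_c42 LD3_c54) Lrfl Lrfl
theorem f435640 : Led Lsl_df (LP (LK LD1_c12 LD2_c18 LD3_c27)) = (LP (LK LD1_c6 LD2_c42 LD3_c54)) :=
  Lgr Lrot12 (Lpr_bt (f435639 IH) (Lpr_dt (K32.f435637 IH) (Lpr_bt (f416958 IH) (Lpn (LP (LK LD1_c6 LD2_c42 LD3_c54))))))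
theorem f415387 : Led Lsl_bt (LP (LK LD1_c9 LD2_c18 LD3_c50)) = (LP (LK LD1_c17 LD2_c14 LD3_c8)) :=
  Lre_b IH (LK LD1_c9 LD2_c18 LD3_c50) (LK LD1_c17 LD2_c14 LD3_c8) Lrfl Lrfl
theorem f68397 : Led Lsl_bt (LP (LK LD1_c9 LD2_c28 LD3_c60)) = (LP (LK LD1_c4 LD2_c48 LD3_c4)) :=
  Lre_b IH (LK LD1_c9 LD2_c28 LD3_c60) (LK LD1_c4 LD2_c48 LD3_c4) Lrfl Lrfl
theorem f415388 : Led Lsl_dt (LP (LK LD1_c17 LD2_c14 LD3_c8)) = (LP (LK LD1_c9 LD2_c28 LD3_c60)) :=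
  Lgr Lrot79 (Lpe (f415387 IH) (Lpr_df (K50.f415385 IH) (Lpe (f68397 IH) (Lpn (LP (LK LD1_c9 LD2_c28 LD3_c60))))))
theorem f507406 : Led Lsl_ff (LP (LK LD1_c6 LD2_c42 LD3_c54)) = (LP (LK LD1_c9 LD2_c28 LD3_c60)) :=
  Lgr Lrot19 (Lpe (f435640 IH) (Lpr_ft (f507404 IH) (Lpr_dt (f415388 IH) (Lpn (LP (LK LD1_c9 LD2_c28 LD3_c60))))))
theorem f507410 : Led Lsl_ft (LP (LK LD1_c6 LD2_c42 LD3_c54)) = (LP (LK LD1_c9 LD2_c28 LD3_c60)) :=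
  Lgr Lrot48 (Lpr_ff (f507406 IH) (Lpn (LP (LK LD1_c9 LD2_c28 LD3_c60))))
theorem f774971 : Led Lsl_cf (LP (LK LD1_c6 LD2_c42 LD3_c54)) = (LP (LK LD1_c12 LD2_c40 LD3_c18)) :=
  Lgr Lrot108 (Lpr_ft (f507410 IH) (Lpr_ct (f68415 IH) (Lpr_ft (f774969 IH) (Lpn (LP (LK LD1_c12 LD2_c40 LD3_c18))))))
theorem f435671 : Led Lsl_gt (LP (LK LD1_c12 LD2_c50 LD3_c43)) = (LP (LK LD1_c6 LD2_c42 LD3_c54)) :=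
  Lre_g IH (LK LD1_c12 LD2_c50 LD3_c43) (LK LD1_c6 LD2_c42 LD3_c54) Lrfl Lrfl
theorem f435674 : Led Lsl_ct (LP (LK LD1_c21 LD2_c59 LD3_c6)) = (LP (LK LD1_c12 LD2_c50 LD3_c43)) :=
  Lre_c IH (LK LD1_c21 LD2_c59 LD3_c6) (LK LD1_c12 LD2_c50 LD3_c43) Lrfl Lrfl
theorem f507423 : Led Lsl_bt (LP (LK LD1_c21 LD2_c59 LD3_c6)) = (LP (LK LD1_c30 LD2_c14 LD3_c29)) :=
  Lre_b IH (LK LD1_c21 LD2_c59 LD3_c6) (LK LD1_c30 LD2_c14 LD3_c29) Lrfl Lrfl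
theorem f787733 : Led Lsl_gt (LP (LK LD1_c22 LD2_c30 LD3_c18)) = (LP (LK LD1_c30 LD2_c14 LD3_c29)) :=
  Lgr Lrot164 (Lpe (f772760 IH) (Lpr_ct (K59.f658217 IH) (Lpr_gf (f787731 IH) (Lpe (f787732 IH) (Lpe (f774992 IH) (Lpqs (K59.f771780 IH) (Lpe (f650749 IH) (Lpe (f774971 IH) (Lpe (f435671 IH) (Lpe (f435674 IH) (Lpr_bt (f507423 IH) (Lpn (LP (LK LD1_c30 LD2_c14 LD3_c29))))))))))))))
theorem f787734 : Led Lsl_gt (LP (LK LD1_c22 LD2_c30 LD3_c18)) = (LP (LK LD1_c30 LD2_c14 LD3_c29)) :=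
  Leop (Lpe (f787733 IH) (Lpn (LP (LK LD1_c22 LD2_c30 LD3_c18))))
theorem seed_1540 : LEOK LG_g (LK LD1_c22 LD2_c30 LD3_c18) :=
  Leoe_g (LK LD1_c22 LD2_c30 LD3_c18) (f787734 IH)
theorem f787735 : Led Lsl_cf (LP (LK LD1_c12 LD2_c40 LD3_c13)) = v20534 :=
  Lgr Lrot11 (Lpr_ct (f787732 IH) (Lpn v20534))
def v6051 : LQ := Led Lsl_bt (LP (LK LD1_c3 LD2_c16 LD3_c57))
theorem f650747 : Led Lsl_bt (LP (LK LD1_c3 LD2_c16 LD3_c57)) = v6051 :=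
  Lrfl
def v2081 : LQ := Led Lsl_bt (LP (LK LD1_c1 LD2_c35 LD3_c5))
theorem f508732 : Led Lsl_bt (LP (LK LD1_c1 LD2_c35 LD3_c5)) = v2081 :=
  Lrfl
theorem f508733 : Led Lsl_bf (LP (LK LD1_c1 LD2_c35 LD3_c5)) = v2081 :=
  Lgr Lrot24 (Lpr_bt (f508732 IH) (Lpn v2081))
theorem f650750 : Led Lsl_df v2081 = v6051 :=
  Lgr Lrot12 (Lpe (f508733 IH) (Lpr_dt (K46.f119183 IH) (Lpr_bt (f650747 IH) (Lpn v6051))))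
theorem f650751 : Led Lsl_dt v2081 = v6051 :=
  Lgr Lrot42 (Lpr_df (f650750 IH) (Lpn v6051))
def v8509 : LQ := Led Lsl_bt K46.v2071
theorem f671481 : Led Lsl_bt K46.v2071 = v8509 :=
  Lrfl
theorem f671483 : Led Lsl_ff v2081 = v8509 :=
  Lgr Lrot25 (Lpe (f508733 IH) (Lpqs (K46.f651831 IH) (Lpe (K56.f650427 IH) (Lpr_bt (f671481 IH) (Lpn v8509)))))
theorem f771610 : v8509 = (LP (LK LD1_c1 LD2_c8 LD3_c6)) :=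
  Lefun (Lecon (f671481 IH) ((K46.f651829 IH).symm.trans (K59.f771584 IH))) (K59.f68379 IH)
theorem f771667 : v2081 = K32.v1358 :=
  Lefun (Lecon (Lfl_ff (f671483 IH)) (f771610 IH)) (K32.f495108 IH)
theorem f771767 : v6051 = (LP (LK LD1_c1 LD2_c36 LD3_c9)) :=
  Lefun (Lecon (f650751 IH) ((f771667 IH).trans (K32.f506940 IH))) (K32.f415411 IH)
theorem f787737 : Led Lsl_bf (LP (LK LD1_c12 LD2_c15 LD3_c41)) = v20534 :=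
  Lgr Lrot165 (Lpr_gt (f647658 IH) (Lpr_ct (K51.f647596 IH) (Lpe (K51.f708214 IH) (Lpe (K51.f24652 IH) (Lpr_bt (K48.f24651 IH) (Lpr_gt (K32.f444275 IH) (Lpq (f771767 IH) (Lpe (f650747 IH) (Lpr_ct (K59.f119186 IH) (Lpq (K59.f771780 IH) (Lpr_gt (f774992 IH) (Lpr_cf (f787735 IH) (Lpn v20534)))))))))))))
theorem f787738 : Led Lsl_bt (LP (LK LD1_c12 LD2_c15 LD3_c41)) = v20534 :=
  Lgr Lrot127 (Lpr_bf (f787737 IH) (Lpn v20534))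
theorem f652085 : Led Lsl_dt (LP (LK LD1_c12 LD2_c49 LD3_c46)) = (LP (LK LD1_c6 LD2_c42 LD3_c19)) :=
  Lre_d IH (LK LD1_c12 LD2_c49 LD3_c46) (LK LD1_c6 LD2_c42 LD3_c19) Lrfl Lrfl
theorem f773037 : Led Lsl_bf (LP (LK LD1_c12 LD2_c49 LD3_c46)) = (LP (LK LD1_c6 LD2_c59 LD3_c5)) :=
  Lgr Lrot93 (Lpr_dt (f652085 IH) (Lpq (K59.f772640 IH) (Lpe (K59.f658214 IH) (Lpr_dt (K59.f62224 IH) (Lpn (LP (LK LD1_c6 LD2_c59 LD3_c5)))))))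
theorem f773039 : Led Lsl_bt (LP (LK LD1_c12 LD2_c49 LD3_c46)) = (LP (LK LD1_c6 LD2_c59 LD3_c5)) :=
  Lgr Lrot127 (Lpr_bf (f773037 IH) (Lpn (LP (LK LD1_c6 LD2_c59 LD3_c5))))
theorem f652177 : Led Lsl_ct (LP (LK LD1_c12 LD2_c49 LD3_c46)) = (LP (LK LD1_c21 LD2_c58 LD3_c1)) :=
  Lre_c IH (LK LD1_c12 LD2_c49 LD3_c46) (LK LD1_c21 LD2_c58 LD3_c1) Lrfl Lrfl
theorem f20160 : Led Lsl_ct (LP (LK LD1_c17 LD2_c12 LD3_c46)) = (LP (LK LD1_c9 LD2_c17 LD3_c43)) :=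
  Lre_c IH (LK LD1_c17 LD2_c12 LD3_c46) (LK LD1_c9 LD2_c17 LD3_c43) Lrfl Lrfl
theorem f652104 : Led Lsl_ct (LP (LK LD1_c6 LD2_c42 LD3_c30)) = (LP (LK LD1_c12 LD2_c50 LD3_c1)) :=
  Lre_c IH (LK LD1_c6 LD2_c42 LD3_c30) (LK LD1_c12 LD2_c50 LD3_c1) Lrfl Lrfl
theorem f662971 : Led Lsl_af (LP (LK LD1_c17 LD2_c12 LD3_c46)) = (LP (LK LD1_c12 LD2_c50 LD3_c1)) :=
  Lgr Lrot68 (Lpr_ct (f20160 IH) (Lpr_at (K48.f662967 IH) (Lpr_ct (f652104 IH) (Lpn (LP (LK LD1_c12 LD2_c50 LD3_c1))))))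
theorem f663572 : Led Lsl_at (LP (LK LD1_c17 LD2_c12 LD3_c46)) = (LP (LK LD1_c12 LD2_c50 LD3_c1)) :=
  Lgr Lrot100 (Lpr_af (f662971 IH) (Lpn (LP (LK LD1_c12 LD2_c50 LD3_c1))))
theorem f652305 : Led Lsl_ft (LP (LK LD1_c9 LD2_c17 LD3_c43)) = K48.v6252 :=
  Lgr Lrot48 (Lpr_ff (K48.f652303 IH) (Lpn K48.v6252))
theorem f652052 : Led Lsl_ct (LP (LK LD1_c6 LD2_c42 LD3_c31)) = (LP (LK LD1_c12 LD2_c50 LD3_c2)) :=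
  Lre_c IH (LK LD1_c6 LD2_c42 LD3_c31) (LK LD1_c12 LD2_c50 LD3_c2) Lrfl Lrfl
theorem f662955 : Led Lsl_ff (LP (LK LD1_c17 LD2_c12 LD3_c46)) = (LP (LK LD1_c12 LD2_c50 LD3_c2)) :=
  Lgr Lrot23 (Lpr_ct (f20160 IH) (Lpr_ft (f652305 IH) (Lpqs (K48.f662946 IH) (Lpr_ct (f652052 IH) (Lpn (LP (LK LD1_c12 LD2_c50 LD3_c2)))))))
theorem f652170 : Led Lsl_dt (LP (LK LD1_c6 LD2_c42 LD3_c19)) = (LP (LK LD1_c12 LD2_c49 LD3_c46)) :=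
  Lre_d IH (LK LD1_c6 LD2_c42 LD3_c19) (LK LD1_c12 LD2_c49 LD3_c46) Lrfl Lrfl
theorem f652086 : Led Lsl_ct (LP (LK LD1_c21 LD2_c58 LD3_c1)) = (LP (LK LD1_c12 LD2_c49 LD3_c46)) :=
  Lre_c IH (LK LD1_c21 LD2_c58 LD3_c1) (LK LD1_c12 LD2_c49 LD3_c46) Lrfl Lrfl
theorem f652171 : Led Lsl_gf (LP (LK LD1_c21 LD2_c58 LD3_c1)) = (LP (LK LD1_c12 LD2_c50 LD3_c2)) :=
  Lgr Lrot104 (Lpr_ct (f652086 IH) (Lpe (f652170 IH) (Lpe (K59.f141159 IH) (Lpe (K48.f141155 IH) (Lpe (K9.f139802 IH) (Lpe (K46.f24867 IH) (Lpe (K48.f24947 IH) (Lpr_gt (K46.f652168 IH) (Lpr_ct (f652052 IH) (Lpn (LP (LK LD1_c12 LD2_c50 LD3_c2))))))))))))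
theorem f663575 : Led Lsl_gt (LP (LK LD1_c21 LD2_c58 LD3_c1)) = (LP (LK LD1_c12 LD2_c50 LD3_c1)) :=
  Lgr Lrot46 (Lpr_gf (f652171 IH) (Lpe (f662955 IH) (Lpr_at (f663572 IH) (Lpn (LP (LK LD1_c12 LD2_c50 LD3_c1))))))
theorem f709165 : Led Lsl_bf K51.v13766 = (LP (LK LD1_c6 LD2_c42 LD3_c30)) :=
  Lgr Lrot24 (Lpr_bt (K51.f709163 IH) (Lpn (LP (LK LD1_c6 LD2_c42 LD3_c30))))
theorem f92230 : Led Lsl_dt (LP (LK LD1_c2 LD2_c21 LD3_c52)) = (LP (LK LD1_c1 LD2_c8 LD3_c5)) :=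
  Lre_d IH (LK LD1_c2 LD2_c21 LD3_c52) (LK LD1_c1 LD2_c8 LD3_c5) Lrfl Lrfl
theorem f704752 : Led Lsl_gf (LP (LK LD1_c4 LD2_c47 LD3_c58)) = K51.v13766 :=
  Lgr Lrot138 (Lpr_dt (K59.f113151 IH) (Lpr_gt (K57.f92165 IH) (Lpe (f92230 IH) (Lpe (K6.f113132 IH) (Lpe (K33.f143747 IH) (Lpr_ef (K5.f126663 IH) (Lpr_dt (K5.f112969 IH) (Lpr_gt (K51.f112970 IH) (Lpe (K51.f126668 IH) (Lpr_et (K51.f704751 IH) (Lpn K51.v13766)))))))))))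
theorem f633469 : Led Lsl_ct (LP (LK LD1_c4 LD2_c47 LD3_c58)) = (LP (LK LD1_c9 LD2_c28 LD3_c49)) :=
  Lre_c IH (LK LD1_c4 LD2_c47 LD3_c58) (LK LD1_c9 LD2_c28 LD3_c49) Lrfl Lrfl
theorem f787739 : Led Lsl_gf (LP (LK LD1_c17 LD2_c28 LD3_c59)) = (LP (LK LD1_c9 LD2_c28 LD3_c49)) :=
  Lgr Lrot129 (Lpe (f787682 IH) (Lpr_bt (f787738 IH) (Lpe (f787731 IH) (Lpe (f773039 IH) (Lpr_ct (f652177 IH) (Lpr_gt (f663575 IH) (Lpe (f652104 IH) (Lpe (f709165 IH) (Lpe (f704752 IH) (Lpr_ct (f633469 IH) (Lpn (LP (LK LD1_c9 LD2_c28 LD3_c49)))))))))))))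
theorem f787740 : Led Lsl_gt (LP (LK LD1_c9 LD2_c28 LD3_c49)) = (LP (LK LD1_c17 LD2_c28 LD3_c59)) :=
  Leop (Lpr_gf (f787739 IH) (Lpn (LP (LK LD1_c9 LD2_c28 LD3_c49))))
theorem seed_1541 : LEOK LG_g (LK LD1_c9 LD2_c28 LD3_c49) :=
  Leoe_g (LK LD1_c9 LD2_c28 LD3_c49) (f787740 IH)
def v18895 : LQ := Led Lsl_gt (LP (LK LD1_c6 LD2_c34 LD3_c40))
theorem f776329 : Led Lsl_gt (LP (LK LD1_c6 LD2_c34 LD3_c40)) = v18895 :=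
  Lrfl
def v20537 : LQ := Led Lsl_dt (LP (LK LD1_c6 LD2_c59 LD3_c7))
theorem f787761 : Led Lsl_dt (LP (LK LD1_c6 LD2_c59 LD3_c7)) = v20537 :=
  Lrfl
theorem f650451 : Led Lsl_dt (LP (LK LD1_c12 LD2_c36 LD3_c43)) = (LP (LK LD1_c12 LD2_c3 LD3_c2)) :=
  Lgr Lrot42 (Lpr_df (K46.f650449 IH) (Lpn (LP (LK LD1_c12 LD2_c3 LD3_c2))))
theorem f787767 : Led Lsl_cf (LP (LK LD1_c12 LD2_c3 LD3_c2)) = v20537 :=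
  Lgr Lrot14 (Lpe (f650451 IH) (Lpe (K46.f119116 IH) (Lpe (K4.f118393 IH) (Lpe (K57.f93559 IH) (Lpq (K59.f772663 IH) (Lpe (K59.f658230 IH) (Lpr_gt (K59.f62227 IH) (Lpr_dt (K3.f62264 IH) (Lpr_gt (K59.f62662 IH) (Lpr_dt (f787761 IH) (Lpn v20537)))))))))))
def v19332 : LQ := Led Lsl_dt (LP (LK LD1_c6 LD2_c40 LD3_c50))
theorem f779127 : Led Lsl_dt (LP (LK LD1_c6 LD2_c40 LD3_c50)) = v19332 :=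
  Lrfl
theorem f453912 : Led Lsl_ct (LP (LK LD1_c6 LD2_c36 LD3_c14)) = (LP (LK LD1_c12 LD2_c38 LD3_c36)) :=
  Lre_c IH (LK LD1_c6 LD2_c36 LD3_c14) (LK LD1_c12 LD2_c38 LD3_c36) Lrfl Lrfl
theorem f624440 : Led Lsl_ff (LP (LK LD1_c6 LD2_c40 LD3_c51)) = (LP (LK LD1_c12 LD2_c38 LD3_c36)) :=
  Lgr Lrot23 (Lpr_ct (K57.f453903 IH) (Lpr_ft (K59.f624433 IH) (Lpr_ct (f453912 IH) (Lpn (LP (LK LD1_c12 LD2_c38 LD3_c36))))))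
theorem f624389 : Led Lsl_af (LP (LK LD1_c12 LD2_c38 LD3_c29)) = (LP (LK LD1_c6 LD2_c40 LD3_c51)) :=
  Lgr Lrot0 (Lpr_at (K59.f624378 IH) (Lpn (LP (LK LD1_c6 LD2_c40 LD3_c51))))
theorem f453936 : Led Lsl_ct (LP (LK LD1_c6 LD2_c41 LD3_c6)) = (LP (LK LD1_c3 LD2_c18 LD3_c36)) :=
  Lre_c IH (LK LD1_c6 LD2_c41 LD3_c6) (LK LD1_c3 LD2_c18 LD3_c36) Lrfl Lrfl
theorem f624248 : Led Lsl_ff (LP (LK LD1_c6 LD2_c41 LD3_c6)) = (LP (LK LD1_c12 LD2_c38 LD3_c29)) :=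
  Lgr Lrot23 (Lpr_ct (f453936 IH) (Lpr_ft (K59.f624243 IH) (Lpr_ct (K59.f624247 IH) (Lpn (LP (LK LD1_c12 LD2_c38 LD3_c29))))))
theorem f624442 : Led Lsl_at (LP (LK LD1_c6 LD2_c41 LD3_c6)) = (LP (LK LD1_c12 LD2_c38 LD3_c36)) :=
  Lgr Lrot66 (Lpr_ff (f624248 IH) (Lpr_af (f624389 IH) (Lpr_ff (f624440 IH) (Lpn (LP (LK LD1_c12 LD2_c38 LD3_c36))))))
theorem f624444 : Led Lsl_af (LP (LK LD1_c6 LD2_c41 LD3_c6)) = (LP (LK LD1_c12 LD2_c38 LD3_c36)) :=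
  Lgr Lrot0 (Lpr_at (f624442 IH) (Lpn (LP (LK LD1_c12 LD2_c38 LD3_c36))))
theorem f453926 : Led Lsl_ct (LP (LK LD1_c12 LD2_c38 LD3_c36)) = (LP (LK LD1_c6 LD2_c36 LD3_c14)) :=
  Lre_c IH (LK LD1_c12 LD2_c38 LD3_c36) (LK LD1_c6 LD2_c36 LD3_c14) Lrfl Lrfl
theorem f624431 : Led Lsl_ft (LP (LK LD1_c6 LD2_c40 LD3_c51)) = (LP (LK LD1_c12 LD2_c38 LD3_c36)) :=
  Lgr Lrot4 (Lpe (K57.f508854 IH) (Lpr_ff (K59.f624424 IH) (Lpe (f453926 IH) (Lpn (LP (LK LD1_c12 LD2_c38 LD3_c36))))))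
theorem f624448 : Led Lsl_gf (LP (LK LD1_c12 LD2_c46 LD3_c9)) = (LP (LK LD1_c6 LD2_c40 LD3_c51)) :=
  Lgr Lrot47 (Lpr_gt (K57.f624397 IH) (Lpr_af (f624444 IH) (Lpe (f624431 IH) (Lpn (LP (LK LD1_c6 LD2_c40 LD3_c51))))))
theorem f675672 : Led Lsl_ct K35.v3168 = K56.v9394 :=
  Lgr Lrot7 (Lpe (K56.f624504 IH) (Lpe (K32.f453865 IH) (Lpe (K32.f130874 IH) (Lpe (K5.f62968 IH) (Lpe (K57.f453893 IH) (Lpr_gt (K46.f65677 IH) (Lpr_dt (K46.f65704 IH) (Lpr_gt (K46.f65705 IH) (Lpr_dt (K56.f675669 IH) (Lpn K56.v9394))))))))))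
theorem f755113 : Led Lsl_cf K48.v5235 = K59.v17107 :=
  Lgr Lrot1 (Lpe (K48.f646722 IH) (Lpr_ct (K32.f443622 IH) (Lpr_at (K59.f755111 IH) (Lpn K59.v17107))))
theorem f779133 : Led Lsl_gf K59.v17107 = v19332 :=
  Lgr Lrot179 (Lpe (f755113 IH) (Lpr_gt (K59.f663278 IH) (Lpr_ct (f675672 IH) (Lpe (K56.f675668 IH) (Lpe (K57.f624450 IH) (Lpr_gf (f624448 IH) (Lpe (K57.f508854 IH) (Lpe (K59.f508829 IH) (Lpr_dt (f779127 IH) (Lpn v19332))))))))))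
theorem f779135 : Led Lsl_gt K59.v17000 = v19332 :=
  Lgr Lrot5 (Lpe (K59.f754115 IH) (Lpr_at (K59.f755111 IH) (Lpr_gf (f779133 IH) (Lpn v19332))))
theorem f769168 : Led Lsl_ft K59.v8508 = K59.v17106 :=
  Lgr Lrot48 (Lpr_ff (K59.f769167 IH) (Lpn K59.v17106))
theorem f779136 : Led Lsl_at K59.v17106 = v19332 :=
  Lgr Lrot26 (Lpe (f769168 IH) (Lpr_gt (K59.f754121 IH) (Lpr_gt (f779135 IH) (Lpn v19332))))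
theorem f779137 : Led Lsl_ef (LP (LK LD1_c12 LD2_c3 LD3_c2)) = v19332 :=
  Lgr Lrot20 (Lpr_at (K59.f777402 IH) (Lpe (K59.f777397 IH) (Lpr_at (f779136 IH) (Lpn v19332))))
theorem f779138 : Led Lsl_et (LP (LK LD1_c12 LD2_c3 LD3_c2)) = v19332 :=
  Lgr Lrot87 (Lpr_ef (f779137 IH) (Lpn v19332))
theorem f624394 : Led Lsl_gt (LP (LK LD1_c3 LD2_c18 LD3_c36)) = (LP (LK LD1_c6 LD2_c40 LD3_c50)) :=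
  Lgr Lrot5 (Lpr_ft (K59.f624243 IH) (Lpr_at (K59.f624374 IH) (Lpe (K59.f508829 IH) (Lpn (LP (LK LD1_c6 LD2_c40 LD3_c50))))))
theorem f654174 : Led Lsl_at (LP (LK LD1_c6 LD2_c40 LD3_c17)) = K46.v6116 :=
  Lgr Lrot100 (Lpr_af (K56.f654173 IH) (Lpn K46.v6116))
theorem f654224 : Led Lsl_af K56.v6572 = (LP (LK LD1_c6 LD2_c40 LD3_c7)) :=
  Lgr Lrot45 (Lpr_ft (K56.f654223 IH) (Lpr_at (f654174 IH) (Lpe (K46.f654197 IH) (Lpn (LP (LK LD1_c6 LD2_c40 LD3_c7))))))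
theorem f777828 : Led Lsl_gt K46.v6116 = K59.v6768 :=
  Lgr Lrot5 (Lpe (K46.f654197 IH) (Lpe (f654224 IH) (Lpr_gf (K60.f777827 IH) (Lpn K59.v6768))))
theorem f779132 : Led Lsl_cf K59.v10729 = v19332 :=
  Lgr Lrot14 (Lpe (K59.f769162 IH) (Lpe (f777828 IH) (Lpe (K46.f651364 IH) (Lpr_gf (K46.f651367 IH) (Lpe (K34.f527789 IH) (Lpr_gt (K32.f508889 IH) (Lpr_dt (K57.f66033 IH) (Lpr_gt (f624394 IH) (Lpr_dt (f779127 IH) (Lpn v19332))))))))))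
theorem f787770 : Led Lsl_et K59.v10729 = v20537 :=
  Lgr Lrot158 (Lpr_cf (f779132 IH) (Lpe (f779138 IH) (Lpr_cf (f787767 IH) (Lpn v20537))))
theorem f769163 : Led Lsl_df K59.v6768 = K59.v10729 :=
  Lgr Lrot38 (Lpr_dt (K59.f769162 IH) (Lpn K59.v10729))
theorem f664749 : Led Lsl_et K56.v6117 = K56.v7362 :=
  Lgr Lrot87 (Lpr_ef (K56.f664747 IH) (Lpn K56.v7362))
theorem f653832 : Led Lsl_ef K56.v3420 = K58.v6533 :=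
  Lgr Lrot88 (Lpr_et (K58.f653831 IH) (Lpn K58.v6533))
def v20535 : LQ := Led Lsl_at (LP (LK LD1_c6 LD2_c59 LD3_c5))
theorem f787745 : Led Lsl_at (LP (LK LD1_c6 LD2_c59 LD3_c5)) = v20535 :=
  Lrfl
theorem f88988 : Led Lsl_dt (LP (LK LD1_c6 LD2_c59 LD3_c5)) = (LP (LK LD1_c3 LD2_c28 LD3_c39)) :=
  Lre_d IH (LK LD1_c6 LD2_c59 LD3_c5) (LK LD1_c3 LD2_c28 LD3_c39) Lrfl Lrfl
theorem f777369 : Led Lsl_ff (LP (LK LD1_c6 LD2_c59 LD3_c5)) = K59.v19044 :=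
  Lgr Lrot19 (Lpr_dt (f88988 IH) (Lpr_ft (K59.f658223 IH) (Lpq (K59.f772646 IH) (Lpr_dt (K59.f777366 IH) (Lpn K59.v19044)))))
theorem f787749 : Led Lsl_ff (LP (LK LD1_c6 LD2_c59 LD3_c6)) = v20535 :=
  Lgr Lrot30 (Lpr_at (K59.f777371 IH) (Lpe (f777369 IH) (Lpr_at (f787745 IH) (Lpn v20535))))
theorem f787751 : Led Lsl_dt K59.v6747 = v20535 :=
  Lgr Lrot60 (Lpe (K59.f658211 IH) (Lpe (K59.f62230 IH) (Lpr_ff (f787749 IH) (Lpn v20535))))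
def v20018 : LQ := Led Lsl_ft (LP (LK LD1_c6 LD2_c49 LD3_c44))
theorem f784345 : Led Lsl_ft (LP (LK LD1_c6 LD2_c49 LD3_c44)) = v20018 :=
  Lrfl
theorem f784350 : Led Lsl_ff (LP (LK LD1_c6 LD2_c49 LD3_c44)) = v20018 :=
  Lgr Lrot3 (Lpr_ft (f784345 IH) (Lpn v20018))
theorem f93343 : Led Lsl_at (LP (LK LD1_c6 LD2_c49 LD3_c44)) = (LP (LK LD1_c3 LD2_c28 LD3_c41)) :=
  Lgr Lrot80 (Lpr_ef (K3.f93339 IH) (Lpe (K3.f89116 IH) (Lpe (K3.f88987 IH) (Lpn (LP (LK LD1_c3 LD2_c28 LD3_c41))))))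
theorem f784355 : Led Lsl_gf K59.v6755 = v20018 :=
  Lgr Lrot47 (Lpe (K59.f658233 IH) (Lpe (f93343 IH) (Lpr_ff (f784350 IH) (Lpn v20018))))
def v19059 : LQ := Led Lsl_ct (LP (LK LD1_c6 LD2_c37 LD3_c19))
theorem f777613 : Led Lsl_ct (LP (LK LD1_c6 LD2_c37 LD3_c19)) = v19059 :=
  Lrfl
theorem f777485 : Led Lsl_ff K59.v18945 = (LP (LK LD1_c6 LD2_c37 LD3_c18)) :=
  Lgr Lrot23 (Lpe (K59.f776597 IH) (Lpr_ft (K59.f777483 IH) (Lpe (K59.f777460 IH) (Lpn (LP (LK LD1_c6 LD2_c37 LD3_c18))))))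
theorem f777494 : Led Lsl_af (LP (LK LD1_c6 LD2_c37 LD3_c19)) = K59.v18945 :=
  Lgr Lrot45 (Lpr_ft (K59.f777456 IH) (Lpq (K59.f777489 IH) (Lpqs (K59.f777489 IH) (Lpe (K59.f777452 IH) (Lpe (f777485 IH) (Lpn K59.v18945))))))
theorem f777614 : Led Lsl_af K59.v6755 = v19059 :=
  Lgr Lrot68 (Lpr_ct (K59.f776595 IH) (Lpe (f777494 IH) (Lpr_ct (f777613 IH) (Lpn v19059))))
theorem f777457 : Led Lsl_ff (LP (LK LD1_c6 LD2_c37 LD3_c19)) = K59.v19056 :=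
  Lgr Lrot3 (Lpr_ft (K59.f777456 IH) (Lpn K59.v19056))
theorem f777617 : Led Lsl_ff (LP (LK LD1_c6 LD2_c59 LD3_c7)) = v19059 :=
  Lgr Lrot23 (Lpe (K59.f776722 IH) (Lpqs (K59.f777489 IH) (Lpe (f777457 IH) (Lpr_ct (f777613 IH) (Lpn v19059)))))
theorem f777623 : Led Lsl_ft (LP (LK LD1_c6 LD2_c59 LD3_c7)) = v19059 :=
  Lgr Lrot48 (Lpr_ff (f777617 IH) (Lpn v19059))
theorem f784356 : Led Lsl_gt (LP (LK LD1_c6 LD2_c59 LD3_c7)) = v20018 :=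
  Lgr Lrot5 (Lpr_ft (f777623 IH) (Lpe (f777614 IH) (Lpr_gf (f784355 IH) (Lpn v20018))))
def v19053 : LQ := Led Lsl_gt (LP (LK LD1_c6 LD2_c37 LD3_c15))
theorem f777428 : Led Lsl_gt (LP (LK LD1_c6 LD2_c37 LD3_c15)) = v19053 :=
  Lrfl
theorem f678587 : Led Lsl_ft (LP (LK LD1_c6 LD2_c37 LD3_c15)) = (LP (LK LD1_c12 LD2_c36 LD3_c49)) :=
  Lgr Lrot48 (Lpr_ff (K59.f678585 IH) (Lpn (LP (LK LD1_c12 LD2_c36 LD3_c49))))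
theorem f119154 : Led Lsl_ct (LP (LK LD1_c12 LD2_c36 LD3_c49)) = (LP (LK LD1_c6 LD2_c35 LD3_c24)) :=
  Lre_c IH (LK LD1_c12 LD2_c36 LD3_c49) (LK LD1_c6 LD2_c35 LD3_c24) Lrfl Lrfl
theorem f678589 : Led Lsl_af (LP (LK LD1_c12 LD2_c36 LD3_c49)) = (LP (LK LD1_c6 LD2_c37 LD3_c17)) :=
  Lgr Lrot68 (Lpr_ct (f119154 IH) (Lpq (K49.f678580 IH) (Lpe (K49.f650762 IH) (Lpr_ct (K56.f624095 IH) (Lpn (LP (LK LD1_c6 LD2_c37 LD3_c17)))))))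
theorem f678591 : Led Lsl_at (LP (LK LD1_c12 LD2_c36 LD3_c49)) = (LP (LK LD1_c6 LD2_c37 LD3_c17)) :=
  Lgr Lrot100 (Lpr_af (f678589 IH) (Lpn (LP (LK LD1_c6 LD2_c37 LD3_c17))))
theorem f777430 : Led Lsl_gf (LP (LK LD1_c6 LD2_c37 LD3_c17)) = v19053 :=
  Lgr Lrot76 (Lpe (f678591 IH) (Lpe (f678587 IH) (Lpr_gt (f777428 IH) (Lpn v19053))))
theorem f777431 : Led Lsl_ff (LP (LK LD1_c12 LD2_c3 LD3_c25)) = v19053 :=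
  Lgr Lrot52 (Lpr_at (K3.f90649 IH) (Lpr_gf (K56.f754472 IH) (Lpr_gf (f777430 IH) (Lpn v19053))))
theorem f784348 : Led Lsl_cf v19053 = v20018 :=
  Lgr Lrot108 (Lpe (f777431 IH) (Lpe (K59.f93319 IH) (Lpr_ft (f784345 IH) (Lpn v20018))))
theorem f435616 : Led Lsl_ct (LP (LK LD1_c6 LD2_c33 LD3_c38)) = (LP (LK LD1_c3 LD2_c15 LD3_c6)) :=
  Lre_c IH (LK LD1_c6 LD2_c33 LD3_c38) (LK LD1_c3 LD2_c15 LD3_c6) Lrfl Lrfl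
theorem f787768 : Led Lsl_gf K60.v10714 = v20537 :=
  Lgr Lrot179 (Lpr_ct (K60.f775986 IH) (Lpe (K60.f775985 IH) (Lpr_ct (f435616 IH) (Lpq (K59.f768824 IH) (Lpe (K49.f624094 IH) (Lpe (K59.f119097 IH) (Lpr_gf (f777430 IH) (Lpr_cf (f784348 IH) (Lpe (f784356 IH) (Lpr_dt (f787761 IH) (Lpn v20537)))))))))))
def v17754 : LQ := Led Lsl_bt (LP (LK LD1_c6 LD2_c21 LD3_c57))
theorem f762034 : Led Lsl_bt (LP (LK LD1_c6 LD2_c21 LD3_c57)) = v17754 :=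
  Lrfl
theorem f775990 : Led Lsl_dt v17754 = K60.v10714 :=
  Lgr Lrot79 (Lpe (f762034 IH) (Lpr_df (K59.f762038 IH) (Lpqs (K59.f772153 IH) (Lpr_bf (K60.f775988 IH) (Lpn K60.v10714)))))
theorem f775999 : Led Lsl_df v17754 = K60.v10714 :=
  Lgr Lrot38 (Lpr_dt (f775990 IH) (Lpn K60.v10714))
theorem f787773 : Led Lsl_gf v20535 = v17754 :=
  Lgr Lrot134 (Lpe (f787751 IH) (Lpq (K59.f772673 IH) (Lpqs (K58.f769448 IH) (Lpe (f653832 IH) (Lpr_gt (K56.f664743 IH) (Lpe (f664749 IH) (Lpq (K56.f654012 IH) (Lpr_dt (K46.f651364 IH) (Lpr_gt (f777828 IH) (Lpr_df (f769163 IH) (Lpr_et (f787770 IH) (Lpe (f787768 IH) (Lpe (f775999 IH) (Lpn v17754))))))))))))))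
theorem f778803 : Led Lsl_gf K58.v6750 = K60.v19243 :=
  Lgr Lrot138 (Lpe (K58.f658221 IH) (Lpe (K58.f527739 IH) (Lpe (K3.f85114 IH) (Lpr_et (K2.f85139 IH) (Lpr_gt (K3.f96719 IH) (Lpe (K5.f65568 IH) (Lpe (K34.f105636 IH) (Lpr_gt (K46.f527786 IH) (Lpq (K46.f649461 IH) (Lpe (K46.f508800 IH) (Lpr_et (K60.f778796 IH) (Lpn K60.v19243))))))))))))
theorem f439879 : Led Lsl_dt (LP (LK LD1_c6 LD2_c34 LD3_c39)) = (LP (LK LD1_c3 LD2_c15 LD3_c40)) :=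
  Lre_d IH (LK LD1_c6 LD2_c34 LD3_c39) (LK LD1_c3 LD2_c15 LD3_c40) Lrfl Lrfl
theorem f772390 : K58.v5960 = K59.v3419 :=
  Lefun (Lecon (Lfl_cf (K58.f769506 IH)) (K59.f772384 IH).symm) (K59.f625578 IH)
def v10645 : LQ := Led Lsl_dt K59.v3419
theorem f681239 : Led Lsl_dt K59.v3419 = v10645 :=
  Lrfl
theorem f681240 : Led Lsl_df K59.v3419 = v10645 :=
  Lgr Lrot38 (Lpr_dt (f681239 IH) (Lpn v10645))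
theorem f773546 : Led Lsl_ff v10645 = (LP (LK LD1_c6 LD2_c34 LD3_c36)) :=
  Lgr Lrot19 (Lpe (f681240 IH) (Lpq (f772390 IH) (Lpe (K58.f650239 IH) (Lpr_dt (K5.f66019 IH) (Lpn (LP (LK LD1_c6 LD2_c34 LD3_c36)))))))
theorem f773547 : Led Lsl_ft v10645 = (LP (LK LD1_c6 LD2_c34 LD3_c36)) :=
  Lgr Lrot48 (Lpr_ff (f773546 IH) (Lpn (LP (LK LD1_c6 LD2_c34 LD3_c36))))
theorem f625579 : Led Lsl_cf K56.v819 = K59.v3419 :=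
  Lgr Lrot11 (Lpr_ct (K59.f625578 IH) (Lpn K59.v3419))
theorem f769473 : Led Lsl_ct (LP (LK LD1_c12 LD2_c1 LD3_c46)) = (LP (LK LD1_c14 LD2_c12 LD3_c13)) :=
  Lgr Lrot59 (Lpr_cf (K58.f769471 IH) (Lpn (LP (LK LD1_c14 LD2_c12 LD3_c13))))
theorem f527905 : Led Lsl_ct (LP (LK LD1_c14 LD2_c12 LD3_c21)) = (LP (LK LD1_c7 LD2_c31 LD3_c51)) :=
  Lre_c IH (LK LD1_c14 LD2_c12 LD3_c21) (LK LD1_c7 LD2_c31 LD3_c51) Lrfl Lrfl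
theorem f773548 : Led Lsl_af (LP (LK LD1_c7 LD2_c31 LD3_c51)) = (LP (LK LD1_c6 LD2_c34 LD3_c36)) :=
  Lgr Lrot109 (Lpe (f527905 IH) (Lpr_df (K58.f769477 IH) (Lpe (f769473 IH) (Lpr_df (K46.f650659 IH) (Lpq (K58.f769447 IH) (Lpe (K58.f681245 IH) (Lpe (K56.f625580 IH) (Lpr_cf (f625579 IH) (Lpr_df (f681240 IH) (Lpr_ft (f773547 IH) (Lpn (LP (LK LD1_c6 LD2_c34 LD3_c36)))))))))))))
theorem f773552 : Led Lsl_at (LP (LK LD1_c14 LD2_c12 LD3_c21)) = (LP (LK LD1_c12 LD2_c35 LD3_c38)) :=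
  Lgr Lrot107 (Lpe (K58.f664706 IH) (Lpr_af (f773548 IH) (Lpe (K58.f650233 IH) (Lpn (LP (LK LD1_c12 LD2_c35 LD3_c38))))))
theorem f651633 : Led Lsl_dt (LP (LK LD1_c21 LD2_c7 LD3_c12)) = (LP (LK LD1_c21 LD2_c7 LD3_c16)) :=
  Lgr Lrot42 (Lpr_df (K46.f651630 IH) (Lpn (LP (LK LD1_c21 LD2_c7 LD3_c16))))
theorem f769540 : Led Lsl_df (LP (LK LD1_c12 LD2_c35 LD3_c50)) = (LP (LK LD1_c12 LD2_c35 LD3_c38)) :=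
  Lgr Lrot155 (Lpe (K58.f769520 IH) (Lpr_ct (K56.f105372 IH) (Lpr_gt (K46.f439862 IH) (Lpe (K58.f651628 IH) (Lpr_dt (f651633 IH) (Lpe (K46.f130811 IH) (Lpr_gf (K56.f754653 IH) (Lpr_cf (K58.f769526 IH) (Lpe (K58.f650264 IH) (Lpn (LP (LK LD1_c12 LD2_c35 LD3_c38))))))))))))
theorem f773556 : Led Lsl_af (LP (LK LD1_c14 LD2_c12 LD3_c13)) = (LP (LK LD1_c12 LD2_c35 LD3_c50)) :=
  Lgr Lrot117 (Lpe (K58.f769477 IH) (Lpr_at (f773552 IH) (Lpe (f769540 IH) (Lpn (LP (LK LD1_c12 LD2_c35 LD3_c50))))))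
theorem f773562 : Led Lsl_ft (LP (LK LD1_c14 LD2_c12 LD3_c12)) = (LP (LK LD1_c12 LD2_c35 LD3_c50)) :=
  Lgr Lrot2 (Lpe (K58.f105395 IH) (Lpr_gt (K58.f105392 IH) (Lpr_af (f773556 IH) (Lpn (LP (LK LD1_c12 LD2_c35 LD3_c50))))))
theorem f773566 : Led Lsl_ff (LP (LK LD1_c14 LD2_c12 LD3_c12)) = (LP (LK LD1_c12 LD2_c35 LD3_c50)) :=
  Lgr Lrot3 (Lpr_ft (f773562 IH) (Lpn (LP (LK LD1_c12 LD2_c35 LD3_c50))))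
theorem f150986 : Led Lsl_ct (LP (LK LD1_c12 LD2_c35 LD3_c50)) = (LP (LK LD1_c6 LD2_c34 LD3_c42)) :=
  Lre_c IH (LK LD1_c12 LD2_c35 LD3_c50) (LK LD1_c6 LD2_c34 LD3_c42) Lrfl Lrfl
theorem f65476 : Led Lsl_dt (LP (LK LD1_c12 LD2_c35 LD3_c54)) = (LP (LK LD1_c6 LD2_c34 LD3_c43)) :=
  Lre_d IH (LK LD1_c12 LD2_c35 LD3_c54) (LK LD1_c6 LD2_c34 LD3_c43) Lrfl Lrfl
theorem f150970 : Led Lsl_ct (LP (LK LD1_c6 LD2_c10 LD3_c36)) = (LP (LK LD1_c3 LD2_c1 LD3_c58)) :=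
  Lre_c IH (LK LD1_c6 LD2_c10 LD3_c36) (LK LD1_c3 LD2_c1 LD3_c58) Lrfl Lrfl
theorem f150972 : Led Lsl_dt (LP (LK LD1_c6 LD2_c10 LD3_c36)) = (LP (LK LD1_c12 LD2_c1 LD3_c48)) :=
  Lre_d IH (LK LD1_c6 LD2_c10 LD3_c36) (LK LD1_c12 LD2_c1 LD3_c48) Lrfl Lrfl
theorem f150973 : Led Lsl_cf (LP (LK LD1_c12 LD2_c35 LD3_c54)) = (LP (LK LD1_c12 LD2_c1 LD3_c48)) :=
  Lgr Lrot161 (Lpr_dt (f65476 IH) (Lpr_ct (K56.f65475 IH) (Lpr_af (K46.f150949 IH) (Lpe (K46.f150966 IH) (Lpr_dt (K58.f150969 IH) (Lpr_ct (f150970 IH) (Lpr_dt (K49.f130797 IH) (Lpr_ct (K58.f150971 IH) (Lpr_dt (f150972 IH) (Lpn (LP (LK LD1_c12 LD2_c1 LD3_c48))))))))))))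
theorem f650252 : Led Lsl_ct (LP (LK LD1_c12 LD2_c35 LD3_c48)) = (LP (LK LD1_c6 LD2_c34 LD3_c41)) :=
  Lre_c IH (LK LD1_c12 LD2_c35 LD3_c48) (LK LD1_c6 LD2_c34 LD3_c41) Lrfl Lrfl
theorem f769552 : Led Lsl_gt (LP (LK LD1_c12 LD2_c2 LD3_c8)) = (LP (LK LD1_c12 LD2_c35 LD3_c48)) :=
  Lgr Lrot9 (Lpe (K56.f105373 IH) (Lpr_gt (K58.f769522 IH) (Lpr_ct (f150986 IH) (Lpr_gt (K58.f65477 IH) (Lpr_ct (K59.f65471 IH) (Lpe (f65476 IH) (Lpr_cf (f150973 IH) (Lpe (K46.f650250 IH) (Lpe (f650252 IH) (Lpn (LP (LK LD1_c12 LD2_c35 LD3_c48))))))))))))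
theorem f773570 : Led Lsl_at (LP (LK LD1_c14 LD2_c12 LD3_c12)) = (LP (LK LD1_c12 LD2_c35 LD3_c48)) :=
  Lgr Lrot26 (Lpr_ff (f773566 IH) (Lpe (K58.f769520 IH) (Lpr_gt (f769552 IH) (Lpn (LP (LK LD1_c12 LD2_c35 LD3_c48))))))
theorem f773558 : Led Lsl_at (LP (LK LD1_c14 LD2_c12 LD3_c13)) = (LP (LK LD1_c12 LD2_c35 LD3_c50)) :=
  Lgr Lrot100 (Lpr_af (f773556 IH) (Lpn (LP (LK LD1_c12 LD2_c35 LD3_c50))))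
theorem f773576 : Led Lsl_ff (LP (LK LD1_c14 LD2_c12 LD3_c13)) = (LP (LK LD1_c12 LD2_c35 LD3_c48)) :=
  Lgr Lrot30 (Lpr_at (f773558 IH) (Lpe (f773566 IH) (Lpr_at (f773570 IH) (Lpn (LP (LK LD1_c12 LD2_c35 LD3_c48))))))
theorem f773582 : Led Lsl_ft (LP (LK LD1_c14 LD2_c12 LD3_c13)) = (LP (LK LD1_c12 LD2_c35 LD3_c48)) :=
  Lgr Lrot48 (Lpr_ff (f773576 IH) (Lpn (LP (LK LD1_c12 LD2_c35 LD3_c48))))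
def v7367 : LQ := Led Lsl_ft (LP (LK LD1_c3 LD2_c45 LD3_c36))
theorem f664758 : Led Lsl_ft (LP (LK LD1_c3 LD2_c45 LD3_c36)) = v7367 :=
  Lrfl
theorem f664759 : Led Lsl_af K56.v3420 = v7367 :=
  Lgr Lrot45 (Lpr_ft (K56.f664741 IH) (Lpe (K56.f664738 IH) (Lpr_ft (f664758 IH) (Lpn v7367))))
theorem f769475 : Led Lsl_dt (LP (LK LD1_c14 LD2_c12 LD3_c21)) = (LP (LK LD1_c14 LD2_c12 LD3_c13)) :=
  Lgr Lrot140 (Lpe (K58.f664706 IH) (Lpe (K58.f527904 IH) (Lpe (K58.f85127 IH) (Lpe (K56.f85132 IH) (Lpr_ft (f664758 IH) (Lpe (f664759 IH) (Lpr_cf (K58.f681246 IH) (Lpqs (K58.f769447 IH) (Lpe (K56.f650660 IH) (Lpr_cf (K58.f769471 IH) (Lpn (LP (LK LD1_c14 LD2_c12 LD3_c13)))))))))))))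
theorem f769555 : Led Lsl_gf (LP (LK LD1_c14 LD2_c12 LD3_c16)) = (LP (LK LD1_c12 LD2_c35 LD3_c48)) :=
  Lgr Lrot76 (Lpr_af (K56.f105375 IH) (Lpr_ff (K56.f105381 IH) (Lpr_gt (f769552 IH) (Lpn (LP (LK LD1_c12 LD2_c35 LD3_c48))))))
theorem f439875 : Led Lsl_ct (LP (LK LD1_c6 LD2_c34 LD3_c39)) = (LP (LK LD1_c12 LD2_c35 LD3_c44)) :=
  Lre_c IH (LK LD1_c6 LD2_c34 LD3_c39) (LK LD1_c12 LD2_c35 LD3_c44) Lrfl Lrfl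
theorem f769557 : Led Lsl_df (LP (LK LD1_c12 LD2_c35 LD3_c44)) = (LP (LK LD1_c12 LD2_c35 LD3_c48)) :=
  Lgr Lrot84 (Lpe (f439875 IH) (Lpe (K58.f439874 IH) (Lpr_gf (K58.f439872 IH) (Lpe (K58.f150969 IH) (Lpe (K46.f650250 IH) (Lpe (f650252 IH) (Lpe (f769555 IH) (Lpr_dt (K56.f105373 IH) (Lpr_gt (f769552 IH) (Lpn (LP (LK LD1_c12 LD2_c35 LD3_c48))))))))))))
theorem f773586 : Led Lsl_ff (LP (LK LD1_c14 LD2_c12 LD3_c21)) = (LP (LK LD1_c12 LD2_c35 LD3_c44)) :=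
  Lgr Lrot19 (Lpr_dt (f769475 IH) (Lpr_ft (f773582 IH) (Lpe (f769557 IH) (Lpn (LP (LK LD1_c12 LD2_c35 LD3_c44))))))
theorem f773588 : Led Lsl_ft (LP (LK LD1_c7 LD2_c31 LD3_c51)) = (LP (LK LD1_c6 LD2_c34 LD3_c39)) :=
  Lgr Lrot4 (Lpe (f527905 IH) (Lpr_ff (f773586 IH) (Lpe (f439875 IH) (Lpn (LP (LK LD1_c6 LD2_c34 LD3_c39))))))
theorem f773591 : Led Lsl_ff (LP (LK LD1_c7 LD2_c31 LD3_c51)) = (LP (LK LD1_c6 LD2_c34 LD3_c39)) :=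
  Lgr Lrot3 (Lpr_ft (f773588 IH) (Lpn (LP (LK LD1_c6 LD2_c34 LD3_c39))))
theorem f773550 : Led Lsl_at (LP (LK LD1_c7 LD2_c31 LD3_c51)) = (LP (LK LD1_c6 LD2_c34 LD3_c36)) :=
  Lgr Lrot100 (Lpr_af (f773548 IH) (Lpn (LP (LK LD1_c6 LD2_c34 LD3_c36))))
theorem f773593 : Led Lsl_at v10645 = (LP (LK LD1_c6 LD2_c34 LD3_c39)) :=
  Lgr Lrot66 (Lpr_ff (f773546 IH) (Lpe (f773550 IH) (Lpr_ff (f773591 IH) (Lpn (LP (LK LD1_c6 LD2_c34 LD3_c39))))))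
theorem f773594 : Led Lsl_gt (LP (LK LD1_c6 LD2_c41 LD3_c9)) = (LP (LK LD1_c6 LD2_c34 LD3_c39)) :=
  Lgr Lrot46 (Lpe (K5.f66020 IH) (Lpe (f773546 IH) (Lpr_at (f773593 IH) (Lpn (LP (LK LD1_c6 LD2_c34 LD3_c39))))))
theorem f778806 : Led Lsl_dt K56.v7362 = K60.v19243 :=
  Lgr Lrot57 (Lpe (K56.f664743 IH) (Lpr_cf (K58.f681246 IH) (Lpqs (K58.f769447 IH) (Lpe (K46.f650662 IH) (Lpr_dt (K5.f66021 IH) (Lpr_gt (f773594 IH) (Lpr_dt (f439879 IH) (Lpqs (K59.f769509 IH) (Lpe (K59.f675368 IH) (Lpr_df (K58.f658221 IH) (Lpr_gf (f778803 IH) (Lpn K60.v19243))))))))))))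
theorem f658222 : Led Lsl_dt K58.v2604 = K58.v6750 :=
  Lgr Lrot42 (Lpr_df (K58.f658221 IH) (Lpn K58.v6750))
theorem f754896 : Led Lsl_ef (LP (LK LD1_c6 LD2_c11 LD3_c9)) = K59.v17068 :=
  Lgr Lrot88 (Lpr_et (K59.f754893 IH) (Lpn K59.v17068))
theorem f759803 : Led Lsl_bf K59.v17068 = K59.v17434 :=
  Lgr Lrot96 (Lpe (f754896 IH) (Lpr_bt (K56.f647261 IH) (Lpq (K51.f709640 IH) (Lpr_et (K59.f759802 IH) (Lpn K59.v17434)))))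
theorem f775992 : Led Lsl_ft K59.v17068 = K60.v10714 :=
  Lgr Lrot75 (Lpr_bf (f759803 IH) (Lpr_ff (K59.f772148 IH) (Lpr_bf (K60.f775988 IH) (Lpn K60.v10714))))
theorem f773887 : Led Lsl_ft K60.v18519 = K57.v7341 :=
  Lgr Lrot48 (Lpr_ff (K60.f773884 IH) (Lpn K57.v7341))
theorem f775993 : Led Lsl_ef K60.v18519 = K60.v10714 :=
  Lgr Lrot21 (Lpr_ft (f773887 IH) (Lpe (K60.f664646 IH) (Lpr_ft (K51.f664648 IH) (Lpqs (K56.f709641 IH) (Lpr_et (K59.f754893 IH) (Lpr_ft (f775992 IH) (Lpn K60.v10714)))))))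
theorem f787775 : Led Lsl_gt K60.v9319 = K60.v18519 :=
  Lgr Lrot131 (Lpe (K60.f675370 IH) (Lpr_dt (f658222 IH) (Lpr_gf (f778803 IH) (Lpe (f778806 IH) (Lpe (K56.f664743 IH) (Lpr_ef (f653832 IH) (Lpq (K58.f769448 IH) (Lpqs (K59.f772673 IH) (Lpr_dt (f787751 IH) (Lpr_gf (f787773 IH) (Lpr_df (f775999 IH) (Lpe (f775993 IH) (Lpn K60.v18519)))))))))))))
theorem f778812 : Led Lsl_af K60.v18519 = K60.v10648 :=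
  Lgr Lrot0 (Lpr_at (K60.f778811 IH) (Lpn K60.v10648))
theorem f787776 : Led Lsl_gf K60.v9319 = (LP (LK LD1_c12 LD2_c2 LD3_c36)) :=
  Lgr Lrot47 (Lpr_gt (f787775 IH) (Lpr_af (f778812 IH) (Lpe (K60.f778815 IH) (Lpn (LP (LK LD1_c12 LD2_c2 LD3_c36))))))
theorem f12470 : Led Lsl_ct (LP (LK LD1_c3 LD2_c45 LD3_c7)) = (LP (LK LD1_c7 LD2_c31 LD3_c0)) :=
  Lre_c IH (LK LD1_c3 LD2_c45 LD3_c7) (LK LD1_c7 LD2_c31 LD3_c0) Lrfl Lrfl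
theorem f663251 : Led Lsl_ct (LP (LK LD1_c6 LD2_c33 LD3_c48)) = (LP (LK LD1_c12 LD2_c34 LD3_c29)) :=
  Lre_c IH (LK LD1_c6 LD2_c33 LD3_c48) (LK LD1_c12 LD2_c34 LD3_c29) Lrfl Lrfl
theorem f663253 : Led Lsl_ff (LP (LK LD1_c6 LD2_c41 LD3_c24)) = (LP (LK LD1_c12 LD2_c34 LD3_c29)) :=
  Lgr Lrot23 (Lpr_ct (K56.f441166 IH) (Lpr_ft (K46.f651720 IH) (Lpqs (K49.f663244 IH) (Lpr_ct (f663251 IH) (Lpn (LP (LK LD1_c12 LD2_c34 LD3_c29)))))))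
theorem f663255 : Led Lsl_ft (LP (LK LD1_c6 LD2_c41 LD3_c24)) = (LP (LK LD1_c12 LD2_c34 LD3_c29)) :=
  Lgr Lrot48 (Lpr_ff (f663253 IH) (Lpn (LP (LK LD1_c12 LD2_c34 LD3_c29))))
theorem f663252 : Led Lsl_ct (LP (LK LD1_c12 LD2_c34 LD3_c29)) = (LP (LK LD1_c6 LD2_c33 LD3_c48)) :=
  Lre_c IH (LK LD1_c12 LD2_c34 LD3_c29) (LK LD1_c6 LD2_c33 LD3_c48) Lrfl Lrfl
theorem f454906 : Led Lsl_ct (LP (LK LD1_c3 LD2_c18 LD3_c46)) = (LP (LK LD1_c6 LD2_c41 LD3_c21)) :=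
  Lre_c IH (LK LD1_c3 LD2_c18 LD3_c46) (LK LD1_c6 LD2_c41 LD3_c21) Lrfl Lrfl
theorem f663258 : Led Lsl_af (LP (LK LD1_c12 LD2_c34 LD3_c29)) = (LP (LK LD1_c6 LD2_c41 LD3_c21)) :=
  Lgr Lrot68 (Lpr_ct (f663252 IH) (Lpq (K49.f663244 IH) (Lpe (K46.f651718 IH) (Lpr_ct (f454906 IH) (Lpn (LP (LK LD1_c6 LD2_c41 LD3_c21)))))))
theorem f663262 : Led Lsl_at (LP (LK LD1_c12 LD2_c34 LD3_c29)) = (LP (LK LD1_c6 LD2_c41 LD3_c21)) :=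
  Lgr Lrot100 (Lpr_af (f663258 IH) (Lpn (LP (LK LD1_c6 LD2_c41 LD3_c21))))
theorem f754144 : Led Lsl_gt (LP (LK LD1_c7 LD2_c31 LD3_c0)) = (LP (LK LD1_c6 LD2_c41 LD3_c21)) :=
  Lgr Lrot46 (Lpr_gf (K56.f754142 IH) (Lpr_ft (f663255 IH) (Lpr_at (f663262 IH) (Lpn (LP (LK LD1_c6 LD2_c41 LD3_c21))))))
theorem f651719 : Led Lsl_ct (LP (LK LD1_c6 LD2_c41 LD3_c21)) = (LP (LK LD1_c3 LD2_c18 LD3_c46)) :=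
  Lre_c IH (LK LD1_c6 LD2_c41 LD3_c21) (LK LD1_c3 LD2_c18 LD3_c46) Lrfl Lrfl
theorem f663236 : Led Lsl_ct (LP (LK LD1_c12 LD2_c2 LD3_c57)) = (LP (LK LD1_c6 LD2_c11 LD3_c24)) :=
  Lre_c IH (LK LD1_c12 LD2_c2 LD3_c57) (LK LD1_c6 LD2_c11 LD3_c24) Lrfl Lrfl
theorem f787778 : v18895 = (LP (LK LD1_c12 LD2_c2 LD3_c57)) :=
  (Llr Lrot150 (Lpe (f776329 IH) (Lpr_cf (K60.f769513 IH) (Lpr_gf (f787776 IH) (Lpr_df (K58.f664595 IH) (Lpe (K58.f664592 IH) (Lpr_ct (f12470 IH) (Lpr_gt (f754144 IH) (Lpr_ct (f651719 IH) (Lpr_df (K46.f651729 IH) (Lpqs (K49.f663229 IH) (Lpe (f663236 IH) (Lpn (LP (LK LD1_c12 LD2_c2 LD3_c57))))))))))))))).symm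
theorem f787779 : Led Lsl_gt (LP (LK LD1_c6 LD2_c34 LD3_c40)) = (LP (LK LD1_c12 LD2_c2 LD3_c57)) :=
  Leop (Lpq (f787778 IH) (Lpe (f776329 IH) (Lpn (LP (LK LD1_c6 LD2_c34 LD3_c40)))))
theorem seed_1542 : LEOK LG_g (LK LD1_c6 LD2_c34 LD3_c40) :=
  Leoe_g (LK LD1_c6 LD2_c34 LD3_c40) (f787779 IH)
def v20554 : LQ := Led Lsl_dt (LP (LK LD1_c6 LD2_c59 LD3_c26))
theorem f787889 : Led Lsl_dt (LP (LK LD1_c6 LD2_c59 LD3_c26)) = v20554 :=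
  Lrfl
def v19103 : LQ := Led Lsl_gt (LP (LK LD1_c6 LD2_c38 LD3_c5))
theorem f777839 : Led Lsl_gt (LP (LK LD1_c6 LD2_c38 LD3_c5)) = v19103 :=
  Lrfl
theorem f651774 : Led Lsl_gt (LP (LK LD1_c12 LD2_c41 LD3_c58)) = (LP (LK LD1_c21 LD2_c48 LD3_c61)) :=
  Lre_g IH (LK LD1_c12 LD2_c41 LD3_c58) (LK LD1_c21 LD2_c48 LD3_c61) Lrfl Lrfl
theorem f773414 : Led Lsl_at (LP (LK LD1_c17 LD2_c30 LD3_c50)) = (LP (LK LD1_c12 LD2_c41 LD3_c61)) :=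
  Lgr Lrot100 (Lpr_af (K59.f773412 IH) (Lpn (LP (LK LD1_c12 LD2_c41 LD3_c61))))
theorem f773429 : Led Lsl_gf (LP (LK LD1_c12 LD2_c41 LD3_c61)) = (LP (LK LD1_c21 LD2_c48 LD3_c61)) :=
  Lgr Lrot76 (Lpe (f773414 IH) (Lpr_ff (K59.f773425 IH) (Lpr_gt (f651774 IH) (Lpn (LP (LK LD1_c21 LD2_c48 LD3_c61))))))
theorem f772559 : Led Lsl_ff (LP (LK LD1_c12 LD2_c37 LD3_c0)) = (LP (LK LD1_c6 LD2_c37 LD3_c56)) :=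
  Lgr Lrot3 (Lpr_ft (K59.f772555 IH) (Lpn (LP (LK LD1_c6 LD2_c37 LD3_c56))))
theorem f773223 : Led Lsl_cf (LP (LK LD1_c12 LD2_c43 LD3_c16)) = (LP (LK LD1_c12 LD2_c37 LD3_c0)) :=
  Lgr Lrot108 (Lpr_ft (K60.f773218 IH) (Lpr_ct (K58.f66064 IH) (Lpe (f772559 IH) (Lpn (LP (LK LD1_c12 LD2_c37 LD3_c0))))))
theorem f773225 : Led Lsl_dt (LP (LK LD1_c21 LD2_c50 LD3_c30)) = (LP (LK LD1_c12 LD2_c43 LD3_c16)) :=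
  Lre_d IH (LK LD1_c21 LD2_c50 LD3_c30) (LK LD1_c12 LD2_c43 LD3_c16) Lrfl Lrfl
theorem f96209 : Led Lsl_df (LP (LK LD1_c14 LD2_c11 LD3_c55)) = (LP (LK LD1_c12 LD2_c41 LD3_c28)) :=
  Lgr Lrot38 (Lpr_dt (K59.f96203 IH) (Lpn (LP (LK LD1_c12 LD2_c41 LD3_c28))))
theorem f96219 : Led Lsl_gt (LP (LK LD1_c12 LD2_c41 LD3_c30)) = (LP (LK LD1_c21 LD2_c48 LD3_c13)) :=
  Lre_g IH (LK LD1_c12 LD2_c41 LD3_c30) (LK LD1_c21 LD2_c48 LD3_c13) Lrfl Lrfl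
theorem f96220 : Led Lsl_dt (LP (LK LD1_c21 LD2_c48 LD3_c13)) = (LP (LK LD1_c30 LD2_c9 LD3_c30)) :=
  Lre_d IH (LK LD1_c21 LD2_c48 LD3_c13) (LK LD1_c30 LD2_c9 LD3_c30) Lrfl Lrfl
theorem f773265 : Led Lsl_gf (LP (LK LD1_c21 LD2_c50 LD3_c30)) = (LP (LK LD1_c30 LD2_c9 LD3_c30)) :=
  Lgr Lrot143 (Lpr_dt (f773225 IH) (Lpr_cf (f773223 IH) (Lpr_df (K59.f772557 IH) (Lpe (K59.f772563 IH) (Lpr_df (f96209 IH) (Lpe (K59.f96202 IH) (Lpe (K58.f96218 IH) (Lpr_gt (f96219 IH) (Lpr_dt (f96220 IH) (Lpn (LP (LK LD1_c30 LD2_c9 LD3_c30))))))))))))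
theorem f772488 : Led Lsl_ct (LP (LK LD1_c12 LD2_c42 LD3_c3)) = (LP (LK LD1_c21 LD2_c48 LD3_c26)) :=
  Lgr Lrot59 (Lpr_cf (K59.f772484 IH) (Lpn (LP (LK LD1_c21 LD2_c48 LD3_c26))))
theorem f773233 : Led Lsl_af (LP (LK LD1_c21 LD2_c50 LD3_c30)) = (LP (LK LD1_c21 LD2_c48 LD3_c26)) :=
  Lgr Lrot68 (Lpr_ct (K60.f773231 IH) (Lpe (K59.f772448 IH) (Lpr_ct (f772488 IH) (Lpn (LP (LK LD1_c21 LD2_c48 LD3_c26))))))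
theorem f773267 : Led Lsl_gt (LP (LK LD1_c21 LD2_c50 LD3_c32)) = (LP (LK LD1_c30 LD2_c9 LD3_c30)) :=
  Lgr Lrot5 (Lpr_ft (K59.f772495 IH) (Lpe (f773233 IH) (Lpr_gf (f773265 IH) (Lpn (LP (LK LD1_c30 LD2_c9 LD3_c30))))))
theorem f773433 : Led Lsl_ct (LP (LK LD1_c30 LD2_c9 LD3_c30)) = (LP (LK LD1_c21 LD2_c48 LD3_c61)) :=
  Lgr Lrot152 (Lpe (f773267 IH) (Lpe (K59.f650882 IH) (Lpr_gt (K59.f93904 IH) (Lpr_ct (K59.f93795 IH) (Lpr_gt (K46.f443649 IH) (Lpr_ct (K59.f650874 IH) (Lpe (K59.f118147 IH) (Lpe (K59.f651013 IH) (Lpr_gf (f773429 IH) (Lpn (LP (LK LD1_c21 LD2_c48 LD3_c61))))))))))))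
theorem f773435 : Led Lsl_cf (LP (LK LD1_c30 LD2_c9 LD3_c30)) = (LP (LK LD1_c21 LD2_c48 LD3_c61)) :=
  Lgr Lrot11 (Lpr_ct (f773433 IH) (Lpn (LP (LK LD1_c21 LD2_c48 LD3_c61))))
theorem f777842 : Led Lsl_cf K48.v7635 = v19103 :=
  Lgr Lrot169 (Lpe (K58.f667412 IH) (Lpr_ct (K58.f769399 IH) (Lpe (K59.f118074 IH) (Lpe (K60.f773231 IH) (Lpr_gf (f773265 IH) (Lpr_cf (f773435 IH) (Lpe (f651774 IH) (Lpe (K59.f443668 IH) (Lpr_gt (f777839 IH) (Lpn v19103))))))))))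
theorem f777843 : Led Lsl_ct K48.v7635 = v19103 :=
  Lgr Lrot59 (Lpr_cf (f777842 IH) (Lpn v19103))
theorem f777841 : Led Lsl_gf (LP (LK LD1_c6 LD2_c38 LD3_c7)) = v19103 :=
  Lgr Lrot76 (Lpe (K59.f773408 IH) (Lpr_ff (K59.f672010 IH) (Lpqs (K59.f772018 IH) (Lpr_gt (f777839 IH) (Lpn v19103)))))
theorem f787895 : Led Lsl_gf K59.v7369 = v20554 :=
  Lgr Lrot179 (Lpr_ct (f776377 IH) (Lpe (K59.f776375 IH) (Lpr_ct (K59.f119504 IH) (Lpr_dt (K46.f66063 IH) (Lpe (K59.f119463 IH) (Lpr_gf (f777841 IH) (Lpe (f777843 IH) (Lpe (K58.f667413 IH) (Lpr_dt (f787889 IH) (Lpn v20554))))))))))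
def v6767 : LQ := Led Lsl_ct (LP (LK LD1_c3 LD2_c28 LD3_c55))
theorem f658302 : Led Lsl_ct (LP (LK LD1_c3 LD2_c28 LD3_c55)) = v6767 :=
  Lrfl
theorem f769183 : K58.v6076 = v6767 :=
  Lefun (Lecon (K58.f769028 IH) (K58.f769182 IH).symm) (f658302 IH)
theorem f772550 : Led Lsl_dt (LP (LK LD1_c12 LD2_c37 LD3_c0)) = (LP (LK LD1_c12 LD2_c35 LD3_c40)) :=
  Lgr Lrot44 (Lpr_af (K59.f772546 IH) (Lpe (K59.f103842 IH) (Lpr_af (K59.f753959 IH) (Lpn (LP (LK LD1_c12 LD2_c35 LD3_c40))))))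
theorem f787894 : Led Lsl_ct (LP (LK LD1_c12 LD2_c35 LD3_c40)) = v20554 :=
  Lgr Lrot7 (Lpe (f772550 IH) (Lpe (K59.f96639 IH) (Lpe (K58.f96638 IH) (Lpe (K58.f119413 IH) (Lpq (K58.f769332 IH) (Lpqs (f769183 IH) (Lpe (f658302 IH) (Lpr_gt (K58.f66632 IH) (Lpr_dt (K3.f66457 IH) (Lpr_gt (K58.f66458 IH) (Lpr_dt (f787889 IH) (Lpn v20554))))))))))))
theorem f119534 : Led Lsl_ct (LP (LK LD1_c6 LD2_c37 LD3_c53)) = (LP (LK LD1_c12 LD2_c41 LD3_c32)) :=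
  Lre_c IH (LK LD1_c6 LD2_c37 LD3_c53) (LK LD1_c12 LD2_c41 LD3_c32) Lrfl Lrfl
theorem f787896 : Led Lsl_gf (LP (LK LD1_c21 LD2_c48 LD3_c14)) = (LP (LK LD1_c12 LD2_c41 LD3_c32)) :=
  Lgr Lrot104 (Lpr_ct (K60.f769500 IH) (Lpr_df (K60.f777576 IH) (Lpe (f776377 IH) (Lpr_gf (f787895 IH) (Lpe (f787894 IH) (Lpe (K59.f772563 IH) (Lpr_df (f96209 IH) (Lpr_gt (K59.f769397 IH) (Lpr_ct (f119534 IH) (Lpn (LP (LK LD1_c12 LD2_c41 LD3_c32))))))))))))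
theorem f787897 : Led Lsl_gt (LP (LK LD1_c12 LD2_c41 LD3_c32)) = (LP (LK LD1_c21 LD2_c48 LD3_c14)) :=
  Leop (Lpr_gf (f787896 IH) (Lpn (LP (LK LD1_c12 LD2_c41 LD3_c32))))
theorem seed_1543 : LEOK LG_g (LK LD1_c12 LD2_c41 LD3_c32) :=
  Leoe_g (LK LD1_c12 LD2_c41 LD3_c32) (f787897 IH)
def v20570 : LQ := Led Lsl_ft (LP (LK LD1_c6 LD2_c59 LD3_c47))
theorem f787965 : Led Lsl_ft (LP (LK LD1_c6 LD2_c59 LD3_c47)) = v20570 :=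
  Lrfl
theorem f787969 : Led Lsl_ff (LP (LK LD1_c6 LD2_c59 LD3_c47)) = v20570 :=
  Lgr Lrot3 (Lpr_ft (f787965 IH) (Lpn v20570))
theorem f18653 : Led Lsl_et (LP (LK LD1_c6 LD2_c59 LD3_c47)) = (LP (LK LD1_c3 LD2_c29 LD3_c1)) :=
  Lre_e IH (LK LD1_c6 LD2_c59 LD3_c47) (LK LD1_c3 LD2_c29 LD3_c1) Lrfl Lrfl
def v20513 : LQ := Led Lsl_et (LP (LK LD1_c6 LD2_c58 LD3_c42))
theorem f787532 : Led Lsl_et (LP (LK LD1_c6 LD2_c58 LD3_c42)) = v20513 :=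
  Lrfl
theorem f497590 : Led Lsl_af (LP (LK LD1_c6 LD2_c58 LD3_c42)) = (LP (LK LD1_c3 LD2_c29 LD3_c0)) :=
  Lgr Lrot0 (Lpr_at (K32.f497588 IH) (Lpn (LP (LK LD1_c3 LD2_c29 LD3_c0))))
theorem f18637 : Led Lsl_et (LP (LK LD1_c6 LD2_c59 LD3_c44)) = (LP (LK LD1_c3 LD2_c29 LD3_c0)) :=
  Lre_e IH (LK LD1_c6 LD2_c59 LD3_c44) (LK LD1_c3 LD2_c29 LD3_c0) Lrfl Lrfl
theorem f787533 : Led Lsl_af (LP (LK LD1_c6 LD2_c59 LD3_c44)) = v20513 :=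
  Lgr Lrot50 (Lpr_et (f18637 IH) (Lpe (f497590 IH) (Lpr_et (f787532 IH) (Lpn v20513))))
theorem f787536 : Led Lsl_ft (LP (LK LD1_c7 LD2_c34 LD3_c45)) = v20513 :=
  Lgr Lrot2 (Lpr_gt (K46.f477474 IH) (Lpr_gt (K47.f659939 IH) (Lpr_af (f787533 IH) (Lpn v20513))))
theorem f787537 : Led Lsl_ff (LP (LK LD1_c7 LD2_c34 LD3_c45)) = v20513 :=
  Lgr Lrot3 (Lpr_ft (f787536 IH) (Lpn v20513))
theorem f787972 : Led Lsl_et (LP (LK LD1_c7 LD2_c34 LD3_c45)) = v20570 :=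
  Lgr Lrot69 (Lpr_ff (f787537 IH) (Lpe (f787532 IH) (Lpr_ff (K32.f497596 IH) (Lpe (f18653 IH) (Lpr_ff (f787969 IH) (Lpn v20570))))))
theorem f664802 : Led Lsl_gt (LP (LK LD1_c14 LD2_c13 LD3_c30)) = (LP (LK LD1_c7 LD2_c32 LD3_c39)) :=
  Lre_g IH (LK LD1_c14 LD2_c13 LD3_c30) (LK LD1_c7 LD2_c32 LD3_c39) Lrfl Lrfl
theorem f673905 : Led Lsl_ff (LP (LK LD1_c13 LD2_c16 LD3_c29)) = (LP (LK LD1_c14 LD2_c13 LD3_c30)) :=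
  Lgr Lrot52 (Lpr_at (K47.f497804 IH) (Lpr_gf (K49.f673903 IH) (Lpe (f664802 IH) (Lpn (LP (LK LD1_c14 LD2_c13 LD3_c30))))))
theorem f787967 : Led Lsl_cf (LP (LK LD1_c14 LD2_c13 LD3_c30)) = v20570 :=
  Lgr Lrot108 (Lpe (f673905 IH) (Lpr_ct (K32.f91250 IH) (Lpr_ft (f787965 IH) (Lpn v20570))))
theorem f787975 : Led Lsl_ef (LP (LK LD1_c14 LD2_c17 LD3_c36)) = (LP (LK LD1_c14 LD2_c13 LD3_c30)) :=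
  Lgr Lrot28 (Lpr_ct (K46.f477478 IH) (Lpr_et (f787972 IH) (Lpe (f787967 IH) (Lpn (LP (LK LD1_c14 LD2_c13 LD3_c30))))))
theorem f787976 : Led Lsl_et (LP (LK LD1_c14 LD2_c13 LD3_c30)) = (LP (LK LD1_c14 LD2_c17 LD3_c36)) :=
  Leop (Lpr_ef (f787975 IH) (Lpn (LP (LK LD1_c14 LD2_c13 LD3_c30))))
theorem seed_1544 : LEOK LG_e (LK LD1_c14 LD2_c13 LD3_c30) :=
  Leoe_e (LK LD1_c14 LD2_c13 LD3_c30) (f787976 IH)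
def v20593 : LQ := Led Lsl_ft (LP (LK LD1_c7 LD2_c0 LD3_c10))
theorem f788133 : Led Lsl_ft (LP (LK LD1_c7 LD2_c0 LD3_c10)) = v20593 :=
  Lrfl
theorem f788138 : Led Lsl_ff (LP (LK LD1_c7 LD2_c0 LD3_c10)) = v20593 :=
  Lgr Lrot3 (Lpr_ft (f788133 IH) (Lpn v20593))
theorem f788143 : Led Lsl_gf (LP (LK LD1_c7 LD2_c3 LD3_c28)) = v20593 :=
  Lgr Lrot47 (Lpr_gt (K47.f461591 IH) (Lpr_af (K34.f513676 IH) (Lpr_ff (f788138 IH) (Lpn v20593))))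
theorem f788141 : Led Lsl_dt (LP (LK LD1_c7 LD2_c37 LD3_c51)) = v20593 :=
  Lgr Lrot60 (Lpr_ff (K34.f513831 IH) (Lpe (K28.f63033 IH) (Lpr_ff (f788138 IH) (Lpn v20593))))
theorem f92953 : Led Lsl_dt (LP (LK LD1_c7 LD2_c32 LD3_c48)) = (LP (LK LD1_c3 LD2_c45 LD3_c60)) :=
  Lre_d IH (LK LD1_c7 LD2_c32 LD3_c48) (LK LD1_c3 LD2_c45 LD3_c60) Lrfl Lrfl
theorem f109801 : Led Lsl_et (LP (LK LD1_c12 LD2_c45 LD3_c36)) = (LP (LK LD1_c21 LD2_c52 LD3_c56)) :=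
  Lre_e IH (LK LD1_c12 LD2_c45 LD3_c36) (LK LD1_c21 LD2_c52 LD3_c56) Lrfl Lrfl
theorem f788145 : Led Lsl_gt (LP (LK LD1_c14 LD2_c27 LD3_c45)) = (LP (LK LD1_c21 LD2_c52 LD3_c56)) :=
  Lgr Lrot131 (Lpr_ef (K60.f517093 IH) (Lpe (K48.f517031 IH) (Lpr_gf (f788143 IH) (Lpe (f788141 IH) (Lpe (K34.f92784 IH) (Lpe (K5.f92932 IH) (Lpr_dt (f92953 IH) (Lpe (K60.f109790 IH) (Lpe (K60.f109793 IH) (Lpr_et (f109801 IH) (Lpn (LP (LK LD1_c21 LD2_c52 LD3_c56)))))))))))))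
theorem f788146 : Led Lsl_gt (LP (LK LD1_c14 LD2_c27 LD3_c45)) = (LP (LK LD1_c21 LD2_c52 LD3_c56)) :=
  Leop (Lpe (f788145 IH) (Lpn (LP (LK LD1_c14 LD2_c27 LD3_c45))))
theorem seed_1545 : LEOK LG_g (LK LD1_c14 LD2_c27 LD3_c45) :=
  Leoe_g (LK LD1_c14 LD2_c27 LD3_c45) (f788146 IH)
theorem f88054 : Led Lsl_et (LP (LK LD1_c3 LD2_c49 LD3_c32)) = (LP (LK LD1_c1 LD2_c51 LD3_c49)) :=
  Lre_e IH (LK LD1_c3 LD2_c49 LD3_c32) (LK LD1_c1 LD2_c51 LD3_c49) Lrfl Lrfl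
theorem f87219 : Led Lsl_dt (LP (LK LD1_c3 LD2_c49 LD3_c32)) = (LP (LK LD1_c1 LD2_c51 LD3_c46)) :=
  Lre_d IH (LK LD1_c3 LD2_c49 LD3_c32) (LK LD1_c1 LD2_c51 LD3_c46) Lrfl Lrfl
theorem f87334 : Led Lsl_dt (LP (LK LD1_c7 LD2_c39 LD3_c59)) = (LP (LK LD1_c3 LD2_c49 LD3_c31)) :=
  Lre_d IH (LK LD1_c7 LD2_c39 LD3_c59) (LK LD1_c3 LD2_c49 LD3_c31) Lrfl Lrfl
theorem f92717 : Led Lsl_et (LP (LK LD1_c24 LD2_c7 LD3_c13)) = (LP (LK LD1_c14 LD2_c26 LD3_c47)) :=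
  Lre_e IH (LK LD1_c24 LD2_c7 LD3_c13) (LK LD1_c14 LD2_c26 LD3_c47) Lrfl Lrfl
theorem f788149 : Led Lsl_gf (LP (LK LD1_c7 LD2_c39 LD3_c59)) = (LP (LK LD1_c14 LD2_c26 LD3_c47)) :=
  Lgr Lrot138 (Lpr_dt (f87334 IH) (Lpr_gt (K58.f87233 IH) (Lpe (f87219 IH) (Lpr_et (f88054 IH) (Lpr_gt (K43.f92656 IH) (Lpe (K48.f461605 IH) (Lpr_dt (K48.f461615 IH) (Lpr_gt (f788145 IH) (Lpe (K60.f778644 IH) (Lpr_et (f92717 IH) (Lpn (LP (LK LD1_c14 LD2_c26 LD3_c47)))))))))))))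
theorem f87335 : Led Lsl_dt (LP (LK LD1_c3 LD2_c49 LD3_c31)) = (LP (LK LD1_c7 LD2_c39 LD3_c59)) :=
  Lre_d IH (LK LD1_c3 LD2_c49 LD3_c31) (LK LD1_c7 LD2_c39 LD3_c59) Lrfl Lrfl
theorem f666057 : Led Lsl_et (LP (LK LD1_c3 LD2_c49 LD3_c31)) = (LP (LK LD1_c7 LD2_c39 LD3_c60)) :=
  Lre_e IH (LK LD1_c3 LD2_c49 LD3_c31) (LK LD1_c7 LD2_c39 LD3_c60) Lrfl Lrfl
theorem f88309 : Led Lsl_gt (LP (LK LD1_c7 LD2_c39 LD3_c60)) = (LP (LK LD1_c14 LD2_c27 LD3_c1)) :=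
  Lre_g IH (LK LD1_c7 LD2_c39 LD3_c60) (LK LD1_c14 LD2_c27 LD3_c1) Lrfl Lrfl
theorem f651126 : Led Lsl_gt (LP (LK LD1_c6 LD2_c39 LD3_c51)) = (LP (LK LD1_c12 LD2_c45 LD3_c32)) :=
  Lre_g IH (LK LD1_c6 LD2_c39 LD3_c51) (LK LD1_c12 LD2_c45 LD3_c32) Lrfl Lrfl
theorem f778482 : Led Lsl_at (LP (LK LD1_c7 LD2_c32 LD3_c49)) = (LP (LK LD1_c12 LD2_c45 LD3_c32)) :=
  Lgr Lrot26 (Lpe (K24.f93405 IH) (Lpr_gt (K60.f664813 IH) (Lpqs (K60.f778479 IH) (Lpr_gt (f651126 IH) (Lpn (LP (LK LD1_c12 LD2_c45 LD3_c32)))))))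
theorem f778493 : Led Lsl_ff (LP (LK LD1_c7 LD2_c0 LD3_c30)) = (LP (LK LD1_c12 LD2_c45 LD3_c32)) :=
  Lgr Lrot30 (Lpr_at (K5.f126423 IH) (Lpr_ft (K24.f93405 IH) (Lpr_at (f778482 IH) (Lpn (LP (LK LD1_c12 LD2_c45 LD3_c32))))))
theorem f778504 : Led Lsl_gf (LP (LK LD1_c6 LD2_c39 LD3_c53)) = (LP (LK LD1_c12 LD2_c45 LD3_c32)) :=
  Lgr Lrot47 (Lpr_gt (K60.f109790 IH) (Lpe (K5.f126423 IH) (Lpr_ff (f778493 IH) (Lpn (LP (LK LD1_c12 LD2_c45 LD3_c32))))))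
theorem f89330 : Led Lsl_et (LP (LK LD1_c7 LD2_c0 LD3_c30)) = (LP (LK LD1_c3 LD2_c29 LD3_c26)) :=
  Lre_e IH (LK LD1_c7 LD2_c0 LD3_c30) (LK LD1_c3 LD2_c29 LD3_c26) Lrfl Lrfl
theorem f127725 : Led Lsl_ft (LP (LK LD1_c3 LD2_c29 LD3_c26)) = (LP (LK LD1_c1 LD2_c50 LD3_c5)) :=
  Lgr Lrot75 (Lpe (K5.f87875 IH) (Lpr_ff (K5.f127721 IH) (Lpe (K5.f88155 IH) (Lpn (LP (LK LD1_c1 LD2_c50 LD3_c5))))))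
theorem f778500 : Led Lsl_et (LP (LK LD1_c7 LD2_c32 LD3_c56)) = (LP (LK LD1_c12 LD2_c45 LD3_c32)) :=
  Lgr Lrot69 (Lpe (K5.f88445 IH) (Lpe (K5.f88160 IH) (Lpe (f127725 IH) (Lpe (f89330 IH) (Lpr_ff (f778493 IH) (Lpn (LP (LK LD1_c12 LD2_c45 LD3_c32))))))))
theorem f127786 : Led Lsl_at (LP (LK LD1_c22 LD2_c33 LD3_c33)) = (LP (LK LD1_c14 LD2_c14 LD3_c0)) :=
  Lgr Lrot100 (Lpr_af (K5.f127778 IH) (Lpn (LP (LK LD1_c14 LD2_c14 LD3_c0))))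
theorem f104037 : Led Lsl_ft (LP (LK LD1_c13 LD2_c17 LD3_c44)) = (LP (LK LD1_c22 LD2_c33 LD3_c33)) :=
  Lre_f IH (LK LD1_c13 LD2_c17 LD3_c44) (LK LD1_c22 LD2_c33 LD3_c33) Lrfl Lrfl
theorem f104038 : Led Lsl_gt (LP (LK LD1_c13 LD2_c17 LD3_c44)) = (LP (LK LD1_c22 LD2_c33 LD3_c32)) :=
  Lre_g IH (LK LD1_c13 LD2_c17 LD3_c44) (LK LD1_c22 LD2_c33 LD3_c32) Lrfl Lrfl
theorem f440207 : Led Lsl_gt (LP (LK LD1_c22 LD2_c33 LD3_c32)) = (LP (LK LD1_c14 LD2_c14 LD3_c0)) :=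
  Lgr Lrot46 (Lpe (f104038 IH) (Lpr_ft (f104037 IH) (Lpr_at (f127786 IH) (Lpn (LP (LK LD1_c14 LD2_c14 LD3_c0))))))
theorem f788156 : Led Lsl_dt (LP (LK LD1_c14 LD2_c27 LD3_c1)) = (LP (LK LD1_c22 LD2_c33 LD3_c32)) :=
  Lgr Lrot171 (Lpe (f88309 IH) (Lpe (f666057 IH) (Lpr_dt (f87335 IH) (Lpr_gf (f788149 IH) (Lpr_df (K60.f778641 IH) (Lpe (K60.f778639 IH) (Lpr_gf (f778504 IH) (Lpe (f778500 IH) (Lpr_dt (K5.f127790 IH) (Lpe (f440207 IH) (Lpn (LP (LK LD1_c22 LD2_c33 LD3_c32)))))))))))))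
theorem f788157 : Led Lsl_dt (LP (LK LD1_c14 LD2_c27 LD3_c1)) = (LP (LK LD1_c22 LD2_c33 LD3_c32)) :=
  Leop (Lpe (f788156 IH) (Lpn (LP (LK LD1_c14 LD2_c27 LD3_c1))))
theorem seed_1546 : LEOK LG_d (LK LD1_c14 LD2_c27 LD3_c1) :=
  Leoe_d (LK LD1_c14 LD2_c27 LD3_c1) (f788157 IH)
theorem f516863 : Led Lsl_at (LP (LK LD1_c13 LD2_c17 LD3_c13)) = (LP (LK LD1_c7 LD2_c3 LD3_c28)) :=
  Lgr Lrot100 (Lpr_af (K48.f516861 IH) (Lpn (LP (LK LD1_c7 LD2_c3 LD3_c28))))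
theorem f788144 : Led Lsl_gt (LP (LK LD1_c7 LD2_c1 LD3_c5)) = v20593 :=
  Lgr Lrot5 (Lpe (K48.f516870 IH) (Lpr_at (f516863 IH) (Lpr_gf (f788143 IH) (Lpn v20593))))
theorem f465265 : Led Lsl_ct (LP (LK LD1_c3 LD2_c53 LD3_c30)) = (LP (LK LD1_c7 LD2_c48 LD3_c36)) :=
  Lre_c IH (LK LD1_c3 LD2_c53 LD3_c30) (LK LD1_c7 LD2_c48 LD3_c36) Lrfl Lrfl
def v6772 : LQ := Led Lsl_ft (LP (LK LD1_c3 LD2_c29 LD3_c13))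
theorem f658330 : Led Lsl_ft (LP (LK LD1_c3 LD2_c29 LD3_c13)) = v6772 :=
  Lrfl
theorem f658334 : Led Lsl_ff (LP (LK LD1_c3 LD2_c29 LD3_c13)) = v6772 :=
  Lgr Lrot3 (Lpr_ft (f658330 IH) (Lpn v6772))
theorem f788135 : Led Lsl_cf v6772 = v20593 :=
  Lgr Lrot108 (Lpe (f658334 IH) (Lpr_ct (K34.f460211 IH) (Lpr_ft (f788133 IH) (Lpn v20593))))
theorem f513674 : Led Lsl_af (LP (LK LD1_c1 LD2_c41 LD3_c58)) = (LP (LK LD1_c3 LD2_c29 LD3_c13)) :=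
  Lgr Lrot0 (Lpr_at (K34.f513672 IH) (Lpn (LP (LK LD1_c3 LD2_c29 LD3_c13))))
theorem f658338 : Led Lsl_gf (LP (LK LD1_c3 LD2_c30 LD3_c47)) = v6772 :=
  Lgr Lrot47 (Lpr_gt (K30.f129772 IH) (Lpr_af (f513674 IH) (Lpr_ff (f658334 IH) (Lpn v6772))))
theorem f64942 : Led Lsl_dt (LP (LK LD1_c1 LD2_c49 LD3_c23)) = (LP (LK LD1_c0 LD2_c51 LD3_c29)) :=
  Lre_d IH (LK LD1_c1 LD2_c49 LD3_c23) (LK LD1_c0 LD2_c51 LD3_c29) Lrfl Lrfl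
theorem f64943 : Led Lsl_gt (LP (LK LD1_c7 LD2_c2 LD3_c37)) = (LP (LK LD1_c3 LD2_c30 LD3_c22)) :=
  Lre_g IH (LK LD1_c7 LD2_c2 LD3_c37) (LK LD1_c3 LD2_c30 LD3_c22) Lrfl Lrfl
theorem f129773 : Led Lsl_ct (LP (LK LD1_c3 LD2_c30 LD3_c47)) = (LP (LK LD1_c7 LD2_c2 LD3_c37)) :=
  Lgr Lrot8 (Lpr_gt (K30.f129772 IH) (Lpr_dt (K30.f129670 IH) (Lpr_gt (K47.f129753 IH) (Lpr_dt (f64942 IH) (Lpe (K35.f17283 IH) (Lpe (K46.f64024 IH) (Lpr_gf (K1.f64932 IH) (Lpe (K1.f64931 IH) (Lpe (f64943 IH) (Lpn (LP (LK LD1_c7 LD2_c2 LD3_c37))))))))))))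
theorem f493556 : Led Lsl_ff (LP (LK LD1_c3 LD2_c30 LD3_c47)) = (LP (LK LD1_c1 LD2_c47 LD3_c58)) :=
  Lgr Lrot3 (Lpr_ft (K30.f493550 IH) (Lpn (LP (LK LD1_c1 LD2_c47 LD3_c58))))
theorem f493559 : Led Lsl_ft (LP (LK LD1_c7 LD2_c2 LD3_c37)) = (LP (LK LD1_c3 LD2_c42 LD3_c2)) :=
  Lgr Lrot4 (Lpe (f129773 IH) (Lpr_ff (f493556 IH) (Lpe (K30.f456272 IH) (Lpn (LP (LK LD1_c3 LD2_c42 LD3_c2))))))
theorem f493563 : Led Lsl_df (LP (LK LD1_c7 LD2_c2 LD3_c37)) = (LP (LK LD1_c7 LD2_c46 LD3_c46)) :=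
  Lgr Lrot78 (Lpr_ft (f493559 IH) (Lpr_dt (K48.f456370 IH) (Lpe (K48.f487221 IH) (Lpn (LP (LK LD1_c7 LD2_c46 LD3_c46))))))
theorem f487218 : Led Lsl_ct (LP (LK LD1_c14 LD2_c40 LD3_c36)) = (LP (LK LD1_c7 LD2_c46 LD3_c46)) :=
  Lre_c IH (LK LD1_c14 LD2_c40 LD3_c36) (LK LD1_c7 LD2_c46 LD3_c46) Lrfl Lrfl
theorem f788176 : Led Lsl_gt (LP (LK LD1_c7 LD2_c48 LD3_c36)) = (LP (LK LD1_c14 LD2_c40 LD3_c36)) :=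
  Lgr Lrot150 (Lpe (f465265 IH) (Lpe (K34.f530162 IH) (Lpr_df (K34.f472375 IH) (Lpr_gt (f788144 IH) (Lpe (f788135 IH) (Lpe (f658338 IH) (Lpr_ct (f129773 IH) (Lpr_df (f493563 IH) (Lpe (f487218 IH) (Lpn (LP (LK LD1_c14 LD2_c40 LD3_c36))))))))))))
theorem f788177 : Led Lsl_gt (LP (LK LD1_c7 LD2_c48 LD3_c36)) = (LP (LK LD1_c14 LD2_c40 LD3_c36)) :=
  Leop (Lpe (f788176 IH) (Lpn (LP (LK LD1_c7 LD2_c48 LD3_c36))))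
theorem seed_1547 : LEOK LG_g (LK LD1_c7 LD2_c48 LD3_c36) :=
  Leoe_g (LK LD1_c7 LD2_c48 LD3_c36) (f788177 IH)
def v20598 : LQ := Led Lsl_ft (LP (LK LD1_c7 LD2_c0 LD3_c24))
theorem f788307 : Led Lsl_ft (LP (LK LD1_c7 LD2_c0 LD3_c24)) = v20598 :=
  Lrfl
theorem f788310 : Led Lsl_ff (LP (LK LD1_c7 LD2_c0 LD3_c24)) = v20598 :=
  Lgr Lrot3 (Lpr_ft (f788307 IH) (Lpn v20598))
def v20274 : LQ := Led Lsl_ft (LP (LK LD1_c6 LD2_c53 LD3_c18))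
theorem f786031 : Led Lsl_ft (LP (LK LD1_c6 LD2_c53 LD3_c18)) = v20274 :=
  Lrfl
theorem f788312 : Led Lsl_bt v20274 = v20598 :=
  Lgr Lrot35 (Lpe (f786031 IH) (Lpe (K47.f493798 IH) (Lpr_ff (f788310 IH) (Lpn v20598))))
theorem f786033 : Led Lsl_ff (LP (LK LD1_c6 LD2_c53 LD3_c18)) = v20274 :=
  Lgr Lrot3 (Lpr_ft (f786031 IH) (Lpn v20274))
def v20272 : LQ := Led Lsl_at (LP (LK LD1_c6 LD2_c53 LD3_c18))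
theorem f786022 : Led Lsl_at (LP (LK LD1_c6 LD2_c53 LD3_c18)) = v20272 :=
  Lrfl
theorem f786023 : Led Lsl_af (LP (LK LD1_c6 LD2_c53 LD3_c18)) = v20272 :=
  Lgr Lrot0 (Lpr_at (f786022 IH) (Lpn v20272))
theorem f786024 : Led Lsl_ft (LP (LK LD1_c6 LD2_c53 LD3_c19)) = v20272 :=
  Lgr Lrot2 (Lpr_gt (K60.f115923 IH) (Lpr_gt (K47.f94312 IH) (Lpr_af (f786023 IH) (Lpn v20272))))
theorem f786025 : Led Lsl_ff (LP (LK LD1_c6 LD2_c53 LD3_c19)) = v20272 :=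
  Lgr Lrot3 (Lpr_ft (f786024 IH) (Lpn v20272))
theorem f786034 : Led Lsl_at (LP (LK LD1_c6 LD2_c53 LD3_c19)) = v20274 :=
  Lgr Lrot66 (Lpr_ff (f786025 IH) (Lpe (f786022 IH) (Lpr_ff (f786033 IH) (Lpn v20274))))
def v20597 : LQ := Led Lsl_at (LP (LK LD1_c7 LD2_c0 LD3_c24))
theorem f788303 : Led Lsl_at (LP (LK LD1_c7 LD2_c0 LD3_c24)) = v20597 :=
  Lrfl
theorem f788304 : Led Lsl_af (LP (LK LD1_c7 LD2_c0 LD3_c24)) = v20597 :=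
  Lgr Lrot0 (Lpr_at (f788303 IH) (Lpn v20597))
theorem f788305 : Led Lsl_ft (LP (LK LD1_c7 LD2_c0 LD3_c25)) = v20597 :=
  Lgr Lrot2 (Lpr_gt (K47.f120371 IH) (Lpr_gt (K30.f120373 IH) (Lpr_af (f788304 IH) (Lpn v20597))))
theorem f788308 : Led Lsl_af (LP (LK LD1_c7 LD2_c0 LD3_c25)) = v20598 :=
  Lgr Lrot45 (Lpr_ft (f788305 IH) (Lpe (f788304 IH) (Lpr_ft (f788307 IH) (Lpn v20598))))
theorem f788313 : Led Lsl_af (LP (LK LD1_c13 LD2_c5 LD3_c36)) = (LP (LK LD1_c13 LD2_c17 LD3_c36)) :=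
  Lgr Lrot36 (Lpr_bt (K60.f115930 IH) (Lpr_at (f786034 IH) (Lpr_bt (f788312 IH) (Lpe (f788308 IH) (Lpr_bt (K60.f658397 IH) (Lpn (LP (LK LD1_c13 LD2_c17 LD3_c36))))))))
theorem f788314 : Led Lsl_at (LP (LK LD1_c13 LD2_c17 LD3_c36)) = (LP (LK LD1_c13 LD2_c5 LD3_c36)) :=
  Leop (Lpr_af (f788313 IH) (Lpn (LP (LK LD1_c13 LD2_c17 LD3_c36))))
theorem seed_1548 : LEOK LG_a (LK LD1_c13 LD2_c17 LD3_c36) :=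
  Leoe_a (LK LD1_c13 LD2_c17 LD3_c36) (f788314 IH)
theorem f788315 : Led Lsl_at (LP (LK LD1_c13 LD2_c5 LD3_c36)) = (LP (LK LD1_c13 LD2_c17 LD3_c36)) :=
  Lgr Lrot100 (Lpr_af (f788313 IH) (Lpn (LP (LK LD1_c13 LD2_c17 LD3_c36))))
theorem f786043 : Led Lsl_cf (LP (LK LD1_c13 LD2_c17 LD3_c36)) = (LP (LK LD1_c13 LD2_c5 LD3_c36)) :=
  Lgr Lrot11 (Lpr_ct (K60.f786041 IH) (Lpn (LP (LK LD1_c13 LD2_c5 LD3_c36))))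
theorem f481877 : Led Lsl_bt (LP (LK LD1_c3 LD2_c25 LD3_c51)) = (LP (LK LD1_c6 LD2_c53 LD3_c37)) :=
  Lre_b IH (LK LD1_c3 LD2_c25 LD3_c51) (LK LD1_c6 LD2_c53 LD3_c37) Lrfl Lrfl
theorem f493771 : Led Lsl_af (LP (LK LD1_c3 LD2_c46 LD3_c57)) = (LP (LK LD1_c7 LD2_c18 LD3_c34)) :=
  Lgr Lrot0 (Lpr_at (K30.f493769 IH) (Lpn (LP (LK LD1_c7 LD2_c18 LD3_c34))))
theorem f493777 : Led Lsl_gf (LP (LK LD1_c7 LD2_c34 LD3_c45)) = (LP (LK LD1_c6 LD2_c53 LD3_c37)) :=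
  Lgr Lrot47 (Lpr_gt (K46.f477474 IH) (Lpr_af (f493771 IH) (Lpr_ff (f485825 IH) (Lpn (LP (LK LD1_c6 LD2_c53 LD3_c37))))))
theorem f493779 : Led Lsl_ct (LP (LK LD1_c7 LD2_c34 LD3_c45)) = (LP (LK LD1_c14 LD2_c17 LD3_c36)) :=
  Lre_c IH (LK LD1_c7 LD2_c34 LD3_c45) (LK LD1_c14 LD2_c17 LD3_c36) Lrfl Lrfl
theorem f786050 : Led Lsl_gf (LP (LK LD1_c13 LD2_c17 LD3_c36)) = (LP (LK LD1_c14 LD2_c17 LD3_c36)) :=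
  Lgr Lrot129 (Lpr_cf (f786043 IH) (Lpr_bt (K60.f115930 IH) (Lpr_gt (K60.f115923 IH) (Lpe (K29.f94311 IH) (Lpr_ct (K29.f94290 IH) (Lpr_gt (K29.f94303 IH) (Lpe (K35.f481876 IH) (Lpr_bt (f481877 IH) (Lpe (f493777 IH) (Lpr_ct (f493779 IH) (Lpn (LP (LK LD1_c14 LD2_c17 LD3_c36)))))))))))))
theorem f788325 : Led Lsl_ff (LP (LK LD1_c13 LD2_c5 LD3_c36)) = (LP (LK LD1_c22 LD2_c16 LD3_c14)) :=
  Lgr Lrot52 (Lpr_at (f788315 IH) (Lpr_gf (f786050 IH) (Lpe (K46.f650359 IH) (Lpn (LP (LK LD1_c22 LD2_c16 LD3_c14))))))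
theorem f788331 : v20272 = (LP (LK LD1_c13 LD2_c5 LD3_c29)) :=
  (Llr Lrot75 (Lpe (f786024 IH) (Lpe (K60.f115930 IH) (Lpr_ff (f788325 IH) (Lpe (K46.f478577 IH) (Lpn (LP (LK LD1_c13 LD2_c5 LD3_c29)))))))).symm
theorem f788336 : Led Lsl_ff K60.v20275 = (LP (LK LD1_c7 LD2_c32 LD3_c36)) :=
  Lgr Lrot23 (Lpe (K60.f786036 IH) (Lpr_ft (f786024 IH) (Lpqs (f788331 IH) (Lpr_ct (K46.f478579 IH) (Lpn (LP (LK LD1_c7 LD2_c32 LD3_c36)))))))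
theorem f478578 : Led Lsl_bt (LP (LK LD1_c3 LD2_c45 LD3_c55)) = (LP (LK LD1_c7 LD2_c32 LD3_c36)) :=
  Lre_b IH (LK LD1_c3 LD2_c45 LD3_c55) (LK LD1_c7 LD2_c32 LD3_c36) Lrfl Lrfl
def v7377 : LQ := Led Lsl_ft (LP (LK LD1_c3 LD2_c45 LD3_c55))
theorem f664794 : Led Lsl_ft (LP (LK LD1_c3 LD2_c45 LD3_c55)) = v7377 :=
  Lrfl
theorem f664796 : Led Lsl_ff (LP (LK LD1_c3 LD2_c45 LD3_c55)) = v7377 :=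
  Lgr Lrot3 (Lpr_ft (f664794 IH) (Lpn v7377))
theorem f788347 : (LP (LK LD1_c7 LD2_c32 LD3_c33)) = v7377 :=
  (Llr Lrot35 (Lpr_bf (K60.f786039 IH) (Lpr_ff (f788336 IH) (Lpe (f478578 IH) (Lpr_ff (f664796 IH) (Lpn v7377)))))).symm
def v7375 : LQ := Led Lsl_at (LP (LK LD1_c3 LD2_c45 LD3_c55))
theorem f664785 : Led Lsl_at (LP (LK LD1_c3 LD2_c45 LD3_c55)) = v7375 :=
  Lrfl
theorem f664786 : Led Lsl_af (LP (LK LD1_c3 LD2_c45 LD3_c55)) = v7375 :=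
  Lgr Lrot0 (Lpr_at (f664785 IH) (Lpn v7375))
theorem f664788 : Led Lsl_ft (LP (LK LD1_c3 LD2_c45 LD3_c56)) = v7375 :=
  Lgr Lrot2 (Lpr_gt (K49.f109828 IH) (Lpr_gt (K46.f85279 IH) (Lpr_af (f664786 IH) (Lpn v7375))))
theorem f664795 : Led Lsl_af (LP (LK LD1_c3 LD2_c45 LD3_c56)) = v7377 :=
  Lgr Lrot45 (Lpr_ft (f664788 IH) (Lpe (f664786 IH) (Lpr_ft (f664794 IH) (Lpn v7377))))
theorem f788348 : Led Lsl_at (LP (LK LD1_c7 LD2_c32 LD3_c33)) = (LP (LK LD1_c3 LD2_c45 LD3_c56)) :=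
  Leop (Lpr_af (f664795 IH) (Lpq (f788347 IH) (Lpn (LP (LK LD1_c7 LD2_c32 LD3_c33)))))
theorem seed_1549 : LEOK LG_a (LK LD1_c7 LD2_c32 LD3_c33) :=
  Leoe_a (LK LD1_c7 LD2_c32 LD3_c33) (f788348 IH)
def v20610 : LQ := Led Lsl_ct (LP (LK LD1_c7 LD2_c0 LD3_c37))
theorem f788488 : Led Lsl_ct (LP (LK LD1_c7 LD2_c0 LD3_c37)) = v20610 :=
  Lrfl
def v7419 : LQ := Led Lsl_ct (LP (LK LD1_c3 LD2_c46 LD3_c56))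
theorem f665299 : Led Lsl_ct (LP (LK LD1_c3 LD2_c46 LD3_c56)) = v7419 :=
  Lrfl
theorem f665300 : Led Lsl_cf (LP (LK LD1_c3 LD2_c46 LD3_c56)) = v7419 :=
  Lgr Lrot11 (Lpr_ct (f665299 IH) (Lpn v7419))
theorem f788491 : Led Lsl_ff v7419 = v20610 :=
  Lgr Lrot23 (Lpe (f665300 IH) (Lpr_ft (K48.f665027 IH) (Lpq (K48.f665056 IH) (Lpr_ct (f788488 IH) (Lpn v20610)))))
theorem f788492 : Led Lsl_ft v7419 = v20610 :=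
  Lgr Lrot48 (Lpr_ff (f788491 IH) (Lpn v20610))
theorem f658444 : Led Lsl_gf (LP (LK LD1_c3 LD2_c46 LD3_c56)) = K48.v6783 :=
  Lgr Lrot47 (Lpr_gt (K48.f93626 IH) (Lpr_af (K48.f120575 IH) (Lpr_ff (K48.f658435 IH) (Lpn K48.v6783))))
theorem f658434 : Led Lsl_df K33.v2301 = K48.v6783 :=
  Lgr Lrot78 (Lpe (K33.f511961 IH) (Lpr_dt (K34.f89313 IH) (Lpr_ft (K48.f658432 IH) (Lpn K48.v6783))))
def v6788 : LQ := Led Lsl_ct (LP (LK LD1_c3 LD2_c29 LD3_c56))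
theorem f658477 : Led Lsl_ct (LP (LK LD1_c3 LD2_c29 LD3_c56)) = v6788 :=
  Lrfl
theorem f658478 : Led Lsl_cf (LP (LK LD1_c3 LD2_c29 LD3_c56)) = v6788 :=
  Lgr Lrot11 (Lpr_ct (f658477 IH) (Lpn v6788))
theorem f665301 : Led Lsl_gf v6788 = v7419 :=
  Lgr Lrot104 (Lpe (f658478 IH) (Lpe (K60.f63636 IH) (Lpr_cf (K34.f508598 IH) (Lpq (K34.f528007 IH) (Lpe (K34.f523631 IH) (Lpr_cf (K33.f511739 IH) (Lpr_gf (K33.f511966 IH) (Lpr_df (f658434 IH) (Lpe (f658444 IH) (Lpr_ct (f665299 IH) (Lpn v7419)))))))))))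
def v7417 : LQ := Led Lsl_ct (LP (LK LD1_c3 LD2_c46 LD3_c55))
theorem f665033 : Led Lsl_ct (LP (LK LD1_c3 LD2_c46 LD3_c55)) = v7417 :=
  Lrfl
theorem f665034 : Led Lsl_cf (LP (LK LD1_c3 LD2_c46 LD3_c55)) = v7417 :=
  Lgr Lrot11 (Lpr_ct (f665033 IH) (Lpn v7417))
theorem f788489 : Led Lsl_af v7417 = v20610 :=
  Lgr Lrot68 (Lpe (f665034 IH) (Lpr_at (K48.f665021 IH) (Lpq (K48.f665056 IH) (Lpr_ct (f788488 IH) (Lpn v20610)))))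
theorem f788493 : Led Lsl_gt v6788 = v7417 :=
  Lgr Lrot46 (Lpr_gf (f665301 IH) (Lpr_ft (f788492 IH) (Lpe (f788489 IH) (Lpn v7417))))
theorem f484044 : Led Lsl_bt (LP (LK LD1_c7 LD2_c18 LD3_c33)) = (LP (LK LD1_c13 LD2_c49 LD3_c47)) :=
  Lre_b IH (LK LD1_c7 LD2_c18 LD3_c33) (LK LD1_c13 LD2_c49 LD3_c47) Lrfl Lrfl
theorem f665024 : Led Lsl_bt (LP (LK LD1_c3 LD2_c46 LD3_c55)) = (LP (LK LD1_c7 LD2_c34 LD3_c41)) :=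
  Lre_b IH (LK LD1_c3 LD2_c46 LD3_c55) (LK LD1_c7 LD2_c34 LD3_c41) Lrfl Lrfl
theorem f788494 : Led Lsl_gf (LP (LK LD1_c13 LD2_c49 LD3_c47)) = (LP (LK LD1_c7 LD2_c34 LD3_c41)) :=
  Lgr Lrot124 (Lpe (f484044 IH) (Lpr_ct (K29.f484024 IH) (Lpr_gt (K60.f786099 IH) (Lpe (K60.f786101 IH) (Lpe (K60.f673203 IH) (Lpe (K60.f658465 IH) (Lpr_ct (f658477 IH) (Lpr_gt (f788493 IH) (Lpe (f665033 IH) (Lpr_bt (f665024 IH) (Lpn (LP (LK LD1_c7 LD2_c34 LD3_c41)))))))))))))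
theorem f788495 : Led Lsl_gt (LP (LK LD1_c7 LD2_c34 LD3_c41)) = (LP (LK LD1_c13 LD2_c49 LD3_c47)) :=
  Leop (Lpr_gf (f788494 IH) (Lpn (LP (LK LD1_c7 LD2_c34 LD3_c41))))
theorem seed_1550 : LEOK LG_g (LK LD1_c7 LD2_c34 LD3_c41) :=
  Leoe_g (LK LD1_c7 LD2_c34 LD3_c41) (f788495 IH)
def v20643 : LQ := Led Lsl_bt (LP (LK LD1_c7 LD2_c1 LD3_c45))
theorem f788691 : Led Lsl_bt (LP (LK LD1_c7 LD2_c1 LD3_c45)) = v20643 :=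
  Lrfl
theorem f531594 : Led Lsl_ff (LP (LK LD1_c3 LD2_c42 LD3_c0)) = K49.v2723 :=
  Lgr Lrot23 (Lpr_ct (K32.f451335 IH) (Lpr_ft (K28.f459371 IH) (Lpr_ct (K49.f531593 IH) (Lpn K49.v2723))))
theorem f531597 : Led Lsl_ft (LP (LK LD1_c3 LD2_c42 LD3_c0)) = K49.v2723 :=
  Lgr Lrot48 (Lpr_ff (f531594 IH) (Lpn K49.v2723))
theorem f483407 : Led Lsl_df (LP (LK LD1_c7 LD2_c46 LD3_c6)) = (LP (LK LD1_c14 LD2_c1 LD3_c10)) :=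
  Lgr Lrot153 (Lpe (K33.f482936 IH) (Lpe (K33.f474870 IH) (Lpe (K29.f109676 IH) (Lpr_df (K33.f474416 IH) (Lpe (K33.f88085 IH) (Lpe (K29.f88084 IH) (Lpe (K29.f88003 IH) (Lpe (K29.f474422 IH) (Lpr_gt (K33.f483356 IH) (Lpn (LP (LK LD1_c14 LD2_c1 LD3_c10))))))))))))
theorem f483413 : Led Lsl_dt (LP (LK LD1_c7 LD2_c46 LD3_c6)) = (LP (LK LD1_c14 LD2_c1 LD3_c10)) :=
  Lgr Lrot42 (Lpr_df (f483407 IH) (Lpn (LP (LK LD1_c14 LD2_c1 LD3_c10))))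
theorem f441398 : Led Lsl_ct (LP (LK LD1_c3 LD2_c46 LD3_c11)) = (LP (LK LD1_c7 LD2_c33 LD3_c22)) :=
  Lre_c IH (LK LD1_c3 LD2_c46 LD3_c11) (LK LD1_c7 LD2_c33 LD3_c22) Lrfl Lrfl
theorem f474754 : Led Lsl_dt (LP (LK LD1_c7 LD2_c33 LD3_c18)) = (LP (LK LD1_c7 LD2_c33 LD3_c22)) :=
  Lgr Lrot27 (Lpe (K33.f441422 IH) (Lpe (K29.f474337 IH) (Lpe (K29.f466948 IH) (Lpr_gf (K32.f474527 IH) (Lpr_df (K29.f474474 IH) (Lpr_gt (K29.f440693 IH) (Lpr_ct (K29.f85262 IH) (Lpr_gt (K29.f441393 IH) (Lpr_ct (f441398 IH) (Lpn (LP (LK LD1_c7 LD2_c33 LD3_c22))))))))))))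
theorem f483417 : Led Lsl_gf (LP (LK LD1_c7 LD2_c33 LD3_c18)) = (LP (LK LD1_c14 LD2_c1 LD3_c10)) :=
  Lgr Lrot143 (Lpr_dt (f474754 IH) (Lpe (f441398 IH) (Lpe (K29.f441397 IH) (Lpr_gf (K29.f474239 IH) (Lpe (K29.f62975 IH) (Lpe (K29.f464153 IH) (Lpe (K29.f464156 IH) (Lpr_gt (K33.f482946 IH) (Lpr_dt (f483413 IH) (Lpn (LP (LK LD1_c14 LD2_c1 LD3_c10))))))))))))
theorem f474711 : Led Lsl_ct (LP (LK LD1_c7 LD2_c24 LD3_c43)) = (LP (LK LD1_c14 LD2_c1 LD3_c10)) :=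
  Lre_c IH (LK LD1_c7 LD2_c24 LD3_c43) (LK LD1_c14 LD2_c1 LD3_c10) Lrfl Lrfl
theorem f483419 : Led Lsl_gt (LP (LK LD1_c7 LD2_c33 LD3_c22)) = (LP (LK LD1_c13 LD2_c20 LD3_c1)) :=
  Lgr Lrot49 (Lpe (f474754 IH) (Lpr_gf (f483417 IH) (Lpe (f474711 IH) (Lpr_gt (K33.f474709 IH) (Lpr_dt (K29.f440744 IH) (Lpe (K29.f481880 IH) (Lpr_dt (K4.f63887 IH) (Lpe (K29.f115764 IH) (Lpe (K29.f115976 IH) (Lpn (LP (LK LD1_c13 LD2_c20 LD3_c1))))))))))))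
theorem f483422 : Led Lsl_gf (LP (LK LD1_c7 LD2_c33 LD3_c22)) = (LP (LK LD1_c7 LD2_c1 LD3_c47)) :=
  Lgr Lrot47 (Lpr_gt (f483419 IH) (Lpr_af (K33.f441020 IH) (Lpe (K29.f115975 IH) (Lpn (LP (LK LD1_c7 LD2_c1 LD3_c47))))))
theorem f474758 : Led Lsl_df (LP (LK LD1_c7 LD2_c33 LD3_c18)) = (LP (LK LD1_c7 LD2_c33 LD3_c22)) :=
  Lgr Lrot162 (Lpe (K33.f441422 IH) (Lpe (K29.f474337 IH) (Lpe (K29.f466948 IH) (Lpr_gf (K32.f474527 IH) (Lpr_dt (K29.f474480 IH) (Lpr_gt (K29.f440693 IH) (Lpr_ct (K29.f85262 IH) (Lpr_gt (K29.f441393 IH) (Lpr_ct (f441398 IH) (Lpn (LP (LK LD1_c7 LD2_c33 LD3_c22))))))))))))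
theorem f116000 : Led Lsl_ct (LP (LK LD1_c3 LD2_c30 LD3_c1)) = (LP (LK LD1_c7 LD2_c1 LD3_c47)) :=
  Lre_c IH (LK LD1_c3 LD2_c30 LD3_c1) (LK LD1_c7 LD2_c1 LD3_c47) Lrfl Lrfl
theorem f483425 : Led Lsl_df (LP (LK LD1_c3 LD2_c42 LD3_c0)) = (LP (LK LD1_c7 LD2_c1 LD3_c45)) :=
  Lgr Lrot153 (Lpr_gt (K32.f451586 IH) (Lpe (K32.f474263 IH) (Lpe (K29.f466858 IH) (Lpe (K29.f474738 IH) (Lpe (K33.f483010 IH) (Lpr_df (f474758 IH) (Lpr_gf (f483422 IH) (Lpe (f116000 IH) (Lpr_gt (K32.f63888 IH) (Lpn (LP (LK LD1_c7 LD2_c1 LD3_c45))))))))))))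
theorem f676183 : Led Lsl_ff (LP (LK LD1_c7 LD2_c1 LD3_c45)) = K49.v9490 :=
  Lgr Lrot19 (Lpe (f483425 IH) (Lpr_ft (f531597 IH) (Lpr_dt (K49.f676178 IH) (Lpn K49.v9490))))
theorem f676182 : Led Lsl_df K49.v2723 = K49.v9490 :=
  Lgr Lrot38 (Lpr_dt (K49.f676178 IH) (Lpn K49.v9490))
theorem f531588 : Led Lsl_bf K49.v2464 = K49.v2723 :=
  Lgr Lrot96 (Lpe (K49.f522450 IH) (Lpe (K29.f456649 IH) (Lpr_et (K49.f531586 IH) (Lpn K49.v2723))))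
theorem f676191 : Led Lsl_bt K49.v9146 = K49.v9490 :=
  Lgr Lrot95 (Lpe (K49.f673777 IH) (Lpr_bf (f531588 IH) (Lpr_df (f676182 IH) (Lpn K49.v9490))))
theorem f788694 : Led Lsl_ff K49.v9146 = v20643 :=
  Lgr Lrot25 (Lpr_bt (f676191 IH) (Lpe (f676183 IH) (Lpr_bt (f788691 IH) (Lpn v20643))))
def v7198 : LQ := Led Lsl_bt (LP (LK LD1_c3 LD2_c42 LD3_c0))
theorem f662233 : Led Lsl_bt (LP (LK LD1_c3 LD2_c42 LD3_c0)) = v7198 :=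
  Lrfl
theorem f662236 : Led Lsl_ff K49.v2464 = v7198 :=
  Lgr Lrot25 (Lpr_bt (K49.f531592 IH) (Lpe (f531594 IH) (Lpr_bt (f662233 IH) (Lpn v7198))))
theorem f662239 : Led Lsl_ft K49.v2464 = v7198 :=
  Lgr Lrot48 (Lpr_ff (f662236 IH) (Lpn v7198))
theorem f788695 : Led Lsl_dt v7198 = v20643 :=
  Lgr Lrot60 (Lpe (f662239 IH) (Lpr_df (K49.f673778 IH) (Lpr_ff (f788694 IH) (Lpn v20643))))
theorem f522449 : Led Lsl_cf K49.v711 = K49.v2464 :=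
  Lgr Lrot39 (Lpe (K49.f456892 IH) (Lpr_ct (K29.f10153 IH) (Lpr_et (K49.f522448 IH) (Lpn K49.v2464))))
def v3321 : LQ := Led Lsl_ft K49.v711
theorem f625120 : Led Lsl_ft K49.v711 = v3321 :=
  Lrfl
theorem f662237 : Led Lsl_ct v3321 = v7198 :=
  Lgr Lrot40 (Lpe (f625120 IH) (Lpr_cf (f522449 IH) (Lpr_ff (f662236 IH) (Lpn v7198))))
theorem f625124 : Led Lsl_ff K49.v711 = v3321 :=
  Lgr Lrot3 (Lpr_ft (f625120 IH) (Lpn v3321))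
theorem f511453 : Led Lsl_bt K24.v721 = K32.v2281 :=
  Lgr Lrot130 (Lpr_ct (K33.f458763 IH) (Lpe (K24.f458766 IH) (Lpe (K24.f451321 IH) (Lpr_bt (K24.f451319 IH) (Lpr_gf (K34.f479814 IH) (Lpe (K32.f479819 IH) (Lpr_ct (K32.f479821 IH) (Lpe (K32.f479874 IH) (Lpe (K29.f91986 IH) (Lpr_gf (K32.f511448 IH) (Lpn K32.v2281)))))))))))
theorem f511454 : Led Lsl_bf K24.v721 = K32.v2281 :=
  Lgr Lrot24 (Lpr_bt (f511453 IH) (Lpn K32.v2281))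
theorem f511455 : Led Lsl_ft (LP (LK LD1_c1 LD2_c45 LD3_c54)) = K32.v2281 :=
  Lgr Lrot75 (Lpe (K24.f455984 IH) (Lpqs (K24.f457225 IH) (Lpr_ff (K24.f457130 IH) (Lpq (K24.f457220 IH) (Lpr_bf (f511454 IH) (Lpn K32.v2281))))))
theorem f625127 : Led Lsl_et K32.v2281 = v3321 :=
  Lgr Lrot69 (Lpe (f511455 IH) (Lpe (K35.f455981 IH) (Lpq (K29.f457229 IH) (Lpe (K29.f456894 IH) (Lpr_ef (K49.f456892 IH) (Lpr_ff (f625124 IH) (Lpn v3321)))))))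
theorem f626049 : Led Lsl_gf v3321 = K49.v905 :=
  Lgr Lrot141 (Lpe (f625127 IH) (Lpe (K33.f511452 IH) (Lpe (K28.f473244 IH) (Lpe (K28.f91495 IH) (Lpr_et (K33.f91509 IH) (Lpr_gt (K33.f511680 IH) (Lpr_dt (K35.f626043 IH) (Lpe (K35.f626041 IH) (Lpe (K35.f490376 IH) (Lpr_et (K49.f490378 IH) (Lpn K49.v905)))))))))))
def v9531 : LQ := Led Lsl_gf K49.v2761
theorem f676535 : Led Lsl_gf K49.v2761 = v9531 :=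
  Lrfl
def v20467 : LQ := Led Lsl_et (LP (LK LD1_c6 LD2_c57 LD3_c32))
theorem f787172 : Led Lsl_et (LP (LK LD1_c6 LD2_c57 LD3_c32)) = v20467 :=
  Lrfl
theorem f464293 : Led Lsl_dt (LP (LK LD1_c13 LD2_c3 LD3_c47)) = (LP (LK LD1_c6 LD2_c54 LD3_c28)) :=
  Lre_d IH (LK LD1_c13 LD2_c3 LD3_c47) (LK LD1_c6 LD2_c54 LD3_c28) Lrfl Lrfl
theorem f479337 : Led Lsl_gt (LP (LK LD1_c7 LD2_c19 LD3_c60)) = (LP (LK LD1_c6 LD2_c54 LD3_c25)) :=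
  Lgr Lrot94 (Lpe (K28.f456378 IH) (Lpr_gt (K29.f479335 IH) (Lpe (K29.f473310 IH) (Lpr_gt (K29.f18398 IH) (Lpr_dt (f464293 IH) (Lpe (K32.f97598 IH) (Lpe (K29.f14654 IH) (Lpe (K29.f15901 IH) (Lpe (K29.f464468 IH) (Lpn (LP (LK LD1_c6 LD2_c54 LD3_c25))))))))))))
theorem f483796 : Led Lsl_gf (LP (LK LD1_c3 LD2_c44 LD3_c30)) = (LP (LK LD1_c7 LD2_c0 LD3_c12)) :=
  Lgr Lrot144 (Lpr_dt (K34.f483792 IH) (Lpr_gt (K34.f473687 IH) (Lpe (K29.f473795 IH) (Lpr_cf (K29.f472216 IH) (Lpe (K29.f464468 IH) (Lpe (f479337 IH) (Lpe (K28.f456281 IH) (Lpe (K28.f473205 IH) (Lpr_cf (K29.f457441 IH) (Lpn (LP (LK LD1_c7 LD2_c0 LD3_c12))))))))))))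
theorem f129748 : Led Lsl_dt (LP (LK LD1_c3 LD2_c29 LD3_c14)) = (LP (LK LD1_c7 LD2_c0 LD3_c12)) :=
  Lre_d IH (LK LD1_c3 LD2_c29 LD3_c14) (LK LD1_c7 LD2_c0 LD3_c12) Lrfl Lrfl
theorem f98726 : Led Lsl_dt (LP (LK LD1_c6 LD2_c51 LD3_c39)) = (LP (LK LD1_c13 LD2_c2 LD3_c60)) :=
  Lre_d IH (LK LD1_c6 LD2_c51 LD3_c39) (LK LD1_c13 LD2_c2 LD3_c60) Lrfl Lrfl
theorem f483822 : Led Lsl_gt (LP (LK LD1_c13 LD2_c2 LD3_c60)) = (LP (LK LD1_c13 LD2_c12 LD3_c53)) :=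
  Lgr Lrot49 (Lpe (f98726 IH) (Lpr_gf (K29.f464278 IH) (Lpe (K29.f464262 IH) (Lpr_gt (K28.f463586 IH) (Lpr_dt (f129748 IH) (Lpe (f483796 IH) (Lpr_dt (K34.f483792 IH) (Lpr_cf (K35.f483804 IH) (Lpe (K48.f468964 IH) (Lpn (LP (LK LD1_c13 LD2_c12 LD3_c53))))))))))))
def v11949 : LQ := Led Lsl_ct K49.v3955
theorem f686979 : Led Lsl_ct K49.v3955 = v11949 :=
  Lrfl
theorem f686982 : Led Lsl_ef (LP (LK LD1_c6 LD2_c51 LD3_c39)) = v11949 :=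
  Lgr Lrot28 (Lpr_ct (K29.f19140 IH) (Lpr_et (K46.f654548 IH) (Lpq (K49.f658024 IH) (Lpr_ct (f686979 IH) (Lpn v11949)))))
theorem f686984 : Led Lsl_et (LP (LK LD1_c6 LD2_c51 LD3_c39)) = v11949 :=
  Lgr Lrot87 (Lpr_ef (f686982 IH) (Lpn v11949))
def v3956 : LQ := Led Lsl_gf K49.v1140
def v11951 : LQ := Led Lsl_ct v3956
theorem f686999 : Led Lsl_ct v3956 = v11951 :=
  Lrfl
theorem f628741 : Led Lsl_gf K49.v1140 = v3956 :=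
  Lrfl
theorem f493344 : Led Lsl_gt v986 = v597 :=
  Lgr Lrot112 (Lpr_df (f493342 IH) (Lpe (K49.f493340 IH) (Lpq (K49.f493318 IH) (Lpe (K49.f455074 IH) (Lpe (K33.f14610 IH) (Lpr_dt (K2.f14609 IH) (Lpe (K2.f9797 IH) (Lpr_df (K0.f14561 IH) (Lpe (K2.f14600 IH) (Lpe (K29.f14608 IH) (Lpr_dt (f455099 IH) (Lpn v597))))))))))))
theorem f455100 : Led Lsl_df (LP (LK LD1_c0 LD2_c46 LD3_c31)) = v597 :=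
  Lgr Lrot38 (Lpr_dt (f455099 IH) (Lpn v597))
theorem f687002 : Led Lsl_gf (LP (LK LD1_c6 LD2_c54 LD3_c9)) = v11951 :=
  Lgr Lrot148 (Lpe (K35.f102540 IH) (Lpr_gt (K35.f102537 IH) (Lpr_dt (K6.f102555 IH) (Lpr_ct (K33.f15162 IH) (Lpr_df (f455100 IH) (Lpe (f493344 IH) (Lpr_df (f493342 IH) (Lpr_gf (f628741 IH) (Lpr_ct (f686999 IH) (Lpn v11951))))))))))
theorem f657373 : Led Lsl_at (LP (LK LD1_c3 LD2_c24 LD3_c56)) = K46.v6637 :=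
  Lgr Lrot100 (Lpr_af (K46.f657372 IH) (Lpn K46.v6637))
theorem f658025 : v6646 = v3956 :=
  (Llr Lrot52 (Lpe (f657452 IH) (Lpr_at (f657373 IH) (Lpq (K49.f658024 IH) (Lpe (K49.f628740 IH) (Lpr_gf (f628741 IH) (Lpn v3956))))))).symm
theorem f687001 : Led Lsl_ff (LP (LK LD1_c6 LD2_c52 LD3_c18)) = v11951 :=
  Lgr Lrot23 (Lpr_ct (K34.f463418 IH) (Lpr_ft (f657450 IH) (Lpqs (f658025 IH) (Lpr_ct (f686999 IH) (Lpn v11951)))))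
theorem f655905 : Led Lsl_at (LP (LK LD1_c6 LD2_c51 LD3_c39)) = (LP (LK LD1_c3 LD2_c24 LD3_c54)) :=
  Lgr Lrot51 (Lpe (K46.f98731 IH) (Lpr_af (K46.f655895 IH) (Lpe (K28.f468925 IH) (Lpn (LP (LK LD1_c3 LD2_c24 LD3_c54))))))
theorem f686983 : Led Lsl_at (LP (LK LD1_c6 LD2_c52 LD3_c18)) = v11949 :=
  Lgr Lrot80 (Lpe (K48.f476605 IH) (Lpe (f655905 IH) (Lpr_ef (f686982 IH) (Lpn v11949))))
theorem f687003 : Led Lsl_gt (LP (LK LD1_c6 LD2_c54 LD3_c9)) = v11949 :=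
  Lgr Lrot46 (Lpr_gf (f687002 IH) (Lpe (f687001 IH) (Lpr_at (f686983 IH) (Lpn v11949))))
theorem f102544 : Led Lsl_dt (LP (LK LD1_c3 LD2_c26 LD3_c7)) = (LP (LK LD1_c6 LD2_c54 LD3_c8)) :=
  Lre_d IH (LK LD1_c3 LD2_c26 LD3_c7) (LK LD1_c6 LD2_c54 LD3_c8) Lrfl Lrfl
def v20309 : LQ := Led Lsl_gf (LP (LK LD1_c6 LD2_c54 LD3_c8))
theorem f786255 : Led Lsl_gf (LP (LK LD1_c6 LD2_c54 LD3_c8)) = v20309 :=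
  Lrfl
def v20308 : LQ := Led Lsl_gt (LP (LK LD1_c6 LD2_c54 LD3_c8))
theorem f786249 : Led Lsl_gt (LP (LK LD1_c6 LD2_c54 LD3_c8)) = v20308 :=
  Lrfl
def v2751 : LQ := Led Lsl_ft (LP (LK LD1_c1 LD2_c54 LD3_c37))
theorem f531756 : Led Lsl_ft (LP (LK LD1_c1 LD2_c54 LD3_c37)) = v2751 :=
  Lrfl
theorem f531759 : Led Lsl_ff (LP (LK LD1_c1 LD2_c54 LD3_c37)) = v2751 :=
  Lgr Lrot3 (Lpr_ft (f531756 IH) (Lpn v2751))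
theorem f532476 : Led Lsl_gt v2751 = (LP (LK LD1_c3 LD2_c26 LD3_c25)) :=
  Lgr Lrot5 (Lpe (f531759 IH) (Lpr_at (K41.f531750 IH) (Lpqs (K41.f531828 IH) (Lpe (K29.f471769 IH) (Lpn (LP (LK LD1_c3 LD2_c26 LD3_c25)))))))
def v9522 : LQ := Led Lsl_et v2751
theorem f676451 : Led Lsl_et v2751 = v9522 :=
  Lrfl
theorem f676454 : Led Lsl_ef v2751 = v9522 :=
  Lgr Lrot88 (Lpr_et (f676451 IH) (Lpn v9522))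
theorem f786252 : Led Lsl_dt v9522 = v20308 :=
  Lgr Lrot56 (Lpe (f676454 IH) (Lpr_gt (f532476 IH) (Lpe (K8.f102543 IH) (Lpe (K6.f102529 IH) (Lpr_gt (K6.f102527 IH) (Lpe (K3.f90888 IH) (Lpr_et (K35.f95020 IH) (Lpr_gt (K35.f102538 IH) (Lpr_dt (f102544 IH) (Lpr_gt (f786249 IH) (Lpn v20308)))))))))))
theorem f531751 : Led Lsl_af (LP (LK LD1_c1 LD2_c54 LD3_c37)) = K41.v2750 :=
  Lgr Lrot0 (Lpr_at (K41.f531750 IH) (Lpn K41.v2750))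
theorem f490369 : Led Lsl_ff (LP (LK LD1_c0 LD2_c53 LD3_c58)) = K34.v901 :=
  Lgr Lrot3 (Lpr_ft (K34.f490368 IH) (Lpn K34.v901))
theorem f531754 : Led Lsl_ft (LP (LK LD1_c1 LD2_c54 LD3_c40)) = K41.v2750 :=
  Lgr Lrot4 (Lpe (K34.f14861 IH) (Lpr_ff (f490369 IH) (Lpr_cf (K41.f531752 IH) (Lpn K41.v2750))))
theorem f531757 : Led Lsl_af (LP (LK LD1_c1 LD2_c54 LD3_c40)) = v2751 :=
  Lgr Lrot45 (Lpr_ft (f531754 IH) (Lpe (f531751 IH) (Lpr_ft (f531756 IH) (Lpn v2751))))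
theorem f676455 : Led Lsl_at K49.v2761 = v9522 :=
  Lgr Lrot80 (Lpe (K49.f532563 IH) (Lpr_af (f531757 IH) (Lpr_ef (f676454 IH) (Lpn v9522))))
def v9532 : LQ := Led Lsl_dt K49.v2761
theorem f676536 : Led Lsl_dt K49.v2761 = v9532 :=
  Lrfl
theorem f676537 : Led Lsl_df K49.v2761 = v9532 :=
  Lgr Lrot38 (Lpr_dt (f676536 IH) (Lpn v9532))
theorem f786253 : Led Lsl_af v9532 = v20308 :=
  Lgr Lrot117 (Lpe (f676537 IH) (Lpr_at (f676455 IH) (Lpr_dt (f786252 IH) (Lpn v20308))))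
theorem f786254 : Led Lsl_at v9532 = v20308 :=
  Lgr Lrot100 (Lpr_af (f786253 IH) (Lpn v20308))
theorem f786256 : Led Lsl_ff v9532 = v20309 :=
  Lgr Lrot52 (Lpr_at (f786254 IH) (Lpe (f786249 IH) (Lpr_gf (f786255 IH) (Lpn v20309))))
theorem f786257 : Led Lsl_dt K60.v9533 = v20309 :=
  Lgr Lrot60 (Lpe (K60.f676538 IH) (Lpr_df (f676537 IH) (Lpr_ff (f786256 IH) (Lpn v20309))))
theorem f787178 : Led Lsl_gf K60.v9533 = v20467 :=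
  Lgr Lrot138 (Lpr_dt (f786257 IH) (Lpe (f786255 IH) (Lpe (f102544 IH) (Lpr_et (K48.f102550 IH) (Lpr_gt (f687003 IH) (Lpe (f686984 IH) (Lpr_dt (f98726 IH) (Lpr_gt (f483822 IH) (Lpe (K35.f463947 IH) (Lpr_et (f787172 IH) (Lpn v20467)))))))))))
theorem f532565 : Led Lsl_ef (LP (LK LD1_c1 LD2_c54 LD3_c40)) = K49.v2761 :=
  Lgr Lrot88 (Lpr_et (K49.f532563 IH) (Lpn K49.v2761))
theorem f532566 : Led Lsl_ct K49.v905 = K49.v2761 :=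
  Lgr Lrot15 (Lpe (K49.f490378 IH) (Lpe (K29.f471177 IH) (Lpr_ef (f532565 IH) (Lpn K49.v2761))))
theorem f676539 : Led Lsl_cf K49.v3518 = K60.v9533 :=
  Lgr Lrot108 (Lpe (K49.f626075 IH) (Lpr_ct (f532566 IH) (Lpr_ft (K60.f676538 IH) (Lpn K60.v9533))))
def v11943 : LQ := Led Lsl_ct K49.v3952
theorem f686952 : Led Lsl_ct K49.v3952 = v11943 :=
  Lrfl
theorem f686954 : Led Lsl_cf K49.v3952 = v11943 :=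
  Lgr Lrot11 (Lpr_ct (f686952 IH) (Lpn v11943))
theorem f628727 : Led Lsl_ft K49.v3369 = K49.v3952 :=
  Lgr Lrot48 (Lpr_ff (K49.f628724 IH) (Lpn K49.v3952))
def v10523 : LQ := Led Lsl_ct K49.v3369
theorem f680715 : Led Lsl_ct K49.v3369 = v10523 :=
  Lrfl
theorem f680716 : Led Lsl_cf K49.v3369 = v10523 :=
  Lgr Lrot11 (Lpr_ct (f680715 IH) (Lpn v10523))
theorem f686956 : Led Lsl_ff v10523 = v11943 :=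
  Lgr Lrot23 (Lpe (f680716 IH) (Lpr_ft (f628727 IH) (Lpr_ct (f686952 IH) (Lpn v11943))))
def v11941 : LQ := Led Lsl_ct K49.v3951
theorem f686924 : Led Lsl_ct K49.v3951 = v11941 :=
  Lrfl
theorem f686926 : Led Lsl_cf K49.v3951 = v11941 :=
  Lgr Lrot11 (Lpr_ct (f686924 IH) (Lpn v11941))
theorem f628717 : Led Lsl_af K49.v3369 = K49.v3951 :=
  Lgr Lrot117 (Lpe (K49.f625339 IH) (Lpr_at (K49.f626039 IH) (Lpr_dt (K49.f628716 IH) (Lpn K49.v3951))))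
theorem f686930 : Led Lsl_at v10523 = v11941 :=
  Lgr Lrot107 (Lpe (f680715 IH) (Lpr_af (f628717 IH) (Lpr_cf (f686926 IH) (Lpn v11941))))
def v3946 : LQ := Led Lsl_dt K47.v1137
theorem f628677 : Led Lsl_dt K47.v1137 = v3946 :=
  Lrfl
theorem f628681 : Led Lsl_gf K49.v3369 = v3946 :=
  Lgr Lrot134 (Lpe (K49.f625338 IH) (Lpe (K49.f490379 IH) (Lpr_gt (K29.f17265 IH) (Lpe (K34.f14594 IH) (Lpe (K4.f14590 IH) (Lpe (K3.f98701 IH) (Lpr_df (K3.f98653 IH) (Lpr_et (K29.f65852 IH) (Lpq (K33.f511458 IH) (Lpr_gt (K47.f493323 IH) (Lpr_dt (f628677 IH) (Lpn v3946))))))))))))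
theorem f493324 : Led Lsl_ft K28.v757 = K47.v1137 :=
  Lgr Lrot75 (Lpr_bf (K33.f458757 IH) (Lpr_ff (K47.f493322 IH) (Lpr_bf (K47.f493321 IH) (Lpn K47.v1137))))
theorem f628680 : Led Lsl_ff K49.v2270 = v3946 :=
  Lgr Lrot19 (Lpe (K49.f511376 IH) (Lpqs (K28.f472849 IH) (Lpr_ft (f493324 IH) (Lpr_dt (f628677 IH) (Lpn v3946)))))
theorem f511375 : Led Lsl_af K49.v758 = K49.v2270 :=
  Lgr Lrot117 (Lpe (K49.f457103 IH) (Lpr_at (K28.f457099 IH) (Lpq (K28.f472849 IH) (Lpr_dt (K49.f511374 IH) (Lpn K49.v2270)))))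
theorem f493337 : Led Lsl_ft K49.v758 = K49.v1139 :=
  Lgr Lrot48 (Lpr_ff (K49.f493335 IH) (Lpn K49.v1139))
theorem f628682 : Led Lsl_at K49.v1139 = v3946 :=
  Lgr Lrot66 (Lpe (f493337 IH) (Lpr_af (f511375 IH) (Lpr_ff (f628680 IH) (Lpn v3946))))
def v3368 : LQ := Led Lsl_gt K49.v758
theorem f625336 : Led Lsl_gt K49.v758 = v3368 :=
  Lrfl
theorem f628685 : Led Lsl_gt v3368 = v3946 :=
  Lgr Lrot46 (Lpe (f625336 IH) (Lpr_ft (f493337 IH) (Lpr_at (f628682 IH) (Lpn v3946))))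
theorem f628720 : Led Lsl_ft v3368 = K49.v3951 :=
  Lgr Lrot2 (Lpr_gt (f628685 IH) (Lpe (f628681 IH) (Lpr_af (f628717 IH) (Lpn K49.v3951))))
def v10522 : LQ := Led Lsl_ct v3368
theorem f680713 : Led Lsl_ct v3368 = v10522 :=
  Lrfl
theorem f680714 : Led Lsl_cf v3368 = v10522 :=
  Lgr Lrot11 (Lpr_ct (f680713 IH) (Lpn v10522))
theorem f686927 : Led Lsl_ff v10522 = v11941 :=
  Lgr Lrot23 (Lpe (f680714 IH) (Lpr_ft (f628720 IH) (Lpr_ct (f686924 IH) (Lpn v11941))))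
theorem f686957 : Led Lsl_at v10522 = v11943 :=
  Lgr Lrot66 (Lpr_ff (f686927 IH) (Lpe (f686930 IH) (Lpr_ff (f686956 IH) (Lpn v11943))))
theorem f493334 : Led Lsl_df K29.v278 = K49.v1139 :=
  Lgr Lrot38 (Lpr_dt (K49.f493332 IH) (Lpn K49.v1139))
def v2591 : LQ := Led Lsl_dt (LP (LK LD1_c1 LD2_c49 LD3_c16))
theorem f527641 : Led Lsl_dt (LP (LK LD1_c1 LD2_c49 LD3_c16)) = v2591 :=
  Lrfl
def v9304 : LQ := Led Lsl_ct v2591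
theorem f675305 : Led Lsl_ct v2591 = v9304 :=
  Lrfl
theorem f675306 : Led Lsl_cf v2591 = v9304 :=
  Lgr Lrot11 (Lpr_ct (f675305 IH) (Lpn v9304))
theorem f686928 : Led Lsl_gf v9304 = v11941 :=
  Lgr Lrot104 (Lpe (f675306 IH) (Lpe (f527641 IH) (Lpe (K35.f488397 IH) (Lpr_gf (K35.f628177 IH) (Lpe (K35.f628172 IH) (Lpe (K29.f491707 IH) (Lpr_df (f493334 IH) (Lpr_gt (K49.f628714 IH) (Lpr_ct (f686924 IH) (Lpn v11941))))))))))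
theorem f686959 : Led Lsl_gt v9304 = v11943 :=
  Lgr Lrot46 (Lpr_gf (f686928 IH) (Lpe (f686927 IH) (Lpr_at (f686957 IH) (Lpn v11943))))
def v9303 : LQ := Led Lsl_gf v2591
theorem f675300 : Led Lsl_gf v2591 = v9303 :=
  Lrfl
theorem f512620 : Led Lsl_gt (LP (LK LD1_c3 LD2_c30 LD3_c36)) = (LP (LK LD1_c6 LD2_c58 LD3_c55)) :=
  Lgr Lrot180 (Lpr_ct (K33.f512612 IH) (Lpr_gt (K34.f15833 IH) (Lpr_dt (K28.f18982 IH) (Lpr_gt (K28.f19143 IH) (Lpe (K29.f458002 IH) (Lpr_ct (K29.f63003 IH) (Lpe (K29.f62775 IH) (Lpe (K28.f463594 IH) (Lpe (K28.f106126 IH) (Lpn (LP (LK LD1_c6 LD2_c58 LD3_c55))))))))))))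
def v7085 : LQ := Led Lsl_ft (LP (LK LD1_c3 LD2_c38 LD3_c5))
theorem f660785 : Led Lsl_ft (LP (LK LD1_c3 LD2_c38 LD3_c5)) = v7085 :=
  Lrfl
theorem f660789 : Led Lsl_ff (LP (LK LD1_c3 LD2_c38 LD3_c5)) = v7085 :=
  Lgr Lrot3 (Lpr_ft (f660785 IH) (Lpn v7085))
theorem f124325 : Led Lsl_ft (LP (LK LD1_c1 LD2_c45 LD3_c60)) = (LP (LK LD1_c0 LD2_c51 LD3_c32)) :=
  Lgr Lrot54 (Lpe (K3.f86733 IH) (Lpr_ff (K5.f124323 IH) (Lpe (K0.f5752 IH) (Lpn (LP (LK LD1_c0 LD2_c51 LD3_c32))))))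
theorem f660792 : Led Lsl_et (LP (LK LD1_c3 LD2_c44 LD3_c45)) = v7085 :=
  Lgr Lrot69 (Lpe (K4.f5739 IH) (Lpe (K28.f5748 IH) (Lpe (f124325 IH) (Lpe (K3.f86821 IH) (Lpr_ff (f660789 IH) (Lpn v7085))))))
theorem f425204 : Led Lsl_af (LP (LK LD1_c1 LD2_c48 LD3_c11)) = (LP (LK LD1_c3 LD2_c38 LD3_c5)) :=
  Lgr Lrot68 (Lpr_ct (K28.f425199 IH) (Lpe (K28.f425167 IH) (Lpe (K49.f97327 IH) (Lpn (LP (LK LD1_c3 LD2_c38 LD3_c5))))))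
theorem f660793 : Led Lsl_gf K34.v2543 = v7085 :=
  Lgr Lrot47 (Lpe (K34.f527268 IH) (Lpr_af (f425204 IH) (Lpr_ff (f660789 IH) (Lpn v7085))))
def v9225 : LQ := Led Lsl_et K34.v2543
theorem f674751 : Led Lsl_et K34.v2543 = v9225 :=
  Lrfl
theorem f674754 : Led Lsl_ef K34.v2543 = v9225 :=
  Lgr Lrot88 (Lpr_et (f674751 IH) (Lpn v9225))
theorem f675301 : Led Lsl_dt v9225 = v9303 :=
  Lgr Lrot136 (Lpe (f674754 IH) (Lpr_gf (f660793 IH) (Lpe (f660792 IH) (Lpe (K4.f106130 IH) (Lpe (f512620 IH) (Lpe (K33.f468344 IH) (Lpe (K48.f512290 IH) (Lpe (K34.f483795 IH) (Lpr_dt (f527641 IH) (Lpr_gf (f675300 IH) (Lpn v9303)))))))))))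
theorem f675303 : Led Lsl_df v9225 = v9303 :=
  Lgr Lrot38 (Lpr_dt (f675301 IH) (Lpn v9303))
def v9224 : LQ := Led Lsl_dt K34.v2543
theorem f674744 : Led Lsl_dt K34.v2543 = v9224 :=
  Lrfl
theorem f674746 : Led Lsl_df K34.v2543 = v9224 :=
  Lgr Lrot38 (Lpr_dt (f674744 IH) (Lpn v9224))
theorem f531231 : Led Lsl_gt (LP (LK LD1_c7 LD2_c43 LD3_c32)) = (LP (LK LD1_c3 LD2_c51 LD3_c9)) :=
  Lgr Lrot46 (Lpe (K49.f91768 IH) (Lpr_ft (K49.f531029 IH) (Lpr_at (K49.f531068 IH) (Lpn (LP (LK LD1_c3 LD2_c51 LD3_c9))))))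
theorem f566355 : Led Lsl_cf (LP (LK LD1_c23 LD2_c20 LD3_c23)) = (LP (LK LD1_c30 LD2_c39 LD3_c9)) :=
  Lgr Lrot11 (Lpr_ct (K47.f566271 IH) (Lpn (LP (LK LD1_c30 LD2_c39 LD3_c9))))
theorem f483326 : Led Lsl_ct (LP (LK LD1_c3 LD2_c45 LD3_c3)) = (LP (LK LD1_c6 LD2_c53 LD3_c32)) :=
  Lgr Lrot59 (Lpr_cf (K45.f483323 IH) (Lpn (LP (LK LD1_c6 LD2_c53 LD3_c32))))
theorem f527371 : Led Lsl_ff (LP (LK LD1_c13 LD2_c3 LD3_c59)) = (LP (LK LD1_c6 LD2_c53 LD3_c32)) :=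
  Lgr Lrot23 (Lpr_ct (K48.f479944 IH) (Lpr_ft (K60.f527367 IH) (Lpr_ct (f483326 IH) (Lpn (LP (LK LD1_c6 LD2_c53 LD3_c32))))))
theorem f471775 : Led Lsl_dt (LP (LK LD1_c13 LD2_c5 LD3_c61)) = (LP (LK LD1_c6 LD2_c53 LD3_c32)) :=
  Lre_d IH (LK LD1_c13 LD2_c5 LD3_c61) (LK LD1_c6 LD2_c53 LD3_c32) Lrfl Lrfl
theorem f465440 : Led Lsl_gt (LP (LK LD1_c7 LD2_c53 LD3_c35)) = (LP (LK LD1_c3 LD2_c55 LD3_c57)) :=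
  Lre_g IH (LK LD1_c7 LD2_c53 LD3_c35) (LK LD1_c3 LD2_c55 LD3_c57) Lrfl Lrfl
theorem f525765 : Led Lsl_ff (LP (LK LD1_c13 LD2_c5 LD3_c61)) = (LP (LK LD1_c7 LD2_c53 LD3_c35)) :=
  Lgr Lrot52 (Lpr_at (K45.f525759 IH) (Lpe (K35.f470923 IH) (Lpe (f465440 IH) (Lpn (LP (LK LD1_c7 LD2_c53 LD3_c35))))))
theorem f527385 : Led Lsl_dt (LP (LK LD1_c13 LD2_c3 LD3_c59)) = (LP (LK LD1_c7 LD2_c53 LD3_c35)) :=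
  Lgr Lrot60 (Lpr_ff (f527371 IH) (Lpe (f471775 IH) (Lpr_ff (f525765 IH) (Lpn (LP (LK LD1_c7 LD2_c53 LD3_c35))))))
theorem f526570 : Led Lsl_bt (LP (LK LD1_c14 LD2_c21 LD3_c55)) = (LP (LK LD1_c7 LD2_c53 LD3_c35)) :=
  Lgr Lrot35 (Lpr_ff (K46.f526556 IH) (Lpr_bf (K47.f523495 IH) (Lpr_ff (f525765 IH) (Lpn (LP (LK LD1_c7 LD2_c53 LD3_c35))))))
theorem f526688 : Led Lsl_bf (LP (LK LD1_c14 LD2_c21 LD3_c55)) = (LP (LK LD1_c7 LD2_c53 LD3_c35)) :=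
  Lgr Lrot24 (Lpr_bt (f526570 IH) (Lpn (LP (LK LD1_c7 LD2_c53 LD3_c35))))
theorem f527387 : Led Lsl_bf (LP (LK LD1_c13 LD2_c3 LD3_c59)) = (LP (LK LD1_c13 LD2_c23 LD3_c38)) :=
  Lgr Lrot93 (Lpr_dt (f527385 IH) (Lpe (f526688 IH) (Lpe (K46.f526339 IH) (Lpn (LP (LK LD1_c13 LD2_c23 LD3_c38))))))
theorem f478911 : Led Lsl_bt (LP (LK LD1_c7 LD2_c18 LD3_c36)) = (LP (LK LD1_c13 LD2_c49 LD3_c49)) :=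
  Lre_b IH (LK LD1_c7 LD2_c18 LD3_c36) (LK LD1_c13 LD2_c49 LD3_c49) Lrfl Lrfl
theorem f566369 : Led Lsl_gt (LP (LK LD1_c13 LD2_c49 LD3_c49)) = (LP (LK LD1_c22 LD2_c40 LD3_c60)) :=
  Lgr Lrot164 (Lpe (f478911 IH) (Lpr_ct (f478908 IH) (Lpe (K33.f511680 IH) (Lpe (K43.f458389 IH) (Lpe (K34.f458435 IH) (Lpr_bf (f527387 IH) (Lpr_ct (K46.f476512 IH) (Lpe (K47.f566249 IH) (Lpr_cf (f566355 IH) (Lpr_bt (K47.f458497 IH) (Lpn (LP (LK LD1_c22 LD2_c40 LD3_c60)))))))))))))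
theorem f478906 : Led Lsl_bt (LP (LK LD1_c3 LD2_c39 LD3_c6)) = (LP (LK LD1_c3 LD2_c39 LD3_c6)) :=
  Lgr Lrot119 (Lpe (K33.f478905 IH) (Lpr_bf (K34.f478899 IH) (Lpe (K35.f478901 IH) (Lpn (LP (LK LD1_c3 LD2_c39 LD3_c6))))))
theorem f478909 : Led Lsl_bt (LP (LK LD1_c13 LD2_c49 LD3_c49)) = (LP (LK LD1_c7 LD2_c18 LD3_c36)) :=
  Lre_b IH (LK LD1_c13 LD2_c49 LD3_c49) (LK LD1_c7 LD2_c18 LD3_c36) Lrfl Lrfl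
theorem f478910 : Led Lsl_ct (LP (LK LD1_c3 LD2_c39 LD3_c6)) = (LP (LK LD1_c7 LD2_c18 LD3_c36)) :=
  Lre_c IH (LK LD1_c3 LD2_c39 LD3_c6) (LK LD1_c7 LD2_c18 LD3_c36) Lrfl Lrfl
theorem f478912 : Led Lsl_cf (LP (LK LD1_c13 LD2_c49 LD3_c49)) = (LP (LK LD1_c13 LD2_c49 LD3_c49)) :=
  Lgr Lrot97 (Lpr_bt (f478909 IH) (Lpr_ct (f478908 IH) (Lpr_bt (f478906 IH) (Lpr_ct (f478910 IH) (Lpr_bt (f478911 IH) (Lpn (LP (LK LD1_c13 LD2_c49 LD3_c49))))))))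
theorem f520931 : Led Lsl_ff (LP (LK LD1_c13 LD2_c23 LD3_c9)) = (LP (LK LD1_c7 LD2_c34 LD3_c39)) :=
  Lgr Lrot25 (Lpr_bt (K47.f477514 IH) (Lpr_ft (K34.f520929 IH) (Lpr_bt (K47.f460014 IH) (Lpn (LP (LK LD1_c7 LD2_c34 LD3_c39))))))
theorem f521458 : Led Lsl_gf (LP (LK LD1_c22 LD2_c41 LD3_c0)) = (LP (LK LD1_c14 LD2_c17 LD3_c20)) :=
  Lgr Lrot76 (Lpe (K34.f477683 IH) (Lpr_ff (f520931 IH) (Lpr_gt (K47.f460023 IH) (Lpn (LP (LK LD1_c14 LD2_c17 LD3_c20))))))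
theorem f566371 : Led Lsl_gf (LP (LK LD1_c7 LD2_c18 LD3_c36)) = (LP (LK LD1_c6 LD2_c51 LD3_c60)) :=
  Lgr Lrot124 (Lpe (f478909 IH) (Lpe (f478912 IH) (Lpr_gt (f566369 IH) (Lpe (K47.f511746 IH) (Lpr_bt (K47.f511745 IH) (Lpe (f521458 IH) (Lpe (K47.f566341 IH) (Lpr_gt (K47.f11628 IH) (Lpe (K34.f488215 IH) (Lpr_bt (K41.f90992 IH) (Lpn (LP (LK LD1_c6 LD2_c51 LD3_c60)))))))))))))
theorem f512616 : Led Lsl_cf (LP (LK LD1_c7 LD2_c3 LD3_c10)) = (LP (LK LD1_c6 LD2_c51 LD3_c60)) :=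
  Lgr Lrot39 (Lpr_et (K34.f468347 IH) (Lpr_ct (K33.f512612 IH) (Lpr_et (K34.f90999 IH) (Lpn (LP (LK LD1_c6 LD2_c51 LD3_c60))))))
def v7324 : LQ := Led Lsl_dt (LP (LK LD1_c3 LD2_c45 LD3_c3))
theorem f664572 : Led Lsl_dt (LP (LK LD1_c3 LD2_c45 LD3_c3)) = v7324 :=
  Lrfl
theorem f674750 : Led Lsl_gt v7324 = v9224 :=
  Lgr Lrot49 (Lpe (f664572 IH) (Lpe (K48.f525873 IH) (Lpr_cf (f512616 IH) (Lpe (f566371 IH) (Lpr_dt (K49.f478917 IH) (Lpr_gt (f531231 IH) (Lpr_dt (K49.f527271 IH) (Lpr_cf (K41.f527270 IH) (Lpr_df (f674746 IH) (Lpn v9224))))))))))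
def v7604 : LQ := Led Lsl_et (LP (LK LD1_c3 LD2_c52 LD3_c39))
theorem f667203 : Led Lsl_et (LP (LK LD1_c3 LD2_c52 LD3_c39)) = v7604 :=
  Lrfl
theorem f674755 : Led Lsl_gf v7604 = v9225 :=
  Lgr Lrot141 (Lpe (f667203 IH) (Lpe (K34.f483790 IH) (Lpr_gt (K48.f512290 IH) (Lpe (K33.f468338 IH) (Lpr_et (K48.f468341 IH) (Lpr_gt (K48.f525873 IH) (Lpr_dt (f664572 IH) (Lpr_gt (f674750 IH) (Lpe (f674744 IH) (Lpr_et (f674751 IH) (Lpn v9225)))))))))))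
theorem f787179 : Led Lsl_ct v7604 = v20467 :=
  Lgr Lrot152 (Lpr_gf (f674755 IH) (Lpr_df (f675303 IH) (Lpe (f675300 IH) (Lpr_ct (f675305 IH) (Lpr_gt (f686959 IH) (Lpe (f686954 IH) (Lpe (K49.f628726 IH) (Lpr_cf (f676539 IH) (Lpr_gf (f787178 IH) (Lpn v20467))))))))))
def v2298 : LQ := Led Lsl_dt (LP (LK LD1_c1 LD2_c41 LD3_c23))
def v8935 : LQ := Led Lsl_gt v2298
theorem f672826 : Led Lsl_gt v2298 = v8935 :=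
  Lrfl
theorem f511942 : Led Lsl_dt (LP (LK LD1_c1 LD2_c41 LD3_c23)) = v2298 :=
  Lrfl
theorem f459549 : Led Lsl_df (LP (LK LD1_c0 LD2_c51 LD3_c39)) = K49.v818 :=
  Lgr Lrot38 (Lpr_dt (K49.f459547 IH) (Lpn K49.v818))
theorem f511945 : Led Lsl_ef K49.v818 = v2298 :=
  Lgr Lrot73 (Lpe (f459549 IH) (Lpr_et (K49.f85178 IH) (Lpr_dt (K3.f107328 IH) (Lpr_et (K29.f107339 IH) (Lpr_dt (f511942 IH) (Lpn v2298))))))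
theorem f511947 : Led Lsl_et K49.v818 = v2298 :=
  Lgr Lrot87 (Lpr_ef (f511945 IH) (Lpn v2298))
def v2504 : LQ := Led Lsl_dt (LP (LK LD1_c1 LD2_c46 LD3_c52))
theorem f523655 : Led Lsl_dt (LP (LK LD1_c1 LD2_c46 LD3_c52)) = v2504 :=
  Lrfl
theorem f523658 : Led Lsl_df (LP (LK LD1_c1 LD2_c46 LD3_c52)) = v2504 :=
  Lgr Lrot38 (Lpr_dt (f523655 IH) (Lpn v2504))
def v2542 : LQ := Led Lsl_dt (LP (LK LD1_c1 LD2_c48 LD3_c9))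
theorem f527259 : Led Lsl_dt (LP (LK LD1_c1 LD2_c48 LD3_c9)) = v2542 :=
  Lrfl
theorem f447710 : Led Lsl_gf (LP (LK LD1_c0 LD2_c51 LD3_c25)) = (LP (LK LD1_c0 LD2_c51 LD3_c39)) :=
  Lgr Lrot181 (Lpr_ct (K11.f430303 IH) (Lpr_gt (K11.f95707 IH) (Lpe (K3.f94260 IH) (Lpr_bt (K3.f94256 IH) (Lpr_gt (K11.f94278 IH) (Lpr_bf (K11.f447704 IH) (Lpe (K11.f447708 IH) (Lpr_gt (K34.f85175 IH) (Lpe (K2.f85038 IH) (Lpr_bt (K7.f85034 IH) (Lpn (LP (LK LD1_c0 LD2_c51 LD3_c39)))))))))))))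
theorem f447712 : Led Lsl_gt (LP (LK LD1_c0 LD2_c51 LD3_c25)) = (LP (LK LD1_c1 LD2_c48 LD3_c9)) :=
  Lgr Lrot46 (Lpr_gf (f447710 IH) (Lpe (K7.f85035 IH) (Lpr_at (K7.f124395 IH) (Lpn (LP (LK LD1_c1 LD2_c48 LD3_c9))))))
def v591 : LQ := Led Lsl_dt (LP (LK LD1_c0 LD2_c46 LD3_c23))
theorem f455071 : Led Lsl_dt (LP (LK LD1_c0 LD2_c46 LD3_c23)) = v591 :=
  Lrfl
def v2267 : LQ := Led Lsl_dt (LP (LK LD1_c1 LD2_c39 LD3_c41))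
theorem f511353 : Led Lsl_dt (LP (LK LD1_c1 LD2_c39 LD3_c41)) = v2267 :=
  Lrfl
theorem f511357 : Led Lsl_gt v591 = v2267 :=
  Lgr Lrot112 (Lpe (f455071 IH) (Lpr_et (K3.f94266 IH) (Lpe (K3.f13553 IH) (Lpe (K5.f26130 IH) (Lpr_dt (K7.f26128 IH) (Lpe (K33.f432600 IH) (Lpe (K11.f430129 IH) (Lpr_gf (K11.f430108 IH) (Lpe (K11.f209565 IH) (Lpr_dt (f511353 IH) (Lpn v2267)))))))))))
theorem f511355 : Led Lsl_df (LP (LK LD1_c1 LD2_c39 LD3_c41)) = v2267 :=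
  Lgr Lrot38 (Lpr_dt (f511353 IH) (Lpn v2267))
theorem f527264 : Led Lsl_gf v2504 = v2542 :=
  Lgr Lrot143 (Lpe (f523658 IH) (Lpe (K11.f430221 IH) (Lpr_df (f511355 IH) (Lpe (f511357 IH) (Lpe (f455071 IH) (Lpe (K11.f95707 IH) (Lpe (K11.f430303 IH) (Lpr_gt (f447712 IH) (Lpr_dt (f527259 IH) (Lpn v2542))))))))))
def v6776 : LQ := Led Lsl_dt (LP (LK LD1_c3 LD2_c29 LD3_c17))
theorem f658363 : Led Lsl_dt (LP (LK LD1_c3 LD2_c29 LD3_c17)) = v6776 :=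
  Lrfl
theorem f124386 : Led Lsl_et (LP (LK LD1_c1 LD2_c48 LD3_c9)) = (LP (LK LD1_c0 LD2_c50 LD3_c50)) :=
  Lre_e IH (LK LD1_c1 LD2_c48 LD3_c9) (LK LD1_c0 LD2_c50 LD3_c50) Lrfl Lrfl
theorem f527262 : Led Lsl_df (LP (LK LD1_c1 LD2_c48 LD3_c9)) = v2542 :=
  Lgr Lrot38 (Lpr_dt (f527259 IH) (Lpn v2542))
theorem f658367 : Led Lsl_ef v2542 = v6776 :=
  Lgr Lrot73 (Lpe (f527262 IH) (Lpr_et (f124386 IH) (Lpe (K37.f120839 IH) (Lpr_et (K33.f116557 IH) (Lpr_dt (f658363 IH) (Lpn v6776))))))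
theorem f658366 : Led Lsl_df (LP (LK LD1_c3 LD2_c29 LD3_c17)) = v6776 :=
  Lgr Lrot38 (Lpr_dt (f658363 IH) (Lpn v6776))
theorem f527643 : Led Lsl_df (LP (LK LD1_c1 LD2_c49 LD3_c16)) = v2591 :=
  Lgr Lrot38 (Lpr_dt (f527641 IH) (Lpn v2591))
theorem f672828 : Led Lsl_et v2591 = v8935 :=
  Lgr Lrot122 (Lpe (f527643 IH) (Lpr_gt (K34.f483798 IH) (Lpr_df (f658366 IH) (Lpe (f658367 IH) (Lpe (f527264 IH) (Lpe (f523658 IH) (Lpe (K11.f430194 IH) (Lpr_df (f459549 IH) (Lpr_et (f511947 IH) (Lpr_gt (f672826 IH) (Lpn v8935)))))))))))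
theorem f667205 : Led Lsl_ef (LP (LK LD1_c3 LD2_c52 LD3_c39)) = v7604 :=
  Lgr Lrot88 (Lpr_et (f667203 IH) (Lpn v7604))
theorem f672830 : Led Lsl_df v7604 = v8935 :=
  Lgr Lrot70 (Lpe (f667205 IH) (Lpe (K34.f483790 IH) (Lpr_et (K34.f483794 IH) (Lpr_dt (f527641 IH) (Lpr_et (f672828 IH) (Lpn v8935))))))
theorem f102467 : Led Lsl_dt (LP (LK LD1_c3 LD2_c24 LD3_c36)) = (LP (LK LD1_c6 LD2_c51 LD3_c45)) :=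
  Lre_d IH (LK LD1_c3 LD2_c24 LD3_c36) (LK LD1_c6 LD2_c51 LD3_c45) Lrfl Lrfl
def v20197 : LQ := Led Lsl_gt (LP (LK LD1_c6 LD2_c51 LD3_c45))
theorem f785458 : Led Lsl_gt (LP (LK LD1_c6 LD2_c51 LD3_c45)) = v20197 :=
  Lrfl
theorem f787180 : Led Lsl_dt v20197 = v20467 :=
  Lgr Lrot113 (Lpe (f785458 IH) (Lpe (f102467 IH) (Lpe (K29.f65928 IH) (Lpr_ct (K34.f473822 IH) (Lpr_gt (K29.f441696 IH) (Lpr_dt (f511942 IH) (Lpr_gt (f672826 IH) (Lpe (f672830 IH) (Lpr_ct (f787179 IH) (Lpn v20467))))))))))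
theorem f787181 : Led Lsl_df v20197 = v20467 :=
  Lgr Lrot38 (Lpr_dt (f787180 IH) (Lpn v20467))
theorem f785468 : Led Lsl_at (LP (LK LD1_c6 LD2_c54 LD3_c13)) = v20197 :=
  Lgr Lrot26 (Lpr_ff (K60.f785466 IH) (Lpe (K60.f785460 IH) (Lpr_gt (f785458 IH) (Lpn v20197))))
theorem f785469 : Led Lsl_af (LP (LK LD1_c6 LD2_c54 LD3_c13)) = v20197 :=
  Lgr Lrot0 (Lpr_at (f785468 IH) (Lpn v20197))
theorem f667914 : Led Lsl_af K60.v6705 = K48.v7715 :=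
  Lgr Lrot50 (Lpe (K60.f657914 IH) (Lpr_at (K35.f528686 IH) (Lpr_et (K48.f667913 IH) (Lpn K48.v7715))))
theorem f667922 : Led Lsl_dt (LP (LK LD1_c6 LD2_c54 LD3_c14)) = K48.v7715 :=
  Lgr Lrot42 (Lpr_df (K48.f667919 IH) (Lpn K48.v7715))
theorem f785463 : Led Lsl_af (LP (LK LD1_c6 LD2_c54 LD3_c14)) = K60.v20198 :=
  Lgr Lrot117 (Lpr_dt (f667922 IH) (Lpe (f667914 IH) (Lpr_dt (K60.f785462 IH) (Lpn K60.v20198))))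
theorem f785470 : Led Lsl_ft (LP (LK LD1_c6 LD2_c54 LD3_c14)) = v20197 :=
  Lgr Lrot101 (Lpr_af (f785463 IH) (Lpe (K60.f785467 IH) (Lpr_af (f785469 IH) (Lpn v20197))))
theorem f785471 : Led Lsl_ff (LP (LK LD1_c6 LD2_c54 LD3_c14)) = v20197 :=
  Lgr Lrot3 (Lpr_ft (f785470 IH) (Lpn v20197))
theorem f787183 : Led Lsl_ft K48.v7715 = v20467 :=
  Lgr Lrot54 (Lpe (f667922 IH) (Lpr_ff (f785471 IH) (Lpr_df (f787181 IH) (Lpn v20467))))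
theorem f787173 : Led Lsl_af K49.v9530 = v20467 :=
  Lgr Lrot50 (Lpe (K49.f676512 IH) (Lpr_at (K35.f528901 IH) (Lpr_et (f787172 IH) (Lpn v20467))))
theorem f787184 : K48.v7715 = v9531 :=
  (Llr Lrot52 (Lpr_ft (f787183 IH) (Lpe (f787173 IH) (Lpe (K49.f676508 IH) (Lpr_gf (f676535 IH) (Lpn v9531)))))).symm
theorem f102472 : Led Lsl_ct (LP (LK LD1_c3 LD2_c26 LD3_c9)) = (LP (LK LD1_c6 LD2_c54 LD3_c15)) :=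
  Lre_c IH (LK LD1_c3 LD2_c26 LD3_c9) (LK LD1_c6 LD2_c54 LD3_c15) Lrfl Lrfl
def v20314 : LQ := Led Lsl_gt (LP (LK LD1_c6 LD2_c54 LD3_c15))
theorem f786283 : Led Lsl_gt (LP (LK LD1_c6 LD2_c54 LD3_c15)) = v20314 :=
  Lrfl
theorem f788699 : Led Lsl_ct v20314 = v20643 :=
  Lgr Lrot151 (Lpe (f786283 IH) (Lpe (f102472 IH) (Lpe (K48.f97674 IH) (Lpr_dt (f667922 IH) (Lpqs (f787184 IH) (Lpe (f676535 IH) (Lpe (K60.f532564 IH) (Lpe (f626049 IH) (Lpr_ct (f662237 IH) (Lpr_dt (f788695 IH) (Lpn v20643)))))))))))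
theorem f788702 : Led Lsl_cf v20314 = v20643 :=
  Lgr Lrot11 (Lpr_ct (f788699 IH) (Lpn v20643))
theorem f102469 : Led Lsl_bt (LP (LK LD1_c3 LD2_c26 LD3_c9)) = (LP (LK LD1_c6 LD2_c54 LD3_c3)) :=
  Lre_b IH (LK LD1_c3 LD2_c26 LD3_c9) (LK LD1_c6 LD2_c54 LD3_c3) Lrfl Lrfl
def v20302 : LQ := Led Lsl_gf (LP (LK LD1_c6 LD2_c54 LD3_c3))
theorem f786215 : Led Lsl_gf (LP (LK LD1_c6 LD2_c54 LD3_c3)) = v20302 :=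
  Lrfl
theorem f788692 : Led Lsl_bf (LP (LK LD1_c7 LD2_c1 LD3_c45)) = v20643 :=
  Lgr Lrot24 (Lpr_bt (f788691 IH) (Lpn v20643))
def v9208 : LQ := Led Lsl_dt K46.v2531
theorem f674332 : Led Lsl_dt K46.v2531 = v9208 :=
  Lrfl
theorem f527136 : Led Lsl_ff (LP (LK LD1_c3 LD2_c15 LD3_c24)) = K46.v2531 :=
  Lgr Lrot23 (Lpr_ct (K4.f65509 IH) (Lpr_ft (K29.f65515 IH) (Lpr_ct (K46.f527134 IH) (Lpn K46.v2531))))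
theorem f527138 : Led Lsl_ft (LP (LK LD1_c3 LD2_c15 LD3_c24)) = K46.v2531 :=
  Lgr Lrot48 (Lpr_ff (f527136 IH) (Lpn K46.v2531))
def v2304 : LQ := Led Lsl_ft (LP (LK LD1_c1 LD2_c41 LD3_c39))
theorem f511971 : Led Lsl_ft (LP (LK LD1_c1 LD2_c41 LD3_c39)) = v2304 :=
  Lrfl
theorem f511972 : Led Lsl_ff (LP (LK LD1_c1 LD2_c41 LD3_c39)) = v2304 :=
  Lgr Lrot3 (Lpr_ft (f511971 IH) (Lpn v2304))
theorem f527139 : Led Lsl_ef v2304 = K46.v2531 :=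
  Lgr Lrot21 (Lpe (f511972 IH) (Lpr_et (K34.f63635 IH) (Lpe (K4.f115801 IH) (Lpr_et (K4.f65186 IH) (Lpr_ft (f527138 IH) (Lpn K46.v2531))))))
theorem f103604 : Led Lsl_af (LP (LK LD1_c0 LD2_c47 LD3_c22)) = (LP (LK LD1_c1 LD2_c34 LD3_c38)) :=
  Lgr Lrot68 (Lpr_ct (K3.f103582 IH) (Lpr_at (K3.f65846 IH) (Lpr_ct (K2.f23664 IH) (Lpn (LP (LK LD1_c1 LD2_c34 LD3_c38))))))
theorem f65022 : Led Lsl_et (LP (LK LD1_c0 LD2_c47 LD3_c22)) = (LP (LK LD1_c1 LD2_c41 LD3_c39)) :=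
  Lre_e IH (LK LD1_c0 LD2_c47 LD3_c22) (LK LD1_c1 LD2_c41 LD3_c39) Lrfl Lrfl
theorem f508652 : Led Lsl_at (LP (LK LD1_c1 LD2_c41 LD3_c39)) = K46.v2063 :=
  Lgr Lrot80 (Lpe (f65022 IH) (Lpr_af (f103604 IH) (Lpr_ef (K46.f508650 IH) (Lpn K46.v2063))))
theorem f511973 : Led Lsl_gf (LP (LK LD1_c1 LD2_c50 LD3_c33)) = v2304 :=
  Lgr Lrot47 (Lpr_gt (K46.f508651 IH) (Lpe (f508652 IH) (Lpr_ff (f511972 IH) (Lpn v2304))))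
theorem f674339 : Led Lsl_gt (LP (LK LD1_c7 LD2_c1 LD3_c45)) = v9208 :=
  Lgr Lrot139 (Lpr_df (K32.f481945 IH) (Lpr_gf (K32.f481947 IH) (Lpe (K33.f459844 IH) (Lpr_dt (K29.f14878 IH) (Lpe (K29.f461257 IH) (Lpe (K29.f65783 IH) (Lpr_et (K46.f65784 IH) (Lpr_gf (f511973 IH) (Lpr_ef (f527139 IH) (Lpr_dt (f674332 IH) (Lpn v9208)))))))))))
theorem f674336 : Led Lsl_cf (LP (LK LD1_c13 LD2_c20 LD3_c1)) = v9208 :=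
  Lgr Lrot118 (Lpr_dt (K29.f115976 IH) (Lpr_ct (K29.f115764 IH) (Lpr_dt (K32.f441017 IH) (Lpe (K29.f115902 IH) (Lpe (K32.f94288 IH) (Lpr_ct (K29.f115966 IH) (Lpe (K4.f115767 IH) (Lpr_ff (f527136 IH) (Lpr_dt (f674332 IH) (Lpn v9208))))))))))
theorem f483366 : Led Lsl_bt (LP (LK LD1_c3 LD2_c46 LD3_c12)) = (LP (LK LD1_c7 LD2_c33 LD3_c25)) :=
  Lre_b IH (LK LD1_c3 LD2_c46 LD3_c12) (LK LD1_c7 LD2_c33 LD3_c25) Lrfl Lrfl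
theorem f788703 : v20302 = (LP (LK LD1_c7 LD2_c33 LD3_c25)) :=
  (Llr Lrot124 (Lpe (f786215 IH) (Lpe (f102469 IH) (Lpr_ct (f102472 IH) (Lpr_gt (f786283 IH) (Lpr_cf (f788702 IH) (Lpe (f788692 IH) (Lpr_gt (f674339 IH) (Lpe (f674336 IH) (Lpe (K33.f483352 IH) (Lpe (K33.f441359 IH) (Lpr_bt (f483366 IH) (Lpn (LP (LK LD1_c7 LD2_c33 LD3_c25))))))))))))))).symm
theorem f788704 : Led Lsl_gt (LP (LK LD1_c7 LD2_c33 LD3_c25)) = (LP (LK LD1_c6 LD2_c54 LD3_c3)) :=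
  Leop (Lpr_gf (f786215 IH) (Lpqs (f788703 IH) (Lpn (LP (LK LD1_c7 LD2_c33 LD3_c25)))))
theorem seed_1551 : LEOK LG_g (LK LD1_c7 LD2_c33 LD3_c25) :=
  Leoe_g (LK LD1_c7 LD2_c33 LD3_c25) (f788704 IH)
def v20648 : LQ := Led Lsl_gf (LP (LK LD1_c7 LD2_c1 LD3_c59))
theorem f788771 : Led Lsl_gf (LP (LK LD1_c7 LD2_c1 LD3_c59)) = v20648 :=
  Lrfl
theorem f481738 : Led Lsl_ct (LP (LK LD1_c13 LD2_c8 LD3_c32)) = (LP (LK LD1_c22 LD2_c20 LD3_c47)) :=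
  Lre_c IH (LK LD1_c13 LD2_c8 LD3_c32) (LK LD1_c22 LD2_c20 LD3_c47) Lrfl Lrfl
theorem f464528 : Led Lsl_dt (LP (LK LD1_c7 LD2_c2 LD3_c0)) = (LP (LK LD1_c3 LD2_c30 LD3_c9)) :=
  Lre_d IH (LK LD1_c7 LD2_c2 LD3_c0) (LK LD1_c3 LD2_c30 LD3_c9) Lrfl Lrfl
theorem f481739 : Led Lsl_gt (LP (LK LD1_c22 LD2_c20 LD3_c47)) = (LP (LK LD1_c13 LD2_c20 LD3_c27)) :=
  Lgr Lrot150 (Lpe (f481738 IH) (Lpr_gf (K47.f481736 IH) (Lpe (K46.f92012 IH) (Lpe (K28.f464315 IH) (Lpr_ct (K28.f94600 IH) (Lpe (K46.f440471 IH) (Lpr_ct (K28.f464526 IH) (Lpe (f464528 IH) (Lpe (K33.f464529 IH) (Lpn (LP (LK LD1_c13 LD2_c20 LD3_c27))))))))))))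
theorem f512140 : Led Lsl_gt (LP (LK LD1_c13 LD2_c20 LD3_c21)) = (LP (LK LD1_c22 LD2_c20 LD3_c47)) :=
  Lgr Lrot5 (Lpe (K33.f512116 IH) (Lpr_at (K33.f512136 IH) (Lpe (f481739 IH) (Lpn (LP (LK LD1_c22 LD2_c20 LD3_c47))))))
theorem f481734 : Led Lsl_ct (LP (LK LD1_c22 LD2_c20 LD3_c47)) = (LP (LK LD1_c13 LD2_c8 LD3_c32)) :=
  Lre_c IH (LK LD1_c22 LD2_c20 LD3_c47) (LK LD1_c13 LD2_c8 LD3_c32) Lrfl Lrfl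
theorem f788775 : Led Lsl_df K47.v6948 = v20648 :=
  Lgr Lrot155 (Lpe (K47.f659618 IH) (Lpr_ct (K41.f471191 IH) (Lpr_gt (K47.f659623 IH) (Lpe (K33.f481731 IH) (Lpr_dt (K47.f481743 IH) (Lpe (f481734 IH) (Lpe (f512140 IH) (Lpe (K33.f466212 IH) (Lpr_gf (f788771 IH) (Lpn v20648))))))))))
theorem f788776 : Led Lsl_bt (LP (LK LD1_c7 LD2_c2 LD3_c34)) = v20648 :=
  Lgr Lrot95 (Lpr_df (K47.f530366 IH) (Lpr_bf (K47.f659611 IH) (Lpr_df (f788775 IH) (Lpn v20648))))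
theorem f461320 : Led Lsl_bt (LP (LK LD1_c3 LD2_c30 LD3_c56)) = (LP (LK LD1_c7 LD2_c3 LD3_c49)) :=
  Lre_b IH (LK LD1_c3 LD2_c30 LD3_c56) (LK LD1_c7 LD2_c3 LD3_c49) Lrfl Lrfl
theorem f466488 : Led Lsl_gt (LP (LK LD1_c13 LD2_c23 LD3_c25)) = (LP (LK LD1_c7 LD2_c3 LD3_c49)) :=
  Lre_g IH (LK LD1_c13 LD2_c23 LD3_c25) (LK LD1_c7 LD2_c3 LD3_c49) Lrfl Lrfl
theorem f788779 : Led Lsl_bf (LP (LK LD1_c13 LD2_c23 LD3_c25)) = (LP (LK LD1_c13 LD2_c8 LD3_c32)) :=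
  Lgr Lrot156 (Lpr_gt (f466488 IH) (Lpe (f461320 IH) (Lpr_ct (K29.f460537 IH) (Lpr_gt (K48.f468794 IH) (Lpe (K29.f461387 IH) (Lpr_bt (f788776 IH) (Lpe (f788771 IH) (Lpr_ct (K33.f466212 IH) (Lpr_gt (f512140 IH) (Lpe (f481738 IH) (Lpn (LP (LK LD1_c13 LD2_c8 LD3_c32)))))))))))))
theorem f788780 : Led Lsl_bt (LP (LK LD1_c13 LD2_c8 LD3_c32)) = (LP (LK LD1_c13 LD2_c23 LD3_c25)) :=
  Leop (Lpr_bf (f788779 IH) (Lpn (LP (LK LD1_c13 LD2_c8 LD3_c32))))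
theorem seed_1552 : LEOK LG_b (LK LD1_c13 LD2_c8 LD3_c32) :=
  Leoe_b (LK LD1_c13 LD2_c8 LD3_c32) (f788780 IH)
def v19030 : LQ := Led Lsl_gt (LP (LK LD1_c6 LD2_c36 LD3_c53))
theorem f777313 : Led Lsl_gt (LP (LK LD1_c6 LD2_c36 LD3_c53)) = v19030 :=
  Lrfl
def v20662 : LQ := Led Lsl_at (LP (LK LD1_c7 LD2_c2 LD3_c10))
theorem f788887 : Led Lsl_at (LP (LK LD1_c7 LD2_c2 LD3_c10)) = v20662 :=
  Lrfl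
theorem f658493 : Led Lsl_ct (LP (LK LD1_c3 LD2_c30 LD3_c14)) = (LP (LK LD1_c7 LD2_c2 LD3_c10)) :=
  Lre_c IH (LK LD1_c3 LD2_c30 LD3_c14) (LK LD1_c7 LD2_c2 LD3_c10) Lrfl Lrfl
def v6800 : LQ := Led Lsl_at (LP (LK LD1_c3 LD2_c30 LD3_c14))
theorem f658543 : Led Lsl_at (LP (LK LD1_c3 LD2_c30 LD3_c14)) = v6800 :=
  Lrfl
theorem f658544 : Led Lsl_af (LP (LK LD1_c3 LD2_c30 LD3_c14)) = v6800 :=
  Lgr Lrot0 (Lpr_at (f658543 IH) (Lpn v6800))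
theorem f788889 : Led Lsl_cf v6800 = v20662 :=
  Lgr Lrot1 (Lpe (f658544 IH) (Lpr_ct (f658493 IH) (Lpr_at (f788887 IH) (Lpn v20662))))
theorem f491903 : Led Lsl_gt (LP (LK LD1_c3 LD2_c30 LD3_c15)) = (LP (LK LD1_c1 LD2_c41 LD3_c48)) :=
  Lre_g IH (LK LD1_c3 LD2_c30 LD3_c15) (LK LD1_c1 LD2_c41 LD3_c48) Lrfl Lrfl
theorem f658546 : Led Lsl_ft (LP (LK LD1_c3 LD2_c30 LD3_c15)) = v6800 :=
  Lgr Lrot2 (Lpr_gt (f491903 IH) (Lpr_gt (K3.f63797 IH) (Lpr_af (f658544 IH) (Lpn v6800))))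
theorem f658548 : Led Lsl_ff (LP (LK LD1_c3 LD2_c30 LD3_c15)) = v6800 :=
  Lgr Lrot3 (Lpr_ft (f658546 IH) (Lpn v6800))
theorem f658550 : Led Lsl_ct (LP (LK LD1_c3 LD2_c30 LD3_c15)) = (LP (LK LD1_c7 LD2_c2 LD3_c14)) :=
  Lre_c IH (LK LD1_c3 LD2_c30 LD3_c15) (LK LD1_c7 LD2_c2 LD3_c14) Lrfl Lrfl
theorem f788891 : Led Lsl_ft (LP (LK LD1_c7 LD2_c2 LD3_c14)) = v20662 :=
  Lgr Lrot4 (Lpe (f658550 IH) (Lpr_ff (f658548 IH) (Lpr_cf (f788889 IH) (Lpn v20662))))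
theorem f712389 : Led Lsl_et (LP (LK LD1_c14 LD2_c23 LD3_c55)) = (LP (LK LD1_c7 LD2_c38 LD3_c27)) :=
  Lre_e IH (LK LD1_c14 LD2_c23 LD3_c55) (LK LD1_c7 LD2_c38 LD3_c27) Lrfl Lrfl
theorem f65330 : Led Lsl_ft (LP (LK LD1_c3 LD2_c15 LD3_c55)) = (LP (LK LD1_c6 LD2_c35 LD3_c10)) :=
  Lre_f IH (LK LD1_c3 LD2_c15 LD3_c55) (LK LD1_c6 LD2_c35 LD3_c10) Lrfl Lrfl
theorem f711638 : Led Lsl_af (LP (LK LD1_c11 LD2_c50 LD3_c5)) = (LP (LK LD1_c6 LD2_c35 LD3_c10)) :=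
  Lgr Lrot45 (Lpr_ft (K52.f711636 IH) (Lpr_at (K52.f130766 IH) (Lpr_ft (f65330 IH) (Lpn (LP (LK LD1_c6 LD2_c35 LD3_c10))))))
theorem f711704 : Led Lsl_gf (LP (LK LD1_c11 LD2_c50 LD3_c5)) = (LP (LK LD1_c6 LD2_c35 LD3_c7)) :=
  Lgr Lrot76 (Lpr_af (f711638 IH) (Lpe (f65330 IH) (Lpr_gt (K57.f65296 IH) (Lpn (LP (LK LD1_c6 LD2_c35 LD3_c7))))))
theorem f96265 : Led Lsl_gt (LP (LK LD1_c21 LD2_c7 LD3_c9)) = (LP (LK LD1_c12 LD2_c1 LD3_c43)) :=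
  Lre_g IH (LK LD1_c21 LD2_c7 LD3_c9) (LK LD1_c12 LD2_c1 LD3_c43) Lrfl Lrfl
theorem f151015 : Led Lsl_gt (LP (LK LD1_c12 LD2_c35 LD3_c36)) = (LP (LK LD1_c21 LD2_c7 LD3_c9)) :=
  Lgr Lrot5 (Lpr_ft (K51.f65757 IH) (Lpr_at (K51.f150964 IH) (Lpe (f96265 IH) (Lpn (LP (LK LD1_c21 LD2_c7 LD3_c9))))))
theorem f712390 : Led Lsl_dt (LP (LK LD1_c14 LD2_c23 LD3_c55)) = (LP (LK LD1_c21 LD2_c7 LD3_c9)) :=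
  Lgr Lrot37 (Lpr_et (f712389 IH) (Lpr_gt (K57.f712377 IH) (Lpr_dt (K57.f87454 IH) (Lpe (K57.f119558 IH) (Lpe (K57.f96742 IH) (Lpr_et (K57.f96741 IH) (Lpe (f711704 IH) (Lpr_ef (K52.f711629 IH) (Lpr_dt (K51.f65747 IH) (Lpr_gt (f151015 IH) (Lpn (LP (LK LD1_c21 LD2_c7 LD3_c9)))))))))))))
theorem f712393 : Led Lsl_df (LP (LK LD1_c14 LD2_c23 LD3_c55)) = (LP (LK LD1_c21 LD2_c7 LD3_c9)) :=
  Lgr Lrot38 (Lpr_dt (f712390 IH) (Lpn (LP (LK LD1_c21 LD2_c7 LD3_c9))))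
theorem f88345 : Led Lsl_ct (LP (LK LD1_c14 LD2_c23 LD3_c55)) = (LP (LK LD1_c7 LD2_c38 LD3_c29)) :=
  Lre_c IH (LK LD1_c14 LD2_c23 LD3_c55) (LK LD1_c7 LD2_c38 LD3_c29) Lrfl Lrfl
theorem f87754 : Led Lsl_et (LP (LK LD1_c7 LD2_c38 LD3_c29)) = (LP (LK LD1_c3 LD2_c48 LD3_c42)) :=
  Lre_e IH (LK LD1_c7 LD2_c38 LD3_c29) (LK LD1_c3 LD2_c48 LD3_c42) Lrfl Lrfl
theorem f88298 : Led Lsl_gt (LP (LK LD1_c7 LD2_c34 LD3_c30)) = (LP (LK LD1_c3 LD2_c46 LD3_c47)) :=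
  Lre_g IH (LK LD1_c7 LD2_c34 LD3_c30) (LK LD1_c3 LD2_c46 LD3_c47) Lrfl Lrfl
theorem f88299 : Led Lsl_dt (LP (LK LD1_c7 LD2_c38 LD3_c29)) = (LP (LK LD1_c7 LD2_c34 LD3_c30)) :=
  Lgr Lrot136 (Lpr_et (f87754 IH) (Lpe (K52.f64850 IH) (Lpe (K2.f64894 IH) (Lpr_dt (K1.f17455 IH) (Lpe (K3.f62680 IH) (Lpr_df (K3.f88158 IH) (Lpe (K3.f88292 IH) (Lpe (K3.f88296 IH) (Lpr_dt (K54.f88297 IH) (Lpe (f88298 IH) (Lpn (LP (LK LD1_c7 LD2_c34 LD3_c30)))))))))))))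
theorem f88346 : Led Lsl_df (LP (LK LD1_c7 LD2_c38 LD3_c29)) = (LP (LK LD1_c7 LD2_c34 LD3_c30)) :=
  Lgr Lrot38 (Lpr_dt (f88299 IH) (Lpn (LP (LK LD1_c7 LD2_c34 LD3_c30))))
theorem f128730 : Led Lsl_ct (LP (LK LD1_c17 LD2_c17 LD3_c18)) = (LP (LK LD1_c9 LD2_c21 LD3_c18)) :=
  Lre_c IH (LK LD1_c17 LD2_c17 LD3_c18) (LK LD1_c9 LD2_c21 LD3_c18) Lrfl Lrfl
theorem f502975 : Led Lsl_dt (LP (LK LD1_c12 LD2_c4 LD3_c31)) = (LP (LK LD1_c6 LD2_c12 LD3_c35)) :=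
  Lre_d IH (LK LD1_c12 LD2_c4 LD3_c31) (LK LD1_c6 LD2_c12 LD3_c35) Lrfl Lrfl
theorem f702300 : Led Lsl_dt (LP (LK LD1_c6 LD2_c28 LD3_c19)) = K51.v13315 :=
  Lgr Lrot60 (Lpe (K4.f62912 IH) (Lpe (K51.f131517 IH) (Lpr_ff (K51.f702296 IH) (Lpn K51.v13315))))
theorem f454796 : Led Lsl_dt (LP (LK LD1_c3 LD2_c21 LD3_c42)) = (LP (LK LD1_c6 LD2_c47 LD3_c1)) :=
  Lre_d IH (LK LD1_c3 LD2_c21 LD3_c42) (LK LD1_c6 LD2_c47 LD3_c1) Lrfl Lrfl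
theorem f634248 : Led Lsl_ct (LP (LK LD1_c6 LD2_c47 LD3_c1)) = (LP (LK LD1_c12 LD2_c56 LD3_c61)) :=
  Lre_c IH (LK LD1_c6 LD2_c47 LD3_c1) (LK LD1_c12 LD2_c56 LD3_c61) Lrfl Lrfl
theorem f708402 : Led Lsl_df (LP (LK LD1_c17 LD2_c17 LD3_c18)) = (LP (LK LD1_c12 LD2_c56 LD3_c61)) :=
  Lgr Lrot177 (Lpr_ct (f128730 IH) (Lpr_af (K51.f439670 IH) (Lpr_ff (K51.f708394 IH) (Lpr_dt (f502975 IH) (Lpq (K51.f708385 IH) (Lpe (K58.f650088 IH) (Lpr_dt (f702300 IH) (Lpq (K51.f707485 IH) (Lpr_ct (K46.f140063 IH) (Lpr_dt (f454796 IH) (Lpr_ct (f634248 IH) (Lpn (LP (LK LD1_c12 LD2_c56 LD3_c61))))))))))))))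
theorem f103543 : Led Lsl_ct (LP (LK LD1_c6 LD2_c43 LD3_c22)) = (LP (LK LD1_c12 LD2_c51 LD3_c38)) :=
  Lre_c IH (LK LD1_c6 LD2_c43 LD3_c22) (LK LD1_c12 LD2_c51 LD3_c38) Lrfl Lrfl
theorem f120217 : Led Lsl_ct (LP (LK LD1_c9 LD2_c28 LD3_c34)) = (LP (LK LD1_c17 LD2_c28 LD3_c33)) :=
  Lre_c IH (LK LD1_c9 LD2_c28 LD3_c34) (LK LD1_c17 LD2_c28 LD3_c33) Lrfl Lrfl
theorem f103547 : Led Lsl_ct (LP (LK LD1_c12 LD2_c51 LD3_c38)) = (LP (LK LD1_c6 LD2_c43 LD3_c22)) :=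
  Lre_c IH (LK LD1_c12 LD2_c51 LD3_c38) (LK LD1_c6 LD2_c43 LD3_c22) Lrfl Lrfl
theorem f120218 : Led Lsl_at (LP (LK LD1_c17 LD2_c28 LD3_c33)) = (LP (LK LD1_c12 LD2_c51 LD3_c38)) :=
  Lgr Lrot107 (Lpe (f120217 IH) (Lpr_af (K4.f120212 IH) (Lpe (f103547 IH) (Lpn (LP (LK LD1_c12 LD2_c51 LD3_c38))))))
theorem f708406 : Led Lsl_ff (LP (LK LD1_c17 LD2_c28 LD3_c33)) = (LP (LK LD1_c12 LD2_c56 LD3_c61)) :=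
  Lgr Lrot103 (Lpr_at (f120218 IH) (Lpe (f103543 IH) (Lpe (K4.f103542 IH) (Lpe (K4.f103532 IH) (Lpe (K5.f126911 IH) (Lpr_cf (K28.f127069 IH) (Lpe (K51.f128739 IH) (Lpe (f128730 IH) (Lpr_df (f708402 IH) (Lpn (LP (LK LD1_c12 LD2_c56 LD3_c61))))))))))))
theorem f708410 : Led Lsl_ft (LP (LK LD1_c17 LD2_c28 LD3_c33)) = (LP (LK LD1_c12 LD2_c56 LD3_c61)) :=
  Lgr Lrot48 (Lpr_ff (f708406 IH) (Lpn (LP (LK LD1_c12 LD2_c56 LD3_c61))))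
theorem f634249 : Led Lsl_ct (LP (LK LD1_c12 LD2_c56 LD3_c61)) = (LP (LK LD1_c6 LD2_c47 LD3_c1)) :=
  Lre_c IH (LK LD1_c12 LD2_c56 LD3_c61) (LK LD1_c6 LD2_c47 LD3_c1) Lrfl Lrfl
theorem f708417 : Led Lsl_ff (LP (LK LD1_c9 LD2_c28 LD3_c34)) = (LP (LK LD1_c6 LD2_c47 LD3_c1)) :=
  Lgr Lrot23 (Lpr_ct (f120217 IH) (Lpr_ft (f708410 IH) (Lpr_ct (f634249 IH) (Lpn (LP (LK LD1_c6 LD2_c47 LD3_c1))))))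
theorem f708419 : Led Lsl_bt (LP (LK LD1_c12 LD2_c56 LD3_c60)) = (LP (LK LD1_c6 LD2_c47 LD3_c1)) :=
  Lre_b IH (LK LD1_c12 LD2_c56 LD3_c60) (LK LD1_c6 LD2_c47 LD3_c1) Lrfl Lrfl
theorem f708420 : Led Lsl_ft (LP (LK LD1_c7 LD2_c0 LD3_c33)) = (LP (LK LD1_c12 LD2_c56 LD3_c60)) :=
  Lgr Lrot75 (Lpe (K4.f120586 IH) (Lpr_ff (f708417 IH) (Lpe (f708419 IH) (Lpn (LP (LK LD1_c12 LD2_c56 LD3_c60))))))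
theorem f708424 : Led Lsl_ff (LP (LK LD1_c7 LD2_c0 LD3_c33)) = (LP (LK LD1_c12 LD2_c56 LD3_c60)) :=
  Lgr Lrot3 (Lpr_ft (f708420 IH) (Lpn (LP (LK LD1_c12 LD2_c56 LD3_c60))))
theorem f708430 : Led Lsl_gf (LP (LK LD1_c7 LD2_c34 LD3_c30)) = (LP (LK LD1_c12 LD2_c56 LD3_c60)) :=
  Lgr Lrot47 (Lpr_gt (f88298 IH) (Lpr_af (K4.f120584 IH) (Lpr_ff (f708424 IH) (Lpn (LP (LK LD1_c12 LD2_c56 LD3_c60))))))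
theorem f707535 : Led Lsl_dt (LP (LK LD1_c6 LD2_c46 LD3_c61)) = (LP (LK LD1_c12 LD2_c56 LD3_c60)) :=
  Lre_d IH (LK LD1_c6 LD2_c46 LD3_c61) (LK LD1_c12 LD2_c56 LD3_c60) Lrfl Lrfl
theorem f140083 : Led Lsl_bt (LP (LK LD1_c3 LD2_c21 LD3_c42)) = (LP (LK LD1_c6 LD2_c46 LD3_c61)) :=
  Lre_b IH (LK LD1_c3 LD2_c21 LD3_c42) (LK LD1_c6 LD2_c46 LD3_c61) Lrfl Lrfl
theorem f707524 : K51.v6781 = (LP (LK LD1_c6 LD2_c46 LD3_c61)) :=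
  Lefun (Lecon (Lfl_bf (K51.f704654 IH)) (K51.f707497 IH)) (f140083 IH)
theorem f105558 : Led Lsl_ff (LP (LK LD1_c0 LD2_c51 LD3_c54)) = (LP (LK LD1_c1 LD2_c41 LD3_c27)) :=
  Lgr Lrot30 (Lpr_at (K3.f105309 IH) (Lpe (K3.f105317 IH) (Lpr_at (K3.f105551 IH) (Lpn (LP (LK LD1_c1 LD2_c41 LD3_c27))))))
theorem f658420 : Led Lsl_et (LP (LK LD1_c3 LD2_c46 LD3_c4)) = K51.v6781 :=
  Lgr Lrot69 (Lpe (K52.f109716 IH) (Lpe (K3.f93598 IH) (Lpr_ff (f105558 IH) (Lpe (K4.f87869 IH) (Lpr_ff (K51.f658417 IH) (Lpn K51.v6781))))))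
theorem f87263 : Led Lsl_dt (LP (LK LD1_c3 LD2_c49 LD3_c33)) = (LP (LK LD1_c7 LD2_c40 LD3_c2)) :=
  Lre_d IH (LK LD1_c3 LD2_c49 LD3_c33) (LK LD1_c7 LD2_c40 LD3_c2) Lrfl Lrfl
theorem f89669 : Led Lsl_et (LP (LK LD1_c3 LD2_c47 LD3_c11)) = (LP (LK LD1_c1 LD2_c50 LD3_c43)) :=
  Lre_e IH (LK LD1_c3 LD2_c47 LD3_c11) (LK LD1_c1 LD2_c50 LD3_c43) Lrfl Lrfl
theorem f89672 : Led Lsl_dt (LP (LK LD1_c3 LD2_c47 LD3_c11)) = (LP (LK LD1_c7 LD2_c35 LD3_c12)) :=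
  Lre_d IH (LK LD1_c3 LD2_c47 LD3_c11) (LK LD1_c7 LD2_c35 LD3_c12) Lrfl Lrfl
theorem f88381 : Led Lsl_gt (LP (LK LD1_c1 LD2_c50 LD3_c29)) = (LP (LK LD1_c3 LD2_c46 LD3_c45)) :=
  Lre_g IH (LK LD1_c1 LD2_c50 LD3_c29) (LK LD1_c3 LD2_c46 LD3_c45) Lrfl Lrfl
theorem f92369 : Led Lsl_et (LP (LK LD1_c7 LD2_c34 LD3_c24)) = (LP (LK LD1_c3 LD2_c46 LD3_c45)) :=
  Lre_e IH (LK LD1_c7 LD2_c34 LD3_c24) (LK LD1_c3 LD2_c46 LD3_c45) Lrfl Lrfl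
theorem f92370 : Led Lsl_dt (LP (LK LD1_c7 LD2_c34 LD3_c24)) = (LP (LK LD1_c14 LD2_c16 LD3_c46)) :=
  Lre_d IH (LK LD1_c7 LD2_c34 LD3_c24) (LK LD1_c14 LD2_c16 LD3_c46) Lrfl Lrfl
theorem f92371 : Led Lsl_gf (LP (LK LD1_c7 LD2_c35 LD3_c12)) = (LP (LK LD1_c14 LD2_c16 LD3_c46)) :=
  Lgr Lrot145 (Lpe (f89672 IH) (Lpr_et (f89669 IH) (Lpr_gt (K3.f89670 IH) (Lpr_dt (K3.f89125 IH) (Lpr_gt (K2.f92360 IH) (Lpe (K1.f62804 IH) (Lpr_et (K3.f65231 IH) (Lpr_gt (f88381 IH) (Lpe (f92369 IH) (Lpr_dt (f92370 IH) (Lpn (LP (LK LD1_c14 LD2_c16 LD3_c46)))))))))))))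
theorem f92378 : Led Lsl_gt (LP (LK LD1_c7 LD2_c40 LD3_c2)) = (LP (LK LD1_c14 LD2_c16 LD3_c46)) :=
  Lgr Lrot5 (Lpr_ft (K2.f87252 IH) (Lpe (K2.f89235 IH) (Lpr_gf (f92371 IH) (Lpn (LP (LK LD1_c14 LD2_c16 LD3_c46))))))
theorem f658424 : Led Lsl_gt (LP (LK LD1_c3 LD2_c46 LD3_c45)) = K51.v6781 :=
  Lgr Lrot131 (Lpe (f92369 IH) (Lpr_dt (f92370 IH) (Lpe (f92378 IH) (Lpe (f87263 IH) (Lpe (K57.f442203 IH) (Lpe (K57.f96171 IH) (Lpe (K57.f105564 IH) (Lpr_gf (K57.f441348 IH) (Lpe (K57.f109840 IH) (Lpr_et (f658420 IH) (Lpn K51.v6781)))))))))))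
theorem f136026 : Led Lsl_ct (LP (LK LD1_c3 LD2_c46 LD3_c45)) = (LP (LK LD1_c7 LD2_c34 LD3_c22)) :=
  Lre_c IH (LK LD1_c3 LD2_c46 LD3_c45) (LK LD1_c7 LD2_c34 LD3_c22) Lrfl Lrfl
theorem f712397 : Led Lsl_gt (LP (LK LD1_c7 LD2_c34 LD3_c22)) = (LP (LK LD1_c6 LD2_c34 LD3_c35)) :=
  Lgr Lrot94 (Lpe (f136026 IH) (Lpr_gt (f658424 IH) (Lpqs (f707524 IH) (Lpr_dt (f707535 IH) (Lpe (f708430 IH) (Lpe (f88346 IH) (Lpe (f88345 IH) (Lpr_df (f712393 IH) (Lpe (f151015 IH) (Lpe (K51.f65747 IH) (Lpn (LP (LK LD1_c6 LD2_c34 LD3_c35)))))))))))))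
theorem f712399 : Led Lsl_gf (LP (LK LD1_c7 LD2_c34 LD3_c22)) = (LP (LK LD1_c6 LD2_c10 LD3_c34)) :=
  Lgr Lrot47 (Lpr_gt (f712397 IH) (Lpr_af (K51.f151019 IH) (Lpe (K4.f96255 IH) (Lpn (LP (LK LD1_c6 LD2_c10 LD3_c34))))))
theorem f136030 : Led Lsl_dt (LP (LK LD1_c7 LD2_c34 LD3_c22)) = (LP (LK LD1_c14 LD2_c16 LD3_c42)) :=
  Lre_d IH (LK LD1_c7 LD2_c34 LD3_c22) (LK LD1_c14 LD2_c16 LD3_c42) Lrfl Lrfl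
theorem f64923 : Led Lsl_gt (LP (LK LD1_c3 LD2_c29 LD3_c55)) = (LP (LK LD1_c7 LD2_c1 LD3_c27)) :=
  Lre_g IH (LK LD1_c3 LD2_c29 LD3_c55) (LK LD1_c7 LD2_c1 LD3_c27) Lrfl Lrfl
theorem f96259 : Led Lsl_dt (LP (LK LD1_c7 LD2_c1 LD3_c27)) = (LP (LK LD1_c13 LD2_c19 LD3_c26)) :=
  Lre_d IH (LK LD1_c7 LD2_c1 LD3_c27) (LK LD1_c13 LD2_c19 LD3_c26) Lrfl Lrfl
theorem f96260 : Led Lsl_gt (LP (LK LD1_c13 LD2_c19 LD3_c26)) = (LP (LK LD1_c13 LD2_c20 LD3_c50)) :=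
  Lre_g IH (LK LD1_c13 LD2_c19 LD3_c26) (LK LD1_c13 LD2_c20 LD3_c50) Lrfl Lrfl
theorem f96261 : Led Lsl_dt (LP (LK LD1_c13 LD2_c20 LD3_c50)) = (LP (LK LD1_c7 LD2_c2 LD3_c16)) :=
  Lre_d IH (LK LD1_c13 LD2_c20 LD3_c50) (LK LD1_c7 LD2_c2 LD3_c16) Lrfl Lrfl
theorem f96262 : Led Lsl_ct (LP (LK LD1_c13 LD2_c20 LD3_c47)) = (LP (LK LD1_c7 LD2_c2 LD3_c16)) :=
  Lre_c IH (LK LD1_c13 LD2_c20 LD3_c47) (LK LD1_c7 LD2_c2 LD3_c16) Lrfl Lrfl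
theorem f96263 : Led Lsl_dt (LP (LK LD1_c22 LD2_c37 LD3_c12)) = (LP (LK LD1_c13 LD2_c20 LD3_c47)) :=
  Lre_d IH (LK LD1_c22 LD2_c37 LD3_c12) (LK LD1_c13 LD2_c20 LD3_c47) Lrfl Lrfl
theorem f712401 : Led Lsl_gt (LP (LK LD1_c14 LD2_c16 LD3_c42)) = (LP (LK LD1_c22 LD2_c37 LD3_c12)) :=
  Lgr Lrot49 (Lpe (f136030 IH) (Lpr_gf (f712399 IH) (Lpe (K4.f96244 IH) (Lpr_gt (f64923 IH) (Lpr_dt (f96259 IH) (Lpr_gt (f96260 IH) (Lpr_dt (f96261 IH) (Lpe (f96262 IH) (Lpe (f96263 IH) (Lpn (LP (LK LD1_c22 LD2_c37 LD3_c12))))))))))))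
theorem f712406 : Led Lsl_dt (LP (LK LD1_c13 LD2_c20 LD3_c47)) = (LP (LK LD1_c22 LD2_c37 LD3_c12)) :=
  Lre_d IH (LK LD1_c13 LD2_c20 LD3_c47) (LK LD1_c22 LD2_c37 LD3_c12) Lrfl Lrfl
theorem f712407 : Led Lsl_et (LP (LK LD1_c13 LD2_c20 LD3_c47)) = (LP (LK LD1_c7 LD2_c2 LD3_c14)) :=
  Lre_e IH (LK LD1_c13 LD2_c20 LD3_c47) (LK LD1_c7 LD2_c2 LD3_c14) Lrfl Lrfl
theorem f712408 : Led Lsl_gt (LP (LK LD1_c7 LD2_c2 LD3_c14)) = (LP (LK LD1_c6 LD2_c36 LD3_c53)) :=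
  Lgr Lrot131 (Lpe (f712407 IH) (Lpr_dt (f712406 IH) (Lpe (f712401 IH) (Lpe (f136030 IH) (Lpr_gf (f712399 IH) (Lpe (K51.f96240 IH) (Lpr_dt (K5.f63849 IH) (Lpe (K3.f96194 IH) (Lpr_df (K3.f96230 IH) (Lpr_et (K3.f94159 IH) (Lpn (LP (LK LD1_c6 LD2_c36 LD3_c53)))))))))))))
theorem f788888 : Led Lsl_af (LP (LK LD1_c7 LD2_c2 LD3_c10)) = v20662 :=
  Lgr Lrot0 (Lpr_at (f788887 IH) (Lpn v20662))
theorem f788894 : v19030 = (LP (LK LD1_c7 LD2_c2 LD3_c10)) :=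
  (Llr Lrot46 (Lpe (f777313 IH) (Lpe (f712408 IH) (Lpr_ft (f788891 IH) (Lpe (f788888 IH) (Lpn (LP (LK LD1_c7 LD2_c2 LD3_c10)))))))).symm
theorem f788898 : Led Lsl_gt (LP (LK LD1_c6 LD2_c36 LD3_c53)) = (LP (LK LD1_c7 LD2_c2 LD3_c10)) :=
  Leop (Lpq (f788894 IH) (Lpe (f777313 IH) (Lpn (LP (LK LD1_c6 LD2_c36 LD3_c53)))))
theorem seed_1553 : LEOK LG_g (LK LD1_c6 LD2_c36 LD3_c53) :=
  Leoe_g (LK LD1_c6 LD2_c36 LD3_c53) (f788898 IH)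
theorem f88453 : Led Lsl_et (LP (LK LD1_c7 LD2_c30 LD3_c60)) = (LP (LK LD1_c3 LD2_c45 LD3_c5)) :=
  Lre_e IH (LK LD1_c7 LD2_c30 LD3_c60) (LK LD1_c3 LD2_c45 LD3_c5) Lrfl Lrfl
theorem f788885 : Led Lsl_et (LP (LK LD1_c13 LD2_c20 LD3_c42)) = (LP (LK LD1_c7 LD2_c2 LD3_c10)) :=
  Lre_e IH (LK LD1_c13 LD2_c20 LD3_c42) (LK LD1_c7 LD2_c2 LD3_c10) Lrfl Lrfl
theorem f63967 : Led Lsl_dt (LP (LK LD1_c13 LD2_c20 LD3_c42)) = (LP (LK LD1_c22 LD2_c37 LD3_c6)) :=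
  Lre_d IH (LK LD1_c13 LD2_c20 LD3_c42) (LK LD1_c22 LD2_c37 LD3_c6) Lrfl Lrfl
theorem f788899 : Led Lsl_gf (LP (LK LD1_c14 LD2_c11 LD3_c19)) = (LP (LK LD1_c22 LD2_c37 LD3_c6)) :=
  Lgr Lrot145 (Lpe (K56.f88450 IH) (Lpr_et (f88453 IH) (Lpr_gt (K3.f96615 IH) (Lpr_dt (K3.f96045 IH) (Lpr_gt (K3.f96064 IH) (Lpr_df (K3.f96230 IH) (Lpr_et (K3.f94159 IH) (Lpr_gt (f777313 IH) (Lpqs (f788894 IH) (Lpe (f788885 IH) (Lpr_dt (f63967 IH) (Lpn (LP (LK LD1_c22 LD2_c37 LD3_c6))))))))))))))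
theorem f141455 : Led Lsl_af (LP (LK LD1_c14 LD2_c11 LD3_c19)) = (LP (LK LD1_c12 LD2_c35 LD3_c22)) :=
  Lgr Lrot0 (Lpr_at (K56.f141453 IH) (Lpn (LP (LK LD1_c12 LD2_c35 LD3_c22))))
theorem f141492 : Led Lsl_ft (LP (LK LD1_c21 LD2_c41 LD3_c46)) = (LP (LK LD1_c12 LD2_c35 LD3_c22)) :=
  Lre_f IH (LK LD1_c21 LD2_c41 LD3_c46) (LK LD1_c12 LD2_c35 LD3_c22) Lrfl Lrfl
theorem f788901 : Led Lsl_gt (LP (LK LD1_c21 LD2_c41 LD3_c46)) = (LP (LK LD1_c22 LD2_c37 LD3_c6)) :=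
  Lgr Lrot5 (Lpr_ft (f141492 IH) (Lpe (f141455 IH) (Lpr_gf (f788899 IH) (Lpn (LP (LK LD1_c22 LD2_c37 LD3_c6))))))
theorem f126407 : Led Lsl_dt (LP (LK LD1_c12 LD2_c35 LD3_c23)) = (LP (LK LD1_c21 LD2_c41 LD3_c46)) :=
  Lre_d IH (LK LD1_c12 LD2_c35 LD3_c23) (LK LD1_c21 LD2_c41 LD3_c46) Lrfl Lrfl
theorem f63770 : Led Lsl_dt (LP (LK LD1_c22 LD2_c37 LD3_c6)) = (LP (LK LD1_c13 LD2_c20 LD3_c42)) :=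
  Lre_d IH (LK LD1_c22 LD2_c37 LD3_c6) (LK LD1_c13 LD2_c20 LD3_c42) Lrfl Lrfl
theorem f63966 : Led Lsl_ct (LP (LK LD1_c7 LD2_c2 LD3_c12)) = (LP (LK LD1_c13 LD2_c20 LD3_c42)) :=
  Lre_c IH (LK LD1_c7 LD2_c2 LD3_c12) (LK LD1_c13 LD2_c20 LD3_c42) Lrfl Lrfl
theorem f63773 : Led Lsl_df (LP (LK LD1_c7 LD2_c2 LD3_c12)) = (LP (LK LD1_c7 LD2_c36 LD3_c44)) :=
  Lgr Lrot38 (Lpr_dt (K3.f63763 IH) (Lpn (LP (LK LD1_c7 LD2_c36 LD3_c44))))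
theorem f63968 : Led Lsl_ct (LP (LK LD1_c7 LD2_c36 LD3_c36)) = (LP (LK LD1_c3 LD2_c47 LD3_c47)) :=
  Lre_c IH (LK LD1_c7 LD2_c36 LD3_c36) (LK LD1_c3 LD2_c47 LD3_c47) Lrfl Lrfl
theorem f788903 : Led Lsl_gf (LP (LK LD1_c12 LD2_c35 LD3_c23)) = (LP (LK LD1_c7 LD2_c36 LD3_c36)) :=
  Lgr Lrot144 (Lpr_dt (f126407 IH) (Lpr_gt (f788901 IH) (Lpr_dt (f63770 IH) (Lpe (f63966 IH) (Lpr_df (f63773 IH) (Lpe (K3.f63762 IH) (Lpe (K3.f63761 IH) (Lpe (K3.f14467 IH) (Lpe (f63968 IH) (Lpn (LP (LK LD1_c7 LD2_c36 LD3_c36))))))))))))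
theorem f127784 : Led Lsl_dt (LP (LK LD1_c13 LD2_c17 LD3_c45)) = (LP (LK LD1_c22 LD2_c33 LD3_c33)) :=
  Lre_d IH (LK LD1_c13 LD2_c17 LD3_c45) (LK LD1_c22 LD2_c33 LD3_c33) Lrfl Lrfl
theorem f63972 : Led Lsl_ct (LP (LK LD1_c3 LD2_c47 LD3_c47)) = (LP (LK LD1_c7 LD2_c36 LD3_c36)) :=
  Lre_c IH (LK LD1_c3 LD2_c47 LD3_c47) (LK LD1_c7 LD2_c36 LD3_c36) Lrfl Lrfl
theorem f63783 : Led Lsl_dt (LP (LK LD1_c3 LD2_c47 LD3_c49)) = (LP (LK LD1_c1 LD2_c50 LD3_c56)) :=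
  Lre_d IH (LK LD1_c3 LD2_c47 LD3_c49) (LK LD1_c1 LD2_c50 LD3_c56) Lrfl Lrfl
theorem f65023 : Led Lsl_gt (LP (LK LD1_c3 LD2_c47 LD3_c49)) = (LP (LK LD1_c7 LD2_c36 LD3_c43)) :=
  Lre_g IH (LK LD1_c3 LD2_c47 LD3_c49) (LK LD1_c7 LD2_c36 LD3_c43) Lrfl Lrfl
theorem f662144 : Led Lsl_ct (LP (LK LD1_c7 LD2_c36 LD3_c43)) = (LP (LK LD1_c14 LD2_c21 LD3_c2)) :=
  Lre_c IH (LK LD1_c7 LD2_c36 LD3_c43) (LK LD1_c14 LD2_c21 LD3_c2) Lrfl Lrfl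
theorem f788918 : Led Lsl_gt (LP (LK LD1_c14 LD2_c21 LD3_c2)) = (LP (LK LD1_c23 LD2_c58 LD3_c59)) :=
  Lre_g IH (LK LD1_c14 LD2_c21 LD3_c2) (LK LD1_c23 LD2_c58 LD3_c59) Lrfl Lrfl
theorem f788919 : Led Lsl_cf (LP (LK LD1_c22 LD2_c33 LD3_c33)) = (LP (LK LD1_c23 LD2_c58 LD3_c59)) :=
  Lgr Lrot99 (Lpe (f127784 IH) (Lpr_cf (K24.f141495 IH) (Lpr_gf (f788903 IH) (Lpe (f63972 IH) (Lpe (K3.f63736 IH) (Lpe (f63783 IH) (Lpr_gt (f65023 IH) (Lpr_ct (f662144 IH) (Lpr_gt (f788918 IH) (Lpn (LP (LK LD1_c23 LD2_c58 LD3_c59))))))))))))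
theorem f788923 : Led Lsl_ct (LP (LK LD1_c22 LD2_c33 LD3_c33)) = (LP (LK LD1_c23 LD2_c58 LD3_c59)) :=
  Lgr Lrot59 (Lpr_cf (f788919 IH) (Lpn (LP (LK LD1_c23 LD2_c58 LD3_c59))))
theorem f666824 : Led Lsl_gt (LP (LK LD1_c3 LD2_c51 LD3_c36)) = (LP (LK LD1_c7 LD2_c44 LD3_c44)) :=
  Lre_g IH (LK LD1_c3 LD2_c51 LD3_c36) (LK LD1_c7 LD2_c44 LD3_c44) Lrfl Lrfl
theorem f666859 : Led Lsl_at (LP (LK LD1_c12 LD2_c35 LD3_c23)) = (LP (LK LD1_c7 LD2_c44 LD3_c44)) :=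
  Lgr Lrot26 (Lpe (K24.f126400 IH) (Lpqs (K48.f666857 IH) (Lpe (K48.f666836 IH) (Lpr_gt (f666824 IH) (Lpn (LP (LK LD1_c7 LD2_c44 LD3_c44)))))))
theorem f141498 : Led Lsl_ct (LP (LK LD1_c13 LD2_c17 LD3_c45)) = (LP (LK LD1_c12 LD2_c35 LD3_c23)) :=
  Lgr Lrot59 (Lpr_cf (K24.f141495 IH) (Lpn (LP (LK LD1_c12 LD2_c35 LD3_c23))))
theorem f666863 : Led Lsl_cf (LP (LK LD1_c7 LD2_c32 LD3_c56)) = (LP (LK LD1_c7 LD2_c44 LD3_c44)) :=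
  Lgr Lrot1 (Lpe (K5.f127795 IH) (Lpr_ct (f141498 IH) (Lpr_at (f666859 IH) (Lpn (LP (LK LD1_c7 LD2_c44 LD3_c44))))))
theorem f477869 : Led Lsl_dt (LP (LK LD1_c1 LD2_c52 LD3_c36)) = (LP (LK LD1_c0 LD2_c52 LD3_c60)) :=
  Lre_d IH (LK LD1_c1 LD2_c52 LD3_c36) (LK LD1_c0 LD2_c52 LD3_c60) Lrfl Lrfl
theorem f103878 : Led Lsl_gt (LP (LK LD1_c1 LD2_c52 LD3_c36)) = (LP (LK LD1_c3 LD2_c51 LD3_c43)) :=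
  Lre_g IH (LK LD1_c1 LD2_c52 LD3_c36) (LK LD1_c3 LD2_c51 LD3_c43) Lrfl Lrfl
theorem f103873 : Led Lsl_ct (LP (LK LD1_c3 LD2_c51 LD3_c43)) = (LP (LK LD1_c7 LD2_c45 LD3_c5)) :=
  Lre_c IH (LK LD1_c3 LD2_c51 LD3_c43) (LK LD1_c7 LD2_c45 LD3_c5) Lrfl Lrfl
theorem f666909 : Led Lsl_gt (LP (LK LD1_c7 LD2_c45 LD3_c5)) = (LP (LK LD1_c14 LD2_c37 LD3_c17)) :=
  Lre_g IH (LK LD1_c7 LD2_c45 LD3_c5) (LK LD1_c14 LD2_c37 LD3_c17) Lrfl Lrfl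
theorem f666910 : Led Lsl_cf (LP (LK LD1_c14 LD2_c14 LD3_c0)) = (LP (LK LD1_c14 LD2_c37 LD3_c17)) :=
  Lgr Lrot99 (Lpe (K5.f127790 IH) (Lpr_cf (f666863 IH) (Lpe (f666824 IH) (Lpe (K48.f530323 IH) (Lpe (K48.f443247 IH) (Lpe (f477869 IH) (Lpr_gt (f103878 IH) (Lpr_ct (f103873 IH) (Lpr_gt (f666909 IH) (Lpn (LP (LK LD1_c14 LD2_c37 LD3_c17))))))))))))
theorem f788926 : Led Lsl_af (LP (LK LD1_c14 LD2_c37 LD3_c17)) = (LP (LK LD1_c23 LD2_c58 LD3_c59)) :=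
  Lgr Lrot68 (Lpe (f666910 IH) (Lpe (K5.f127778 IH) (Lpr_ct (f788923 IH) (Lpn (LP (LK LD1_c23 LD2_c58 LD3_c59))))))
theorem f788165 : Led Lsl_gt (LP (LK LD1_c14 LD2_c37 LD3_c18)) = (LP (LK LD1_c7 LD2_c45 LD3_c5)) :=
  Lre_g IH (LK LD1_c14 LD2_c37 LD3_c18) (LK LD1_c7 LD2_c45 LD3_c5) Lrfl Lrfl
theorem f788930 : Led Lsl_ft (LP (LK LD1_c14 LD2_c37 LD3_c18)) = (LP (LK LD1_c23 LD2_c58 LD3_c59)) :=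
  Lgr Lrot2 (Lpr_gt (f788165 IH) (Lpr_gt (f666909 IH) (Lpr_af (f788926 IH) (Lpn (LP (LK LD1_c23 LD2_c58 LD3_c59))))))
theorem f788937 : Led Lsl_ff (LP (LK LD1_c14 LD2_c37 LD3_c18)) = (LP (LK LD1_c23 LD2_c58 LD3_c59)) :=
  Lgr Lrot3 (Lpr_ft (f788930 IH) (Lpn (LP (LK LD1_c23 LD2_c58 LD3_c59))))
theorem f788942 : Led Lsl_ct (LP (LK LD1_c14 LD2_c37 LD3_c18)) = (LP (LK LD1_c13 LD2_c17 LD3_c44)) :=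
  Lgr Lrot40 (Lpr_ff (f788937 IH) (Lpe (f788923 IH) (Lpe (f104037 IH) (Lpn (LP (LK LD1_c13 LD2_c17 LD3_c44))))))
theorem f103884 : Led Lsl_gt (LP (LK LD1_c3 LD2_c47 LD3_c50)) = (LP (LK LD1_c1 LD2_c52 LD3_c35)) :=
  Lre_g IH (LK LD1_c3 LD2_c47 LD3_c50) (LK LD1_c1 LD2_c52 LD3_c35) Lrfl Lrfl
theorem f103886 : Led Lsl_dt (LP (LK LD1_c7 LD2_c36 LD3_c46)) = (LP (LK LD1_c3 LD2_c47 LD3_c50)) :=
  Lre_d IH (LK LD1_c7 LD2_c36 LD3_c46) (LK LD1_c3 LD2_c47 LD3_c50) Lrfl Lrfl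
theorem f103885 : Led Lsl_ct (LP (LK LD1_c3 LD2_c51 LD3_c44)) = (LP (LK LD1_c7 LD2_c45 LD3_c9)) :=
  Lre_c IH (LK LD1_c3 LD2_c51 LD3_c44) (LK LD1_c7 LD2_c45 LD3_c9) Lrfl Lrfl
theorem f788952 : Led Lsl_gf (LP (LK LD1_c14 LD2_c37 LD3_c18)) = (LP (LK LD1_c7 LD2_c45 LD3_c9)) :=
  Lgr Lrot104 (Lpr_ct (f788942 IH) (Lpe (K5.f103955 IH) (Lpe (K6.f103944 IH) (Lpe (K48.f103839 IH) (Lpe (K48.f103880 IH) (Lpe (f103884 IH) (Lpe (f103886 IH) (Lpr_gt (K1.f65149 IH) (Lpr_ct (f103885 IH) (Lpn (LP (LK LD1_c7 LD2_c45 LD3_c9))))))))))))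
theorem f662143 : Led Lsl_ct (LP (LK LD1_c7 LD2_c44 LD3_c50)) = (LP (LK LD1_c3 LD2_c51 LD3_c37)) :=
  Lre_c IH (LK LD1_c7 LD2_c44 LD3_c50) (LK LD1_c3 LD2_c51 LD3_c37) Lrfl Lrfl
theorem f666856 : Led Lsl_dt (LP (LK LD1_c14 LD2_c36 LD3_c49)) = (LP (LK LD1_c7 LD2_c44 LD3_c50)) :=
  Lre_d IH (LK LD1_c14 LD2_c36 LD3_c49) (LK LD1_c7 LD2_c44 LD3_c50) Lrfl Lrfl
theorem f788957 : Led Lsl_gt (LP (LK LD1_c24 LD2_c20 LD3_c10)) = (LP (LK LD1_c14 LD2_c36 LD3_c49)) :=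
  Lre_g IH (LK LD1_c24 LD2_c20 LD3_c10) (LK LD1_c14 LD2_c36 LD3_c49) Lrfl Lrfl
theorem f788958 : Led Lsl_dt (LP (LK LD1_c14 LD2_c37 LD3_c18)) = (LP (LK LD1_c24 LD2_c20 LD3_c10)) :=
  Lgr Lrot57 (Lpr_gf (f788952 IH) (Lpe (f103885 IH) (Lpr_gt (K1.f65172 IH) (Lpr_dt (f477869 IH) (Lpr_gt (K48.f443247 IH) (Lpr_dt (K48.f530324 IH) (Lpe (f662143 IH) (Lpe (f666856 IH) (Lpe (f788957 IH) (Lpn (LP (LK LD1_c24 LD2_c20 LD3_c10))))))))))))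
theorem f103868 : Led Lsl_ct (LP (LK LD1_c7 LD2_c45 LD3_c5)) = (LP (LK LD1_c3 LD2_c51 LD3_c43)) :=
  Lre_c IH (LK LD1_c7 LD2_c45 LD3_c5) (LK LD1_c3 LD2_c51 LD3_c43) Lrfl Lrfl
theorem f667085 : Led Lsl_gt (LP (LK LD1_c3 LD2_c51 LD3_c43)) = (LP (LK LD1_c7 LD2_c36 LD3_c46)) :=
  Lre_g IH (LK LD1_c3 LD2_c51 LD3_c43) (LK LD1_c7 LD2_c36 LD3_c46) Lrfl Lrfl
theorem f788970 : Led Lsl_ct (LP (LK LD1_c7 LD2_c36 LD3_c46)) = (LP (LK LD1_c14 LD2_c21 LD3_c12)) :=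
  Lre_c IH (LK LD1_c7 LD2_c36 LD3_c46) (LK LD1_c14 LD2_c21 LD3_c12) Lrfl Lrfl
theorem f205897 : Led Lsl_dt (LP (LK LD1_c23 LD2_c59 LD3_c18)) = (LP (LK LD1_c14 LD2_c21 LD3_c12)) :=
  Lre_d IH (LK LD1_c23 LD2_c59 LD3_c18) (LK LD1_c14 LD2_c21 LD3_c12) Lrfl Lrfl
theorem f788971 : Led Lsl_ct (LP (LK LD1_c14 LD2_c36 LD3_c18)) = (LP (LK LD1_c23 LD2_c59 LD3_c18)) :=
  Lre_c IH (LK LD1_c14 LD2_c36 LD3_c18) (LK LD1_c23 LD2_c59 LD3_c18) Lrfl Lrfl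
theorem f776024 : Led Lsl_gt (LP (LK LD1_c24 LD2_c19 LD3_c41)) = (LP (LK LD1_c14 LD2_c36 LD3_c18)) :=
  Lre_g IH (LK LD1_c24 LD2_c19 LD3_c41) (LK LD1_c14 LD2_c36 LD3_c18) Lrfl Lrfl
theorem f788972 : Led Lsl_cf (LP (LK LD1_c24 LD2_c19 LD3_c41)) = (LP (LK LD1_c14 LD2_c36 LD3_c49)) :=
  Lgr Lrot188 (Lpr_gt (f776024 IH) (Lpr_ct (f788971 IH) (Lpr_dt (f205897 IH) (Lpe (f788970 IH) (Lpe (f667085 IH) (Lpe (f103868 IH) (Lpe (f788165 IH) (Lpr_dt (f788958 IH) (Lpr_gt (f788957 IH) (Lpn (LP (LK LD1_c14 LD2_c36 LD3_c49))))))))))))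
theorem f530343 : Led Lsl_dt (LP (LK LD1_c7 LD2_c44 LD3_c50)) = (LP (LK LD1_c14 LD2_c36 LD3_c49)) :=
  Lre_d IH (LK LD1_c7 LD2_c44 LD3_c50) (LK LD1_c14 LD2_c36 LD3_c49) Lrfl Lrfl
theorem f530342 : Led Lsl_ct (LP (LK LD1_c3 LD2_c51 LD3_c37)) = (LP (LK LD1_c7 LD2_c44 LD3_c50)) :=
  Lre_c IH (LK LD1_c3 LD2_c51 LD3_c37) (LK LD1_c7 LD2_c44 LD3_c50) Lrfl Lrfl
def v2680 : LQ := Led Lsl_ft (LP (LK LD1_c1 LD2_c52 LD3_c34))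
theorem f530338 : Led Lsl_ft (LP (LK LD1_c1 LD2_c52 LD3_c34)) = v2680 :=
  Lrfl
theorem f530339 : Led Lsl_af (LP (LK LD1_c1 LD2_c52 LD3_c35)) = v2680 :=
  Lgr Lrot45 (Lpr_ft (K48.f530326 IH) (Lpe (K48.f530316 IH) (Lpr_ft (f530338 IH) (Lpn v2680))))
theorem f103876 : Led Lsl_ct (LP (LK LD1_c3 LD2_c51 LD3_c40)) = (LP (LK LD1_c1 LD2_c52 LD3_c35)) :=
  Lre_c IH (LK LD1_c3 LD2_c51 LD3_c40) (LK LD1_c1 LD2_c52 LD3_c35) Lrfl Lrfl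
theorem f103882 : Led Lsl_dt (LP (LK LD1_c7 LD2_c44 LD3_c59)) = (LP (LK LD1_c3 LD2_c51 LD3_c40)) :=
  Lre_d IH (LK LD1_c7 LD2_c44 LD3_c59) (LK LD1_c3 LD2_c51 LD3_c40) Lrfl Lrfl
theorem f530344 : Led Lsl_ct (LP (LK LD1_c14 LD2_c37 LD3_c2)) = (LP (LK LD1_c7 LD2_c44 LD3_c59)) :=
  Lre_c IH (LK LD1_c14 LD2_c37 LD3_c2) (LK LD1_c7 LD2_c44 LD3_c59) Lrfl Lrfl
theorem f788978 : Led Lsl_dt (LP (LK LD1_c24 LD2_c19 LD3_c41)) = (LP (LK LD1_c14 LD2_c37 LD3_c2)) :=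
  Lgr Lrot140 (Lpr_cf (f788972 IH) (Lpe (f530343 IH) (Lpe (f530342 IH) (Lpe (K48.f530324 IH) (Lpr_ft (f530338 IH) (Lpe (f530339 IH) (Lpe (f103876 IH) (Lpe (f103882 IH) (Lpe (f530344 IH) (Lpn (LP (LK LD1_c14 LD2_c37 LD3_c2))))))))))))
theorem f788979 : Led Lsl_dt (LP (LK LD1_c24 LD2_c19 LD3_c41)) = (LP (LK LD1_c14 LD2_c37 LD3_c2)) :=
  Leop (Lpe (f788978 IH) (Lpn (LP (LK LD1_c24 LD2_c19 LD3_c41))))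
theorem seed_1554 : LEOK LG_d (LK LD1_c24 LD2_c19 LD3_c41) :=
  Leoe_d (LK LD1_c24 LD2_c19 LD3_c41) (f788979 IH)
def v20670 : LQ := Led Lsl_ft (LP (LK LD1_c7 LD2_c2 LD3_c11))
theorem f789072 : Led Lsl_ft (LP (LK LD1_c7 LD2_c2 LD3_c11)) = v20670 :=
  Lrfl
def v20666 : LQ := Led Lsl_gt (LP (LK LD1_c7 LD2_c2 LD3_c11))
theorem f789054 : Led Lsl_gt (LP (LK LD1_c7 LD2_c2 LD3_c11)) = v20666 :=
  Lrfl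
def v20668 : LQ := Led Lsl_at (LP (LK LD1_c7 LD2_c2 LD3_c11))
theorem f789058 : Led Lsl_at (LP (LK LD1_c7 LD2_c2 LD3_c11)) = v20668 :=
  Lrfl
theorem f789059 : Led Lsl_af (LP (LK LD1_c7 LD2_c2 LD3_c11)) = v20668 :=
  Lgr Lrot0 (Lpr_at (f789058 IH) (Lpn v20668))
theorem f63961 : Led Lsl_dt (LP (LK LD1_c3 LD2_c30 LD3_c14)) = (LP (LK LD1_c7 LD2_c2 LD3_c11)) :=
  Lre_d IH (LK LD1_c3 LD2_c30 LD3_c14) (LK LD1_c7 LD2_c2 LD3_c11) Lrfl Lrfl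
theorem f789060 : Led Lsl_df v6800 = v20668 :=
  Lgr Lrot18 (Lpe (f658544 IH) (Lpr_dt (f63961 IH) (Lpr_at (f789058 IH) (Lpn v20668))))
theorem f63241 : Led Lsl_dt (LP (LK LD1_c3 LD2_c30 LD3_c15)) = (LP (LK LD1_c7 LD2_c2 LD3_c15)) :=
  Lre_d IH (LK LD1_c3 LD2_c30 LD3_c15) (LK LD1_c7 LD2_c2 LD3_c15) Lrfl Lrfl
theorem f789062 : Led Lsl_ft (LP (LK LD1_c7 LD2_c2 LD3_c15)) = v20668 :=
  Lgr Lrot54 (Lpe (f63241 IH) (Lpr_ff (f658548 IH) (Lpr_df (f789060 IH) (Lpn v20668))))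
theorem f789073 : Led Lsl_af (LP (LK LD1_c7 LD2_c2 LD3_c15)) = v20670 :=
  Lgr Lrot45 (Lpr_ft (f789062 IH) (Lpe (f789059 IH) (Lpr_ft (f789072 IH) (Lpn v20670))))
theorem f789076 : Led Lsl_gt v20666 = (LP (LK LD1_c7 LD2_c2 LD3_c15)) :=
  Lgr Lrot46 (Lpe (f789054 IH) (Lpr_ft (f789072 IH) (Lpe (f789073 IH) (Lpn (LP (LK LD1_c7 LD2_c2 LD3_c15))))))
def v20642 : LQ := Led Lsl_et (LP (LK LD1_c7 LD2_c1 LD3_c42))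
theorem f788689 : Led Lsl_et (LP (LK LD1_c7 LD2_c1 LD3_c42)) = v20642 :=
  Lrfl
theorem f788690 : Led Lsl_ef (LP (LK LD1_c7 LD2_c1 LD3_c42)) = v20642 :=
  Lgr Lrot88 (Lpr_et (f788689 IH) (Lpn v20642))
theorem f789055 : Led Lsl_dt v20642 = v20666 :=
  Lgr Lrot56 (Lpe (f788690 IH) (Lpr_gt (K52.f109956 IH) (Lpe (K4.f63142 IH) (Lpr_dt (K3.f63141 IH) (Lpr_gt (K3.f11312 IH) (Lpe (K2.f11311 IH) (Lpr_et (K3.f63798 IH) (Lpr_gt (K3.f63797 IH) (Lpr_dt (f63961 IH) (Lpr_gt (f789054 IH) (Lpn v20666)))))))))))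
theorem f65329 : Led Lsl_ft (LP (LK LD1_c3 LD2_c51 LD3_c20)) = (LP (LK LD1_c1 LD2_c52 LD3_c29)) :=
  Lre_f IH (LK LD1_c3 LD2_c51 LD3_c20) (LK LD1_c1 LD2_c52 LD3_c29) Lrfl Lrfl
theorem f441058 : Led Lsl_gt (LP (LK LD1_c3 LD2_c51 LD3_c20)) = (LP (LK LD1_c7 LD2_c1 LD3_c42)) :=
  Lgr Lrot5 (Lpr_ft (f65329 IH) (Lpr_at (K52.f115651 IH) (Lpe (K52.f109956 IH) (Lpn (LP (LK LD1_c7 LD2_c1 LD3_c42))))))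
theorem f115623 : Led Lsl_ef (LP (LK LD1_c3 LD2_c51 LD3_c20)) = (LP (LK LD1_c7 LD2_c1 LD3_c30)) :=
  Lgr Lrot28 (Lpr_ct (K4.f65293 IH) (Lpr_et (K4.f115621 IH) (Lpe (K4.f96256 IH) (Lpn (LP (LK LD1_c7 LD2_c1 LD3_c30))))))
theorem f96274 : Led Lsl_dt (LP (LK LD1_c7 LD2_c1 LD3_c30)) = (LP (LK LD1_c13 LD2_c19 LD3_c32)) :=
  Lre_d IH (LK LD1_c7 LD2_c1 LD3_c30) (LK LD1_c13 LD2_c19 LD3_c32) Lrfl Lrfl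
theorem f64007 : Led Lsl_gt (LP (LK LD1_c3 LD2_c51 LD3_c25)) = (LP (LK LD1_c7 LD2_c44 LD3_c18)) :=
  Lre_g IH (LK LD1_c3 LD2_c51 LD3_c25) (LK LD1_c7 LD2_c44 LD3_c18) Lrfl Lrfl
theorem f130650 : Led Lsl_gf (LP (LK LD1_c13 LD2_c19 LD3_c32)) = (LP (LK LD1_c7 LD2_c44 LD3_c18)) :=
  Lgr Lrot76 (Lpr_af (K5.f130633 IH) (Lpe (K5.f65763 IH) (Lpr_gt (f64007 IH) (Lpn (LP (LK LD1_c7 LD2_c44 LD3_c18))))))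
theorem f658551 : Led Lsl_et (LP (LK LD1_c3 LD2_c30 LD3_c15)) = (LP (LK LD1_c7 LD2_c2 LD3_c16)) :=
  Lre_e IH (LK LD1_c3 LD2_c30 LD3_c15) (LK LD1_c7 LD2_c2 LD3_c16) Lrfl Lrfl
theorem f443496 : Led Lsl_gt (LP (LK LD1_c7 LD2_c2 LD3_c16)) = (LP (LK LD1_c13 LD2_c20 LD3_c49)) :=
  Lre_g IH (LK LD1_c7 LD2_c2 LD3_c16) (LK LD1_c13 LD2_c20 LD3_c49) Lrfl Lrfl
theorem f789077 : Led Lsl_df (LP (LK LD1_c7 LD2_c44 LD3_c18)) = (LP (LK LD1_c13 LD2_c20 LD3_c49)) :=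
  Lgr Lrot135 (Lpe (f130650 IH) (Lpe (f96274 IH) (Lpe (f115623 IH) (Lpr_gt (f441058 IH) (Lpr_ef (f788690 IH) (Lpr_dt (f789055 IH) (Lpr_gt (f789076 IH) (Lpe (f63241 IH) (Lpr_et (f658551 IH) (Lpr_gt (f443496 IH) (Lpn (LP (LK LD1_c13 LD2_c20 LD3_c49)))))))))))))
theorem f789078 : Led Lsl_dt (LP (LK LD1_c13 LD2_c20 LD3_c49)) = (LP (LK LD1_c7 LD2_c44 LD3_c18)) :=
  Leop (Lpr_df (f789077 IH) (Lpn (LP (LK LD1_c13 LD2_c20 LD3_c49))))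
theorem seed_1555 : LEOK LG_d (LK LD1_c13 LD2_c20 LD3_c49) :=
  Leoe_d (LK LD1_c13 LD2_c20 LD3_c49) (f789078 IH)
def v20700 : LQ := Led Lsl_et (LP (LK LD1_c7 LD2_c2 LD3_c30))
theorem f789184 : Led Lsl_et (LP (LK LD1_c7 LD2_c2 LD3_c30)) = v20700 :=
  Lrfl
def v20699 : LQ := Led Lsl_dt (LP (LK LD1_c7 LD2_c2 LD3_c30))
theorem f789170 : Led Lsl_dt (LP (LK LD1_c7 LD2_c2 LD3_c30)) = v20699 :=
  Lrfl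
theorem f789177 : Led Lsl_ct (LP (LK LD1_c7 LD2_c30 LD3_c9)) = v20699 :=
  Lgr Lrot7 (Lpr_df (K46.f483841 IH) (Lpe (K33.f107321 IH) (Lpe (K28.f107320 IH) (Lpr_gf (K28.f462420 IH) (Lpe (K24.f16722 IH) (Lpr_gt (K28.f464624 IH) (Lpr_dt (K5.f128067 IH) (Lpr_gt (K28.f109308 IH) (Lpr_dt (f789170 IH) (Lpn v20699))))))))))
theorem f789179 : Led Lsl_at (LP (LK LD1_c7 LD2_c11 LD3_c54)) = v20699 :=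
  Lgr Lrot33 (Lpe (K49.f654662 IH) (Lpr_dt (K28.f463401 IH) (Lpe (K28.f463391 IH) (Lpr_dt (K33.f459481 IH) (Lpr_ct (K33.f463367 IH) (Lpe (K33.f470270 IH) (Lpr_ct (K33.f462721 IH) (Lpe (K46.f483841 IH) (Lpr_ct (f789177 IH) (Lpn v20699))))))))))
def v18911 : LQ := Led Lsl_bt (LP (LK LD1_c6 LD2_c34 LD3_c56))
theorem f776419 : Led Lsl_bt (LP (LK LD1_c6 LD2_c34 LD3_c56)) = v18911 :=
  Lrfl
theorem f776426 : Led Lsl_gt (LP (LK LD1_c6 LD2_c52 LD3_c14)) = v18911 :=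
  Lgr Lrot164 (Lpe (K28.f92006 IH) (Lpr_ct (K28.f15826 IH) (Lpe (K29.f477204 IH) (Lpr_cf (K29.f477197 IH) (Lpe (K29.f87989 IH) (Lpe (K29.f87988 IH) (Lpr_ct (K29.f87984 IH) (Lpr_gf (K29.f477191 IH) (Lpe (K29.f464855 IH) (Lpr_bt (f776419 IH) (Lpn v18911)))))))))))
theorem f789180 : Led Lsl_gt v18911 = v20699 :=
  Lgr Lrot46 (Lpe (f776426 IH) (Lpr_ft (K49.f654662 IH) (Lpr_at (f789179 IH) (Lpn v20699))))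
theorem f522300 : Led Lsl_gf (LP (LK LD1_c6 LD2_c52 LD3_c15)) = (LP (LK LD1_c3 LD2_c39 LD3_c44)) :=
  Lgr Lrot47 (Lpr_gt (K34.f463415 IH) (Lpr_af (K34.f521092 IH) (Lpr_ff (K34.f522188 IH) (Lpn (LP (LK LD1_c3 LD2_c39 LD3_c44))))))
def v2493 : LQ := Led Lsl_dt (LP (LK LD1_c1 LD2_c46 LD3_c46))
theorem f523435 : Led Lsl_dt (LP (LK LD1_c1 LD2_c46 LD3_c46)) = v2493 :=
  Lrfl
def v9171 : LQ := Led Lsl_gf v2493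
theorem f673872 : Led Lsl_gf v2493 = v9171 :=
  Lrfl
def v922 : LQ := Led Lsl_et (LP (LK LD1_c0 LD2_c54 LD3_c14))
def v3543 : LQ := Led Lsl_dt v922
def v10915 : LQ := Led Lsl_ct v3543
theorem f682467 : Led Lsl_ct v3543 = v10915 :=
  Lrfl
theorem f626192 : Led Lsl_dt v922 = v3543 :=
  Lrfl
theorem f490535 : Led Lsl_et (LP (LK LD1_c0 LD2_c54 LD3_c14)) = v922 :=
  Lrfl
theorem f490537 : Led Lsl_ef (LP (LK LD1_c0 LD2_c54 LD3_c14)) = v922 :=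
  Lgr Lrot88 (Lpr_et (f490535 IH) (Lpn v922))
theorem f490538 : Led Lsl_bt K29.v252 = v922 :=
  Lgr Lrot119 (Lpe (K29.f451360 IH) (Lpe (K28.f451287 IH) (Lpr_ef (f490537 IH) (Lpn v922))))
def v1096 : LQ := Led Lsl_dt K29.v252
theorem f491416 : Led Lsl_dt K29.v252 = v1096 :=
  Lrfl
theorem f491417 : Led Lsl_df K29.v252 = v1096 :=
  Lgr Lrot38 (Lpr_dt (f491416 IH) (Lpn v1096))
theorem f626194 : Led Lsl_bf v1096 = v3543 :=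
  Lgr Lrot93 (Lpe (f491417 IH) (Lpr_bt (f490538 IH) (Lpr_dt (f626192 IH) (Lpn v3543))))
def v240 : LQ := Led Lsl_dt (LP (LK LD1_c0 LD2_c24 LD3_c21))
def v1088 : LQ := Led Lsl_gf v240
theorem f491369 : Led Lsl_gf v240 = v1088 :=
  Lrfl
theorem f451293 : Led Lsl_dt (LP (LK LD1_c0 LD2_c24 LD3_c21)) = v240 :=
  Lrfl
theorem f451294 : Led Lsl_df (LP (LK LD1_c0 LD2_c24 LD3_c21)) = v240 :=
  Lgr Lrot38 (Lpr_dt (f451293 IH) (Lpn v240))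
theorem f491372 : Led Lsl_dt K24.v643 = v1088 :=
  Lgr Lrot57 (Lpr_gf (K24.f457681 IH) (Lpe (K24.f12139 IH) (Lpr_gt (K24.f12127 IH) (Lpe (K24.f12131 IH) (Lpq (K24.f458768 IH) (Lpe (K24.f451308 IH) (Lpr_dt (K11.f4475 IH) (Lpe (K24.f11194 IH) (Lpr_df (f451294 IH) (Lpr_gf (f491369 IH) (Lpn v1088)))))))))))
theorem f459352 : Led Lsl_et K24.v643 = K30.v781 :=
  Lgr Lrot69 (Lpe (K24.f457425 IH) (Lpe (K24.f451004 IH) (Lpqs (K28.f457208 IH) (Lpe (K24.f451007 IH) (Lpe (K30.f145423 IH) (Lpr_ff (K30.f459349 IH) (Lpn K30.v781)))))))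
theorem f479168 : Led Lsl_af K30.v312 = K30.v312 :=
  Lgr Lrot45 (Lpe (K30.f479166 IH) (Lpr_at (K30.f479123 IH) (Lpr_ft (f479167 IH) (Lpn K30.v312))))
theorem f491279 : Led Lsl_gf K30.v312 = v1073 :=
  Lgr Lrot76 (Lpr_af (f479168 IH) (Lpe (f479167 IH) (Lpr_gt (f491278 IH) (Lpn v1073))))
theorem f452009 : Led Lsl_af v240 = v240 :=
  Lgr Lrot117 (Lpe (f451294 IH) (Lpr_at (K24.f451282 IH) (Lpqs (K24.f451609 IH) (Lpr_dt (f451293 IH) (Lpn v240)))))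
theorem f451615 : Led Lsl_ff K29.v251 = v240 :=
  Lgr Lrot19 (Lpe (K29.f451359 IH) (Lpq (K28.f451604 IH) (Lpe (K28.f451302 IH) (Lpr_dt (f451293 IH) (Lpn v240)))))
theorem f451616 : Led Lsl_ft K29.v251 = v240 :=
  Lgr Lrot48 (Lpr_ff (f451615 IH) (Lpn v240))
theorem f491370 : Led Lsl_gt K29.v251 = v1088 :=
  Lgr Lrot5 (Lpr_ft (f451616 IH) (Lpe (f452009 IH) (Lpr_gf (f491369 IH) (Lpn v1088))))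
theorem f491374 : Led Lsl_gt K29.v313 = K29.v252 :=
  Lgr Lrot131 (Lpe (K29.f452114 IH) (Lpr_dt (K30.f452112 IH) (Lpr_gf (f491279 IH) (Lpe (f491281 IH) (Lpr_gf (f459353 IH) (Lpe (f459352 IH) (Lpr_dt (f491372 IH) (Lpe (f491370 IH) (Lpe (K29.f451358 IH) (Lpr_et (K29.f451360 IH) (Lpn K29.v252)))))))))))
def v299 : LQ := Led Lsl_dt K11.v95
theorem f451575 : Led Lsl_dt K11.v95 = v299 :=
  Lrfl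
theorem f451576 : Led Lsl_df K11.v95 = v299 :=
  Lgr Lrot38 (Lpr_dt (f451575 IH) (Lpn v299))
theorem f491418 : Led Lsl_gf v299 = v1096 :=
  Lgr Lrot143 (Lpe (f451576 IH) (Lpq (K24.f455958 IH) (Lpe (K24.f450936 IH) (Lpr_df (K24.f450777 IH) (Lpr_gf (K24.f455189 IH) (Lpe (K24.f455190 IH) (Lpe (K24.f455480 IH) (Lpe (K29.f456253 IH) (Lpr_gt (f491374 IH) (Lpr_dt (f491416 IH) (Lpn v1096)))))))))))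
def v1182 : LQ := Led Lsl_ct v299
theorem f493815 : Led Lsl_ct v299 = v1182 :=
  Lrfl
def v1035 : LQ := Led Lsl_gt K24.v188
def v3767 : LQ := Led Lsl_ct v1035
theorem f627194 : Led Lsl_ct v1035 = v3767 :=
  Lrfl
theorem f491114 : Led Lsl_gt K24.v188 = v1035 :=
  Lrfl
theorem f491117 : Led Lsl_dt K35.v1014 = v1035 :=
  Lgr Lrot56 (Lpe (K49.f491011 IH) (Lpe (K30.f479090 IH) (Lpr_ef (K29.f479091 IH) (Lpe (K24.f451494 IH) (Lpe (K24.f447639 IH) (Lpr_df (K2.f4031 IH) (Lpr_et (K24.f447656 IH) (Lpe (K24.f447657 IH) (Lpr_dt (K24.f450985 IH) (Lpr_gt (f491114 IH) (Lpn v1035)))))))))))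
theorem f491006 : Led Lsl_gt K24.v779 = K35.v1014 :=
  Lgr Lrot5 (Lpe (K29.f457202 IH) (Lpr_at (K29.f457252 IH) (Lpr_gf (K35.f491005 IH) (Lpn K35.v1014))))
def v284 : LQ := Led Lsl_ct K24.v89
theorem f451516 : Led Lsl_ct K24.v89 = v284 :=
  Lrfl
theorem f451517 : Led Lsl_cf K24.v89 = v284 :=
  Lgr Lrot11 (Lpr_ct (f451516 IH) (Lpn v284))
def v1149 : LQ := Led Lsl_gt v284
theorem f493398 : Led Lsl_gt v284 = v1149 :=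
  Lrfl
theorem f452076 : Led Lsl_df K11.v97 = K30.v304 :=
  Lgr Lrot78 (Lpe (K11.f447685 IH) (Lpr_dt (K30.f447677 IH) (Lpr_ft (K30.f452075 IH) (Lpn K30.v304))))
theorem f452078 : Led Lsl_at K30.v304 = K30.v304 :=
  Lgr Lrot66 (Lpe (K30.f452075 IH) (Lpr_af (K30.f447681 IH) (Lpr_ff (K30.f452077 IH) (Lpn K30.v304))))
def v301 : LQ := Led Lsl_gt K30.v96
theorem f452066 : Led Lsl_gt K30.v96 = v301 :=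
  Lrfl
theorem f452082 : Led Lsl_gt v301 = K30.v304 :=
  Lgr Lrot46 (Lpe (f452066 IH) (Lpr_ft (K30.f452075 IH) (Lpr_at (f452078 IH) (Lpn K30.v304))))
theorem f455492 : Led Lsl_cf (LP (LK LD1_c0 LD2_c46 LD3_c49)) = K24.v613 :=
  Lgr Lrot11 (Lpr_ct (K24.f455491 IH) (Lpn K24.v613))
def v107 : LQ := Led Lsl_dt K11.v77
theorem f448878 : Led Lsl_dt K11.v77 = v107 :=
  Lrfl
theorem f448879 : Led Lsl_df K11.v77 = v107 :=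
  Lgr Lrot38 (Lpr_dt (f448878 IH) (Lpn v107))
theorem f121463 : Led Lsl_bt (LP (LK LD1_c0 LD2_c24 LD3_c30)) = (LP (LK LD1_c0 LD2_c54 LD3_c17)) :=
  Lre_b IH (LK LD1_c0 LD2_c24 LD3_c30) (LK LD1_c0 LD2_c54 LD3_c17) Lrfl Lrfl
theorem f135049 : Led Lsl_dt (LP (LK LD1_c0 LD2_c20 LD3_c36)) = (LP (LK LD1_c0 LD2_c24 LD3_c30)) :=
  Lgr Lrot79 (Lpe (K2.f21049 IH) (Lpr_df (K5.f135047 IH) (Lpe (f121463 IH) (Lpn (LP (LK LD1_c0 LD2_c24 LD3_c30))))))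
theorem f448882 : Led Lsl_gt K30.v78 = v107 :=
  Lgr Lrot112 (Lpe (K30.f446778 IH) (Lpr_et (K7.f11296 IH) (Lpe (K0.f11281 IH) (Lpe (K3.f11108 IH) (Lpr_dt (K0.f7417 IH) (Lpe (K3.f7423 IH) (Lpe (f135049 IH) (Lpr_gf (K7.f154105 IH) (Lpr_ef (K34.f446772 IH) (Lpr_dt (f448878 IH) (Lpn v107)))))))))))
theorem f452067 : Led Lsl_et v299 = v301 :=
  Lgr Lrot122 (Lpe (f451576 IH) (Lpe (K11.f447676 IH) (Lpr_df (K30.f447678 IH) (Lpe (K30.f447679 IH) (Lpr_gt (f448882 IH) (Lpe (f448879 IH) (Lpe (K11.f446775 IH) (Lpr_df (K30.f446779 IH) (Lpr_et (K30.f447680 IH) (Lpr_gt (f452066 IH) (Lpn v301)))))))))))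
theorem f452068 : Led Lsl_ef v299 = v301 :=
  Lgr Lrot88 (Lpr_et (f452067 IH) (Lpn v301))
theorem f491386 : Led Lsl_df v301 = K29.v1091 :=
  Lgr Lrot70 (Lpe (f452068 IH) (Lpe (f451576 IH) (Lpr_et (K11.f451577 IH) (Lpe (K11.f451579 IH) (Lpr_et (K29.f491384 IH) (Lpn K29.v1091))))))
theorem f493399 : Led Lsl_cf v301 = v1149 :=
  Lgr Lrot99 (Lpr_df (f491386 IH) (Lpe (K29.f491390 IH) (Lpr_gf (K24.f455208 IH) (Lpr_cf (f455492 IH) (Lpqs (K24.f457378 IH) (Lpe (K29.f457377 IH) (Lpr_df (K24.f451515 IH) (Lpe (K24.f451513 IH) (Lpr_ct (f451516 IH) (Lpr_gt (f493398 IH) (Lpn v1149)))))))))))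
def v1152 : LQ := Led Lsl_dt v284
theorem f493412 : Led Lsl_dt v284 = v1152 :=
  Lrfl
theorem f493415 : Led Lsl_cf K24.v285 = v1152 :=
  Lgr Lrot116 (Lpe (K24.f451522 IH) (Lpe (K24.f447651 IH) (Lpe (K2.f4031 IH) (Lpr_ct (K24.f447655 IH) (Lpe (K24.f447654 IH) (Lpe (K24.f447650 IH) (Lpr_dt (K24.f447643 IH) (Lpr_ct (f451516 IH) (Lpr_dt (f493412 IH) (Lpn v1152))))))))))
theorem f493400 : Led Lsl_ct v301 = v1149 :=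
  Lgr Lrot59 (Lpr_cf (f493399 IH) (Lpn v1149))
theorem f493419 : Led Lsl_gt v1149 = v1152 :=
  Lgr Lrot150 (Lpe (f493400 IH) (Lpe (f452066 IH) (Lpe (K30.f447677 IH) (Lpr_gt (K24.f447675 IH) (Lpq (K24.f455962 IH) (Lpe (K29.f451492 IH) (Lpe (K24.f447639 IH) (Lpr_ct (K24.f447655 IH) (Lpr_df (K24.f451522 IH) (Lpr_cf (f493415 IH) (Lpn v1152)))))))))))
theorem f493413 : Led Lsl_df v284 = v1152 :=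
  Lgr Lrot38 (Lpr_dt (f493412 IH) (Lpn v1152))
theorem f493820 : Led Lsl_dt v1149 = v1182 :=
  Lgr Lrot113 (Lpe (f493398 IH) (Lpr_df (f493413 IH) (Lpe (f493419 IH) (Lpe (f493399 IH) (Lpr_gt (f452082 IH) (Lpe (f452076 IH) (Lpe (K11.f447689 IH) (Lpr_dt (f451575 IH) (Lpr_ct (f493815 IH) (Lpn v1182))))))))))
theorem f455494 : Led Lsl_et K24.v141 = K24.v613 :=
  Lgr Lrot87 (Lpr_ef (K24.f455493 IH) (Lpn K24.v613))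
theorem f455495 : Led Lsl_af K24.v613 = K24.v613 :=
  Lgr Lrot50 (Lpe (K24.f455493 IH) (Lpe (K24.f455477 IH) (Lpr_et (f455494 IH) (Lpn K24.v613))))
theorem f491007 : Led Lsl_ff K24.v613 = K35.v1014 :=
  Lgr Lrot52 (Lpe (f455495 IH) (Lpqs (K24.f457378 IH) (Lpe (K29.f457377 IH) (Lpr_gf (K35.f491005 IH) (Lpn K35.v1014)))))
theorem f491116 : Led Lsl_df K35.v1014 = v1035 :=
  Lgr Lrot84 (Lpe (K35.f491008 IH) (Lpe (K24.f455190 IH) (Lpe (K24.f455480 IH) (Lpe (K24.f450779 IH) (Lpr_gf (K24.f5320 IH) (Lpr_cf (K24.f447651 IH) (Lpe (K24.f447657 IH) (Lpr_dt (K24.f450985 IH) (Lpr_gt (f491114 IH) (Lpn v1035))))))))))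
theorem f627195 : Led Lsl_cf v1035 = v3767 :=
  Lgr Lrot11 (Lpr_ct (f627194 IH) (Lpn v3767))
theorem f627196 : Led Lsl_df v3767 = v3767 :=
  Lgr Lrot106 (Lpe (f627195 IH) (Lpe (f491116 IH) (Lpe (K49.f491009 IH) (Lpe (K24.f455187 IH) (Lpr_ct (K24.f455491 IH) (Lpr_af (f455495 IH) (Lpr_ff (f491007 IH) (Lpr_dt (f491117 IH) (Lpr_ct (f627194 IH) (Lpn v3767))))))))))
theorem f627198 : Led Lsl_gt v1182 = v3767 :=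
  Lgr Lrot189 (Lpe (f493820 IH) (Lpe (f493398 IH) (Lpe (f451517 IH) (Lpr_gt (K24.f451510 IH) (Lpr_dt (K24.f457196 IH) (Lpr_gt (f491006 IH) (Lpr_dt (f491117 IH) (Lpr_ct (f627194 IH) (Lpr_df (f627196 IH) (Lpn v3767))))))))))
def v748 : LQ := Led Lsl_dt (LP (LK LD1_c0 LD2_c50 LD3_c7))
def v3360 : LQ := Led Lsl_gf v748
theorem f625304 : Led Lsl_gf v748 = v3360 :=
  Lrfl
theorem f457064 : Led Lsl_dt (LP (LK LD1_c0 LD2_c50 LD3_c7)) = v748 :=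
  Lrfl
theorem f467956 : Led Lsl_ct (LP (LK LD1_c7 LD2_c6 LD3_c47)) = (LP (LK LD1_c13 LD2_c28 LD3_c42)) :=
  Lre_c IH (LK LD1_c7 LD2_c6 LD3_c47) (LK LD1_c13 LD2_c28 LD3_c42) Lrfl Lrfl
theorem f455850 : Led Lsl_ct (LP (LK LD1_c7 LD2_c9 LD3_c40)) = (LP (LK LD1_c3 LD2_c34 LD3_c14)) :=
  Lre_c IH (LK LD1_c7 LD2_c9 LD3_c40) (LK LD1_c3 LD2_c34 LD3_c14) Lrfl Lrfl
theorem f519179 : Led Lsl_at (LP (LK LD1_c13 LD2_c28 LD3_c42)) = (LP (LK LD1_c7 LD2_c9 LD3_c40)) :=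
  Lgr Lrot107 (Lpe (f467956 IH) (Lpr_af (K47.f515374 IH) (Lpe (f455850 IH) (Lpn (LP (LK LD1_c7 LD2_c9 LD3_c40))))))
theorem f518848 : Led Lsl_gt (LP (LK LD1_c13 LD2_c31 LD3_c46)) = (LP (LK LD1_c7 LD2_c9 LD3_c40)) :=
  Lre_g IH (LK LD1_c13 LD2_c31 LD3_c46) (LK LD1_c7 LD2_c9 LD3_c40) Lrfl Lrfl
theorem f519231 : Led Lsl_gt (LP (LK LD1_c7 LD2_c9 LD3_c22)) = (LP (LK LD1_c13 LD2_c31 LD3_c46)) :=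
  Lgr Lrot5 (Lpe (K33.f515379 IH) (Lpr_at (f519179 IH) (Lpe (f518848 IH) (Lpn (LP (LK LD1_c13 LD2_c31 LD3_c46))))))
theorem f482454 : Led Lsl_gt (LP (LK LD1_c7 LD2_c9 LD3_c21)) = (LP (LK LD1_c3 LD2_c34 LD3_c6)) :=
  Lre_g IH (LK LD1_c7 LD2_c9 LD3_c21) (LK LD1_c3 LD2_c34 LD3_c6) Lrfl Lrfl
theorem f514860 : Led Lsl_dt (LP (LK LD1_c7 LD2_c19 LD3_c48)) = (LP (LK LD1_c7 LD2_c9 LD3_c21)) :=
  Lgr Lrot136 (Lpr_et (K48.f514855 IH) (Lpe (K41.f481475 IH) (Lpe (K30.f483074 IH) (Lpr_dt (K30.f481466 IH) (Lpr_gf (K30.f483068 IH) (Lpr_df (K28.f467982 IH) (Lpr_gf (K29.f482449 IH) (Lpe (K33.f482444 IH) (Lpr_dt (K47.f482405 IH) (Lpe (f482454 IH) (Lpn (LP (LK LD1_c7 LD2_c9 LD3_c21)))))))))))))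
theorem f514866 : Led Lsl_df (LP (LK LD1_c7 LD2_c19 LD3_c48)) = (LP (LK LD1_c7 LD2_c9 LD3_c21)) :=
  Lgr Lrot38 (Lpr_dt (f514860 IH) (Lpn (LP (LK LD1_c7 LD2_c9 LD3_c21))))
theorem f514778 : Led Lsl_ct (LP (LK LD1_c3 LD2_c39 LD3_c47)) = (LP (LK LD1_c1 LD2_c46 LD3_c48)) :=
  Lre_c IH (LK LD1_c3 LD2_c39 LD3_c47) (LK LD1_c1 LD2_c46 LD3_c48) Lrfl Lrfl
theorem f511273 : Led Lsl_ct (LP (LK LD1_c13 LD2_c31 LD3_c46)) = (LP (LK LD1_c7 LD2_c8 LD3_c39)) :=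
  Lre_c IH (LK LD1_c13 LD2_c31 LD3_c46) (LK LD1_c7 LD2_c8 LD3_c39) Lrfl Lrfl
theorem f468830 : Led Lsl_ct (LP (LK LD1_c3 LD2_c32 LD3_c44)) = (LP (LK LD1_c7 LD2_c6 LD3_c19)) :=
  Lre_c IH (LK LD1_c3 LD2_c32 LD3_c44) (LK LD1_c7 LD2_c6 LD3_c19) Lrfl Lrfl
theorem f519233 : Led Lsl_gt (LP (LK LD1_c1 LD2_c46 LD3_c48)) = (LP (LK LD1_c3 LD2_c32 LD3_c44)) :=
  Lgr Lrot150 (Lpe (f514778 IH) (Lpe (K48.f514781 IH) (Lpr_df (f514866 IH) (Lpr_gt (f482454 IH) (Lpr_ct (K33.f6085 IH) (Lpr_gt (f519231 IH) (Lpr_ct (f511273 IH) (Lpe (K24.f93155 IH) (Lpe (f468830 IH) (Lpn (LP (LK LD1_c3 LD2_c32 LD3_c44))))))))))))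
theorem f625059 : Led Lsl_ef K34.v2366 = K49.v3309 :=
  Lgr Lrot88 (Lpr_et (K49.f625057 IH) (Lpn K49.v3309))
theorem f625306 : Led Lsl_dt K49.v3309 = v3360 :=
  Lgr Lrot136 (Lpe (f625059 IH) (Lpe (K34.f519297 IH) (Lpe (K33.f128148 IH) (Lpr_dt (K49.f10809 IH) (Lpe (K49.f128134 IH) (Lpe (K49.f128117 IH) (Lpe (f519233 IH) (Lpe (K47.f457058 IH) (Lpr_dt (f457064 IH) (Lpr_gf (f625304 IH) (Lpn v3360)))))))))))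
theorem f625308 : Led Lsl_df K49.v3309 = v3360 :=
  Lgr Lrot38 (Lpr_dt (f625306 IH) (Lpn v3360))
theorem f625058 : Led Lsl_bf K35.v1014 = K49.v3309 :=
  Lgr Lrot96 (Lpe (K49.f491011 IH) (Lpr_bt (K34.f522670 IH) (Lpr_et (K49.f625057 IH) (Lpn K49.v3309))))
theorem f625309 : Led Lsl_bt v1035 = v3360 :=
  Lgr Lrot95 (Lpe (f491117 IH) (Lpr_bf (f625058 IH) (Lpr_df (f625308 IH) (Lpn v3360))))
theorem f457065 : Led Lsl_df (LP (LK LD1_c0 LD2_c50 LD3_c7)) = v748 :=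
  Lgr Lrot38 (Lpr_dt (f457064 IH) (Lpn v748))
theorem f523436 : Led Lsl_bf v748 = v2493 :=
  Lgr Lrot93 (Lpe (f457065 IH) (Lpr_bt (K34.f457057 IH) (Lpr_dt (f523435 IH) (Lpn v2493))))
def v9172 : LQ := Led Lsl_ct v2493
theorem f673873 : Led Lsl_ct v2493 = v9172 :=
  Lrfl
theorem f682471 : Led Lsl_gt v9172 = v10915 :=
  Lgr Lrot65 (Lpe (f673873 IH) (Lpe (f523436 IH) (Lpr_gf (f625304 IH) (Lpe (f625309 IH) (Lpr_ct (f627194 IH) (Lpe (f627198 IH) (Lpe (f493815 IH) (Lpr_gf (f491418 IH) (Lpr_bf (f626194 IH) (Lpr_ct (f682467 IH) (Lpn v10915)))))))))))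
theorem f682469 : Led Lsl_cf v3543 = v10915 :=
  Lgr Lrot11 (Lpr_ct (f682467 IH) (Lpn v10915))
theorem f626195 : Led Lsl_df v922 = v3543 :=
  Lgr Lrot38 (Lpr_dt (f626192 IH) (Lpn v3543))
def v2775 : LQ := Led Lsl_et (LP (LK LD1_c1 LD2_c55 LD3_c1))
theorem f535545 : Led Lsl_et (LP (LK LD1_c1 LD2_c55 LD3_c1)) = v2775 :=
  Lrfl
theorem f535547 : Led Lsl_cf v922 = v2775 :=
  Lgr Lrot39 (Lpe (f490537 IH) (Lpr_ct (K28.f451292 IH) (Lpr_et (f535545 IH) (Lpn v2775))))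
theorem f490536 : Led Lsl_bf K29.v252 = v922 :=
  Lgr Lrot96 (Lpe (K29.f451362 IH) (Lpr_bt (K29.f11244 IH) (Lpr_et (f490535 IH) (Lpn v922))))
theorem f535548 : Led Lsl_ef (LP (LK LD1_c1 LD2_c55 LD3_c1)) = v2775 :=
  Lgr Lrot88 (Lpr_et (f535545 IH) (Lpn v2775))
theorem f535550 : Led Lsl_ct v922 = v2775 :=
  Lgr Lrot15 (Lpe (f490535 IH) (Lpe (K28.f451290 IH) (Lpr_ef (f535548 IH) (Lpn v2775))))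
theorem f660440 : Led Lsl_gf v2775 = K48.v7028 :=
  Lgr Lrot126 (Lpe (f535550 IH) (Lpe (f490536 IH) (Lpr_gt (K29.f491389 IH) (Lpe (K49.f491385 IH) (Lpr_gt (K24.f455192 IH) (Lpr_cf (K49.f491009 IH) (Lpr_bt (K49.f625061 IH) (Lpe (K49.f625056 IH) (Lpr_bf (K60.f519771 IH) (Lpr_ct (K49.f660428 IH) (Lpn K48.v7028)))))))))))
theorem f682473 : Led Lsl_df v9171 = K49.v9107 :=
  Lgr Lrot155 (Lpe (f673872 IH) (Lpr_ct (f673873 IH) (Lpr_gt (f682471 IH) (Lpe (f682469 IH) (Lpe (f626195 IH) (Lpr_cf (f535547 IH) (Lpr_gf (f660440 IH) (Lpe (K49.f660428 IH) (Lpr_gf (K49.f673602 IH) (Lpn K49.v9107))))))))))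
theorem f657900 : Led Lsl_af K49.v2443 = K60.v6703 :=
  Lgr Lrot50 (Lpe (K49.f519772 IH) (Lpr_at (K33.f519762 IH) (Lpq (K33.f519790 IH) (Lpr_et (K60.f657899 IH) (Lpn K60.v6703)))))
theorem f676479 : Led Lsl_ff K60.v6703 = K49.v9528 :=
  Lgr Lrot30 (Lpe (f657900 IH) (Lpr_ft (K49.f673603 IH) (Lpr_at (K49.f676474 IH) (Lpn K49.v9528))))
theorem f676483 : Led Lsl_gf K49.v9107 = K49.v9528 :=
  Lgr Lrot47 (Lpe (K49.f673602 IH) (Lpr_af (f657900 IH) (Lpr_ff (f676479 IH) (Lpn K49.v9528))))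
theorem f676481 : Led Lsl_et (LP (LK LD1_c7 LD2_c54 LD3_c33)) = K49.v9528 :=
  Lgr Lrot69 (Lpe (K33.f520417 IH) (Lpr_ef (K33.f480257 IH) (Lpr_ff (K33.f519765 IH) (Lpq (K33.f519790 IH) (Lpr_ef (K60.f657902 IH) (Lpr_ff (f676479 IH) (Lpn K49.v9528)))))))
theorem f776428 : Led Lsl_dt (LP (LK LD1_c7 LD2_c54 LD3_c33)) = v18911 :=
  Lgr Lrot37 (Lpr_et (f676481 IH) (Lpe (f676483 IH) (Lpe (f682473 IH) (Lpe (f673872 IH) (Lpe (f523435 IH) (Lpr_et (K34.f522297 IH) (Lpe (f522300 IH) (Lpe (K34.f463422 IH) (Lpr_dt (K28.f463441 IH) (Lpr_gt (f776426 IH) (Lpn v18911)))))))))))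
def v6720 : LQ := Led Lsl_dt (LP (LK LD1_c3 LD2_c27 LD3_c46))
theorem f658027 : Led Lsl_dt (LP (LK LD1_c3 LD2_c27 LD3_c46)) = v6720 :=
  Lrfl
theorem f98818 : Led Lsl_et (LP (LK LD1_c1 LD2_c40 LD3_c26)) = (LP (LK LD1_c3 LD2_c27 LD3_c46)) :=
  Lre_e IH (LK LD1_c1 LD2_c40 LD3_c26) (LK LD1_c3 LD2_c27 LD3_c46) Lrfl Lrfl
theorem f658031 : Led Lsl_ef (LP (LK LD1_c6 LD2_c54 LD3_c30)) = v6720 :=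
  Lgr Lrot73 (Lpr_dt (K33.f98819 IH) (Lpe (K28.f98715 IH) (Lpr_dt (K24.f98811 IH) (Lpr_et (f98818 IH) (Lpr_dt (f658027 IH) (Lpn v6720))))))
theorem f658030 : Led Lsl_df (LP (LK LD1_c3 LD2_c27 LD3_c46)) = v6720 :=
  Lgr Lrot38 (Lpr_dt (f658027 IH) (Lpn v6720))
theorem f93141 : Led Lsl_et (LP (LK LD1_c3 LD2_c38 LD3_c21)) = (LP (LK LD1_c7 LD2_c17 LD3_c2)) :=
  Lre_e IH (LK LD1_c3 LD2_c38 LD3_c21) (LK LD1_c7 LD2_c17 LD3_c2) Lrfl Lrfl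
theorem f789190 : Led Lsl_gf (LP (LK LD1_c7 LD2_c17 LD3_c2)) = v20700 :=
  Lgr Lrot141 (Lpe (f93141 IH) (Lpr_dt (K33.f92488 IH) (Lpr_gt (K32.f491732 IH) (Lpr_df (f658030 IH) (Lpe (f658031 IH) (Lpr_gt (K32.f464433 IH) (Lpr_dt (f776428 IH) (Lpr_gt (f789180 IH) (Lpe (f789170 IH) (Lpr_et (f789184 IH) (Lpn v20700)))))))))))
theorem f456529 : Led Lsl_gt (LP (LK LD1_c7 LD2_c23 LD3_c60)) = (LP (LK LD1_c13 LD2_c59 LD3_c43)) :=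
  Lre_g IH (LK LD1_c7 LD2_c23 LD3_c60) (LK LD1_c13 LD2_c59 LD3_c43) Lrfl Lrfl
def v6893 : LQ := Led Lsl_et (LP (LK LD1_c3 LD2_c34 LD3_c2))
theorem f659297 : Led Lsl_et (LP (LK LD1_c3 LD2_c34 LD3_c2)) = v6893 :=
  Lrfl
theorem f659300 : Led Lsl_ef (LP (LK LD1_c3 LD2_c34 LD3_c2)) = v6893 :=
  Lgr Lrot88 (Lpr_et (f659297 IH) (Lpn v6893))
theorem f93143 : Led Lsl_dt (LP (LK LD1_c3 LD2_c34 LD3_c2)) = (LP (LK LD1_c1 LD2_c43 LD3_c42)) :=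
  Lre_d IH (LK LD1_c3 LD2_c34 LD3_c2) (LK LD1_c1 LD2_c43 LD3_c42) Lrfl Lrfl
theorem f659303 : Led Lsl_dt (LP (LK LD1_c7 LD2_c17 LD3_c2)) = v6893 :=
  Lgr Lrot77 (Lpe (f93141 IH) (Lpr_df (K33.f93132 IH) (Lpe (K33.f93142 IH) (Lpe (f93143 IH) (Lpr_ef (f659300 IH) (Lpn v6893))))))
def v6849 : LQ := Led Lsl_dt (LP (LK LD1_c3 LD2_c31 LD3_c60))
theorem f658959 : Led Lsl_dt (LP (LK LD1_c3 LD2_c31 LD3_c60)) = v6849 :=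
  Lrfl
theorem f658962 : Led Lsl_df (LP (LK LD1_c3 LD2_c31 LD3_c60)) = v6849 :=
  Lgr Lrot38 (Lpr_dt (f658959 IH) (Lpn v6849))
theorem f658963 : Led Lsl_ef (LP (LK LD1_c3 LD2_c32 LD3_c0)) = v6849 :=
  Lgr Lrot73 (Lpr_dt (K3.f87529 IH) (Lpr_et (K3.f87550 IH) (Lpr_dt (K2.f84742 IH) (Lpr_et (K5.f84932 IH) (Lpr_dt (f658959 IH) (Lpn v6849))))))
theorem f95869 : Led Lsl_dt (LP (LK LD1_c6 LD2_c30 LD3_c43)) = (LP (LK LD1_c3 LD2_c13 LD3_c31)) :=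
  Lre_d IH (LK LD1_c6 LD2_c30 LD3_c43) (LK LD1_c3 LD2_c13 LD3_c31) Lrfl Lrfl
def v2758 : LQ := Led Lsl_dt (LP (LK LD1_c1 LD2_c54 LD3_c39))
theorem f531784 : Led Lsl_dt (LP (LK LD1_c1 LD2_c54 LD3_c39)) = v2758 :=
  Lrfl
theorem f531786 : Led Lsl_df (LP (LK LD1_c1 LD2_c54 LD3_c39)) = v2758 :=
  Lgr Lrot38 (Lpr_dt (f531784 IH) (Lpn v2758))
theorem f659301 : Led Lsl_gf v2758 = v6893 :=
  Lgr Lrot138 (Lpe (f531786 IH) (Lpe (K34.f471919 IH) (Lpe (f95869 IH) (Lpr_et (K47.f95922 IH) (Lpe (K3.f109127 IH) (Lpr_ef (f658963 IH) (Lpe (f658962 IH) (Lpr_gt (K33.f482594 IH) (Lpe (f93143 IH) (Lpr_et (f659297 IH) (Lpn v6893)))))))))))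
theorem f203878 : Led Lsl_dt (LP (LK LD1_c3 LD2_c42 LD3_c41)) = (LP (LK LD1_c7 LD2_c26 LD3_c0)) :=
  Lre_d IH (LK LD1_c3 LD2_c42 LD3_c41) (LK LD1_c7 LD2_c26 LD3_c0) Lrfl Lrfl
theorem f531854 : Led Lsl_ff (LP (LK LD1_c7 LD2_c20 LD3_c39)) = (LP (LK LD1_c7 LD2_c26 LD3_c0)) :=
  Lgr Lrot19 (Lpr_dt (K34.f203926 IH) (Lpr_ft (K34.f531850 IH) (Lpr_dt (f203878 IH) (Lpn (LP (LK LD1_c7 LD2_c26 LD3_c0))))))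
theorem f493701 : Led Lsl_et (LP (LK LD1_c1 LD2_c47 LD3_c19)) = (LP (LK LD1_c3 LD2_c31 LD3_c32)) :=
  Lgr Lrot87 (Lpr_ef (K34.f493697 IH) (Lpn (LP (LK LD1_c3 LD2_c31 LD3_c32))))
theorem f493703 : Led Lsl_ef (LP (LK LD1_c3 LD2_c40 LD3_c44)) = (LP (LK LD1_c7 LD2_c4 LD3_c46)) :=
  Lgr Lrot28 (Lpr_ct (K34.f4837 IH) (Lpr_et (f493701 IH) (Lpr_ct (K45.f455671 IH) (Lpn (LP (LK LD1_c7 LD2_c4 LD3_c46))))))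
theorem f493709 : Led Lsl_dt (LP (LK LD1_c7 LD2_c4 LD3_c46)) = (LP (LK LD1_c13 LD2_c25 LD3_c16)) :=
  Lre_d IH (LK LD1_c7 LD2_c4 LD3_c46) (LK LD1_c13 LD2_c25 LD3_c16) Lrfl Lrfl
theorem f493710 : Led Lsl_gt (LP (LK LD1_c7 LD2_c26 LD3_c0)) = (LP (LK LD1_c13 LD2_c25 LD3_c16)) :=
  Lgr Lrot139 (Lpe (f203878 IH) (Lpe (K28.f142394 IH) (Lpe (K28.f159519 IH) (Lpr_dt (K6.f120981 IH) (Lpr_gf (K6.f144659 IH) (Lpr_df (K7.f144661 IH) (Lpr_et (K4.f12776 IH) (Lpe (K29.f483472 IH) (Lpr_ef (f493703 IH) (Lpr_dt (f493709 IH) (Lpn (LP (LK LD1_c13 LD2_c25 LD3_c16)))))))))))))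
theorem f532458 : Led Lsl_gt (LP (LK LD1_c13 LD2_c25 LD3_c16)) = (LP (LK LD1_c7 LD2_c26 LD3_c3)) :=
  Lgr Lrot46 (Lpe (f493710 IH) (Lpe (f531854 IH) (Lpr_at (K48.f531867 IH) (Lpn (LP (LK LD1_c7 LD2_c26 LD3_c3))))))
theorem f491439 : Led Lsl_ct (LP (LK LD1_c3 LD2_c31 LD3_c33)) = (LP (LK LD1_c7 LD2_c4 LD3_c48)) :=
  Lre_c IH (LK LD1_c3 LD2_c31 LD3_c33) (LK LD1_c7 LD2_c4 LD3_c48) Lrfl Lrfl
theorem f525920 : Led Lsl_ft (LP (LK LD1_c7 LD2_c4 LD3_c48)) = (LP (LK LD1_c3 LD2_c41 LD3_c58)) :=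
  Lgr Lrot4 (Lpe (f491439 IH) (Lpr_ff (K48.f525916 IH) (Lpe (K34.f483654 IH) (Lpn (LP (LK LD1_c3 LD2_c41 LD3_c58))))))
theorem f525894 : Led Lsl_af (LP (LK LD1_c7 LD2_c4 LD3_c46)) = (LP (LK LD1_c3 LD2_c41 LD3_c58)) :=
  Lgr Lrot0 (Lpr_at (K45.f525892 IH) (Lpn (LP (LK LD1_c3 LD2_c41 LD3_c58))))
theorem f525922 : Led Lsl_gt (LP (LK LD1_c7 LD2_c28 LD3_c20)) = (LP (LK LD1_c7 LD2_c4 LD3_c46)) :=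
  Lgr Lrot46 (Lpr_gf (K29.f491443 IH) (Lpr_ft (f525920 IH) (Lpe (f525894 IH) (Lpn (LP (LK LD1_c7 LD2_c4 LD3_c46))))))
theorem f789191 : Led Lsl_ct (LP (LK LD1_c7 LD2_c28 LD3_c20)) = v20700 :=
  Lgr Lrot8 (Lpr_gt (f525922 IH) (Lpr_dt (f493709 IH) (Lpr_gt (f532458 IH) (Lpr_dt (K34.f203955 IH) (Lpe (K29.f471174 IH) (Lpr_df (f531786 IH) (Lpr_gf (f659301 IH) (Lpe (f659303 IH) (Lpr_gf (f789190 IH) (Lpn v20700))))))))))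
theorem f488701 : Led Lsl_bf (LP (LK LD1_c13 LD2_c21 LD3_c10)) = (LP (LK LD1_c7 LD2_c28 LD3_c20)) :=
  Lgr Lrot24 (Lpr_bt (K34.f488699 IH) (Lpn (LP (LK LD1_c7 LD2_c28 LD3_c20))))
theorem f477100 : Led Lsl_gt (LP (LK LD1_c22 LD2_c37 LD3_c51)) = (LP (LK LD1_c13 LD2_c21 LD3_c10)) :=
  Lre_g IH (LK LD1_c22 LD2_c37 LD3_c51) (LK LD1_c13 LD2_c21 LD3_c10) Lrfl Lrfl
theorem f657153 : Led Lsl_at (LP (LK LD1_c22 LD2_c33 LD3_c46)) = (LP (LK LD1_c13 LD2_c50 LD3_c5)) :=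
  Lgr Lrot107 (Lpr_cf (K47.f657151 IH) (Lpe (K46.f142438 IH) (Lpe (K34.f532650 IH) (Lpn (LP (LK LD1_c13 LD2_c50 LD3_c5))))))
theorem f477814 : Led Lsl_gt (LP (LK LD1_c24 LD2_c27 LD3_c20)) = (LP (LK LD1_c14 LD2_c42 LD3_c11)) :=
  Lre_g IH (LK LD1_c24 LD2_c27 LD3_c20) (LK LD1_c14 LD2_c42 LD3_c11) Lrfl Lrfl
theorem f657195 : Led Lsl_ff (LP (LK LD1_c22 LD2_c33 LD3_c46)) = (LP (LK LD1_c24 LD2_c27 LD3_c20)) :=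
  Lgr Lrot52 (Lpr_at (f657153 IH) (Lpr_gf (K34.f532657 IH) (Lpe (f477814 IH) (Lpn (LP (LK LD1_c24 LD2_c27 LD3_c20))))))
theorem f657201 : Led Lsl_ft (LP (LK LD1_c22 LD2_c33 LD3_c46)) = (LP (LK LD1_c24 LD2_c27 LD3_c20)) :=
  Lgr Lrot48 (Lpr_ff (f657195 IH) (Lpn (LP (LK LD1_c24 LD2_c27 LD3_c20))))
theorem f483775 : Led Lsl_bt (LP (LK LD1_c3 LD2_c44 LD3_c33)) = (LP (LK LD1_c7 LD2_c30 LD3_c6)) :=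
  Lre_b IH (LK LD1_c3 LD2_c44 LD3_c33) (LK LD1_c7 LD2_c30 LD3_c6) Lrfl Lrfl
theorem f483858 : Led Lsl_gt (LP (LK LD1_c7 LD2_c30 LD3_c6)) = (LP (LK LD1_c14 LD2_c10 LD3_c7)) :=
  Lre_g IH (LK LD1_c7 LD2_c30 LD3_c6) (LK LD1_c14 LD2_c10 LD3_c7) Lrfl Lrfl
theorem f483859 : Led Lsl_bt (LP (LK LD1_c23 LD2_c45 LD3_c20)) = (LP (LK LD1_c14 LD2_c10 LD3_c7)) :=
  Lre_b IH (LK LD1_c23 LD2_c45 LD3_c20) (LK LD1_c14 LD2_c10 LD3_c7) Lrfl Lrfl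
theorem f521431 : Led Lsl_ct (LP (LK LD1_c23 LD2_c45 LD3_c20)) = (LP (LK LD1_c24 LD2_c27 LD3_c20)) :=
  Lgr Lrot64 (Lpr_bt (f483859 IH) (Lpe (f483858 IH) (Lpe (f483775 IH) (Lpr_ct (K34.f483761 IH) (Lpr_gf (K34.f483765 IH) (Lpe (K28.f458974 IH) (Lpr_gf (K33.f458943 IH) (Lpe (K34.f459198 IH) (Lpr_ct (K34.f521421 IH) (Lpe (f477814 IH) (Lpn (LP (LK LD1_c24 LD2_c27 LD3_c20)))))))))))))
theorem f521434 : Led Lsl_cf (LP (LK LD1_c23 LD2_c45 LD3_c20)) = (LP (LK LD1_c24 LD2_c27 LD3_c20)) :=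
  Lgr Lrot11 (Lpr_ct (f521431 IH) (Lpn (LP (LK LD1_c24 LD2_c27 LD3_c20))))
theorem f657203 : Led Lsl_ff (LP (LK LD1_c23 LD2_c26 LD3_c53)) = (LP (LK LD1_c23 LD2_c45 LD3_c20)) :=
  Lgr Lrot23 (Lpe (K47.f657151 IH) (Lpr_ft (f657201 IH) (Lpe (f521434 IH) (Lpn (LP (LK LD1_c23 LD2_c45 LD3_c20))))))
theorem f521433 : Led Lsl_bt (LP (LK LD1_c14 LD2_c10 LD3_c7)) = (LP (LK LD1_c23 LD2_c45 LD3_c20)) :=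
  Lre_b IH (LK LD1_c14 LD2_c10 LD3_c7) (LK LD1_c23 LD2_c45 LD3_c20) Lrfl Lrfl
theorem f657207 : Led Lsl_ft (LP (LK LD1_c13 LD2_c56 LD3_c25)) = (LP (LK LD1_c14 LD2_c10 LD3_c7)) :=
  Lgr Lrot75 (Lpr_bf (K46.f655187 IH) (Lpr_ff (f657203 IH) (Lpe (f521433 IH) (Lpn (LP (LK LD1_c14 LD2_c10 LD3_c7))))))
theorem f657215 : Led Lsl_ff (LP (LK LD1_c13 LD2_c56 LD3_c25)) = (LP (LK LD1_c14 LD2_c10 LD3_c7)) :=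
  Lgr Lrot3 (Lpr_ft (f657207 IH) (Lpn (LP (LK LD1_c14 LD2_c10 LD3_c7))))
theorem f657221 : Led Lsl_gf (LP (LK LD1_c22 LD2_c37 LD3_c51)) = (LP (LK LD1_c14 LD2_c10 LD3_c7)) :=
  Lgr Lrot47 (Lpr_gt (f477100 IH) (Lpe (K46.f655183 IH) (Lpr_ff (f657215 IH) (Lpn (LP (LK LD1_c14 LD2_c10 LD3_c7))))))
theorem f483779 : Led Lsl_bt (LP (LK LD1_c1 LD2_c49 LD3_c18)) = (LP (LK LD1_c3 LD2_c44 LD3_c30)) :=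
  Lre_b IH (LK LD1_c1 LD2_c49 LD3_c18) (LK LD1_c3 LD2_c44 LD3_c30) Lrfl Lrfl
theorem f483780 : Led Lsl_bt (LP (LK LD1_c7 LD2_c30 LD3_c6)) = (LP (LK LD1_c3 LD2_c44 LD3_c33)) :=
  Lre_b IH (LK LD1_c7 LD2_c30 LD3_c6) (LK LD1_c3 LD2_c44 LD3_c33) Lrfl Lrfl
theorem f488395 : Led Lsl_ct (LP (LK LD1_c13 LD2_c7 LD3_c1)) = (LP (LK LD1_c7 LD2_c30 LD3_c6)) :=
  Lgr Lrot83 (Lpe (K42.f488386 IH) (Lpr_cf (K35.f488392 IH) (Lpe (f483779 IH) (Lpe (K34.f483761 IH) (Lpe (f483780 IH) (Lpn (LP (LK LD1_c7 LD2_c30 LD3_c6))))))))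
theorem f529123 : Led Lsl_ff (LP (LK LD1_c13 LD2_c25 LD3_c57)) = (LP (LK LD1_c7 LD2_c30 LD3_c6)) :=
  Lgr Lrot23 (Lpe (K47.f477211 IH) (Lpr_ft (K42.f529119 IH) (Lpr_ct (f488395 IH) (Lpn (LP (LK LD1_c7 LD2_c30 LD3_c6))))))
theorem f657223 : Led Lsl_af (LP (LK LD1_c22 LD2_c37 LD3_c51)) = (LP (LK LD1_c13 LD2_c25 LD3_c57)) :=
  Lgr Lrot31 (Lpr_gf (f657221 IH) (Lpe (f483858 IH) (Lpe (f529123 IH) (Lpn (LP (LK LD1_c13 LD2_c25 LD3_c57))))))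
theorem f657233 : Led Lsl_ft (LP (LK LD1_c22 LD2_c37 LD3_c51)) = (LP (LK LD1_c14 LD2_c10 LD3_c2)) :=
  Lgr Lrot101 (Lpr_af (f657223 IH) (Lpr_ff (f529123 IH) (Lpe (K47.f488459 IH) (Lpn (LP (LK LD1_c14 LD2_c10 LD3_c2))))))
theorem f529150 : Led Lsl_at (LP (LK LD1_c7 LD2_c5 LD3_c6)) = (LP (LK LD1_c7 LD2_c4 LD3_c43)) :=
  Lgr Lrot100 (Lpr_af (K42.f529148 IH) (Lpn (LP (LK LD1_c7 LD2_c4 LD3_c43))))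
theorem f529133 : Led Lsl_ff (LP (LK LD1_c7 LD2_c5 LD3_c6)) = (LP (LK LD1_c3 LD2_c44 LD3_c33)) :=
  Lgr Lrot25 (Lpr_bt (K47.f458330 IH) (Lpr_ft (K42.f529129 IH) (Lpr_bt (f483780 IH) (Lpn (LP (LK LD1_c3 LD2_c44 LD3_c33))))))
theorem f529163 : Led Lsl_at (LP (LK LD1_c7 LD2_c5 LD3_c5)) = (LP (LK LD1_c3 LD2_c44 LD3_c33)) :=
  Lgr Lrot66 (Lpr_ff (K42.f529161 IH) (Lpe (f529150 IH) (Lpr_ff (f529133 IH) (Lpn (LP (LK LD1_c3 LD2_c44 LD3_c33))))))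
theorem f529441 : Led Lsl_bf (LP (LK LD1_c22 LD2_c45 LD3_c15)) = (LP (LK LD1_c14 LD2_c10 LD3_c2)) :=
  Lgr Lrot81 (Lpr_at (K47.f479778 IH) (Lpr_bt (K42.f463640 IH) (Lpr_at (f529163 IH) (Lpr_bt (f483775 IH) (Lpr_at (K47.f488472 IH) (Lpn (LP (LK LD1_c14 LD2_c10 LD3_c2))))))))
theorem f657235 : Led Lsl_bf (LP (LK LD1_c22 LD2_c37 LD3_c51)) = (LP (LK LD1_c22 LD2_c43 LD3_c56)) :=
  Lgr Lrot61 (Lpr_ft (f657233 IH) (Lpe (f529441 IH) (Lpr_ft (K47.f529200 IH) (Lpn (LP (LK LD1_c22 LD2_c43 LD3_c56))))))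
theorem f789194 : Led Lsl_ct (LP (LK LD1_c13 LD2_c59 LD3_c43)) = (LP (LK LD1_c13 LD2_c51 LD3_c18)) :=
  Lgr Lrot91 (Lpe (f456529 IH) (Lpe (K34.f456528 IH) (Lpr_ct (K29.f456465 IH) (Lpr_gf (f789190 IH) (Lpe (f789191 IH) (Lpe (f488701 IH) (Lpe (f477100 IH) (Lpr_bf (f657235 IH) (Lpe (K47.f529198 IH) (Lpe (K47.f479772 IH) (Lpn (LP (LK LD1_c13 LD2_c51 LD3_c18)))))))))))))
theorem f789195 : Led Lsl_ct (LP (LK LD1_c13 LD2_c59 LD3_c43)) = (LP (LK LD1_c13 LD2_c51 LD3_c18)) :=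
  Leop (Lpe (f789194 IH) (Lpn (LP (LK LD1_c13 LD2_c59 LD3_c43))))
theorem seed_1556 : LEOK LG_c (LK LD1_c13 LD2_c59 LD3_c43) :=
  Leoe_c (LK LD1_c13 LD2_c59 LD3_c43) (f789195 IH)
def v20701 : LQ := Led Lsl_et (LP (LK LD1_c7 LD2_c2 LD3_c39))
theorem f789222 : Led Lsl_et (LP (LK LD1_c7 LD2_c2 LD3_c39)) = v20701 :=
  Lrfl
def v2691 : LQ := Led Lsl_et (LP (LK LD1_c1 LD2_c52 LD3_c53))
theorem f530432 : Led Lsl_et (LP (LK LD1_c1 LD2_c52 LD3_c53)) = v2691 :=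
  Lrfl
theorem f530433 : Led Lsl_ef (LP (LK LD1_c1 LD2_c52 LD3_c53)) = v2691 :=
  Lgr Lrot88 (Lpr_et (f530432 IH) (Lpn v2691))
def v9444 : LQ := Led Lsl_dt v2691
theorem f675994 : Led Lsl_dt v2691 = v9444 :=
  Lrfl
def v8939 : LQ := Led Lsl_dt K34.v2302
theorem f672853 : Led Lsl_dt K34.v2302 = v8939 :=
  Lrfl
theorem f675998 : Led Lsl_gt v8939 = v9444 :=
  Lgr Lrot139 (Lpe (f672853 IH) (Lpe (K34.f511969 IH) (Lpe (f65022 IH) (Lpr_dt (K1.f18138 IH) (Lpe (K1.f65006 IH) (Lpe (K0.f15088 IH) (Lpr_et (K0.f15622 IH) (Lpe (K34.f17019 IH) (Lpr_ef (f530433 IH) (Lpr_dt (f675994 IH) (Lpn v9444)))))))))))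
theorem f789227 : Led Lsl_gf K48.v6804 = v20701 :=
  Lgr Lrot141 (Lpe (K48.f658577 IH) (Lpr_dt (f672853 IH) (Lpr_gt (f675998 IH) (Lpe (f675994 IH) (Lpe (f530433 IH) (Lpr_gt (K34.f17019 IH) (Lpr_dt (K3.f15451 IH) (Lpr_gt (K46.f17033 IH) (Lpr_df (K46.f655270 IH) (Lpr_et (f789222 IH) (Lpn v20701)))))))))))
theorem f62748 : Led Lsl_ct (LP (LK LD1_c13 LD2_c23 LD3_c36)) = (LP (LK LD1_c7 LD2_c3 LD3_c54)) :=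
  Lre_c IH (LK LD1_c13 LD2_c23 LD3_c36) (LK LD1_c7 LD2_c3 LD3_c54) Lrfl Lrfl
theorem f466723 : Led Lsl_ct (LP (LK LD1_c7 LD2_c35 LD3_c5)) = (LP (LK LD1_c14 LD2_c18 LD3_c3)) :=
  Lre_c IH (LK LD1_c7 LD2_c35 LD3_c5) (LK LD1_c14 LD2_c18 LD3_c3) Lrfl Lrfl
theorem f467745 : Led Lsl_at (LP (LK LD1_c14 LD2_c18 LD3_c3)) = (LP (LK LD1_c7 LD2_c39 LD3_c6)) :=
  Lgr Lrot107 (Lpe (f466723 IH) (Lpr_af (K29.f467741 IH) (Lpe (K34.f459688 IH) (Lpn (LP (LK LD1_c7 LD2_c39 LD3_c6))))))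
theorem f482010 : Led Lsl_ct (LP (LK LD1_c3 LD2_c48 LD3_c57)) = (LP (LK LD1_c7 LD2_c39 LD3_c2)) :=
  Lre_c IH (LK LD1_c3 LD2_c48 LD3_c57) (LK LD1_c7 LD2_c39 LD3_c2) Lrfl Lrfl
theorem f482093 : Led Lsl_ff (LP (LK LD1_c14 LD2_c18 LD3_c3)) = (LP (LK LD1_c7 LD2_c39 LD3_c2)) :=
  Lgr Lrot23 (Lpr_ct (K29.f442355 IH) (Lpr_ft (K33.f482083 IH) (Lpr_ct (f482010 IH) (Lpn (LP (LK LD1_c7 LD2_c39 LD3_c2))))))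
theorem f530053 : Led Lsl_gf (LP (LK LD1_c13 LD2_c23 LD3_c36)) = (LP (LK LD1_c7 LD2_c39 LD3_c2)) :=
  Lgr Lrot47 (Lpr_gt (K34.f530051 IH) (Lpe (f467745 IH) (Lpr_ff (f482093 IH) (Lpn (LP (LK LD1_c7 LD2_c39 LD3_c2))))))
theorem f459792 : Led Lsl_gt (LP (LK LD1_c7 LD2_c39 LD3_c1)) = (LP (LK LD1_c3 LD2_c48 LD3_c57)) :=
  Lre_g IH (LK LD1_c7 LD2_c39 LD3_c1) (LK LD1_c3 LD2_c48 LD3_c57) Lrfl Lrfl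
theorem f789229 : Led Lsl_df (LP (LK LD1_c7 LD2_c39 LD3_c1)) = v20701 :=
  Lgr Lrot155 (Lpr_gt (f459792 IH) (Lpr_ct (f482010 IH) (Lpe (f530053 IH) (Lpr_ct (f62748 IH) (Lpr_dt (K5.f62703 IH) (Lpe (K5.f62702 IH) (Lpr_gf (K48.f514549 IH) (Lpr_cf (K48.f658575 IH) (Lpr_gf (f789227 IH) (Lpn v20701))))))))))
theorem f667696 : Led Lsl_et (LP (LK LD1_c7 LD2_c39 LD3_c1)) = (LP (LK LD1_c14 LD2_c25 LD3_c16)) :=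
  Lre_e IH (LK LD1_c7 LD2_c39 LD3_c1) (LK LD1_c14 LD2_c25 LD3_c16) Lrfl Lrfl
theorem f655281 : Led Lsl_et (LP (LK LD1_c7 LD2_c46 LD3_c55)) = (LP (LK LD1_c3 LD2_c52 LD3_c31)) :=
  Lre_e IH (LK LD1_c7 LD2_c46 LD3_c55) (LK LD1_c3 LD2_c52 LD3_c31) Lrfl Lrfl
theorem f789232 : Led Lsl_dt (LP (LK LD1_c14 LD2_c25 LD3_c16)) = (LP (LK LD1_c7 LD2_c46 LD3_c55)) :=
  Lgr Lrot77 (Lpe (f667696 IH) (Lpr_df (f789229 IH) (Lpe (f789222 IH) (Lpr_df (K46.f656984 IH) (Lpe (f655281 IH) (Lpn (LP (LK LD1_c7 LD2_c46 LD3_c55))))))))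
theorem f789233 : Led Lsl_dt (LP (LK LD1_c14 LD2_c25 LD3_c16)) = (LP (LK LD1_c7 LD2_c46 LD3_c55)) :=
  Leop (Lpe (f789232 IH) (Lpn (LP (LK LD1_c14 LD2_c25 LD3_c16))))
theorem seed_1557 : LEOK LG_d (LK LD1_c14 LD2_c25 LD3_c16) :=
  Leoe_d (LK LD1_c14 LD2_c25 LD3_c16) (f789233 IH)
theorem f789228 : Led Lsl_dt (LP (LK LD1_c7 LD2_c39 LD3_c1)) = v20701 :=
  Lgr Lrot6 (Lpr_gt (f459792 IH) (Lpr_ct (f482010 IH) (Lpe (f530053 IH) (Lpr_ct (f62748 IH) (Lpe (K5.f62751 IH) (Lpe (K5.f62702 IH) (Lpr_gf (K48.f514549 IH) (Lpr_cf (K48.f658575 IH) (Lpr_gf (f789227 IH) (Lpn v20701))))))))))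
theorem f789226 : Led Lsl_gt K48.v6803 = v20701 :=
  Lgr Lrot131 (Lpe (K48.f658568 IH) (Lpr_dt (K29.f476329 IH) (Lpe (K29.f476320 IH) (Lpe (K29.f14878 IH) (Lpe (K28.f14877 IH) (Lpe (K3.f63685 IH) (Lpr_dt (K3.f63686 IH) (Lpe (K46.f16027 IH) (Lpr_df (K46.f655270 IH) (Lpr_et (f789222 IH) (Lpn v20701)))))))))))
theorem f514538 : Led Lsl_dt K33.v1193 = K33.v2308 :=
  Lgr Lrot60 (Lpe (K48.f493884 IH) (Lpe (K48.f491211 IH) (Lpr_ff (K34.f514536 IH) (Lpn K33.v2308))))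
def v6802 : LQ := Led Lsl_et (LP (LK LD1_c3 LD2_c30 LD3_c24))
theorem f658557 : Led Lsl_et (LP (LK LD1_c3 LD2_c30 LD3_c24)) = v6802 :=
  Lrfl
theorem f658559 : Led Lsl_cf (LP (LK LD1_c3 LD2_c30 LD3_c26)) = v6802 :=
  Lgr Lrot39 (Lpr_et (K48.f64273 IH) (Lpr_ct (K29.f18979 IH) (Lpr_et (f658557 IH) (Lpn v6802))))
theorem f658558 : Led Lsl_bf K46.v6637 = v6802 :=
  Lgr Lrot96 (Lpe (K46.f654550 IH) (Lpe (K29.f457647 IH) (Lpr_et (f658557 IH) (Lpn v6802))))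
theorem f12130 : Led Lsl_bt (LP (LK LD1_c1 LD2_c42 LD3_c22)) = (LP (LK LD1_c3 LD2_c31 LD3_c36)) :=
  Lre_b IH (LK LD1_c1 LD2_c42 LD3_c22) (LK LD1_c3 LD2_c31 LD3_c36) Lrfl Lrfl
theorem f514533 : Led Lsl_bf K24.v651 = K33.v2308 :=
  Lgr Lrot96 (Lpe (K29.f455793 IH) (Lpr_bt (f12130 IH) (Lpr_et (K33.f514532 IH) (Lpn K33.v2308))))
theorem f658567 : Led Lsl_ct K33.v2308 = K48.v6803 :=
  Lgr Lrot10 (Lpe (f514533 IH) (Lpr_gt (K24.f458771 IH) (Lpr_ct (f457711 IH) (Lpe (K30.f455711 IH) (Lpe (K29.f456256 IH) (Lpr_bt (f493341 IH) (Lpr_gt (K49.f628740 IH) (Lpqs (K49.f658024 IH) (Lpr_bf (f658558 IH) (Lpe (f658559 IH) (Lpr_gt (K48.f658566 IH) (Lpn K48.v6803))))))))))))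
theorem f665471 : Led Lsl_df K48.v6803 = K48.v7431 :=
  Lgr Lrot84 (Lpe (f658567 IH) (Lpe (f514538 IH) (Lpe (K48.f493888 IH) (Lpe (K48.f459669 IH) (Lpe (K29.f88618 IH) (Lpe (K29.f442359 IH) (Lpr_gt (K48.f485563 IH) (Lpr_dt (K48.f15251 IH) (Lpr_gt (K48.f665470 IH) (Lpn K48.v7431))))))))))
theorem f112216 : Led Lsl_et (LP (LK LD1_c7 LD2_c35 LD3_c31)) = (LP (LK LD1_c3 LD2_c47 LD3_c20)) :=
  Lre_e IH (LK LD1_c7 LD2_c35 LD3_c31) (LK LD1_c3 LD2_c47 LD3_c20) Lrfl Lrfl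
theorem f93498 : Led Lsl_dt (LP (LK LD1_c7 LD2_c35 LD3_c31)) = (LP (LK LD1_c3 LD2_c47 LD3_c19)) :=
  Lre_d IH (LK LD1_c7 LD2_c35 LD3_c31) (LK LD1_c3 LD2_c47 LD3_c19) Lrfl Lrfl
theorem f96690 : Led Lsl_gt (LP (LK LD1_c7 LD2_c35 LD3_c30)) = (LP (LK LD1_c3 LD2_c47 LD3_c19)) :=
  Lre_g IH (LK LD1_c7 LD2_c35 LD3_c30) (LK LD1_c3 LD2_c47 LD3_c19) Lrfl Lrfl
theorem f96694 : Led Lsl_dt (LP (LK LD1_c14 LD2_c18 LD3_c47)) = (LP (LK LD1_c7 LD2_c35 LD3_c30)) :=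
  Lre_d IH (LK LD1_c14 LD2_c18 LD3_c47) (LK LD1_c7 LD2_c35 LD3_c30) Lrfl Lrfl
theorem f117408 : Led Lsl_et (LP (LK LD1_c14 LD2_c18 LD3_c47)) = (LP (LK LD1_c23 LD2_c56 LD3_c44)) :=
  Lre_e IH (LK LD1_c14 LD2_c18 LD3_c47) (LK LD1_c23 LD2_c56 LD3_c44) Lrfl Lrfl
theorem f789254 : Led Lsl_gt (LP (LK LD1_c14 LD2_c25 LD3_c16)) = (LP (LK LD1_c23 LD2_c56 LD3_c44)) :=
  Lgr Lrot131 (Lpe (f667696 IH) (Lpr_dt (f789228 IH) (Lpe (f789226 IH) (Lpr_df (f665471 IH) (Lpe (K48.f665470 IH) (Lpe (f112216 IH) (Lpr_dt (f93498 IH) (Lpe (f96690 IH) (Lpe (f96694 IH) (Lpr_et (f117408 IH) (Lpn (LP (LK LD1_c23 LD2_c56 LD3_c44)))))))))))))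
theorem f789255 : Led Lsl_gt (LP (LK LD1_c14 LD2_c25 LD3_c16)) = (LP (LK LD1_c23 LD2_c56 LD3_c44)) :=
  Leop (Lpe (f789254 IH) (Lpn (LP (LK LD1_c14 LD2_c25 LD3_c16))))
theorem seed_1558 : LEOK LG_g (LK LD1_c14 LD2_c25 LD3_c16) :=
  Leoe_g (LK LD1_c14 LD2_c25 LD3_c16) (f789255 IH)
def v20703 : LQ := Led Lsl_et (LP (LK LD1_c7 LD2_c2 LD3_c42))
theorem f789261 : Led Lsl_et (LP (LK LD1_c7 LD2_c2 LD3_c42)) = v20703 :=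
  Lrfl
theorem f18978 : Led Lsl_ct (LP (LK LD1_c3 LD2_c30 LD3_c23)) = (LP (LK LD1_c7 LD2_c2 LD3_c42)) :=
  Lre_c IH (LK LD1_c3 LD2_c30 LD3_c23) (LK LD1_c7 LD2_c2 LD3_c42) Lrfl Lrfl
theorem f589936 : Led Lsl_et (LP (LK LD1_c7 LD2_c2 LD3_c44)) = (LP (LK LD1_c3 LD2_c30 LD3_c23)) :=
  Lre_e IH (LK LD1_c7 LD2_c2 LD3_c44) (LK LD1_c3 LD2_c30 LD3_c23) Lrfl Lrfl
theorem f789263 : Led Lsl_cf (LP (LK LD1_c7 LD2_c2 LD3_c44)) = v20703 :=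
  Lgr Lrot39 (Lpr_et (f589936 IH) (Lpr_ct (f18978 IH) (Lpr_et (f789261 IH) (Lpn v20703))))
theorem f656813 : Led Lsl_gt (LP (LK LD1_c7 LD2_c2 LD3_c44)) = (LP (LK LD1_c13 LD2_c21 LD3_c43)) :=
  Lre_g IH (LK LD1_c7 LD2_c2 LD3_c44) (LK LD1_c13 LD2_c21 LD3_c43) Lrfl Lrfl
theorem f789262 : Led Lsl_bf v11949 = v20703 :=
  Lgr Lrot96 (Lpe (f686982 IH) (Lpe (K46.f457650 IH) (Lpr_et (f789261 IH) (Lpn v20703))))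
theorem f102545 : Led Lsl_bt (LP (LK LD1_c13 LD2_c6 LD3_c58)) = (LP (LK LD1_c6 LD2_c54 LD3_c9)) :=
  Lre_b IH (LK LD1_c13 LD2_c6 LD3_c58) (LK LD1_c6 LD2_c54 LD3_c9) Lrfl Lrfl
theorem f628363 : Led Lsl_ct (LP (LK LD1_c13 LD2_c6 LD3_c58)) = (LP (LK LD1_c7 LD2_c19 LD3_c25)) :=
  Lgr Lrot111 (Lpr_af (K48.f628359 IH) (Lpe (K47.f529816 IH) (Lpe (K47.f17602 IH) (Lpn (LP (LK LD1_c7 LD2_c19 LD3_c25))))))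
theorem f780353 : Led Lsl_dt (LP (LK LD1_c14 LD2_c31 LD3_c17)) = (LP (LK LD1_c24 LD2_c12 LD3_c61)) :=
  Lre_d IH (LK LD1_c14 LD2_c31 LD3_c17) (LK LD1_c24 LD2_c12 LD3_c61) Lrfl Lrfl
theorem f529790 : Led Lsl_dt (LP (LK LD1_c14 LD2_c26 LD3_c33)) = (LP (LK LD1_c7 LD2_c39 LD3_c49)) :=
  Lre_d IH (LK LD1_c14 LD2_c26 LD3_c33) (LK LD1_c7 LD2_c39 LD3_c49) Lrfl Lrfl
theorem f524690 : Led Lsl_dt (LP (LK LD1_c14 LD2_c26 LD3_c32)) = (LP (LK LD1_c24 LD2_c6 LD3_c45)) :=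
  Lre_d IH (LK LD1_c14 LD2_c26 LD3_c32) (LK LD1_c24 LD2_c6 LD3_c45) Lrfl Lrfl
theorem f529778 : Led Lsl_at (LP (LK LD1_c13 LD2_c32 LD3_c18)) = (LP (LK LD1_c22 LD2_c54 LD3_c4)) :=
  Lre_a IH (LK LD1_c13 LD2_c32 LD3_c18) (LK LD1_c22 LD2_c54 LD3_c4) Lrfl Lrfl
theorem f529779 : Led Lsl_ft (LP (LK LD1_c22 LD2_c48 LD3_c8)) = (LP (LK LD1_c13 LD2_c32 LD3_c18)) :=
  Lgr Lrot2 (Lpe (K47.f481173 IH) (Lpr_gt (K47.f529755 IH) (Lpe (f529778 IH) (Lpn (LP (LK LD1_c13 LD2_c32 LD3_c18))))))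
theorem f17585 : Led Lsl_dt (LP (LK LD1_c22 LD2_c48 LD3_c8)) = (LP (LK LD1_c30 LD2_c43 LD3_c28)) :=
  Lre_d IH (LK LD1_c22 LD2_c48 LD3_c8) (LK LD1_c30 LD2_c43 LD3_c28) Lrfl Lrfl
theorem f529769 : Led Lsl_ct (LP (LK LD1_c14 LD2_c26 LD3_c32)) = (LP (LK LD1_c7 LD2_c39 LD3_c49)) :=
  Lre_c IH (LK LD1_c14 LD2_c26 LD3_c32) (LK LD1_c7 LD2_c39 LD3_c49) Lrfl Lrfl
theorem f524689 : Led Lsl_dt (LP (LK LD1_c24 LD2_c6 LD3_c45)) = (LP (LK LD1_c14 LD2_c26 LD3_c32)) :=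
  Lre_d IH (LK LD1_c24 LD2_c6 LD3_c45) (LK LD1_c14 LD2_c26 LD3_c32) Lrfl Lrfl
theorem f529786 : Led Lsl_ct (LP (LK LD1_c30 LD2_c43 LD3_c28)) = (LP (LK LD1_c24 LD2_c6 LD3_c45)) :=
  Lgr Lrot133 (Lpe (f17585 IH) (Lpr_ft (f529779 IH) (Lpr_at (f529778 IH) (Lpe (K47.f529732 IH) (Lpe (K47.f480663 IH) (Lpe (K47.f529747 IH) (Lpe (K47.f481138 IH) (Lpe (f529769 IH) (Lpe (f524689 IH) (Lpn (LP (LK LD1_c24 LD2_c6 LD3_c45))))))))))))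
theorem f529788 : Led Lsl_cf (LP (LK LD1_c30 LD2_c43 LD3_c28)) = (LP (LK LD1_c24 LD2_c6 LD3_c45)) :=
  Lgr Lrot11 (Lpr_ct (f529786 IH) (Lpn (LP (LK LD1_c24 LD2_c6 LD3_c45))))
theorem f10826 : Led Lsl_dt (LP (LK LD1_c30 LD2_c43 LD3_c28)) = (LP (LK LD1_c22 LD2_c48 LD3_c8)) :=
  Lre_d IH (LK LD1_c30 LD2_c43 LD3_c28) (LK LD1_c22 LD2_c48 LD3_c8) Lrfl Lrfl
theorem f17511 : Led Lsl_bt (LP (LK LD1_c7 LD2_c6 LD3_c40)) = (LP (LK LD1_c13 LD2_c28 LD3_c27)) :=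
  Lre_b IH (LK LD1_c7 LD2_c6 LD3_c40) (LK LD1_c13 LD2_c28 LD3_c27) Lrfl Lrfl
theorem f17512 : Led Lsl_bt (LP (LK LD1_c7 LD2_c19 LD3_c25)) = (LP (LK LD1_c3 LD2_c39 LD3_c37)) :=
  Lre_b IH (LK LD1_c7 LD2_c19 LD3_c25) (LK LD1_c3 LD2_c39 LD3_c37) Lrfl Lrfl
theorem f17513 : Led Lsl_dt (LP (LK LD1_c13 LD2_c28 LD3_c27)) = (LP (LK LD1_c7 LD2_c19 LD3_c25)) :=
  Lgr Lrot79 (Lpe (f17511 IH) (Lpr_df (K33.f17508 IH) (Lpe (f17512 IH) (Lpn (LP (LK LD1_c7 LD2_c19 LD3_c25))))))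
theorem f628367 : Led Lsl_cf (LP (LK LD1_c13 LD2_c6 LD3_c58)) = (LP (LK LD1_c7 LD2_c19 LD3_c25)) :=
  Lgr Lrot102 (Lpr_af (K48.f628359 IH) (Lpe (K48.f529822 IH) (Lpr_dt (f529790 IH) (Lpr_ct (K47.f524682 IH) (Lpr_dt (f524690 IH) (Lpe (f529788 IH) (Lpr_dt (f10826 IH) (Lpr_ct (K47.f10825 IH) (Lpr_dt (f17513 IH) (Lpn (LP (LK LD1_c7 LD2_c19 LD3_c25))))))))))))
theorem f780357 : Led Lsl_gt (LP (LK LD1_c24 LD2_c12 LD3_c61)) = (LP (LK LD1_c23 LD2_c20 LD3_c22)) :=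
  Lgr Lrot9 (Lpe (f780353 IH) (Lpr_gt (K60.f780347 IH) (Lpr_ct (K47.f524687 IH) (Lpe (f745833 IH) (Lpr_ct (f529852 IH) (Lpe (K48.f628365 IH) (Lpr_cf (f628367 IH) (Lpe (K47.f17586 IH) (Lpe (K47.f17587 IH) (Lpn (LP (LK LD1_c23 LD2_c20 LD3_c22))))))))))))
theorem f780383 : Led Lsl_bt (LP (LK LD1_c14 LD2_c31 LD3_c19)) = (LP (LK LD1_c24 LD2_c12 LD3_c61)) :=
  Lre_b IH (LK LD1_c14 LD2_c31 LD3_c19) (LK LD1_c24 LD2_c12 LD3_c61) Lrfl Lrfl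
theorem f789267 : Led Lsl_cf (LP (LK LD1_c13 LD2_c21 LD3_c43)) = (LP (LK LD1_c14 LD2_c31 LD3_c19)) :=
  Lgr Lrot58 (Lpe (f656813 IH) (Lpr_cf (f789263 IH) (Lpe (f789262 IH) (Lpe (f687003 IH) (Lpe (f102545 IH) (Lpr_ct (f628363 IH) (Lpe (K47.f17586 IH) (Lpe (K47.f17587 IH) (Lpe (f780357 IH) (Lpe (f780383 IH) (Lpn (LP (LK LD1_c14 LD2_c31 LD3_c19)))))))))))))
theorem f789268 : Led Lsl_ct (LP (LK LD1_c14 LD2_c31 LD3_c19)) = (LP (LK LD1_c13 LD2_c21 LD3_c43)) :=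
  Leop (Lpr_cf (f789267 IH) (Lpn (LP (LK LD1_c14 LD2_c31 LD3_c19))))
theorem seed_1559 : LEOK LG_c (LK LD1_c14 LD2_c31 LD3_c19) :=
  Leoe_c (LK LD1_c14 LD2_c31 LD3_c19) (f789268 IH)
def v20712 : LQ := Led Lsl_gf (LP (LK LD1_c7 LD2_c3 LD3_c1))
theorem f789332 : Led Lsl_gf (LP (LK LD1_c7 LD2_c3 LD3_c1)) = v20712 :=
  Lrfl
theorem f19070 : Led Lsl_ct (LP (LK LD1_c7 LD2_c3 LD3_c1)) = (LP (LK LD1_c13 LD2_c22 LD3_c20)) :=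
  Lre_c IH (LK LD1_c7 LD2_c3 LD3_c1) (LK LD1_c13 LD2_c22 LD3_c20) Lrfl Lrfl
theorem f460732 : Led Lsl_dt (LP (LK LD1_c7 LD2_c3 LD3_c4)) = (LP (LK LD1_c3 LD2_c30 LD3_c33)) :=
  Lre_d IH (LK LD1_c7 LD2_c3 LD3_c4) (LK LD1_c3 LD2_c30 LD3_c33) Lrfl Lrfl
theorem f656341 : Led Lsl_ft (LP (LK LD1_c13 LD2_c14 LD3_c57)) = (LP (LK LD1_c7 LD2_c3 LD3_c4)) :=
  Lgr Lrot54 (Lpe (K48.f18923 IH) (Lpr_ff (K48.f656335 IH) (Lpe (f460732 IH) (Lpn (LP (LK LD1_c7 LD2_c3 LD3_c4))))))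
theorem f64208 : Led Lsl_ft (LP (LK LD1_c14 LD2_c39 LD3_c46)) = (LP (LK LD1_c7 LD2_c46 LD3_c26)) :=
  Lre_f IH (LK LD1_c14 LD2_c39 LD3_c46) (LK LD1_c7 LD2_c46 LD3_c26) Lrfl Lrfl
theorem f491953 : Led Lsl_et (LP (LK LD1_c7 LD2_c3 LD3_c4)) = (LP (LK LD1_c13 LD2_c22 LD3_c25)) :=
  Lre_e IH (LK LD1_c7 LD2_c3 LD3_c4) (LK LD1_c13 LD2_c22 LD3_c25) Lrfl Lrfl
theorem f491935 : Led Lsl_ft (LP (LK LD1_c13 LD2_c22 LD3_c25)) = (LP (LK LD1_c22 LD2_c39 LD3_c43)) :=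
  Lre_f IH (LK LD1_c13 LD2_c22 LD3_c25) (LK LD1_c22 LD2_c39 LD3_c43) Lrfl Lrfl
theorem f656412 : Led Lsl_ef (LP (LK LD1_c14 LD2_c39 LD3_c46)) = (LP (LK LD1_c22 LD2_c39 LD3_c43)) :=
  Lgr Lrot21 (Lpr_ft (f64208 IH) (Lpe (K48.f64199 IH) (Lpr_ft (f656341 IH) (Lpr_et (f491953 IH) (Lpr_ft (f491935 IH) (Lpn (LP (LK LD1_c22 LD2_c39 LD3_c43))))))))
theorem f656419 : Led Lsl_et (LP (LK LD1_c14 LD2_c39 LD3_c46)) = (LP (LK LD1_c22 LD2_c39 LD3_c43)) :=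
  Lgr Lrot87 (Lpr_ef (f656412 IH) (Lpn (LP (LK LD1_c22 LD2_c39 LD3_c43))))
theorem f656176 : Led Lsl_ct (LP (LK LD1_c24 LD2_c23 LD3_c30)) = (LP (LK LD1_c14 LD2_c39 LD3_c46)) :=
  Lre_c IH (LK LD1_c24 LD2_c23 LD3_c30) (LK LD1_c14 LD2_c39 LD3_c46) Lrfl Lrfl
theorem f656423 : Led Lsl_ct (LP (LK LD1_c22 LD2_c39 LD3_c43)) = (LP (LK LD1_c30 LD2_c38 LD3_c11)) :=
  Lre_c IH (LK LD1_c22 LD2_c39 LD3_c43) (LK LD1_c30 LD2_c38 LD3_c11) Lrfl Lrfl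
theorem f656424 : Led Lsl_ef (LP (LK LD1_c24 LD2_c23 LD3_c30)) = (LP (LK LD1_c30 LD2_c38 LD3_c11)) :=
  Lgr Lrot28 (Lpr_ct (f656176 IH) (Lpr_et (f656419 IH) (Lpr_ct (f656423 IH) (Lpn (LP (LK LD1_c30 LD2_c38 LD3_c11))))))
theorem f64218 : Led Lsl_ft (LP (LK LD1_c24 LD2_c23 LD3_c30)) = (LP (LK LD1_c14 LD2_c39 LD3_c45)) :=
  Lre_f IH (LK LD1_c24 LD2_c23 LD3_c30) (LK LD1_c14 LD2_c39 LD3_c45) Lrfl Lrfl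
theorem f18924 : Led Lsl_ct (LP (LK LD1_c13 LD2_c14 LD3_c57)) = (LP (LK LD1_c22 LD2_c29 LD3_c54)) :=
  Lre_c IH (LK LD1_c13 LD2_c14 LD3_c57) (LK LD1_c22 LD2_c29 LD3_c54) Lrfl Lrfl
theorem f64205 : Led Lsl_ct (LP (LK LD1_c14 LD2_c39 LD3_c45)) = (LP (LK LD1_c7 LD2_c46 LD3_c26)) :=
  Lre_c IH (LK LD1_c14 LD2_c39 LD3_c45) (LK LD1_c7 LD2_c46 LD3_c26) Lrfl Lrfl
theorem f64206 : Led Lsl_et (LP (LK LD1_c22 LD2_c29 LD3_c54)) = (LP (LK LD1_c14 LD2_c39 LD3_c45)) :=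
  Lgr Lrot158 (Lpe (f18924 IH) (Lpr_ef (K48.f64199 IH) (Lpe (f64205 IH) (Lpn (LP (LK LD1_c14 LD2_c39 LD3_c45))))))
theorem f64214 : Led Lsl_ef (LP (LK LD1_c22 LD2_c29 LD3_c54)) = (LP (LK LD1_c14 LD2_c39 LD3_c45)) :=
  Lgr Lrot88 (Lpr_et (f64206 IH) (Lpn (LP (LK LD1_c14 LD2_c39 LD3_c45))))
theorem f656426 : Led Lsl_ft (LP (LK LD1_c22 LD2_c39 LD3_c40)) = (LP (LK LD1_c30 LD2_c38 LD3_c11)) :=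
  Lre_f IH (LK LD1_c22 LD2_c39 LD3_c40) (LK LD1_c30 LD2_c38 LD3_c11) Lrfl Lrfl
theorem f656427 : Led Lsl_et (LP (LK LD1_c13 LD2_c22 LD3_c24)) = (LP (LK LD1_c22 LD2_c39 LD3_c40)) :=
  Lre_e IH (LK LD1_c13 LD2_c22 LD3_c24) (LK LD1_c22 LD2_c39 LD3_c40) Lrfl Lrfl
theorem f656428 : Led Lsl_ft (LP (LK LD1_c22 LD2_c29 LD3_c54)) = (LP (LK LD1_c13 LD2_c22 LD3_c24)) :=
  Lgr Lrot86 (Lpr_ef (f64214 IH) (Lpe (f64218 IH) (Lpr_ef (f656424 IH) (Lpe (f656426 IH) (Lpe (f656427 IH) (Lpn (LP (LK LD1_c13 LD2_c22 LD3_c24))))))))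
theorem f63626 : Led Lsl_dt (LP (LK LD1_c13 LD2_c14 LD3_c59)) = (LP (LK LD1_c6 LD2_c58 LD3_c45)) :=
  Lre_d IH (LK LD1_c13 LD2_c14 LD3_c59) (LK LD1_c6 LD2_c58 LD3_c45) Lrfl Lrfl
theorem f656006 : Led Lsl_ff (LP (LK LD1_c13 LD2_c14 LD3_c59)) = (LP (LK LD1_c7 LD2_c3 LD3_c1)) :=
  Lgr Lrot19 (Lpr_dt (f63626 IH) (Lpr_ft (K48.f656002 IH) (Lpr_dt (K48.f19069 IH) (Lpn (LP (LK LD1_c7 LD2_c3 LD3_c1))))))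
theorem f656016 : Led Lsl_ft (LP (LK LD1_c13 LD2_c14 LD3_c59)) = (LP (LK LD1_c7 LD2_c3 LD3_c1)) :=
  Lgr Lrot48 (Lpr_ff (f656006 IH) (Lpn (LP (LK LD1_c7 LD2_c3 LD3_c1))))
theorem f656018 : Led Lsl_bt (LP (LK LD1_c22 LD2_c29 LD3_c55)) = (LP (LK LD1_c13 LD2_c14 LD3_c59)) :=
  Lre_b IH (LK LD1_c22 LD2_c29 LD3_c55) (LK LD1_c13 LD2_c14 LD3_c59) Lrfl Lrfl
theorem f533158 : Led Lsl_bt (LP (LK LD1_c7 LD2_c3 LD3_c1)) = (LP (LK LD1_c13 LD2_c22 LD3_c17)) :=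
  Lre_b IH (LK LD1_c7 LD2_c3 LD3_c1) (LK LD1_c13 LD2_c22 LD3_c17) Lrfl Lrfl
theorem f656019 : Led Lsl_ff (LP (LK LD1_c22 LD2_c29 LD3_c55)) = (LP (LK LD1_c13 LD2_c22 LD3_c17)) :=
  Lgr Lrot25 (Lpr_bt (f656018 IH) (Lpr_ft (f656016 IH) (Lpr_bt (f533158 IH) (Lpn (LP (LK LD1_c13 LD2_c22 LD3_c17))))))
theorem f489914 : Led Lsl_dt (LP (LK LD1_c22 LD2_c29 LD3_c55)) = (LP (LK LD1_c13 LD2_c14 LD3_c58)) :=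
  Lre_d IH (LK LD1_c22 LD2_c29 LD3_c55) (LK LD1_c13 LD2_c14 LD3_c58) Lrfl Lrfl
theorem f443416 : Led Lsl_dt (LP (LK LD1_c7 LD2_c3 LD3_c0)) = (LP (LK LD1_c13 LD2_c22 LD3_c17)) :=
  Lre_d IH (LK LD1_c7 LD2_c3 LD3_c0) (LK LD1_c13 LD2_c22 LD3_c17) Lrfl Lrfl
theorem f656028 : Led Lsl_ft (LP (LK LD1_c13 LD2_c14 LD3_c58)) = (LP (LK LD1_c7 LD2_c3 LD3_c0)) :=
  Lgr Lrot54 (Lpe (f489914 IH) (Lpr_ff (f656019 IH) (Lpe (f443416 IH) (Lpn (LP (LK LD1_c7 LD2_c3 LD3_c0))))))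
theorem f656030 : Led Lsl_af (LP (LK LD1_c13 LD2_c19 LD3_c1)) = (LP (LK LD1_c7 LD2_c3 LD3_c0)) :=
  Lgr Lrot31 (Lpe (K35.f111181 IH) (Lpe (K35.f533523 IH) (Lpr_ft (f656028 IH) (Lpn (LP (LK LD1_c7 LD2_c3 LD3_c0))))))
theorem f533638 : Led Lsl_cf (LP (LK LD1_c7 LD2_c28 LD3_c13)) = (LP (LK LD1_c13 LD2_c19 LD3_c1)) :=
  Lgr Lrot11 (Lpr_ct (K35.f533636 IH) (Lpn (LP (LK LD1_c13 LD2_c19 LD3_c1))))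
theorem f656034 : Led Lsl_at (LP (LK LD1_c7 LD2_c28 LD3_c13)) = (LP (LK LD1_c7 LD2_c22 LD3_c27)) :=
  Lgr Lrot107 (Lpr_cf (f533638 IH) (Lpr_af (f656030 IH) (Lpe (K34.f464543 IH) (Lpn (LP (LK LD1_c7 LD2_c22 LD3_c27))))))
theorem f471131 : Led Lsl_dt (LP (LK LD1_c14 LD2_c6 LD3_c8)) = (LP (LK LD1_c7 LD2_c28 LD3_c13)) :=
  Lre_d IH (LK LD1_c14 LD2_c6 LD3_c8) (LK LD1_c7 LD2_c28 LD3_c13) Lrfl Lrfl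
theorem f656040 : Led Lsl_af (LP (LK LD1_c14 LD2_c6 LD3_c8)) = (LP (LK LD1_c13 LD2_c56 LD3_c39)) :=
  Lgr Lrot117 (Lpr_dt (f471131 IH) (Lpr_at (f656034 IH) (Lpr_dt (K33.f466136 IH) (Lpn (LP (LK LD1_c13 LD2_c56 LD3_c39))))))
theorem f656042 : Led Lsl_at (LP (LK LD1_c14 LD2_c6 LD3_c8)) = (LP (LK LD1_c13 LD2_c56 LD3_c39)) :=
  Lgr Lrot100 (Lpr_af (f656040 IH) (Lpn (LP (LK LD1_c13 LD2_c56 LD3_c39))))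
theorem f654925 : Led Lsl_ft (LP (LK LD1_c22 LD2_c44 LD3_c3)) = (LP (LK LD1_c14 LD2_c6 LD3_c8)) :=
  Lgr Lrot54 (Lpe (K46.f468270 IH) (Lpr_ff (K46.f654921 IH) (Lpe (f471131 IH) (Lpn (LP (LK LD1_c14 LD2_c6 LD3_c8))))))
theorem f656073 : Led Lsl_ff (LP (LK LD1_c14 LD2_c5 LD3_c41)) = (LP (LK LD1_c13 LD2_c56 LD3_c39)) :=
  Lgr Lrot30 (Lpe (K46.f654937 IH) (Lpr_ft (f654925 IH) (Lpr_at (f656042 IH) (Lpn (LP (LK LD1_c13 LD2_c56 LD3_c39))))))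
theorem f656080 : Led Lsl_gf (LP (LK LD1_c22 LD2_c44 LD3_c3)) = (LP (LK LD1_c14 LD2_c51 LD3_c51)) :=
  Lgr Lrot76 (Lpr_af (K46.f654937 IH) (Lpr_ff (f656073 IH) (Lpr_gt (K33.f481814 IH) (Lpn (LP (LK LD1_c14 LD2_c51 LD3_c51))))))
theorem f466133 : Led Lsl_gt (LP (LK LD1_c23 LD2_c28 LD3_c5)) = (LP (LK LD1_c13 LD2_c56 LD3_c39)) :=
  Lre_g IH (LK LD1_c23 LD2_c28 LD3_c5) (LK LD1_c13 LD2_c56 LD3_c39) Lrfl Lrfl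
theorem f656075 : Led Lsl_gt (LP (LK LD1_c22 LD2_c44 LD3_c3)) = (LP (LK LD1_c23 LD2_c28 LD3_c5)) :=
  Lgr Lrot5 (Lpr_ft (f654925 IH) (Lpr_at (f656042 IH) (Lpe (f466133 IH) (Lpn (LP (LK LD1_c23 LD2_c28 LD3_c5))))))
theorem f469535 : Led Lsl_bt (LP (LK LD1_c7 LD2_c52 LD3_c48)) = (LP (LK LD1_c14 LD2_c51 LD3_c51)) :=
  Lre_b IH (LK LD1_c7 LD2_c52 LD3_c48) (LK LD1_c14 LD2_c51 LD3_c51) Lrfl Lrfl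
theorem f480080 : Led Lsl_bt (LP (LK LD1_c14 LD2_c55 LD3_c20)) = (LP (LK LD1_c7 LD2_c54 LD3_c40)) :=
  Lre_b IH (LK LD1_c14 LD2_c55 LD3_c20) (LK LD1_c7 LD2_c54 LD3_c40) Lrfl Lrfl
theorem f528857 : Led Lsl_ft (LP (LK LD1_c14 LD2_c51 LD3_c51)) = (LP (LK LD1_c14 LD2_c55 LD3_c20)) :=
  Lgr Lrot75 (Lpe (f469535 IH) (Lpr_ff (K35.f528853 IH) (Lpe (f480080 IH) (Lpn (LP (LK LD1_c14 LD2_c55 LD3_c20))))))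
theorem f656082 : Led Lsl_af (LP (LK LD1_c23 LD2_c28 LD3_c5)) = (LP (LK LD1_c14 LD2_c55 LD3_c20)) :=
  Lgr Lrot31 (Lpe (f656075 IH) (Lpr_gf (f656080 IH) (Lpr_ft (f528857 IH) (Lpn (LP (LK LD1_c14 LD2_c55 LD3_c20))))))
theorem f656084 : Led Lsl_at (LP (LK LD1_c23 LD2_c28 LD3_c5)) = (LP (LK LD1_c14 LD2_c55 LD3_c20)) :=
  Lgr Lrot100 (Lpr_af (f656082 IH) (Lpn (LP (LK LD1_c14 LD2_c55 LD3_c20))))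
theorem f480087 : Led Lsl_bt (LP (LK LD1_c7 LD2_c54 LD3_c40)) = (LP (LK LD1_c14 LD2_c55 LD3_c20)) :=
  Lre_b IH (LK LD1_c7 LD2_c54 LD3_c40) (LK LD1_c14 LD2_c55 LD3_c20) Lrfl Lrfl
theorem f460758 : Led Lsl_ct (LP (LK LD1_c13 LD2_c24 LD3_c52)) = (LP (LK LD1_c22 LD2_c43 LD3_c17)) :=
  Lre_c IH (LK LD1_c13 LD2_c24 LD3_c52) (LK LD1_c22 LD2_c43 LD3_c17) Lrfl Lrfl
theorem f209150 : Led Lsl_dt (LP (LK LD1_c3 LD2_c43 LD3_c40)) = (LP (LK LD1_c7 LD2_c27 LD3_c59)) :=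
  Lre_d IH (LK LD1_c3 LD2_c43 LD3_c40) (LK LD1_c7 LD2_c27 LD3_c59) Lrfl Lrfl
theorem f209151 : Led Lsl_ct (LP (LK LD1_c14 LD2_c5 LD3_c43)) = (LP (LK LD1_c7 LD2_c27 LD3_c59)) :=
  Lre_c IH (LK LD1_c14 LD2_c5 LD3_c43) (LK LD1_c7 LD2_c27 LD3_c59) Lrfl Lrfl
theorem f463572 : Led Lsl_gf (LP (LK LD1_c14 LD2_c5 LD3_c43)) = (LP (LK LD1_c22 LD2_c43 LD3_c17)) :=
  Lgr Lrot104 (Lpr_ct (f209151 IH) (Lpe (f209150 IH) (Lpr_cf (K28.f463548 IH) (Lpe (K34.f116051 IH) (Lpe (K24.f130742 IH) (Lpr_gf (K24.f460752 IH) (Lpe (K24.f455647 IH) (Lpr_gt (K33.f458268 IH) (Lpr_ct (f460758 IH) (Lpn (LP (LK LD1_c22 LD2_c43 LD3_c17))))))))))))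
theorem f209152 : Led Lsl_ct (LP (LK LD1_c7 LD2_c27 LD3_c59)) = (LP (LK LD1_c14 LD2_c5 LD3_c43)) :=
  Lre_c IH (LK LD1_c7 LD2_c27 LD3_c59) (LK LD1_c14 LD2_c5 LD3_c43) Lrfl Lrfl
theorem f480089 : Led Lsl_gf (LP (LK LD1_c14 LD2_c55 LD3_c20)) = (LP (LK LD1_c14 LD2_c5 LD3_c41)) :=
  Lgr Lrot124 (Lpe (f480087 IH) (Lpr_ct (K33.f480078 IH) (Lpr_gt (K33.f455627 IH) (Lpe (K32.f458888 IH) (Lpr_bt (K24.f458837 IH) (Lpr_gt (K33.f458268 IH) (Lpr_ct (f460758 IH) (Lpe (f463572 IH) (Lpe (f209152 IH) (Lpr_bt (K46.f480088 IH) (Lpn (LP (LK LD1_c14 LD2_c5 LD3_c41)))))))))))))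
theorem f480091 : Led Lsl_gt (LP (LK LD1_c23 LD2_c39 LD3_c14)) = (LP (LK LD1_c14 LD2_c5 LD3_c41)) :=
  Lre_g IH (LK LD1_c23 LD2_c39 LD3_c14) (LK LD1_c14 LD2_c5 LD3_c41) Lrfl Lrfl
theorem f656099 : Led Lsl_ff (LP (LK LD1_c23 LD2_c28 LD3_c5)) = (LP (LK LD1_c23 LD2_c39 LD3_c14)) :=
  Lgr Lrot52 (Lpr_at (f656084 IH) (Lpr_gf (f480089 IH) (Lpe (f480091 IH) (Lpn (LP (LK LD1_c23 LD2_c39 LD3_c14))))))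
theorem f480098 : Led Lsl_dt (LP (LK LD1_c7 LD2_c54 LD3_c39)) = (LP (LK LD1_c14 LD2_c55 LD3_c20)) :=
  Lre_d IH (LK LD1_c7 LD2_c54 LD3_c39) (LK LD1_c14 LD2_c55 LD3_c20) Lrfl Lrfl
theorem f656088 : Led Lsl_dt (LP (LK LD1_c23 LD2_c28 LD3_c5)) = (LP (LK LD1_c14 LD2_c55 LD3_c19)) :=
  Lgr Lrot44 (Lpr_af (f656082 IH) (Lpe (f480098 IH) (Lpe (K39.f483828 IH) (Lpn (LP (LK LD1_c14 LD2_c55 LD3_c19))))))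
theorem f656105 : Led Lsl_dt (LP (LK LD1_c14 LD2_c29 LD3_c14)) = (LP (LK LD1_c23 LD2_c39 LD3_c14)) :=
  Lgr Lrot60 (Lpr_ff (K39.f529024 IH) (Lpe (f656088 IH) (Lpr_ff (f656099 IH) (Lpn (LP (LK LD1_c23 LD2_c39 LD3_c14))))))
theorem f529018 : Led Lsl_af (LP (LK LD1_c14 LD2_c29 LD3_c14)) = (LP (LK LD1_c7 LD2_c52 LD3_c44)) :=
  Lgr Lrot0 (Lpr_at (K37.f529016 IH) (Lpn (LP (LK LD1_c7 LD2_c52 LD3_c44))))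
theorem f532163 : Led Lsl_gf (LP (LK LD1_c14 LD2_c29 LD3_c14)) = (LP (LK LD1_c13 LD2_c54 LD3_c8)) :=
  Lgr Lrot76 (Lpr_af (f529018 IH) (Lpr_ff (K35.f528863 IH) (Lpr_gt (K39.f532159 IH) (Lpn (LP (LK LD1_c13 LD2_c54 LD3_c8))))))
theorem f485342 : Led Lsl_bf (LP (LK LD1_c14 LD2_c48 LD3_c60)) = (LP (LK LD1_c14 LD2_c29 LD3_c33)) :=
  Lgr Lrot24 (Lpr_bt (K33.f485141 IH) (Lpn (LP (LK LD1_c14 LD2_c29 LD3_c33))))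
theorem f485494 : Led Lsl_et (LP (LK LD1_c14 LD2_c48 LD3_c60)) = (LP (LK LD1_c24 LD2_c35 LD3_c11)) :=
  Lre_e IH (LK LD1_c14 LD2_c48 LD3_c60) (LK LD1_c24 LD2_c35 LD3_c11) Lrfl Lrfl
theorem f655826 : Led Lsl_bf (LP (LK LD1_c22 LD2_c27 LD3_c13)) = (LP (LK LD1_c24 LD2_c35 LD3_c11)) :=
  Lgr Lrot96 (Lpr_et (K46.f655824 IH) (Lpe (f485342 IH) (Lpr_et (f485494 IH) (Lpn (LP (LK LD1_c24 LD2_c35 LD3_c11))))))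
theorem f451940 : Led Lsl_bt (LP (LK LD1_c7 LD2_c54 LD3_c2)) = (LP (LK LD1_c3 LD2_c56 LD3_c11)) :=
  Lre_b IH (LK LD1_c7 LD2_c54 LD3_c2) (LK LD1_c3 LD2_c56 LD3_c11) Lrfl Lrfl
theorem f452046 : Led Lsl_cf (LP (LK LD1_c7 LD2_c54 LD3_c2)) = (LP (LK LD1_c7 LD2_c54 LD3_c2)) :=
  Lgr Lrot97 (Lpr_bt (f451940 IH) (Lpr_ct (K28.f11366 IH) (Lpr_bt (K32.f452029 IH) (Lpr_ct (K32.f11359 IH) (Lpr_bt (K33.f11367 IH) (Lpn (LP (LK LD1_c7 LD2_c54 LD3_c2))))))))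
theorem f452048 : Led Lsl_ct (LP (LK LD1_c7 LD2_c54 LD3_c3)) = (LP (LK LD1_c7 LD2_c54 LD3_c3)) :=
  Lgr Lrot40 (Lpe (K33.f451931 IH) (Lpr_cf (f452046 IH) (Lpr_ff (K37.f451938 IH) (Lpn (LP (LK LD1_c7 LD2_c54 LD3_c3))))))
theorem f485322 : Led Lsl_ct (LP (LK LD1_c24 LD2_c35 LD3_c11)) = (LP (LK LD1_c14 LD2_c49 LD3_c0)) :=
  Lre_c IH (LK LD1_c24 LD2_c35 LD3_c11) (LK LD1_c14 LD2_c49 LD3_c0) Lrfl Lrfl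
theorem f655849 : Led Lsl_gf (LP (LK LD1_c7 LD2_c54 LD3_c3)) = (LP (LK LD1_c14 LD2_c49 LD3_c0)) :=
  Lgr Lrot126 (Lpe (f452048 IH) (Lpr_bt (K33.f451930 IH) (Lpe (K34.f451933 IH) (Lpe (K33.f464628 IH) (Lpr_gt (K28.f98822 IH) (Lpe (K24.f98807 IH) (Lpr_bt (K34.f462804 IH) (Lpr_gt (K46.f462850 IH) (Lpr_bf (f655826 IH) (Lpr_ct (f485322 IH) (Lpn (LP (LK LD1_c14 LD2_c49 LD3_c0)))))))))))))
theorem f485145 : Led Lsl_et (LP (LK LD1_c7 LD2_c51 LD3_c17)) = (LP (LK LD1_c14 LD2_c49 LD3_c0)) :=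
  Lre_e IH (LK LD1_c7 LD2_c51 LD3_c17) (LK LD1_c14 LD2_c49 LD3_c0) Lrfl Lrfl
theorem f485146 : Led Lsl_et (LP (LK LD1_c14 LD2_c29 LD3_c37)) = (LP (LK LD1_c7 LD2_c41 LD3_c21)) :=
  Lre_e IH (LK LD1_c14 LD2_c29 LD3_c37) (LK LD1_c7 LD2_c41 LD3_c21) Lrfl Lrfl
theorem f485147 : Led Lsl_bt (LP (LK LD1_c14 LD2_c49 LD3_c0)) = (LP (LK LD1_c14 LD2_c29 LD3_c37)) :=
  Lgr Lrot119 (Lpe (f485145 IH) (Lpr_bf (K33.f485136 IH) (Lpe (f485146 IH) (Lpn (LP (LK LD1_c14 LD2_c29 LD3_c37))))))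
theorem f485320 : Led Lsl_bf (LP (LK LD1_c14 LD2_c49 LD3_c0)) = (LP (LK LD1_c14 LD2_c29 LD3_c37)) :=
  Lgr Lrot24 (Lpr_bt (f485147 IH) (Lpn (LP (LK LD1_c14 LD2_c29 LD3_c37))))
theorem f441236 : Led Lsl_ct (LP (LK LD1_c14 LD2_c29 LD3_c37)) = (LP (LK LD1_c7 LD2_c41 LD3_c23)) :=
  Lre_c IH (LK LD1_c14 LD2_c29 LD3_c37) (LK LD1_c7 LD2_c41 LD3_c23) Lrfl Lrfl
theorem f655857 : Led Lsl_gt (LP (LK LD1_c14 LD2_c28 LD3_c47)) = (LP (LK LD1_c7 LD2_c41 LD3_c23)) :=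
  Lgr Lrot149 (Lpe (K48.f534135 IH) (Lpe (K39.f532159 IH) (Lpe (K35.f451921 IH) (Lpr_ct (K34.f11345 IH) (Lpr_gf (K35.f451916 IH) (Lpe (K33.f451911 IH) (Lpr_bt (K33.f451922 IH) (Lpr_gf (f655849 IH) (Lpr_bf (f485320 IH) (Lpr_ct (f441236 IH) (Lpn (LP (LK LD1_c7 LD2_c41 LD3_c23)))))))))))))
theorem f441232 : Led Lsl_dt (LP (LK LD1_c7 LD2_c41 LD3_c23)) = (LP (LK LD1_c14 LD2_c29 LD3_c40)) :=
  Lre_d IH (LK LD1_c7 LD2_c41 LD3_c23) (LK LD1_c14 LD2_c29 LD3_c40) Lrfl Lrfl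
theorem f480096 : Led Lsl_dt (LP (LK LD1_c14 LD2_c5 LD3_c41)) = (LP (LK LD1_c7 LD2_c27 LD3_c58)) :=
  Lre_d IH (LK LD1_c14 LD2_c5 LD3_c41) (LK LD1_c7 LD2_c27 LD3_c58) Lrfl Lrfl
theorem f489899 : Led Lsl_cf (LP (LK LD1_c7 LD2_c27 LD3_c58)) = (LP (LK LD1_c13 LD2_c14 LD3_c58)) :=
  Lgr Lrot97 (Lpr_bt (K35.f209156 IH) (Lpr_ct (K35.f463567 IH) (Lpe (K28.f460861 IH) (Lpr_ct (K28.f460852 IH) (Lpr_bt (K39.f460855 IH) (Lpn (LP (LK LD1_c13 LD2_c14 LD3_c58))))))))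
theorem f656125 : Led Lsl_gt (LP (LK LD1_c14 LD2_c29 LD3_c40)) = (LP (LK LD1_c22 LD2_c29 LD3_c55)) :=
  Lgr Lrot49 (Lpe (f441232 IH) (Lpe (f655857 IH) (Lpe (K48.f534135 IH) (Lpe (f532163 IH) (Lpr_dt (f656105 IH) (Lpr_gt (f480091 IH) (Lpr_dt (f480096 IH) (Lpr_cf (f489899 IH) (Lpe (f489914 IH) (Lpn (LP (LK LD1_c22 LD2_c29 LD3_c55))))))))))))
theorem f441242 : Led Lsl_bt (LP (LK LD1_c24 LD2_c10 LD3_c41)) = (LP (LK LD1_c14 LD2_c29 LD3_c40)) :=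
  Lre_b IH (LK LD1_c24 LD2_c10 LD3_c41) (LK LD1_c14 LD2_c29 LD3_c40) Lrfl Lrfl
theorem f460901 : Led Lsl_ct (LP (LK LD1_c13 LD2_c23 LD3_c46)) = (LP (LK LD1_c22 LD2_c41 LD3_c38)) :=
  Lre_c IH (LK LD1_c13 LD2_c23 LD3_c46) (LK LD1_c22 LD2_c41 LD3_c38) Lrfl Lrfl
theorem f460867 : Led Lsl_bt (LP (LK LD1_c13 LD2_c14 LD3_c59)) = (LP (LK LD1_c22 LD2_c29 LD3_c55)) :=
  Lre_b IH (LK LD1_c13 LD2_c14 LD3_c59) (LK LD1_c22 LD2_c29 LD3_c55) Lrfl Lrfl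
theorem f19137 : Led Lsl_ct (LP (LK LD1_c13 LD2_c14 LD3_c59)) = (LP (LK LD1_c22 LD2_c29 LD3_c56)) :=
  Lre_c IH (LK LD1_c13 LD2_c14 LD3_c59) (LK LD1_c22 LD2_c29 LD3_c56) Lrfl Lrfl
theorem f656133 : Led Lsl_gf (LP (LK LD1_c22 LD2_c41 LD3_c38)) = (LP (LK LD1_c22 LD2_c29 LD3_c56)) :=
  Lgr Lrot126 (Lpe (f460901 IH) (Lpr_bt (K48.f516569 IH) (Lpe (K46.f516233 IH) (Lpr_ct (K46.f130733 IH) (Lpr_gt (K46.f460881 IH) (Lpr_cf (K46.f655840 IH) (Lpr_bt (f441242 IH) (Lpr_gt (f656125 IH) (Lpe (f460867 IH) (Lpr_ct (f19137 IH) (Lpn (LP (LK LD1_c22 LD2_c29 LD3_c56)))))))))))))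
theorem f512466 : Led Lsl_gt (LP (LK LD1_c7 LD2_c4 LD3_c1)) = (LP (LK LD1_c13 LD2_c23 LD3_c46)) :=
  Lgr Lrot5 (Lpe (K33.f512351 IH) (Lpr_at (K33.f512450 IH) (Lpe (K48.f129726 IH) (Lpn (LP (LK LD1_c13 LD2_c23 LD3_c46))))))
theorem f63874 : Led Lsl_ct (LP (LK LD1_c22 LD2_c29 LD3_c54)) = (LP (LK LD1_c13 LD2_c14 LD3_c57)) :=
  Lre_c IH (LK LD1_c22 LD2_c29 LD3_c54) (LK LD1_c13 LD2_c14 LD3_c57) Lrfl Lrfl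
theorem f512468 : Led Lsl_gf (LP (LK LD1_c22 LD2_c29 LD3_c54)) = (LP (LK LD1_c22 LD2_c41 LD3_c38)) :=
  Lgr Lrot104 (Lpr_ct (f63874 IH) (Lpe (K48.f18923 IH) (Lpe (K28.f458443 IH) (Lpr_gf (K43.f464559 IH) (Lpe (K28.f130700 IH) (Lpr_gf (K28.f461822 IH) (Lpe (K33.f461826 IH) (Lpr_gt (f512466 IH) (Lpr_ct (f460901 IH) (Lpn (LP (LK LD1_c22 LD2_c41 LD3_c38))))))))))))
theorem f460740 : Led Lsl_ct (LP (LK LD1_c13 LD2_c22 LD3_c20)) = (LP (LK LD1_c7 LD2_c3 LD3_c1)) :=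
  Lre_c IH (LK LD1_c13 LD2_c22 LD3_c20) (LK LD1_c7 LD2_c3 LD3_c1) Lrfl Lrfl
theorem f656011 : Led Lsl_ft (LP (LK LD1_c22 LD2_c29 LD3_c56)) = (LP (LK LD1_c13 LD2_c22 LD3_c20)) :=
  Lgr Lrot4 (Lpe (f19137 IH) (Lpr_ff (f656006 IH) (Lpe (f460740 IH) (Lpn (LP (LK LD1_c13 LD2_c22 LD3_c20))))))
theorem f656143 : Led Lsl_af (LP (LK LD1_c22 LD2_c29 LD3_c54)) = (LP (LK LD1_c13 LD2_c22 LD3_c20)) :=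
  Lgr Lrot31 (Lpr_gf (f512468 IH) (Lpr_gf (f656133 IH) (Lpr_ft (f656011 IH) (Lpn (LP (LK LD1_c13 LD2_c22 LD3_c20))))))
theorem f656430 : Led Lsl_af (LP (LK LD1_c22 LD2_c29 LD3_c56)) = (LP (LK LD1_c13 LD2_c22 LD3_c24)) :=
  Lgr Lrot45 (Lpr_ft (f656011 IH) (Lpe (f656143 IH) (Lpr_ft (f656428 IH) (Lpn (LP (LK LD1_c13 LD2_c22 LD3_c24))))))
theorem f656438 : Led Lsl_at (LP (LK LD1_c22 LD2_c29 LD3_c56)) = (LP (LK LD1_c13 LD2_c22 LD3_c24)) :=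
  Lgr Lrot100 (Lpr_af (f656430 IH) (Lpn (LP (LK LD1_c13 LD2_c22 LD3_c24))))
theorem f460854 : Led Lsl_ct (LP (LK LD1_c22 LD2_c29 LD3_c56)) = (LP (LK LD1_c13 LD2_c14 LD3_c59)) :=
  Lre_c IH (LK LD1_c22 LD2_c29 LD3_c56) (LK LD1_c13 LD2_c14 LD3_c59) Lrfl Lrfl
theorem f656021 : Led Lsl_ff (LP (LK LD1_c22 LD2_c29 LD3_c56)) = (LP (LK LD1_c13 LD2_c22 LD3_c20)) :=
  Lgr Lrot23 (Lpr_ct (f460854 IH) (Lpr_ft (f656016 IH) (Lpr_ct (f19070 IH) (Lpn (LP (LK LD1_c13 LD2_c22 LD3_c20))))))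
theorem f89666 : Led Lsl_dt (LP (LK LD1_c3 LD2_c48 LD3_c51)) = (LP (LK LD1_c7 LD2_c38 LD3_c52)) :=
  Lre_d IH (LK LD1_c3 LD2_c48 LD3_c51) (LK LD1_c7 LD2_c38 LD3_c52) Lrfl Lrfl
theorem f460127 : Led Lsl_gf (LP (LK LD1_c7 LD2_c38 LD3_c52)) = (LP (LK LD1_c13 LD2_c15 LD3_c1)) :=
  Lgr Lrot134 (Lpe (f89666 IH) (Lpr_et (K48.f89665 IH) (Lpr_gt (K33.f89664 IH) (Lpe (K5.f62757 IH) (Lpr_dt (K1.f17460 IH) (Lpr_gt (K2.f17456 IH) (Lpe (K2.f89297 IH) (Lpr_et (K4.f17938 IH) (Lpr_gt (K24.f460122 IH) (Lpr_dt (K33.f63059 IH) (Lpn (LP (LK LD1_c13 LD2_c15 LD3_c1)))))))))))))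
theorem f460747 : Led Lsl_ct (LP (LK LD1_c7 LD2_c38 LD3_c52)) = (LP (LK LD1_c14 LD2_c24 LD3_c55)) :=
  Lre_c IH (LK LD1_c7 LD2_c38 LD3_c52) (LK LD1_c14 LD2_c24 LD3_c55) Lrfl Lrfl
theorem f460733 : Led Lsl_ct (LP (LK LD1_c13 LD2_c22 LD3_c24)) = (LP (LK LD1_c7 LD2_c3 LD3_c4)) :=
  Lre_c IH (LK LD1_c13 LD2_c22 LD3_c24) (LK LD1_c7 LD2_c3 LD3_c4) Lrfl Lrfl
theorem f460748 : Led Lsl_gt (LP (LK LD1_c14 LD2_c24 LD3_c55)) = (LP (LK LD1_c13 LD2_c22 LD3_c24)) :=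
  Lgr Lrot150 (Lpe (f460747 IH) (Lpr_gf (f460127 IH) (Lpe (K33.f63059 IH) (Lpe (K24.f460120 IH) (Lpr_ct (K24.f130724 IH) (Lpe (K24.f130705 IH) (Lpr_ct (K24.f460730 IH) (Lpe (f460732 IH) (Lpe (f460733 IH) (Lpn (LP (LK LD1_c13 LD2_c22 LD3_c24))))))))))))
theorem f656455 : Led Lsl_gt (LP (LK LD1_c13 LD2_c22 LD3_c20)) = (LP (LK LD1_c14 LD2_c24 LD3_c55)) :=
  Lgr Lrot5 (Lpe (f656021 IH) (Lpr_at (f656438 IH) (Lpe (f460748 IH) (Lpn (LP (LK LD1_c14 LD2_c24 LD3_c55))))))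
theorem f460832 : Led Lsl_ct (LP (LK LD1_c14 LD2_c24 LD3_c55)) = (LP (LK LD1_c7 LD2_c38 LD3_c52)) :=
  Lre_c IH (LK LD1_c14 LD2_c24 LD3_c55) (LK LD1_c7 LD2_c38 LD3_c52) Lrfl Lrfl
theorem f789336 : Led Lsl_df K48.v7199 = v20712 :=
  Lgr Lrot155 (Lpe (K48.f662246 IH) (Lpr_ct (K34.f465243 IH) (Lpe (K48.f662250 IH) (Lpr_ct (K48.f484749 IH) (Lpr_dt (f89666 IH) (Lpe (f460832 IH) (Lpe (f656455 IH) (Lpe (f19070 IH) (Lpr_gf (f789332 IH) (Lpn v20712))))))))))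
theorem f63875 : Led Lsl_dt (LP (LK LD1_c7 LD2_c46 LD3_c49)) = (LP (LK LD1_c3 LD2_c52 LD3_c28)) :=
  Lre_d IH (LK LD1_c7 LD2_c46 LD3_c49) (LK LD1_c3 LD2_c52 LD3_c28) Lrfl Lrfl
theorem f534956 : Led Lsl_et (LP (LK LD1_c7 LD2_c46 LD3_c49)) = (LP (LK LD1_c14 LD2_c40 LD3_c40)) :=
  Lre_e IH (LK LD1_c7 LD2_c46 LD3_c49) (LK LD1_c14 LD2_c40 LD3_c40) Lrfl Lrfl
theorem f443287 : Led Lsl_gt (LP (LK LD1_c14 LD2_c40 LD3_c40)) = (LP (LK LD1_c24 LD2_c24 LD3_c54)) :=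
  Lre_g IH (LK LD1_c14 LD2_c40 LD3_c40) (LK LD1_c24 LD2_c24 LD3_c54) Lrfl Lrfl
theorem f534994 : Led Lsl_et (LP (LK LD1_c31 LD2_c30 LD3_c42)) = (LP (LK LD1_c24 LD2_c24 LD3_c54)) :=
  Lre_e IH (LK LD1_c31 LD2_c30 LD3_c42) (LK LD1_c24 LD2_c24 LD3_c54) Lrfl Lrfl
theorem f656153 : Led Lsl_at (LP (LK LD1_c13 LD2_c14 LD3_c57)) = (LP (LK LD1_c7 LD2_c3 LD3_c1)) :=
  Lgr Lrot107 (Lpe (f63874 IH) (Lpr_af (f656143 IH) (Lpe (f19070 IH) (Lpn (LP (LK LD1_c7 LD2_c3 LD3_c1))))))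
theorem f18939 : Led Lsl_dt (LP (LK LD1_c3 LD2_c30 LD3_c33)) = (LP (LK LD1_c7 LD2_c3 LD3_c4)) :=
  Lre_d IH (LK LD1_c3 LD2_c30 LD3_c33) (LK LD1_c7 LD2_c3 LD3_c4) Lrfl Lrfl
theorem f656331 : Led Lsl_ff (LP (LK LD1_c13 LD2_c14 LD3_c57)) = (LP (LK LD1_c7 LD2_c3 LD3_c4)) :=
  Lgr Lrot19 (Lpr_dt (K48.f63625 IH) (Lpr_ft (K48.f656327 IH) (Lpr_dt (f18939 IH) (Lpn (LP (LK LD1_c7 LD2_c3 LD3_c4))))))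
theorem f789333 : Led Lsl_gt (LP (LK LD1_c7 LD2_c3 LD3_c4)) = v20712 :=
  Lgr Lrot5 (Lpe (f656331 IH) (Lpr_at (f656153 IH) (Lpr_gf (f789332 IH) (Lpn v20712))))
theorem f491928 : Led Lsl_et (LP (LK LD1_c13 LD2_c22 LD3_c25)) = (LP (LK LD1_c7 LD2_c3 LD3_c4)) :=
  Lre_e IH (LK LD1_c13 LD2_c22 LD3_c25) (LK LD1_c7 LD2_c3 LD3_c4) Lrfl Lrfl
theorem f491927 : Led Lsl_et (LP (LK LD1_c7 LD2_c53 LD3_c0)) = (LP (LK LD1_c14 LD2_c52 LD3_c20)) :=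
  Lre_e IH (LK LD1_c7 LD2_c53 LD3_c0) (LK LD1_c14 LD2_c52 LD3_c20) Lrfl Lrfl
theorem f491929 : Led Lsl_dt (LP (LK LD1_c14 LD2_c52 LD3_c20)) = (LP (LK LD1_c13 LD2_c22 LD3_c25)) :=
  Lgr Lrot77 (Lpe (f491927 IH) (Lpr_df (K48.f491919 IH) (Lpe (K48.f460746 IH) (Lpe (f460732 IH) (Lpe (f491928 IH) (Lpn (LP (LK LD1_c13 LD2_c22 LD3_c25))))))))
theorem f491933 : Led Lsl_df (LP (LK LD1_c14 LD2_c52 LD3_c20)) = (LP (LK LD1_c13 LD2_c22 LD3_c25)) :=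
  Lgr Lrot38 (Lpr_dt (f491929 IH) (Lpn (LP (LK LD1_c13 LD2_c22 LD3_c25))))
theorem f491936 : Led Lsl_gt (LP (LK LD1_c24 LD2_c38 LD3_c59)) = (LP (LK LD1_c14 LD2_c52 LD3_c20)) :=
  Lre_g IH (LK LD1_c24 LD2_c38 LD3_c59) (LK LD1_c14 LD2_c52 LD3_c20) Lrfl Lrfl
theorem f789339 : Led Lsl_dt (LP (LK LD1_c31 LD2_c30 LD3_c42)) = (LP (LK LD1_c24 LD2_c38 LD3_c59)) :=
  Lgr Lrot136 (Lpr_et (f534994 IH) (Lpe (f443287 IH) (Lpe (f534956 IH) (Lpr_dt (f63875 IH) (Lpr_gf (K48.f662246 IH) (Lpr_df (f789336 IH) (Lpe (f789333 IH) (Lpe (f491928 IH) (Lpe (f491933 IH) (Lpe (f491936 IH) (Lpn (LP (LK LD1_c24 LD2_c38 LD3_c59)))))))))))))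
theorem f789340 : Led Lsl_dt (LP (LK LD1_c31 LD2_c30 LD3_c42)) = (LP (LK LD1_c24 LD2_c38 LD3_c59)) :=
  Leop (Lpe (f789339 IH) (Lpn (LP (LK LD1_c31 LD2_c30 LD3_c42))))
theorem seed_1560 : LEOK LG_d (LK LD1_c31 LD2_c30 LD3_c42) :=
  Leoe_d (LK LD1_c31 LD2_c30 LD3_c42) (f789340 IH)
def v20714 : LQ := Led Lsl_et (LP (LK LD1_c7 LD2_c3 LD3_c9))
theorem f789352 : Led Lsl_et (LP (LK LD1_c7 LD2_c3 LD3_c9)) = v20714 :=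
  Lrfl
theorem f512288 : Led Lsl_gt (LP (LK LD1_c1 LD2_c48 LD3_c58)) = (LP (LK LD1_c3 LD2_c30 LD3_c36)) :=
  Lgr Lrot49 (Lpe (K28.f124909 IH) (Lpe (K28.f464230 IH) (Lpe (K29.f457796 IH) (Lpr_gt (K28.f15695 IH) (Lpr_dt (K2.f15679 IH) (Lpr_gt (K28.f15460 IH) (Lpr_dt (K33.f15461 IH) (Lpr_cf (K33.f512278 IH) (Lpe (K33.f468338 IH) (Lpn (LP (LK LD1_c3 LD2_c30 LD3_c36))))))))))))
theorem f789360 : Led Lsl_gf K60.v7307 = v20714 :=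
  Lgr Lrot141 (Lpe (K60.f664443 IH) (Lpr_dt (K32.f85213 IH) (Lpe (K32.f464235 IH) (Lpe (K29.f62984 IH) (Lpr_et (K32.f62999 IH) (Lpr_gt (K28.f464230 IH) (Lpr_dt (K28.f124909 IH) (Lpr_gt (f512288 IH) (Lpe (K33.f468344 IH) (Lpr_et (f789352 IH) (Lpn v20714)))))))))))
theorem f785504 : Led Lsl_cf K60.v7307 = K60.v20200 :=
  Lgr Lrot39 (Lpe (f664446 IH) (Lpe (K29.f484116 IH) (Lpr_et (K60.f785502 IH) (Lpn K60.v20200))))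
def v7700 : LQ := Led Lsl_at (LP (LK LD1_c3 LD2_c55 LD3_c30))
theorem f667832 : Led Lsl_at (LP (LK LD1_c3 LD2_c55 LD3_c30)) = v7700 :=
  Lrfl
theorem f667836 : Led Lsl_ef (LP (LK LD1_c13 LD2_c23 LD3_c43)) = v7700 :=
  Lgr Lrot20 (Lpr_at (K48.f664543 IH) (Lpr_et (K48.f477035 IH) (Lpr_at (f667832 IH) (Lpn v7700))))
theorem f667837 : Led Lsl_dt K60.v7307 = v7700 :=
  Lgr Lrot77 (Lpe (K60.f664443 IH) (Lpe (K47.f85214 IH) (Lpr_ef (K48.f526758 IH) (Lpe (K48.f526762 IH) (Lpr_ef (f667836 IH) (Lpn v7700))))))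
def v2648 : LQ := Led Lsl_dt (LP (LK LD1_c1 LD2_c50 LD3_c41))
theorem f530074 : Led Lsl_dt (LP (LK LD1_c1 LD2_c50 LD3_c41)) = v2648 :=
  Lrfl
theorem f667840 : Led Lsl_gf v2648 = v7700 :=
  Lgr Lrot145 (Lpe (f530074 IH) (Lpr_et (K3.f11966 IH) (Lpe (K5.f107295 IH) (Lpr_dt (K5.f95912 IH) (Lpr_gt (K5.f107276 IH) (Lpe (K2.f5799 IH) (Lpr_et (K2.f85199 IH) (Lpr_gt (K29.f85212 IH) (Lpr_ef (f664446 IH) (Lpr_dt (f667837 IH) (Lpn v7700)))))))))))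
theorem f530076 : Led Lsl_df (LP (LK LD1_c1 LD2_c50 LD3_c41)) = v2648 :=
  Lgr Lrot38 (Lpr_dt (f530074 IH) (Lpn v2648))
theorem f11989 : Led Lsl_dt (LP (LK LD1_c3 LD2_c27 LD3_c14)) = (LP (LK LD1_c1 LD2_c40 LD3_c13)) :=
  Lre_d IH (LK LD1_c3 LD2_c27 LD3_c14) (LK LD1_c1 LD2_c40 LD3_c13) Lrfl Lrfl
theorem f789361 : Led Lsl_ct (LP (LK LD1_c13 LD2_c6 LD3_c14)) = v20714 :=
  Lgr Lrot8 (Lpr_gt (K49.f485843 IH) (Lpe (K46.f485869 IH) (Lpr_gt (K46.f11994 IH) (Lpr_dt (f11989 IH) (Lpe (K3.f11987 IH) (Lpr_df (f530076 IH) (Lpr_gf (f667840 IH) (Lpe (f667837 IH) (Lpr_gf (f789360 IH) (Lpn v20714))))))))))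
theorem f657437 : Led Lsl_df v3322 = K46.v6644 :=
  Lgr Lrot70 (Lpe (f626611 IH) (Lpe (K48.f531723 IH) (Lpr_et (K48.f19144 IH) (Lpr_dt (K28.f91495 IH) (Lpr_et (K46.f657435 IH) (Lpn K46.v6644))))))
theorem f511422 : Led Lsl_af K29.v716 = K46.v2277 :=
  Lgr Lrot117 (Lpe (K29.f456911 IH) (Lpr_at (K29.f456907 IH) (Lpq (K29.f476750 IH) (Lpr_dt (K46.f511421 IH) (Lpn K46.v2277)))))
theorem f522440 : Led Lsl_at K29.v710 = K49.v2462 :=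
  Lgr Lrot66 (Lpe (K29.f457274 IH) (Lpr_af (f511422 IH) (Lpr_ff (K49.f522439 IH) (Lpn K49.v2462))))
theorem f625129 : Led Lsl_gf K49.v2462 = v3322 :=
  Lgr Lrot76 (Lpe (f522440 IH) (Lpe (K29.f457274 IH) (Lpr_gt (f625128 IH) (Lpn v3322))))
theorem f522438 : Led Lsl_df (LP (LK LD1_c1 LD2_c45 LD3_c51)) = K49.v2462 :=
  Lgr Lrot38 (Lpr_dt (K49.f522436 IH) (Lpn K49.v2462))
theorem f456899 : Led Lsl_dt (LP (LK LD1_c7 LD2_c16 LD3_c22)) = (LP (LK LD1_c3 LD2_c37 LD3_c59)) :=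
  Lre_d IH (LK LD1_c7 LD2_c16 LD3_c22) (LK LD1_c3 LD2_c37 LD3_c59) Lrfl Lrfl
theorem f456660 : Led Lsl_at (LP (LK LD1_c3 LD2_c37 LD3_c61)) = (LP (LK LD1_c7 LD2_c16 LD3_c22)) :=
  Lre_a IH (LK LD1_c3 LD2_c37 LD3_c61) (LK LD1_c7 LD2_c16 LD3_c22) Lrfl Lrfl
theorem f457311 : Led Lsl_gt (LP (LK LD1_c7 LD2_c16 LD3_c29)) = (LP (LK LD1_c7 LD2_c16 LD3_c22)) :=
  Lgr Lrot46 (Lpe (K49.f457310 IH) (Lpr_ft (K49.f457276 IH) (Lpr_at (f456660 IH) (Lpn (LP (LK LD1_c7 LD2_c16 LD3_c22))))))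
theorem f684290 : Led Lsl_gf (LP (LK LD1_c13 LD2_c6 LD3_c14)) = K49.v11376 :=
  Lgr Lrot148 (Lpe (K49.f485886 IH) (Lpr_gt (f457311 IH) (Lpr_dt (f456899 IH) (Lpr_ct (K33.f456898 IH) (Lpr_df (f522438 IH) (Lpr_gf (f625129 IH) (Lpr_df (f657437 IH) (Lpe (K46.f657440 IH) (Lpr_ct (K49.f684285 IH) (Lpn K49.v11376))))))))))
theorem f684299 : Led Lsl_bt K48.v6803 = K49.v11376 :=
  Lgr Lrot95 (Lpr_df (f665471 IH) (Lpe (K48.f665476 IH) (Lpr_df (K49.f684292 IH) (Lpn K49.v11376))))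
theorem f658569 : Led Lsl_cf K33.v2308 = K48.v6803 :=
  Lgr Lrot39 (Lpe (K48.f514535 IH) (Lpr_ct (K29.f455722 IH) (Lpr_et (K48.f658568 IH) (Lpn K48.v6803))))
theorem f62709 : Led Lsl_ct (LP (LK LD1_c3 LD2_c30 LD3_c57)) = (LP (LK LD1_c1 LD2_c42 LD3_c0)) :=
  Lre_c IH (LK LD1_c3 LD2_c30 LD3_c57) (LK LD1_c1 LD2_c42 LD3_c0) Lrfl Lrfl
theorem f62714 : Led Lsl_bt (LP (LK LD1_c3 LD2_c30 LD3_c57)) = (LP (LK LD1_c7 LD2_c3 LD3_c50)) :=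
  Lre_b IH (LK LD1_c3 LD2_c30 LD3_c57) (LK LD1_c7 LD2_c3 LD3_c50) Lrfl Lrfl
theorem f486555 : Led Lsl_gt (LP (LK LD1_c13 LD2_c23 LD3_c28)) = (LP (LK LD1_c7 LD2_c3 LD3_c50)) :=
  Lre_g IH (LK LD1_c13 LD2_c23 LD3_c28) (LK LD1_c7 LD2_c3 LD3_c50) Lrfl Lrfl
theorem f789362 : Led Lsl_bt K60.v20200 = (LP (LK LD1_c13 LD2_c23 LD3_c28)) :=
  Lgr Lrot22 (Lpe (f785504 IH) (Lpr_gf (f789360 IH) (Lpe (f789361 IH) (Lpr_gf (f684290 IH) (Lpe (f684299 IH) (Lpe (f658569 IH) (Lpe (K33.f514531 IH) (Lpe (f62709 IH) (Lpr_bt (f62714 IH) (Lpe (f486555 IH) (Lpn (LP (LK LD1_c13 LD2_c23 LD3_c28)))))))))))))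
theorem f785519 : Led Lsl_ff (LP (LK LD1_c7 LD2_c53 LD3_c15)) = (LP (LK LD1_c6 LD2_c55 LD3_c38)) :=
  Lgr Lrot3 (Lpr_ft (f785516 IH) (Lpn (LP (LK LD1_c6 LD2_c55 LD3_c38))))
theorem f785540 : Led Lsl_at (LP (LK LD1_c7 LD2_c53 LD3_c15)) = (LP (LK LD1_c6 LD2_c55 LD3_c39)) :=
  Lgr Lrot66 (Lpr_ff (f785519 IH) (Lpe (f785523 IH) (Lpr_ff (f785538 IH) (Lpn (LP (LK LD1_c6 LD2_c55 LD3_c39))))))
theorem f785576 : Led Lsl_af K60.v20200 = (LP (LK LD1_c6 LD2_c53 LD3_c30)) :=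
  Lgr Lrot117 (Lpe (K60.f785511 IH) (Lpr_at (f785540 IH) (Lpr_dt (K49.f95045 IH) (Lpn (LP (LK LD1_c6 LD2_c53 LD3_c30))))))
theorem f95041 : Led Lsl_bt (LP (LK LD1_c13 LD2_c5 LD3_c55)) = (LP (LK LD1_c6 LD2_c53 LD3_c30)) :=
  Lre_b IH (LK LD1_c13 LD2_c5 LD3_c55) (LK LD1_c6 LD2_c53 LD3_c30) Lrfl Lrfl
theorem f477475 : Led Lsl_bt (LP (LK LD1_c14 LD2_c17 LD3_c35)) = (LP (LK LD1_c7 LD2_c34 LD3_c45)) :=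
  Lre_b IH (LK LD1_c14 LD2_c17 LD3_c35) (LK LD1_c7 LD2_c34 LD3_c45) Lrfl Lrfl
theorem f471433 : Led Lsl_gt (LP (LK LD1_c13 LD2_c46 LD3_c46)) = (LP (LK LD1_c7 LD2_c16 LD3_c56)) :=
  Lre_g IH (LK LD1_c13 LD2_c46 LD3_c46) (LK LD1_c7 LD2_c16 LD3_c56) Lrfl Lrfl
theorem f523538 : Led Lsl_ct (LP (LK LD1_c14 LD2_c17 LD3_c35)) = (LP (LK LD1_c13 LD2_c46 LD3_c46)) :=
  Lgr Lrot64 (Lpr_bt (f477475 IH) (Lpr_gf (f493777 IH) (Lpe (f481877 IH) (Lpr_ct (K35.f481876 IH) (Lpe (K29.f94303 IH) (Lpe (K29.f94290 IH) (Lpe (K34.f94310 IH) (Lpe (K47.f523469 IH) (Lpr_ct (K47.f523471 IH) (Lpe (f471433 IH) (Lpn (LP (LK LD1_c13 LD2_c46 LD3_c46)))))))))))))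
theorem f600942 : Led Lsl_ff (LP (LK LD1_c7 LD2_c17 LD3_c10)) = (LP (LK LD1_c13 LD2_c46 LD3_c46)) :=
  Lgr Lrot52 (Lpe (K43.f497681 IH) (Lpr_gf (K46.f600940 IH) (Lpe (f471433 IH) (Lpn (LP (LK LD1_c13 LD2_c46 LD3_c46))))))
theorem f609433 : Led Lsl_at (LP (LK LD1_c7 LD2_c17 LD3_c36)) = (LP (LK LD1_c13 LD2_c46 LD3_c46)) :=
  Lgr Lrot66 (Lpr_ff (K47.f609431 IH) (Lpr_af (K43.f497681 IH) (Lpr_ff (f600942 IH) (Lpn (LP (LK LD1_c13 LD2_c46 LD3_c46))))))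
theorem f609439 : Led Lsl_gf (LP (LK LD1_c13 LD2_c46 LD3_c46)) = (LP (LK LD1_c7 LD2_c17 LD3_c37)) :=
  Lgr Lrot76 (Lpe (f609433 IH) (Lpr_ff (K47.f609431 IH) (Lpr_gt (K47.f600944 IH) (Lpn (LP (LK LD1_c7 LD2_c17 LD3_c37))))))
theorem f120274 : Led Lsl_gt (LP (LK LD1_c1 LD2_c50 LD3_c28)) = (LP (LK LD1_c3 LD2_c46 LD3_c42)) :=
  Lre_g IH (LK LD1_c1 LD2_c50 LD3_c28) (LK LD1_c3 LD2_c46 LD3_c42) Lrfl Lrfl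
theorem f609441 : Led Lsl_ct (LP (LK LD1_c3 LD2_c46 LD3_c42)) = (LP (LK LD1_c7 LD2_c17 LD3_c37)) :=
  Lgr Lrot91 (Lpe (f120274 IH) (Lpe (K28.f120510 IH) (Lpr_ct (K28.f120545 IH) (Lpe (K34.f120569 IH) (Lpe (K30.f451070 IH) (Lpr_bt (K30.f455528 IH) (Lpe (K46.f477474 IH) (Lpe (f477475 IH) (Lpr_ct (f523538 IH) (Lpr_gf (f609439 IH) (Lpn (LP (LK LD1_c7 LD2_c17 LD3_c37)))))))))))))
theorem f609451 : Led Lsl_bt (LP (LK LD1_c3 LD2_c46 LD3_c42)) = (LP (LK LD1_c7 LD2_c34 LD3_c13)) :=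
  Lre_b IH (LK LD1_c3 LD2_c46 LD3_c42) (LK LD1_c7 LD2_c34 LD3_c13) Lrfl Lrfl
theorem f659944 : Led Lsl_gf (LP (LK LD1_c7 LD2_c34 LD3_c13)) = (LP (LK LD1_c13 LD2_c56 LD3_c11)) :=
  Lgr Lrot124 (Lpe (f609451 IH) (Lpr_ct (f609441 IH) (Lpe (f609439 IH) (Lpe (f523538 IH) (Lpr_bt (f477475 IH) (Lpr_gt (K46.f477474 IH) (Lpe (K46.f477471 IH) (Lpr_gt (K47.f659939 IH) (Lpe (K47.f123984 IH) (Lpr_bt (K32.f123973 IH) (Lpn (LP (LK LD1_c13 LD2_c56 LD3_c11)))))))))))))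
theorem f659946 : Led Lsl_af (LP (LK LD1_c7 LD2_c34 LD3_c13)) = (LP (LK LD1_c6 LD2_c53 LD3_c28)) :=
  Lgr Lrot31 (Lpr_gf (f659944 IH) (Lpe (K47.f659930 IH) (Lpe (K35.f525709 IH) (Lpn (LP (LK LD1_c6 LD2_c53 LD3_c28))))))
theorem f659957 : Led Lsl_et (LP (LK LD1_c7 LD2_c34 LD3_c13)) = (LP (LK LD1_c14 LD2_c16 LD3_c26)) :=
  Lre_e IH (LK LD1_c7 LD2_c34 LD3_c13) (LK LD1_c14 LD2_c16 LD3_c26) Lrfl Lrfl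
theorem f659958 : Led Lsl_at (LP (LK LD1_c14 LD2_c16 LD3_c26)) = (LP (LK LD1_c13 LD2_c5 LD3_c55)) :=
  Lgr Lrot80 (Lpe (f659957 IH) (Lpr_af (f659946 IH) (Lpe (K46.f95119 IH) (Lpn (LP (LK LD1_c13 LD2_c5 LD3_c55))))))
theorem f609452 : Led Lsl_bt (LP (LK LD1_c7 LD2_c34 LD3_c15)) = (LP (LK LD1_c14 LD2_c16 LD3_c26)) :=
  Lre_b IH (LK LD1_c7 LD2_c34 LD3_c15) (LK LD1_c14 LD2_c16 LD3_c26) Lrfl Lrfl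
theorem f789364 : Led Lsl_af (LP (LK LD1_c7 LD2_c34 LD3_c15)) = (LP (LK LD1_c13 LD2_c23 LD3_c28)) :=
  Lgr Lrot36 (Lpr_bt (f609452 IH) (Lpr_at (f659958 IH) (Lpr_bt (f95041 IH) (Lpe (f785576 IH) (Lpr_bt (f789362 IH) (Lpn (LP (LK LD1_c13 LD2_c23 LD3_c28))))))))
theorem f789365 : Led Lsl_at (LP (LK LD1_c13 LD2_c23 LD3_c28)) = (LP (LK LD1_c7 LD2_c34 LD3_c15)) :=
  Leop (Lpr_af (f789364 IH) (Lpn (LP (LK LD1_c13 LD2_c23 LD3_c28))))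
theorem seed_1561 : LEOK LG_a (LK LD1_c13 LD2_c23 LD3_c28) :=
  Leoe_a (LK LD1_c13 LD2_c23 LD3_c28) (f789365 IH)
def v20717 : LQ := Led Lsl_ft (LP (LK LD1_c7 LD2_c3 LD3_c13))
theorem f789398 : Led Lsl_ft (LP (LK LD1_c7 LD2_c3 LD3_c13)) = v20717 :=
  Lrfl
theorem f789403 : Led Lsl_ff (LP (LK LD1_c7 LD2_c3 LD3_c13)) = v20717 :=
  Lgr Lrot3 (Lpr_ft (f789398 IH) (Lpn v20717))
theorem f512638 : Led Lsl_at (LP (LK LD1_c7 LD2_c3 LD3_c13)) = (LP (LK LD1_c6 LD2_c51 LD3_c60)) :=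
  Lgr Lrot100 (Lpr_af (K34.f512636 IH) (Lpn (LP (LK LD1_c6 LD2_c51 LD3_c60))))
theorem f478921 : Led Lsl_at (LP (LK LD1_c3 LD2_c39 LD3_c9)) = (LP (LK LD1_c7 LD2_c18 LD3_c36)) :=
  Lre_a IH (LK LD1_c3 LD2_c39 LD3_c9) (LK LD1_c7 LD2_c18 LD3_c36) Lrfl Lrfl
theorem f661127 : Led Lsl_gf (LP (LK LD1_c6 LD2_c51 LD3_c60)) = K49.v7107 :=
  Lgr Lrot47 (Lpe (f566371 IH) (Lpe (f478921 IH) (Lpr_ff (K49.f661123 IH) (Lpn K49.v7107))))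
theorem f789408 : Led Lsl_gf K49.v7107 = v20717 :=
  Lgr Lrot47 (Lpe (f661127 IH) (Lpe (f512638 IH) (Lpr_ff (f789403 IH) (Lpn v20717))))
theorem f479023 : Led Lsl_et (LP (LK LD1_c7 LD2_c43 LD3_c33)) = (LP (LK LD1_c14 LD2_c33 LD3_c56)) :=
  Lre_e IH (LK LD1_c7 LD2_c43 LD3_c33) (LK LD1_c14 LD2_c33 LD3_c56) Lrfl Lrfl
theorem f789406 : Led Lsl_dt (LP (LK LD1_c7 LD2_c42 LD3_c61)) = v20717 :=
  Lgr Lrot60 (Lpe (K34.f512847 IH) (Lpe (K34.f457490 IH) (Lpr_ff (f789403 IH) (Lpn v20717))))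
theorem f91030 : Led Lsl_et (LP (LK LD1_c7 LD2_c42 LD3_c55)) = (LP (LK LD1_c3 LD2_c50 LD3_c56)) :=
  Lre_e IH (LK LD1_c7 LD2_c42 LD3_c55) (LK LD1_c3 LD2_c50 LD3_c56) Lrfl Lrfl
theorem f14528 : Led Lsl_dt (LP (LK LD1_c7 LD2_c42 LD3_c55)) = (LP (LK LD1_c3 LD2_c50 LD3_c53)) :=
  Lre_d IH (LK LD1_c7 LD2_c42 LD3_c55) (LK LD1_c3 LD2_c50 LD3_c53) Lrfl Lrfl
theorem f14535 : Led Lsl_gt (LP (LK LD1_c7 LD2_c42 LD3_c54)) = (LP (LK LD1_c3 LD2_c50 LD3_c53)) :=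
  Lre_g IH (LK LD1_c7 LD2_c42 LD3_c54) (LK LD1_c3 LD2_c50 LD3_c53) Lrfl Lrfl
theorem f14536 : Led Lsl_dt (LP (LK LD1_c14 LD2_c32 LD3_c37)) = (LP (LK LD1_c7 LD2_c42 LD3_c54)) :=
  Lre_d IH (LK LD1_c14 LD2_c32 LD3_c37) (LK LD1_c7 LD2_c42 LD3_c54) Lrfl Lrfl
theorem f789410 : Led Lsl_et (LP (LK LD1_c14 LD2_c32 LD3_c37)) = (LP (LK LD1_c24 LD2_c14 LD3_c57)) :=
  Lre_e IH (LK LD1_c14 LD2_c32 LD3_c37) (LK LD1_c24 LD2_c14 LD3_c57) Lrfl Lrfl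
theorem f789411 : Led Lsl_gt (LP (LK LD1_c14 LD2_c33 LD3_c56)) = (LP (LK LD1_c24 LD2_c14 LD3_c57)) :=
  Lgr Lrot131 (Lpe (f479023 IH) (Lpr_dt (K49.f661126 IH) (Lpr_gf (f789408 IH) (Lpe (f789406 IH) (Lpe (K34.f91300 IH) (Lpe (f91030 IH) (Lpr_dt (f14528 IH) (Lpe (f14535 IH) (Lpe (f14536 IH) (Lpr_et (f789410 IH) (Lpn (LP (LK LD1_c24 LD2_c14 LD3_c57)))))))))))))
theorem f789412 : Led Lsl_gt (LP (LK LD1_c14 LD2_c33 LD3_c56)) = (LP (LK LD1_c24 LD2_c14 LD3_c57)) :=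
  Leop (Lpe (f789411 IH) (Lpn (LP (LK LD1_c14 LD2_c33 LD3_c56))))
theorem seed_1562 : LEOK LG_g (LK LD1_c14 LD2_c33 LD3_c56) :=
  Leoe_g (LK LD1_c14 LD2_c33 LD3_c56) (f789412 IH)
theorem f789407 : Led Lsl_et v11940 = v20717 :=
  Lgr Lrot69 (Lpe (f686922 IH) (Lpe (f458368 IH) (Lpe (K34.f512654 IH) (Lpe (K34.f457489 IH) (Lpr_ff (f789403 IH) (Lpn v20717))))))
theorem f484201 : Led Lsl_et (LP (LK LD1_c13 LD2_c36 LD3_c25)) = (LP (LK LD1_c7 LD2_c10 LD3_c55)) :=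
  Lre_e IH (LK LD1_c13 LD2_c36 LD3_c25) (LK LD1_c7 LD2_c10 LD3_c55) Lrfl Lrfl
theorem f457502 : Led Lsl_df (LP (LK LD1_c7 LD2_c3 LD3_c13)) = (LP (LK LD1_c3 LD2_c51 LD3_c11)) :=
  Lgr Lrot38 (Lpr_dt (K34.f457490 IH) (Lpn (LP (LK LD1_c3 LD2_c51 LD3_c11))))
theorem f789401 : Led Lsl_df (LP (LK LD1_c7 LD2_c42 LD3_c61)) = v20717 :=
  Lgr Lrot78 (Lpe (K34.f512838 IH) (Lpe (f457502 IH) (Lpr_ft (f789398 IH) (Lpn v20717))))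
theorem f512835 : Led Lsl_et (LP (LK LD1_c7 LD2_c42 LD3_c61)) = (LP (LK LD1_c14 LD2_c32 LD3_c46)) :=
  Lre_e IH (LK LD1_c7 LD2_c42 LD3_c61) (LK LD1_c14 LD2_c32 LD3_c46) Lrfl Lrfl
theorem f789415 : Led Lsl_df (LP (LK LD1_c13 LD2_c36 LD3_c25)) = (LP (LK LD1_c14 LD2_c32 LD3_c46)) :=
  Lgr Lrot70 (Lpr_et (f484201 IH) (Lpr_dt (f686921 IH) (Lpr_et (f789407 IH) (Lpe (f789401 IH) (Lpr_et (f512835 IH) (Lpn (LP (LK LD1_c14 LD2_c32 LD3_c46))))))))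
theorem f789416 : Led Lsl_dt (LP (LK LD1_c14 LD2_c32 LD3_c46)) = (LP (LK LD1_c13 LD2_c36 LD3_c25)) :=
  Leop (Lpr_df (f789415 IH) (Lpn (LP (LK LD1_c14 LD2_c32 LD3_c46))))
theorem seed_1563 : LEOK LG_d (LK LD1_c14 LD2_c32 LD3_c46) :=
  Leoe_d (LK LD1_c14 LD2_c32 LD3_c46) (f789416 IH)
def v20725 : LQ := Led Lsl_et (LP (LK LD1_c7 LD2_c3 LD3_c30))
theorem f789493 : Led Lsl_et (LP (LK LD1_c7 LD2_c3 LD3_c30)) = v20725 :=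
  Lrfl
def v2706 : LQ := Led Lsl_et (LP (LK LD1_c1 LD2_c53 LD3_c21))
theorem f531287 : Led Lsl_et (LP (LK LD1_c1 LD2_c53 LD3_c21)) = v2706 :=
  Lrfl
theorem f531289 : Led Lsl_ef (LP (LK LD1_c1 LD2_c53 LD3_c21)) = v2706 :=
  Lgr Lrot88 (Lpr_et (f531287 IH) (Lpn v2706))
def v9458 : LQ := Led Lsl_dt v2706
theorem f676065 : Led Lsl_dt v2706 = v9458 :=
  Lrfl
theorem f520722 : Led Lsl_ft (LP (LK LD1_c1 LD2_c50 LD3_c31)) = K35.v2300 :=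
  Lgr Lrot48 (Lpr_ff (K35.f520721 IH) (Lpn K35.v2300))
theorem f664995 : Led Lsl_dt K35.v2300 = K49.v7410 :=
  Lgr Lrot60 (Lpe (f520722 IH) (Lpe (K33.f451064 IH) (Lpr_ff (K49.f664994 IH) (Lpn K49.v7410))))
theorem f676069 : Led Lsl_gt K49.v7410 = v9458 :=
  Lgr Lrot139 (Lpe (f664995 IH) (Lpe (K35.f511955 IH) (Lpe (K29.f96180 IH) (Lpr_dt (K3.f17799 IH) (Lpe (K3.f87853 IH) (Lpr_df (K3.f96165 IH) (Lpr_et (K34.f96181 IH) (Lpr_gf (K28.f465254 IH) (Lpr_ef (f531289 IH) (Lpr_dt (f676065 IH) (Lpn v9458)))))))))))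
def v7412 : LQ := Led Lsl_at (LP (LK LD1_c3 LD2_c46 LD3_c51))
theorem f665000 : Led Lsl_at (LP (LK LD1_c3 LD2_c46 LD3_c51)) = v7412 :=
  Lrfl
theorem f520719 : Led Lsl_af (LP (LK LD1_c1 LD2_c50 LD3_c30)) = K35.v2300 :=
  Lgr Lrot0 (Lpr_at (K35.f520718 IH) (Lpn K35.v2300))
theorem f665003 : Led Lsl_ef K35.v2300 = v7412 :=
  Lgr Lrot20 (Lpe (f520719 IH) (Lpr_et (K34.f92777 IH) (Lpr_at (f665000 IH) (Lpn v7412))))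
theorem f665004 : Led Lsl_et K35.v2300 = v7412 :=
  Lgr Lrot87 (Lpr_ef (f665003 IH) (Lpn v7412))
theorem f789499 : Led Lsl_gf v7412 = v20725 :=
  Lgr Lrot141 (Lpe (f665004 IH) (Lpr_dt (f664995 IH) (Lpr_gt (f676069 IH) (Lpe (f676065 IH) (Lpe (f531289 IH) (Lpe (K28.f465254 IH) (Lpr_dt (K5.f96167 IH) (Lpe (K34.f513837 IH) (Lpe (K34.f461627 IH) (Lpr_et (f789493 IH) (Lpn v20725)))))))))))
theorem f665002 : Led Lsl_df (LP (LK LD1_c7 LD2_c35 LD3_c2)) = v7412 :=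
  Lgr Lrot18 (Lpe (K48.f521478 IH) (Lpr_dt (K48.f92774 IH) (Lpr_at (f665000 IH) (Lpn v7412))))
theorem f89188 : Led Lsl_dt (LP (LK LD1_c3 LD2_c47 LD3_c5)) = (LP (LK LD1_c1 LD2_c50 LD3_c39)) :=
  Lre_d IH (LK LD1_c3 LD2_c47 LD3_c5) (LK LD1_c1 LD2_c50 LD3_c39) Lrfl Lrfl
theorem f459671 : Led Lsl_df (LP (LK LD1_c0 LD2_c52 LD3_c13)) = K48.v843 :=
  Lgr Lrot38 (Lpr_dt (K48.f459669 IH) (Lpn K48.v843))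
def v6809 : LQ := Led Lsl_et (LP (LK LD1_c3 LD2_c30 LD3_c49))
theorem f658590 : Led Lsl_et (LP (LK LD1_c3 LD2_c30 LD3_c49)) = v6809 :=
  Lrfl
theorem f95969 : Led Lsl_et (LP (LK LD1_c0 LD2_c10 LD3_c42)) = (LP (LK LD1_c0 LD2_c23 LD3_c58)) :=
  Lre_e IH (LK LD1_c0 LD2_c10 LD3_c42) (LK LD1_c0 LD2_c23 LD3_c58) Lrfl Lrfl
theorem f625827 : Led Lsl_gt K49.v3248 = K49.v3478 :=
  Lgr Lrot139 (Lpe (K49.f624796 IH) (Lpe (K34.f455507 IH) (Lpe (K28.f120566 IH) (Lpr_dt (K24.f95728 IH) (Lpe (K3.f95963 IH) (Lpe (K7.f12062 IH) (Lpr_et (f95969 IH) (Lpe (K28.f15697 IH) (Lpr_ef (K49.f490196 IH) (Lpr_dt (K49.f625824 IH) (Lpn K49.v3478)))))))))))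
theorem f658595 : Led Lsl_gf K48.v3249 = v6809 :=
  Lgr Lrot141 (Lpe (K48.f624803 IH) (Lpr_dt (K49.f624796 IH) (Lpr_gt (f625827 IH) (Lpe (K49.f625824 IH) (Lpe (K49.f490196 IH) (Lpr_gt (K28.f15697 IH) (Lpr_dt (K34.f110037 IH) (Lpr_gt (K29.f451144 IH) (Lpe (K34.f513915 IH) (Lpr_et (f658590 IH) (Lpn v6809)))))))))))
theorem f789500 : Led Lsl_ct v6809 = v20725 :=
  Lgr Lrot8 (Lpe (f658595 IH) (Lpr_dt (K48.f625714 IH) (Lpe (K48.f625711 IH) (Lpe (f459671 IH) (Lpe (K2.f87679 IH) (Lpe (f89188 IH) (Lpe (K48.f89189 IH) (Lpr_df (f665002 IH) (Lpr_gf (f789499 IH) (Lpn v20725))))))))))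
theorem f446566 : Led Lsl_ft (LP (LK LD1_c0 LD2_c51 LD3_c29)) = (LP (LK LD1_c1 LD2_c49 LD3_c24)) :=
  Lre_f IH (LK LD1_c0 LD2_c51 LD3_c29) (LK LD1_c1 LD2_c49 LD3_c24) Lrfl Lrfl
theorem f527729 : Led Lsl_dt (LP (LK LD1_c1 LD2_c49 LD3_c24)) = K46.v2602 :=
  Lgr Lrot60 (Lpe (f446566 IH) (Lpe (f64942 IH) (Lpr_ff (K46.f527726 IH) (Lpn K46.v2602))))
theorem f62800 : Led Lsl_et (LP (LK LD1_c1 LD2_c49 LD3_c24)) = (LP (LK LD1_c0 LD2_c52 LD3_c24)) :=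
  Lre_e IH (LK LD1_c1 LD2_c49 LD3_c24) (LK LD1_c0 LD2_c52 LD3_c24) Lrfl Lrfl
theorem f658594 : Led Lsl_gt K33.v2308 = v6809 :=
  Lgr Lrot131 (Lpe (K33.f514532 IH) (Lpr_dt (K29.f474016 IH) (Lpe (K29.f473960 IH) (Lpe (K24.f129662 IH) (Lpe (K5.f64662 IH) (Lpe (f62800 IH) (Lpr_dt (f527729 IH) (Lpe (K46.f527731 IH) (Lpe (K34.f513915 IH) (Lpr_et (f658590 IH) (Lpn v6809)))))))))))
theorem f461366 : Led Lsl_dt (LP (LK LD1_c7 LD2_c2 LD3_c48)) = (LP (LK LD1_c3 LD2_c30 LD3_c26)) :=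
  Lre_d IH (LK LD1_c7 LD2_c2 LD3_c48) (LK LD1_c3 LD2_c30 LD3_c26) Lrfl Lrfl
theorem f467732 : Led Lsl_ct (LP (LK LD1_c3 LD2_c48 LD3_c60)) = (LP (LK LD1_c7 LD2_c39 LD3_c6)) :=
  Lre_c IH (LK LD1_c3 LD2_c48 LD3_c60) (LK LD1_c7 LD2_c39 LD3_c6) Lrfl Lrfl
theorem f62736 : Led Lsl_gt (LP (LK LD1_c7 LD2_c38 LD3_c42)) = (LP (LK LD1_c3 LD2_c48 LD3_c47)) :=
  Lre_g IH (LK LD1_c7 LD2_c38 LD3_c42) (LK LD1_c3 LD2_c48 LD3_c47) Lrfl Lrfl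
theorem f519158 : Led Lsl_gt (LP (LK LD1_c3 LD2_c48 LD3_c50)) = (LP (LK LD1_c7 LD2_c38 LD3_c42)) :=
  Lgr Lrot5 (Lpr_ft (K48.f516078 IH) (Lpr_at (K48.f516248 IH) (Lpe (f62736 IH) (Lpn (LP (LK LD1_c7 LD2_c38 LD3_c42))))))
theorem f482011 : Led Lsl_dt (LP (LK LD1_c3 LD2_c48 LD3_c50)) = (LP (LK LD1_c1 LD2_c51 LD3_c24)) :=
  Lre_d IH (LK LD1_c3 LD2_c48 LD3_c50) (LK LD1_c1 LD2_c51 LD3_c24) Lrfl Lrfl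
theorem f459786 : Led Lsl_ct (LP (LK LD1_c7 LD2_c39 LD3_c2)) = (LP (LK LD1_c3 LD2_c48 LD3_c57)) :=
  Lre_c IH (LK LD1_c7 LD2_c39 LD3_c2) (LK LD1_c3 LD2_c48 LD3_c57) Lrfl Lrfl
theorem f519160 : Led Lsl_ct (LP (LK LD1_c7 LD2_c38 LD3_c42)) = (LP (LK LD1_c14 LD2_c24 LD3_c31)) :=
  Lre_c IH (LK LD1_c7 LD2_c38 LD3_c42) (LK LD1_c14 LD2_c24 LD3_c31) Lrfl Lrfl
theorem f519161 : Led Lsl_gf (LP (LK LD1_c7 LD2_c39 LD3_c2)) = (LP (LK LD1_c14 LD2_c24 LD3_c31)) :=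
  Lgr Lrot104 (Lpr_ct (f459786 IH) (Lpe (K33.f474810 IH) (Lpe (K48.f451094 IH) (Lpe (K5.f62691 IH) (Lpe (K5.f62704 IH) (Lpe (K33.f89664 IH) (Lpe (f482011 IH) (Lpr_gt (f519158 IH) (Lpr_ct (f519160 IH) (Lpn (LP (LK LD1_c14 LD2_c24 LD3_c31))))))))))))
theorem f456678 : Led Lsl_ct (LP (LK LD1_c7 LD2_c51 LD3_c11)) = (LP (LK LD1_c14 LD2_c48 LD3_c45)) :=
  Lre_c IH (LK LD1_c7 LD2_c51 LD3_c11) (LK LD1_c14 LD2_c48 LD3_c45) Lrfl Lrfl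
theorem f481991 : Led Lsl_ct (LP (LK LD1_c14 LD2_c25 LD3_c18)) = (LP (LK LD1_c7 LD2_c39 LD3_c3)) :=
  Lre_c IH (LK LD1_c14 LD2_c25 LD3_c18) (LK LD1_c7 LD2_c39 LD3_c3) Lrfl Lrfl
theorem f482127 : Led Lsl_at (LP (LK LD1_c14 LD2_c48 LD3_c45)) = (LP (LK LD1_c14 LD2_c25 LD3_c18)) :=
  Lgr Lrot107 (Lpe (f456678 IH) (Lpr_af (K33.f482119 IH) (Lpe (f481991 IH) (Lpn (LP (LK LD1_c14 LD2_c25 LD3_c18))))))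
theorem f467886 : Led Lsl_et (LP (LK LD1_c7 LD2_c51 LD3_c10)) = (LP (LK LD1_c14 LD2_c48 LD3_c45)) :=
  Lre_e IH (LK LD1_c7 LD2_c51 LD3_c10) (LK LD1_c14 LD2_c48 LD3_c45) Lrfl Lrfl
theorem f482137 : Led Lsl_et (LP (LK LD1_c14 LD2_c25 LD3_c18)) = (LP (LK LD1_c7 LD2_c39 LD3_c2)) :=
  Lre_e IH (LK LD1_c14 LD2_c25 LD3_c18) (LK LD1_c7 LD2_c39 LD3_c2) Lrfl Lrfl
theorem f482138 : Led Lsl_af (LP (LK LD1_c7 LD2_c51 LD3_c10)) = (LP (LK LD1_c7 LD2_c39 LD3_c2)) :=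
  Lgr Lrot50 (Lpr_et (f467886 IH) (Lpr_at (f482127 IH) (Lpr_et (f482137 IH) (Lpn (LP (LK LD1_c7 LD2_c39 LD3_c2))))))
theorem f482142 : Led Lsl_at (LP (LK LD1_c7 LD2_c51 LD3_c10)) = (LP (LK LD1_c7 LD2_c39 LD3_c2)) :=
  Lgr Lrot100 (Lpr_af (f482138 IH) (Lpn (LP (LK LD1_c7 LD2_c39 LD3_c2))))
theorem f456664 : Led Lsl_ct (LP (LK LD1_c7 LD2_c51 LD3_c10)) = (LP (LK LD1_c3 LD2_c54 LD3_c45)) :=
  Lre_c IH (LK LD1_c7 LD2_c51 LD3_c10) (LK LD1_c3 LD2_c54 LD3_c45) Lrfl Lrfl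
theorem f467735 : Led Lsl_ff (LP (LK LD1_c7 LD2_c51 LD3_c10)) = (LP (LK LD1_c7 LD2_c39 LD3_c6)) :=
  Lgr Lrot23 (Lpr_ct (f456664 IH) (Lpr_ft (K29.f467730 IH) (Lpr_ct (f467732 IH) (Lpn (LP (LK LD1_c7 LD2_c39 LD3_c6))))))
theorem f519164 : Led Lsl_gt (LP (LK LD1_c7 LD2_c39 LD3_c6)) = (LP (LK LD1_c14 LD2_c24 LD3_c31)) :=
  Lgr Lrot5 (Lpe (f467735 IH) (Lpr_at (f482142 IH) (Lpr_gf (f519161 IH) (Lpn (LP (LK LD1_c14 LD2_c24 LD3_c31))))))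
theorem f519163 : Led Lsl_ct (LP (LK LD1_c14 LD2_c24 LD3_c31)) = (LP (LK LD1_c7 LD2_c38 LD3_c42)) :=
  Lre_c IH (LK LD1_c14 LD2_c24 LD3_c31) (LK LD1_c7 LD2_c38 LD3_c42) Lrfl Lrfl
theorem f789502 : Led Lsl_df (LP (LK LD1_c7 LD2_c38 LD3_c42)) = v20725 :=
  Lgr Lrot162 (Lpe (f519163 IH) (Lpe (f519164 IH) (Lpe (f467732 IH) (Lpr_gf (K48.f482085 IH) (Lpr_dt (f461366 IH) (Lpr_gt (K48.f658566 IH) (Lpe (f658569 IH) (Lpr_gt (f658594 IH) (Lpr_ct (f789500 IH) (Lpn v20725))))))))))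
theorem f789503 : Led Lsl_et (LP (LK LD1_c7 LD2_c38 LD3_c42)) = (LP (LK LD1_c14 LD2_c24 LD3_c32)) :=
  Lre_e IH (LK LD1_c7 LD2_c38 LD3_c42) (LK LD1_c14 LD2_c24 LD3_c32) Lrfl Lrfl
theorem f461629 : Led Lsl_et (LP (LK LD1_c22 LD2_c40 LD3_c59)) = (LP (LK LD1_c13 LD2_c23 LD3_c7)) :=
  Lre_e IH (LK LD1_c22 LD2_c40 LD3_c59) (LK LD1_c13 LD2_c23 LD3_c7) Lrfl Lrfl
theorem f789504 : Led Lsl_dt (LP (LK LD1_c14 LD2_c24 LD3_c32)) = (LP (LK LD1_c22 LD2_c40 LD3_c59)) :=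
  Lgr Lrot77 (Lpe (f789503 IH) (Lpr_df (f789502 IH) (Lpe (f789493 IH) (Lpe (K34.f461642 IH) (Lpe (f461629 IH) (Lpn (LP (LK LD1_c22 LD2_c40 LD3_c59))))))))
theorem f789505 : Led Lsl_dt (LP (LK LD1_c14 LD2_c24 LD3_c32)) = (LP (LK LD1_c22 LD2_c40 LD3_c59)) :=
  Leop (Lpe (f789504 IH) (Lpn (LP (LK LD1_c14 LD2_c24 LD3_c32))))
theorem seed_1564 : LEOK LG_d (LK LD1_c14 LD2_c24 LD3_c32) :=
  Leoe_d (LK LD1_c14 LD2_c24 LD3_c32) (f789505 IH)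
theorem f658561 : Led Lsl_ef (LP (LK LD1_c3 LD2_c30 LD3_c24)) = v6802 :=
  Lgr Lrot88 (Lpr_et (f658557 IH) (Lpn v6802))
theorem f658563 : Led Lsl_ct (LP (LK LD1_c3 LD2_c30 LD3_c26)) = v6802 :=
  Lgr Lrot15 (Lpe (K48.f461351 IH) (Lpe (K24.f18822 IH) (Lpr_ef (f658561 IH) (Lpn v6802))))
theorem f657572 : Led Lsl_et (LP (LK LD1_c7 LD2_c9 LD3_c33)) = (LP (LK LD1_c7 LD2_c4 LD3_c14)) :=
  Lgr Lrot87 (Lpr_ef (K46.f657568 IH) (Lpn (LP (LK LD1_c7 LD2_c4 LD3_c14))))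
theorem f658560 : Led Lsl_df (LP (LK LD1_c7 LD2_c9 LD3_c33)) = v6802 :=
  Lgr Lrot70 (Lpr_et (f657572 IH) (Lpr_dt (K46.f458452 IH) (Lpe (K28.f458475 IH) (Lpr_dt (K28.f457652 IH) (Lpr_et (f658557 IH) (Lpn v6802))))))
theorem f657581 : Led Lsl_cf (LP (LK LD1_c7 LD2_c9 LD3_c33)) = (LP (LK LD1_c7 LD2_c39 LD3_c4)) :=
  Lgr Lrot11 (Lpr_ct (K46.f657576 IH) (Lpn (LP (LK LD1_c7 LD2_c39 LD3_c4))))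
theorem f658596 : Led Lsl_dt K48.v2657 = v6809 :=
  Lgr Lrot6 (Lpe (K48.f530151 IH) (Lpr_ct (K46.f62711 IH) (Lpr_gt (K46.f62701 IH) (Lpe (f657581 IH) (Lpr_df (f658560 IH) (Lpe (f658563 IH) (Lpr_gf (K48.f658573 IH) (Lpe (K48.f658574 IH) (Lpq (K48.f627451 IH) (Lpr_gf (f658595 IH) (Lpn v6809)))))))))))
theorem f789501 : Led Lsl_dt (LP (LK LD1_c7 LD2_c38 LD3_c42)) = v20725 :=
  Lgr Lrot113 (Lpe (f519158 IH) (Lpe (K48.f482006 IH) (Lpr_gf (K34.f530049 IH) (Lpe (K34.f530043 IH) (Lpe (K34.f459683 IH) (Lpr_dt (K46.f459684 IH) (Lpr_gt (K48.f530152 IH) (Lpr_dt (f658596 IH) (Lpr_ct (f789500 IH) (Lpn v20725))))))))))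
theorem f789498 : Led Lsl_gt (LP (LK LD1_c7 LD2_c3 LD3_c53)) = v20725 :=
  Lgr Lrot131 (Lpr_ef (K33.f477722 IH) (Lpr_dt (K33.f464025 IH) (Lpe (K29.f464005 IH) (Lpe (K29.f88007 IH) (Lpr_gf (K24.f460405 IH) (Lpe (K24.f460195 IH) (Lpr_dt (K28.f17347 IH) (Lpe (K48.f513839 IH) (Lpe (K34.f461627 IH) (Lpr_et (f789493 IH) (Lpn v20725)))))))))))
theorem f87783 : Led Lsl_dt (LP (LK LD1_c14 LD2_c17 LD3_c53)) = (LP (LK LD1_c7 LD2_c34 LD3_c58)) :=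
  Lre_d IH (LK LD1_c14 LD2_c17 LD3_c53) (LK LD1_c7 LD2_c34 LD3_c58) Lrfl Lrfl
theorem f87784 : Led Lsl_et (LP (LK LD1_c14 LD2_c17 LD3_c53)) = (LP (LK LD1_c23 LD2_c55 LD3_c39)) :=
  Lre_e IH (LK LD1_c14 LD2_c17 LD3_c53) (LK LD1_c23 LD2_c55 LD3_c39) Lrfl Lrfl
theorem f789510 : Led Lsl_gt (LP (LK LD1_c14 LD2_c24 LD3_c32)) = (LP (LK LD1_c23 LD2_c55 LD3_c39)) :=
  Lgr Lrot131 (Lpe (f789503 IH) (Lpr_dt (f789501 IH) (Lpe (f789498 IH) (Lpr_df (K48.f477738 IH) (Lpe (K33.f89694 IH) (Lpe (K2.f87708 IH) (Lpr_dt (K60.f87721 IH) (Lpe (K51.f87775 IH) (Lpe (f87783 IH) (Lpr_et (f87784 IH) (Lpn (LP (LK LD1_c23 LD2_c55 LD3_c39)))))))))))))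
theorem f789511 : Led Lsl_gt (LP (LK LD1_c14 LD2_c24 LD3_c32)) = (LP (LK LD1_c23 LD2_c55 LD3_c39)) :=
  Leop (Lpe (f789510 IH) (Lpn (LP (LK LD1_c14 LD2_c24 LD3_c32))))
theorem seed_1565 : LEOK LG_g (LK LD1_c14 LD2_c24 LD3_c32) :=
  Leoe_g (LK LD1_c14 LD2_c24 LD3_c32) (f789511 IH)
def v20730 : LQ := Led Lsl_et (LP (LK LD1_c7 LD2_c3 LD3_c40))
theorem f789544 : Led Lsl_et (LP (LK LD1_c7 LD2_c3 LD3_c40)) = v20730 :=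
  Lrfl
theorem f789547 : Led Lsl_ef (LP (LK LD1_c7 LD2_c3 LD3_c40)) = v20730 :=
  Lgr Lrot88 (Lpr_et (f789544 IH) (Lpn v20730))
theorem f205460 : Led Lsl_ft (LP (LK LD1_c2 LD2_c9 LD3_c25)) = (LP (LK LD1_c1 LD2_c31 LD3_c7)) :=
  Lgr Lrot75 (Lpe (K8.f80549 IH) (Lpr_ff (K11.f205450 IH) (Lpe (K7.f70531 IH) (Lpn (LP (LK LD1_c1 LD2_c31 LD3_c7))))))
theorem f205698 : Led Lsl_at (LP (LK LD1_c4 LD2_c23 LD3_c58)) = (LP (LK LD1_c2 LD2_c9 LD3_c25)) :=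
  Lre_a IH (LK LD1_c4 LD2_c23 LD3_c58) (LK LD1_c2 LD2_c9 LD3_c25) Lrfl Lrfl
theorem f205699 : Led Lsl_at (LP (LK LD1_c1 LD2_c31 LD3_c7)) = (LP (LK LD1_c3 LD2_c9 LD3_c57)) :=
  Lre_a IH (LK LD1_c1 LD2_c31 LD3_c7) (LK LD1_c3 LD2_c9 LD3_c57) Lrfl Lrfl
theorem f205700 : Led Lsl_ff (LP (LK LD1_c4 LD2_c23 LD3_c58)) = (LP (LK LD1_c3 LD2_c9 LD3_c57)) :=
  Lgr Lrot30 (Lpr_at (f205698 IH) (Lpr_ft (f205460 IH) (Lpr_at (f205699 IH) (Lpn (LP (LK LD1_c3 LD2_c9 LD3_c57))))))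
theorem f544398 : Led Lsl_bt (LP (LK LD1_c4 LD2_c23 LD3_c58)) = (LP (LK LD1_c7 LD2_c12 LD3_c35)) :=
  Lgr Lrot35 (Lpr_ff (f205700 IH) (Lpe (K11.f202829 IH) (Lpr_ff (K37.f544394 IH) (Lpn (LP (LK LD1_c7 LD2_c12 LD3_c35))))))
theorem f108409 : Led Lsl_et (LP (LK LD1_c7 LD2_c12 LD3_c35)) = (LP (LK LD1_c3 LD2_c36 LD3_c10)) :=
  Lre_e IH (LK LD1_c7 LD2_c12 LD3_c35) (LK LD1_c3 LD2_c36 LD3_c10) Lrfl Lrfl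
theorem f108466 : Led Lsl_bt (LP (LK LD1_c3 LD2_c36 LD3_c10)) = (LP (LK LD1_c7 LD2_c12 LD3_c33)) :=
  Lre_b IH (LK LD1_c3 LD2_c36 LD3_c10) (LK LD1_c7 LD2_c12 LD3_c33) Lrfl Lrfl
theorem f621461 : Led Lsl_ef (LP (LK LD1_c4 LD2_c23 LD3_c58)) = (LP (LK LD1_c7 LD2_c12 LD3_c33)) :=
  Lgr Lrot29 (Lpr_bt (f544398 IH) (Lpr_et (f108409 IH) (Lpr_bt (f108466 IH) (Lpn (LP (LK LD1_c7 LD2_c12 LD3_c33))))))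
theorem f386078 : Led Lsl_gt (LP (LK LD1_c2 LD2_c54 LD3_c29)) = (LP (LK LD1_c5 LD2_c56 LD3_c17)) :=
  Lre_g IH (LK LD1_c2 LD2_c54 LD3_c29) (LK LD1_c5 LD2_c56 LD3_c17) Lrfl Lrfl
theorem f425723 : Led Lsl_et (LP (LK LD1_c11 LD2_c37 LD3_c53)) = (LP (LK LD1_c5 LD2_c56 LD3_c17)) :=
  Lre_e IH (LK LD1_c11 LD2_c37 LD3_c53) (LK LD1_c5 LD2_c56 LD3_c17) Lrfl Lrfl
theorem f621465 : Led Lsl_dt (LP (LK LD1_c11 LD2_c37 LD3_c53)) = (LP (LK LD1_c7 LD2_c12 LD3_c15)) :=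
  Lgr Lrot136 (Lpr_et (f425723 IH) (Lpe (f386078 IH) (Lpe (K2.f81764 IH) (Lpr_dt (K2.f69452 IH) (Lpe (K6.f24074 IH) (Lpe (K6.f119700 IH) (Lpr_gf (K8.f161931 IH) (Lpr_ef (f621461 IH) (Lpr_dt (K37.f17875 IH) (Lpe (K34.f513172 IH) (Lpn (LP (LK LD1_c7 LD2_c12 LD3_c15)))))))))))))
theorem f621473 : Led Lsl_ff (LP (LK LD1_c11 LD2_c37 LD3_c53)) = (LP (LK LD1_c13 LD2_c27 LD3_c39)) :=
  Lgr Lrot19 (Lpr_dt (f621465 IH) (Lpr_ft (K34.f513471 IH) (Lpr_dt (K34.f11635 IH) (Lpn (LP (LK LD1_c13 LD2_c27 LD3_c39))))))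
theorem f513430 : Led Lsl_ft (LP (LK LD1_c7 LD2_c12 LD3_c16)) = (LP (LK LD1_c7 LD2_c6 LD3_c11)) :=
  Lgr Lrot4 (Lpe (K33.f441640 IH) (Lpr_ff (K34.f513426 IH) (Lpe (K33.f92440 IH) (Lpn (LP (LK LD1_c7 LD2_c6 LD3_c11))))))
theorem f621520 : Led Lsl_bt (LP (LK LD1_c11 LD2_c37 LD3_c53)) = (LP (LK LD1_c7 LD2_c12 LD3_c16)) :=
  Lgr Lrot35 (Lpr_ff (f621473 IH) (Lpe (K34.f488195 IH) (Lpe (f513430 IH) (Lpn (LP (LK LD1_c7 LD2_c12 LD3_c16))))))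
theorem f599294 : Led Lsl_et (LP (LK LD1_c5 LD2_c56 LD3_c17)) = (LP (LK LD1_c11 LD2_c37 LD3_c53)) :=
  Lre_e IH (LK LD1_c5 LD2_c56 LD3_c17) (LK LD1_c11 LD2_c37 LD3_c53) Lrfl Lrfl
theorem f81719 : Led Lsl_bt (LP (LK LD1_c11 LD2_c37 LD3_c50)) = (LP (LK LD1_c5 LD2_c56 LD3_c17)) :=
  Lre_b IH (LK LD1_c11 LD2_c37 LD3_c50) (LK LD1_c5 LD2_c56 LD3_c17) Lrfl Lrfl
theorem f621524 : Led Lsl_ef (LP (LK LD1_c11 LD2_c37 LD3_c50)) = (LP (LK LD1_c7 LD2_c12 LD3_c16)) :=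
  Lgr Lrot29 (Lpr_bt (f81719 IH) (Lpr_et (f599294 IH) (Lpr_bt (f621520 IH) (Lpn (LP (LK LD1_c7 LD2_c12 LD3_c16))))))
theorem f789554 : Led Lsl_at (LP (LK LD1_c11 LD2_c37 LD3_c50)) = v20730 :=
  Lgr Lrot80 (Lpr_ef (f621524 IH) (Lpr_af (K34.f513436 IH) (Lpr_ef (f789547 IH) (Lpn v20730))))
theorem f544376 : Led Lsl_ef (LP (LK LD1_c12 LD2_c22 LD3_c10)) = (LP (LK LD1_c13 LD2_c38 LD3_c55)) :=
  Lgr Lrot29 (Lpr_bt (K37.f544371 IH) (Lpr_et (K37.f108379 IH) (Lpr_bt (K43.f108362 IH) (Lpn (LP (LK LD1_c13 LD2_c38 LD3_c55))))))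
theorem f117665 : Led Lsl_gt (LP (LK LD1_c6 LD2_c24 LD3_c41)) = (LP (LK LD1_c12 LD2_c22 LD3_c10)) :=
  Lre_g IH (LK LD1_c6 LD2_c24 LD3_c41) (LK LD1_c12 LD2_c22 LD3_c10) Lrfl Lrfl
theorem f117652 : Led Lsl_et (LP (LK LD1_c12 LD2_c22 LD3_c19)) = (LP (LK LD1_c6 LD2_c24 LD3_c41)) :=
  Lre_e IH (LK LD1_c12 LD2_c22 LD3_c19) (LK LD1_c6 LD2_c24 LD3_c41) Lrfl Lrfl
theorem f117650 : Led Lsl_et (LP (LK LD1_c1 LD2_c31 LD3_c7)) = (LP (LK LD1_c3 LD2_c9 LD3_c59)) :=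
  Lre_e IH (LK LD1_c1 LD2_c31 LD3_c7) (LK LD1_c3 LD2_c9 LD3_c59) Lrfl Lrfl
theorem f117651 : Led Lsl_gt (LP (LK LD1_c3 LD2_c9 LD3_c59)) = (LP (LK LD1_c6 LD2_c24 LD3_c41)) :=
  Lre_g IH (LK LD1_c3 LD2_c9 LD3_c59) (LK LD1_c6 LD2_c24 LD3_c41) Lrfl Lrfl
theorem f112476 : Led Lsl_et (LP (LK LD1_c5 LD2_c55 LD3_c48)) = (LP (LK LD1_c2 LD2_c54 LD3_c15)) :=
  Lre_e IH (LK LD1_c5 LD2_c55 LD3_c48) (LK LD1_c2 LD2_c54 LD3_c15) Lrfl Lrfl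
theorem f112477 : Led Lsl_dt (LP (LK LD1_c5 LD2_c55 LD3_c48)) = (LP (LK LD1_c11 LD2_c36 LD3_c48)) :=
  Lre_d IH (LK LD1_c5 LD2_c55 LD3_c48) (LK LD1_c11 LD2_c36 LD3_c48) Lrfl Lrfl
theorem f117653 : Led Lsl_gt (LP (LK LD1_c20 LD2_c35 LD3_c3)) = (LP (LK LD1_c11 LD2_c36 LD3_c48)) :=
  Lre_g IH (LK LD1_c20 LD2_c35 LD3_c3) (LK LD1_c11 LD2_c36 LD3_c48) Lrfl Lrfl
theorem f117654 : Led Lsl_dt (LP (LK LD1_c12 LD2_c22 LD3_c19)) = (LP (LK LD1_c20 LD2_c35 LD3_c3)) :=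
  Lgr Lrot136 (Lpr_et (f117652 IH) (Lpe (f117651 IH) (Lpe (f117650 IH) (Lpr_dt (K8.f69207 IH) (Lpe (K4.f69211 IH) (Lpe (K4.f75518 IH) (Lpr_gf (K4.f117644 IH) (Lpe (f112476 IH) (Lpr_dt (f112477 IH) (Lpe (f117653 IH) (Lpn (LP (LK LD1_c20 LD2_c35 LD3_c3)))))))))))))
theorem f82107 : Led Lsl_gt (LP (LK LD1_c11 LD2_c37 LD3_c60)) = (LP (LK LD1_c20 LD2_c35 LD3_c3)) :=
  Lre_g IH (LK LD1_c11 LD2_c37 LD3_c60) (LK LD1_c20 LD2_c35 LD3_c3) Lrfl Lrfl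
theorem f81739 : Led Lsl_dt (LP (LK LD1_c5 LD2_c56 LD3_c20)) = (LP (LK LD1_c11 LD2_c37 LD3_c60)) :=
  Lre_d IH (LK LD1_c5 LD2_c56 LD3_c20) (LK LD1_c11 LD2_c37 LD3_c60) Lrfl Lrfl
theorem f81750 : Led Lsl_gt (LP (LK LD1_c11 LD2_c36 LD3_c46)) = (LP (LK LD1_c5 LD2_c56 LD3_c20)) :=
  Lre_g IH (LK LD1_c11 LD2_c36 LD3_c46) (LK LD1_c5 LD2_c56 LD3_c20) Lrfl Lrfl
theorem f117666 : Led Lsl_et (LP (LK LD1_c20 LD2_c34 LD3_c61)) = (LP (LK LD1_c11 LD2_c36 LD3_c46)) :=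
  Lre_e IH (LK LD1_c20 LD2_c34 LD3_c61) (LK LD1_c11 LD2_c36 LD3_c46) Lrfl Lrfl
theorem f621538 : Led Lsl_dt (LP (LK LD1_c20 LD2_c34 LD3_c61)) = (LP (LK LD1_c13 LD2_c38 LD3_c36)) :=
  Lgr Lrot37 (Lpr_et (f117666 IH) (Lpr_gt (f81750 IH) (Lpr_dt (f81739 IH) (Lpr_gt (f82107 IH) (Lpe (f117654 IH) (Lpr_et (f117652 IH) (Lpr_gt (f117665 IH) (Lpr_ef (f544376 IH) (Lpr_dt (K43.f17863 IH) (Lpe (K41.f513473 IH) (Lpn (LP (LK LD1_c13 LD2_c38 LD3_c36)))))))))))))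
theorem f17892 : Led Lsl_dt (LP (LK LD1_c7 LD2_c12 LD3_c32)) = (LP (LK LD1_c13 LD2_c38 LD3_c51)) :=
  Lre_d IH (LK LD1_c7 LD2_c12 LD3_c32) (LK LD1_c13 LD2_c38 LD3_c51) Lrfl Lrfl
theorem f621544 : Led Lsl_ff (LP (LK LD1_c20 LD2_c34 LD3_c61)) = (LP (LK LD1_c13 LD2_c38 LD3_c51)) :=
  Lgr Lrot19 (Lpr_dt (f621538 IH) (Lpr_ft (K34.f513215 IH) (Lpr_dt (f17892 IH) (Lpn (LP (LK LD1_c13 LD2_c38 LD3_c51))))))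
theorem f513481 : Led Lsl_at (LP (LK LD1_c13 LD2_c38 LD3_c51)) = (LP (LK LD1_c13 LD2_c27 LD3_c39)) :=
  Lgr Lrot51 (Lpe (f17892 IH) (Lpr_af (K34.f513477 IH) (Lpe (K47.f11618 IH) (Lpn (LP (LK LD1_c13 LD2_c27 LD3_c39))))))
theorem f513509 : Led Lsl_af (LP (LK LD1_c13 LD2_c38 LD3_c51)) = (LP (LK LD1_c13 LD2_c27 LD3_c39)) :=
  Lgr Lrot0 (Lpr_at (f513481 IH) (Lpn (LP (LK LD1_c13 LD2_c27 LD3_c39))))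
theorem f621467 : Led Lsl_gt (LP (LK LD1_c20 LD2_c36 LD3_c29)) = (LP (LK LD1_c11 LD2_c37 LD3_c53)) :=
  Lre_g IH (LK LD1_c20 LD2_c36 LD3_c29) (LK LD1_c11 LD2_c37 LD3_c53) Lrfl Lrfl
theorem f97959 : Led Lsl_et (LP (LK LD1_c1 LD2_c52 LD3_c16)) = (LP (LK LD1_c3 LD2_c50 LD3_c50)) :=
  Lre_e IH (LK LD1_c1 LD2_c52 LD3_c16) (LK LD1_c3 LD2_c50 LD3_c50) Lrfl Lrfl
theorem f427110 : Led Lsl_et (LP (LK LD1_c14 LD2_c32 LD3_c24)) = (LP (LK LD1_c7 LD2_c42 LD3_c46)) :=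
  Lre_e IH (LK LD1_c14 LD2_c32 LD3_c24) (LK LD1_c7 LD2_c42 LD3_c46) Lrfl Lrfl
theorem f427111 : Led Lsl_dt (LP (LK LD1_c14 LD2_c32 LD3_c24)) = (LP (LK LD1_c24 LD2_c14 LD3_c39)) :=
  Lre_d IH (LK LD1_c14 LD2_c32 LD3_c24) (LK LD1_c24 LD2_c14 LD3_c39) Lrfl Lrfl
theorem f512708 : Led Lsl_dt (LP (LK LD1_c13 LD2_c3 LD3_c26)) = (LP (LK LD1_c22 LD2_c13 LD3_c15)) :=
  Lre_d IH (LK LD1_c13 LD2_c3 LD3_c26) (LK LD1_c22 LD2_c13 LD3_c15) Lrfl Lrfl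
theorem f612207 : Led Lsl_gf (LP (LK LD1_c24 LD2_c14 LD3_c39)) = (LP (LK LD1_c22 LD2_c13 LD3_c15)) :=
  Lgr Lrot134 (Lpe (f427111 IH) (Lpr_et (f427110 IH) (Lpr_gt (K29.f97953 IH) (Lpe (f97959 IH) (Lpr_dt (K42.f97753 IH) (Lpe (K44.f427107 IH) (Lpr_df (K40.f427065 IH) (Lpr_et (K36.f426705 IH) (Lpr_gt (K46.f575220 IH) (Lpr_dt (f512708 IH) (Lpn (LP (LK LD1_c22 LD2_c13 LD3_c15)))))))))))))
theorem f512696 : Led Lsl_dt (LP (LK LD1_c30 LD2_c20 LD3_c51)) = (LP (LK LD1_c22 LD2_c12 LD3_c37)) :=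
  Lre_d IH (LK LD1_c30 LD2_c20 LD3_c51) (LK LD1_c22 LD2_c12 LD3_c37) Lrfl Lrfl
theorem f512711 : Led Lsl_ff (LP (LK LD1_c30 LD2_c20 LD3_c51)) = (LP (LK LD1_c22 LD2_c13 LD3_c15)) :=
  Lgr Lrot19 (Lpr_dt (f512696 IH) (Lpr_ft (K41.f512704 IH) (Lpr_dt (f512708 IH) (Lpn (LP (LK LD1_c22 LD2_c13 LD3_c15))))))
theorem f512714 : Led Lsl_at (LP (LK LD1_c30 LD2_c20 LD3_c51)) = (LP (LK LD1_c22 LD2_c12 LD3_c38)) :=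
  Lre_a IH (LK LD1_c30 LD2_c20 LD3_c51) (LK LD1_c22 LD2_c12 LD3_c38) Lrfl Lrfl
theorem f612209 : Led Lsl_gt (LP (LK LD1_c24 LD2_c14 LD3_c39)) = (LP (LK LD1_c22 LD2_c12 LD3_c38)) :=
  Lgr Lrot46 (Lpr_gf (f612207 IH) (Lpe (f512711 IH) (Lpr_at (f512714 IH) (Lpn (LP (LK LD1_c22 LD2_c12 LD3_c38))))))
theorem f478223 : Led Lsl_et (LP (LK LD1_c13 LD2_c28 LD3_c2)) = (LP (LK LD1_c22 LD2_c47 LD3_c30)) :=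
  Lre_e IH (LK LD1_c13 LD2_c28 LD3_c2) (LK LD1_c22 LD2_c47 LD3_c30) Lrfl Lrfl
theorem f578268 : Led Lsl_gt (LP (LK LD1_c21 LD2_c14 LD3_c16)) = (LP (LK LD1_c12 LD2_c8 LD3_c11)) :=
  Lgr Lrot5 (Lpr_ft (K43.f578258 IH) (Lpe (K43.f499034 IH) (Lpe (f576780 IH) (Lpn (LP (LK LD1_c12 LD2_c8 LD3_c11))))))
theorem f578217 : Led Lsl_dt (LP (LK LD1_c22 LD2_c13 LD3_c13)) = (LP (LK LD1_c21 LD2_c13 LD3_c51)) :=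
  Lgr Lrot42 (Lpr_df (K43.f578210 IH) (Lpn (LP (LK LD1_c21 LD2_c13 LD3_c51))))
theorem f543516 : Led Lsl_dt (LP (LK LD1_c21 LD2_c13 LD3_c54)) = (LP (LK LD1_c12 LD2_c7 LD3_c38)) :=
  Lre_d IH (LK LD1_c21 LD2_c13 LD3_c54) (LK LD1_c12 LD2_c7 LD3_c38) Lrfl Lrfl
theorem f606680 : Led Lsl_gt (LP (LK LD1_c22 LD2_c47 LD3_c30)) = (LP (LK LD1_c21 LD2_c13 LD3_c54)) :=
  Lgr Lrot137 (Lpe (f478223 IH) (Lpr_dt (K60.f478224 IH) (Lpr_gf (f606677 IH) (Lpe (f70743 IH) (Lpr_et (f70752 IH) (Lpe (f578268 IH) (Lpr_ef (K44.f578266 IH) (Lpr_dt (f578217 IH) (Lpe (K43.f543515 IH) (Lpe (f543516 IH) (Lpn (LP (LK LD1_c21 LD2_c13 LD3_c54)))))))))))))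
theorem f478137 : Led Lsl_et (LP (LK LD1_c22 LD2_c47 LD3_c30)) = (LP (LK LD1_c13 LD2_c28 LD3_c2)) :=
  Lre_e IH (LK LD1_c22 LD2_c47 LD3_c30) (LK LD1_c13 LD2_c28 LD3_c2) Lrfl Lrfl
theorem f478138 : Led Lsl_et (LP (LK LD1_c7 LD2_c42 LD3_c46)) = (LP (LK LD1_c14 LD2_c32 LD3_c24)) :=
  Lre_e IH (LK LD1_c7 LD2_c42 LD3_c46) (LK LD1_c14 LD2_c32 LD3_c24) Lrfl Lrfl
theorem f478139 : Led Lsl_cf (LP (LK LD1_c22 LD2_c47 LD3_c30)) = (LP (LK LD1_c14 LD2_c32 LD3_c24)) :=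
  Lgr Lrot39 (Lpr_et (f478137 IH) (Lpr_ct (K29.f478127 IH) (Lpr_et (f478138 IH) (Lpn (LP (LK LD1_c14 LD2_c32 LD3_c24))))))
theorem f478215 : Led Lsl_ct (LP (LK LD1_c22 LD2_c47 LD3_c30)) = (LP (LK LD1_c14 LD2_c32 LD3_c24)) :=
  Lgr Lrot59 (Lpr_cf (f478139 IH) (Lpn (LP (LK LD1_c14 LD2_c32 LD3_c24))))
theorem f472509 : Led Lsl_dt (LP (LK LD1_c13 LD2_c11 LD3_c26)) = (LP (LK LD1_c6 LD2_c56 LD3_c50)) :=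
  Lre_d IH (LK LD1_c13 LD2_c11 LD3_c26) (LK LD1_c6 LD2_c56 LD3_c50) Lrfl Lrfl
theorem f473836 : Led Lsl_df (LP (LK LD1_c13 LD2_c3 LD3_c38)) = (LP (LK LD1_c13 LD2_c11 LD3_c27)) :=
  Lgr Lrot78 (Lpr_ft (K41.f473828 IH) (Lpr_dt (f472509 IH) (Lpr_ft (K43.f473835 IH) (Lpn (LP (LK LD1_c13 LD2_c11 LD3_c27))))))
theorem f606682 : Led Lsl_gt (LP (LK LD1_c14 LD2_c32 LD3_c24)) = (LP (LK LD1_c13 LD2_c11 LD3_c27)) :=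
  Lgr Lrot94 (Lpe (f478215 IH) (Lpr_gt (f606680 IH) (Lpr_dt (f543516 IH) (Lpr_gt (K43.f543515 IH) (Lpe (K43.f578210 IH) (Lpe (K43.f488225 IH) (Lpe (K41.f513063 IH) (Lpe (K43.f513500 IH) (Lpr_df (f473836 IH) (Lpn (LP (LK LD1_c13 LD2_c11 LD3_c27))))))))))))
theorem f606684 : Led Lsl_gf (LP (LK LD1_c14 LD2_c32 LD3_c24)) = (LP (LK LD1_c13 LD2_c11 LD3_c18)) :=
  Lgr Lrot47 (Lpr_gt (f606682 IH) (Lpe (K43.f473915 IH) (Lpe (K43.f473897 IH) (Lpn (LP (LK LD1_c13 LD2_c11 LD3_c18))))))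
theorem f621477 : Led Lsl_df (LP (LK LD1_c20 LD2_c36 LD3_c29)) = (LP (LK LD1_c13 LD2_c33 LD3_c42)) :=
  Lgr Lrot153 (Lpr_gt (f621467 IH) (Lpr_dt (f621465 IH) (Lpr_cf (K41.f513165 IH) (Lpe (K34.f512691 IH) (Lpe (f612209 IH) (Lpe (f427111 IH) (Lpr_gf (f606684 IH) (Lpe (K43.f475866 IH) (Lpr_gt (K43.f522650 IH) (Lpn (LP (LK LD1_c13 LD2_c33 LD3_c42))))))))))))
theorem f522648 : Led Lsl_ff (LP (LK LD1_c13 LD2_c40 LD3_c58)) = (LP (LK LD1_c13 LD2_c33 LD3_c47)) :=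
  Lgr Lrot3 (Lpr_ft (K43.f522631 IH) (Lpn (LP (LK LD1_c13 LD2_c33 LD3_c47))))
theorem f473917 : Led Lsl_at (LP (LK LD1_c6 LD2_c56 LD3_c50)) = (LP (LK LD1_c13 LD2_c11 LD3_c18)) :=
  Lre_a IH (LK LD1_c6 LD2_c56 LD3_c50) (LK LD1_c13 LD2_c11 LD3_c18) Lrfl Lrfl
theorem f475874 : Led Lsl_at (LP (LK LD1_c13 LD2_c40 LD3_c58)) = (LP (LK LD1_c13 LD2_c11 LD3_c19)) :=
  Lgr Lrot107 (Lpr_cf (K43.f475872 IH) (Lpe (f473917 IH) (Lpe (K43.f472512 IH) (Lpn (LP (LK LD1_c13 LD2_c11 LD3_c19))))))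
theorem f472518 : Led Lsl_gt (LP (LK LD1_c22 LD2_c23 LD3_c56)) = (LP (LK LD1_c13 LD2_c11 LD3_c19)) :=
  Lre_g IH (LK LD1_c22 LD2_c23 LD3_c56) (LK LD1_c13 LD2_c11 LD3_c19) Lrfl Lrfl
theorem f522656 : Led Lsl_gf (LP (LK LD1_c22 LD2_c23 LD3_c56)) = (LP (LK LD1_c13 LD2_c33 LD3_c47)) :=
  Lgr Lrot47 (Lpr_gt (f472518 IH) (Lpe (f475874 IH) (Lpr_ff (f522648 IH) (Lpn (LP (LK LD1_c13 LD2_c33 LD3_c47))))))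
theorem f522658 : Led Lsl_af (LP (LK LD1_c22 LD2_c23 LD3_c56)) = (LP (LK LD1_c13 LD2_c33 LD3_c49)) :=
  Lgr Lrot31 (Lpr_gf (f522656 IH) (Lpe (K43.f488199 IH) (Lpr_ft (K43.f519249 IH) (Lpn (LP (LK LD1_c13 LD2_c33 LD3_c49))))))
theorem f467214 : Led Lsl_at (LP (LK LD1_c13 LD2_c33 LD3_c42)) = (LP (LK LD1_c7 LD2_c9 LD3_c39)) :=
  Lre_a IH (LK LD1_c13 LD2_c33 LD3_c42) (LK LD1_c7 LD2_c9 LD3_c39) Lrfl Lrfl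
theorem f522662 : Led Lsl_ft (LP (LK LD1_c22 LD2_c23 LD3_c56)) = (LP (LK LD1_c13 LD2_c33 LD3_c42)) :=
  Lgr Lrot101 (Lpr_af (f522658 IH) (Lpe (K43.f519249 IH) (Lpe (f467214 IH) (Lpn (LP (LK LD1_c13 LD2_c33 LD3_c42))))))
theorem f607039 : Led Lsl_cf (LP (LK LD1_c11 LD2_c23 LD3_c19)) = (LP (LK LD1_c12 LD2_c6 LD3_c58)) :=
  Lgr Lrot166 (Lpr_gt (K43.f576274 IH) (Lpr_dt (K46.f40019 IH) (Lpe (K37.f420703 IH) (Lpr_dt (K37.f201955 IH) (Lpr_ct (K37.f210835 IH) (Lpr_df (K37.f544189 IH) (Lpe (K46.f576650 IH) (Lpe (K46.f35880 IH) (Lpr_gf (K46.f607035 IH) (Lpn (LP (LK LD1_c12 LD2_c6 LD3_c58))))))))))))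
theorem f70717 : Led Lsl_dt (LP (LK LD1_c6 LD2_c14 LD3_c56)) = (LP (LK LD1_c8 LD2_c48 LD3_c33)) :=
  Lgr Lrot42 (Lpr_df (K46.f70561 IH) (Lpn (LP (LK LD1_c8 LD2_c48 LD3_c33))))
theorem f576604 : Led Lsl_ct (LP (LK LD1_c8 LD2_c48 LD3_c33)) = (LP (LK LD1_c8 LD2_c47 LD3_c52)) :=
  Lgr Lrot7 (Lpe (f70717 IH) (Lpr_gf (K43.f576602 IH) (Lpr_df (K40.f554163 IH) (Lpe (K11.f38140 IH) (Lpe (K37.f543452 IH) (Lpe (K37.f420716 IH) (Lpr_dt (K37.f210848 IH) (Lpr_gt (K37.f420662 IH) (Lpr_dt (K43.f420664 IH) (Lpn (LP (LK LD1_c8 LD2_c47 LD3_c52))))))))))))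
theorem f607173 : Led Lsl_bt (LP (LK LD1_c12 LD2_c6 LD3_c58)) = (LP (LK LD1_c21 LD2_c13 LD3_c4)) :=
  Lre_b IH (LK LD1_c12 LD2_c6 LD3_c58) (LK LD1_c21 LD2_c13 LD3_c4) Lrfl Lrfl
theorem f607174 : Led Lsl_gf (LP (LK LD1_c13 LD2_c27 LD3_c39)) = (LP (LK LD1_c21 LD2_c13 LD3_c4)) :=
  Lgr Lrot124 (Lpe (K34.f488195 IH) (Lpr_ct (K33.f92440 IH) (Lpr_gt (K34.f510744 IH) (Lpe (K34.f470692 IH) (Lpr_bt (K55.f470703 IH) (Lpr_gt (K46.f561081 IH) (Lpr_ct (f576604 IH) (Lpe (K43.f576298 IH) (Lpr_cf (f607039 IH) (Lpr_bt (f607173 IH) (Lpn (LP (LK LD1_c21 LD2_c13 LD3_c4)))))))))))))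
theorem f522666 : Led Lsl_gt (LP (LK LD1_c13 LD2_c11 LD3_c19)) = (LP (LK LD1_c7 LD2_c9 LD3_c39)) :=
  Lgr Lrot46 (Lpe (f472518 IH) (Lpr_ft (f522662 IH) (Lpr_at (f467214 IH) (Lpn (LP (LK LD1_c7 LD2_c9 LD3_c39))))))
theorem f529503 : Led Lsl_dt (LP (LK LD1_c13 LD2_c11 LD3_c25)) = (LP (LK LD1_c22 LD2_c13 LD3_c18)) :=
  Lgr Lrot6 (Lpr_gt (K43.f472513 IH) (Lpr_ct (K43.f472507 IH) (Lpr_gt (f522666 IH) (Lpr_ct (K34.f467200 IH) (Lpe (K34.f467137 IH) (Lpr_cf (K48.f529499 IH) (Lpe (K48.f473010 IH) (Lpe (K48.f488218 IH) (Lpe (K48.f91096 IH) (Lpn (LP (LK LD1_c22 LD2_c13 LD3_c18))))))))))))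
theorem f607176 : Led Lsl_dt (LP (LK LD1_c22 LD2_c23 LD3_c56)) = (LP (LK LD1_c21 LD2_c13 LD3_c4)) :=
  Lgr Lrot57 (Lpr_gf (f522656 IH) (Lpe (K43.f522629 IH) (Lpr_gt (K43.f473906 IH) (Lpr_dt (f529503 IH) (Lpr_gt (K48.f91096 IH) (Lpr_dt (K35.f91063 IH) (Lpr_cf (K43.f488208 IH) (Lpe (K47.f11618 IH) (Lpr_gf (f607174 IH) (Lpn (LP (LK LD1_c21 LD2_c13 LD3_c4))))))))))))
theorem f607184 : Led Lsl_df (LP (LK LD1_c22 LD2_c23 LD3_c56)) = (LP (LK LD1_c21 LD2_c13 LD3_c4)) :=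
  Lgr Lrot38 (Lpr_dt (f607176 IH) (Lpn (LP (LK LD1_c21 LD2_c13 LD3_c4))))
theorem f621493 : Led Lsl_ft (LP (LK LD1_c20 LD2_c36 LD3_c29)) = (LP (LK LD1_c21 LD2_c13 LD3_c4)) :=
  Lgr Lrot54 (Lpr_df (f621477 IH) (Lpe (f522662 IH) (Lpr_df (f607184 IH) (Lpn (LP (LK LD1_c21 LD2_c13 LD3_c4))))))
theorem f607182 : Led Lsl_af (LP (LK LD1_c20 LD2_c36 LD3_c8)) = (LP (LK LD1_c21 LD2_c13 LD3_c4)) :=
  Lgr Lrot117 (Lpr_dt (K43.f578027 IH) (Lpe (f522658 IH) (Lpr_dt (f607176 IH) (Lpn (LP (LK LD1_c21 LD2_c13 LD3_c4))))))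
theorem f621497 : Led Lsl_af (LP (LK LD1_c20 LD2_c36 LD3_c29)) = (LP (LK LD1_c13 LD2_c33 LD3_c48)) :=
  Lgr Lrot45 (Lpr_ft (f621493 IH) (Lpe (f607182 IH) (Lpr_ft (K43.f578019 IH) (Lpn (LP (LK LD1_c13 LD2_c33 LD3_c48))))))
theorem f621495 : Led Lsl_gf (LP (LK LD1_c20 LD2_c36 LD3_c29)) = (LP (LK LD1_c13 LD2_c38 LD3_c51)) :=
  Lgr Lrot134 (Lpr_df (f621477 IH) (Lpr_et (K43.f516457 IH) (Lpr_gt (K43.f516631 IH) (Lpe (K28.f97919 IH) (Lpe (K42.f155708 IH) (Lpr_gt (K8.f108539 IH) (Lpe (K41.f17907 IH) (Lpr_et (K4.f17882 IH) (Lpr_gt (K34.f17891 IH) (Lpr_dt (f17892 IH) (Lpn (LP (LK LD1_c13 LD2_c38 LD3_c51)))))))))))))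
theorem f621507 : Led Lsl_gf (LP (LK LD1_c13 LD2_c38 LD3_c51)) = (LP (LK LD1_c20 LD2_c36 LD3_c8)) :=
  Lgr Lrot47 (Lpe (f621495 IH) (Lpr_af (f621497 IH) (Lpe (K43.f578019 IH) (Lpn (LP (LK LD1_c20 LD2_c36 LD3_c8))))))
theorem f621503 : Led Lsl_gt (LP (LK LD1_c11 LD2_c37 LD3_c53)) = (LP (LK LD1_c20 LD2_c36 LD3_c8)) :=
  Lgr Lrot46 (Lpe (f621467 IH) (Lpr_ft (f621493 IH) (Lpe (f607182 IH) (Lpn (LP (LK LD1_c20 LD2_c36 LD3_c8))))))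
theorem f621509 : Led Lsl_ff (LP (LK LD1_c13 LD2_c27 LD3_c39)) = (LP (LK LD1_c11 LD2_c37 LD3_c53)) :=
  Lgr Lrot52 (Lpe (f513509 IH) (Lpr_gf (f621507 IH) (Lpe (f621503 IH) (Lpn (LP (LK LD1_c11 LD2_c37 LD3_c53))))))
theorem f621582 : Led Lsl_at (LP (LK LD1_c20 LD2_c34 LD3_c61)) = (LP (LK LD1_c11 LD2_c37 LD3_c53)) :=
  Lgr Lrot66 (Lpr_ff (f621544 IH) (Lpr_af (f513509 IH) (Lpr_ff (f621509 IH) (Lpn (LP (LK LD1_c11 LD2_c37 LD3_c53))))))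
theorem f606160 : Led Lsl_et (LP (LK LD1_c11 LD2_c36 LD3_c46)) = (LP (LK LD1_c20 LD2_c34 LD3_c61)) :=
  Lre_e IH (LK LD1_c11 LD2_c36 LD3_c46) (LK LD1_c20 LD2_c34 LD3_c61) Lrfl Lrfl
theorem f621584 : Led Lsl_af (LP (LK LD1_c11 LD2_c36 LD3_c46)) = (LP (LK LD1_c5 LD2_c56 LD3_c17)) :=
  Lgr Lrot50 (Lpr_et (f606160 IH) (Lpr_at (f621582 IH) (Lpr_et (f425723 IH) (Lpn (LP (LK LD1_c5 LD2_c56 LD3_c17))))))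
theorem f425918 : Led Lsl_gt (LP (LK LD1_c5 LD2_c55 LD3_c48)) = (LP (LK LD1_c11 LD2_c36 LD3_c46)) :=
  Lre_g IH (LK LD1_c5 LD2_c55 LD3_c48) (LK LD1_c11 LD2_c36 LD3_c46) Lrfl Lrfl
theorem f71942 : Led Lsl_gt (LP (LK LD1_c11 LD2_c36 LD3_c47)) = (LP (LK LD1_c5 LD2_c55 LD3_c48)) :=
  Lre_g IH (LK LD1_c11 LD2_c36 LD3_c47) (LK LD1_c5 LD2_c55 LD3_c48) Lrfl Lrfl
theorem f621591 : Led Lsl_ft (LP (LK LD1_c11 LD2_c36 LD3_c47)) = (LP (LK LD1_c5 LD2_c56 LD3_c17)) :=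
  Lgr Lrot2 (Lpr_gt (f71942 IH) (Lpr_gt (f425918 IH) (Lpr_af (f621584 IH) (Lpn (LP (LK LD1_c5 LD2_c56 LD3_c17))))))
theorem f621599 : Led Lsl_ff (LP (LK LD1_c11 LD2_c36 LD3_c47)) = (LP (LK LD1_c5 LD2_c56 LD3_c17)) :=
  Lgr Lrot3 (Lpr_ft (f621591 IH) (Lpn (LP (LK LD1_c5 LD2_c56 LD3_c17))))
theorem f621601 : Led Lsl_bt (LP (LK LD1_c11 LD2_c36 LD3_c47)) = (LP (LK LD1_c20 LD2_c35 LD3_c0)) :=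
  Lre_b IH (LK LD1_c11 LD2_c36 LD3_c47) (LK LD1_c20 LD2_c35 LD3_c0) Lrfl Lrfl
theorem f621602 : Led Lsl_ft (LP (LK LD1_c20 LD2_c35 LD3_c0)) = (LP (LK LD1_c11 LD2_c37 LD3_c50)) :=
  Lgr Lrot75 (Lpe (f621601 IH) (Lpr_ff (f621599 IH) (Lpe (f81719 IH) (Lpn (LP (LK LD1_c11 LD2_c37 LD3_c50))))))
theorem f441594 : Led Lsl_et (LP (LK LD1_c3 LD2_c32 LD3_c41)) = (LP (LK LD1_c7 LD2_c6 LD3_c9)) :=
  Lre_e IH (LK LD1_c3 LD2_c32 LD3_c41) (LK LD1_c7 LD2_c6 LD3_c9) Lrfl Lrfl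
theorem f540493 : Led Lsl_gt (LP (LK LD1_c4 LD2_c24 LD3_c11)) = (LP (LK LD1_c3 LD2_c32 LD3_c39)) :=
  Lgr Lrot131 (Lpe (K35.f81070 IH) (Lpr_dt (K35.f538490 IH) (Lpe (K35.f31747 IH) (Lpe (K42.f36203 IH) (Lpr_gf (K36.f540491 IH) (Lpe (K36.f94442 IH) (Lpr_dt (K3.f94422 IH) (Lpr_gf (K4.f94431 IH) (Lpe (K3.f10779 IH) (Lpr_et (K36.f94443 IH) (Lpn (LP (LK LD1_c3 LD2_c32 LD3_c39)))))))))))))
theorem f11643 : Led Lsl_dt (LP (LK LD1_c3 LD2_c32 LD3_c39)) = (LP (LK LD1_c7 LD2_c6 LD3_c9)) :=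
  Lre_d IH (LK LD1_c3 LD2_c32 LD3_c39) (LK LD1_c7 LD2_c6 LD3_c9) Lrfl Lrfl
theorem f544406 : Led Lsl_gf (LP (LK LD1_c8 LD2_c45 LD3_c41)) = (LP (LK LD1_c7 LD2_c6 LD3_c9)) :=
  Lgr Lrot143 (Lpe (K7.f137657 IH) (Lpe (K36.f137876 IH) (Lpr_df (K28.f70490 IH) (Lpr_gf (K37.f544402 IH) (Lpe (K37.f108530 IH) (Lpe (K36.f540414 IH) (Lpe (K5.f80688 IH) (Lpr_gt (f540493 IH) (Lpr_dt (f11643 IH) (Lpn (LP (LK LD1_c7 LD2_c6 LD3_c9))))))))))))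
theorem f142194 : Led Lsl_et (LP (LK LD1_c8 LD2_c1 LD3_c15)) = (LP (LK LD1_c15 LD2_c6 LD3_c9)) :=
  Lre_e IH (LK LD1_c8 LD2_c1 LD3_c15) (LK LD1_c15 LD2_c6 LD3_c9) Lrfl Lrfl
theorem f789548 : Led Lsl_gt (LP (LK LD1_c15 LD2_c6 LD3_c9)) = v20730 :=
  Lgr Lrot131 (Lpe (f142194 IH) (Lpr_dt (K36.f142218 IH) (Lpe (K36.f142236 IH) (Lpr_df (K7.f137657 IH) (Lpr_gf (f544406 IH) (Lpe (f441594 IH) (Lpr_dt (K28.f128106 IH) (Lpe (K28.f466466 IH) (Lpe (K34.f466478 IH) (Lpr_et (f789544 IH) (Lpn v20730)))))))))))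
theorem f789555 : Led Lsl_gt (LP (LK LD1_c20 LD2_c35 LD3_c0)) = (LP (LK LD1_c15 LD2_c6 LD3_c9)) :=
  Lgr Lrot5 (Lpr_ft (f621602 IH) (Lpr_at (f789554 IH) (Lpe (f789548 IH) (Lpn (LP (LK LD1_c15 LD2_c6 LD3_c9))))))
theorem f789556 : Led Lsl_gt (LP (LK LD1_c20 LD2_c35 LD3_c0)) = (LP (LK LD1_c15 LD2_c6 LD3_c9)) :=
  Leop (Lpe (f789555 IH) (Lpn (LP (LK LD1_c20 LD2_c35 LD3_c0))))
theorem seed_1566 : LEOK LG_g (LK LD1_c20 LD2_c35 LD3_c0) :=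
  Leoe_g (LK LD1_c20 LD2_c35 LD3_c0) (f789556 IH)
def v20767 : LQ := Led Lsl_gt (LP (LK LD1_c7 LD2_c4 LD3_c16))
theorem f789818 : Led Lsl_gt (LP (LK LD1_c7 LD2_c4 LD3_c16)) = v20767 :=
  Lrfl
theorem f458507 : Led Lsl_gt (LP (LK LD1_c13 LD2_c21 LD3_c37)) = (LP (LK LD1_c7 LD2_c2 LD3_c42)) :=
  Lre_g IH (LK LD1_c13 LD2_c21 LD3_c37) (LK LD1_c7 LD2_c2 LD3_c42) Lrfl Lrfl
theorem f789819 : Led Lsl_cf (LP (LK LD1_c13 LD2_c21 LD3_c37)) = v20767 :=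
  Lgr Lrot125 (Lpr_gt (f458507 IH) (Lpe (f18978 IH) (Lpr_bt (K46.f18977 IH) (Lpr_gt (K24.f64272 IH) (Lpe (K34.f455590 IH) (Lpr_ct (K34.f455572 IH) (Lpr_gt (K24.f18073 IH) (Lpe (K28.f458446 IH) (Lpr_bt (K28.f458454 IH) (Lpr_gt (f789818 IH) (Lpn v20767)))))))))))
theorem f461412 : Led Lsl_dt (LP (LK LD1_c3 LD2_c30 LD3_c23)) = (LP (LK LD1_c7 LD2_c2 LD3_c43)) :=
  Lre_d IH (LK LD1_c3 LD2_c30 LD3_c23) (LK LD1_c7 LD2_c2 LD3_c43) Lrfl Lrfl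
theorem f461411 : Led Lsl_ct (LP (LK LD1_c13 LD2_c21 LD3_c41)) = (LP (LK LD1_c7 LD2_c2 LD3_c43)) :=
  Lre_c IH (LK LD1_c13 LD2_c21 LD3_c41) (LK LD1_c7 LD2_c2 LD3_c43) Lrfl Lrfl
theorem f461401 : Led Lsl_gt (LP (LK LD1_c22 LD2_c38 LD3_c35)) = (LP (LK LD1_c13 LD2_c21 LD3_c41)) :=
  Lre_g IH (LK LD1_c22 LD2_c38 LD3_c35) (LK LD1_c13 LD2_c21 LD3_c41) Lrfl Lrfl
theorem f461396 : Led Lsl_bt (LP (LK LD1_c3 LD2_c30 LD3_c42)) = (LP (LK LD1_c7 LD2_c3 LD3_c22)) :=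
  Lre_b IH (LK LD1_c3 LD2_c30 LD3_c42) (LK LD1_c7 LD2_c3 LD3_c22) Lrfl Lrfl
theorem f461397 : Led Lsl_gt (LP (LK LD1_c7 LD2_c3 LD3_c22)) = (LP (LK LD1_c13 LD2_c22 LD3_c49)) :=
  Lre_g IH (LK LD1_c7 LD2_c3 LD3_c22) (LK LD1_c13 LD2_c22 LD3_c49) Lrfl Lrfl
theorem f461400 : Led Lsl_bt (LP (LK LD1_c22 LD2_c40 LD3_c27)) = (LP (LK LD1_c13 LD2_c22 LD3_c49)) :=
  Lre_b IH (LK LD1_c22 LD2_c40 LD3_c27) (LK LD1_c13 LD2_c22 LD3_c49) Lrfl Lrfl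
theorem f461345 : Led Lsl_bt (LP (LK LD1_c7 LD2_c2 LD3_c43)) = (LP (LK LD1_c3 LD2_c30 LD3_c25)) :=
  Lre_b IH (LK LD1_c7 LD2_c2 LD3_c43) (LK LD1_c3 LD2_c30 LD3_c25) Lrfl Lrfl
theorem f461346 : Led Lsl_ct (LP (LK LD1_c7 LD2_c2 LD3_c43)) = (LP (LK LD1_c13 LD2_c21 LD3_c41)) :=
  Lre_c IH (LK LD1_c7 LD2_c2 LD3_c43) (LK LD1_c13 LD2_c21 LD3_c41) Lrfl Lrfl
theorem f461402 : Led Lsl_ct (LP (LK LD1_c22 LD2_c40 LD3_c27)) = (LP (LK LD1_c22 LD2_c38 LD3_c35)) :=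
  Lgr Lrot64 (Lpr_bt (f461400 IH) (Lpe (f461397 IH) (Lpe (f461396 IH) (Lpr_ct (K29.f460436 IH) (Lpr_gf (K29.f461385 IH) (Lpe (K29.f461387 IH) (Lpe (K29.f461392 IH) (Lpe (f461345 IH) (Lpr_ct (f461346 IH) (Lpe (f461401 IH) (Lpn (LP (LK LD1_c22 LD2_c38 LD3_c35)))))))))))))
theorem f458458 : Led Lsl_dt (LP (LK LD1_c13 LD2_c24 LD3_c17)) = (LP (LK LD1_c7 LD2_c4 LD3_c16)) :=
  Lre_d IH (LK LD1_c13 LD2_c24 LD3_c17) (LK LD1_c7 LD2_c4 LD3_c16) Lrfl Lrfl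
theorem f789821 : Led Lsl_gf (LP (LK LD1_c22 LD2_c40 LD3_c27)) = (LP (LK LD1_c13 LD2_c24 LD3_c17)) :=
  Lgr Lrot147 (Lpr_ct (f461402 IH) (Lpr_gt (f461401 IH) (Lpr_ct (f461411 IH) (Lpe (f461412 IH) (Lpe (K46.f457649 IH) (Lpe (f458507 IH) (Lpr_cf (f789819 IH) (Lpe (f789818 IH) (Lpe (f458458 IH) (Lpn (LP (LK LD1_c13 LD2_c24 LD3_c17))))))))))))
theorem f789822 : Led Lsl_gt (LP (LK LD1_c13 LD2_c24 LD3_c17)) = (LP (LK LD1_c22 LD2_c40 LD3_c27)) :=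
  Leop (Lpr_gf (f789821 IH) (Lpn (LP (LK LD1_c13 LD2_c24 LD3_c17))))
theorem seed_1567 : LEOK LG_g (LK LD1_c13 LD2_c24 LD3_c17) :=
  Leoe_g (LK LD1_c13 LD2_c24 LD3_c17) (f789822 IH)
def v20795 : LQ := Led Lsl_ct (LP (LK LD1_c7 LD2_c5 LD3_c10))
theorem f790044 : Led Lsl_ct (LP (LK LD1_c7 LD2_c5 LD3_c10)) = v20795 :=
  Lrfl
theorem f455783 : Led Lsl_bt (LP (LK LD1_c7 LD2_c5 LD3_c10)) = (LP (LK LD1_c3 LD2_c31 LD3_c48)) :=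
  Lre_b IH (LK LD1_c7 LD2_c5 LD3_c10) (LK LD1_c3 LD2_c31 LD3_c48) Lrfl Lrfl
def v6838 : LQ := Led Lsl_ft (LP (LK LD1_c3 LD2_c31 LD3_c40))
theorem f658872 : Led Lsl_ft (LP (LK LD1_c3 LD2_c31 LD3_c40)) = v6838 :=
  Lrfl
theorem f658875 : Led Lsl_ff (LP (LK LD1_c3 LD2_c31 LD3_c40)) = v6838 :=
  Lgr Lrot3 (Lpr_ft (f658872 IH) (Lpn v6838))
theorem f455798 : Led Lsl_at (LP (LK LD1_c3 LD2_c31 LD3_c40)) = (LP (LK LD1_c1 LD2_c42 LD3_c28)) :=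
  Lre_a IH (LK LD1_c3 LD2_c31 LD3_c40) (LK LD1_c1 LD2_c42 LD3_c28) Lrfl Lrfl
def v2327 : LQ := Led Lsl_gf (LP (LK LD1_c1 LD2_c42 LD3_c28))
theorem f514658 : Led Lsl_gf (LP (LK LD1_c1 LD2_c42 LD3_c28)) = v2327 :=
  Lrfl
theorem f658879 : Led Lsl_gf v2327 = v6838 :=
  Lgr Lrot47 (Lpe (f514658 IH) (Lpe (f455798 IH) (Lpr_ff (f658875 IH) (Lpn v6838))))
def v6837 : LQ := Led Lsl_gt (LP (LK LD1_c3 LD2_c31 LD3_c40))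
theorem f658859 : Led Lsl_gt (LP (LK LD1_c3 LD2_c31 LD3_c40)) = v6837 :=
  Lrfl
theorem f459180 : Led Lsl_et (LP (LK LD1_c1 LD2_c42 LD3_c25)) = (LP (LK LD1_c3 LD2_c31 LD3_c40)) :=
  Lre_e IH (LK LD1_c1 LD2_c42 LD3_c25) (LK LD1_c3 LD2_c31 LD3_c40) Lrfl Lrfl
theorem f658863 : Led Lsl_et (LP (LK LD1_c3 LD2_c31 LD3_c46)) = v6837 :=
  Lgr Lrot122 (Lpr_dt (K32.f463659 IH) (Lpe (K34.f479814 IH) (Lpe (K24.f11382 IH) (Lpr_et (K29.f11339 IH) (Lpr_gt (K28.f11348 IH) (Lpr_dt (K33.f480164 IH) (Lpe (K33.f459217 IH) (Lpe (K28.f458946 IH) (Lpr_et (f459180 IH) (Lpr_gt (f658859 IH) (Lpn v6837)))))))))))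
def v2587 : LQ := Led Lsl_at (LP (LK LD1_c1 LD2_c49 LD3_c15))
theorem f527629 : Led Lsl_at (LP (LK LD1_c1 LD2_c49 LD3_c15)) = v2587 :=
  Lrfl
theorem f527631 : Led Lsl_ef K34.v810 = v2587 :=
  Lgr Lrot20 (Lpe (K34.f459507 IH) (Lpr_et (K34.f459509 IH) (Lpr_at (f527629 IH) (Lpn v2587))))
theorem f658866 : Led Lsl_ff v2587 = v6837 :=
  Lgr Lrot72 (Lpe (f527631 IH) (Lpe (K48.f459513 IH) (Lpr_et (K34.f459515 IH) (Lpr_ft (K34.f527679 IH) (Lpq (K34.f527975 IH) (Lpr_et (f658863 IH) (Lpn v6837)))))))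
theorem f658868 : Led Lsl_ft v2587 = v6837 :=
  Lgr Lrot48 (Lpr_ff (f658866 IH) (Lpn v6837))
theorem f527681 : Led Lsl_ff (LP (LK LD1_c1 LD2_c49 LD3_c18)) = K34.v2594 :=
  Lgr Lrot3 (Lpr_ft (K34.f527679 IH) (Lpn K34.v2594))
theorem f527654 : Led Lsl_ff (LP (LK LD1_c3 LD2_c31 LD3_c30)) = K34.v2593 :=
  Lgr Lrot3 (Lpr_ft (K34.f527653 IH) (Lpn K34.v2593))
theorem f527682 : Led Lsl_at (LP (LK LD1_c3 LD2_c31 LD3_c30)) = K34.v2594 :=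
  Lgr Lrot66 (Lpr_ff (f527654 IH) (Lpe (K34.f527649 IH) (Lpr_ff (f527681 IH) (Lpn K34.v2594))))
theorem f658864 : Led Lsl_af (LP (LK LD1_c3 LD2_c31 LD3_c48)) = v6837 :=
  Lgr Lrot50 (Lpr_et (K34.f480433 IH) (Lpr_at (f527682 IH) (Lpq (K34.f527975 IH) (Lpr_et (f658863 IH) (Lpn v6837)))))
theorem f658869 : v2587 = v2327 :=
  (Llr Lrot52 (Lpr_ft (f658868 IH) (Lpe (f658864 IH) (Lpe (K34.f455781 IH) (Lpr_gf (f514658 IH) (Lpn v2327)))))).symm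
theorem f658880 : Led Lsl_gt K34.v2589 = v6838 :=
  Lgr Lrot5 (Lpe (K34.f527638 IH) (Lpr_at (f527629 IH) (Lpqs (f658869 IH) (Lpr_gf (f658879 IH) (Lpn v6838)))))
def v20791 : LQ := Led Lsl_ft (LP (LK LD1_c7 LD2_c4 LD3_c55))
theorem f790003 : Led Lsl_ft (LP (LK LD1_c7 LD2_c4 LD3_c55)) = v20791 :=
  Lrfl
theorem f790007 : Led Lsl_ff (LP (LK LD1_c7 LD2_c4 LD3_c55)) = v20791 :=
  Lgr Lrot3 (Lpr_ft (f790003 IH) (Lpn v20791))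
theorem f459303 : Led Lsl_ct (LP (LK LD1_c7 LD2_c4 LD3_c55)) = (LP (LK LD1_c3 LD2_c31 LD3_c40)) :=
  Lre_c IH (LK LD1_c7 LD2_c4 LD3_c55) (LK LD1_c3 LD2_c31 LD3_c40) Lrfl Lrfl
theorem f790009 : Led Lsl_ct v6838 = v20791 :=
  Lgr Lrot40 (Lpe (f658872 IH) (Lpe (f459303 IH) (Lpr_ff (f790007 IH) (Lpn v20791))))
theorem f490051 : Led Lsl_at (LP (LK LD1_c7 LD2_c4 LD3_c55)) = (LP (LK LD1_c3 LD2_c31 LD3_c44)) :=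
  Lre_a IH (LK LD1_c7 LD2_c4 LD3_c55) (LK LD1_c3 LD2_c31 LD3_c44) Lrfl Lrfl
theorem f790011 : Led Lsl_gf (LP (LK LD1_c7 LD2_c5 LD3_c3)) = v20791 :=
  Lgr Lrot47 (Lpr_gt (K34.f455789 IH) (Lpe (f490051 IH) (Lpr_ff (f790007 IH) (Lpn v20791))))
theorem f468828 : Led Lsl_bf (LP (LK LD1_c3 LD2_c32 LD3_c44)) = (LP (LK LD1_c3 LD2_c32 LD3_c44)) :=
  Lgr Lrot96 (Lpr_et (K49.f128133 IH) (Lpr_bt (K32.f468354 IH) (Lpr_et (K32.f128116 IH) (Lpn (LP (LK LD1_c3 LD2_c32 LD3_c44))))))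
theorem f790051 : Led Lsl_gt (LP (LK LD1_c7 LD2_c6 LD3_c19)) = v20795 :=
  Lgr Lrot65 (Lpe (f468830 IH) (Lpe (f468828 IH) (Lpe (f519233 IH) (Lpe (K34.f514777 IH) (Lpr_ct (K34.f523546 IH) (Lpr_gf (f790011 IH) (Lpe (f790009 IH) (Lpe (f658880 IH) (Lpq (K34.f527655 IH) (Lpe (f455783 IH) (Lpr_ct (f790044 IH) (Lpn v20795))))))))))))
theorem f468838 : Led Lsl_dt (LP (LK LD1_c7 LD2_c8 LD3_c39)) = (LP (LK LD1_c7 LD2_c6 LD3_c19)) :=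
  Lre_d IH (LK LD1_c7 LD2_c8 LD3_c39) (LK LD1_c7 LD2_c6 LD3_c19) Lrfl Lrfl
theorem f524568 : Led Lsl_et (LP (LK LD1_c7 LD2_c8 LD3_c42)) = (LP (LK LD1_c3 LD2_c33 LD3_c51)) :=
  Lre_e IH (LK LD1_c7 LD2_c8 LD3_c42) (LK LD1_c3 LD2_c33 LD3_c51) Lrfl Lrfl
theorem f526748 : Led Lsl_dt (LP (LK LD1_c7 LD2_c8 LD3_c42)) = (LP (LK LD1_c13 LD2_c31 LD3_c57)) :=
  Lre_d IH (LK LD1_c7 LD2_c8 LD3_c42) (LK LD1_c13 LD2_c31 LD3_c57) Lrfl Lrfl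
theorem f481578 : Led Lsl_gt (LP (LK LD1_c22 LD2_c53 LD3_c44)) = (LP (LK LD1_c13 LD2_c31 LD3_c57)) :=
  Lre_g IH (LK LD1_c22 LD2_c53 LD3_c44) (LK LD1_c13 LD2_c31 LD3_c57) Lrfl Lrfl
theorem f97223 : Led Lsl_gt (LP (LK LD1_c30 LD2_c43 LD3_c14)) = (LP (LK LD1_c22 LD2_c47 LD3_c45)) :=
  Lre_g IH (LK LD1_c30 LD2_c43 LD3_c14) (LK LD1_c22 LD2_c47 LD3_c45) Lrfl Lrfl
theorem f577389 : Led Lsl_gt (LP (LK LD1_c22 LD2_c52 LD3_c51)) = (LP (LK LD1_c30 LD2_c43 LD3_c14)) :=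
  Lgr Lrot5 (Lpr_ft (K43.f577356 IH) (Lpr_at (K43.f577378 IH) (Lpe (f97223 IH) (Lpn (LP (LK LD1_c30 LD2_c43 LD3_c14))))))
theorem f38602 : Led Lsl_dt (LP (LK LD1_c16 LD2_c28 LD3_c35)) = (LP (LK LD1_c8 LD2_c48 LD3_c25)) :=
  Lre_d IH (LK LD1_c16 LD2_c28 LD3_c35) (LK LD1_c8 LD2_c48 LD3_c25) Lrfl Lrfl
theorem f565990 : Led Lsl_gt (LP (LK LD1_c13 LD2_c27 LD3_c50)) = (LP (LK LD1_c8 LD2_c48 LD3_c25)) :=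
  Lgr Lrot46 (Lpr_gf (K41.f565986 IH) (Lpr_ft (K41.f72154 IH) (Lpr_at (K43.f38294 IH) (Lpn (LP (LK LD1_c8 LD2_c48 LD3_c25))))))
theorem f577391 : Led Lsl_df (LP (LK LD1_c22 LD2_c53 LD3_c44)) = (LP (LK LD1_c30 LD2_c43 LD3_c14)) :=
  Lgr Lrot135 (Lpr_gt (f481578 IH) (Lpe (f526748 IH) (Lpr_et (f524568 IH) (Lpr_gt (K24.f93154 IH) (Lpe (K41.f524948 IH) (Lpr_dt (K41.f524949 IH) (Lpr_gt (f565990 IH) (Lpe (f38602 IH) (Lpr_et (K43.f577351 IH) (Lpr_gt (f577389 IH) (Lpn (LP (LK LD1_c30 LD2_c43 LD3_c14)))))))))))))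
theorem f90083 : Led Lsl_et (LP (LK LD1_c0 LD2_c24 LD3_c2)) = (LP (LK LD1_c0 LD2_c10 LD3_c44)) :=
  Lre_e IH (LK LD1_c0 LD2_c24 LD3_c2) (LK LD1_c0 LD2_c10 LD3_c44) Lrfl Lrfl
theorem f95910 : Led Lsl_et (LP (LK LD1_c0 LD2_c50 LD3_c25)) = (LP (LK LD1_c0 LD2_c22 LD3_c47)) :=
  Lre_e IH (LK LD1_c0 LD2_c50 LD3_c25) (LK LD1_c0 LD2_c22 LD3_c47) Lrfl Lrfl
theorem f491265 : Led Lsl_dt (LP (LK LD1_c3 LD2_c31 LD3_c48)) = K49.v1069 :=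
  Lgr Lrot37 (Lpr_et (K34.f480433 IH) (Lpe (K33.f459217 IH) (Lpr_dt (K28.f458973 IH) (Lpqs (K29.f463256 IH) (Lpe (K29.f459483 IH) (Lpr_df (K28.f159495 IH) (Lpr_et (f95910 IH) (Lpr_gt (K6.f95895 IH) (Lpe (f90083 IH) (Lpr_dt (K29.f451146 IH) (Lpr_gt (K49.f491263 IH) (Lpn K49.v1069))))))))))))
theorem f627542 : Led Lsl_df (LP (LK LD1_c7 LD2_c5 LD3_c10)) = K49.v3845 :=
  Lgr Lrot12 (Lpr_bt (f455783 IH) (Lpr_dt (f491265 IH) (Lpr_bt (K49.f627540 IH) (Lpn K49.v3845))))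
theorem f10204 : Led Lsl_ft (LP (LK LD1_c0 LD2_c48 LD3_c30)) = (LP (LK LD1_c0 LD2_c21 LD3_c41)) :=
  Lre_f IH (LK LD1_c0 LD2_c48 LD3_c30) (LK LD1_c0 LD2_c21 LD3_c41) Lrfl Lrfl
theorem f455859 : Led Lsl_df (LP (LK LD1_c0 LD2_c48 LD3_c30)) = K33.v666 :=
  Lgr Lrot78 (Lpr_ft (f10204 IH) (Lpr_dt (K28.f128107 IH) (Lpr_ft (K33.f455857 IH) (Lpn K33.v666))))
theorem f519340 : Led Lsl_cf K33.v666 = K49.v2374 :=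
  Lgr Lrot108 (Lpe (K33.f455860 IH) (Lpr_ct (K47.f128141 IH) (Lpr_ft (K49.f519339 IH) (Lpn K49.v2374))))
theorem f659855 : Led Lsl_gf K49.v3845 = K49.v6994 :=
  Lgr Lrot179 (Lpe (K49.f659181 IH) (Lpr_gt (K49.f659180 IH) (Lpe (f519340 IH) (Lpe (f455859 IH) (Lpe (K3.f5963 IH) (Lpe (K29.f5993 IH) (Lpr_cf (K29.f456061 IH) (Lpe (K29.f467249 IH) (Lpr_dt (K49.f659850 IH) (Lpn K49.v6994))))))))))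
theorem f10687 : Led Lsl_gt (LP (LK LD1_c3 LD2_c32 LD3_c51)) = (LP (LK LD1_c7 LD2_c6 LD3_c39)) :=
  Lre_g IH (LK LD1_c3 LD2_c32 LD3_c51) (LK LD1_c7 LD2_c6 LD3_c39) Lrfl Lrfl
theorem f790050 : Led Lsl_dt (LP (LK LD1_c7 LD2_c6 LD3_c39)) = v20795 :=
  Lgr Lrot113 (Lpe (f10687 IH) (Lpe (K33.f10483 IH) (Lpe (K28.f10645 IH) (Lpr_ct (K33.f467923 IH) (Lpe (K33.f482392 IH) (Lpr_dt (K49.f659850 IH) (Lpe (f659855 IH) (Lpe (f627542 IH) (Lpr_ct (f790044 IH) (Lpn v20795))))))))))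
theorem f528082 : Led Lsl_et (LP (LK LD1_c7 LD2_c6 LD3_c39)) = (LP (LK LD1_c13 LD2_c28 LD3_c26)) :=
  Lre_e IH (LK LD1_c7 LD2_c6 LD3_c39) (LK LD1_c13 LD2_c28 LD3_c26) Lrfl Lrfl
theorem f529312 : Led Lsl_gt (LP (LK LD1_c13 LD2_c28 LD3_c26)) = (LP (LK LD1_c22 LD2_c48 LD3_c4)) :=
  Lre_g IH (LK LD1_c13 LD2_c28 LD3_c26) (LK LD1_c22 LD2_c48 LD3_c4) Lrfl Lrfl
theorem f790054 : Led Lsl_et (LP (LK LD1_c30 LD2_c43 LD3_c14)) = (LP (LK LD1_c22 LD2_c48 LD3_c4)) :=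
  Lgr Lrot122 (Lpe (f577391 IH) (Lpr_gt (f481578 IH) (Lpe (f526748 IH) (Lpr_et (f524568 IH) (Lpr_gt (K24.f93154 IH) (Lpr_dt (f468838 IH) (Lpr_gt (f790051 IH) (Lpe (f790050 IH) (Lpr_et (f528082 IH) (Lpr_gt (f529312 IH) (Lpn (LP (LK LD1_c22 LD2_c48 LD3_c4)))))))))))))
theorem f790055 : Led Lsl_et (LP (LK LD1_c30 LD2_c43 LD3_c14)) = (LP (LK LD1_c22 LD2_c48 LD3_c4)) :=
  Leop (Lpe (f790054 IH) (Lpn (LP (LK LD1_c30 LD2_c43 LD3_c14))))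
theorem seed_1568 : LEOK LG_e (LK LD1_c30 LD2_c43 LD3_c14) :=
  Leoe_e (LK LD1_c30 LD2_c43 LD3_c14) (f790055 IH)
def v20838 : LQ := Led Lsl_at (LP (LK LD1_c7 LD2_c5 LD3_c58))
theorem f790332 : Led Lsl_at (LP (LK LD1_c7 LD2_c5 LD3_c58)) = v20838 :=
  Lrfl
theorem f106615 : Led Lsl_bt (LP (LK LD1_c3 LD2_c32 LD3_c29)) = (LP (LK LD1_c7 LD2_c5 LD3_c58)) :=
  Lre_b IH (LK LD1_c3 LD2_c32 LD3_c29) (LK LD1_c7 LD2_c5 LD3_c58) Lrfl Lrfl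
theorem f19476 : Led Lsl_bt (LP (LK LD1_c7 LD2_c10 LD3_c48)) = (LP (LK LD1_c3 LD2_c34 LD3_c49)) :=
  Lre_b IH (LK LD1_c7 LD2_c10 LD3_c48) (LK LD1_c3 LD2_c34 LD3_c49) Lrfl Lrfl
theorem f441749 : Led Lsl_dt (LP (LK LD1_c7 LD2_c5 LD3_c58)) = (LP (LK LD1_c7 LD2_c10 LD3_c48)) :=
  Lgr Lrot79 (Lpe (f106615 IH) (Lpr_df (K3.f106634 IH) (Lpe (f19476 IH) (Lpn (LP (LK LD1_c7 LD2_c10 LD3_c48))))))
theorem f19463 : Led Lsl_bt (LP (LK LD1_c7 LD2_c6 LD3_c58)) = (LP (LK LD1_c3 LD2_c32 LD3_c60)) :=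
  Lre_b IH (LK LD1_c7 LD2_c6 LD3_c58) (LK LD1_c3 LD2_c32 LD3_c60) Lrfl Lrfl
theorem f19464 : Led Lsl_ft (LP (LK LD1_c7 LD2_c10 LD3_c48)) = (LP (LK LD1_c7 LD2_c6 LD3_c58)) :=
  Lgr Lrot75 (Lpe (K33.f19462 IH) (Lpr_ff (K3.f19456 IH) (Lpe (f19463 IH) (Lpn (LP (LK LD1_c7 LD2_c6 LD3_c58))))))
theorem f10703 : Led Lsl_dt (LP (LK LD1_c7 LD2_c6 LD3_c58)) = (LP (LK LD1_c3 LD2_c32 LD3_c59)) :=
  Lre_d IH (LK LD1_c7 LD2_c6 LD3_c58) (LK LD1_c3 LD2_c32 LD3_c59) Lrfl Lrfl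
theorem f441753 : Led Lsl_ff (LP (LK LD1_c7 LD2_c5 LD3_c58)) = (LP (LK LD1_c3 LD2_c32 LD3_c59)) :=
  Lgr Lrot19 (Lpr_dt (f441749 IH) (Lpr_ft (f19464 IH) (Lpr_dt (f10703 IH) (Lpn (LP (LK LD1_c3 LD2_c32 LD3_c59))))))
theorem f790337 : Led Lsl_ff (LP (LK LD1_c7 LD2_c6 LD3_c57)) = v20838 :=
  Lgr Lrot30 (Lpr_at (f10697 IH) (Lpe (f441753 IH) (Lpr_at (f790332 IH) (Lpn v20838))))
theorem f441757 : Led Lsl_ft (LP (LK LD1_c7 LD2_c5 LD3_c58)) = (LP (LK LD1_c3 LD2_c32 LD3_c59)) :=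
  Lgr Lrot48 (Lpr_ff (f441753 IH) (Lpn (LP (LK LD1_c3 LD2_c32 LD3_c59))))
theorem f441759 : Led Lsl_cf (LP (LK LD1_c7 LD2_c5 LD3_c58)) = (LP (LK LD1_c7 LD2_c5 LD3_c58)) :=
  Lgr Lrot108 (Lpr_ft (f441757 IH) (Lpe (f10395 IH) (Lpe (f441753 IH) (Lpn (LP (LK LD1_c7 LD2_c5 LD3_c58))))))
theorem f790333 : Led Lsl_af (LP (LK LD1_c7 LD2_c5 LD3_c58)) = v20838 :=
  Lgr Lrot0 (Lpr_at (f790332 IH) (Lpn v20838))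
theorem f790335 : Led Lsl_cf v20838 = v20838 :=
  Lgr Lrot1 (Lpe (f790333 IH) (Lpe (f441759 IH) (Lpr_at (f790332 IH) (Lpn v20838))))
theorem f790347 : Led Lsl_ft (LP (LK LD1_c7 LD2_c6 LD3_c57)) = v20838 :=
  Lgr Lrot4 (Lpe (f10698 IH) (Lpr_ff (f790337 IH) (Lpr_cf (f790335 IH) (Lpn v20838))))
theorem f106616 : Led Lsl_gt (LP (LK LD1_c13 LD2_c27 LD3_c18)) = (LP (LK LD1_c7 LD2_c5 LD3_c58)) :=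
  Lre_g IH (LK LD1_c13 LD2_c27 LD3_c18) (LK LD1_c7 LD2_c5 LD3_c58) Lrfl Lrfl
theorem f790349 : Led Lsl_gt (LP (LK LD1_c7 LD2_c6 LD3_c57)) = (LP (LK LD1_c13 LD2_c27 LD3_c18)) :=
  Lgr Lrot5 (Lpr_ft (f790347 IH) (Lpe (f790333 IH) (Lpe (f106616 IH) (Lpn (LP (LK LD1_c13 LD2_c27 LD3_c18))))))
theorem f790350 : Led Lsl_gt (LP (LK LD1_c7 LD2_c6 LD3_c57)) = (LP (LK LD1_c13 LD2_c27 LD3_c18)) :=
  Leop (Lpe (f790349 IH) (Lpn (LP (LK LD1_c7 LD2_c6 LD3_c57))))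
theorem seed_1569 : LEOK LG_g (LK LD1_c7 LD2_c6 LD3_c57) :=
  Leoe_g (LK LD1_c7 LD2_c6 LD3_c57) (f790350 IH)
def v20867 : LQ := Led Lsl_gt (LP (LK LD1_c7 LD2_c6 LD3_c45))
theorem f790511 : Led Lsl_gt (LP (LK LD1_c7 LD2_c6 LD3_c45)) = v20867 :=
  Lrfl
theorem f790515 : Led Lsl_dt K48.v6997 = v20867 :=
  Lgr Lrot56 (Lpe (K48.f660074 IH) (Lpr_gt (K33.f106227 IH) (Lpe (K3.f97032 IH) (Lpr_dt (K3.f18020 IH) (Lpr_gt (K3.f97128 IH) (Lpe (K3.f97133 IH) (Lpr_et (K29.f88501 IH) (Lpe (K29.f467005 IH) (Lpr_dt (K43.f442114 IH) (Lpr_gt (f790511 IH) (Lpn v20867)))))))))))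
theorem f528131 : Led Lsl_af (LP (LK LD1_c7 LD2_c5 LD3_c10)) = (LP (LK LD1_c7 LD2_c3 LD3_c45)) :=
  Lgr Lrot45 (Lpe (K48.f527658 IH) (Lpe (K35.f528044 IH) (Lpr_ft (K35.f528129 IH) (Lpn (LP (LK LD1_c7 LD2_c3 LD3_c45))))))
theorem f488272 : Led Lsl_et (LP (LK LD1_c7 LD2_c5 LD3_c10)) = (LP (LK LD1_c7 LD2_c3 LD3_c43)) :=
  Lgr Lrot74 (Lpe (K48.f480430 IH) (Lpr_ef (K34.f480428 IH) (Lpr_bf (K42.f488255 IH) (Lpn (LP (LK LD1_c7 LD2_c3 LD3_c43))))))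
theorem f488274 : Led Lsl_ef (LP (LK LD1_c7 LD2_c5 LD3_c10)) = (LP (LK LD1_c7 LD2_c3 LD3_c43)) :=
  Lgr Lrot88 (Lpr_et (f488272 IH) (Lpn (LP (LK LD1_c7 LD2_c3 LD3_c43))))
theorem f513221 : Led Lsl_gf (LP (LK LD1_c7 LD2_c5 LD3_c10)) = (LP (LK LD1_c7 LD2_c3 LD3_c38)) :=
  Lgr Lrot141 (Lpr_ef (f488274 IH) (Lpe (K33.f488251 IH) (Lpe (K33.f487919 IH) (Lpe (K29.f129805 IH) (Lpe (K29.f129656 IH) (Lpr_gt (K29.f129895 IH) (Lpr_dt (K29.f129896 IH) (Lpr_gt (K33.f513169 IH) (Lpe (K33.f488231 IH) (Lpr_et (K48.f488234 IH) (Lpn (LP (LK LD1_c7 LD2_c3 LD3_c38)))))))))))))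
theorem f528137 : Led Lsl_gt (LP (LK LD1_c3 LD2_c46 LD3_c26)) = (LP (LK LD1_c7 LD2_c3 LD3_c38)) :=
  Lgr Lrot5 (Lpr_ft (K35.f528129 IH) (Lpe (f528131 IH) (Lpr_gf (f513221 IH) (Lpn (LP (LK LD1_c7 LD2_c3 LD3_c38))))))
theorem f6659 : Led Lsl_ct (LP (LK LD1_c3 LD2_c33 LD3_c51)) = (LP (LK LD1_c7 LD2_c8 LD3_c41)) :=
  Lre_c IH (LK LD1_c3 LD2_c33 LD3_c51) (LK LD1_c7 LD2_c8 LD3_c41) Lrfl Lrfl
theorem f525057 : Led Lsl_gt (LP (LK LD1_c7 LD2_c8 LD3_c41)) = (LP (LK LD1_c13 LD2_c31 LD3_c50)) :=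
  Lre_g IH (LK LD1_c7 LD2_c8 LD3_c41) (LK LD1_c13 LD2_c31 LD3_c50) Lrfl Lrfl
theorem f790518 : Led Lsl_ct (LP (LK LD1_c13 LD2_c31 LD3_c50)) = v20867 :=
  Lgr Lrot151 (Lpe (f525057 IH) (Lpe (f6659 IH) (Lpe (K48.f466688 IH) (Lpr_dt (K48.f661351 IH) (Lpe (K48.f661335 IH) (Lpr_ct (K35.f522745 IH) (Lpr_gt (f528137 IH) (Lpr_ct (K48.f660079 IH) (Lpr_dt (f790515 IH) (Lpn v20867))))))))))
theorem f513444 : Led Lsl_at (LP (LK LD1_c3 LD2_c35 LD3_c49)) = (LP (LK LD1_c3 LD2_c30 LD3_c52)) :=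
  Lgr Lrot51 (Lpe (K33.f441642 IH) (Lpr_af (K34.f513436 IH) (Lpe (K34.f466468 IH) (Lpn (LP (LK LD1_c3 LD2_c30 LD3_c52))))))
theorem f486548 : Led Lsl_et (LP (LK LD1_c3 LD2_c30 LD3_c52)) = (LP (LK LD1_c7 LD2_c3 LD3_c41)) :=
  Lre_e IH (LK LD1_c3 LD2_c30 LD3_c52) (LK LD1_c7 LD2_c3 LD3_c41) Lrfl Lrfl
theorem f660078 : Led Lsl_at (LP (LK LD1_c7 LD2_c3 LD3_c41)) = K48.v6997 :=
  Lgr Lrot80 (Lpe (f486548 IH) (Lpe (f513444 IH) (Lpr_ef (K48.f660074 IH) (Lpn K48.v6997))))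
theorem f482407 : Led Lsl_df (LP (LK LD1_c7 LD2_c3 LD3_c41)) = (LP (LK LD1_c7 LD2_c9 LD3_c20)) :=
  Lgr Lrot84 (Lpe (K34.f467261 IH) (Lpe (K34.f466581 IH) (Lpr_gf (K29.f467259 IH) (Lpe (K29.f456114 IH) (Lpe (K29.f467249 IH) (Lpr_cf (K3.f96959 IH) (Lpr_gt (K29.f482363 IH) (Lpr_dt (K47.f482405 IH) (Lpr_gt (K34.f482406 IH) (Lpn (LP (LK LD1_c7 LD2_c9 LD3_c20))))))))))))
theorem f790516 : Led Lsl_af (LP (LK LD1_c7 LD2_c9 LD3_c20)) = v20867 :=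
  Lgr Lrot117 (Lpe (f482407 IH) (Lpr_at (f660078 IH) (Lpr_dt (f790515 IH) (Lpn v20867))))
theorem f790519 : Led Lsl_af (LP (LK LD1_c13 LD2_c31 LD3_c50)) = (LP (LK LD1_c13 LD2_c33 LD3_c13)) :=
  Lgr Lrot68 (Lpr_ct (f790518 IH) (Lpe (f790516 IH) (Lpr_ct (K34.f486547 IH) (Lpn (LP (LK LD1_c13 LD2_c33 LD3_c13))))))
theorem f790520 : Led Lsl_at (LP (LK LD1_c13 LD2_c33 LD3_c13)) = (LP (LK LD1_c13 LD2_c31 LD3_c50)) :=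
  Leop (Lpr_af (f790519 IH) (Lpn (LP (LK LD1_c13 LD2_c33 LD3_c13))))
theorem seed_1570 : LEOK LG_a (LK LD1_c13 LD2_c33 LD3_c13) :=
  Leoe_a (LK LD1_c13 LD2_c33 LD3_c13) (f790520 IH)
def v20875 : LQ := Led Lsl_ft (LP (LK LD1_c7 LD2_c6 LD3_c49))
theorem f790596 : Led Lsl_ft (LP (LK LD1_c7 LD2_c6 LD3_c49)) = v20875 :=
  Lrfl
theorem f790600 : Led Lsl_ff (LP (LK LD1_c7 LD2_c6 LD3_c49)) = v20875 :=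
  Lgr Lrot3 (Lpr_ft (f790596 IH) (Lpn v20875))
theorem f514919 : Led Lsl_at (LP (LK LD1_c7 LD2_c6 LD3_c49)) = (LP (LK LD1_c3 LD2_c34 LD3_c22)) :=
  Lre_a IH (LK LD1_c7 LD2_c6 LD3_c49) (LK LD1_c3 LD2_c34 LD3_c22) Lrfl Lrfl
theorem f128139 : Led Lsl_gt (LP (LK LD1_c7 LD2_c9 LD3_c55)) = (LP (LK LD1_c3 LD2_c34 LD3_c22)) :=
  Lre_g IH (LK LD1_c7 LD2_c9 LD3_c55) (LK LD1_c3 LD2_c34 LD3_c22) Lrfl Lrfl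
theorem f790605 : Led Lsl_gf (LP (LK LD1_c7 LD2_c9 LD3_c55)) = v20875 :=
  Lgr Lrot47 (Lpr_gt (f128139 IH) (Lpe (f514919 IH) (Lpr_ff (f790600 IH) (Lpn v20875))))
theorem f455866 : Led Lsl_ct (LP (LK LD1_c7 LD2_c6 LD3_c49)) = (LP (LK LD1_c13 LD2_c28 LD3_c46)) :=
  Lre_c IH (LK LD1_c7 LD2_c6 LD3_c49) (LK LD1_c13 LD2_c28 LD3_c46) Lrfl Lrfl
theorem f455868 : Led Lsl_ft (LP (LK LD1_c13 LD2_c28 LD3_c46)) = (LP (LK LD1_c7 LD2_c9 LD3_c4)) :=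
  Lre_f IH (LK LD1_c13 LD2_c28 LD3_c46) (LK LD1_c7 LD2_c9 LD3_c4) Lrfl Lrfl
theorem f790603 : Led Lsl_ct (LP (LK LD1_c7 LD2_c9 LD3_c4)) = v20875 :=
  Lgr Lrot40 (Lpe (f455868 IH) (Lpe (f455866 IH) (Lpr_ff (f790600 IH) (Lpn v20875))))
theorem f6314 : Led Lsl_gt (LP (LK LD1_c13 LD2_c32 LD3_c48)) = (LP (LK LD1_c7 LD2_c9 LD3_c4)) :=
  Lre_g IH (LK LD1_c13 LD2_c32 LD3_c48) (LK LD1_c7 LD2_c9 LD3_c4) Lrfl Lrfl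
theorem f6313 : Led Lsl_dt (LP (LK LD1_c7 LD2_c9 LD3_c4)) = (LP (LK LD1_c3 LD2_c33 LD3_c59)) :=
  Lre_d IH (LK LD1_c7 LD2_c9 LD3_c4) (LK LD1_c3 LD2_c33 LD3_c59) Lrfl Lrfl
theorem f524946 : Led Lsl_df (LP (LK LD1_c13 LD2_c32 LD3_c48)) = (LP (LK LD1_c7 LD2_c9 LD3_c40)) :=
  Lgr Lrot153 (Lpr_gt (f6314 IH) (Lpr_dt (f6313 IH) (Lpe (K47.f6246 IH) (Lpe (K29.f6302 IH) (Lpe (K24.f6071 IH) (Lpe (K34.f456039 IH) (Lpr_gf (K41.f524943 IH) (Lpe (f511273 IH) (Lpr_gt (f518848 IH) (Lpn (LP (LK LD1_c7 LD2_c9 LD3_c40))))))))))))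
theorem f519187 : Led Lsl_ct (LP (LK LD1_c7 LD2_c9 LD3_c41)) = (LP (LK LD1_c13 LD2_c33 LD3_c51)) :=
  Lre_c IH (LK LD1_c7 LD2_c9 LD3_c41) (LK LD1_c13 LD2_c33 LD3_c51) Lrfl Lrfl
theorem f519188 : Led Lsl_af (LP (LK LD1_c22 LD2_c48 LD3_c34)) = (LP (LK LD1_c13 LD2_c33 LD3_c51)) :=
  Lgr Lrot68 (Lpr_ct (K47.f519186 IH) (Lpr_at (K47.f519181 IH) (Lpr_ct (f519187 IH) (Lpn (LP (LK LD1_c13 LD2_c33 LD3_c51))))))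
theorem f519193 : Led Lsl_at (LP (LK LD1_c22 LD2_c48 LD3_c34)) = (LP (LK LD1_c13 LD2_c33 LD3_c51)) :=
  Lgr Lrot100 (Lpr_af (f519188 IH) (Lpn (LP (LK LD1_c13 LD2_c33 LD3_c51))))
theorem f515386 : Led Lsl_et (LP (LK LD1_c13 LD2_c28 LD3_c42)) = (LP (LK LD1_c22 LD2_c48 LD3_c34)) :=
  Lre_e IH (LK LD1_c13 LD2_c28 LD3_c42) (LK LD1_c22 LD2_c48 LD3_c34) Lrfl Lrfl
theorem f519213 : Led Lsl_et (LP (LK LD1_c13 LD2_c33 LD3_c51)) = (LP (LK LD1_c7 LD2_c9 LD3_c40)) :=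
  Lre_e IH (LK LD1_c13 LD2_c33 LD3_c51) (LK LD1_c7 LD2_c9 LD3_c40) Lrfl Lrfl
theorem f519214 : Led Lsl_af (LP (LK LD1_c13 LD2_c28 LD3_c42)) = (LP (LK LD1_c7 LD2_c9 LD3_c40)) :=
  Lgr Lrot50 (Lpr_et (f515386 IH) (Lpr_at (f519193 IH) (Lpr_et (f519213 IH) (Lpn (LP (LK LD1_c7 LD2_c9 LD3_c40))))))
theorem f519219 : Led Lsl_ft (LP (LK LD1_c13 LD2_c28 LD3_c39)) = (LP (LK LD1_c7 LD2_c9 LD3_c40)) :=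
  Lgr Lrot101 (Lpr_af (K43.f518835 IH) (Lpe (K33.f515389 IH) (Lpr_af (f519214 IH) (Lpn (LP (LK LD1_c7 LD2_c9 LD3_c40))))))
theorem f519223 : Led Lsl_ff (LP (LK LD1_c13 LD2_c28 LD3_c39)) = (LP (LK LD1_c7 LD2_c9 LD3_c40)) :=
  Lgr Lrot3 (Lpr_ft (f519219 IH) (Lpn (LP (LK LD1_c7 LD2_c9 LD3_c40))))
theorem f525018 : Led Lsl_gt (LP (LK LD1_c7 LD2_c9 LD3_c40)) = (LP (LK LD1_c13 LD2_c31 LD3_c48)) :=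
  Lgr Lrot5 (Lpe (f519223 IH) (Lpr_at (K43.f518833 IH) (Lpr_gf (K48.f525013 IH) (Lpn (LP (LK LD1_c13 LD2_c31 LD3_c48))))))
theorem f525015 : Led Lsl_ct (LP (LK LD1_c13 LD2_c31 LD3_c48)) = (LP (LK LD1_c7 LD2_c8 LD3_c40)) :=
  Lre_c IH (LK LD1_c13 LD2_c31 LD3_c48) (LK LD1_c7 LD2_c8 LD3_c40) Lrfl Lrfl
theorem f486699 : Led Lsl_dt (LP (LK LD1_c13 LD2_c31 LD3_c53)) = (LP (LK LD1_c7 LD2_c8 LD3_c41)) :=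
  Lre_d IH (LK LD1_c13 LD2_c31 LD3_c53) (LK LD1_c7 LD2_c8 LD3_c41) Lrfl Lrfl
theorem f790606 : Led Lsl_ct (LP (LK LD1_c7 LD2_c9 LD3_c55)) = (LP (LK LD1_c13 LD2_c31 LD3_c53)) :=
  Lgr Lrot110 (Lpr_gf (f790605 IH) (Lpe (f790603 IH) (Lpe (f6314 IH) (Lpr_df (f524946 IH) (Lpr_gt (f525018 IH) (Lpr_ct (f525015 IH) (Lpr_gt (K48.f466688 IH) (Lpr_ct (f6659 IH) (Lpe (f486699 IH) (Lpn (LP (LK LD1_c13 LD2_c31 LD3_c53))))))))))))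
theorem f790607 : Led Lsl_ct (LP (LK LD1_c7 LD2_c9 LD3_c55)) = (LP (LK LD1_c13 LD2_c31 LD3_c53)) :=
  Leop (Lpe (f790606 IH) (Lpn (LP (LK LD1_c7 LD2_c9 LD3_c55))))
theorem seed_1571 : LEOK LG_c (LK LD1_c7 LD2_c9 LD3_c55) :=
  Leoe_c (LK LD1_c7 LD2_c9 LD3_c55) (f790607 IH)
def v20890 : LQ := Led Lsl_dt (LP (LK LD1_c7 LD2_c7 LD3_c17))
theorem f790715 : Led Lsl_dt (LP (LK LD1_c7 LD2_c7 LD3_c17)) = v20890 :=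
  Lrfl
theorem f11600 : Led Lsl_et (LP (LK LD1_c7 LD2_c7 LD3_c10)) = (LP (LK LD1_c3 LD2_c33 LD3_c11)) :=
  Lre_e IH (LK LD1_c7 LD2_c7 LD3_c10) (LK LD1_c3 LD2_c33 LD3_c11) Lrfl Lrfl
theorem f11601 : Led Lsl_dt (LP (LK LD1_c7 LD2_c7 LD3_c10)) = (LP (LK LD1_c3 LD2_c33 LD3_c8)) :=
  Lre_d IH (LK LD1_c7 LD2_c7 LD3_c10) (LK LD1_c3 LD2_c33 LD3_c8) Lrfl Lrfl
theorem f11560 : Led Lsl_gt (LP (LK LD1_c7 LD2_c7 LD3_c9)) = (LP (LK LD1_c3 LD2_c33 LD3_c8)) :=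
  Lre_g IH (LK LD1_c7 LD2_c7 LD3_c9) (LK LD1_c3 LD2_c33 LD3_c8) Lrfl Lrfl
theorem f160305 : Led Lsl_dt (LP (LK LD1_c13 LD2_c29 LD3_c24)) = (LP (LK LD1_c7 LD2_c7 LD3_c9)) :=
  Lre_d IH (LK LD1_c13 LD2_c29 LD3_c24) (LK LD1_c7 LD2_c7 LD3_c9) Lrfl Lrfl
theorem f592404 : Led Lsl_et (LP (LK LD1_c13 LD2_c29 LD3_c24)) = (LP (LK LD1_c22 LD2_c49 LD3_c53)) :=
  Lre_e IH (LK LD1_c13 LD2_c29 LD3_c24) (LK LD1_c22 LD2_c49 LD3_c53) Lrfl Lrfl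
theorem f160284 : Led Lsl_gt (LP (LK LD1_c13 LD2_c41 LD3_c19)) = (LP (LK LD1_c13 LD2_c29 LD3_c42)) :=
  Lgr Lrot5 (Lpr_ft (K47.f160271 IH) (Lpr_at (K47.f160273 IH) (Lpe (K29.f160283 IH) (Lpn (LP (LK LD1_c13 LD2_c29 LD3_c42))))))
theorem f516881 : Led Lsl_ct (LP (LK LD1_c7 LD2_c18 LD3_c29)) = (LP (LK LD1_c3 LD2_c39 LD3_c3)) :=
  Lre_c IH (LK LD1_c7 LD2_c18 LD3_c29) (LK LD1_c3 LD2_c39 LD3_c3) Lrfl Lrfl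
theorem f790721 : Led Lsl_gf (LP (LK LD1_c7 LD2_c18 LD3_c29)) = v20890 :=
  Lgr Lrot179 (Lpr_ct (f516881 IH) (Lpr_gt (K33.f518616 IH) (Lpr_ct (K29.f455948 IH) (Lpe (K28.f463618 IH) (Lpr_cf (K35.f470826 IH) (Lpe (f160284 IH) (Lpe (K30.f107974 IH) (Lpr_gf (K41.f160249 IH) (Lpr_dt (f790715 IH) (Lpn v20890))))))))))
theorem f518663 : Led Lsl_et (LP (LK LD1_c13 LD2_c41 LD3_c4)) = (LP (LK LD1_c23 LD2_c6 LD3_c34)) :=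
  Lre_e IH (LK LD1_c13 LD2_c41 LD3_c4) (LK LD1_c23 LD2_c6 LD3_c34) Lrfl Lrfl
theorem f790722 : Led Lsl_gf (LP (LK LD1_c22 LD2_c49 LD3_c53)) = (LP (LK LD1_c23 LD2_c6 LD3_c34)) :=
  Lgr Lrot141 (Lpe (f592404 IH) (Lpr_dt (f160305 IH) (Lpr_gt (f11560 IH) (Lpe (f11601 IH) (Lpr_et (f11600 IH) (Lpr_gt (K41.f160248 IH) (Lpr_dt (f790715 IH) (Lpe (f790721 IH) (Lpr_df (K47.f518661 IH) (Lpr_et (f518663 IH) (Lpn (LP (LK LD1_c23 LD2_c6 LD3_c34)))))))))))))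
theorem f790723 : Led Lsl_gt (LP (LK LD1_c23 LD2_c6 LD3_c34)) = (LP (LK LD1_c22 LD2_c49 LD3_c53)) :=
  Leop (Lpr_gf (f790722 IH) (Lpn (LP (LK LD1_c23 LD2_c6 LD3_c34))))
theorem seed_1572 : LEOK LG_g (LK LD1_c23 LD2_c6 LD3_c34) :=
  Leoe_g (LK LD1_c23 LD2_c6 LD3_c34) (f790723 IH)
theorem f517146 : Led Lsl_ft (LP (LK LD1_c3 LD2_c39 LD3_c0)) = (LP (LK LD1_c7 LD2_c18 LD3_c29)) :=
  Lre_f IH (LK LD1_c3 LD2_c39 LD3_c0) (LK LD1_c7 LD2_c18 LD3_c29) Lrfl Lrfl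
theorem f518655 : Led Lsl_dt (LP (LK LD1_c7 LD2_c18 LD3_c29)) = (LP (LK LD1_c13 LD2_c41 LD3_c4)) :=
  Lgr Lrot60 (Lpe (f517146 IH) (Lpe (K33.f481474 IH) (Lpr_ff (K41.f518651 IH) (Lpn (LP (LK LD1_c13 LD2_c41 LD3_c4))))))
theorem f515357 : Led Lsl_at (LP (LK LD1_c3 LD2_c32 LD3_c55)) = (LP (LK LD1_c1 LD2_c43 LD3_c47)) :=
  Lgr Lrot100 (Lpr_af (K33.f515355 IH) (Lpn (LP (LK LD1_c1 LD2_c43 LD3_c47))))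
theorem f515353 : Led Lsl_et (LP (LK LD1_c1 LD2_c43 LD3_c47)) = (LP (LK LD1_c3 LD2_c34 LD3_c15)) :=
  Lre_e IH (LK LD1_c1 LD2_c43 LD3_c47) (LK LD1_c3 LD2_c34 LD3_c15) Lrfl Lrfl
theorem f659168 : Led Lsl_at (LP (LK LD1_c3 LD2_c34 LD3_c15)) = K47.v6875 :=
  Lgr Lrot80 (Lpe (f515353 IH) (Lpe (f515357 IH) (Lpr_ef (K47.f659167 IH) (Lpn K47.v6875))))
theorem f515346 : Led Lsl_ft (LP (LK LD1_c7 LD2_c9 LD3_c43)) = (LP (LK LD1_c3 LD2_c34 LD3_c15)) :=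
  Lre_f IH (LK LD1_c7 LD2_c9 LD3_c43) (LK LD1_c3 LD2_c34 LD3_c15) Lrfl Lrfl
theorem f659170 : Led Lsl_gt (LP (LK LD1_c7 LD2_c13 LD3_c53)) = K47.v6875 :=
  Lgr Lrot46 (Lpe (K33.f522511 IH) (Lpr_ft (f515346 IH) (Lpr_at (f659168 IH) (Lpn K47.v6875))))
def v20868 : LQ := Led Lsl_gf (LP (LK LD1_c7 LD2_c6 LD3_c45))
theorem f790554 : Led Lsl_gf (LP (LK LD1_c7 LD2_c6 LD3_c45)) = v20868 :=
  Lrfl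
theorem f790555 : Led Lsl_gt (LP (LK LD1_c7 LD2_c6 LD3_c47)) = v20868 :=
  Lgr Lrot5 (Lpr_ft (K33.f515372 IH) (Lpe (K47.f515338 IH) (Lpr_gf (f790554 IH) (Lpn v20868))))
def v2346 : LQ := Led Lsl_dt (LP (LK LD1_c1 LD2_c43 LD3_c7))
theorem f514755 : Led Lsl_dt (LP (LK LD1_c1 LD2_c43 LD3_c7)) = v2346 :=
  Lrfl
theorem f514757 : Led Lsl_df (LP (LK LD1_c1 LD2_c43 LD3_c7)) = v2346 :=
  Lgr Lrot38 (Lpr_dt (f514755 IH) (Lpn v2346))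
def v6894 : LQ := Led Lsl_ft (LP (LK LD1_c3 LD2_c34 LD3_c8))
theorem f659304 : Led Lsl_ft (LP (LK LD1_c3 LD2_c34 LD3_c8)) = v6894 :=
  Lrfl
theorem f659308 : Led Lsl_ff (LP (LK LD1_c3 LD2_c34 LD3_c8)) = v6894 :=
  Lgr Lrot3 (Lpr_ft (f659304 IH) (Lpn v6894))
theorem f511266 : Led Lsl_dt (LP (LK LD1_c3 LD2_c34 LD3_c57)) = K32.v2252 :=
  Lgr Lrot42 (Lpr_df (K32.f511263 IH) (Lpn K32.v2252))
theorem f511256 : Led Lsl_af (LP (LK LD1_c3 LD2_c32 LD3_c44)) = K32.v2252 :=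
  Lgr Lrot50 (Lpr_et (K49.f128133 IH) (Lpr_at (K33.f510740 IH) (Lpr_et (K32.f511255 IH) (Lpn K32.v2252))))
theorem f511267 : Led Lsl_af (LP (LK LD1_c3 LD2_c34 LD3_c57)) = (LP (LK LD1_c3 LD2_c34 LD3_c8)) :=
  Lgr Lrot117 (Lpr_dt (f511266 IH) (Lpe (f511256 IH) (Lpr_dt (K49.f128117 IH) (Lpn (LP (LK LD1_c3 LD2_c34 LD3_c8))))))
theorem f514758 : Led Lsl_gf (LP (LK LD1_c3 LD2_c34 LD3_c57)) = v2346 :=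
  Lgr Lrot134 (Lpr_df (K32.f511263 IH) (Lpe (K32.f511258 IH) (Lpq (K24.f461786 IH) (Lpe (K24.f456824 IH) (Lpe (K3.f10306 IH) (Lpr_dt (K3.f10299 IH) (Lpe (K2.f10294 IH) (Lpe (K3.f10233 IH) (Lpr_et (K3.f10304 IH) (Lpr_gt (K3.f10305 IH) (Lpr_dt (f514755 IH) (Lpn v2346))))))))))))
theorem f659313 : Led Lsl_gf v2346 = v6894 :=
  Lgr Lrot47 (Lpe (f514758 IH) (Lpr_af (f511267 IH) (Lpr_ff (f659308 IH) (Lpn v6894))))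
def v6872 : LQ := Led Lsl_ft (LP (LK LD1_c3 LD2_c32 LD3_c44))
theorem f659139 : Led Lsl_ft (LP (LK LD1_c3 LD2_c32 LD3_c44)) = v6872 :=
  Lrfl
theorem f659311 : Led Lsl_dt v6872 = v6894 :=
  Lgr Lrot60 (Lpe (f659139 IH) (Lpe (K32.f128128 IH) (Lpr_ff (f659308 IH) (Lpn v6894))))
theorem f659141 : Led Lsl_ff (LP (LK LD1_c3 LD2_c32 LD3_c44)) = v6872 :=
  Lgr Lrot3 (Lpr_ft (f659139 IH) (Lpn v6872))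
theorem f659144 : Led Lsl_gf K47.v2498 = v6872 :=
  Lgr Lrot47 (Lpr_gt (K47.f659104 IH) (Lpe (K32.f511261 IH) (Lpr_ff (f659141 IH) (Lpn v6872))))
theorem f659145 : Led Lsl_gt (LP (LK LD1_c3 LD2_c34 LD3_c20)) = v6872 :=
  Lgr Lrot5 (Lpr_ft (K34.f522186 IH) (Lpr_at (K47.f523625 IH) (Lpr_gf (f659144 IH) (Lpn v6872))))
def v20732 : LQ := Led Lsl_ft (LP (LK LD1_c7 LD2_c3 LD3_c41))
theorem f789568 : Led Lsl_ft (LP (LK LD1_c7 LD2_c3 LD3_c41)) = v20732 :=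
  Lrfl
theorem f789571 : Led Lsl_ff (LP (LK LD1_c7 LD2_c3 LD3_c41)) = v20732 :=
  Lgr Lrot3 (Lpr_ft (f789568 IH) (Lpn v20732))
def v20731 : LQ := Led Lsl_gt (LP (LK LD1_c7 LD2_c3 LD3_c41))
theorem f789557 : Led Lsl_gt (LP (LK LD1_c7 LD2_c3 LD3_c41)) = v20731 :=
  Lrfl
theorem f789560 : Led Lsl_et (LP (LK LD1_c7 LD2_c15 LD3_c28)) = v20731 :=
  Lgr Lrot122 (Lpr_dt (K29.f477595 IH) (Lpr_gt (K29.f475202 IH) (Lpe (f98520 IH) (Lpr_et (K29.f98523 IH) (Lpe (K35.f477654 IH) (Lpr_dt (K29.f462013 IH) (Lpr_gt (K35.f488257 IH) (Lpe (K34.f466468 IH) (Lpr_et (f486548 IH) (Lpr_gt (f789557 IH) (Lpn v20731)))))))))))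
theorem f511823 : Led Lsl_et (LP (LK LD1_c1 LD2_c46 LD3_c50)) = (LP (LK LD1_c3 LD2_c39 LD3_c51)) :=
  Lre_e IH (LK LD1_c1 LD2_c46 LD3_c50) (LK LD1_c3 LD2_c39 LD3_c51) Lrfl Lrfl
theorem f523452 : Led Lsl_ft (LP (LK LD1_c1 LD2_c46 LD3_c50)) = K34.v2495 :=
  Lgr Lrot4 (Lpe (K34.f450953 IH) (Lpr_ff (K35.f457061 IH) (Lpr_cf (K34.f523450 IH) (Lpn K34.v2495))))
theorem f523453 : Led Lsl_ff (LP (LK LD1_c1 LD2_c46 LD3_c50)) = K34.v2495 :=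
  Lgr Lrot3 (Lpr_ft (f523452 IH) (Lpn K34.v2495))
def v7140 : LQ := Led Lsl_at (LP (LK LD1_c3 LD2_c39 LD3_c47))
theorem f661504 : Led Lsl_at (LP (LK LD1_c3 LD2_c39 LD3_c47)) = v7140 :=
  Lrfl
theorem f514857 : Led Lsl_et (LP (LK LD1_c1 LD2_c46 LD3_c47)) = (LP (LK LD1_c3 LD2_c39 LD3_c47)) :=
  Lre_e IH (LK LD1_c1 LD2_c46 LD3_c47) (LK LD1_c3 LD2_c39 LD3_c47) Lrfl Lrfl
theorem f523448 : Led Lsl_af (LP (LK LD1_c1 LD2_c46 LD3_c47)) = K34.v2495 :=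
  Lgr Lrot0 (Lpr_at (K34.f523447 IH) (Lpn K34.v2495))
theorem f661507 : Led Lsl_ef K34.v2495 = v7140 :=
  Lgr Lrot20 (Lpe (f523448 IH) (Lpr_et (f514857 IH) (Lpr_at (f661504 IH) (Lpn v7140))))
theorem f789563 : Led Lsl_ff v7140 = v20731 :=
  Lgr Lrot72 (Lpe (f661507 IH) (Lpe (f523453 IH) (Lpr_et (f511823 IH) (Lpe (K47.f520988 IH) (Lpr_et (f789560 IH) (Lpn v20731))))))
theorem f789566 : Led Lsl_ft v7140 = v20731 :=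
  Lgr Lrot48 (Lpr_ff (f789563 IH) (Lpn v20731))
theorem f789561 : Led Lsl_af (LP (LK LD1_c7 LD2_c9 LD3_c50)) = v20731 :=
  Lgr Lrot50 (Lpe (K28.f466628 IH) (Lpe (K47.f520952 IH) (Lpr_et (f789560 IH) (Lpn v20731))))
theorem f441638 : Led Lsl_dt (LP (LK LD1_c3 LD2_c35 LD3_c49)) = (LP (LK LD1_c7 LD2_c12 LD3_c16)) :=
  Lre_d IH (LK LD1_c3 LD2_c35 LD3_c49) (LK LD1_c7 LD2_c12 LD3_c16) Lrfl Lrfl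
theorem f466621 : Led Lsl_et (LP (LK LD1_c13 LD2_c4 LD3_c15)) = (LP (LK LD1_c7 LD2_c9 LD3_c50)) :=
  Lgr Lrot158 (Lpe (K28.f458348 IH) (Lpr_ef (K28.f466615 IH) (Lpe (K47.f466620 IH) (Lpn (LP (LK LD1_c7 LD2_c9 LD3_c50))))))
theorem f660076 : Led Lsl_gf (LP (LK LD1_c7 LD2_c9 LD3_c50)) = K48.v6997 :=
  Lgr Lrot141 (Lpe (f466621 IH) (Lpe (K33.f480605 IH) (Lpr_gt (K33.f461975 IH) (Lpe (K33.f94441 IH) (Lpe (K28.f461968 IH) (Lpe (K30.f477665 IH) (Lpr_dt (K29.f97087 IH) (Lpr_gt (K33.f511211 IH) (Lpe (f441638 IH) (Lpr_et (K48.f660071 IH) (Lpn K48.v6997)))))))))))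
theorem f789567 : Led Lsl_gt v7140 = K48.v6997 :=
  Lgr Lrot5 (Lpr_ft (f789566 IH) (Lpe (f789561 IH) (Lpr_gf (f660076 IH) (Lpn K48.v6997))))
theorem f789574 : Led Lsl_gf v7140 = v20732 :=
  Lgr Lrot47 (Lpr_gt (f789567 IH) (Lpe (f660078 IH) (Lpr_ff (f789571 IH) (Lpn v20732))))
theorem f522184 : Led Lsl_ft (LP (LK LD1_c7 LD2_c9 LD3_c50)) = (LP (LK LD1_c3 LD2_c39 LD3_c47)) :=
  Lgr Lrot4 (Lpe (K28.f450807 IH) (Lpr_ff (K33.f522180 IH) (Lpe (f514778 IH) (Lpn (LP (LK LD1_c3 LD2_c39 LD3_c47))))))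
theorem f789575 : Led Lsl_gt (LP (LK LD1_c7 LD2_c9 LD3_c50)) = v20732 :=
  Lgr Lrot5 (Lpr_ft (f522184 IH) (Lpr_at (f661504 IH) (Lpr_gf (f789574 IH) (Lpn v20732))))
theorem f790557 : Led Lsl_dt v20732 = v20868 :=
  Lgr Lrot57 (Lpe (f789575 IH) (Lpe (K28.f450807 IH) (Lpr_gt (f659145 IH) (Lpr_dt (f659311 IH) (Lpe (f659313 IH) (Lpe (f514757 IH) (Lpe (K28.f6626 IH) (Lpe (K47.f442156 IH) (Lpr_gf (f790554 IH) (Lpn v20868))))))))))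
theorem f790729 : Led Lsl_et v20732 = v20890 :=
  Lgr Lrot121 (Lpr_dt (f790557 IH) (Lpe (f790555 IH) (Lpe (K33.f467127 IH) (Lpr_et (K47.f659164 IH) (Lpe (f659170 IH) (Lpe (K41.f98560 IH) (Lpr_dt (K33.f17402 IH) (Lpe (K41.f98588 IH) (Lpe (f518655 IH) (Lpr_gf (f790721 IH) (Lpn v20890)))))))))))
theorem f97290 : Led Lsl_ef (LP (LK LD1_c3 LD2_c39 LD3_c1)) = (LP (LK LD1_c3 LD2_c32 LD3_c53)) :=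
  Lgr Lrot28 (Lpr_ct (K29.f4418 IH) (Lpr_et (K3.f97286 IH) (Lpr_ct (K28.f10827 IH) (Lpn (LP (LK LD1_c3 LD2_c32 LD3_c53))))))
theorem f441504 : Led Lsl_et (LP (LK LD1_c13 LD2_c18 LD3_c9)) = (LP (LK LD1_c22 LD2_c34 LD3_c5)) :=
  Lre_e IH (LK LD1_c13 LD2_c18 LD3_c9) (LK LD1_c22 LD2_c34 LD3_c5) Lrfl Lrfl
theorem f441505 : Led Lsl_ef (LP (LK LD1_c13 LD2_c38 LD3_c7)) = (LP (LK LD1_c22 LD2_c49 LD3_c51)) :=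
  Lgr Lrot20 (Lpe (K29.f441478 IH) (Lpr_et (f441504 IH) (Lpr_at (K45.f441486 IH) (Lpn (LP (LK LD1_c22 LD2_c49 LD3_c51))))))
theorem f441511 : Led Lsl_et (LP (LK LD1_c13 LD2_c38 LD3_c7)) = (LP (LK LD1_c22 LD2_c49 LD3_c51)) :=
  Lgr Lrot87 (Lpr_ef (f441505 IH) (Lpn (LP (LK LD1_c22 LD2_c49 LD3_c51))))
theorem f441513 : Led Lsl_et (LP (LK LD1_c22 LD2_c34 LD3_c5)) = (LP (LK LD1_c13 LD2_c18 LD3_c9)) :=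
  Lre_e IH (LK LD1_c22 LD2_c34 LD3_c5) (LK LD1_c13 LD2_c18 LD3_c9) Lrfl Lrfl
theorem f441514 : Led Lsl_af (LP (LK LD1_c13 LD2_c38 LD3_c7)) = (LP (LK LD1_c13 LD2_c18 LD3_c9)) :=
  Lgr Lrot50 (Lpr_et (f441511 IH) (Lpe (K45.f441498 IH) (Lpr_et (f441513 IH) (Lpn (LP (LK LD1_c13 LD2_c18 LD3_c9))))))
theorem f482842 : Led Lsl_dt (LP (LK LD1_c13 LD2_c48 LD3_c30)) = (LP (LK LD1_c13 LD2_c18 LD3_c9)) :=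
  Lgr Lrot44 (Lpr_af (K29.f482832 IH) (Lpe (K29.f467082 IH) (Lpr_af (f441514 IH) (Lpn (LP (LK LD1_c13 LD2_c18 LD3_c9))))))
theorem f483160 : Led Lsl_gf (LP (LK LD1_c7 LD2_c17 LD3_c48)) = (LP (LK LD1_c13 LD2_c48 LD3_c0)) :=
  Lgr Lrot143 (Lpe (K29.f482879 IH) (Lpe (K29.f5508 IH) (Lpr_df (K29.f482677 IH) (Lpe (K29.f455481 IH) (Lpe (K29.f455210 IH) (Lpe (K33.f464223 IH) (Lpe (K33.f92562 IH) (Lpr_gt (K34.f483158 IH) (Lpr_dt (K34.f483149 IH) (Lpn (LP (LK LD1_c13 LD2_c48 LD3_c0))))))))))))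
theorem f488552 : Led Lsl_gt (LP (LK LD1_c13 LD2_c40 LD3_c50)) = (LP (LK LD1_c7 LD2_c17 LD3_c4)) :=
  Lgr Lrot94 (Lpr_cf (K47.f483133 IH) (Lpe (f483160 IH) (Lpe (K29.f482879 IH) (Lpr_gt (K29.f5509 IH) (Lpr_dt (f482842 IH) (Lpe (K29.f440674 IH) (Lpe (K29.f97459 IH) (Lpr_gf (K33.f488550 IH) (Lpe (K33.f92500 IH) (Lpn (LP (LK LD1_c7 LD2_c17 LD3_c4))))))))))))
theorem f790731 : Led Lsl_gt (LP (LK LD1_c7 LD2_c17 LD3_c5)) = v20890 :=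
  Lgr Lrot131 (Lpe (K33.f488565 IH) (Lpr_dt (K33.f92490 IH) (Lpe (f488552 IH) (Lpe (K29.f98535 IH) (Lpr_gf (K34.f482656 IH) (Lpr_ef (f97290 IH) (Lpr_dt (K43.f442114 IH) (Lpr_gf (f790554 IH) (Lpe (f790557 IH) (Lpr_et (f790729 IH) (Lpn v20890)))))))))))
theorem f456530 : Led Lsl_gt (LP (LK LD1_c13 LD2_c59 LD3_c44)) = (LP (LK LD1_c7 LD2_c23 LD3_c60)) :=
  Lre_g IH (LK LD1_c13 LD2_c59 LD3_c44) (LK LD1_c7 LD2_c23 LD3_c60) Lrfl Lrfl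
theorem f425281 : Led Lsl_df (LP (LK LD1_c3 LD2_c37 LD3_c42)) = (LP (LK LD1_c1 LD2_c46 LD3_c35)) :=
  Lgr Lrot12 (Lpr_bt (K29.f425275 IH) (Lpr_dt (K29.f12393 IH) (Lpr_bt (K29.f12371 IH) (Lpn (LP (LK LD1_c1 LD2_c46 LD3_c35))))))
def v20590 : LQ := Led Lsl_ft (LP (LK LD1_c7 LD2_c0 LD3_c6))
theorem f788104 : Led Lsl_ft (LP (LK LD1_c7 LD2_c0 LD3_c6)) = v20590 :=
  Lrfl
theorem f788108 : Led Lsl_ff (LP (LK LD1_c7 LD2_c0 LD3_c6)) = v20590 :=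
  Lgr Lrot3 (Lpr_ft (f788104 IH) (Lpn v20590))
theorem f788110 : Led Lsl_dt K47.v7052 = v20590 :=
  Lgr Lrot60 (Lpe (K47.f660594 IH) (Lpe (K47.f625843 IH) (Lpr_ff (f788108 IH) (Lpn v20590))))
theorem f790720 : Led Lsl_cf v20590 = v20890 :=
  Lgr Lrot14 (Lpe (f788110 IH) (Lpe (K47.f660587 IH) (Lpr_df (f425281 IH) (Lpe (K35.f12402 IH) (Lpe (K41.f475269 IH) (Lpr_gt (K35.f11827 IH) (Lpr_dt (K8.f11553 IH) (Lpr_gt (K41.f160248 IH) (Lpr_dt (f790715 IH) (Lpn v20890))))))))))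
def v20718 : LQ := Led Lsl_bt (LP (LK LD1_c7 LD2_c3 LD3_c17))
theorem f789444 : Led Lsl_bt (LP (LK LD1_c7 LD2_c3 LD3_c17)) = v20718 :=
  Lrfl
theorem f479946 : Led Lsl_cf (LP (LK LD1_c13 LD2_c3 LD3_c59)) = (LP (LK LD1_c7 LD2_c3 LD3_c17)) :=
  Lgr Lrot166 (Lpr_gt (K34.f458435 IH) (Lpr_dt (K34.f98760 IH) (Lpr_gt (K34.f479942 IH) (Lpr_dt (K34.f102605 IH) (Lpe (K28.f425206 IH) (Lpe (K35.f120886 IH) (Lpr_gf (K34.f468332 IH) (Lpe (K34.f457622 IH) (Lpe (K48.f457513 IH) (Lpn (LP (LK LD1_c7 LD2_c3 LD3_c17))))))))))))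
theorem f788140 : Led Lsl_ct v6772 = v20593 :=
  Lgr Lrot40 (Lpe (f658330 IH) (Lpe (K47.f460212 IH) (Lpr_ff (f788138 IH) (Lpn v20593))))
theorem f788109 : Led Lsl_bt v6772 = v20590 :=
  Lgr Lrot35 (Lpe (f658330 IH) (Lpe (K47.f463855 IH) (Lpr_ff (f788108 IH) (Lpn v20590))))
theorem f789451 : Led Lsl_gt v20590 = v20718 :=
  Lgr Lrot164 (Lpe (f788109 IH) (Lpr_ct (f788140 IH) (Lpe (f788144 IH) (Lpr_cf (K30.f482954 IH) (Lpe (K48.f657004 IH) (Lpe (K43.f458388 IH) (Lpr_ct (K34.f458382 IH) (Lpe (K34.f458435 IH) (Lpr_cf (f479946 IH) (Lpr_bt (f789444 IH) (Lpn v20718)))))))))))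
theorem f789453 : Led Lsl_gf (LP (LK LD1_c7 LD2_c11 LD3_c59)) = v20718 :=
  Lgr Lrot76 (Lpr_af (K34.f513537 IH) (Lpr_ff (f788108 IH) (Lpr_gt (f789451 IH) (Lpn v20718))))
theorem f789455 : Led Lsl_ct (LP (LK LD1_c13 LD2_c38 LD3_c48)) = v20718 :=
  Lgr Lrot8 (Lpr_gt (K33.f107965 IH) (Lpr_dt (K32.f470668 IH) (Lpr_gt (K32.f425386 IH) (Lpr_dt (K30.f425229 IH) (Lpr_cf (K29.f425434 IH) (Lpr_df (K47.f106771 IH) (Lpr_gf (K48.f660610 IH) (Lpe (K48.f660612 IH) (Lpr_gf (f789453 IH) (Lpn v20718))))))))))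
theorem f566231 : Led Lsl_gt (LP (LK LD1_c22 LD2_c41 LD3_c22)) = (LP (LK LD1_c13 LD2_c47 LD3_c8)) :=
  Lgr Lrot94 (Lpe (K46.f476512 IH) (Lpr_gt (K33.f63106 IH) (Lpr_dt (K34.f63099 IH) (Lpr_gt (K34.f476508 IH) (Lpr_dt (K28.f110267 IH) (Lpe (K29.f425131 IH) (Lpe (K46.f552891 IH) (Lpe (K41.f181393 IH) (Lpr_df (K41.f566227 IH) (Lpn (LP (LK LD1_c13 LD2_c47 LD3_c8))))))))))))
theorem f487890 : Led Lsl_et (LP (LK LD1_c7 LD2_c14 LD3_c50)) = (LP (LK LD1_c3 LD2_c37 LD3_c10)) :=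
  Lre_e IH (LK LD1_c7 LD2_c14 LD3_c50) (LK LD1_c3 LD2_c37 LD3_c10) Lrfl Lrfl
theorem f70736 : Led Lsl_gt (LP (LK LD1_c12 LD2_c8 LD3_c13)) = (LP (LK LD1_c21 LD2_c14 LD3_c28)) :=
  Lre_g IH (LK LD1_c12 LD2_c8 LD3_c13) (LK LD1_c21 LD2_c14 LD3_c28) Lrfl Lrfl
theorem f561083 : Led Lsl_df (LP (LK LD1_c20 LD2_c1 LD3_c60)) = (LP (LK LD1_c21 LD2_c14 LD3_c28)) :=
  Lgr Lrot135 (Lpe (K37.f543054 IH) (Lpe (K37.f515981 IH) (Lpe (K37.f515982 IH) (Lpr_gt (K33.f487840 IH) (Lpe (f487890 IH) (Lpr_dt (K40.f487914 IH) (Lpr_gt (K46.f561081 IH) (Lpe (f70717 IH) (Lpr_et (f70719 IH) (Lpr_gt (f70736 IH) (Lpn (LP (LK LD1_c21 LD2_c14 LD3_c28)))))))))))))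
theorem f609281 : Led Lsl_et (LP (LK LD1_c21 LD2_c14 LD3_c28)) = (LP (LK LD1_c23 LD2_c20 LD3_c30)) :=
  Lgr Lrot122 (Lpe (f561083 IH) (Lpe (K37.f543054 IH) (Lpe (K37.f515981 IH) (Lpe (K37.f515982 IH) (Lpr_gt (K33.f487840 IH) (Lpr_dt (K47.f6038 IH) (Lpr_gt (K47.f6076 IH) (Lpe (K47.f515991 IH) (Lpr_et (K47.f609277 IH) (Lpr_gt (K47.f479772 IH) (Lpn (LP (LK LD1_c23 LD2_c20 LD3_c30)))))))))))))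
theorem f449937 : Led Lsl_dt (LP (LK LD1_c5 LD2_c49 LD3_c40)) = (LP (LK LD1_c11 LD2_c8 LD3_c25)) :=
  Lre_d IH (LK LD1_c5 LD2_c49 LD3_c40) (LK LD1_c11 LD2_c8 LD3_c25) Lrfl Lrfl
theorem f108071 : Led Lsl_gt (LP (LK LD1_c13 LD2_c30 LD3_c55)) = (LP (LK LD1_c7 LD2_c8 LD3_c6)) :=
  Lre_g IH (LK LD1_c13 LD2_c30 LD3_c55) (LK LD1_c7 LD2_c8 LD3_c6) Lrfl Lrfl
theorem f479771 : Led Lsl_gt (LP (LK LD1_c23 LD2_c20 LD3_c30)) = (LP (LK LD1_c13 LD2_c51 LD3_c19)) :=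
  Lre_g IH (LK LD1_c23 LD2_c20 LD3_c30) (LK LD1_c13 LD2_c51 LD3_c19) Lrfl Lrfl
theorem f610374 : Led Lsl_df (LP (LK LD1_c13 LD2_c30 LD3_c55)) = (LP (LK LD1_c13 LD2_c51 LD3_c19)) :=
  Lgr Lrot135 (Lpr_gt (f108071 IH) (Lpe (K28.f108056 IH) (Lpr_et (K28.f108062 IH) (Lpr_gt (K36.f514954 IH) (Lpqs (K37.f542999 IH) (Lpe (K36.f449933 IH) (Lpr_dt (f449937 IH) (Lpr_gt (K37.f210754 IH) (Lpr_df (f561083 IH) (Lpr_et (f609281 IH) (Lpr_gt (f479771 IH) (Lpn (LP (LK LD1_c13 LD2_c51 LD3_c19))))))))))))))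
theorem f610380 : Led Lsl_ef (LP (LK LD1_c12 LD2_c8 LD3_c32)) = (LP (LK LD1_c13 LD2_c51 LD3_c19)) :=
  Lgr Lrot17 (Lpe (K37.f210893 IH) (Lpe (K39.f205235 IH) (Lpr_dt (K39.f59062 IH) (Lpe (K11.f205214 IH) (Lpe (K39.f146354 IH) (Lpq (K37.f542999 IH) (Lpe (K36.f514954 IH) (Lpe (K28.f108062 IH) (Lpr_dt (K28.f108056 IH) (Lpe (f108071 IH) (Lpr_df (f610374 IH) (Lpn (LP (LK LD1_c13 LD2_c51 LD3_c19))))))))))))))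
theorem f547012 : Led Lsl_dt (LP (LK LD1_c13 LD2_c14 LD3_c33)) = (LP (LK LD1_c20 LD2_c21 LD3_c19)) :=
  Lgr Lrot42 (Lpr_df (K38.f547006 IH) (Lpn (LP (LK LD1_c20 LD2_c21 LD3_c19))))
theorem f610382 : Led Lsl_gf (LP (LK LD1_c13 LD2_c30 LD3_c55)) = (LP (LK LD1_c20 LD2_c21 LD3_c19)) :=
  Lgr Lrot134 (Lpr_df (f610374 IH) (Lpe (f610380 IH) (Lpr_gt (K37.f543597 IH) (Lpe (K28.f208967 IH) (Lpe (K39.f543420 IH) (Lpr_gt (K39.f38143 IH) (Lpe (K39.f80492 IH) (Lpe (K39.f552932 IH) (Lpe (K39.f488747 IH) (Lpr_dt (f547012 IH) (Lpn (LP (LK LD1_c20 LD2_c21 LD3_c19)))))))))))))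
theorem f11751 : Led Lsl_dt (LP (LK LD1_c7 LD2_c7 LD3_c4)) = (LP (LK LD1_c3 LD2_c33 LD3_c6)) :=
  Lre_d IH (LK LD1_c7 LD2_c7 LD3_c4) (LK LD1_c3 LD2_c33 LD3_c6) Lrfl Lrfl
theorem f11755 : Led Lsl_ct (LP (LK LD1_c13 LD2_c29 LD3_c20)) = (LP (LK LD1_c7 LD2_c7 LD3_c4)) :=
  Lre_c IH (LK LD1_c13 LD2_c29 LD3_c20) (LK LD1_c7 LD2_c7 LD3_c4) Lrfl Lrfl
theorem f11756 : Led Lsl_gt (LP (LK LD1_c22 LD2_c49 LD3_c47)) = (LP (LK LD1_c13 LD2_c29 LD3_c20)) :=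
  Lre_g IH (LK LD1_c22 LD2_c49 LD3_c47) (LK LD1_c13 LD2_c29 LD3_c20) Lrfl Lrfl
theorem f610384 : Led Lsl_ct (LP (LK LD1_c13 LD2_c30 LD3_c55)) = (LP (LK LD1_c22 LD2_c49 LD3_c47)) :=
  Lgr Lrot152 (Lpr_gf (f610382 IH) (Lpe (f547012 IH) (Lpr_gt (K35.f470557 IH) (Lpr_ct (K29.f465511 IH) (Lpr_gt (K29.f11681 IH) (Lpr_ct (K8.f11715 IH) (Lpe (f11751 IH) (Lpe (f11755 IH) (Lpe (f11756 IH) (Lpn (LP (LK LD1_c22 LD2_c49 LD3_c47))))))))))))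
theorem f160440 : Led Lsl_bt (LP (LK LD1_c7 LD2_c7 LD3_c4)) = (LP (LK LD1_c3 LD2_c33 LD3_c11)) :=
  Lre_b IH (LK LD1_c7 LD2_c7 LD3_c4) (LK LD1_c3 LD2_c33 LD3_c11) Lrfl Lrfl
theorem f160252 : Led Lsl_ct (LP (LK LD1_c7 LD2_c7 LD3_c17)) = (LP (LK LD1_c13 LD2_c29 LD3_c36)) :=
  Lre_c IH (LK LD1_c7 LD2_c7 LD3_c17) (LK LD1_c13 LD2_c29 LD3_c36) Lrfl Lrfl
theorem f97345 : Led Lsl_ct (LP (LK LD1_c13 LD2_c30 LD3_c47)) = (LP (LK LD1_c7 LD2_c8 LD3_c1)) :=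
  Lre_c IH (LK LD1_c13 LD2_c30 LD3_c47) (LK LD1_c7 LD2_c8 LD3_c1) Lrfl Lrfl
theorem f472126 : Led Lsl_gf (LP (LK LD1_c13 LD2_c30 LD3_c47)) = (LP (LK LD1_c13 LD2_c29 LD3_c36)) :=
  Lgr Lrot104 (Lpr_ct (f97345 IH) (Lpe (K30.f97350 IH) (Lpe (K34.f97342 IH) (Lpe (K29.f425234 IH) (Lpr_cf (K29.f472121 IH) (Lpe (K8.f11605 IH) (Lpe (K33.f11579 IH) (Lpr_gt (K41.f160248 IH) (Lpr_ct (f160252 IH) (Lpn (LP (LK LD1_c13 LD2_c29 LD3_c36))))))))))))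
theorem f425422 : Led Lsl_bt (LP (LK LD1_c7 LD2_c8 LD3_c1)) = (LP (LK LD1_c13 LD2_c30 LD3_c35)) :=
  Lre_b IH (LK LD1_c7 LD2_c8 LD3_c1) (LK LD1_c13 LD2_c30 LD3_c35) Lrfl Lrfl
theorem f610396 : Led Lsl_bt (LP (LK LD1_c13 LD2_c30 LD3_c55)) = (LP (LK LD1_c16 LD2_c53 LD3_c5)) :=
  Lgr Lrot92 (Lpr_ct (f610384 IH) (Lpr_gt (f11756 IH) (Lpe (K47.f11737 IH) (Lpr_bt (f160440 IH) (Lpr_gt (K41.f160248 IH) (Lpr_ct (f160252 IH) (Lpe (f472126 IH) (Lpe (K41.f97351 IH) (Lpr_bt (f425422 IH) (Lpe (K41.f566235 IH) (Lpn (LP (LK LD1_c16 LD2_c53 LD3_c5)))))))))))))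
theorem f566229 : Led Lsl_dt (LP (LK LD1_c16 LD2_c53 LD3_c5)) = (LP (LK LD1_c13 LD2_c47 LD3_c8)) :=
  Lgr Lrot42 (Lpr_df (K41.f566227 IH) (Lpn (LP (LK LD1_c13 LD2_c47 LD3_c8))))
theorem f610401 : Led Lsl_bf (LP (LK LD1_c13 LD2_c51 LD3_c19)) = (LP (LK LD1_c13 LD2_c47 LD3_c8)) :=
  Lgr Lrot93 (Lpe (f610374 IH) (Lpr_bt (f610396 IH) (Lpr_dt (f566229 IH) (Lpn (LP (LK LD1_c13 LD2_c47 LD3_c8))))))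
theorem f610403 : Led Lsl_bt (LP (LK LD1_c13 LD2_c51 LD3_c19)) = (LP (LK LD1_c13 LD2_c47 LD3_c8)) :=
  Lgr Lrot127 (Lpr_bf (f610401 IH) (Lpn (LP (LK LD1_c13 LD2_c47 LD3_c8))))
theorem f790733 : Led Lsl_cf (LP (LK LD1_c13 LD2_c59 LD3_c44)) = (LP (LK LD1_c13 LD2_c51 LD3_c19)) :=
  Lgr Lrot160 (Lpr_gt (f456530 IH) (Lpr_cf (K46.f456522 IH) (Lpr_bt (K34.f456533 IH) (Lpr_gt (f790731 IH) (Lpe (f790720 IH) (Lpr_gt (f789451 IH) (Lpe (f789455 IH) (Lpe (K46.f511722 IH) (Lpr_gt (f566231 IH) (Lpe (f610403 IH) (Lpn (LP (LK LD1_c13 LD2_c51 LD3_c19)))))))))))))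
theorem f790734 : Led Lsl_ct (LP (LK LD1_c13 LD2_c51 LD3_c19)) = (LP (LK LD1_c13 LD2_c59 LD3_c44)) :=
  Leop (Lpr_cf (f790733 IH) (Lpn (LP (LK LD1_c13 LD2_c51 LD3_c19))))
theorem seed_1573 : LEOK LG_c (LK LD1_c13 LD2_c51 LD3_c19) :=
  Leoe_c (LK LD1_c13 LD2_c51 LD3_c19) (f790734 IH)
def v20903 : LQ := Led Lsl_dt (LP (LK LD1_c7 LD2_c7 LD3_c46))
theorem f790812 : Led Lsl_dt (LP (LK LD1_c7 LD2_c7 LD3_c46)) = v20903 :=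
  Lrfl
def v20501 : LQ := Led Lsl_ct (LP (LK LD1_c6 LD2_c58 LD3_c32))
theorem f787373 : Led Lsl_ct (LP (LK LD1_c6 LD2_c58 LD3_c32)) = v20501 :=
  Lrfl
theorem f661391 : Led Lsl_df (LP (LK LD1_c6 LD2_c58 LD3_c16)) = K49.v7129 :=
  Lgr Lrot18 (Lpe (K47.f529233 IH) (Lpe (K33.f479670 IH) (Lpr_at (K49.f661388 IH) (Lpn K49.v7129))))
theorem f455270 : Led Lsl_ct (LP (LK LD1_c13 LD2_c14 LD3_c7)) = (LP (LK LD1_c6 LD2_c58 LD3_c16)) :=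
  Lre_c IH (LK LD1_c13 LD2_c14 LD3_c7) (LK LD1_c6 LD2_c58 LD3_c16) Lrfl Lrfl
theorem f455269 : Led Lsl_ct (LP (LK LD1_c6 LD2_c58 LD3_c16)) = (LP (LK LD1_c13 LD2_c14 LD3_c7)) :=
  Lre_c IH (LK LD1_c6 LD2_c58 LD3_c16) (LK LD1_c13 LD2_c14 LD3_c7) Lrfl Lrfl
theorem f489555 : Led Lsl_cf (LP (LK LD1_c22 LD2_c14 LD3_c39)) = (LP (LK LD1_c13 LD2_c14 LD3_c16)) :=
  Lgr Lrot11 (Lpr_ct (f489551 IH) (Lpn (LP (LK LD1_c13 LD2_c14 LD3_c16))))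
theorem f510684 : Led Lsl_gt (LP (LK LD1_c22 LD2_c14 LD3_c39)) = (LP (LK LD1_c13 LD2_c38 LD3_c46)) :=
  Lgr Lrot94 (Lpr_cf (f489555 IH) (Lpe (K30.f477672 IH) (Lpr_dt (K30.f97047 IH) (Lpr_gt (K28.f160443 IH) (Lpr_dt (K28.f108645 IH) (Lpe (K28.f160445 IH) (Lpe (K28.f441564 IH) (Lpe (K32.f440168 IH) (Lpr_df (K32.f510675 IH) (Lpn (LP (LK LD1_c13 LD2_c38 LD3_c46))))))))))))
theorem f510748 : Led Lsl_dt (LP (LK LD1_c13 LD2_c14 LD3_c7)) = (LP (LK LD1_c13 LD2_c42 LD3_c49)) :=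
  Lgr Lrot27 (Lpe (f455269 IH) (Lpe (K47.f455266 IH) (Lpe (K47.f455152 IH) (Lpe (K47.f455153 IH) (Lpr_df (f510742 IH) (Lpr_gt (f510684 IH) (Lpr_ct (K33.f470691 IH) (Lpr_gt (K33.f470688 IH) (Lpr_ct (K34.f470692 IH) (Lpn (LP (LK LD1_c13 LD2_c42 LD3_c49))))))))))))
theorem f510750 : Led Lsl_df (LP (LK LD1_c13 LD2_c14 LD3_c7)) = (LP (LK LD1_c13 LD2_c42 LD3_c49)) :=
  Lgr Lrot38 (Lpr_dt (f510748 IH) (Lpn (LP (LK LD1_c13 LD2_c42 LD3_c49))))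
theorem f787379 : Led Lsl_gf (LP (LK LD1_c13 LD2_c30 LD3_c14)) = v20501 :=
  Lgr Lrot148 (Lpe (K34.f488246 IH) (Lpr_gt (K34.f510744 IH) (Lpe (f510750 IH) (Lpr_ct (f455270 IH) (Lpr_df (f661391 IH) (Lpe (K49.f661394 IH) (Lpr_df (K29.f470789 IH) (Lpe (K28.f470629 IH) (Lpr_ct (f787373 IH) (Lpn v20501))))))))))
def v20499 : LQ := Led Lsl_ct (LP (LK LD1_c6 LD2_c58 LD3_c21))
theorem f787359 : Led Lsl_ct (LP (LK LD1_c6 LD2_c58 LD3_c21)) = v20499 :=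
  Lrfl
theorem f787364 : Led Lsl_gf (LP (LK LD1_c7 LD2_c12 LD3_c19)) = v20499 :=
  Lgr Lrot148 (Lpe (K33.f463775 IH) (Lpr_gt (K32.f463782 IH) (Lpr_dt (K33.f510679 IH) (Lpr_ct (K33.f470691 IH) (Lpe (K32.f464951 IH) (Lpr_gf (K33.f470659 IH) (Lpe (K28.f18035 IH) (Lpe (K55.f462166 IH) (Lpr_ct (f787359 IH) (Lpn v20499))))))))))
theorem f787365 : Led Lsl_gt (LP (LK LD1_c13 LD2_c27 LD3_c45)) = v20499 :=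
  Lgr Lrot5 (Lpr_ft (K28.f441568 IH) (Lpe (K28.f441572 IH) (Lpr_gf (f787364 IH) (Lpn v20499))))
theorem f787361 : Led Lsl_cf (LP (LK LD1_c6 LD2_c58 LD3_c21)) = v20499 :=
  Lgr Lrot11 (Lpr_ct (f787359 IH) (Lpn v20499))
theorem f787380 : Led Lsl_dt (LP (LK LD1_c7 LD2_c17 LD3_c15)) = v20501 :=
  Lgr Lrot27 (Lpe (K28.f18031 IH) (Lpe (K55.f462166 IH) (Lpr_cf (f787361 IH) (Lpe (f787365 IH) (Lpe (K28.f441564 IH) (Lpr_gt (K33.f441569 IH) (Lpr_ct (K33.f464935 IH) (Lpe (K33.f472503 IH) (Lpr_ct (f787373 IH) (Lpn v20501))))))))))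
def v20857 : LQ := Led Lsl_ct (LP (LK LD1_c7 LD2_c6 LD3_c13))
theorem f790430 : Led Lsl_ct (LP (LK LD1_c7 LD2_c6 LD3_c13)) = v20857 :=
  Lrfl
theorem f467537 : Led Lsl_bt (LP (LK LD1_c13 LD2_c44 LD3_c3)) = (LP (LK LD1_c7 LD2_c15 LD3_c24)) :=
  Lre_b IH (LK LD1_c13 LD2_c44 LD3_c3) (LK LD1_c7 LD2_c15 LD3_c24) Lrfl Lrfl
theorem f578031 : Led Lsl_bf (LP (LK LD1_c8 LD2_c45 LD3_c50)) = (LP (LK LD1_c7 LD2_c6 LD3_c13)) :=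
  Lgr Lrot93 (Lpr_dt (K43.f578029 IH) (Lpr_bt (f467537 IH) (Lpr_dt (K29.f477576 IH) (Lpn (LP (LK LD1_c7 LD2_c6 LD3_c13))))))
theorem f17854 : Led Lsl_ct (LP (LK LD1_c13 LD2_c38 LD3_c55)) = (LP (LK LD1_c23 LD2_c3 LD3_c58)) :=
  Lre_c IH (LK LD1_c13 LD2_c38 LD3_c55) (LK LD1_c23 LD2_c3 LD3_c58) Lrfl Lrfl
theorem f544293 : Led Lsl_at (LP (LK LD1_c8 LD2_c45 LD3_c52)) = (LP (LK LD1_c13 LD2_c38 LD3_c55)) :=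
  Lgr Lrot107 (Lpe (K37.f99291 IH) (Lpr_af (K37.f544289 IH) (Lpe (f17854 IH) (Lpn (LP (LK LD1_c13 LD2_c38 LD3_c55))))))
theorem f621825 : Led Lsl_gt (LP (LK LD1_c8 LD2_c45 LD3_c50)) = (LP (LK LD1_c13 LD2_c38 LD3_c55)) :=
  Lgr Lrot46 (Lpe (K43.f99315 IH) (Lpr_ft (K43.f205685 IH) (Lpr_at (f544293 IH) (Lpn (LP (LK LD1_c13 LD2_c38 LD3_c55))))))
theorem f108358 : Led Lsl_gt (LP (LK LD1_c13 LD2_c39 LD3_c8)) = (LP (LK LD1_c13 LD2_c27 LD3_c4)) :=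
  Lgr Lrot5 (Lpr_ft (K24.f108341 IH) (Lpr_at (K24.f108342 IH) (Lpe (K41.f108357 IH) (Lpn (LP (LK LD1_c13 LD2_c27 LD3_c4))))))
theorem f790436 : Led Lsl_gt (LP (LK LD1_c7 LD2_c17 LD3_c15)) = v20857 :=
  Lgr Lrot149 (Lpe (K28.f18031 IH) (Lpe (K55.f462166 IH) (Lpe (K41.f535407 IH) (Lpe (K41.f489384 IH) (Lpe (f108358 IH) (Lpe (K24.f108324 IH) (Lpr_bt (K43.f108362 IH) (Lpe (f621825 IH) (Lpr_bf (f578031 IH) (Lpr_ct (f790430 IH) (Lpn v20857)))))))))))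
theorem f790432 : Led Lsl_cf (LP (LK LD1_c7 LD2_c6 LD3_c13)) = v20857 :=
  Lgr Lrot11 (Lpr_ct (f790430 IH) (Lpn v20857))
theorem f790818 : Led Lsl_ct (LP (LK LD1_c7 LD2_c12 LD3_c20)) = v20903 :=
  Lgr Lrot151 (Lpr_gf (K29.f441622 IH) (Lpr_cf (f790432 IH) (Lpe (f790436 IH) (Lpr_dt (f787380 IH) (Lpe (f787379 IH) (Lpr_ct (K33.f464958 IH) (Lpr_gt (K28.f97378 IH) (Lpr_ct (K28.f440158 IH) (Lpr_dt (f790812 IH) (Lpn v20903))))))))))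
theorem f441621 : Led Lsl_bt (LP (LK LD1_c7 LD2_c12 LD3_c20)) = (LP (LK LD1_c13 LD2_c38 LD3_c25)) :=
  Lre_b IH (LK LD1_c7 LD2_c12 LD3_c20) (LK LD1_c13 LD2_c38 LD3_c25) Lrfl Lrfl
theorem f81286 : Led Lsl_ct (LP (LK LD1_c8 LD2_c45 LD3_c57)) = (LP (LK LD1_c16 LD2_c24 LD3_c8)) :=
  Lre_c IH (LK LD1_c8 LD2_c45 LD3_c57) (LK LD1_c16 LD2_c24 LD3_c8) Lrfl Lrfl
theorem f559038 : Led Lsl_gf (LP (LK LD1_c12 LD2_c8 LD3_c31)) = (LP (LK LD1_c16 LD2_c24 LD3_c8)) :=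
  Lgr Lrot104 (Lpe (K39.f554049 IH) (Lpe (K39.f439638 IH) (Lpr_cf (K34.f439220 IH) (Lpe (K39.f439581 IH) (Lpr_cf (K39.f464326 IH) (Lpe (K39.f108271 IH) (Lpe (K36.f108289 IH) (Lpr_gt (K47.f559022 IH) (Lpr_ct (f81286 IH) (Lpn (LP (LK LD1_c16 LD2_c24 LD3_c8))))))))))))
theorem f97273 : Led Lsl_bt (LP (LK LD1_c7 LD2_c17 LD3_c19)) = (LP (LK LD1_c3 LD2_c38 LD3_c30)) :=
  Lre_b IH (LK LD1_c7 LD2_c17 LD3_c19) (LK LD1_c3 LD2_c38 LD3_c30) Lrfl Lrfl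
theorem f660811 : Led Lsl_bt (LP (LK LD1_c6 LD2_c58 LD3_c24)) = K60.v7088 :=
  Lgr Lrot95 (Lpe (K24.f455157 IH) (Lpr_bf (K60.f658106 IH) (Lpr_df (K60.f660810 IH) (Lpn K60.v7088))))
theorem f790820 : Led Lsl_gt (LP (LK LD1_c13 LD2_c14 LD3_c18)) = v20903 :=
  Lgr Lrot65 (Lpe (K24.f455158 IH) (Lpr_bt (f660811 IH) (Lpe (K60.f660807 IH) (Lpe (f97273 IH) (Lpe (K42.f567927 IH) (Lpr_gf (f559038 IH) (Lpe (f81286 IH) (Lpe (K47.f559022 IH) (Lpe (f441621 IH) (Lpr_ct (f790818 IH) (Lpn v20903)))))))))))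
theorem f455249 : Led Lsl_et (LP (LK LD1_c13 LD2_c14 LD3_c29)) = (LP (LK LD1_c22 LD2_c29 LD3_c14)) :=
  Lre_e IH (LK LD1_c13 LD2_c14 LD3_c29) (LK LD1_c22 LD2_c29 LD3_c14) Lrfl Lrfl
theorem f440173 : Led Lsl_et (LP (LK LD1_c7 LD2_c7 LD3_c46)) = (LP (LK LD1_c13 LD2_c30 LD3_c8)) :=
  Lre_e IH (LK LD1_c7 LD2_c7 LD3_c46) (LK LD1_c13 LD2_c30 LD3_c8) Lrfl Lrfl
theorem f790821 : Led Lsl_gf (LP (LK LD1_c22 LD2_c29 LD3_c14)) = (LP (LK LD1_c16 LD2_c20 LD3_c24)) :=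
  Lgr Lrot141 (Lpe (f455249 IH) (Lpe (K47.f455247 IH) (Lpr_gt (f790820 IH) (Lpe (f790812 IH) (Lpr_et (f440173 IH) (Lpr_gt (K45.f571158 IH) (Lpr_dt (K45.f217731 IH) (Lpr_gt (K18.f217469 IH) (Lpr_df (K18.f297370 IH) (Lpr_et (K18.f297365 IH) (Lpn (LP (LK LD1_c16 LD2_c20 LD3_c24)))))))))))))
theorem f790822 : Led Lsl_gt (LP (LK LD1_c16 LD2_c20 LD3_c24)) = (LP (LK LD1_c22 LD2_c29 LD3_c14)) :=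
  Leop (Lpr_gf (f790821 IH) (Lpn (LP (LK LD1_c16 LD2_c20 LD3_c24))))
theorem seed_1574 : LEOK LG_g (LK LD1_c16 LD2_c20 LD3_c24) :=
  Leoe_g (LK LD1_c16 LD2_c20 LD3_c24) (f790822 IH)
def v20908 : LQ := Led Lsl_dt (LP (LK LD1_c7 LD2_c8 LD3_c13))
theorem f790862 : Led Lsl_dt (LP (LK LD1_c7 LD2_c8 LD3_c13)) = v20908 :=
  Lrfl
theorem f464908 : Led Lsl_dt (LP (LK LD1_c7 LD2_c6 LD3_c15)) = (LP (LK LD1_c13 LD2_c13 LD3_c59)) :=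
  Lgr Lrot42 (Lpr_df (K28.f464901 IH) (Lpn (LP (LK LD1_c13 LD2_c13 LD3_c59))))
theorem f790867 : Led Lsl_ct (LP (LK LD1_c7 LD2_c17 LD3_c16)) = v20908 :=
  Lgr Lrot151 (Lpr_gf (K33.f470773 IH) (Lpe (K33.f455325 IH) (Lpr_gf (K33.f477667 IH) (Lpr_dt (f464908 IH) (Lpe (K33.f464916 IH) (Lpr_ct (K33.f465653 IH) (Lpr_gt (K28.f108036 IH) (Lpr_ct (K33.f108034 IH) (Lpr_dt (f790862 IH) (Lpn v20908))))))))))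
theorem f543721 : Led Lsl_bf (LP (LK LD1_c12 LD2_c7 LD3_c31)) = (LP (LK LD1_c7 LD2_c17 LD3_c16)) :=
  Lgr Lrot93 (Lpr_dt (K37.f543719 IH) (Lpr_bt (K4.f18039 IH) (Lpr_dt (K28.f18045 IH) (Lpn (LP (LK LD1_c7 LD2_c17 LD3_c16))))))
theorem f441614 : Led Lsl_ct (LP (LK LD1_c7 LD2_c12 LD3_c17)) = (LP (LK LD1_c13 LD2_c38 LD3_c39)) :=
  Lre_c IH (LK LD1_c7 LD2_c12 LD3_c17) (LK LD1_c13 LD2_c38 LD3_c39) Lrfl Lrfl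
theorem f790869 : Led Lsl_gt (LP (LK LD1_c13 LD2_c38 LD3_c39)) = v20908 :=
  Lgr Lrot149 (Lpe (f441614 IH) (Lpe (K29.f441561 IH) (Lpe (K36.f441604 IH) (Lpr_ct (K36.f116255 IH) (Lpr_gf (K55.f590094 IH) (Lpe (K55.f443103 IH) (Lpr_bt (K55.f443102 IH) (Lpe (K55.f420567 IH) (Lpr_bf (f543721 IH) (Lpr_ct (f790867 IH) (Lpn v20908)))))))))))
theorem f462018 : Led Lsl_bt (LP (LK LD1_c7 LD2_c12 LD3_c17)) = (LP (LK LD1_c13 LD2_c38 LD3_c38)) :=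
  Lre_b IH (LK LD1_c7 LD2_c12 LD3_c17) (LK LD1_c13 LD2_c38 LD3_c38) Lrfl Lrfl
theorem f157847 : Led Lsl_et (LP (LK LD1_c11 LD2_c24 LD3_c40)) = (LP (LK LD1_c5 LD2_c47 LD3_c15)) :=
  Lre_e IH (LK LD1_c11 LD2_c24 LD3_c40) (LK LD1_c5 LD2_c47 LD3_c15) Lrfl Lrfl
theorem f161172 : Led Lsl_et (LP (LK LD1_c9 LD2_c7 LD3_c59)) = (LP (LK LD1_c17 LD2_c0 LD3_c18)) :=
  Lre_e IH (LK LD1_c9 LD2_c7 LD3_c59) (LK LD1_c17 LD2_c0 LD3_c18) Lrfl Lrfl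
theorem f161185 : Led Lsl_bf (LP (LK LD1_c11 LD2_c24 LD3_c40)) = (LP (LK LD1_c17 LD2_c0 LD3_c18)) :=
  Lgr Lrot96 (Lpr_et (f157847 IH) (Lpr_bt (K8.f161179 IH) (Lpr_et (f161172 IH) (Lpn (LP (LK LD1_c17 LD2_c0 LD3_c18))))))
theorem f790870 : Led Lsl_gf (LP (LK LD1_c13 LD2_c38 LD3_c38)) = (LP (LK LD1_c11 LD2_c24 LD3_c40)) :=
  Lgr Lrot124 (Lpe (f462018 IH) (Lpr_ct (f441614 IH) (Lpr_gt (f790869 IH) (Lpe (f790867 IH) (Lpe (f543721 IH) (Lpr_gt (K55.f420567 IH) (Lpr_ct (K55.f543734 IH) (Lpe (K55.f589903 IH) (Lpe (K32.f161169 IH) (Lpe (f161185 IH) (Lpn (LP (LK LD1_c11 LD2_c24 LD3_c40)))))))))))))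
theorem f790871 : Led Lsl_gt (LP (LK LD1_c11 LD2_c24 LD3_c40)) = (LP (LK LD1_c13 LD2_c38 LD3_c38)) :=
  Leop (Lpr_gf (f790870 IH) (Lpn (LP (LK LD1_c11 LD2_c24 LD3_c40))))
theorem seed_1575 : LEOK LG_g (LK LD1_c11 LD2_c24 LD3_c40) :=
  Leoe_g (LK LD1_c11 LD2_c24 LD3_c40) (f790871 IH)
theorem f462031 : Led Lsl_et (LP (LK LD1_c23 LD2_c3 LD3_c42)) = (LP (LK LD1_c13 LD2_c38 LD3_c38)) :=
  Lre_e IH (LK LD1_c23 LD2_c3 LD3_c42) (LK LD1_c13 LD2_c38 LD3_c38) Lrfl Lrfl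
theorem f138542 : Led Lsl_et (LP (LK LD1_c5 LD2_c47 LD3_c15)) = (LP (LK LD1_c11 LD2_c24 LD3_c40)) :=
  Lre_e IH (LK LD1_c5 LD2_c47 LD3_c15) (LK LD1_c11 LD2_c24 LD3_c40) Lrfl Lrfl
def v17193 : LQ := Led Lsl_et (LP (LK LD1_c6 LD2_c13 LD3_c16))
theorem f756585 : Led Lsl_et (LP (LK LD1_c6 LD2_c13 LD3_c16)) = v17193 :=
  Lrfl
theorem f756589 : Led Lsl_ef (LP (LK LD1_c6 LD2_c13 LD3_c16)) = v17193 :=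
  Lgr Lrot88 (Lpr_et (f756585 IH) (Lpn v17193))
theorem f421293 : Led Lsl_et (LP (LK LD1_c18 LD2_c43 LD3_c0)) = (LP (LK LD1_c10 LD2_c17 LD3_c57)) :=
  Lre_e IH (LK LD1_c18 LD2_c43 LD3_c0) (LK LD1_c10 LD2_c17 LD3_c57) Lrfl Lrfl
theorem f756588 : Led Lsl_df (LP (LK LD1_c18 LD2_c43 LD3_c0)) = v17193 :=
  Lgr Lrot70 (Lpr_et (f421293 IH) (Lpr_dt (K39.f308595 IH) (Lpr_et (K32.f421281 IH) (Lpr_dt (K40.f69430 IH) (Lpr_et (f756585 IH) (Lpn v17193))))))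
theorem f421313 : Led Lsl_gt (LP (LK LD1_c28 LD2_c13 LD3_c51)) = (LP (LK LD1_c18 LD2_c43 LD3_c0)) :=
  Lre_g IH (LK LD1_c28 LD2_c13 LD3_c51) (LK LD1_c18 LD2_c43 LD3_c0) Lrfl Lrfl
theorem f790874 : Led Lsl_dt (LP (LK LD1_c23 LD2_c3 LD3_c42)) = (LP (LK LD1_c28 LD2_c13 LD3_c51)) :=
  Lgr Lrot136 (Lpr_et (f462031 IH) (Lpr_gf (f790870 IH) (Lpe (f138542 IH) (Lpr_dt (K8.f138539 IH) (Lpr_gf (K11.f138572 IH) (Lpe (K8.f119810 IH) (Lpe (K40.f138570 IH) (Lpr_ef (f756589 IH) (Lpe (f756588 IH) (Lpe (f421313 IH) (Lpn (LP (LK LD1_c28 LD2_c13 LD3_c51)))))))))))))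
theorem f790875 : Led Lsl_dt (LP (LK LD1_c23 LD2_c3 LD3_c42)) = (LP (LK LD1_c28 LD2_c13 LD3_c51)) :=
  Leop (Lpe (f790874 IH) (Lpn (LP (LK LD1_c23 LD2_c3 LD3_c42))))
theorem seed_1576 : LEOK LG_d (LK LD1_c23 LD2_c3 LD3_c42) :=
  Leoe_d (LK LD1_c23 LD2_c3 LD3_c42) (f790875 IH)
def v20909 : LQ := Led Lsl_et (LP (LK LD1_c7 LD2_c8 LD3_c33))
theorem f790889 : Led Lsl_et (LP (LK LD1_c7 LD2_c8 LD3_c33)) = v20909 :=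
  Lrfl
def v20471 : LQ := Led Lsl_bt (LP (LK LD1_c6 LD2_c57 LD3_c52))
theorem f787208 : Led Lsl_bt (LP (LK LD1_c6 LD2_c57 LD3_c52)) = v20471 :=
  Lrfl
theorem f668044 : Led Lsl_bt (LP (LK LD1_c7 LD2_c48 LD3_c24)) = K48.v7727 :=
  Lgr Lrot127 (Lpr_bf (K48.f668043 IH) (Lpn K48.v7727))
theorem f787211 : Led Lsl_ef (LP (LK LD1_c7 LD2_c48 LD3_c24)) = v20471 :=
  Lgr Lrot29 (Lpr_bt (f668044 IH) (Lpe (K48.f668039 IH) (Lpr_bt (f787208 IH) (Lpn v20471))))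
theorem f790894 : Led Lsl_ff v20471 = v20909 :=
  Lgr Lrot72 (Lpe (f787211 IH) (Lpe (K48.f535511 IH) (Lpr_et (K33.f157587 IH) (Lpr_ft (K35.f524704 IH) (Lpr_et (f790889 IH) (Lpn v20909))))))
theorem f787209 : Led Lsl_bf (LP (LK LD1_c6 LD2_c57 LD3_c52)) = v20471 :=
  Lgr Lrot24 (Lpr_bt (f787208 IH) (Lpn v20471))
theorem f790895 : Led Lsl_bt K48.v7323 = v20909 :=
  Lgr Lrot35 (Lpe (K48.f664570 IH) (Lpr_bf (f787209 IH) (Lpr_ff (f790894 IH) (Lpn v20909))))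
theorem f85223 : Led Lsl_gt (LP (LK LD1_c3 LD2_c44 LD3_c47)) = (LP (LK LD1_c1 LD2_c49 LD3_c37)) :=
  Lre_g IH (LK LD1_c3 LD2_c44 LD3_c47) (LK LD1_c1 LD2_c49 LD3_c37) Lrfl Lrfl
theorem f85221 : Led Lsl_gt (LP (LK LD1_c1 LD2_c49 LD3_c36)) = (LP (LK LD1_c3 LD2_c44 LD3_c47)) :=
  Lre_g IH (LK LD1_c1 LD2_c49 LD3_c36) (LK LD1_c3 LD2_c44 LD3_c47) Lrfl Lrfl
theorem f94307 : Led Lsl_gt (LP (LK LD1_c6 LD2_c53 LD3_c34)) = (LP (LK LD1_c3 LD2_c25 LD3_c49)) :=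
  Lre_g IH (LK LD1_c6 LD2_c53 LD3_c34) (LK LD1_c3 LD2_c25 LD3_c49) Lrfl Lrfl
theorem f484050 : Led Lsl_gt (LP (LK LD1_c7 LD2_c18 LD3_c33)) = (LP (LK LD1_c6 LD2_c53 LD3_c34)) :=
  Lgr Lrot5 (Lpr_ft (K29.f484041 IH) (Lpe (K4.f102677 IH) (Lpe (f94307 IH) (Lpn (LP (LK LD1_c6 LD2_c53 LD3_c34))))))
theorem f664567 : Led Lsl_dt (LP (LK LD1_c6 LD2_c53 LD3_c34)) = K48.v7323 :=
  Lgr Lrot113 (Lpe (f484050 IH) (Lpe (K29.f467634 IH) (Lpr_gf (K34.f484099 IH) (Lpe (K35.f483497 IH) (Lpr_gt (f85221 IH) (Lpe (K3.f85209 IH) (Lpr_gt (f85223 IH) (Lpr_dt (K28.f85224 IH) (Lpr_ct (K48.f664560 IH) (Lpn K48.v7323))))))))))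
def v20286 : LQ := Led Lsl_bt (LP (LK LD1_c6 LD2_c53 LD3_c34))
theorem f786095 : Led Lsl_bt (LP (LK LD1_c6 LD2_c53 LD3_c34)) = v20286 :=
  Lrfl
theorem f786096 : Led Lsl_bf (LP (LK LD1_c6 LD2_c53 LD3_c34)) = v20286 :=
  Lgr Lrot24 (Lpr_bt (f786095 IH) (Lpn v20286))
theorem f790898 : Led Lsl_df v20286 = v20909 :=
  Lgr Lrot12 (Lpe (f786096 IH) (Lpr_dt (f664567 IH) (Lpr_bt (f790895 IH) (Lpn v20909))))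
theorem f790893 : Led Lsl_ef (LP (LK LD1_c7 LD2_c8 LD3_c33)) = v20909 :=
  Lgr Lrot88 (Lpr_et (f790889 IH) (Lpn v20909))
theorem f419401 : Led Lsl_et (LP (LK LD1_c1 LD2_c50 LD3_c28)) = (LP (LK LD1_c0 LD2_c52 LD3_c7)) :=
  Lre_e IH (LK LD1_c1 LD2_c50 LD3_c28) (LK LD1_c0 LD2_c52 LD3_c7) Lrfl Lrfl
theorem f419402 : Led Lsl_dt (LP (LK LD1_c1 LD2_c50 LD3_c28)) = (LP (LK LD1_c3 LD2_c46 LD3_c44)) :=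
  Lre_d IH (LK LD1_c1 LD2_c50 LD3_c28) (LK LD1_c3 LD2_c46 LD3_c44) Lrfl Lrfl
theorem f419403 : Led Lsl_gt (LP (LK LD1_c7 LD2_c34 LD3_c19)) = (LP (LK LD1_c3 LD2_c46 LD3_c44)) :=
  Lre_g IH (LK LD1_c7 LD2_c34 LD3_c19) (LK LD1_c3 LD2_c46 LD3_c44) Lrfl Lrfl
theorem f790901 : v20286 = (LP (LK LD1_c7 LD2_c34 LD3_c19)) :=
  (Llr Lrot136 (Lpr_df (f790898 IH) (Lpe (f790893 IH) (Lpe (K29.f477989 IH) (Lpe (K33.f88587 IH) (Lpr_dt (K5.f87915 IH) (Lpe (K28.f419391 IH) (Lpe (K28.f14697 IH) (Lpe (K28.f14696 IH) (Lpe (f419401 IH) (Lpr_dt (f419402 IH) (Lpe (f419403 IH) (Lpn (LP (LK LD1_c7 LD2_c34 LD3_c19))))))))))))))).symm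
theorem f790902 : Led Lsl_bt (LP (LK LD1_c7 LD2_c34 LD3_c19)) = (LP (LK LD1_c6 LD2_c53 LD3_c34)) :=
  Leop (Lpr_bf (f786096 IH) (Lpqs (f790901 IH) (Lpn (LP (LK LD1_c7 LD2_c34 LD3_c19)))))
theorem seed_1577 : LEOK LG_b (LK LD1_c7 LD2_c34 LD3_c19) :=
  Leoe_b (LK LD1_c7 LD2_c34 LD3_c19) (f790902 IH)
def v20918 : LQ := Led Lsl_ct (LP (LK LD1_c7 LD2_c8 LD3_c53))
theorem f791026 : Led Lsl_ct (LP (LK LD1_c7 LD2_c8 LD3_c53)) = v20918 :=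
  Lrfl
theorem f108489 : Led Lsl_ct (LP (LK LD1_c13 LD2_c39 LD3_c2)) = (LP (LK LD1_c7 LD2_c12 LD3_c40)) :=
  Lre_c IH (LK LD1_c13 LD2_c39 LD3_c2) (LK LD1_c7 LD2_c12 LD3_c40) Lrfl Lrfl
theorem f791028 : Led Lsl_gf (LP (LK LD1_c13 LD2_c39 LD3_c2)) = v20918 :=
  Lgr Lrot104 (Lpr_ct (f108489 IH) (Lpe (K33.f108487 IH) (Lpe (K24.f461796 IH) (Lpe (K28.f464551 IH) (Lpe (K37.f439449 IH) (Lpe (K28.f465693 IH) (Lpe (K33.f465686 IH) (Lpr_gt (K33.f465703 IH) (Lpr_ct (f791026 IH) (Lpn v20918))))))))))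
theorem f108488 : Led Lsl_ct (LP (LK LD1_c7 LD2_c12 LD3_c40)) = (LP (LK LD1_c13 LD2_c39 LD3_c2)) :=
  Lre_c IH (LK LD1_c7 LD2_c12 LD3_c40) (LK LD1_c13 LD2_c39 LD3_c2) Lrfl Lrfl
theorem f466660 : Led Lsl_ct (LP (LK LD1_c13 LD2_c26 LD3_c50)) = (LP (LK LD1_c7 LD2_c5 LD3_c44)) :=
  Lre_c IH (LK LD1_c13 LD2_c26 LD3_c50) (LK LD1_c7 LD2_c5 LD3_c44) Lrfl Lrfl
theorem f514174 : Led Lsl_ft (LP (LK LD1_c13 LD2_c39 LD3_c2)) = (LP (LK LD1_c13 LD2_c26 LD3_c50)) :=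
  Lgr Lrot4 (Lpe (f108488 IH) (Lpr_ff (K41.f514169 IH) (Lpe (f466660 IH) (Lpn (LP (LK LD1_c13 LD2_c26 LD3_c50))))))
theorem f466274 : Led Lsl_ct (LP (LK LD1_c13 LD2_c38 LD3_c58)) = (LP (LK LD1_c7 LD2_c12 LD3_c37)) :=
  Lre_c IH (LK LD1_c13 LD2_c38 LD3_c58) (LK LD1_c7 LD2_c12 LD3_c37) Lrfl Lrfl
theorem f147286 : Led Lsl_ct (LP (LK LD1_c7 LD2_c5 LD3_c44)) = (LP (LK LD1_c13 LD2_c26 LD3_c50)) :=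
  Lre_c IH (LK LD1_c7 LD2_c5 LD3_c44) (LK LD1_c13 LD2_c26 LD3_c50) Lrfl Lrfl
theorem f513396 : Led Lsl_af (LP (LK LD1_c13 LD2_c38 LD3_c58)) = (LP (LK LD1_c13 LD2_c26 LD3_c50)) :=
  Lgr Lrot68 (Lpr_ct (f466274 IH) (Lpr_at (K34.f513390 IH) (Lpr_ct (f147286 IH) (Lpn (LP (LK LD1_c13 LD2_c26 LD3_c50))))))
theorem f108401 : Led Lsl_ct (LP (LK LD1_c13 LD2_c26 LD3_c56)) = (LP (LK LD1_c7 LD2_c5 LD3_c46)) :=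
  Lre_c IH (LK LD1_c13 LD2_c26 LD3_c56) (LK LD1_c7 LD2_c5 LD3_c46) Lrfl Lrfl
theorem f17953 : Led Lsl_ct (LP (LK LD1_c7 LD2_c12 LD3_c37)) = (LP (LK LD1_c13 LD2_c38 LD3_c58)) :=
  Lre_c IH (LK LD1_c7 LD2_c12 LD3_c37) (LK LD1_c13 LD2_c38 LD3_c58) Lrfl Lrfl
theorem f512085 : Led Lsl_ff (LP (LK LD1_c13 LD2_c26 LD3_c56)) = (LP (LK LD1_c13 LD2_c38 LD3_c58)) :=
  Lgr Lrot23 (Lpr_ct (f108401 IH) (Lpr_ft (K33.f512080 IH) (Lpr_ct (f17953 IH) (Lpn (LP (LK LD1_c13 LD2_c38 LD3_c58))))))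
theorem f514185 : Led Lsl_af (LP (LK LD1_c13 LD2_c39 LD3_c2)) = (LP (LK LD1_c13 LD2_c26 LD3_c56)) :=
  Lgr Lrot45 (Lpr_ft (f514174 IH) (Lpe (f513396 IH) (Lpe (f512085 IH) (Lpn (LP (LK LD1_c13 LD2_c26 LD3_c56))))))
theorem f791029 : Led Lsl_gt (LP (LK LD1_c13 LD2_c38 LD3_c58)) = v20918 :=
  Lgr Lrot5 (Lpe (f512085 IH) (Lpe (f514185 IH) (Lpr_gf (f791028 IH) (Lpn v20918))))
theorem f466281 : Led Lsl_gt (LP (LK LD1_c23 LD2_c3 LD3_c59)) = (LP (LK LD1_c13 LD2_c38 LD3_c56)) :=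
  Lre_g IH (LK LD1_c23 LD2_c3 LD3_c59) (LK LD1_c13 LD2_c38 LD3_c56) Lrfl Lrfl
theorem f617825 : Led Lsl_gf (LP (LK LD1_c21 LD2_c14 LD3_c53)) = (LP (LK LD1_c13 LD2_c32 LD3_c9)) :=
  Lgr Lrot154 (Lpr_dt (K39.f210897 IH) (Lpr_ct (K55.f543610 IH) (Lpe (K55.f470269 IH) (Lpr_gf (K55.f576570 IH) (Lpr_df (K33.f472674 IH) (Lpe (K55.f472684 IH) (Lpr_ct (K55.f617815 IH) (Lpr_gt (K55.f456581 IH) (Lpr_dt (K39.f515993 IH) (Lpn (LP (LK LD1_c13 LD2_c32 LD3_c9))))))))))))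
theorem f742278 : Led Lsl_gt (LP (LK LD1_c23 LD2_c42 LD3_c59)) = (LP (LK LD1_c14 LD2_c8 LD3_c28)) :=
  Lre_g IH (LK LD1_c23 LD2_c42 LD3_c59) (LK LD1_c14 LD2_c8 LD3_c28) Lrfl Lrfl
theorem f742299 : Led Lsl_gt (LP (LK LD1_c30 LD2_c31 LD3_c54)) = (LP (LK LD1_c23 LD2_c42 LD3_c59)) :=
  Lgr Lrot5 (Lpr_ft (K55.f742294 IH) (Lpr_at (K55.f742266 IH) (Lpe (f742278 IH) (Lpn (LP (LK LD1_c23 LD2_c42 LD3_c59))))))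
theorem f479563 : Led Lsl_ct (LP (LK LD1_c22 LD2_c29 LD3_c5)) = (LP (LK LD1_c30 LD2_c31 LD3_c54)) :=
  Lre_c IH (LK LD1_c22 LD2_c29 LD3_c5) (LK LD1_c30 LD2_c31 LD3_c54) Lrfl Lrfl
theorem f469265 : Led Lsl_dt (LP (LK LD1_c23 LD2_c3 LD3_c20)) = (LP (LK LD1_c13 LD2_c38 LD3_c12)) :=
  Lre_d IH (LK LD1_c23 LD2_c3 LD3_c20) (LK LD1_c13 LD2_c38 LD3_c12) Lrfl Lrfl
theorem f543609 : Led Lsl_dt (LP (LK LD1_c12 LD2_c8 LD3_c33)) = (LP (LK LD1_c21 LD2_c14 LD3_c53)) :=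
  Lre_d IH (LK LD1_c12 LD2_c8 LD3_c33) (LK LD1_c21 LD2_c14 LD3_c53) Lrfl Lrfl
theorem f742303 : Led Lsl_cf (LP (LK LD1_c21 LD2_c14 LD3_c53)) = (LP (LK LD1_c23 LD2_c42 LD3_c59)) :=
  Lgr Lrot99 (Lpe (f543609 IH) (Lpr_cf (K39.f543612 IH) (Lpe (K39.f469263 IH) (Lpr_cf (K28.f469251 IH) (Lpe (K33.f108272 IH) (Lpe (f469265 IH) (Lpe (K40.f533958 IH) (Lpr_ct (f479563 IH) (Lpr_gt (f742299 IH) (Lpn (LP (LK LD1_c23 LD2_c42 LD3_c59))))))))))))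
theorem f742305 : Led Lsl_ct (LP (LK LD1_c21 LD2_c14 LD3_c53)) = (LP (LK LD1_c23 LD2_c42 LD3_c59)) :=
  Lgr Lrot59 (Lpr_cf (f742303 IH) (Lpn (LP (LK LD1_c23 LD2_c42 LD3_c59))))
theorem f791030 : Led Lsl_bf (LP (LK LD1_c23 LD2_c3 LD3_c59)) = (LP (LK LD1_c21 LD2_c29 LD3_c50)) :=
  Lgr Lrot156 (Lpr_gt (f466281 IH) (Lpe (K33.f489073 IH) (Lpr_ct (f17953 IH) (Lpr_gt (f791029 IH) (Lpe (f791026 IH) (Lpr_bt (K43.f526890 IH) (Lpe (f617825 IH) (Lpr_ct (f742305 IH) (Lpr_gt (f742278 IH) (Lpe (K55.f742251 IH) (Lpn (LP (LK LD1_c21 LD2_c29 LD3_c50)))))))))))))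
theorem f791031 : Led Lsl_bt (LP (LK LD1_c21 LD2_c29 LD3_c50)) = (LP (LK LD1_c23 LD2_c3 LD3_c59)) :=
  Leop (Lpr_bf (f791030 IH) (Lpn (LP (LK LD1_c21 LD2_c29 LD3_c50))))
theorem seed_1578 : LEOK LG_b (LK LD1_c21 LD2_c29 LD3_c50) :=
  Leoe_b (LK LD1_c21 LD2_c29 LD3_c50) (f791031 IH)
def v20920 : LQ := Led Lsl_dt (LP (LK LD1_c7 LD2_c9 LD3_c0))
theorem f791039 : Led Lsl_dt (LP (LK LD1_c7 LD2_c9 LD3_c0)) = v20920 :=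
  Lrfl
theorem f522726 : Led Lsl_et (LP (LK LD1_c3 LD2_c33 LD3_c58)) = (LP (LK LD1_c7 LD2_c9 LD3_c0)) :=
  Lre_e IH (LK LD1_c3 LD2_c33 LD3_c58) (LK LD1_c7 LD2_c9 LD3_c0) Lrfl Lrfl
def v7121 : LQ := Led Lsl_at (LP (LK LD1_c3 LD2_c39 LD3_c36))
theorem f661315 : Led Lsl_at (LP (LK LD1_c3 LD2_c39 LD3_c36)) = v7121 :=
  Lrfl
theorem f661318 : Led Lsl_df K35.v2488 = v7121 :=
  Lgr Lrot18 (Lpe (K35.f522760 IH) (Lpr_dt (K60.f5646 IH) (Lpr_at (f661315 IH) (Lpn v7121))))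
theorem f791042 : Led Lsl_ef v7121 = v20920 :=
  Lgr Lrot73 (Lpe (f661318 IH) (Lpq (K35.f528005 IH) (Lpe (K33.f522685 IH) (Lpr_dt (K33.f10521 IH) (Lpr_et (f522726 IH) (Lpr_dt (f791039 IH) (Lpn v20920)))))))
def v2768 : LQ := Led Lsl_et (LP (LK LD1_c1 LD2_c54 LD3_c45))
def v9543 : LQ := Led Lsl_dt v2768
theorem f676576 : Led Lsl_dt v2768 = v9543 :=
  Lrfl
theorem f535436 : Led Lsl_et (LP (LK LD1_c1 LD2_c54 LD3_c45)) = v2768 :=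
  Lrfl
theorem f535439 : Led Lsl_ef (LP (LK LD1_c1 LD2_c54 LD3_c45)) = v2768 :=
  Lgr Lrot88 (Lpr_et (f535436 IH) (Lpn v2768))
theorem f661319 : Led Lsl_dt K35.v2488 = v7121 :=
  Lgr Lrot42 (Lpr_df (f661318 IH) (Lpn v7121))
theorem f676582 : Led Lsl_gt v7121 = v9543 :=
  Lgr Lrot139 (Lpe (f661319 IH) (Lpq (K35.f528005 IH) (Lpe (K33.f522682 IH) (Lpe (K33.f4990 IH) (Lpe (K0.f4986 IH) (Lpr_gf (K3.f98490 IH) (Lpe (K3.f6104 IH) (Lpr_et (K33.f97357 IH) (Lpr_gf (K34.f470835 IH) (Lpr_ef (f535439 IH) (Lpr_dt (f676576 IH) (Lpn v9543))))))))))))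
theorem f676579 : Led Lsl_df v2768 = v9543 :=
  Lgr Lrot38 (Lpr_dt (f676576 IH) (Lpn v9543))
theorem f661405 : Led Lsl_et (LP (LK LD1_c6 LD2_c58 LD3_c23)) = K49.v7130 :=
  Lgr Lrot69 (Lpe (K47.f529421 IH) (Lpe (K29.f477621 IH) (Lpq (K35.f528434 IH) (Lpe (K35.f519756 IH) (Lpr_ef (K49.f519754 IH) (Lpr_ff (K49.f661403 IH) (Lpn K49.v7130)))))))
theorem f661407 : Led Lsl_gt v2768 = K49.v7130 :=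
  Lgr Lrot131 (Lpe (f535436 IH) (Lpr_dt (K29.f458631 IH) (Lpr_gf (K33.f471028 IH) (Lpe (K33.f441960 IH) (Lpr_gf (K33.f522673 IH) (Lpe (K33.f470677 IH) (Lpr_dt (K32.f464951 IH) (Lpe (K33.f488248 IH) (Lpe (K47.f511156 IH) (Lpr_et (f661405 IH) (Lpn K49.v7130)))))))))))
theorem f574119 : Led Lsl_et (LP (LK LD1_c3 LD2_c39 LD3_c41)) = (LP (LK LD1_c7 LD2_c19 LD3_c35)) :=
  Lre_e IH (LK LD1_c3 LD2_c39 LD3_c41) (LK LD1_c7 LD2_c19 LD3_c35) Lrfl Lrfl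
theorem f574113 : Led Lsl_gt (LP (LK LD1_c7 LD2_c19 LD3_c35)) = (LP (LK LD1_c13 LD2_c51 LD3_c29)) :=
  Lre_g IH (LK LD1_c7 LD2_c19 LD3_c35) (LK LD1_c13 LD2_c51 LD3_c29) Lrfl Lrfl
theorem f791041 : Led Lsl_df (LP (LK LD1_c7 LD2_c9 LD3_c0)) = v20920 :=
  Lgr Lrot38 (Lpr_dt (f791039 IH) (Lpn v20920))
theorem f529890 : Led Lsl_gt (LP (LK LD1_c13 LD2_c32 LD3_c36)) = (LP (LK LD1_c7 LD2_c9 LD3_c0)) :=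
  Lre_g IH (LK LD1_c13 LD2_c32 LD3_c36) (LK LD1_c7 LD2_c9 LD3_c0) Lrfl Lrfl
theorem f529896 : Led Lsl_dt (LP (LK LD1_c22 LD2_c54 LD3_c43)) = (LP (LK LD1_c13 LD2_c32 LD3_c36)) :=
  Lre_d IH (LK LD1_c22 LD2_c54 LD3_c43) (LK LD1_c13 LD2_c32 LD3_c36) Lrfl Lrfl
theorem f791045 : Led Lsl_ef (LP (LK LD1_c13 LD2_c51 LD3_c29)) = (LP (LK LD1_c22 LD2_c54 LD3_c43)) :=
  Lgr Lrot17 (Lpe (f574113 IH) (Lpe (f574119 IH) (Lpr_dt (K49.f661400 IH) (Lpe (f661407 IH) (Lpr_df (f676579 IH) (Lpe (f676582 IH) (Lpr_ef (f791042 IH) (Lpe (f791041 IH) (Lpe (f529890 IH) (Lpe (f529896 IH) (Lpn (LP (LK LD1_c22 LD2_c54 LD3_c43)))))))))))))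
theorem f791046 : Led Lsl_et (LP (LK LD1_c22 LD2_c54 LD3_c43)) = (LP (LK LD1_c13 LD2_c51 LD3_c29)) :=
  Leop (Lpr_ef (f791045 IH) (Lpn (LP (LK LD1_c22 LD2_c54 LD3_c43))))
theorem seed_1579 : LEOK LG_e (LK LD1_c22 LD2_c54 LD3_c43) :=
  Leoe_e (LK LD1_c22 LD2_c54 LD3_c43) (f791046 IH)
def v21026 : LQ := Led Lsl_ft (LP (LK LD1_c7 LD2_c10 LD3_c36))
theorem f791671 : Led Lsl_ft (LP (LK LD1_c7 LD2_c10 LD3_c36)) = v21026 :=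
  Lrfl
def v21021 : LQ := Led Lsl_gt (LP (LK LD1_c7 LD2_c10 LD3_c36))
theorem f791645 : Led Lsl_gt (LP (LK LD1_c7 LD2_c10 LD3_c36)) = v21021 :=
  Lrfl
def v21022 : LQ := Led Lsl_at (LP (LK LD1_c7 LD2_c10 LD3_c36))
theorem f791648 : Led Lsl_at (LP (LK LD1_c7 LD2_c10 LD3_c36)) = v21022 :=
  Lrfl
theorem f791649 : Led Lsl_af (LP (LK LD1_c7 LD2_c10 LD3_c36)) = v21022 :=
  Lgr Lrot0 (Lpr_at (f791648 IH) (Lpn v21022))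
theorem f107864 : Led Lsl_ct (LP (LK LD1_c3 LD2_c34 LD3_c43)) = (LP (LK LD1_c7 LD2_c10 LD3_c36)) :=
  Lre_c IH (LK LD1_c3 LD2_c34 LD3_c43) (LK LD1_c7 LD2_c10 LD3_c36) Lrfl Lrfl
def v6929 : LQ := Led Lsl_at (LP (LK LD1_c3 LD2_c34 LD3_c43))
theorem f659527 : Led Lsl_at (LP (LK LD1_c3 LD2_c34 LD3_c43)) = v6929 :=
  Lrfl
theorem f659528 : Led Lsl_af (LP (LK LD1_c3 LD2_c34 LD3_c43)) = v6929 :=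
  Lgr Lrot0 (Lpr_at (f659527 IH) (Lpn v6929))
theorem f791650 : Led Lsl_cf v6929 = v21022 :=
  Lgr Lrot1 (Lpe (f659528 IH) (Lpr_ct (f107864 IH) (Lpr_at (f791648 IH) (Lpn v21022))))
theorem f659526 : Led Lsl_ft (LP (LK LD1_c7 LD2_c10 LD3_c38)) = (LP (LK LD1_c3 LD2_c34 LD3_c43)) :=
  Lre_f IH (LK LD1_c7 LD2_c10 LD3_c38) (LK LD1_c3 LD2_c34 LD3_c43) Lrfl Lrfl
theorem f659515 : Led Lsl_at (LP (LK LD1_c3 LD2_c34 LD3_c44)) = (LP (LK LD1_c7 LD2_c10 LD3_c38)) :=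
  Lgr Lrot100 (Lpr_af (K47.f659508 IH) (Lpn (LP (LK LD1_c7 LD2_c10 LD3_c38))))
theorem f659529 : Led Lsl_ff (LP (LK LD1_c3 LD2_c34 LD3_c44)) = v6929 :=
  Lgr Lrot30 (Lpr_at (f659515 IH) (Lpr_ft (f659526 IH) (Lpr_at (f659527 IH) (Lpn v6929))))
def v6931 : LQ := Led Lsl_ct (LP (LK LD1_c3 LD2_c34 LD3_c44))
theorem f659534 : Led Lsl_ct (LP (LK LD1_c3 LD2_c34 LD3_c44)) = v6931 :=
  Lrfl
theorem f791652 : Led Lsl_ft v6931 = v21022 :=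
  Lgr Lrot4 (Lpe (f659534 IH) (Lpr_ff (f659529 IH) (Lpr_cf (f791650 IH) (Lpn v21022))))
theorem f791672 : Led Lsl_af v6931 = v21026 :=
  Lgr Lrot45 (Lpr_ft (f791652 IH) (Lpe (f791649 IH) (Lpr_ft (f791671 IH) (Lpn v21026))))
theorem f791675 : Led Lsl_gt v21021 = v6931 :=
  Lgr Lrot46 (Lpe (f791645 IH) (Lpr_ft (f791671 IH) (Lpe (f791672 IH) (Lpn v6931))))
theorem f106611 : Led Lsl_bt (LP (LK LD1_c1 LD2_c44 LD3_c3)) = (LP (LK LD1_c3 LD2_c34 LD3_c32)) :=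
  Lre_b IH (LK LD1_c1 LD2_c44 LD3_c3) (LK LD1_c3 LD2_c34 LD3_c32) Lrfl Lrfl
theorem f106606 : Led Lsl_gt (LP (LK LD1_c7 LD2_c10 LD3_c10)) = (LP (LK LD1_c3 LD2_c34 LD3_c32)) :=
  Lre_g IH (LK LD1_c7 LD2_c10 LD3_c10) (LK LD1_c3 LD2_c34 LD3_c32) Lrfl Lrfl
def v20987 : LQ := Led Lsl_bt (LP (LK LD1_c7 LD2_c10 LD3_c10))
theorem f791476 : Led Lsl_bt (LP (LK LD1_c7 LD2_c10 LD3_c10)) = v20987 :=
  Lrfl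
theorem f791477 : Led Lsl_bf (LP (LK LD1_c7 LD2_c10 LD3_c10)) = v20987 :=
  Lgr Lrot24 (Lpr_bt (f791476 IH) (Lpn v20987))
theorem f791646 : Led Lsl_ct v20987 = v21021 :=
  Lgr Lrot63 (Lpe (f791477 IH) (Lpr_gt (f106606 IH) (Lpe (f106611 IH) (Lpr_ct (K3.f106437 IH) (Lpr_gt (K3.f94430 IH) (Lpe (K3.f19734 IH) (Lpr_bt (K47.f106025 IH) (Lpr_gt (K47.f11904 IH) (Lpr_ct (f107864 IH) (Lpr_gt (f791645 IH) (Lpn v21021)))))))))))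
theorem f121570 : Led Lsl_at (LP (LK LD1_c7 LD2_c10 LD3_c11)) = (LP (LK LD1_c3 LD2_c34 LD3_c32)) :=
  Lre_a IH (LK LD1_c7 LD2_c10 LD3_c11) (LK LD1_c3 LD2_c34 LD3_c32) Lrfl Lrfl
theorem f86877 : Led Lsl_at (LP (LK LD1_c3 LD2_c36 LD3_c15)) = (LP (LK LD1_c7 LD2_c12 LD3_c52)) :=
  Lre_a IH (LK LD1_c3 LD2_c36 LD3_c15) (LK LD1_c7 LD2_c12 LD3_c52) Lrfl Lrfl
theorem f121571 : Led Lsl_ff (LP (LK LD1_c7 LD2_c10 LD3_c11)) = (LP (LK LD1_c7 LD2_c12 LD3_c52)) :=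
  Lgr Lrot30 (Lpr_at (f121570 IH) (Lpr_ft (K4.f121560 IH) (Lpr_at (f86877 IH) (Lpn (LP (LK LD1_c7 LD2_c12 LD3_c52))))))
theorem f440522 : Led Lsl_gf (LP (LK LD1_c7 LD2_c10 LD3_c10)) = (LP (LK LD1_c7 LD2_c12 LD3_c52)) :=
  Lgr Lrot47 (Lpr_gt (f106606 IH) (Lpe (f121570 IH) (Lpr_ff (f121571 IH) (Lpn (LP (LK LD1_c7 LD2_c12 LD3_c52))))))
theorem f107712 : Led Lsl_at (LP (LK LD1_c7 LD2_c12 LD3_c54)) = (LP (LK LD1_c7 LD2_c6 LD3_c3)) :=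
  Lgr Lrot80 (Lpe (K4.f105778 IH) (Lpr_af (K3.f107701 IH) (Lpe (K29.f107711 IH) (Lpn (LP (LK LD1_c7 LD2_c6 LD3_c3))))))
theorem f105782 : Led Lsl_bt (LP (LK LD1_c13 LD2_c39 LD3_c21)) = (LP (LK LD1_c7 LD2_c12 LD3_c54)) :=
  Lre_b IH (LK LD1_c13 LD2_c39 LD3_c21) (LK LD1_c7 LD2_c12 LD3_c54) Lrfl Lrfl
theorem f107722 : Led Lsl_at (LP (LK LD1_c23 LD2_c4 LD3_c26)) = (LP (LK LD1_c13 LD2_c39 LD3_c21)) :=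
  Lre_a IH (LK LD1_c23 LD2_c4 LD3_c26) (LK LD1_c13 LD2_c39 LD3_c21) Lrfl Lrfl
theorem f107723 : Led Lsl_bt (LP (LK LD1_c7 LD2_c6 LD3_c3)) = (LP (LK LD1_c13 LD2_c27 LD3_c30)) :=
  Lre_b IH (LK LD1_c7 LD2_c6 LD3_c3) (LK LD1_c13 LD2_c27 LD3_c30) Lrfl Lrfl
theorem f107724 : Led Lsl_at (LP (LK LD1_c13 LD2_c27 LD3_c30)) = (LP (LK LD1_c22 LD2_c47 LD3_c1)) :=
  Lre_a IH (LK LD1_c13 LD2_c27 LD3_c30) (LK LD1_c22 LD2_c47 LD3_c1) Lrfl Lrfl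
theorem f107725 : Led Lsl_bf (LP (LK LD1_c23 LD2_c4 LD3_c26)) = (LP (LK LD1_c22 LD2_c47 LD3_c1)) :=
  Lgr Lrot81 (Lpr_at (f107722 IH) (Lpr_bt (f105782 IH) (Lpr_at (f107712 IH) (Lpr_bt (f107723 IH) (Lpr_at (f107724 IH) (Lpn (LP (LK LD1_c22 LD2_c47 LD3_c1))))))))
theorem f107763 : Led Lsl_bt (LP (LK LD1_c23 LD2_c4 LD3_c26)) = (LP (LK LD1_c22 LD2_c47 LD3_c1)) :=
  Lgr Lrot127 (Lpr_bf (f107725 IH) (Lpn (LP (LK LD1_c22 LD2_c47 LD3_c1))))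
theorem f107771 : Led Lsl_et (LP (LK LD1_c13 LD2_c39 LD3_c19)) = (LP (LK LD1_c23 LD2_c4 LD3_c26)) :=
  Lre_e IH (LK LD1_c13 LD2_c39 LD3_c19) (LK LD1_c23 LD2_c4 LD3_c26) Lrfl Lrfl
theorem f107772 : Led Lsl_et (LP (LK LD1_c22 LD2_c47 LD3_c1)) = (LP (LK LD1_c13 LD2_c27 LD3_c27)) :=
  Lre_e IH (LK LD1_c22 LD2_c47 LD3_c1) (LK LD1_c13 LD2_c27 LD3_c27) Lrfl Lrfl
theorem f107773 : Led Lsl_bf (LP (LK LD1_c13 LD2_c39 LD3_c19)) = (LP (LK LD1_c13 LD2_c27 LD3_c27)) :=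
  Lgr Lrot96 (Lpr_et (f107771 IH) (Lpr_bt (f107763 IH) (Lpr_et (f107772 IH) (Lpn (LP (LK LD1_c13 LD2_c27 LD3_c27))))))
theorem f86897 : Led Lsl_dt (LP (LK LD1_c13 LD2_c39 LD3_c19)) = (LP (LK LD1_c7 LD2_c12 LD3_c52)) :=
  Lre_d IH (LK LD1_c13 LD2_c39 LD3_c19) (LK LD1_c7 LD2_c12 LD3_c52) Lrfl Lrfl
theorem f107145 : Led Lsl_dt (LP (LK LD1_c7 LD2_c6 LD3_c1)) = (LP (LK LD1_c13 LD2_c27 LD3_c27)) :=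
  Lre_d IH (LK LD1_c7 LD2_c6 LD3_c1) (LK LD1_c13 LD2_c27 LD3_c27) Lrfl Lrfl
theorem f107777 : Led Lsl_bt (LP (LK LD1_c7 LD2_c12 LD3_c52)) = (LP (LK LD1_c7 LD2_c6 LD3_c1)) :=
  Lgr Lrot95 (Lpe (f86897 IH) (Lpr_bf (f107773 IH) (Lpe (f107145 IH) (Lpn (LP (LK LD1_c7 LD2_c6 LD3_c1))))))
theorem f107779 : Led Lsl_bf (LP (LK LD1_c7 LD2_c12 LD3_c52)) = (LP (LK LD1_c7 LD2_c6 LD3_c1)) :=
  Lgr Lrot24 (Lpr_bt (f107777 IH) (Lpn (LP (LK LD1_c7 LD2_c6 LD3_c1))))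
theorem f107130 : Led Lsl_ct (LP (LK LD1_c7 LD2_c6 LD3_c1)) = (LP (LK LD1_c13 LD2_c26 LD3_c34)) :=
  Lre_c IH (LK LD1_c7 LD2_c6 LD3_c1) (LK LD1_c13 LD2_c26 LD3_c34) Lrfl Lrfl
theorem f106870 : Led Lsl_gt (LP (LK LD1_c6 LD2_c52 LD3_c37)) = (LP (LK LD1_c13 LD2_c4 LD3_c33)) :=
  Lre_g IH (LK LD1_c6 LD2_c52 LD3_c37) (LK LD1_c13 LD2_c4 LD3_c33) Lrfl Lrfl
theorem f107142 : Led Lsl_gt (LP (LK LD1_c13 LD2_c4 LD3_c33)) = (LP (LK LD1_c13 LD2_c26 LD3_c34)) :=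
  Lgr Lrot46 (Lpe (f106870 IH) (Lpr_ft (K3.f107128 IH) (Lpr_at (K3.f107127 IH) (Lpn (LP (LK LD1_c13 LD2_c26 LD3_c34))))))
theorem f659517 : Led Lsl_bt (LP (LK LD1_c3 LD2_c34 LD3_c44)) = (LP (LK LD1_c7 LD2_c10 LD3_c39)) :=
  Lre_b IH (LK LD1_c3 LD2_c34 LD3_c44) (LK LD1_c7 LD2_c10 LD3_c39) Lrfl Lrfl
theorem f659536 : Led Lsl_gt (LP (LK LD1_c7 LD2_c10 LD3_c39)) = (LP (LK LD1_c13 LD2_c35 LD3_c40)) :=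
  Lre_g IH (LK LD1_c7 LD2_c10 LD3_c39) (LK LD1_c13 LD2_c35 LD3_c40) Lrfl Lrfl
theorem f791676 : Led Lsl_cf (LP (LK LD1_c13 LD2_c4 LD3_c33)) = (LP (LK LD1_c13 LD2_c35 LD3_c40)) :=
  Lgr Lrot125 (Lpr_gt (f107142 IH) (Lpe (f107130 IH) (Lpe (f107779 IH) (Lpe (f440522 IH) (Lpr_bf (f791477 IH) (Lpr_ct (f791646 IH) (Lpr_gt (f791675 IH) (Lpe (f659534 IH) (Lpr_bt (f659517 IH) (Lpr_gt (f659536 IH) (Lpn (LP (LK LD1_c13 LD2_c35 LD3_c40)))))))))))))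
theorem f791677 : Led Lsl_ct (LP (LK LD1_c13 LD2_c35 LD3_c40)) = (LP (LK LD1_c13 LD2_c4 LD3_c33)) :=
  Leop (Lpr_cf (f791676 IH) (Lpn (LP (LK LD1_c13 LD2_c35 LD3_c40))))
theorem seed_1580 : LEOK LG_c (LK LD1_c13 LD2_c35 LD3_c40) :=
  Leoe_c (LK LD1_c13 LD2_c35 LD3_c40) (f791677 IH)
def v7070 : LQ := Led Lsl_gt (LP (LK LD1_c3 LD2_c37 LD3_c53))
theorem f660706 : Led Lsl_gt (LP (LK LD1_c3 LD2_c37 LD3_c53)) = v7070 :=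
  Lrfl
def v21027 : LQ := Led Lsl_gt (LP (LK LD1_c7 LD2_c10 LD3_c37))
theorem f791687 : Led Lsl_gt (LP (LK LD1_c7 LD2_c10 LD3_c37)) = v21027 :=
  Lrfl
theorem f433070 : Led Lsl_dt (LP (LK LD1_c3 LD2_c34 LD3_c43)) = (LP (LK LD1_c7 LD2_c10 LD3_c37)) :=
  Lre_d IH (LK LD1_c3 LD2_c34 LD3_c43) (LK LD1_c7 LD2_c10 LD3_c37) Lrfl Lrfl
def v9044 : LQ := Led Lsl_gt v2401
theorem f673341 : Led Lsl_gt v2401 = v9044 :=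
  Lrfl
def v9048 : LQ := Led Lsl_ft v2401
theorem f673348 : Led Lsl_ft v2401 = v9048 :=
  Lrfl
theorem f673349 : Led Lsl_af v2404 = v9048 :=
  Lgr Lrot45 (Lpr_ft (f673335 IH) (Lpe (f673332 IH) (Lpr_ft (f673348 IH) (Lpn v9048))))
theorem f673352 : Led Lsl_gt v9044 = v2404 :=
  Lgr Lrot46 (Lpe (f673341 IH) (Lpr_ft (f673348 IH) (Lpe (f673349 IH) (Lpn v2404))))
theorem f787446 : (LP (LK LD1_c1 LD2_c44 LD3_c28)) = v9044 :=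
  Lefun (Lecon (Lfl_gt (f519526 IH)) (f787444 IH)) (Lfl_gt (f673352 IH))
def v7065 : LQ := Led Lsl_gt (LP (LK LD1_c3 LD2_c37 LD3_c52))
theorem f660680 : Led Lsl_gt (LP (LK LD1_c3 LD2_c37 LD3_c52)) = v7065 :=
  Lrfl
def v2457 : LQ := Led Lsl_ft (LP (LK LD1_c1 LD2_c45 LD3_c46))
theorem f522406 : Led Lsl_ft (LP (LK LD1_c1 LD2_c45 LD3_c46)) = v2457 :=
  Lrfl
theorem f660681 : Led Lsl_at v2457 = v7065 :=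
  Lgr Lrot26 (Lpe (f522406 IH) (Lpr_gt (K49.f441812 IH) (Lpr_gt (f660680 IH) (Lpn v7065))))
theorem f10951 : Led Lsl_dt (LP (LK LD1_c1 LD2_c45 LD3_c46)) = (LP (LK LD1_c3 LD2_c37 LD3_c53)) :=
  Lre_d IH (LK LD1_c1 LD2_c45 LD3_c46) (LK LD1_c3 LD2_c37 LD3_c53) Lrfl Lrfl
theorem f10952 : Led Lsl_ct (LP (LK LD1_c3 LD2_c37 LD3_c53)) = (LP (LK LD1_c7 LD2_c16 LD3_c10)) :=
  Lre_c IH (LK LD1_c3 LD2_c37 LD3_c53) (LK LD1_c7 LD2_c16 LD3_c10) Lrfl Lrfl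
theorem f10738 : Led Lsl_at (LP (LK LD1_c0 LD2_c48 LD3_c50)) = (LP (LK LD1_c1 LD2_c44 LD3_c28)) :=
  Lre_a IH (LK LD1_c0 LD2_c48 LD3_c50) (LK LD1_c1 LD2_c44 LD3_c28) Lrfl Lrfl
theorem f10956 : Led Lsl_ct (LP (LK LD1_c13 LD2_c35 LD3_c45)) = (LP (LK LD1_c7 LD2_c10 LD3_c41)) :=
  Lre_c IH (LK LD1_c13 LD2_c35 LD3_c45) (LK LD1_c7 LD2_c10 LD3_c41) Lrfl Lrfl
theorem f10957 : Led Lsl_df (LP (LK LD1_c13 LD2_c35 LD3_c45)) = (LP (LK LD1_c7 LD2_c16 LD3_c10)) :=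
  Lgr Lrot13 (Lpr_ct (f10956 IH) (Lpr_dt (K49.f10739 IH) (Lpr_ct (K49.f10727 IH) (Lpe (f10738 IH) (Lpe (K49.f10955 IH) (Lpr_dt (f10945 IH) (Lpr_ct (K49.f10950 IH) (Lpr_dt (f10951 IH) (Lpr_ct (f10952 IH) (Lpn (LP (LK LD1_c7 LD2_c16 LD3_c10))))))))))))
theorem f660687 : Led Lsl_ct K49.v2408 = v7065 :=
  Lgr Lrot98 (Lpe (K49.f519530 IH) (Lpe (K49.f10727 IH) (Lpe (K49.f10739 IH) (Lpe (f10956 IH) (Lpr_df (f10957 IH) (Lpe (f10952 IH) (Lpe (f10951 IH) (Lpr_ft (f522406 IH) (Lpr_at (f660681 IH) (Lpn v7065))))))))))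
theorem f791688 : Led Lsl_df v7065 = v21027 :=
  Lgr Lrot84 (Lpe (f660687 IH) (Lpe (K49.f519530 IH) (Lpqs (f787446 IH) (Lpe (f673341 IH) (Lpe (f519511 IH) (Lpe (K47.f11482 IH) (Lpe (K47.f107803 IH) (Lpr_gt (K47.f11904 IH) (Lpr_dt (f433070 IH) (Lpr_gt (f791687 IH) (Lpn v21027)))))))))))
theorem f660684 : Led Lsl_af v2457 = v7065 :=
  Lgr Lrot0 (Lpr_at (f660681 IH) (Lpn v7065))
def v7073 : LQ := Led Lsl_ft (LP (LK LD1_c3 LD2_c37 LD3_c53))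
theorem f660715 : Led Lsl_ft (LP (LK LD1_c3 LD2_c37 LD3_c53)) = v7073 :=
  Lrfl
theorem f660719 : Led Lsl_ff (LP (LK LD1_c3 LD2_c37 LD3_c53)) = v7073 :=
  Lgr Lrot3 (Lpr_ft (f660715 IH) (Lpn v7073))
theorem f660721 : Led Lsl_dt v2457 = v7073 :=
  Lgr Lrot60 (Lpe (f522406 IH) (Lpe (f10962 IH) (Lpr_ff (f660719 IH) (Lpn v7073))))
theorem f791690 : Led Lsl_at v7073 = v21027 :=
  Lgr Lrot51 (Lpe (f660721 IH) (Lpr_af (f660684 IH) (Lpr_df (f791688 IH) (Lpn v21027))))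
theorem f791700 : v7070 = (LP (LK LD1_c7 LD2_c10 LD3_c37)) :=
  (Llr Lrot5 (Lpe (f660706 IH) (Lpr_ft (f660715 IH) (Lpr_at (f791690 IH) (Lpe (f791687 IH) (Lpn (LP (LK LD1_c7 LD2_c10 LD3_c37)))))))).symm
theorem f791701 : Led Lsl_gt (LP (LK LD1_c3 LD2_c37 LD3_c53)) = (LP (LK LD1_c7 LD2_c10 LD3_c37)) :=
  Leop (Lpq (f791700 IH) (Lpe (f660706 IH) (Lpn (LP (LK LD1_c3 LD2_c37 LD3_c53)))))
theorem seed_1581 : LEOK LG_g (LK LD1_c3 LD2_c37 LD3_c53) :=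
  Leoe_g (LK LD1_c3 LD2_c37 LD3_c53) (f791701 IH)
def v21034 : LQ := Led Lsl_ct (LP (LK LD1_c7 LD2_c10 LD3_c39))
theorem f791730 : Led Lsl_ct (LP (LK LD1_c7 LD2_c10 LD3_c39)) = v21034 :=
  Lrfl
theorem f791732 : Led Lsl_cf (LP (LK LD1_c7 LD2_c10 LD3_c39)) = v21034 :=
  Lgr Lrot11 (Lpr_ct (f791730 IH) (Lpn v21034))
theorem f106027 : Led Lsl_bt (LP (LK LD1_c7 LD2_c10 LD3_c39)) = (LP (LK LD1_c3 LD2_c34 LD3_c44)) :=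
  Lre_b IH (LK LD1_c7 LD2_c10 LD3_c39) (LK LD1_c3 LD2_c34 LD3_c44) Lrfl Lrfl
theorem f659535 : Led Lsl_cf (LP (LK LD1_c3 LD2_c34 LD3_c44)) = v6931 :=
  Lgr Lrot11 (Lpr_ct (f659534 IH) (Lpn v6931))
theorem f11903 : Led Lsl_ct (LP (LK LD1_c0 LD2_c48 LD3_c50)) = (LP (LK LD1_c1 LD2_c44 LD3_c7)) :=
  Lre_c IH (LK LD1_c0 LD2_c48 LD3_c50) (LK LD1_c1 LD2_c44 LD3_c7) Lrfl Lrfl
theorem f10736 : Led Lsl_bt (LP (LK LD1_c0 LD2_c48 LD3_c50)) = (LP (LK LD1_c0 LD2_c21 LD3_c53)) :=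
  Lre_b IH (LK LD1_c0 LD2_c48 LD3_c50) (LK LD1_c0 LD2_c21 LD3_c53) Lrfl Lrfl
def v260 : LQ := Led Lsl_ct (LP (LK LD1_c0 LD2_c24 LD3_c30))
theorem f451415 : Led Lsl_ct (LP (LK LD1_c0 LD2_c24 LD3_c30)) = v260 :=
  Lrfl
theorem f451416 : Led Lsl_cf (LP (LK LD1_c0 LD2_c24 LD3_c30)) = v260 :=
  Lgr Lrot11 (Lpr_ct (f451415 IH) (Lpn v260))
def v1102 : LQ := Led Lsl_bt v260
theorem f491501 : Led Lsl_bt v260 = v1102 :=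
  Lrfl
def v3887 : LQ := Led Lsl_gt v1102
theorem f627746 : Led Lsl_gt v1102 = v3887 :=
  Lrfl
theorem f659538 : Led Lsl_bf v3887 = v6931 :=
  Lgr Lrot34 (Lpe (f627746 IH) (Lpe (f491501 IH) (Lpe (f451416 IH) (Lpr_gf (K3.f11126 IH) (Lpr_cf (K29.f450741 IH) (Lpe (f450745 IH) (Lpe (f10736 IH) (Lpr_ct (f11903 IH) (Lpe (K47.f106026 IH) (Lpr_cf (f659535 IH) (Lpn v6931)))))))))))
def v11778 : LQ := Led Lsl_ct v3887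
theorem f685860 : Led Lsl_ct v3887 = v11778 :=
  Lrfl
theorem f791734 : Led Lsl_bt v11778 = v21034 :=
  Lgr Lrot128 (Lpe (f685860 IH) (Lpr_bf (f659538 IH) (Lpe (f659534 IH) (Lpe (f106027 IH) (Lpr_cf (f791732 IH) (Lpn v21034))))))
theorem f685861 : Led Lsl_cf v3887 = v11778 :=
  Lgr Lrot11 (Lpr_ct (f685860 IH) (Lpn v11778))
def v2777 : LQ := Led Lsl_bt (LP (LK LD1_c1 LD2_c55 LD3_c6))
theorem f535555 : Led Lsl_bt (LP (LK LD1_c1 LD2_c55 LD3_c6)) = v2777 :=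
  Lrfl
theorem f491502 : Led Lsl_bf v260 = v1102 :=
  Lgr Lrot24 (Lpr_bt (f491501 IH) (Lpn v1102))
theorem f535557 : Led Lsl_cf v1102 = v2777 :=
  Lgr Lrot97 (Lpe (f491502 IH) (Lpe (f451416 IH) (Lpr_bt (f121463 IH) (Lpr_ct (K3.f11137 IH) (Lpr_bt (f535555 IH) (Lpn v2777))))))
theorem f535556 : Led Lsl_bf (LP (LK LD1_c1 LD2_c55 LD3_c6)) = v2777 :=
  Lgr Lrot24 (Lpr_bt (f535555 IH) (Lpn v2777))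
theorem f106049 : Led Lsl_gt (LP (LK LD1_c7 LD2_c6 LD3_c0)) = (LP (LK LD1_c3 LD2_c32 LD3_c32)) :=
  Lre_g IH (LK LD1_c7 LD2_c6 LD3_c0) (LK LD1_c3 LD2_c32 LD3_c32) Lrfl Lrfl
def v20849 : LQ := Led Lsl_ct (LP (LK LD1_c7 LD2_c6 LD3_c0))
theorem f790396 : Led Lsl_ct (LP (LK LD1_c7 LD2_c6 LD3_c0)) = v20849 :=
  Lrfl
theorem f790397 : Led Lsl_cf (LP (LK LD1_c7 LD2_c6 LD3_c0)) = v20849 :=
  Lgr Lrot11 (Lpr_ct (f790396 IH) (Lpn v20849))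
theorem f791735 : Led Lsl_gf v20849 = v21034 :=
  Lgr Lrot181 (Lpe (f790397 IH) (Lpr_gt (f106049 IH) (Lpe (K3.f106048 IH) (Lpr_bt (K3.f106041 IH) (Lpr_gt (K5.f106029 IH) (Lpr_bf (f535556 IH) (Lpe (f535557 IH) (Lpr_gt (f627746 IH) (Lpr_cf (f685861 IH) (Lpr_bt (f791734 IH) (Lpn v21034)))))))))))
theorem f790385 : Led Lsl_bt (LP (LK LD1_c7 LD2_c6 LD3_c0)) = (LP (LK LD1_c13 LD2_c27 LD3_c26)) :=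
  Lre_b IH (LK LD1_c7 LD2_c6 LD3_c0) (LK LD1_c13 LD2_c27 LD3_c26) Lrfl Lrfl
theorem f10986 : Led Lsl_bt (LP (LK LD1_c3 LD2_c34 LD3_c47)) = (LP (LK LD1_c1 LD2_c44 LD3_c9)) :=
  Lre_b IH (LK LD1_c3 LD2_c34 LD3_c47) (LK LD1_c1 LD2_c44 LD3_c9) Lrfl Lrfl
theorem f519331 : Led Lsl_at (LP (LK LD1_c1 LD2_c44 LD3_c7)) = (LP (LK LD1_c3 LD2_c34 LD3_c45)) :=
  Lre_a IH (LK LD1_c1 LD2_c44 LD3_c7) (LK LD1_c3 LD2_c34 LD3_c45) Lrfl Lrfl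
theorem f519337 : Led Lsl_ft (LP (LK LD1_c3 LD2_c34 LD3_c47)) = (LP (LK LD1_c1 LD2_c44 LD3_c7)) :=
  Lre_f IH (LK LD1_c3 LD2_c34 LD3_c47) (LK LD1_c1 LD2_c44 LD3_c7) Lrfl Lrfl
theorem f659505 : Led Lsl_af (LP (LK LD1_c3 LD2_c34 LD3_c47)) = K47.v6928 :=
  Lgr Lrot45 (Lpr_ft (f519337 IH) (Lpr_at (f519331 IH) (Lpr_ft (K47.f659504 IH) (Lpn K47.v6928))))
theorem f790334 : Led Lsl_bf K47.v6928 = v20838 :=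
  Lgr Lrot81 (Lpe (f659505 IH) (Lpr_bt (f10986 IH) (Lpr_at (K3.f106637 IH) (Lpr_bt (f106615 IH) (Lpr_at (f790332 IH) (Lpn v20838))))))
theorem f10707 : Led Lsl_gt (LP (LK LD1_c3 LD2_c32 LD3_c59)) = (LP (LK LD1_c7 LD2_c6 LD3_c55)) :=
  Lre_g IH (LK LD1_c3 LD2_c32 LD3_c59) (LK LD1_c7 LD2_c6 LD3_c55) Lrfl Lrfl
theorem f790338 : Led Lsl_gt (LP (LK LD1_c7 LD2_c6 LD3_c55)) = v20838 :=
  Lgr Lrot46 (Lpe (f10707 IH) (Lpe (f441753 IH) (Lpr_at (f790332 IH) (Lpn v20838))))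
theorem f10720 : Led Lsl_ct (LP (LK LD1_c13 LD2_c28 LD3_c60)) = (LP (LK LD1_c7 LD2_c6 LD3_c55)) :=
  Lre_c IH (LK LD1_c13 LD2_c28 LD3_c60) (LK LD1_c7 LD2_c6 LD3_c55) Lrfl Lrfl
theorem f791736 : Led Lsl_gt (LP (LK LD1_c13 LD2_c27 LD3_c26)) = (LP (LK LD1_c13 LD2_c28 LD3_c60)) :=
  Lgr Lrot82 (Lpe (f790385 IH) (Lpr_ct (f790396 IH) (Lpr_gf (f791735 IH) (Lpe (f791730 IH) (Lpr_bt (f106027 IH) (Lpr_gf (K47.f659507 IH) (Lpr_bf (f790334 IH) (Lpe (f790335 IH) (Lpe (f790338 IH) (Lpe (f10720 IH) (Lpn (LP (LK LD1_c13 LD2_c28 LD3_c60)))))))))))))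
theorem f791737 : Led Lsl_gt (LP (LK LD1_c13 LD2_c27 LD3_c26)) = (LP (LK LD1_c13 LD2_c28 LD3_c60)) :=
  Leop (Lpe (f791736 IH) (Lpn (LP (LK LD1_c13 LD2_c27 LD3_c26))))
theorem seed_1582 : LEOK LG_g (LK LD1_c13 LD2_c27 LD3_c26) :=
  Leoe_g (LK LD1_c13 LD2_c27 LD3_c26) (f791737 IH)
def v21053 : LQ := Led Lsl_dt (LP (LK LD1_c7 LD2_c10 LD3_c57))
theorem f791838 : Led Lsl_dt (LP (LK LD1_c7 LD2_c10 LD3_c57)) = v21053 :=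
  Lrfl
theorem f467917 : Led Lsl_et (LP (LK LD1_c3 LD2_c34 LD3_c53)) = (LP (LK LD1_c7 LD2_c10 LD3_c57)) :=
  Lre_e IH (LK LD1_c3 LD2_c34 LD3_c53) (LK LD1_c7 LD2_c10 LD3_c57) Lrfl Lrfl
theorem f673204 : Led Lsl_df K60.v2387 = K60.v9020 :=
  Lgr Lrot38 (Lpr_dt (K60.f673201 IH) (Lpn K60.v9020))
theorem f791840 : Led Lsl_ef K60.v9020 = v21053 :=
  Lgr Lrot73 (Lpe (f673204 IH) (Lpe (K60.f519431 IH) (Lpr_dt (K29.f455896 IH) (Lpr_et (f467917 IH) (Lpr_dt (f791838 IH) (Lpn v21053))))))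
def v6715 : LQ := Led Lsl_ft (LP (LK LD1_c3 LD2_c27 LD3_c27))
theorem f657978 : Led Lsl_ft (LP (LK LD1_c3 LD2_c27 LD3_c27)) = v6715 :=
  Lrfl
theorem f657981 : Led Lsl_ff (LP (LK LD1_c3 LD2_c27 LD3_c27)) = v6715 :=
  Lgr Lrot3 (Lpr_ft (f657978 IH) (Lpn v6715))
theorem f657982 : Led Lsl_ct (LP (LK LD1_c3 LD2_c52 LD3_c42)) = v6715 :=
  Lgr Lrot40 (Lpr_ff (K29.f473685 IH) (Lpe (K34.f457799 IH) (Lpr_ff (f657981 IH) (Lpn v6715))))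
theorem f519430 : Led Lsl_cf K29.v672 = K60.v2387 :=
  Lgr Lrot39 (Lpe (K29.f455904 IH) (Lpr_ct (K28.f10168 IH) (Lpr_et (K60.f519429 IH) (Lpn K60.v2387))))
theorem f657984 : Led Lsl_gf K60.v2387 = v6715 :=
  Lgr Lrot104 (Lpe (f519430 IH) (Lpe (K35.f455909 IH) (Lpe (K30.f4036 IH) (Lpe (K28.f5329 IH) (Lpr_cf (K28.f467638 IH) (Lpe (K29.f85233 IH) (Lpe (K47.f85214 IH) (Lpe (K32.f464235 IH) (Lpr_ct (f657982 IH) (Lpn v6715))))))))))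
theorem f473672 : Led Lsl_ft (LP (LK LD1_c3 LD2_c52 LD3_c42)) = (LP (LK LD1_c3 LD2_c48 LD3_c5)) :=
  Lgr Lrot86 (Lpe (K48.f63009 IH) (Lpr_ff (K29.f473663 IH) (Lpe (K29.f62996 IH) (Lpr_ff (K29.f459892 IH) (Lpqs (K29.f473656 IH) (Lpe (K32.f62999 IH) (Lpn (LP (LK LD1_c3 LD2_c48 LD3_c5)))))))))
theorem f657979 : Led Lsl_cf (LP (LK LD1_c3 LD2_c52 LD3_c42)) = v6715 :=
  Lgr Lrot108 (Lpr_ft (f473672 IH) (Lpe (K34.f457806 IH) (Lpr_ft (f657978 IH) (Lpn v6715))))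
theorem f673206 : Led Lsl_gf (LP (LK LD1_c7 LD2_c1 LD3_c52)) = K60.v9020 :=
  Lgr Lrot143 (Lpr_dt (K47.f94834 IH) (Lpr_cf (K2.f95326 IH) (Lpe (K3.f85201 IH) (Lpe (K29.f483576 IH) (Lpe (K29.f478484 IH) (Lpr_gf (K48.f483585 IH) (Lpr_cf (f657979 IH) (Lpe (f657984 IH) (Lpr_dt (K60.f673201 IH) (Lpn K60.v9020))))))))))
theorem f485788 : Led Lsl_et (LP (LK LD1_c6 LD2_c53 LD3_c38)) = (LP (LK LD1_c13 LD2_c6 LD3_c13)) :=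
  Lre_e IH (LK LD1_c6 LD2_c53 LD3_c38) (LK LD1_c13 LD2_c6 LD3_c13) Lrfl Lrfl
theorem f485868 : Led Lsl_gt (LP (LK LD1_c13 LD2_c6 LD3_c13)) = (LP (LK LD1_c22 LD2_c17 LD3_c38)) :=
  Lre_g IH (LK LD1_c13 LD2_c6 LD3_c13) (LK LD1_c22 LD2_c17 LD3_c38) Lrfl Lrfl
theorem f791839 : Led Lsl_df (LP (LK LD1_c7 LD2_c10 LD3_c57)) = v21053 :=
  Lgr Lrot38 (Lpr_dt (f791838 IH) (Lpn v21053))
theorem f485599 : Led Lsl_gt (LP (LK LD1_c13 LD2_c36 LD3_c30)) = (LP (LK LD1_c7 LD2_c10 LD3_c57)) :=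
  Lre_g IH (LK LD1_c13 LD2_c36 LD3_c30) (LK LD1_c7 LD2_c10 LD3_c57) Lrfl Lrfl
theorem f791837 : Led Lsl_dt (LP (LK LD1_c23 LD2_c0 LD3_c60)) = (LP (LK LD1_c13 LD2_c36 LD3_c30)) :=
  Lre_d IH (LK LD1_c23 LD2_c0 LD3_c60) (LK LD1_c13 LD2_c36 LD3_c30) Lrfl Lrfl
theorem f791842 : Led Lsl_ef (LP (LK LD1_c22 LD2_c17 LD3_c38)) = (LP (LK LD1_c23 LD2_c0 LD3_c60)) :=
  Lgr Lrot17 (Lpe (f485868 IH) (Lpe (f485788 IH) (Lpr_dt (K34.f481873 IH) (Lpe (K34.f485861 IH) (Lpe (K47.f94834 IH) (Lpr_gf (f673206 IH) (Lpr_ef (f791840 IH) (Lpe (f791839 IH) (Lpe (f485599 IH) (Lpe (f791837 IH) (Lpn (LP (LK LD1_c23 LD2_c0 LD3_c60)))))))))))))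
theorem f791843 : Led Lsl_et (LP (LK LD1_c23 LD2_c0 LD3_c60)) = (LP (LK LD1_c22 LD2_c17 LD3_c38)) :=
  Leop (Lpr_ef (f791842 IH) (Lpn (LP (LK LD1_c23 LD2_c0 LD3_c60))))
theorem seed_1583 : LEOK LG_e (LK LD1_c23 LD2_c0 LD3_c60) :=
  Leoe_e (LK LD1_c23 LD2_c0 LD3_c60) (f791843 IH)
def v6963 : LQ := Led Lsl_gt (LP (LK LD1_c3 LD2_c35 LD3_c15))
theorem f659693 : Led Lsl_gt (LP (LK LD1_c3 LD2_c35 LD3_c15)) = v6963 :=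
  Lrfl
def v21092 : LQ := Led Lsl_bt (LP (LK LD1_c7 LD2_c11 LD3_c30))
theorem f792082 : Led Lsl_bt (LP (LK LD1_c7 LD2_c11 LD3_c30)) = v21092 :=
  Lrfl
theorem f792084 : Led Lsl_bf (LP (LK LD1_c7 LD2_c11 LD3_c30)) = v21092 :=
  Lgr Lrot24 (Lpr_bt (f792082 IH) (Lpn v21092))
theorem f519503 : Led Lsl_at (LP (LK LD1_c7 LD2_c11 LD3_c30)) = (LP (LK LD1_c3 LD2_c35 LD3_c15)) :=
  Lre_a IH (LK LD1_c7 LD2_c11 LD3_c30) (LK LD1_c3 LD2_c35 LD3_c15) Lrfl Lrfl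
theorem f11483 : Led Lsl_bt (LP (LK LD1_c3 LD2_c35 LD3_c15)) = (LP (LK LD1_c1 LD2_c44 LD3_c26)) :=
  Lre_b IH (LK LD1_c3 LD2_c35 LD3_c15) (LK LD1_c1 LD2_c44 LD3_c26) Lrfl Lrfl
def v6977 : LQ := Led Lsl_ft (LP (LK LD1_c3 LD2_c35 LD3_c17))
theorem f659747 : Led Lsl_ft (LP (LK LD1_c3 LD2_c35 LD3_c17)) = v6977 :=
  Lrfl
theorem f659749 : Led Lsl_ff (LP (LK LD1_c3 LD2_c35 LD3_c17)) = v6977 :=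
  Lgr Lrot3 (Lpr_ft (f659747 IH) (Lpn v6977))
theorem f659750 : Led Lsl_bt K47.v2400 = v6977 :=
  Lgr Lrot35 (Lpe (K47.f519506 IH) (Lpe (f446506 IH) (Lpr_ff (f659749 IH) (Lpn v6977))))
theorem f792085 : Led Lsl_at v6977 = v21092 :=
  Lgr Lrot67 (Lpe (f659750 IH) (Lpe (K47.f519501 IH) (Lpe (f11483 IH) (Lpe (f519503 IH) (Lpr_bf (f792084 IH) (Lpn v21092))))))
def v6974 : LQ := Led Lsl_at (LP (LK LD1_c3 LD2_c35 LD3_c17))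
theorem f659737 : Led Lsl_at (LP (LK LD1_c3 LD2_c35 LD3_c17)) = v6974 :=
  Lrfl
theorem f659738 : Led Lsl_af (LP (LK LD1_c3 LD2_c35 LD3_c17)) = v6974 :=
  Lgr Lrot0 (Lpr_at (f659737 IH) (Lpn v6974))
theorem f792086 : Led Lsl_ff v6974 = v21092 :=
  Lgr Lrot30 (Lpe (f659738 IH) (Lpr_ft (f659747 IH) (Lpr_at (f792085 IH) (Lpn v21092))))
theorem f659741 : Led Lsl_df (LP (LK LD1_c3 LD2_c35 LD3_c17)) = v6975 :=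
  Lgr Lrot38 (Lpr_dt (f659739 IH) (Lpn v6975))
theorem f659742 : Led Lsl_bt v2404 = v6975 :=
  Lgr Lrot95 (Lpe (f519521 IH) (Lpe (f446506 IH) (Lpr_df (f659741 IH) (Lpn v6975))))
def v9041 : LQ := Led Lsl_gf K47.v2400
theorem f673329 : Led Lsl_gf K47.v2400 = v9041 :=
  Lrfl
def v2403 : LQ := Led Lsl_ft (LP (LK LD1_c1 LD2_c44 LD3_c26))
theorem f519517 : Led Lsl_ft (LP (LK LD1_c1 LD2_c44 LD3_c26)) = v2403 :=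
  Lrfl
theorem f519519 : Led Lsl_ff (LP (LK LD1_c1 LD2_c44 LD3_c26)) = v2403 :=
  Lgr Lrot3 (Lpr_ft (f519517 IH) (Lpn v2403))
theorem f673330 : Led Lsl_gt v2403 = v9041 :=
  Lgr Lrot5 (Lpe (f519519 IH) (Lpr_at (K47.f519501 IH) (Lpr_gf (f673329 IH) (Lpn v9041))))
def v6968 : LQ := Led Lsl_ft (LP (LK LD1_c3 LD2_c35 LD3_c15))
theorem f659707 : Led Lsl_ft (LP (LK LD1_c3 LD2_c35 LD3_c15)) = v6968 :=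
  Lrfl
theorem f519504 : Led Lsl_bt (LP (LK LD1_c1 LD2_c44 LD3_c26)) = (LP (LK LD1_c3 LD2_c35 LD3_c15)) :=
  Lre_b IH (LK LD1_c1 LD2_c44 LD3_c26) (LK LD1_c3 LD2_c35 LD3_c15) Lrfl Lrfl
theorem f659708 : Led Lsl_bf v2403 = v6968 :=
  Lgr Lrot61 (Lpe (f519519 IH) (Lpr_bt (f519504 IH) (Lpr_ft (f659707 IH) (Lpn v6968))))
def v6966 : LQ := Led Lsl_dt (LP (LK LD1_c3 LD2_c35 LD3_c15))
theorem f659699 : Led Lsl_dt (LP (LK LD1_c3 LD2_c35 LD3_c15)) = v6966 :=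
  Lrfl
theorem f659700 : Led Lsl_bf v2401 = v6966 :=
  Lgr Lrot93 (Lpe (f519512 IH) (Lpr_bt (f519504 IH) (Lpr_dt (f659699 IH) (Lpn v6966))))
def v6973 : LQ := Led Lsl_gf (LP (LK LD1_c3 LD2_c35 LD3_c17))
theorem f659735 : Led Lsl_gf (LP (LK LD1_c3 LD2_c35 LD3_c17)) = v6973 :=
  Lrfl
theorem f792089 : Led Lsl_gf v6973 = v21092 :=
  Lgr Lrot47 (Lpe (f659735 IH) (Lpr_af (f659738 IH) (Lpr_ff (f792086 IH) (Lpn v21092))))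
def v20802 : LQ := Led Lsl_at (LP (LK LD1_c7 LD2_c5 LD3_c16))
theorem f790099 : Led Lsl_at (LP (LK LD1_c7 LD2_c5 LD3_c16)) = v20802 :=
  Lrfl
theorem f18110 : Led Lsl_bt (LP (LK LD1_c7 LD2_c5 LD3_c16)) = (LP (LK LD1_c3 LD2_c31 LD3_c53)) :=
  Lre_b IH (LK LD1_c7 LD2_c5 LD3_c16) (LK LD1_c3 LD2_c31 LD3_c53) Lrfl Lrfl
theorem f19188 : Led Lsl_ff (LP (LK LD1_c7 LD2_c5 LD3_c16)) = (LP (LK LD1_c6 LD2_c52 LD3_c59)) :=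
  Lgr Lrot25 (Lpr_bt (f18110 IH) (Lpr_ft (K2.f19182 IH) (Lpr_bt (K29.f9833 IH) (Lpn (LP (LK LD1_c6 LD2_c52 LD3_c59))))))
theorem f9845 : Led Lsl_gt (LP (LK LD1_c6 LD2_c52 LD3_c59)) = (LP (LK LD1_c13 LD2_c5 LD3_c6)) :=
  Lre_g IH (LK LD1_c6 LD2_c52 LD3_c59) (LK LD1_c13 LD2_c5 LD3_c6) Lrfl Lrfl
theorem f790104 : Led Lsl_gt (LP (LK LD1_c13 LD2_c5 LD3_c6)) = v20802 :=
  Lgr Lrot46 (Lpe (f9845 IH) (Lpe (f19188 IH) (Lpr_at (f790099 IH) (Lpn v20802))))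
theorem f9850 : Led Lsl_ct (LP (LK LD1_c22 LD2_c15 LD3_c46)) = (LP (LK LD1_c13 LD2_c5 LD3_c6)) :=
  Lre_c IH (LK LD1_c22 LD2_c15 LD3_c46) (LK LD1_c13 LD2_c5 LD3_c6) Lrfl Lrfl
theorem f106650 : Led Lsl_bt (LP (LK LD1_c3 LD2_c34 LD3_c37)) = (LP (LK LD1_c1 LD2_c44 LD3_c5)) :=
  Lre_b IH (LK LD1_c3 LD2_c34 LD3_c37) (LK LD1_c1 LD2_c44 LD3_c5) Lrfl Lrfl
theorem f106651 : Led Lsl_ct (LP (LK LD1_c7 LD2_c10 LD3_c22)) = (LP (LK LD1_c3 LD2_c34 LD3_c37)) :=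
  Lre_c IH (LK LD1_c7 LD2_c10 LD3_c22) (LK LD1_c3 LD2_c34 LD3_c37) Lrfl Lrfl
theorem f115098 : Led Lsl_bf (LP (LK LD1_c7 LD2_c10 LD3_c22)) = (LP (LK LD1_c7 LD2_c5 LD3_c13)) :=
  Lgr Lrot90 (Lpr_ct (f106651 IH) (Lpr_bt (f106650 IH) (Lpr_ct (K3.f107790 IH) (Lpr_bt (K3.f106273 IH) (Lpr_ct (K5.f115096 IH) (Lpn (LP (LK LD1_c7 LD2_c5 LD3_c13))))))))
theorem f115116 : Led Lsl_bt (LP (LK LD1_c7 LD2_c10 LD3_c22)) = (LP (LK LD1_c7 LD2_c5 LD3_c13)) :=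
  Lgr Lrot127 (Lpr_bf (f115098 IH) (Lpn (LP (LK LD1_c7 LD2_c5 LD3_c13))))
theorem f106594 : Led Lsl_gt (LP (LK LD1_c7 LD2_c10 LD3_c20)) = (LP (LK LD1_c3 LD2_c34 LD3_c37)) :=
  Lre_g IH (LK LD1_c7 LD2_c10 LD3_c20) (LK LD1_c3 LD2_c34 LD3_c37) Lrfl Lrfl
theorem f115122 : Led Lsl_ct (LP (LK LD1_c13 LD2_c34 LD3_c57)) = (LP (LK LD1_c7 LD2_c10 LD3_c20)) :=
  Lre_c IH (LK LD1_c13 LD2_c34 LD3_c57) (LK LD1_c7 LD2_c10 LD3_c20) Lrfl Lrfl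
theorem f115123 : Led Lsl_bt (LP (LK LD1_c13 LD2_c34 LD3_c57)) = (LP (LK LD1_c13 LD2_c5 LD3_c6)) :=
  Lgr Lrot92 (Lpr_ct (f115122 IH) (Lpr_gt (f106594 IH) (Lpe (f106651 IH) (Lpr_bt (f115116 IH) (Lpe (K5.f115100 IH) (Lpr_ct (K5.f19334 IH) (Lpr_gt (K3.f19331 IH) (Lpe (K2.f9834 IH) (Lpr_bt (K29.f9833 IH) (Lpr_gt (f9845 IH) (Lpn (LP (LK LD1_c13 LD2_c5 LD3_c6)))))))))))))
theorem f115127 : Led Lsl_ct (LP (LK LD1_c7 LD2_c10 LD3_c20)) = (LP (LK LD1_c13 LD2_c34 LD3_c57)) :=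
  Lre_c IH (LK LD1_c7 LD2_c10 LD3_c20) (LK LD1_c13 LD2_c34 LD3_c57) Lrfl Lrfl
theorem f106595 : Led Lsl_bt (LP (LK LD1_c13 LD2_c34 LD3_c56)) = (LP (LK LD1_c7 LD2_c10 LD3_c20)) :=
  Lre_b IH (LK LD1_c13 LD2_c34 LD3_c56) (LK LD1_c7 LD2_c10 LD3_c20) Lrfl Lrfl
theorem f106596 : Led Lsl_ct (LP (LK LD1_c22 LD2_c58 LD3_c21)) = (LP (LK LD1_c13 LD2_c34 LD3_c56)) :=
  Lre_c IH (LK LD1_c22 LD2_c58 LD3_c21) (LK LD1_c13 LD2_c34 LD3_c56) Lrfl Lrfl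
theorem f9847 : Led Lsl_ct (LP (LK LD1_c13 LD2_c5 LD3_c6)) = (LP (LK LD1_c22 LD2_c15 LD3_c46)) :=
  Lre_c IH (LK LD1_c13 LD2_c5 LD3_c6) (LK LD1_c22 LD2_c15 LD3_c46) Lrfl Lrfl
theorem f115128 : Led Lsl_bf (LP (LK LD1_c22 LD2_c58 LD3_c21)) = (LP (LK LD1_c22 LD2_c15 LD3_c46)) :=
  Lgr Lrot90 (Lpr_ct (f106596 IH) (Lpr_bt (f106595 IH) (Lpr_ct (f115127 IH) (Lpr_bt (f115123 IH) (Lpr_ct (f9847 IH) (Lpn (LP (LK LD1_c22 LD2_c15 LD3_c46))))))))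
theorem f106762 : Led Lsl_bt (LP (LK LD1_c1 LD2_c44 LD3_c5)) = (LP (LK LD1_c3 LD2_c34 LD3_c37)) :=
  Lre_b IH (LK LD1_c1 LD2_c44 LD3_c5) (LK LD1_c3 LD2_c34 LD3_c37) Lrfl Lrfl
theorem f107809 : Led Lsl_ct (LP (LK LD1_c13 LD2_c34 LD3_c56)) = (LP (LK LD1_c22 LD2_c58 LD3_c21)) :=
  Lre_c IH (LK LD1_c13 LD2_c34 LD3_c56) (LK LD1_c22 LD2_c58 LD3_c21) Lrfl Lrfl
theorem f107810 : Led Lsl_ct (LP (LK LD1_c7 LD2_c11 LD3_c36)) = (LP (LK LD1_c13 LD2_c37 LD3_c35)) :=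
  Lre_c IH (LK LD1_c7 LD2_c11 LD3_c36) (LK LD1_c13 LD2_c37 LD3_c35) Lrfl Lrfl
theorem f107811 : Led Lsl_gf (LP (LK LD1_c22 LD2_c58 LD3_c21)) = (LP (LK LD1_c13 LD2_c37 LD3_c35)) :=
  Lgr Lrot129 (Lpe (f107809 IH) (Lpr_bt (f106595 IH) (Lpr_gt (f106594 IH) (Lpe (f106762 IH) (Lpr_ct (K3.f107790 IH) (Lpr_gt (K3.f94370 IH) (Lpr_cf (K33.f105987 IH) (Lpr_bt (K47.f105986 IH) (Lpe (K47.f107807 IH) (Lpr_ct (f107810 IH) (Lpn (LP (LK LD1_c13 LD2_c37 LD3_c35)))))))))))))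
theorem f107817 : Led Lsl_bt (LP (LK LD1_c7 LD2_c11 LD3_c35)) = (LP (LK LD1_c13 LD2_c37 LD3_c35)) :=
  Lre_b IH (LK LD1_c7 LD2_c11 LD3_c35) (LK LD1_c13 LD2_c37 LD3_c35) Lrfl Lrfl
theorem f18109 : Led Lsl_ct (LP (LK LD1_c3 LD2_c31 LD3_c53)) = (LP (LK LD1_c1 LD2_c42 LD3_c35)) :=
  Lre_c IH (LK LD1_c3 LD2_c31 LD3_c53) (LK LD1_c1 LD2_c42 LD3_c35) Lrfl Lrfl
theorem f18112 : Led Lsl_bt (LP (LK LD1_c3 LD2_c31 LD3_c53)) = (LP (LK LD1_c7 LD2_c5 LD3_c16)) :=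
  Lre_b IH (LK LD1_c3 LD2_c31 LD3_c53) (LK LD1_c7 LD2_c5 LD3_c16) Lrfl Lrfl
theorem f18113 : Led Lsl_cf (LP (LK LD1_c7 LD2_c5 LD3_c16)) = (LP (LK LD1_c7 LD2_c5 LD3_c16)) :=
  Lgr Lrot97 (Lpr_bt (f18110 IH) (Lpr_ct (f18109 IH) (Lpr_bt (K4.f18102 IH) (Lpr_ct (K2.f18111 IH) (Lpr_bt (f18112 IH) (Lpn (LP (LK LD1_c7 LD2_c5 LD3_c16))))))))
theorem f790100 : Led Lsl_af (LP (LK LD1_c7 LD2_c5 LD3_c16)) = v20802 :=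
  Lgr Lrot0 (Lpr_at (f790099 IH) (Lpn v20802))
theorem f790102 : Led Lsl_cf v20802 = v20802 :=
  Lgr Lrot1 (Lpe (f790100 IH) (Lpe (f18113 IH) (Lpr_at (f790099 IH) (Lpn v20802))))
def v2335 : LQ := Led Lsl_bt (LP (LK LD1_c1 LD2_c42 LD3_c39))
theorem f514696 : Led Lsl_bt (LP (LK LD1_c1 LD2_c42 LD3_c39)) = v2335 :=
  Lrfl
theorem f514697 : Led Lsl_bf (LP (LK LD1_c1 LD2_c42 LD3_c39)) = v2335 :=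
  Lgr Lrot24 (Lpr_bt (f514696 IH) (Lpn v2335))
def v8965 : LQ := Led Lsl_at v2335
theorem f672970 : Led Lsl_at v2335 = v8965 :=
  Lrfl
theorem f672971 : Led Lsl_af v2335 = v8965 :=
  Lgr Lrot0 (Lpr_at (f672970 IH) (Lpn v8965))
theorem f790101 : Led Lsl_bf v8965 = v20802 :=
  Lgr Lrot81 (Lpe (f672971 IH) (Lpe (f514697 IH) (Lpr_at (K2.f19185 IH) (Lpr_bt (f18112 IH) (Lpr_at (f790099 IH) (Lpn v20802))))))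
theorem f17185 : Led Lsl_bt (LP (LK LD1_c3 LD2_c27 LD3_c57)) = (LP (LK LD1_c1 LD2_c40 LD3_c34)) :=
  Lre_b IH (LK LD1_c3 LD2_c27 LD3_c57) (LK LD1_c1 LD2_c40 LD3_c34) Lrfl Lrfl
theorem f514699 : Led Lsl_ff (LP (LK LD1_c3 LD2_c27 LD3_c57)) = v2335 :=
  Lgr Lrot25 (Lpr_bt (f17185 IH) (Lpe (K2.f19186 IH) (Lpr_bt (f514696 IH) (Lpn v2335))))
theorem f514702 : Led Lsl_ft (LP (LK LD1_c3 LD2_c27 LD3_c57)) = v2335 :=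
  Lgr Lrot48 (Lpr_ff (f514699 IH) (Lpn v2335))
theorem f490848 : Led Lsl_at (LP (LK LD1_c6 LD2_c58 LD3_c4)) = (LP (LK LD1_c3 LD2_c27 LD3_c57)) :=
  Lre_a IH (LK LD1_c6 LD2_c58 LD3_c4) (LK LD1_c3 LD2_c27 LD3_c57) Lrfl Lrfl
theorem f672973 : Led Lsl_ff (LP (LK LD1_c6 LD2_c58 LD3_c4)) = v8965 :=
  Lgr Lrot30 (Lpr_at (f490848 IH) (Lpr_ft (f514702 IH) (Lpr_at (f672970 IH) (Lpn v8965))))
theorem f92268 : Led Lsl_gt (LP (LK LD1_c6 LD2_c58 LD3_c3)) = (LP (LK LD1_c3 LD2_c27 LD3_c57)) :=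
  Lre_g IH (LK LD1_c6 LD2_c58 LD3_c3) (LK LD1_c3 LD2_c27 LD3_c57) Lrfl Lrfl
theorem f672981 : Led Lsl_gf (LP (LK LD1_c6 LD2_c58 LD3_c3)) = v8965 :=
  Lgr Lrot47 (Lpr_gt (f92268 IH) (Lpe (f490848 IH) (Lpr_ff (f672973 IH) (Lpn v8965))))
def v2787 : LQ := Led Lsl_gf (LP (LK LD1_c1 LD2_c55 LD3_c9))
def v9585 : LQ := Led Lsl_bt v2787
theorem f676747 : Led Lsl_bt v2787 = v9585 :=
  Lrfl
theorem f676748 : Led Lsl_bf v2787 = v9585 :=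
  Lgr Lrot24 (Lpr_bt (f676747 IH) (Lpn v9585))
theorem f535597 : Led Lsl_gf (LP (LK LD1_c1 LD2_c55 LD3_c9)) = v2787 :=
  Lrfl
theorem f85704 : Led Lsl_ct (LP (LK LD1_c1 LD2_c55 LD3_c9)) = (LP (LK LD1_c3 LD2_c53 LD3_c50)) :=
  Lre_c IH (LK LD1_c1 LD2_c55 LD3_c9) (LK LD1_c3 LD2_c53 LD3_c50) Lrfl Lrfl
def v7653 : LQ := Led Lsl_gt (LP (LK LD1_c3 LD2_c53 LD3_c50))
theorem f667478 : Led Lsl_gt (LP (LK LD1_c3 LD2_c53 LD3_c50)) = v7653 :=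
  Lrfl
def v8918 : LQ := Led Lsl_bt v2287
theorem f672755 : Led Lsl_bt v2287 = v8918 :=
  Lrfl
theorem f672756 : Led Lsl_bf v2287 = v8918 :=
  Lgr Lrot24 (Lpr_bt (f672755 IH) (Lpn v8918))
theorem f12733 : Led Lsl_bt (LP (LK LD1_c0 LD2_c24 LD3_c31)) = (LP (LK LD1_c0 LD2_c54 LD3_c19)) :=
  Lre_b IH (LK LD1_c0 LD2_c24 LD3_c31) (LK LD1_c0 LD2_c54 LD3_c19) Lrfl Lrfl
theorem f490568 : Led Lsl_bf K29.v148 = K29.v930 :=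
  Lgr Lrot93 (Lpe (K29.f450743 IH) (Lpr_bt (f12733 IH) (Lpr_dt (K29.f490567 IH) (Lpn K29.v930))))
def v2314 : LQ := Led Lsl_bt (LP (LK LD1_c1 LD2_c42 LD3_c7))
theorem f514578 : Led Lsl_bt (LP (LK LD1_c1 LD2_c42 LD3_c7)) = v2314 :=
  Lrfl
theorem f490219 : Led Lsl_ft (LP (LK LD1_c0 LD2_c53 LD3_c22)) = (LP (LK LD1_c1 LD2_c42 LD3_c7)) :=
  Lre_f IH (LK LD1_c0 LD2_c53 LD3_c22) (LK LD1_c1 LD2_c42 LD3_c7) Lrfl Lrfl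
theorem f86669 : Led Lsl_bt (LP (LK LD1_c1 LD2_c53 LD3_c32)) = (LP (LK LD1_c0 LD2_c53 LD3_c22)) :=
  Lre_b IH (LK LD1_c1 LD2_c53 LD3_c32) (LK LD1_c0 LD2_c53 LD3_c22) Lrfl Lrfl
theorem f514582 : Led Lsl_ff (LP (LK LD1_c1 LD2_c53 LD3_c32)) = v2314 :=
  Lgr Lrot25 (Lpr_bt (f86669 IH) (Lpr_ft (f490219 IH) (Lpr_bt (f514578 IH) (Lpn v2314))))
theorem f11900 : Led Lsl_ct (LP (LK LD1_c1 LD2_c53 LD3_c32)) = (LP (LK LD1_c0 LD2_c54 LD3_c19)) :=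
  Lre_c IH (LK LD1_c1 LD2_c53 LD3_c32) (LK LD1_c0 LD2_c54 LD3_c19) Lrfl Lrfl
theorem f490577 : Led Lsl_ft (LP (LK LD1_c0 LD2_c54 LD3_c19)) = K29.v930 :=
  Lgr Lrot48 (Lpr_ff (K29.f490576 IH) (Lpn K29.v930))
theorem f514584 : Led Lsl_ct K29.v930 = v2314 :=
  Lgr Lrot40 (Lpe (f490577 IH) (Lpe (f11900 IH) (Lpr_ff (f514582 IH) (Lpn v2314))))
def v7647 : LQ := Led Lsl_gf (LP (LK LD1_c3 LD2_c53 LD3_c49))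
theorem f667449 : Led Lsl_gf (LP (LK LD1_c3 LD2_c53 LD3_c49)) = v7647 :=
  Lrfl
theorem f11902 : Led Lsl_gt (LP (LK LD1_c3 LD2_c53 LD3_c49)) = (LP (LK LD1_c1 LD2_c53 LD3_c32)) :=
  Lre_g IH (LK LD1_c3 LD2_c53 LD3_c49) (LK LD1_c1 LD2_c53 LD3_c32) Lrfl Lrfl
theorem f490574 : Led Lsl_at (LP (LK LD1_c3 LD2_c53 LD3_c50)) = (LP (LK LD1_c1 LD2_c53 LD3_c32)) :=
  Lre_a IH (LK LD1_c3 LD2_c53 LD3_c50) (LK LD1_c1 LD2_c53 LD3_c32) Lrfl Lrfl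
theorem f667450 : Led Lsl_ff (LP (LK LD1_c3 LD2_c53 LD3_c50)) = v7647 :=
  Lgr Lrot52 (Lpr_at (f490574 IH) (Lpe (f11902 IH) (Lpr_gf (f667449 IH) (Lpn v7647))))
theorem f667453 : Led Lsl_ft (LP (LK LD1_c3 LD2_c53 LD3_c50)) = v7647 :=
  Lgr Lrot48 (Lpr_ff (f667450 IH) (Lpn v7647))
theorem f514583 : Led Lsl_at (LP (LK LD1_c1 LD2_c53 LD3_c32)) = (LP (LK LD1_c3 LD2_c53 LD3_c50)) :=
  Lre_a IH (LK LD1_c1 LD2_c53 LD3_c32) (LK LD1_c3 LD2_c53 LD3_c50) Lrfl Lrfl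
theorem f667454 : Led Lsl_af v2314 = v7647 :=
  Lgr Lrot45 (Lpe (f514582 IH) (Lpr_at (f514583 IH) (Lpr_ft (f667453 IH) (Lpn v7647))))
theorem f667479 : Led Lsl_gf v2314 = v7653 :=
  Lgr Lrot76 (Lpr_af (f667454 IH) (Lpe (f667453 IH) (Lpr_gt (f667478 IH) (Lpn v7653))))
theorem f672757 : Led Lsl_cf v7653 = v8918 :=
  Lgr Lrot160 (Lpe (f667479 IH) (Lpe (f514584 IH) (Lpe (f490568 IH) (Lpe (K29.f450744 IH) (Lpr_ct (K29.f9979 IH) (Lpe (K0.f11474 IH) (Lpe (K29.f9864 IH) (Lpr_bt (K29.f9858 IH) (Lpr_gt (f511892 IH) (Lpr_bf (f672756 IH) (Lpn v8918)))))))))))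
theorem f490826 : Led Lsl_bf K29.v149 = K29.v980 :=
  Lgr Lrot24 (Lpr_bt (K29.f490825 IH) (Lpn K29.v980))
theorem f626554 : Led Lsl_af K29.v980 = v3644 :=
  Lgr Lrot0 (Lpr_at (f626553 IH) (Lpn v3644))
theorem f626555 : Led Lsl_bf v3644 = v3644 :=
  Lgr Lrot81 (Lpe (f626554 IH) (Lpe (f490826 IH) (Lpe (K29.f450757 IH) (Lpr_bt (K29.f490825 IH) (Lpr_at (f626553 IH) (Lpn v3644))))))
theorem f626556 : Led Lsl_df (LP (LK LD1_c3 LD2_c28 LD3_c14)) = v3644 :=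
  Lgr Lrot18 (Lpr_at (K29.f9859 IH) (Lpr_dt (f490847 IH) (Lpr_at (f626553 IH) (Lpn v3644))))
theorem f626564 : Led Lsl_dt (LP (LK LD1_c3 LD2_c28 LD3_c14)) = v3644 :=
  Lgr Lrot79 (Lpe (K29.f9855 IH) (Lpr_df (f626556 IH) (Lpr_bf (f626555 IH) (Lpn v3644))))
theorem f672975 : Led Lsl_ct v3644 = v8965 :=
  Lgr Lrot98 (Lpe (f626564 IH) (Lpe (K29.f9852 IH) (Lpe (K29.f9863 IH) (Lpe (K29.f490830 IH) (Lpr_df (K29.f490833 IH) (Lpe (K29.f490832 IH) (Lpe (K29.f490831 IH) (Lpr_ft (f514702 IH) (Lpr_at (f672970 IH) (Lpn v8965))))))))))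
theorem f676749 : Led Lsl_cf (LP (LK LD1_c6 LD2_c58 LD3_c3)) = v9585 :=
  Lgr Lrot58 (Lpr_gf (f672981 IH) (Lpe (f672975 IH) (Lpe (f626555 IH) (Lpe (f626558 IH) (Lpr_bf (f672756 IH) (Lpe (f672757 IH) (Lpe (f667478 IH) (Lpe (f85704 IH) (Lpr_gf (f535597 IH) (Lpr_bf (f676748 IH) (Lpn v9585)))))))))))
theorem f676751 : Led Lsl_ct (LP (LK LD1_c6 LD2_c58 LD3_c3)) = v9585 :=
  Lgr Lrot59 (Lpr_cf (f676749 IH) (Lpn v9585))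
theorem f790107 : v6973 = v9585 :=
  (Llr Lrot129 (Lpe (f659735 IH) (Lpe (f107819 IH) (Lpr_bt (f107817 IH) (Lpe (f107811 IH) (Lpr_bf (f115128 IH) (Lpr_ct (f9850 IH) (Lpr_gt (f790104 IH) (Lpr_cf (f790102 IH) (Lpe (f790101 IH) (Lpe (f672981 IH) (Lpr_ct (f676751 IH) (Lpn v9585))))))))))))).symm
theorem f143228 : Led Lsl_bt (LP (LK LD1_c1 LD2_c39 LD3_c8)) = (LP (LK LD1_c0 LD2_c45 LD3_c61)) :=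
  Lre_b IH (LK LD1_c1 LD2_c39 LD3_c8) (LK LD1_c0 LD2_c45 LD3_c61) Lrfl Lrfl
theorem f143229 : Led Lsl_ct (LP (LK LD1_c1 LD2_c39 LD3_c8)) = (LP (LK LD1_c3 LD2_c25 LD3_c12)) :=
  Lre_c IH (LK LD1_c1 LD2_c39 LD3_c8) (LK LD1_c3 LD2_c25 LD3_c12) Lrfl Lrfl
def v6657 : LQ := Led Lsl_gt (LP (LK LD1_c3 LD2_c25 LD3_c12))
theorem f657508 : Led Lsl_gt (LP (LK LD1_c3 LD2_c25 LD3_c12)) = v6657 :=
  Lrfl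
theorem f792092 : Led Lsl_cf v6657 = (LP (LK LD1_c7 LD2_c11 LD3_c30)) :=
  Lgr Lrot58 (Lpe (f657508 IH) (Lpe (f143229 IH) (Lpr_bt (f143228 IH) (Lpe (K6.f143204 IH) (Lpe (K29.f9860 IH) (Lpr_ct (K29.f143227 IH) (Lpe (f92268 IH) (Lpr_cf (f676749 IH) (Lpq (f790107 IH) (Lpr_gf (f792089 IH) (Lpe (f792082 IH) (Lpn (LP (LK LD1_c7 LD2_c11 LD3_c30))))))))))))))
theorem f792094 : Led Lsl_ct v6657 = (LP (LK LD1_c7 LD2_c11 LD3_c30)) :=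
  Lgr Lrot59 (Lpr_cf (f792092 IH) (Lpn (LP (LK LD1_c7 LD2_c11 LD3_c30))))
def v2256 : LQ := Led Lsl_gf (LP (LK LD1_c1 LD2_c39 LD3_c8))
theorem f511293 : Led Lsl_gf (LP (LK LD1_c1 LD2_c39 LD3_c8)) = v2256 :=
  Lrfl
def v8869 : LQ := Led Lsl_dt v2256
theorem f672563 : Led Lsl_dt v2256 = v8869 :=
  Lrfl
theorem f672564 : Led Lsl_df v2256 = v8869 :=
  Lgr Lrot38 (Lpr_dt (f672563 IH) (Lpn v8869))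
def v2255 : LQ := Led Lsl_gt (LP (LK LD1_c1 LD2_c39 LD3_c8))
def v8866 : LQ := Led Lsl_ft v2255
theorem f672555 : Led Lsl_ft v2255 = v8866 :=
  Lrfl
theorem f672557 : Led Lsl_ff v2255 = v8866 :=
  Lgr Lrot3 (Lpr_ft (f672555 IH) (Lpn v8866))
def v8864 : LQ := Led Lsl_dt v2255
theorem f672551 : Led Lsl_dt v2255 = v8864 :=
  Lrfl
def v6933 : LQ := Led Lsl_gt (LP (LK LD1_c3 LD2_c34 LD3_c45))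
theorem f659543 : Led Lsl_gt (LP (LK LD1_c3 LD2_c34 LD3_c45)) = v6933 :=
  Lrfl
def v8862 : LQ := Led Lsl_bt v2255
theorem f672544 : Led Lsl_bt v2255 = v8862 :=
  Lrfl
theorem f672545 : Led Lsl_bf v2255 = v8862 :=
  Lgr Lrot24 (Lpr_bt (f672544 IH) (Lpn v8862))
theorem f511292 : Led Lsl_gt (LP (LK LD1_c1 LD2_c39 LD3_c8)) = v2255 :=
  Lrfl
theorem f12729 : Led Lsl_bt (LP (LK LD1_c0 LD2_c45 LD3_c61)) = (LP (LK LD1_c1 LD2_c39 LD3_c8)) :=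
  Lre_b IH (LK LD1_c0 LD2_c45 LD3_c61) (LK LD1_c1 LD2_c39 LD3_c8) Lrfl Lrfl
theorem f10981 : Led Lsl_ct (LP (LK LD1_c1 LD2_c44 LD3_c29)) = (LP (LK LD1_c3 LD2_c34 LD3_c47)) :=
  Lre_c IH (LK LD1_c1 LD2_c44 LD3_c29) (LK LD1_c3 LD2_c34 LD3_c47) Lrfl Lrfl
theorem f659544 : Led Lsl_gf (LP (LK LD1_c3 LD2_c34 LD3_c47)) = v6933 :=
  Lgr Lrot76 (Lpr_af (f659505 IH) (Lpe (K47.f659504 IH) (Lpr_gt (f659543 IH) (Lpn v6933))))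
theorem f672546 : Led Lsl_cf v6933 = v8862 :=
  Lgr Lrot160 (Lpe (f659544 IH) (Lpe (f10981 IH) (Lpr_bt (K49.f10070 IH) (Lpe (K3.f11893 IH) (Lpr_ct (K3.f7421 IH) (Lpr_gt (K3.f12709 IH) (Lpe (K6.f12728 IH) (Lpr_bt (f12729 IH) (Lpr_gt (f511292 IH) (Lpr_bf (f672545 IH) (Lpn v8862)))))))))))
theorem f672547 : Led Lsl_ct v6933 = v8862 :=
  Lgr Lrot59 (Lpr_cf (f672546 IH) (Lpn v8862))
theorem f659503 : Led Lsl_ct K47.v2399 = K47.v6928 :=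
  Lgr Lrot59 (Lpr_cf (K47.f659501 IH) (Lpn K47.v6928))
theorem f787457 : Led Lsl_df v8862 = v6931 :=
  Lgr Lrot162 (Lpe (f672547 IH) (Lpe (f659543 IH) (Lpe (K47.f10725 IH) (Lpqs (f787446 IH) (Lpe (f673341 IH) (Lpe (f519512 IH) (Lpr_gt (K47.f519488 IH) (Lpr_ct (f659503 IH) (Lpe (K47.f659507 IH) (Lpr_ct (f659534 IH) (Lpn v6931)))))))))))
theorem f659539 : Led Lsl_bt v3887 = v6931 :=
  Lgr Lrot127 (Lpr_bf (f659538 IH) (Lpn v6931))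
theorem f787459 : v8864 = v3887 :=
  (Llr Lrot79 (Lpe (f672551 IH) (Lpr_bf (f672545 IH) (Lpr_df (f787457 IH) (Lpe (f659539 IH) (Lpn v3887)))))).symm
def v11781 : LQ := Led Lsl_ft v3887
theorem f685866 : Led Lsl_ft v3887 = v11781 :=
  Lrfl
theorem f787461 : Led Lsl_df v8866 = v11781 :=
  Lgr Lrot78 (Lpe (f672557 IH) (Lpr_dt (f672551 IH) (Lpqs (f787459 IH) (Lpr_ft (f685866 IH) (Lpn v11781)))))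
def v8861 : LQ := Led Lsl_at v2255
theorem f672540 : Led Lsl_at v2255 = v8861 :=
  Lrfl
theorem f672541 : Led Lsl_af v2255 = v8861 :=
  Lgr Lrot0 (Lpr_at (f672540 IH) (Lpn v8861))
theorem f672542 : Led Lsl_ft v2256 = v8861 :=
  Lgr Lrot2 (Lpe (f511293 IH) (Lpr_gt (f511292 IH) (Lpr_af (f672541 IH) (Lpn v8861))))
theorem f672556 : Led Lsl_af v2256 = v8866 :=
  Lgr Lrot45 (Lpr_ft (f672542 IH) (Lpe (f672541 IH) (Lpr_ft (f672555 IH) (Lpn v8866))))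
theorem f685868 : Led Lsl_ff v3887 = v11781 :=
  Lgr Lrot3 (Lpr_ft (f685866 IH) (Lpn v11781))
def v11777 : LQ := Led Lsl_at v3887
theorem f685856 : Led Lsl_at v3887 = v11777 :=
  Lrfl
theorem f685857 : Led Lsl_af v3887 = v11777 :=
  Lgr Lrot0 (Lpr_at (f685856 IH) (Lpn v11777))
def v3888 : LQ := Led Lsl_gf v1102
theorem f627748 : Led Lsl_gf v1102 = v3888 :=
  Lrfl
theorem f685858 : Led Lsl_ft v3888 = v11777 :=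
  Lgr Lrot2 (Lpe (f627748 IH) (Lpr_gt (f627746 IH) (Lpr_af (f685857 IH) (Lpn v11777))))
theorem f685859 : Led Lsl_ff v3888 = v11777 :=
  Lgr Lrot3 (Lpr_ft (f685858 IH) (Lpn v11777))
theorem f685869 : Led Lsl_at v3888 = v11781 :=
  Lgr Lrot66 (Lpr_ff (f685859 IH) (Lpe (f685856 IH) (Lpr_ff (f685868 IH) (Lpn v11781))))
theorem f787463 : v8869 = v3888 :=
  (Llr Lrot44 (Lpe (f672563 IH) (Lpr_af (f672556 IH) (Lpr_df (f787461 IH) (Lpe (f685869 IH) (Lpn v3888)))))).symm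
theorem f106919 : Led Lsl_bt (LP (LK LD1_c3 LD2_c25 LD3_c12)) = (LP (LK LD1_c1 LD2_c39 LD3_c7)) :=
  Lre_b IH (LK LD1_c3 LD2_c25 LD3_c12) (LK LD1_c1 LD2_c39 LD3_c7) Lrfl Lrfl
theorem f535558 : Led Lsl_ff (LP (LK LD1_c3 LD2_c25 LD3_c12)) = v2777 :=
  Lgr Lrot25 (Lpr_bt (f106919 IH) (Lpr_ft (K5.f135006 IH) (Lpr_bt (f535555 IH) (Lpn v2777))))
theorem f106920 : Led Lsl_ct (LP (LK LD1_c3 LD2_c25 LD3_c12)) = (LP (LK LD1_c1 LD2_c39 LD3_c8)) :=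
  Lre_c IH (LK LD1_c3 LD2_c25 LD3_c12) (LK LD1_c1 LD2_c39 LD3_c8) Lrfl Lrfl
theorem f450835 : Led Lsl_ff (LP (LK LD1_c0 LD2_c22 LD3_c17)) = v163 :=
  Lgr Lrot19 (Lpe (K35.f10074 IH) (Lpr_ft (K3.f10078 IH) (Lpr_dt (f450832 IH) (Lpn v163))))
theorem f450923 : Led Lsl_gt v163 = K35.v176 :=
  Lgr Lrot5 (Lpe (f450835 IH) (Lpe (K49.f10093 IH) (Lpr_gf (K35.f450922 IH) (Lpn K35.v176))))
theorem f450927 : Led Lsl_cf K11.v86 = K35.v176 :=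
  Lgr Lrot166 (Lpe (K35.f447635 IH) (Lpr_dt (K6.f12146 IH) (Lpr_gt (K0.f12155 IH) (Lpr_dt (K3.f7401 IH) (Lpr_ct (K29.f450740 IH) (Lpe (K29.f450747 IH) (Lpr_gf (K3.f11893 IH) (Lpr_df (K35.f10074 IH) (Lpr_gf (K35.f450922 IH) (Lpn K35.v176))))))))))
def v136 : LQ := Led Lsl_ct (LP (LK LD1_c0 LD2_c20 LD3_c41))
theorem f450677 : Led Lsl_ct (LP (LK LD1_c0 LD2_c20 LD3_c41)) = v136 :=
  Lrfl
theorem f451420 : Led Lsl_dt v136 = v260 :=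
  Lgr Lrot27 (Lpe (f450677 IH) (Lpr_gf (K35.f447635 IH) (Lpr_cf (f450927 IH) (Lpe (f450923 IH) (Lpe (f450832 IH) (Lpr_gt (f450745 IH) (Lpe (K29.f450741 IH) (Lpe (K3.f11126 IH) (Lpr_ct (f451415 IH) (Lpn v260))))))))))
theorem f450678 : Led Lsl_cf (LP (LK LD1_c0 LD2_c20 LD3_c41)) = v136 :=
  Lgr Lrot11 (Lpr_ct (f450677 IH) (Lpn v136))
theorem f450679 : Led Lsl_at v136 = v136 :=
  Lgr Lrot107 (Lpe (f450677 IH) (Lpr_af (K6.f145415 IH) (Lpr_cf (f450678 IH) (Lpn v136))))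
theorem f435135 : Led Lsl_ft (LP (LK LD1_c0 LD2_c20 LD3_c36)) = (LP (LK LD1_c0 LD2_c9 LD3_c17)) :=
  Lre_f IH (LK LD1_c0 LD2_c20 LD3_c36) (LK LD1_c0 LD2_c9 LD3_c17) Lrfl Lrfl
theorem f435136 : Led Lsl_af (LP (LK LD1_c0 LD2_c9 LD3_c17)) = (LP (LK LD1_c0 LD2_c9 LD3_c17)) :=
  Lgr Lrot31 (Lpe (K7.f12736 IH) (Lpr_gf (K11.f154362 IH) (Lpr_ft (f435135 IH) (Lpn (LP (LK LD1_c0 LD2_c9 LD3_c17))))))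
theorem f451418 : Led Lsl_df v136 = v260 :=
  Lgr Lrot106 (Lpe (f450678 IH) (Lpr_dt (K6.f12146 IH) (Lpr_ct (K3.f12159 IH) (Lpr_dt (K7.f12677 IH) (Lpr_ct (K6.f12719 IH) (Lpr_af (f435136 IH) (Lpe (f435135 IH) (Lpr_dt (f135049 IH) (Lpr_ct (f451415 IH) (Lpn v260))))))))))
theorem f451422 : Led Lsl_af v260 = v260 :=
  Lgr Lrot117 (Lpe (f451418 IH) (Lpr_at (f450679 IH) (Lpr_dt (f451420 IH) (Lpn v260))))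
theorem f135037 : Led Lsl_ft (LP (LK LD1_c0 LD2_c20 LD3_c35)) = (LP (LK LD1_c0 LD2_c24 LD3_c30)) :=
  Lgr Lrot75 (Lpe (K3.f12730 IH) (Lpr_ff (K5.f135033 IH) (Lpe (f121463 IH) (Lpn (LP (LK LD1_c0 LD2_c24 LD3_c30))))))
theorem f451417 : Led Lsl_ff (LP (LK LD1_c0 LD2_c45 LD3_c61)) = v260 :=
  Lgr Lrot23 (Lpr_ct (K6.f12728 IH) (Lpr_ft (f135037 IH) (Lpr_ct (f451415 IH) (Lpn v260))))
theorem f438891 : Led Lsl_at (LP (LK LD1_c0 LD2_c45 LD3_c61)) = (LP (LK LD1_c0 LD2_c45 LD3_c61)) :=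
  Lgr Lrot107 (Lpe (K6.f12721 IH) (Lpr_af (K24.f134950 IH) (Lpe (K6.f12728 IH) (Lpn (LP (LK LD1_c0 LD2_c45 LD3_c61))))))
theorem f451423 : Led Lsl_ft (LP (LK LD1_c0 LD2_c45 LD3_c61)) = v260 :=
  Lgr Lrot101 (Lpe (f438891 IH) (Lpr_ff (f451417 IH) (Lpr_af (f451422 IH) (Lpn v260))))
theorem f491504 : Led Lsl_ff (LP (LK LD1_c1 LD2_c39 LD3_c8)) = v1102 :=
  Lgr Lrot25 (Lpr_bt (f143228 IH) (Lpr_ft (f451423 IH) (Lpr_bt (f491501 IH) (Lpn v1102))))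
theorem f491505 : Led Lsl_ft (LP (LK LD1_c1 LD2_c39 LD3_c8)) = v1102 :=
  Lgr Lrot48 (Lpr_ff (f491504 IH) (Lpn v1102))
theorem f535559 : Led Lsl_ct v1102 = v2777 :=
  Lgr Lrot40 (Lpe (f491505 IH) (Lpe (f106920 IH) (Lpr_ff (f535558 IH) (Lpn v2777))))
def v9551 : LQ := Led Lsl_gt v2777
theorem f676641 : Led Lsl_gt v2777 = v9551 :=
  Lrfl
def v11782 : LQ := Led Lsl_bt v3888
theorem f685870 : Led Lsl_bt v3888 = v11782 :=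
  Lrfl
theorem f685871 : Led Lsl_bf v3888 = v11782 :=
  Lgr Lrot24 (Lpr_bt (f685870 IH) (Lpn v11782))
def v3889 : LQ := Led Lsl_at v1102
theorem f627749 : Led Lsl_at v1102 = v3889 :=
  Lrfl
def v2257 : LQ := Led Lsl_at (LP (LK LD1_c1 LD2_c39 LD3_c8))
theorem f511294 : Led Lsl_at (LP (LK LD1_c1 LD2_c39 LD3_c8)) = v2257 :=
  Lrfl
theorem f511295 : Led Lsl_af (LP (LK LD1_c1 LD2_c39 LD3_c8)) = v2257 :=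
  Lgr Lrot0 (Lpr_at (f511294 IH) (Lpn v2257))
theorem f627753 : Led Lsl_ff v2257 = v3889 :=
  Lgr Lrot30 (Lpe (f511295 IH) (Lpr_ft (f491505 IH) (Lpr_at (f627749 IH) (Lpn v3889))))
theorem f511296 : Led Lsl_bf v2257 = v2257 :=
  Lgr Lrot81 (Lpe (f511295 IH) (Lpr_bt (f143228 IH) (Lpr_at (f438891 IH) (Lpr_bt (f12729 IH) (Lpr_at (f511294 IH) (Lpn v2257))))))
theorem f627750 : Led Lsl_af v1102 = v3889 :=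
  Lgr Lrot0 (Lpr_at (f627749 IH) (Lpn v3889))
theorem f627751 : Led Lsl_bf v3889 = v3889 :=
  Lgr Lrot81 (Lpe (f627750 IH) (Lpe (f491502 IH) (Lpe (f451422 IH) (Lpr_bt (f491501 IH) (Lpr_at (f627749 IH) (Lpn v3889))))))
theorem f627755 : Led Lsl_ft v2257 = v3889 :=
  Lgr Lrot75 (Lpr_bf (f511296 IH) (Lpr_ff (f627753 IH) (Lpr_bf (f627751 IH) (Lpn v3889))))
theorem f627757 : Led Lsl_gt v2257 = v3888 :=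
  Lgr Lrot5 (Lpr_ft (f627755 IH) (Lpe (f627750 IH) (Lpr_gf (f627748 IH) (Lpn v3888))))
def v6659 : LQ := Led Lsl_at (LP (LK LD1_c3 LD2_c25 LD3_c12))
theorem f657512 : Led Lsl_at (LP (LK LD1_c3 LD2_c25 LD3_c12)) = v6659 :=
  Lrfl
theorem f657514 : Led Lsl_cf v2257 = v6659 :=
  Lgr Lrot1 (Lpe (f511295 IH) (Lpr_ct (f143229 IH) (Lpr_at (f657512 IH) (Lpn v6659))))
theorem f657515 : Led Lsl_ct v2257 = v6659 :=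
  Lgr Lrot59 (Lpr_cf (f657514 IH) (Lpn v6659))
theorem f676642 : Led Lsl_gf v6659 = v9551 :=
  Lgr Lrot76 (Lpe (f657512 IH) (Lpr_ff (f535558 IH) (Lpr_gt (f676641 IH) (Lpn v9551))))
def v929 : LQ := Led Lsl_gt (LP (LK LD1_c0 LD2_c54 LD3_c19))
theorem f490566 : Led Lsl_gt (LP (LK LD1_c0 LD2_c54 LD3_c19)) = v929 :=
  Lrfl
def v3560 : LQ := Led Lsl_ct v929
theorem f626266 : Led Lsl_ct v929 = v3560 :=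
  Lrfl
def v7779 : LQ := Led Lsl_at (LP (LK LD1_c3 LD2_c56 LD3_c51))
theorem f668348 : Led Lsl_at (LP (LK LD1_c3 LD2_c56 LD3_c51)) = v7779 :=
  Lrfl
theorem f440548 : Led Lsl_ct (LP (LK LD1_c1 LD2_c55 LD3_c8)) = (LP (LK LD1_c3 LD2_c56 LD3_c51)) :=
  Lre_c IH (LK LD1_c1 LD2_c55 LD3_c8) (LK LD1_c3 LD2_c56 LD3_c51) Lrfl Lrfl
def v2782 : LQ := Led Lsl_at (LP (LK LD1_c1 LD2_c55 LD3_c8))
theorem f535582 : Led Lsl_at (LP (LK LD1_c1 LD2_c55 LD3_c8)) = v2782 :=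
  Lrfl
theorem f535583 : Led Lsl_af (LP (LK LD1_c1 LD2_c55 LD3_c8)) = v2782 :=
  Lgr Lrot0 (Lpr_at (f535582 IH) (Lpn v2782))
theorem f668350 : Led Lsl_cf v2782 = v7779 :=
  Lgr Lrot1 (Lpe (f535583 IH) (Lpr_ct (f440548 IH) (Lpr_at (f668348 IH) (Lpn v7779))))
def v2781 : LQ := Led Lsl_gf (LP (LK LD1_c1 LD2_c55 LD3_c8))
theorem f535571 : Led Lsl_gf (LP (LK LD1_c1 LD2_c55 LD3_c8)) = v2781 :=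
  Lrfl
theorem f12734 : Led Lsl_gt (LP (LK LD1_c1 LD2_c55 LD3_c8)) = (LP (LK LD1_c0 LD2_c54 LD3_c19)) :=
  Lre_g IH (LK LD1_c1 LD2_c55 LD3_c8) (LK LD1_c0 LD2_c54 LD3_c19) Lrfl Lrfl
theorem f85710 : Led Lsl_at (LP (LK LD1_c1 LD2_c55 LD3_c9)) = (LP (LK LD1_c0 LD2_c54 LD3_c19)) :=
  Lre_a IH (LK LD1_c1 LD2_c55 LD3_c9) (LK LD1_c0 LD2_c54 LD3_c19) Lrfl Lrfl
theorem f535572 : Led Lsl_ff (LP (LK LD1_c1 LD2_c55 LD3_c9)) = v2781 :=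
  Lgr Lrot52 (Lpr_at (f85710 IH) (Lpe (f12734 IH) (Lpr_gf (f535571 IH) (Lpn v2781))))
theorem f535575 : Led Lsl_at K29.v930 = v2781 :=
  Lgr Lrot66 (Lpe (f490577 IH) (Lpe (f85710 IH) (Lpr_ff (f535572 IH) (Lpn v2781))))
theorem f535581 : Led Lsl_gt v929 = v2781 :=
  Lgr Lrot46 (Lpe (f490566 IH) (Lpr_ft (f490577 IH) (Lpr_at (f535575 IH) (Lpn v2781))))
theorem f535585 : Led Lsl_ft v929 = v2782 :=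
  Lgr Lrot2 (Lpr_gt (f535581 IH) (Lpe (f535571 IH) (Lpr_af (f535583 IH) (Lpn v2782))))
theorem f535586 : Led Lsl_ff v929 = v2782 :=
  Lgr Lrot3 (Lpr_ft (f535585 IH) (Lpn v2782))
theorem f668352 : Led Lsl_ft v3560 = v7779 :=
  Lgr Lrot4 (Lpe (f626266 IH) (Lpr_ff (f535586 IH) (Lpr_cf (f668350 IH) (Lpn v7779))))
theorem f668349 : Led Lsl_af (LP (LK LD1_c3 LD2_c56 LD3_c51)) = v7779 :=
  Lgr Lrot0 (Lpr_at (f668348 IH) (Lpn v7779))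
def v7778 : LQ := Led Lsl_gf (LP (LK LD1_c3 LD2_c56 LD3_c51))
theorem f668346 : Led Lsl_gf (LP (LK LD1_c3 LD2_c56 LD3_c51)) = v7778 :=
  Lrfl
theorem f668354 : Led Lsl_gt v3560 = v7778 :=
  Lgr Lrot5 (Lpr_ft (f668352 IH) (Lpe (f668349 IH) (Lpr_gf (f668346 IH) (Lpn v7778))))
theorem f685872 : Led Lsl_cf v7778 = v11782 :=
  Lgr Lrot163 (Lpe (f668354 IH) (Lpe (f626266 IH) (Lpe (f490566 IH) (Lpe (f12733 IH) (Lpr_ct (K3.f7421 IH) (Lpe (K3.f7423 IH) (Lpr_cf (f451416 IH) (Lpr_bt (f491501 IH) (Lpr_gf (f627748 IH) (Lpr_bf (f685871 IH) (Lpn v11782)))))))))))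
theorem f535584 : Led Lsl_bt (LP (LK LD1_c1 LD2_c55 LD3_c8)) = (LP (LK LD1_c3 LD2_c56 LD3_c50)) :=
  Lre_b IH (LK LD1_c1 LD2_c55 LD3_c8) (LK LD1_c3 LD2_c56 LD3_c50) Lrfl Lrfl
def v7770 : LQ := Led Lsl_gt (LP (LK LD1_c3 LD2_c56 LD3_c50))
theorem f668324 : Led Lsl_gt (LP (LK LD1_c3 LD2_c56 LD3_c50)) = v7770 :=
  Lrfl
theorem f685873 : Led Lsl_cf v9551 = v7770 :=
  Lgr Lrot125 (Lpe (f676642 IH) (Lpe (f657515 IH) (Lpe (f511296 IH) (Lpr_gt (f627757 IH) (Lpr_bf (f685871 IH) (Lpe (f685872 IH) (Lpe (f668346 IH) (Lpe (f440548 IH) (Lpr_bt (f535584 IH) (Lpr_gt (f668324 IH) (Lpn v7770)))))))))))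
theorem f685874 : Led Lsl_ct v9551 = v7770 :=
  Lgr Lrot59 (Lpr_cf (f685873 IH) (Lpn v7770))
theorem f792097 : Led Lsl_df v7770 = (LP (LK LD1_c7 LD2_c11 LD3_c30)) :=
  Lgr Lrot162 (Lpe (f685874 IH) (Lpe (f676641 IH) (Lpe (f535559 IH) (Lpr_gf (f627748 IH) (Lpq (f787463 IH) (Lpe (f672564 IH) (Lpe (f511293 IH) (Lpr_ct (f143229 IH) (Lpr_gt (f657508 IH) (Lpr_ct (f792094 IH) (Lpn (LP (LK LD1_c7 LD2_c11 LD3_c30)))))))))))))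
theorem f519505 : Led Lsl_at (LP (LK LD1_c3 LD2_c35 LD3_c15)) = (LP (LK LD1_c7 LD2_c11 LD3_c30)) :=
  Lre_a IH (LK LD1_c3 LD2_c35 LD3_c15) (LK LD1_c7 LD2_c11 LD3_c30) Lrfl Lrfl
theorem f659701 : Led Lsl_df (LP (LK LD1_c3 LD2_c35 LD3_c15)) = v6966 :=
  Lgr Lrot38 (Lpr_dt (f659699 IH) (Lpn v6966))
theorem f792098 : Led Lsl_at v7770 = v6966 :=
  Lgr Lrot51 (Lpr_df (f792097 IH) (Lpe (f519505 IH) (Lpr_df (f659701 IH) (Lpn v6966))))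
def v2407 : LQ := Led Lsl_gf (LP (LK LD1_c1 LD2_c44 LD3_c28))
def v9066 : LQ := Led Lsl_bt v2407
theorem f673391 : Led Lsl_bt v2407 = v9066 :=
  Lrfl
theorem f659702 : Led Lsl_bt v2401 = v6966 :=
  Lgr Lrot95 (Lpe (f519511 IH) (Lpe (f11483 IH) (Lpr_df (f659701 IH) (Lpn v6966))))
theorem f519528 : Led Lsl_gf (LP (LK LD1_c1 LD2_c44 LD3_c28)) = v2407 :=
  Lrfl
theorem f519529 : Led Lsl_gt (LP (LK LD1_c1 LD2_c44 LD3_c29)) = v2407 :=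
  Lgr Lrot5 (Lpr_ft (K49.f10955 IH) (Lpr_at (f10738 IH) (Lpr_gf (f519528 IH) (Lpn v2407))))
theorem f787452 : v2401 = v2407 :=
  Lefun (Lecon (Lfl_gf (f673342 IH)) (f787445 IH).symm) (f519529 IH)
theorem f787453 : v9066 = v6966 :=
  Lefun (Lecon (f673391 IH) (f787452 IH).symm) (f659702 IH)
theorem f673392 : Led Lsl_bf v2407 = v9066 :=
  Lgr Lrot24 (Lpr_bt (f673391 IH) (Lpn v9066))
theorem f18105 : Led Lsl_bt (LP (LK LD1_c0 LD2_c21 LD3_c28)) = (LP (LK LD1_c0 LD2_c47 LD3_c55)) :=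
  Lre_b IH (LK LD1_c0 LD2_c21 LD3_c28) (LK LD1_c0 LD2_c47 LD3_c55) Lrfl Lrfl
theorem f450755 : Led Lsl_gt (LP (LK LD1_c0 LD2_c45 LD3_c61)) = K29.v149 :=
  Lgr Lrot65 (Lpe (K6.f12721 IH) (Lpr_bt (K6.f124273 IH) (Lpe (K5.f124254 IH) (Lpe (K5.f124267 IH) (Lpr_ct (K5.f120869 IH) (Lpr_gf (K5.f124269 IH) (Lpe (K5.f19333 IH) (Lpe (K3.f19330 IH) (Lpe (f18105 IH) (Lpr_ct (K29.f450750 IH) (Lpn K29.v149)))))))))))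
def v6658 : LQ := Led Lsl_gf (LP (LK LD1_c3 LD2_c25 LD3_c12))
theorem f657509 : Led Lsl_gf (LP (LK LD1_c3 LD2_c25 LD3_c12)) = v6658 :=
  Lrfl
theorem f673393 : Led Lsl_cf v6658 = v9066 :=
  Lgr Lrot160 (Lpe (f657509 IH) (Lpe (f143229 IH) (Lpr_bt (f143228 IH) (Lpr_gt (f450755 IH) (Lpe (K29.f450751 IH) (Lpe (K0.f11491 IH) (Lpe (K29.f9979 IH) (Lpr_bt (K49.f10371 IH) (Lpr_gt (f519529 IH) (Lpr_bf (f673392 IH) (Lpn v9066)))))))))))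
theorem f792100 : Led Lsl_af v9551 = v6658 :=
  Lgr Lrot68 (Lpr_ct (f685874 IH) (Lpr_at (f792098 IH) (Lpq (f787453 IH) (Lpe (f673393 IH) (Lpn v6658)))))
def v6965 : LQ := Led Lsl_ct (LP (LK LD1_c3 LD2_c35 LD3_c15))
theorem f659695 : Led Lsl_ct (LP (LK LD1_c3 LD2_c35 LD3_c15)) = v6965 :=
  Lrfl
theorem f451419 : Led Lsl_gf (LP (LK LD1_c0 LD2_c46 LD3_c50)) = v260 :=
  Lgr Lrot104 (Lpr_ct (K29.f9864 IH) (Lpe (K0.f9866 IH) (Lpe (K1.f9867 IH) (Lpe (K7.f145456 IH) (Lpr_cf (K11.f145454 IH) (Lpe (K5.f11109 IH) (Lpe (K3.f7399 IH) (Lpe (K3.f11126 IH) (Lpr_ct (f451415 IH) (Lpn v260))))))))))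
theorem f659698 : Led Lsl_gf v2777 = v6965 :=
  Lgr Lrot126 (Lpe (f535559 IH) (Lpe (f491502 IH) (Lpe (f451419 IH) (Lpr_ct (K29.f9864 IH) (Lpr_gt (K0.f11472 IH) (Lpe (K29.f9949 IH) (Lpr_bt (K47.f10737 IH) (Lpr_gt (K47.f11482 IH) (Lpe (f11483 IH) (Lpr_ct (f659695 IH) (Lpn v6965)))))))))))
theorem f792102 : Led Lsl_ft v6965 = v6658 :=
  Lgr Lrot2 (Lpe (f659698 IH) (Lpr_gt (f676641 IH) (Lpr_af (f792100 IH) (Lpn v6658))))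
theorem f659709 : Led Lsl_ff (LP (LK LD1_c3 LD2_c35 LD3_c15)) = v6968 :=
  Lgr Lrot3 (Lpr_ft (f659707 IH) (Lpn v6968))
theorem f673394 : Led Lsl_ct v6658 = v9066 :=
  Lgr Lrot59 (Lpr_cf (f673393 IH) (Lpn v9066))
theorem f792105 : v6968 = v9066 :=
  (Llr Lrot23 (Lpe (f659709 IH) (Lpr_ct (f659695 IH) (Lpr_ft (f792102 IH) (Lpr_ct (f673394 IH) (Lpn v9066)))))).symm
theorem f792106 : v2403 = v2401 :=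
  Lefun (Lecon (Lfl_bf (f659708 IH)) ((f792105 IH).trans (f787453 IH))) (Lfl_bf (f659700 IH))
theorem f792107 : v9041 = v9044 :=
  Lefun (Lecon (f673330 IH) (f792106 IH)) (f673341 IH)
theorem f792113 : K47.v2400 = v2406 :=
  Lefun (Lecon (Lfl_gf (f673329 IH)) ((f792107 IH).trans (f787446 IH).symm)) (f519526 IH)
theorem f792114 : v6975 = v6977 :=
  Lefun (Lecon (f659742 IH) ((f787444 IH).symm.trans (f792113 IH).symm)) (f659750 IH)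
theorem f106242 : Led Lsl_ct (LP (LK LD1_c3 LD2_c27 LD3_c57)) = (LP (LK LD1_c1 LD2_c40 LD3_c44)) :=
  Lre_c IH (LK LD1_c3 LD2_c27 LD3_c57) (LK LD1_c1 LD2_c40 LD3_c44) Lrfl Lrfl
theorem f514698 : Led Lsl_cf K29.v980 = v2335 :=
  Lgr Lrot97 (Lpe (f490826 IH) (Lpe (K29.f450751 IH) (Lpr_bt (f18105 IH) (Lpr_ct (K3.f11505 IH) (Lpr_bt (f514696 IH) (Lpn v2335))))))
def v8964 : LQ := Led Lsl_gf v2335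
theorem f672966 : Led Lsl_gf v2335 = v8964 :=
  Lrfl
theorem f514701 : Led Lsl_ct K29.v980 = v2335 :=
  Lgr Lrot40 (Lpe (f490829 IH) (Lpe (f106242 IH) (Lpr_ff (f514699 IH) (Lpn v2335))))
theorem f451421 : Led Lsl_gt K29.v149 = v260 :=
  Lgr Lrot65 (Lpe (K29.f450750 IH) (Lpr_bt (f18105 IH) (Lpr_gf (K2.f64365 IH) (Lpe (K4.f64375 IH) (Lpe (K7.f131114 IH) (Lpe (K5.f131099 IH) (Lpe (K5.f115505 IH) (Lpr_gf (K5.f135043 IH) (Lpe (f121463 IH) (Lpr_ct (f451415 IH) (Lpn v260)))))))))))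
def v3559 : LQ := Led Lsl_bt v929
theorem f626264 : Led Lsl_bt v929 = v3559 :=
  Lrfl
theorem f626265 : Led Lsl_bf v929 = v3559 :=
  Lgr Lrot24 (Lpr_bt (f626264 IH) (Lpn v3559))
theorem f672967 : Led Lsl_ct v3559 = v8964 :=
  Lgr Lrot64 (Lpe (f626265 IH) (Lpe (f490566 IH) (Lpe (f12733 IH) (Lpr_ct (K3.f7421 IH) (Lpe (K3.f7423 IH) (Lpr_cf (f451416 IH) (Lpe (f451421 IH) (Lpr_bf (f490826 IH) (Lpr_ct (f514701 IH) (Lpr_gf (f672966 IH) (Lpn v8964)))))))))))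
def v10945 : LQ := Led Lsl_gf v3559
theorem f682631 : Led Lsl_gf v3559 = v10945 :=
  Lrfl
theorem f792091 : Led Lsl_df v10945 = v21092 :=
  Lgr Lrot155 (Lpe (f682631 IH) (Lpr_ct (f672967 IH) (Lpe (f672966 IH) (Lpe (f514698 IH) (Lpe (K29.f490827 IH) (Lpe (f106242 IH) (Lpe (f92268 IH) (Lpr_cf (f676749 IH) (Lpq (f790107 IH) (Lpr_gf (f792089 IH) (Lpn v21092)))))))))))
theorem f792126 : v6974 = v10945 :=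
  (Llr Lrot117 (Lpe (f659738 IH) (Lpr_dt (f659739 IH) (Lpqs (f792114 IH) (Lpr_at (f792085 IH) (Lpe (f792091 IH) (Lpn v10945))))))).symm
theorem f685875 : Led Lsl_bf v10945 = v7770 :=
  Lgr Lrot156 (Lpe (f682631 IH) (Lpe (f626264 IH) (Lpr_ct (f626266 IH) (Lpr_gt (f668354 IH) (Lpr_cf (f685872 IH) (Lpe (f685871 IH) (Lpe (f627748 IH) (Lpr_ct (f535559 IH) (Lpr_gt (f676641 IH) (Lpr_cf (f685873 IH) (Lpn v7770)))))))))))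
theorem f685876 : Led Lsl_bt v10945 = v7770 :=
  Lgr Lrot127 (Lpr_bf (f685875 IH) (Lpn v7770))
theorem f792127 : Led Lsl_ff (LP (LK LD1_c7 LD2_c11 LD3_c30)) = v7770 :=
  Lgr Lrot25 (Lpr_bt (f792082 IH) (Lpe (f792086 IH) (Lpqs (f792126 IH) (Lpr_bt (f685876 IH) (Lpn v7770)))))
def v6964 : LQ := Led Lsl_gf (LP (LK LD1_c3 LD2_c35 LD3_c15))
theorem f659694 : Led Lsl_gf (LP (LK LD1_c3 LD2_c35 LD3_c15)) = v6964 :=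
  Lrfl
theorem f792130 : Led Lsl_gf v6964 = v7770 :=
  Lgr Lrot47 (Lpe (f659694 IH) (Lpe (f519503 IH) (Lpr_ff (f792127 IH) (Lpn v7770))))
def v7776 : LQ := Led Lsl_ft (LP (LK LD1_c3 LD2_c56 LD3_c50))
theorem f668339 : Led Lsl_ft (LP (LK LD1_c3 LD2_c56 LD3_c50)) = v7776 :=
  Lrfl
theorem f792131 : Led Lsl_af v6964 = v7776 :=
  Lgr Lrot31 (Lpr_gf (f792130 IH) (Lpe (f668324 IH) (Lpr_ft (f668339 IH) (Lpn v7776))))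
def v7772 : LQ := Led Lsl_at (LP (LK LD1_c3 LD2_c56 LD3_c50))
theorem f668326 : Led Lsl_at (LP (LK LD1_c3 LD2_c56 LD3_c50)) = v7772 :=
  Lrfl
theorem f668327 : Led Lsl_af (LP (LK LD1_c3 LD2_c56 LD3_c50)) = v7772 :=
  Lgr Lrot0 (Lpr_at (f668326 IH) (Lpn v7772))
theorem f792133 : Led Lsl_ft v6964 = v7772 :=
  Lgr Lrot101 (Lpr_af (f792131 IH) (Lpe (f668339 IH) (Lpr_af (f668327 IH) (Lpn v7772))))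
theorem f792155 : v6963 = (LP (LK LD1_c3 LD2_c56 LD3_c50)) :=
  (Llr Lrot46 (Lpe (f659693 IH) (Lpr_gf (f659694 IH) (Lpr_ft (f792133 IH) (Lpe (f668327 IH) (Lpn (LP (LK LD1_c3 LD2_c56 LD3_c50)))))))).symm
theorem f792157 : Led Lsl_gt (LP (LK LD1_c3 LD2_c35 LD3_c15)) = (LP (LK LD1_c3 LD2_c56 LD3_c50)) :=
  Leop (Lpq (f792155 IH) (Lpe (f659693 IH) (Lpn (LP (LK LD1_c3 LD2_c35 LD3_c15)))))
theorem seed_1584 : LEOK LG_g (LK LD1_c3 LD2_c35 LD3_c15) :=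
  Leoe_g (LK LD1_c3 LD2_c35 LD3_c15) (f792157 IH)
def v21102 : LQ := Led Lsl_ct (LP (LK LD1_c7 LD2_c11 LD3_c33))
theorem f792189 : Led Lsl_ct (LP (LK LD1_c7 LD2_c11 LD3_c33)) = v21102 :=
  Lrfl
theorem f792191 : Led Lsl_cf (LP (LK LD1_c7 LD2_c11 LD3_c33)) = v21102 :=
  Lgr Lrot11 (Lpr_ct (f792189 IH) (Lpn v21102))
theorem f429604 : Led Lsl_ct (LP (LK LD1_c3 LD2_c35 LD3_c16)) = (LP (LK LD1_c1 LD2_c44 LD3_c26)) :=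
  Lre_c IH (LK LD1_c3 LD2_c35 LD3_c16) (LK LD1_c1 LD2_c44 LD3_c26) Lrfl Lrfl
theorem f429605 : Led Lsl_bt (LP (LK LD1_c3 LD2_c35 LD3_c16)) = (LP (LK LD1_c7 LD2_c11 LD3_c33)) :=
  Lre_b IH (LK LD1_c3 LD2_c35 LD3_c16) (LK LD1_c7 LD2_c11 LD3_c33) Lrfl Lrfl
theorem f429606 : Led Lsl_gt (LP (LK LD1_c7 LD2_c11 LD3_c33)) = (LP (LK LD1_c13 LD2_c27 LD3_c24)) :=
  Lgr Lrot82 (Lpe (f429605 IH) (Lpr_ct (f429604 IH) (Lpe (K47.f11482 IH) (Lpe (K47.f107803 IH) (Lpr_bt (K47.f106493 IH) (Lpe (K29.f106019 IH) (Lpe (K60.f106032 IH) (Lpr_ct (K29.f429068 IH) (Lpe (K60.f134861 IH) (Lpe (K60.f429602 IH) (Lpn (LP (LK LD1_c13 LD2_c27 LD3_c24)))))))))))))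
theorem f429617 : Led Lsl_cf (LP (LK LD1_c13 LD2_c27 LD3_c24)) = (LP (LK LD1_c7 LD2_c20 LD3_c54)) :=
  Lgr Lrot11 (Lpr_ct (K60.f429602 IH) (Lpn (LP (LK LD1_c7 LD2_c20 LD3_c54))))
theorem f429619 : Led Lsl_gt (LP (LK LD1_c13 LD2_c53 LD3_c43)) = (LP (LK LD1_c23 LD2_c23 LD3_c50)) :=
  Lre_g IH (LK LD1_c13 LD2_c53 LD3_c43) (LK LD1_c23 LD2_c23 LD3_c50) Lrfl Lrfl
theorem f659696 : Led Lsl_cf (LP (LK LD1_c3 LD2_c35 LD3_c15)) = v6965 :=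
  Lgr Lrot11 (Lpr_ct (f659695 IH) (Lpn v6965))
theorem f792190 : Led Lsl_bf v6965 = v21102 :=
  Lgr Lrot90 (Lpe (f659696 IH) (Lpr_bt (f11483 IH) (Lpr_ct (K47.f11487 IH) (Lpr_bt (f429605 IH) (Lpr_ct (f792189 IH) (Lpn v21102))))))
theorem f627747 : Led Lsl_gf v2257 = v3887 :=
  Lgr Lrot76 (Lpe (f511294 IH) (Lpr_ff (f491504 IH) (Lpr_gt (f627746 IH) (Lpn v3887))))
theorem f659697 : Led Lsl_gt v6659 = v6965 :=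
  Lgr Lrot65 (Lpe (f657515 IH) (Lpe (f511296 IH) (Lpr_gf (f627747 IH) (Lpr_bf (f659538 IH) (Lpe (f659535 IH) (Lpr_gf (K47.f659507 IH) (Lpe (f659503 IH) (Lpe (K47.f519488 IH) (Lpe (f11483 IH) (Lpr_ct (f659695 IH) (Lpn v6965)))))))))))
def v20225 : LQ := Led Lsl_at (LP (LK LD1_c6 LD2_c52 LD3_c29))
theorem f785789 : Led Lsl_at (LP (LK LD1_c6 LD2_c52 LD3_c29)) = v20225 :=
  Lrfl
theorem f21142 : Led Lsl_at (LP (LK LD1_c1 LD2_c39 LD3_c7)) = (LP (LK LD1_c3 LD2_c25 LD3_c4)) :=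
  Lre_a IH (LK LD1_c1 LD2_c39 LD3_c7) (LK LD1_c3 LD2_c25 LD3_c4) Lrfl Lrfl
theorem f657513 : Led Lsl_af (LP (LK LD1_c3 LD2_c25 LD3_c12)) = v6659 :=
  Lgr Lrot0 (Lpr_at (f657512 IH) (Lpn v6659))
theorem f785791 : Led Lsl_bf v6659 = v20225 :=
  Lgr Lrot81 (Lpe (f657513 IH) (Lpr_bt (f106919 IH) (Lpr_at (f21142 IH) (Lpr_bt (K5.f134860 IH) (Lpr_at (f785789 IH) (Lpn v20225))))))
theorem f785790 : Led Lsl_af (LP (LK LD1_c6 LD2_c52 LD3_c29)) = v20225 :=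
  Lgr Lrot0 (Lpr_at (f785789 IH) (Lpn v20225))
theorem f785792 : Led Lsl_cf v20225 = v20225 :=
  Lgr Lrot1 (Lpe (f785790 IH) (Lpe (K5.f134927 IH) (Lpr_at (f785789 IH) (Lpn v20225))))
theorem f131050 : Led Lsl_gt (LP (LK LD1_c7 LD2_c26 LD3_c15)) = (LP (LK LD1_c14 LD2_c3 LD3_c31)) :=
  Lre_g IH (LK LD1_c7 LD2_c26 LD3_c15) (LK LD1_c14 LD2_c3 LD3_c31) Lrfl Lrfl
theorem f785793 : Led Lsl_gt (LP (LK LD1_c14 LD2_c3 LD3_c31)) = v20225 :=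
  Lgr Lrot46 (Lpe (f131050 IH) (Lpr_ft (K5.f134925 IH) (Lpr_at (f785789 IH) (Lpn v20225))))
theorem f792195 : Led Lsl_ct (LP (LK LD1_c23 LD2_c23 LD3_c50)) = (LP (LK LD1_c14 LD2_c3 LD3_c31)) :=
  Lgr Lrot91 (Lpe (f429619 IH) (Lpe (K60.f429614 IH) (Lpe (f429617 IH) (Lpe (f429606 IH) (Lpr_cf (f792191 IH) (Lpe (f792190 IH) (Lpe (f659697 IH) (Lpr_bf (f785791 IH) (Lpe (f785792 IH) (Lpe (f785793 IH) (Lpn (LP (LK LD1_c14 LD2_c3 LD3_c31)))))))))))))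
theorem f792196 : Led Lsl_ct (LP (LK LD1_c23 LD2_c23 LD3_c50)) = (LP (LK LD1_c14 LD2_c3 LD3_c31)) :=
  Leop (Lpe (f792195 IH) (Lpn (LP (LK LD1_c23 LD2_c23 LD3_c50))))
theorem seed_1585 : LEOK LG_c (LK LD1_c23 LD2_c23 LD3_c50) :=
  Leoe_c (LK LD1_c23 LD2_c23 LD3_c50) (f792196 IH)
theorem f429608 : Led Lsl_gt (LP (LK LD1_c13 LD2_c37 LD3_c30)) = (LP (LK LD1_c7 LD2_c11 LD3_c33)) :=
  Lre_g IH (LK LD1_c13 LD2_c37 LD3_c30) (LK LD1_c7 LD2_c11 LD3_c33) Lrfl Lrfl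
theorem f121394 : Led Lsl_gt (LP (LK LD1_c3 LD2_c40 LD3_c22)) = (LP (LK LD1_c7 LD2_c20 LD3_c53)) :=
  Lre_g IH (LK LD1_c3 LD2_c40 LD3_c22) (LK LD1_c7 LD2_c20 LD3_c53) Lrfl Lrfl
theorem f792197 : Led Lsl_cf (LP (LK LD1_c13 LD2_c37 LD3_c30)) = (LP (LK LD1_c7 LD2_c20 LD3_c53)) :=
  Lgr Lrot125 (Lpr_gt (f429608 IH) (Lpr_cf (f792191 IH) (Lpe (f792190 IH) (Lpe (f659698 IH) (Lpe (f535555 IH) (Lpr_ct (K5.f25749 IH) (Lpe (K5.f135043 IH) (Lpe (K5.f106791 IH) (Lpr_bt (K60.f121393 IH) (Lpr_gt (f121394 IH) (Lpn (LP (LK LD1_c7 LD2_c20 LD3_c53)))))))))))))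
theorem f792198 : Led Lsl_ct (LP (LK LD1_c7 LD2_c20 LD3_c53)) = (LP (LK LD1_c13 LD2_c37 LD3_c30)) :=
  Leop (Lpr_cf (f792197 IH) (Lpn (LP (LK LD1_c7 LD2_c20 LD3_c53))))
theorem seed_1586 : LEOK LG_c (LK LD1_c7 LD2_c20 LD3_c53) :=
  Leoe_c (LK LD1_c7 LD2_c20 LD3_c53) (f792198 IH)
def v21108 : LQ := Led Lsl_ft (LP (LK LD1_c7 LD2_c11 LD3_c34))
theorem f792227 : Led Lsl_ft (LP (LK LD1_c7 LD2_c11 LD3_c34)) = v21108 :=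
  Lrfl
def v21105 : LQ := Led Lsl_gt (LP (LK LD1_c7 LD2_c11 LD3_c34))
theorem f792212 : Led Lsl_gt (LP (LK LD1_c7 LD2_c11 LD3_c34)) = v21105 :=
  Lrfl
def v21107 : LQ := Led Lsl_at (LP (LK LD1_c7 LD2_c11 LD3_c34))
theorem f792217 : Led Lsl_at (LP (LK LD1_c7 LD2_c11 LD3_c34)) = v21107 :=
  Lrfl
theorem f792218 : Led Lsl_af (LP (LK LD1_c7 LD2_c11 LD3_c34)) = v21107 :=
  Lgr Lrot0 (Lpr_at (f792217 IH) (Lpn v21107))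
theorem f519513 : Led Lsl_dt (LP (LK LD1_c3 LD2_c35 LD3_c16)) = (LP (LK LD1_c7 LD2_c11 LD3_c34)) :=
  Lre_d IH (LK LD1_c3 LD2_c35 LD3_c16) (LK LD1_c7 LD2_c11 LD3_c34) Lrfl Lrfl
theorem f792219 : Led Lsl_df K47.v6969 = v21107 :=
  Lgr Lrot18 (Lpe (K47.f659712 IH) (Lpr_dt (f519513 IH) (Lpr_at (f792217 IH) (Lpn v21107))))
theorem f659717 : Led Lsl_ff (LP (LK LD1_c3 LD2_c35 LD3_c18)) = K47.v6969 :=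
  Lgr Lrot3 (Lpr_ft (K47.f659716 IH) (Lpn K47.v6969))
theorem f519497 : Led Lsl_dt (LP (LK LD1_c3 LD2_c35 LD3_c18)) = (LP (LK LD1_c7 LD2_c11 LD3_c37)) :=
  Lre_d IH (LK LD1_c3 LD2_c35 LD3_c18) (LK LD1_c7 LD2_c11 LD3_c37) Lrfl Lrfl
theorem f792221 : Led Lsl_ft (LP (LK LD1_c7 LD2_c11 LD3_c37)) = v21107 :=
  Lgr Lrot54 (Lpe (f519497 IH) (Lpr_ff (f659717 IH) (Lpr_df (f792219 IH) (Lpn v21107))))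
theorem f792228 : Led Lsl_af (LP (LK LD1_c7 LD2_c11 LD3_c37)) = v21108 :=
  Lgr Lrot45 (Lpr_ft (f792221 IH) (Lpe (f792218 IH) (Lpr_ft (f792227 IH) (Lpn v21108))))
theorem f792232 : Led Lsl_gt v21105 = (LP (LK LD1_c7 LD2_c11 LD3_c37)) :=
  Lgr Lrot46 (Lpe (f792212 IH) (Lpr_ft (f792227 IH) (Lpe (f792228 IH) (Lpn (LP (LK LD1_c7 LD2_c11 LD3_c37))))))
theorem f519499 : Led Lsl_dt (LP (LK LD1_c7 LD2_c11 LD3_c37)) = (LP (LK LD1_c3 LD2_c35 LD3_c18)) :=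
  Lre_d IH (LK LD1_c7 LD2_c11 LD3_c37) (LK LD1_c3 LD2_c35 LD3_c18) Lrfl Lrfl
def v3341 : LQ := Led Lsl_ct K49.v731
theorem f625223 : Led Lsl_ct K49.v731 = v3341 :=
  Lrfl
theorem f625224 : Led Lsl_cf K49.v731 = v3341 :=
  Lgr Lrot11 (Lpr_ct (f625223 IH) (Lpn v3341))
def v10450 : LQ := Led Lsl_gt v3341
theorem f680427 : Led Lsl_gt v3341 = v10450 :=
  Lrfl
theorem f792233 : Led Lsl_df v21105 = v10450 :=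
  Lgr Lrot153 (Lpr_gt (f792232 IH) (Lpr_dt (f519499 IH) (Lpe (K47.f107884 IH) (Lpr_df (f519522 IH) (Lpq (f787444 IH) (Lpq (f792113 IH) (Lpr_gf (f673329 IH) (Lpqs (f792107 IH) (Lpq (f787446 IH) (Lpr_df (K49.f519532 IH) (Lpe (K49.f519538 IH) (Lpr_cf (f625224 IH) (Lpr_gt (f680427 IH) (Lpn v10450))))))))))))))
def v10455 : LQ := Led Lsl_ft v3341
theorem f680438 : Led Lsl_ft v3341 = v10455 :=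
  Lrfl
def v10440 : LQ := Led Lsl_ct K49.v3339
theorem f680391 : Led Lsl_ct K49.v3339 = v10440 :=
  Lrfl
theorem f680392 : Led Lsl_af v3341 = v10440 :=
  Lgr Lrot68 (Lpe (f625224 IH) (Lpr_at (K49.f625217 IH) (Lpr_ct (f680391 IH) (Lpn v10440))))
def v3346 : LQ := Led Lsl_ct K49.v732
theorem f625235 : Led Lsl_ct K49.v732 = v3346 :=
  Lrfl
theorem f625236 : Led Lsl_cf K49.v732 = v3346 :=
  Lgr Lrot11 (Lpr_ct (f625235 IH) (Lpn v3346))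
theorem f680394 : Led Lsl_ff v3346 = v10440 :=
  Lgr Lrot23 (Lpe (f625236 IH) (Lpr_ft (K49.f625219 IH) (Lpr_ct (f680391 IH) (Lpn v10440))))
theorem f680395 : Led Lsl_ft v3346 = v10440 :=
  Lgr Lrot48 (Lpr_ff (f680394 IH) (Lpn v10440))
theorem f680439 : Led Lsl_af v3346 = v10455 :=
  Lgr Lrot45 (Lpr_ft (f680395 IH) (Lpe (f680392 IH) (Lpr_ft (f680438 IH) (Lpn v10455))))
theorem f680442 : Led Lsl_gt v10450 = v3346 :=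
  Lgr Lrot46 (Lpe (f680427 IH) (Lpr_ft (f680438 IH) (Lpe (f680439 IH) (Lpn v3346))))
theorem f10980 : Led Lsl_ct (LP (LK LD1_c7 LD2_c16 LD3_c10)) = (LP (LK LD1_c3 LD2_c37 LD3_c53)) :=
  Lre_c IH (LK LD1_c7 LD2_c16 LD3_c10) (LK LD1_c3 LD2_c37 LD3_c53) Lrfl Lrfl
theorem f519523 : Led Lsl_ct (LP (LK LD1_c7 LD2_c11 LD3_c37)) = (LP (LK LD1_c13 LD2_c37 LD3_c38)) :=
  Lre_c IH (LK LD1_c7 LD2_c11 LD3_c37) (LK LD1_c13 LD2_c37 LD3_c38) Lrfl Lrfl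
theorem f792234 : Led Lsl_gf (LP (LK LD1_c7 LD2_c16 LD3_c10)) = (LP (LK LD1_c13 LD2_c37 LD3_c38)) :=
  Lgr Lrot172 (Lpr_ct (f10980 IH) (Lpr_dt (f10962 IH) (Lpe (K49.f10950 IH) (Lpr_gf (K49.f456974 IH) (Lpr_cf (f625236 IH) (Lpe (f680442 IH) (Lpe (f792233 IH) (Lpr_gt (f792232 IH) (Lpr_ct (f519523 IH) (Lpn (LP (LK LD1_c13 LD2_c37 LD3_c38))))))))))))
theorem f792235 : Led Lsl_gt (LP (LK LD1_c13 LD2_c37 LD3_c38)) = (LP (LK LD1_c7 LD2_c16 LD3_c10)) :=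
  Leop (Lpr_gf (f792234 IH) (Lpn (LP (LK LD1_c13 LD2_c37 LD3_c38))))
theorem seed_1587 : LEOK LG_g (LK LD1_c13 LD2_c37 LD3_c38) :=
  Leoe_g (LK LD1_c13 LD2_c37 LD3_c38) (f792235 IH)
def v21127 : LQ := Led Lsl_ct (LP (LK LD1_c7 LD2_c11 LD3_c49))
theorem f792328 : Led Lsl_ct (LP (LK LD1_c7 LD2_c11 LD3_c49)) = v21127 :=
  Lrfl
theorem f792330 : Led Lsl_cf (LP (LK LD1_c7 LD2_c11 LD3_c49)) = v21127 :=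
  Lgr Lrot11 (Lpr_ct (f792328 IH) (Lpn v21127))
theorem f432948 : Led Lsl_gt (LP (LK LD1_c13 LD2_c37 LD3_c59)) = (LP (LK LD1_c7 LD2_c11 LD3_c49)) :=
  Lre_g IH (LK LD1_c13 LD2_c37 LD3_c59) (LK LD1_c7 LD2_c11 LD3_c49) Lrfl Lrfl
theorem f432936 : Led Lsl_bt (LP (LK LD1_c3 LD2_c35 LD3_c28)) = (LP (LK LD1_c7 LD2_c11 LD3_c49)) :=
  Lre_b IH (LK LD1_c3 LD2_c35 LD3_c28) (LK LD1_c7 LD2_c11 LD3_c49) Lrfl Lrfl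
theorem f126108 : Led Lsl_af (LP (LK LD1_c1 LD2_c27 LD3_c11)) = (LP (LK LD1_c0 LD2_c44 LD3_c28)) :=
  Lgr Lrot45 (Lpe (K4.f113945 IH) (Lpr_at (K4.f113949 IH) (Lpr_ft (K5.f126106 IH) (Lpn (LP (LK LD1_c0 LD2_c44 LD3_c28))))))
theorem f432871 : Led Lsl_df (LP (LK LD1_c3 LD2_c35 LD3_c28)) = (LP (LK LD1_c7 LD2_c4 LD3_c9)) :=
  Lgr Lrot38 (Lpr_dt (K34.f432838 IH) (Lpn (LP (LK LD1_c7 LD2_c4 LD3_c9))))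
theorem f434187 : Led Lsl_ct (LP (LK LD1_c3 LD2_c35 LD3_c28)) = (LP (LK LD1_c3 LD2_c34 LD3_c25)) :=
  Lgr Lrot53 (Lpr_df (f432871 IH) (Lpr_cf (K6.f143304 IH) (Lpe (K5.f64530 IH) (Lpe (K5.f64499 IH) (Lpe (K1.f61983 IH) (Lpr_ft (K5.f126106 IH) (Lpe (f126108 IH) (Lpr_cf (K3.f106709 IH) (Lpr_df (K59.f434183 IH) (Lpn (LP (LK LD1_c3 LD2_c34 LD3_c25))))))))))))
theorem f434190 : Led Lsl_cf (LP (LK LD1_c3 LD2_c35 LD3_c28)) = (LP (LK LD1_c3 LD2_c34 LD3_c25)) :=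
  Lgr Lrot11 (Lpr_ct (f434187 IH) (Lpn (LP (LK LD1_c3 LD2_c34 LD3_c25))))
def v2471 : LQ := Led Lsl_dt (LP (LK LD1_c1 LD2_c45 LD3_c58))
theorem f522486 : Led Lsl_dt (LP (LK LD1_c1 LD2_c45 LD3_c58)) = v2471 :=
  Lrfl
theorem f522488 : Led Lsl_bf (LP (LK LD1_c3 LD2_c34 LD3_c25)) = v2471 :=
  Lgr Lrot93 (Lpe (K59.f434183 IH) (Lpe (K3.f106717 IH) (Lpr_dt (f522486 IH) (Lpn v2471))))
def v6654 : LQ := Led Lsl_gt (LP (LK LD1_c3 LD2_c25 LD3_c9))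
theorem f657493 : Led Lsl_gt (LP (LK LD1_c3 LD2_c25 LD3_c9)) = v6654 :=
  Lrfl
theorem f143235 : Led Lsl_dt (LP (LK LD1_c3 LD2_c25 LD3_c9)) = (LP (LK LD1_c6 LD2_c52 LD3_c34)) :=
  Lre_d IH (LK LD1_c3 LD2_c25 LD3_c9) (LK LD1_c6 LD2_c52 LD3_c34) Lrfl Lrfl
theorem f430520 : Led Lsl_gf (LP (LK LD1_c12 LD2_c58 LD3_c49)) = (LP (LK LD1_c12 LD2_c30 LD3_c43)) :=
  Lgr Lrot143 (Lpr_dt (K11.f430519 IH) (Lpe (K11.f84527 IH) (Lpr_df (K11.f430492 IH) (Lpe (K6.f21048 IH) (Lpe (K7.f134883 IH) (Lpr_gf (K5.f121391 IH) (Lpe (K3.f87489 IH) (Lpr_gt (K7.f153378 IH) (Lpr_dt (K7.f134866 IH) (Lpn (LP (LK LD1_c12 LD2_c30 LD3_c43))))))))))))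
theorem f432180 : Led Lsl_dt (LP (LK LD1_c12 LD2_c58 LD3_c56)) = (LP (LK LD1_c6 LD2_c48 LD3_c7)) :=
  Lre_d IH (LK LD1_c12 LD2_c58 LD3_c56) (LK LD1_c6 LD2_c48 LD3_c7) Lrfl Lrfl
theorem f448518 : Led Lsl_ff (LP (LK LD1_c6 LD2_c26 LD3_c19)) = (LP (LK LD1_c6 LD2_c48 LD3_c7)) :=
  Lgr Lrot19 (Lpr_dt (K50.f431029 IH) (Lpr_ft (K50.f448516 IH) (Lpr_dt (f432180 IH) (Lpn (LP (LK LD1_c6 LD2_c48 LD3_c7))))))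
theorem f448536 : Led Lsl_at (LP (LK LD1_c6 LD2_c26 LD3_c19)) = (LP (LK LD1_c6 LD2_c48 LD3_c6)) :=
  Lgr Lrot66 (Lpr_ff (f448518 IH) (Lpe (K50.f448505 IH) (Lpr_ff (K50.f448107 IH) (Lpn (LP (LK LD1_c6 LD2_c48 LD3_c6))))))
theorem f155072 : Led Lsl_dt (LP (LK LD1_c3 LD2_c34 LD3_c24)) = (LP (LK LD1_c1 LD2_c43 LD3_c60)) :=
  Lre_d IH (LK LD1_c3 LD2_c34 LD3_c24) (LK LD1_c1 LD2_c43 LD3_c60) Lrfl Lrfl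
theorem f448095 : Led Lsl_df (LP (LK LD1_c6 LD2_c26 LD3_c18)) = (LP (LK LD1_c3 LD2_c25 LD3_c3)) :=
  Lgr Lrot12 (Lpr_bt (K11.f448089 IH) (Lpr_dt (f155072 IH) (Lpr_bt (K7.f155075 IH) (Lpn (LP (LK LD1_c3 LD2_c25 LD3_c3))))))
theorem f433023 : Led Lsl_ct (LP (LK LD1_c3 LD2_c25 LD3_c19)) = (LP (LK LD1_c1 LD2_c39 LD3_c16)) :=
  Lre_c IH (LK LD1_c3 LD2_c25 LD3_c19) (LK LD1_c1 LD2_c39 LD3_c16) Lrfl Lrfl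
theorem f433024 : Led Lsl_dt (LP (LK LD1_c6 LD2_c52 LD3_c52)) = (LP (LK LD1_c3 LD2_c25 LD3_c19)) :=
  Lre_d IH (LK LD1_c6 LD2_c52 LD3_c52) (LK LD1_c3 LD2_c25 LD3_c19) Lrfl Lrfl
theorem f448538 : Led Lsl_cf (LP (LK LD1_c6 LD2_c52 LD3_c52)) = (LP (LK LD1_c12 LD2_c58 LD3_c56)) :=
  Lgr Lrot118 (Lpr_dt (f433024 IH) (Lpr_ct (f433023 IH) (Lpe (K11.f433021 IH) (Lpr_ct (K5.f21066 IH) (Lpe (f448095 IH) (Lpr_ct (K11.f448097 IH) (Lpe (f448536 IH) (Lpr_ff (f448518 IH) (Lpr_dt (K50.f432176 IH) (Lpn (LP (LK LD1_c12 LD2_c58 LD3_c56))))))))))))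
theorem f19770 : Led Lsl_ct (LP (LK LD1_c1 LD2_c39 LD3_c16)) = (LP (LK LD1_c3 LD2_c25 LD3_c19)) :=
  Lre_c IH (LK LD1_c1 LD2_c39 LD3_c16) (LK LD1_c3 LD2_c25 LD3_c19) Lrfl Lrfl
theorem f12175 : Led Lsl_gt (LP (LK LD1_c3 LD2_c25 LD3_c21)) = (LP (LK LD1_c1 LD2_c39 LD3_c17)) :=
  Lre_g IH (LK LD1_c3 LD2_c25 LD3_c21) (LK LD1_c1 LD2_c39 LD3_c17) Lrfl Lrfl
theorem f448540 : Led Lsl_dt (LP (LK LD1_c3 LD2_c25 LD3_c21)) = (LP (LK LD1_c6 LD2_c52 LD3_c56)) :=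
  Lre_d IH (LK LD1_c3 LD2_c25 LD3_c21) (LK LD1_c6 LD2_c52 LD3_c56) Lrfl Lrfl
theorem f156304 : Led Lsl_gf (LP (LK LD1_c1 LD2_c26 LD3_c30)) = (LP (LK LD1_c1 LD2_c43 LD3_c54)) :=
  Lgr Lrot144 (Lpe (K5.f134873 IH) (Lpr_gt (K5.f121397 IH) (Lpr_dt (K7.f95778 IH) (Lpe (K3.f95757 IH) (Lpe (K3.f95783 IH) (Lpr_gf (K5.f120889 IH) (Lpr_df (K7.f156299 IH) (Lpe (K7.f156127 IH) (Lpe (K7.f156303 IH) (Lpn (LP (LK LD1_c1 LD2_c43 LD3_c54))))))))))))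
theorem f86353 : Led Lsl_dt (LP (LK LD1_c9 LD2_c33 LD3_c2)) = (LP (LK LD1_c4 LD2_c50 LD3_c22)) :=
  Lre_d IH (LK LD1_c9 LD2_c33 LD3_c2) (LK LD1_c4 LD2_c50 LD3_c22) Lrfl Lrfl
theorem f432177 : Led Lsl_gt (LP (LK LD1_c12 LD2_c58 LD3_c56)) = (LP (LK LD1_c9 LD2_c33 LD3_c2)) :=
  Lgr Lrot49 (Lpe (K50.f432176 IH) (Lpr_gf (K50.f432174 IH) (Lpe (K11.f126868 IH) (Lpe (K7.f153272 IH) (Lpe (K11.f156337 IH) (Lpe (f156304 IH) (Lpe (K5.f134873 IH) (Lpe (K11.f86352 IH) (Lpe (f86353 IH) (Lpn (LP (LK LD1_c9 LD2_c33 LD3_c2))))))))))))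
theorem f135058 : Led Lsl_af (LP (LK LD1_c9 LD2_c33 LD3_c2)) = (LP (LK LD1_c6 LD2_c52 LD3_c42)) :=
  Lgr Lrot68 (Lpr_ct (K5.f135055 IH) (Lpr_at (K5.f134671 IH) (Lpr_ct (K5.f21132 IH) (Lpn (LP (LK LD1_c6 LD2_c52 LD3_c42))))))
theorem f106040 : Led Lsl_ct (LP (LK LD1_c3 LD2_c56 LD3_c48)) = (LP (LK LD1_c7 LD2_c55 LD3_c20)) :=
  Lre_c IH (LK LD1_c3 LD2_c56 LD3_c48) (LK LD1_c7 LD2_c55 LD3_c20) Lrfl Lrfl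
theorem f134994 : Led Lsl_ff (LP (LK LD1_c6 LD2_c52 LD3_c42)) = (LP (LK LD1_c7 LD2_c55 LD3_c20)) :=
  Lgr Lrot23 (Lpr_ct (K5.f21075 IH) (Lpr_ft (K5.f134991 IH) (Lpr_ct (f106040 IH) (Lpn (LP (LK LD1_c7 LD2_c55 LD3_c20))))))
theorem f432181 : Led Lsl_gf (LP (LK LD1_c12 LD2_c58 LD3_c56)) = (LP (LK LD1_c7 LD2_c55 LD3_c20)) :=
  Lgr Lrot47 (Lpr_gt (f432177 IH) (Lpr_af (f135058 IH) (Lpr_ff (f134994 IH) (Lpn (LP (LK LD1_c7 LD2_c55 LD3_c20))))))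
theorem f448541 : Led Lsl_gt (LP (LK LD1_c6 LD2_c52 LD3_c56)) = (LP (LK LD1_c3 LD2_c56 LD3_c48)) :=
  Lgr Lrot9 (Lpe (f448540 IH) (Lpr_gt (f12175 IH) (Lpr_ct (K47.f12172 IH) (Lpr_gt (K11.f19769 IH) (Lpr_ct (f19770 IH) (Lpe (f433024 IH) (Lpr_cf (f448538 IH) (Lpr_gf (f432181 IH) (Lpe (f106040 IH) (Lpn (LP (LK LD1_c3 LD2_c56 LD3_c48))))))))))))
theorem f106039 : Led Lsl_ct (LP (LK LD1_c7 LD2_c55 LD3_c20)) = (LP (LK LD1_c3 LD2_c56 LD3_c48)) :=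
  Lre_c IH (LK LD1_c7 LD2_c55 LD3_c20) (LK LD1_c3 LD2_c56 LD3_c48) Lrfl Lrfl
theorem f135051 : Led Lsl_dt (LP (LK LD1_c6 LD2_c9 LD3_c19)) = (LP (LK LD1_c7 LD2_c55 LD3_c20)) :=
  Lgr Lrot32 (Lpe (K5.f21117 IH) (Lpe (K5.f21116 IH) (Lpr_ft (K5.f21119 IH) (Lpr_at (K5.f21054 IH) (Lpe (K5.f21043 IH) (Lpr_df (K5.f135047 IH) (Lpe (K5.f25749 IH) (Lpe (K5.f25750 IH) (Lpe (f106039 IH) (Lpn (LP (LK LD1_c7 LD2_c55 LD3_c20))))))))))))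
theorem f448545 : Led Lsl_cf (LP (LK LD1_c6 LD2_c52 LD3_c56)) = (LP (LK LD1_c12 LD2_c58 LD3_c49)) :=
  Lgr Lrot169 (Lpr_gt (f448541 IH) (Lpr_ct (f106040 IH) (Lpe (f135051 IH) (Lpe (K5.f21117 IH) (Lpe (K5.f134858 IH) (Lpe (K3.f95809 IH) (Lpe (K7.f95816 IH) (Lpe (K7.f95952 IH) (Lpe (f430520 IH) (Lpn (LP (LK LD1_c12 LD2_c58 LD3_c49))))))))))))
theorem f432506 : Led Lsl_dt (LP (LK LD1_c6 LD2_c52 LD3_c56)) = (LP (LK LD1_c3 LD2_c25 LD3_c21)) :=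
  Lre_d IH (LK LD1_c6 LD2_c52 LD3_c56) (LK LD1_c3 LD2_c25 LD3_c21) Lrfl Lrfl
def v667 : LQ := Led Lsl_dt (LP (LK LD1_c0 LD2_c48 LD3_c31))
theorem f455872 : Led Lsl_dt (LP (LK LD1_c0 LD2_c48 LD3_c31)) = v667 :=
  Lrfl
theorem f153267 : Led Lsl_ct (LP (LK LD1_c6 LD2_c48 LD3_c5)) = (LP (LK LD1_c3 LD2_c22 LD3_c14)) :=
  Lre_c IH (LK LD1_c6 LD2_c48 LD3_c5) (LK LD1_c3 LD2_c22 LD3_c14) Lrfl Lrfl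
theorem f153270 : Led Lsl_dt (LP (LK LD1_c12 LD2_c58 LD3_c52)) = (LP (LK LD1_c6 LD2_c48 LD3_c5)) :=
  Lre_d IH (LK LD1_c12 LD2_c58 LD3_c52) (LK LD1_c6 LD2_c48 LD3_c5) Lrfl Lrfl
theorem f448616 : Led Lsl_dt (LP (LK LD1_c3 LD2_c31 LD3_c61)) = (LP (LK LD1_c3 LD2_c37 LD3_c43)) :=
  Lgr Lrot42 (Lpr_df (K11.f448612 IH) (Lpn (LP (LK LD1_c3 LD2_c37 LD3_c43))))
theorem f448550 : Led Lsl_ct (LP (LK LD1_c6 LD2_c52 LD3_c56)) = (LP (LK LD1_c12 LD2_c58 LD3_c49)) :=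
  Lgr Lrot59 (Lpr_cf (f448545 IH) (Lpn (LP (LK LD1_c12 LD2_c58 LD3_c49))))
theorem f455874 : Led Lsl_cf (LP (LK LD1_c3 LD2_c25 LD3_c21)) = v667 :=
  Lgr Lrot55 (Lpr_dt (f448540 IH) (Lpr_ct (f448550 IH) (Lpr_dt (K11.f430519 IH) (Lpr_ct (K11.f430489 IH) (Lpr_dt (K48.f430515 IH) (Lpe (K7.f153392 IH) (Lpr_dt (f448616 IH) (Lpe (K11.f448627 IH) (Lpr_dt (K7.f84818 IH) (Lpe (K7.f153293 IH) (Lpr_dt (f153270 IH) (Lpr_ct (f153267 IH) (Lpe (K11.f156337 IH) (Lpr_ct (K7.f156303 IH) (Lpr_dt (f455872 IH) (Lpn v667))))))))))))))))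
theorem f455875 : Led Lsl_df (LP (LK LD1_c0 LD2_c48 LD3_c31)) = v667 :=
  Lgr Lrot38 (Lpr_dt (f455872 IH) (Lpn v667))
theorem f522491 : Led Lsl_gf v667 = v2471 :=
  Lgr Lrot143 (Lpe (f455875 IH) (Lpe (K7.f156303 IH) (Lpr_df (K11.f156337 IH) (Lpr_gf (K7.f153272 IH) (Lpe (K6.f126854 IH) (Lpe (K5.f126891 IH) (Lpr_cf (K5.f109170 IH) (Lpr_gt (K3.f107080 IH) (Lpr_dt (f522486 IH) (Lpn v2471))))))))))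
theorem f657496 : Led Lsl_cf v2471 = v6654 :=
  Lgr Lrot169 (Lpe (f522491 IH) (Lpe (f455874 IH) (Lpe (f432506 IH) (Lpr_cf (f448545 IH) (Lpr_gf (f430520 IH) (Lpr_cf (K7.f153201 IH) (Lpr_gf (K7.f143250 IH) (Lpe (f143235 IH) (Lpr_gt (f657493 IH) (Lpn v6654))))))))))
theorem f792329 : Led Lsl_bf v6654 = v21127 :=
  Lgr Lrot90 (Lpe (f657496 IH) (Lpe (f522488 IH) (Lpe (f434190 IH) (Lpr_bt (f432936 IH) (Lpr_ct (f792328 IH) (Lpn v21127))))))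
def v580 : LQ := Led Lsl_gf (LP (LK LD1_c0 LD2_c46 LD3_c5))
def v3219 : LQ := Led Lsl_ct v580
theorem f624653 : Led Lsl_ct v580 = v3219 :=
  Lrfl
theorem f454994 : Led Lsl_gf (LP (LK LD1_c0 LD2_c46 LD3_c5)) = v580 :=
  Lrfl
theorem f454997 : Led Lsl_df (LP (LK LD1_c0 LD2_c51 LD3_c27)) = v580 :=
  Lgr Lrot155 (Lpr_gt (K7.f152334 IH) (Lpr_ct (K5.f21043 IH) (Lpr_gt (K6.f21048 IH) (Lpe (K7.f153392 IH) (Lpr_dt (f448616 IH) (Lpe (K11.f448618 IH) (Lpe (K7.f84817 IH) (Lpe (K6.f12174 IH) (Lpr_gf (f454994 IH) (Lpn v580))))))))))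
theorem f454999 : Led Lsl_ft (LP (LK LD1_c1 LD2_c39 LD3_c6)) = v580 :=
  Lgr Lrot54 (Lpe (K7.f21089 IH) (Lpr_ff (K11.f448129 IH) (Lpr_df (f454997 IH) (Lpn v580))))
theorem f624656 : Led Lsl_ff (LP (LK LD1_c3 LD2_c25 LD3_c9)) = v3219 :=
  Lgr Lrot23 (Lpr_ct (K7.f134683 IH) (Lpr_ft (f454999 IH) (Lpr_ct (f624653 IH) (Lpn v3219))))
theorem f624658 : Led Lsl_ft (LP (LK LD1_c3 LD2_c25 LD3_c9)) = v3219 :=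
  Lgr Lrot48 (Lpr_ff (f624656 IH) (Lpn v3219))
theorem f447773 : Led Lsl_af (LP (LK LD1_c0 LD2_c45 LD3_c57)) = (LP (LK LD1_c0 LD2_c51 LD3_c27)) :=
  Lgr Lrot50 (Lpr_et (K11.f430247 IH) (Lpr_at (K11.f447767 IH) (Lpr_et (K11.f152342 IH) (Lpn (LP (LK LD1_c0 LD2_c51 LD3_c27))))))
def v579 : LQ := Led Lsl_dt (LP (LK LD1_c0 LD2_c45 LD3_c57))
theorem f454987 : Led Lsl_dt (LP (LK LD1_c0 LD2_c45 LD3_c57)) = v579 :=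
  Lrfl
theorem f454998 : Led Lsl_at v579 = v580 :=
  Lgr Lrot51 (Lpe (f454987 IH) (Lpr_af (f447773 IH) (Lpr_df (f454997 IH) (Lpn v580))))
def v3217 : LQ := Led Lsl_ct v579
theorem f624644 : Led Lsl_ct v579 = v3217 :=
  Lrfl
theorem f624645 : Led Lsl_cf v579 = v3217 :=
  Lgr Lrot11 (Lpr_ct (f624644 IH) (Lpn v3217))
theorem f624654 : Led Lsl_af v3217 = v3219 :=
  Lgr Lrot68 (Lpe (f624645 IH) (Lpr_at (f454998 IH) (Lpr_ct (f624653 IH) (Lpn v3219))))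
theorem f657494 : Led Lsl_gf v3217 = v6654 :=
  Lgr Lrot76 (Lpr_af (f624654 IH) (Lpe (f624658 IH) (Lpr_gt (f657493 IH) (Lpn v6654))))
theorem f454990 : Led Lsl_gf (LP (LK LD1_c1 LD2_c39 LD3_c15)) = v579 :=
  Lgr Lrot143 (Lpr_dt (K5.f84896 IH) (Lpe (K11.f144125 IH) (Lpe (K7.f121402 IH) (Lpe (K11.f431004 IH) (Lpe (K11.f21040 IH) (Lpe (K46.f21039 IH) (Lpe (K2.f21059 IH) (Lpr_gt (K6.f21086 IH) (Lpr_dt (f454987 IH) (Lpn v579))))))))))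
theorem f84893 : Led Lsl_gt (LP (LK LD1_c6 LD2_c52 LD3_c49)) = (LP (LK LD1_c13 LD2_c4 LD3_c49)) :=
  Lre_g IH (LK LD1_c6 LD2_c52 LD3_c49) (LK LD1_c13 LD2_c4 LD3_c49) Lrfl Lrfl
theorem f454992 : Led Lsl_bt (LP (LK LD1_c22 LD2_c15 LD3_c24)) = (LP (LK LD1_c13 LD2_c4 LD3_c49)) :=
  Lre_b IH (LK LD1_c22 LD2_c15 LD3_c24) (LK LD1_c13 LD2_c4 LD3_c49) Lrfl Lrfl
theorem f792332 : Led Lsl_cf (LP (LK LD1_c13 LD2_c37 LD3_c59)) = (LP (LK LD1_c22 LD2_c15 LD3_c24)) :=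
  Lgr Lrot160 (Lpr_gt (f432948 IH) (Lpr_cf (f792330 IH) (Lpe (f792329 IH) (Lpe (f657494 IH) (Lpe (f624645 IH) (Lpe (f454990 IH) (Lpe (K47.f84883 IH) (Lpr_bt (K47.f84879 IH) (Lpr_gt (f84893 IH) (Lpe (f454992 IH) (Lpn (LP (LK LD1_c22 LD2_c15 LD3_c24)))))))))))))
theorem f792333 : Led Lsl_ct (LP (LK LD1_c22 LD2_c15 LD3_c24)) = (LP (LK LD1_c13 LD2_c37 LD3_c59)) :=
  Leop (Lpr_cf (f792332 IH) (Lpn (LP (LK LD1_c22 LD2_c15 LD3_c24))))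
theorem seed_1588 : LEOK LG_c (LK LD1_c22 LD2_c15 LD3_c24) :=
  Leoe_c (LK LD1_c22 LD2_c15 LD3_c24) (f792333 IH)
def v21137 : LQ := Led Lsl_bt (LP (LK LD1_c7 LD2_c11 LD3_c60))
theorem f792379 : Led Lsl_bt (LP (LK LD1_c7 LD2_c11 LD3_c60)) = v21137 :=
  Lrfl
def v20928 : LQ := Led Lsl_gf (LP (LK LD1_c7 LD2_c9 LD3_c25))
theorem f791123 : Led Lsl_gf (LP (LK LD1_c7 LD2_c9 LD3_c25)) = v20928 :=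
  Lrfl
theorem f441476 : Led Lsl_af (LP (LK LD1_c7 LD2_c0 LD3_c46)) = (LP (LK LD1_c7 LD2_c11 LD3_c60)) :=
  Lgr Lrot0 (Lpr_at (K29.f441474 IH) (Lpn (LP (LK LD1_c7 LD2_c11 LD3_c60))))
theorem f791125 : Led Lsl_ff (LP (LK LD1_c7 LD2_c11 LD3_c60)) = v20928 :=
  Lgr Lrot52 (Lpe (f441476 IH) (Lpr_gf (K29.f482420 IH) (Lpr_gf (f791123 IH) (Lpn v20928))))
theorem f93137 : Led Lsl_ct (LP (LK LD1_c7 LD2_c9 LD3_c25)) = (LP (LK LD1_c13 LD2_c33 LD3_c24)) :=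
  Lre_c IH (LK LD1_c7 LD2_c9 LD3_c25) (LK LD1_c13 LD2_c33 LD3_c24) Lrfl Lrfl
def v6996 : LQ := Led Lsl_ft (LP (LK LD1_c3 LD2_c35 LD3_c40))
theorem f660059 : Led Lsl_ft (LP (LK LD1_c3 LD2_c35 LD3_c40)) = v6996 :=
  Lrfl
theorem f660064 : Led Lsl_ff (LP (LK LD1_c3 LD2_c35 LD3_c40)) = v6996 :=
  Lgr Lrot3 (Lpr_ft (f660059 IH) (Lpn v6996))
theorem f660069 : Led Lsl_gf (LP (LK LD1_c3 LD2_c38 LD3_c22)) = v6996 :=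
  Lgr Lrot47 (Lpe (K33.f488550 IH) (Lpr_af (K29.f441467 IH) (Lpr_ff (f660064 IH) (Lpn v6996))))
theorem f791129 : Led Lsl_df v6996 = v20928 :=
  Lgr Lrot155 (Lpe (f660069 IH) (Lpr_ct (K47.f4389 IH) (Lpr_gt (K2.f4387 IH) (Lpr_ct (K2.f4084 IH) (Lpr_dt (K2.f4065 IH) (Lpe (K2.f4058 IH) (Lpe (K33.f517361 IH) (Lpe (f93137 IH) (Lpr_gf (f791123 IH) (Lpn v20928))))))))))
theorem f659863 : Led Lsl_af (LP (LK LD1_c7 LD2_c6 LD3_c4)) = K47.v6995 :=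
  Lgr Lrot50 (Lpr_et (K3.f109504 IH) (Lpe (K3.f109092 IH) (Lpr_et (K47.f659862 IH) (Lpn K47.v6995))))
theorem f109501 : Led Lsl_et (LP (LK LD1_c3 LD2_c32 LD3_c35)) = (LP (LK LD1_c7 LD2_c6 LD3_c4)) :=
  Lre_e IH (LK LD1_c3 LD2_c32 LD3_c35) (LK LD1_c7 LD2_c6 LD3_c4) Lrfl Lrfl
theorem f160493 : Led Lsl_et (LP (LK LD1_c3 LD2_c33 LD3_c20)) = (LP (LK LD1_c7 LD2_c7 LD3_c34)) :=
  Lre_e IH (LK LD1_c3 LD2_c33 LD3_c20) (LK LD1_c7 LD2_c7 LD3_c34) Lrfl Lrfl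
theorem f511814 : Led Lsl_et (LP (LK LD1_c7 LD2_c19 LD3_c53)) = (LP (LK LD1_c3 LD2_c39 LD3_c49)) :=
  Lre_e IH (LK LD1_c7 LD2_c19 LD3_c53) (LK LD1_c3 LD2_c39 LD3_c49) Lrfl Lrfl
theorem f571496 : Led Lsl_gf (LP (LK LD1_c7 LD2_c6 LD3_c4)) = (LP (LK LD1_c3 LD2_c39 LD3_c49)) :=
  Lgr Lrot141 (Lpe (f109501 IH) (Lpr_dt (K42.f571487 IH) (Lpr_gt (K38.f172737 IH) (Lpe (K42.f552857 IH) (Lpr_et (f160493 IH) (Lpe (K57.f471966 IH) (Lpr_dt (K41.f98600 IH) (Lpe (K46.f511870 IH) (Lpe (K47.f511818 IH) (Lpr_et (f511814 IH) (Lpn (LP (LK LD1_c3 LD2_c39 LD3_c49)))))))))))))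
theorem f5352 : Led Lsl_gt (LP (LK LD1_c7 LD2_c19 LD3_c50)) = (LP (LK LD1_c3 LD2_c39 LD3_c49)) :=
  Lre_g IH (LK LD1_c7 LD2_c19 LD3_c50) (LK LD1_c3 LD2_c39 LD3_c49) Lrfl Lrfl
theorem f660055 : Led Lsl_ft (LP (LK LD1_c7 LD2_c19 LD3_c50)) = K47.v6995 :=
  Lgr Lrot2 (Lpr_gt (f5352 IH) (Lpe (f571496 IH) (Lpr_af (f659863 IH) (Lpn K47.v6995))))
theorem f660061 : Led Lsl_bf (LP (LK LD1_c7 LD2_c19 LD3_c50)) = v6996 :=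
  Lgr Lrot61 (Lpr_ft (f660055 IH) (Lpe (K47.f659864 IH) (Lpr_ft (f660059 IH) (Lpn v6996))))
theorem f511816 : Led Lsl_dt (LP (LK LD1_c7 LD2_c19 LD3_c50)) = (LP (LK LD1_c13 LD2_c51 LD3_c61)) :=
  Lre_d IH (LK LD1_c7 LD2_c19 LD3_c50) (LK LD1_c13 LD2_c51 LD3_c61) Lrfl Lrfl
theorem f791131 : Led Lsl_bt (LP (LK LD1_c13 LD2_c51 LD3_c61)) = v20928 :=
  Lgr Lrot95 (Lpe (f511816 IH) (Lpr_bf (f660061 IH) (Lpr_df (f791129 IH) (Lpn v20928))))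
theorem f792384 : Led Lsl_ff (LP (LK LD1_c13 LD2_c51 LD3_c61)) = v21137 :=
  Lgr Lrot25 (Lpr_bt (f791131 IH) (Lpe (f791125 IH) (Lpr_bt (f792379 IH) (Lpn v21137))))
theorem f792386 : Led Lsl_ft (LP (LK LD1_c13 LD2_c51 LD3_c61)) = v21137 :=
  Lgr Lrot48 (Lpr_ff (f792384 IH) (Lpn v21137))
theorem f661093 : Led Lsl_et (LP (LK LD1_c23 LD2_c21 LD3_c40)) = (LP (LK LD1_c13 LD2_c51 LD3_c61)) :=
  Lre_e IH (LK LD1_c23 LD2_c21 LD3_c40) (LK LD1_c13 LD2_c51 LD3_c61) Lrfl Lrfl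
theorem f441519 : Led Lsl_ef (LP (LK LD1_c7 LD2_c11 LD3_c60)) = (LP (LK LD1_c13 LD2_c29 LD3_c22)) :=
  Lgr Lrot28 (Lpr_ct (K29.f441473 IH) (Lpr_et (f441511 IH) (Lpr_ct (K45.f97161 IH) (Lpn (LP (LK LD1_c13 LD2_c29 LD3_c22))))))
theorem f540487 : Led Lsl_bt (LP (LK LD1_c8 LD2_c38 LD3_c14)) = (LP (LK LD1_c13 LD2_c29 LD3_c22)) :=
  Lgr Lrot95 (Lpe (K39.f34906 IH) (Lpr_bf (K36.f540484 IH) (Lpe (K42.f97160 IH) (Lpn (LP (LK LD1_c13 LD2_c29 LD3_c22))))))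
theorem f792383 : Led Lsl_ef (LP (LK LD1_c8 LD2_c38 LD3_c14)) = v21137 :=
  Lgr Lrot29 (Lpr_bt (f540487 IH) (Lpe (f441519 IH) (Lpr_bt (f792379 IH) (Lpn v21137))))
theorem f792387 : Led Lsl_ff (LP (LK LD1_c23 LD2_c21 LD3_c40)) = (LP (LK LD1_c26 LD2_c7 LD3_c26)) :=
  Lgr Lrot72 (Lpr_et (f661093 IH) (Lpr_ft (f792386 IH) (Lpe (f792383 IH) (Lpr_ft (K42.f553502 IH) (Lpr_et (K45.f572686 IH) (Lpn (LP (LK LD1_c26 LD2_c7 LD3_c26))))))))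
theorem f792388 : Led Lsl_ft (LP (LK LD1_c26 LD2_c7 LD3_c26)) = (LP (LK LD1_c23 LD2_c21 LD3_c40)) :=
  Leop (Lpr_ff (f792387 IH) (Lpn (LP (LK LD1_c26 LD2_c7 LD3_c26))))
theorem seed_1589 : LEOK LG_f (LK LD1_c26 LD2_c7 LD3_c26) :=
  Leoe_f (LK LD1_c26 LD2_c7 LD3_c26) (f792388 IH)
def v21139 : LQ := Led Lsl_ft (LP (LK LD1_c7 LD2_c12 LD3_c3))
theorem f792397 : Led Lsl_ft (LP (LK LD1_c7 LD2_c12 LD3_c3)) = v21139 :=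
  Lrfl
theorem f792400 : Led Lsl_ff (LP (LK LD1_c7 LD2_c12 LD3_c3)) = v21139 :=
  Lgr Lrot3 (Lpr_ft (f792397 IH) (Lpn v21139))
def v20827 : LQ := Led Lsl_ft (LP (LK LD1_c7 LD2_c5 LD3_c39))
theorem f790282 : Led Lsl_ft (LP (LK LD1_c7 LD2_c5 LD3_c39)) = v20827 :=
  Lrfl
theorem f792402 : Led Lsl_bt v20827 = v21139 :=
  Lgr Lrot35 (Lpe (f790282 IH) (Lpe (K37.f489392 IH) (Lpr_ff (f792400 IH) (Lpn v21139))))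
theorem f790284 : Led Lsl_ff (LP (LK LD1_c7 LD2_c5 LD3_c39)) = v20827 :=
  Lgr Lrot3 (Lpr_ft (f790282 IH) (Lpn v20827))
def v20826 : LQ := Led Lsl_at (LP (LK LD1_c7 LD2_c5 LD3_c39))
theorem f790278 : Led Lsl_at (LP (LK LD1_c7 LD2_c5 LD3_c39)) = v20826 :=
  Lrfl
theorem f790279 : Led Lsl_af (LP (LK LD1_c7 LD2_c5 LD3_c39)) = v20826 :=
  Lgr Lrot0 (Lpr_at (f790278 IH) (Lpn v20826))
theorem f790280 : Led Lsl_ft (LP (LK LD1_c7 LD2_c5 LD3_c40)) = v20826 :=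
  Lgr Lrot2 (Lpr_gt (K37.f147288 IH) (Lpr_gt (K37.f147278 IH) (Lpr_af (f790279 IH) (Lpn v20826))))
theorem f790281 : Led Lsl_ff (LP (LK LD1_c7 LD2_c5 LD3_c40)) = v20826 :=
  Lgr Lrot3 (Lpr_ft (f790280 IH) (Lpn v20826))
theorem f790285 : Led Lsl_at (LP (LK LD1_c7 LD2_c5 LD3_c40)) = v20827 :=
  Lgr Lrot66 (Lpr_ff (f790281 IH) (Lpe (f790278 IH) (Lpr_ff (f790284 IH) (Lpn v20827))))
def v21138 : LQ := Led Lsl_at (LP (LK LD1_c7 LD2_c12 LD3_c3))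
theorem f792393 : Led Lsl_at (LP (LK LD1_c7 LD2_c12 LD3_c3)) = v21138 :=
  Lrfl
theorem f792394 : Led Lsl_af (LP (LK LD1_c7 LD2_c12 LD3_c3)) = v21138 :=
  Lgr Lrot0 (Lpr_at (f792393 IH) (Lpn v21138))
theorem f792395 : Led Lsl_ft (LP (LK LD1_c7 LD2_c12 LD3_c4)) = v21138 :=
  Lgr Lrot2 (Lpr_gt (K37.f116177 IH) (Lpr_gt (K37.f106229 IH) (Lpr_af (f792394 IH) (Lpn v21138))))
theorem f792398 : Led Lsl_af (LP (LK LD1_c7 LD2_c12 LD3_c4)) = v21139 :=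
  Lgr Lrot45 (Lpr_ft (f792395 IH) (Lpe (f792394 IH) (Lpr_ft (f792397 IH) (Lpn v21139))))
theorem f792403 : Led Lsl_af (LP (LK LD1_c13 LD2_c26 LD3_c42)) = (LP (LK LD1_c13 LD2_c38 LD3_c18)) :=
  Lgr Lrot36 (Lpr_bt (K43.f147304 IH) (Lpr_at (f790285 IH) (Lpr_bt (f792402 IH) (Lpe (f792398 IH) (Lpr_bt (K43.f466186 IH) (Lpn (LP (LK LD1_c13 LD2_c38 LD3_c18))))))))
theorem f792404 : Led Lsl_at (LP (LK LD1_c13 LD2_c38 LD3_c18)) = (LP (LK LD1_c13 LD2_c26 LD3_c42)) :=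
  Leop (Lpr_af (f792403 IH) (Lpn (LP (LK LD1_c13 LD2_c38 LD3_c18))))
theorem seed_1590 : LEOK LG_a (LK LD1_c13 LD2_c38 LD3_c18) :=
  Leoe_a (LK LD1_c13 LD2_c38 LD3_c18) (f792404 IH)
def v14101 : LQ := Led Lsl_ft (LP (LK LD1_c4 LD2_c58 LD3_c0))
theorem f718999 : Led Lsl_ft (LP (LK LD1_c4 LD2_c58 LD3_c0)) = v14101 :=
  Lrfl
theorem f70204 : Led Lsl_dt (LP (LK LD1_c8 LD2_c38 LD3_c28)) = (LP (LK LD1_c14 LD2_c59 LD3_c30)) :=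
  Lgr Lrot42 (Lpr_df (K40.f70198 IH) (Lpn (LP (LK LD1_c14 LD2_c59 LD3_c30))))
theorem f70263 : Led Lsl_dt (LP (LK LD1_c9 LD2_c47 LD3_c0)) = (LP (LK LD1_c8 LD2_c46 LD3_c29)) :=
  Lgr Lrot42 (Lpr_df (K6.f70239 IH) (Lpn (LP (LK LD1_c8 LD2_c46 LD3_c29))))
theorem f35918 : Led Lsl_dt (LP (LK LD1_c4 LD2_c24 LD3_c57)) = (LP (LK LD1_c8 LD2_c47 LD3_c25)) :=
  Lre_d IH (LK LD1_c4 LD2_c24 LD3_c57) (LK LD1_c8 LD2_c47 LD3_c25) Lrfl Lrfl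
theorem f443113 : Led Lsl_gt (LP (LK LD1_c8 LD2_c47 LD3_c25)) = (LP (LK LD1_c9 LD2_c47 LD3_c0)) :=
  Lgr Lrot112 (Lpe (f35918 IH) (Lpe (K1.f35904 IH) (Lpe (K40.f36197 IH) (Lpe (K40.f35351 IH) (Lpr_dt (K40.f443104 IH) (Lpr_gf (K40.f205673 IH) (Lpe (K36.f205470 IH) (Lpe (K40.f205548 IH) (Lpe (K6.f70238 IH) (Lpe (K6.f70239 IH) (Lpn (LP (LK LD1_c9 LD2_c47 LD3_c0)))))))))))))
theorem f617203 : Led Lsl_ct (LP (LK LD1_c4 LD2_c24 LD3_c38)) = (LP (LK LD1_c4 LD2_c58 LD3_c0)) :=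
  Lgr Lrot8 (Lpr_gt (K40.f36197 IH) (Lpe (K1.f36079 IH) (Lpr_gt (K40.f443111 IH) (Lpr_dt (f70204 IH) (Lpr_cf (K50.f561098 IH) (Lpe (f70263 IH) (Lpe (f443113 IH) (Lpe (f35918 IH) (Lpr_gf (K40.f101830 IH) (Lpn (LP (LK LD1_c4 LD2_c58 LD3_c0))))))))))))
def v12651 : LQ := Led Lsl_ft (LP (LK LD1_c4 LD2_c24 LD3_c38))
theorem f696596 : Led Lsl_ft (LP (LK LD1_c4 LD2_c24 LD3_c38)) = v12651 :=
  Lrfl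
theorem f696598 : Led Lsl_ff (LP (LK LD1_c4 LD2_c24 LD3_c38)) = v12651 :=
  Lgr Lrot3 (Lpr_ft (f696596 IH) (Lpn v12651))
theorem f719001 : Led Lsl_cf v12651 = v14101 :=
  Lgr Lrot108 (Lpe (f696598 IH) (Lpr_ct (f617203 IH) (Lpr_ft (f718999 IH) (Lpn v14101))))
theorem f443147 : Led Lsl_ct (LP (LK LD1_c4 LD2_c24 LD3_c55)) = (LP (LK LD1_c7 LD2_c56 LD3_c54)) :=
  Lgr Lrot15 (Lpe (K37.f35831 IH) (Lpr_cf (K37.f443145 IH) (Lpe (K37.f346896 IH) (Lpn (LP (LK LD1_c7 LD2_c56 LD3_c54))))))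
def v12652 : LQ := Led Lsl_at (LP (LK LD1_c4 LD2_c24 LD3_c54))
theorem f696602 : Led Lsl_at (LP (LK LD1_c4 LD2_c24 LD3_c54)) = v12652 :=
  Lrfl
theorem f696603 : Led Lsl_af (LP (LK LD1_c4 LD2_c24 LD3_c54)) = v12652 :=
  Lgr Lrot0 (Lpr_at (f696602 IH) (Lpn v12652))
theorem f696604 : Led Lsl_ft (LP (LK LD1_c4 LD2_c24 LD3_c55)) = v12652 :=
  Lgr Lrot2 (Lpr_gt (K37.f35830 IH) (Lpr_gt (K4.f35895 IH) (Lpr_af (f696603 IH) (Lpn v12652))))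
theorem f696605 : Led Lsl_ff (LP (LK LD1_c4 LD2_c24 LD3_c55)) = v12652 :=
  Lgr Lrot3 (Lpr_ft (f696604 IH) (Lpn v12652))
def v14100 : LQ := Led Lsl_at (LP (LK LD1_c4 LD2_c58 LD3_c0))
theorem f718993 : Led Lsl_at (LP (LK LD1_c4 LD2_c58 LD3_c0)) = v14100 :=
  Lrfl
theorem f718994 : Led Lsl_af (LP (LK LD1_c4 LD2_c58 LD3_c0)) = v14100 :=
  Lgr Lrot0 (Lpr_at (f718993 IH) (Lpn v14100))
theorem f792399 : Led Lsl_bf v20827 = v21139 :=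
  Lgr Lrot61 (Lpe (f790284 IH) (Lpe (K37.f489395 IH) (Lpr_ft (f792397 IH) (Lpn v21139))))
theorem f792411 : Led Lsl_ft (LP (LK LD1_c23 LD2_c3 LD3_c19)) = (LP (LK LD1_c13 LD2_c38 LD3_c18)) :=
  Lgr Lrot2 (Lpr_gt (K55.f590018 IH) (Lpr_gt (K55.f544272 IH) (Lpr_af (f792403 IH) (Lpn (LP (LK LD1_c13 LD2_c38 LD3_c18))))))
theorem f792417 : (LP (LK LD1_c13 LD2_c38 LD3_c12)) = v21138 :=
  (Llr Lrot61 (Lpr_bt (K55.f469274 IH) (Lpr_ft (f792411 IH) (Lpr_bt (K43.f116185 IH) (Lpr_ft (f792395 IH) (Lpn v21138)))))).symm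
theorem f792424 : Led Lsl_ff (LP (LK LD1_c13 LD2_c38 LD3_c20)) = (LP (LK LD1_c23 LD2_c3 LD3_c20)) :=
  Lgr Lrot19 (Lpr_dt (K47.f116182 IH) (Lpr_ft (f792395 IH) (Lpq (f792417 IH) (Lpr_dt (K40.f116248 IH) (Lpn (LP (LK LD1_c23 LD2_c3 LD3_c20)))))))
theorem f609192 : Led Lsl_df (LP (LK LD1_c22 LD2_c57 LD3_c4)) = (LP (LK LD1_c23 LD2_c6 LD3_c6)) :=
  Lgr Lrot18 (Lpr_at (K47.f488624 IH) (Lpe (K47.f609179 IH) (Lpr_at (K47.f609188 IH) (Lpn (LP (LK LD1_c23 LD2_c6 LD3_c6))))))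
theorem f488621 : Led Lsl_at (LP (LK LD1_c13 LD2_c34 LD3_c0)) = (LP (LK LD1_c22 LD2_c57 LD3_c4)) :=
  Lre_a IH (LK LD1_c13 LD2_c34 LD3_c0) (LK LD1_c22 LD2_c57 LD3_c4) Lrfl Lrfl
theorem f522289 : Led Lsl_ft (LP (LK LD1_c22 LD2_c57 LD3_c4)) = (LP (LK LD1_c13 LD2_c51 LD3_c50)) :=
  Lgr Lrot101 (Lpe (f488621 IH) (Lpr_ff (K47.f522282 IH) (Lpe (K47.f522288 IH) (Lpn (LP (LK LD1_c13 LD2_c51 LD3_c50))))))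
theorem f514833 : Led Lsl_gt (LP (LK LD1_c13 LD2_c51 LD3_c54)) = (LP (LK LD1_c7 LD2_c19 LD3_c46)) :=
  Lre_g IH (LK LD1_c13 LD2_c51 LD3_c54) (LK LD1_c7 LD2_c19 LD3_c46) Lrfl Lrfl
theorem f522295 : Led Lsl_gt (LP (LK LD1_c22 LD2_c57 LD3_c4)) = (LP (LK LD1_c13 LD2_c51 LD3_c54)) :=
  Lgr Lrot5 (Lpr_ft (f522289 IH) (Lpr_at (K47.f522288 IH) (Lpe (f514833 IH) (Lpn (LP (LK LD1_c13 LD2_c51 LD3_c54))))))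
theorem f198414 : Led Lsl_gt (LP (LK LD1_c21 LD2_c12 LD3_c5)) = (LP (LK LD1_c12 LD2_c6 LD3_c4)) :=
  Lre_g IH (LK LD1_c21 LD2_c12 LD3_c5) (LK LD1_c12 LD2_c6 LD3_c4) Lrfl Lrfl
theorem f518857 : Led Lsl_at (LP (LK LD1_c13 LD2_c33 LD3_c4)) = (LP (LK LD1_c7 LD2_c9 LD3_c18)) :=
  Lre_a IH (LK LD1_c13 LD2_c33 LD3_c4) (LK LD1_c7 LD2_c9 LD3_c18) Lrfl Lrfl
theorem f456002 : Led Lsl_gt (LP (LK LD1_c13 LD2_c33 LD3_c7)) = (LP (LK LD1_c7 LD2_c9 LD3_c18)) :=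
  Lre_g IH (LK LD1_c13 LD2_c33 LD3_c7) (LK LD1_c7 LD2_c9 LD3_c18) Lrfl Lrfl
theorem f560954 : Led Lsl_gt (LP (LK LD1_c21 LD2_c11 LD3_c54)) = (LP (LK LD1_c13 LD2_c33 LD3_c7)) :=
  Lgr Lrot5 (Lpr_ft (K43.f560937 IH) (Lpr_at (f518857 IH) (Lpe (f456002 IH) (Lpn (LP (LK LD1_c13 LD2_c33 LD3_c7))))))
theorem f444874 : Led Lsl_et (LP (LK LD1_c16 LD2_c32 LD3_c58)) = (LP (LK LD1_c8 LD2_c51 LD3_c5)) :=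
  Lre_e IH (LK LD1_c16 LD2_c32 LD3_c58) (LK LD1_c8 LD2_c51 LD3_c5) Lrfl Lrfl
theorem f205086 : Led Lsl_df (LP (LK LD1_c18 LD2_c18 LD3_c49)) = (LP (LK LD1_c21 LD2_c12 LD3_c1)) :=
  Lgr Lrot38 (Lpr_dt (K40.f205079 IH) (Lpn (LP (LK LD1_c21 LD2_c12 LD3_c1))))
theorem f410649 : Led Lsl_ft (LP (LK LD1_c24 LD2_c57 LD3_c50)) = (LP (LK LD1_c15 LD2_c8 LD3_c52)) :=
  Lre_f IH (LK LD1_c24 LD2_c57 LD3_c50) (LK LD1_c15 LD2_c8 LD3_c52) Lrfl Lrfl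
theorem f410650 : Led Lsl_af (LP (LK LD1_c24 LD2_c57 LD3_c50)) = (LP (LK LD1_c21 LD2_c12 LD3_c6)) :=
  Lgr Lrot45 (Lpr_ft (f410649 IH) (Lpr_at (K47.f410643 IH) (Lpr_ft (K47.f198421 IH) (Lpn (LP (LK LD1_c21 LD2_c12 LD3_c6))))))
theorem f410656 : Led Lsl_et (LP (LK LD1_c24 LD2_c57 LD3_c50)) = (LP (LK LD1_c21 LD2_c12 LD3_c1)) :=
  Lgr Lrot123 (Lpr_af (f410650 IH) (Lpe (K47.f272335 IH) (Lpr_af (K40.f273088 IH) (Lpn (LP (LK LD1_c21 LD2_c12 LD3_c1))))))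
theorem f410660 : Led Lsl_ef (LP (LK LD1_c24 LD2_c57 LD3_c50)) = (LP (LK LD1_c21 LD2_c12 LD3_c1)) :=
  Lgr Lrot88 (Lpr_et (f410656 IH) (Lpn (LP (LK LD1_c21 LD2_c12 LD3_c1))))
theorem f410652 : Led Lsl_gt (LP (LK LD1_c24 LD2_c57 LD3_c50)) = (LP (LK LD1_c21 LD2_c12 LD3_c5)) :=
  Lgr Lrot5 (Lpr_ft (f410649 IH) (Lpr_at (K47.f410643 IH) (Lpe (f198414 IH) (Lpn (LP (LK LD1_c21 LD2_c12 LD3_c5))))))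
theorem f198415 : Led Lsl_dt (LP (LK LD1_c21 LD2_c12 LD3_c5)) = (LP (LK LD1_c29 LD2_c53 LD3_c57)) :=
  Lre_d IH (LK LD1_c21 LD2_c12 LD3_c5) (LK LD1_c29 LD2_c53 LD3_c57) Lrfl Lrfl
theorem f445053 : Led Lsl_gt (LP (LK LD1_c29 LD2_c53 LD3_c57)) = (LP (LK LD1_c21 LD2_c12 LD3_c35)) :=
  Lgr Lrot139 (Lpe (f198415 IH) (Lpe (f410652 IH) (Lpr_ef (f410660 IH) (Lpe (f205086 IH) (Lpr_gf (K40.f418070 IH) (Lpe (K40.f418075 IH) (Lpr_et (K40.f418078 IH) (Lpr_gf (K40.f445040 IH) (Lpe (f444874 IH) (Lpe (K47.f444858 IH) (Lpn (LP (LK LD1_c21 LD2_c12 LD3_c35)))))))))))))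
theorem f560958 : Led Lsl_et (LP (LK LD1_c21 LD2_c12 LD3_c5)) = (LP (LK LD1_c13 LD2_c33 LD3_c7)) :=
  Lgr Lrot122 (Lpr_dt (f198415 IH) (Lpr_gt (f445053 IH) (Lpr_df (K47.f444858 IH) (Lpr_et (f444874 IH) (Lpe (K40.f445040 IH) (Lpr_dt (K40.f418086 IH) (Lpr_gt (K40.f418085 IH) (Lpr_df (K40.f445345 IH) (Lpr_et (K40.f418453 IH) (Lpr_gt (f560954 IH) (Lpn (LP (LK LD1_c13 LD2_c33 LD3_c7)))))))))))))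
theorem f560963 : Led Lsl_ef (LP (LK LD1_c21 LD2_c12 LD3_c5)) = (LP (LK LD1_c13 LD2_c33 LD3_c7)) :=
  Lgr Lrot88 (Lpr_et (f560958 IH) (Lpn (LP (LK LD1_c13 LD2_c33 LD3_c7))))
theorem f611185 : Led Lsl_df (LP (LK LD1_c13 LD2_c51 LD3_c54)) = (LP (LK LD1_c13 LD2_c33 LD3_c7)) :=
  Lgr Lrot132 (Lpe (f522295 IH) (Lpr_df (f609192 IH) (Lpe (K43.f560598 IH) (Lpe (K42.f568679 IH) (Lpr_dt (K13.f204823 IH) (Lpe (K13.f241208 IH) (Lpe (K10.f193734 IH) (Lpr_et (K47.f193736 IH) (Lpe (f198414 IH) (Lpr_ef (f560963 IH) (Lpn (LP (LK LD1_c13 LD2_c33 LD3_c7)))))))))))))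
theorem f561006 : Led Lsl_cf (LP (LK LD1_c23 LD2_c4 LD3_c54)) = (LP (LK LD1_c22 LD2_c55 LD3_c40)) :=
  Lgr Lrot11 (Lpr_ct (K40.f561000 IH) (Lpn (LP (LK LD1_c22 LD2_c55 LD3_c40))))
theorem f568113 : Led Lsl_df (LP (LK LD1_c22 LD2_c44 LD3_c27)) = (LP (LK LD1_c22 LD2_c55 LD3_c17)) :=
  Lgr Lrot38 (Lpr_dt (K46.f568111 IH) (Lpn (LP (LK LD1_c22 LD2_c55 LD3_c17))))
theorem f543619 : Led Lsl_df (LP (LK LD1_c21 LD2_c14 LD3_c54)) = (LP (LK LD1_c23 LD2_c4 LD3_c54)) :=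
  Lgr Lrot38 (Lpr_dt (K39.f543616 IH) (Lpn (LP (LK LD1_c23 LD2_c4 LD3_c54))))
theorem f568201 : Led Lsl_ct (LP (LK LD1_c22 LD2_c44 LD3_c27)) = (LP (LK LD1_c21 LD2_c14 LD3_c54)) :=
  Lgr Lrot7 (Lpr_df (f568113 IH) (Lpe (K46.f482549 IH) (Lpe (K34.f482546 IH) (Lpr_gf (K34.f515797 IH) (Lpr_cf (K8.f155671 IH) (Lpr_gt (K34.f488806 IH) (Lpr_dt (K40.f456632 IH) (Lpr_gt (K39.f488808 IH) (Lpe (f543619 IH) (Lpn (LP (LK LD1_c21 LD2_c14 LD3_c54))))))))))))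
theorem f611194 : Led Lsl_gt (LP (LK LD1_c13 LD2_c25 LD3_c53)) = (LP (LK LD1_c22 LD2_c44 LD3_c27)) :=
  Lgr Lrot150 (Lpe (K47.f523619 IH) (Lpe (f514833 IH) (Lpr_df (f611185 IH) (Lpr_gt (f456002 IH) (Lpr_ct (K40.f515449 IH) (Lpr_gt (K40.f519174 IH) (Lpe (f561006 IH) (Lpe (K39.f543616 IH) (Lpe (f568201 IH) (Lpn (LP (LK LD1_c22 LD2_c44 LD3_c27))))))))))))
theorem f523577 : Led Lsl_bt (LP (LK LD1_c7 LD2_c5 LD3_c3)) = (LP (LK LD1_c13 LD2_c25 LD3_c53)) :=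
  Lre_b IH (LK LD1_c7 LD2_c5 LD3_c3) (LK LD1_c13 LD2_c25 LD3_c53) Lrfl Lrfl
theorem f523578 : Led Lsl_cf (LP (LK LD1_c7 LD2_c19 LD3_c46)) = (LP (LK LD1_c13 LD2_c25 LD3_c53)) :=
  Lgr Lrot97 (Lpr_bt (K47.f514902 IH) (Lpr_ct (f514778 IH) (Lpr_bt (K34.f514782 IH) (Lpr_ct (K34.f523546 IH) (Lpr_bt (f523577 IH) (Lpn (LP (LK LD1_c13 LD2_c25 LD3_c53))))))))
theorem f514788 : Led Lsl_gt (LP (LK LD1_c7 LD2_c19 LD3_c46)) = (LP (LK LD1_c13 LD2_c51 LD3_c53)) :=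
  Lre_g IH (LK LD1_c7 LD2_c19 LD3_c46) (LK LD1_c13 LD2_c51 LD3_c53) Lrfl Lrfl
theorem f560911 : Led Lsl_ct (LP (LK LD1_c12 LD2_c8 LD3_c38)) = (LP (LK LD1_c7 LD2_c50 LD3_c22)) :=
  Lgr Lrot59 (Lpr_cf (K40.f560905 IH) (Lpn (LP (LK LD1_c7 LD2_c50 LD3_c22))))
theorem f515377 : Led Lsl_ff (LP (LK LD1_c13 LD2_c28 LD3_c41)) = (LP (LK LD1_c7 LD2_c9 LD3_c18)) :=
  Lgr Lrot25 (Lpr_bt (K47.f515376 IH) (Lpr_ft (K33.f515372 IH) (Lpr_bt (K43.f6084 IH) (Lpn (LP (LK LD1_c7 LD2_c9 LD3_c18))))))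
theorem f560948 : Led Lsl_af (LP (LK LD1_c21 LD2_c11 LD3_c54)) = (LP (LK LD1_c13 LD2_c28 LD3_c41)) :=
  Lgr Lrot45 (Lpr_ft (K43.f560937 IH) (Lpr_at (f518857 IH) (Lpe (f515377 IH) (Lpn (LP (LK LD1_c13 LD2_c28 LD3_c41))))))
theorem f560995 : Led Lsl_gf (LP (LK LD1_c21 LD2_c11 LD3_c54)) = (LP (LK LD1_c13 LD2_c33 LD3_c6)) :=
  Lgr Lrot76 (Lpr_af (f560948 IH) (Lpr_ff (f515377 IH) (Lpr_gt (K48.f6041 IH) (Lpn (LP (LK LD1_c13 LD2_c33 LD3_c6))))))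
theorem f611198 : Led Lsl_dt (LP (LK LD1_c13 LD2_c51 LD3_c53)) = (LP (LK LD1_c13 LD2_c33 LD3_c6)) :=
  Lgr Lrot57 (Lpe (f514788 IH) (Lpr_cf (f523578 IH) (Lpr_gt (f611194 IH) (Lpr_dt (K46.f568111 IH) (Lpe (K46.f515472 IH) (Lpr_dt (K34.f515475 IH) (Lpe (f560911 IH) (Lpe (K40.f418449 IH) (Lpr_gf (f560995 IH) (Lpn (LP (LK LD1_c13 LD2_c33 LD3_c6))))))))))))
theorem f608075 : Led Lsl_et (LP (LK LD1_c16 LD2_c26 LD3_c42)) = (LP (LK LD1_c8 LD2_c47 LD3_c16)) :=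
  Lre_e IH (LK LD1_c16 LD2_c26 LD3_c42) (LK LD1_c8 LD2_c47 LD3_c16) Lrfl Lrfl
theorem f205457 : Led Lsl_et (LP (LK LD1_c6 LD2_c25 LD3_c0)) = (LP (LK LD1_c3 LD2_c10 LD3_c7)) :=
  Lre_e IH (LK LD1_c6 LD2_c25 LD3_c0) (LK LD1_c3 LD2_c10 LD3_c7) Lrfl Lrfl
theorem f80902 : Led Lsl_et (LP (LK LD1_c4 LD2_c0 LD3_c8)) = (LP (LK LD1_c8 LD2_c1 LD3_c16)) :=
  Lre_e IH (LK LD1_c4 LD2_c0 LD3_c8) (LK LD1_c8 LD2_c1 LD3_c16) Lrfl Lrfl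
theorem f608078 : Led Lsl_gf (LP (LK LD1_c8 LD2_c47 LD3_c16)) = (LP (LK LD1_c8 LD2_c1 LD3_c16)) :=
  Lgr Lrot141 (Lpe (f608075 IH) (Lpr_dt (K55.f607378 IH) (Lpr_gt (K39.f116250 IH) (Lpr_df (K36.f540308 IH) (Lpr_et (f205457 IH) (Lpe (K32.f205653 IH) (Lpr_dt (K32.f503086 IH) (Lpq (K39.f536938 IH) (Lpe (K8.f80900 IH) (Lpe (K40.f3048 IH) (Lpr_et (f80902 IH) (Lpn (LP (LK LD1_c8 LD2_c1 LD3_c16))))))))))))))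
theorem f608074 : Led Lsl_dt (LP (LK LD1_c16 LD2_c26 LD3_c41)) = (LP (LK LD1_c8 LD2_c47 LD3_c16)) :=
  Lre_d IH (LK LD1_c16 LD2_c26 LD3_c41) (LK LD1_c8 LD2_c47 LD3_c16) Lrfl Lrfl
theorem f411109 : Led Lsl_bt (LP (LK LD1_c16 LD2_c34 LD3_c35)) = (LP (LK LD1_c8 LD2_c51 LD3_c59)) :=
  Lre_b IH (LK LD1_c16 LD2_c34 LD3_c35) (LK LD1_c8 LD2_c51 LD3_c59) Lrfl Lrfl
theorem f540904 : Led Lsl_df (LP (LK LD1_c8 LD2_c1 LD3_c16)) = (LP (LK LD1_c8 LD2_c51 LD3_c59)) :=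
  Lgr Lrot12 (Lpr_bt (K8.f142185 IH) (Lpr_dt (K41.f540900 IH) (Lpr_bt (f411109 IH) (Lpn (LP (LK LD1_c8 LD2_c51 LD3_c59))))))
theorem f272228 : Led Lsl_et (LP (LK LD1_c8 LD2_c51 LD3_c59)) = (LP (LK LD1_c4 LD2_c27 LD3_c5)) :=
  Lre_e IH (LK LD1_c8 LD2_c51 LD3_c59) (LK LD1_c4 LD2_c27 LD3_c5) Lrfl Lrfl
theorem f608090 : Led Lsl_et (LP (LK LD1_c16 LD2_c26 LD3_c41)) = (LP (LK LD1_c13 LD2_c33 LD3_c6)) :=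
  Lgr Lrot121 (Lpr_dt (f608074 IH) (Lpr_gf (f608078 IH) (Lpr_df (f540904 IH) (Lpr_et (f272228 IH) (Lpr_gf (K13.f227851 IH) (Lpe (K40.f239203 IH) (Lpr_dt (K40.f239204 IH) (Lpe (K40.f239197 IH) (Lpe (K40.f418449 IH) (Lpr_gf (f560995 IH) (Lpn (LP (LK LD1_c13 LD2_c33 LD3_c6)))))))))))))
theorem f608098 : Led Lsl_ef (LP (LK LD1_c16 LD2_c26 LD3_c41)) = (LP (LK LD1_c13 LD2_c33 LD3_c6)) :=
  Lgr Lrot88 (Lpr_et (f608090 IH) (Lpn (LP (LK LD1_c13 LD2_c33 LD3_c6))))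
theorem f608073 : Led Lsl_et (LP (LK LD1_c8 LD2_c47 LD3_c16)) = (LP (LK LD1_c16 LD2_c26 LD3_c42)) :=
  Lre_e IH (LK LD1_c8 LD2_c47 LD3_c16) (LK LD1_c16 LD2_c26 LD3_c42) Lrfl Lrfl
theorem f611202 : Led Lsl_ef (LP (LK LD1_c13 LD2_c51 LD3_c53)) = (LP (LK LD1_c13 LD2_c38 LD3_c13)) :=
  Lgr Lrot73 (Lpr_dt (f611198 IH) (Lpe (f608098 IH) (Lpr_dt (f608074 IH) (Lpr_et (f608073 IH) (Lpr_dt (K55.f607378 IH) (Lpn (LP (LK LD1_c13 LD2_c38 LD3_c13))))))))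
theorem f522292 : Led Lsl_gf (LP (LK LD1_c22 LD2_c57 LD3_c4)) = (LP (LK LD1_c13 LD2_c51 LD3_c53)) :=
  Lgr Lrot76 (Lpe (f488621 IH) (Lpr_ff (K47.f522282 IH) (Lpr_gt (f514788 IH) (Lpn (LP (LK LD1_c13 LD2_c51 LD3_c53))))))
theorem f464605 : Led Lsl_at (LP (LK LD1_c22 LD2_c45 LD3_c20)) = (LP (LK LD1_c13 LD2_c25 LD3_c59)) :=
  Lre_a IH (LK LD1_c22 LD2_c45 LD3_c20) (LK LD1_c13 LD2_c25 LD3_c59) Lrfl Lrfl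
theorem f610931 : Led Lsl_at (LP (LK LD1_c22 LD2_c14 LD3_c36)) = (LP (LK LD1_c26 LD2_c19 LD3_c8)) :=
  Lgr Lrot107 (Lpe (K47.f464603 IH) (Lpe (f464605 IH) (Lpr_cf (K47.f610726 IH) (Lpn (LP (LK LD1_c26 LD2_c19 LD3_c8))))))
theorem f611122 : Led Lsl_ef (LP (LK LD1_c22 LD2_c57 LD3_c4)) = (LP (LK LD1_c26 LD2_c19 LD3_c8)) :=
  Lgr Lrot20 (Lpr_at (K47.f488624 IH) (Lpe (K47.f488622 IH) (Lpr_at (f610931 IH) (Lpn (LP (LK LD1_c26 LD2_c19 LD3_c8))))))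
theorem f611124 : Led Lsl_dt (LP (LK LD1_c22 LD2_c57 LD3_c4)) = (LP (LK LD1_c23 LD2_c6 LD3_c6)) :=
  Lgr Lrot77 (Lpr_ef (f611122 IH) (Lpr_df (f237636 IH) (Lpe (f237661 IH) (Lpe (K43.f30189 IH) (Lpr_ef (K47.f568685 IH) (Lpn (LP (LK LD1_c23 LD2_c6 LD3_c6))))))))
theorem f611210 : Led Lsl_gt (LP (LK LD1_c22 LD2_c29 LD3_c5)) = (LP (LK LD1_c16 LD2_c26 LD3_c42)) :=
  Lgr Lrot112 (Lpe (K40.f480595 IH) (Lpr_et (K40.f479575 IH) (Lpe (K40.f478641 IH) (Lpr_ef (K40.f560652 IH) (Lpr_dt (K47.f560658 IH) (Lpr_gf (K43.f576013 IH) (Lpe (f611124 IH) (Lpr_gf (f522292 IH) (Lpr_ef (f611202 IH) (Lpe (K55.f608071 IH) (Lpn (LP (LK LD1_c16 LD2_c26 LD3_c42)))))))))))))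
theorem f792428 : Led Lsl_at (LP (LK LD1_c13 LD2_c38 LD3_c20)) = (LP (LK LD1_c16 LD2_c26 LD3_c42)) :=
  Lgr Lrot26 (Lpr_ff (f792424 IH) (Lpe (K40.f533958 IH) (Lpr_gt (f611210 IH) (Lpn (LP (LK LD1_c16 LD2_c26 LD3_c42))))))
theorem f792436 : v21139 = (LP (LK LD1_c13 LD2_c38 LD3_c13)) :=
  (Llr Lrot117 (Lpe (f792398 IH) (Lpr_dt (K47.f116178 IH) (Lpr_at (f792428 IH) (Lpr_dt (K55.f607378 IH) (Lpn (LP (LK LD1_c13 LD2_c38 LD3_c13)))))))).symm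
theorem f792441 : v20827 = (LP (LK LD1_c8 LD2_c45 LD3_c61)) :=
  Lefun (Lecon (Lfl_bf (f792399 IH)) (f792436 IH)) (Lfl_bf (K46.f576598 IH))
theorem f489411 : Led Lsl_dt (LP (LK LD1_c13 LD2_c26 LD3_c40)) = (LP (LK LD1_c7 LD2_c5 LD3_c39)) :=
  Lre_d IH (LK LD1_c13 LD2_c26 LD3_c40) (LK LD1_c7 LD2_c5 LD3_c39) Lrfl Lrfl
theorem f792448 : Led Lsl_ff (LP (LK LD1_c13 LD2_c26 LD3_c40)) = (LP (LK LD1_c8 LD2_c47 LD3_c18)) :=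
  Lgr Lrot19 (Lpr_dt (f489411 IH) (Lpr_ft (f790282 IH) (Lpqs (f792441 IH) (Lpe (K55.f36674 IH) (Lpn (LP (LK LD1_c8 LD2_c47 LD3_c18)))))))
theorem f607171 : Led Lsl_gt (LP (LK LD1_c8 LD2_c47 LD3_c18)) = (LP (LK LD1_c12 LD2_c6 LD3_c58)) :=
  Lgr Lrot9 (Lpr_df (K55.f36674 IH) (Lpr_gt (K4.f36667 IH) (Lpr_ct (K43.f576594 IH) (Lpe (K39.f544198 IH) (Lpr_ct (K37.f80509 IH) (Lpe (K40.f38044 IH) (Lpr_cf (K43.f80499 IH) (Lpe (K43.f576274 IH) (Lpr_cf (f607039 IH) (Lpn (LP (LK LD1_c12 LD2_c6 LD3_c58))))))))))))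
theorem f792454 : Led Lsl_at (LP (LK LD1_c13 LD2_c26 LD3_c40)) = (LP (LK LD1_c16 LD2_c24 LD3_c14)) :=
  Lgr Lrot26 (Lpr_ff (f792448 IH) (Lpr_gt (f607171 IH) (Lpe (K46.f607035 IH) (Lpn (LP (LK LD1_c16 LD2_c24 LD3_c14))))))
theorem f792458 : v20826 = (LP (LK LD1_c8 LD2_c45 LD3_c60)) :=
  (Llr Lrot117 (Lpe (f790279 IH) (Lpr_dt (K46.f147279 IH) (Lpr_at (f792454 IH) (Lpr_dt (K46.f35880 IH) (Lpn (LP (LK LD1_c8 LD2_c45 LD3_c60)))))))).symm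
theorem f792467 : Led Lsl_ff (LP (LK LD1_c9 LD2_c46 LD3_c57)) = (LP (LK LD1_c16 LD2_c24 LD3_c14)) :=
  Lgr Lrot19 (Lpr_dt (K40.f544246 IH) (Lpr_ft (f790280 IH) (Lpqs (f792458 IH) (Lpr_dt (K46.f81295 IH) (Lpn (LP (LK LD1_c16 LD2_c24 LD3_c14)))))))
theorem f792475 : Led Lsl_ft (LP (LK LD1_c9 LD2_c46 LD3_c57)) = (LP (LK LD1_c16 LD2_c24 LD3_c14)) :=
  Lgr Lrot48 (Lpr_ff (f792467 IH) (Lpn (LP (LK LD1_c16 LD2_c24 LD3_c14))))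
theorem f792479 : Led Lsl_ff (LP (LK LD1_c8 LD2_c46 LD3_c51)) = (LP (LK LD1_c12 LD2_c22 LD3_c45)) :=
  Lgr Lrot23 (Lpe (K40.f561087 IH) (Lpr_ft (f792475 IH) (Lpe (K46.f81296 IH) (Lpn (LP (LK LD1_c12 LD2_c22 LD3_c45))))))
def v17973 : LQ := Led Lsl_ft (LP (LK LD1_c6 LD2_c24 LD3_c53))
theorem f764178 : Led Lsl_ft (LP (LK LD1_c6 LD2_c24 LD3_c53)) = v17973 :=
  Lrfl
theorem f764180 : Led Lsl_ff (LP (LK LD1_c6 LD2_c24 LD3_c53)) = v17973 :=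
  Lgr Lrot3 (Lpr_ft (f764178 IH) (Lpn v17973))
theorem f792481 : (LP (LK LD1_c8 LD2_c46 LD3_c33)) = v17973 :=
  (Llr Lrot60 (Lpe (K40.f443104 IH) (Lpr_ff (f792479 IH) (Lpe (K46.f59759 IH) (Lpr_ff (f764180 IH) (Lpn v17973)))))).symm
theorem f792484 : Led Lsl_ff (LP (LK LD1_c12 LD2_c22 LD3_c44)) = (LP (LK LD1_c14 LD2_c5 LD3_c14)) :=
  Lgr Lrot23 (Lpr_ct (K46.f81305 IH) (Lpr_ft (f764178 IH) (Lpq (f792481 IH) (Lpe (K43.f560366 IH) (Lpn (LP (LK LD1_c14 LD2_c5 LD3_c14)))))))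
theorem f792490 : Led Lsl_at (LP (LK LD1_c12 LD2_c22 LD3_c44)) = (LP (LK LD1_c14 LD2_c5 LD3_c13)) :=
  Lgr Lrot26 (Lpr_ff (f792484 IH) (Lpr_gt (K43.f159675 IH) (Lpr_gt (K47.f209181 IH) (Lpn (LP (LK LD1_c14 LD2_c5 LD3_c13))))))
theorem f792494 : Led Lsl_af (LP (LK LD1_c21 LD2_c29 LD3_c33)) = (LP (LK LD1_c23 LD2_c38 LD3_c24)) :=
  Lgr Lrot117 (Lpr_dt (K46.f81307 IH) (Lpr_at (f792490 IH) (Lpr_dt (K47.f209187 IH) (Lpn (LP (LK LD1_c23 LD2_c38 LD3_c24))))))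
theorem f792499 : Led Lsl_at (LP (LK LD1_c13 LD2_c55 LD3_c27)) = (LP (LK LD1_c21 LD2_c14 LD3_c32)) :=
  Lgr Lrot107 (Lpe (K46.f607155 IH) (Lpr_af (f792494 IH) (Lpr_cf (K47.f608288 IH) (Lpn (LP (LK LD1_c21 LD2_c14 LD3_c32))))))
theorem f792505 : Led Lsl_ff (LP (LK LD1_c13 LD2_c55 LD3_c27)) = (LP (LK LD1_c21 LD2_c14 LD3_c30)) :=
  Lgr Lrot52 (Lpr_at (f792499 IH) (Lpr_gf (K47.f568190 IH) (Lpe (K40.f543678 IH) (Lpn (LP (LK LD1_c21 LD2_c14 LD3_c30))))))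
theorem f792509 : Led Lsl_ft (LP (LK LD1_c13 LD2_c55 LD3_c27)) = (LP (LK LD1_c21 LD2_c14 LD3_c30)) :=
  Lgr Lrot48 (Lpr_ff (f792505 IH) (Lpn (LP (LK LD1_c21 LD2_c14 LD3_c30))))
theorem f792517 : Led Lsl_af (LP (LK LD1_c13 LD2_c55 LD3_c24)) = (LP (LK LD1_c21 LD2_c14 LD3_c30)) :=
  Lgr Lrot31 (Lpr_gf (K47.f607833 IH) (Lpe (K47.f534478 IH) (Lpr_ft (f792509 IH) (Lpn (LP (LK LD1_c21 LD2_c14 LD3_c30))))))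
theorem f792501 : Led Lsl_af (LP (LK LD1_c13 LD2_c55 LD3_c27)) = (LP (LK LD1_c21 LD2_c14 LD3_c32)) :=
  Lgr Lrot0 (Lpr_at (f792499 IH) (Lpn (LP (LK LD1_c21 LD2_c14 LD3_c32))))
theorem f792525 : Led Lsl_ft (LP (LK LD1_c13 LD2_c55 LD3_c24)) = (LP (LK LD1_c21 LD2_c14 LD3_c32)) :=
  Lgr Lrot101 (Lpr_af (f792517 IH) (Lpe (f792509 IH) (Lpr_af (f792501 IH) (Lpn (LP (LK LD1_c21 LD2_c14 LD3_c32))))))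
theorem f792531 : Led Lsl_ff (LP (LK LD1_c13 LD2_c55 LD3_c24)) = (LP (LK LD1_c21 LD2_c14 LD3_c32)) :=
  Lgr Lrot3 (Lpr_ft (f792525 IH) (Lpn (LP (LK LD1_c21 LD2_c14 LD3_c32))))
theorem f439413 : Led Lsl_dt (LP (LK LD1_c7 LD2_c21 LD3_c52)) = (LP (LK LD1_c13 LD2_c55 LD3_c24)) :=
  Lre_d IH (LK LD1_c7 LD2_c21 LD3_c52) (LK LD1_c13 LD2_c55 LD3_c24) Lrfl Lrfl
theorem f469288 : Led Lsl_bf (LP (LK LD1_c14 LD2_c5 LD3_c17)) = (LP (LK LD1_c13 LD2_c55 LD3_c24)) :=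
  Lgr Lrot93 (Lpr_dt (K55.f469277 IH) (Lpr_bt (K39.f469284 IH) (Lpr_dt (f439413 IH) (Lpn (LP (LK LD1_c13 LD2_c55 LD3_c24))))))
theorem f608303 : Led Lsl_bf (LP (LK LD1_c21 LD2_c14 LD3_c32)) = (LP (LK LD1_c23 LD2_c3 LD3_c28)) :=
  Lgr Lrot34 (Lpr_gf (K47.f568190 IH) (Lpe (K40.f480029 IH) (Lpr_ct (K40.f480018 IH) (Lpe (K33.f459240 IH) (Lpe (K32.f458888 IH) (Lpe (K33.f446543 IH) (Lpe (K40.f446544 IH) (Lpr_ct (K40.f459036 IH) (Lpe (K55.f466059 IH) (Lpr_cf (K55.f608298 IH) (Lpn (LP (LK LD1_c23 LD2_c3 LD3_c28)))))))))))))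
theorem f792533 : Led Lsl_ft (LP (LK LD1_c14 LD2_c5 LD3_c17)) = (LP (LK LD1_c23 LD2_c3 LD3_c28)) :=
  Lgr Lrot75 (Lpr_bf (f469288 IH) (Lpr_ff (f792531 IH) (Lpr_bf (f608303 IH) (Lpn (LP (LK LD1_c23 LD2_c3 LD3_c28))))))
theorem f792539 : Led Lsl_af (LP (LK LD1_c14 LD2_c5 LD3_c20)) = (LP (LK LD1_c23 LD2_c3 LD3_c28)) :=
  Lgr Lrot31 (Lpe (K55.f608429 IH) (Lpe (K55.f439573 IH) (Lpr_ft (f792533 IH) (Lpn (LP (LK LD1_c23 LD2_c3 LD3_c28))))))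
theorem f560380 : Led Lsl_et (LP (LK LD1_c14 LD2_c5 LD3_c20)) = (LP (LK LD1_c23 LD2_c38 LD3_c33)) :=
  Lre_e IH (LK LD1_c14 LD2_c5 LD3_c20) (LK LD1_c23 LD2_c38 LD3_c33) Lrfl Lrfl
theorem f608300 : Led Lsl_et (LP (LK LD1_c30 LD2_c52 LD3_c45)) = (LP (LK LD1_c23 LD2_c3 LD3_c28)) :=
  Lre_e IH (LK LD1_c30 LD2_c52 LD3_c45) (LK LD1_c23 LD2_c3 LD3_c28) Lrfl Lrfl
theorem f792549 : Led Lsl_at (LP (LK LD1_c23 LD2_c38 LD3_c33)) = (LP (LK LD1_c30 LD2_c52 LD3_c45)) :=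
  Lgr Lrot80 (Lpe (f560380 IH) (Lpr_af (f792539 IH) (Lpe (f608300 IH) (Lpn (LP (LK LD1_c30 LD2_c52 LD3_c45))))))
theorem f489716 : Led Lsl_et (LP (LK LD1_c7 LD2_c27 LD3_c48)) = (LP (LK LD1_c14 LD2_c5 LD3_c21)) :=
  Lre_e IH (LK LD1_c7 LD2_c27 LD3_c48) (LK LD1_c14 LD2_c5 LD3_c21) Lrfl Lrfl
theorem f560541 : Led Lsl_et (LP (LK LD1_c23 LD2_c38 LD3_c33)) = (LP (LK LD1_c14 LD2_c5 LD3_c20)) :=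
  Lre_e IH (LK LD1_c23 LD2_c38 LD3_c33) (LK LD1_c14 LD2_c5 LD3_c20) Lrfl Lrfl
theorem f560542 : Led Lsl_et (LP (LK LD1_c23 LD2_c8 LD3_c35)) = (LP (LK LD1_c30 LD2_c54 LD3_c57)) :=
  Lre_e IH (LK LD1_c23 LD2_c8 LD3_c35) (LK LD1_c30 LD2_c54 LD3_c57) Lrfl Lrfl
theorem f560543 : Led Lsl_df (LP (LK LD1_c23 LD2_c38 LD3_c33)) = (LP (LK LD1_c30 LD2_c54 LD3_c57)) :=
  Lgr Lrot70 (Lpr_et (f560541 IH) (Lpr_dt (K55.f439641 IH) (Lpr_et (f489716 IH) (Lpr_dt (K43.f560534 IH) (Lpr_et (f560542 IH) (Lpn (LP (LK LD1_c30 LD2_c54 LD3_c57))))))))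
theorem f493705 : Led Lsl_bt (LP (LK LD1_c13 LD2_c25 LD3_c15)) = (LP (LK LD1_c7 LD2_c4 LD3_c46)) :=
  Lre_b IH (LK LD1_c13 LD2_c25 LD3_c15) (LK LD1_c7 LD2_c4 LD3_c46) Lrfl Lrfl
theorem f493706 : Led Lsl_et (LP (LK LD1_c7 LD2_c17 LD3_c45)) = (LP (LK LD1_c13 LD2_c25 LD3_c15)) :=
  Lgr Lrot74 (Lpe (K35.f476449 IH) (Lpr_ef (f493703 IH) (Lpe (f493705 IH) (Lpn (LP (LK LD1_c13 LD2_c25 LD3_c15))))))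
theorem f493719 : Led Lsl_ef (LP (LK LD1_c7 LD2_c17 LD3_c45)) = (LP (LK LD1_c13 LD2_c25 LD3_c15)) :=
  Lgr Lrot88 (Lpr_et (f493706 IH) (Lpn (LP (LK LD1_c13 LD2_c25 LD3_c15))))
theorem f493725 : Led Lsl_ct (LP (LK LD1_c7 LD2_c17 LD3_c47)) = (LP (LK LD1_c13 LD2_c25 LD3_c15)) :=
  Lgr Lrot15 (Lpe (K47.f493724 IH) (Lpe (K35.f5364 IH) (Lpr_ef (f493719 IH) (Lpn (LP (LK LD1_c13 LD2_c25 LD3_c15))))))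
theorem f493714 : Led Lsl_at (LP (LK LD1_c13 LD2_c25 LD3_c15)) = (LP (LK LD1_c22 LD2_c44 LD3_c1)) :=
  Lre_a IH (LK LD1_c13 LD2_c25 LD3_c15) (LK LD1_c22 LD2_c44 LD3_c1) Lrfl Lrfl
theorem f493729 : Led Lsl_cf (LP (LK LD1_c13 LD2_c48 LD3_c10)) = (LP (LK LD1_c22 LD2_c44 LD3_c1)) :=
  Lgr Lrot1 (Lpr_at (K47.f493728 IH) (Lpr_ct (f493725 IH) (Lpr_at (f493714 IH) (Lpn (LP (LK LD1_c22 LD2_c44 LD3_c1))))))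
theorem f493733 : Led Lsl_ct (LP (LK LD1_c13 LD2_c48 LD3_c10)) = (LP (LK LD1_c22 LD2_c44 LD3_c1)) :=
  Lgr Lrot59 (Lpr_cf (f493729 IH) (Lpn (LP (LK LD1_c22 LD2_c44 LD3_c1))))
theorem f610953 : Led Lsl_gf (LP (LK LD1_c22 LD2_c44 LD3_c1)) = (LP (LK LD1_c13 LD2_c55 LD3_c25)) :=
  Lgr Lrot129 (Lpe (f493733 IH) (Lpe (K47.f526566 IH) (Lpe (K47.f566247 IH) (Lpr_bf (K47.f566266 IH) (Lpr_ct (K47.f511749 IH) (Lpe (f521458 IH) (Lpe (K47.f566345 IH) (Lpr_bt (K47.f610722 IH) (Lpr_gt (f610949 IH) (Lpe (f576774 IH) (Lpn (LP (LK LD1_c13 LD2_c55 LD3_c25)))))))))))))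
theorem f493721 : Led Lsl_at (LP (LK LD1_c22 LD2_c44 LD3_c1)) = (LP (LK LD1_c13 LD2_c25 LD3_c15)) :=
  Lre_a IH (LK LD1_c22 LD2_c44 LD3_c1) (LK LD1_c13 LD2_c25 LD3_c15) Lrfl Lrfl
theorem f493722 : Led Lsl_et (LP (LK LD1_c13 LD2_c48 LD3_c8)) = (LP (LK LD1_c22 LD2_c44 LD3_c1)) :=
  Lgr Lrot123 (Lpe (K48.f476460 IH) (Lpr_ef (f493719 IH) (Lpe (f493721 IH) (Lpn (LP (LK LD1_c22 LD2_c44 LD3_c1))))))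
theorem f493741 : Led Lsl_dt (LP (LK LD1_c13 LD2_c48 LD3_c8)) = (LP (LK LD1_c23 LD2_c16 LD3_c16)) :=
  Lre_d IH (LK LD1_c13 LD2_c48 LD3_c8) (LK LD1_c23 LD2_c16 LD3_c16) Lrfl Lrfl
theorem f476481 : Led Lsl_at (LP (LK LD1_c13 LD2_c48 LD3_c12)) = (LP (LK LD1_c23 LD2_c16 LD3_c16)) :=
  Lre_a IH (LK LD1_c13 LD2_c48 LD3_c12) (LK LD1_c23 LD2_c16 LD3_c16) Lrfl Lrfl
theorem f525497 : Led Lsl_at (LP (LK LD1_c14 LD2_c0 LD3_c29)) = (LP (LK LD1_c7 LD2_c24 LD3_c18)) :=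
  Lre_a IH (LK LD1_c14 LD2_c0 LD3_c29) (LK LD1_c7 LD2_c24 LD3_c18) Lrfl Lrfl
theorem f525498 : Led Lsl_ft (LP (LK LD1_c23 LD2_c16 LD3_c16)) = (LP (LK LD1_c14 LD2_c0 LD3_c29)) :=
  Lgr Lrot101 (Lpe (f476481 IH) (Lpr_ff (K35.f525495 IH) (Lpe (f525497 IH) (Lpn (LP (LK LD1_c14 LD2_c0 LD3_c29))))))
theorem f456507 : Led Lsl_gt (LP (LK LD1_c14 LD2_c0 LD3_c31)) = (LP (LK LD1_c7 LD2_c24 LD3_c18)) :=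
  Lre_g IH (LK LD1_c14 LD2_c0 LD3_c31) (LK LD1_c7 LD2_c24 LD3_c18) Lrfl Lrfl
theorem f526708 : Led Lsl_gt (LP (LK LD1_c23 LD2_c16 LD3_c16)) = (LP (LK LD1_c14 LD2_c0 LD3_c31)) :=
  Lgr Lrot5 (Lpr_ft (f525498 IH) (Lpr_at (f525497 IH) (Lpe (f456507 IH) (Lpn (LP (LK LD1_c14 LD2_c0 LD3_c31))))))
theorem f469290 : Led Lsl_et (LP (LK LD1_c7 LD2_c21 LD3_c52)) = (LP (LK LD1_c13 LD2_c55 LD3_c25)) :=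
  Lre_e IH (LK LD1_c7 LD2_c21 LD3_c52) (LK LD1_c13 LD2_c55 LD3_c25) Lrfl Lrfl
theorem f480585 : Led Lsl_dt (LP (LK LD1_c7 LD2_c54 LD3_c30)) = (LP (LK LD1_c14 LD2_c55 LD3_c6)) :=
  Lre_d IH (LK LD1_c7 LD2_c54 LD3_c30) (LK LD1_c14 LD2_c55 LD3_c6) Lrfl Lrfl
theorem f540379 : Led Lsl_et (LP (LK LD1_c6 LD2_c14 LD3_c57)) = (LP (LK LD1_c3 LD2_c4 LD3_c31)) :=
  Lre_e IH (LK LD1_c6 LD2_c14 LD3_c57) (LK LD1_c3 LD2_c4 LD3_c31) Lrfl Lrfl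
theorem f485034 : Led Lsl_ct (LP (LK LD1_c14 LD2_c24 LD3_c41)) = (LP (LK LD1_c14 LD2_c19 LD3_c26)) :=
  Lgr Lrot40 (Lpr_ff (K33.f485029 IH) (Lpr_cf (K33.f162084 IH) (Lpe (K34.f162090 IH) (Lpn (LP (LK LD1_c14 LD2_c19 LD3_c26))))))
theorem f108114 : Led Lsl_bt (LP (LK LD1_c7 LD2_c25 LD3_c9)) = (LP (LK LD1_c14 LD2_c1 LD3_c50)) :=
  Lre_b IH (LK LD1_c7 LD2_c25 LD3_c9) (LK LD1_c14 LD2_c1 LD3_c50) Lrfl Lrfl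
theorem f560775 : Led Lsl_gt (LP (LK LD1_c14 LD2_c48 LD3_c60)) = (LP (LK LD1_c14 LD2_c1 LD3_c50)) :=
  Lgr Lrot164 (Lpr_bf (f485342 IH) (Lpr_ct (K33.f485140 IH) (Lpe (K34.f486800 IH) (Lpe (f485034 IH) (Lpr_gf (K34.f516392 IH) (Lpe (K46.f515139 IH) (Lpr_ct (K46.f482573 IH) (Lpr_gf (K47.f560769 IH) (Lpr_cf (K40.f108100 IH) (Lpr_bt (f108114 IH) (Lpn (LP (LK LD1_c14 LD2_c1 LD3_c50)))))))))))))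
theorem f204046 : Led Lsl_cf (LP (LK LD1_c14 LD2_c1 LD3_c50)) = (LP (LK LD1_c13 LD2_c52 LD3_c44)) :=
  Lgr Lrot11 (Lpr_ct (K40.f203659 IH) (Lpn (LP (LK LD1_c13 LD2_c52 LD3_c44))))
theorem f204045 : Led Lsl_bt (LP (LK LD1_c13 LD2_c52 LD3_c44)) = (LP (LK LD1_c7 LD2_c20 LD3_c21)) :=
  Lre_b IH (LK LD1_c13 LD2_c52 LD3_c44) (LK LD1_c7 LD2_c20 LD3_c21) Lrfl Lrfl
theorem f560781 : Led Lsl_gf (LP (LK LD1_c3 LD2_c54 LD3_c31)) = (LP (LK LD1_c7 LD2_c20 LD3_c21)) :=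
  Lgr Lrot124 (Lpe (K40.f123425 IH) (Lpr_ct (K33.f123424 IH) (Lpr_gt (K33.f123439 IH) (Lpe (K33.f123391 IH) (Lpr_bt (K33.f123177 IH) (Lpe (K33.f123430 IH) (Lpr_ct (K33.f123435 IH) (Lpr_gt (f560775 IH) (Lpr_cf (f204046 IH) (Lpr_bt (f204045 IH) (Lpn (LP (LK LD1_c7 LD2_c20 LD3_c21)))))))))))))
theorem f456119 : Led Lsl_et (LP (LK LD1_c7 LD2_c50 LD3_c45)) = (LP (LK LD1_c3 LD2_c54 LD3_c31)) :=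
  Lre_e IH (LK LD1_c7 LD2_c50 LD3_c45) (LK LD1_c3 LD2_c54 LD3_c31) Lrfl Lrfl
theorem f482779 : Led Lsl_dt (LP (LK LD1_c7 LD2_c50 LD3_c45)) = (LP (LK LD1_c14 LD2_c48 LD3_c7)) :=
  Lre_d IH (LK LD1_c7 LD2_c50 LD3_c45) (LK LD1_c14 LD2_c48 LD3_c7) Lrfl Lrfl
theorem f445802 : Led Lsl_et (LP (LK LD1_c3 LD2_c40 LD3_c6)) = (LP (LK LD1_c7 LD2_c20 LD3_c21)) :=
  Lre_e IH (LK LD1_c3 LD2_c40 LD3_c6) (LK LD1_c7 LD2_c20 LD3_c21) Lrfl Lrfl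
theorem f560783 : Led Lsl_gt (LP (LK LD1_c14 LD2_c48 LD3_c7)) = (LP (LK LD1_c14 LD2_c5 LD3_c8)) :=
  Lgr Lrot112 (Lpe (f482779 IH) (Lpr_et (f456119 IH) (Lpr_gf (f560781 IH) (Lpe (f445802 IH) (Lpr_dt (K39.f159461 IH) (Lpr_gf (K39.f560150 IH) (Lpe (K14.f59081 IH) (Lpq (K39.f540369 IH) (Lpe (K37.f523747 IH) (Lpe (K24.f116214 IH) (Lpr_dt (K24.f116212 IH) (Lpn (LP (LK LD1_c14 LD2_c5 LD3_c8))))))))))))))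
theorem f482776 : Led Lsl_gt (LP (LK LD1_c14 LD2_c48 LD3_c6)) = (LP (LK LD1_c7 LD2_c50 LD3_c45)) :=
  Lre_g IH (LK LD1_c14 LD2_c48 LD3_c6) (LK LD1_c7 LD2_c50 LD3_c45) Lrfl Lrfl
theorem f608360 : Led Lsl_et (LP (LK LD1_c14 LD2_c55 LD3_c4)) = (LP (LK LD1_c14 LD2_c48 LD3_c6)) :=
  Lgr Lrot121 (Lpr_dt (f608280 IH) (Lpe (K47.f205649 IH) (Lpe (K39.f75764 IH) (Lpr_et (f540379 IH) (Lpq (K39.f540369 IH) (Lpe (K37.f523747 IH) (Lpe (K24.f116214 IH) (Lpr_dt (K24.f116212 IH) (Lpe (f560783 IH) (Lpe (f482779 IH) (Lpe (f482776 IH) (Lpn (LP (LK LD1_c14 LD2_c48 LD3_c6))))))))))))))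
theorem f608365 : Led Lsl_ef (LP (LK LD1_c14 LD2_c55 LD3_c4)) = (LP (LK LD1_c14 LD2_c48 LD3_c6)) :=
  Lgr Lrot88 (Lpr_et (f608360 IH) (Lpn (LP (LK LD1_c14 LD2_c48 LD3_c6))))
theorem f611007 : Led Lsl_df (LP (LK LD1_c14 LD2_c0 LD3_c31)) = (LP (LK LD1_c14 LD2_c48 LD3_c6)) :=
  Lgr Lrot168 (Lpe (f526708 IH) (Lpe (f493741 IH) (Lpr_et (f493722 IH) (Lpr_gf (f610953 IH) (Lpe (f469290 IH) (Lpr_dt (f439413 IH) (Lpr_gf (K47.f607833 IH) (Lpe (f480585 IH) (Lpe (f451968 IH) (Lpr_ef (f608365 IH) (Lpn (LP (LK LD1_c14 LD2_c48 LD3_c6)))))))))))))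
theorem f456510 : Led Lsl_et (LP (LK LD1_c3 LD2_c41 LD3_c48)) = (LP (LK LD1_c7 LD2_c24 LD3_c19)) :=
  Lre_e IH (LK LD1_c3 LD2_c41 LD3_c48) (LK LD1_c7 LD2_c24 LD3_c19) Lrfl Lrfl
theorem f437921 : Led Lsl_gt (LP (LK LD1_c7 LD2_c24 LD3_c19)) = (LP (LK LD1_c14 LD2_c0 LD3_c34)) :=
  Lre_g IH (LK LD1_c7 LD2_c24 LD3_c19) (LK LD1_c14 LD2_c0 LD3_c34) Lrfl Lrfl
theorem f528255 : Led Lsl_gt (LP (LK LD1_c7 LD2_c52 LD3_c38)) = (LP (LK LD1_c14 LD2_c51 LD3_c32)) :=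
  Lre_g IH (LK LD1_c7 LD2_c52 LD3_c38) (LK LD1_c14 LD2_c51 LD3_c32) Lrfl Lrfl
theorem f528256 : Led Lsl_gt (LP (LK LD1_c14 LD2_c51 LD3_c32)) = (LP (LK LD1_c23 LD2_c8 LD3_c33)) :=
  Lgr Lrot46 (Lpe (f528255 IH) (Lpr_ft (K40.f528223 IH) (Lpr_at (K47.f487903 IH) (Lpn (LP (LK LD1_c23 LD2_c8 LD3_c33))))))
theorem f611014 : Led Lsl_dt (LP (LK LD1_c14 LD2_c0 LD3_c34)) = (LP (LK LD1_c14 LD2_c51 LD3_c32)) :=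
  Lgr Lrot171 (Lpe (f437921 IH) (Lpe (f456510 IH) (Lpr_dt (K35.f456516 IH) (Lpe (f456507 IH) (Lpr_df (f611007 IH) (Lpe (f608365 IH) (Lpr_gf (f529598 IH) (Lpr_ef (K47.f487879 IH) (Lpr_dt (K47.f487909 IH) (Lpe (f528256 IH) (Lpn (LP (LK LD1_c14 LD2_c51 LD3_c32)))))))))))))
theorem f456642 : Led Lsl_dt (LP (LK LD1_c3 LD2_c55 LD3_c23)) = (LP (LK LD1_c7 LD2_c52 LD3_c38)) :=
  Lre_d IH (LK LD1_c3 LD2_c55 LD3_c23) (LK LD1_c7 LD2_c52 LD3_c38) Lrfl Lrfl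
theorem f209131 : Led Lsl_et (LP (LK LD1_c3 LD2_c43 LD3_c35)) = (LP (LK LD1_c7 LD2_c27 LD3_c45)) :=
  Lre_e IH (LK LD1_c3 LD2_c43 LD3_c35) (LK LD1_c7 LD2_c27 LD3_c45) Lrfl Lrfl
theorem f611020 : Led Lsl_et (LP (LK LD1_c14 LD2_c0 LD3_c34)) = (LP (LK LD1_c13 LD2_c38 LD3_c19)) :=
  Lgr Lrot185 (Lpr_dt (f611014 IH) (Lpe (f528255 IH) (Lpe (f456642 IH) (Lpe (K40.f560605 IH) (Lpe (K40.f108099 IH) (Lpr_dt (K39.f538830 IH) (Lpe (K46.f554241 IH) (Lpe (K46.f208945 IH) (Lpr_et (f209131 IH) (Lpe (K37.f466181 IH) (Lpn (LP (LK LD1_c13 LD2_c38 LD3_c19)))))))))))))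
theorem f611016 : Led Lsl_df (LP (LK LD1_c14 LD2_c0 LD3_c34)) = (LP (LK LD1_c14 LD2_c51 LD3_c32)) :=
  Lgr Lrot38 (Lpr_dt (f611014 IH) (Lpn (LP (LK LD1_c14 LD2_c51 LD3_c32))))
theorem f528259 : Led Lsl_et (LP (LK LD1_c24 LD2_c37 LD3_c57)) = (LP (LK LD1_c14 LD2_c51 LD3_c32)) :=
  Lre_e IH (LK LD1_c24 LD2_c37 LD3_c57) (LK LD1_c14 LD2_c51 LD3_c32) Lrfl Lrfl
theorem f466183 : Led Lsl_dt (LP (LK LD1_c13 LD2_c38 LD3_c19)) = (LP (LK LD1_c23 LD2_c3 LD3_c28)) :=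
  Lre_d IH (LK LD1_c13 LD2_c38 LD3_c19) (LK LD1_c23 LD2_c3 LD3_c28) Lrfl Lrfl
theorem f466188 : Led Lsl_et (LP (LK LD1_c23 LD2_c3 LD3_c28)) = (LP (LK LD1_c30 LD2_c52 LD3_c45)) :=
  Lre_e IH (LK LD1_c23 LD2_c3 LD3_c28) (LK LD1_c30 LD2_c52 LD3_c45) Lrfl Lrfl
theorem f611024 : Led Lsl_df (LP (LK LD1_c24 LD2_c37 LD3_c57)) = (LP (LK LD1_c30 LD2_c52 LD3_c45)) :=
  Lgr Lrot70 (Lpr_et (f528259 IH) (Lpe (f611016 IH) (Lpr_et (f611020 IH) (Lpr_dt (f466183 IH) (Lpr_et (f466188 IH) (Lpn (LP (LK LD1_c30 LD2_c52 LD3_c45))))))))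
theorem f792553 : Led Lsl_af (LP (LK LD1_c30 LD2_c54 LD3_c57)) = (LP (LK LD1_c24 LD2_c37 LD3_c57)) :=
  Lgr Lrot117 (Lpe (f560543 IH) (Lpr_at (f792549 IH) (Lpe (f611024 IH) (Lpn (LP (LK LD1_c24 LD2_c37 LD3_c57))))))
theorem f487910 : Led Lsl_et (LP (LK LD1_c30 LD2_c54 LD3_c57)) = (LP (LK LD1_c23 LD2_c8 LD3_c35)) :=
  Lre_e IH (LK LD1_c30 LD2_c54 LD3_c57) (LK LD1_c23 LD2_c8 LD3_c35) Lrfl Lrfl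
theorem f560791 : Led Lsl_et (LP (LK LD1_c14 LD2_c51 LD3_c32)) = (LP (LK LD1_c24 LD2_c37 LD3_c57)) :=
  Lre_e IH (LK LD1_c14 LD2_c51 LD3_c32) (LK LD1_c24 LD2_c37 LD3_c57) Lrfl Lrfl
theorem f792557 : Led Lsl_at (LP (LK LD1_c23 LD2_c8 LD3_c35)) = (LP (LK LD1_c14 LD2_c51 LD3_c32)) :=
  Lgr Lrot80 (Lpe (f487910 IH) (Lpr_af (f792553 IH) (Lpe (f560791 IH) (Lpn (LP (LK LD1_c14 LD2_c51 LD3_c32))))))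
theorem f792565 : Led Lsl_ff (LP (LK LD1_c23 LD2_c8 LD3_c35)) = (LP (LK LD1_c14 LD2_c51 LD3_c33)) :=
  Lgr Lrot52 (Lpr_at (f792557 IH) (Lpe (f528255 IH) (Lpe (K47.f456635 IH) (Lpn (LP (LK LD1_c14 LD2_c51 LD3_c33))))))
theorem f792571 : Led Lsl_ft (LP (LK LD1_c23 LD2_c8 LD3_c35)) = (LP (LK LD1_c14 LD2_c51 LD3_c33)) :=
  Lgr Lrot48 (Lpr_ff (f792565 IH) (Lpn (LP (LK LD1_c14 LD2_c51 LD3_c33))))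
theorem f792575 : Led Lsl_ff (LP (LK LD1_c14 LD2_c5 LD3_c21)) = (LP (LK LD1_c14 LD2_c0 LD3_c35)) :=
  Lgr Lrot19 (Lpr_dt (K43.f560534 IH) (Lpr_ft (f792571 IH) (Lpe (K47.f611227 IH) (Lpn (LP (LK LD1_c14 LD2_c0 LD3_c35))))))
theorem f792589 : Led Lsl_at (LP (LK LD1_c14 LD2_c5 LD3_c21)) = (LP (LK LD1_c14 LD2_c0 LD3_c34)) :=
  Lgr Lrot26 (Lpr_ff (f792575 IH) (Lpr_gt (K47.f456503 IH) (Lpr_gt (f437921 IH) (Lpn (LP (LK LD1_c14 LD2_c0 LD3_c34))))))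
theorem f482564 : Led Lsl_gt (LP (LK LD1_c13 LD2_c33 LD3_c10)) = (LP (LK LD1_c7 LD2_c9 LD3_c19)) :=
  Lre_g IH (LK LD1_c13 LD2_c33 LD3_c10) (LK LD1_c7 LD2_c9 LD3_c19) Lrfl Lrfl
theorem f560723 : Led Lsl_ef (LP (LK LD1_c13 LD2_c33 LD3_c10)) = (LP (LK LD1_c21 LD2_c29 LD3_c60)) :=
  Lgr Lrot167 (Lpr_gt (f482564 IH) (Lpr_dt (K47.f482583 IH) (Lpr_gt (K47.f560717 IH) (Lpe (K47.f108286 IH) (Lpr_et (K24.f108285 IH) (Lpe (K24.f108283 IH) (Lpe (K36.f108287 IH) (Lpr_dt (K36.f540303 IH) (Lpr_gt (K55.f493998 IH) (Lpe (K55.f540310 IH) (Lpn (LP (LK LD1_c21 LD2_c29 LD3_c60)))))))))))))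
theorem f611204 : Led Lsl_et (LP (LK LD1_c13 LD2_c51 LD3_c53)) = (LP (LK LD1_c13 LD2_c38 LD3_c13)) :=
  Lgr Lrot121 (Lpr_dt (f611198 IH) (Lpe (K48.f6041 IH) (Lpe (K40.f6046 IH) (Lpr_et (K46.f482555 IH) (Lpe (f482564 IH) (Lpr_ef (f560723 IH) (Lpr_dt (K55.f540310 IH) (Lpe (K55.f493998 IH) (Lpe (K36.f540303 IH) (Lpe (K39.f116250 IH) (Lpn (LP (LK LD1_c13 LD2_c38 LD3_c13)))))))))))))
theorem f611206 : Led Lsl_cf (LP (LK LD1_c13 LD2_c51 LD3_c53)) = (LP (LK LD1_c14 LD2_c5 LD3_c21)) :=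
  Lgr Lrot39 (Lpr_et (f611204 IH) (Lpe (K39.f464326 IH) (Lpr_et (f489716 IH) (Lpn (LP (LK LD1_c14 LD2_c5 LD3_c21))))))
theorem f611208 : Led Lsl_ct (LP (LK LD1_c13 LD2_c51 LD3_c53)) = (LP (LK LD1_c14 LD2_c5 LD3_c21)) :=
  Lgr Lrot59 (Lpr_cf (f611206 IH) (Lpn (LP (LK LD1_c14 LD2_c5 LD3_c21))))
theorem f611026 : Led Lsl_ef (LP (LK LD1_c14 LD2_c0 LD3_c34)) = (LP (LK LD1_c13 LD2_c38 LD3_c19)) :=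
  Lgr Lrot88 (Lpr_et (f611020 IH) (Lpn (LP (LK LD1_c13 LD2_c38 LD3_c19))))
theorem f611028 : Led Lsl_ct (LP (LK LD1_c14 LD2_c0 LD3_c34)) = (LP (LK LD1_c13 LD2_c38 LD3_c21)) :=
  Lgr Lrot15 (Lpr_ef (f611026 IH) (Lpe (K43.f466185 IH) (Lpe (K47.f519566 IH) (Lpn (LP (LK LD1_c13 LD2_c38 LD3_c21))))))
theorem f792591 : Led Lsl_af (LP (LK LD1_c13 LD2_c51 LD3_c53)) = (LP (LK LD1_c13 LD2_c38 LD3_c21)) :=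
  Lgr Lrot68 (Lpr_ct (f611208 IH) (Lpr_at (f792589 IH) (Lpr_ct (f611028 IH) (Lpn (LP (LK LD1_c13 LD2_c38 LD3_c21))))))
theorem f792601 : Led Lsl_ft (LP (LK LD1_c13 LD2_c51 LD3_c54)) = (LP (LK LD1_c13 LD2_c38 LD3_c21)) :=
  Lgr Lrot2 (Lpr_gt (f514833 IH) (Lpr_gt (f514788 IH) (Lpr_af (f792591 IH) (Lpn (LP (LK LD1_c13 LD2_c38 LD3_c21))))))
theorem f792609 : Led Lsl_ff (LP (LK LD1_c13 LD2_c51 LD3_c54)) = (LP (LK LD1_c13 LD2_c38 LD3_c21)) :=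
  Lgr Lrot3 (Lpr_ft (f792601 IH) (Lpn (LP (LK LD1_c13 LD2_c38 LD3_c21))))
theorem f792615 : Led Lsl_at (LP (LK LD1_c13 LD2_c51 LD3_c54)) = (LP (LK LD1_c22 LD2_c57 LD3_c3)) :=
  Lgr Lrot26 (Lpr_ff (f792609 IH) (Lpr_gt (K47.f610668 IH) (Lpr_gt (K47.f450809 IH) (Lpn (LP (LK LD1_c22 LD2_c57 LD3_c3))))))
theorem f792595 : Led Lsl_at (LP (LK LD1_c13 LD2_c51 LD3_c53)) = (LP (LK LD1_c13 LD2_c38 LD3_c21)) :=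
  Lgr Lrot100 (Lpr_af (f792591 IH) (Lpn (LP (LK LD1_c13 LD2_c38 LD3_c21))))
theorem f792619 : Led Lsl_ff (LP (LK LD1_c13 LD2_c51 LD3_c53)) = (LP (LK LD1_c22 LD2_c57 LD3_c3)) :=
  Lgr Lrot30 (Lpr_at (f792595 IH) (Lpe (f792609 IH) (Lpr_at (f792615 IH) (Lpn (LP (LK LD1_c22 LD2_c57 LD3_c3))))))
theorem f489405 : Led Lsl_et (LP (LK LD1_c7 LD2_c12 LD3_c3)) = (LP (LK LD1_c13 LD2_c38 LD3_c17)) :=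
  Lre_e IH (LK LD1_c7 LD2_c12 LD3_c3) (LK LD1_c13 LD2_c38 LD3_c17) Lrfl Lrfl
theorem f792623 : Led Lsl_ft (LP (LK LD1_c13 LD2_c38 LD3_c17)) = (LP (LK LD1_c22 LD2_c49 LD3_c40)) :=
  Lgr Lrot86 (Lpe (f489405 IH) (Lpr_ff (f792400 IH) (Lpqs (f792436 IH) (Lpe (f611204 IH) (Lpr_ff (f792619 IH) (Lpr_ef (K47.f610685 IH) (Lpn (LP (LK LD1_c22 LD2_c49 LD3_c40)))))))))
theorem f792631 : Led Lsl_ff (LP (LK LD1_c13 LD2_c38 LD3_c17)) = (LP (LK LD1_c22 LD2_c49 LD3_c40)) :=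
  Lgr Lrot3 (Lpr_ft (f792623 IH) (Lpn (LP (LK LD1_c22 LD2_c49 LD3_c40))))
theorem f558925 : Led Lsl_df (LP (LK LD1_c13 LD2_c26 LD3_c41)) = (LP (LK LD1_c9 LD2_c45 LD3_c8)) :=
  Lgr Lrot38 (Lpr_dt (K40.f558921 IH) (Lpn (LP (LK LD1_c9 LD2_c45 LD3_c8))))
theorem f489399 : Led Lsl_et (LP (LK LD1_c13 LD2_c38 LD3_c17)) = (LP (LK LD1_c7 LD2_c12 LD3_c3)) :=
  Lre_e IH (LK LD1_c13 LD2_c38 LD3_c17) (LK LD1_c7 LD2_c12 LD3_c3) Lrfl Lrfl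
theorem f489400 : Led Lsl_et (LP (LK LD1_c7 LD2_c5 LD3_c39)) = (LP (LK LD1_c13 LD2_c26 LD3_c41)) :=
  Lre_e IH (LK LD1_c7 LD2_c5 LD3_c39) (LK LD1_c13 LD2_c26 LD3_c41) Lrfl Lrfl
theorem f489401 : Led Lsl_bf (LP (LK LD1_c13 LD2_c38 LD3_c17)) = (LP (LK LD1_c13 LD2_c26 LD3_c41)) :=
  Lgr Lrot96 (Lpr_et (f489399 IH) (Lpr_bt (K37.f489392 IH) (Lpr_et (f489400 IH) (Lpn (LP (LK LD1_c13 LD2_c26 LD3_c41))))))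
theorem f172785 : Led Lsl_bt (LP (LK LD1_c17 LD2_c54 LD3_c46)) = (LP (LK LD1_c9 LD2_c45 LD3_c8)) :=
  Lre_b IH (LK LD1_c17 LD2_c54 LD3_c46) (LK LD1_c9 LD2_c45 LD3_c8) Lrfl Lrfl
theorem f558946 : Led Lsl_dt (LP (LK LD1_c13 LD2_c38 LD3_c17)) = (LP (LK LD1_c17 LD2_c54 LD3_c46)) :=
  Lgr Lrot79 (Lpr_bf (f489401 IH) (Lpr_df (f558925 IH) (Lpe (f172785 IH) (Lpn (LP (LK LD1_c17 LD2_c54 LD3_c46))))))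
theorem f792637 : Led Lsl_ft (LP (LK LD1_c17 LD2_c54 LD3_c46)) = (LP (LK LD1_c13 LD2_c29 LD3_c18)) :=
  Lgr Lrot54 (Lpe (f558946 IH) (Lpr_ff (f792631 IH) (Lpe (K47.f470367 IH) (Lpn (LP (LK LD1_c13 LD2_c29 LD3_c18))))))
theorem f561123 : Led Lsl_gt (LP (LK LD1_c17 LD2_c54 LD3_c46)) = (LP (LK LD1_c12 LD2_c6 LD3_c36)) :=
  Lgr Lrot112 (Lpe (f558946 IH) (Lpr_et (f489399 IH) (Lpe (K37.f106229 IH) (Lpe (K4.f108278 IH) (Lpr_dt (K40.f519562 IH) (Lpqs (K40.f540323 IH) (Lpr_gf (K31.f272460 IH) (Lpe (K40.f542967 IH) (Lpr_gf (K8.f160475 IH) (Lpe (K28.f11778 IH) (Lpr_dt (K40.f561117 IH) (Lpn (LP (LK LD1_c12 LD2_c6 LD3_c36))))))))))))))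
theorem f241357 : Led Lsl_gt (LP (LK LD1_c12 LD2_c6 LD3_c36)) = (LP (LK LD1_c21 LD2_c12 LD3_c39)) :=
  Lre_g IH (LK LD1_c12 LD2_c6 LD3_c36) (LK LD1_c21 LD2_c12 LD3_c39) Lrfl Lrfl
theorem f792643 : Led Lsl_af (LP (LK LD1_c21 LD2_c12 LD3_c39)) = (LP (LK LD1_c13 LD2_c29 LD3_c18)) :=
  Lgr Lrot31 (Lpe (f241357 IH) (Lpe (f561123 IH) (Lpr_ft (f792637 IH) (Lpn (LP (LK LD1_c13 LD2_c29 LD3_c18))))))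
theorem f198416 : Led Lsl_dt (LP (LK LD1_c29 LD2_c53 LD3_c57)) = (LP (LK LD1_c21 LD2_c12 LD3_c5)) :=
  Lre_d IH (LK LD1_c29 LD2_c53 LD3_c57) (LK LD1_c21 LD2_c12 LD3_c5) Lrfl Lrfl
theorem f588326 : Led Lsl_et (LP (LK LD1_c29 LD2_c53 LD3_c57)) = (LP (LK LD1_c21 LD2_c12 LD3_c39)) :=
  Lgr Lrot122 (Lpr_dt (f198416 IH) (Lpr_gt (f198414 IH) (Lpr_df (K47.f410617 IH) (Lpr_et (K47.f101379 IH) (Lpe (K41.f538874 IH) (Lpr_dt (K41.f30402 IH) (Lpr_gt (K45.f588322 IH) (Lpe (K13.f241562 IH) (Lpr_et (K40.f241301 IH) (Lpr_gt (f241357 IH) (Lpn (LP (LK LD1_c21 LD2_c12 LD3_c39)))))))))))))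
theorem f588328 : Led Lsl_ef (LP (LK LD1_c29 LD2_c53 LD3_c57)) = (LP (LK LD1_c21 LD2_c12 LD3_c39)) :=
  Lgr Lrot88 (Lpr_et (f588326 IH) (Lpn (LP (LK LD1_c21 LD2_c12 LD3_c39))))
theorem f792649 : Led Lsl_at (LP (LK LD1_c29 LD2_c53 LD3_c57)) = (LP (LK LD1_c22 LD2_c49 LD3_c41)) :=
  Lgr Lrot80 (Lpr_ef (f588328 IH) (Lpr_af (f792643 IH) (Lpe (K47.f553305 IH) (Lpn (LP (LK LD1_c22 LD2_c49 LD3_c41))))))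
theorem f792655 : Led Lsl_af (LP (LK LD1_c21 LD2_c12 LD3_c5)) = (LP (LK LD1_c24 LD2_c57 LD3_c49)) :=
  Lgr Lrot117 (Lpr_dt (f198415 IH) (Lpr_at (f792649 IH) (Lpr_dt (K47.f592479 IH) (Lpn (LP (LK LD1_c24 LD2_c57 LD3_c49))))))
theorem f198412 : Led Lsl_gt (LP (LK LD1_c12 LD2_c6 LD3_c4)) = (LP (LK LD1_c21 LD2_c12 LD3_c4)) :=
  Lre_g IH (LK LD1_c12 LD2_c6 LD3_c4) (LK LD1_c21 LD2_c12 LD3_c4) Lrfl Lrfl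
theorem f410658 : Led Lsl_gf (LP (LK LD1_c24 LD2_c57 LD3_c50)) = (LP (LK LD1_c21 LD2_c12 LD3_c4)) :=
  Lgr Lrot76 (Lpr_af (f410650 IH) (Lpe (K47.f198421 IH) (Lpr_gt (f198412 IH) (Lpn (LP (LK LD1_c21 LD2_c12 LD3_c4))))))
theorem f792661 : Led Lsl_ft (LP (LK LD1_c21 LD2_c12 LD3_c4)) = (LP (LK LD1_c24 LD2_c57 LD3_c49)) :=
  Lgr Lrot2 (Lpe (f410658 IH) (Lpr_gt (f410652 IH) (Lpr_af (f792655 IH) (Lpn (LP (LK LD1_c24 LD2_c57 LD3_c49))))))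
theorem f792667 : Led Lsl_ff (LP (LK LD1_c21 LD2_c12 LD3_c4)) = (LP (LK LD1_c24 LD2_c57 LD3_c49)) :=
  Lgr Lrot3 (Lpr_ft (f792661 IH) (Lpn (LP (LK LD1_c24 LD2_c57 LD3_c49))))
theorem f227883 : Led Lsl_gt (LP (LK LD1_c15 LD2_c8 LD3_c52)) = (LP (LK LD1_c24 LD2_c57 LD3_c48)) :=
  Lre_g IH (LK LD1_c15 LD2_c8 LD3_c52) (LK LD1_c24 LD2_c57 LD3_c48) Lrfl Lrfl
theorem f792675 : Led Lsl_at (LP (LK LD1_c21 LD2_c12 LD3_c4)) = (LP (LK LD1_c24 LD2_c57 LD3_c48)) :=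
  Lgr Lrot26 (Lpr_ff (f792667 IH) (Lpr_gt (K47.f227866 IH) (Lpr_gt (f227883 IH) (Lpn (LP (LK LD1_c24 LD2_c57 LD3_c48))))))
theorem f792657 : Led Lsl_at (LP (LK LD1_c21 LD2_c12 LD3_c5)) = (LP (LK LD1_c24 LD2_c57 LD3_c49)) :=
  Lgr Lrot100 (Lpr_af (f792655 IH) (Lpn (LP (LK LD1_c24 LD2_c57 LD3_c49))))
theorem f792681 : Led Lsl_ff (LP (LK LD1_c21 LD2_c12 LD3_c5)) = (LP (LK LD1_c24 LD2_c57 LD3_c48)) :=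
  Lgr Lrot30 (Lpr_at (f792657 IH) (Lpe (f792667 IH) (Lpr_at (f792675 IH) (Lpn (LP (LK LD1_c24 LD2_c57 LD3_c48))))))
theorem f792685 : Led Lsl_ft (LP (LK LD1_c21 LD2_c12 LD3_c5)) = (LP (LK LD1_c24 LD2_c57 LD3_c48)) :=
  Lgr Lrot48 (Lpr_ff (f792681 IH) (Lpn (LP (LK LD1_c24 LD2_c57 LD3_c48))))
theorem f792607 : Led Lsl_ff (LP (LK LD1_c13 LD2_c33 LD3_c7)) = (LP (LK LD1_c22 LD2_c48 LD3_c31)) :=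
  Lgr Lrot19 (Lpe (f611185 IH) (Lpr_ft (f792601 IH) (Lpr_dt (K47.f560982 IH) (Lpn (LP (LK LD1_c22 LD2_c48 LD3_c31))))))
theorem f568628 : Led Lsl_gf (LP (LK LD1_c8 LD2_c47 LD3_c31)) = (LP (LK LD1_c4 LD2_c27 LD3_c5)) :=
  Lgr Lrot144 (Lpr_dt (K42.f272544 IH) (Lpr_gt (K42.f568620 IH) (Lpr_dt (K13.f227854 IH) (Lpr_cf (K13.f241079 IH) (Lpr_df (K43.f241463 IH) (Lpr_gf (K43.f411068 IH) (Lpe (K13.f241498 IH) (Lpe (K13.f241541 IH) (Lpe (K13.f101414 IH) (Lpn (LP (LK LD1_c4 LD2_c27 LD3_c5))))))))))))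
theorem f142189 : Led Lsl_gt (LP (LK LD1_c15 LD2_c6 LD3_c10)) = (LP (LK LD1_c8 LD2_c1 LD3_c16)) :=
  Lre_g IH (LK LD1_c15 LD2_c6 LD3_c10) (LK LD1_c8 LD2_c1 LD3_c16) Lrfl Lrfl
theorem f160626 : Led Lsl_dt (LP (LK LD1_c24 LD2_c54 LD3_c13)) = (LP (LK LD1_c15 LD2_c6 LD3_c10)) :=
  Lre_d IH (LK LD1_c24 LD2_c54 LD3_c13) (LK LD1_c15 LD2_c6 LD3_c10) Lrfl Lrfl
theorem f227865 : Led Lsl_et (LP (LK LD1_c8 LD2_c2 LD3_c41)) = (LP (LK LD1_c15 LD2_c8 LD3_c52)) :=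
  Lre_e IH (LK LD1_c8 LD2_c2 LD3_c41) (LK LD1_c15 LD2_c8 LD3_c52) Lrfl Lrfl
theorem f568638 : Led Lsl_et (LP (LK LD1_c24 LD2_c54 LD3_c13)) = (LP (LK LD1_c24 LD2_c57 LD3_c48)) :=
  Lgr Lrot122 (Lpr_dt (f160626 IH) (Lpr_gt (f142189 IH) (Lpr_df (f540904 IH) (Lpr_et (f272228 IH) (Lpe (f568628 IH) (Lpr_dt (K42.f272544 IH) (Lpr_gt (K42.f568620 IH) (Lpr_df (K12.f227856 IH) (Lpr_et (f227865 IH) (Lpr_gt (f227883 IH) (Lpn (LP (LK LD1_c24 LD2_c57 LD3_c48)))))))))))))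
theorem f568642 : Led Lsl_ef (LP (LK LD1_c24 LD2_c54 LD3_c13)) = (LP (LK LD1_c24 LD2_c57 LD3_c48)) :=
  Lgr Lrot88 (Lpr_et (f568638 IH) (Lpn (LP (LK LD1_c24 LD2_c57 LD3_c48))))
theorem f608080 : Led Lsl_at (LP (LK LD1_c16 LD2_c26 LD3_c40)) = (LP (LK LD1_c8 LD2_c47 LD3_c16)) :=
  Lre_a IH (LK LD1_c16 LD2_c26 LD3_c40) (LK LD1_c8 LD2_c47 LD3_c16) Lrfl Lrfl
theorem f608081 : Led Lsl_ff (LP (LK LD1_c16 LD2_c26 LD3_c40)) = (LP (LK LD1_c15 LD2_c6 LD3_c10)) :=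
  Lgr Lrot52 (Lpr_at (f608080 IH) (Lpr_gf (f608078 IH) (Lpe (f142189 IH) (Lpn (LP (LK LD1_c15 LD2_c6 LD3_c10))))))
theorem f608158 : Led Lsl_ft (LP (LK LD1_c16 LD2_c26 LD3_c40)) = (LP (LK LD1_c15 LD2_c6 LD3_c10)) :=
  Lgr Lrot48 (Lpr_ff (f608081 IH) (Lpn (LP (LK LD1_c15 LD2_c6 LD3_c10))))
theorem f608161 : Led Lsl_dt (LP (LK LD1_c26 LD2_c23 LD3_c57)) = (LP (LK LD1_c16 LD2_c26 LD3_c40)) :=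
  Lre_d IH (LK LD1_c26 LD2_c23 LD3_c57) (LK LD1_c16 LD2_c26 LD3_c40) Lrfl Lrfl
theorem f160627 : Led Lsl_dt (LP (LK LD1_c15 LD2_c6 LD3_c10)) = (LP (LK LD1_c24 LD2_c54 LD3_c13)) :=
  Lre_d IH (LK LD1_c15 LD2_c6 LD3_c10) (LK LD1_c24 LD2_c54 LD3_c13) Lrfl Lrfl
theorem f608162 : Led Lsl_ff (LP (LK LD1_c26 LD2_c23 LD3_c57)) = (LP (LK LD1_c24 LD2_c54 LD3_c13)) :=
  Lgr Lrot19 (Lpr_dt (f608161 IH) (Lpr_ft (f608158 IH) (Lpr_dt (f160627 IH) (Lpn (LP (LK LD1_c24 LD2_c54 LD3_c13))))))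
theorem f792687 : Led Lsl_ef (LP (LK LD1_c22 LD2_c48 LD3_c31)) = (LP (LK LD1_c26 LD2_c23 LD3_c57)) :=
  Lgr Lrot21 (Lpe (f792607 IH) (Lpe (f560963 IH) (Lpr_ft (f792685 IH) (Lpe (f568642 IH) (Lpe (f608162 IH) (Lpn (LP (LK LD1_c26 LD2_c23 LD3_c57))))))))
theorem f108112 : Led Lsl_dt (LP (LK LD1_c13 LD2_c40 LD3_c34)) = (LP (LK LD1_c7 LD2_c13 LD3_c29)) :=
  Lre_d IH (LK LD1_c13 LD2_c40 LD3_c34) (LK LD1_c7 LD2_c13 LD3_c29) Lrfl Lrfl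
theorem f227594 : Led Lsl_et (LP (LK LD1_c4 LD2_c58 LD3_c8)) = (LP (LK LD1_c9 LD2_c47 LD3_c11)) :=
  Lre_e IH (LK LD1_c4 LD2_c58 LD3_c8) (LK LD1_c9 LD2_c47 LD3_c11) Lrfl Lrfl
theorem f560619 : Led Lsl_bf (LP (LK LD1_c13 LD2_c40 LD3_c34)) = (LP (LK LD1_c9 LD2_c47 LD3_c11)) :=
  Lgr Lrot93 (Lpr_dt (f108112 IH) (Lpr_bt (K40.f560613 IH) (Lpr_dt (K40.f227590 IH) (Lpn (LP (LK LD1_c9 LD2_c47 LD3_c11))))))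
theorem f565575 : Led Lsl_ef (LP (LK LD1_c8 LD2_c46 LD3_c1)) = (LP (LK LD1_c13 LD2_c40 LD3_c34)) :=
  Lgr Lrot29 (Lpr_bt (K41.f565567 IH) (Lpr_et (f227594 IH) (Lpe (f560619 IH) (Lpn (LP (LK LD1_c13 LD2_c40 LD3_c34))))))
theorem f538533 : Led Lsl_at (LP (LK LD1_c17 LD2_c2 LD3_c52)) = (LP (LK LD1_c9 LD2_c10 LD3_c31)) :=
  Lre_a IH (LK LD1_c17 LD2_c2 LD3_c52) (LK LD1_c9 LD2_c10 LD3_c31) Lrfl Lrfl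
theorem f411076 : Led Lsl_bt (LP (LK LD1_c8 LD2_c51 LD3_c59)) = (LP (LK LD1_c16 LD2_c34 LD3_c35)) :=
  Lre_b IH (LK LD1_c8 LD2_c51 LD3_c59) (LK LD1_c16 LD2_c34 LD3_c35) Lrfl Lrfl
theorem f540910 : Led Lsl_bt (LP (LK LD1_c9 LD2_c10 LD3_c31)) = (LP (LK LD1_c9 LD2_c51 LD3_c25)) :=
  Lgr Lrot62 (Lpe (f538533 IH) (Lpr_bf (K42.f538531 IH) (Lpr_af (K41.f540902 IH) (Lpe (f411076 IH) (Lpe (K47.f272277 IH) (Lpn (LP (LK LD1_c9 LD2_c51 LD3_c25))))))))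
theorem f119042 : Led Lsl_dt (LP (LK LD1_c4 LD2_c37 LD3_c27)) = (LP (LK LD1_c9 LD2_c10 LD3_c31)) :=
  Lre_d IH (LK LD1_c4 LD2_c37 LD3_c27) (LK LD1_c9 LD2_c10 LD3_c31) Lrfl Lrfl
theorem f540960 : Led Lsl_df (LP (LK LD1_c9 LD2_c10 LD3_c27)) = (LP (LK LD1_c9 LD2_c51 LD3_c25)) :=
  Lgr Lrot12 (Lpr_bt (K8.f142197 IH) (Lpr_dt (f119042 IH) (Lpr_bt (f540910 IH) (Lpn (LP (LK LD1_c9 LD2_c51 LD3_c25))))))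
theorem f792693 : Led Lsl_gt (LP (LK LD1_c9 LD2_c10 LD3_c27)) = (LP (LK LD1_c16 LD2_c26 LD3_c40)) :=
  Lgr Lrot112 (Lpr_df (f540960 IH) (Lpr_et (K16.f241215 IH) (Lpr_gf (K13.f241203 IH) (Lpr_ef (f565575 IH) (Lpr_dt (f108112 IH) (Lpr_gf (K43.f560611 IH) (Lpe (K33.f456090 IH) (Lpe (K47.f456099 IH) (Lpr_ef (f792687 IH) (Lpr_dt (f608161 IH) (Lpn (LP (LK LD1_c16 LD2_c26 LD3_c40)))))))))))))
theorem f607067 : Led Lsl_gt (LP (LK LD1_c8 LD2_c47 LD3_c16)) = (LP (LK LD1_c16 LD2_c26 LD3_c39)) :=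
  Lre_g IH (LK LD1_c8 LD2_c47 LD3_c16) (LK LD1_c16 LD2_c26 LD3_c39) Lrfl Lrfl
theorem f142188 : Led Lsl_ft (LP (LK LD1_c8 LD2_c1 LD3_c16)) = (LP (LK LD1_c15 LD2_c6 LD3_c11)) :=
  Lre_f IH (LK LD1_c8 LD2_c1 LD3_c16) (LK LD1_c15 LD2_c6 LD3_c11) Lrfl Lrfl
theorem f608083 : Led Lsl_af (LP (LK LD1_c16 LD2_c26 LD3_c39)) = (LP (LK LD1_c15 LD2_c6 LD3_c11)) :=
  Lgr Lrot31 (Lpe (f607067 IH) (Lpr_gf (f608078 IH) (Lpr_ft (f142188 IH) (Lpn (LP (LK LD1_c15 LD2_c6 LD3_c11))))))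
theorem f608112 : Led Lsl_ft (LP (LK LD1_c16 LD2_c26 LD3_c39)) = (LP (LK LD1_c9 LD2_c10 LD3_c27)) :=
  Lgr Lrot101 (Lpr_af (f608083 IH) (Lpe (f142188 IH) (Lpe (K8.f142178 IH) (Lpn (LP (LK LD1_c9 LD2_c10 LD3_c27))))))
theorem f608123 : Led Lsl_ff (LP (LK LD1_c16 LD2_c26 LD3_c39)) = (LP (LK LD1_c9 LD2_c10 LD3_c27)) :=
  Lgr Lrot3 (Lpr_ft (f608112 IH) (Lpn (LP (LK LD1_c9 LD2_c10 LD3_c27))))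
theorem f608110 : Led Lsl_at (LP (LK LD1_c16 LD2_c26 LD3_c39)) = (LP (LK LD1_c15 LD2_c6 LD3_c11)) :=
  Lgr Lrot100 (Lpr_af (f608083 IH) (Lpn (LP (LK LD1_c15 LD2_c6 LD3_c11))))
theorem f792697 : Led Lsl_gf (LP (LK LD1_c15 LD2_c6 LD3_c11)) = (LP (LK LD1_c16 LD2_c26 LD3_c40)) :=
  Lgr Lrot76 (Lpe (f608110 IH) (Lpr_ff (f608123 IH) (Lpr_gt (f792693 IH) (Lpn (LP (LK LD1_c16 LD2_c26 LD3_c40))))))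
theorem f182404 : Led Lsl_ct (LP (LK LD1_c1 LD2_c57 LD3_c34)) = (LP (LK LD1_c4 LD2_c1 LD3_c18)) :=
  Lre_c IH (LK LD1_c1 LD2_c57 LD3_c34) (LK LD1_c4 LD2_c1 LD3_c18) Lrfl Lrfl
theorem f99522 : Led Lsl_bt (LP (LK LD1_c3 LD2_c14 LD3_c11)) = (LP (LK LD1_c6 LD2_c32 LD3_c0)) :=
  Lre_b IH (LK LD1_c3 LD2_c14 LD3_c11) (LK LD1_c6 LD2_c32 LD3_c0) Lrfl Lrfl
theorem f541146 : Led Lsl_cf (LP (LK LD1_c3 LD2_c40 LD3_c8)) = (LP (LK LD1_c6 LD2_c25 LD3_c33)) :=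
  Lgr Lrot97 (Lpr_bt (K37.f107577 IH) (Lpr_ct (K7.f146836 IH) (Lpr_bt (f99522 IH) (Lpe (K8.f99520 IH) (Lpr_bt (K36.f541142 IH) (Lpn (LP (LK LD1_c6 LD2_c25 LD3_c33))))))))
def v1805 : LQ := Led Lsl_et (LP (LK LD1_c1 LD2_c27 LD3_c43))
theorem f503006 : Led Lsl_et (LP (LK LD1_c1 LD2_c27 LD3_c43)) = v1805 :=
  Lrfl
def v464 : LQ := Led Lsl_dt (LP (LK LD1_c0 LD2_c40 LD3_c48))
theorem f453475 : Led Lsl_dt (LP (LK LD1_c0 LD2_c40 LD3_c48)) = v464 :=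
  Lrfl
theorem f453476 : Led Lsl_df (LP (LK LD1_c0 LD2_c40 LD3_c48)) = v464 :=
  Lgr Lrot38 (Lpr_dt (f453475 IH) (Lpn v464))
theorem f503012 : Led Lsl_gf v464 = v1805 :=
  Lgr Lrot138 (Lpe (f453476 IH) (Lpr_gt (K11.f80823 IH) (Lpe (K11.f205283 IH) (Lpe (K11.f80820 IH) (Lpr_gt (K11.f69686 IH) (Lpe (K12.f59148 IH) (Lpr_dt (K12.f59149 IH) (Lpe (K31.f193758 IH) (Lpe (K13.f101535 IH) (Lpr_et (f503006 IH) (Lpn v1805)))))))))))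
theorem f410988 : Led Lsl_ef (LP (LK LD1_c2 LD2_c26 LD3_c23)) = (LP (LK LD1_c3 LD2_c10 LD3_c25)) :=
  Lgr Lrot28 (Lpr_ct (K10.f181597 IH) (Lpr_et (K38.f410982 IH) (Lpr_ct (K38.f205108 IH) (Lpn (LP (LK LD1_c3 LD2_c10 LD3_c25))))))
theorem f503013 : Led Lsl_dt (LP (LK LD1_c3 LD2_c10 LD3_c25)) = v1805 :=
  Lgr Lrot136 (Lpe (f410988 IH) (Lpr_gf (K35.f272452 IH) (Lpe (K18.f34720 IH) (Lpr_dt (K11.f34719 IH) (Lpe (K12.f34714 IH) (Lpe (K13.f34058 IH) (Lpe (K12.f211045 IH) (Lpe (K11.f211025 IH) (Lpr_dt (f453475 IH) (Lpr_gf (f503012 IH) (Lpn v1805)))))))))))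
theorem f271850 : Led Lsl_ff (LP (LK LD1_c1 LD2_c27 LD3_c43)) = (LP (LK LD1_c1 LD2_c11 LD3_c7)) :=
  Lgr Lrot23 (Lpr_ct (K9.f175888 IH) (Lpr_ft (K16.f271846 IH) (Lpr_ct (K12.f192730 IH) (Lpn (LP (LK LD1_c1 LD2_c11 LD3_c7))))))
theorem f503010 : Led Lsl_ff (LP (LK LD1_c1 LD2_c57 LD3_c60)) = v1805 :=
  Lgr Lrot72 (Lpr_et (K16.f193660 IH) (Lpr_ft (K16.f271826 IH) (Lpe (K10.f192654 IH) (Lpe (f271850 IH) (Lpr_et (f503006 IH) (Lpn v1805))))))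
theorem f503015 : Led Lsl_ft (LP (LK LD1_c1 LD2_c57 LD3_c60)) = v1805 :=
  Lgr Lrot48 (Lpr_ff (f503010 IH) (Lpn v1805))
theorem f536930 : (LP (LK LD1_c2 LD2_c24 LD3_c15)) = v1805 :=
  Lefun (Lecon (Lfl_ff (K31.f496218 IH)) (K39.f536769 IH).symm) (f503015 IH)
theorem f554309 : Led Lsl_df (LP (LK LD1_c6 LD2_c25 LD3_c33)) = (LP (LK LD1_c4 LD2_c52 LD3_c53)) :=
  Lgr Lrot43 (Lpe (f541146 IH) (Lpr_dt (K37.f36503 IH) (Lpe (K29.f425448 IH) (Lpr_dt (K38.f519716 IH) (Lpq (K38.f546925 IH) (Lpe (K16.f29614 IH) (Lpr_dt (K12.f192844 IH) (Lpr_ct (f182404 IH) (Lpr_dt (K32.f407953 IH) (Lpr_ct (K39.f554307 IH) (Lpr_dt (K28.f108123 IH) (Lpe (K28.f108084 IH) (Lpr_dt (K47.f546938 IH) (Lpr_ct (K38.f205108 IH) (Lpr_dt (f503013 IH) (Lpq (f536930 IH) (Lpr_ct (K31.f443884 IH) (Lpn (LP (LK LD1_c4 LD2_c52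 LD3_c53))))))))))))))))))))
theorem f560154 : Led Lsl_gf (LP (LK LD1_c4 LD2_c52 LD3_c53)) = (LP (LK LD1_c4 LD2_c24 LD3_c10)) :=
  Lgr Lrot143 (Lpe (f554309 IH) (Lpe (K37.f541132 IH) (Lpe (K37.f159428 IH) (Lpe (K28.f142731 IH) (Lpe (K42.f159464 IH) (Lpr_gf (K39.f560150 IH) (Lpe (K14.f255497 IH) (Lpr_gt (K36.f255485 IH) (Lpe (K36.f227404 IH) (Lpn (LP (LK LD1_c4 LD2_c24 LD3_c10))))))))))))
theorem f541148 : Led Lsl_df (LP (LK LD1_c4 LD2_c52 LD3_c53)) = (LP (LK LD1_c6 LD2_c25 LD3_c33)) :=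
  Lgr Lrot12 (Lpr_bt (K31.f443880 IH) (Lpe (K8.f99507 IH) (Lpr_bt (K36.f541142 IH) (Lpn (LP (LK LD1_c6 LD2_c25 LD3_c33))))))
theorem f411272 : Led Lsl_et (LP (LK LD1_c6 LD2_c25 LD3_c33)) = (LP (LK LD1_c12 LD2_c23 LD3_c48)) :=
  Lre_e IH (LK LD1_c6 LD2_c25 LD3_c33) (LK LD1_c12 LD2_c23 LD3_c48) Lrfl Lrfl
theorem f411290 : Led Lsl_gt (LP (LK LD1_c12 LD2_c23 LD3_c48)) = (LP (LK LD1_c21 LD2_c30 LD3_c44)) :=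
  Lre_g IH (LK LD1_c12 LD2_c23 LD3_c48) (LK LD1_c21 LD2_c30 LD3_c44) Lrfl Lrfl
theorem f617902 : Led Lsl_ef (LP (LK LD1_c21 LD2_c30 LD3_c44)) = (LP (LK LD1_c13 LD2_c47 LD3_c20)) :=
  Lgr Lrot17 (Lpe (f411290 IH) (Lpe (f411272 IH) (Lpe (f541148 IH) (Lpr_gf (f560154 IH) (Lpr_df (K36.f227404 IH) (Lpe (K36.f255485 IH) (Lpe (K39.f554047 IH) (Lpr_dt (K39.f439566 IH) (Lpe (K34.f439556 IH) (Lpe (K40.f439578 IH) (Lpn (LP (LK LD1_c13 LD2_c47 LD3_c20)))))))))))))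
theorem f469401 : Led Lsl_ct (LP (LK LD1_c13 LD2_c47 LD3_c20)) = (LP (LK LD1_c23 LD2_c14 LD3_c52)) :=
  Lre_c IH (LK LD1_c13 LD2_c47 LD3_c20) (LK LD1_c23 LD2_c14 LD3_c52) Lrfl Lrfl
theorem f590102 : Led Lsl_df (LP (LK LD1_c30 LD2_c52 LD3_c47)) = (LP (LK LD1_c23 LD2_c14 LD3_c50)) :=
  Lgr Lrot38 (Lpr_dt (K55.f590098 IH) (Lpn (LP (LK LD1_c23 LD2_c14 LD3_c50))))
theorem f439552 : Led Lsl_ct (LP (LK LD1_c13 LD2_c47 LD3_c18)) = (LP (LK LD1_c23 LD2_c14 LD3_c50)) :=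
  Lre_c IH (LK LD1_c13 LD2_c47 LD3_c18) (LK LD1_c23 LD2_c14 LD3_c50) Lrfl Lrfl
theorem f608422 : Led Lsl_dt (LP (LK LD1_c23 LD2_c14 LD3_c52)) = (LP (LK LD1_c30 LD2_c52 LD3_c48)) :=
  Lgr Lrot173 (Lpe (f469401 IH) (Lpe (K55.f439575 IH) (Lpe (K34.f469397 IH) (Lpe (K40.f116262 IH) (Lpe (K55.f469373 IH) (Lpr_df (K55.f608420 IH) (Lpe (K55.f607639 IH) (Lpr_df (f590102 IH) (Lpe (f439552 IH) (Lpe (K43.f439551 IH) (Lpr_cf (K35.f470238 IH) (Lpe (K40.f469438 IH) (Lpe (K55.f469435 IH) (Lpe (K55.f469436 IH) (Lpr_cf (K55.f560334 IH) (Lpn (LP (LK LD1_c30 LD2_c52 LD3_c48))))))))))))))))))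
theorem f38046 : Led Lsl_dt (LP (LK LD1_c1 LD2_c28 LD3_c12)) = (LP (LK LD1_c3 LD2_c4 LD3_c24)) :=
  Lre_d IH (LK LD1_c1 LD2_c28 LD3_c12) (LK LD1_c3 LD2_c4 LD3_c24) Lrfl Lrfl
theorem f147186 : Led Lsl_dt (LP (LK LD1_c3 LD2_c41 LD3_c19)) = (LP (LK LD1_c7 LD2_c23 LD3_c3)) :=
  Lre_d IH (LK LD1_c3 LD2_c41 LD3_c19) (LK LD1_c7 LD2_c23 LD3_c3) Lrfl Lrfl
theorem f568043 : Led Lsl_gt (LP (LK LD1_c7 LD2_c23 LD3_c3)) = (LP (LK LD1_c6 LD2_c24 LD3_c61)) :=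
  Lgr Lrot49 (Lpe (f147186 IH) (Lpr_gf (K32.f147345 IH) (Lpr_cf (K39.f522548 IH) (Lpqs (K39.f540345 IH) (Lpr_gt (K37.f37217 IH) (Lpr_dt (K14.f59089 IH) (Lpr_gt (K12.f38037 IH) (Lpr_dt (f38046 IH) (Lpq (K37.f543004 IH) (Lpe (K42.f519709 IH) (Lpr_df (K42.f568038 IH) (Lpn (LP (LK LD1_c6 LD2_c24 LD3_c61))))))))))))))
theorem f159620 : Led Lsl_et (LP (LK LD1_c3 LD2_c41 LD3_c27)) = (LP (LK LD1_c7 LD2_c23 LD3_c25)) :=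
  Lre_e IH (LK LD1_c3 LD2_c41 LD3_c27) (LK LD1_c7 LD2_c23 LD3_c25) Lrfl Lrfl
theorem f159622 : Led Lsl_gt (LP (LK LD1_c7 LD2_c23 LD3_c25)) = (LP (LK LD1_c13 LD2_c58 LD3_c22)) :=
  Lre_g IH (LK LD1_c7 LD2_c23 LD3_c25) (LK LD1_c13 LD2_c58 LD3_c22) Lrfl Lrfl
theorem f608480 : Led Lsl_et (LP (LK LD1_c23 LD2_c14 LD3_c52)) = (LP (LK LD1_c13 LD2_c58 LD3_c22)) :=
  Lgr Lrot122 (Lpr_dt (f608422 IH) (Lpr_gt (K55.f462028 IH) (Lpe (K36.f116256 IH) (Lpe (K37.f541911 IH) (Lpr_gt (f568043 IH) (Lpe (K42.f568038 IH) (Lpr_gt (K8.f159644 IH) (Lpr_df (K8.f159809 IH) (Lpr_et (f159620 IH) (Lpr_gt (f159622 IH) (Lpn (LP (LK LD1_c13 LD2_c58 LD3_c22)))))))))))))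
theorem f608483 : Led Lsl_ef (LP (LK LD1_c23 LD2_c14 LD3_c52)) = (LP (LK LD1_c13 LD2_c58 LD3_c22)) :=
  Lgr Lrot88 (Lpr_et (f608480 IH) (Lpn (LP (LK LD1_c13 LD2_c58 LD3_c22))))
theorem f617906 : Led Lsl_ct (LP (LK LD1_c21 LD2_c30 LD3_c44)) = (LP (LK LD1_c13 LD2_c58 LD3_c22)) :=
  Lgr Lrot15 (Lpr_ef (f617902 IH) (Lpe (K55.f469406 IH) (Lpr_ef (f608483 IH) (Lpn (LP (LK LD1_c13 LD2_c58 LD3_c22))))))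
theorem f438183 : Led Lsl_dt (LP (LK LD1_c12 LD2_c7 LD3_c47)) = (LP (LK LD1_c21 LD2_c14 LD3_c11)) :=
  Lre_d IH (LK LD1_c12 LD2_c7 LD3_c47) (LK LD1_c21 LD2_c14 LD3_c11) Lrfl Lrfl
theorem f543708 : Led Lsl_bt (LP (LK LD1_c21 LD2_c14 LD3_c11)) = (LP (LK LD1_c13 LD2_c47 LD3_c20)) :=
  Lgr Lrot95 (Lpe (f438183 IH) (Lpr_bf (K37.f543701 IH) (Lpe (K40.f439578 IH) (Lpn (LP (LK LD1_c13 LD2_c47 LD3_c20))))))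
theorem f438184 : Led Lsl_et (LP (LK LD1_c17 LD2_c0 LD3_c38)) = (LP (LK LD1_c21 LD2_c14 LD3_c11)) :=
  Lgr Lrot87 (Lpr_ef (K37.f438179 IH) (Lpn (LP (LK LD1_c21 LD2_c14 LD3_c11))))
theorem f617904 : Led Lsl_bt (LP (LK LD1_c21 LD2_c30 LD3_c44)) = (LP (LK LD1_c17 LD2_c0 LD3_c38)) :=
  Lgr Lrot119 (Lpr_ef (f617902 IH) (Lpe (f543708 IH) (Lpe (f438184 IH) (Lpn (LP (LK LD1_c17 LD2_c0 LD3_c38))))))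
theorem f72157 : Led Lsl_bt (LP (LK LD1_c6 LD2_c9 LD3_c14)) = (LP (LK LD1_c9 LD2_c8 LD3_c31)) :=
  Lgr Lrot62 (Lpe (K1.f38279 IH) (Lpe (K6.f38293 IH) (Lpe (K43.f38294 IH) (Lpr_bf (K2.f72152 IH) (Lpe (K2.f70960 IH) (Lpn (LP (LK LD1_c9 LD2_c8 LD3_c31))))))))
theorem f35683 : Led Lsl_ct (LP (LK LD1_c6 LD2_c9 LD3_c14)) = (LP (LK LD1_c7 LD2_c56 LD3_c55)) :=
  Lgr Lrot40 (Lpe (K37.f35681 IH) (Lpr_cf (K37.f35673 IH) (Lpe (K1.f35682 IH) (Lpn (LP (LK LD1_c7 LD2_c56 LD3_c55))))))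
theorem f445066 : Led Lsl_bt (LP (LK LD1_c4 LD2_c58 LD3_c1)) = (LP (LK LD1_c9 LD2_c46 LD3_c58)) :=
  Lre_b IH (LK LD1_c4 LD2_c58 LD3_c1) (LK LD1_c9 LD2_c46 LD3_c58) Lrfl Lrfl
theorem f617922 : Led Lsl_gt (LP (LK LD1_c9 LD2_c46 LD3_c58)) = (LP (LK LD1_c9 LD2_c10 LD3_c27)) :=
  Lgr Lrot82 (Lpe (f445066 IH) (Lpe (K41.f445069 IH) (Lpr_gf (K40.f36172 IH) (Lpe (f35683 IH) (Lpr_bt (f72157 IH) (Lpe (K37.f70975 IH) (Lpe (f617904 IH) (Lpr_ct (f617906 IH) (Lpe (f159622 IH) (Lpr_cf (K8.f159616 IH) (Lpn (LP (LK LD1_c9 LD2_c10 LD3_c27)))))))))))))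
theorem f142180 : Led Lsl_af (LP (LK LD1_c9 LD2_c10 LD3_c27)) = (LP (LK LD1_c8 LD2_c1 LD3_c16)) :=
  Lgr Lrot0 (Lpr_at (K8.f142178 IH) (Lpn (LP (LK LD1_c8 LD2_c1 LD3_c16))))
theorem f142239 : Led Lsl_ft (LP (LK LD1_c15 LD2_c6 LD3_c11)) = (LP (LK LD1_c8 LD2_c1 LD3_c16)) :=
  Lre_f IH (LK LD1_c15 LD2_c6 LD3_c11) (LK LD1_c8 LD2_c1 LD3_c16) Lrfl Lrfl
theorem f617924 : Led Lsl_gf (LP (LK LD1_c9 LD2_c46 LD3_c58)) = (LP (LK LD1_c15 LD2_c6 LD3_c11)) :=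
  Lgr Lrot47 (Lpr_gt (f617922 IH) (Lpr_af (f142180 IH) (Lpe (f142239 IH) (Lpn (LP (LK LD1_c15 LD2_c6 LD3_c11))))))
theorem f792701 : Led Lsl_af (LP (LK LD1_c9 LD2_c46 LD3_c58)) = (LP (LK LD1_c15 LD2_c6 LD3_c10)) :=
  Lgr Lrot31 (Lpr_gf (f617924 IH) (Lpr_gf (f792697 IH) (Lpr_ft (f608158 IH) (Lpn (LP (LK LD1_c15 LD2_c6 LD3_c10))))))
theorem f37423 : Led Lsl_et (LP (LK LD1_c9 LD2_c46 LD3_c58)) = (LP (LK LD1_c17 LD2_c57 LD3_c3)) :=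
  Lre_e IH (LK LD1_c9 LD2_c46 LD3_c58) (LK LD1_c17 LD2_c57 LD3_c3) Lrfl Lrfl
theorem f540962 : Led Lsl_et (LP (LK LD1_c24 LD2_c54 LD3_c14)) = (LP (LK LD1_c15 LD2_c6 LD3_c10)) :=
  Lre_e IH (LK LD1_c24 LD2_c54 LD3_c14) (LK LD1_c15 LD2_c6 LD3_c10) Lrfl Lrfl
theorem f792707 : Led Lsl_at (LP (LK LD1_c17 LD2_c57 LD3_c3)) = (LP (LK LD1_c24 LD2_c54 LD3_c14)) :=
  Lgr Lrot80 (Lpe (f37423 IH) (Lpr_af (f792701 IH) (Lpe (f540962 IH) (Lpn (LP (LK LD1_c24 LD2_c54 LD3_c14))))))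
theorem f37391 : Led Lsl_bt (LP (LK LD1_c15 LD2_c8 LD3_c33)) = (LP (LK LD1_c24 LD2_c57 LD3_c29)) :=
  Lre_b IH (LK LD1_c15 LD2_c8 LD3_c33) (LK LD1_c24 LD2_c57 LD3_c29) Lrfl Lrfl
theorem f37392 : Led Lsl_bt (LP (LK LD1_c17 LD2_c57 LD3_c3)) = (LP (LK LD1_c9 LD2_c46 LD3_c60)) :=
  Lre_b IH (LK LD1_c17 LD2_c57 LD3_c3) (LK LD1_c9 LD2_c46 LD3_c60) Lrfl Lrfl
theorem f37393 : Led Lsl_dt (LP (LK LD1_c24 LD2_c57 LD3_c29)) = (LP (LK LD1_c17 LD2_c57 LD3_c3)) :=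
  Lgr Lrot79 (Lpe (f37391 IH) (Lpr_df (K40.f37389 IH) (Lpe (f37392 IH) (Lpn (LP (LK LD1_c17 LD2_c57 LD3_c3))))))
theorem f540963 : Led Lsl_dt (LP (LK LD1_c24 LD2_c54 LD3_c14)) = (LP (LK LD1_c24 LD2_c54 LD3_c22)) :=
  Lre_d IH (LK LD1_c24 LD2_c54 LD3_c14) (LK LD1_c24 LD2_c54 LD3_c22) Lrfl Lrfl
theorem f792711 : Led Lsl_af (LP (LK LD1_c24 LD2_c57 LD3_c29)) = (LP (LK LD1_c24 LD2_c54 LD3_c22)) :=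
  Lgr Lrot117 (Lpr_dt (f37393 IH) (Lpr_at (f792707 IH) (Lpr_dt (f540963 IH) (Lpn (LP (LK LD1_c24 LD2_c54 LD3_c22))))))
theorem f792713 : Led Lsl_at (LP (LK LD1_c24 LD2_c57 LD3_c29)) = (LP (LK LD1_c24 LD2_c54 LD3_c22)) :=
  Lgr Lrot100 (Lpr_af (f792711 IH) (Lpn (LP (LK LD1_c24 LD2_c54 LD3_c22))))
theorem f538714 : Led Lsl_gt (LP (LK LD1_c15 LD2_c6 LD3_c17)) = (LP (LK LD1_c24 LD2_c54 LD3_c22)) :=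
  Lre_g IH (LK LD1_c15 LD2_c6 LD3_c17) (LK LD1_c24 LD2_c54 LD3_c22) Lrfl Lrfl
theorem f538712 : Led Lsl_gt (LP (LK LD1_c24 LD2_c54 LD3_c23)) = (LP (LK LD1_c15 LD2_c6 LD3_c17)) :=
  Lre_g IH (LK LD1_c24 LD2_c54 LD3_c23) (LK LD1_c15 LD2_c6 LD3_c17) Lrfl Lrfl
theorem f792719 : Led Lsl_ff (LP (LK LD1_c24 LD2_c57 LD3_c29)) = (LP (LK LD1_c24 LD2_c54 LD3_c23)) :=
  Lgr Lrot52 (Lpr_at (f792713 IH) (Lpe (f538714 IH) (Lpe (f538712 IH) (Lpn (LP (LK LD1_c24 LD2_c54 LD3_c23))))))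
theorem f792727 : Led Lsl_ft (LP (LK LD1_c24 LD2_c57 LD3_c29)) = (LP (LK LD1_c24 LD2_c54 LD3_c23)) :=
  Lgr Lrot48 (Lpr_ff (f792719 IH) (Lpn (LP (LK LD1_c24 LD2_c54 LD3_c23))))
theorem f37415 : Led Lsl_bt (LP (LK LD1_c24 LD2_c57 LD3_c29)) = (LP (LK LD1_c15 LD2_c8 LD3_c33)) :=
  Lre_b IH (LK LD1_c24 LD2_c57 LD3_c29) (LK LD1_c15 LD2_c8 LD3_c33) Lrfl Lrfl
theorem f37416 : Led Lsl_bt (LP (LK LD1_c9 LD2_c46 LD3_c60)) = (LP (LK LD1_c17 LD2_c57 LD3_c3)) :=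
  Lre_b IH (LK LD1_c9 LD2_c46 LD3_c60) (LK LD1_c17 LD2_c57 LD3_c3) Lrfl Lrfl
theorem f37417 : Led Lsl_df (LP (LK LD1_c24 LD2_c57 LD3_c29)) = (LP (LK LD1_c17 LD2_c57 LD3_c3)) :=
  Lgr Lrot12 (Lpr_bt (f37415 IH) (Lpr_dt (K40.f37395 IH) (Lpr_bt (f37416 IH) (Lpn (LP (LK LD1_c17 LD2_c57 LD3_c3))))))
theorem f239313 : Led Lsl_df (LP (LK LD1_c8 LD2_c39 LD3_c4)) = (LP (LK LD1_c6 LD2_c24 LD3_c57)) :=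
  Lgr Lrot70 (Lpr_et (K37.f36222 IH) (Lpe (K19.f239307 IH) (Lpr_et (K13.f239309 IH) (Lpr_dt (K37.f198450 IH) (Lpr_et (K37.f205623 IH) (Lpn (LP (LK LD1_c6 LD2_c24 LD3_c57))))))))
theorem f81175 : Led Lsl_df (LP (LK LD1_c8 LD2_c45 LD3_c34)) = (LP (LK LD1_c8 LD2_c3 LD3_c45)) :=
  Lgr Lrot38 (Lpr_dt (K10.f81170 IH) (Lpn (LP (LK LD1_c8 LD2_c3 LD3_c45))))
theorem f613206 : Led Lsl_at (LP (LK LD1_c8 LD2_c39 LD3_c4)) = (LP (LK LD1_c8 LD2_c3 LD3_c45)) :=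
  Lgr Lrot51 (Lpr_df (f239313 IH) (Lpr_af (K55.f613201 IH) (Lpr_df (f81175 IH) (Lpn (LP (LK LD1_c8 LD2_c3 LD3_c45))))))
theorem f613229 : Led Lsl_af (LP (LK LD1_c8 LD2_c39 LD3_c4)) = (LP (LK LD1_c8 LD2_c3 LD3_c45)) :=
  Lgr Lrot0 (Lpr_at (f613206 IH) (Lpn (LP (LK LD1_c8 LD2_c3 LD3_c45))))
theorem f231538 : Led Lsl_gt (LP (LK LD1_c16 LD2_c12 LD3_c13)) = (LP (LK LD1_c8 LD2_c39 LD3_c4)) :=
  Lre_g IH (LK LD1_c16 LD2_c12 LD3_c13) (LK LD1_c8 LD2_c39 LD3_c4) Lrfl Lrfl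
theorem f613237 : Led Lsl_gf (LP (LK LD1_c16 LD2_c12 LD3_c13)) = (LP (LK LD1_c15 LD2_c10 LD3_c36)) :=
  Lgr Lrot47 (Lpr_gt (f231538 IH) (Lpr_af (f613229 IH) (Lpe (K39.f81193 IH) (Lpn (LP (LK LD1_c15 LD2_c10 LD3_c36))))))
theorem f3033 : Led Lsl_dt (LP (LK LD1_c1 LD2_c56 LD3_c52)) = (LP (LK LD1_c0 LD2_c55 LD3_c12)) :=
  Lre_d IH (LK LD1_c1 LD2_c56 LD3_c52) (LK LD1_c0 LD2_c55 LD3_c12) Lrfl Lrfl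
theorem f445765 : Led Lsl_et (LP (LK LD1_c1 LD2_c56 LD3_c52)) = (LP (LK LD1_c4 LD2_c0 LD3_c10)) :=
  Lre_e IH (LK LD1_c1 LD2_c56 LD3_c52) (LK LD1_c4 LD2_c0 LD3_c10) Lrfl Lrfl
theorem f36827 : Led Lsl_gt (LP (LK LD1_c4 LD2_c0 LD3_c10)) = (LP (LK LD1_c8 LD2_c1 LD3_c18)) :=
  Lre_g IH (LK LD1_c4 LD2_c0 LD3_c10) (LK LD1_c8 LD2_c1 LD3_c18) Lrfl Lrfl
theorem f538717 : Led Lsl_et (LP (LK LD1_c15 LD2_c6 LD3_c18)) = (LP (LK LD1_c8 LD2_c1 LD3_c18)) :=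
  Lre_e IH (LK LD1_c15 LD2_c6 LD3_c18) (LK LD1_c8 LD2_c1 LD3_c18) Lrfl Lrfl
theorem f558963 : Led Lsl_df (LP (LK LD1_c16 LD2_c12 LD3_c13)) = (LP (LK LD1_c15 LD2_c6 LD3_c18)) :=
  Lgr Lrot170 (Lpr_gt (f231538 IH) (Lpr_df (f239313 IH) (Lpr_et (K37.f239319 IH) (Lpr_gt (K40.f558905 IH) (Lpr_dt (K40.f3048 IH) (Lpr_gt (K8.f3037 IH) (Lpe (f3033 IH) (Lpr_et (f445765 IH) (Lpr_gt (f36827 IH) (Lpe (f538717 IH) (Lpn (LP (LK LD1_c15 LD2_c6 LD3_c18)))))))))))))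
theorem f558969 : Led Lsl_dt (LP (LK LD1_c16 LD2_c12 LD3_c13)) = (LP (LK LD1_c15 LD2_c6 LD3_c18)) :=
  Lgr Lrot42 (Lpr_df (f558963 IH) (Lpn (LP (LK LD1_c15 LD2_c6 LD3_c18))))
theorem f346785 : Led Lsl_af (LP (LK LD1_c8 LD2_c38 LD3_c24)) = (LP (LK LD1_c8 LD2_c39 LD3_c3)) :=
  Lgr Lrot50 (Lpr_et (K39.f35317 IH) (Lpr_at (K23.f346778 IH) (Lpr_et (K37.f240653 IH) (Lpn (LP (LK LD1_c8 LD2_c39 LD3_c3))))))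
theorem f240672 : Led Lsl_ft (LP (LK LD1_c16 LD2_c12 LD3_c11)) = (LP (LK LD1_c8 LD2_c39 LD3_c3)) :=
  Lre_f IH (LK LD1_c16 LD2_c12 LD3_c11) (LK LD1_c8 LD2_c39 LD3_c3) Lrfl Lrfl
theorem f394638 : Led Lsl_gf (LP (LK LD1_c16 LD2_c10 LD3_c50)) = (LP (LK LD1_c16 LD2_c12 LD3_c11)) :=
  Lgr Lrot47 (Lpr_gt (f346839 IH) (Lpr_af (f346785 IH) (Lpe (f240672 IH) (Lpn (LP (LK LD1_c16 LD2_c12 LD3_c11))))))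
theorem f30155 : Led Lsl_at (LP (LK LD1_c15 LD2_c6 LD3_c3)) = (LP (LK LD1_c15 LD2_c7 LD3_c45)) :=
  Lgr Lrot100 (Lpr_af (K12.f29963 IH) (Lpn (LP (LK LD1_c15 LD2_c7 LD3_c45))))
theorem f30621 : Led Lsl_gt (LP (LK LD1_c15 LD2_c6 LD3_c4)) = (LP (LK LD1_c15 LD2_c7 LD3_c45)) :=
  Lgr Lrot46 (Lpe (K47.f30474 IH) (Lpr_ft (K1.f30199 IH) (Lpr_at (f30155 IH) (Lpn (LP (LK LD1_c15 LD2_c7 LD3_c45))))))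
theorem f394640 : Led Lsl_gt (LP (LK LD1_c15 LD2_c6 LD3_c35)) = (LP (LK LD1_c16 LD2_c20 LD3_c48)) :=
  Lgr Lrot137 (Lpe (f30115 IH) (Lpr_dt (K40.f30114 IH) (Lpr_gf (K37.f30105 IH) (Lpe (K37.f29931 IH) (Lpr_et (K1.f29962 IH) (Lpe (f30621 IH) (Lpe (f30624 IH) (Lpr_dt (f346840 IH) (Lpr_gf (f394638 IH) (Lpr_df (K37.f346873 IH) (Lpn (LP (LK LD1_c16 LD2_c20 LD3_c48)))))))))))))
theorem f35358 : Led Lsl_et (LP (LK LD1_c16 LD2_c25 LD3_c42)) = (LP (LK LD1_c8 LD2_c46 LD3_c50)) :=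
  Lre_e IH (LK LD1_c16 LD2_c25 LD3_c42) (LK LD1_c8 LD2_c46 LD3_c50) Lrfl Lrfl
theorem f35314 : Led Lsl_dt (LP (LK LD1_c8 LD2_c46 LD3_c50)) = (LP (LK LD1_c4 LD2_c24 LD3_c38)) :=
  Lre_d IH (LK LD1_c8 LD2_c46 LD3_c50) (LK LD1_c4 LD2_c24 LD3_c38) Lrfl Lrfl
theorem f443108 : Led Lsl_et (LP (LK LD1_c8 LD2_c46 LD3_c33)) = (LP (LK LD1_c16 LD2_c25 LD3_c7)) :=
  Lre_e IH (LK LD1_c8 LD2_c46 LD3_c33) (LK LD1_c16 LD2_c25 LD3_c7) Lrfl Lrfl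
theorem f443109 : Led Lsl_df (LP (LK LD1_c16 LD2_c25 LD3_c42)) = (LP (LK LD1_c16 LD2_c25 LD3_c7)) :=
  Lgr Lrot70 (Lpr_et (f35358 IH) (Lpr_dt (f35314 IH) (Lpr_et (K40.f35361 IH) (Lpr_dt (K40.f443104 IH) (Lpr_et (f443108 IH) (Lpn (LP (LK LD1_c16 LD2_c25 LD3_c7))))))))
theorem f443116 : Led Lsl_dt (LP (LK LD1_c16 LD2_c25 LD3_c42)) = (LP (LK LD1_c16 LD2_c25 LD3_c7)) :=
  Lgr Lrot42 (Lpr_df (f443109 IH) (Lpn (LP (LK LD1_c16 LD2_c25 LD3_c7))))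
theorem f613241 : Led Lsl_gt (LP (LK LD1_c15 LD2_c6 LD3_c18)) = (LP (LK LD1_c16 LD2_c25 LD3_c7)) :=
  Lgr Lrot139 (Lpe (f558969 IH) (Lpr_gf (f613237 IH) (Lpr_ef (K39.f554579 IH) (Lpr_dt (K37.f346878 IH) (Lpe (f394640 IH) (Lpe (f35360 IH) (Lpr_et (f35359 IH) (Lpe (K37.f35349 IH) (Lpe (f35358 IH) (Lpr_dt (f443116 IH) (Lpn (LP (LK LD1_c16 LD2_c25 LD3_c7)))))))))))))
theorem f540964 : Led Lsl_et (LP (LK LD1_c8 LD2_c1 LD3_c18)) = (LP (LK LD1_c15 LD2_c6 LD3_c18)) :=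
  Lre_e IH (LK LD1_c8 LD2_c1 LD3_c18) (LK LD1_c15 LD2_c6 LD3_c18) Lrfl Lrfl
theorem f36828 : Led Lsl_dt (LP (LK LD1_c8 LD2_c1 LD3_c18)) = (LP (LK LD1_c15 LD2_c6 LD3_c17)) :=
  Lre_d IH (LK LD1_c8 LD2_c1 LD3_c18) (LK LD1_c15 LD2_c6 LD3_c17) Lrfl Lrfl
theorem f80406 : Led Lsl_dt (LP (LK LD1_c12 LD2_c22 LD3_c30)) = (LP (LK LD1_c12 LD2_c6 LD3_c32)) :=
  Lgr Lrot42 (Lpr_df (K47.f80359 IH) (Lpn (LP (LK LD1_c12 LD2_c6 LD3_c32))))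
theorem f80408 : Led Lsl_et (LP (LK LD1_c12 LD2_c22 LD3_c30)) = (LP (LK LD1_c21 LD2_c29 LD3_c13)) :=
  Lre_e IH (LK LD1_c12 LD2_c22 LD3_c30) (LK LD1_c21 LD2_c29 LD3_c13) Lrfl Lrfl
theorem f469364 : Led Lsl_dt (LP (LK LD1_c13 LD2_c38 LD3_c16)) = (LP (LK LD1_c7 LD2_c12 LD3_c3)) :=
  Lre_d IH (LK LD1_c13 LD2_c38 LD3_c16) (LK LD1_c7 LD2_c12 LD3_c3) Lrfl Lrfl
theorem f489409 : Led Lsl_et (LP (LK LD1_c13 LD2_c38 LD3_c16)) = (LP (LK LD1_c23 LD2_c3 LD3_c25)) :=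
  Lre_e IH (LK LD1_c13 LD2_c38 LD3_c16) (LK LD1_c23 LD2_c3 LD3_c25) Lrfl Lrfl
theorem f607993 : Led Lsl_gt (LP (LK LD1_c21 LD2_c29 LD3_c13)) = (LP (LK LD1_c23 LD2_c3 LD3_c25)) :=
  Lgr Lrot131 (Lpe (f80408 IH) (Lpr_dt (f80406 IH) (Lpr_gf (K47.f607989 IH) (Lpr_df (K40.f443106 IH) (Lpr_gf (K40.f205673 IH) (Lpe (K39.f205480 IH) (Lpe (K36.f540298 IH) (Lpe (K37.f466532 IH) (Lpe (f469364 IH) (Lpr_et (f489409 IH) (Lpn (LP (LK LD1_c23 LD2_c3 LD3_c25)))))))))))))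
theorem f613243 : Led Lsl_df (LP (LK LD1_c24 LD2_c54 LD3_c23)) = (LP (LK LD1_c23 LD2_c3 LD3_c25)) :=
  Lgr Lrot135 (Lpr_gt (f538712 IH) (Lpe (f36828 IH) (Lpr_et (f540964 IH) (Lpr_gt (f613241 IH) (Lpe (f443108 IH) (Lpe (K40.f443106 IH) (Lpe (K47.f607989 IH) (Lpe (f80406 IH) (Lpr_et (f80408 IH) (Lpr_gt (f607993 IH) (Lpn (LP (LK LD1_c23 LD2_c3 LD3_c25)))))))))))))
theorem f613247 : Led Lsl_dt (LP (LK LD1_c24 LD2_c54 LD3_c23)) = (LP (LK LD1_c23 LD2_c3 LD3_c25)) :=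
  Lgr Lrot42 (Lpr_df (f613243 IH) (Lpn (LP (LK LD1_c23 LD2_c3 LD3_c25))))
theorem f792733 : Led Lsl_ff (LP (LK LD1_c17 LD2_c57 LD3_c3)) = (LP (LK LD1_c23 LD2_c3 LD3_c25)) :=
  Lgr Lrot19 (Lpe (f37417 IH) (Lpr_ft (f792727 IH) (Lpr_dt (f613247 IH) (Lpn (LP (LK LD1_c23 LD2_c3 LD3_c25))))))
theorem f37404 : Led Lsl_ft (LP (LK LD1_c9 LD2_c46 LD3_c60)) = (LP (LK LD1_c17 LD2_c57 LD3_c6)) :=
  Lre_f IH (LK LD1_c9 LD2_c46 LD3_c60) (LK LD1_c17 LD2_c57 LD3_c6) Lrfl Lrfl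
theorem f792735 : Led Lsl_bt (LP (LK LD1_c17 LD2_c57 LD3_c6)) = (LP (LK LD1_c23 LD2_c3 LD3_c25)) :=
  Lgr Lrot35 (Lpe (f37404 IH) (Lpe (f37392 IH) (Lpr_ff (f792733 IH) (Lpn (LP (LK LD1_c23 LD2_c3 LD3_c25))))))
theorem f489412 : Led Lsl_et (LP (LK LD1_c23 LD2_c3 LD3_c25)) = (LP (LK LD1_c13 LD2_c38 LD3_c16)) :=
  Lre_e IH (LK LD1_c23 LD2_c3 LD3_c25) (LK LD1_c13 LD2_c38 LD3_c16) Lrfl Lrfl
theorem f489397 : Led Lsl_bf (LP (LK LD1_c13 LD2_c38 LD3_c16)) = (LP (LK LD1_c13 LD2_c26 LD3_c40)) :=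
  Lgr Lrot93 (Lpr_dt (f469364 IH) (Lpr_bt (K37.f489392 IH) (Lpr_dt (K46.f147279 IH) (Lpn (LP (LK LD1_c13 LD2_c26 LD3_c40))))))
theorem f489407 : Led Lsl_bt (LP (LK LD1_c13 LD2_c38 LD3_c16)) = (LP (LK LD1_c13 LD2_c26 LD3_c40)) :=
  Lgr Lrot127 (Lpr_bf (f489397 IH) (Lpn (LP (LK LD1_c13 LD2_c26 LD3_c40))))
theorem f792747 : Led Lsl_ef (LP (LK LD1_c17 LD2_c57 LD3_c6)) = (LP (LK LD1_c13 LD2_c26 LD3_c40)) :=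
  Lgr Lrot29 (Lpr_bt (f792735 IH) (Lpr_et (f489412 IH) (Lpr_bt (f489407 IH) (Lpn (LP (LK LD1_c13 LD2_c26 LD3_c40))))))
theorem f37403 : Led Lsl_ft (LP (LK LD1_c17 LD2_c57 LD3_c6)) = (LP (LK LD1_c9 LD2_c46 LD3_c60)) :=
  Lre_f IH (LK LD1_c17 LD2_c57 LD3_c6) (LK LD1_c9 LD2_c46 LD3_c60) Lrfl Lrfl
def v12650 : LQ := Led Lsl_at (LP (LK LD1_c4 LD2_c24 LD3_c38))
theorem f696592 : Led Lsl_at (LP (LK LD1_c4 LD2_c24 LD3_c38)) = v12650 :=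
  Lrfl
theorem f696593 : Led Lsl_af (LP (LK LD1_c4 LD2_c24 LD3_c38)) = v12650 :=
  Lgr Lrot0 (Lpr_at (f696592 IH) (Lpn v12650))
theorem f718995 : Led Lsl_cf v12650 = v14100 :=
  Lgr Lrot1 (Lpe (f696593 IH) (Lpr_ct (f617203 IH) (Lpr_at (f718993 IH) (Lpn v14100))))
theorem f696594 : Led Lsl_ft (LP (LK LD1_c4 LD2_c24 LD3_c39)) = v12650 :=
  Lgr Lrot2 (Lpr_gt (K40.f34749 IH) (Lpr_gt (K37.f34803 IH) (Lpr_af (f696593 IH) (Lpn v12650))))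
theorem f696595 : Led Lsl_ff (LP (LK LD1_c4 LD2_c24 LD3_c39)) = v12650 :=
  Lgr Lrot3 (Lpr_ft (f696594 IH) (Lpn v12650))
theorem f718997 : Led Lsl_ft (LP (LK LD1_c4 LD2_c58 LD3_c1)) = v14100 :=
  Lgr Lrot4 (Lpe (K41.f445058 IH) (Lpr_ff (f696595 IH) (Lpr_cf (f718995 IH) (Lpn v14100))))
theorem f792757 : v14100 = (LP (LK LD1_c4 LD2_c24 LD3_c54)) :=
  (Llr Lrot86 (Lpe (f718997 IH) (Lpe (K40.f37388 IH) (Lpe (f37403 IH) (Lpr_ef (f792747 IH) (Lpr_ff (f792448 IH) (Lpe (K4.f36676 IH) (Lpn (LP (LK LD1_c4 LD2_c24 LD3_c54)))))))))).symm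
theorem f792758 : (LP (LK LD1_c4 LD2_c58 LD3_c0)) = v12652 :=
  Lefun (Lecon (Lfl_af (f718994 IH)) (f792757 IH)) (f696602 IH)
theorem f792769 : (LP (LK LD1_c4 LD2_c24 LD3_c55)) = v14101 :=
  Lefun (Lecon (Lfl_ff (f696605 IH)) (f792758 IH).symm) (f718999 IH)
theorem f792774 : v12651 = (LP (LK LD1_c7 LD2_c56 LD3_c54)) :=
  Lefun (Lecon (Lfl_cf (f719001 IH)) (f792769 IH).symm) (f443147 IH)
theorem f59761 : Led Lsl_et (LP (LK LD1_c21 LD2_c13 LD3_c2)) = (LP (LK LD1_c12 LD2_c22 LD3_c45)) :=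
  Lgr Lrot87 (Lpr_ef (K46.f59757 IH) (Lpn (LP (LK LD1_c12 LD2_c22 LD3_c45))))
theorem f792781 : Led Lsl_ff (LP (LK LD1_c21 LD2_c13 LD3_c2)) = (LP (LK LD1_c14 LD2_c59 LD3_c42)) :=
  Lgr Lrot72 (Lpr_et (f59761 IH) (Lpe (f792479 IH) (Lpr_et (K40.f35351 IH) (Lpr_ft (f696596 IH) (Lpqs (f792774 IH) (Lpr_et (K37.f346896 IH) (Lpn (LP (LK LD1_c14 LD2_c59 LD3_c42)))))))))
theorem f445060 : Led Lsl_ft (LP (LK LD1_c8 LD2_c46 LD3_c54)) = (LP (LK LD1_c16 LD2_c25 LD3_c53)) :=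
  Lre_f IH (LK LD1_c8 LD2_c46 LD3_c54) (LK LD1_c16 LD2_c25 LD3_c53) Lrfl Lrfl
theorem f445556 : Led Lsl_af (LP (LK LD1_c21 LD2_c13 LD3_c2)) = (LP (LK LD1_c16 LD2_c25 LD3_c53)) :=
  Lgr Lrot31 (Lpr_gf (K46.f445538 IH) (Lpe (K40.f418085 IH) (Lpr_ft (f445060 IH) (Lpn (LP (LK LD1_c16 LD2_c25 LD3_c53))))))
theorem f445575 : Led Lsl_at (LP (LK LD1_c21 LD2_c13 LD3_c2)) = (LP (LK LD1_c16 LD2_c25 LD3_c53)) :=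
  Lgr Lrot100 (Lpr_af (f445556 IH) (Lpn (LP (LK LD1_c16 LD2_c25 LD3_c53))))
theorem f792791 : Led Lsl_gf (LP (LK LD1_c16 LD2_c25 LD3_c53)) = (LP (LK LD1_c16 LD2_c23 LD3_c13)) :=
  Lgr Lrot76 (Lpe (f445575 IH) (Lpr_ff (f792781 IH) (Lpe (K37.f445102 IH) (Lpn (LP (LK LD1_c16 LD2_c23 LD3_c13))))))
theorem f445376 : Led Lsl_gt (LP (LK LD1_c21 LD2_c11 LD3_c46)) = (LP (LK LD1_c12 LD2_c5 LD3_c55)) :=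
  Lre_g IH (LK LD1_c21 LD2_c11 LD3_c46) (LK LD1_c12 LD2_c5 LD3_c55) Lrfl Lrfl
theorem f792795 : Led Lsl_dt (LP (LK LD1_c16 LD2_c25 LD3_c53)) = (LP (LK LD1_c21 LD2_c11 LD3_c46)) :=
  Lgr Lrot57 (Lpr_gf (f792791 IH) (Lpe (K4.f99321 IH) (Lpr_gt (K43.f408182 IH) (Lpr_dt (K47.f576162 IH) (Lpr_gt (K47.f39987 IH) (Lpr_dt (K47.f39986 IH) (Lpr_cf (K40.f445365 IH) (Lpe (K40.f59768 IH) (Lpe (f445376 IH) (Lpn (LP (LK LD1_c21 LD2_c11 LD3_c46))))))))))))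
theorem f792801 : Led Lsl_ff (LP (LK LD1_c16 LD2_c25 LD3_c52)) = (LP (LK LD1_c21 LD2_c11 LD3_c46)) :=
  Lgr Lrot19 (Lpr_dt (K40.f418086 IH) (Lpr_ft (f445060 IH) (Lpr_dt (f792795 IH) (Lpn (LP (LK LD1_c21 LD2_c11 LD3_c46))))))
theorem f792807 : Led Lsl_at (LP (LK LD1_c16 LD2_c25 LD3_c52)) = (LP (LK LD1_c21 LD2_c11 LD3_c45)) :=
  Lgr Lrot26 (Lpr_ff (f792801 IH) (Lpr_gt (f445376 IH) (Lpr_gt (K37.f36821 IH) (Lpn (LP (LK LD1_c21 LD2_c11 LD3_c45))))))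
theorem f792813 : Led Lsl_af (LP (LK LD1_c8 LD2_c46 LD3_c54)) = (LP (LK LD1_c14 LD2_c59 LD3_c42)) :=
  Lgr Lrot117 (Lpr_dt (K40.f34751 IH) (Lpr_at (f792807 IH) (Lpr_dt (K37.f443129 IH) (Lpn (LP (LK LD1_c14 LD2_c59 LD3_c42))))))
theorem f792905 : Led Lsl_at (LP (LK LD1_c9 LD2_c46 LD3_c60)) = (LP (LK LD1_c8 LD2_c47 LD3_c21)) :=
  Lgr Lrot107 (Lpe (K40.f445042 IH) (Lpr_af (f792813 IH) (Lpe (K37.f443142 IH) (Lpn (LP (LK LD1_c8 LD2_c47 LD3_c21))))))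
theorem f35844 : Led Lsl_ft (LP (LK LD1_c8 LD2_c47 LD3_c21)) = (LP (LK LD1_c16 LD2_c26 LD3_c50)) :=
  Lre_f IH (LK LD1_c8 LD2_c47 LD3_c21) (LK LD1_c16 LD2_c26 LD3_c50) Lrfl Lrfl
theorem f792911 : Led Lsl_af (LP (LK LD1_c17 LD2_c57 LD3_c6)) = (LP (LK LD1_c16 LD2_c26 LD3_c50)) :=
  Lgr Lrot45 (Lpr_ft (f37403 IH) (Lpr_at (f792905 IH) (Lpr_ft (f35844 IH) (Lpn (LP (LK LD1_c16 LD2_c26 LD3_c50))))))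
theorem f792751 : Led Lsl_et (LP (LK LD1_c17 LD2_c57 LD3_c6)) = (LP (LK LD1_c13 LD2_c26 LD3_c40)) :=
  Lgr Lrot87 (Lpr_ef (f792747 IH) (Lpn (LP (LK LD1_c13 LD2_c26 LD3_c40))))
theorem f792916 : Led Lsl_et (LP (LK LD1_c16 LD2_c24 LD3_c14)) = (LP (LK LD1_c16 LD2_c26 LD3_c50)) :=
  Lgr Lrot123 (Lpe (f792454 IH) (Lpe (f792751 IH) (Lpr_af (f792911 IH) (Lpn (LP (LK LD1_c16 LD2_c26 LD3_c50))))))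
theorem f35890 : Led Lsl_et (LP (LK LD1_c8 LD2_c45 LD3_c59)) = (LP (LK LD1_c4 LD2_c24 LD3_c5)) :=
  Lre_e IH (LK LD1_c8 LD2_c45 LD3_c59) (LK LD1_c4 LD2_c24 LD3_c5) Lrfl Lrfl
theorem f30008 : Led Lsl_dt (LP (LK LD1_c15 LD2_c6 LD3_c1)) = (LP (LK LD1_c8 LD2_c1 LD3_c11)) :=
  Lre_d IH (LK LD1_c15 LD2_c6 LD3_c1) (LK LD1_c8 LD2_c1 LD3_c11) Lrfl Lrfl
theorem f35875 : Led Lsl_et (LP (LK LD1_c15 LD2_c6 LD3_c1)) = (LP (LK LD1_c8 LD2_c45 LD3_c29)) :=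
  Lgr Lrot122 (Lpr_dt (f30008 IH) (Lpr_gt (K37.f30002 IH) (Lpe (K37.f30097 IH) (Lpr_et (K1.f30098 IH) (Lpr_gt (K1.f35824 IH) (Lpr_dt (K1.f35823 IH) (Lpr_gt (K1.f35867 IH) (Lpe (K2.f35872 IH) (Lpr_et (K2.f35873 IH) (Lpr_gt (K46.f35874 IH) (Lpn (LP (LK LD1_c8 LD2_c45 LD3_c29)))))))))))))
theorem f35883 : Led Lsl_ef (LP (LK LD1_c15 LD2_c6 LD3_c1)) = (LP (LK LD1_c8 LD2_c45 LD3_c29)) :=
  Lgr Lrot88 (Lpr_et (f35875 IH) (Lpn (LP (LK LD1_c8 LD2_c45 LD3_c29))))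
theorem f792929 : Led Lsl_gf (LP (LK LD1_c15 LD2_c6 LD3_c1)) = (LP (LK LD1_c16 LD2_c26 LD3_c50)) :=
  Lgr Lrot141 (Lpr_ef (f35883 IH) (Lpr_dt (K46.f35882 IH) (Lpr_gt (K46.f35888 IH) (Lpe (K47.f35889 IH) (Lpr_et (f35890 IH) (Lpr_gt (K46.f35891 IH) (Lpr_dt (K4.f35878 IH) (Lpr_gt (K43.f35879 IH) (Lpe (K46.f35880 IH) (Lpr_et (f792916 IH) (Lpn (LP (LK LD1_c16 LD2_c26 LD3_c50)))))))))))))
theorem f445183 : Led Lsl_cf (LP (LK LD1_c9 LD2_c14 LD3_c54)) = (LP (LK LD1_c15 LD2_c6 LD3_c1)) :=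
  Lgr Lrot11 (Lpr_ct (K40.f445178 IH) (Lpn (LP (LK LD1_c15 LD2_c6 LD3_c1))))
theorem f37793 : Led Lsl_ct (LP (LK LD1_c24 LD2_c47 LD3_c44)) = (LP (LK LD1_c15 LD2_c0 LD3_c24)) :=
  Lre_c IH (LK LD1_c24 LD2_c47 LD3_c44) (LK LD1_c15 LD2_c0 LD3_c24) Lrfl Lrfl
theorem f445398 : Led Lsl_cf (LP (LK LD1_c24 LD2_c47 LD3_c55)) = (LP (LK LD1_c26 LD2_c30 LD3_c44)) :=
  Lgr Lrot11 (Lpr_ct (K40.f445370 IH) (Lpn (LP (LK LD1_c26 LD2_c30 LD3_c44))))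
theorem f70307 : Led Lsl_dt (LP (LK LD1_c24 LD2_c47 LD3_c55)) = (LP (LK LD1_c15 LD2_c0 LD3_c33)) :=
  Lre_d IH (LK LD1_c24 LD2_c47 LD3_c55) (LK LD1_c15 LD2_c0 LD3_c33) Lrfl Lrfl
theorem f445424 : Led Lsl_gf (LP (LK LD1_c24 LD2_c47 LD3_c44)) = (LP (LK LD1_c15 LD2_c8 LD3_c35)) :=
  Lgr Lrot147 (Lpr_ct (f37793 IH) (Lpr_gt (K37.f227567 IH) (Lpr_ct (K40.f70317 IH) (Lpe (f70307 IH) (Lpr_cf (f445398 IH) (Lpe (K40.f16250 IH) (Lpr_cf (K1.f16233 IH) (Lpe (K57.f38844 IH) (Lpr_df (K57.f38753 IH) (Lpn (LP (LK LD1_c15 LD2_c8 LD3_c35))))))))))))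
theorem f37419 : Led Lsl_ct (LP (LK LD1_c8 LD2_c2 LD3_c35)) = (LP (LK LD1_c15 LD2_c8 LD3_c35)) :=
  Lre_c IH (LK LD1_c8 LD2_c2 LD3_c35) (LK LD1_c15 LD2_c8 LD3_c35) Lrfl Lrfl
theorem f792931 : Led Lsl_dt (LP (LK LD1_c15 LD2_c8 LD3_c34)) = (LP (LK LD1_c16 LD2_c26 LD3_c50)) :=
  Lgr Lrot6 (Lpr_gt (f30631 IH) (Lpr_ct (f37419 IH) (Lpe (f445424 IH) (Lpr_ct (f37793 IH) (Lpe (K1.f37783 IH) (Lpr_cf (K1.f38685 IH) (Lpr_gf (K40.f445117 IH) (Lpr_cf (f445183 IH) (Lpr_gf (f792929 IH) (Lpn (LP (LK LD1_c16 LD2_c26 LD3_c50))))))))))))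
theorem f35843 : Led Lsl_ft (LP (LK LD1_c16 LD2_c26 LD3_c50)) = (LP (LK LD1_c8 LD2_c47 LD3_c21)) :=
  Lre_f IH (LK LD1_c16 LD2_c26 LD3_c50) (LK LD1_c8 LD2_c47 LD3_c21) Lrfl Lrfl
theorem f792936 : Led Lsl_ff (LP (LK LD1_c15 LD2_c8 LD3_c34)) = (LP (LK LD1_c15 LD2_c6 LD3_c25)) :=
  Lgr Lrot19 (Lpr_dt (f792931 IH) (Lpr_ft (f35843 IH) (Lpe (K37.f35832 IH) (Lpn (LP (LK LD1_c15 LD2_c6 LD3_c25))))))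
theorem f37806 : Led Lsl_ct (LP (LK LD1_c15 LD2_c0 LD3_c26)) = (LP (LK LD1_c7 LD2_c57 LD3_c26)) :=
  Lre_c IH (LK LD1_c15 LD2_c0 LD3_c26) (LK LD1_c7 LD2_c57 LD3_c26) Lrfl Lrfl
theorem f407898 : Led Lsl_gt (LP (LK LD1_c24 LD2_c47 LD3_c48)) = (LP (LK LD1_c15 LD2_c0 LD3_c26)) :=
  Lre_g IH (LK LD1_c24 LD2_c47 LD3_c48) (LK LD1_c15 LD2_c0 LD3_c26) Lrfl Lrfl
theorem f30125 : Led Lsl_gt (LP (LK LD1_c15 LD2_c6 LD3_c26)) = (LP (LK LD1_c8 LD2_c1 LD3_c22)) :=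
  Lre_g IH (LK LD1_c15 LD2_c6 LD3_c26) (LK LD1_c8 LD2_c1 LD3_c22) Lrfl Lrfl
theorem f407901 : Led Lsl_cf (LP (LK LD1_c24 LD2_c47 LD3_c48)) = (LP (LK LD1_c15 LD2_c6 LD3_c26)) :=
  Lgr Lrot166 (Lpr_gt (f407898 IH) (Lpr_dt (K40.f407894 IH) (Lpr_gt (K40.f407895 IH) (Lpr_dt (K1.f29929 IH) (Lpr_ct (K12.f29930 IH) (Lpe (K1.f29985 IH) (Lpe (K40.f30121 IH) (Lpe (K46.f30124 IH) (Lpe (f30125 IH) (Lpn (LP (LK LD1_c15 LD2_c6 LD3_c26))))))))))))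
theorem f445377 : Led Lsl_gf (LP (LK LD1_c15 LD2_c6 LD3_c26)) = (LP (LK LD1_c8 LD2_c1 LD3_c25)) :=
  Lgr Lrot147 (Lpe (f407901 IH) (Lpr_gt (f407898 IH) (Lpr_ct (f37806 IH) (Lpe (K1.f37781 IH) (Lpr_cf (K40.f445365 IH) (Lpe (K37.f36819 IH) (Lpr_cf (K37.f36815 IH) (Lpe (K37.f30104 IH) (Lpe (K40.f30114 IH) (Lpn (LP (LK LD1_c8 LD2_c1 LD3_c25))))))))))))
theorem f792942 : Led Lsl_at (LP (LK LD1_c15 LD2_c8 LD3_c34)) = (LP (LK LD1_c15 LD2_c6 LD3_c26)) :=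
  Lgr Lrot26 (Lpr_ff (f792936 IH) (Lpr_gt (K40.f272908 IH) (Lpe (f445377 IH) (Lpn (LP (LK LD1_c15 LD2_c6 LD3_c26))))))
theorem f489403 : Led Lsl_bt (LP (LK LD1_c13 LD2_c38 LD3_c17)) = (LP (LK LD1_c13 LD2_c26 LD3_c41)) :=
  Lgr Lrot127 (Lpr_bf (f489401 IH) (Lpn (LP (LK LD1_c13 LD2_c26 LD3_c41))))
theorem f552916 : Led Lsl_bt (LP (LK LD1_c9 LD2_c45 LD3_c8)) = (LP (LK LD1_c17 LD2_c54 LD3_c46)) :=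
  Lre_b IH (LK LD1_c9 LD2_c45 LD3_c8) (LK LD1_c17 LD2_c54 LD3_c46) Lrfl Lrfl
theorem f558923 : Led Lsl_df (LP (LK LD1_c13 LD2_c38 LD3_c17)) = (LP (LK LD1_c17 LD2_c54 LD3_c46)) :=
  Lgr Lrot12 (Lpr_bt (f489403 IH) (Lpr_dt (K40.f558921 IH) (Lpr_bt (f552916 IH) (Lpn (LP (LK LD1_c17 LD2_c54 LD3_c46))))))
theorem f613249 : Led Lsl_et (LP (LK LD1_c24 LD2_c54 LD3_c23)) = (LP (LK LD1_c17 LD2_c54 LD3_c46)) :=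
  Lgr Lrot71 (Lpr_df (f613243 IH) (Lpe (f489409 IH) (Lpe (K40.f106230 IH) (Lpe (f489399 IH) (Lpr_df (f558923 IH) (Lpn (LP (LK LD1_c17 LD2_c54 LD3_c46))))))))
theorem f613256 : Led Lsl_ef (LP (LK LD1_c24 LD2_c54 LD3_c23)) = (LP (LK LD1_c17 LD2_c54 LD3_c46)) :=
  Lgr Lrot88 (Lpr_et (f613249 IH) (Lpn (LP (LK LD1_c17 LD2_c54 LD3_c46))))
theorem f108060 : Led Lsl_dt (LP (LK LD1_c7 LD2_c25 LD3_c17)) = (LP (LK LD1_c3 LD2_c42 LD3_c17)) :=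
  Lre_d IH (LK LD1_c7 LD2_c25 LD3_c17) (LK LD1_c3 LD2_c42 LD3_c17) Lrfl Lrfl
theorem f108072 : Led Lsl_gt (LP (LK LD1_c14 LD2_c2 LD3_c4)) = (LP (LK LD1_c7 LD2_c25 LD3_c17)) :=
  Lre_g IH (LK LD1_c14 LD2_c2 LD3_c4) (LK LD1_c7 LD2_c25 LD3_c17) Lrfl Lrfl
theorem f529185 : Led Lsl_ff (LP (LK LD1_c22 LD2_c45 LD3_c15)) = (LP (LK LD1_c22 LD2_c43 LD3_c56)) :=
  Lgr Lrot30 (Lpr_at (K47.f479778 IH) (Lpr_ft (K42.f529165 IH) (Lpr_at (K47.f480443 IH) (Lpn (LP (LK LD1_c22 LD2_c43 LD3_c56))))))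
theorem f459212 : Led Lsl_gt (LP (LK LD1_c22 LD2_c45 LD3_c14)) = (LP (LK LD1_c13 LD2_c25 LD3_c56)) :=
  Lre_g IH (LK LD1_c22 LD2_c45 LD3_c14) (LK LD1_c13 LD2_c25 LD3_c56) Lrfl Lrfl
theorem f529439 : Led Lsl_gf (LP (LK LD1_c22 LD2_c45 LD3_c14)) = (LP (LK LD1_c22 LD2_c43 LD3_c56)) :=
  Lgr Lrot47 (Lpr_gt (f459212 IH) (Lpe (K47.f479778 IH) (Lpr_ff (f529185 IH) (Lpn (LP (LK LD1_c22 LD2_c43 LD3_c56))))))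
theorem f610378 : Led Lsl_df (LP (LK LD1_c14 LD2_c2 LD3_c4)) = (LP (LK LD1_c22 LD2_c45 LD3_c14)) :=
  Lgr Lrot153 (Lpr_gt (f108072 IH) (Lpr_dt (f108060 IH) (Lpe (K41.f108030 IH) (Lpe (K38.f108070 IH) (Lpe (f108071 IH) (Lpr_df (f610374 IH) (Lpe (f479771 IH) (Lpr_cf (K47.f529198 IH) (Lpe (f529439 IH) (Lpn (LP (LK LD1_c22 LD2_c45 LD3_c14))))))))))))
theorem f108143 : Led Lsl_et (LP (LK LD1_c3 LD2_c42 LD3_c17)) = (LP (LK LD1_c1 LD2_c48 LD3_c6)) :=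
  Lre_e IH (LK LD1_c3 LD2_c42 LD3_c17) (LK LD1_c1 LD2_c48 LD3_c6) Lrfl Lrfl
theorem f610414 : Led Lsl_ef (LP (LK LD1_c13 LD2_c38 LD3_c15)) = (LP (LK LD1_c22 LD2_c45 LD3_c14)) :=
  Lgr Lrot17 (Lpr_gf (K37.f489388 IH) (Lpe (f209131 IH) (Lpr_dt (K46.f208945 IH) (Lpe (K46.f568088 IH) (Lpe (K37.f443875 IH) (Lpe (K8.f108089 IH) (Lpe (f108143 IH) (Lpr_dt (K28.f108140 IH) (Lpe (f108072 IH) (Lpr_df (f610378 IH) (Lpn (LP (LK LD1_c22 LD2_c45 LD3_c14)))))))))))))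
theorem f610416 : Led Lsl_ct (LP (LK LD1_c13 LD2_c38 LD3_c17)) = (LP (LK LD1_c22 LD2_c45 LD3_c14)) :=
  Lgr Lrot15 (Lpe (f489405 IH) (Lpe (K37.f116265 IH) (Lpr_ef (f610414 IH) (Lpn (LP (LK LD1_c22 LD2_c45 LD3_c14))))))
theorem f610635 : Led Lsl_gf (LP (LK LD1_c13 LD2_c26 LD3_c41)) = (LP (LK LD1_c22 LD2_c14 LD3_c36)) :=
  Lgr Lrot124 (Lpe (f489403 IH) (Lpr_ct (f610416 IH) (Lpr_gt (f459212 IH) (Lpe (K42.f479748 IH) (Lpr_bt (K48.f479664 IH) (Lpr_gt (K33.f479750 IH) (Lpr_ct (K33.f11043 IH) (Lpr_gt (K28.f458347 IH) (Lpe (K28.f464607 IH) (Lpr_bt (K47.f464599 IH) (Lpn (LP (LK LD1_c22 LD2_c14 LD3_c36)))))))))))))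
theorem f610638 : Led Lsl_et (LP (LK LD1_c9 LD2_c45 LD3_c8)) = (LP (LK LD1_c15 LD2_c6 LD3_c26)) :=
  Lgr Lrot121 (Lpe (f558925 IH) (Lpr_gf (f610635 IH) (Lpe (K47.f609240 IH) (Lpr_et (K47.f609242 IH) (Lpr_gf (K40.f30201 IH) (Lpe (K1.f29962 IH) (Lpr_dt (K37.f29931 IH) (Lpe (K40.f30121 IH) (Lpe (K46.f30124 IH) (Lpe (f30125 IH) (Lpn (LP (LK LD1_c15 LD2_c6 LD3_c26)))))))))))))
theorem f610642 : Led Lsl_ef (LP (LK LD1_c9 LD2_c45 LD3_c8)) = (LP (LK LD1_c15 LD2_c6 LD3_c26)) :=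
  Lgr Lrot88 (Lpr_et (f610638 IH) (Lpn (LP (LK LD1_c15 LD2_c6 LD3_c26))))
theorem f613258 : Led Lsl_bt (LP (LK LD1_c24 LD2_c54 LD3_c23)) = (LP (LK LD1_c15 LD2_c6 LD3_c26)) :=
  Lgr Lrot119 (Lpr_ef (f613256 IH) (Lpe (f552916 IH) (Lpr_ef (f610642 IH) (Lpn (LP (LK LD1_c15 LD2_c6 LD3_c26))))))
theorem f792729 : Led Lsl_ff (LP (LK LD1_c15 LD2_c8 LD3_c33)) = (LP (LK LD1_c15 LD2_c6 LD3_c26)) :=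
  Lgr Lrot25 (Lpr_bt (f37391 IH) (Lpr_ft (f792727 IH) (Lpr_bt (f613258 IH) (Lpn (LP (LK LD1_c15 LD2_c6 LD3_c26))))))
theorem f792948 : Led Lsl_af (LP (LK LD1_c15 LD2_c6 LD3_c25)) = (LP (LK LD1_c15 LD2_c8 LD3_c33)) :=
  Lgr Lrot45 (Lpe (f792936 IH) (Lpr_at (f792942 IH) (Lpe (f792729 IH) (Lpn (LP (LK LD1_c15 LD2_c8 LD3_c33))))))
theorem f792952 : Led Lsl_at (LP (LK LD1_c24 LD2_c54 LD3_c34)) = (LP (LK LD1_c24 LD2_c57 LD3_c30)) :=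
  Lgr Lrot80 (Lpe (K40.f35840 IH) (Lpr_af (f792948 IH) (Lpe (K40.f37411 IH) (Lpn (LP (LK LD1_c24 LD2_c57 LD3_c30))))))
theorem f35853 : Led Lsl_dt (LP (LK LD1_c4 LD2_c24 LD3_c55)) = (LP (LK LD1_c8 LD2_c47 LD3_c20)) :=
  Lre_d IH (LK LD1_c4 LD2_c24 LD3_c55) (LK LD1_c8 LD2_c47 LD3_c20) Lrfl Lrfl
theorem f272889 : Led Lsl_df (LP (LK LD1_c24 LD2_c54 LD3_c34)) = (LP (LK LD1_c16 LD2_c19 LD3_c49)) :=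
  Lgr Lrot70 (Lpr_et (K40.f35852 IH) (Lpr_dt (K37.f35838 IH) (Lpr_et (K37.f35831 IH) (Lpr_dt (f35853 IH) (Lpr_et (K40.f272877 IH) (Lpn (LP (LK LD1_c16 LD2_c19 LD3_c49))))))))
theorem f792956 : Led Lsl_af (LP (LK LD1_c16 LD2_c19 LD3_c49)) = (LP (LK LD1_c17 LD2_c57 LD3_c5)) :=
  Lgr Lrot117 (Lpe (f272889 IH) (Lpr_at (f792952 IH) (Lpr_dt (K40.f37401 IH) (Lpn (LP (LK LD1_c17 LD2_c57 LD3_c5))))))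
theorem f792960 : Led Lsl_at (LP (LK LD1_c8 LD2_c47 LD3_c20)) = (LP (LK LD1_c9 LD2_c46 LD3_c59)) :=
  Lgr Lrot80 (Lpr_ef (K40.f272891 IH) (Lpr_af (f792956 IH) (Lpe (K40.f37414 IH) (Lpn (LP (LK LD1_c9 LD2_c46 LD3_c59))))))
theorem f792966 : Led Lsl_ff (LP (LK LD1_c8 LD2_c47 LD3_c20)) = (LP (LK LD1_c9 LD2_c46 LD3_c56)) :=
  Lgr Lrot52 (Lpr_at (f792960 IH) (Lpe (K40.f445415 IH) (Lpe (K37.f37339 IH) (Lpn (LP (LK LD1_c9 LD2_c46 LD3_c56))))))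
theorem f792972 : Led Lsl_ft (LP (LK LD1_c8 LD2_c47 LD3_c20)) = (LP (LK LD1_c9 LD2_c46 LD3_c56)) :=
  Lgr Lrot48 (Lpr_ff (f792966 IH) (Lpn (LP (LK LD1_c9 LD2_c46 LD3_c56))))
theorem f70292 : Led Lsl_ct (LP (LK LD1_c7 LD2_c57 LD3_c30)) = (LP (LK LD1_c12 LD2_c5 LD3_c59)) :=
  Lgr Lrot59 (Lpr_cf (K37.f70282 IH) (Lpn (LP (LK LD1_c12 LD2_c5 LD3_c59))))
theorem f696863 : Led Lsl_ff (LP (LK LD1_c16 LD2_c25 LD3_c1)) = (LP (LK LD1_c12 LD2_c5 LD3_c59)) :=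
  Lgr Lrot23 (Lpe (K6.f70274 IH) (Lpr_ft (K50.f696787 IH) (Lpqs (K57.f696858 IH) (Lpr_ct (f70292 IH) (Lpn (LP (LK LD1_c12 LD2_c5 LD3_c59)))))))
theorem f697481 : Led Lsl_ft (LP (LK LD1_c16 LD2_c25 LD3_c1)) = (LP (LK LD1_c12 LD2_c5 LD3_c59)) :=
  Lgr Lrot48 (Lpr_ff (f696863 IH) (Lpn (LP (LK LD1_c12 LD2_c5 LD3_c59))))
theorem f617252 : Led Lsl_ft (LP (LK LD1_c16 LD2_c27 LD3_c56)) = (LP (LK LD1_c9 LD2_c14 LD3_c54)) :=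
  Lgr Lrot54 (Lpr_df (K37.f408076 IH) (Lpr_ff (K55.f617246 IH) (Lpe (K2.f56373 IH) (Lpn (LP (LK LD1_c9 LD2_c14 LD3_c54))))))
theorem f617400 : Led Lsl_ff (LP (LK LD1_c21 LD2_c4 LD3_c12)) = (LP (LK LD1_c12 LD2_c21 LD3_c57)) :=
  Lgr Lrot72 (Lpe (K37.f408087 IH) (Lpr_ft (f617252 IH) (Lpr_et (K2.f56372 IH) (Lpr_ft (K55.f617394 IH) (Lpr_et (K47.f503187 IH) (Lpn (LP (LK LD1_c12 LD2_c21 LD3_c57))))))))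
theorem f617404 : Led Lsl_at (LP (LK LD1_c21 LD2_c4 LD3_c12)) = (LP (LK LD1_c13 LD2_c42 LD3_c42)) :=
  Lgr Lrot26 (Lpr_ff (f617400 IH) (Lpe (K47.f576185 IH) (Lpr_gt (K40.f543682 IH) (Lpn (LP (LK LD1_c13 LD2_c42 LD3_c42))))))
theorem f561044 : Led Lsl_ef (LP (LK LD1_c13 LD2_c42 LD3_c42)) = (LP (LK LD1_c16 LD2_c32 LD3_c27)) :=
  Lgr Lrot73 (Lpr_dt (K40.f487872 IH) (Lpr_et (f487890 IH) (Lpr_dt (K47.f6038 IH) (Lpr_et (K40.f561036 IH) (Lpr_dt (K37.f16359 IH) (Lpn (LP (LK LD1_c16 LD2_c32 LD3_c27))))))))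
theorem f617364 : Led Lsl_ff (LP (LK LD1_c9 LD2_c14 LD3_c57)) = (LP (LK LD1_c13 LD2_c42 LD3_c42)) :=
  Lgr Lrot72 (Lpr_et (K57.f56097 IH) (Lpr_ft (K55.f617356 IH) (Lpr_et (K37.f443808 IH) (Lpr_ft (K55.f617292 IH) (Lpe (f561044 IH) (Lpn (LP (LK LD1_c13 LD2_c42 LD3_c42))))))))
theorem f617410 : Led Lsl_af (LP (LK LD1_c12 LD2_c21 LD3_c57)) = (LP (LK LD1_c9 LD2_c14 LD3_c57)) :=
  Lgr Lrot45 (Lpe (f617400 IH) (Lpr_at (f617404 IH) (Lpe (f617364 IH) (Lpn (LP (LK LD1_c9 LD2_c14 LD3_c57))))))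
theorem f607995 : Led Lsl_cf (LP (LK LD1_c12 LD2_c6 LD3_c32)) = (LP (LK LD1_c12 LD2_c21 LD3_c57)) :=
  Lgr Lrot11 (Lpr_ct (K47.f607991 IH) (Lpn (LP (LK LD1_c12 LD2_c21 LD3_c57))))
theorem f607724 : Led Lsl_cf (LP (LK LD1_c9 LD2_c14 LD3_c57)) = (LP (LK LD1_c16 LD2_c23 LD3_c39)) :=
  Lgr Lrot166 (Lpr_gt (K37.f543372 IH) (Lpr_dt (K37.f533550 IH) (Lpe (K37.f543374 IH) (Lpr_dt (K46.f75724 IH) (Lpe (K11.f75682 IH) (Lpe (K11.f75733 IH) (Lpr_gf (K46.f205544 IH) (Lpe (K46.f59756 IH) (Lpr_gf (K57.f607720 IH) (Lpn (LP (LK LD1_c16 LD2_c23 LD3_c39))))))))))))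
theorem f617412 : Led Lsl_at (LP (LK LD1_c12 LD2_c6 LD3_c32)) = (LP (LK LD1_c16 LD2_c23 LD3_c39)) :=
  Lgr Lrot107 (Lpr_cf (f607995 IH) (Lpr_af (f617410 IH) (Lpr_cf (f607724 IH) (Lpn (LP (LK LD1_c16 LD2_c23 LD3_c39))))))
theorem f80413 : Led Lsl_ft (LP (LK LD1_c21 LD2_c12 LD3_c34)) = (LP (LK LD1_c12 LD2_c6 LD3_c32)) :=
  Lre_f IH (LK LD1_c21 LD2_c12 LD3_c34) (LK LD1_c12 LD2_c6 LD3_c32) Lrfl Lrfl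
theorem f80414 : Led Lsl_ft (LP (LK LD1_c12 LD2_c6 LD3_c32)) = (LP (LK LD1_c21 LD2_c12 LD3_c34)) :=
  Lre_f IH (LK LD1_c12 LD2_c6 LD3_c32) (LK LD1_c21 LD2_c12 LD3_c34) Lrfl Lrfl
theorem f607660 : Led Lsl_at (LP (LK LD1_c21 LD2_c12 LD3_c34)) = (LP (LK LD1_c16 LD2_c25 LD3_c43)) :=
  Lgr Lrot33 (Lpe (f80414 IH) (Lpe (K47.f80359 IH) (Lpr_ct (K47.f80405 IH) (Lpr_dt (K47.f607654 IH) (Lpr_ct (K47.f480023 IH) (Lpr_dt (K40.f487877 IH) (Lpr_ct (K46.f487870 IH) (Lpr_dt (K40.f487914 IH) (Lpr_ct (K40.f561079 IH) (Lpn (LP (LK LD1_c16 LD2_c25 LD3_c43))))))))))))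
theorem f607700 : Led Lsl_af (LP (LK LD1_c21 LD2_c12 LD3_c34)) = (LP (LK LD1_c16 LD2_c25 LD3_c43)) :=
  Lgr Lrot0 (Lpr_at (f607660 IH) (Lpn (LP (LK LD1_c16 LD2_c25 LD3_c43))))
theorem f617420 : Led Lsl_ff (LP (LK LD1_c16 LD2_c25 LD3_c43)) = (LP (LK LD1_c16 LD2_c23 LD3_c39)) :=
  Lgr Lrot30 (Lpe (f607700 IH) (Lpr_ft (f80413 IH) (Lpr_at (f617412 IH) (Lpn (LP (LK LD1_c16 LD2_c23 LD3_c39))))))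
theorem f617428 : Led Lsl_gf (LP (LK LD1_c21 LD2_c12 LD3_c34)) = (LP (LK LD1_c12 LD2_c22 LD3_c45)) :=
  Lgr Lrot76 (Lpr_af (f607700 IH) (Lpr_ff (f617420 IH) (Lpe (K57.f607720 IH) (Lpn (LP (LK LD1_c12 LD2_c22 LD3_c45))))))
theorem f205597 : Led Lsl_et (LP (LK LD1_c1 LD2_c31 LD3_c11)) = (LP (LK LD1_c3 LD2_c10 LD3_c2)) :=
  Lre_e IH (LK LD1_c1 LD2_c31 LD3_c11) (LK LD1_c3 LD2_c10 LD3_c2) Lrfl Lrfl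
theorem f36428 : Led Lsl_dt (LP (LK LD1_c1 LD2_c31 LD3_c11)) = (LP (LK LD1_c0 LD2_c42 LD3_c3)) :=
  Lre_d IH (LK LD1_c1 LD2_c31 LD3_c11) (LK LD1_c0 LD2_c42 LD3_c3) Lrfl Lrfl
theorem f81580 : Led Lsl_et (LP (LK LD1_c3 LD2_c3 LD3_c49)) = (LP (LK LD1_c6 LD2_c13 LD3_c56)) :=
  Lre_e IH (LK LD1_c3 LD2_c3 LD3_c49) (LK LD1_c6 LD2_c13 LD3_c56) Lrfl Lrfl
theorem f81150 : Led Lsl_gt (LP (LK LD1_c12 LD2_c6 LD3_c27)) = (LP (LK LD1_c6 LD2_c13 LD3_c56)) :=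
  Lre_g IH (LK LD1_c12 LD2_c6 LD3_c27) (LK LD1_c6 LD2_c13 LD3_c56) Lrfl Lrfl
theorem f70412 : Led Lsl_gt (LP (LK LD1_c16 LD2_c24 LD3_c60)) = (LP (LK LD1_c8 LD2_c46 LD3_c28)) :=
  Lre_g IH (LK LD1_c16 LD2_c24 LD3_c60) (LK LD1_c8 LD2_c46 LD3_c28) Lrfl Lrfl
theorem f544177 : Led Lsl_et (LP (LK LD1_c23 LD2_c3 LD3_c32)) = (LP (LK LD1_c13 LD2_c38 LD3_c23)) :=
  Lre_e IH (LK LD1_c23 LD2_c3 LD3_c32) (LK LD1_c13 LD2_c38 LD3_c23) Lrfl Lrfl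
theorem f30649 : Led Lsl_et (LP (LK LD1_c15 LD2_c7 LD3_c42)) = (LP (LK LD1_c8 LD2_c1 LD3_c61)) :=
  Lre_e IH (LK LD1_c15 LD2_c7 LD3_c42) (LK LD1_c8 LD2_c1 LD3_c61) Lrfl Lrfl
theorem f554561 : Led Lsl_df (LP (LK LD1_c12 LD2_c6 LD3_c27)) = (LP (LK LD1_c15 LD2_c7 LD3_c42)) :=
  Lgr Lrot170 (Lpr_gt (f81150 IH) (Lpr_df (K39.f554552 IH) (Lpr_et (K23.f238817 IH) (Lpe (K13.f238820 IH) (Lpr_dt (K13.f172832 IH) (Lpr_gt (K13.f211117 IH) (Lpe (K11.f29259 IH) (Lpr_et (K35.f29999 IH) (Lpr_gt (K37.f30643 IH) (Lpe (f30649 IH) (Lpn (LP (LK LD1_c15 LD2_c7 LD3_c42)))))))))))))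
theorem f464997 : Led Lsl_dt (LP (LK LD1_c22 LD2_c28 LD3_c36)) = (LP (LK LD1_c13 LD2_c13 LD3_c57)) :=
  Lre_d IH (LK LD1_c22 LD2_c28 LD3_c36) (LK LD1_c13 LD2_c13 LD3_c57) Lrfl Lrfl
theorem f445114 : Led Lsl_gt (LP (LK LD1_c24 LD2_c56 LD3_c32)) = (LP (LK LD1_c15 LD2_c7 LD3_c42)) :=
  Lre_g IH (LK LD1_c24 LD2_c56 LD3_c32) (LK LD1_c15 LD2_c7 LD3_c42) Lrfl Lrfl
theorem f554565 : Led Lsl_et (LP (LK LD1_c22 LD2_c28 LD3_c36)) = (LP (LK LD1_c24 LD2_c56 LD3_c32)) :=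
  Lgr Lrot121 (Lpr_dt (f464997 IH) (Lpe (K29.f464991 IH) (Lpr_df (f552879 IH) (Lpr_et (K39.f172758 IH) (Lpr_gf (K13.f238820 IH) (Lpe (K23.f238817 IH) (Lpe (K39.f554552 IH) (Lpe (f81150 IH) (Lpr_df (f554561 IH) (Lpe (f445114 IH) (Lpn (LP (LK LD1_c24 LD2_c56 LD3_c32)))))))))))))
theorem f554571 : Led Lsl_ef (LP (LK LD1_c22 LD2_c28 LD3_c36)) = (LP (LK LD1_c24 LD2_c56 LD3_c32)) :=
  Lgr Lrot88 (Lpr_et (f554565 IH) (Lpn (LP (LK LD1_c24 LD2_c56 LD3_c32))))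
theorem f471290 : Led Lsl_et (LP (LK LD1_c13 LD2_c13 LD3_c57)) = (LP (LK LD1_c22 LD2_c28 LD3_c37)) :=
  Lre_e IH (LK LD1_c13 LD2_c13 LD3_c57) (LK LD1_c22 LD2_c28 LD3_c37) Lrfl Lrfl
theorem f552204 : Led Lsl_et (LP (LK LD1_c13 LD2_c38 LD3_c23)) = (LP (LK LD1_c23 LD2_c3 LD3_c32)) :=
  Lre_e IH (LK LD1_c13 LD2_c38 LD3_c23) (LK LD1_c23 LD2_c3 LD3_c32) Lrfl Lrfl
theorem f554573 : Led Lsl_dt (LP (LK LD1_c23 LD2_c3 LD3_c32)) = (LP (LK LD1_c24 LD2_c56 LD3_c32)) :=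
  Lgr Lrot77 (Lpe (f552204 IH) (Lpe (K40.f552199 IH) (Lpe (f471290 IH) (Lpe (f464997 IH) (Lpr_ef (f554571 IH) (Lpn (LP (LK LD1_c24 LD2_c56 LD3_c32))))))))
theorem f554563 : Led Lsl_dt (LP (LK LD1_c12 LD2_c6 LD3_c27)) = (LP (LK LD1_c15 LD2_c7 LD3_c42)) :=
  Lgr Lrot42 (Lpr_df (f554561 IH) (Lpn (LP (LK LD1_c15 LD2_c7 LD3_c42))))
theorem f558919 : Led Lsl_ef (LP (LK LD1_c16 LD2_c24 LD3_c60)) = (LP (LK LD1_c12 LD2_c6 LD3_c27)) :=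
  Lgr Lrot167 (Lpr_gt (f70412 IH) (Lpr_dt (K43.f70266 IH) (Lpr_gt (K40.f205548 IH) (Lpe (K39.f205479 IH) (Lpr_et (K36.f205471 IH) (Lpr_gt (K40.f558913 IH) (Lpe (f544177 IH) (Lpr_dt (f554573 IH) (Lpr_gt (f445114 IH) (Lpe (f554563 IH) (Lpn (LP (LK LD1_c12 LD2_c6 LD3_c27)))))))))))))
theorem f558957 : Led Lsl_et (LP (LK LD1_c16 LD2_c24 LD3_c60)) = (LP (LK LD1_c12 LD2_c6 LD3_c27)) :=
  Lgr Lrot87 (Lpr_ef (f558919 IH) (Lpn (LP (LK LD1_c12 LD2_c6 LD3_c27))))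
theorem f617432 : Led Lsl_df (LP (LK LD1_c21 LD2_c12 LD3_c34)) = (LP (LK LD1_c16 LD2_c24 LD3_c60)) :=
  Lgr Lrot132 (Lpr_gf (f617428 IH) (Lpe (K46.f59759 IH) (Lpe (K46.f59755 IH) (Lpe (f205597 IH) (Lpr_dt (f36428 IH) (Lpr_gf (K35.f453522 IH) (Lpqs (K35.f537049 IH) (Lpe (K35.f81584 IH) (Lpr_et (f81580 IH) (Lpe (f81150 IH) (Lpe (f558957 IH) (Lpn (LP (LK LD1_c16 LD2_c24 LD3_c60))))))))))))))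
theorem f408131 : Led Lsl_et (LP (LK LD1_c8 LD2_c1 LD3_c61)) = (LP (LK LD1_c15 LD2_c7 LD3_c42)) :=
  Lre_e IH (LK LD1_c8 LD2_c1 LD3_c61) (LK LD1_c15 LD2_c7 LD3_c42) Lrfl Lrfl
theorem f617438 : Led Lsl_et (LP (LK LD1_c21 LD2_c12 LD3_c34)) = (LP (LK LD1_c15 LD2_c7 LD3_c41)) :=
  Lgr Lrot71 (Lpr_df (f617432 IH) (Lpr_ef (f558919 IH) (Lpr_df (f554561 IH) (Lpe (f408131 IH) (Lpe (K37.f30646 IH) (Lpn (LP (LK LD1_c15 LD2_c7 LD3_c41))))))))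
theorem f617436 : Led Lsl_dt (LP (LK LD1_c21 LD2_c12 LD3_c34)) = (LP (LK LD1_c16 LD2_c24 LD3_c60)) :=
  Lgr Lrot42 (Lpr_df (f617432 IH) (Lpn (LP (LK LD1_c16 LD2_c24 LD3_c60))))
theorem f445110 : Led Lsl_gt (LP (LK LD1_c16 LD2_c26 LD3_c43)) = (LP (LK LD1_c8 LD2_c47 LD3_c20)) :=
  Lgr Lrot112 (Lpr_df (K4.f99358 IH) (Lpr_et (K4.f99357 IH) (Lpe (K37.f99346 IH) (Lpr_ef (K37.f36650 IH) (Lpr_dt (K1.f29952 IH) (Lpr_gf (K37.f30644 IH) (Lpe (K37.f30646 IH) (Lpr_gf (K37.f445104 IH) (Lpe (K40.f35841 IH) (Lpr_dt (f35853 IH) (Lpn (LP (LK LD1_c8 LD2_c47 LD3_c20)))))))))))))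
theorem f617460 : Led Lsl_gt (LP (LK LD1_c8 LD2_c46 LD3_c29)) = (LP (LK LD1_c8 LD2_c51 LD3_c20)) :=
  Lgr Lrot137 (Lpe (K50.f70252 IH) (Lpr_dt (K43.f70244 IH) (Lpe (f70412 IH) (Lpe (f617436 IH) (Lpr_et (f617438 IH) (Lpr_gf (K37.f445104 IH) (Lpe (K40.f35841 IH) (Lpr_dt (f35853 IH) (Lpe (f445110 IH) (Lpr_df (K4.f99358 IH) (Lpn (LP (LK LD1_c8 LD2_c51 LD3_c20)))))))))))))
theorem f697485 : Led Lsl_af (LP (LK LD1_c8 LD2_c51 LD3_c20)) = (LP (LK LD1_c12 LD2_c5 LD3_c59)) :=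
  Lgr Lrot31 (Lpe (f617460 IH) (Lpe (K6.f70253 IH) (Lpr_ft (f697481 IH) (Lpn (LP (LK LD1_c12 LD2_c5 LD3_c59))))))
theorem f697489 : Led Lsl_at (LP (LK LD1_c16 LD2_c26 LD3_c43)) = (LP (LK LD1_c17 LD2_c56 LD3_c58)) :=
  Lgr Lrot51 (Lpr_df (K4.f99358 IH) (Lpr_af (f697485 IH) (Lpr_df (K37.f37347 IH) (Lpn (LP (LK LD1_c17 LD2_c56 LD3_c58))))))
theorem f697491 : Led Lsl_af (LP (LK LD1_c16 LD2_c26 LD3_c43)) = (LP (LK LD1_c17 LD2_c56 LD3_c58)) :=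
  Lgr Lrot0 (Lpr_at (f697489 IH) (Lpn (LP (LK LD1_c17 LD2_c56 LD3_c58))))
theorem f445722 : Led Lsl_gt (LP (LK LD1_c16 LD2_c26 LD3_c44)) = (LP (LK LD1_c8 LD2_c47 LD3_c17)) :=
  Lre_g IH (LK LD1_c16 LD2_c26 LD3_c44) (LK LD1_c8 LD2_c47 LD3_c17) Lrfl Lrfl
theorem f697497 : Led Lsl_ft (LP (LK LD1_c16 LD2_c26 LD3_c44)) = (LP (LK LD1_c17 LD2_c56 LD3_c58)) :=
  Lgr Lrot2 (Lpr_gt (f445722 IH) (Lpr_gt (K4.f35899 IH) (Lpr_af (f697491 IH) (Lpn (LP (LK LD1_c17 LD2_c56 LD3_c58))))))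
theorem f697505 : Led Lsl_ff (LP (LK LD1_c16 LD2_c26 LD3_c44)) = (LP (LK LD1_c17 LD2_c56 LD3_c58)) :=
  Lgr Lrot3 (Lpr_ft (f697497 IH) (Lpn (LP (LK LD1_c17 LD2_c56 LD3_c58))))
theorem f697511 : Led Lsl_dt (LP (LK LD1_c16 LD2_c26 LD3_c44)) = (LP (LK LD1_c16 LD2_c25 LD3_c1)) :=
  Lgr Lrot60 (Lpr_ff (f697505 IH) (Lpe (K37.f37340 IH) (Lpe (f697481 IH) (Lpn (LP (LK LD1_c16 LD2_c25 LD3_c1))))))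
theorem f70791 : Led Lsl_af (LP (LK LD1_c14 LD2_c59 LD3_c54)) = (LP (LK LD1_c8 LD2_c47 LD3_c59)) :=
  Lgr Lrot117 (Lpr_dt (K50.f38614 IH) (Lpr_at (K2.f70779 IH) (Lpr_dt (K2.f70783 IH) (Lpn (LP (LK LD1_c8 LD2_c47 LD3_c59))))))
theorem f99395 : Led Lsl_ft (LP (LK LD1_c4 LD2_c25 LD3_c9)) = (LP (LK LD1_c8 LD2_c47 LD3_c59)) :=
  Lre_f IH (LK LD1_c4 LD2_c25 LD3_c9) (LK LD1_c8 LD2_c47 LD3_c59) Lrfl Lrfl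
theorem f443060 : Led Lsl_gf (LP (LK LD1_c14 LD2_c59 LD3_c54)) = (LP (LK LD1_c8 LD2_c47 LD3_c56)) :=
  Lgr Lrot76 (Lpr_af (f70791 IH) (Lpe (f99395 IH) (Lpr_gt (K57.f70764 IH) (Lpn (LP (LK LD1_c8 LD2_c47 LD3_c56))))))
theorem f443063 : Led Lsl_gt (LP (LK LD1_c7 LD2_c57 LD3_c3)) = (LP (LK LD1_c4 LD2_c25 LD3_c8)) :=
  Lgr Lrot139 (Lpe (K50.f38614 IH) (Lpr_gf (f443060 IH) (Lpe (K57.f201449 IH) (Lpe (K57.f240876 IH) (Lpr_gf (K57.f411479 IH) (Lpr_df (K16.f211552 IH) (Lpr_et (K39.f410773 IH) (Lpe (K47.f410761 IH) (Lpe (K47.f201459 IH) (Lpr_dt (K37.f99396 IH) (Lpn (LP (LK LD1_c4 LD2_c25 LD3_c8)))))))))))))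
theorem f225157 : Led Lsl_gt (LP (LK LD1_c8 LD2_c43 LD3_c2)) = (LP (LK LD1_c4 LD2_c22 LD3_c34)) :=
  Lre_g IH (LK LD1_c8 LD2_c43 LD3_c2) (LK LD1_c4 LD2_c22 LD3_c34) Lrfl Lrfl
theorem f406963 : Led Lsl_gf (LP (LK LD1_c8 LD2_c43 LD3_c2)) = (LP (LK LD1_c14 LD2_c58 LD3_c27)) :=
  Lgr Lrot47 (Lpr_gt (f225157 IH) (Lpr_af (K19.f297289 IH) (Lpe (K18.f236788 IH) (Lpn (LP (LK LD1_c14 LD2_c58 LD3_c27))))))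
theorem f272569 : Led Lsl_dt (LP (LK LD1_c16 LD2_c19 LD3_c47)) = (LP (LK LD1_c8 LD2_c43 LD3_c2)) :=
  Lre_d IH (LK LD1_c16 LD2_c19 LD3_c47) (LK LD1_c8 LD2_c43 LD3_c2) Lrfl Lrfl
theorem f36067 : Led Lsl_gt (LP (LK LD1_c8 LD2_c47 LD3_c42)) = (LP (LK LD1_c16 LD2_c27 LD3_c32)) :=
  Lre_g IH (LK LD1_c8 LD2_c47 LD3_c42) (LK LD1_c16 LD2_c27 LD3_c32) Lrfl Lrfl
theorem f272729 : Led Lsl_et (LP (LK LD1_c16 LD2_c19 LD3_c47)) = (LP (LK LD1_c16 LD2_c27 LD3_c32)) :=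
  Lgr Lrot122 (Lpr_dt (f272569 IH) (Lpr_gt (f225157 IH) (Lpe (f237649 IH) (Lpr_et (f272568 IH) (Lpe (K18.f272558 IH) (Lpr_dt (K18.f70409 IH) (Lpr_gt (K18.f272723 IH) (Lpe (K12.f35487 IH) (Lpr_et (K1.f35807 IH) (Lpr_gt (f36067 IH) (Lpn (LP (LK LD1_c16 LD2_c27 LD3_c32)))))))))))))
theorem f37605 : Led Lsl_gf (LP (LK LD1_c17 LD2_c57 LD3_c14)) = (LP (LK LD1_c16 LD2_c27 LD3_c32)) :=
  Lgr Lrot76 (Lpr_af (K1.f37598 IH) (Lpe (K1.f36065 IH) (Lpr_gt (f36067 IH) (Lpn (LP (LK LD1_c16 LD2_c27 LD3_c32))))))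
theorem f37602 : Led Lsl_et (LP (LK LD1_c9 LD2_c47 LD3_c2)) = (LP (LK LD1_c17 LD2_c57 LD3_c14)) :=
  Lre_e IH (LK LD1_c9 LD2_c47 LD3_c2) (LK LD1_c17 LD2_c57 LD3_c14) Lrfl Lrfl
theorem f236812 : Led Lsl_dt (LP (LK LD1_c24 LD2_c45 LD3_c57)) = (LP (LK LD1_c14 LD2_c58 LD3_c27)) :=
  Lre_d IH (LK LD1_c24 LD2_c45 LD3_c57) (LK LD1_c14 LD2_c58 LD3_c27) Lrfl Lrfl
theorem f297301 : Led Lsl_at (LP (LK LD1_c16 LD2_c19 LD3_c52)) = (LP (LK LD1_c24 LD2_c45 LD3_c57)) :=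
  Lgr Lrot51 (Lpe (K18.f297128 IH) (Lpr_af (K18.f297295 IH) (Lpe (f236812 IH) (Lpn (LP (LK LD1_c24 LD2_c45 LD3_c57))))))
theorem f297248 : Led Lsl_ft (LP (LK LD1_c8 LD2_c43 LD3_c3)) = (LP (LK LD1_c16 LD2_c19 LD3_c52)) :=
  Lre_f IH (LK LD1_c8 LD2_c43 LD3_c3) (LK LD1_c16 LD2_c19 LD3_c52) Lrfl Lrfl
theorem f406950 : Led Lsl_gt (LP (LK LD1_c16 LD2_c19 LD3_c49)) = (LP (LK LD1_c24 LD2_c45 LD3_c57)) :=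
  Lgr Lrot46 (Lpe (K40.f229324 IH) (Lpr_ft (f297248 IH) (Lpr_at (f297301 IH) (Lpn (LP (LK LD1_c24 LD2_c45 LD3_c57))))))
theorem f406969 : Led Lsl_gt (LP (LK LD1_c4 LD2_c58 LD3_c3)) = (LP (LK LD1_c4 LD2_c24 LD3_c55)) :=
  Lgr Lrot112 (Lpe (K1.f37477 IH) (Lpr_et (f37602 IH) (Lpr_gf (f37605 IH) (Lpe (f272729 IH) (Lpr_dt (f272569 IH) (Lpr_gf (f406963 IH) (Lpe (f236812 IH) (Lpe (f406950 IH) (Lpe (K40.f272877 IH) (Lpr_dt (K40.f35842 IH) (Lpn (LP (LK LD1_c4 LD2_c24 LD3_c55)))))))))))))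
theorem f697515 : Led Lsl_gf (LP (LK LD1_c16 LD2_c26 LD3_c44)) = (LP (LK LD1_c8 LD2_c47 LD3_c20)) :=
  Lgr Lrot143 (Lpr_dt (f697511 IH) (Lpe (K6.f70271 IH) (Lpe (K50.f617210 IH) (Lpe (K50.f609940 IH) (Lpe (K37.f99397 IH) (Lpe (f443063 IH) (Lpr_cf (K6.f70279 IH) (Lpr_gt (f406969 IH) (Lpr_dt (f35853 IH) (Lpn (LP (LK LD1_c8 LD2_c47 LD3_c20))))))))))))
theorem f792979 : Led Lsl_af (LP (LK LD1_c8 LD2_c47 LD3_c17)) = (LP (LK LD1_c9 LD2_c46 LD3_c56)) :=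
  Lgr Lrot31 (Lpe (f445722 IH) (Lpr_gf (f697515 IH) (Lpr_ft (f792972 IH) (Lpn (LP (LK LD1_c9 LD2_c46 LD3_c56))))))
theorem f99385 : Led Lsl_bt (LP (LK LD1_c16 LD2_c26 LD3_c41)) = (LP (LK LD1_c8 LD2_c47 LD3_c17)) :=
  Lre_b IH (LK LD1_c16 LD2_c26 LD3_c41) (LK LD1_c8 LD2_c47 LD3_c17) Lrfl Lrfl
theorem f456865 : Led Lsl_ct (LP (LK LD1_c3 LD2_c37 LD3_c20)) = (LP (LK LD1_c7 LD2_c15 LD3_c15)) :=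
  Lre_c IH (LK LD1_c3 LD2_c37 LD3_c20) (LK LD1_c7 LD2_c15 LD3_c15) Lrfl Lrfl
theorem f481276 : Led Lsl_bt (LP (LK LD1_c3 LD2_c37 LD3_c20)) = (LP (LK LD1_c7 LD2_c15 LD3_c12)) :=
  Lre_b IH (LK LD1_c3 LD2_c37 LD3_c20) (LK LD1_c7 LD2_c15 LD3_c12) Lrfl Lrfl
theorem f481277 : Led Lsl_gt (LP (LK LD1_c7 LD2_c15 LD3_c12)) = (LP (LK LD1_c13 LD2_c43 LD3_c35)) :=
  Lre_g IH (LK LD1_c7 LD2_c15 LD3_c12) (LK LD1_c13 LD2_c43 LD3_c35) Lrfl Lrfl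

end

end K61

end

end Cfsg.Agent.Helper28.S1692
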