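import Cfsg.Agent.Lib.Helper28.S1692.Seeds61

set_option autoImplicit false
set_option maxRecDepth 100000
set_option linter.all false

namespace Cfsg.Agent.Helper28.S1692

open Cfsg.Agent.Helper28
open Cfsg.Spor.ON (Gen)

noncomputable section

namespace K62
abbrev LD1_c0 := D1.c0
abbrev LD1_c1 := D1.c1
abbrev LD1_c2 := D1.c2
abbrev LD1_c3 := D1.c3
abbrev LD1_c4 := D1.c4
abbrev LD1_c5 := D1.c5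
abbrev LD1_c6 := D1.c6
abbrev LD1_c7 := D1.c7
abbrev LD1_c8 := D1.c8
abbrev LD1_c9 := D1.c9
abbrev LD1_c10 := D1.c10
abbrev LD1_c11 := D1.c11
abbrev LD1_c12 := D1.c12
abbrev LD1_c13 := D1.c13
abbrev LD1_c14 := D1.c14
abbrev LD1_c15 := D1.c15
abbrev LD1_c16 := D1.c16
abbrev LD1_c17 := D1.c17
abbrev LD1_c18 := D1.c18
abbrev LD1_c19 := D1.c19
abbrev LD1_c20 := D1.c20
abbrev LD1_c21 := D1.c21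
abbrev LD1_c22 := D1.c22
abbrev LD1_c23 := D1.c23
abbrev LD1_c24 := D1.c24
abbrev LD1_c25 := D1.c25
abbrev LD1_c26 := D1.c26
abbrev LD1_c27 := D1.c27
abbrev LD1_c28 := D1.c28
abbrev LD1_c29 := D1.c29
abbrev LD1_c30 := D1.c30
abbrev LD1_c31 := D1.c31
abbrev LD1_c32 := D1.c32
abbrev LD2_c0 := D2.c0
abbrev LD2_c1 := D2.c1
abbrev LD2_c2 := D2.c2
abbrev LD2_c3 := D2.c3
abbrev LD2_c4 := D2.c4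
abbrev LD2_c5 := D2.c5
abbrev LD2_c6 := D2.c6
abbrev LD2_c7 := D2.c7
abbrev LD2_c8 := D2.c8
abbrev LD2_c9 := D2.c9
abbrev LD2_c10 := D2.c10
abbrev LD2_c11 := D2.c11
abbrev LD2_c12 := D2.c12
abbrev LD2_c13 := D2.c13
abbrev LD2_c14 := D2.c14
abbrev LD2_c15 := D2.c15
abbrev LD2_c16 := D2.c16
abbrev LD2_c17 := D2.c17
abbrev LD2_c18 := D2.c18
abbrev LD2_c19 := D2.c19
abbrev LD2_c20 := D2.c20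
abbrev LD2_c21 := D2.c21
abbrev LD2_c22 := D2.c22
abbrev LD2_c23 := D2.c23
abbrev LD2_c24 := D2.c24
abbrev LD2_c25 := D2.c25
abbrev LD2_c26 := D2.c26
abbrev LD2_c27 := D2.c27
abbrev LD2_c28 := D2.c28
abbrev LD2_c29 := D2.c29
abbrev LD2_c30 := D2.c30
abbrev LD2_c31 := D2.c31
abbrev LD2_c32 := D2.c32
abbrev LD2_c33 := D2.c33
abbrev LD2_c34 := D2.c34
abbrev LD2_c35 := D2.c35
abbrev LD2_c36 := D2.c36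
abbrev LD2_c37 := D2.c37
abbrev LD2_c38 := D2.c38
abbrev LD2_c39 := D2.c39
abbrev LD2_c40 := D2.c40
abbrev LD2_c41 := D2.c41
abbrev LD2_c42 := D2.c42
abbrev LD2_c43 := D2.c43
abbrev LD2_c44 := D2.c44
abbrev LD2_c45 := D2.c45
abbrev LD2_c46 := D2.c46
abbrev LD2_c47 := D2.c47
abbrev LD2_c48 := D2.c48
abbrev LD2_c49 := D2.c49
abbrev LD2_c50 := D2.c50
abbrev LD2_c51 := D2.c51
abbrev LD2_c52 := D2.c52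
abbrev LD2_c53 := D2.c53
abbrev LD2_c54 := D2.c54
abbrev LD2_c55 := D2.c55
abbrev LD2_c56 := D2.c56
abbrev LD2_c57 := D2.c57
abbrev LD2_c58 := D2.c58
abbrev LD2_c59 := D2.c59
abbrev LD3_c0 := D3.c0
abbrev LD3_c1 := D3.c1
abbrev LD3_c2 := D3.c2
abbrev LD3_c3 := D3.c3
abbrev LD3_c4 := D3.c4
abbrev LD3_c5 := D3.c5
abbrev LD3_c6 := D3.c6
abbrev LD3_c7 := D3.c7
abbrev LD3_c8 := D3.c8
abbrev LD3_c9 := D3.c9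
abbrev LD3_c10 := D3.c10
abbrev LD3_c11 := D3.c11
abbrev LD3_c12 := D3.c12
abbrev LD3_c13 := D3.c13
abbrev LD3_c14 := D3.c14
abbrev LD3_c15 := D3.c15
abbrev LD3_c16 := D3.c16
abbrev LD3_c17 := D3.c17
abbrev LD3_c18 := D3.c18
abbrev LD3_c19 := D3.c19
abbrev LD3_c20 := D3.c20
abbrev LD3_c21 := D3.c21
abbrev LD3_c22 := D3.c22
abbrev LD3_c23 := D3.c23
abbrev LD3_c24 := D3.c24
abbrev LD3_c25 := D3.c25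
abbrev LD3_c26 := D3.c26
abbrev LD3_c27 := D3.c27
abbrev LD3_c28 := D3.c28
abbrev LD3_c29 := D3.c29
abbrev LD3_c30 := D3.c30
abbrev LD3_c31 := D3.c31
abbrev LD3_c32 := D3.c32
abbrev LD3_c33 := D3.c33
abbrev LD3_c34 := D3.c34
abbrev LD3_c35 := D3.c35
abbrev LD3_c36 := D3.c36
abbrev LD3_c37 := D3.c37
abbrev LD3_c38 := D3.c38
abbrev LD3_c39 := D3.c39
abbrev LD3_c40 := D3.c40
abbrev LD3_c41 := D3.c41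
abbrev LD3_c42 := D3.c42
abbrev LD3_c43 := D3.c43
abbrev LD3_c44 := D3.c44
abbrev LD3_c45 := D3.c45
abbrev LD3_c46 := D3.c46
abbrev LD3_c47 := D3.c47
abbrev LD3_c48 := D3.c48
abbrev LD3_c49 := D3.c49
abbrev LD3_c50 := D3.c50
abbrev LD3_c51 := D3.c51
abbrev LD3_c52 := D3.c52
abbrev LD3_c53 := D3.c53
abbrev LD3_c54 := D3.c54
abbrev LD3_c55 := D3.c55
abbrev LD3_c56 := D3.c56
abbrev LD3_c57 := D3.c57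
abbrev LD3_c58 := D3.c58
abbrev LD3_c59 := D3.c59
abbrev LD3_c60 := D3.c60
abbrev LD3_c61 := D3.c61
abbrev LG_g := Gen.g
abbrev Lsl_gt : Gen × Bool := sl_gt
alias Lfl_gt := fl_gt
alias Lpr_gt := pr_gt
abbrev Lsl_gf : Gen × Bool := sl_gf
alias Lfl_gf := fl_gf
alias Lpr_gf := pr_gf
alias Lre_g := re_g
alias Leoe_g := eoe_g
abbrev LG_a := Gen.a
abbrev Lsl_at : Gen × Bool := sl_at
alias Lfl_at := fl_at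
alias Lpr_at := pr_at
abbrev Lsl_af : Gen × Bool := sl_af
alias Lfl_af := fl_af
alias Lpr_af := pr_af
alias Lre_a := re_a
alias Leoe_a := eoe_a
abbrev LG_b := Gen.b
abbrev Lsl_bt : Gen × Bool := sl_bt
alias Lfl_bt := fl_bt
alias Lpr_bt := pr_bt
abbrev Lsl_bf : Gen × Bool := sl_bf
alias Lfl_bf := fl_bf
alias Lpr_bf := pr_bf
alias Lre_b := re_b
alias Leoe_b := eoe_b
abbrev LG_c := Gen.c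
abbrev Lsl_ct : Gen × Bool := sl_ct
alias Lfl_ct := fl_ct
alias Lpr_ct := pr_ct
abbrev Lsl_cf : Gen × Bool := sl_cf
alias Lfl_cf := fl_cf
alias Lpr_cf := pr_cf
alias Lre_c := re_c
alias Leoe_c := eoe_c
abbrev LG_d := Gen.d
abbrev Lsl_dt : Gen × Bool := sl_dt
alias Lfl_dt := fl_dt
alias Lpr_dt := pr_dt
abbrev Lsl_df : Gen × Bool := sl_df
alias Lfl_df := fl_df
alias Lpr_df := pr_df
alias Lre_d := re_d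
alias Leoe_d := eoe_d
abbrev LG_e := Gen.e
abbrev Lsl_et : Gen × Bool := sl_et
alias Lfl_et := fl_et
alias Lpr_et := pr_et
abbrev Lsl_ef : Gen × Bool := sl_ef
alias Lfl_ef := fl_ef
alias Lpr_ef := pr_ef
alias Lre_e := re_e
alias Leoe_e := eoe_e
abbrev LG_f := Gen.f
abbrev Lsl_ft : Gen × Bool := sl_ft
alias Lfl_ft := fl_ft
alias Lpr_ft := pr_ft
abbrev Lsl_ff : Gen × Bool := sl_ff
alias Lfl_ff := fl_ff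
alias Lpr_ff := pr_ff
alias Lre_f := re_f
alias Leoe_f := eoe_f
abbrev LK := Pt.mk
abbrev LQ : Type := Qt rels S
abbrev LP (p : Pt) : LQ := P p
abbrev Led (l : Gen × Bool) (c : LQ) : LQ := ed l c
abbrev LEOK (x : Gen) (p : Pt) : Prop := EntryOK rels S fwd inv o plet idx x p
alias Lpe := pe
alias Lpn := pn
alias Lgr := gr
alias Lpq := pq
alias Lpqs := pqs
alias Llr := lr
alias Leop := eop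
alias Lefun := efun
alias Lecon := econ
theorem Lrfl {α : Sort _} {a : α} : a = a := rfl
alias Lrot0 := rot0
alias Lrot1 := rot1
alias Lrot2 := rot2
alias Lrot3 := rot3
alias Lrot4 := rot4
alias Lrot5 := rot5
alias Lrot6 := rot6
alias Lrot7 := rot7
alias Lrot8 := rot8
alias Lrot9 := rot9
alias Lrot10 := rot10
alias Lrot11 := rot11
alias Lrot12 := rot12
alias Lrot14 := rot14
alias Lrot15 := rot15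
alias Lrot16 := rot16
alias Lrot17 := rot17
alias Lrot18 := rot18
alias Lrot19 := rot19
alias Lrot20 := rot20
alias Lrot21 := rot21
alias Lrot22 := rot22
alias Lrot23 := rot23
alias Lrot24 := rot24
alias Lrot25 := rot25
alias Lrot26 := rot26
alias Lrot27 := rot27
alias Lrot28 := rot28
alias Lrot29 := rot29
alias Lrot30 := rot30
alias Lrot31 := rot31
alias Lrot33 := rot33
alias Lrot34 := rot34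
alias Lrot35 := rot35
alias Lrot36 := rot36
alias Lrot37 := rot37
alias Lrot38 := rot38
alias Lrot39 := rot39
alias Lrot40 := rot40
alias Lrot41 := rot41
alias Lrot42 := rot42
alias Lrot43 := rot43
alias Lrot44 := rot44
alias Lrot45 := rot45
alias Lrot46 := rot46
alias Lrot47 := rot47
alias Lrot48 := rot48
alias Lrot49 := rot49
alias Lrot50 := rot50
alias Lrot51 := rot51
alias Lrot52 := rot52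
alias Lrot53 := rot53
alias Lrot54 := rot54
alias Lrot56 := rot56
alias Lrot57 := rot57
alias Lrot58 := rot58
alias Lrot59 := rot59
alias Lrot60 := rot60
alias Lrot61 := rot61
alias Lrot62 := rot62
alias Lrot63 := rot63
alias Lrot64 := rot64
alias Lrot65 := rot65
alias Lrot66 := rot66
alias Lrot67 := rot67
alias Lrot68 := rot68
alias Lrot69 := rot69
alias Lrot70 := rot70
alias Lrot71 := rot71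
alias Lrot72 := rot72
alias Lrot73 := rot73
alias Lrot74 := rot74
alias Lrot75 := rot75
alias Lrot76 := rot76
alias Lrot77 := rot77
alias Lrot78 := rot78
alias Lrot79 := rot79
alias Lrot80 := rot80
alias Lrot81 := rot81
alias Lrot82 := rot82
alias Lrot83 := rot83
alias Lrot84 := rot84
alias Lrot86 := rot86
alias Lrot87 := rot87
alias Lrot88 := rot88
alias Lrot90 := rot90
alias Lrot91 := rot91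
alias Lrot92 := rot92
alias Lrot93 := rot93
alias Lrot94 := rot94
alias Lrot95 := rot95
alias Lrot96 := rot96
alias Lrot97 := rot97
alias Lrot98 := rot98
alias Lrot99 := rot99
alias Lrot100 := rot100
alias Lrot101 := rot101
alias Lrot103 := rot103
alias Lrot104 := rot104
alias Lrot105 := rot105
alias Lrot106 := rot106
alias Lrot107 := rot107
alias Lrot108 := rot108
alias Lrot109 := rot109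
alias Lrot110 := rot110
alias Lrot111 := rot111
alias Lrot112 := rot112
alias Lrot113 := rot113
alias Lrot117 := rot117
alias Lrot118 := rot118
alias Lrot119 := rot119
alias Lrot120 := rot120
alias Lrot121 := rot121
alias Lrot122 := rot122
alias Lrot123 := rot123
alias Lrot124 := rot124
alias Lrot125 := rot125
alias Lrot126 := rot126
alias Lrot127 := rot127
alias Lrot128 := rot128
alias Lrot129 := rot129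
alias Lrot130 := rot130
alias Lrot131 := rot131
alias Lrot132 := rot132
alias Lrot134 := rot134
alias Lrot135 := rot135
alias Lrot136 := rot136
alias Lrot137 := rot137
alias Lrot138 := rot138
alias Lrot139 := rot139
alias Lrot141 := rot141
alias Lrot142 := rot142
alias Lrot143 := rot143
alias Lrot144 := rot144
alias Lrot145 := rot145
alias Lrot146 := rot146
alias Lrot147 := rot147
alias Lrot148 := rot148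
alias Lrot149 := rot149
alias Lrot150 := rot150
alias Lrot151 := rot151
alias Lrot152 := rot152
alias Lrot153 := rot153
alias Lrot154 := rot154
alias Lrot155 := rot155
alias Lrot156 := rot156
alias Lrot157 := rot157
alias Lrot158 := rot158
alias Lrot159 := rot159
alias Lrot160 := rot160
alias Lrot161 := rot161
alias Lrot162 := rot162
alias Lrot164 := rot164
alias Lrot165 := rot165
alias Lrot166 := rot166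
alias Lrot167 := rot167
alias Lrot168 := rot168
alias Lrot169 := rot169
alias Lrot170 := rot170
alias Lrot171 := rot171
alias Lrot172 := rot172
alias Lrot174 := rot174
alias Lrot175 := rot175
alias Lrot176 := rot176
alias Lrot180 := rot180
alias Lrot181 := rot181
alias Lrot185 := rot185
alias Lrot187 := rot187
alias Lrot188 := rot188
alias Lrot189 := rot189
alias Lrot191 := rot191

section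
variable (IH : IHT)
include IH

theorem f481297 : Led Lsl_bt (LP (LK LD1_c13 LD2_c33 LD3_c6)) = (LP (LK LD1_c13 LD2_c43 LD3_c35)) :=
  Lgr Lrot92 (Lpr_ct (K48.f6042 IH) (Lpe (K48.f6043 IH) (Lpe (K48.f6079 IH) (Lpr_bt (K39.f6080 IH) (Lpe (K47.f481295 IH) (Lpr_ct (K47.f481287 IH) (Lpr_gt (K47.f481288 IH) (Lpe (K61.f456865 IH) (Lpr_bt (K61.f481276 IH) (Lpr_gt (K61.f481277 IH) (Lpn (LP (LK LD1_c13 LD2_c43 LD3_c35)))))))))))))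
theorem f481300 : Led Lsl_bf (LP (LK LD1_c13 LD2_c33 LD3_c6)) = (LP (LK LD1_c13 LD2_c43 LD3_c35)) :=
  Lgr Lrot24 (Lpr_bt (f481297 IH) (Lpn (LP (LK LD1_c13 LD2_c43 LD3_c35))))
theorem f608101 : Led Lsl_et (LP (LK LD1_c8 LD2_c47 LD3_c17)) = (LP (LK LD1_c13 LD2_c43 LD3_c35)) :=
  Lgr Lrot74 (Lpe (K61.f99385 IH) (Lpr_ef (K61.f608098 IH) (Lpr_bf (f481300 IH) (Lpn (LP (LK LD1_c13 LD2_c43 LD3_c35))))))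
theorem f37365 : Led Lsl_et (LP (LK LD1_c17 LD2_c56 LD3_c61)) = (LP (LK LD1_c9 LD2_c46 LD3_c56)) :=
  Lre_e IH (LK LD1_c17 LD2_c56 LD3_c61) (LK LD1_c9 LD2_c46 LD3_c56) Lrfl Lrfl
theorem f792985 : Led Lsl_at (LP (LK LD1_c13 LD2_c43 LD3_c35)) = (LP (LK LD1_c17 LD2_c56 LD3_c61)) :=
  Lgr Lrot80 (Lpe (f608101 IH) (Lpr_af (K61.f792979 IH) (Lpe (f37365 IH) (Lpn (LP (LK LD1_c17 LD2_c56 LD3_c61))))))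
theorem f793036 : Led Lsl_af (LP (LK LD1_c13 LD2_c43 LD3_c35)) = (LP (LK LD1_c17 LD2_c56 LD3_c61)) :=
  Lgr Lrot0 (Lpr_at (f792985 IH) (Lpn (LP (LK LD1_c17 LD2_c56 LD3_c61))))
theorem f456243 : Led Lsl_gt (LP (LK LD1_c13 LD2_c43 LD3_c36)) = (LP (LK LD1_c7 LD2_c15 LD3_c12)) :=
  Lre_g IH (LK LD1_c13 LD2_c43 LD3_c36) (LK LD1_c7 LD2_c15 LD3_c12) Lrfl Lrfl
theorem f793569 : Led Lsl_ft (LP (LK LD1_c13 LD2_c43 LD3_c36)) = (LP (LK LD1_c17 LD2_c56 LD3_c61)) :=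
  Lgr Lrot2 (Lpr_gt (f456243 IH) (Lpr_gt (K61.f481277 IH) (Lpr_af (f793036 IH) (Lpn (LP (LK LD1_c17 LD2_c56 LD3_c61))))))
theorem f793579 : Led Lsl_ff (LP (LK LD1_c13 LD2_c43 LD3_c36)) = (LP (LK LD1_c17 LD2_c56 LD3_c61)) :=
  Lgr Lrot3 (Lpr_ft (f793569 IH) (Lpn (LP (LK LD1_c17 LD2_c56 LD3_c61))))
theorem f793588 : Led Lsl_et (LP (LK LD1_c13 LD2_c43 LD3_c36)) = (LP (LK LD1_c23 LD2_c10 LD3_c7)) :=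
  Lre_e IH (LK LD1_c13 LD2_c43 LD3_c36) (LK LD1_c23 LD2_c10 LD3_c7) Lrfl Lrfl
theorem f70407 : Led Lsl_et (LP (LK LD1_c9 LD2_c46 LD3_c56)) = (LP (LK LD1_c17 LD2_c56 LD3_c61)) :=
  Lre_e IH (LK LD1_c9 LD2_c46 LD3_c56) (LK LD1_c17 LD2_c56 LD3_c61) Lrfl Lrfl
theorem f793589 : Led Lsl_ft (LP (LK LD1_c23 LD2_c10 LD3_c7)) = (LP (LK LD1_c16 LD2_c19 LD3_c49)) :=
  Lgr Lrot86 (Lpe (f793588 IH) (Lpr_ff (f793579 IH) (Lpe (f70407 IH) (Lpe (K61.f792972 IH) (Lpr_ef (K40.f272891 IH) (Lpn (LP (LK LD1_c16 LD2_c19 LD3_c49))))))))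
theorem f763049 : Led Lsl_df (LP (LK LD1_c9 LD2_c46 LD3_c61)) = (LP (LK LD1_c12 LD2_c22 LD3_c35)) :=
  Lgr Lrot168 (Lpe (K47.f37408 IH) (Lpe (K6.f37407 IH) (Lpr_et (K2.f37466 IH) (Lpr_gf (K24.f80319 IH) (Lpe (K32.f80330 IH) (Lpr_dt (K32.f81135 IH) (Lpe (K37.f34477 IH) (Lpe (K37.f81510 IH) (Lpe (K47.f37406 IH) (Lpr_ef (K57.f763041 IH) (Lpn (LP (LK LD1_c12 LD2_c22 LD3_c35)))))))))))))
theorem f70798 : Led Lsl_ct (LP (LK LD1_c4 LD2_c24 LD3_c57)) = (LP (LK LD1_c4 LD2_c25 LD3_c10)) :=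
  Lgr Lrot15 (Lpe (K2.f35913 IH) (Lpe (K61.f35683 IH) (Lpr_ef (K2.f70793 IH) (Lpn (LP (LK LD1_c4 LD2_c25 LD3_c10))))))
theorem f99365 : Led Lsl_ct (LP (LK LD1_c4 LD2_c26 LD3_c50)) = (LP (LK LD1_c8 LD2_c51 LD3_c20)) :=
  Lre_c IH (LK LD1_c4 LD2_c26 LD3_c50) (LK LD1_c8 LD2_c51 LD3_c20) Lrfl Lrfl
theorem f763054 : Led Lsl_gt (LP (LK LD1_c8 LD2_c51 LD3_c20)) = (LP (LK LD1_c12 LD2_c22 LD3_c35)) :=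
  Lgr Lrot94 (Lpe (f99365 IH) (Lpr_gt (K50.f211186 IH) (Lpe (K50.f227644 IH) (Lpe (K50.f201935 IH) (Lpr_dt (K11.f70785 IH) (Lpe (f70798 IH) (Lpe (K1.f36037 IH) (Lpe (K61.f37616 IH) (Lpr_df (f763049 IH) (Lpn (LP (LK LD1_c12 LD2_c22 LD3_c35))))))))))))
theorem f608093 : Led Lsl_bt (LP (LK LD1_c8 LD2_c47 LD3_c17)) = (LP (LK LD1_c16 LD2_c26 LD3_c41)) :=
  Lre_b IH (LK LD1_c8 LD2_c47 LD3_c17) (LK LD1_c16 LD2_c26 LD3_c41) Lrfl Lrfl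
theorem f608094 : Led Lsl_ef (LP (LK LD1_c8 LD2_c47 LD3_c17)) = (LP (LK LD1_c13 LD2_c43 LD3_c35)) :=
  Lgr Lrot29 (Lpr_bt (f608093 IH) (Lpr_et (K61.f608090 IH) (Lpr_bt (f481297 IH) (Lpn (LP (LK LD1_c13 LD2_c43 LD3_c35))))))
theorem f763045 : Led Lsl_dt (LP (LK LD1_c9 LD2_c46 LD3_c61)) = (LP (LK LD1_c12 LD2_c22 LD3_c35)) :=
  Lgr Lrot77 (Lpe (K47.f37625 IH) (Lpr_df (K47.f272652 IH) (Lpe (K47.f608019 IH) (Lpr_df (K47.f608015 IH) (Lpr_ef (K57.f763041 IH) (Lpn (LP (LK LD1_c12 LD2_c22 LD3_c35))))))))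
theorem f272654 : Led Lsl_et (LP (LK LD1_c9 LD2_c46 LD3_c61)) = (LP (LK LD1_c17 LD2_c57 LD3_c8)) :=
  Lre_e IH (LK LD1_c9 LD2_c46 LD3_c61) (LK LD1_c17 LD2_c57 LD3_c8) Lrfl Lrfl
theorem f610018 : Led Lsl_ff (LP (LK LD1_c15 LD2_c10 LD3_c60)) = (LP (LK LD1_c15 LD2_c14 LD3_c6)) :=
  Lgr Lrot3 (Lpr_ft (K47.f610014 IH) (Lpn (LP (LK LD1_c15 LD2_c14 LD3_c6))))
theorem f607023 : Led Lsl_ef (LP (LK LD1_c23 LD2_c3 LD3_c17)) = (LP (LK LD1_c15 LD2_c10 LD3_c60)) :=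
  Lgr Lrot88 (Lpr_et (K47.f607021 IH) (Lpn (LP (LK LD1_c15 LD2_c10 LD3_c60))))
theorem f608805 : Led Lsl_ft (LP (LK LD1_c23 LD2_c17 LD3_c56)) = (LP (LK LD1_c25 LD2_c3 LD3_c12)) :=
  Lgr Lrot48 (Lpr_ff (K47.f608802 IH) (Lpn (LP (LK LD1_c25 LD2_c3 LD3_c12))))
theorem f608810 : Led Lsl_et (LP (LK LD1_c13 LD2_c49 LD3_c4)) = (LP (LK LD1_c23 LD2_c17 LD3_c56)) :=
  Lre_e IH (LK LD1_c13 LD2_c49 LD3_c4) (LK LD1_c23 LD2_c17 LD3_c56) Lrfl Lrfl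
theorem f610020 : Led Lsl_ft (LP (LK LD1_c23 LD2_c3 LD3_c17)) = (LP (LK LD1_c13 LD2_c49 LD3_c4)) :=
  Lgr Lrot86 (Lpr_ef (f607023 IH) (Lpr_ff (f610018 IH) (Lpe (K47.f34560 IH) (Lpe (f608805 IH) (Lpe (f608810 IH) (Lpn (LP (LK LD1_c13 LD2_c49 LD3_c4))))))))
theorem f518608 : Led Lsl_at (LP (LK LD1_c13 LD2_c49 LD3_c4)) = (LP (LK LD1_c7 LD2_c18 LD3_c10)) :=
  Lre_a IH (LK LD1_c13 LD2_c49 LD3_c4) (LK LD1_c7 LD2_c18 LD3_c10) Lrfl Lrfl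
theorem f610022 : Led Lsl_af (LP (LK LD1_c23 LD2_c3 LD3_c17)) = (LP (LK LD1_c13 LD2_c46 LD3_c61)) :=
  Lgr Lrot45 (Lpr_ft (f610020 IH) (Lpr_at (f518608 IH) (Lpr_ft (K47.f517482 IH) (Lpn (LP (LK LD1_c13 LD2_c46 LD3_c61))))))
theorem f481642 : Led Lsl_gt (LP (LK LD1_c7 LD2_c18 LD3_c10)) = (LP (LK LD1_c13 LD2_c49 LD3_c5)) :=
  Lre_g IH (LK LD1_c7 LD2_c18 LD3_c10) (LK LD1_c13 LD2_c49 LD3_c5) Lrfl Lrfl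
theorem f610030 : Led Lsl_gf (LP (LK LD1_c23 LD2_c3 LD3_c17)) = (LP (LK LD1_c13 LD2_c49 LD3_c5)) :=
  Lgr Lrot76 (Lpr_af (f610022 IH) (Lpe (K47.f517482 IH) (Lpr_gt (f481642 IH) (Lpn (LP (LK LD1_c13 LD2_c49 LD3_c5))))))
theorem f225037 : Led Lsl_dt (LP (LK LD1_c8 LD2_c4 LD3_c57)) = (LP (LK LD1_c4 LD2_c22 LD3_c50)) :=
  Lgr Lrot42 (Lpr_df (K18.f225031 IH) (Lpn (LP (LK LD1_c4 LD2_c22 LD3_c50))))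
theorem f610032 : Led Lsl_et (LP (LK LD1_c16 LD2_c20 LD3_c28)) = (LP (LK LD1_c13 LD2_c49 LD3_c5)) :=
  Lgr Lrot121 (Lpr_dt (K61.f225072 IH) (Lpe (K61.f225048 IH) (Lpe (f225037 IH) (Lpr_et (K18.f211662 IH) (Lpe (K13.f242490 IH) (Lpe (K47.f607007 IH) (Lpr_dt (K47.f116226 IH) (Lpe (K46.f116228 IH) (Lpe (K47.f116230 IH) (Lpr_gf (f610030 IH) (Lpn (LP (LK LD1_c13 LD2_c49 LD3_c5)))))))))))))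
theorem f608804 : Led Lsl_dt (LP (LK LD1_c13 LD2_c49 LD3_c8)) = (LP (LK LD1_c23 LD2_c18 LD3_c4)) :=
  Lre_d IH (LK LD1_c13 LD2_c49 LD3_c8) (LK LD1_c23 LD2_c18 LD3_c4) Lrfl Lrfl
theorem f610036 : Led Lsl_gt (LP (LK LD1_c17 LD2_c57 LD3_c8)) = (LP (LK LD1_c23 LD2_c18 LD3_c4)) :=
  Lgr Lrot139 (Lpr_df (K47.f272652 IH) (Lpr_gf (K61.f298134 IH) (Lpe (K18.f287336 IH) (Lpr_dt (K18.f197282 IH) (Lpe (K61.f407022 IH) (Lpe (K61.f225072 IH) (Lpr_et (f610032 IH) (Lpe (f481642 IH) (Lpe (K47.f518609 IH) (Lpr_dt (f608804 IH) (Lpn (LP (LK LD1_c23 LD2_c18 LD3_c4)))))))))))))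
theorem f610038 : Led Lsl_et (LP (LK LD1_c13 LD2_c49 LD3_c11)) = (LP (LK LD1_c23 LD2_c18 LD3_c4)) :=
  Lre_e IH (LK LD1_c13 LD2_c49 LD3_c11) (LK LD1_c23 LD2_c18 LD3_c4) Lrfl Lrfl
theorem f517267 : Led Lsl_dt (LP (LK LD1_c13 LD2_c49 LD3_c11)) = (LP (LK LD1_c7 LD2_c18 LD3_c11)) :=
  Lre_d IH (LK LD1_c13 LD2_c49 LD3_c11) (LK LD1_c7 LD2_c18 LD3_c11) Lrfl Lrfl
theorem f442100 : Led Lsl_gt (LP (LK LD1_c7 LD2_c18 LD3_c11)) = (LP (LK LD1_c13 LD2_c49 LD3_c9)) :=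
  Lre_g IH (LK LD1_c7 LD2_c18 LD3_c11) (LK LD1_c13 LD2_c49 LD3_c9) Lrfl Lrfl
theorem f764156 : Led Lsl_dt (LP (LK LD1_c13 LD2_c43 LD3_c35)) = (LP (LK LD1_c13 LD2_c49 LD3_c9)) :=
  Lgr Lrot37 (Lpe (f608094 IH) (Lpr_gt (K4.f35899 IH) (Lpr_dt (K4.f99368 IH) (Lpr_gt (f763054 IH) (Lpe (f763045 IH) (Lpr_et (f272654 IH) (Lpr_gt (f610036 IH) (Lpe (f610038 IH) (Lpr_dt (f517267 IH) (Lpr_gt (f442100 IH) (Lpn (LP (LK LD1_c13 LD2_c49 LD3_c9)))))))))))))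
theorem f764160 : Led Lsl_df (LP (LK LD1_c13 LD2_c43 LD3_c35)) = (LP (LK LD1_c13 LD2_c49 LD3_c9)) :=
  Lgr Lrot38 (Lpr_dt (f764156 IH) (Lpn (LP (LK LD1_c13 LD2_c49 LD3_c9))))
theorem f70406 : Led Lsl_dt (LP (LK LD1_c9 LD2_c46 LD3_c56)) = (LP (LK LD1_c4 LD2_c58 LD3_c0)) :=
  Lre_d IH (LK LD1_c9 LD2_c46 LD3_c56) (LK LD1_c4 LD2_c58 LD3_c0) Lrfl Lrfl
theorem f544239 : Led Lsl_et (LP (LK LD1_c7 LD2_c5 LD3_c40)) = (LP (LK LD1_c13 LD2_c26 LD3_c43)) :=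
  Lre_e IH (LK LD1_c7 LD2_c5 LD3_c40) (LK LD1_c13 LD2_c26 LD3_c43) Lrfl Lrfl
theorem f544253 : Led Lsl_df (LP (LK LD1_c17 LD2_c56 LD3_c61)) = (LP (LK LD1_c13 LD2_c26 LD3_c43)) :=
  Lgr Lrot70 (Lpr_et (f37365 IH) (Lpr_dt (f70406 IH) (Lpr_et (K46.f37356 IH) (Lpr_dt (K40.f544246 IH) (Lpr_et (f544239 IH) (Lpn (LP (LK LD1_c13 LD2_c26 LD3_c43))))))))
theorem f544259 : Led Lsl_dt (LP (LK LD1_c17 LD2_c56 LD3_c61)) = (LP (LK LD1_c13 LD2_c26 LD3_c43)) :=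
  Lgr Lrot42 (Lpr_df (f544253 IH) (Lpn (LP (LK LD1_c13 LD2_c26 LD3_c43))))
theorem f793040 : Led Lsl_af (LP (LK LD1_c13 LD2_c49 LD3_c9)) = (LP (LK LD1_c13 LD2_c26 LD3_c43)) :=
  Lgr Lrot117 (Lpe (f764160 IH) (Lpr_at (f792985 IH) (Lpr_dt (f544259 IH) (Lpn (LP (LK LD1_c13 LD2_c26 LD3_c43))))))
theorem f522347 : Led Lsl_gt (LP (LK LD1_c13 LD2_c49 LD3_c10)) = (LP (LK LD1_c7 LD2_c18 LD3_c11)) :=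
  Lre_g IH (LK LD1_c13 LD2_c49 LD3_c10) (LK LD1_c7 LD2_c18 LD3_c11) Lrfl Lrfl
theorem f793062 : Led Lsl_ft (LP (LK LD1_c13 LD2_c49 LD3_c10)) = (LP (LK LD1_c13 LD2_c26 LD3_c43)) :=
  Lgr Lrot2 (Lpr_gt (f522347 IH) (Lpr_gt (f442100 IH) (Lpr_af (f793040 IH) (Lpn (LP (LK LD1_c13 LD2_c26 LD3_c43))))))
theorem f793068 : Led Lsl_ff (LP (LK LD1_c13 LD2_c49 LD3_c10)) = (LP (LK LD1_c13 LD2_c26 LD3_c43)) :=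
  Lgr Lrot3 (Lpr_ft (f793062 IH) (Lpn (LP (LK LD1_c13 LD2_c26 LD3_c43))))
theorem f417981 : Led Lsl_dt (LP (LK LD1_c17 LD2_c54 LD3_c44)) = (LP (LK LD1_c9 LD2_c45 LD3_c7)) :=
  Lre_d IH (LK LD1_c17 LD2_c54 LD3_c44) (LK LD1_c9 LD2_c45 LD3_c7) Lrfl Lrfl
theorem f608774 : Led Lsl_ef (LP (LK LD1_c13 LD2_c49 LD3_c10)) = (LP (LK LD1_c17 LD2_c54 LD3_c44)) :=
  Lgr Lrot167 (Lpr_gt (f522347 IH) (Lpr_dt (K46.f517271 IH) (Lpr_gt (K46.f608764 IH) (Lpe (K40.f227590 IH) (Lpr_et (K40.f418589 IH) (Lpq (K39.f542981 IH) (Lpe (K46.f514921 IH) (Lpe (K29.f160469 IH) (Lpr_dt (K41.f552853 IH) (Lpr_gt (K47.f172776 IH) (Lpe (f417981 IH) (Lpn (LP (LK LD1_c17 LD2_c54 LD3_c44))))))))))))))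
theorem f612193 : Led Lsl_et (LP (LK LD1_c13 LD2_c49 LD3_c10)) = (LP (LK LD1_c17 LD2_c54 LD3_c44)) :=
  Lgr Lrot87 (Lpr_ef (f608774 IH) (Lpn (LP (LK LD1_c17 LD2_c54 LD3_c44))))
theorem f793072 : Led Lsl_ft (LP (LK LD1_c17 LD2_c54 LD3_c44)) = (LP (LK LD1_c16 LD2_c21 LD3_c11)) :=
  Lgr Lrot86 (Lpe (f612193 IH) (Lpr_ff (f793068 IH) (Lpe (f544239 IH) (Lpr_ff (K61.f790281 IH) (Lpqs (K61.f792458 IH) (Lpr_ef (K55.f576762 IH) (Lpn (LP (LK LD1_c16 LD2_c21 LD3_c11)))))))))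
theorem f793080 : Led Lsl_af (LP (LK LD1_c13 LD2_c26 LD3_c41)) = (LP (LK LD1_c16 LD2_c21 LD3_c11)) :=
  Lgr Lrot31 (Lpr_gf (K61.f610635 IH) (Lpr_gf (K47.f609248 IH) (Lpr_ft (f793072 IH) (Lpn (LP (LK LD1_c16 LD2_c21 LD3_c11))))))
theorem f792633 : Led Lsl_ft (LP (LK LD1_c13 LD2_c26 LD3_c41)) = (LP (LK LD1_c16 LD2_c21 LD3_c7)) :=
  Lgr Lrot75 (Lpe (K61.f489403 IH) (Lpr_ff (K61.f792631 IH) (Lpr_bf (K47.f553303 IH) (Lpn (LP (LK LD1_c16 LD2_c21 LD3_c7))))))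
theorem f793086 : Led Lsl_at (LP (LK LD1_c16 LD2_c21 LD3_c7)) = (LP (LK LD1_c17 LD2_c54 LD3_c44)) :=
  Lgr Lrot66 (Lpe (f792633 IH) (Lpr_af (f793080 IH) (Lpe (f793072 IH) (Lpn (LP (LK LD1_c17 LD2_c54 LD3_c44))))))
theorem f793090 : Led Lsl_af (LP (LK LD1_c8 LD2_c43 LD3_c57)) = (LP (LK LD1_c9 LD2_c45 LD3_c7)) :=
  Lgr Lrot117 (Lpr_dt (K47.f237634 IH) (Lpr_at (f793086 IH) (Lpr_dt (f417981 IH) (Lpn (LP (LK LD1_c9 LD2_c45 LD3_c7))))))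
theorem f237646 : Led Lsl_et (LP (LK LD1_c8 LD2_c43 LD3_c57)) = (LP (LK LD1_c16 LD2_c21 LD3_c8)) :=
  Lre_e IH (LK LD1_c8 LD2_c43 LD3_c57) (LK LD1_c16 LD2_c21 LD3_c8) Lrfl Lrfl
theorem f211126 : Led Lsl_et (LP (LK LD1_c17 LD2_c54 LD3_c45)) = (LP (LK LD1_c9 LD2_c45 LD3_c7)) :=
  Lre_e IH (LK LD1_c17 LD2_c54 LD3_c45) (LK LD1_c9 LD2_c45 LD3_c7) Lrfl Lrfl
theorem f793098 : Led Lsl_at (LP (LK LD1_c16 LD2_c21 LD3_c8)) = (LP (LK LD1_c17 LD2_c54 LD3_c45)) :=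
  Lgr Lrot80 (Lpe (f237646 IH) (Lpr_af (f793090 IH) (Lpe (f211126 IH) (Lpn (LP (LK LD1_c17 LD2_c54 LD3_c45))))))
theorem f237641 : Led Lsl_ct (LP (LK LD1_c26 LD2_c19 LD3_c7)) = (LP (LK LD1_c16 LD2_c21 LD3_c8)) :=
  Lre_c IH (LK LD1_c26 LD2_c19 LD3_c7) (LK LD1_c16 LD2_c21 LD3_c8) Lrfl Lrfl
theorem f609576 : Led Lsl_gt (LP (LK LD1_c12 LD2_c8 LD3_c10)) = (LP (LK LD1_c7 LD2_c17 LD3_c47)) :=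
  Lgr Lrot46 (Lpe (K47.f543688 IH) (Lpr_ft (K47.f609568 IH) (Lpr_at (K47.f493728 IH) (Lpn (LP (LK LD1_c7 LD2_c17 LD3_c47))))))
theorem f237729 : Led Lsl_gt (LP (LK LD1_c8 LD2_c41 LD3_c13)) = (LP (LK LD1_c16 LD2_c16 LD3_c17)) :=
  Lre_g IH (LK LD1_c8 LD2_c41 LD3_c13) (LK LD1_c16 LD2_c16 LD3_c17) Lrfl Lrfl
theorem f609582 : Led Lsl_ct (LP (LK LD1_c16 LD2_c16 LD3_c17)) = (LP (LK LD1_c9 LD2_c45 LD3_c7)) :=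
  Lgr Lrot110 (Lpe (f237729 IH) (Lpr_cf (K39.f411534 IH) (Lpe (K39.f411504 IH) (Lpr_df (K39.f552925 IH) (Lpr_gt (f609576 IH) (Lpr_ct (K61.f493725 IH) (Lpr_gt (K47.f458250 IH) (Lpr_ct (K47.f609255 IH) (Lpe (K47.f172777 IH) (Lpn (LP (LK LD1_c9 LD2_c45 LD3_c7))))))))))))
theorem f237737 : Led Lsl_et (LP (LK LD1_c26 LD2_c14 LD3_c13)) = (LP (LK LD1_c16 LD2_c16 LD3_c17)) :=
  Lre_e IH (LK LD1_c26 LD2_c14 LD3_c13) (LK LD1_c16 LD2_c16 LD3_c17) Lrfl Lrfl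
theorem f609250 : Led Lsl_et (LP (LK LD1_c9 LD2_c45 LD3_c7)) = (LP (LK LD1_c17 LD2_c54 LD3_c45)) :=
  Lre_e IH (LK LD1_c9 LD2_c45 LD3_c7) (LK LD1_c17 LD2_c54 LD3_c45) Lrfl Lrfl
theorem f609589 : Led Lsl_cf (LP (LK LD1_c26 LD2_c14 LD3_c13)) = (LP (LK LD1_c17 LD2_c54 LD3_c45)) :=
  Lgr Lrot39 (Lpr_et (f237737 IH) (Lpr_ct (f609582 IH) (Lpr_et (f609250 IH) (Lpn (LP (LK LD1_c17 LD2_c54 LD3_c45))))))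
theorem f793105 : Led Lsl_af (LP (LK LD1_c26 LD2_c19 LD3_c7)) = (LP (LK LD1_c26 LD2_c14 LD3_c13)) :=
  Lgr Lrot68 (Lpr_ct (f237641 IH) (Lpr_at (f793098 IH) (Lpe (f609589 IH) (Lpn (LP (LK LD1_c26 LD2_c14 LD3_c13))))))
theorem f793107 : Led Lsl_at (LP (LK LD1_c26 LD2_c19 LD3_c7)) = (LP (LK LD1_c26 LD2_c14 LD3_c13)) :=
  Lgr Lrot100 (Lpr_af (f793105 IH) (Lpn (LP (LK LD1_c26 LD2_c14 LD3_c13))))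
theorem f793109 : Led Lsl_et (LP (LK LD1_c16 LD2_c21 LD3_c6)) = (LP (LK LD1_c26 LD2_c19 LD3_c7)) :=
  Lre_e IH (LK LD1_c16 LD2_c21 LD3_c6) (LK LD1_c26 LD2_c19 LD3_c7) Lrfl Lrfl
theorem f793110 : Led Lsl_af (LP (LK LD1_c16 LD2_c21 LD3_c6)) = (LP (LK LD1_c16 LD2_c16 LD3_c17)) :=
  Lgr Lrot50 (Lpr_et (f793109 IH) (Lpr_at (f793107 IH) (Lpr_et (f237737 IH) (Lpn (LP (LK LD1_c16 LD2_c16 LD3_c17))))))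
theorem f553283 : Led Lsl_gt (LP (LK LD1_c9 LD2_c38 LD3_c5)) = (LP (LK LD1_c16 LD2_c21 LD3_c6)) :=
  Lgr Lrot5 (Lpr_ft (K39.f270037 IH) (Lpe (K16.f270025 IH) (Lpr_gf (K39.f553265 IH) (Lpn (LP (LK LD1_c16 LD2_c21 LD3_c6))))))
theorem f793114 : Led Lsl_ft (LP (LK LD1_c16 LD2_c21 LD3_c10)) = (LP (LK LD1_c16 LD2_c16 LD3_c17)) :=
  Lgr Lrot2 (Lpe (K39.f552881 IH) (Lpr_gt (f553283 IH) (Lpr_af (f793110 IH) (Lpn (LP (LK LD1_c16 LD2_c16 LD3_c17))))))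
theorem f793122 : Led Lsl_ff (LP (LK LD1_c16 LD2_c21 LD3_c10)) = (LP (LK LD1_c16 LD2_c16 LD3_c17)) :=
  Lgr Lrot3 (Lpr_ft (f793114 IH) (Lpn (LP (LK LD1_c16 LD2_c16 LD3_c17))))
theorem f270028 : Led Lsl_gt (LP (LK LD1_c16 LD2_c16 LD3_c17)) = (LP (LK LD1_c17 LD2_c43 LD3_c55)) :=
  Lgr Lrot46 (Lpe (f237729 IH) (Lpr_ft (K16.f270015 IH) (Lpr_at (K16.f270016 IH) (Lpn (LP (LK LD1_c17 LD2_c43 LD3_c55))))))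
theorem f270018 : Led Lsl_gf (LP (LK LD1_c16 LD2_c16 LD3_c18)) = (LP (LK LD1_c17 LD2_c43 LD3_c55)) :=
  Lgr Lrot47 (Lpr_gt (K39.f237761 IH) (Lpr_af (K16.f270002 IH) (Lpe (K16.f269717 IH) (Lpn (LP (LK LD1_c17 LD2_c43 LD3_c55))))))
theorem f793128 : Led Lsl_at (LP (LK LD1_c16 LD2_c21 LD3_c10)) = (LP (LK LD1_c16 LD2_c16 LD3_c18)) :=
  Lgr Lrot26 (Lpr_ff (f793122 IH) (Lpr_gt (f270028 IH) (Lpe (f270018 IH) (Lpn (LP (LK LD1_c16 LD2_c16 LD3_c18))))))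
theorem f793096 : Led Lsl_at (LP (LK LD1_c16 LD2_c21 LD3_c6)) = (LP (LK LD1_c16 LD2_c16 LD3_c17)) :=
  Lgr Lrot107 (Lpe (K39.f237672 IH) (Lpr_af (f793090 IH) (Lpe (f609582 IH) (Lpn (LP (LK LD1_c16 LD2_c16 LD3_c17))))))
theorem f793134 : Led Lsl_ff (LP (LK LD1_c16 LD2_c21 LD3_c6)) = (LP (LK LD1_c16 LD2_c16 LD3_c18)) :=
  Lgr Lrot30 (Lpr_at (f793096 IH) (Lpe (f793122 IH) (Lpr_at (f793128 IH) (Lpn (LP (LK LD1_c16 LD2_c16 LD3_c18))))))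
theorem f793140 : Led Lsl_ft (LP (LK LD1_c16 LD2_c21 LD3_c6)) = (LP (LK LD1_c16 LD2_c16 LD3_c18)) :=
  Lgr Lrot48 (Lpr_ff (f793134 IH) (Lpn (LP (LK LD1_c16 LD2_c16 LD3_c18))))
theorem f552912 : Led Lsl_ct (LP (LK LD1_c16 LD2_c16 LD3_c18)) = (LP (LK LD1_c9 LD2_c45 LD3_c8)) :=
  Lgr Lrot59 (Lpr_cf (K39.f552909 IH) (Lpn (LP (LK LD1_c9 LD2_c45 LD3_c8))))
theorem f793144 : Led Lsl_ff (LP (LK LD1_c8 LD2_c43 LD3_c57)) = (LP (LK LD1_c9 LD2_c45 LD3_c8)) :=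
  Lgr Lrot23 (Lpr_ct (K39.f237672 IH) (Lpr_ft (f793140 IH) (Lpr_ct (f552912 IH) (Lpn (LP (LK LD1_c9 LD2_c45 LD3_c8))))))
theorem f613252 : Led Lsl_bf (LP (LK LD1_c24 LD2_c54 LD3_c23)) = (LP (LK LD1_c15 LD2_c6 LD3_c26)) :=
  Lgr Lrot96 (Lpr_et (K61.f613249 IH) (Lpr_bt (K61.f172785 IH) (Lpr_et (K61.f610638 IH) (Lpn (LP (LK LD1_c15 LD2_c6 LD3_c26))))))
theorem f792721 : Led Lsl_ft (LP (LK LD1_c15 LD2_c8 LD3_c33)) = (LP (LK LD1_c15 LD2_c6 LD3_c26)) :=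
  Lgr Lrot75 (Lpe (K61.f37415 IH) (Lpr_ff (K61.f792719 IH) (Lpr_bf (f613252 IH) (Lpn (LP (LK LD1_c15 LD2_c6 LD3_c26))))))
theorem f793154 : Led Lsl_ft (LP (LK LD1_c16 LD2_c21 LD3_c8)) = (LP (LK LD1_c24 LD2_c57 LD3_c30)) :=
  Lgr Lrot86 (Lpe (f237646 IH) (Lpr_ff (f793144 IH) (Lpr_ef (K61.f610642 IH) (Lpe (f792721 IH) (Lpe (K40.f37411 IH) (Lpn (LP (LK LD1_c24 LD2_c57 LD3_c30))))))))
theorem f793100 : Led Lsl_af (LP (LK LD1_c16 LD2_c21 LD3_c8)) = (LP (LK LD1_c17 LD2_c54 LD3_c45)) :=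
  Lgr Lrot0 (Lpr_at (f793098 IH) (Lpn (LP (LK LD1_c17 LD2_c54 LD3_c45))))
theorem f792954 : Led Lsl_af (LP (LK LD1_c24 LD2_c54 LD3_c34)) = (LP (LK LD1_c24 LD2_c57 LD3_c30)) :=
  Lgr Lrot0 (Lpr_at (K61.f792952 IH) (Lpn (LP (LK LD1_c24 LD2_c57 LD3_c30))))
theorem f793156 : Led Lsl_ff (LP (LK LD1_c17 LD2_c54 LD3_c45)) = (LP (LK LD1_c24 LD2_c54 LD3_c34)) :=
  Lgr Lrot30 (Lpe (f793100 IH) (Lpr_ft (f793154 IH) (Lpe (f792954 IH) (Lpn (LP (LK LD1_c24 LD2_c54 LD3_c34))))))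
theorem f793596 : Led Lsl_df (LP (LK LD1_c23 LD2_c10 LD3_c7)) = (LP (LK LD1_c17 LD2_c54 LD3_c45)) :=
  Lgr Lrot78 (Lpr_ft (f793589 IH) (Lpe (K61.f272889 IH) (Lpe (f793156 IH) (Lpn (LP (LK LD1_c17 LD2_c54 LD3_c45))))))
theorem f793607 : Led Lsl_dt (LP (LK LD1_c23 LD2_c10 LD3_c7)) = (LP (LK LD1_c17 LD2_c54 LD3_c45)) :=
  Lgr Lrot42 (Lpr_df (f793596 IH) (Lpn (LP (LK LD1_c17 LD2_c54 LD3_c45))))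
theorem f793593 : Led Lsl_bt (LP (LK LD1_c30 LD2_c55 LD3_c32)) = (LP (LK LD1_c23 LD2_c10 LD3_c7)) :=
  Lre_b IH (LK LD1_c30 LD2_c55 LD3_c32) (LK LD1_c23 LD2_c10 LD3_c7) Lrfl Lrfl
theorem f609596 : Led Lsl_bt (LP (LK LD1_c17 LD2_c54 LD3_c45)) = (LP (LK LD1_c27 LD2_c40 LD3_c23)) :=
  Lre_b IH (LK LD1_c17 LD2_c54 LD3_c45) (LK LD1_c27 LD2_c40 LD3_c23) Lrfl Lrfl
theorem f793609 : Led Lsl_df (LP (LK LD1_c30 LD2_c55 LD3_c32)) = (LP (LK LD1_c27 LD2_c40 LD3_c23)) :=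
  Lgr Lrot12 (Lpr_bt (f793593 IH) (Lpr_dt (f793607 IH) (Lpr_bt (f609596 IH) (Lpn (LP (LK LD1_c27 LD2_c40 LD3_c23))))))
theorem f793172 : Led Lsl_at (LP (LK LD1_c32 LD2_c27 LD3_c40)) = (LP (LK LD1_c27 LD2_c40 LD3_c23)) :=
  Lre_a IH (LK LD1_c32 LD2_c27 LD3_c40) (LK LD1_c27 LD2_c40 LD3_c23) Lrfl Lrfl
theorem f793118 : Led Lsl_ff (LP (LK LD1_c8 LD2_c43 LD3_c58)) = (LP (LK LD1_c9 LD2_c45 LD3_c7)) :=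
  Lgr Lrot23 (Lpr_ct (K39.f418030 IH) (Lpr_ft (f793114 IH) (Lpr_ct (f609582 IH) (Lpn (LP (LK LD1_c9 LD2_c45 LD3_c7))))))
theorem f552888 : Led Lsl_bt (LP (LK LD1_c8 LD2_c43 LD3_c58)) = (LP (LK LD1_c16 LD2_c21 LD3_c9)) :=
  Lre_b IH (LK LD1_c8 LD2_c43 LD3_c58) (LK LD1_c16 LD2_c21 LD3_c9) Lrfl Lrfl
theorem f172782 : Led Lsl_bt (LP (LK LD1_c17 LD2_c54 LD3_c43)) = (LP (LK LD1_c9 LD2_c45 LD3_c7)) :=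
  Lre_b IH (LK LD1_c17 LD2_c54 LD3_c43) (LK LD1_c9 LD2_c45 LD3_c7) Lrfl Lrfl
theorem f793183 : Led Lsl_ft (LP (LK LD1_c16 LD2_c21 LD3_c9)) = (LP (LK LD1_c17 LD2_c54 LD3_c43)) :=
  Lgr Lrot75 (Lpe (f552888 IH) (Lpr_ff (f793118 IH) (Lpe (f172782 IH) (Lpn (LP (LK LD1_c17 LD2_c54 LD3_c43))))))
theorem f793191 : Led Lsl_ff (LP (LK LD1_c16 LD2_c21 LD3_c9)) = (LP (LK LD1_c17 LD2_c54 LD3_c43)) :=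
  Lgr Lrot3 (Lpr_ft (f793183 IH) (Lpn (LP (LK LD1_c17 LD2_c54 LD3_c43))))
theorem f610562 : Led Lsl_at (LP (LK LD1_c27 LD2_c40 LD3_c20)) = (LP (LK LD1_c17 LD2_c54 LD3_c43)) :=
  Lre_a IH (LK LD1_c27 LD2_c40 LD3_c20) (LK LD1_c17 LD2_c54 LD3_c43) Lrfl Lrfl
theorem f621904 : Led Lsl_et (LP (LK LD1_c13 LD2_c38 LD3_c12)) = (LP (LK LD1_c22 LD2_c49 LD3_c44)) :=
  Lgr Lrot87 (Lpr_ef (K48.f621896 IH) (Lpn (LP (LK LD1_c22 LD2_c49 LD3_c44))))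
theorem f621909 : Led Lsl_cf (LP (LK LD1_c14 LD2_c5 LD3_c18)) = (LP (LK LD1_c22 LD2_c49 LD3_c44)) :=
  Lgr Lrot39 (Lpr_et (K48.f469279 IH) (Lpr_ct (K33.f469272 IH) (Lpr_et (f621904 IH) (Lpn (LP (LK LD1_c22 LD2_c49 LD3_c44))))))
theorem f469291 : Led Lsl_bf (LP (LK LD1_c14 LD2_c5 LD3_c18)) = (LP (LK LD1_c13 LD2_c55 LD3_c25)) :=
  Lgr Lrot96 (Lpr_et (K48.f469279 IH) (Lpr_bt (K39.f469284 IH) (Lpr_et (K61.f469290 IH) (Lpn (LP (LK LD1_c13 LD2_c55 LD3_c25))))))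
theorem f469293 : Led Lsl_bt (LP (LK LD1_c14 LD2_c5 LD3_c18)) = (LP (LK LD1_c13 LD2_c55 LD3_c25)) :=
  Lgr Lrot127 (Lpr_bf (f469291 IH) (Lpn (LP (LK LD1_c13 LD2_c55 LD3_c25))))
theorem f576767 : Led Lsl_ct (LP (LK LD1_c13 LD2_c55 LD3_c25)) = (LP (LK LD1_c16 LD2_c21 LD3_c11)) :=
  Lgr Lrot15 (Lpe (K61.f469290 IH) (Lpe (K43.f576648 IH) (Lpr_ef (K55.f576762 IH) (Lpn (LP (LK LD1_c16 LD2_c21 LD3_c11))))))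
theorem f621898 : Led Lsl_bt (LP (LK LD1_c30 LD2_c44 LD3_c25)) = (LP (LK LD1_c22 LD2_c49 LD3_c44)) :=
  Lre_b IH (LK LD1_c30 LD2_c44 LD3_c25) (LK LD1_c22 LD2_c49 LD3_c44) Lrfl Lrfl
theorem f621912 : Led Lsl_ct (LP (LK LD1_c26 LD2_c19 LD3_c11)) = (LP (LK LD1_c30 LD2_c44 LD3_c25)) :=
  Lgr Lrot83 (Lpe (K55.f576771 IH) (Lpe (f576767 IH) (Lpe (f469293 IH) (Lpr_cf (f621909 IH) (Lpe (f621898 IH) (Lpn (LP (LK LD1_c30 LD2_c44 LD3_c25))))))))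
theorem f576777 : Led Lsl_dt (LP (LK LD1_c16 LD2_c21 LD3_c9)) = (LP (LK LD1_c26 LD2_c19 LD3_c11)) :=
  Lre_d IH (LK LD1_c16 LD2_c21 LD3_c9) (LK LD1_c26 LD2_c19 LD3_c11) Lrfl Lrfl
theorem f471383 : Led Lsl_gf (LP (LK LD1_c22 LD2_c28 LD3_c39)) = (LP (LK LD1_c22 LD2_c28 LD3_c35)) :=
  Lgr Lrot181 (Lpr_ct (K41.f455464 IH) (Lpr_gt (K41.f465226 IH) (Lpe (K41.f465218 IH) (Lpr_bt (K29.f465146 IH) (Lpr_gt (K30.f471336 IH) (Lpe (K35.f425461 IH) (Lpr_ct (K29.f425436 IH) (Lpr_gt (K29.f425453 IH) (Lpr_cf (K29.f471277 IH) (Lpr_bt (K41.f471286 IH) (Lpn (LP (LK LD1_c22 LD2_c28 LD3_c35)))))))))))))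
theorem f610420 : Led Lsl_et (LP (LK LD1_c13 LD2_c38 LD3_c15)) = (LP (LK LD1_c22 LD2_c45 LD3_c14)) :=
  Lgr Lrot87 (Lpr_ef (K61.f610414 IH) (Lpn (LP (LK LD1_c22 LD2_c45 LD3_c14))))
theorem f610422 : Led Lsl_cf (LP (LK LD1_c13 LD2_c38 LD3_c17)) = (LP (LK LD1_c22 LD2_c45 LD3_c14)) :=
  Lgr Lrot39 (Lpr_et (K61.f489399 IH) (Lpr_ct (K37.f116260 IH) (Lpr_et (f610420 IH) (Lpn (LP (LK LD1_c22 LD2_c45 LD3_c14))))))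
theorem f11788 : Led Lsl_dt (LP (LK LD1_c7 LD2_c7 LD3_c5)) = (LP (LK LD1_c13 LD2_c29 LD3_c21)) :=
  Lre_d IH (LK LD1_c7 LD2_c7 LD3_c5) (LK LD1_c13 LD2_c29 LD3_c21) Lrfl Lrfl
theorem f558948 : Led Lsl_gt (LP (LK LD1_c13 LD2_c29 LD3_c21)) = (LP (LK LD1_c17 LD2_c54 LD3_c46)) :=
  Lgr Lrot112 (Lpe (f11788 IH) (Lpr_et (K28.f464999 IH) (Lpe (K29.f455432 IH) (Lpe (K40.f464998 IH) (Lpr_dt (K40.f552199 IH) (Lpe (K40.f558913 IH) (Lpe (K39.f540288 IH) (Lpe (K37.f466532 IH) (Lpe (K61.f489399 IH) (Lpr_dt (K61.f558946 IH) (Lpn (LP (LK LD1_c17 LD2_c54 LD3_c46)))))))))))))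
theorem f160267 : Led Lsl_bt (LP (LK LD1_c7 LD2_c7 LD3_c20)) = (LP (LK LD1_c13 LD2_c29 LD3_c21)) :=
  Lre_b IH (LK LD1_c7 LD2_c7 LD3_c20) (LK LD1_c13 LD2_c29 LD3_c21) Lrfl Lrfl
theorem f160266 : Led Lsl_ct (LP (LK LD1_c7 LD2_c7 LD3_c20)) = (LP (LK LD1_c13 LD2_c29 LD3_c44)) :=
  Lre_c IH (LK LD1_c7 LD2_c7 LD3_c20) (LK LD1_c13 LD2_c29 LD3_c44) Lrfl Lrfl
theorem f493671 : Led Lsl_bt (LP (LK LD1_c7 LD2_c14 LD3_c23)) = (LP (LK LD1_c7 LD2_c8 LD3_c11)) :=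
  Lgr Lrot127 (Lpr_bf (K33.f493665 IH) (Lpn (LP (LK LD1_c7 LD2_c8 LD3_c11))))
theorem f160368 : Led Lsl_bt (LP (LK LD1_c7 LD2_c8 LD3_c6)) = (LP (LK LD1_c3 LD2_c33 LD3_c40)) :=
  Lre_b IH (LK LD1_c7 LD2_c8 LD3_c6) (LK LD1_c3 LD2_c33 LD3_c40) Lrfl Lrfl
theorem f108057 : Led Lsl_ct (LP (LK LD1_c7 LD2_c8 LD3_c6)) = (LP (LK LD1_c13 LD2_c30 LD3_c56)) :=
  Lre_c IH (LK LD1_c7 LD2_c8 LD3_c6) (LK LD1_c13 LD2_c30 LD3_c56) Lrfl Lrfl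
theorem f108074 : Led Lsl_gt (LP (LK LD1_c22 LD2_c51 LD3_c54)) = (LP (LK LD1_c13 LD2_c30 LD3_c56)) :=
  Lre_g IH (LK LD1_c22 LD2_c51 LD3_c54) (LK LD1_c13 LD2_c30 LD3_c56) Lrfl Lrfl
theorem f558950 : Led Lsl_cf (LP (LK LD1_c22 LD2_c51 LD3_c54)) = (LP (LK LD1_c17 LD2_c54 LD3_c46)) :=
  Lgr Lrot125 (Lpr_gt (f108074 IH) (Lpe (f108057 IH) (Lpr_bt (f160368 IH) (Lpr_gt (K33.f10510 IH) (Lpe (f493671 IH) (Lpe (K30.f471387 IH) (Lpr_gt (K30.f160264 IH) (Lpe (f160266 IH) (Lpr_bt (f160267 IH) (Lpr_gt (f558948 IH) (Lpn (LP (LK LD1_c17 LD2_c54 LD3_c46)))))))))))))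
theorem f558952 : Led Lsl_ct (LP (LK LD1_c22 LD2_c51 LD3_c54)) = (LP (LK LD1_c17 LD2_c54 LD3_c46)) :=
  Lgr Lrot59 (Lpr_cf (f558950 IH) (Lpn (LP (LK LD1_c17 LD2_c54 LD3_c46))))
theorem f479745 : Led Lsl_at (LP (LK LD1_c13 LD2_c51 LD3_c20)) = (LP (LK LD1_c23 LD2_c20 LD3_c30)) :=
  Lre_a IH (LK LD1_c13 LD2_c51 LD3_c20) (LK LD1_c23 LD2_c20 LD3_c30) Lrfl Lrfl
theorem f529191 : Led Lsl_ct (LP (LK LD1_c23 LD2_c20 LD3_c30)) = (LP (LK LD1_c22 LD2_c43 LD3_c56)) :=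
  Lgr Lrot111 (Lpe (f479745 IH) (Lpr_cf (K42.f529187 IH) (Lpe (K47.f480447 IH) (Lpn (LP (LK LD1_c22 LD2_c43 LD3_c56))))))
theorem f609275 : Led Lsl_dt (LP (LK LD1_c13 LD2_c30 LD3_c54)) = (LP (LK LD1_c13 LD2_c51 LD3_c18)) :=
  Lgr Lrot42 (Lpr_df (K47.f609270 IH) (Lpn (LP (LK LD1_c13 LD2_c51 LD3_c18))))
theorem f610426 : Led Lsl_gf (LP (LK LD1_c22 LD2_c51 LD3_c54)) = (LP (LK LD1_c29 LD2_c25 LD3_c5)) :=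
  Lgr Lrot104 (Lpr_ct (f558952 IH) (Lpe (K61.f558946 IH) (Lpr_cf (f610422 IH) (Lpr_gf (K61.f529439 IH) (Lpe (f529191 IH) (Lpe (K47.f479772 IH) (Lpe (f609275 IH) (Lpr_gt (K47.f547008 IH) (Lpr_ct (K38.f270189 IH) (Lpn (LP (LK LD1_c29 LD2_c25 LD3_c5))))))))))))
theorem f172780 : Led Lsl_ct (LP (LK LD1_c5 LD2_c42 LD3_c45)) = (LP (LK LD1_c11 LD2_c15 LD3_c43)) :=
  Lre_c IH (LK LD1_c5 LD2_c42 LD3_c45) (LK LD1_c11 LD2_c15 LD3_c43) Lrfl Lrfl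
theorem f172786 : Led Lsl_gt (LP (LK LD1_c11 LD2_c15 LD3_c43)) = (LP (LK LD1_c20 LD2_c11 LD3_c12)) :=
  Lre_g IH (LK LD1_c11 LD2_c15 LD3_c43) (LK LD1_c20 LD2_c11 LD3_c12) Lrfl Lrfl
theorem f476181 : Led Lsl_bt (LP (LK LD1_c22 LD2_c51 LD3_c50)) = (LP (LK LD1_c13 LD2_c30 LD3_c54)) :=
  Lre_b IH (LK LD1_c22 LD2_c51 LD3_c50) (LK LD1_c13 LD2_c30 LD3_c54) Lrfl Lrfl
theorem f610430 : Led Lsl_cf (LP (LK LD1_c20 LD2_c11 LD3_c12)) = (LP (LK LD1_c22 LD2_c51 LD3_c50)) :=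
  Lgr Lrot58 (Lpe (f172786 IH) (Lpe (f172780 IH) (Lpe (K39.f172760 IH) (Lpe (K39.f172784 IH) (Lpe (K61.f172785 IH) (Lpe (f558950 IH) (Lpr_gf (f610426 IH) (Lpe (K38.f270189 IH) (Lpe (K47.f547008 IH) (Lpe (f476181 IH) (Lpn (LP (LK LD1_c22 LD2_c51 LD3_c50)))))))))))))
theorem f610433 : Led Lsl_ct (LP (LK LD1_c20 LD2_c11 LD3_c12)) = (LP (LK LD1_c22 LD2_c51 LD3_c50)) :=
  Lgr Lrot59 (Lpr_cf (f610430 IH) (Lpn (LP (LK LD1_c22 LD2_c51 LD3_c50))))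
theorem f609272 : Led Lsl_bt (LP (LK LD1_c13 LD2_c30 LD3_c54)) = (LP (LK LD1_c22 LD2_c51 LD3_c50)) :=
  Lre_b IH (LK LD1_c13 LD2_c30 LD3_c54) (LK LD1_c22 LD2_c51 LD3_c50) Lrfl Lrfl
theorem f479674 : Led Lsl_bt (LP (LK LD1_c23 LD2_c20 LD3_c35)) = (LP (LK LD1_c13 LD2_c51 LD3_c18)) :=
  Lre_b IH (LK LD1_c23 LD2_c20 LD3_c35) (LK LD1_c13 LD2_c51 LD3_c18) Lrfl Lrfl
theorem f609273 : Led Lsl_dt (LP (LK LD1_c22 LD2_c51 LD3_c50)) = (LP (LK LD1_c23 LD2_c20 LD3_c35)) :=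
  Lgr Lrot79 (Lpe (f609272 IH) (Lpr_df (K47.f609270 IH) (Lpe (f479674 IH) (Lpn (LP (LK LD1_c23 LD2_c20 LD3_c35))))))
theorem f513141 : Led Lsl_af (LP (LK LD1_c7 LD2_c0 LD3_c5)) = (LP (LK LD1_c7 LD2_c11 LD3_c58)) :=
  Lgr Lrot68 (Lpr_ct (K29.f463880 IH) (Lpr_at (K33.f513120 IH) (Lpr_ct (K33.f511838 IH) (Lpn (LP (LK LD1_c7 LD2_c11 LD3_c58))))))
theorem f488232 : Led Lsl_ff (LP (LK LD1_c7 LD2_c11 LD3_c58)) = (LP (LK LD1_c7 LD2_c3 LD3_c37)) :=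
  Lgr Lrot19 (Lpr_dt (K33.f106233 IH) (Lpr_ft (K33.f488229 IH) (Lpr_dt (K33.f488231 IH) (Lpn (LP (LK LD1_c7 LD2_c3 LD3_c37))))))
theorem f514253 : Led Lsl_gf (LP (LK LD1_c3 LD2_c46 LD3_c27)) = (LP (LK LD1_c7 LD2_c3 LD3_c37)) :=
  Lgr Lrot47 (Lpe (K30.f477669 IH) (Lpr_af (f513141 IH) (Lpr_ff (f488232 IH) (Lpn (LP (LK LD1_c7 LD2_c3 LD3_c37))))))
theorem f489547 : Led Lsl_gf (LP (LK LD1_c7 LD2_c12 LD3_c38)) = (LP (LK LD1_c7 LD2_c15 LD3_c28)) :=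
  Lgr Lrot144 (Lpe (K33.f441643 IH) (Lpr_gt (K33.f440177 IH) (Lpr_dt (K28.f106219 IH) (Lpe (K28.f128179 IH) (Lpr_df (K28.f105754 IH) (Lpr_gf (K24.f456824 IH) (Lpqs (K24.f461786 IH) (Lpe (K24.f446495 IH) (Lpr_gf (K32.f489535 IH) (Lpe (K30.f477547 IH) (Lpn (LP (LK LD1_c7 LD2_c15 LD3_c28)))))))))))))
theorem f477550 : Led Lsl_gt (LP (LK LD1_c22 LD2_c40 LD3_c61)) = (LP (LK LD1_c13 LD2_c23 LD3_c9)) :=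
  Lre_g IH (LK LD1_c22 LD2_c40 LD3_c61) (LK LD1_c13 LD2_c23 LD3_c9) Lrfl Lrfl
theorem f514255 : Led Lsl_ct (LP (LK LD1_c23 LD2_c20 LD3_c35)) = (LP (LK LD1_c22 LD2_c40 LD3_c61)) :=
  Lgr Lrot64 (Lpr_bt (f479674 IH) (Lpe (K47.f479673 IH) (Lpe (K42.f479672 IH) (Lpr_ct (K33.f479661 IH) (Lpr_gf (f514253 IH) (Lpr_cf (K33.f512020 IH) (Lpr_gf (f489547 IH) (Lpe (K57.f477551 IH) (Lpe (K47.f477681 IH) (Lpe (f477550 IH) (Lpn (LP (LK LD1_c22 LD2_c40 LD3_c61)))))))))))))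
theorem f514258 : Led Lsl_cf (LP (LK LD1_c23 LD2_c20 LD3_c35)) = (LP (LK LD1_c22 LD2_c40 LD3_c61)) :=
  Lgr Lrot11 (Lpr_ct (f514255 IH) (Lpn (LP (LK LD1_c22 LD2_c40 LD3_c61))))
theorem f521040 : Led Lsl_gf (LP (LK LD1_c22 LD2_c40 LD3_c61)) = (LP (LK LD1_c14 LD2_c17 LD3_c15)) :=
  Lgr Lrot47 (Lpr_gt (f477550 IH) (Lpe (K34.f477686 IH) (Lpr_ff (K47.f521034 IH) (Lpn (LP (LK LD1_c14 LD2_c17 LD3_c15))))))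
theorem f610442 : Led Lsl_gt (LP (LK LD1_c13 LD2_c38 LD3_c52)) = (LP (LK LD1_c13 LD2_c52 LD3_c1)) :=
  Lgr Lrot146 (Lpr_dt (K41.f553142 IH) (Lpr_gt (K41.f172800 IH) (Lpr_ct (f172780 IH) (Lpr_gt (f172786 IH) (Lpr_ct (f610433 IH) (Lpr_dt (f609273 IH) (Lpr_cf (f514258 IH) (Lpr_gf (f521040 IH) (Lpe (K57.f511794 IH) (Lpn (LP (LK LD1_c13 LD2_c52 LD3_c1))))))))))))
theorem f472004 : Led Lsl_at (LP (LK LD1_c3 LD2_c51 LD3_c5)) = (LP (LK LD1_c7 LD2_c43 LD3_c29)) :=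
  Lre_a IH (LK LD1_c3 LD2_c51 LD3_c5) (LK LD1_c7 LD2_c43 LD3_c29) Lrfl Lrfl
theorem f531012 : Led Lsl_ft (LP (LK LD1_c7 LD2_c42 LD3_c59)) = (LP (LK LD1_c3 LD2_c51 LD3_c5)) :=
  Lgr Lrot48 (Lpr_ff (K47.f530865 IH) (Lpn (LP (LK LD1_c3 LD2_c51 LD3_c5))))
theorem f564422 : Led Lsl_gt (LP (LK LD1_c7 LD2_c42 LD3_c59)) = (LP (LK LD1_c6 LD2_c55 LD3_c53)) :=
  Lgr Lrot5 (Lpr_ft (f531012 IH) (Lpr_at (f472004 IH) (Lpr_gf (K41.f564420 IH) (Lpn (LP (LK LD1_c6 LD2_c55 LD3_c53))))))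
theorem f475287 : Led Lsl_ct (LP (LK LD1_c7 LD2_c7 LD3_c15)) = (LP (LK LD1_c7 LD2_c42 LD3_c59)) :=
  Lgr Lrot59 (Lpr_cf (K47.f475284 IH) (Lpn (LP (LK LD1_c7 LD2_c42 LD3_c59))))
theorem f566311 : Led Lsl_dt (LP (LK LD1_c13 LD2_c30 LD3_c4)) = (LP (LK LD1_c13 LD2_c52 LD3_c6)) :=
  Lgr Lrot113 (Lpe (K41.f89726 IH) (Lpe (K28.f89725 IH) (Lpe (K35.f475274 IH) (Lpr_ct (f475287 IH) (Lpr_gt (f564422 IH) (Lpr_dt (K36.f136492 IH) (Lpe (K41.f564424 IH) (Lpr_dt (K35.f486049 IH) (Lpr_ct (K47.f566309 IH) (Lpn (LP (LK LD1_c13 LD2_c52 LD3_c6))))))))))))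
theorem f160253 : Led Lsl_bt (LP (LK LD1_c13 LD2_c29 LD3_c35)) = (LP (LK LD1_c7 LD2_c7 LD3_c17)) :=
  Lre_b IH (LK LD1_c13 LD2_c29 LD3_c35) (LK LD1_c7 LD2_c7 LD3_c17) Lrfl Lrfl
theorem f513572 : Led Lsl_at (LP (LK LD1_c22 LD2_c50 LD3_c8)) = (LP (LK LD1_c13 LD2_c29 LD3_c35)) :=
  Lre_a IH (LK LD1_c22 LD2_c50 LD3_c8) (LK LD1_c13 LD2_c29 LD3_c35) Lrfl Lrfl
theorem f553063 : Led Lsl_bt (LP (LK LD1_c13 LD2_c30 LD3_c4)) = (LP (LK LD1_c22 LD2_c50 LD3_c8)) :=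
  Lgr Lrot62 (Lpr_af (K41.f553051 IH) (Lpe (K41.f553024 IH) (Lpe (K41.f513568 IH) (Lpe (f160253 IH) (Lpe (f513572 IH) (Lpn (LP (LK LD1_c22 LD2_c50 LD3_c8))))))))
theorem f553096 : Led Lsl_bf (LP (LK LD1_c13 LD2_c30 LD3_c4)) = (LP (LK LD1_c22 LD2_c50 LD3_c8)) :=
  Lgr Lrot24 (Lpr_bt (f553063 IH) (Lpn (LP (LK LD1_c22 LD2_c50 LD3_c8))))
theorem f566302 : Led Lsl_bt (LP (LK LD1_c13 LD2_c52 LD3_c6)) = (LP (LK LD1_c23 LD2_c21 LD3_c50)) :=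
  Lre_b IH (LK LD1_c13 LD2_c52 LD3_c6) (LK LD1_c23 LD2_c21 LD3_c50) Lrfl Lrfl
theorem f566313 : Led Lsl_df (LP (LK LD1_c22 LD2_c50 LD3_c8)) = (LP (LK LD1_c23 LD2_c21 LD3_c50)) :=
  Lgr Lrot12 (Lpe (f553096 IH) (Lpr_dt (f566311 IH) (Lpr_bt (f566302 IH) (Lpn (LP (LK LD1_c23 LD2_c21 LD3_c50))))))
theorem f172801 : Led Lsl_bt (LP (LK LD1_c20 LD2_c11 LD3_c17)) = (LP (LK LD1_c11 LD2_c15 LD3_c45)) :=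
  Lre_b IH (LK LD1_c20 LD2_c11 LD3_c17) (LK LD1_c11 LD2_c15 LD3_c45) Lrfl Lrfl
theorem f553102 : Led Lsl_ft (LP (LK LD1_c22 LD2_c50 LD3_c8)) = (LP (LK LD1_c20 LD2_c11 LD3_c17)) :=
  Lgr Lrot75 (Lpe (f553063 IH) (Lpr_ff (K41.f553098 IH) (Lpe (f172801 IH) (Lpn (LP (LK LD1_c20 LD2_c11 LD3_c17))))))
theorem f553110 : Led Lsl_bt (LP (LK LD1_c11 LD2_c15 LD3_c45)) = (LP (LK LD1_c20 LD2_c11 LD3_c17)) :=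
  Lre_b IH (LK LD1_c11 LD2_c15 LD3_c45) (LK LD1_c20 LD2_c11 LD3_c17) Lrfl Lrfl
theorem f553144 : Led Lsl_df (LP (LK LD1_c23 LD2_c3 LD3_c38)) = (LP (LK LD1_c20 LD2_c11 LD3_c17)) :=
  Lgr Lrot12 (Lpe (K34.f513532 IH) (Lpr_dt (K41.f553142 IH) (Lpr_bt (f553110 IH) (Lpn (LP (LK LD1_c20 LD2_c11 LD3_c17))))))
theorem f566318 : Led Lsl_ft (LP (LK LD1_c23 LD2_c3 LD3_c38)) = (LP (LK LD1_c23 LD2_c21 LD3_c50)) :=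
  Lgr Lrot54 (Lpr_df (f553144 IH) (Lpe (f553102 IH) (Lpr_df (f566313 IH) (Lpn (LP (LK LD1_c23 LD2_c21 LD3_c50))))))
theorem f566321 : Led Lsl_ff (LP (LK LD1_c23 LD2_c3 LD3_c38)) = (LP (LK LD1_c23 LD2_c21 LD3_c50)) :=
  Lgr Lrot3 (Lpr_ft (f566318 IH) (Lpn (LP (LK LD1_c23 LD2_c21 LD3_c50))))
theorem f566323 : Led Lsl_ft (LP (LK LD1_c13 LD2_c38 LD3_c52)) = (LP (LK LD1_c13 LD2_c52 LD3_c6)) :=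
  Lgr Lrot75 (Lpr_bf (K34.f513532 IH) (Lpr_ff (f566321 IH) (Lpe (f566302 IH) (Lpn (LP (LK LD1_c13 LD2_c52 LD3_c6))))))
theorem f566300 : Led Lsl_af (LP (LK LD1_c13 LD2_c49 LD3_c41)) = (LP (LK LD1_c13 LD2_c52 LD3_c6)) :=
  Lgr Lrot0 (Lpr_at (K47.f566286 IH) (Lpn (LP (LK LD1_c13 LD2_c52 LD3_c6))))
theorem f610446 : Led Lsl_gf (LP (LK LD1_c13 LD2_c49 LD3_c41)) = (LP (LK LD1_c13 LD2_c52 LD3_c1)) :=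
  Lgr Lrot76 (Lpr_af (f566300 IH) (Lpe (f566323 IH) (Lpr_gt (f610442 IH) (Lpn (LP (LK LD1_c13 LD2_c52 LD3_c1))))))
theorem f513593 : Led Lsl_cf (LP (LK LD1_c13 LD2_c50 LD3_c1)) = (LP (LK LD1_c13 LD2_c49 LD3_c41)) :=
  Lgr Lrot108 (Lpr_ft (K41.f512962 IH) (Lpr_ct (K34.f488215 IH) (Lpr_ft (K41.f513591 IH) (Lpn (LP (LK LD1_c13 LD2_c49 LD3_c41))))))
theorem f460166 : Led Lsl_bt (LP (LK LD1_c3 LD2_c52 LD3_c46)) = (LP (LK LD1_c7 LD2_c47 LD3_c12)) :=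
  Lre_b IH (LK LD1_c3 LD2_c52 LD3_c46) (LK LD1_c7 LD2_c47 LD3_c12) Lrfl Lrfl
theorem f460167 : Led Lsl_ff (LP (LK LD1_c13 LD2_c30 LD3_c0)) = (LP (LK LD1_c7 LD2_c47 LD3_c12)) :=
  Lgr Lrot25 (Lpr_bt (K5.f104033 IH) (Lpr_ft (K24.f460163 IH) (Lpr_bt (f460166 IH) (Lpn (LP (LK LD1_c7 LD2_c47 LD3_c12))))))
theorem f460393 : Led Lsl_gt (LP (LK LD1_c7 LD2_c47 LD3_c12)) = (LP (LK LD1_c14 LD2_c41 LD3_c31)) :=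
  Lre_g IH (LK LD1_c7 LD2_c47 LD3_c12) (LK LD1_c14 LD2_c41 LD3_c31) Lrfl Lrfl
theorem f490155 : Led Lsl_gf (LP (LK LD1_c22 LD2_c50 LD3_c45)) = (LP (LK LD1_c14 LD2_c41 LD3_c31)) :=
  Lgr Lrot76 (Lpe (K29.f104040 IH) (Lpr_ff (f460167 IH) (Lpr_gt (f460393 IH) (Lpn (LP (LK LD1_c14 LD2_c41 LD3_c31))))))
theorem f104079 : Led Lsl_et (LP (LK LD1_c13 LD2_c29 LD3_c59)) = (LP (LK LD1_c7 LD2_c7 LD3_c30)) :=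
  Lre_e IH (LK LD1_c13 LD2_c29 LD3_c59) (LK LD1_c7 LD2_c7 LD3_c30) Lrfl Lrfl
theorem f89656 : Led Lsl_et (LP (LK LD1_c22 LD2_c33 LD3_c13)) = (LP (LK LD1_c13 LD2_c17 LD3_c24)) :=
  Lre_e IH (LK LD1_c22 LD2_c33 LD3_c13) (LK LD1_c13 LD2_c17 LD3_c24) Lrfl Lrfl
theorem f490157 : Led Lsl_dt (LP (LK LD1_c22 LD2_c33 LD3_c13)) = (LP (LK LD1_c14 LD2_c41 LD3_c31)) :=
  Lgr Lrot136 (Lpr_et (f89656 IH) (Lpe (K24.f17823 IH) (Lpe (K4.f17946 IH) (Lpr_dt (K4.f89317 IH) (Lpr_gf (K8.f127427 IH) (Lpe (K8.f127431 IH) (Lpr_gf (K42.f155646 IH) (Lpe (f104079 IH) (Lpr_dt (K29.f104071 IH) (Lpr_gf (f490155 IH) (Lpn (LP (LK LD1_c14 LD2_c41 LD3_c31)))))))))))))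
theorem f490159 : Led Lsl_df (LP (LK LD1_c22 LD2_c33 LD3_c13)) = (LP (LK LD1_c14 LD2_c41 LD3_c31)) :=
  Lgr Lrot38 (Lpr_dt (f490157 IH) (Lpn (LP (LK LD1_c14 LD2_c41 LD3_c31))))
theorem f610454 : Led Lsl_gt (LP (LK LD1_c22 LD2_c33 LD3_c13)) = (LP (LK LD1_c14 LD2_c17 LD3_c15)) :=
  Lgr Lrot9 (Lpr_df (f490159 IH) (Lpe (f490155 IH) (Lpe (K39.f460460 IH) (Lpr_gt (K29.f460447 IH) (Lpr_ct (K41.f14854 IH) (Lpr_df (K35.f486037 IH) (Lpr_cf (f513593 IH) (Lpr_gf (f610446 IH) (Lpr_cf (K57.f511787 IH) (Lpn (LP (LK LD1_c14 LD2_c17 LD3_c15))))))))))))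
theorem f610456 : Led Lsl_gf (LP (LK LD1_c22 LD2_c33 LD3_c13)) = (LP (LK LD1_c13 LD2_c23 LD3_c9)) :=
  Lgr Lrot47 (Lpr_gt (f610454 IH) (Lpe (K47.f460037 IH) (Lpe (K47.f521032 IH) (Lpn (LP (LK LD1_c13 LD2_c23 LD3_c9))))))
theorem f477452 : Led Lsl_ct (LP (LK LD1_c7 LD2_c34 LD3_c47)) = (LP (LK LD1_c6 LD2_c52 LD3_c6)) :=
  Lgr Lrot59 (Lpr_cf (K29.f477433 IH) (Lpn (LP (LK LD1_c6 LD2_c52 LD3_c6))))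
theorem f477431 : Led Lsl_bt (LP (LK LD1_c7 LD2_c34 LD3_c46)) = (LP (LK LD1_c3 LD2_c46 LD3_c58)) :=
  Lre_b IH (LK LD1_c7 LD2_c34 LD3_c46) (LK LD1_c3 LD2_c46 LD3_c58) Lrfl Lrfl
theorem f473510 : Led Lsl_bt (LP (LK LD1_c3 LD2_c46 LD3_c58)) = (LP (LK LD1_c7 LD2_c34 LD3_c46)) :=
  Lre_b IH (LK LD1_c3 LD2_c46 LD3_c58) (LK LD1_c7 LD2_c34 LD3_c46) Lrfl Lrfl
theorem f477462 : Led Lsl_cf (LP (LK LD1_c7 LD2_c34 LD3_c46)) = (LP (LK LD1_c7 LD2_c34 LD3_c46)) :=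
  Lgr Lrot97 (Lpr_bt (f477431 IH) (Lpr_ct (K29.f468602 IH) (Lpr_bt (K29.f477460 IH) (Lpr_ct (K29.f468594 IH) (Lpr_bt (f473510 IH) (Lpn (LP (LK LD1_c7 LD2_c34 LD3_c46))))))))
theorem f477416 : Led Lsl_gt (LP (LK LD1_c14 LD2_c17 LD3_c38)) = (LP (LK LD1_c7 LD2_c34 LD3_c46)) :=
  Lre_g IH (LK LD1_c14 LD2_c17 LD3_c38) (LK LD1_c7 LD2_c34 LD3_c46) Lrfl Lrfl
theorem f477485 : Led Lsl_ct (LP (LK LD1_c23 LD2_c55 LD3_c19)) = (LP (LK LD1_c14 LD2_c17 LD3_c38)) :=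
  Lre_c IH (LK LD1_c23 LD2_c55 LD3_c19) (LK LD1_c14 LD2_c17 LD3_c38) Lrfl Lrfl
theorem f610490 : Led Lsl_bf (LP (LK LD1_c22 LD2_c33 LD3_c13)) = (LP (LK LD1_c23 LD2_c55 LD3_c19)) :=
  Lgr Lrot34 (Lpr_gf (f610456 IH) (Lpe (K34.f477530 IH) (Lpr_ct (K29.f477533 IH) (Lpr_gf (K29.f467473 IH) (Lpe (f477452 IH) (Lpe (K29.f461290 IH) (Lpe (f477431 IH) (Lpe (f477462 IH) (Lpe (f477416 IH) (Lpe (f477485 IH) (Lpn (LP (LK LD1_c23 LD2_c55 LD3_c19)))))))))))))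
theorem f460723 : Led Lsl_bt (LP (LK LD1_c13 LD2_c17 LD3_c24)) = (LP (LK LD1_c22 LD2_c12 LD3_c28)) :=
  Lgr Lrot127 (Lpr_bf (K24.f460721 IH) (Lpn (LP (LK LD1_c22 LD2_c12 LD3_c28))))
theorem f610497 : Led Lsl_et (LP (LK LD1_c22 LD2_c12 LD3_c28)) = (LP (LK LD1_c23 LD2_c55 LD3_c19)) :=
  Lgr Lrot74 (Lpe (f460723 IH) (Lpe (f89656 IH) (Lpr_bf (f610490 IH) (Lpn (LP (LK LD1_c23 LD2_c55 LD3_c19))))))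
theorem f610501 : Led Lsl_ef (LP (LK LD1_c22 LD2_c12 LD3_c28)) = (LP (LK LD1_c23 LD2_c55 LD3_c19)) :=
  Lgr Lrot88 (Lpr_et (f610497 IH) (Lpn (LP (LK LD1_c23 LD2_c55 LD3_c19))))
theorem f610494 : Led Lsl_ct (LP (LK LD1_c14 LD2_c17 LD3_c38)) = (LP (LK LD1_c23 LD2_c55 LD3_c19)) :=
  Lre_c IH (LK LD1_c14 LD2_c17 LD3_c38) (LK LD1_c23 LD2_c55 LD3_c19) Lrfl Lrfl
theorem f610503 : Led Lsl_et (LP (LK LD1_c13 LD2_c2 LD3_c49)) = (LP (LK LD1_c14 LD2_c17 LD3_c38)) :=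
  Lgr Lrot158 (Lpe (K24.f15882 IH) (Lpr_ef (f610501 IH) (Lpe (f610494 IH) (Lpn (LP (LK LD1_c14 LD2_c17 LD3_c38))))))
theorem f610505 : Led Lsl_bt (LP (LK LD1_c14 LD2_c17 LD3_c38)) = (LP (LK LD1_c23 LD2_c55 LD3_c18)) :=
  Lre_b IH (LK LD1_c14 LD2_c17 LD3_c38) (LK LD1_c23 LD2_c55 LD3_c18) Lrfl Lrfl
theorem f610506 : Led Lsl_ef (LP (LK LD1_c21 LD2_c14 LD3_c7)) = (LP (LK LD1_c23 LD2_c55 LD3_c18)) :=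
  Lgr Lrot29 (Lpr_bt (K43.f543777 IH) (Lpr_et (f610503 IH) (Lpr_bt (f610505 IH) (Lpn (LP (LK LD1_c23 LD2_c55 LD3_c18))))))
theorem f610509 : Led Lsl_et (LP (LK LD1_c21 LD2_c14 LD3_c7)) = (LP (LK LD1_c23 LD2_c55 LD3_c18)) :=
  Lgr Lrot87 (Lpr_ef (f610506 IH) (Lpn (LP (LK LD1_c23 LD2_c55 LD3_c18))))
theorem f543779 : Led Lsl_et (LP (LK LD1_c21 LD2_c14 LD3_c9)) = (LP (LK LD1_c12 LD2_c7 LD3_c46)) :=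
  Lre_e IH (LK LD1_c21 LD2_c14 LD3_c9) (LK LD1_c12 LD2_c7 LD3_c46) Lrfl Lrfl
theorem f610532 : Led Lsl_cf (LP (LK LD1_c21 LD2_c14 LD3_c9)) = (LP (LK LD1_c23 LD2_c55 LD3_c18)) :=
  Lgr Lrot39 (Lpr_et (f543779 IH) (Lpr_ct (K43.f543768 IH) (Lpr_et (f610509 IH) (Lpn (LP (LK LD1_c23 LD2_c55 LD3_c18))))))
theorem f477417 : Led Lsl_bt (LP (LK LD1_c23 LD2_c55 LD3_c18)) = (LP (LK LD1_c14 LD2_c17 LD3_c38)) :=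
  Lre_b IH (LK LD1_c23 LD2_c55 LD3_c18) (LK LD1_c14 LD2_c17 LD3_c38) Lrfl Lrfl
theorem f18790 : Led Lsl_bt (LP (LK LD1_c7 LD2_c0 LD3_c11)) = (LP (LK LD1_c13 LD2_c17 LD3_c15)) :=
  Lre_b IH (LK LD1_c7 LD2_c0 LD3_c11) (LK LD1_c13 LD2_c17 LD3_c15) Lrfl Lrfl
theorem f610534 : Led Lsl_gf (LP (LK LD1_c21 LD2_c14 LD3_c9)) = (LP (LK LD1_c24 LD2_c28 LD3_c40)) :=
  Lgr Lrot129 (Lpr_cf (f610532 IH) (Lpr_bt (f477417 IH) (Lpr_gt (f477416 IH) (Lpe (f473510 IH) (Lpr_ct (K29.f468602 IH) (Lpr_gt (K29.f477394 IH) (Lpe (K29.f460229 IH) (Lpr_bt (f18790 IH) (Lpr_gt (K47.f526597 IH) (Lpr_ct (K46.f461170 IH) (Lpn (LP (LK LD1_c24 LD2_c28 LD3_c40)))))))))))))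
theorem f470961 : Led Lsl_ft (LP (LK LD1_c14 LD2_c21 LD3_c52)) = (LP (LK LD1_c7 LD2_c39 LD3_c25)) :=
  Lgr Lrot54 (Lpe (K34.f129884 IH) (Lpr_ff (K29.f470954 IH) (Lpe (K28.f110267 IH) (Lpn (LP (LK LD1_c7 LD2_c39 LD3_c25))))))
theorem f425119 : Led Lsl_af (LP (LK LD1_c13 LD2_c30 LD3_c26)) = (LP (LK LD1_c7 LD2_c39 LD3_c25)) :=
  Lgr Lrot0 (Lpr_at (K28.f425117 IH) (Lpn (LP (LK LD1_c7 LD2_c39 LD3_c25))))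
theorem f513302 : Led Lsl_gf (LP (LK LD1_c13 LD2_c30 LD3_c26)) = (LP (LK LD1_c22 LD2_c41 LD3_c23)) :=
  Lgr Lrot76 (Lpr_af (f425119 IH) (Lpe (f470961 IH) (Lpr_gt (K34.f513300 IH) (Lpn (LP (LK LD1_c22 LD2_c41 LD3_c23))))))
theorem f96857 : Led Lsl_gt (LP (LK LD1_c13 LD2_c30 LD3_c33)) = (LP (LK LD1_c7 LD2_c7 LD3_c55)) :=
  Lre_g IH (LK LD1_c13 LD2_c30 LD3_c33) (LK LD1_c7 LD2_c7 LD3_c55) Lrfl Lrfl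
theorem f610536 : Led Lsl_dt (LP (LK LD1_c21 LD2_c14 LD3_c9)) = (LP (LK LD1_c13 LD2_c30 LD3_c33)) :=
  Lgr Lrot57 (Lpr_gf (f610534 IH) (Lpe (K46.f461170 IH) (Lpe (K47.f526595 IH) (Lpr_dt (K34.f476543 IH) (Lpe (f513302 IH) (Lpr_dt (K34.f96849 IH) (Lpe (K29.f96852 IH) (Lpe (K46.f96856 IH) (Lpe (f96857 IH) (Lpn (LP (LK LD1_c13 LD2_c30 LD3_c33))))))))))))
theorem f543780 : Led Lsl_dt (LP (LK LD1_c12 LD2_c7 LD3_c44)) = (LP (LK LD1_c6 LD2_c14 LD3_c43)) :=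
  Lre_d IH (LK LD1_c12 LD2_c7 LD3_c44) (LK LD1_c6 LD2_c14 LD3_c43) Lrfl Lrfl
theorem f590129 : Led Lsl_ef (LP (LK LD1_c7 LD2_c14 LD3_c9)) = (LP (LK LD1_c12 LD2_c7 LD3_c44)) :=
  Lgr Lrot28 (Lpr_ct (K41.f17494 IH) (Lpr_et (K61.f590127 IH) (Lpr_ct (K61.f543769 IH) (Lpn (LP (LK LD1_c12 LD2_c7 LD3_c44))))))
theorem f465606 : Led Lsl_at (LP (LK LD1_c6 LD2_c58 LD3_c14)) = (LP (LK LD1_c13 LD2_c14 LD3_c4)) :=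
  Lre_a IH (LK LD1_c6 LD2_c58 LD3_c14) (LK LD1_c13 LD2_c14 LD3_c4) Lrfl Lrfl
theorem f465607 : Led Lsl_ff (LP (LK LD1_c6 LD2_c58 LD3_c14)) = (LP (LK LD1_c3 LD2_c36 LD3_c58)) :=
  Lgr Lrot30 (Lpr_at (f465606 IH) (Lpr_ft (K28.f465604 IH) (Lpr_at (K8.f96575 IH) (Lpn (LP (LK LD1_c3 LD2_c36 LD3_c58))))))
theorem f489481 : Led Lsl_gf (LP (LK LD1_c13 LD2_c14 LD3_c4)) = (LP (LK LD1_c7 LD2_c14 LD3_c9)) :=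
  Lgr Lrot76 (Lpe (f465606 IH) (Lpr_ff (f465607 IH) (Lpr_gt (K39.f17489 IH) (Lpn (LP (LK LD1_c7 LD2_c14 LD3_c9))))))
theorem f610546 : Led Lsl_gt (LP (LK LD1_c16 LD2_c53 LD3_c6)) = (LP (LK LD1_c13 LD2_c30 LD3_c33)) :=
  Lgr Lrot112 (Lpr_df (K41.f566243 IH) (Lpe (K28.f465612 IH) (Lpr_gf (f489481 IH) (Lpr_ef (f590129 IH) (Lpr_dt (f543780 IH) (Lpe (K55.f420567 IH) (Lpr_df (K61.f543723 IH) (Lpe (K43.f543766 IH) (Lpe (f543779 IH) (Lpr_dt (f610536 IH) (Lpn (LP (LK LD1_c13 LD2_c30 LD3_c33)))))))))))))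
theorem f181379 : Led Lsl_ft (LP (LK LD1_c16 LD2_c53 LD3_c6)) = (LP (LK LD1_c9 LD2_c2 LD3_c38)) :=
  Lre_f IH (LK LD1_c16 LD2_c53 LD3_c6) (LK LD1_c9 LD2_c2 LD3_c38) Lrfl Lrfl
theorem f181381 : Led Lsl_bf (LP (LK LD1_c16 LD2_c53 LD3_c6)) = (LP (LK LD1_c14 LD2_c58 LD3_c40)) :=
  Lgr Lrot61 (Lpr_ft (f181379 IH) (Lpr_bt (K46.f181372 IH) (Lpr_ft (K47.f181380 IH) (Lpn (LP (LK LD1_c14 LD2_c58 LD3_c40))))))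
theorem f270129 : Led Lsl_dt (LP (LK LD1_c8 LD2_c41 LD3_c32)) = (LP (LK LD1_c16 LD2_c16 LD3_c46)) :=
  Lre_d IH (LK LD1_c8 LD2_c41 LD3_c32) (LK LD1_c16 LD2_c16 LD3_c46) Lrfl Lrfl
theorem f326143 : Led Lsl_dt (LP (LK LD1_c17 LD2_c43 LD3_c45)) = (LP (LK LD1_c9 LD2_c38 LD3_c1)) :=
  Lre_d IH (LK LD1_c17 LD2_c43 LD3_c45) (LK LD1_c9 LD2_c38 LD3_c1) Lrfl Lrfl
theorem f326170 : Led Lsl_ft (LP (LK LD1_c16 LD2_c16 LD3_c46)) = (LP (LK LD1_c17 LD2_c43 LD3_c45)) :=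
  Lgr Lrot54 (Lpe (f270129 IH) (Lpr_ff (K30.f326157 IH) (Lpe (f326143 IH) (Lpn (LP (LK LD1_c17 LD2_c43 LD3_c45))))))
theorem f270128 : Led Lsl_at (LP (LK LD1_c8 LD2_c41 LD3_c33)) = (LP (LK LD1_c16 LD2_c16 LD3_c46)) :=
  Lre_a IH (LK LD1_c8 LD2_c41 LD3_c33) (LK LD1_c16 LD2_c16 LD3_c46) Lrfl Lrfl
theorem f326180 : Led Lsl_at (LP (LK LD1_c17 LD2_c43 LD3_c45)) = (LP (LK LD1_c9 LD2_c38 LD3_c3)) :=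
  Lre_a IH (LK LD1_c17 LD2_c43 LD3_c45) (LK LD1_c9 LD2_c38 LD3_c3) Lrfl Lrfl
theorem f326181 : Led Lsl_ff (LP (LK LD1_c8 LD2_c41 LD3_c33)) = (LP (LK LD1_c9 LD2_c38 LD3_c3)) :=
  Lgr Lrot30 (Lpr_at (f270128 IH) (Lpr_ft (f326170 IH) (Lpr_at (f326180 IH) (Lpn (LP (LK LD1_c9 LD2_c38 LD3_c3))))))
theorem f270130 : Led Lsl_et (LP (LK LD1_c8 LD2_c41 LD3_c33)) = (LP (LK LD1_c16 LD2_c16 LD3_c49)) :=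
  Lre_e IH (LK LD1_c8 LD2_c41 LD3_c33) (LK LD1_c16 LD2_c16 LD3_c49) Lrfl Lrfl
theorem f270108 : Led Lsl_ft (LP (LK LD1_c16 LD2_c16 LD3_c49)) = (LP (LK LD1_c26 LD2_c14 LD3_c49)) :=
  Lre_f IH (LK LD1_c16 LD2_c16 LD3_c49) (LK LD1_c26 LD2_c14 LD3_c49) Lrfl Lrfl
theorem f326183 : Led Lsl_et (LP (LK LD1_c17 LD2_c43 LD3_c49)) = (LP (LK LD1_c9 LD2_c38 LD3_c3)) :=
  Lre_e IH (LK LD1_c17 LD2_c43 LD3_c49) (LK LD1_c9 LD2_c38 LD3_c3) Lrfl Lrfl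
theorem f326184 : Led Lsl_ft (LP (LK LD1_c27 LD2_c30 LD3_c36)) = (LP (LK LD1_c17 LD2_c43 LD3_c49)) :=
  Lre_f IH (LK LD1_c27 LD2_c30 LD3_c36) (LK LD1_c17 LD2_c43 LD3_c49) Lrfl Lrfl
theorem f326185 : Led Lsl_et (LP (LK LD1_c26 LD2_c14 LD3_c49)) = (LP (LK LD1_c27 LD2_c30 LD3_c36)) :=
  Lgr Lrot69 (Lpe (f270108 IH) (Lpe (f270130 IH) (Lpr_ff (f326181 IH) (Lpe (f326183 IH) (Lpe (f326184 IH) (Lpn (LP (LK LD1_c27 LD2_c30 LD3_c36))))))))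
theorem f270093 : Led Lsl_bt (LP (LK LD1_c16 LD2_c16 LD3_c56)) = (LP (LK LD1_c26 LD2_c14 LD3_c49)) :=
  Lre_b IH (LK LD1_c16 LD2_c16 LD3_c56) (LK LD1_c26 LD2_c14 LD3_c49) Lrfl Lrfl
theorem f270023 : Led Lsl_bt (LP (LK LD1_c27 LD2_c30 LD3_c36)) = (LP (LK LD1_c17 LD2_c43 LD3_c55)) :=
  Lre_b IH (LK LD1_c27 LD2_c30 LD3_c36) (LK LD1_c17 LD2_c43 LD3_c55) Lrfl Lrfl
theorem f326187 : Led Lsl_ef (LP (LK LD1_c16 LD2_c16 LD3_c56)) = (LP (LK LD1_c17 LD2_c43 LD3_c55)) :=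
  Lgr Lrot29 (Lpr_bt (f270093 IH) (Lpr_et (f326185 IH) (Lpr_bt (f270023 IH) (Lpn (LP (LK LD1_c17 LD2_c43 LD3_c55))))))
theorem f411519 : Led Lsl_cf (LP (LK LD1_c17 LD2_c43 LD3_c55)) = (LP (LK LD1_c14 LD2_c58 LD3_c40)) :=
  Lgr Lrot39 (Lpe (f326187 IH) (Lpr_ct (K39.f270087 IH) (Lpr_et (K39.f411514 IH) (Lpn (LP (LK LD1_c14 LD2_c58 LD3_c40))))))
theorem f609587 : Led Lsl_cf (LP (LK LD1_c16 LD2_c16 LD3_c17)) = (LP (LK LD1_c9 LD2_c45 LD3_c7)) :=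
  Lgr Lrot11 (Lpr_ct (f609582 IH) (Lpn (LP (LK LD1_c9 LD2_c45 LD3_c7))))
theorem f609584 : Led Lsl_bt (LP (LK LD1_c9 LD2_c45 LD3_c7)) = (LP (LK LD1_c17 LD2_c54 LD3_c43)) :=
  Lre_b IH (LK LD1_c9 LD2_c45 LD3_c7) (LK LD1_c17 LD2_c54 LD3_c43) Lrfl Lrfl
theorem f610538 : Led Lsl_ct (LP (LK LD1_c13 LD2_c30 LD3_c33)) = (LP (LK LD1_c22 LD2_c51 LD3_c20)) :=
  Lre_c IH (LK LD1_c13 LD2_c30 LD3_c33) (LK LD1_c22 LD2_c51 LD3_c20) Lrfl Lrfl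
theorem f566223 : Led Lsl_dt (LP (LK LD1_c16 LD2_c53 LD3_c6)) = (LP (LK LD1_c13 LD2_c30 LD3_c25)) :=
  Lgr Lrot60 (Lpe (K41.f181388 IH) (Lpr_df (K41.f566221 IH) (Lpe (K29.f162847 IH) (Lpn (LP (LK LD1_c13 LD2_c30 LD3_c25))))))
theorem f145222 : Led Lsl_ct (LP (LK LD1_c14 LD2_c19 LD3_c35)) = (LP (LK LD1_c7 LD2_c39 LD3_c11)) :=
  Lgr Lrot83 (Lpe (K41.f145195 IH) (Lpr_cf (K41.f145213 IH) (Lpe (K41.f96550 IH) (Lpe (K41.f96549 IH) (Lpr_bf (K36.f96545 IH) (Lpn (LP (LK LD1_c7 LD2_c39 LD3_c11))))))))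
theorem f610552 : Led Lsl_gf (LP (LK LD1_c24 LD2_c5 LD3_c25)) = (LP (LK LD1_c22 LD2_c51 LD3_c20)) :=
  Lgr Lrot104 (Lpr_ct (K45.f145232 IH) (Lpe (K45.f88518 IH) (Lpe (f145222 IH) (Lpr_gf (K41.f564551 IH) (Lpr_cf (K29.f470939 IH) (Lpe (K29.f425505 IH) (Lpe (f566223 IH) (Lpr_gt (f610546 IH) (Lpr_ct (f610538 IH) (Lpn (LP (LK LD1_c22 LD2_c51 LD3_c20))))))))))))
theorem f588417 : Led Lsl_df (LP (LK LD1_c13 LD2_c27 LD3_c53)) = (LP (LK LD1_c15 LD2_c7 LD3_c13)) :=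
  Lgr Lrot38 (Lpr_dt (K45.f588407 IH) (Lpn (LP (LK LD1_c15 LD2_c7 LD3_c13))))
theorem f588427 : Led Lsl_bt (LP (LK LD1_c14 LD2_c25 LD3_c31)) = (LP (LK LD1_c15 LD2_c7 LD3_c13)) :=
  Lgr Lrot95 (Lpe (K45.f88518 IH) (Lpe (K36.f96547 IH) (Lpr_df (f588417 IH) (Lpn (LP (LK LD1_c15 LD2_c7 LD3_c13))))))
theorem f610555 : Led Lsl_gf (LP (LK LD1_c17 LD2_c54 LD3_c43)) = (LP (LK LD1_c15 LD2_c7 LD3_c13)) :=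
  Lgr Lrot124 (Lpe (f609584 IH) (Lpe (f609587 IH) (Lpr_gt (f270028 IH) (Lpr_cf (f411519 IH) (Lpe (f181381 IH) (Lpr_gt (f610546 IH) (Lpr_ct (f610538 IH) (Lpe (f610552 IH) (Lpe (K45.f145229 IH) (Lpr_bt (f588427 IH) (Lpn (LP (LK LD1_c15 LD2_c7 LD3_c13)))))))))))))
theorem f609591 : Led Lsl_gt (LP (LK LD1_c17 LD2_c54 LD3_c43)) = (LP (LK LD1_c27 LD2_c40 LD3_c19)) :=
  Lre_g IH (LK LD1_c17 LD2_c54 LD3_c43) (LK LD1_c27 LD2_c40 LD3_c19) Lrfl Lrfl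
theorem f610563 : Led Lsl_af (LP (LK LD1_c27 LD2_c40 LD3_c19)) = (LP (LK LD1_c24 LD2_c55 LD3_c34)) :=
  Lgr Lrot31 (Lpe (f609591 IH) (Lpr_gf (f610555 IH) (Lpr_ft (K55.f588419 IH) (Lpn (LP (LK LD1_c24 LD2_c55 LD3_c34))))))
theorem f588404 : Led Lsl_at (LP (LK LD1_c23 LD2_c4 LD3_c39)) = (LP (LK LD1_c15 LD2_c7 LD3_c13)) :=
  Lgr Lrot100 (Lpr_af (K45.f588402 IH) (Lpn (LP (LK LD1_c15 LD2_c7 LD3_c13))))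
theorem f610571 : Led Lsl_ft (LP (LK LD1_c27 LD2_c40 LD3_c19)) = (LP (LK LD1_c23 LD2_c4 LD3_c39)) :=
  Lgr Lrot101 (Lpr_af (f610563 IH) (Lpe (K55.f588419 IH) (Lpe (f588404 IH) (Lpn (LP (LK LD1_c23 LD2_c4 LD3_c39))))))
theorem f610575 : Led Lsl_df (LP (LK LD1_c27 LD2_c40 LD3_c19)) = (LP (LK LD1_c22 LD2_c28 LD3_c39)) :=
  Lgr Lrot78 (Lpr_ft (f610571 IH) (Lpr_dt (K45.f96925 IH) (Lpr_ft (K41.f564696 IH) (Lpn (LP (LK LD1_c22 LD2_c28 LD3_c39))))))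
theorem f621919 : Led Lsl_dt (LP (LK LD1_c22 LD2_c49 LD3_c42)) = (LP (LK LD1_c30 LD2_c44 LD3_c25)) :=
  Lre_d IH (LK LD1_c22 LD2_c49 LD3_c42) (LK LD1_c30 LD2_c44 LD3_c25) Lrfl Lrfl
theorem f621920 : Led Lsl_gt (LP (LK LD1_c27 LD2_c40 LD3_c19)) = (LP (LK LD1_c22 LD2_c49 LD3_c42)) :=
  Lgr Lrot189 (Lpr_df (f610575 IH) (Lpr_gf (f471383 IH) (Lpe (K41.f471716 IH) (Lpr_gt (K41.f489517 IH) (Lpr_dt (K55.f588423 IH) (Lpe (K55.f588410 IH) (Lpr_dt (f576777 IH) (Lpr_ct (f621912 IH) (Lpe (f621919 IH) (Lpn (LP (LK LD1_c22 LD2_c49 LD3_c42))))))))))))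
theorem f621922 : Led Lsl_gf (LP (LK LD1_c15 LD2_c7 LD3_c13)) = (LP (LK LD1_c22 LD2_c49 LD3_c42)) :=
  Lgr Lrot76 (Lpe (f588404 IH) (Lpe (f610571 IH) (Lpr_gt (f621920 IH) (Lpn (LP (LK LD1_c22 LD2_c49 LD3_c42))))))
theorem f621928 : Led Lsl_ff (LP (LK LD1_c27 LD2_c40 LD3_c20)) = (LP (LK LD1_c22 LD2_c49 LD3_c42)) :=
  Lgr Lrot52 (Lpr_at (f610562 IH) (Lpr_gf (f610555 IH) (Lpr_gf (f621922 IH) (Lpn (LP (LK LD1_c22 LD2_c49 LD3_c42))))))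
theorem f793197 : Led Lsl_at (LP (LK LD1_c16 LD2_c21 LD3_c9)) = (LP (LK LD1_c22 LD2_c49 LD3_c42)) :=
  Lgr Lrot66 (Lpr_ff (f793191 IH) (Lpe (f610562 IH) (Lpr_ff (f621928 IH) (Lpn (LP (LK LD1_c22 LD2_c49 LD3_c42))))))
theorem f793205 : Led Lsl_af (LP (LK LD1_c26 LD2_c19 LD3_c11)) = (LP (LK LD1_c30 LD2_c44 LD3_c25)) :=
  Lgr Lrot117 (Lpr_dt (K55.f576778 IH) (Lpr_at (f793197 IH) (Lpr_dt (f621919 IH) (Lpn (LP (LK LD1_c30 LD2_c44 LD3_c25))))))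
theorem f576764 : Led Lsl_bt (LP (LK LD1_c26 LD2_c19 LD3_c11)) = (LP (LK LD1_c16 LD2_c21 LD3_c11)) :=
  Lre_b IH (LK LD1_c26 LD2_c19 LD3_c11) (LK LD1_c16 LD2_c21 LD3_c11) Lrfl Lrfl
theorem f621906 : Led Lsl_bt (LP (LK LD1_c22 LD2_c49 LD3_c44)) = (LP (LK LD1_c30 LD2_c44 LD3_c25)) :=
  Lre_b IH (LK LD1_c22 LD2_c49 LD3_c44) (LK LD1_c30 LD2_c44 LD3_c25) Lrfl Lrfl
theorem f793209 : Led Lsl_at (LP (LK LD1_c13 LD2_c38 LD3_c17)) = (LP (LK LD1_c22 LD2_c49 LD3_c44)) :=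
  Lgr Lrot67 (Lpr_bf (K61.f489401 IH) (Lpr_af (f793080 IH) (Lpe (f576764 IH) (Lpr_af (f793205 IH) (Lpe (f621906 IH) (Lpn (LP (LK LD1_c22 LD2_c49 LD3_c44))))))))
theorem f793217 : Led Lsl_af (LP (LK LD1_c22 LD2_c45 LD3_c14)) = (LP (LK LD1_c14 LD2_c5 LD3_c18)) :=
  Lgr Lrot68 (Lpe (f610422 IH) (Lpr_at (f793209 IH) (Lpe (f621909 IH) (Lpn (LP (LK LD1_c14 LD2_c5 LD3_c18))))))
theorem f529189 : Led Lsl_gt (LP (LK LD1_c22 LD2_c45 LD3_c13)) = (LP (LK LD1_c22 LD2_c43 LD3_c56)) :=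
  Lgr Lrot46 (Lpe (K47.f458327 IH) (Lpr_ft (K42.f529165 IH) (Lpr_at (K47.f480443 IH) (Lpn (LP (LK LD1_c22 LD2_c43 LD3_c56))))))
theorem f793225 : Led Lsl_ft (LP (LK LD1_c22 LD2_c45 LD3_c13)) = (LP (LK LD1_c14 LD2_c5 LD3_c18)) :=
  Lgr Lrot2 (Lpr_gt (f529189 IH) (Lpe (K61.f529439 IH) (Lpr_af (f793217 IH) (Lpn (LP (LK LD1_c14 LD2_c5 LD3_c18))))))
theorem f793231 : Led Lsl_ff (LP (LK LD1_c22 LD2_c45 LD3_c13)) = (LP (LK LD1_c14 LD2_c5 LD3_c18)) :=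
  Lgr Lrot3 (Lpr_ft (f793225 IH) (Lpn (LP (LK LD1_c14 LD2_c5 LD3_c18))))
theorem f554216 : Led Lsl_df (LP (LK LD1_c14 LD2_c5 LD3_c18)) = (LP (LK LD1_c14 LD2_c53 LD3_c58)) :=
  Lgr Lrot12 (Lpr_bt (f469293 IH) (Lpr_dt (K39.f554214 IH) (Lpe (K47.f471167 IH) (Lpn (LP (LK LD1_c14 LD2_c53 LD3_c58))))))
theorem f793237 : Led Lsl_ft (LP (LK LD1_c14 LD2_c2 LD3_c3)) = (LP (LK LD1_c14 LD2_c53 LD3_c58)) :=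
  Lgr Lrot54 (Lpr_df (K47.f609266 IH) (Lpr_ff (f793231 IH) (Lpr_df (f554216 IH) (Lpn (LP (LK LD1_c14 LD2_c53 LD3_c58))))))
theorem f462716 : Led Lsl_ct (LP (LK LD1_c23 LD2_c34 LD3_c59)) = (LP (LK LD1_c14 LD2_c2 LD3_c3)) :=
  Lre_c IH (LK LD1_c23 LD2_c34 LD3_c59) (LK LD1_c14 LD2_c2 LD3_c3) Lrfl Lrfl
theorem f793241 : Led Lsl_ff (LP (LK LD1_c23 LD2_c34 LD3_c59)) = (LP (LK LD1_c24 LD2_c36 LD3_c9)) :=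
  Lgr Lrot23 (Lpr_ct (f462716 IH) (Lpr_ft (f793237 IH) (Lpr_ct (K28.f470354 IH) (Lpn (LP (LK LD1_c24 LD2_c36 LD3_c9))))))
theorem f159847 : Led Lsl_gt (LP (LK LD1_c14 LD2_c49 LD3_c51)) = (LP (LK LD1_c24 LD2_c36 LD3_c8)) :=
  Lre_g IH (LK LD1_c14 LD2_c49 LD3_c51) (LK LD1_c24 LD2_c36 LD3_c8) Lrfl Lrfl
theorem f793434 : Led Lsl_at (LP (LK LD1_c23 LD2_c34 LD3_c59)) = (LP (LK LD1_c24 LD2_c36 LD3_c8)) :=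
  Lgr Lrot26 (Lpr_ff (f793241 IH) (Lpr_gt (K28.f11822 IH) (Lpr_gt (f159847 IH) (Lpn (LP (LK LD1_c24 LD2_c36 LD3_c8))))))
theorem f462554 : Led Lsl_gf (LP (LK LD1_c14 LD2_c2 LD3_c4)) = (LP (LK LD1_c14 LD2_c53 LD3_c57)) :=
  Lgr Lrot47 (Lpr_gt (K61.f108072 IH) (Lpe (K47.f159345 IH) (Lpr_ff (K28.f462544 IH) (Lpn (LP (LK LD1_c14 LD2_c53 LD3_c57))))))
theorem f793243 : Led Lsl_af (LP (LK LD1_c14 LD2_c2 LD3_c4)) = (LP (LK LD1_c14 LD2_c53 LD3_c58)) :=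
  Lgr Lrot31 (Lpr_gf (f462554 IH) (Lpe (K47.f462713 IH) (Lpr_ft (f793237 IH) (Lpn (LP (LK LD1_c14 LD2_c53 LD3_c58))))))
theorem f462557 : Led Lsl_ct (LP (LK LD1_c14 LD2_c2 LD3_c4)) = (LP (LK LD1_c23 LD2_c35 LD3_c0)) :=
  Lre_c IH (LK LD1_c14 LD2_c2 LD3_c4) (LK LD1_c23 LD2_c35 LD3_c0) Lrfl Lrfl
theorem f470356 : Led Lsl_cf (LP (LK LD1_c14 LD2_c53 LD3_c58)) = (LP (LK LD1_c24 LD2_c36 LD3_c9)) :=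
  Lgr Lrot11 (Lpr_ct (K28.f470354 IH) (Lpn (LP (LK LD1_c24 LD2_c36 LD3_c9))))
theorem f793245 : Led Lsl_at (LP (LK LD1_c23 LD2_c35 LD3_c0)) = (LP (LK LD1_c24 LD2_c36 LD3_c9)) :=
  Lgr Lrot107 (Lpe (f462557 IH) (Lpr_af (f793243 IH) (Lpr_cf (f470356 IH) (Lpn (LP (LK LD1_c24 LD2_c36 LD3_c9))))))
theorem f793440 : Led Lsl_ff (LP (LK LD1_c23 LD2_c35 LD3_c0)) = (LP (LK LD1_c24 LD2_c36 LD3_c8)) :=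
  Lgr Lrot30 (Lpr_at (f793245 IH) (Lpe (f793241 IH) (Lpr_at (f793434 IH) (Lpn (LP (LK LD1_c24 LD2_c36 LD3_c8))))))
theorem f621903 : Led Lsl_dt (LP (LK LD1_c13 LD2_c29 LD3_c19)) = (LP (LK LD1_c22 LD2_c49 LD3_c44)) :=
  Lre_d IH (LK LD1_c13 LD2_c29 LD3_c19) (LK LD1_c22 LD2_c49 LD3_c44) Lrfl Lrfl
theorem f621914 : Led Lsl_ct (LP (LK LD1_c22 LD2_c49 LD3_c43)) = (LP (LK LD1_c13 LD2_c29 LD3_c19)) :=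
  Lre_c IH (LK LD1_c22 LD2_c49 LD3_c43) (LK LD1_c13 LD2_c29 LD3_c19) Lrfl Lrfl
theorem f621915 : Led Lsl_dt (LP (LK LD1_c30 LD2_c44 LD3_c27)) = (LP (LK LD1_c22 LD2_c49 LD3_c43)) :=
  Lre_d IH (LK LD1_c30 LD2_c44 LD3_c27) (LK LD1_c22 LD2_c49 LD3_c43) Lrfl Lrfl
theorem f159848 : Led Lsl_dt (LP (LK LD1_c24 LD2_c36 LD3_c8)) = (LP (LK LD1_c31 LD2_c35 LD3_c22)) :=
  Lre_d IH (LK LD1_c24 LD2_c36 LD3_c8) (LK LD1_c31 LD2_c35 LD3_c22) Lrfl Lrfl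
theorem f793446 : Led Lsl_cf (LP (LK LD1_c30 LD2_c44 LD3_c27)) = (LP (LK LD1_c31 LD2_c35 LD3_c22)) :=
  Lgr Lrot118 (Lpr_dt (f621915 IH) (Lpr_ct (f621914 IH) (Lpr_dt (f621903 IH) (Lpe (f621909 IH) (Lpr_dt (K48.f554212 IH) (Lpr_ct (K28.f470354 IH) (Lpe (f793245 IH) (Lpr_ff (f793440 IH) (Lpr_dt (f159848 IH) (Lpn (LP (LK LD1_c31 LD2_c35 LD3_c22))))))))))))
theorem f609268 : Led Lsl_dt (LP (LK LD1_c14 LD2_c2 LD3_c3)) = (LP (LK LD1_c22 LD2_c45 LD3_c13)) :=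
  Lgr Lrot42 (Lpr_df (K47.f609266 IH) (Lpn (LP (LK LD1_c22 LD2_c45 LD3_c13))))
theorem f462535 : Led Lsl_ct (LP (LK LD1_c14 LD2_c53 LD3_c57)) = (LP (LK LD1_c24 LD2_c40 LD3_c50)) :=
  Lre_c IH (LK LD1_c14 LD2_c53 LD3_c57) (LK LD1_c24 LD2_c40 LD3_c50) Lrfl Lrfl
theorem f108144 : Led Lsl_at (LP (LK LD1_c23 LD2_c34 LD3_c43)) = (LP (LK LD1_c14 LD2_c2 LD3_c5)) :=
  Lre_a IH (LK LD1_c23 LD2_c34 LD3_c43) (LK LD1_c14 LD2_c2 LD3_c5) Lrfl Lrfl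
theorem f462526 : Led Lsl_at (LP (LK LD1_c14 LD2_c53 LD3_c60)) = (LP (LK LD1_c24 LD2_c40 LD3_c50)) :=
  Lre_a IH (LK LD1_c14 LD2_c53 LD3_c60) (LK LD1_c24 LD2_c40 LD3_c50) Lrfl Lrfl
theorem f462527 : Led Lsl_ff (LP (LK LD1_c23 LD2_c34 LD3_c43)) = (LP (LK LD1_c24 LD2_c40 LD3_c50)) :=
  Lgr Lrot30 (Lpr_at (f108144 IH) (Lpr_ft (K28.f462518 IH) (Lpr_at (f462526 IH) (Lpn (LP (LK LD1_c24 LD2_c40 LD3_c50))))))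
theorem f108146 : Led Lsl_gt (LP (LK LD1_c23 LD2_c35 LD3_c2)) = (LP (LK LD1_c14 LD2_c2 LD3_c5)) :=
  Lre_g IH (LK LD1_c23 LD2_c35 LD3_c2) (LK LD1_c14 LD2_c2 LD3_c5) Lrfl Lrfl
theorem f462695 : Led Lsl_gf (LP (LK LD1_c23 LD2_c35 LD3_c2)) = (LP (LK LD1_c24 LD2_c40 LD3_c50)) :=
  Lgr Lrot47 (Lpr_gt (f108146 IH) (Lpe (f108144 IH) (Lpr_ff (f462527 IH) (Lpn (LP (LK LD1_c24 LD2_c40 LD3_c50))))))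
theorem f108061 : Led Lsl_ct (LP (LK LD1_c14 LD2_c2 LD3_c5)) = (LP (LK LD1_c7 LD2_c25 LD3_c17)) :=
  Lre_c IH (LK LD1_c14 LD2_c2 LD3_c5) (LK LD1_c7 LD2_c25 LD3_c17) Lrfl Lrfl
theorem f11803 : Led Lsl_dt (LP (LK LD1_c24 LD2_c36 LD3_c5)) = (LP (LK LD1_c14 LD2_c49 LD3_c47)) :=
  Lre_d IH (LK LD1_c24 LD2_c36 LD3_c5) (LK LD1_c14 LD2_c49 LD3_c47) Lrfl Lrfl
theorem f465518 : Led Lsl_gt (LP (LK LD1_c24 LD2_c36 LD3_c5)) = (LP (LK LD1_c14 LD2_c49 LD3_c50)) :=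
  Lre_g IH (LK LD1_c24 LD2_c36 LD3_c5) (LK LD1_c14 LD2_c49 LD3_c50) Lrfl Lrfl
theorem f465519 : Led Lsl_cf (LP (LK LD1_c23 LD2_c35 LD3_c2)) = (LP (LK LD1_c14 LD2_c49 LD3_c50)) :=
  Lgr Lrot169 (Lpr_gt (f108146 IH) (Lpr_ct (f108061 IH) (Lpe (K28.f108140 IH) (Lpe (K41.f108030 IH) (Lpe (K29.f108051 IH) (Lpr_cf (K29.f465509 IH) (Lpe (K29.f11800 IH) (Lpe (f11803 IH) (Lpr_gt (f465518 IH) (Lpn (LP (LK LD1_c14 LD2_c49 LD3_c50))))))))))))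
theorem f465542 : Led Lsl_ct (LP (LK LD1_c23 LD2_c35 LD3_c2)) = (LP (LK LD1_c14 LD2_c49 LD3_c50)) :=
  Lgr Lrot59 (Lpr_cf (f465519 IH) (Lpn (LP (LK LD1_c14 LD2_c49 LD3_c50))))
theorem f790743 : Led Lsl_dt (LP (LK LD1_c13 LD2_c59 LD3_c44)) = (LP (LK LD1_c14 LD2_c49 LD3_c50)) :=
  Lgr Lrot27 (Lpr_cf (K61.f790733 IH) (Lpe (K61.f479771 IH) (Lpr_cf (K47.f529198 IH) (Lpe (f529189 IH) (Lpe (f609268 IH) (Lpr_gt (K47.f462713 IH) (Lpr_ct (f462535 IH) (Lpe (f462695 IH) (Lpr_ct (f465542 IH) (Lpn (LP (LK LD1_c14 LD2_c49 LD3_c50))))))))))))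
theorem f11750 : Led Lsl_gt (LP (LK LD1_c14 LD2_c49 LD3_c50)) = (LP (LK LD1_c7 LD2_c51 LD3_c49)) :=
  Lre_g IH (LK LD1_c14 LD2_c49 LD3_c50) (LK LD1_c7 LD2_c51 LD3_c49) Lrfl Lrfl
theorem f790747 : Led Lsl_cf (LP (LK LD1_c14 LD2_c53 LD3_c59)) = (LP (LK LD1_c24 LD2_c36 LD3_c8)) :=
  Lgr Lrot175 (Lpe (K57.f610698 IH) (Lpr_cf (K47.f610693 IH) (Lpe (K47.f610691 IH) (Lpe (K34.f456534 IH) (Lpe (K61.f456530 IH) (Lpr_dt (f790743 IH) (Lpr_gt (f11750 IH) (Lpr_ct (K28.f11799 IH) (Lpr_gt (f159847 IH) (Lpn (LP (LK LD1_c24 LD2_c36 LD3_c8))))))))))))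
theorem f790749 : Led Lsl_ct (LP (LK LD1_c14 LD2_c53 LD3_c59)) = (LP (LK LD1_c24 LD2_c36 LD3_c8)) :=
  Lgr Lrot59 (Lpr_cf (f790747 IH) (Lpn (LP (LK LD1_c24 LD2_c36 LD3_c8))))
theorem f792629 : Led Lsl_ff (LP (LK LD1_c17 LD2_c54 LD3_c46)) = (LP (LK LD1_c13 LD2_c29 LD3_c18)) :=
  Lgr Lrot19 (Lpe (K61.f558923 IH) (Lpr_ft (K61.f792623 IH) (Lpr_dt (K47.f514934 IH) (Lpn (LP (LK LD1_c13 LD2_c29 LD3_c18))))))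
theorem f793450 : Led Lsl_af (LP (LK LD1_c13 LD2_c29 LD3_c19)) = (LP (LK LD1_c17 LD2_c54 LD3_c46)) :=
  Lgr Lrot109 (Lpe (f621914 IH) (Lpe (f621915 IH) (Lpr_cf (f793446 IH) (Lpe (f159848 IH) (Lpe (f790749 IH) (Lpe (K57.f610702 IH) (Lpr_cf (K47.f610693 IH) (Lpe (K47.f470367 IH) (Lpe (f792629 IH) (Lpn (LP (LK LD1_c17 LD2_c54 LD3_c46))))))))))))
theorem f792645 : Led Lsl_at (LP (LK LD1_c21 LD2_c12 LD3_c39)) = (LP (LK LD1_c13 LD2_c29 LD3_c18)) :=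
  Lgr Lrot100 (Lpr_af (K61.f792643 IH) (Lpn (LP (LK LD1_c13 LD2_c29 LD3_c18))))
theorem f793456 : Led Lsl_ft (LP (LK LD1_c13 LD2_c29 LD3_c19)) = (LP (LK LD1_c21 LD2_c12 LD3_c39)) :=
  Lgr Lrot101 (Lpr_af (f793450 IH) (Lpr_ff (f792629 IH) (Lpe (f792645 IH) (Lpn (LP (LK LD1_c21 LD2_c12 LD3_c39))))))
theorem f793460 : Led Lsl_ff (LP (LK LD1_c13 LD2_c29 LD3_c19)) = (LP (LK LD1_c21 LD2_c12 LD3_c39)) :=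
  Lgr Lrot3 (Lpr_ft (f793456 IH) (Lpn (LP (LK LD1_c21 LD2_c12 LD3_c39))))
theorem f621926 : Led Lsl_bt (LP (LK LD1_c13 LD2_c29 LD3_c19)) = (LP (LK LD1_c22 LD2_c49 LD3_c42)) :=
  Lre_b IH (LK LD1_c13 LD2_c29 LD3_c19) (LK LD1_c22 LD2_c49 LD3_c42) Lrfl Lrfl
theorem f793462 : Led Lsl_bt (LP (LK LD1_c27 LD2_c40 LD3_c20)) = (LP (LK LD1_c21 LD2_c12 LD3_c39)) :=
  Lgr Lrot35 (Lpr_ff (f621928 IH) (Lpe (f621926 IH) (Lpr_ff (f793460 IH) (Lpn (LP (LK LD1_c21 LD2_c12 LD3_c39))))))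
theorem f621945 : Led Lsl_et (LP (LK LD1_c32 LD2_c27 LD3_c40)) = (LP (LK LD1_c27 LD2_c40 LD3_c20)) :=
  Lre_e IH (LK LD1_c32 LD2_c27 LD3_c40) (LK LD1_c27 LD2_c40 LD3_c20) Lrfl Lrfl
theorem f793519 : Led Lsl_bf (LP (LK LD1_c32 LD2_c27 LD3_c40)) = (LP (LK LD1_c29 LD2_c53 LD3_c57)) :=
  Lgr Lrot96 (Lpr_et (f621945 IH) (Lpr_bt (f793462 IH) (Lpe (K61.f588328 IH) (Lpn (LP (LK LD1_c29 LD2_c53 LD3_c57))))))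
theorem f198418 : Led Lsl_bt (LP (LK LD1_c29 LD2_c53 LD3_c56)) = (LP (LK LD1_c21 LD2_c12 LD3_c5)) :=
  Lre_b IH (LK LD1_c29 LD2_c53 LD3_c56) (LK LD1_c21 LD2_c12 LD3_c5) Lrfl Lrfl
theorem f793521 : Led Lsl_dt (LP (LK LD1_c32 LD2_c27 LD3_c40)) = (LP (LK LD1_c29 LD2_c53 LD3_c56)) :=
  Lgr Lrot79 (Lpr_bf (f793519 IH) (Lpe (K61.f198415 IH) (Lpe (f198418 IH) (Lpn (LP (LK LD1_c29 LD2_c53 LD3_c56))))))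
theorem f793523 : Led Lsl_df (LP (LK LD1_c32 LD2_c27 LD3_c40)) = (LP (LK LD1_c29 LD2_c53 LD3_c56)) :=
  Lgr Lrot38 (Lpr_dt (f793521 IH) (Lpn (LP (LK LD1_c29 LD2_c53 LD3_c56))))
theorem f793620 : Led Lsl_at (LP (LK LD1_c30 LD2_c55 LD3_c32)) = (LP (LK LD1_c29 LD2_c53 LD3_c56)) :=
  Lgr Lrot51 (Lpr_df (f793609 IH) (Lpe (f793172 IH) (Lpr_df (f793523 IH) (Lpn (LP (LK LD1_c29 LD2_c53 LD3_c56))))))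
theorem f272882 : Led Lsl_bt (LP (LK LD1_c16 LD2_c19 LD3_c49)) = (LP (LK LD1_c26 LD2_c17 LD3_c52)) :=
  Lre_b IH (LK LD1_c16 LD2_c19 LD3_c49) (LK LD1_c26 LD2_c17 LD3_c52) Lrfl Lrfl
theorem f793594 : Led Lsl_ff (LP (LK LD1_c30 LD2_c55 LD3_c32)) = (LP (LK LD1_c26 LD2_c17 LD3_c52)) :=
  Lgr Lrot25 (Lpr_bt (f793593 IH) (Lpr_ft (f793589 IH) (Lpr_bt (f272882 IH) (Lpn (LP (LK LD1_c26 LD2_c17 LD3_c52))))))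
theorem f621944 : Led Lsl_at (LP (LK LD1_c17 LD2_c54 LD3_c43)) = (LP (LK LD1_c27 LD2_c40 LD3_c20)) :=
  Lre_a IH (LK LD1_c17 LD2_c54 LD3_c43) (LK LD1_c27 LD2_c40 LD3_c20) Lrfl Lrfl
theorem f793193 : Led Lsl_gt (LP (LK LD1_c23 LD2_c4 LD3_c39)) = (LP (LK LD1_c27 LD2_c40 LD3_c20)) :=
  Lgr Lrot46 (Lpe (K55.f576833 IH) (Lpr_ft (f793183 IH) (Lpr_at (f621944 IH) (Lpn (LP (LK LD1_c27 LD2_c40 LD3_c20))))))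
theorem f610579 : Led Lsl_ff (LP (LK LD1_c27 LD2_c40 LD3_c19)) = (LP (LK LD1_c23 LD2_c4 LD3_c39)) :=
  Lgr Lrot3 (Lpr_ft (f610571 IH) (Lpn (LP (LK LD1_c23 LD2_c4 LD3_c39))))
theorem f610567 : Led Lsl_at (LP (LK LD1_c27 LD2_c40 LD3_c19)) = (LP (LK LD1_c24 LD2_c55 LD3_c34)) :=
  Lgr Lrot100 (Lpr_af (f610563 IH) (Lpn (LP (LK LD1_c24 LD2_c55 LD3_c34))))
theorem f793195 : Led Lsl_gf (LP (LK LD1_c24 LD2_c55 LD3_c34)) = (LP (LK LD1_c27 LD2_c40 LD3_c20)) :=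
  Lgr Lrot76 (Lpe (f610567 IH) (Lpr_ff (f610579 IH) (Lpr_gt (f793193 IH) (Lpn (LP (LK LD1_c27 LD2_c40 LD3_c20))))))
theorem f470506 : Led Lsl_dt (LP (LK LD1_c23 LD2_c6 LD3_c12)) = (LP (LK LD1_c13 LD2_c40 LD3_c39)) :=
  Lre_d IH (LK LD1_c23 LD2_c6 LD3_c12) (LK LD1_c13 LD2_c40 LD3_c39) Lrfl Lrfl
theorem f182340 : Led Lsl_gt (LP (LK LD1_c4 LD2_c56 LD3_c56)) = (LP (LK LD1_c9 LD2_c45 LD3_c1)) :=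
  Lre_g IH (LK LD1_c4 LD2_c56 LD3_c56) (LK LD1_c9 LD2_c45 LD3_c1) Lrfl Lrfl
theorem f197352 : Led Lsl_dt (LP (LK LD1_c17 LD2_c54 LD3_c33)) = (LP (LK LD1_c9 LD2_c45 LD3_c1)) :=
  Lre_d IH (LK LD1_c17 LD2_c54 LD3_c33) (LK LD1_c9 LD2_c45 LD3_c1) Lrfl Lrfl
theorem f610129 : Led Lsl_et (LP (LK LD1_c17 LD2_c54 LD3_c33)) = (LP (LK LD1_c23 LD2_c6 LD3_c15)) :=
  Lgr Lrot121 (Lpr_dt (f197352 IH) (Lpe (f182340 IH) (Lpe (K47.f197253 IH) (Lpr_et (K18.f197272 IH) (Lpe (K13.f197248 IH) (Lpe (K47.f607009 IH) (Lpr_dt (K47.f439240 IH) (Lpe (K47.f610047 IH) (Lpe (K47.f456547 IH) (Lpr_gf (K47.f610125 IH) (Lpn (LP (LK LD1_c23 LD2_c6 LD3_c15)))))))))))))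
theorem f610134 : Led Lsl_ef (LP (LK LD1_c17 LD2_c54 LD3_c33)) = (LP (LK LD1_c23 LD2_c6 LD3_c15)) :=
  Lgr Lrot88 (Lpr_et (f610129 IH) (Lpn (LP (LK LD1_c23 LD2_c6 LD3_c15))))
theorem f610173 : Led Lsl_et (LP (LK LD1_c9 LD2_c45 LD3_c1)) = (LP (LK LD1_c13 LD2_c40 LD3_c41)) :=
  Lgr Lrot71 (Lpe (f197352 IH) (Lpr_ef (f610134 IH) (Lpe (K47.f464986 IH) (Lpe (K47.f610172 IH) (Lpe (K61.f160514 IH) (Lpn (LP (LK LD1_c13 LD2_c40 LD3_c41))))))))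
theorem f297168 : Led Lsl_bt (LP (LK LD1_c17 LD2_c54 LD3_c32)) = (LP (LK LD1_c9 LD2_c45 LD3_c1)) :=
  Lre_b IH (LK LD1_c17 LD2_c54 LD3_c32) (LK LD1_c9 LD2_c45 LD3_c1) Lrfl Lrfl
theorem f610175 : Led Lsl_bt (LP (LK LD1_c13 LD2_c40 LD3_c41)) = (LP (LK LD1_c23 LD2_c6 LD3_c12)) :=
  Lre_b IH (LK LD1_c13 LD2_c40 LD3_c41) (LK LD1_c23 LD2_c6 LD3_c12) Lrfl Lrfl
theorem f610176 : Led Lsl_ef (LP (LK LD1_c17 LD2_c54 LD3_c32)) = (LP (LK LD1_c23 LD2_c6 LD3_c12)) :=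
  Lgr Lrot29 (Lpr_bt (f297168 IH) (Lpr_et (f610173 IH) (Lpr_bt (f610175 IH) (Lpn (LP (LK LD1_c23 LD2_c6 LD3_c12))))))
theorem f610182 : Led Lsl_gt (LP (LK LD1_c17 LD2_c54 LD3_c32)) = (LP (LK LD1_c27 LD2_c40 LD3_c12)) :=
  Lre_g IH (LK LD1_c17 LD2_c54 LD3_c32) (LK LD1_c27 LD2_c40 LD3_c12) Lrfl Lrfl
theorem f610183 : Led Lsl_gf (LP (LK LD1_c17 LD2_c54 LD3_c32)) = (LP (LK LD1_c15 LD2_c7 LD3_c22)) :=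
  Lgr Lrot141 (Lpr_ef (f610176 IH) (Lpr_dt (f470506 IH) (Lpr_gt (K41.f564668 IH) (Lpe (K45.f96925 IH) (Lpe (K45.f574948 IH) (Lpe (K45.f588032 IH) (Lpr_dt (K39.f69784 IH) (Lpr_gt (K43.f573423 IH) (Lpe (K44.f573436 IH) (Lpr_et (K45.f573438 IH) (Lpn (LP (LK LD1_c15 LD2_c7 LD3_c22)))))))))))))
theorem f573518 : Led Lsl_ft (LP (LK LD1_c15 LD2_c7 LD3_c22)) = (LP (LK LD1_c24 LD2_c55 LD3_c58)) :=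
  Lre_f IH (LK LD1_c15 LD2_c7 LD3_c22) (LK LD1_c24 LD2_c55 LD3_c58) Lrfl Lrfl
theorem f610188 : Led Lsl_af (LP (LK LD1_c27 LD2_c40 LD3_c12)) = (LP (LK LD1_c24 LD2_c55 LD3_c58)) :=
  Lgr Lrot31 (Lpe (f610182 IH) (Lpr_gf (f610183 IH) (Lpr_ft (f573518 IH) (Lpn (LP (LK LD1_c24 LD2_c55 LD3_c58))))))
theorem f593724 : Led Lsl_af (LP (LK LD1_c15 LD2_c7 LD3_c22)) = (LP (LK LD1_c24 LD2_c55 LD3_c37)) :=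
  Lgr Lrot0 (Lpr_at (K45.f593719 IH) (Lpn (LP (LK LD1_c24 LD2_c55 LD3_c37))))
theorem f610195 : Led Lsl_ft (LP (LK LD1_c27 LD2_c40 LD3_c12)) = (LP (LK LD1_c24 LD2_c55 LD3_c37)) :=
  Lgr Lrot101 (Lpr_af (f610188 IH) (Lpe (f573518 IH) (Lpr_af (f593724 IH) (Lpn (LP (LK LD1_c24 LD2_c55 LD3_c37))))))
theorem f158634 : Led Lsl_et (LP (LK LD1_c24 LD2_c55 LD3_c37)) = (LP (LK LD1_c15 LD2_c7 LD3_c15)) :=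
  Lre_e IH (LK LD1_c24 LD2_c55 LD3_c37) (LK LD1_c15 LD2_c7 LD3_c15) Lrfl Lrfl
theorem f236871 : Led Lsl_bt (LP (LK LD1_c8 LD2_c1 LD3_c53)) = (LP (LK LD1_c15 LD2_c7 LD3_c18)) :=
  Lre_b IH (LK LD1_c8 LD2_c1 LD3_c53) (LK LD1_c15 LD2_c7 LD3_c18) Lrfl Lrfl
theorem f593678 : Led Lsl_ff (LP (LK LD1_c8 LD2_c1 LD3_c53)) = (LP (LK LD1_c15 LD2_c7 LD3_c15)) :=
  Lgr Lrot25 (Lpr_bt (f236871 IH) (Lpr_ft (K45.f593674 IH) (Lpe (K39.f552371 IH) (Lpn (LP (LK LD1_c15 LD2_c7 LD3_c15))))))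
theorem f573454 : Led Lsl_et (LP (LK LD1_c8 LD2_c1 LD3_c53)) = (LP (LK LD1_c15 LD2_c7 LD3_c20)) :=
  Lre_e IH (LK LD1_c8 LD2_c1 LD3_c53) (LK LD1_c15 LD2_c7 LD3_c20) Lrfl Lrfl
theorem f599118 : Led Lsl_ft (LP (LK LD1_c15 LD2_c7 LD3_c20)) = (LP (LK LD1_c24 LD2_c55 LD3_c53)) :=
  Lre_f IH (LK LD1_c15 LD2_c7 LD3_c20) (LK LD1_c24 LD2_c55 LD3_c53) Lrfl Lrfl
theorem f610199 : Led Lsl_ef (LP (LK LD1_c27 LD2_c40 LD3_c12)) = (LP (LK LD1_c24 LD2_c55 LD3_c53)) :=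
  Lgr Lrot21 (Lpr_ft (f610195 IH) (Lpr_et (f158634 IH) (Lpe (f593678 IH) (Lpr_et (f573454 IH) (Lpr_ft (f599118 IH) (Lpn (LP (LK LD1_c24 LD2_c55 LD3_c53))))))))
theorem f578813 : Led Lsl_dt (LP (LK LD1_c24 LD2_c55 LD3_c53)) = (LP (LK LD1_c31 LD2_c43 LD3_c7)) :=
  Lre_d IH (LK LD1_c24 LD2_c55 LD3_c53) (LK LD1_c31 LD2_c43 LD3_c7) Lrfl Lrfl
theorem f793525 : Led Lsl_gt (LP (LK LD1_c31 LD2_c43 LD3_c7)) = (LP (LK LD1_c29 LD2_c53 LD3_c56)) :=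
  Lgr Lrot112 (Lpe (f578813 IH) (Lpe (f610199 IH) (Lpe (f610182 IH) (Lpr_ef (f610176 IH) (Lpr_dt (f470506 IH) (Lpe (K41.f470502 IH) (Lpr_df (K55.f588420 IH) (Lpr_gf (f793195 IH) (Lpe (f621945 IH) (Lpr_dt (f793521 IH) (Lpn (LP (LK LD1_c29 LD2_c53 LD3_c56)))))))))))))
theorem f793658 : Led Lsl_gt (LP (LK LD1_c26 LD2_c17 LD3_c52)) = (LP (LK LD1_c31 LD2_c43 LD3_c7)) :=
  Lgr Lrot5 (Lpe (f793594 IH) (Lpr_at (f793620 IH) (Lpe (f793525 IH) (Lpn (LP (LK LD1_c31 LD2_c43 LD3_c7))))))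
theorem f578815 : Led Lsl_ft (LP (LK LD1_c31 LD2_c43 LD3_c7)) = (LP (LK LD1_c24 LD2_c55 LD3_c52)) :=
  Lre_f IH (LK LD1_c31 LD2_c43 LD3_c7) (LK LD1_c24 LD2_c55 LD3_c52) Lrfl Lrfl
theorem f596127 : Led Lsl_ft (LP (LK LD1_c27 LD2_c41 LD3_c52)) = (LP (LK LD1_c32 LD2_c27 LD3_c56)) :=
  Lre_f IH (LK LD1_c27 LD2_c41 LD3_c52) (LK LD1_c32 LD2_c27 LD3_c56) Lrfl Lrfl
theorem f596376 : Led Lsl_af (LP (LK LD1_c31 LD2_c43 LD3_c7)) = (LP (LK LD1_c32 LD2_c27 LD3_c56)) :=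
  Lgr Lrot45 (Lpr_ft (f578815 IH) (Lpr_at (K50.f596372 IH) (Lpr_ft (f596127 IH) (Lpn (LP (LK LD1_c32 LD2_c27 LD3_c56))))))
theorem f793660 : Led Lsl_gf (LP (LK LD1_c26 LD2_c17 LD3_c52)) = (LP (LK LD1_c27 LD2_c41 LD3_c52)) :=
  Lgr Lrot47 (Lpr_gt (f793658 IH) (Lpr_af (f596376 IH) (Lpe (f596127 IH) (Lpn (LP (LK LD1_c27 LD2_c41 LD3_c52))))))
theorem f272903 : Led Lsl_bt (LP (LK LD1_c31 LD2_c42 LD3_c37)) = (LP (LK LD1_c24 LD2_c54 LD3_c34)) :=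
  Lre_b IH (LK LD1_c31 LD2_c42 LD3_c37) (LK LD1_c24 LD2_c54 LD3_c34) Lrfl Lrfl
theorem f272904 : Led Lsl_df (LP (LK LD1_c31 LD2_c42 LD3_c37)) = (LP (LK LD1_c26 LD2_c17 LD3_c52)) :=
  Lgr Lrot12 (Lpr_bt (f272903 IH) (Lpr_dt (K40.f272901 IH) (Lpr_bt (f272882 IH) (Lpn (LP (LK LD1_c26 LD2_c17 LD3_c52))))))
theorem f272920 : Led Lsl_dt (LP (LK LD1_c31 LD2_c42 LD3_c37)) = (LP (LK LD1_c26 LD2_c17 LD3_c52)) :=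
  Lgr Lrot42 (Lpr_df (f272904 IH) (Lpn (LP (LK LD1_c26 LD2_c17 LD3_c52))))
theorem f35865 : Led Lsl_et (LP (LK LD1_c31 LD2_c42 LD3_c37)) = (LP (LK LD1_c24 LD2_c54 LD3_c33)) :=
  Lre_e IH (LK LD1_c31 LD2_c42 LD3_c37) (LK LD1_c24 LD2_c54 LD3_c33) Lrfl Lrfl
theorem f596142 : Led Lsl_dt (LP (LK LD1_c12 LD2_c8 LD3_c35)) = (LP (LK LD1_c15 LD2_c8 LD3_c22)) :=
  Lgr Lrot60 (Lpe (K45.f593467 IH) (Lpr_df (K50.f593483 IH) (Lpr_ff (K50.f596136 IH) (Lpn (LP (LK LD1_c15 LD2_c8 LD3_c22))))))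
theorem f596364 : Led Lsl_bt (LP (LK LD1_c12 LD2_c10 LD3_c59)) = (LP (LK LD1_c12 LD2_c8 LD3_c35)) :=
  Lgr Lrot95 (Lpe (K43.f578793 IH) (Lpr_bf (K50.f596146 IH) (Lpe (f596142 IH) (Lpn (LP (LK LD1_c12 LD2_c8 LD3_c35))))))
theorem f582014 : Led Lsl_ff (LP (LK LD1_c11 LD2_c27 LD3_c41)) = (LP (LK LD1_c14 LD2_c25 LD3_c34)) :=
  Lgr Lrot23 (Lpr_ct (K42.f176690 IH) (Lpr_ft (K44.f582010 IH) (Lpe (K43.f575921 IH) (Lpn (LP (LK LD1_c14 LD2_c25 LD3_c34))))))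
theorem f564271 : Led Lsl_cf (LP (LK LD1_c6 LD2_c17 LD3_c1)) = (LP (LK LD1_c12 LD2_c7 LD3_c32)) :=
  Lgr Lrot108 (Lpr_ft (K39.f450391 IH) (Lpr_ct (K41.f418986 IH) (Lpr_ft (K41.f564265 IH) (Lpn (LP (LK LD1_c12 LD2_c7 LD3_c32))))))
theorem f587089 : Led Lsl_cf (LP (LK LD1_c11 LD2_c8 LD3_c5)) = (LP (LK LD1_c8 LD2_c25 LD3_c57)) :=
  Lgr Lrot169 (Lpr_gt (K44.f570280 IH) (Lpr_ct (K43.f422737 IH) (Lpr_df (K43.f570277 IH) (Lpe (K43.f578923 IH) (Lpe (K43.f571967 IH) (Lpe (K43.f571905 IH) (Lpe (K42.f80234 IH) (Lpr_df (K42.f571979 IH) (Lpr_gt (K45.f587085 IH) (Lpn (LP (LK LD1_c8 LD2_c25 LD3_c57))))))))))))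
theorem f577810 : Led Lsl_ft (LP (LK LD1_c12 LD2_c9 LD3_c60)) = (LP (LK LD1_c6 LD2_c16 LD3_c23)) :=
  Lre_f IH (LK LD1_c12 LD2_c9 LD3_c60) (LK LD1_c6 LD2_c16 LD3_c23) Lrfl Lrfl
theorem f577811 : Led Lsl_bt (LP (LK LD1_c11 LD2_c8 LD3_c7)) = (LP (LK LD1_c12 LD2_c9 LD3_c60)) :=
  Lgr Lrot35 (Lpr_ff (K43.f577806 IH) (Lpe (K45.f577522 IH) (Lpe (f577810 IH) (Lpn (LP (LK LD1_c12 LD2_c9 LD3_c60))))))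
theorem f587091 : Led Lsl_gf (LP (LK LD1_c12 LD2_c8 LD3_c53)) = (LP (LK LD1_c12 LD2_c9 LD3_c60)) :=
  Lgr Lrot124 (Lpr_bf (K42.f559730 IH) (Lpr_ct (K42.f548973 IH) (Lpr_gt (K38.f548962 IH) (Lpr_cf (f564271 IH) (Lpe (K42.f272496 IH) (Lpr_gt (K45.f587085 IH) (Lpe (f587089 IH) (Lpr_gt (K44.f570280 IH) (Lpe (K42.f536499 IH) (Lpr_bt (f577811 IH) (Lpn (LP (LK LD1_c12 LD2_c9 LD3_c60)))))))))))))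
theorem f594929 : Led Lsl_at (LP (LK LD1_c11 LD2_c27 LD3_c41)) = (LP (LK LD1_c12 LD2_c8 LD3_c53)) :=
  Lgr Lrot26 (Lpr_ff (f582014 IH) (Lpr_gt (K45.f594927 IH) (Lpe (f587091 IH) (Lpn (LP (LK LD1_c12 LD2_c8 LD3_c53))))))
theorem f593469 : Led Lsl_at (LP (LK LD1_c8 LD2_c5 LD3_c7)) = (LP (LK LD1_c15 LD2_c13 LD3_c21)) :=
  Lre_a IH (LK LD1_c8 LD2_c5 LD3_c7) (LK LD1_c15 LD2_c13 LD3_c21) Lrfl Lrfl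
theorem f556523 : Led Lsl_ft (LP (LK LD1_c15 LD2_c13 LD3_c26)) = (LP (LK LD1_c8 LD2_c5 LD3_c7)) :=
  Lre_f IH (LK LD1_c15 LD2_c13 LD3_c26) (LK LD1_c8 LD2_c5 LD3_c7) Lrfl Lrfl
theorem f593470 : Led Lsl_af (LP (LK LD1_c15 LD2_c13 LD3_c26)) = (LP (LK LD1_c12 LD2_c8 LD3_c35)) :=
  Lgr Lrot45 (Lpr_ft (f556523 IH) (Lpr_at (f593469 IH) (Lpr_ft (K45.f593467 IH) (Lpn (LP (LK LD1_c12 LD2_c8 LD3_c35))))))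
theorem f599081 : Led Lsl_bf (LP (LK LD1_c11 LD2_c27 LD3_c41)) = (LP (LK LD1_c15 LD2_c13 LD3_c26)) :=
  Lgr Lrot81 (Lpr_at (f594929 IH) (Lpr_bt (K43.f561614 IH) (Lpe (K45.f593654 IH) (Lpr_bt (f596364 IH) (Lpe (f593470 IH) (Lpn (LP (LK LD1_c15 LD2_c13 LD3_c26))))))))
theorem f556188 : Led Lsl_bf (LP (LK LD1_c8 LD2_c10 LD3_c26)) = (LP (LK LD1_c9 LD2_c44 LD3_c41)) :=
  Lgr Lrot34 (Lpe (K39.f554495 IH) (Lpe (K9.f70015 IH) (Lpe (K10.f70008 IH) (Lpe (K13.f70014 IH) (Lpr_cf (K13.f197467 IH) (Lpe (K13.f60753 IH) (Lpe (K39.f56472 IH) (Lpr_ct (K38.f60436 IH) (Lpe (K39.f60759 IH) (Lpr_cf (K39.f556177 IH) (Lpn (LP (LK LD1_c9 LD2_c44 LD3_c41)))))))))))))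
theorem f599085 : Led Lsl_et (LP (LK LD1_c8 LD2_c10 LD3_c26)) = (LP (LK LD1_c15 LD2_c13 LD3_c26)) :=
  Lgr Lrot74 (Lpr_bf (f556188 IH) (Lpr_ef (K42.f569260 IH) (Lpr_bf (f599081 IH) (Lpn (LP (LK LD1_c15 LD2_c13 LD3_c26))))))
theorem f556594 : Led Lsl_df (LP (LK LD1_c8 LD2_c10 LD3_c26)) = (LP (LK LD1_c15 LD2_c7 LD3_c14)) :=
  Lgr Lrot38 (Lpr_dt (K45.f556590 IH) (Lpn (LP (LK LD1_c15 LD2_c7 LD3_c14))))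
theorem f197733 : Led Lsl_et (LP (LK LD1_c24 LD2_c55 LD3_c35)) = (LP (LK LD1_c15 LD2_c7 LD3_c14)) :=
  Lre_e IH (LK LD1_c24 LD2_c55 LD3_c35) (LK LD1_c15 LD2_c7 LD3_c14) Lrfl Lrfl
theorem f198437 : Led Lsl_ct (LP (LK LD1_c26 LD2_c27 LD3_c46)) = (LP (LK LD1_c16 LD2_c31 LD3_c16)) :=
  Lre_c IH (LK LD1_c26 LD2_c27 LD3_c46) (LK LD1_c16 LD2_c31 LD3_c16) Lrfl Lrfl
theorem f571327 : Led Lsl_gt (LP (LK LD1_c17 LD2_c57 LD3_c18)) = (LP (LK LD1_c26 LD2_c27 LD3_c46)) :=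
  Lgr Lrot149 (Lpe (K43.f211628 IH) (Lpe (K42.f272576 IH) (Lpr_bf (K42.f571319 IH) (Lpr_ct (K42.f569285 IH) (Lpe (K42.f559914 IH) (Lpe (K38.f418479 IH) (Lpr_bt (K38.f545894 IH) (Lpe (K42.f545889 IH) (Lpe (K43.f198432 IH) (Lpr_ct (K43.f198433 IH) (Lpn (LP (LK LD1_c26 LD2_c27 LD3_c46)))))))))))))
theorem f593490 : Led Lsl_gt (LP (LK LD1_c15 LD2_c13 LD3_c26)) = (LP (LK LD1_c8 LD2_c43 LD3_c5)) :=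
  Lgr Lrot5 (Lpr_ft (f556523 IH) (Lpr_at (f593469 IH) (Lpr_gf (K45.f593488 IH) (Lpn (LP (LK LD1_c8 LD2_c43 LD3_c5))))))
theorem f593494 : Led Lsl_df (LP (LK LD1_c17 LD2_c57 LD3_c17)) = (LP (LK LD1_c15 LD2_c13 LD3_c26)) :=
  Lgr Lrot155 (Lpr_gt (K42.f272576 IH) (Lpr_ct (K43.f211628 IH) (Lpr_gt (f571327 IH) (Lpr_ct (f198437 IH) (Lpr_dt (K50.f575057 IH) (Lpe (K45.f593465 IH) (Lpr_gf (K45.f593488 IH) (Lpr_cf (K45.f272454 IH) (Lpe (f593490 IH) (Lpn (LP (LK LD1_c15 LD2_c13 LD3_c26))))))))))))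
theorem f599093 : Led Lsl_df (LP (LK LD1_c24 LD2_c55 LD3_c35)) = (LP (LK LD1_c27 LD2_c41 LD3_c52)) :=
  Lgr Lrot70 (Lpr_et (f197733 IH) (Lpe (f556594 IH) (Lpr_et (f599085 IH) (Lpe (f593494 IH) (Lpr_et (K50.f571324 IH) (Lpn (LP (LK LD1_c27 LD2_c41 LD3_c52))))))))
theorem f599098 : Led Lsl_dt (LP (LK LD1_c24 LD2_c55 LD3_c35)) = (LP (LK LD1_c27 LD2_c41 LD3_c52)) :=
  Lgr Lrot42 (Lpr_df (f599093 IH) (Lpn (LP (LK LD1_c27 LD2_c41 LD3_c52))))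
theorem f30040 : Led Lsl_gt (LP (LK LD1_c8 LD2_c1 LD3_c52)) = (LP (LK LD1_c15 LD2_c7 LD3_c14)) :=
  Lre_g IH (LK LD1_c8 LD2_c1 LD3_c52) (LK LD1_c15 LD2_c7 LD3_c14) Lrfl Lrfl
theorem f30025 : Led Lsl_et (LP (LK LD1_c15 LD2_c7 LD3_c17)) = (LP (LK LD1_c8 LD2_c1 LD3_c52)) :=
  Lre_e IH (LK LD1_c15 LD2_c7 LD3_c17) (LK LD1_c8 LD2_c1 LD3_c52) Lrfl Lrfl
theorem f158637 : Led Lsl_dt (LP (LK LD1_c15 LD2_c7 LD3_c17)) = (LP (LK LD1_c8 LD2_c2 LD3_c23)) :=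
  Lre_d IH (LK LD1_c15 LD2_c7 LD3_c17) (LK LD1_c8 LD2_c2 LD3_c23) Lrfl Lrfl
theorem f445393 : Led Lsl_dt (LP (LK LD1_c24 LD2_c56 LD3_c55)) = (LP (LK LD1_c15 LD2_c8 LD3_c5)) :=
  Lre_d IH (LK LD1_c24 LD2_c56 LD3_c55) (LK LD1_c15 LD2_c8 LD3_c5) Lrfl Lrfl
theorem f793662 : Led Lsl_gt (LP (LK LD1_c24 LD2_c54 LD3_c33)) = (LP (LK LD1_c24 LD2_c56 LD3_c55)) :=
  Lgr Lrot137 (Lpe (f35865 IH) (Lpr_dt (f272920 IH) (Lpr_gf (f793660 IH) (Lpe (f599098 IH) (Lpr_et (f197733 IH) (Lpe (f30040 IH) (Lpe (f30025 IH) (Lpr_dt (f158637 IH) (Lpe (K56.f158648 IH) (Lpe (f445393 IH) (Lpn (LP (LK LD1_c24 LD2_c56 LD3_c55)))))))))))))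
theorem f558627 : Led Lsl_dt (LP (LK LD1_c8 LD2_c2 LD3_c28)) = (LP (LK LD1_c15 LD2_c8 LD3_c16)) :=
  Lre_d IH (LK LD1_c8 LD2_c2 LD3_c28) (LK LD1_c15 LD2_c8 LD3_c16) Lrfl Lrfl
theorem f158638 : Led Lsl_dt (LP (LK LD1_c24 LD2_c56 LD3_c53)) = (LP (LK LD1_c15 LD2_c8 LD3_c4)) :=
  Lre_d IH (LK LD1_c24 LD2_c56 LD3_c53) (LK LD1_c15 LD2_c8 LD3_c4) Lrfl Lrfl
theorem f746185 : Led Lsl_ft (LP (LK LD1_c15 LD2_c8 LD3_c16)) = (LP (LK LD1_c24 LD2_c56 LD3_c53)) :=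
  Lgr Lrot54 (Lpe (f558627 IH) (Lpr_ff (K57.f746180 IH) (Lpe (f158638 IH) (Lpn (LP (LK LD1_c24 LD2_c56 LD3_c53))))))
theorem f558615 : Led Lsl_dt (LP (LK LD1_c15 LD2_c8 LD3_c12)) = (LP (LK LD1_c8 LD2_c2 LD3_c27)) :=
  Lre_d IH (LK LD1_c15 LD2_c8 LD3_c12) (LK LD1_c8 LD2_c2 LD3_c27) Lrfl Lrfl
theorem f37075 : Led Lsl_dt (LP (LK LD1_c15 LD2_c8 LD3_c4)) = (LP (LK LD1_c24 LD2_c56 LD3_c53)) :=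
  Lre_d IH (LK LD1_c15 LD2_c8 LD3_c4) (LK LD1_c24 LD2_c56 LD3_c53) Lrfl Lrfl
theorem f746160 : Led Lsl_af (LP (LK LD1_c15 LD2_c8 LD3_c12)) = (LP (LK LD1_c24 LD2_c56 LD3_c53)) :=
  Lgr Lrot117 (Lpr_dt (f558615 IH) (Lpr_at (K57.f746156 IH) (Lpr_dt (f37075 IH) (Lpn (LP (LK LD1_c24 LD2_c56 LD3_c53))))))
theorem f618536 : Led Lsl_dt (LP (LK LD1_c8 LD2_c2 LD3_c27)) = (LP (LK LD1_c15 LD2_c8 LD3_c12)) :=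
  Lre_d IH (LK LD1_c8 LD2_c2 LD3_c27) (LK LD1_c15 LD2_c8 LD3_c12) Lrfl Lrfl
theorem f746153 : Led Lsl_ft (LP (LK LD1_c15 LD2_c8 LD3_c12)) = (LP (LK LD1_c24 LD2_c56 LD3_c55)) :=
  Lgr Lrot54 (Lpe (f618536 IH) (Lpr_ff (K57.f746149 IH) (Lpe (f445393 IH) (Lpn (LP (LK LD1_c24 LD2_c56 LD3_c55))))))
theorem f746188 : Led Lsl_af (LP (LK LD1_c15 LD2_c8 LD3_c16)) = (LP (LK LD1_c24 LD2_c56 LD3_c55)) :=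
  Lgr Lrot45 (Lpr_ft (f746185 IH) (Lpe (f746160 IH) (Lpr_ft (f746153 IH) (Lpn (LP (LK LD1_c24 LD2_c56 LD3_c55))))))
theorem f746193 : Led Lsl_at (LP (LK LD1_c15 LD2_c8 LD3_c16)) = (LP (LK LD1_c24 LD2_c56 LD3_c55)) :=
  Lgr Lrot100 (Lpr_af (f746188 IH) (Lpn (LP (LK LD1_c24 LD2_c56 LD3_c55))))
theorem f573461 : Led Lsl_dt (LP (LK LD1_c15 LD2_c8 LD3_c16)) = (LP (LK LD1_c8 LD2_c2 LD3_c28)) :=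
  Lre_d IH (LK LD1_c15 LD2_c8 LD3_c16) (LK LD1_c8 LD2_c2 LD3_c28) Lrfl Lrfl
theorem f746178 : Led Lsl_ff (LP (LK LD1_c15 LD2_c8 LD3_c16)) = (LP (LK LD1_c24 LD2_c56 LD3_c53)) :=
  Lgr Lrot19 (Lpr_dt (f573461 IH) (Lpr_ft (K57.f746174 IH) (Lpr_dt (f37075 IH) (Lpn (LP (LK LD1_c24 LD2_c56 LD3_c53))))))
theorem f793664 : Led Lsl_gf (LP (LK LD1_c24 LD2_c54 LD3_c33)) = (LP (LK LD1_c24 LD2_c56 LD3_c53)) :=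
  Lgr Lrot47 (Lpr_gt (f793662 IH) (Lpe (f746193 IH) (Lpr_ff (f746178 IH) (Lpn (LP (LK LD1_c24 LD2_c56 LD3_c53))))))
theorem f35834 : Led Lsl_bt (LP (LK LD1_c15 LD2_c6 LD3_c25)) = (LP (LK LD1_c24 LD2_c54 LD3_c33)) :=
  Lre_b IH (LK LD1_c15 LD2_c6 LD3_c25) (LK LD1_c24 LD2_c54 LD3_c33) Lrfl Lrfl
theorem f35835 : Led Lsl_bt (LP (LK LD1_c16 LD2_c26 LD3_c48)) = (LP (LK LD1_c8 LD2_c47 LD3_c21)) :=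
  Lre_b IH (LK LD1_c16 LD2_c26 LD3_c48) (LK LD1_c8 LD2_c47 LD3_c21) Lrfl Lrfl
theorem f35836 : Led Lsl_dt (LP (LK LD1_c24 LD2_c54 LD3_c33)) = (LP (LK LD1_c16 LD2_c26 LD3_c48)) :=
  Lgr Lrot79 (Lpe (f35834 IH) (Lpr_df (K37.f35832 IH) (Lpe (f35835 IH) (Lpn (LP (LK LD1_c16 LD2_c26 LD3_c48))))))
theorem f793668 : Led Lsl_cf (LP (LK LD1_c16 LD2_c26 LD3_c48)) = (LP (LK LD1_c11 LD2_c44 LD3_c24)) :=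
  Lgr Lrot14 (Lpe (f35836 IH) (Lpr_gf (f793664 IH) (Lpe (f37075 IH) (Lpe (K57.f37074 IH) (Lpr_ct (K50.f558577 IH) (Lpe (K50.f644905 IH) (Lpe (K41.f507148 IH) (Lpr_gt (K41.f642135 IH) (Lpe (K56.f749193 IH) (Lpn (LP (LK LD1_c11 LD2_c44 LD3_c24))))))))))))
theorem f35863 : Led Lsl_ft (LP (LK LD1_c16 LD2_c26 LD3_c48)) = (LP (LK LD1_c26 LD2_c24 LD3_c2)) :=
  Lre_f IH (LK LD1_c16 LD2_c26 LD3_c48) (LK LD1_c26 LD2_c24 LD3_c2) Lrfl Lrfl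
theorem f76200 : Led Lsl_dt (LP (LK LD1_c4 LD2_c49 LD3_c10)) = (LP (LK LD1_c9 LD2_c31 LD3_c4)) :=
  Lre_d IH (LK LD1_c4 LD2_c49 LD3_c10) (LK LD1_c9 LD2_c31 LD3_c4) Lrfl Lrfl
def v13857 : LQ := Led Lsl_ft (LP (LK LD1_c4 LD2_c49 LD3_c9))
theorem f705524 : Led Lsl_ft (LP (LK LD1_c4 LD2_c49 LD3_c9)) = v13857 :=
  Lrfl
def v13854 : LQ := Led Lsl_at (LP (LK LD1_c4 LD2_c49 LD3_c9))
theorem f705507 : Led Lsl_at (LP (LK LD1_c4 LD2_c49 LD3_c9)) = v13854 :=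
  Lrfl
theorem f705508 : Led Lsl_af (LP (LK LD1_c4 LD2_c49 LD3_c9)) = v13854 :=
  Lgr Lrot0 (Lpr_at (f705507 IH) (Lpn v13854))
theorem f76204 : Led Lsl_gt (LP (LK LD1_c4 LD2_c49 LD3_c10)) = (LP (LK LD1_c2 LD2_c22 LD3_c24)) :=
  Lre_g IH (LK LD1_c4 LD2_c49 LD3_c10) (LK LD1_c2 LD2_c22 LD3_c24) Lrfl Lrfl
theorem f705509 : Led Lsl_ft (LP (LK LD1_c4 LD2_c49 LD3_c10)) = v13854 :=
  Lgr Lrot2 (Lpr_gt (f76204 IH) (Lpr_gt (K41.f414269 IH) (Lpr_af (f705508 IH) (Lpn v13854))))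
theorem f705525 : Led Lsl_af (LP (LK LD1_c4 LD2_c49 LD3_c10)) = v13857 :=
  Lgr Lrot45 (Lpr_ft (f705509 IH) (Lpe (f705508 IH) (Lpr_ft (f705524 IH) (Lpn v13857))))
def v16929 : LQ := Led Lsl_at (LP (LK LD1_c6 LD2_c8 LD3_c46))
theorem f752876 : Led Lsl_at (LP (LK LD1_c6 LD2_c8 LD3_c46)) = v16929 :=
  Lrfl
theorem f752878 : Led Lsl_ef K56.v5173 = v16929 :=
  Lgr Lrot20 (Lpe (K56.f646353 IH) (Lpr_et (K55.f75021 IH) (Lpr_at (f752876 IH) (Lpn v16929))))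
theorem f752879 : Led Lsl_et K56.v5173 = v16929 :=
  Lgr Lrot87 (Lpr_ef (f752878 IH) (Lpn v16929))
theorem f75913 : Led Lsl_gt (LP (LK LD1_c9 LD2_c30 LD3_c36)) = (LP (LK LD1_c4 LD2_c49 LD3_c10)) :=
  Lre_g IH (LK LD1_c9 LD2_c30 LD3_c36) (LK LD1_c4 LD2_c49 LD3_c10) Lrfl Lrfl
theorem f75914 : Led Lsl_dt (LP (LK LD1_c9 LD2_c31 LD3_c4)) = (LP (LK LD1_c4 LD2_c49 LD3_c10)) :=
  Lre_d IH (LK LD1_c9 LD2_c31 LD3_c4) (LK LD1_c4 LD2_c49 LD3_c10) Lrfl Lrfl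
theorem f76197 : Led Lsl_et (LP (LK LD1_c9 LD2_c31 LD3_c4)) = (LP (LK LD1_c5 LD2_c58 LD3_c7)) :=
  Lgr Lrot121 (Lpr_dt (f75914 IH) (Lpe (f75913 IH) (Lpe (K41.f75912 IH) (Lpr_et (K41.f75946 IH) (Lpe (K5.f75884 IH) (Lpe (K5.f75885 IH) (Lpr_dt (K5.f75886 IH) (Lpr_gf (K5.f75889 IH) (Lpe (K5.f74870 IH) (Lpr_gf (K56.f76191 IH) (Lpn (LP (LK LD1_c5 LD2_c58 LD3_c7)))))))))))))
theorem f76202 : Led Lsl_ef (LP (LK LD1_c9 LD2_c31 LD3_c4)) = (LP (LK LD1_c5 LD2_c58 LD3_c7)) :=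
  Lgr Lrot88 (Lpr_et (f76197 IH) (Lpn (LP (LK LD1_c5 LD2_c58 LD3_c7))))
theorem f752950 : v16929 = (LP (LK LD1_c9 LD2_c31 LD3_c4)) :=
  Lefun (Lecon (f752879 IH) (K56.f752935 IH).symm) (Lfl_ef (f76202 IH))
theorem f752877 : Led Lsl_af (LP (LK LD1_c6 LD2_c8 LD3_c46)) = v16929 :=
  Lgr Lrot0 (Lpr_at (f752876 IH) (Lpn v16929))
theorem f752956 : v13857 = (LP (LK LD1_c9 LD2_c30 LD3_c34)) :=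
  (Llr Lrot117 (Lpe (f705525 IH) (Lpr_dt (f76200 IH) (Lpq (f752950 IH) (Lpe (f752877 IH) (Lpr_dt (K2.f75017 IH) (Lpn (LP (LK LD1_c9 LD2_c30 LD3_c34))))))))).symm
theorem f75019 : Led Lsl_df (LP (LK LD1_c6 LD2_c8 LD3_c46)) = (LP (LK LD1_c9 LD2_c30 LD3_c34)) :=
  Lgr Lrot38 (Lpr_dt (K2.f75017 IH) (Lpn (LP (LK LD1_c9 LD2_c30 LD3_c34))))
def v16930 : LQ := Led Lsl_ft (LP (LK LD1_c6 LD2_c8 LD3_c46))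
theorem f752880 : Led Lsl_ft (LP (LK LD1_c6 LD2_c8 LD3_c46)) = v16930 :=
  Lrfl
theorem f752961 : (LP (LK LD1_c9 LD2_c31 LD3_c1)) = v16930 :=
  (Llr Lrot78 (Lpr_dt (K41.f502757 IH) (Lpr_ft (f705524 IH) (Lpqs (f752956 IH) (Lpe (f75019 IH) (Lpr_ft (f752880 IH) (Lpn v16930))))))).symm
theorem f752964 : Led Lsl_ff K56.v16347 = (LP (LK LD1_c17 LD2_c32 LD3_c40)) :=
  Lgr Lrot72 (Lpe (K56.f748908 IH) (Lpqs (K56.f752916 IH) (Lpe (K56.f646362 IH) (Lpr_et (K55.f75021 IH) (Lpr_ft (f752880 IH) (Lpq (f752961 IH) (Lpr_et (K41.f502758 IH) (Lpn (LP (LK LD1_c17 LD2_c32 LD3_c40))))))))))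
theorem f749195 : Led Lsl_dt (LP (LK LD1_c11 LD2_c44 LD3_c24)) = (LP (LK LD1_c17 LD2_c32 LD3_c40)) :=
  Lgr Lrot42 (Lpr_df (K56.f749193 IH) (Lpn (LP (LK LD1_c17 LD2_c32 LD3_c40))))
theorem f752966 : Led Lsl_ft (LP (LK LD1_c17 LD2_c7 LD3_c39)) = (LP (LK LD1_c11 LD2_c44 LD3_c24)) :=
  Lgr Lrot54 (Lpr_df (K56.f748909 IH) (Lpr_ff (f752964 IH) (Lpe (f749195 IH) (Lpn (LP (LK LD1_c11 LD2_c44 LD3_c24))))))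
theorem f793671 : Led Lsl_ct (LP (LK LD1_c26 LD2_c24 LD3_c2)) = (LP (LK LD1_c17 LD2_c7 LD3_c39)) :=
  Lgr Lrot40 (Lpe (f35863 IH) (Lpr_cf (f793668 IH) (Lpe (f752966 IH) (Lpn (LP (LK LD1_c17 LD2_c7 LD3_c39))))))
theorem f641851 : Led Lsl_dt K41.v5035 = (LP (LK LD1_c5 LD2_c57 LD3_c17)) :=
  Lgr Lrot42 (Lpr_df (K41.f641849 IH) (Lpn (LP (LK LD1_c5 LD2_c57 LD3_c17))))
theorem f558626 : Led Lsl_gt (LP (LK LD1_c15 LD2_c8 LD3_c6)) = (LP (LK LD1_c8 LD2_c2 LD3_c28)) :=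
  Lre_g IH (LK LD1_c15 LD2_c8 LD3_c6) (LK LD1_c8 LD2_c2 LD3_c28) Lrfl Lrfl
theorem f558616 : Led Lsl_gt (LP (LK LD1_c24 LD2_c57 LD3_c0)) = (LP (LK LD1_c15 LD2_c8 LD3_c12)) :=
  Lre_g IH (LK LD1_c24 LD2_c57 LD3_c0) (LK LD1_c15 LD2_c8 LD3_c12) Lrfl Lrfl
theorem f746191 : Led Lsl_gt (LP (LK LD1_c15 LD2_c8 LD3_c16)) = (LP (LK LD1_c24 LD2_c57 LD3_c0)) :=
  Lgr Lrot5 (Lpr_ft (f746185 IH) (Lpe (f746160 IH) (Lpe (f558616 IH) (Lpn (LP (LK LD1_c24 LD2_c57 LD3_c0))))))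
theorem f793677 : Led Lsl_df (LP (LK LD1_c26 LD2_c24 LD3_c2)) = (LP (LK LD1_c24 LD2_c57 LD3_c0)) :=
  Lgr Lrot174 (Lpr_ct (f793671 IH) (Lpr_df (K56.f748909 IH) (Lpqs (K56.f749067 IH) (Lpe (K56.f442900 IH) (Lpe (f641851 IH) (Lpe (K42.f641433 IH) (Lpe (K40.f558620 IH) (Lpr_gt (f558626 IH) (Lpr_dt (f558627 IH) (Lpr_gt (f746191 IH) (Lpn (LP (LK LD1_c24 LD2_c57 LD3_c0)))))))))))))
theorem f793678 : Led Lsl_dt (LP (LK LD1_c24 LD2_c57 LD3_c0)) = (LP (LK LD1_c26 LD2_c24 LD3_c2)) :=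
  Leop (Lpr_df (f793677 IH) (Lpn (LP (LK LD1_c24 LD2_c57 LD3_c0))))
theorem seed_1591 : LEOK LG_d (LK LD1_c24 LD2_c57 LD3_c0) :=
  Leoe_d (LK LD1_c24 LD2_c57 LD3_c0) (f793678 IH)
def v21147 : LQ := Led Lsl_et (LP (LK LD1_c7 LD2_c12 LD3_c24))
theorem f793892 : Led Lsl_et (LP (LK LD1_c7 LD2_c12 LD3_c24)) = v21147 :=
  Lrfl
theorem f793898 : Led Lsl_gf (LP (LK LD1_c7 LD2_c14 LD3_c60)) = v21147 :=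
  Lgr Lrot141 (Lpe (K29.f92542 IH) (Lpr_dt (K33.f5310 IH) (Lpr_gt (K33.f464223 IH) (Lpe (K29.f462121 IH) (Lpr_et (K33.f455388 IH) (Lpe (K28.f464215 IH) (Lpr_dt (K28.f10682 IH) (Lpr_gt (K33.f464217 IH) (Lpr_df (K33.f489724 IH) (Lpr_et (f793892 IH) (Lpn v21147)))))))))))
theorem f92595 : Led Lsl_gt (LP (LK LD1_c7 LD2_c14 LD3_c61)) = (LP (LK LD1_c13 LD2_c43 LD3_c5)) :=
  Lre_g IH (LK LD1_c7 LD2_c14 LD3_c61) (LK LD1_c13 LD2_c43 LD3_c5) Lrfl Lrfl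
theorem f526396 : Led Lsl_dt (LP (LK LD1_c13 LD2_c43 LD3_c5)) = (LP (LK LD1_c23 LD2_c9 LD3_c26)) :=
  Lre_d IH (LK LD1_c13 LD2_c43 LD3_c5) (LK LD1_c23 LD2_c9 LD3_c26) Lrfl Lrfl
theorem f526192 : Led Lsl_at (LP (LK LD1_c13 LD2_c46 LD3_c50)) = (LP (LK LD1_c7 LD2_c17 LD3_c49)) :=
  Lgr Lrot100 (Lpr_af (K45.f526188 IH) (Lpn (LP (LK LD1_c7 LD2_c17 LD3_c49))))
theorem f526358 : Led Lsl_gt (LP (LK LD1_c23 LD2_c14 LD3_c10)) = (LP (LK LD1_c13 LD2_c48 LD3_c23)) :=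
  Lgr Lrot5 (Lpr_ft (K45.f471421 IH) (Lpr_at (f526192 IH) (Lpe (K45.f471044 IH) (Lpn (LP (LK LD1_c13 LD2_c48 LD3_c23))))))
theorem f526171 : Led Lsl_af (LP (LK LD1_c23 LD2_c5 LD3_c15)) = (LP (LK LD1_c13 LD2_c43 LD3_c8)) :=
  Lgr Lrot0 (Lpr_at (K45.f526165 IH) (Lpn (LP (LK LD1_c13 LD2_c43 LD3_c8))))
theorem f526117 : Led Lsl_ft (LP (LK LD1_c7 LD2_c14 LD3_c61)) = (LP (LK LD1_c13 LD2_c43 LD3_c8)) :=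
  Lre_f IH (LK LD1_c7 LD2_c14 LD3_c61) (LK LD1_c13 LD2_c43 LD3_c8) Lrfl Lrfl
theorem f526392 : Led Lsl_gf (LP (LK LD1_c23 LD2_c5 LD3_c15)) = (LP (LK LD1_c13 LD2_c43 LD3_c5)) :=
  Lgr Lrot76 (Lpr_af (f526171 IH) (Lpe (f526117 IH) (Lpr_gt (f92595 IH) (Lpn (LP (LK LD1_c13 LD2_c43 LD3_c5))))))
theorem f92596 : Led Lsl_dt (LP (LK LD1_c23 LD2_c9 LD3_c26)) = (LP (LK LD1_c13 LD2_c43 LD3_c5)) :=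
  Lre_d IH (LK LD1_c23 LD2_c9 LD3_c26) (LK LD1_c13 LD2_c43 LD3_c5) Lrfl Lrfl
theorem f602214 : Led Lsl_gt (LP (LK LD1_c13 LD2_c47 LD3_c42)) = (LP (LK LD1_c23 LD2_c9 LD3_c26)) :=
  Lgr Lrot137 (Lpe (K47.f573687 IH) (Lpr_dt (K45.f573685 IH) (Lpe (K45.f241893 IH) (Lpe (K45.f411051 IH) (Lpr_et (K45.f588008 IH) (Lpe (f526358 IH) (Lpe (K45.f523836 IH) (Lpr_dt (K45.f442023 IH) (Lpr_gf (f526392 IH) (Lpe (f92596 IH) (Lpn (LP (LK LD1_c23 LD2_c9 LD3_c26)))))))))))))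
theorem f601322 : Led Lsl_af (LP (LK LD1_c30 LD2_c32 LD3_c3)) = (LP (LK LD1_c23 LD2_c15 LD3_c21)) :=
  Lgr Lrot0 (Lpr_at (K47.f601316 IH) (Lpn (LP (LK LD1_c23 LD2_c15 LD3_c21))))
theorem f602216 : Led Lsl_gf (LP (LK LD1_c30 LD2_c32 LD3_c3)) = (LP (LK LD1_c23 LD2_c9 LD3_c26)) :=
  Lgr Lrot76 (Lpr_af (f601322 IH) (Lpe (K47.f591037 IH) (Lpr_gt (f602214 IH) (Lpn (LP (LK LD1_c23 LD2_c9 LD3_c26))))))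
theorem f591049 : Led Lsl_df (LP (LK LD1_c29 LD2_c52 LD3_c56)) = (LP (LK LD1_c23 LD2_c15 LD3_c21)) :=
  Lgr Lrot38 (Lpr_dt (K47.f591042 IH) (Lpn (LP (LK LD1_c23 LD2_c15 LD3_c21))))
theorem f601326 : Led Lsl_df (LP (LK LD1_c30 LD2_c32 LD3_c3)) = (LP (LK LD1_c23 LD2_c7 LD3_c48)) :=
  Lgr Lrot18 (Lpr_at (K47.f601316 IH) (Lpe (f591049 IH) (Lpe (K47.f590878 IH) (Lpn (LP (LK LD1_c23 LD2_c7 LD3_c48))))))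
theorem f601334 : Led Lsl_dt (LP (LK LD1_c30 LD2_c32 LD3_c3)) = (LP (LK LD1_c23 LD2_c7 LD3_c48)) :=
  Lgr Lrot60 (Lpr_ff (K47.f601328 IH) (Lpe (K47.f92629 IH) (Lpe (K47.f590856 IH) (Lpn (LP (LK LD1_c23 LD2_c7 LD3_c48))))))
theorem f458702 : Led Lsl_dt (LP (LK LD1_c13 LD2_c14 LD3_c43)) = (LP (LK LD1_c22 LD2_c29 LD3_c37)) :=
  Lre_d IH (LK LD1_c13 LD2_c14 LD3_c43) (LK LD1_c22 LD2_c29 LD3_c37) Lrfl Lrfl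
theorem f462090 : Led Lsl_et (LP (LK LD1_c22 LD2_c29 LD3_c38)) = (LP (LK LD1_c13 LD2_c14 LD3_c43)) :=
  Lre_e IH (LK LD1_c22 LD2_c29 LD3_c38) (LK LD1_c13 LD2_c14 LD3_c43) Lrfl Lrfl
theorem f601346 : Led Lsl_dt (LP (LK LD1_c30 LD2_c32 LD3_c4)) = (LP (LK LD1_c22 LD2_c29 LD3_c38)) :=
  Lre_d IH (LK LD1_c30 LD2_c32 LD3_c4) (LK LD1_c22 LD2_c29 LD3_c38) Lrfl Lrfl
theorem f601347 : Led Lsl_ef (LP (LK LD1_c30 LD2_c32 LD3_c4)) = (LP (LK LD1_c23 LD2_c7 LD3_c48)) :=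
  Lgr Lrot73 (Lpr_dt (f601346 IH) (Lpr_et (f462090 IH) (Lpr_dt (f458702 IH) (Lpr_et (K47.f462094 IH) (Lpr_dt (f601334 IH) (Lpn (LP (LK LD1_c23 LD2_c7 LD3_c48))))))))
def v6815 : LQ := Led Lsl_et (LP (LK LD1_c3 LD2_c31 LD3_c1))
theorem f658630 : Led Lsl_et (LP (LK LD1_c3 LD2_c31 LD3_c1)) = v6815 :=
  Lrfl
theorem f658634 : Led Lsl_ef (LP (LK LD1_c3 LD2_c31 LD3_c1)) = v6815 :=
  Lgr Lrot88 (Lpr_et (f658630 IH) (Lpn v6815))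
theorem f461805 : Led Lsl_et (LP (LK LD1_c3 LD2_c36 LD3_c9)) = (LP (LK LD1_c7 LD2_c12 LD3_c41)) :=
  Lre_e IH (LK LD1_c3 LD2_c36 LD3_c9) (LK LD1_c7 LD2_c12 LD3_c41) Lrfl Lrfl
theorem f658637 : Led Lsl_ct (LP (LK LD1_c7 LD2_c12 LD3_c41)) = v6815 :=
  Lgr Lrot15 (Lpe (f461805 IH) (Lpe (K24.f461796 IH) (Lpr_ef (f658634 IH) (Lpn v6815))))
theorem f478187 : Led Lsl_gt (LP (LK LD1_c13 LD2_c39 LD3_c1)) = (LP (LK LD1_c23 LD2_c4 LD3_c10)) :=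
  Lre_g IH (LK LD1_c13 LD2_c39 LD3_c1) (LK LD1_c23 LD2_c4 LD3_c10) Lrfl Lrfl
theorem f478188 : Led Lsl_ct (LP (LK LD1_c23 LD2_c4 LD3_c10)) = (LP (LK LD1_c30 LD2_c52 LD3_c55)) :=
  Lre_c IH (LK LD1_c23 LD2_c4 LD3_c10) (LK LD1_c30 LD2_c52 LD3_c55) Lrfl Lrfl
theorem f529807 : Led Lsl_cf (LP (LK LD1_c22 LD2_c54 LD3_c12)) = (LP (LK LD1_c30 LD2_c36 LD3_c32)) :=
  Lgr Lrot166 (Lpe (K47.f529736 IH) (Lpe (K47.f17597 IH) (Lpr_gt (K47.f529801 IH) (Lpr_dt (K47.f96808 IH) (Lpr_ct (K8.f96786 IH) (Lpe (K43.f96799 IH) (Lpe (K43.f96809 IH) (Lpr_df (K43.f501775 IH) (Lpe (K47.f501778 IH) (Lpn (LP (LK LD1_c30 LD2_c36 LD3_c32))))))))))))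
theorem f488828 : Led Lsl_ct (LP (LK LD1_c30 LD2_c43 LD3_c21)) = (LP (LK LD1_c22 LD2_c47 LD3_c57)) :=
  Lre_c IH (LK LD1_c30 LD2_c43 LD3_c21) (LK LD1_c22 LD2_c47 LD3_c57) Lrfl Lrfl
theorem f578556 : Led Lsl_df (LP (LK LD1_c16 LD2_c26 LD3_c17)) = (LP (LK LD1_c23 LD2_c10 LD3_c12)) :=
  Lgr Lrot38 (Lpr_dt (K43.f578549 IH) (Lpn (LP (LK LD1_c23 LD2_c10 LD3_c12))))
theorem f72428 : Led Lsl_et (LP (LK LD1_c4 LD2_c58 LD3_c54)) = (LP (LK LD1_c9 LD2_c48 LD3_c10)) :=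
  Lre_e IH (LK LD1_c4 LD2_c58 LD3_c54) (LK LD1_c9 LD2_c48 LD3_c10) Lrfl Lrfl
theorem f578551 : Led Lsl_gf (LP (LK LD1_c16 LD2_c26 LD3_c17)) = (LP (LK LD1_c9 LD2_c48 LD3_c10)) :=
  Lgr Lrot141 (Lpr_ef (K43.f578545 IH) (Lpr_dt (K43.f461829 IH) (Lpr_gt (K41.f564313 IH) (Lpr_df (K43.f569368 IH) (Lpr_et (K43.f72431 IH) (Lpr_gt (K11.f72414 IH) (Lpr_dt (K6.f72262 IH) (Lpe (K2.f72405 IH) (Lpe (K8.f72427 IH) (Lpr_et (f72428 IH) (Lpn (LP (LK LD1_c9 LD2_c48 LD3_c10)))))))))))))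
theorem f428737 : Led Lsl_dt (LP (LK LD1_c17 LD2_c58 LD3_c24)) = (LP (LK LD1_c9 LD2_c48 LD3_c10)) :=
  Lre_d IH (LK LD1_c17 LD2_c58 LD3_c24) (LK LD1_c9 LD2_c48 LD3_c10) Lrfl Lrfl
theorem f101733 : Led Lsl_et (LP (LK LD1_c17 LD2_c58 LD3_c24)) = (LP (LK LD1_c9 LD2_c48 LD3_c11)) :=
  Lre_e IH (LK LD1_c17 LD2_c58 LD3_c24) (LK LD1_c9 LD2_c48 LD3_c11) Lrfl Lrfl
theorem f577513 : Led Lsl_ef (LP (LK LD1_c12 LD2_c9 LD3_c59)) = (LP (LK LD1_c14 LD2_c25 LD3_c33)) :=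
  Lgr Lrot29 (Lpe (K43.f577452 IH) (Lpr_et (K43.f577468 IH) (Lpe (K28.f96892 IH) (Lpn (LP (LK LD1_c14 LD2_c25 LD3_c33))))))
theorem f578560 : Led Lsl_gf (LP (LK LD1_c23 LD2_c9 LD3_c58)) = (LP (LK LD1_c13 LD2_c43 LD3_c39)) :=
  Lgr Lrot138 (Lpr_dt (K61.f481023 IH) (Lpr_gt (K29.f481019 IH) (Lpe (K43.f89806 IH) (Lpe (f577513 IH) (Lpr_gt (K42.f569345 IH) (Lpe (f101733 IH) (Lpr_dt (f428737 IH) (Lpe (f578551 IH) (Lpr_df (f578556 IH) (Lpr_et (K43.f478191 IH) (Lpn (LP (LK LD1_c13 LD2_c43 LD3_c39)))))))))))))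
theorem f477966 : Led Lsl_ct (LP (LK LD1_c23 LD2_c9 LD3_c58)) = (LP (LK LD1_c30 LD2_c55 LD3_c25)) :=
  Lre_c IH (LK LD1_c23 LD2_c9 LD3_c58) (LK LD1_c30 LD2_c55 LD3_c25) Lrfl Lrfl
theorem f478160 : Led Lsl_ct (LP (LK LD1_c7 LD2_c15 LD3_c13)) = (LP (LK LD1_c13 LD2_c43 LD3_c40)) :=
  Lre_c IH (LK LD1_c7 LD2_c15 LD3_c13) (LK LD1_c13 LD2_c43 LD3_c40) Lrfl Lrfl
theorem f10662 : Led Lsl_ct (LP (LK LD1_c7 LD2_c13 LD3_c1)) = (LP (LK LD1_c13 LD2_c39 LD3_c39)) :=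
  Lre_c IH (LK LD1_c7 LD2_c13 LD3_c1) (LK LD1_c13 LD2_c39 LD3_c39) Lrfl Lrfl
theorem f528308 : Led Lsl_ff (LP (LK LD1_c7 LD2_c14 LD3_c51)) = (LP (LK LD1_c13 LD2_c39 LD3_c39)) :=
  Lgr Lrot23 (Lpr_ct (K47.f481302 IH) (Lpr_ft (K39.f528304 IH) (Lpr_ct (f10662 IH) (Lpn (LP (LK LD1_c13 LD2_c39 LD3_c39))))))
theorem f488170 : Led Lsl_gt (LP (LK LD1_c13 LD2_c43 LD3_c40)) = (LP (LK LD1_c13 LD2_c39 LD3_c44)) :=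
  Lgr Lrot150 (Lpe (f478160 IH) (Lpe (K41.f478144 IH) (Lpe (K29.f456864 IH) (Lpr_gt (K29.f6645 IH) (Lpr_ct (K29.f477956 IH) (Lpr_gt (K33.f477607 IH) (Lpe (K29.f477625 IH) (Lpe (K53.f98453 IH) (Lpe (K47.f477628 IH) (Lpn (LP (LK LD1_c13 LD2_c39 LD3_c44))))))))))))
theorem f528514 : Led Lsl_gt (LP (LK LD1_c13 LD2_c39 LD3_c39)) = (LP (LK LD1_c13 LD2_c43 LD3_c40)) :=
  Lgr Lrot5 (Lpe (f528308 IH) (Lpr_at (K47.f528506 IH) (Lpe (f488170 IH) (Lpn (LP (LK LD1_c13 LD2_c43 LD3_c40))))))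
theorem f576712 : Led Lsl_bf (LP (LK LD1_c23 LD2_c4 LD3_c55)) = (LP (LK LD1_c22 LD2_c47 LD3_c57)) :=
  Lgr Lrot24 (Lpr_bt (K47.f576710 IH) (Lpn (LP (LK LD1_c22 LD2_c47 LD3_c57))))
theorem f488823 : Led Lsl_ct (LP (LK LD1_c22 LD2_c47 LD3_c57)) = (LP (LK LD1_c30 LD2_c43 LD3_c21)) :=
  Lre_c IH (LK LD1_c22 LD2_c47 LD3_c57) (LK LD1_c30 LD2_c43 LD3_c21) Lrfl Lrfl
theorem f578562 : Led Lsl_gt (LP (LK LD1_c30 LD2_c55 LD3_c25)) = (LP (LK LD1_c30 LD2_c43 LD3_c21)) :=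
  Lgr Lrot149 (Lpe (f477966 IH) (Lpr_gf (f578560 IH) (Lpe (K41.f478156 IH) (Lpr_ct (f478160 IH) (Lpe (f528514 IH) (Lpe (f10662 IH) (Lpr_bt (K39.f514323 IH) (Lpe (K47.f456637 IH) (Lpr_bf (f576712 IH) (Lpr_ct (f488823 IH) (Lpn (LP (LK LD1_c30 LD2_c43 LD3_c21)))))))))))))
theorem f611427 : Led Lsl_gf (LP (LK LD1_c30 LD2_c36 LD3_c32)) = (LP (LK LD1_c30 LD2_c52 LD3_c55)) :=
  Lgr Lrot104 (Lpe (f529807 IH) (Lpr_df (K47.f611421 IH) (Lpe (f488828 IH) (Lpe (f578562 IH) (Lpe (f477966 IH) (Lpr_gf (f578560 IH) (Lpr_df (K41.f478175 IH) (Lpr_gt (f478187 IH) (Lpr_ct (f478188 IH) (Lpn (LP (LK LD1_c30 LD2_c52 LD3_c55))))))))))))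
theorem f658639 : Led Lsl_gt (LP (LK LD1_c3 LD2_c41 LD3_c46)) = v6815 :=
  Lgr Lrot65 (Lpr_cf (K29.f456478 IH) (Lpr_bt (K43.f92579 IH) (Lpe (K47.f92638 IH) (Lpe (K47.f611417 IH) (Lpr_ct (K47.f529805 IH) (Lpr_gf (f611427 IH) (Lpe (f478188 IH) (Lpe (f478187 IH) (Lpe (K41.f478174 IH) (Lpr_ct (f658637 IH) (Lpn v6815)))))))))))
theorem f658633 : Led Lsl_cf (LP (LK LD1_c7 LD2_c12 LD3_c41)) = v6815 :=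
  Lgr Lrot39 (Lpr_et (K41.f108492 IH) (Lpe (K37.f461803 IH) (Lpr_et (f658630 IH) (Lpn v6815))))
theorem f478164 : Led Lsl_ct (LP (LK LD1_c13 LD2_c43 LD3_c40)) = (LP (LK LD1_c7 LD2_c15 LD3_c13)) :=
  Lre_c IH (LK LD1_c13 LD2_c43 LD3_c40) (LK LD1_c7 LD2_c15 LD3_c13) Lrfl Lrfl
theorem f456624 : Led Lsl_gt (LP (LK LD1_c13 LD2_c39 LD3_c38)) = (LP (LK LD1_c7 LD2_c13 LD3_c1)) :=
  Lre_g IH (LK LD1_c13 LD2_c39 LD3_c38) (LK LD1_c7 LD2_c13 LD3_c1) Lrfl Lrfl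
theorem f793900 : Led Lsl_dt (LP (LK LD1_c13 LD2_c39 LD3_c38)) = v21147 :=
  Lgr Lrot6 (Lpr_gt (f456624 IH) (Lpr_ct (f10662 IH) (Lpr_gt (f528514 IH) (Lpr_ct (f478164 IH) (Lpr_df (K41.f478149 IH) (Lpr_cf (f658633 IH) (Lpe (f658639 IH) (Lpr_cf (K29.f456478 IH) (Lpr_gf (f793898 IH) (Lpn v21147))))))))))
theorem f793902 : Led Lsl_et (LP (LK LD1_c13 LD2_c39 LD3_c38)) = (LP (LK LD1_c23 LD2_c4 LD3_c58)) :=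
  Lre_e IH (LK LD1_c13 LD2_c39 LD3_c38) (LK LD1_c23 LD2_c4 LD3_c58) Lrfl Lrfl
theorem f793903 : Led Lsl_gt (LP (LK LD1_c30 LD2_c32 LD3_c4)) = (LP (LK LD1_c23 LD2_c4 LD3_c58)) :=
  Lgr Lrot131 (Lpr_ef (f601347 IH) (Lpe (f601326 IH) (Lpr_gf (f602216 IH) (Lpe (f526396 IH) (Lpe (f92595 IH) (Lpe (K35.f92582 IH) (Lpr_dt (K29.f10558 IH) (Lpr_gf (f793898 IH) (Lpe (f793900 IH) (Lpr_et (f793902 IH) (Lpn (LP (LK LD1_c23 LD2_c4 LD3_c58)))))))))))))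
theorem f793904 : Led Lsl_gt (LP (LK LD1_c30 LD2_c32 LD3_c4)) = (LP (LK LD1_c23 LD2_c4 LD3_c58)) :=
  Leop (Lpe (f793903 IH) (Lpn (LP (LK LD1_c30 LD2_c32 LD3_c4))))
theorem seed_1592 : LEOK LG_g (LK LD1_c30 LD2_c32 LD3_c4) :=
  Leoe_g (LK LD1_c30 LD2_c32 LD3_c4) (f793904 IH)
def v21162 : LQ := Led Lsl_et (LP (LK LD1_c7 LD2_c12 LD3_c46))
theorem f794056 : Led Lsl_et (LP (LK LD1_c7 LD2_c12 LD3_c46)) = v21162 :=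
  Lrfl
theorem f794059 : Led Lsl_ef (LP (LK LD1_c7 LD2_c12 LD3_c46)) = v21162 :=
  Lgr Lrot88 (Lpr_et (f794056 IH) (Lpn v21162))
theorem f794061 : Led Lsl_bt K47.v7009 = v21162 :=
  Lgr Lrot119 (Lpe (K47.f660171 IH) (Lpe (K33.f489979 IH) (Lpr_ef (f794059 IH) (Lpn v21162))))
theorem f528471 : Led Lsl_bt (LP (LK LD1_c13 LD2_c42 LD3_c23)) = (LP (LK LD1_c7 LD2_c14 LD3_c42)) :=
  Lre_b IH (LK LD1_c13 LD2_c42 LD3_c23) (LK LD1_c7 LD2_c14 LD3_c42) Lrfl Lrfl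
theorem f794063 : Led Lsl_df (LP (LK LD1_c13 LD2_c42 LD3_c23)) = v21162 :=
  Lgr Lrot12 (Lpr_bt (f528471 IH) (Lpr_dt (K47.f660178 IH) (Lpr_bt (f794061 IH) (Lpn v21162))))
theorem f468852 : Led Lsl_et (LP (LK LD1_c7 LD2_c6 LD3_c17)) = (LP (LK LD1_c13 LD2_c27 LD3_c48)) :=
  Lre_e IH (LK LD1_c7 LD2_c6 LD3_c17) (LK LD1_c13 LD2_c27 LD3_c48) Lrfl Lrfl
theorem f794060 : Led Lsl_at (LP (LK LD1_c13 LD2_c27 LD3_c48)) = v21162 :=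
  Lgr Lrot80 (Lpe (f468852 IH) (Lpr_af (K41.f510988 IH) (Lpr_ef (f794059 IH) (Lpn v21162))))
theorem f468848 : Led Lsl_dt (LP (LK LD1_c13 LD2_c31 LD3_c45)) = (LP (LK LD1_c13 LD2_c27 LD3_c48)) :=
  Lre_d IH (LK LD1_c13 LD2_c31 LD3_c45) (LK LD1_c13 LD2_c27 LD3_c48) Lrfl Lrfl
theorem f794064 : Led Lsl_at (LP (LK LD1_c13 LD2_c42 LD3_c23)) = (LP (LK LD1_c13 LD2_c31 LD3_c45)) :=
  Lgr Lrot51 (Lpr_df (f794063 IH) (Lpe (f794060 IH) (Lpe (f468848 IH) (Lpn (LP (LK LD1_c13 LD2_c31 LD3_c45))))))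
theorem f794065 : Led Lsl_at (LP (LK LD1_c13 LD2_c42 LD3_c23)) = (LP (LK LD1_c13 LD2_c31 LD3_c45)) :=
  Leop (Lpe (f794064 IH) (Lpn (LP (LK LD1_c13 LD2_c42 LD3_c23))))
theorem seed_1593 : LEOK LG_a (LK LD1_c13 LD2_c42 LD3_c23) :=
  Leoe_a (LK LD1_c13 LD2_c42 LD3_c23) (f794065 IH)
theorem f426673 : Led Lsl_af (LP (LK LD1_c3 LD2_c39 LD3_c17)) = (LP (LK LD1_c3 LD2_c38 LD3_c12)) :=
  Lgr Lrot0 (Lpr_at (K28.f426671 IH) (Lpn (LP (LK LD1_c3 LD2_c38 LD3_c12))))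
theorem f570675 : Led Lsl_af (LP (LK LD1_c7 LD2_c8 LD3_c15)) = (LP (LK LD1_c7 LD2_c6 LD3_c24)) :=
  Lgr Lrot0 (Lpr_at (K42.f570673 IH) (Lpn (LP (LK LD1_c7 LD2_c6 LD3_c24))))
theorem f571630 : Led Lsl_dt (LP (LK LD1_c3 LD2_c39 LD3_c17)) = (LP (LK LD1_c7 LD2_c6 LD3_c24)) :=
  Lgr Lrot44 (Lpr_af (f426673 IH) (Lpr_df (K42.f571628 IH) (Lpr_af (f570675 IH) (Lpn (LP (LK LD1_c7 LD2_c6 LD3_c24))))))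
theorem f6616 : Led Lsl_dt (LP (LK LD1_c7 LD2_c6 LD3_c26)) = (LP (LK LD1_c13 LD2_c28 LD3_c1)) :=
  Lre_d IH (LK LD1_c7 LD2_c6 LD3_c26) (LK LD1_c13 LD2_c28 LD3_c1) Lrfl Lrfl
theorem f794067 : Led Lsl_gf (LP (LK LD1_c13 LD2_c42 LD3_c23)) = (LP (LK LD1_c13 LD2_c28 LD3_c1)) :=
  Lgr Lrot134 (Lpr_df (f794063 IH) (Lpe (f794059 IH) (Lpe (K43.f575157 IH) (Lpe (K43.f426668 IH) (Lpr_dt (f571630 IH) (Lpe (K42.f98422 IH) (Lpe (K42.f6411 IH) (Lpr_et (K29.f6388 IH) (Lpr_gt (K33.f6609 IH) (Lpr_dt (f6616 IH) (Lpn (LP (LK LD1_c13 LD2_c28 LD3_c1)))))))))))))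
theorem f794068 : Led Lsl_gt (LP (LK LD1_c13 LD2_c28 LD3_c1)) = (LP (LK LD1_c13 LD2_c42 LD3_c23)) :=
  Leop (Lpr_gf (f794067 IH) (Lpn (LP (LK LD1_c13 LD2_c28 LD3_c1))))
theorem seed_1594 : LEOK LG_g (LK LD1_c13 LD2_c28 LD3_c1) :=
  Leoe_g (LK LD1_c13 LD2_c28 LD3_c1) (f794068 IH)
def v21163 : LQ := Led Lsl_gf (LP (LK LD1_c7 LD2_c12 LD3_c48))
theorem f794096 : Led Lsl_gf (LP (LK LD1_c7 LD2_c12 LD3_c48)) = v21163 :=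
  Lrfl
def v21110 : LQ := Led Lsl_at (LP (LK LD1_c7 LD2_c11 LD3_c36))
theorem f792245 : Led Lsl_at (LP (LK LD1_c7 LD2_c11 LD3_c36)) = v21110 :=
  Lrfl
theorem f792246 : Led Lsl_af (LP (LK LD1_c7 LD2_c11 LD3_c36)) = v21110 :=
  Lgr Lrot0 (Lpr_at (f792245 IH) (Lpn v21110))
theorem f794097 : Led Lsl_ff v21110 = v21163 :=
  Lgr Lrot52 (Lpe (f792246 IH) (Lpr_gf (K47.f107807 IH) (Lpr_gf (f794096 IH) (Lpn v21163))))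
theorem f794099 : Led Lsl_ft v21110 = v21163 :=
  Lgr Lrot48 (Lpr_ff (f794097 IH) (Lpn v21163))
theorem f107820 : Led Lsl_bt (LP (LK LD1_c7 LD2_c11 LD3_c36)) = (LP (LK LD1_c3 LD2_c35 LD3_c18)) :=
  Lre_b IH (LK LD1_c7 LD2_c11 LD3_c36) (LK LD1_c3 LD2_c35 LD3_c18) Lrfl Lrfl
def v9054 : LQ := Led Lsl_ct K61.v2404
theorem f673365 : Led Lsl_ct K61.v2404 = v9054 :=
  Lrfl
theorem f659715 : Led Lsl_ct K47.v2400 = K47.v6969 :=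
  Lgr Lrot59 (Lpr_cf (K47.f659714 IH) (Lpn K47.v6969))
theorem f792115 : v9054 = K47.v6969 :=
  Lefun (Lecon (f673365 IH) ((K61.f787444 IH).symm.trans (K61.f792113 IH).symm)) (f659715 IH)
def v20842 : LQ := Led Lsl_gt (LP (LK LD1_c7 LD2_c5 LD3_c60))
theorem f790368 : Led Lsl_gt (LP (LK LD1_c7 LD2_c5 LD3_c60)) = v20842 :=
  Lrfl
theorem f107869 : Led Lsl_bt (LP (LK LD1_c3 LD2_c32 LD3_c31)) = (LP (LK LD1_c7 LD2_c5 LD3_c60)) :=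
  Lre_b IH (LK LD1_c3 LD2_c32 LD3_c31) (LK LD1_c7 LD2_c5 LD3_c60) Lrfl Lrfl
theorem f10947 : Led Lsl_ct (LP (LK LD1_c3 LD2_c34 LD3_c47)) = (LP (LK LD1_c1 LD2_c44 LD3_c29)) :=
  Lre_c IH (LK LD1_c3 LD2_c34 LD3_c47) (LK LD1_c1 LD2_c44 LD3_c29) Lrfl Lrfl
theorem f673366 : Led Lsl_cf K61.v2404 = v9054 :=
  Lgr Lrot11 (Lpr_ct (f673365 IH) (Lpn v9054))
theorem f790369 : Led Lsl_bt v9054 = v20842 :=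
  Lgr Lrot92 (Lpe (f673366 IH) (Lpq (K61.f787444 IH) (Lpe (K61.f519527 IH) (Lpe (f10947 IH) (Lpr_bt (K61.f10986 IH) (Lpr_gt (K3.f10987 IH) (Lpe (K4.f86720 IH) (Lpe (K3.f105769 IH) (Lpe (K47.f107873 IH) (Lpr_bt (f107869 IH) (Lpr_gt (f790368 IH) (Lpn v20842))))))))))))
theorem f792117 : Led Lsl_ff (LP (LK LD1_c7 LD2_c11 LD3_c36)) = v20842 :=
  Lgr Lrot25 (Lpr_bt (f107820 IH) (Lpr_ft (K47.f659716 IH) (Lpq (f792115 IH) (Lpr_bt (f790369 IH) (Lpn v20842)))))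
theorem f794100 : Led Lsl_af v20842 = v21163 :=
  Lgr Lrot45 (Lpe (f792117 IH) (Lpr_at (f792245 IH) (Lpr_ft (f794099 IH) (Lpn v21163))))
theorem f107891 : Led Lsl_gt (LP (LK LD1_c13 LD2_c27 LD3_c22)) = (LP (LK LD1_c7 LD2_c5 LD3_c60)) :=
  Lre_g IH (LK LD1_c13 LD2_c27 LD3_c22) (LK LD1_c7 LD2_c5 LD3_c60) Lrfl Lrfl
theorem f794101 : v21110 = (LP (LK LD1_c13 LD2_c27 LD3_c22)) :=
  (Llr Lrot52 (Lpr_ft (f794099 IH) (Lpe (f794100 IH) (Lpe (f790368 IH) (Lpe (f107891 IH) (Lpn (LP (LK LD1_c13 LD2_c27 LD3_c22)))))))).symm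
theorem f794102 : Led Lsl_at (LP (LK LD1_c13 LD2_c27 LD3_c22)) = (LP (LK LD1_c7 LD2_c11 LD3_c36)) :=
  Leop (Lpr_af (f792246 IH) (Lpqs (f794101 IH) (Lpn (LP (LK LD1_c13 LD2_c27 LD3_c22)))))
theorem seed_1595 : LEOK LG_a (LK LD1_c13 LD2_c27 LD3_c22) :=
  Leoe_a (LK LD1_c13 LD2_c27 LD3_c22) (f794102 IH)
def v21179 : LQ := Led Lsl_et (LP (LK LD1_c7 LD2_c12 LD3_c58))
theorem f794180 : Led Lsl_et (LP (LK LD1_c7 LD2_c12 LD3_c58)) = v21179 :=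
  Lrfl
theorem f794182 : Led Lsl_ef (LP (LK LD1_c7 LD2_c12 LD3_c58)) = v21179 :=
  Lgr Lrot88 (Lpr_et (f794180 IH) (Lpn v21179))
theorem f6567 : Led Lsl_et (LP (LK LD1_c1 LD2_c44 LD3_c61)) = (LP (LK LD1_c3 LD2_c36 LD3_c18)) :=
  Lre_e IH (LK LD1_c1 LD2_c44 LD3_c61) (LK LD1_c3 LD2_c36 LD3_c18) Lrfl Lrfl
theorem f5294 : Led Lsl_dt (LP (LK LD1_c3 LD2_c38 LD3_c14)) = (LP (LK LD1_c7 LD2_c16 LD3_c50)) :=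
  Lre_d IH (LK LD1_c3 LD2_c38 LD3_c14) (LK LD1_c7 LD2_c16 LD3_c50) Lrfl Lrfl
theorem f5301 : Led Lsl_gt (LP (LK LD1_c13 LD2_c46 LD3_c39)) = (LP (LK LD1_c7 LD2_c16 LD3_c50)) :=
  Lre_g IH (LK LD1_c13 LD2_c46 LD3_c39) (LK LD1_c7 LD2_c16 LD3_c50) Lrfl Lrfl
theorem f794184 : Led Lsl_df (LP (LK LD1_c13 LD2_c46 LD3_c39)) = v21179 :=
  Lgr Lrot170 (Lpr_gt (f5301 IH) (Lpe (f5294 IH) (Lpr_et (K33.f5057 IH) (Lpr_gt (K3.f5062 IH) (Lpe (K42.f570665 IH) (Lpr_gt (K42.f98372 IH) (Lpe (K36.f98195 IH) (Lpr_et (f6567 IH) (Lpr_gt (K29.f6368 IH) (Lpr_ef (f794182 IH) (Lpn v21179)))))))))))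
theorem f745286 : Led Lsl_af (LP (LK LD1_c7 LD2_c6 LD3_c26)) = (LP (LK LD1_c7 LD2_c12 LD3_c58)) :=
  Lgr Lrot68 (Lpr_ct (K40.f6615 IH) (Lpr_at (K55.f745282 IH) (Lpr_ct (K60.f6376 IH) (Lpn (LP (LK LD1_c7 LD2_c12 LD3_c58))))))
def v20862 : LQ := Led Lsl_et (LP (LK LD1_c7 LD2_c6 LD3_c26))
theorem f790464 : Led Lsl_et (LP (LK LD1_c7 LD2_c6 LD3_c26)) = v20862 :=
  Lrfl
theorem f794183 : Led Lsl_at v20862 = v21179 :=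
  Lgr Lrot80 (Lpe (f790464 IH) (Lpr_af (f745286 IH) (Lpr_ef (f794182 IH) (Lpn v21179))))
theorem f790465 : Led Lsl_ef (LP (LK LD1_c7 LD2_c6 LD3_c26)) = v20862 :=
  Lgr Lrot88 (Lpr_et (f790464 IH) (Lpn v20862))
theorem f6359 : Led Lsl_dt (LP (LK LD1_c7 LD2_c12 LD3_c61)) = (LP (LK LD1_c13 LD2_c39 LD3_c36)) :=
  Lre_d IH (LK LD1_c7 LD2_c12 LD3_c61) (LK LD1_c13 LD2_c39 LD3_c36) Lrfl Lrfl
theorem f5067 : Led Lsl_et (LP (LK LD1_c1 LD2_c46 LD3_c5)) = (LP (LK LD1_c3 LD2_c38 LD3_c14)) :=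
  Lre_e IH (LK LD1_c1 LD2_c46 LD3_c5) (LK LD1_c3 LD2_c38 LD3_c14) Lrfl Lrfl
theorem f612236 : Led Lsl_et (LP (LK LD1_c13 LD2_c46 LD3_c33)) = (LP (LK LD1_c7 LD2_c16 LD3_c48)) :=
  Lre_e IH (LK LD1_c13 LD2_c46 LD3_c33) (LK LD1_c7 LD2_c16 LD3_c48) Lrfl Lrfl
theorem f6434 : Led Lsl_dt (LP (LK LD1_c3 LD2_c32 LD3_c47)) = (LP (LK LD1_c7 LD2_c6 LD3_c28)) :=
  Lre_d IH (LK LD1_c3 LD2_c32 LD3_c47) (LK LD1_c7 LD2_c6 LD3_c28) Lrfl Lrfl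
theorem f612237 : Led Lsl_dt (LP (LK LD1_c13 LD2_c46 LD3_c33)) = (LP (LK LD1_c13 LD2_c28 LD3_c7)) :=
  Lgr Lrot136 (Lpr_et (f612236 IH) (Lpe (K48.f4392 IH) (Lpe (f5067 IH) (Lpr_dt (K0.f5063 IH) (Lpr_gf (K45.f574908 IH) (Lpe (K43.f10301 IH) (Lpe (K36.f10237 IH) (Lpe (K29.f6568 IH) (Lpr_dt (f6434 IH) (Lpe (K33.f6472 IH) (Lpn (LP (LK LD1_c13 LD2_c28 LD3_c7)))))))))))))
theorem f5069 : Led Lsl_et (LP (LK LD1_c3 LD2_c39 LD3_c18)) = (LP (LK LD1_c1 LD2_c46 LD3_c36)) :=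
  Lre_e IH (LK LD1_c3 LD2_c39 LD3_c18) (LK LD1_c1 LD2_c46 LD3_c36) Lrfl Lrfl
theorem f661222 : Led Lsl_et (LP (LK LD1_c7 LD2_c16 LD3_c51)) = K47.v7113 :=
  Lgr Lrot69 (Lpe (K48.f5068 IH) (Lpe (f5067 IH) (Lpr_ff (K0.f5060 IH) (Lpe (f5069 IH) (Lpr_ff (K48.f661183 IH) (Lpn K47.v7113))))))
theorem f5287 : Led Lsl_dt (LP (LK LD1_c7 LD2_c16 LD3_c51)) = (LP (LK LD1_c13 LD2_c46 LD3_c41)) :=
  Lre_d IH (LK LD1_c7 LD2_c16 LD3_c51) (LK LD1_c13 LD2_c46 LD3_c41) Lrfl Lrfl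
theorem f4160 : Led Lsl_bt (LP (LK LD1_c3 LD2_c38 LD3_c18)) = (LP (LK LD1_c7 LD2_c16 LD3_c50)) :=
  Lre_b IH (LK LD1_c3 LD2_c38 LD3_c18) (LK LD1_c7 LD2_c16 LD3_c50) Lrfl Lrfl
theorem f5096 : Led Lsl_bt (LP (LK LD1_c7 LD2_c18 LD3_c52)) = (LP (LK LD1_c3 LD2_c39 LD3_c19)) :=
  Lre_b IH (LK LD1_c7 LD2_c18 LD3_c52) (LK LD1_c3 LD2_c39 LD3_c19) Lrfl Lrfl
theorem f5500 : Led Lsl_at (LP (LK LD1_c7 LD2_c16 LD3_c50)) = (LP (LK LD1_c7 LD2_c18 LD3_c52)) :=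
  Lgr Lrot67 (Lpe (f4160 IH) (Lpe (K34.f4062 IH) (Lpr_bf (K24.f5491 IH) (Lpe (K0.f5110 IH) (Lpe (f5096 IH) (Lpn (LP (LK LD1_c7 LD2_c18 LD3_c52))))))))
theorem f5288 : Led Lsl_ft (LP (LK LD1_c13 LD2_c46 LD3_c41)) = (LP (LK LD1_c7 LD2_c16 LD3_c50)) :=
  Lre_f IH (LK LD1_c13 LD2_c46 LD3_c41) (LK LD1_c7 LD2_c16 LD3_c50) Lrfl Lrfl
theorem f5102 : Led Lsl_gt (LP (LK LD1_c13 LD2_c50 LD3_c17)) = (LP (LK LD1_c7 LD2_c18 LD3_c52)) :=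
  Lre_g IH (LK LD1_c13 LD2_c50 LD3_c17) (LK LD1_c7 LD2_c18 LD3_c52) Lrfl Lrfl
theorem f5599 : Led Lsl_gt (LP (LK LD1_c13 LD2_c46 LD3_c41)) = (LP (LK LD1_c13 LD2_c50 LD3_c17)) :=
  Lgr Lrot5 (Lpr_ft (f5288 IH) (Lpr_at (f5500 IH) (Lpe (f5102 IH) (Lpn (LP (LK LD1_c13 LD2_c50 LD3_c17))))))
theorem f790466 : Led Lsl_df (LP (LK LD1_c13 LD2_c50 LD3_c17)) = v20862 :=
  Lgr Lrot168 (Lpe (f5599 IH) (Lpe (f5287 IH) (Lpr_et (f661222 IH) (Lpe (K48.f661240 IH) (Lpe (f612236 IH) (Lpr_dt (f612237 IH) (Lpe (K33.f6473 IH) (Lpe (f6359 IH) (Lpr_gf (K33.f6610 IH) (Lpr_ef (f790465 IH) (Lpn v20862)))))))))))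
theorem f790468 : Led Lsl_dt (LP (LK LD1_c13 LD2_c50 LD3_c17)) = v20862 :=
  Lgr Lrot42 (Lpr_df (f790466 IH) (Lpn v20862))
theorem f794185 : Led Lsl_at (LP (LK LD1_c13 LD2_c46 LD3_c39)) = (LP (LK LD1_c13 LD2_c50 LD3_c17)) :=
  Lgr Lrot51 (Lpr_df (f794184 IH) (Lpe (f794183 IH) (Lpe (f790468 IH) (Lpn (LP (LK LD1_c13 LD2_c50 LD3_c17))))))
theorem f794186 : Led Lsl_at (LP (LK LD1_c13 LD2_c46 LD3_c39)) = (LP (LK LD1_c13 LD2_c50 LD3_c17)) :=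
  Leop (Lpe (f794185 IH) (Lpn (LP (LK LD1_c13 LD2_c46 LD3_c39))))
theorem seed_1596 : LEOK LG_a (LK LD1_c13 LD2_c46 LD3_c39) :=
  Leoe_a (LK LD1_c13 LD2_c46 LD3_c39) (f794186 IH)
def v21180 : LQ := Led Lsl_et (LP (LK LD1_c7 LD2_c13 LD3_c0))
theorem f794193 : Led Lsl_et (LP (LK LD1_c7 LD2_c13 LD3_c0)) = v21180 :=
  Lrfl
theorem f794197 : Led Lsl_ef (LP (LK LD1_c7 LD2_c13 LD3_c0)) = v21180 :=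
  Lgr Lrot88 (Lpr_et (f794193 IH) (Lpn v21180))
theorem f522562 : Led Lsl_ft (LP (LK LD1_c3 LD2_c39 LD3_c27)) = K39.v2475 :=
  Lgr Lrot4 (Lpe (K28.f147207 IH) (Lpr_ff (K32.f497894 IH) (Lpr_cf (K39.f522560 IH) (Lpn K39.v2475))))
theorem f609892 : Led Lsl_et (LP (LK LD1_c7 LD2_c19 LD3_c27)) = (LP (LK LD1_c7 LD2_c17 LD3_c43)) :=
  Lgr Lrot69 (Lpe (K47.f609409 IH) (Lpe (K39.f242763 IH) (Lpq (K39.f540335 IH) (Lpe (f522562 IH) (Lpe (K43.f147254 IH) (Lpr_ff (K50.f609770 IH) (Lpn (LP (LK LD1_c7 LD2_c17 LD3_c43)))))))))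
theorem f456636 : Led Lsl_dt (LP (LK LD1_c13 LD2_c39 LD3_c37)) = (LP (LK LD1_c7 LD2_c13 LD3_c0)) :=
  Lre_d IH (LK LD1_c13 LD2_c39 LD3_c37) (LK LD1_c7 LD2_c13 LD3_c0) Lrfl Lrfl
theorem f660261 : Led Lsl_ft (LP (LK LD1_c13 LD2_c51 LD3_c40)) = (LP (LK LD1_c7 LD2_c19 LD3_c38)) :=
  Lre_f IH (LK LD1_c13 LD2_c51 LD3_c40) (LK LD1_c7 LD2_c19 LD3_c38) Lrfl Lrfl
theorem f660262 : Led Lsl_df (LP (LK LD1_c13 LD2_c51 LD3_c40)) = (LP (LK LD1_c23 LD2_c5 LD3_c0)) :=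
  Lgr Lrot78 (Lpr_ft (f660261 IH) (Lpr_dt (K47.f660251 IH) (Lpr_ft (K47.f528311 IH) (Lpn (LP (LK LD1_c23 LD2_c5 LD3_c0))))))
theorem f660273 : Led Lsl_dt (LP (LK LD1_c13 LD2_c51 LD3_c40)) = (LP (LK LD1_c23 LD2_c5 LD3_c0)) :=
  Lgr Lrot42 (Lpr_df (f660262 IH) (Lpn (LP (LK LD1_c23 LD2_c5 LD3_c0))))
theorem f660275 : Led Lsl_bf (LP (LK LD1_c13 LD2_c51 LD3_c40)) = (LP (LK LD1_c21 LD2_c28 LD3_c38)) :=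
  Lgr Lrot93 (Lpr_dt (f660273 IH) (Lpe (K55.f617296 IH) (Lpr_dt (K50.f443810 IH) (Lpn (LP (LK LD1_c21 LD2_c28 LD3_c38))))))
theorem f660277 : Led Lsl_bt (LP (LK LD1_c7 LD2_c19 LD3_c38)) = (LP (LK LD1_c13 LD2_c51 LD3_c35)) :=
  Lre_b IH (LK LD1_c7 LD2_c19 LD3_c38) (LK LD1_c13 LD2_c51 LD3_c35) Lrfl Lrfl
theorem f660278 : Led Lsl_ft (LP (LK LD1_c13 LD2_c51 LD3_c35)) = (LP (LK LD1_c21 LD2_c28 LD3_c38)) :=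
  Lgr Lrot75 (Lpe (f660277 IH) (Lpe (f660261 IH) (Lpr_bf (f660275 IH) (Lpn (LP (LK LD1_c21 LD2_c28 LD3_c38))))))
theorem f660285 : Led Lsl_ff (LP (LK LD1_c13 LD2_c51 LD3_c35)) = (LP (LK LD1_c21 LD2_c28 LD3_c38)) :=
  Lgr Lrot3 (Lpr_ft (f660278 IH) (Lpn (LP (LK LD1_c21 LD2_c28 LD3_c38))))
theorem f528281 : Led Lsl_ff (LP (LK LD1_c13 LD2_c39 LD3_c37)) = (LP (LK LD1_c7 LD2_c14 LD3_c49)) :=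
  Lgr Lrot19 (Lpr_dt (f456636 IH) (Lpr_ft (K35.f528279 IH) (Lpr_dt (K47.f6038 IH) (Lpn (LP (LK LD1_c7 LD2_c14 LD3_c49))))))
theorem f488811 : Led Lsl_et (LP (LK LD1_c13 LD2_c39 LD3_c37)) = (LP (LK LD1_c23 LD2_c4 LD3_c57)) :=
  Lre_e IH (LK LD1_c13 LD2_c39 LD3_c37) (LK LD1_c23 LD2_c4 LD3_c57) Lrfl Lrfl
theorem f617284 : Led Lsl_ff (LP (LK LD1_c16 LD2_c33 LD3_c48)) = (LP (LK LD1_c23 LD2_c4 LD3_c57)) :=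
  Lgr Lrot72 (Lpr_et (K50.f16535 IH) (Lpr_ft (K55.f617276 IH) (Lpe (K40.f561046 IH) (Lpe (f528281 IH) (Lpr_et (f488811 IH) (Lpn (LP (LK LD1_c23 LD2_c4 LD3_c57))))))))
theorem f660304 : Led Lsl_dt (LP (LK LD1_c13 LD2_c51 LD3_c35)) = (LP (LK LD1_c23 LD2_c4 LD3_c57)) :=
  Lgr Lrot60 (Lpr_ff (f660285 IH) (Lpe (K50.f443810 IH) (Lpr_ff (f617284 IH) (Lpn (LP (LK LD1_c23 LD2_c4 LD3_c57))))))
theorem f660284 : Led Lsl_et (LP (LK LD1_c7 LD2_c19 LD3_c36)) = (LP (LK LD1_c13 LD2_c51 LD3_c35)) :=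
  Lre_e IH (LK LD1_c7 LD2_c19 LD3_c36) (LK LD1_c13 LD2_c51 LD3_c35) Lrfl Lrfl
theorem f794196 : Led Lsl_df (LP (LK LD1_c7 LD2_c19 LD3_c36)) = v21180 :=
  Lgr Lrot70 (Lpr_et (f660284 IH) (Lpr_dt (f660304 IH) (Lpr_et (K55.f528423 IH) (Lpr_dt (f456636 IH) (Lpr_et (f794193 IH) (Lpn v21180))))))
theorem f794201 : Led Lsl_gt (LP (LK LD1_c13 LD2_c51 LD3_c11)) = (LP (LK LD1_c7 LD2_c19 LD3_c36)) :=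
  Lgr Lrot112 (Lpe (K47.f609389 IH) (Lpr_et (f609892 IH) (Lpe (K50.f609918 IH) (Lpe (K47.f424510 IH) (Lpe (K47.f608953 IH) (Lpr_gf (K47.f609667 IH) (Lpe (K50.f449954 IH) (Lpr_gf (K40.f543106 IH) (Lpr_ef (f794197 IH) (Lpe (f794196 IH) (Lpn (LP (LK LD1_c7 LD2_c19 LD3_c36)))))))))))))
theorem f794202 : Led Lsl_gt (LP (LK LD1_c13 LD2_c51 LD3_c11)) = (LP (LK LD1_c7 LD2_c19 LD3_c36)) :=
  Leop (Lpe (f794201 IH) (Lpn (LP (LK LD1_c13 LD2_c51 LD3_c11))))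
theorem seed_1597 : LEOK LG_g (LK LD1_c13 LD2_c51 LD3_c11) :=
  Leoe_g (LK LD1_c13 LD2_c51 LD3_c11) (f794202 IH)
theorem f240253 : Led Lsl_et (LP (LK LD1_c10 LD2_c7 LD3_c34)) = (LP (LK LD1_c18 LD2_c26 LD3_c44)) :=
  Lre_e IH (LK LD1_c10 LD2_c7 LD3_c34) (LK LD1_c18 LD2_c26 LD3_c44) Lrfl Lrfl
theorem f607019 : Led Lsl_cf (LP (LK LD1_c13 LD2_c38 LD3_c10)) = (LP (LK LD1_c18 LD2_c26 LD3_c44)) :=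
  Lgr Lrot39 (Lpr_et (K47.f607007 IH) (Lpr_ct (K13.f242337 IH) (Lpr_et (f240253 IH) (Lpn (LP (LK LD1_c18 LD2_c26 LD3_c44))))))
theorem f5639 : Led Lsl_ct (LP (LK LD1_c7 LD2_c19 LD3_c36)) = (LP (LK LD1_c13 LD2_c51 LD3_c34)) :=
  Lre_c IH (LK LD1_c7 LD2_c19 LD3_c36) (LK LD1_c13 LD2_c51 LD3_c34) Lrfl Lrfl
theorem f794212 : Led Lsl_gf (LP (LK LD1_c18 LD2_c26 LD3_c44)) = (LP (LK LD1_c13 LD2_c51 LD3_c34)) :=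
  Lgr Lrot104 (Lpe (f607019 IH) (Lpe (K47.f116232 IH) (Lpr_cf (K46.f116224 IH) (Lpr_gf (K48.f661363 IH) (Lpe (K48.f661354 IH) (Lpe (K47.f479747 IH) (Lpe (K47.f609377 IH) (Lpr_gt (f794201 IH) (Lpr_ct (f5639 IH) (Lpn (LP (LK LD1_c13 LD2_c51 LD3_c34))))))))))))
theorem f794213 : Led Lsl_gt (LP (LK LD1_c13 LD2_c51 LD3_c34)) = (LP (LK LD1_c18 LD2_c26 LD3_c44)) :=
  Leop (Lpr_gf (f794212 IH) (Lpn (LP (LK LD1_c13 LD2_c51 LD3_c34))))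
theorem seed_1598 : LEOK LG_g (LK LD1_c13 LD2_c51 LD3_c34) :=
  Leoe_g (LK LD1_c13 LD2_c51 LD3_c34) (f794213 IH)
def v21208 : LQ := Led Lsl_et (LP (LK LD1_c7 LD2_c13 LD3_c37))
theorem f794432 : Led Lsl_et (LP (LK LD1_c7 LD2_c13 LD3_c37)) = v21208 :=
  Lrfl
theorem f794435 : Led Lsl_ef (LP (LK LD1_c7 LD2_c13 LD3_c37)) = v21208 :=
  Lgr Lrot88 (Lpr_et (f794432 IH) (Lpn v21208))
theorem f475849 : Led Lsl_et (LP (LK LD1_c13 LD2_c14 LD3_c23)) = (LP (LK LD1_c13 LD2_c40 LD3_c47)) :=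
  Lgr Lrot69 (Lpr_ff (K28.f463798 IH) (Lpe (K61.f160493 IH) (Lpr_ff (K8.f127860 IH) (Lpe (K34.f17418 IH) (Lpr_ff (K34.f475836 IH) (Lpn (LP (LK LD1_c13 LD2_c40 LD3_c47))))))))
theorem f553108 : Led Lsl_af (LP (LK LD1_c13 LD2_c29 LD3_c38)) = (LP (LK LD1_c11 LD2_c15 LD3_c45)) :=
  Lgr Lrot45 (Lpr_ft (K41.f553046 IH) (Lpe (K41.f553051 IH) (Lpr_ft (K41.f553106 IH) (Lpn (LP (LK LD1_c11 LD2_c15 LD3_c45))))))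
theorem f564862 : Led Lsl_gf (LP (LK LD1_c11 LD2_c15 LD3_c46)) = (LP (LK LD1_c13 LD2_c30 LD3_c4)) :=
  Lgr Lrot47 (Lpr_gt (K41.f564860 IH) (Lpr_af (f553108 IH) (Lpe (K41.f553106 IH) (Lpn (LP (LK LD1_c13 LD2_c30 LD3_c4))))))
theorem f566305 : Led Lsl_df (LP (LK LD1_c13 LD2_c30 LD3_c4)) = (LP (LK LD1_c13 LD2_c52 LD3_c6)) :=
  Lgr Lrot18 (Lpr_at (K41.f553061 IH) (Lpe (K41.f553031 IH) (Lpr_at (K47.f566286 IH) (Lpn (LP (LK LD1_c13 LD2_c52 LD3_c6))))))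
theorem f511767 : Led Lsl_dt (LP (LK LD1_c3 LD2_c39 LD3_c49)) = (LP (LK LD1_c7 LD2_c19 LD3_c52)) :=
  Lre_d IH (LK LD1_c3 LD2_c39 LD3_c49) (LK LD1_c7 LD2_c19 LD3_c52) Lrfl Lrfl
theorem f511779 : Led Lsl_gt (LP (LK LD1_c13 LD2_c52 LD3_c3)) = (LP (LK LD1_c7 LD2_c19 LD3_c52)) :=
  Lre_g IH (LK LD1_c13 LD2_c52 LD3_c3) (LK LD1_c7 LD2_c19 LD3_c52) Lrfl Lrfl
theorem f794440 : Led Lsl_df (LP (LK LD1_c13 LD2_c52 LD3_c3)) = v21208 :=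
  Lgr Lrot170 (Lpr_gt (f511779 IH) (Lpe (f511767 IH) (Lpr_et (K47.f511773 IH) (Lpr_gt (K47.f511792 IH) (Lpe (f566305 IH) (Lpe (f564862 IH) (Lpe (K39.f552859 IH) (Lpr_et (f475849 IH) (Lpr_gt (K34.f475821 IH) (Lpr_ef (f794435 IH) (Lpn v21208)))))))))))
theorem f465277 : Led Lsl_et (LP (LK LD1_c13 LD2_c11 LD3_c19)) = (LP (LK LD1_c6 LD2_c56 LD3_c48)) :=
  Lre_e IH (LK LD1_c13 LD2_c11 LD3_c19) (LK LD1_c6 LD2_c56 LD3_c48) Lrfl Lrfl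
def v20927 : LQ := Led Lsl_bt (LP (LK LD1_c7 LD2_c9 LD3_c24))
theorem f791119 : Led Lsl_bt (LP (LK LD1_c7 LD2_c9 LD3_c24)) = v20927 :=
  Lrfl
theorem f791121 : Led Lsl_ef (LP (LK LD1_c13 LD2_c44 LD3_c3)) = v20927 :=
  Lgr Lrot29 (Lpr_bt (K61.f467537 IH) (Lpr_et (K29.f482438 IH) (Lpr_bt (f791119 IH) (Lpn v20927))))
theorem f794436 : Led Lsl_ff v20927 = v21208 :=
  Lgr Lrot72 (Lpe (f791121 IH) (Lpr_ft (K43.f477652 IH) (Lpr_et (f465277 IH) (Lpe (K32.f475182 IH) (Lpr_et (f794432 IH) (Lpn v21208))))))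
theorem f791120 : Led Lsl_bf (LP (LK LD1_c7 LD2_c9 LD3_c24)) = v20927 :=
  Lgr Lrot24 (Lpr_bt (f791119 IH) (Lpn v20927))
theorem f794437 : Led Lsl_bt (LP (LK LD1_c7 LD2_c13 LD3_c39)) = v21208 :=
  Lgr Lrot35 (Lpr_ff (K29.f482442 IH) (Lpr_bf (f791120 IH) (Lpr_ff (f794436 IH) (Lpn v21208))))
theorem f794441 : Led Lsl_bt (LP (LK LD1_c13 LD2_c52 LD3_c3)) = (LP (LK LD1_c13 LD2_c40 LD3_c50)) :=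
  Lgr Lrot95 (Lpr_df (f794440 IH) (Lpe (f794437 IH) (Lpe (K29.f475114 IH) (Lpn (LP (LK LD1_c13 LD2_c40 LD3_c50))))))
theorem f794442 : Led Lsl_bt (LP (LK LD1_c13 LD2_c52 LD3_c3)) = (LP (LK LD1_c13 LD2_c40 LD3_c50)) :=
  Leop (Lpe (f794441 IH) (Lpn (LP (LK LD1_c13 LD2_c52 LD3_c3))))
theorem seed_1599 : LEOK LG_b (LK LD1_c13 LD2_c52 LD3_c3) :=
  Leoe_b (LK LD1_c13 LD2_c52 LD3_c3) (f794442 IH)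
def v21219 : LQ := Led Lsl_et (LP (LK LD1_c7 LD2_c14 LD3_c21))
theorem f794518 : Led Lsl_et (LP (LK LD1_c7 LD2_c14 LD3_c21)) = v21219 :=
  Lrfl
theorem f794521 : Led Lsl_ef (LP (LK LD1_c7 LD2_c14 LD3_c21)) = v21219 :=
  Lgr Lrot88 (Lpr_et (f794518 IH) (Lpn v21219))
theorem f425457 : Led Lsl_dt (LP (LK LD1_c7 LD2_c14 LD3_c21)) = (LP (LK LD1_c13 LD2_c41 LD3_c56)) :=
  Lre_d IH (LK LD1_c7 LD2_c14 LD3_c21) (LK LD1_c13 LD2_c41 LD3_c56) Lrfl Lrfl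
theorem f609135 : Led Lsl_gt (LP (LK LD1_c13 LD2_c41 LD3_c56)) = (LP (LK LD1_c14 LD2_c53 LD3_c33)) :=
  Lgr Lrot46 (Lpe (K47.f608985 IH) (Lpr_ft (K47.f609131 IH) (Lpr_at (K47.f526261 IH) (Lpn (LP (LK LD1_c14 LD2_c53 LD3_c33))))))
theorem f69603 : Led Lsl_dt (LP (LK LD1_c8 LD2_c51 LD3_c10)) = (LP (LK LD1_c15 LD2_c23 LD3_c58)) :=
  Lgr Lrot42 (Lpr_df (K57.f69528 IH) (Lpn (LP (LK LD1_c15 LD2_c23 LD3_c58))))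
theorem f609712 : Led Lsl_ef (LP (LK LD1_c13 LD2_c41 LD3_c56)) = (LP (LK LD1_c14 LD2_c59 LD3_c5)) :=
  Lgr Lrot167 (Lpr_gt (f609135 IH) (Lpr_dt (K47.f526264 IH) (Lpr_gt (K47.f609708 IH) (Lpe (K47.f568255 IH) (Lpe (K46.f445544 IH) (Lpr_gt (K37.f69628 IH) (Lpe (K57.f69526 IH) (Lpr_dt (f69603 IH) (Lpr_gt (K57.f609351 IH) (Lpe (K57.f609348 IH) (Lpn (LP (LK LD1_c14 LD2_c59 LD3_c5)))))))))))))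
theorem f609714 : Led Lsl_et (LP (LK LD1_c13 LD2_c41 LD3_c56)) = (LP (LK LD1_c14 LD2_c59 LD3_c5)) :=
  Lgr Lrot87 (Lpr_ef (f609712 IH) (Lpn (LP (LK LD1_c14 LD2_c59 LD3_c5))))
theorem f794523 : Led Lsl_dt (LP (LK LD1_c13 LD2_c51 LD3_c15)) = v21219 :=
  Lgr Lrot77 (Lpe (K57.f479719 IH) (Lpe (K57.f609348 IH) (Lpe (f609714 IH) (Lpe (f425457 IH) (Lpr_ef (f794521 IH) (Lpn v21219))))))
theorem f464134 : Led Lsl_ct (LP (LK LD1_c3 LD2_c28 LD3_c1)) = (LP (LK LD1_c3 LD2_c39 LD3_c13)) :=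
  Lgr Lrot59 (Lpr_cf (K28.f464131 IH) (Lpn (LP (LK LD1_c3 LD2_c39 LD3_c13))))
theorem f464138 : Led Lsl_gt (LP (LK LD1_c6 LD2_c58 LD3_c14)) = (LP (LK LD1_c13 LD2_c14 LD3_c2)) :=
  Lre_g IH (LK LD1_c6 LD2_c58 LD3_c14) (LK LD1_c13 LD2_c14 LD3_c2) Lrfl Lrfl
theorem f470977 : Led Lsl_bf (LP (LK LD1_c13 LD2_c14 LD3_c2)) = (LP (LK LD1_c7 LD2_c14 LD3_c21)) :=
  Lgr Lrot34 (Lpe (f464138 IH) (Lpe (K28.f464133 IH) (Lpr_ct (f464134 IH) (Lpe (K28.f464126 IH) (Lpr_cf (K29.f461966 IH) (Lpe (K28.f94439 IH) (Lpe (K28.f160490 IH) (Lpr_ct (K29.f160481 IH) (Lpe (K29.f160515 IH) (Lpr_cf (K29.f470973 IH) (Lpn (LP (LK LD1_c7 LD2_c14 LD3_c21)))))))))))))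
theorem f470979 : Led Lsl_bt (LP (LK LD1_c13 LD2_c14 LD3_c2)) = (LP (LK LD1_c7 LD2_c14 LD3_c21)) :=
  Lgr Lrot127 (Lpr_bf (f470977 IH) (Lpn (LP (LK LD1_c7 LD2_c14 LD3_c21))))
theorem f470704 : Led Lsl_bt (LP (LK LD1_c7 LD2_c14 LD3_c56)) = (LP (LK LD1_c13 LD2_c42 LD3_c51)) :=
  Lre_b IH (LK LD1_c7 LD2_c14 LD3_c56) (LK LD1_c13 LD2_c42 LD3_c51) Lrfl Lrfl
theorem f511724 : Led Lsl_ef (LP (LK LD1_c22 LD2_c41 LD3_c22)) = (LP (LK LD1_c13 LD2_c42 LD3_c51)) :=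
  Lgr Lrot29 (Lpr_bt (K33.f511719 IH) (Lpr_et (K45.f470686 IH) (Lpr_bt (f470704 IH) (Lpn (LP (LK LD1_c13 LD2_c42 LD3_c51))))))
theorem f511730 : Led Lsl_dt (LP (LK LD1_c13 LD2_c42 LD3_c51)) = (LP (LK LD1_c7 LD2_c14 LD3_c54)) :=
  Lre_d IH (LK LD1_c13 LD2_c42 LD3_c51) (LK LD1_c7 LD2_c14 LD3_c54) Lrfl Lrfl
theorem f566233 : Led Lsl_gt (LP (LK LD1_c13 LD2_c41 LD3_c29)) = (LP (LK LD1_c7 LD2_c14 LD3_c54)) :=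
  Lgr Lrot112 (Lpe (K61.f162549 IH) (Lpr_et (K33.f162197 IH) (Lpe (K8.f162848 IH) (Lpe (K29.f162846 IH) (Lpe (K41.f566221 IH) (Lpe (K41.f181393 IH) (Lpr_df (K41.f566227 IH) (Lpe (K61.f566231 IH) (Lpr_ef (f511724 IH) (Lpr_dt (f511730 IH) (Lpn (LP (LK LD1_c7 LD2_c14 LD3_c54)))))))))))))
theorem f467019 : Led Lsl_dt (LP (LK LD1_c23 LD2_c5 LD3_c1)) = (LP (LK LD1_c13 LD2_c39 LD3_c41)) :=
  Lre_d IH (LK LD1_c23 LD2_c5 LD3_c1) (LK LD1_c13 LD2_c39 LD3_c41) Lrfl Lrfl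
theorem f486361 : Led Lsl_ft (LP (LK LD1_c13 LD2_c41 LD3_c29)) = (LP (LK LD1_c23 LD2_c5 LD3_c1)) :=
  Lgr Lrot54 (Lpe (K61.f162549 IH) (Lpr_ff (K33.f486359 IH) (Lpe (f467019 IH) (Lpn (LP (LK LD1_c23 LD2_c5 LD3_c1))))))
theorem f467447 : Led Lsl_dt (LP (LK LD1_c7 LD2_c14 LD3_c39)) = (LP (LK LD1_c13 LD2_c42 LD3_c19)) :=
  Lre_d IH (LK LD1_c7 LD2_c14 LD3_c39) (LK LD1_c13 LD2_c42 LD3_c19) Lrfl Lrfl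
theorem f162548 : Led Lsl_dt (LP (LK LD1_c13 LD2_c30 LD3_c20)) = (LP (LK LD1_c7 LD2_c7 LD3_c48)) :=
  Lre_d IH (LK LD1_c13 LD2_c30 LD3_c20) (LK LD1_c7 LD2_c7 LD3_c48) Lrfl Lrfl
theorem f486400 : Led Lsl_ft (LP (LK LD1_c13 LD2_c42 LD3_c19)) = (LP (LK LD1_c13 LD2_c30 LD3_c20)) :=
  Lgr Lrot54 (Lpe (f467447 IH) (Lpr_ff (K33.f486396 IH) (Lpe (f162548 IH) (Lpn (LP (LK LD1_c13 LD2_c30 LD3_c20))))))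
theorem f162550 : Led Lsl_af (LP (LK LD1_c13 LD2_c30 LD3_c20)) = (LP (LK LD1_c13 LD2_c41 LD3_c29)) :=
  Lgr Lrot117 (Lpr_dt (f162548 IH) (Lpr_at (K33.f162541 IH) (Lpr_dt (K61.f162549 IH) (Lpn (LP (LK LD1_c13 LD2_c41 LD3_c29))))))
theorem f162552 : Led Lsl_at (LP (LK LD1_c13 LD2_c30 LD3_c20)) = (LP (LK LD1_c13 LD2_c41 LD3_c29)) :=
  Lgr Lrot100 (Lpr_af (f162550 IH) (Lpn (LP (LK LD1_c13 LD2_c41 LD3_c29))))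
theorem f486402 : Led Lsl_af (LP (LK LD1_c13 LD2_c42 LD3_c19)) = (LP (LK LD1_c23 LD2_c5 LD3_c1)) :=
  Lgr Lrot45 (Lpr_ft (f486400 IH) (Lpr_at (f162552 IH) (Lpr_ft (f486361 IH) (Lpn (LP (LK LD1_c23 LD2_c5 LD3_c1))))))
theorem f615851 : Led Lsl_gf (LP (LK LD1_c13 LD2_c42 LD3_c19)) = (LP (LK LD1_c7 LD2_c14 LD3_c54)) :=
  Lgr Lrot76 (Lpr_af (f486402 IH) (Lpe (f486361 IH) (Lpr_gt (f566233 IH) (Lpn (LP (LK LD1_c7 LD2_c14 LD3_c54))))))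
theorem f524926 : Led Lsl_gt (LP (LK LD1_c7 LD2_c8 LD3_c31)) = (LP (LK LD1_c13 LD2_c28 LD3_c19)) :=
  Lgr Lrot5 (Lpe (K33.f488903 IH) (Lpr_at (K8.f162206 IH) (Lpr_gf (K40.f524918 IH) (Lpn (LP (LK LD1_c13 LD2_c28 LD3_c19))))))
theorem f524649 : Led Lsl_at (LP (LK LD1_c13 LD2_c31 LD3_c35)) = (LP (LK LD1_c7 LD2_c8 LD3_c34)) :=
  Lre_a IH (LK LD1_c13 LD2_c31 LD3_c35) (LK LD1_c7 LD2_c8 LD3_c34) Lrfl Lrfl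
theorem f484330 : Led Lsl_gt (LP (LK LD1_c13 LD2_c31 LD3_c39)) = (LP (LK LD1_c7 LD2_c8 LD3_c34)) :=
  Lre_g IH (LK LD1_c13 LD2_c31 LD3_c39) (LK LD1_c7 LD2_c8 LD3_c34) Lrfl Lrfl
theorem f524655 : Led Lsl_gf (LP (LK LD1_c13 LD2_c31 LD3_c39)) = (LP (LK LD1_c22 LD2_c47 LD3_c56)) :=
  Lgr Lrot47 (Lpr_gt (f484330 IH) (Lpe (f524649 IH) (Lpr_ff (K35.f524636 IH) (Lpn (LP (LK LD1_c22 LD2_c47 LD3_c56))))))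
theorem f615853 : Led Lsl_df (LP (LK LD1_c13 LD2_c31 LD3_c39)) = (LP (LK LD1_c13 LD2_c51 LD3_c7)) :=
  Lgr Lrot132 (Lpr_gf (f524655 IH) (Lpe (K35.f524651 IH) (Lpe (f524926 IH) (Lpe (K33.f488896 IH) (Lpr_dt (f467447 IH) (Lpr_gf (f615851 IH) (Lpe (f511730 IH) (Lpe (f511724 IH) (Lpe (K47.f566249 IH) (Lpe (K47.f566268 IH) (Lpn (LP (LK LD1_c13 LD2_c51 LD3_c7)))))))))))))
theorem f478007 : Led Lsl_dt (LP (LK LD1_c3 LD2_c33 LD3_c49)) = (LP (LK LD1_c7 LD2_c8 LD3_c34)) :=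
  Lre_d IH (LK LD1_c3 LD2_c33 LD3_c49) (LK LD1_c7 LD2_c8 LD3_c34) Lrfl Lrfl
theorem f526771 : Led Lsl_et (LP (LK LD1_c3 LD2_c33 LD3_c49)) = (LP (LK LD1_c7 LD2_c8 LD3_c35)) :=
  Lre_e IH (LK LD1_c3 LD2_c33 LD3_c49) (LK LD1_c7 LD2_c8 LD3_c35) Lrfl Lrfl
theorem f467380 : Led Lsl_gt (LP (LK LD1_c7 LD2_c8 LD3_c35)) = (LP (LK LD1_c13 LD2_c31 LD3_c42)) :=
  Lre_g IH (LK LD1_c7 LD2_c8 LD3_c35) (LK LD1_c13 LD2_c31 LD3_c42) Lrfl Lrfl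
theorem f479496 : Led Lsl_ef (LP (LK LD1_c22 LD2_c14 LD3_c37)) = (LP (LK LD1_c13 LD2_c32 LD3_c19)) :=
  Lgr Lrot29 (Lpr_bt (K47.f479485 IH) (Lpr_et (K29.f479493 IH) (Lpr_bt (K48.f479495 IH) (Lpn (LP (LK LD1_c13 LD2_c32 LD3_c19))))))
theorem f480661 : Led Lsl_et (LP (LK LD1_c30 LD2_c23 LD3_c5)) = (LP (LK LD1_c22 LD2_c54 LD3_c5)) :=
  Lgr Lrot123 (Lpe (K47.f479766 IH) (Lpr_ef (f479496 IH) (Lpe (K47.f480660 IH) (Lpn (LP (LK LD1_c22 LD2_c54 LD3_c5))))))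
theorem f480631 : Led Lsl_df (LP (LK LD1_c22 LD2_c29 LD3_c23)) = (LP (LK LD1_c30 LD2_c23 LD3_c5)) :=
  Lgr Lrot18 (Lpr_at (K47.f480630 IH) (Lpr_dt (K47.f479549 IH) (Lpr_at (K47.f479766 IH) (Lpn (LP (LK LD1_c30 LD2_c23 LD3_c5))))))
theorem f464139 : Led Lsl_dt (LP (LK LD1_c13 LD2_c14 LD3_c2)) = (LP (LK LD1_c22 LD2_c28 LD3_c44)) :=
  Lre_d IH (LK LD1_c13 LD2_c14 LD3_c2) (LK LD1_c22 LD2_c28 LD3_c44) Lrfl Lrfl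
theorem f566253 : Led Lsl_gf (LP (LK LD1_c22 LD2_c29 LD3_c23)) = (LP (LK LD1_c22 LD2_c28 LD3_c44)) :=
  Lgr Lrot134 (Lpr_df (f480631 IH) (Lpr_et (f480661 IH) (Lpe (K47.f529868 IH) (Lpe (K47.f17593 IH) (Lpe (K47.f566225 IH) (Lpr_gt (K47.f566245 IH) (Lpe (K41.f425487 IH) (Lpe (K41.f465626 IH) (Lpr_gt (f464138 IH) (Lpr_dt (f464139 IH) (Lpn (LP (LK LD1_c22 LD2_c28 LD3_c44)))))))))))))
theorem f615858 : Led Lsl_ef (LP (LK LD1_c13 LD2_c31 LD3_c42)) = (LP (LK LD1_c13 LD2_c14 LD3_c2)) :=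
  Lgr Lrot17 (Lpe (f467380 IH) (Lpe (f526771 IH) (Lpr_dt (f478007 IH) (Lpe (f484330 IH) (Lpr_df (f615853 IH) (Lpr_gf (K47.f529868 IH) (Lpe (f480661 IH) (Lpe (f480631 IH) (Lpr_gf (f566253 IH) (Lpe (f464139 IH) (Lpn (LP (LK LD1_c13 LD2_c14 LD3_c2)))))))))))))
theorem f615864 : Led Lsl_et (LP (LK LD1_c13 LD2_c31 LD3_c42)) = (LP (LK LD1_c13 LD2_c14 LD3_c2)) :=
  Lgr Lrot87 (Lpr_ef (f615858 IH) (Lpn (LP (LK LD1_c13 LD2_c14 LD3_c2))))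
theorem f794519 : Led Lsl_bf (LP (LK LD1_c13 LD2_c31 LD3_c42)) = v21219 :=
  Lgr Lrot96 (Lpr_et (f615864 IH) (Lpr_bt (f470979 IH) (Lpr_et (f794518 IH) (Lpn v21219))))
theorem f471893 : Led Lsl_gf (LP (LK LD1_c7 LD2_c14 LD3_c6)) = (LP (LK LD1_c13 LD2_c14 LD3_c2)) :=
  Lgr Lrot124 (Lpr_bf (K8.f160373 IH) (Lpr_ct (K8.f108054 IH) (Lpr_gt (K46.f462569 IH) (Lpe (K29.f470572 IH) (Lpr_bt (K29.f470581 IH) (Lpr_gt (K47.f470646 IH) (Lpr_ct (K35.f470135 IH) (Lpr_gt (K47.f471891 IH) (Lpr_cf (K29.f470973 IH) (Lpe (f470977 IH) (Lpn (LP (LK LD1_c13 LD2_c14 LD3_c2)))))))))))))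
theorem f604869 : Led Lsl_gt (LP (LK LD1_c7 LD2_c14 LD3_c5)) = (LP (LK LD1_c5 LD2_c54 LD3_c22)) :=
  Lgr Lrot65 (Lpr_cf (K42.f551664 IH) (Lpr_bt (K24.f269089 IH) (Lpe (K24.f269108 IH) (Lpe (K18.f176927 IH) (Lpe (K40.f205113 IH) (Lpe (K40.f557365 IH) (Lpe (K40.f541672 IH) (Lpr_gf (K46.f582166 IH) (Lpr_bf (K43.f301889 IH) (Lpr_ct (K40.f557841 IH) (Lpn (LP (LK LD1_c5 LD2_c54 LD3_c22)))))))))))))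
theorem f442082 : Led Lsl_et (LP (LK LD1_c7 LD2_c17 LD3_c39)) = (LP (LK LD1_c3 LD2_c38 LD3_c38)) :=
  Lre_e IH (LK LD1_c7 LD2_c17 LD3_c39) (LK LD1_c3 LD2_c38 LD3_c38) Lrfl Lrfl
theorem f442019 : Led Lsl_dt (LP (LK LD1_c7 LD2_c17 LD3_c42)) = (LP (LK LD1_c13 LD2_c39 LD3_c51)) :=
  Lgr Lrot42 (Lpr_df (K45.f442009 IH) (Lpn (LP (LK LD1_c13 LD2_c39 LD3_c51))))
theorem f442052 : Led Lsl_bt (LP (LK LD1_c13 LD2_c47 LD3_c56)) = (LP (LK LD1_c7 LD2_c17 LD3_c42)) :=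
  Lre_b IH (LK LD1_c13 LD2_c47 LD3_c56) (LK LD1_c7 LD2_c17 LD3_c42) Lrfl Lrfl
theorem f442053 : Led Lsl_bt (LP (LK LD1_c13 LD2_c39 LD3_c51)) = (LP (LK LD1_c23 LD2_c5 LD3_c11)) :=
  Lre_b IH (LK LD1_c13 LD2_c39 LD3_c51) (LK LD1_c23 LD2_c5 LD3_c11) Lrfl Lrfl
theorem f442054 : Led Lsl_df (LP (LK LD1_c13 LD2_c47 LD3_c56)) = (LP (LK LD1_c23 LD2_c5 LD3_c11)) :=
  Lgr Lrot12 (Lpr_bt (f442052 IH) (Lpr_dt (f442019 IH) (Lpr_bt (f442053 IH) (Lpn (LP (LK LD1_c23 LD2_c5 LD3_c11))))))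
theorem f442065 : Led Lsl_et (LP (LK LD1_c13 LD2_c47 LD3_c56)) = (LP (LK LD1_c7 LD2_c17 LD3_c38)) :=
  Lre_e IH (LK LD1_c13 LD2_c47 LD3_c56) (LK LD1_c7 LD2_c17 LD3_c38) Lrfl Lrfl
theorem f442066 : Led Lsl_dt (LP (LK LD1_c7 LD2_c17 LD3_c38)) = (LP (LK LD1_c3 LD2_c38 LD3_c38)) :=
  Lre_d IH (LK LD1_c7 LD2_c17 LD3_c38) (LK LD1_c3 LD2_c38 LD3_c38) Lrfl Lrfl
theorem f442067 : Led Lsl_et (LP (LK LD1_c3 LD2_c38 LD3_c38)) = (LP (LK LD1_c7 LD2_c17 LD3_c39)) :=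
  Lre_e IH (LK LD1_c3 LD2_c38 LD3_c38) (LK LD1_c7 LD2_c17 LD3_c39) Lrfl Lrfl
theorem f442068 : Led Lsl_et (LP (LK LD1_c13 LD2_c39 LD3_c49)) = (LP (LK LD1_c23 LD2_c5 LD3_c11)) :=
  Lre_e IH (LK LD1_c13 LD2_c39 LD3_c49) (LK LD1_c23 LD2_c5 LD3_c11) Lrfl Lrfl
theorem f442069 : Led Lsl_dt (LP (LK LD1_c7 LD2_c17 LD3_c39)) = (LP (LK LD1_c13 LD2_c39 LD3_c49)) :=
  Lgr Lrot77 (Lpe (f442067 IH) (Lpe (f442066 IH) (Lpe (f442065 IH) (Lpr_df (f442054 IH) (Lpe (f442068 IH) (Lpn (LP (LK LD1_c13 LD2_c39 LD3_c49))))))))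
theorem f488835 : Led Lsl_et (LP (LK LD1_c13 LD2_c39 LD3_c41)) = (LP (LK LD1_c13 LD2_c28 LD3_c18)) :=
  Lgr Lrot69 (Lpe (K33.f486363 IH) (Lpe (K47.f162561 IH) (Lpr_ff (K33.f162198 IH) (Lpe (K8.f96800 IH) (Lpr_ff (K33.f488818 IH) (Lpn (LP (LK LD1_c13 LD2_c28 LD3_c18))))))))
theorem f609475 : Led Lsl_gf (LP (LK LD1_c13 LD2_c39 LD3_c49)) = (LP (LK LD1_c23 LD2_c5 LD3_c1)) :=
  Lgr Lrot145 (Lpe (f442069 IH) (Lpr_et (f442082 IH) (Lpr_gt (K47.f442083 IH) (Lpr_dt (K47.f442084 IH) (Lpr_gt (K47.f609470 IH) (Lpe (K43.f575432 IH) (Lpr_et (K43.f524663 IH) (Lpr_gt (K35.f524666 IH) (Lpe (f488835 IH) (Lpr_dt (K61.f467018 IH) (Lpn (LP (LK LD1_c23 LD2_c5 LD3_c1)))))))))))))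
theorem f610327 : Led Lsl_gt (LP (LK LD1_c13 LD2_c39 LD3_c49)) = (LP (LK LD1_c13 LD2_c30 LD3_c20)) :=
  Lgr Lrot46 (Lpr_gf (f609475 IH) (Lpe (K61.f486381 IH) (Lpe (f162550 IH) (Lpn (LP (LK LD1_c13 LD2_c30 LD3_c20))))))
theorem f162554 : Led Lsl_dt (LP (LK LD1_c7 LD2_c7 LD3_c48)) = (LP (LK LD1_c13 LD2_c30 LD3_c20)) :=
  Lre_d IH (LK LD1_c7 LD2_c7 LD3_c48) (LK LD1_c13 LD2_c30 LD3_c20) Lrfl Lrfl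
theorem f162539 : Led Lsl_et (LP (LK LD1_c7 LD2_c7 LD3_c48)) = (LP (LK LD1_c3 LD2_c33 LD3_c26)) :=
  Lre_e IH (LK LD1_c7 LD2_c7 LD3_c48) (LK LD1_c3 LD2_c33 LD3_c26) Lrfl Lrfl
theorem f610335 : Led Lsl_gf (LP (LK LD1_c3 LD2_c38 LD3_c38)) = (LP (LK LD1_c7 LD2_c17 LD3_c10)) :=
  Lgr Lrot141 (Lpe (f442082 IH) (Lpr_dt (f442069 IH) (Lpr_gt (f610327 IH) (Lpe (f162554 IH) (Lpr_et (f162539 IH) (Lpr_gt (K37.f162833 IH) (Lpr_dt (K39.f160384 IH) (Lpr_gt (f604869 IH) (Lpe (K46.f557843 IH) (Lpr_et (K43.f497680 IH) (Lpn (LP (LK LD1_c7 LD2_c17 LD3_c10)))))))))))))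
theorem f442088 : Led Lsl_dt (LP (LK LD1_c3 LD2_c38 LD3_c38)) = (LP (LK LD1_c7 LD2_c17 LD3_c38)) :=
  Lre_d IH (LK LD1_c3 LD2_c38 LD3_c38) (LK LD1_c7 LD2_c17 LD3_c38) Lrfl Lrfl
theorem f442090 : Led Lsl_gt (LP (LK LD1_c7 LD2_c17 LD3_c38)) = (LP (LK LD1_c13 LD2_c47 LD3_c53)) :=
  Lre_g IH (LK LD1_c7 LD2_c17 LD3_c38) (LK LD1_c13 LD2_c47 LD3_c53) Lrfl Lrfl
theorem f615869 : Led Lsl_dt (LP (LK LD1_c13 LD2_c31 LD3_c42)) = (LP (LK LD1_c13 LD2_c47 LD3_c53)) :=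
  Lgr Lrot56 (Lpr_et (f615864 IH) (Lpe (f471893 IH) (Lpe (K41.f160385 IH) (Lpr_dt (K39.f160384 IH) (Lpr_gt (f604869 IH) (Lpe (K46.f557843 IH) (Lpr_et (K43.f497680 IH) (Lpe (f610335 IH) (Lpr_dt (f442088 IH) (Lpr_gt (f442090 IH) (Lpn (LP (LK LD1_c13 LD2_c47 LD3_c53)))))))))))))
theorem f794524 : Led Lsl_bf (LP (LK LD1_c13 LD2_c51 LD3_c15)) = (LP (LK LD1_c13 LD2_c47 LD3_c53)) :=
  Lgr Lrot93 (Lpr_dt (f794523 IH) (Lpe (f794519 IH) (Lpr_dt (f615869 IH) (Lpn (LP (LK LD1_c13 LD2_c47 LD3_c53))))))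
theorem f794525 : Led Lsl_bt (LP (LK LD1_c13 LD2_c47 LD3_c53)) = (LP (LK LD1_c13 LD2_c51 LD3_c15)) :=
  Leop (Lpr_bf (f794524 IH) (Lpn (LP (LK LD1_c13 LD2_c47 LD3_c53))))
theorem seed_1600 : LEOK LG_b (LK LD1_c13 LD2_c47 LD3_c53) :=
  Leoe_b (LK LD1_c13 LD2_c47 LD3_c53) (f794525 IH)
def v21224 : LQ := Led Lsl_dt (LP (LK LD1_c7 LD2_c14 LD3_c45))
theorem f794539 : Led Lsl_dt (LP (LK LD1_c7 LD2_c14 LD3_c45)) = v21224 :=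
  Lrfl
theorem f794542 : Led Lsl_ef K49.v7115 = v21224 :=
  Lgr Lrot73 (Lpe (K49.f661263 IH) (Lpe (K49.f519754 IH) (Lpr_dt (K60.f6016 IH) (Lpr_et (K47.f519755 IH) (Lpr_dt (f794539 IH) (Lpn v21224))))))
theorem f193544 : Led Lsl_et (LP (LK LD1_c8 LD2_c4 LD3_c49)) = (LP (LK LD1_c15 LD2_c12 LD3_c52)) :=
  Lre_e IH (LK LD1_c8 LD2_c4 LD3_c49) (LK LD1_c15 LD2_c12 LD3_c52) Lrfl Lrfl
theorem f794541 : Led Lsl_df (LP (LK LD1_c7 LD2_c14 LD3_c45)) = v21224 :=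
  Lgr Lrot38 (Lpr_dt (f794539 IH) (Lpn v21224))
theorem f528392 : Led Lsl_gt (LP (LK LD1_c13 LD2_c42 LD3_c33)) = (LP (LK LD1_c7 LD2_c14 LD3_c45)) :=
  Lre_g IH (LK LD1_c13 LD2_c42 LD3_c33) (LK LD1_c7 LD2_c14 LD3_c45) Lrfl Lrfl
theorem f528400 : Led Lsl_dt (LP (LK LD1_c23 LD2_c8 LD3_c29)) = (LP (LK LD1_c13 LD2_c42 LD3_c33)) :=
  Lre_d IH (LK LD1_c23 LD2_c8 LD3_c29) (LK LD1_c13 LD2_c42 LD3_c33) Lrfl Lrfl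
theorem f794545 : Led Lsl_gt (LP (LK LD1_c15 LD2_c12 LD3_c52)) = (LP (LK LD1_c23 LD2_c8 LD3_c29)) :=
  Lgr Lrot137 (Lpe (f193544 IH) (Lpr_dt (K43.f190299 IH) (Lpe (K43.f566075 IH) (Lpe (K0.f4989 IH) (Lpr_et (K0.f5080 IH) (Lpr_gf (K49.f661259 IH) (Lpr_ef (f794542 IH) (Lpe (f794541 IH) (Lpe (f528392 IH) (Lpe (f528400 IH) (Lpn (LP (LK LD1_c23 LD2_c8 LD3_c29)))))))))))))
theorem f794546 : Led Lsl_gt (LP (LK LD1_c15 LD2_c12 LD3_c52)) = (LP (LK LD1_c23 LD2_c8 LD3_c29)) :=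
  Leop (Lpe (f794545 IH) (Lpn (LP (LK LD1_c15 LD2_c12 LD3_c52))))
theorem seed_1601 : LEOK LG_g (LK LD1_c15 LD2_c12 LD3_c52) :=
  Leoe_g (LK LD1_c15 LD2_c12 LD3_c52) (f794546 IH)
def v21228 : LQ := Led Lsl_gf (LP (LK LD1_c7 LD2_c15 LD3_c3))
theorem f794561 : Led Lsl_gf (LP (LK LD1_c7 LD2_c15 LD3_c3)) = v21228 :=
  Lrfl
theorem f6571 : Led Lsl_dt (LP (LK LD1_c7 LD2_c15 LD3_c3)) = (LP (LK LD1_c3 LD2_c37 LD3_c15)) :=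
  Lre_d IH (LK LD1_c7 LD2_c15 LD3_c3) (LK LD1_c3 LD2_c37 LD3_c15) Lrfl Lrfl
theorem f519955 : Led Lsl_ct (LP (LK LD1_c7 LD2_c14 LD3_c42)) = (LP (LK LD1_c13 LD2_c42 LD3_c24)) :=
  Lre_c IH (LK LD1_c7 LD2_c14 LD3_c42) (LK LD1_c13 LD2_c42 LD3_c24) Lrfl Lrfl
theorem f514322 : Led Lsl_gt (LP (LK LD1_c13 LD2_c42 LD3_c24)) = (LP (LK LD1_c7 LD2_c15 LD3_c22)) :=
  Lre_g IH (LK LD1_c13 LD2_c42 LD3_c24) (LK LD1_c7 LD2_c15 LD3_c22) Lrfl Lrfl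
theorem f794563 : Led Lsl_dt (LP (LK LD1_c7 LD2_c15 LD3_c22)) = v21228 :=
  Lgr Lrot57 (Lpe (f514322 IH) (Lpe (f519955 IH) (Lpr_gt (K47.f528469 IH) (Lpr_dt (K39.f481294 IH) (Lpr_gt (K33.f6023 IH) (Lpr_dt (K28.f6007 IH) (Lpe (K29.f6245 IH) (Lpe (f6571 IH) (Lpr_gf (f794561 IH) (Lpn v21228))))))))))
theorem f519941 : Led Lsl_et (LP (LK LD1_c7 LD2_c15 LD3_c22)) = (LP (LK LD1_c13 LD2_c43 LD3_c60)) :=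
  Lre_e IH (LK LD1_c7 LD2_c15 LD3_c22) (LK LD1_c13 LD2_c43 LD3_c60) Lrfl Lrfl
theorem f794565 : Led Lsl_gt (LP (LK LD1_c23 LD2_c8 LD3_c53)) = (LP (LK LD1_c13 LD2_c43 LD3_c60)) :=
  Lgr Lrot131 (Lpr_ef (K53.f565861 IH) (Lpe (K50.f596851 IH) (Lpe (K50.f566056 IH) (Lpe (K50.f38481 IH) (Lpe (K41.f566051 IH) (Lpe (K36.f98269 IH) (Lpr_dt (K29.f478210 IH) (Lpr_gf (f794561 IH) (Lpe (f794563 IH) (Lpr_et (f519941 IH) (Lpn (LP (LK LD1_c13 LD2_c43 LD3_c60)))))))))))))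
theorem f794566 : Led Lsl_gt (LP (LK LD1_c23 LD2_c8 LD3_c53)) = (LP (LK LD1_c13 LD2_c43 LD3_c60)) :=
  Leop (Lpe (f794565 IH) (Lpn (LP (LK LD1_c23 LD2_c8 LD3_c53))))
theorem seed_1602 : LEOK LG_g (LK LD1_c23 LD2_c8 LD3_c53) :=
  Leoe_g (LK LD1_c23 LD2_c8 LD3_c53) (f794566 IH)
def v21231 : LQ := Led Lsl_et (LP (LK LD1_c7 LD2_c15 LD3_c6))
theorem f794609 : Led Lsl_et (LP (LK LD1_c7 LD2_c15 LD3_c6)) = v21231 :=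
  Lrfl
theorem f794612 : Led Lsl_ef (LP (LK LD1_c7 LD2_c15 LD3_c6)) = v21231 :=
  Lgr Lrot88 (Lpr_et (f794609 IH) (Lpn v21231))
theorem f794613 : Led Lsl_bt K48.v7028 = v21231 :=
  Lgr Lrot119 (Lpe (K48.f660423 IH) (Lpe (K33.f456240 IH) (Lpr_ef (f794612 IH) (Lpn v21231))))
theorem f13083 : Led Lsl_bt (LP (LK LD1_c7 LD2_c29 LD3_c47)) = (LP (LK LD1_c3 LD2_c44 LD3_c23)) :=
  Lre_b IH (LK LD1_c7 LD2_c29 LD3_c47) (LK LD1_c3 LD2_c44 LD3_c23) Lrfl Lrfl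
theorem f794615 : Led Lsl_df (LP (LK LD1_c7 LD2_c29 LD3_c47)) = v21231 :=
  Lgr Lrot12 (Lpr_bt (f13083 IH) (Lpr_dt (K48.f660432 IH) (Lpr_bt (f794613 IH) (Lpn v21231))))
theorem f485116 : Led Lsl_bt (LP (LK LD1_c3 LD2_c37 LD3_c17)) = (LP (LK LD1_c7 LD2_c15 LD3_c6)) :=
  Lre_b IH (LK LD1_c3 LD2_c37 LD3_c17) (LK LD1_c7 LD2_c15 LD3_c6) Lrfl Lrfl
theorem f486816 : Led Lsl_gt (LP (LK LD1_c7 LD2_c49 LD3_c53)) = (LP (LK LD1_c7 LD2_c15 LD3_c6)) :=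
  Lgr Lrot164 (Lpe (K33.f425712 IH) (Lpr_ct (K33.f425716 IH) (Lpr_gf (K34.f486804 IH) (Lpe (K33.f485140 IH) (Lpe (K33.f485345 IH) (Lpe (K33.f480809 IH) (Lpe (K29.f480812 IH) (Lpr_gf (K33.f480727 IH) (Lpe (K33.f456234 IH) (Lpr_bt (f485116 IH) (Lpn (LP (LK LD1_c7 LD2_c15 LD3_c6)))))))))))))
theorem f227409 : Led Lsl_gf (LP (LK LD1_c4 LD2_c24 LD3_c10)) = (LP (LK LD1_c4 LD2_c1 LD3_c18)) :=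
  Lgr Lrot144 (Lpr_dt (K36.f227402 IH) (Lpr_gt (K36.f59142 IH) (Lpr_dt (K14.f59078 IH) (Lpe (K14.f59136 IH) (Lpr_df (K13.f58983 IH) (Lpe (K11.f59095 IH) (Lpe (K11.f59096 IH) (Lpr_gf (K12.f182400 IH) (Lpe (K39.f182402 IH) (Lpn (LP (LK LD1_c4 LD2_c1 LD3_c18))))))))))))
theorem f413404 : Led Lsl_ct (LP (LK LD1_c6 LD2_c24 LD3_c61)) = (LP (LK LD1_c4 LD2_c42 LD3_c44)) :=
  Lgr Lrot59 (Lpr_cf (K36.f413402 IH) (Lpn (LP (LK LD1_c4 LD2_c42 LD3_c44))))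
theorem f541156 : Led Lsl_dt (LP (LK LD1_c3 LD2_c54 LD3_c9)) = (LP (LK LD1_c6 LD2_c24 LD3_c61)) :=
  Lgr Lrot105 (Lpr_gf (K8.f160613 IH) (Lpr_df (K8.f159819 IH) (Lpr_gf (K36.f541150 IH) (Lpe (K36.f205187 IH) (Lpr_gt (K32.f205185 IH) (Lpe (K32.f407956 IH) (Lpe (f227409 IH) (Lpr_dt (K36.f227402 IH) (Lpe (f413404 IH) (Lpn (LP (LK LD1_c6 LD2_c24 LD3_c61))))))))))))
theorem f147347 : Led Lsl_et (LP (LK LD1_c7 LD2_c28 LD3_c52)) = (LP (LK LD1_c3 LD2_c44 LD3_c0)) :=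
  Lre_e IH (LK LD1_c7 LD2_c28 LD3_c52) (LK LD1_c3 LD2_c44 LD3_c0) Lrfl Lrfl
theorem f147348 : Led Lsl_dt (LP (LK LD1_c7 LD2_c28 LD3_c52)) = (LP (LK LD1_c14 LD2_c7 LD3_c20)) :=
  Lre_d IH (LK LD1_c7 LD2_c28 LD3_c52) (LK LD1_c14 LD2_c7 LD3_c20) Lrfl Lrfl
theorem f794617 : Led Lsl_gt (LP (LK LD1_c7 LD2_c29 LD3_c47)) = (LP (LK LD1_c14 LD2_c7 LD3_c20)) :=
  Lgr Lrot112 (Lpr_df (f794615 IH) (Lpe (f794612 IH) (Lpe (f486816 IH) (Lpe (K33.f162031 IH) (Lpr_dt (f541156 IH) (Lpe (K61.f568043 IH) (Lpe (K61.f147186 IH) (Lpr_gf (K32.f147345 IH) (Lpe (f147347 IH) (Lpr_dt (f147348 IH) (Lpn (LP (LK LD1_c14 LD2_c7 LD3_c20)))))))))))))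
theorem f794618 : Led Lsl_gt (LP (LK LD1_c7 LD2_c29 LD3_c47)) = (LP (LK LD1_c14 LD2_c7 LD3_c20)) :=
  Leop (Lpe (f794617 IH) (Lpn (LP (LK LD1_c7 LD2_c29 LD3_c47))))
theorem seed_1603 : LEOK LG_g (LK LD1_c7 LD2_c29 LD3_c47) :=
  Leoe_g (LK LD1_c7 LD2_c29 LD3_c47) (f794618 IH)
def v21351 : LQ := Led Lsl_dt (LP (LK LD1_c7 LD2_c16 LD3_c28))
theorem f795195 : Led Lsl_dt (LP (LK LD1_c7 LD2_c16 LD3_c28)) = v21351 :=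
  Lrfl
theorem f795197 : Led Lsl_ef K49.v9146 = v21351 :=
  Lgr Lrot73 (Lpe (K49.f673778 IH) (Lpe (K49.f522450 IH) (Lpr_dt (K29.f456715 IH) (Lpr_et (K33.f456667 IH) (Lpr_dt (f795195 IH) (Lpn v21351))))))
theorem f17154 : Led Lsl_dt (LP (LK LD1_c7 LD2_c43 LD3_c6)) = (LP (LK LD1_c3 LD2_c50 LD3_c59)) :=
  Lre_d IH (LK LD1_c7 LD2_c43 LD3_c6) (LK LD1_c3 LD2_c50 LD3_c59) Lrfl Lrfl
theorem f95376 : Led Lsl_gt (LP (LK LD1_c3 LD2_c50 LD3_c59)) = (LP (LK LD1_c7 LD2_c43 LD3_c5)) :=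
  Lre_g IH (LK LD1_c3 LD2_c50 LD3_c59) (LK LD1_c7 LD2_c43 LD3_c5) Lrfl Lrfl
theorem f95377 : Led Lsl_dt (LP (LK LD1_c14 LD2_c32 LD3_c61)) = (LP (LK LD1_c7 LD2_c43 LD3_c5)) :=
  Lre_d IH (LK LD1_c14 LD2_c32 LD3_c61) (LK LD1_c7 LD2_c43 LD3_c5) Lrfl Lrfl
theorem f95378 : Led Lsl_et (LP (LK LD1_c14 LD2_c32 LD3_c61)) = (LP (LK LD1_c24 LD2_c15 LD3_c28)) :=
  Lre_e IH (LK LD1_c14 LD2_c32 LD3_c61) (LK LD1_c24 LD2_c15 LD3_c28) Lrfl Lrfl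
theorem f795196 : Led Lsl_df (LP (LK LD1_c7 LD2_c16 LD3_c28)) = v21351 :=
  Lgr Lrot38 (Lpr_dt (f795195 IH) (Lpn v21351))
theorem f456710 : Led Lsl_gt (LP (LK LD1_c13 LD2_c46 LD3_c0)) = (LP (LK LD1_c7 LD2_c16 LD3_c28)) :=
  Lre_g IH (LK LD1_c13 LD2_c46 LD3_c0) (LK LD1_c7 LD2_c16 LD3_c28) Lrfl Lrfl
theorem f795198 : Led Lsl_dt (LP (LK LD1_c23 LD2_c13 LD3_c7)) = (LP (LK LD1_c13 LD2_c46 LD3_c0)) :=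
  Lre_d IH (LK LD1_c23 LD2_c13 LD3_c7) (LK LD1_c13 LD2_c46 LD3_c0) Lrfl Lrfl
theorem f795200 : Led Lsl_gt (LP (LK LD1_c24 LD2_c15 LD3_c28)) = (LP (LK LD1_c23 LD2_c13 LD3_c7)) :=
  Lgr Lrot137 (Lpe (f95378 IH) (Lpr_dt (f95377 IH) (Lpe (f95376 IH) (Lpe (f17154 IH) (Lpe (K47.f95364 IH) (Lpr_gf (K49.f673779 IH) (Lpr_ef (f795197 IH) (Lpe (f795196 IH) (Lpe (f456710 IH) (Lpe (f795198 IH) (Lpn (LP (LK LD1_c23 LD2_c13 LD3_c7)))))))))))))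
theorem f795201 : Led Lsl_gt (LP (LK LD1_c24 LD2_c15 LD3_c28)) = (LP (LK LD1_c23 LD2_c13 LD3_c7)) :=
  Leop (Lpe (f795200 IH) (Lpn (LP (LK LD1_c24 LD2_c15 LD3_c28))))
theorem seed_1604 : LEOK LG_g (LK LD1_c24 LD2_c15 LD3_c28) :=
  Leoe_g (LK LD1_c24 LD2_c15 LD3_c28) (f795201 IH)
def v21375 : LQ := Led Lsl_gf (LP (LK LD1_c7 LD2_c16 LD3_c55))
theorem f795305 : Led Lsl_gf (LP (LK LD1_c7 LD2_c16 LD3_c55)) = v21375 :=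
  Lrfl
def v9167 : LQ := Led Lsl_ct K34.v2479
theorem f673845 : Led Lsl_ct K34.v2479 = v9167 :=
  Lrfl
theorem f673851 : Led Lsl_gf (LP (LK LD1_c6 LD2_c58 LD3_c38)) = v9167 :=
  Lgr Lrot148 (Lpe (K29.f482681 IH) (Lpr_gt (K29.f4374 IH) (Lpr_dt (K29.f4121 IH) (Lpr_ct (K2.f4122 IH) (Lpr_df (K3.f4027 IH) (Lpe (K3.f4444 IH) (Lpe (K3.f4425 IH) (Lpr_gf (K34.f522585 IH) (Lpr_ct (f673845 IH) (Lpn v9167))))))))))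
theorem f795309 : Led Lsl_df v9167 = v21375 :=
  Lgr Lrot155 (Lpe (f673851 IH) (Lpe (K29.f482702 IH) (Lpr_gt (K29.f129817 IH) (Lpr_ct (K28.f467998 IH) (Lpe (K28.f467982 IH) (Lpe (K34.f468006 IH) (Lpe (K34.f483158 IH) (Lpe (K35.f5311 IH) (Lpr_gf (f795305 IH) (Lpn v21375))))))))))
theorem f482723 : Led Lsl_gt (LP (LK LD1_c7 LD2_c17 LD3_c58)) = (LP (LK LD1_c13 LD2_c48 LD3_c42)) :=
  Lre_g IH (LK LD1_c7 LD2_c17 LD3_c58) (LK LD1_c13 LD2_c48 LD3_c42) Lrfl Lrfl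
theorem f482782 : Led Lsl_et (LP (LK LD1_c23 LD2_c17 LD3_c2)) = (LP (LK LD1_c13 LD2_c48 LD3_c42)) :=
  Lre_e IH (LK LD1_c23 LD2_c17 LD3_c2) (LK LD1_c13 LD2_c48 LD3_c42) Lrfl Lrfl
theorem f795306 : Led Lsl_gt (LP (LK LD1_c7 LD2_c16 LD3_c57)) = v21375 :=
  Lgr Lrot5 (Lpe (K34.f523830 IH) (Lpr_at (K34.f523840 IH) (Lpr_gf (f795305 IH) (Lpn v21375))))
theorem f471414 : Led Lsl_gt (LP (LK LD1_c24 LD2_c40 LD3_c22)) = (LP (LK LD1_c14 LD2_c53 LD3_c32)) :=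
  Lre_g IH (LK LD1_c24 LD2_c40 LD3_c22) (LK LD1_c14 LD2_c53 LD3_c32) Lrfl Lrfl
theorem f795312 : Led Lsl_dt (LP (LK LD1_c23 LD2_c17 LD3_c2)) = (LP (LK LD1_c24 LD2_c40 LD3_c22)) :=
  Lgr Lrot136 (Lpr_et (f482782 IH) (Lpe (f482723 IH) (Lpe (K35.f482687 IH) (Lpr_dt (K29.f482679 IH) (Lpr_gf (f673851 IH) (Lpr_df (f795309 IH) (Lpe (f795306 IH) (Lpe (K45.f471402 IH) (Lpe (K46.f471407 IH) (Lpe (f471414 IH) (Lpn (LP (LK LD1_c24 LD2_c40 LD3_c22)))))))))))))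
theorem f795313 : Led Lsl_dt (LP (LK LD1_c23 LD2_c17 LD3_c2)) = (LP (LK LD1_c24 LD2_c40 LD3_c22)) :=
  Leop (Lpe (f795312 IH) (Lpn (LP (LK LD1_c23 LD2_c17 LD3_c2))))
theorem seed_1605 : LEOK LG_d (LK LD1_c23 LD2_c17 LD3_c2) :=
  Leoe_d (LK LD1_c23 LD2_c17 LD3_c2) (f795313 IH)
def v21376 : LQ := Led Lsl_at (LP (LK LD1_c7 LD2_c16 LD3_c56))
theorem f795317 : Led Lsl_at (LP (LK LD1_c7 LD2_c16 LD3_c56)) = v21376 :=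
  Lrfl
theorem f525979 : Led Lsl_ft (LP (LK LD1_c3 LD2_c37 LD3_c13)) = (LP (LK LD1_c7 LD2_c13 LD3_c5)) :=
  Lgr Lrot48 (Lpr_ff (K45.f525970 IH) (Lpn (LP (LK LD1_c7 LD2_c13 LD3_c5))))
theorem f6318 : Led Lsl_bt (LP (LK LD1_c7 LD2_c14 LD3_c54)) = (LP (LK LD1_c3 LD2_c37 LD3_c13)) :=
  Lre_b IH (LK LD1_c7 LD2_c14 LD3_c54) (LK LD1_c3 LD2_c37 LD3_c13) Lrfl Lrfl
theorem f442001 : Led Lsl_bt (LP (LK LD1_c7 LD2_c13 LD3_c5)) = (LP (LK LD1_c13 LD2_c39 LD3_c49)) :=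
  Lre_b IH (LK LD1_c7 LD2_c13 LD3_c5) (LK LD1_c13 LD2_c39 LD3_c49) Lrfl Lrfl
theorem f526501 : Led Lsl_ff (LP (LK LD1_c7 LD2_c14 LD3_c54)) = (LP (LK LD1_c13 LD2_c39 LD3_c49)) :=
  Lgr Lrot25 (Lpr_bt (f6318 IH) (Lpr_ft (f525979 IH) (Lpr_bt (f442001 IH) (Lpn (LP (LK LD1_c13 LD2_c39 LD3_c49))))))
theorem f511726 : Led Lsl_dt (LP (LK LD1_c7 LD2_c14 LD3_c54)) = (LP (LK LD1_c13 LD2_c42 LD3_c51)) :=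
  Lre_d IH (LK LD1_c7 LD2_c14 LD3_c54) (LK LD1_c13 LD2_c42 LD3_c51) Lrfl Lrfl
theorem f526503 : Led Lsl_ft (LP (LK LD1_c13 LD2_c42 LD3_c51)) = (LP (LK LD1_c7 LD2_c17 LD3_c39)) :=
  Lgr Lrot54 (Lpe (f511726 IH) (Lpr_ff (f526501 IH) (Lpe (f442069 IH) (Lpn (LP (LK LD1_c7 LD2_c17 LD3_c39))))))
theorem f511728 : Led Lsl_et (LP (LK LD1_c22 LD2_c41 LD3_c22)) = (LP (LK LD1_c13 LD2_c42 LD3_c51)) :=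
  Lgr Lrot87 (Lpr_ef (f511724 IH) (Lpn (LP (LK LD1_c13 LD2_c42 LD3_c51))))
theorem f525956 : Led Lsl_ff (LP (LK LD1_c22 LD2_c41 LD3_c22)) = (LP (LK LD1_c13 LD2_c46 LD3_c48)) :=
  Lgr Lrot25 (Lpr_bt (K33.f511719 IH) (Lpr_ft (K45.f525954 IH) (Lpr_bt (K46.f471426 IH) (Lpn (LP (LK LD1_c13 LD2_c46 LD3_c48))))))
theorem f526506 : Led Lsl_ff (LP (LK LD1_c7 LD2_c16 LD3_c56)) = (LP (LK LD1_c3 LD2_c38 LD3_c38)) :=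
  Lgr Lrot72 (Lpr_et (K46.f471430 IH) (Lpe (f525956 IH) (Lpr_et (f511728 IH) (Lpr_ft (f526503 IH) (Lpr_et (f442082 IH) (Lpn (LP (LK LD1_c3 LD2_c38 LD3_c38))))))))
theorem f795323 : Led Lsl_gt (LP (LK LD1_c7 LD2_c17 LD3_c36)) = v21376 :=
  Lgr Lrot46 (Lpe (K47.f442083 IH) (Lpe (f526506 IH) (Lpr_at (f795317 IH) (Lpn v21376))))
theorem f575428 : Led Lsl_ct (LP (LK LD1_c20 LD2_c32 LD3_c29)) = (LP (LK LD1_c29 LD2_c30 LD3_c5)) :=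
  Lre_c IH (LK LD1_c20 LD2_c32 LD3_c29) (LK LD1_c29 LD2_c30 LD3_c5) Lrfl Lrfl
def v7401 : LQ := Led Lsl_gf (LP (LK LD1_c3 LD2_c46 LD3_c37))
theorem f664929 : Led Lsl_gf (LP (LK LD1_c3 LD2_c46 LD3_c37)) = v7401 :=
  Lrfl
theorem f526619 : Led Lsl_df (LP (LK LD1_c14 LD2_c21 LD3_c54)) = (LP (LK LD1_c13 LD2_c23 LD3_c37)) :=
  Lgr Lrot78 (Lpr_ft (K47.f526613 IH) (Lpr_dt (K46.f461169 IH) (Lpe (K46.f526591 IH) (Lpn (LP (LK LD1_c13 LD2_c23 LD3_c37))))))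
theorem f664932 : Led Lsl_et (LP (LK LD1_c13 LD2_c23 LD3_c37)) = v7401 :=
  Lgr Lrot185 (Lpe (f526619 IH) (Lpe (K47.f129873 IH) (Lpe (K47.f129870 IH) (Lpe (K34.f471275 IH) (Lpe (K28.f96854 IH) (Lpr_dt (K34.f158519 IH) (Lpe (K28.f103537 IH) (Lpe (K34.f120250 IH) (Lpr_et (K4.f120300 IH) (Lpr_gf (f664929 IH) (Lpn v7401)))))))))))
theorem f664933 : Led Lsl_af (LP (LK LD1_c3 LD2_c46 LD3_c43)) = v7401 :=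
  Lgr Lrot50 (Lpr_et (K46.f476197 IH) (Lpe (K46.f526558 IH) (Lpr_et (f664932 IH) (Lpn v7401))))
theorem f795320 : Led Lsl_cf v7401 = v21376 :=
  Lgr Lrot1 (Lpe (f664933 IH) (Lpr_ct (K47.f523471 IH) (Lpr_at (f795317 IH) (Lpn v21376))))
theorem f109533 : Led Lsl_ct (LP (LK LD1_c3 LD2_c46 LD3_c37)) = (LP (LK LD1_c7 LD2_c33 LD3_c45)) :=
  Lre_c IH (LK LD1_c3 LD2_c46 LD3_c37) (LK LD1_c7 LD2_c33 LD3_c45) Lrfl Lrfl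
theorem f566919 : Led Lsl_ct (LP (LK LD1_c20 LD2_c33 LD3_c9)) = (LP (LK LD1_c11 LD2_c35 LD3_c12)) :=
  Lre_c IH (LK LD1_c20 LD2_c33 LD3_c9) (LK LD1_c11 LD2_c35 LD3_c12) Lrfl Lrfl
theorem f795325 : Led Lsl_gt (LP (LK LD1_c29 LD2_c30 LD3_c5)) = (LP (LK LD1_c20 LD2_c33 LD3_c9)) :=
  Lgr Lrot150 (Lpe (f575428 IH) (Lpe (K47.f609470 IH) (Lpe (K47.f442084 IH) (Lpr_gt (f795323 IH) (Lpe (f795320 IH) (Lpe (f664929 IH) (Lpr_ct (f109533 IH) (Lpe (K41.f566913 IH) (Lpe (f566919 IH) (Lpn (LP (LK LD1_c20 LD2_c33 LD3_c9))))))))))))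
theorem f795326 : Led Lsl_gt (LP (LK LD1_c29 LD2_c30 LD3_c5)) = (LP (LK LD1_c20 LD2_c33 LD3_c9)) :=
  Leop (Lpe (f795325 IH) (Lpn (LP (LK LD1_c29 LD2_c30 LD3_c5))))
theorem seed_1606 : LEOK LG_g (LK LD1_c29 LD2_c30 LD3_c5) :=
  Leoe_g (LK LD1_c29 LD2_c30 LD3_c5) (f795326 IH)
def v21377 : LQ := Led Lsl_et (LP (LK LD1_c7 LD2_c17 LD3_c9))
theorem f795331 : Led Lsl_et (LP (LK LD1_c7 LD2_c17 LD3_c9)) = v21377 :=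
  Lrfl
theorem f795335 : Led Lsl_ef (LP (LK LD1_c7 LD2_c17 LD3_c9)) = v21377 :=
  Lgr Lrot88 (Lpr_et (f795331 IH) (Lpn v21377))
theorem f795338 : Led Lsl_ct (LP (LK LD1_c7 LD2_c17 LD3_c10)) = v21377 :=
  Lgr Lrot15 (Lpe (K43.f497680 IH) (Lpe (K28.f97474 IH) (Lpr_ef (f795335 IH) (Lpn v21377))))
theorem f795339 : Led Lsl_ff (LP (LK LD1_c14 LD2_c17 LD3_c35)) = v21377 :=
  Lgr Lrot23 (Lpr_ct (K61.f523538 IH) (Lpe (K61.f600942 IH) (Lpr_ct (f795338 IH) (Lpn v21377))))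
theorem f523541 : Led Lsl_cf (LP (LK LD1_c14 LD2_c17 LD3_c35)) = (LP (LK LD1_c13 LD2_c46 LD3_c46)) :=
  Lgr Lrot11 (Lpr_ct (K61.f523538 IH) (Lpn (LP (LK LD1_c13 LD2_c46 LD3_c46))))
theorem f610363 : Led Lsl_af (LP (LK LD1_c13 LD2_c47 LD3_c49)) = (LP (LK LD1_c14 LD2_c17 LD3_c35)) :=
  Lgr Lrot68 (Lpr_ct (K47.f609425 IH) (Lpr_at (K61.f609433 IH) (Lpe (f523541 IH) (Lpn (LP (LK LD1_c14 LD2_c17 LD3_c35))))))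
theorem f609417 : Led Lsl_bt (LP (LK LD1_c7 LD2_c17 LD3_c36)) = (LP (LK LD1_c7 LD2_c19 LD3_c27)) :=
  Lgr Lrot127 (Lpr_bf (K47.f609415 IH) (Lpn (LP (LK LD1_c7 LD2_c19 LD3_c27))))
theorem f479781 : Led Lsl_ct (LP (LK LD1_c7 LD2_c33 LD3_c48)) = (LP (LK LD1_c14 LD2_c15 LD3_c40)) :=
  Lre_c IH (LK LD1_c7 LD2_c33 LD3_c48) (LK LD1_c14 LD2_c15 LD3_c40) Lrfl Lrfl
theorem f610368 : Led Lsl_gf (LP (LK LD1_c13 LD2_c47 LD3_c49)) = (LP (LK LD1_c14 LD2_c15 LD3_c40)) :=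
  Lgr Lrot129 (Lpe (K47.f487406 IH) (Lpr_bt (f609417 IH) (Lpr_gt (K47.f479747 IH) (Lpe (K48.f479656 IH) (Lpr_ct (K48.f479657 IH) (Lpr_gt (K30.f5770 IH) (Lpe (K47.f440977 IH) (Lpr_bt (K3.f109508 IH) (Lpr_gt (K48.f120279 IH) (Lpr_ct (f479781 IH) (Lpn (LP (LK LD1_c14 LD2_c15 LD3_c40)))))))))))))
theorem f795341 : Led Lsl_gf (LP (LK LD1_c14 LD2_c15 LD3_c40)) = v21377 :=
  Lgr Lrot47 (Lpe (f610368 IH) (Lpr_af (f610363 IH) (Lpr_ff (f795339 IH) (Lpn v21377))))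
theorem f610371 : Led Lsl_dt (LP (LK LD1_c14 LD2_c15 LD3_c40)) = (LP (LK LD1_c23 LD2_c52 LD3_c22)) :=
  Lre_d IH (LK LD1_c14 LD2_c15 LD3_c40) (LK LD1_c23 LD2_c52 LD3_c22) Lrfl Lrfl
theorem f615872 : Led Lsl_df (LP (LK LD1_c13 LD2_c31 LD3_c42)) = (LP (LK LD1_c13 LD2_c47 LD3_c53)) :=
  Lgr Lrot38 (Lpr_dt (f615869 IH) (Lpn (LP (LK LD1_c13 LD2_c47 LD3_c53))))
theorem f615866 : Led Lsl_ct (LP (LK LD1_c22 LD2_c53 LD3_c17)) = (LP (LK LD1_c13 LD2_c31 LD3_c42)) :=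
  Lre_c IH (LK LD1_c22 LD2_c53 LD3_c17) (LK LD1_c13 LD2_c31 LD3_c42) Lrfl Lrfl
theorem f615871 : Led Lsl_dt (LP (LK LD1_c30 LD2_c46 LD3_c46)) = (LP (LK LD1_c22 LD2_c53 LD3_c17)) :=
  Lre_d IH (LK LD1_c30 LD2_c46 LD3_c46) (LK LD1_c22 LD2_c53 LD3_c17) Lrfl Lrfl
theorem f795342 : Led Lsl_gt (LP (LK LD1_c23 LD2_c52 LD3_c22)) = (LP (LK LD1_c30 LD2_c46 LD3_c46)) :=
  Lgr Lrot49 (Lpe (f610371 IH) (Lpr_gf (f795341 IH) (Lpe (f795338 IH) (Lpe (f610335 IH) (Lpr_dt (f442088 IH) (Lpr_gt (f442090 IH) (Lpe (f615872 IH) (Lpe (f615866 IH) (Lpe (f615871 IH) (Lpn (LP (LK LD1_c30 LD2_c46 LD3_c46))))))))))))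
theorem f795343 : Led Lsl_gt (LP (LK LD1_c23 LD2_c52 LD3_c22)) = (LP (LK LD1_c30 LD2_c46 LD3_c46)) :=
  Leop (Lpe (f795342 IH) (Lpn (LP (LK LD1_c23 LD2_c52 LD3_c22))))
theorem seed_1607 : LEOK LG_g (LK LD1_c23 LD2_c52 LD3_c22) :=
  Leoe_g (LK LD1_c23 LD2_c52 LD3_c22) (f795343 IH)
def v21384 : LQ := Led Lsl_at (LP (LK LD1_c7 LD2_c18 LD3_c4))
theorem f795381 : Led Lsl_at (LP (LK LD1_c7 LD2_c18 LD3_c4)) = v21384 :=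
  Lrfl
theorem f795386 : Led Lsl_gt (LP (LK LD1_c7 LD2_c23 LD3_c0)) = v21384 :=
  Lgr Lrot46 (Lpr_gf (K46.f543182 IH) (Lpe (K34.f517487 IH) (Lpr_at (f795381 IH) (Lpn v21384))))
theorem f479717 : Led Lsl_gt (LP (LK LD1_c7 LD2_c19 LD3_c29)) = (LP (LK LD1_c13 LD2_c51 LD3_c14)) :=
  Lre_g IH (LK LD1_c7 LD2_c19 LD3_c29) (LK LD1_c13 LD2_c51 LD3_c14) Lrfl Lrfl
theorem f609343 : Led Lsl_ct (LP (LK LD1_c13 LD2_c51 LD3_c14)) = (LP (LK LD1_c23 LD2_c20 LD3_c32)) :=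
  Lre_c IH (LK LD1_c13 LD2_c51 LD3_c14) (LK LD1_c23 LD2_c20 LD3_c32) Lrfl Lrfl
theorem f517486 : Led Lsl_at (LP (LK LD1_c7 LD2_c18 LD3_c9)) = (LP (LK LD1_c3 LD2_c38 LD3_c54)) :=
  Lre_a IH (LK LD1_c7 LD2_c18 LD3_c9) (LK LD1_c3 LD2_c38 LD3_c54) Lrfl Lrfl
theorem f795384 : Led Lsl_cf (LP (LK LD1_c7 LD2_c18 LD3_c9)) = v21384 :=
  Lgr Lrot1 (Lpr_at (f517486 IH) (Lpr_ct (K46.f456436 IH) (Lpr_at (f795381 IH) (Lpn v21384))))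
theorem f517500 : Led Lsl_dt (LP (LK LD1_c13 LD2_c49 LD3_c4)) = (LP (LK LD1_c7 LD2_c18 LD3_c9)) :=
  Lre_d IH (LK LD1_c13 LD2_c49 LD3_c4) (LK LD1_c7 LD2_c18 LD3_c9) Lrfl Lrfl
theorem f517499 : Led Lsl_ct (LP (LK LD1_c23 LD2_c17 LD3_c55)) = (LP (LK LD1_c13 LD2_c49 LD3_c4)) :=
  Lre_c IH (LK LD1_c23 LD2_c17 LD3_c55) (LK LD1_c13 LD2_c49 LD3_c4) Lrfl Lrfl
theorem f795388 : Led Lsl_gt (LP (LK LD1_c23 LD2_c20 LD3_c32)) = (LP (LK LD1_c23 LD2_c17 LD3_c55)) :=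
  Lgr Lrot150 (Lpe (f609343 IH) (Lpe (f479717 IH) (Lpe (K47.f479711 IH) (Lpe (K47.f609337 IH) (Lpe (K50.f147336 IH) (Lpr_gt (f795386 IH) (Lpe (f795384 IH) (Lpe (f517500 IH) (Lpe (f517499 IH) (Lpn (LP (LK LD1_c23 LD2_c17 LD3_c55))))))))))))
theorem f795389 : Led Lsl_gt (LP (LK LD1_c23 LD2_c20 LD3_c32)) = (LP (LK LD1_c23 LD2_c17 LD3_c55)) :=
  Leop (Lpe (f795388 IH) (Lpn (LP (LK LD1_c23 LD2_c20 LD3_c32))))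
theorem seed_1608 : LEOK LG_g (LK LD1_c23 LD2_c20 LD3_c32) :=
  Leoe_g (LK LD1_c23 LD2_c20 LD3_c32) (f795389 IH)
def v21386 : LQ := Led Lsl_et (LP (LK LD1_c7 LD2_c18 LD3_c4))
theorem f795404 : Led Lsl_et (LP (LK LD1_c7 LD2_c18 LD3_c4)) = v21386 :=
  Lrfl
theorem f795406 : Led Lsl_cf (LP (LK LD1_c7 LD2_c18 LD3_c11)) = v21386 :=
  Lgr Lrot39 (Lpr_et (K46.f517272 IH) (Lpr_ct (K46.f456436 IH) (Lpr_et (f795404 IH) (Lpn v21386))))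
theorem f795405 : Led Lsl_bf K47.v7092 = v21386 :=
  Lgr Lrot96 (Lpe (K47.f660889 IH) (Lpr_bt (K46.f478297 IH) (Lpr_et (f795404 IH) (Lpn v21386))))
theorem f658884 : Led Lsl_ef (LP (LK LD1_c3 LD2_c31 LD3_c42)) = K61.v6839 :=
  Lgr Lrot88 (Lpr_et (K61.f658881 IH) (Lpn K61.v6839))
theorem f658888 : Led Lsl_bt (LP (LK LD1_c3 LD2_c31 LD3_c44)) = K61.v6839 :=
  Lgr Lrot119 (Lpe (K34.f459228 IH) (Lpe (K28.f458442 IH) (Lpr_ef (f658884 IH) (Lpn K61.v6839))))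
theorem f455779 : Led Lsl_ct (LP (LK LD1_c3 LD2_c31 LD3_c44)) = (LP (LK LD1_c1 LD2_c42 LD3_c28)) :=
  Lre_c IH (LK LD1_c3 LD2_c31 LD3_c44) (LK LD1_c1 LD2_c42 LD3_c28) Lrfl Lrfl
theorem f480450 : Led Lsl_gt (LP (LK LD1_c13 LD2_c26 LD3_c0)) = (LP (LK LD1_c22 LD2_c45 LD3_c24)) :=
  Lre_g IH (LK LD1_c13 LD2_c26 LD3_c0) (LK LD1_c22 LD2_c45 LD3_c24) Lrfl Lrfl
theorem f795412 : Led Lsl_cf (LP (LK LD1_c13 LD2_c49 LD3_c10)) = (LP (LK LD1_c22 LD2_c45 LD3_c24)) :=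
  Lgr Lrot125 (Lpr_gt (f522347 IH) (Lpr_cf (f795406 IH) (Lpe (f795405 IH) (Lpe (K61.f660936 IH) (Lpe (f658888 IH) (Lpr_ct (f455779 IH) (Lpr_gt (K34.f455781 IH) (Lpe (K48.f480435 IH) (Lpr_bt (K48.f480438 IH) (Lpr_gt (f480450 IH) (Lpn (LP (LK LD1_c22 LD2_c45 LD3_c24)))))))))))))
theorem f795413 : Led Lsl_ct (LP (LK LD1_c22 LD2_c45 LD3_c24)) = (LP (LK LD1_c13 LD2_c49 LD3_c10)) :=
  Leop (Lpr_cf (f795412 IH) (Lpn (LP (LK LD1_c22 LD2_c45 LD3_c24))))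
theorem seed_1609 : LEOK LG_c (LK LD1_c22 LD2_c45 LD3_c24) :=
  Leoe_c (LK LD1_c22 LD2_c45 LD3_c24) (f795413 IH)
def v21389 : LQ := Led Lsl_at (LP (LK LD1_c7 LD2_c18 LD3_c6))
theorem f795478 : Led Lsl_at (LP (LK LD1_c7 LD2_c18 LD3_c6)) = v21389 :=
  Lrfl
theorem f109592 : Led Lsl_at (LP (LK LD1_c13 LD2_c18 LD3_c4)) = (LP (LK LD1_c7 LD2_c0 LD3_c44)) :=
  Lre_a IH (LK LD1_c13 LD2_c18 LD3_c4) (LK LD1_c7 LD2_c0 LD3_c44) Lrfl Lrfl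
theorem f795482 : Led Lsl_ff (LP (LK LD1_c13 LD2_c18 LD3_c4)) = v21389 :=
  Lgr Lrot30 (Lpr_at (f109592 IH) (Lpe (K43.f467048 IH) (Lpr_at (f795478 IH) (Lpn v21389))))
theorem f795487 : Led Lsl_gf (LP (LK LD1_c13 LD2_c18 LD3_c6)) = v21389 :=
  Lgr Lrot47 (Lpr_gt (K47.f482933 IH) (Lpe (f109592 IH) (Lpr_ff (f795482 IH) (Lpn v21389))))
theorem f529867 : Led Lsl_dt (LP (LK LD1_c13 LD2_c18 LD3_c6)) = (LP (LK LD1_c22 LD2_c34 LD3_c0)) :=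
  Lre_d IH (LK LD1_c13 LD2_c18 LD3_c6) (LK LD1_c22 LD2_c34 LD3_c0) Lrfl Lrfl
theorem f795485 : Led Lsl_ct (LP (LK LD1_c13 LD2_c18 LD3_c17)) = v21389 :=
  Lgr Lrot40 (Lpe (K3.f109562 IH) (Lpe (K3.f109579 IH) (Lpr_ff (f795482 IH) (Lpn v21389))))
theorem f109635 : Led Lsl_dt (LP (LK LD1_c7 LD2_c0 LD3_c55)) = (LP (LK LD1_c13 LD2_c18 LD3_c24)) :=
  Lre_d IH (LK LD1_c7 LD2_c0 LD3_c55) (LK LD1_c13 LD2_c18 LD3_c24) Lrfl Lrfl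
theorem f628357 : Led Lsl_af (LP (LK LD1_c13 LD2_c6 LD3_c57)) = (LP (LK LD1_c13 LD2_c18 LD3_c22)) :=
  Lgr Lrot117 (Lpr_dt (K48.f628200 IH) (Lpr_at (K48.f628342 IH) (Lpr_dt (K47.f120297 IH) (Lpn (LP (LK LD1_c13 LD2_c18 LD3_c22))))))
theorem f628410 : Led Lsl_at (LP (LK LD1_c13 LD2_c6 LD3_c57)) = (LP (LK LD1_c13 LD2_c18 LD3_c22)) :=
  Lgr Lrot100 (Lpr_af (f628357 IH) (Lpn (LP (LK LD1_c13 LD2_c18 LD3_c22))))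
theorem f628337 : Led Lsl_ff (LP (LK LD1_c13 LD2_c6 LD3_c57)) = (LP (LK LD1_c13 LD2_c18 LD3_c24)) :=
  Lgr Lrot19 (Lpr_dt (K48.f628200 IH) (Lpr_ft (K48.f628198 IH) (Lpr_dt (f109635 IH) (Lpn (LP (LK LD1_c13 LD2_c18 LD3_c24))))))
theorem f628426 : Led Lsl_gt (LP (LK LD1_c13 LD2_c18 LD3_c24)) = (LP (LK LD1_c14 LD2_c43 LD3_c33)) :=
  Lgr Lrot5 (Lpe (f628337 IH) (Lpr_at (f628410 IH) (Lpr_gf (K47.f475051 IH) (Lpn (LP (LK LD1_c14 LD2_c43 LD3_c33))))))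
theorem f475062 : Led Lsl_dt (LP (LK LD1_c14 LD2_c43 LD3_c33)) = (LP (LK LD1_c7 LD2_c48 LD3_c14)) :=
  Lre_d IH (LK LD1_c14 LD2_c43 LD3_c33) (LK LD1_c7 LD2_c48 LD3_c14) Lrfl Lrfl
theorem f482636 : Led Lsl_ff (LP (LK LD1_c7 LD2_c18 LD3_c18)) = (LP (LK LD1_c3 LD2_c53 LD3_c6)) :=
  Lgr Lrot3 (Lpr_ft (K29.f482625 IH) (Lpn (LP (LK LD1_c3 LD2_c53 LD3_c6))))
theorem f482618 : Led Lsl_bt (LP (LK LD1_c7 LD2_c18 LD3_c18)) = (LP (LK LD1_c13 LD2_c49 LD3_c23)) :=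
  Lre_b IH (LK LD1_c7 LD2_c18 LD3_c18) (LK LD1_c13 LD2_c49 LD3_c23) Lrfl Lrfl
theorem f482638 : Led Lsl_ft (LP (LK LD1_c13 LD2_c49 LD3_c23)) = (LP (LK LD1_c7 LD2_c47 LD3_c60)) :=
  Lgr Lrot75 (Lpe (f482618 IH) (Lpr_ff (f482636 IH) (Lpe (K60.f467995 IH) (Lpn (LP (LK LD1_c7 LD2_c47 LD3_c60))))))
theorem f468066 : Led Lsl_et (LP (LK LD1_c7 LD2_c47 LD3_c60)) = (LP (LK LD1_c3 LD2_c53 LD3_c4)) :=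
  Lre_e IH (LK LD1_c7 LD2_c47 LD3_c60) (LK LD1_c3 LD2_c53 LD3_c4) Lrfl Lrfl
theorem f475031 : Led Lsl_ff (LP (LK LD1_c7 LD2_c13 LD3_c35)) = (LP (LK LD1_c3 LD2_c53 LD3_c4)) :=
  Lgr Lrot23 (Lpe (K29.f461976 IH) (Lpr_ft (K29.f475018 IH) (Lpr_ct (K57.f88013 IH) (Lpn (LP (LK LD1_c3 LD2_c53 LD3_c4))))))
theorem f458615 : Led Lsl_bt (LP (LK LD1_c7 LD2_c48 LD3_c4)) = (LP (LK LD1_c3 LD2_c53 LD3_c9)) :=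
  Lre_b IH (LK LD1_c7 LD2_c48 LD3_c4) (LK LD1_c3 LD2_c53 LD3_c9) Lrfl Lrfl
theorem f461964 : Led Lsl_ef (LP (LK LD1_c7 LD2_c48 LD3_c4)) = (LP (LK LD1_c7 LD2_c13 LD3_c35)) :=
  Lgr Lrot29 (Lpr_bt (f458615 IH) (Lpr_et (K28.f461961 IH) (Lpr_bt (K29.f461963 IH) (Lpn (LP (LK LD1_c7 LD2_c13 LD3_c35))))))
theorem f462016 : Led Lsl_ct (LP (LK LD1_c14 LD2_c21 LD3_c46)) = (LP (LK LD1_c7 LD2_c37 LD3_c16)) :=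
  Lre_c IH (LK LD1_c14 LD2_c21 LD3_c46) (LK LD1_c7 LD2_c37 LD3_c16) Lrfl Lrfl
theorem f476378 : Led Lsl_ft (LP (LK LD1_c7 LD2_c48 LD3_c4)) = (LP (LK LD1_c14 LD2_c21 LD3_c46)) :=
  Lgr Lrot4 (Lpe (K48.f129862 IH) (Lpr_ff (K47.f474055 IH) (Lpe (f462016 IH) (Lpn (LP (LK LD1_c14 LD2_c21 LD3_c46))))))
theorem f482644 : Led Lsl_ef (LP (LK LD1_c13 LD2_c49 LD3_c23)) = (LP (LK LD1_c14 LD2_c21 LD3_c46)) :=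
  Lgr Lrot21 (Lpr_ft (f482638 IH) (Lpr_et (f468066 IH) (Lpe (f475031 IH) (Lpe (f461964 IH) (Lpr_ft (f476378 IH) (Lpn (LP (LK LD1_c14 LD2_c21 LD3_c46))))))))
theorem f462029 : Led Lsl_ct (LP (LK LD1_c7 LD2_c37 LD3_c16)) = (LP (LK LD1_c14 LD2_c21 LD3_c46)) :=
  Lre_c IH (LK LD1_c7 LD2_c37 LD3_c16) (LK LD1_c14 LD2_c21 LD3_c46) Lrfl Lrfl
theorem f482646 : Led Lsl_ct (LP (LK LD1_c13 LD2_c49 LD3_c23)) = (LP (LK LD1_c7 LD2_c48 LD3_c14)) :=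
  Lgr Lrot15 (Lpr_ef (f482644 IH) (Lpe (f462029 IH) (Lpr_ef (K47.f475035 IH) (Lpn (LP (LK LD1_c7 LD2_c48 LD3_c14))))))
theorem f468015 : Led Lsl_df (LP (LK LD1_c13 LD2_c49 LD3_c14)) = (LP (LK LD1_c7 LD2_c48 LD3_c2)) :=
  Lgr Lrot38 (Lpr_dt (K29.f468004 IH) (Lpn (LP (LK LD1_c7 LD2_c48 LD3_c2))))
theorem f468037 : Led Lsl_bt (LP (LK LD1_c13 LD2_c49 LD3_c14)) = (LP (LK LD1_c23 LD2_c18 LD3_c8)) :=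
  Lre_b IH (LK LD1_c13 LD2_c49 LD3_c14) (LK LD1_c23 LD2_c18 LD3_c8) Lrfl Lrfl
theorem f468038 : Led Lsl_bt (LP (LK LD1_c14 LD2_c42 LD3_c61)) = (LP (LK LD1_c7 LD2_c48 LD3_c2)) :=
  Lre_b IH (LK LD1_c14 LD2_c42 LD3_c61) (LK LD1_c7 LD2_c48 LD3_c2) Lrfl Lrfl
theorem f468039 : Led Lsl_dt (LP (LK LD1_c23 LD2_c18 LD3_c8)) = (LP (LK LD1_c14 LD2_c42 LD3_c61)) :=
  Lgr Lrot79 (Lpe (f468037 IH) (Lpr_df (f468015 IH) (Lpe (f468038 IH) (Lpn (LP (LK LD1_c14 LD2_c42 LD3_c61))))))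
theorem f468044 : Led Lsl_et (LP (LK LD1_c13 LD2_c49 LD3_c12)) = (LP (LK LD1_c23 LD2_c18 LD3_c8)) :=
  Lre_e IH (LK LD1_c13 LD2_c49 LD3_c12) (LK LD1_c23 LD2_c18 LD3_c8) Lrfl Lrfl
theorem f468045 : Led Lsl_et (LP (LK LD1_c14 LD2_c42 LD3_c61)) = (LP (LK LD1_c7 LD2_c47 LD3_c59)) :=
  Lre_e IH (LK LD1_c14 LD2_c42 LD3_c61) (LK LD1_c7 LD2_c47 LD3_c59) Lrfl Lrfl
theorem f468046 : Led Lsl_et (LP (LK LD1_c3 LD2_c53 LD3_c4)) = (LP (LK LD1_c7 LD2_c47 LD3_c60)) :=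
  Lre_e IH (LK LD1_c3 LD2_c53 LD3_c4) (LK LD1_c7 LD2_c47 LD3_c60) Lrfl Lrfl
theorem f468047 : Led Lsl_df (LP (LK LD1_c13 LD2_c49 LD3_c12)) = (LP (LK LD1_c7 LD2_c47 LD3_c60)) :=
  Lgr Lrot70 (Lpr_et (f468044 IH) (Lpr_dt (f468039 IH) (Lpr_et (f468045 IH) (Lpr_dt (K47.f88010 IH) (Lpr_et (f468046 IH) (Lpn (LP (LK LD1_c7 LD2_c47 LD3_c60))))))))
theorem f481359 : Led Lsl_bt (LP (LK LD1_c23 LD2_c14 LD3_c25)) = (LP (LK LD1_c13 LD2_c46 LD3_c58)) :=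
  Lre_b IH (LK LD1_c23 LD2_c14 LD3_c25) (LK LD1_c13 LD2_c46 LD3_c58) Lrfl Lrfl
theorem f467994 : Led Lsl_bt (LP (LK LD1_c7 LD2_c18 LD3_c12)) = (LP (LK LD1_c13 LD2_c49 LD3_c12)) :=
  Lre_b IH (LK LD1_c7 LD2_c18 LD3_c12) (LK LD1_c13 LD2_c49 LD3_c12) Lrfl Lrfl
theorem f481360 : Led Lsl_ff (LP (LK LD1_c23 LD2_c14 LD3_c25)) = (LP (LK LD1_c13 LD2_c49 LD3_c12)) :=
  Lgr Lrot25 (Lpr_bt (f481359 IH) (Lpr_ft (K29.f481351 IH) (Lpr_bt (f467994 IH) (Lpn (LP (LK LD1_c13 LD2_c49 LD3_c12))))))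
theorem f482642 : Led Lsl_df (LP (LK LD1_c13 LD2_c49 LD3_c23)) = (LP (LK LD1_c23 LD2_c14 LD3_c25)) :=
  Lgr Lrot78 (Lpr_ft (f482638 IH) (Lpe (f468047 IH) (Lpe (f481360 IH) (Lpn (LP (LK LD1_c23 LD2_c14 LD3_c25))))))
theorem f795488 : Led Lsl_gt (LP (LK LD1_c22 LD2_c34 LD3_c0)) = (LP (LK LD1_c23 LD2_c14 LD3_c25)) :=
  Lgr Lrot49 (Lpe (f529867 IH) (Lpr_gf (f795487 IH) (Lpe (f795485 IH) (Lpr_gt (K48.f109634 IH) (Lpr_dt (f109635 IH) (Lpr_gt (f628426 IH) (Lpr_dt (f475062 IH) (Lpe (f482646 IH) (Lpr_df (f482642 IH) (Lpn (LP (LK LD1_c23 LD2_c14 LD3_c25))))))))))))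
theorem f795489 : Led Lsl_gt (LP (LK LD1_c22 LD2_c34 LD3_c0)) = (LP (LK LD1_c23 LD2_c14 LD3_c25)) :=
  Leop (Lpe (f795488 IH) (Lpn (LP (LK LD1_c22 LD2_c34 LD3_c0))))
theorem seed_1610 : LEOK LG_g (LK LD1_c22 LD2_c34 LD3_c0) :=
  Leoe_g (LK LD1_c22 LD2_c34 LD3_c0) (f795489 IH)
def v21392 : LQ := Led Lsl_bt (LP (LK LD1_c7 LD2_c18 LD3_c13))
theorem f795507 : Led Lsl_bt (LP (LK LD1_c7 LD2_c18 LD3_c13)) = v21392 :=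
  Lrfl
theorem f795510 : Led Lsl_ff (LP (LK LD1_c13 LD2_c52 LD3_c3)) = v21392 :=
  Lgr Lrot25 (Lpr_bt (f794441 IH) (Lpr_ft (K29.f475138 IH) (Lpr_bt (f795507 IH) (Lpn v21392))))
theorem f795512 : Led Lsl_ft (LP (LK LD1_c13 LD2_c52 LD3_c3)) = v21392 :=
  Lgr Lrot48 (Lpr_ff (f795510 IH) (Lpn v21392))
theorem f566292 : Led Lsl_gt (LP (LK LD1_c7 LD2_c19 LD3_c52)) = (LP (LK LD1_c13 LD2_c52 LD3_c2)) :=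
  Lre_g IH (LK LD1_c7 LD2_c19 LD3_c52) (LK LD1_c13 LD2_c52 LD3_c2) Lrfl Lrfl
theorem f795513 : Led Lsl_af (LP (LK LD1_c13 LD2_c52 LD3_c2)) = v21392 :=
  Lgr Lrot31 (Lpe (f566292 IH) (Lpe (f511779 IH) (Lpr_ft (f795512 IH) (Lpn v21392))))
theorem f795515 : Led Lsl_bt (LP (LK LD1_c13 LD2_c52 LD3_c2)) = (LP (LK LD1_c23 LD2_c21 LD3_c43)) :=
  Lre_b IH (LK LD1_c13 LD2_c52 LD3_c2) (LK LD1_c23 LD2_c21 LD3_c43) Lrfl Lrfl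
theorem f795516 : Led Lsl_at (LP (LK LD1_c23 LD2_c21 LD3_c43)) = (LP (LK LD1_c23 LD2_c14 LD3_c25)) :=
  Lgr Lrot67 (Lpe (f795515 IH) (Lpr_af (f795513 IH) (Lpe (f795507 IH) (Lpe (K29.f481364 IH) (Lpe (f481359 IH) (Lpn (LP (LK LD1_c23 LD2_c14 LD3_c25))))))))
theorem f795517 : Led Lsl_at (LP (LK LD1_c23 LD2_c21 LD3_c43)) = (LP (LK LD1_c23 LD2_c14 LD3_c25)) :=
  Leop (Lpe (f795516 IH) (Lpn (LP (LK LD1_c23 LD2_c21 LD3_c43))))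
theorem seed_1611 : LEOK LG_a (LK LD1_c23 LD2_c21 LD3_c43) :=
  Leoe_a (LK LD1_c23 LD2_c21 LD3_c43) (f795517 IH)
def v21393 : LQ := Led Lsl_gf (LP (LK LD1_c7 LD2_c18 LD3_c14))
theorem f795527 : Led Lsl_gf (LP (LK LD1_c7 LD2_c18 LD3_c14)) = v21393 :=
  Lrfl
theorem f795530 : Led Lsl_ct K47.v7090 = v21393 :=
  Lgr Lrot8 (Lpe (K47.f660859 IH) (Lpr_dt (K34.f4271 IH) (Lpr_gt (K29.f4270 IH) (Lpr_dt (K29.f4262 IH) (Lpe (K29.f4149 IH) (Lpe (K29.f4091 IH) (Lpe (K29.f4117 IH) (Lpr_df (K33.f481628 IH) (Lpr_gf (f795527 IH) (Lpn v21393))))))))))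
theorem f10649 : Led Lsl_dt (LP (LK LD1_c1 LD2_c43 LD3_c39)) = (LP (LK LD1_c3 LD2_c33 LD3_c55)) :=
  Lre_d IH (LK LD1_c1 LD2_c43 LD3_c39) (LK LD1_c3 LD2_c33 LD3_c55) Lrfl Lrfl
def v7120 : LQ := Led Lsl_gf (LP (LK LD1_c3 LD2_c39 LD3_c36))
theorem f661314 : Led Lsl_gf (LP (LK LD1_c3 LD2_c39 LD3_c36)) = v7120 :=
  Lrfl
theorem f673576 : Led Lsl_df v7120 = K60.v9101 :=
  Lgr Lrot170 (Lpe (f661314 IH) (Lpe (K60.f5646 IH) (Lpr_et (K35.f17518 IH) (Lpr_gt (K48.f661334 IH) (Lpq (K48.f661345 IH) (Lpr_dt (K24.f93155 IH) (Lpe (K41.f524943 IH) (Lpe (f10649 IH) (Lpr_et (K35.f514974 IH) (Lpr_gt (K47.f658109 IH) (Lpr_ef (K60.f673573 IH) (Lpn K60.v9101))))))))))))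
theorem f673578 : Led Lsl_dt v7120 = K60.v9101 :=
  Lgr Lrot42 (Lpr_df (f673576 IH) (Lpn K60.v9101))
theorem f673572 : Led Lsl_bf K47.v6732 = K60.v9101 :=
  Lgr Lrot96 (Lpe (K47.f658114 IH) (Lpr_bt (K47.f658105 IH) (Lpr_et (K60.f673571 IH) (Lpn K60.v9101))))
theorem f673579 : Led Lsl_bf v7120 = K47.v7090 :=
  Lgr Lrot93 (Lpr_dt (f673578 IH) (Lpe (f673572 IH) (Lpr_dt (K47.f660862 IH) (Lpn K47.v7090))))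
theorem f661309 : Led Lsl_bt (LP (LK LD1_c7 LD2_c19 LD3_c24)) = (LP (LK LD1_c3 LD2_c39 LD3_c36)) :=
  Lre_b IH (LK LD1_c7 LD2_c19 LD3_c24) (LK LD1_c3 LD2_c39 LD3_c36) Lrfl Lrfl
theorem f551686 : Led Lsl_ct (LP (LK LD1_c7 LD2_c19 LD3_c24)) = (LP (LK LD1_c13 LD2_c51 LD3_c4)) :=
  Lre_c IH (LK LD1_c7 LD2_c19 LD3_c24) (LK LD1_c13 LD2_c51 LD3_c4) Lrfl Lrfl
theorem f795528 : Led Lsl_gt (LP (LK LD1_c7 LD2_c18 LD3_c25)) = v21393 :=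
  Lgr Lrot5 (Lpr_ft (K33.f517330 IH) (Lpe (K33.f517323 IH) (Lpr_gf (f795527 IH) (Lpn v21393))))
theorem f468055 : Led Lsl_bt (LP (LK LD1_c13 LD2_c49 LD3_c12)) = (LP (LK LD1_c7 LD2_c18 LD3_c12)) :=
  Lre_b IH (LK LD1_c13 LD2_c49 LD3_c12) (LK LD1_c7 LD2_c18 LD3_c12) Lrfl Lrfl
theorem f468057 : Led Lsl_ct (LP (LK LD1_c13 LD2_c49 LD3_c12)) = (LP (LK LD1_c23 LD2_c18 LD3_c7)) :=
  Lre_c IH (LK LD1_c13 LD2_c49 LD3_c12) (LK LD1_c23 LD2_c18 LD3_c7) Lrfl Lrfl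
theorem f795533 : Led Lsl_gt (LP (LK LD1_c13 LD2_c51 LD3_c4)) = (LP (LK LD1_c23 LD2_c18 LD3_c7)) :=
  Lgr Lrot65 (Lpe (f551686 IH) (Lpr_bt (f661309 IH) (Lpr_gf (f661314 IH) (Lpr_bf (f673579 IH) (Lpr_ct (f795530 IH) (Lpe (f795528 IH) (Lpe (K33.f481513 IH) (Lpr_gf (K30.f483068 IH) (Lpe (f468055 IH) (Lpr_ct (f468057 IH) (Lpn (LP (LK LD1_c23 LD2_c18 LD3_c7)))))))))))))
theorem f795534 : Led Lsl_gt (LP (LK LD1_c13 LD2_c51 LD3_c4)) = (LP (LK LD1_c23 LD2_c18 LD3_c7)) :=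
  Leop (Lpe (f795533 IH) (Lpn (LP (LK LD1_c13 LD2_c51 LD3_c4))))
theorem seed_1612 : LEOK LG_g (LK LD1_c13 LD2_c51 LD3_c4) :=
  Leoe_g (LK LD1_c13 LD2_c51 LD3_c4) (f795534 IH)
def v21401 : LQ := Led Lsl_gf (LP (LK LD1_c7 LD2_c18 LD3_c30))
theorem f795591 : Led Lsl_gf (LP (LK LD1_c7 LD2_c18 LD3_c30)) = v21401 :=
  Lrfl
theorem f5280 : Led Lsl_bt (LP (LK LD1_c3 LD2_c39 LD3_c1)) = (LP (LK LD1_c7 LD2_c18 LD3_c30)) :=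
  Lre_b IH (LK LD1_c3 LD2_c39 LD3_c1) (LK LD1_c7 LD2_c18 LD3_c30) Lrfl Lrfl
theorem f455308 : Led Lsl_et (LP (LK LD1_c1 LD2_c40 LD3_c42)) = (LP (LK LD1_c3 LD2_c28 LD3_c12)) :=
  Lre_e IH (LK LD1_c1 LD2_c40 LD3_c42) (LK LD1_c3 LD2_c28 LD3_c12) Lrfl Lrfl
theorem f535440 : Led Lsl_bt (LP (LK LD1_c3 LD2_c28 LD3_c12)) = K61.v2768 :=
  Lgr Lrot119 (Lpe (f455308 IH) (Lpe (K28.f458629 IH) (Lpr_ef (K61.f535439 IH) (Lpn K61.v2768))))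
theorem f661406 : Led Lsl_ft K49.v2439 = K49.v7130 :=
  Lgr Lrot48 (Lpr_ff (K49.f661403 IH) (Lpn K49.v7130))
theorem f675861 : Led Lsl_ct K49.v7130 = K49.v9422 :=
  Lgr Lrot40 (Lpe (f661406 IH) (Lpr_cf (K60.f530180 IH) (Lpr_ff (K49.f675857 IH) (Lpn K49.v9422))))
def v9503 : LQ := Led Lsl_gf K60.v2732
theorem f676314 : Led Lsl_gf K60.v2732 = v9503 :=
  Lrfl
theorem f531658 : Led Lsl_at K49.v2663 = K60.v2732 :=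
  Lgr Lrot80 (Lpe (K49.f530179 IH) (Lpr_af (K60.f529075 IH) (Lpr_ef (K60.f531657 IH) (Lpn K60.v2732))))
theorem f676315 : Led Lsl_gt K49.v9422 = v9503 :=
  Lgr Lrot5 (Lpe (K49.f675857 IH) (Lpr_at (f531658 IH) (Lpr_gf (f676314 IH) (Lpn v9503))))
def v826 : LQ := Led Lsl_dt (LP (LK LD1_c0 LD2_c51 LD3_c61))
def v3428 : LQ := Led Lsl_gf v826
theorem f625609 : Led Lsl_gf v826 = v3428 :=
  Lrfl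
theorem f459588 : Led Lsl_dt (LP (LK LD1_c0 LD2_c51 LD3_c61)) = v826 :=
  Lrfl
theorem f92301 : Led Lsl_et (LP (LK LD1_c0 LD2_c51 LD3_c61)) = (LP (LK LD1_c0 LD2_c23 LD3_c31)) :=
  Lre_e IH (LK LD1_c0 LD2_c51 LD3_c61) (LK LD1_c0 LD2_c23 LD3_c31) Lrfl Lrfl
theorem f479305 : Led Lsl_gt (LP (LK LD1_c1 LD2_c51 LD3_c33)) = (LP (LK LD1_c1 LD2_c54 LD3_c15)) :=
  Lgr Lrot82 (Lpr_bf (K29.f440572 IH) (Lpe (K29.f440574 IH) (Lpr_gf (K29.f479296 IH) (Lpe (K61.f6649 IH) (Lpr_bt (K29.f6648 IH) (Lpe (K28.f10898 IH) (Lpe (K29.f5945 IH) (Lpr_ct (K3.f5961 IH) (Lpe (K29.f6629 IH) (Lpe (K29.f456615 IH) (Lpn (LP (LK LD1_c1 LD2_c54 LD3_c15)))))))))))))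
theorem f625610 : Led Lsl_dt K60.v2732 = v3428 :=
  Lgr Lrot136 (Lpe (K60.f531657 IH) (Lpe (f479305 IH) (Lpe (K3.f87145 IH) (Lpe (K3.f87136 IH) (Lpe (K2.f84720 IH) (Lpe (K2.f84724 IH) (Lpe (K2.f92294 IH) (Lpe (f92301 IH) (Lpr_dt (f459588 IH) (Lpr_gf (f625609 IH) (Lpn v3428)))))))))))
theorem f459590 : Led Lsl_df (LP (LK LD1_c0 LD2_c51 LD3_c61)) = v826 :=
  Lgr Lrot38 (Lpr_dt (f459588 IH) (Lpn v826))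
def v9109 : LQ := Led Lsl_gf K49.v2445
theorem f673614 : Led Lsl_gf K49.v2445 = v9109 :=
  Lrfl
theorem f676317 : Led Lsl_ct v9109 = v9503 :=
  Lgr Lrot8 (Lpe (f673614 IH) (Lpr_dt (K49.f664877 IH) (Lpe (K49.f664876 IH) (Lpr_dt (K42.f441444 IH) (Lpe (K34.f441443 IH) (Lpr_df (f459590 IH) (Lpr_gf (f625609 IH) (Lpe (f625610 IH) (Lpr_gf (f676314 IH) (Lpn v9503))))))))))
theorem f795592 : Led Lsl_bt v9109 = v21401 :=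
  Lgr Lrot22 (Lpr_ct (f676317 IH) (Lpe (f676315 IH) (Lpe (f675861 IH) (Lpe (K61.f661407 IH) (Lpe (f535440 IH) (Lpr_ct (K29.f455209 IH) (Lpr_gf (K29.f482906 IH) (Lpe (K29.f4418 IH) (Lpr_bt (f5280 IH) (Lpr_gf (f795591 IH) (Lpn v21401)))))))))))
def v6904 : LQ := Led Lsl_gt (LP (LK LD1_c3 LD2_c34 LD3_c15))
theorem f659356 : Led Lsl_gt (LP (LK LD1_c3 LD2_c34 LD3_c15)) = v6904 :=
  Lrfl
theorem f659357 : Led Lsl_df (LP (LK LD1_c7 LD2_c12 LD3_c42)) = v6904 :=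
  Lgr Lrot153 (Lpr_gt (K43.f108382 IH) (Lpr_dt (K48.f108247 IH) (Lpe (K3.f108238 IH) (Lpr_df (K49.f514743 IH) (Lpr_gf (K49.f625032 IH) (Lpe (K49.f625033 IH) (Lpe (K34.f519297 IH) (Lpe (K43.f466661 IH) (Lpr_gt (f659356 IH) (Lpn v6904))))))))))
theorem f673616 : Led Lsl_et v6904 = v9109 :=
  Lgr Lrot121 (Lpe (f659357 IH) (Lpe (K43.f94498 IH) (Lpe (K8.f94497 IH) (Lpr_et (K8.f94496 IH) (Lpr_gf (K2.f94478 IH) (Lpe (K3.f94492 IH) (Lpr_dt (K49.f94493 IH) (Lpr_gf (K49.f664876 IH) (Lpe (K49.f664877 IH) (Lpr_gf (f673614 IH) (Lpn v9109)))))))))))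
theorem f673617 : Led Lsl_ef v6904 = v9109 :=
  Lgr Lrot88 (Lpr_et (f673616 IH) (Lpn v9109))
theorem f98557 : Led Lsl_dt (LP (LK LD1_c7 LD2_c5 LD3_c49)) = (LP (LK LD1_c7 LD2_c13 LD3_c53)) :=
  Lgr Lrot42 (Lpr_df (K28.f98550 IH) (Lpn (LP (LK LD1_c7 LD2_c13 LD3_c53))))
theorem f659359 : Led Lsl_ft (LP (LK LD1_c7 LD2_c13 LD3_c53)) = v6904 :=
  Lgr Lrot54 (Lpe (f98557 IH) (Lpr_ff (K43.f530731 IH) (Lpr_df (f659357 IH) (Lpn v6904))))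
theorem f659360 : Led Lsl_ff (LP (LK LD1_c7 LD2_c13 LD3_c53)) = v6904 :=
  Lgr Lrot3 (Lpr_ft (f659359 IH) (Lpn v6904))
theorem f530776 : Led Lsl_ft (LP (LK LD1_c3 LD2_c36 LD3_c49)) = (LP (LK LD1_c3 LD2_c33 LD3_c10)) :=
  Lgr Lrot48 (Lpr_ff (K41.f530768 IH) (Lpn (LP (LK LD1_c3 LD2_c33 LD3_c10))))
theorem f673618 : Led Lsl_ft K60.v6885 = v9109 :=
  Lgr Lrot86 (Lpe (K60.f659234 IH) (Lpe (f530776 IH) (Lpe (K28.f98549 IH) (Lpr_ff (f659360 IH) (Lpr_ef (f673617 IH) (Lpn v9109))))))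
def v20889 : LQ := Led Lsl_et (LP (LK LD1_c7 LD2_c7 LD3_c15))
theorem f790711 : Led Lsl_et (LP (LK LD1_c7 LD2_c7 LD3_c15)) = v20889 :=
  Lrfl
theorem f790712 : Led Lsl_bf K60.v6885 = v20889 :=
  Lgr Lrot96 (Lpe (K60.f659235 IH) (Lpr_bt (K35.f475273 IH) (Lpr_et (f790711 IH) (Lpn v20889))))
theorem f795594 : Led Lsl_ff v20889 = v21401 :=
  Lgr Lrot25 (Lpe (f790712 IH) (Lpr_ft (f673618 IH) (Lpr_bt (f795592 IH) (Lpn v21401))))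
theorem f5281 : Led Lsl_gt (LP (LK LD1_c7 LD2_c18 LD3_c30)) = (LP (LK LD1_c13 LD2_c49 LD3_c43)) :=
  Lre_g IH (LK LD1_c7 LD2_c18 LD3_c30) (LK LD1_c13 LD2_c49 LD3_c43) Lrfl Lrfl
theorem f795596 : Led Lsl_at v20889 = (LP (LK LD1_c13 LD2_c49 LD3_c43)) :=
  Lgr Lrot26 (Lpr_ff (f795594 IH) (Lpe (f795591 IH) (Lpr_gt (f5281 IH) (Lpn (LP (LK LD1_c13 LD2_c49 LD3_c43))))))
theorem f795598 : Led Lsl_ef (LP (LK LD1_c13 LD2_c14 LD3_c22)) = (LP (LK LD1_c13 LD2_c49 LD3_c43)) :=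
  Lgr Lrot20 (Lpe (K41.f530785 IH) (Lpr_et (f790711 IH) (Lpr_at (f795596 IH) (Lpn (LP (LK LD1_c13 LD2_c49 LD3_c43))))))
theorem f795599 : Led Lsl_et (LP (LK LD1_c13 LD2_c49 LD3_c43)) = (LP (LK LD1_c13 LD2_c14 LD3_c22)) :=
  Leop (Lpr_ef (f795598 IH) (Lpn (LP (LK LD1_c13 LD2_c49 LD3_c43))))
theorem seed_1613 : LEOK LG_e (LK LD1_c13 LD2_c49 LD3_c43) :=
  Leoe_e (LK LD1_c13 LD2_c49 LD3_c43) (f795599 IH)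
def v21402 : LQ := Led Lsl_ft (LP (LK LD1_c7 LD2_c18 LD3_c30))
theorem f795602 : Led Lsl_ft (LP (LK LD1_c7 LD2_c18 LD3_c30)) = v21402 :=
  Lrfl
theorem f64760 : Led Lsl_bt (LP (LK LD1_c3 LD2_c48 LD3_c48)) = (LP (LK LD1_c7 LD2_c38 LD3_c41)) :=
  Lre_b IH (LK LD1_c3 LD2_c48 LD3_c48) (LK LD1_c7 LD2_c38 LD3_c41) Lrfl Lrfl
theorem f442111 : Led Lsl_bt (LP (LK LD1_c7 LD2_c18 LD3_c30)) = (LP (LK LD1_c3 LD2_c39 LD3_c1)) :=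
  Lre_b IH (LK LD1_c7 LD2_c18 LD3_c30) (LK LD1_c3 LD2_c39 LD3_c1) Lrfl Lrfl
theorem f482911 : Led Lsl_ct (LP (LK LD1_c7 LD2_c38 LD3_c41)) = (LP (LK LD1_c7 LD2_c18 LD3_c30)) :=
  Lgr Lrot83 (Lpe (f64760 IH) (Lpr_cf (K29.f482909 IH) (Lpe (K33.f4430 IH) (Lpe (K29.f4418 IH) (Lpe (f442111 IH) (Lpn (LP (LK LD1_c7 LD2_c18 LD3_c30))))))))
theorem f516677 : Led Lsl_bt (LP (LK LD1_c7 LD2_c33 LD3_c23)) = (LP (LK LD1_c14 LD2_c15 LD3_c2)) :=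
  Lre_b IH (LK LD1_c7 LD2_c33 LD3_c23) (LK LD1_c14 LD2_c15 LD3_c2) Lrfl Lrfl
theorem f64685 : Led Lsl_bt (LP (LK LD1_c7 LD2_c38 LD3_c41)) = (LP (LK LD1_c3 LD2_c48 LD3_c48)) :=
  Lre_b IH (LK LD1_c7 LD2_c38 LD3_c41) (LK LD1_c3 LD2_c48 LD3_c48) Lrfl Lrfl
theorem f516678 : Led Lsl_ft (LP (LK LD1_c14 LD2_c15 LD3_c2)) = (LP (LK LD1_c7 LD2_c38 LD3_c41)) :=
  Lgr Lrot75 (Lpe (f516677 IH) (Lpr_ff (K33.f516675 IH) (Lpe (f64685 IH) (Lpn (LP (LK LD1_c7 LD2_c38 LD3_c41))))))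
theorem f795604 : Led Lsl_cf (LP (LK LD1_c14 LD2_c15 LD3_c2)) = v21402 :=
  Lgr Lrot108 (Lpr_ft (f516678 IH) (Lpr_ct (f482911 IH) (Lpr_ft (f795602 IH) (Lpn v21402))))
theorem f515300 : Led Lsl_at (LP (LK LD1_c3 LD2_c39 LD3_c1)) = (LP (LK LD1_c3 LD2_c34 LD3_c7)) :=
  Lgr Lrot107 (Lpe (K28.f4412 IH) (Lpr_af (K33.f515296 IH) (Lpe (K33.f92492 IH) (Lpn (LP (LK LD1_c3 LD2_c34 LD3_c7))))))
theorem f660963 : Led Lsl_ff (LP (LK LD1_c3 LD2_c39 LD3_c1)) = K60.v7097 :=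
  Lgr Lrot30 (Lpr_at (f515300 IH) (Lpe (K47.f515323 IH) (Lpr_at (K60.f660960 IH) (Lpn K60.v7097))))
theorem f795603 : Led Lsl_bf K60.v7097 = v21402 :=
  Lgr Lrot61 (Lpe (f660963 IH) (Lpr_bt (f5280 IH) (Lpr_ft (f795602 IH) (Lpn v21402))))
theorem f517353 : Led Lsl_dt (LP (LK LD1_c13 LD2_c33 LD3_c24)) = (LP (LK LD1_c13 LD2_c46 LD3_c59)) :=
  Lgr Lrot42 (Lpr_df (K33.f517347 IH) (Lpn (LP (LK LD1_c13 LD2_c46 LD3_c59))))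
theorem f93128 : Led Lsl_dt (LP (LK LD1_c7 LD2_c17 LD3_c1)) = (LP (LK LD1_c3 LD2_c38 LD3_c20)) :=
  Lre_d IH (LK LD1_c7 LD2_c17 LD3_c1) (LK LD1_c3 LD2_c38 LD3_c20) Lrfl Lrfl
theorem f660965 : Led Lsl_ct K33.v2472 = K60.v7097 :=
  Lgr Lrot98 (Lpe (K33.f522496 IH) (Lpe (K29.f4073 IH) (Lpe (f93128 IH) (Lpe (K29.f481348 IH) (Lpe (f517353 IH) (Lpe (K61.f93137 IH) (Lpe (K29.f93136 IH) (Lpe (K47.f515323 IH) (Lpr_at (K60.f660960 IH) (Lpn K60.v7097))))))))))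
theorem f456991 : Led Lsl_dt (LP (LK LD1_c3 LD2_c38 LD3_c55)) = (LP (LK LD1_c1 LD2_c46 LD3_c22)) :=
  Lre_d IH (LK LD1_c3 LD2_c38 LD3_c55) (LK LD1_c1 LD2_c46 LD3_c22) Lrfl Lrfl
theorem f660967 : Led Lsl_gf (LP (LK LD1_c7 LD2_c9 LD3_c24)) = K60.v7097 :=
  Lgr Lrot148 (Lpe (K30.f482612 IH) (Lpr_gt (K29.f467086 IH) (Lpr_dt (f456991 IH) (Lpr_ct (K28.f4274 IH) (Lpe (K29.f4409 IH) (Lpr_gf (K29.f482675 IH) (Lpr_df (K33.f511693 IH) (Lpr_gf (K33.f522500 IH) (Lpr_ct (f660965 IH) (Lpn K60.v7097))))))))))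
theorem f108145 : Led Lsl_dt (LP (LK LD1_c7 LD2_c8 LD3_c5)) = (LP (LK LD1_c13 LD2_c30 LD3_c52)) :=
  Lre_d IH (LK LD1_c7 LD2_c8 LD3_c5) (LK LD1_c13 LD2_c30 LD3_c52) Lrfl Lrfl
theorem f470546 : Led Lsl_dt (LP (LK LD1_c22 LD2_c29 LD3_c21)) = (LP (LK LD1_c13 LD2_c14 LD3_c32)) :=
  Lre_d IH (LK LD1_c22 LD2_c29 LD3_c21) (LK LD1_c13 LD2_c14 LD3_c32) Lrfl Lrfl
theorem f756865 : Led Lsl_ff (LP (LK LD1_c7 LD2_c8 LD3_c5)) = (LP (LK LD1_c13 LD2_c14 LD3_c32)) :=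
  Lgr Lrot19 (Lpr_dt (f108145 IH) (Lpr_ft (K57.f756861 IH) (Lpr_dt (f470546 IH) (Lpn (LP (LK LD1_c13 LD2_c14 LD3_c32))))))
theorem f465515 : Led Lsl_et (LP (LK LD1_c7 LD2_c8 LD3_c5)) = (LP (LK LD1_c13 LD2_c30 LD3_c53)) :=
  Lre_e IH (LK LD1_c7 LD2_c8 LD3_c5) (LK LD1_c13 LD2_c30 LD3_c53) Lrfl Lrfl
def v17214 : LQ := Led Lsl_ft (LP (LK LD1_c6 LD2_c14 LD3_c50))
theorem f756740 : Led Lsl_ft (LP (LK LD1_c6 LD2_c14 LD3_c50)) = v17214 :=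
  Lrfl
theorem f756743 : Led Lsl_ff (LP (LK LD1_c6 LD2_c14 LD3_c50)) = v17214 :=
  Lgr Lrot3 (Lpr_ft (f756740 IH) (Lpn v17214))
theorem f756745 : Led Lsl_dt K57.v5298 = v17214 :=
  Lgr Lrot60 (Lpe (K57.f646945 IH) (Lpe (K39.f70738 IH) (Lpr_ff (f756743 IH) (Lpn v17214))))
theorem f756796 : v17214 = (LP (LK LD1_c12 LD2_c6 LD3_c23)) :=
  Lefun (Lecon (f756745 IH) (K57.f756782 IH)) (K46.f75732 IH)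
theorem f543624 : Led Lsl_et (LP (LK LD1_c12 LD2_c7 LD3_c57)) = (LP (LK LD1_c6 LD2_c14 LD3_c50)) :=
  Lre_e IH (LK LD1_c12 LD2_c7 LD3_c57) (LK LD1_c6 LD2_c14 LD3_c50) Lrfl Lrfl
theorem f757674 : Led Lsl_ft (LP (LK LD1_c13 LD2_c30 LD3_c53)) = (LP (LK LD1_c12 LD2_c7 LD3_c57)) :=
  Lgr Lrot86 (Lpe (f465515 IH) (Lpr_ff (f756865 IH) (Lpe (K46.f553267 IH) (Lpq (f756796 IH) (Lpe (f756740 IH) (Lpe (f543624 IH) (Lpn (LP (LK LD1_c12 LD2_c7 LD3_c57)))))))))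
theorem f757676 : Led Lsl_ff (LP (LK LD1_c13 LD2_c30 LD3_c53)) = (LP (LK LD1_c12 LD2_c7 LD3_c57)) :=
  Lgr Lrot3 (Lpr_ft (f757674 IH) (Lpn (LP (LK LD1_c12 LD2_c7 LD3_c57))))
theorem f564575 : Led Lsl_ct (LP (LK LD1_c22 LD2_c47 LD3_c19)) = (LP (LK LD1_c13 LD2_c29 LD3_c60)) :=
  Lgr Lrot91 (Lpe (K41.f145220 IH) (Lpe (K41.f96550 IH) (Lpr_ct (K36.f96552 IH) (Lpr_gf (K41.f564569 IH) (Lpe (K41.f472523 IH) (Lpr_bt (K41.f160517 IH) (Lpr_gf (K39.f464983 IH) (Lpe (K28.f464972 IH) (Lpr_ct (K41.f463813 IH) (Lpe (K28.f460305 IH) (Lpn (LP (LK LD1_c13 LD2_c29 LD3_c60)))))))))))))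
theorem f757393 : Led Lsl_at (LP (LK LD1_c13 LD2_c30 LD3_c50)) = (LP (LK LD1_c22 LD2_c47 LD3_c19)) :=
  Lgr Lrot107 (Lpe (K57.f476176 IH) (Lpr_af (K57.f757387 IH) (Lpe (f564575 IH) (Lpn (LP (LK LD1_c22 LD2_c47 LD3_c19))))))
theorem f756853 : Led Lsl_af (LP (LK LD1_c7 LD2_c8 LD3_c5)) = (LP (LK LD1_c13 LD2_c14 LD3_c31)) :=
  Lgr Lrot117 (Lpr_dt (f108145 IH) (Lpr_at (K57.f756839 IH) (Lpr_dt (K57.f470609 IH) (Lpn (LP (LK LD1_c13 LD2_c14 LD3_c31))))))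
theorem f756859 : Led Lsl_ft (LP (LK LD1_c7 LD2_c8 LD3_c5)) = (LP (LK LD1_c13 LD2_c14 LD3_c32)) :=
  Lgr Lrot54 (Lpe (K57.f108147 IH) (Lpr_ff (K57.f756855 IH) (Lpe (K47.f470543 IH) (Lpn (LP (LK LD1_c13 LD2_c14 LD3_c32))))))
theorem f756885 : Led Lsl_af (LP (LK LD1_c7 LD2_c8 LD3_c4)) = (LP (LK LD1_c13 LD2_c14 LD3_c32)) :=
  Lgr Lrot45 (Lpr_ft (K57.f756883 IH) (Lpe (f756853 IH) (Lpr_ft (f756859 IH) (Lpn (LP (LK LD1_c13 LD2_c14 LD3_c32))))))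
theorem f757397 : Led Lsl_af (LP (LK LD1_c7 LD2_c7 LD3_c53)) = (LP (LK LD1_c13 LD2_c30 LD3_c23)) :=
  Lgr Lrot36 (Lpe (K41.f470992 IH) (Lpe (f756885 IH) (Lpr_bt (K57.f475840 IH) (Lpr_at (f757393 IH) (Lpr_bt (K41.f564579 IH) (Lpn (LP (LK LD1_c13 LD2_c30 LD3_c23))))))))
theorem f757413 : Led Lsl_ft (LP (LK LD1_c7 LD2_c7 LD3_c54)) = (LP (LK LD1_c13 LD2_c30 LD3_c23)) :=
  Lgr Lrot2 (Lpr_gt (K29.f96861 IH) (Lpr_gt (K41.f96859 IH) (Lpr_af (f757397 IH) (Lpn (LP (LK LD1_c13 LD2_c30 LD3_c23))))))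
theorem f757419 : Led Lsl_ff (LP (LK LD1_c7 LD2_c7 LD3_c54)) = (LP (LK LD1_c13 LD2_c30 LD3_c23)) :=
  Lgr Lrot3 (Lpr_ft (f757413 IH) (Lpn (LP (LK LD1_c13 LD2_c30 LD3_c23))))
theorem f97348 : Led Lsl_gt (LP (LK LD1_c13 LD2_c30 LD3_c23)) = (LP (LK LD1_c7 LD2_c7 LD3_c56)) :=
  Lre_g IH (LK LD1_c13 LD2_c30 LD3_c23) (LK LD1_c7 LD2_c7 LD3_c56) Lrfl Lrfl
theorem f757425 : Led Lsl_at (LP (LK LD1_c7 LD2_c7 LD3_c54)) = (LP (LK LD1_c13 LD2_c30 LD3_c24)) :=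
  Lgr Lrot26 (Lpr_ff (f757419 IH) (Lpr_gt (f97348 IH) (Lpr_gt (K29.f97349 IH) (Lpn (LP (LK LD1_c13 LD2_c30 LD3_c24))))))
theorem f757369 : Led Lsl_af (LP (LK LD1_c13 LD2_c30 LD3_c30)) = (LP (LK LD1_c22 LD2_c29 LD3_c18)) :=
  Lgr Lrot68 (Lpr_ct (K29.f471268 IH) (Lpr_at (K57.f757365 IH) (Lpe (K41.f470640 IH) (Lpn (LP (LK LD1_c22 LD2_c29 LD3_c18))))))
theorem f472117 : Led Lsl_bt (LP (LK LD1_c13 LD2_c30 LD3_c24)) = (LP (LK LD1_c7 LD2_c8 LD3_c5)) :=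
  Lgr Lrot127 (Lpr_bf (K29.f472115 IH) (Lpn (LP (LK LD1_c7 LD2_c8 LD3_c5))))
theorem f757429 : Led Lsl_af (LP (LK LD1_c13 LD2_c14 LD3_c31)) = (LP (LK LD1_c7 LD2_c8 LD3_c5)) :=
  Lgr Lrot36 (Lpr_bt (K41.f470639 IH) (Lpe (f757369 IH) (Lpr_bt (K29.f97359 IH) (Lpr_at (f757425 IH) (Lpr_bt (f472117 IH) (Lpn (LP (LK LD1_c7 LD2_c8 LD3_c5))))))))
theorem f470658 : Led Lsl_et (LP (LK LD1_c13 LD2_c14 LD3_c31)) = (LP (LK LD1_c22 LD2_c29 LD3_c20)) :=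
  Lre_e IH (LK LD1_c13 LD2_c14 LD3_c31) (LK LD1_c22 LD2_c29 LD3_c20) Lrfl Lrfl
theorem f757460 : Led Lsl_at (LP (LK LD1_c22 LD2_c29 LD3_c20)) = (LP (LK LD1_c13 LD2_c30 LD3_c53)) :=
  Lgr Lrot80 (Lpe (f470658 IH) (Lpr_af (f757429 IH) (Lpe (K47.f465548 IH) (Lpn (LP (LK LD1_c13 LD2_c30 LD3_c53))))))
theorem f757462 : Led Lsl_af (LP (LK LD1_c22 LD2_c29 LD3_c20)) = (LP (LK LD1_c13 LD2_c30 LD3_c53)) :=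
  Lgr Lrot0 (Lpr_at (f757460 IH) (Lpn (LP (LK LD1_c13 LD2_c30 LD3_c53))))
theorem f418505 : Led Lsl_et (LP (LK LD1_c3 LD2_c4 LD3_c22)) = (LP (LK LD1_c1 LD2_c28 LD3_c14)) :=
  Lre_e IH (LK LD1_c3 LD2_c4 LD3_c22) (LK LD1_c1 LD2_c28 LD3_c14) Lrfl Lrfl
theorem f70739 : Led Lsl_et (LP (LK LD1_c6 LD2_c14 LD3_c50)) = (LP (LK LD1_c12 LD2_c7 LD3_c57)) :=
  Lre_e IH (LK LD1_c6 LD2_c14 LD3_c50) (LK LD1_c12 LD2_c7 LD3_c57) Lrfl Lrfl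
theorem f543217 : Led Lsl_gt (LP (LK LD1_c12 LD2_c7 LD3_c57)) = (LP (LK LD1_c13 LD2_c14 LD3_c48)) :=
  Lgr Lrot137 (Lpe (f70739 IH) (Lpr_dt (K39.f70738 IH) (Lpe (K6.f59368 IH) (Lpe (K43.f70723 IH) (Lpr_et (f418505 IH) (Lpe (K37.f37217 IH) (Lpe (K37.f424485 IH) (Lpe (K37.f424472 IH) (Lpr_gf (K37.f543209 IH) (Lpe (K37.f482764 IH) (Lpn (LP (LK LD1_c13 LD2_c14 LD3_c48)))))))))))))
theorem f757678 : Led Lsl_gf (LP (LK LD1_c22 LD2_c29 LD3_c20)) = (LP (LK LD1_c13 LD2_c14 LD3_c48)) :=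
  Lgr Lrot76 (Lpr_af (f757462 IH) (Lpr_ff (f757676 IH) (Lpr_gt (f543217 IH) (Lpn (LP (LK LD1_c13 LD2_c14 LD3_c48))))))
theorem f470649 : Led Lsl_bt (LP (LK LD1_c30 LD2_c31 LD3_c58)) = (LP (LK LD1_c22 LD2_c29 LD3_c20)) :=
  Lre_b IH (LK LD1_c30 LD2_c31 LD3_c58) (LK LD1_c22 LD2_c29 LD3_c20) Lrfl Lrfl
theorem f470642 : Led Lsl_et (LP (LK LD1_c30 LD2_c31 LD3_c58)) = (LP (LK LD1_c22 LD2_c29 LD3_c18)) :=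
  Lre_e IH (LK LD1_c30 LD2_c31 LD3_c58) (LK LD1_c22 LD2_c29 LD3_c18) Lrfl Lrfl
theorem f470643 : Led Lsl_et (LP (LK LD1_c13 LD2_c29 LD3_c61)) = (LP (LK LD1_c22 LD2_c50 LD3_c48)) :=
  Lre_e IH (LK LD1_c13 LD2_c29 LD3_c61) (LK LD1_c22 LD2_c50 LD3_c48) Lrfl Lrfl
theorem f470644 : Led Lsl_cf (LP (LK LD1_c30 LD2_c31 LD3_c58)) = (LP (LK LD1_c22 LD2_c50 LD3_c48)) :=
  Lgr Lrot39 (Lpr_et (f470642 IH) (Lpr_ct (K41.f470637 IH) (Lpr_et (f470643 IH) (Lpn (LP (LK LD1_c22 LD2_c50 LD3_c48))))))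
theorem f470650 : Led Lsl_ct (LP (LK LD1_c30 LD2_c31 LD3_c58)) = (LP (LK LD1_c22 LD2_c50 LD3_c48)) :=
  Lgr Lrot59 (Lpr_cf (f470644 IH) (Lpn (LP (LK LD1_c22 LD2_c50 LD3_c48))))
theorem f795611 : Led Lsl_gf (LP (LK LD1_c14 LD2_c15 LD3_c2)) = (LP (LK LD1_c22 LD2_c50 LD3_c48)) :=
  Lgr Lrot126 (Lpr_cf (f795604 IH) (Lpe (f795603 IH) (Lpe (f660967 IH) (Lpe (K34.f482425 IH) (Lpe (K29.f476412 IH) (Lpr_cf (K29.f482702 IH) (Lpr_bt (K37.f482699 IH) (Lpe (f757678 IH) (Lpe (f470649 IH) (Lpr_ct (f470650 IH) (Lpn (LP (LK LD1_c22 LD2_c50 LD3_c48)))))))))))))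
theorem f795612 : Led Lsl_gt (LP (LK LD1_c22 LD2_c50 LD3_c48)) = (LP (LK LD1_c14 LD2_c15 LD3_c2)) :=
  Leop (Lpr_gf (f795611 IH) (Lpn (LP (LK LD1_c22 LD2_c50 LD3_c48))))
theorem seed_1614 : LEOK LG_g (LK LD1_c22 LD2_c50 LD3_c48) :=
  Leoe_g (LK LD1_c22 LD2_c50 LD3_c48) (f795612 IH)
def v21411 : LQ := Led Lsl_ft (LP (LK LD1_c7 LD2_c18 LD3_c52))
theorem f795677 : Led Lsl_ft (LP (LK LD1_c7 LD2_c18 LD3_c52)) = v21411 :=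
  Lrfl
theorem f5103 : Led Lsl_gt (LP (LK LD1_c7 LD2_c18 LD3_c52)) = (LP (LK LD1_c13 LD2_c50 LD3_c16)) :=
  Lre_g IH (LK LD1_c7 LD2_c18 LD3_c52) (LK LD1_c13 LD2_c50 LD3_c16) Lrfl Lrfl
theorem f795678 : Led Lsl_af (LP (LK LD1_c13 LD2_c46 LD3_c41)) = v21411 :=
  Lgr Lrot45 (Lpr_ft (f5288 IH) (Lpr_at (f5500 IH) (Lpr_ft (f795677 IH) (Lpn v21411))))
theorem f795682 : Led Lsl_gt (LP (LK LD1_c13 LD2_c50 LD3_c16)) = (LP (LK LD1_c13 LD2_c46 LD3_c41)) :=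
  Lgr Lrot46 (Lpe (f5103 IH) (Lpr_ft (f795677 IH) (Lpe (f795678 IH) (Lpn (LP (LK LD1_c13 LD2_c46 LD3_c41))))))
theorem f795683 : Led Lsl_gt (LP (LK LD1_c13 LD2_c50 LD3_c16)) = (LP (LK LD1_c13 LD2_c46 LD3_c41)) :=
  Leop (Lpe (f795682 IH) (Lpn (LP (LK LD1_c13 LD2_c50 LD3_c16))))
theorem seed_1615 : LEOK LG_g (LK LD1_c13 LD2_c50 LD3_c16) :=
  Leoe_g (LK LD1_c13 LD2_c50 LD3_c16) (f795683 IH)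
def v21416 : LQ := Led Lsl_ft (LP (LK LD1_c7 LD2_c18 LD3_c58))
theorem f795743 : Led Lsl_ft (LP (LK LD1_c7 LD2_c18 LD3_c58)) = v21416 :=
  Lrfl
theorem f795746 : Led Lsl_ff (LP (LK LD1_c7 LD2_c18 LD3_c58)) = v21416 :=
  Lgr Lrot3 (Lpr_ft (f795743 IH) (Lpn v21416))
def v17217 : LQ := Led Lsl_ft (LP (LK LD1_c6 LD2_c14 LD3_c55))
theorem f757749 : Led Lsl_ft (LP (LK LD1_c6 LD2_c14 LD3_c55)) = v17217 :=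
  Lrfl
theorem f795748 : Led Lsl_bt v17217 = v21416 :=
  Lgr Lrot35 (Lpe (f757749 IH) (Lpr_bf (K37.f544206 IH) (Lpr_ff (f795746 IH) (Lpn v21416))))
theorem f757751 : Led Lsl_ff (LP (LK LD1_c6 LD2_c14 LD3_c55)) = v17217 :=
  Lgr Lrot3 (Lpr_ft (f757749 IH) (Lpn v17217))
def v17216 : LQ := Led Lsl_at (LP (LK LD1_c6 LD2_c14 LD3_c55))
theorem f757745 : Led Lsl_at (LP (LK LD1_c6 LD2_c14 LD3_c55)) = v17216 :=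
  Lrfl
theorem f757746 : Led Lsl_af (LP (LK LD1_c6 LD2_c14 LD3_c55)) = v17216 :=
  Lgr Lrot0 (Lpr_at (f757745 IH) (Lpn v17216))
theorem f757747 : Led Lsl_ft (LP (LK LD1_c6 LD2_c14 LD3_c56)) = v17216 :=
  Lgr Lrot2 (Lpr_gt (K43.f38105 IH) (Lpr_gt (K37.f38043 IH) (Lpr_af (f757746 IH) (Lpn v17216))))
theorem f757748 : Led Lsl_ff (LP (LK LD1_c6 LD2_c14 LD3_c56)) = v17216 :=
  Lgr Lrot3 (Lpr_ft (f757747 IH) (Lpn v17216))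
theorem f757752 : Led Lsl_at (LP (LK LD1_c6 LD2_c14 LD3_c56)) = v17217 :=
  Lgr Lrot66 (Lpr_ff (f757748 IH) (Lpe (f757745 IH) (Lpr_ff (f757751 IH) (Lpn v17217))))
theorem f70753 : Led Lsl_bt (LP (LK LD1_c12 LD2_c8 LD3_c11)) = (LP (LK LD1_c6 LD2_c14 LD3_c56)) :=
  Lre_b IH (LK LD1_c12 LD2_c8 LD3_c11) (LK LD1_c6 LD2_c14 LD3_c56) Lrfl Lrfl
def v21414 : LQ := Led Lsl_at (LP (LK LD1_c7 LD2_c18 LD3_c58))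
theorem f795735 : Led Lsl_at (LP (LK LD1_c7 LD2_c18 LD3_c58)) = v21414 :=
  Lrfl
theorem f795736 : Led Lsl_af (LP (LK LD1_c7 LD2_c18 LD3_c58)) = v21414 :=
  Lgr Lrot0 (Lpr_at (f795735 IH) (Lpn v21414))
theorem f795737 : Led Lsl_ft (LP (LK LD1_c7 LD2_c18 LD3_c59)) = v21414 :=
  Lgr Lrot2 (Lpr_gt (K28.f92319 IH) (Lpr_gt (K37.f92317 IH) (Lpr_af (f795736 IH) (Lpn v21414))))
theorem f795744 : Led Lsl_af (LP (LK LD1_c7 LD2_c18 LD3_c59)) = v21416 :=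
  Lgr Lrot45 (Lpr_ft (f795737 IH) (Lpe (f795736 IH) (Lpr_ft (f795743 IH) (Lpn v21416))))
theorem f463888 : Led Lsl_bt (LP (LK LD1_c7 LD2_c18 LD3_c59)) = (LP (LK LD1_c13 LD2_c50 LD3_c28)) :=
  Lre_b IH (LK LD1_c7 LD2_c18 LD3_c59) (LK LD1_c13 LD2_c50 LD3_c28) Lrfl Lrfl
theorem f795749 : Led Lsl_af (LP (LK LD1_c12 LD2_c8 LD3_c11)) = (LP (LK LD1_c13 LD2_c50 LD3_c28)) :=
  Lgr Lrot36 (Lpr_bt (f70753 IH) (Lpr_at (f757752 IH) (Lpr_bt (f795748 IH) (Lpe (f795744 IH) (Lpr_bt (f463888 IH) (Lpn (LP (LK LD1_c13 LD2_c50 LD3_c28))))))))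
theorem f795750 : Led Lsl_at (LP (LK LD1_c13 LD2_c50 LD3_c28)) = (LP (LK LD1_c12 LD2_c8 LD3_c11)) :=
  Leop (Lpr_af (f795749 IH) (Lpn (LP (LK LD1_c13 LD2_c50 LD3_c28))))
theorem seed_1616 : LEOK LG_a (LK LD1_c13 LD2_c50 LD3_c28) :=
  Leoe_a (LK LD1_c13 LD2_c50 LD3_c28) (f795750 IH)
def v21420 : LQ := Led Lsl_ft (LP (LK LD1_c7 LD2_c19 LD3_c5))
theorem f797028 : Led Lsl_ft (LP (LK LD1_c7 LD2_c19 LD3_c5)) = v21420 :=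
  Lrfl
theorem f797031 : Led Lsl_cf (LP (LK LD1_c13 LD2_c48 LD3_c58)) = v21420 :=
  Lgr Lrot108 (Lpr_ft (K46.f608740 IH) (Lpr_ct (K50.f147325 IH) (Lpr_ft (f797028 IH) (Lpn v21420))))
theorem f116223 : Led Lsl_bt (LP (LK LD1_c13 LD2_c38 LD3_c8)) = (LP (LK LD1_c7 LD2_c12 LD3_c1)) :=
  Lre_b IH (LK LD1_c13 LD2_c38 LD3_c8) (LK LD1_c7 LD2_c12 LD3_c1) Lrfl Lrfl
theorem f5653 : Led Lsl_ct (LP (LK LD1_c7 LD2_c18 LD3_c51)) = (LP (LK LD1_c13 LD2_c50 LD3_c13)) :=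
  Lre_c IH (LK LD1_c7 LD2_c18 LD3_c51) (LK LD1_c13 LD2_c50 LD3_c13) Lrfl Lrfl
theorem f608784 : Led Lsl_gt (LP (LK LD1_c13 LD2_c50 LD3_c13)) = (LP (LK LD1_c13 LD2_c26 LD3_c39)) :=
  Lgr Lrot149 (Lpe (f5653 IH) (Lpe (K47.f5649 IH) (Lpe (K47.f4421 IH) (Lpr_ct (K47.f4264 IH) (Lpe (K3.f4273 IH) (Lpe (K28.f4274 IH) (Lpr_bt (K46.f5370 IH) (Lpr_gf (K46.f608776 IH) (Lpe (f116223 IH) (Lpe (K46.f439388 IH) (Lpn (LP (LK LD1_c13 LD2_c26 LD3_c39)))))))))))))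
theorem f608813 : Led Lsl_bt (LP (LK LD1_c7 LD2_c18 LD3_c51)) = (LP (LK LD1_c13 LD2_c50 LD3_c12)) :=
  Lre_b IH (LK LD1_c7 LD2_c18 LD3_c51) (LK LD1_c13 LD2_c50 LD3_c12) Lrfl Lrfl
theorem f659928 : Led Lsl_ef (LP (LK LD1_c14 LD2_c0 LD3_c54)) = (LP (LK LD1_c13 LD2_c6 LD3_c60)) :=
  Lgr Lrot21 (Lpr_ft (K47.f659926 IH) (Lpr_et (K46.f122297 IH) (Lpr_ft (K32.f497852 IH) (Lpr_et (K47.f419788 IH) (Lpe (K48.f517884 IH) (Lpn (LP (LK LD1_c13 LD2_c6 LD3_c60))))))))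
theorem f660004 : Led Lsl_et (LP (LK LD1_c14 LD2_c0 LD3_c54)) = (LP (LK LD1_c13 LD2_c6 LD3_c60)) :=
  Lgr Lrot87 (Lpr_ef (f659928 IH) (Lpn (LP (LK LD1_c13 LD2_c6 LD3_c60))))
theorem f660006 : Led Lsl_ef (LP (LK LD1_c7 LD2_c34 LD3_c36)) = (LP (LK LD1_c13 LD2_c18 LD3_c42)) :=
  Lgr Lrot29 (Lpe (K47.f659905 IH) (Lpr_et (f660004 IH) (Lpr_bt (K48.f611526 IH) (Lpn (LP (LK LD1_c13 LD2_c18 LD3_c42))))))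
theorem f660008 : Led Lsl_et (LP (LK LD1_c14 LD2_c17 LD3_c12)) = (LP (LK LD1_c21 LD2_c14 LD3_c46)) :=
  Lgr Lrot158 (Lpe (K47.f659904 IH) (Lpr_ef (f660006 IH) (Lpe (K47.f609145 IH) (Lpn (LP (LK LD1_c21 LD2_c14 LD3_c46))))))
theorem f424505 : Led Lsl_et (LP (LK LD1_c12 LD2_c8 LD3_c28)) = (LP (LK LD1_c6 LD2_c15 LD3_c4)) :=
  Lre_e IH (LK LD1_c12 LD2_c8 LD3_c28) (LK LD1_c6 LD2_c15 LD3_c4) Lrfl Lrfl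
theorem f660014 : Led Lsl_ff (LP (LK LD1_c14 LD2_c17 LD3_c12)) = (LP (LK LD1_c13 LD2_c50 LD3_c39)) :=
  Lgr Lrot72 (Lpr_et (f660008 IH) (Lpr_ft (K41.f424494 IH) (Lpr_et (f424505 IH) (Lpr_ft (K41.f567264 IH) (Lpr_et (K41.f147333 IH) (Lpn (LP (LK LD1_c13 LD2_c50 LD3_c39))))))))
theorem f660018 : Led Lsl_ft (LP (LK LD1_c14 LD2_c17 LD3_c12)) = (LP (LK LD1_c13 LD2_c50 LD3_c39)) :=
  Lgr Lrot48 (Lpr_ff (f660014 IH) (Lpn (LP (LK LD1_c13 LD2_c50 LD3_c39))))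
theorem f797030 : Led Lsl_bf (LP (LK LD1_c14 LD2_c17 LD3_c12)) = v21420 :=
  Lgr Lrot61 (Lpr_ft (f660018 IH) (Lpr_bt (K41.f147341 IH) (Lpr_ft (f797028 IH) (Lpn v21420))))
theorem f797040 : Led Lsl_gf (LP (LK LD1_c13 LD2_c50 LD3_c12)) = (LP (LK LD1_c14 LD2_c17 LD3_c12)) :=
  Lgr Lrot124 (Lpe (f608813 IH) (Lpr_ct (f5653 IH) (Lpr_gt (f608784 IH) (Lpr_cf (K46.f439388 IH) (Lpr_bt (f116223 IH) (Lpe (K46.f608776 IH) (Lpr_ct (K46.f456436 IH) (Lpr_gt (K46.f467981 IH) (Lpr_cf (f797031 IH) (Lpe (f797030 IH) (Lpn (LP (LK LD1_c14 LD2_c17 LD3_c12)))))))))))))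
theorem f797041 : Led Lsl_gt (LP (LK LD1_c14 LD2_c17 LD3_c12)) = (LP (LK LD1_c13 LD2_c50 LD3_c12)) :=
  Leop (Lpr_gf (f797040 IH) (Lpn (LP (LK LD1_c14 LD2_c17 LD3_c12))))
theorem seed_1617 : LEOK LG_g (LK LD1_c14 LD2_c17 LD3_c12) :=
  Leoe_g (LK LD1_c14 LD2_c17 LD3_c12) (f797041 IH)
theorem f659880 : Led Lsl_ct (LP (LK LD1_c13 LD2_c20 LD3_c7)) = (LP (LK LD1_c13 LD2_c50 LD3_c12)) :=
  Lgr Lrot59 (Lpr_cf (K47.f659877 IH) (Lpn (LP (LK LD1_c13 LD2_c50 LD3_c12))))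
theorem f659879 : Led Lsl_bt (LP (LK LD1_c13 LD2_c20 LD3_c7)) = (LP (LK LD1_c22 LD2_c36 LD3_c34)) :=
  Lre_b IH (LK LD1_c13 LD2_c20 LD3_c7) (LK LD1_c22 LD2_c36 LD3_c34) Lrfl Lrfl
theorem f659922 : Led Lsl_ff (LP (LK LD1_c14 LD2_c0 LD3_c54)) = (LP (LK LD1_c13 LD2_c5 LD3_c13)) :=
  Lgr Lrot19 (Lpr_dt (K47.f522804 IH) (Lpr_ft (K47.f659920 IH) (Lpr_dt (K47.f424990 IH) (Lpn (LP (LK LD1_c13 LD2_c5 LD3_c13))))))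
theorem f95120 : Led Lsl_gt (LP (LK LD1_c6 LD2_c53 LD3_c28)) = (LP (LK LD1_c13 LD2_c5 LD3_c53)) :=
  Lre_g IH (LK LD1_c6 LD2_c53 LD3_c28) (LK LD1_c13 LD2_c5 LD3_c53) Lrfl Lrfl
theorem f660031 : Led Lsl_at (LP (LK LD1_c14 LD2_c0 LD3_c54)) = (LP (LK LD1_c13 LD2_c5 LD3_c53)) :=
  Lgr Lrot26 (Lpr_ff (f659922 IH) (Lpr_gt (K46.f543180 IH) (Lpr_gt (f95120 IH) (Lpn (LP (LK LD1_c13 LD2_c5 LD3_c53))))))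
theorem f497880 : Led Lsl_af (LP (LK LD1_c13 LD2_c5 LD3_c13)) = (LP (LK LD1_c13 LD2_c56 LD3_c11)) :=
  Lgr Lrot0 (Lpr_at (K47.f497870 IH) (Lpn (LP (LK LD1_c13 LD2_c56 LD3_c11))))
theorem f660037 : Led Lsl_ff (LP (LK LD1_c13 LD2_c56 LD3_c11)) = (LP (LK LD1_c13 LD2_c5 LD3_c53)) :=
  Lgr Lrot30 (Lpe (f497880 IH) (Lpe (f659922 IH) (Lpr_at (f660031 IH) (Lpn (LP (LK LD1_c13 LD2_c5 LD3_c53))))))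
theorem f660044 : Led Lsl_ft (LP (LK LD1_c13 LD2_c56 LD3_c11)) = (LP (LK LD1_c13 LD2_c5 LD3_c53)) :=
  Lgr Lrot48 (Lpr_ff (f660037 IH) (Lpn (LP (LK LD1_c13 LD2_c5 LD3_c53))))
theorem f660033 : Led Lsl_af (LP (LK LD1_c14 LD2_c0 LD3_c54)) = (LP (LK LD1_c13 LD2_c5 LD3_c53)) :=
  Lgr Lrot0 (Lpr_at (f660031 IH) (Lpn (LP (LK LD1_c13 LD2_c5 LD3_c53))))
theorem f660050 : Led Lsl_gt (LP (LK LD1_c7 LD2_c34 LD3_c13)) = (LP (LK LD1_c14 LD2_c0 LD3_c54)) :=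
  Lgr Lrot46 (Lpr_gf (K61.f659944 IH) (Lpr_ft (f660044 IH) (Lpe (f660033 IH) (Lpn (LP (LK LD1_c14 LD2_c0 LD3_c54))))))
theorem f797044 : Led Lsl_gt (LP (LK LD1_c22 LD2_c36 LD3_c34)) = (LP (LK LD1_c13 LD2_c50 LD3_c19)) :=
  Lgr Lrot82 (Lpe (f659879 IH) (Lpr_ct (f659880 IH) (Lpr_gf (f797040 IH) (Lpe (K47.f659904 IH) (Lpe (K47.f659905 IH) (Lpe (f660050 IH) (Lpe (K61.f609451 IH) (Lpr_ct (K61.f609441 IH) (Lpe (K47.f600944 IH) (Lpe (K47.f155609 IH) (Lpn (LP (LK LD1_c13 LD2_c50 LD3_c19)))))))))))))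
theorem f795332 : Led Lsl_af (LP (LK LD1_c13 LD2_c50 LD3_c19)) = v21377 :=
  Lgr Lrot50 (Lpr_et (K46.f155604 IH) (Lpe (K32.f497592 IH) (Lpr_et (f795331 IH) (Lpn v21377))))
theorem f795340 : Led Lsl_ft (LP (LK LD1_c14 LD2_c17 LD3_c35)) = v21377 :=
  Lgr Lrot48 (Lpr_ff (f795339 IH) (Lpn v21377))
theorem f797046 : Led Lsl_gf (LP (LK LD1_c22 LD2_c36 LD3_c34)) = (LP (LK LD1_c14 LD2_c17 LD3_c35)) :=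
  Lgr Lrot47 (Lpr_gt (f797044 IH) (Lpr_af (f795332 IH) (Lpe (f795340 IH) (Lpn (LP (LK LD1_c14 LD2_c17 LD3_c35))))))
theorem f797047 : Led Lsl_gt (LP (LK LD1_c14 LD2_c17 LD3_c35)) = (LP (LK LD1_c22 LD2_c36 LD3_c34)) :=
  Leop (Lpr_gf (f797046 IH) (Lpn (LP (LK LD1_c14 LD2_c17 LD3_c35))))
theorem seed_1618 : LEOK LG_g (LK LD1_c14 LD2_c17 LD3_c35) :=
  Leoe_g (LK LD1_c14 LD2_c17 LD3_c35) (f797047 IH)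
def v21429 : LQ := Led Lsl_gt (LP (LK LD1_c7 LD2_c19 LD3_c33))
theorem f797103 : Led Lsl_gt (LP (LK LD1_c7 LD2_c19 LD3_c33)) = v21429 :=
  Lrfl
def v21430 : LQ := Led Lsl_dt (LP (LK LD1_c7 LD2_c19 LD3_c33))
theorem f797104 : Led Lsl_dt (LP (LK LD1_c7 LD2_c19 LD3_c33)) = v21430 :=
  Lrfl
theorem f628231 : Led Lsl_df (LP (LK LD1_c21 LD2_c13 LD3_c33)) = (LP (LK LD1_c13 LD2_c14 LD3_c17)) :=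
  Lgr Lrot12 (Lpr_bt (K47.f628227 IH) (Lpe (K47.f511158 IH) (Lpr_bt (K47.f511160 IH) (Lpn (LP (LK LD1_c13 LD2_c14 LD3_c17))))))
theorem f797107 : Led Lsl_ef (LP (LK LD1_c13 LD2_c14 LD3_c17)) = v21430 :=
  Lgr Lrot73 (Lpe (f628231 IH) (Lpr_et (K47.f498815 IH) (Lpr_dt (K47.f628217 IH) (Lpr_et (K47.f628210 IH) (Lpr_dt (f797104 IH) (Lpn v21430))))))
theorem f797109 : Led Lsl_et (LP (LK LD1_c13 LD2_c14 LD3_c17)) = v21430 :=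
  Lgr Lrot87 (Lpr_ef (f797107 IH) (Lpn v21430))
theorem f628267 : Led Lsl_df (LP (LK LD1_c21 LD2_c13 LD3_c57)) = (LP (LK LD1_c23 LD2_c14 LD3_c42)) :=
  Lgr Lrot38 (Lpr_dt (K47.f628261 IH) (Lpn (LP (LK LD1_c23 LD2_c14 LD3_c42))))
theorem f628287 : Led Lsl_at (LP (LK LD1_c22 LD2_c14 LD3_c33)) = (LP (LK LD1_c23 LD2_c14 LD3_c42)) :=
  Lgr Lrot51 (Lpr_df (K47.f477608 IH) (Lpe (K47.f628247 IH) (Lpr_df (f628267 IH) (Lpn (LP (LK LD1_c23 LD2_c14 LD3_c42))))))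
theorem f628237 : Led Lsl_ft (LP (LK LD1_c21 LD2_c13 LD3_c33)) = (LP (LK LD1_c22 LD2_c14 LD3_c33)) :=
  Lgr Lrot48 (Lpr_ff (K47.f628233 IH) (Lpn (LP (LK LD1_c22 LD2_c14 LD3_c33))))
theorem f628305 : Led Lsl_gt (LP (LK LD1_c21 LD2_c13 LD3_c33)) = (LP (LK LD1_c13 LD2_c47 LD3_c7)) :=
  Lgr Lrot5 (Lpr_ft (f628237 IH) (Lpr_at (f628287 IH) (Lpe (K47.f97520 IH) (Lpn (LP (LK LD1_c13 LD2_c47 LD3_c7))))))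
theorem f543593 : Led Lsl_et (LP (LK LD1_c7 LD2_c17 LD3_c11)) = (LP (LK LD1_c13 LD2_c47 LD3_c8)) :=
  Lre_e IH (LK LD1_c7 LD2_c17 LD3_c11) (LK LD1_c13 LD2_c47 LD3_c8) Lrfl Lrfl
theorem f615882 : Led Lsl_gf (LP (LK LD1_c22 LD2_c41 LD3_c21)) = (LP (LK LD1_c13 LD2_c47 LD3_c8)) :=
  Lgr Lrot76 (Lpr_af (K46.f526564 IH) (Lpe (K46.f525962 IH) (Lpr_gt (K61.f566231 IH) (Lpn (LP (LK LD1_c13 LD2_c47 LD3_c8))))))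
theorem f526650 : Led Lsl_ft (LP (LK LD1_c22 LD2_c51 LD3_c13)) = (LP (LK LD1_c24 LD2_c40 LD3_c34)) :=
  Lgr Lrot48 (Lpr_ff (K47.f526646 IH) (Lpn (LP (LK LD1_c24 LD2_c40 LD3_c34))))
theorem f526654 : Led Lsl_gt (LP (LK LD1_c22 LD2_c51 LD3_c13)) = (LP (LK LD1_c13 LD2_c30 LD3_c31)) :=
  Lgr Lrot5 (Lpr_ft (f526650 IH) (Lpr_at (K47.f511879 IH) (Lpe (K46.f511877 IH) (Lpn (LP (LK LD1_c13 LD2_c30 LD3_c31))))))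
def v20904 : LQ := Led Lsl_et (LP (LK LD1_c7 LD2_c7 LD3_c54))
theorem f790824 : Led Lsl_et (LP (LK LD1_c7 LD2_c7 LD3_c54)) = v20904 :=
  Lrfl
theorem f797112 : Led Lsl_gt v20904 = v21430 :=
  Lgr Lrot131 (Lpe (f790824 IH) (Lpr_dt (K46.f425506 IH) (Lpe (f526654 IH) (Lpr_df (K47.f526644 IH) (Lpr_gf (f615882 IH) (Lpe (f543593 IH) (Lpr_dt (K47.f18038 IH) (Lpe (f628305 IH) (Lpr_df (f628231 IH) (Lpr_et (f797109 IH) (Lpn v21430)))))))))))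
theorem f499803 : Led Lsl_at (LP (LK LD1_c7 LD2_c18 LD3_c54)) = (LP (LK LD1_c7 LD2_c17 LD3_c10)) :=
  Lgr Lrot100 (Lpr_af (K43.f497681 IH) (Lpn (LP (LK LD1_c7 LD2_c17 LD3_c10))))
theorem f795324 : Led Lsl_gf (LP (LK LD1_c7 LD2_c17 LD3_c10)) = v21376 :=
  Lgr Lrot76 (Lpe (f499803 IH) (Lpe (K47.f609421 IH) (Lpr_gt (f795323 IH) (Lpn v21376))))
theorem f425554 : Led Lsl_et (LP (LK LD1_c1 LD2_c43 LD3_c28)) = (LP (LK LD1_c3 LD2_c33 LD3_c31)) :=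
  Lre_e IH (LK LD1_c1 LD2_c43 LD3_c28) (LK LD1_c3 LD2_c33 LD3_c31) Lrfl Lrfl
theorem f795327 : Led Lsl_et (LP (LK LD1_c22 LD2_c41 LD3_c21)) = v21376 :=
  Lgr Lrot185 (Lpe (K47.f526644 IH) (Lpe (K47.f470972 IH) (Lpe (K47.f97340 IH) (Lpe (K41.f96859 IH) (Lpe (f425554 IH) (Lpr_dt (K39.f96815 IH) (Lpe (K43.f559181 IH) (Lpe (K46.f557843 IH) (Lpr_et (K43.f497680 IH) (Lpr_gf (f795324 IH) (Lpn v21376)))))))))))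
theorem f609481 : Led Lsl_ef (LP (LK LD1_c7 LD2_c17 LD3_c36)) = (LP (LK LD1_c7 LD2_c19 LD3_c22)) :=
  Lgr Lrot88 (Lpr_et (K47.f609477 IH) (Lpn (LP (LK LD1_c7 LD2_c19 LD3_c22))))
theorem f17596 : Led Lsl_dt (LP (LK LD1_c7 LD2_c19 LD3_c22)) = (LP (LK LD1_c13 LD2_c50 LD3_c61)) :=
  Lre_d IH (LK LD1_c7 LD2_c19 LD3_c22) (LK LD1_c13 LD2_c50 LD3_c61) Lrfl Lrfl
theorem f797106 : Led Lsl_df (LP (LK LD1_c7 LD2_c19 LD3_c33)) = v21430 :=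
  Lgr Lrot38 (Lpr_dt (f797104 IH) (Lpn v21430))
theorem f797113 : (LP (LK LD1_c13 LD2_c50 LD3_c61)) = v21429 :=
  (Llr Lrot56 (Lpe (f17596 IH) (Lpe (f609481 IH) (Lpr_gt (f795323 IH) (Lpe (f795327 IH) (Lpe (K47.f526644 IH) (Lpr_gt (f526654 IH) (Lpe (K46.f425506 IH) (Lpr_et (f790824 IH) (Lpr_gt (f797112 IH) (Lpe (f797106 IH) (Lpr_gt (f797103 IH) (Lpn v21429))))))))))))).symm
theorem f797114 : Led Lsl_gt (LP (LK LD1_c7 LD2_c19 LD3_c33)) = (LP (LK LD1_c13 LD2_c50 LD3_c61)) :=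
  Leop (Lpqs (f797113 IH) (Lpe (f797103 IH) (Lpn (LP (LK LD1_c7 LD2_c19 LD3_c33)))))
theorem seed_1619 : LEOK LG_g (LK LD1_c7 LD2_c19 LD3_c33) :=
  Leoe_g (LK LD1_c7 LD2_c19 LD3_c33) (f797114 IH)
def v21446 : LQ := Led Lsl_ct (LP (LK LD1_c7 LD2_c19 LD3_c44))
theorem f797232 : Led Lsl_ct (LP (LK LD1_c7 LD2_c19 LD3_c44)) = v21446 :=
  Lrfl
def v21425 : LQ := Led Lsl_ct (LP (LK LD1_c7 LD2_c19 LD3_c28))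
theorem f797075 : Led Lsl_ct (LP (LK LD1_c7 LD2_c19 LD3_c28)) = v21425 :=
  Lrfl
def v21412 : LQ := Led Lsl_gf (LP (LK LD1_c7 LD2_c18 LD3_c56))
theorem f795715 : Led Lsl_gf (LP (LK LD1_c7 LD2_c18 LD3_c56)) = v21412 :=
  Lrfl
theorem f91254 : Led Lsl_bt (LP (LK LD1_c13 LD2_c16 LD3_c28)) = (LP (LK LD1_c6 LD2_c59 LD3_c47)) :=
  Lre_b IH (LK LD1_c13 LD2_c16 LD3_c28) (LK LD1_c6 LD2_c59 LD3_c47) Lrfl Lrfl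
theorem f795718 : Led Lsl_ct (LP (LK LD1_c13 LD2_c18 LD3_c15)) = v21412 :=
  Lgr Lrot91 (Lpe (K48.f440685 IH) (Lpe (K29.f109615 IH) (Lpr_ct (K29.f440678 IH) (Lpr_gf (K29.f441408 IH) (Lpe (K29.f441410 IH) (Lpr_bt (K47.f441411 IH) (Lpe (K47.f611477 IH) (Lpe (f91254 IH) (Lpr_ct (K32.f94513 IH) (Lpr_gf (f795715 IH) (Lpn v21412)))))))))))
theorem f795720 : Led Lsl_cf (LP (LK LD1_c13 LD2_c18 LD3_c15)) = v21412 :=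
  Lgr Lrot11 (Lpr_ct (f795718 IH) (Lpn v21412))
theorem f466982 : Led Lsl_cf (LP (LK LD1_c7 LD2_c0 LD3_c57)) = (LP (LK LD1_c7 LD2_c18 LD3_c6)) :=
  Lgr Lrot97 (Lpr_bt (K3.f109628 IH) (Lpr_ct (K29.f440678 IH) (Lpr_bt (K29.f440651 IH) (Lpr_ct (K29.f466979 IH) (Lpr_bt (K43.f466981 IH) (Lpn (LP (LK LD1_c7 LD2_c18 LD3_c6))))))))
theorem f467056 : Led Lsl_bt (LP (LK LD1_c7 LD2_c18 LD3_c6)) = (LP (LK LD1_c3 LD2_c38 LD3_c53)) :=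
  Lre_b IH (LK LD1_c7 LD2_c18 LD3_c6) (LK LD1_c3 LD2_c38 LD3_c53) Lrfl Lrfl
theorem f479738 : Led Lsl_et (LP (LK LD1_c13 LD2_c51 LD3_c13)) = (LP (LK LD1_c7 LD2_c19 LD3_c28)) :=
  Lre_e IH (LK LD1_c13 LD2_c51 LD3_c13) (LK LD1_c7 LD2_c19 LD3_c28) Lrfl Lrfl
theorem f255385 : Led Lsl_at (LP (LK LD1_c3 LD2_c10 LD3_c28)) = (LP (LK LD1_c2 LD2_c30 LD3_c40)) :=
  Lgr Lrot107 (Lpe (K13.f204848 IH) (Lpr_af (K14.f255383 IH) (Lpe (K38.f177119 IH) (Lpn (LP (LK LD1_c2 LD2_c30 LD3_c40))))))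
theorem f255371 : Led Lsl_ft (LP (LK LD1_c3 LD2_c10 LD3_c9)) = (LP (LK LD1_c3 LD2_c10 LD3_c28)) :=
  Lgr Lrot4 (Lpe (K13.f164154 IH) (Lpr_ff (K14.f255367 IH) (Lpe (K13.f204847 IH) (Lpn (LP (LK LD1_c3 LD2_c10 LD3_c28))))))
theorem f546915 : Led Lsl_gt (LP (LK LD1_c3 LD2_c10 LD3_c9)) = (LP (LK LD1_c3 LD2_c33 LD3_c37)) :=
  Lgr Lrot5 (Lpr_ft (f255371 IH) (Lpr_at (f255385 IH) (Lpr_gf (K38.f546913 IH) (Lpn (LP (LK LD1_c3 LD2_c33 LD3_c37))))))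
theorem f611278 : Led Lsl_gt (LP (LK LD1_c7 LD2_c19 LD3_c28)) = (LP (LK LD1_c6 LD2_c15 LD3_c3)) :=
  Lgr Lrot131 (Lpe (f479738 IH) (Lpr_dt (K47.f479722 IH) (Lpr_gf (K47.f611270 IH) (Lpe (K47.f108040 IH) (Lpe (K39.f108039 IH) (Lpe (K47.f108142 IH) (Lpr_dt (K38.f108103 IH) (Lpe (f546915 IH) (Lpe (K39.f227754 IH) (Lpr_et (K39.f242763 IH) (Lpn (LP (LK LD1_c6 LD2_c15 LD3_c3)))))))))))))
theorem f795723 : Led Lsl_bf (LP (LK LD1_c7 LD2_c19 LD3_c28)) = v21412 :=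
  Lgr Lrot165 (Lpr_gt (f611278 IH) (Lpr_ct (K46.f608716 IH) (Lpe (K46.f608718 IH) (Lpe (K46.f456436 IH) (Lpr_bt (K34.f467092 IH) (Lpr_gt (K28.f4414 IH) (Lpe (f467056 IH) (Lpe (f466982 IH) (Lpr_gt (K48.f440685 IH) (Lpr_cf (f795720 IH) (Lpn v21412)))))))))))
theorem f795724 : Led Lsl_bt (LP (LK LD1_c7 LD2_c19 LD3_c28)) = v21412 :=
  Lgr Lrot127 (Lpr_bf (f795723 IH) (Lpn v21412))
def v21153 : LQ := Led Lsl_gt (LP (LK LD1_c7 LD2_c12 LD3_c30))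
theorem f793976 : Led Lsl_gt (LP (LK LD1_c7 LD2_c12 LD3_c30)) = v21153 :=
  Lrfl
theorem f440752 : Led Lsl_bt (LP (LK LD1_c21 LD2_c39 LD3_c11)) = (LP (LK LD1_c12 LD2_c33 LD3_c13)) :=
  Lre_b IH (LK LD1_c21 LD2_c39 LD3_c11) (LK LD1_c12 LD2_c33 LD3_c13) Lrfl Lrfl
theorem f661058 : Led Lsl_bt (LP (LK LD1_c12 LD2_c33 LD3_c13)) = (LP (LK LD1_c21 LD2_c39 LD3_c11)) :=
  Lre_b IH (LK LD1_c12 LD2_c33 LD3_c13) (LK LD1_c21 LD2_c39 LD3_c11) Lrfl Lrfl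
theorem f660829 : Led Lsl_cf (LP (LK LD1_c22 LD2_c31 LD3_c61)) = (LP (LK LD1_c14 LD2_c5 LD3_c5)) :=
  Lgr Lrot11 (Lpr_ct (K47.f660827 IH) (Lpn (LP (LK LD1_c14 LD2_c5 LD3_c5))))
theorem f522871 : Led Lsl_ct (LP (LK LD1_c7 LD2_c29 LD3_c31)) = (LP (LK LD1_c14 LD2_c8 LD3_c49)) :=
  Lre_c IH (LK LD1_c7 LD2_c29 LD3_c31) (LK LD1_c14 LD2_c8 LD3_c49) Lrfl Lrfl
theorem f522860 : Led Lsl_bt (LP (LK LD1_c1 LD2_c49 LD3_c10)) = (LP (LK LD1_c3 LD2_c44 LD3_c16)) :=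
  Lre_b IH (LK LD1_c1 LD2_c49 LD3_c10) (LK LD1_c3 LD2_c44 LD3_c16) Lrfl Lrfl
theorem f511585 : Led Lsl_gt (LP (LK LD1_c13 LD2_c6 LD3_c27)) = (LP (LK LD1_c6 LD2_c53 LD3_c48)) :=
  Lre_g IH (LK LD1_c13 LD2_c6 LD3_c27) (LK LD1_c6 LD2_c53 LD3_c48) Lrfl Lrfl
theorem f660846 : Led Lsl_bf (LP (LK LD1_c13 LD2_c6 LD3_c27)) = (LP (LK LD1_c14 LD2_c5 LD3_c5)) :=
  Lgr Lrot156 (Lpr_gt (f511585 IH) (Lpe (K47.f137099 IH) (Lpr_ct (K33.f137118 IH) (Lpr_gt (K34.f98619 IH) (Lpe (K34.f522862 IH) (Lpr_bt (f522860 IH) (Lpr_gt (K47.f485508 IH) (Lpr_ct (f522871 IH) (Lpr_gt (K47.f610265 IH) (Lpr_cf (f660829 IH) (Lpn (LP (LK LD1_c14 LD2_c5 LD3_c5)))))))))))))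
theorem f660848 : Led Lsl_bt (LP (LK LD1_c13 LD2_c6 LD3_c27)) = (LP (LK LD1_c14 LD2_c5 LD3_c5)) :=
  Lgr Lrot127 (Lpr_bf (f660846 IH) (Lpn (LP (LK LD1_c14 LD2_c5 LD3_c5))))
theorem f661059 : Led Lsl_ct (LP (LK LD1_c21 LD2_c39 LD3_c11)) = (LP (LK LD1_c13 LD2_c6 LD3_c27)) :=
  Lgr Lrot83 (Lpe (f661058 IH) (Lpr_cf (K47.f661056 IH) (Lpe (K47.f660835 IH) (Lpr_cf (f660829 IH) (Lpe (f660848 IH) (Lpn (LP (LK LD1_c13 LD2_c6 LD3_c27))))))))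
theorem f137110 : Led Lsl_at (LP (LK LD1_c13 LD2_c6 LD3_c22)) = (LP (LK LD1_c6 LD2_c53 LD3_c48)) :=
  Lre_a IH (LK LD1_c13 LD2_c6 LD3_c22) (LK LD1_c6 LD2_c53 LD3_c48) Lrfl Lrfl
theorem f511586 : Led Lsl_gf (LP (LK LD1_c13 LD2_c6 LD3_c27)) = (LP (LK LD1_c14 LD2_c9 LD3_c39)) :=
  Lgr Lrot47 (Lpr_gt (f511585 IH) (Lpe (f137110 IH) (Lpr_ff (K48.f511577 IH) (Lpn (LP (LK LD1_c14 LD2_c9 LD3_c39))))))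
theorem f518441 : Led Lsl_ct (LP (LK LD1_c7 LD2_c33 LD3_c14)) = (LP (LK LD1_c14 LD2_c9 LD3_c39)) :=
  Lgr Lrot40 (Lpr_ff (K60.f518439 IH) (Lpe (K47.f102463 IH) (Lpr_ff (K48.f511577 IH) (Lpn (LP (LK LD1_c14 LD2_c9 LD3_c39))))))
theorem f96326 : Led Lsl_dt (LP (LK LD1_c6 LD2_c54 LD3_c2)) = (LP (LK LD1_c13 LD2_c6 LD3_c47)) :=
  Lre_d IH (LK LD1_c6 LD2_c54 LD3_c2) (LK LD1_c13 LD2_c6 LD3_c47) Lrfl Lrfl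
theorem f518215 : Led Lsl_bt (LP (LK LD1_c7 LD2_c33 LD3_c8)) = (LP (LK LD1_c6 LD2_c54 LD3_c2)) :=
  Lgr Lrot95 (Lpe (K48.f88134 IH) (Lpr_bf (K47.f518210 IH) (Lpe (f96326 IH) (Lpn (LP (LK LD1_c6 LD2_c54 LD3_c2))))))
theorem f793978 : Led Lsl_ct (LP (LK LD1_c7 LD2_c33 LD3_c8)) = v21153 :=
  Lgr Lrot10 (Lpr_bt (f518215 IH) (Lpe (K48.f518158 IH) (Lpr_ct (f518441 IH) (Lpe (f511586 IH) (Lpe (f661059 IH) (Lpr_bt (f440752 IH) (Lpr_gt (K47.f129914 IH) (Lpe (K49.f440624 IH) (Lpe (K49.f440754 IH) (Lpr_gt (f793976 IH) (Lpn v21153)))))))))))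
theorem f793980 : Led Lsl_cf (LP (LK LD1_c7 LD2_c33 LD3_c8)) = v21153 :=
  Lgr Lrot11 (Lpr_ct (f793978 IH) (Lpn v21153))
theorem f793981 : Led Lsl_ff (LP (LK LD1_c7 LD2_c18 LD3_c22)) = v21153 :=
  Lgr Lrot23 (Lpe (K46.f482977 IH) (Lpe (K47.f518226 IH) (Lpr_ct (f793978 IH) (Lpn v21153))))
theorem f793984 : Led Lsl_ft (LP (LK LD1_c7 LD2_c18 LD3_c22)) = v21153 :=
  Lgr Lrot48 (Lpr_ff (f793981 IH) (Lpn v21153))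
theorem f517359 : Led Lsl_af (LP (LK LD1_c3 LD2_c38 LD3_c22)) = (LP (LK LD1_c1 LD2_c46 LD3_c26)) :=
  Lgr Lrot109 (Lpe (K33.f4074 IH) (Lpr_df (K2.f92484 IH) (Lpe (K33.f92492 IH) (Lpe (K33.f92493 IH) (Lpe (K33.f92494 IH) (Lpr_df (K33.f517347 IH) (Lpe (K29.f481347 IH) (Lpe (K29.f93119 IH) (Lpe (K33.f517140 IH) (Lpn (LP (LK LD1_c1 LD2_c46 LD3_c26))))))))))))
theorem f482981 : Led Lsl_at (LP (LK LD1_c7 LD2_c18 LD3_c22)) = (LP (LK LD1_c3 LD2_c38 LD3_c60)) :=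
  Lre_a IH (LK LD1_c7 LD2_c18 LD3_c22) (LK LD1_c3 LD2_c38 LD3_c60) Lrfl Lrfl
theorem f608898 : Led Lsl_bt (LP (LK LD1_c13 LD2_c38 LD3_c9)) = (LP (LK LD1_c7 LD2_c18 LD3_c22)) :=
  Lgr Lrot62 (Lpr_af (K46.f608894 IH) (Lpe (K34.f92502 IH) (Lpr_af (f517359 IH) (Lpe (K47.f481467 IH) (Lpe (f482981 IH) (Lpn (LP (LK LD1_c7 LD2_c18 LD3_c22))))))))
theorem f610024 : Led Lsl_ff (LP (LK LD1_c13 LD2_c38 LD3_c9)) = (LP (LK LD1_c7 LD2_c18 LD3_c9)) :=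
  Lgr Lrot19 (Lpr_dt (K47.f116229 IH) (Lpr_ft (f610020 IH) (Lpr_dt (f517500 IH) (Lpn (LP (LK LD1_c7 LD2_c18 LD3_c9))))))
theorem f793985 : Led Lsl_bf (LP (LK LD1_c7 LD2_c18 LD3_c9)) = v21153 :=
  Lgr Lrot61 (Lpe (f610024 IH) (Lpr_bt (f608898 IH) (Lpr_ft (f793984 IH) (Lpn v21153))))
theorem f608896 : Led Lsl_at (LP (LK LD1_c13 LD2_c38 LD3_c9)) = (LP (LK LD1_c7 LD2_c17 LD3_c3)) :=
  Lgr Lrot100 (Lpr_af (K46.f608894 IH) (Lpn (LP (LK LD1_c7 LD2_c17 LD3_c3))))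
theorem f610051 : Led Lsl_gt (LP (LK LD1_c7 LD2_c18 LD3_c9)) = (LP (LK LD1_c13 LD2_c38 LD3_c11)) :=
  Lgr Lrot5 (Lpe (f610024 IH) (Lpr_at (f608896 IH) (Lpr_gf (K48.f610049 IH) (Lpn (LP (LK LD1_c13 LD2_c38 LD3_c11))))))
theorem f610057 : Led Lsl_cf (LP (LK LD1_c7 LD2_c29 LD3_c55)) = (LP (LK LD1_c13 LD2_c38 LD3_c11)) :=
  Lgr Lrot11 (Lpr_ct (K48.f610055 IH) (Lpn (LP (LK LD1_c13 LD2_c38 LD3_c11))))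
theorem f797081 : Led Lsl_gt (LP (LK LD1_c7 LD2_c29 LD3_c55)) = v21425 :=
  Lgr Lrot149 (Lpr_cf (f610057 IH) (Lpe (f610051 IH) (Lpr_bf (f793985 IH) (Lpe (f793980 IH) (Lpe (K48.f611483 IH) (Lpr_cf (K32.f94510 IH) (Lpr_bt (K43.f94507 IH) (Lpr_gf (f795715 IH) (Lpe (f795724 IH) (Lpr_ct (f797075 IH) (Lpn v21425)))))))))))
theorem f610075 : Led Lsl_ft (LP (LK LD1_c7 LD2_c27 LD3_c41)) = (LP (LK LD1_c7 LD2_c24 LD3_c16)) :=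
  Lgr Lrot48 (Lpr_ff (K48.f610069 IH) (Lpn (LP (LK LD1_c7 LD2_c24 LD3_c16))))
theorem f610067 : Led Lsl_bf (LP (LK LD1_c7 LD2_c29 LD3_c55)) = (LP (LK LD1_c7 LD2_c24 LD3_c16)) :=
  Lgr Lrot24 (Lpr_bt (K48.f610065 IH) (Lpn (LP (LK LD1_c7 LD2_c24 LD3_c16))))
theorem f610094 : Led Lsl_ff (LP (LK LD1_c7 LD2_c21 LD3_c48)) = (LP (LK LD1_c7 LD2_c29 LD3_c55)) :=
  Lgr Lrot25 (Lpr_bt (K46.f116203 IH) (Lpr_ft (f610075 IH) (Lpe (f610067 IH) (Lpn (LP (LK LD1_c7 LD2_c29 LD3_c55))))))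
theorem f797083 : Led Lsl_gf (LP (LK LD1_c7 LD2_c27 LD3_c43)) = v21425 :=
  Lgr Lrot76 (Lpe (K24.f439337 IH) (Lpr_ff (f610094 IH) (Lpr_gt (f797081 IH) (Lpn v21425))))
theorem f795716 : Led Lsl_gt (LP (LK LD1_c7 LD2_c19 LD3_c22)) = v21412 :=
  Lgr Lrot5 (Lpe (K47.f609483 IH) (Lpe (K32.f497708 IH) (Lpr_gf (f795715 IH) (Lpn v21412))))
theorem f609898 : Led Lsl_bf (LP (LK LD1_c7 LD2_c19 LD3_c22)) = (LP (LK LD1_c7 LD2_c17 LD3_c43)) :=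
  Lgr Lrot61 (Lpe (K47.f609483 IH) (Lpe (K43.f147256 IH) (Lpr_ft (K50.f609894 IH) (Lpn (LP (LK LD1_c7 LD2_c17 LD3_c43))))))
theorem f611083 : Led Lsl_cf (LP (LK LD1_c7 LD2_c29 LD3_c38)) = (LP (LK LD1_c7 LD2_c17 LD3_c43)) :=
  Lgr Lrot108 (Lpr_ft (K48.f611079 IH) (Lpe (K43.f147260 IH) (Lpr_ft (K50.f609894 IH) (Lpn (LP (LK LD1_c7 LD2_c17 LD3_c43))))))
theorem f797238 : Led Lsl_gf (LP (LK LD1_c7 LD2_c29 LD3_c38)) = v21446 :=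
  Lgr Lrot129 (Lpr_cf (f611083 IH) (Lpe (f609898 IH) (Lpr_gt (f795716 IH) (Lpe (f795724 IH) (Lpr_ct (f797075 IH) (Lpe (f797083 IH) (Lpe (K48.f439244 IH) (Lpr_bt (K48.f439237 IH) (Lpe (K48.f611141 IH) (Lpr_ct (f797232 IH) (Lpn v21446)))))))))))
theorem f611092 : Led Lsl_dt (LP (LK LD1_c7 LD2_c29 LD3_c38)) = (LP (LK LD1_c14 LD2_c9 LD3_c5)) :=
  Lre_d IH (LK LD1_c7 LD2_c29 LD3_c38) (LK LD1_c14 LD2_c9 LD3_c5) Lrfl Lrfl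
theorem f147214 : Led Lsl_dt (LP (LK LD1_c7 LD2_c23 LD3_c2)) = (LP (LK LD1_c13 LD2_c57 LD3_c44)) :=
  Lre_d IH (LK LD1_c7 LD2_c23 LD3_c2) (LK LD1_c13 LD2_c57 LD3_c44) Lrfl Lrfl
theorem f497909 : Led Lsl_dt (LP (LK LD1_c14 LD2_c7 LD3_c20)) = (LP (LK LD1_c7 LD2_c28 LD3_c52)) :=
  Lre_d IH (LK LD1_c14 LD2_c7 LD3_c20) (LK LD1_c7 LD2_c28 LD3_c52) Lrfl Lrfl
theorem f497910 : Led Lsl_at (LP (LK LD1_c13 LD2_c57 LD3_c44)) = (LP (LK LD1_c14 LD2_c7 LD3_c20)) :=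
  Lgr Lrot51 (Lpe (f147214 IH) (Lpr_af (K47.f497903 IH) (Lpe (f497909 IH) (Lpn (LP (LK LD1_c14 LD2_c7 LD3_c20))))))
theorem f611090 : Led Lsl_ff (LP (LK LD1_c7 LD2_c29 LD3_c38)) = (LP (LK LD1_c7 LD2_c23 LD3_c2)) :=
  Lgr Lrot3 (Lpr_ft (K48.f611079 IH) (Lpn (LP (LK LD1_c7 LD2_c23 LD3_c2))))
theorem f611097 : Led Lsl_ft (LP (LK LD1_c14 LD2_c9 LD3_c5)) = (LP (LK LD1_c13 LD2_c57 LD3_c44)) :=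
  Lgr Lrot54 (Lpe (f611092 IH) (Lpr_ff (f611090 IH) (Lpe (K34.f147227 IH) (Lpn (LP (LK LD1_c13 LD2_c57 LD3_c44))))))
theorem f794619 : Led Lsl_gf (LP (LK LD1_c7 LD2_c29 LD3_c47)) = (LP (LK LD1_c14 LD2_c9 LD3_c5)) :=
  Lgr Lrot47 (Lpr_gt (f794617 IH) (Lpe (f497910 IH) (Lpe (f611097 IH) (Lpn (LP (LK LD1_c14 LD2_c9 LD3_c5))))))
def v21229 : LQ := Led Lsl_gt (LP (LK LD1_c7 LD2_c15 LD3_c6))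
theorem f794591 : Led Lsl_gt (LP (LK LD1_c7 LD2_c15 LD3_c6)) = v21229 :=
  Lrfl
theorem f794596 : Led Lsl_bt (LP (LK LD1_c14 LD2_c29 LD3_c27)) = v21229 :=
  Lgr Lrot92 (Lpr_ct (K33.f485090 IH) (Lpr_gt (K33.f477125 IH) (Lpr_cf (K32.f477123 IH) (Lpr_bt (K29.f463683 IH) (Lpe (K33.f463675 IH) (Lpe (K5.f132176 IH) (Lpr_gt (K29.f477166 IH) (Lpe (K33.f456234 IH) (Lpr_bt (f485116 IH) (Lpr_gt (f794591 IH) (Lpn v21229)))))))))))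
theorem f794600 : Led Lsl_ff (LP (LK LD1_c7 LD2_c51 LD3_c44)) = v21229 :=
  Lgr Lrot25 (Lpr_bt (K33.f132142 IH) (Lpe (K37.f485102 IH) (Lpr_bt (f794596 IH) (Lpn v21229))))
theorem f794601 : Led Lsl_et (LP (LK LD1_c13 LD2_c32 LD3_c53)) = v21229 :=
  Lgr Lrot69 (Lpr_ff (K37.f515816 IH) (Lpe (K33.f162042 IH) (Lpe (K8.f162047 IH) (Lpe (K33.f159788 IH) (Lpr_ff (f794600 IH) (Lpn v21229))))))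
theorem f482558 : Led Lsl_dt (LP (LK LD1_c13 LD2_c32 LD3_c53)) = (LP (LK LD1_c22 LD2_c55 LD3_c15)) :=
  Lre_d IH (LK LD1_c13 LD2_c32 LD3_c53) (LK LD1_c22 LD2_c55 LD3_c15) Lrfl Lrfl
theorem f611139 : Led Lsl_ff (LP (LK LD1_c23 LD2_c6 LD3_c6)) = (LP (LK LD1_c21 LD2_c14 LD3_c59)) :=
  Lgr Lrot19 (Lpe (K61.f609192 IH) (Lpr_ft (K61.f522289 IH) (Lpr_dt (K48.f611132 IH) (Lpn (LP (LK LD1_c21 LD2_c14 LD3_c59))))))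
theorem f609190 : Led Lsl_af (LP (LK LD1_c21 LD2_c14 LD3_c58)) = (LP (LK LD1_c23 LD2_c6 LD3_c6)) :=
  Lgr Lrot0 (Lpr_at (K47.f609188 IH) (Lpn (LP (LK LD1_c23 LD2_c6 LD3_c6))))
theorem f611147 : Led Lsl_at (LP (LK LD1_c13 LD2_c51 LD3_c55)) = (LP (LK LD1_c21 LD2_c14 LD3_c59)) :=
  Lgr Lrot66 (Lpe (K47.f609175 IH) (Lpr_af (f609190 IH) (Lpr_ff (f611139 IH) (Lpn (LP (LK LD1_c21 LD2_c14 LD3_c59))))))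
theorem f611151 : Led Lsl_gt (LP (LK LD1_c13 LD2_c33 LD3_c3)) = (LP (LK LD1_c21 LD2_c14 LD3_c59)) :=
  Lgr Lrot46 (Lpe (K40.f560899 IH) (Lpr_ft (K47.f609175 IH) (Lpr_at (f611147 IH) (Lpn (LP (LK LD1_c21 LD2_c14 LD3_c59))))))
theorem f456001 : Led Lsl_ct (LP (LK LD1_c3 LD2_c34 LD3_c5)) = (LP (LK LD1_c7 LD2_c9 LD3_c9)) :=
  Lre_c IH (LK LD1_c3 LD2_c34 LD3_c5) (LK LD1_c7 LD2_c9 LD3_c9) Lrfl Lrfl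
theorem f611136 : Led Lsl_df (LP (LK LD1_c13 LD2_c51 LD3_c50)) = (LP (LK LD1_c21 LD2_c14 LD3_c59)) :=
  Lgr Lrot38 (Lpr_dt (K48.f611132 IH) (Lpn (LP (LK LD1_c21 LD2_c14 LD3_c59))))
theorem f523582 : Led Lsl_ef K33.v2492 = (LP (LK LD1_c7 LD2_c5 LD3_c3)) :=
  Lgr Lrot28 (Lpe (K34.f522779 IH) (Lpr_et (K34.f522297 IH) (Lpr_ct (K34.f523546 IH) (Lpn (LP (LK LD1_c7 LD2_c5 LD3_c3))))))
theorem f451033 : Led Lsl_bf K11.v97 = K33.v198 :=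
  Lgr Lrot61 (Lpe (K11.f447685 IH) (Lpr_bt (K33.f12847 IH) (Lpr_ft (K33.f451032 IH) (Lpn K33.v198))))
theorem f522782 : Led Lsl_gf K49.v809 = K33.v2492 :=
  Lgr Lrot126 (Lpe (K49.f459502 IH) (Lpe (f451033 IH) (Lpe (K11.f447689 IH) (Lpq (K24.f455958 IH) (Lpe (K29.f450937 IH) (Lpr_gt (K24.f4033 IH) (Lpr_cf (K2.f3933 IH) (Lpr_bt (K2.f5324 IH) (Lpr_gt (K33.f5328 IH) (Lpe (K34.f5823 IH) (Lpr_ct (K33.f522778 IH) (Lpn K33.v2492))))))))))))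
theorem f4820 : Led Lsl_ft (LP (LK LD1_c0 LD2_c50 LD3_c36)) = (LP (LK LD1_c1 LD2_c47 LD3_c45)) :=
  Lre_f IH (LK LD1_c0 LD2_c50 LD3_c36) (LK LD1_c1 LD2_c47 LD3_c45) Lrfl Lrfl
theorem f459503 : Led Lsl_et (LP (LK LD1_c1 LD2_c47 LD3_c45)) = K49.v809 :=
  Lgr Lrot69 (Lpe (f4820 IH) (Lpe (K4.f12875 IH) (Lpe (K7.f148336 IH) (Lpe (K4.f12874 IH) (Lpr_ff (K49.f459500 IH) (Lpn K49.v809))))))
theorem f148179 : Led Lsl_gt (LP (LK LD1_c7 LD2_c49 LD3_c35)) = (LP (LK LD1_c3 LD2_c54 LD3_c26)) :=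
  Lre_g IH (LK LD1_c7 LD2_c49 LD3_c35) (LK LD1_c3 LD2_c54 LD3_c26) Lrfl Lrfl
theorem f523589 : Led Lsl_df (LP (LK LD1_c3 LD2_c54 LD3_c26)) = (LP (LK LD1_c7 LD2_c5 LD3_c3)) :=
  Lgr Lrot132 (Lpe (f148179 IH) (Lpe (K34.f148178 IH) (Lpe (K33.f148177 IH) (Lpe (K33.f148161 IH) (Lpr_dt (K33.f148163 IH) (Lpe (K33.f4587 IH) (Lpe (K29.f4508 IH) (Lpr_et (f459503 IH) (Lpr_gf (f522782 IH) (Lpr_ef (f523582 IH) (Lpn (LP (LK LD1_c7 LD2_c5 LD3_c3)))))))))))))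
theorem f523593 : Led Lsl_dt (LP (LK LD1_c3 LD2_c54 LD3_c26)) = (LP (LK LD1_c7 LD2_c5 LD3_c3)) :=
  Lgr Lrot42 (Lpr_df (f523589 IH) (Lpn (LP (LK LD1_c7 LD2_c5 LD3_c3))))
theorem f123127 : Led Lsl_bt (LP (LK LD1_c7 LD2_c50 LD3_c31)) = (LP (LK LD1_c3 LD2_c54 LD3_c26)) :=
  Lre_b IH (LK LD1_c7 LD2_c50 LD3_c31) (LK LD1_c3 LD2_c54 LD3_c26) Lrfl Lrfl
theorem f523605 : Led Lsl_df (LP (LK LD1_c7 LD2_c50 LD3_c31)) = (LP (LK LD1_c13 LD2_c25 LD3_c53)) :=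
  Lgr Lrot12 (Lpr_bt (f123127 IH) (Lpr_dt (f523593 IH) (Lpr_bt (K61.f523577 IH) (Lpn (LP (LK LD1_c13 LD2_c25 LD3_c53))))))
theorem f523052 : Led Lsl_at (LP (LK LD1_c7 LD2_c50 LD3_c31)) = (LP (LK LD1_c14 LD2_c47 LD3_c42)) :=
  Lre_a IH (LK LD1_c7 LD2_c50 LD3_c31) (LK LD1_c14 LD2_c47 LD3_c42) Lrfl Lrfl
theorem f523607 : Led Lsl_at (LP (LK LD1_c22 LD2_c45 LD3_c12)) = (LP (LK LD1_c13 LD2_c25 LD3_c53)) :=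
  Lre_a IH (LK LD1_c22 LD2_c45 LD3_c12) (LK LD1_c13 LD2_c25 LD3_c53) Lrfl Lrfl
theorem f523608 : Led Lsl_dt (LP (LK LD1_c14 LD2_c47 LD3_c42)) = (LP (LK LD1_c22 LD2_c45 LD3_c12)) :=
  Lgr Lrot44 (Lpe (f523052 IH) (Lpr_df (f523605 IH) (Lpe (f523607 IH) (Lpn (LP (LK LD1_c22 LD2_c45 LD3_c12))))))
theorem f611153 : Led Lsl_gt (LP (LK LD1_c22 LD2_c55 LD3_c15)) = (LP (LK LD1_c14 LD2_c47 LD3_c42)) :=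
  Lgr Lrot49 (Lpe (f482558 IH) (Lpe (K34.f482414 IH) (Lpe (f456001 IH) (Lpr_gt (K40.f6028 IH) (Lpr_dt (K40.f6068 IH) (Lpr_gt (f611151 IH) (Lpe (f611136 IH) (Lpr_cf (K47.f523621 IH) (Lpe (f523608 IH) (Lpn (LP (LK LD1_c14 LD2_c47 LD3_c42))))))))))))
theorem f523613 : Led Lsl_df (LP (LK LD1_c14 LD2_c47 LD3_c42)) = (LP (LK LD1_c22 LD2_c45 LD3_c12)) :=
  Lgr Lrot38 (Lpr_dt (f523608 IH) (Lpn (LP (LK LD1_c22 LD2_c45 LD3_c12))))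
theorem f797240 : Led Lsl_et (LP (LK LD1_c22 LD2_c45 LD3_c12)) = v21446 :=
  Lgr Lrot121 (Lpe (f523613 IH) (Lpe (f611153 IH) (Lpe (f482558 IH) (Lpr_et (f794601 IH) (Lpe (f794591 IH) (Lpr_ef (f794612 IH) (Lpe (f794615 IH) (Lpr_gf (f794619 IH) (Lpe (f611092 IH) (Lpr_gf (f797238 IH) (Lpn v21446)))))))))))
def v20854 : LQ := Led Lsl_gt (LP (LK LD1_c7 LD2_c6 LD3_c4))
theorem f790414 : Led Lsl_gt (LP (LK LD1_c7 LD2_c6 LD3_c4)) = v20854 :=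
  Lrfl
def v7141 : LQ := Led Lsl_ft (LP (LK LD1_c3 LD2_c39 LD3_c49))
theorem f661510 : Led Lsl_ft (LP (LK LD1_c3 LD2_c39 LD3_c49)) = v7141 :=
  Lrfl
theorem f790415 : Led Lsl_at v7141 = v20854 :=
  Lgr Lrot26 (Lpe (f661510 IH) (Lpe (K61.f571496 IH) (Lpr_gt (f790414 IH) (Lpn v20854))))
theorem f511776 : Led Lsl_at (LP (LK LD1_c7 LD2_c19 LD3_c51)) = (LP (LK LD1_c3 LD2_c39 LD3_c49)) :=
  Lre_a IH (LK LD1_c7 LD2_c19 LD3_c51) (LK LD1_c3 LD2_c39 LD3_c49) Lrfl Lrfl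
theorem f790418 : Led Lsl_ff (LP (LK LD1_c7 LD2_c19 LD3_c51)) = v20854 :=
  Lgr Lrot30 (Lpr_at (f511776 IH) (Lpr_ft (f661510 IH) (Lpr_at (f790415 IH) (Lpn v20854))))
def v20824 : LQ := Led Lsl_gf (LP (LK LD1_c7 LD2_c5 LD3_c38))
theorem f790258 : Led Lsl_gf (LP (LK LD1_c7 LD2_c5 LD3_c38)) = v20824 :=
  Lrfl
theorem f523449 : Led Lsl_at (LP (LK LD1_c7 LD2_c19 LD3_c44)) = (LP (LK LD1_c3 LD2_c39 LD3_c45)) :=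
  Lre_a IH (LK LD1_c7 LD2_c19 LD3_c44) (LK LD1_c3 LD2_c39 LD3_c45) Lrfl Lrfl
theorem f790260 : Led Lsl_ff (LP (LK LD1_c7 LD2_c19 LD3_c44)) = v20824 :=
  Lgr Lrot52 (Lpr_at (f523449 IH) (Lpr_gf (K48.f608863 IH) (Lpr_gf (f790258 IH) (Lpn v20824))))
theorem f790262 : Led Lsl_ft (LP (LK LD1_c7 LD2_c19 LD3_c44)) = v20824 :=
  Lgr Lrot48 (Lpr_ff (f790260 IH) (Lpn v20824))
theorem f790263 : Led Lsl_af K48.v7134 = v20824 :=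
  Lgr Lrot45 (Lpe (K48.f661437 IH) (Lpr_at (K48.f523454 IH) (Lpr_ft (f790262 IH) (Lpn v20824))))
theorem f661435 : Led Lsl_bf K34.v2496 = K48.v7134 :=
  Lgr Lrot61 (Lpe (K34.f523458 IH) (Lpr_bt (K46.f5355 IH) (Lpr_ft (K48.f661434 IH) (Lpn K48.v7134))))
theorem f523456 : Led Lsl_af (LP (LK LD1_c1 LD2_c46 LD3_c50)) = K34.v2496 :=
  Lgr Lrot45 (Lpr_ft (K61.f523452 IH) (Lpe (K61.f523448 IH) (Lpr_ft (K34.f523455 IH) (Lpn K34.v2496))))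
theorem f511763 : Led Lsl_at (LP (LK LD1_c3 LD2_c39 LD3_c49)) = (LP (LK LD1_c7 LD2_c19 LD3_c51)) :=
  Lre_a IH (LK LD1_c3 LD2_c39 LD3_c49) (LK LD1_c7 LD2_c19 LD3_c51) Lrfl Lrfl
theorem f790264 : Led Lsl_bt (LP (LK LD1_c7 LD2_c19 LD3_c51)) = v20824 :=
  Lgr Lrot62 (Lpe (f511763 IH) (Lpe (K47.f5351 IH) (Lpr_af (f523456 IH) (Lpr_bf (f661435 IH) (Lpr_af (f790263 IH) (Lpn v20824))))))
theorem f790419 : Led Lsl_bt (LP (LK LD1_c7 LD2_c19 LD3_c44)) = v20854 :=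
  Lgr Lrot35 (Lpr_ff (f790260 IH) (Lpe (f790264 IH) (Lpr_ff (f790418 IH) (Lpn v20854))))
theorem f790421 : Led Lsl_gf (LP (LK LD1_c7 LD2_c19 LD3_c50)) = v20854 :=
  Lgr Lrot47 (Lpr_gt (K61.f5352 IH) (Lpe (f511776 IH) (Lpr_ff (f790418 IH) (Lpn v20854))))
theorem f440659 : Led Lsl_ft (LP (LK LD1_c7 LD2_c0 LD3_c39)) = (LP (LK LD1_c3 LD2_c29 LD3_c30)) :=
  Lre_f IH (LK LD1_c7 LD2_c0 LD3_c39) (LK LD1_c3 LD2_c29 LD3_c30) Lrfl Lrfl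
theorem f660062 : Led Lsl_cf (LP (LK LD1_c7 LD2_c0 LD3_c39)) = K61.v6996 :=
  Lgr Lrot108 (Lpr_ft (f440659 IH) (Lpr_ct (K28.f109481 IH) (Lpr_ft (K61.f660059 IH) (Lpn K61.v6996))))
theorem f440663 : Led Lsl_gt (LP (LK LD1_c7 LD2_c0 LD3_c39)) = (LP (LK LD1_c3 LD2_c29 LD3_c35)) :=
  Lre_g IH (LK LD1_c7 LD2_c0 LD3_c39) (LK LD1_c3 LD2_c29 LD3_c35) Lrfl Lrfl
theorem f476432 : Led Lsl_bt (LP (LK LD1_c1 LD2_c46 LD3_c18)) = (LP (LK LD1_c3 LD2_c38 LD3_c41)) :=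
  Lre_b IH (LK LD1_c1 LD2_c46 LD3_c18) (LK LD1_c3 LD2_c38 LD3_c41) Lrfl Lrfl
theorem f567481 : Led Lsl_ct (LP (LK LD1_c6 LD2_c15 LD3_c5)) = (LP (LK LD1_c7 LD2_c28 LD3_c52)) :=
  Lgr Lrot59 (Lpr_cf (K47.f567477 IH) (Lpn (LP (LK LD1_c7 LD2_c28 LD3_c52))))
theorem f797237 : Led Lsl_gt (LP (LK LD1_c7 LD2_c28 LD3_c52)) = v21446 :=
  Lgr Lrot149 (Lpe (f567481 IH) (Lpr_gf (K47.f609768 IH) (Lpe (f476432 IH) (Lpe (K29.f476435 IH) (Lpe (f440663 IH) (Lpr_cf (f660062 IH) (Lpe (K61.f660061 IH) (Lpr_gf (f790421 IH) (Lpe (f790419 IH) (Lpr_ct (f797232 IH) (Lpn v21446)))))))))))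
theorem f155662 : Led Lsl_dt (LP (LK LD1_c7 LD2_c51 LD3_c45)) = (LP (LK LD1_c14 LD2_c49 LD3_c44)) :=
  Lre_d IH (LK LD1_c7 LD2_c51 LD3_c45) (LK LD1_c14 LD2_c49 LD3_c44) Lrfl Lrfl
theorem f797242 : Led Lsl_gt (LP (LK LD1_c14 LD2_c47 LD3_c42)) = (LP (LK LD1_c14 LD2_c49 LD3_c44)) :=
  Lgr Lrot112 (Lpr_df (f523613 IH) (Lpr_et (f797240 IH) (Lpe (f797237 IH) (Lpe (K47.f497902 IH) (Lpe (K39.f552175 IH) (Lpr_gf (K39.f552162 IH) (Lpe (K8.f159816 IH) (Lpe (K8.f11771 IH) (Lpe (K8.f155663 IH) (Lpr_dt (f155662 IH) (Lpn (LP (LK LD1_c14 LD2_c49 LD3_c44)))))))))))))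
theorem f797243 : Led Lsl_gt (LP (LK LD1_c14 LD2_c47 LD3_c42)) = (LP (LK LD1_c14 LD2_c49 LD3_c44)) :=
  Leop (Lpe (f797242 IH) (Lpn (LP (LK LD1_c14 LD2_c47 LD3_c42))))
theorem seed_1620 : LEOK LG_g (LK LD1_c14 LD2_c47 LD3_c42) :=
  Leoe_g (LK LD1_c14 LD2_c47 LD3_c42) (f797243 IH)
def v21474 : LQ := Led Lsl_dt (LP (LK LD1_c7 LD2_c20 LD3_c9))
theorem f797424 : Led Lsl_dt (LP (LK LD1_c7 LD2_c20 LD3_c9)) = v21474 :=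
  Lrfl
theorem f156322 : Led Lsl_ct (LP (LK LD1_c7 LD2_c26 LD3_c20)) = (LP (LK LD1_c12 LD2_c30 LD3_c41)) :=
  Lgr Lrot176 (Lpe (K7.f120898 IH) (Lpe (K4.f120879 IH) (Lpr_df (K7.f156299 IH) (Lpe (K7.f156308 IH) (Lpr_df (K7.f156314 IH) (Lpe (K7.f153209 IH) (Lpe (K7.f95952 IH) (Lpr_cf (K7.f153201 IH) (Lpe (K7.f124262 IH) (Lpe (K5.f131059 IH) (Lpe (K3.f87547 IH) (Lpr_cf (K2.f87527 IH) (Lpr_df (K7.f120907 IH) (Lpr_cf (K58.f153366 IH) (Lpe (K11.f153374 IH) (Lpn (LP (LK LD1_c12 LD2_c30 LD3_c41))))))))))))))))))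
theorem f156328 : Led Lsl_af (LP (LK LD1_c3 LD2_c42 LD3_c33)) = (LP (LK LD1_c3 LD2_c40 LD3_c0)) :=
  Lgr Lrot109 (Lpr_cf (K58.f153366 IH) (Lpe (K11.f153374 IH) (Lpe (f156322 IH) (Lpe (K7.f120898 IH) (Lpe (K4.f120879 IH) (Lpr_df (K7.f156299 IH) (Lpe (K7.f156308 IH) (Lpr_df (K7.f156314 IH) (Lpr_ft (K7.f153193 IH) (Lpn (LP (LK LD1_c3 LD2_c40 LD3_c0))))))))))))
theorem f434307 : Led Lsl_at (LP (LK LD1_c6 LD2_c31 LD3_c1)) = (LP (LK LD1_c7 LD2_c20 LD3_c9)) :=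
  Lgr Lrot107 (Lpe (K7.f153361 IH) (Lpr_af (f156328 IH) (Lpe (K5.f105654 IH) (Lpn (LP (LK LD1_c7 LD2_c20 LD3_c9))))))
theorem f434312 : Led Lsl_ff (LP (LK LD1_c6 LD2_c31 LD3_c1)) = (LP (LK LD1_c7 LD2_c20 LD3_c11)) :=
  Lgr Lrot30 (Lpr_at (f434307 IH) (Lpe (K7.f153214 IH) (Lpr_at (K7.f153320 IH) (Lpn (LP (LK LD1_c7 LD2_c20 LD3_c11))))))
theorem f434314 : Led Lsl_gt (LP (LK LD1_c3 LD2_c43 LD3_c9)) = (LP (LK LD1_c7 LD2_c20 LD3_c9)) :=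
  Lgr Lrot46 (Lpe (K5.f134582 IH) (Lpe (f434312 IH) (Lpr_at (f434307 IH) (Lpn (LP (LK LD1_c7 LD2_c20 LD3_c9))))))
theorem f21041 : Led Lsl_ct (LP (LK LD1_c3 LD2_c1 LD3_c7)) = (LP (LK LD1_c6 LD2_c9 LD3_c20)) :=
  Lre_c IH (LK LD1_c3 LD2_c1 LD3_c7) (LK LD1_c6 LD2_c9 LD3_c20) Lrfl Lrfl
def v16957 : LQ := Led Lsl_dt (LP (LK LD1_c6 LD2_c9 LD3_c20))
theorem f753763 : Led Lsl_dt (LP (LK LD1_c6 LD2_c9 LD3_c20)) = v16957 :=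
  Lrfl
theorem f753766 : Led Lsl_df (LP (LK LD1_c6 LD2_c9 LD3_c20)) = v16957 :=
  Lgr Lrot38 (Lpr_dt (f753763 IH) (Lpn v16957))
theorem f797429 : Led Lsl_gf v16957 = v21474 :=
  Lgr Lrot143 (Lpe (f753766 IH) (Lpe (f21041 IH) (Lpe (K11.f21040 IH) (Lpe (K46.f21039 IH) (Lpe (K5.f21087 IH) (Lpe (K5.f86761 IH) (Lpe (K3.f86770 IH) (Lpr_gt (f434314 IH) (Lpr_dt (f797424 IH) (Lpn v21474))))))))))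
theorem f125105 : Led Lsl_ct (LP (LK LD1_c7 LD2_c25 LD3_c42)) = (LP (LK LD1_c3 LD2_c42 LD3_c31)) :=
  Lre_c IH (LK LD1_c7 LD2_c25 LD3_c42) (LK LD1_c3 LD2_c42 LD3_c31) Lrfl Lrfl
theorem f431006 : Led Lsl_gt (LP (LK LD1_c6 LD2_c9 LD3_c20)) = (LP (LK LD1_c7 LD2_c25 LD3_c42)) :=
  Lgr Lrot150 (Lpe (f21041 IH) (Lpr_gf (K11.f431002 IH) (Lpe (K7.f94387 IH) (Lpe (K5.f106322 IH) (Lpr_ct (K3.f95784 IH) (Lpr_gt (K3.f95926 IH) (Lpr_ct (K5.f125098 IH) (Lpe (K5.f125097 IH) (Lpe (f125105 IH) (Lpn (LP (LK LD1_c7 LD2_c25 LD3_c42))))))))))))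
theorem f431009 : Led Lsl_gf (LP (LK LD1_c6 LD2_c9 LD3_c20)) = (LP (LK LD1_c7 LD2_c25 LD3_c43)) :=
  Lgr Lrot47 (Lpr_gt (f431006 IH) (Lpe (K7.f125211 IH) (Lpr_ff (K7.f131232 IH) (Lpn (LP (LK LD1_c7 LD2_c25 LD3_c43))))))
def v7763 : LQ := Led Lsl_dt (LP (LK LD1_c3 LD2_c56 LD3_c47))
theorem f668282 : Led Lsl_dt (LP (LK LD1_c3 LD2_c56 LD3_c47)) = v7763 :=
  Lrfl
theorem f668288 : Led Lsl_ct (LP (LK LD1_c13 LD2_c0 LD3_c46)) = v7763 :=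
  Lgr Lrot7 (Lpe (K7.f87504 IH) (Lpr_gf (K7.f153372 IH) (Lpe (K11.f153374 IH) (Lpr_gf (K11.f430979 IH) (Lpe (K61.f448550 IH) (Lpr_gt (K61.f448541 IH) (Lpr_dt (K5.f25750 IH) (Lpr_gt (K3.f11138 IH) (Lpr_dt (f668282 IH) (Lpn v7763))))))))))
theorem f84870 : Led Lsl_dt (LP (LK LD1_c6 LD2_c52 LD3_c50)) = (LP (LK LD1_c3 LD2_c25 LD3_c18)) :=
  Lre_d IH (LK LD1_c6 LD2_c52 LD3_c50) (LK LD1_c3 LD2_c25 LD3_c18) Lrfl Lrfl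
theorem f668287 : Led Lsl_gf (LP (LK LD1_c6 LD2_c52 LD3_c50)) = v7763 :=
  Lgr Lrot143 (Lpr_dt (f84870 IH) (Lpe (K11.f84869 IH) (Lpe (K11.f84920 IH) (Lpr_gf (K7.f144129 IH) (Lpe (K5.f12559 IH) (Lpr_gf (K5.f135043 IH) (Lpe (K5.f25749 IH) (Lpr_gt (K3.f11138 IH) (Lpr_dt (f668282 IH) (Lpn v7763))))))))))
theorem f12740 : Led Lsl_gt (LP (LK LD1_c6 LD2_c52 LD3_c41)) = (LP (LK LD1_c3 LD2_c25 LD3_c13)) :=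
  Lre_g IH (LK LD1_c6 LD2_c52 LD3_c41) (LK LD1_c3 LD2_c25 LD3_c13) Lrfl Lrfl
theorem f438945 : Led Lsl_gt (LP (LK LD1_c7 LD2_c26 LD3_c16)) = (LP (LK LD1_c6 LD2_c52 LD3_c41)) :=
  Lgr Lrot5 (Lpr_ft (K5.f134681 IH) (Lpr_at (K5.f134671 IH) (Lpe (f12740 IH) (Lpn (LP (LK LD1_c6 LD2_c52 LD3_c41))))))
theorem f156176 : Led Lsl_ct (LP (LK LD1_c1 LD2_c45 LD3_c42)) = (LP (LK LD1_c3 LD2_c37 LD3_c44)) :=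
  Lre_c IH (LK LD1_c1 LD2_c45 LD3_c42) (LK LD1_c3 LD2_c37 LD3_c44) Lrfl Lrfl
theorem f438947 : Led Lsl_df (LP (LK LD1_c3 LD2_c37 LD3_c44)) = (LP (LK LD1_c6 LD2_c52 LD3_c41)) :=
  Lgr Lrot84 (Lpe (f156176 IH) (Lpe (K11.f156072 IH) (Lpr_gf (K6.f143284 IH) (Lpr_df (K6.f142969 IH) (Lpe (K4.f115501 IH) (Lpe (K3.f106888 IH) (Lpe (K5.f131057 IH) (Lpr_dt (K5.f131048 IH) (Lpr_gt (f438945 IH) (Lpn (LP (LK LD1_c6 LD2_c52 LD3_c41))))))))))))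
theorem f438949 : Led Lsl_dt (LP (LK LD1_c3 LD2_c37 LD3_c44)) = (LP (LK LD1_c6 LD2_c52 LD3_c41)) :=
  Lgr Lrot42 (Lpr_df (f438947 IH) (Lpn (LP (LK LD1_c6 LD2_c52 LD3_c41))))
theorem f438952 : Led Lsl_gf (LP (LK LD1_c3 LD2_c37 LD3_c44)) = (LP (LK LD1_c3 LD2_c25 LD3_c18)) :=
  Lgr Lrot144 (Lpr_dt (f438949 IH) (Lpr_gt (f12740 IH) (Lpr_dt (K5.f12739 IH) (Lpe (K3.f12731 IH) (Lpe (K5.f21130 IH) (Lpe (K7.f21088 IH) (Lpe (K11.f21092 IH) (Lpr_gf (K11.f430967 IH) (Lpe (K47.f84883 IH) (Lpn (LP (LK LD1_c3 LD2_c25 LD3_c18))))))))))))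
theorem f753768 : Led Lsl_ct (LP (LK LD1_c6 LD2_c52 LD3_c41)) = v16957 :=
  Lgr Lrot7 (Lpe (f438949 IH) (Lpr_gf (f438952 IH) (Lpe (f84870 IH) (Lpr_gf (f668287 IH) (Lpe (f668288 IH) (Lpr_gt (K7.f106965 IH) (Lpr_dt (K7.f153257 IH) (Lpe (f431009 IH) (Lpr_dt (f753763 IH) (Lpn v16957))))))))))
theorem f86807 : Led Lsl_ct (LP (LK LD1_c6 LD2_c9 LD3_c23)) = (LP (LK LD1_c3 LD2_c1 LD3_c9)) :=
  Lre_c IH (LK LD1_c6 LD2_c9 LD3_c23) (LK LD1_c3 LD2_c1 LD3_c9) Lrfl Lrfl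
theorem f86808 : Led Lsl_dt (LP (LK LD1_c11 LD2_c59 LD3_c47)) = (LP (LK LD1_c6 LD2_c9 LD3_c23)) :=
  Lre_d IH (LK LD1_c11 LD2_c59 LD3_c47) (LK LD1_c6 LD2_c9 LD3_c23) Lrfl Lrfl
theorem f156041 : Led Lsl_et (LP (LK LD1_c6 LD2_c9 LD3_c24)) = (LP (LK LD1_c3 LD2_c1 LD3_c9)) :=
  Lre_e IH (LK LD1_c6 LD2_c9 LD3_c24) (LK LD1_c3 LD2_c1 LD3_c9) Lrfl Lrfl
theorem f448260 : Led Lsl_af (LP (LK LD1_c6 LD2_c9 LD3_c24)) = (LP (LK LD1_c6 LD2_c48 LD3_c3)) :=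
  Lgr Lrot50 (Lpr_et (f156041 IH) (Lpr_at (K49.f448252 IH) (Lpr_et (K48.f430500 IH) (Lpn (LP (LK LD1_c6 LD2_c48 LD3_c3))))))
theorem f156052 : Led Lsl_ct (LP (LK LD1_c6 LD2_c9 LD3_c24)) = (LP (LK LD1_c11 LD2_c59 LD3_c48)) :=
  Lre_c IH (LK LD1_c6 LD2_c9 LD3_c24) (LK LD1_c11 LD2_c59 LD3_c48) Lrfl Lrfl
theorem f430525 : Led Lsl_ct (LP (LK LD1_c12 LD2_c58 LD3_c50)) = (LP (LK LD1_c6 LD2_c48 LD3_c3)) :=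
  Lre_c IH (LK LD1_c12 LD2_c58 LD3_c50) (LK LD1_c6 LD2_c48 LD3_c3) Lrfl Lrfl
theorem f448264 : Led Lsl_at (LP (LK LD1_c11 LD2_c59 LD3_c48)) = (LP (LK LD1_c12 LD2_c58 LD3_c50)) :=
  Lgr Lrot107 (Lpe (f156052 IH) (Lpr_af (f448260 IH) (Lpe (f430525 IH) (Lpn (LP (LK LD1_c12 LD2_c58 LD3_c50))))))
theorem f448266 : Led Lsl_af (LP (LK LD1_c11 LD2_c59 LD3_c48)) = (LP (LK LD1_c12 LD2_c58 LD3_c50)) :=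
  Lgr Lrot0 (Lpr_at (f448264 IH) (Lpn (LP (LK LD1_c12 LD2_c58 LD3_c50))))
theorem f156035 : Led Lsl_et (LP (LK LD1_c11 LD2_c59 LD3_c48)) = (LP (LK LD1_c6 LD2_c9 LD3_c23)) :=
  Lre_e IH (LK LD1_c11 LD2_c59 LD3_c48) (LK LD1_c6 LD2_c9 LD3_c23) Lrfl Lrfl
theorem f430524 : Led Lsl_et (LP (LK LD1_c6 LD2_c48 LD3_c2)) = (LP (LK LD1_c12 LD2_c58 LD3_c50)) :=
  Lre_e IH (LK LD1_c6 LD2_c48 LD3_c2) (LK LD1_c12 LD2_c58 LD3_c50) Lrfl Lrfl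
theorem f448269 : Led Lsl_at (LP (LK LD1_c6 LD2_c9 LD3_c23)) = (LP (LK LD1_c6 LD2_c48 LD3_c2)) :=
  Lgr Lrot80 (Lpe (f156035 IH) (Lpr_af (f448266 IH) (Lpe (f430524 IH) (Lpn (LP (LK LD1_c6 LD2_c48 LD3_c2))))))
theorem f448273 : Led Lsl_ff (LP (LK LD1_c6 LD2_c9 LD3_c23)) = (LP (LK LD1_c6 LD2_c48 LD3_c5)) :=
  Lgr Lrot52 (Lpr_at (f448269 IH) (Lpr_gf (K11.f430490 IH) (Lpe (K7.f153265 IH) (Lpn (LP (LK LD1_c6 LD2_c48 LD3_c5))))))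
theorem f143281 : Led Lsl_dt (LP (LK LD1_c6 LD2_c9 LD3_c23)) = (LP (LK LD1_c11 LD2_c59 LD3_c47)) :=
  Lre_d IH (LK LD1_c6 LD2_c9 LD3_c23) (LK LD1_c11 LD2_c59 LD3_c47) Lrfl Lrfl
theorem f448277 : Led Lsl_ft (LP (LK LD1_c11 LD2_c59 LD3_c47)) = (LP (LK LD1_c12 LD2_c58 LD3_c52)) :=
  Lgr Lrot54 (Lpe (f143281 IH) (Lpr_ff (f448273 IH) (Lpe (K61.f153270 IH) (Lpn (LP (LK LD1_c12 LD2_c58 LD3_c52))))))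
theorem f753769 : Led Lsl_at (LP (LK LD1_c12 LD2_c58 LD3_c52)) = v16957 :=
  Lgr Lrot33 (Lpe (f448277 IH) (Lpr_dt (f86808 IH) (Lpr_ct (f86807 IH) (Lpr_dt (K7.f21153 IH) (Lpe (K7.f143279 IH) (Lpr_dt (K11.f156072 IH) (Lpr_ct (f156176 IH) (Lpr_dt (f438949 IH) (Lpr_ct (f753768 IH) (Lpn v16957))))))))))
theorem f797431 : Led Lsl_gt (LP (LK LD1_c11 LD2_c59 LD3_c47)) = v21474 :=
  Lgr Lrot5 (Lpr_ft (f448277 IH) (Lpr_at (f753769 IH) (Lpr_gf (f797429 IH) (Lpn v21474))))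
theorem f156030 : Led Lsl_gf (LP (LK LD1_c6 LD2_c9 LD3_c23)) = (LP (LK LD1_c7 LD2_c25 LD3_c42)) :=
  Lgr Lrot47 (Lpr_gt (K7.f156027 IH) (Lpe (K7.f125131 IH) (Lpe (K7.f131230 IH) (Lpn (LP (LK LD1_c7 LD2_c25 LD3_c42))))))
theorem f144203 : Led Lsl_ef (LP (LK LD1_c7 LD2_c25 LD3_c42)) = (LP (LK LD1_c14 LD2_c1 LD3_c34)) :=
  Lgr Lrot28 (Lpr_ct (f125105 IH) (Lpr_et (K11.f144201 IH) (Lpr_ct (K11.f114949 IH) (Lpn (LP (LK LD1_c14 LD2_c1 LD3_c34))))))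
theorem f144212 : Led Lsl_dt (LP (LK LD1_c14 LD2_c1 LD3_c34)) = (LP (LK LD1_c23 LD2_c34 LD3_c28)) :=
  Lre_d IH (LK LD1_c14 LD2_c1 LD3_c34) (LK LD1_c23 LD2_c34 LD3_c28) Lrfl Lrfl
theorem f770618 : Led Lsl_et (LP (LK LD1_c7 LD2_c20 LD3_c9)) = (LP (LK LD1_c12 LD2_c50 LD3_c12)) :=
  Lgr Lrot158 (Lpe (K5.f12554 IH) (Lpe (K58.f115139 IH) (Lpr_cf (K58.f770611 IH) (Lpn (LP (LK LD1_c12 LD2_c50 LD3_c12))))))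
theorem f432228 : Led Lsl_dt (LP (LK LD1_c12 LD2_c50 LD3_c14)) = (LP (LK LD1_c21 LD2_c58 LD3_c27)) :=
  Lre_d IH (LK LD1_c12 LD2_c50 LD3_c14) (LK LD1_c21 LD2_c58 LD3_c27) Lrfl Lrfl
theorem f797432 : Led Lsl_gf (LP (LK LD1_c23 LD2_c34 LD3_c28)) = (LP (LK LD1_c21 LD2_c58 LD3_c27)) :=
  Lgr Lrot145 (Lpe (f144212 IH) (Lpe (f144203 IH) (Lpe (f156030 IH) (Lpr_dt (f143281 IH) (Lpr_gt (f797431 IH) (Lpe (f797424 IH) (Lpr_et (f770618 IH) (Lpr_gt (K58.f652059 IH) (Lpe (K58.f675061 IH) (Lpr_dt (f432228 IH) (Lpn (LP (LK LD1_c21 LD2_c58 LD3_c27)))))))))))))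
theorem f797433 : Led Lsl_gt (LP (LK LD1_c21 LD2_c58 LD3_c27)) = (LP (LK LD1_c23 LD2_c34 LD3_c28)) :=
  Leop (Lpr_gf (f797432 IH) (Lpn (LP (LK LD1_c21 LD2_c58 LD3_c27))))
theorem seed_1621 : LEOK LG_g (LK LD1_c21 LD2_c58 LD3_c27) :=
  Leoe_g (LK LD1_c21 LD2_c58 LD3_c27) (f797433 IH)
def v21498 : LQ := Led Lsl_ft (LP (LK LD1_c7 LD2_c20 LD3_c37))
theorem f797554 : Led Lsl_ft (LP (LK LD1_c7 LD2_c20 LD3_c37)) = v21498 :=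
  Lrfl
theorem f797558 : Led Lsl_ff (LP (LK LD1_c7 LD2_c20 LD3_c37)) = v21498 :=
  Lgr Lrot3 (Lpr_ft (f797554 IH) (Lpn v21498))
theorem f797562 : Led Lsl_gf (LP (LK LD1_c7 LD2_c51 LD3_c6)) = v21498 :=
  Lgr Lrot47 (Lpr_gt (K34.f527563 IH) (Lpe (K34.f531838 IH) (Lpr_ff (f797558 IH) (Lpn v21498))))
theorem f488117 : Led Lsl_dt (LP (LK LD1_c7 LD2_c51 LD3_c5)) = (LP (LK LD1_c3 LD2_c54 LD3_c41)) :=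
  Lre_d IH (LK LD1_c7 LD2_c51 LD3_c5) (LK LD1_c3 LD2_c54 LD3_c41) Lrfl Lrfl
theorem f524435 : Led Lsl_at (LP (LK LD1_c13 LD2_c56 LD3_c41)) = (LP (LK LD1_c7 LD2_c51 LD3_c5)) :=
  Lgr Lrot51 (Lpr_df (K47.f487353 IH) (Lpr_af (K34.f524425 IH) (Lpe (f488117 IH) (Lpn (LP (LK LD1_c7 LD2_c51 LD3_c5))))))
theorem f524438 : Led Lsl_af (LP (LK LD1_c13 LD2_c56 LD3_c41)) = (LP (LK LD1_c7 LD2_c51 LD3_c5)) :=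
  Lgr Lrot0 (Lpr_at (f524435 IH) (Lpn (LP (LK LD1_c7 LD2_c51 LD3_c5))))
theorem f439190 : Led Lsl_gt (LP (LK LD1_c13 LD2_c56 LD3_c42)) = (LP (LK LD1_c7 LD2_c22 LD3_c28)) :=
  Lre_g IH (LK LD1_c13 LD2_c56 LD3_c42) (LK LD1_c7 LD2_c22 LD3_c28) Lrfl Lrfl
theorem f524506 : Led Lsl_ft (LP (LK LD1_c13 LD2_c56 LD3_c42)) = (LP (LK LD1_c7 LD2_c51 LD3_c5)) :=
  Lgr Lrot2 (Lpr_gt (f439190 IH) (Lpr_gt (K47.f438048 IH) (Lpr_af (f524438 IH) (Lpn (LP (LK LD1_c7 LD2_c51 LD3_c5))))))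
theorem f524512 : Led Lsl_ff (LP (LK LD1_c13 LD2_c56 LD3_c42)) = (LP (LK LD1_c7 LD2_c51 LD3_c5)) :=
  Lgr Lrot3 (Lpr_ft (f524506 IH) (Lpn (LP (LK LD1_c7 LD2_c51 LD3_c5))))
theorem f488034 : Led Lsl_dt (LP (LK LD1_c3 LD2_c54 LD3_c41)) = (LP (LK LD1_c7 LD2_c51 LD3_c5)) :=
  Lre_d IH (LK LD1_c3 LD2_c54 LD3_c41) (LK LD1_c7 LD2_c51 LD3_c5) Lrfl Lrfl
theorem f524437 : Led Lsl_ft (LP (LK LD1_c7 LD2_c51 LD3_c6)) = (LP (LK LD1_c3 LD2_c54 LD3_c41)) :=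
  Lre_f IH (LK LD1_c7 LD2_c51 LD3_c6) (LK LD1_c3 LD2_c54 LD3_c41) Lrfl Lrfl
theorem f524516 : Led Lsl_dt (LP (LK LD1_c13 LD2_c56 LD3_c42)) = (LP (LK LD1_c7 LD2_c51 LD3_c6)) :=
  Lgr Lrot60 (Lpr_ff (f524512 IH) (Lpe (f488034 IH) (Lpe (f524437 IH) (Lpn (LP (LK LD1_c7 LD2_c51 LD3_c6))))))
theorem f524518 : Led Lsl_et (LP (LK LD1_c13 LD2_c56 LD3_c42)) = (LP (LK LD1_c23 LD2_c28 LD3_c7)) :=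
  Lre_e IH (LK LD1_c13 LD2_c56 LD3_c42) (LK LD1_c23 LD2_c28 LD3_c7) Lrfl Lrfl
theorem f797561 : Led Lsl_dt (LP (LK LD1_c7 LD2_c27 LD3_c61)) = v21498 :=
  Lgr Lrot60 (Lpe (K34.f531929 IH) (Lpe (K28.f122489 IH) (Lpr_ff (f797558 IH) (Lpn v21498))))
theorem f437740 : Led Lsl_et (LP (LK LD1_c7 LD2_c27 LD3_c53)) = (LP (LK LD1_c3 LD2_c43 LD3_c41)) :=
  Lre_e IH (LK LD1_c7 LD2_c27 LD3_c53) (LK LD1_c3 LD2_c43 LD3_c41) Lrfl Lrfl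
theorem f209173 : Led Lsl_dt (LP (LK LD1_c7 LD2_c27 LD3_c53)) = (LP (LK LD1_c3 LD2_c43 LD3_c38)) :=
  Lre_d IH (LK LD1_c7 LD2_c27 LD3_c53) (LK LD1_c3 LD2_c43 LD3_c38) Lrfl Lrfl
theorem f209177 : Led Lsl_gt (LP (LK LD1_c7 LD2_c27 LD3_c52)) = (LP (LK LD1_c3 LD2_c43 LD3_c38)) :=
  Lre_g IH (LK LD1_c7 LD2_c27 LD3_c52) (LK LD1_c3 LD2_c43 LD3_c38) Lrfl Lrfl
theorem f209179 : Led Lsl_dt (LP (LK LD1_c14 LD2_c5 LD3_c29)) = (LP (LK LD1_c7 LD2_c27 LD3_c52)) :=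
  Lre_d IH (LK LD1_c14 LD2_c5 LD3_c29) (LK LD1_c7 LD2_c27 LD3_c52) Lrfl Lrfl
theorem f439124 : Led Lsl_et (LP (LK LD1_c14 LD2_c5 LD3_c29)) = (LP (LK LD1_c23 LD2_c38 LD3_c56)) :=
  Lre_e IH (LK LD1_c14 LD2_c5 LD3_c29) (LK LD1_c23 LD2_c38 LD3_c56) Lrfl Lrfl
theorem f797564 : Led Lsl_gt (LP (LK LD1_c23 LD2_c28 LD3_c7)) = (LP (LK LD1_c23 LD2_c38 LD3_c56)) :=
  Lgr Lrot131 (Lpe (f524518 IH) (Lpr_dt (f524516 IH) (Lpr_gf (f797562 IH) (Lpe (f797561 IH) (Lpe (K34.f131773 IH) (Lpe (f437740 IH) (Lpr_dt (f209173 IH) (Lpe (f209177 IH) (Lpe (f209179 IH) (Lpr_et (f439124 IH) (Lpn (LP (LK LD1_c23 LD2_c38 LD3_c56)))))))))))))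
theorem f797565 : Led Lsl_gt (LP (LK LD1_c23 LD2_c28 LD3_c7)) = (LP (LK LD1_c23 LD2_c38 LD3_c56)) :=
  Leop (Lpe (f797564 IH) (Lpn (LP (LK LD1_c23 LD2_c28 LD3_c7))))
theorem seed_1622 : LEOK LG_g (LK LD1_c23 LD2_c28 LD3_c7) :=
  Leoe_g (LK LD1_c23 LD2_c28 LD3_c7) (f797565 IH)
def v21554 : LQ := Led Lsl_gt (LP (LK LD1_c7 LD2_c21 LD3_c43))
theorem f797798 : Led Lsl_gt (LP (LK LD1_c7 LD2_c21 LD3_c43)) = v21554 :=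
  Lrfl
theorem f797802 : Led Lsl_bt (LP (LK LD1_c14 LD2_c9 LD3_c39)) = v21554 :=
  Lgr Lrot92 (Lpe (K48.f518435 IH) (Lpr_gt (K48.f483344 IH) (Lpr_cf (K46.f483457 IH) (Lpr_bt (K43.f436812 IH) (Lpr_gt (K29.f4560 IH) (Lpr_ct (K29.f4527 IH) (Lpr_gt (K29.f4836 IH) (Lpe (K34.f4532 IH) (Lpr_bt (K35.f459505 IH) (Lpr_gt (f797798 IH) (Lpn v21554)))))))))))
theorem f137100 : Led Lsl_bf (LP (LK LD1_c13 LD2_c6 LD3_c22)) = (LP (LK LD1_c7 LD2_c22 LD3_c14)) :=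
  Lgr Lrot24 (Lpr_bt (K6.f137096 IH) (Lpn (LP (LK LD1_c7 LD2_c22 LD3_c14))))
theorem f797805 : Led Lsl_ff (LP (LK LD1_c7 LD2_c22 LD3_c14)) = v21554 :=
  Lgr Lrot25 (Lpe (f137100 IH) (Lpr_ft (K48.f511583 IH) (Lpr_bt (f797802 IH) (Lpn v21554))))
theorem f137066 : Led Lsl_at (LP (LK LD1_c3 LD2_c29 LD3_c54)) = (LP (LK LD1_c7 LD2_c1 LD3_c19)) :=
  Lre_a IH (LK LD1_c3 LD2_c29 LD3_c54) (LK LD1_c7 LD2_c1 LD3_c19) Lrfl Lrfl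
theorem f137067 : Led Lsl_ct (LP (LK LD1_c7 LD2_c1 LD3_c21)) = (LP (LK LD1_c3 LD2_c29 LD3_c54)) :=
  Lre_c IH (LK LD1_c7 LD2_c1 LD3_c21) (LK LD1_c3 LD2_c29 LD3_c54) Lrfl Lrfl
theorem f137068 : Led Lsl_af (LP (LK LD1_c7 LD2_c1 LD3_c21)) = (LP (LK LD1_c7 LD2_c22 LD3_c14)) :=
  Lgr Lrot68 (Lpr_ct (f137067 IH) (Lpr_at (f137066 IH) (Lpr_ct (K6.f137064 IH) (Lpn (LP (LK LD1_c7 LD2_c22 LD3_c14))))))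
def v20623 : LQ := Led Lsl_gf (LP (LK LD1_c7 LD2_c1 LD3_c21))
theorem f788607 : Led Lsl_gf (LP (LK LD1_c7 LD2_c1 LD3_c21)) = v20623 :=
  Lrfl
theorem f525574 : Led Lsl_ft (LP (LK LD1_c7 LD2_c21 LD3_c43)) = (LP (LK LD1_c3 LD2_c41 LD3_c56)) :=
  Lgr Lrot75 (Lpe (K35.f459505 IH) (Lpr_ff (K35.f525570 IH) (Lpe (K47.f483596 IH) (Lpn (LP (LK LD1_c3 LD2_c41 LD3_c56))))))
theorem f526696 : Led Lsl_at (LP (LK LD1_c3 LD2_c41 LD3_c56)) = (LP (LK LD1_c7 LD2_c24 LD3_c34)) :=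
  Lre_a IH (LK LD1_c3 LD2_c41 LD3_c56) (LK LD1_c7 LD2_c24 LD3_c34) Lrfl Lrfl
theorem f797800 : Led Lsl_gf (LP (LK LD1_c7 LD2_c24 LD3_c34)) = v21554 :=
  Lgr Lrot76 (Lpe (f526696 IH) (Lpe (f525574 IH) (Lpr_gt (f797798 IH) (Lpn v21554))))
theorem f797808 : v20623 = (LP (LK LD1_c7 LD2_c24 LD3_c34)) :=
  (Llr Lrot76 (Lpe (f788607 IH) (Lpr_af (f137068 IH) (Lpr_ff (f797805 IH) (Lpe (f797800 IH) (Lpn (LP (LK LD1_c7 LD2_c24 LD3_c34)))))))).symm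
theorem f797809 : Led Lsl_gt (LP (LK LD1_c7 LD2_c24 LD3_c34)) = (LP (LK LD1_c7 LD2_c1 LD3_c21)) :=
  Leop (Lpr_gf (f788607 IH) (Lpqs (f797808 IH) (Lpn (LP (LK LD1_c7 LD2_c24 LD3_c34)))))
theorem seed_1623 : LEOK LG_g (LK LD1_c7 LD2_c24 LD3_c34) :=
  Leoe_g (LK LD1_c7 LD2_c24 LD3_c34) (f797809 IH)
def v21562 : LQ := Led Lsl_et (LP (LK LD1_c7 LD2_c22 LD3_c4))
theorem f797865 : Led Lsl_et (LP (LK LD1_c7 LD2_c22 LD3_c4)) = v21562 :=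
  Lrfl
theorem f797868 : Led Lsl_ef (LP (LK LD1_c7 LD2_c22 LD3_c4)) = v21562 :=
  Lgr Lrot88 (Lpr_et (f797865 IH) (Lpn v21562))
theorem f469672 : Led Lsl_ef (LP (LK LD1_c13 LD2_c55 LD3_c61)) = (LP (LK LD1_c13 LD2_c25 LD3_c19)) :=
  Lgr Lrot21 (Lpr_ft (K34.f469652 IH) (Lpr_et (K34.f122064 IH) (Lpr_ft (K5.f122163 IH) (Lpr_et (K28.f122197 IH) (Lpe (K28.f468151 IH) (Lpn (LP (LK LD1_c13 LD2_c25 LD3_c19))))))))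
theorem f468221 : Led Lsl_at (LP (LK LD1_c13 LD2_c25 LD3_c20)) = (LP (LK LD1_c22 LD2_c44 LD3_c4)) :=
  Lre_a IH (LK LD1_c13 LD2_c25 LD3_c20) (LK LD1_c22 LD2_c44 LD3_c4) Lrfl Lrfl
theorem f468232 : Led Lsl_gf (LP (LK LD1_c22 LD2_c44 LD3_c4)) = (LP (LK LD1_c14 LD2_c6 LD3_c9)) :=
  Lgr Lrot76 (Lpe (f468221 IH) (Lpr_ff (K28.f468199 IH) (Lpr_gt (K34.f122256 IH) (Lpn (LP (LK LD1_c14 LD2_c6 LD3_c9))))))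
theorem f463667 : Led Lsl_gt (LP (LK LD1_c7 LD2_c52 LD3_c44)) = (LP (LK LD1_c14 LD2_c51 LD3_c50)) :=
  Lre_g IH (LK LD1_c7 LD2_c52 LD3_c44) (LK LD1_c14 LD2_c51 LD3_c50) Lrfl Lrfl
theorem f554109 : Led Lsl_af (LP (LK LD1_c14 LD2_c51 LD3_c50)) = (LP (LK LD1_c14 LD2_c48 LD3_c42)) :=
  Lgr Lrot31 (Lpe (f463667 IH) (Lpr_gf (K48.f554107 IH) (Lpe (K39.f531994 IH) (Lpn (LP (LK LD1_c14 LD2_c48 LD3_c42))))))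
theorem f524098 : Led Lsl_df (LP (LK LD1_c14 LD2_c48 LD3_c42)) = (LP (LK LD1_c13 LD2_c56 LD3_c51)) :=
  Lgr Lrot12 (Lpr_bt (K39.f524097 IH) (Lpr_dt (K39.f524092 IH) (Lpr_bt (K34.f489677 IH) (Lpn (LP (LK LD1_c13 LD2_c56 LD3_c51))))))
theorem f554113 : Led Lsl_dt (LP (LK LD1_c14 LD2_c51 LD3_c50)) = (LP (LK LD1_c14 LD2_c6 LD3_c9)) :=
  Lgr Lrot44 (Lpr_af (f554109 IH) (Lpr_df (f524098 IH) (Lpr_af (K34.f532018 IH) (Lpn (LP (LK LD1_c14 LD2_c6 LD3_c9))))))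
theorem f477150 : Led Lsl_et (LP (LK LD1_c3 LD2_c55 LD3_c25)) = (LP (LK LD1_c7 LD2_c52 LD3_c44)) :=
  Lre_e IH (LK LD1_c3 LD2_c55 LD3_c25) (LK LD1_c7 LD2_c52 LD3_c44) Lrfl Lrfl
theorem f477151 : Led Lsl_dt (LP (LK LD1_c3 LD2_c55 LD3_c25)) = (LP (LK LD1_c7 LD2_c52 LD3_c43)) :=
  Lre_d IH (LK LD1_c3 LD2_c55 LD3_c25) (LK LD1_c7 LD2_c52 LD3_c43) Lrfl Lrfl
theorem f477137 : Led Lsl_gt (LP (LK LD1_c14 LD2_c51 LD3_c47)) = (LP (LK LD1_c7 LD2_c52 LD3_c43)) :=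
  Lre_g IH (LK LD1_c14 LD2_c51 LD3_c47) (LK LD1_c7 LD2_c52 LD3_c43) Lrfl Lrfl
theorem f797873 : Led Lsl_df (LP (LK LD1_c14 LD2_c51 LD3_c47)) = v21562 :=
  Lgr Lrot170 (Lpr_gt (f477137 IH) (Lpe (f477151 IH) (Lpr_et (f477150 IH) (Lpr_gt (f463667 IH) (Lpr_dt (f554113 IH) (Lpe (f468232 IH) (Lpe (K35.f468171 IH) (Lpe (f469672 IH) (Lpr_gt (K34.f469651 IH) (Lpr_ef (f797868 IH) (Lpn v21562)))))))))))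
theorem f797875 : Led Lsl_et (LP (LK LD1_c14 LD2_c51 LD3_c47)) = (LP (LK LD1_c24 LD2_c38 LD3_c15)) :=
  Lre_e IH (LK LD1_c14 LD2_c51 LD3_c47) (LK LD1_c24 LD2_c38 LD3_c15) Lrfl Lrfl
theorem f524411 : Led Lsl_et (LP (LK LD1_c23 LD2_c27 LD3_c4)) = (LP (LK LD1_c13 LD2_c56 LD3_c1)) :=
  Lre_e IH (LK LD1_c23 LD2_c27 LD3_c4) (LK LD1_c13 LD2_c56 LD3_c1) Lrfl Lrfl
theorem f797876 : Led Lsl_dt (LP (LK LD1_c24 LD2_c38 LD3_c15)) = (LP (LK LD1_c23 LD2_c27 LD3_c4)) :=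
  Lgr Lrot77 (Lpe (f797875 IH) (Lpr_df (f797873 IH) (Lpe (f797865 IH) (Lpe (K47.f469654 IH) (Lpe (f524411 IH) (Lpn (LP (LK LD1_c23 LD2_c27 LD3_c4))))))))
theorem f797877 : Led Lsl_dt (LP (LK LD1_c24 LD2_c38 LD3_c15)) = (LP (LK LD1_c23 LD2_c27 LD3_c4)) :=
  Leop (Lpe (f797876 IH) (Lpn (LP (LK LD1_c24 LD2_c38 LD3_c15))))
theorem seed_1624 : LEOK LG_d (LK LD1_c24 LD2_c38 LD3_c15) :=
  Leoe_d (LK LD1_c24 LD2_c38 LD3_c15) (f797877 IH)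
theorem f517616 : Led Lsl_df (LP (LK LD1_c7 LD2_c24 LD3_c39)) = (LP (LK LD1_c7 LD2_c26 LD3_c4)) :=
  Lgr Lrot38 (Lpr_dt (K34.f517610 IH) (Lpn (LP (LK LD1_c7 LD2_c26 LD3_c4))))
theorem f655160 : Led Lsl_ft (LP (LK LD1_c7 LD2_c24 LD3_c39)) = (LP (LK LD1_c7 LD2_c28 LD3_c20)) :=
  Lgr Lrot54 (Lpr_df (f517616 IH) (Lpr_ff (K46.f655154 IH) (Lpe (K28.f132017 IH) (Lpn (LP (LK LD1_c7 LD2_c28 LD3_c20))))))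
theorem f517613 : Led Lsl_bt (LP (LK LD1_c14 LD2_c1 LD3_c6)) = (LP (LK LD1_c7 LD2_c24 LD3_c39)) :=
  Lre_b IH (LK LD1_c14 LD2_c1 LD3_c6) (LK LD1_c7 LD2_c24 LD3_c39) Lrfl Lrfl
theorem f655162 : Led Lsl_ff (LP (LK LD1_c14 LD2_c1 LD3_c6)) = (LP (LK LD1_c13 LD2_c21 LD3_c10)) :=
  Lgr Lrot25 (Lpr_bt (f517613 IH) (Lpr_ft (f655160 IH) (Lpe (K61.f488701 IH) (Lpn (LP (LK LD1_c13 LD2_c21 LD3_c10))))))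
theorem f655167 : Led Lsl_ft (LP (LK LD1_c14 LD2_c1 LD3_c6)) = (LP (LK LD1_c13 LD2_c21 LD3_c10)) :=
  Lgr Lrot48 (Lpr_ff (f655162 IH) (Lpn (LP (LK LD1_c13 LD2_c21 LD3_c10))))
theorem f517622 : Led Lsl_bt (LP (LK LD1_c7 LD2_c30 LD3_c1)) = (LP (LK LD1_c14 LD2_c9 LD3_c61)) :=
  Lre_b IH (LK LD1_c7 LD2_c30 LD3_c1) (LK LD1_c14 LD2_c9 LD3_c61) Lrfl Lrfl
theorem f517623 : Led Lsl_ef (LP (LK LD1_c14 LD2_c1 LD3_c6)) = (LP (LK LD1_c14 LD2_c9 LD3_c61)) :=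
  Lgr Lrot29 (Lpr_bt (f517613 IH) (Lpr_et (K48.f517619 IH) (Lpr_bt (f517622 IH) (Lpn (LP (LK LD1_c14 LD2_c9 LD3_c61))))))
theorem f797869 : Led Lsl_ff (LP (LK LD1_c14 LD2_c9 LD3_c61)) = v21562 :=
  Lgr Lrot72 (Lpe (f517623 IH) (Lpr_ft (f655167 IH) (Lpr_et (K34.f468274 IH) (Lpe (K46.f655210 IH) (Lpr_et (f797865 IH) (Lpn v21562))))))
theorem f797871 : Led Lsl_ft (LP (LK LD1_c14 LD2_c9 LD3_c61)) = v21562 :=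
  Lgr Lrot48 (Lpr_ff (f797869 IH) (Lpn v21562))
theorem f517625 : Led Lsl_ef (LP (LK LD1_c7 LD2_c24 LD3_c39)) = (LP (LK LD1_c7 LD2_c30 LD3_c1)) :=
  Lgr Lrot88 (Lpr_et (K48.f517619 IH) (Lpn (LP (LK LD1_c7 LD2_c30 LD3_c1))))
theorem f485177 : Led Lsl_et (LP (LK LD1_c1 LD2_c53 LD3_c51)) = (LP (LK LD1_c3 LD2_c54 LD3_c33)) :=
  Lre_e IH (LK LD1_c1 LD2_c53 LD3_c51) (LK LD1_c3 LD2_c54 LD3_c33) Lrfl Lrfl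
theorem f491722 : Led Lsl_gt (LP (LK LD1_c7 LD2_c50 LD3_c47)) = (LP (LK LD1_c3 LD2_c54 LD3_c32)) :=
  Lre_g IH (LK LD1_c7 LD2_c50 LD3_c47) (LK LD1_c3 LD2_c54 LD3_c32) Lrfl Lrfl
theorem f517631 : Led Lsl_df (LP (LK LD1_c7 LD2_c50 LD3_c47)) = (LP (LK LD1_c7 LD2_c30 LD3_c1)) :=
  Lgr Lrot170 (Lpr_gt (f491722 IH) (Lpe (K39.f485154 IH) (Lpr_et (f485177 IH) (Lpr_gt (K30.f491719 IH) (Lpr_dt (K34.f484675 IH) (Lpe (K34.f517600 IH) (Lpe (K34.f483590 IH) (Lpr_et (K34.f517609 IH) (Lpr_gt (K34.f478576 IH) (Lpr_ef (f517625 IH) (Lpn (LP (LK LD1_c7 LD2_c30 LD3_c1)))))))))))))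
theorem f517633 : Led Lsl_bt (LP (LK LD1_c7 LD2_c50 LD3_c47)) = (LP (LK LD1_c14 LD2_c48 LD3_c9)) :=
  Lre_b IH (LK LD1_c7 LD2_c50 LD3_c47) (LK LD1_c14 LD2_c48 LD3_c9) Lrfl Lrfl
theorem f517628 : Led Lsl_bt (LP (LK LD1_c14 LD2_c9 LD3_c61)) = (LP (LK LD1_c7 LD2_c30 LD3_c1)) :=
  Lre_b IH (LK LD1_c14 LD2_c9 LD3_c61) (LK LD1_c7 LD2_c30 LD3_c1) Lrfl Lrfl
theorem f517634 : Led Lsl_dt (LP (LK LD1_c14 LD2_c48 LD3_c9)) = (LP (LK LD1_c14 LD2_c9 LD3_c61)) :=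
  Lgr Lrot79 (Lpe (f517633 IH) (Lpr_df (f517631 IH) (Lpe (f517628 IH) (Lpn (LP (LK LD1_c14 LD2_c9 LD3_c61))))))
theorem f797878 : Led Lsl_ft (LP (LK LD1_c14 LD2_c51 LD3_c47)) = (LP (LK LD1_c14 LD2_c48 LD3_c9)) :=
  Lgr Lrot54 (Lpr_df (f797873 IH) (Lpe (f797871 IH) (Lpe (f517634 IH) (Lpn (LP (LK LD1_c14 LD2_c48 LD3_c9))))))
theorem f797879 : Led Lsl_ft (LP (LK LD1_c14 LD2_c51 LD3_c47)) = (LP (LK LD1_c14 LD2_c48 LD3_c9)) :=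
  Leop (Lpe (f797878 IH) (Lpn (LP (LK LD1_c14 LD2_c51 LD3_c47))))
theorem seed_1625 : LEOK LG_f (LK LD1_c14 LD2_c51 LD3_c47) :=
  Leoe_f (LK LD1_c14 LD2_c51 LD3_c47) (f797879 IH)
def v21567 : LQ := Led Lsl_et (LP (LK LD1_c7 LD2_c22 LD3_c23))
theorem f797916 : Led Lsl_et (LP (LK LD1_c7 LD2_c22 LD3_c23)) = v21567 :=
  Lrfl
theorem f797918 : Led Lsl_ef (LP (LK LD1_c7 LD2_c22 LD3_c23)) = v21567 :=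
  Lgr Lrot88 (Lpr_et (f797916 IH) (Lpn v21567))
theorem f122532 : Led Lsl_gt (LP (LK LD1_c3 LD2_c41 LD3_c4)) = (LP (LK LD1_c7 LD2_c22 LD3_c23)) :=
  Lre_g IH (LK LD1_c3 LD2_c41 LD3_c4) (LK LD1_c7 LD2_c22 LD3_c23) Lrfl Lrfl
theorem f122236 : Led Lsl_et (LP (LK LD1_c1 LD2_c47 LD3_c28)) = (LP (LK LD1_c3 LD2_c41 LD3_c4)) :=
  Lre_e IH (LK LD1_c1 LD2_c47 LD3_c28) (LK LD1_c3 LD2_c41 LD3_c4) Lrfl Lrfl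
theorem f107581 : Led Lsl_gt (LP (LK LD1_c13 LD2_c53 LD3_c11)) = (LP (LK LD1_c7 LD2_c20 LD3_c33)) :=
  Lre_g IH (LK LD1_c13 LD2_c53 LD3_c11) (LK LD1_c7 LD2_c20 LD3_c33) Lrfl Lrfl
theorem f797919 : Led Lsl_df (LP (LK LD1_c13 LD2_c53 LD3_c11)) = v21567 :=
  Lgr Lrot170 (Lpr_gt (f107581 IH) (Lpe (K28.f107580 IH) (Lpr_et (K28.f107579 IH) (Lpe (K6.f107574 IH) (Lpr_dt (K6.f12603 IH) (Lpr_gt (K3.f108819 IH) (Lpe (K6.f108817 IH) (Lpr_et (f122236 IH) (Lpr_gt (f122532 IH) (Lpr_ef (f797918 IH) (Lpn v21567)))))))))))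
theorem f797922 : Led Lsl_et (LP (LK LD1_c13 LD2_c53 LD3_c11)) = (LP (LK LD1_c23 LD2_c23 LD3_c17)) :=
  Lre_e IH (LK LD1_c13 LD2_c53 LD3_c11) (LK LD1_c23 LD2_c23 LD3_c17) Lrfl Lrfl
theorem f122533 : Led Lsl_dt (LP (LK LD1_c13 LD2_c56 LD3_c30)) = (LP (LK LD1_c7 LD2_c22 LD3_c23)) :=
  Lre_d IH (LK LD1_c13 LD2_c56 LD3_c30) (LK LD1_c7 LD2_c22 LD3_c23) Lrfl Lrfl
theorem f797917 : Led Lsl_et (LP (LK LD1_c23 LD2_c27 LD3_c47)) = (LP (LK LD1_c13 LD2_c56 LD3_c30)) :=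
  Lre_e IH (LK LD1_c23 LD2_c27 LD3_c47) (LK LD1_c13 LD2_c56 LD3_c30) Lrfl Lrfl
theorem f797923 : Led Lsl_dt (LP (LK LD1_c23 LD2_c23 LD3_c17)) = (LP (LK LD1_c23 LD2_c27 LD3_c47)) :=
  Lgr Lrot77 (Lpe (f797922 IH) (Lpr_df (f797919 IH) (Lpe (f797916 IH) (Lpe (f122533 IH) (Lpe (f797917 IH) (Lpn (LP (LK LD1_c23 LD2_c27 LD3_c47))))))))
theorem f797924 : Led Lsl_dt (LP (LK LD1_c23 LD2_c23 LD3_c17)) = (LP (LK LD1_c23 LD2_c27 LD3_c47)) :=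
  Leop (Lpe (f797923 IH) (Lpn (LP (LK LD1_c23 LD2_c23 LD3_c17))))
theorem seed_1626 : LEOK LG_d (LK LD1_c23 LD2_c23 LD3_c17) :=
  Leoe_d (LK LD1_c23 LD2_c23 LD3_c17) (f797924 IH)
def v21571 : LQ := Led Lsl_gf (LP (LK LD1_c7 LD2_c22 LD3_c35))
theorem f797956 : Led Lsl_gf (LP (LK LD1_c7 LD2_c22 LD3_c35)) = v21571 :=
  Lrfl
theorem f131790 : Led Lsl_ct (LP (LK LD1_c7 LD2_c22 LD3_c35)) = (LP (LK LD1_c3 LD2_c41 LD3_c7)) :=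
  Lre_c IH (LK LD1_c7 LD2_c22 LD3_c35) (LK LD1_c3 LD2_c41 LD3_c7) Lrfl Lrfl
theorem f122509 : Led Lsl_dt (LP (LK LD1_c3 LD2_c41 LD3_c7)) = (LP (LK LD1_c1 LD2_c47 LD3_c29)) :=
  Lre_d IH (LK LD1_c3 LD2_c41 LD3_c7) (LK LD1_c1 LD2_c47 LD3_c29) Lrfl Lrfl
theorem f797959 : Led Lsl_ct (LP (LK LD1_c7 LD2_c23 LD3_c16)) = v21571 :=
  Lgr Lrot152 (Lpr_gf (K33.f147427 IH) (Lpe (K28.f130744 IH) (Lpe (K46.f465715 IH) (Lpr_ct (K34.f439216 IH) (Lpr_gt (K28.f109444 IH) (Lpr_ct (K28.f122510 IH) (Lpe (f122509 IH) (Lpe (f131790 IH) (Lpr_gf (f797956 IH) (Lpn v21571))))))))))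
theorem f797961 : Led Lsl_cf (LP (LK LD1_c7 LD2_c23 LD3_c16)) = v21571 :=
  Lgr Lrot11 (Lpr_ct (f797959 IH) (Lpn v21571))
theorem f147091 : Led Lsl_bt (LP (LK LD1_c7 LD2_c23 LD3_c17)) = (LP (LK LD1_c13 LD2_c58 LD3_c12)) :=
  Lre_b IH (LK LD1_c7 LD2_c23 LD3_c17) (LK LD1_c13 LD2_c58 LD3_c12) Lrfl Lrfl
theorem f465720 : Led Lsl_gt (LP (LK LD1_c13 LD2_c58 LD3_c12)) = (LP (LK LD1_c23 LD2_c30 LD3_c22)) :=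
  Lre_g IH (LK LD1_c13 LD2_c58 LD3_c12) (LK LD1_c23 LD2_c30 LD3_c22) Lrfl Lrfl
theorem f608554 : Led Lsl_bt (LP (LK LD1_c31 LD2_c5 LD3_c45)) = (LP (LK LD1_c23 LD2_c30 LD3_c22)) :=
  Lre_b IH (LK LD1_c31 LD2_c5 LD3_c45) (LK LD1_c23 LD2_c30 LD3_c22) Lrfl Lrfl
theorem f131792 : Led Lsl_af (LP (LK LD1_c7 LD2_c22 LD3_c35)) = (LP (LK LD1_c7 LD2_c28 LD3_c1)) :=
  Lgr Lrot68 (Lpr_ct (f131790 IH) (Lpr_at (K5.f131771 IH) (Lpr_ct (K33.f131791 IH) (Lpn (LP (LK LD1_c7 LD2_c28 LD3_c1))))))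
theorem f439157 : Led Lsl_ft (LP (LK LD1_c14 LD2_c5 LD3_c54)) = (LP (LK LD1_c7 LD2_c28 LD3_c1)) :=
  Lre_f IH (LK LD1_c14 LD2_c5 LD3_c54) (LK LD1_c7 LD2_c28 LD3_c1) Lrfl Lrfl
theorem f797957 : Led Lsl_gt (LP (LK LD1_c14 LD2_c5 LD3_c54)) = v21571 :=
  Lgr Lrot5 (Lpr_ft (f439157 IH) (Lpe (f131792 IH) (Lpr_gf (f797956 IH) (Lpn v21571))))
theorem f131905 : Led Lsl_bt (LP (LK LD1_c23 LD2_c39 LD3_c40)) = (LP (LK LD1_c14 LD2_c5 LD3_c54)) :=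
  Lre_b IH (LK LD1_c23 LD2_c39 LD3_c40) (LK LD1_c14 LD2_c5 LD3_c54) Lrfl Lrfl
theorem f576457 : Led Lsl_af (LP (LK LD1_c31 LD2_c8 LD3_c56)) = (LP (LK LD1_c31 LD2_c10 LD3_c46)) :=
  Lgr Lrot0 (Lpr_at (K43.f576448 IH) (Lpn (LP (LK LD1_c31 LD2_c10 LD3_c46))))
theorem f466410 : Led Lsl_ft (LP (LK LD1_c23 LD2_c41 LD3_c22)) = (LP (LK LD1_c31 LD2_c10 LD3_c46)) :=
  Lre_f IH (LK LD1_c23 LD2_c41 LD3_c22) (LK LD1_c31 LD2_c10 LD3_c46) Lrfl Lrfl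
theorem f466415 : Led Lsl_gt (LP (LK LD1_c23 LD2_c41 LD3_c22)) = (LP (LK LD1_c31 LD2_c10 LD3_c57)) :=
  Lre_g IH (LK LD1_c23 LD2_c41 LD3_c22) (LK LD1_c31 LD2_c10 LD3_c57) Lrfl Lrfl
theorem f608414 : Led Lsl_gf (LP (LK LD1_c31 LD2_c8 LD3_c56)) = (LP (LK LD1_c31 LD2_c10 LD3_c57)) :=
  Lgr Lrot76 (Lpr_af (f576457 IH) (Lpe (f466410 IH) (Lpr_gt (f466415 IH) (Lpn (LP (LK LD1_c31 LD2_c10 LD3_c57))))))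
theorem f797964 : Led Lsl_ct (LP (LK LD1_c31 LD2_c5 LD3_c45)) = (LP (LK LD1_c31 LD2_c10 LD3_c57)) :=
  Lgr Lrot64 (Lpr_bt (f608554 IH) (Lpe (f465720 IH) (Lpe (f147091 IH) (Lpr_ct (K8.f147095 IH) (Lpe (K33.f147426 IH) (Lpr_cf (f797961 IH) (Lpe (f797957 IH) (Lpe (f131905 IH) (Lpr_ct (K43.f576459 IH) (Lpr_gf (f608414 IH) (Lpn (LP (LK LD1_c31 LD2_c10 LD3_c57)))))))))))))
theorem f797965 : Led Lsl_ct (LP (LK LD1_c31 LD2_c5 LD3_c45)) = (LP (LK LD1_c31 LD2_c10 LD3_c57)) :=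
  Leop (Lpe (f797964 IH) (Lpn (LP (LK LD1_c31 LD2_c5 LD3_c45))))
theorem seed_1627 : LEOK LG_c (LK LD1_c31 LD2_c5 LD3_c45) :=
  Leoe_c (LK LD1_c31 LD2_c5 LD3_c45) (f797965 IH)
def v21572 : LQ := Led Lsl_dt (LP (LK LD1_c7 LD2_c22 LD3_c35))
theorem f797969 : Led Lsl_dt (LP (LK LD1_c7 LD2_c22 LD3_c35)) = v21572 :=
  Lrfl
theorem f797972 : Led Lsl_ff (LP (LK LD1_c14 LD2_c6 LD3_c1)) = v21572 :=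
  Lgr Lrot19 (Lpe (K5.f131742 IH) (Lpr_ft (K34.f131751 IH) (Lpr_dt (f797969 IH) (Lpn v21572))))
theorem f797973 : Led Lsl_ft (LP (LK LD1_c14 LD2_c6 LD3_c1)) = v21572 :=
  Lgr Lrot48 (Lpr_ff (f797972 IH) (Lpn v21572))
theorem f131748 : Led Lsl_dt (LP (LK LD1_c13 LD2_c56 LD3_c58)) = (LP (LK LD1_c14 LD2_c6 LD3_c1)) :=
  Lgr Lrot42 (Lpr_df (K5.f131742 IH) (Lpn (LP (LK LD1_c14 LD2_c6 LD3_c1))))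
theorem f458881 : Led Lsl_dt (LP (LK LD1_c22 LD2_c44 LD3_c40)) = (LP (LK LD1_c13 LD2_c25 LD3_c35)) :=
  Lre_d IH (LK LD1_c22 LD2_c44 LD3_c40) (LK LD1_c13 LD2_c25 LD3_c35) Lrfl Lrfl
theorem f489942 : Led Lsl_gt (LP (LK LD1_c14 LD2_c6 LD3_c1)) = (LP (LK LD1_c22 LD2_c44 LD3_c40)) :=
  Lgr Lrot49 (Lpe (f131748 IH) (Lpr_gf (K37.f131911 IH) (Lpr_cf (K37.f463544 IH) (Lpe (K34.f147417 IH) (Lpr_dt (K39.f147153 IH) (Lpe (K28.f461794 IH) (Lpr_dt (K24.f458819 IH) (Lpe (K47.f458827 IH) (Lpe (f458881 IH) (Lpn (LP (LK LD1_c22 LD2_c44 LD3_c40))))))))))))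
theorem f131747 : Led Lsl_dt (LP (LK LD1_c14 LD2_c5 LD3_c53)) = (LP (LK LD1_c7 LD2_c28 LD3_c1)) :=
  Lre_d IH (LK LD1_c14 LD2_c5 LD3_c53) (LK LD1_c7 LD2_c28 LD3_c1) Lrfl Lrfl
theorem f797970 : Led Lsl_af (LP (LK LD1_c14 LD2_c5 LD3_c53)) = v21572 :=
  Lgr Lrot117 (Lpr_dt (f131747 IH) (Lpe (f131792 IH) (Lpr_dt (f797969 IH) (Lpn v21572))))
theorem f797974 : Led Lsl_gt (LP (LK LD1_c22 LD2_c44 LD3_c40)) = (LP (LK LD1_c14 LD2_c5 LD3_c53)) :=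
  Lgr Lrot46 (Lpe (f489942 IH) (Lpr_ft (f797973 IH) (Lpe (f797970 IH) (Lpn (LP (LK LD1_c14 LD2_c5 LD3_c53))))))
theorem f797975 : Led Lsl_gt (LP (LK LD1_c22 LD2_c44 LD3_c40)) = (LP (LK LD1_c14 LD2_c5 LD3_c53)) :=
  Leop (Lpe (f797974 IH) (Lpn (LP (LK LD1_c22 LD2_c44 LD3_c40))))
theorem seed_1628 : LEOK LG_g (LK LD1_c22 LD2_c44 LD3_c40) :=
  Leoe_g (LK LD1_c22 LD2_c44 LD3_c40) (f797975 IH)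
def v21573 : LQ := Led Lsl_et (LP (LK LD1_c7 LD2_c22 LD3_c37))
theorem f797981 : Led Lsl_et (LP (LK LD1_c7 LD2_c22 LD3_c37)) = v21573 :=
  Lrfl
theorem f797985 : Led Lsl_ef (LP (LK LD1_c7 LD2_c22 LD3_c37)) = v21573 :=
  Lgr Lrot88 (Lpr_et (f797981 IH) (Lpn v21573))
theorem f544147 : Led Lsl_dt (LP (LK LD1_c7 LD2_c21 LD3_c23)) = (LP (LK LD1_c10 LD2_c5 LD3_c43)) :=
  Lgr Lrot27 (Lpe (K34.f148298 IH) (Lpe (K7.f148293 IH) (Lpr_cf (K7.f148274 IH) (Lpr_gf (K7.f148312 IH) (Lpe (K34.f148318 IH) (Lpr_gt (K34.f531365 IH) (Lpr_ct (K37.f544143 IH) (Lpq (K37.f537269 IH) (Lpe (K31.f496102 IH) (Lpr_ct (K40.f206051 IH) (Lpn (LP (LK LD1_c10 LD2_c5 LD3_c43)))))))))))))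
theorem f13394 : Led Lsl_dt (LP (LK LD1_c1 LD2_c48 LD3_c28)) = (LP (LK LD1_c3 LD2_c42 LD3_c55)) :=
  Lre_d IH (LK LD1_c1 LD2_c48 LD3_c28) (LK LD1_c3 LD2_c42 LD3_c55) Lrfl Lrfl
theorem f205169 : Led Lsl_ct (LP (LK LD1_c1 LD2_c21 LD3_c13)) = (LP (LK LD1_c2 LD2_c50 LD3_c26)) :=
  Lre_c IH (LK LD1_c1 LD2_c21 LD3_c13) (LK LD1_c2 LD2_c50 LD3_c26) Lrfl Lrfl
theorem f496092 : Led Lsl_gt (LP (LK LD1_c2 LD2_c50 LD3_c26)) = (LP (LK LD1_c5 LD2_c48 LD3_c48)) :=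
  Lre_g IH (LK LD1_c2 LD2_c50 LD3_c26) (LK LD1_c5 LD2_c48 LD3_c48) Lrfl Lrfl
theorem f568478 : Led Lsl_df (LP (LK LD1_c3 LD2_c42 LD3_c54)) = (LP (LK LD1_c5 LD2_c48 LD3_c48)) :=
  Lgr Lrot16 (Lpe (K7.f147802 IH) (Lpr_dt (f13394 IH) (Lpe (K42.f548876 IH) (Lpe (K42.f181456 IH) (Lpr_gf (K42.f568454 IH) (Lpe (K41.f567538 IH) (Lpe (K40.f210533 IH) (Lpr_ct (f205169 IH) (Lpr_gt (f496092 IH) (Lpn (LP (LK LD1_c5 LD2_c48 LD3_c48))))))))))))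
theorem f571444 : Led Lsl_ct (LP (LK LD1_c11 LD2_c17 LD3_c27)) = (LP (LK LD1_c5 LD2_c48 LD3_c48)) :=
  Lgr Lrot110 (Lpr_gf (K42.f571442 IH) (Lpe (K40.f558542 IH) (Lpr_gf (K37.f544163 IH) (Lpe (f544147 IH) (Lpe (K24.f439266 IH) (Lpr_ct (K24.f439255 IH) (Lpe (K24.f439251 IH) (Lpr_ct (K7.f147790 IH) (Lpr_df (f568478 IH) (Lpn (LP (LK LD1_c5 LD2_c48 LD3_c48))))))))))))
theorem f544149 : Led Lsl_df (LP (LK LD1_c7 LD2_c21 LD3_c23)) = (LP (LK LD1_c10 LD2_c5 LD3_c43)) :=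
  Lgr Lrot162 (Lpe (K34.f148298 IH) (Lpe (K7.f148293 IH) (Lpr_cf (K7.f148274 IH) (Lpr_gf (K7.f148312 IH) (Lpr_dt (K42.f148306 IH) (Lpr_gt (K34.f531365 IH) (Lpr_ct (K37.f544143 IH) (Lpq (K37.f537269 IH) (Lpe (K31.f496102 IH) (Lpr_ct (K40.f206051 IH) (Lpn (LP (LK LD1_c10 LD2_c5 LD3_c43)))))))))))))
theorem f571446 : Led Lsl_df (LP (LK LD1_c5 LD2_c48 LD3_c48)) = (LP (LK LD1_c3 LD2_c42 LD3_c54)) :=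
  Lgr Lrot162 (Lpe (f571444 IH) (Lpr_gf (K42.f571442 IH) (Lpe (K40.f558542 IH) (Lpr_gf (K37.f544163 IH) (Lpe (f544149 IH) (Lpe (K24.f439266 IH) (Lpr_ct (K24.f439255 IH) (Lpe (K24.f439251 IH) (Lpr_ct (K7.f147790 IH) (Lpn (LP (LK LD1_c3 LD2_c42 LD3_c54))))))))))))
theorem f422773 : Led Lsl_dt (LP (LK LD1_c0 LD2_c37 LD3_c29)) = (LP (LK LD1_c1 LD2_c21 LD3_c13)) :=
  Lre_d IH (LK LD1_c0 LD2_c37 LD3_c29) (LK LD1_c1 LD2_c21 LD3_c13) Lrfl Lrfl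
theorem f571448 : Led Lsl_gt (LP (LK LD1_c5 LD2_c48 LD3_c48)) = (LP (LK LD1_c2 LD2_c50 LD3_c26)) :=
  Lgr Lrot187 (Lpe (f571444 IH) (Lpr_gf (K42.f571442 IH) (Lpr_dt (K40.f136297 IH) (Lpe (K42.f558743 IH) (Lpr_ct (K42.f422779 IH) (Lpr_gt (K55.f496073 IH) (Lpqs (K40.f537266 IH) (Lpe (K31.f422768 IH) (Lpr_dt (f422773 IH) (Lpe (K37.f176650 IH) (Lpn (LP (LK LD1_c2 LD2_c50 LD3_c26)))))))))))))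
theorem f123189 : Led Lsl_dt (LP (LK LD1_c7 LD2_c49 LD3_c23)) = (LP (LK LD1_c14 LD2_c45 LD3_c41)) :=
  Lre_d IH (LK LD1_c7 LD2_c49 LD3_c23) (LK LD1_c14 LD2_c45 LD3_c41) Lrfl Lrfl
theorem f466011 : Led Lsl_et (LP (LK LD1_c23 LD2_c28 LD3_c43)) = (LP (LK LD1_c13 LD2_c56 LD3_c60)) :=
  Lre_e IH (LK LD1_c23 LD2_c28 LD3_c43) (LK LD1_c13 LD2_c56 LD3_c60) Lrfl Lrfl
theorem f661723 : Led Lsl_ft (LP (LK LD1_c24 LD2_c37 LD3_c10)) = (LP (LK LD1_c14 LD2_c50 LD3_c51)) :=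
  Lre_f IH (LK LD1_c24 LD2_c37 LD3_c10) (LK LD1_c14 LD2_c50 LD3_c51) Lrfl Lrfl
theorem f465994 : Led Lsl_ft (LP (LK LD1_c13 LD2_c57 LD3_c0)) = (LP (LK LD1_c23 LD2_c28 LD3_c48)) :=
  Lre_f IH (LK LD1_c13 LD2_c57 LD3_c0) (LK LD1_c23 LD2_c28 LD3_c48) Lrfl Lrfl
theorem f661724 : Led Lsl_df (LP (LK LD1_c24 LD2_c37 LD3_c10)) = (LP (LK LD1_c23 LD2_c28 LD3_c48)) :=
  Lgr Lrot78 (Lpr_ft (f661723 IH) (Lpr_dt (K48.f661716 IH) (Lpr_ft (f465994 IH) (Lpn (LP (LK LD1_c23 LD2_c28 LD3_c48))))))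
theorem f661743 : Led Lsl_dt (LP (LK LD1_c24 LD2_c37 LD3_c10)) = (LP (LK LD1_c23 LD2_c28 LD3_c48)) :=
  Lgr Lrot42 (Lpr_df (f661724 IH) (Lpn (LP (LK LD1_c23 LD2_c28 LD3_c48))))
theorem f661745 : Led Lsl_bt (LP (LK LD1_c31 LD2_c35 LD3_c51)) = (LP (LK LD1_c24 LD2_c37 LD3_c10)) :=
  Lre_b IH (LK LD1_c31 LD2_c35 LD3_c51) (LK LD1_c24 LD2_c37 LD3_c10) Lrfl Lrfl
theorem f465978 : Led Lsl_bt (LP (LK LD1_c23 LD2_c28 LD3_c48)) = (LP (LK LD1_c31 LD2_c4 LD3_c50)) :=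
  Lre_b IH (LK LD1_c23 LD2_c28 LD3_c48) (LK LD1_c31 LD2_c4 LD3_c50) Lrfl Lrfl
theorem f661746 : Led Lsl_df (LP (LK LD1_c31 LD2_c35 LD3_c51)) = (LP (LK LD1_c31 LD2_c4 LD3_c50)) :=
  Lgr Lrot12 (Lpr_bt (f661745 IH) (Lpr_dt (f661743 IH) (Lpr_bt (f465978 IH) (Lpn (LP (LK LD1_c31 LD2_c4 LD3_c50))))))
theorem f661748 : Led Lsl_ft (LP (LK LD1_c31 LD2_c35 LD3_c51)) = (LP (LK LD1_c24 LD2_c37 LD3_c7)) :=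
  Lre_f IH (LK LD1_c31 LD2_c35 LD3_c51) (LK LD1_c24 LD2_c37 LD3_c7) Lrfl Lrfl
theorem f465998 : Led Lsl_ft (LP (LK LD1_c23 LD2_c28 LD3_c43)) = (LP (LK LD1_c31 LD2_c4 LD3_c50)) :=
  Lre_f IH (LK LD1_c23 LD2_c28 LD3_c43) (LK LD1_c31 LD2_c4 LD3_c50) Lrfl Lrfl
theorem f661749 : Led Lsl_dt (LP (LK LD1_c24 LD2_c37 LD3_c7)) = (LP (LK LD1_c23 LD2_c28 LD3_c43)) :=
  Lgr Lrot60 (Lpe (f661748 IH) (Lpr_df (f661746 IH) (Lpe (f465998 IH) (Lpn (LP (LK LD1_c23 LD2_c28 LD3_c43))))))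
theorem f661755 : Led Lsl_et (LP (LK LD1_c14 LD2_c50 LD3_c50)) = (LP (LK LD1_c24 LD2_c37 LD3_c7)) :=
  Lre_e IH (LK LD1_c14 LD2_c50 LD3_c50) (LK LD1_c24 LD2_c37 LD3_c7) Lrfl Lrfl
theorem f797984 : Led Lsl_df (LP (LK LD1_c14 LD2_c50 LD3_c50)) = v21573 :=
  Lgr Lrot70 (Lpr_et (f661755 IH) (Lpr_dt (f661749 IH) (Lpr_et (f466011 IH) (Lpr_dt (K34.f465730 IH) (Lpr_et (f797981 IH) (Lpn v21573))))))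
theorem f797990 : Led Lsl_gt (LP (LK LD1_c14 LD2_c45 LD3_c41)) = (LP (LK LD1_c14 LD2_c50 LD3_c50)) :=
  Lgr Lrot139 (Lpe (f123189 IH) (Lpe (K29.f123180 IH) (Lpe (K33.f123428 IH) (Lpr_dt (K34.f531356 IH) (Lpqs (K37.f544129 IH) (Lpe (f571448 IH) (Lpr_df (f571446 IH) (Lpr_et (K34.f436320 IH) (Lpe (K34.f533131 IH) (Lpr_ef (f797985 IH) (Lpe (f797984 IH) (Lpn (LP (LK LD1_c14 LD2_c50 LD3_c50))))))))))))))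
theorem f797991 : Led Lsl_gt (LP (LK LD1_c14 LD2_c45 LD3_c41)) = (LP (LK LD1_c14 LD2_c50 LD3_c50)) :=
  Leop (Lpe (f797990 IH) (Lpn (LP (LK LD1_c14 LD2_c45 LD3_c41))))
theorem seed_1629 : LEOK LG_g (LK LD1_c14 LD2_c45 LD3_c41) :=
  Leoe_g (LK LD1_c14 LD2_c45 LD3_c41) (f797991 IH)
def v21586 : LQ := Led Lsl_et (LP (LK LD1_c7 LD2_c23 LD3_c9))
theorem f798063 : Led Lsl_et (LP (LK LD1_c7 LD2_c23 LD3_c9)) = v21586 :=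
  Lrfl
theorem f798066 : Led Lsl_ef (LP (LK LD1_c7 LD2_c23 LD3_c9)) = v21586 :=
  Lgr Lrot88 (Lpr_et (f798063 IH) (Lpn v21586))
theorem f472681 : Led Lsl_et (LP (LK LD1_c3 LD2_c55 LD3_c15)) = (LP (LK LD1_c7 LD2_c52 LD3_c21)) :=
  Lre_e IH (LK LD1_c3 LD2_c55 LD3_c15) (LK LD1_c7 LD2_c52 LD3_c21) Lrfl Lrfl
theorem f472694 : Led Lsl_dt (LP (LK LD1_c3 LD2_c55 LD3_c15)) = (LP (LK LD1_c7 LD2_c52 LD3_c20)) :=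
  Lre_d IH (LK LD1_c3 LD2_c55 LD3_c15) (LK LD1_c7 LD2_c52 LD3_c20) Lrfl Lrfl
theorem f478640 : Led Lsl_gt (LP (LK LD1_c14 LD2_c50 LD3_c60)) = (LP (LK LD1_c7 LD2_c52 LD3_c20)) :=
  Lre_g IH (LK LD1_c14 LD2_c50 LD3_c60) (LK LD1_c7 LD2_c52 LD3_c20) Lrfl Lrfl
theorem f798069 : Led Lsl_df (LP (LK LD1_c14 LD2_c50 LD3_c60)) = v21586 :=
  Lgr Lrot170 (Lpr_gt (f478640 IH) (Lpe (f472694 IH) (Lpr_et (f472681 IH) (Lpr_gt (K39.f472685 IH) (Lpe (K47.f535051 IH) (Lpe (K55.f469447 IH) (Lpe (K34.f469360 IH) (Lpr_et (K34.f469382 IH) (Lpr_gt (K37.f147176 IH) (Lpr_ef (f798066 IH) (Lpn v21586)))))))))))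
theorem f798067 : Led Lsl_bt (LP (LK LD1_c14 LD2_c8 LD3_c57)) = v21586 :=
  Lgr Lrot119 (Lpe (K57.f607877 IH) (Lpe (K39.f488288 IH) (Lpr_ef (f798066 IH) (Lpn v21586))))
theorem f607891 : Led Lsl_ef (LP (LK LD1_c13 LD2_c24 LD3_c46)) = (LP (LK LD1_c14 LD2_c8 LD3_c57)) :=
  Lgr Lrot88 (Lpr_et (K57.f607877 IH) (Lpn (LP (LK LD1_c14 LD2_c8 LD3_c57))))
theorem f148231 : Led Lsl_dt (LP (LK LD1_c3 LD2_c54 LD3_c19)) = (LP (LK LD1_c7 LD2_c50 LD3_c16)) :=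
  Lre_d IH (LK LD1_c3 LD2_c54 LD3_c19) (LK LD1_c7 LD2_c50 LD3_c16) Lrfl Lrfl
theorem f486151 : Led Lsl_gt (LP (LK LD1_c7 LD2_c50 LD3_c16)) = (LP (LK LD1_c14 LD2_c47 LD3_c3)) :=
  Lre_g IH (LK LD1_c7 LD2_c50 LD3_c16) (LK LD1_c14 LD2_c47 LD3_c3) Lrfl Lrfl
theorem f607893 : Led Lsl_df (LP (LK LD1_c14 LD2_c47 LD3_c3)) = (LP (LK LD1_c14 LD2_c8 LD3_c57)) :=
  Lgr Lrot132 (Lpe (f486151 IH) (Lpe (f148231 IH) (Lpe (K33.f486147 IH) (Lpe (K33.f123930 IH) (Lpr_dt (K28.f123926 IH) (Lpe (K5.f123896 IH) (Lpe (K5.f116459 IH) (Lpr_et (K33.f116461 IH) (Lpr_gf (K39.f466354 IH) (Lpr_ef (f607891 IH) (Lpn (LP (LK LD1_c14 LD2_c8 LD3_c57)))))))))))))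
theorem f607896 : Led Lsl_dt (LP (LK LD1_c14 LD2_c47 LD3_c3)) = (LP (LK LD1_c14 LD2_c8 LD3_c57)) :=
  Lgr Lrot42 (Lpr_df (f607893 IH) (Lpn (LP (LK LD1_c14 LD2_c8 LD3_c57))))
theorem f798070 : Led Lsl_bt (LP (LK LD1_c14 LD2_c50 LD3_c60)) = (LP (LK LD1_c14 LD2_c47 LD3_c3)) :=
  Lgr Lrot95 (Lpr_df (f798069 IH) (Lpe (f798067 IH) (Lpe (f607896 IH) (Lpn (LP (LK LD1_c14 LD2_c47 LD3_c3))))))
theorem f798071 : Led Lsl_bt (LP (LK LD1_c14 LD2_c50 LD3_c60)) = (LP (LK LD1_c14 LD2_c47 LD3_c3)) :=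
  Leop (Lpe (f798070 IH) (Lpn (LP (LK LD1_c14 LD2_c50 LD3_c60))))
theorem seed_1630 : LEOK LG_b (LK LD1_c14 LD2_c50 LD3_c60) :=
  Leoe_b (LK LD1_c14 LD2_c50 LD3_c60) (f798071 IH)
def v21595 : LQ := Led Lsl_bt (LP (LK LD1_c7 LD2_c23 LD3_c20))
theorem f798117 : Led Lsl_bt (LP (LK LD1_c7 LD2_c23 LD3_c20)) = v21595 :=
  Lrfl
theorem f112690 : Led Lsl_bt (LP (LK LD1_c5 LD2_c56 LD3_c10)) = (LP (LK LD1_c11 LD2_c37 LD3_c34)) :=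
  Lre_b IH (LK LD1_c5 LD2_c56 LD3_c10) (LK LD1_c11 LD2_c37 LD3_c34) Lrfl Lrfl
theorem f798121 : Led Lsl_gt (LP (LK LD1_c11 LD2_c37 LD3_c34)) = v21595 :=
  Lgr Lrot164 (Lpe (f112690 IH) (Lpr_ct (K4.f112689 IH) (Lpr_gf (K6.f119666 IH) (Lpe (K7.f35249 IH) (Lpr_gf (K8.f160687 IH) (Lpe (K8.f119679 IH) (Lpe (K8.f160683 IH) (Lpe (K8.f130267 IH) (Lpe (K6.f126475 IH) (Lpr_bt (f798117 IH) (Lpn v21595)))))))))))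
theorem f119720 : Led Lsl_bt (LP (LK LD1_c11 LD2_c37 LD3_c34)) = (LP (LK LD1_c5 LD2_c56 LD3_c10)) :=
  Lre_b IH (LK LD1_c11 LD2_c37 LD3_c34) (LK LD1_c5 LD2_c56 LD3_c10) Lrfl Lrfl
theorem f119831 : Led Lsl_df (LP (LK LD1_c11 LD2_c37 LD3_c34)) = (LP (LK LD1_c12 LD2_c38 LD3_c39)) :=
  Lgr Lrot12 (Lpr_bt (f119720 IH) (Lpr_dt (K7.f119711 IH) (Lpr_bt (K4.f79428 IH) (Lpn (LP (LK LD1_c12 LD2_c38 LD3_c39))))))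
theorem f122290 : Led Lsl_gf (LP (LK LD1_c12 LD2_c1 LD3_c55)) = (LP (LK LD1_c6 LD2_c53 LD3_c7)) :=
  Lgr Lrot147 (Lpr_ct (K7.f105242 IH) (Lpr_gt (K7.f96001 IH) (Lpr_ct (K4.f58423 IH) (Lpr_df (K6.f122283 IH) (Lpe (K32.f111115 IH) (Lpr_gf (K24.f122114 IH) (Lpe (K4.f122095 IH) (Lpe (K4.f122086 IH) (Lpe (K7.f121998 IH) (Lpn (LP (LK LD1_c6 LD2_c53 LD3_c7))))))))))))
theorem f436454 : Led Lsl_gf (LP (LK LD1_c6 LD2_c34 LD3_c12)) = (LP (LK LD1_c7 LD2_c31 LD3_c27)) :=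
  Lgr Lrot124 (Lpr_bf (K42.f436447 IH) (Lpe (K5.f121977 IH) (Lpe (f122290 IH) (Lpe (K7.f105241 IH) (Lpr_bt (K36.f122294 IH) (Lpe (K44.f157280 IH) (Lpr_ct (K8.f148551 IH) (Lpe (K28.f148618 IH) (Lpr_cf (K30.f207661 IH) (Lpe (K34.f207645 IH) (Lpn (LP (LK LD1_c7 LD2_c31 LD3_c27)))))))))))))
theorem f65635 : Led Lsl_dt (LP (LK LD1_c6 LD2_c34 LD3_c12)) = (LP (LK LD1_c12 LD2_c34 LD3_c59)) :=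
  Lre_d IH (LK LD1_c6 LD2_c34 LD3_c12) (LK LD1_c12 LD2_c34 LD3_c59) Lrfl Lrfl
theorem f436456 : Led Lsl_ct (LP (LK LD1_c12 LD2_c34 LD3_c59)) = (LP (LK LD1_c12 LD2_c16 LD3_c14)) :=
  Lgr Lrot191 (Lpe (f65635 IH) (Lpr_gf (f436454 IH) (Lpr_bf (K34.f207645 IH) (Lpe (K36.f207651 IH) (Lpe (K28.f207894 IH) (Lpe (K28.f207952 IH) (Lpr_bf (K40.f207957 IH) (Lpe (K7.f72355 IH) (Lpe (K7.f72261 IH) (Lpe (K5.f20415 IH) (Lpe (K8.f72273 IH) (Lpe (K6.f99600 IH) (Lpe (K36.f137912 IH) (Lpe (K39.f160715 IH) (Lpe (K32.f112420 IH) (Lpe (K4.f70382 IH) (Lpr_df (K28.f112430 IH) (Lpe (K28.f56962 IH) (Lpr_bf (K37.f203261 IH) (Lpn (LP (LK LD1_c12 LD2_c16 LD3_c14))))))))))))))))))))))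
theorem f436462 : Led Lsl_cf (LP (LK LD1_c12 LD2_c34 LD3_c59)) = (LP (LK LD1_c12 LD2_c16 LD3_c14)) :=
  Lgr Lrot11 (Lpr_ct (f436456 IH) (Lpn (LP (LK LD1_c12 LD2_c16 LD3_c14))))
theorem f436466 : Led Lsl_gt (LP (LK LD1_c12 LD2_c34 LD3_c59)) = (LP (LK LD1_c6 LD2_c34 LD3_c29)) :=
  Lgr Lrot149 (Lpr_cf (f436462 IH) (Lpe (K37.f78151 IH) (Lpe (K4.f78143 IH) (Lpe (K4.f79334 IH) (Lpe (K4.f95263 IH) (Lpe (K4.f24390 IH) (Lpr_bt (K6.f95267 IH) (Lpe (K5.f95268 IH) (Lpr_bf (K6.f141518 IH) (Lpr_ct (K6.f127645 IH) (Lpn (LP (LK LD1_c6 LD2_c34 LD3_c29)))))))))))))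
theorem f103924 : Led Lsl_bt (LP (LK LD1_c3 LD2_c15 LD3_c36)) = (LP (LK LD1_c6 LD2_c34 LD3_c29)) :=
  Lre_b IH (LK LD1_c3 LD2_c15 LD3_c36) (LK LD1_c6 LD2_c34 LD3_c29) Lrfl Lrfl
theorem f103925 : Led Lsl_dt (LP (LK LD1_c6 LD2_c34 LD3_c29)) = (LP (LK LD1_c3 LD2_c16 LD3_c38)) :=
  Lgr Lrot79 (Lpe (f103924 IH) (Lpr_df (K3.f103832 IH) (Lpe (K7.f79126 IH) (Lpn (LP (LK LD1_c3 LD2_c16 LD3_c38))))))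
theorem f208285 : Led Lsl_at (LP (LK LD1_c11 LD2_c38 LD3_c28)) = (LP (LK LD1_c6 LD2_c28 LD3_c20)) :=
  Lgr Lrot66 (Lpr_ff (K32.f208275 IH) (Lpe (K32.f208264 IH) (Lpe (K32.f208262 IH) (Lpn (LP (LK LD1_c6 LD2_c28 LD3_c20))))))
theorem f208292 : Led Lsl_at (LP (LK LD1_c6 LD2_c18 LD3_c23)) = (LP (LK LD1_c12 LD2_c12 LD3_c48)) :=
  Lre_a IH (LK LD1_c6 LD2_c18 LD3_c23) (LK LD1_c12 LD2_c12 LD3_c48) Lrfl Lrfl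
theorem f208293 : Led Lsl_ct (LP (LK LD1_c6 LD2_c28 LD3_c20)) = (LP (LK LD1_c6 LD2_c18 LD3_c23)) :=
  Lgr Lrot111 (Lpe (f208285 IH) (Lpr_cf (K32.f208290 IH) (Lpe (f208292 IH) (Lpn (LP (LK LD1_c6 LD2_c18 LD3_c23))))))
theorem f150286 : Led Lsl_gt (LP (LK LD1_c12 LD2_c12 LD3_c47)) = (LP (LK LD1_c6 LD2_c18 LD3_c23)) :=
  Lre_g IH (LK LD1_c12 LD2_c12 LD3_c47) (LK LD1_c6 LD2_c18 LD3_c23) Lrfl Lrfl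
theorem f208760 : Led Lsl_ct (LP (LK LD1_c12 LD2_c39 LD3_c6)) = (LP (LK LD1_c12 LD2_c12 LD3_c47)) :=
  Lgr Lrot91 (Lpe (K32.f207541 IH) (Lpe (K32.f94144 IH) (Lpe (K3.f94132 IH) (Lpe (K3.f89670 IH) (Lpe (K7.f112082 IH) (Lpr_bt (K4.f62898 IH) (Lpe (K5.f113069 IH) (Lpe (K8.f128892 IH) (Lpr_ct (f208293 IH) (Lpe (f150286 IH) (Lpn (LP (LK LD1_c12 LD2_c12 LD3_c47)))))))))))))
theorem f798122 : Led Lsl_df (LP (LK LD1_c12 LD2_c12 LD3_c47)) = v21595 :=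
  Lgr Lrot84 (Lpe (f208760 IH) (Lpe (K32.f79124 IH) (Lpe (K7.f79123 IH) (Lpe (f103925 IH) (Lpe (f436466 IH) (Lpr_cf (f436462 IH) (Lpe (K37.f79426 IH) (Lpe (f119831 IH) (Lpr_gt (f798121 IH) (Lpn v21595))))))))))
theorem f129357 : Led Lsl_dt (LP (LK LD1_c13 LD2_c58 LD3_c18)) = (LP (LK LD1_c7 LD2_c23 LD3_c20)) :=
  Lre_d IH (LK LD1_c13 LD2_c58 LD3_c18) (LK LD1_c7 LD2_c23 LD3_c20) Lrfl Lrfl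
theorem f798123 : Led Lsl_bt (LP (LK LD1_c12 LD2_c12 LD3_c47)) = (LP (LK LD1_c13 LD2_c58 LD3_c18)) :=
  Lgr Lrot95 (Lpr_df (f798122 IH) (Lpe (f798117 IH) (Lpe (f129357 IH) (Lpn (LP (LK LD1_c13 LD2_c58 LD3_c18))))))
theorem f798124 : Led Lsl_bt (LP (LK LD1_c12 LD2_c12 LD3_c47)) = (LP (LK LD1_c13 LD2_c58 LD3_c18)) :=
  Leop (Lpe (f798123 IH) (Lpn (LP (LK LD1_c12 LD2_c12 LD3_c47))))
theorem seed_1631 : LEOK LG_b (LK LD1_c12 LD2_c12 LD3_c47) :=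
  Leoe_b (LK LD1_c12 LD2_c12 LD3_c47) (f798124 IH)
def v21632 : LQ := Led Lsl_ft (LP (LK LD1_c7 LD2_c23 LD3_c38))
theorem f798266 : Led Lsl_ft (LP (LK LD1_c7 LD2_c23 LD3_c38)) = v21632 :=
  Lrfl
theorem f12968 : Led Lsl_gt (LP (LK LD1_c7 LD2_c23 LD3_c38)) = (LP (LK LD1_c13 LD2_c58 LD3_c50)) :=
  Lre_g IH (LK LD1_c7 LD2_c23 LD3_c38) (LK LD1_c13 LD2_c58 LD3_c50) Lrfl Lrfl
def v21629 : LQ := Led Lsl_at (LP (LK LD1_c7 LD2_c23 LD3_c38))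
theorem f798250 : Led Lsl_at (LP (LK LD1_c7 LD2_c23 LD3_c38)) = v21629 :=
  Lrfl
theorem f798251 : Led Lsl_af (LP (LK LD1_c7 LD2_c23 LD3_c38)) = v21629 :=
  Lgr Lrot0 (Lpr_at (f798250 IH) (Lpn v21629))
theorem f12967 : Led Lsl_ct (LP (LK LD1_c3 LD2_c41 LD3_c31)) = (LP (LK LD1_c7 LD2_c23 LD3_c38)) :=
  Lre_c IH (LK LD1_c3 LD2_c41 LD3_c31) (LK LD1_c7 LD2_c23 LD3_c38) Lrfl Lrfl
def v7181 : LQ := Led Lsl_at (LP (LK LD1_c3 LD2_c41 LD3_c31))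
theorem f661798 : Led Lsl_at (LP (LK LD1_c3 LD2_c41 LD3_c31)) = v7181 :=
  Lrfl
theorem f661799 : Led Lsl_af (LP (LK LD1_c3 LD2_c41 LD3_c31)) = v7181 :=
  Lgr Lrot0 (Lpr_at (f661798 IH) (Lpn v7181))
theorem f798252 : Led Lsl_cf v7181 = v21629 :=
  Lgr Lrot1 (Lpe (f661799 IH) (Lpr_ct (f12967 IH) (Lpr_at (f798250 IH) (Lpn v21629))))
theorem f12955 : Led Lsl_gt (LP (LK LD1_c1 LD2_c47 LD3_c41)) = (LP (LK LD1_c3 LD2_c41 LD3_c31)) :=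
  Lre_g IH (LK LD1_c1 LD2_c47 LD3_c41) (LK LD1_c3 LD2_c41 LD3_c31) Lrfl Lrfl
theorem f12960 : Led Lsl_gt (LP (LK LD1_c3 LD2_c41 LD3_c32)) = (LP (LK LD1_c1 LD2_c47 LD3_c41)) :=
  Lre_g IH (LK LD1_c3 LD2_c41 LD3_c32) (LK LD1_c1 LD2_c47 LD3_c41) Lrfl Lrfl
theorem f661804 : Led Lsl_ft (LP (LK LD1_c3 LD2_c41 LD3_c32)) = v7181 :=
  Lgr Lrot2 (Lpr_gt (f12960 IH) (Lpr_gt (f12955 IH) (Lpr_af (f661799 IH) (Lpn v7181))))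
theorem f661806 : Led Lsl_ff (LP (LK LD1_c3 LD2_c41 LD3_c32)) = v7181 :=
  Lgr Lrot3 (Lpr_ft (f661804 IH) (Lpn v7181))
theorem f206319 : Led Lsl_ct (LP (LK LD1_c3 LD2_c41 LD3_c32)) = (LP (LK LD1_c7 LD2_c23 LD3_c42)) :=
  Lre_c IH (LK LD1_c3 LD2_c41 LD3_c32) (LK LD1_c7 LD2_c23 LD3_c42) Lrfl Lrfl
theorem f798254 : Led Lsl_ft (LP (LK LD1_c7 LD2_c23 LD3_c42)) = v21629 :=
  Lgr Lrot4 (Lpe (f206319 IH) (Lpr_ff (f661806 IH) (Lpr_cf (f798252 IH) (Lpn v21629))))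
theorem f798267 : Led Lsl_af (LP (LK LD1_c7 LD2_c23 LD3_c42)) = v21632 :=
  Lgr Lrot45 (Lpr_ft (f798254 IH) (Lpe (f798251 IH) (Lpr_ft (f798266 IH) (Lpn v21632))))
theorem f798270 : Led Lsl_gt (LP (LK LD1_c13 LD2_c58 LD3_c50)) = (LP (LK LD1_c7 LD2_c23 LD3_c42)) :=
  Lgr Lrot46 (Lpe (f12968 IH) (Lpr_ft (f798266 IH) (Lpe (f798267 IH) (Lpn (LP (LK LD1_c7 LD2_c23 LD3_c42))))))
theorem f798271 : Led Lsl_gt (LP (LK LD1_c13 LD2_c58 LD3_c50)) = (LP (LK LD1_c7 LD2_c23 LD3_c42)) :=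
  Leop (Lpe (f798270 IH) (Lpn (LP (LK LD1_c13 LD2_c58 LD3_c50))))
theorem seed_1632 : LEOK LG_g (LK LD1_c13 LD2_c58 LD3_c50) :=
  Leoe_g (LK LD1_c13 LD2_c58 LD3_c50) (f798271 IH)
def v21633 : LQ := Led Lsl_at (LP (LK LD1_c7 LD2_c23 LD3_c39))
theorem f798274 : Led Lsl_at (LP (LK LD1_c7 LD2_c23 LD3_c39)) = v21633 :=
  Lrfl
theorem f12956 : Led Lsl_dt (LP (LK LD1_c3 LD2_c41 LD3_c31)) = (LP (LK LD1_c7 LD2_c23 LD3_c39)) :=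
  Lre_d IH (LK LD1_c3 LD2_c41 LD3_c31) (LK LD1_c7 LD2_c23 LD3_c39) Lrfl Lrfl
theorem f798278 : Led Lsl_df v7181 = v21633 :=
  Lgr Lrot18 (Lpe (f661799 IH) (Lpr_dt (f12956 IH) (Lpr_at (f798274 IH) (Lpn v21633))))
theorem f147661 : Led Lsl_dt (LP (LK LD1_c3 LD2_c41 LD3_c32)) = (LP (LK LD1_c7 LD2_c23 LD3_c43)) :=
  Lre_d IH (LK LD1_c3 LD2_c41 LD3_c32) (LK LD1_c7 LD2_c23 LD3_c43) Lrfl Lrfl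
theorem f798280 : Led Lsl_ft (LP (LK LD1_c7 LD2_c23 LD3_c43)) = v21633 :=
  Lgr Lrot54 (Lpe (f147661 IH) (Lpr_ff (f661806 IH) (Lpr_df (f798278 IH) (Lpn v21633))))
theorem f798275 : Led Lsl_af (LP (LK LD1_c7 LD2_c23 LD3_c39)) = v21633 :=
  Lgr Lrot0 (Lpr_at (f798274 IH) (Lpn v21633))
theorem f798263 : Led Lsl_gt (LP (LK LD1_c13 LD2_c58 LD3_c53)) = (LP (LK LD1_c7 LD2_c23 LD3_c39)) :=
  Lre_g IH (LK LD1_c13 LD2_c58 LD3_c53) (LK LD1_c7 LD2_c23 LD3_c39) Lrfl Lrfl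
theorem f798282 : Led Lsl_gt (LP (LK LD1_c7 LD2_c23 LD3_c43)) = (LP (LK LD1_c13 LD2_c58 LD3_c53)) :=
  Lgr Lrot5 (Lpr_ft (f798280 IH) (Lpe (f798275 IH) (Lpe (f798263 IH) (Lpn (LP (LK LD1_c13 LD2_c58 LD3_c53))))))
theorem f798283 : Led Lsl_gt (LP (LK LD1_c7 LD2_c23 LD3_c43)) = (LP (LK LD1_c13 LD2_c58 LD3_c53)) :=
  Leop (Lpe (f798282 IH) (Lpn (LP (LK LD1_c7 LD2_c23 LD3_c43))))
theorem seed_1633 : LEOK LG_g (LK LD1_c7 LD2_c23 LD3_c43) :=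
  Leoe_g (LK LD1_c7 LD2_c23 LD3_c43) (f798283 IH)
def v21656 : LQ := Led Lsl_gt (LP (LK LD1_c7 LD2_c24 LD3_c18))
theorem f798429 : Led Lsl_gt (LP (LK LD1_c7 LD2_c24 LD3_c18)) = v21656 :=
  Lrfl
theorem f798430 : Led Lsl_gf (LP (LK LD1_c23 LD2_c16 LD3_c16)) = v21656 :=
  Lgr Lrot76 (Lpe (K61.f476481 IH) (Lpr_ff (K35.f525495 IH) (Lpr_gt (f798429 IH) (Lpn v21656))))
theorem f493740 : Led Lsl_dt (LP (LK LD1_c23 LD2_c16 LD3_c16)) = (LP (LK LD1_c13 LD2_c48 LD3_c8)) :=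
  Lre_d IH (LK LD1_c23 LD2_c16 LD3_c16) (LK LD1_c13 LD2_c48 LD3_c8) Lrfl Lrfl
theorem f525467 : Led Lsl_at (LP (LK LD1_c7 LD2_c17 LD3_c46)) = (LP (LK LD1_c13 LD2_c48 LD3_c9)) :=
  Lre_a IH (LK LD1_c7 LD2_c17 LD3_c46) (LK LD1_c13 LD2_c48 LD3_c9) Lrfl Lrfl
theorem f92615 : Led Lsl_gt (LP (LK LD1_c13 LD2_c46 LD3_c44)) = (LP (LK LD1_c23 LD2_c14 LD3_c3)) :=
  Lre_g IH (LK LD1_c13 LD2_c46 LD3_c44) (LK LD1_c23 LD2_c14 LD3_c3) Lrfl Lrfl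
theorem f525473 : Led Lsl_gf (LP (LK LD1_c13 LD2_c48 LD3_c9)) = (LP (LK LD1_c23 LD2_c14 LD3_c3)) :=
  Lgr Lrot76 (Lpe (f525467 IH) (Lpr_ff (K35.f525465 IH) (Lpr_gt (f92615 IH) (Lpn (LP (LK LD1_c23 LD2_c14 LD3_c3))))))
theorem f470566 : Led Lsl_et (LP (LK LD1_c22 LD2_c29 LD3_c20)) = (LP (LK LD1_c13 LD2_c14 LD3_c31)) :=
  Lre_e IH (LK LD1_c22 LD2_c29 LD3_c20) (LK LD1_c13 LD2_c14 LD3_c31) Lrfl Lrfl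
theorem f611413 : Led Lsl_dt (LP (LK LD1_c22 LD2_c29 LD3_c20)) = (LP (LK LD1_c23 LD2_c14 LD3_c3)) :=
  Lgr Lrot37 (Lpr_et (f470566 IH) (Lpr_gt (K34.f470607 IH) (Lpr_dt (K38.f547016 IH) (Lpr_gt (K47.f411486 IH) (Lpe (K57.f611407 IH) (Lpr_et (K47.f611409 IH) (Lpr_gt (K47.f92638 IH) (Lpe (K43.f92537 IH) (Lpr_dt (K35.f92603 IH) (Lpr_gt (f92615 IH) (Lpn (LP (LK LD1_c23 LD2_c14 LD3_c3)))))))))))))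
theorem f148262 : Led Lsl_gt (LP (LK LD1_c7 LD2_c50 LD3_c45)) = (LP (LK LD1_c14 LD2_c48 LD3_c5)) :=
  Lre_g IH (LK LD1_c7 LD2_c50 LD3_c45) (LK LD1_c14 LD2_c48 LD3_c5) Lrfl Lrfl
theorem f798431 : Led Lsl_dt (LP (LK LD1_c14 LD2_c48 LD3_c5)) = v21656 :=
  Lgr Lrot57 (Lpe (f148262 IH) (Lpr_cf (K43.f482773 IH) (Lpe (f757678 IH) (Lpr_dt (f611413 IH) (Lpe (f525473 IH) (Lpr_dt (K47.f525475 IH) (Lpe (K47.f493739 IH) (Lpe (f493740 IH) (Lpr_gf (f798430 IH) (Lpn v21656))))))))))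
theorem f610704 : Led Lsl_et (LP (LK LD1_c14 LD2_c53 LD3_c59)) = (LP (LK LD1_c24 LD2_c40 LD3_c54)) :=
  Lre_e IH (LK LD1_c14 LD2_c53 LD3_c59) (LK LD1_c24 LD2_c40 LD3_c54) Lrfl Lrfl
theorem f528278 : Led Lsl_et (LP (LK LD1_c24 LD2_c37 LD3_c59)) = (LP (LK LD1_c14 LD2_c51 LD3_c33)) :=
  Lre_e IH (LK LD1_c24 LD2_c37 LD3_c59) (LK LD1_c14 LD2_c51 LD3_c33) Lrfl Lrfl
theorem f611233 : Led Lsl_dt (LP (LK LD1_c24 LD2_c40 LD3_c54)) = (LP (LK LD1_c24 LD2_c37 LD3_c59)) :=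
  Lgr Lrot77 (Lpe (f610704 IH) (Lpe (K57.f610702 IH) (Lpe (K47.f611225 IH) (Lpr_df (K47.f611227 IH) (Lpe (f528278 IH) (Lpn (LP (LK LD1_c24 LD2_c37 LD3_c59))))))))
theorem f611236 : Led Lsl_df (LP (LK LD1_c24 LD2_c40 LD3_c54)) = (LP (LK LD1_c24 LD2_c37 LD3_c59)) :=
  Lgr Lrot38 (Lpr_dt (f611233 IH) (Lpn (LP (LK LD1_c24 LD2_c37 LD3_c59))))
theorem f462700 : Led Lsl_et (LP (LK LD1_c24 LD2_c40 LD3_c54)) = (LP (LK LD1_c14 LD2_c53 LD3_c59)) :=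
  Lre_e IH (LK LD1_c24 LD2_c40 LD3_c54) (LK LD1_c14 LD2_c53 LD3_c59) Lrfl Lrfl
theorem f611235 : Led Lsl_et (LP (LK LD1_c14 LD2_c51 LD3_c33)) = (LP (LK LD1_c24 LD2_c37 LD3_c59)) :=
  Lre_e IH (LK LD1_c14 LD2_c51 LD3_c33) (LK LD1_c24 LD2_c37 LD3_c59) Lrfl Lrfl
theorem f611239 : Led Lsl_et (LP (LK LD1_c22 LD2_c43 LD3_c55)) = (LP (LK LD1_c14 LD2_c0 LD3_c35)) :=
  Lgr Lrot71 (Lpr_df (K57.f610698 IH) (Lpe (f462700 IH) (Lpr_df (f611236 IH) (Lpe (f611235 IH) (Lpe (K47.f611231 IH) (Lpn (LP (LK LD1_c14 LD2_c0 LD3_c35))))))))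
theorem f798433 : Led Lsl_et (LP (LK LD1_c14 LD2_c48 LD3_c5)) = (LP (LK LD1_c7 LD2_c53 LD3_c56)) :=
  Lgr Lrot121 (Lpr_dt (f798431 IH) (Lpe (f798429 IH) (Lpe (K35.f456516 IH) (Lpr_et (K61.f456510 IH) (Lpe (K47.f456503 IH) (Lpe (f611239 IH) (Lpr_dt (K57.f610702 IH) (Lpe (K57.f462697 IH) (Lpe (K28.f108135 IH) (Lpr_gf (K41.f462657 IH) (Lpn (LP (LK LD1_c7 LD2_c53 LD3_c56)))))))))))))
theorem f798434 : Led Lsl_et (LP (LK LD1_c14 LD2_c48 LD3_c5)) = (LP (LK LD1_c7 LD2_c53 LD3_c56)) :=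
  Leop (Lpe (f798433 IH) (Lpn (LP (LK LD1_c14 LD2_c48 LD3_c5))))
theorem seed_1634 : LEOK LG_e (LK LD1_c14 LD2_c48 LD3_c5) :=
  Leoe_e (LK LD1_c14 LD2_c48 LD3_c5) (f798434 IH)
def v21658 : LQ := Led Lsl_gf (LP (LK LD1_c7 LD2_c24 LD3_c22))
theorem f798443 : Led Lsl_gf (LP (LK LD1_c7 LD2_c24 LD3_c22)) = v21658 :=
  Lrfl
theorem f4538 : Led Lsl_dt (LP (LK LD1_c3 LD2_c41 LD3_c43)) = (LP (LK LD1_c7 LD2_c24 LD3_c11)) :=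
  Lre_d IH (LK LD1_c3 LD2_c41 LD3_c43) (LK LD1_c7 LD2_c24 LD3_c11) Lrfl Lrfl
def v7183 : LQ := Led Lsl_gf (LP (LK LD1_c3 LD2_c41 LD3_c36))
theorem f661817 : Led Lsl_gf (LP (LK LD1_c3 LD2_c41 LD3_c36)) = v7183 :=
  Lrfl
theorem f798446 : Led Lsl_ct v7183 = v21658 :=
  Lgr Lrot8 (Lpe (f661817 IH) (Lpr_dt (K47.f4650 IH) (Lpr_gt (K47.f4649 IH) (Lpr_dt (K34.f4640 IH) (Lpe (K29.f4578 IH) (Lpe (f4538 IH) (Lpe (K29.f4606 IH) (Lpr_df (K33.f483627 IH) (Lpr_gf (f798443 IH) (Lpn v21658))))))))))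
def v7758 : LQ := Led Lsl_bt (LP (LK LD1_c3 LD2_c56 LD3_c43))
theorem f668254 : Led Lsl_bt (LP (LK LD1_c3 LD2_c56 LD3_c43)) = v7758 :=
  Lrfl
theorem f535546 : Led Lsl_bf (LP (LK LD1_c1 LD2_c55 LD3_c3)) = K61.v2775 :=
  Lgr Lrot96 (Lpr_et (K34.f451947 IH) (Lpr_bt (K28.f11353 IH) (Lpr_et (K61.f535545 IH) (Lpn K61.v2775))))
theorem f668256 : Led Lsl_df K61.v2775 = v7758 :=
  Lgr Lrot12 (Lpe (f535546 IH) (Lpr_dt (K29.f462990 IH) (Lpr_bt (f668254 IH) (Lpn v7758))))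
theorem f668258 : Led Lsl_dt K61.v2775 = v7758 :=
  Lgr Lrot42 (Lpr_df (f668256 IH) (Lpn v7758))
theorem f662399 : Led Lsl_af K61.v2775 = K49.v7216 :=
  Lgr Lrot50 (Lpe (K61.f535548 IH) (Lpr_at (K29.f470850 IH) (Lpr_et (K49.f662398 IH) (Lpn K49.v7216))))
theorem f625532 : Led Lsl_df K49.v2548 = K49.v3406 :=
  Lgr Lrot38 (Lpr_dt (K49.f625531 IH) (Lpn K49.v3406))
theorem f662403 : Led Lsl_ct K49.v2548 = K49.v7216 :=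
  Lgr Lrot15 (Lpe (K49.f527325 IH) (Lpe (K34.f203915 IH) (Lpr_ef (K49.f662401 IH) (Lpn K49.v7216))))
theorem f664132 : Led Lsl_df K49.v7216 = K49.v7287 :=
  Lgr Lrot84 (Lpe (f662403 IH) (Lpr_df (f625532 IH) (Lpe (K49.f625529 IH) (Lpe (K49.f459516 IH) (Lpe (K33.f12853 IH) (Lpe (K4.f12857 IH) (Lpr_gt (K34.f12878 IH) (Lpr_dt (K49.f12879 IH) (Lpr_gt (K49.f664131 IH) (Lpn K49.v7287))))))))))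
theorem f668261 : Led Lsl_af K49.v7287 = v7758 :=
  Lgr Lrot117 (Lpe (f664132 IH) (Lpe (f662399 IH) (Lpr_dt (f668258 IH) (Lpn v7758))))
def v7288 : LQ := Led Lsl_gf (LP (LK LD1_c3 LD2_c44 LD3_c17))
theorem f664140 : Led Lsl_gf (LP (LK LD1_c3 LD2_c44 LD3_c17)) = v7288 :=
  Lrfl
theorem f668262 : Led Lsl_ft v7288 = v7758 :=
  Lgr Lrot2 (Lpe (f664140 IH) (Lpr_gt (K49.f664131 IH) (Lpr_af (f668261 IH) (Lpn v7758))))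
theorem f668255 : Led Lsl_bf (LP (LK LD1_c3 LD2_c56 LD3_c43)) = v7758 :=
  Lgr Lrot24 (Lpr_bt (f668254 IH) (Lpn v7758))
theorem f518481 : Led Lsl_ct (LP (LK LD1_c13 LD2_c59 LD3_c32)) = (LP (LK LD1_c13 LD2_c55 LD3_c10)) :=
  Lgr Lrot59 (Lpr_cf (K34.f518475 IH) (Lpn (LP (LK LD1_c13 LD2_c55 LD3_c10))))
theorem f515288 : Led Lsl_ct (LP (LK LD1_c3 LD2_c54 LD3_c21)) = (LP (LK LD1_c7 LD2_c9 LD3_c8)) :=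
  Lgr Lrot7 (Lpr_df (K33.f148169 IH) (Lpe (K33.f4587 IH) (Lpe (K29.f4508 IH) (Lpr_gf (K29.f456429 IH) (Lpe (K29.f5284 IH) (Lpr_gt (K29.f456433 IH) (Lpe (K29.f478587 IH) (Lpe (K34.f478593 IH) (Lpr_dt (K33.f515280 IH) (Lpn (LP (LK LD1_c7 LD2_c9 LD3_c8))))))))))))
theorem f469492 : Led Lsl_at (LP (LK LD1_c7 LD2_c4 LD3_c58)) = (LP (LK LD1_c7 LD2_c4 LD3_c33)) :=
  Lgr Lrot67 (Lpe (K33.f469155 IH) (Lpe (K37.f469451 IH) (Lpr_bf (K28.f469489 IH) (Lpe (K39.f466359 IH) (Lpe (K37.f469491 IH) (Lpn (LP (LK LD1_c7 LD2_c4 LD3_c33))))))))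
theorem f469181 : Led Lsl_ff (LP (LK LD1_c7 LD2_c4 LD3_c58)) = (LP (LK LD1_c3 LD2_c44 LD3_c5)) :=
  Lgr Lrot19 (Lpr_dt (K33.f455757 IH) (Lpr_ft (K28.f469177 IH) (Lpr_dt (K33.f116140 IH) (Lpn (LP (LK LD1_c3 LD2_c44 LD3_c5))))))
theorem f470094 : Led Lsl_gt (LP (LK LD1_c3 LD2_c44 LD3_c5)) = (LP (LK LD1_c3 LD2_c56 LD3_c26)) :=
  Lgr Lrot5 (Lpe (f469181 IH) (Lpr_at (f469492 IH) (Lpr_gf (K33.f470087 IH) (Lpn (LP (LK LD1_c3 LD2_c56 LD3_c26))))))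
theorem f535533 : Led Lsl_gf (LP (LK LD1_c3 LD2_c54 LD3_c21)) = K49.v2773 :=
  Lgr Lrot141 (Lpe (K33.f148171 IH) (Lpr_dt (K29.f122782 IH) (Lpr_gt (K29.f148160 IH) (Lpr_df (K29.f489990 IH) (Lpr_et (K29.f459192 IH) (Lpe (K29.f463476 IH) (Lpr_dt (K33.f116140 IH) (Lpr_gt (f470094 IH) (Lpe (K28.f451267 IH) (Lpr_et (K49.f535529 IH) (Lpn K49.v2773)))))))))))
theorem f661821 : Led Lsl_df K49.v2773 = v7183 :=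
  Lgr Lrot155 (Lpe (f535533 IH) (Lpr_ct (f515288 IH) (Lpe (K33.f515290 IH) (Lpr_ct (K33.f511505 IH) (Lpe (K34.f511514 IH) (Lpe (f518481 IH) (Lpe (K34.f463007 IH) (Lpe (K34.f13410 IH) (Lpr_gf (f661817 IH) (Lpn v7183))))))))))
theorem f451946 : Led Lsl_et (LP (LK LD1_c0 LD2_c54 LD3_c6)) = (LP (LK LD1_c1 LD2_c54 LD3_c54)) :=
  Lre_e IH (LK LD1_c0 LD2_c54 LD3_c6) (LK LD1_c1 LD2_c54 LD3_c54) Lrfl Lrfl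
theorem f535532 : Led Lsl_ff (LP (LK LD1_c1 LD2_c55 LD3_c3)) = K49.v2773 :=
  Lgr Lrot72 (Lpr_et (K34.f451947 IH) (Lpr_ft (K33.f451624 IH) (Lpr_et (f451946 IH) (Lpr_ft (K28.f451928 IH) (Lpr_et (K49.f535529 IH) (Lpn K49.v2773))))))
theorem f661822 : Led Lsl_ft (LP (LK LD1_c3 LD2_c56 LD3_c43)) = v7183 :=
  Lgr Lrot54 (Lpe (K29.f462990 IH) (Lpr_ff (f535532 IH) (Lpr_df (f661821 IH) (Lpn v7183))))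
theorem f668263 : Led Lsl_bf v7288 = v7183 :=
  Lgr Lrot61 (Lpr_ft (f668262 IH) (Lpe (f668255 IH) (Lpr_ft (f661822 IH) (Lpn v7183))))
theorem f664133 : Led Lsl_bt (LP (LK LD1_c7 LD2_c29 LD3_c33)) = (LP (LK LD1_c3 LD2_c44 LD3_c17)) :=
  Lre_b IH (LK LD1_c7 LD2_c29 LD3_c33) (LK LD1_c3 LD2_c44 LD3_c17) Lrfl Lrfl
theorem f525514 : Led Lsl_at (LP (LK LD1_c13 LD2_c55 LD3_c11)) = (LP (LK LD1_c7 LD2_c24 LD3_c22)) :=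
  Lgr Lrot107 (Lpe (K34.f483999 IH) (Lpr_af (K35.f525510 IH) (Lpe (K29.f457166 IH) (Lpn (LP (LK LD1_c7 LD2_c24 LD3_c22))))))
theorem f483591 : Led Lsl_ct (LP (LK LD1_c3 LD2_c41 LD3_c57)) = (LP (LK LD1_c7 LD2_c24 LD3_c37)) :=
  Lre_c IH (LK LD1_c3 LD2_c41 LD3_c57) (LK LD1_c7 LD2_c24 LD3_c37) Lrfl Lrfl
theorem f525582 : Led Lsl_ff (LP (LK LD1_c13 LD2_c55 LD3_c11)) = (LP (LK LD1_c7 LD2_c24 LD3_c37)) :=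
  Lgr Lrot23 (Lpr_ct (K34.f484000 IH) (Lpr_ft (K35.f525576 IH) (Lpr_ct (f483591 IH) (Lpn (LP (LK LD1_c7 LD2_c24 LD3_c37))))))
theorem f798444 : Led Lsl_gt (LP (LK LD1_c7 LD2_c24 LD3_c37)) = v21658 :=
  Lgr Lrot5 (Lpe (f525582 IH) (Lpr_at (f525514 IH) (Lpr_gf (f798443 IH) (Lpn v21658))))
theorem f484715 : Led Lsl_ct (LP (LK LD1_c14 LD2_c0 LD3_c37)) = (LP (LK LD1_c23 LD2_c33 LD3_c18)) :=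
  Lre_c IH (LK LD1_c14 LD2_c0 LD3_c37) (LK LD1_c23 LD2_c33 LD3_c18) Lrfl Lrfl
theorem f798449 : Led Lsl_gt (LP (LK LD1_c14 LD2_c8 LD3_c55)) = (LP (LK LD1_c23 LD2_c33 LD3_c18)) :=
  Lgr Lrot65 (Lpe (K47.f523136 IH) (Lpr_bt (f664133 IH) (Lpr_gf (f664140 IH) (Lpr_bf (f668263 IH) (Lpr_ct (f798446 IH) (Lpe (f798444 IH) (Lpe (f483591 IH) (Lpr_gf (K34.f517600 IH) (Lpe (K34.f484700 IH) (Lpr_ct (f484715 IH) (Lpn (LP (LK LD1_c23 LD2_c33 LD3_c18)))))))))))))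
theorem f798450 : Led Lsl_gt (LP (LK LD1_c14 LD2_c8 LD3_c55)) = (LP (LK LD1_c23 LD2_c33 LD3_c18)) :=
  Leop (Lpe (f798449 IH) (Lpn (LP (LK LD1_c14 LD2_c8 LD3_c55))))
theorem seed_1635 : LEOK LG_g (LK LD1_c14 LD2_c8 LD3_c55) :=
  Leoe_g (LK LD1_c14 LD2_c8 LD3_c55) (f798450 IH)
def v21660 : LQ := Led Lsl_at (LP (LK LD1_c7 LD2_c24 LD3_c25))
theorem f798464 : Led Lsl_at (LP (LK LD1_c7 LD2_c24 LD3_c25)) = v21660 :=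
  Lrfl
def v7169 : LQ := Led Lsl_et (LP (LK LD1_c3 LD2_c40 LD3_c43))
theorem f661652 : Led Lsl_et (LP (LK LD1_c3 LD2_c40 LD3_c43)) = v7169 :=
  Lrfl
theorem f525568 : Led Lsl_af (LP (LK LD1_c3 LD2_c40 LD3_c43)) = (LP (LK LD1_c1 LD2_c47 LD3_c47)) :=
  Lgr Lrot0 (Lpr_at (K35.f525516 IH) (Lpn (LP (LK LD1_c1 LD2_c47 LD3_c47))))
theorem f661653 : Led Lsl_af (LP (LK LD1_c3 LD2_c41 LD3_c50)) = v7169 :=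
  Lgr Lrot50 (Lpr_et (K33.f4874 IH) (Lpe (f525568 IH) (Lpr_et (f661652 IH) (Lpn v7169))))
theorem f798466 : Led Lsl_df v7169 = v21660 :=
  Lgr Lrot18 (Lpe (f661653 IH) (Lpr_dt (K33.f4875 IH) (Lpr_at (f798464 IH) (Lpn v21660))))
theorem f661655 : Led Lsl_ef (LP (LK LD1_c3 LD2_c40 LD3_c43)) = v7169 :=
  Lgr Lrot88 (Lpr_et (f661652 IH) (Lpn v7169))
theorem f661657 : Led Lsl_ct K34.v2517 = v7169 :=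
  Lgr Lrot15 (Lpe (K34.f523725 IH) (Lpe (K34.f4532 IH) (Lpr_ef (f661655 IH) (Lpn v7169))))
def v6831 : LQ := Led Lsl_et (LP (LK LD1_c3 LD2_c31 LD3_c24))
theorem f658810 : Led Lsl_et (LP (LK LD1_c3 LD2_c31 LD3_c24)) = v6831 :=
  Lrfl
theorem f490517 : Led Lsl_dt (LP (LK LD1_c0 LD2_c54 LD3_c13)) = K29.v917 :=
  Lgr Lrot77 (Lpe (K33.f11338 IH) (Lpr_df (K24.f11327 IH) (Lpe (K29.f11339 IH) (Lpe (K29.f11340 IH) (Lpr_ef (K29.f490428 IH) (Lpn K29.v917))))))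
theorem f658814 : Led Lsl_gf K34.v2517 = v6831 :=
  Lgr Lrot141 (Lpe (K34.f523725 IH) (Lpr_dt (K34.f523719 IH) (Lpe (K34.f523722 IH) (Lpe (f490517 IH) (Lpr_et (K29.f11381 IH) (Lpqs (K28.f462172 IH) (Lpe (K28.f459384 IH) (Lpe (K28.f128308 IH) (Lpqs (K28.f463621 IH) (Lpr_gt (K24.f459276 IH) (Lpe (K28.f458932 IH) (Lpr_et (f658810 IH) (Lpn v6831)))))))))))))
def v20777 : LQ := Led Lsl_et (LP (LK LD1_c7 LD2_c4 LD3_c30))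
theorem f789886 : Led Lsl_et (LP (LK LD1_c7 LD2_c4 LD3_c30)) = v20777 :=
  Lrfl
theorem f658812 : Led Lsl_ef (LP (LK LD1_c3 LD2_c31 LD3_c24)) = v6831 :=
  Lgr Lrot88 (Lpr_et (f658810 IH) (Lpn v6831))
theorem f789888 : Led Lsl_cf v6831 = v20777 :=
  Lgr Lrot39 (Lpe (f658812 IH) (Lpr_ct (K24.f458907 IH) (Lpr_et (f789886 IH) (Lpn v20777))))
theorem f11815 : Led Lsl_et (LP (LK LD1_c0 LD2_c48 LD3_c17)) = (LP (LK LD1_c1 LD2_c43 LD3_c15)) :=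
  Lre_e IH (LK LD1_c0 LD2_c48 LD3_c17) (LK LD1_c1 LD2_c43 LD3_c15) Lrfl Lrfl
theorem f464620 : Led Lsl_ef (LP (LK LD1_c3 LD2_c27 LD3_c42)) = (LP (LK LD1_c3 LD2_c33 LD3_c2)) :=
  Lgr Lrot21 (Lpr_ft (K28.f464614 IH) (Lpr_et (K5.f93107 IH) (Lpr_ft (K4.f124050 IH) (Lpr_et (f11815 IH) (Lpr_ft (K8.f11668 IH) (Lpn (LP (LK LD1_c3 LD2_c33 LD3_c2))))))))
theorem f464700 : Led Lsl_ef (LP (LK LD1_c3 LD2_c55 LD3_c6)) = (LP (LK LD1_c1 LD2_c55 LD3_c0)) :=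
  Lgr Lrot28 (Lpr_ct (K8.f11688 IH) (Lpe (f464620 IH) (Lpr_ct (K28.f464689 IH) (Lpn (LP (LK LD1_c1 LD2_c55 LD3_c0))))))
theorem f789891 : Led Lsl_gt K48.v7184 = v20777 :=
  Lgr Lrot131 (Lpe (K48.f661828 IH) (Lpe (K48.f531538 IH) (Lpe (K34.f451646 IH) (Lpe (K28.f451626 IH) (Lpe (K28.f465128 IH) (Lpr_ef (f464700 IH) (Lpr_dt (K28.f451351 IH) (Lpe (K28.f465101 IH) (Lpr_df (K28.f460790 IH) (Lpr_et (f789886 IH) (Lpn v20777)))))))))))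
theorem f123265 : Led Lsl_ct (LP (LK LD1_c7 LD2_c51 LD3_c28)) = (LP (LK LD1_c14 LD2_c49 LD3_c21)) :=
  Lre_c IH (LK LD1_c7 LD2_c51 LD3_c28) (LK LD1_c14 LD2_c49 LD3_c21) Lrfl Lrfl
theorem f123352 : Led Lsl_gt (LP (LK LD1_c14 LD2_c49 LD3_c21)) = (LP (LK LD1_c7 LD2_c52 LD3_c29)) :=
  Lre_g IH (LK LD1_c14 LD2_c49 LD3_c21) (LK LD1_c7 LD2_c52 LD3_c29) Lrfl Lrfl
theorem f798471 : Led Lsl_ct (LP (LK LD1_c7 LD2_c52 LD3_c29)) = v21660 :=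
  Lgr Lrot110 (Lpe (f123352 IH) (Lpe (f123265 IH) (Lpe (K48.f437649 IH) (Lpr_df (K48.f661824 IH) (Lpr_gt (f789891 IH) (Lpe (f789888 IH) (Lpe (f658814 IH) (Lpr_ct (f661657 IH) (Lpr_df (f798466 IH) (Lpn v21660))))))))))
theorem f798465 : Led Lsl_af (LP (LK LD1_c7 LD2_c24 LD3_c25)) = v21660 :=
  Lgr Lrot0 (Lpr_at (f798464 IH) (Lpn v21660))
theorem f484556 : Led Lsl_ct (LP (LK LD1_c7 LD2_c24 LD3_c25)) = (LP (LK LD1_c14 LD2_c0 LD3_c50)) :=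
  Lre_c IH (LK LD1_c7 LD2_c24 LD3_c25) (LK LD1_c14 LD2_c0 LD3_c50) Lrfl Lrfl
theorem f798472 : Led Lsl_af (LP (LK LD1_c7 LD2_c52 LD3_c29)) = (LP (LK LD1_c14 LD2_c0 LD3_c50)) :=
  Lgr Lrot68 (Lpr_ct (f798471 IH) (Lpe (f798465 IH) (Lpr_ct (f484556 IH) (Lpn (LP (LK LD1_c14 LD2_c0 LD3_c50))))))
theorem f798473 : Led Lsl_at (LP (LK LD1_c14 LD2_c0 LD3_c50)) = (LP (LK LD1_c7 LD2_c52 LD3_c29)) :=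
  Leop (Lpr_af (f798472 IH) (Lpn (LP (LK LD1_c14 LD2_c0 LD3_c50))))
theorem seed_1636 : LEOK LG_a (LK LD1_c14 LD2_c0 LD3_c50) :=
  Leoe_a (LK LD1_c14 LD2_c0 LD3_c50) (f798473 IH)
def v21662 : LQ := Led Lsl_bt (LP (LK LD1_c7 LD2_c24 LD3_c26))
theorem f798516 : Led Lsl_bt (LP (LK LD1_c7 LD2_c24 LD3_c26)) = v21662 :=
  Lrfl
theorem f798519 : Led Lsl_ef (LP (LK LD1_c7 LD2_c25 LD3_c29)) = v21662 :=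
  Lgr Lrot29 (Lpr_bt (K34.f108080 IH) (Lpr_et (K33.f511495 IH) (Lpr_bt (f798516 IH) (Lpn v21662))))
theorem f493017 : Led Lsl_ef (LP (LK LD1_c14 LD2_c2 LD3_c28)) = (LP (LK LD1_c7 LD2_c54 LD3_c42)) :=
  Lgr Lrot88 (Lpr_et (K35.f493011 IH) (Lpn (LP (LK LD1_c7 LD2_c54 LD3_c42))))
theorem f462276 : Led Lsl_dt (LP (LK LD1_c7 LD2_c54 LD3_c42)) = (LP (LK LD1_c14 LD2_c55 LD3_c23)) :=
  Lre_d IH (LK LD1_c7 LD2_c54 LD3_c42) (LK LD1_c14 LD2_c55 LD3_c23) Lrfl Lrfl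
theorem f462234 : Led Lsl_bt (LP (LK LD1_c7 LD2_c54 LD3_c43)) = (LP (LK LD1_c3 LD2_c56 LD3_c30)) :=
  Lre_b IH (LK LD1_c7 LD2_c54 LD3_c43) (LK LD1_c3 LD2_c56 LD3_c30) Lrfl Lrfl
theorem f462235 : Led Lsl_ft (LP (LK LD1_c7 LD2_c21 LD3_c13)) = (LP (LK LD1_c7 LD2_c54 LD3_c43)) :=
  Lgr Lrot75 (Lpe (K34.f159346 IH) (Lpr_ff (K28.f462219 IH) (Lpe (f462234 IH) (Lpn (LP (LK LD1_c7 LD2_c54 LD3_c43))))))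
theorem f122745 : Led Lsl_gt (LP (LK LD1_c7 LD2_c21 LD3_c13)) = (LP (LK LD1_c13 LD2_c54 LD3_c9)) :=
  Lre_g IH (LK LD1_c7 LD2_c21 LD3_c13) (LK LD1_c13 LD2_c54 LD3_c9) Lrfl Lrfl
theorem f462358 : Led Lsl_gt (LP (LK LD1_c13 LD2_c54 LD3_c9)) = (LP (LK LD1_c14 LD2_c55 LD3_c23)) :=
  Lgr Lrot46 (Lpe (f122745 IH) (Lpr_ft (f462235 IH) (Lpr_at (K28.f462355 IH) (Lpn (LP (LK LD1_c14 LD2_c55 LD3_c23))))))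
theorem f655179 : Led Lsl_at (LP (LK LD1_c14 LD2_c55 LD3_c24)) = (LP (LK LD1_c13 LD2_c53 LD3_c25)) :=
  Lgr Lrot100 (Lpr_af (K46.f655177 IH) (Lpn (LP (LK LD1_c13 LD2_c53 LD3_c25))))
theorem f488719 : Led Lsl_gt (LP (LK LD1_c14 LD2_c55 LD3_c23)) = (LP (LK LD1_c13 LD2_c53 LD3_c25)) :=
  Lgr Lrot139 (Lpe (f462276 IH) (Lpe (K34.f462389 IH) (Lpe (K34.f148748 IH) (Lpe (K34.f468207 IH) (Lpe (K34.f466131 IH) (Lpe (K28.f466130 IH) (Lpr_et (K28.f468268 IH) (Lpr_gf (K34.f466250 IH) (Lpe (K34.f468274 IH) (Lpr_dt (K34.f488714 IH) (Lpn (LP (LK LD1_c13 LD2_c53 LD3_c25)))))))))))))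
theorem f657259 : Led Lsl_ff (LP (LK LD1_c14 LD2_c55 LD3_c24)) = (LP (LK LD1_c13 LD2_c54 LD3_c9)) :=
  Lgr Lrot52 (Lpr_at (f655179 IH) (Lpe (f488719 IH) (Lpe (f462358 IH) (Lpn (LP (LK LD1_c13 LD2_c54 LD3_c9))))))
theorem f657263 : Led Lsl_dt (LP (LK LD1_c14 LD2_c10 LD3_c7)) = (LP (LK LD1_c13 LD2_c54 LD3_c9)) :=
  Lgr Lrot60 (Lpe (K61.f657207 IH) (Lpr_df (K46.f462342 IH) (Lpr_ff (f657259 IH) (Lpn (LP (LK LD1_c13 LD2_c54 LD3_c9))))))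
theorem f488442 : Led Lsl_dt (LP (LK LD1_c3 LD2_c44 LD3_c31)) = (LP (LK LD1_c7 LD2_c30 LD3_c5)) :=
  Lre_d IH (LK LD1_c3 LD2_c44 LD3_c31) (LK LD1_c7 LD2_c30 LD3_c5) Lrfl Lrfl
theorem f488451 : Led Lsl_gt (LP (LK LD1_c14 LD2_c10 LD3_c4)) = (LP (LK LD1_c7 LD2_c30 LD3_c5)) :=
  Lre_g IH (LK LD1_c14 LD2_c10 LD3_c4) (LK LD1_c7 LD2_c30 LD3_c5) Lrfl Lrfl
theorem f798522 : Led Lsl_df (LP (LK LD1_c14 LD2_c10 LD3_c4)) = v21662 :=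
  Lgr Lrot170 (Lpr_gt (f488451 IH) (Lpe (f488442 IH) (Lpr_et (K42.f488445 IH) (Lpr_gt (K61.f483858 IH) (Lpr_dt (f657263 IH) (Lpr_gt (f462358 IH) (Lpe (f462276 IH) (Lpe (f493017 IH) (Lpr_gt (K35.f492995 IH) (Lpr_ef (f798519 IH) (Lpn v21662)))))))))))
theorem f798523 : Led Lsl_bt (LP (LK LD1_c14 LD2_c10 LD3_c4)) = (LP (LK LD1_c13 LD2_c55 LD3_c10)) :=
  Lgr Lrot95 (Lpr_df (f798522 IH) (Lpe (f798516 IH) (Lpe (K34.f511518 IH) (Lpn (LP (LK LD1_c13 LD2_c55 LD3_c10))))))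
theorem f798524 : Led Lsl_bt (LP (LK LD1_c14 LD2_c10 LD3_c4)) = (LP (LK LD1_c13 LD2_c55 LD3_c10)) :=
  Leop (Lpe (f798523 IH) (Lpn (LP (LK LD1_c14 LD2_c10 LD3_c4))))
theorem seed_1637 : LEOK LG_b (LK LD1_c14 LD2_c10 LD3_c4) :=
  Leoe_b (LK LD1_c14 LD2_c10 LD3_c4) (f798524 IH)
def v21695 : LQ := Led Lsl_gt (LP (LK LD1_c7 LD2_c25 LD3_c3))
theorem f798741 : Led Lsl_gt (LP (LK LD1_c7 LD2_c25 LD3_c3)) = v21695 :=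
  Lrfl
def v20794 : LQ := Led Lsl_et (LP (LK LD1_c7 LD2_c5 LD3_c6))
theorem f790034 : Led Lsl_et (LP (LK LD1_c7 LD2_c5 LD3_c6)) = v20794 :=
  Lrfl
theorem f790037 : Led Lsl_ef (LP (LK LD1_c7 LD2_c5 LD3_c6)) = v20794 :=
  Lgr Lrot88 (Lpr_et (f790034 IH) (Lpn v20794))
theorem f798745 : Led Lsl_dt v20794 = v21695 :=
  Lgr Lrot56 (Lpe (f790037 IH) (Lpr_gt (K29.f469646 IH) (Lpe (K28.f438055 IH) (Lpr_dt (K47.f438047 IH) (Lpr_gt (K47.f438048 IH) (Lpr_df (K47.f487353 IH) (Lpr_et (K47.f456577 IH) (Lpe (K33.f481795 IH) (Lpr_dt (K7.f120991 IH) (Lpr_gt (f798741 IH) (Lpn v21695)))))))))))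
theorem f790040 : Led Lsl_gf (LP (LK LD1_c7 LD2_c30 LD3_c1)) = v20794 :=
  Lgr Lrot141 (Lpe (K48.f517619 IH) (Lpr_dt (K34.f517610 IH) (Lpr_gt (K34.f203937 IH) (Lpe (K28.f203843 IH) (Lpr_et (K28.f462416 IH) (Lpr_gt (K24.f457968 IH) (Lpr_dt (K33.f458170 IH) (Lpr_gt (K33.f458171 IH) (Lpr_df (K33.f480243 IH) (Lpr_et (f790034 IH) (Lpn v20794)))))))))))
def v2720 : LQ := Led Lsl_gf (LP (LK LD1_c1 LD2_c53 LD3_c52))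
theorem f531389 : Led Lsl_gf (LP (LK LD1_c1 LD2_c53 LD3_c52)) = v2720 :=
  Lrfl
theorem f446412 : Led Lsl_ct (LP (LK LD1_c1 LD2_c53 LD3_c52)) = (LP (LK LD1_c3 LD2_c54 LD3_c35)) :=
  Lre_c IH (LK LD1_c1 LD2_c53 LD3_c52) (LK LD1_c3 LD2_c54 LD3_c35) Lrfl Lrfl
theorem f490066 : Led Lsl_gt (LP (LK LD1_c3 LD2_c54 LD3_c35)) = (LP (LK LD1_c7 LD2_c50 LD3_c53)) :=
  Lre_g IH (LK LD1_c3 LD2_c54 LD3_c35) (LK LD1_c7 LD2_c50 LD3_c53) Lrfl Lrfl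
theorem f523956 : Led Lsl_af (LP (LK LD1_c3 LD2_c54 LD3_c42)) = (LP (LK LD1_c7 LD2_c49 LD3_c40)) :=
  Lgr Lrot0 (Lpr_at (K48.f523954 IH) (Lpn (LP (LK LD1_c7 LD2_c49 LD3_c40))))
theorem f523941 : Led Lsl_ft (LP (LK LD1_c3 LD2_c54 LD3_c35)) = (LP (LK LD1_c7 LD2_c49 LD3_c40)) :=
  Lgr Lrot4 (Lpe (f446412 IH) (Lpr_ff (K34.f523937 IH) (Lpe (K48.f456610 IH) (Lpn (LP (LK LD1_c7 LD2_c49 LD3_c40))))))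
theorem f523975 : Led Lsl_gf (LP (LK LD1_c3 LD2_c54 LD3_c42)) = (LP (LK LD1_c7 LD2_c50 LD3_c53)) :=
  Lgr Lrot76 (Lpr_af (f523956 IH) (Lpe (f523941 IH) (Lpr_gt (f490066 IH) (Lpn (LP (LK LD1_c7 LD2_c50 LD3_c53))))))
theorem f488025 : Led Lsl_ct (LP (LK LD1_c3 LD2_c54 LD3_c42)) = (LP (LK LD1_c1 LD2_c53 LD3_c56)) :=
  Lre_c IH (LK LD1_c3 LD2_c54 LD3_c42) (LK LD1_c1 LD2_c53 LD3_c56) Lrfl Lrfl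
theorem f523977 : Led Lsl_ct (LP (LK LD1_c7 LD2_c9 LD3_c11)) = (LP (LK LD1_c7 LD2_c50 LD3_c53)) :=
  Lgr Lrot152 (Lpe (K61.f482587 IH) (Lpe (K61.f93149 IH) (Lpr_gt (K33.f93146 IH) (Lpe (K33.f485214 IH) (Lpr_gt (K33.f488016 IH) (Lpr_ct (K29.f123393 IH) (Lpe (K29.f451150 IH) (Lpe (f488025 IH) (Lpr_gf (f523975 IH) (Lpn (LP (LK LD1_c7 LD2_c50 LD3_c53))))))))))))
theorem f523984 : Led Lsl_cf (LP (LK LD1_c7 LD2_c9 LD3_c11)) = (LP (LK LD1_c7 LD2_c50 LD3_c53)) :=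
  Lgr Lrot11 (Lpr_ct (f523977 IH) (Lpn (LP (LK LD1_c7 LD2_c50 LD3_c53))))
theorem f466055 : Led Lsl_et (LP (LK LD1_c23 LD2_c28 LD3_c6)) = (LP (LK LD1_c13 LD2_c56 LD3_c41)) :=
  Lre_e IH (LK LD1_c23 LD2_c28 LD3_c6) (LK LD1_c13 LD2_c56 LD3_c41) Lrfl Lrfl
theorem f524110 : Led Lsl_et (LP (LK LD1_c7 LD2_c51 LD3_c5)) = (LP (LK LD1_c14 LD2_c48 LD3_c40)) :=
  Lre_e IH (LK LD1_c7 LD2_c51 LD3_c5) (LK LD1_c14 LD2_c48 LD3_c40) Lrfl Lrfl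
theorem f524440 : Led Lsl_af (LP (LK LD1_c23 LD2_c28 LD3_c6)) = (LP (LK LD1_c14 LD2_c48 LD3_c40)) :=
  Lgr Lrot50 (Lpr_et (f466055 IH) (Lpr_at (f524435 IH) (Lpr_et (f524110 IH) (Lpn (LP (LK LD1_c14 LD2_c48 LD3_c40))))))
theorem f466064 : Led Lsl_et (LP (LK LD1_c13 LD2_c56 LD3_c41)) = (LP (LK LD1_c23 LD2_c28 LD3_c6)) :=
  Lre_e IH (LK LD1_c13 LD2_c56 LD3_c41) (LK LD1_c23 LD2_c28 LD3_c6) Lrfl Lrfl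
theorem f455998 : Led Lsl_dt (LP (LK LD1_c7 LD2_c49 LD3_c38)) = (LP (LK LD1_c3 LD2_c53 LD3_c61)) :=
  Lre_d IH (LK LD1_c7 LD2_c49 LD3_c38) (LK LD1_c3 LD2_c53 LD3_c61) Lrfl Lrfl
theorem f456602 : Led Lsl_et (LP (LK LD1_c14 LD2_c46 LD3_c2)) = (LP (LK LD1_c7 LD2_c49 LD3_c38)) :=
  Lre_e IH (LK LD1_c14 LD2_c46 LD3_c2) (LK LD1_c7 LD2_c49 LD3_c38) Lrfl Lrfl
theorem f487359 : Led Lsl_dt (LP (LK LD1_c23 LD2_c28 LD3_c6)) = (LP (LK LD1_c14 LD2_c46 LD3_c2)) :=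
  Lgr Lrot77 (Lpe (f466064 IH) (Lpr_df (K47.f487353 IH) (Lpe (K33.f456587 IH) (Lpe (f455998 IH) (Lpe (f456602 IH) (Lpn (LP (LK LD1_c14 LD2_c46 LD3_c2))))))))
theorem f524095 : Led Lsl_dt (LP (LK LD1_c7 LD2_c51 LD3_c3)) = (LP (LK LD1_c14 LD2_c48 LD3_c40)) :=
  Lre_d IH (LK LD1_c7 LD2_c51 LD3_c3) (LK LD1_c14 LD2_c48 LD3_c40) Lrfl Lrfl
theorem f524445 : Led Lsl_at (LP (LK LD1_c14 LD2_c46 LD3_c2)) = (LP (LK LD1_c7 LD2_c51 LD3_c3)) :=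
  Lgr Lrot51 (Lpe (f487359 IH) (Lpr_af (f524440 IH) (Lpe (f524095 IH) (Lpn (LP (LK LD1_c7 LD2_c51 LD3_c3))))))
theorem f456605 : Led Lsl_et (LP (LK LD1_c7 LD2_c49 LD3_c38)) = (LP (LK LD1_c14 LD2_c46 LD3_c2)) :=
  Lre_e IH (LK LD1_c7 LD2_c49 LD3_c38) (LK LD1_c14 LD2_c46 LD3_c2) Lrfl Lrfl
theorem f524094 : Led Lsl_et (LP (LK LD1_c7 LD2_c51 LD3_c3)) = (LP (LK LD1_c3 LD2_c54 LD3_c40)) :=
  Lre_e IH (LK LD1_c7 LD2_c51 LD3_c3) (LK LD1_c3 LD2_c54 LD3_c40) Lrfl Lrfl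
theorem f524459 : Led Lsl_af (LP (LK LD1_c7 LD2_c49 LD3_c38)) = (LP (LK LD1_c3 LD2_c54 LD3_c40)) :=
  Lgr Lrot50 (Lpr_et (f456605 IH) (Lpr_at (f524445 IH) (Lpr_et (f524094 IH) (Lpn (LP (LK LD1_c3 LD2_c54 LD3_c40))))))
theorem f456603 : Led Lsl_ct (LP (LK LD1_c7 LD2_c49 LD3_c38)) = (LP (LK LD1_c14 LD2_c46 LD3_c1)) :=
  Lre_c IH (LK LD1_c7 LD2_c49 LD3_c38) (LK LD1_c14 LD2_c46 LD3_c1) Lrfl Lrfl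
theorem f488023 : Led Lsl_ct (LP (LK LD1_c7 LD2_c51 LD3_c2)) = (LP (LK LD1_c3 LD2_c54 LD3_c40)) :=
  Lre_c IH (LK LD1_c7 LD2_c51 LD3_c2) (LK LD1_c3 LD2_c54 LD3_c40) Lrfl Lrfl
theorem f524464 : Led Lsl_at (LP (LK LD1_c14 LD2_c46 LD3_c1)) = (LP (LK LD1_c7 LD2_c51 LD3_c2)) :=
  Lgr Lrot107 (Lpe (f456603 IH) (Lpr_af (f524459 IH) (Lpe (f488023 IH) (Lpn (LP (LK LD1_c7 LD2_c51 LD3_c2))))))
theorem f455997 : Led Lsl_ct (LP (LK LD1_c14 LD2_c46 LD3_c1)) = (LP (LK LD1_c7 LD2_c49 LD3_c38)) :=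
  Lre_c IH (LK LD1_c14 LD2_c46 LD3_c1) (LK LD1_c7 LD2_c49 LD3_c38) Lrfl Lrfl
theorem f485158 : Led Lsl_ct (LP (LK LD1_c3 LD2_c54 LD3_c32)) = (LP (LK LD1_c7 LD2_c50 LD3_c48)) :=
  Lre_c IH (LK LD1_c3 LD2_c54 LD3_c32) (LK LD1_c7 LD2_c50 LD3_c48) Lrfl Lrfl
theorem f524081 : Led Lsl_ff (LP (LK LD1_c14 LD2_c46 LD3_c1)) = (LP (LK LD1_c7 LD2_c50 LD3_c48)) :=
  Lgr Lrot23 (Lpr_ct (f455997 IH) (Lpr_ft (K34.f524079 IH) (Lpr_ct (f485158 IH) (Lpn (LP (LK LD1_c7 LD2_c50 LD3_c48))))))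
theorem f515762 : Led Lsl_gt (LP (LK LD1_c14 LD2_c47 LD3_c9)) = (LP (LK LD1_c7 LD2_c51 LD3_c2)) :=
  Lre_g IH (LK LD1_c14 LD2_c47 LD3_c9) (LK LD1_c7 LD2_c51 LD3_c2) Lrfl Lrfl
theorem f524494 : Led Lsl_gt (LP (LK LD1_c7 LD2_c50 LD3_c48)) = (LP (LK LD1_c14 LD2_c47 LD3_c9)) :=
  Lgr Lrot5 (Lpe (f524081 IH) (Lpr_at (f524464 IH) (Lpe (f515762 IH) (Lpn (LP (LK LD1_c14 LD2_c47 LD3_c9))))))
theorem f517636 : Led Lsl_dt (LP (LK LD1_c7 LD2_c50 LD3_c47)) = (LP (LK LD1_c7 LD2_c30 LD3_c1)) :=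
  Lgr Lrot42 (Lpr_df (f517631 IH) (Lpn (LP (LK LD1_c7 LD2_c30 LD3_c1))))
theorem f490004 : Led Lsl_ct (LP (LK LD1_c14 LD2_c47 LD3_c9)) = (LP (LK LD1_c7 LD2_c50 LD3_c18)) :=
  Lre_c IH (LK LD1_c14 LD2_c47 LD3_c9) (LK LD1_c7 LD2_c50 LD3_c18) Lrfl Lrfl
theorem f524496 : Led Lsl_gt (LP (LK LD1_c1 LD2_c49 LD3_c15)) = (LP (LK LD1_c3 LD2_c31 LD3_c40)) :=
  Lgr Lrot150 (Lpe (K48.f511641 IH) (Lpe (K48.f511643 IH) (Lpe (f517636 IH) (Lpr_gt (f491722 IH) (Lpr_ct (f485158 IH) (Lpr_gt (f524494 IH) (Lpr_ct (f490004 IH) (Lpr_df (K29.f489990 IH) (Lpe (K29.f459301 IH) (Lpn (LP (LK LD1_c3 LD2_c31 LD3_c40))))))))))))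
theorem f511640 : Led Lsl_ct (LP (LK LD1_c1 LD2_c49 LD3_c15)) = (LP (LK LD1_c3 LD2_c44 LD3_c29)) :=
  Lre_c IH (LK LD1_c1 LD2_c49 LD3_c15) (LK LD1_c3 LD2_c44 LD3_c29) Lrfl Lrfl
theorem f524500 : Led Lsl_gt (LP (LK LD1_c3 LD2_c44 LD3_c29)) = (LP (LK LD1_c7 LD2_c28 LD3_c23)) :=
  Lgr Lrot94 (Lpe (f511640 IH) (Lpr_gt (f524496 IH) (Lpe (K29.f490062 IH) (Lpr_gt (K29.f490074 IH) (Lpr_dt (K29.f451150 IH) (Lpe (K29.f123393 IH) (Lpe (K34.f488030 IH) (Lpr_gf (K39.f524089 IH) (Lpr_df (K39.f485160 IH) (Lpn (LP (LK LD1_c7 LD2_c28 LD3_c23))))))))))))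
theorem f455801 : Led Lsl_at (LP (LK LD1_c1 LD2_c42 LD3_c28)) = (LP (LK LD1_c3 LD2_c31 LD3_c40)) :=
  Lre_a IH (LK LD1_c1 LD2_c42 LD3_c28) (LK LD1_c3 LD2_c31 LD3_c40) Lrfl Lrfl
def v2328 : LQ := Led Lsl_ft (LP (LK LD1_c1 LD2_c42 LD3_c28))
theorem f514659 : Led Lsl_ft (LP (LK LD1_c1 LD2_c42 LD3_c28)) = v2328 :=
  Lrfl
theorem f514662 : Led Lsl_ff (LP (LK LD1_c1 LD2_c42 LD3_c28)) = v2328 :=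
  Lgr Lrot3 (Lpr_ft (f514659 IH) (Lpn v2328))
theorem f524499 : Led Lsl_gf (LP (LK LD1_c1 LD2_c49 LD3_c15)) = v2328 :=
  Lgr Lrot47 (Lpr_gt (f524496 IH) (Lpe (f455801 IH) (Lpr_ff (f514662 IH) (Lpn v2328))))
theorem f531392 : Led Lsl_dt v2328 = v2720 :=
  Lgr Lrot6 (Lpe (f524499 IH) (Lpr_ct (f511640 IH) (Lpr_gt (f524500 IH) (Lpr_ct (K34.f463404 IH) (Lpr_df (K61.f482609 IH) (Lpr_cf (f523984 IH) (Lpe (f490066 IH) (Lpe (f446412 IH) (Lpr_gf (f531389 IH) (Lpn v2720))))))))))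
theorem f128282 : Led Lsl_ff (LP (LK LD1_c0 LD2_c22 LD3_c43)) = (LP (LK LD1_c0 LD2_c22 LD3_c57)) :=
  Lgr Lrot25 (Lpr_bt (K4.f12354 IH) (Lpr_ft (K5.f128279 IH) (Lpe (K8.f26187 IH) (Lpn (LP (LK LD1_c0 LD2_c22 LD3_c57))))))
theorem f459394 : Led Lsl_et (LP (LK LD1_c1 LD2_c47 LD3_c6)) = K28.v789 :=
  Lgr Lrot69 (Lpe (K28.f12376 IH) (Lpe (K34.f12394 IH) (Lpr_ff (f128282 IH) (Lpe (K8.f26191 IH) (Lpr_ff (K28.f459390 IH) (Lpn K28.v789))))))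
theorem f523704 : Led Lsl_dt (LP (LK LD1_c1 LD2_c47 LD3_c6)) = K34.v2512 :=
  Lgr Lrot60 (Lpe (K28.f12376 IH) (Lpe (K29.f12393 IH) (Lpr_ff (K34.f523703 IH) (Lpn K34.v2512))))
def v647 : LQ := Led Lsl_ft (LP (LK LD1_c0 LD2_c47 LD3_c43))
theorem f455763 : Led Lsl_ft (LP (LK LD1_c0 LD2_c47 LD3_c43)) = v647 :=
  Lrfl
theorem f455765 : Led Lsl_ff (LP (LK LD1_c0 LD2_c47 LD3_c43)) = v647 :=
  Lgr Lrot3 (Lpr_ft (f455763 IH) (Lpn v647))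
theorem f455768 : Led Lsl_bt K24.v143 = v647 :=
  Lgr Lrot35 (Lpe (K24.f450715 IH) (Lpe (K28.f446523 IH) (Lpr_ff (f455765 IH) (Lpn v647))))
theorem f458800 : v647 = (LP (LK LD1_c0 LD2_c47 LD3_c39)) :=
  Lefun (Lecon (f455768 IH) (K28.f458789 IH)) (K28.f450713 IH)
theorem f514664 : Led Lsl_et (LP (LK LD1_c3 LD2_c31 LD3_c34)) = v2328 :=
  Lgr Lrot69 (Lpe (K29.f455640 IH) (Lpe (K49.f455632 IH) (Lpq (f458800 IH) (Lpe (f455763 IH) (Lpe (K29.f455760 IH) (Lpr_ff (f514662 IH) (Lpn v2328)))))))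
theorem f658867 : Led Lsl_gf v2328 = K61.v6837 :=
  Lgr Lrot141 (Lpe (f514664 IH) (Lpe (K29.f459335 IH) (Lpr_gt (K34.f527339 IH) (Lpe (f523704 IH) (Lpr_et (f459394 IH) (Lpqs (K28.f462401 IH) (Lpe (K29.f452013 IH) (Lpr_dt (K28.f11331 IH) (Lpr_gt (K32.f479835 IH) (Lpe (K32.f463659 IH) (Lpr_et (K61.f658863 IH) (Lpn K61.v6837))))))))))))
theorem f790041 : Led Lsl_ct K61.v6837 = v20794 :=
  Lgr Lrot8 (Lpe (f658867 IH) (Lpr_dt (f531392 IH) (Lpe (f531389 IH) (Lpr_dt (K34.f148250 IH) (Lpe (K33.f123424 IH) (Lpe (K34.f485162 IH) (Lpe (f491722 IH) (Lpr_df (f517631 IH) (Lpr_gf (f790040 IH) (Lpn v20794))))))))))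
theorem f142304 : Led Lsl_dt (LP (LK LD1_c7 LD2_c29 LD3_c37)) = (LP (LK LD1_c3 LD2_c44 LD3_c18)) :=
  Lre_d IH (LK LD1_c7 LD2_c29 LD3_c37) (LK LD1_c3 LD2_c44 LD3_c18) Lrfl Lrfl
theorem f142302 : Led Lsl_ct (LP (LK LD1_c3 LD2_c53 LD3_c58)) = (LP (LK LD1_c7 LD2_c49 LD3_c34)) :=
  Lre_c IH (LK LD1_c3 LD2_c53 LD3_c58) (LK LD1_c7 LD2_c49 LD3_c34) Lrfl Lrfl
theorem f142303 : Led Lsl_gt (LP (LK LD1_c7 LD2_c49 LD3_c34)) = (LP (LK LD1_c14 LD2_c45 LD3_c57)) :=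
  Lre_g IH (LK LD1_c7 LD2_c49 LD3_c34) (LK LD1_c14 LD2_c45 LD3_c57) Lrfl Lrfl
theorem f798748 : Led Lsl_ct (LP (LK LD1_c14 LD2_c45 LD3_c57)) = v21695 :=
  Lgr Lrot151 (Lpe (f142303 IH) (Lpe (f142302 IH) (Lpr_gf (K34.f142292 IH) (Lpr_dt (f142304 IH) (Lpr_gt (K47.f658898 IH) (Lpr_ct (K61.f459303 IH) (Lpr_gt (K61.f658859 IH) (Lpr_ct (f790041 IH) (Lpr_dt (f798745 IH) (Lpn v21695))))))))))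
theorem f790039 : Led Lsl_gt (LP (LK LD1_c7 LD2_c28 LD3_c23)) = v20794 :=
  Lgr Lrot131 (Lpe (K34.f463402 IH) (Lpr_dt (K33.f459481 IH) (Lpe (K33.f479992 IH) (Lpe (K33.f462839 IH) (Lpe (K37.f469525 IH) (Lpe (K39.f129179 IH) (Lpr_dt (K33.f129167 IH) (Lpe (K33.f470117 IH) (Lpr_df (K33.f480243 IH) (Lpr_et (f790034 IH) (Lpn v20794)))))))))))
theorem f790042 : Led Lsl_at (LP (LK LD1_c7 LD2_c5 LD3_c11)) = v20794 :=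
  Lgr Lrot26 (Lpe (K48.f527668 IH) (Lpr_gt (f524500 IH) (Lpr_gt (f790039 IH) (Lpn v20794))))
theorem f798746 : Led Lsl_af (LP (LK LD1_c13 LD2_c26 LD3_c1)) = v21695 :=
  Lgr Lrot117 (Lpr_dt (K49.f480451 IH) (Lpr_at (f790042 IH) (Lpr_dt (f798745 IH) (Lpn v21695))))
theorem f123126 : Led Lsl_gt (LP (LK LD1_c3 LD2_c54 LD3_c26)) = (LP (LK LD1_c1 LD2_c53 LD3_c48)) :=
  Lre_g IH (LK LD1_c3 LD2_c54 LD3_c26) (LK LD1_c1 LD2_c53 LD3_c48) Lrfl Lrfl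
theorem f123082 : Led Lsl_gt (LP (LK LD1_c3 LD2_c54 LD3_c27)) = (LP (LK LD1_c7 LD2_c50 LD3_c34)) :=
  Lre_g IH (LK LD1_c3 LD2_c54 LD3_c27) (LK LD1_c7 LD2_c50 LD3_c34) Lrfl Lrfl
theorem f523595 : Led Lsl_ct (LP (LK LD1_c7 LD2_c50 LD3_c34)) = (LP (LK LD1_c13 LD2_c26 LD3_c1)) :=
  Lgr Lrot110 (Lpe (f123082 IH) (Lpe (K28.f123094 IH) (Lpe (f123126 IH) (Lpr_df (f523589 IH) (Lpr_gt (K34.f455789 IH) (Lpr_ct (f455779 IH) (Lpr_gt (K34.f455781 IH) (Lpr_ct (K48.f455782 IH) (Lpe (K49.f480451 IH) (Lpn (LP (LK LD1_c13 LD2_c26 LD3_c1))))))))))))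
theorem f523597 : Led Lsl_cf (LP (LK LD1_c7 LD2_c50 LD3_c34)) = (LP (LK LD1_c13 LD2_c26 LD3_c1)) :=
  Lgr Lrot11 (Lpr_ct (f523595 IH) (Lpn (LP (LK LD1_c13 LD2_c26 LD3_c1))))
theorem f798749 : Led Lsl_af (LP (LK LD1_c14 LD2_c45 LD3_c57)) = (LP (LK LD1_c7 LD2_c50 LD3_c34)) :=
  Lgr Lrot68 (Lpr_ct (f798748 IH) (Lpe (f798746 IH) (Lpe (f523597 IH) (Lpn (LP (LK LD1_c7 LD2_c50 LD3_c34))))))
theorem f798750 : Led Lsl_at (LP (LK LD1_c7 LD2_c50 LD3_c34)) = (LP (LK LD1_c14 LD2_c45 LD3_c57)) :=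
  Leop (Lpr_af (f798749 IH) (Lpn (LP (LK LD1_c7 LD2_c50 LD3_c34))))
theorem seed_1638 : LEOK LG_a (LK LD1_c7 LD2_c50 LD3_c34) :=
  Leoe_a (LK LD1_c7 LD2_c50 LD3_c34) (f798750 IH)
theorem f798751 : Led Lsl_cf (LP (LK LD1_c14 LD2_c45 LD3_c57)) = v21695 :=
  Lgr Lrot11 (Lpr_ct (f798748 IH) (Lpn v21695))
theorem f123108 : Led Lsl_ct (LP (LK LD1_c7 LD2_c50 LD3_c38)) = (LP (LK LD1_c3 LD2_c54 LD3_c28)) :=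
  Lre_c IH (LK LD1_c7 LD2_c50 LD3_c38) (LK LD1_c3 LD2_c54 LD3_c28) Lrfl Lrfl
theorem f798761 : Led Lsl_gt (LP (LK LD1_c14 LD2_c45 LD3_c57)) = (LP (LK LD1_c7 LD2_c50 LD3_c38)) :=
  Lgr Lrot150 (Lpr_cf (f798751 IH) (Lpe (f798741 IH) (Lpe (K7.f120991 IH) (Lpe (K29.f483560 IH) (Lpr_ct (K29.f122816 IH) (Lpr_gt (K29.f122815 IH) (Lpr_ct (K6.f122804 IH) (Lpe (K6.f122809 IH) (Lpe (f123108 IH) (Lpn (LP (LK LD1_c7 LD2_c50 LD3_c38))))))))))))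
theorem f798762 : Led Lsl_gt (LP (LK LD1_c14 LD2_c45 LD3_c57)) = (LP (LK LD1_c7 LD2_c50 LD3_c38)) :=
  Leop (Lpe (f798761 IH) (Lpn (LP (LK LD1_c14 LD2_c45 LD3_c57))))
theorem seed_1639 : LEOK LG_g (LK LD1_c14 LD2_c45 LD3_c57) :=
  Leoe_g (LK LD1_c14 LD2_c45 LD3_c57) (f798762 IH)
def v21747 : LQ := Led Lsl_ft (LP (LK LD1_c7 LD2_c25 LD3_c60))
theorem f799020 : Led Lsl_ft (LP (LK LD1_c7 LD2_c25 LD3_c60)) = v21747 :=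
  Lrfl
theorem f437764 : Led Lsl_gt (LP (LK LD1_c7 LD2_c25 LD3_c60)) = (LP (LK LD1_c14 LD2_c3 LD3_c4)) :=
  Lre_g IH (LK LD1_c7 LD2_c25 LD3_c60) (LK LD1_c14 LD2_c3 LD3_c4) Lrfl Lrfl
theorem f203816 : Led Lsl_ft (LP (LK LD1_c13 LD2_c53 LD3_c12)) = (LP (LK LD1_c7 LD2_c20 LD3_c33)) :=
  Lre_f IH (LK LD1_c13 LD2_c53 LD3_c12) (LK LD1_c7 LD2_c20 LD3_c33) Lrfl Lrfl
theorem f799021 : Led Lsl_af (LP (LK LD1_c13 LD2_c53 LD3_c12)) = v21747 :=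
  Lgr Lrot45 (Lpr_ft (f203816 IH) (Lpe (K28.f203807 IH) (Lpr_ft (f799020 IH) (Lpn v21747))))
theorem f799024 : Led Lsl_gt (LP (LK LD1_c14 LD2_c3 LD3_c4)) = (LP (LK LD1_c13 LD2_c53 LD3_c12)) :=
  Lgr Lrot46 (Lpe (f437764 IH) (Lpr_ft (f799020 IH) (Lpe (f799021 IH) (Lpn (LP (LK LD1_c13 LD2_c53 LD3_c12))))))
theorem f799025 : Led Lsl_gt (LP (LK LD1_c14 LD2_c3 LD3_c4)) = (LP (LK LD1_c13 LD2_c53 LD3_c12)) :=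
  Leop (Lpe (f799024 IH) (Lpn (LP (LK LD1_c14 LD2_c3 LD3_c4))))
theorem seed_1640 : LEOK LG_g (LK LD1_c14 LD2_c3 LD3_c4) :=
  Leoe_g (LK LD1_c14 LD2_c3 LD3_c4) (f799025 IH)
def v21748 : LQ := Led Lsl_et (LP (LK LD1_c7 LD2_c26 LD3_c2))
theorem f799031 : Led Lsl_et (LP (LK LD1_c7 LD2_c26 LD3_c2)) = v21748 :=
  Lrfl
theorem f799035 : Led Lsl_ef (LP (LK LD1_c7 LD2_c26 LD3_c2)) = v21748 :=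
  Lgr Lrot88 (Lpr_et (f799031 IH) (Lpn v21748))
theorem f531871 : Led Lsl_ff (LP (LK LD1_c7 LD2_c20 LD3_c35)) = (LP (LK LD1_c7 LD2_c26 LD3_c2)) :=
  Lgr Lrot25 (Lpr_bt (K29.f203933 IH) (Lpr_ft (K34.f531869 IH) (Lpr_bt (K29.f471179 IH) (Lpn (LP (LK LD1_c7 LD2_c26 LD3_c2))))))
theorem f532929 : Led Lsl_gf (LP (LK LD1_c14 LD2_c1 LD3_c42)) = (LP (LK LD1_c7 LD2_c26 LD3_c2)) :=
  Lgr Lrot47 (Lpr_gt (K34.f532923 IH) (Lpe (K35.f471761 IH) (Lpr_ff (f531871 IH) (Lpn (LP (LK LD1_c7 LD2_c26 LD3_c2))))))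
theorem f511594 : Led Lsl_at (LP (LK LD1_c14 LD2_c9 LD3_c39)) = (LP (LK LD1_c7 LD2_c29 LD3_c53)) :=
  Lre_a IH (LK LD1_c14 LD2_c9 LD3_c39) (LK LD1_c7 LD2_c29 LD3_c53) Lrfl Lrfl
theorem f511598 : Led Lsl_gt (LP (LK LD1_c13 LD2_c6 LD3_c22)) = (LP (LK LD1_c14 LD2_c9 LD3_c38)) :=
  Lgr Lrot5 (Lpr_ft (K48.f511583 IH) (Lpr_at (f511594 IH) (Lpe (K47.f511597 IH) (Lpn (LP (LK LD1_c14 LD2_c9 LD3_c38))))))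
theorem f511600 : Led Lsl_dt (LP (LK LD1_c14 LD2_c9 LD3_c38)) = (LP (LK LD1_c23 LD2_c44 LD3_c42)) :=
  Lre_d IH (LK LD1_c14 LD2_c9 LD3_c38) (LK LD1_c23 LD2_c44 LD3_c42) Lrfl Lrfl
theorem f471210 : Led Lsl_dt (LP (LK LD1_c14 LD2_c3 LD3_c12)) = (LP (LK LD1_c7 LD2_c26 LD3_c2)) :=
  Lre_d IH (LK LD1_c14 LD2_c3 LD3_c12) (LK LD1_c7 LD2_c26 LD3_c2) Lrfl Lrfl
theorem f532454 : Led Lsl_et (LP (LK LD1_c23 LD2_c36 LD3_c16)) = (LP (LK LD1_c14 LD2_c3 LD3_c12)) :=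
  Lre_e IH (LK LD1_c23 LD2_c36 LD3_c16) (LK LD1_c14 LD2_c3 LD3_c12) Lrfl Lrfl
theorem f662369 : Led Lsl_df (LP (LK LD1_c14 LD2_c9 LD3_c52)) = (LP (LK LD1_c14 LD2_c3 LD3_c14)) :=
  Lgr Lrot38 (Lpr_dt (K48.f662364 IH) (Lpn (LP (LK LD1_c14 LD2_c3 LD3_c14))))
theorem f662382 : Led Lsl_bt (LP (LK LD1_c14 LD2_c9 LD3_c52)) = (LP (LK LD1_c23 LD2_c44 LD3_c56)) :=
  Lre_b IH (LK LD1_c14 LD2_c9 LD3_c52) (LK LD1_c23 LD2_c44 LD3_c56) Lrfl Lrfl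
theorem f532449 : Led Lsl_bt (LP (LK LD1_c23 LD2_c36 LD3_c16)) = (LP (LK LD1_c14 LD2_c3 LD3_c14)) :=
  Lre_b IH (LK LD1_c23 LD2_c36 LD3_c16) (LK LD1_c14 LD2_c3 LD3_c14) Lrfl Lrfl
theorem f662383 : Led Lsl_dt (LP (LK LD1_c23 LD2_c44 LD3_c56)) = (LP (LK LD1_c23 LD2_c36 LD3_c16)) :=
  Lgr Lrot79 (Lpe (f662382 IH) (Lpr_df (f662369 IH) (Lpe (f532449 IH) (Lpn (LP (LK LD1_c23 LD2_c36 LD3_c16))))))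
theorem f662386 : Led Lsl_et (LP (LK LD1_c14 LD2_c9 LD3_c51)) = (LP (LK LD1_c23 LD2_c44 LD3_c56)) :=
  Lre_e IH (LK LD1_c14 LD2_c9 LD3_c51) (LK LD1_c23 LD2_c44 LD3_c56) Lrfl Lrfl
theorem f799034 : Led Lsl_df (LP (LK LD1_c14 LD2_c9 LD3_c51)) = v21748 :=
  Lgr Lrot70 (Lpr_et (f662386 IH) (Lpr_dt (f662383 IH) (Lpr_et (f532454 IH) (Lpr_dt (f471210 IH) (Lpr_et (f799031 IH) (Lpn v21748))))))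
theorem f799039 : Led Lsl_gt (LP (LK LD1_c23 LD2_c44 LD3_c42)) = (LP (LK LD1_c14 LD2_c9 LD3_c51)) :=
  Lgr Lrot139 (Lpe (f511600 IH) (Lpe (f511598 IH) (Lpe (K6.f102884 IH) (Lpr_dt (K7.f102883 IH) (Lpe (K6.f130274 IH) (Lpe (K6.f120976 IH) (Lpr_et (K34.f123484 IH) (Lpr_gf (f532929 IH) (Lpr_ef (f799035 IH) (Lpe (f799034 IH) (Lpn (LP (LK LD1_c14 LD2_c9 LD3_c51)))))))))))))
theorem f799040 : Led Lsl_gt (LP (LK LD1_c23 LD2_c44 LD3_c42)) = (LP (LK LD1_c14 LD2_c9 LD3_c51)) :=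
  Leop (Lpe (f799039 IH) (Lpn (LP (LK LD1_c23 LD2_c44 LD3_c42))))
theorem seed_1641 : LEOK LG_g (LK LD1_c23 LD2_c44 LD3_c42) :=
  Leoe_g (LK LD1_c23 LD2_c44 LD3_c42) (f799040 IH)
def v21788 : LQ := Led Lsl_ft (LP (LK LD1_c7 LD2_c26 LD3_c37))
theorem f799270 : Led Lsl_ft (LP (LK LD1_c7 LD2_c26 LD3_c37)) = v21788 :=
  Lrfl
theorem f436874 : Led Lsl_gt (LP (LK LD1_c7 LD2_c26 LD3_c37)) = (LP (LK LD1_c14 LD2_c4 LD3_c7)) :=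
  Lre_g IH (LK LD1_c7 LD2_c26 LD3_c37) (LK LD1_c14 LD2_c4 LD3_c7) Lrfl Lrfl
theorem f13125 : Led Lsl_af (LP (LK LD1_c7 LD2_c26 LD3_c37)) = (LP (LK LD1_c7 LD2_c21 LD3_c30)) :=
  Lgr Lrot0 (Lpr_at (K7.f13069 IH) (Lpn (LP (LK LD1_c7 LD2_c21 LD3_c30))))
theorem f13262 : Led Lsl_ft (LP (LK LD1_c13 LD2_c54 LD3_c44)) = (LP (LK LD1_c7 LD2_c21 LD3_c30)) :=
  Lre_f IH (LK LD1_c13 LD2_c54 LD3_c44) (LK LD1_c7 LD2_c21 LD3_c30) Lrfl Lrfl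
theorem f799271 : Led Lsl_af (LP (LK LD1_c13 LD2_c54 LD3_c44)) = v21788 :=
  Lgr Lrot45 (Lpr_ft (f13262 IH) (Lpe (f13125 IH) (Lpr_ft (f799270 IH) (Lpn v21788))))
theorem f799275 : Led Lsl_gt (LP (LK LD1_c14 LD2_c4 LD3_c7)) = (LP (LK LD1_c13 LD2_c54 LD3_c44)) :=
  Lgr Lrot46 (Lpe (f436874 IH) (Lpr_ft (f799270 IH) (Lpe (f799271 IH) (Lpn (LP (LK LD1_c13 LD2_c54 LD3_c44))))))
theorem f799276 : Led Lsl_gt (LP (LK LD1_c14 LD2_c4 LD3_c7)) = (LP (LK LD1_c13 LD2_c54 LD3_c44)) :=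
  Leop (Lpe (f799275 IH) (Lpn (LP (LK LD1_c14 LD2_c4 LD3_c7))))
theorem seed_1642 : LEOK LG_g (LK LD1_c14 LD2_c4 LD3_c7) :=
  Leoe_g (LK LD1_c14 LD2_c4 LD3_c7) (f799276 IH)
def v21796 : LQ := Led Lsl_gf (LP (LK LD1_c7 LD2_c26 LD3_c46))
theorem f799331 : Led Lsl_gf (LP (LK LD1_c7 LD2_c26 LD3_c46)) = v21796 :=
  Lrfl
theorem f108895 : Led Lsl_dt (LP (LK LD1_c3 LD2_c43 LD3_c1)) = (LP (LK LD1_c7 LD2_c26 LD3_c46)) :=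
  Lre_d IH (LK LD1_c3 LD2_c43 LD3_c1) (LK LD1_c7 LD2_c26 LD3_c46) Lrfl Lrfl
theorem f108894 : Led Lsl_et (LP (LK LD1_c3 LD2_c43 LD3_c1)) = (LP (LK LD1_c1 LD2_c48 LD3_c34)) :=
  Lre_e IH (LK LD1_c3 LD2_c43 LD3_c1) (LK LD1_c1 LD2_c48 LD3_c34) Lrfl Lrfl
theorem f108886 : Led Lsl_gf (LP (LK LD1_c0 LD2_c51 LD3_c3)) = (LP (LK LD1_c0 LD2_c30 LD3_c59)) :=
  Lgr Lrot181 (Lpr_ct (K7.f26223 IH) (Lpr_gt (K3.f108880 IH) (Lpr_cf (K3.f107299 IH) (Lpr_bt (K5.f95302 IH) (Lpr_gt (K4.f95579 IH) (Lpr_bf (K4.f107472 IH) (Lpr_ct (K4.f107552 IH) (Lpr_gt (K3.f98832 IH) (Lpe (K2.f23592 IH) (Lpr_bt (K3.f23593 IH) (Lpn (LP (LK LD1_c0 LD2_c30 LD3_c59)))))))))))))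
theorem f108888 : Led Lsl_gt (LP (LK LD1_c1 LD2_c48 LD3_c34)) = (LP (LK LD1_c1 LD2_c42 LD3_c31)) :=
  Lgr Lrot49 (Lpe (K5.f97365 IH) (Lpr_gf (f108886 IH) (Lpe (K3.f102350 IH) (Lpe (K4.f104125 IH) (Lpr_dt (K0.f14622 IH) (Lpr_gt (K0.f11840 IH) (Lpe (K2.f64363 IH) (Lpe (K2.f17665 IH) (Lpe (K3.f17661 IH) (Lpn (LP (LK LD1_c1 LD2_c42 LD3_c31))))))))))))
theorem f701392 : Led Lsl_et (LP (LK LD1_c9 LD2_c16 LD3_c56)) = (LP (LK LD1_c4 LD2_c40 LD3_c45)) :=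
  Lre_e IH (LK LD1_c9 LD2_c16 LD3_c56) (LK LD1_c4 LD2_c40 LD3_c45) Lrfl Lrfl
theorem f799332 : Led Lsl_dt (LP (LK LD1_c9 LD2_c16 LD3_c56)) = v21796 :=
  Lgr Lrot136 (Lpr_et (f701392 IH) (Lpq (K50.f701401 IH) (Lpe (K50.f657633 IH) (Lpe (K51.f209541 IH) (Lpe (K50.f97707 IH) (Lpe (K11.f124885 IH) (Lpe (K3.f17661 IH) (Lpe (f108888 IH) (Lpe (f108894 IH) (Lpr_dt (f108895 IH) (Lpr_gf (f799331 IH) (Lpn v21796))))))))))))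
theorem f701407 : Led Lsl_bt (LP (LK LD1_c4 LD2_c40 LD3_c48)) = (LP (LK LD1_c9 LD2_c16 LD3_c56)) :=
  Lre_b IH (LK LD1_c4 LD2_c40 LD3_c48) (LK LD1_c9 LD2_c16 LD3_c56) Lrfl Lrfl
theorem f799333 : Led Lsl_bf (LP (LK LD1_c9 LD2_c17 LD3_c0)) = v21796 :=
  Lgr Lrot93 (Lpr_dt (K58.f78027 IH) (Lpr_bt (f701407 IH) (Lpr_dt (f799332 IH) (Lpn v21796))))
theorem f83560 : Led Lsl_ct (LP (LK LD1_c3 LD2_c9 LD3_c16)) = (LP (LK LD1_c6 LD2_c23 LD3_c14)) :=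
  Lre_c IH (LK LD1_c3 LD2_c9 LD3_c16) (LK LD1_c6 LD2_c23 LD3_c14) Lrfl Lrfl
theorem f83571 : Led Lsl_gt (LP (LK LD1_c12 LD2_c19 LD3_c57)) = (LP (LK LD1_c6 LD2_c23 LD3_c14)) :=
  Lre_g IH (LK LD1_c12 LD2_c19 LD3_c57) (LK LD1_c6 LD2_c23 LD3_c14) Lrfl Lrfl
theorem f799340 : Led Lsl_cf (LP (LK LD1_c12 LD2_c19 LD3_c57)) = v21796 :=
  Lgr Lrot160 (Lpr_gt (f83571 IH) (Lpe (f83560 IH) (Lpr_bt (K6.f83550 IH) (Lpr_gt (K24.f83711 IH) (Lpe (K35.f140110 IH) (Lpr_gt (K35.f78047 IH) (Lpe (K51.f58534 IH) (Lpr_bt (K51.f78046 IH) (Lpr_gt (K51.f78017 IH) (Lpr_bf (f799333 IH) (Lpn v21796)))))))))))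
theorem f799341 : Led Lsl_bt (LP (LK LD1_c12 LD2_c19 LD3_c57)) = (LP (LK LD1_c21 LD2_c26 LD3_c12)) :=
  Lre_b IH (LK LD1_c12 LD2_c19 LD3_c57) (LK LD1_c21 LD2_c26 LD3_c12) Lrfl Lrfl
theorem f799334 : Led Lsl_df (LP (LK LD1_c9 LD2_c16 LD3_c56)) = v21796 :=
  Lgr Lrot38 (Lpr_dt (f799332 IH) (Lpn v21796))
theorem f799335 : Led Lsl_bt (LP (LK LD1_c9 LD2_c17 LD3_c0)) = v21796 :=
  Lgr Lrot95 (Lpe (K51.f58343 IH) (Lpe (K59.f701408 IH) (Lpr_df (f799334 IH) (Lpn v21796))))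
theorem f78021 : Led Lsl_ct (LP (LK LD1_c17 LD2_c12 LD3_c6)) = (LP (LK LD1_c9 LD2_c17 LD3_c0)) :=
  Lre_c IH (LK LD1_c17 LD2_c12 LD3_c6) (LK LD1_c9 LD2_c17 LD3_c0) Lrfl Lrfl
theorem f707723 : Led Lsl_bt (LP (LK LD1_c27 LD2_c3 LD3_c14)) = (LP (LK LD1_c17 LD2_c12 LD3_c6)) :=
  Lre_b IH (LK LD1_c27 LD2_c3 LD3_c14) (LK LD1_c17 LD2_c12 LD3_c6) Lrfl Lrfl
theorem f799342 : Led Lsl_ct (LP (LK LD1_c21 LD2_c26 LD3_c12)) = (LP (LK LD1_c27 LD2_c3 LD3_c14)) :=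
  Lgr Lrot83 (Lpe (f799341 IH) (Lpr_cf (f799340 IH) (Lpe (f799335 IH) (Lpe (f78021 IH) (Lpe (f707723 IH) (Lpn (LP (LK LD1_c27 LD2_c3 LD3_c14))))))))
theorem f799343 : Led Lsl_ct (LP (LK LD1_c21 LD2_c26 LD3_c12)) = (LP (LK LD1_c27 LD2_c3 LD3_c14)) :=
  Leop (Lpe (f799342 IH) (Lpn (LP (LK LD1_c21 LD2_c26 LD3_c12))))
theorem seed_1643 : LEOK LG_c (LK LD1_c21 LD2_c26 LD3_c12) :=
  Leoe_c (LK LD1_c21 LD2_c26 LD3_c12) (f799343 IH)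
def v18685 : LQ := Led Lsl_gt (LP (LK LD1_c6 LD2_c32 LD3_c9))
theorem f768050 : Led Lsl_gt (LP (LK LD1_c6 LD2_c32 LD3_c9)) = v18685 :=
  Lrfl
def v21880 : LQ := Led Lsl_ct (LP (LK LD1_c7 LD2_c27 LD3_c34))
theorem f799757 : Led Lsl_ct (LP (LK LD1_c7 LD2_c27 LD3_c34)) = v21880 :=
  Lrfl
theorem f662939 : Led Lsl_ft (LP (LK LD1_c7 LD2_c27 LD3_c34)) = (LP (LK LD1_c4 LD2_c41 LD3_c12)) :=
  Lgr Lrot86 (Lpr_ef (K48.f662932 IH) (Lpe (K48.f416118 IH) (Lpe (K49.f416114 IH) (Lpr_ff (K48.f502941 IH) (Lpqs (K48.f503356 IH) (Lpe (K48.f20154 IH) (Lpn (LP (LK LD1_c4 LD2_c41 LD3_c12)))))))))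
theorem f662943 : Led Lsl_df (LP (LK LD1_c7 LD2_c27 LD3_c34)) = K48.v6252 :=
  Lgr Lrot78 (Lpr_ft (f662939 IH) (Lpr_dt (K48.f20163 IH) (Lpr_ft (K61.f652305 IH) (Lpn K48.v6252))))
theorem f614855 : Led Lsl_ct (LP (LK LD1_c6 LD2_c41 LD3_c57)) = (LP (LK LD1_c3 LD2_c19 LD3_c0)) :=
  Lre_c IH (LK LD1_c6 LD2_c41 LD3_c57) (LK LD1_c3 LD2_c19 LD3_c0) Lrfl Lrfl
theorem f500062 : Led Lsl_gt (LP (LK LD1_c6 LD2_c41 LD3_c57)) = (LP (LK LD1_c3 LD2_c19 LD3_c9)) :=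
  Lre_g IH (LK LD1_c6 LD2_c41 LD3_c57) (LK LD1_c3 LD2_c19 LD3_c9) Lrfl Lrfl
theorem f652087 : Led Lsl_dt (LP (LK LD1_c3 LD2_c19 LD3_c9)) = (LP (LK LD1_c6 LD2_c42 LD3_c23)) :=
  Lre_d IH (LK LD1_c3 LD2_c19 LD3_c9) (LK LD1_c6 LD2_c42 LD3_c23) Lrfl Lrfl
theorem f799763 : Led Lsl_dt (LP (LK LD1_c12 LD2_c49 LD3_c48)) = v21880 :=
  Lgr Lrot113 (Lpe (K60.f779531 IH) (Lpe (f652087 IH) (Lpe (f500062 IH) (Lpr_ct (f614855 IH) (Lpr_gt (K58.f509129 IH) (Lpr_dt (K46.f509120 IH) (Lpr_gt (K46.f652168 IH) (Lpq (K48.f662946 IH) (Lpe (f662943 IH) (Lpr_ct (f799757 IH) (Lpn v21880)))))))))))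
theorem f799764 : Led Lsl_df (LP (LK LD1_c12 LD2_c49 LD3_c48)) = v21880 :=
  Lgr Lrot38 (Lpr_dt (f799763 IH) (Lpn v21880))
theorem f141156 : Led Lsl_dt (LP (LK LD1_c3 LD2_c19 LD3_c8)) = (LP (LK LD1_c6 LD2_c42 LD3_c20)) :=
  Lre_d IH (LK LD1_c3 LD2_c19 LD3_c8) (LK LD1_c6 LD2_c42 LD3_c20) Lrfl Lrfl
theorem f454738 : Led Lsl_at (LP (LK LD1_c4 LD2_c49 LD3_c60)) = (LP (LK LD1_c9 LD2_c32 LD3_c31)) :=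
  Lre_a IH (LK LD1_c4 LD2_c49 LD3_c60) (LK LD1_c9 LD2_c32 LD3_c31) Lrfl Lrfl
theorem f662723 : Led Lsl_gf (LP (LK LD1_c9 LD2_c32 LD3_c31)) = (LP (LK LD1_c6 LD2_c42 LD3_c21)) :=
  Lgr Lrot76 (Lpe (f454738 IH) (Lpe (K46.f454736 IH) (Lpr_gt (K48.f662721 IH) (Lpn (LP (LK LD1_c6 LD2_c42 LD3_c21))))))
def v18677 : LQ := Led Lsl_gt (LP (LK LD1_c6 LD2_c32 LD3_c6))
theorem f768007 : Led Lsl_gt (LP (LK LD1_c6 LD2_c32 LD3_c6)) = v18677 :=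
  Lrfl
theorem f454756 : Led Lsl_et (LP (LK LD1_c9 LD2_c32 LD3_c31)) = (LP (LK LD1_c4 LD2_c49 LD3_c58)) :=
  Lre_e IH (LK LD1_c9 LD2_c32 LD3_c31) (LK LD1_c4 LD2_c49 LD3_c58) Lrfl Lrfl
theorem f768012 : Led Lsl_dt (LP (LK LD1_c9 LD2_c32 LD3_c31)) = v18677 :=
  Lgr Lrot56 (Lpr_et (f454756 IH) (Lpr_gt (K46.f509490 IH) (Lpqs (K46.f527842 IH) (Lpe (K35.f129243 IH) (Lpe (K6.f144139 IH) (Lpr_gt (K6.f22640 IH) (Lpe (K5.f22664 IH) (Lpr_et (K57.f22738 IH) (Lpr_gt (K50.f22595 IH) (Lpr_dt (K50.f22596 IH) (Lpr_gt (f768007 IH) (Lpn v18677))))))))))))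
theorem f768031 : Led Lsl_gt v18677 = (LP (LK LD1_c6 LD2_c32 LD3_c8)) :=
  Lgr Lrot46 (Lpe (f768007 IH) (Lpr_ft (K59.f768027 IH) (Lpe (K59.f768028 IH) (Lpn (LP (LK LD1_c6 LD2_c32 LD3_c8))))))
theorem f649821 : Led Lsl_et (LP (LK LD1_c3 LD2_c14 LD3_c14)) = (LP (LK LD1_c6 LD2_c32 LD3_c9)) :=
  Lre_e IH (LK LD1_c3 LD2_c14 LD3_c14) (LK LD1_c6 LD2_c32 LD3_c9) Lrfl Lrfl
theorem f503677 : Led Lsl_ct (LP (LK LD1_c12 LD2_c4 LD3_c19)) = (LP (LK LD1_c6 LD2_c12 LD3_c27)) :=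
  Lre_c IH (LK LD1_c12 LD2_c4 LD3_c19) (LK LD1_c6 LD2_c12 LD3_c27) Lrfl Lrfl
theorem f799760 : Led Lsl_ef (LP (LK LD1_c12 LD2_c4 LD3_c19)) = v21880 :=
  Lgr Lrot28 (Lpr_ct (f503677 IH) (Lpe (K48.f662932 IH) (Lpr_ct (f799757 IH) (Lpn v21880))))
theorem f799765 : v18685 = (LP (LK LD1_c12 LD2_c4 LD3_c19)) :=
  (Llr Lrot131 (Lpe (f768050 IH) (Lpe (f649821 IH) (Lpr_dt (K58.f649584 IH) (Lpe (f768031 IH) (Lpe (f768012 IH) (Lpr_gf (f662723 IH) (Lpe (K59.f148657 IH) (Lpr_dt (f141156 IH) (Lpe (K60.f663994 IH) (Lpr_df (f799764 IH) (Lpe (f799760 IH) (Lpn (LP (LK LD1_c12 LD2_c4 LD3_c19))))))))))))))).symm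
theorem f799766 : Led Lsl_gt (LP (LK LD1_c6 LD2_c32 LD3_c9)) = (LP (LK LD1_c12 LD2_c4 LD3_c19)) :=
  Leop (Lpq (f799765 IH) (Lpe (f768050 IH) (Lpn (LP (LK LD1_c6 LD2_c32 LD3_c9)))))
theorem seed_1644 : LEOK LG_g (LK LD1_c6 LD2_c32 LD3_c9) :=
  Leoe_g (LK LD1_c6 LD2_c32 LD3_c9) (f799766 IH)
def v21914 : LQ := Led Lsl_gf (LP (LK LD1_c7 LD2_c28 LD3_c32))
theorem f799960 : Led Lsl_gf (LP (LK LD1_c7 LD2_c28 LD3_c32)) = v21914 :=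
  Lrfl
theorem f523215 : Led Lsl_gf (LP (LK LD1_c13 LD2_c17 LD3_c57)) = (LP (LK LD1_c7 LD2_c18 LD3_c32)) :=
  Lgr Lrot76 (Lpe (K47.f520777 IH) (Lpe (K47.f520714 IH) (Lpr_gt (K47.f523213 IH) (Lpn (LP (LK LD1_c7 LD2_c18 LD3_c32))))))
theorem f799964 : Led Lsl_ct (LP (LK LD1_c13 LD2_c17 LD3_c57)) = v21914 :=
  Lgr Lrot91 (Lpr_gf (f523215 IH) (Lpe (K46.f467635 IH) (Lpr_ct (K29.f455916 IH) (Lpr_gf (K29.f485764 IH) (Lpe (K35.f481876 IH) (Lpr_bt (K61.f481877 IH) (Lpr_gf (K61.f659932 IH) (Lpe (K32.f123970 IH) (Lpr_ct (K47.f123975 IH) (Lpr_gf (f799960 IH) (Lpn v21914)))))))))))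
theorem f493790 : Led Lsl_bt (LP (LK LD1_c13 LD2_c18 LD3_c1)) = (LP (LK LD1_c7 LD2_c0 LD3_c38)) :=
  Lre_b IH (LK LD1_c13 LD2_c18 LD3_c1) (LK LD1_c7 LD2_c0 LD3_c38) Lrfl Lrfl
theorem f665051 : Led Lsl_ff (LP (LK LD1_c13 LD2_c18 LD3_c1)) = (LP (LK LD1_c7 LD2_c34 LD3_c41)) :=
  Lgr Lrot25 (Lpr_bt (f493790 IH) (Lpr_ft (K48.f665047 IH) (Lpr_bt (K61.f665024 IH) (Lpn (LP (LK LD1_c7 LD2_c34 LD3_c41))))))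
theorem f665252 : Led Lsl_at (LP (LK LD1_c13 LD2_c18 LD3_c1)) = (LP (LK LD1_c22 LD2_c33 LD3_c54)) :=
  Lre_a IH (LK LD1_c13 LD2_c18 LD3_c1) (LK LD1_c22 LD2_c33 LD3_c54) Lrfl Lrfl
theorem f788498 : Led Lsl_gt (LP (LK LD1_c13 LD2_c49 LD3_c47)) = (LP (LK LD1_c22 LD2_c33 LD3_c54)) :=
  Lgr Lrot46 (Lpr_gf (K61.f788494 IH) (Lpe (f665051 IH) (Lpr_at (f665252 IH) (Lpn (LP (LK LD1_c22 LD2_c33 LD3_c54))))))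
theorem f665251 : Led Lsl_ct (LP (LK LD1_c22 LD2_c33 LD3_c54)) = (LP (LK LD1_c30 LD2_c34 LD3_c56)) :=
  Lre_c IH (LK LD1_c22 LD2_c33 LD3_c54) (LK LD1_c30 LD2_c34 LD3_c56) Lrfl Lrfl
theorem f658437 : Led Lsl_bt (LP (LK LD1_c13 LD2_c17 LD3_c61)) = (LP (LK LD1_c7 LD2_c0 LD3_c37)) :=
  Lre_b IH (LK LD1_c13 LD2_c17 LD3_c61) (LK LD1_c7 LD2_c0 LD3_c37) Lrfl Lrfl
theorem f665078 : Led Lsl_at (LP (LK LD1_c22 LD2_c33 LD3_c50)) = (LP (LK LD1_c13 LD2_c17 LD3_c61)) :=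
  Lre_a IH (LK LD1_c22 LD2_c33 LD3_c50) (LK LD1_c13 LD2_c17 LD3_c61) Lrfl Lrfl
theorem f665025 : Led Lsl_at (LP (LK LD1_c7 LD2_c34 LD3_c41)) = (LP (LK LD1_c14 LD2_c17 LD3_c23)) :=
  Lre_a IH (LK LD1_c7 LD2_c34 LD3_c41) (LK LD1_c14 LD2_c17 LD3_c23) Lrfl Lrfl
theorem f665254 : Led Lsl_bf (LP (LK LD1_c22 LD2_c33 LD3_c50)) = (LP (LK LD1_c14 LD2_c17 LD3_c23)) :=
  Lgr Lrot81 (Lpr_at (f665078 IH) (Lpr_bt (f658437 IH) (Lpqs (K48.f665056 IH) (Lpe (K48.f665022 IH) (Lpr_bt (K61.f665024 IH) (Lpr_at (f665025 IH) (Lpn (LP (LK LD1_c14 LD2_c17 LD3_c23)))))))))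
theorem f493761 : Led Lsl_bt (LP (LK LD1_c7 LD2_c34 LD3_c43)) = (LP (LK LD1_c3 LD2_c46 LD3_c56)) :=
  Lre_b IH (LK LD1_c7 LD2_c34 LD3_c43) (LK LD1_c3 LD2_c46 LD3_c56) Lrfl Lrfl
theorem f665061 : Led Lsl_bt (LP (LK LD1_c7 LD2_c0 LD3_c37)) = (LP (LK LD1_c13 LD2_c17 LD3_c61)) :=
  Lre_b IH (LK LD1_c7 LD2_c0 LD3_c37) (LK LD1_c13 LD2_c17 LD3_c61) Lrfl Lrfl
theorem f665065 : Led Lsl_ff (LP (LK LD1_c7 LD2_c34 LD3_c43)) = (LP (LK LD1_c13 LD2_c17 LD3_c61)) :=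
  Lgr Lrot25 (Lpr_bt (f493761 IH) (Lpr_ft (K48.f665027 IH) (Lpq (K48.f665056 IH) (Lpr_bt (f665061 IH) (Lpn (LP (LK LD1_c13 LD2_c17 LD3_c61)))))))
theorem f665086 : Led Lsl_ft (LP (LK LD1_c7 LD2_c34 LD3_c43)) = (LP (LK LD1_c13 LD2_c17 LD3_c61)) :=
  Lgr Lrot48 (Lpr_ff (f665065 IH) (Lpn (LP (LK LD1_c13 LD2_c17 LD3_c61))))
theorem f665089 : Led Lsl_at (LP (LK LD1_c14 LD2_c17 LD3_c28)) = (LP (LK LD1_c7 LD2_c34 LD3_c43)) :=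
  Lre_a IH (LK LD1_c14 LD2_c17 LD3_c28) (LK LD1_c7 LD2_c34 LD3_c43) Lrfl Lrfl
theorem f665090 : Led Lsl_at (LP (LK LD1_c13 LD2_c17 LD3_c61)) = (LP (LK LD1_c22 LD2_c33 LD3_c50)) :=
  Lre_a IH (LK LD1_c13 LD2_c17 LD3_c61) (LK LD1_c22 LD2_c33 LD3_c50) Lrfl Lrfl
theorem f665091 : Led Lsl_ff (LP (LK LD1_c14 LD2_c17 LD3_c28)) = (LP (LK LD1_c22 LD2_c33 LD3_c50)) :=
  Lgr Lrot30 (Lpr_at (f665089 IH) (Lpr_ft (f665086 IH) (Lpr_at (f665090 IH) (Lpn (LP (LK LD1_c22 LD2_c33 LD3_c50))))))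
theorem f665030 : Led Lsl_bt (LP (LK LD1_c3 LD2_c46 LD3_c56)) = (LP (LK LD1_c7 LD2_c34 LD3_c43)) :=
  Lre_b IH (LK LD1_c3 LD2_c46 LD3_c56) (LK LD1_c7 LD2_c34 LD3_c43) Lrfl Lrfl
theorem f665077 : Led Lsl_at (LP (LK LD1_c7 LD2_c34 LD3_c43)) = (LP (LK LD1_c14 LD2_c17 LD3_c28)) :=
  Lre_a IH (LK LD1_c7 LD2_c34 LD3_c43) (LK LD1_c14 LD2_c17 LD3_c28) Lrfl Lrfl
theorem f665127 : Led Lsl_at (LP (LK LD1_c22 LD2_c33 LD3_c54)) = (LP (LK LD1_c13 LD2_c18 LD3_c1)) :=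
  Lre_a IH (LK LD1_c22 LD2_c33 LD3_c54) (LK LD1_c13 LD2_c18 LD3_c1) Lrfl Lrfl
theorem f665128 : Led Lsl_bt (LP (LK LD1_c14 LD2_c17 LD3_c28)) = (LP (LK LD1_c22 LD2_c33 LD3_c54)) :=
  Lgr Lrot62 (Lpe (f665077 IH) (Lpe (f665030 IH) (Lpr_af (K48.f665063 IH) (Lpe (f493790 IH) (Lpe (f665127 IH) (Lpn (LP (LK LD1_c22 LD2_c33 LD3_c54))))))))
theorem f665260 : Led Lsl_ft (LP (LK LD1_c22 LD2_c33 LD3_c54)) = (LP (LK LD1_c14 LD2_c17 LD3_c23)) :=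
  Lgr Lrot75 (Lpe (f665128 IH) (Lpr_ff (f665091 IH) (Lpr_bf (f665254 IH) (Lpn (LP (LK LD1_c14 LD2_c17 LD3_c23))))))
theorem f665266 : Led Lsl_ff (LP (LK LD1_c22 LD2_c33 LD3_c54)) = (LP (LK LD1_c14 LD2_c17 LD3_c23)) :=
  Lgr Lrot3 (Lpr_ft (f665260 IH) (Lpn (LP (LK LD1_c14 LD2_c17 LD3_c23))))
theorem f665258 : Led Lsl_ct (LP (LK LD1_c23 LD2_c54 LD3_c56)) = (LP (LK LD1_c14 LD2_c17 LD3_c23)) :=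
  Lre_c IH (LK LD1_c23 LD2_c54 LD3_c56) (LK LD1_c14 LD2_c17 LD3_c23) Lrfl Lrfl
theorem f665270 : Led Lsl_ft (LP (LK LD1_c30 LD2_c34 LD3_c56)) = (LP (LK LD1_c23 LD2_c54 LD3_c56)) :=
  Lgr Lrot4 (Lpe (f665251 IH) (Lpr_ff (f665266 IH) (Lpe (f665258 IH) (Lpn (LP (LK LD1_c23 LD2_c54 LD3_c56))))))
theorem f665273 : Led Lsl_at (LP (LK LD1_c23 LD2_c54 LD3_c56)) = (LP (LK LD1_c14 LD2_c17 LD3_c24)) :=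
  Lre_a IH (LK LD1_c23 LD2_c54 LD3_c56) (LK LD1_c14 LD2_c17 LD3_c24) Lrfl Lrfl
theorem f658455 : Led Lsl_gt (LP (LK LD1_c23 LD2_c54 LD3_c58)) = (LP (LK LD1_c14 LD2_c17 LD3_c24)) :=
  Lre_g IH (LK LD1_c23 LD2_c54 LD3_c58) (LK LD1_c14 LD2_c17 LD3_c24) Lrfl Lrfl
theorem f665278 : Led Lsl_gt (LP (LK LD1_c30 LD2_c34 LD3_c56)) = (LP (LK LD1_c23 LD2_c54 LD3_c58)) :=
  Lgr Lrot5 (Lpr_ft (f665270 IH) (Lpr_at (f665273 IH) (Lpe (f658455 IH) (Lpn (LP (LK LD1_c23 LD2_c54 LD3_c58))))))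
theorem f123980 : Led Lsl_dt (LP (LK LD1_c22 LD2_c32 LD3_c0)) = (LP (LK LD1_c13 LD2_c16 LD3_c24)) :=
  Lre_d IH (LK LD1_c22 LD2_c32 LD3_c0) (LK LD1_c13 LD2_c16 LD3_c24) Lrfl Lrfl
theorem f799972 : Led Lsl_ct (LP (LK LD1_c23 LD2_c54 LD3_c58)) = (LP (LK LD1_c22 LD2_c32 LD3_c0)) :=
  Lgr Lrot110 (Lpe (f665278 IH) (Lpe (f665251 IH) (Lpe (f788498 IH) (Lpe (K47.f485708 IH) (Lpe (f523215 IH) (Lpr_ct (f799964 IH) (Lpe (f799960 IH) (Lpe (K32.f123962 IH) (Lpe (f123980 IH) (Lpn (LP (LK LD1_c22 LD2_c32 LD3_c0))))))))))))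
theorem f799973 : Led Lsl_ct (LP (LK LD1_c23 LD2_c54 LD3_c58)) = (LP (LK LD1_c22 LD2_c32 LD3_c0)) :=
  Leop (Lpe (f799972 IH) (Lpn (LP (LK LD1_c23 LD2_c54 LD3_c58))))
theorem seed_1645 : LEOK LG_c (LK LD1_c23 LD2_c54 LD3_c58) :=
  Leoe_c (LK LD1_c23 LD2_c54 LD3_c58) (f799973 IH)
def v21917 : LQ := Led Lsl_bt (LP (LK LD1_c7 LD2_c28 LD3_c36))
theorem f799998 : Led Lsl_bt (LP (LK LD1_c7 LD2_c28 LD3_c36)) = v21917 :=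
  Lrfl
theorem f161998 : Led Lsl_ft (LP (LK LD1_c7 LD2_c22 LD3_c49)) = (LP (LK LD1_c7 LD2_c28 LD3_c36)) :=
  Lgr Lrot54 (Lpr_df (K32.f155756 IH) (Lpr_ff (K8.f161992 IH) (Lpr_df (K5.f123928 IH) (Lpn (LP (LK LD1_c7 LD2_c28 LD3_c36))))))
def v21574 : LQ := Led Lsl_bt (LP (LK LD1_c7 LD2_c22 LD3_c49))
theorem f797992 : Led Lsl_bt (LP (LK LD1_c7 LD2_c22 LD3_c49)) = v21574 :=
  Lrfl
theorem f797994 : Led Lsl_bf (LP (LK LD1_c7 LD2_c22 LD3_c49)) = v21574 :=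
  Lgr Lrot24 (Lpr_bt (f797992 IH) (Lpn v21574))
theorem f800002 : Led Lsl_ff v21574 = v21917 :=
  Lgr Lrot25 (Lpe (f797994 IH) (Lpr_ft (f161998 IH) (Lpr_bt (f799998 IH) (Lpn v21917))))
theorem f162004 : Led Lsl_af (LP (LK LD1_c7 LD2_c22 LD3_c49)) = (LP (LK LD1_c7 LD2_c28 LD3_c35)) :=
  Lgr Lrot117 (Lpr_dt (K32.f155570 IH) (Lpr_at (K8.f162000 IH) (Lpr_dt (K8.f129401 IH) (Lpn (LP (LK LD1_c7 LD2_c28 LD3_c35))))))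
theorem f567929 : Led Lsl_cf (LP (LK LD1_c3 LD2_c40 LD3_c49)) = (LP (LK LD1_c4 LD2_c42 LD3_c45)) :=
  Lgr Lrot39 (Lpr_et (K39.f159762 IH) (Lpr_ct (K42.f567924 IH) (Lpr_et (K39.f205314 IH) (Lpn (LP (LK LD1_c4 LD2_c42 LD3_c45))))))
theorem f568105 : Led Lsl_cf (LP (LK LD1_c5 LD2_c49 LD3_c41)) = (LP (LK LD1_c7 LD2_c23 LD3_c6)) :=
  Lgr Lrot169 (Lpr_gt (K37.f241482 IH) (Lpe (f567929 IH) (Lpe (K39.f116222 IH) (Lpe (K28.f439404 IH) (Lpe (K28.f94455 IH) (Lpe (K28.f147207 IH) (Lpr_gf (K24.f147204 IH) (Lpr_df (K36.f540317 IH) (Lpr_gt (K46.f568086 IH) (Lpn (LP (LK LD1_c7 LD2_c23 LD3_c6))))))))))))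
theorem f122473 : Led Lsl_bt (LP (LK LD1_c3 LD2_c40 LD3_c49)) = (LP (LK LD1_c1 LD2_c47 LD3_c23)) :=
  Lre_b IH (LK LD1_c3 LD2_c40 LD3_c49) (LK LD1_c1 LD2_c47 LD3_c23) Lrfl Lrfl
theorem f568226 : Led Lsl_bf (LP (LK LD1_c7 LD2_c28 LD3_c35)) = (LP (LK LD1_c7 LD2_c23 LD3_c6)) :=
  Lgr Lrot34 (Lpe (K8.f123607 IH) (Lpe (K8.f123877 IH) (Lpr_ct (K7.f148092 IH) (Lpe (K7.f148131 IH) (Lpr_cf (K7.f124629 IH) (Lpe (K5.f12589 IH) (Lpe (f122473 IH) (Lpe (K39.f552158 IH) (Lpe (K37.f241482 IH) (Lpr_cf (f568105 IH) (Lpn (LP (LK LD1_c7 LD2_c23 LD3_c6)))))))))))))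
theorem f536363 : Led Lsl_ct (LP (LK LD1_c2 LD2_c53 LD3_c27)) = K39.v2972 :=
  Lgr Lrot59 (Lpr_cf (K39.f536362 IH) (Lpn K39.v2972))
theorem f96934 : Led Lsl_bf (LP (LK LD1_c3 LD2_c27 LD3_c2)) = (LP (LK LD1_c1 LD2_c43 LD3_c16)) :=
  Lgr Lrot24 (Lpr_bt (K3.f96932 IH) (Lpn (LP (LK LD1_c1 LD2_c43 LD3_c16))))
theorem f519700 : Led Lsl_cf (LP (LK LD1_c3 LD2_c54 LD3_c8)) = K36.v2431 :=
  Lgr Lrot125 (Lpr_gt (K8.f159799 IH) (Lpr_cf (K29.f11772 IH) (Lpe (K8.f160461 IH) (Lpe (K5.f127902 IH) (Lpr_bf (f96934 IH) (Lpe (K3.f96936 IH) (Lpr_gt (K2.f17469 IH) (Lpe (K3.f90069 IH) (Lpr_bt (K36.f90066 IH) (Lpr_gt (K36.f519698 IH) (Lpn K36.v2431)))))))))))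
theorem f568014 : Led Lsl_df (LP (LK LD1_c6 LD2_c24 LD3_c60)) = (LP (LK LD1_c3 LD2_c54 LD3_c8)) :=
  Lgr Lrot43 (Lpr_ct (K42.f568003 IH) (Lpr_dt (K32.f503176 IH) (Lpq (K39.f537824 IH) (Lpr_ct (f536363 IH) (Lpqs (K39.f537545 IH) (Lpr_dt (K12.f210312 IH) (Lpe (K12.f210305 IH) (Lpr_dt (K61.f38046 IH) (Lpq (K37.f543004 IH) (Lpe (K36.f519712 IH) (Lpr_dt (f541156 IH) (Lpr_ct (f413404 IH) (Lpe (K36.f227404 IH) (Lpr_ct (K36.f36447 IH) (Lpr_dt (K10.f36444 IH) (Lpe (K12.f227743 IH) (Lpr_dt (K39.f227750 IH) (Lpq (K37.f542992 IH) (Lpe (f519700 IH) (Lpn (LP (LK LD1_c3 LD2_c54 LD3_c8))))))))))))))))))))))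
theorem f568073 : Led Lsl_at (LP (LK LD1_c6 LD2_c24 LD3_c60)) = (LP (LK LD1_c7 LD2_c23 LD3_c6)) :=
  Lgr Lrot51 (Lpr_df (f568014 IH) (Lpe (K8.f162038 IH) (Lpr_df (K42.f568071 IH) (Lpn (LP (LK LD1_c7 LD2_c23 LD3_c6))))))
theorem f797993 : Led Lsl_af (LP (LK LD1_c12 LD2_c23 LD3_c0)) = v21574 :=
  Lgr Lrot36 (Lpr_bt (K42.f568011 IH) (Lpr_at (f568073 IH) (Lpe (f568226 IH) (Lpe (f162004 IH) (Lpr_bt (f797992 IH) (Lpn v21574))))))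
theorem f96453 : Led Lsl_ct (LP (LK LD1_c7 LD2_c41 LD3_c2)) = (LP (LK LD1_c3 LD2_c50 LD3_c2)) :=
  Lre_c IH (LK LD1_c7 LD2_c41 LD3_c2) (LK LD1_c3 LD2_c50 LD3_c2) Lrfl Lrfl
theorem f111119 : Led Lsl_dt (LP (LK LD1_c7 LD2_c1 LD3_c16)) = (LP (LK LD1_c13 LD2_c19 LD3_c5)) :=
  Lre_d IH (LK LD1_c7 LD2_c1 LD3_c16) (LK LD1_c13 LD2_c19 LD3_c5) Lrfl Lrfl
theorem f558850 : Led Lsl_bt (LP (LK LD1_c12 LD2_c10 LD3_c10)) = (LP (LK LD1_c6 LD2_c16 LD3_c34)) :=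
  Lre_b IH (LK LD1_c12 LD2_c10 LD3_c10) (LK LD1_c6 LD2_c16 LD3_c34) Lrfl Lrfl
theorem f558851 : Led Lsl_ct (LP (LK LD1_c13 LD2_c19 LD3_c5)) = (LP (LK LD1_c12 LD2_c10 LD3_c10)) :=
  Lgr Lrot191 (Lpe (f111119 IH) (Lpe (K32.f419793 IH) (Lpe (K32.f419784 IH) (Lpr_cf (K39.f522548 IH) (Lpqs (K39.f540345 IH) (Lpe (K37.f424464 IH) (Lpr_gf (K38.f546913 IH) (Lpe (K38.f98471 IH) (Lpr_cf (K3.f98469 IH) (Lpe (K3.f11539 IH) (Lpe (K3.f10821 IH) (Lpe (K3.f96932 IH) (Lpe (K3.f89687 IH) (Lpe (K8.f96941 IH) (Lpe (K28.f90175 IH) (Lpe (K28.f426496 IH) (Lpe (K36.f81656 IH) (Lpe (K42.f548927 IH) (Lpr_gf (K40.f558844 IH) (Lpe (f558850 IH) (Lpn (LP (LK LD1_c12 LD2_c10 LD3_c10)))))))))))))))))))))))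
theorem f568028 : Led Lsl_gf (LP (LK LD1_c7 LD2_c41 LD3_c2)) = (LP (LK LD1_c12 LD2_c10 LD3_c10)) :=
  Lgr Lrot172 (Lpr_ct (f96453 IH) (Lpr_dt (K7.f96385 IH) (Lpe (K5.f14745 IH) (Lpe (K5.f65963 IH) (Lpe (K7.f96388 IH) (Lpe (K33.f203202 IH) (Lpe (K42.f568026 IH) (Lpr_gt (K42.f568024 IH) (Lpr_ct (f558851 IH) (Lpn (LP (LK LD1_c12 LD2_c10 LD3_c10))))))))))))
theorem f568030 : Led Lsl_df (LP (LK LD1_c7 LD2_c40 LD3_c44)) = (LP (LK LD1_c12 LD2_c23 LD3_c0)) :=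
  Lgr Lrot155 (Lpr_gt (K33.f203202 IH) (Lpr_ct (K7.f96388 IH) (Lpr_gt (K5.f65963 IH) (Lpr_ct (K5.f14745 IH) (Lpr_dt (K8.f96455 IH) (Lpe (f96453 IH) (Lpr_gf (f568028 IH) (Lpe (f558851 IH) (Lpe (K42.f568024 IH) (Lpn (LP (LK LD1_c12 LD2_c23 LD3_c0))))))))))))
theorem f162746 : Led Lsl_df (LP (LK LD1_c6 LD2_c54 LD3_c41)) = (LP (LK LD1_c7 LD2_c31 LD3_c37)) :=
  Lgr Lrot38 (Lpr_dt (K8.f162744 IH) (Lpn (LP (LK LD1_c7 LD2_c31 LD3_c37))))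
theorem f568034 : Led Lsl_gt (LP (LK LD1_c13 LD2_c18 LD3_c61)) = (LP (LK LD1_c12 LD2_c23 LD3_c0)) :=
  Lgr Lrot49 (Lpe (K7.f111162 IH) (Lpe (K7.f137044 IH) (Lpe (K8.f123637 IH) (Lpe (K47.f419433 IH) (Lpr_dt (K33.f419410 IH) (Lpr_gt (K28.f419411 IH) (Lpe (f162746 IH) (Lpr_cf (K8.f162753 IH) (Lpr_df (f568030 IH) (Lpn (LP (LK LD1_c12 LD2_c23 LD3_c0))))))))))))
theorem f800007 : Led Lsl_gf (LP (LK LD1_c13 LD2_c18 LD3_c61)) = v21917 :=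
  Lgr Lrot47 (Lpr_gt (f568034 IH) (Lpr_af (f797993 IH) (Lpr_ff (f800002 IH) (Lpn v21917))))
theorem f561438 : Led Lsl_gt (LP (LK LD1_c11 LD2_c17 LD3_c27)) = (LP (LK LD1_c11 LD2_c25 LD3_c18)) :=
  Lgr Lrot49 (Lpe (K42.f382003 IH) (Lpe (K42.f382002 IH) (Lpe (K42.f381998 IH) (Lpr_gt (K40.f561435 IH) (Lpe (K40.f558868 IH) (Lpe (K40.f558739 IH) (Lpr_dt (K40.f557414 IH) (Lpr_cf (K42.f558732 IH) (Lpe (K40.f136297 IH) (Lpn (LP (LK LD1_c11 LD2_c25 LD3_c18))))))))))))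
theorem f531359 : Led Lsl_df (LP (LK LD1_c1 LD2_c53 LD3_c34)) = K34.v2717 :=
  Lgr Lrot38 (Lpr_dt (K34.f531356 IH) (Lpn K34.v2717))
theorem f571697 : Led Lsl_cf (LP (LK LD1_c11 LD2_c17 LD3_c27)) = (LP (LK LD1_c5 LD2_c48 LD3_c48)) :=
  Lgr Lrot166 (Lpr_gt (f561438 IH) (Lpr_dt (K40.f136297 IH) (Lpe (K42.f558743 IH) (Lpr_dt (K42.f422777 IH) (Lpr_ct (K42.f571680 IH) (Lpe (K28.f151400 IH) (Lpe (K6.f134784 IH) (Lpr_df (f531359 IH) (Lpqs (K37.f544129 IH) (Lpe (f571448 IH) (Lpn (LP (LK LD1_c5 LD2_c48 LD3_c48)))))))))))))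
theorem f554229 : Led Lsl_bt (LP (LK LD1_c7 LD2_c23 LD3_c5)) = (LP (LK LD1_c13 LD2_c57 LD3_c47)) :=
  Lre_b IH (LK LD1_c7 LD2_c23 LD3_c5) (LK LD1_c13 LD2_c57 LD3_c47) Lrfl Lrfl
theorem f613610 : Led Lsl_bt (LP (LK LD1_c5 LD2_c48 LD3_c48)) = (LP (LK LD1_c11 LD2_c27 LD3_c1)) :=
  Lre_b IH (LK LD1_c5 LD2_c48 LD3_c48) (LK LD1_c11 LD2_c27 LD3_c1) Lrfl Lrfl
theorem f613611 : Led Lsl_gt (LP (LK LD1_c13 LD2_c57 LD3_c47)) = (LP (LK LD1_c11 LD2_c27 LD3_c1)) :=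
  Lgr Lrot164 (Lpe (f554229 IH) (Lpr_ct (K39.f542026 IH) (Lpr_gf (K39.f205312 IH) (Lpr_cf (K39.f552158 IH) (Lpr_gf (K39.f554222 IH) (Lpe (K40.f554228 IH) (Lpr_ct (K40.f558542 IH) (Lpe (f561438 IH) (Lpr_cf (f571697 IH) (Lpr_bt (f613610 IH) (Lpn (LP (LK LD1_c11 LD2_c27 LD3_c1)))))))))))))
theorem f147191 : Led Lsl_dt (LP (LK LD1_c7 LD2_c23 LD3_c3)) = (LP (LK LD1_c3 LD2_c41 LD3_c19)) :=
  Lre_d IH (LK LD1_c7 LD2_c23 LD3_c3) (LK LD1_c3 LD2_c41 LD3_c19) Lrfl Lrfl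
theorem f568021 : Led Lsl_gt (LP (LK LD1_c6 LD2_c24 LD3_c60)) = (LP (LK LD1_c7 LD2_c23 LD3_c3)) :=
  Lgr Lrot180 (Lpr_ct (K42.f568003 IH) (Lpe (K39.f255509 IH) (Lpr_dt (K36.f205196 IH) (Lpr_gt (K14.f177132 IH) (Lpr_dt (K36.f177126 IH) (Lpr_ct (K37.f177127 IH) (Lpe (K39.f552179 IH) (Lpe (K24.f147195 IH) (Lpe (f147191 IH) (Lpn (LP (LK LD1_c7 LD2_c23 LD3_c3))))))))))))
theorem f568045 : Led Lsl_ft (LP (LK LD1_c6 LD2_c24 LD3_c60)) = (LP (LK LD1_c7 LD2_c23 LD3_c5)) :=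
  Lgr Lrot2 (Lpr_gt (f568021 IH) (Lpr_gt (K61.f568043 IH) (Lpe (K42.f568041 IH) (Lpn (LP (LK LD1_c7 LD2_c23 LD3_c5))))))
theorem f568050 : Led Lsl_ff (LP (LK LD1_c12 LD2_c23 LD3_c0)) = (LP (LK LD1_c13 LD2_c57 LD3_c47)) :=
  Lgr Lrot25 (Lpr_bt (K42.f568011 IH) (Lpr_ft (f568045 IH) (Lpr_bt (f554229 IH) (Lpn (LP (LK LD1_c13 LD2_c57 LD3_c47))))))
theorem f568053 : Led Lsl_dt (LP (LK LD1_c7 LD2_c51 LD3_c43)) = (LP (LK LD1_c13 LD2_c57 LD3_c47)) :=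
  Lgr Lrot60 (Lpe (K33.f203205 IH) (Lpr_df (f568030 IH) (Lpr_ff (f568050 IH) (Lpn (LP (LK LD1_c13 LD2_c57 LD3_c47))))))
theorem f613613 : Led Lsl_df (LP (LK LD1_c7 LD2_c26 LD3_c30)) = (LP (LK LD1_c11 LD2_c27 LD3_c1)) :=
  Lgr Lrot84 (Lpe (K7.f147793 IH) (Lpe (K4.f111226 IH) (Lpe (K7.f122287 IH) (Lpe (K7.f117134 IH) (Lpe (K6.f137234 IH) (Lpe (K5.f116663 IH) (Lpr_gt (K8.f144879 IH) (Lpr_dt (f568053 IH) (Lpr_gt (f613611 IH) (Lpn (LP (LK LD1_c11 LD2_c27 LD3_c1))))))))))))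
theorem f613624 : Led Lsl_ft (LP (LK LD1_c13 LD2_c19 LD3_c5)) = (LP (LK LD1_c11 LD2_c27 LD3_c1)) :=
  Lgr Lrot54 (Lpe (f111119 IH) (Lpe (K24.f151483 IH) (Lpr_df (f613613 IH) (Lpn (LP (LK LD1_c11 LD2_c27 LD3_c1))))))
theorem f613634 : Led Lsl_af (LP (LK LD1_c13 LD2_c18 LD3_c61)) = (LP (LK LD1_c11 LD2_c27 LD3_c1)) :=
  Lgr Lrot109 (Lpe (K7.f136151 IH) (Lpe (K7.f102981 IH) (Lpr_cf (K6.f136049 IH) (Lpe (K7.f136040 IH) (Lpr_cf (K7.f122269 IH) (Lpe (K7.f122249 IH) (Lpe (K4.f103627 IH) (Lpe (K42.f111116 IH) (Lpr_ft (f613624 IH) (Lpn (LP (LK LD1_c11 LD2_c27 LD3_c1))))))))))))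
theorem f800008 : Led Lsl_gt (LP (LK LD1_c13 LD2_c19 LD3_c5)) = v21917 :=
  Lgr Lrot5 (Lpr_ft (f613624 IH) (Lpe (f613634 IH) (Lpr_gf (f800007 IH) (Lpn v21917))))
theorem f419801 : Led Lsl_dt (LP (LK LD1_c14 LD2_c7 LD3_c19)) = (LP (LK LD1_c23 LD2_c41 LD3_c51)) :=
  Lre_d IH (LK LD1_c14 LD2_c7 LD3_c19) (LK LD1_c23 LD2_c41 LD3_c51) Lrfl Lrfl
theorem f797996 : Led Lsl_df (LP (LK LD1_c7 LD2_c51 LD3_c35)) = v21574 :=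
  Lgr Lrot12 (Lpr_bt (K5.f121019 IH) (Lpe (K32.f155756 IH) (Lpr_bt (f797992 IH) (Lpn v21574))))
theorem f144992 : Led Lsl_bt (LP (LK LD1_c7 LD2_c40 LD3_c45)) = (LP (LK LD1_c3 LD2_c54 LD3_c3)) :=
  Lgr Lrot127 (Lpr_bf (K6.f144964 IH) (Lpn (LP (LK LD1_c3 LD2_c54 LD3_c3))))
theorem f161994 : Led Lsl_ft (LP (LK LD1_c7 LD2_c51 LD3_c35)) = (LP (LK LD1_c7 LD2_c40 LD3_c45)) :=
  Lgr Lrot75 (Lpe (K5.f123449 IH) (Lpr_ff (K8.f161992 IH) (Lpe (f144992 IH) (Lpn (LP (LK LD1_c7 LD2_c40 LD3_c45))))))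
theorem f800005 : Led Lsl_dt (LP (LK LD1_c7 LD2_c40 LD3_c45)) = v21917 :=
  Lgr Lrot60 (Lpe (f161994 IH) (Lpr_df (f797996 IH) (Lpr_ff (f800002 IH) (Lpn v21917))))
theorem f485112 : Led Lsl_et (LP (LK LD1_c14 LD2_c29 LD3_c29)) = (LP (LK LD1_c7 LD2_c41 LD3_c17)) :=
  Lre_e IH (LK LD1_c14 LD2_c29 LD3_c29) (LK LD1_c7 LD2_c41 LD3_c17) Lrfl Lrfl
theorem f485113 : Led Lsl_dt (LP (LK LD1_c14 LD2_c29 LD3_c29)) = (LP (LK LD1_c24 LD2_c10 LD3_c37)) :=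
  Lre_d IH (LK LD1_c14 LD2_c29 LD3_c29) (LK LD1_c24 LD2_c10 LD3_c37) Lrfl Lrfl
theorem f800010 : Led Lsl_gf (LP (LK LD1_c23 LD2_c41 LD3_c51)) = (LP (LK LD1_c24 LD2_c10 LD3_c37)) :=
  Lgr Lrot145 (Lpe (f419801 IH) (Lpr_et (K47.f419787 IH) (Lpr_gt (K32.f419793 IH) (Lpr_dt (f111119 IH) (Lpr_gt (f800008 IH) (Lpe (f800005 IH) (Lpr_et (K8.f144956 IH) (Lpe (K33.f485106 IH) (Lpe (f485112 IH) (Lpr_dt (f485113 IH) (Lpn (LP (LK LD1_c24 LD2_c10 LD3_c37)))))))))))))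
theorem f800011 : Led Lsl_gt (LP (LK LD1_c24 LD2_c10 LD3_c37)) = (LP (LK LD1_c23 LD2_c41 LD3_c51)) :=
  Leop (Lpr_gf (f800010 IH) (Lpn (LP (LK LD1_c24 LD2_c10 LD3_c37))))
theorem seed_1646 : LEOK LG_g (LK LD1_c24 LD2_c10 LD3_c37) :=
  Leoe_g (LK LD1_c24 LD2_c10 LD3_c37) (f800011 IH)
def v21946 : LQ := Led Lsl_dt (LP (LK LD1_c7 LD2_c29 LD3_c6))
theorem f800132 : Led Lsl_dt (LP (LK LD1_c7 LD2_c29 LD3_c6)) = v21946 :=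
  Lrfl
theorem f800133 : Led Lsl_df (LP (LK LD1_c7 LD2_c29 LD3_c6)) = v21946 :=
  Lgr Lrot38 (Lpr_dt (f800132 IH) (Lpn v21946))
theorem f121042 : Led Lsl_gt (LP (LK LD1_c7 LD2_c29 LD3_c6)) = (LP (LK LD1_c3 LD2_c44 LD3_c7)) :=
  Lre_g IH (LK LD1_c7 LD2_c29 LD3_c6) (LK LD1_c3 LD2_c44 LD3_c7) Lrfl Lrfl
theorem f480064 : Led Lsl_gt (LP (LK LD1_c7 LD2_c54 LD3_c19)) = (LP (LK LD1_c14 LD2_c54 LD3_c48)) :=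
  Lre_g IH (LK LD1_c7 LD2_c54 LD3_c19) (LK LD1_c14 LD2_c54 LD3_c48) Lrfl Lrfl
theorem f800134 : Led Lsl_ef (LP (LK LD1_c14 LD2_c54 LD3_c48)) = v21946 :=
  Lgr Lrot17 (Lpe (f480064 IH) (Lpe (K47.f480063 IH) (Lpr_dt (K33.f480056 IH) (Lpr_gf (K28.f459223 IH) (Lpe (K24.f460774 IH) (Lpe (K24.f121082 IH) (Lpe (K5.f121065 IH) (Lpr_dt (K5.f121026 IH) (Lpe (f121042 IH) (Lpr_df (f800133 IH) (Lpn v21946)))))))))))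
theorem f480065 : Led Lsl_dt (LP (LK LD1_c14 LD2_c54 LD3_c48)) = (LP (LK LD1_c24 LD2_c41 LD3_c61)) :=
  Lre_d IH (LK LD1_c14 LD2_c54 LD3_c48) (LK LD1_c24 LD2_c41 LD3_c61) Lrfl Lrfl
theorem f121043 : Led Lsl_et (LP (LK LD1_c14 LD2_c7 LD3_c49)) = (LP (LK LD1_c7 LD2_c29 LD3_c6)) :=
  Lre_e IH (LK LD1_c14 LD2_c7 LD3_c49) (LK LD1_c7 LD2_c29 LD3_c6) Lrfl Lrfl
theorem f142356 : Led Lsl_dt (LP (LK LD1_c23 LD2_c42 LD3_c22)) = (LP (LK LD1_c14 LD2_c7 LD3_c49)) :=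
  Lre_d IH (LK LD1_c23 LD2_c42 LD3_c22) (LK LD1_c14 LD2_c7 LD3_c49) Lrfl Lrfl
theorem f800135 : Led Lsl_et (LP (LK LD1_c24 LD2_c41 LD3_c61)) = (LP (LK LD1_c23 LD2_c42 LD3_c22)) :=
  Lgr Lrot71 (Lpe (f480065 IH) (Lpr_ef (f800134 IH) (Lpe (f800132 IH) (Lpe (f121043 IH) (Lpe (f142356 IH) (Lpn (LP (LK LD1_c23 LD2_c42 LD3_c22))))))))
theorem f800136 : Led Lsl_et (LP (LK LD1_c24 LD2_c41 LD3_c61)) = (LP (LK LD1_c23 LD2_c42 LD3_c22)) :=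
  Leop (Lpe (f800135 IH) (Lpn (LP (LK LD1_c24 LD2_c41 LD3_c61))))
theorem seed_1647 : LEOK LG_e (LK LD1_c24 LD2_c41 LD3_c61) :=
  Leoe_e (LK LD1_c24 LD2_c41 LD3_c61) (f800136 IH)
def v21976 : LQ := Led Lsl_ft (LP (LK LD1_c7 LD2_c29 LD3_c35))
theorem f800315 : Led Lsl_ft (LP (LK LD1_c7 LD2_c29 LD3_c35)) = v21976 :=
  Lrfl
theorem f800319 : Led Lsl_ff (LP (LK LD1_c7 LD2_c29 LD3_c35)) = v21976 :=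
  Lgr Lrot3 (Lpr_ft (f800315 IH) (Lpn v21976))
def v21974 : LQ := Led Lsl_at (LP (LK LD1_c7 LD2_c29 LD3_c35))
theorem f800293 : Led Lsl_at (LP (LK LD1_c7 LD2_c29 LD3_c35)) = v21974 :=
  Lrfl
theorem f12880 : Led Lsl_ct (LP (LK LD1_c3 LD2_c44 LD3_c17)) = (LP (LK LD1_c7 LD2_c29 LD3_c35)) :=
  Lre_c IH (LK LD1_c3 LD2_c44 LD3_c17) (LK LD1_c7 LD2_c29 LD3_c35) Lrfl Lrfl
def v7289 : LQ := Led Lsl_at (LP (LK LD1_c3 LD2_c44 LD3_c17))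
theorem f664141 : Led Lsl_at (LP (LK LD1_c3 LD2_c44 LD3_c17)) = v7289 :=
  Lrfl
theorem f664142 : Led Lsl_af (LP (LK LD1_c3 LD2_c44 LD3_c17)) = v7289 :=
  Lgr Lrot0 (Lpr_at (f664141 IH) (Lpn v7289))
theorem f800296 : Led Lsl_cf v7289 = v21974 :=
  Lgr Lrot1 (Lpe (f664142 IH) (Lpr_ct (f12880 IH) (Lpr_at (f800293 IH) (Lpn v21974))))
theorem f664143 : Led Lsl_df K33.v2492 = v7289 :=
  Lgr Lrot18 (Lpe (K34.f522858 IH) (Lpr_dt (K49.f12879 IH) (Lpr_at (f664141 IH) (Lpn v7289))))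
theorem f131690 : Led Lsl_cf (LP (LK LD1_c3 LD2_c25 LD3_c55)) = (LP (LK LD1_c3 LD2_c43 LD3_c32)) :=
  Lgr Lrot39 (Lpr_et (K34.f98648 IH) (Lpr_ct (K5.f131675 IH) (Lpr_et (K6.f131689 IH) (Lpn (LP (LK LD1_c3 LD2_c43 LD3_c32))))))
theorem f664269 : Led Lsl_ct (LP (LK LD1_c7 LD2_c29 LD3_c60)) = (LP (LK LD1_c14 LD2_c9 LD3_c54)) :=
  Lre_c IH (LK LD1_c7 LD2_c29 LD3_c60) (LK LD1_c14 LD2_c9 LD3_c54) Lrfl Lrfl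
theorem f800299 : Led Lsl_gt (LP (LK LD1_c14 LD2_c9 LD3_c54)) = v21974 :=
  Lgr Lrot150 (Lpe (f664269 IH) (Lpe (K48.f664267 IH) (Lpe (K48.f459445 IH) (Lpr_gt (K33.f483852 IH) (Lpe (f131690 IH) (Lpq (K34.f528015 IH) (Lpe (K34.f522777 IH) (Lpr_ct (K33.f522778 IH) (Lpr_df (f664143 IH) (Lpr_cf (f800296 IH) (Lpn v21974)))))))))))
theorem f800324 : Led Lsl_gf (LP (LK LD1_c14 LD2_c9 LD3_c54)) = v21976 :=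
  Lgr Lrot47 (Lpr_gt (f800299 IH) (Lpe (f800293 IH) (Lpr_ff (f800319 IH) (Lpn v21976))))
theorem f676331 : Led Lsl_bt (LP (LK LD1_c7 LD2_c29 LD3_c60)) = (LP (LK LD1_c14 LD2_c9 LD3_c53)) :=
  Lre_b IH (LK LD1_c7 LD2_c29 LD3_c60) (LK LD1_c14 LD2_c9 LD3_c53) Lrfl Lrfl
theorem f522868 : Led Lsl_ct (LP (LK LD1_c7 LD2_c29 LD3_c35)) = (LP (LK LD1_c3 LD2_c44 LD3_c17)) :=
  Lre_c IH (LK LD1_c7 LD2_c29 LD3_c35) (LK LD1_c3 LD2_c44 LD3_c17) Lrfl Lrfl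
def v7290 : LQ := Led Lsl_ft (LP (LK LD1_c3 LD2_c44 LD3_c17))
theorem f664150 : Led Lsl_ft (LP (LK LD1_c3 LD2_c44 LD3_c17)) = v7290 :=
  Lrfl
theorem f800322 : Led Lsl_ct v7290 = v21976 :=
  Lgr Lrot40 (Lpe (f664150 IH) (Lpe (f522868 IH) (Lpr_ff (f800319 IH) (Lpn v21976))))
def v795 : LQ := Led Lsl_gt (LP (LK LD1_c0 LD2_c51 LD3_c0))
theorem f459425 : Led Lsl_gt (LP (LK LD1_c0 LD2_c51 LD3_c0)) = v795 :=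
  Lrfl
def v3384 : LQ := Led Lsl_dt v795
theorem f625420 : Led Lsl_dt v795 = v3384 :=
  Lrfl
theorem f626197 : Led Lsl_gt v3384 = K61.v3543 :=
  Lgr Lrot139 (Lpe (f625420 IH) (Lpe (f459425 IH) (Lpe (K33.f147765 IH) (Lpr_dt (K7.f147741 IH) (Lpr_gf (K49.f148443 IH) (Lpe (K5.f12405 IH) (Lpr_et (K34.f12394 IH) (Lpr_gf (K29.f457136 IH) (Lpqs (K29.f471297 IH) (Lpr_ef (K61.f490537 IH) (Lpr_dt (K61.f626192 IH) (Lpn K61.v3543))))))))))))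
theorem f664144 : Led Lsl_dt K33.v2492 = v7289 :=
  Lgr Lrot42 (Lpr_df (f664143 IH) (Lpn v7289))
theorem f668259 : Led Lsl_gt v7289 = v7758 :=
  Lgr Lrot49 (Lpe (f664144 IH) (Lpe (K34.f522781 IH) (Lpe (K34.f436814 IH) (Lpr_gt (f459425 IH) (Lpr_dt (f625420 IH) (Lpr_gt (f626197 IH) (Lpe (K61.f626195 IH) (Lpr_cf (K61.f535547 IH) (Lpr_df (f668256 IH) (Lpn v7758))))))))))
theorem f664145 : Led Lsl_ft (LP (LK LD1_c3 LD2_c44 LD3_c20)) = v7289 :=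
  Lgr Lrot54 (Lpe (K49.f489787 IH) (Lpr_ff (K34.f522780 IH) (Lpr_df (f664143 IH) (Lpn v7289))))
theorem f664146 : Led Lsl_ff (LP (LK LD1_c3 LD2_c44 LD3_c20)) = v7289 :=
  Lgr Lrot3 (Lpr_ft (f664145 IH) (Lpn v7289))
theorem f664154 : Led Lsl_ff (LP (LK LD1_c3 LD2_c44 LD3_c17)) = v7290 :=
  Lgr Lrot3 (Lpr_ft (f664150 IH) (Lpn v7290))
theorem f664155 : Led Lsl_at (LP (LK LD1_c3 LD2_c44 LD3_c20)) = v7290 :=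
  Lgr Lrot66 (Lpr_ff (f664146 IH) (Lpe (f664141 IH) (Lpr_ff (f664154 IH) (Lpn v7290))))
theorem f668260 : Led Lsl_gf v7290 = v7758 :=
  Lgr Lrot76 (Lpe (f664155 IH) (Lpr_ff (f664146 IH) (Lpr_gt (f668259 IH) (Lpn v7758))))
theorem f800325 : Led Lsl_gt (LP (LK LD1_c14 LD2_c9 LD3_c53)) = (LP (LK LD1_c13 LD2_c55 LD3_c9)) :=
  Lgr Lrot164 (Lpe (f676331 IH) (Lpr_ct (f664269 IH) (Lpr_gf (f800324 IH) (Lpe (f800322 IH) (Lpr_gf (f668260 IH) (Lpe (f668254 IH) (Lpr_ct (K29.f462996 IH) (Lpe (K34.f511537 IH) (Lpe (K34.f483999 IH) (Lpr_bt (K35.f485181 IH) (Lpn (LP (LK LD1_c13 LD2_c55 LD3_c9)))))))))))))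
theorem f800326 : Led Lsl_gt (LP (LK LD1_c14 LD2_c9 LD3_c53)) = (LP (LK LD1_c13 LD2_c55 LD3_c9)) :=
  Leop (Lpe (f800325 IH) (Lpn (LP (LK LD1_c14 LD2_c9 LD3_c53))))
theorem seed_1648 : LEOK LG_g (LK LD1_c14 LD2_c9 LD3_c53) :=
  Leoe_g (LK LD1_c14 LD2_c9 LD3_c53) (f800326 IH)
def v21977 : LQ := Led Lsl_at (LP (LK LD1_c7 LD2_c29 LD3_c36))
theorem f800329 : Led Lsl_at (LP (LK LD1_c7 LD2_c29 LD3_c36)) = v21977 :=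
  Lrfl
theorem f527462 : Led Lsl_et (LP (LK LD1_c3 LD2_c44 LD3_c17)) = (LP (LK LD1_c7 LD2_c29 LD3_c36)) :=
  Lre_e IH (LK LD1_c3 LD2_c44 LD3_c17) (LK LD1_c7 LD2_c29 LD3_c36) Lrfl Lrfl
theorem f800334 : Led Lsl_ef v7289 = v21977 :=
  Lgr Lrot20 (Lpe (f664142 IH) (Lpr_et (f527462 IH) (Lpr_at (f800329 IH) (Lpn v21977))))
theorem f520359 : Led Lsl_ft (LP (LK LD1_c3 LD2_c56 LD3_c21)) = (LP (LK LD1_c3 LD2_c56 LD3_c25)) :=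
  Lgr Lrot54 (Lpr_df (K33.f480170 IH) (Lpr_ff (K33.f520353 IH) (Lpe (K48.f479854 IH) (Lpn (LP (LK LD1_c3 LD2_c56 LD3_c25))))))
theorem f664168 : Led Lsl_et (LP (LK LD1_c3 LD2_c56 LD3_c25)) = K48.v7291 :=
  Lgr Lrot69 (Lpe (f520359 IH) (Lpr_ef (K33.f480183 IH) (Lpr_ff (K33.f519795 IH) (Lpr_ef (K48.f531645 IH) (Lpr_ff (K48.f664162 IH) (Lpn K48.v7291))))))
theorem f459193 : Led Lsl_et (LP (LK LD1_c3 LD2_c31 LD3_c23)) = (LP (LK LD1_c7 LD2_c4 LD3_c29)) :=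
  Lre_e IH (LK LD1_c3 LD2_c31 LD3_c23) (LK LD1_c7 LD2_c4 LD3_c29) Lrfl Lrfl
theorem f664204 : Led Lsl_gt K61.v2775 = K48.v7291 :=
  Lgr Lrot131 (Lpe (K61.f535545 IH) (Lpr_dt (K28.f451626 IH) (Lpe (K34.f471568 IH) (Lpe (K34.f440363 IH) (Lpe (K34.f527323 IH) (Lpe (f459193 IH) (Lpr_dt (K28.f458915 IH) (Lpe (K33.f458895 IH) (Lpe (K48.f479854 IH) (Lpr_et (f664168 IH) (Lpn K48.v7291)))))))))))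
theorem f662552 : Led Lsl_et (LP (LK LD1_c3 LD2_c44 LD3_c22)) = (LP (LK LD1_c7 LD2_c29 LD3_c46)) :=
  Lre_e IH (LK LD1_c3 LD2_c44 LD3_c22) (LK LD1_c7 LD2_c29 LD3_c46) Lrfl Lrfl
theorem f664163 : Led Lsl_gt (LP (LK LD1_c7 LD2_c29 LD3_c46)) = (LP (LK LD1_c14 LD2_c9 LD3_c21)) :=
  Lre_g IH (LK LD1_c7 LD2_c29 LD3_c46) (LK LD1_c14 LD2_c9 LD3_c21) Lrfl Lrfl
theorem f142312 : Led Lsl_dt (LP (LK LD1_c14 LD2_c9 LD3_c2)) = (LP (LK LD1_c7 LD2_c29 LD3_c36)) :=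
  Lre_d IH (LK LD1_c14 LD2_c9 LD3_c2) (LK LD1_c7 LD2_c29 LD3_c36) Lrfl Lrfl
theorem f142296 : Led Lsl_gt (LP (LK LD1_c3 LD2_c53 LD3_c58)) = (LP (LK LD1_c7 LD2_c49 LD3_c33)) :=
  Lre_g IH (LK LD1_c3 LD2_c53 LD3_c58) (LK LD1_c7 LD2_c49 LD3_c33) Lrfl Lrfl
theorem f522896 : Led Lsl_af (LP (LK LD1_c7 LD2_c49 LD3_c33)) = (LP (LK LD1_c3 LD2_c54 LD3_c25)) :=
  Lgr Lrot31 (Lpe (f142296 IH) (Lpr_gf (K34.f142292 IH) (Lpr_ft (K34.f522887 IH) (Lpn (LP (LK LD1_c3 LD2_c54 LD3_c25))))))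
theorem f522898 : Led Lsl_at (LP (LK LD1_c7 LD2_c49 LD3_c33)) = (LP (LK LD1_c3 LD2_c54 LD3_c25)) :=
  Lgr Lrot100 (Lpr_af (f522896 IH) (Lpn (LP (LK LD1_c3 LD2_c54 LD3_c25))))
theorem f522944 : Led Lsl_ff (LP (LK LD1_c7 LD2_c49 LD3_c33)) = (LP (LK LD1_c3 LD2_c54 LD3_c26)) :=
  Lgr Lrot52 (Lpr_at (f522898 IH) (Lpe (K34.f123125 IH) (Lpe (f123126 IH) (Lpn (LP (LK LD1_c3 LD2_c54 LD3_c26))))))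
theorem f522954 : Led Lsl_ft (LP (LK LD1_c7 LD2_c49 LD3_c33)) = (LP (LK LD1_c3 LD2_c54 LD3_c26)) :=
  Lgr Lrot48 (Lpr_ff (f522944 IH) (Lpn (LP (LK LD1_c3 LD2_c54 LD3_c26))))
theorem f145340 : Led Lsl_et (LP (LK LD1_c14 LD2_c45 LD3_c56)) = (LP (LK LD1_c7 LD2_c49 LD3_c33)) :=
  Lre_e IH (LK LD1_c14 LD2_c45 LD3_c56) (LK LD1_c7 LD2_c49 LD3_c33) Lrfl Lrfl
theorem f522908 : Led Lsl_ft (LP (LK LD1_c24 LD2_c32 LD3_c15)) = (LP (LK LD1_c14 LD2_c45 LD3_c56)) :=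
  Lre_f IH (LK LD1_c24 LD2_c32 LD3_c15) (LK LD1_c14 LD2_c45 LD3_c56) Lrfl Lrfl
theorem f522961 : Led Lsl_et (LP (LK LD1_c3 LD2_c54 LD3_c26)) = (LP (LK LD1_c7 LD2_c50 LD3_c33)) :=
  Lre_e IH (LK LD1_c3 LD2_c54 LD3_c26) (LK LD1_c7 LD2_c50 LD3_c33) Lrfl Lrfl
theorem f522962 : Led Lsl_ft (LP (LK LD1_c7 LD2_c50 LD3_c33)) = (LP (LK LD1_c14 LD2_c47 LD3_c49)) :=
  Lre_f IH (LK LD1_c7 LD2_c50 LD3_c33) (LK LD1_c14 LD2_c47 LD3_c49) Lrfl Lrfl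
theorem f522963 : Led Lsl_ef (LP (LK LD1_c24 LD2_c32 LD3_c15)) = (LP (LK LD1_c14 LD2_c47 LD3_c49)) :=
  Lgr Lrot21 (Lpr_ft (f522908 IH) (Lpr_et (f145340 IH) (Lpr_ft (f522954 IH) (Lpr_et (f522961 IH) (Lpr_ft (f522962 IH) (Lpn (LP (LK LD1_c14 LD2_c47 LD3_c49))))))))
theorem f522901 : Led Lsl_et (LP (LK LD1_c7 LD2_c49 LD3_c33)) = (LP (LK LD1_c14 LD2_c45 LD3_c56)) :=
  Lre_e IH (LK LD1_c7 LD2_c49 LD3_c33) (LK LD1_c14 LD2_c45 LD3_c56) Lrfl Lrfl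
theorem f522902 : Led Lsl_at (LP (LK LD1_c14 LD2_c45 LD3_c56)) = (LP (LK LD1_c7 LD2_c50 LD3_c30)) :=
  Lgr Lrot80 (Lpe (f522901 IH) (Lpr_af (f522896 IH) (Lpe (K47.f206269 IH) (Lpn (LP (LK LD1_c7 LD2_c50 LD3_c30))))))
theorem f472598 : Led Lsl_gt (LP (LK LD1_c14 LD2_c47 LD3_c40)) = (LP (LK LD1_c7 LD2_c50 LD3_c30)) :=
  Lre_g IH (LK LD1_c14 LD2_c47 LD3_c40) (LK LD1_c7 LD2_c50 LD3_c30) Lrfl Lrfl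
theorem f522911 : Led Lsl_gt (LP (LK LD1_c24 LD2_c32 LD3_c15)) = (LP (LK LD1_c14 LD2_c47 LD3_c40)) :=
  Lgr Lrot5 (Lpr_ft (f522908 IH) (Lpr_at (f522902 IH) (Lpe (f472598 IH) (Lpn (LP (LK LD1_c14 LD2_c47 LD3_c40))))))
theorem f480315 : Led Lsl_dt (LP (LK LD1_c24 LD2_c34 LD3_c11)) = (LP (LK LD1_c14 LD2_c47 LD3_c40)) :=
  Lre_d IH (LK LD1_c24 LD2_c34 LD3_c11) (LK LD1_c14 LD2_c47 LD3_c40) Lrfl Lrfl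
theorem f451824 : Led Lsl_et (LP (LK LD1_c7 LD2_c54 LD3_c61)) = (LP (LK LD1_c3 LD2_c56 LD3_c37)) :=
  Lre_e IH (LK LD1_c7 LD2_c54 LD3_c61) (LK LD1_c3 LD2_c56 LD3_c37) Lrfl Lrfl
theorem f451810 : Led Lsl_gt (LP (LK LD1_c3 LD2_c56 LD3_c37)) = (LP (LK LD1_c3 LD2_c56 LD3_c10)) :=
  Lgr Lrot46 (Lpe (K34.f451809 IH) (Lpr_ft (K28.f451649 IH) (Lpr_at (K34.f451804 IH) (Lpn (LP (LK LD1_c3 LD2_c56 LD3_c10))))))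
theorem f451870 : Led Lsl_et (LP (LK LD1_c3 LD2_c56 LD3_c35)) = (LP (LK LD1_c7 LD2_c54 LD3_c55)) :=
  Lre_e IH (LK LD1_c3 LD2_c56 LD3_c35) (LK LD1_c7 LD2_c54 LD3_c55) Lrfl Lrfl
theorem f451871 : Led Lsl_gt (LP (LK LD1_c7 LD2_c54 LD3_c55)) = (LP (LK LD1_c14 LD2_c55 LD3_c49)) :=
  Lre_g IH (LK LD1_c7 LD2_c54 LD3_c55) (LK LD1_c14 LD2_c55 LD3_c49) Lrfl Lrfl
theorem f480316 : Led Lsl_ef (LP (LK LD1_c14 LD2_c55 LD3_c49)) = (LP (LK LD1_c24 LD2_c34 LD3_c11)) :=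
  Lgr Lrot17 (Lpe (f451871 IH) (Lpe (f451870 IH) (Lpr_dt (K28.f451352 IH) (Lpr_gf (K35.f451864 IH) (Lpe (K33.f451271 IH) (Lpe (f451810 IH) (Lpe (f451824 IH) (Lpr_dt (K47.f480290 IH) (Lpe (f472598 IH) (Lpe (f480315 IH) (Lpn (LP (LK LD1_c24 LD2_c34 LD3_c11)))))))))))))
theorem f470031 : Led Lsl_gf (LP (LK LD1_c14 LD2_c54 LD3_c23)) = (LP (LK LD1_c14 LD2_c55 LD3_c49)) :=
  Lgr Lrot76 (Lpr_af (K28.f470014 IH) (Lpe (K28.f470028 IH) (Lpr_gt (f451871 IH) (Lpn (LP (LK LD1_c14 LD2_c55 LD3_c49))))))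
theorem f463049 : Led Lsl_et (LP (LK LD1_c7 LD2_c54 LD3_c9)) = (LP (LK LD1_c3 LD2_c56 LD3_c15)) :=
  Lre_e IH (LK LD1_c7 LD2_c54 LD3_c9) (LK LD1_c3 LD2_c56 LD3_c15) Lrfl Lrfl
theorem f463051 : Led Lsl_ef (LP (LK LD1_c14 LD2_c54 LD3_c23)) = (LP (LK LD1_c14 LD2_c7 LD3_c53)) :=
  Lgr Lrot21 (Lpr_ft (K28.f463050 IH) (Lpr_et (f463049 IH) (Lpr_ft (K28.f463043 IH) (Lpe (K5.f121029 IH) (Lpr_ft (K8.f121067 IH) (Lpn (LP (LK LD1_c14 LD2_c7 LD3_c53))))))))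
theorem f159873 : Led Lsl_at (LP (LK LD1_c14 LD2_c7 LD3_c40)) = (LP (LK LD1_c7 LD2_c29 LD3_c4)) :=
  Lre_a IH (LK LD1_c14 LD2_c7 LD3_c40) (LK LD1_c7 LD2_c29 LD3_c4) Lrfl Lrfl
theorem f159874 : Led Lsl_bt (LP (LK LD1_c7 LD2_c29 LD3_c4)) = (LP (LK LD1_c3 LD2_c44 LD3_c7)) :=
  Lre_b IH (LK LD1_c7 LD2_c29 LD3_c4) (LK LD1_c3 LD2_c44 LD3_c7) Lrfl Lrfl
theorem f159627 : Led Lsl_at (LP (LK LD1_c7 LD2_c23 LD3_c25)) = (LP (LK LD1_c13 LD2_c58 LD3_c21)) :=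
  Lre_a IH (LK LD1_c7 LD2_c23 LD3_c25) (LK LD1_c13 LD2_c58 LD3_c21) Lrfl Lrfl
theorem f159875 : Led Lsl_at (LP (LK LD1_c3 LD2_c44 LD3_c7)) = (LP (LK LD1_c3 LD2_c41 LD3_c28)) :=
  Lgr Lrot67 (Lpe (f159874 IH) (Lpe (f159873 IH) (Lpr_bf (K8.f159871 IH) (Lpe (f159627 IH) (Lpe (K8.f159605 IH) (Lpn (LP (LK LD1_c3 LD2_c41 LD3_c28))))))))
theorem f160544 : Led Lsl_ft (LP (LK LD1_c7 LD2_c29 LD3_c8)) = (LP (LK LD1_c3 LD2_c44 LD3_c7)) :=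
  Lre_f IH (LK LD1_c7 LD2_c29 LD3_c8) (LK LD1_c3 LD2_c44 LD3_c7) Lrfl Lrfl
theorem f159555 : Led Lsl_gt (LP (LK LD1_c7 LD2_c23 LD3_c27)) = (LP (LK LD1_c3 LD2_c41 LD3_c28)) :=
  Lre_g IH (LK LD1_c7 LD2_c23 LD3_c27) (LK LD1_c3 LD2_c41 LD3_c28) Lrfl Lrfl
theorem f160557 : Led Lsl_gt (LP (LK LD1_c7 LD2_c29 LD3_c8)) = (LP (LK LD1_c7 LD2_c23 LD3_c27)) :=
  Lgr Lrot5 (Lpr_ft (f160544 IH) (Lpr_at (f159875 IH) (Lpe (f159555 IH) (Lpn (LP (LK LD1_c7 LD2_c23 LD3_c27))))))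
theorem f159563 : Led Lsl_dt (LP (LK LD1_c13 LD2_c58 LD3_c29)) = (LP (LK LD1_c7 LD2_c23 LD3_c27)) :=
  Lre_d IH (LK LD1_c13 LD2_c58 LD3_c29) (LK LD1_c7 LD2_c23 LD3_c27) Lrfl Lrfl
theorem f480314 : Led Lsl_gt (LP (LK LD1_c7 LD2_c54 LD3_c61)) = (LP (LK LD1_c14 LD2_c56 LD3_c3)) :=
  Lre_g IH (LK LD1_c7 LD2_c54 LD3_c61) (LK LD1_c14 LD2_c56 LD3_c3) Lrfl Lrfl
theorem f121075 : Led Lsl_ct (LP (LK LD1_c14 LD2_c7 LD3_c52)) = (LP (LK LD1_c7 LD2_c29 LD3_c7)) :=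
  Lre_c IH (LK LD1_c14 LD2_c7 LD3_c52) (LK LD1_c7 LD2_c29 LD3_c7) Lrfl Lrfl
theorem f121077 : Led Lsl_ef (LP (LK LD1_c14 LD2_c7 LD3_c52)) = (LP (LK LD1_c7 LD2_c51 LD3_c42)) :=
  Lgr Lrot28 (Lpr_ct (f121075 IH) (Lpr_et (K5.f121065 IH) (Lpr_ct (K28.f121076 IH) (Lpn (LP (LK LD1_c7 LD2_c51 LD3_c42))))))
theorem f121061 : Led Lsl_ct (LP (LK LD1_c7 LD2_c29 LD3_c7)) = (LP (LK LD1_c14 LD2_c7 LD3_c52)) :=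
  Lre_c IH (LK LD1_c7 LD2_c29 LD3_c7) (LK LD1_c14 LD2_c7 LD3_c52) Lrfl Lrfl
theorem f159919 : Led Lsl_ct (LP (LK LD1_c13 LD2_c58 LD3_c33)) = (LP (LK LD1_c7 LD2_c23 LD3_c28)) :=
  Lre_c IH (LK LD1_c13 LD2_c58 LD3_c33) (LK LD1_c7 LD2_c23 LD3_c28) Lrfl Lrfl
theorem f159920 : Led Lsl_at (LP (LK LD1_c14 LD2_c7 LD3_c52)) = (LP (LK LD1_c13 LD2_c58 LD3_c33)) :=
  Lgr Lrot107 (Lpe (f121061 IH) (Lpr_af (K8.f159914 IH) (Lpe (f159919 IH) (Lpn (LP (LK LD1_c13 LD2_c58 LD3_c33))))))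
theorem f159950 : Led Lsl_et (LP (LK LD1_c13 LD2_c58 LD3_c33)) = (LP (LK LD1_c7 LD2_c49 LD3_c59)) :=
  Lgr Lrot123 (Lpe (f159920 IH) (Lpr_ef (f121077 IH) (Lpr_af (K28.f159939 IH) (Lpn (LP (LK LD1_c7 LD2_c49 LD3_c59))))))
theorem f159958 : Led Lsl_ef (LP (LK LD1_c13 LD2_c58 LD3_c33)) = (LP (LK LD1_c7 LD2_c49 LD3_c59)) :=
  Lgr Lrot88 (Lpr_et (f159950 IH) (Lpn (LP (LK LD1_c7 LD2_c49 LD3_c59))))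
theorem f159966 : Led Lsl_et (LP (LK LD1_c7 LD2_c23 LD3_c28)) = (LP (LK LD1_c3 LD2_c54 LD3_c12)) :=
  Lgr Lrot158 (Lpe (f159919 IH) (Lpr_ef (f159958 IH) (Lpe (K28.f159938 IH) (Lpn (LP (LK LD1_c3 LD2_c54 LD3_c12))))))
theorem f480379 : Led Lsl_ef (LP (LK LD1_c14 LD2_c56 LD3_c3)) = (LP (LK LD1_c13 LD2_c58 LD3_c29)) :=
  Lgr Lrot17 (Lpe (f480314 IH) (Lpe (K47.f480289 IH) (Lpr_dt (K34.f480280 IH) (Lpe (K33.f455688 IH) (Lpe (K24.f12142 IH) (Lpr_gf (K28.f470049 IH) (Lpe (f159966 IH) (Lpr_dt (K8.f159538 IH) (Lpe (f159555 IH) (Lpe (f159563 IH) (Lpn (LP (LK LD1_c13 LD2_c58 LD3_c29)))))))))))))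
theorem f521275 : Led Lsl_ft (LP (LK LD1_c22 LD2_c43 LD3_c58)) = (LP (LK LD1_c22 LD2_c45 LD3_c18)) :=
  Lgr Lrot48 (Lpr_ff (K47.f521271 IH) (Lpn (LP (LK LD1_c22 LD2_c45 LD3_c18))))
theorem f521167 : Led Lsl_ft (LP (LK LD1_c14 LD2_c9 LD3_c7)) = (LP (LK LD1_c22 LD2_c45 LD3_c20)) :=
  Lgr Lrot54 (Lpr_df (K47.f489864 IH) (Lpr_ff (K47.f521159 IH) (Lpr_df (K47.f480472 IH) (Lpn (LP (LK LD1_c22 LD2_c45 LD3_c20))))))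
theorem f521277 : Led Lsl_bf (LP (LK LD1_c14 LD2_c9 LD3_c7)) = (LP (LK LD1_c22 LD2_c45 LD3_c18)) :=
  Lgr Lrot61 (Lpr_ft (f521167 IH) (Lpe (K47.f521100 IH) (Lpr_ft (f521275 IH) (Lpn (LP (LK LD1_c22 LD2_c45 LD3_c18))))))
theorem f521281 : Led Lsl_bt (LP (LK LD1_c14 LD2_c56 LD3_c6)) = (LP (LK LD1_c14 LD2_c54 LD3_c36)) :=
  Lgr Lrot95 (Lpe (K47.f489869 IH) (Lpr_bf (f521277 IH) (Lpe (K47.f480567 IH) (Lpn (LP (LK LD1_c14 LD2_c54 LD3_c36))))))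
theorem f480369 : Led Lsl_at (LP (LK LD1_c14 LD2_c55 LD3_c60)) = (LP (LK LD1_c7 LD2_c54 LD3_c59)) :=
  Lre_a IH (LK LD1_c14 LD2_c55 LD3_c60) (LK LD1_c7 LD2_c54 LD3_c59) Lrfl Lrfl
theorem f521263 : Led Lsl_ff (LP (LK LD1_c14 LD2_c55 LD3_c60)) = (LP (LK LD1_c14 LD2_c54 LD3_c36)) :=
  Lgr Lrot30 (Lpr_at (f480369 IH) (Lpr_ft (K47.f521253 IH) (Lpr_at (K47.f480565 IH) (Lpn (LP (LK LD1_c14 LD2_c54 LD3_c36))))))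
theorem f521285 : Led Lsl_bf (LP (LK LD1_c14 LD2_c54 LD3_c44)) = (LP (LK LD1_c14 LD2_c55 LD3_c60)) :=
  Lgr Lrot61 (Lpe (K47.f521159 IH) (Lpr_bt (f521281 IH) (Lpe (f521263 IH) (Lpn (LP (LK LD1_c14 LD2_c55 LD3_c60))))))
theorem f480480 : Led Lsl_et (LP (LK LD1_c14 LD2_c54 LD3_c44)) = (LP (LK LD1_c24 LD2_c41 LD3_c52)) :=
  Lre_e IH (LK LD1_c14 LD2_c54 LD3_c44) (LK LD1_c24 LD2_c41 LD3_c52) Lrfl Lrfl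
theorem f480367 : Led Lsl_et (LP (LK LD1_c24 LD2_c43 LD3_c27)) = (LP (LK LD1_c14 LD2_c55 LD3_c60)) :=
  Lre_e IH (LK LD1_c24 LD2_c43 LD3_c27) (LK LD1_c14 LD2_c55 LD3_c60) Lrfl Lrfl
theorem f521289 : Led Lsl_bt (LP (LK LD1_c24 LD2_c41 LD3_c52)) = (LP (LK LD1_c24 LD2_c43 LD3_c27)) :=
  Lgr Lrot119 (Lpe (f480480 IH) (Lpr_bf (f521285 IH) (Lpe (f480367 IH) (Lpn (LP (LK LD1_c24 LD2_c43 LD3_c27))))))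
theorem f521295 : Led Lsl_bf (LP (LK LD1_c24 LD2_c41 LD3_c52)) = (LP (LK LD1_c24 LD2_c43 LD3_c27)) :=
  Lgr Lrot24 (Lpr_bt (f521289 IH) (Lpn (LP (LK LD1_c24 LD2_c43 LD3_c27))))
theorem f521297 : Led Lsl_at (LP (LK LD1_c24 LD2_c41 LD3_c52)) = (LP (LK LD1_c14 LD2_c54 LD3_c46)) :=
  Lre_a IH (LK LD1_c24 LD2_c41 LD3_c52) (LK LD1_c14 LD2_c54 LD3_c46) Lrfl Lrfl
theorem f521298 : Led Lsl_bt (LP (LK LD1_c14 LD2_c54 LD3_c46)) = (LP (LK LD1_c7 LD2_c54 LD3_c19)) :=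
  Lre_b IH (LK LD1_c14 LD2_c54 LD3_c46) (LK LD1_c7 LD2_c54 LD3_c19) Lrfl Lrfl
theorem f480374 : Led Lsl_at (LP (LK LD1_c14 LD2_c56 LD3_c0)) = (LP (LK LD1_c24 LD2_c43 LD3_c27)) :=
  Lre_a IH (LK LD1_c14 LD2_c56 LD3_c0) (LK LD1_c24 LD2_c43 LD3_c27) Lrfl Lrfl
theorem f521299 : Led Lsl_at (LP (LK LD1_c7 LD2_c54 LD3_c19)) = (LP (LK LD1_c7 LD2_c54 LD3_c61)) :=
  Lgr Lrot67 (Lpe (f521298 IH) (Lpe (f521297 IH) (Lpr_bf (f521295 IH) (Lpe (f480374 IH) (Lpe (K47.f480331 IH) (Lpn (LP (LK LD1_c7 LD2_c54 LD3_c61))))))))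
theorem f521155 : Led Lsl_ft (LP (LK LD1_c14 LD2_c54 LD3_c50)) = (LP (LK LD1_c7 LD2_c54 LD3_c19)) :=
  Lre_f IH (LK LD1_c14 LD2_c54 LD3_c50) (LK LD1_c7 LD2_c54 LD3_c19) Lrfl Lrfl
theorem f480311 : Led Lsl_ft (LP (LK LD1_c7 LD2_c54 LD3_c61)) = (LP (LK LD1_c14 LD2_c56 LD3_c5)) :=
  Lre_f IH (LK LD1_c7 LD2_c54 LD3_c61) (LK LD1_c14 LD2_c56 LD3_c5) Lrfl Lrfl
theorem f521303 : Led Lsl_af (LP (LK LD1_c14 LD2_c54 LD3_c50)) = (LP (LK LD1_c14 LD2_c56 LD3_c5)) :=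
  Lgr Lrot45 (Lpr_ft (f521155 IH) (Lpr_at (f521299 IH) (Lpr_ft (f480311 IH) (Lpn (LP (LK LD1_c14 LD2_c56 LD3_c5))))))
theorem f521311 : Led Lsl_gf (LP (LK LD1_c14 LD2_c54 LD3_c50)) = (LP (LK LD1_c14 LD2_c56 LD3_c3)) :=
  Lgr Lrot76 (Lpr_af (f521303 IH) (Lpe (f480311 IH) (Lpr_gt (f480314 IH) (Lpn (LP (LK LD1_c14 LD2_c56 LD3_c3))))))
theorem f522913 : Led Lsl_df (LP (LK LD1_c24 LD2_c32 LD3_c15)) = (LP (LK LD1_c14 LD2_c54 LD3_c50)) :=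
  Lgr Lrot135 (Lpr_gt (f522911 IH) (Lpe (f480315 IH) (Lpe (f480316 IH) (Lpe (f470031 IH) (Lpr_ef (f463051 IH) (Lpr_dt (K8.f159899 IH) (Lpr_gt (f160557 IH) (Lpe (f159563 IH) (Lpe (f480379 IH) (Lpe (f521311 IH) (Lpn (LP (LK LD1_c14 LD2_c54 LD3_c50)))))))))))))
theorem f480307 : Led Lsl_ft (LP (LK LD1_c14 LD2_c56 LD3_c5)) = (LP (LK LD1_c7 LD2_c54 LD3_c61)) :=
  Lre_f IH (LK LD1_c14 LD2_c56 LD3_c5) (LK LD1_c7 LD2_c54 LD3_c61) Lrfl Lrfl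
theorem f480308 : Led Lsl_ft (LP (LK LD1_c7 LD2_c50 LD3_c30)) = (LP (LK LD1_c14 LD2_c47 LD3_c41)) :=
  Lre_f IH (LK LD1_c7 LD2_c50 LD3_c30) (LK LD1_c14 LD2_c47 LD3_c41) Lrfl Lrfl
theorem f480309 : Led Lsl_df (LP (LK LD1_c14 LD2_c56 LD3_c5)) = (LP (LK LD1_c14 LD2_c47 LD3_c41)) :=
  Lgr Lrot78 (Lpr_ft (f480307 IH) (Lpr_dt (K47.f480290 IH) (Lpr_ft (f480308 IH) (Lpn (LP (LK LD1_c14 LD2_c47 LD3_c41))))))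
theorem f522915 : Led Lsl_at (LP (LK LD1_c24 LD2_c32 LD3_c15)) = (LP (LK LD1_c14 LD2_c47 LD3_c41)) :=
  Lgr Lrot51 (Lpr_df (f522913 IH) (Lpr_af (f521303 IH) (Lpr_df (f480309 IH) (Lpn (LP (LK LD1_c14 LD2_c47 LD3_c41))))))
theorem f142311 : Led Lsl_et (LP (LK LD1_c14 LD2_c9 LD3_c2)) = (LP (LK LD1_c7 LD2_c29 LD3_c37)) :=
  Lre_e IH (LK LD1_c14 LD2_c9 LD3_c2) (LK LD1_c7 LD2_c29 LD3_c37) Lrfl Lrfl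
theorem f522893 : Led Lsl_ft (LP (LK LD1_c23 LD2_c44 LD3_c4)) = (LP (LK LD1_c14 LD2_c9 LD3_c2)) :=
  Lre_f IH (LK LD1_c23 LD2_c44 LD3_c4) (LK LD1_c14 LD2_c9 LD3_c2) Lrfl Lrfl
theorem f472571 : Led Lsl_et (LP (LK LD1_c3 LD2_c54 LD3_c25)) = (LP (LK LD1_c7 LD2_c50 LD3_c30)) :=
  Lre_e IH (LK LD1_c3 LD2_c54 LD3_c25) (LK LD1_c7 LD2_c50 LD3_c30) Lrfl Lrfl
theorem f522894 : Led Lsl_ef (LP (LK LD1_c23 LD2_c44 LD3_c4)) = (LP (LK LD1_c14 LD2_c47 LD3_c41)) :=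
  Lgr Lrot21 (Lpr_ft (f522893 IH) (Lpr_et (f142311 IH) (Lpr_ft (K34.f522887 IH) (Lpr_et (f472571 IH) (Lpr_ft (f480308 IH) (Lpn (LP (LK LD1_c14 LD2_c47 LD3_c41))))))))
theorem f522965 : Led Lsl_at (LP (LK LD1_c23 LD2_c44 LD3_c4)) = (LP (LK LD1_c14 LD2_c47 LD3_c49)) :=
  Lgr Lrot80 (Lpr_ef (f522894 IH) (Lpe (f522915 IH) (Lpr_ef (f522963 IH) (Lpn (LP (LK LD1_c14 LD2_c47 LD3_c49))))))
theorem f522972 : Led Lsl_ft (LP (LK LD1_c14 LD2_c9 LD3_c2)) = (LP (LK LD1_c23 LD2_c44 LD3_c4)) :=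
  Lre_f IH (LK LD1_c14 LD2_c9 LD3_c2) (LK LD1_c23 LD2_c44 LD3_c4) Lrfl Lrfl
theorem f522951 : Led Lsl_ft (LP (LK LD1_c14 LD2_c47 LD3_c49)) = (LP (LK LD1_c7 LD2_c50 LD3_c33)) :=
  Lre_f IH (LK LD1_c14 LD2_c47 LD3_c49) (LK LD1_c7 LD2_c50 LD3_c33) Lrfl Lrfl
theorem f522973 : Led Lsl_af (LP (LK LD1_c14 LD2_c9 LD3_c2)) = (LP (LK LD1_c7 LD2_c50 LD3_c33)) :=
  Lgr Lrot45 (Lpr_ft (f522972 IH) (Lpr_at (f522965 IH) (Lpr_ft (f522951 IH) (Lpn (LP (LK LD1_c7 LD2_c50 LD3_c33))))))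
theorem f800333 : Led Lsl_df (LP (LK LD1_c7 LD2_c50 LD3_c33)) = v21977 :=
  Lgr Lrot18 (Lpe (f522973 IH) (Lpr_dt (f142312 IH) (Lpr_at (f800329 IH) (Lpn v21977))))
theorem f523009 : Led Lsl_gt (LP (LK LD1_c14 LD2_c47 LD3_c48)) = (LP (LK LD1_c7 LD2_c50 LD3_c33)) :=
  Lre_g IH (LK LD1_c14 LD2_c47 LD3_c48) (LK LD1_c7 LD2_c50 LD3_c33) Lrfl Lrfl
theorem f521318 : Led Lsl_dt (LP (LK LD1_c24 LD2_c41 LD3_c61)) = (LP (LK LD1_c14 LD2_c54 LD3_c48)) :=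
  Lre_d IH (LK LD1_c24 LD2_c41 LD3_c61) (LK LD1_c14 LD2_c54 LD3_c48) Lrfl Lrfl
theorem f521307 : Led Lsl_at (LP (LK LD1_c14 LD2_c54 LD3_c50)) = (LP (LK LD1_c14 LD2_c56 LD3_c5)) :=
  Lgr Lrot100 (Lpr_af (f521303 IH) (Lpn (LP (LK LD1_c14 LD2_c56 LD3_c5))))
theorem f521315 : Led Lsl_gt (LP (LK LD1_c14 LD2_c54 LD3_c48)) = (LP (LK LD1_c14 LD2_c56 LD3_c5)) :=
  Lgr Lrot46 (Lpe (f480064 IH) (Lpr_ft (K47.f521144 IH) (Lpr_at (f521307 IH) (Lpn (LP (LK LD1_c14 LD2_c56 LD3_c5))))))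
theorem f522977 : Led Lsl_at (LP (LK LD1_c14 LD2_c9 LD3_c2)) = (LP (LK LD1_c7 LD2_c50 LD3_c33)) :=
  Lgr Lrot100 (Lpr_af (f522973 IH) (Lpn (LP (LK LD1_c7 LD2_c50 LD3_c33))))
theorem f523010 : Led Lsl_gt (LP (LK LD1_c23 LD2_c44 LD3_c4)) = (LP (LK LD1_c14 LD2_c47 LD3_c48)) :=
  Lgr Lrot5 (Lpr_ft (f522893 IH) (Lpr_at (f522977 IH) (Lpe (f523009 IH) (Lpn (LP (LK LD1_c14 LD2_c47 LD3_c48))))))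
theorem f142333 : Led Lsl_dt (LP (LK LD1_c7 LD2_c49 LD3_c27)) = (LP (LK LD1_c14 LD2_c45 LD3_c49)) :=
  Lre_d IH (LK LD1_c7 LD2_c49 LD3_c27) (LK LD1_c14 LD2_c45 LD3_c49) Lrfl Lrfl
theorem f121031 : Led Lsl_et (LP (LK LD1_c1 LD2_c49 LD3_c6)) = (LP (LK LD1_c3 LD2_c44 LD3_c7)) :=
  Lre_e IH (LK LD1_c1 LD2_c49 LD3_c6) (LK LD1_c3 LD2_c44 LD3_c7) Lrfl Lrfl
theorem f121044 : Led Lsl_dt (LP (LK LD1_c14 LD2_c7 LD3_c49)) = (LP (LK LD1_c23 LD2_c42 LD3_c22)) :=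
  Lre_d IH (LK LD1_c14 LD2_c7 LD3_c49) (LK LD1_c23 LD2_c42 LD3_c22) Lrfl Lrfl
theorem f142334 : Led Lsl_gt (LP (LK LD1_c14 LD2_c45 LD3_c49)) = (LP (LK LD1_c23 LD2_c42 LD3_c22)) :=
  Lgr Lrot139 (Lpe (f142333 IH) (Lpe (K7.f142316 IH) (Lpe (K7.f142332 IH) (Lpr_dt (K6.f134753 IH) (Lpr_gf (K6.f142320 IH) (Lpe (K4.f121015 IH) (Lpr_et (f121031 IH) (Lpe (f121042 IH) (Lpe (f121043 IH) (Lpr_dt (f121044 IH) (Lpn (LP (LK LD1_c23 LD2_c42 LD3_c22)))))))))))))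
theorem f142344 : Led Lsl_et (LP (LK LD1_c7 LD2_c49 LD3_c27)) = (LP (LK LD1_c14 LD2_c8 LD3_c42)) :=
  Lgr Lrot87 (Lpr_ef (K7.f142336 IH) (Lpn (LP (LK LD1_c14 LD2_c8 LD3_c42))))
theorem f142317 : Led Lsl_dt (LP (LK LD1_c14 LD2_c45 LD3_c49)) = (LP (LK LD1_c7 LD2_c49 LD3_c27)) :=
  Lre_d IH (LK LD1_c14 LD2_c45 LD3_c49) (LK LD1_c7 LD2_c49 LD3_c27) Lrfl Lrfl
theorem f142352 : Led Lsl_et (LP (LK LD1_c7 LD2_c29 LD3_c28)) = (LP (LK LD1_c14 LD2_c8 LD3_c43)) :=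
  Lre_e IH (LK LD1_c7 LD2_c29 LD3_c28) (LK LD1_c14 LD2_c8 LD3_c43) Lrfl Lrfl
theorem f142353 : Led Lsl_dt (LP (LK LD1_c14 LD2_c8 LD3_c43)) = (LP (LK LD1_c23 LD2_c43 LD3_c20)) :=
  Lre_d IH (LK LD1_c14 LD2_c8 LD3_c43) (LK LD1_c23 LD2_c43 LD3_c20) Lrfl Lrfl
theorem f142354 : Led Lsl_ef (LP (LK LD1_c14 LD2_c45 LD3_c49)) = (LP (LK LD1_c23 LD2_c43 LD3_c20)) :=
  Lgr Lrot73 (Lpr_dt (f142317 IH) (Lpr_et (f142344 IH) (Lpr_dt (K7.f121041 IH) (Lpr_et (f142352 IH) (Lpr_dt (f142353 IH) (Lpn (LP (LK LD1_c23 LD2_c43 LD3_c20))))))))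
theorem f142341 : Led Lsl_dt (LP (LK LD1_c23 LD2_c43 LD3_c20)) = (LP (LK LD1_c14 LD2_c8 LD3_c43)) :=
  Lre_d IH (LK LD1_c23 LD2_c43 LD3_c20) (LK LD1_c14 LD2_c8 LD3_c43) Lrfl Lrfl
theorem f142357 : Led Lsl_gt (LP (LK LD1_c23 LD2_c43 LD3_c19)) = (LP (LK LD1_c14 LD2_c8 LD3_c43)) :=
  Lre_g IH (LK LD1_c23 LD2_c43 LD3_c19) (LK LD1_c14 LD2_c8 LD3_c43) Lrfl Lrfl
theorem f800140 : Led Lsl_dt (LP (LK LD1_c14 LD2_c47 LD3_c48)) = (LP (LK LD1_c23 LD2_c43 LD3_c19)) :=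
  Lgr Lrot171 (Lpe (f523010 IH) (Lpr_ef (f522894 IH) (Lpe (f480309 IH) (Lpe (f521315 IH) (Lpe (f521318 IH) (Lpr_et (f800135 IH) (Lpe (f142334 IH) (Lpr_ef (f142354 IH) (Lpr_dt (f142341 IH) (Lpe (f142357 IH) (Lpn (LP (LK LD1_c23 LD2_c43 LD3_c19)))))))))))))
theorem f800148 : Led Lsl_df (LP (LK LD1_c14 LD2_c47 LD3_c48)) = (LP (LK LD1_c23 LD2_c43 LD3_c19)) :=
  Lgr Lrot38 (Lpr_dt (f800140 IH) (Lpn (LP (LK LD1_c23 LD2_c43 LD3_c19))))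
theorem f800337 : Led Lsl_ef (LP (LK LD1_c14 LD2_c9 LD3_c21)) = (LP (LK LD1_c23 LD2_c43 LD3_c19)) :=
  Lgr Lrot17 (Lpe (f664163 IH) (Lpe (f662552 IH) (Lpr_dt (K48.f664160 IH) (Lpe (f664204 IH) (Lpr_df (f668256 IH) (Lpe (f668259 IH) (Lpr_ef (f800334 IH) (Lpe (f800333 IH) (Lpe (f523009 IH) (Lpr_df (f800148 IH) (Lpn (LP (LK LD1_c23 LD2_c43 LD3_c19)))))))))))))
theorem f800338 : Led Lsl_et (LP (LK LD1_c23 LD2_c43 LD3_c19)) = (LP (LK LD1_c14 LD2_c9 LD3_c21)) :=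
  Leop (Lpr_ef (f800337 IH) (Lpn (LP (LK LD1_c23 LD2_c43 LD3_c19))))
theorem seed_1649 : LEOK LG_e (LK LD1_c23 LD2_c43 LD3_c19) :=
  Leoe_e (LK LD1_c23 LD2_c43 LD3_c19) (f800338 IH)
def v21986 : LQ := Led Lsl_ft (LP (LK LD1_c7 LD2_c29 LD3_c44))
theorem f800391 : Led Lsl_ft (LP (LK LD1_c7 LD2_c29 LD3_c44)) = v21986 :=
  Lrfl
theorem f800394 : Led Lsl_ff (LP (LK LD1_c7 LD2_c29 LD3_c44)) = v21986 :=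
  Lgr Lrot3 (Lpr_ft (f800391 IH) (Lpn v21986))
def v21985 : LQ := Led Lsl_dt (LP (LK LD1_c7 LD2_c29 LD3_c44))
theorem f800382 : Led Lsl_dt (LP (LK LD1_c7 LD2_c29 LD3_c44)) = v21985 :=
  Lrfl
theorem f659991 : Led Lsl_et (LP (LK LD1_c14 LD2_c9 LD3_c19)) = (LP (LK LD1_c7 LD2_c29 LD3_c44)) :=
  Lre_e IH (LK LD1_c14 LD2_c9 LD3_c19) (LK LD1_c7 LD2_c29 LD3_c44) Lrfl Lrfl
theorem f664176 : Led Lsl_df (LP (LK LD1_c13 LD2_c25 LD3_c39)) = (LP (LK LD1_c7 LD2_c29 LD3_c46)) :=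
  Lgr Lrot38 (Lpr_dt (K48.f664171 IH) (Lpn (LP (LK LD1_c7 LD2_c29 LD3_c46))))
theorem f520637 : Led Lsl_bt (LP (LK LD1_c13 LD2_c25 LD3_c39)) = (LP (LK LD1_c22 LD2_c44 LD3_c46)) :=
  Lre_b IH (LK LD1_c13 LD2_c25 LD3_c39) (LK LD1_c22 LD2_c44 LD3_c46) Lrfl Lrfl
theorem f664190 : Led Lsl_bt (LP (LK LD1_c14 LD2_c9 LD3_c19)) = (LP (LK LD1_c7 LD2_c29 LD3_c46)) :=
  Lre_b IH (LK LD1_c14 LD2_c9 LD3_c19) (LK LD1_c7 LD2_c29 LD3_c46) Lrfl Lrfl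
theorem f664191 : Led Lsl_dt (LP (LK LD1_c22 LD2_c44 LD3_c46)) = (LP (LK LD1_c14 LD2_c9 LD3_c19)) :=
  Lgr Lrot79 (Lpe (f520637 IH) (Lpr_df (f664176 IH) (Lpe (f664190 IH) (Lpn (LP (LK LD1_c14 LD2_c9 LD3_c19))))))
theorem f480524 : Led Lsl_et (LP (LK LD1_c13 LD2_c25 LD3_c37)) = (LP (LK LD1_c22 LD2_c44 LD3_c46)) :=
  Lre_e IH (LK LD1_c13 LD2_c25 LD3_c37) (LK LD1_c22 LD2_c44 LD3_c46) Lrfl Lrfl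
theorem f800385 : Led Lsl_ef (LP (LK LD1_c7 LD2_c54 LD3_c32)) = v21985 :=
  Lgr Lrot73 (Lpr_dt (K40.f479988 IH) (Lpr_et (f480524 IH) (Lpr_dt (f664191 IH) (Lpr_et (f659991 IH) (Lpr_dt (f800382 IH) (Lpn v21985))))))
theorem f800388 : Led Lsl_ft K49.v7690 = v21985 :=
  Lgr Lrot86 (Lpe (K49.f667768 IH) (Lpe (K37.f519797 IH) (Lpe (K33.f480185 IH) (Lpr_ff (K40.f520590 IH) (Lpr_ef (f800385 IH) (Lpn v21985))))))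
theorem f800389 : Led Lsl_ff K49.v7690 = v21985 :=
  Lgr Lrot3 (Lpr_ft (f800388 IH) (Lpn v21985))
theorem f800396 : Led Lsl_dt K49.v7690 = v21986 :=
  Lgr Lrot60 (Lpr_ff (f800389 IH) (Lpe (f800382 IH) (Lpr_ff (f800394 IH) (Lpn v21986))))
theorem f667771 : Led Lsl_ef (LP (LK LD1_c3 LD2_c55 LD3_c13)) = K49.v7690 :=
  Lgr Lrot88 (Lpr_et (K49.f667768 IH) (Lpn K49.v7690))
theorem f489144 : Led Lsl_at (LP (LK LD1_c14 LD2_c49 LD3_c15)) = (LP (LK LD1_c7 LD2_c52 LD3_c13)) :=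
  Lgr Lrot100 (Lpr_af (K34.f489142 IH) (Lpn (LP (LK LD1_c7 LD2_c52 LD3_c13))))
theorem f489156 : Led Lsl_gf (LP (LK LD1_c3 LD2_c55 LD3_c13)) = (LP (LK LD1_c7 LD2_c51 LD3_c36)) :=
  Lgr Lrot47 (Lpr_gt (K33.f477022 IH) (Lpe (f489144 IH) (Lpr_ff (K34.f489152 IH) (Lpn (LP (LK LD1_c7 LD2_c51 LD3_c36))))))
theorem f800398 : Led Lsl_gf (LP (LK LD1_c13 LD2_c57 LD3_c3)) = v21986 :=
  Lgr Lrot145 (Lpe (K32.f123677 IH) (Lpr_et (K32.f123676 IH) (Lpr_gt (K7.f123670 IH) (Lpr_dt (K32.f123672 IH) (Lpe (K32.f123943 IH) (Lpr_df (K32.f155756 IH) (Lpr_et (K33.f129566 IH) (Lpe (f489156 IH) (Lpr_ef (f667771 IH) (Lpr_dt (f800396 IH) (Lpn v21986)))))))))))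
theorem f662551 : Led Lsl_at (LP (LK LD1_c7 LD2_c29 LD3_c44)) = (LP (LK LD1_c14 LD2_c9 LD3_c17)) :=
  Lre_a IH (LK LD1_c7 LD2_c29 LD3_c44) (LK LD1_c14 LD2_c9 LD3_c17) Lrfl Lrfl
theorem f800399 : Led Lsl_gt (LP (LK LD1_c13 LD2_c57 LD3_c3)) = (LP (LK LD1_c14 LD2_c9 LD3_c17)) :=
  Lgr Lrot46 (Lpr_gf (f800398 IH) (Lpe (f800394 IH) (Lpr_at (f662551 IH) (Lpn (LP (LK LD1_c14 LD2_c9 LD3_c17))))))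
theorem f800400 : Led Lsl_gt (LP (LK LD1_c13 LD2_c57 LD3_c3)) = (LP (LK LD1_c14 LD2_c9 LD3_c17)) :=
  Leop (Lpe (f800399 IH) (Lpn (LP (LK LD1_c13 LD2_c57 LD3_c3))))
theorem seed_1650 : LEOK LG_g (LK LD1_c13 LD2_c57 LD3_c3) :=
  Leoe_g (LK LD1_c13 LD2_c57 LD3_c3) (f800400 IH)
def v22008 : LQ := Led Lsl_at (LP (LK LD1_c7 LD2_c29 LD3_c59))
theorem f800538 : Led Lsl_at (LP (LK LD1_c7 LD2_c29 LD3_c59)) = v22008 :=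
  Lrfl
theorem f662351 : Led Lsl_at K49.v7154 = K48.v7214 :=
  Lgr Lrot80 (Lpe (K49.f661584 IH) (Lpr_af (K34.f531863 IH) (Lpr_ef (K48.f662350 IH) (Lpn K48.v7214))))
theorem f800540 : Led Lsl_df K49.v7154 = v22008 :=
  Lgr Lrot18 (Lpr_at (f662351 IH) (Lpe (K48.f662353 IH) (Lpr_at (f800538 IH) (Lpn v22008))))
theorem f657904 : Led Lsl_ct K48.v2730 = K60.v6703 :=
  Lgr Lrot15 (Lpe (K48.f531644 IH) (Lpe (K29.f477012 IH) (Lpr_ef (K60.f657902 IH) (Lpn K60.v6703))))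
theorem f668250 : Led Lsl_gf (LP (LK LD1_c7 LD2_c20 LD3_c46)) = K49.v7757 :=
  Lgr Lrot141 (Lpe (K33.f471321 IH) (Lpr_dt (K34.f471318 IH) (Lpe (K34.f471566 IH) (Lpe (K34.f440363 IH) (Lpr_et (K34.f440362 IH) (Lpr_gt (K24.f4809 IH) (Lpr_dt (K29.f4613 IH) (Lpr_gt (K33.f13398 IH) (Lpr_df (K33.f483755 IH) (Lpr_et (K49.f668246 IH) (Lpn K49.v7757)))))))))))
theorem f471307 : Led Lsl_af (LP (LK LD1_c1 LD2_c54 LD3_c52)) = (LP (LK LD1_c3 LD2_c40 LD3_c16)) :=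
  Lgr Lrot68 (Lpr_ct (K29.f451274 IH) (Lpr_at (K30.f471300 IH) (Lpr_ct (K30.f12381 IH) (Lpn (LP (LK LD1_c3 LD2_c40 LD3_c16))))))
theorem f535447 : Led Lsl_af (LP (LK LD1_c7 LD2_c20 LD3_c46)) = K35.v2770 :=
  Lgr Lrot50 (Lpr_et (K33.f471331 IH) (Lpe (f471307 IH) (Lpr_et (K35.f535446 IH) (Lpn K35.v2770))))
theorem f668251 : Led Lsl_gt K47.v2772 = K49.v7757 :=
  Lgr Lrot5 (Lpe (K49.f535526 IH) (Lpe (f535447 IH) (Lpr_gf (f668250 IH) (Lpn K49.v7757))))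
theorem f147671 : Led Lsl_ff (LP (LK LD1_c0 LD2_c50 LD3_c26)) = (LP (LK LD1_c0 LD2_c50 LD3_c61)) :=
  Lgr Lrot19 (Lpr_dt (K7.f147669 IH) (Lpr_ft (K7.f147658 IH) (Lpr_dt (K7.f147670 IH) (Lpn (LP (LK LD1_c0 LD2_c50 LD3_c61))))))
theorem f527458 : Led Lsl_et (LP (LK LD1_c3 LD2_c40 LD3_c42)) = K48.v2554 :=
  Lgr Lrot69 (Lpe (K29.f4516 IH) (Lpe (K34.f147698 IH) (Lpr_ff (f147671 IH) (Lpe (K48.f147752 IH) (Lpr_ff (K48.f527455 IH) (Lpn K48.v2554))))))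
theorem f664147 : Led Lsl_gt (LP (LK LD1_c3 LD2_c44 LD3_c20)) = v7288 :=
  Lgr Lrot5 (Lpr_ft (f664145 IH) (Lpe (f664142 IH) (Lpr_gf (f664140 IH) (Lpn v7288))))
theorem f676267 : Led Lsl_df v7288 = K49.v9498 :=
  Lgr Lrot132 (Lpe (f664147 IH) (Lpe (K49.f489787 IH) (Lpr_gf (K48.f527459 IH) (Lpe (f527458 IH) (Lpr_dt (K34.f4640 IH) (Lpe (K33.f4617 IH) (Lpr_df (K33.f483755 IH) (Lpr_et (K49.f668246 IH) (Lpe (f668251 IH) (Lpr_ef (K49.f676264 IH) (Lpn K49.v9498)))))))))))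
def v21972 : LQ := Led Lsl_gt (LP (LK LD1_c7 LD2_c29 LD3_c35))
theorem f800289 : Led Lsl_gt (LP (LK LD1_c7 LD2_c29 LD3_c35)) = v21972 :=
  Lrfl
theorem f800543 : Led Lsl_ct v21972 = v22008 :=
  Lgr Lrot110 (Lpe (f800289 IH) (Lpe (f12880 IH) (Lpr_gf (f664140 IH) (Lpr_df (f676267 IH) (Lpe (K49.f676257 IH) (Lpr_ct (f657904 IH) (Lpr_gt (K60.f675904 IH) (Lpr_ct (K49.f661587 IH) (Lpr_df (f800540 IH) (Lpn v22008))))))))))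
theorem f800544 : Led Lsl_cf v21972 = v22008 :=
  Lgr Lrot11 (Lpr_ct (f800543 IH) (Lpn v22008))
theorem f483701 : Led Lsl_bt (LP (LK LD1_c3 LD2_c41 LD3_c57)) = (LP (LK LD1_c7 LD2_c24 LD3_c35)) :=
  Lre_b IH (LK LD1_c3 LD2_c41 LD3_c57) (LK LD1_c7 LD2_c24 LD3_c35) Lrfl Lrfl
def v21673 : LQ := Led Lsl_gf (LP (LK LD1_c7 LD2_c24 LD3_c35))
theorem f798626 : Led Lsl_gf (LP (LK LD1_c7 LD2_c24 LD3_c35)) = v21673 :=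
  Lrfl
theorem f800547 : Led Lsl_bf v21673 = v22008 :=
  Lgr Lrot156 (Lpe (f798626 IH) (Lpe (f483701 IH) (Lpr_ct (f483591 IH) (Lpr_gt (f798444 IH) (Lpe (f798446 IH) (Lpe (f668263 IH) (Lpe (f664140 IH) (Lpr_ct (f12880 IH) (Lpr_gt (f800289 IH) (Lpr_cf (f800544 IH) (Lpn v22008)))))))))))
theorem f800542 : Led Lsl_ft (LP (LK LD1_c7 LD2_c29 LD3_c60)) = v22008 :=
  Lgr Lrot54 (Lpr_df (K49.f676330 IH) (Lpe (K49.f676329 IH) (Lpr_df (f800540 IH) (Lpn v22008))))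
theorem f527604 : Led Lsl_bt (LP (LK LD1_c14 LD2_c9 LD3_c53)) = (LP (LK LD1_c7 LD2_c29 LD3_c60)) :=
  Lre_b IH (LK LD1_c14 LD2_c9 LD3_c53) (LK LD1_c7 LD2_c29 LD3_c60) Lrfl Lrfl
theorem f800550 : Led Lsl_ft v21673 = (LP (LK LD1_c14 LD2_c9 LD3_c53)) :=
  Lgr Lrot75 (Lpr_bf (f800547 IH) (Lpe (f800542 IH) (Lpe (f527604 IH) (Lpn (LP (LK LD1_c14 LD2_c9 LD3_c53))))))
theorem f483702 : Led Lsl_gt (LP (LK LD1_c7 LD2_c24 LD3_c35)) = (LP (LK LD1_c14 LD2_c0 LD3_c61)) :=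
  Lre_g IH (LK LD1_c7 LD2_c24 LD3_c35) (LK LD1_c14 LD2_c0 LD3_c61) Lrfl Lrfl
theorem f800554 : Led Lsl_af (LP (LK LD1_c14 LD2_c0 LD3_c61)) = (LP (LK LD1_c14 LD2_c9 LD3_c53)) :=
  Lgr Lrot31 (Lpe (f483702 IH) (Lpr_gf (f798626 IH) (Lpr_ft (f800550 IH) (Lpn (LP (LK LD1_c14 LD2_c9 LD3_c53))))))
theorem f800555 : Led Lsl_at (LP (LK LD1_c14 LD2_c9 LD3_c53)) = (LP (LK LD1_c14 LD2_c0 LD3_c61)) :=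
  Leop (Lpr_af (f800554 IH) (Lpn (LP (LK LD1_c14 LD2_c9 LD3_c53))))
theorem seed_1651 : LEOK LG_a (LK LD1_c14 LD2_c9 LD3_c53) :=
  Leoe_a (LK LD1_c14 LD2_c9 LD3_c53) (f800555 IH)
def v22011 : LQ := Led Lsl_gt (LP (LK LD1_c7 LD2_c29 LD3_c61))
theorem f800590 : Led Lsl_gt (LP (LK LD1_c7 LD2_c29 LD3_c61)) = v22011 :=
  Lrfl
theorem f459519 : Led Lsl_ct (LP (LK LD1_c3 LD2_c44 LD3_c28)) = (LP (LK LD1_c7 LD2_c29 LD3_c61)) :=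
  Lre_c IH (LK LD1_c3 LD2_c44 LD3_c28) (LK LD1_c7 LD2_c29 LD3_c61) Lrfl Lrfl
theorem f676332 : Led Lsl_dt (LP (LK LD1_c7 LD2_c29 LD3_c60)) = K49.v9504 :=
  Lgr Lrot42 (Lpr_df (K49.f676330 IH) (Lpn K49.v9504))
theorem f800591 : Led Lsl_cf K49.v7287 = v22011 :=
  Lgr Lrot99 (Lpe (K49.f664136 IH) (Lpe (f662403 IH) (Lpe (K49.f535544 IH) (Lpr_cf (K60.f531661 IH) (Lpr_gf (K49.f676324 IH) (Lpe (f676332 IH) (Lpr_gt (K48.f459520 IH) (Lpr_ct (f459519 IH) (Lpr_gt (f800590 IH) (Lpn v22011))))))))))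
theorem f800595 : Led Lsl_ct K49.v7287 = v22011 :=
  Lgr Lrot59 (Lpr_cf (f800591 IH) (Lpn v22011))
theorem f523103 : Led Lsl_gt (LP (LK LD1_c23 LD2_c43 LD3_c42)) = (LP (LK LD1_c14 LD2_c8 LD3_c55)) :=
  Lre_g IH (LK LD1_c23 LD2_c43 LD3_c42) (LK LD1_c14 LD2_c8 LD3_c55) Lrfl Lrfl
theorem f522867 : Led Lsl_dt (LP (LK LD1_c3 LD2_c44 LD3_c17)) = (LP (LK LD1_c1 LD2_c49 LD3_c10)) :=
  Lre_d IH (LK LD1_c3 LD2_c44 LD3_c17) (LK LD1_c1 LD2_c49 LD3_c10) Lrfl Lrfl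
def v2553 : LQ := Led Lsl_gf (LP (LK LD1_c1 LD2_c48 LD3_c30))
theorem f527440 : Led Lsl_gf (LP (LK LD1_c1 LD2_c48 LD3_c30)) = v2553 :=
  Lrfl
theorem f148338 : Led Lsl_et (LP (LK LD1_c0 LD2_c50 LD3_c61)) = (LP (LK LD1_c1 LD2_c48 LD3_c30)) :=
  Lre_e IH (LK LD1_c0 LD2_c50 LD3_c61) (LK LD1_c1 LD2_c48 LD3_c30) Lrfl Lrfl
theorem f527443 : Led Lsl_et (LP (LK LD1_c7 LD2_c5 LD3_c7)) = v2553 :=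
  Lgr Lrot185 (Lpe (K32.f479644 IH) (Lpe (K32.f451996 IH) (Lpe (K32.f451259 IH) (Lpr_gf (K28.f462866 IH) (Lpe (K8.f142707 IH) (Lpr_dt (K7.f147574 IH) (Lpr_gf (K8.f159543 IH) (Lpe (K7.f147733 IH) (Lpr_et (f148338 IH) (Lpr_gf (f527440 IH) (Lpn v2553)))))))))))
theorem f521118 : Led Lsl_at (LP (LK LD1_c3 LD2_c44 LD3_c21)) = (LP (LK LD1_c7 LD2_c5 LD3_c7)) :=
  Lgr Lrot100 (Lpr_af (K34.f521116 IH) (Lpn (LP (LK LD1_c7 LD2_c5 LD3_c7))))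
theorem f527445 : Led Lsl_af (LP (LK LD1_c1 LD2_c49 LD3_c11)) = v2553 :=
  Lgr Lrot50 (Lpr_et (K34.f489774 IH) (Lpr_at (f521118 IH) (Lpr_et (f527443 IH) (Lpn v2553))))
theorem f527446 : Led Lsl_ef (LP (LK LD1_c7 LD2_c5 LD3_c7)) = v2553 :=
  Lgr Lrot88 (Lpr_et (f527443 IH) (Lpn v2553))
theorem f527448 : Led Lsl_ft (LP (LK LD1_c1 LD2_c49 LD3_c10)) = v2553 :=
  Lgr Lrot86 (Lpe (K34.f142290 IH) (Lpr_ff (K34.f522883 IH) (Lpr_ef (K34.f472579 IH) (Lpr_ff (K34.f521104 IH) (Lpr_ef (f527446 IH) (Lpn v2553))))))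
theorem f527460 : Led Lsl_gt (LP (LK LD1_c1 LD2_c49 LD3_c10)) = K48.v2554 :=
  Lgr Lrot5 (Lpr_ft (f527448 IH) (Lpe (f527445 IH) (Lpr_gf (K48.f527459 IH) (Lpn K48.v2554))))
theorem f459446 : Led Lsl_ct (LP (LK LD1_c7 LD2_c30 LD3_c7)) = (LP (LK LD1_c3 LD2_c44 LD3_c32)) :=
  Lre_c IH (LK LD1_c7 LD2_c30 LD3_c7) (LK LD1_c3 LD2_c44 LD3_c32) Lrfl Lrfl
theorem f800596 : Led Lsl_gf (LP (LK LD1_c7 LD2_c30 LD3_c7)) = v22011 :=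
  Lgr Lrot104 (Lpr_ct (f459446 IH) (Lpe (K48.f459445 IH) (Lpe (K34.f451028 IH) (Lpr_gf (K33.f459444 IH) (Lpr_cf (K48.f527453 IH) (Lpe (f527460 IH) (Lpe (f522867 IH) (Lpr_gt (K49.f664131 IH) (Lpr_ct (f800595 IH) (Lpn v22011))))))))))
theorem f459528 : Led Lsl_ct (LP (LK LD1_c3 LD2_c44 LD3_c32)) = (LP (LK LD1_c7 LD2_c30 LD3_c7)) :=
  Lre_c IH (LK LD1_c3 LD2_c44 LD3_c32) (LK LD1_c7 LD2_c30 LD3_c7) Lrfl Lrfl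
theorem f664273 : Led Lsl_bt (LP (LK LD1_c3 LD2_c44 LD3_c32)) = (LP (LK LD1_c7 LD2_c30 LD3_c5)) :=
  Lre_b IH (LK LD1_c3 LD2_c44 LD3_c32) (LK LD1_c7 LD2_c30 LD3_c5) Lrfl Lrfl
theorem f517813 : Led Lsl_gt (LP (LK LD1_c7 LD2_c30 LD3_c5)) = (LP (LK LD1_c14 LD2_c10 LD3_c3)) :=
  Lre_g IH (LK LD1_c7 LD2_c30 LD3_c5) (LK LD1_c14 LD2_c10 LD3_c3) Lrfl Lrfl
theorem f798539 : Led Lsl_bt (LP (LK LD1_c23 LD2_c45 LD3_c11)) = (LP (LK LD1_c14 LD2_c10 LD3_c3)) :=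
  Lre_b IH (LK LD1_c23 LD2_c45 LD3_c11) (LK LD1_c14 LD2_c10 LD3_c3) Lrfl Lrfl
theorem f800597 : Led Lsl_cf (LP (LK LD1_c23 LD2_c43 LD3_c42)) = (LP (LK LD1_c23 LD2_c45 LD3_c11)) :=
  Lgr Lrot160 (Lpr_gt (f523103 IH) (Lpe (K47.f523136 IH) (Lpr_bt (f664133 IH) (Lpr_gt (K49.f664131 IH) (Lpr_ct (f800595 IH) (Lpe (f800596 IH) (Lpe (f459528 IH) (Lpr_bt (f664273 IH) (Lpr_gt (f517813 IH) (Lpe (f798539 IH) (Lpn (LP (LK LD1_c23 LD2_c45 LD3_c11)))))))))))))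
theorem f800598 : Led Lsl_ct (LP (LK LD1_c23 LD2_c45 LD3_c11)) = (LP (LK LD1_c23 LD2_c43 LD3_c42)) :=
  Leop (Lpr_cf (f800597 IH) (Lpn (LP (LK LD1_c23 LD2_c45 LD3_c11))))
theorem seed_1652 : LEOK LG_c (LK LD1_c23 LD2_c45 LD3_c11) :=
  Leoe_c (LK LD1_c23 LD2_c45 LD3_c11) (f800598 IH)
def v22012 : LQ := Led Lsl_gf (LP (LK LD1_c7 LD2_c29 LD3_c61))
theorem f800612 : Led Lsl_gf (LP (LK LD1_c7 LD2_c29 LD3_c61)) = v22012 :=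
  Lrfl
theorem f459512 : Led Lsl_ct (LP (LK LD1_c7 LD2_c29 LD3_c61)) = (LP (LK LD1_c3 LD2_c44 LD3_c28)) :=
  Lre_c IH (LK LD1_c7 LD2_c29 LD3_c61) (LK LD1_c3 LD2_c44 LD3_c28) Lrfl Lrfl
theorem f459511 : Led Lsl_dt (LP (LK LD1_c3 LD2_c44 LD3_c28)) = (LP (LK LD1_c1 LD2_c49 LD3_c14)) :=
  Lre_d IH (LK LD1_c3 LD2_c44 LD3_c28) (LK LD1_c1 LD2_c49 LD3_c14) Lrfl Lrfl
theorem f800613 : Led Lsl_ct v7288 = v22012 :=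
  Lgr Lrot152 (Lpe (f664147 IH) (Lpe (K49.f489787 IH) (Lpr_gt (K34.f12885 IH) (Lpr_ct (K4.f12857 IH) (Lpr_gt (K33.f12853 IH) (Lpr_ct (K33.f12861 IH) (Lpe (f459511 IH) (Lpe (f459512 IH) (Lpr_gf (f800612 IH) (Lpn v22012))))))))))
theorem f668264 : Led Lsl_ff v7288 = v7758 :=
  Lgr Lrot3 (Lpr_ft (f668262 IH) (Lpn v7758))
theorem f451862 : Led Lsl_et (LP (LK LD1_c1 LD2_c54 LD3_c60)) = (LP (LK LD1_c3 LD2_c56 LD3_c33)) :=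
  Lre_e IH (LK LD1_c1 LD2_c54 LD3_c60) (LK LD1_c3 LD2_c56 LD3_c33) Lrfl Lrfl
theorem f451879 : Led Lsl_et (LP (LK LD1_c7 LD2_c54 LD3_c49)) = (LP (LK LD1_c3 LD2_c56 LD3_c32)) :=
  Lre_e IH (LK LD1_c7 LD2_c54 LD3_c49) (LK LD1_c3 LD2_c56 LD3_c32) Lrfl Lrfl
theorem f462957 : Led Lsl_et (LP (LK LD1_c7 LD2_c23 LD3_c53)) = (LP (LK LD1_c13 LD2_c59 LD3_c31)) :=
  Lre_e IH (LK LD1_c7 LD2_c23 LD3_c53) (LK LD1_c13 LD2_c59 LD3_c31) Lrfl Lrfl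
theorem f462958 : Led Lsl_df (LP (LK LD1_c7 LD2_c54 LD3_c49)) = (LP (LK LD1_c13 LD2_c59 LD3_c31)) :=
  Lgr Lrot70 (Lpr_et (f451879 IH) (Lpr_dt (K32.f11358 IH) (Lpr_et (f451862 IH) (Lpr_dt (K29.f462945 IH) (Lpr_et (f462957 IH) (Lpn (LP (LK LD1_c13 LD2_c59 LD3_c31))))))))
theorem f462967 : Led Lsl_dt (LP (LK LD1_c7 LD2_c54 LD3_c49)) = (LP (LK LD1_c13 LD2_c59 LD3_c31)) :=
  Lgr Lrot42 (Lpr_df (f462958 IH) (Lpn (LP (LK LD1_c13 LD2_c59 LD3_c31))))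
theorem f462974 : Led Lsl_at (LP (LK LD1_c3 LD2_c56 LD3_c40)) = (LP (LK LD1_c7 LD2_c54 LD3_c49)) :=
  Lre_a IH (LK LD1_c3 LD2_c56 LD3_c40) (LK LD1_c7 LD2_c54 LD3_c49) Lrfl Lrfl
theorem f462975 : Led Lsl_dt (LP (LK LD1_c7 LD2_c55 LD3_c8)) = (LP (LK LD1_c3 LD2_c56 LD3_c40)) :=
  Lre_d IH (LK LD1_c7 LD2_c55 LD3_c8) (LK LD1_c3 LD2_c56 LD3_c40) Lrfl Lrfl
theorem f462976 : Led Lsl_af (LP (LK LD1_c7 LD2_c55 LD3_c8)) = (LP (LK LD1_c13 LD2_c59 LD3_c31)) :=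
  Lgr Lrot117 (Lpr_dt (f462975 IH) (Lpr_at (f462974 IH) (Lpr_dt (f462967 IH) (Lpn (LP (LK LD1_c13 LD2_c59 LD3_c31))))))
theorem f462981 : Led Lsl_et (LP (LK LD1_c7 LD2_c55 LD3_c8)) = (LP (LK LD1_c3 LD2_c56 LD3_c43)) :=
  Lre_e IH (LK LD1_c7 LD2_c55 LD3_c8) (LK LD1_c3 LD2_c56 LD3_c43) Lrfl Lrfl
theorem f462982 : Led Lsl_at (LP (LK LD1_c3 LD2_c56 LD3_c43)) = (LP (LK LD1_c7 LD2_c23 LD3_c53)) :=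
  Lgr Lrot80 (Lpe (f462981 IH) (Lpr_af (f462976 IH) (Lpe (f462957 IH) (Lpn (LP (LK LD1_c7 LD2_c23 LD3_c53))))))
theorem f661819 : Led Lsl_ff (LP (LK LD1_c3 LD2_c56 LD3_c43)) = v7183 :=
  Lgr Lrot52 (Lpr_at (f462982 IH) (Lpe (K29.f437015 IH) (Lpr_gf (f661817 IH) (Lpn v7183))))
theorem f668265 : Led Lsl_bt v7288 = v7183 :=
  Lgr Lrot35 (Lpr_ff (f668264 IH) (Lpe (f668254 IH) (Lpr_ff (f661819 IH) (Lpn v7183))))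
theorem f463008 : Led Lsl_bt (LP (LK LD1_c7 LD2_c23 LD3_c51)) = (LP (LK LD1_c3 LD2_c41 LD3_c36)) :=
  Lre_b IH (LK LD1_c7 LD2_c23 LD3_c51) (LK LD1_c3 LD2_c41 LD3_c36) Lrfl Lrfl
theorem f517835 : Led Lsl_ct (LP (LK LD1_c7 LD2_c23 LD3_c51)) = (LP (LK LD1_c13 LD2_c59 LD3_c26)) :=
  Lre_c IH (LK LD1_c7 LD2_c23 LD3_c51) (LK LD1_c13 LD2_c59 LD3_c26) Lrfl Lrfl
theorem f518597 : Led Lsl_gt (LP (LK LD1_c13 LD2_c59 LD3_c26)) = (LP (LK LD1_c23 LD2_c31 LD3_c32)) :=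
  Lre_g IH (LK LD1_c13 LD2_c59 LD3_c26) (LK LD1_c23 LD2_c31 LD3_c32) Lrfl Lrfl
theorem f798525 : Led Lsl_dt (LP (LK LD1_c14 LD2_c10 LD3_c4)) = v21662 :=
  Lgr Lrot42 (Lpr_df (f798522 IH) (Lpn v21662))
theorem f798517 : Led Lsl_bf (LP (LK LD1_c7 LD2_c24 LD3_c26)) = v21662 :=
  Lgr Lrot24 (Lpr_bt (f798516 IH) (Lpn v21662))
theorem f798526 : Led Lsl_bf (LP (LK LD1_c14 LD2_c10 LD3_c4)) = (LP (LK LD1_c13 LD2_c55 LD3_c10)) :=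
  Lgr Lrot93 (Lpr_dt (f798525 IH) (Lpe (f798517 IH) (Lpe (K34.f511514 IH) (Lpn (LP (LK LD1_c13 LD2_c55 LD3_c10))))))
theorem f800615 : Led Lsl_gt (LP (LK LD1_c7 LD2_c30 LD3_c7)) = v22012 :=
  Lgr Lrot65 (Lpe (f459528 IH) (Lpr_bt (f664273 IH) (Lpe (f488451 IH) (Lpr_bf (f798526 IH) (Lpe (K34.f518475 IH) (Lpe (K34.f463007 IH) (Lpe (K34.f13410 IH) (Lpr_gf (f661817 IH) (Lpe (f668265 IH) (Lpr_ct (f800613 IH) (Lpn v22012)))))))))))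
theorem f662357 : Led Lsl_bt (LP (LK LD1_c14 LD2_c9 LD3_c51)) = (LP (LK LD1_c7 LD2_c29 LD3_c59)) :=
  Lre_b IH (LK LD1_c14 LD2_c9 LD3_c51) (LK LD1_c7 LD2_c29 LD3_c59) Lrfl Lrfl
theorem f800616 : Led Lsl_cf (LP (LK LD1_c23 LD2_c31 LD3_c32)) = (LP (LK LD1_c14 LD2_c9 LD3_c51)) :=
  Lgr Lrot58 (Lpe (f518597 IH) (Lpe (f517835 IH) (Lpr_bt (f463008 IH) (Lpr_gf (f661817 IH) (Lpe (f668265 IH) (Lpr_ct (f800613 IH) (Lpe (f800615 IH) (Lpe (f459528 IH) (Lpr_gf (K48.f662354 IH) (Lpe (f662357 IH) (Lpn (LP (LK LD1_c14 LD2_c9 LD3_c51)))))))))))))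
theorem f800617 : Led Lsl_ct (LP (LK LD1_c14 LD2_c9 LD3_c51)) = (LP (LK LD1_c23 LD2_c31 LD3_c32)) :=
  Leop (Lpr_cf (f800616 IH) (Lpn (LP (LK LD1_c14 LD2_c9 LD3_c51))))
theorem seed_1653 : LEOK LG_c (LK LD1_c14 LD2_c9 LD3_c51) :=
  Leoe_c (LK LD1_c14 LD2_c9 LD3_c51) (f800617 IH)
def v22024 : LQ := Led Lsl_bt (LP (LK LD1_c7 LD2_c30 LD3_c9))
theorem f800699 : Led Lsl_bt (LP (LK LD1_c7 LD2_c30 LD3_c9)) = v22024 :=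
  Lrfl
theorem f776429 : Led Lsl_ct (LP (LK LD1_c7 LD2_c5 LD3_c7)) = K61.v18911 :=
  Lgr Lrot7 (Lpe (K32.f479787 IH) (Lpe (K32.f451996 IH) (Lpe (K32.f451259 IH) (Lpr_gf (K28.f462866 IH) (Lpr_cf (K28.f160608 IH) (Lpe (K28.f464636 IH) (Lpr_dt (K28.f98810 IH) (Lpr_gt (K32.f464433 IH) (Lpr_dt (K61.f776428 IH) (Lpn K61.v18911))))))))))
def v20784 : LQ := Led Lsl_bt (LP (LK LD1_c7 LD2_c4 LD3_c48))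
theorem f789959 : Led Lsl_bt (LP (LK LD1_c7 LD2_c4 LD3_c48)) = v20784 :=
  Lrfl
theorem f800706 : Led Lsl_gf v20784 = v22024 :=
  Lgr Lrot124 (Lpe (f789959 IH) (Lpr_ct (K29.f458245 IH) (Lpr_gt (K24.f455672 IH) (Lpe (K47.f455669 IH) (Lpe (K24.f458228 IH) (Lpr_gt (K32.f455723 IH) (Lpr_ct (f776429 IH) (Lpr_gt (K61.f789180 IH) (Lpe (K61.f789177 IH) (Lpr_bt (f800699 IH) (Lpn v22024)))))))))))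
theorem f438052 : Led Lsl_bt (LP (LK LD1_c13 LD2_c56 LD3_c40)) = (LP (LK LD1_c7 LD2_c22 LD3_c29)) :=
  Lre_b IH (LK LD1_c13 LD2_c56 LD3_c40) (LK LD1_c7 LD2_c22 LD3_c29) Lrfl Lrfl
theorem f800704 : Led Lsl_ff (LP (LK LD1_c13 LD2_c56 LD3_c40)) = v22024 :=
  Lgr Lrot25 (Lpr_bt (f438052 IH) (Lpr_ft (K46.f655056 IH) (Lpr_bt (f800699 IH) (Lpn v22024))))
def v21907 : LQ := Led Lsl_et (LP (LK LD1_c7 LD2_c28 LD3_c13))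
theorem f799925 : Led Lsl_et (LP (LK LD1_c7 LD2_c28 LD3_c13)) = v21907 :=
  Lrfl
theorem f799927 : Led Lsl_ef (LP (LK LD1_c7 LD2_c28 LD3_c13)) = v21907 :=
  Lgr Lrot88 (Lpr_et (f799925 IH) (Lpn v21907))
theorem f799928 : Led Lsl_at (LP (LK LD1_c13 LD2_c56 LD3_c40)) = v21907 :=
  Lgr Lrot80 (Lpe (K28.f468145 IH) (Lpe (K61.f656034 IH) (Lpr_ef (f799927 IH) (Lpn v21907))))
theorem f800707 : Led Lsl_gt v20784 = v21907 :=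
  Lgr Lrot46 (Lpr_gf (f800706 IH) (Lpe (f800704 IH) (Lpr_at (f799928 IH) (Lpn v21907))))
theorem f525914 : Led Lsl_ff (LP (LK LD1_c7 LD2_c4 LD3_c48)) = (LP (LK LD1_c3 LD2_c41 LD3_c58)) :=
  Lgr Lrot23 (Lpr_ct (K29.f458245 IH) (Lpr_ft (K48.f525910 IH) (Lpr_ct (K34.f483655 IH) (Lpn (LP (LK LD1_c3 LD2_c41 LD3_c58))))))
theorem f478575 : Led Lsl_bt (LP (LK LD1_c7 LD2_c24 LD3_c36)) = (LP (LK LD1_c3 LD2_c41 LD3_c58)) :=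
  Lre_b IH (LK LD1_c7 LD2_c24 LD3_c36) (LK LD1_c3 LD2_c41 LD3_c58) Lrfl Lrfl
theorem f789961 : Led Lsl_ff (LP (LK LD1_c7 LD2_c24 LD3_c36)) = v20784 :=
  Lgr Lrot25 (Lpr_bt (f478575 IH) (Lpe (f525914 IH) (Lpr_bt (f789959 IH) (Lpn v20784))))
theorem f525896 : Led Lsl_at (LP (LK LD1_c7 LD2_c24 LD3_c36)) = (LP (LK LD1_c14 LD2_c0 LD3_c60)) :=
  Lre_a IH (LK LD1_c7 LD2_c24 LD3_c36) (LK LD1_c14 LD2_c0 LD3_c60) Lrfl Lrfl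
theorem f800708 : Led Lsl_gf (LP (LK LD1_c14 LD2_c0 LD3_c60)) = v21907 :=
  Lgr Lrot76 (Lpe (f525896 IH) (Lpr_ff (f789961 IH) (Lpr_gt (f800707 IH) (Lpn v21907))))
theorem f526692 : Led Lsl_et (LP (LK LD1_c7 LD2_c24 LD3_c34)) = (LP (LK LD1_c14 LD2_c0 LD3_c60)) :=
  Lre_e IH (LK LD1_c7 LD2_c24 LD3_c34) (LK LD1_c14 LD2_c0 LD3_c60) Lrfl Lrfl
theorem f526701 : Led Lsl_dt (LP (LK LD1_c7 LD2_c24 LD3_c34)) = (LP (LK LD1_c14 LD2_c0 LD3_c59)) :=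
  Lre_d IH (LK LD1_c7 LD2_c24 LD3_c34) (LK LD1_c14 LD2_c0 LD3_c59) Lrfl Lrfl
theorem f136989 : Led Lsl_dt (LP (LK LD1_c7 LD2_c28 LD3_c13)) = (LP (LK LD1_c14 LD2_c6 LD3_c8)) :=
  Lre_d IH (LK LD1_c7 LD2_c28 LD3_c13) (LK LD1_c14 LD2_c6 LD3_c8) Lrfl Lrfl
theorem f136990 : Led Lsl_et (LP (LK LD1_c14 LD2_c29 LD3_c14)) = (LP (LK LD1_c7 LD2_c41 LD3_c5)) :=
  Lre_e IH (LK LD1_c14 LD2_c29 LD3_c14) (LK LD1_c7 LD2_c41 LD3_c5) Lrfl Lrfl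
theorem f122149 : Led Lsl_et (LP (LK LD1_c1 LD2_c48 LD3_c59)) = (LP (LK LD1_c3 LD2_c43 LD3_c49)) :=
  Lre_e IH (LK LD1_c1 LD2_c48 LD3_c59) (LK LD1_c3 LD2_c43 LD3_c49) Lrfl Lrfl
theorem f656127 : Led Lsl_gt (LP (LK LD1_c14 LD2_c6 LD3_c8)) = (LP (LK LD1_c23 LD2_c39 LD3_c14)) :=
  Lgr Lrot139 (Lpe (f136989 IH) (Lpe (K35.f136988 IH) (Lpe (f122149 IH) (Lpr_dt (K8.f122144 IH) (Lpr_gf (K7.f136972 IH) (Lpe (K8.f96455 IH) (Lpr_et (K8.f96459 IH) (Lpe (K37.f96384 IH) (Lpe (f136990 IH) (Lpr_dt (K61.f656105 IH) (Lpn (LP (LK LD1_c23 LD2_c39 LD3_c14)))))))))))))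
theorem f528871 : Led Lsl_ff (LP (LK LD1_c14 LD2_c51 LD3_c51)) = (LP (LK LD1_c14 LD2_c55 LD3_c20)) :=
  Lgr Lrot19 (Lpr_dt (K33.f477145 IH) (Lpr_ft (K35.f528867 IH) (Lpr_dt (K61.f480098 IH) (Lpn (LP (LK LD1_c14 LD2_c55 LD3_c20))))))
theorem f656101 : Led Lsl_at (LP (LK LD1_c14 LD2_c51 LD3_c51)) = (LP (LK LD1_c23 LD2_c39 LD3_c14)) :=
  Lgr Lrot66 (Lpr_ff (f528871 IH) (Lpe (K61.f656084 IH) (Lpr_ff (K61.f656099 IH) (Lpn (LP (LK LD1_c23 LD2_c39 LD3_c14))))))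
theorem f656129 : Led Lsl_gf (LP (LK LD1_c14 LD2_c6 LD3_c8)) = (LP (LK LD1_c14 LD2_c55 LD3_c20)) :=
  Lgr Lrot47 (Lpr_gt (f656127 IH) (Lpe (f656101 IH) (Lpr_ff (f528871 IH) (Lpn (LP (LK LD1_c14 LD2_c55 LD3_c20))))))
def v21680 : LQ := Led Lsl_gf (LP (LK LD1_c7 LD2_c24 LD3_c41))
theorem f798652 : Led Lsl_gf (LP (LK LD1_c7 LD2_c24 LD3_c41)) = v21680 :=
  Lrfl
theorem f437946 : Led Lsl_dt (LP (LK LD1_c7 LD2_c24 LD3_c41)) = (LP (LK LD1_c14 LD2_c1 LD3_c7)) :=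
  Lre_d IH (LK LD1_c7 LD2_c24 LD3_c41) (LK LD1_c14 LD2_c1 LD3_c7) Lrfl Lrfl
theorem f437932 : Led Lsl_bt (LP (LK LD1_c7 LD2_c24 LD3_c41)) = (LP (LK LD1_c3 LD2_c41 LD3_c59)) :=
  Lre_b IH (LK LD1_c7 LD2_c24 LD3_c41) (LK LD1_c3 LD2_c41 LD3_c59) Lrfl Lrfl
theorem f437933 : Led Lsl_ef (LP (LK LD1_c7 LD2_c24 LD3_c41)) = (LP (LK LD1_c7 LD2_c49 LD3_c36)) :=
  Lgr Lrot29 (Lpr_bt (f437932 IH) (Lpr_et (K29.f437929 IH) (Lpr_bt (K34.f122817 IH) (Lpn (LP (LK LD1_c7 LD2_c49 LD3_c36))))))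
theorem f437948 : Led Lsl_et (LP (LK LD1_c7 LD2_c24 LD3_c41)) = (LP (LK LD1_c7 LD2_c49 LD3_c36)) :=
  Lgr Lrot87 (Lpr_ef (f437933 IH) (Lpn (LP (LK LD1_c7 LD2_c49 LD3_c36))))
theorem f480265 : Led Lsl_gt (LP (LK LD1_c14 LD2_c1 LD3_c7)) = (LP (LK LD1_c13 LD2_c56 LD3_c15)) :=
  Lgr Lrot112 (Lpe (f437946 IH) (Lpr_et (f437948 IH) (Lpr_gf (K34.f480261 IH) (Lpe (K5.f132232 IH) (Lpr_dt (K34.f144285 IH) (Lpe (K42.f144291 IH) (Lpe (K33.f122156 IH) (Lpe (K28.f122152 IH) (Lpe (K6.f122157 IH) (Lpr_dt (K6.f122158 IH) (Lpn (LP (LK LD1_c13 LD2_c56 LD3_c15)))))))))))))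
theorem f798654 : Led Lsl_et (LP (LK LD1_c14 LD2_c48 LD3_c42)) = v21680 :=
  Lgr Lrot121 (Lpr_dt (K39.f524106 IH) (Lpe (K43.f532117 IH) (Lpe (K28.f122162 IH) (Lpr_et (K34.f122161 IH) (Lpe (K28.f122152 IH) (Lpe (K6.f122157 IH) (Lpr_dt (K6.f122158 IH) (Lpe (f480265 IH) (Lpe (f437946 IH) (Lpr_gf (f798652 IH) (Lpn v21680)))))))))))
theorem f798656 : Led Lsl_ef (LP (LK LD1_c14 LD2_c48 LD3_c42)) = v21680 :=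
  Lgr Lrot88 (Lpr_et (f798654 IH) (Lpn v21680))
theorem f798655 : Led Lsl_bf K49.v9504 = v21680 :=
  Lgr Lrot96 (Lpe (K49.f676328 IH) (Lpr_bt (K39.f524105 IH) (Lpr_et (f798654 IH) (Lpn v21680))))
theorem f798663 : Led Lsl_dt (LP (LK LD1_c14 LD2_c9 LD3_c53)) = v21680 :=
  Lgr Lrot79 (Lpe (f676331 IH) (Lpr_df (K49.f676330 IH) (Lpr_bf (f798655 IH) (Lpn v21680))))
theorem f798664 : Led Lsl_df (LP (LK LD1_c14 LD2_c9 LD3_c53)) = v21680 :=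
  Lgr Lrot38 (Lpr_dt (f798663 IH) (Lpn v21680))
theorem f800709 : Led Lsl_gt (LP (LK LD1_c14 LD2_c0 LD3_c59)) = (LP (LK LD1_c14 LD2_c9 LD3_c53)) :=
  Lgr Lrot112 (Lpe (f526701 IH) (Lpr_et (f526692 IH) (Lpr_gf (f800708 IH) (Lpe (f799925 IH) (Lpr_dt (f136989 IH) (Lpr_gf (f656129 IH) (Lpe (K61.f480098 IH) (Lpr_gf (K39.f532161 IH) (Lpr_ef (f798656 IH) (Lpe (f798664 IH) (Lpn (LP (LK LD1_c14 LD2_c9 LD3_c53)))))))))))))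
theorem f800710 : Led Lsl_gt (LP (LK LD1_c14 LD2_c0 LD3_c59)) = (LP (LK LD1_c14 LD2_c9 LD3_c53)) :=
  Leop (Lpe (f800709 IH) (Lpn (LP (LK LD1_c14 LD2_c0 LD3_c59))))
theorem seed_1654 : LEOK LG_g (LK LD1_c14 LD2_c0 LD3_c59) :=
  Leoe_g (LK LD1_c14 LD2_c0 LD3_c59) (f800710 IH)
theorem f800714 : Led Lsl_ft (LP (LK LD1_c13 LD2_c56 LD3_c40)) = v22024 :=
  Lgr Lrot48 (Lpr_ff (f800704 IH) (Lpn v22024))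
theorem f491661 : Led Lsl_bt (LP (LK LD1_c3 LD2_c41 LD3_c58)) = (LP (LK LD1_c7 LD2_c24 LD3_c36)) :=
  Lre_b IH (LK LD1_c3 LD2_c41 LD3_c58) (LK LD1_c7 LD2_c24 LD3_c36) Lrfl Lrfl
theorem f527342 : Led Lsl_gt (LP (LK LD1_c13 LD2_c56 LD3_c40)) = (LP (LK LD1_c7 LD2_c24 LD3_c36)) :=
  Lgr Lrot164 (Lpe (K28.f438057 IH) (Lpr_ct (K28.f464548 IH) (Lpe (K33.f479812 IH) (Lpr_cf (K33.f480278 IH) (Lpe (K33.f455688 IH) (Lpe (K34.f458937 IH) (Lpr_ct (K34.f455743 IH) (Lpqs (K34.f527340 IH) (Lpe (K34.f527030 IH) (Lpe (K34.f483654 IH) (Lpr_bt (f491661 IH) (Lpn (LP (LK LD1_c7 LD2_c24 LD3_c36))))))))))))))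
theorem f491662 : Led Lsl_gt (LP (LK LD1_c7 LD2_c24 LD3_c36)) = (LP (LK LD1_c14 LD2_c1 LD3_c0)) :=
  Lre_g IH (LK LD1_c7 LD2_c24 LD3_c36) (LK LD1_c14 LD2_c1 LD3_c0) Lrfl Lrfl
theorem f800715 : Led Lsl_af (LP (LK LD1_c14 LD2_c1 LD3_c0)) = v22024 :=
  Lgr Lrot31 (Lpe (f491662 IH) (Lpe (f527342 IH) (Lpr_ft (f800714 IH) (Lpn v22024))))
theorem f656356 : Led Lsl_ef (LP (LK LD1_c7 LD2_c24 LD3_c47)) = (LP (LK LD1_c6 LD2_c58 LD3_c45)) :=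
  Lgr Lrot88 (Lpr_et (K48.f656352 IH) (Lpn (LP (LK LD1_c6 LD2_c58 LD3_c45))))
theorem f655996 : Led Lsl_ff (LP (LK LD1_c6 LD2_c58 LD3_c45)) = (LP (LK LD1_c3 LD2_c30 LD3_c32)) :=
  Lgr Lrot23 (Lpe (K28.f460850 IH) (Lpr_ft (K48.f655994 IH) (Lpe (K24.f461806 IH) (Lpn (LP (LK LD1_c3 LD2_c30 LD3_c32))))))
theorem f656370 : Led Lsl_ff (LP (LK LD1_c7 LD2_c3 LD3_c2)) = (LP (LK LD1_c3 LD2_c52 LD3_c13)) :=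
  Lgr Lrot72 (Lpr_et (K24.f64998 IH) (Lpe (f655996 IH) (Lpe (f656356 IH) (Lpr_ft (K48.f656364 IH) (Lpe (K48.f478337 IH) (Lpn (LP (LK LD1_c3 LD2_c52 LD3_c13))))))))
theorem f443410 : Led Lsl_bt (LP (LK LD1_c7 LD2_c3 LD3_c2)) = (LP (LK LD1_c13 LD2_c22 LD3_c18)) :=
  Lre_b IH (LK LD1_c7 LD2_c3 LD3_c2) (LK LD1_c13 LD2_c22 LD3_c18) Lrfl Lrfl
theorem f468780 : Led Lsl_bt (LP (LK LD1_c7 LD2_c46 LD3_c8)) = (LP (LK LD1_c3 LD2_c52 LD3_c13)) :=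
  Lre_b IH (LK LD1_c7 LD2_c46 LD3_c8) (LK LD1_c3 LD2_c52 LD3_c13) Lrfl Lrfl
theorem f656374 : Led Lsl_ft (LP (LK LD1_c13 LD2_c22 LD3_c18)) = (LP (LK LD1_c7 LD2_c46 LD3_c8)) :=
  Lgr Lrot75 (Lpe (f443410 IH) (Lpr_ff (f656370 IH) (Lpe (f468780 IH) (Lpn (LP (LK LD1_c7 LD2_c46 LD3_c8))))))
theorem f800711 : Led Lsl_ct (LP (LK LD1_c7 LD2_c46 LD3_c8)) = v22024 :=
  Lgr Lrot40 (Lpe (f656374 IH) (Lpe (K28.f468141 IH) (Lpr_ff (f800704 IH) (Lpn v22024))))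
theorem f478396 : Led Lsl_at (LP (LK LD1_c14 LD2_c39 LD3_c7)) = (LP (LK LD1_c7 LD2_c46 LD3_c8)) :=
  Lre_a IH (LK LD1_c14 LD2_c39 LD3_c7) (LK LD1_c7 LD2_c46 LD3_c8) Lrfl Lrfl
theorem f800717 : Led Lsl_ct (LP (LK LD1_c14 LD2_c1 LD3_c0)) = (LP (LK LD1_c14 LD2_c39 LD3_c7)) :=
  Lgr Lrot111 (Lpr_af (f800715 IH) (Lpe (f800711 IH) (Lpe (f478396 IH) (Lpn (LP (LK LD1_c14 LD2_c39 LD3_c7))))))
theorem f800718 : Led Lsl_ct (LP (LK LD1_c14 LD2_c1 LD3_c0)) = (LP (LK LD1_c14 LD2_c39 LD3_c7)) :=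
  Leop (Lpe (f800717 IH) (Lpn (LP (LK LD1_c14 LD2_c1 LD3_c0))))
theorem seed_1655 : LEOK LG_c (LK LD1_c14 LD2_c1 LD3_c0) :=
  Leoe_c (LK LD1_c14 LD2_c1 LD3_c0) (f800718 IH)
def v22028 : LQ := Led Lsl_et (LP (LK LD1_c7 LD2_c30 LD3_c22))
theorem f800736 : Led Lsl_et (LP (LK LD1_c7 LD2_c30 LD3_c22)) = v22028 :=
  Lrfl
theorem f457744 : Led Lsl_et (LP (LK LD1_c7 LD2_c53 LD3_c33)) = (LP (LK LD1_c3 LD2_c55 LD3_c56)) :=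
  Lre_e IH (LK LD1_c7 LD2_c53 LD3_c33) (LK LD1_c3 LD2_c55 LD3_c56) Lrfl Lrfl
theorem f800738 : Led Lsl_cf (LP (LK LD1_c7 LD2_c53 LD3_c33)) = v22028 :=
  Lgr Lrot39 (Lpr_et (f457744 IH) (Lpe (K41.f457732 IH) (Lpr_et (f800736 IH) (Lpn v22028))))
theorem f531765 : Led Lsl_gt (LP (LK LD1_c14 LD2_c53 LD3_c3)) = (LP (LK LD1_c7 LD2_c53 LD3_c33)) :=
  Lre_g IH (LK LD1_c14 LD2_c53 LD3_c3) (LK LD1_c7 LD2_c53 LD3_c33) Lrfl Lrfl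
theorem f800737 : Led Lsl_bf K48.v7300 = v22028 :=
  Lgr Lrot96 (Lpe (K48.f664302 IH) (Lpr_bt (K41.f457720 IH) (Lpr_et (f800736 IH) (Lpn v22028))))
theorem f446575 : Led Lsl_gt (LP (LK LD1_c6 LD2_c57 LD3_c34)) = (LP (LK LD1_c13 LD2_c12 LD3_c56)) :=
  Lre_g IH (LK LD1_c6 LD2_c57 LD3_c34) (LK LD1_c13 LD2_c12 LD3_c56) Lrfl Lrfl
theorem f800744 : Led Lsl_cf (LP (LK LD1_c14 LD2_c53 LD3_c3)) = (LP (LK LD1_c13 LD2_c12 LD3_c56)) :=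
  Lgr Lrot125 (Lpr_gt (f531765 IH) (Lpr_cf (f800738 IH) (Lpe (f800737 IH) (Lpe (K48.f664306 IH) (Lpe (K29.f467706 IH) (Lpr_ct (K29.f455988 IH) (Lpr_gt (K29.f473175 IH) (Lpe (K28.f468921 IH) (Lpr_bt (K34.f446574 IH) (Lpr_gt (f446575 IH) (Lpn (LP (LK LD1_c13 LD2_c12 LD3_c56)))))))))))))
theorem f800745 : Led Lsl_ct (LP (LK LD1_c13 LD2_c12 LD3_c56)) = (LP (LK LD1_c14 LD2_c53 LD3_c3)) :=
  Leop (Lpr_cf (f800744 IH) (Lpn (LP (LK LD1_c13 LD2_c12 LD3_c56))))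
theorem seed_1656 : LEOK LG_c (LK LD1_c13 LD2_c12 LD3_c56) :=
  Leoe_c (LK LD1_c13 LD2_c12 LD3_c56) (f800745 IH)
def v22033 : LQ := Led Lsl_et (LP (LK LD1_c7 LD2_c30 LD3_c27))
theorem f800802 : Led Lsl_et (LP (LK LD1_c7 LD2_c30 LD3_c27)) = v22033 :=
  Lrfl
theorem f800805 : Led Lsl_ef (LP (LK LD1_c7 LD2_c30 LD3_c27)) = v22033 :=
  Lgr Lrot88 (Lpr_et (f800802 IH) (Lpn v22033))
theorem f162863 : Led Lsl_ff (LP (LK LD1_c1 LD2_c51 LD3_c41)) = (LP (LK LD1_c3 LD2_c46 LD3_c61)) :=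
  Lgr Lrot25 (Lpr_bt (K8.f110244 IH) (Lpr_ft (K8.f162859 IH) (Lpe (K8.f162783 IH) (Lpn (LP (LK LD1_c3 LD2_c46 LD3_c61))))))
theorem f472180 : Led Lsl_et (LP (LK LD1_c7 LD2_c37 LD3_c9)) = (LP (LK LD1_c14 LD2_c10 LD3_c41)) :=
  Lgr Lrot69 (Lpr_ff (K29.f470954 IH) (Lpe (K28.f110247 IH) (Lpr_ff (f162863 IH) (Lpe (K28.f120640 IH) (Lpr_ff (K35.f472173 IH) (Lpn (LP (LK LD1_c14 LD2_c10 LD3_c41))))))))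
theorem f461860 : Led Lsl_bt (LP (LK LD1_c7 LD2_c32 LD3_c23)) = (LP (LK LD1_c14 LD2_c13 LD3_c10)) :=
  Lre_b IH (LK LD1_c7 LD2_c32 LD3_c23) (LK LD1_c14 LD2_c13 LD3_c10) Lrfl Lrfl
theorem f473039 : Led Lsl_gt (LP (LK LD1_c22 LD2_c26 LD3_c43)) = (LP (LK LD1_c14 LD2_c13 LD3_c10)) :=
  Lgr Lrot164 (Lpe (K43.f91995 IH) (Lpr_ct (K29.f473037 IH) (Lpe (K28.f18373 IH) (Lpe (K28.f18372 IH) (Lpe (K28.f18363 IH) (Lpe (K2.f18328 IH) (Lpr_ct (K41.f18364 IH) (Lpe (K41.f18369 IH) (Lpe (K41.f461849 IH) (Lpr_bt (f461860 IH) (Lpn (LP (LK LD1_c14 LD2_c13 LD3_c10)))))))))))))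
theorem f800808 : Led Lsl_df (LP (LK LD1_c14 LD2_c13 LD3_c10)) = v22033 :=
  Lgr Lrot132 (Lpe (f473039 IH) (Lpe (K43.f464300 IH) (Lpe (K34.f419657 IH) (Lpr_ef (K34.f513304 IH) (Lpr_dt (K34.f476543 IH) (Lpe (K34.f513300 IH) (Lpe (K34.f129884 IH) (Lpr_et (f472180 IH) (Lpe (K35.f472156 IH) (Lpr_ef (f800805 IH) (Lpn v22033)))))))))))
theorem f111712 : Led Lsl_ct (LP (LK LD1_c14 LD2_c13 LD3_c10)) = (LP (LK LD1_c23 LD2_c48 LD3_c34)) :=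
  Lre_c IH (LK LD1_c14 LD2_c13 LD3_c10) (LK LD1_c23 LD2_c48 LD3_c34) Lrfl Lrfl
theorem f800807 : Led Lsl_ct (LP (LK LD1_c13 LD2_c29 LD3_c29)) = v22033 :=
  Lgr Lrot15 (Lpe (K43.f108581 IH) (Lpr_cf (K29.f472147 IH) (Lpr_ef (f800805 IH) (Lpn v22033))))
theorem f108555 : Led Lsl_df (LP (LK LD1_c13 LD2_c29 LD3_c29)) = (LP (LK LD1_c13 LD2_c39 LD3_c4)) :=
  Lgr Lrot12 (Lpr_bt (K41.f108553 IH) (Lpr_dt (K8.f108550 IH) (Lpr_bt (K43.f108554 IH) (Lpn (LP (LK LD1_c13 LD2_c39 LD3_c4))))))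
theorem f543507 : Led Lsl_dt (LP (LK LD1_c21 LD2_c13 LD3_c46)) = (LP (LK LD1_c12 LD2_c7 LD3_c35)) :=
  Lre_d IH (LK LD1_c21 LD2_c13 LD3_c46) (LK LD1_c12 LD2_c7 LD3_c35) Lrfl Lrfl
theorem f420515 : Led Lsl_dt (LP (LK LD1_c29 LD2_c54 LD3_c42)) = (LP (LK LD1_c21 LD2_c13 LD3_c38)) :=
  Lre_d IH (LK LD1_c29 LD2_c54 LD3_c42) (LK LD1_c21 LD2_c13 LD3_c38) Lrfl Lrfl
theorem f420546 : Led Lsl_dt (LP (LK LD1_c12 LD2_c7 LD3_c35)) = (LP (LK LD1_c21 LD2_c13 LD3_c46)) :=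
  Lre_d IH (LK LD1_c12 LD2_c7 LD3_c35) (LK LD1_c21 LD2_c13 LD3_c46) Lrfl Lrfl
theorem f578427 : Led Lsl_ff (LP (LK LD1_c29 LD2_c54 LD3_c42)) = (LP (LK LD1_c21 LD2_c13 LD3_c46)) :=
  Lgr Lrot19 (Lpr_dt (f420515 IH) (Lpr_ft (K43.f578423 IH) (Lpr_dt (f420546 IH) (Lpn (LP (LK LD1_c21 LD2_c13 LD3_c46))))))
theorem f75794 : Led Lsl_gt (LP (LK LD1_c6 LD2_c14 LD3_c41)) = (LP (LK LD1_c12 LD2_c7 LD3_c34)) :=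
  Lre_g IH (LK LD1_c6 LD2_c14 LD3_c41) (LK LD1_c12 LD2_c7 LD3_c34) Lrfl Lrfl
theorem f578435 : Led Lsl_at (LP (LK LD1_c21 LD2_c13 LD3_c38)) = (LP (LK LD1_c12 LD2_c7 LD3_c34)) :=
  Lgr Lrot26 (Lpr_ff (K43.f578429 IH) (Lpr_gt (K37.f75798 IH) (Lpr_gt (f75794 IH) (Lpn (LP (LK LD1_c12 LD2_c7 LD3_c34))))))
theorem f578415 : Led Lsl_at (LP (LK LD1_c21 LD2_c13 LD3_c39)) = (LP (LK LD1_c12 LD2_c7 LD3_c35)) :=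
  Lgr Lrot107 (Lpr_cf (K43.f578413 IH) (Lpe (K43.f108587 IH) (Lpr_cf (K43.f543504 IH) (Lpn (LP (LK LD1_c12 LD2_c7 LD3_c35))))))
theorem f578441 : Led Lsl_ff (LP (LK LD1_c21 LD2_c13 LD3_c39)) = (LP (LK LD1_c12 LD2_c7 LD3_c34)) :=
  Lgr Lrot30 (Lpr_at (f578415 IH) (Lpe (K43.f578429 IH) (Lpr_at (f578435 IH) (Lpn (LP (LK LD1_c12 LD2_c7 LD3_c34))))))
theorem f578445 : Led Lsl_ft (LP (LK LD1_c21 LD2_c13 LD3_c39)) = (LP (LK LD1_c12 LD2_c7 LD3_c34)) :=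
  Lgr Lrot48 (Lpr_ff (f578441 IH) (Lpn (LP (LK LD1_c12 LD2_c7 LD3_c34))))
theorem f420514 : Led Lsl_dt (LP (LK LD1_c29 LD2_c54 LD3_c43)) = (LP (LK LD1_c21 LD2_c13 LD3_c39)) :=
  Lre_d IH (LK LD1_c29 LD2_c54 LD3_c43) (LK LD1_c21 LD2_c13 LD3_c39) Lrfl Lrfl
theorem f75795 : Led Lsl_dt (LP (LK LD1_c12 LD2_c7 LD3_c34)) = (LP (LK LD1_c21 LD2_c13 LD3_c45)) :=
  Lre_d IH (LK LD1_c12 LD2_c7 LD3_c34) (LK LD1_c21 LD2_c13 LD3_c45) Lrfl Lrfl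
theorem f578447 : Led Lsl_ff (LP (LK LD1_c29 LD2_c54 LD3_c43)) = (LP (LK LD1_c21 LD2_c13 LD3_c45)) :=
  Lgr Lrot19 (Lpr_dt (f420514 IH) (Lpr_ft (f578445 IH) (Lpr_dt (f75795 IH) (Lpn (LP (LK LD1_c21 LD2_c13 LD3_c45))))))
theorem f75689 : Led Lsl_dt (LP (LK LD1_c21 LD2_c13 LD3_c39)) = (LP (LK LD1_c29 LD2_c54 LD3_c43)) :=
  Lre_d IH (LK LD1_c21 LD2_c13 LD3_c39) (LK LD1_c29 LD2_c54 LD3_c43) Lrfl Lrfl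
theorem f578421 : Led Lsl_at (LP (LK LD1_c29 LD2_c54 LD3_c43)) = (LP (LK LD1_c21 LD2_c13 LD3_c46)) :=
  Lgr Lrot51 (Lpe (f75689 IH) (Lpr_af (K43.f578419 IH) (Lpe (f543507 IH) (Lpn (LP (LK LD1_c21 LD2_c13 LD3_c46))))))
theorem f578449 : Led Lsl_at (LP (LK LD1_c29 LD2_c54 LD3_c42)) = (LP (LK LD1_c21 LD2_c13 LD3_c45)) :=
  Lgr Lrot66 (Lpr_ff (f578427 IH) (Lpe (f578421 IH) (Lpr_ff (f578447 IH) (Lpn (LP (LK LD1_c21 LD2_c13 LD3_c45))))))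
theorem f578451 : Led Lsl_ct (LP (LK LD1_c29 LD2_c54 LD3_c51)) = (LP (LK LD1_c21 LD2_c13 LD3_c45)) :=
  Lre_c IH (LK LD1_c29 LD2_c54 LD3_c51) (LK LD1_c21 LD2_c13 LD3_c45) Lrfl Lrfl
theorem f800810 : Led Lsl_dt (LP (LK LD1_c23 LD2_c48 LD3_c34)) = (LP (LK LD1_c29 LD2_c54 LD3_c51)) :=
  Lgr Lrot120 (Lpe (f111712 IH) (Lpr_df (f800808 IH) (Lpe (f800807 IH) (Lpr_df (f108555 IH) (Lpr_cf (K43.f543504 IH) (Lpe (f543507 IH) (Lpe (f578427 IH) (Lpr_at (f578449 IH) (Lpe (f578451 IH) (Lpn (LP (LK LD1_c29 LD2_c54 LD3_c51))))))))))))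
theorem f800811 : Led Lsl_dt (LP (LK LD1_c23 LD2_c48 LD3_c34)) = (LP (LK LD1_c29 LD2_c54 LD3_c51)) :=
  Leop (Lpe (f800810 IH) (Lpn (LP (LK LD1_c23 LD2_c48 LD3_c34))))
theorem seed_1657 : LEOK LG_d (LK LD1_c23 LD2_c48 LD3_c34) :=
  Leoe_d (LK LD1_c23 LD2_c48 LD3_c34) (f800811 IH)
theorem f419666 : Led Lsl_af (LP (LK LD1_c7 LD2_c34 LD3_c0)) = (LP (LK LD1_c13 LD2_c18 LD3_c13)) :=
  Lgr Lrot0 (Lpr_at (K42.f419648 IH) (Lpn (LP (LK LD1_c13 LD2_c18 LD3_c13))))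
theorem f473041 : Led Lsl_gf (LP (LK LD1_c7 LD2_c34 LD3_c0)) = (LP (LK LD1_c14 LD2_c13 LD3_c10)) :=
  Lgr Lrot76 (Lpr_af (f419666 IH) (Lpr_ff (K43.f464296 IH) (Lpr_gt (f473039 IH) (Lpn (LP (LK LD1_c14 LD2_c13 LD3_c10))))))
theorem f473044 : Led Lsl_gt (LP (LK LD1_c14 LD2_c16 LD3_c5)) = (LP (LK LD1_c23 LD2_c52 LD3_c51)) :=
  Lre_g IH (LK LD1_c14 LD2_c16 LD3_c5) (LK LD1_c23 LD2_c52 LD3_c51) Lrfl Lrfl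
theorem f426553 : Led Lsl_dt (LP (LK LD1_c20 LD2_c41 LD3_c46)) = (LP (LK LD1_c29 LD2_c35 LD3_c39)) :=
  Lre_d IH (LK LD1_c20 LD2_c41 LD3_c46) (LK LD1_c29 LD2_c35 LD3_c39) Lrfl Lrfl
theorem f578200 : Led Lsl_ct (LP (LK LD1_c21 LD2_c13 LD3_c58)) = (LP (LK LD1_c12 LD2_c7 LD3_c40)) :=
  Lre_c IH (LK LD1_c21 LD2_c13 LD3_c58) (LK LD1_c12 LD2_c7 LD3_c40) Lrfl Lrfl
theorem f578201 : Led Lsl_dt (LP (LK LD1_c29 LD2_c55 LD3_c0)) = (LP (LK LD1_c21 LD2_c13 LD3_c58)) :=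
  Lre_d IH (LK LD1_c29 LD2_c55 LD3_c0) (LK LD1_c21 LD2_c13 LD3_c58) Lrfl Lrfl
theorem f589901 : Led Lsl_gt (LP (LK LD1_c29 LD2_c35 LD3_c39)) = (LP (LK LD1_c29 LD2_c55 LD3_c0)) :=
  Lgr Lrot49 (Lpe (f426553 IH) (Lpr_gf (K55.f589897 IH) (Lpe (K55.f543705 IH) (Lpr_gt (K37.f75668 IH) (Lpr_dt (K43.f75667 IH) (Lpr_gt (K37.f75673 IH) (Lpr_dt (K47.f75773 IH) (Lpe (f578200 IH) (Lpe (f578201 IH) (Lpn (LP (LK LD1_c29 LD2_c55 LD3_c0))))))))))))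
theorem f543752 : Led Lsl_gf (LP (LK LD1_c29 LD2_c54 LD3_c56)) = (LP (LK LD1_c23 LD2_c52 LD3_c51)) :=
  Lgr Lrot76 (Lpr_af (K43.f543739 IH) (Lpe (K43.f419725 IH) (Lpr_gt (f473044 IH) (Lpn (LP (LK LD1_c23 LD2_c52 LD3_c51))))))
theorem f589929 : Led Lsl_ct (LP (LK LD1_c29 LD2_c55 LD3_c0)) = (LP (LK LD1_c23 LD2_c52 LD3_c51)) :=
  Lgr Lrot152 (Lpe (f589901 IH) (Lpe (f426553 IH) (Lpr_gt (K46.f589925 IH) (Lpr_ct (K43.f543771 IH) (Lpr_gt (K43.f543766 IH) (Lpe (K28.f97518 IH) (Lpr_df (K43.f464306 IH) (Lpe (K43.f543746 IH) (Lpr_gf (f543752 IH) (Lpn (LP (LK LD1_c23 LD2_c52 LD3_c51))))))))))))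
theorem f589993 : Led Lsl_cf (LP (LK LD1_c29 LD2_c55 LD3_c0)) = (LP (LK LD1_c23 LD2_c52 LD3_c51)) :=
  Lgr Lrot11 (Lpr_ct (f589929 IH) (Lpn (LP (LK LD1_c23 LD2_c52 LD3_c51))))
theorem f75774 : Led Lsl_ct (LP (LK LD1_c12 LD2_c7 LD3_c40)) = (LP (LK LD1_c21 LD2_c13 LD3_c58)) :=
  Lre_c IH (LK LD1_c12 LD2_c7 LD3_c40) (LK LD1_c21 LD2_c13 LD3_c58) Lrfl Lrfl
theorem f473946 : Led Lsl_at (LP (LK LD1_c13 LD2_c12 LD3_c54)) = (LP (LK LD1_c22 LD2_c26 LD3_c53)) :=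
  Lre_a IH (LK LD1_c13 LD2_c12 LD3_c54) (LK LD1_c22 LD2_c26 LD3_c53) Lrfl Lrfl
theorem f628253 : Led Lsl_cf (LP (LK LD1_c21 LD2_c13 LD3_c57)) = (LP (LK LD1_c22 LD2_c26 LD3_c53)) :=
  Lgr Lrot1 (Lpr_at (K47.f628247 IH) (Lpr_ct (K33.f473940 IH) (Lpr_at (f473946 IH) (Lpn (LP (LK LD1_c22 LD2_c26 LD3_c53))))))
theorem f800813 : Led Lsl_gf (LP (LK LD1_c22 LD2_c26 LD3_c53)) = v22033 :=
  Lgr Lrot147 (Lpe (f628253 IH) (Lpr_gt (K47.f543733 IH) (Lpr_ct (f75774 IH) (Lpe (f578201 IH) (Lpr_cf (f589993 IH) (Lpe (f473044 IH) (Lpe (K43.f419659 IH) (Lpr_gf (f473041 IH) (Lpr_df (f800808 IH) (Lpn v22033))))))))))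
theorem f514112 : Led Lsl_dt (LP (LK LD1_c22 LD2_c26 LD3_c53)) = (LP (LK LD1_c30 LD2_c30 LD3_c37)) :=
  Lre_d IH (LK LD1_c22 LD2_c26 LD3_c53) (LK LD1_c30 LD2_c30 LD3_c37) Lrfl Lrfl
theorem f514108 : Led Lsl_dt (LP (LK LD1_c30 LD2_c30 LD3_c37)) = (LP (LK LD1_c22 LD2_c26 LD3_c53)) :=
  Lre_d IH (LK LD1_c30 LD2_c30 LD3_c37) (LK LD1_c22 LD2_c26 LD3_c53) Lrfl Lrfl
theorem f628291 : Led Lsl_gf (LP (LK LD1_c30 LD2_c30 LD3_c37)) = (LP (LK LD1_c22 LD2_c29 LD3_c60)) :=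
  Lgr Lrot154 (Lpr_dt (f514108 IH) (Lpe (f628253 IH) (Lpr_df (f628267 IH) (Lpe (K47.f97520 IH) (Lpe (K47.f18038 IH) (Lpe (K37.f18037 IH) (Lpe (K3.f97512 IH) (Lpe (K34.f476498 IH) (Lpr_dt (K34.f63087 IH) (Lpn (LP (LK LD1_c22 LD2_c29 LD3_c60))))))))))))
theorem f419661 : Led Lsl_dt (LP (LK LD1_c14 LD2_c16 LD3_c3)) = (LP (LK LD1_c7 LD2_c33 LD3_c61)) :=
  Lre_d IH (LK LD1_c14 LD2_c16 LD3_c3) (LK LD1_c7 LD2_c33 LD3_c61) Lrfl Lrfl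
theorem f97523 : Led Lsl_dt (LP (LK LD1_c13 LD2_c18 LD3_c12)) = (LP (LK LD1_c22 LD2_c34 LD3_c9)) :=
  Lre_d IH (LK LD1_c13 LD2_c18 LD3_c12) (LK LD1_c22 LD2_c34 LD3_c9) Lrfl Lrfl
theorem f514053 : Led Lsl_ff (LP (LK LD1_c14 LD2_c16 LD3_c3)) = (LP (LK LD1_c22 LD2_c34 LD3_c9)) :=
  Lgr Lrot19 (Lpr_dt (f419661 IH) (Lpr_ft (K37.f514049 IH) (Lpr_dt (f97523 IH) (Lpn (LP (LK LD1_c22 LD2_c34 LD3_c9))))))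
theorem f477645 : Led Lsl_et (LP (LK LD1_c23 LD2_c52 LD3_c48)) = (LP (LK LD1_c14 LD2_c16 LD3_c3)) :=
  Lre_e IH (LK LD1_c23 LD2_c52 LD3_c48) (LK LD1_c14 LD2_c16 LD3_c3) Lrfl Lrfl
theorem f476536 : Led Lsl_et (LP (LK LD1_c22 LD2_c41 LD3_c23)) = (LP (LK LD1_c30 LD2_c39 LD3_c14)) :=
  Lre_e IH (LK LD1_c22 LD2_c41 LD3_c23) (LK LD1_c30 LD2_c39 LD3_c14) Lrfl Lrfl
theorem f513318 : Led Lsl_df (LP (LK LD1_c23 LD2_c52 LD3_c48)) = (LP (LK LD1_c30 LD2_c39 LD3_c14)) :=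
  Lgr Lrot70 (Lpr_et (f477645 IH) (Lpr_dt (f419661 IH) (Lpr_et (K34.f513312 IH) (Lpr_dt (K34.f476543 IH) (Lpr_et (f476536 IH) (Lpn (LP (LK LD1_c30 LD2_c39 LD3_c14))))))))
theorem f63085 : Led Lsl_at (LP (LK LD1_c22 LD2_c41 LD3_c25)) = (LP (LK LD1_c30 LD2_c39 LD3_c14)) :=
  Lre_a IH (LK LD1_c22 LD2_c41 LD3_c25) (LK LD1_c30 LD2_c39 LD3_c14) Lrfl Lrfl
theorem f513320 : Led Lsl_at (LP (LK LD1_c23 LD2_c52 LD3_c48)) = (LP (LK LD1_c30 LD2_c32 LD3_c29)) :=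
  Lgr Lrot51 (Lpr_df (f513318 IH) (Lpe (f63085 IH) (Lpe (K34.f63077 IH) (Lpn (LP (LK LD1_c30 LD2_c32 LD3_c29))))))
theorem f419663 : Led Lsl_et (LP (LK LD1_c14 LD2_c16 LD3_c3)) = (LP (LK LD1_c23 LD2_c52 LD3_c48)) :=
  Lre_e IH (LK LD1_c14 LD2_c16 LD3_c3) (LK LD1_c23 LD2_c52 LD3_c48) Lrfl Lrfl
theorem f63094 : Led Lsl_et (LP (LK LD1_c30 LD2_c32 LD3_c29)) = (LP (LK LD1_c22 LD2_c29 LD3_c60)) :=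
  Lre_e IH (LK LD1_c30 LD2_c32 LD3_c29) (LK LD1_c22 LD2_c29 LD3_c60) Lrfl Lrfl
theorem f513330 : Led Lsl_af (LP (LK LD1_c14 LD2_c16 LD3_c3)) = (LP (LK LD1_c22 LD2_c29 LD3_c60)) :=
  Lgr Lrot50 (Lpr_et (f419663 IH) (Lpr_at (f513320 IH) (Lpr_et (f63094 IH) (Lpn (LP (LK LD1_c22 LD2_c29 LD3_c60))))))
theorem f513333 : Led Lsl_at (LP (LK LD1_c14 LD2_c16 LD3_c3)) = (LP (LK LD1_c22 LD2_c29 LD3_c60)) :=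
  Lgr Lrot100 (Lpr_af (f513330 IH) (Lpn (LP (LK LD1_c22 LD2_c29 LD3_c60))))
theorem f514094 : Led Lsl_ff (LP (LK LD1_c13 LD2_c23 LD3_c51)) = (LP (LK LD1_c22 LD2_c29 LD3_c60)) :=
  Lgr Lrot30 (Lpr_at (K48.f514061 IH) (Lpe (f514053 IH) (Lpr_at (f513333 IH) (Lpn (LP (LK LD1_c22 LD2_c29 LD3_c60))))))
theorem f628295 : Led Lsl_gt (LP (LK LD1_c30 LD2_c30 LD3_c37)) = (LP (LK LD1_c22 LD2_c34 LD3_c9)) :=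
  Lgr Lrot46 (Lpr_gf (f628291 IH) (Lpe (f514094 IH) (Lpr_at (K48.f514061 IH) (Lpn (LP (LK LD1_c22 LD2_c34 LD3_c9))))))
theorem f488661 : Led Lsl_gt (LP (LK LD1_c13 LD2_c26 LD3_c49)) = (LP (LK LD1_c22 LD2_c46 LD3_c19)) :=
  Lre_g IH (LK LD1_c13 LD2_c26 LD3_c49) (LK LD1_c22 LD2_c46 LD3_c19) Lrfl Lrfl
theorem f514160 : Led Lsl_gf (LP (LK LD1_c23 LD2_c4 LD3_c6)) = (LP (LK LD1_c22 LD2_c46 LD3_c19)) :=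
  Lgr Lrot76 (Lpe (K41.f514150 IH) (Lpr_ff (K41.f514151 IH) (Lpr_gt (f488661 IH) (Lpn (LP (LK LD1_c22 LD2_c46 LD3_c19))))))
theorem f108592 : Led Lsl_gt (LP (LK LD1_c13 LD2_c29 LD3_c29)) = (LP (LK LD1_c22 LD2_c50 LD3_c0)) :=
  Lre_g IH (LK LD1_c13 LD2_c29 LD3_c29) (LK LD1_c22 LD2_c50 LD3_c0) Lrfl Lrfl
theorem f800814 : Led Lsl_df (LP (LK LD1_c22 LD2_c46 LD3_c19)) = (LP (LK LD1_c22 LD2_c50 LD3_c0)) :=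
  Lgr Lrot153 (Lpe (f514160 IH) (Lpr_dt (K41.f514116 IH) (Lpr_cf (K47.f514128 IH) (Lpe (K48.f97525 IH) (Lpe (f628295 IH) (Lpe (f514112 IH) (Lpr_gf (f800813 IH) (Lpe (f800807 IH) (Lpr_gt (f108592 IH) (Lpn (LP (LK LD1_c22 LD2_c50 LD3_c0))))))))))))
theorem f800815 : Led Lsl_dt (LP (LK LD1_c22 LD2_c50 LD3_c0)) = (LP (LK LD1_c22 LD2_c46 LD3_c19)) :=
  Leop (Lpr_df (f800814 IH) (Lpn (LP (LK LD1_c22 LD2_c50 LD3_c0))))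
theorem seed_1658 : LEOK LG_d (LK LD1_c22 LD2_c50 LD3_c0) :=
  Leoe_d (LK LD1_c22 LD2_c50 LD3_c0) (f800815 IH)
def v22068 : LQ := Led Lsl_ct (LP (LK LD1_c7 LD2_c30 LD3_c50))
theorem f801016 : Led Lsl_ct (LP (LK LD1_c7 LD2_c30 LD3_c50)) = v22068 :=
  Lrfl
theorem f65866 : Led Lsl_gt (LP (LK LD1_c3 LD2_c44 LD3_c59)) = (LP (LK LD1_c7 LD2_c30 LD3_c50)) :=
  Lre_g IH (LK LD1_c3 LD2_c44 LD3_c59) (LK LD1_c7 LD2_c30 LD3_c50) Lrfl Lrfl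
theorem f801020 : Led Lsl_gf (LP (LK LD1_c13 LD2_c1 LD3_c49)) = v22068 :=
  Lgr Lrot129 (Lpr_cf (K54.f95202 IH) (Lpr_bt (K54.f739268 IH) (Lpr_gt (K54.f141036 IH) (Lpe (K32.f454340 IH) (Lpr_ct (K32.f454373 IH) (Lpq (K51.f708018 IH) (Lpe (K51.f507827 IH) (Lpe (K4.f91778 IH) (Lpe (K60.f91776 IH) (Lpr_gt (f65866 IH) (Lpr_ct (f801016 IH) (Lpn v22068))))))))))))
theorem f95214 : Led Lsl_ct (LP (LK LD1_c22 LD2_c16 LD3_c52)) = (LP (LK LD1_c13 LD2_c5 LD3_c52)) :=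
  Lre_c IH (LK LD1_c22 LD2_c16 LD3_c52) (LK LD1_c13 LD2_c5 LD3_c52) Lrfl Lrfl
theorem f91796 : Led Lsl_gt (LP (LK LD1_c7 LD2_c30 LD3_c52)) = (LP (LK LD1_c14 LD2_c11 LD3_c9)) :=
  Lre_g IH (LK LD1_c7 LD2_c30 LD3_c52) (LK LD1_c14 LD2_c11 LD3_c9) Lrfl Lrfl
theorem f91797 : Led Lsl_ct (LP (LK LD1_c14 LD2_c11 LD3_c9)) = (LP (LK LD1_c23 LD2_c46 LD3_c43)) :=
  Lre_c IH (LK LD1_c14 LD2_c11 LD3_c9) (LK LD1_c23 LD2_c46 LD3_c43) Lrfl Lrfl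
theorem f801021 : Led Lsl_gf (LP (LK LD1_c22 LD2_c16 LD3_c52)) = (LP (LK LD1_c23 LD2_c46 LD3_c43)) :=
  Lgr Lrot104 (Lpr_ct (f95214 IH) (Lpe (K4.f95216 IH) (Lpe (K54.f95211 IH) (Lpr_gf (f801020 IH) (Lpe (f801016 IH) (Lpe (f65866 IH) (Lpe (K3.f91779 IH) (Lpr_gt (f91796 IH) (Lpr_ct (f91797 IH) (Lpn (LP (LK LD1_c23 LD2_c46 LD3_c43))))))))))))
theorem f801022 : Led Lsl_gt (LP (LK LD1_c23 LD2_c46 LD3_c43)) = (LP (LK LD1_c22 LD2_c16 LD3_c52)) :=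
  Leop (Lpr_gf (f801021 IH) (Lpn (LP (LK LD1_c23 LD2_c46 LD3_c43))))
theorem seed_1659 : LEOK LG_g (LK LD1_c23 LD2_c46 LD3_c43) :=
  Leoe_g (LK LD1_c23 LD2_c46 LD3_c43) (f801022 IH)
def v22072 : LQ := Led Lsl_ct (LP (LK LD1_c7 LD2_c30 LD3_c51))
theorem f801042 : Led Lsl_ct (LP (LK LD1_c7 LD2_c30 LD3_c51)) = v22072 :=
  Lrfl
theorem f801043 : Led Lsl_cf (LP (LK LD1_c7 LD2_c30 LD3_c51)) = v22072 :=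
  Lgr Lrot11 (Lpr_ct (f801042 IH) (Lpn v22072))
def v7317 : LQ := Led Lsl_et (LP (LK LD1_c3 LD2_c44 LD3_c58))
theorem f664501 : Led Lsl_et (LP (LK LD1_c3 LD2_c44 LD3_c58)) = v7317 :=
  Lrfl
theorem f91760 : Led Lsl_et (LP (LK LD1_c3 LD2_c44 LD3_c59)) = (LP (LK LD1_c1 LD2_c49 LD3_c34)) :=
  Lre_e IH (LK LD1_c3 LD2_c44 LD3_c59) (LK LD1_c1 LD2_c49 LD3_c34) Lrfl Lrfl
theorem f664504 : Led Lsl_cf (LP (LK LD1_c3 LD2_c44 LD3_c59)) = v7317 :=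
  Lgr Lrot39 (Lpr_et (f91760 IH) (Lpr_ct (K2.f65860 IH) (Lpr_et (f664501 IH) (Lpn v7317))))
def v4266 : LQ := Led Lsl_et (LP (LK LD1_c2 LD2_c18 LD3_c7))
theorem f632324 : Led Lsl_et (LP (LK LD1_c2 LD2_c18 LD3_c7)) = v4266 :=
  Lrfl
theorem f632327 : Led Lsl_ef (LP (LK LD1_c2 LD2_c18 LD3_c7)) = v4266 :=
  Lgr Lrot88 (Lpr_et (f632324 IH) (Lpn v4266))
theorem f664503 : Led Lsl_bf v4266 = v7317 :=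
  Lgr Lrot96 (Lpe (f632327 IH) (Lpe (K11.f104302 IH) (Lpr_et (f664501 IH) (Lpn v7317))))
theorem f632329 : Led Lsl_ct K51.v1967 = v4266 :=
  Lgr Lrot15 (Lpe (K51.f506643 IH) (Lpr_cf (K3.f104304 IH) (Lpr_ef (f632327 IH) (Lpn v4266))))
theorem f708060 : K49.v10137 = v4266 :=
  Lefun (Lecon (K49.f678928 IH) (K51.f708031 IH)) (f632329 IH)
theorem f76796 : Led Lsl_ct (LP (LK LD1_c1 LD2_c37 LD3_c60)) = (LP (LK LD1_c3 LD2_c23 LD3_c7)) :=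
  Lre_c IH (LK LD1_c1 LD2_c37 LD3_c60) (LK LD1_c3 LD2_c23 LD3_c7) Lrfl Lrfl
def v6526 : LQ := Led Lsl_gf (LP (LK LD1_c3 LD2_c23 LD3_c7))
theorem f653787 : Led Lsl_gf (LP (LK LD1_c3 LD2_c23 LD3_c7)) = v6526 :=
  Lrfl
theorem f673995 : Led Lsl_cf v6526 = K49.v9198 :=
  Lgr Lrot125 (Lpe (f653787 IH) (Lpe (f76796 IH) (Lpr_bt (K57.f76793 IH) (Lpr_gt (K49.f653585 IH) (Lpr_bf (K49.f673993 IH) (Lpe (K49.f673990 IH) (Lpr_gt (K49.f662604 IH) (Lpqs (K49.f662745 IH) (Lpe (K49.f446275 IH) (Lpr_bt (K49.f634258 IH) (Lpq (K49.f662744 IH) (Lpr_gt (K49.f673980 IH) (Lpn K49.v9198)))))))))))))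
theorem f76802 : Led Lsl_at (LP (LK LD1_c1 LD2_c38 LD3_c9)) = (LP (LK LD1_c3 LD2_c23 LD3_c7)) :=
  Lre_a IH (LK LD1_c1 LD2_c38 LD3_c9) (LK LD1_c3 LD2_c23 LD3_c7) Lrfl Lrfl
theorem f76803 : Led Lsl_ft (LP (LK LD1_c3 LD2_c23 LD3_c45)) = (LP (LK LD1_c1 LD2_c38 LD3_c9)) :=
  Lre_f IH (LK LD1_c3 LD2_c23 LD3_c45) (LK LD1_c1 LD2_c38 LD3_c9) Lrfl Lrfl
theorem f653788 : Led Lsl_gt (LP (LK LD1_c3 LD2_c23 LD3_c45)) = v6526 :=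
  Lgr Lrot5 (Lpr_ft (f76803 IH) (Lpr_at (f76802 IH) (Lpr_gf (f653787 IH) (Lpn v6526))))
theorem f673986 : Led Lsl_bf K49.v7904 = K49.v9198 :=
  Lgr Lrot24 (Lpr_bt (K49.f673985 IH) (Lpn K49.v9198))
theorem f673997 : Led Lsl_gf K49.v3199 = K49.v7904 :=
  Lgr Lrot124 (Lpe (K49.f624596 IH) (Lpr_ct (K46.f624598 IH) (Lpr_gt (K46.f653350 IH) (Lpe (K46.f653351 IH) (Lpr_bt (K46.f76867 IH) (Lpr_gt (K2.f76863 IH) (Lpr_ct (K49.f76920 IH) (Lpr_gt (f653788 IH) (Lpr_cf (f673995 IH) (Lpe (f673986 IH) (Lpn K49.v7904)))))))))))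
theorem f654444 : Led Lsl_ff (LP (LK LD1_c3 LD2_c24 LD3_c13)) = K50.v6617 :=
  Lgr Lrot3 (Lpr_ft (K50.f654441 IH) (Lpn K50.v6617))
theorem f654446 : Led Lsl_ct K34.v2213 = K50.v6617 :=
  Lgr Lrot40 (Lpr_ff (K35.f510413 IH) (Lpe (K50.f79725 IH) (Lpr_ff (f654444 IH) (Lpn K50.v6617))))
theorem f678932 : Led Lsl_gf K50.v6617 = K49.v10137 :=
  Lgr Lrot129 (Lpe (f654446 IH) (Lpe (K34.f509705 IH) (Lpr_gt (K9.f76926 IH) (Lpe (K2.f73785 IH) (Lpr_ct (K49.f76920 IH) (Lpr_gt (f653788 IH) (Lpr_cf (f673995 IH) (Lpe (f673986 IH) (Lpe (f673997 IH) (Lpr_ct (K49.f678928 IH) (Lpn K49.v10137)))))))))))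
theorem f414499 : Led Lsl_ct (LP (LK LD1_c3 LD2_c20 LD3_c55)) = (LP (LK LD1_c1 LD2_c36 LD3_c45)) :=
  Lre_c IH (LK LD1_c3 LD2_c20 LD3_c55) (LK LD1_c1 LD2_c36 LD3_c45) Lrfl Lrfl
theorem f414500 : Led Lsl_bt (LP (LK LD1_c3 LD2_c24 LD3_c13)) = (LP (LK LD1_c3 LD2_c20 LD3_c55)) :=
  Lgr Lrot128 (Lpe (K49.f414461 IH) (Lpe (K34.f414498 IH) (Lpr_cf (K17.f414496 IH) (Lpe (K50.f414494 IH) (Lpe (f414499 IH) (Lpn (LP (LK LD1_c3 LD2_c20 LD3_c55))))))))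
theorem f654445 : Led Lsl_bt (LP (LK LD1_c4 LD2_c49 LD3_c15)) = K50.v6617 :=
  Lgr Lrot35 (Lpe (K50.f510380 IH) (Lpe (f414500 IH) (Lpr_ff (f654444 IH) (Lpn K50.v6617))))
theorem f141030 : Led Lsl_ct (LP (LK LD1_c4 LD2_c49 LD3_c15)) = (LP (LK LD1_c2 LD2_c22 LD3_c26)) :=
  Lre_c IH (LK LD1_c4 LD2_c49 LD3_c15) (LK LD1_c2 LD2_c22 LD3_c26) Lrfl Lrfl
theorem f510405 : Led Lsl_ct (LP (LK LD1_c9 LD2_c31 LD3_c11)) = (LP (LK LD1_c4 LD2_c49 LD3_c13)) :=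
  Lre_c IH (LK LD1_c9 LD2_c31 LD3_c11) (LK LD1_c4 LD2_c49 LD3_c13) Lrfl Lrfl
theorem f801044 : Led Lsl_gt (LP (LK LD1_c13 LD2_c1 LD3_c49)) = v22072 :=
  Lgr Lrot82 (Lpr_bf (K54.f739264 IH) (Lpr_ct (f510405 IH) (Lpe (K54.f140000 IH) (Lpe (f141030 IH) (Lpr_bt (f654445 IH) (Lpr_gf (f678932 IH) (Lpqs (f708060 IH) (Lpr_bf (f664503 IH) (Lpe (f664504 IH) (Lpe (K49.f65875 IH) (Lpr_cf (f801043 IH) (Lpn v22072))))))))))))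
def v2675 : LQ := Led Lsl_gf (LP (LK LD1_c1 LD2_c52 LD3_c22))
def v9432 : LQ := Led Lsl_et v2675
theorem f675959 : Led Lsl_et v2675 = v9432 :=
  Lrfl
theorem f675962 : Led Lsl_ef v2675 = v9432 :=
  Lgr Lrot88 (Lpr_et (f675959 IH) (Lpn v9432))
theorem f530282 : Led Lsl_gf (LP (LK LD1_c1 LD2_c52 LD3_c22)) = v2675 :=
  Lrfl
theorem f90603 : Led Lsl_dt (LP (LK LD1_c1 LD2_c49 LD3_c30)) = (LP (LK LD1_c3 LD2_c44 LD3_c50)) :=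
  Lre_d IH (LK LD1_c1 LD2_c49 LD3_c30) (LK LD1_c3 LD2_c44 LD3_c50) Lrfl Lrfl
def v1838 : LQ := Led Lsl_gt (LP (LK LD1_c1 LD2_c29 LD3_c35))
theorem f504488 : Led Lsl_gt (LP (LK LD1_c1 LD2_c29 LD3_c35)) = v1838 :=
  Lrfl
theorem f504490 : Led Lsl_gf (LP (LK LD1_c3 LD2_c12 LD3_c46)) = v1838 :=
  Lgr Lrot76 (Lpe (K1.f66738 IH) (Lpe (K1.f66853 IH) (Lpr_gt (f504488 IH) (Lpn v1838))))
theorem f530288 : Led Lsl_df v1838 = v2675 :=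
  Lgr Lrot155 (Lpe (f504490 IH) (Lpr_ct (K2.f66697 IH) (Lpe (K2.f90596 IH) (Lpr_ct (K2.f90602 IH) (Lpr_dt (f90603 IH) (Lpr_cf (K2.f95279 IH) (Lpe (K2.f11835 IH) (Lpe (K0.f11838 IH) (Lpr_gf (f530282 IH) (Lpn v2675))))))))))
theorem f504492 : Led Lsl_ct K54.v583 = v1838 :=
  Lgr Lrot63 (Lpe (K60.f455016 IH) (Lpe (K60.f453839 IH) (Lpe (K51.f453724 IH) (Lpr_ct (K2.f24033 IH) (Lpr_gt (K2.f24034 IH) (Lpe (K2.f93178 IH) (Lpr_bt (K2.f90607 IH) (Lpr_gt (K2.f90598 IH) (Lpr_ct (K2.f66812 IH) (Lpr_gt (f504488 IH) (Lpn v1838)))))))))))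
theorem f504494 : Led Lsl_ff (LP (LK LD1_c1 LD2_c39 LD3_c25)) = v1838 :=
  Lgr Lrot23 (Lpr_ct (K2.f91954 IH) (Lpr_ft (K54.f455014 IH) (Lpr_ct (f504492 IH) (Lpn v1838))))
theorem f530291 : Led Lsl_ft (LP (LK LD1_c3 LD2_c23 LD3_c39)) = v2675 :=
  Lgr Lrot54 (Lpr_df (K2.f94684 IH) (Lpr_ff (f504494 IH) (Lpr_df (f530288 IH) (Lpn v2675))))
theorem f530292 : Led Lsl_af (LP (LK LD1_c3 LD2_c23 LD3_c40)) = v2675 :=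
  Lgr Lrot45 (Lpr_ft (K42.f102632 IH) (Lpe (K8.f102396 IH) (Lpr_ft (f530291 IH) (Lpn v2675))))
theorem f675963 : Led Lsl_at (LP (LK LD1_c6 LD2_c50 LD3_c36)) = v9432 :=
  Lgr Lrot80 (Lpe (K8.f61843 IH) (Lpr_af (f530292 IH) (Lpr_ef (f675962 IH) (Lpn v9432))))
theorem f801045 : Led Lsl_gf v9432 = v22072 :=
  Lgr Lrot76 (Lpe (f675963 IH) (Lpe (K54.f61851 IH) (Lpr_gt (f801044 IH) (Lpn v22072))))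
theorem f15000 : Led Lsl_dt (LP (LK LD1_c1 LD2_c52 LD3_c22)) = (LP (LK LD1_c1 LD2_c37 LD3_c59)) :=
  Lgr Lrot60 (Lpr_ff (K0.f14984 IH) (Lpe (K0.f14557 IH) (Lpe (K3.f14999 IH) (Lpn (LP (LK LD1_c1 LD2_c37 LD3_c59))))))
theorem f530285 : Led Lsl_ct (LP (LK LD1_c3 LD2_c24 LD3_c39)) = v2675 :=
  Lgr Lrot8 (Lpe (K28.f102496 IH) (Lpr_dt (K5.f14640 IH) (Lpr_gt (K3.f12297 IH) (Lpr_dt (K5.f11842 IH) (Lpe (K3.f11843 IH) (Lpe (K3.f97665 IH) (Lpr_gf (K3.f78162 IH) (Lpe (f15000 IH) (Lpr_gf (f530282 IH) (Lpn v2675))))))))))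
theorem f675961 : Led Lsl_cf (LP (LK LD1_c6 LD2_c51 LD3_c48)) = v9432 :=
  Lgr Lrot39 (Lpr_et (K4.f102490 IH) (Lpr_ct (f530285 IH) (Lpr_et (f675959 IH) (Lpn v9432))))
theorem f102499 : Led Lsl_dt (LP (LK LD1_c6 LD2_c51 LD3_c48)) = (LP (LK LD1_c13 LD2_c3 LD3_c9)) :=
  Lre_d IH (LK LD1_c6 LD2_c51 LD3_c48) (LK LD1_c13 LD2_c3 LD3_c9) Lrfl Lrfl
theorem f102681 : Led Lsl_ct (LP (LK LD1_c22 LD2_c12 LD3_c50)) = (LP (LK LD1_c13 LD2_c3 LD3_c9)) :=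
  Lre_c IH (LK LD1_c22 LD2_c12 LD3_c50) (LK LD1_c13 LD2_c3 LD3_c9) Lrfl Lrfl
theorem f95442 : Led Lsl_at (LP (LK LD1_c3 LD2_c27 LD3_c17)) = (LP (LK LD1_c3 LD2_c44 LD3_c59)) :=
  Lgr Lrot100 (Lpr_af (K3.f95440 IH) (Lpn (LP (LK LD1_c3 LD2_c44 LD3_c59))))
theorem f95525 : Led Lsl_gt (LP (LK LD1_c6 LD2_c56 LD3_c34)) = (LP (LK LD1_c7 LD2_c30 LD3_c51)) :=
  Lgr Lrot5 (Lpr_ft (K60.f94731 IH) (Lpr_at (f95442 IH) (Lpe (K49.f65875 IH) (Lpn (LP (LK LD1_c7 LD2_c30 LD3_c51))))))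
theorem f94713 : Led Lsl_dt (LP (LK LD1_c3 LD2_c27 LD3_c17)) = (LP (LK LD1_c6 LD2_c56 LD3_c33)) :=
  Lre_d IH (LK LD1_c3 LD2_c27 LD3_c17) (LK LD1_c6 LD2_c56 LD3_c33) Lrfl Lrfl
theorem f95444 : Led Lsl_at (LP (LK LD1_c6 LD2_c56 LD3_c33)) = (LP (LK LD1_c7 LD2_c30 LD3_c52)) :=
  Lgr Lrot51 (Lpe (f94713 IH) (Lpr_af (K3.f95440 IH) (Lpe (K3.f91779 IH) (Lpn (LP (LK LD1_c7 LD2_c30 LD3_c52))))))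
theorem f91762 : Led Lsl_gt (LP (LK LD1_c14 LD2_c11 LD3_c10)) = (LP (LK LD1_c7 LD2_c30 LD3_c52)) :=
  Lre_g IH (LK LD1_c14 LD2_c11 LD3_c10) (LK LD1_c7 LD2_c30 LD3_c52) Lrfl Lrfl
theorem f95520 : Led Lsl_gt (LP (LK LD1_c13 LD2_c10 LD3_c54)) = (LP (LK LD1_c14 LD2_c11 LD3_c10)) :=
  Lgr Lrot5 (Lpr_ft (K60.f94854 IH) (Lpr_at (f95444 IH) (Lpe (f91762 IH) (Lpn (LP (LK LD1_c14 LD2_c11 LD3_c10))))))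
theorem f95522 : Led Lsl_ct (LP (LK LD1_c14 LD2_c11 LD3_c10)) = (LP (LK LD1_c23 LD2_c46 LD3_c45)) :=
  Lre_c IH (LK LD1_c14 LD2_c11 LD3_c10) (LK LD1_c23 LD2_c46 LD3_c45) Lrfl Lrfl
theorem f801046 : Led Lsl_gf (LP (LK LD1_c22 LD2_c12 LD3_c50)) = (LP (LK LD1_c23 LD2_c46 LD3_c45)) :=
  Lgr Lrot104 (Lpr_ct (f102681 IH) (Lpe (f102499 IH) (Lpr_cf (f675961 IH) (Lpr_gf (f801045 IH) (Lpe (f801042 IH) (Lpe (f95525 IH) (Lpe (K3.f95456 IH) (Lpr_gt (f95520 IH) (Lpr_ct (f95522 IH) (Lpn (LP (LK LD1_c23 LD2_c46 LD3_c45))))))))))))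
theorem f801047 : Led Lsl_gt (LP (LK LD1_c23 LD2_c46 LD3_c45)) = (LP (LK LD1_c22 LD2_c12 LD3_c50)) :=
  Leop (Lpr_gf (f801046 IH) (Lpn (LP (LK LD1_c23 LD2_c46 LD3_c45))))
theorem seed_1660 : LEOK LG_g (LK LD1_c23 LD2_c46 LD3_c45) :=
  Leoe_g (LK LD1_c23 LD2_c46 LD3_c45) (f801047 IH)
def v22073 : LQ := Led Lsl_ct (LP (LK LD1_c7 LD2_c30 LD3_c53))
theorem f801050 : Led Lsl_ct (LP (LK LD1_c7 LD2_c30 LD3_c53)) = v22073 :=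
  Lrfl
theorem f801054 : Led Lsl_ff v7317 = v22073 :=
  Lgr Lrot23 (Lpe (f664504 IH) (Lpr_ft (K60.f91846 IH) (Lpr_ct (f801050 IH) (Lpn v22073))))
theorem f801057 : Led Lsl_ft v7317 = v22073 :=
  Lgr Lrot48 (Lpr_ff (f801054 IH) (Lpn v22073))
theorem f801051 : Led Lsl_af K60.v19998 = v22073 :=
  Lgr Lrot68 (Lpe (K60.f784232 IH) (Lpr_at (K3.f95446 IH) (Lpr_ct (f801050 IH) (Lpn v22073))))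
theorem f801059 : Led Lsl_gt v7317 = K60.v20280 :=
  Lgr Lrot5 (Lpr_ft (f801057 IH) (Lpe (f801051 IH) (Lpr_gf (K60.f786065 IH) (Lpn K60.v20280))))
theorem f664505 : Led Lsl_ef (LP (LK LD1_c3 LD2_c44 LD3_c58)) = v7317 :=
  Lgr Lrot88 (Lpr_et (f664501 IH) (Lpn v7317))
theorem f664508 : Led Lsl_ct (LP (LK LD1_c3 LD2_c44 LD3_c59)) = v7317 :=
  Lgr Lrot15 (Lpe (K3.f65865 IH) (Lpe (K2.f65861 IH) (Lpr_ef (f664505 IH) (Lpn v7317))))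
theorem f91785 : Led Lsl_bt (LP (LK LD1_c12 LD2_c32 LD3_c57)) = (LP (LK LD1_c6 LD2_c32 LD3_c46)) :=
  Lre_b IH (LK LD1_c12 LD2_c32 LD3_c57) (LK LD1_c6 LD2_c32 LD3_c46) Lrfl Lrfl
theorem f712769 : Led Lsl_ct (LP (LK LD1_c12 LD2_c32 LD3_c57)) = (LP (LK LD1_c6 LD2_c36 LD3_c2)) :=
  Lgr Lrot59 (Lpr_cf (K54.f712767 IH) (Lpn (LP (LK LD1_c6 LD2_c36 LD3_c2))))
theorem f650535 : Led Lsl_gt (LP (LK LD1_c12 LD2_c38 LD3_c11)) = (LP (LK LD1_c6 LD2_c36 LD3_c2)) :=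
  Lre_g IH (LK LD1_c12 LD2_c38 LD3_c11) (LK LD1_c6 LD2_c36 LD3_c2) Lrfl Lrfl
theorem f654142 : Led Lsl_ct (LP (LK LD1_c21 LD2_c44 LD3_c41)) = (LP (LK LD1_c12 LD2_c38 LD3_c11)) :=
  Lre_c IH (LK LD1_c21 LD2_c44 LD3_c41) (LK LD1_c12 LD2_c38 LD3_c11) Lrfl Lrfl
theorem f712758 : Led Lsl_bt (LP (LK LD1_c6 LD2_c53 LD3_c24)) = (LP (LK LD1_c13 LD2_c5 LD3_c45)) :=
  Lre_b IH (LK LD1_c6 LD2_c53 LD3_c24) (LK LD1_c13 LD2_c5 LD3_c45) Lrfl Lrfl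
theorem f801060 : Led Lsl_gf (LP (LK LD1_c21 LD2_c44 LD3_c41)) = (LP (LK LD1_c13 LD2_c5 LD3_c45)) :=
  Lgr Lrot181 (Lpr_ct (f654142 IH) (Lpr_gt (f650535 IH) (Lpe (f712769 IH) (Lpr_bt (f91785 IH) (Lpr_gt (K54.f91784 IH) (Lpe (K3.f91774 IH) (Lpr_ct (f664508 IH) (Lpr_gt (f801059 IH) (Lpe (K60.f786062 IH) (Lpr_bt (f712758 IH) (Lpn (LP (LK LD1_c13 LD2_c5 LD3_c45)))))))))))))
theorem f801061 : Led Lsl_gt (LP (LK LD1_c13 LD2_c5 LD3_c45)) = (LP (LK LD1_c21 LD2_c44 LD3_c41)) :=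
  Leop (Lpr_gf (f801060 IH) (Lpn (LP (LK LD1_c13 LD2_c5 LD3_c45))))
theorem seed_1661 : LEOK LG_g (LK LD1_c13 LD2_c5 LD3_c45) :=
  Leoe_g (LK LD1_c13 LD2_c5 LD3_c45) (f801061 IH)
theorem f801053 : Led Lsl_cf (LP (LK LD1_c7 LD2_c30 LD3_c53)) = v22073 :=
  Lgr Lrot11 (Lpr_ct (f801050 IH) (Lpn v22073))
theorem f94718 : Led Lsl_gt (LP (LK LD1_c3 LD2_c27 LD3_c17)) = (LP (LK LD1_c6 LD2_c56 LD3_c31)) :=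
  Lre_g IH (LK LD1_c3 LD2_c27 LD3_c17) (LK LD1_c6 LD2_c56 LD3_c31) Lrfl Lrfl
theorem f95459 : Led Lsl_gt (LP (LK LD1_c6 LD2_c56 LD3_c31)) = (LP (LK LD1_c7 LD2_c30 LD3_c53)) :=
  Lgr Lrot46 (Lpe (f94718 IH) (Lpr_ft (K3.f94717 IH) (Lpr_at (K3.f95446 IH) (Lpn (LP (LK LD1_c7 LD2_c30 LD3_c53))))))
def v20423 : LQ := Led Lsl_ct (LP (LK LD1_c6 LD2_c56 LD3_c31))
theorem f786911 : Led Lsl_ct (LP (LK LD1_c6 LD2_c56 LD3_c31)) = v20423 :=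
  Lrfl
theorem f786912 : Led Lsl_cf (LP (LK LD1_c6 LD2_c56 LD3_c31)) = v20423 :=
  Lgr Lrot11 (Lpr_ct (f786911 IH) (Lpn v20423))
theorem f649979 : Led Lsl_bf (LP (LK LD1_c7 LD2_c30 LD3_c53)) = K51.v5897 :=
  Lgr Lrot61 (Lpr_ft (K3.f91783 IH) (Lpr_bt (K3.f91774 IH) (Lpr_ft (K51.f649978 IH) (Lpn K51.v5897))))
theorem f654424 : Led Lsl_cf K49.v4493 = K49.v6613 :=
  Lgr Lrot11 (Lpr_ct (K49.f654423 IH) (Lpn K49.v6613))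
theorem f801052 : Led Lsl_bf K49.v6613 = v22073 :=
  Lgr Lrot90 (Lpe (f654424 IH) (Lpe (K49.f634230 IH) (Lpr_ct (K51.f414466 IH) (Lpq (K51.f678943 IH) (Lpqs (K60.f708077 IH) (Lpe (f649979 IH) (Lpr_ct (f801050 IH) (Lpn v22073))))))))
theorem f61859 : Led Lsl_gt (LP (LK LD1_c6 LD2_c50 LD3_c36)) = (LP (LK LD1_c13 LD2_c1 LD3_c47)) :=
  Lre_g IH (LK LD1_c6 LD2_c50 LD3_c36) (LK LD1_c13 LD2_c1 LD3_c47) Lrfl Lrfl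
theorem f801065 : v20423 = (LP (LK LD1_c13 LD2_c1 LD3_c47)) :=
  (Llr Lrot125 (Lpe (f786912 IH) (Lpr_gt (f95459 IH) (Lpr_cf (f801053 IH) (Lpe (f801052 IH) (Lpe (K49.f654422 IH) (Lpr_bf (K50.f414617 IH) (Lpr_ct (f414499 IH) (Lpr_gt (K52.f509425 IH) (Lpqs (K52.f714867 IH) (Lpe (K8.f61849 IH) (Lpr_bt (K52.f61847 IH) (Lpr_gt (f61859 IH) (Lpn (LP (LK LD1_c13 LD2_c1 LD3_c47)))))))))))))))).symm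
theorem f801066 : Led Lsl_ct (LP (LK LD1_c13 LD2_c1 LD3_c47)) = (LP (LK LD1_c6 LD2_c56 LD3_c31)) :=
  Leop (Lpr_cf (f786912 IH) (Lpqs (f801065 IH) (Lpn (LP (LK LD1_c13 LD2_c1 LD3_c47)))))
theorem seed_1662 : LEOK LG_c (LK LD1_c13 LD2_c1 LD3_c47) :=
  Leoe_c (LK LD1_c13 LD2_c1 LD3_c47) (f801066 IH)
def v22077 : LQ := Led Lsl_ft (LP (LK LD1_c7 LD2_c30 LD3_c59))
theorem f801097 : Led Lsl_ft (LP (LK LD1_c7 LD2_c30 LD3_c59)) = v22077 :=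
  Lrfl
theorem f801101 : Led Lsl_ff (LP (LK LD1_c7 LD2_c30 LD3_c59)) = v22077 :=
  Lgr Lrot3 (Lpr_ft (f801097 IH) (Lpn v22077))
theorem f801102 : Led Lsl_bt K56.v7327 = v22077 :=
  Lgr Lrot35 (Lpe (K56.f664580 IH) (Lpe (K7.f12479 IH) (Lpr_ff (f801101 IH) (Lpn v22077))))
theorem f664582 : Led Lsl_cf K56.v2612 = K56.v7327 :=
  Lgr Lrot108 (Lpe (K60.f527784 IH) (Lpr_ct (K56.f12474 IH) (Lpr_ft (K56.f664580 IH) (Lpn K56.v7327))))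
def v8227 : LQ := Led Lsl_gt K56.v1933
theorem f670446 : Led Lsl_gt K56.v1933 = v8227 :=
  Lrfl
theorem f670450 : Led Lsl_af K56.v2612 = K56.v8229 :=
  Lgr Lrot45 (Lpe (K60.f527784 IH) (Lpr_at (K60.f506459 IH) (Lpr_ft (K56.f670449 IH) (Lpn K56.v8229))))
theorem f670455 : Led Lsl_gt v8227 = K56.v2612 :=
  Lgr Lrot46 (Lpe (f670446 IH) (Lpr_ft (K56.f670449 IH) (Lpe (f670450 IH) (Lpn K56.v2612))))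
theorem f671170 : Led Lsl_bf K51.v2030 = K57.v8416 :=
  Lgr Lrot24 (Lpr_bt (K57.f671169 IH) (Lpn K57.v8416))
def v9251 : LQ := Led Lsl_ct K49.v2559
theorem f674899 : Led Lsl_ct K49.v2559 = v9251 :=
  Lrfl
theorem f760567 : K57.v13931 = v9251 :=
  Lefun (Lecon (K57.f716252 IH) (K57.f760555 IH)) (f674899 IH)
theorem f761554 : v8227 = K51.v6135 :=
  (Llr Lrot124 (Lpr_gt (f670455 IH) (Lpe (K60.f527785 IH) (Lpe (K57.f523686 IH) (Lpr_gt (K57.f674762 IH) (Lpq (K57.f754165 IH) (Lpqs (f760567 IH) (Lpe (f674899 IH) (Lpq (K57.f760555 IH) (Lpqs (K57.f760161 IH) (Lpe (f671170 IH) (Lpe (K51.f507836 IH) (Lpr_ct (K3.f107407 IH) (Lpr_gt (K57.f649995 IH) (Lpr_cf (K57.f761549 IH) (Lpe (K57.f707739 IH) (Lpn K51.v6135))))))))))))))))).symm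
theorem f644451 : Led Lsl_bt (LP (LK LD1_c4 LD2_c38 LD3_c20)) = (LP (LK LD1_c9 LD2_c12 LD3_c31)) :=
  Lre_b IH (LK LD1_c4 LD2_c38 LD3_c20) (LK LD1_c9 LD2_c12 LD3_c31) Lrfl Lrfl
theorem f801106 : Led Lsl_gf (LP (LK LD1_c9 LD2_c12 LD3_c31)) = v22077 :=
  Lgr Lrot124 (Lpe (f644451 IH) (Lpr_ct (K45.f631948 IH) (Lpr_gt (K45.f415659 IH) (Lpe (K54.f140543 IH) (Lpr_bt (K57.f631933 IH) (Lpr_gt (K46.f96048 IH) (Lpr_ct (K51.f651459 IH) (Lpq (f761554 IH) (Lpr_gt (f670455 IH) (Lpr_cf (f664582 IH) (Lpr_bt (f801102 IH) (Lpn v22077))))))))))))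
theorem f66496 : Led Lsl_at (LP (LK LD1_c7 LD2_c30 LD3_c59)) = (LP (LK LD1_c14 LD2_c11 LD3_c14)) :=
  Lre_a IH (LK LD1_c7 LD2_c30 LD3_c59) (LK LD1_c14 LD2_c11 LD3_c14) Lrfl Lrfl
theorem f801107 : Led Lsl_gt (LP (LK LD1_c9 LD2_c12 LD3_c31)) = (LP (LK LD1_c14 LD2_c11 LD3_c14)) :=
  Lgr Lrot46 (Lpr_gf (f801106 IH) (Lpe (f801101 IH) (Lpr_at (f66496 IH) (Lpn (LP (LK LD1_c14 LD2_c11 LD3_c14))))))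
theorem f801108 : Led Lsl_gt (LP (LK LD1_c9 LD2_c12 LD3_c31)) = (LP (LK LD1_c14 LD2_c11 LD3_c14)) :=
  Leop (Lpe (f801107 IH) (Lpn (LP (LK LD1_c9 LD2_c12 LD3_c31))))
theorem seed_1663 : LEOK LG_g (LK LD1_c9 LD2_c12 LD3_c31) :=
  Leoe_g (LK LD1_c9 LD2_c12 LD3_c31) (f801108 IH)
theorem f700640 : Led Lsl_bt (LP (LK LD1_c9 LD2_c11 LD3_c0)) = (LP (LK LD1_c17 LD2_c4 LD3_c17)) :=
  Lre_b IH (LK LD1_c9 LD2_c11 LD3_c0) (LK LD1_c17 LD2_c4 LD3_c17) Lrfl Lrfl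
theorem f719839 : Led Lsl_gt (LP (LK LD1_c12 LD2_c34 LD3_c19)) = (LP (LK LD1_c17 LD2_c4 LD3_c17)) :=
  Lre_g IH (LK LD1_c12 LD2_c34 LD3_c19) (LK LD1_c17 LD2_c4 LD3_c17) Lrfl Lrfl
theorem f719840 : Led Lsl_bt (LP (LK LD1_c21 LD2_c40 LD3_c35)) = (LP (LK LD1_c12 LD2_c34 LD3_c19)) :=
  Lre_b IH (LK LD1_c21 LD2_c40 LD3_c35) (LK LD1_c12 LD2_c34 LD3_c19) Lrfl Lrfl
theorem f66497 : Led Lsl_at (LP (LK LD1_c12 LD2_c49 LD3_c14)) = (LP (LK LD1_c6 LD2_c42 LD3_c5)) :=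
  Lre_a IH (LK LD1_c12 LD2_c49 LD3_c14) (LK LD1_c6 LD2_c42 LD3_c5) Lrfl Lrfl
theorem f66498 : Led Lsl_ct (LP (LK LD1_c14 LD2_c11 LD3_c14)) = (LP (LK LD1_c12 LD2_c49 LD3_c14)) :=
  Lgr Lrot111 (Lpe (f66496 IH) (Lpr_cf (K7.f66487 IH) (Lpe (f66497 IH) (Lpn (LP (LK LD1_c12 LD2_c49 LD3_c14))))))
theorem f66543 : Led Lsl_gt (LP (LK LD1_c12 LD2_c49 LD3_c14)) = (LP (LK LD1_c21 LD2_c57 LD3_c27)) :=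
  Lre_g IH (LK LD1_c12 LD2_c49 LD3_c14) (LK LD1_c21 LD2_c57 LD3_c27) Lrfl Lrfl
theorem f801109 : Led Lsl_ct (LP (LK LD1_c21 LD2_c40 LD3_c35)) = (LP (LK LD1_c21 LD2_c57 LD3_c27)) :=
  Lgr Lrot63 (Lpr_bt (f719840 IH) (Lpr_gt (f719839 IH) (Lpe (f700640 IH) (Lpr_ct (K45.f642633 IH) (Lpr_gt (K45.f552465 IH) (Lpe (K45.f631948 IH) (Lpr_bt (f644451 IH) (Lpr_gt (f801107 IH) (Lpr_ct (f66498 IH) (Lpr_gt (f66543 IH) (Lpn (LP (LK LD1_c21 LD2_c57 LD3_c27)))))))))))))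
theorem f62042 : Led Lsl_gt (LP (LK LD1_c6 LD2_c33 LD3_c41)) = (LP (LK LD1_c12 LD2_c34 LD3_c19)) :=
  Lre_g IH (LK LD1_c6 LD2_c33 LD3_c41) (LK LD1_c12 LD2_c34 LD3_c19) Lrfl Lrfl
theorem f62041 : Led Lsl_bt (LP (LK LD1_c3 LD2_c15 LD3_c8)) = (LP (LK LD1_c6 LD2_c33 LD3_c41)) :=
  Lre_b IH (LK LD1_c3 LD2_c15 LD3_c8) (LK LD1_c6 LD2_c33 LD3_c41) Lrfl Lrfl
theorem f415976 : Led Lsl_ct (LP (LK LD1_c6 LD2_c33 LD3_c46)) = (LP (LK LD1_c3 LD2_c15 LD3_c10)) :=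
  Lre_c IH (LK LD1_c6 LD2_c33 LD3_c46) (LK LD1_c3 LD2_c15 LD3_c10) Lrfl Lrfl
theorem f801098 : Led Lsl_bf K56.v7327 = v22077 :=
  Lgr Lrot61 (Lpe (K56.f664584 IH) (Lpr_bt (K57.f12475 IH) (Lpr_ft (f801097 IH) (Lpn v22077))))
theorem f66505 : Led Lsl_ft (LP (LK LD1_c12 LD2_c49 LD3_c18)) = (LP (LK LD1_c6 LD2_c42 LD3_c5)) :=
  Lre_f IH (LK LD1_c12 LD2_c49 LD3_c18) (LK LD1_c6 LD2_c42 LD3_c5) Lrfl Lrfl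
theorem f801099 : Led Lsl_cf (LP (LK LD1_c12 LD2_c49 LD3_c18)) = v22077 :=
  Lgr Lrot108 (Lpr_ft (f66505 IH) (Lpe (K7.f66487 IH) (Lpr_ft (f801097 IH) (Lpn v22077))))
theorem f801115 : Led Lsl_gf (LP (LK LD1_c12 LD2_c49 LD3_c18)) = (LP (LK LD1_c21 LD2_c57 LD3_c27)) :=
  Lgr Lrot126 (Lpr_cf (f801099 IH) (Lpe (f801098 IH) (Lpe (K57.f664589 IH) (Lpq (K56.f754235 IH) (Lpr_ct (f415976 IH) (Lpr_gt (K57.f114016 IH) (Lpe (K46.f62034 IH) (Lpr_bt (f62041 IH) (Lpr_gt (f62042 IH) (Lpe (f719840 IH) (Lpr_ct (f801109 IH) (Lpn (LP (LK LD1_c21 LD2_c57 LD3_c27))))))))))))))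
theorem f801116 : Led Lsl_gt (LP (LK LD1_c21 LD2_c57 LD3_c27)) = (LP (LK LD1_c12 LD2_c49 LD3_c18)) :=
  Leop (Lpr_gf (f801115 IH) (Lpn (LP (LK LD1_c21 LD2_c57 LD3_c27))))
theorem seed_1664 : LEOK LG_g (LK LD1_c21 LD2_c57 LD3_c27) :=
  Leoe_g (LK LD1_c21 LD2_c57 LD3_c27) (f801116 IH)
def v22079 : LQ := Led Lsl_gf (LP (LK LD1_c7 LD2_c30 LD3_c61))
theorem f801129 : Led Lsl_gf (LP (LK LD1_c7 LD2_c30 LD3_c61)) = v22079 :=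
  Lrfl
def v19017 : LQ := Led Lsl_ft (LP (LK LD1_c6 LD2_c36 LD3_c40))
theorem f777252 : Led Lsl_ft (LP (LK LD1_c6 LD2_c36 LD3_c40)) = v19017 :=
  Lrfl
theorem f777254 : Led Lsl_ff (LP (LK LD1_c6 LD2_c36 LD3_c40)) = v19017 :=
  Lgr Lrot3 (Lpr_ft (f777252 IH) (Lpn v19017))
theorem f801130 : Led Lsl_gt v19017 = v22079 :=
  Lgr Lrot5 (Lpe (f777254 IH) (Lpe (K56.f141460 IH) (Lpr_gf (f801129 IH) (Lpn v22079))))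
theorem f777253 : Led Lsl_df K56.v6033 = v19017 :=
  Lgr Lrot78 (Lpe (K56.f650642 IH) (Lpr_dt (K56.f103816 IH) (Lpr_ft (f777252 IH) (Lpn v19017))))
theorem f114236 : Led Lsl_ct (LP (LK LD1_c3 LD2_c18 LD3_c44)) = (LP (LK LD1_c1 LD2_c35 LD3_c48)) :=
  Lre_c IH (LK LD1_c3 LD2_c18 LD3_c44) (LK LD1_c1 LD2_c35 LD3_c48) Lrfl Lrfl
theorem f93531 : Led Lsl_dt (LP (LK LD1_c1 LD2_c35 LD3_c38)) = (LP (LK LD1_c3 LD2_c18 LD3_c21)) :=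
  Lre_d IH (LK LD1_c1 LD2_c35 LD3_c38) (LK LD1_c3 LD2_c18 LD3_c21) Lrfl Lrfl
theorem f644849 : Led Lsl_ct (LP (LK LD1_c6 LD2_c40 LD3_c42)) = (LP (LK LD1_c3 LD2_c18 LD3_c21)) :=
  Lre_c IH (LK LD1_c6 LD2_c40 LD3_c42) (LK LD1_c3 LD2_c18 LD3_c21) Lrfl Lrfl
def v19312 : LQ := Led Lsl_gf (LP (LK LD1_c6 LD2_c40 LD3_c42))
theorem f779058 : Led Lsl_gf (LP (LK LD1_c6 LD2_c40 LD3_c42)) = v19312 :=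
  Lrfl
theorem f801138 : Led Lsl_cf v19312 = v22079 :=
  Lgr Lrot169 (Lpe (f779058 IH) (Lpr_ct (f644849 IH) (Lpe (f93531 IH) (Lpe (K46.f415754 IH) (Lpe (K46.f103595 IH) (Lpe (f114236 IH) (Lpq (K56.f754146 IH) (Lpe (K56.f664579 IH) (Lpr_df (f777253 IH) (Lpr_gt (f801130 IH) (Lpn v22079)))))))))))
theorem f776027 : Led Lsl_dt (LP (LK LD1_c6 LD2_c40 LD3_c42)) = (LP (LK LD1_c12 LD2_c46 LD3_c60)) :=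
  Lre_d IH (LK LD1_c6 LD2_c40 LD3_c42) (LK LD1_c12 LD2_c46 LD3_c60) Lrfl Lrfl
theorem f779057 : Led Lsl_gt (LP (LK LD1_c12 LD2_c46 LD3_c60)) = (LP (LK LD1_c21 LD2_c54 LD3_c27)) :=
  Lre_g IH (LK LD1_c12 LD2_c46 LD3_c60) (LK LD1_c21 LD2_c54 LD3_c27) Lrfl Lrfl
def v7325 : LQ := Led Lsl_gt (LP (LK LD1_c3 LD2_c45 LD3_c6))
theorem f664577 : Led Lsl_gt (LP (LK LD1_c3 LD2_c45 LD3_c6)) = v7325 :=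
  Lrfl
theorem f754150 : (LP (LK LD1_c3 LD2_c18 LD3_c42)) = v7325 :=
  Lefun (Lecon (Lfl_gf (K56.f651650 IH)) (K56.f754147 IH).symm) (f664577 IH)
theorem f509055 : Led Lsl_ct (LP (LK LD1_c12 LD2_c47 LD3_c48)) = (LP (LK LD1_c6 LD2_c41 LD3_c15)) :=
  Lre_c IH (LK LD1_c12 LD2_c47 LD3_c48) (LK LD1_c6 LD2_c41 LD3_c15) Lrfl Lrfl
theorem f801140 : Led Lsl_dt (LP (LK LD1_c21 LD2_c54 LD3_c27)) = (LP (LK LD1_c12 LD2_c47 LD3_c48)) :=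
  Lgr Lrot105 (Lpe (f779057 IH) (Lpe (f776027 IH) (Lpr_gf (f779058 IH) (Lpr_cf (f801138 IH) (Lpe (f801129 IH) (Lpr_dt (K56.f12486 IH) (Lpr_gt (f664577 IH) (Lpq (f754150 IH) (Lpr_dt (K57.f651647 IH) (Lpe (f509055 IH) (Lpn (LP (LK LD1_c12 LD2_c47 LD3_c48)))))))))))))
theorem f801141 : Led Lsl_dt (LP (LK LD1_c21 LD2_c54 LD3_c27)) = (LP (LK LD1_c12 LD2_c47 LD3_c48)) :=
  Leop (Lpe (f801140 IH) (Lpn (LP (LK LD1_c21 LD2_c54 LD3_c27))))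
theorem seed_1665 : LEOK LG_d (LK LD1_c21 LD2_c54 LD3_c27) :=
  Leoe_d (LK LD1_c21 LD2_c54 LD3_c27) (f801141 IH)
def v22087 : LQ := Led Lsl_gt (LP (LK LD1_c7 LD2_c31 LD3_c9))
theorem f801196 : Led Lsl_gt (LP (LK LD1_c7 LD2_c31 LD3_c9)) = v22087 :=
  Lrfl
theorem f436574 : Led Lsl_et (LP (LK LD1_c14 LD2_c11 LD3_c36)) = (LP (LK LD1_c7 LD2_c31 LD3_c9)) :=
  Lre_e IH (LK LD1_c14 LD2_c11 LD3_c36) (LK LD1_c7 LD2_c31 LD3_c9) Lrfl Lrfl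
theorem f93403 : Led Lsl_dt (LP (LK LD1_c14 LD2_c11 LD3_c36)) = (LP (LK LD1_c7 LD2_c31 LD3_c8)) :=
  Lre_d IH (LK LD1_c14 LD2_c11 LD3_c36) (LK LD1_c7 LD2_c31 LD3_c8) Lrfl Lrfl
theorem f709125 : Led Lsl_bt (LP (LK LD1_c11 LD2_c24 LD3_c19)) = (LP (LK LD1_c20 LD2_c22 LD3_c6)) :=
  Lre_b IH (LK LD1_c11 LD2_c24 LD3_c19) (LK LD1_c20 LD2_c22 LD3_c6) Lrfl Lrfl
theorem f90162 : Led Lsl_gt (LP (LK LD1_c6 LD2_c56 LD3_c0)) = (LP (LK LD1_c13 LD2_c9 LD3_c61)) :=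
  Lre_g IH (LK LD1_c6 LD2_c56 LD3_c0) (LK LD1_c13 LD2_c9 LD3_c61) Lrfl Lrfl
theorem f709121 : Led Lsl_gf (LP (LK LD1_c12 LD2_c4 LD3_c27)) = (LP (LK LD1_c13 LD2_c9 LD3_c61)) :=
  Lgr Lrot76 (Lpr_af (K52.f709093 IH) (Lpe (K3.f97768 IH) (Lpr_gt (f90162 IH) (Lpn (LP (LK LD1_c13 LD2_c9 LD3_c61))))))
theorem f674256 : Led Lsl_ct (LP (LK LD1_c21 LD2_c8 LD3_c6)) = (LP (LK LD1_c12 LD2_c4 LD3_c27)) :=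
  Lgr Lrot59 (Lpr_cf (K52.f674254 IH) (Lpn (LP (LK LD1_c12 LD2_c4 LD3_c27))))
theorem f61628 : Led Lsl_ct (LP (LK LD1_c6 LD2_c29 LD3_c32)) = (LP (LK LD1_c3 LD2_c12 LD3_c40)) :=
  Lre_c IH (LK LD1_c6 LD2_c29 LD3_c32) (LK LD1_c3 LD2_c12 LD3_c40) Lrfl Lrfl
theorem f61506 : Led Lsl_ct (LP (LK LD1_c3 LD2_c12 LD3_c38)) = (LP (LK LD1_c1 LD2_c32 LD3_c47)) :=
  Lre_c IH (LK LD1_c3 LD2_c12 LD3_c38) (LK LD1_c1 LD2_c32 LD3_c47) Lrfl Lrfl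
theorem f61422 : Led Lsl_bt (LP (LK LD1_c2 LD2_c49 LD3_c25)) = (LP (LK LD1_c1 LD2_c20 LD3_c53)) :=
  Lre_b IH (LK LD1_c2 LD2_c49 LD3_c25) (LK LD1_c1 LD2_c20 LD3_c53) Lrfl Lrfl
theorem f61423 : Led Lsl_ct (LP (LK LD1_c5 LD2_c47 LD3_c4)) = (LP (LK LD1_c2 LD2_c49 LD3_c25)) :=
  Lre_c IH (LK LD1_c5 LD2_c47 LD3_c4) (LK LD1_c2 LD2_c49 LD3_c25) Lrfl Lrfl
theorem f61424 : Led Lsl_bt (LP (LK LD1_c3 LD2_c12 LD3_c38)) = (LP (LK LD1_c5 LD2_c47 LD3_c4)) :=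
  Lgr Lrot128 (Lpe (K9.f61421 IH) (Lpe (K9.f61420 IH) (Lpr_cf (K2.f61278 IH) (Lpe (f61422 IH) (Lpe (f61423 IH) (Lpn (LP (LK LD1_c5 LD2_c47 LD3_c4))))))))
theorem f61629 : Led Lsl_bt (LP (LK LD1_c20 LD2_c22 LD3_c6)) = (LP (LK LD1_c11 LD2_c24 LD3_c19)) :=
  Lre_b IH (LK LD1_c20 LD2_c22 LD3_c6) (LK LD1_c11 LD2_c24 LD3_c19) Lrfl Lrfl
theorem f709123 : Led Lsl_ct (LP (LK LD1_c20 LD2_c22 LD3_c6)) = (LP (LK LD1_c13 LD2_c9 LD3_c61)) :=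
  Lgr Lrot64 (Lpr_bt (f61629 IH) (Lpe (K45.f61623 IH) (Lpe (f61424 IH) (Lpr_ct (f61506 IH) (Lpe (K49.f61606 IH) (Lpe (f61628 IH) (Lpr_gf (K49.f674248 IH) (Lpe (K52.f674253 IH) (Lpr_ct (f674256 IH) (Lpr_gf (f709121 IH) (Lpn (LP (LK LD1_c13 LD2_c9 LD3_c61)))))))))))))
theorem f714947 : Led Lsl_ct (LP (LK LD1_c11 LD2_c29 LD3_c61)) = (LP (LK LD1_c11 LD2_c25 LD3_c19)) :=
  Lgr Lrot8 (Lpe (K54.f158100 IH) (Lpr_dt (K54.f66387 IH) (Lpr_gt (K54.f158068 IH) (Lpe (K54.f206018 IH) (Lpe (K54.f709861 IH) (Lpe (K54.f74580 IH) (Lpr_gf (K54.f714943 IH) (Lpe (K54.f112340 IH) (Lpr_gf (K54.f117877 IH) (Lpn (LP (LK LD1_c11 LD2_c25 LD3_c19))))))))))))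
theorem f714977 : Led Lsl_bt (LP (LK LD1_c13 LD2_c9 LD3_c61)) = (LP (LK LD1_c11 LD2_c29 LD3_c61)) :=
  Lgr Lrot128 (Lpe (f709123 IH) (Lpe (f709125 IH) (Lpr_cf (K57.f714028 IH) (Lpr_bf (K54.f714973 IH) (Lpe (f714947 IH) (Lpn (LP (LK LD1_c11 LD2_c29 LD3_c61))))))))
theorem f740710 : Led Lsl_ff (LP (LK LD1_c13 LD2_c9 LD3_c61)) = (LP (LK LD1_c12 LD2_c33 LD3_c58)) :=
  Lgr Lrot25 (Lpr_bt (f714977 IH) (Lpr_ft (K55.f739915 IH) (Lpr_bt (K60.f740706 IH) (Lpn (LP (LK LD1_c12 LD2_c33 LD3_c58))))))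
theorem f126588 : Led Lsl_gt (LP (LK LD1_c6 LD2_c33 LD3_c24)) = (LP (LK LD1_c12 LD2_c33 LD3_c57)) :=
  Lre_g IH (LK LD1_c6 LD2_c33 LD3_c24) (LK LD1_c12 LD2_c33 LD3_c57) Lrfl Lrfl
theorem f740714 : Led Lsl_at (LP (LK LD1_c13 LD2_c9 LD3_c61)) = (LP (LK LD1_c12 LD2_c33 LD3_c57)) :=
  Lgr Lrot26 (Lpr_ff (f740710 IH) (Lpr_gt (K60.f127387 IH) (Lpr_gt (f126588 IH) (Lpn (LP (LK LD1_c12 LD2_c33 LD3_c57))))))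
theorem f428980 : Led Lsl_et (LP (LK LD1_c22 LD2_c22 LD3_c30)) = (LP (LK LD1_c13 LD2_c9 LD3_c61)) :=
  Lre_e IH (LK LD1_c22 LD2_c22 LD3_c30) (LK LD1_c13 LD2_c9 LD3_c61) Lrfl Lrfl
theorem f136440 : Led Lsl_et (LP (LK LD1_c12 LD2_c33 LD3_c57)) = (LP (LK LD1_c21 LD2_c40 LD3_c7)) :=
  Lre_e IH (LK LD1_c12 LD2_c33 LD3_c57) (LK LD1_c21 LD2_c40 LD3_c7) Lrfl Lrfl
theorem f740722 : Led Lsl_af (LP (LK LD1_c22 LD2_c22 LD3_c30)) = (LP (LK LD1_c21 LD2_c40 LD3_c7)) :=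
  Lgr Lrot50 (Lpr_et (f428980 IH) (Lpr_at (f740714 IH) (Lpr_et (f136440 IH) (Lpn (LP (LK LD1_c21 LD2_c40 LD3_c7))))))
theorem f714983 : Led Lsl_bf (LP (LK LD1_c22 LD2_c22 LD3_c30)) = (LP (LK LD1_c20 LD2_c27 LD3_c9)) :=
  Lgr Lrot96 (Lpr_et (f428980 IH) (Lpr_bt (f714977 IH) (Lpr_et (K57.f714951 IH) (Lpn (LP (LK LD1_c20 LD2_c27 LD3_c9))))))
theorem f714985 : Led Lsl_bt (LP (LK LD1_c22 LD2_c22 LD3_c30)) = (LP (LK LD1_c20 LD2_c27 LD3_c9)) :=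
  Lgr Lrot127 (Lpr_bf (f714983 IH) (Lpn (LP (LK LD1_c20 LD2_c27 LD3_c9))))
theorem f157989 : Led Lsl_et (LP (LK LD1_c20 LD2_c27 LD3_c9)) = (LP (LK LD1_c11 LD2_c29 LD3_c61)) :=
  Lre_e IH (LK LD1_c20 LD2_c27 LD3_c9) (LK LD1_c11 LD2_c29 LD3_c61) Lrfl Lrfl
theorem f739907 : Led Lsl_af (LP (LK LD1_c20 LD2_c27 LD3_c9)) = (LP (LK LD1_c14 LD2_c31 LD3_c1)) :=
  Lgr Lrot50 (Lpr_et (f157989 IH) (Lpr_at (K55.f739901 IH) (Lpr_et (K55.f66348 IH) (Lpn (LP (LK LD1_c14 LD2_c31 LD3_c1))))))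
theorem f740452 : Led Lsl_at (LP (LK LD1_c20 LD2_c27 LD3_c9)) = (LP (LK LD1_c14 LD2_c31 LD3_c1)) :=
  Lgr Lrot100 (Lpr_af (f739907 IH) (Lpn (LP (LK LD1_c14 LD2_c31 LD3_c1))))
theorem f136437 : Led Lsl_bt (LP (LK LD1_c30 LD2_c6 LD3_c55)) = (LP (LK LD1_c21 LD2_c40 LD3_c7)) :=
  Lre_b IH (LK LD1_c30 LD2_c6 LD3_c55) (LK LD1_c21 LD2_c40 LD3_c7) Lrfl Lrfl
theorem f740726 : Led Lsl_at (LP (LK LD1_c24 LD2_c12 LD3_c32)) = (LP (LK LD1_c30 LD2_c6 LD3_c55)) :=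
  Lgr Lrot67 (Lpe (K55.f715377 IH) (Lpe (f740452 IH) (Lpe (f714985 IH) (Lpr_af (f740722 IH) (Lpe (f136437 IH) (Lpn (LP (LK LD1_c30 LD2_c6 LD3_c55))))))))
theorem f713708 : Led Lsl_et (LP (LK LD1_c24 LD2_c12 LD3_c32)) = (LP (LK LD1_c14 LD2_c30 LD3_c61)) :=
  Lre_e IH (LK LD1_c24 LD2_c12 LD3_c32) (LK LD1_c14 LD2_c30 LD3_c61) Lrfl Lrfl
theorem f715371 : Led Lsl_ct (LP (LK LD1_c20 LD2_c17 LD3_c34)) = (LP (LK LD1_c24 LD2_c12 LD3_c32)) :=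
  Lgr Lrot15 (Lpr_ef (K55.f715369 IH) (Lpe (K55.f713702 IH) (Lpe (f713708 IH) (Lpn (LP (LK LD1_c24 LD2_c12 LD3_c32))))))
theorem f127382 : Led Lsl_bt (LP (LK LD1_c6 LD2_c33 LD3_c24)) = (LP (LK LD1_c3 LD2_c14 LD3_c61)) :=
  Lre_b IH (LK LD1_c6 LD2_c33 LD3_c24) (LK LD1_c3 LD2_c14 LD3_c61) Lrfl Lrfl
theorem f87337 : Led Lsl_bt (LP (LK LD1_c7 LD2_c39 LD3_c57)) = (LP (LK LD1_c3 LD2_c49 LD3_c31)) :=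
  Lre_b IH (LK LD1_c7 LD2_c39 LD3_c57) (LK LD1_c3 LD2_c49 LD3_c31) Lrfl Lrfl
theorem f87338 : Led Lsl_ct (LP (LK LD1_c7 LD2_c39 LD3_c57)) = (LP (LK LD1_c14 LD2_c26 LD3_c55)) :=
  Lre_c IH (LK LD1_c7 LD2_c39 LD3_c57) (LK LD1_c14 LD2_c26 LD3_c55) Lrfl Lrfl
theorem f709592 : Led Lsl_gf (LP (LK LD1_c12 LD2_c33 LD3_c53)) = (LP (LK LD1_c14 LD2_c26 LD3_c55)) :=
  Lgr Lrot126 (Lpe (K5.f127375 IH) (Lpr_bt (f127382 IH) (Lpr_gt (K51.f439940 IH) (Lpr_ct (K51.f709586 IH) (Lpe (K51.f440104 IH) (Lpr_cf (K58.f650088 IH) (Lpe (K58.f650087 IH) (Lpr_gt (K58.f442250 IH) (Lpe (f87337 IH) (Lpr_ct (f87338 IH) (Lpn (LP (LK LD1_c14 LD2_c26 LD3_c55)))))))))))))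
theorem f127372 : Led Lsl_af (LP (LK LD1_c12 LD2_c33 LD3_c53)) = (LP (LK LD1_c13 LD2_c9 LD3_c60)) :=
  Lgr Lrot0 (Lpr_at (K5.f127370 IH) (Lpn (LP (LK LD1_c13 LD2_c9 LD3_c60))))
theorem f97784 : Led Lsl_ft (LP (LK LD1_c22 LD2_c22 LD3_c28)) = (LP (LK LD1_c13 LD2_c9 LD3_c60)) :=
  Lre_f IH (LK LD1_c22 LD2_c22 LD3_c28) (LK LD1_c13 LD2_c9 LD3_c60) Lrfl Lrfl
theorem f709594 : Led Lsl_gt (LP (LK LD1_c22 LD2_c22 LD3_c28)) = (LP (LK LD1_c14 LD2_c26 LD3_c55)) :=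
  Lgr Lrot5 (Lpr_ft (f97784 IH) (Lpe (f127372 IH) (Lpr_gf (f709592 IH) (Lpn (LP (LK LD1_c14 LD2_c26 LD3_c55))))))
theorem f89957 : Led Lsl_ct (LP (LK LD1_c13 LD2_c10 LD3_c2)) = (LP (LK LD1_c22 LD2_c22 LD3_c28)) :=
  Lre_c IH (LK LD1_c13 LD2_c10 LD3_c2) (LK LD1_c22 LD2_c22 LD3_c28) Lrfl Lrfl
theorem f709097 : Led Lsl_ff (LP (LK LD1_c12 LD2_c4 LD3_c27)) = (LP (LK LD1_c6 LD2_c33 LD3_c24)) :=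
  Lgr Lrot3 (Lpr_ft (K52.f709091 IH) (Lpn (LP (LK LD1_c6 LD2_c33 LD3_c24))))
theorem f709087 : Led Lsl_at (LP (LK LD1_c12 LD2_c4 LD3_c27)) = (LP (LK LD1_c13 LD2_c10 LD3_c2)) :=
  Lgr Lrot80 (Lpr_ef (K52.f709085 IH) (Lpr_af (K52.f127216 IH) (Lpe (K3.f97771 IH) (Lpn (LP (LK LD1_c13 LD2_c10 LD3_c2))))))
theorem f709105 : Led Lsl_gf (LP (LK LD1_c13 LD2_c10 LD3_c2)) = (LP (LK LD1_c12 LD2_c33 LD3_c57)) :=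
  Lgr Lrot76 (Lpe (f709087 IH) (Lpr_ff (f709097 IH) (Lpr_gt (f126588 IH) (Lpn (LP (LK LD1_c12 LD2_c33 LD3_c57))))))
theorem f507861 : Led Lsl_bt (LP (LK LD1_c21 LD2_c40 LD3_c5)) = (LP (LK LD1_c12 LD2_c33 LD3_c57)) :=
  Lre_b IH (LK LD1_c21 LD2_c40 LD3_c5) (LK LD1_c12 LD2_c33 LD3_c57) Lrfl Lrfl
theorem f87277 : Led Lsl_bt (LP (LK LD1_c3 LD2_c49 LD3_c25)) = (LP (LK LD1_c1 LD2_c51 LD3_c46)) :=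
  Lre_b IH (LK LD1_c3 LD2_c49 LD3_c25) (LK LD1_c1 LD2_c51 LD3_c46) Lrfl Lrfl
theorem f87196 : Led Lsl_ct (LP (LK LD1_c3 LD2_c49 LD3_c25)) = (LP (LK LD1_c7 LD2_c39 LD3_c40)) :=
  Lre_c IH (LK LD1_c3 LD2_c49 LD3_c25) (LK LD1_c7 LD2_c39 LD3_c40) Lrfl Lrfl
theorem f87288 : Led Lsl_gt (LP (LK LD1_c7 LD2_c39 LD3_c40)) = (LP (LK LD1_c14 LD2_c26 LD3_c10)) :=
  Lre_g IH (LK LD1_c7 LD2_c39 LD3_c40) (LK LD1_c14 LD2_c26 LD3_c10) Lrfl Lrfl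
theorem f709608 : Led Lsl_ct (LP (LK LD1_c21 LD2_c40 LD3_c5)) = (LP (LK LD1_c14 LD2_c26 LD3_c10)) :=
  Lgr Lrot10 (Lpr_bt (f507861 IH) (Lpe (f709105 IH) (Lpr_ct (f89957 IH) (Lpr_gt (f709594 IH) (Lpe (f87338 IH) (Lpr_bt (f87337 IH) (Lpr_gt (K58.f87233 IH) (Lpe (f87277 IH) (Lpr_ct (f87196 IH) (Lpr_gt (f87288 IH) (Lpn (LP (LK LD1_c14 LD2_c26 LD3_c10)))))))))))))
theorem f709613 : Led Lsl_et (LP (LK LD1_c30 LD2_c6 LD3_c55)) = (LP (LK LD1_c21 LD2_c40 LD3_c5)) :=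
  Lre_e IH (LK LD1_c30 LD2_c6 LD3_c55) (LK LD1_c21 LD2_c40 LD3_c5) Lrfl Lrfl
theorem f709614 : Led Lsl_et (LP (LK LD1_c14 LD2_c26 LD3_c10)) = (LP (LK LD1_c24 LD2_c6 LD3_c12)) :=
  Lre_e IH (LK LD1_c14 LD2_c26 LD3_c10) (LK LD1_c24 LD2_c6 LD3_c12) Lrfl Lrfl
theorem f709615 : Led Lsl_cf (LP (LK LD1_c30 LD2_c6 LD3_c55)) = (LP (LK LD1_c24 LD2_c6 LD3_c12)) :=
  Lgr Lrot39 (Lpr_et (f709613 IH) (Lpr_ct (f709608 IH) (Lpr_et (f709614 IH) (Lpn (LP (LK LD1_c24 LD2_c6 LD3_c12))))))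
theorem f709617 : Led Lsl_ct (LP (LK LD1_c30 LD2_c6 LD3_c55)) = (LP (LK LD1_c24 LD2_c6 LD3_c12)) :=
  Lgr Lrot59 (Lpr_cf (f709615 IH) (Lpn (LP (LK LD1_c24 LD2_c6 LD3_c12))))
theorem f740734 : Led Lsl_af (LP (LK LD1_c20 LD2_c17 LD3_c34)) = (LP (LK LD1_c24 LD2_c6 LD3_c12)) :=
  Lgr Lrot68 (Lpr_ct (f715371 IH) (Lpr_at (f740726 IH) (Lpr_ct (f709617 IH) (Lpn (LP (LK LD1_c24 LD2_c6 LD3_c12))))))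
theorem f740738 : Led Lsl_at (LP (LK LD1_c24 LD2_c5 LD3_c57)) = (LP (LK LD1_c14 LD2_c26 LD3_c10)) :=
  Lgr Lrot80 (Lpe (K55.f715373 IH) (Lpr_af (f740734 IH) (Lpe (f709614 IH) (Lpn (LP (LK LD1_c14 LD2_c26 LD3_c10))))))
theorem f87289 : Led Lsl_gt (LP (LK LD1_c14 LD2_c26 LD3_c11)) = (LP (LK LD1_c7 LD2_c39 LD3_c40)) :=
  Lre_g IH (LK LD1_c14 LD2_c26 LD3_c11) (LK LD1_c7 LD2_c39 LD3_c40) Lrfl Lrfl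
theorem f740742 : Led Lsl_ff (LP (LK LD1_c24 LD2_c5 LD3_c57)) = (LP (LK LD1_c14 LD2_c26 LD3_c11)) :=
  Lgr Lrot52 (Lpr_at (f740738 IH) (Lpe (f87288 IH) (Lpe (f87289 IH) (Lpn (LP (LK LD1_c14 LD2_c26 LD3_c11))))))
theorem f158112 : Led Lsl_bt (LP (LK LD1_c20 LD2_c27 LD3_c10)) = (LP (LK LD1_c11 LD2_c30 LD3_c0)) :=
  Lre_b IH (LK LD1_c20 LD2_c27 LD3_c10) (LK LD1_c11 LD2_c30 LD3_c0) Lrfl Lrfl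
theorem f713704 : Led Lsl_bt (LP (LK LD1_c7 LD2_c42 LD3_c10)) = (LP (LK LD1_c14 LD2_c30 LD3_c61)) :=
  Lre_b IH (LK LD1_c7 LD2_c42 LD3_c10) (LK LD1_c14 LD2_c30 LD3_c61) Lrfl Lrfl
theorem f739933 : Led Lsl_ff (LP (LK LD1_c20 LD2_c27 LD3_c10)) = (LP (LK LD1_c14 LD2_c30 LD3_c61)) :=
  Lgr Lrot25 (Lpr_bt (f158112 IH) (Lpr_ft (K55.f739931 IH) (Lpr_bt (f713704 IH) (Lpn (LP (LK LD1_c14 LD2_c30 LD3_c61))))))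
theorem f740746 : Led Lsl_ct (LP (LK LD1_c20 LD2_c27 LD3_c10)) = (LP (LK LD1_c14 LD2_c26 LD3_c11)) :=
  Lgr Lrot40 (Lpr_ff (f739933 IH) (Lpr_cf (K55.f713705 IH) (Lpr_ff (f740742 IH) (Lpn (LP (LK LD1_c14 LD2_c26 LD3_c11))))))
theorem f87223 : Led Lsl_ct (LP (LK LD1_c3 LD2_c49 LD3_c30)) = (LP (LK LD1_c7 LD2_c39 LD3_c54)) :=
  Lre_c IH (LK LD1_c3 LD2_c49 LD3_c30) (LK LD1_c7 LD2_c39 LD3_c54) Lrfl Lrfl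
theorem f740755 : Led Lsl_gf (LP (LK LD1_c6 LD2_c36 LD3_c59)) = (LP (LK LD1_c7 LD2_c39 LD3_c54)) :=
  Lgr Lrot129 (Lpr_cf (K3.f66176 IH) (Lpr_bt (K6.f66241 IH) (Lpr_gt (K53.f158108 IH) (Lpe (f158112 IH) (Lpr_ct (f740746 IH) (Lpr_gt (f87289 IH) (Lpe (f87196 IH) (Lpr_bt (f87277 IH) (Lpr_gt (K52.f87216 IH) (Lpr_ct (f87223 IH) (Lpn (LP (LK LD1_c7 LD2_c39 LD3_c54)))))))))))))
theorem f740757 : Led Lsl_gt (LP (LK LD1_c6 LD2_c35 LD3_c17)) = (LP (LK LD1_c7 LD2_c39 LD3_c54)) :=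
  Lgr Lrot5 (Lpr_ft (K3.f93585 IH) (Lpr_at (K3.f110153 IH) (Lpr_gf (f740755 IH) (Lpn (LP (LK LD1_c7 LD2_c39 LD3_c54))))))
theorem f63913 : Led Lsl_dt (LP (LK LD1_c7 LD2_c35 LD3_c45)) = (LP (LK LD1_c14 LD2_c19 LD3_c12)) :=
  Lre_d IH (LK LD1_c7 LD2_c35 LD3_c45) (LK LD1_c14 LD2_c19 LD3_c12) Lrfl Lrfl
theorem f93572 : Led Lsl_gt (LP (LK LD1_c14 LD2_c19 LD3_c12)) = (LP (LK LD1_c14 LD2_c38 LD3_c0)) :=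
  Lre_g IH (LK LD1_c14 LD2_c19 LD3_c12) (LK LD1_c14 LD2_c38 LD3_c0) Lrfl Lrfl
theorem f93573 : Led Lsl_dt (LP (LK LD1_c14 LD2_c38 LD3_c0)) = (LP (LK LD1_c7 LD2_c45 LD3_c26)) :=
  Lre_d IH (LK LD1_c14 LD2_c38 LD3_c0) (LK LD1_c7 LD2_c45 LD3_c26) Lrfl Lrfl
theorem f93574 : Led Lsl_ct (LP (LK LD1_c7 LD2_c45 LD3_c26)) = (LP (LK LD1_c14 LD2_c37 LD3_c59)) :=
  Lre_c IH (LK LD1_c7 LD2_c45 LD3_c26) (LK LD1_c14 LD2_c37 LD3_c59) Lrfl Lrfl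
theorem f87229 : Led Lsl_dt (LP (LK LD1_c7 LD2_c39 LD3_c54)) = (LP (LK LD1_c14 LD2_c26 LD3_c45)) :=
  Lre_d IH (LK LD1_c7 LD2_c39 LD3_c54) (LK LD1_c14 LD2_c26 LD3_c45) Lrfl Lrfl
theorem f740760 : Led Lsl_gt (LP (LK LD1_c14 LD2_c26 LD3_c45)) = (LP (LK LD1_c24 LD2_c7 LD3_c7)) :=
  Lre_g IH (LK LD1_c14 LD2_c26 LD3_c45) (LK LD1_c24 LD2_c7 LD3_c7) Lrfl Lrfl
theorem f740773 : Led Lsl_df (LP (LK LD1_c14 LD2_c37 LD3_c59)) = (LP (LK LD1_c24 LD2_c7 LD3_c7)) :=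
  Lgr Lrot84 (Lpe (f93574 IH) (Lpe (f93573 IH) (Lpe (f93572 IH) (Lpe (f63913 IH) (Lpe (K52.f63866 IH) (Lpr_cf (K3.f93548 IH) (Lpr_gt (f740757 IH) (Lpr_dt (f87229 IH) (Lpr_gt (f740760 IH) (Lpn (LP (LK LD1_c24 LD2_c7 LD3_c7))))))))))))
theorem f740777 : Led Lsl_dt (LP (LK LD1_c14 LD2_c37 LD3_c59)) = (LP (LK LD1_c24 LD2_c7 LD3_c7)) :=
  Lgr Lrot42 (Lpr_df (f740773 IH) (Lpn (LP (LK LD1_c24 LD2_c7 LD3_c7))))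
theorem f740779 : Led Lsl_et (LP (LK LD1_c14 LD2_c37 LD3_c59)) = (LP (LK LD1_c7 LD2_c45 LD3_c24)) :=
  Lre_e IH (LK LD1_c14 LD2_c37 LD3_c59) (LK LD1_c7 LD2_c45 LD3_c24) Lrfl Lrfl
theorem f96060 : Led Lsl_gf (LP (LK LD1_c1 LD2_c34 LD3_c45)) = (LP (LK LD1_c1 LD2_c49 LD3_c42)) :=
  Lgr Lrot143 (Lpr_dt (K4.f93522 IH) (Lpe (K3.f93520 IH) (Lpe (K3.f15628 IH) (Lpe (K3.f15627 IH) (Lpe (K8.f11263 IH) (Lpe (K3.f63802 IH) (Lpe (K3.f96052 IH) (Lpr_gt (K3.f96057 IH) (Lpr_dt (K3.f93368 IH) (Lpn (LP (LK LD1_c1 LD2_c49 LD3_c42))))))))))))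
theorem f740784 : Led Lsl_gt (LP (LK LD1_c7 LD2_c45 LD3_c24)) = (LP (LK LD1_c7 LD2_c31 LD3_c8)) :=
  Lgr Lrot131 (Lpe (f740779 IH) (Lpr_dt (f740777 IH) (Lpe (f740760 IH) (Lpe (f87229 IH) (Lpe (f740757 IH) (Lpe (K3.f93547 IH) (Lpr_dt (K3.f93519 IH) (Lpr_gf (f96060 IH) (Lpe (K3.f93368 IH) (Lpr_et (K24.f93396 IH) (Lpn (LP (LK LD1_c7 LD2_c31 LD3_c8)))))))))))))
theorem f667127 : Led Lsl_dt (LP (LK LD1_c14 LD2_c37 LD3_c58)) = (LP (LK LD1_c7 LD2_c45 LD3_c24)) :=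
  Lre_d IH (LK LD1_c14 LD2_c37 LD3_c58) (LK LD1_c7 LD2_c45 LD3_c24) Lrfl Lrfl
theorem f801198 : Led Lsl_df K59.v17000 = v22087 :=
  Lgr Lrot84 (Lpe (K59.f754112 IH) (Lpe (K49.f103214 IH) (Lpe (K46.f103213 IH) (Lpe (K46.f110218 IH) (Lpe (K32.f62965 IH) (Lpe (K59.f453918 IH) (Lpr_gt (K34.f527810 IH) (Lpr_dt (K48.f436568 IH) (Lpr_gt (f801196 IH) (Lpn v22087))))))))))
theorem f777049 : Led Lsl_et (LP (LK LD1_c6 LD2_c40 LD3_c50)) = (LP (LK LD1_c12 LD2_c47 LD3_c13)) :=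
  Lre_e IH (LK LD1_c6 LD2_c40 LD3_c50) (LK LD1_c12 LD2_c47 LD3_c13) Lrfl Lrfl
theorem f779134 : Led Lsl_gt (LP (LK LD1_c12 LD2_c47 LD3_c13)) = (LP (LK LD1_c21 LD2_c54 LD3_c40)) :=
  Lre_g IH (LK LD1_c12 LD2_c47 LD3_c13) (LK LD1_c21 LD2_c54 LD3_c40) Lrfl Lrfl
theorem f801200 : Led Lsl_et (LP (LK LD1_c14 LD2_c37 LD3_c58)) = (LP (LK LD1_c21 LD2_c54 LD3_c40)) :=
  Lgr Lrot122 (Lpr_dt (f667127 IH) (Lpr_gt (f740784 IH) (Lpe (f93403 IH) (Lpr_et (f436574 IH) (Lpr_gt (f801196 IH) (Lpe (f801198 IH) (Lpr_gt (K61.f779135 IH) (Lpe (K61.f779127 IH) (Lpr_et (f777049 IH) (Lpr_gt (f779134 IH) (Lpn (LP (LK LD1_c21 LD2_c54 LD3_c40)))))))))))))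
theorem f801201 : Led Lsl_et (LP (LK LD1_c14 LD2_c37 LD3_c58)) = (LP (LK LD1_c21 LD2_c54 LD3_c40)) :=
  Leop (Lpe (f801200 IH) (Lpn (LP (LK LD1_c14 LD2_c37 LD3_c58))))
theorem seed_1666 : LEOK LG_e (LK LD1_c14 LD2_c37 LD3_c58) :=
  Leoe_e (LK LD1_c14 LD2_c37 LD3_c58) (f801201 IH)
theorem f113056 : Led Lsl_ct (LP (LK LD1_c6 LD2_c40 LD3_c33)) = (LP (LK LD1_c3 LD2_c18 LD3_c17)) :=
  Lre_c IH (LK LD1_c6 LD2_c40 LD3_c33) (LK LD1_c3 LD2_c18 LD3_c17) Lrfl Lrfl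
theorem f801199 : Led Lsl_cf (LP (LK LD1_c12 LD2_c38 LD3_c21)) = v22087 :=
  Lgr Lrot169 (Lpr_gt (K57.f754971 IH) (Lpr_ct (f113056 IH) (Lpe (K48.f113049 IH) (Lpe (K46.f414280 IH) (Lpe (K32.f62086 IH) (Lpe (K49.f62120 IH) (Lpe (K59.f624363 IH) (Lpe (K48.f124474 IH) (Lpr_gt (f801196 IH) (Lpn v22087))))))))))
theorem f801205 : Led Lsl_ct (LP (LK LD1_c12 LD2_c38 LD3_c21)) = v22087 :=
  Lgr Lrot59 (Lpr_cf (f801199 IH) (Lpn v22087))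
theorem f113045 : Led Lsl_ct (LP (LK LD1_c3 LD2_c16 LD3_c21)) = (LP (LK LD1_c6 LD2_c36 LD3_c7)) :=
  Lre_c IH (LK LD1_c3 LD2_c16 LD3_c21) (LK LD1_c6 LD2_c36 LD3_c7) Lrfl Lrfl
theorem f754116 : Led Lsl_ft (LP (LK LD1_c6 LD2_c11 LD3_c32)) = K59.v17000 :=
  Lgr Lrot48 (Lpr_ff (K59.f754115 IH) (Lpn K59.v17000))
theorem f669923 : Led Lsl_cf K46.v1788 = K59.v8084 :=
  Lgr Lrot11 (Lpr_ct (K59.f669922 IH) (Lpn K59.v8084))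
theorem f754113 : Led Lsl_af K59.v8084 = K59.v17000 :=
  Lgr Lrot68 (Lpe (f669923 IH) (Lpr_at (K59.f646732 IH) (Lpqs (K49.f663219 IH) (Lpr_ct (K59.f754112 IH) (Lpn K59.v17000)))))
theorem f754117 : Led Lsl_gt K59.v10725 = K59.v8084 :=
  Lgr Lrot46 (Lpe (K59.f681526 IH) (Lpr_ft (f754116 IH) (Lpe (f754113 IH) (Lpn K59.v8084))))
theorem f681516 : Led Lsl_ct K56.v3445 = K59.v10725 :=
  Lgr Lrot15 (Lpe (K56.f625674 IH) (Lpr_cf (K59.f625671 IH) (Lpr_ef (K59.f681515 IH) (Lpn K59.v10725))))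
def v10727 : LQ := Led Lsl_gf K56.v3445
theorem f681519 : Led Lsl_gf K56.v3445 = v10727 :=
  Lrfl
theorem f754118 : v10727 = K48.v7344 :=
  (Llr Lrot147 (Lpe (f681519 IH) (Lpr_ct (f681516 IH) (Lpr_gt (f754117 IH) (Lpe (f669923 IH) (Lpe (K46.f502904 IH) (Lpe (K32.f502895 IH) (Lpr_gf (K46.f646608 IH) (Lpq (K46.f646618 IH) (Lpe (K48.f130883 IH) (Lpe (K46.f93354 IH) (Lpr_df (K48.f664659 IH) (Lpn K48.v7344))))))))))))).symm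
theorem f754119 : Led Lsl_gt (LP (LK LD1_c12 LD2_c2 LD3_c46)) = K56.v9394 :=
  Lgr Lrot180 (Lpr_ct (K48.f664660 IH) (Lpq (f754118 IH) (Lpe (f681519 IH) (Lpr_dt (K56.f681520 IH) (Lpe (K56.f681523 IH) (Lpr_dt (K56.f416433 IH) (Lpr_ct (K46.f416426 IH) (Lpe (K57.f416436 IH) (Lpe (K46.f651340 IH) (Lpr_df (K56.f675668 IH) (Lpn K56.v9394)))))))))))
theorem f801206 : Led Lsl_dt K59.v17000 = v22087 :=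
  Lgr Lrot27 (Lpe (K59.f754112 IH) (Lpe (K59.f651734 IH) (Lpr_cf (K56.f675673 IH) (Lpe (f754119 IH) (Lpe (K48.f113038 IH) (Lpr_gt (K48.f113031 IH) (Lpr_ct (f113045 IH) (Lpr_gt (K57.f113046 IH) (Lpr_ct (f801205 IH) (Lpn v22087))))))))))
theorem f508920 : Led Lsl_dt (LP (LK LD1_c12 LD2_c3 LD3_c6)) = (LP (LK LD1_c6 LD2_c11 LD3_c32)) :=
  Lre_d IH (LK LD1_c12 LD2_c3 LD3_c6) (LK LD1_c6 LD2_c11 LD3_c32) Lrfl Lrfl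
theorem f801208 : Led Lsl_ff (LP (LK LD1_c12 LD2_c3 LD3_c6)) = v22087 :=
  Lgr Lrot19 (Lpr_dt (f508920 IH) (Lpr_ft (f754116 IH) (Lpr_dt (f801206 IH) (Lpn v22087))))
def v19285 : LQ := Led Lsl_at (LP (LK LD1_c6 LD2_c40 LD3_c29))
theorem f778952 : Led Lsl_at (LP (LK LD1_c6 LD2_c40 LD3_c29)) = v19285 :=
  Lrfl
theorem f778953 : Led Lsl_af (LP (LK LD1_c6 LD2_c40 LD3_c29)) = v19285 :=
  Lgr Lrot0 (Lpr_at (f778952 IH) (Lpn v19285))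
theorem f778954 : Led Lsl_ft (LP (LK LD1_c6 LD2_c40 LD3_c30)) = v19285 :=
  Lgr Lrot2 (Lpr_gt (K32.f508895 IH) (Lpr_gt (K57.f651416 IH) (Lpr_af (f778953 IH) (Lpn v19285))))
theorem f801210 : v19285 = (LP (LK LD1_c12 LD2_c38 LD3_c21)) :=
  (Llr Lrot4 (Lpe (f778954 IH) (Lpe (K32.f508896 IH) (Lpr_ff (f801208 IH) (Lpe (f801205 IH) (Lpn (LP (LK LD1_c12 LD2_c38 LD3_c21)))))))).symm
theorem f801211 : Led Lsl_at (LP (LK LD1_c12 LD2_c38 LD3_c21)) = (LP (LK LD1_c6 LD2_c40 LD3_c29)) :=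
  Leop (Lpr_af (f778953 IH) (Lpqs (f801210 IH) (Lpn (LP (LK LD1_c12 LD2_c38 LD3_c21)))))
theorem seed_1667 : LEOK LG_a (LK LD1_c12 LD2_c38 LD3_c21) :=
  Leoe_a (LK LD1_c12 LD2_c38 LD3_c21) (f801211 IH)
def v22091 : LQ := Led Lsl_ft (LP (LK LD1_c7 LD2_c31 LD3_c14))
theorem f801245 : Led Lsl_ft (LP (LK LD1_c7 LD2_c31 LD3_c14)) = v22091 :=
  Lrfl
theorem f801248 : Led Lsl_ff (LP (LK LD1_c7 LD2_c31 LD3_c14)) = v22091 :=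
  Lgr Lrot3 (Lpr_ft (f801245 IH) (Lpn v22091))
theorem f527899 : Led Lsl_ct (LP (LK LD1_c7 LD2_c31 LD3_c14)) = (LP (LK LD1_c3 LD2_c45 LD3_c32)) :=
  Lre_c IH (LK LD1_c7 LD2_c31 LD3_c14) (LK LD1_c3 LD2_c45 LD3_c32) Lrfl Lrfl
theorem f442183 : Led Lsl_ft (LP (LK LD1_c3 LD2_c45 LD3_c32)) = (LP (LK LD1_c7 LD2_c31 LD3_c45)) :=
  Lre_f IH (LK LD1_c3 LD2_c45 LD3_c32) (LK LD1_c7 LD2_c31 LD3_c45) Lrfl Lrfl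
theorem f801250 : Led Lsl_ct (LP (LK LD1_c7 LD2_c31 LD3_c45)) = v22091 :=
  Lgr Lrot40 (Lpe (f442183 IH) (Lpe (f527899 IH) (Lpr_ff (f801248 IH) (Lpn v22091))))
theorem f105410 : Led Lsl_bt (LP (LK LD1_c7 LD2_c31 LD3_c45)) = (LP (LK LD1_c3 LD2_c45 LD3_c34)) :=
  Lre_b IH (LK LD1_c7 LD2_c31 LD3_c45) (LK LD1_c3 LD2_c45 LD3_c34) Lrfl Lrfl
theorem f631927 : Led Lsl_bt (LP (LK LD1_c17 LD2_c3 LD3_c56)) = (LP (LK LD1_c9 LD2_c10 LD3_c41)) :=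
  Lre_b IH (LK LD1_c17 LD2_c3 LD3_c56) (LK LD1_c9 LD2_c10 LD3_c41) Lrfl Lrfl
theorem f711483 : Led Lsl_bt (LP (LK LD1_c16 LD2_c58 LD3_c27)) = (LP (LK LD1_c9 LD2_c6 LD3_c32)) :=
  Lre_b IH (LK LD1_c16 LD2_c58 LD3_c27) (LK LD1_c9 LD2_c6 LD3_c32) Lrfl Lrfl
theorem f711505 : Led Lsl_bt (LP (LK LD1_c9 LD2_c10 LD3_c41)) = (LP (LK LD1_c17 LD2_c3 LD3_c56)) :=
  Lre_b IH (LK LD1_c9 LD2_c10 LD3_c41) (LK LD1_c17 LD2_c3 LD3_c56) Lrfl Lrfl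
theorem f711506 : Led Lsl_cf (LP (LK LD1_c16 LD2_c58 LD3_c27)) = (LP (LK LD1_c17 LD2_c3 LD3_c56)) :=
  Lgr Lrot97 (Lpr_bt (f711483 IH) (Lpr_ct (K52.f25282 IH) (Lpr_bt (K55.f699679 IH) (Lpr_ct (K55.f711492 IH) (Lpr_bt (f711505 IH) (Lpn (LP (LK LD1_c17 LD2_c3 LD3_c56))))))))
theorem f801251 : Led Lsl_gf (LP (LK LD1_c16 LD2_c58 LD3_c27)) = v22091 :=
  Lgr Lrot126 (Lpr_cf (f711506 IH) (Lpr_bt (f631927 IH) (Lpr_gt (K55.f438122 IH) (Lpr_ct (K55.f206828 IH) (Lpr_gt (K50.f631924 IH) (Lpq (K50.f642780 IH) (Lpe (K45.f71365 IH) (Lpr_bt (K58.f504742 IH) (Lpq (K59.f771852 IH) (Lpq (K59.f754522 IH) (Lpqs (K56.f651968 IH) (Lpe (K56.f646555 IH) (Lpe (f105410 IH) (Lpr_ct (f801250 IH) (Lpn v22091)))))))))))))))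
theorem f650020 : Led Lsl_at (LP (LK LD1_c7 LD2_c31 LD3_c14)) = (LP (LK LD1_c14 LD2_c11 LD3_c39)) :=
  Lre_a IH (LK LD1_c7 LD2_c31 LD3_c14) (LK LD1_c14 LD2_c11 LD3_c39) Lrfl Lrfl
theorem f801252 : Led Lsl_gt (LP (LK LD1_c16 LD2_c58 LD3_c27)) = (LP (LK LD1_c14 LD2_c11 LD3_c39)) :=
  Lgr Lrot46 (Lpr_gf (f801251 IH) (Lpe (f801248 IH) (Lpr_at (f650020 IH) (Lpn (LP (LK LD1_c14 LD2_c11 LD3_c39))))))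
theorem f801253 : Led Lsl_gt (LP (LK LD1_c16 LD2_c58 LD3_c27)) = (LP (LK LD1_c14 LD2_c11 LD3_c39)) :=
  Leop (Lpe (f801252 IH) (Lpn (LP (LK LD1_c16 LD2_c58 LD3_c27))))
theorem seed_1668 : LEOK LG_g (LK LD1_c16 LD2_c58 LD3_c27) :=
  Leoe_g (LK LD1_c16 LD2_c58 LD3_c27) (f801253 IH)
def v22092 : LQ := Led Lsl_gt (LP (LK LD1_c7 LD2_c31 LD3_c16))
theorem f801254 : Led Lsl_gt (LP (LK LD1_c7 LD2_c31 LD3_c16)) = v22092 :=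
  Lrfl
theorem f85080 : Led Lsl_dt (LP (LK LD1_c3 LD2_c45 LD3_c15)) = (LP (LK LD1_c7 LD2_c31 LD3_c16)) :=
  Lre_d IH (LK LD1_c3 LD2_c45 LD3_c15) (LK LD1_c7 LD2_c31 LD3_c16) Lrfl Lrfl
theorem f25389 : Led Lsl_ct (LP (LK LD1_c4 LD2_c44 LD3_c22)) = (LP (LK LD1_c2 LD2_c20 LD3_c10)) :=
  Lre_c IH (LK LD1_c4 LD2_c44 LD3_c22) (LK LD1_c2 LD2_c20 LD3_c10) Lrfl Lrfl
def v4371 : LQ := Led Lsl_dt (LP (LK LD1_c2 LD2_c20 LD3_c9))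
theorem f632984 : Led Lsl_dt (LP (LK LD1_c2 LD2_c20 LD3_c9)) = v4371 :=
  Lrfl
theorem f708792 : K51.v2199 = v4371 :=
  Lefun (Lecon (Lfl_df (K51.f672267 IH)) (K51.f708791 IH)) (f632984 IH)
def v8777 : LQ := Led Lsl_ct K51.v2199
theorem f672264 : Led Lsl_ct K51.v2199 = v8777 :=
  Lrfl
theorem f801255 : Led Lsl_df v8777 = v22092 :=
  Lgr Lrot84 (Lpe (f672264 IH) (Lpqs (f708792 IH) (Lpe (f632984 IH) (Lpe (K50.f25228 IH) (Lpr_df (K24.f144049 IH) (Lpe (K51.f25260 IH) (Lpe (f25389 IH) (Lpq (K59.f773119 IH) (Lpe (K59.f664608 IH) (Lpr_dt (f85080 IH) (Lpr_gt (f801254 IH) (Lpn v22092))))))))))))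
theorem f414559 : Led Lsl_ct (LP (LK LD1_c3 LD2_c21 LD3_c45)) = (LP (LK LD1_c1 LD2_c37 LD3_c8)) :=
  Lre_c IH (LK LD1_c3 LD2_c21 LD3_c45) (LK LD1_c1 LD2_c37 LD3_c8) Lrfl Lrfl
theorem f25330 : Led Lsl_ct (LP (LK LD1_c4 LD2_c44 LD3_c19)) = (LP (LK LD1_c9 LD2_c21 LD3_c30)) :=
  Lre_c IH (LK LD1_c4 LD2_c44 LD3_c19) (LK LD1_c9 LD2_c21 LD3_c30) Lrfl Lrfl
theorem f25359 : Led Lsl_gt (LP (LK LD1_c9 LD2_c21 LD3_c30)) = (LP (LK LD1_c17 LD2_c17 LD3_c37)) :=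
  Lre_g IH (LK LD1_c9 LD2_c21 LD3_c30) (LK LD1_c17 LD2_c17 LD3_c37) Lrfl Lrfl
theorem f801257 : Led Lsl_ct (LP (LK LD1_c17 LD2_c17 LD3_c37)) = v22092 :=
  Lgr Lrot110 (Lpe (f25359 IH) (Lpe (f25330 IH) (Lpe (K52.f25347 IH) (Lpe (K52.f715733 IH) (Lpr_gt (K52.f442858 IH) (Lpr_ct (f414559 IH) (Lpr_gt (K51.f509574 IH) (Lpr_ct (f672264 IH) (Lpr_df (f801255 IH) (Lpn v22092))))))))))
theorem f672265 : Led Lsl_cf K51.v2199 = v8777 :=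
  Lgr Lrot11 (Lpr_ct (f672264 IH) (Lpn v8777))
theorem f632997 : Led Lsl_ct (LP (LK LD1_c9 LD2_c21 LD3_c34)) = (LP (LK LD1_c17 LD2_c17 LD3_c46)) :=
  Lre_c IH (LK LD1_c9 LD2_c21 LD3_c34) (LK LD1_c17 LD2_c17 LD3_c46) Lrfl Lrfl
theorem f801260 : Led Lsl_df (LP (LK LD1_c17 LD2_c17 LD3_c37)) = (LP (LK LD1_c17 LD2_c17 LD3_c46)) :=
  Lgr Lrot106 (Lpr_ct (f801257 IH) (Lpe (f801255 IH) (Lpe (f672265 IH) (Lpr_dt (K51.f672266 IH) (Lpqs (K51.f708791 IH) (Lpr_ct (K50.f25259 IH) (Lpr_af (K58.f703191 IH) (Lpe (K58.f703194 IH) (Lpr_dt (K51.f632939 IH) (Lpr_ct (f632997 IH) (Lpn (LP (LK LD1_c17 LD2_c17 LD3_c46)))))))))))))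
theorem f801261 : Led Lsl_dt (LP (LK LD1_c17 LD2_c17 LD3_c46)) = (LP (LK LD1_c17 LD2_c17 LD3_c37)) :=
  Leop (Lpr_df (f801260 IH) (Lpn (LP (LK LD1_c17 LD2_c17 LD3_c46))))
theorem seed_1669 : LEOK LG_d (LK LD1_c17 LD2_c17 LD3_c46) :=
  Leoe_d (LK LD1_c17 LD2_c17 LD3_c46) (f801261 IH)
theorem f801258 : Led Lsl_cf (LP (LK LD1_c17 LD2_c17 LD3_c37)) = v22092 :=
  Lgr Lrot11 (Lpr_ct (f801257 IH) (Lpn v22092))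
theorem f85078 : Led Lsl_ct (LP (LK LD1_c14 LD2_c11 LD3_c44)) = (LP (LK LD1_c7 LD2_c31 LD3_c16)) :=
  Lre_c IH (LK LD1_c14 LD2_c11 LD3_c44) (LK LD1_c7 LD2_c31 LD3_c16) Lrfl Lrfl
theorem f773135 : Led Lsl_gt (LP (LK LD1_c23 LD2_c47 LD3_c14)) = (LP (LK LD1_c14 LD2_c11 LD3_c44)) :=
  Lre_g IH (LK LD1_c23 LD2_c47 LD3_c14) (LK LD1_c14 LD2_c11 LD3_c44) Lrfl Lrfl
theorem f767184 : Led Lsl_ct (LP (LK LD1_c27 LD2_c7 LD3_c13)) = (LP (LK LD1_c17 LD2_c17 LD3_c40)) :=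
  Lre_c IH (LK LD1_c27 LD2_c7 LD3_c13) (LK LD1_c17 LD2_c17 LD3_c40) Lrfl Lrfl
theorem f649622 : Led Lsl_et (LP (LK LD1_c6 LD2_c29 LD3_c7)) = (LP (LK LD1_c12 LD2_c28 LD3_c36)) :=
  Lre_e IH (LK LD1_c6 LD2_c29 LD3_c7) (LK LD1_c12 LD2_c28 LD3_c36) Lrfl Lrfl
theorem f506684 : Led Lsl_dt (LP (LK LD1_c12 LD2_c28 LD3_c35)) = (LP (LK LD1_c6 LD2_c29 LD3_c7)) :=
  Lre_d IH (LK LD1_c12 LD2_c28 LD3_c35) (LK LD1_c6 LD2_c29 LD3_c7) Lrfl Lrfl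
theorem f649623 : Led Lsl_et (LP (LK LD1_c21 LD2_c35 LD3_c27)) = (LP (LK LD1_c12 LD2_c28 LD3_c35)) :=
  Lre_e IH (LK LD1_c21 LD2_c35 LD3_c27) (LK LD1_c12 LD2_c28 LD3_c35) Lrfl Lrfl
theorem f649624 : Led Lsl_et (LP (LK LD1_c6 LD2_c43 LD3_c34)) = (LP (LK LD1_c12 LD2_c51 LD3_c61)) :=
  Lre_e IH (LK LD1_c6 LD2_c43 LD3_c34) (LK LD1_c12 LD2_c51 LD3_c61) Lrfl Lrfl
theorem f649625 : Led Lsl_df (LP (LK LD1_c21 LD2_c35 LD3_c27)) = (LP (LK LD1_c12 LD2_c51 LD3_c61)) :=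
  Lgr Lrot70 (Lpr_et (f649623 IH) (Lpr_dt (f506684 IH) (Lpr_et (f649622 IH) (Lpr_dt (K60.f649615 IH) (Lpr_et (f649624 IH) (Lpn (LP (LK LD1_c12 LD2_c51 LD3_c61))))))))
theorem f437821 : Led Lsl_et (LP (LK LD1_c17 LD2_c17 LD3_c29)) = (LP (LK LD1_c9 LD2_c21 LD3_c24)) :=
  Lre_e IH (LK LD1_c17 LD2_c17 LD3_c29) (LK LD1_c9 LD2_c21 LD3_c24) Lrfl Lrfl
theorem f437823 : Led Lsl_df (LP (LK LD1_c17 LD2_c17 LD3_c29)) = (LP (LK LD1_c22 LD2_c0 LD3_c8)) :=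
  Lgr Lrot70 (Lpr_et (f437821 IH) (Lpr_dt (K51.f437820 IH) (Lpr_et (K52.f437819 IH) (Lpr_dt (K60.f437814 IH) (Lpr_et (K60.f437822 IH) (Lpn (LP (LK LD1_c22 LD2_c0 LD3_c8))))))))
theorem f437829 : Led Lsl_dt (LP (LK LD1_c17 LD2_c17 LD3_c29)) = (LP (LK LD1_c22 LD2_c0 LD3_c8)) :=
  Lgr Lrot42 (Lpr_df (f437823 IH) (Lpn (LP (LK LD1_c22 LD2_c0 LD3_c8))))
theorem f707954 : Led Lsl_at (LP (LK LD1_c21 LD2_c35 LD3_c27)) = (LP (LK LD1_c17 LD2_c17 LD3_c29)) :=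
  Lgr Lrot51 (Lpr_df (f649625 IH) (Lpr_af (K60.f707948 IH) (Lpe (f437829 IH) (Lpn (LP (LK LD1_c17 LD2_c17 LD3_c29))))))
theorem f632970 : Led Lsl_et (LP (LK LD1_c12 LD2_c28 LD3_c35)) = (LP (LK LD1_c21 LD2_c35 LD3_c27)) :=
  Lre_e IH (LK LD1_c12 LD2_c28 LD3_c35) (LK LD1_c21 LD2_c35 LD3_c27) Lrfl Lrfl
theorem f707958 : Led Lsl_af (LP (LK LD1_c12 LD2_c28 LD3_c35)) = (LP (LK LD1_c9 LD2_c21 LD3_c24)) :=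
  Lgr Lrot50 (Lpr_et (f632970 IH) (Lpr_at (f707954 IH) (Lpr_et (f437821 IH) (Lpn (LP (LK LD1_c9 LD2_c21 LD3_c24))))))
theorem f715775 : Led Lsl_ff (LP (LK LD1_c9 LD2_c21 LD3_c24)) = (LP (LK LD1_c12 LD2_c57 LD3_c26)) :=
  Lgr Lrot30 (Lpe (f707958 IH) (Lpe (K58.f707905 IH) (Lpr_at (K58.f708006 IH) (Lpn (LP (LK LD1_c12 LD2_c57 LD3_c26))))))
theorem f715785 : Led Lsl_ft (LP (LK LD1_c9 LD2_c21 LD3_c24)) = (LP (LK LD1_c12 LD2_c57 LD3_c26)) :=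
  Lgr Lrot48 (Lpr_ff (f715775 IH) (Lpn (LP (LK LD1_c12 LD2_c57 LD3_c26))))
theorem f715554 : Led Lsl_ct (LP (LK LD1_c12 LD2_c57 LD3_c26)) = (LP (LK LD1_c22 LD2_c7 LD3_c18)) :=
  Lre_c IH (LK LD1_c12 LD2_c57 LD3_c26) (LK LD1_c22 LD2_c7 LD3_c18) Lrfl Lrfl
theorem f715789 : Led Lsl_ff (LP (LK LD1_c17 LD2_c17 LD3_c28)) = (LP (LK LD1_c22 LD2_c7 LD3_c18)) :=
  Lgr Lrot23 (Lpr_ct (K52.f703156 IH) (Lpr_ft (f715785 IH) (Lpr_ct (f715554 IH) (Lpn (LP (LK LD1_c22 LD2_c7 LD3_c18))))))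
theorem f649610 : Led Lsl_ct (LP (LK LD1_c12 LD2_c28 LD3_c35)) = (LP (LK LD1_c21 LD2_c35 LD3_c26)) :=
  Lre_c IH (LK LD1_c12 LD2_c28 LD3_c35) (LK LD1_c21 LD2_c35 LD3_c26) Lrfl Lrfl
theorem f707975 : Led Lsl_at (LP (LK LD1_c21 LD2_c35 LD3_c26)) = (LP (LK LD1_c17 LD2_c17 LD3_c28)) :=
  Lgr Lrot107 (Lpe (f649610 IH) (Lpr_af (f707958 IH) (Lpe (K52.f703156 IH) (Lpn (LP (LK LD1_c17 LD2_c17 LD3_c28))))))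
theorem f707977 : Led Lsl_af (LP (LK LD1_c21 LD2_c35 LD3_c26)) = (LP (LK LD1_c17 LD2_c17 LD3_c28)) :=
  Lgr Lrot0 (Lpr_at (f707975 IH) (Lpn (LP (LK LD1_c17 LD2_c17 LD3_c28))))
theorem f707912 : Led Lsl_ft (LP (LK LD1_c9 LD2_c21 LD3_c26)) = (LP (LK LD1_c12 LD2_c28 LD3_c35)) :=
  Lgr Lrot48 (Lpr_ff (K58.f707905 IH) (Lpn (LP (LK LD1_c12 LD2_c28 LD3_c35))))
theorem f670705 : Led Lsl_ct (LP (LK LD1_c17 LD2_c17 LD3_c30)) = (LP (LK LD1_c9 LD2_c21 LD3_c26)) :=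
  Lre_c IH (LK LD1_c17 LD2_c17 LD3_c30) (LK LD1_c9 LD2_c21 LD3_c26) Lrfl Lrfl
theorem f707914 : Led Lsl_ff (LP (LK LD1_c17 LD2_c17 LD3_c30)) = (LP (LK LD1_c21 LD2_c35 LD3_c26)) :=
  Lgr Lrot23 (Lpr_ct (f670705 IH) (Lpr_ft (f707912 IH) (Lpr_ct (f649610 IH) (Lpn (LP (LK LD1_c21 LD2_c35 LD3_c26))))))
theorem f715807 : Led Lsl_at (LP (LK LD1_c17 LD2_c17 LD3_c30)) = (LP (LK LD1_c22 LD2_c7 LD3_c18)) :=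
  Lgr Lrot66 (Lpr_ff (f707914 IH) (Lpr_af (f707977 IH) (Lpr_ff (f715789 IH) (Lpn (LP (LK LD1_c22 LD2_c7 LD3_c18))))))
theorem f767182 : Led Lsl_gf (LP (LK LD1_c27 LD2_c7 LD3_c13)) = (LP (LK LD1_c21 LD2_c35 LD3_c26)) :=
  Lgr Lrot47 (Lpr_gt (K58.f767180 IH) (Lpe (f715807 IH) (Lpr_ff (f707914 IH) (Lpn (LP (LK LD1_c21 LD2_c35 LD3_c26))))))
theorem f801269 : Led Lsl_dt (LP (LK LD1_c23 LD2_c47 LD3_c14)) = (LP (LK LD1_c21 LD2_c35 LD3_c26)) :=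
  Lgr Lrot6 (Lpr_gt (f773135 IH) (Lpr_ct (f85078 IH) (Lpr_gt (f801254 IH) (Lpe (f801258 IH) (Lpr_df (f801260 IH) (Lpe (f632997 IH) (Lpr_gf (K60.f784917 IH) (Lpe (f767184 IH) (Lpr_gf (f767182 IH) (Lpn (LP (LK LD1_c21 LD2_c35 LD3_c26))))))))))))
theorem f801270 : Led Lsl_dt (LP (LK LD1_c23 LD2_c47 LD3_c14)) = (LP (LK LD1_c21 LD2_c35 LD3_c26)) :=
  Leop (Lpe (f801269 IH) (Lpn (LP (LK LD1_c23 LD2_c47 LD3_c14))))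
theorem seed_1670 : LEOK LG_d (LK LD1_c23 LD2_c47 LD3_c14) :=
  Leoe_d (LK LD1_c23 LD2_c47 LD3_c14) (f801270 IH)
def v22135 : LQ := Led Lsl_ft (LP (LK LD1_c7 LD2_c31 LD3_c41))
theorem f801560 : Led Lsl_ft (LP (LK LD1_c7 LD2_c31 LD3_c41)) = v22135 :=
  Lrfl
theorem f105534 : Led Lsl_gt (LP (LK LD1_c7 LD2_c31 LD3_c41)) = (LP (LK LD1_c14 LD2_c11 LD3_c61)) :=
  Lre_g IH (LK LD1_c7 LD2_c31 LD3_c41) (LK LD1_c14 LD2_c11 LD3_c61) Lrfl Lrfl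
theorem f105413 : Led Lsl_at (LP (LK LD1_c3 LD2_c45 LD3_c32)) = (LP (LK LD1_c7 LD2_c31 LD3_c41)) :=
  Lre_a IH (LK LD1_c3 LD2_c45 LD3_c32) (LK LD1_c7 LD2_c31 LD3_c41) Lrfl Lrfl
theorem f441882 : Led Lsl_ft (LP (LK LD1_c7 LD2_c31 LD3_c45)) = (LP (LK LD1_c3 LD2_c45 LD3_c32)) :=
  Lre_f IH (LK LD1_c7 LD2_c31 LD3_c45) (LK LD1_c3 LD2_c45 LD3_c32) Lrfl Lrfl
theorem f801561 : Led Lsl_af (LP (LK LD1_c7 LD2_c31 LD3_c45)) = v22135 :=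
  Lgr Lrot45 (Lpr_ft (f441882 IH) (Lpr_at (f105413 IH) (Lpr_ft (f801560 IH) (Lpn v22135))))
theorem f801564 : Led Lsl_gt (LP (LK LD1_c14 LD2_c11 LD3_c61)) = (LP (LK LD1_c7 LD2_c31 LD3_c45)) :=
  Lgr Lrot46 (Lpe (f105534 IH) (Lpr_ft (f801560 IH) (Lpe (f801561 IH) (Lpn (LP (LK LD1_c7 LD2_c31 LD3_c45))))))
theorem f801565 : Led Lsl_gt (LP (LK LD1_c14 LD2_c11 LD3_c61)) = (LP (LK LD1_c7 LD2_c31 LD3_c45)) :=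
  Leop (Lpe (f801564 IH) (Lpn (LP (LK LD1_c14 LD2_c11 LD3_c61))))
theorem seed_1671 : LEOK LG_g (LK LD1_c14 LD2_c11 LD3_c61) :=
  Leoe_g (LK LD1_c14 LD2_c11 LD3_c61) (f801565 IH)
def v22146 : LQ := Led Lsl_bt (LP (LK LD1_c7 LD2_c31 LD3_c53))
theorem f801626 : Led Lsl_bt (LP (LK LD1_c7 LD2_c31 LD3_c53)) = v22146 :=
  Lrfl
theorem f801629 : Led Lsl_ff K59.v7371 = v22146 :=
  Lgr Lrot25 (Lpe (K59.f664772 IH) (Lpr_ft (K59.f93381 IH) (Lpr_bt (f801626 IH) (Lpn v22146))))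
def v20556 : LQ := Led Lsl_bt (LP (LK LD1_c6 LD2_c59 LD3_c27))
theorem f787906 : Led Lsl_bt (LP (LK LD1_c6 LD2_c59 LD3_c27)) = v20556 :=
  Lrfl
theorem f770583 : Led Lsl_bt K59.v13638 = K59.v8688 :=
  Lgr Lrot127 (Lpr_bf (K59.f770579 IH) (Lpn K59.v8688))
theorem f703537 : Led Lsl_ct (LP (LK LD1_c9 LD2_c24 LD3_c54)) = (LP (LK LD1_c4 LD2_c46 LD3_c11)) :=
  Lre_c IH (LK LD1_c9 LD2_c24 LD3_c54) (LK LD1_c4 LD2_c46 LD3_c11) Lrfl Lrfl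
theorem f774291 : Led Lsl_ff (LP (LK LD1_c9 LD2_c24 LD3_c54)) = (LP (LK LD1_c6 LD2_c43 LD3_c58)) :=
  Lgr Lrot23 (Lpr_ct (f703537 IH) (Lpqs (K59.f770556 IH) (Lpe (K59.f634112 IH) (Lpr_ct (K59.f135432 IH) (Lpn (LP (LK LD1_c6 LD2_c43 LD3_c58)))))))
theorem f774299 : Led Lsl_gf (LP (LK LD1_c17 LD2_c19 LD3_c26)) = (LP (LK LD1_c12 LD2_c20 LD3_c60)) :=
  Lgr Lrot76 (Lpr_af (K59.f774125 IH) (Lpr_ff (f774291 IH) (Lpe (K59.f774045 IH) (Lpn (LP (LK LD1_c12 LD2_c20 LD3_c60))))))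
theorem f787911 : Led Lsl_gf K59.v7152 = v20556 :=
  Lgr Lrot124 (Lpe (K59.f661572 IH) (Lpr_ct (K59.f153031 IH) (Lpe (f774299 IH) (Lpe (K59.f91344 IH) (Lpq (K59.f774051 IH) (Lpr_bt (f770583 IH) (Lpqs (K59.f771872 IH) (Lpe (K46.f118246 IH) (Lpr_ct (K4.f118026 IH) (Lpe (K56.f118068 IH) (Lpe (K58.f769399 IH) (Lpr_bt (f787906 IH) (Lpn v20556)))))))))))))
def v9180 : LQ := Led Lsl_gt K58.v2506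
theorem f673927 : Led Lsl_gt K58.v2506 = v9180 :=
  Lrfl
theorem f701781 : Led Lsl_dt K50.v5855 = K50.v13224 :=
  Lgr Lrot42 (Lpr_df (K50.f701780 IH) (Lpn K50.v13224))
theorem f767671 : Led Lsl_gf (LP (LK LD1_c6 LD2_c32 LD3_c11)) = K58.v18604 :=
  Lgr Lrot47 (Lpr_gt (K50.f22705 IH) (Lpe (K58.f22707 IH) (Lpr_ff (K58.f767666 IH) (Lpn K58.v18604))))
theorem f767670 : Led Lsl_dt K50.v5822 = K58.v18604 :=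
  Lgr Lrot60 (Lpe (K50.f649576 IH) (Lpe (K48.f23772 IH) (Lpr_ff (K58.f767666 IH) (Lpn K58.v18604))))
theorem f674412 : Led Lsl_dt K58.v9215 = K58.v9215 :=
  Lgr Lrot60 (Lpe (K58.f674405 IH) (Lpe (K60.f527240 IH) (Lpr_ff (K58.f674408 IH) (Lpn K58.v9215))))
def v9182 : LQ := Led Lsl_ft K58.v2506
theorem f673929 : Led Lsl_ft K58.v2506 = v9182 :=
  Lrfl
theorem f674410 : Led Lsl_at v9182 = K58.v9215 :=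
  Lgr Lrot66 (Lpe (f673929 IH) (Lpr_af (K58.f527235 IH) (Lpr_ff (K58.f674408 IH) (Lpn K58.v9215))))
theorem f674414 : Led Lsl_gt v9180 = K58.v9215 :=
  Lgr Lrot46 (Lpe (f673927 IH) (Lpr_ft (f673929 IH) (Lpr_at (f674410 IH) (Lpn K58.v9215))))
theorem f769997 : K59.v5852 = v9180 :=
  (Llr Lrot8 (Lpe (K59.f649822 IH) (Lpr_gt (K59.f649589 IH) (Lpr_dt (f767670 IH) (Lpe (f767671 IH) (Lpr_dt (K50.f705882 IH) (Lpe (K50.f705876 IH) (Lpe (f701781 IH) (Lpqs (K58.f769996 IH) (Lpr_gf (K58.f674413 IH) (Lpe (f674412 IH) (Lpe (f674414 IH) (Lpn v9180))))))))))))).symm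
theorem f787913 : Led Lsl_dt K59.v7371 = v20556 :=
  Lgr Lrot136 (Lpe (K59.f664774 IH) (Lpq (K59.f772572 IH) (Lpqs (f769997 IH) (Lpe (f673927 IH) (Lpe (K58.f523670 IH) (Lpr_dt (K4.f66467 IH) (Lpe (K4.f107284 IH) (Lpe (K4.f107288 IH) (Lpe (K5.f125672 IH) (Lpr_ef (K58.f523678 IH) (Lpr_dt (K59.f661573 IH) (Lpr_gf (f787911 IH) (Lpn v20556)))))))))))))
theorem f787910 : Led Lsl_ff (LP (LK LD1_c12 LD2_c24 LD3_c15)) = v20556 :=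
  Lgr Lrot25 (Lpe (K59.f773296 IH) (Lpr_ft (K59.f772404 IH) (Lpr_bt (f787906 IH) (Lpn v20556))))
theorem f801631 : Led Lsl_dt (LP (LK LD1_c12 LD2_c24 LD3_c15)) = v22146 :=
  Lgr Lrot60 (Lpr_ff (f787910 IH) (Lpe (f787913 IH) (Lpr_ff (f801629 IH) (Lpn v22146))))
def v6408 : LQ := Led Lsl_gf (LP (LK LD1_c3 LD2_c21 LD3_c21))
theorem f653237 : Led Lsl_gf (LP (LK LD1_c3 LD2_c21 LD3_c21)) = v6408 :=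
  Lrfl
theorem f653184 : Led Lsl_af (LP (LK LD1_c3 LD2_c21 LD3_c21)) = K48.v6392 :=
  Lgr Lrot50 (Lpr_et (K46.f446254 IH) (Lpr_at (K49.f454031 IH) (Lpr_et (K48.f653183 IH) (Lpn K48.v6392))))
theorem f653238 : Led Lsl_gt (LP (LK LD1_c4 LD2_c49 LD3_c59)) = v6408 :=
  Lgr Lrot5 (Lpr_ft (K58.f653189 IH) (Lpe (f653184 IH) (Lpr_gf (f653237 IH) (Lpn v6408))))
theorem f662730 : (LP (LK LD1_c6 LD2_c31 LD3_c16)) = v6408 :=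
  Lefun (Lecon (K49.f652211 IH) (K49.f662726 IH).symm) (f653238 IH)
theorem f57655 : Led Lsl_et (LP (LK LD1_c3 LD2_c6 LD3_c6)) = (LP (LK LD1_c6 LD2_c17 LD3_c51)) :=
  Lre_e IH (LK LD1_c3 LD2_c6 LD3_c6) (LK LD1_c6 LD2_c17 LD3_c51) Lrfl Lrfl
theorem f663018 : Led Lsl_gt (LP (LK LD1_c6 LD2_c31 LD3_c17)) = (LP (LK LD1_c6 LD2_c17 LD3_c51)) :=
  Lgr Lrot131 (Lpe (K59.f148381 IH) (Lpr_dt (K48.f148376 IH) (Lpqs (f662730 IH) (Lpe (f653238 IH) (Lpr_df (K49.f653185 IH) (Lpq (K48.f662762 IH) (Lpe (K46.f506863 IH) (Lpe (K49.f649877 IH) (Lpe (K49.f663016 IH) (Lpe (K49.f416591 IH) (Lpe (K48.f57658 IH) (Lpr_et (f57655 IH) (Lpn (LP (LK LD1_c6 LD2_c17 LD3_c51)))))))))))))))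
theorem f57627 : Led Lsl_ct (LP (LK LD1_c6 LD2_c17 LD3_c51)) = (LP (LK LD1_c12 LD2_c12 LD3_c0)) :=
  Lre_c IH (LK LD1_c6 LD2_c17 LD3_c51) (LK LD1_c12 LD2_c12 LD3_c0) Lrfl Lrfl
theorem f649832 : Led Lsl_ft (LP (LK LD1_c6 LD2_c32 LD3_c7)) = (LP (LK LD1_c12 LD2_c32 LD3_c5)) :=
  Lre_f IH (LK LD1_c6 LD2_c32 LD3_c7) (LK LD1_c12 LD2_c32 LD3_c5) Lrfl Lrfl
theorem f801630 : Led Lsl_ct (LP (LK LD1_c12 LD2_c32 LD3_c5)) = v22146 :=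
  Lgr Lrot40 (Lpe (f649832 IH) (Lpr_cf (K59.f768040 IH) (Lpqs (K59.f772571 IH) (Lpr_ff (f801629 IH) (Lpn v22146)))))
theorem f801635 : Led Lsl_gt (LP (LK LD1_c12 LD2_c12 LD3_c0)) = (LP (LK LD1_c12 LD2_c32 LD3_c5)) :=
  Lgr Lrot187 (Lpe (f57627 IH) (Lpe (f663018 IH) (Lpe (K48.f148374 IH) (Lpr_gt (K48.f84585 IH) (Lpr_ct (K59.f84454 IH) (Lpr_gt (K59.f84475 IH) (Lpe (K59.f773323 IH) (Lpr_dt (f801631 IH) (Lpe (f801630 IH) (Lpn (LP (LK LD1_c12 LD2_c32 LD3_c5))))))))))))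
theorem f801636 : Led Lsl_gt (LP (LK LD1_c12 LD2_c12 LD3_c0)) = (LP (LK LD1_c12 LD2_c32 LD3_c5)) :=
  Leop (Lpe (f801635 IH) (Lpn (LP (LK LD1_c12 LD2_c12 LD3_c0))))
theorem seed_1672 : LEOK LG_g (LK LD1_c12 LD2_c12 LD3_c0) :=
  Leoe_g (LK LD1_c12 LD2_c12 LD3_c0) (f801636 IH)
def v22150 : LQ := Led Lsl_ft (LP (LK LD1_c7 LD2_c31 LD3_c56))
theorem f801669 : Led Lsl_ft (LP (LK LD1_c7 LD2_c31 LD3_c56)) = v22150 :=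
  Lrfl
theorem f801673 : Led Lsl_ff (LP (LK LD1_c7 LD2_c31 LD3_c56)) = v22150 :=
  Lgr Lrot3 (Lpr_ft (f801669 IH) (Lpn v22150))
def v20595 : LQ := Led Lsl_et (LP (LK LD1_c7 LD2_c0 LD3_c17))
theorem f788285 : Led Lsl_et (LP (LK LD1_c7 LD2_c0 LD3_c17)) = v20595 :=
  Lrfl
theorem f788289 : Led Lsl_ef (LP (LK LD1_c7 LD2_c0 LD3_c17)) = v20595 :=
  Lgr Lrot88 (Lpr_et (f788285 IH) (Lpn v20595))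
theorem f497728 : Led Lsl_at (LP (LK LD1_c7 LD2_c0 LD3_c17)) = (LP (LK LD1_c3 LD2_c45 LD3_c38)) :=
  Lgr Lrot100 (Lpr_af (K32.f497726 IH) (Lpn (LP (LK LD1_c3 LD2_c45 LD3_c38))))
theorem f97480 : Led Lsl_et (LP (LK LD1_c3 LD2_c45 LD3_c38)) = (LP (LK LD1_c7 LD2_c31 LD3_c56)) :=
  Lre_e IH (LK LD1_c3 LD2_c45 LD3_c38) (LK LD1_c7 LD2_c31 LD3_c56) Lrfl Lrfl
theorem f788296 : Led Lsl_at (LP (LK LD1_c7 LD2_c31 LD3_c56)) = v20595 :=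
  Lgr Lrot80 (Lpe (f97480 IH) (Lpe (f497728 IH) (Lpr_ef (f788289 IH) (Lpn v20595))))
theorem f104060 : Led Lsl_et (LP (LK LD1_c3 LD2_c33 LD3_c17)) = (LP (LK LD1_c7 LD2_c7 LD3_c31)) :=
  Lre_e IH (LK LD1_c3 LD2_c33 LD3_c17) (LK LD1_c7 LD2_c7 LD3_c31) Lrfl Lrfl
theorem f460030 : Led Lsl_et (LP (LK LD1_c14 LD2_c17 LD3_c15)) = (LP (LK LD1_c7 LD2_c34 LD3_c37)) :=
  Lre_e IH (LK LD1_c14 LD2_c17 LD3_c15) (LK LD1_c7 LD2_c34 LD3_c37) Lrfl Lrfl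
theorem f788291 : Led Lsl_gt (LP (LK LD1_c7 LD2_c34 LD3_c37)) = v20595 :=
  Lgr Lrot131 (Lpe (f460030 IH) (Lpr_dt (K57.f460028 IH) (Lpr_gf (K57.f530938 IH) (Lpe (K57.f104062 IH) (Lpe (K28.f104061 IH) (Lpe (f104060 IH) (Lpr_dt (K5.f104049 IH) (Lpe (K8.f127655 IH) (Lpe (K8.f17911 IH) (Lpr_et (f788285 IH) (Lpn v20595)))))))))))
theorem f801677 : Led Lsl_gf (LP (LK LD1_c7 LD2_c34 LD3_c37)) = v22150 :=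
  Lgr Lrot47 (Lpr_gt (f788291 IH) (Lpe (f788296 IH) (Lpr_ff (f801673 IH) (Lpn v22150))))
theorem f521048 : Led Lsl_gf (LP (LK LD1_c22 LD2_c50 LD3_c47)) = (LP (LK LD1_c14 LD2_c42 LD3_c1)) :=
  Lgr Lrot47 (Lpe (K57.f477687 IH) (Lpe (K57.f477689 IH) (Lpr_ff (K57.f521042 IH) (Lpn (LP (LK LD1_c14 LD2_c42 LD3_c1))))))
theorem f519131 : Led Lsl_dt (LP (LK LD1_c14 LD2_c15 LD3_c2)) = (LP (LK LD1_c7 LD2_c33 LD3_c21)) :=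
  Lre_d IH (LK LD1_c14 LD2_c15 LD3_c2) (LK LD1_c7 LD2_c33 LD3_c21) Lrfl Lrfl
theorem f97496 : Led Lsl_et (LP (LK LD1_c7 LD2_c31 LD3_c56)) = (LP (LK LD1_c3 LD2_c45 LD3_c38)) :=
  Lre_e IH (LK LD1_c7 LD2_c31 LD3_c56) (LK LD1_c3 LD2_c45 LD3_c38) Lrfl Lrfl
theorem f497724 : Led Lsl_ff (LP (LK LD1_c7 LD2_c0 LD3_c16)) = (LP (LK LD1_c3 LD2_c45 LD3_c38)) :=
  Lgr Lrot3 (Lpr_ft (K32.f497720 IH) (Lpn (LP (LK LD1_c3 LD2_c45 LD3_c38))))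
theorem f801676 : Led Lsl_et (LP (LK LD1_c7 LD2_c33 LD3_c7)) = v22150 :=
  Lgr Lrot69 (Lpe (K47.f599358 IH) (Lpe (K32.f91244 IH) (Lpr_ff (f497724 IH) (Lpe (f97496 IH) (Lpr_ff (f801673 IH) (Lpn v22150))))))
theorem f88123 : Led Lsl_dt (LP (LK LD1_c7 LD2_c33 LD3_c7)) = (LP (LK LD1_c14 LD2_c14 LD3_c34)) :=
  Lre_d IH (LK LD1_c7 LD2_c33 LD3_c7) (LK LD1_c14 LD2_c14 LD3_c34) Lrfl Lrfl
theorem f801679 : Led Lsl_gt (LP (LK LD1_c7 LD2_c33 LD3_c21)) = (LP (LK LD1_c14 LD2_c14 LD3_c34)) :=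
  Lgr Lrot139 (Lpe (f519131 IH) (Lpr_gf (f795611 IH) (Lpe (f470643 IH) (Lpr_dt (K57.f460355 IH) (Lpr_gf (f521048 IH) (Lpe (K57.f460028 IH) (Lpr_et (f460030 IH) (Lpr_gf (f801677 IH) (Lpe (f801676 IH) (Lpr_dt (f88123 IH) (Lpn (LP (LK LD1_c14 LD2_c14 LD3_c34)))))))))))))
theorem f801680 : Led Lsl_gt (LP (LK LD1_c7 LD2_c33 LD3_c21)) = (LP (LK LD1_c14 LD2_c14 LD3_c34)) :=
  Leop (Lpe (f801679 IH) (Lpn (LP (LK LD1_c7 LD2_c33 LD3_c21))))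
theorem seed_1673 : LEOK LG_g (LK LD1_c7 LD2_c33 LD3_c21) :=
  Leoe_g (LK LD1_c7 LD2_c33 LD3_c21) (f801680 IH)
def v22181 : LQ := Led Lsl_gt (LP (LK LD1_c7 LD2_c32 LD3_c30))
theorem f801803 : Led Lsl_gt (LP (LK LD1_c7 LD2_c32 LD3_c30)) = v22181 :=
  Lrfl
theorem f157387 : Led Lsl_ef (LP (LK LD1_c23 LD2_c48 LD3_c46)) = (LP (LK LD1_c26 LD2_c53 LD3_c28)) :=
  Lgr Lrot88 (Lpr_et (K8.f157380 IH) (Lpn (LP (LK LD1_c26 LD2_c53 LD3_c28))))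
theorem f157374 : Led Lsl_at (LP (LK LD1_c23 LD2_c48 LD3_c46)) = (LP (LK LD1_c14 LD2_c13 LD3_c19)) :=
  Lre_a IH (LK LD1_c23 LD2_c48 LD3_c46) (LK LD1_c14 LD2_c13 LD3_c19) Lrfl Lrfl
theorem f157389 : Led Lsl_et (LP (LK LD1_c14 LD2_c13 LD3_c19)) = (LP (LK LD1_c17 LD2_c17 LD3_c4)) :=
  Lgr Lrot123 (Lpe (f157374 IH) (Lpr_ef (f157387 IH) (Lpe (K8.f25318 IH) (Lpn (LP (LK LD1_c17 LD2_c17 LD3_c4))))))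
theorem f157391 : Led Lsl_bt (LP (LK LD1_c7 LD2_c32 LD3_c30)) = (LP (LK LD1_c14 LD2_c13 LD3_c19)) :=
  Lre_b IH (LK LD1_c7 LD2_c32 LD3_c30) (LK LD1_c14 LD2_c13 LD3_c19) Lrfl Lrfl
theorem f25368 : Led Lsl_bt (LP (LK LD1_c17 LD2_c17 LD3_c4)) = (LP (LK LD1_c9 LD2_c21 LD3_c4)) :=
  Lre_b IH (LK LD1_c17 LD2_c17 LD3_c4) (LK LD1_c9 LD2_c21 LD3_c4) Lrfl Lrfl
theorem f157392 : Led Lsl_ef (LP (LK LD1_c7 LD2_c32 LD3_c30)) = (LP (LK LD1_c9 LD2_c21 LD3_c4)) :=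
  Lgr Lrot29 (Lpr_bt (f157391 IH) (Lpr_et (f157389 IH) (Lpr_bt (f25368 IH) (Lpn (LP (LK LD1_c9 LD2_c21 LD3_c4))))))
theorem f144098 : Led Lsl_dt (LP (LK LD1_c9 LD2_c21 LD3_c4)) = (LP (LK LD1_c4 LD2_c44 LD3_c6)) :=
  Lre_d IH (LK LD1_c9 LD2_c21 LD3_c4) (LK LD1_c4 LD2_c44 LD3_c6) Lrfl Lrfl
theorem f708011 : Led Lsl_et (LP (LK LD1_c12 LD2_c57 LD3_c22)) = (LP (LK LD1_c6 LD2_c47 LD3_c12)) :=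
  Lre_e IH (LK LD1_c12 LD2_c57 LD3_c22) (LK LD1_c6 LD2_c47 LD3_c12) Lrfl Lrfl
theorem f708012 : Led Lsl_dt (LP (LK LD1_c12 LD2_c57 LD3_c22)) = (LP (LK LD1_c6 LD2_c47 LD3_c9)) :=
  Lre_d IH (LK LD1_c12 LD2_c57 LD3_c22) (LK LD1_c6 LD2_c47 LD3_c9) Lrfl Lrfl
theorem f509571 : Led Lsl_gt (LP (LK LD1_c12 LD2_c57 LD3_c21)) = (LP (LK LD1_c6 LD2_c47 LD3_c9)) :=
  Lre_g IH (LK LD1_c12 LD2_c57 LD3_c21) (LK LD1_c6 LD2_c47 LD3_c9) Lrfl Lrfl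
theorem f715827 : Led Lsl_dt (LP (LK LD1_c22 LD2_c7 LD3_c11)) = (LP (LK LD1_c12 LD2_c57 LD3_c21)) :=
  Lre_d IH (LK LD1_c22 LD2_c7 LD3_c11) (LK LD1_c12 LD2_c57 LD3_c21) Lrfl Lrfl
theorem f801805 : Led Lsl_et (LP (LK LD1_c22 LD2_c7 LD3_c11)) = v22181 :=
  Lgr Lrot122 (Lpr_dt (f715827 IH) (Lpr_gt (f509571 IH) (Lpe (f708012 IH) (Lpr_et (f708011 IH) (Lpr_gt (K58.f653392 IH) (Lpe (K58.f715771 IH) (Lpqs (K58.f707934 IH) (Lpe (K58.f703023 IH) (Lpe (f144098 IH) (Lpe (f157392 IH) (Lpr_gt (f801803 IH) (Lpn v22181))))))))))))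
theorem f801809 : Led Lsl_gt (LP (LK LD1_c22 LD2_c6 LD3_c38)) = (LP (LK LD1_c12 LD2_c57 LD3_c21)) :=
  Lre_g IH (LK LD1_c22 LD2_c6 LD3_c38) (LK LD1_c12 LD2_c57 LD3_c21) Lrfl Lrfl
theorem f801810 : Led Lsl_dt (LP (LK LD1_c30 LD2_c18 LD3_c26)) = (LP (LK LD1_c22 LD2_c6 LD3_c38)) :=
  Lre_d IH (LK LD1_c30 LD2_c18 LD3_c26) (LK LD1_c22 LD2_c6 LD3_c38) Lrfl Lrfl
theorem f65893 : Led Lsl_ft (LP (LK LD1_c7 LD2_c32 LD3_c30)) = (LP (LK LD1_c14 LD2_c13 LD3_c24)) :=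
  Lre_f IH (LK LD1_c7 LD2_c32 LD3_c30) (LK LD1_c14 LD2_c13 LD3_c24) Lrfl Lrfl
theorem f65911 : Led Lsl_ct (LP (LK LD1_c7 LD2_c32 LD3_c30)) = (LP (LK LD1_c14 LD2_c13 LD3_c23)) :=
  Lre_c IH (LK LD1_c7 LD2_c32 LD3_c30) (LK LD1_c14 LD2_c13 LD3_c23) Lrfl Lrfl
theorem f144099 : Led Lsl_ct (LP (LK LD1_c17 LD2_c17 LD3_c5)) = (LP (LK LD1_c9 LD2_c21 LD3_c4)) :=
  Lre_c IH (LK LD1_c17 LD2_c17 LD3_c5) (LK LD1_c9 LD2_c21 LD3_c4) Lrfl Lrfl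
theorem f157398 : Led Lsl_et (LP (LK LD1_c14 LD2_c13 LD3_c23)) = (LP (LK LD1_c17 LD2_c17 LD3_c5)) :=
  Lgr Lrot158 (Lpe (f65911 IH) (Lpr_ef (f157392 IH) (Lpe (f144099 IH) (Lpn (LP (LK LD1_c17 LD2_c17 LD3_c5))))))
theorem f157405 : Led Lsl_ef (LP (LK LD1_c14 LD2_c13 LD3_c23)) = (LP (LK LD1_c17 LD2_c17 LD3_c5)) :=
  Lgr Lrot88 (Lpr_et (f157398 IH) (Lpn (LP (LK LD1_c17 LD2_c17 LD3_c5))))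
theorem f144107 : Led Lsl_at (LP (LK LD1_c9 LD2_c21 LD3_c30)) = (LP (LK LD1_c17 LD2_c17 LD3_c5)) :=
  Lre_a IH (LK LD1_c9 LD2_c21 LD3_c30) (LK LD1_c17 LD2_c17 LD3_c5) Lrfl Lrfl
theorem f157408 : Led Lsl_et (LP (LK LD1_c17 LD2_c17 LD3_c24)) = (LP (LK LD1_c9 LD2_c21 LD3_c30)) :=
  Lre_e IH (LK LD1_c17 LD2_c17 LD3_c24) (LK LD1_c9 LD2_c21 LD3_c30) Lrfl Lrfl
theorem f157409 : Led Lsl_at (LP (LK LD1_c14 LD2_c13 LD3_c23)) = (LP (LK LD1_c17 LD2_c17 LD3_c24)) :=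
  Lgr Lrot80 (Lpr_ef (f157405 IH) (Lpe (f144107 IH) (Lpe (f157408 IH) (Lpn (LP (LK LD1_c17 LD2_c17 LD3_c24))))))
theorem f157407 : Led Lsl_ft (LP (LK LD1_c23 LD2_c48 LD3_c60)) = (LP (LK LD1_c14 LD2_c13 LD3_c23)) :=
  Lre_f IH (LK LD1_c23 LD2_c48 LD3_c60) (LK LD1_c14 LD2_c13 LD3_c23) Lrfl Lrfl
theorem f157421 : Led Lsl_ft (LP (LK LD1_c17 LD2_c17 LD3_c24)) = (LP (LK LD1_c27 LD2_c6 LD3_c51)) :=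
  Lre_f IH (LK LD1_c17 LD2_c17 LD3_c24) (LK LD1_c27 LD2_c6 LD3_c51) Lrfl Lrfl
theorem f157422 : Led Lsl_af (LP (LK LD1_c23 LD2_c48 LD3_c60)) = (LP (LK LD1_c27 LD2_c6 LD3_c51)) :=
  Lgr Lrot45 (Lpr_ft (f157407 IH) (Lpr_at (f157409 IH) (Lpr_ft (f157421 IH) (Lpn (LP (LK LD1_c27 LD2_c6 LD3_c51))))))
theorem f65908 : Led Lsl_ct (LP (LK LD1_c23 LD2_c48 LD3_c60)) = (LP (LK LD1_c14 LD2_c13 LD3_c24)) :=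
  Lre_c IH (LK LD1_c23 LD2_c48 LD3_c60) (LK LD1_c14 LD2_c13 LD3_c24) Lrfl Lrfl
theorem f157432 : Led Lsl_ct (LP (LK LD1_c17 LD2_c17 LD3_c25)) = (LP (LK LD1_c27 LD2_c6 LD3_c51)) :=
  Lre_c IH (LK LD1_c17 LD2_c17 LD3_c25) (LK LD1_c27 LD2_c6 LD3_c51) Lrfl Lrfl
theorem f157433 : Led Lsl_at (LP (LK LD1_c14 LD2_c13 LD3_c24)) = (LP (LK LD1_c17 LD2_c17 LD3_c25)) :=
  Lgr Lrot107 (Lpe (f65908 IH) (Lpr_af (f157422 IH) (Lpe (f157432 IH) (Lpn (LP (LK LD1_c17 LD2_c17 LD3_c25))))))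
theorem f801804 : Led Lsl_gf (LP (LK LD1_c17 LD2_c17 LD3_c25)) = v22181 :=
  Lgr Lrot76 (Lpe (f157433 IH) (Lpe (f65893 IH) (Lpr_gt (f801803 IH) (Lpn v22181))))
theorem f157438 : Led Lsl_dt (LP (LK LD1_c17 LD2_c17 LD3_c25)) = (LP (LK LD1_c9 LD2_c21 LD3_c22)) :=
  Lre_d IH (LK LD1_c17 LD2_c17 LD3_c25) (LK LD1_c9 LD2_c21 LD3_c22) Lrfl Lrfl
theorem f157363 : Led Lsl_at (LP (LK LD1_c7 LD2_c32 LD3_c28)) = (LP (LK LD1_c14 LD2_c13 LD3_c16)) :=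
  Lre_a IH (LK LD1_c7 LD2_c32 LD3_c28) (LK LD1_c14 LD2_c13 LD3_c16) Lrfl Lrfl
theorem f65901 : Led Lsl_bt (LP (LK LD1_c3 LD2_c45 LD3_c53)) = (LP (LK LD1_c7 LD2_c32 LD3_c28)) :=
  Lre_b IH (LK LD1_c3 LD2_c45 LD3_c53) (LK LD1_c7 LD2_c32 LD3_c28) Lrfl Lrfl
theorem f103757 : Led Lsl_et (LP (LK LD1_c6 LD2_c53 LD3_c15)) = (LP (LK LD1_c3 LD2_c25 LD3_c40)) :=
  Lre_e IH (LK LD1_c6 LD2_c53 LD3_c15) (LK LD1_c3 LD2_c25 LD3_c40) Lrfl Lrfl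
theorem f115871 : Led Lsl_et (LP (LK LD1_c3 LD2_c25 LD3_c39)) = (LP (LK LD1_c6 LD2_c53 LD3_c13)) :=
  Lre_e IH (LK LD1_c3 LD2_c25 LD3_c39) (LK LD1_c6 LD2_c53 LD3_c13) Lrfl Lrfl
theorem f115872 : Led Lsl_cf (LP (LK LD1_c6 LD2_c53 LD3_c15)) = (LP (LK LD1_c6 LD2_c53 LD3_c13)) :=
  Lgr Lrot39 (Lpr_et (f103757 IH) (Lpr_ct (K4.f115867 IH) (Lpr_et (f115871 IH) (Lpn (LP (LK LD1_c6 LD2_c53 LD3_c13))))))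
theorem f24161 : Led Lsl_ct (LP (LK LD1_c5 LD2_c51 LD3_c24)) = (LP (LK LD1_c11 LD2_c30 LD3_c11)) :=
  Lre_c IH (LK LD1_c5 LD2_c51 LD3_c24) (LK LD1_c11 LD2_c30 LD3_c11) Lrfl Lrfl
theorem f151531 : Led Lsl_af (LP (LK LD1_c6 LD2_c53 LD3_c13)) = (LP (LK LD1_c11 LD2_c30 LD3_c11)) :=
  Lgr Lrot68 (Lpe (f115872 IH) (Lpr_at (K7.f151526 IH) (Lpr_ct (f24161 IH) (Lpn (LP (LK LD1_c11 LD2_c30 LD3_c11))))))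
theorem f157364 : Led Lsl_af (LP (LK LD1_c3 LD2_c45 LD3_c53)) = (LP (LK LD1_c4 LD2_c44 LD3_c16)) :=
  Lgr Lrot36 (Lpr_bt (f65901 IH) (Lpr_at (f157363 IH) (Lpr_bt (K8.f157361 IH) (Lpe (f151531 IH) (Lpe (K8.f146561 IH) (Lpn (LP (LK LD1_c4 LD2_c44 LD3_c16))))))))
theorem f65895 : Led Lsl_gt (LP (LK LD1_c7 LD2_c32 LD3_c29)) = (LP (LK LD1_c3 LD2_c45 LD3_c53)) :=
  Lre_g IH (LK LD1_c7 LD2_c32 LD3_c29) (LK LD1_c3 LD2_c45 LD3_c53) Lrfl Lrfl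
theorem f146575 : Led Lsl_ft (LP (LK LD1_c9 LD2_c21 LD3_c22)) = (LP (LK LD1_c4 LD2_c44 LD3_c16)) :=
  Lre_f IH (LK LD1_c9 LD2_c21 LD3_c22) (LK LD1_c4 LD2_c44 LD3_c16) Lrfl Lrfl
theorem f157496 : Led Lsl_gf (LP (LK LD1_c7 LD2_c32 LD3_c29)) = (LP (LK LD1_c9 LD2_c21 LD3_c22)) :=
  Lgr Lrot47 (Lpr_gt (f65895 IH) (Lpr_af (f157364 IH) (Lpe (f146575 IH) (Lpn (LP (LK LD1_c9 LD2_c21 LD3_c22))))))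
theorem f65899 : Led Lsl_dt (LP (LK LD1_c14 LD2_c13 LD3_c21)) = (LP (LK LD1_c7 LD2_c32 LD3_c29)) :=
  Lre_d IH (LK LD1_c14 LD2_c13 LD3_c21) (LK LD1_c7 LD2_c32 LD3_c29) Lrfl Lrfl
theorem f157501 : Led Lsl_et (LP (LK LD1_c14 LD2_c13 LD3_c21)) = (LP (LK LD1_c23 LD2_c48 LD3_c55)) :=
  Lre_e IH (LK LD1_c14 LD2_c13 LD3_c21) (LK LD1_c23 LD2_c48 LD3_c55) Lrfl Lrfl
theorem f157502 : Led Lsl_gt (LP (LK LD1_c23 LD2_c48 LD3_c55)) = (LP (LK LD1_c31 LD2_c13 LD3_c54)) :=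
  Lre_g IH (LK LD1_c23 LD2_c48 LD3_c55) (LK LD1_c31 LD2_c13 LD3_c54) Lrfl Lrfl
theorem f801812 : Led Lsl_et (LP (LK LD1_c30 LD2_c18 LD3_c26)) = (LP (LK LD1_c31 LD2_c13 LD3_c54)) :=
  Lgr Lrot122 (Lpr_dt (f801810 IH) (Lpr_gt (f801809 IH) (Lpe (f715827 IH) (Lpr_et (f801805 IH) (Lpe (f801804 IH) (Lpr_dt (f157438 IH) (Lpe (f157496 IH) (Lpe (f65899 IH) (Lpr_et (f157501 IH) (Lpr_gt (f157502 IH) (Lpn (LP (LK LD1_c31 LD2_c13 LD3_c54)))))))))))))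
theorem f801813 : Led Lsl_et (LP (LK LD1_c30 LD2_c18 LD3_c26)) = (LP (LK LD1_c31 LD2_c13 LD3_c54)) :=
  Leop (Lpe (f801812 IH) (Lpn (LP (LK LD1_c30 LD2_c18 LD3_c26))))
theorem seed_1674 : LEOK LG_e (LK LD1_c30 LD2_c18 LD3_c26) :=
  Leoe_e (LK LD1_c30 LD2_c18 LD3_c26) (f801813 IH)
def v22182 : LQ := Led Lsl_dt (LP (LK LD1_c7 LD2_c32 LD3_c32))
theorem f801827 : Led Lsl_dt (LP (LK LD1_c7 LD2_c32 LD3_c32)) = v22182 :=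
  Lrfl
theorem f108990 : Led Lsl_et (LP (LK LD1_c1 LD2_c50 LD3_c2)) = (LP (LK LD1_c3 LD2_c45 LD3_c54)) :=
  Lre_e IH (LK LD1_c1 LD2_c50 LD3_c2) (LK LD1_c3 LD2_c45 LD3_c54) Lrfl Lrfl
def v13753 : LQ := Led Lsl_gf (LP (LK LD1_c4 LD2_c47 LD3_c49))
theorem f704669 : Led Lsl_gf (LP (LK LD1_c4 LD2_c47 LD3_c49)) = v13753 :=
  Lrfl
theorem f123561 : Led Lsl_ct (LP (LK LD1_c21 LD2_c41 LD3_c18)) = (LP (LK LD1_c12 LD2_c34 LD3_c54)) :=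
  Lre_c IH (LK LD1_c21 LD2_c41 LD3_c18) (LK LD1_c12 LD2_c34 LD3_c54) Lrfl Lrfl
theorem f488453 : Led Lsl_ct (LP (LK LD1_c22 LD2_c18 LD3_c31)) = (LP (LK LD1_c13 LD2_c6 LD3_c60)) :=
  Lre_c IH (LK LD1_c22 LD2_c18 LD3_c31) (LK LD1_c13 LD2_c6 LD3_c60) Lrfl Lrfl
theorem f137116 : Led Lsl_bt (LP (LK LD1_c7 LD2_c1 LD3_c21)) = (LP (LK LD1_c3 LD2_c43 LD3_c32)) :=
  Lgr Lrot62 (Lpr_af (f137068 IH) (Lpe (K6.f137096 IH) (Lpe (K47.f137098 IH) (Lpe (K47.f137099 IH) (Lpr_af (K6.f137112 IH) (Lpn (LP (LK LD1_c3 LD2_c43 LD3_c32))))))))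
theorem f137154 : Led Lsl_gt (LP (LK LD1_c3 LD2_c29 LD3_c54)) = (LP (LK LD1_c7 LD2_c1 LD3_c24)) :=
  Lre_g IH (LK LD1_c3 LD2_c29 LD3_c54) (LK LD1_c7 LD2_c1 LD3_c24) Lrfl Lrfl
theorem f137155 : Led Lsl_ct (LP (LK LD1_c13 LD2_c19 LD3_c18)) = (LP (LK LD1_c7 LD2_c1 LD3_c24)) :=
  Lre_c IH (LK LD1_c13 LD2_c19 LD3_c18) (LK LD1_c7 LD2_c1 LD3_c24) Lrfl Lrfl
theorem f611532 : Led Lsl_bt (LP (LK LD1_c13 LD2_c19 LD3_c18)) = (LP (LK LD1_c21 LD2_c41 LD3_c18)) :=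
  Lgr Lrot130 (Lpr_ct (f137155 IH) (Lpe (f137154 IH) (Lpe (f137067 IH) (Lpr_bt (f137116 IH) (Lpe (K33.f483852 IH) (Lpe (K42.f483854 IH) (Lpe (K47.f488429 IH) (Lpe (K48.f488434 IH) (Lpe (f488453 IH) (Lpr_gf (K49.f611530 IH) (Lpn (LP (LK LD1_c21 LD2_c41 LD3_c18)))))))))))))
theorem f508603 : Led Lsl_ct (LP (LK LD1_c7 LD2_c1 LD3_c24)) = (LP (LK LD1_c13 LD2_c19 LD3_c18)) :=
  Lre_c IH (LK LD1_c7 LD2_c1 LD3_c24) (LK LD1_c13 LD2_c19 LD3_c18) Lrfl Lrfl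
theorem f508604 : Led Lsl_bt (LP (LK LD1_c13 LD2_c19 LD3_c17)) = (LP (LK LD1_c7 LD2_c1 LD3_c24)) :=
  Lre_b IH (LK LD1_c13 LD2_c19 LD3_c17) (LK LD1_c7 LD2_c1 LD3_c24) Lrfl Lrfl
theorem f661026 : Led Lsl_ct (LP (LK LD1_c12 LD2_c33 LD3_c12)) = (LP (LK LD1_c13 LD2_c19 LD3_c17)) :=
  Lgr Lrot83 (Lpr_bf (K49.f661022 IH) (Lpe (f123561 IH) (Lpe (f611532 IH) (Lpe (f508603 IH) (Lpe (f508604 IH) (Lpn (LP (LK LD1_c13 LD2_c19 LD3_c17))))))))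
theorem f661030 : Led Lsl_gf (LP (LK LD1_c7 LD2_c18 LD3_c37)) = (LP (LK LD1_c13 LD2_c19 LD3_c17)) :=
  Lgr Lrot129 (Lpr_cf (K30.f467647 IH) (Lpr_bt (K29.f109617 IH) (Lpe (K29.f441373 IH) (Lpe (K47.f441380 IH) (Lpr_ct (K46.f482970 IH) (Lpr_gt (K47.f661012 IH) (Lpq (K47.f661020 IH) (Lpr_cf (K49.f440754 IH) (Lpr_bt (K49.f440624 IH) (Lpr_gt (K49.f107395 IH) (Lpr_ct (f661026 IH) (Lpn (LP (LK LD1_c13 LD2_c19 LD3_c17))))))))))))))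
theorem f467655 : Led Lsl_at (LP (LK LD1_c13 LD2_c49 LD3_c53)) = (LP (LK LD1_c7 LD2_c18 LD3_c37)) :=
  Lre_a IH (LK LD1_c13 LD2_c49 LD3_c53) (LK LD1_c7 LD2_c18 LD3_c37) Lrfl Lrfl
theorem f467656 : Led Lsl_cf (LP (LK LD1_c13 LD2_c49 LD3_c53)) = (LP (LK LD1_c7 LD2_c32 LD3_c35)) :=
  Lgr Lrot1 (Lpr_at (f467655 IH) (Lpr_ct (K30.f467653 IH) (Lpr_at (K3.f109629 IH) (Lpn (LP (LK LD1_c7 LD2_c32 LD3_c35))))))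
theorem f109633 : Led Lsl_ft (LP (LK LD1_c3 LD2_c45 LD3_c54)) = (LP (LK LD1_c7 LD2_c32 LD3_c35)) :=
  Lre_f IH (LK LD1_c3 LD2_c45 LD3_c54) (LK LD1_c7 LD2_c32 LD3_c35) Lrfl Lrfl
theorem f467658 : Led Lsl_ft (LP (LK LD1_c13 LD2_c49 LD3_c53)) = (LP (LK LD1_c7 LD2_c30 LD3_c46)) :=
  Lgr Lrot4 (Lpr_cf (f467656 IH) (Lpe (f109633 IH) (Lpe (K3.f95509 IH) (Lpn (LP (LK LD1_c7 LD2_c30 LD3_c46))))))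
theorem f467660 : Led Lsl_ff (LP (LK LD1_c13 LD2_c49 LD3_c53)) = (LP (LK LD1_c7 LD2_c30 LD3_c46)) :=
  Lgr Lrot3 (Lpr_ft (f467658 IH) (Lpn (LP (LK LD1_c7 LD2_c30 LD3_c46))))
theorem f661032 : Led Lsl_gt (LP (LK LD1_c7 LD2_c30 LD3_c46)) = (LP (LK LD1_c13 LD2_c19 LD3_c17)) :=
  Lgr Lrot5 (Lpe (f467660 IH) (Lpr_at (f467655 IH) (Lpr_gf (f661030 IH) (Lpn (LP (LK LD1_c13 LD2_c19 LD3_c17))))))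
theorem f658398 : Led Lsl_ct (LP (LK LD1_c7 LD2_c0 LD3_c25)) = (LP (LK LD1_c7 LD2_c32 LD3_c33)) :=
  Lgr Lrot59 (Lpr_cf (K47.f658395 IH) (Lpn (LP (LK LD1_c7 LD2_c32 LD3_c33))))
theorem f659993 : Led Lsl_gt (LP (LK LD1_c13 LD2_c17 LD3_c36)) = (LP (LK LD1_c13 LD2_c16 LD3_c25)) :=
  Lgr Lrot82 (Lpe (K60.f658397 IH) (Lpr_ct (f658398 IH) (Lpe (K47.f85244 IH) (Lpe (K30.f467653 IH) (Lpr_bt (K30.f457005 IH) (Lpr_gf (K60.f485785 IH) (Lpe (K61.f485779 IH) (Lpr_ct (K61.f485827 IH) (Lpr_gf (K61.f659932 IH) (Lpe (K47.f123984 IH) (Lpn (LP (LK LD1_c13 LD2_c16 LD3_c25)))))))))))))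
theorem f611538 : Led Lsl_bt (LP (LK LD1_c7 LD2_c1 LD3_c24)) = (LP (LK LD1_c13 LD2_c19 LD3_c17)) :=
  Lre_b IH (LK LD1_c7 LD2_c1 LD3_c24) (LK LD1_c13 LD2_c19 LD3_c17) Lrfl Lrfl
theorem f661034 : Led Lsl_gt (LP (LK LD1_c14 LD2_c6 LD3_c37)) = (LP (LK LD1_c13 LD2_c19 LD3_c18)) :=
  Lgr Lrot65 (Lpe (K32.f123642 IH) (Lpe (K32.f123988 IH) (Lpe (f659993 IH) (Lpe (K60.f658397 IH) (Lpr_ct (f658398 IH) (Lpe (K47.f85244 IH) (Lpe (K30.f467653 IH) (Lpr_gf (f661030 IH) (Lpe (f611538 IH) (Lpr_ct (f508603 IH) (Lpn (LP (LK LD1_c13 LD2_c19 LD3_c18)))))))))))))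
theorem f478564 : Led Lsl_dt (LP (LK LD1_c7 LD2_c24 LD3_c30)) = (LP (LK LD1_c14 LD2_c0 LD3_c55)) :=
  Lre_d IH (LK LD1_c7 LD2_c24 LD3_c30) (LK LD1_c14 LD2_c0 LD3_c55) Lrfl Lrfl
theorem f478568 : Led Lsl_gt (LP (LK LD1_c14 LD2_c0 LD3_c55)) = (LP (LK LD1_c23 LD2_c33 LD3_c31)) :=
  Lre_g IH (LK LD1_c14 LD2_c0 LD3_c55) (LK LD1_c23 LD2_c33 LD3_c31) Lrfl Lrfl
theorem f611537 : Led Lsl_dt (LP (LK LD1_c13 LD2_c19 LD3_c19)) = (LP (LK LD1_c7 LD2_c1 LD3_c24)) :=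
  Lre_d IH (LK LD1_c13 LD2_c19 LD3_c19) (LK LD1_c7 LD2_c1 LD3_c24) Lrfl Lrfl
theorem f661036 : Led Lsl_ct (LP (LK LD1_c22 LD2_c35 LD3_c46)) = (LP (LK LD1_c13 LD2_c19 LD3_c19)) :=
  Lre_c IH (LK LD1_c22 LD2_c35 LD3_c46) (LK LD1_c13 LD2_c19 LD3_c19) Lrfl Lrfl
theorem f661037 : Led Lsl_gt (LP (LK LD1_c30 LD2_c36 LD3_c9)) = (LP (LK LD1_c22 LD2_c35 LD3_c46)) :=
  Lre_g IH (LK LD1_c30 LD2_c36 LD3_c9) (LK LD1_c22 LD2_c35 LD3_c46) Lrfl Lrfl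
theorem f661038 : Led Lsl_ct (LP (LK LD1_c23 LD2_c33 LD3_c31)) = (LP (LK LD1_c30 LD2_c36 LD3_c9)) :=
  Lgr Lrot152 (Lpe (f478568 IH) (Lpe (f478564 IH) (Lpr_gt (K47.f659930 IH) (Lpr_ct (K32.f123642 IH) (Lpr_gt (f661034 IH) (Lpr_ct (f137155 IH) (Lpe (f611537 IH) (Lpe (f661036 IH) (Lpe (f661037 IH) (Lpn (LP (LK LD1_c30 LD2_c36 LD3_c9))))))))))))
theorem f486015 : Led Lsl_bt (LP (LK LD1_c7 LD2_c24 LD3_c31)) = (LP (LK LD1_c14 LD2_c0 LD3_c55)) :=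
  Lre_b IH (LK LD1_c7 LD2_c24 LD3_c31) (LK LD1_c14 LD2_c0 LD3_c55) Lrfl Lrfl
theorem f478483 : Led Lsl_ct (LP (LK LD1_c7 LD2_c24 LD3_c31)) = (LP (LK LD1_c14 LD2_c0 LD3_c57)) :=
  Lre_c IH (LK LD1_c7 LD2_c24 LD3_c31) (LK LD1_c14 LD2_c0 LD3_c57) Lrfl Lrfl
theorem f457817 : Led Lsl_ct (LP (LK LD1_c6 LD2_c57 LD3_c1)) = (LP (LK LD1_c13 LD2_c11 LD3_c54)) :=
  Lre_c IH (LK LD1_c6 LD2_c57 LD3_c1) (LK LD1_c13 LD2_c11 LD3_c54) Lrfl Lrfl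
theorem f478482 : Led Lsl_ct (LP (LK LD1_c14 LD2_c0 LD3_c57)) = (LP (LK LD1_c7 LD2_c24 LD3_c31)) :=
  Lre_c IH (LK LD1_c14 LD2_c0 LD3_c57) (LK LD1_c7 LD2_c24 LD3_c31) Lrfl Lrfl
theorem f486013 : Led Lsl_gt (LP (LK LD1_c13 LD2_c11 LD3_c54)) = (LP (LK LD1_c14 LD2_c0 LD3_c57)) :=
  Lgr Lrot150 (Lpe (f457817 IH) (Lpr_gf (K34.f485863 IH) (Lpe (K34.f481875 IH) (Lpe (K60.f485785 IH) (Lpr_ct (K30.f467645 IH) (Lpe (K29.f483578 IH) (Lpr_ct (K29.f12855 IH) (Lpe (K45.f4892 IH) (Lpe (f478482 IH) (Lpn (LP (LK LD1_c14 LD2_c0 LD3_c57))))))))))))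
theorem f486018 : Led Lsl_bt (LP (LK LD1_c6 LD2_c57 LD3_c1)) = (LP (LK LD1_c13 LD2_c11 LD3_c48)) :=
  Lre_b IH (LK LD1_c6 LD2_c57 LD3_c1) (LK LD1_c13 LD2_c11 LD3_c48) Lrfl Lrfl
theorem f457829 : Led Lsl_gt (LP (LK LD1_c22 LD2_c24 LD3_c47)) = (LP (LK LD1_c13 LD2_c11 LD3_c48)) :=
  Lre_g IH (LK LD1_c22 LD2_c24 LD3_c47) (LK LD1_c13 LD2_c11 LD3_c48) Lrfl Lrfl
theorem f508606 : Led Lsl_ct (LP (LK LD1_c13 LD2_c19 LD3_c19)) = (LP (LK LD1_c22 LD2_c35 LD3_c46)) :=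
  Lre_c IH (LK LD1_c13 LD2_c19 LD3_c19) (LK LD1_c22 LD2_c35 LD3_c46) Lrfl Lrfl
theorem f661042 : Led Lsl_bf (LP (LK LD1_c22 LD2_c24 LD3_c47)) = (LP (LK LD1_c13 LD2_c19 LD3_c19)) :=
  Lgr Lrot156 (Lpr_gt (f457829 IH) (Lpe (f486018 IH) (Lpr_ct (f457817 IH) (Lpr_gt (f486013 IH) (Lpe (f478483 IH) (Lpr_bt (f486015 IH) (Lpr_gt (f478568 IH) (Lpr_ct (f661038 IH) (Lpr_gt (f661037 IH) (Lpe (f508606 IH) (Lpn (LP (LK LD1_c13 LD2_c19 LD3_c19)))))))))))))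
theorem f151414 : Led Lsl_dt (LP (LK LD1_c7 LD2_c1 LD3_c24)) = (LP (LK LD1_c13 LD2_c19 LD3_c19)) :=
  Lre_d IH (LK LD1_c7 LD2_c1 LD3_c24) (LK LD1_c13 LD2_c19 LD3_c19) Lrfl Lrfl
theorem f661046 : Led Lsl_dt (LP (LK LD1_c22 LD2_c24 LD3_c47)) = (LP (LK LD1_c13 LD2_c19 LD3_c17)) :=
  Lgr Lrot79 (Lpr_bf (f661042 IH) (Lpe (f151414 IH) (Lpe (f508604 IH) (Lpn (LP (LK LD1_c13 LD2_c19 LD3_c17))))))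
theorem f661050 : Led Lsl_df (LP (LK LD1_c22 LD2_c24 LD3_c47)) = (LP (LK LD1_c13 LD2_c19 LD3_c17)) :=
  Lgr Lrot38 (Lpr_dt (f661046 IH) (Lpn (LP (LK LD1_c13 LD2_c19 LD3_c17))))
theorem f457822 : Led Lsl_dt (LP (LK LD1_c13 LD2_c11 LD3_c48)) = (LP (LK LD1_c6 LD2_c56 LD3_c60)) :=
  Lre_d IH (LK LD1_c13 LD2_c11 LD3_c48) (LK LD1_c6 LD2_c56 LD3_c60) Lrfl Lrfl
theorem f457830 : Led Lsl_dt (LP (LK LD1_c14 LD2_c22 LD3_c13)) = (LP (LK LD1_c7 LD2_c37 LD3_c20)) :=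
  Lre_d IH (LK LD1_c14 LD2_c22 LD3_c13) (LK LD1_c7 LD2_c37 LD3_c20) Lrfl Lrfl
theorem f801831 : Led Lsl_gf (LP (LK LD1_c14 LD2_c22 LD3_c13)) = v22182 :=
  Lgr Lrot143 (Lpr_dt (f457830 IH) (Lpe (K34.f457815 IH) (Lpe (f457822 IH) (Lpe (f457829 IH) (Lpr_df (f661050 IH) (Lpe (f661032 IH) (Lpe (K3.f95503 IH) (Lpr_gt (K47.f95511 IH) (Lpr_dt (f801827 IH) (Lpn v22182))))))))))
theorem f457823 : Led Lsl_dt (LP (LK LD1_c7 LD2_c37 LD3_c20)) = (LP (LK LD1_c14 LD2_c22 LD3_c13)) :=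
  Lre_d IH (LK LD1_c7 LD2_c37 LD3_c20) (LK LD1_c14 LD2_c22 LD3_c13) Lrfl Lrfl
theorem f801832 : v13753 = (LP (LK LD1_c3 LD2_c48 LD3_c6)) :=
  (Llr Lrot141 (Lpe (f704669 IH) (Lpe (K6.f87635 IH) (Lpr_dt (K3.f11012 IH) (Lpr_gt (K2.f78097 IH) (Lpr_df (K3.f108982 IH) (Lpr_et (f108990 IH) (Lpr_gt (K47.f95511 IH) (Lpr_dt (f801827 IH) (Lpe (f801831 IH) (Lpe (f457823 IH) (Lpr_et (K34.f457825 IH) (Lpn (LP (LK LD1_c3 LD2_c48 LD3_c6))))))))))))))).symm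
theorem f801834 : Led Lsl_gt (LP (LK LD1_c3 LD2_c48 LD3_c6)) = (LP (LK LD1_c4 LD2_c47 LD3_c49)) :=
  Leop (Lpr_gf (f704669 IH) (Lpqs (f801832 IH) (Lpn (LP (LK LD1_c3 LD2_c48 LD3_c6)))))
theorem seed_1675 : LEOK LG_g (LK LD1_c3 LD2_c48 LD3_c6) :=
  Leoe_g (LK LD1_c3 LD2_c48 LD3_c6) (f801834 IH)
theorem f534141 : Led Lsl_at (LP (LK LD1_c3 LD2_c52 LD3_c26)) = (LP (LK LD1_c7 LD2_c40 LD3_c49)) :=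
  Lgr Lrot80 (Lpe (K34.f471108 IH) (Lpr_af (K48.f534137 IH) (Lpe (K48.f534130 IH) (Lpn (LP (LK LD1_c7 LD2_c40 LD3_c49))))))
theorem f471113 : Led Lsl_dt (LP (LK LD1_c7 LD2_c46 LD3_c43)) = (LP (LK LD1_c3 LD2_c52 LD3_c26)) :=
  Lre_d IH (LK LD1_c7 LD2_c46 LD3_c43) (LK LD1_c3 LD2_c52 LD3_c26) Lrfl Lrfl
theorem f144944 : Led Lsl_dt (LP (LK LD1_c7 LD2_c40 LD3_c49)) = (LP (LK LD1_c14 LD2_c28 LD3_c46)) :=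
  Lre_d IH (LK LD1_c7 LD2_c40 LD3_c49) (LK LD1_c14 LD2_c28 LD3_c46) Lrfl Lrfl
theorem f534143 : Led Lsl_af (LP (LK LD1_c7 LD2_c46 LD3_c43)) = (LP (LK LD1_c14 LD2_c28 LD3_c46)) :=
  Lgr Lrot117 (Lpr_dt (f471113 IH) (Lpr_at (f534141 IH) (Lpr_dt (f144944 IH) (Lpn (LP (LK LD1_c14 LD2_c28 LD3_c46))))))
theorem f487261 : Led Lsl_bt (LP (LK LD1_c7 LD2_c46 LD3_c43)) = (LP (LK LD1_c3 LD2_c52 LD3_c27)) :=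
  Lre_b IH (LK LD1_c7 LD2_c46 LD3_c43) (LK LD1_c3 LD2_c52 LD3_c27) Lrfl Lrfl
theorem f532500 : Led Lsl_at (LP (LK LD1_c3 LD2_c52 LD3_c27)) = (LP (LK LD1_c7 LD2_c30 LD3_c23)) :=
  Lgr Lrot100 (Lpr_af (K48.f532498 IH) (Lpn (LP (LK LD1_c7 LD2_c30 LD3_c23))))
theorem f532530 : Led Lsl_at (LP (LK LD1_c14 LD2_c10 LD3_c32)) = (LP (LK LD1_c23 LD2_c45 LD3_c53)) :=
  Lre_a IH (LK LD1_c14 LD2_c10 LD3_c32) (LK LD1_c23 LD2_c45 LD3_c53) Lrfl Lrfl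
theorem f534147 : Led Lsl_bt (LP (LK LD1_c23 LD2_c45 LD3_c53)) = (LP (LK LD1_c14 LD2_c28 LD3_c46)) :=
  Lgr Lrot62 (Lpe (f532530 IH) (Lpe (K48.f532491 IH) (Lpe (f532500 IH) (Lpe (f487261 IH) (Lpr_af (f534143 IH) (Lpn (LP (LK LD1_c14 LD2_c28 LD3_c46))))))))
theorem f534182 : Led Lsl_bf (LP (LK LD1_c23 LD2_c45 LD3_c53)) = (LP (LK LD1_c14 LD2_c28 LD3_c46)) :=
  Lgr Lrot24 (Lpr_bt (f534147 IH) (Lpn (LP (LK LD1_c14 LD2_c28 LD3_c46))))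
theorem f457753 : Led Lsl_dt (LP (LK LD1_c23 LD2_c45 LD3_c53)) = (LP (LK LD1_c14 LD2_c10 LD3_c31)) :=
  Lre_d IH (LK LD1_c23 LD2_c45 LD3_c53) (LK LD1_c14 LD2_c10 LD3_c31) Lrfl Lrfl
theorem f534184 : Led Lsl_bt (LP (LK LD1_c14 LD2_c10 LD3_c31)) = (LP (LK LD1_c7 LD2_c40 LD3_c49)) :=
  Lgr Lrot95 (Lpe (f457753 IH) (Lpr_bf (f534182 IH) (Lpe (f144944 IH) (Lpn (LP (LK LD1_c7 LD2_c40 LD3_c49))))))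
theorem f123488 : Led Lsl_bt (LP (LK LD1_c7 LD2_c40 LD3_c53)) = (LP (LK LD1_c3 LD2_c49 LD3_c61)) :=
  Lre_b IH (LK LD1_c7 LD2_c40 LD3_c53) (LK LD1_c3 LD2_c49 LD3_c61) Lrfl Lrfl
theorem f532931 : Led Lsl_gf (LP (LK LD1_c13 LD2_c12 LD3_c32)) = (LP (LK LD1_c7 LD2_c53 LD3_c31)) :=
  Lgr Lrot181 (Lpr_ct (K41.f457964 IH) (Lpr_gt (K41.f493146 IH) (Lpe (K34.f492268 IH) (Lpr_bt (K34.f492266 IH) (Lpr_gt (K41.f530357 IH) (Lpqs (K34.f532914 IH) (Lpe (f123488 IH) (Lpe (K34.f123490 IH) (Lpr_gt (K34.f532923 IH) (Lpe (K35.f532236 IH) (Lpr_bt (K41.f532244 IH) (Lpn (LP (LK LD1_c7 LD2_c53 LD3_c31))))))))))))))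
theorem f17021 : Led Lsl_ct (LP (LK LD1_c6 LD2_c57 LD3_c22)) = (LP (LK LD1_c13 LD2_c12 LD3_c32)) :=
  Lre_c IH (LK LD1_c6 LD2_c57 LD3_c22) (LK LD1_c13 LD2_c12 LD3_c32) Lrfl Lrfl
def v7620 : LQ := Led Lsl_gt (LP (LK LD1_c3 LD2_c53 LD3_c26))
theorem f667331 : Led Lsl_gt (LP (LK LD1_c3 LD2_c53 LD3_c26)) = v7620 :=
  Lrfl
theorem f14904 : Led Lsl_bt (LP (LK LD1_c3 LD2_c52 LD3_c29)) = (LP (LK LD1_c1 LD2_c52 LD3_c53)) :=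
  Lre_b IH (LK LD1_c3 LD2_c52 LD3_c29) (LK LD1_c1 LD2_c52 LD3_c53) Lrfl Lrfl
def v7600 : LQ := Led Lsl_ct (LP (LK LD1_c3 LD2_c52 LD3_c29))
theorem f667177 : Led Lsl_ct (LP (LK LD1_c3 LD2_c52 LD3_c29)) = v7600 :=
  Lrfl
theorem f16756 : Led Lsl_bt (LP (LK LD1_c1 LD2_c40 LD3_c23)) = (LP (LK LD1_c3 LD2_c27 LD3_c36)) :=
  Lre_b IH (LK LD1_c1 LD2_c40 LD3_c23) (LK LD1_c3 LD2_c27 LD3_c36) Lrfl Lrfl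
theorem f667181 : Led Lsl_gt (LP (LK LD1_c13 LD2_c12 LD3_c32)) = v7600 :=
  Lgr Lrot149 (Lpe (f17021 IH) (Lpe (K41.f17020 IH) (Lpe (f16756 IH) (Lpr_ct (K28.f16755 IH) (Lpe (K2.f16743 IH) (Lpe (K24.f15674 IH) (Lpe (K47.f15453 IH) (Lpe (K34.f17019 IH) (Lpe (f14904 IH) (Lpr_ct (f667177 IH) (Lpn v7600)))))))))))
theorem f667333 : Led Lsl_bt (LP (LK LD1_c6 LD2_c57 LD3_c22)) = v7620 :=
  Lgr Lrot92 (Lpr_ct (f17021 IH) (Lpr_gt (f667181 IH) (Lpe (f667177 IH) (Lpr_bt (f14904 IH) (Lpr_gt (K34.f17019 IH) (Lpr_ct (K28.f15691 IH) (Lpr_gt (K34.f15692 IH) (Lpe (K34.f15693 IH) (Lpr_bt (K48.f15694 IH) (Lpr_gt (f667331 IH) (Lpn v7620)))))))))))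
def v7456 : LQ := Led Lsl_ft (LP (LK LD1_c3 LD2_c48 LD3_c31))
theorem f665686 : Led Lsl_ft (LP (LK LD1_c3 LD2_c48 LD3_c31)) = v7456 :=
  Lrfl
theorem f64416 : Led Lsl_et (LP (LK LD1_c1 LD2_c51 LD3_c16)) = (LP (LK LD1_c3 LD2_c48 LD3_c31)) :=
  Lre_e IH (LK LD1_c1 LD2_c51 LD3_c16) (LK LD1_c3 LD2_c48 LD3_c31) Lrfl Lrfl
theorem f64417 : Led Lsl_cf (LP (LK LD1_c3 LD2_c19 LD3_c50)) = (LP (LK LD1_c3 LD2_c48 LD3_c31)) :=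
  Lgr Lrot39 (Lpr_et (K6.f57265 IH) (Lpr_ct (K4.f64307 IH) (Lpr_et (f64416 IH) (Lpn (LP (LK LD1_c3 LD2_c48 LD3_c31))))))
theorem f64420 : Led Lsl_ct (LP (LK LD1_c3 LD2_c19 LD3_c50)) = (LP (LK LD1_c3 LD2_c48 LD3_c31)) :=
  Lgr Lrot59 (Lpr_cf (f64417 IH) (Lpn (LP (LK LD1_c3 LD2_c48 LD3_c31))))
theorem f57463 : Led Lsl_ft (LP (LK LD1_c6 LD2_c43 LD3_c28)) = (LP (LK LD1_c3 LD2_c19 LD3_c50)) :=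
  Lre_f IH (LK LD1_c6 LD2_c43 LD3_c28) (LK LD1_c3 LD2_c19 LD3_c50) Lrfl Lrfl
theorem f665687 : Led Lsl_cf (LP (LK LD1_c6 LD2_c43 LD3_c28)) = v7456 :=
  Lgr Lrot108 (Lpr_ft (f57463 IH) (Lpr_ct (f64420 IH) (Lpr_ft (f665686 IH) (Lpn v7456))))
theorem f667337 : Led Lsl_bf (LP (LK LD1_c6 LD2_c57 LD3_c22)) = v7620 :=
  Lgr Lrot24 (Lpr_bt (f667333 IH) (Lpn v7620))
theorem f472065 : Led Lsl_ct (LP (LK LD1_c14 LD2_c20 LD3_c29)) = (LP (LK LD1_c14 LD2_c22 LD3_c6)) :=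
  Lre_c IH (LK LD1_c14 LD2_c20 LD3_c29) (LK LD1_c14 LD2_c22 LD3_c6) Lrfl Lrfl
theorem f667338 : Led Lsl_ct (LP (LK LD1_c7 LD2_c37 LD3_c17)) = v7620 :=
  Lgr Lrot83 (Lpe (K35.f457851 IH) (Lpe (f472065 IH) (Lpe (K41.f534586 IH) (Lpe (f17021 IH) (Lpr_bf (f667337 IH) (Lpn v7620))))))
theorem f146476 : Led Lsl_ff (LP (LK LD1_c3 LD2_c26 LD3_c27)) = (LP (LK LD1_c2 LD2_c50 LD3_c16)) :=
  Lgr Lrot19 (Lpe (K3.f92034 IH) (Lpr_ft (K6.f146473 IH) (Lpr_dt (K6.f57466 IH) (Lpn (LP (LK LD1_c2 LD2_c50 LD3_c16))))))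
theorem f57464 : Led Lsl_at (LP (LK LD1_c1 LD2_c36 LD3_c19)) = (LP (LK LD1_c3 LD2_c19 LD3_c43)) :=
  Lre_a IH (LK LD1_c1 LD2_c36 LD3_c19) (LK LD1_c3 LD2_c19 LD3_c43) Lrfl Lrfl
theorem f145105 : Led Lsl_af (LP (LK LD1_c2 LD2_c50 LD3_c16)) = (LP (LK LD1_c3 LD2_c26 LD3_c28)) :=
  Lgr Lrot36 (Lpe (K1.f57263 IH) (Lpr_at (f57464 IH) (Lpr_bt (K6.f57465 IH) (Lpr_at (K6.f145101 IH) (Lpr_bt (K41.f14607 IH) (Lpn (LP (LK LD1_c3 LD2_c26 LD3_c28))))))))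
theorem f145135 : Led Lsl_ff (LP (LK LD1_c3 LD2_c26 LD3_c28)) = (LP (LK LD1_c3 LD2_c50 LD3_c29)) :=
  Lgr Lrot25 (Lpr_bt (K6.f15634 IH) (Lpe (K6.f145112 IH) (Lpr_bt (K6.f145127 IH) (Lpn (LP (LK LD1_c3 LD2_c50 LD3_c29))))))
theorem f437169 : Led Lsl_at (LP (LK LD1_c3 LD2_c26 LD3_c27)) = (LP (LK LD1_c3 LD2_c50 LD3_c29)) :=
  Lgr Lrot66 (Lpr_ff (f146476 IH) (Lpr_af (f145105 IH) (Lpr_ff (f145135 IH) (Lpn (LP (LK LD1_c3 LD2_c50 LD3_c29))))))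
theorem f64337 : Led Lsl_et (LP (LK LD1_c3 LD2_c50 LD3_c29)) = (LP (LK LD1_c7 LD2_c42 LD3_c3)) :=
  Lre_e IH (LK LD1_c3 LD2_c50 LD3_c29) (LK LD1_c7 LD2_c42 LD3_c3) Lrfl Lrfl
theorem f437171 : Led Lsl_af (LP (LK LD1_c6 LD2_c54 LD3_c45)) = (LP (LK LD1_c7 LD2_c42 LD3_c3)) :=
  Lgr Lrot50 (Lpr_et (K6.f15638 IH) (Lpr_at (f437169 IH) (Lpr_et (f64337 IH) (Lpn (LP (LK LD1_c7 LD2_c42 LD3_c3))))))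
theorem f437173 : Led Lsl_at (LP (LK LD1_c6 LD2_c54 LD3_c45)) = (LP (LK LD1_c7 LD2_c42 LD3_c3)) :=
  Lgr Lrot100 (Lpr_af (f437171 IH) (Lpn (LP (LK LD1_c7 LD2_c42 LD3_c3))))
theorem f145126 : Led Lsl_et (LP (LK LD1_c14 LD2_c23 LD3_c5)) = (LP (LK LD1_c7 LD2_c37 LD3_c61)) :=
  Lre_e IH (LK LD1_c14 LD2_c23 LD3_c5) (LK LD1_c7 LD2_c37 LD3_c61) Lrfl Lrfl
theorem f145133 : Led Lsl_bf (LP (LK LD1_c14 LD2_c23 LD3_c5)) = (LP (LK LD1_c7 LD2_c42 LD3_c3)) :=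
  Lgr Lrot96 (Lpr_et (f145126 IH) (Lpr_bt (K6.f145127 IH) (Lpr_et (f64337 IH) (Lpn (LP (LK LD1_c7 LD2_c42 LD3_c3))))))
theorem f437201 : Led Lsl_at (LP (LK LD1_c14 LD2_c23 LD3_c5)) = (LP (LK LD1_c7 LD2_c38 LD3_c0)) :=
  Lre_a IH (LK LD1_c14 LD2_c23 LD3_c5) (LK LD1_c7 LD2_c38 LD3_c0) Lrfl Lrfl
theorem f64419 : Led Lsl_bt (LP (LK LD1_c7 LD2_c38 LD3_c0)) = (LP (LK LD1_c3 LD2_c48 LD3_c31)) :=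
  Lre_b IH (LK LD1_c7 LD2_c38 LD3_c0) (LK LD1_c3 LD2_c48 LD3_c31) Lrfl Lrfl
theorem f437202 : Led Lsl_af (LP (LK LD1_c4 LD2_c47 LD3_c49)) = (LP (LK LD1_c3 LD2_c48 LD3_c31)) :=
  Lgr Lrot36 (Lpe (K6.f87636 IH) (Lpr_at (f437173 IH) (Lpe (f145133 IH) (Lpr_at (f437201 IH) (Lpr_bt (f64419 IH) (Lpn (LP (LK LD1_c3 LD2_c48 LD3_c31))))))))
theorem f665688 : Led Lsl_ff (LP (LK LD1_c3 LD2_c48 LD3_c31)) = v7456 :=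
  Lgr Lrot3 (Lpr_ft (f665686 IH) (Lpn v7456))
theorem f704670 : Led Lsl_gt v7456 = v13753 :=
  Lgr Lrot5 (Lpe (f665688 IH) (Lpe (f437202 IH) (Lpr_gf (f704669 IH) (Lpn v13753))))
theorem f801835 : v7456 = (LP (LK LD1_c7 LD2_c37 LD3_c17)) :=
  Lefun (Lecon (Lfl_gt (f704670 IH)) (f801832 IH)) (Lfl_gt (K35.f457848 IH))
theorem f801841 : (LP (LK LD1_c6 LD2_c43 LD3_c28)) = v7620 :=
  Lefun (Lecon (Lfl_cf (f665687 IH)) (f801835 IH)) (f667338 IH)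
theorem f145174 : Led Lsl_gt (LP (LK LD1_c6 LD2_c43 LD3_c28)) = (LP (LK LD1_c12 LD2_c51 LD3_c19)) :=
  Lre_g IH (LK LD1_c6 LD2_c43 LD3_c28) (LK LD1_c12 LD2_c51 LD3_c19) Lrfl Lrfl
theorem f802404 : Led Lsl_cf (LP (LK LD1_c7 LD2_c43 LD3_c38)) = (LP (LK LD1_c12 LD2_c51 LD3_c19)) :=
  Lgr Lrot125 (Lpr_gt (K49.f534274 IH) (Lpe (K6.f116697 IH) (Lpr_bt (K6.f144915 IH) (Lpr_gt (K41.f144943 IH) (Lpe (f534184 IH) (Lpr_ct (K41.f457738 IH) (Lpe (f532931 IH) (Lpe (f17021 IH) (Lpr_bt (f667333 IH) (Lpq (f801841 IH) (Lpr_gt (f145174 IH) (Lpn (LP (LK LD1_c12 LD2_c51 LD3_c19))))))))))))))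
theorem f530302 : Led Lsl_at (LP (LK LD1_c7 LD2_c43 LD3_c38)) = (LP (LK LD1_c3 LD2_c51 LD3_c8)) :=
  Lre_a IH (LK LD1_c7 LD2_c43 LD3_c38) (LK LD1_c3 LD2_c51 LD3_c8) Lrfl Lrfl
def v7551 : LQ := Led Lsl_ct (LP (LK LD1_c3 LD2_c51 LD3_c8))
theorem f666690 : Led Lsl_ct (LP (LK LD1_c3 LD2_c51 LD3_c8)) = v7551 :=
  Lrfl
def v19501 : LQ := Led Lsl_ft (LP (LK LD1_c6 LD2_c43 LD3_c14))
theorem f780048 : Led Lsl_ft (LP (LK LD1_c6 LD2_c43 LD3_c14)) = v19501 :=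
  Lrfl
theorem f780052 : Led Lsl_ff (LP (LK LD1_c6 LD2_c43 LD3_c14)) = v19501 :=
  Lgr Lrot3 (Lpr_ft (f780048 IH) (Lpn v19501))
theorem f57459 : Led Lsl_at (LP (LK LD1_c6 LD2_c43 LD3_c14)) = (LP (LK LD1_c3 LD2_c19 LD3_c50)) :=
  Lre_a IH (LK LD1_c6 LD2_c43 LD3_c14) (LK LD1_c3 LD2_c19 LD3_c50) Lrfl Lrfl
theorem f57285 : Led Lsl_gt (LP (LK LD1_c6 LD2_c43 LD3_c26)) = (LP (LK LD1_c3 LD2_c19 LD3_c50)) :=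
  Lre_g IH (LK LD1_c6 LD2_c43 LD3_c26) (LK LD1_c3 LD2_c19 LD3_c50) Lrfl Lrfl
theorem f780057 : Led Lsl_gf (LP (LK LD1_c6 LD2_c43 LD3_c26)) = v19501 :=
  Lgr Lrot47 (Lpr_gt (f57285 IH) (Lpe (f57459 IH) (Lpr_ff (f780052 IH) (Lpn v19501))))
theorem f451218 : Led Lsl_ct (LP (LK LD1_c0 LD2_c52 LD3_c56)) = (LP (LK LD1_c0 LD2_c24 LD3_c15)) :=
  Lre_c IH (LK LD1_c0 LD2_c52 LD3_c56) (LK LD1_c0 LD2_c24 LD3_c15) Lrfl Lrfl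
theorem f457746 : Led Lsl_gt (LP (LK LD1_c3 LD2_c55 LD3_c56)) = (LP (LK LD1_c7 LD2_c47 LD3_c15)) :=
  Lre_g IH (LK LD1_c3 LD2_c55 LD3_c56) (LK LD1_c7 LD2_c47 LD3_c15) Lrfl Lrfl
theorem f532481 : Led Lsl_bt (LP (LK LD1_c3 LD2_c52 LD3_c47)) = (LP (LK LD1_c7 LD2_c47 LD3_c15)) :=
  Lre_b IH (LK LD1_c3 LD2_c52 LD3_c47) (LK LD1_c7 LD2_c47 LD3_c15) Lrfl Lrfl
theorem f458061 : Led Lsl_ct (LP (LK LD1_c3 LD2_c52 LD3_c47)) = (LP (LK LD1_c7 LD2_c47 LD3_c16)) :=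
  Lre_c IH (LK LD1_c3 LD2_c52 LD3_c47) (LK LD1_c7 LD2_c47 LD3_c16) Lrfl Lrfl
theorem f666694 : Led Lsl_gt (LP (LK LD1_c7 LD2_c47 LD3_c16)) = v7551 :=
  Lgr Lrot65 (Lpe (f458061 IH) (Lpr_bt (f532481 IH) (Lpe (f457746 IH) (Lpe (K41.f457731 IH) (Lpr_ct (K29.f457722 IH) (Lpe (K28.f17263 IH) (Lpe (f451218 IH) (Lpe (K34.f95367 IH) (Lpe (K49.f14845 IH) (Lpr_ct (f666690 IH) (Lpn v7551)))))))))))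
theorem f437204 : Led Lsl_at (LP (LK LD1_c4 LD2_c47 LD3_c49)) = (LP (LK LD1_c3 LD2_c48 LD3_c31)) :=
  Lgr Lrot100 (Lpr_af (f437202 IH) (Lpn (LP (LK LD1_c3 LD2_c48 LD3_c31))))
theorem f57269 : Led Lsl_at (LP (LK LD1_c3 LD2_c19 LD3_c50)) = (LP (LK LD1_c6 LD2_c43 LD3_c14)) :=
  Lre_a IH (LK LD1_c3 LD2_c19 LD3_c50) (LK LD1_c6 LD2_c43 LD3_c14) Lrfl Lrfl
theorem f437239 : Led Lsl_cf (LP (LK LD1_c4 LD2_c47 LD3_c49)) = (LP (LK LD1_c6 LD2_c43 LD3_c14)) :=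
  Lgr Lrot1 (Lpr_at (f437204 IH) (Lpe (f64417 IH) (Lpr_at (f57269 IH) (Lpn (LP (LK LD1_c6 LD2_c43 LD3_c14))))))
def v13754 : LQ := Led Lsl_ft (LP (LK LD1_c4 LD2_c47 LD3_c49))
theorem f704672 : Led Lsl_ft (LP (LK LD1_c4 LD2_c47 LD3_c49)) = v13754 :=
  Lrfl
theorem f780055 : Led Lsl_ct v13754 = v19501 :=
  Lgr Lrot40 (Lpe (f704672 IH) (Lpr_cf (f437239 IH) (Lpr_ff (f780052 IH) (Lpn v19501))))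
def v7607 : LQ := Led Lsl_et (LP (LK LD1_c3 LD2_c52 LD3_c47))
theorem f667219 : Led Lsl_et (LP (LK LD1_c3 LD2_c52 LD3_c47)) = v7607 :=
  Lrfl
theorem f667220 : Led Lsl_ef (LP (LK LD1_c3 LD2_c52 LD3_c47)) = v7607 :=
  Lgr Lrot88 (Lpr_et (f667219 IH) (Lpn v7607))
theorem f704675 : Led Lsl_ff (LP (LK LD1_c4 LD2_c47 LD3_c49)) = v13754 :=
  Lgr Lrot3 (Lpr_ft (f704672 IH) (Lpn v13754))
theorem f87629 : Led Lsl_et (LP (LK LD1_c4 LD2_c47 LD3_c49)) = (LP (LK LD1_c2 LD2_c21 LD3_c48)) :=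
  Lre_e IH (LK LD1_c4 LD2_c47 LD3_c49) (LK LD1_c2 LD2_c21 LD3_c48) Lrfl Lrfl
theorem f145178 : Led Lsl_ft (LP (LK LD1_c2 LD2_c21 LD3_c48)) = (LP (LK LD1_c1 LD2_c36 LD3_c19)) :=
  Lgr Lrot2 (Lpr_gt (K5.f89823 IH) (Lpr_gt (K6.f145151 IH) (Lpe (f57464 IH) (Lpn (LP (LK LD1_c1 LD2_c36 LD3_c19))))))
theorem f57461 : Led Lsl_et (LP (LK LD1_c1 LD2_c36 LD3_c19)) = (LP (LK LD1_c3 LD2_c19 LD3_c50)) :=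
  Lre_e IH (LK LD1_c1 LD2_c36 LD3_c19) (LK LD1_c3 LD2_c19 LD3_c50) Lrfl Lrfl
theorem f57277 : Led Lsl_ft (LP (LK LD1_c3 LD2_c19 LD3_c50)) = (LP (LK LD1_c6 LD2_c43 LD3_c28)) :=
  Lre_f IH (LK LD1_c3 LD2_c19 LD3_c50) (LK LD1_c6 LD2_c43 LD3_c28) Lrfl Lrfl
theorem f704678 : Led Lsl_et (LP (LK LD1_c6 LD2_c43 LD3_c28)) = v13754 :=
  Lgr Lrot69 (Lpe (f57277 IH) (Lpe (f57461 IH) (Lpe (f145178 IH) (Lpe (f87629 IH) (Lpr_ff (f704675 IH) (Lpn v13754))))))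
def v20748 : LQ := Led Lsl_at (LP (LK LD1_c7 LD2_c3 LD3_c59))
theorem f789672 : Led Lsl_at (LP (LK LD1_c7 LD2_c3 LD3_c59)) = v20748 :=
  Lrfl
theorem f789674 : Led Lsl_bf (LP (LK LD1_c7 LD2_c33 LD3_c61)) = v20748 :=
  Lgr Lrot81 (Lpr_at (K37.f513306 IH) (Lpr_bt (K37.f63097 IH) (Lpr_at (K33.f512335 IH) (Lpr_bt (K39.f18606 IH) (Lpr_at (f789672 IH) (Lpn v20748))))))
theorem f789675 : Led Lsl_bt (LP (LK LD1_c7 LD2_c33 LD3_c61)) = v20748 :=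
  Lgr Lrot127 (Lpr_bf (f789674 IH) (Lpn v20748))
theorem f512644 : Led Lsl_af (LP (LK LD1_c7 LD2_c3 LD3_c12)) = (LP (LK LD1_c6 LD2_c51 LD3_c59)) :=
  Lgr Lrot117 (Lpr_dt (K29.f457481 IH) (Lpr_at (K34.f512642 IH) (Lpr_dt (K28.f18600 IH) (Lpn (LP (LK LD1_c6 LD2_c51 LD3_c59))))))
theorem f512652 : Led Lsl_ft (LP (LK LD1_c7 LD2_c3 LD3_c12)) = (LP (LK LD1_c6 LD2_c52 LD3_c0)) :=
  Lgr Lrot54 (Lpe (K29.f457482 IH) (Lpr_ff (K34.f512646 IH) (Lpe (K28.f458369 IH) (Lpn (LP (LK LD1_c6 LD2_c52 LD3_c0))))))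
theorem f512681 : Led Lsl_af (LP (LK LD1_c13 LD2_c2 LD3_c55)) = (LP (LK LD1_c6 LD2_c52 LD3_c0)) :=
  Lgr Lrot45 (Lpr_ft (K34.f512679 IH) (Lpe (f512644 IH) (Lpr_ft (f512652 IH) (Lpn (LP (LK LD1_c6 LD2_c52 LD3_c0))))))
theorem f512676 : Led Lsl_bt (LP (LK LD1_c13 LD2_c2 LD3_c55)) = (LP (LK LD1_c22 LD2_c12 LD3_c38)) :=
  Lre_b IH (LK LD1_c13 LD2_c2 LD3_c55) (LK LD1_c22 LD2_c12 LD3_c38) Lrfl Lrfl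
theorem f512685 : Led Lsl_at (LP (LK LD1_c22 LD2_c12 LD3_c38)) = (LP (LK LD1_c30 LD2_c20 LD3_c51)) :=
  Lre_a IH (LK LD1_c22 LD2_c12 LD3_c38) (LK LD1_c30 LD2_c20 LD3_c51) Lrfl Lrfl
theorem f469007 : Led Lsl_bt (LP (LK LD1_c13 LD2_c3 LD3_c34)) = (LP (LK LD1_c6 LD2_c52 LD3_c0)) :=
  Lre_b IH (LK LD1_c13 LD2_c3 LD3_c34) (LK LD1_c6 LD2_c52 LD3_c0) Lrfl Lrfl
theorem f512728 : Led Lsl_at (LP (LK LD1_c22 LD2_c13 LD3_c33)) = (LP (LK LD1_c13 LD2_c3 LD3_c34)) :=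
  Lre_a IH (LK LD1_c22 LD2_c13 LD3_c33) (LK LD1_c13 LD2_c3 LD3_c34) Lrfl Lrfl
theorem f512729 : Led Lsl_bt (LP (LK LD1_c30 LD2_c20 LD3_c51)) = (LP (LK LD1_c22 LD2_c13 LD3_c33)) :=
  Lgr Lrot62 (Lpe (f512685 IH) (Lpe (f512676 IH) (Lpr_af (f512681 IH) (Lpe (f469007 IH) (Lpe (f512728 IH) (Lpn (LP (LK LD1_c22 LD2_c13 LD3_c33))))))))
theorem f512698 : Led Lsl_dt (LP (LK LD1_c22 LD2_c12 LD3_c37)) = (LP (LK LD1_c30 LD2_c20 LD3_c51)) :=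
  Lre_d IH (LK LD1_c22 LD2_c12 LD3_c37) (LK LD1_c30 LD2_c20 LD3_c51) Lrfl Lrfl
theorem f512735 : Led Lsl_dt (LP (LK LD1_c22 LD2_c13 LD3_c33)) = (LP (LK LD1_c13 LD2_c3 LD3_c33)) :=
  Lre_d IH (LK LD1_c22 LD2_c13 LD3_c33) (LK LD1_c13 LD2_c3 LD3_c33) Lrfl Lrfl
theorem f512736 : Led Lsl_bf (LP (LK LD1_c22 LD2_c12 LD3_c37)) = (LP (LK LD1_c13 LD2_c3 LD3_c33)) :=
  Lgr Lrot93 (Lpr_dt (f512698 IH) (Lpr_bt (f512729 IH) (Lpr_dt (f512735 IH) (Lpn (LP (LK LD1_c13 LD2_c3 LD3_c33))))))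
def v20734 : LQ := Led Lsl_bt (LP (LK LD1_c7 LD2_c3 LD3_c48))
theorem f789590 : Led Lsl_bt (LP (LK LD1_c7 LD2_c3 LD3_c48)) = v20734 :=
  Lrfl
def v20591 : LQ := Led Lsl_at (LP (LK LD1_c7 LD2_c0 LD3_c8))
theorem f788113 : Led Lsl_at (LP (LK LD1_c7 LD2_c0 LD3_c8)) = v20591 :=
  Lrfl
theorem f513994 : Led Lsl_ft (LP (LK LD1_c3 LD2_c30 LD3_c55)) = (LP (LK LD1_c7 LD2_c0 LD3_c8)) :=
  Lgr Lrot48 (Lpr_ff (K41.f513708 IH) (Lpn (LP (LK LD1_c7 LD2_c0 LD3_c8))))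
theorem f514018 : Led Lsl_at (LP (LK LD1_c7 LD2_c3 LD3_c48)) = (LP (LK LD1_c3 LD2_c30 LD3_c55)) :=
  Lre_a IH (LK LD1_c7 LD2_c3 LD3_c48) (LK LD1_c3 LD2_c30 LD3_c55) Lrfl Lrfl
theorem f788117 : Led Lsl_ff (LP (LK LD1_c7 LD2_c3 LD3_c48)) = v20591 :=
  Lgr Lrot30 (Lpr_at (f514018 IH) (Lpr_ft (f513994 IH) (Lpr_at (f788113 IH) (Lpn v20591))))
def v6808 : LQ := Led Lsl_at (LP (LK LD1_c3 LD2_c30 LD3_c41))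
theorem f658588 : Led Lsl_at (LP (LK LD1_c3 LD2_c30 LD3_c41)) = v6808 :=
  Lrfl
theorem f658589 : Led Lsl_af (LP (LK LD1_c3 LD2_c30 LD3_c41)) = v6808 :=
  Lgr Lrot0 (Lpr_at (f658588 IH) (Lpn v6808))
theorem f788115 : Led Lsl_bf v6808 = v20591 :=
  Lgr Lrot81 (Lpe (f658589 IH) (Lpr_bt (K35.f461022 IH) (Lpr_at (K34.f513684 IH) (Lpr_bt (K28.f463872 IH) (Lpr_at (f788113 IH) (Lpn v20591))))))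
theorem f788122 : Led Lsl_bt v6808 = v20591 :=
  Lgr Lrot127 (Lpr_bf (f788115 IH) (Lpn v20591))
theorem f789594 : Led Lsl_ff v6808 = v20734 :=
  Lgr Lrot25 (Lpr_bt (f788122 IH) (Lpe (f788117 IH) (Lpr_bt (f789590 IH) (Lpn v20734))))
def v20715 : LQ := Led Lsl_at (LP (LK LD1_c7 LD2_c3 LD3_c11))
theorem f789378 : Led Lsl_at (LP (LK LD1_c7 LD2_c3 LD3_c11)) = v20715 :=
  Lrfl
theorem f457483 : Led Lsl_bt (LP (LK LD1_c7 LD2_c3 LD3_c11)) = (LP (LK LD1_c3 LD2_c30 LD3_c37)) :=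
  Lre_b IH (LK LD1_c7 LD2_c3 LD3_c11) (LK LD1_c3 LD2_c30 LD3_c37) Lrfl Lrfl
theorem f512656 : Led Lsl_ff (LP (LK LD1_c7 LD2_c3 LD3_c11)) = (LP (LK LD1_c6 LD2_c51 LD3_c61)) :=
  Lgr Lrot25 (Lpr_bt (f457483 IH) (Lpr_ft (K34.f512654 IH) (Lpr_bt (K46.f458364 IH) (Lpn (LP (LK LD1_c6 LD2_c51 LD3_c61))))))
theorem f789383 : Led Lsl_gt (LP (LK LD1_c7 LD2_c30 LD3_c44)) = v20715 :=
  Lgr Lrot46 (Lpe (K46.f533201 IH) (Lpe (f512656 IH) (Lpr_at (f789378 IH) (Lpn v20715))))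
theorem f469716 : Led Lsl_bf (LP (LK LD1_c7 LD2_c3 LD3_c47)) = (LP (LK LD1_c6 LD2_c53 LD3_c12)) :=
  Lgr Lrot61 (Lpr_ft (K34.f469709 IH) (Lpe (K4.f94579 IH) (Lpr_ft (K28.f94599 IH) (Lpn (LP (LK LD1_c6 LD2_c53 LD3_c12))))))
theorem f788118 : Led Lsl_gt (LP (LK LD1_c7 LD2_c0 LD3_c50)) = v20591 :=
  Lgr Lrot46 (Lpe (K34.f469705 IH) (Lpr_ft (f513994 IH) (Lpr_at (f788113 IH) (Lpn v20591))))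
theorem f469714 : Led Lsl_af (LP (LK LD1_c7 LD2_c3 LD3_c47)) = (LP (LK LD1_c13 LD2_c17 LD3_c9)) :=
  Lgr Lrot45 (Lpr_ft (K34.f469709 IH) (Lpr_at (K34.f121868 IH) (Lpr_ft (K28.f464073 IH) (Lpn (LP (LK LD1_c13 LD2_c17 LD3_c9))))))
theorem f788119 : Led Lsl_gf (LP (LK LD1_c7 LD2_c3 LD3_c47)) = v20591 :=
  Lgr Lrot76 (Lpr_af (f469714 IH) (Lpe (K28.f464073 IH) (Lpr_gt (f788118 IH) (Lpn v20591))))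
theorem f789385 : Led Lsl_ct v6808 = v20715 :=
  Lgr Lrot63 (Lpr_bt (f788122 IH) (Lpe (f788119 IH) (Lpr_bf (f469716 IH) (Lpr_ct (K28.f94600 IH) (Lpe (K46.f440471 IH) (Lpr_cf (K28.f464524 IH) (Lpr_bt (K46.f464531 IH) (Lpe (K46.f532949 IH) (Lpr_ct (K34.f108976 IH) (Lpr_gt (f789383 IH) (Lpn v20715)))))))))))
theorem f512663 : Led Lsl_at (LP (LK LD1_c13 LD2_c3 LD3_c33)) = (LP (LK LD1_c6 LD2_c51 LD3_c61)) :=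
  Lre_a IH (LK LD1_c13 LD2_c3 LD3_c33) (LK LD1_c6 LD2_c51 LD3_c61) Lrfl Lrfl
theorem f789382 : Led Lsl_ff (LP (LK LD1_c13 LD2_c3 LD3_c33)) = v20715 :=
  Lgr Lrot30 (Lpr_at (f512663 IH) (Lpe (f512656 IH) (Lpr_at (f789378 IH) (Lpn v20715))))
theorem f789596 : Led Lsl_ct (LP (LK LD1_c13 LD2_c3 LD3_c33)) = v20734 :=
  Lgr Lrot40 (Lpr_ff (f789382 IH) (Lpe (f789385 IH) (Lpr_ff (f789594 IH) (Lpn v20734))))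
def v6774 : LQ := Led Lsl_bt (LP (LK LD1_c3 LD2_c29 LD3_c15))
theorem f658346 : Led Lsl_bt (LP (LK LD1_c3 LD2_c29 LD3_c15)) = v6774 :=
  Lrfl
theorem f658349 : Led Lsl_ff (LP (LK LD1_c3 LD2_c30 LD3_c41)) = v6774 :=
  Lgr Lrot25 (Lpr_bt (K35.f461022 IH) (Lpr_ft (K34.f513696 IH) (Lpr_bt (f658346 IH) (Lpn v6774))))
theorem f658353 : Led Lsl_ft (LP (LK LD1_c3 LD2_c30 LD3_c41)) = v6774 :=
  Lgr Lrot48 (Lpr_ff (f658349 IH) (Lpn v6774))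
theorem f789595 : Led Lsl_at v6774 = v20734 :=
  Lgr Lrot66 (Lpe (f658353 IH) (Lpr_af (f658589 IH) (Lpr_ff (f789594 IH) (Lpn v20734))))
def v6806 : LQ := Led Lsl_gt (LP (LK LD1_c3 LD2_c30 LD3_c41))
theorem f658584 : Led Lsl_gt (LP (LK LD1_c3 LD2_c30 LD3_c41)) = v6806 :=
  Lrfl
theorem f789599 : Led Lsl_gt v6806 = v20734 :=
  Lgr Lrot46 (Lpe (f658584 IH) (Lpr_ft (f658353 IH) (Lpr_at (f789595 IH) (Lpn v20734))))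
theorem f24174 : Led Lsl_gt (LP (LK LD1_c6 LD2_c33 LD3_c36)) = (LP (LK LD1_c12 LD2_c33 LD3_c38)) :=
  Lre_g IH (LK LD1_c6 LD2_c33 LD3_c36) (LK LD1_c12 LD2_c33 LD3_c38) Lrfl Lrfl
def v18789 : LQ := Led Lsl_gt (LP (LK LD1_c6 LD2_c33 LD3_c10))
theorem f768568 : Led Lsl_gt (LP (LK LD1_c6 LD2_c33 LD3_c10)) = v18789 :=
  Lrfl
theorem f58797 : Led Lsl_ft (LP (LK LD1_c6 LD2_c33 LD3_c10)) = (LP (LK LD1_c12 LD2_c33 LD3_c39)) :=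
  Lre_f IH (LK LD1_c6 LD2_c33 LD3_c10) (LK LD1_c12 LD2_c33 LD3_c39) Lrfl Lrfl
theorem f24175 : Led Lsl_at (LP (LK LD1_c12 LD2_c33 LD3_c39)) = (LP (LK LD1_c6 LD2_c33 LD3_c36)) :=
  Lre_a IH (LK LD1_c12 LD2_c33 LD3_c39) (LK LD1_c6 LD2_c33 LD3_c36) Lrfl Lrfl
theorem f768569 : Led Lsl_gf (LP (LK LD1_c6 LD2_c33 LD3_c36)) = v18789 :=
  Lgr Lrot76 (Lpe (f24175 IH) (Lpe (f58797 IH) (Lpr_gt (f768568 IH) (Lpn v18789))))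
theorem f15637 : Led Lsl_et (LP (LK LD1_c3 LD2_c26 LD3_c28)) = (LP (LK LD1_c6 LD2_c54 LD3_c47)) :=
  Lre_e IH (LK LD1_c3 LD2_c26 LD3_c28) (LK LD1_c6 LD2_c54 LD3_c47) Lrfl Lrfl
theorem f103764 : Led Lsl_dt (LP (LK LD1_c6 LD2_c53 LD3_c13)) = (LP (LK LD1_c13 LD2_c5 LD3_c24)) :=
  Lre_d IH (LK LD1_c6 LD2_c53 LD3_c13) (LK LD1_c13 LD2_c5 LD3_c24) Lrfl Lrfl
def v20336 : LQ := Led Lsl_gt (LP (LK LD1_c6 LD2_c54 LD3_c47))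
theorem f786415 : Led Lsl_gt (LP (LK LD1_c6 LD2_c54 LD3_c47)) = v20336 :=
  Lrfl
def v20338 : LQ := Led Lsl_ft (LP (LK LD1_c6 LD2_c54 LD3_c47))
theorem f786418 : Led Lsl_ft (LP (LK LD1_c6 LD2_c54 LD3_c47)) = v20338 :=
  Lrfl
theorem f15639 : Led Lsl_ct (LP (LK LD1_c6 LD2_c54 LD3_c47)) = (LP (LK LD1_c6 LD2_c54 LD3_c45)) :=
  Lgr Lrot15 (Lpe (f15637 IH) (Lpr_cf (K3.f15632 IH) (Lpe (K6.f15638 IH) (Lpn (LP (LK LD1_c6 LD2_c54 LD3_c45))))))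
theorem f15642 : Led Lsl_cf (LP (LK LD1_c6 LD2_c54 LD3_c47)) = (LP (LK LD1_c6 LD2_c54 LD3_c45)) :=
  Lgr Lrot11 (Lpr_ct (f15639 IH) (Lpn (LP (LK LD1_c6 LD2_c54 LD3_c45))))
theorem f57462 : Led Lsl_et (LP (LK LD1_c5 LD2_c48 LD3_c21)) = (LP (LK LD1_c2 LD2_c50 LD3_c16)) :=
  Lre_e IH (LK LD1_c5 LD2_c48 LD3_c21) (LK LD1_c2 LD2_c50 LD3_c16) Lrfl Lrfl
theorem f64338 : Led Lsl_cf (LP (LK LD1_c5 LD2_c48 LD3_c21)) = (LP (LK LD1_c7 LD2_c42 LD3_c3)) :=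
  Lgr Lrot39 (Lpr_et (f57462 IH) (Lpr_ct (K1.f64309 IH) (Lpr_et (f64337 IH) (Lpn (LP (LK LD1_c7 LD2_c42 LD3_c3))))))
theorem f64409 : Led Lsl_ct (LP (LK LD1_c5 LD2_c48 LD3_c21)) = (LP (LK LD1_c7 LD2_c42 LD3_c3)) :=
  Lgr Lrot59 (Lpr_cf (f64338 IH) (Lpn (LP (LK LD1_c7 LD2_c42 LD3_c3))))
theorem f437175 : Led Lsl_at (LP (LK LD1_c6 LD2_c54 LD3_c47)) = (LP (LK LD1_c5 LD2_c48 LD3_c21)) :=
  Lgr Lrot107 (Lpr_cf (f15642 IH) (Lpr_af (f437171 IH) (Lpe (f64409 IH) (Lpn (LP (LK LD1_c5 LD2_c48 LD3_c21))))))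
theorem f437177 : Led Lsl_af (LP (LK LD1_c6 LD2_c54 LD3_c47)) = (LP (LK LD1_c5 LD2_c48 LD3_c21)) :=
  Lgr Lrot0 (Lpr_at (f437175 IH) (Lpn (LP (LK LD1_c5 LD2_c48 LD3_c21))))
def v15827 : LQ := Led Lsl_ft (LP (LK LD1_c5 LD2_c48 LD3_c21))
theorem f741901 : Led Lsl_ft (LP (LK LD1_c5 LD2_c48 LD3_c21)) = v15827 :=
  Lrfl
theorem f741903 : Led Lsl_ff (LP (LK LD1_c5 LD2_c48 LD3_c21)) = v15827 :=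
  Lgr Lrot3 (Lpr_ft (f741901 IH) (Lpn v15827))
theorem f786419 : Led Lsl_af v15827 = v20338 :=
  Lgr Lrot45 (Lpe (f741903 IH) (Lpe (f437177 IH) (Lpr_ft (f786418 IH) (Lpn v20338))))
theorem f786422 : Led Lsl_gt v20336 = v15827 :=
  Lgr Lrot46 (Lpe (f786415 IH) (Lpr_ft (f786418 IH) (Lpe (f786419 IH) (Lpn v15827))))
theorem f741904 : Led Lsl_bt (LP (LK LD1_c6 LD2_c43 LD3_c28)) = v15827 :=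
  Lgr Lrot35 (Lpe (f57277 IH) (Lpr_bf (K6.f57267 IH) (Lpr_ff (f741903 IH) (Lpn v15827))))
theorem f801847 : (LP (LK LD1_c6 LD2_c57 LD3_c22)) = v15827 :=
  Lefun (Lecon (Lfl_bf (f667337 IH)) (f801841 IH).symm) (f741904 IH)
theorem f801851 : v20336 = (LP (LK LD1_c3 LD2_c27 LD3_c36)) :=
  Lefun (Lecon (Lfl_gt (f786422 IH)) (f801847 IH).symm) (Lfl_gt (K41.f17020 IH))
theorem f457916 : Led Lsl_dt (LP (LK LD1_c6 LD2_c57 LD3_c25)) = (LP (LK LD1_c13 LD2_c12 LD3_c41)) :=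
  Lre_d IH (LK LD1_c6 LD2_c57 LD3_c25) (LK LD1_c13 LD2_c12 LD3_c41) Lrfl Lrfl
theorem f801860 : Led Lsl_gf (LP (LK LD1_c13 LD2_c5 LD3_c24)) = (LP (LK LD1_c13 LD2_c12 LD3_c41)) :=
  Lgr Lrot145 (Lpe (f103764 IH) (Lpr_et (K8.f103763 IH) (Lpr_gt (K4.f103761 IH) (Lpe (K32.f130218 IH) (Lpr_gt (K6.f146480 IH) (Lpe (K6.f146464 IH) (Lpr_et (f15637 IH) (Lpr_gt (f786415 IH) (Lpqs (f801851 IH) (Lpe (K34.f457918 IH) (Lpr_dt (f457916 IH) (Lpn (LP (LK LD1_c13 LD2_c12 LD3_c41))))))))))))))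
theorem f146565 : Led Lsl_ct (LP (LK LD1_c9 LD2_c21 LD3_c21)) = (LP (LK LD1_c17 LD2_c17 LD3_c24)) :=
  Lre_c IH (LK LD1_c9 LD2_c21 LD3_c21) (LK LD1_c17 LD2_c17 LD3_c24) Lrfl Lrfl
theorem f464289 : Led Lsl_bt (LP (LK LD1_c6 LD2_c57 LD3_c30)) = (LP (LK LD1_c13 LD2_c12 LD3_c41)) :=
  Lre_b IH (LK LD1_c6 LD2_c57 LD3_c30) (LK LD1_c13 LD2_c12 LD3_c41) Lrfl Lrfl
theorem f473514 : Led Lsl_bt (LP (LK LD1_c14 LD2_c41 LD3_c25)) = (LP (LK LD1_c7 LD2_c47 LD3_c8)) :=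
  Lre_b IH (LK LD1_c14 LD2_c41 LD3_c25) (LK LD1_c7 LD2_c47 LD3_c8) Lrfl Lrfl
theorem f473515 : Led Lsl_ct (LP (LK LD1_c14 LD2_c41 LD3_c25)) = (LP (LK LD1_c24 LD2_c25 LD3_c60)) :=
  Lre_c IH (LK LD1_c14 LD2_c41 LD3_c25) (LK LD1_c24 LD2_c25 LD3_c60) Lrfl Lrfl
theorem f801866 : Led Lsl_gt (LP (LK LD1_c17 LD2_c17 LD3_c24)) = (LP (LK LD1_c24 LD2_c25 LD3_c60)) :=
  Lgr Lrot65 (Lpe (f146565 IH) (Lpr_bt (K8.f146549 IH) (Lpr_gf (f801860 IH) (Lpe (f464289 IH) (Lpr_ct (K29.f91988 IH) (Lpe (K29.f464284 IH) (Lpe (K32.f18397 IH) (Lpr_gf (K29.f473506 IH) (Lpe (f473514 IH) (Lpr_ct (f473515 IH) (Lpn (LP (LK LD1_c24 LD2_c25 LD3_c60)))))))))))))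
theorem f801868 : Led Lsl_gf (LP (LK LD1_c23 LD2_c48 LD3_c60)) = (LP (LK LD1_c24 LD2_c25 LD3_c60)) :=
  Lgr Lrot76 (Lpr_af (f157422 IH) (Lpe (f157421 IH) (Lpr_gt (f801866 IH) (Lpn (LP (LK LD1_c24 LD2_c25 LD3_c60))))))
theorem f58816 : Led Lsl_dt (LP (LK LD1_c14 LD2_c13 LD3_c24)) = (LP (LK LD1_c7 LD2_c32 LD3_c31)) :=
  Lre_d IH (LK LD1_c14 LD2_c13 LD3_c24) (LK LD1_c7 LD2_c32 LD3_c31) Lrfl Lrfl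
theorem f58809 : Led Lsl_et (LP (LK LD1_c1 LD2_c50 LD3_c1)) = (LP (LK LD1_c3 LD2_c45 LD3_c53)) :=
  Lre_e IH (LK LD1_c1 LD2_c50 LD3_c1) (LK LD1_c3 LD2_c45 LD3_c53) Lrfl Lrfl
theorem f24183 : Led Lsl_et (LP (LK LD1_c3 LD2_c15 LD3_c4)) = (LP (LK LD1_c1 LD2_c34 LD3_c4)) :=
  Lre_e IH (LK LD1_c3 LD2_c15 LD3_c4) (LK LD1_c1 LD2_c34 LD3_c4) Lrfl Lrfl
theorem f65879 : Led Lsl_ct (LP (LK LD1_c3 LD2_c45 LD3_c53)) = (LP (LK LD1_c3 LD2_c15 LD3_c4)) :=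
  Lgr Lrot15 (Lpe (f58809 IH) (Lpr_cf (K3.f65873 IH) (Lpe (f24183 IH) (Lpn (LP (LK LD1_c3 LD2_c15 LD3_c4))))))
theorem f58799 : Led Lsl_ft (LP (LK LD1_c7 LD2_c32 LD3_c31)) = (LP (LK LD1_c3 LD2_c45 LD3_c53)) :=
  Lre_f IH (LK LD1_c7 LD2_c32 LD3_c31) (LK LD1_c3 LD2_c45 LD3_c53) Lrfl Lrfl
theorem f24178 : Led Lsl_ft (LP (LK LD1_c3 LD2_c15 LD3_c4)) = (LP (LK LD1_c6 LD2_c33 LD3_c36)) :=
  Lre_f IH (LK LD1_c3 LD2_c15 LD3_c4) (LK LD1_c6 LD2_c33 LD3_c36) Lrfl Lrfl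
theorem f65891 : Led Lsl_cf (LP (LK LD1_c7 LD2_c32 LD3_c31)) = (LP (LK LD1_c6 LD2_c33 LD3_c36)) :=
  Lgr Lrot108 (Lpr_ft (f58799 IH) (Lpr_ct (f65879 IH) (Lpr_ft (f24178 IH) (Lpn (LP (LK LD1_c6 LD2_c33 LD3_c36))))))
theorem f458037 : Led Lsl_et (LP (LK LD1_c14 LD2_c41 LD3_c14)) = (LP (LK LD1_c7 LD2_c47 LD3_c2)) :=
  Lre_e IH (LK LD1_c14 LD2_c41 LD3_c14) (LK LD1_c7 LD2_c47 LD3_c2) Lrfl Lrfl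
theorem f18367 : Led Lsl_bt (LP (LK LD1_c13 LD2_c3 LD3_c41)) = (LP (LK LD1_c6 LD2_c52 LD3_c3)) :=
  Lre_b IH (LK LD1_c13 LD2_c3 LD3_c41) (LK LD1_c6 LD2_c52 LD3_c3) Lrfl Lrfl
theorem f458012 : Led Lsl_dt (LP (LK LD1_c7 LD2_c47 LD3_c4)) = (LP (LK LD1_c13 LD2_c3 LD3_c41)) :=
  Lgr Lrot79 (Lpe (K48.f63050 IH) (Lpr_df (K29.f458002 IH) (Lpe (f18367 IH) (Lpn (LP (LK LD1_c13 LD2_c3 LD3_c41))))))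
theorem f458015 : Led Lsl_at (LP (LK LD1_c13 LD2_c3 LD3_c41)) = (LP (LK LD1_c22 LD2_c13 LD3_c48)) :=
  Lre_a IH (LK LD1_c13 LD2_c3 LD3_c41) (LK LD1_c22 LD2_c13 LD3_c48) Lrfl Lrfl
theorem f458016 : Led Lsl_df (LP (LK LD1_c14 LD2_c41 LD3_c14)) = (LP (LK LD1_c22 LD2_c13 LD3_c48)) :=
  Lgr Lrot18 (Lpr_at (K48.f458014 IH) (Lpr_dt (f458012 IH) (Lpr_at (f458015 IH) (Lpn (LP (LK LD1_c22 LD2_c13 LD3_c48))))))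
theorem f458035 : Led Lsl_dt (LP (LK LD1_c14 LD2_c41 LD3_c14)) = (LP (LK LD1_c22 LD2_c13 LD3_c48)) :=
  Lgr Lrot42 (Lpr_df (f458016 IH) (Lpn (LP (LK LD1_c22 LD2_c13 LD3_c48))))
theorem f111077 : Led Lsl_et (LP (LK LD1_c3 LD2_c27 LD3_c9)) = (LP (LK LD1_c6 LD2_c56 LD3_c14)) :=
  Lre_e IH (LK LD1_c3 LD2_c27 LD3_c9) (LK LD1_c6 LD2_c56 LD3_c14) Lrfl Lrfl
theorem f532823 : Led Lsl_gt (LP (LK LD1_c22 LD2_c13 LD3_c48)) = (LP (LK LD1_c14 LD2_c11 LD3_c43)) :=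
  Lgr Lrot112 (Lpe (f458035 IH) (Lpr_et (f458037 IH) (Lpr_gf (K34.f532819 IH) (Lpe (f111077 IH) (Lpe (K6.f111042 IH) (Lpr_gf (K58.f109976 IH) (Lpe (K4.f91907 IH) (Lpr_gf (K4.f111070 IH) (Lpe (K34.f111054 IH) (Lpr_dt (K34.f111078 IH) (Lpn (LP (LK LD1_c14 LD2_c11 LD3_c43)))))))))))))
theorem f534030 : Led Lsl_gf (LP (LK LD1_c22 LD2_c13 LD3_c48)) = (LP (LK LD1_c22 LD2_c40 LD3_c5)) :=
  Lgr Lrot47 (Lpr_gt (f532823 IH) (Lpe (K34.f111303 IH) (Lpr_ff (K39.f534024 IH) (Lpn (LP (LK LD1_c22 LD2_c40 LD3_c5))))))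
theorem f457891 : Led Lsl_bt (LP (LK LD1_c7 LD2_c47 LD3_c4)) = (LP (LK LD1_c3 LD2_c52 LD3_c38)) :=
  Lre_b IH (LK LD1_c7 LD2_c47 LD3_c4) (LK LD1_c3 LD2_c52 LD3_c38) Lrfl Lrfl
theorem f457998 : Led Lsl_bt (LP (LK LD1_c6 LD2_c52 LD3_c3)) = (LP (LK LD1_c13 LD2_c3 LD3_c41)) :=
  Lre_b IH (LK LD1_c6 LD2_c52 LD3_c3) (LK LD1_c13 LD2_c3 LD3_c41) Lrfl Lrfl
theorem f457999 : Led Lsl_df (LP (LK LD1_c7 LD2_c47 LD3_c4)) = (LP (LK LD1_c13 LD2_c3 LD3_c41)) :=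
  Lgr Lrot12 (Lpr_bt (f457891 IH) (Lpr_dt (K29.f457996 IH) (Lpr_bt (f457998 IH) (Lpn (LP (LK LD1_c13 LD2_c3 LD3_c41))))))
theorem f475721 : Led Lsl_dt (LP (LK LD1_c7 LD2_c47 LD3_c7)) = (LP (LK LD1_c14 LD2_c41 LD3_c25)) :=
  Lre_d IH (LK LD1_c7 LD2_c47 LD3_c7) (LK LD1_c14 LD2_c41 LD3_c25) Lrfl Lrfl
theorem f475722 : Led Lsl_ff (LP (LK LD1_c13 LD2_c3 LD3_c41)) = (LP (LK LD1_c14 LD2_c41 LD3_c25)) :=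
  Lgr Lrot19 (Lpe (f457999 IH) (Lpr_ft (K48.f475680 IH) (Lpr_dt (f475721 IH) (Lpn (LP (LK LD1_c14 LD2_c41 LD3_c25))))))
theorem f534032 : Led Lsl_gt (LP (LK LD1_c14 LD2_c41 LD3_c25)) = (LP (LK LD1_c22 LD2_c40 LD3_c5)) :=
  Lgr Lrot5 (Lpe (f475722 IH) (Lpr_at (f458015 IH) (Lpr_gf (f534030 IH) (Lpn (LP (LK LD1_c22 LD2_c40 LD3_c5))))))
theorem f533216 : Led Lsl_dt (LP (LK LD1_c22 LD2_c13 LD3_c32)) = (LP (LK LD1_c13 LD2_c3 LD3_c32)) :=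
  Lre_d IH (LK LD1_c22 LD2_c13 LD3_c32) (LK LD1_c13 LD2_c3 LD3_c32) Lrfl Lrfl
theorem f533217 : Led Lsl_ff (LP (LK LD1_c22 LD2_c13 LD3_c32)) = (LP (LK LD1_c14 LD2_c11 LD3_c43)) :=
  Lgr Lrot19 (Lpr_dt (f533216 IH) (Lpr_ft (K46.f533205 IH) (Lpr_dt (K34.f111078 IH) (Lpn (LP (LK LD1_c14 LD2_c11 LD3_c43))))))
theorem f534026 : Led Lsl_at (LP (LK LD1_c22 LD2_c13 LD3_c32)) = (LP (LK LD1_c22 LD2_c40 LD3_c5)) :=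
  Lgr Lrot66 (Lpr_ff (f533217 IH) (Lpe (K34.f111303 IH) (Lpr_ff (K39.f534024 IH) (Lpn (LP (LK LD1_c22 LD2_c40 LD3_c5))))))
theorem f534034 : Led Lsl_gf (LP (LK LD1_c14 LD2_c41 LD3_c25)) = (LP (LK LD1_c14 LD2_c11 LD3_c43)) :=
  Lgr Lrot47 (Lpr_gt (f534032 IH) (Lpe (f534026 IH) (Lpr_ff (f533217 IH) (Lpn (LP (LK LD1_c14 LD2_c11 LD3_c43))))))
theorem f457488 : Led Lsl_ct (LP (LK LD1_c7 LD2_c3 LD3_c11)) = (LP (LK LD1_c3 LD2_c30 LD3_c41)) :=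
  Lre_c IH (LK LD1_c7 LD2_c3 LD3_c11) (LK LD1_c3 LD2_c30 LD3_c41) Lrfl Lrfl
theorem f801874 : v18789 = (LP (LK LD1_c3 LD2_c30 LD3_c41)) :=
  (Llr Lrot104 (Lpe (f768569 IH) (Lpe (f65891 IH) (Lpe (f58816 IH) (Lpe (f65908 IH) (Lpr_gf (f801868 IH) (Lpe (f473515 IH) (Lpr_gf (f534034 IH) (Lpe (K34.f111078 IH) (Lpr_gt (K35.f533560 IH) (Lpr_ct (f457488 IH) (Lpn (LP (LK LD1_c3 LD2_c30 LD3_c41)))))))))))))).symm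
theorem f801875 : (LP (LK LD1_c6 LD2_c33 LD3_c36)) = v6806 :=
  Lefun (Lecon (Lfl_gf (f768569 IH)) (f801874 IH)) (f658584 IH)
theorem f801879 : v20734 = (LP (LK LD1_c12 LD2_c33 LD3_c38)) :=
  Lefun (Lecon (f789599 IH) (f801875 IH).symm) (f24174 IH)
theorem f65905 : Led Lsl_ct (LP (LK LD1_c7 LD2_c32 LD3_c31)) = (LP (LK LD1_c6 LD2_c33 LD3_c36)) :=
  Lgr Lrot59 (Lpr_cf (f65891 IH) (Lpn (LP (LK LD1_c6 LD2_c33 LD3_c36))))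
theorem f58819 : Led Lsl_dt (LP (LK LD1_c7 LD2_c32 LD3_c31)) = (LP (LK LD1_c14 LD2_c13 LD3_c24)) :=
  Lre_d IH (LK LD1_c7 LD2_c32 LD3_c31) (LK LD1_c14 LD2_c13 LD3_c24) Lrfl Lrfl
theorem f157439 : Led Lsl_af (LP (LK LD1_c7 LD2_c32 LD3_c31)) = (LP (LK LD1_c9 LD2_c21 LD3_c22)) :=
  Lgr Lrot117 (Lpr_dt (f58819 IH) (Lpr_at (f157433 IH) (Lpr_dt (f157438 IH) (Lpn (LP (LK LD1_c9 LD2_c21 LD3_c22))))))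
theorem f146570 : Led Lsl_ft (LP (LK LD1_c4 LD2_c44 LD3_c16)) = (LP (LK LD1_c9 LD2_c21 LD3_c22)) :=
  Lre_f IH (LK LD1_c4 LD2_c44 LD3_c16) (LK LD1_c9 LD2_c21 LD3_c22) Lrfl Lrfl
theorem f116729 : Led Lsl_gt (LP (LK LD1_c4 LD2_c44 LD3_c16)) = (LP (LK LD1_c9 LD2_c21 LD3_c19)) :=
  Lre_g IH (LK LD1_c4 LD2_c44 LD3_c16) (LK LD1_c9 LD2_c21 LD3_c19) Lrfl Lrfl
theorem f157450 : Led Lsl_gf (LP (LK LD1_c7 LD2_c32 LD3_c31)) = (LP (LK LD1_c9 LD2_c21 LD3_c19)) :=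
  Lgr Lrot76 (Lpr_af (f157439 IH) (Lpe (f146570 IH) (Lpr_gt (f116729 IH) (Lpn (LP (LK LD1_c9 LD2_c21 LD3_c19))))))
theorem f801928 : (LP (LK LD1_c9 LD2_c21 LD3_c19)) = v20748 :=
  (Llr Lrot181 (Lpe (f157450 IH) (Lpr_ct (f65905 IH) (Lpr_gt (f24174 IH) (Lpq (f801879 IH) (Lpe (f789596 IH) (Lpe (f512736 IH) (Lpr_gt (K41.f564329 IH) (Lpr_bf (K55.f116608 IH) (Lpr_ct (K7.f94466 IH) (Lpe (K43.f564317 IH) (Lpe (K43.f513308 IH) (Lpr_bt (f789675 IH) (Lpn v20748)))))))))))))).symm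
def v22180 : LQ := Led Lsl_ft (LP (LK LD1_c7 LD2_c32 LD3_c29))
theorem f801799 : Led Lsl_ft (LP (LK LD1_c7 LD2_c32 LD3_c29)) = v22180 :=
  Lrfl
theorem f801801 : Led Lsl_ff (LP (LK LD1_c7 LD2_c32 LD3_c29)) = v22180 :=
  Lgr Lrot3 (Lpr_ft (f801799 IH) (Lpn v22180))
def v22176 : LQ := Led Lsl_at (LP (LK LD1_c7 LD2_c32 LD3_c29))
theorem f801788 : Led Lsl_at (LP (LK LD1_c7 LD2_c32 LD3_c29)) = v22176 :=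
  Lrfl
theorem f801789 : Led Lsl_af (LP (LK LD1_c7 LD2_c32 LD3_c29)) = v22176 :=
  Lgr Lrot0 (Lpr_at (f801788 IH) (Lpn v22176))
def v7374 : LQ := Led Lsl_gt (LP (LK LD1_c3 LD2_c45 LD3_c53))
theorem f664783 : Led Lsl_gt (LP (LK LD1_c3 LD2_c45 LD3_c53)) = v7374 :=
  Lrfl
theorem f58810 : Led Lsl_ft (LP (LK LD1_c3 LD2_c45 LD3_c53)) = (LP (LK LD1_c7 LD2_c32 LD3_c31)) :=
  Lre_f IH (LK LD1_c3 LD2_c45 LD3_c53) (LK LD1_c7 LD2_c32 LD3_c31) Lrfl Lrfl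
theorem f157442 : Led Lsl_at (LP (LK LD1_c7 LD2_c32 LD3_c31)) = (LP (LK LD1_c9 LD2_c21 LD3_c22)) :=
  Lgr Lrot100 (Lpr_af (f157439 IH) (Lpn (LP (LK LD1_c9 LD2_c21 LD3_c22))))
theorem f664784 : Led Lsl_gf (LP (LK LD1_c9 LD2_c21 LD3_c22)) = v7374 :=
  Lgr Lrot76 (Lpe (f157442 IH) (Lpe (f58810 IH) (Lpr_gt (f664783 IH) (Lpn v7374))))
theorem f801790 : Led Lsl_ft v7374 = v22176 :=
  Lgr Lrot2 (Lpe (f664784 IH) (Lpe (f157496 IH) (Lpr_af (f801789 IH) (Lpn v22176))))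
theorem f801791 : Led Lsl_ff v7374 = v22176 :=
  Lgr Lrot3 (Lpr_ft (f801790 IH) (Lpn v22176))
theorem f801802 : Led Lsl_at v7374 = v22180 :=
  Lgr Lrot66 (Lpr_ff (f801791 IH) (Lpe (f801788 IH) (Lpr_ff (f801801 IH) (Lpn v22180))))
def v20515 : LQ := Led Lsl_bt (LP (LK LD1_c6 LD2_c58 LD3_c49))
theorem f787544 : Led Lsl_bt (LP (LK LD1_c6 LD2_c58 LD3_c49)) = v20515 :=
  Lrfl
theorem f512365 : Led Lsl_ff (LP (LK LD1_c6 LD2_c58 LD3_c49)) = (LP (LK LD1_c3 LD2_c30 LD3_c61)) :=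
  Lgr Lrot3 (Lpr_ft (K33.f512361 IH) (Lpn (LP (LK LD1_c3 LD2_c30 LD3_c61))))
theorem f787547 : Led Lsl_ff (LP (LK LD1_c7 LD2_c3 LD3_c59)) = v20515 :=
  Lgr Lrot25 (Lpr_bt (K39.f129744 IH) (Lpe (f512365 IH) (Lpr_bt (f787544 IH) (Lpn v20515))))
theorem f589957 : Led Lsl_bt (LP (LK LD1_c13 LD2_c20 LD3_c16)) = (LP (LK LD1_c7 LD2_c2 LD3_c40)) :=
  Lgr Lrot35 (Lpr_ff (K43.f564341 IH) (Lpr_bf (K43.f136954 IH) (Lpr_ff (K46.f589934 IH) (Lpn (LP (LK LD1_c7 LD2_c2 LD3_c40))))))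
theorem f458521 : Led Lsl_bt (LP (LK LD1_c1 LD2_c41 LD3_c51)) = (LP (LK LD1_c3 LD2_c30 LD3_c23)) :=
  Lre_b IH (LK LD1_c1 LD2_c41 LD3_c51) (LK LD1_c3 LD2_c30 LD3_c23) Lrfl Lrfl
theorem f92409 : Led Lsl_ct (LP (LK LD1_c7 LD2_c32 LD3_c3)) = (LP (LK LD1_c14 LD2_c12 LD3_c35)) :=
  Lre_c IH (LK LD1_c7 LD2_c32 LD3_c3) (LK LD1_c14 LD2_c12 LD3_c35) Lrfl Lrfl
theorem f589985 : Led Lsl_gf (LP (LK LD1_c21 LD2_c14 LD3_c16)) = (LP (LK LD1_c14 LD2_c12 LD3_c35)) :=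
  Lgr Lrot129 (Lpr_cf (K43.f578264 IH) (Lpr_bt (f589957 IH) (Lpr_gt (K46.f458524 IH) (Lpe (f458521 IH) (Lpr_ct (K29.f18979 IH) (Lpr_gt (K29.f468356 IH) (Lpe (K4.f92355 IH) (Lpr_bt (K4.f92407 IH) (Lpr_gt (K33.f92408 IH) (Lpr_ct (f92409 IH) (Lpn (LP (LK LD1_c14 LD2_c12 LD3_c35)))))))))))))
theorem f466542 : Led Lsl_bt (LP (LK LD1_c7 LD2_c32 LD3_c3)) = (LP (LK LD1_c14 LD2_c12 LD3_c34)) :=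
  Lre_b IH (LK LD1_c7 LD2_c32 LD3_c3) (LK LD1_c14 LD2_c12 LD3_c34) Lrfl Lrfl
def v20702 : LQ := Led Lsl_gt (LP (LK LD1_c7 LD2_c2 LD3_c42))
theorem f789259 : Led Lsl_gt (LP (LK LD1_c7 LD2_c2 LD3_c42)) = v20702 :=
  Lrfl
def v20768 : LQ := Led Lsl_gf (LP (LK LD1_c7 LD2_c4 LD3_c16))
theorem f789825 : Led Lsl_gf (LP (LK LD1_c7 LD2_c4 LD3_c16)) = v20768 :=
  Lrfl
theorem f458448 : Led Lsl_cf (LP (LK LD1_c7 LD2_c4 LD3_c16)) = (LP (LK LD1_c13 LD2_c14 LD3_c56)) :=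
  Lgr Lrot97 (Lpr_bt (K43.f458447 IH) (Lpr_ct (K28.f458446 IH) (Lpr_bt (K28.f458445 IH) (Lpr_ct (K28.f458443 IH) (Lpr_bt (K28.f63637 IH) (Lpn (LP (LK LD1_c13 LD2_c14 LD3_c56))))))))
theorem f789826 : Led Lsl_ct v20702 = v20768 :=
  Lgr Lrot91 (Lpe (f789259 IH) (Lpr_bf (K46.f457650 IH) (Lpr_ct (K29.f19140 IH) (Lpe (K24.f17290 IH) (Lpe (K1.f15787 IH) (Lpe (K28.f18206 IH) (Lpe (K3.f19139 IH) (Lpe (K28.f18927 IH) (Lpe (f458448 IH) (Lpr_gf (f789825 IH) (Lpn v20768)))))))))))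
theorem f789827 : Led Lsl_cf v20702 = v20768 :=
  Lgr Lrot11 (Lpr_ct (f789826 IH) (Lpn v20768))
theorem f115876 : Led Lsl_ct (LP (LK LD1_c6 LD2_c53 LD3_c15)) = (LP (LK LD1_c6 LD2_c53 LD3_c13)) :=
  Lgr Lrot59 (Lpr_cf (f115872 IH) (Lpn (LP (LK LD1_c6 LD2_c53 LD3_c13))))
def v20271 : LQ := Led Lsl_gt (LP (LK LD1_c6 LD2_c53 LD3_c15))
theorem f786020 : Led Lsl_gt (LP (LK LD1_c6 LD2_c53 LD3_c15)) = v20271 :=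
  Lrfl
theorem f115880 : Led Lsl_ft (LP (LK LD1_c6 LD2_c53 LD3_c15)) = (LP (LK LD1_c13 LD2_c5 LD3_c28)) :=
  Lre_f IH (LK LD1_c6 LD2_c53 LD3_c15) (LK LD1_c13 LD2_c5 LD3_c28) Lrfl Lrfl
theorem f786021 : Led Lsl_gf (LP (LK LD1_c11 LD2_c30 LD3_c14)) = v20271 :=
  Lgr Lrot76 (Lpe (K7.f151521 IH) (Lpe (f115880 IH) (Lpr_gt (f786020 IH) (Lpn v20271))))
theorem f493547 : Led Lsl_bt (LP (LK LD1_c1 LD2_c41 LD3_c56)) = (LP (LK LD1_c3 LD2_c30 LD3_c41)) :=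
  Lre_b IH (LK LD1_c1 LD2_c41 LD3_c56) (LK LD1_c3 LD2_c30 LD3_c41) Lrfl Lrfl
theorem f789823 : Led Lsl_bf v6806 = K61.v20767 :=
  Lgr Lrot34 (Lpe (f658584 IH) (Lpe (f493547 IH) (Lpr_ct (K24.f455538 IH) (Lpe (K5.f87981 IH) (Lpe (K28.f64992 IH) (Lpe (K24.f64272 IH) (Lpe (K46.f18977 IH) (Lpr_ct (K61.f18978 IH) (Lpe (K61.f458507 IH) (Lpr_cf (K61.f789819 IH) (Lpn K61.v20767)))))))))))
theorem f789824 : Led Lsl_bt v6806 = K61.v20767 :=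
  Lgr Lrot127 (Lpr_bf (f789823 IH) (Lpn K61.v20767))
theorem f24172 : Led Lsl_bf (LP (LK LD1_c11 LD2_c30 LD3_c14)) = (LP (LK LD1_c6 LD2_c33 LD3_c36)) :=
  Lgr Lrot24 (Lpr_bt (K7.f24164 IH) (Lpn (LP (LK LD1_c6 LD2_c33 LD3_c36))))
theorem f801884 : K61.v20767 = (LP (LK LD1_c11 LD2_c30 LD3_c14)) :=
  Lefun (Lecon (f789824 IH) (f801875 IH).symm) (Lfl_bf (f24172 IH))
theorem f801887 : (LP (LK LD1_c7 LD2_c4 LD3_c16)) = v20271 :=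
  Lefun (Lecon (Lfl_gt (K61.f789818 IH)) (f801884 IH)) (f786021 IH)
theorem f801889 : (LP (LK LD1_c6 LD2_c53 LD3_c15)) = v20768 :=
  Lefun (Lecon (Lfl_gt (f786020 IH)) (f801887 IH).symm) (f789825 IH)
theorem f801891 : v20702 = (LP (LK LD1_c6 LD2_c53 LD3_c13)) :=
  Lefun (Lecon (Lfl_cf (f789827 IH)) (f801889 IH).symm) (f115876 IH)
theorem f115875 : Led Lsl_bt (LP (LK LD1_c6 LD2_c53 LD3_c15)) = (LP (LK LD1_c13 LD2_c5 LD3_c25)) :=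
  Lre_b IH (LK LD1_c6 LD2_c53 LD3_c15) (LK LD1_c13 LD2_c5 LD3_c25) Lrfl Lrfl
theorem f801896 : Led Lsl_gf (LP (LK LD1_c14 LD2_c12 LD3_c34)) = (LP (LK LD1_c13 LD2_c5 LD3_c25)) :=
  Lgr Lrot124 (Lpe (f466542 IH) (Lpr_ct (f92409 IH) (Lpe (f589985 IH) (Lpr_cf (K43.f578264 IH) (Lpr_bt (f589957 IH) (Lpr_gt (K46.f458524 IH) (Lpr_ct (K61.f18978 IH) (Lpr_gt (f789259 IH) (Lpqs (f801891 IH) (Lpe (f115876 IH) (Lpr_bt (f115875 IH) (Lpn (LP (LK LD1_c13 LD2_c5 LD3_c25))))))))))))))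
theorem f151510 : Led Lsl_ft (LP (LK LD1_c13 LD2_c5 LD3_c25)) = (LP (LK LD1_c22 LD2_c16 LD3_c12)) :=
  Lre_f IH (LK LD1_c13 LD2_c5 LD3_c25) (LK LD1_c22 LD2_c16 LD3_c12) Lrfl Lrfl
theorem f151518 : Led Lsl_at (LP (LK LD1_c22 LD2_c16 LD3_c12)) = (LP (LK LD1_c21 LD2_c39 LD3_c56)) :=
  Lgr Lrot100 (Lpr_af (K7.f151516 IH) (Lpn (LP (LK LD1_c21 LD2_c39 LD3_c56))))
theorem f801900 : Led Lsl_gt (LP (LK LD1_c14 LD2_c12 LD3_c34)) = (LP (LK LD1_c21 LD2_c39 LD3_c56)) :=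
  Lgr Lrot46 (Lpr_gf (f801896 IH) (Lpr_ft (f151510 IH) (Lpr_at (f151518 IH) (Lpn (LP (LK LD1_c21 LD2_c39 LD3_c56))))))
theorem f578260 : Led Lsl_af (LP (LK LD1_c21 LD2_c14 LD3_c16)) = (LP (LK LD1_c16 LD2_c30 LD3_c31)) :=
  Lgr Lrot45 (Lpr_ft (K43.f578258 IH) (Lpe (K43.f499034 IH) (Lpr_ft (K43.f499039 IH) (Lpn (LP (LK LD1_c16 LD2_c30 LD3_c31))))))
theorem f589987 : Led Lsl_gt (LP (LK LD1_c8 LD2_c49 LD3_c49)) = (LP (LK LD1_c14 LD2_c12 LD3_c35)) :=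
  Lgr Lrot5 (Lpr_ft (K43.f499039 IH) (Lpe (f578260 IH) (Lpr_gf (f589985 IH) (Lpn (LP (LK LD1_c14 LD2_c12 LD3_c35))))))
theorem f616202 : Led Lsl_bt (LP (LK LD1_c13 LD2_c20 LD3_c24)) = (LP (LK LD1_c22 LD2_c36 LD3_c28)) :=
  Lgr Lrot127 (Lpr_bf (K46.f564357 IH) (Lpn (LP (LK LD1_c22 LD2_c36 LD3_c28))))
theorem f157444 : Led Lsl_ct (LP (LK LD1_c12 LD2_c33 LD3_c39)) = (LP (LK LD1_c9 LD2_c21 LD3_c22)) :=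
  Lgr Lrot111 (Lpe (K7.f24170 IH) (Lpe (f65905 IH) (Lpr_af (f157439 IH) (Lpn (LP (LK LD1_c9 LD2_c21 LD3_c22))))))
def v22178 : LQ := Led Lsl_ct (LP (LK LD1_c7 LD2_c32 LD3_c29))
theorem f801794 : Led Lsl_ct (LP (LK LD1_c7 LD2_c32 LD3_c29)) = v22178 :=
  Lrfl
theorem f801795 : Led Lsl_cf (LP (LK LD1_c7 LD2_c32 LD3_c29)) = v22178 :=
  Lgr Lrot11 (Lpr_ct (f801794 IH) (Lpn v22178))
theorem f801911 : (LP (LK LD1_c13 LD2_c20 LD3_c24)) = v22178 :=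
  (Llr Lrot165 (Lpr_bt (f616202 IH) (Lpr_gt (K41.f127454 IH) (Lpr_ct (K43.f575134 IH) (Lpr_gt (f589987 IH) (Lpe (f92409 IH) (Lpr_bt (f466542 IH) (Lpr_gt (f801900 IH) (Lpe (K7.f24171 IH) (Lpr_ct (f157444 IH) (Lpe (f157496 IH) (Lpr_cf (f801795 IH) (Lpn v22178))))))))))))).symm
theorem f787548 : Led Lsl_ct (LP (LK LD1_c7 LD2_c1 LD3_c61)) = v20515 :=
  Lgr Lrot40 (Lpe (K46.f514509 IH) (Lpr_cf (K39.f457447 IH) (Lpr_ff (f787547 IH) (Lpn v20515))))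
theorem f801918 : v22176 = v20515 :=
  (Llr Lrot68 (Lpe (f801789 IH) (Lpr_ct (f801794 IH) (Lpq (f801911 IH) (Lpr_at (K46.f514516 IH) (Lpr_ct (f787548 IH) (Lpn v20515))))))).symm
theorem f801922 : v7374 = (LP (LK LD1_c7 LD2_c3 LD3_c59)) :=
  Lefun (Lecon (Lfl_ff (f801791 IH)) (f801918 IH)) (Lfl_ff (f787547 IH))
theorem f801927 : v22180 = v20748 :=
  Lefun (Lecon (f801802 IH) (f801922 IH)) (f789672 IH)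
theorem f146571 : Led Lsl_ct (LP (LK LD1_c9 LD2_c21 LD3_c19)) = (LP (LK LD1_c17 LD2_c17 LD3_c19)) :=
  Lre_c IH (LK LD1_c9 LD2_c21 LD3_c19) (LK LD1_c17 LD2_c17 LD3_c19) Lrfl Lrfl
theorem f801935 : Led Lsl_ff v22178 = (LP (LK LD1_c17 LD2_c17 LD3_c19)) :=
  Lgr Lrot23 (Lpe (f801795 IH) (Lpr_ft (f801799 IH) (Lpqs (f801927 IH) (Lpq (f801928 IH) (Lpr_ct (f146571 IH) (Lpn (LP (LK LD1_c17 LD2_c17 LD3_c19))))))))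
theorem f801954 : Led Lsl_gf (LP (LK LD1_c13 LD2_c20 LD3_c23)) = (LP (LK LD1_c17 LD2_c17 LD3_c19)) :=
  Lgr Lrot47 (Lpr_gt (K46.f464532 IH) (Lpe (K46.f514516 IH) (Lpqs (f801911 IH) (Lpr_ff (f801935 IH) (Lpn (LP (LK LD1_c17 LD2_c17 LD3_c19)))))))
theorem f533221 : Led Lsl_ff (LP (LK LD1_c13 LD2_c3 LD3_c32)) = (LP (LK LD1_c7 LD2_c31 LD3_c15)) :=
  Lgr Lrot3 (Lpr_ft (K46.f533205 IH) (Lpn (LP (LK LD1_c7 LD2_c31 LD3_c15))))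
theorem f533231 : Led Lsl_et (LP (LK LD1_c13 LD2_c3 LD3_c32)) = (LP (LK LD1_c13 LD2_c20 LD3_c23)) :=
  Lgr Lrot69 (Lpr_ff (f533221 IH) (Lpe (K4.f111065 IH) (Lpe (K4.f111063 IH) (Lpe (K4.f91852 IH) (Lpr_ff (K46.f532951 IH) (Lpn (LP (LK LD1_c13 LD2_c20 LD3_c23))))))))
theorem f533223 : Led Lsl_dt (LP (LK LD1_c13 LD2_c3 LD3_c32)) = (LP (LK LD1_c22 LD2_c13 LD3_c32)) :=
  Lre_d IH (LK LD1_c13 LD2_c3 LD3_c32) (LK LD1_c22 LD2_c13 LD3_c32) Lrfl Lrfl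
theorem f533229 : Led Lsl_ft (LP (LK LD1_c22 LD2_c13 LD3_c32)) = (LP (LK LD1_c14 LD2_c11 LD3_c43)) :=
  Lgr Lrot54 (Lpe (f533223 IH) (Lpr_ff (f533221 IH) (Lpe (K4.f111177 IH) (Lpn (LP (LK LD1_c14 LD2_c11 LD3_c43))))))
theorem f111207 : Led Lsl_ft (LP (LK LD1_c13 LD2_c19 LD3_c2)) = (LP (LK LD1_c22 LD2_c35 LD3_c27)) :=
  Lre_f IH (LK LD1_c13 LD2_c19 LD3_c2) (LK LD1_c22 LD2_c35 LD3_c27) Lrfl Lrfl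
theorem f533233 : Led Lsl_bf (LP (LK LD1_c22 LD2_c13 LD3_c32)) = (LP (LK LD1_c22 LD2_c35 LD3_c27)) :=
  Lgr Lrot61 (Lpr_ft (f533229 IH) (Lpr_bt (K34.f111183 IH) (Lpr_ft (f111207 IH) (Lpn (LP (LK LD1_c22 LD2_c35 LD3_c27))))))
theorem f533240 : Led Lsl_bt (LP (LK LD1_c22 LD2_c13 LD3_c32)) = (LP (LK LD1_c22 LD2_c35 LD3_c27)) :=
  Lgr Lrot127 (Lpr_bf (f533233 IH) (Lpn (LP (LK LD1_c22 LD2_c35 LD3_c27))))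
theorem f533224 : Led Lsl_ct (LP (LK LD1_c22 LD2_c13 LD3_c32)) = (LP (LK LD1_c30 LD2_c21 LD3_c49)) :=
  Lre_c IH (LK LD1_c22 LD2_c13 LD3_c32) (LK LD1_c30 LD2_c21 LD3_c49) Lrfl Lrfl
theorem f111722 : Led Lsl_ct (LP (LK LD1_c14 LD2_c13 LD3_c13)) = (LP (LK LD1_c7 LD2_c32 LD3_c25)) :=
  Lre_c IH (LK LD1_c14 LD2_c13 LD3_c13) (LK LD1_c7 LD2_c32 LD3_c25) Lrfl Lrfl
theorem f17848 : Led Lsl_ct (LP (LK LD1_c13 LD2_c17 LD3_c29)) = (LP (LK LD1_c22 LD2_c33 LD3_c21)) :=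
  Lre_c IH (LK LD1_c13 LD2_c17 LD3_c29) (LK LD1_c22 LD2_c33 LD3_c21) Lrfl Lrfl
theorem f111723 : Led Lsl_af (LP (LK LD1_c14 LD2_c13 LD3_c13)) = (LP (LK LD1_c22 LD2_c33 LD3_c21)) :=
  Lgr Lrot68 (Lpr_ct (f111722 IH) (Lpr_at (K4.f111704 IH) (Lpr_ct (f17848 IH) (Lpn (LP (LK LD1_c22 LD2_c33 LD3_c21))))))
theorem f89647 : Led Lsl_ft (LP (LK LD1_c13 LD2_c17 LD3_c28)) = (LP (LK LD1_c22 LD2_c33 LD3_c21)) :=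
  Lre_f IH (LK LD1_c13 LD2_c17 LD3_c28) (LK LD1_c22 LD2_c33 LD3_c21) Lrfl Lrfl
theorem f472715 : Led Lsl_gt (LP (LK LD1_c13 LD2_c17 LD3_c28)) = (LP (LK LD1_c13 LD2_c22 LD3_c27)) :=
  Lgr Lrot5 (Lpr_ft (f89647 IH) (Lpe (f111723 IH) (Lpr_gf (K48.f472713 IH) (Lpn (LP (LK LD1_c13 LD2_c22 LD3_c27))))))
theorem f17813 : Led Lsl_ct (LP (LK LD1_c7 LD2_c0 LD3_c20)) = (LP (LK LD1_c13 LD2_c17 LD3_c28)) :=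
  Lre_c IH (LK LD1_c7 LD2_c0 LD3_c20) (LK LD1_c13 LD2_c17 LD3_c28) Lrfl Lrfl
theorem f472351 : Led Lsl_bt (LP (LK LD1_c14 LD2_c44 LD3_c0)) = (LP (LK LD1_c7 LD2_c48 LD3_c34)) :=
  Lre_b IH (LK LD1_c14 LD2_c44 LD3_c0) (LK LD1_c7 LD2_c48 LD3_c34) Lrfl Lrfl
theorem f472352 : Led Lsl_ct (LP (LK LD1_c14 LD2_c44 LD3_c0)) = (LP (LK LD1_c24 LD2_c29 LD3_c49)) :=
  Lre_c IH (LK LD1_c14 LD2_c44 LD3_c0) (LK LD1_c24 LD2_c29 LD3_c49) Lrfl Lrfl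
theorem f534878 : Led Lsl_gt (LP (LK LD1_c30 LD2_c21 LD3_c49)) = (LP (LK LD1_c24 LD2_c29 LD3_c49)) :=
  Lgr Lrot65 (Lpe (f533224 IH) (Lpr_bt (f533240 IH) (Lpr_gf (K48.f534874 IH) (Lpe (K48.f472721 IH) (Lpr_ct (K48.f19092 IH) (Lpe (f472715 IH) (Lpe (f17813 IH) (Lpe (K34.f472345 IH) (Lpe (f472351 IH) (Lpr_ct (f472352 IH) (Lpn (LP (LK LD1_c24 LD2_c29 LD3_c49)))))))))))))
theorem f534012 : Led Lsl_bt (LP (LK LD1_c22 LD2_c40 LD3_c5)) = (LP (LK LD1_c30 LD2_c38 LD3_c39)) :=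
  Lre_b IH (LK LD1_c22 LD2_c40 LD3_c5) (LK LD1_c30 LD2_c38 LD3_c39) Lrfl Lrfl
theorem f534013 : Led Lsl_ft (LP (LK LD1_c14 LD2_c10 LD3_c58)) = (LP (LK LD1_c22 LD2_c40 LD3_c5)) :=
  Lgr Lrot75 (Lpe (K34.f111302 IH) (Lpr_ff (K39.f534010 IH) (Lpe (f534012 IH) (Lpn (LP (LK LD1_c22 LD2_c40 LD3_c5))))))
theorem f533207 : Led Lsl_gt (LP (LK LD1_c14 LD2_c10 LD3_c58)) = (LP (LK LD1_c23 LD2_c46 LD3_c30)) :=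
  Lre_g IH (LK LD1_c14 LD2_c10 LD3_c58) (LK LD1_c23 LD2_c46 LD3_c30) Lrfl Lrfl
theorem f532967 : Led Lsl_bf (LP (LK LD1_c21 LD2_c41 LD3_c16)) = (LP (LK LD1_c23 LD2_c26 LD3_c50)) :=
  Lgr Lrot61 (Lpr_ft (K34.f111128 IH) (Lpr_bt (K7.f111171 IH) (Lpr_ft (K34.f532965 IH) (Lpn (LP (LK LD1_c23 LD2_c26 LD3_c50))))))
theorem f533644 : Led Lsl_bt (LP (LK LD1_c24 LD2_c24 LD3_c45)) = (LP (LK LD1_c31 LD2_c3 LD3_c24)) :=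
  Lgr Lrot95 (Lpr_df (K35.f533640 IH) (Lpr_bf (f532967 IH) (Lpe (K39.f473490 IH) (Lpn (LP (LK LD1_c31 LD2_c3 LD3_c24))))))
theorem f533650 : Led Lsl_af (LP (LK LD1_c24 LD2_c24 LD3_c45)) = (LP (LK LD1_c22 LD2_c35 LD3_c27)) :=
  Lgr Lrot45 (Lpr_ft (K35.f533648 IH) (Lpe (K35.f111248 IH) (Lpr_ft (f111207 IH) (Lpn (LP (LK LD1_c22 LD2_c35 LD3_c27))))))
theorem f534008 : Led Lsl_af (LP (LK LD1_c22 LD2_c13 LD3_c32)) = (LP (LK LD1_c22 LD2_c40 LD3_c5)) :=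
  Lgr Lrot36 (Lpr_bt (f533240 IH) (Lpe (f533650 IH) (Lpr_bt (f533644 IH) (Lpr_at (K39.f533993 IH) (Lpr_bt (K39.f534007 IH) (Lpn (LP (LK LD1_c22 LD2_c40 LD3_c5))))))))
theorem f534084 : Led Lsl_gt (LP (LK LD1_c23 LD2_c46 LD3_c30)) = (LP (LK LD1_c22 LD2_c13 LD3_c32)) :=
  Lgr Lrot46 (Lpe (f533207 IH) (Lpr_ft (f534013 IH) (Lpe (f534008 IH) (Lpn (LP (LK LD1_c22 LD2_c13 LD3_c32))))))
theorem f17880 : Led Lsl_ct (LP (LK LD1_c13 LD2_c17 LD3_c26)) = (LP (LK LD1_c22 LD2_c33 LD3_c18)) :=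
  Lre_c IH (LK LD1_c13 LD2_c17 LD3_c26) (LK LD1_c22 LD2_c33 LD3_c18) Lrfl Lrfl
theorem f15831 : Led Lsl_ct (LP (LK LD1_c22 LD2_c13 LD3_c41)) = (LP (LK LD1_c13 LD2_c3 LD3_c38)) :=
  Lre_c IH (LK LD1_c22 LD2_c13 LD3_c41) (LK LD1_c13 LD2_c3 LD3_c38) Lrfl Lrfl
theorem f473833 : Led Lsl_ff (LP (LK LD1_c22 LD2_c13 LD3_c41)) = (LP (LK LD1_c22 LD2_c24 LD3_c10)) :=
  Lgr Lrot23 (Lpr_ct (f15831 IH) (Lpr_ft (K41.f473828 IH) (Lpr_ct (K37.f90910 IH) (Lpn (LP (LK LD1_c22 LD2_c24 LD3_c10))))))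
theorem f473885 : Led Lsl_at (LP (LK LD1_c22 LD2_c13 LD3_c41)) = (LP (LK LD1_c30 LD2_c21 LD3_c54)) :=
  Lre_a IH (LK LD1_c22 LD2_c13 LD3_c41) (LK LD1_c30 LD2_c21 LD3_c54) Lrfl Lrfl
theorem f492955 : Led Lsl_gf (LP (LK LD1_c30 LD2_c21 LD3_c54)) = (LP (LK LD1_c22 LD2_c33 LD3_c18)) :=
  Lgr Lrot76 (Lpe (f473885 IH) (Lpr_ff (f473833 IH) (Lpr_gt (K41.f492953 IH) (Lpn (LP (LK LD1_c22 LD2_c33 LD3_c18))))))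
theorem f473862 : Led Lsl_ct (LP (LK LD1_c22 LD2_c13 LD3_c40)) = (LP (LK LD1_c30 LD2_c21 LD3_c54)) :=
  Lre_c IH (LK LD1_c22 LD2_c13 LD3_c40) (LK LD1_c30 LD2_c21 LD3_c54) Lrfl Lrfl
theorem f534882 : Led Lsl_bf (LP (LK LD1_c23 LD2_c46 LD3_c30)) = (LP (LK LD1_c22 LD2_c13 LD3_c40)) :=
  Lgr Lrot165 (Lpr_gt (f534084 IH) (Lpr_ct (f533224 IH) (Lpr_gt (f534878 IH) (Lpe (f472352 IH) (Lpr_bt (f472351 IH) (Lpr_gt (K34.f472345 IH) (Lpe (K61.f89509 IH) (Lpr_ct (f17880 IH) (Lpe (f492955 IH) (Lpe (f473862 IH) (Lpn (LP (LK LD1_c22 LD2_c13 LD3_c40)))))))))))))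
theorem f473830 : Led Lsl_at (LP (LK LD1_c22 LD2_c13 LD3_c40)) = (LP (LK LD1_c13 LD2_c3 LD3_c38)) :=
  Lre_a IH (LK LD1_c22 LD2_c13 LD3_c40) (LK LD1_c13 LD2_c3 LD3_c38) Lrfl Lrfl
theorem f473831 : Led Lsl_ff (LP (LK LD1_c22 LD2_c13 LD3_c40)) = (LP (LK LD1_c22 LD2_c23 LD3_c54)) :=
  Lgr Lrot30 (Lpr_at (f473830 IH) (Lpr_ft (K41.f473828 IH) (Lpr_at (K43.f473727 IH) (Lpn (LP (LK LD1_c22 LD2_c23 LD3_c54))))))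
theorem f475682 : Led Lsl_bt (LP (LK LD1_c22 LD2_c23 LD3_c55)) = (LP (LK LD1_c14 LD2_c41 LD3_c24)) :=
  Lgr Lrot35 (Lpe (K43.f473897 IH) (Lpr_bf (K48.f473736 IH) (Lpr_ff (K48.f475675 IH) (Lpn (LP (LK LD1_c14 LD2_c41 LD3_c24))))))
theorem f475687 : Led Lsl_bf (LP (LK LD1_c22 LD2_c23 LD3_c55)) = (LP (LK LD1_c14 LD2_c41 LD3_c24)) :=
  Lgr Lrot24 (Lpr_bt (f475682 IH) (Lpn (LP (LK LD1_c14 LD2_c41 LD3_c24))))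
theorem f475689 : Led Lsl_bt (LP (LK LD1_c13 LD2_c11 LD3_c18)) = (LP (LK LD1_c14 LD2_c41 LD3_c14)) :=
  Lgr Lrot35 (Lpe (K43.f473914 IH) (Lpr_bf (f475687 IH) (Lpe (K48.f475668 IH) (Lpn (LP (LK LD1_c14 LD2_c41 LD3_c14))))))
theorem f475691 : Led Lsl_bf (LP (LK LD1_c22 LD2_c23 LD3_c54)) = (LP (LK LD1_c22 LD2_c13 LD3_c48)) :=
  Lgr Lrot93 (Lpr_dt (K43.f473877 IH) (Lpr_bt (f475689 IH) (Lpr_dt (f458035 IH) (Lpn (LP (LK LD1_c22 LD2_c13 LD3_c48))))))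
theorem f534894 : Led Lsl_ft (LP (LK LD1_c23 LD2_c46 LD3_c30)) = (LP (LK LD1_c22 LD2_c13 LD3_c48)) :=
  Lgr Lrot75 (Lpr_bf (f534882 IH) (Lpr_ff (f473831 IH) (Lpr_bf (f475691 IH) (Lpn (LP (LK LD1_c22 LD2_c13 LD3_c48))))))
theorem f458045 : Led Lsl_at (LP (LK LD1_c22 LD2_c13 LD3_c48)) = (LP (LK LD1_c13 LD2_c3 LD3_c41)) :=
  Lre_a IH (LK LD1_c22 LD2_c13 LD3_c48) (LK LD1_c13 LD2_c3 LD3_c41) Lrfl Lrfl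
theorem f534902 : Led Lsl_gt (LP (LK LD1_c22 LD2_c13 LD3_c32)) = (LP (LK LD1_c13 LD2_c3 LD3_c41)) :=
  Lgr Lrot46 (Lpe (f534084 IH) (Lpr_ft (f534894 IH) (Lpr_at (f458045 IH) (Lpn (LP (LK LD1_c13 LD2_c3 LD3_c41))))))
theorem f458030 : Led Lsl_et (LP (LK LD1_c7 LD2_c47 LD3_c4)) = (LP (LK LD1_c3 LD2_c52 LD3_c36)) :=
  Lre_e IH (LK LD1_c7 LD2_c47 LD3_c4) (LK LD1_c3 LD2_c52 LD3_c36) Lrfl Lrfl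
theorem f457903 : Led Lsl_dt (LP (LK LD1_c13 LD2_c11 LD3_c39)) = (LP (LK LD1_c6 LD2_c56 LD3_c57)) :=
  Lre_d IH (LK LD1_c13 LD2_c11 LD3_c39) (LK LD1_c6 LD2_c56 LD3_c57) Lrfl Lrfl
theorem f532841 : Led Lsl_ff (LP (LK LD1_c13 LD2_c11 LD3_c39)) = (LP (LK LD1_c14 LD2_c22 LD3_c22)) :=
  Lgr Lrot19 (Lpr_dt (f457903 IH) (Lpr_ft (K34.f532825 IH) (Lpr_dt (K46.f116717 IH) (Lpn (LP (LK LD1_c14 LD2_c22 LD3_c22))))))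
theorem f130060 : Led Lsl_ct (LP (LK LD1_c14 LD2_c22 LD3_c22)) = (LP (LK LD1_c24 LD2_c0 LD3_c32)) :=
  Lre_c IH (LK LD1_c14 LD2_c22 LD3_c22) (LK LD1_c24 LD2_c0 LD3_c32) Lrfl Lrfl
theorem f130042 : Led Lsl_ct (LP (LK LD1_c24 LD2_c0 LD3_c32)) = (LP (LK LD1_c14 LD2_c22 LD3_c22)) :=
  Lre_c IH (LK LD1_c24 LD2_c0 LD3_c32) (LK LD1_c14 LD2_c22 LD3_c22) Lrfl Lrfl
theorem f130052 : Led Lsl_ct (LP (LK LD1_c13 LD2_c10 LD3_c29)) = (LP (LK LD1_c22 LD2_c23 LD3_c7)) :=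
  Lre_c IH (LK LD1_c13 LD2_c10 LD3_c29) (LK LD1_c22 LD2_c23 LD3_c7) Lrfl Lrfl
theorem f130053 : Led Lsl_af (LP (LK LD1_c24 LD2_c0 LD3_c32)) = (LP (LK LD1_c22 LD2_c23 LD3_c7)) :=
  Lgr Lrot68 (Lpr_ct (f130042 IH) (Lpr_at (K46.f130047 IH) (Lpr_ct (f130052 IH) (Lpn (LP (LK LD1_c22 LD2_c23 LD3_c7))))))
theorem f534287 : Led Lsl_ff (LP (LK LD1_c22 LD2_c23 LD3_c7)) = (LP (LK LD1_c24 LD2_c25 LD3_c43)) :=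
  Lgr Lrot103 (Lpe (f130053 IH) (Lpe (f130060 IH) (Lpe (K46.f116717 IH) (Lpr_cf (K49.f144938 IH) (Lpe (K35.f113321 IH) (Lpe (K49.f113316 IH) (Lpe (K49.f534276 IH) (Lpr_cf (K49.f534281 IH) (Lpe (K49.f534280 IH) (Lpn (LP (LK LD1_c24 LD2_c25 LD3_c43))))))))))))
theorem f534297 : Led Lsl_ft (LP (LK LD1_c22 LD2_c23 LD3_c7)) = (LP (LK LD1_c24 LD2_c25 LD3_c43)) :=
  Lgr Lrot48 (Lpr_ff (f534287 IH) (Lpn (LP (LK LD1_c24 LD2_c25 LD3_c43))))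
theorem f130057 : Led Lsl_at (LP (LK LD1_c24 LD2_c0 LD3_c32)) = (LP (LK LD1_c22 LD2_c23 LD3_c7)) :=
  Lgr Lrot100 (Lpr_af (f130053 IH) (Lpn (LP (LK LD1_c22 LD2_c23 LD3_c7))))
theorem f457901 : Led Lsl_dt (LP (LK LD1_c6 LD2_c56 LD3_c57)) = (LP (LK LD1_c13 LD2_c11 LD3_c39)) :=
  Lre_d IH (LK LD1_c6 LD2_c56 LD3_c57) (LK LD1_c13 LD2_c11 LD3_c39) Lrfl Lrfl
theorem f129918 : Led Lsl_dt (LP (LK LD1_c14 LD2_c22 LD3_c22)) = (LP (LK LD1_c7 LD2_c37 LD3_c25)) :=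
  Lre_d IH (LK LD1_c14 LD2_c22 LD3_c22) (LK LD1_c7 LD2_c37 LD3_c25) Lrfl Lrfl
theorem f532848 : Led Lsl_ft (LP (LK LD1_c13 LD2_c11 LD3_c39)) = (LP (LK LD1_c14 LD2_c22 LD3_c22)) :=
  Lgr Lrot54 (Lpe (f457901 IH) (Lpr_ff (K46.f532843 IH) (Lpe (f129918 IH) (Lpn (LP (LK LD1_c14 LD2_c22 LD3_c22))))))
theorem f475646 : Led Lsl_ct (LP (LK LD1_c22 LD2_c24 LD3_c28)) = (LP (LK LD1_c13 LD2_c11 LD3_c39)) :=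
  Lre_c IH (LK LD1_c22 LD2_c24 LD3_c28) (LK LD1_c13 LD2_c11 LD3_c39) Lrfl Lrfl
theorem f532852 : Led Lsl_ff (LP (LK LD1_c22 LD2_c24 LD3_c28)) = (LP (LK LD1_c24 LD2_c0 LD3_c32)) :=
  Lgr Lrot23 (Lpr_ct (f475646 IH) (Lpr_ft (f532848 IH) (Lpr_ct (f130060 IH) (Lpn (LP (LK LD1_c24 LD2_c0 LD3_c32))))))
theorem f532856 : Led Lsl_ft (LP (LK LD1_c22 LD2_c24 LD3_c28)) = (LP (LK LD1_c24 LD2_c0 LD3_c32)) :=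
  Lgr Lrot48 (Lpr_ff (f532852 IH) (Lpn (LP (LK LD1_c24 LD2_c0 LD3_c32))))
theorem f534299 : Led Lsl_af (LP (LK LD1_c22 LD2_c24 LD3_c28)) = (LP (LK LD1_c24 LD2_c25 LD3_c43)) :=
  Lgr Lrot45 (Lpr_ft (f532856 IH) (Lpr_at (f130057 IH) (Lpr_ft (f534297 IH) (Lpn (LP (LK LD1_c24 LD2_c25 LD3_c43))))))
theorem f534307 : Led Lsl_at (LP (LK LD1_c13 LD2_c11 LD3_c39)) = (LP (LK LD1_c14 LD2_c41 LD3_c12)) :=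
  Lgr Lrot107 (Lpe (f475646 IH) (Lpr_af (f534299 IH) (Lpe (K49.f473952 IH) (Lpn (LP (LK LD1_c14 LD2_c41 LD3_c12))))))
theorem f676024 : Led Lsl_gt (LP (LK LD1_c13 LD2_c7 LD3_c30)) = (LP (LK LD1_c14 LD2_c41 LD3_c12)) :=
  Lgr Lrot46 (Lpr_gf (K49.f676020 IH) (Lpe (f532841 IH) (Lpr_at (f534307 IH) (Lpn (LP (LK LD1_c14 LD2_c41 LD3_c12))))))
theorem f15465 : Led Lsl_bt (LP (LK LD1_c6 LD2_c57 LD3_c6)) = (LP (LK LD1_c3 LD2_c27 LD3_c29)) :=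
  Lre_b IH (LK LD1_c6 LD2_c57 LD3_c6) (LK LD1_c3 LD2_c27 LD3_c29) Lrfl Lrfl
theorem f512236 : Led Lsl_ff (LP (LK LD1_c6 LD2_c57 LD3_c6)) = (LP (LK LD1_c13 LD2_c7 LD3_c30)) :=
  Lgr Lrot25 (Lpr_bt (f15465 IH) (Lpr_ft (K33.f512234 IH) (Lpr_bt (K49.f472239 IH) (Lpn (LP (LK LD1_c13 LD2_c7 LD3_c30))))))
theorem f514216 : Led Lsl_at (LP (LK LD1_c6 LD2_c57 LD3_c6)) = (LP (LK LD1_c13 LD2_c12 LD3_c4)) :=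
  Lre_a IH (LK LD1_c6 LD2_c57 LD3_c6) (LK LD1_c13 LD2_c12 LD3_c4) Lrfl Lrfl
theorem f676026 : Led Lsl_gf (LP (LK LD1_c13 LD2_c12 LD3_c4)) = (LP (LK LD1_c14 LD2_c41 LD3_c12)) :=
  Lgr Lrot76 (Lpe (f514216 IH) (Lpr_ff (f512236 IH) (Lpr_gt (f676024 IH) (Lpn (LP (LK LD1_c14 LD2_c41 LD3_c12))))))
theorem f514217 : Led Lsl_dt (LP (LK LD1_c22 LD2_c25 LD3_c17)) = (LP (LK LD1_c13 LD2_c12 LD3_c4)) :=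
  Lre_d IH (LK LD1_c22 LD2_c25 LD3_c17) (LK LD1_c13 LD2_c12 LD3_c4) Lrfl Lrfl
theorem f801962 : Led Lsl_et (LP (LK LD1_c22 LD2_c25 LD3_c17)) = (LP (LK LD1_c17 LD2_c17 LD3_c19)) :=
  Lgr Lrot185 (Lpr_dt (f514217 IH) (Lpr_gf (f676026 IH) (Lpe (K49.f458032 IH) (Lpe (K41.f458031 IH) (Lpe (f458030 IH) (Lpr_dt (f458012 IH) (Lpe (f534902 IH) (Lpe (f533223 IH) (Lpr_et (f533231 IH) (Lpr_gf (f801954 IH) (Lpn (LP (LK LD1_c17 LD2_c17 LD3_c19)))))))))))))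
theorem f801970 : Led Lsl_ef (LP (LK LD1_c22 LD2_c25 LD3_c17)) = (LP (LK LD1_c17 LD2_c17 LD3_c19)) :=
  Lgr Lrot88 (Lpr_et (f801962 IH) (Lpn (LP (LK LD1_c17 LD2_c17 LD3_c19))))
theorem f116730 : Led Lsl_et (LP (LK LD1_c17 LD2_c17 LD3_c21)) = (LP (LK LD1_c9 LD2_c21 LD3_c19)) :=
  Lre_e IH (LK LD1_c17 LD2_c17 LD3_c21) (LK LD1_c9 LD2_c21 LD3_c19) Lrfl Lrfl
theorem f801972 : Led Lsl_ct (LP (LK LD1_c22 LD2_c25 LD3_c17)) = (LP (LK LD1_c17 LD2_c17 LD3_c21)) :=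
  Lgr Lrot15 (Lpr_ef (f801970 IH) (Lpe (f146571 IH) (Lpe (f116730 IH) (Lpn (LP (LK LD1_c17 LD2_c17 LD3_c21))))))
theorem f514223 : Led Lsl_dt (LP (LK LD1_c13 LD2_c12 LD3_c4)) = (LP (LK LD1_c22 LD2_c25 LD3_c17)) :=
  Lre_d IH (LK LD1_c13 LD2_c12 LD3_c4) (LK LD1_c22 LD2_c25 LD3_c17) Lrfl Lrfl
theorem f473973 : Led Lsl_dt (LP (LK LD1_c3 LD2_c52 LD3_c47)) = (LP (LK LD1_c7 LD2_c47 LD3_c17)) :=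
  Lre_d IH (LK LD1_c3 LD2_c52 LD3_c47) (LK LD1_c7 LD2_c47 LD3_c17) Lrfl Lrfl
theorem f64435 : Led Lsl_et (LP (LK LD1_c3 LD2_c48 LD3_c31)) = (LP (LK LD1_c1 LD2_c51 LD3_c16)) :=
  Lre_e IH (LK LD1_c3 LD2_c48 LD3_c31) (LK LD1_c1 LD2_c51 LD3_c16) Lrfl Lrfl
theorem f64432 : Led Lsl_dt (LP (LK LD1_c3 LD2_c48 LD3_c31)) = (LP (LK LD1_c7 LD2_c38 LD3_c1)) :=
  Lre_d IH (LK LD1_c3 LD2_c48 LD3_c31) (LK LD1_c7 LD2_c38 LD3_c1) Lrfl Lrfl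
theorem f64427 : Led Lsl_gt (LP (LK LD1_c14 LD2_c23 LD3_c7)) = (LP (LK LD1_c7 LD2_c38 LD3_c1)) :=
  Lre_g IH (LK LD1_c14 LD2_c23 LD3_c7) (LK LD1_c7 LD2_c38 LD3_c1) Lrfl Lrfl
theorem f116731 : Led Lsl_df (LP (LK LD1_c14 LD2_c23 LD3_c7)) = (LP (LK LD1_c17 LD2_c17 LD3_c21)) :=
  Lgr Lrot170 (Lpr_gt (f64427 IH) (Lpe (f64432 IH) (Lpr_et (f64435 IH) (Lpr_gt (K4.f11853 IH) (Lpr_dt (K5.f64306 IH) (Lpr_gt (K4.f116711 IH) (Lpe (K7.f25294 IH) (Lpr_et (K8.f116728 IH) (Lpr_gt (f116729 IH) (Lpe (f116730 IH) (Lpn (LP (LK LD1_c17 LD2_c17 LD3_c21)))))))))))))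
theorem f116752 : Led Lsl_dt (LP (LK LD1_c14 LD2_c23 LD3_c7)) = (LP (LK LD1_c17 LD2_c17 LD3_c21)) :=
  Lgr Lrot42 (Lpr_df (f116731 IH) (Lpn (LP (LK LD1_c17 LD2_c17 LD3_c21))))
theorem f801980 : Led Lsl_gt (LP (LK LD1_c7 LD2_c47 LD3_c17)) = (LP (LK LD1_c14 LD2_c23 LD3_c7)) :=
  Lgr Lrot189 (Lpe (f473973 IH) (Lpe (K41.f457989 IH) (Lpr_ct (K34.f458072 IH) (Lpr_gt (K41.f458031 IH) (Lpr_dt (K49.f458032 IH) (Lpe (f676026 IH) (Lpr_dt (f514223 IH) (Lpr_ct (f801972 IH) (Lpe (f116752 IH) (Lpn (LP (LK LD1_c14 LD2_c23 LD3_c7))))))))))))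
theorem f475755 : Led Lsl_et (LP (LK LD1_c3 LD2_c52 LD3_c50)) = (LP (LK LD1_c1 LD2_c52 LD3_c61)) :=
  Lre_e IH (LK LD1_c3 LD2_c52 LD3_c50) (LK LD1_c1 LD2_c52 LD3_c61) Lrfl Lrfl
theorem f458048 : Led Lsl_dt (LP (LK LD1_c3 LD2_c52 LD3_c50)) = (LP (LK LD1_c7 LD2_c47 LD3_c26)) :=
  Lre_d IH (LK LD1_c3 LD2_c52 LD3_c50) (LK LD1_c7 LD2_c47 LD3_c26) Lrfl Lrfl
theorem f458054 : Led Lsl_gt (LP (LK LD1_c14 LD2_c41 LD3_c61)) = (LP (LK LD1_c7 LD2_c47 LD3_c26)) :=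
  Lre_g IH (LK LD1_c14 LD2_c41 LD3_c61) (LK LD1_c7 LD2_c47 LD3_c26) Lrfl Lrfl
theorem f58796 : Led Lsl_et (LP (LK LD1_c3 LD2_c14 LD3_c50)) = (LP (LK LD1_c6 LD2_c33 LD3_c10)) :=
  Lre_e IH (LK LD1_c3 LD2_c14 LD3_c50) (LK LD1_c6 LD2_c33 LD3_c10) Lrfl Lrfl
theorem f58798 : Led Lsl_et (LP (LK LD1_c3 LD2_c45 LD3_c53)) = (LP (LK LD1_c1 LD2_c50 LD3_c1)) :=
  Lre_e IH (LK LD1_c3 LD2_c45 LD3_c53) (LK LD1_c1 LD2_c50 LD3_c1) Lrfl Lrfl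
theorem f58800 : Led Lsl_et (LP (LK LD1_c12 LD2_c33 LD3_c39)) = (LP (LK LD1_c7 LD2_c32 LD3_c31)) :=
  Lgr Lrot69 (Lpe (f58797 IH) (Lpe (f58796 IH) (Lpr_ff (K7.f58783 IH) (Lpe (f58798 IH) (Lpe (f58799 IH) (Lpn (LP (LK LD1_c7 LD2_c32 LD3_c31))))))))
theorem f801986 : Led Lsl_df (LP (LK LD1_c14 LD2_c41 LD3_c61)) = (LP (LK LD1_c12 LD2_c33 LD3_c39)) :=
  Lgr Lrot170 (Lpr_gt (f458054 IH) (Lpe (f458048 IH) (Lpr_et (f475755 IH) (Lpr_gt (K41.f457989 IH) (Lpr_dt (f473973 IH) (Lpr_gt (f801980 IH) (Lpr_df (f116731 IH) (Lpr_et (f116730 IH) (Lpe (f157450 IH) (Lpe (f58800 IH) (Lpn (LP (LK LD1_c12 LD2_c33 LD3_c39)))))))))))))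
theorem f58820 : Led Lsl_gt (LP (LK LD1_c6 LD2_c33 LD3_c34)) = (LP (LK LD1_c12 LD2_c33 LD3_c39)) :=
  Lre_g IH (LK LD1_c6 LD2_c33 LD3_c34) (LK LD1_c12 LD2_c33 LD3_c39) Lrfl Lrfl
theorem f58821 : Led Lsl_et (LP (LK LD1_c12 LD2_c34 LD3_c10)) = (LP (LK LD1_c6 LD2_c33 LD3_c34)) :=
  Lre_e IH (LK LD1_c12 LD2_c34 LD3_c10) (LK LD1_c6 LD2_c33 LD3_c34) Lrfl Lrfl
theorem f58822 : Led Lsl_dt (LP (LK LD1_c12 LD2_c34 LD3_c10)) = (LP (LK LD1_c21 LD2_c40 LD3_c27)) :=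
  Lre_d IH (LK LD1_c12 LD2_c34 LD3_c10) (LK LD1_c21 LD2_c40 LD3_c27) Lrfl Lrfl
theorem f24185 : Led Lsl_gt (LP (LK LD1_c3 LD2_c15 LD3_c4)) = (LP (LK LD1_c6 LD2_c33 LD3_c34)) :=
  Lre_g IH (LK LD1_c3 LD2_c15 LD3_c4) (LK LD1_c6 LD2_c33 LD3_c34) Lrfl Lrfl
theorem f64454 : Led Lsl_et (LP (LK LD1_c6 LD2_c43 LD3_c14)) = (LP (LK LD1_c3 LD2_c19 LD3_c43)) :=
  Lre_e IH (LK LD1_c6 LD2_c43 LD3_c14) (LK LD1_c3 LD2_c19 LD3_c43) Lrfl Lrfl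
theorem f145153 : Led Lsl_dt (LP (LK LD1_c6 LD2_c43 LD3_c14)) = (LP (LK LD1_c12 LD2_c51 LD3_c20)) :=
  Lre_d IH (LK LD1_c6 LD2_c43 LD3_c14) (LK LD1_c12 LD2_c51 LD3_c20) Lrfl Lrfl
theorem f145154 : Led Lsl_gt (LP (LK LD1_c21 LD2_c40 LD3_c27)) = (LP (LK LD1_c12 LD2_c51 LD3_c20)) :=
  Lgr Lrot112 (Lpe (f58822 IH) (Lpr_et (f58821 IH) (Lpe (f24185 IH) (Lpe (K7.f24153 IH) (Lpr_dt (K3.f24136 IH) (Lpe (K4.f24203 IH) (Lpr_df (K5.f111889 IH) (Lpr_gf (K6.f145149 IH) (Lpe (f64454 IH) (Lpr_dt (f145153 IH) (Lpn (LP (LK LD1_c12 LD2_c51 LD3_c20)))))))))))))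
theorem f57301 : Led Lsl_at (LP (LK LD1_c6 LD2_c43 LD3_c27)) = (LP (LK LD1_c12 LD2_c51 LD3_c20)) :=
  Lre_a IH (LK LD1_c6 LD2_c43 LD3_c27) (LK LD1_c12 LD2_c51 LD3_c20) Lrfl Lrfl
theorem f57294 : Led Lsl_ft (LP (LK LD1_c12 LD2_c51 LD3_c47)) = (LP (LK LD1_c6 LD2_c43 LD3_c27)) :=
  Lre_f IH (LK LD1_c12 LD2_c51 LD3_c47) (LK LD1_c6 LD2_c43 LD3_c27) Lrfl Lrfl
theorem f145158 : Led Lsl_gf (LP (LK LD1_c21 LD2_c40 LD3_c27)) = (LP (LK LD1_c12 LD2_c51 LD3_c47)) :=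
  Lgr Lrot47 (Lpr_gt (f145154 IH) (Lpe (f57301 IH) (Lpe (f57294 IH) (Lpn (LP (LK LD1_c12 LD2_c51 LD3_c47))))))
theorem f145171 : Led Lsl_dt (LP (LK LD1_c6 LD2_c43 LD3_c28)) = (LP (LK LD1_c12 LD2_c51 LD3_c47)) :=
  Lre_d IH (LK LD1_c6 LD2_c43 LD3_c28) (LK LD1_c12 LD2_c51 LD3_c47) Lrfl Lrfl
theorem f801993 : v7607 = (LP (LK LD1_c6 LD2_c43 LD3_c28)) :=
  (Llr Lrot17 (Lpe (f667220 IH) (Lpe (K41.f457989 IH) (Lpe (f475755 IH) (Lpr_dt (f458048 IH) (Lpe (f458054 IH) (Lpr_df (f801986 IH) (Lpe (f58820 IH) (Lpe (f58821 IH) (Lpr_dt (f58822 IH) (Lpr_gf (f145158 IH) (Lpe (f145171 IH) (Lpn (LP (LK LD1_c6 LD2_c43 LD3_c28))))))))))))))).symm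
theorem f802030 : (LP (LK LD1_c3 LD2_c52 LD3_c47)) = v13754 :=
  Lefun (Lecon (Lfl_ef (f667220 IH)) (f801993 IH)) (f704678 IH)
theorem f802048 : v19501 = (LP (LK LD1_c7 LD2_c47 LD3_c16)) :=
  Lefun (Lecon (f780055 IH) (f802030 IH).symm) (f458061 IH)
theorem f802077 : (LP (LK LD1_c6 LD2_c43 LD3_c26)) = v7551 :=
  Lefun (Lecon (Lfl_gf (f780057 IH)) (f802048 IH)) (f666694 IH)
def v19519 : LQ := Led Lsl_ft (LP (LK LD1_c6 LD2_c43 LD3_c25))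
theorem f780424 : Led Lsl_ft (LP (LK LD1_c6 LD2_c43 LD3_c25)) = v19519 :=
  Lrfl
theorem f780426 : Led Lsl_ff (LP (LK LD1_c6 LD2_c43 LD3_c25)) = v19519 :=
  Lgr Lrot3 (Lpr_ft (f780424 IH) (Lpn v19519))
def v19518 : LQ := Led Lsl_at (LP (LK LD1_c6 LD2_c43 LD3_c25))
theorem f780418 : Led Lsl_at (LP (LK LD1_c6 LD2_c43 LD3_c25)) = v19518 :=
  Lrfl
theorem f780419 : Led Lsl_af (LP (LK LD1_c6 LD2_c43 LD3_c25)) = v19518 :=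
  Lgr Lrot0 (Lpr_at (f780418 IH) (Lpn v19518))
theorem f57278 : Led Lsl_gt (LP (LK LD1_c3 LD2_c19 LD3_c50)) = (LP (LK LD1_c6 LD2_c43 LD3_c25)) :=
  Lre_g IH (LK LD1_c3 LD2_c19 LD3_c50) (LK LD1_c6 LD2_c43 LD3_c25) Lrfl Lrfl
theorem f780421 : Led Lsl_ft (LP (LK LD1_c6 LD2_c43 LD3_c26)) = v19518 :=
  Lgr Lrot2 (Lpr_gt (f57285 IH) (Lpr_gt (f57278 IH) (Lpr_af (f780419 IH) (Lpn v19518))))
theorem f780423 : Led Lsl_ff (LP (LK LD1_c6 LD2_c43 LD3_c26)) = v19518 :=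
  Lgr Lrot3 (Lpr_ft (f780421 IH) (Lpn v19518))
theorem f780428 : Led Lsl_at (LP (LK LD1_c6 LD2_c43 LD3_c26)) = v19519 :=
  Lgr Lrot66 (Lpr_ff (f780423 IH) (Lpe (f780418 IH) (Lpr_ff (f780426 IH) (Lpn v19519))))
theorem f802413 : v19519 = (LP (LK LD1_c12 LD2_c51 LD3_c19)) :=
  (Llr Lrot107 (Lpe (f780428 IH) (Lpqs (f802077 IH) (Lpe (f666690 IH) (Lpe (f530302 IH) (Lpr_cf (f802404 IH) (Lpn (LP (LK LD1_c12 LD2_c51 LD3_c19))))))))).symm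
theorem f57279 : Led Lsl_dt (LP (LK LD1_c6 LD2_c43 LD3_c25)) = (LP (LK LD1_c12 LD2_c51 LD3_c41)) :=
  Lre_d IH (LK LD1_c6 LD2_c43 LD3_c25) (LK LD1_c12 LD2_c51 LD3_c41) Lrfl Lrfl
theorem f57280 : Led Lsl_ct (LP (LK LD1_c12 LD2_c51 LD3_c41)) = (LP (LK LD1_c22 LD2_c0 LD3_c42)) :=
  Lre_c IH (LK LD1_c12 LD2_c51 LD3_c41) (LK LD1_c22 LD2_c0 LD3_c42) Lrfl Lrfl
theorem f780427 : Led Lsl_dt (LP (LK LD1_c22 LD2_c0 LD3_c42)) = (LP (LK LD1_c30 LD2_c15 LD3_c14)) :=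
  Lre_d IH (LK LD1_c22 LD2_c0 LD3_c42) (LK LD1_c30 LD2_c15 LD3_c14) Lrfl Lrfl
theorem f780425 : Led Lsl_af (LP (LK LD1_c6 LD2_c43 LD3_c26)) = v19519 :=
  Lgr Lrot45 (Lpr_ft (f780421 IH) (Lpe (f780419 IH) (Lpr_ft (f780424 IH) (Lpn v19519))))
def v19521 : LQ := Led Lsl_ct (LP (LK LD1_c6 LD2_c43 LD3_c26))
theorem f780431 : Led Lsl_ct (LP (LK LD1_c6 LD2_c43 LD3_c26)) = v19521 :=
  Lrfl
theorem f780432 : Led Lsl_cf (LP (LK LD1_c6 LD2_c43 LD3_c26)) = v19521 :=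
  Lgr Lrot11 (Lpr_ct (f780431 IH) (Lpn v19521))
theorem f666692 : Led Lsl_cf (LP (LK LD1_c3 LD2_c51 LD3_c8)) = v7551 :=
  Lgr Lrot11 (Lpr_ct (f666690 IH) (Lpn v7551))
theorem f802091 : (LP (LK LD1_c3 LD2_c51 LD3_c8)) = v19521 :=
  Lefun (Lecon (Lfl_cf (f666692 IH)) (f802077 IH).symm) (f780431 IH)
theorem f527406 : Led Lsl_ct (LP (LK LD1_c14 LD2_c34 LD3_c8)) = (LP (LK LD1_c7 LD2_c43 LD3_c39)) :=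
  Lre_c IH (LK LD1_c14 LD2_c34 LD3_c8) (LK LD1_c7 LD2_c43 LD3_c39) Lrfl Lrfl
theorem f527407 : Led Lsl_dt (LP (LK LD1_c24 LD2_c16 LD3_c43)) = (LP (LK LD1_c14 LD2_c34 LD3_c8)) :=
  Lre_d IH (LK LD1_c24 LD2_c16 LD3_c43) (LK LD1_c14 LD2_c34 LD3_c8) Lrfl Lrfl
theorem f802422 : Led Lsl_ct (LP (LK LD1_c30 LD2_c15 LD3_c14)) = (LP (LK LD1_c24 LD2_c16 LD3_c43)) :=
  Lgr Lrot41 (Lpe (f780427 IH) (Lpe (f57280 IH) (Lpe (f57279 IH) (Lpr_ft (f780424 IH) (Lpqs (f802413 IH) (Lpq (f802413 IH) (Lpe (f780425 IH) (Lpr_cf (f780432 IH) (Lpq (f802091 IH) (Lpe (K47.f531180 IH) (Lpe (f527406 IH) (Lpe (f527407 IH) (Lpn (LP (LK LD1_c24 LD2_c16 LD3_c43)))))))))))))))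
theorem f64430 : Led Lsl_ct (LP (LK LD1_c12 LD2_c51 LD3_c40)) = (LP (LK LD1_c6 LD2_c43 LD3_c25)) :=
  Lre_c IH (LK LD1_c12 LD2_c51 LD3_c40) (LK LD1_c6 LD2_c43 LD3_c25) Lrfl Lrfl
theorem f64429 : Led Lsl_dt (LP (LK LD1_c22 LD2_c0 LD3_c40)) = (LP (LK LD1_c12 LD2_c51 LD3_c40)) :=
  Lre_d IH (LK LD1_c22 LD2_c0 LD3_c40) (LK LD1_c12 LD2_c51 LD3_c40) Lrfl Lrfl
theorem f531070 : Led Lsl_at (LP (LK LD1_c14 LD2_c34 LD3_c5)) = (LP (LK LD1_c7 LD2_c43 LD3_c39)) :=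
  Lre_a IH (LK LD1_c14 LD2_c34 LD3_c5) (LK LD1_c7 LD2_c43 LD3_c39) Lrfl Lrfl
theorem f802426 : Led Lsl_ft (LP (LK LD1_c22 LD2_c0 LD3_c40)) = (LP (LK LD1_c14 LD2_c34 LD3_c5)) :=
  Lgr Lrot142 (Lpr_dt (f64429 IH) (Lpr_ct (f64430 IH) (Lpr_dt (f57279 IH) (Lpr_ct (f57280 IH) (Lpr_dt (f780427 IH) (Lpr_ct (f802422 IH) (Lpr_dt (f527407 IH) (Lpr_ct (f527406 IH) (Lpe (f531070 IH) (Lpn (LP (LK LD1_c14 LD2_c34 LD3_c5))))))))))))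
theorem f802431 : Led Lsl_ff (LP (LK LD1_c22 LD2_c0 LD3_c40)) = (LP (LK LD1_c14 LD2_c34 LD3_c5)) :=
  Lgr Lrot3 (Lpr_ft (f802426 IH) (Lpn (LP (LK LD1_c14 LD2_c34 LD3_c5))))
theorem f531190 : Led Lsl_dt (LP (LK LD1_c7 LD2_c43 LD3_c38)) = (LP (LK LD1_c14 LD2_c34 LD3_c5)) :=
  Lre_d IH (LK LD1_c7 LD2_c43 LD3_c38) (LK LD1_c14 LD2_c34 LD3_c5) Lrfl Lrfl
theorem f802437 : Led Lsl_ft (LP (LK LD1_c12 LD2_c51 LD3_c40)) = (LP (LK LD1_c7 LD2_c43 LD3_c38)) :=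
  Lgr Lrot54 (Lpe (f64429 IH) (Lpr_ff (f802431 IH) (Lpe (f531190 IH) (Lpn (LP (LK LD1_c7 LD2_c43 LD3_c38))))))
theorem f802443 : Led Lsl_gt (LP (LK LD1_c12 LD2_c51 LD3_c40)) = (LP (LK LD1_c7 LD2_c43 LD3_c37)) :=
  Lgr Lrot5 (Lpr_ft (f802437 IH) (Lpr_at (f530302 IH) (Lpe (K35.f527276 IH) (Lpn (LP (LK LD1_c7 LD2_c43 LD3_c37))))))
theorem f64428 : Led Lsl_dt (LP (LK LD1_c12 LD2_c51 LD3_c40)) = (LP (LK LD1_c22 LD2_c0 LD3_c40)) :=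
  Lre_d IH (LK LD1_c12 LD2_c51 LD3_c40) (LK LD1_c22 LD2_c0 LD3_c40) Lrfl Lrfl
theorem f534617 : Led Lsl_gt (LP (LK LD1_c14 LD2_c34 LD3_c7)) = (LP (LK LD1_c7 LD2_c43 LD3_c39)) :=
  Lre_g IH (LK LD1_c14 LD2_c34 LD3_c7) (LK LD1_c7 LD2_c43 LD3_c39) Lrfl Lrfl
theorem f802433 : Led Lsl_gt (LP (LK LD1_c22 LD2_c0 LD3_c40)) = (LP (LK LD1_c14 LD2_c34 LD3_c7)) :=
  Lgr Lrot5 (Lpr_ft (f802426 IH) (Lpr_at (f531070 IH) (Lpe (f534617 IH) (Lpn (LP (LK LD1_c14 LD2_c34 LD3_c7))))))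
theorem f534595 : Led Lsl_cf (LP (LK LD1_c6 LD2_c56 LD3_c57)) = (LP (LK LD1_c7 LD2_c43 LD3_c37)) :=
  Lgr Lrot97 (Lpr_bt (K46.f532846 IH) (Lpr_ct (K34.f145069 IH) (Lpe (K34.f532886 IH) (Lpr_ct (K34.f471510 IH) (Lpr_bt (K35.f534584 IH) (Lpn (LP (LK LD1_c7 LD2_c43 LD3_c37))))))))
theorem f457793 : Led Lsl_bt (LP (LK LD1_c3 LD2_c48 LD3_c6)) = (LP (LK LD1_c1 LD2_c51 LD3_c3)) :=
  Lre_b IH (LK LD1_c3 LD2_c48 LD3_c6) (LK LD1_c1 LD2_c51 LD3_c3) Lrfl Lrfl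
theorem f457794 : Led Lsl_ct (LP (LK LD1_c3 LD2_c27 LD3_c25)) = (LP (LK LD1_c3 LD2_c48 LD3_c6)) :=
  Lgr Lrot83 (Lpe (K34.f457792 IH) (Lpr_cf (K28.f457790 IH) (Lpe (K28.f62773 IH) (Lpe (K29.f62792 IH) (Lpe (f457793 IH) (Lpn (LP (LK LD1_c3 LD2_c48 LD3_c6))))))))
theorem f457838 : Led Lsl_dt (LP (LK LD1_c7 LD2_c37 LD3_c19)) = (LP (LK LD1_c3 LD2_c48 LD3_c6)) :=
  Lre_d IH (LK LD1_c7 LD2_c37 LD3_c19) (LK LD1_c3 LD2_c48 LD3_c6) Lrfl Lrfl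
theorem f457839 : Led Lsl_ct (LP (LK LD1_c14 LD2_c22 LD3_c12)) = (LP (LK LD1_c7 LD2_c37 LD3_c19)) :=
  Lre_c IH (LK LD1_c14 LD2_c22 LD3_c12) (LK LD1_c7 LD2_c37 LD3_c19) Lrfl Lrfl
theorem f457902 : Led Lsl_gt (LP (LK LD1_c24 LD2_c0 LD3_c19)) = (LP (LK LD1_c14 LD2_c22 LD3_c12)) :=
  Lre_g IH (LK LD1_c24 LD2_c0 LD3_c19) (LK LD1_c14 LD2_c22 LD3_c12) Lrfl Lrfl
theorem f802448 : Led Lsl_ct (LP (LK LD1_c14 LD2_c34 LD3_c7)) = (LP (LK LD1_c24 LD2_c0 LD3_c19)) :=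
  Lgr Lrot152 (Lpe (f802433 IH) (Lpe (f64428 IH) (Lpr_gt (f802443 IH) (Lpe (f534595 IH) (Lpr_gt (K34.f457855 IH) (Lpr_ct (f457794 IH) (Lpe (f457838 IH) (Lpe (f457839 IH) (Lpe (f457902 IH) (Lpn (LP (LK LD1_c24 LD2_c0 LD3_c19))))))))))))
theorem f130034 : Led Lsl_ct (LP (LK LD1_c24 LD2_c0 LD3_c30)) = (LP (LK LD1_c14 LD2_c22 LD3_c20)) :=
  Lre_c IH (LK LD1_c24 LD2_c0 LD3_c30) (LK LD1_c14 LD2_c22 LD3_c20) Lrfl Lrfl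
theorem f457899 : Led Lsl_dt (LP (LK LD1_c14 LD2_c22 LD3_c12)) = (LP (LK LD1_c24 LD2_c0 LD3_c21)) :=
  Lre_d IH (LK LD1_c14 LD2_c22 LD3_c12) (LK LD1_c24 LD2_c0 LD3_c21) Lrfl Lrfl
theorem f475987 : Led Lsl_gt (LP (LK LD1_c24 LD2_c0 LD3_c21)) = (LP (LK LD1_c31 LD2_c19 LD3_c6)) :=
  Lre_g IH (LK LD1_c24 LD2_c0 LD3_c21) (LK LD1_c31 LD2_c19 LD3_c6) Lrfl Lrfl
theorem f802485 : Led Lsl_df (LP (LK LD1_c24 LD2_c0 LD3_c30)) = (LP (LK LD1_c31 LD2_c19 LD3_c6)) :=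
  Lgr Lrot174 (Lpr_ct (f130034 IH) (Lpe (K35.f89835 IH) (Lpr_gf (K47.f534614 IH) (Lpe (K47.f531180 IH) (Lpe (f534617 IH) (Lpr_ct (f802448 IH) (Lpr_gt (f457902 IH) (Lpr_dt (f457899 IH) (Lpr_gt (f475987 IH) (Lpn (LP (LK LD1_c31 LD2_c19 LD3_c6))))))))))))
theorem f534597 : Led Lsl_dt (LP (LK LD1_c7 LD2_c43 LD3_c37)) = (LP (LK LD1_c14 LD2_c34 LD3_c4)) :=
  Lre_d IH (LK LD1_c7 LD2_c43 LD3_c37) (LK LD1_c14 LD2_c34 LD3_c4) Lrfl Lrfl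
theorem f534801 : Led Lsl_ff (LP (LK LD1_c13 LD2_c10 LD3_c30)) = (LP (LK LD1_c14 LD2_c34 LD3_c4)) :=
  Lgr Lrot19 (Lpr_dt (K35.f113321 IH) (Lpr_ft (K46.f534612 IH) (Lpr_dt (f534597 IH) (Lpn (LP (LK LD1_c14 LD2_c34 LD3_c4))))))
theorem f534607 : Led Lsl_dt (LP (LK LD1_c14 LD2_c34 LD3_c4)) = (LP (LK LD1_c7 LD2_c43 LD3_c37)) :=
  Lre_d IH (LK LD1_c14 LD2_c34 LD3_c4) (LK LD1_c7 LD2_c43 LD3_c37) Lrfl Lrfl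
theorem f475648 : Led Lsl_ct (LP (LK LD1_c13 LD2_c11 LD3_c39)) = (LP (LK LD1_c22 LD2_c24 LD3_c28)) :=
  Lre_c IH (LK LD1_c13 LD2_c11 LD3_c39) (LK LD1_c22 LD2_c24 LD3_c28) Lrfl Lrfl
theorem f532845 : Led Lsl_dt (LP (LK LD1_c22 LD2_c24 LD3_c28)) = (LP (LK LD1_c30 LD2_c28 LD3_c54)) :=
  Lre_d IH (LK LD1_c22 LD2_c24 LD3_c28) (LK LD1_c30 LD2_c28 LD3_c54) Lrfl Lrfl
theorem f802509 : Led Lsl_ct (LP (LK LD1_c30 LD2_c28 LD3_c54)) = (LP (LK LD1_c31 LD2_c19 LD3_c6)) :=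
  Lgr Lrot53 (Lpe (f532845 IH) (Lpe (f475648 IH) (Lpe (f457901 IH) (Lpr_cf (f534595 IH) (Lpe (f534607 IH) (Lpe (f534801 IH) (Lpr_at (K35.f130032 IH) (Lpe (f130034 IH) (Lpr_df (f802485 IH) (Lpn (LP (LK LD1_c31 LD2_c19 LD3_c6))))))))))))
theorem f533989 : Led Lsl_dt (LP (LK LD1_c31 LD2_c31 LD3_c8)) = (LP (LK LD1_c24 LD2_c25 LD3_c43)) :=
  Lre_d IH (LK LD1_c31 LD2_c31 LD3_c8) (LK LD1_c24 LD2_c25 LD3_c43) Lrfl Lrfl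
theorem f534309 : Led Lsl_at (LP (LK LD1_c30 LD2_c28 LD3_c54)) = (LP (LK LD1_c31 LD2_c31 LD3_c8)) :=
  Lgr Lrot51 (Lpe (f532845 IH) (Lpr_af (f534299 IH) (Lpe (f533989 IH) (Lpn (LP (LK LD1_c31 LD2_c31 LD3_c8))))))
theorem f534330 : Led Lsl_af (LP (LK LD1_c30 LD2_c28 LD3_c54)) = (LP (LK LD1_c31 LD2_c31 LD3_c8)) :=
  Lgr Lrot0 (Lpr_at (f534309 IH) (Lpn (LP (LK LD1_c31 LD2_c31 LD3_c8))))
theorem f534283 : Led Lsl_ct (LP (LK LD1_c24 LD2_c26 LD3_c45)) = (LP (LK LD1_c31 LD2_c31 LD3_c8)) :=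
  Lgr Lrot59 (Lpr_cf (K49.f534281 IH) (Lpn (LP (LK LD1_c31 LD2_c31 LD3_c8))))
theorem f802511 : Led Lsl_af (LP (LK LD1_c24 LD2_c26 LD3_c45)) = (LP (LK LD1_c31 LD2_c19 LD3_c6)) :=
  Lgr Lrot68 (Lpr_ct (f534283 IH) (Lpe (f534330 IH) (Lpr_ct (f802509 IH) (Lpn (LP (LK LD1_c31 LD2_c19 LD3_c6))))))
theorem f460077 : Led Lsl_dt (LP (LK LD1_c14 LD2_c41 LD3_c53)) = (LP (LK LD1_c7 LD2_c47 LD3_c22)) :=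
  Lre_d IH (LK LD1_c14 LD2_c41 LD3_c53) (LK LD1_c7 LD2_c47 LD3_c22) Lrfl Lrfl
theorem f475491 : Led Lsl_at (LP (LK LD1_c24 LD2_c0 LD3_c21)) = (LP (LK LD1_c31 LD2_c18 LD3_c60)) :=
  Lre_a IH (LK LD1_c24 LD2_c0 LD3_c21) (LK LD1_c31 LD2_c18 LD3_c60) Lrfl Lrfl
theorem f475492 : Led Lsl_ft (LP (LK LD1_c14 LD2_c41 LD3_c53)) = (LP (LK LD1_c24 LD2_c0 LD3_c21)) :=
  Lgr Lrot142 (Lpr_dt (f460077 IH) (Lpr_ct (K34.f460076 IH) (Lpr_dt (K34.f458073 IH) (Lpr_ct (K34.f458072 IH) (Lpr_dt (K34.f458051 IH) (Lpr_ct (K34.f475458 IH) (Lpr_dt (K34.f475482 IH) (Lpr_ct (K34.f475483 IH) (Lpe (f475491 IH) (Lpn (LP (LK LD1_c24 LD2_c0 LD3_c21))))))))))))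
theorem f476036 : Led Lsl_gt (LP (LK LD1_c14 LD2_c41 LD3_c53)) = (LP (LK LD1_c24 LD2_c26 LD3_c44)) :=
  Lre_g IH (LK LD1_c14 LD2_c41 LD3_c53) (LK LD1_c24 LD2_c26 LD3_c44) Lrfl Lrfl
theorem f476037 : Led Lsl_gt (LP (LK LD1_c24 LD2_c26 LD3_c44)) = (LP (LK LD1_c31 LD2_c18 LD3_c60)) :=
  Lgr Lrot46 (Lpe (f476036 IH) (Lpr_ft (f475492 IH) (Lpr_at (f475491 IH) (Lpn (LP (LK LD1_c31 LD2_c18 LD3_c60))))))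
theorem f802515 : Led Lsl_ft (LP (LK LD1_c24 LD2_c26 LD3_c44)) = (LP (LK LD1_c31 LD2_c19 LD3_c6)) :=
  Lgr Lrot2 (Lpr_gt (f476037 IH) (Lpr_gt (K49.f475584 IH) (Lpr_af (f802511 IH) (Lpn (LP (LK LD1_c31 LD2_c19 LD3_c6))))))
theorem f802517 : Led Lsl_df (LP (LK LD1_c30 LD2_c39 LD3_c10)) = (LP (LK LD1_c24 LD2_c26 LD3_c44)) :=
  Lgr Lrot157 (Lpr_ct (K49.f534375 IH) (Lpr_dt (K49.f130038 IH) (Lpe (K49.f534246 IH) (Lpr_dt (K49.f458032 IH) (Lpr_ct (K49.f473952 IH) (Lpr_dt (K49.f534280 IH) (Lpe (K49.f534281 IH) (Lpr_af (f802511 IH) (Lpe (f802515 IH) (Lpn (LP (LK LD1_c24 LD2_c26 LD3_c44))))))))))))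
theorem f534377 : Led Lsl_ft (LP (LK LD1_c30 LD2_c39 LD3_c10)) = (LP (LK LD1_c24 LD2_c0 LD3_c30)) :=
  Lgr Lrot4 (Lpr_cf (K49.f534373 IH) (Lpe (K49.f130043 IH) (Lpe (f130034 IH) (Lpn (LP (LK LD1_c24 LD2_c0 LD3_c30))))))
theorem f802507 : Led Lsl_dt (LP (LK LD1_c24 LD2_c0 LD3_c30)) = (LP (LK LD1_c31 LD2_c19 LD3_c6)) :=
  Lgr Lrot42 (Lpr_df (f802485 IH) (Lpn (LP (LK LD1_c31 LD2_c19 LD3_c6))))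
theorem f802521 : Led Lsl_ft (LP (LK LD1_c31 LD2_c19 LD3_c6)) = (LP (LK LD1_c24 LD2_c26 LD3_c44)) :=
  Lgr Lrot54 (Lpe (f802507 IH) (Lpe (f534377 IH) (Lpr_df (f802517 IH) (Lpn (LP (LK LD1_c24 LD2_c26 LD3_c44))))))
theorem f130063 : Led Lsl_dt (LP (LK LD1_c6 LD2_c56 LD3_c14)) = (LP (LK LD1_c13 LD2_c10 LD3_c29)) :=
  Lre_d IH (LK LD1_c6 LD2_c56 LD3_c14) (LK LD1_c13 LD2_c10 LD3_c29) Lrfl Lrfl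
theorem f130062 : Led Lsl_dt (LP (LK LD1_c22 LD2_c23 LD3_c7)) = (LP (LK LD1_c30 LD2_c27 LD3_c48)) :=
  Lre_d IH (LK LD1_c22 LD2_c23 LD3_c7) (LK LD1_c30 LD2_c27 LD3_c48) Lrfl Lrfl
theorem f475543 : Led Lsl_ff (LP (LK LD1_c14 LD2_c41 LD3_c53)) = (LP (LK LD1_c24 LD2_c0 LD3_c21)) :=
  Lgr Lrot19 (Lpr_dt (f460077 IH) (Lpr_ft (K34.f475522 IH) (Lpr_dt (f457899 IH) (Lpn (LP (LK LD1_c24 LD2_c0 LD3_c21))))))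
theorem f475988 : Led Lsl_gf (LP (LK LD1_c24 LD2_c26 LD3_c23)) = (LP (LK LD1_c31 LD2_c19 LD3_c6)) :=
  Lgr Lrot76 (Lpe (K49.f475564 IH) (Lpr_ff (f475543 IH) (Lpr_gt (f475987 IH) (Lpn (LP (LK LD1_c31 LD2_c19 LD3_c6))))))
theorem f475582 : Led Lsl_ff (LP (LK LD1_c31 LD2_c18 LD3_c60)) = (LP (LK LD1_c24 LD2_c26 LD3_c23)) :=
  Lgr Lrot3 (Lpr_ft (K49.f475578 IH) (Lpn (LP (LK LD1_c24 LD2_c26 LD3_c23))))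
theorem f475485 : Led Lsl_at (LP (LK LD1_c31 LD2_c18 LD3_c60)) = (LP (LK LD1_c24 LD2_c0 LD3_c21)) :=
  Lre_a IH (LK LD1_c31 LD2_c18 LD3_c60) (LK LD1_c24 LD2_c0 LD3_c21) Lrfl Lrfl
theorem f468397 : Led Lsl_gt (LP (LK LD1_c31 LD2_c19 LD3_c7)) = (LP (LK LD1_c24 LD2_c0 LD3_c21)) :=
  Lre_g IH (LK LD1_c31 LD2_c19 LD3_c7) (LK LD1_c24 LD2_c0 LD3_c21) Lrfl Lrfl
theorem f475591 : Led Lsl_gf (LP (LK LD1_c31 LD2_c19 LD3_c7)) = (LP (LK LD1_c24 LD2_c26 LD3_c23)) :=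
  Lgr Lrot47 (Lpr_gt (f468397 IH) (Lpe (f475485 IH) (Lpr_ff (f475582 IH) (Lpn (LP (LK LD1_c24 LD2_c26 LD3_c23))))))
theorem f802524 : Led Lsl_af (LP (LK LD1_c31 LD2_c19 LD3_c7)) = (LP (LK LD1_c24 LD2_c26 LD3_c44)) :=
  Lgr Lrot31 (Lpr_gf (f475591 IH) (Lpr_gf (f475988 IH) (Lpr_ft (f802521 IH) (Lpn (LP (LK LD1_c24 LD2_c26 LD3_c44))))))
theorem f802526 : Led Lsl_ct (LP (LK LD1_c30 LD2_c27 LD3_c48)) = (LP (LK LD1_c31 LD2_c19 LD3_c7)) :=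
  Lgr Lrot98 (Lpe (f130062 IH) (Lpe (f130052 IH) (Lpe (f130063 IH) (Lpr_cf (K6.f129586 IH) (Lpe (K35.f107403 IH) (Lpe (f130034 IH) (Lpr_df (f802485 IH) (Lpr_ft (f802521 IH) (Lpe (f802524 IH) (Lpn (LP (LK LD1_c31 LD2_c19 LD3_c7))))))))))))
theorem f802528 : Led Lsl_cf (LP (LK LD1_c30 LD2_c27 LD3_c48)) = (LP (LK LD1_c31 LD2_c19 LD3_c7)) :=
  Lgr Lrot11 (Lpr_ct (f802526 IH) (Lpn (LP (LK LD1_c31 LD2_c19 LD3_c7))))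
theorem f475528 : Led Lsl_dt (LP (LK LD1_c14 LD2_c41 LD3_c41)) = (LP (LK LD1_c24 LD2_c26 LD3_c23)) :=
  Lre_d IH (LK LD1_c14 LD2_c41 LD3_c41) (LK LD1_c24 LD2_c26 LD3_c23) Lrfl Lrfl
theorem f457900 : Led Lsl_at (LP (LK LD1_c24 LD2_c0 LD3_c14)) = (LP (LK LD1_c14 LD2_c22 LD3_c12)) :=
  Lre_a IH (LK LD1_c24 LD2_c0 LD3_c14) (LK LD1_c14 LD2_c22 LD3_c12) Lrfl Lrfl
theorem f475513 : Led Lsl_ft (LP (LK LD1_c14 LD2_c41 LD3_c41)) = (LP (LK LD1_c24 LD2_c0 LD3_c14)) :=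
  Lgr Lrot101 (Lpe (K47.f475512 IH) (Lpr_ff (K34.f475500 IH) (Lpe (f457900 IH) (Lpn (LP (LK LD1_c24 LD2_c0 LD3_c14))))))
theorem f476021 : Led Lsl_gt (LP (LK LD1_c14 LD2_c41 LD3_c41)) = (LP (LK LD1_c24 LD2_c0 LD3_c19)) :=
  Lgr Lrot5 (Lpr_ft (f475513 IH) (Lpr_at (f457900 IH) (Lpe (f457902 IH) (Lpn (LP (LK LD1_c24 LD2_c0 LD3_c19))))))
theorem f802480 : Led Lsl_cf (LP (LK LD1_c14 LD2_c34 LD3_c7)) = (LP (LK LD1_c24 LD2_c0 LD3_c19)) :=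
  Lgr Lrot11 (Lpr_ct (f802448 IH) (Lpn (LP (LK LD1_c24 LD2_c0 LD3_c19))))
theorem f527405 : Led Lsl_ct (LP (LK LD1_c7 LD2_c43 LD3_c39)) = (LP (LK LD1_c14 LD2_c34 LD3_c8)) :=
  Lre_c IH (LK LD1_c7 LD2_c43 LD3_c39) (LK LD1_c14 LD2_c34 LD3_c8) Lrfl Lrfl
theorem f802542 : Led Lsl_gt (LP (LK LD1_c30 LD2_c27 LD3_c48)) = (LP (LK LD1_c30 LD2_c15 LD3_c14)) :=
  Lgr Lrot150 (Lpr_cf (f802528 IH) (Lpr_gf (f475591 IH) (Lpe (f475528 IH) (Lpr_gt (f476021 IH) (Lpe (f802480 IH) (Lpr_gt (f534617 IH) (Lpr_ct (f527405 IH) (Lpe (f527407 IH) (Lpe (f802422 IH) (Lpn (LP (LK LD1_c30 LD2_c15 LD3_c14))))))))))))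
theorem f534294 : Led Lsl_ft (LP (LK LD1_c30 LD2_c27 LD3_c48)) = (LP (LK LD1_c31 LD2_c31 LD3_c8)) :=
  Lgr Lrot54 (Lpe (f130062 IH) (Lpr_ff (f534287 IH) (Lpe (f533989 IH) (Lpn (LP (LK LD1_c31 LD2_c31 LD3_c8))))))
theorem f802544 : Led Lsl_gf (LP (LK LD1_c30 LD2_c28 LD3_c54)) = (LP (LK LD1_c30 LD2_c15 LD3_c14)) :=
  Lgr Lrot76 (Lpr_af (f534330 IH) (Lpe (f534294 IH) (Lpr_gt (f802542 IH) (Lpn (LP (LK LD1_c30 LD2_c15 LD3_c14))))))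
theorem f475647 : Led Lsl_dt (LP (LK LD1_c30 LD2_c28 LD3_c54)) = (LP (LK LD1_c22 LD2_c24 LD3_c28)) :=
  Lre_d IH (LK LD1_c30 LD2_c28 LD3_c54) (LK LD1_c22 LD2_c24 LD3_c28) Lrfl Lrfl
theorem f475455 : Led Lsl_at (LP (LK LD1_c7 LD2_c47 LD3_c3)) = (LP (LK LD1_c14 LD2_c41 LD3_c13)) :=
  Lre_a IH (LK LD1_c7 LD2_c47 LD3_c3) (LK LD1_c14 LD2_c41 LD3_c13) Lrfl Lrfl
theorem f472962 : Led Lsl_gt (LP (LK LD1_c6 LD2_c56 LD3_c59)) = (LP (LK LD1_c13 LD2_c11 LD3_c42)) :=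
  Lre_g IH (LK LD1_c6 LD2_c56 LD3_c59) (LK LD1_c13 LD2_c11 LD3_c42) Lrfl Lrfl
theorem f475465 : Led Lsl_gf (LP (LK LD1_c14 LD2_c41 LD3_c13)) = (LP (LK LD1_c13 LD2_c11 LD3_c42)) :=
  Lgr Lrot76 (Lpe (f475455 IH) (Lpr_ff (K34.f475453 IH) (Lpr_gt (f472962 IH) (Lpn (LP (LK LD1_c13 LD2_c11 LD3_c42))))))
theorem f475473 : Led Lsl_ct (LP (LK LD1_c13 LD2_c11 LD3_c42)) = (LP (LK LD1_c22 LD2_c24 LD3_c33)) :=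
  Lre_c IH (LK LD1_c13 LD2_c11 LD3_c42) (LK LD1_c22 LD2_c24 LD3_c33) Lrfl Lrfl
theorem f803055 : Led Lsl_gt (LP (LK LD1_c22 LD2_c24 LD3_c33)) = (LP (LK LD1_c22 LD2_c0 LD3_c42)) :=
  Lgr Lrot94 (Lpe (f475473 IH) (Lpe (f475465 IH) (Lpr_dt (K34.f458047 IH) (Lpr_gt (K34.f475644 IH) (Lpr_dt (f457901 IH) (Lpe (f475646 IH) (Lpe (f475647 IH) (Lpr_gf (f802544 IH) (Lpe (f780427 IH) (Lpn (LP (LK LD1_c22 LD2_c0 LD3_c42))))))))))))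
theorem f530541 : Led Lsl_bt (LP (LK LD1_c3 LD2_c53 LD3_c30)) = (LP (LK LD1_c7 LD2_c48 LD3_c35)) :=
  Lre_b IH (LK LD1_c3 LD2_c53 LD3_c30) (LK LD1_c7 LD2_c48 LD3_c35) Lrfl Lrfl
theorem f465381 : Led Lsl_gt (LP (LK LD1_c14 LD2_c44 LD3_c13)) = (LP (LK LD1_c7 LD2_c48 LD3_c35)) :=
  Lre_g IH (LK LD1_c14 LD2_c44 LD3_c13) (LK LD1_c7 LD2_c48 LD3_c35) Lrfl Lrfl
theorem f487223 : Led Lsl_bt (LP (LK LD1_c7 LD2_c46 LD3_c46)) = (LP (LK LD1_c6 LD2_c56 LD3_c52)) :=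
  Lgr Lrot35 (Lpr_ff (K48.f487221 IH) (Lpe (K61.f456283 IH) (Lpr_ff (K28.f472820 IH) (Lpn (LP (LK LD1_c6 LD2_c56 LD3_c52))))))
theorem f788181 : Led Lsl_bf (LP (LK LD1_c14 LD2_c44 LD3_c13)) = (LP (LK LD1_c13 LD2_c7 LD3_c44)) :=
  Lgr Lrot156 (Lpr_gt (f465381 IH) (Lpe (f530541 IH) (Lpr_ct (K61.f465265 IH) (Lpr_gt (K61.f788176 IH) (Lpe (K48.f487225 IH) (Lpr_bt (f487223 IH) (Lpr_gt (K28.f472791 IH) (Lpr_ct (K29.f15687 IH) (Lpr_gt (K32.f472816 IH) (Lpe (K32.f476083 IH) (Lpn (LP (LK LD1_c13 LD2_c7 LD3_c44)))))))))))))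
theorem f802551 : Led Lsl_bt (LP (LK LD1_c12 LD2_c51 LD3_c41)) = (LP (LK LD1_c22 LD2_c0 LD3_c38)) :=
  Lre_b IH (LK LD1_c12 LD2_c51 LD3_c41) (LK LD1_c22 LD2_c0 LD3_c38) Lrfl Lrfl
theorem f803067 : Led Lsl_gf (LP (LK LD1_c14 LD2_c44 LD3_c13)) = (LP (LK LD1_c22 LD2_c0 LD3_c38)) :=
  Lgr Lrot124 (Lpr_bf (f788181 IH) (Lpr_ct (K32.f476083 IH) (Lpe (K32.f476081 IH) (Lpe (K28.f15960 IH) (Lpr_bt (K34.f472961 IH) (Lpr_gt (f472962 IH) (Lpr_ct (f475473 IH) (Lpr_gt (f803055 IH) (Lpe (f57280 IH) (Lpr_bt (f802551 IH) (Lpn (LP (LK LD1_c22 LD2_c0 LD3_c38)))))))))))))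
theorem f530637 : Led Lsl_at (LP (LK LD1_c3 LD2_c53 LD3_c29)) = (LP (LK LD1_c7 LD2_c39 LD3_c26)) :=
  Lgr Lrot107 (Lpr_cf (K28.f465233 IH) (Lpe (K41.f465380 IH) (Lpr_cf (K41.f530624 IH) (Lpn (LP (LK LD1_c7 LD2_c39 LD3_c26))))))
theorem f96585 : Led Lsl_dt (LP (LK LD1_c7 LD2_c39 LD3_c26)) = (LP (LK LD1_c14 LD2_c25 LD3_c54)) :=
  Lre_d IH (LK LD1_c7 LD2_c39 LD3_c26) (LK LD1_c14 LD2_c25 LD3_c54) Lrfl Lrfl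
theorem f530639 : Led Lsl_af (LP (LK LD1_c7 LD2_c48 LD3_c35)) = (LP (LK LD1_c14 LD2_c25 LD3_c54)) :=
  Lgr Lrot117 (Lpr_dt (K41.f465376 IH) (Lpr_at (f530637 IH) (Lpr_dt (f96585 IH) (Lpn (LP (LK LD1_c14 LD2_c25 LD3_c54))))))
theorem f803073 : Led Lsl_ff (LP (LK LD1_c14 LD2_c25 LD3_c54)) = (LP (LK LD1_c22 LD2_c0 LD3_c38)) :=
  Lgr Lrot52 (Lpe (f530639 IH) (Lpe (f465381 IH) (Lpr_gf (f803067 IH) (Lpn (LP (LK LD1_c22 LD2_c0 LD3_c38))))))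
theorem f803079 : Led Lsl_ft (LP (LK LD1_c14 LD2_c25 LD3_c54)) = (LP (LK LD1_c22 LD2_c0 LD3_c38)) :=
  Lgr Lrot48 (Lpr_ff (f803073 IH) (Lpn (LP (LK LD1_c22 LD2_c0 LD3_c38))))
theorem f530641 : Led Lsl_at (LP (LK LD1_c7 LD2_c48 LD3_c35)) = (LP (LK LD1_c14 LD2_c25 LD3_c54)) :=
  Lgr Lrot100 (Lpr_af (f530639 IH) (Lpn (LP (LK LD1_c14 LD2_c25 LD3_c54))))
theorem f803081 : Led Lsl_af (LP (LK LD1_c14 LD2_c10 LD3_c42)) = (LP (LK LD1_c22 LD2_c0 LD3_c38)) :=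
  Lgr Lrot45 (Lpe (K41.f530551 IH) (Lpr_at (f530641 IH) (Lpr_ft (f803079 IH) (Lpn (LP (LK LD1_c22 LD2_c0 LD3_c38))))))
theorem f472289 : Led Lsl_bt (LP (LK LD1_c14 LD2_c10 LD3_c42)) = (LP (LK LD1_c7 LD2_c30 LD3_c28)) :=
  Lre_b IH (LK LD1_c14 LD2_c10 LD3_c42) (LK LD1_c7 LD2_c30 LD3_c28) Lrfl Lrfl
theorem f517047 : Led Lsl_bt (LP (LK LD1_c3 LD2_c53 LD3_c27)) = (LP (LK LD1_c7 LD2_c48 LD3_c28)) :=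
  Lre_b IH (LK LD1_c3 LD2_c53 LD3_c27) (LK LD1_c7 LD2_c48 LD3_c28) Lrfl Lrfl
theorem f803083 : Led Lsl_at (LP (LK LD1_c7 LD2_c48 LD3_c28)) = (LP (LK LD1_c12 LD2_c51 LD3_c41)) :=
  Lgr Lrot67 (Lpe (f517047 IH) (Lpr_af (K48.f530557 IH) (Lpe (f472289 IH) (Lpr_af (f803081 IH) (Lpe (f802551 IH) (Lpn (LP (LK LD1_c12 LD2_c51 LD3_c41))))))))
theorem f441890 : Led Lsl_gt (LP (LK LD1_c22 LD2_c0 LD3_c41)) = (LP (LK LD1_c12 LD2_c51 LD3_c41)) :=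
  Lre_g IH (LK LD1_c22 LD2_c0 LD3_c41) (LK LD1_c12 LD2_c51 LD3_c41) Lrfl Lrfl
theorem f802546 : Led Lsl_dt (LP (LK LD1_c30 LD2_c15 LD3_c14)) = (LP (LK LD1_c22 LD2_c0 LD3_c42)) :=
  Lre_d IH (LK LD1_c30 LD2_c15 LD3_c14) (LK LD1_c22 LD2_c0 LD3_c42) Lrfl Lrfl
theorem f57304 : Led Lsl_dt (LP (LK LD1_c6 LD2_c43 LD3_c27)) = (LP (LK LD1_c3 LD2_c19 LD3_c50)) :=
  Lre_d IH (LK LD1_c6 LD2_c43 LD3_c27) (LK LD1_c3 LD2_c19 LD3_c50) Lrfl Lrfl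
theorem f57315 : Led Lsl_gt (LP (LK LD1_c12 LD2_c51 LD3_c45)) = (LP (LK LD1_c6 LD2_c43 LD3_c27)) :=
  Lre_g IH (LK LD1_c12 LD2_c51 LD3_c45) (LK LD1_c6 LD2_c43 LD3_c27) Lrfl Lrfl
theorem f802547 : Led Lsl_ct (LP (LK LD1_c22 LD2_c0 LD3_c48)) = (LP (LK LD1_c12 LD2_c51 LD3_c45)) :=
  Lre_c IH (LK LD1_c22 LD2_c0 LD3_c48) (LK LD1_c12 LD2_c51 LD3_c45) Lrfl Lrfl
theorem f802548 : Led Lsl_gf (LP (LK LD1_c22 LD2_c23 LD3_c7)) = (LP (LK LD1_c22 LD2_c0 LD3_c48)) :=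
  Lgr Lrot144 (Lpr_dt (f130062 IH) (Lpr_gt (f802542 IH) (Lpr_dt (f802546 IH) (Lpe (f57280 IH) (Lpe (f57279 IH) (Lpe (f57278 IH) (Lpe (f57304 IH) (Lpe (f57315 IH) (Lpe (f802547 IH) (Lpn (LP (LK LD1_c22 LD2_c0 LD3_c48))))))))))))
theorem f130055 : Led Lsl_ct (LP (LK LD1_c22 LD2_c23 LD3_c7)) = (LP (LK LD1_c13 LD2_c10 LD3_c29)) :=
  Lre_c IH (LK LD1_c22 LD2_c23 LD3_c7) (LK LD1_c13 LD2_c10 LD3_c29) Lrfl Lrfl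
theorem f535142 : Led Lsl_dt (LP (LK LD1_c7 LD2_c47 LD3_c16)) = (LP (LK LD1_c14 LD2_c41 LD3_c39)) :=
  Lre_d IH (LK LD1_c7 LD2_c47 LD3_c16) (LK LD1_c14 LD2_c41 LD3_c39) Lrfl Lrfl
theorem f780054 : Led Lsl_at (LP (LK LD1_c6 LD2_c43 LD3_c28)) = v19501 :=
  Lgr Lrot66 (Lpe (f57277 IH) (Lpe (f57459 IH) (Lpr_ff (f780052 IH) (Lpn v19501))))
theorem f780063 : Led Lsl_gt (LP (LK LD1_c6 LD2_c43 LD3_c25)) = v19501 :=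
  Lgr Lrot46 (Lpe (f57278 IH) (Lpr_ft (f57277 IH) (Lpr_at (f780054 IH) (Lpn v19501))))
theorem f534810 : Led Lsl_gf (LP (LK LD1_c7 LD2_c43 LD3_c45)) = (LP (LK LD1_c14 LD2_c34 LD3_c4)) :=
  Lgr Lrot145 (Lpe (K35.f457586 IH) (Lpr_et (K35.f457609 IH) (Lpr_gt (K37.f457610 IH) (Lpr_dt (K39.f457611 IH) (Lpe (f534030 IH) (Lpe (f458035 IH) (Lpr_et (f458037 IH) (Lpr_gt (K34.f475644 IH) (Lpr_ef (K46.f534803 IH) (Lpr_dt (f534597 IH) (Lpn (LP (LK LD1_c14 LD2_c34 LD3_c4)))))))))))))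
theorem f457496 : Led Lsl_df (LP (LK LD1_c13 LD2_c22 LD3_c38)) = (LP (LK LD1_c7 LD2_c43 LD3_c45)) :=
  Lgr Lrot12 (Lpr_bt (K35.f457494 IH) (Lpr_dt (K34.f457490 IH) (Lpr_bt (K35.f457495 IH) (Lpn (LP (LK LD1_c7 LD2_c43 LD3_c45))))))
theorem f457601 : Led Lsl_ct (LP (LK LD1_c7 LD2_c3 LD3_c23)) = (LP (LK LD1_c13 LD2_c22 LD3_c38)) :=
  Lre_c IH (LK LD1_c7 LD2_c3 LD3_c23) (LK LD1_c13 LD2_c22 LD3_c38) Lrfl Lrfl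
def v20722 : LQ := Led Lsl_dt (LP (LK LD1_c7 LD2_c3 LD3_c23))
theorem f789477 : Led Lsl_dt (LP (LK LD1_c7 LD2_c3 LD3_c23)) = v20722 :=
  Lrfl
theorem f789479 : Led Lsl_df (LP (LK LD1_c7 LD2_c3 LD3_c23)) = v20722 :=
  Lgr Lrot38 (Lpr_dt (f789477 IH) (Lpn v20722))
theorem f802447 : Led Lsl_gt (LP (LK LD1_c14 LD2_c41 LD3_c39)) = v20722 :=
  Lgr Lrot49 (Lpe (f535142 IH) (Lpq (f802048 IH) (Lpe (f780063 IH) (Lpe (f64430 IH) (Lpr_gt (f802443 IH) (Lpr_dt (f534597 IH) (Lpe (f534810 IH) (Lpe (f457496 IH) (Lpe (f457601 IH) (Lpr_df (f789479 IH) (Lpn v20722)))))))))))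
theorem f802550 : Led Lsl_ct (LP (LK LD1_c12 LD2_c51 LD3_c45)) = (LP (LK LD1_c22 LD2_c0 LD3_c48)) :=
  Lre_c IH (LK LD1_c12 LD2_c51 LD3_c45) (LK LD1_c22 LD2_c0 LD3_c48) Lrfl Lrfl
theorem f802559 : v20722 = (LP (LK LD1_c12 LD2_c51 LD3_c45)) :=
  (Llr Lrot9 (Lpe (f802447 IH) (Lpe (f535142 IH) (Lpq (f802048 IH) (Lpe (f780057 IH) (Lpqs (f802077 IH) (Lpe (f666692 IH) (Lpe (K47.f534614 IH) (Lpe (K6.f129586 IH) (Lpe (K46.f130046 IH) (Lpe (f130055 IH) (Lpr_gf (f802548 IH) (Lpe (f802550 IH) (Lpn (LP (LK LD1_c12 LD2_c51 LD3_c45)))))))))))))))).symm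
theorem f129768 : Led Lsl_gt (LP (LK LD1_c7 LD2_c3 LD3_c23)) = (LP (LK LD1_c13 LD2_c22 LD3_c53)) :=
  Lre_g IH (LK LD1_c7 LD2_c3 LD3_c23) (LK LD1_c13 LD2_c22 LD3_c53) Lrfl Lrfl
def v20726 : LQ := Led Lsl_gf (LP (LK LD1_c7 LD2_c3 LD3_c33))
theorem f789514 : Led Lsl_gf (LP (LK LD1_c7 LD2_c3 LD3_c33)) = v20726 :=
  Lrfl
theorem f472247 : Led Lsl_ct (LP (LK LD1_c13 LD2_c22 LD3_c41)) = (LP (LK LD1_c7 LD2_c3 LD3_c33)) :=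
  Lre_c IH (LK LD1_c13 LD2_c22 LD3_c41) (LK LD1_c7 LD2_c3 LD3_c33) Lrfl Lrfl
theorem f456319 : Led Lsl_dt (LP (LK LD1_c7 LD2_c24 LD3_c53)) = (LP (LK LD1_c14 LD2_c1 LD3_c31)) :=
  Lre_d IH (LK LD1_c7 LD2_c24 LD3_c53) (LK LD1_c14 LD2_c1 LD3_c31) Lrfl Lrfl
theorem f456320 : Led Lsl_bf (LP (LK LD1_c13 LD2_c52 LD3_c18)) = (LP (LK LD1_c14 LD2_c1 LD3_c31)) :=
  Lgr Lrot93 (Lpr_dt (K28.f456318 IH) (Lpr_bt (K29.f456304 IH) (Lpr_dt (f456319 IH) (Lpn (LP (LK LD1_c14 LD2_c1 LD3_c31))))))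
theorem f456345 : Led Lsl_bt (LP (LK LD1_c13 LD2_c52 LD3_c18)) = (LP (LK LD1_c14 LD2_c1 LD3_c31)) :=
  Lgr Lrot127 (Lpr_bf (f456320 IH) (Lpn (LP (LK LD1_c14 LD2_c1 LD3_c31))))
theorem f456357 : Led Lsl_et (LP (LK LD1_c7 LD2_c19 LD3_c60)) = (LP (LK LD1_c13 LD2_c52 LD3_c18)) :=
  Lre_e IH (LK LD1_c7 LD2_c19 LD3_c60) (LK LD1_c13 LD2_c52 LD3_c18) Lrfl Lrfl
theorem f456359 : Led Lsl_bf (LP (LK LD1_c7 LD2_c19 LD3_c60)) = (LP (LK LD1_c7 LD2_c24 LD3_c54)) :=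
  Lgr Lrot96 (Lpr_et (f456357 IH) (Lpr_bt (f456345 IH) (Lpr_et (K48.f456358 IH) (Lpn (LP (LK LD1_c7 LD2_c24 LD3_c54))))))
theorem f487216 : Led Lsl_bf (LP (LK LD1_c7 LD2_c46 LD3_c46)) = (LP (LK LD1_c6 LD2_c56 LD3_c52)) :=
  Lgr Lrot61 (Lpr_ft (K48.f487214 IH) (Lpe (f456359 IH) (Lpr_ft (K28.f472814 IH) (Lpn (LP (LK LD1_c6 LD2_c56 LD3_c52))))))
theorem f493599 : Led Lsl_bt (LP (LK LD1_c7 LD2_c2 LD3_c37)) = (LP (LK LD1_c7 LD2_c16 LD3_c34)) :=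
  Lgr Lrot95 (Lpr_df (K61.f493563 IH) (Lpr_bf (f487216 IH) (Lpe (K28.f472812 IH) (Lpn (LP (LK LD1_c7 LD2_c16 LD3_c34))))))
theorem f129775 : Led Lsl_cf (LP (LK LD1_c3 LD2_c30 LD3_c47)) = (LP (LK LD1_c7 LD2_c2 LD3_c37)) :=
  Lgr Lrot166 (Lpr_gt (K30.f129772 IH) (Lpr_dt (K30.f129670 IH) (Lpr_gt (K47.f129753 IH) (Lpr_dt (K61.f64942 IH) (Lpr_ct (K48.f17282 IH) (Lpe (K46.f64024 IH) (Lpr_gf (K1.f64932 IH) (Lpe (K1.f64931 IH) (Lpe (K61.f64943 IH) (Lpn (LP (LK LD1_c7 LD2_c2 LD3_c37))))))))))))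
theorem f129767 : Led Lsl_bt (LP (LK LD1_c3 LD2_c30 LD3_c43)) = (LP (LK LD1_c7 LD2_c3 LD3_c23)) :=
  Lre_b IH (LK LD1_c3 LD2_c30 LD3_c43) (LK LD1_c7 LD2_c3 LD3_c23) Lrfl Lrfl
theorem f789515 : Led Lsl_ct (LP (LK LD1_c13 LD2_c22 LD3_c53)) = v20726 :=
  Lgr Lrot91 (Lpe (f129768 IH) (Lpe (f129767 IH) (Lpr_ct (K34.f129760 IH) (Lpe (K30.f129772 IH) (Lpr_cf (f129775 IH) (Lpr_bt (f493599 IH) (Lpe (K30.f479436 IH) (Lpe (K49.f472238 IH) (Lpr_ct (f472247 IH) (Lpr_gf (f789514 IH) (Lpn v20726)))))))))))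
theorem f57297 : Led Lsl_ct (LP (LK LD1_c6 LD2_c43 LD3_c27)) = (LP (LK LD1_c12 LD2_c51 LD3_c46)) :=
  Lre_c IH (LK LD1_c6 LD2_c43 LD3_c27) (LK LD1_c12 LD2_c51 LD3_c46) Lrfl Lrfl
theorem f57298 : Led Lsl_gt (LP (LK LD1_c12 LD2_c51 LD3_c46)) = (LP (LK LD1_c22 LD2_c0 LD3_c50)) :=
  Lre_g IH (LK LD1_c12 LD2_c51 LD3_c46) (LK LD1_c22 LD2_c0 LD3_c50) Lrfl Lrfl
theorem f802583 : Led Lsl_cf (LP (LK LD1_c13 LD2_c7 LD3_c30)) = (LP (LK LD1_c22 LD2_c0 LD3_c50)) :=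
  Lgr Lrot175 (Lpe (K49.f472240 IH) (Lpe (K49.f472250 IH) (Lpr_gf (f789514 IH) (Lpe (f789515 IH) (Lpe (f129768 IH) (Lpr_dt (f789477 IH) (Lpqs (f802559 IH) (Lpr_gt (f57315 IH) (Lpr_ct (f57297 IH) (Lpr_gt (f57298 IH) (Lpn (LP (LK LD1_c22 LD2_c0 LD3_c50)))))))))))))
theorem f802589 : Led Lsl_ct (LP (LK LD1_c13 LD2_c7 LD3_c30)) = (LP (LK LD1_c22 LD2_c0 LD3_c50)) :=
  Lgr Lrot59 (Lpr_cf (f802583 IH) (Lpn (LP (LK LD1_c22 LD2_c0 LD3_c50))))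
theorem f533433 : Led Lsl_gf (LP (LK LD1_c3 LD2_c52 LD3_c36)) = (LP (LK LD1_c7 LD2_c37 LD3_c25)) :=
  Lgr Lrot126 (Lpe (K34.f458072 IH) (Lpr_bt (K49.f459904 IH) (Lpr_gt (K24.f63035 IH) (Lpe (K29.f461901 IH) (Lpr_gt (K28.f463735 IH) (Lpe (K28.f463732 IH) (Lpr_bt (K34.f463739 IH) (Lpr_gt (K34.f533427 IH) (Lpr_bf (K5.f116684 IH) (Lpe (K49.f144938 IH) (Lpn (LP (LK LD1_c7 LD2_c37 LD3_c25)))))))))))))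
theorem f458066 : Led Lsl_ct (LP (LK LD1_c24 LD2_c26 LD3_c19)) = (LP (LK LD1_c14 LD2_c41 LD3_c39)) :=
  Lre_c IH (LK LD1_c24 LD2_c26 LD3_c19) (LK LD1_c14 LD2_c41 LD3_c39) Lrfl Lrfl
theorem f802643 : Led Lsl_gf (LP (LK LD1_c24 LD2_c26 LD3_c19)) = (LP (LK LD1_c22 LD2_c0 LD3_c50)) :=
  Lgr Lrot104 (Lpr_ct (f458066 IH) (Lpe (f535142 IH) (Lpe (f458061 IH) (Lpe (K41.f457989 IH) (Lpe (K34.f457988 IH) (Lpr_gf (f533433 IH) (Lpe (f129918 IH) (Lpe (K49.f676020 IH) (Lpr_ct (f802589 IH) (Lpn (LP (LK LD1_c22 LD2_c0 LD3_c50))))))))))))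
theorem f472244 : Led Lsl_at (LP (LK LD1_c22 LD2_c19 LD3_c29)) = (LP (LK LD1_c13 LD2_c7 LD3_c30)) :=
  Lre_a IH (LK LD1_c22 LD2_c19 LD3_c29) (LK LD1_c13 LD2_c7 LD3_c30) Lrfl Lrfl
theorem f513090 : Led Lsl_at (LP (LK LD1_c22 LD2_c24 LD3_c56)) = (LP (LK LD1_c13 LD2_c11 LD3_c57)) :=
  Lre_a IH (LK LD1_c22 LD2_c24 LD3_c56) (LK LD1_c13 LD2_c11 LD3_c57) Lrfl Lrfl
theorem f513230 : Led Lsl_ct (LP (LK LD1_c13 LD2_c49 LD3_c33)) = (LP (LK LD1_c22 LD2_c24 LD3_c56)) :=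
  Lgr Lrot111 (Lpr_af (K33.f513223 IH) (Lpe (K33.f513088 IH) (Lpe (f513090 IH) (Lpn (LP (LK LD1_c22 LD2_c24 LD3_c56))))))
theorem f472258 : Led Lsl_at (LP (LK LD1_c7 LD2_c3 LD3_c33)) = (LP (LK LD1_c13 LD2_c23 LD3_c11)) :=
  Lre_a IH (LK LD1_c7 LD2_c3 LD3_c33) (LK LD1_c13 LD2_c23 LD3_c11) Lrfl Lrfl
theorem f475178 : Led Lsl_bt (LP (LK LD1_c13 LD2_c17 LD3_c15)) = (LP (LK LD1_c7 LD2_c0 LD3_c11)) :=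
  Lre_b IH (LK LD1_c13 LD2_c17 LD3_c15) (LK LD1_c7 LD2_c0 LD3_c11) Lrfl Lrfl
theorem f512586 : Led Lsl_bt (LP (LK LD1_c13 LD2_c23 LD3_c11)) = (LP (LK LD1_c22 LD2_c32 LD3_c60)) :=
  Lgr Lrot62 (Lpe (f472258 IH) (Lpe (K35.f450708 IH) (Lpr_af (K33.f512582 IH) (Lpe (f475178 IH) (Lpe (K34.f475175 IH) (Lpn (LP (LK LD1_c22 LD2_c32 LD3_c60))))))))
theorem f472257 : Led Lsl_ct (LP (LK LD1_c22 LD2_c40 LD3_c16)) = (LP (LK LD1_c13 LD2_c23 LD3_c11)) :=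
  Lre_c IH (LK LD1_c22 LD2_c40 LD3_c16) (LK LD1_c13 LD2_c23 LD3_c11) Lrfl Lrfl
theorem f514208 : Led Lsl_bt (LP (LK LD1_c22 LD2_c24 LD3_c56)) = (LP (LK LD1_c22 LD2_c40 LD3_c16)) :=
  Lgr Lrot128 (Lpe (f513230 IH) (Lpe (K33.f513232 IH) (Lpr_cf (K33.f513244 IH) (Lpe (f512586 IH) (Lpe (f472257 IH) (Lpn (LP (LK LD1_c22 LD2_c40 LD3_c16))))))))
theorem f513239 : Led Lsl_dt (LP (LK LD1_c13 LD2_c11 LD3_c55)) = (LP (LK LD1_c22 LD2_c24 LD3_c56)) :=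
  Lre_d IH (LK LD1_c13 LD2_c11 LD3_c55) (LK LD1_c22 LD2_c24 LD3_c56) Lrfl Lrfl
theorem f472243 : Led Lsl_at (LP (LK LD1_c13 LD2_c22 LD3_c41)) = (LP (LK LD1_c22 LD2_c40 LD3_c16)) :=
  Lre_a IH (LK LD1_c13 LD2_c22 LD3_c41) (LK LD1_c22 LD2_c40 LD3_c16) Lrfl Lrfl
theorem f472245 : Led Lsl_dt (LP (LK LD1_c22 LD2_c40 LD3_c16)) = (LP (LK LD1_c22 LD2_c19 LD3_c29)) :=
  Lgr Lrot44 (Lpe (f472243 IH) (Lpr_df (K49.f472240 IH) (Lpe (f472244 IH) (Lpn (LP (LK LD1_c22 LD2_c19 LD3_c29))))))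
theorem f514212 : Led Lsl_bf (LP (LK LD1_c13 LD2_c11 LD3_c55)) = (LP (LK LD1_c22 LD2_c19 LD3_c29)) :=
  Lgr Lrot93 (Lpr_dt (f513239 IH) (Lpr_bt (f514208 IH) (Lpr_dt (f472245 IH) (Lpn (LP (LK LD1_c22 LD2_c19 LD3_c29))))))
theorem f513366 : Led Lsl_ft (LP (LK LD1_c22 LD2_c24 LD3_c56)) = (LP (LK LD1_c22 LD2_c36 LD3_c47)) :=
  Lgr Lrot4 (Lpe (f513230 IH) (Lpe (K48.f513358 IH) (Lpr_cf (K43.f513360 IH) (Lpn (LP (LK LD1_c22 LD2_c36 LD3_c47))))))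
theorem f513370 : Led Lsl_ff (LP (LK LD1_c22 LD2_c24 LD3_c56)) = (LP (LK LD1_c22 LD2_c36 LD3_c47)) :=
  Lgr Lrot3 (Lpr_ft (f513366 IH) (Lpn (LP (LK LD1_c22 LD2_c36 LD3_c47))))
theorem f513235 : Led Lsl_dt (LP (LK LD1_c22 LD2_c24 LD3_c56)) = (LP (LK LD1_c13 LD2_c11 LD3_c55)) :=
  Lre_d IH (LK LD1_c22 LD2_c24 LD3_c56) (LK LD1_c13 LD2_c11 LD3_c55) Lrfl Lrfl
theorem f97631 : Led Lsl_at (LP (LK LD1_c22 LD2_c36 LD3_c47)) = (LP (LK LD1_c13 LD2_c20 LD3_c19)) :=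
  Lre_a IH (LK LD1_c22 LD2_c36 LD3_c47) (LK LD1_c13 LD2_c20 LD3_c19) Lrfl Lrfl
theorem f97632 : Led Lsl_at (LP (LK LD1_c13 LD2_c7 LD3_c33)) = (LP (LK LD1_c22 LD2_c19 LD3_c31)) :=
  Lre_a IH (LK LD1_c13 LD2_c7 LD3_c33) (LK LD1_c22 LD2_c19 LD3_c31) Lrfl Lrfl
theorem f97633 : Led Lsl_df (LP (LK LD1_c22 LD2_c36 LD3_c47)) = (LP (LK LD1_c22 LD2_c19 LD3_c31)) :=
  Lgr Lrot18 (Lpr_at (f97631 IH) (Lpr_dt (K41.f97627 IH) (Lpr_at (f97632 IH) (Lpn (LP (LK LD1_c22 LD2_c19 LD3_c31))))))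
theorem f513372 : Led Lsl_ft (LP (LK LD1_c13 LD2_c11 LD3_c55)) = (LP (LK LD1_c22 LD2_c19 LD3_c31)) :=
  Lgr Lrot54 (Lpe (f513235 IH) (Lpr_ff (f513370 IH) (Lpr_df (f97633 IH) (Lpn (LP (LK LD1_c22 LD2_c19 LD3_c31))))))
theorem f512219 : Led Lsl_at (LP (LK LD1_c13 LD2_c12 LD3_c4)) = (LP (LK LD1_c6 LD2_c57 LD3_c6)) :=
  Lre_a IH (LK LD1_c13 LD2_c12 LD3_c4) (LK LD1_c6 LD2_c57 LD3_c6) Lrfl Lrfl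
theorem f97586 : Led Lsl_bt (LP (LK LD1_c6 LD2_c54 LD3_c27)) = (LP (LK LD1_c13 LD2_c7 LD3_c33)) :=
  Lre_b IH (LK LD1_c6 LD2_c54 LD3_c27) (LK LD1_c13 LD2_c7 LD3_c33) Lrfl Lrfl
theorem f512220 : Led Lsl_bf (LP (LK LD1_c13 LD2_c12 LD3_c4)) = (LP (LK LD1_c22 LD2_c19 LD3_c31)) :=
  Lgr Lrot81 (Lpr_at (f512219 IH) (Lpr_bt (f15465 IH) (Lpr_at (K33.f512214 IH) (Lpr_bt (f97586 IH) (Lpr_at (f97632 IH) (Lpn (LP (LK LD1_c22 LD2_c19 LD3_c31))))))))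
theorem f514214 : Led Lsl_ft (LP (LK LD1_c13 LD2_c12 LD3_c4)) = (LP (LK LD1_c22 LD2_c19 LD3_c29)) :=
  Lgr Lrot75 (Lpr_bf (f512220 IH) (Lpe (f513372 IH) (Lpr_bf (f514212 IH) (Lpn (LP (LK LD1_c22 LD2_c19 LD3_c29))))))
theorem f116750 : Led Lsl_ct (LP (LK LD1_c14 LD2_c23 LD3_c7)) = (LP (LK LD1_c24 LD2_c1 LD3_c31)) :=
  Lre_c IH (LK LD1_c14 LD2_c23 LD3_c7) (LK LD1_c24 LD2_c1 LD3_c31) Lrfl Lrfl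
theorem f116751 : Led Lsl_dt (LP (LK LD1_c24 LD2_c1 LD3_c31)) = (LP (LK LD1_c31 LD2_c19 LD3_c45)) :=
  Lre_d IH (LK LD1_c24 LD2_c1 LD3_c31) (LK LD1_c31 LD2_c19 LD3_c45) Lrfl Lrfl
theorem f802591 : Led Lsl_dt (LP (LK LD1_c30 LD2_c15 LD3_c28)) = (LP (LK LD1_c22 LD2_c0 LD3_c50)) :=
  Lre_d IH (LK LD1_c30 LD2_c15 LD3_c28) (LK LD1_c22 LD2_c0 LD3_c50) Lrfl Lrfl
theorem f802594 : Led Lsl_ct (LP (LK LD1_c31 LD2_c19 LD3_c45)) = (LP (LK LD1_c30 LD2_c15 LD3_c28)) :=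
  Lgr Lrot53 (Lpe (f116751 IH) (Lpe (f116750 IH) (Lpr_df (f116731 IH) (Lpe (f801972 IH) (Lpe (f514223 IH) (Lpr_ft (f514214 IH) (Lpr_at (f472244 IH) (Lpr_cf (f802583 IH) (Lpe (f802591 IH) (Lpn (LP (LK LD1_c30 LD2_c15 LD3_c28))))))))))))
theorem f802625 : Led Lsl_cf (LP (LK LD1_c31 LD2_c19 LD3_c45)) = (LP (LK LD1_c30 LD2_c15 LD3_c28)) :=
  Lgr Lrot11 (Lpr_ct (f802594 IH) (Lpn (LP (LK LD1_c30 LD2_c15 LD3_c28))))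
theorem f116757 : Led Lsl_dt (LP (LK LD1_c31 LD2_c19 LD3_c45)) = (LP (LK LD1_c24 LD2_c1 LD3_c31)) :=
  Lre_d IH (LK LD1_c31 LD2_c19 LD3_c45) (LK LD1_c24 LD2_c1 LD3_c31) Lrfl Lrfl
theorem f116758 : Led Lsl_ct (LP (LK LD1_c24 LD2_c1 LD3_c31)) = (LP (LK LD1_c14 LD2_c23 LD3_c7)) :=
  Lre_c IH (LK LD1_c24 LD2_c1 LD3_c31) (LK LD1_c14 LD2_c23 LD3_c7) Lrfl Lrfl
theorem f157452 : Led Lsl_ct (LP (LK LD1_c17 LD2_c17 LD3_c19)) = (LP (LK LD1_c9 LD2_c21 LD3_c19)) :=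
  Lre_c IH (LK LD1_c17 LD2_c17 LD3_c19) (LK LD1_c9 LD2_c21 LD3_c19) Lrfl Lrfl
theorem f116747 : Led Lsl_et (LP (LK LD1_c9 LD2_c21 LD3_c19)) = (LP (LK LD1_c17 LD2_c17 LD3_c21)) :=
  Lre_e IH (LK LD1_c9 LD2_c21 LD3_c19) (LK LD1_c17 LD2_c17 LD3_c21) Lrfl Lrfl
theorem f801968 : Led Lsl_cf (LP (LK LD1_c22 LD2_c25 LD3_c17)) = (LP (LK LD1_c17 LD2_c17 LD3_c21)) :=
  Lgr Lrot39 (Lpr_et (f801962 IH) (Lpr_ct (f157452 IH) (Lpr_et (f116747 IH) (Lpn (LP (LK LD1_c17 LD2_c17 LD3_c21))))))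
theorem f57295 : Led Lsl_dt (LP (LK LD1_c22 LD2_c0 LD3_c53)) = (LP (LK LD1_c12 LD2_c51 LD3_c46)) :=
  Lre_d IH (LK LD1_c22 LD2_c0 LD3_c53) (LK LD1_c12 LD2_c51 LD3_c46) Lrfl Lrfl
theorem f802596 : Led Lsl_gf (LP (LK LD1_c24 LD2_c25 LD3_c52)) = (LP (LK LD1_c22 LD2_c0 LD3_c53)) :=
  Lgr Lrot147 (Lpr_ct (K34.f475483 IH) (Lpr_gt (K49.f475584 IH) (Lpr_ct (f534283 IH) (Lpe (K49.f534280 IH) (Lpe (K49.f473952 IH) (Lpe (f676024 IH) (Lpr_cf (f802583 IH) (Lpe (f57298 IH) (Lpe (f57295 IH) (Lpn (LP (LK LD1_c22 LD2_c0 LD3_c53))))))))))))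
theorem f676022 : Led Lsl_gt (LP (LK LD1_c13 LD2_c12 LD3_c4)) = (LP (LK LD1_c14 LD2_c22 LD3_c22)) :=
  Lgr Lrot5 (Lpr_ft (f514214 IH) (Lpr_at (f472244 IH) (Lpr_gf (K49.f676020 IH) (Lpn (LP (LK LD1_c14 LD2_c22 LD3_c22))))))
theorem f64422 : Led Lsl_dt (LP (LK LD1_c12 LD2_c51 LD3_c46)) = (LP (LK LD1_c22 LD2_c0 LD3_c53)) :=
  Lre_d IH (LK LD1_c12 LD2_c51 LD3_c46) (LK LD1_c22 LD2_c0 LD3_c53) Lrfl Lrfl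
theorem f57300 : Led Lsl_gt (LP (LK LD1_c22 LD2_c0 LD3_c51)) = (LP (LK LD1_c12 LD2_c51 LD3_c46)) :=
  Lre_g IH (LK LD1_c22 LD2_c0 LD3_c51) (LK LD1_c12 LD2_c51 LD3_c46) Lrfl Lrfl
theorem f802598 : Led Lsl_ct (LP (LK LD1_c13 LD2_c12 LD3_c4)) = (LP (LK LD1_c22 LD2_c0 LD3_c51)) :=
  Lgr Lrot8 (Lpr_gt (f676022 IH) (Lpr_dt (f129918 IH) (Lpe (f533433 IH) (Lpr_dt (K34.f458051 IH) (Lpe (K34.f475555 IH) (Lpe (K34.f475556 IH) (Lpr_gf (f802596 IH) (Lpe (f64422 IH) (Lpe (f57300 IH) (Lpn (LP (LK LD1_c22 LD2_c0 LD3_c51))))))))))))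
theorem f802600 : Led Lsl_cf (LP (LK LD1_c13 LD2_c12 LD3_c4)) = (LP (LK LD1_c22 LD2_c0 LD3_c51)) :=
  Lgr Lrot166 (Lpr_gt (f676022 IH) (Lpr_dt (f129918 IH) (Lpe (f533433 IH) (Lpr_dt (K34.f458051 IH) (Lpr_ct (K34.f475458 IH) (Lpe (K34.f475556 IH) (Lpr_gf (f802596 IH) (Lpe (f64422 IH) (Lpe (f57300 IH) (Lpn (LP (LK LD1_c22 LD2_c0 LD3_c51))))))))))))
theorem f15466 : Led Lsl_ct (LP (LK LD1_c6 LD2_c57 LD3_c6)) = (LP (LK LD1_c13 LD2_c12 LD3_c5)) :=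
  Lre_c IH (LK LD1_c6 LD2_c57 LD3_c6) (LK LD1_c13 LD2_c12 LD3_c5) Lrfl Lrfl
theorem f802607 : Led Lsl_at (LP (LK LD1_c13 LD2_c12 LD3_c5)) = (LP (LK LD1_c22 LD2_c0 LD3_c51)) :=
  Lgr Lrot107 (Lpe (f15466 IH) (Lpe (f512219 IH) (Lpr_cf (f802600 IH) (Lpn (LP (LK LD1_c22 LD2_c0 LD3_c51))))))
theorem f802627 : Led Lsl_dt (LP (LK LD1_c22 LD2_c0 LD3_c50)) = (LP (LK LD1_c30 LD2_c15 LD3_c28)) :=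
  Lre_d IH (LK LD1_c22 LD2_c0 LD3_c50) (LK LD1_c30 LD2_c15 LD3_c28) Lrfl Lrfl
theorem f802632 : Led Lsl_ff (LP (LK LD1_c13 LD2_c12 LD3_c5)) = (LP (LK LD1_c22 LD2_c0 LD3_c50)) :=
  Lgr Lrot103 (Lpr_at (f802607 IH) (Lpe (f802598 IH) (Lpe (f514217 IH) (Lpr_cf (f801968 IH) (Lpe (f116752 IH) (Lpe (f116758 IH) (Lpe (f116757 IH) (Lpr_cf (f802625 IH) (Lpe (f802627 IH) (Lpn (LP (LK LD1_c22 LD2_c0 LD3_c50))))))))))))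
theorem f802672 : Led Lsl_gt (LP (LK LD1_c24 LD2_c26 LD3_c19)) = (LP (LK LD1_c22 LD2_c0 LD3_c51)) :=
  Lgr Lrot46 (Lpr_gf (f802643 IH) (Lpe (f802632 IH) (Lpr_at (f802607 IH) (Lpn (LP (LK LD1_c22 LD2_c0 LD3_c51))))))
theorem f64426 : Led Lsl_at (LP (LK LD1_c22 LD2_c0 LD3_c2)) = (LP (LK LD1_c12 LD2_c51 LD3_c46)) :=
  Lre_a IH (LK LD1_c22 LD2_c0 LD3_c2) (LK LD1_c12 LD2_c51 LD3_c46) Lrfl Lrfl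
theorem f802675 : Led Lsl_ft (LP (LK LD1_c24 LD2_c26 LD3_c19)) = (LP (LK LD1_c22 LD2_c0 LD3_c2)) :=
  Lgr Lrot2 (Lpr_gt (f802672 IH) (Lpr_gt (f57300 IH) (Lpe (f64426 IH) (Lpn (LP (LK LD1_c22 LD2_c0 LD3_c2))))))
theorem f802678 : Led Lsl_ff (LP (LK LD1_c24 LD2_c26 LD3_c19)) = (LP (LK LD1_c22 LD2_c0 LD3_c2)) :=
  Lgr Lrot3 (Lpr_ft (f802675 IH) (Lpn (LP (LK LD1_c22 LD2_c0 LD3_c2))))
theorem f437697 : Led Lsl_at (LP (LK LD1_c12 LD2_c51 LD3_c46)) = (LP (LK LD1_c22 LD2_c0 LD3_c2)) :=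
  Lre_a IH (LK LD1_c12 LD2_c51 LD3_c46) (LK LD1_c22 LD2_c0 LD3_c2) Lrfl Lrfl
theorem f437698 : Led Lsl_ft (LP (LK LD1_c22 LD2_c0 LD3_c54)) = (LP (LK LD1_c12 LD2_c51 LD3_c46)) :=
  Lre_f IH (LK LD1_c22 LD2_c0 LD3_c54) (LK LD1_c12 LD2_c51 LD3_c46) Lrfl Lrfl
theorem f802680 : Led Lsl_at (LP (LK LD1_c24 LD2_c26 LD3_c19)) = (LP (LK LD1_c22 LD2_c0 LD3_c54)) :=
  Lgr Lrot66 (Lpr_ff (f802678 IH) (Lpe (f437697 IH) (Lpe (f437698 IH) (Lpn (LP (LK LD1_c22 LD2_c0 LD3_c54))))))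
theorem f458067 : Led Lsl_ct (LP (LK LD1_c14 LD2_c41 LD3_c39)) = (LP (LK LD1_c24 LD2_c26 LD3_c19)) :=
  Lre_c IH (LK LD1_c14 LD2_c41 LD3_c39) (LK LD1_c24 LD2_c26 LD3_c19) Lrfl Lrfl
theorem f145169 : Led Lsl_ct (LP (LK LD1_c22 LD2_c0 LD3_c54)) = (LP (LK LD1_c12 LD2_c51 LD3_c47)) :=
  Lre_c IH (LK LD1_c22 LD2_c0 LD3_c54) (LK LD1_c12 LD2_c51 LD3_c47) Lrfl Lrfl
theorem f802719 : Led Lsl_af (LP (LK LD1_c14 LD2_c41 LD3_c39)) = (LP (LK LD1_c12 LD2_c51 LD3_c47)) :=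
  Lgr Lrot68 (Lpr_ct (f458067 IH) (Lpr_at (f802680 IH) (Lpr_ct (f145169 IH) (Lpn (LP (LK LD1_c12 LD2_c51 LD3_c47))))))
theorem f802721 : Led Lsl_at (LP (LK LD1_c14 LD2_c41 LD3_c39)) = (LP (LK LD1_c12 LD2_c51 LD3_c47)) :=
  Lgr Lrot100 (Lpr_af (f802719 IH) (Lpn (LP (LK LD1_c12 LD2_c51 LD3_c47))))
theorem f24181 : Led Lsl_ct (LP (LK LD1_c11 LD2_c30 LD3_c11)) = (LP (LK LD1_c5 LD2_c51 LD3_c24)) :=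
  Lre_c IH (LK LD1_c11 LD2_c30 LD3_c11) (LK LD1_c5 LD2_c51 LD3_c24) Lrfl Lrfl
theorem f24169 : Led Lsl_gt (LP (LK LD1_c11 LD2_c30 LD3_c13)) = (LP (LK LD1_c5 LD2_c51 LD3_c24)) :=
  Lre_g IH (LK LD1_c11 LD2_c30 LD3_c13) (LK LD1_c5 LD2_c51 LD3_c24) Lrfl Lrfl
theorem f468362 : Led Lsl_ct (LP (LK LD1_c13 LD2_c16 LD3_c31)) = (LP (LK LD1_c14 LD2_c12 LD3_c34)) :=
  Lgr Lrot59 (Lpr_cf (K39.f468360 IH) (Lpn (LP (LK LD1_c14 LD2_c12 LD3_c34))))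
def v20713 : LQ := Led Lsl_ct (LP (LK LD1_c7 LD2_c3 LD3_c3))
theorem f789345 : Led Lsl_ct (LP (LK LD1_c7 LD2_c3 LD3_c3)) = v20713 :=
  Lrfl
theorem f18942 : Led Lsl_bt (LP (LK LD1_c7 LD2_c3 LD3_c3)) = (LP (LK LD1_c3 LD2_c30 LD3_c33)) :=
  Lre_b IH (LK LD1_c7 LD2_c3 LD3_c3) (LK LD1_c3 LD2_c30 LD3_c33) Lrfl Lrfl
theorem f656337 : Led Lsl_ft (LP (LK LD1_c13 LD2_c14 LD3_c56)) = (LP (LK LD1_c7 LD2_c3 LD3_c3)) :=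
  Lgr Lrot75 (Lpe (K28.f63637 IH) (Lpr_ff (K48.f656335 IH) (Lpe (f18942 IH) (Lpn (LP (LK LD1_c7 LD2_c3 LD3_c3))))))
theorem f789348 : Led Lsl_ff (LP (LK LD1_c7 LD2_c4 LD3_c16)) = v20713 :=
  Lgr Lrot23 (Lpr_ct (K28.f458455 IH) (Lpr_ft (f656337 IH) (Lpr_ct (f789345 IH) (Lpn v20713))))
theorem f654697 : Led Lsl_ft (LP (LK LD1_c3 LD2_c31 LD3_c14)) = (LP (LK LD1_c7 LD2_c4 LD3_c13)) :=
  Lgr Lrot48 (Lpr_ff (K46.f654693 IH) (Lpn (LP (LK LD1_c7 LD2_c4 LD3_c13))))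
theorem f789349 : Led Lsl_bt (LP (LK LD1_c7 LD2_c4 LD3_c13)) = v20713 :=
  Lgr Lrot35 (Lpe (f654697 IH) (Lpe (K43.f458447 IH) (Lpr_ff (f789348 IH) (Lpn v20713))))
theorem f58827 : Led Lsl_et (LP (LK LD1_c6 LD2_c33 LD3_c9)) = (LP (LK LD1_c12 LD2_c33 LD3_c37)) :=
  Lre_e IH (LK LD1_c6 LD2_c33 LD3_c9) (LK LD1_c12 LD2_c33 LD3_c37) Lrfl Lrfl
theorem f115898 : Led Lsl_et (LP (LK LD1_c13 LD2_c5 LD3_c25)) = (LP (LK LD1_c6 LD2_c53 LD3_c14)) :=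
  Lre_e IH (LK LD1_c13 LD2_c5 LD3_c25) (LK LD1_c6 LD2_c53 LD3_c14) Lrfl Lrfl
theorem f157322 : Led Lsl_ct (LP (LK LD1_c12 LD2_c33 LD3_c37)) = (LP (LK LD1_c13 LD2_c5 LD3_c25)) :=
  Lgr Lrot15 (Lpe (f58827 IH) (Lpr_cf (K8.f157319 IH) (Lpe (f115898 IH) (Lpn (LP (LK LD1_c13 LD2_c5 LD3_c25))))))
theorem f58832 : Led Lsl_ft (LP (LK LD1_c21 LD2_c39 LD3_c56)) = (LP (LK LD1_c12 LD2_c33 LD3_c37)) :=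
  Lre_f IH (LK LD1_c21 LD2_c39 LD3_c56) (LK LD1_c12 LD2_c33 LD3_c37) Lrfl Lrfl
theorem f428859 : Led Lsl_cf (LP (LK LD1_c21 LD2_c39 LD3_c56)) = (LP (LK LD1_c22 LD2_c16 LD3_c12)) :=
  Lgr Lrot108 (Lpr_ft (f58832 IH) (Lpr_ct (f157322 IH) (Lpr_ft (f151510 IH) (Lpn (LP (LK LD1_c22 LD2_c16 LD3_c12))))))
theorem f151535 : Led Lsl_gt (LP (LK LD1_c13 LD2_c5 LD3_c28)) = (LP (LK LD1_c11 LD2_c30 LD3_c13)) :=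
  Lgr Lrot5 (Lpr_ft (K7.f115886 IH) (Lpr_at (K7.f151526 IH) (Lpe (f24169 IH) (Lpn (LP (LK LD1_c11 LD2_c30 LD3_c13))))))
theorem f801904 : v20713 = (LP (LK LD1_c11 LD2_c30 LD3_c13)) :=
  (Llr Lrot92 (Lpe (f789349 IH) (Lpr_ct (K47.f457453 IH) (Lpr_gt (K46.f18094 IH) (Lpe (K28.f18714 IH) (Lpr_bt (K28.f18715 IH) (Lpr_gt (K7.f18722 IH) (Lpr_ct (f468362 IH) (Lpr_gt (f801900 IH) (Lpr_cf (f428859 IH) (Lpr_bt (K7.f151520 IH) (Lpr_gt (f151535 IH) (Lpn (LP (LK LD1_c11 LD2_c30 LD3_c13))))))))))))))).symm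
theorem f157366 : Led Lsl_bf (LP (LK LD1_c14 LD2_c13 LD3_c16)) = (LP (LK LD1_c11 LD2_c30 LD3_c11)) :=
  Lgr Lrot24 (Lpr_bt (K8.f157361 IH) (Lpn (LP (LK LD1_c11 LD2_c30 LD3_c11))))
theorem f802164 : Led Lsl_gf (LP (LK LD1_c22 LD2_c12 LD3_c28)) = (LP (LK LD1_c14 LD2_c13 LD3_c16)) :=
  Lgr Lrot124 (Lpe (f460723 IH) (Lpe (K43.f543783 IH) (Lpe (K43.f578366 IH) (Lpe (K43.f488225 IH) (Lpr_bt (K43.f564345 IH) (Lpr_gt (K43.f578370 IH) (Lpr_ct (f789345 IH) (Lpqs (f801904 IH) (Lpr_gt (f24169 IH) (Lpe (f24181 IH) (Lpe (f157366 IH) (Lpn (LP (LK LD1_c14 LD2_c13 LD3_c16))))))))))))))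
theorem f543781 : Led Lsl_bf (LP (LK LD1_c21 LD2_c14 LD3_c7)) = (LP (LK LD1_c13 LD2_c2 LD3_c49)) :=
  Lgr Lrot24 (Lpr_bt (K43.f543777 IH) (Lpn (LP (LK LD1_c13 LD2_c2 LD3_c49))))
theorem f24159 : Led Lsl_bt (LP (LK LD1_c5 LD2_c51 LD3_c24)) = (LP (LK LD1_c3 LD2_c15 LD3_c4)) :=
  Lgr Lrot127 (Lpr_bf (K7.f24154 IH) (Lpn (LP (LK LD1_c3 LD2_c15 LD3_c4))))
theorem f65886 : Led Lsl_cf (LP (LK LD1_c3 LD2_c45 LD3_c53)) = (LP (LK LD1_c3 LD2_c15 LD3_c4)) :=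
  Lgr Lrot11 (Lpr_ct (f65879 IH) (Lpn (LP (LK LD1_c3 LD2_c15 LD3_c4))))
theorem f157368 : Led Lsl_cf (LP (LK LD1_c14 LD2_c13 LD3_c16)) = (LP (LK LD1_c7 LD2_c32 LD3_c28)) :=
  Lgr Lrot97 (Lpr_bt (K8.f157361 IH) (Lpr_ct (f24181 IH) (Lpr_bt (f24159 IH) (Lpe (f65886 IH) (Lpr_bt (f65901 IH) (Lpn (LP (LK LD1_c7 LD2_c32 LD3_c28))))))))
theorem f65904 : Led Lsl_gt (LP (LK LD1_c14 LD2_c13 LD3_c18)) = (LP (LK LD1_c7 LD2_c32 LD3_c28)) :=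
  Lre_g IH (LK LD1_c14 LD2_c13 LD3_c18) (LK LD1_c7 LD2_c32 LD3_c28) Lrfl Lrfl
theorem f802168 : Led Lsl_bt (LP (LK LD1_c22 LD2_c33 LD3_c9)) = (LP (LK LD1_c14 LD2_c13 LD3_c18)) :=
  Lgr Lrot130 (Lpr_ct (K43.f476557 IH) (Lpe (K55.f575365 IH) (Lpr_cf (K55.f513519 IH) (Lpr_bt (K55.f476575 IH) (Lpr_gf (K55.f589927 IH) (Lpr_bf (f543781 IH) (Lpr_ct (K43.f15876 IH) (Lpr_gf (f802164 IH) (Lpr_cf (f157368 IH) (Lpe (f65904 IH) (Lpn (LP (LK LD1_c14 LD2_c13 LD3_c18)))))))))))))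
theorem f18920 : Led Lsl_gt (LP (LK LD1_c13 LD2_c14 LD3_c53)) = (LP (LK LD1_c6 LD2_c58 LD3_c43)) :=
  Lre_g IH (LK LD1_c13 LD2_c14 LD3_c53) (LK LD1_c6 LD2_c58 LD3_c43) Lrfl Lrfl
theorem f19049 : Led Lsl_gf (LP (LK LD1_c13 LD2_c14 LD3_c53)) = (LP (LK LD1_c13 LD2_c2 LD3_c52)) :=
  Lgr Lrot47 (Lpr_gt (f18920 IH) (Lpr_af (K24.f18590 IH) (Lpe (K2.f15843 IH) (Lpn (LP (LK LD1_c13 LD2_c2 LD3_c52))))))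
theorem f488674 : Led Lsl_bf (LP (LK LD1_c13 LD2_c14 LD3_c53)) = (LP (LK LD1_c13 LD2_c47 LD3_c10)) :=
  Lgr Lrot34 (Lpr_gf (f19049 IH) (Lpe (K2.f15817 IH) (Lpr_ct (K2.f15818 IH) (Lpe (K28.f15835 IH) (Lpe (K28.f19051 IH) (Lpr_gf (K28.f466569 IH) (Lpe (K3.f97533 IH) (Lpr_ct (K3.f97506 IH) (Lpe (K43.f18050 IH) (Lpe (K48.f97527 IH) (Lpn (LP (LK LD1_c13 LD2_c47 LD3_c10)))))))))))))
theorem f488679 : Led Lsl_bt (LP (LK LD1_c13 LD2_c14 LD3_c53)) = (LP (LK LD1_c13 LD2_c47 LD3_c10)) :=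
  Lgr Lrot127 (Lpr_bf (f488674 IH) (Lpn (LP (LK LD1_c13 LD2_c47 LD3_c10))))
theorem f802254 : Led Lsl_cf (LP (LK LD1_c13 LD2_c14 LD3_c53)) = (LP (LK LD1_c14 LD2_c13 LD3_c18)) :=
  Lgr Lrot97 (Lpr_bt (f488679 IH) (Lpr_ct (K48.f97527 IH) (Lpr_bt (K43.f476556 IH) (Lpe (K43.f476506 IH) (Lpr_bt (f802168 IH) (Lpn (LP (LK LD1_c14 LD2_c13 LD3_c18))))))))
theorem f802267 : Led Lsl_ct (LP (LK LD1_c13 LD2_c14 LD3_c53)) = (LP (LK LD1_c14 LD2_c13 LD3_c18)) :=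
  Lgr Lrot59 (Lpr_cf (f802254 IH) (Lpn (LP (LK LD1_c14 LD2_c13 LD3_c18))))
theorem f58813 : Led Lsl_bt (LP (LK LD1_c14 LD2_c13 LD3_c20)) = (LP (LK LD1_c7 LD2_c32 LD3_c31)) :=
  Lre_b IH (LK LD1_c14 LD2_c13 LD3_c20) (LK LD1_c7 LD2_c32 LD3_c31) Lrfl Lrfl
theorem f789820 : Led Lsl_ct (LP (LK LD1_c13 LD2_c21 LD3_c37)) = K61.v20767 :=
  Lgr Lrot59 (Lpr_cf (K61.f789819 IH) (Lpn K61.v20767))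
theorem f656852 : Led Lsl_bt (LP (LK LD1_c13 LD2_c21 LD3_c37)) = (LP (LK LD1_c22 LD2_c38 LD3_c30)) :=
  Lre_b IH (LK LD1_c13 LD2_c21 LD3_c37) (LK LD1_c22 LD2_c38 LD3_c30) Lrfl Lrfl
theorem f802261 : Led Lsl_gt (LP (LK LD1_c22 LD2_c38 LD3_c30)) = (LP (LK LD1_c14 LD2_c13 LD3_c18)) :=
  Lgr Lrot164 (Lpe (f656852 IH) (Lpr_ct (f789820 IH) (Lpe (K61.f789818 IH) (Lpr_cf (f458448 IH) (Lpe (K43.f575250 IH) (Lpe (K43.f136956 IH) (Lpr_ct (K43.f575124 IH) (Lpr_gf (K43.f575252 IH) (Lpe (K43.f476557 IH) (Lpr_bt (f802168 IH) (Lpn (LP (LK LD1_c14 LD2_c13 LD3_c18)))))))))))))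
theorem f802269 : Led Lsl_ct (LP (LK LD1_c14 LD2_c13 LD3_c20)) = (LP (LK LD1_c22 LD2_c38 LD3_c30)) :=
  Lgr Lrot64 (Lpr_bt (f58813 IH) (Lpr_gf (f157450 IH) (Lpqs (f801928 IH) (Lpe (f789675 IH) (Lpr_ct (K43.f513308 IH) (Lpr_gf (K43.f564317 IH) (Lpe (K7.f94466 IH) (Lpr_gf (K43.f575373 IH) (Lpe (f488679 IH) (Lpr_ct (f802267 IH) (Lpe (f802261 IH) (Lpn (LP (LK LD1_c22 LD2_c38 LD3_c30))))))))))))))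
theorem f58807 : Led Lsl_et (LP (LK LD1_c6 LD2_c33 LD3_c10)) = (LP (LK LD1_c3 LD2_c14 LD3_c50)) :=
  Lre_e IH (LK LD1_c6 LD2_c33 LD3_c10) (LK LD1_c3 LD2_c14 LD3_c50) Lrfl Lrfl
theorem f58808 : Led Lsl_ft (LP (LK LD1_c12 LD2_c33 LD3_c39)) = (LP (LK LD1_c6 LD2_c33 LD3_c10)) :=
  Lre_f IH (LK LD1_c12 LD2_c33 LD3_c39) (LK LD1_c6 LD2_c33 LD3_c10) Lrfl Lrfl
theorem f58811 : Led Lsl_ef (LP (LK LD1_c12 LD2_c33 LD3_c39)) = (LP (LK LD1_c7 LD2_c32 LD3_c31)) :=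
  Lgr Lrot21 (Lpr_ft (f58808 IH) (Lpr_et (f58807 IH) (Lpr_ft (K7.f58802 IH) (Lpr_et (f58809 IH) (Lpr_ft (f58810 IH) (Lpn (LP (LK LD1_c7 LD2_c32 LD3_c31))))))))
theorem f58814 : Led Lsl_et (LP (LK LD1_c21 LD2_c39 LD3_c56)) = (LP (LK LD1_c14 LD2_c13 LD3_c20)) :=
  Lgr Lrot74 (Lpe (K7.f24171 IH) (Lpr_ef (f58811 IH) (Lpe (f58813 IH) (Lpn (LP (LK LD1_c14 LD2_c13 LD3_c20))))))
theorem f802273 : Led Lsl_ef (LP (LK LD1_c22 LD2_c16 LD3_c12)) = (LP (LK LD1_c22 LD2_c38 LD3_c30)) :=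
  Lgr Lrot28 (Lpe (f428859 IH) (Lpr_et (f58814 IH) (Lpr_ct (f802269 IH) (Lpn (LP (LK LD1_c22 LD2_c38 LD3_c30))))))
theorem f802275 : Led Lsl_at (LP (LK LD1_c14 LD2_c13 LD3_c20)) = (LP (LK LD1_c22 LD2_c38 LD3_c30)) :=
  Lgr Lrot80 (Lpe (f58814 IH) (Lpe (f151518 IH) (Lpr_ef (f802273 IH) (Lpn (LP (LK LD1_c22 LD2_c38 LD3_c30))))))
theorem f58835 : Led Lsl_ft (LP (LK LD1_c7 LD2_c32 LD3_c28)) = (LP (LK LD1_c14 LD2_c13 LD3_c20)) :=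
  Lre_f IH (LK LD1_c7 LD2_c32 LD3_c28) (LK LD1_c14 LD2_c13 LD3_c20) Lrfl Lrfl
theorem f65902 : Led Lsl_gt (LP (LK LD1_c7 LD2_c32 LD3_c28)) = (LP (LK LD1_c14 LD2_c13 LD3_c17)) :=
  Lre_g IH (LK LD1_c7 LD2_c32 LD3_c28) (LK LD1_c14 LD2_c13 LD3_c17) Lrfl Lrfl
theorem f802279 : Led Lsl_gt (LP (LK LD1_c14 LD2_c13 LD3_c17)) = (LP (LK LD1_c22 LD2_c38 LD3_c30)) :=
  Lgr Lrot46 (Lpe (f65902 IH) (Lpr_ft (f58835 IH) (Lpr_at (f802275 IH) (Lpn (LP (LK LD1_c22 LD2_c38 LD3_c30))))))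
theorem f24158 : Led Lsl_bt (LP (LK LD1_c12 LD2_c33 LD3_c37)) = (LP (LK LD1_c6 LD2_c33 LD3_c10)) :=
  Lre_b IH (LK LD1_c12 LD2_c33 LD3_c37) (LK LD1_c6 LD2_c33 LD3_c10) Lrfl Lrfl
theorem f24157 : Led Lsl_at (LP (LK LD1_c6 LD2_c33 LD3_c10)) = (LP (LK LD1_c3 LD2_c15 LD3_c4)) :=
  Lre_a IH (LK LD1_c6 LD2_c33 LD3_c10) (LK LD1_c3 LD2_c15 LD3_c4) Lrfl Lrfl
theorem f151514 : Led Lsl_af (LP (LK LD1_c6 LD2_c53 LD3_c15)) = (LP (LK LD1_c5 LD2_c51 LD3_c24)) :=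
  Lgr Lrot36 (Lpr_bt (f115875 IH) (Lpr_at (K7.f151496 IH) (Lpr_bt (f24158 IH) (Lpr_at (f24157 IH) (Lpe (K7.f24154 IH) (Lpn (LP (LK LD1_c5 LD2_c51 LD3_c24))))))))
theorem f115882 : Led Lsl_gt (LP (LK LD1_c13 LD2_c5 LD3_c26)) = (LP (LK LD1_c6 LD2_c53 LD3_c15)) :=
  Lre_g IH (LK LD1_c13 LD2_c5 LD3_c26) (LK LD1_c6 LD2_c53 LD3_c15) Lrfl Lrfl
theorem f24177 : Led Lsl_ft (LP (LK LD1_c11 LD2_c30 LD3_c14)) = (LP (LK LD1_c5 LD2_c51 LD3_c24)) :=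
  Lre_f IH (LK LD1_c11 LD2_c30 LD3_c14) (LK LD1_c5 LD2_c51 LD3_c24) Lrfl Lrfl
theorem f436312 : Led Lsl_gf (LP (LK LD1_c13 LD2_c5 LD3_c26)) = (LP (LK LD1_c11 LD2_c30 LD3_c14)) :=
  Lgr Lrot47 (Lpr_gt (f115882 IH) (Lpr_af (f151514 IH) (Lpe (f24177 IH) (Lpn (LP (LK LD1_c11 LD2_c30 LD3_c14))))))
theorem f533227 : Led Lsl_ct (LP (LK LD1_c13 LD2_c3 LD3_c32)) = (LP (LK LD1_c13 LD2_c20 LD3_c23)) :=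
  Lgr Lrot40 (Lpr_ff (f533221 IH) (Lpe (K34.f111055 IH) (Lpr_ff (K46.f532951 IH) (Lpn (LP (LK LD1_c13 LD2_c20 LD3_c23))))))
theorem f533225 : Led Lsl_bt (LP (LK LD1_c13 LD2_c3 LD3_c32)) = (LP (LK LD1_c13 LD2_c19 LD3_c3)) :=
  Lgr Lrot35 (Lpr_ff (f533221 IH) (Lpr_bf (K34.f111172 IH) (Lpe (K34.f111152 IH) (Lpn (LP (LK LD1_c13 LD2_c19 LD3_c3))))))
theorem f575238 : Led Lsl_bt (LP (LK LD1_c13 LD2_c19 LD3_c34)) = (LP (LK LD1_c21 LD2_c41 LD3_c14)) :=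
  Lgr Lrot127 (Lpr_bf (K43.f575228 IH) (Lpn (LP (LK LD1_c21 LD2_c41 LD3_c14))))
theorem f801960 : Led Lsl_ct (LP (LK LD1_c13 LD2_c19 LD3_c34)) = (LP (LK LD1_c13 LD2_c5 LD3_c26)) :=
  Lgr Lrot64 (Lpr_bt (f575238 IH) (Lpr_gf (K46.f441298 IH) (Lpe (f533225 IH) (Lpr_ct (f533227 IH) (Lpr_gf (f801954 IH) (Lpe (f146571 IH) (Lpe (f116729 IH) (Lpr_bf (K8.f146561 IH) (Lpe (f115872 IH) (Lpe (f115882 IH) (Lpn (LP (LK LD1_c13 LD2_c5 LD3_c26)))))))))))))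
theorem f802281 : Led Lsl_bf (LP (LK LD1_c14 LD2_c13 LD3_c17)) = (LP (LK LD1_c13 LD2_c5 LD3_c15)) :=
  Lgr Lrot156 (Lpr_gt (f802279 IH) (Lpe (f656852 IH) (Lpr_ct (f789820 IH) (Lpqs (f801884 IH) (Lpe (f436312 IH) (Lpe (f801960 IH) (Lpr_bt (f575238 IH) (Lpr_gt (K43.f111247 IH) (Lpr_ct (K43.f147796 IH) (Lpe (K46.f533510 IH) (Lpe (K46.f420083 IH) (Lpn (LP (LK LD1_c13 LD2_c5 LD3_c15))))))))))))))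
theorem f463462 : Led Lsl_bt (LP (LK LD1_c13 LD2_c14 LD3_c52)) = (LP (LK LD1_c22 LD2_c29 LD3_c46)) :=
  Lre_b IH (LK LD1_c13 LD2_c14 LD3_c52) (LK LD1_c22 LD2_c29 LD3_c46) Lrfl Lrfl
theorem f802285 : Led Lsl_ct (LP (LK LD1_c14 LD2_c13 LD3_c17)) = (LP (LK LD1_c13 LD2_c14 LD3_c52)) :=
  Lgr Lrot83 (Lpr_bf (f802281 IH) (Lpe (K46.f420084 IH) (Lpr_bf (K46.f463450 IH) (Lpr_cf (K28.f463460 IH) (Lpe (f463462 IH) (Lpn (LP (LK LD1_c13 LD2_c14 LD3_c52))))))))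
theorem f802300 : Led Lsl_cf (LP (LK LD1_c14 LD2_c13 LD3_c17)) = (LP (LK LD1_c13 LD2_c14 LD3_c52)) :=
  Lgr Lrot11 (Lpr_ct (f802285 IH) (Lpn (LP (LK LD1_c13 LD2_c14 LD3_c52))))
theorem f157448 : Led Lsl_at (LP (LK LD1_c3 LD2_c45 LD3_c53)) = (LP (LK LD1_c4 LD2_c44 LD3_c16)) :=
  Lgr Lrot66 (Lpe (f58799 IH) (Lpr_af (f157439 IH) (Lpe (f146570 IH) (Lpn (LP (LK LD1_c4 LD2_c44 LD3_c16))))))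
theorem f127086 : Led Lsl_gt (LP (LK LD1_c9 LD2_c21 LD3_c20)) = (LP (LK LD1_c4 LD2_c44 LD3_c16)) :=
  Lre_g IH (LK LD1_c9 LD2_c21 LD3_c20) (LK LD1_c4 LD2_c44 LD3_c16) Lrfl Lrfl
theorem f157458 : Led Lsl_gt (LP (LK LD1_c7 LD2_c32 LD3_c31)) = (LP (LK LD1_c9 LD2_c21 LD3_c20)) :=
  Lgr Lrot5 (Lpr_ft (f58799 IH) (Lpr_at (f157448 IH) (Lpe (f127086 IH) (Lpn (LP (LK LD1_c9 LD2_c21 LD3_c20))))))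
theorem f802306 : (LP (LK LD1_c9 LD2_c21 LD3_c20)) = v20515 :=
  (Llr Lrot164 (Lpe (f157458 IH) (Lpe (f58813 IH) (Lpr_ct (f802269 IH) (Lpe (f802279 IH) (Lpr_cf (f802300 IH) (Lpe (K8.f18917 IH) (Lpe (K24.f18859 IH) (Lpr_ct (K24.f18857 IH) (Lpe (K28.f18869 IH) (Lpe (K28.f18552 IH) (Lpr_bt (f787544 IH) (Lpn v20515))))))))))))).symm
theorem f464517 : Led Lsl_bt (LP (LK LD1_c13 LD2_c56 LD3_c13)) = (LP (LK LD1_c13 LD2_c16 LD3_c40)) :=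
  Lgr Lrot127 (Lpr_bf (K28.f464514 IH) (Lpn (LP (LK LD1_c13 LD2_c16 LD3_c40))))
theorem f146569 : Led Lsl_et (LP (LK LD1_c4 LD2_c44 LD3_c16)) = (LP (LK LD1_c2 LD2_c20 LD3_c7)) :=
  Lre_e IH (LK LD1_c4 LD2_c44 LD3_c16) (LK LD1_c2 LD2_c20 LD3_c7) Lrfl Lrfl
theorem f156477 : Led Lsl_ct (LP (LK LD1_c6 LD2_c33 LD3_c10)) = (LP (LK LD1_c4 LD2_c44 LD3_c16)) :=
  Lgr Lrot15 (Lpe (f58796 IH) (Lpr_cf (K7.f156471 IH) (Lpe (f146569 IH) (Lpn (LP (LK LD1_c4 LD2_c44 LD3_c16))))))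
theorem f24180 : Led Lsl_bt (LP (LK LD1_c6 LD2_c33 LD3_c10)) = (LP (LK LD1_c12 LD2_c33 LD3_c37)) :=
  Lre_b IH (LK LD1_c6 LD2_c33 LD3_c10) (LK LD1_c12 LD2_c33 LD3_c37) Lrfl Lrfl
theorem f802360 : Led Lsl_gf (LP (LK LD1_c13 LD2_c16 LD3_c40)) = (LP (LK LD1_c12 LD2_c33 LD3_c37)) :=
  Lgr Lrot124 (Lpe (f464517 IH) (Lpr_ct (K46.f533756 IH) (Lpe (K46.f533765 IH) (Lpe (K34.f469696 IH) (Lpr_bt (K46.f533403 IH) (Lpr_gt (K46.f464532 IH) (Lpr_ct (f787548 IH) (Lpq (f802306 IH) (Lpr_gt (f127086 IH) (Lpe (f156477 IH) (Lpr_bt (f24180 IH) (Lpn (LP (LK LD1_c12 LD2_c33 LD3_c37))))))))))))))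
theorem f458116 : Led Lsl_et (LP (LK LD1_c22 LD2_c32 LD3_c13)) = (LP (LK LD1_c13 LD2_c16 LD3_c40)) :=
  Lre_e IH (LK LD1_c22 LD2_c32 LD3_c13) (LK LD1_c13 LD2_c16 LD3_c40) Lrfl Lrfl
theorem f458107 : Led Lsl_gf (LP (LK LD1_c14 LD2_c41 LD3_c38)) = (LP (LK LD1_c13 LD2_c7 LD3_c15)) :=
  Lgr Lrot129 (Lpe (K41.f457772 IH) (Lpr_bt (K41.f458064 IH) (Lpr_gt (K41.f458106 IH) (Lpr_bf (K33.f457975 IH) (Lpr_ct (K29.f15722 IH) (Lpr_gt (K2.f15903 IH) (Lpe (K0.f15885 IH) (Lpr_bt (K0.f15670 IH) (Lpr_gt (K8.f15922 IH) (Lpr_ct (K28.f15927 IH) (Lpn (LP (LK LD1_c13 LD2_c7 LD3_c15)))))))))))))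
theorem f458058 : Led Lsl_dt (LP (LK LD1_c14 LD2_c41 LD3_c38)) = (LP (LK LD1_c24 LD2_c26 LD3_c18)) :=
  Lre_d IH (LK LD1_c14 LD2_c41 LD3_c38) (LK LD1_c24 LD2_c26 LD3_c18) Lrfl Lrfl
theorem f15906 : Led Lsl_dt (LP (LK LD1_c6 LD2_c54 LD3_c22)) = (LP (LK LD1_c3 LD2_c26 LD3_c13)) :=
  Lre_d IH (LK LD1_c6 LD2_c54 LD3_c22) (LK LD1_c3 LD2_c26 LD3_c13) Lrfl Lrfl
theorem f15907 : Led Lsl_ct (LP (LK LD1_c13 LD2_c7 LD3_c23)) = (LP (LK LD1_c6 LD2_c54 LD3_c22)) :=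
  Lre_c IH (LK LD1_c13 LD2_c7 LD3_c23) (LK LD1_c6 LD2_c54 LD3_c22) Lrfl Lrfl
theorem f15930 : Led Lsl_gt (LP (LK LD1_c22 LD2_c19 LD3_c19)) = (LP (LK LD1_c13 LD2_c7 LD3_c23)) :=
  Lre_g IH (LK LD1_c22 LD2_c19 LD3_c19) (LK LD1_c13 LD2_c7 LD3_c23) Lrfl Lrfl
theorem f15931 : Led Lsl_ct (LP (LK LD1_c30 LD2_c25 LD3_c35)) = (LP (LK LD1_c22 LD2_c19 LD3_c19)) :=
  Lre_c IH (LK LD1_c30 LD2_c25 LD3_c35) (LK LD1_c22 LD2_c19 LD3_c19) Lrfl Lrfl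
theorem f458059 : Led Lsl_gt (LP (LK LD1_c24 LD2_c26 LD3_c18)) = (LP (LK LD1_c30 LD2_c25 LD3_c35)) :=
  Lgr Lrot9 (Lpe (f458058 IH) (Lpr_gt (K41.f457992 IH) (Lpr_ct (K41.f15929 IH) (Lpr_gt (K28.f15925 IH) (Lpr_ct (K0.f15887 IH) (Lpe (f15906 IH) (Lpe (f15907 IH) (Lpe (f15930 IH) (Lpe (f15931 IH) (Lpn (LP (LK LD1_c30 LD2_c25 LD3_c35))))))))))))
theorem f162361 : Led Lsl_df (LP (LK LD1_c13 LD2_c16 LD3_c42)) = (LP (LK LD1_c13 LD2_c7 LD3_c22)) :=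
  Lgr Lrot38 (Lpr_dt (K8.f162354 IH) (Lpn (LP (LK LD1_c13 LD2_c7 LD3_c22))))
theorem f162360 : Led Lsl_ct (LP (LK LD1_c22 LD2_c32 LD3_c13)) = (LP (LK LD1_c13 LD2_c16 LD3_c42)) :=
  Lre_c IH (LK LD1_c22 LD2_c32 LD3_c13) (LK LD1_c13 LD2_c16 LD3_c42) Lrfl Lrfl
theorem f458109 : Led Lsl_dt (LP (LK LD1_c30 LD2_c25 LD3_c35)) = (LP (LK LD1_c22 LD2_c32 LD3_c13)) :=
  Lgr Lrot105 (Lpe (f458059 IH) (Lpe (f458058 IH) (Lpr_gf (f458107 IH) (Lpe (K28.f15927 IH) (Lpr_gt (K8.f16048 IH) (Lpr_dt (K8.f14891 IH) (Lpe (K8.f15993 IH) (Lpe (f162361 IH) (Lpe (f162360 IH) (Lpn (LP (LK LD1_c22 LD2_c32 LD3_c13))))))))))))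
theorem f458114 : Led Lsl_df (LP (LK LD1_c30 LD2_c25 LD3_c35)) = (LP (LK LD1_c22 LD2_c32 LD3_c13)) :=
  Lgr Lrot38 (Lpr_dt (f458109 IH) (Lpn (LP (LK LD1_c22 LD2_c32 LD3_c13))))
theorem f205975 : Led Lsl_df (LP (LK LD1_c6 LD2_c33 LD3_c8)) = (LP (LK LD1_c3 LD2_c47 LD3_c34)) :=
  Lgr Lrot162 (Lpe (K11.f157333 IH) (Lpr_gf (K11.f205965 IH) (Lpe (K11.f15863 IH) (Lpr_gf (K8.f129425 IH) (Lpr_dt (K8.f16764 IH) (Lpr_gt (K5.f16761 IH) (Lpe (K0.f15914 IH) (Lpe (K3.f17110 IH) (Lpr_ct (K11.f15659 IH) (Lpn (LP (LK LD1_c3 LD2_c47 LD3_c34))))))))))))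
theorem f15662 : Led Lsl_et (LP (LK LD1_c13 LD2_c7 LD3_c61)) = (LP (LK LD1_c6 LD2_c54 LD3_c46)) :=
  Lre_e IH (LK LD1_c13 LD2_c7 LD3_c61) (LK LD1_c6 LD2_c54 LD3_c46) Lrfl Lrfl
theorem f15663 : Led Lsl_dt (LP (LK LD1_c13 LD2_c7 LD3_c61)) = (LP (LK LD1_c22 LD2_c19 LD3_c58)) :=
  Lre_d IH (LK LD1_c13 LD2_c7 LD3_c61) (LK LD1_c22 LD2_c19 LD3_c58) Lrfl Lrfl
theorem f802370 : Led Lsl_gt (LP (LK LD1_c30 LD2_c25 LD3_c35)) = (LP (LK LD1_c22 LD2_c19 LD3_c58)) :=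
  Lgr Lrot112 (Lpr_df (f458114 IH) (Lpr_et (f458116 IH) (Lpr_gf (f802360 IH) (Lpe (f58827 IH) (Lpr_dt (K8.f24200 IH) (Lpe (K11.f24196 IH) (Lpr_df (f205975 IH) (Lpe (K8.f15651 IH) (Lpe (f15662 IH) (Lpr_dt (f15663 IH) (Lpn (LP (LK LD1_c22 LD2_c19 LD3_c58)))))))))))))
theorem f15644 : Led Lsl_dt (LP (LK LD1_c13 LD2_c8 LD3_c0)) = (LP (LK LD1_c6 LD2_c54 LD3_c47)) :=
  Lre_d IH (LK LD1_c13 LD2_c8 LD3_c0) (LK LD1_c6 LD2_c54 LD3_c47) Lrfl Lrfl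
theorem f57305 : Led Lsl_dt (LP (LK LD1_c5 LD2_c48 LD3_c21)) = (LP (LK LD1_c11 LD2_c26 LD3_c9)) :=
  Lre_d IH (LK LD1_c5 LD2_c48 LD3_c21) (LK LD1_c11 LD2_c26 LD3_c9) Lrfl Lrfl
theorem f437181 : Led Lsl_af (LP (LK LD1_c13 LD2_c8 LD3_c0)) = (LP (LK LD1_c11 LD2_c26 LD3_c9)) :=
  Lgr Lrot117 (Lpr_dt (f15644 IH) (Lpr_at (f437175 IH) (Lpr_dt (f57305 IH) (Lpn (LP (LK LD1_c11 LD2_c26 LD3_c9))))))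
theorem f57454 : Led Lsl_at (LP (LK LD1_c11 LD2_c25 LD3_c51)) = (LP (LK LD1_c5 LD2_c48 LD3_c24)) :=
  Lre_a IH (LK LD1_c11 LD2_c25 LD3_c51) (LK LD1_c5 LD2_c48 LD3_c24) Lrfl Lrfl
theorem f437188 : Led Lsl_et (LP (LK LD1_c13 LD2_c8 LD3_c0)) = (LP (LK LD1_c11 LD2_c25 LD3_c51)) :=
  Lgr Lrot123 (Lpr_af (f437181 IH) (Lpe (K6.f57307 IH) (Lpe (f57454 IH) (Lpn (LP (LK LD1_c11 LD2_c25 LD3_c51))))))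
theorem f437190 : Led Lsl_bt (LP (LK LD1_c22 LD2_c19 LD3_c58)) = (LP (LK LD1_c13 LD2_c8 LD3_c0)) :=
  Lre_b IH (LK LD1_c22 LD2_c19 LD3_c58) (LK LD1_c13 LD2_c8 LD3_c0) Lrfl Lrfl
theorem f437191 : Led Lsl_ef (LP (LK LD1_c22 LD2_c19 LD3_c58)) = (LP (LK LD1_c20 LD2_c23 LD3_c20)) :=
  Lgr Lrot29 (Lpr_bt (f437190 IH) (Lpr_et (f437188 IH) (Lpr_bt (K6.f57319 IH) (Lpn (LP (LK LD1_c20 LD2_c23 LD3_c20))))))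
theorem f437195 : Led Lsl_et (LP (LK LD1_c22 LD2_c19 LD3_c58)) = (LP (LK LD1_c20 LD2_c23 LD3_c20)) :=
  Lgr Lrot87 (Lpr_ef (f437191 IH) (Lpn (LP (LK LD1_c20 LD2_c23 LD3_c20))))
theorem f57435 : Led Lsl_et (LP (LK LD1_c12 LD2_c51 LD3_c18)) = (LP (LK LD1_c21 LD2_c59 LD3_c56)) :=
  Lre_e IH (LK LD1_c12 LD2_c51 LD3_c18) (LK LD1_c21 LD2_c59 LD3_c56) Lrfl Lrfl
theorem f437197 : Led Lsl_af (LP (LK LD1_c22 LD2_c19 LD3_c58)) = (LP (LK LD1_c21 LD2_c59 LD3_c56)) :=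
  Lgr Lrot50 (Lpr_et (f437195 IH) (Lpe (K6.f57320 IH) (Lpr_et (f57435 IH) (Lpn (LP (LK LD1_c21 LD2_c59 LD3_c56))))))
theorem f802372 : Led Lsl_ft (LP (LK LD1_c24 LD2_c26 LD3_c18)) = (LP (LK LD1_c21 LD2_c59 LD3_c56)) :=
  Lgr Lrot2 (Lpr_gt (f458059 IH) (Lpr_gt (f802370 IH) (Lpr_af (f437197 IH) (Lpn (LP (LK LD1_c21 LD2_c59 LD3_c56))))))
theorem f458065 : Led Lsl_bt (LP (LK LD1_c14 LD2_c41 LD3_c39)) = (LP (LK LD1_c24 LD2_c26 LD3_c18)) :=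
  Lre_b IH (LK LD1_c14 LD2_c41 LD3_c39) (LK LD1_c24 LD2_c26 LD3_c18) Lrfl Lrfl
theorem f57287 : Led Lsl_bt (LP (LK LD1_c21 LD2_c59 LD3_c56)) = (LP (LK LD1_c12 LD2_c51 LD3_c20)) :=
  Lre_b IH (LK LD1_c21 LD2_c59 LD3_c56) (LK LD1_c12 LD2_c51 LD3_c20) Lrfl Lrfl
theorem f802374 : Led Lsl_ff (LP (LK LD1_c14 LD2_c41 LD3_c39)) = (LP (LK LD1_c12 LD2_c51 LD3_c20)) :=
  Lgr Lrot25 (Lpr_bt (f458065 IH) (Lpr_ft (f802372 IH) (Lpr_bt (f57287 IH) (Lpn (LP (LK LD1_c12 LD2_c51 LD3_c20))))))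
theorem f145160 : Led Lsl_gt (LP (LK LD1_c12 LD2_c51 LD3_c20)) = (LP (LK LD1_c22 LD2_c0 LD3_c1)) :=
  Lre_g IH (LK LD1_c12 LD2_c51 LD3_c20) (LK LD1_c22 LD2_c0 LD3_c1) Lrfl Lrfl
theorem f802728 : Led Lsl_gt (LP (LK LD1_c22 LD2_c0 LD3_c1)) = (LP (LK LD1_c12 LD2_c51 LD3_c47)) :=
  Lgr Lrot46 (Lpe (f145160 IH) (Lpe (f802374 IH) (Lpr_at (f802721 IH) (Lpn (LP (LK LD1_c12 LD2_c51 LD3_c47))))))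
theorem f145173 : Led Lsl_ct (LP (LK LD1_c12 LD2_c51 LD3_c47)) = (LP (LK LD1_c22 LD2_c0 LD3_c54)) :=
  Lre_c IH (LK LD1_c12 LD2_c51 LD3_c47) (LK LD1_c22 LD2_c0 LD3_c54) Lrfl Lrfl
theorem f145166 : Led Lsl_gt (LP (LK LD1_c22 LD2_c0 LD3_c2)) = (LP (LK LD1_c30 LD2_c14 LD3_c52)) :=
  Lre_g IH (LK LD1_c22 LD2_c0 LD3_c2) (LK LD1_c30 LD2_c14 LD3_c52) Lrfl Lrfl
theorem f802684 : Led Lsl_gf (LP (LK LD1_c22 LD2_c0 LD3_c54)) = (LP (LK LD1_c30 LD2_c14 LD3_c52)) :=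
  Lgr Lrot76 (Lpe (f802680 IH) (Lpr_ff (f802678 IH) (Lpr_gt (f145166 IH) (Lpn (LP (LK LD1_c30 LD2_c14 LD3_c52))))))
theorem f145177 : Led Lsl_dt (LP (LK LD1_c12 LD2_c51 LD3_c47)) = (LP (LK LD1_c6 LD2_c43 LD3_c28)) :=
  Lre_d IH (LK LD1_c12 LD2_c51 LD3_c47) (LK LD1_c6 LD2_c43 LD3_c28) Lrfl Lrfl
theorem f475664 : Led Lsl_gt (LP (LK LD1_c3 LD2_c52 LD3_c48)) = (LP (LK LD1_c7 LD2_c37 LD3_c17)) :=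
  Lgr Lrot5 (Lpr_ft (K34.f475656 IH) (Lpr_at (K34.f457832 IH) (Lpe (K35.f457848 IH) (Lpn (LP (LK LD1_c7 LD2_c37 LD3_c17))))))
theorem f95625 : Led Lsl_ft (LP (LK LD1_c22 LD2_c11 LD3_c6)) = (LP (LK LD1_c13 LD2_c0 LD3_c54)) :=
  Lre_f IH (LK LD1_c22 LD2_c11 LD3_c6) (LK LD1_c13 LD2_c0 LD3_c54) Lrfl Lrfl
theorem f534044 : Led Lsl_ef (LP (LK LD1_c22 LD2_c11 LD3_c6)) = (LP (LK LD1_c13 LD2_c22 LD3_c36)) :=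
  Lgr Lrot21 (Lpr_ft (f95625 IH) (Lpr_et (K4.f95586 IH) (Lpr_ft (K4.f95621 IH) (Lpr_et (K24.f93205 IH) (Lpr_ft (K39.f534028 IH) (Lpn (LP (LK LD1_c13 LD2_c22 LD3_c36))))))))
theorem f18732 : Led Lsl_bt (LP (LK LD1_c13 LD2_c20 LD3_c10)) = (LP (LK LD1_c7 LD2_c1 LD3_c53)) :=
  Lre_b IH (LK LD1_c13 LD2_c20 LD3_c10) (LK LD1_c7 LD2_c1 LD3_c53) Lrfl Lrfl
theorem f91874 : Led Lsl_ef (LP (LK LD1_c13 LD2_c20 LD3_c10)) = (LP (LK LD1_c13 LD2_c12 LD3_c6)) :=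
  Lgr Lrot29 (Lpr_bt (f18732 IH) (Lpr_et (K28.f90930 IH) (Lpr_bt (K39.f91873 IH) (Lpn (LP (LK LD1_c13 LD2_c12 LD3_c6))))))
theorem f91899 : Led Lsl_dt (LP (LK LD1_c13 LD2_c12 LD3_c6)) = (LP (LK LD1_c6 LD2_c57 LD3_c6)) :=
  Lre_d IH (LK LD1_c13 LD2_c12 LD3_c6) (LK LD1_c6 LD2_c57 LD3_c6) Lrfl Lrfl
theorem f534062 : Led Lsl_gt (LP (LK LD1_c13 LD2_c11 LD3_c39)) = (LP (LK LD1_c6 LD2_c57 LD3_c6)) :=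
  Lgr Lrot139 (Lpe (f457901 IH) (Lpe (K34.f475644 IH) (Lpe (f458037 IH) (Lpr_dt (f458035 IH) (Lpr_gf (f534030 IH) (Lpe (K39.f457611 IH) (Lpe (f534044 IH) (Lpr_gf (K46.f534058 IH) (Lpr_ef (f91874 IH) (Lpr_dt (f91899 IH) (Lpn (LP (LK LD1_c6 LD2_c57 LD3_c6)))))))))))))
theorem f534066 : Led Lsl_gf (LP (LK LD1_c13 LD2_c10 LD3_c29)) = (LP (LK LD1_c6 LD2_c57 LD3_c6)) :=
  Lgr Lrot76 (Lpe (K46.f130047 IH) (Lpe (f532848 IH) (Lpr_gt (f534062 IH) (Lpn (LP (LK LD1_c6 LD2_c57 LD3_c6))))))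
theorem f472978 : Led Lsl_bt (LP (LK LD1_c3 LD2_c27 LD3_c29)) = (LP (LK LD1_c6 LD2_c57 LD3_c6)) :=
  Lre_b IH (LK LD1_c3 LD2_c27 LD3_c29) (LK LD1_c6 LD2_c57 LD3_c6) Lrfl Lrfl
theorem f15771 : Led Lsl_bt (LP (LK LD1_c13 LD2_c7 LD3_c30)) = (LP (LK LD1_c6 LD2_c54 LD3_c26)) :=
  Lre_b IH (LK LD1_c13 LD2_c7 LD3_c30) (LK LD1_c6 LD2_c54 LD3_c26) Lrfl Lrfl
theorem f512228 : Led Lsl_ft (LP (LK LD1_c6 LD2_c57 LD3_c6)) = (LP (LK LD1_c13 LD2_c7 LD3_c30)) :=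
  Lgr Lrot75 (Lpe (f472978 IH) (Lpr_ff (K33.f512226 IH) (Lpe (f15771 IH) (Lpn (LP (LK LD1_c13 LD2_c7 LD3_c30))))))
theorem f472256 : Led Lsl_at (LP (LK LD1_c13 LD2_c7 LD3_c30)) = (LP (LK LD1_c22 LD2_c19 LD3_c29)) :=
  Lre_a IH (LK LD1_c13 LD2_c7 LD3_c30) (LK LD1_c22 LD2_c19 LD3_c29) Lrfl Lrfl
theorem f534069 : Led Lsl_gt (LP (LK LD1_c13 LD2_c10 LD3_c29)) = (LP (LK LD1_c22 LD2_c19 LD3_c29)) :=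
  Lgr Lrot46 (Lpr_gf (f534066 IH) (Lpr_ft (f512228 IH) (Lpr_at (f472256 IH) (Lpn (LP (LK LD1_c22 LD2_c19 LD3_c29))))))
theorem f802687 : Led Lsl_ct (LP (LK LD1_c22 LD2_c19 LD3_c29)) = (LP (LK LD1_c30 LD2_c14 LD3_c52)) :=
  Lgr Lrot152 (Lpe (f534069 IH) (Lpe (f130063 IH) (Lpe (K34.f532819 IH) (Lpr_ct (K47.f475469 IH) (Lpr_gt (f475664 IH) (Lpq (f801835 IH) (Lpe (f665687 IH) (Lpe (f145177 IH) (Lpe (f145169 IH) (Lpr_gf (f802684 IH) (Lpn (LP (LK LD1_c30 LD2_c14 LD3_c52)))))))))))))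
theorem f802694 : Led Lsl_ff (LP (LK LD1_c22 LD2_c0 LD3_c51)) = (LP (LK LD1_c30 LD2_c14 LD3_c52)) :=
  Lgr Lrot23 (Lpe (f802600 IH) (Lpr_ft (f514214 IH) (Lpr_ct (f802687 IH) (Lpn (LP (LK LD1_c30 LD2_c14 LD3_c52))))))
theorem f802612 : Led Lsl_af (LP (LK LD1_c13 LD2_c12 LD3_c5)) = (LP (LK LD1_c22 LD2_c0 LD3_c51)) :=
  Lgr Lrot0 (Lpr_at (f802607 IH) (Lpn (LP (LK LD1_c22 LD2_c0 LD3_c51))))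
theorem f802702 : Led Lsl_gf (LP (LK LD1_c13 LD2_c12 LD3_c5)) = (LP (LK LD1_c22 LD2_c0 LD3_c54)) :=
  Lgr Lrot76 (Lpr_af (f802612 IH) (Lpr_ff (f802694 IH) (Lpe (f802684 IH) (Lpn (LP (LK LD1_c22 LD2_c0 LD3_c54))))))
theorem f802732 : Led Lsl_bf (LP (LK LD1_c22 LD2_c0 LD3_c1)) = (LP (LK LD1_c13 LD2_c23 LD3_c7)) :=
  Lgr Lrot165 (Lpr_gt (f802728 IH) (Lpr_ct (f145173 IH) (Lpe (f802702 IH) (Lpe (f15466 IH) (Lpr_bt (f15465 IH) (Lpr_gt (K2.f15464 IH) (Lpe (K0.f15429 IH) (Lpr_ct (K28.f15462 IH) (Lpr_gt (K46.f15463 IH) (Lpe (K34.f513845 IH) (Lpn (LP (LK LD1_c13 LD2_c23 LD3_c7)))))))))))))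
theorem f513971 : Led Lsl_bt (LP (LK LD1_c13 LD2_c22 LD3_c55)) = (LP (LK LD1_c7 LD2_c3 LD3_c30)) :=
  Lre_b IH (LK LD1_c13 LD2_c22 LD3_c55) (LK LD1_c7 LD2_c3 LD3_c30) Lrfl Lrfl
theorem f802740 : Led Lsl_dt (LP (LK LD1_c22 LD2_c0 LD3_c1)) = (LP (LK LD1_c13 LD2_c22 LD3_c55)) :=
  Lgr Lrot79 (Lpr_bf (f802732 IH) (Lpe (K34.f461627 IH) (Lpe (f513971 IH) (Lpn (LP (LK LD1_c13 LD2_c22 LD3_c55))))))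
theorem f658355 : Led Lsl_ft (LP (LK LD1_c13 LD2_c22 LD3_c55)) = (LP (LK LD1_c7 LD2_c3 LD3_c23)) :=
  Lre_f IH (LK LD1_c13 LD2_c22 LD3_c55) (LK LD1_c7 LD2_c3 LD3_c23) Lrfl Lrfl
theorem f802744 : Led Lsl_ff (LP (LK LD1_c22 LD2_c0 LD3_c1)) = v20722 :=
  Lgr Lrot19 (Lpr_dt (f802740 IH) (Lpr_ft (f658355 IH) (Lpr_dt (f789477 IH) (Lpn v20722))))
theorem f461641 : Led Lsl_bt (LP (LK LD1_c14 LD2_c22 LD3_c55)) = (LP (LK LD1_c7 LD2_c37 LD3_c51)) :=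
  Lre_b IH (LK LD1_c14 LD2_c22 LD3_c55) (LK LD1_c7 LD2_c37 LD3_c51) Lrfl Lrfl
theorem f57283 : Led Lsl_ct (LP (LK LD1_c6 LD2_c43 LD3_c25)) = (LP (LK LD1_c12 LD2_c51 LD3_c40)) :=
  Lre_c IH (LK LD1_c6 LD2_c43 LD3_c25) (LK LD1_c12 LD2_c51 LD3_c40) Lrfl Lrfl
theorem f57311 : Led Lsl_gt (LP (LK LD1_c6 LD2_c43 LD3_c27)) = (LP (LK LD1_c12 LD2_c51 LD3_c44)) :=
  Lre_g IH (LK LD1_c6 LD2_c43 LD3_c27) (LK LD1_c12 LD2_c51 LD3_c44) Lrfl Lrfl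
theorem f57312 : Led Lsl_ct (LP (LK LD1_c12 LD2_c51 LD3_c44)) = (LP (LK LD1_c22 LD2_c0 LD3_c47)) :=
  Lre_c IH (LK LD1_c12 LD2_c51 LD3_c44) (LK LD1_c22 LD2_c0 LD3_c47) Lrfl Lrfl
theorem f802450 : Led Lsl_gt (LP (LK LD1_c22 LD2_c0 LD3_c47)) = (LP (LK LD1_c22 LD2_c24 LD3_c28)) :=
  Lgr Lrot150 (Lpe (f57312 IH) (Lpe (f57311 IH) (Lpe (K6.f57273 IH) (Lpr_gt (f57278 IH) (Lpr_ct (f57283 IH) (Lpr_gt (f802443 IH) (Lpe (f534595 IH) (Lpe (f457903 IH) (Lpe (f475646 IH) (Lpn (LP (LK LD1_c22 LD2_c24 LD3_c28))))))))))))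
theorem f802452 : Led Lsl_gf (LP (LK LD1_c22 LD2_c0 LD3_c47)) = (LP (LK LD1_c22 LD2_c23 LD3_c7)) :=
  Lgr Lrot47 (Lpr_gt (f802450 IH) (Lpr_af (f534299 IH) (Lpe (f534297 IH) (Lpn (LP (LK LD1_c22 LD2_c23 LD3_c7))))))
theorem f802458 : Led Lsl_bt (LP (LK LD1_c12 LD2_c51 LD3_c44)) = (LP (LK LD1_c22 LD2_c0 LD3_c46)) :=
  Lre_b IH (LK LD1_c12 LD2_c51 LD3_c44) (LK LD1_c22 LD2_c0 LD3_c46) Lrfl Lrfl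
theorem f802459 : Led Lsl_gt (LP (LK LD1_c22 LD2_c0 LD3_c46)) = (LP (LK LD1_c14 LD2_c25 LD3_c57)) :=
  Lgr Lrot164 (Lpe (f802458 IH) (Lpr_ct (f57312 IH) (Lpr_gf (f802452 IH) (Lpe (f130052 IH) (Lpr_gf (f534066 IH) (Lpe (f472978 IH) (Lpr_ct (K29.f16045 IH) (Lpe (K33.f472968 IH) (Lpe (K28.f465289 IH) (Lpe (K28.f464112 IH) (Lpn (LP (LK LD1_c14 LD2_c25 LD3_c57)))))))))))))
theorem f461626 : Led Lsl_bt (LP (LK LD1_c7 LD2_c37 LD3_c51)) = (LP (LK LD1_c14 LD2_c22 LD3_c55)) :=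
  Lre_b IH (LK LD1_c7 LD2_c37 LD3_c51) (LK LD1_c14 LD2_c22 LD3_c55) Lrfl Lrfl
theorem f460215 : Led Lsl_bt (LP (LK LD1_c22 LD2_c32 LD3_c53)) = (LP (LK LD1_c13 LD2_c17 LD3_c14)) :=
  Lre_b IH (LK LD1_c22 LD2_c32 LD3_c53) (LK LD1_c13 LD2_c17 LD3_c14) Lrfl Lrfl
theorem f513833 : Led Lsl_ft (LP (LK LD1_c14 LD2_c22 LD3_c55)) = (LP (LK LD1_c22 LD2_c32 LD3_c53)) :=
  Lgr Lrot75 (Lpe (f461626 IH) (Lpr_ff (K34.f513831 IH) (Lpe (f460215 IH) (Lpn (LP (LK LD1_c22 LD2_c32 LD3_c53))))))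
theorem f472299 : Led Lsl_gf (LP (LK LD1_c14 LD2_c22 LD3_c55)) = (LP (LK LD1_c7 LD2_c39 LD3_c27)) :=
  Lgr Lrot124 (Lpe (f461626 IH) (Lpr_ct (K34.f472263 IH) (Lpr_gt (K34.f17069 IH) (Lpe (K41.f15418 IH) (Lpr_bt (K41.f15416 IH) (Lpr_gt (K29.f15394 IH) (Lpr_ct (K29.f17073 IH) (Lpe (K29.f472223 IH) (Lpe (K28.f95192 IH) (Lpr_bt (K28.f96595 IH) (Lpn (LP (LK LD1_c7 LD2_c39 LD3_c27)))))))))))))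
theorem f96577 : Led Lsl_ft (LP (LK LD1_c7 LD2_c39 LD3_c27)) = (LP (LK LD1_c14 LD2_c25 LD3_c57)) :=
  Lre_f IH (LK LD1_c7 LD2_c39 LD3_c27) (LK LD1_c14 LD2_c25 LD3_c57) Lrfl Lrfl
theorem f472157 : Led Lsl_dt (LP (LK LD1_c14 LD2_c10 LD3_c41)) = (LP (LK LD1_c23 LD2_c46 LD3_c7)) :=
  Lre_d IH (LK LD1_c14 LD2_c10 LD3_c41) (LK LD1_c23 LD2_c46 LD3_c7) Lrfl Lrfl
theorem f472189 : Led Lsl_ff (LP (LK LD1_c14 LD2_c17 LD3_c42)) = (LP (LK LD1_c23 LD2_c46 LD3_c7)) :=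
  Lgr Lrot19 (Lpr_dt (K28.f120641 IH) (Lpr_ft (K35.f472182 IH) (Lpr_dt (f472157 IH) (Lpn (LP (LK LD1_c23 LD2_c46 LD3_c7))))))
theorem f425163 : Led Lsl_at (LP (LK LD1_c14 LD2_c17 LD3_c42)) = (LP (LK LD1_c7 LD2_c39 LD3_c27)) :=
  Lgr Lrot100 (Lpr_af (K28.f425161 IH) (Lpn (LP (LK LD1_c7 LD2_c39 LD3_c27))))
theorem f472191 : Led Lsl_at (LP (LK LD1_c14 LD2_c25 LD3_c57)) = (LP (LK LD1_c23 LD2_c46 LD3_c7)) :=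
  Lgr Lrot66 (Lpe (f96577 IH) (Lpe (f425163 IH) (Lpr_ff (f472189 IH) (Lpn (LP (LK LD1_c23 LD2_c46 LD3_c7))))))
theorem f472301 : Led Lsl_gt (LP (LK LD1_c14 LD2_c22 LD3_c55)) = (LP (LK LD1_c23 LD2_c46 LD3_c7)) :=
  Lgr Lrot46 (Lpr_gf (f472299 IH) (Lpr_ft (f96577 IH) (Lpr_at (f472191 IH) (Lpn (LP (LK LD1_c23 LD2_c46 LD3_c7))))))
theorem f96580 : Led Lsl_gt (LP (LK LD1_c14 LD2_c25 LD3_c55)) = (LP (LK LD1_c7 LD2_c39 LD3_c27)) :=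
  Lre_g IH (LK LD1_c14 LD2_c25 LD3_c55) (LK LD1_c7 LD2_c39 LD3_c27) Lrfl Lrfl
theorem f472193 : Led Lsl_gf (LP (LK LD1_c14 LD2_c25 LD3_c55)) = (LP (LK LD1_c23 LD2_c46 LD3_c7)) :=
  Lgr Lrot47 (Lpr_gt (f96580 IH) (Lpe (f425163 IH) (Lpr_ff (f472189 IH) (Lpn (LP (LK LD1_c23 LD2_c46 LD3_c7))))))
theorem f513981 : Led Lsl_af (LP (LK LD1_c14 LD2_c25 LD3_c55)) = (LP (LK LD1_c22 LD2_c32 LD3_c53)) :=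
  Lgr Lrot31 (Lpr_gf (f472193 IH) (Lpe (f472301 IH) (Lpr_ft (f513833 IH) (Lpn (LP (LK LD1_c22 LD2_c32 LD3_c53))))))
theorem f513983 : Led Lsl_at (LP (LK LD1_c14 LD2_c25 LD3_c55)) = (LP (LK LD1_c22 LD2_c32 LD3_c53)) :=
  Lgr Lrot100 (Lpr_af (f513981 IH) (Lpn (LP (LK LD1_c22 LD2_c32 LD3_c53))))
theorem f802463 : Led Lsl_ft (LP (LK LD1_c22 LD2_c0 LD3_c46)) = (LP (LK LD1_c14 LD2_c25 LD3_c55)) :=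
  Lgr Lrot2 (Lpr_gt (f802459 IH) (Lpr_gt (K28.f463898 IH) (Lpe (f513983 IH) (Lpn (LP (LK LD1_c14 LD2_c25 LD3_c55))))))
theorem f802470 : Led Lsl_ff (LP (LK LD1_c22 LD2_c0 LD3_c46)) = (LP (LK LD1_c14 LD2_c25 LD3_c55)) :=
  Lgr Lrot3 (Lpr_ft (f802463 IH) (Lpn (LP (LK LD1_c14 LD2_c25 LD3_c55))))
theorem f802472 : Led Lsl_at (LP (LK LD1_c22 LD2_c0 LD3_c46)) = (LP (LK LD1_c14 LD2_c22 LD3_c55)) :=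
  Lgr Lrot66 (Lpr_ff (f802470 IH) (Lpr_af (f513981 IH) (Lpe (f513833 IH) (Lpn (LP (LK LD1_c14 LD2_c22 LD3_c55))))))
theorem f802734 : Led Lsl_at (LP (LK LD1_c22 LD2_c0 LD3_c1)) = (LP (LK LD1_c12 LD2_c51 LD3_c44)) :=
  Lgr Lrot67 (Lpr_bf (f802732 IH) (Lpe (K34.f461624 IH) (Lpe (f461641 IH) (Lpe (f802472 IH) (Lpe (f802458 IH) (Lpn (LP (LK LD1_c12 LD2_c51 LD3_c44))))))))
theorem f802454 : Led Lsl_ct (LP (LK LD1_c22 LD2_c0 LD3_c47)) = (LP (LK LD1_c12 LD2_c51 LD3_c44)) :=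
  Lre_c IH (LK LD1_c22 LD2_c0 LD3_c47) (LK LD1_c12 LD2_c51 LD3_c44) Lrfl Lrfl
theorem f802455 : Led Lsl_dt (LP (LK LD1_c30 LD2_c15 LD3_c24)) = (LP (LK LD1_c22 LD2_c0 LD3_c47)) :=
  Lre_d IH (LK LD1_c30 LD2_c15 LD3_c24) (LK LD1_c22 LD2_c0 LD3_c47) Lrfl Lrfl
theorem f457602 : Led Lsl_ct (LP (LK LD1_c7 LD2_c43 LD3_c45)) = (LP (LK LD1_c14 LD2_c34 LD3_c24)) :=
  Lre_c IH (LK LD1_c7 LD2_c43 LD3_c45) (LK LD1_c14 LD2_c34 LD3_c24) Lrfl Lrfl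
theorem f457603 : Led Lsl_dt (LP (LK LD1_c14 LD2_c34 LD3_c24)) = (LP (LK LD1_c24 LD2_c17 LD3_c9)) :=
  Lre_d IH (LK LD1_c14 LD2_c34 LD3_c24) (LK LD1_c24 LD2_c17 LD3_c9) Lrfl Lrfl
theorem f802748 : Led Lsl_cf (LP (LK LD1_c30 LD2_c15 LD3_c24)) = (LP (LK LD1_c24 LD2_c17 LD3_c9)) :=
  Lgr Lrot161 (Lpr_dt (f802455 IH) (Lpr_ct (f802454 IH) (Lpe (f802734 IH) (Lpr_ff (f802744 IH) (Lpqs (f802559 IH) (Lpq (f802559 IH) (Lpe (f789479 IH) (Lpr_ct (f457601 IH) (Lpr_dt (K35.f457586 IH) (Lpr_ct (f457602 IH) (Lpr_dt (f457603 IH) (Lpn (LP (LK LD1_c24 LD2_c17 LD3_c9))))))))))))))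
theorem f802751 : Led Lsl_ct (LP (LK LD1_c30 LD2_c15 LD3_c24)) = (LP (LK LD1_c24 LD2_c17 LD3_c9)) :=
  Lgr Lrot59 (Lpr_cf (f802748 IH) (Lpn (LP (LK LD1_c24 LD2_c17 LD3_c9))))
theorem f802456 : Led Lsl_dt (LP (LK LD1_c22 LD2_c0 LD3_c47)) = (LP (LK LD1_c30 LD2_c15 LD3_c24)) :=
  Lre_d IH (LK LD1_c22 LD2_c0 LD3_c47) (LK LD1_c30 LD2_c15 LD3_c24) Lrfl Lrfl
theorem f451222 : Led Lsl_dt (LP (LK LD1_c24 LD2_c17 LD3_c9)) = (LP (LK LD1_c14 LD2_c34 LD3_c24)) :=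
  Lre_d IH (LK LD1_c24 LD2_c17 LD3_c9) (LK LD1_c14 LD2_c34 LD3_c24) Lrfl Lrfl
theorem f451221 : Led Lsl_ct (LP (LK LD1_c14 LD2_c34 LD3_c24)) = (LP (LK LD1_c7 LD2_c43 LD3_c45)) :=
  Lre_c IH (LK LD1_c14 LD2_c34 LD3_c24) (LK LD1_c7 LD2_c43 LD3_c45) Lrfl Lrfl
def v20721 : LQ := Led Lsl_at (LP (LK LD1_c7 LD2_c3 LD3_c23))
theorem f789473 : Led Lsl_at (LP (LK LD1_c7 LD2_c3 LD3_c23)) = v20721 :=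
  Lrfl
theorem f789474 : Led Lsl_af (LP (LK LD1_c7 LD2_c3 LD3_c23)) = v20721 :=
  Lgr Lrot0 (Lpr_at (f789473 IH) (Lpn v20721))
theorem f658351 : Led Lsl_et (LP (LK LD1_c3 LD2_c30 LD3_c41)) = (LP (LK LD1_c7 LD2_c3 LD3_c23)) :=
  Lre_e IH (LK LD1_c3 LD2_c30 LD3_c41) (LK LD1_c7 LD2_c3 LD3_c23) Lrfl Lrfl
theorem f789475 : Led Lsl_ef v6808 = v20721 :=
  Lgr Lrot20 (Lpe (f658589 IH) (Lpr_et (f658351 IH) (Lpr_at (f789473 IH) (Lpn v20721))))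
theorem f789476 : Led Lsl_et v6808 = v20721 :=
  Lgr Lrot87 (Lpr_ef (f789475 IH) (Lpn v20721))
theorem f775953 : Led Lsl_et (LP (LK LD1_c6 LD2_c33 LD3_c34)) = (LP (LK LD1_c12 LD2_c34 LD3_c10)) :=
  Lre_e IH (LK LD1_c6 LD2_c33 LD3_c34) (LK LD1_c12 LD2_c34 LD3_c10) Lrfl Lrfl
theorem f458019 : Led Lsl_dt (LP (LK LD1_c7 LD2_c47 LD3_c26)) = (LP (LK LD1_c3 LD2_c52 LD3_c50)) :=
  Lre_d IH (LK LD1_c7 LD2_c47 LD3_c26) (LK LD1_c3 LD2_c52 LD3_c50) Lrfl Lrfl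
theorem f458018 : Led Lsl_ct (LP (LK LD1_c3 LD2_c52 LD3_c50)) = (LP (LK LD1_c7 LD2_c47 LD3_c4)) :=
  Lre_c IH (LK LD1_c3 LD2_c52 LD3_c50) (LK LD1_c7 LD2_c47 LD3_c4) Lrfl Lrfl
theorem f534040 : Led Lsl_af (LP (LK LD1_c13 LD2_c3 LD3_c32)) = (LP (LK LD1_c13 LD2_c22 LD3_c36)) :=
  Lgr Lrot45 (Lpr_ft (K46.f533205 IH) (Lpe (K46.f111294 IH) (Lpr_ft (K39.f534028 IH) (Lpn (LP (LK LD1_c13 LD2_c22 LD3_c36))))))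
theorem f789384 : Led Lsl_gf (LP (LK LD1_c13 LD2_c3 LD3_c32)) = v20715 :=
  Lgr Lrot76 (Lpr_af (f534040 IH) (Lpe (K39.f534028 IH) (Lpr_gt (f789383 IH) (Lpn v20715))))
theorem f789381 : Led Lsl_cf v6808 = v20715 :=
  Lgr Lrot1 (Lpe (f658589 IH) (Lpr_ct (K35.f457484 IH) (Lpr_at (f789378 IH) (Lpn v20715))))
theorem f801992 : v6808 = (LP (LK LD1_c6 LD2_c33 LD3_c34)) :=
  (Llr Lrot8 (Lpr_cf (f789381 IH) (Lpe (f789384 IH) (Lpr_dt (f533223 IH) (Lpr_gt (f534902 IH) (Lpe (f457999 IH) (Lpe (f458018 IH) (Lpe (f458019 IH) (Lpe (f458054 IH) (Lpr_df (f801986 IH) (Lpe (f58820 IH) (Lpn (LP (LK LD1_c6 LD2_c33 LD3_c34)))))))))))))).symm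
theorem f802022 : v20721 = (LP (LK LD1_c12 LD2_c34 LD3_c10)) :=
  Lefun (Lecon (f789476 IH) (f801992 IH)) (f775953 IH)
theorem f775958 : Led Lsl_ft (LP (LK LD1_c21 LD2_c40 LD3_c28)) = (LP (LK LD1_c12 LD2_c34 LD3_c10)) :=
  Lre_f IH (LK LD1_c21 LD2_c40 LD3_c28) (LK LD1_c12 LD2_c34 LD3_c10) Lrfl Lrfl
theorem f802755 : Led Lsl_df (LP (LK LD1_c12 LD2_c51 LD3_c44)) = (LP (LK LD1_c21 LD2_c40 LD3_c28)) :=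
  Lgr Lrot157 (Lpr_ct (f57312 IH) (Lpr_dt (f802456 IH) (Lpr_ct (f802751 IH) (Lpr_dt (f451222 IH) (Lpr_ct (f451221 IH) (Lpe (f457496 IH) (Lpr_ct (K35.f457631 IH) (Lpr_af (f789474 IH) (Lpqs (f802022 IH) (Lpe (f775958 IH) (Lpn (LP (LK LD1_c21 LD2_c40 LD3_c28)))))))))))))
theorem f775961 : Led Lsl_ft (LP (LK LD1_c12 LD2_c34 LD3_c10)) = (LP (LK LD1_c21 LD2_c40 LD3_c28)) :=
  Lre_f IH (LK LD1_c12 LD2_c34 LD3_c10) (LK LD1_c21 LD2_c40 LD3_c28) Lrfl Lrfl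
theorem f145164 : Led Lsl_dt (LP (LK LD1_c21 LD2_c40 LD3_c27)) = (LP (LK LD1_c12 LD2_c34 LD3_c10)) :=
  Lre_d IH (LK LD1_c21 LD2_c40 LD3_c27) (LK LD1_c12 LD2_c34 LD3_c10) Lrfl Lrfl
theorem f802759 : Led Lsl_ft (LP (LK LD1_c12 LD2_c51 LD3_c44)) = (LP (LK LD1_c21 LD2_c40 LD3_c27)) :=
  Lgr Lrot54 (Lpr_df (f802755 IH) (Lpe (f775961 IH) (Lpe (f145164 IH) (Lpn (LP (LK LD1_c21 LD2_c40 LD3_c27))))))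
theorem f802769 : Led Lsl_ff (LP (LK LD1_c12 LD2_c51 LD3_c44)) = (LP (LK LD1_c21 LD2_c40 LD3_c27)) :=
  Lgr Lrot3 (Lpr_ft (f802759 IH) (Lpn (LP (LK LD1_c21 LD2_c40 LD3_c27))))
theorem f802579 : Led Lsl_af (LP (LK LD1_c21 LD2_c40 LD3_c27)) = (LP (LK LD1_c12 LD2_c51 LD3_c45)) :=
  Lgr Lrot117 (Lpr_dt (f145164 IH) (Lpq (f802022 IH) (Lpe (f789474 IH) (Lpr_dt (f789477 IH) (Lpqs (f802559 IH) (Lpn (LP (LK LD1_c12 LD2_c51 LD3_c45))))))))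
theorem f802730 : Led Lsl_ft (LP (LK LD1_c22 LD2_c0 LD3_c1)) = (LP (LK LD1_c12 LD2_c51 LD3_c45)) :=
  Lgr Lrot2 (Lpr_gt (f802728 IH) (Lpe (f145158 IH) (Lpr_af (f802579 IH) (Lpn (LP (LK LD1_c12 LD2_c51 LD3_c45))))))
theorem f802771 : Led Lsl_at (LP (LK LD1_c12 LD2_c51 LD3_c44)) = (LP (LK LD1_c22 LD2_c0 LD3_c1)) :=
  Lgr Lrot66 (Lpr_ff (f802769 IH) (Lpr_af (f802579 IH) (Lpe (f802730 IH) (Lpn (LP (LK LD1_c22 LD2_c0 LD3_c1))))))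
theorem f802921 : Led Lsl_af (LP (LK LD1_c21 LD2_c40 LD3_c28)) = (LP (LK LD1_c13 LD2_c22 LD3_c55)) :=
  Lgr Lrot117 (Lpe (f802755 IH) (Lpr_at (f802771 IH) (Lpr_dt (f802740 IH) (Lpn (LP (LK LD1_c13 LD2_c22 LD3_c55))))))
theorem f658352 : Led Lsl_ft (LP (LK LD1_c7 LD2_c3 LD3_c23)) = (LP (LK LD1_c13 LD2_c22 LD3_c55)) :=
  Lre_f IH (LK LD1_c7 LD2_c3 LD3_c23) (LK LD1_c13 LD2_c22 LD3_c55) Lrfl Lrfl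
theorem f802925 : Led Lsl_gf (LP (LK LD1_c21 LD2_c40 LD3_c28)) = (LP (LK LD1_c13 LD2_c22 LD3_c53)) :=
  Lgr Lrot76 (Lpr_af (f802921 IH) (Lpe (f658352 IH) (Lpr_gt (f129768 IH) (Lpn (LP (LK LD1_c13 LD2_c22 LD3_c53))))))
theorem f57310 : Led Lsl_ft (LP (LK LD1_c6 LD2_c43 LD3_c27)) = (LP (LK LD1_c12 LD2_c51 LD3_c47)) :=
  Lre_f IH (LK LD1_c6 LD2_c43 LD3_c27) (LK LD1_c12 LD2_c51 LD3_c47) Lrfl Lrfl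
theorem f802723 : Led Lsl_gf (LP (LK LD1_c14 LD2_c41 LD3_c39)) = (LP (LK LD1_c12 LD2_c51 LD3_c44)) :=
  Lgr Lrot76 (Lpr_af (f802719 IH) (Lpe (f57310 IH) (Lpr_gt (f57311 IH) (Lpn (LP (LK LD1_c12 LD2_c51 LD3_c44))))))
theorem f535143 : Led Lsl_dt (LP (LK LD1_c14 LD2_c41 LD3_c39)) = (LP (LK LD1_c7 LD2_c47 LD3_c16)) :=
  Lre_d IH (LK LD1_c14 LD2_c41 LD3_c39) (LK LD1_c7 LD2_c47 LD3_c16) Lrfl Lrfl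
theorem f458062 : Led Lsl_dt (LP (LK LD1_c7 LD2_c47 LD3_c17)) = (LP (LK LD1_c3 LD2_c52 LD3_c47)) :=
  Lre_d IH (LK LD1_c7 LD2_c47 LD3_c17) (LK LD1_c3 LD2_c52 LD3_c47) Lrfl Lrfl
theorem f789517 : Led Lsl_cf (LP (LK LD1_c13 LD2_c22 LD3_c53)) = v20726 :=
  Lgr Lrot11 (Lpr_ct (f789515 IH) (Lpn v20726))
theorem f461575 : Led Lsl_dt (LP (LK LD1_c7 LD2_c3 LD3_c33)) = (LP (LK LD1_c13 LD2_c23 LD3_c12)) :=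
  Lre_d IH (LK LD1_c7 LD2_c3 LD3_c33) (LK LD1_c13 LD2_c23 LD3_c12) Lrfl Lrfl
theorem f802927 : Led Lsl_gf (LP (LK LD1_c7 LD2_c47 LD3_c17)) = (LP (LK LD1_c13 LD2_c23 LD3_c12)) :=
  Lgr Lrot143 (Lpr_dt (f458062 IH) (Lpe (K41.f457990 IH) (Lpe (f535143 IH) (Lpr_gf (f802723 IH) (Lpr_df (f802755 IH) (Lpr_gf (f802925 IH) (Lpr_cf (f789517 IH) (Lpe (f789514 IH) (Lpr_dt (f461575 IH) (Lpn (LP (LK LD1_c13 LD2_c23 LD3_c12))))))))))))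
theorem f473974 : Led Lsl_ct (LP (LK LD1_c7 LD2_c47 LD3_c17)) = (LP (LK LD1_c14 LD2_c41 LD3_c40)) :=
  Lre_c IH (LK LD1_c7 LD2_c47 LD3_c17) (LK LD1_c14 LD2_c41 LD3_c40) Lrfl Lrfl
theorem f667224 : Led Lsl_dt (LP (LK LD1_c14 LD2_c41 LD3_c40)) = (LP (LK LD1_c24 LD2_c26 LD3_c21)) :=
  Lre_d IH (LK LD1_c14 LD2_c41 LD3_c40) (LK LD1_c24 LD2_c26 LD3_c21) Lrfl Lrfl
theorem f461124 : Led Lsl_ct (LP (LK LD1_c22 LD2_c41 LD3_c2)) = (LP (LK LD1_c13 LD2_c23 LD3_c12)) :=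
  Lre_c IH (LK LD1_c22 LD2_c41 LD3_c2) (LK LD1_c13 LD2_c23 LD3_c12) Lrfl Lrfl
theorem f113322 : Led Lsl_ct (LP (LK LD1_c13 LD2_c10 LD3_c30)) = (LP (LK LD1_c22 LD2_c23 LD3_c8)) :=
  Lre_c IH (LK LD1_c13 LD2_c10 LD3_c30) (LK LD1_c22 LD2_c23 LD3_c8) Lrfl Lrfl
theorem f533145 : Led Lsl_gf (LP (LK LD1_c22 LD2_c41 LD3_c2)) = (LP (LK LD1_c22 LD2_c23 LD3_c8)) :=
  Lgr Lrot126 (Lpe (K49.f87998 IH) (Lpr_bt (K49.f87997 IH) (Lpr_gt (K29.f461120 IH) (Lpr_ct (K29.f460169 IH) (Lpe (K29.f468491 IH) (Lpe (K29.f443327 IH) (Lpr_bt (K37.f443323 IH) (Lpr_gt (K34.f533143 IH) (Lpr_bf (K5.f116679 IH) (Lpr_ct (f113322 IH) (Lpn (LP (LK LD1_c22 LD2_c23 LD3_c8)))))))))))))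
theorem f15877 : Led Lsl_dt (LP (LK LD1_c22 LD2_c12 LD3_c28)) = (LP (LK LD1_c30 LD2_c20 LD3_c43)) :=
  Lre_d IH (LK LD1_c22 LD2_c12 LD3_c28) (LK LD1_c30 LD2_c20 LD3_c43) Lrfl Lrfl
theorem f560842 : Led Lsl_et (LP (LK LD1_c14 LD2_c23 LD3_c22)) = (LP (LK LD1_c7 LD2_c38 LD3_c11)) :=
  Lre_e IH (LK LD1_c14 LD2_c23 LD3_c22) (LK LD1_c7 LD2_c38 LD3_c11) Lrfl Lrfl
theorem f560843 : Led Lsl_dt (LP (LK LD1_c14 LD2_c23 LD3_c22)) = (LP (LK LD1_c24 LD2_c1 LD3_c46)) :=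
  Lre_d IH (LK LD1_c14 LD2_c23 LD3_c22) (LK LD1_c24 LD2_c1 LD3_c46) Lrfl Lrfl
theorem f802170 : Led Lsl_gt (LP (LK LD1_c30 LD2_c20 LD3_c43)) = (LP (LK LD1_c24 LD2_c1 LD3_c46)) :=
  Lgr Lrot139 (Lpe (f15877 IH) (Lpr_gf (f802164 IH) (Lpe (K8.f151501 IH) (Lpr_dt (K8.f157359 IH) (Lpr_gf (K8.f162620 IH) (Lpr_df (K8.f157302 IH) (Lpr_et (K8.f144966 IH) (Lpe (K61.f560835 IH) (Lpe (f560842 IH) (Lpr_dt (f560843 IH) (Lpn (LP (LK LD1_c24 LD2_c1 LD3_c46)))))))))))))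
theorem f15879 : Led Lsl_dt (LP (LK LD1_c30 LD2_c20 LD3_c43)) = (LP (LK LD1_c22 LD2_c12 LD3_c28)) :=
  Lre_d IH (LK LD1_c30 LD2_c20 LD3_c43) (LK LD1_c22 LD2_c12 LD3_c28) Lrfl Lrfl
theorem f460725 : Led Lsl_bt (LP (LK LD1_c22 LD2_c33 LD3_c12)) = (LP (LK LD1_c30 LD2_c20 LD3_c43)) :=
  Lgr Lrot95 (Lpe (K34.f17824 IH) (Lpr_bf (K24.f460721 IH) (Lpe (f15879 IH) (Lpn (LP (LK LD1_c30 LD2_c20 LD3_c43))))))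
theorem f17825 : Led Lsl_ct (LP (LK LD1_c22 LD2_c33 LD3_c12)) = (LP (LK LD1_c30 LD2_c34 LD3_c21)) :=
  Lre_c IH (LK LD1_c22 LD2_c33 LD3_c12) (LK LD1_c30 LD2_c34 LD3_c21) Lrfl Lrfl
theorem f460844 : Led Lsl_ct (LP (LK LD1_c30 LD2_c34 LD3_c21)) = (LP (LK LD1_c22 LD2_c33 LD3_c12)) :=
  Lre_c IH (LK LD1_c30 LD2_c34 LD3_c21) (LK LD1_c22 LD2_c33 LD3_c12) Lrfl Lrfl
theorem f512686 : Led Lsl_at (LP (LK LD1_c22 LD2_c13 LD3_c15)) = (LP (LK LD1_c13 LD2_c3 LD3_c27)) :=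
  Lre_a IH (LK LD1_c22 LD2_c13 LD3_c15) (LK LD1_c13 LD2_c3 LD3_c27) Lrfl Lrfl
theorem f512687 : Led Lsl_ft (LP (LK LD1_c30 LD2_c20 LD3_c51)) = (LP (LK LD1_c22 LD2_c13 LD3_c15)) :=
  Lgr Lrot101 (Lpe (f512685 IH) (Lpr_ff (K34.f512683 IH) (Lpe (f512686 IH) (Lpn (LP (LK LD1_c22 LD2_c13 LD3_c15))))))
theorem f512724 : Led Lsl_gt (LP (LK LD1_c30 LD2_c20 LD3_c51)) = (LP (LK LD1_c22 LD2_c13 LD3_c18)) :=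
  Lgr Lrot5 (Lpr_ft (f512687 IH) (Lpr_at (f512686 IH) (Lpe (K48.f91096 IH) (Lpn (LP (LK LD1_c22 LD2_c13 LD3_c18))))))
theorem f512726 : Led Lsl_ct (LP (LK LD1_c22 LD2_c13 LD3_c18)) = (LP (LK LD1_c30 LD2_c21 LD3_c30)) :=
  Lre_c IH (LK LD1_c22 LD2_c13 LD3_c18) (LK LD1_c30 LD2_c21 LD3_c30) Lrfl Lrfl
theorem f564335 : Led Lsl_gf (LP (LK LD1_c30 LD2_c34 LD3_c21)) = (LP (LK LD1_c30 LD2_c21 LD3_c30)) :=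
  Lgr Lrot104 (Lpr_ct (f460844 IH) (Lpe (K34.f17824 IH) (Lpe (K43.f543775 IH) (Lpr_gf (K43.f564333 IH) (Lpe (K7.f116618 IH) (Lpe (K41.f564329 IH) (Lpe (K61.f512696 IH) (Lpr_gt (f512724 IH) (Lpr_ct (f512726 IH) (Lpn (LP (LK LD1_c30 LD2_c21 LD3_c30))))))))))))
theorem f512731 : Led Lsl_bf (LP (LK LD1_c30 LD2_c20 LD3_c51)) = (LP (LK LD1_c22 LD2_c13 LD3_c33)) :=
  Lgr Lrot24 (Lpr_bt (f512729 IH) (Lpn (LP (LK LD1_c22 LD2_c13 LD3_c33))))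
theorem f512733 : Led Lsl_ct (LP (LK LD1_c22 LD2_c13 LD3_c33)) = (LP (LK LD1_c30 LD2_c21 LD3_c50)) :=
  Lre_c IH (LK LD1_c22 LD2_c13 LD3_c33) (LK LD1_c30 LD2_c21 LD3_c50) Lrfl Lrfl
theorem f802174 : Led Lsl_bt (LP (LK LD1_c14 LD2_c23 LD3_c26)) = (LP (LK LD1_c24 LD2_c1 LD3_c46)) :=
  Lre_b IH (LK LD1_c14 LD2_c23 LD3_c26) (LK LD1_c24 LD2_c1 LD3_c46) Lrfl Lrfl
theorem f116742 : Led Lsl_ct (LP (LK LD1_c14 LD2_c23 LD3_c26)) = (LP (LK LD1_c24 LD2_c1 LD3_c51)) :=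
  Lre_c IH (LK LD1_c14 LD2_c23 LD3_c26) (LK LD1_c24 LD2_c1 LD3_c51) Lrfl Lrfl
theorem f802175 : Led Lsl_gf (LP (LK LD1_c30 LD2_c21 LD3_c50)) = (LP (LK LD1_c24 LD2_c1 LD3_c51)) :=
  Lgr Lrot126 (Lpe (f512733 IH) (Lpe (f512731 IH) (Lpr_gt (f512724 IH) (Lpr_ct (f512726 IH) (Lpe (f564335 IH) (Lpe (f17825 IH) (Lpr_bt (f460725 IH) (Lpr_gt (f802170 IH) (Lpe (f802174 IH) (Lpr_ct (f116742 IH) (Lpn (LP (LK LD1_c24 LD2_c1 LD3_c51)))))))))))))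
theorem f476503 : Led Lsl_ct (LP (LK LD1_c30 LD2_c32 LD3_c28)) = (LP (LK LD1_c22 LD2_c29 LD3_c60)) :=
  Lre_c IH (LK LD1_c30 LD2_c32 LD3_c28) (LK LD1_c22 LD2_c29 LD3_c60) Lrfl Lrfl
theorem f514096 : Led Lsl_ft (LP (LK LD1_c22 LD2_c41 LD3_c48)) = (LP (LK LD1_c30 LD2_c32 LD3_c28)) :=
  Lgr Lrot4 (Lpe (K48.f463607 IH) (Lpr_ff (f514094 IH) (Lpe (f476503 IH) (Lpn (LP (LK LD1_c30 LD2_c32 LD3_c28))))))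
theorem f420070 : Led Lsl_ct (LP (LK LD1_c14 LD2_c16 LD3_c3)) = (LP (LK LD1_c23 LD2_c52 LD3_c47)) :=
  Lre_c IH (LK LD1_c14 LD2_c16 LD3_c3) (LK LD1_c23 LD2_c52 LD3_c47) Lrfl Lrfl
theorem f513336 : Led Lsl_at (LP (LK LD1_c23 LD2_c52 LD3_c47)) = (LP (LK LD1_c30 LD2_c32 LD3_c28)) :=
  Lgr Lrot107 (Lpe (f420070 IH) (Lpr_af (f513330 IH) (Lpe (f476503 IH) (Lpn (LP (LK LD1_c30 LD2_c32 LD3_c28))))))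
theorem f513338 : Led Lsl_af (LP (LK LD1_c23 LD2_c52 LD3_c47)) = (LP (LK LD1_c30 LD2_c32 LD3_c28)) :=
  Lgr Lrot0 (Lpr_at (f513336 IH) (Lpn (LP (LK LD1_c30 LD2_c32 LD3_c28))))
theorem f514118 : Led Lsl_gt (LP (LK LD1_c30 LD2_c39 LD3_c38)) = (LP (LK LD1_c23 LD2_c52 LD3_c47)) :=
  Lgr Lrot46 (Lpe (K48.f512455 IH) (Lpr_ft (f514096 IH) (Lpe (f513338 IH) (Lpn (LP (LK LD1_c23 LD2_c52 LD3_c47))))))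
theorem f89821 : Led Lsl_et (LP (LK LD1_c0 LD2_c52 LD3_c30)) = (LP (LK LD1_c1 LD2_c51 LD3_c19)) :=
  Lre_e IH (LK LD1_c0 LD2_c52 LD3_c30) (LK LD1_c1 LD2_c51 LD3_c19) Lrfl Lrfl
theorem f116734 : Led Lsl_et (LP (LK LD1_c7 LD2_c38 LD3_c14)) = (LP (LK LD1_c3 LD2_c48 LD3_c35)) :=
  Lre_e IH (LK LD1_c7 LD2_c38 LD3_c14) (LK LD1_c3 LD2_c48 LD3_c35) Lrfl Lrfl
theorem f116735 : Led Lsl_dt (LP (LK LD1_c7 LD2_c38 LD3_c14)) = (LP (LK LD1_c14 LD2_c23 LD3_c26)) :=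
  Lre_d IH (LK LD1_c7 LD2_c38 LD3_c14) (LK LD1_c14 LD2_c23 LD3_c26) Lrfl Lrfl
theorem f116736 : Led Lsl_dt (LP (LK LD1_c9 LD2_c21 LD3_c19)) = (LP (LK LD1_c17 LD2_c17 LD3_c20)) :=
  Lre_d IH (LK LD1_c9 LD2_c21 LD3_c19) (LK LD1_c17 LD2_c17 LD3_c20) Lrfl Lrfl
theorem f116737 : Led Lsl_gf (LP (LK LD1_c14 LD2_c23 LD3_c26)) = (LP (LK LD1_c17 LD2_c17 LD3_c20)) :=
  Lgr Lrot134 (Lpe (f116735 IH) (Lpr_et (f116734 IH) (Lpr_gt (K61.f116733 IH) (Lpe (f89821 IH) (Lpr_dt (K5.f64306 IH) (Lpr_gt (K4.f116711 IH) (Lpe (K7.f25294 IH) (Lpr_et (K8.f116728 IH) (Lpr_gt (f116729 IH) (Lpr_dt (f116736 IH) (Lpn (LP (LK LD1_c17 LD2_c17 LD3_c20)))))))))))))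
theorem f802181 : Led Lsl_bt (LP (LK LD1_c14 LD2_c16 LD3_c3)) = (LP (LK LD1_c17 LD2_c17 LD3_c20)) :=
  Lgr Lrot130 (Lpr_ct (f420070 IH) (Lpe (f514118 IH) (Lpr_cf (K48.f529490 IH) (Lpr_bt (K48.f488212 IH) (Lpe (f512724 IH) (Lpr_bf (f512731 IH) (Lpr_ct (f512733 IH) (Lpr_gf (f802175 IH) (Lpe (f116742 IH) (Lpr_gf (f116737 IH) (Lpn (LP (LK LD1_c17 LD2_c17 LD3_c20)))))))))))))
theorem f116768 : Led Lsl_et (LP (LK LD1_c17 LD2_c17 LD3_c20)) = (LP (LK LD1_c27 LD2_c6 LD3_c43)) :=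
  Lre_e IH (LK LD1_c17 LD2_c17 LD3_c20) (LK LD1_c27 LD2_c6 LD3_c43) Lrfl Lrfl
theorem f802188 : Led Lsl_bf (LP (LK LD1_c23 LD2_c52 LD3_c48)) = (LP (LK LD1_c27 LD2_c6 LD3_c43)) :=
  Lgr Lrot96 (Lpr_et (f477645 IH) (Lpr_bt (f802181 IH) (Lpr_et (f116768 IH) (Lpn (LP (LK LD1_c27 LD2_c6 LD3_c43))))))
theorem f476544 : Led Lsl_et (LP (LK LD1_c30 LD2_c39 LD3_c14)) = (LP (LK LD1_c22 LD2_c41 LD3_c23)) :=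
  Lre_e IH (LK LD1_c30 LD2_c39 LD3_c14) (LK LD1_c22 LD2_c41 LD3_c23) Lrfl Lrfl
theorem f513310 : Led Lsl_dt (LP (LK LD1_c23 LD2_c52 LD3_c48)) = (LP (LK LD1_c30 LD2_c39 LD3_c14)) :=
  Lgr Lrot77 (Lpe (f419663 IH) (Lpe (K48.f419662 IH) (Lpr_ef (K34.f513304 IH) (Lpe (K47.f476535 IH) (Lpe (f476544 IH) (Lpn (LP (LK LD1_c30 LD2_c39 LD3_c14))))))))
theorem f116754 : Led Lsl_et (LP (LK LD1_c14 LD2_c23 LD3_c7)) = (LP (LK LD1_c24 LD2_c1 LD3_c32)) :=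
  Lre_e IH (LK LD1_c14 LD2_c23 LD3_c7) (LK LD1_c24 LD2_c1 LD3_c32) Lrfl Lrfl
theorem f116743 : Led Lsl_dt (LP (LK LD1_c17 LD2_c17 LD3_c20)) = (LP (LK LD1_c9 LD2_c21 LD3_c19)) :=
  Lre_d IH (LK LD1_c17 LD2_c17 LD3_c20) (LK LD1_c9 LD2_c21 LD3_c19) Lrfl Lrfl
theorem f116746 : Led Lsl_et (LP (LK LD1_c27 LD2_c6 LD3_c43)) = (LP (LK LD1_c17 LD2_c17 LD3_c20)) :=
  Lre_e IH (LK LD1_c27 LD2_c6 LD3_c43) (LK LD1_c17 LD2_c17 LD3_c20) Lrfl Lrfl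
theorem f116755 : Led Lsl_dt (LP (LK LD1_c24 LD2_c1 LD3_c32)) = (LP (LK LD1_c27 LD2_c6 LD3_c43)) :=
  Lgr Lrot77 (Lpe (f116754 IH) (Lpr_df (f116731 IH) (Lpe (f116747 IH) (Lpe (f116743 IH) (Lpe (f116746 IH) (Lpn (LP (LK LD1_c27 LD2_c6 LD3_c43))))))))
theorem f802208 : Led Lsl_bt (LP (LK LD1_c30 LD2_c39 LD3_c14)) = (LP (LK LD1_c24 LD2_c1 LD3_c32)) :=
  Lgr Lrot95 (Lpe (f513310 IH) (Lpr_bf (f802188 IH) (Lpe (f116755 IH) (Lpn (LP (LK LD1_c24 LD2_c1 LD3_c32))))))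
theorem f116766 : Led Lsl_et (LP (LK LD1_c24 LD2_c1 LD3_c32)) = (LP (LK LD1_c14 LD2_c23 LD3_c7)) :=
  Lre_e IH (LK LD1_c24 LD2_c1 LD3_c32) (LK LD1_c14 LD2_c23 LD3_c7) Lrfl Lrfl
theorem f802216 : Led Lsl_bf (LP (LK LD1_c22 LD2_c41 LD3_c23)) = (LP (LK LD1_c14 LD2_c23 LD3_c7)) :=
  Lgr Lrot96 (Lpr_et (f476536 IH) (Lpr_bt (f802208 IH) (Lpr_et (f116766 IH) (Lpn (LP (LK LD1_c14 LD2_c23 LD3_c7))))))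
theorem f512811 : Led Lsl_ff (LP (LK LD1_c7 LD2_c43 LD3_c43)) = (LP (LK LD1_c14 LD2_c32 LD3_c48)) :=
  Lgr Lrot23 (Lpr_ct (K34.f486033 IH) (Lpr_ft (K34.f512807 IH) (Lpr_ct (K34.f90995 IH) (Lpn (LP (LK LD1_c14 LD2_c32 LD3_c48))))))
theorem f17103 : Led Lsl_et (LP (LK LD1_c7 LD2_c43 LD3_c47)) = (LP (LK LD1_c3 LD2_c51 LD3_c11)) :=
  Lre_e IH (LK LD1_c7 LD2_c43 LD3_c47) (LK LD1_c3 LD2_c51 LD3_c11) Lrfl Lrfl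
theorem f512853 : Led Lsl_ft (LP (LK LD1_c14 LD2_c32 LD3_c46)) = (LP (LK LD1_c24 LD2_c15 LD3_c10)) :=
  Lre_f IH (LK LD1_c14 LD2_c32 LD3_c46) (LK LD1_c24 LD2_c15 LD3_c10) Lrfl Lrfl
theorem f512854 : Led Lsl_ef (LP (LK LD1_c14 LD2_c34 LD3_c31)) = (LP (LK LD1_c24 LD2_c15 LD3_c10)) :=
  Lgr Lrot21 (Lpr_ft (K34.f457526 IH) (Lpr_et (f17103 IH) (Lpr_ft (K34.f512847 IH) (Lpr_et (K61.f512835 IH) (Lpr_ft (f512853 IH) (Lpn (LP (LK LD1_c24 LD2_c15 LD3_c10))))))))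
theorem f17104 : Led Lsl_et (LP (LK LD1_c7 LD2_c43 LD3_c44)) = (LP (LK LD1_c3 LD2_c51 LD3_c10)) :=
  Lre_e IH (LK LD1_c7 LD2_c43 LD3_c44) (LK LD1_c3 LD2_c51 LD3_c10) Lrfl Lrfl
theorem f512815 : Led Lsl_ft (LP (LK LD1_c14 LD2_c34 LD3_c22)) = (LP (LK LD1_c7 LD2_c43 LD3_c44)) :=
  Lre_f IH (LK LD1_c14 LD2_c34 LD3_c22) (LK LD1_c7 LD2_c43 LD3_c44) Lrfl Lrfl
theorem f91021 : Led Lsl_ft (LP (LK LD1_c14 LD2_c32 LD3_c49)) = (LP (LK LD1_c24 LD2_c15 LD3_c16)) :=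
  Lre_f IH (LK LD1_c14 LD2_c32 LD3_c49) (LK LD1_c24 LD2_c15 LD3_c16) Lrfl Lrfl
theorem f512816 : Led Lsl_ef (LP (LK LD1_c14 LD2_c34 LD3_c22)) = (LP (LK LD1_c24 LD2_c15 LD3_c16)) :=
  Lgr Lrot21 (Lpr_ft (f512815 IH) (Lpr_et (f17104 IH) (Lpr_ft (K34.f512807 IH) (Lpr_et (K34.f90998 IH) (Lpr_ft (f91021 IH) (Lpn (LP (LK LD1_c24 LD2_c15 LD3_c16))))))))
theorem f512856 : Led Lsl_at (LP (LK LD1_c14 LD2_c34 LD3_c22)) = (LP (LK LD1_c24 LD2_c15 LD3_c10)) :=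
  Lgr Lrot80 (Lpr_ef (f512816 IH) (Lpe (K34.f512767 IH) (Lpr_ef (f512854 IH) (Lpn (LP (LK LD1_c24 LD2_c15 LD3_c10))))))
theorem f512858 : Led Lsl_af (LP (LK LD1_c14 LD2_c34 LD3_c22)) = (LP (LK LD1_c24 LD2_c15 LD3_c10)) :=
  Lgr Lrot0 (Lpr_at (f512856 IH) (Lpn (LP (LK LD1_c24 LD2_c15 LD3_c10))))
theorem f512867 : Led Lsl_at (LP (LK LD1_c7 LD2_c43 LD3_c44)) = (LP (LK LD1_c14 LD2_c32 LD3_c46)) :=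
  Lgr Lrot66 (Lpe (f512815 IH) (Lpr_af (f512858 IH) (Lpe (f512853 IH) (Lpn (LP (LK LD1_c14 LD2_c32 LD3_c46))))))
theorem f512872 : Led Lsl_ct (LP (LK LD1_c14 LD2_c34 LD3_c19)) = (LP (LK LD1_c7 LD2_c43 LD3_c44)) :=
  Lre_c IH (LK LD1_c14 LD2_c34 LD3_c19) (LK LD1_c7 LD2_c43 LD3_c44) Lrfl Lrfl
theorem f512873 : Led Lsl_ct (LP (LK LD1_c14 LD2_c32 LD3_c46)) = (LP (LK LD1_c24 LD2_c15 LD3_c8)) :=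
  Lre_c IH (LK LD1_c14 LD2_c32 LD3_c46) (LK LD1_c24 LD2_c15 LD3_c8) Lrfl Lrfl
theorem f512874 : Led Lsl_af (LP (LK LD1_c14 LD2_c34 LD3_c19)) = (LP (LK LD1_c24 LD2_c15 LD3_c8)) :=
  Lgr Lrot68 (Lpr_ct (f512872 IH) (Lpr_at (f512867 IH) (Lpr_ct (f512873 IH) (Lpn (LP (LK LD1_c24 LD2_c15 LD3_c8))))))
theorem f512886 : Led Lsl_et (LP (LK LD1_c14 LD2_c34 LD3_c19)) = (LP (LK LD1_c7 LD2_c43 LD3_c43)) :=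
  Lre_e IH (LK LD1_c14 LD2_c34 LD3_c19) (LK LD1_c7 LD2_c43 LD3_c43) Lrfl Lrfl
theorem f512887 : Led Lsl_et (LP (LK LD1_c14 LD2_c32 LD3_c45)) = (LP (LK LD1_c24 LD2_c15 LD3_c8)) :=
  Lre_e IH (LK LD1_c14 LD2_c32 LD3_c45) (LK LD1_c24 LD2_c15 LD3_c8) Lrfl Lrfl
theorem f512888 : Led Lsl_at (LP (LK LD1_c7 LD2_c43 LD3_c43)) = (LP (LK LD1_c14 LD2_c32 LD3_c45)) :=
  Lgr Lrot80 (Lpe (f512886 IH) (Lpr_af (f512874 IH) (Lpe (f512887 IH) (Lpn (LP (LK LD1_c14 LD2_c32 LD3_c45))))))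
theorem f512906 : Led Lsl_gf (LP (LK LD1_c14 LD2_c32 LD3_c45)) = (LP (LK LD1_c14 LD2_c52 LD3_c30)) :=
  Lgr Lrot76 (Lpe (f512888 IH) (Lpr_ff (f512811 IH) (Lpr_gt (K34.f512904 IH) (Lpn (LP (LK LD1_c14 LD2_c52 LD3_c30))))))
theorem f91056 : Led Lsl_bt (LP (LK LD1_c14 LD2_c32 LD3_c49)) = (LP (LK LD1_c24 LD2_c15 LD3_c12)) :=
  Lre_b IH (LK LD1_c14 LD2_c32 LD3_c49) (LK LD1_c24 LD2_c15 LD3_c12) Lrfl Lrfl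
theorem f457523 : Led Lsl_dt (LP (LK LD1_c13 LD2_c22 LD3_c40)) = (LP (LK LD1_c7 LD2_c43 LD3_c47)) :=
  Lgr Lrot42 (Lpr_df (K34.f457507 IH) (Lpn (LP (LK LD1_c7 LD2_c43 LD3_c47))))
theorem f512755 : Led Lsl_at (LP (LK LD1_c7 LD2_c43 LD3_c47)) = (LP (LK LD1_c14 LD2_c32 LD3_c49)) :=
  Lgr Lrot51 (Lpe (f457523 IH) (Lpr_af (K34.f512749 IH) (Lpe (K34.f91002 IH) (Lpn (LP (LK LD1_c14 LD2_c32 LD3_c49))))))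
theorem f457518 : Led Lsl_bt (LP (LK LD1_c14 LD2_c34 LD3_c25)) = (LP (LK LD1_c7 LD2_c43 LD3_c47)) :=
  Lre_b IH (LK LD1_c14 LD2_c34 LD3_c25) (LK LD1_c7 LD2_c43 LD3_c47) Lrfl Lrfl
theorem f457577 : Led Lsl_at (LP (LK LD1_c24 LD2_c17 LD3_c7)) = (LP (LK LD1_c14 LD2_c34 LD3_c25)) :=
  Lre_a IH (LK LD1_c24 LD2_c17 LD3_c7) (LK LD1_c14 LD2_c34 LD3_c25) Lrfl Lrfl
theorem f564850 : Led Lsl_bt (LP (LK LD1_c31 LD2_c25 LD3_c60)) = (LP (LK LD1_c24 LD2_c17 LD3_c7)) :=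
  Lgr Lrot62 (Lpr_af (K41.f564848 IH) (Lpe (f91056 IH) (Lpe (f512755 IH) (Lpe (f457518 IH) (Lpe (f457577 IH) (Lpn (LP (LK LD1_c24 LD2_c17 LD3_c7))))))))
theorem f616106 : Led Lsl_bf (LP (LK LD1_c31 LD2_c25 LD3_c60)) = (LP (LK LD1_c24 LD2_c17 LD3_c7)) :=
  Lgr Lrot24 (Lpr_bt (f564850 IH) (Lpn (LP (LK LD1_c24 LD2_c17 LD3_c7))))
theorem f533576 : Led Lsl_et (LP (LK LD1_c14 LD2_c34 LD3_c23)) = (LP (LK LD1_c24 LD2_c17 LD3_c7)) :=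
  Lre_e IH (LK LD1_c14 LD2_c34 LD3_c23) (LK LD1_c24 LD2_c17 LD3_c7) Lrfl Lrfl
theorem f616109 : Led Lsl_bt (LP (LK LD1_c24 LD2_c14 LD3_c21)) = (LP (LK LD1_c14 LD2_c34 LD3_c23)) :=
  Lgr Lrot119 (Lpe (K41.f564616 IH) (Lpr_bf (f616106 IH) (Lpe (f533576 IH) (Lpn (LP (LK LD1_c14 LD2_c34 LD3_c23))))))
theorem f616114 : Led Lsl_gf (LP (LK LD1_c13 LD2_c10 LD3_c30)) = (LP (LK LD1_c14 LD2_c34 LD3_c23)) :=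
  Lgr Lrot181 (Lpr_ct (f113322 IH) (Lpe (f533145 IH) (Lpe (K49.f87998 IH) (Lpr_bt (K49.f87997 IH) (Lpr_gt (K29.f461120 IH) (Lpe (K29.f460154 IH) (Lpr_ct (K29.f460299 IH) (Lpr_gt (K35.f460354 IH) (Lpe (K41.f564837 IH) (Lpr_bt (f616109 IH) (Lpn (LP (LK LD1_c14 LD2_c34 LD3_c23)))))))))))))
theorem f457630 : Led Lsl_at (LP (LK LD1_c14 LD2_c34 LD3_c23)) = (LP (LK LD1_c7 LD2_c43 LD3_c45)) :=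
  Lre_a IH (LK LD1_c14 LD2_c34 LD3_c23) (LK LD1_c7 LD2_c43 LD3_c45) Lrfl Lrfl
theorem f533574 : Led Lsl_ft (LP (LK LD1_c24 LD2_c0 LD3_c29)) = (LP (LK LD1_c14 LD2_c34 LD3_c23)) :=
  Lgr Lrot101 (Lpr_af (K35.f533568 IH) (Lpe (K35.f512840 IH) (Lpe (f457630 IH) (Lpn (LP (LK LD1_c14 LD2_c34 LD3_c23))))))
theorem f533578 : Led Lsl_ff (LP (LK LD1_c24 LD2_c0 LD3_c29)) = (LP (LK LD1_c14 LD2_c34 LD3_c23)) :=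
  Lgr Lrot3 (Lpr_ft (f533574 IH) (Lpn (LP (LK LD1_c14 LD2_c34 LD3_c23))))
theorem f533570 : Led Lsl_at (LP (LK LD1_c24 LD2_c0 LD3_c29)) = (LP (LK LD1_c14 LD2_c32 LD3_c44)) :=
  Lgr Lrot100 (Lpr_af (K35.f533568 IH) (Lpn (LP (LK LD1_c14 LD2_c32 LD3_c44))))
theorem f616118 : Led Lsl_gt (LP (LK LD1_c13 LD2_c10 LD3_c30)) = (LP (LK LD1_c14 LD2_c32 LD3_c44)) :=
  Lgr Lrot46 (Lpr_gf (f616114 IH) (Lpe (f533578 IH) (Lpr_at (f533570 IH) (Lpn (LP (LK LD1_c14 LD2_c32 LD3_c44))))))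
theorem f534608 : Led Lsl_ft (LP (LK LD1_c13 LD2_c10 LD3_c30)) = (LP (LK LD1_c14 LD2_c34 LD3_c4)) :=
  Lgr Lrot54 (Lpe (K5.f113012 IH) (Lpr_ff (K46.f534600 IH) (Lpe (f534607 IH) (Lpn (LP (LK LD1_c14 LD2_c34 LD3_c4))))))
theorem f534812 : Led Lsl_gt (LP (LK LD1_c24 LD2_c0 LD3_c29)) = (LP (LK LD1_c14 LD2_c34 LD3_c4)) :=
  Lgr Lrot5 (Lpr_ft (f533574 IH) (Lpr_at (f457630 IH) (Lpr_gf (f534810 IH) (Lpn (LP (LK LD1_c14 LD2_c34 LD3_c4))))))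
theorem f534815 : Led Lsl_at (LP (LK LD1_c24 LD2_c0 LD3_c31)) = (LP (LK LD1_c14 LD2_c34 LD3_c4)) :=
  Lgr Lrot26 (Lpe (K49.f130043 IH) (Lpr_gt (K35.f204039 IH) (Lpr_gt (f534812 IH) (Lpn (LP (LK LD1_c14 LD2_c34 LD3_c4))))))
theorem f534817 : Led Lsl_af (LP (LK LD1_c24 LD2_c0 LD3_c31)) = (LP (LK LD1_c14 LD2_c34 LD3_c4)) :=
  Lgr Lrot0 (Lpr_at (f534815 IH) (Lpn (LP (LK LD1_c14 LD2_c34 LD3_c4))))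
theorem f616120 : Led Lsl_gf (LP (LK LD1_c24 LD2_c0 LD3_c31)) = (LP (LK LD1_c14 LD2_c32 LD3_c44)) :=
  Lgr Lrot76 (Lpr_af (f534817 IH) (Lpe (f534608 IH) (Lpr_gt (f616118 IH) (Lpn (LP (LK LD1_c14 LD2_c32 LD3_c44))))))
theorem f802223 : Led Lsl_gt (LP (LK LD1_c30 LD2_c39 LD3_c10)) = (LP (LK LD1_c24 LD2_c1 LD3_c31)) :=
  Lgr Lrot149 (Lpr_cf (K49.f534373 IH) (Lpr_gf (f616120 IH) (Lpe (K35.f472479 IH) (Lpr_ct (K34.f458209 IH) (Lpr_gf (f512906 IH) (Lpe (K34.f96843 IH) (Lpe (K34.f96840 IH) (Lpr_gf (f513302 IH) (Lpr_bf (f802216 IH) (Lpr_ct (f116750 IH) (Lpn (LP (LK LD1_c24 LD2_c1 LD3_c31)))))))))))))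
theorem f802628 : Led Lsl_gt (LP (LK LD1_c24 LD2_c26 LD3_c46)) = (LP (LK LD1_c22 LD2_c0 LD3_c53)) :=
  Lgr Lrot180 (Lpr_ct (K49.f475488 IH) (Lpr_gt (f476036 IH) (Lpe (f802517 IH) (Lpr_gt (f802223 IH) (Lpr_dt (f116751 IH) (Lpr_ct (f802594 IH) (Lpe (f802627 IH) (Lpe (f57298 IH) (Lpe (f57295 IH) (Lpn (LP (LK LD1_c22 LD2_c0 LD3_c53))))))))))))
theorem f802931 : Led Lsl_cf (LP (LK LD1_c24 LD2_c26 LD3_c21)) = (LP (LK LD1_c22 LD2_c0 LD3_c53)) :=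
  Lgr Lrot99 (Lpe (f667224 IH) (Lpe (f473974 IH) (Lpr_gf (f802927 IH) (Lpe (f461124 IH) (Lpr_gf (f533145 IH) (Lpe (K49.f534276 IH) (Lpr_gt (K49.f460078 IH) (Lpr_ct (K34.f475550 IH) (Lpr_gt (f802628 IH) (Lpn (LP (LK LD1_c22 LD2_c0 LD3_c53))))))))))))
theorem f802934 : Led Lsl_ct (LP (LK LD1_c24 LD2_c26 LD3_c21)) = (LP (LK LD1_c22 LD2_c0 LD3_c53)) :=
  Lgr Lrot59 (Lpr_cf (f802931 IH) (Lpn (LP (LK LD1_c22 LD2_c0 LD3_c53))))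
theorem f57290 : Led Lsl_ct (LP (LK LD1_c12 LD2_c51 LD3_c46)) = (LP (LK LD1_c6 LD2_c43 LD3_c27)) :=
  Lre_c IH (LK LD1_c12 LD2_c51 LD3_c46) (LK LD1_c6 LD2_c43 LD3_c27) Lrfl Lrfl
theorem f64433 : Led Lsl_ct (LP (LK LD1_c7 LD2_c38 LD3_c1)) = (LP (LK LD1_c14 LD2_c23 LD3_c8)) :=
  Lre_c IH (LK LD1_c7 LD2_c38 LD3_c1) (LK LD1_c14 LD2_c23 LD3_c8) Lrfl Lrfl
theorem f87630 : Led Lsl_dt (LP (LK LD1_c4 LD2_c47 LD3_c49)) = (LP (LK LD1_c9 LD2_c28 LD3_c35)) :=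
  Lre_d IH (LK LD1_c4 LD2_c47 LD3_c49) (LK LD1_c9 LD2_c28 LD3_c35) Lrfl Lrfl
theorem f64423 : Led Lsl_dt (LP (LK LD1_c7 LD2_c38 LD3_c1)) = (LP (LK LD1_c3 LD2_c48 LD3_c31)) :=
  Lre_d IH (LK LD1_c7 LD2_c38 LD3_c1) (LK LD1_c3 LD2_c48 LD3_c31) Lrfl Lrfl
theorem f437206 : Led Lsl_at (LP (LK LD1_c9 LD2_c28 LD3_c35)) = (LP (LK LD1_c7 LD2_c38 LD3_c1)) :=
  Lgr Lrot51 (Lpe (f87630 IH) (Lpr_af (f437202 IH) (Lpe (f64423 IH) (Lpn (LP (LK LD1_c7 LD2_c38 LD3_c1))))))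
theorem f87649 : Led Lsl_ct (LP (LK LD1_c17 LD2_c28 LD3_c36)) = (LP (LK LD1_c9 LD2_c28 LD3_c35)) :=
  Lre_c IH (LK LD1_c17 LD2_c28 LD3_c36) (LK LD1_c9 LD2_c28 LD3_c35) Lrfl Lrfl
theorem f437211 : Led Lsl_af (LP (LK LD1_c17 LD2_c28 LD3_c36)) = (LP (LK LD1_c14 LD2_c23 LD3_c8)) :=
  Lgr Lrot68 (Lpr_ct (f87649 IH) (Lpr_at (f437206 IH) (Lpr_ct (f64433 IH) (Lpn (LP (LK LD1_c14 LD2_c23 LD3_c8))))))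
theorem f437213 : Led Lsl_at (LP (LK LD1_c17 LD2_c28 LD3_c36)) = (LP (LK LD1_c14 LD2_c23 LD3_c8)) :=
  Lgr Lrot100 (Lpr_af (f437211 IH) (Lpn (LP (LK LD1_c14 LD2_c23 LD3_c8))))
theorem f802937 : Led Lsl_ft (LP (LK LD1_c14 LD2_c41 LD3_c40)) = (LP (LK LD1_c17 LD2_c28 LD3_c36)) :=
  Lgr Lrot142 (Lpr_dt (f667224 IH) (Lpr_ct (f802934 IH) (Lpr_dt (f57295 IH) (Lpr_ct (f57290 IH) (Lpr_dt (f57304 IH) (Lpr_ct (f64420 IH) (Lpr_dt (f64432 IH) (Lpr_ct (f64433 IH) (Lpe (f437213 IH) (Lpn (LP (LK LD1_c17 LD2_c28 LD3_c36))))))))))))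
theorem f802929 : Led Lsl_gt (LP (LK LD1_c14 LD2_c41 LD3_c40)) = (LP (LK LD1_c14 LD2_c34 LD3_c24)) :=
  Lgr Lrot150 (Lpe (f473974 IH) (Lpr_gf (f802927 IH) (Lpe (f461575 IH) (Lpr_gt (K35.f450709 IH) (Lpr_ct (K35.f629026 IH) (Lpr_gt (K35.f457606 IH) (Lpr_ct (f457601 IH) (Lpr_df (f457496 IH) (Lpe (f451221 IH) (Lpn (LP (LK LD1_c14 LD2_c34 LD3_c24))))))))))))
theorem f802946 : Led Lsl_gt (LP (LK LD1_c14 LD2_c34 LD3_c24)) = (LP (LK LD1_c14 LD2_c23 LD3_c8)) :=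
  Lgr Lrot46 (Lpe (f802929 IH) (Lpr_ft (f802937 IH) (Lpr_at (f437213 IH) (Lpn (LP (LK LD1_c14 LD2_c23 LD3_c8))))))
theorem f451220 : Led Lsl_bt (LP (LK LD1_c7 LD2_c43 LD3_c45)) = (LP (LK LD1_c3 LD2_c51 LD3_c11)) :=
  Lre_b IH (LK LD1_c7 LD2_c43 LD3_c45) (LK LD1_c3 LD2_c51 LD3_c11) Lrfl Lrfl
theorem f512849 : Led Lsl_ff (LP (LK LD1_c7 LD2_c43 LD3_c45)) = (LP (LK LD1_c14 LD2_c32 LD3_c44)) :=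
  Lgr Lrot25 (Lpr_bt (f451220 IH) (Lpr_ft (K34.f512847 IH) (Lpr_bt (K35.f472479 IH) (Lpn (LP (LK LD1_c14 LD2_c32 LD3_c44))))))
theorem f446528 : Led Lsl_ct (LP (LK LD1_c24 LD2_c15 LD3_c5)) = (LP (LK LD1_c14 LD2_c32 LD3_c44)) :=
  Lre_c IH (LK LD1_c24 LD2_c15 LD3_c5) (LK LD1_c14 LD2_c32 LD3_c44) Lrfl Lrfl
theorem f512918 : Led Lsl_ft (LP (LK LD1_c14 LD2_c34 LD3_c24)) = (LP (LK LD1_c24 LD2_c15 LD3_c5)) :=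
  Lgr Lrot4 (Lpe (f457602 IH) (Lpr_ff (f512849 IH) (Lpe (f446528 IH) (Lpn (LP (LK LD1_c24 LD2_c15 LD3_c5))))))
theorem f116759 : Led Lsl_gt (LP (LK LD1_c14 LD2_c23 LD3_c8)) = (LP (LK LD1_c24 LD2_c1 LD3_c33)) :=
  Lre_g IH (LK LD1_c14 LD2_c23 LD3_c8) (LK LD1_c24 LD2_c1 LD3_c33) Lrfl Lrfl
theorem f802948 : Led Lsl_at (LP (LK LD1_c24 LD2_c15 LD3_c5)) = (LP (LK LD1_c24 LD2_c1 LD3_c33)) :=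
  Lgr Lrot26 (Lpe (f512918 IH) (Lpr_gt (f802946 IH) (Lpr_gt (f116759 IH) (Lpn (LP (LK LD1_c24 LD2_c1 LD3_c33))))))
theorem f457604 : Led Lsl_at (LP (LK LD1_c24 LD2_c17 LD3_c6)) = (LP (LK LD1_c14 LD2_c34 LD3_c24)) :=
  Lre_a IH (LK LD1_c24 LD2_c17 LD3_c6) (LK LD1_c14 LD2_c34 LD3_c24) Lrfl Lrfl
theorem f802959 : Led Lsl_ff (LP (LK LD1_c24 LD2_c17 LD3_c6)) = (LP (LK LD1_c24 LD2_c1 LD3_c33)) :=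
  Lgr Lrot30 (Lpr_at (f457604 IH) (Lpr_ft (f512918 IH) (Lpr_at (f802948 IH) (Lpn (LP (LK LD1_c24 LD2_c1 LD3_c33))))))
theorem f802971 : Led Lsl_gf (LP (LK LD1_c14 LD2_c41 LD3_c40)) = (LP (LK LD1_c24 LD2_c1 LD3_c33)) :=
  Lgr Lrot47 (Lpr_gt (f802929 IH) (Lpe (f457604 IH) (Lpr_ff (f802959 IH) (Lpn (LP (LK LD1_c24 LD2_c1 LD3_c33))))))
theorem f512921 : Led Lsl_ct (LP (LK LD1_c24 LD2_c17 LD3_c6)) = (LP (LK LD1_c14 LD2_c34 LD3_c23)) :=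
  Lre_c IH (LK LD1_c24 LD2_c17 LD3_c6) (LK LD1_c14 LD2_c34 LD3_c23) Lrfl Lrfl
theorem f802964 : Led Lsl_ct (LP (LK LD1_c24 LD2_c0 LD3_c29)) = (LP (LK LD1_c24 LD2_c1 LD3_c33)) :=
  Lgr Lrot40 (Lpr_ff (f533578 IH) (Lpe (f512921 IH) (Lpr_ff (f802959 IH) (Lpn (LP (LK LD1_c24 LD2_c1 LD3_c33))))))
theorem f531194 : Led Lsl_dt (LP (LK LD1_c3 LD2_c51 LD3_c8)) = (LP (LK LD1_c7 LD2_c43 LD3_c39)) :=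
  Lre_d IH (LK LD1_c3 LD2_c51 LD3_c8) (LK LD1_c7 LD2_c43 LD3_c39) Lrfl Lrfl
theorem f803035 : Led Lsl_gt (LP (LK LD1_c24 LD2_c26 LD3_c21)) = (LP (LK LD1_c24 LD2_c16 LD3_c43)) :=
  Lgr Lrot49 (Lpe (f667224 IH) (Lpr_gf (f802971 IH) (Lpe (f802964 IH) (Lpr_gt (f534812 IH) (Lpr_dt (f534607 IH) (Lpr_gt (K35.f527276 IH) (Lpr_dt (f531194 IH) (Lpe (f527406 IH) (Lpe (f527407 IH) (Lpn (LP (LK LD1_c24 LD2_c16 LD3_c43))))))))))))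
theorem f475611 : Led Lsl_ff (LP (LK LD1_c24 LD2_c25 LD3_c45)) = (LP (LK LD1_c22 LD2_c24 LD3_c30)) :=
  Lgr Lrot3 (Lpr_ft (K34.f475598 IH) (Lpn (LP (LK LD1_c22 LD2_c24 LD3_c30))))
theorem f475616 : Led Lsl_at (LP (LK LD1_c24 LD2_c25 LD3_c45)) = (LP (LK LD1_c14 LD2_c41 LD3_c17)) :=
  Lre_a IH (LK LD1_c24 LD2_c25 LD3_c45) (LK LD1_c14 LD2_c41 LD3_c17) Lrfl Lrfl
theorem f475496 : Led Lsl_gt (LP (LK LD1_c24 LD2_c25 LD3_c51)) = (LP (LK LD1_c14 LD2_c41 LD3_c17)) :=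
  Lre_g IH (LK LD1_c24 LD2_c25 LD3_c51) (LK LD1_c14 LD2_c41 LD3_c17) Lrfl Lrfl
theorem f475621 : Led Lsl_gf (LP (LK LD1_c24 LD2_c25 LD3_c51)) = (LP (LK LD1_c22 LD2_c24 LD3_c30)) :=
  Lgr Lrot47 (Lpr_gt (f475496 IH) (Lpe (f475616 IH) (Lpr_ff (f475611 IH) (Lpn (LP (LK LD1_c22 LD2_c24 LD3_c30))))))
theorem f802424 : Led Lsl_cf (LP (LK LD1_c30 LD2_c15 LD3_c14)) = (LP (LK LD1_c24 LD2_c16 LD3_c43)) :=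
  Lgr Lrot11 (Lpr_ct (f802422 IH) (Lpn (LP (LK LD1_c24 LD2_c16 LD3_c43))))
theorem f803039 : Led Lsl_ct (LP (LK LD1_c24 LD2_c25 LD3_c51)) = (LP (LK LD1_c22 LD2_c0 LD3_c41)) :=
  Lgr Lrot152 (Lpr_gf (f475621 IH) (Lpe (K34.f475551 IH) (Lpr_gt (f802628 IH) (Lpe (f802931 IH) (Lpr_gt (f803035 IH) (Lpe (f802424 IH) (Lpe (f780427 IH) (Lpe (f57280 IH) (Lpe (f441890 IH) (Lpn (LP (LK LD1_c22 LD2_c0 LD3_c41))))))))))))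
theorem f803041 : Led Lsl_cf (LP (LK LD1_c24 LD2_c25 LD3_c51)) = (LP (LK LD1_c22 LD2_c0 LD3_c41)) :=
  Lgr Lrot11 (Lpr_ct (f803039 IH) (Lpn (LP (LK LD1_c22 LD2_c0 LD3_c41))))
def v7455 : LQ := Led Lsl_gf (LP (LK LD1_c3 LD2_c48 LD3_c31))
theorem f665685 : Led Lsl_gf (LP (LK LD1_c3 LD2_c48 LD3_c31)) = v7455 :=
  Lrfl
theorem f704679 : Led Lsl_gf v7455 = v13754 :=
  Lgr Lrot47 (Lpe (f665685 IH) (Lpe (f437204 IH) (Lpr_ff (f704675 IH) (Lpn v13754))))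
theorem f473972 : Led Lsl_bt (LP (LK LD1_c0 LD2_c53 LD3_c6)) = (LP (LK LD1_c1 LD2_c52 LD3_c61)) :=
  Lre_b IH (LK LD1_c0 LD2_c53 LD3_c6) (LK LD1_c1 LD2_c52 LD3_c61) Lrfl Lrfl
theorem f474094 : Led Lsl_ff (LP (LK LD1_c3 LD2_c48 LD3_c6)) = (LP (LK LD1_c1 LD2_c52 LD3_c61)) :=
  Lgr Lrot25 (Lpr_bt (f457793 IH) (Lpr_ft (K29.f474090 IH) (Lpr_bt (f473972 IH) (Lpn (LP (LK LD1_c1 LD2_c52 LD3_c61))))))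
theorem f457865 : Led Lsl_at (LP (LK LD1_c3 LD2_c48 LD3_c6)) = (LP (LK LD1_c7 LD2_c37 LD3_c18)) :=
  Lre_a IH (LK LD1_c3 LD2_c48 LD3_c6) (LK LD1_c7 LD2_c37 LD3_c18) Lrfl Lrfl
theorem f476365 : Led Lsl_gf (LP (LK LD1_c7 LD2_c37 LD3_c18)) = (LP (LK LD1_c3 LD2_c52 LD3_c47)) :=
  Lgr Lrot76 (Lpe (f457865 IH) (Lpr_ff (f474094 IH) (Lpr_gt (K41.f457989 IH) (Lpn (LP (LK LD1_c3 LD2_c52 LD3_c47))))))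
theorem f802038 : v7455 = (LP (LK LD1_c7 LD2_c37 LD3_c18)) :=
  Lefun (Lecon (Lfl_gf (f704679 IH)) (f802030 IH).symm) (Lfl_gf (f476365 IH))
theorem f802069 : (LP (LK LD1_c3 LD2_c48 LD3_c31)) = K49.v2692 :=
  Lefun (Lecon (Lfl_gf (f665685 IH)) (f802038 IH)) (K49.f530436 IH)
theorem f64436 : Led Lsl_dt (LP (LK LD1_c6 LD2_c43 LD3_c26)) = (LP (LK LD1_c12 LD2_c51 LD3_c43)) :=
  Lre_d IH (LK LD1_c6 LD2_c43 LD3_c26) (LK LD1_c12 LD2_c51 LD3_c43) Lrfl Lrfl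
theorem f803044 : Led Lsl_gt (LP (LK LD1_c12 LD2_c51 LD3_c43)) = (LP (LK LD1_c22 LD2_c0 LD3_c41)) :=
  Lgr Lrot9 (Lpe (f64436 IH) (Lpr_gt (f57285 IH) (Lpr_ct (f64420 IH) (Lpqs (f802069 IH) (Lpe (K49.f530435 IH) (Lpr_ct (K34.f458072 IH) (Lpe (K34.f458023 IH) (Lpe (K34.f475555 IH) (Lpe (f475496 IH) (Lpr_cf (f803041 IH) (Lpn (LP (LK LD1_c22 LD2_c0 LD3_c41)))))))))))))
theorem f803092 : Led Lsl_ff (LP (LK LD1_c7 LD2_c48 LD3_c28)) = (LP (LK LD1_c12 LD2_c51 LD3_c43)) :=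
  Lgr Lrot52 (Lpr_at (f803083 IH) (Lpe (f441890 IH) (Lpe (f803044 IH) (Lpn (LP (LK LD1_c12 LD2_c51 LD3_c43))))))
theorem f803101 : Led Lsl_ft (LP (LK LD1_c7 LD2_c48 LD3_c28)) = (LP (LK LD1_c12 LD2_c51 LD3_c43)) :=
  Lgr Lrot48 (Lpr_ff (f803092 IH) (Lpn (LP (LK LD1_c12 LD2_c51 LD3_c43))))
theorem f458214 : Led Lsl_ct (LP (LK LD1_c14 LD2_c43 LD3_c60)) = (LP (LK LD1_c7 LD2_c48 LD3_c28)) :=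
  Lre_c IH (LK LD1_c14 LD2_c43 LD3_c60) (LK LD1_c7 LD2_c48 LD3_c28) Lrfl Lrfl
theorem f780058 : Led Lsl_ct (LP (LK LD1_c12 LD2_c51 LD3_c43)) = (LP (LK LD1_c22 LD2_c0 LD3_c44)) :=
  Lre_c IH (LK LD1_c12 LD2_c51 LD3_c43) (LK LD1_c22 LD2_c0 LD3_c44) Lrfl Lrfl
theorem f803106 : Led Lsl_ff (LP (LK LD1_c14 LD2_c43 LD3_c60)) = (LP (LK LD1_c22 LD2_c0 LD3_c44)) :=
  Lgr Lrot23 (Lpr_ct (f458214 IH) (Lpr_ft (f803101 IH) (Lpr_ct (f780058 IH) (Lpn (LP (LK LD1_c22 LD2_c0 LD3_c44))))))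
theorem f780422 : Led Lsl_dt (LP (LK LD1_c22 LD2_c0 LD3_c44)) = (LP (LK LD1_c30 LD2_c15 LD3_c19)) :=
  Lre_d IH (LK LD1_c22 LD2_c0 LD3_c44) (LK LD1_c30 LD2_c15 LD3_c19) Lrfl Lrfl
theorem f802556 : Led Lsl_dt (LP (LK LD1_c30 LD2_c15 LD3_c26)) = (LP (LK LD1_c22 LD2_c0 LD3_c48)) :=
  Lre_d IH (LK LD1_c30 LD2_c15 LD3_c26) (LK LD1_c22 LD2_c0 LD3_c48) Lrfl Lrfl
theorem f437225 : Led Lsl_dt (LP (LK LD1_c24 LD2_c1 LD3_c33)) = (LP (LK LD1_c31 LD2_c19 LD3_c48)) :=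
  Lre_d IH (LK LD1_c24 LD2_c1 LD3_c33) (LK LD1_c31 LD2_c19 LD3_c48) Lrfl Lrfl
theorem f802973 : Led Lsl_cf (LP (LK LD1_c30 LD2_c15 LD3_c26)) = (LP (LK LD1_c31 LD2_c19 LD3_c48)) :=
  Lgr Lrot118 (Lpr_dt (f802556 IH) (Lpr_ct (f802547 IH) (Lpq (f802559 IH) (Lpe (f789479 IH) (Lpr_ct (f457601 IH) (Lpr_dt (K35.f457586 IH) (Lpr_ct (f457602 IH) (Lpe (f457604 IH) (Lpr_ff (f802959 IH) (Lpr_dt (f437225 IH) (Lpn (LP (LK LD1_c31 LD2_c19 LD3_c48)))))))))))))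
theorem f802557 : Led Lsl_dt (LP (LK LD1_c22 LD2_c0 LD3_c48)) = (LP (LK LD1_c30 LD2_c15 LD3_c26)) :=
  Lre_d IH (LK LD1_c22 LD2_c0 LD3_c48) (LK LD1_c30 LD2_c15 LD3_c26) Lrfl Lrfl
theorem f802554 : Led Lsl_gt (LP (LK LD1_c22 LD2_c24 LD3_c28)) = (LP (LK LD1_c22 LD2_c0 LD3_c48)) :=
  Lgr Lrot5 (Lpr_ft (f532856 IH) (Lpr_at (f130057 IH) (Lpr_gf (f802548 IH) (Lpn (LP (LK LD1_c22 LD2_c0 LD3_c48))))))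
theorem f64425 : Led Lsl_dt (LP (LK LD1_c24 LD2_c1 LD3_c34)) = (LP (LK LD1_c14 LD2_c23 LD3_c8)) :=
  Lre_d IH (LK LD1_c24 LD2_c1 LD3_c34) (LK LD1_c14 LD2_c23 LD3_c8) Lrfl Lrfl
theorem f802980 : Led Lsl_gt (LP (LK LD1_c24 LD2_c16 LD3_c43)) = (LP (LK LD1_c24 LD2_c1 LD3_c34)) :=
  Lgr Lrot94 (Lpe (f802422 IH) (Lpe (f802544 IH) (Lpr_dt (f475647 IH) (Lpr_gt (f802554 IH) (Lpr_dt (f802557 IH) (Lpr_cf (f802973 IH) (Lpe (f437225 IH) (Lpe (f116759 IH) (Lpe (f64425 IH) (Lpn (LP (LK LD1_c24 LD2_c1 LD3_c34))))))))))))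
theorem f531184 : Led Lsl_ft (LP (LK LD1_c7 LD2_c43 LD3_c39)) = (LP (LK LD1_c14 LD2_c32 LD3_c39)) :=
  Lgr Lrot48 (Lpr_ff (K49.f531169 IH) (Lpn (LP (LK LD1_c14 LD2_c32 LD3_c39))))
theorem f458211 : Led Lsl_ct (LP (LK LD1_c14 LD2_c32 LD3_c39)) = (LP (LK LD1_c24 LD2_c15 LD3_c0)) :=
  Lre_c IH (LK LD1_c14 LD2_c32 LD3_c39) (LK LD1_c24 LD2_c15 LD3_c0) Lrfl Lrfl
theorem f531192 : Led Lsl_ff (LP (LK LD1_c14 LD2_c34 LD3_c8)) = (LP (LK LD1_c24 LD2_c15 LD3_c0)) :=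
  Lgr Lrot23 (Lpr_ct (f527406 IH) (Lpr_ft (f531184 IH) (Lpr_ct (f458211 IH) (Lpn (LP (LK LD1_c24 LD2_c15 LD3_c0))))))
theorem f531198 : Led Lsl_dt (LP (LK LD1_c14 LD2_c34 LD3_c8)) = (LP (LK LD1_c24 LD2_c16 LD3_c43)) :=
  Lre_d IH (LK LD1_c14 LD2_c34 LD3_c8) (LK LD1_c24 LD2_c16 LD3_c43) Lrfl Lrfl
theorem f458222 : Led Lsl_dt (LP (LK LD1_c31 LD2_c26 LD3_c25)) = (LP (LK LD1_c24 LD2_c15 LD3_c0)) :=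
  Lre_d IH (LK LD1_c31 LD2_c26 LD3_c25) (LK LD1_c24 LD2_c15 LD3_c0) Lrfl Lrfl
theorem f531199 : Led Lsl_ft (LP (LK LD1_c24 LD2_c16 LD3_c43)) = (LP (LK LD1_c31 LD2_c26 LD3_c25)) :=
  Lgr Lrot54 (Lpe (f531198 IH) (Lpr_ff (f531192 IH) (Lpe (f458222 IH) (Lpn (LP (LK LD1_c31 LD2_c26 LD3_c25))))))
theorem f437232 : Led Lsl_gt (LP (LK LD1_c24 LD2_c1 LD3_c34)) = (LP (LK LD1_c31 LD2_c19 LD3_c49)) :=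
  Lre_g IH (LK LD1_c24 LD2_c1 LD3_c34) (LK LD1_c31 LD2_c19 LD3_c49) Lrfl Lrfl
theorem f802983 : Led Lsl_at (LP (LK LD1_c31 LD2_c26 LD3_c25)) = (LP (LK LD1_c31 LD2_c19 LD3_c49)) :=
  Lgr Lrot26 (Lpe (f531199 IH) (Lpr_gt (f802980 IH) (Lpr_gt (f437232 IH) (Lpn (LP (LK LD1_c31 LD2_c19 LD3_c49))))))
theorem f802987 : Led Lsl_ct (LP (LK LD1_c30 LD2_c15 LD3_c19)) = (LP (LK LD1_c31 LD2_c19 LD3_c49)) :=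
  Lgr Lrot98 (Lpe (f780422 IH) (Lpe (f780058 IH) (Lpe (f64436 IH) (Lpqs (f802077 IH) (Lpe (f666690 IH) (Lpe (K47.f531180 IH) (Lpe (f527406 IH) (Lpe (f527407 IH) (Lpr_ft (f531199 IH) (Lpr_at (f802983 IH) (Lpn (LP (LK LD1_c31 LD2_c19 LD3_c49)))))))))))))
theorem f780059 : Led Lsl_dt (LP (LK LD1_c30 LD2_c15 LD3_c19)) = (LP (LK LD1_c22 LD2_c0 LD3_c44)) :=
  Lre_d IH (LK LD1_c30 LD2_c15 LD3_c19) (LK LD1_c22 LD2_c0 LD3_c44) Lrfl Lrfl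
theorem f802725 : Led Lsl_gf (LP (LK LD1_c30 LD2_c15 LD3_c19)) = (LP (LK LD1_c30 LD2_c28 LD3_c54)) :=
  Lgr Lrot143 (Lpr_dt (f780059 IH) (Lpe (f780058 IH) (Lpe (f64436 IH) (Lpqs (f802077 IH) (Lpe (f666694 IH) (Lpe (f535143 IH) (Lpr_gf (f802723 IH) (Lpe (f802454 IH) (Lpr_gt (f802450 IH) (Lpr_dt (f532845 IH) (Lpn (LP (LK LD1_c30 LD2_c28 LD3_c54)))))))))))))
theorem f802991 : Led Lsl_gf (LP (LK LD1_c24 LD2_c26 LD3_c21)) = (LP (LK LD1_c31 LD2_c19 LD3_c49)) :=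
  Lgr Lrot104 (Lpr_ct (f802934 IH) (Lpe (f64422 IH) (Lpe (f57297 IH) (Lpe (f57315 IH) (Lpe (f802547 IH) (Lpe (f802554 IH) (Lpe (f475647 IH) (Lpe (f802725 IH) (Lpr_ct (f802987 IH) (Lpn (LP (LK LD1_c31 LD2_c19 LD3_c49))))))))))))
theorem f460516 : Led Lsl_gt (LP (LK LD1_c3 LD2_c52 LD3_c49)) = (LP (LK LD1_c7 LD2_c47 LD3_c20)) :=
  Lre_g IH (LK LD1_c3 LD2_c52 LD3_c49) (LK LD1_c7 LD2_c47 LD3_c20) Lrfl Lrfl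
theorem f475505 : Led Lsl_gt (LP (LK LD1_c7 LD2_c47 LD3_c20)) = (LP (LK LD1_c14 LD2_c22 LD3_c8)) :=
  Lgr Lrot46 (Lpe (f460516 IH) (Lpr_ft (K34.f475494 IH) (Lpr_at (K34.f474945 IH) (Lpn (LP (LK LD1_c14 LD2_c22 LD3_c8))))))
theorem f475508 : Led Lsl_ct (LP (LK LD1_c14 LD2_c41 LD3_c44)) = (LP (LK LD1_c7 LD2_c47 LD3_c20)) :=
  Lre_c IH (LK LD1_c14 LD2_c41 LD3_c44) (LK LD1_c7 LD2_c47 LD3_c20) Lrfl Lrfl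
theorem f475509 : Led Lsl_gt (LP (LK LD1_c24 LD2_c26 LD3_c26)) = (LP (LK LD1_c14 LD2_c41 LD3_c44)) :=
  Lre_g IH (LK LD1_c24 LD2_c26 LD3_c26) (LK LD1_c14 LD2_c41 LD3_c44) Lrfl Lrfl
theorem f802997 : Led Lsl_df (LP (LK LD1_c24 LD2_c26 LD3_c26)) = (LP (LK LD1_c31 LD2_c19 LD3_c49)) :=
  Lgr Lrot155 (Lpr_gt (f475509 IH) (Lpr_ct (f475508 IH) (Lpr_gt (f475505 IH) (Lpr_ct (K34.f457861 IH) (Lpr_dt (K49.f457862 IH) (Lpe (K34.f475483 IH) (Lpr_gf (f802596 IH) (Lpe (f802934 IH) (Lpr_gf (f802991 IH) (Lpn (LP (LK LD1_c31 LD2_c19 LD3_c49))))))))))))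
theorem f803002 : Led Lsl_ct (LP (LK LD1_c24 LD2_c26 LD3_c26)) = (LP (LK LD1_c22 LD2_c0 LD3_c40)) :=
  Lgr Lrot176 (Lpr_df (f802997 IH) (Lpe (f802987 IH) (Lpe (f780422 IH) (Lpe (f780058 IH) (Lpe (f64436 IH) (Lpr_cf (f780432 IH) (Lpq (f802091 IH) (Lpe (K47.f531180 IH) (Lpe (f527406 IH) (Lpe (f527407 IH) (Lpe (f802422 IH) (Lpe (f780427 IH) (Lpe (f57280 IH) (Lpe (f57279 IH) (Lpe (f64430 IH) (Lpe (f64429 IH) (Lpn (LP (LK LD1_c22 LD2_c0 LD3_c40)))))))))))))))))))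
theorem f803119 : Led Lsl_at (LP (LK LD1_c14 LD2_c43 LD3_c60)) = (LP (LK LD1_c22 LD2_c0 LD3_c42)) :=
  Lgr Lrot33 (Lpr_ff (f803106 IH) (Lpr_dt (f780422 IH) (Lpr_ct (f802987 IH) (Lpe (f802997 IH) (Lpr_ct (f803002 IH) (Lpr_dt (f64429 IH) (Lpr_ct (f64430 IH) (Lpr_dt (f57279 IH) (Lpr_ct (f57280 IH) (Lpn (LP (LK LD1_c22 LD2_c0 LD3_c42))))))))))))
theorem f534345 : Led Lsl_et (LP (LK LD1_c24 LD2_c29 LD3_c44)) = (LP (LK LD1_c14 LD2_c43 LD3_c60)) :=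
  Lre_e IH (LK LD1_c24 LD2_c29 LD3_c44) (LK LD1_c14 LD2_c43 LD3_c60) Lrfl Lrfl
theorem f802553 : Led Lsl_et (LP (LK LD1_c22 LD2_c0 LD3_c42)) = (LP (LK LD1_c30 LD2_c15 LD3_c15)) :=
  Lre_e IH (LK LD1_c22 LD2_c0 LD3_c42) (LK LD1_c30 LD2_c15 LD3_c15) Lrfl Lrfl
theorem f803124 : Led Lsl_af (LP (LK LD1_c24 LD2_c29 LD3_c44)) = (LP (LK LD1_c30 LD2_c15 LD3_c15)) :=
  Lgr Lrot50 (Lpr_et (f534345 IH) (Lpr_at (f803119 IH) (Lpr_et (f802553 IH) (Lpn (LP (LK LD1_c30 LD2_c15 LD3_c15))))))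
theorem f803135 : Led Lsl_ct (LP (LK LD1_c24 LD2_c29 LD3_c44)) = (LP (LK LD1_c14 LD2_c43 LD3_c61)) :=
  Lre_c IH (LK LD1_c24 LD2_c29 LD3_c44) (LK LD1_c14 LD2_c43 LD3_c61) Lrfl Lrfl
theorem f441910 : Led Lsl_ct (LP (LK LD1_c22 LD2_c0 LD3_c43)) = (LP (LK LD1_c30 LD2_c15 LD3_c15)) :=
  Lre_c IH (LK LD1_c22 LD2_c0 LD3_c43) (LK LD1_c30 LD2_c15 LD3_c15) Lrfl Lrfl
theorem f803136 : Led Lsl_at (LP (LK LD1_c14 LD2_c43 LD3_c61)) = (LP (LK LD1_c22 LD2_c0 LD3_c43)) :=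
  Lgr Lrot107 (Lpe (f803135 IH) (Lpr_af (f803124 IH) (Lpe (f441910 IH) (Lpn (LP (LK LD1_c22 LD2_c0 LD3_c43))))))
theorem f803139 : Led Lsl_dt (LP (LK LD1_c24 LD2_c29 LD3_c47)) = (LP (LK LD1_c14 LD2_c43 LD3_c61)) :=
  Lre_d IH (LK LD1_c24 LD2_c29 LD3_c47) (LK LD1_c14 LD2_c43 LD3_c61) Lrfl Lrfl
theorem f65910 : Led Lsl_dt (LP (LK LD1_c3 LD2_c45 LD3_c53)) = (LP (LK LD1_c7 LD2_c32 LD3_c30)) :=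
  Lre_d IH (LK LD1_c3 LD2_c45 LD3_c53) (LK LD1_c7 LD2_c32 LD3_c30) Lrfl Lrfl
theorem f65894 : Led Lsl_gt (LP (LK LD1_c14 LD2_c13 LD3_c22)) = (LP (LK LD1_c7 LD2_c32 LD3_c30)) :=
  Lre_g IH (LK LD1_c14 LD2_c13 LD3_c22) (LK LD1_c7 LD2_c32 LD3_c30) Lrfl Lrfl
theorem f441883 : Led Lsl_et (LP (LK LD1_c12 LD2_c51 LD3_c42)) = (LP (LK LD1_c6 LD2_c43 LD3_c25)) :=
  Lre_e IH (LK LD1_c12 LD2_c51 LD3_c42) (LK LD1_c6 LD2_c43 LD3_c25) Lrfl Lrfl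
theorem f441884 : Led Lsl_df (LP (LK LD1_c14 LD2_c13 LD3_c22)) = (LP (LK LD1_c12 LD2_c51 LD3_c42)) :=
  Lgr Lrot170 (Lpr_gt (f65894 IH) (Lpe (f65910 IH) (Lpr_et (f58798 IH) (Lpr_gt (K3.f58782 IH) (Lpr_dt (K3.f104293 IH) (Lpr_gt (K2.f57260 IH) (Lpe (K1.f353 IH) (Lpr_et (f57461 IH) (Lpr_gt (f57278 IH) (Lpe (f441883 IH) (Lpn (LP (LK LD1_c12 LD2_c51 LD3_c42)))))))))))))
theorem f441907 : Led Lsl_et (LP (LK LD1_c14 LD2_c13 LD3_c22)) = (LP (LK LD1_c23 LD2_c48 LD3_c57)) :=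
  Lre_e IH (LK LD1_c14 LD2_c13 LD3_c22) (LK LD1_c23 LD2_c48 LD3_c57) Lrfl Lrfl
theorem f441900 : Led Lsl_et (LP (LK LD1_c6 LD2_c43 LD3_c25)) = (LP (LK LD1_c12 LD2_c51 LD3_c42)) :=
  Lre_e IH (LK LD1_c6 LD2_c43 LD3_c25) (LK LD1_c12 LD2_c51 LD3_c42) Lrfl Lrfl
theorem f441894 : Led Lsl_dt (LP (LK LD1_c12 LD2_c51 LD3_c41)) = (LP (LK LD1_c6 LD2_c43 LD3_c25)) :=
  Lre_d IH (LK LD1_c12 LD2_c51 LD3_c41) (LK LD1_c6 LD2_c43 LD3_c25) Lrfl Lrfl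
theorem f441899 : Led Lsl_et (LP (LK LD1_c22 LD2_c0 LD3_c43)) = (LP (LK LD1_c12 LD2_c51 LD3_c41)) :=
  Lre_e IH (LK LD1_c22 LD2_c0 LD3_c43) (LK LD1_c12 LD2_c51 LD3_c41) Lrfl Lrfl
theorem f441908 : Led Lsl_dt (LP (LK LD1_c23 LD2_c48 LD3_c57)) = (LP (LK LD1_c22 LD2_c0 LD3_c43)) :=
  Lgr Lrot77 (Lpe (f441907 IH) (Lpr_df (f441884 IH) (Lpe (f441900 IH) (Lpe (f441894 IH) (Lpe (f441899 IH) (Lpn (LP (LK LD1_c22 LD2_c0 LD3_c43))))))))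
theorem f441911 : Led Lsl_df (LP (LK LD1_c23 LD2_c48 LD3_c57)) = (LP (LK LD1_c22 LD2_c0 LD3_c43)) :=
  Lgr Lrot38 (Lpr_dt (f441908 IH) (Lpn (LP (LK LD1_c22 LD2_c0 LD3_c43))))
theorem f803141 : Led Lsl_af (LP (LK LD1_c24 LD2_c29 LD3_c47)) = (LP (LK LD1_c23 LD2_c48 LD3_c57)) :=
  Lgr Lrot117 (Lpr_dt (f803139 IH) (Lpr_at (f803136 IH) (Lpe (f441911 IH) (Lpn (LP (LK LD1_c23 LD2_c48 LD3_c57))))))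
theorem f803160 : Led Lsl_et (LP (LK LD1_c24 LD2_c29 LD3_c47)) = (LP (LK LD1_c14 LD2_c44 LD3_c0)) :=
  Lre_e IH (LK LD1_c24 LD2_c29 LD3_c47) (LK LD1_c14 LD2_c44 LD3_c0) Lrfl Lrfl
theorem f803161 : Led Lsl_at (LP (LK LD1_c14 LD2_c44 LD3_c0)) = (LP (LK LD1_c14 LD2_c13 LD3_c22)) :=
  Lgr Lrot80 (Lpe (f803160 IH) (Lpr_af (f803141 IH) (Lpe (f441907 IH) (Lpn (LP (LK LD1_c14 LD2_c13 LD3_c22))))))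
theorem f527191 : Led Lsl_dt (LP (LK LD1_c7 LD2_c48 LD3_c29)) = (LP (LK LD1_c14 LD2_c44 LD3_c0)) :=
  Lre_d IH (LK LD1_c7 LD2_c48 LD3_c29) (LK LD1_c14 LD2_c44 LD3_c0) Lrfl Lrfl
theorem f441905 : Led Lsl_dt (LP (LK LD1_c14 LD2_c13 LD3_c22)) = (LP (LK LD1_c12 LD2_c51 LD3_c42)) :=
  Lgr Lrot42 (Lpr_df (f441884 IH) (Lpn (LP (LK LD1_c12 LD2_c51 LD3_c42))))
theorem f803168 : Led Lsl_af (LP (LK LD1_c7 LD2_c48 LD3_c29)) = (LP (LK LD1_c12 LD2_c51 LD3_c42)) :=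
  Lgr Lrot117 (Lpr_dt (f527191 IH) (Lpr_at (f803161 IH) (Lpr_dt (f441905 IH) (Lpn (LP (LK LD1_c12 LD2_c51 LD3_c42))))))
theorem f516602 : Led Lsl_bt (LP (LK LD1_c7 LD2_c48 LD3_c29)) = (LP (LK LD1_c3 LD2_c53 LD3_c28)) :=
  Lre_b IH (LK LD1_c7 LD2_c48 LD3_c29) (LK LD1_c3 LD2_c53 LD3_c28) Lrfl Lrfl
theorem f800806 : Led Lsl_bt K48.v7302 = v22033 :=
  Lgr Lrot119 (Lpe (K48.f664344 IH) (Lpe (K48.f472159 IH) (Lpr_ef (f800805 IH) (Lpn v22033))))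
theorem f441904 : Led Lsl_bt (LP (LK LD1_c22 LD2_c0 LD3_c39)) = (LP (LK LD1_c12 LD2_c51 LD3_c42)) :=
  Lre_b IH (LK LD1_c22 LD2_c0 LD3_c39) (LK LD1_c12 LD2_c51 LD3_c42) Lrfl Lrfl
theorem f803285 : Led Lsl_at v22033 = (LP (LK LD1_c22 LD2_c0 LD3_c39)) :=
  Lgr Lrot67 (Lpe (f800806 IH) (Lpe (K48.f664348 IH) (Lpe (f516602 IH) (Lpr_af (f803168 IH) (Lpe (f441904 IH) (Lpn (LP (LK LD1_c22 LD2_c0 LD3_c39))))))))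
theorem f803287 : Led Lsl_cf (LP (LK LD1_c22 LD2_c49 LD3_c57)) = (LP (LK LD1_c22 LD2_c0 LD3_c39)) :=
  Lgr Lrot1 (Lpr_at (K41.f108586 IH) (Lpr_ct (f800807 IH) (Lpr_at (f803285 IH) (Lpn (LP (LK LD1_c22 LD2_c0 LD3_c39))))))
theorem f419665 : Led Lsl_dt (LP (LK LD1_c7 LD2_c34 LD3_c1)) = (LP (LK LD1_c14 LD2_c16 LD3_c6)) :=
  Lre_d IH (LK LD1_c7 LD2_c34 LD3_c1) (LK LD1_c14 LD2_c16 LD3_c6) Lrfl Lrfl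
theorem f97521 : Led Lsl_gt (LP (LK LD1_c22 LD2_c34 LD3_c11)) = (LP (LK LD1_c13 LD2_c18 LD3_c13)) :=
  Lre_g IH (LK LD1_c22 LD2_c34 LD3_c11) (LK LD1_c13 LD2_c18 LD3_c13) Lrfl Lrfl
theorem f419677 : Led Lsl_gt (LP (LK LD1_c14 LD2_c16 LD3_c6)) = (LP (LK LD1_c22 LD2_c34 LD3_c11)) :=
  Lgr Lrot5 (Lpr_ft (K43.f419676 IH) (Lpr_at (K42.f419648 IH) (Lpe (f97521 IH) (Lpn (LP (LK LD1_c22 LD2_c34 LD3_c11))))))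
theorem f803291 : Led Lsl_dt (LP (LK LD1_c22 LD2_c34 LD3_c11)) = (LP (LK LD1_c22 LD2_c0 LD3_c39)) :=
  Lgr Lrot105 (Lpe (f419677 IH) (Lpe (f419665 IH) (Lpe (K37.f476501 IH) (Lpr_cf (K37.f476504 IH) (Lpr_gt (K43.f476568 IH) (Lpe (K43.f578403 IH) (Lpr_gt (K43.f578407 IH) (Lpe (K43.f108588 IH) (Lpr_cf (f803287 IH) (Lpn (LP (LK LD1_c22 LD2_c0 LD3_c39))))))))))))
theorem f803297 : Led Lsl_df (LP (LK LD1_c22 LD2_c34 LD3_c11)) = (LP (LK LD1_c22 LD2_c0 LD3_c39)) :=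
  Lgr Lrot38 (Lpr_dt (f803291 IH) (Lpn (LP (LK LD1_c22 LD2_c0 LD3_c39))))
theorem f800809 : Led Lsl_dt (LP (LK LD1_c14 LD2_c13 LD3_c10)) = v22033 :=
  Lgr Lrot42 (Lpr_df (f800808 IH) (Lpn v22033))
theorem f803301 : Led Lsl_at (LP (LK LD1_c22 LD2_c34 LD3_c11)) = (LP (LK LD1_c14 LD2_c13 LD3_c10)) :=
  Lgr Lrot51 (Lpr_df (f803297 IH) (Lpe (f803285 IH) (Lpe (f800809 IH) (Lpn (LP (LK LD1_c14 LD2_c13 LD3_c10))))))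
theorem f419683 : Led Lsl_ct (LP (LK LD1_c30 LD2_c35 LD3_c6)) = (LP (LK LD1_c22 LD2_c34 LD3_c11)) :=
  Lre_c IH (LK LD1_c30 LD2_c35 LD3_c6) (LK LD1_c22 LD2_c34 LD3_c11) Lrfl Lrfl
theorem f803305 : Led Lsl_af (LP (LK LD1_c30 LD2_c35 LD3_c6)) = (LP (LK LD1_c23 LD2_c48 LD3_c34)) :=
  Lgr Lrot68 (Lpr_ct (f419683 IH) (Lpr_at (f803301 IH) (Lpr_ct (f111712 IH) (Lpn (LP (LK LD1_c23 LD2_c48 LD3_c34))))))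
theorem f803316 : Led Lsl_at (LP (LK LD1_c30 LD2_c35 LD3_c6)) = (LP (LK LD1_c23 LD2_c48 LD3_c34)) :=
  Lgr Lrot100 (Lpr_af (f803305 IH) (Lpn (LP (LK LD1_c23 LD2_c48 LD3_c34))))
theorem f419739 : Led Lsl_ft (LP (LK LD1_c7 LD2_c34 LD3_c0)) = (LP (LK LD1_c14 LD2_c16 LD3_c6)) :=
  Lre_f IH (LK LD1_c7 LD2_c34 LD3_c0) (LK LD1_c14 LD2_c16 LD3_c6) Lrfl Lrfl
theorem f464298 : Led Lsl_at (LP (LK LD1_c14 LD2_c16 LD3_c6)) = (LP (LK LD1_c22 LD2_c26 LD3_c43)) :=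
  Lgr Lrot66 (Lpe (f419739 IH) (Lpr_af (f419666 IH) (Lpr_ff (K43.f464296 IH) (Lpn (LP (LK LD1_c22 LD2_c26 LD3_c43))))))
theorem f463613 : Led Lsl_gt (LP (LK LD1_c7 LD2_c34 LD3_c0)) = (LP (LK LD1_c14 LD2_c16 LD3_c4)) :=
  Lre_g IH (LK LD1_c7 LD2_c34 LD3_c0) (LK LD1_c14 LD2_c16 LD3_c4) Lrfl Lrfl
theorem f464308 : Led Lsl_gt (LP (LK LD1_c14 LD2_c16 LD3_c4)) = (LP (LK LD1_c22 LD2_c26 LD3_c43)) :=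
  Lgr Lrot46 (Lpe (f463613 IH) (Lpr_ft (f419739 IH) (Lpr_at (f464298 IH) (Lpn (LP (LK LD1_c22 LD2_c26 LD3_c43))))))
theorem f803307 : Led Lsl_ff (LP (LK LD1_c22 LD2_c34 LD3_c11)) = (LP (LK LD1_c14 LD2_c16 LD3_c4)) :=
  Lgr Lrot52 (Lpr_at (f803301 IH) (Lpe (f473039 IH) (Lpe (f464308 IH) (Lpn (LP (LK LD1_c14 LD2_c16 LD3_c4))))))
theorem f803311 : Led Lsl_ft (LP (LK LD1_c22 LD2_c34 LD3_c11)) = (LP (LK LD1_c14 LD2_c16 LD3_c4)) :=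
  Lgr Lrot48 (Lpr_ff (f803307 IH) (Lpn (LP (LK LD1_c14 LD2_c16 LD3_c4))))
theorem f464310 : Led Lsl_ct (LP (LK LD1_c14 LD2_c16 LD3_c4)) = (LP (LK LD1_c23 LD2_c52 LD3_c49)) :=
  Lre_c IH (LK LD1_c14 LD2_c16 LD3_c4) (LK LD1_c23 LD2_c52 LD3_c49) Lrfl Lrfl
theorem f803313 : Led Lsl_ff (LP (LK LD1_c30 LD2_c35 LD3_c6)) = (LP (LK LD1_c23 LD2_c52 LD3_c49)) :=
  Lgr Lrot23 (Lpr_ct (f419683 IH) (Lpr_ft (f803311 IH) (Lpr_ct (f464310 IH) (Lpn (LP (LK LD1_c23 LD2_c52 LD3_c49))))))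
theorem f543510 : Led Lsl_ct (LP (LK LD1_c29 LD2_c54 LD3_c52)) = (LP (LK LD1_c21 LD2_c13 LD3_c46)) :=
  Lre_c IH (LK LD1_c29 LD2_c54 LD3_c52) (LK LD1_c21 LD2_c13 LD3_c46) Lrfl Lrfl
theorem f803318 : Led Lsl_dt (LP (LK LD1_c23 LD2_c52 LD3_c49)) = (LP (LK LD1_c29 LD2_c54 LD3_c52)) :=
  Lgr Lrot159 (Lpe (f803313 IH) (Lpr_at (f803316 IH) (Lpe (f111712 IH) (Lpr_df (f800808 IH) (Lpe (f800807 IH) (Lpr_df (f108555 IH) (Lpr_cf (K43.f543504 IH) (Lpe (f543507 IH) (Lpe (f543510 IH) (Lpn (LP (LK LD1_c29 LD2_c54 LD3_c52))))))))))))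
theorem f803319 : Led Lsl_dt (LP (LK LD1_c23 LD2_c52 LD3_c49)) = (LP (LK LD1_c29 LD2_c54 LD3_c52)) :=
  Leop (Lpe (f803318 IH) (Lpn (LP (LK LD1_c23 LD2_c52 LD3_c49))))
theorem seed_1676 : LEOK LG_d (LK LD1_c23 LD2_c52 LD3_c49) :=
  Leoe_d (LK LD1_c23 LD2_c52 LD3_c49) (f803319 IH)
theorem f472361 : Led Lsl_ct (LP (LK LD1_c24 LD2_c29 LD3_c49)) = (LP (LK LD1_c14 LD2_c44 LD3_c0)) :=
  Lre_c IH (LK LD1_c24 LD2_c29 LD3_c49) (LK LD1_c14 LD2_c44 LD3_c0) Lrfl Lrfl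
theorem f157487 : Led Lsl_ct (LP (LK LD1_c14 LD2_c13 LD3_c22)) = (LP (LK LD1_c23 LD2_c48 LD3_c56)) :=
  Lre_c IH (LK LD1_c14 LD2_c13 LD3_c22) (LK LD1_c23 LD2_c48 LD3_c56) Lrfl Lrfl
theorem f803166 : Led Lsl_af (LP (LK LD1_c24 LD2_c29 LD3_c49)) = (LP (LK LD1_c23 LD2_c48 LD3_c56)) :=
  Lgr Lrot68 (Lpr_ct (f472361 IH) (Lpr_at (f803161 IH) (Lpr_ct (f157487 IH) (Lpn (LP (LK LD1_c23 LD2_c48 LD3_c56))))))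
theorem f532955 : Led Lsl_ft (LP (LK LD1_c7 LD2_c30 LD3_c45)) = (LP (LK LD1_c13 LD2_c20 LD3_c23)) :=
  Lgr Lrot48 (Lpr_ff (K46.f532951 IH) (Lpn (LP (LK LD1_c13 LD2_c20 LD3_c23))))
theorem f533214 : Led Lsl_cf (LP (LK LD1_c13 LD2_c3 LD3_c32)) = (LP (LK LD1_c13 LD2_c20 LD3_c23)) :=
  Lgr Lrot108 (Lpr_ft (K46.f533205 IH) (Lpe (K34.f111319 IH) (Lpr_ft (f532955 IH) (Lpn (LP (LK LD1_c13 LD2_c20 LD3_c23))))))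
theorem f533235 : Led Lsl_ct (LP (LK LD1_c30 LD2_c21 LD3_c49)) = (LP (LK LD1_c22 LD2_c13 LD3_c32)) :=
  Lre_c IH (LK LD1_c30 LD2_c21 LD3_c49) (LK LD1_c22 LD2_c13 LD3_c32) Lrfl Lrfl
theorem f146572 : Led Lsl_dt (LP (LK LD1_c9 LD2_c21 LD3_c21)) = (LP (LK LD1_c4 LD2_c44 LD3_c16)) :=
  Lre_d IH (LK LD1_c9 LD2_c21 LD3_c21) (LK LD1_c4 LD2_c44 LD3_c16) Lrfl Lrfl
theorem f146587 : Led Lsl_gt (LP (LK LD1_c9 LD2_c21 LD3_c21)) = (LP (LK LD1_c17 LD2_c17 LD3_c23)) :=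
  Lre_g IH (LK LD1_c9 LD2_c21 LD3_c21) (LK LD1_c17 LD2_c17 LD3_c23) Lrfl Lrfl
theorem f146588 : Led Lsl_ct (LP (LK LD1_c17 LD2_c17 LD3_c23)) = (LP (LK LD1_c27 LD2_c6 LD3_c46)) :=
  Lre_c IH (LK LD1_c17 LD2_c17 LD3_c23) (LK LD1_c27 LD2_c6 LD3_c46) Lrfl Lrfl
theorem f801958 : Led Lsl_gf (LP (LK LD1_c30 LD2_c21 LD3_c49)) = (LP (LK LD1_c27 LD2_c6 LD3_c46)) :=
  Lgr Lrot104 (Lpr_ct (f533235 IH) (Lpe (f533223 IH) (Lpr_cf (f533214 IH) (Lpr_gf (f801954 IH) (Lpe (f146571 IH) (Lpe (f116729 IH) (Lpe (f146572 IH) (Lpr_gt (f146587 IH) (Lpr_ct (f146588 IH) (Lpn (LP (LK LD1_c27 LD2_c6 LD3_c46))))))))))))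
theorem f803325 : Led Lsl_ft (LP (LK LD1_c27 LD2_c6 LD3_c46)) = (LP (LK LD1_c23 LD2_c48 LD3_c56)) :=
  Lgr Lrot2 (Lpe (f801958 IH) (Lpr_gt (f534878 IH) (Lpr_af (f803166 IH) (Lpn (LP (LK LD1_c23 LD2_c48 LD3_c56))))))
theorem f803331 : Led Lsl_ff (LP (LK LD1_c27 LD2_c6 LD3_c46)) = (LP (LK LD1_c23 LD2_c48 LD3_c56)) :=
  Lgr Lrot3 (Lpr_ft (f803325 IH) (Lpn (LP (LK LD1_c23 LD2_c48 LD3_c56))))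
theorem f157474 : Led Lsl_ct (LP (LK LD1_c27 LD2_c6 LD3_c46)) = (LP (LK LD1_c17 LD2_c17 LD3_c23)) :=
  Lre_c IH (LK LD1_c27 LD2_c6 LD3_c46) (LK LD1_c17 LD2_c17 LD3_c23) Lrfl Lrfl
theorem f803333 : Led Lsl_ft (LP (LK LD1_c17 LD2_c17 LD3_c23)) = (LP (LK LD1_c14 LD2_c13 LD3_c22)) :=
  Lgr Lrot4 (Lpe (f157474 IH) (Lpr_ff (f803331 IH) (Lpe (f157487 IH) (Lpn (LP (LK LD1_c14 LD2_c13 LD3_c22))))))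
theorem f803164 : Led Lsl_af (LP (LK LD1_c14 LD2_c44 LD3_c0)) = (LP (LK LD1_c14 LD2_c13 LD3_c22)) :=
  Lgr Lrot0 (Lpr_at (f803161 IH) (Lpn (LP (LK LD1_c14 LD2_c13 LD3_c22))))
theorem f146558 : Led Lsl_ct (LP (LK LD1_c17 LD2_c17 LD3_c24)) = (LP (LK LD1_c9 LD2_c21 LD3_c21)) :=
  Lre_c IH (LK LD1_c17 LD2_c17 LD3_c24) (LK LD1_c9 LD2_c21 LD3_c21) Lrfl Lrfl
theorem f157416 : Led Lsl_af (LP (LK LD1_c7 LD2_c32 LD3_c30)) = (LP (LK LD1_c9 LD2_c21 LD3_c21)) :=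
  Lgr Lrot68 (Lpr_ct (f65911 IH) (Lpr_at (f157409 IH) (Lpr_ct (f146558 IH) (Lpn (LP (LK LD1_c9 LD2_c21 LD3_c21))))))
theorem f146563 : Led Lsl_ft (LP (LK LD1_c17 LD2_c17 LD3_c25)) = (LP (LK LD1_c9 LD2_c21 LD3_c21)) :=
  Lre_f IH (LK LD1_c17 LD2_c17 LD3_c25) (LK LD1_c9 LD2_c21 LD3_c21) Lrfl Lrfl
theorem f157485 : Led Lsl_gf (LP (LK LD1_c14 LD2_c13 LD3_c22)) = (LP (LK LD1_c17 LD2_c17 LD3_c25)) :=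
  Lgr Lrot47 (Lpr_gt (f65894 IH) (Lpr_af (f157416 IH) (Lpe (f146563 IH) (Lpn (LP (LK LD1_c17 LD2_c17 LD3_c25))))))
theorem f803170 : Led Lsl_ff (LP (LK LD1_c14 LD2_c44 LD3_c0)) = v22181 :=
  Lgr Lrot52 (Lpr_at (f803161 IH) (Lpr_gf (f157485 IH) (Lpr_gf (f801804 IH) (Lpn v22181))))
theorem f803173 : Led Lsl_ft (LP (LK LD1_c14 LD2_c44 LD3_c0)) = v22181 :=
  Lgr Lrot48 (Lpr_ff (f803170 IH) (Lpn v22181))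
theorem f803336 : Led Lsl_af (LP (LK LD1_c17 LD2_c17 LD3_c23)) = v22181 :=
  Lgr Lrot45 (Lpr_ft (f803333 IH) (Lpe (f803164 IH) (Lpr_ft (f803173 IH) (Lpn v22181))))
theorem f715798 : Led Lsl_et (LP (LK LD1_c17 LD2_c17 LD3_c23)) = (LP (LK LD1_c27 LD2_c6 LD3_c47)) :=
  Lre_e IH (LK LD1_c17 LD2_c17 LD3_c23) (LK LD1_c27 LD2_c6 LD3_c47) Lrfl Lrfl
theorem f803373 : Led Lsl_at (LP (LK LD1_c27 LD2_c6 LD3_c47)) = (LP (LK LD1_c22 LD2_c7 LD3_c11)) :=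
  Lgr Lrot80 (Lpe (f715798 IH) (Lpr_af (f803336 IH) (Lpe (f801805 IH) (Lpn (LP (LK LD1_c22 LD2_c7 LD3_c11))))))
theorem f803374 : Led Lsl_at (LP (LK LD1_c27 LD2_c6 LD3_c47)) = (LP (LK LD1_c22 LD2_c7 LD3_c11)) :=
  Leop (Lpe (f803373 IH) (Lpn (LP (LK LD1_c27 LD2_c6 LD3_c47))))
theorem seed_1677 : LEOK LG_a (LK LD1_c27 LD2_c6 LD3_c47) :=
  Leoe_a (LK LD1_c27 LD2_c6 LD3_c47) (f803374 IH)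
theorem f803105 : Led Lsl_bf K48.v7623 = (LP (LK LD1_c12 LD2_c51 LD3_c43)) :=
  Lgr Lrot61 (Lpe (K48.f667350 IH) (Lpr_bt (f517047 IH) (Lpr_ft (f803101 IH) (Lpn (LP (LK LD1_c12 LD2_c51 LD3_c43))))))
def v22034 : LQ := Led Lsl_gf (LP (LK LD1_c7 LD2_c30 LD3_c28))
theorem f800836 : Led Lsl_gf (LP (LK LD1_c7 LD2_c30 LD3_c28)) = v22034 :=
  Lrfl
theorem f800837 : Led Lsl_gt K48.v7623 = v22034 :=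
  Lgr Lrot5 (Lpe (K48.f667350 IH) (Lpr_at (K48.f530559 IH) (Lpr_gf (f800836 IH) (Lpn v22034))))
theorem f527709 : Led Lsl_df (LP (LK LD1_c1 LD2_c49 LD3_c22)) = K48.v2598 :=
  Lgr Lrot38 (Lpr_dt (K48.f527708 IH) (Lpn K48.v2598))
def v9307 : LQ := Led Lsl_gf K48.v2598
theorem f675320 : Led Lsl_gf K48.v2598 = v9307 :=
  Lrfl
theorem f530066 : Led Lsl_af (LP (LK LD1_c1 LD2_c51 LD3_c32)) = K48.v2647 :=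
  Lgr Lrot50 (Lpr_et (K34.f62689 IH) (Lpqs (K28.f467690 IH) (Lpr_at (K29.f466712 IH) (Lpr_et (K48.f530065 IH) (Lpn K48.v2647)))))
theorem f530072 : Led Lsl_gt K48.v2599 = (LP (LK LD1_c1 LD2_c51 LD3_c32)) :=
  Lgr Lrot46 (Lpr_gf (K48.f527932 IH) (Lpr_ft (K48.f530070 IH) (Lpe (f530066 IH) (Lpn (LP (LK LD1_c1 LD2_c51 LD3_c32))))))
def v2661 : LQ := Led Lsl_dt (LP (LK LD1_c1 LD2_c51 LD3_c32))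
theorem f530173 : Led Lsl_dt (LP (LK LD1_c1 LD2_c51 LD3_c32)) = v2661 :=
  Lrfl
def v6739 : LQ := Led Lsl_dt (LP (LK LD1_c3 LD2_c28 LD3_c18))
theorem f658158 : Led Lsl_dt (LP (LK LD1_c3 LD2_c28 LD3_c18)) = v6739 :=
  Lrfl
theorem f527210 : Led Lsl_et (LP (LK LD1_c3 LD2_c28 LD3_c18)) = K34.v2533 :=
  Lgr Lrot87 (Lpr_ef (K34.f527209 IH) (Lpn K34.v2533))
theorem f658162 : Led Lsl_gt v2661 = v6739 :=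
  Lgr Lrot112 (Lpe (f530173 IH) (Lpr_et (K34.f62689 IH) (Lpr_gf (K34.f459683 IH) (Lpe (K29.f459682 IH) (Lpr_dt (K29.f442290 IH) (Lpr_gf (K49.f530239 IH) (Lpe (K49.f530241 IH) (Lpe (K49.f527942 IH) (Lpe (f527210 IH) (Lpr_dt (f658158 IH) (Lpn v6739)))))))))))
def v6771 : LQ := Led Lsl_gf (LP (LK LD1_c3 LD2_c29 LD3_c13))
theorem f658321 : Led Lsl_gf (LP (LK LD1_c3 LD2_c29 LD3_c13)) = v6771 :=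
  Lrfl
theorem f658324 : Led Lsl_et K49.v2626 = v6771 :=
  Lgr Lrot121 (Lpr_dt (K49.f530241 IH) (Lpe (K49.f530238 IH) (Lpe (K34.f459700 IH) (Lpr_et (K33.f87656 IH) (Lpe (K2.f9901 IH) (Lpe (K46.f110036 IH) (Lpr_dt (K34.f110037 IH) (Lpr_gf (K46.f490197 IH) (Lpe (K46.f490200 IH) (Lpr_gf (f658321 IH) (Lpn v6771)))))))))))
theorem f658326 : Led Lsl_ef K49.v2626 = v6771 :=
  Lgr Lrot88 (Lpr_et (f658324 IH) (Lpn v6771))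
theorem f675323 : Led Lsl_dt v6771 = v9307 :=
  Lgr Lrot136 (Lpe (f658326 IH) (Lpe (K49.f527942 IH) (Lpe (f527210 IH) (Lpr_dt (f658158 IH) (Lpe (f658162 IH) (Lpe (f530173 IH) (Lpe (f530072 IH) (Lpe (K48.f527711 IH) (Lpr_dt (K48.f527708 IH) (Lpr_gf (f675320 IH) (Lpn v9307)))))))))))
theorem f455549 : Led Lsl_ft (LP (LK LD1_c3 LD2_c30 LD3_c49)) = (LP (LK LD1_c1 LD2_c41 LD3_c58)) :=
  Lre_f IH (LK LD1_c3 LD2_c30 LD3_c49) (LK LD1_c1 LD2_c41 LD3_c58) Lrfl Lrfl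
theorem f658322 : Led Lsl_gt (LP (LK LD1_c3 LD2_c30 LD3_c49)) = v6771 :=
  Lgr Lrot5 (Lpr_ft (f455549 IH) (Lpr_at (K34.f513672 IH) (Lpr_gf (f658321 IH) (Lpn v6771))))
theorem f800839 : Led Lsl_dt (LP (LK LD1_c13 LD2_c17 LD3_c13)) = v22034 :=
  Lgr Lrot57 (Lpe (K48.f514019 IH) (Lpe (K34.f513844 IH) (Lpr_gt (f658322 IH) (Lpr_dt (f675323 IH) (Lpe (f675320 IH) (Lpe (f527709 IH) (Lpe (K29.f17065 IH) (Lpe (K48.f472259 IH) (Lpr_gf (f800836 IH) (Lpn v22034))))))))))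
def v7101 : LQ := Led Lsl_ft (LP (LK LD1_c3 LD2_c38 LD3_c59))
theorem f661004 : Led Lsl_ft (LP (LK LD1_c3 LD2_c38 LD3_c59)) = v7101 :=
  Lrfl
theorem f661006 : Led Lsl_cf (LP (LK LD1_c13 LD2_c17 LD3_c13)) = v7101 :=
  Lgr Lrot108 (Lpr_ft (K48.f516866 IH) (Lpr_ct (K33.f482959 IH) (Lpr_ft (f661004 IH) (Lpn v7101))))
theorem f661007 : Led Lsl_ff (LP (LK LD1_c3 LD2_c38 LD3_c59)) = v7101 :=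
  Lgr Lrot3 (Lpr_ft (f661004 IH) (Lpn v7101))
theorem f518346 : Led Lsl_bt (LP (LK LD1_c7 LD2_c33 LD3_c20)) = (LP (LK LD1_c13 LD2_c13 LD3_c14)) :=
  Lgr Lrot35 (Lpr_ff (K48.f517020 IH) (Lpe (K60.f472475 IH) (Lpr_ff (K60.f518343 IH) (Lpn (LP (LK LD1_c13 LD2_c13 LD3_c14))))))
theorem f469043 : Led Lsl_bt (LP (LK LD1_c3 LD2_c27 LD3_c48)) = (LP (LK LD1_c6 LD2_c57 LD3_c48)) :=
  Lre_b IH (LK LD1_c3 LD2_c27 LD3_c48) (LK LD1_c6 LD2_c57 LD3_c48) Lrfl Lrfl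
theorem f17015 : Led Lsl_ct (LP (LK LD1_c3 LD2_c52 LD3_c27)) = (LP (LK LD1_c7 LD2_c46 LD3_c47)) :=
  Lre_c IH (LK LD1_c3 LD2_c52 LD3_c27) (LK LD1_c7 LD2_c46 LD3_c47) Lrfl Lrfl
theorem f518384 : Led Lsl_gf (LP (LK LD1_c14 LD2_c14 LD3_c61)) = (LP (LK LD1_c7 LD2_c46 LD3_c47)) :=
  Lgr Lrot129 (Lpe (K48.f472288 IH) (Lpr_bt (f518346 IH) (Lpr_gt (K48.f462757 IH) (Lpe (f469043 IH) (Lpr_ct (K29.f468982 IH) (Lpr_gt (K29.f473086 IH) (Lpe (K28.f472796 IH) (Lpe (f487216 IH) (Lpr_gt (K48.f465245 IH) (Lpr_ct (f17015 IH) (Lpn (LP (LK LD1_c7 LD2_c46 LD3_c47)))))))))))))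
theorem f472290 : Led Lsl_ct (LP (LK LD1_c14 LD2_c14 LD3_c61)) = (LP (LK LD1_c7 LD2_c33 LD3_c20)) :=
  Lre_c IH (LK LD1_c14 LD2_c14 LD3_c61) (LK LD1_c7 LD2_c33 LD3_c20) Lrfl Lrfl
theorem f493601 : Led Lsl_dt (LP (LK LD1_c7 LD2_c2 LD3_c37)) = (LP (LK LD1_c7 LD2_c46 LD3_c46)) :=
  Lgr Lrot42 (Lpr_df (K61.f493563 IH) (Lpn (LP (LK LD1_c7 LD2_c46 LD3_c46))))
theorem f518388 : Led Lsl_gf (LP (LK LD1_c6 LD2_c53 LD3_c3)) = (LP (LK LD1_c7 LD2_c2 LD3_c32)) :=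
  Lgr Lrot104 (Lpe (K33.f483337 IH) (Lpe (K47.f472287 IH) (Lpe (f472290 IH) (Lpr_gf (f518384 IH) (Lpe (f17015 IH) (Lpe (K48.f465245 IH) (Lpe (f493601 IH) (Lpr_gt (K61.f64943 IH) (Lpr_ct (K48.f64960 IH) (Lpn (LP (LK LD1_c7 LD2_c2 LD3_c32))))))))))))
theorem f661010 : Led Lsl_gf (LP (LK LD1_c7 LD2_c2 LD3_c32)) = v7101 :=
  Lgr Lrot47 (Lpe (f518388 IH) (Lpr_af (K33.f516849 IH) (Lpr_ff (f661007 IH) (Lpn v7101))))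
theorem f458341 : Led Lsl_bt (LP (LK LD1_c3 LD2_c39 LD3_c10)) = (LP (LK LD1_c7 LD2_c18 LD3_c43)) :=
  Lre_b IH (LK LD1_c3 LD2_c39 LD3_c10) (LK LD1_c7 LD2_c18 LD3_c43) Lrfl Lrfl
theorem f458381 : Led Lsl_bt (LP (LK LD1_c6 LD2_c52 LD3_c7)) = (LP (LK LD1_c3 LD2_c24 LD3_c52)) :=
  Lre_b IH (LK LD1_c6 LD2_c52 LD3_c7) (LK LD1_c3 LD2_c24 LD3_c52) Lrfl Lrfl
theorem f656691 : Led Lsl_ft (LP (LK LD1_c7 LD2_c18 LD3_c43)) = (LP (LK LD1_c6 LD2_c52 LD3_c7)) :=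
  Lgr Lrot75 (Lpe (f458341 IH) (Lpr_ff (K48.f656689 IH) (Lpe (f458381 IH) (Lpn (LP (LK LD1_c6 LD2_c52 LD3_c7))))))
theorem f661011 : Led Lsl_gt (LP (LK LD1_c7 LD2_c18 LD3_c43)) = v7101 :=
  Lgr Lrot5 (Lpr_ft (f656691 IH) (Lpr_at (K48.f656764 IH) (Lpr_gf (f661010 IH) (Lpn v7101))))
def v20586 : LQ := Led Lsl_ft (LP (LK LD1_c6 LD2_c59 LD3_c61))
theorem f788047 : Led Lsl_ft (LP (LK LD1_c6 LD2_c59 LD3_c61)) = v20586 :=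
  Lrfl
theorem f788049 : Led Lsl_cf (LP (LK LD1_c7 LD2_c18 LD3_c43)) = v20586 :=
  Lgr Lrot108 (Lpr_ft (f656691 IH) (Lpr_ct (K43.f458386 IH) (Lpr_ft (f788047 IH) (Lpn v20586))))
theorem f788052 : Led Lsl_ff (LP (LK LD1_c6 LD2_c59 LD3_c61)) = v20586 :=
  Lgr Lrot3 (Lpr_ft (f788047 IH) (Lpn v20586))
theorem f655291 : Led Lsl_at (LP (LK LD1_c6 LD2_c59 LD3_c61)) = (LP (LK LD1_c3 LD2_c30 LD3_c22)) :=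
  Lgr Lrot51 (Lpr_df (K48.f63699 IH) (Lpr_af (K46.f655285 IH) (Lpe (K1.f64931 IH) (Lpn (LP (LK LD1_c3 LD2_c30 LD3_c22))))))
theorem f788057 : Led Lsl_gf (LP (LK LD1_c7 LD2_c2 LD3_c37)) = v20586 :=
  Lgr Lrot47 (Lpr_gt (K61.f64943 IH) (Lpe (f655291 IH) (Lpr_ff (f788052 IH) (Lpn v20586))))
def v20585 : LQ := Led Lsl_gf (LP (LK LD1_c6 LD2_c59 LD3_c61))
theorem f788037 : Led Lsl_gf (LP (LK LD1_c6 LD2_c59 LD3_c61)) = v20585 :=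
  Lrfl
theorem f63712 : Led Lsl_gt (LP (LK LD1_c3 LD2_c47 LD3_c28)) = (LP (LK LD1_c7 LD2_c35 LD3_c49)) :=
  Lre_g IH (LK LD1_c3 LD2_c47 LD3_c28) (LK LD1_c7 LD2_c35 LD3_c49) Lrfl Lrfl
def v7386 : LQ := Led Lsl_ft (LP (LK LD1_c3 LD2_c46 LD3_c17))
theorem f664850 : Led Lsl_ft (LP (LK LD1_c3 LD2_c46 LD3_c17)) = v7386 :=
  Lrfl
theorem f478324 : Led Lsl_dt (LP (LK LD1_c3 LD2_c50 LD3_c44)) = (LP (LK LD1_c3 LD2_c46 LD3_c17)) :=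
  Lgr Lrot42 (Lpr_df (K47.f478310 IH) (Lpn (LP (LK LD1_c3 LD2_c46 LD3_c17))))
theorem f662014 : Led Lsl_at (LP (LK LD1_c3 LD2_c50 LD3_c43)) = (LP (LK LD1_c7 LD2_c35 LD3_c49)) :=
  Lgr Lrot26 (Lpr_ff (K48.f662009 IH) (Lpe (K48.f481891 IH) (Lpr_gt (f63712 IH) (Lpn (LP (LK LD1_c7 LD2_c35 LD3_c49))))))
theorem f478319 : Led Lsl_at (LP (LK LD1_c3 LD2_c50 LD3_c44)) = (LP (LK LD1_c7 LD2_c24 LD3_c49)) :=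
  Lgr Lrot51 (Lpr_df (K47.f478310 IH) (Lpr_af (K29.f466823 IH) (Lpe (K48.f459326 IH) (Lpn (LP (LK LD1_c7 LD2_c24 LD3_c49))))))
theorem f662022 : Led Lsl_ff (LP (LK LD1_c3 LD2_c50 LD3_c44)) = (LP (LK LD1_c7 LD2_c35 LD3_c49)) :=
  Lgr Lrot30 (Lpr_at (f478319 IH) (Lpe (K48.f662009 IH) (Lpr_at (f662014 IH) (Lpn (LP (LK LD1_c7 LD2_c35 LD3_c49))))))
theorem f664853 : Led Lsl_df (LP (LK LD1_c7 LD2_c35 LD3_c49)) = v7386 :=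
  Lgr Lrot78 (Lpe (f662022 IH) (Lpr_dt (f478324 IH) (Lpr_ft (f664850 IH) (Lpn v7386))))
theorem f788042 : Led Lsl_et v7386 = v20585 :=
  Lgr Lrot121 (Lpe (f664853 IH) (Lpe (f63712 IH) (Lpe (K3.f63711 IH) (Lpr_et (K3.f63710 IH) (Lpe (K3.f15627 IH) (Lpe (K3.f17009 IH) (Lpr_dt (K3.f15451 IH) (Lpe (K3.f17040 IH) (Lpe (K3.f63687 IH) (Lpr_gf (f788037 IH) (Lpn v20585)))))))))))
theorem f664854 : Led Lsl_ff (LP (LK LD1_c3 LD2_c46 LD3_c17)) = v7386 :=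
  Lgr Lrot3 (Lpr_ft (f664850 IH) (Lpn v7386))
theorem f466838 : Led Lsl_at (LP (LK LD1_c3 LD2_c46 LD3_c17)) = (LP (LK LD1_c3 LD2_c41 LD3_c61)) :=
  Lgr Lrot100 (Lpr_af (K29.f466823 IH) (Lpn (LP (LK LD1_c3 LD2_c41 LD3_c61))))
theorem f664855 : Led Lsl_at K48.v7197 = v7386 :=
  Lgr Lrot66 (Lpe (K48.f661978 IH) (Lpe (f466838 IH) (Lpr_ff (f664854 IH) (Lpn v7386))))
theorem f493554 : Led Lsl_ff (LP (LK LD1_c7 LD2_c2 LD3_c37)) = (LP (LK LD1_c3 LD2_c42 LD3_c2)) :=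
  Lgr Lrot23 (Lpe (f129775 IH) (Lpr_ft (K30.f493550 IH) (Lpr_ct (K29.f456278 IH) (Lpn (LP (LK LD1_c3 LD2_c42 LD3_c2))))))
theorem f661983 : Led Lsl_et (LP (LK LD1_c7 LD2_c2 LD3_c37)) = K48.v7197 :=
  Lgr Lrot69 (Lpr_ff (f493554 IH) (Lpe (K29.f456286 IH) (Lpe (K29.f458718 IH) (Lpe (K48.f458722 IH) (Lpr_ff (K48.f661981 IH) (Lpn K48.v7197))))))
theorem f788043 : Led Lsl_af (LP (LK LD1_c7 LD2_c2 LD3_c37)) = v20585 :=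
  Lgr Lrot50 (Lpr_et (f661983 IH) (Lpr_at (f664855 IH) (Lpr_et (f788042 IH) (Lpn v20585))))
theorem f788044 : Led Lsl_ef v7386 = v20585 :=
  Lgr Lrot88 (Lpr_et (f788042 IH) (Lpn v20585))
theorem f788046 : Led Lsl_ft (LP (LK LD1_c7 LD2_c1 LD3_c12)) = v20585 :=
  Lgr Lrot86 (Lpe (K48.f474676 IH) (Lpe (K29.f474685 IH) (Lpe (K29.f466840 IH) (Lpr_ff (f664854 IH) (Lpr_ef (f788044 IH) (Lpn v20585))))))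
theorem f788058 : Led Lsl_gt (LP (LK LD1_c7 LD2_c1 LD3_c12)) = v20586 :=
  Lgr Lrot5 (Lpr_ft (f788046 IH) (Lpe (f788043 IH) (Lpr_gf (f788057 IH) (Lpn v20586))))
theorem f487180 : Led Lsl_dt (LP (LK LD1_c7 LD2_c46 LD3_c45)) = (LP (LK LD1_c7 LD2_c1 LD3_c12)) :=
  Lgr Lrot42 (Lpr_df (K48.f487172 IH) (Lpn (LP (LK LD1_c7 LD2_c1 LD3_c12))))
theorem f493565 : Led Lsl_gt (LP (LK LD1_c3 LD2_c30 LD3_c22)) = (LP (LK LD1_c7 LD2_c1 LD3_c12)) :=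
  Lgr Lrot46 (Lpe (K61.f64943 IH) (Lpr_ft (K61.f493559 IH) (Lpr_at (K29.f474672 IH) (Lpn (LP (LK LD1_c7 LD2_c1 LD3_c12))))))
theorem f64947 : Led Lsl_dt (LP (LK LD1_c7 LD2_c2 LD3_c38)) = (LP (LK LD1_c3 LD2_c30 LD3_c22)) :=
  Lre_d IH (LK LD1_c7 LD2_c2 LD3_c38) (LK LD1_c3 LD2_c30 LD3_c22) Lrfl Lrfl
theorem f17071 : Led Lsl_et (LP (LK LD1_c7 LD2_c46 LD3_c41)) = (LP (LK LD1_c3 LD2_c52 LD3_c25)) :=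
  Lre_e IH (LK LD1_c7 LD2_c46 LD3_c41) (LK LD1_c3 LD2_c52 LD3_c25) Lrfl Lrfl
theorem f15341 : Led Lsl_dt (LP (LK LD1_c7 LD2_c46 LD3_c41)) = (LP (LK LD1_c3 LD2_c52 LD3_c24)) :=
  Lre_d IH (LK LD1_c7 LD2_c46 LD3_c41) (LK LD1_c3 LD2_c52 LD3_c24) Lrfl Lrfl
theorem f64961 : Led Lsl_gt (LP (LK LD1_c7 LD2_c46 LD3_c40)) = (LP (LK LD1_c3 LD2_c52 LD3_c24)) :=
  Lre_g IH (LK LD1_c7 LD2_c46 LD3_c40) (LK LD1_c3 LD2_c52 LD3_c24) Lrfl Lrfl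
theorem f64962 : Led Lsl_dt (LP (LK LD1_c14 LD2_c40 LD3_c23)) = (LP (LK LD1_c7 LD2_c46 LD3_c40)) :=
  Lre_d IH (LK LD1_c14 LD2_c40 LD3_c23) (LK LD1_c7 LD2_c46 LD3_c40) Lrfl Lrfl
theorem f64963 : Led Lsl_et (LP (LK LD1_c14 LD2_c40 LD3_c23)) = (LP (LK LD1_c24 LD2_c24 LD3_c25)) :=
  Lre_e IH (LK LD1_c14 LD2_c40 LD3_c23) (LK LD1_c24 LD2_c24 LD3_c25) Lrfl Lrfl
theorem f493568 : Led Lsl_gf (LP (LK LD1_c24 LD2_c24 LD3_c25)) = (LP (LK LD1_c14 LD2_c40 LD3_c35)) :=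
  Lgr Lrot141 (Lpe (f64963 IH) (Lpr_dt (f64962 IH) (Lpr_gt (f64961 IH) (Lpe (f15341 IH) (Lpr_et (f17071 IH) (Lpr_gt (K1.f64938 IH) (Lpr_dt (f64947 IH) (Lpr_gt (f493565 IH) (Lpe (f487180 IH) (Lpr_et (K48.f487182 IH) (Lpn (LP (LK LD1_c14 LD2_c40 LD3_c35)))))))))))))
theorem f487193 : Led Lsl_ft (LP (LK LD1_c14 LD2_c40 LD3_c35)) = (LP (LK LD1_c24 LD2_c24 LD3_c46)) :=
  Lre_f IH (LK LD1_c14 LD2_c40 LD3_c35) (LK LD1_c24 LD2_c24 LD3_c46) Lrfl Lrfl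
theorem f466885 : Led Lsl_at (LP (LK LD1_c14 LD2_c15 LD3_c35)) = (LP (LK LD1_c14 LD2_c1 LD3_c20)) :=
  Lgr Lrot100 (Lpr_af (K29.f466875 IH) (Lpn (LP (LK LD1_c14 LD2_c1 LD3_c20))))
theorem f474596 : Led Lsl_at (LP (LK LD1_c14 LD2_c1 LD3_c32)) = (LP (LK LD1_c22 LD2_c35 LD3_c20)) :=
  Lgr Lrot80 (Lpe (K29.f458728 IH) (Lpe (f466885 IH) (Lpr_ef (K29.f474594 IH) (Lpn (LP (LK LD1_c22 LD2_c35 LD3_c20))))))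
theorem f456339 : Led Lsl_dt (LP (LK LD1_c23 LD2_c34 LD3_c25)) = (LP (LK LD1_c14 LD2_c1 LD3_c32)) :=
  Lre_d IH (LK LD1_c23 LD2_c34 LD3_c25) (LK LD1_c14 LD2_c1 LD3_c32) Lrfl Lrfl
theorem f487196 : Led Lsl_at (LP (LK LD1_c24 LD2_c24 LD3_c46)) = (LP (LK LD1_c23 LD2_c34 LD3_c25)) :=
  Lgr Lrot51 (Lpr_df (K48.f487191 IH) (Lpe (f474596 IH) (Lpe (f456339 IH) (Lpn (LP (LK LD1_c23 LD2_c34 LD3_c25))))))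
theorem f493571 : Led Lsl_gt (LP (LK LD1_c24 LD2_c24 LD3_c25)) = (LP (LK LD1_c23 LD2_c34 LD3_c25)) :=
  Lgr Lrot46 (Lpr_gf (f493568 IH) (Lpr_ft (f487193 IH) (Lpr_at (f487196 IH) (Lpn (LP (LK LD1_c23 LD2_c34 LD3_c25))))))
theorem f493573 : Led Lsl_gt (LP (LK LD1_c14 LD2_c21 LD3_c13)) = (LP (LK LD1_c7 LD2_c46 LD3_c40)) :=
  Lre_g IH (LK LD1_c14 LD2_c21 LD3_c13) (LK LD1_c7 LD2_c46 LD3_c40) Lrfl Lrfl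
theorem f443277 : Led Lsl_dt (LP (LK LD1_c21 LD2_c52 LD3_c49)) = (LP (LK LD1_c14 LD2_c21 LD3_c13)) :=
  Lre_d IH (LK LD1_c21 LD2_c52 LD3_c49) (LK LD1_c14 LD2_c21 LD3_c13) Lrfl Lrfl
theorem f443276 : Led Lsl_et (LP (LK LD1_c21 LD2_c52 LD3_c49)) = (LP (LK LD1_c12 LD2_c45 LD3_c31)) :=
  Lre_e IH (LK LD1_c21 LD2_c52 LD3_c49) (LK LD1_c12 LD2_c45 LD3_c31) Lrfl Lrfl
theorem f493574 : Led Lsl_gt (LP (LK LD1_c7 LD2_c45 LD3_c27)) = (LP (LK LD1_c12 LD2_c45 LD3_c31)) :=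
  Lre_g IH (LK LD1_c7 LD2_c45 LD3_c27) (LK LD1_c12 LD2_c45 LD3_c31) Lrfl Lrfl
theorem f493575 : Led Lsl_et (LP (LK LD1_c14 LD2_c38 LD3_c3)) = (LP (LK LD1_c7 LD2_c45 LD3_c27)) :=
  Lre_e IH (LK LD1_c14 LD2_c38 LD3_c3) (LK LD1_c7 LD2_c45 LD3_c27) Lrfl Lrfl
theorem f474619 : Led Lsl_gt (LP (LK LD1_c22 LD2_c35 LD3_c19)) = (LP (LK LD1_c13 LD2_c18 LD3_c60)) :=
  Lre_g IH (LK LD1_c22 LD2_c35 LD3_c19) (LK LD1_c13 LD2_c18 LD3_c60) Lrfl Lrfl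
theorem f474620 : Led Lsl_gt (LP (LK LD1_c14 LD2_c1 LD3_c32)) = (LP (LK LD1_c22 LD2_c35 LD3_c19)) :=
  Lgr Lrot5 (Lpr_ft (K29.f456344 IH) (Lpr_at (K29.f474604 IH) (Lpe (f474619 IH) (Lpn (LP (LK LD1_c22 LD2_c35 LD3_c19))))))
theorem f493576 : Led Lsl_dt (LP (LK LD1_c14 LD2_c38 LD3_c3)) = (LP (LK LD1_c22 LD2_c35 LD3_c19)) :=
  Lgr Lrot56 (Lpr_et (f493575 IH) (Lpr_gt (f493574 IH) (Lpe (f443276 IH) (Lpr_dt (f443277 IH) (Lpr_gt (f493573 IH) (Lpe (f64962 IH) (Lpr_et (f64963 IH) (Lpr_gt (f493571 IH) (Lpr_dt (f456339 IH) (Lpr_gt (f474620 IH) (Lpn (LP (LK LD1_c22 LD2_c35 LD3_c19)))))))))))))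
theorem f15488 : Led Lsl_gt (LP (LK LD1_c3 LD2_c51 LD3_c50)) = (LP (LK LD1_c7 LD2_c45 LD3_c27)) :=
  Lre_g IH (LK LD1_c3 LD2_c51 LD3_c50) (LK LD1_c7 LD2_c45 LD3_c27) Lrfl Lrfl
theorem f16996 : Led Lsl_et (LP (LK LD1_c1 LD2_c52 LD3_c54)) = (LP (LK LD1_c3 LD2_c51 LD3_c50)) :=
  Lre_e IH (LK LD1_c1 LD2_c52 LD3_c54) (LK LD1_c3 LD2_c51 LD3_c50) Lrfl Lrfl
theorem f487194 : Led Lsl_et (LP (LK LD1_c14 LD2_c40 LD3_c35)) = (LP (LK LD1_c7 LD2_c46 LD3_c45)) :=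
  Lre_e IH (LK LD1_c14 LD2_c40 LD3_c35) (LK LD1_c7 LD2_c46 LD3_c45) Lrfl Lrfl
theorem f493591 : Led Lsl_gf (LP (LK LD1_c3 LD2_c52 LD3_c30)) = (LP (LK LD1_c7 LD2_c46 LD3_c45)) :=
  Lgr Lrot138 (Lpr_dt (K48.f493590 IH) (Lpr_gt (K34.f17019 IH) (Lpe (K28.f15678 IH) (Lpr_et (f16996 IH) (Lpr_gt (f15488 IH) (Lpe (f493575 IH) (Lpr_dt (f493576 IH) (Lpr_gt (f474619 IH) (Lpe (K48.f487183 IH) (Lpr_et (f487194 IH) (Lpn (LP (LK LD1_c7 LD2_c46 LD3_c45)))))))))))))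
theorem f14900 : Led Lsl_ct (LP (LK LD1_c3 LD2_c52 LD3_c30)) = (LP (LK LD1_c7 LD2_c46 LD3_c51)) :=
  Lre_c IH (LK LD1_c3 LD2_c52 LD3_c30) (LK LD1_c7 LD2_c46 LD3_c51) Lrfl Lrfl
theorem f472334 : Led Lsl_ct (LP (LK LD1_c14 LD2_c44 LD3_c5)) = (LP (LK LD1_c7 LD2_c48 LD3_c31)) :=
  Lre_c IH (LK LD1_c14 LD2_c44 LD3_c5) (LK LD1_c7 LD2_c48 LD3_c31) Lrfl Lrfl
theorem f517022 : Led Lsl_ft (LP (LK LD1_c14 LD2_c14 LD3_c61)) = (LP (LK LD1_c14 LD2_c44 LD3_c5)) :=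
  Lgr Lrot4 (Lpe (K48.f472288 IH) (Lpr_ff (K48.f517020 IH) (Lpe (f472334 IH) (Lpn (LP (LK LD1_c14 LD2_c44 LD3_c5))))))
theorem f516907 : Led Lsl_ct (LP (LK LD1_c23 LD2_c51 LD3_c12)) = (LP (LK LD1_c14 LD2_c14 LD3_c59)) :=
  Lre_c IH (LK LD1_c23 LD2_c51 LD3_c12) (LK LD1_c14 LD2_c14 LD3_c59) Lrfl Lrfl
theorem f472436 : Led Lsl_ct (LP (LK LD1_c14 LD2_c44 LD3_c3)) = (LP (LK LD1_c24 LD2_c29 LD3_c52)) :=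
  Lre_c IH (LK LD1_c14 LD2_c44 LD3_c3) (LK LD1_c24 LD2_c29 LD3_c52) Lrfl Lrfl
theorem f516908 : Led Lsl_af (LP (LK LD1_c23 LD2_c51 LD3_c12)) = (LP (LK LD1_c24 LD2_c29 LD3_c52)) :=
  Lgr Lrot68 (Lpr_ct (f516907 IH) (Lpr_at (K47.f516903 IH) (Lpr_ct (f472436 IH) (Lpn (LP (LK LD1_c24 LD2_c29 LD3_c52))))))
theorem f517007 : Led Lsl_at (LP (LK LD1_c23 LD2_c51 LD3_c12)) = (LP (LK LD1_c24 LD2_c29 LD3_c52)) :=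
  Lgr Lrot100 (Lpr_af (f516908 IH) (Lpn (LP (LK LD1_c24 LD2_c29 LD3_c52))))
theorem f517013 : Led Lsl_et (LP (LK LD1_c14 LD2_c14 LD3_c61)) = (LP (LK LD1_c23 LD2_c51 LD3_c12)) :=
  Lre_e IH (LK LD1_c14 LD2_c14 LD3_c61) (LK LD1_c23 LD2_c51 LD3_c12) Lrfl Lrfl
theorem f517014 : Led Lsl_et (LP (LK LD1_c24 LD2_c29 LD3_c52)) = (LP (LK LD1_c14 LD2_c44 LD3_c2)) :=
  Lre_e IH (LK LD1_c24 LD2_c29 LD3_c52) (LK LD1_c14 LD2_c44 LD3_c2) Lrfl Lrfl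
theorem f517015 : Led Lsl_af (LP (LK LD1_c14 LD2_c14 LD3_c61)) = (LP (LK LD1_c14 LD2_c44 LD3_c2)) :=
  Lgr Lrot50 (Lpr_et (f517013 IH) (Lpr_at (f517007 IH) (Lpr_et (f517014 IH) (Lpn (LP (LK LD1_c14 LD2_c44 LD3_c2))))))
theorem f465247 : Led Lsl_gt (LP (LK LD1_c14 LD2_c40 LD3_c37)) = (LP (LK LD1_c7 LD2_c46 LD3_c47)) :=
  Lre_g IH (LK LD1_c14 LD2_c40 LD3_c37) (LK LD1_c7 LD2_c46 LD3_c47) Lrfl Lrfl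
theorem f518386 : Led Lsl_ff (LP (LK LD1_c14 LD2_c44 LD3_c2)) = (LP (LK LD1_c14 LD2_c40 LD3_c37)) :=
  Lgr Lrot52 (Lpe (f517015 IH) (Lpr_gf (f518384 IH) (Lpe (f465247 IH) (Lpn (LP (LK LD1_c14 LD2_c40 LD3_c37))))))
theorem f518391 : Led Lsl_at (LP (LK LD1_c14 LD2_c44 LD3_c5)) = (LP (LK LD1_c14 LD2_c40 LD3_c37)) :=
  Lgr Lrot66 (Lpe (f517022 IH) (Lpr_af (f517015 IH) (Lpr_ff (f518386 IH) (Lpn (LP (LK LD1_c14 LD2_c40 LD3_c37))))))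
theorem f664332 : Led Lsl_gt (LP (LK LD1_c7 LD2_c46 LD3_c51)) = (LP (LK LD1_c14 LD2_c40 LD3_c37)) :=
  Lgr Lrot46 (Lpr_gf (K48.f664330 IH) (Lpr_ft (f517022 IH) (Lpr_at (f518391 IH) (Lpn (LP (LK LD1_c14 LD2_c40 LD3_c37))))))
theorem f800842 : Led Lsl_ct (LP (LK LD1_c14 LD2_c40 LD3_c37)) = v22034 :=
  Lgr Lrot151 (Lpe (f664332 IH) (Lpe (f14900 IH) (Lpr_gf (f493591 IH) (Lpr_dt (f487180 IH) (Lpr_gt (f788058 IH) (Lpe (f788049 IH) (Lpr_gt (f661011 IH) (Lpe (f661006 IH) (Lpr_dt (f800839 IH) (Lpn v22034))))))))))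
theorem f800843 : Led Lsl_cf (LP (LK LD1_c14 LD2_c40 LD3_c37)) = v22034 :=
  Lgr Lrot11 (Lpr_ct (f800842 IH) (Lpn v22034))
theorem f488421 : Led Lsl_bt (LP (LK LD1_c3 LD2_c52 LD3_c27)) = (LP (LK LD1_c7 LD2_c46 LD3_c43)) :=
  Lre_b IH (LK LD1_c3 LD2_c52 LD3_c27) (LK LD1_c7 LD2_c46 LD3_c43) Lrfl Lrfl
theorem f488428 : Led Lsl_gt (LP (LK LD1_c7 LD2_c46 LD3_c43)) = (LP (LK LD1_c14 LD2_c40 LD3_c28)) :=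
  Lre_g IH (LK LD1_c7 LD2_c46 LD3_c43) (LK LD1_c14 LD2_c40 LD3_c28) Lrfl Lrfl
theorem f802933 : Led Lsl_dt (LP (LK LD1_c24 LD2_c26 LD3_c21)) = (LP (LK LD1_c14 LD2_c41 LD3_c40)) :=
  Lre_d IH (LK LD1_c24 LD2_c26 LD3_c21) (LK LD1_c14 LD2_c41 LD3_c40) Lrfl Lrfl
theorem f130056 : Led Lsl_dt (LP (LK LD1_c30 LD2_c27 LD3_c48)) = (LP (LK LD1_c22 LD2_c23 LD3_c7)) :=
  Lre_d IH (LK LD1_c30 LD2_c27 LD3_c48) (LK LD1_c22 LD2_c23 LD3_c7) Lrfl Lrfl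
theorem f802993 : Led Lsl_gf (LP (LK LD1_c30 LD2_c27 LD3_c48)) = (LP (LK LD1_c30 LD2_c15 LD3_c19)) :=
  Lgr Lrot144 (Lpr_dt (f130056 IH) (Lpe (f802452 IH) (Lpr_dt (f802456 IH) (Lpr_cf (f802748 IH) (Lpe (f457603 IH) (Lpe (f802929 IH) (Lpe (f802933 IH) (Lpr_gf (f802991 IH) (Lpe (f802987 IH) (Lpn (LP (LK LD1_c30 LD2_c15 LD3_c19))))))))))))
theorem f457843 : Led Lsl_dt (LP (LK LD1_c6 LD2_c56 LD3_c59)) = (LP (LK LD1_c3 LD2_c27 LD3_c25)) :=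
  Lre_d IH (LK LD1_c6 LD2_c56 LD3_c59) (LK LD1_c3 LD2_c27 LD3_c25) Lrfl Lrfl
theorem f457844 : Led Lsl_gt (LP (LK LD1_c13 LD2_c11 LD3_c43)) = (LP (LK LD1_c6 LD2_c56 LD3_c59)) :=
  Lre_g IH (LK LD1_c13 LD2_c11 LD3_c43) (LK LD1_c6 LD2_c56 LD3_c59) Lrfl Lrfl
theorem f476046 : Led Lsl_ct (LP (LK LD1_c13 LD2_c11 LD3_c43)) = (LP (LK LD1_c22 LD2_c24 LD3_c35)) :=
  Lre_c IH (LK LD1_c13 LD2_c11 LD3_c43) (LK LD1_c22 LD2_c24 LD3_c35) Lrfl Lrfl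
theorem f803015 : Led Lsl_gt (LP (LK LD1_c22 LD2_c24 LD3_c35)) = (LP (LK LD1_c22 LD2_c0 LD3_c44)) :=
  Lgr Lrot94 (Lpe (f476046 IH) (Lpr_gt (f457844 IH) (Lpr_dt (f457843 IH) (Lpr_gt (K34.f532821 IH) (Lpr_dt (f130063 IH) (Lpe (f130055 IH) (Lpe (f130056 IH) (Lpr_gf (f802993 IH) (Lpe (f780422 IH) (Lpn (LP (LK LD1_c22 LD2_c0 LD3_c44))))))))))))
theorem f803482 : Led Lsl_bf (LP (LK LD1_c14 LD2_c40 LD3_c28)) = (LP (LK LD1_c13 LD2_c11 LD3_c43)) :=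
  Lgr Lrot34 (Lpe (f488428 IH) (Lpe (f488421 IH) (Lpr_ct (f17015 IH) (Lpe (f465247 IH) (Lpr_cf (f800843 IH) (Lpe (f800837 IH) (Lpr_bf (f803105 IH) (Lpr_ct (f780058 IH) (Lpe (f803015 IH) (Lpe (f476046 IH) (Lpn (LP (LK LD1_c13 LD2_c11 LD3_c43)))))))))))))
theorem f803483 : Led Lsl_bt (LP (LK LD1_c13 LD2_c11 LD3_c43)) = (LP (LK LD1_c14 LD2_c40 LD3_c28)) :=
  Leop (Lpr_bf (f803482 IH) (Lpn (LP (LK LD1_c13 LD2_c11 LD3_c43))))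
theorem seed_1678 : LEOK LG_b (LK LD1_c13 LD2_c11 LD3_c43) :=
  Leoe_b (LK LD1_c13 LD2_c11 LD3_c43) (f803483 IH)
def v22186 : LQ := Led Lsl_gf (LP (LK LD1_c7 LD2_c32 LD3_c34))
theorem f804426 : Led Lsl_gf (LP (LK LD1_c7 LD2_c32 LD3_c34)) = v22186 :=
  Lrfl
theorem f146580 : Led Lsl_dt (LP (LK LD1_c3 LD2_c45 LD3_c54)) = (LP (LK LD1_c7 LD2_c32 LD3_c34)) :=
  Lre_d IH (LK LD1_c3 LD2_c45 LD3_c54) (LK LD1_c7 LD2_c32 LD3_c34) Lrfl Lrfl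
theorem f156458 : Led Lsl_gf (LP (LK LD1_c3 LD2_c14 LD3_c50)) = (LP (LK LD1_c1 LD2_c50 LD3_c2)) :=
  Lgr Lrot143 (Lpr_dt (K7.f24306 IH) (Lpe (K7.f24302 IH) (Lpe (K7.f24301 IH) (Lpr_gf (K7.f156454 IH) (Lpe (K4.f23486 IH) (Lpe (K3.f109972 IH) (Lpe (K3.f11011 IH) (Lpr_gt (K2.f78097 IH) (Lpr_dt (K3.f108980 IH) (Lpn (LP (LK LD1_c1 LD2_c50 LD3_c2))))))))))))
def v18790 : LQ := Led Lsl_dt (LP (LK LD1_c6 LD2_c33 LD3_c10))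
theorem f768570 : Led Lsl_dt (LP (LK LD1_c6 LD2_c33 LD3_c10)) = v18790 :=
  Lrfl
theorem f15847 : Led Lsl_bt (LP (LK LD1_c6 LD2_c51 LD3_c61)) = (LP (LK LD1_c3 LD2_c24 LD3_c46)) :=
  Lre_b IH (LK LD1_c6 LD2_c51 LD3_c61) (LK LD1_c3 LD2_c24 LD3_c46) Lrfl Lrfl
theorem f512650 : Led Lsl_ft (LP (LK LD1_c7 LD2_c3 LD3_c11)) = (LP (LK LD1_c6 LD2_c51 LD3_c61)) :=
  Lgr Lrot75 (Lpe (K37.f468321 IH) (Lpr_ff (K34.f512646 IH) (Lpe (f15847 IH) (Lpn (LP (LK LD1_c6 LD2_c51 LD3_c61))))))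
theorem f512738 : Led Lsl_at (LP (LK LD1_c6 LD2_c51 LD3_c61)) = (LP (LK LD1_c13 LD2_c3 LD3_c33)) :=
  Lre_a IH (LK LD1_c6 LD2_c51 LD3_c61) (LK LD1_c13 LD2_c3 LD3_c33) Lrfl Lrfl
theorem f513083 : Led Lsl_gt (LP (LK LD1_c13 LD2_c22 LD3_c36)) = (LP (LK LD1_c13 LD2_c3 LD3_c33)) :=
  Lgr Lrot46 (Lpe (K37.f457610 IH) (Lpr_ft (f512650 IH) (Lpr_at (f512738 IH) (Lpn (LP (LK LD1_c13 LD2_c3 LD3_c33))))))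
theorem f534052 : Led Lsl_gf (LP (LK LD1_c7 LD2_c31 LD3_c15)) = (LP (LK LD1_c13 LD2_c3 LD3_c33)) :=
  Lgr Lrot76 (Lpe (K34.f111317 IH) (Lpr_ff (K39.f534046 IH) (Lpr_gt (f513083 IH) (Lpn (LP (LK LD1_c13 LD2_c3 LD3_c33))))))
theorem f475731 : Led Lsl_dt (LP (LK LD1_c14 LD2_c41 LD3_c25)) = (LP (LK LD1_c7 LD2_c47 LD3_c7)) :=
  Lre_d IH (LK LD1_c14 LD2_c41 LD3_c25) (LK LD1_c7 LD2_c47 LD3_c7) Lrfl Lrfl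
theorem f475677 : Led Lsl_ct (LP (LK LD1_c3 LD2_c52 LD3_c61)) = (LP (LK LD1_c7 LD2_c47 LD3_c7)) :=
  Lre_c IH (LK LD1_c3 LD2_c52 LD3_c61) (LK LD1_c7 LD2_c47 LD3_c7) Lrfl Lrfl
theorem f475678 : Led Lsl_dt (LP (LK LD1_c7 LD2_c47 LD3_c53)) = (LP (LK LD1_c3 LD2_c52 LD3_c61)) :=
  Lre_d IH (LK LD1_c7 LD2_c47 LD3_c53) (LK LD1_c3 LD2_c52 LD3_c61) Lrfl Lrfl
theorem f157465 : Led Lsl_gt (LP (LK LD1_c12 LD2_c33 LD3_c38)) = (LP (LK LD1_c6 LD2_c33 LD3_c10)) :=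
  Lre_g IH (LK LD1_c12 LD2_c33 LD3_c38) (LK LD1_c6 LD2_c33 LD3_c10) Lrfl Lrfl
theorem f804393 : Led Lsl_gf (LP (LK LD1_c7 LD2_c47 LD3_c53)) = v18790 :=
  Lgr Lrot154 (Lpr_dt (f475678 IH) (Lpr_ct (f475677 IH) (Lpe (f475731 IH) (Lpr_gf (f534034 IH) (Lpe (K34.f111078 IH) (Lpr_gf (f534052 IH) (Lpr_ct (f789596 IH) (Lpqs (f801879 IH) (Lpr_gt (f157465 IH) (Lpr_dt (f768570 IH) (Lpn v18790)))))))))))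
theorem f475732 : Led Lsl_dt (LP (LK LD1_c3 LD2_c52 LD3_c61)) = (LP (LK LD1_c7 LD2_c47 LD3_c53)) :=
  Lre_d IH (LK LD1_c3 LD2_c52 LD3_c61) (LK LD1_c7 LD2_c47 LD3_c53) Lrfl Lrfl
theorem f473708 : Led Lsl_et (LP (LK LD1_c3 LD2_c52 LD3_c61)) = (LP (LK LD1_c7 LD2_c47 LD3_c54)) :=
  Lre_e IH (LK LD1_c3 LD2_c52 LD3_c61) (LK LD1_c7 LD2_c47 LD3_c54) Lrfl Lrfl
theorem f127082 : Led Lsl_ff (LP (LK LD1_c1 LD2_c34 LD3_c2)) = (LP (LK LD1_c2 LD2_c20 LD3_c6)) :=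
  Lgr Lrot19 (Lpr_dt (K5.f111910 IH) (Lpr_ft (K3.f89776 IH) (Lpr_dt (K5.f127075 IH) (Lpn (LP (LK LD1_c2 LD2_c20 LD3_c6))))))
theorem f156465 : Led Lsl_gt (LP (LK LD1_c1 LD2_c33 LD3_c58)) = (LP (LK LD1_c1 LD2_c51 LD3_c18)) :=
  Lgr Lrot46 (Lpr_gf (K7.f156460 IH) (Lpe (f127082 IH) (Lpr_at (K5.f111905 IH) (Lpn (LP (LK LD1_c1 LD2_c51 LD3_c18))))))
theorem f429004 : Led Lsl_et (LP (LK LD1_c7 LD2_c38 LD3_c10)) = (LP (LK LD1_c3 LD2_c48 LD3_c34)) :=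
  Lre_e IH (LK LD1_c7 LD2_c38 LD3_c10) (LK LD1_c3 LD2_c48 LD3_c34) Lrfl Lrfl
theorem f804428 : Led Lsl_dt (LP (LK LD1_c7 LD2_c38 LD3_c10)) = v22186 :=
  Lgr Lrot136 (Lpr_et (f429004 IH) (Lpe (K37.f429003 IH) (Lpe (f89821 IH) (Lpr_dt (K5.f64306 IH) (Lpe (f156465 IH) (Lpe (K7.f24306 IH) (Lpr_gf (f156458 IH) (Lpe (K3.f108989 IH) (Lpr_dt (f146580 IH) (Lpr_gf (f804426 IH) (Lpn v22186)))))))))))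
theorem f804429 : Led Lsl_gt (LP (LK LD1_c7 LD2_c47 LD3_c54)) = (LP (LK LD1_c7 LD2_c38 LD3_c10)) :=
  Lgr Lrot137 (Lpe (f473708 IH) (Lpr_dt (f475732 IH) (Lpr_gf (f804393 IH) (Lpe (f768570 IH) (Lpr_et (f58807 IH) (Lpr_gf (f156458 IH) (Lpe (K3.f108989 IH) (Lpr_dt (f146580 IH) (Lpr_gf (f804426 IH) (Lpe (f804428 IH) (Lpn (LP (LK LD1_c7 LD2_c38 LD3_c10)))))))))))))
theorem f804430 : Led Lsl_gt (LP (LK LD1_c7 LD2_c47 LD3_c54)) = (LP (LK LD1_c7 LD2_c38 LD3_c10)) :=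
  Leop (Lpe (f804429 IH) (Lpn (LP (LK LD1_c7 LD2_c47 LD3_c54))))
theorem seed_1679 : LEOK LG_g (LK LD1_c7 LD2_c47 LD3_c54) :=
  Leoe_g (LK LD1_c7 LD2_c47 LD3_c54) (f804430 IH)
def v22190 : LQ := Led Lsl_gf (LP (LK LD1_c7 LD2_c32 LD3_c37))
theorem f804457 : Led Lsl_gf (LP (LK LD1_c7 LD2_c32 LD3_c37)) = v22190 :=
  Lrfl
theorem f438276 : Led Lsl_gt (LP (LK LD1_c7 LD2_c32 LD3_c37)) = (LP (LK LD1_c14 LD2_c13 LD3_c28)) :=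
  Lre_g IH (LK LD1_c7 LD2_c32 LD3_c37) (LK LD1_c14 LD2_c13 LD3_c28) Lrfl Lrfl
theorem f802085 : K49.v9448 = (LP (LK LD1_c7 LD2_c38 LD3_c1)) :=
  Lefun (Lecon (K49.f676017 IH) (f802069 IH).symm) (f64432 IH)
theorem f514332 : Led Lsl_et (LP (LK LD1_c7 LD2_c3 LD3_c33)) = (LP (LK LD1_c13 LD2_c23 LD3_c13)) :=
  Lre_e IH (LK LD1_c7 LD2_c3 LD3_c33) (LK LD1_c13 LD2_c23 LD3_c13) Lrfl Lrfl
theorem f804354 : Led Lsl_gt (LP (LK LD1_c13 LD2_c23 LD3_c13)) = (LP (LK LD1_c7 LD2_c32 LD3_c38)) :=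
  Lgr Lrot137 (Lpe (f514332 IH) (Lpr_dt (f461575 IH) (Lpr_gf (K49.f676019 IH) (Lpqs (f802085 IH) (Lpe (f64432 IH) (Lpr_et (f64435 IH) (Lpr_gf (K5.f89778 IH) (Lpe (K60.f89775 IH) (Lpr_dt (K60.f780318 IH) (Lpe (K60.f780323 IH) (Lpe (K60.f438275 IH) (Lpn (LP (LK LD1_c7 LD2_c32 LD3_c38))))))))))))))
theorem f664787 : Led Lsl_et (LP (LK LD1_c3 LD2_c45 LD3_c55)) = (LP (LK LD1_c7 LD2_c32 LD3_c38)) :=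
  Lre_e IH (LK LD1_c3 LD2_c45 LD3_c55) (LK LD1_c7 LD2_c32 LD3_c38) Lrfl Lrfl
theorem f85280 : Led Lsl_dt (LP (LK LD1_c3 LD2_c45 LD3_c55)) = (LP (LK LD1_c7 LD2_c32 LD3_c37)) :=
  Lre_d IH (LK LD1_c3 LD2_c45 LD3_c55) (LK LD1_c7 LD2_c32 LD3_c37) Lrfl Lrfl
theorem f804357 : Led Lsl_dt (LP (LK LD1_c14 LD2_c22 LD3_c9)) = (LP (LK LD1_c14 LD2_c13 LD3_c28)) :=
  Lgr Lrot37 (Lpr_et (K34.f457873 IH) (Lpq (f802038 IH) (Lpe (f665685 IH) (Lpr_dt (f64432 IH) (Lpq (f802085 IH) (Lpe (K49.f676019 IH) (Lpe (f461575 IH) (Lpr_et (f514332 IH) (Lpr_gt (f804354 IH) (Lpe (f664787 IH) (Lpr_dt (f85280 IH) (Lpr_gt (f438276 IH) (Lpn (LP (LK LD1_c14 LD2_c13 LD3_c28)))))))))))))))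
theorem f804363 : Led Lsl_df (LP (LK LD1_c14 LD2_c22 LD3_c9)) = (LP (LK LD1_c14 LD2_c13 LD3_c28)) :=
  Lgr Lrot38 (Lpr_dt (f804357 IH) (Lpn (LP (LK LD1_c14 LD2_c13 LD3_c28))))
theorem f804368 : Led Lsl_at (LP (LK LD1_c14 LD2_c22 LD3_c13)) = (LP (LK LD1_c14 LD2_c13 LD3_c28)) :=
  Lgr Lrot51 (Lpe (f457823 IH) (Lpe (K34.f457828 IH) (Lpr_df (f804363 IH) (Lpn (LP (LK LD1_c14 LD2_c13 LD3_c28))))))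
theorem f804459 : Led Lsl_ff (LP (LK LD1_c14 LD2_c22 LD3_c13)) = v22190 :=
  Lgr Lrot52 (Lpr_at (f804368 IH) (Lpe (f438276 IH) (Lpr_gf (f804457 IH) (Lpn v22190))))
theorem f804461 : Led Lsl_dt (LP (LK LD1_c7 LD2_c47 LD3_c54)) = v22190 :=
  Lgr Lrot60 (Lpr_ff (K48.f473697 IH) (Lpe (f457830 IH) (Lpr_ff (f804459 IH) (Lpn v22190))))
theorem f473702 : Led Lsl_et (LP (LK LD1_c7 LD2_c47 LD3_c54)) = (LP (LK LD1_c3 LD2_c52 LD3_c61)) :=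
  Lre_e IH (LK LD1_c7 LD2_c47 LD3_c54) (LK LD1_c3 LD2_c52 LD3_c61) Lrfl Lrfl
theorem f451237 : Led Lsl_gt (LP (LK LD1_c3 LD2_c52 LD3_c61)) = (LP (LK LD1_c7 LD2_c47 LD3_c50)) :=
  Lre_g IH (LK LD1_c3 LD2_c52 LD3_c61) (LK LD1_c7 LD2_c47 LD3_c50) Lrfl Lrfl
theorem f451238 : Led Lsl_dt (LP (LK LD1_c7 LD2_c47 LD3_c50)) = (LP (LK LD1_c14 LD2_c42 LD3_c49)) :=
  Lre_d IH (LK LD1_c7 LD2_c47 LD3_c50) (LK LD1_c14 LD2_c42 LD3_c49) Lrfl Lrfl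
theorem f493800 : Led Lsl_bf (LP (LK LD1_c7 LD2_c0 LD3_c24)) = (LP (LK LD1_c6 LD2_c53 LD3_c18)) :=
  Lgr Lrot24 (Lpr_bt (K47.f493798 IH) (Lpn (LP (LK LD1_c6 LD2_c53 LD3_c18))))
theorem f788309 : Led Lsl_bf K61.v20274 = K61.v20598 :=
  Lgr Lrot61 (Lpe (K61.f786033 IH) (Lpe (f493800 IH) (Lpr_ft (K61.f788307 IH) (Lpn K61.v20598))))
theorem f664804 : Led Lsl_bf (LP (LK LD1_c13 LD2_c5 LD3_c30)) = K49.v7378 :=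
  Lgr Lrot34 (Lpe (K46.f94327 IH) (Lpe (K4.f94326 IH) (Lpr_ct (K4.f94322 IH) (Lpr_gf (K29.f478475 IH) (Lpr_cf (K30.f491641 IH) (Lpe (K35.f491643 IH) (Lpe (K3.f95343 IH) (Lpr_ct (K49.f467096 IH) (Lpe (K49.f109828 IH) (Lpr_cf (K49.f664801 IH) (Lpn K49.v7378)))))))))))
def v7376 : LQ := Led Lsl_ct (LP (LK LD1_c3 LD2_c45 LD3_c55))
theorem f664792 : Led Lsl_ct (LP (LK LD1_c3 LD2_c45 LD3_c55)) = v7376 :=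
  Lrfl
theorem f664793 : Led Lsl_cf (LP (LK LD1_c3 LD2_c45 LD3_c55)) = v7376 :=
  Lgr Lrot11 (Lpr_ct (f664792 IH) (Lpn v7376))
theorem f788352 : v7376 = K61.v20597 :=
  (Llr Lrot108 (Lpe (f664793 IH) (Lpr_ft (K61.f664794 IH) (Lpq (K61.f788347 IH) (Lpe (K47.f658395 IH) (Lpr_ft (K61.f788305 IH) (Lpn K61.v20597))))))).symm
theorem f788306 : Led Lsl_ff (LP (LK LD1_c7 LD2_c0 LD3_c25)) = K61.v20597 :=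
  Lgr Lrot3 (Lpr_ft (K61.f788305 IH) (Lpn K61.v20597))
theorem f788311 : Led Lsl_at (LP (LK LD1_c7 LD2_c0 LD3_c25)) = K61.v20598 :=
  Lgr Lrot66 (Lpr_ff (f788306 IH) (Lpe (K61.f788303 IH) (Lpr_ff (K61.f788310 IH) (Lpn K61.v20598))))
theorem f673921 : Led Lsl_gf K49.v6780 = v7376 :=
  Lgr Lrot129 (Lpr_cf (K49.f673897 IH) (Lpe (K61.f673896 IH) (Lpe (K49.f523663 IH) (Lpr_bf (K35.f456289 IH) (Lpr_ct (K35.f4495 IH) (Lpr_gt (K29.f459355 IH) (Lpqs (K29.f466750 IH) (Lpe (K46.f85260 IH) (Lpr_bt (K29.f85278 IH) (Lpr_gt (K46.f85279 IH) (Lpr_ct (f664792 IH) (Lpn v7376))))))))))))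
theorem f788353 : K61.v20598 = K49.v7378 :=
  (Llr Lrot26 (Lpe (f788311 IH) (Lpr_ff (f788306 IH) (Lpq (f788352 IH) (Lpe (f673921 IH) (Lpr_gt (K49.f664803 IH) (Lpn K49.v7378))))))).symm
theorem f788354 : K61.v20274 = (LP (LK LD1_c13 LD2_c5 LD3_c30)) :=
  Lefun (Lecon (Lfl_bf (f788309 IH)) (f788353 IH)) (Lfl_bf (f664804 IH))
def v20273 : LQ := Led Lsl_ct (LP (LK LD1_c6 LD2_c53 LD3_c18))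
theorem f786028 : Led Lsl_ct (LP (LK LD1_c6 LD2_c53 LD3_c18)) = v20273 :=
  Lrfl
theorem f786029 : Led Lsl_cf (LP (LK LD1_c6 LD2_c53 LD3_c18)) = v20273 :=
  Lgr Lrot11 (Lpr_ct (f786028 IH) (Lpn v20273))
theorem f788359 : Led Lsl_ff v20273 = (LP (LK LD1_c13 LD2_c3 LD3_c1)) :=
  Lgr Lrot23 (Lpe (f786029 IH) (Lpr_ft (K61.f786031 IH) (Lpqs (f788354 IH) (Lpe (K46.f650361 IH) (Lpn (LP (LK LD1_c13 LD2_c3 LD3_c1)))))))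
theorem f788365 : Led Lsl_at v20273 = (LP (LK LD1_c7 LD2_c32 LD3_c36)) :=
  Lgr Lrot26 (Lpr_ff (f788359 IH) (Lpr_gt (K46.f130530 IH) (Lpe (K46.f511656 IH) (Lpn (LP (LK LD1_c7 LD2_c32 LD3_c36))))))
theorem f788367 : Led Lsl_af (LP (LK LD1_c13 LD2_c3 LD3_c1)) = K60.v20275 :=
  Lgr Lrot45 (Lpe (f788359 IH) (Lpr_at (f788365 IH) (Lpe (K61.f788336 IH) (Lpn K60.v20275))))
theorem f786040 : Led Lsl_bt (LP (LK LD1_c7 LD2_c32 LD3_c33)) = K60.v20275 :=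
  Lgr Lrot127 (Lpr_bf (K60.f786039 IH) (Lpn K60.v20275))
theorem f664789 : Led Lsl_ff (LP (LK LD1_c3 LD2_c45 LD3_c56)) = K61.v7375 :=
  Lgr Lrot3 (Lpr_ft (K61.f664788 IH) (Lpn K61.v7375))
theorem f664797 : Led Lsl_at (LP (LK LD1_c3 LD2_c45 LD3_c56)) = K61.v7377 :=
  Lgr Lrot66 (Lpr_ff (f664789 IH) (Lpe (K61.f664785 IH) (Lpr_ff (K61.f664796 IH) (Lpn K61.v7377))))
theorem f109626 : Led Lsl_bt (LP (LK LD1_c7 LD2_c32 LD3_c39)) = (LP (LK LD1_c3 LD2_c45 LD3_c56)) :=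
  Lre_b IH (LK LD1_c7 LD2_c32 LD3_c39) (LK LD1_c3 LD2_c45 LD3_c56) Lrfl Lrfl
theorem f664798 : Led Lsl_at (LP (LK LD1_c14 LD2_c13 LD3_c31)) = (LP (LK LD1_c7 LD2_c32 LD3_c39)) :=
  Lre_a IH (LK LD1_c14 LD2_c13 LD3_c31) (LK LD1_c7 LD2_c32 LD3_c39) Lrfl Lrfl
theorem f788369 : Led Lsl_bt (LP (LK LD1_c13 LD2_c3 LD3_c1)) = (LP (LK LD1_c14 LD2_c13 LD3_c31)) :=
  Lgr Lrot62 (Lpr_af (f788367 IH) (Lpe (f786040 IH) (Lpqs (K61.f788347 IH) (Lpe (f664797 IH) (Lpe (f109626 IH) (Lpe (f664798 IH) (Lpn (LP (LK LD1_c14 LD2_c13 LD3_c31)))))))))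
theorem f650363 : Led Lsl_ct (LP (LK LD1_c13 LD2_c3 LD3_c1)) = (LP (LK LD1_c13 LD2_c5 LD3_c30)) :=
  Lgr Lrot59 (Lpr_cf (K46.f650361 IH) (Lpn (LP (LK LD1_c13 LD2_c5 LD3_c30))))
theorem f788376 : Led Lsl_gf (LP (LK LD1_c13 LD2_c16 LD3_c29)) = (LP (LK LD1_c14 LD2_c13 LD3_c31)) :=
  Lgr Lrot124 (Lpe (K32.f91246 IH) (Lpr_ct (K32.f94505 IH) (Lpr_gt (K47.f611485 IH) (Lpe (K47.f116654 IH) (Lpe (K47.f485679 IH) (Lpr_gt (K47.f115951 IH) (Lpe (K4.f115911 IH) (Lpr_gt (K46.f94327 IH) (Lpe (f650363 IH) (Lpr_bt (f788369 IH) (Lpn (LP (LK LD1_c14 LD2_c13 LD3_c31)))))))))))))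
theorem f498007 : Led Lsl_at (LP (LK LD1_c14 LD2_c13 LD3_c15)) = (LP (LK LD1_c13 LD2_c16 LD3_c29)) :=
  Lgr Lrot67 (Lpe (K47.f122098 IH) (Lpr_af (K48.f497846 IH) (Lpr_bf (K47.f419807 IH) (Lpr_af (K47.f498001 IH) (Lpr_bf (K47.f91248 IH) (Lpn (LP (LK LD1_c13 LD2_c16 LD3_c29))))))))
theorem f788378 : Led Lsl_gt (LP (LK LD1_c14 LD2_c15 LD3_c23)) = (LP (LK LD1_c14 LD2_c13 LD3_c31)) :=
  Lgr Lrot5 (Lpr_ft (K61.f787521 IH) (Lpr_at (f498007 IH) (Lpr_gf (f788376 IH) (Lpn (LP (LK LD1_c14 LD2_c13 LD3_c31))))))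
theorem f664799 : Led Lsl_at (LP (LK LD1_c7 LD2_c32 LD3_c39)) = (LP (LK LD1_c14 LD2_c13 LD3_c31)) :=
  Lre_a IH (LK LD1_c7 LD2_c32 LD3_c39) (LK LD1_c14 LD2_c13 LD3_c31) Lrfl Lrfl
theorem f788381 : Led Lsl_ft (LP (LK LD1_c14 LD2_c13 LD3_c25)) = (LP (LK LD1_c7 LD2_c32 LD3_c39)) :=
  Lgr Lrot2 (Lpr_gt (K47.f658393 IH) (Lpr_gt (f788378 IH) (Lpe (f664799 IH) (Lpn (LP (LK LD1_c7 LD2_c32 LD3_c39))))))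
theorem f788406 : (LP (LK LD1_c7 LD2_c32 LD3_c32)) = K61.v7375 :=
  (Llr Lrot61 (Lpr_bt (K47.f493795 IH) (Lpr_ft (f788381 IH) (Lpr_bt (f109626 IH) (Lpr_ft (K61.f664788 IH) (Lpn K61.v7375)))))).symm
theorem f109831 : Led Lsl_dt (LP (LK LD1_c7 LD2_c32 LD3_c37)) = (LP (LK LD1_c3 LD2_c45 LD3_c55)) :=
  Lre_d IH (LK LD1_c7 LD2_c32 LD3_c37) (LK LD1_c3 LD2_c45 LD3_c55) Lrfl Lrfl
theorem f801828 : Led Lsl_af (LP (LK LD1_c7 LD2_c32 LD3_c37)) = v22182 :=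
  Lgr Lrot117 (Lpr_dt (f109831 IH) (Lpr_at (K61.f664785 IH) (Lpq (f788406 IH) (Lpr_dt (f801827 IH) (Lpn v22182)))))
theorem f109829 : Led Lsl_dt (LP (LK LD1_c7 LD2_c32 LD3_c40)) = (LP (LK LD1_c3 LD2_c45 LD3_c56)) :=
  Lre_d IH (LK LD1_c7 LD2_c32 LD3_c40) (LK LD1_c3 LD2_c45 LD3_c56) Lrfl Lrfl
theorem f801830 : Led Lsl_ff (LP (LK LD1_c7 LD2_c32 LD3_c40)) = v22182 :=
  Lgr Lrot19 (Lpr_dt (f109829 IH) (Lpr_ft (K61.f664788 IH) (Lpq (f788406 IH) (Lpr_dt (f801827 IH) (Lpn v22182)))))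
theorem f804408 : Led Lsl_ft (LP (LK LD1_c7 LD2_c32 LD3_c40)) = v22182 :=
  Lgr Lrot48 (Lpr_ff (f801830 IH) (Lpn v22182))
theorem f804458 : Led Lsl_gt (LP (LK LD1_c7 LD2_c32 LD3_c40)) = v22190 :=
  Lgr Lrot5 (Lpr_ft (f804408 IH) (Lpe (f801828 IH) (Lpr_gf (f804457 IH) (Lpn v22190))))
theorem f109623 : Led Lsl_dt (LP (LK LD1_c3 LD2_c45 LD3_c56)) = (LP (LK LD1_c7 LD2_c32 LD3_c40)) :=
  Lre_d IH (LK LD1_c3 LD2_c45 LD3_c56) (LK LD1_c7 LD2_c32 LD3_c40) Lrfl Lrfl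
theorem f664791 : Led Lsl_et (LP (LK LD1_c3 LD2_c45 LD3_c56)) = (LP (LK LD1_c7 LD2_c32 LD3_c41)) :=
  Lre_e IH (LK LD1_c3 LD2_c45 LD3_c56) (LK LD1_c7 LD2_c32 LD3_c41) Lrfl Lrfl
theorem f803085 : Led Lsl_af (LP (LK LD1_c7 LD2_c48 LD3_c28)) = (LP (LK LD1_c12 LD2_c51 LD3_c41)) :=
  Lgr Lrot0 (Lpr_at (f803083 IH) (Lpn (LP (LK LD1_c12 LD2_c51 LD3_c41))))
theorem f458218 : Led Lsl_gt (LP (LK LD1_c14 LD2_c43 LD3_c59)) = (LP (LK LD1_c7 LD2_c48 LD3_c28)) :=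
  Lre_g IH (LK LD1_c14 LD2_c43 LD3_c59) (LK LD1_c7 LD2_c48 LD3_c28) Lrfl Lrfl
theorem f437243 : Led Lsl_dt (LP (LK LD1_c12 LD2_c51 LD3_c19)) = (LP (LK LD1_c22 LD2_c0 LD3_c0)) :=
  Lre_d IH (LK LD1_c12 LD2_c51 LD3_c19) (LK LD1_c22 LD2_c0 LD3_c0) Lrfl Lrfl
theorem f802420 : Led Lsl_ff (LP (LK LD1_c12 LD2_c51 LD3_c41)) = (LP (LK LD1_c22 LD2_c0 LD3_c0)) :=
  Lgr Lrot19 (Lpr_dt (f441894 IH) (Lpr_ft (f780424 IH) (Lpqs (f802413 IH) (Lpr_dt (f437243 IH) (Lpn (LP (LK LD1_c22 LD2_c0 LD3_c0)))))))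
theorem f803523 : Led Lsl_gf (LP (LK LD1_c14 LD2_c43 LD3_c59)) = (LP (LK LD1_c22 LD2_c0 LD3_c0)) :=
  Lgr Lrot47 (Lpr_gt (f458218 IH) (Lpr_af (f803085 IH) (Lpr_ff (f802420 IH) (Lpn (LP (LK LD1_c22 LD2_c0 LD3_c0))))))
theorem f437241 : Led Lsl_gt (LP (LK LD1_c12 LD2_c51 LD3_c19)) = (LP (LK LD1_c6 LD2_c43 LD3_c14)) :=
  Lre_g IH (LK LD1_c12 LD2_c51 LD3_c19) (LK LD1_c6 LD2_c43 LD3_c14) Lrfl Lrfl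
def v13752 : LQ := Led Lsl_gt (LP (LK LD1_c4 LD2_c47 LD3_c49))
theorem f704665 : Led Lsl_gt (LP (LK LD1_c4 LD2_c47 LD3_c49)) = v13752 :=
  Lrfl
theorem f474086 : Led Lsl_ft (LP (LK LD1_c3 LD2_c48 LD3_c6)) = (LP (LK LD1_c1 LD2_c52 LD3_c61)) :=
  Lgr Lrot75 (Lpe (K48.f62794 IH) (Lpr_ff (K29.f474077 IH) (Lpe (K49.f459904 IH) (Lpn (LP (LK LD1_c1 LD2_c52 LD3_c61))))))
theorem f475658 : Led Lsl_at (LP (LK LD1_c1 LD2_c52 LD3_c61)) = (LP (LK LD1_c3 LD2_c52 LD3_c48)) :=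
  Lre_a IH (LK LD1_c1 LD2_c52 LD3_c61) (LK LD1_c3 LD2_c52 LD3_c48) Lrfl Lrfl
theorem f665634 : Led Lsl_gf (LP (LK LD1_c3 LD2_c52 LD3_c48)) = K48.v7446 :=
  Lgr Lrot76 (Lpe (f475658 IH) (Lpe (f474086 IH) (Lpr_gt (K48.f665633 IH) (Lpn K48.v7446))))
theorem f801833 : (LP (LK LD1_c4 LD2_c47 LD3_c49)) = K48.v7446 :=
  Lefun (Lecon (Lfl_gf (f704669 IH)) (f801832 IH)) (K48.f665633 IH)
theorem f801838 : (LP (LK LD1_c3 LD2_c52 LD3_c48)) = v13752 :=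
  Lefun (Lecon (Lfl_gf (f665634 IH)) (f801833 IH).symm) (f704665 IH)
theorem f475467 : Led Lsl_ct (LP (LK LD1_c24 LD2_c25 LD3_c45)) = (LP (LK LD1_c14 LD2_c41 LD3_c13)) :=
  Lre_c IH (LK LD1_c24 LD2_c25 LD3_c45) (LK LD1_c14 LD2_c41 LD3_c13) Lrfl Lrfl
theorem f469072 : Led Lsl_gt (LP (LK LD1_c13 LD2_c11 LD3_c44)) = (LP (LK LD1_c22 LD2_c24 LD3_c37)) :=
  Lre_g IH (LK LD1_c13 LD2_c11 LD3_c44) (LK LD1_c22 LD2_c24 LD3_c37) Lrfl Lrfl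
theorem f475602 : Led Lsl_gf (LP (LK LD1_c24 LD2_c25 LD3_c45)) = (LP (LK LD1_c22 LD2_c24 LD3_c37)) :=
  Lgr Lrot76 (Lpe (K34.f475594 IH) (Lpr_ff (K34.f475573 IH) (Lpr_gt (f469072 IH) (Lpn (LP (LK LD1_c22 LD2_c24 LD3_c37))))))
theorem f803525 : Led Lsl_ct (LP (LK LD1_c14 LD2_c43 LD3_c59)) = (LP (LK LD1_c22 LD2_c24 LD3_c37)) :=
  Lgr Lrot152 (Lpr_gf (f803523 IH) (Lpe (f437243 IH) (Lpr_gt (f437241 IH) (Lpe (f437239 IH) (Lpr_gt (f704665 IH) (Lpq (f801838 IH) (Lpr_ct (K34.f475472 IH) (Lpe (K34.f458047 IH) (Lpe (f475467 IH) (Lpr_gf (f475602 IH) (Lpn (LP (LK LD1_c22 LD2_c24 LD3_c37)))))))))))))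
theorem f803530 : Led Lsl_bt (LP (LK LD1_c14 LD2_c43 LD3_c59)) = (LP (LK LD1_c24 LD2_c29 LD3_c41)) :=
  Lre_b IH (LK LD1_c14 LD2_c43 LD3_c59) (LK LD1_c24 LD2_c29 LD3_c41) Lrfl Lrfl
theorem f457836 : Led Lsl_ct (LP (LK LD1_c6 LD2_c56 LD3_c59)) = (LP (LK LD1_c13 LD2_c11 LD3_c44)) :=
  Lre_c IH (LK LD1_c6 LD2_c56 LD3_c59) (LK LD1_c13 LD2_c11 LD3_c44) Lrfl Lrfl
theorem f469071 : Led Lsl_bt (LP (LK LD1_c6 LD2_c56 LD3_c59)) = (LP (LK LD1_c3 LD2_c27 LD3_c26)) :=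
  Lre_b IH (LK LD1_c6 LD2_c56 LD3_c59) (LK LD1_c3 LD2_c27 LD3_c26) Lrfl Lrfl
theorem f469067 : Led Lsl_ct (LP (LK LD1_c13 LD2_c11 LD3_c28)) = (LP (LK LD1_c22 LD2_c24 LD3_c11)) :=
  Lre_c IH (LK LD1_c13 LD2_c11 LD3_c28) (LK LD1_c22 LD2_c24 LD3_c11) Lrfl Lrfl
theorem f469068 : Led Lsl_gt (LP (LK LD1_c30 LD2_c28 LD3_c32)) = (LP (LK LD1_c22 LD2_c24 LD3_c11)) :=
  Lre_g IH (LK LD1_c30 LD2_c28 LD3_c32) (LK LD1_c22 LD2_c24 LD3_c11) Lrfl Lrfl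
theorem f488464 : Led Lsl_at (LP (LK LD1_c22 LD2_c18 LD3_c34)) = (LP (LK LD1_c13 LD2_c7 LD3_c1)) :=
  Lre_a IH (LK LD1_c22 LD2_c18 LD3_c34) (LK LD1_c13 LD2_c7 LD3_c1) Lrfl Lrfl
theorem f488491 : Led Lsl_at (LP (LK LD1_c13 LD2_c12 LD3_c42)) = (LP (LK LD1_c22 LD2_c26 LD3_c33)) :=
  Lre_a IH (LK LD1_c13 LD2_c12 LD3_c42) (LK LD1_c22 LD2_c26 LD3_c33) Lrfl Lrfl
theorem f488492 : Led Lsl_df (LP (LK LD1_c22 LD2_c18 LD3_c34)) = (LP (LK LD1_c22 LD2_c26 LD3_c33)) :=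
  Lgr Lrot18 (Lpr_at (f488464 IH) (Lpr_dt (K42.f488388 IH) (Lpr_at (f488491 IH) (Lpn (LP (LK LD1_c22 LD2_c26 LD3_c33))))))
theorem f462284 : Led Lsl_ct (LP (LK LD1_c7 LD2_c21 LD3_c3)) = (LP (LK LD1_c3 LD2_c40 LD3_c32)) :=
  Lre_c IH (LK LD1_c7 LD2_c21 LD3_c3) (LK LD1_c3 LD2_c40 LD3_c32) Lrfl Lrfl
theorem f419902 : Led Lsl_dt (LP (LK LD1_c13 LD2_c53 LD3_c55)) = (LP (LK LD1_c23 LD2_c24 LD3_c6)) :=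
  Lre_d IH (LK LD1_c13 LD2_c53 LD3_c55) (LK LD1_c23 LD2_c24 LD3_c6) Lrfl Lrfl
theorem f532338 : Led Lsl_gf (LP (LK LD1_c22 LD2_c26 LD3_c33)) = (LP (LK LD1_c23 LD2_c24 LD3_c6)) :=
  Lgr Lrot143 (Lpe (f488492 IH) (Lpr_cf (K47.f488468 IH) (Lpr_df (K48.f532333 IH) (Lpe (K48.f532325 IH) (Lpe (K34.f148752 IH) (Lpe (K34.f148747 IH) (Lpe (f462284 IH) (Lpr_gt (K35.f419901 IH) (Lpr_dt (f419902 IH) (Lpn (LP (LK LD1_c23 LD2_c24 LD3_c6))))))))))))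
theorem f473106 : Led Lsl_bt (LP (LK LD1_c13 LD2_c7 LD3_c45)) = (LP (LK LD1_c22 LD2_c19 LD3_c46)) :=
  Lre_b IH (LK LD1_c13 LD2_c7 LD3_c45) (LK LD1_c22 LD2_c19 LD3_c46) Lrfl Lrfl
theorem f529109 : Led Lsl_ft (LP (LK LD1_c22 LD2_c19 LD3_c46)) = (LP (LK LD1_c13 LD2_c12 LD3_c42)) :=
  Lgr Lrot75 (Lpe (f473106 IH) (Lpr_ff (K35.f529105 IH) (Lpe (K42.f488387 IH) (Lpn (LP (LK LD1_c13 LD2_c12 LD3_c42))))))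
theorem f532340 : Led Lsl_gt (LP (LK LD1_c22 LD2_c19 LD3_c46)) = (LP (LK LD1_c23 LD2_c24 LD3_c6)) :=
  Lgr Lrot5 (Lpr_ft (f529109 IH) (Lpr_at (f488491 IH) (Lpr_gf (f532338 IH) (Lpn (LP (LK LD1_c23 LD2_c24 LD3_c6))))))
theorem f17284 : Led Lsl_dt (LP (LK LD1_c23 LD2_c45 LD3_c35)) = (LP (LK LD1_c14 LD2_c10 LD3_c21)) :=
  Lre_d IH (LK LD1_c23 LD2_c45 LD3_c35) (LK LD1_c14 LD2_c10 LD3_c21) Lrfl Lrfl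
theorem f464239 : Led Lsl_bf (LP (LK LD1_c23 LD2_c45 LD3_c35)) = (LP (LK LD1_c23 LD2_c24 LD3_c6)) :=
  Lgr Lrot93 (Lpr_dt (f17284 IH) (Lpr_bt (K35.f464232 IH) (Lpr_dt (f419902 IH) (Lpn (LP (LK LD1_c23 LD2_c24 LD3_c6))))))
theorem f464242 : Led Lsl_bt (LP (LK LD1_c23 LD2_c45 LD3_c35)) = (LP (LK LD1_c23 LD2_c24 LD3_c6)) :=
  Lgr Lrot127 (Lpr_bf (f464239 IH) (Lpn (LP (LK LD1_c23 LD2_c24 LD3_c6))))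
theorem f532344 : Led Lsl_cf (LP (LK LD1_c30 LD2_c28 LD3_c32)) = (LP (LK LD1_c23 LD2_c45 LD3_c35)) :=
  Lgr Lrot160 (Lpr_gt (f469068 IH) (Lpe (f469067 IH) (Lpr_bt (K61.f469065 IH) (Lpe (K28.f469056 IH) (Lpr_ct (K28.f15960 IH) (Lpr_gt (K29.f473110 IH) (Lpe (K29.f473099 IH) (Lpr_bt (f473106 IH) (Lpr_gt (f532340 IH) (Lpe (f464242 IH) (Lpn (LP (LK LD1_c23 LD2_c45 LD3_c35)))))))))))))
theorem f803531 : Led Lsl_gt (LP (LK LD1_c24 LD2_c29 LD3_c41)) = (LP (LK LD1_c23 LD2_c45 LD3_c35)) :=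
  Lgr Lrot82 (Lpe (f803530 IH) (Lpr_ct (f803525 IH) (Lpe (f469072 IH) (Lpe (f457836 IH) (Lpr_bt (f469071 IH) (Lpr_gf (K28.f469056 IH) (Lpe (K61.f469065 IH) (Lpr_ct (f469067 IH) (Lpe (f469068 IH) (Lpr_cf (f532344 IH) (Lpn (LP (LK LD1_c23 LD2_c45 LD3_c35)))))))))))))
theorem f469066 : Led Lsl_ct (LP (LK LD1_c22 LD2_c24 LD3_c11)) = (LP (LK LD1_c13 LD2_c11 LD3_c28)) :=
  Lre_c IH (LK LD1_c22 LD2_c24 LD3_c11) (LK LD1_c13 LD2_c11 LD3_c28) Lrfl Lrfl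
theorem f162809 : Led Lsl_dt (LP (LK LD1_c23 LD2_c24 LD3_c4)) = (LP (LK LD1_c13 LD2_c53 LD3_c54)) :=
  Lre_d IH (LK LD1_c23 LD2_c24 LD3_c4) (LK LD1_c13 LD2_c53 LD3_c54) Lrfl Lrfl
theorem f473286 : Led Lsl_bt (LP (LK LD1_c6 LD2_c57 LD3_c21)) = (LP (LK LD1_c13 LD2_c12 LD3_c29)) :=
  Lre_b IH (LK LD1_c6 LD2_c57 LD3_c21) (LK LD1_c13 LD2_c12 LD3_c29) Lrfl Lrfl
theorem f473287 : Led Lsl_ff (LP (LK LD1_c13 LD2_c53 LD3_c57)) = (LP (LK LD1_c13 LD2_c12 LD3_c29)) :=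
  Lgr Lrot25 (Lpr_bt (K28.f162808 IH) (Lpr_ft (K28.f473281 IH) (Lpr_bt (f473286 IH) (Lpn (LP (LK LD1_c13 LD2_c12 LD3_c29))))))
theorem f162803 : Led Lsl_at (LP (LK LD1_c13 LD2_c53 LD3_c57)) = (LP (LK LD1_c23 LD2_c24 LD3_c4)) :=
  Lre_a IH (LK LD1_c13 LD2_c53 LD3_c57) (LK LD1_c23 LD2_c24 LD3_c4) Lrfl Lrfl
theorem f473378 : Led Lsl_gt (LP (LK LD1_c13 LD2_c12 LD3_c29)) = (LP (LK LD1_c22 LD2_c26 LD3_c13)) :=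
  Lre_g IH (LK LD1_c13 LD2_c12 LD3_c29) (LK LD1_c22 LD2_c26 LD3_c13) Lrfl Lrfl
theorem f476728 : Led Lsl_gf (LP (LK LD1_c23 LD2_c24 LD3_c4)) = (LP (LK LD1_c22 LD2_c26 LD3_c13)) :=
  Lgr Lrot76 (Lpe (f162803 IH) (Lpr_ff (f473287 IH) (Lpr_gt (f473378 IH) (Lpn (LP (LK LD1_c22 LD2_c26 LD3_c13))))))
theorem f15986 : Led Lsl_bt (LP (LK LD1_c6 LD2_c54 LD3_c22)) = (LP (LK LD1_c3 LD2_c26 LD3_c15)) :=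
  Lre_b IH (LK LD1_c6 LD2_c54 LD3_c22) (LK LD1_c3 LD2_c26 LD3_c15) Lrfl Lrfl
theorem f476718 : Led Lsl_bt (LP (LK LD1_c30 LD2_c25 LD3_c35)) = (LP (LK LD1_c22 LD2_c26 LD3_c13)) :=
  Lgr Lrot92 (Lpr_ct (f15931 IH) (Lpr_gt (f15930 IH) (Lpe (K8.f15910 IH) (Lpr_bt (f15986 IH) (Lpr_gt (K29.f97718 IH) (Lpr_ct (K29.f457985 IH) (Lpr_gt (K29.f473415 IH) (Lpe (K29.f457961 IH) (Lpr_bt (f473286 IH) (Lpr_gt (f473378 IH) (Lpn (LP (LK LD1_c22 LD2_c26 LD3_c13)))))))))))))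
theorem f464521 : Led Lsl_et (LP (LK LD1_c13 LD2_c56 LD3_c13)) = (LP (LK LD1_c23 LD2_c27 LD3_c20)) :=
  Lre_e IH (LK LD1_c13 LD2_c56 LD3_c13) (LK LD1_c23 LD2_c27 LD3_c20) Lrfl Lrfl
theorem f464522 : Led Lsl_bt (LP (LK LD1_c23 LD2_c27 LD3_c20)) = (LP (LK LD1_c22 LD2_c32 LD3_c13)) :=
  Lgr Lrot119 (Lpe (f464521 IH) (Lpr_bf (K28.f464514 IH) (Lpe (f458116 IH) (Lpn (LP (LK LD1_c22 LD2_c32 LD3_c13))))))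
theorem f476722 : Led Lsl_df (LP (LK LD1_c23 LD2_c27 LD3_c20)) = (LP (LK LD1_c22 LD2_c26 LD3_c13)) :=
  Lgr Lrot12 (Lpr_bt (f464522 IH) (Lpe (f458114 IH) (Lpr_bt (f476718 IH) (Lpn (LP (LK LD1_c22 LD2_c26 LD3_c13))))))
theorem f476724 : Led Lsl_dt (LP (LK LD1_c23 LD2_c27 LD3_c20)) = (LP (LK LD1_c22 LD2_c26 LD3_c13)) :=
  Lgr Lrot42 (Lpr_df (f476722 IH) (Lpn (LP (LK LD1_c22 LD2_c26 LD3_c13))))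
theorem f611047 : Led Lsl_gt (LP (LK LD1_c22 LD2_c14 LD3_c22)) = (LP (LK LD1_c23 LD2_c27 LD3_c20)) :=
  Lgr Lrot94 (Lpr_cf (K47.f477211 IH) (Lpr_gt (K47.f611045 IH) (Lpr_dt (K34.f462340 IH) (Lpe (K34.f462337 IH) (Lpr_dt (K28.f162815 IH) (Lpe (K34.f162800 IH) (Lpe (f162809 IH) (Lpr_gf (f476728 IH) (Lpe (f476724 IH) (Lpn (LP (LK LD1_c23 LD2_c27 LD3_c20))))))))))))
theorem f476720 : Led Lsl_bf (LP (LK LD1_c30 LD2_c25 LD3_c35)) = (LP (LK LD1_c22 LD2_c26 LD3_c13)) :=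
  Lgr Lrot24 (Lpr_bt (f476718 IH) (Lpn (LP (LK LD1_c22 LD2_c26 LD3_c13))))
theorem f476726 : Led Lsl_bf (LP (LK LD1_c23 LD2_c27 LD3_c20)) = (LP (LK LD1_c22 LD2_c32 LD3_c13)) :=
  Lgr Lrot93 (Lpr_dt (f476724 IH) (Lpe (f476720 IH) (Lpr_dt (f458109 IH) (Lpn (LP (LK LD1_c22 LD2_c32 LD3_c13))))))
theorem f611051 : Led Lsl_gf (LP (LK LD1_c13 LD2_c7 LD3_c11)) = (LP (LK LD1_c13 LD2_c16 LD3_c42)) :=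
  Lgr Lrot126 (Lpe (K33.f472868 IH) (Lpr_bt (K33.f472870 IH) (Lpe (K29.f479434 IH) (Lpr_ct (K29.f443514 IH) (Lpr_gt (K29.f87989 IH) (Lpe (K32.f477202 IH) (Lpr_bt (K42.f477199 IH) (Lpr_gt (f611047 IH) (Lpr_bf (f476726 IH) (Lpr_ct (f162360 IH) (Lpn (LP (LK LD1_c13 LD2_c16 LD3_c42)))))))))))))
theorem f629029 : Led Lsl_cf (LP (LK LD1_c13 LD2_c23 LD3_c10)) = (LP (LK LD1_c13 LD2_c22 LD3_c54)) :=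
  Lgr Lrot11 (Lpr_ct (K35.f629026 IH) (Lpn (LP (LK LD1_c13 LD2_c22 LD3_c54))))
theorem f629028 : Led Lsl_bt (LP (LK LD1_c13 LD2_c22 LD3_c54)) = (LP (LK LD1_c22 LD2_c40 LD3_c31)) :=
  Lre_b IH (LK LD1_c13 LD2_c22 LD3_c54) (LK LD1_c22 LD2_c40 LD3_c31) Lrfl Lrfl
theorem f629031 : Led Lsl_gf (LP (LK LD1_c22 LD2_c32 LD3_c13)) = (LP (LK LD1_c22 LD2_c40 LD3_c31)) :=
  Lgr Lrot181 (Lpr_ct (f162360 IH) (Lpe (f611051 IH) (Lpe (K33.f472868 IH) (Lpr_bt (K33.f472870 IH) (Lpe (K29.f479434 IH) (Lpe (K49.f472238 IH) (Lpr_ct (f472247 IH) (Lpr_gt (K35.f450709 IH) (Lpr_cf (f629029 IH) (Lpr_bt (f629028 IH) (Lpn (LP (LK LD1_c22 LD2_c40 LD3_c31)))))))))))))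
theorem f803535 : Led Lsl_df (LP (LK LD1_c24 LD2_c29 LD3_c41)) = (LP (LK LD1_c22 LD2_c40 LD3_c31)) :=
  Lgr Lrot155 (Lpr_gt (f803531 IH) (Lpe (f532344 IH) (Lpr_gt (f469068 IH) (Lpr_ct (f469066 IH) (Lpr_dt (K61.f472871 IH) (Lpe (K33.f472868 IH) (Lpr_gf (f611051 IH) (Lpe (f162360 IH) (Lpr_gf (f629031 IH) (Lpn (LP (LK LD1_c22 LD2_c40 LD3_c31))))))))))))
theorem f458221 : Led Lsl_bt (LP (LK LD1_c24 LD2_c29 LD3_c41)) = (LP (LK LD1_c14 LD2_c43 LD3_c59)) :=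
  Lre_b IH (LK LD1_c24 LD2_c29 LD3_c41) (LK LD1_c14 LD2_c43 LD3_c59) Lrfl Lrfl
theorem f803537 : Led Lsl_dt (LP (LK LD1_c14 LD2_c43 LD3_c59)) = (LP (LK LD1_c13 LD2_c22 LD3_c54)) :=
  Lgr Lrot79 (Lpe (f458221 IH) (Lpr_df (f803535 IH) (Lpe (f629028 IH) (Lpn (LP (LK LD1_c13 LD2_c22 LD3_c54))))))
theorem f458224 : Led Lsl_ct (LP (LK LD1_c7 LD2_c48 LD3_c28)) = (LP (LK LD1_c14 LD2_c43 LD3_c60)) :=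
  Lre_c IH (LK LD1_c7 LD2_c48 LD3_c28) (LK LD1_c14 LD2_c43 LD3_c60) Lrfl Lrfl
theorem f534335 : Led Lsl_gt (LP (LK LD1_c6 LD2_c56 LD3_c15)) = (LP (LK LD1_c7 LD2_c42 LD3_c57)) :=
  Lgr Lrot149 (Lpe (K6.f116697 IH) (Lpr_gf (K49.f534333 IH) (Lpe (K41.f475427 IH) (Lpr_ct (K34.f475429 IH) (Lpr_gf (K35.f475255 IH) (Lpr_cf (K28.f17343 IH) (Lpr_bt (K3.f17356 IH) (Lpe (K34.f472329 IH) (Lpe (K48.f458200 IH) (Lpe (K48.f458206 IH) (Lpn (LP (LK LD1_c7 LD2_c42 LD3_c57)))))))))))))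
theorem f475625 : Led Lsl_at (LP (LK LD1_c14 LD2_c41 LD3_c13)) = (LP (LK LD1_c7 LD2_c47 LD3_c3)) :=
  Lre_a IH (LK LD1_c14 LD2_c41 LD3_c13) (LK LD1_c7 LD2_c47 LD3_c3) Lrfl Lrfl
theorem f475630 : Led Lsl_gt (LP (LK LD1_c14 LD2_c41 LD3_c16)) = (LP (LK LD1_c7 LD2_c47 LD3_c3)) :=
  Lre_g IH (LK LD1_c14 LD2_c41 LD3_c16) (LK LD1_c7 LD2_c47 LD3_c3) Lrfl Lrfl
theorem f475631 : Led Lsl_gf (LP (LK LD1_c14 LD2_c41 LD3_c16)) = (LP (LK LD1_c13 LD2_c11 LD3_c40)) :=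
  Lgr Lrot47 (Lpr_gt (f475630 IH) (Lpe (f475625 IH) (Lpr_ff (K34.f475609 IH) (Lpn (LP (LK LD1_c13 LD2_c11 LD3_c40))))))
theorem f475633 : Led Lsl_ct (LP (LK LD1_c14 LD2_c41 LD3_c16)) = (LP (LK LD1_c24 LD2_c25 LD3_c49)) :=
  Lre_c IH (LK LD1_c14 LD2_c41 LD3_c16) (LK LD1_c24 LD2_c25 LD3_c49) Lrfl Lrfl
theorem f458213 : Led Lsl_dt (LP (LK LD1_c7 LD2_c48 LD3_c28)) = (LP (LK LD1_c3 LD2_c53 LD3_c26)) :=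
  Lre_d IH (LK LD1_c7 LD2_c48 LD3_c28) (LK LD1_c3 LD2_c53 LD3_c26) Lrfl Lrfl
theorem f534337 : Led Lsl_gt (LP (LK LD1_c24 LD2_c25 LD3_c49)) = (LP (LK LD1_c14 LD2_c43 LD3_c60)) :=
  Lgr Lrot150 (Lpe (f475633 IH) (Lpr_gf (f475631 IH) (Lpe (K34.f457869 IH) (Lpe (K49.f534333 IH) (Lpr_ct (K6.f116697 IH) (Lpr_gt (f534335 IH) (Lpr_ct (K48.f458201 IH) (Lpe (f458213 IH) (Lpe (f458214 IH) (Lpn (LP (LK LD1_c14 LD2_c43 LD3_c60))))))))))))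
theorem f475636 : Led Lsl_ct (LP (LK LD1_c24 LD2_c25 LD3_c49)) = (LP (LK LD1_c14 LD2_c41 LD3_c16)) :=
  Lre_c IH (LK LD1_c24 LD2_c25 LD3_c49) (LK LD1_c14 LD2_c41 LD3_c16) Lrfl Lrfl
theorem f458225 : Led Lsl_dt (LP (LK LD1_c14 LD2_c43 LD3_c60)) = (LP (LK LD1_c24 LD2_c29 LD3_c43)) :=
  Lre_d IH (LK LD1_c14 LD2_c43 LD3_c60) (LK LD1_c24 LD2_c29 LD3_c43) Lrfl Lrfl
theorem f534339 : Led Lsl_gf (LP (LK LD1_c31 LD2_c31 LD3_c8)) = (LP (LK LD1_c24 LD2_c29 LD3_c43)) :=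
  Lgr Lrot143 (Lpr_dt (f533989 IH) (Lpe (K49.f473952 IH) (Lpe (K49.f458032 IH) (Lpe (K41.f458031 IH) (Lpe (K34.f458023 IH) (Lpe (f475630 IH) (Lpe (f475636 IH) (Lpr_gt (f534337 IH) (Lpr_dt (f458225 IH) (Lpn (LP (LK LD1_c24 LD2_c29 LD3_c43))))))))))))
theorem f457870 : Led Lsl_ct (LP (LK LD1_c13 LD2_c11 LD3_c40)) = (LP (LK LD1_c22 LD2_c24 LD3_c30)) :=
  Lre_c IH (LK LD1_c13 LD2_c11 LD3_c40) (LK LD1_c22 LD2_c24 LD3_c30) Lrfl Lrfl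
theorem f475445 : Led Lsl_bt (LP (LK LD1_c3 LD2_c52 LD3_c37)) = (LP (LK LD1_c7 LD2_c47 LD3_c3)) :=
  Lre_b IH (LK LD1_c3 LD2_c52 LD3_c37) (LK LD1_c7 LD2_c47 LD3_c3) Lrfl Lrfl
theorem f475446 : Led Lsl_ft (LP (LK LD1_c7 LD2_c47 LD3_c3)) = (LP (LK LD1_c6 LD2_c56 LD3_c59)) :=
  Lgr Lrot75 (Lpe (f475445 IH) (Lpr_ff (K34.f475441 IH) (Lpe (f469071 IH) (Lpn (LP (LK LD1_c6 LD2_c56 LD3_c59))))))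
theorem f476054 : Led Lsl_gt (LP (LK LD1_c7 LD2_c47 LD3_c3)) = (LP (LK LD1_c14 LD2_c41 LD3_c15)) :=
  Lre_g IH (LK LD1_c7 LD2_c47 LD3_c3) (LK LD1_c14 LD2_c41 LD3_c15) Lrfl Lrfl
theorem f475386 : Led Lsl_at (LP (LK LD1_c6 LD2_c56 LD3_c59)) = (LP (LK LD1_c13 LD2_c11 LD3_c40)) :=
  Lre_a IH (LK LD1_c6 LD2_c56 LD3_c59) (LK LD1_c13 LD2_c11 LD3_c40) Lrfl Lrfl
theorem f476055 : Led Lsl_gt (LP (LK LD1_c14 LD2_c41 LD3_c15)) = (LP (LK LD1_c13 LD2_c11 LD3_c40)) :=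
  Lgr Lrot46 (Lpe (f476054 IH) (Lpr_ft (f475446 IH) (Lpr_at (f475386 IH) (Lpn (LP (LK LD1_c13 LD2_c11 LD3_c40))))))
theorem f476058 : Led Lsl_ct (LP (LK LD1_c24 LD2_c25 LD3_c47)) = (LP (LK LD1_c14 LD2_c41 LD3_c15)) :=
  Lre_c IH (LK LD1_c24 LD2_c25 LD3_c47) (LK LD1_c14 LD2_c41 LD3_c15) Lrfl Lrfl
theorem f534346 : Led Lsl_gf (LP (LK LD1_c24 LD2_c25 LD3_c47)) = (LP (LK LD1_c14 LD2_c43 LD3_c60)) :=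
  Lgr Lrot147 (Lpr_ct (f476058 IH) (Lpr_gt (f476055 IH) (Lpr_ct (f457870 IH) (Lpe (K34.f475551 IH) (Lpe (K34.f475550 IH) (Lpe (K49.f460078 IH) (Lpr_cf (K49.f534281 IH) (Lpr_gf (f534339 IH) (Lpe (f458225 IH) (Lpn (LP (LK LD1_c14 LD2_c43 LD3_c60))))))))))))
theorem f129910 : Led Lsl_gt (LP (LK LD1_c1 LD2_c33 LD3_c54)) = (LP (LK LD1_c3 LD2_c14 LD3_c37)) :=
  Lgr Lrot65 (Lpe (K3.f24334 IH) (Lpr_bt (K4.f95266 IH) (Lpr_gf (K4.f114920 IH) (Lpe (K2.f64461 IH) (Lpr_ct (K2.f64252 IH) (Lpe (K3.f64480 IH) (Lpe (K3.f104094 IH) (Lpe (K3.f105562 IH) (Lpr_bf (K5.f90473 IH) (Lpr_ct (K5.f129898 IH) (Lpn (LP (LK LD1_c3 LD2_c14 LD3_c37)))))))))))))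
theorem f129915 : Led Lsl_et (LP (LK LD1_c21 LD2_c39 LD3_c12)) = (LP (LK LD1_c12 LD2_c33 LD3_c13)) :=
  Lre_e IH (LK LD1_c21 LD2_c39 LD3_c12) (LK LD1_c12 LD2_c33 LD3_c13) Lrfl Lrfl
theorem f535144 : Led Lsl_df (LP (LK LD1_c14 LD2_c41 LD3_c15)) = (LP (LK LD1_c21 LD2_c39 LD3_c12)) :=
  Lgr Lrot132 (Lpe (f476054 IH) (Lpe (K34.f458051 IH) (Lpr_gf (f533433 IH) (Lpe (K6.f116696 IH) (Lpr_dt (K5.f129908 IH) (Lpe (f129910 IH) (Lpe (K51.f24398 IH) (Lpr_et (K47.f107394 IH) (Lpe (K47.f129914 IH) (Lpe (f129915 IH) (Lpn (LP (LK LD1_c21 LD2_c39 LD3_c12)))))))))))))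
theorem f457605 : Led Lsl_gt (LP (LK LD1_c13 LD2_c22 LD3_c38)) = (LP (LK LD1_c22 LD2_c40 LD3_c10)) :=
  Lre_g IH (LK LD1_c13 LD2_c22 LD3_c38) (LK LD1_c22 LD2_c40 LD3_c10) Lrfl Lrfl
theorem f803545 : Led Lsl_cf (LP (LK LD1_c21 LD2_c39 LD3_c12)) = (LP (LK LD1_c22 LD2_c40 LD3_c10)) :=
  Lgr Lrot175 (Lpe (f535144 IH) (Lpe (f476058 IH) (Lpr_gf (f534346 IH) (Lpe (f458224 IH) (Lpe (f458218 IH) (Lpr_dt (f803537 IH) (Lpr_gt (K35.f457606 IH) (Lpr_ct (f457601 IH) (Lpr_gt (f457605 IH) (Lpn (LP (LK LD1_c22 LD2_c40 LD3_c10))))))))))))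
theorem f457600 : Led Lsl_bt (LP (LK LD1_c7 LD2_c3 LD3_c13)) = (LP (LK LD1_c13 LD2_c22 LD3_c38)) :=
  Lre_b IH (LK LD1_c7 LD2_c3 LD3_c13) (LK LD1_c13 LD2_c22 LD3_c38) Lrfl Lrfl
theorem f527383 : Led Lsl_bt (LP (LK LD1_c13 LD2_c3 LD3_c59)) = (LP (LK LD1_c13 LD2_c23 LD3_c38)) :=
  Lgr Lrot35 (Lpr_ff (K61.f527371 IH) (Lpe (K47.f523489 IH) (Lpe (K46.f526554 IH) (Lpn (LP (LK LD1_c13 LD2_c23 LD3_c38))))))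
theorem f472252 : Led Lsl_ct (LP (LK LD1_c13 LD2_c23 LD3_c11)) = (LP (LK LD1_c22 LD2_c40 LD3_c16)) :=
  Lre_c IH (LK LD1_c13 LD2_c23 LD3_c11) (LK LD1_c22 LD2_c40 LD3_c16) Lrfl Lrfl
theorem f803569 : Led Lsl_gt (LP (LK LD1_c21 LD2_c39 LD3_c12)) = (LP (LK LD1_c22 LD2_c40 LD3_c16)) :=
  Lgr Lrot149 (Lpr_cf (f803545 IH) (Lpe (f457605 IH) (Lpe (f457600 IH) (Lpr_ct (K34.f457621 IH) (Lpe (K48.f457513 IH) (Lpe (K48.f479944 IH) (Lpr_bt (f527383 IH) (Lpe (K33.f513288 IH) (Lpe (f512586 IH) (Lpr_ct (f472252 IH) (Lpn (LP (LK LD1_c22 LD2_c40 LD3_c16)))))))))))))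
theorem f535149 : Led Lsl_dt (LP (LK LD1_c14 LD2_c41 LD3_c15)) = (LP (LK LD1_c21 LD2_c39 LD3_c12)) :=
  Lgr Lrot42 (Lpr_df (f535144 IH) (Lpn (LP (LK LD1_c21 LD2_c39 LD3_c12))))
theorem f667348 : Led Lsl_af (LP (LK LD1_c3 LD2_c53 LD3_c30)) = K48.v7623 :=
  Lgr Lrot45 (Lpr_ft (K41.f530548 IH) (Lpe (K48.f530557 IH) (Lpr_ft (K48.f667347 IH) (Lpn K48.v7623))))
theorem f803077 : Led Lsl_bt (LP (LK LD1_c14 LD2_c25 LD3_c54)) = (LP (LK LD1_c22 LD2_c0 LD3_c0)) :=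
  Lgr Lrot35 (Lpr_ff (f803073 IH) (Lpe (f802551 IH) (Lpr_ff (f802420 IH) (Lpn (LP (LK LD1_c22 LD2_c0 LD3_c0))))))
theorem f803480 : Led Lsl_at (LP (LK LD1_c22 LD2_c0 LD3_c0)) = (LP (LK LD1_c12 LD2_c51 LD3_c43)) :=
  Lgr Lrot67 (Lpe (f803077 IH) (Lpe (f530641 IH) (Lpe (f530541 IH) (Lpr_af (f667348 IH) (Lpr_bf (f803105 IH) (Lpn (LP (LK LD1_c12 LD2_c51 LD3_c43))))))))
theorem f803491 : Led Lsl_ff (LP (LK LD1_c22 LD2_c0 LD3_c0)) = (LP (LK LD1_c12 LD2_c51 LD3_c41)) :=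
  Lgr Lrot30 (Lpr_at (f803480 IH) (Lpe (f803092 IH) (Lpr_at (f803083 IH) (Lpn (LP (LK LD1_c12 LD2_c51 LD3_c41))))))
theorem f441886 : Led Lsl_et (LP (LK LD1_c7 LD2_c32 LD3_c41)) = (LP (LK LD1_c3 LD2_c45 LD3_c56)) :=
  Lre_e IH (LK LD1_c7 LD2_c32 LD3_c41) (LK LD1_c3 LD2_c45 LD3_c56) Lrfl Lrfl
theorem f441887 : Led Lsl_dt (LP (LK LD1_c7 LD2_c32 LD3_c41)) = (LP (LK LD1_c14 LD2_c13 LD3_c35)) :=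
  Lre_d IH (LK LD1_c7 LD2_c32 LD3_c41) (LK LD1_c14 LD2_c13 LD3_c35) Lrfl Lrfl
theorem f441888 : Led Lsl_gf (LP (LK LD1_c14 LD2_c13 LD3_c35)) = (LP (LK LD1_c12 LD2_c51 LD3_c41)) :=
  Lgr Lrot134 (Lpe (f441887 IH) (Lpr_et (f441886 IH) (Lpr_gt (K49.f109828 IH) (Lpe (K60.f109824 IH) (Lpr_dt (K3.f104293 IH) (Lpr_gt (K2.f57260 IH) (Lpe (K1.f353 IH) (Lpr_et (f57461 IH) (Lpr_gt (f57278 IH) (Lpr_dt (f57279 IH) (Lpn (LP (LK LD1_c12 LD2_c51 LD3_c41)))))))))))))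
theorem f803493 : Led Lsl_gt (LP (LK LD1_c14 LD2_c13 LD3_c35)) = (LP (LK LD1_c12 LD2_c51 LD3_c43)) :=
  Lgr Lrot46 (Lpr_gf (f441888 IH) (Lpe (f803491 IH) (Lpr_at (f803480 IH) (Lpn (LP (LK LD1_c12 LD2_c51 LD3_c43))))))
theorem f441893 : Led Lsl_ct (LP (LK LD1_c14 LD2_c13 LD3_c35)) = (LP (LK LD1_c23 LD2_c49 LD3_c7)) :=
  Lre_c IH (LK LD1_c14 LD2_c13 LD3_c35) (LK LD1_c23 LD2_c49 LD3_c7) Lrfl Lrfl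
theorem f64437 : Led Lsl_dt (LP (LK LD1_c12 LD2_c51 LD3_c43)) = (LP (LK LD1_c6 LD2_c43 LD3_c26)) :=
  Lre_d IH (LK LD1_c12 LD2_c51 LD3_c43) (LK LD1_c6 LD2_c43 LD3_c26) Lrfl Lrfl
theorem f475489 : Led Lsl_df (LP (LK LD1_c24 LD2_c26 LD3_c46)) = (LP (LK LD1_c22 LD2_c24 LD3_c30)) :=
  Lgr Lrot43 (Lpr_ct (K49.f475488 IH) (Lpr_dt (f460077 IH) (Lpr_ct (K34.f460076 IH) (Lpr_dt (K34.f458073 IH) (Lpr_ct (K34.f458072 IH) (Lpr_dt (K34.f458051 IH) (Lpr_ct (K34.f475458 IH) (Lpr_dt (K34.f475482 IH) (Lpr_ct (K34.f475483 IH) (Lpr_dt (K34.f457871 IH) (Lpr_ct (K34.f457868 IH) (Lpr_dt (K34.f457867 IH) (Lpe (K34.f457856 IH) (Lpr_dt (K34.f457869 IH) (Lpr_ct (f457870 IH) (Lpn (LP (LK LD1_c22 LD2_c24 LD3_c30))))))))))))))))))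
theorem f803495 : Led Lsl_gt (LP (LK LD1_c23 LD2_c49 LD3_c7)) = (LP (LK LD1_c22 LD2_c24 LD3_c30)) :=
  Lgr Lrot94 (Lpe (f441893 IH) (Lpr_gt (f803493 IH) (Lpr_dt (f64437 IH) (Lpr_gt (f57285 IH) (Lpr_dt (K6.f57273 IH) (Lpe (f57290 IH) (Lpe (f57295 IH) (Lpe (f802628 IH) (Lpr_df (f475489 IH) (Lpn (LP (LK LD1_c22 LD2_c24 LD3_c30))))))))))))
theorem f457876 : Led Lsl_at (LP (LK LD1_c13 LD2_c11 LD3_c44)) = (LP (LK LD1_c22 LD2_c24 LD3_c30)) :=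
  Lre_a IH (LK LD1_c13 LD2_c11 LD3_c44) (LK LD1_c22 LD2_c24 LD3_c30) Lrfl Lrfl
theorem f457846 : Led Lsl_ct (LP (LK LD1_c13 LD2_c11 LD3_c44)) = (LP (LK LD1_c6 LD2_c56 LD3_c59)) :=
  Lre_c IH (LK LD1_c13 LD2_c11 LD3_c44) (LK LD1_c6 LD2_c56 LD3_c59) Lrfl Lrfl
theorem f475459 : Led Lsl_ft (LP (LK LD1_c14 LD2_c41 LD3_c17)) = (LP (LK LD1_c13 LD2_c11 LD3_c44)) :=
  Lgr Lrot4 (Lpe (K34.f475458 IH) (Lpr_ff (K34.f475453 IH) (Lpe (f457846 IH) (Lpn (LP (LK LD1_c13 LD2_c11 LD3_c44))))))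
theorem f803497 : Led Lsl_gf (LP (LK LD1_c23 LD2_c49 LD3_c7)) = (LP (LK LD1_c14 LD2_c41 LD3_c17)) :=
  Lgr Lrot47 (Lpr_gt (f803495 IH) (Lpe (f457876 IH) (Lpe (f475459 IH) (Lpn (LP (LK LD1_c14 LD2_c41 LD3_c17))))))
theorem f802692 : Led Lsl_cf (LP (LK LD1_c22 LD2_c19 LD3_c29)) = (LP (LK LD1_c30 LD2_c14 LD3_c52)) :=
  Lgr Lrot11 (Lpr_ct (f802687 IH) (Lpn (LP (LK LD1_c30 LD2_c14 LD3_c52))))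
theorem f802686 : Led Lsl_dt (LP (LK LD1_c32 LD2_c50 LD3_c55)) = (LP (LK LD1_c30 LD2_c14 LD3_c52)) :=
  Lre_d IH (LK LD1_c32 LD2_c50 LD3_c55) (LK LD1_c30 LD2_c14 LD3_c52) Lrfl Lrfl
theorem f802700 : Led Lsl_ft (LP (LK LD1_c22 LD2_c0 LD3_c51)) = (LP (LK LD1_c30 LD2_c14 LD3_c52)) :=
  Lgr Lrot48 (Lpr_ff (f802694 IH) (Lpn (LP (LK LD1_c30 LD2_c14 LD3_c52))))
theorem f802610 : Led Lsl_dt (LP (LK LD1_c30 LD2_c15 LD3_c30)) = (LP (LK LD1_c22 LD2_c0 LD3_c51)) :=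
  Lre_d IH (LK LD1_c30 LD2_c15 LD3_c30) (LK LD1_c22 LD2_c0 LD3_c51) Lrfl Lrfl
theorem f802689 : Led Lsl_dt (LP (LK LD1_c30 LD2_c14 LD3_c52)) = (LP (LK LD1_c32 LD2_c50 LD3_c55)) :=
  Lre_d IH (LK LD1_c30 LD2_c14 LD3_c52) (LK LD1_c32 LD2_c50 LD3_c55) Lrfl Lrfl
theorem f802709 : Led Lsl_ff (LP (LK LD1_c30 LD2_c15 LD3_c30)) = (LP (LK LD1_c32 LD2_c50 LD3_c55)) :=
  Lgr Lrot19 (Lpr_dt (f802610 IH) (Lpr_ft (f802700 IH) (Lpr_dt (f802689 IH) (Lpn (LP (LK LD1_c32 LD2_c50 LD3_c55))))))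
theorem f455183 : Led Lsl_dt (LP (LK LD1_c22 LD2_c25 LD3_c20)) = (LP (LK LD1_c13 LD2_c12 LD3_c5)) :=
  Lre_d IH (LK LD1_c22 LD2_c25 LD3_c20) (LK LD1_c13 LD2_c12 LD3_c5) Lrfl Lrfl
theorem f802614 : Led Lsl_dt (LP (LK LD1_c22 LD2_c0 LD3_c51)) = (LP (LK LD1_c30 LD2_c15 LD3_c30)) :=
  Lre_d IH (LK LD1_c22 LD2_c0 LD3_c51) (LK LD1_c30 LD2_c15 LD3_c30) Lrfl Lrfl
theorem f802615 : Led Lsl_af (LP (LK LD1_c22 LD2_c25 LD3_c20)) = (LP (LK LD1_c30 LD2_c15 LD3_c30)) :=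
  Lgr Lrot117 (Lpr_dt (f455183 IH) (Lpr_at (f802607 IH) (Lpr_dt (f802614 IH) (Lpn (LP (LK LD1_c30 LD2_c15 LD3_c30))))))
theorem f457450 : Led Lsl_dt (LP (LK LD1_c13 LD2_c12 LD3_c5)) = (LP (LK LD1_c22 LD2_c25 LD3_c20)) :=
  Lre_d IH (LK LD1_c13 LD2_c12 LD3_c5) (LK LD1_c22 LD2_c25 LD3_c20) Lrfl Lrfl
theorem f802634 : Led Lsl_ft (LP (LK LD1_c22 LD2_c25 LD3_c20)) = (LP (LK LD1_c30 LD2_c15 LD3_c28)) :=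
  Lgr Lrot54 (Lpe (f457450 IH) (Lpr_ff (f802632 IH) (Lpe (f802591 IH) (Lpn (LP (LK LD1_c30 LD2_c15 LD3_c28))))))
theorem f802711 : Led Lsl_at (LP (LK LD1_c30 LD2_c15 LD3_c28)) = (LP (LK LD1_c32 LD2_c50 LD3_c55)) :=
  Lgr Lrot66 (Lpe (f802634 IH) (Lpr_af (f802615 IH) (Lpr_ff (f802709 IH) (Lpn (LP (LK LD1_c32 LD2_c50 LD3_c55))))))
theorem f802640 : Led Lsl_gt (LP (LK LD1_c22 LD2_c25 LD3_c20)) = (LP (LK LD1_c30 LD2_c29 LD3_c35)) :=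
  Lre_g IH (LK LD1_c22 LD2_c25 LD3_c20) (LK LD1_c30 LD2_c29 LD3_c35) Lrfl Lrfl
theorem f802717 : Led Lsl_gt (LP (LK LD1_c30 LD2_c29 LD3_c35)) = (LP (LK LD1_c32 LD2_c50 LD3_c55)) :=
  Lgr Lrot46 (Lpe (f802640 IH) (Lpr_ft (f802634 IH) (Lpr_at (f802711 IH) (Lpn (LP (LK LD1_c32 LD2_c50 LD3_c55))))))
theorem f803573 : Led Lsl_dt (LP (LK LD1_c23 LD2_c49 LD3_c7)) = (LP (LK LD1_c30 LD2_c29 LD3_c35)) :=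
  Lgr Lrot57 (Lpr_gf (f803497 IH) (Lpe (K34.f475458 IH) (Lpr_gt (f476054 IH) (Lpr_dt (f535149 IH) (Lpr_gt (f803569 IH) (Lpr_dt (f472245 IH) (Lpr_cf (f802692 IH) (Lpe (f802686 IH) (Lpe (f802717 IH) (Lpn (LP (LK LD1_c30 LD2_c29 LD3_c35))))))))))))
theorem f803575 : Led Lsl_df (LP (LK LD1_c23 LD2_c49 LD3_c7)) = (LP (LK LD1_c30 LD2_c29 LD3_c35)) :=
  Lgr Lrot38 (Lpr_dt (f803573 IH) (Lpn (LP (LK LD1_c30 LD2_c29 LD3_c35))))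
theorem f441896 : Led Lsl_ct (LP (LK LD1_c23 LD2_c49 LD3_c7)) = (LP (LK LD1_c14 LD2_c13 LD3_c35)) :=
  Lre_c IH (LK LD1_c23 LD2_c49 LD3_c7) (LK LD1_c14 LD2_c13 LD3_c35) Lrfl Lrfl
theorem f803584 : Led Lsl_gf (LP (LK LD1_c7 LD2_c32 LD3_c41)) = (LP (LK LD1_c12 LD2_c34 LD3_c10)) :=
  Lgr Lrot143 (Lpr_dt (f441887 IH) (Lpe (f441896 IH) (Lpr_df (f803575 IH) (Lpe (f802640 IH) (Lpe (f457450 IH) (Lpr_gf (f802702 IH) (Lpe (f145173 IH) (Lpe (f145158 IH) (Lpr_dt (f145164 IH) (Lpn (LP (LK LD1_c12 LD2_c34 LD3_c10))))))))))))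
theorem f24186 : Led Lsl_dt (LP (LK LD1_c6 LD2_c33 LD3_c34)) = (LP (LK LD1_c12 LD2_c34 LD3_c9)) :=
  Lre_d IH (LK LD1_c6 LD2_c33 LD3_c34) (LK LD1_c12 LD2_c34 LD3_c9) Lrfl Lrfl
theorem f804465 : Led Lsl_gt (LP (LK LD1_c14 LD2_c42 LD3_c49)) = (LP (LK LD1_c12 LD2_c34 LD3_c9)) :=
  Lgr Lrot139 (Lpe (f451238 IH) (Lpe (f451237 IH) (Lpe (f473702 IH) (Lpr_dt (f804461 IH) (Lpe (f804458 IH) (Lpe (f109623 IH) (Lpr_et (f664791 IH) (Lpr_gf (f803584 IH) (Lpe (f775953 IH) (Lpr_dt (f24186 IH) (Lpn (LP (LK LD1_c12 LD2_c34 LD3_c9)))))))))))))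
theorem f804466 : Led Lsl_gt (LP (LK LD1_c14 LD2_c42 LD3_c49)) = (LP (LK LD1_c12 LD2_c34 LD3_c9)) :=
  Leop (Lpe (f804465 IH) (Lpn (LP (LK LD1_c14 LD2_c42 LD3_c49))))
theorem seed_1680 : LEOK LG_g (LK LD1_c14 LD2_c42 LD3_c49) :=
  Leoe_g (LK LD1_c14 LD2_c42 LD3_c49) (f804466 IH)
theorem f157471 : Led Lsl_dt (LP (LK LD1_c12 LD2_c34 LD3_c9)) = (LP (LK LD1_c6 LD2_c33 LD3_c34)) :=
  Lre_d IH (LK LD1_c12 LD2_c34 LD3_c9) (LK LD1_c6 LD2_c33 LD3_c34) Lrfl Lrfl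
theorem f65903 : Led Lsl_ct (LP (LK LD1_c12 LD2_c34 LD3_c8)) = (LP (LK LD1_c6 LD2_c33 LD3_c34)) :=
  Lre_c IH (LK LD1_c12 LD2_c34 LD3_c8) (LK LD1_c6 LD2_c33 LD3_c34) Lrfl Lrfl
theorem f65897 : Led Lsl_dt (LP (LK LD1_c21 LD2_c40 LD3_c24)) = (LP (LK LD1_c12 LD2_c34 LD3_c8)) :=
  Lre_d IH (LK LD1_c21 LD2_c40 LD3_c24) (LK LD1_c12 LD2_c34 LD3_c8) Lrfl Lrfl
theorem f145163 : Led Lsl_ct (LP (LK LD1_c30 LD2_c7 LD3_c3)) = (LP (LK LD1_c21 LD2_c40 LD3_c27)) :=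
  Lre_c IH (LK LD1_c30 LD2_c7 LD3_c3) (LK LD1_c21 LD2_c40 LD3_c27) Lrfl Lrfl
theorem f802775 : Led Lsl_ft (LP (LK LD1_c22 LD2_c0 LD3_c47)) = (LP (LK LD1_c30 LD2_c7 LD3_c3)) :=
  Lgr Lrot4 (Lpe (f57312 IH) (Lpr_ff (f802769 IH) (Lpe (f145163 IH) (Lpn (LP (LK LD1_c30 LD2_c7 LD3_c3))))))
theorem f145175 : Led Lsl_dt (LP (LK LD1_c30 LD2_c7 LD3_c3)) = (LP (LK LD1_c32 LD2_c50 LD3_c16)) :=
  Lre_d IH (LK LD1_c30 LD2_c7 LD3_c3) (LK LD1_c32 LD2_c50 LD3_c16) Lrfl Lrfl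
theorem f802777 : Led Lsl_ff (LP (LK LD1_c30 LD2_c15 LD3_c24)) = (LP (LK LD1_c32 LD2_c50 LD3_c16)) :=
  Lgr Lrot19 (Lpr_dt (f802455 IH) (Lpr_ft (f802775 IH) (Lpr_dt (f145175 IH) (Lpn (LP (LK LD1_c32 LD2_c50 LD3_c16))))))
theorem f802813 : Led Lsl_ft (LP (LK LD1_c30 LD2_c15 LD3_c24)) = (LP (LK LD1_c32 LD2_c50 LD3_c16)) :=
  Lgr Lrot48 (Lpr_ff (f802777 IH) (Lpn (LP (LK LD1_c32 LD2_c50 LD3_c16))))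
theorem f512924 : Led Lsl_dt (LP (LK LD1_c24 LD2_c15 LD3_c5)) = (LP (LK LD1_c31 LD2_c26 LD3_c27)) :=
  Lre_d IH (LK LD1_c24 LD2_c15 LD3_c5) (LK LD1_c31 LD2_c26 LD3_c27) Lrfl Lrfl
theorem f512925 : Led Lsl_ff (LP (LK LD1_c24 LD2_c17 LD3_c9)) = (LP (LK LD1_c31 LD2_c26 LD3_c27)) :=
  Lgr Lrot19 (Lpr_dt (f451222 IH) (Lpr_ft (f512918 IH) (Lpr_dt (f512924 IH) (Lpn (LP (LK LD1_c31 LD2_c26 LD3_c27))))))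
theorem f802815 : Led Lsl_cf (LP (LK LD1_c31 LD2_c26 LD3_c27)) = (LP (LK LD1_c32 LD2_c50 LD3_c16)) :=
  Lgr Lrot108 (Lpe (f512925 IH) (Lpe (f802748 IH) (Lpr_ft (f802813 IH) (Lpn (LP (LK LD1_c32 LD2_c50 LD3_c16))))))
theorem f446529 : Led Lsl_dt (LP (LK LD1_c31 LD2_c26 LD3_c27)) = (LP (LK LD1_c24 LD2_c15 LD3_c5)) :=
  Lre_d IH (LK LD1_c31 LD2_c26 LD3_c27) (LK LD1_c24 LD2_c15 LD3_c5) Lrfl Lrfl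
theorem f145161 : Led Lsl_ct (LP (LK LD1_c21 LD2_c40 LD3_c27)) = (LP (LK LD1_c30 LD2_c7 LD3_c3)) :=
  Lre_c IH (LK LD1_c21 LD2_c40 LD3_c27) (LK LD1_c30 LD2_c7 LD3_c3) Lrfl Lrfl
theorem f145172 : Led Lsl_ct (LP (LK LD1_c21 LD2_c40 LD3_c25)) = (LP (LK LD1_c12 LD2_c34 LD3_c10)) :=
  Lre_c IH (LK LD1_c21 LD2_c40 LD3_c25) (LK LD1_c12 LD2_c34 LD3_c10) Lrfl Lrfl
theorem f802817 : Led Lsl_dt (LP (LK LD1_c14 LD2_c34 LD3_c23)) = (LP (LK LD1_c21 LD2_c40 LD3_c25)) :=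
  Lgr Lrot159 (Lpe (f533578 IH) (Lpr_at (f533570 IH) (Lpe (f446528 IH) (Lpe (f446529 IH) (Lpr_cf (f802815 IH) (Lpe (f145175 IH) (Lpe (f145161 IH) (Lpe (f58822 IH) (Lpe (f145172 IH) (Lpn (LP (LK LD1_c21 LD2_c40 LD3_c25))))))))))))
theorem f533580 : Led Lsl_et (LP (LK LD1_c24 LD2_c17 LD3_c7)) = (LP (LK LD1_c14 LD2_c34 LD3_c23)) :=
  Lre_e IH (LK LD1_c24 LD2_c17 LD3_c7) (LK LD1_c14 LD2_c34 LD3_c23) Lrfl Lrfl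
theorem f802018 : Led Lsl_et (LP (LK LD1_c21 LD2_c40 LD3_c25)) = (LP (LK LD1_c12 LD2_c34 LD3_c8)) :=
  Lre_e IH (LK LD1_c21 LD2_c40 LD3_c25) (LK LD1_c12 LD2_c34 LD3_c8) Lrfl Lrfl
theorem f65900 : Led Lsl_dt (LP (LK LD1_c12 LD2_c34 LD3_c8)) = (LP (LK LD1_c21 LD2_c40 LD3_c24)) :=
  Lre_d IH (LK LD1_c12 LD2_c34 LD3_c8) (LK LD1_c21 LD2_c40 LD3_c24) Lrfl Lrfl
theorem f802825 : Led Lsl_et (LP (LK LD1_c21 LD2_c40 LD3_c24)) = (LP (LK LD1_c30 LD2_c7 LD3_c2)) :=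
  Lre_e IH (LK LD1_c21 LD2_c40 LD3_c24) (LK LD1_c30 LD2_c7 LD3_c2) Lrfl Lrfl
theorem f802826 : Led Lsl_df (LP (LK LD1_c24 LD2_c17 LD3_c7)) = (LP (LK LD1_c30 LD2_c7 LD3_c2)) :=
  Lgr Lrot70 (Lpr_et (f533580 IH) (Lpr_dt (f802817 IH) (Lpr_et (f802018 IH) (Lpr_dt (f65900 IH) (Lpr_et (f802825 IH) (Lpn (LP (LK LD1_c30 LD2_c7 LD3_c2))))))))
theorem f802833 : Led Lsl_dt (LP (LK LD1_c24 LD2_c17 LD3_c7)) = (LP (LK LD1_c30 LD2_c7 LD3_c2)) :=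
  Lgr Lrot42 (Lpr_df (f802826 IH) (Lpn (LP (LK LD1_c30 LD2_c7 LD3_c2))))
theorem f512710 : Led Lsl_et (LP (LK LD1_c22 LD2_c13 LD3_c15)) = (LP (LK LD1_c30 LD2_c21 LD3_c26)) :=
  Lre_e IH (LK LD1_c22 LD2_c13 LD3_c15) (LK LD1_c30 LD2_c21 LD3_c26) Lrfl Lrfl
theorem f564621 : Led Lsl_df (LP (LK LD1_c31 LD2_c25 LD3_c60)) = (LP (LK LD1_c30 LD2_c21 LD3_c26)) :=
  Lgr Lrot70 (Lpr_et (K41.f564616 IH) (Lpr_dt (K41.f564619 IH) (Lpr_et (K41.f512703 IH) (Lpr_dt (K61.f512708 IH) (Lpr_et (f512710 IH) (Lpn (LP (LK LD1_c30 LD2_c21 LD3_c26))))))))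
theorem f802838 : Led Lsl_bf (LP (LK LD1_c30 LD2_c21 LD3_c26)) = (LP (LK LD1_c30 LD2_c7 LD3_c2)) :=
  Lgr Lrot93 (Lpe (f564621 IH) (Lpr_bt (f564850 IH) (Lpr_dt (f802833 IH) (Lpn (LP (LK LD1_c30 LD2_c7 LD3_c2))))))
theorem f512717 : Led Lsl_et (LP (LK LD1_c30 LD2_c21 LD3_c26)) = (LP (LK LD1_c22 LD2_c13 LD3_c15)) :=
  Lre_e IH (LK LD1_c30 LD2_c21 LD3_c26) (LK LD1_c22 LD2_c13 LD3_c15) Lrfl Lrfl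
theorem f802841 : Led Lsl_bt (LP (LK LD1_c22 LD2_c13 LD3_c15)) = (LP (LK LD1_c21 LD2_c40 LD3_c24)) :=
  Lgr Lrot119 (Lpe (f512717 IH) (Lpr_bf (f802838 IH) (Lpe (f802825 IH) (Lpn (LP (LK LD1_c21 LD2_c40 LD3_c24))))))
theorem f802852 : Led Lsl_ff (LP (LK LD1_c22 LD2_c13 LD3_c33)) = (LP (LK LD1_c21 LD2_c40 LD3_c24)) :=
  Lgr Lrot25 (Lpe (f512731 IH) (Lpr_ft (f512687 IH) (Lpr_bt (f802841 IH) (Lpn (LP (LK LD1_c21 LD2_c40 LD3_c24))))))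
theorem f476586 : Led Lsl_bt (LP (LK LD1_c7 LD2_c3 LD3_c12)) = (LP (LK LD1_c13 LD2_c22 LD3_c37)) :=
  Lre_b IH (LK LD1_c7 LD2_c3 LD3_c12) (LK LD1_c13 LD2_c22 LD3_c37) Lrfl Lrfl
theorem f513065 : Led Lsl_ft (LP (LK LD1_c13 LD2_c22 LD3_c37)) = (LP (LK LD1_c13 LD2_c3 LD3_c34)) :=
  Lgr Lrot75 (Lpe (f476586 IH) (Lpr_ff (K34.f512658 IH) (Lpe (f469007 IH) (Lpn (LP (LK LD1_c13 LD2_c3 LD3_c34))))))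
theorem f513069 : Led Lsl_ff (LP (LK LD1_c13 LD2_c22 LD3_c37)) = (LP (LK LD1_c13 LD2_c3 LD3_c34)) :=
  Lgr Lrot3 (Lpr_ft (f513065 IH) (Lpn (LP (LK LD1_c13 LD2_c3 LD3_c34))))
theorem f802854 : Led Lsl_at (LP (LK LD1_c13 LD2_c22 LD3_c37)) = (LP (LK LD1_c21 LD2_c40 LD3_c24)) :=
  Lgr Lrot66 (Lpr_ff (f513069 IH) (Lpe (f512728 IH) (Lpr_ff (f802852 IH) (Lpn (LP (LK LD1_c21 LD2_c40 LD3_c24))))))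
theorem f473073 : Led Lsl_gt (LP (LK LD1_c13 LD2_c3 LD3_c34)) = (LP (LK LD1_c22 LD2_c13 LD3_c34)) :=
  Lre_g IH (LK LD1_c13 LD2_c3 LD3_c34) (LK LD1_c22 LD2_c13 LD3_c34) Lrfl Lrfl
theorem f802901 : Led Lsl_gt (LP (LK LD1_c22 LD2_c13 LD3_c34)) = (LP (LK LD1_c21 LD2_c40 LD3_c24)) :=
  Lgr Lrot46 (Lpe (f473073 IH) (Lpe (f513069 IH) (Lpr_at (f802854 IH) (Lpn (LP (LK LD1_c21 LD2_c40 LD3_c24))))))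
theorem f804469 : Led Lsl_dt (LP (LK LD1_c14 LD2_c41 LD3_c23)) = (LP (LK LD1_c22 LD2_c13 LD3_c34)) :=
  Lgr Lrot57 (Lpe (K37.f459887 IH) (Lpe (f475677 IH) (Lpr_gt (f451237 IH) (Lpr_dt (f451238 IH) (Lpr_gt (f804465 IH) (Lpr_dt (f157471 IH) (Lpe (f65903 IH) (Lpe (f65897 IH) (Lpe (f802901 IH) (Lpn (LP (LK LD1_c22 LD2_c13 LD3_c34))))))))))))
theorem f473712 : Led Lsl_ft (LP (LK LD1_c7 LD2_c47 LD3_c7)) = (LP (LK LD1_c7 LD2_c47 LD3_c4)) :=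
  Lgr Lrot75 (Lpe (K37.f459886 IH) (Lpr_ff (K29.f473683 IH) (Lpe (f457891 IH) (Lpn (LP (LK LD1_c7 LD2_c47 LD3_c4))))))
theorem f476401 : Led Lsl_gt (LP (LK LD1_c14 LD2_c41 LD3_c23)) = (LP (LK LD1_c14 LD2_c41 LD3_c14)) :=
  Lgr Lrot46 (Lpe (K37.f459887 IH) (Lpr_ft (f473712 IH) (Lpr_at (K48.f458044 IH) (Lpn (LP (LK LD1_c14 LD2_c41 LD3_c14))))))
theorem f458033 : Led Lsl_ct (LP (LK LD1_c14 LD2_c41 LD3_c14)) = (LP (LK LD1_c7 LD2_c47 LD3_c19)) :=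
  Lre_c IH (LK LD1_c14 LD2_c41 LD3_c14) (LK LD1_c7 LD2_c47 LD3_c19) Lrfl Lrfl
theorem f475752 : Led Lsl_at (LP (LK LD1_c7 LD2_c47 LD3_c52)) = (LP (LK LD1_c3 LD2_c52 LD3_c61)) :=
  Lre_a IH (LK LD1_c7 LD2_c47 LD3_c52) (LK LD1_c3 LD2_c52 LD3_c61) Lrfl Lrfl
theorem f475960 : Led Lsl_gt (LP (LK LD1_c7 LD2_c47 LD3_c51)) = (LP (LK LD1_c3 LD2_c52 LD3_c61)) :=
  Lre_g IH (LK LD1_c7 LD2_c47 LD3_c51) (LK LD1_c3 LD2_c52 LD3_c61) Lrfl Lrfl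
theorem f475961 : Led Lsl_gt (LP (LK LD1_c7 LD2_c47 LD3_c19)) = (LP (LK LD1_c7 LD2_c47 LD3_c51)) :=
  Lgr Lrot5 (Lpr_ft (K48.f475654 IH) (Lpr_at (f475752 IH) (Lpe (f475960 IH) (Lpn (LP (LK LD1_c7 LD2_c47 LD3_c51))))))
theorem f802848 : Led Lsl_ct (LP (LK LD1_c21 LD2_c40 LD3_c24)) = (LP (LK LD1_c30 LD2_c7 LD3_c1)) :=
  Lre_c IH (LK LD1_c21 LD2_c40 LD3_c24) (LK LD1_c30 LD2_c7 LD3_c1) Lrfl Lrfl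
theorem f802858 : Led Lsl_ft (LP (LK LD1_c22 LD2_c13 LD3_c33)) = (LP (LK LD1_c21 LD2_c40 LD3_c24)) :=
  Lgr Lrot48 (Lpr_ff (f802852 IH) (Lpn (LP (LK LD1_c21 LD2_c40 LD3_c24))))
theorem f512740 : Led Lsl_ct (LP (LK LD1_c30 LD2_c21 LD3_c50)) = (LP (LK LD1_c22 LD2_c13 LD3_c33)) :=
  Lre_c IH (LK LD1_c30 LD2_c21 LD3_c50) (LK LD1_c22 LD2_c13 LD3_c33) Lrfl Lrfl
theorem f802874 : Led Lsl_ff (LP (LK LD1_c30 LD2_c21 LD3_c50)) = (LP (LK LD1_c30 LD2_c7 LD3_c1)) :=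
  Lgr Lrot23 (Lpr_ct (f512740 IH) (Lpr_ft (f802858 IH) (Lpr_ct (f802848 IH) (Lpn (LP (LK LD1_c30 LD2_c7 LD3_c1))))))
theorem f513080 : Led Lsl_at (LP (LK LD1_c30 LD2_c21 LD3_c50)) = (LP (LK LD1_c22 LD2_c13 LD3_c36)) :=
  Lre_a IH (LK LD1_c30 LD2_c21 LD3_c50) (LK LD1_c22 LD2_c13 LD3_c36) Lrfl Lrfl
theorem f658356 : Led Lsl_gt (LP (LK LD1_c30 LD2_c21 LD3_c52)) = (LP (LK LD1_c22 LD2_c13 LD3_c36)) :=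
  Lre_g IH (LK LD1_c30 LD2_c21 LD3_c52) (LK LD1_c22 LD2_c13 LD3_c36) Lrfl Lrfl
theorem f802890 : Led Lsl_gf (LP (LK LD1_c30 LD2_c21 LD3_c52)) = (LP (LK LD1_c30 LD2_c7 LD3_c1)) :=
  Lgr Lrot47 (Lpr_gt (f658356 IH) (Lpe (f513080 IH) (Lpr_ff (f802874 IH) (Lpn (LP (LK LD1_c30 LD2_c7 LD3_c1))))))
theorem f484290 : Led Lsl_dt (LP (LK LD1_c13 LD2_c3 LD3_c34)) = (LP (LK LD1_c6 LD2_c51 LD3_c61)) :=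
  Lre_d IH (LK LD1_c13 LD2_c3 LD3_c34) (LK LD1_c6 LD2_c51 LD3_c61) Lrfl Lrfl
theorem f513075 : Led Lsl_ct (LP (LK LD1_c22 LD2_c13 LD3_c36)) = (LP (LK LD1_c13 LD2_c3 LD3_c34)) :=
  Lre_c IH (LK LD1_c22 LD2_c13 LD3_c36) (LK LD1_c13 LD2_c3 LD3_c34) Lrfl Lrfl
theorem f658348 : Led Lsl_cf (LP (LK LD1_c6 LD2_c51 LD3_c61)) = v6774 :=
  Lgr Lrot97 (Lpr_bt (f15847 IH) (Lpr_ct (K28.f458366 IH) (Lpr_bt (K28.f18796 IH) (Lpr_ct (K28.f18965 IH) (Lpr_bt (f658346 IH) (Lpn v6774))))))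
def v18822 : LQ := Led Lsl_at (LP (LK LD1_c6 LD2_c33 LD3_c34))
theorem f775950 : Led Lsl_at (LP (LK LD1_c6 LD2_c33 LD3_c34)) = v18822 :=
  Lrfl
theorem f775951 : Led Lsl_af (LP (LK LD1_c6 LD2_c33 LD3_c34)) = v18822 :=
  Lgr Lrot0 (Lpr_at (f775950 IH) (Lpn v18822))
theorem f24187 : Led Lsl_gt (LP (LK LD1_c6 LD2_c33 LD3_c35)) = (LP (LK LD1_c3 LD2_c15 LD3_c4)) :=
  Lre_g IH (LK LD1_c6 LD2_c33 LD3_c35) (LK LD1_c3 LD2_c15 LD3_c4) Lrfl Lrfl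
theorem f775954 : Led Lsl_ft (LP (LK LD1_c6 LD2_c33 LD3_c35)) = v18822 :=
  Lgr Lrot2 (Lpr_gt (f24187 IH) (Lpr_gt (f24185 IH) (Lpr_af (f775951 IH) (Lpn v18822))))
theorem f775955 : Led Lsl_ff (LP (LK LD1_c6 LD2_c33 LD3_c35)) = v18822 :=
  Lgr Lrot3 (Lpr_ft (f775954 IH) (Lpn v18822))
theorem f801994 : (LP (LK LD1_c3 LD2_c30 LD3_c41)) = v18822 :=
  Lefun (Lecon (Lfl_af (f658589 IH)) (f801992 IH)) (f775950 IH)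
theorem f802033 : (LP (LK LD1_c6 LD2_c33 LD3_c35)) = v6774 :=
  Lefun (Lecon (Lfl_ff (f775955 IH)) (f801994 IH).symm) (f658353 IH)
theorem f58817 : Led Lsl_gt (LP (LK LD1_c12 LD2_c33 LD3_c39)) = (LP (LK LD1_c6 LD2_c33 LD3_c35)) :=
  Lre_g IH (LK LD1_c12 LD2_c33 LD3_c39) (LK LD1_c6 LD2_c33 LD3_c35) Lrfl Lrfl
theorem f157446 : Led Lsl_et (LP (LK LD1_c6 LD2_c33 LD3_c36)) = (LP (LK LD1_c9 LD2_c21 LD3_c22)) :=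
  Lgr Lrot123 (Lpe (f24175 IH) (Lpr_ef (f58811 IH) (Lpr_af (f157439 IH) (Lpn (LP (LK LD1_c9 LD2_c21 LD3_c22))))))
theorem f157466 : Led Lsl_cf (LP (LK LD1_c12 LD2_c33 LD3_c39)) = (LP (LK LD1_c9 LD2_c21 LD3_c22)) :=
  Lgr Lrot39 (Lpr_et (f58800 IH) (Lpr_ct (f65905 IH) (Lpr_et (f157446 IH) (Lpn (LP (LK LD1_c9 LD2_c21 LD3_c22))))))
theorem f129741 : Led Lsl_dt (LP (LK LD1_c7 LD2_c3 LD3_c59)) = (LP (LK LD1_c13 LD2_c23 LD3_c44)) :=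
  Lre_d IH (LK LD1_c7 LD2_c3 LD3_c59) (LK LD1_c13 LD2_c23 LD3_c44) Lrfl Lrfl
theorem f129742 : Led Lsl_gt (LP (LK LD1_c13 LD2_c23 LD3_c44)) = (LP (LK LD1_c22 LD2_c41 LD3_c31)) :=
  Lre_g IH (LK LD1_c13 LD2_c23 LD3_c44) (LK LD1_c22 LD2_c41 LD3_c31) Lrfl Lrfl
theorem f804388 : Led Lsl_cf (LP (LK LD1_c30 LD2_c21 LD3_c52)) = (LP (LK LD1_c22 LD2_c41 LD3_c31)) :=
  Lgr Lrot188 (Lpr_gt (f658356 IH) (Lpr_ct (f513075 IH) (Lpr_dt (f484290 IH) (Lpr_cf (f658348 IH) (Lpq (f802033 IH) (Lpe (f58817 IH) (Lpr_cf (f157466 IH) (Lpr_gf (f664784 IH) (Lpqs (f801922 IH) (Lpr_dt (f129741 IH) (Lpr_gt (f129742 IH) (Lpn (LP (LK LD1_c22 LD2_c41 LD3_c31))))))))))))))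
theorem f804390 : Led Lsl_ct (LP (LK LD1_c30 LD2_c21 LD3_c52)) = (LP (LK LD1_c22 LD2_c41 LD3_c31)) :=
  Lgr Lrot59 (Lpr_cf (f804388 IH) (Lpn (LP (LK LD1_c22 LD2_c41 LD3_c31))))
theorem f156506 : Led Lsl_ct (LP (LK LD1_c2 LD2_c19 LD3_c61)) = (LP (LK LD1_c1 LD2_c7 LD3_c16)) :=
  Lre_c IH (LK LD1_c2 LD2_c19 LD3_c61) (LK LD1_c1 LD2_c7 LD3_c16) Lrfl Lrfl
theorem f156507 : Led Lsl_dt (LP (LK LD1_c1 LD2_c50 LD3_c1)) = (LP (LK LD1_c2 LD2_c19 LD3_c61)) :=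
  Lgr Lrot105 (Lpe (K51.f137189 IH) (Lpr_df (K51.f120492 IH) (Lpe (K4.f57254 IH) (Lpe (K2.f56740 IH) (Lpe (K3.f104287 IH) (Lpr_dt (K4.f26165 IH) (Lpr_gt (K7.f156500 IH) (Lpr_dt (K48.f144104 IH) (Lpe (f156506 IH) (Lpn (LP (LK LD1_c2 LD2_c19 LD3_c61))))))))))))
theorem f156512 : Led Lsl_gt (LP (LK LD1_c1 LD2_c34 LD3_c2)) = (LP (LK LD1_c2 LD2_c19 LD3_c61)) :=
  Lgr Lrot150 (Lpr_cf (K5.f126506 IH) (Lpe (K5.f95632 IH) (Lpe (K2.f91969 IH) (Lpr_gt (K4.f95579 IH) (Lpr_ct (K3.f24325 IH) (Lpr_gt (K7.f156500 IH) (Lpe (K7.f156510 IH) (Lpe (K7.f144105 IH) (Lpe (f156506 IH) (Lpn (LP (LK LD1_c2 LD2_c19 LD3_c61))))))))))))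
theorem f111973 : Led Lsl_et (LP (LK LD1_c14 LD2_c23 LD3_c11)) = (LP (LK LD1_c7 LD2_c38 LD3_c3)) :=
  Lre_e IH (LK LD1_c14 LD2_c23 LD3_c11) (LK LD1_c7 LD2_c38 LD3_c3) Lrfl Lrfl
theorem f804396 : Led Lsl_dt (LP (LK LD1_c14 LD2_c23 LD3_c11)) = (LP (LK LD1_c22 LD2_c41 LD3_c31)) :=
  Lgr Lrot56 (Lpr_et (f111973 IH) (Lpr_gt (K33.f88569 IH) (Lpe (K33.f89774 IH) (Lpe (K5.f111968 IH) (Lpr_gt (f156512 IH) (Lpe (f156507 IH) (Lpr_et (f58809 IH) (Lpr_gt (f664783 IH) (Lpqs (f801922 IH) (Lpr_dt (f129741 IH) (Lpr_gt (f129742 IH) (Lpn (LP (LK LD1_c22 LD2_c41 LD3_c31))))))))))))))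
theorem f804398 : Led Lsl_df (LP (LK LD1_c14 LD2_c23 LD3_c11)) = (LP (LK LD1_c22 LD2_c41 LD3_c31)) :=
  Lgr Lrot38 (Lpr_dt (f804396 IH) (Lpn (LP (LK LD1_c22 LD2_c41 LD3_c31))))
theorem f804473 : Led Lsl_ct (LP (LK LD1_c7 LD2_c47 LD3_c51)) = (LP (LK LD1_c14 LD2_c23 LD3_c11)) :=
  Lgr Lrot151 (Lpe (f475961 IH) (Lpe (f458033 IH) (Lpe (f476401 IH) (Lpr_dt (f804469 IH) (Lpr_gt (f802901 IH) (Lpr_ct (f802848 IH) (Lpe (f802890 IH) (Lpr_ct (f804390 IH) (Lpe (f804398 IH) (Lpn (LP (LK LD1_c14 LD2_c23 LD3_c11))))))))))))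
theorem f475965 : Led Lsl_dt (LP (LK LD1_c14 LD2_c42 LD3_c51)) = (LP (LK LD1_c7 LD2_c47 LD3_c51)) :=
  Lre_d IH (LK LD1_c14 LD2_c42 LD3_c51) (LK LD1_c7 LD2_c47 LD3_c51) Lrfl Lrfl
def v20747 : LQ := Led Lsl_gf (LP (LK LD1_c7 LD2_c3 LD3_c59))
theorem f789670 : Led Lsl_gf (LP (LK LD1_c7 LD2_c3 LD3_c59)) = v20747 :=
  Lrfl
theorem f801925 : (LP (LK LD1_c3 LD2_c45 LD3_c53)) = v20747 :=
  Lefun (Lecon (Lfl_gt (f664783 IH)) (f801922 IH)) (f789670 IH)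
theorem f804479 : Led Lsl_gf (LP (LK LD1_c14 LD2_c42 LD3_c51)) = (LP (LK LD1_c12 LD2_c34 LD3_c9)) :=
  Lgr Lrot154 (Lpr_dt (f475965 IH) (Lpr_ct (f804473 IH) (Lpr_df (f804398 IH) (Lpe (f129742 IH) (Lpe (f129741 IH) (Lpr_gf (f789670 IH) (Lpq (f801925 IH) (Lpr_ct (f65879 IH) (Lpr_gt (f24185 IH) (Lpr_dt (f24186 IH) (Lpn (LP (LK LD1_c12 LD2_c34 LD3_c9)))))))))))))
theorem f475963 : Led Lsl_dt (LP (LK LD1_c7 LD2_c47 LD3_c51)) = (LP (LK LD1_c14 LD2_c42 LD3_c51)) :=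
  Lre_d IH (LK LD1_c7 LD2_c47 LD3_c51) (LK LD1_c14 LD2_c42 LD3_c51) Lrfl Lrfl
theorem f12043 : Led Lsl_et (LP (LK LD1_c1 LD2_c50 LD3_c42)) = (LP (LK LD1_c3 LD2_c47 LD3_c10)) :=
  Lre_e IH (LK LD1_c1 LD2_c50 LD3_c42) (LK LD1_c3 LD2_c47 LD3_c10) Lrfl Lrfl
theorem f804484 : Led Lsl_et (LP (LK LD1_c7 LD2_c47 LD3_c51)) = (LP (LK LD1_c7 LD2_c35 LD3_c8)) :=
  Lgr Lrot185 (Lpr_dt (f475963 IH) (Lpr_gf (f804479 IH) (Lpe (f24186 IH) (Lpe (f24185 IH) (Lpe (K7.f24153 IH) (Lpr_dt (K3.f24136 IH) (Lpe (K4.f24203 IH) (Lpr_df (K5.f111889 IH) (Lpr_et (f12043 IH) (Lpe (K33.f12029 IH) (Lpn (LP (LK LD1_c7 LD2_c35 LD3_c8)))))))))))))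
theorem f475964 : Led Lsl_bt (LP (LK LD1_c14 LD2_c42 LD3_c50)) = (LP (LK LD1_c7 LD2_c47 LD3_c51)) :=
  Lre_b IH (LK LD1_c14 LD2_c42 LD3_c50) (LK LD1_c7 LD2_c47 LD3_c51) Lrfl Lrfl
theorem f804486 : Led Lsl_ef (LP (LK LD1_c14 LD2_c42 LD3_c50)) = (LP (LK LD1_c14 LD2_c18 LD3_c7)) :=
  Lgr Lrot29 (Lpr_bt (f475964 IH) (Lpr_et (f804484 IH) (Lpr_bt (K33.f479185 IH) (Lpn (LP (LK LD1_c14 LD2_c18 LD3_c7))))))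
theorem f486951 : Led Lsl_et (LP (LK LD1_c22 LD2_c20 LD3_c7)) = (LP (LK LD1_c13 LD2_c8 LD3_c8)) :=
  Lre_e IH (LK LD1_c22 LD2_c20 LD3_c7) (LK LD1_c13 LD2_c8 LD3_c8) Lrfl Lrfl
theorem f804493 : Led Lsl_ct (LP (LK LD1_c14 LD2_c42 LD3_c50)) = (LP (LK LD1_c22 LD2_c20 LD3_c7)) :=
  Lgr Lrot15 (Lpr_ef (f804486 IH) (Lpr_cf (K33.f486940 IH) (Lpe (f486951 IH) (Lpn (LP (LK LD1_c22 LD2_c20 LD3_c7))))))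
theorem f804506 : Led Lsl_gt (LP (LK LD1_c14 LD2_c20 LD3_c30)) = (LP (LK LD1_c22 LD2_c20 LD3_c7)) :=
  Lgr Lrot149 (Lpe (K35.f156641 IH) (Lpr_gf (K57.f607883 IH) (Lpe (K57.f458095 IH) (Lpr_ct (K29.f458085 IH) (Lpe (K29.f62991 IH) (Lpe (K29.f64659 IH) (Lpr_bt (K48.f451236 IH) (Lpe (f475960 IH) (Lpe (f475964 IH) (Lpr_ct (f804493 IH) (Lpn (LP (LK LD1_c22 LD2_c20 LD3_c7)))))))))))))
theorem f552950 : Led Lsl_bt (LP (LK LD1_c21 LD2_c14 LD3_c20)) = (LP (LK LD1_c12 LD2_c8 LD3_c4)) :=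
  Lre_b IH (LK LD1_c21 LD2_c14 LD3_c20) (LK LD1_c12 LD2_c8 LD3_c4) Lrfl Lrfl
theorem f657075 : Led Lsl_bt (LP (LK LD1_c14 LD2_c47 LD3_c24)) = (LP (LK LD1_c24 LD2_c21 LD3_c61)) :=
  Lgr Lrot95 (Lpr_df (K47.f576683 IH) (Lpe (K47.f147415 IH) (Lpr_df (K57.f657073 IH) (Lpn (LP (LK LD1_c24 LD2_c21 LD3_c61))))))
theorem f756929 : Led Lsl_ff (LP (LK LD1_c21 LD2_c14 LD3_c20)) = (LP (LK LD1_c24 LD2_c21 LD3_c61)) :=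
  Lgr Lrot25 (Lpr_bt (f552950 IH) (Lpr_ft (K57.f756927 IH) (Lpr_bt (f657075 IH) (Lpn (LP (LK LD1_c24 LD2_c21 LD3_c61))))))
theorem f757217 : Led Lsl_at (LP (LK LD1_c21 LD2_c14 LD3_c20)) = (LP (LK LD1_c24 LD2_c10 LD3_c4)) :=
  Lgr Lrot66 (Lpr_ff (f756929 IH) (Lpe (K57.f757209 IH) (Lpr_ff (K57.f757215 IH) (Lpn (LP (LK LD1_c24 LD2_c10 LD3_c4))))))
theorem f657081 : Led Lsl_gf (LP (LK LD1_c14 LD2_c38 LD3_c24)) = (LP (LK LD1_c24 LD2_c21 LD3_c61)) :=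
  Lgr Lrot181 (Lpr_ct (K37.f489582 IH) (Lpr_gt (K37.f489567 IH) (Lpe (K37.f477502 IH) (Lpe (K34.f489574 IH) (Lpr_gt (K37.f469525 IH) (Lpe (K33.f462840 IH) (Lpr_ct (K46.f487870 IH) (Lpe (K43.f560550 IH) (Lpe (K47.f576688 IH) (Lpr_bt (f657075 IH) (Lpn (LP (LK LD1_c24 LD2_c21 LD3_c61)))))))))))))
theorem f757664 : Led Lsl_gt (LP (LK LD1_c14 LD2_c38 LD3_c24)) = (LP (LK LD1_c24 LD2_c10 LD3_c4)) :=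
  Lgr Lrot46 (Lpr_gf (f657081 IH) (Lpe (f756929 IH) (Lpr_at (f757217 IH) (Lpn (LP (LK LD1_c24 LD2_c10 LD3_c4))))))
theorem f463994 : Led Lsl_ct (LP (LK LD1_c7 LD2_c45 LD3_c41)) = (LP (LK LD1_c14 LD2_c38 LD3_c24)) :=
  Lre_c IH (LK LD1_c7 LD2_c45 LD3_c41) (LK LD1_c14 LD2_c38 LD3_c24) Lrfl Lrfl
theorem f91994 : Led Lsl_gt (LP (LK LD1_c6 LD2_c57 LD3_c25)) = (LP (LK LD1_c13 LD2_c12 LD3_c39)) :=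
  Lre_g IH (LK LD1_c6 LD2_c57 LD3_c25) (LK LD1_c13 LD2_c12 LD3_c39) Lrfl Lrfl
theorem f492517 : Led Lsl_gt (LP (LK LD1_c13 LD2_c12 LD3_c39)) = (LP (LK LD1_c13 LD2_c12 LD3_c58)) :=
  Lgr Lrot46 (Lpe (f91994 IH) (Lpr_ft (K34.f492509 IH) (Lpr_at (K34.f492508 IH) (Lpn (LP (LK LD1_c13 LD2_c12 LD3_c58))))))
theorem f804505 : Led Lsl_bt (LP (LK LD1_c13 LD2_c8 LD3_c11)) = (LP (LK LD1_c22 LD2_c20 LD3_c7)) :=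
  Lre_b IH (LK LD1_c13 LD2_c8 LD3_c11) (LK LD1_c22 LD2_c20 LD3_c7) Lrfl Lrfl
theorem f804508 : Led Lsl_cf (LP (LK LD1_c13 LD2_c12 LD3_c39)) = (LP (LK LD1_c13 LD2_c8 LD3_c11)) :=
  Lgr Lrot160 (Lpr_gt (f492517 IH) (Lpe (K34.f463991 IH) (Lpr_bt (K37.f463984 IH) (Lpr_gt (K37.f463990 IH) (Lpr_ct (f463994 IH) (Lpr_gt (f757664 IH) (Lpr_cf (K35.f534574 IH) (Lpr_bt (K35.f472058 IH) (Lpr_gt (f804506 IH) (Lpe (f804505 IH) (Lpn (LP (LK LD1_c13 LD2_c8 LD3_c11)))))))))))))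
theorem f112197 : Led Lsl_dt (LP (LK LD1_c22 LD2_c20 LD3_c10)) = (LP (LK LD1_c13 LD2_c8 LD3_c11)) :=
  Lre_d IH (LK LD1_c22 LD2_c20 LD3_c10) (LK LD1_c13 LD2_c8 LD3_c11) Lrfl Lrfl
theorem f24182 : Led Lsl_et (LP (LK LD1_c2 LD2_c51 LD3_c58)) = (LP (LK LD1_c5 LD2_c51 LD3_c24)) :=
  Lre_e IH (LK LD1_c2 LD2_c51 LD3_c58) (LK LD1_c5 LD2_c51 LD3_c24) Lrfl Lrfl
theorem f24166 : Led Lsl_gt (LP (LK LD1_c5 LD2_c51 LD3_c24)) = (LP (LK LD1_c11 LD2_c30 LD3_c12)) :=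
  Lre_g IH (LK LD1_c5 LD2_c51 LD3_c24) (LK LD1_c11 LD2_c30 LD3_c12) Lrfl Lrfl
theorem f24167 : Led Lsl_dt (LP (LK LD1_c11 LD2_c30 LD3_c12)) = (LP (LK LD1_c20 LD2_c27 LD3_c26)) :=
  Lre_d IH (LK LD1_c11 LD2_c30 LD3_c12) (LK LD1_c20 LD2_c27 LD3_c26) Lrfl Lrfl
theorem f112192 : Led Lsl_et (LP (LK LD1_c13 LD2_c8 LD3_c11)) = (LP (LK LD1_c6 LD2_c54 LD3_c50)) :=
  Lre_e IH (LK LD1_c13 LD2_c8 LD3_c11) (LK LD1_c6 LD2_c54 LD3_c50) Lrfl Lrfl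
theorem f112193 : Led Lsl_dt (LP (LK LD1_c13 LD2_c8 LD3_c11)) = (LP (LK LD1_c22 LD2_c20 LD3_c10)) :=
  Lre_d IH (LK LD1_c13 LD2_c8 LD3_c11) (LK LD1_c22 LD2_c20 LD3_c10) Lrfl Lrfl
theorem f112194 : Led Lsl_gt (LP (LK LD1_c20 LD2_c27 LD3_c26)) = (LP (LK LD1_c22 LD2_c20 LD3_c10)) :=
  Lgr Lrot139 (Lpe (f24167 IH) (Lpe (f24166 IH) (Lpe (f24182 IH) (Lpr_dt (K7.f8353 IH) (Lpe (K4.f8365 IH) (Lpr_df (K4.f112181 IH) (Lpr_et (K29.f15260 IH) (Lpe (K33.f15195 IH) (Lpe (f112192 IH) (Lpr_dt (f112193 IH) (Lpn (LP (LK LD1_c22 LD2_c20 LD3_c10)))))))))))))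
def v15997 : LQ := Led Lsl_dt (LP (LK LD1_c5 LD2_c51 LD3_c24))
theorem f744703 : Led Lsl_dt (LP (LK LD1_c5 LD2_c51 LD3_c24)) = v15997 :=
  Lrfl
def v7725 : LQ := Led Lsl_gf (LP (LK LD1_c3 LD2_c55 LD3_c56))
theorem f668024 : Led Lsl_gf (LP (LK LD1_c3 LD2_c55 LD3_c56)) = v7725 :=
  Lrfl
theorem f457724 : Led Lsl_ct (LP (LK LD1_c7 LD2_c30 LD3_c22)) = (LP (LK LD1_c3 LD2_c55 LD3_c56)) :=
  Lgr Lrot83 (Lpe (K41.f457720 IH) (Lpr_cf (K28.f457718 IH) (Lpe (K29.f457721 IH) (Lpe (K29.f457722 IH) (Lpe (K41.f457723 IH) (Lpn (LP (LK LD1_c3 LD2_c55 LD3_c56))))))))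
def v7592 : LQ := Led Lsl_gt (LP (LK LD1_c3 LD2_c52 LD3_c6))
theorem f667133 : Led Lsl_gt (LP (LK LD1_c3 LD2_c52 LD3_c6)) = v7592 :=
  Lrfl
theorem f668025 : Led Lsl_ct v7592 = v7725 :=
  Lgr Lrot91 (Lpe (f667133 IH) (Lpr_bf (K33.f457975 IH) (Lpr_ct (K29.f15722 IH) (Lpe (K2.f15721 IH) (Lpe (K29.f15715 IH) (Lpe (K0.f15682 IH) (Lpe (K28.f15719 IH) (Lpe (K41.f15720 IH) (Lpr_ct (f457724 IH) (Lpr_gf (f668024 IH) (Lpn v7725)))))))))))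
def v9447 : LQ := Led Lsl_ct K49.v2692
theorem f676010 : Led Lsl_ct K49.v2692 = v9447 :=
  Lrfl
theorem f676011 : Led Lsl_cf K49.v2692 = v9447 :=
  Lgr Lrot11 (Lpr_ct (f676010 IH) (Lpn v9447))
theorem f676013 : Led Lsl_bf v7592 = v9447 :=
  Lgr Lrot34 (Lpe (f667133 IH) (Lpr_bf (K33.f457975 IH) (Lpr_ct (K29.f15722 IH) (Lpe (K2.f15721 IH) (Lpe (K29.f15715 IH) (Lpe (K29.f457982 IH) (Lpe (K34.f457987 IH) (Lpr_ct (K34.f457988 IH) (Lpr_gf (K49.f530435 IH) (Lpr_cf (f676011 IH) (Lpn v9447)))))))))))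
theorem f57271 : Led Lsl_bt (LP (LK LD1_c3 LD2_c19 LD3_c50)) = (LP (LK LD1_c5 LD2_c48 LD3_c21)) :=
  Lgr Lrot127 (Lpr_bf (K6.f57267 IH) (Lpn (LP (LK LD1_c5 LD2_c48 LD3_c21))))
theorem f802084 : v9447 = (LP (LK LD1_c3 LD2_c19 LD3_c50)) :=
  Lefun (Lecon (f676010 IH) (f802069 IH).symm) (Lfl_cf (f64417 IH))
theorem f802112 : v7592 = (LP (LK LD1_c5 LD2_c48 LD3_c21)) :=
  Lefun (Lecon (Lfl_bf (f676013 IH)) (f802084 IH)) (f57271 IH)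
theorem f802115 : v7725 = (LP (LK LD1_c7 LD2_c42 LD3_c3)) :=
  Lefun (Lecon (f668025 IH) (f802112 IH)) (f64409 IH)
theorem f659630 : Led Lsl_dt (LP (LK LD1_c7 LD2_c53 LD3_c33)) = (LP (LK LD1_c14 LD2_c53 LD3_c4)) :=
  Lre_d IH (LK LD1_c7 LD2_c53 LD3_c33) (LK LD1_c14 LD2_c53 LD3_c4) Lrfl Lrfl
theorem f802117 : Led Lsl_gf v15997 = (LP (LK LD1_c14 LD2_c53 LD3_c4)) :=
  Lgr Lrot145 (Lpe (f744703 IH) (Lpr_et (K7.f24152 IH) (Lpe (K4.f103767 IH) (Lpr_dt (K5.f130150 IH) (Lpe (K6.f135862 IH) (Lpr_df (K6.f135882 IH) (Lpr_et (f64337 IH) (Lpq (f802115 IH) (Lpe (f668024 IH) (Lpe (f457744 IH) (Lpr_dt (f659630 IH) (Lpn (LP (LK LD1_c14 LD2_c53 LD3_c4))))))))))))))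
theorem f744706 : Led Lsl_df (LP (LK LD1_c5 LD2_c51 LD3_c24)) = v15997 :=
  Lgr Lrot38 (Lpr_dt (f744703 IH) (Lpn v15997))
theorem f24184 : Led Lsl_dt (LP (LK LD1_c20 LD2_c27 LD3_c24)) = (LP (LK LD1_c11 LD2_c30 LD3_c11)) :=
  Lre_d IH (LK LD1_c20 LD2_c27 LD3_c24) (LK LD1_c11 LD2_c30 LD3_c11) Lrfl Lrfl
theorem f492524 : Led Lsl_gf (LP (LK LD1_c13 LD2_c12 LD3_c35)) = (LP (LK LD1_c13 LD2_c12 LD3_c56)) :=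
  Lgr Lrot76 (Lpe (K34.f457913 IH) (Lpr_ff (K34.f492515 IH) (Lpr_gt (f446575 IH) (Lpn (LP (LK LD1_c13 LD2_c12 LD3_c56))))))
theorem f457949 : Led Lsl_dt (LP (LK LD1_c13 LD2_c12 LD3_c35)) = (LP (LK LD1_c22 LD2_c26 LD3_c22)) :=
  Lre_d IH (LK LD1_c13 LD2_c12 LD3_c35) (LK LD1_c22 LD2_c26 LD3_c22) Lrfl Lrfl
theorem f802118 : Led Lsl_gf (LP (LK LD1_c20 LD2_c27 LD3_c24)) = (LP (LK LD1_c22 LD2_c26 LD3_c22)) :=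
  Lgr Lrot143 (Lpr_dt (f24184 IH) (Lpe (f24161 IH) (Lpr_df (f744706 IH) (Lpr_gf (f802117 IH) (Lpe (f659630 IH) (Lpe (f531765 IH) (Lpr_cf (f800744 IH) (Lpe (f492524 IH) (Lpr_dt (f457949 IH) (Lpn (LP (LK LD1_c22 LD2_c26 LD3_c22))))))))))))
theorem f151695 : Led Lsl_at (LP (LK LD1_c13 LD2_c5 LD3_c24)) = (LP (LK LD1_c20 LD2_c27 LD3_c24)) :=
  Lgr Lrot80 (Lpe (K8.f146533 IH) (Lpe (K8.f25326 IH) (Lpr_ef (K8.f151682 IH) (Lpn (LP (LK LD1_c20 LD2_c27 LD3_c24))))))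
theorem f19052 : Led Lsl_bt (LP (LK LD1_c3 LD2_c24 LD3_c50)) = (LP (LK LD1_c6 LD2_c52 LD3_c9)) :=
  Lre_b IH (LK LD1_c3 LD2_c24 LD3_c50) (LK LD1_c6 LD2_c52 LD3_c9) Lrfl Lrfl
theorem f656589 : Led Lsl_ff (LP (LK LD1_c7 LD2_c2 LD3_c42)) = (LP (LK LD1_c6 LD2_c52 LD3_c9)) :=
  Lgr Lrot25 (Lpr_bt (K46.f458502 IH) (Lpr_ft (K48.f656584 IH) (Lpr_bt (f19052 IH) (Lpn (LP (LK LD1_c6 LD2_c52 LD3_c9))))))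
theorem f19077 : Led Lsl_gt (LP (LK LD1_c6 LD2_c52 LD3_c9)) = (LP (LK LD1_c13 LD2_c3 LD3_c51)) :=
  Lre_g IH (LK LD1_c6 LD2_c52 LD3_c9) (LK LD1_c13 LD2_c3 LD3_c51) Lrfl Lrfl
theorem f656593 : Led Lsl_gf (LP (LK LD1_c13 LD2_c21 LD3_c34)) = (LP (LK LD1_c13 LD2_c3 LD3_c51)) :=
  Lgr Lrot76 (Lpe (K48.f458501 IH) (Lpr_ff (f656589 IH) (Lpr_gt (f19077 IH) (Lpn (LP (LK LD1_c13 LD2_c3 LD3_c51))))))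
theorem f137159 : Led Lsl_ct (LP (LK LD1_c22 LD2_c36 LD3_c7)) = (LP (LK LD1_c13 LD2_c19 LD3_c35)) :=
  Lre_c IH (LK LD1_c22 LD2_c36 LD3_c7) (LK LD1_c13 LD2_c19 LD3_c35) Lrfl Lrfl
theorem f473865 : Led Lsl_at (LP (LK LD1_c30 LD2_c21 LD3_c54)) = (LP (LK LD1_c22 LD2_c13 LD3_c41)) :=
  Lre_a IH (LK LD1_c30 LD2_c21 LD3_c54) (LK LD1_c22 LD2_c13 LD3_c41) Lrfl Lrfl
theorem f473867 : Led Lsl_ff (LP (LK LD1_c30 LD2_c21 LD3_c54)) = (LP (LK LD1_c30 LD2_c28 LD3_c10)) :=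
  Lgr Lrot30 (Lpr_at (f473865 IH) (Lpr_ft (K41.f473848 IH) (Lpr_at (K41.f473866 IH) (Lpn (LP (LK LD1_c30 LD2_c28 LD3_c10))))))
theorem f473883 : Led Lsl_ft (LP (LK LD1_c30 LD2_c21 LD3_c54)) = (LP (LK LD1_c30 LD2_c28 LD3_c10)) :=
  Lgr Lrot48 (Lpr_ff (f473867 IH) (Lpn (LP (LK LD1_c30 LD2_c28 LD3_c10))))
theorem f473886 : Led Lsl_at (LP (LK LD1_c30 LD2_c28 LD3_c10)) = (LP (LK LD1_c22 LD2_c24 LD3_c10)) :=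
  Lre_a IH (LK LD1_c30 LD2_c28 LD3_c10) (LK LD1_c22 LD2_c24 LD3_c10) Lrfl Lrfl
theorem f473893 : Led Lsl_gt (LP (LK LD1_c30 LD2_c21 LD3_c54)) = (LP (LK LD1_c30 LD2_c28 LD3_c30)) :=
  Lgr Lrot5 (Lpr_ft (f473883 IH) (Lpr_at (f473886 IH) (Lpe (K37.f90911 IH) (Lpn (LP (LK LD1_c30 LD2_c28 LD3_c30))))))
theorem f492839 : Led Lsl_bt (LP (LK LD1_c22 LD2_c26 LD3_c22)) = (LP (LK LD1_c14 LD2_c12 LD3_c61)) :=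
  Lgr Lrot95 (Lpe (f457949 IH) (Lpr_bf (K34.f492555 IH) (Lpr_df (K34.f492826 IH) (Lpn (LP (LK LD1_c14 LD2_c12 LD3_c61))))))
theorem f457950 : Led Lsl_ct (LP (LK LD1_c22 LD2_c26 LD3_c22)) = (LP (LK LD1_c30 LD2_c30 LD3_c16)) :=
  Lre_c IH (LK LD1_c22 LD2_c26 LD3_c22) (LK LD1_c30 LD2_c30 LD3_c16) Lrfl Lrfl
theorem f578106 : Led Lsl_gt (LP (LK LD1_c30 LD2_c30 LD3_c16)) = (LP (LK LD1_c22 LD2_c36 LD3_c7)) :=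
  Lgr Lrot65 (Lpe (f457950 IH) (Lpr_bt (f492839 IH) (Lpe (K34.f103811 IH) (Lpr_bf (K37.f111720 IH) (Lpe (K37.f492929 IH) (Lpe (f473893 IH) (Lpe (f473862 IH) (Lpr_gf (K43.f473856 IH) (Lpr_bf (K61.f578070 IH) (Lpr_ct (K61.f137166 IH) (Lpn (LP (LK LD1_c22 LD2_c36 LD3_c7)))))))))))))
theorem f656595 : Led Lsl_dt (LP (LK LD1_c22 LD2_c14 LD3_c2)) = (LP (LK LD1_c13 LD2_c3 LD3_c51)) :=
  Lre_d IH (LK LD1_c22 LD2_c14 LD3_c2) (LK LD1_c13 LD2_c3 LD3_c51) Lrfl Lrfl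
theorem f656596 : Led Lsl_gf (LP (LK LD1_c22 LD2_c26 LD3_c22)) = (LP (LK LD1_c22 LD2_c14 LD3_c2)) :=
  Lgr Lrot147 (Lpr_ct (f457950 IH) (Lpr_gt (f578106 IH) (Lpr_ct (f137159 IH) (Lpe (K36.f109926 IH) (Lpr_cf (K43.f137157 IH) (Lpe (K46.f655500 IH) (Lpe (K46.f655507 IH) (Lpr_gf (f656593 IH) (Lpe (f656595 IH) (Lpn (LP (LK LD1_c22 LD2_c14 LD3_c2))))))))))))
theorem f802120 : Led Lsl_ff (LP (LK LD1_c13 LD2_c5 LD3_c24)) = (LP (LK LD1_c22 LD2_c14 LD3_c2)) :=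
  Lgr Lrot52 (Lpr_at (f151695 IH) (Lpr_gf (f802118 IH) (Lpr_gf (f656596 IH) (Lpn (LP (LK LD1_c22 LD2_c14 LD3_c2))))))
def v20270 : LQ := Led Lsl_ft (LP (LK LD1_c6 LD2_c53 LD3_c13))
theorem f786012 : Led Lsl_ft (LP (LK LD1_c6 LD2_c53 LD3_c13)) = v20270 :=
  Lrfl
theorem f458410 : Led Lsl_dt (LP (LK LD1_c13 LD2_c3 LD3_c51)) = (LP (LK LD1_c22 LD2_c14 LD3_c2)) :=
  Lre_d IH (LK LD1_c13 LD2_c3 LD3_c51) (LK LD1_c22 LD2_c14 LD3_c2) Lrfl Lrfl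
theorem f802128 : v20270 = (LP (LK LD1_c13 LD2_c3 LD3_c51)) :=
  (Llr Lrot54 (Lpe (f786012 IH) (Lpe (K8.f115878 IH) (Lpr_ff (f802120 IH) (Lpe (f458410 IH) (Lpn (LP (LK LD1_c13 LD2_c3 LD3_c51)))))))).symm
def v20268 : LQ := Led Lsl_gt (LP (LK LD1_c6 LD2_c53 LD3_c13))
theorem f786010 : Led Lsl_gt (LP (LK LD1_c6 LD2_c53 LD3_c13)) = v20268 :=
  Lrfl
theorem f656591 : Led Lsl_ft (LP (LK LD1_c7 LD2_c2 LD3_c42)) = (LP (LK LD1_c6 LD2_c52 LD3_c9)) :=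
  Lgr Lrot48 (Lpr_ff (f656589 IH) (Lpn (LP (LK LD1_c6 LD2_c52 LD3_c9))))
theorem f458423 : Led Lsl_at (LP (LK LD1_c6 LD2_c52 LD3_c9)) = (LP (LK LD1_c13 LD2_c3 LD3_c52)) :=
  Lre_a IH (LK LD1_c6 LD2_c52 LD3_c9) (LK LD1_c13 LD2_c3 LD3_c52) Lrfl Lrfl
theorem f789260 : Led Lsl_gf (LP (LK LD1_c13 LD2_c3 LD3_c52)) = v20702 :=
  Lgr Lrot76 (Lpe (f458423 IH) (Lpe (f656591 IH) (Lpr_gt (f789259 IH) (Lpn v20702))))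
theorem f801892 : (LP (LK LD1_c13 LD2_c3 LD3_c52)) = v20268 :=
  Lefun (Lecon (Lfl_gf (f789260 IH)) (f801891 IH)) (f786010 IH)
theorem f655532 : Led Lsl_ff (LP (LK LD1_c13 LD2_c21 LD3_c34)) = (LP (LK LD1_c13 LD2_c3 LD3_c52)) :=
  Lgr Lrot23 (Lpr_ct (K46.f655507 IH) (Lpr_ft (K46.f655504 IH) (Lpe (K46.f458403 IH) (Lpn (LP (LK LD1_c13 LD2_c3 LD3_c52))))))
theorem f458520 : Led Lsl_at (LP (LK LD1_c13 LD2_c21 LD3_c34)) = (LP (LK LD1_c7 LD2_c2 LD3_c42)) :=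
  Lre_a IH (LK LD1_c13 LD2_c21 LD3_c34) (LK LD1_c7 LD2_c2 LD3_c42) Lrfl Lrfl
theorem f656843 : Led Lsl_gf (LP (LK LD1_c13 LD2_c21 LD3_c37)) = (LP (LK LD1_c13 LD2_c3 LD3_c52)) :=
  Lgr Lrot47 (Lpr_gt (K61.f458507 IH) (Lpe (f458520 IH) (Lpr_ff (f655532 IH) (Lpn (LP (LK LD1_c13 LD2_c3 LD3_c52))))))
theorem f802137 : Led Lsl_af (LP (LK LD1_c13 LD2_c21 LD3_c37)) = (LP (LK LD1_c13 LD2_c3 LD3_c51)) :=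
  Lgr Lrot31 (Lpr_gf (f656843 IH) (Lpqs (f801892 IH) (Lpe (f786010 IH) (Lpr_ft (f786012 IH) (Lpqs (f802128 IH) (Lpn (LP (LK LD1_c13 LD2_c3 LD3_c51))))))))
theorem f802147 : Led Lsl_ft (LP (LK LD1_c13 LD2_c21 LD3_c37)) = (LP (LK LD1_c11 LD2_c30 LD3_c11)) :=
  Lgr Lrot101 (Lpr_af (f802137 IH) (Lpq (f802128 IH) (Lpe (f786012 IH) (Lpr_af (f151531 IH) (Lpn (LP (LK LD1_c11 LD2_c30 LD3_c11)))))))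
theorem f802155 : Led Lsl_ff (LP (LK LD1_c13 LD2_c21 LD3_c37)) = (LP (LK LD1_c11 LD2_c30 LD3_c11)) :=
  Lgr Lrot3 (Lpr_ft (f802147 IH) (Lpn (LP (LK LD1_c11 LD2_c30 LD3_c11))))
theorem f802139 : Led Lsl_at (LP (LK LD1_c13 LD2_c21 LD3_c37)) = (LP (LK LD1_c13 LD2_c3 LD3_c51)) :=
  Lgr Lrot100 (Lpr_af (f802137 IH) (Lpn (LP (LK LD1_c13 LD2_c3 LD3_c51))))
def v20214 : LQ := Led Lsl_gf (LP (LK LD1_c6 LD2_c52 LD3_c9))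
theorem f785693 : Led Lsl_gf (LP (LK LD1_c6 LD2_c52 LD3_c9)) = v20214 :=
  Lrfl
theorem f802159 : v20214 = (LP (LK LD1_c11 LD2_c30 LD3_c11)) :=
  (Llr Lrot47 (Lpe (f785693 IH) (Lpr_gt (f19077 IH) (Lpe (f802139 IH) (Lpr_ff (f802155 IH) (Lpn (LP (LK LD1_c11 LD2_c30 LD3_c11)))))))).symm
theorem f458438 : Led Lsl_dt (LP (LK LD1_c6 LD2_c52 LD3_c9)) = (LP (LK LD1_c13 LD2_c3 LD3_c53)) :=
  Lre_d IH (LK LD1_c6 LD2_c52 LD3_c9) (LK LD1_c13 LD2_c3 LD3_c53) Lrfl Lrfl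
theorem f472750 : Led Lsl_gt (LP (LK LD1_c13 LD2_c3 LD3_c53)) = (LP (LK LD1_c22 LD2_c14 LD3_c5)) :=
  Lre_g IH (LK LD1_c13 LD2_c3 LD3_c53) (LK LD1_c22 LD2_c14 LD3_c5) Lrfl Lrfl
theorem f804516 : Led Lsl_df (LP (LK LD1_c13 LD2_c12 LD3_c39)) = (LP (LK LD1_c22 LD2_c14 LD3_c5)) :=
  Lgr Lrot84 (Lpr_cf (f804508 IH) (Lpe (f112197 IH) (Lpe (f112194 IH) (Lpe (f24167 IH) (Lpe (f24166 IH) (Lpe (f24181 IH) (Lpq (f802159 IH) (Lpe (f785693 IH) (Lpr_dt (f458438 IH) (Lpr_gt (f472750 IH) (Lpn (LP (LK LD1_c22 LD2_c14 LD3_c5)))))))))))))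
theorem f804522 : Led Lsl_dt (LP (LK LD1_c13 LD2_c12 LD3_c39)) = (LP (LK LD1_c22 LD2_c14 LD3_c5)) :=
  Lgr Lrot42 (Lpr_df (f804516 IH) (Lpn (LP (LK LD1_c22 LD2_c14 LD3_c5))))
theorem f90869 : Led Lsl_bt (LP (LK LD1_c3 LD2_c27 LD3_c34)) = (LP (LK LD1_c1 LD2_c40 LD3_c25)) :=
  Lre_b IH (LK LD1_c3 LD2_c27 LD3_c34) (LK LD1_c1 LD2_c40 LD3_c25) Lrfl Lrfl
theorem f64974 : Led Lsl_bt (LP (LK LD1_c7 LD2_c36 LD3_c49)) = (LP (LK LD1_c3 LD2_c47 LD3_c53)) :=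
  Lre_b IH (LK LD1_c7 LD2_c36 LD3_c49) (LK LD1_c3 LD2_c47 LD3_c53) Lrfl Lrfl
theorem f457904 : Led Lsl_ct (LP (LK LD1_c6 LD2_c57 LD3_c25)) = (LP (LK LD1_c7 LD2_c36 LD3_c49)) :=
  Lgr Lrot83 (Lpe (K34.f91993 IH) (Lpe (K29.f91986 IH) (Lpe (f90869 IH) (Lpr_cf (K24.f457785 IH) (Lpe (f64974 IH) (Lpn (LP (LK LD1_c7 LD2_c36 LD3_c49))))))))
theorem f443468 : Led Lsl_gt (LP (LK LD1_c7 LD2_c36 LD3_c49)) = (LP (LK LD1_c14 LD2_c21 LD3_c16)) :=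
  Lre_g IH (LK LD1_c7 LD2_c36 LD3_c49) (LK LD1_c14 LD2_c21 LD3_c16) Lrfl Lrfl
theorem f472749 : Led Lsl_bt (LP (LK LD1_c6 LD2_c52 LD3_c10)) = (LP (LK LD1_c13 LD2_c3 LD3_c53)) :=
  Lre_b IH (LK LD1_c6 LD2_c52 LD3_c10) (LK LD1_c13 LD2_c3 LD3_c53) Lrfl Lrfl
theorem f656575 : Led Lsl_ff (LP (LK LD1_c13 LD2_c21 LD3_c38)) = (LP (LK LD1_c13 LD2_c3 LD3_c53)) :=
  Lgr Lrot25 (Lpr_bt (K46.f458505 IH) (Lpr_ft (K48.f656573 IH) (Lpr_bt (f472749 IH) (Lpn (LP (LK LD1_c13 LD2_c3 LD3_c53))))))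
theorem f656739 : Led Lsl_gf (LP (LK LD1_c22 LD2_c38 LD3_c26)) = (LP (LK LD1_c22 LD2_c14 LD3_c5)) :=
  Lgr Lrot76 (Lpe (K46.f458517 IH) (Lpr_ff (f656575 IH) (Lpr_gt (f472750 IH) (Lpn (LP (LK LD1_c22 LD2_c14 LD3_c5))))))
theorem f655506 : Led Lsl_dt (LP (LK LD1_c13 LD2_c21 LD3_c35)) = (LP (LK LD1_c7 LD2_c2 LD3_c41)) :=
  Lre_d IH (LK LD1_c13 LD2_c21 LD3_c35) (LK LD1_c7 LD2_c2 LD3_c41) Lrfl Lrfl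
theorem f458419 : Led Lsl_dt (LP (LK LD1_c22 LD2_c32 LD3_c23)) = (LP (LK LD1_c13 LD2_c16 LD3_c54)) :=
  Lre_d IH (LK LD1_c22 LD2_c32 LD3_c23) (LK LD1_c13 LD2_c16 LD3_c54) Lrfl Lrfl
theorem f655544 : Led Lsl_ft (LP (LK LD1_c13 LD2_c21 LD3_c35)) = (LP (LK LD1_c22 LD2_c32 LD3_c23)) :=
  Lgr Lrot54 (Lpe (K46.f655491 IH) (Lpr_ff (K46.f655536 IH) (Lpe (f458419 IH) (Lpn (LP (LK LD1_c22 LD2_c32 LD3_c23))))))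
theorem f656768 : Led Lsl_at (LP (LK LD1_c22 LD2_c32 LD3_c23)) = (LP (LK LD1_c13 LD2_c16 LD3_c55)) :=
  Lre_a IH (LK LD1_c22 LD2_c32 LD3_c23) (LK LD1_c13 LD2_c16 LD3_c55) Lrfl Lrfl
theorem f656769 : Led Lsl_ff (LP (LK LD1_c7 LD2_c2 LD3_c43)) = (LP (LK LD1_c13 LD2_c16 LD3_c55)) :=
  Lgr Lrot30 (Lpr_at (K46.f655484 IH) (Lpr_ft (f655544 IH) (Lpr_at (f656768 IH) (Lpn (LP (LK LD1_c13 LD2_c16 LD3_c55))))))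
theorem f468498 : Led Lsl_gt (LP (LK LD1_c13 LD2_c16 LD3_c55)) = (LP (LK LD1_c22 LD2_c32 LD3_c25)) :=
  Lre_g IH (LK LD1_c13 LD2_c16 LD3_c55) (LK LD1_c22 LD2_c32 LD3_c25) Lrfl Lrfl
theorem f656795 : Led Lsl_gf (LP (LK LD1_c13 LD2_c21 LD3_c35)) = (LP (LK LD1_c22 LD2_c32 LD3_c25)) :=
  Lgr Lrot76 (Lpe (K46.f655484 IH) (Lpr_ff (f656769 IH) (Lpr_gt (f468498 IH) (Lpn (LP (LK LD1_c22 LD2_c32 LD3_c25))))))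
theorem f804524 : Led Lsl_dt (LP (LK LD1_c14 LD2_c21 LD3_c16)) = (LP (LK LD1_c22 LD2_c32 LD3_c25)) :=
  Lgr Lrot57 (Lpe (f443468 IH) (Lpe (f457904 IH) (Lpr_gt (f91994 IH) (Lpr_dt (f804522 IH) (Lpe (f656739 IH) (Lpr_dt (K46.f655519 IH) (Lpe (K46.f655498 IH) (Lpe (f655506 IH) (Lpr_gf (f656795 IH) (Lpn (LP (LK LD1_c22 LD2_c32 LD3_c25))))))))))))
theorem f64164 : Led Lsl_dt (LP (LK LD1_c6 LD2_c59 LD3_c59)) = (LP (LK LD1_c13 LD2_c16 LD3_c55)) :=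
  Lre_d IH (LK LD1_c6 LD2_c59 LD3_c59) (LK LD1_c13 LD2_c16 LD3_c55) Lrfl Lrfl
theorem f136957 : Led Lsl_et (LP (LK LD1_c6 LD2_c34 LD3_c54)) = (LP (LK LD1_c12 LD2_c36 LD3_c5)) :=
  Lre_e IH (LK LD1_c6 LD2_c34 LD3_c54) (LK LD1_c12 LD2_c36 LD3_c5) Lrfl Lrfl
theorem f804529 : Led Lsl_et (LP (LK LD1_c14 LD2_c21 LD3_c16)) = (LP (LK LD1_c7 LD2_c42 LD3_c0)) :=
  Lgr Lrot185 (Lpr_dt (f804524 IH) (Lpe (f468498 IH) (Lpe (f64164 IH) (Lpe (K43.f575226 IH) (Lpe (f136957 IH) (Lpe (K37.f206007 IH) (Lpr_gf (K37.f206014 IH) (Lpr_df (K34.f157930 IH) (Lpr_et (K37.f136517 IH) (Lpe (K33.f136667 IH) (Lpn (LP (LK LD1_c7 LD2_c42 LD3_c0)))))))))))))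
theorem f804537 : Led Lsl_ef (LP (LK LD1_c14 LD2_c21 LD3_c16)) = (LP (LK LD1_c7 LD2_c42 LD3_c0)) :=
  Lgr Lrot88 (Lpr_et (f804529 IH) (Lpn (LP (LK LD1_c7 LD2_c42 LD3_c0))))
theorem f426895 : Led Lsl_et (LP (LK LD1_c23 LD2_c57 LD3_c39)) = (LP (LK LD1_c14 LD2_c19 LD3_c38)) :=
  Lre_e IH (LK LD1_c23 LD2_c57 LD3_c39) (LK LD1_c14 LD2_c19 LD3_c38) Lrfl Lrfl
theorem f804541 : Led Lsl_bt (LP (LK LD1_c14 LD2_c21 LD3_c16)) = (LP (LK LD1_c23 LD2_c57 LD3_c39)) :=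
  Lgr Lrot119 (Lpr_ef (f804537 IH) (Lpe (K34.f488990 IH) (Lpe (f426895 IH) (Lpn (LP (LK LD1_c23 LD2_c57 LD3_c39))))))
theorem f489002 : Led Lsl_et (LP (LK LD1_c7 LD2_c39 LD3_c16)) = (LP (LK LD1_c14 LD2_c25 LD3_c38)) :=
  Lre_e IH (LK LD1_c7 LD2_c39 LD3_c16) (LK LD1_c14 LD2_c25 LD3_c38) Lrfl Lrfl
theorem f745784 : Led Lsl_at (LP (LK LD1_c14 LD2_c25 LD3_c38)) = (LP (LK LD1_c14 LD2_c43 LD3_c10)) :=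
  Lgr Lrot80 (Lpe (f489002 IH) (Lpr_af (K61.f745778 IH) (Lpr_ef (K55.f745323 IH) (Lpn (LP (LK LD1_c14 LD2_c43 LD3_c10))))))
theorem f745790 : Led Lsl_ff (LP (LK LD1_c14 LD2_c25 LD3_c38)) = (LP (LK LD1_c14 LD2_c43 LD3_c11)) :=
  Lgr Lrot52 (Lpr_at (f745784 IH) (Lpe (K55.f462034 IH) (Lpe (K48.f462035 IH) (Lpn (LP (LK LD1_c14 LD2_c43 LD3_c11))))))
theorem f489003 : Led Lsl_cf (LP (LK LD1_c23 LD2_c57 LD3_c39)) = (LP (LK LD1_c14 LD2_c25 LD3_c38)) :=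
  Lgr Lrot39 (Lpr_et (f426895 IH) (Lpr_ct (K33.f488998 IH) (Lpr_et (f489002 IH) (Lpn (LP (LK LD1_c14 LD2_c25 LD3_c38))))))
theorem f745792 : Led Lsl_ft (LP (LK LD1_c23 LD2_c57 LD3_c39)) = (LP (LK LD1_c24 LD2_c28 LD3_c31)) :=
  Lgr Lrot4 (Lpr_cf (f489003 IH) (Lpr_ff (f745790 IH) (Lpe (K48.f468507 IH) (Lpn (LP (LK LD1_c24 LD2_c28 LD3_c31))))))
theorem f461916 : Led Lsl_gt (LP (LK LD1_c13 LD2_c12 LD3_c25)) = (LP (LK LD1_c22 LD2_c26 LD3_c8)) :=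
  Lre_g IH (LK LD1_c13 LD2_c12 LD3_c25) (LK LD1_c22 LD2_c26 LD3_c8) Lrfl Lrfl
theorem f468508 : Led Lsl_bf (LP (LK LD1_c22 LD2_c26 LD3_c8)) = (LP (LK LD1_c24 LD2_c28 LD3_c31)) :=
  Lgr Lrot34 (Lpe (f461916 IH) (Lpe (K37.f461915 IH) (Lpr_ct (K29.f457783 IH) (Lpe (K29.f457788 IH) (Lpr_cf (K29.f461911 IH) (Lpr_gf (K29.f468504 IH) (Lpe (K34.f129818 IH) (Lpr_ct (K48.f129862 IH) (Lpe (K48.f462035 IH) (Lpe (K48.f468507 IH) (Lpn (LP (LK LD1_c24 LD2_c28 LD3_c31)))))))))))))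
theorem f804565 : Led Lsl_ff (LP (LK LD1_c14 LD2_c21 LD3_c16)) = (LP (LK LD1_c22 LD2_c26 LD3_c8)) :=
  Lgr Lrot25 (Lpr_bt (f804541 IH) (Lpr_ft (f745792 IH) (Lpe (f468508 IH) (Lpn (LP (LK LD1_c22 LD2_c26 LD3_c8))))))
theorem f666442 : Led Lsl_ff (LP (LK LD1_c3 LD2_c50 LD3_c35)) = K48.v7536 :=
  Lgr Lrot3 (Lpr_ft (K48.f666440 IH) (Lpn K48.v7536))
theorem f666447 : Led Lsl_at (LP (LK LD1_c3 LD2_c50 LD3_c36)) = K48.v7536 :=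
  Lgr Lrot66 (Lpr_ff (K61.f666436 IH) (Lpe (K48.f666433 IH) (Lpr_ff (f666442 IH) (Lpn K48.v7536))))
theorem f136675 : Led Lsl_et (LP (LK LD1_c7 LD2_c42 LD3_c18)) = (LP (LK LD1_c3 LD2_c50 LD3_c36)) :=
  Lre_e IH (LK LD1_c7 LD2_c42 LD3_c18) (LK LD1_c3 LD2_c50 LD3_c36) Lrfl Lrfl
theorem f804539 : Led Lsl_at (LP (LK LD1_c14 LD2_c21 LD3_c16)) = (LP (LK LD1_c7 LD2_c42 LD3_c18)) :=
  Lgr Lrot80 (Lpr_ef (f804537 IH) (Lpqs (K61.f745711 IH) (Lpe (f666447 IH) (Lpe (f136675 IH) (Lpn (LP (LK LD1_c7 LD2_c42 LD3_c18)))))))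
theorem f491966 : Led Lsl_ff (LP (LK LD1_c7 LD2_c36 LD3_c49)) = (LP (LK LD1_c13 LD2_c12 LD3_c25)) :=
  Lgr Lrot25 (Lpr_bt (f64974 IH) (Lpr_ft (K33.f491913 IH) (Lpr_bt (K37.f461915 IH) (Lpn (LP (LK LD1_c13 LD2_c12 LD3_c25))))))
theorem f443475 : Led Lsl_at (LP (LK LD1_c7 LD2_c36 LD3_c49)) = (LP (LK LD1_c14 LD2_c21 LD3_c15)) :=
  Lre_a IH (LK LD1_c7 LD2_c36 LD3_c49) (LK LD1_c14 LD2_c21 LD3_c15) Lrfl Lrfl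
theorem f493179 : Led Lsl_gf (LP (LK LD1_c14 LD2_c21 LD3_c15)) = (LP (LK LD1_c22 LD2_c26 LD3_c8)) :=
  Lgr Lrot76 (Lpe (f443475 IH) (Lpr_ff (f491966 IH) (Lpr_gt (f461916 IH) (Lpn (LP (LK LD1_c22 LD2_c26 LD3_c8))))))
theorem f804571 : Led Lsl_gf (LP (LK LD1_c7 LD2_c42 LD3_c18)) = (LP (LK LD1_c14 LD2_c21 LD3_c15)) :=
  Lgr Lrot76 (Lpe (f804539 IH) (Lpr_ff (f804565 IH) (Lpe (f493179 IH) (Lpn (LP (LK LD1_c14 LD2_c21 LD3_c15))))))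
theorem f463948 : Led Lsl_at (LP (LK LD1_c22 LD2_c26 LD3_c9)) = (LP (LK LD1_c13 LD2_c12 LD3_c25)) :=
  Lre_a IH (LK LD1_c22 LD2_c26 LD3_c9) (LK LD1_c13 LD2_c12 LD3_c25) Lrfl Lrfl
theorem f804573 : Led Lsl_gt (LP (LK LD1_c7 LD2_c42 LD3_c18)) = (LP (LK LD1_c13 LD2_c12 LD3_c25)) :=
  Lgr Lrot46 (Lpr_gf (f804571 IH) (Lpr_ft (K34.f492502 IH) (Lpr_at (f463948 IH) (Lpn (LP (LK LD1_c13 LD2_c12 LD3_c25))))))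
theorem f616200 : Led Lsl_bt (LP (LK LD1_c14 LD2_c31 LD3_c14)) = (LP (LK LD1_c7 LD2_c42 LD3_c18)) :=
  Lre_b IH (LK LD1_c14 LD2_c31 LD3_c14) (LK LD1_c7 LD2_c42 LD3_c18) Lrfl Lrfl
theorem f616201 : Led Lsl_ct (LP (LK LD1_c14 LD2_c31 LD3_c14)) = (LP (LK LD1_c24 LD2_c12 LD3_c55)) :=
  Lre_c IH (LK LD1_c14 LD2_c31 LD3_c14) (LK LD1_c24 LD2_c12 LD3_c55) Lrfl Lrfl
theorem f461745 : Led Lsl_gt (LP (LK LD1_c7 LD2_c40 LD3_c10)) = (LP (LK LD1_c14 LD2_c27 LD3_c33)) :=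
  Lre_g IH (LK LD1_c7 LD2_c40 LD3_c10) (LK LD1_c14 LD2_c27 LD3_c33) Lrfl Lrfl
theorem f467475 : Led Lsl_bt (LP (LK LD1_c24 LD2_c8 LD3_c19)) = (LP (LK LD1_c14 LD2_c27 LD3_c33)) :=
  Lre_b IH (LK LD1_c24 LD2_c8 LD3_c19) (LK LD1_c14 LD2_c27 LD3_c33) Lrfl Lrfl
theorem f458090 : Led Lsl_bt (LP (LK LD1_c7 LD2_c47 LD3_c43)) = (LP (LK LD1_c3 LD2_c52 LD3_c57)) :=
  Lre_b IH (LK LD1_c7 LD2_c47 LD3_c43) (LK LD1_c3 LD2_c52 LD3_c57) Lrfl Lrfl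
theorem f477464 : Led Lsl_bf (LP (LK LD1_c1 LD2_c53 LD3_c2)) = (LP (LK LD1_c1 LD2_c53 LD3_c2)) :=
  Lgr Lrot93 (Lpr_dt (K29.f62992 IH) (Lpr_bt (K29.f477460 IH) (Lpr_dt (K29.f451072 IH) (Lpn (LP (LK LD1_c1 LD2_c53 LD3_c2))))))
theorem f477479 : Led Lsl_ct (LP (LK LD1_c7 LD2_c47 LD3_c43)) = (LP (LK LD1_c7 LD2_c47 LD3_c43)) :=
  Lgr Lrot83 (Lpe (K57.f458095 IH) (Lpe (K29.f458081 IH) (Lpr_bf (f477464 IH) (Lpe (K29.f458085 IH) (Lpe (f458090 IH) (Lpn (LP (LK LD1_c7 LD2_c47 LD3_c43))))))))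
theorem f477558 : Led Lsl_ct (LP (LK LD1_c24 LD2_c8 LD3_c19)) = (LP (LK LD1_c14 LD2_c42 LD3_c37)) :=
  Lgr Lrot64 (Lpr_bt (f467475 IH) (Lpe (f461745 IH) (Lpe (K33.f461740 IH) (Lpe (K29.f467461 IH) (Lpr_gf (K29.f477537 IH) (Lpr_cf (K24.f457785 IH) (Lpe (K30.f458082 IH) (Lpe (f458090 IH) (Lpr_ct (f477479 IH) (Lpe (K57.f458096 IH) (Lpn (LP (LK LD1_c14 LD2_c42 LD3_c37)))))))))))))
theorem f477561 : Led Lsl_cf (LP (LK LD1_c24 LD2_c8 LD3_c19)) = (LP (LK LD1_c14 LD2_c42 LD3_c37)) :=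
  Lgr Lrot11 (Lpr_ct (f477558 IH) (Lpn (LP (LK LD1_c14 LD2_c42 LD3_c37))))
theorem f757528 : Led Lsl_ff (LP (LK LD1_c23 LD2_c57 LD3_c58)) = (LP (LK LD1_c24 LD2_c8 LD3_c19)) :=
  Lgr Lrot23 (Lpr_ct (K57.f130462 IH) (Lpr_ft (K57.f757524 IH) (Lpe (f477561 IH) (Lpn (LP (LK LD1_c24 LD2_c8 LD3_c19))))))
theorem f477560 : Led Lsl_bt (LP (LK LD1_c14 LD2_c27 LD3_c33)) = (LP (LK LD1_c24 LD2_c8 LD3_c19)) :=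
  Lre_b IH (LK LD1_c14 LD2_c27 LD3_c33) (LK LD1_c24 LD2_c8 LD3_c19) Lrfl Lrfl
theorem f757563 : Led Lsl_ft (LP (LK LD1_c14 LD2_c42 LD3_c40)) = (LP (LK LD1_c14 LD2_c27 LD3_c33)) :=
  Lgr Lrot75 (Lpr_bf (K57.f757557 IH) (Lpr_ff (f757528 IH) (Lpe (f477560 IH) (Lpn (LP (LK LD1_c14 LD2_c27 LD3_c33))))))
theorem f520464 : Led Lsl_ft (LP (LK LD1_c7 LD2_c47 LD3_c46)) = (LP (LK LD1_c7 LD2_c40 LD3_c10)) :=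
  Lgr Lrot75 (Lpe (K57.f520463 IH) (Lpr_ff (K33.f520459 IH) (Lpe (K33.f461672 IH) (Lpn (LP (LK LD1_c7 LD2_c40 LD3_c10))))))
theorem f461753 : Led Lsl_at (LP (LK LD1_c7 LD2_c40 LD3_c10)) = (LP (LK LD1_c14 LD2_c27 LD3_c29)) :=
  Lre_a IH (LK LD1_c7 LD2_c40 LD3_c10) (LK LD1_c14 LD2_c27 LD3_c29) Lrfl Lrfl
theorem f521976 : Led Lsl_gt (LP (LK LD1_c14 LD2_c42 LD3_c40)) = (LP (LK LD1_c14 LD2_c27 LD3_c29)) :=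
  Lgr Lrot46 (Lpe (K57.f521972 IH) (Lpr_ft (f520464 IH) (Lpr_at (f461753 IH) (Lpn (LP (LK LD1_c14 LD2_c27 LD3_c29))))))
theorem f521973 : Led Lsl_at (LP (LK LD1_c14 LD2_c42 LD3_c42)) = (LP (LK LD1_c7 LD2_c47 LD3_c46)) :=
  Lre_a IH (LK LD1_c14 LD2_c42 LD3_c42) (LK LD1_c7 LD2_c47 LD3_c46) Lrfl Lrfl
theorem f521974 : Led Lsl_ff (LP (LK LD1_c14 LD2_c42 LD3_c42)) = (LP (LK LD1_c14 LD2_c27 LD3_c29)) :=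
  Lgr Lrot30 (Lpr_at (f521973 IH) (Lpr_ft (f520464 IH) (Lpr_at (f461753 IH) (Lpn (LP (LK LD1_c14 LD2_c27 LD3_c29))))))
theorem f521971 : Led Lsl_gt (LP (LK LD1_c14 LD2_c42 LD3_c41)) = (LP (LK LD1_c7 LD2_c47 LD3_c46)) :=
  Lre_g IH (LK LD1_c14 LD2_c42 LD3_c41) (LK LD1_c7 LD2_c47 LD3_c46) Lrfl Lrfl
theorem f521980 : Led Lsl_gf (LP (LK LD1_c14 LD2_c42 LD3_c41)) = (LP (LK LD1_c14 LD2_c27 LD3_c29)) :=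
  Lgr Lrot47 (Lpr_gt (f521971 IH) (Lpe (f521973 IH) (Lpr_ff (f521974 IH) (Lpn (LP (LK LD1_c14 LD2_c27 LD3_c29))))))
theorem f757569 : Led Lsl_af (LP (LK LD1_c14 LD2_c42 LD3_c41)) = (LP (LK LD1_c14 LD2_c27 LD3_c33)) :=
  Lgr Lrot31 (Lpr_gf (f521980 IH) (Lpe (f521976 IH) (Lpr_ft (f757563 IH) (Lpn (LP (LK LD1_c14 LD2_c27 LD3_c33))))))
theorem f476563 : Led Lsl_et (LP (LK LD1_c13 LD2_c47 LD3_c9)) = (LP (LK LD1_c23 LD2_c14 LD3_c44)) :=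
  Lre_e IH (LK LD1_c13 LD2_c47 LD3_c9) (LK LD1_c23 LD2_c14 LD3_c44) Lrfl Lrfl
theorem f664228 : Led Lsl_et (LP (LK LD1_c14 LD2_c14 LD3_c41)) = (LP (LK LD1_c22 LD2_c33 LD3_c9)) :=
  Lgr Lrot158 (Lpr_cf (K48.f664224 IH) (Lpe (f476563 IH) (Lpe (K43.f476557 IH) (Lpn (LP (LK LD1_c22 LD2_c33 LD3_c9))))))
theorem f88152 : Led Lsl_dt (LP (LK LD1_c14 LD2_c14 LD3_c41)) = (LP (LK LD1_c23 LD2_c50 LD3_c39)) :=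
  Lre_d IH (LK LD1_c14 LD2_c14 LD3_c41) (LK LD1_c23 LD2_c50 LD3_c39) Lrfl Lrfl
theorem f489217 : Led Lsl_gt (LP (LK LD1_c13 LD2_c29 LD3_c58)) = (LP (LK LD1_c7 LD2_c35 LD3_c14)) :=
  Lgr Lrot5 (Lpr_ft (K34.f489079 IH) (Lpr_at (K34.f489196 IH) (Lpe (K33.f486879 IH) (Lpn (LP (LK LD1_c7 LD2_c35 LD3_c14))))))
theorem f486886 : Led Lsl_dt (LP (LK LD1_c7 LD2_c35 LD3_c14)) = (LP (LK LD1_c14 LD2_c18 LD3_c20)) :=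
  Lre_d IH (LK LD1_c7 LD2_c35 LD3_c14) (LK LD1_c14 LD2_c18 LD3_c20) Lrfl Lrfl
theorem f664232 : Led Lsl_gf (LP (LK LD1_c23 LD2_c50 LD3_c39)) = (LP (LK LD1_c14 LD2_c18 LD3_c20)) :=
  Lgr Lrot134 (Lpe (f88152 IH) (Lpr_et (f664228 IH) (Lpr_gt (K43.f17928 IH) (Lpe (K34.f17915 IH) (Lpr_dt (K4.f89567 IH) (Lpe (K4.f111836 IH) (Lpr_df (K43.f127265 IH) (Lpr_et (K34.f127268 IH) (Lpr_gt (f489217 IH) (Lpr_dt (f486886 IH) (Lpn (LP (LK LD1_c14 LD2_c18 LD3_c20)))))))))))))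
theorem f520310 : Led Lsl_gf (LP (LK LD1_c13 LD2_c29 LD3_c58)) = (LP (LK LD1_c7 LD2_c40 LD3_c8)) :=
  Lgr Lrot76 (Lpr_af (K34.f162179 IH) (Lpr_ff (K34.f489194 IH) (Lpr_gt (K40.f520307 IH) (Lpn (LP (LK LD1_c7 LD2_c40 LD3_c8))))))
theorem f520312 : Led Lsl_ff (LP (LK LD1_c14 LD2_c18 LD3_c19)) = (LP (LK LD1_c7 LD2_c40 LD3_c8)) :=
  Lgr Lrot52 (Lpr_at (K40.f486871 IH) (Lpe (f489217 IH) (Lpr_gf (f520310 IH) (Lpn (LP (LK LD1_c7 LD2_c40 LD3_c8))))))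
theorem f461756 : Led Lsl_dt (LP (LK LD1_c14 LD2_c27 LD3_c28)) = (LP (LK LD1_c7 LD2_c40 LD3_c8)) :=
  Lre_d IH (LK LD1_c14 LD2_c27 LD3_c28) (LK LD1_c7 LD2_c40 LD3_c8) Lrfl Lrfl
theorem f520319 : Led Lsl_ft (LP (LK LD1_c23 LD2_c56 LD3_c21)) = (LP (LK LD1_c14 LD2_c27 LD3_c28)) :=
  Lgr Lrot54 (Lpe (K33.f486888 IH) (Lpr_ff (f520312 IH) (Lpe (f461756 IH) (Lpn (LP (LK LD1_c14 LD2_c27 LD3_c28))))))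
theorem f520321 : Led Lsl_ff (LP (LK LD1_c23 LD2_c56 LD3_c21)) = (LP (LK LD1_c14 LD2_c27 LD3_c28)) :=
  Lgr Lrot3 (Lpr_ft (f520319 IH) (Lpn (LP (LK LD1_c14 LD2_c27 LD3_c28))))
theorem f520325 : Led Lsl_at (LP (LK LD1_c23 LD2_c56 LD3_c21)) = (LP (LK LD1_c14 LD2_c18 LD3_c20)) :=
  Lre_a IH (LK LD1_c23 LD2_c56 LD3_c21) (LK LD1_c14 LD2_c18 LD3_c20) Lrfl Lrfl
theorem f520326 : Led Lsl_at (LP (LK LD1_c7 LD2_c40 LD3_c9)) = (LP (LK LD1_c14 LD2_c27 LD3_c28)) :=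
  Lre_a IH (LK LD1_c7 LD2_c40 LD3_c9) (LK LD1_c14 LD2_c27 LD3_c28) Lrfl Lrfl
theorem f520327 : Led Lsl_ft (LP (LK LD1_c14 LD2_c18 LD3_c20)) = (LP (LK LD1_c7 LD2_c40 LD3_c9)) :=
  Lgr Lrot101 (Lpe (f520325 IH) (Lpr_ff (f520321 IH) (Lpe (f520326 IH) (Lpn (LP (LK LD1_c7 LD2_c40 LD3_c9))))))
theorem f664234 : Led Lsl_gt (LP (LK LD1_c23 LD2_c50 LD3_c39)) = (LP (LK LD1_c14 LD2_c27 LD3_c28)) :=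
  Lgr Lrot46 (Lpr_gf (f664232 IH) (Lpr_ft (f520327 IH) (Lpr_at (f520326 IH) (Lpn (LP (LK LD1_c14 LD2_c27 LD3_c28))))))
theorem f460942 : Led Lsl_dt (LP (LK LD1_c7 LD2_c3 LD3_c20)) = (LP (LK LD1_c13 LD2_c22 LD3_c46)) :=
  Lre_d IH (LK LD1_c7 LD2_c3 LD3_c20) (LK LD1_c13 LD2_c22 LD3_c46) Lrfl Lrfl
theorem f460943 : Led Lsl_gt (LP (LK LD1_c22 LD2_c40 LD3_c20)) = (LP (LK LD1_c13 LD2_c22 LD3_c46)) :=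
  Lre_g IH (LK LD1_c22 LD2_c40 LD3_c20) (LK LD1_c13 LD2_c22 LD3_c46) Lrfl Lrfl
theorem f461751 : Led Lsl_dt (LP (LK LD1_c7 LD2_c40 LD3_c8)) = (LP (LK LD1_c14 LD2_c27 LD3_c28)) :=
  Lre_d IH (LK LD1_c7 LD2_c40 LD3_c8) (LK LD1_c14 LD2_c27 LD3_c28) Lrfl Lrfl
theorem f664236 : Led Lsl_df (LP (LK LD1_c22 LD2_c40 LD3_c20)) = (LP (LK LD1_c14 LD2_c42 LD3_c41)) :=
  Lgr Lrot135 (Lpr_gt (f460943 IH) (Lpe (f460942 IH) (Lpe (K28.f460934 IH) (Lpr_gt (K43.f17841 IH) (Lpe (f664228 IH) (Lpr_dt (f88152 IH) (Lpr_gt (f664234 IH) (Lpe (f461751 IH) (Lpr_et (K33.f461755 IH) (Lpe (f521980 IH) (Lpn (LP (LK LD1_c14 LD2_c42 LD3_c41)))))))))))))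
theorem f520254 : Led Lsl_at (LP (LK LD1_c14 LD2_c27 LD3_c28)) = (LP (LK LD1_c7 LD2_c40 LD3_c9)) :=
  Lre_a IH (LK LD1_c14 LD2_c27 LD3_c28) (LK LD1_c7 LD2_c40 LD3_c9) Lrfl Lrfl
theorem f461763 : Led Lsl_gt (LP (LK LD1_c14 LD2_c27 LD3_c31)) = (LP (LK LD1_c7 LD2_c40 LD3_c9)) :=
  Lre_g IH (LK LD1_c14 LD2_c27 LD3_c31) (LK LD1_c7 LD2_c40 LD3_c9) Lrfl Lrfl
theorem f520323 : Led Lsl_gt (LP (LK LD1_c23 LD2_c56 LD3_c21)) = (LP (LK LD1_c14 LD2_c27 LD3_c31)) :=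
  Lgr Lrot5 (Lpr_ft (f520319 IH) (Lpr_at (f520254 IH) (Lpe (f461763 IH) (Lpn (LP (LK LD1_c14 LD2_c27 LD3_c31))))))
theorem f89657 : Led Lsl_et (LP (LK LD1_c22 LD2_c33 LD3_c15)) = (LP (LK LD1_c13 LD2_c17 LD3_c25)) :=
  Lre_e IH (LK LD1_c22 LD2_c33 LD3_c15) (LK LD1_c13 LD2_c17 LD3_c25) Lrfl Lrfl
theorem f522009 : Led Lsl_df (LP (LK LD1_c14 LD2_c27 LD3_c31)) = (LP (LK LD1_c22 LD2_c33 LD3_c15)) :=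
  Lgr Lrot132 (Lpe (f520323 IH) (Lpe (K33.f486888 IH) (Lpr_gf (K40.f522005 IH) (Lpe (K8.f95146 IH) (Lpr_dt (K34.f17318 IH) (Lpr_gf (K42.f206563 IH) (Lpe (K4.f89317 IH) (Lpr_et (K4.f17946 IH) (Lpe (K37.f17897 IH) (Lpe (f89657 IH) (Lpn (LP (LK LD1_c22 LD2_c33 LD3_c15)))))))))))))
theorem f461760 : Led Lsl_dt (LP (LK LD1_c3 LD2_c49 LD3_c37)) = (LP (LK LD1_c7 LD2_c40 LD3_c9)) :=
  Lre_d IH (LK LD1_c3 LD2_c49 LD3_c37) (LK LD1_c7 LD2_c40 LD3_c9) Lrfl Lrfl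
theorem f460965 : Led Lsl_ef (LP (LK LD1_c22 LD2_c33 LD3_c11)) = (LP (LK LD1_c13 LD2_c22 LD3_c45)) :=
  Lgr Lrot21 (Lpr_ft (K4.f17887 IH) (Lpr_et (K4.f17918 IH) (Lpe (K38.f111489 IH) (Lpr_et (K28.f92459 IH) (Lpr_ft (K28.f460956 IH) (Lpn (LP (LK LD1_c13 LD2_c22 LD3_c45))))))))
theorem f460962 : Led Lsl_dt (LP (LK LD1_c13 LD2_c22 LD3_c45)) = (LP (LK LD1_c22 LD2_c40 LD3_c18)) :=
  Lre_d IH (LK LD1_c13 LD2_c22 LD3_c45) (LK LD1_c22 LD2_c40 LD3_c18) Lrfl Lrfl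
theorem f109315 : Led Lsl_bt (LP (LK LD1_c3 LD2_c45 LD3_c44)) = (LP (LK LD1_c7 LD2_c32 LD3_c5)) :=
  Lre_b IH (LK LD1_c3 LD2_c45 LD3_c44) (LK LD1_c7 LD2_c32 LD3_c5) Lrfl Lrfl
theorem f460580 : Led Lsl_ft (LP (LK LD1_c7 LD2_c32 LD3_c5)) = (LP (LK LD1_c13 LD2_c22 LD3_c46)) :=
  Lgr Lrot75 (Lpe (f109315 IH) (Lpr_ff (K24.f460576 IH) (Lpe (K29.f460529 IH) (Lpn (LP (LK LD1_c13 LD2_c22 LD3_c46))))))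
theorem f461772 : Led Lsl_gt (LP (LK LD1_c7 LD2_c32 LD3_c5)) = (LP (LK LD1_c14 LD2_c12 LD3_c40)) :=
  Lre_g IH (LK LD1_c7 LD2_c32 LD3_c5) (LK LD1_c14 LD2_c12 LD3_c40) Lrfl Lrfl
theorem f461773 : Led Lsl_gt (LP (LK LD1_c14 LD2_c12 LD3_c40)) = (LP (LK LD1_c22 LD2_c40 LD3_c18)) :=
  Lgr Lrot46 (Lpe (f461772 IH) (Lpr_ft (f460580 IH) (Lpr_at (K28.f460987 IH) (Lpn (LP (LK LD1_c22 LD2_c40 LD3_c18))))))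
theorem f522015 : Led Lsl_dt (LP (LK LD1_c14 LD2_c27 LD3_c33)) = (LP (LK LD1_c14 LD2_c12 LD3_c40)) :=
  Lgr Lrot171 (Lpe (f461745 IH) (Lpe (K33.f461728 IH) (Lpr_dt (f461760 IH) (Lpe (f461763 IH) (Lpr_df (f522009 IH) (Lpr_et (f89657 IH) (Lpe (K37.f111810 IH) (Lpr_ef (f460965 IH) (Lpr_dt (f460962 IH) (Lpe (f461773 IH) (Lpn (LP (LK LD1_c14 LD2_c12 LD3_c40)))))))))))))
theorem f522017 : Led Lsl_df (LP (LK LD1_c14 LD2_c27 LD3_c33)) = (LP (LK LD1_c14 LD2_c12 LD3_c40)) :=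
  Lgr Lrot38 (Lpr_dt (f522015 IH) (Lpn (LP (LK LD1_c14 LD2_c12 LD3_c40))))
theorem f757573 : Led Lsl_at (LP (LK LD1_c22 LD2_c40 LD3_c20)) = (LP (LK LD1_c14 LD2_c12 LD3_c40)) :=
  Lgr Lrot51 (Lpr_df (f664236 IH) (Lpr_af (f757569 IH) (Lpr_df (f522017 IH) (Lpn (LP (LK LD1_c14 LD2_c12 LD3_c40))))))
theorem f92436 : Led Lsl_gt (LP (LK LD1_c14 LD2_c12 LD3_c41)) = (LP (LK LD1_c7 LD2_c32 LD3_c5)) :=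
  Lre_g IH (LK LD1_c14 LD2_c12 LD3_c41) (LK LD1_c7 LD2_c32 LD3_c5) Lrfl Lrfl
theorem f757577 : Led Lsl_ff (LP (LK LD1_c22 LD2_c40 LD3_c20)) = (LP (LK LD1_c14 LD2_c12 LD3_c41)) :=
  Lgr Lrot52 (Lpr_at (f757573 IH) (Lpe (f461772 IH) (Lpe (f92436 IH) (Lpn (LP (LK LD1_c14 LD2_c12 LD3_c41))))))
theorem f757581 : Led Lsl_ft (LP (LK LD1_c22 LD2_c40 LD3_c20)) = (LP (LK LD1_c14 LD2_c12 LD3_c41)) :=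
  Lgr Lrot48 (Lpr_ff (f757577 IH) (Lpn (LP (LK LD1_c14 LD2_c12 LD3_c41))))
theorem f460944 : Led Lsl_gt (LP (LK LD1_c13 LD2_c22 LD3_c46)) = (LP (LK LD1_c22 LD2_c40 LD3_c19)) :=
  Lre_g IH (LK LD1_c13 LD2_c22 LD3_c46) (LK LD1_c22 LD2_c40 LD3_c19) Lrfl Lrfl
theorem f757585 : Led Lsl_af (LP (LK LD1_c22 LD2_c40 LD3_c19)) = (LP (LK LD1_c14 LD2_c12 LD3_c41)) :=
  Lgr Lrot31 (Lpe (f460944 IH) (Lpe (f460943 IH) (Lpr_ft (f757581 IH) (Lpn (LP (LK LD1_c14 LD2_c12 LD3_c41))))))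
theorem f757575 : Led Lsl_af (LP (LK LD1_c22 LD2_c40 LD3_c20)) = (LP (LK LD1_c14 LD2_c12 LD3_c40)) :=
  Lgr Lrot0 (Lpr_at (f757573 IH) (Lpn (LP (LK LD1_c14 LD2_c12 LD3_c40))))
theorem f757589 : Led Lsl_ft (LP (LK LD1_c22 LD2_c40 LD3_c19)) = (LP (LK LD1_c14 LD2_c12 LD3_c40)) :=
  Lgr Lrot101 (Lpr_af (f757585 IH) (Lpe (f757581 IH) (Lpr_af (f757575 IH) (Lpn (LP (LK LD1_c14 LD2_c12 LD3_c40))))))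
theorem f757593 : Led Lsl_ff (LP (LK LD1_c22 LD2_c40 LD3_c19)) = (LP (LK LD1_c14 LD2_c12 LD3_c40)) :=
  Lgr Lrot3 (Lpr_ft (f757589 IH) (Lpn (LP (LK LD1_c14 LD2_c12 LD3_c40))))
theorem f757595 : Led Lsl_dt (LP (LK LD1_c22 LD2_c40 LD3_c19)) = (LP (LK LD1_c14 LD2_c42 LD3_c40)) :=
  Lgr Lrot60 (Lpr_ff (f757593 IH) (Lpe (f522015 IH) (Lpe (f757563 IH) (Lpn (LP (LK LD1_c14 LD2_c42 LD3_c40))))))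
theorem f499041 : Led Lsl_dt (LP (LK LD1_c16 LD2_c30 LD3_c31)) = (LP (LK LD1_c8 LD2_c49 LD3_c50)) :=
  Lre_d IH (LK LD1_c16 LD2_c30 LD3_c31) (LK LD1_c8 LD2_c49 LD3_c50) Lrfl Lrfl
theorem f552943 : Led Lsl_bt (LP (LK LD1_c6 LD2_c14 LD3_c53)) = (LP (LK LD1_c12 LD2_c8 LD3_c2)) :=
  Lre_b IH (LK LD1_c6 LD2_c14 LD3_c53) (LK LD1_c12 LD2_c8 LD3_c2) Lrfl Lrfl
theorem f552944 : Led Lsl_ef (LP (LK LD1_c13 LD2_c30 LD3_c50)) = (LP (LK LD1_c12 LD2_c8 LD3_c2)) :=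
  Lgr Lrot29 (Lpr_bt (K41.f108050 IH) (Lpr_et (K39.f552941 IH) (Lpr_bt (f552943 IH) (Lpn (LP (LK LD1_c12 LD2_c8 LD3_c2))))))
theorem f552966 : Led Lsl_at (LP (LK LD1_c21 LD2_c14 LD3_c17)) = (LP (LK LD1_c12 LD2_c8 LD3_c2)) :=
  Lre_a IH (LK LD1_c21 LD2_c14 LD3_c17) (LK LD1_c12 LD2_c8 LD3_c2) Lrfl Lrfl
theorem f757399 : Led Lsl_ef (LP (LK LD1_c21 LD2_c14 LD3_c17)) = (LP (LK LD1_c22 LD2_c47 LD3_c19)) :=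
  Lgr Lrot20 (Lpr_at (f552966 IH) (Lpe (f552944 IH) (Lpr_at (f757393 IH) (Lpn (LP (LK LD1_c22 LD2_c47 LD3_c19))))))
theorem f757401 : Led Lsl_et (LP (LK LD1_c21 LD2_c14 LD3_c17)) = (LP (LK LD1_c22 LD2_c47 LD3_c19)) :=
  Lgr Lrot87 (Lpr_ef (f757399 IH) (Lpn (LP (LK LD1_c22 LD2_c47 LD3_c19))))
theorem f606779 : Led Lsl_dt (LP (LK LD1_c21 LD2_c14 LD3_c17)) = (LP (LK LD1_c12 LD2_c8 LD3_c0)) :=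
  Lre_d IH (LK LD1_c21 LD2_c14 LD3_c17) (LK LD1_c12 LD2_c8 LD3_c0) Lrfl Lrfl
theorem f145226 : Led Lsl_et (LP (LK LD1_c7 LD2_c6 LD3_c20)) = (LP (LK LD1_c13 LD2_c27 LD3_c52)) :=
  Lre_e IH (LK LD1_c7 LD2_c6 LD3_c20) (LK LD1_c13 LD2_c27 LD3_c52) Lrfl Lrfl
theorem f757403 : Led Lsl_gt (LP (LK LD1_c12 LD2_c8 LD3_c0)) = (LP (LK LD1_c8 LD2_c49 LD3_c36)) :=
  Lgr Lrot112 (Lpe (f606779 IH) (Lpr_et (f757401 IH) (Lpe (K41.f145220 IH) (Lpe (f145226 IH) (Lpr_dt (K44.f145199 IH) (Lpe (K43.f568448 IH) (Lpr_df (K40.f552205 IH) (Lpr_gf (K40.f548763 IH) (Lpr_ef (K43.f425849 IH) (Lpr_dt (K43.f161547 IH) (Lpn (LP (LK LD1_c8 LD2_c49 LD3_c36)))))))))))))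
theorem f499021 : Led Lsl_ft (LP (LK LD1_c8 LD2_c49 LD3_c50)) = (LP (LK LD1_c4 LD2_c26 LD3_c12)) :=
  Lre_f IH (LK LD1_c8 LD2_c49 LD3_c50) (LK LD1_c4 LD2_c26 LD3_c12) Lrfl Lrfl
theorem f757405 : Led Lsl_gf (LP (LK LD1_c12 LD2_c8 LD3_c0)) = (LP (LK LD1_c8 LD2_c49 LD3_c50)) :=
  Lgr Lrot47 (Lpr_gt (f757403 IH) (Lpe (K43.f499028 IH) (Lpe (f499021 IH) (Lpn (LP (LK LD1_c8 LD2_c49 LD3_c50))))))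
theorem f606773 : Led Lsl_dt (LP (LK LD1_c12 LD2_c8 LD3_c0)) = (LP (LK LD1_c21 LD2_c14 LD3_c17)) :=
  Lre_d IH (LK LD1_c12 LD2_c8 LD3_c0) (LK LD1_c21 LD2_c14 LD3_c17) Lrfl Lrfl
theorem f757599 : Led Lsl_cf (LP (LK LD1_c21 LD2_c14 LD3_c17)) = (LP (LK LD1_c14 LD2_c42 LD3_c40)) :=
  Lgr Lrot14 (Lpe (f606773 IH) (Lpr_gf (f757405 IH) (Lpe (f499041 IH) (Lpr_gf (K55.f575300 IH) (Lpe (K35.f513174 IH) (Lpr_gt (K35.f460955 IH) (Lpr_dt (f460942 IH) (Lpr_gt (f460944 IH) (Lpr_dt (f757595 IH) (Lpn (LP (LK LD1_c14 LD2_c42 LD3_c40))))))))))))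
theorem f804690 : Led Lsl_gf (LP (LK LD1_c24 LD2_c12 LD3_c55)) = (LP (LK LD1_c21 LD2_c14 LD3_c17)) :=
  Lgr Lrot129 (Lpe (f616201 IH) (Lpr_bt (f616200 IH) (Lpr_gt (f804573 IH) (Lpe (K37.f461915 IH) (Lpr_ct (K29.f457783 IH) (Lpr_gt (K48.f657990 IH) (Lpe (K57.f657999 IH) (Lpr_bt (K57.f520463 IH) (Lpr_gt (K57.f521972 IH) (Lpe (f757599 IH) (Lpn (LP (LK LD1_c21 LD2_c14 LD3_c17)))))))))))))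
theorem f804691 : Led Lsl_gt (LP (LK LD1_c21 LD2_c14 LD3_c17)) = (LP (LK LD1_c24 LD2_c12 LD3_c55)) :=
  Leop (Lpr_gf (f804690 IH) (Lpn (LP (LK LD1_c21 LD2_c14 LD3_c17))))
theorem seed_1681 : LEOK LG_g (LK LD1_c21 LD2_c14 LD3_c17) :=
  Leoe_g (LK LD1_c21 LD2_c14 LD3_c17) (f804691 IH)
theorem f485370 : Led Lsl_et (LP (LK LD1_c3 LD2_c50 LD3_c36)) = (LP (LK LD1_c7 LD2_c42 LD3_c18)) :=
  Lre_e IH (LK LD1_c3 LD2_c50 LD3_c36) (LK LD1_c7 LD2_c42 LD3_c18) Lrfl Lrfl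
theorem f136674 : Led Lsl_dt (LP (LK LD1_c3 LD2_c50 LD3_c36)) = (LP (LK LD1_c7 LD2_c42 LD3_c17)) :=
  Lre_d IH (LK LD1_c3 LD2_c50 LD3_c36) (LK LD1_c7 LD2_c42 LD3_c17) Lrfl Lrfl
theorem f151611 : Led Lsl_gt (LP (LK LD1_c7 LD2_c42 LD3_c15)) = (LP (LK LD1_c14 LD2_c31 LD3_c9)) :=
  Lre_g IH (LK LD1_c7 LD2_c42 LD3_c15) (LK LD1_c14 LD2_c31 LD3_c9) Lrfl Lrfl
theorem f745728 : Led Lsl_af (LP (LK LD1_c7 LD2_c42 LD3_c17)) = (LP (LK LD1_c14 LD2_c30 LD3_c49)) :=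
  Lgr Lrot45 (Lpr_ft (K61.f745532 IH) (Lpe (K61.f745539 IH) (Lpr_ft (K61.f745726 IH) (Lpn (LP (LK LD1_c14 LD2_c30 LD3_c49))))))
theorem f745734 : Led Lsl_gt (LP (LK LD1_c14 LD2_c31 LD3_c9)) = (LP (LK LD1_c7 LD2_c42 LD3_c17)) :=
  Lgr Lrot46 (Lpe (f151611 IH) (Lpr_ft (K61.f745726 IH) (Lpe (f745728 IH) (Lpn (LP (LK LD1_c7 LD2_c42 LD3_c17))))))
theorem f136684 : Led Lsl_et (LP (LK LD1_c0 LD2_c52 LD3_c49)) = (LP (LK LD1_c1 LD2_c52 LD3_c11)) :=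
  Lre_e IH (LK LD1_c0 LD2_c52 LD3_c49) (LK LD1_c1 LD2_c52 LD3_c11) Lrfl Lrfl
theorem f151612 : Led Lsl_et (LP (LK LD1_c22 LD2_c36 LD3_c5)) = (LP (LK LD1_c13 LD2_c19 LD3_c34)) :=
  Lre_e IH (LK LD1_c22 LD2_c36 LD3_c5) (LK LD1_c13 LD2_c19 LD3_c34) Lrfl Lrfl
theorem f151613 : Led Lsl_df (LP (LK LD1_c14 LD2_c31 LD3_c9)) = (LP (LK LD1_c22 LD2_c36 LD3_c5)) :=
  Lgr Lrot132 (Lpe (f151611 IH) (Lpe (K48.f151610 IH) (Lpe (K48.f12240 IH) (Lpe (f136684 IH) (Lpr_dt (K8.f64340 IH) (Lpe (K24.f12295 IH) (Lpr_df (K24.f151603 IH) (Lpr_et (K43.f136942 IH) (Lpe (K43.f137162 IH) (Lpe (f151612 IH) (Lpn (LP (LK LD1_c22 LD2_c36 LD3_c5)))))))))))))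
theorem f481904 : Led Lsl_bt (LP (LK LD1_c14 LD2_c1 LD3_c22)) = (LP (LK LD1_c7 LD2_c24 LD3_c48)) :=
  Lre_b IH (LK LD1_c14 LD2_c1 LD3_c22) (LK LD1_c7 LD2_c24 LD3_c48) Lrfl Lrfl
theorem f491955 : Led Lsl_bt (LP (LK LD1_c7 LD2_c3 LD3_c5)) = (LP (LK LD1_c13 LD2_c22 LD3_c23)) :=
  Lre_b IH (LK LD1_c7 LD2_c3 LD3_c5) (LK LD1_c13 LD2_c22 LD3_c23) Lrfl Lrfl
theorem f656345 : Led Lsl_ff (LP (LK LD1_c14 LD2_c1 LD3_c22)) = (LP (LK LD1_c13 LD2_c22 LD3_c23)) :=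
  Lgr Lrot25 (Lpr_bt (f481904 IH) (Lpr_ft (K48.f656343 IH) (Lpr_bt (f491955 IH) (Lpn (LP (LK LD1_c13 LD2_c22 LD3_c23))))))
theorem f656400 : Led Lsl_ft (LP (LK LD1_c14 LD2_c1 LD3_c22)) = (LP (LK LD1_c13 LD2_c22 LD3_c23)) :=
  Lgr Lrot48 (Lpr_ff (f656345 IH) (Lpn (LP (LK LD1_c13 LD2_c22 LD3_c23))))
theorem f656483 : Led Lsl_af (LP (LK LD1_c13 LD2_c19 LD3_c34)) = (LP (LK LD1_c7 LD2_c3 LD3_c3)) :=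
  Lgr Lrot31 (Lpr_gf (K43.f426722 IH) (Lpr_gf (K43.f575248 IH) (Lpr_ft (f656337 IH) (Lpn (LP (LK LD1_c7 LD2_c3 LD3_c3))))))
theorem f151618 : Led Lsl_et (LP (LK LD1_c13 LD2_c19 LD3_c34)) = (LP (LK LD1_c22 LD2_c36 LD3_c5)) :=
  Lre_e IH (LK LD1_c13 LD2_c19 LD3_c34) (LK LD1_c22 LD2_c36 LD3_c5) Lrfl Lrfl
theorem f491961 : Led Lsl_et (LP (LK LD1_c13 LD2_c22 LD3_c23)) = (LP (LK LD1_c7 LD2_c3 LD3_c3)) :=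
  Lre_e IH (LK LD1_c13 LD2_c22 LD3_c23) (LK LD1_c7 LD2_c3 LD3_c3) Lrfl Lrfl
theorem f656489 : Led Lsl_at (LP (LK LD1_c22 LD2_c36 LD3_c5)) = (LP (LK LD1_c13 LD2_c22 LD3_c23)) :=
  Lgr Lrot80 (Lpe (f151618 IH) (Lpr_af (f656483 IH) (Lpe (f491961 IH) (Lpn (LP (LK LD1_c13 LD2_c22 LD3_c23))))))

end

end K62

end

end Cfsg.Agent.Helper28.S1692
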