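import Cfsg.Agent.Lib.Helper28.S1692.Seeds62

set_option autoImplicit false
set_option maxRecDepth 100000
set_option linter.all false

namespace Cfsg.Agent.Helper28.S1692

open Cfsg.Agent.Helper28
open Cfsg.Spor.ON (Gen)

noncomputable section

namespace K63
abbrev LD1_c0 := D1.c0
abbrev LD1_c1 := D1.c1
abbrev LD1_c2 := D1.c2
abbrev LD1_c3 := D1.c3
abbrev LD1_c4 := D1.c4
abbrev LD1_c5 := D1.c5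
abbrev LD1_c6 := D1.c6
abbrev LD1_c7 := D1.c7
abbrev LD1_c8 := D1.c8
abbrev LD1_c9 := D1.c9
abbrev LD1_c10 := D1.c10
abbrev LD1_c11 := D1.c11
abbrev LD1_c12 := D1.c12
abbrev LD1_c13 := D1.c13
abbrev LD1_c14 := D1.c14
abbrev LD1_c15 := D1.c15
abbrev LD1_c16 := D1.c16
abbrev LD1_c17 := D1.c17
abbrev LD1_c18 := D1.c18
abbrev LD1_c19 := D1.c19
abbrev LD1_c20 := D1.c20
abbrev LD1_c21 := D1.c21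
abbrev LD1_c22 := D1.c22
abbrev LD1_c23 := D1.c23
abbrev LD1_c24 := D1.c24
abbrev LD1_c25 := D1.c25
abbrev LD1_c26 := D1.c26
abbrev LD1_c27 := D1.c27
abbrev LD1_c28 := D1.c28
abbrev LD1_c29 := D1.c29
abbrev LD1_c30 := D1.c30
abbrev LD1_c31 := D1.c31
abbrev LD1_c32 := D1.c32
abbrev LD2_c0 := D2.c0
abbrev LD2_c1 := D2.c1
abbrev LD2_c2 := D2.c2
abbrev LD2_c3 := D2.c3
abbrev LD2_c4 := D2.c4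
abbrev LD2_c5 := D2.c5
abbrev LD2_c6 := D2.c6
abbrev LD2_c7 := D2.c7
abbrev LD2_c8 := D2.c8
abbrev LD2_c9 := D2.c9
abbrev LD2_c10 := D2.c10
abbrev LD2_c11 := D2.c11
abbrev LD2_c12 := D2.c12
abbrev LD2_c13 := D2.c13
abbrev LD2_c14 := D2.c14
abbrev LD2_c15 := D2.c15
abbrev LD2_c16 := D2.c16
abbrev LD2_c17 := D2.c17
abbrev LD2_c18 := D2.c18
abbrev LD2_c19 := D2.c19
abbrev LD2_c20 := D2.c20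
abbrev LD2_c21 := D2.c21
abbrev LD2_c22 := D2.c22
abbrev LD2_c23 := D2.c23
abbrev LD2_c24 := D2.c24
abbrev LD2_c25 := D2.c25
abbrev LD2_c26 := D2.c26
abbrev LD2_c27 := D2.c27
abbrev LD2_c28 := D2.c28
abbrev LD2_c29 := D2.c29
abbrev LD2_c30 := D2.c30
abbrev LD2_c31 := D2.c31
abbrev LD2_c32 := D2.c32
abbrev LD2_c33 := D2.c33
abbrev LD2_c34 := D2.c34
abbrev LD2_c35 := D2.c35
abbrev LD2_c36 := D2.c36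
abbrev LD2_c37 := D2.c37
abbrev LD2_c38 := D2.c38
abbrev LD2_c39 := D2.c39
abbrev LD2_c40 := D2.c40
abbrev LD2_c41 := D2.c41
abbrev LD2_c42 := D2.c42
abbrev LD2_c43 := D2.c43
abbrev LD2_c44 := D2.c44
abbrev LD2_c45 := D2.c45
abbrev LD2_c46 := D2.c46
abbrev LD2_c47 := D2.c47
abbrev LD2_c48 := D2.c48
abbrev LD2_c49 := D2.c49
abbrev LD2_c50 := D2.c50
abbrev LD2_c51 := D2.c51
abbrev LD2_c52 := D2.c52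
abbrev LD2_c53 := D2.c53
abbrev LD2_c54 := D2.c54
abbrev LD2_c55 := D2.c55
abbrev LD2_c56 := D2.c56
abbrev LD2_c57 := D2.c57
abbrev LD2_c58 := D2.c58
abbrev LD2_c59 := D2.c59
abbrev LD3_c0 := D3.c0
abbrev LD3_c1 := D3.c1
abbrev LD3_c2 := D3.c2
abbrev LD3_c3 := D3.c3
abbrev LD3_c4 := D3.c4
abbrev LD3_c5 := D3.c5
abbrev LD3_c6 := D3.c6
abbrev LD3_c7 := D3.c7
abbrev LD3_c8 := D3.c8
abbrev LD3_c9 := D3.c9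
abbrev LD3_c10 := D3.c10
abbrev LD3_c11 := D3.c11
abbrev LD3_c12 := D3.c12
abbrev LD3_c13 := D3.c13
abbrev LD3_c14 := D3.c14
abbrev LD3_c15 := D3.c15
abbrev LD3_c16 := D3.c16
abbrev LD3_c17 := D3.c17
abbrev LD3_c18 := D3.c18
abbrev LD3_c19 := D3.c19
abbrev LD3_c20 := D3.c20
abbrev LD3_c21 := D3.c21
abbrev LD3_c22 := D3.c22
abbrev LD3_c23 := D3.c23
abbrev LD3_c24 := D3.c24
abbrev LD3_c25 := D3.c25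
abbrev LD3_c26 := D3.c26
abbrev LD3_c27 := D3.c27
abbrev LD3_c28 := D3.c28
abbrev LD3_c29 := D3.c29
abbrev LD3_c30 := D3.c30
abbrev LD3_c31 := D3.c31
abbrev LD3_c32 := D3.c32
abbrev LD3_c33 := D3.c33
abbrev LD3_c34 := D3.c34
abbrev LD3_c35 := D3.c35
abbrev LD3_c36 := D3.c36
abbrev LD3_c37 := D3.c37
abbrev LD3_c38 := D3.c38
abbrev LD3_c39 := D3.c39
abbrev LD3_c40 := D3.c40
abbrev LD3_c41 := D3.c41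
abbrev LD3_c42 := D3.c42
abbrev LD3_c43 := D3.c43
abbrev LD3_c44 := D3.c44
abbrev LD3_c45 := D3.c45
abbrev LD3_c46 := D3.c46
abbrev LD3_c47 := D3.c47
abbrev LD3_c48 := D3.c48
abbrev LD3_c49 := D3.c49
abbrev LD3_c50 := D3.c50
abbrev LD3_c51 := D3.c51
abbrev LD3_c52 := D3.c52
abbrev LD3_c53 := D3.c53
abbrev LD3_c54 := D3.c54
abbrev LD3_c55 := D3.c55
abbrev LD3_c56 := D3.c56
abbrev LD3_c57 := D3.c57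
abbrev LD3_c58 := D3.c58
abbrev LD3_c59 := D3.c59
abbrev LD3_c60 := D3.c60
abbrev LD3_c61 := D3.c61
abbrev LG_g := Gen.g
abbrev Lsl_gt : Gen × Bool := sl_gt
alias Lfl_gt := fl_gt
alias Lpr_gt := pr_gt
abbrev Lsl_gf : Gen × Bool := sl_gf
alias Lfl_gf := fl_gf
alias Lpr_gf := pr_gf
alias Lre_g := re_g
alias Leoe_g := eoe_g
abbrev LG_a := Gen.a
abbrev Lsl_at : Gen × Bool := sl_at
alias Lfl_at := fl_at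
alias Lpr_at := pr_at
abbrev Lsl_af : Gen × Bool := sl_af
alias Lfl_af := fl_af
alias Lpr_af := pr_af
alias Lre_a := re_a
alias Leoe_a := eoe_a
abbrev LG_b := Gen.b
abbrev Lsl_bt : Gen × Bool := sl_bt
alias Lfl_bt := fl_bt
alias Lpr_bt := pr_bt
abbrev Lsl_bf : Gen × Bool := sl_bf
alias Lfl_bf := fl_bf
alias Lpr_bf := pr_bf
alias Lre_b := re_b
alias Leoe_b := eoe_b
abbrev LG_c := Gen.c
abbrev Lsl_ct : Gen × Bool := sl_ct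
alias Lfl_ct := fl_ct
alias Lpr_ct := pr_ct
abbrev Lsl_cf : Gen × Bool := sl_cf
alias Lfl_cf := fl_cf
alias Lpr_cf := pr_cf
alias Lre_c := re_c
alias Leoe_c := eoe_c
abbrev LG_d := Gen.d
abbrev Lsl_dt : Gen × Bool := sl_dt
alias Lfl_dt := fl_dt
alias Lpr_dt := pr_dt
abbrev Lsl_df : Gen × Bool := sl_df
alias Lfl_df := fl_df
alias Lpr_df := pr_df
alias Lre_d := re_d
alias Leoe_d := eoe_d
abbrev LG_e := Gen.e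
abbrev Lsl_et : Gen × Bool := sl_et
alias Lfl_et := fl_et
alias Lpr_et := pr_et
abbrev Lsl_ef : Gen × Bool := sl_ef
alias Lfl_ef := fl_ef
alias Lpr_ef := pr_ef
alias Lre_e := re_e
alias Leoe_e := eoe_e
abbrev LG_f := Gen.f
abbrev Lsl_ft : Gen × Bool := sl_ft
alias Lfl_ft := fl_ft
alias Lpr_ft := pr_ft
abbrev Lsl_ff : Gen × Bool := sl_ff
alias Lfl_ff := fl_ff
alias Lpr_ff := pr_ff
alias Lre_f := re_f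
alias Leoe_f := eoe_f
abbrev LK := Pt.mk
abbrev LQ : Type := Qt rels S
abbrev LP (p : Pt) : LQ := P p
abbrev Led (l : Gen × Bool) (c : LQ) : LQ := ed l c
abbrev LEOK (x : Gen) (p : Pt) : Prop := EntryOK rels S fwd inv o plet idx x p
alias Lpe := pe
alias Lpn := pn
alias Lgr := gr
alias Lpq := pq
alias Lpqs := pqs
alias Llr := lr
alias Leop := eop
alias Lefun := efun
alias Lecon := econ
theorem Lrfl {α : Sort _} {a : α} : a = a := rfl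
alias Lrot0 := rot0
alias Lrot1 := rot1
alias Lrot2 := rot2
alias Lrot3 := rot3
alias Lrot4 := rot4
alias Lrot5 := rot5
alias Lrot6 := rot6
alias Lrot7 := rot7
alias Lrot8 := rot8
alias Lrot9 := rot9
alias Lrot10 := rot10
alias Lrot11 := rot11
alias Lrot12 := rot12
alias Lrot13 := rot13
alias Lrot14 := rot14
alias Lrot15 := rot15
alias Lrot17 := rot17
alias Lrot18 := rot18
alias Lrot19 := rot19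
alias Lrot20 := rot20
alias Lrot21 := rot21
alias Lrot22 := rot22
alias Lrot23 := rot23
alias Lrot24 := rot24
alias Lrot25 := rot25
alias Lrot26 := rot26
alias Lrot27 := rot27
alias Lrot28 := rot28
alias Lrot29 := rot29
alias Lrot30 := rot30
alias Lrot31 := rot31
alias Lrot33 := rot33
alias Lrot34 := rot34
alias Lrot35 := rot35
alias Lrot36 := rot36
alias Lrot37 := rot37
alias Lrot38 := rot38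
alias Lrot39 := rot39
alias Lrot40 := rot40
alias Lrot42 := rot42
alias Lrot43 := rot43
alias Lrot44 := rot44
alias Lrot45 := rot45
alias Lrot46 := rot46
alias Lrot47 := rot47
alias Lrot48 := rot48
alias Lrot49 := rot49
alias Lrot50 := rot50
alias Lrot51 := rot51
alias Lrot52 := rot52
alias Lrot53 := rot53
alias Lrot54 := rot54
alias Lrot56 := rot56
alias Lrot57 := rot57
alias Lrot58 := rot58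
alias Lrot59 := rot59
alias Lrot60 := rot60
alias Lrot61 := rot61
alias Lrot62 := rot62
alias Lrot63 := rot63
alias Lrot64 := rot64
alias Lrot65 := rot65
alias Lrot66 := rot66
alias Lrot67 := rot67
alias Lrot68 := rot68
alias Lrot69 := rot69
alias Lrot70 := rot70
alias Lrot71 := rot71
alias Lrot72 := rot72
alias Lrot73 := rot73
alias Lrot74 := rot74
alias Lrot75 := rot75
alias Lrot76 := rot76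
alias Lrot77 := rot77
alias Lrot78 := rot78
alias Lrot79 := rot79
alias Lrot80 := rot80
alias Lrot81 := rot81
alias Lrot82 := rot82
alias Lrot83 := rot83
alias Lrot84 := rot84
alias Lrot86 := rot86
alias Lrot87 := rot87
alias Lrot88 := rot88
alias Lrot90 := rot90
alias Lrot91 := rot91
alias Lrot92 := rot92
alias Lrot93 := rot93
alias Lrot94 := rot94
alias Lrot95 := rot95
alias Lrot96 := rot96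
alias Lrot97 := rot97
alias Lrot99 := rot99
alias Lrot100 := rot100
alias Lrot101 := rot101
alias Lrot103 := rot103
alias Lrot104 := rot104
alias Lrot105 := rot105
alias Lrot107 := rot107
alias Lrot108 := rot108
alias Lrot109 := rot109
alias Lrot110 := rot110
alias Lrot111 := rot111
alias Lrot112 := rot112
alias Lrot113 := rot113
alias Lrot114 := rot114
alias Lrot115 := rot115
alias Lrot116 := rot116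
alias Lrot117 := rot117
alias Lrot118 := rot118
alias Lrot119 := rot119
alias Lrot122 := rot122
alias Lrot123 := rot123
alias Lrot124 := rot124
alias Lrot125 := rot125
alias Lrot126 := rot126
alias Lrot127 := rot127
alias Lrot128 := rot128
alias Lrot129 := rot129
alias Lrot130 := rot130
alias Lrot131 := rot131
alias Lrot132 := rot132
alias Lrot133 := rot133
alias Lrot134 := rot134
alias Lrot135 := rot135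
alias Lrot136 := rot136
alias Lrot137 := rot137
alias Lrot138 := rot138
alias Lrot139 := rot139
alias Lrot141 := rot141
alias Lrot142 := rot142
alias Lrot143 := rot143
alias Lrot144 := rot144
alias Lrot145 := rot145
alias Lrot146 := rot146
alias Lrot147 := rot147
alias Lrot149 := rot149
alias Lrot150 := rot150
alias Lrot151 := rot151
alias Lrot152 := rot152
alias Lrot153 := rot153
alias Lrot155 := rot155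
alias Lrot156 := rot156
alias Lrot158 := rot158
alias Lrot160 := rot160
alias Lrot162 := rot162
alias Lrot163 := rot163
alias Lrot164 := rot164
alias Lrot165 := rot165
alias Lrot166 := rot166
alias Lrot167 := rot167
alias Lrot168 := rot168
alias Lrot169 := rot169
alias Lrot170 := rot170
alias Lrot171 := rot171
alias Lrot173 := rot173
alias Lrot174 := rot174
alias Lrot178 := rot178
alias Lrot181 := rot181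
alias Lrot185 := rot185
alias Lrot186 := rot186
alias Lrot187 := rot187

section
variable (IH : IHT)
include IH

theorem f656491 : Led Lsl_af (LP (LK LD1_c22 LD2_c36 LD3_c5)) = (LP (LK LD1_c13 LD2_c22 LD3_c23)) :=
  Lgr Lrot0 (Lpr_at (K62.f656489 IH) (Lpn (LP (LK LD1_c13 LD2_c22 LD3_c23))))
theorem f785664 : Led Lsl_gf (LP (LK LD1_c22 LD2_c36 LD3_c5)) = (LP (LK LD1_c13 LD2_c19 LD3_c44)) :=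
  Lgr Lrot76 (Lpr_af (f656491 IH) (Lpe (K62.f656400 IH) (Lpr_gt (K60.f785662 IH) (Lpn (LP (LK LD1_c13 LD2_c19 LD3_c44))))))
theorem f501763 : Led Lsl_et (LP (LK LD1_c7 LD2_c1 LD3_c37)) = (LP (LK LD1_c13 LD2_c19 LD3_c44)) :=
  Lre_e IH (LK LD1_c7 LD2_c1 LD3_c37) (LK LD1_c13 LD2_c19 LD3_c44) Lrfl Lrfl
theorem f115919 : Led Lsl_dt (LP (LK LD1_c7 LD2_c1 LD3_c37)) = (LP (LK LD1_c13 LD2_c19 LD3_c43)) :=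
  Lre_d IH (LK LD1_c7 LD2_c1 LD3_c37) (LK LD1_c13 LD2_c19 LD3_c43) Lrfl Lrfl
def v21684 : LQ := Led Lsl_bt (LP (LK LD1_c7 LD2_c24 LD3_c44))
theorem f798686 : Led Lsl_bt (LP (LK LD1_c7 LD2_c24 LD3_c44)) = v21684 :=
  Lrfl
theorem f492015 : Led Lsl_ft (LP (LK LD1_c3 LD2_c52 LD3_c9)) = (LP (LK LD1_c7 LD2_c24 LD3_c44)) :=
  Lgr Lrot48 (Lpr_ff (K34.f492009 IH) (Lpn (LP (LK LD1_c7 LD2_c24 LD3_c44))))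
def v7594 : LQ := Led Lsl_dt (LP (LK LD1_c3 LD2_c52 LD3_c7))
theorem f667143 : Led Lsl_dt (LP (LK LD1_c3 LD2_c52 LD3_c7)) = v7594 :=
  Lrfl
theorem f667144 : Led Lsl_bf (LP (LK LD1_c3 LD2_c52 LD3_c9)) = v7594 :=
  Lgr Lrot93 (Lpr_dt (K32.f478426 IH) (Lpr_bt (K34.f492027 IH) (Lpr_dt (f667143 IH) (Lpn v7594))))
theorem f798689 : Led Lsl_ff v7594 = v21684 :=
  Lgr Lrot25 (Lpe (f667144 IH) (Lpr_ft (f492015 IH) (Lpr_bt (f798686 IH) (Lpn v21684))))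
theorem f667145 : Led Lsl_df (LP (LK LD1_c3 LD2_c52 LD3_c7)) = v7594 :=
  Lgr Lrot38 (Lpr_dt (f667143 IH) (Lpn v7594))
theorem f492287 : Led Lsl_ft (LP (LK LD1_c3 LD2_c52 LD3_c7)) = (LP (LK LD1_c7 LD2_c46 LD3_c5)) :=
  Lre_f IH (LK LD1_c3 LD2_c52 LD3_c7) (LK LD1_c7 LD2_c46 LD3_c5) Lrfl Lrfl
theorem f798690 : Led Lsl_dt (LP (LK LD1_c7 LD2_c46 LD3_c5)) = v21684 :=
  Lgr Lrot60 (Lpe (f492287 IH) (Lpr_df (f667145 IH) (Lpr_ff (f798689 IH) (Lpn v21684))))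
theorem f804692 : Led Lsl_gf (LP (LK LD1_c13 LD2_c19 LD3_c43)) = v21684 :=
  Lgr Lrot145 (Lpe (f115919 IH) (Lpr_et (f501763 IH) (Lpe (f785664 IH) (Lpe (K62.f151613 IH) (Lpr_gt (K62.f745734 IH) (Lpe (K62.f136674 IH) (Lpr_et (K62.f485370 IH) (Lpr_gt (K62.f804573 IH) (Lpe (K34.f492282 IH) (Lpr_dt (f798690 IH) (Lpn v21684)))))))))))
theorem f804693 : Led Lsl_bt (LP (LK LD1_c22 LD2_c36 LD3_c10)) = (LP (LK LD1_c13 LD2_c19 LD3_c43)) :=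
  Lre_b IH (LK LD1_c22 LD2_c36 LD3_c10) (LK LD1_c13 LD2_c19 LD3_c43) Lrfl Lrfl
theorem f466974 : Led Lsl_bt (LP (LK LD1_c7 LD2_c48 LD3_c13)) = (LP (LK LD1_c3 LD2_c53 LD3_c20)) :=
  Lre_b IH (LK LD1_c7 LD2_c48 LD3_c13) (LK LD1_c3 LD2_c53 LD3_c20) Lrfl Lrfl
theorem f466975 : Led Lsl_ct (LP (LK LD1_c7 LD2_c48 LD3_c13)) = (LP (LK LD1_c14 LD2_c43 LD3_c32)) :=
  Lre_c IH (LK LD1_c7 LD2_c48 LD3_c13) (LK LD1_c14 LD2_c43 LD3_c32) Lrfl Lrfl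
theorem f474344 : Led Lsl_gt (LP (LK LD1_c24 LD2_c29 LD3_c6)) = (LP (LK LD1_c14 LD2_c43 LD3_c32)) :=
  Lre_g IH (LK LD1_c24 LD2_c29 LD3_c6) (LK LD1_c14 LD2_c43 LD3_c32) Lrfl Lrfl
theorem f804694 : Led Lsl_ct (LP (LK LD1_c22 LD2_c36 LD3_c10)) = (LP (LK LD1_c24 LD2_c29 LD3_c6)) :=
  Lgr Lrot64 (Lpr_bt (f804693 IH) (Lpr_gf (f804692 IH) (Lpe (f798686 IH) (Lpr_ct (K29.f474737 IH) (Lpe (K33.f483010 IH) (Lpe (K33.f441422 IH) (Lpe (K29.f474337 IH) (Lpe (f466974 IH) (Lpr_ct (f466975 IH) (Lpe (f474344 IH) (Lpn (LP (LK LD1_c24 LD2_c29 LD3_c6)))))))))))))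
theorem f804695 : Led Lsl_ct (LP (LK LD1_c22 LD2_c36 LD3_c10)) = (LP (LK LD1_c24 LD2_c29 LD3_c6)) :=
  Leop (Lpe (f804694 IH) (Lpn (LP (LK LD1_c22 LD2_c36 LD3_c10))))
theorem seed_1682 : LEOK LG_c (LK LD1_c22 LD2_c36 LD3_c10) :=
  Leoe_c (LK LD1_c22 LD2_c36 LD3_c10) (f804695 IH)
def v22211 : LQ := Led Lsl_gf (LP (LK LD1_c7 LD2_c32 LD3_c48))
theorem f804788 : Led Lsl_gf (LP (LK LD1_c7 LD2_c32 LD3_c48)) = v22211 :=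
  Lrfl
theorem f93639 : Led Lsl_et (LP (LK LD1_c14 LD2_c13 LD3_c3)) = (LP (LK LD1_c7 LD2_c32 LD3_c19)) :=
  Lre_e IH (LK LD1_c14 LD2_c13 LD3_c3) (LK LD1_c7 LD2_c32 LD3_c19) Lrfl Lrfl
theorem f804790 : Led Lsl_dt (LP (LK LD1_c14 LD2_c13 LD3_c3)) = v22211 :=
  Lgr Lrot136 (Lpr_et (f93639 IH) (Lpe (K51.f93632 IH) (Lpe (K51.f93631 IH) (Lpr_dt (K3.f65700 IH) (Lpr_gf (K5.f93620 IH) (Lpe (K1.f62804 IH) (Lpe (K3.f92648 IH) (Lpe (K5.f92680 IH) (Lpr_dt (K5.f92681 IH) (Lpr_gf (f804788 IH) (Lpn v22211)))))))))))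
theorem f804791 : Led Lsl_df (LP (LK LD1_c14 LD2_c13 LD3_c3)) = v22211 :=
  Lgr Lrot38 (Lpr_dt (f804790 IH) (Lpn v22211))
theorem f778502 : Led Lsl_ft (LP (LK LD1_c7 LD2_c0 LD3_c30)) = (LP (LK LD1_c12 LD2_c45 LD3_c32)) :=
  Lgr Lrot48 (Lpr_ff (K61.f778493 IH) (Lpn (LP (LK LD1_c12 LD2_c45 LD3_c32))))
theorem f778488 : Led Lsl_dt (LP (LK LD1_c12 LD2_c45 LD3_c32)) = (LP (LK LD1_c21 LD2_c52 LD3_c50)) :=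
  Lre_d IH (LK LD1_c12 LD2_c45 LD3_c32) (LK LD1_c21 LD2_c52 LD3_c50) Lrfl Lrfl
theorem f778510 : Led Lsl_ff (LP (LK LD1_c13 LD2_c17 LD3_c47)) = (LP (LK LD1_c21 LD2_c52 LD3_c50)) :=
  Lgr Lrot19 (Lpr_dt (K5.f126429 IH) (Lpr_ft (f778502 IH) (Lpr_dt (f778488 IH) (Lpn (LP (LK LD1_c21 LD2_c52 LD3_c50))))))
theorem f804789 : Led Lsl_gt (LP (LK LD1_c21 LD2_c52 LD3_c50)) = v22211 :=
  Lgr Lrot5 (Lpe (f778510 IH) (Lpr_at (K6.f126432 IH) (Lpr_gf (f804788 IH) (Lpn v22211))))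
theorem f511444 : Led Lsl_ct (LP (LK LD1_c6 LD2_c39 LD3_c51)) = (LP (LK LD1_c3 LD2_c18 LD3_c1)) :=
  Lre_c IH (LK LD1_c6 LD2_c39 LD3_c51) (LK LD1_c3 LD2_c18 LD3_c1) Lrfl Lrfl
theorem f66219 : Led Lsl_gt (LP (LK LD1_c3 LD2_c18 LD3_c1)) = (LP (LK LD1_c6 LD2_c36 LD3_c0)) :=
  Lre_g IH (LK LD1_c3 LD2_c18 LD3_c1) (LK LD1_c6 LD2_c36 LD3_c0) Lrfl Lrfl
theorem f109796 : Led Lsl_dt (LP (LK LD1_c6 LD2_c36 LD3_c0)) = (LP (LK LD1_c12 LD2_c38 LD3_c7)) :=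
  Lre_d IH (LK LD1_c6 LD2_c36 LD3_c0) (LK LD1_c12 LD2_c38 LD3_c7) Lrfl Lrfl
theorem f109797 : Led Lsl_gt (LP (LK LD1_c12 LD2_c38 LD3_c7)) = (LP (LK LD1_c6 LD2_c39 LD3_c57)) :=
  Lre_g IH (LK LD1_c12 LD2_c38 LD3_c7) (LK LD1_c6 LD2_c39 LD3_c57) Lrfl Lrfl
def v19225 : LQ := Led Lsl_dt (LP (LK LD1_c6 LD2_c39 LD3_c57))
theorem f778683 : Led Lsl_dt (LP (LK LD1_c6 LD2_c39 LD3_c57)) = v19225 :=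
  Lrfl
theorem f804793 : Led Lsl_cf (LP (LK LD1_c14 LD2_c13 LD3_c3)) = v19225 :=
  Lgr Lrot14 (Lpr_df (f804791 IH) (Lpe (f804789 IH) (Lpe (f778488 IH) (Lpe (K61.f651126 IH) (Lpr_ct (f511444 IH) (Lpr_gt (f66219 IH) (Lpr_dt (f109796 IH) (Lpr_gt (f109797 IH) (Lpr_dt (f778683 IH) (Lpn v19225))))))))))
def v22169 : LQ := Led Lsl_ct (LP (LK LD1_c7 LD2_c32 LD3_c19))
theorem f801752 : Led Lsl_ct (LP (LK LD1_c7 LD2_c32 LD3_c19)) = v22169 :=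
  Lrfl
theorem f778684 : Led Lsl_df (LP (LK LD1_c6 LD2_c39 LD3_c57)) = v19225 :=
  Lgr Lrot38 (Lpr_dt (f778683 IH) (Lpn v19225))
theorem f63997 : Led Lsl_gt (LP (LK LD1_c6 LD2_c39 LD3_c57)) = (LP (LK LD1_c3 LD2_c18 LD3_c3)) :=
  Lre_g IH (LK LD1_c6 LD2_c39 LD3_c57) (LK LD1_c3 LD2_c18 LD3_c3) Lrfl Lrfl
theorem f443230 : Led Lsl_et (LP (LK LD1_c1 LD2_c35 LD3_c32)) = (LP (LK LD1_c0 LD2_c44 LD3_c20)) :=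
  Lre_e IH (LK LD1_c1 LD2_c35 LD3_c32) (LK LD1_c0 LD2_c44 LD3_c20) Lrfl Lrfl
theorem f62958 : Led Lsl_et (LP (LK LD1_c3 LD2_c1 LD3_c43)) = (LP (LK LD1_c6 LD2_c10 LD3_c13)) :=
  Lre_e IH (LK LD1_c3 LD2_c1 LD3_c43) (LK LD1_c6 LD2_c10 LD3_c13) Lrfl Lrfl
def v16993 : LQ := Led Lsl_gt (LP (LK LD1_c6 LD2_c10 LD3_c13))
theorem f754057 : Led Lsl_gt (LP (LK LD1_c6 LD2_c10 LD3_c13)) = v16993 :=
  Lrfl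
theorem f778689 : Led Lsl_ef v16993 = v19225 :=
  Lgr Lrot17 (Lpe (f754057 IH) (Lpe (f62958 IH) (Lpr_dt (K3.f62957 IH) (Lpr_gf (K2.f62929 IH) (Lpe (K3.f65245 IH) (Lpe (K1.f62195 IH) (Lpe (f443230 IH) (Lpr_dt (K60.f66214 IH) (Lpe (f63997 IH) (Lpr_df (f778684 IH) (Lpn v19225)))))))))))
theorem f778690 : Led Lsl_et v16993 = v19225 :=
  Lgr Lrot87 (Lpr_ef (f778689 IH) (Lpn v19225))
theorem f804794 : v22169 = v16993 :=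
  (Llr Lrot15 (Lpe (f801752 IH) (Lpe (f93639 IH) (Lpr_cf (f804793 IH) (Lpe (f778690 IH) (Lpn v16993)))))).symm
theorem f63480 : Led Lsl_ft (LP (LK LD1_c6 LD2_c10 LD3_c13)) = (LP (LK LD1_c12 LD2_c1 LD3_c20)) :=
  Lre_f IH (LK LD1_c6 LD2_c10 LD3_c13) (LK LD1_c12 LD2_c1 LD3_c20) Lrfl Lrfl
theorem f63479 : Led Lsl_at (LP (LK LD1_c12 LD2_c1 LD3_c20)) = (LP (LK LD1_c6 LD2_c11 LD3_c4)) :=
  Lre_a IH (LK LD1_c12 LD2_c1 LD3_c20) (LK LD1_c6 LD2_c11 LD3_c4) Lrfl Lrfl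
theorem f754058 : Led Lsl_gf (LP (LK LD1_c6 LD2_c11 LD3_c4)) = v16993 :=
  Lgr Lrot76 (Lpe (f63479 IH) (Lpe (f63480 IH) (Lpr_gt (f754057 IH) (Lpn v16993))))
theorem f63377 : Led Lsl_ft (LP (LK LD1_c6 LD2_c11 LD3_c4)) = (LP (LK LD1_c3 LD2_c2 LD3_c8)) :=
  Lre_f IH (LK LD1_c6 LD2_c11 LD3_c4) (LK LD1_c3 LD2_c2 LD3_c8) Lrfl Lrfl
theorem f63378 : Led Lsl_cf (LP (LK LD1_c6 LD2_c11 LD3_c4)) = (LP (LK LD1_c7 LD2_c41 LD3_c33)) :=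
  Lgr Lrot108 (Lpr_ft (f63377 IH) (Lpr_ct (K2.f63358 IH) (Lpr_ft (K1.f63239 IH) (Lpn (LP (LK LD1_c7 LD2_c41 LD3_c33))))))
theorem f63476 : Led Lsl_ct (LP (LK LD1_c6 LD2_c11 LD3_c4)) = (LP (LK LD1_c7 LD2_c41 LD3_c33)) :=
  Lgr Lrot59 (Lpr_cf (f63378 IH) (Lpn (LP (LK LD1_c7 LD2_c41 LD3_c33))))
theorem f63478 : Led Lsl_ct (LP (LK LD1_c24 LD2_c11 LD3_c6)) = (LP (LK LD1_c14 LD2_c30 LD3_c0)) :=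
  Lre_c IH (LK LD1_c24 LD2_c11 LD3_c6) (LK LD1_c14 LD2_c30 LD3_c0) Lrfl Lrfl
theorem f63524 : Led Lsl_ct (LP (LK LD1_c6 LD2_c11 LD3_c3)) = (LP (LK LD1_c12 LD2_c2 LD3_c33)) :=
  Lre_c IH (LK LD1_c6 LD2_c11 LD3_c3) (LK LD1_c12 LD2_c2 LD3_c33) Lrfl Lrfl
theorem f63525 : Led Lsl_dt (LP (LK LD1_c12 LD2_c2 LD3_c33)) = (LP (LK LD1_c21 LD2_c7 LD3_c59)) :=
  Lre_d IH (LK LD1_c12 LD2_c2 LD3_c33) (LK LD1_c21 LD2_c7 LD3_c59) Lrfl Lrfl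
theorem f63526 : Led Lsl_ct (LP (LK LD1_c21 LD2_c7 LD3_c59)) = (LP (LK LD1_c29 LD2_c51 LD3_c60)) :=
  Lre_c IH (LK LD1_c21 LD2_c7 LD3_c59) (LK LD1_c29 LD2_c51 LD3_c60) Lrfl Lrfl
theorem f63527 : Led Lsl_dt (LP (LK LD1_c29 LD2_c51 LD3_c60)) = (LP (LK LD1_c22 LD2_c37 LD3_c25)) :=
  Lre_d IH (LK LD1_c29 LD2_c51 LD3_c60) (LK LD1_c22 LD2_c37 LD3_c25) Lrfl Lrfl
theorem f63528 : Led Lsl_ct (LP (LK LD1_c22 LD2_c37 LD3_c25)) = (LP (LK LD1_c13 LD2_c20 LD3_c58)) :=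
  Lre_c IH (LK LD1_c22 LD2_c37 LD3_c25) (LK LD1_c13 LD2_c20 LD3_c58) Lrfl Lrfl
theorem f63273 : Led Lsl_ft (LP (LK LD1_c7 LD2_c41 LD3_c32)) = (LP (LK LD1_c14 LD2_c30 LD3_c0)) :=
  Lre_f IH (LK LD1_c7 LD2_c41 LD3_c32) (LK LD1_c14 LD2_c30 LD3_c0) Lrfl Lrfl
theorem f63531 : Led Lsl_af (LP (LK LD1_c13 LD2_c20 LD3_c58)) = (LP (LK LD1_c14 LD2_c30 LD3_c0)) :=
  Lgr Lrot109 (Lpe (f63528 IH) (Lpe (f63527 IH) (Lpe (f63526 IH) (Lpe (f63525 IH) (Lpe (f63524 IH) (Lpe (K56.f63523 IH) (Lpr_cf (K56.f63369 IH) (Lpe (K56.f63124 IH) (Lpr_ft (f63273 IH) (Lpn (LP (LK LD1_c14 LD2_c30 LD3_c0))))))))))))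
theorem f63539 : Led Lsl_at (LP (LK LD1_c22 LD2_c37 LD3_c25)) = (LP (LK LD1_c24 LD2_c11 LD3_c6)) :=
  Lgr Lrot107 (Lpe (K3.f63371 IH) (Lpr_af (f63531 IH) (Lpe (f63478 IH) (Lpn (LP (LK LD1_c24 LD2_c11 LD3_c6))))))
theorem f63549 : Led Lsl_ft (LP (LK LD1_c13 LD2_c21 LD3_c4)) = (LP (LK LD1_c22 LD2_c37 LD3_c25)) :=
  Lre_f IH (LK LD1_c13 LD2_c21 LD3_c4) (LK LD1_c22 LD2_c37 LD3_c25) Lrfl Lrfl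
theorem f18485 : Led Lsl_gt (LP (LK LD1_c13 LD2_c21 LD3_c4)) = (LP (LK LD1_c22 LD2_c37 LD3_c37)) :=
  Lre_g IH (LK LD1_c13 LD2_c21 LD3_c4) (LK LD1_c22 LD2_c37 LD3_c37) Lrfl Lrfl
theorem f63550 : Led Lsl_gt (LP (LK LD1_c22 LD2_c37 LD3_c37)) = (LP (LK LD1_c24 LD2_c11 LD3_c6)) :=
  Lgr Lrot46 (Lpe (f18485 IH) (Lpr_ft (f63549 IH) (Lpr_at (f63539 IH) (Lpn (LP (LK LD1_c24 LD2_c11 LD3_c6))))))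
theorem f804795 : Led Lsl_ct (LP (LK LD1_c14 LD2_c13 LD3_c6)) = (LP (LK LD1_c22 LD2_c37 LD3_c37)) :=
  Lgr Lrot152 (Lpe (K34.f93607 IH) (Lpe (K4.f93606 IH) (Lpr_gt (K51.f93632 IH) (Lpr_ct (f801752 IH) (Lpqs (f804794 IH) (Lpe (f754058 IH) (Lpr_ct (f63476 IH) (Lpe (K2.f63233 IH) (Lpe (f63478 IH) (Lpe (f63550 IH) (Lpn (LP (LK LD1_c22 LD2_c37 LD3_c37)))))))))))))
theorem f804796 : Led Lsl_ct (LP (LK LD1_c14 LD2_c13 LD3_c6)) = (LP (LK LD1_c22 LD2_c37 LD3_c37)) :=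
  Leop (Lpe (f804795 IH) (Lpn (LP (LK LD1_c14 LD2_c13 LD3_c6))))
theorem seed_1683 : LEOK LG_c (LK LD1_c14 LD2_c13 LD3_c6) :=
  Leoe_c (LK LD1_c14 LD2_c13 LD3_c6) (f804796 IH)
theorem f778497 : Led Lsl_dt (LP (LK LD1_c21 LD2_c52 LD3_c50)) = (LP (LK LD1_c12 LD2_c45 LD3_c32)) :=
  Lre_d IH (LK LD1_c21 LD2_c52 LD3_c50) (LK LD1_c12 LD2_c45 LD3_c32) Lrfl Lrfl
theorem f109792 : Led Lsl_ct (LP (LK LD1_c6 LD2_c39 LD3_c53)) = (LP (LK LD1_c3 LD2_c18 LD3_c2)) :=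
  Lre_c IH (LK LD1_c6 LD2_c39 LD3_c53) (LK LD1_c3 LD2_c18 LD3_c2) Lrfl Lrfl
theorem f63995 : Led Lsl_ct (LP (LK LD1_c1 LD2_c35 LD3_c32)) = (LP (LK LD1_c3 LD2_c18 LD3_c0)) :=
  Lre_c IH (LK LD1_c1 LD2_c35 LD3_c32) (LK LD1_c3 LD2_c18 LD3_c0) Lrfl Lrfl
theorem f64002 : Led Lsl_dt (LP (LK LD1_c3 LD2_c18 LD3_c0)) = (LP (LK LD1_c6 LD2_c39 LD3_c49)) :=
  Lre_d IH (LK LD1_c3 LD2_c18 LD3_c0) (LK LD1_c6 LD2_c39 LD3_c49) Lrfl Lrfl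
theorem f440294 : Led Lsl_ct (LP (LK LD1_c12 LD2_c45 LD3_c30)) = (LP (LK LD1_c6 LD2_c39 LD3_c49)) :=
  Lre_c IH (LK LD1_c12 LD2_c45 LD3_c30) (LK LD1_c6 LD2_c39 LD3_c49) Lrfl Lrfl
theorem f778506 : Led Lsl_gt (LP (LK LD1_c21 LD2_c52 LD3_c46)) = (LP (LK LD1_c12 LD2_c45 LD3_c30)) :=
  Lre_g IH (LK LD1_c21 LD2_c52 LD3_c46) (LK LD1_c12 LD2_c45 LD3_c30) Lrfl Lrfl
theorem f804799 : Led Lsl_cf (LP (LK LD1_c21 LD2_c52 LD3_c46)) = v22211 :=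
  Lgr Lrot169 (Lpr_gt (f778506 IH) (Lpr_ct (f440294 IH) (Lpe (f64002 IH) (Lpe (f63995 IH) (Lpe (K60.f109788 IH) (Lpe (f109792 IH) (Lpr_gf (K61.f778504 IH) (Lpe (f778497 IH) (Lpr_gt (f804789 IH) (Lpn v22211))))))))))
theorem f440291 : Led Lsl_dt (LP (LK LD1_c12 LD2_c45 LD3_c30)) = (LP (LK LD1_c21 LD2_c52 LD3_c47)) :=
  Lre_d IH (LK LD1_c12 LD2_c45 LD3_c30) (LK LD1_c21 LD2_c52 LD3_c47) Lrfl Lrfl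
theorem f513882 : Led Lsl_gt (LP (LK LD1_c21 LD2_c52 LD3_c47)) = (LP (LK LD1_c30 LD2_c11 LD3_c59)) :=
  Lre_g IH (LK LD1_c21 LD2_c52 LD3_c47) (LK LD1_c30 LD2_c11 LD3_c59) Lrfl Lrfl
theorem f778469 : Led Lsl_dt (LP (LK LD1_c6 LD2_c39 LD3_c51)) = (LP (LK LD1_c12 LD2_c45 LD3_c33)) :=
  Lre_d IH (LK LD1_c6 LD2_c39 LD3_c51) (LK LD1_c12 LD2_c45 LD3_c33) Lrfl Lrfl
theorem f651115 : Led Lsl_ct (LP (LK LD1_c21 LD2_c52 LD3_c52)) = (LP (LK LD1_c12 LD2_c45 LD3_c33)) :=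
  Lre_c IH (LK LD1_c21 LD2_c52 LD3_c52) (LK LD1_c12 LD2_c45 LD3_c33) Lrfl Lrfl
theorem f804804 : Led Lsl_dt (LP (LK LD1_c30 LD2_c11 LD3_c59)) = (LP (LK LD1_c21 LD2_c52 LD3_c52)) :=
  Lgr Lrot105 (Lpe (f513882 IH) (Lpe (f440291 IH) (Lpe (f778506 IH) (Lpr_cf (f804799 IH) (Lpe (f804788 IH) (Lpr_dt (K61.f92953 IH) (Lpr_gt (K60.f664813 IH) (Lpqs (K60.f778479 IH) (Lpr_dt (f778469 IH) (Lpe (f651115 IH) (Lpn (LP (LK LD1_c21 LD2_c52 LD3_c52)))))))))))))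
theorem f804805 : Led Lsl_dt (LP (LK LD1_c30 LD2_c11 LD3_c59)) = (LP (LK LD1_c21 LD2_c52 LD3_c52)) :=
  Leop (Lpe (f804804 IH) (Lpn (LP (LK LD1_c30 LD2_c11 LD3_c59))))
theorem seed_1684 : LEOK LG_d (LK LD1_c30 LD2_c11 LD3_c59) :=
  Leoe_d (LK LD1_c30 LD2_c11 LD3_c59) (f804805 IH)
theorem f651117 : Led Lsl_ct (LP (LK LD1_c6 LD2_c39 LD3_c54)) = (LP (LK LD1_c12 LD2_c45 LD3_c37)) :=
  Lre_c IH (LK LD1_c6 LD2_c39 LD3_c54) (LK LD1_c12 LD2_c45 LD3_c37) Lrfl Lrfl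
theorem f651118 : Led Lsl_dt (LP (LK LD1_c12 LD2_c45 LD3_c37)) = (LP (LK LD1_c21 LD2_c52 LD3_c57)) :=
  Lre_d IH (LK LD1_c12 LD2_c45 LD3_c37) (LK LD1_c21 LD2_c52 LD3_c57) Lrfl Lrfl
theorem f804810 : Led Lsl_cf (LP (LK LD1_c30 LD2_c11 LD3_c59)) = (LP (LK LD1_c21 LD2_c52 LD3_c57)) :=
  Lgr Lrot116 (Lpr_dt (f804804 IH) (Lpr_ct (f651115 IH) (Lpr_dt (K60.f651114 IH) (Lpr_ct (f511444 IH) (Lpr_af (K60.f651111 IH) (Lpe (K60.f651113 IH) (Lpr_dt (K60.f651116 IH) (Lpr_ct (f651117 IH) (Lpr_dt (f651118 IH) (Lpn (LP (LK LD1_c21 LD2_c52 LD3_c57))))))))))))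
theorem f804811 : Led Lsl_ct (LP (LK LD1_c21 LD2_c52 LD3_c57)) = (LP (LK LD1_c30 LD2_c11 LD3_c59)) :=
  Leop (Lpr_cf (f804810 IH) (Lpn (LP (LK LD1_c21 LD2_c52 LD3_c57))))
theorem seed_1685 : LEOK LG_c (LK LD1_c21 LD2_c52 LD3_c57) :=
  Leoe_c (LK LD1_c21 LD2_c52 LD3_c57) (f804811 IH)
def v22217 : LQ := Led Lsl_et (LP (LK LD1_c7 LD2_c32 LD3_c53))
theorem f804835 : Led Lsl_et (LP (LK LD1_c7 LD2_c32 LD3_c53)) = v22217 :=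
  Lrfl
theorem f804836 : Led Lsl_ef (LP (LK LD1_c7 LD2_c32 LD3_c53)) = v22217 :=
  Lgr Lrot88 (Lpr_et (f804835 IH) (Lpn v22217))
theorem f88179 : Led Lsl_gt (LP (LK LD1_c3 LD2_c46 LD3_c0)) = (LP (LK LD1_c7 LD2_c32 LD3_c53)) :=
  Lre_g IH (LK LD1_c3 LD2_c46 LD3_c0) (LK LD1_c7 LD2_c32 LD3_c53) Lrfl Lrfl
theorem f127805 : Led Lsl_gf (LP (LK LD1_c13 LD2_c17 LD3_c45)) = (LP (LK LD1_c7 LD2_c32 LD3_c53)) :=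
  Lgr Lrot76 (Lpr_af (K5.f127795 IH) (Lpe (K5.f88445 IH) (Lpr_gt (f88179 IH) (Lpn (LP (LK LD1_c7 LD2_c32 LD3_c53))))))
theorem f88191 : Led Lsl_gt (LP (LK LD1_c14 LD2_c13 LD3_c60)) = (LP (LK LD1_c7 LD2_c32 LD3_c55)) :=
  Lre_g IH (LK LD1_c14 LD2_c13 LD3_c60) (LK LD1_c7 LD2_c32 LD3_c55) Lrfl Lrfl
theorem f127780 : Led Lsl_gt (LP (LK LD1_c22 LD2_c33 LD3_c33)) = (LP (LK LD1_c14 LD2_c13 LD3_c60)) :=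
  Lgr Lrot5 (Lpr_ft (K5.f104031 IH) (Lpr_at (K5.f127770 IH) (Lpe (f88191 IH) (Lpn (LP (LK LD1_c14 LD2_c13 LD3_c60))))))
theorem f88446 : Led Lsl_dt (LP (LK LD1_c14 LD2_c12 LD3_c43)) = (LP (LK LD1_c14 LD2_c13 LD3_c60)) :=
  Lre_d IH (LK LD1_c14 LD2_c12 LD3_c43) (LK LD1_c14 LD2_c13 LD3_c60) Lrfl Lrfl
theorem f109286 : Led Lsl_et (LP (LK LD1_c14 LD2_c12 LD3_c43)) = (LP (LK LD1_c7 LD2_c32 LD3_c6)) :=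
  Lre_e IH (LK LD1_c14 LD2_c12 LD3_c43) (LK LD1_c7 LD2_c32 LD3_c6) Lrfl Lrfl
theorem f94153 : Led Lsl_gt (LP (LK LD1_c3 LD2_c45 LD3_c43)) = (LP (LK LD1_c7 LD2_c32 LD3_c6)) :=
  Lre_g IH (LK LD1_c3 LD2_c45 LD3_c43) (LK LD1_c7 LD2_c32 LD3_c6) Lrfl Lrfl
theorem f109284 : Led Lsl_gt (LP (LK LD1_c7 LD2_c32 LD3_c6)) = (LP (LK LD1_c7 LD2_c38 LD3_c25)) :=
  Lgr Lrot46 (Lpe (f94153 IH) (Lpr_ft (K4.f94157 IH) (Lpr_at (K4.f109280 IH) (Lpn (LP (LK LD1_c7 LD2_c38 LD3_c25))))))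
theorem f103820 : Led Lsl_et (LP (LK LD1_c7 LD2_c32 LD3_c14)) = (LP (LK LD1_c3 LD2_c45 LD3_c47)) :=
  Lre_e IH (LK LD1_c7 LD2_c32 LD3_c14) (LK LD1_c3 LD2_c45 LD3_c47) Lrfl Lrfl
theorem f111425 : Led Lsl_ft (LP (LK LD1_c14 LD2_c12 LD3_c56)) = (LP (LK LD1_c7 LD2_c32 LD3_c14)) :=
  Lre_f IH (LK LD1_c14 LD2_c12 LD3_c56) (LK LD1_c7 LD2_c32 LD3_c14) Lrfl Lrfl
theorem f111459 : Led Lsl_ft (LP (LK LD1_c7 LD2_c38 LD3_c23)) = (LP (LK LD1_c14 LD2_c23 LD3_c47)) :=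
  Lre_f IH (LK LD1_c7 LD2_c38 LD3_c23) (LK LD1_c14 LD2_c23 LD3_c47) Lrfl Lrfl
theorem f129443 : Led Lsl_ef (LP (LK LD1_c14 LD2_c12 LD3_c56)) = (LP (LK LD1_c14 LD2_c23 LD3_c47)) :=
  Lgr Lrot21 (Lpr_ft (f111425 IH) (Lpr_et (f103820 IH) (Lpr_ft (K8.f129420 IH) (Lpr_et (K39.f64812 IH) (Lpr_ft (f111459 IH) (Lpn (LP (LK LD1_c14 LD2_c23 LD3_c47))))))))
theorem f111645 : Led Lsl_bt (LP (LK LD1_c14 LD2_c12 LD3_c56)) = (LP (LK LD1_c7 LD2_c32 LD3_c22)) :=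
  Lre_b IH (LK LD1_c14 LD2_c12 LD3_c56) (LK LD1_c7 LD2_c32 LD3_c22) Lrfl Lrfl
theorem f109283 : Led Lsl_bt (LP (LK LD1_c7 LD2_c38 LD3_c25)) = (LP (LK LD1_c14 LD2_c23 LD3_c47)) :=
  Lre_b IH (LK LD1_c7 LD2_c38 LD3_c25) (LK LD1_c14 LD2_c23 LD3_c47) Lrfl Lrfl
theorem f129445 : Led Lsl_et (LP (LK LD1_c7 LD2_c32 LD3_c22)) = (LP (LK LD1_c7 LD2_c38 LD3_c25)) :=
  Lgr Lrot74 (Lpe (f111645 IH) (Lpr_ef (f129443 IH) (Lpe (f109283 IH) (Lpn (LP (LK LD1_c7 LD2_c38 LD3_c25))))))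
theorem f111688 : Led Lsl_dt (LP (LK LD1_c7 LD2_c32 LD3_c22)) = (LP (LK LD1_c14 LD2_c13 LD3_c9)) :=
  Lre_d IH (LK LD1_c7 LD2_c32 LD3_c22) (LK LD1_c14 LD2_c13 LD3_c9) Lrfl Lrfl
theorem f111684 : Led Lsl_ft (LP (LK LD1_c14 LD2_c13 LD3_c9)) = (LP (LK LD1_c7 LD2_c32 LD3_c21)) :=
  Lre_f IH (LK LD1_c14 LD2_c13 LD3_c9) (LK LD1_c7 LD2_c32 LD3_c21) Lrfl Lrfl
theorem f89310 : Led Lsl_gt (LP (LK LD1_c14 LD2_c23 LD3_c40)) = (LP (LK LD1_c7 LD2_c38 LD3_c20)) :=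
  Lre_g IH (LK LD1_c14 LD2_c23 LD3_c40) (LK LD1_c7 LD2_c38 LD3_c20) Lrfl Lrfl
theorem f111685 : Led Lsl_gt (LP (LK LD1_c14 LD2_c13 LD3_c9)) = (LP (LK LD1_c14 LD2_c23 LD3_c40)) :=
  Lgr Lrot5 (Lpr_ft (f111684 IH) (Lpr_at (K4.f111661 IH) (Lpe (f89310 IH) (Lpn (LP (LK LD1_c14 LD2_c23 LD3_c40))))))
theorem f804837 : Led Lsl_df (LP (LK LD1_c14 LD2_c23 LD3_c40)) = v22217 :=
  Lgr Lrot168 (Lpe (f111685 IH) (Lpe (f111688 IH) (Lpr_et (f129445 IH) (Lpe (f109284 IH) (Lpe (f109286 IH) (Lpr_dt (f88446 IH) (Lpe (f127780 IH) (Lpe (K61.f127784 IH) (Lpr_gf (f127805 IH) (Lpr_ef (f804836 IH) (Lpn v22217)))))))))))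
theorem f804839 : Led Lsl_et (LP (LK LD1_c14 LD2_c23 LD3_c40)) = (LP (LK LD1_c24 LD2_c2 LD3_c11)) :=
  Lre_e IH (LK LD1_c14 LD2_c23 LD3_c40) (LK LD1_c24 LD2_c2 LD3_c11) Lrfl Lrfl
theorem f88180 : Led Lsl_dt (LP (LK LD1_c14 LD2_c13 LD3_c55)) = (LP (LK LD1_c7 LD2_c32 LD3_c53)) :=
  Lre_d IH (LK LD1_c14 LD2_c13 LD3_c55) (LK LD1_c7 LD2_c32 LD3_c53) Lrfl Lrfl
theorem f88316 : Led Lsl_et (LP (LK LD1_c23 LD2_c49 LD3_c30)) = (LP (LK LD1_c14 LD2_c13 LD3_c55)) :=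
  Lre_e IH (LK LD1_c23 LD2_c49 LD3_c30) (LK LD1_c14 LD2_c13 LD3_c55) Lrfl Lrfl
theorem f804840 : Led Lsl_dt (LP (LK LD1_c24 LD2_c2 LD3_c11)) = (LP (LK LD1_c23 LD2_c49 LD3_c30)) :=
  Lgr Lrot77 (Lpe (f804839 IH) (Lpr_df (f804837 IH) (Lpe (f804835 IH) (Lpe (f88180 IH) (Lpe (f88316 IH) (Lpn (LP (LK LD1_c23 LD2_c49 LD3_c30))))))))
theorem f804841 : Led Lsl_dt (LP (LK LD1_c24 LD2_c2 LD3_c11)) = (LP (LK LD1_c23 LD2_c49 LD3_c30)) :=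
  Leop (Lpe (f804840 IH) (Lpn (LP (LK LD1_c24 LD2_c2 LD3_c11))))
theorem seed_1686 : LEOK LG_d (LK LD1_c24 LD2_c2 LD3_c11) :=
  Leoe_d (LK LD1_c24 LD2_c2 LD3_c11) (f804841 IH)
def v22225 : LQ := Led Lsl_at (LP (LK LD1_c7 LD2_c32 LD3_c59))
theorem f804885 : Led Lsl_at (LP (LK LD1_c7 LD2_c32 LD3_c59)) = v22225 :=
  Lrfl
theorem f109726 : Led Lsl_dt (LP (LK LD1_c3 LD2_c46 LD3_c1)) = (LP (LK LD1_c7 LD2_c32 LD3_c59)) :=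
  Lre_d IH (LK LD1_c3 LD2_c46 LD3_c1) (LK LD1_c7 LD2_c32 LD3_c59) Lrfl Lrfl
def v7381 : LQ := Led Lsl_at (LP (LK LD1_c3 LD2_c46 LD3_c1))
theorem f664814 : Led Lsl_at (LP (LK LD1_c3 LD2_c46 LD3_c1)) = v7381 :=
  Lrfl
theorem f664815 : Led Lsl_af (LP (LK LD1_c3 LD2_c46 LD3_c1)) = v7381 :=
  Lgr Lrot0 (Lpr_at (f664814 IH) (Lpn v7381))
theorem f804888 : Led Lsl_df v7381 = v22225 :=
  Lgr Lrot18 (Lpe (f664815 IH) (Lpr_dt (f109726 IH) (Lpr_at (f804885 IH) (Lpn v22225))))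
theorem f664820 : Led Lsl_ft (LP (LK LD1_c3 LD2_c46 LD3_c2)) = v7381 :=
  Lgr Lrot2 (Lpr_gt (K57.f109741 IH) (Lpr_gt (K52.f92696 IH) (Lpr_af (f664815 IH) (Lpn v7381))))
theorem f664822 : Led Lsl_ff (LP (LK LD1_c3 LD2_c46 LD3_c2)) = v7381 :=
  Lgr Lrot3 (Lpr_ft (f664820 IH) (Lpn v7381))
theorem f109744 : Led Lsl_dt (LP (LK LD1_c3 LD2_c46 LD3_c2)) = (LP (LK LD1_c7 LD2_c33 LD3_c1)) :=
  Lre_d IH (LK LD1_c3 LD2_c46 LD3_c2) (LK LD1_c7 LD2_c33 LD3_c1) Lrfl Lrfl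
theorem f804890 : Led Lsl_ft (LP (LK LD1_c7 LD2_c33 LD3_c1)) = v22225 :=
  Lgr Lrot54 (Lpe (f109744 IH) (Lpr_ff (f664822 IH) (Lpr_df (f804888 IH) (Lpn v22225))))
theorem f804886 : Led Lsl_af (LP (LK LD1_c7 LD2_c32 LD3_c59)) = v22225 :=
  Lgr Lrot0 (Lpr_at (f804885 IH) (Lpn v22225))
theorem f109720 : Led Lsl_gt (LP (LK LD1_c14 LD2_c14 LD3_c9)) = (LP (LK LD1_c7 LD2_c32 LD3_c59)) :=
  Lre_g IH (LK LD1_c14 LD2_c14 LD3_c9) (LK LD1_c7 LD2_c32 LD3_c59) Lrfl Lrfl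
theorem f804892 : Led Lsl_gt (LP (LK LD1_c7 LD2_c33 LD3_c1)) = (LP (LK LD1_c14 LD2_c14 LD3_c9)) :=
  Lgr Lrot5 (Lpr_ft (f804890 IH) (Lpe (f804886 IH) (Lpe (f109720 IH) (Lpn (LP (LK LD1_c14 LD2_c14 LD3_c9))))))
theorem f804893 : Led Lsl_gt (LP (LK LD1_c7 LD2_c33 LD3_c1)) = (LP (LK LD1_c14 LD2_c14 LD3_c9)) :=
  Leop (Lpe (f804892 IH) (Lpn (LP (LK LD1_c7 LD2_c33 LD3_c1))))
theorem seed_1687 : LEOK LG_g (LK LD1_c7 LD2_c33 LD3_c1) :=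
  Leoe_g (LK LD1_c7 LD2_c33 LD3_c1) (f804893 IH)
def v22231 : LQ := Led Lsl_ft (LP (LK LD1_c7 LD2_c32 LD3_c61))
theorem f804923 : Led Lsl_ft (LP (LK LD1_c7 LD2_c32 LD3_c61)) = v22231 :=
  Lrfl
theorem f804926 : Led Lsl_ff (LP (LK LD1_c7 LD2_c32 LD3_c61)) = v22231 :=
  Lgr Lrot3 (Lpr_ft (f804923 IH) (Lpn v22231))
theorem f109754 : Led Lsl_bt (LP (LK LD1_c7 LD2_c32 LD3_c61)) = (LP (LK LD1_c3 LD2_c46 LD3_c2)) :=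
  Lre_b IH (LK LD1_c7 LD2_c32 LD3_c61) (LK LD1_c3 LD2_c46 LD3_c2) Lrfl Lrfl
theorem f804929 : Led Lsl_bt v7381 = v22231 :=
  Lgr Lrot35 (Lpe (f664820 IH) (Lpe (f109754 IH) (Lpr_ff (f804926 IH) (Lpn v22231))))
theorem f109727 : Led Lsl_bt (LP (LK LD1_c7 LD2_c32 LD3_c57)) = (LP (LK LD1_c3 LD2_c46 LD3_c1)) :=
  Lre_b IH (LK LD1_c7 LD2_c32 LD3_c57) (LK LD1_c3 LD2_c46 LD3_c1) Lrfl Lrfl
theorem f664816 : Led Lsl_at (LP (LK LD1_c14 LD2_c14 LD3_c2)) = (LP (LK LD1_c7 LD2_c32 LD3_c57)) :=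
  Lre_a IH (LK LD1_c14 LD2_c14 LD3_c2) (LK LD1_c7 LD2_c32 LD3_c57) Lrfl Lrfl
theorem f664831 : Led Lsl_at (LP (LK LD1_c14 LD2_c14 LD3_c15)) = (LP (LK LD1_c7 LD2_c32 LD3_c61)) :=
  Lre_a IH (LK LD1_c14 LD2_c14 LD3_c15) (LK LD1_c7 LD2_c32 LD3_c61) Lrfl Lrfl
theorem f65282 : Led Lsl_ct (LP (LK LD1_c12 LD2_c36 LD3_c12)) = (LP (LK LD1_c6 LD2_c35 LD3_c3)) :=
  Lre_c IH (LK LD1_c12 LD2_c36 LD3_c12) (LK LD1_c6 LD2_c35 LD3_c3) Lrfl Lrfl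
theorem f115606 : Led Lsl_ft (LP (LK LD1_c6 LD2_c35 LD3_c3)) = (LP (LK LD1_c12 LD2_c36 LD3_c15)) :=
  Lre_f IH (LK LD1_c6 LD2_c35 LD3_c3) (LK LD1_c12 LD2_c36 LD3_c15) Lrfl Lrfl
theorem f712662 : Led Lsl_ct (LP (LK LD1_c12 LD2_c36 LD3_c15)) = (LP (LK LD1_c21 LD2_c40 LD3_c47)) :=
  Lgr Lrot40 (Lpe (f115606 IH) (Lpe (f65282 IH) (Lpr_ff (K54.f712658 IH) (Lpn (LP (LK LD1_c21 LD2_c40 LD3_c47))))))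
theorem f712976 : Led Lsl_gt (LP (LK LD1_c6 LD2_c35 LD3_c10)) = (LP (LK LD1_c7 LD2_c33 LD3_c0)) :=
  Lgr Lrot82 (Lpe (K4.f65326 IH) (Lpr_ct (f712662 IH) (Lpe (K54.f650128 IH) (Lpe (K52.f712644 IH) (Lpr_bt (K52.f104248 IH) (Lpe (K52.f104246 IH) (Lpe (K51.f104238 IH) (Lpr_ct (K52.f109759 IH) (Lpe (K57.f109741 IH) (Lpe (K57.f109752 IH) (Lpn (LP (LK LD1_c7 LD2_c33 LD3_c0)))))))))))))
theorem f712979 : Led Lsl_gf (LP (LK LD1_c6 LD2_c10 LD3_c25)) = (LP (LK LD1_c7 LD2_c33 LD3_c0)) :=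
  Lgr Lrot76 (Lpe (K52.f115654 IH) (Lpe (K4.f65292 IH) (Lpr_gt (f712976 IH) (Lpn (LP (LK LD1_c7 LD2_c33 LD3_c0))))))
theorem f109748 : Led Lsl_ct (LP (LK LD1_c3 LD2_c46 LD3_c2)) = (LP (LK LD1_c7 LD2_c33 LD3_c0)) :=
  Lre_c IH (LK LD1_c3 LD2_c46 LD3_c2) (LK LD1_c7 LD2_c33 LD3_c0) Lrfl Lrfl
theorem f664823 : Led Lsl_bt (LP (LK LD1_c3 LD2_c46 LD3_c2)) = (LP (LK LD1_c7 LD2_c32 LD3_c61)) :=
  Lre_b IH (LK LD1_c3 LD2_c46 LD3_c2) (LK LD1_c7 LD2_c32 LD3_c61) Lrfl Lrfl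
theorem f712985 : Led Lsl_gt (LP (LK LD1_c14 LD2_c14 LD3_c14)) = (LP (LK LD1_c7 LD2_c32 LD3_c61)) :=
  Lre_g IH (LK LD1_c14 LD2_c14 LD3_c14) (LK LD1_c7 LD2_c32 LD3_c61) Lrfl Lrfl
theorem f720713 : Led Lsl_bt (LP (LK LD1_c15 LD2_c5 LD3_c35)) = (LP (LK LD1_c14 LD2_c14 LD3_c14)) :=
  Lgr Lrot22 (Lpr_ct (K58.f720707 IH) (Lpe (K54.f720689 IH) (Lpqs (K53.f719896 IH) (Lpe (K53.f714669 IH) (Lpr_gf (K53.f713881 IH) (Lpe (K53.f109951 IH) (Lpe (K52.f130768 IH) (Lpr_gf (f712979 IH) (Lpe (f109748 IH) (Lpr_bt (f664823 IH) (Lpe (f712985 IH) (Lpn (LP (LK LD1_c14 LD2_c14 LD3_c14))))))))))))))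
theorem f720709 : Led Lsl_ff (LP (LK LD1_c15 LD2_c5 LD3_c35)) = (LP (LK LD1_c9 LD2_c5 LD3_c55)) :=
  Lgr Lrot23 (Lpr_ct (K58.f720707 IH) (Lpr_ft (K54.f208497 IH) (Lpr_ct (K43.f160982 IH) (Lpn (LP (LK LD1_c9 LD2_c5 LD3_c55))))))
theorem f720717 : Led Lsl_ff (LP (LK LD1_c13 LD2_c6 LD3_c40)) = (LP (LK LD1_c14 LD2_c14 LD3_c14)) :=
  Lgr Lrot25 (Lpe (K53.f130511 IH) (Lpe (f720709 IH) (Lpr_bt (f720713 IH) (Lpn (LP (LK LD1_c14 LD2_c14 LD3_c14))))))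
theorem f102408 : Led Lsl_at (LP (LK LD1_c13 LD2_c6 LD3_c40)) = (LP (LK LD1_c6 LD2_c54 LD3_c1)) :=
  Lre_a IH (LK LD1_c13 LD2_c6 LD3_c40) (LK LD1_c6 LD2_c54 LD3_c1) Lrfl Lrfl
theorem f102856 : Led Lsl_ft (LP (LK LD1_c6 LD2_c54 LD3_c1)) = (LP (LK LD1_c13 LD2_c6 LD3_c46)) :=
  Lre_f IH (LK LD1_c6 LD2_c54 LD3_c1) (LK LD1_c13 LD2_c6 LD3_c46) Lrfl Lrfl
theorem f720720 : Led Lsl_at (LP (LK LD1_c13 LD2_c6 LD3_c46)) = (LP (LK LD1_c14 LD2_c14 LD3_c14)) :=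
  Lgr Lrot66 (Lpe (f102856 IH) (Lpe (f102408 IH) (Lpr_ff (f720717 IH) (Lpn (LP (LK LD1_c14 LD2_c14 LD3_c14))))))
theorem f94760 : Led Lsl_gt (LP (LK LD1_c6 LD2_c54 LD3_c1)) = (LP (LK LD1_c13 LD2_c6 LD3_c44)) :=
  Lre_g IH (LK LD1_c6 LD2_c54 LD3_c1) (LK LD1_c13 LD2_c6 LD3_c44) Lrfl Lrfl
theorem f720744 : Led Lsl_gt (LP (LK LD1_c13 LD2_c6 LD3_c44)) = (LP (LK LD1_c14 LD2_c14 LD3_c14)) :=
  Lgr Lrot46 (Lpe (f94760 IH) (Lpr_ft (f102856 IH) (Lpr_at (f720720 IH) (Lpn (LP (LK LD1_c14 LD2_c14 LD3_c14))))))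
theorem f720746 : Led Lsl_ft (LP (LK LD1_c13 LD2_c6 LD3_c44)) = (LP (LK LD1_c14 LD2_c14 LD3_c15)) :=
  Lgr Lrot2 (Lpr_gt (f720744 IH) (Lpr_gt (f712985 IH) (Lpe (f664831 IH) (Lpn (LP (LK LD1_c14 LD2_c14 LD3_c15))))))
theorem f804924 : Led Lsl_af (LP (LK LD1_c13 LD2_c6 LD3_c44)) = v22231 :=
  Lgr Lrot45 (Lpr_ft (f720746 IH) (Lpr_at (f664831 IH) (Lpr_ft (f804923 IH) (Lpn v22231))))
theorem f804930 : Led Lsl_bf (LP (LK LD1_c14 LD2_c14 LD3_c2)) = (LP (LK LD1_c13 LD2_c6 LD3_c44)) :=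
  Lgr Lrot81 (Lpr_at (f664816 IH) (Lpr_bt (f109727 IH) (Lpr_at (f664814 IH) (Lpr_bt (f804929 IH) (Lpe (f804924 IH) (Lpn (LP (LK LD1_c13 LD2_c6 LD3_c44))))))))
theorem f804931 : Led Lsl_bt (LP (LK LD1_c13 LD2_c6 LD3_c44)) = (LP (LK LD1_c14 LD2_c14 LD3_c2)) :=
  Leop (Lpr_bf (f804930 IH) (Lpn (LP (LK LD1_c13 LD2_c6 LD3_c44))))
theorem seed_1688 : LEOK LG_b (LK LD1_c13 LD2_c6 LD3_c44) :=
  Leoe_b (LK LD1_c13 LD2_c6 LD3_c44) (f804931 IH)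
theorem f804932 : Led Lsl_bt (LP (LK LD1_c14 LD2_c14 LD3_c2)) = (LP (LK LD1_c13 LD2_c6 LD3_c44)) :=
  Lgr Lrot127 (Lpr_bf (f804930 IH) (Lpn (LP (LK LD1_c13 LD2_c6 LD3_c44))))
theorem f136907 : Led Lsl_ct (LP (LK LD1_c6 LD2_c32 LD3_c56)) = (LP (LK LD1_c12 LD2_c33 LD3_c1)) :=
  Lre_c IH (LK LD1_c6 LD2_c32 LD3_c56) (LK LD1_c12 LD2_c33 LD3_c1) Lrfl Lrfl
theorem f582389 : Led Lsl_gt (LP (LK LD1_c12 LD2_c33 LD3_c1)) = (LP (LK LD1_c21 LD2_c38 LD3_c58)) :=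
  Lre_g IH (LK LD1_c12 LD2_c33 LD3_c1) (LK LD1_c21 LD2_c38 LD3_c58) Lrfl Lrfl
theorem f804940 : Led Lsl_ct (LP (LK LD1_c14 LD2_c14 LD3_c2)) = (LP (LK LD1_c21 LD2_c38 LD3_c58)) :=
  Lgr Lrot63 (Lpr_bt (f804932 IH) (Lpr_gt (f720744 IH) (Lpe (f720713 IH) (Lpr_ct (K58.f720707 IH) (Lpe (K54.f720679 IH) (Lpe (K58.f645140 IH) (Lpr_bt (K58.f768376 IH) (Lpe (K58.f768373 IH) (Lpr_ct (f136907 IH) (Lpr_gt (f582389 IH) (Lpn (LP (LK LD1_c21 LD2_c38 LD3_c58)))))))))))))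
theorem f804941 : Led Lsl_ct (LP (LK LD1_c14 LD2_c14 LD3_c2)) = (LP (LK LD1_c21 LD2_c38 LD3_c58)) :=
  Leop (Lpe (f804940 IH) (Lpn (LP (LK LD1_c14 LD2_c14 LD3_c2))))
theorem seed_1689 : LEOK LG_c (LK LD1_c14 LD2_c14 LD3_c2) :=
  Leoe_c (LK LD1_c14 LD2_c14 LD3_c2) (f804941 IH)
def v22237 : LQ := Led Lsl_at (LP (LK LD1_c7 LD2_c33 LD3_c3))
theorem f804957 : Led Lsl_at (LP (LK LD1_c7 LD2_c33 LD3_c3)) = v22237 :=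
  Lrfl
theorem f804958 : Led Lsl_af (LP (LK LD1_c7 LD2_c33 LD3_c3)) = v22237 :=
  Lgr Lrot0 (Lpr_at (f804957 IH) (Lpn v22237))
theorem f109819 : Led Lsl_gt (LP (LK LD1_c3 LD2_c46 LD3_c3)) = (LP (LK LD1_c7 LD2_c33 LD3_c3)) :=
  Lre_g IH (LK LD1_c3 LD2_c46 LD3_c3) (LK LD1_c7 LD2_c33 LD3_c3) Lrfl Lrfl
theorem f804961 : Led Lsl_ft (LP (LK LD1_c7 LD2_c33 LD3_c4)) = v22237 :=
  Lgr Lrot2 (Lpr_gt (K52.f92653 IH) (Lpr_gt (f109819 IH) (Lpr_af (f804958 IH) (Lpn v22237))))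
theorem f804963 : Led Lsl_ff (LP (LK LD1_c7 LD2_c33 LD3_c4)) = v22237 :=
  Lgr Lrot3 (Lpr_ft (f804961 IH) (Lpn v22237))
theorem f92665 : Led Lsl_dt (LP (LK LD1_c7 LD2_c33 LD3_c4)) = (LP (LK LD1_c7 LD2_c39 LD3_c56)) :=
  Lgr Lrot42 (Lpr_df (K52.f92654 IH) (Lpn (LP (LK LD1_c7 LD2_c39 LD3_c56))))
theorem f92673 : Led Lsl_ft (LP (LK LD1_c7 LD2_c39 LD3_c56)) = (LP (LK LD1_c14 LD2_c26 LD3_c52)) :=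
  Lre_f IH (LK LD1_c7 LD2_c39 LD3_c56) (LK LD1_c14 LD2_c26 LD3_c52) Lrfl Lrfl
theorem f804964 : Led Lsl_dt (LP (LK LD1_c14 LD2_c26 LD3_c52)) = v22237 :=
  Lgr Lrot60 (Lpe (f92673 IH) (Lpe (f92665 IH) (Lpr_ff (f804963 IH) (Lpn v22237))))
theorem f109820 : Led Lsl_dt (LP (LK LD1_c7 LD2_c33 LD3_c3)) = (LP (LK LD1_c14 LD2_c14 LD3_c25)) :=
  Lre_d IH (LK LD1_c7 LD2_c33 LD3_c3) (LK LD1_c14 LD2_c14 LD3_c25) Lrfl Lrfl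
theorem f804965 : Led Lsl_af (LP (LK LD1_c14 LD2_c26 LD3_c52)) = (LP (LK LD1_c14 LD2_c14 LD3_c25)) :=
  Lgr Lrot117 (Lpr_dt (f804964 IH) (Lpe (f804958 IH) (Lpr_dt (f109820 IH) (Lpn (LP (LK LD1_c14 LD2_c14 LD3_c25))))))
theorem f804966 : Led Lsl_at (LP (LK LD1_c14 LD2_c14 LD3_c25)) = (LP (LK LD1_c14 LD2_c26 LD3_c52)) :=
  Leop (Lpr_af (f804965 IH) (Lpn (LP (LK LD1_c14 LD2_c14 LD3_c25))))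
theorem seed_1690 : LEOK LG_a (LK LD1_c14 LD2_c14 LD3_c25) :=
  Leoe_a (LK LD1_c14 LD2_c14 LD3_c25) (f804966 IH)
def v22247 : LQ := Led Lsl_dt (LP (LK LD1_c7 LD2_c33 LD3_c25))
theorem f805018 : Led Lsl_dt (LP (LK LD1_c7 LD2_c33 LD3_c25)) = v22247 :=
  Lrfl
theorem f786216 : Led Lsl_gt (LP (LK LD1_c14 LD2_c14 LD3_c48)) = K61.v20302 :=
  Lgr Lrot5 (Lpr_ft (K60.f518443 IH) (Lpr_at (K60.f102423 IH) (Lpr_gf (K61.f786215 IH) (Lpn K61.v20302))))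
theorem f518142 : Led Lsl_ct (LP (LK LD1_c7 LD2_c23 LD3_c50)) = (LP (LK LD1_c6 LD2_c54 LD3_c2)) :=
  Lgr Lrot59 (Lpr_cf (K47.f518138 IH) (Lpn (LP (LK LD1_c6 LD2_c54 LD3_c2))))
theorem f486114 : Led Lsl_dt (LP (LK LD1_c13 LD2_c54 LD3_c55)) = (LP (LK LD1_c23 LD2_c25 LD3_c22)) :=
  Lre_d IH (LK LD1_c13 LD2_c54 LD3_c55) (LK LD1_c23 LD2_c25 LD3_c22) Lrfl Lrfl
theorem f501798 : Led Lsl_ff (LP (LK LD1_c13 LD2_c57 LD3_c7)) = (LP (LK LD1_c23 LD2_c25 LD3_c22)) :=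
  Lgr Lrot19 (Lpr_dt (K48.f497993 IH) (Lpr_ft (K47.f501794 IH) (Lpr_dt (f486114 IH) (Lpn (LP (LK LD1_c23 LD2_c25 LD3_c22))))))
theorem f420064 : Led Lsl_dt (LP (LK LD1_c23 LD2_c41 LD3_c51)) = (LP (LK LD1_c14 LD2_c7 LD3_c19)) :=
  Lre_d IH (LK LD1_c23 LD2_c41 LD3_c51) (LK LD1_c14 LD2_c7 LD3_c19) Lrfl Lrfl
theorem f122117 : Led Lsl_dt (LP (LK LD1_c13 LD2_c57 LD3_c4)) = (LP (LK LD1_c23 LD2_c28 LD3_c52)) :=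
  Lre_d IH (LK LD1_c13 LD2_c57 LD3_c4) (LK LD1_c23 LD2_c28 LD3_c52) Lrfl Lrfl
theorem f497984 : Led Lsl_af (LP (LK LD1_c23 LD2_c41 LD3_c51)) = (LP (LK LD1_c23 LD2_c28 LD3_c52)) :=
  Lgr Lrot117 (Lpr_dt (f420064 IH) (Lpr_at (K47.f497976 IH) (Lpr_dt (f122117 IH) (Lpn (LP (LK LD1_c23 LD2_c28 LD3_c52))))))
theorem f497915 : Led Lsl_bt (LP (LK LD1_c23 LD2_c41 LD3_c51)) = (LP (LK LD1_c14 LD2_c7 LD3_c20)) :=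
  Lre_b IH (LK LD1_c23 LD2_c41 LD3_c51) (LK LD1_c14 LD2_c7 LD3_c20) Lrfl Lrfl
theorem f497912 : Led Lsl_af (LP (LK LD1_c13 LD2_c57 LD3_c44)) = (LP (LK LD1_c14 LD2_c7 LD3_c20)) :=
  Lgr Lrot0 (Lpr_at (K62.f497910 IH) (Lpn (LP (LK LD1_c14 LD2_c7 LD3_c20))))
theorem f147230 : Led Lsl_bt (LP (LK LD1_c13 LD2_c57 LD3_c44)) = (LP (LK LD1_c14 LD2_c6 LD3_c35)) :=
  Lgr Lrot127 (Lpr_bf (K34.f147228 IH) (Lpn (LP (LK LD1_c14 LD2_c6 LD3_c35))))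
theorem f497988 : Led Lsl_bt (LP (LK LD1_c13 LD2_c57 LD3_c7)) = (LP (LK LD1_c23 LD2_c28 LD3_c52)) :=
  Lre_b IH (LK LD1_c13 LD2_c57 LD3_c7) (LK LD1_c23 LD2_c28 LD3_c52) Lrfl Lrfl
theorem f497989 : Led Lsl_at (LP (LK LD1_c14 LD2_c6 LD3_c35)) = (LP (LK LD1_c13 LD2_c57 LD3_c7)) :=
  Lgr Lrot67 (Lpe (f147230 IH) (Lpr_af (f497912 IH) (Lpe (f497915 IH) (Lpr_af (f497984 IH) (Lpe (f497988 IH) (Lpn (LP (LK LD1_c13 LD2_c57 LD3_c7))))))))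
theorem f497991 : Led Lsl_af (LP (LK LD1_c14 LD2_c6 LD3_c35)) = (LP (LK LD1_c13 LD2_c57 LD3_c7)) :=
  Lgr Lrot0 (Lpr_at (f497989 IH) (Lpn (LP (LK LD1_c13 LD2_c57 LD3_c7))))
theorem f148227 : Led Lsl_et (LP (LK LD1_c7 LD2_c50 LD3_c17)) = (LP (LK LD1_c3 LD2_c54 LD3_c19)) :=
  Lre_e IH (LK LD1_c7 LD2_c50 LD3_c17) (LK LD1_c3 LD2_c54 LD3_c19) Lrfl Lrfl
theorem f148216 : Led Lsl_bt (LP (LK LD1_c3 LD2_c54 LD3_c21)) = (LP (LK LD1_c7 LD2_c50 LD3_c17)) :=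
  Lre_b IH (LK LD1_c3 LD2_c54 LD3_c21) (LK LD1_c7 LD2_c50 LD3_c17) Lrfl Lrfl
theorem f148217 : Led Lsl_bt (LP (LK LD1_c13 LD2_c55 LD3_c1)) = (LP (LK LD1_c7 LD2_c21 LD3_c39)) :=
  Lre_b IH (LK LD1_c13 LD2_c55 LD3_c1) (LK LD1_c7 LD2_c21 LD3_c39) Lrfl Lrfl
theorem f148218 : Led Lsl_dt (LP (LK LD1_c7 LD2_c50 LD3_c17)) = (LP (LK LD1_c13 LD2_c55 LD3_c1)) :=
  Lgr Lrot79 (Lpe (f148216 IH) (Lpr_df (K33.f148169 IH) (Lpe (f148217 IH) (Lpn (LP (LK LD1_c13 LD2_c55 LD3_c1))))))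
theorem f486153 : Led Lsl_gf (LP (LK LD1_c14 LD2_c6 LD3_c35)) = (LP (LK LD1_c13 LD2_c55 LD3_c1)) :=
  Lgr Lrot145 (Lpe (K34.f123694 IH) (Lpr_et (K34.f123693 IH) (Lpe (K5.f123689 IH) (Lpr_dt (K5.f116459 IH) (Lpr_gt (K5.f123896 IH) (Lpe (K28.f123926 IH) (Lpr_et (K33.f123930 IH) (Lpr_gt (K33.f486147 IH) (Lpe (f148227 IH) (Lpr_dt (f148218 IH) (Lpn (LP (LK LD1_c13 LD2_c55 LD3_c1)))))))))))))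
theorem f501801 : Led Lsl_gf (LP (LK LD1_c13 LD2_c55 LD3_c1)) = (LP (LK LD1_c23 LD2_c25 LD3_c22)) :=
  Lgr Lrot47 (Lpe (f486153 IH) (Lpr_af (f497991 IH) (Lpr_ff (f501798 IH) (Lpn (LP (LK LD1_c23 LD2_c25 LD3_c22))))))
theorem f148165 : Led Lsl_bt (LP (LK LD1_c7 LD2_c50 LD3_c17)) = (LP (LK LD1_c3 LD2_c54 LD3_c21)) :=
  Lre_b IH (LK LD1_c7 LD2_c50 LD3_c17) (LK LD1_c3 LD2_c54 LD3_c21) Lrfl Lrfl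
theorem f148166 : Led Lsl_bt (LP (LK LD1_c7 LD2_c21 LD3_c39)) = (LP (LK LD1_c13 LD2_c55 LD3_c1)) :=
  Lre_b IH (LK LD1_c7 LD2_c21 LD3_c39) (LK LD1_c13 LD2_c55 LD3_c1) Lrfl Lrfl
theorem f148167 : Led Lsl_df (LP (LK LD1_c7 LD2_c50 LD3_c17)) = (LP (LK LD1_c13 LD2_c55 LD3_c1)) :=
  Lgr Lrot12 (Lpr_bt (f148165 IH) (Lpr_dt (K33.f148163 IH) (Lpr_bt (f148166 IH) (Lpn (LP (LK LD1_c13 LD2_c55 LD3_c1))))))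
theorem f805025 : Led Lsl_cf (LP (LK LD1_c7 LD2_c50 LD3_c17)) = v22247 :=
  Lgr Lrot14 (Lpr_df (f148167 IH) (Lpr_gf (f501801 IH) (Lpe (f486114 IH) (Lpe (K47.f518136 IH) (Lpr_ct (f518142 IH) (Lpe (K48.f518158 IH) (Lpr_dt (K60.f486105 IH) (Lpr_gt (f786216 IH) (Lpqs (K61.f788703 IH) (Lpr_dt (f805018 IH) (Lpn v22247)))))))))))
theorem f805027 : Led Lsl_et (LP (LK LD1_c7 LD2_c34 LD3_c61)) = v22247 :=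
  Lgr Lrot158 (Lpr_cf (K33.f486137 IH) (Lpe (f148227 IH) (Lpr_cf (f805025 IH) (Lpn v22247))))
theorem f484929 : Led Lsl_et (LP (LK LD1_c13 LD2_c17 LD3_c31)) = (LP (LK LD1_c22 LD2_c33 LD3_c23)) :=
  Lre_e IH (LK LD1_c13 LD2_c17 LD3_c31) (LK LD1_c22 LD2_c33 LD3_c23) Lrfl Lrfl
theorem f654750 : Led Lsl_at (LP (LK LD1_c22 LD2_c33 LD3_c23)) = (LP (LK LD1_c13 LD2_c24 LD3_c26)) :=
  Lgr Lrot80 (Lpe (f484929 IH) (Lpr_af (K46.f654744 IH) (Lpe (K34.f466300 IH) (Lpn (LP (LK LD1_c13 LD2_c24 LD3_c26))))))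
theorem f515604 : Led Lsl_gf (LP (LK LD1_c24 LD2_c3 LD3_c42)) = (LP (LK LD1_c14 LD2_c47 LD3_c3)) :=
  Lgr Lrot76 (Lpe (K33.f485129 IH) (Lpr_ff (K33.f515596 IH) (Lpr_gt (K62.f486151 IH) (Lpn (LP (LK LD1_c14 LD2_c47 LD3_c3))))))
theorem f607902 : Led Lsl_gf (LP (LK LD1_c13 LD2_c24 LD3_c26)) = (LP (LK LD1_c7 LD2_c34 LD3_c34)) :=
  Lgr Lrot144 (Lpr_dt (K34.f466301 IH) (Lpe (K34.f516115 IH) (Lpr_dt (K33.f484905 IH) (Lpe (K33.f484904 IH) (Lpe (K33.f515556 IH) (Lpr_gf (f515604 IH) (Lpr_df (K62.f607893 IH) (Lpe (K57.f522877 IH) (Lpr_cf (K34.f523076 IH) (Lpn (LP (LK LD1_c7 LD2_c34 LD3_c34))))))))))))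
theorem f92871 : Led Lsl_gt (LP (LK LD1_c14 LD2_c17 LD3_c8)) = (LP (LK LD1_c7 LD2_c34 LD3_c34)) :=
  Lre_g IH (LK LD1_c14 LD2_c17 LD3_c8) (LK LD1_c7 LD2_c34 LD3_c34) Lrfl Lrfl
theorem f654756 : Led Lsl_ff (LP (LK LD1_c22 LD2_c33 LD3_c23)) = (LP (LK LD1_c14 LD2_c17 LD3_c8)) :=
  Lgr Lrot52 (Lpr_at (f654750 IH) (Lpr_gf (f607902 IH) (Lpe (f92871 IH) (Lpn (LP (LK LD1_c14 LD2_c17 LD3_c8))))))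
theorem f92872 : Led Lsl_dt (LP (LK LD1_c23 LD2_c54 LD3_c37)) = (LP (LK LD1_c14 LD2_c17 LD3_c8)) :=
  Lre_d IH (LK LD1_c23 LD2_c54 LD3_c37) (LK LD1_c14 LD2_c17 LD3_c8) Lrfl Lrfl
theorem f654758 : Led Lsl_ft (LP (LK LD1_c14 LD2_c24 LD3_c45)) = (LP (LK LD1_c23 LD2_c54 LD3_c37)) :=
  Lgr Lrot54 (Lpe (K39.f484925 IH) (Lpr_ff (f654756 IH) (Lpe (f92872 IH) (Lpn (LP (LK LD1_c23 LD2_c54 LD3_c37))))))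
theorem f484773 : Led Lsl_gt (LP (LK LD1_c7 LD2_c38 LD3_c48)) = (LP (LK LD1_c14 LD2_c24 LD3_c44)) :=
  Lre_g IH (LK LD1_c7 LD2_c38 LD3_c48) (LK LD1_c14 LD2_c24 LD3_c44) Lrfl Lrfl
theorem f654771 : Led Lsl_af (LP (LK LD1_c14 LD2_c24 LD3_c44)) = (LP (LK LD1_c23 LD2_c54 LD3_c37)) :=
  Lgr Lrot31 (Lpe (f484773 IH) (Lpe (K39.f484769 IH) (Lpr_ft (f654758 IH) (Lpn (LP (LK LD1_c23 LD2_c54 LD3_c37))))))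
theorem f484927 : Led Lsl_df (LP (LK LD1_c22 LD2_c33 LD3_c23)) = (LP (LK LD1_c14 LD2_c24 LD3_c45)) :=
  Lgr Lrot38 (Lpr_dt (K39.f484925 IH) (Lpn (LP (LK LD1_c14 LD2_c24 LD3_c45))))
theorem f654754 : Led Lsl_af (LP (LK LD1_c14 LD2_c24 LD3_c45)) = (LP (LK LD1_c22 LD2_c42 LD3_c38)) :=
  Lgr Lrot117 (Lpe (f484927 IH) (Lpr_at (f654750 IH) (Lpr_dt (K34.f466301 IH) (Lpn (LP (LK LD1_c22 LD2_c42 LD3_c38))))))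
theorem f654781 : Led Lsl_ft (LP (LK LD1_c14 LD2_c24 LD3_c44)) = (LP (LK LD1_c22 LD2_c42 LD3_c38)) :=
  Lgr Lrot101 (Lpr_af (f654771 IH) (Lpe (f654758 IH) (Lpr_af (f654754 IH) (Lpn (LP (LK LD1_c22 LD2_c42 LD3_c38))))))
theorem f654785 : Led Lsl_ff (LP (LK LD1_c14 LD2_c24 LD3_c44)) = (LP (LK LD1_c22 LD2_c42 LD3_c38)) :=
  Lgr Lrot3 (Lpr_ft (f654781 IH) (Lpn (LP (LK LD1_c22 LD2_c42 LD3_c38))))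
theorem f654774 : Led Lsl_at (LP (LK LD1_c14 LD2_c24 LD3_c44)) = (LP (LK LD1_c23 LD2_c54 LD3_c37)) :=
  Lgr Lrot100 (Lpr_af (f654771 IH) (Lpn (LP (LK LD1_c23 LD2_c54 LD3_c37))))
theorem f654791 : Led Lsl_gf (LP (LK LD1_c23 LD2_c54 LD3_c37)) = (LP (LK LD1_c14 LD2_c24 LD3_c40)) :=
  Lgr Lrot76 (Lpe (f654774 IH) (Lpr_ff (f654785 IH) (Lpe (K34.f516115 IH) (Lpn (LP (LK LD1_c14 LD2_c24 LD3_c40))))))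
theorem f484897 : Led Lsl_ff (LP (LK LD1_c13 LD2_c9 LD3_c5)) = (LP (LK LD1_c14 LD2_c24 LD3_c40)) :=
  Lgr Lrot19 (Lpr_dt (K33.f484892 IH) (Lpr_ft (K33.f484890 IH) (Lpr_dt (K33.f484896 IH) (Lpn (LP (LK LD1_c14 LD2_c24 LD3_c40))))))
theorem f654793 : Led Lsl_gt (LP (LK LD1_c23 LD2_c54 LD3_c37)) = (LP (LK LD1_c14 LD2_c17 LD3_c58)) :=
  Lgr Lrot46 (Lpr_gf (f654791 IH) (Lpe (f484897 IH) (Lpr_at (K48.f516099 IH) (Lpn (LP (LK LD1_c14 LD2_c17 LD3_c58))))))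
theorem f523406 : Led Lsl_dt (LP (LK LD1_c14 LD2_c17 LD3_c8)) = (LP (LK LD1_c23 LD2_c54 LD3_c37)) :=
  Lre_d IH (LK LD1_c14 LD2_c17 LD3_c8) (LK LD1_c23 LD2_c54 LD3_c37) Lrfl Lrfl
theorem f484765 : Led Lsl_dt (LP (LK LD1_c13 LD2_c9 LD3_c6)) = (LP (LK LD1_c22 LD2_c21 LD3_c35)) :=
  Lre_d IH (LK LD1_c13 LD2_c9 LD3_c6) (LK LD1_c22 LD2_c21 LD3_c35) Lrfl Lrfl
theorem f523324 : Led Lsl_ft (LP (LK LD1_c22 LD2_c21 LD3_c35)) = (LP (LK LD1_c14 LD2_c17 LD3_c4)) :=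
  Lgr Lrot54 (Lpe (f484765 IH) (Lpr_ff (K34.f523319 IH) (Lpr_df (K34.f92880 IH) (Lpn (LP (LK LD1_c14 LD2_c17 LD3_c4))))))
theorem f523404 : Led Lsl_gt (LP (LK LD1_c22 LD2_c21 LD3_c35)) = (LP (LK LD1_c14 LD2_c17 LD3_c8)) :=
  Lgr Lrot5 (Lpr_ft (f523324 IH) (Lpr_at (K34.f92860 IH) (Lpe (f92871 IH) (Lpn (LP (LK LD1_c14 LD2_c17 LD3_c8))))))
def v7729 : LQ := Led Lsl_et (LP (LK LD1_c3 LD2_c55 LD3_c59))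
theorem f668056 : Led Lsl_et (LP (LK LD1_c3 LD2_c55 LD3_c59)) = v7729 :=
  Lrfl
theorem f805029 : Led Lsl_gf v7729 = v22247 :=
  Lgr Lrot141 (Lpe (f668056 IH) (Lpr_dt (K57.f471235 IH) (Lpe (K57.f534683 IH) (Lpe (K34.f520871 IH) (Lpe (K47.f523355 IH) (Lpr_gt (f523404 IH) (Lpr_dt (f523406 IH) (Lpr_gt (f654793 IH) (Lpe (K33.f89166 IH) (Lpr_et (f805027 IH) (Lpn v22247)))))))))))
theorem f799037 : Led Lsl_ct v7729 = K62.v21748 :=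
  Lgr Lrot15 (Lpe (f668056 IH) (Lpr_cf (K29.f471180 IH) (Lpr_ef (K62.f799035 IH) (Lpn K62.v21748))))
theorem f800618 : Led Lsl_ct (LP (LK LD1_c23 LD2_c31 LD3_c32)) = (LP (LK LD1_c14 LD2_c9 LD3_c51)) :=
  Lgr Lrot59 (Lpr_cf (K62.f800616 IH) (Lpn (LP (LK LD1_c14 LD2_c9 LD3_c51))))
theorem f518123 : Led Lsl_gt (LP (LK LD1_c13 LD2_c59 LD3_c25)) = (LP (LK LD1_c7 LD2_c23 LD3_c51)) :=
  Lre_g IH (LK LD1_c13 LD2_c59 LD3_c25) (LK LD1_c7 LD2_c23 LD3_c51) Lrfl Lrfl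
theorem f805024 : Led Lsl_ct (LP (LK LD1_c7 LD2_c50 LD3_c17)) = v22247 :=
  Lgr Lrot7 (Lpr_df (f148167 IH) (Lpr_gf (f501801 IH) (Lpe (f486114 IH) (Lpe (K47.f518136 IH) (Lpr_cf (K47.f518138 IH) (Lpe (K48.f518158 IH) (Lpr_dt (K60.f486105 IH) (Lpr_gt (f786216 IH) (Lpqs (K61.f788703 IH) (Lpr_dt (f805018 IH) (Lpn v22247)))))))))))
theorem f148224 : Led Lsl_gt (LP (LK LD1_c14 LD2_c47 LD3_c7)) = (LP (LK LD1_c7 LD2_c50 LD3_c17)) :=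
  Lre_g IH (LK LD1_c14 LD2_c47 LD3_c7) (LK LD1_c7 LD2_c50 LD3_c17) Lrfl Lrfl
theorem f805030 : Led Lsl_dt (LP (LK LD1_c13 LD2_c59 LD3_c25)) = (LP (LK LD1_c14 LD2_c47 LD3_c7)) :=
  Lgr Lrot6 (Lpr_gt (f518123 IH) (Lpr_ct (K62.f517835 IH) (Lpr_gt (K62.f518597 IH) (Lpr_ct (f800618 IH) (Lpr_df (K62.f799034 IH) (Lpe (f799037 IH) (Lpr_gf (f805029 IH) (Lpe (f805024 IH) (Lpe (f148224 IH) (Lpn (LP (LK LD1_c14 LD2_c47 LD3_c7))))))))))))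
theorem f805031 : Led Lsl_dt (LP (LK LD1_c13 LD2_c59 LD3_c25)) = (LP (LK LD1_c14 LD2_c47 LD3_c7)) :=
  Leop (Lpe (f805030 IH) (Lpn (LP (LK LD1_c13 LD2_c59 LD3_c25))))
theorem seed_1691 : LEOK LG_d (LK LD1_c13 LD2_c59 LD3_c25) :=
  Leoe_d (LK LD1_c13 LD2_c59 LD3_c25) (f805031 IH)
def v22255 : LQ := Led Lsl_at (LP (LK LD1_c7 LD2_c33 LD3_c35))
theorem f805055 : Led Lsl_at (LP (LK LD1_c7 LD2_c33 LD3_c35)) = v22255 :=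
  Lrfl
theorem f466863 : Led Lsl_bt (LP (LK LD1_c7 LD2_c33 LD3_c35)) = (LP (LK LD1_c3 LD2_c46 LD3_c16)) :=
  Lre_b IH (LK LD1_c7 LD2_c33 LD3_c35) (LK LD1_c3 LD2_c46 LD3_c16) Lrfl Lrfl
theorem f474531 : Led Lsl_bt (LP (LK LD1_c7 LD2_c1 LD3_c11)) = (LP (LK LD1_c13 LD2_c18 LD3_c57)) :=
  Lre_b IH (LK LD1_c7 LD2_c1 LD3_c11) (LK LD1_c13 LD2_c18 LD3_c57) Lrfl Lrfl
theorem f474588 : Led Lsl_ff (LP (LK LD1_c7 LD2_c33 LD3_c35)) = (LP (LK LD1_c13 LD2_c18 LD3_c57)) :=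
  Lgr Lrot25 (Lpr_bt (f466863 IH) (Lpr_ft (K29.f474559 IH) (Lpr_bt (f474531 IH) (Lpn (LP (LK LD1_c13 LD2_c18 LD3_c57))))))
theorem f805059 : Led Lsl_ff (LP (LK LD1_c13 LD2_c7 LD3_c10)) = v22255 :=
  Lgr Lrot30 (Lpr_at (K29.f474635 IH) (Lpe (f474588 IH) (Lpr_at (f805055 IH) (Lpn v22255))))
theorem f805062 : Led Lsl_ft (LP (LK LD1_c13 LD2_c7 LD3_c10)) = v22255 :=
  Lgr Lrot48 (Lpr_ff (f805059 IH) (Lpn v22255))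
theorem f805056 : Led Lsl_af (LP (LK LD1_c7 LD2_c33 LD3_c35)) = v22255 :=
  Lgr Lrot0 (Lpr_at (f805055 IH) (Lpn v22255))
theorem f466818 : Led Lsl_gt (LP (LK LD1_c14 LD2_c15 LD3_c26)) = (LP (LK LD1_c7 LD2_c33 LD3_c35)) :=
  Lre_g IH (LK LD1_c14 LD2_c15 LD3_c26) (LK LD1_c7 LD2_c33 LD3_c35) Lrfl Lrfl
theorem f805063 : Led Lsl_gt (LP (LK LD1_c13 LD2_c7 LD3_c10)) = (LP (LK LD1_c14 LD2_c15 LD3_c26)) :=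
  Lgr Lrot5 (Lpr_ft (f805062 IH) (Lpe (f805056 IH) (Lpe (f466818 IH) (Lpn (LP (LK LD1_c14 LD2_c15 LD3_c26))))))
theorem f805064 : Led Lsl_gt (LP (LK LD1_c13 LD2_c7 LD3_c10)) = (LP (LK LD1_c14 LD2_c15 LD3_c26)) :=
  Leop (Lpe (f805063 IH) (Lpn (LP (LK LD1_c13 LD2_c7 LD3_c10))))
theorem seed_1692 : LEOK LG_g (LK LD1_c13 LD2_c7 LD3_c10) :=
  Leoe_g (LK LD1_c13 LD2_c7 LD3_c10) (f805064 IH)
def v22256 : LQ := Led Lsl_at (LP (LK LD1_c7 LD2_c33 LD3_c36))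
theorem f805067 : Led Lsl_at (LP (LK LD1_c7 LD2_c33 LD3_c36)) = v22256 :=
  Lrfl
theorem f805071 : Led Lsl_ef K61.v7385 = v22256 :=
  Lgr Lrot20 (Lpe (K61.f664844 IH) (Lpr_et (K47.f466800 IH) (Lpr_at (f805067 IH) (Lpn v22256))))
theorem f95177 : Led Lsl_gt (LP (LK LD1_c14 LD2_c19 LD3_c47)) = (LP (LK LD1_c7 LD2_c36 LD3_c2)) :=
  Lre_g IH (LK LD1_c14 LD2_c19 LD3_c47) (LK LD1_c7 LD2_c36 LD3_c2) Lrfl Lrfl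
theorem f805074 : Led Lsl_df (LP (LK LD1_c14 LD2_c19 LD3_c47)) = v22256 :=
  Lgr Lrot170 (Lpr_gt (f95177 IH) (Lpe (K8.f17115 IH) (Lpr_et (K8.f17114 IH) (Lpr_gt (K3.f15274 IH) (Lpr_dt (K0.f15657 IH) (Lpr_gt (K7.f16782 IH) (Lpr_df (K32.f156712 IH) (Lpr_et (K61.f787503 IH) (Lpe (K61.f787511 IH) (Lpr_ef (f805071 IH) (Lpn v22256)))))))))))
theorem f478322 : Led Lsl_dt (LP (LK LD1_c7 LD2_c42 LD3_c33)) = (LP (LK LD1_c7 LD2_c33 LD3_c36)) :=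
  Lgr Lrot79 (Lpe (K48.f478321 IH) (Lpr_df (K47.f478310 IH) (Lpe (K47.f466773 IH) (Lpn (LP (LK LD1_c7 LD2_c33 LD3_c36))))))
theorem f805075 : Led Lsl_at (LP (LK LD1_c14 LD2_c19 LD3_c47)) = (LP (LK LD1_c7 LD2_c42 LD3_c33)) :=
  Lgr Lrot51 (Lpr_df (f805074 IH) (Lpe (f805067 IH) (Lpe (f478322 IH) (Lpn (LP (LK LD1_c7 LD2_c42 LD3_c33))))))
theorem f805076 : Led Lsl_at (LP (LK LD1_c14 LD2_c19 LD3_c47)) = (LP (LK LD1_c7 LD2_c42 LD3_c33)) :=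
  Leop (Lpe (f805075 IH) (Lpn (LP (LK LD1_c14 LD2_c19 LD3_c47))))
theorem seed_1693 : LEOK LG_a (LK LD1_c14 LD2_c19 LD3_c47) :=
  Leoe_a (LK LD1_c14 LD2_c19 LD3_c47) (f805076 IH)
def v22260 : LQ := Led Lsl_et (LP (LK LD1_c7 LD2_c33 LD3_c40))
theorem f805132 : Led Lsl_et (LP (LK LD1_c7 LD2_c33 LD3_c40)) = v22260 :=
  Lrfl
theorem f805135 : Led Lsl_ef (LP (LK LD1_c7 LD2_c33 LD3_c40)) = v22260 :=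
  Lgr Lrot88 (Lpr_et (f805132 IH) (Lpn v22260))
theorem f466930 : Led Lsl_bt (LP (LK LD1_c7 LD2_c33 LD3_c40)) = (LP (LK LD1_c3 LD2_c46 LD3_c18)) :=
  Lre_b IH (LK LD1_c7 LD2_c33 LD3_c40) (LK LD1_c3 LD2_c46 LD3_c18) Lrfl Lrfl
theorem f805137 : Led Lsl_bt K48.v7387 = v22260 :=
  Lgr Lrot119 (Lpe (K48.f664860 IH) (Lpe (f466930 IH) (Lpr_ef (f805135 IH) (Lpn v22260))))
theorem f461887 : Led Lsl_et (LP (LK LD1_c7 LD2_c32 LD3_c23)) = (LP (LK LD1_c14 LD2_c13 LD3_c11)) :=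
  Lre_e IH (LK LD1_c7 LD2_c32 LD3_c23) (LK LD1_c14 LD2_c13 LD3_c11) Lrfl Lrfl
theorem f472291 : Led Lsl_et (LP (LK LD1_c14 LD2_c10 LD3_c43)) = (LP (LK LD1_c7 LD2_c30 LD3_c28)) :=
  Lre_e IH (LK LD1_c14 LD2_c10 LD3_c43) (LK LD1_c7 LD2_c30 LD3_c28) Lrfl Lrfl
theorem f664354 : Led Lsl_dt (LP (LK LD1_c14 LD2_c13 LD3_c11)) = (LP (LK LD1_c14 LD2_c10 LD3_c43)) :=
  Lgr Lrot77 (Lpe (f461887 IH) (Lpr_df (K48.f664350 IH) (Lpe (K48.f664344 IH) (Lpe (K48.f472259 IH) (Lpe (f472291 IH) (Lpn (LP (LK LD1_c14 LD2_c10 LD3_c43))))))))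
theorem f461885 : Led Lsl_ft (LP (LK LD1_c23 LD2_c48 LD3_c37)) = (LP (LK LD1_c14 LD2_c13 LD3_c11)) :=
  Lre_f IH (LK LD1_c23 LD2_c48 LD3_c37) (LK LD1_c14 LD2_c13 LD3_c11) Lrfl Lrfl
theorem f530554 : Led Lsl_ft (LP (LK LD1_c14 LD2_c10 LD3_c43)) = (LP (LK LD1_c23 LD2_c46 LD3_c13)) :=
  Lre_f IH (LK LD1_c14 LD2_c10 LD3_c43) (LK LD1_c23 LD2_c46 LD3_c13) Lrfl Lrfl
theorem f664360 : Led Lsl_df (LP (LK LD1_c23 LD2_c48 LD3_c37)) = (LP (LK LD1_c23 LD2_c46 LD3_c13)) :=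
  Lgr Lrot78 (Lpr_ft (f461885 IH) (Lpr_dt (f664354 IH) (Lpr_ft (f530554 IH) (Lpn (LP (LK LD1_c23 LD2_c46 LD3_c13))))))
theorem f664382 : Led Lsl_dt (LP (LK LD1_c23 LD2_c48 LD3_c37)) = (LP (LK LD1_c23 LD2_c46 LD3_c13)) :=
  Lgr Lrot42 (Lpr_df (f664360 IH) (Lpn (LP (LK LD1_c23 LD2_c46 LD3_c13))))
theorem f472342 : Led Lsl_et (LP (LK LD1_c3 LD2_c53 LD3_c27)) = (LP (LK LD1_c7 LD2_c48 LD3_c33)) :=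
  Lre_e IH (LK LD1_c3 LD2_c53 LD3_c27) (LK LD1_c7 LD2_c48 LD3_c33) Lrfl Lrfl
theorem f530561 : Led Lsl_at (LP (LK LD1_c7 LD2_c48 LD3_c33)) = (LP (LK LD1_c14 LD2_c10 LD3_c43)) :=
  Lgr Lrot80 (Lpe (f472342 IH) (Lpr_af (K48.f530557 IH) (Lpe (f472291 IH) (Lpn (LP (LK LD1_c14 LD2_c10 LD3_c43))))))
theorem f530568 : Led Lsl_ft (LP (LK LD1_c14 LD2_c44 LD3_c11)) = (LP (LK LD1_c7 LD2_c48 LD3_c33)) :=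
  Lre_f IH (LK LD1_c14 LD2_c44 LD3_c11) (LK LD1_c7 LD2_c48 LD3_c33) Lrfl Lrfl
theorem f530569 : Led Lsl_af (LP (LK LD1_c14 LD2_c44 LD3_c11)) = (LP (LK LD1_c23 LD2_c46 LD3_c13)) :=
  Lgr Lrot45 (Lpr_ft (f530568 IH) (Lpr_at (f530561 IH) (Lpr_ft (f530554 IH) (Lpn (LP (LK LD1_c23 LD2_c46 LD3_c13))))))
theorem f530574 : Led Lsl_dt (LP (LK LD1_c14 LD2_c44 LD3_c11)) = (LP (LK LD1_c24 LD2_c30 LD3_c7)) :=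
  Lre_d IH (LK LD1_c14 LD2_c44 LD3_c11) (LK LD1_c24 LD2_c30 LD3_c7) Lrfl Lrfl
theorem f664384 : Led Lsl_af (LP (LK LD1_c23 LD2_c48 LD3_c37)) = (LP (LK LD1_c24 LD2_c30 LD3_c7)) :=
  Lgr Lrot117 (Lpr_dt (f664382 IH) (Lpe (f530569 IH) (Lpr_dt (f530574 IH) (Lpn (LP (LK LD1_c24 LD2_c30 LD3_c7))))))
theorem f664387 : Led Lsl_ft (LP (LK LD1_c14 LD2_c44 LD3_c10)) = (LP (LK LD1_c24 LD2_c30 LD3_c7)) :=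
  Lre_f IH (LK LD1_c14 LD2_c44 LD3_c10) (LK LD1_c24 LD2_c30 LD3_c7) Lrfl Lrfl
theorem f664388 : Led Lsl_at (LP (LK LD1_c14 LD2_c13 LD3_c11)) = (LP (LK LD1_c14 LD2_c44 LD3_c10)) :=
  Lgr Lrot66 (Lpe (f461885 IH) (Lpr_af (f664384 IH) (Lpe (f664387 IH) (Lpn (LP (LK LD1_c14 LD2_c44 LD3_c10))))))
theorem f472353 : Led Lsl_et (LP (LK LD1_c14 LD2_c44 LD3_c10)) = (LP (LK LD1_c7 LD2_c48 LD3_c34)) :=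
  Lre_e IH (LK LD1_c14 LD2_c44 LD3_c10) (LK LD1_c7 LD2_c48 LD3_c34) Lrfl Lrfl
theorem f664395 : Led Lsl_af (LP (LK LD1_c7 LD2_c32 LD3_c23)) = (LP (LK LD1_c7 LD2_c48 LD3_c34)) :=
  Lgr Lrot50 (Lpr_et (f461887 IH) (Lpr_at (f664388 IH) (Lpr_et (f472353 IH) (Lpn (LP (LK LD1_c7 LD2_c48 LD3_c34))))))
theorem f664781 : Led Lsl_ff (LP (LK LD1_c7 LD2_c48 LD3_c34)) = K48.v7373 :=
  Lgr Lrot52 (Lpe (f664395 IH) (Lpr_gf (K41.f111706 IH) (Lpr_gf (K48.f664779 IH) (Lpn K48.v7373))))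
theorem f665752 : Led Lsl_ft (LP (LK LD1_c3 LD2_c53 LD3_c28)) = K48.v7470 :=
  Lgr Lrot54 (Lpe (K34.f472347 IH) (Lpr_ff (f664781 IH) (Lpr_df (K48.f665750 IH) (Lpn K48.v7470))))
theorem f665762 : Led Lsl_cf K48.v2701 = K48.v7470 :=
  Lgr Lrot108 (Lpe (K48.f530474 IH) (Lpr_ct (K34.f472349 IH) (Lpr_ft (f665752 IH) (Lpn K48.v7470))))
theorem f428940 : Led Lsl_bt (LP (LK LD1_c23 LD2_c45 LD3_c34)) = (LP (LK LD1_c14 LD2_c10 LD3_c23)) :=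
  Lre_b IH (LK LD1_c23 LD2_c45 LD3_c34) (LK LD1_c14 LD2_c10 LD3_c23) Lrfl Lrfl
theorem f805139 : Led Lsl_gf (LP (LK LD1_c14 LD2_c10 LD3_c23)) = v22260 :=
  Lgr Lrot124 (Lpe (f428940 IH) (Lpe (K37.f489508 IH) (Lpe (K39.f532128 IH) (Lpe (K33.f484754 IH) (Lpr_bt (K49.f484747 IH) (Lpr_gt (K48.f665748 IH) (Lpe (f665762 IH) (Lpqs (K48.f530536 IH) (Lpe (K48.f530172 IH) (Lpr_cf (K48.f664862 IH) (Lpr_bt (f805137 IH) (Lpn v22260))))))))))))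
theorem f15866 : Led Lsl_dt (LP (LK LD1_c6 LD2_c51 LD3_c33)) = (LP (LK LD1_c13 LD2_c2 LD3_c51)) :=
  Lre_d IH (LK LD1_c6 LD2_c51 LD3_c33) (LK LD1_c13 LD2_c2 LD3_c51) Lrfl Lrfl
theorem f18654 : Led Lsl_dt (LP (LK LD1_c6 LD2_c59 LD3_c47)) = (LP (LK LD1_c13 LD2_c16 LD3_c30)) :=
  Lre_d IH (LK LD1_c6 LD2_c59 LD3_c47) (LK LD1_c13 LD2_c16 LD3_c30) Lrfl Lrfl
theorem f466938 : Led Lsl_dt (LP (LK LD1_c7 LD2_c33 LD3_c40)) = (LP (LK LD1_c14 LD2_c15 LD3_c37)) :=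
  Lre_d IH (LK LD1_c7 LD2_c33 LD3_c40) (LK LD1_c14 LD2_c15 LD3_c37) Lrfl Lrfl
theorem f805140 : Led Lsl_gt (LP (LK LD1_c13 LD2_c16 LD3_c30)) = (LP (LK LD1_c14 LD2_c15 LD3_c37)) :=
  Lgr Lrot112 (Lpe (f18654 IH) (Lpr_et (K61.f18653 IH) (Lpr_gf (K2.f18648 IH) (Lpe (K2.f15864 IH) (Lpr_dt (f15866 IH) (Lpe (K37.f15872 IH) (Lpe (K37.f156634 IH) (Lpr_gf (f805139 IH) (Lpe (f805132 IH) (Lpr_dt (f466938 IH) (Lpn (LP (LK LD1_c14 LD2_c15 LD3_c37)))))))))))))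
theorem f805141 : Led Lsl_gt (LP (LK LD1_c13 LD2_c16 LD3_c30)) = (LP (LK LD1_c14 LD2_c15 LD3_c37)) :=
  Leop (Lpe (f805140 IH) (Lpn (LP (LK LD1_c13 LD2_c16 LD3_c30))))
theorem seed_1694 : LEOK LG_g (LK LD1_c13 LD2_c16 LD3_c30) :=
  Leoe_g (LK LD1_c13 LD2_c16 LD3_c30) (f805141 IH)
def v22262 : LQ := Led Lsl_gf (LP (LK LD1_c7 LD2_c33 LD3_c45))
theorem f805148 : Led Lsl_gf (LP (LK LD1_c7 LD2_c33 LD3_c45)) = v22262 :=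
  Lrfl
theorem f109534 : Led Lsl_et (LP (LK LD1_c3 LD2_c46 LD3_c21)) = (LP (LK LD1_c7 LD2_c33 LD3_c45)) :=
  Lre_e IH (LK LD1_c3 LD2_c46 LD3_c21) (LK LD1_c7 LD2_c33 LD3_c45) Lrfl Lrfl
theorem f202264 : Led Lsl_dt (LP (LK LD1_c5 LD2_c54 LD3_c56)) = (LP (LK LD1_c2 LD2_c53 LD3_c48)) :=
  Lre_d IH (LK LD1_c5 LD2_c54 LD3_c56) (LK LD1_c2 LD2_c53 LD3_c48) Lrfl Lrfl
theorem f546828 : Led Lsl_dt (LP (LK LD1_c3 LD2_c46 LD3_c21)) = (LP (LK LD1_c5 LD2_c54 LD3_c52)) :=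
  Lgr Lrot113 (Lpr_gf (K28.f109057 IH) (Lpe (K37.f546826 IH) (Lpr_gf (K37.f546824 IH) (Lpr_ct (K37.f546799 IH) (Lpq (K37.f546804 IH) (Lpr_gt (K37.f202278 IH) (Lpr_dt (K37.f202277 IH) (Lpe (K37.f202257 IH) (Lpr_dt (f202264 IH) (Lpr_ct (K39.f202276 IH) (Lpn (LP (LK LD1_c5 LD2_c54 LD3_c52)))))))))))))
theorem f475354 : Led Lsl_gf (LP (LK LD1_c13 LD2_c7 LD3_c26)) = (LP (LK LD1_c6 LD2_c56 LD3_c46)) :=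
  Lgr Lrot76 (Lpe (K34.f475343 IH) (Lpr_ff (K32.f475341 IH) (Lpr_gt (K41.f465274 IH) (Lpn (LP (LK LD1_c6 LD2_c56 LD3_c46))))))
theorem f564825 : Led Lsl_gt (LP (LK LD1_c7 LD2_c47 LD3_c58)) = (LP (LK LD1_c13 LD2_c40 LD3_c25)) :=
  Lgr Lrot82 (Lpe (K34.f475100 IH) (Lpe (K34.f475431 IH) (Lpr_gf (f475354 IH) (Lpe (K41.f470648 IH) (Lpe (K41.f476386 IH) (Lpe (K41.f564584 IH) (Lpr_bf (K41.f564577 IH) (Lpe (K41.f471519 IH) (Lpr_gf (K41.f564821 IH) (Lpr_cf (K6.f96152 IH) (Lpn (LP (LK LD1_c13 LD2_c40 LD3_c25)))))))))))))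
theorem f564827 : Led Lsl_gf (LP (LK LD1_c7 LD2_c13 LD3_c35)) = (LP (LK LD1_c13 LD2_c40 LD3_c25)) :=
  Lgr Lrot76 (Lpe (K34.f461979 IH) (Lpr_ff (K34.f475069 IH) (Lpr_gt (f564825 IH) (Lpn (LP (LK LD1_c13 LD2_c40 LD3_c25))))))
theorem f461992 : Led Lsl_dt (LP (LK LD1_c7 LD2_c13 LD3_c35)) = (LP (LK LD1_c13 LD2_c40 LD3_c45)) :=
  Lre_d IH (LK LD1_c7 LD2_c13 LD3_c35) (LK LD1_c13 LD2_c40 LD3_c45) Lrfl Lrfl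
theorem f462036 : Led Lsl_gt (LP (LK LD1_c13 LD2_c40 LD3_c45)) = (LP (LK LD1_c23 LD2_c6 LD3_c17)) :=
  Lre_g IH (LK LD1_c13 LD2_c40 LD3_c45) (LK LD1_c23 LD2_c6 LD3_c17) Lrfl Lrfl
theorem f474935 : Led Lsl_ct (LP (LK LD1_c3 LD2_c53 LD3_c14)) = (LP (LK LD1_c7 LD2_c47 LD3_c58)) :=
  Lre_c IH (LK LD1_c3 LD2_c53 LD3_c14) (LK LD1_c7 LD2_c47 LD3_c58) Lrfl Lrfl
theorem f474943 : Led Lsl_dt (LP (LK LD1_c14 LD2_c42 LD3_c56)) = (LP (LK LD1_c7 LD2_c47 LD3_c58)) :=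
  Lre_d IH (LK LD1_c14 LD2_c42 LD3_c56) (LK LD1_c7 LD2_c47 LD3_c58) Lrfl Lrfl
theorem f475083 : Led Lsl_at (LP (LK LD1_c7 LD2_c47 LD3_c59)) = (LP (LK LD1_c14 LD2_c42 LD3_c56)) :=
  Lre_a IH (LK LD1_c7 LD2_c47 LD3_c59) (LK LD1_c14 LD2_c42 LD3_c56) Lrfl Lrfl
theorem f475087 : Led Lsl_gt (LP (LK LD1_c23 LD2_c6 LD3_c17)) = (LP (LK LD1_c14 LD2_c42 LD3_c56)) :=
  Lgr Lrot46 (Lpe (f462036 IH) (Lpr_ft (K29.f475080 IH) (Lpr_at (f475083 IH) (Lpn (LP (LK LD1_c14 LD2_c42 LD3_c56))))))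
theorem f466555 : Led Lsl_gt (LP (LK LD1_c13 LD2_c23 LD3_c22)) = (LP (LK LD1_c22 LD2_c41 LD3_c12)) :=
  Lre_g IH (LK LD1_c13 LD2_c23 LD3_c22) (LK LD1_c22 LD2_c41 LD3_c12) Lrfl Lrfl
theorem f526684 : Led Lsl_df (LP (LK LD1_c23 LD2_c6 LD3_c17)) = (LP (LK LD1_c22 LD2_c41 LD3_c12)) :=
  Lgr Lrot153 (Lpr_gt (f475087 IH) (Lpr_dt (f474943 IH) (Lpe (f474935 IH) (Lpe (K34.f474939 IH) (Lpe (K47.f476307 IH) (Lpr_df (K62.f526619 IH) (Lpe (K46.f18820 IH) (Lpe (K33.f63098 IH) (Lpr_gt (f466555 IH) (Lpn (LP (LK LD1_c22 LD2_c41 LD3_c12))))))))))))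
theorem f805151 : Led Lsl_et (LP (LK LD1_c22 LD2_c41 LD3_c12)) = v22262 :=
  Lgr Lrot185 (Lpe (f526684 IH) (Lpe (f462036 IH) (Lpe (f461992 IH) (Lpr_gf (f564827 IH) (Lpe (K6.f96151 IH) (Lpr_dt (K43.f556313 IH) (Lpe (K42.f556311 IH) (Lpe (f546828 IH) (Lpr_et (f109534 IH) (Lpr_gf (f805148 IH) (Lpn v22262)))))))))))
theorem f805152 : Led Lsl_ef (LP (LK LD1_c22 LD2_c41 LD3_c12)) = v22262 :=
  Lgr Lrot88 (Lpr_et (f805151 IH) (Lpn v22262))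
theorem f5277 : Led Lsl_bt (LP (LK LD1_c7 LD2_c16 LD3_c51)) = (LP (LK LD1_c3 LD2_c38 LD3_c19)) :=
  Lre_b IH (LK LD1_c7 LD2_c16 LD3_c51) (LK LD1_c3 LD2_c38 LD3_c19) Lrfl Lrfl
theorem f5278 : Led Lsl_ct (LP (LK LD1_c7 LD2_c16 LD3_c51)) = (LP (LK LD1_c7 LD2_c16 LD3_c51)) :=
  Lgr Lrot83 (Lpe (K47.f4421 IH) (Lpe (K29.f4263 IH) (Lpr_bf (K24.f5272 IH) (Lpe (K47.f4264 IH) (Lpe (f5277 IH) (Lpn (LP (LK LD1_c7 LD2_c16 LD3_c51))))))))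
theorem f5569 : Led Lsl_ct (LP (LK LD1_c13 LD2_c50 LD3_c13)) = (LP (LK LD1_c7 LD2_c18 LD3_c51)) :=
  Lre_c IH (LK LD1_c13 LD2_c50 LD3_c13) (LK LD1_c7 LD2_c18 LD3_c51) Lrfl Lrfl
theorem f805150 : Led Lsl_bt (LP (LK LD1_c13 LD2_c50 LD3_c13)) = v22262 :=
  Lgr Lrot130 (Lpr_ct (f5569 IH) (Lpe (K47.f5649 IH) (Lpe (f5278 IH) (Lpr_bt (f5277 IH) (Lpe (K29.f4270 IH) (Lpe (K47.f4375 IH) (Lpr_ct (K47.f660817 IH) (Lpe (K47.f661055 IH) (Lpe (K47.f109536 IH) (Lpr_gf (f805148 IH) (Lpn v22262)))))))))))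
theorem f608814 : Led Lsl_et (LP (LK LD1_c23 LD2_c19 LD3_c29)) = (LP (LK LD1_c13 LD2_c50 LD3_c13)) :=
  Lre_e IH (LK LD1_c23 LD2_c19 LD3_c29) (LK LD1_c13 LD2_c50 LD3_c13) Lrfl Lrfl
theorem f805153 : Led Lsl_bt (LP (LK LD1_c22 LD2_c41 LD3_c12)) = (LP (LK LD1_c23 LD2_c19 LD3_c29)) :=
  Lgr Lrot119 (Lpr_ef (f805152 IH) (Lpe (f805150 IH) (Lpe (f608814 IH) (Lpn (LP (LK LD1_c23 LD2_c19 LD3_c29))))))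
theorem f805154 : Led Lsl_bt (LP (LK LD1_c22 LD2_c41 LD3_c12)) = (LP (LK LD1_c23 LD2_c19 LD3_c29)) :=
  Leop (Lpe (f805153 IH) (Lpn (LP (LK LD1_c22 LD2_c41 LD3_c12))))
theorem seed_1695 : LEOK LG_b (LK LD1_c22 LD2_c41 LD3_c12) :=
  Leoe_b (LK LD1_c22 LD2_c41 LD3_c12) (f805154 IH)
def v22263 : LQ := Led Lsl_ft (LP (LK LD1_c7 LD2_c33 LD3_c45))
theorem f805188 : Led Lsl_ft (LP (LK LD1_c7 LD2_c33 LD3_c45)) = v22263 :=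
  Lrfl
theorem f805194 : Led Lsl_ff (LP (LK LD1_c7 LD2_c33 LD3_c45)) = v22263 :=
  Lgr Lrot3 (Lpr_ft (f805188 IH) (Lpn v22263))
theorem f805200 : Led Lsl_gf (LP (LK LD1_c7 LD2_c33 LD3_c49)) = v22263 :=
  Lgr Lrot47 (Lpr_gt (K47.f502725 IH) (Lpe (K41.f109538 IH) (Lpr_ff (f805194 IH) (Lpn v22263))))
theorem f155617 : Led Lsl_et (LP (LK LD1_c7 LD2_c18 LD3_c53)) = (LP (LK LD1_c13 LD2_c50 LD3_c19)) :=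
  Lre_e IH (LK LD1_c7 LD2_c18 LD3_c53) (LK LD1_c13 LD2_c50 LD3_c19) Lrfl Lrfl
theorem f795336 : Led Lsl_at (LP (LK LD1_c13 LD2_c50 LD3_c19)) = K62.v21377 :=
  Lgr Lrot80 (Lpe (f155617 IH) (Lpr_af (K32.f497663 IH) (Lpr_ef (K62.f795335 IH) (Lpn K62.v21377))))
theorem f795344 : Led Lsl_gt (LP (LK LD1_c14 LD2_c15 LD3_c43)) = K62.v21377 :=
  Lgr Lrot46 (Lpr_gf (K47.f610235 IH) (Lpr_ft (K47.f609435 IH) (Lpr_at (f795336 IH) (Lpn K62.v21377))))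
theorem f795334 : Led Lsl_cf (LP (LK LD1_c7 LD2_c17 LD3_c10)) = K62.v21377 :=
  Lgr Lrot39 (Lpr_et (K43.f121894 IH) (Lpr_ct (K24.f97497 IH) (Lpr_et (K62.f795331 IH) (Lpn K62.v21377))))
theorem f575408 : Led Lsl_ct (LP (LK LD1_c20 LD2_c32 LD3_c28)) = (LP (LK LD1_c11 LD2_c34 LD3_c36)) :=
  Lre_c IH (LK LD1_c20 LD2_c32 LD3_c28) (LK LD1_c11 LD2_c34 LD3_c36) Lrfl Lrfl
theorem f566920 : Led Lsl_df (LP (LK LD1_c11 LD2_c35 LD3_c12)) = (LP (LK LD1_c7 LD2_c33 LD3_c45)) :=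
  Lgr Lrot38 (Lpr_dt (K41.f566913 IH) (Lpn (LP (LK LD1_c7 LD2_c33 LD3_c45))))
theorem f566915 : Led Lsl_ft (LP (LK LD1_c11 LD2_c35 LD3_c12)) = (LP (LK LD1_c20 LD2_c33 LD3_c12)) :=
  Lre_f IH (LK LD1_c11 LD2_c35 LD3_c12) (LK LD1_c20 LD2_c33 LD3_c12) Lrfl Lrfl
theorem f805198 : Led Lsl_dt (LP (LK LD1_c20 LD2_c33 LD3_c12)) = v22263 :=
  Lgr Lrot60 (Lpe (f566915 IH) (Lpr_df (f566920 IH) (Lpr_ff (f805194 IH) (Lpn v22263))))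
theorem f109513 : Led Lsl_dt (LP (LK LD1_c7 LD2_c5 LD3_c33)) = (LP (LK LD1_c13 LD2_c26 LD3_c36)) :=
  Lre_d IH (LK LD1_c7 LD2_c5 LD3_c33) (LK LD1_c13 LD2_c26 LD3_c36) Lrfl Lrfl
theorem f109514 : Led Lsl_af (LP (LK LD1_c13 LD2_c38 LD3_c50)) = (LP (LK LD1_c13 LD2_c26 LD3_c36)) :=
  Lgr Lrot117 (Lpr_dt (K41.f109512 IH) (Lpr_at (K3.f109496 IH) (Lpr_dt (f109513 IH) (Lpn (LP (LK LD1_c13 LD2_c26 LD3_c36))))))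
theorem f109518 : Led Lsl_bt (LP (LK LD1_c7 LD2_c5 LD3_c35)) = (LP (LK LD1_c13 LD2_c26 LD3_c36)) :=
  Lre_b IH (LK LD1_c7 LD2_c5 LD3_c35) (LK LD1_c13 LD2_c26 LD3_c36) Lrfl Lrfl
theorem f441447 : Led Lsl_af (LP (LK LD1_c7 LD2_c5 LD3_c35)) = (LP (LK LD1_c3 LD2_c46 LD3_c25)) :=
  Lgr Lrot0 (Lpr_at (K42.f441445 IH) (Lpn (LP (LK LD1_c3 LD2_c46 LD3_c25))))
theorem f566908 : Led Lsl_at (LP (LK LD1_c11 LD2_c35 LD3_c12)) = (LP (LK LD1_c7 LD2_c33 LD3_c50)) :=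
  Lgr Lrot67 (Lpr_bf (K41.f566906 IH) (Lpr_af (f109514 IH) (Lpe (f109518 IH) (Lpr_af (f441447 IH) (Lpe (K45.f441466 IH) (Lpn (LP (LK LD1_c7 LD2_c33 LD3_c50))))))))
theorem f566922 : Led Lsl_ft (LP (LK LD1_c20 LD2_c33 LD3_c12)) = (LP (LK LD1_c11 LD2_c35 LD3_c12)) :=
  Lre_f IH (LK LD1_c20 LD2_c33 LD3_c12) (LK LD1_c11 LD2_c35 LD3_c12) Lrfl Lrfl
theorem f543951 : Led Lsl_gt (LP (LK LD1_c14 LD2_c15 LD3_c47)) = (LP (LK LD1_c7 LD2_c33 LD3_c50)) :=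
  Lre_g IH (LK LD1_c14 LD2_c15 LD3_c47) (LK LD1_c7 LD2_c33 LD3_c50) Lrfl Lrfl
theorem f615789 : Led Lsl_gt (LP (LK LD1_c20 LD2_c33 LD3_c12)) = (LP (LK LD1_c14 LD2_c15 LD3_c47)) :=
  Lgr Lrot5 (Lpr_ft (f566922 IH) (Lpr_at (f566908 IH) (Lpe (f543951 IH) (Lpn (LP (LK LD1_c14 LD2_c15 LD3_c47))))))
theorem f615791 : Led Lsl_ct (LP (LK LD1_c14 LD2_c15 LD3_c47)) = (LP (LK LD1_c23 LD2_c52 LD3_c28)) :=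
  Lre_c IH (LK LD1_c14 LD2_c15 LD3_c47) (LK LD1_c23 LD2_c52 LD3_c28) Lrfl Lrfl
theorem f805201 : Led Lsl_gf (LP (LK LD1_c20 LD2_c32 LD3_c28)) = (LP (LK LD1_c23 LD2_c52 LD3_c28)) :=
  Lgr Lrot104 (Lpr_ct (f575408 IH) (Lpe (K43.f575450 IH) (Lpr_cf (f795334 IH) (Lpe (f795344 IH) (Lpe (K47.f609551 IH) (Lpr_gf (f805200 IH) (Lpe (f805198 IH) (Lpr_gt (f615789 IH) (Lpr_ct (f615791 IH) (Lpn (LP (LK LD1_c23 LD2_c52 LD3_c28))))))))))))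
theorem f805202 : Led Lsl_gt (LP (LK LD1_c23 LD2_c52 LD3_c28)) = (LP (LK LD1_c20 LD2_c32 LD3_c28)) :=
  Leop (Lpr_gf (f805201 IH) (Lpn (LP (LK LD1_c23 LD2_c52 LD3_c28))))
theorem seed_1696 : LEOK LG_g (LK LD1_c23 LD2_c52 LD3_c28) :=
  Leoe_g (LK LD1_c23 LD2_c52 LD3_c28) (f805202 IH)
def v22266 : LQ := Led Lsl_ft (LP (LK LD1_c7 LD2_c33 LD3_c50))
theorem f805224 : Led Lsl_ft (LP (LK LD1_c7 LD2_c33 LD3_c50)) = v22266 :=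
  Lrfl
theorem f543953 : Led Lsl_gt (LP (LK LD1_c7 LD2_c33 LD3_c50)) = (LP (LK LD1_c14 LD2_c15 LD3_c46)) :=
  Lre_g IH (LK LD1_c7 LD2_c33 LD3_c50) (LK LD1_c14 LD2_c15 LD3_c46) Lrfl Lrfl
theorem f805225 : Led Lsl_af (LP (LK LD1_c20 LD2_c33 LD3_c12)) = v22266 :=
  Lgr Lrot45 (Lpr_ft (f566922 IH) (Lpr_at (f566908 IH) (Lpr_ft (f805224 IH) (Lpn v22266))))
theorem f805230 : Led Lsl_gt (LP (LK LD1_c14 LD2_c15 LD3_c46)) = (LP (LK LD1_c20 LD2_c33 LD3_c12)) :=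
  Lgr Lrot46 (Lpe (f543953 IH) (Lpr_ft (f805224 IH) (Lpe (f805225 IH) (Lpn (LP (LK LD1_c20 LD2_c33 LD3_c12))))))
theorem f805231 : Led Lsl_gt (LP (LK LD1_c14 LD2_c15 LD3_c46)) = (LP (LK LD1_c20 LD2_c33 LD3_c12)) :=
  Leop (Lpe (f805230 IH) (Lpn (LP (LK LD1_c14 LD2_c15 LD3_c46))))
theorem seed_1697 : LEOK LG_g (LK LD1_c14 LD2_c15 LD3_c46) :=
  Leoe_g (LK LD1_c14 LD2_c15 LD3_c46) (f805231 IH)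
def v22288 : LQ := Led Lsl_gt (LP (LK LD1_c7 LD2_c34 LD3_c3))
theorem f805308 : Led Lsl_gt (LP (LK LD1_c7 LD2_c34 LD3_c3)) = v22288 :=
  Lrfl
theorem f805310 : Led Lsl_dt K61.v20471 = v22288 :=
  Lgr Lrot56 (Lpe (K61.f787211 IH) (Lpr_gt (K48.f129872 IH) (Lpr_ef (K34.f129820 IH) (Lpr_dt (K47.f129870 IH) (Lpr_gt (K47.f129873 IH) (Lpr_df (K62.f526619 IH) (Lpr_et (K62.f664932 IH) (Lpe (K62.f664929 IH) (Lpr_dt (K4.f109555 IH) (Lpr_gt (f805308 IH) (Lpn v22288)))))))))))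
theorem f790900 : Led Lsl_dt K61.v20286 = K61.v20909 :=
  Lgr Lrot42 (Lpr_df (K61.f790898 IH) (Lpn K61.v20909))
theorem f805312 : Led Lsl_ff K61.v20286 = v22288 :=
  Lgr Lrot19 (Lpr_dt (f790900 IH) (Lpe (K61.f790894 IH) (Lpr_dt (f805310 IH) (Lpn v22288))))
theorem f805314 : Led Lsl_ft K61.v20286 = v22288 :=
  Lgr Lrot48 (Lpr_ff (f805312 IH) (Lpn v22288))
theorem f488905 : Led Lsl_et (LP (LK LD1_c7 LD2_c8 LD3_c35)) = (LP (LK LD1_c3 LD2_c33 LD3_c49)) :=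
  Lre_e IH (LK LD1_c7 LD2_c8 LD3_c35) (LK LD1_c3 LD2_c33 LD3_c49) Lrfl Lrfl
theorem f790892 : Led Lsl_cf (LP (LK LD1_c7 LD2_c8 LD3_c35)) = K61.v20909 :=
  Lgr Lrot39 (Lpr_et (f488905 IH) (Lpr_ct (K29.f6663 IH) (Lpr_et (K61.f790889 IH) (Lpn K61.v20909))))
theorem f488906 : Led Lsl_dt (LP (LK LD1_c7 LD2_c8 LD3_c35)) = (LP (LK LD1_c13 LD2_c31 LD3_c44)) :=
  Lre_d IH (LK LD1_c7 LD2_c8 LD3_c35) (LK LD1_c13 LD2_c31 LD3_c44) Lrfl Lrfl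
theorem f92556 : Led Lsl_ct (LP (LK LD1_c13 LD2_c31 LD3_c44)) = (LP (LK LD1_c22 LD2_c53 LD3_c18)) :=
  Lre_c IH (LK LD1_c13 LD2_c31 LD3_c44) (LK LD1_c22 LD2_c53 LD3_c18) Lrfl Lrfl
theorem f526772 : Led Lsl_dt (LP (LK LD1_c22 LD2_c53 LD3_c18)) = (LP (LK LD1_c30 LD2_c46 LD3_c47)) :=
  Lre_d IH (LK LD1_c22 LD2_c53 LD3_c18) (LK LD1_c30 LD2_c46 LD3_c47) Lrfl Lrfl
theorem f476194 : Led Lsl_gt (LP (LK LD1_c3 LD2_c46 LD3_c44)) = (LP (LK LD1_c7 LD2_c34 LD3_c18)) :=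
  Lre_g IH (LK LD1_c3 LD2_c46 LD3_c44) (LK LD1_c7 LD2_c34 LD3_c18) Lrfl Lrfl
theorem f805315 : Led Lsl_af (LP (LK LD1_c7 LD2_c34 LD3_c18)) = v22288 :=
  Lgr Lrot31 (Lpe (f476194 IH) (Lpe (K61.f419403 IH) (Lpq (K61.f790901 IH) (Lpr_ft (f805314 IH) (Lpn v22288)))))
theorem f805316 : Led Lsl_ct (LP (LK LD1_c14 LD2_c16 LD3_c32)) = (LP (LK LD1_c7 LD2_c34 LD3_c18)) :=
  Lre_c IH (LK LD1_c14 LD2_c16 LD3_c32) (LK LD1_c7 LD2_c34 LD3_c18) Lrfl Lrfl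
theorem f805317 : Led Lsl_dt (LP (LK LD1_c23 LD2_c53 LD3_c39)) = (LP (LK LD1_c14 LD2_c16 LD3_c32)) :=
  Lre_d IH (LK LD1_c23 LD2_c53 LD3_c39) (LK LD1_c14 LD2_c16 LD3_c32) Lrfl Lrfl
theorem f805318 : Led Lsl_ct (LP (LK LD1_c30 LD2_c46 LD3_c47)) = (LP (LK LD1_c23 LD2_c53 LD3_c39)) :=
  Lgr Lrot53 (Lpe (f526772 IH) (Lpe (f92556 IH) (Lpe (f488906 IH) (Lpr_cf (f790892 IH) (Lpe (f790900 IH) (Lpr_ft (f805314 IH) (Lpe (f805315 IH) (Lpe (f805316 IH) (Lpe (f805317 IH) (Lpn (LP (LK LD1_c23 LD2_c53 LD3_c39))))))))))))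
theorem f805319 : Led Lsl_ct (LP (LK LD1_c30 LD2_c46 LD3_c47)) = (LP (LK LD1_c23 LD2_c53 LD3_c39)) :=
  Leop (Lpe (f805318 IH) (Lpn (LP (LK LD1_c30 LD2_c46 LD3_c47))))
theorem seed_1698 : LEOK LG_c (LK LD1_c30 LD2_c46 LD3_c47) :=
  Leoe_c (LK LD1_c30 LD2_c46 LD3_c47) (f805319 IH)
theorem f805327 : Led Lsl_bt (LP (LK LD1_c7 LD2_c34 LD3_c18)) = (LP (LK LD1_c14 LD2_c16 LD3_c31)) :=
  Lre_b IH (LK LD1_c7 LD2_c34 LD3_c18) (LK LD1_c14 LD2_c16 LD3_c31) Lrfl Lrfl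
theorem f484052 : Led Lsl_ct (LP (LK LD1_c6 LD2_c53 LD3_c34)) = (LP (LK LD1_c13 LD2_c6 LD3_c3)) :=
  Lre_c IH (LK LD1_c6 LD2_c53 LD3_c34) (LK LD1_c13 LD2_c6 LD3_c3) Lrfl Lrfl
theorem f441048 : Led Lsl_ct (LP (LK LD1_c6 LD2_c53 LD3_c29)) = (LP (LK LD1_c13 LD2_c5 LD3_c57)) :=
  Lre_c IH (LK LD1_c6 LD2_c53 LD3_c29) (LK LD1_c13 LD2_c5 LD3_c57) Lrfl Lrfl
theorem f628041 : Led Lsl_df (LP (LK LD1_c13 LD2_c6 LD3_c3)) = (LP (LK LD1_c13 LD2_c5 LD3_c57)) :=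
  Lgr Lrot162 (Lpe (f484052 IH) (Lpe (K61.f484050 IH) (Lpr_cf (K35.f484032 IH) (Lpr_gf (K35.f102752 IH) (Lpe (K35.f485966 IH) (Lpr_gt (K35.f484105 IH) (Lpr_ct (K35.f628034 IH) (Lpr_gt (K35.f95123 IH) (Lpr_ct (f441048 IH) (Lpn (LP (LK LD1_c13 LD2_c5 LD3_c57))))))))))))
theorem f468895 : Led Lsl_ct (LP (LK LD1_c13 LD2_c5 LD3_c57)) = (LP (LK LD1_c6 LD2_c53 LD3_c29)) :=
  Lre_c IH (LK LD1_c13 LD2_c5 LD3_c57) (LK LD1_c6 LD2_c53 LD3_c29) Lrfl Lrfl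
theorem f525729 : Led Lsl_ff (LP (LK LD1_c13 LD2_c5 LD3_c57)) = (LP (LK LD1_c14 LD2_c0 LD3_c57)) :=
  Lgr Lrot23 (Lpr_ct (f468895 IH) (Lpr_ft (K35.f525727 IH) (Lpr_ct (K62.f478483 IH) (Lpn (LP (LK LD1_c14 LD2_c0 LD3_c57))))))
theorem f484094 : Led Lsl_ct (LP (LK LD1_c13 LD2_c3 LD3_c12)) = (LP (LK LD1_c22 LD2_c12 LD3_c54)) :=
  Lre_c IH (LK LD1_c13 LD2_c3 LD3_c12) (LK LD1_c22 LD2_c12 LD3_c54) Lrfl Lrfl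
theorem f523797 : Led Lsl_df (LP (LK LD1_c14 LD2_c0 LD3_c57)) = (LP (LK LD1_c22 LD2_c12 LD3_c54)) :=
  Lgr Lrot13 (Lpr_ct (K62.f478482 IH) (Lpr_dt (K45.f4892 IH) (Lpr_ct (K29.f4891 IH) (Lpr_af (K34.f523785 IH) (Lpe (K34.f523795 IH) (Lpr_dt (K32.f85213 IH) (Lpr_ct (K32.f491726 IH) (Lpe (K30.f491716 IH) (Lpr_ct (f484094 IH) (Lpn (LP (LK LD1_c22 LD2_c12 LD3_c54))))))))))))
theorem f628048 : Led Lsl_ft (LP (LK LD1_c13 LD2_c6 LD3_c3)) = (LP (LK LD1_c22 LD2_c12 LD3_c54)) :=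
  Lgr Lrot54 (Lpr_df (f628041 IH) (Lpr_ff (f525729 IH) (Lpr_df (f523797 IH) (Lpn (LP (LK LD1_c22 LD2_c12 LD3_c54))))))
theorem f628052 : Led Lsl_ff (LP (LK LD1_c13 LD2_c6 LD3_c3)) = (LP (LK LD1_c22 LD2_c12 LD3_c54)) :=
  Lgr Lrot3 (Lpr_ft (f628048 IH) (Lpn (LP (LK LD1_c22 LD2_c12 LD3_c54))))
theorem f484043 : Led Lsl_ct (LP (LK LD1_c13 LD2_c6 LD3_c3)) = (LP (LK LD1_c6 LD2_c53 LD3_c34)) :=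
  Lre_c IH (LK LD1_c13 LD2_c6 LD3_c3) (LK LD1_c6 LD2_c53 LD3_c34) Lrfl Lrfl
theorem f628054 : Led Lsl_ft (LP (LK LD1_c6 LD2_c53 LD3_c34)) = (LP (LK LD1_c13 LD2_c3 LD3_c12)) :=
  Lgr Lrot4 (Lpe (f484043 IH) (Lpr_ff (f628052 IH) (Lpe (f484094 IH) (Lpn (LP (LK LD1_c13 LD2_c3 LD3_c12))))))
theorem f805313 : Led Lsl_bt (LP (LK LD1_c13 LD2_c3 LD3_c12)) = v22288 :=
  Lgr Lrot35 (Lpe (f628054 IH) (Lpr_bf (K61.f786096 IH) (Lpr_ff (f805312 IH) (Lpn v22288))))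
theorem f628057 : Led Lsl_af (LP (LK LD1_c6 LD2_c53 LD3_c33)) = (LP (LK LD1_c13 LD2_c3 LD3_c12)) :=
  Lgr Lrot31 (Lpe (K60.f471776 IH) (Lpe (K61.f94307 IH) (Lpr_ft (f628054 IH) (Lpn (LP (LK LD1_c13 LD2_c3 LD3_c12))))))
theorem f628059 : Led Lsl_at (LP (LK LD1_c6 LD2_c53 LD3_c33)) = (LP (LK LD1_c13 LD2_c3 LD3_c12)) :=
  Lgr Lrot100 (Lpr_af (f628057 IH) (Lpn (LP (LK LD1_c13 LD2_c3 LD3_c12))))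
theorem f805328 : Led Lsl_at (LP (LK LD1_c14 LD2_c16 LD3_c31)) = (LP (LK LD1_c13 LD2_c6 LD3_c0)) :=
  Lgr Lrot67 (Lpe (f805327 IH) (Lpr_af (f805315 IH) (Lpe (f805313 IH) (Lpe (f628059 IH) (Lpe (K60.f485756 IH) (Lpn (LP (LK LD1_c13 LD2_c6 LD3_c0))))))))
theorem f805329 : Led Lsl_at (LP (LK LD1_c14 LD2_c16 LD3_c31)) = (LP (LK LD1_c13 LD2_c6 LD3_c0)) :=
  Leop (Lpe (f805328 IH) (Lpn (LP (LK LD1_c14 LD2_c16 LD3_c31))))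
theorem seed_1699 : LEOK LG_a (LK LD1_c14 LD2_c16 LD3_c31) :=
  Leoe_a (LK LD1_c14 LD2_c16 LD3_c31) (f805329 IH)
def v22311 : LQ := Led Lsl_ft (LP (LK LD1_c7 LD2_c34 LD3_c21))
theorem f805445 : Led Lsl_ft (LP (LK LD1_c7 LD2_c34 LD3_c21)) = v22311 :=
  Lrfl
theorem f805448 : Led Lsl_ff (LP (LK LD1_c7 LD2_c34 LD3_c21)) = v22311 :=
  Lgr Lrot3 (Lpr_ft (f805445 IH) (Lpn v22311))
theorem f658426 : Led Lsl_bt (LP (LK LD1_c7 LD2_c34 LD3_c21)) = (LP (LK LD1_c3 LD2_c46 LD3_c45)) :=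
  Lre_b IH (LK LD1_c7 LD2_c34 LD3_c21) (LK LD1_c3 LD2_c46 LD3_c45) Lrfl Lrfl
def v7406 : LQ := Led Lsl_ft (LP (LK LD1_c3 LD2_c46 LD3_c45))
theorem f664969 : Led Lsl_ft (LP (LK LD1_c3 LD2_c46 LD3_c45)) = v7406 :=
  Lrfl
theorem f805450 : Led Lsl_bt v7406 = v22311 :=
  Lgr Lrot35 (Lpe (f664969 IH) (Lpe (f658426 IH) (Lpr_ff (f805448 IH) (Lpn v22311))))
theorem f664972 : Led Lsl_ff (LP (LK LD1_c3 LD2_c46 LD3_c45)) = v7406 :=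
  Lgr Lrot3 (Lpr_ft (f664969 IH) (Lpn v7406))
def v7405 : LQ := Led Lsl_at (LP (LK LD1_c3 LD2_c46 LD3_c45))
theorem f664958 : Led Lsl_at (LP (LK LD1_c3 LD2_c46 LD3_c45)) = v7405 :=
  Lrfl
theorem f664959 : Led Lsl_af (LP (LK LD1_c3 LD2_c46 LD3_c45)) = v7405 :=
  Lgr Lrot0 (Lpr_at (f664958 IH) (Lpn v7405))
theorem f664964 : Led Lsl_ft (LP (LK LD1_c3 LD2_c46 LD3_c46)) = v7405 :=
  Lgr Lrot2 (Lpr_gt (K51.f93634 IH) (Lpr_gt (K61.f88381 IH) (Lpr_af (f664959 IH) (Lpn v7405))))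
theorem f664966 : Led Lsl_ff (LP (LK LD1_c3 LD2_c46 LD3_c46)) = v7405 :=
  Lgr Lrot3 (Lpr_ft (f664964 IH) (Lpn v7405))
theorem f664974 : Led Lsl_at (LP (LK LD1_c3 LD2_c46 LD3_c46)) = v7406 :=
  Lgr Lrot66 (Lpr_ff (f664966 IH) (Lpe (f664958 IH) (Lpr_ff (f664972 IH) (Lpn v7406))))
theorem f443232 : Led Lsl_bt (LP (LK LD1_c7 LD2_c34 LD3_c25)) = (LP (LK LD1_c3 LD2_c46 LD3_c46)) :=
  Lre_b IH (LK LD1_c7 LD2_c34 LD3_c25) (LK LD1_c3 LD2_c46 LD3_c46) Lrfl Lrfl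
theorem f664976 : Led Lsl_at (LP (LK LD1_c14 LD2_c16 LD3_c49)) = (LP (LK LD1_c7 LD2_c34 LD3_c25)) :=
  Lre_a IH (LK LD1_c14 LD2_c16 LD3_c49) (LK LD1_c7 LD2_c34 LD3_c25) Lrfl Lrfl
theorem f664960 : Led Lsl_at (LP (LK LD1_c14 LD2_c16 LD3_c40)) = (LP (LK LD1_c7 LD2_c34 LD3_c21)) :=
  Lre_a IH (LK LD1_c14 LD2_c16 LD3_c40) (LK LD1_c7 LD2_c34 LD3_c21) Lrfl Lrfl
theorem f130162 : Led Lsl_bt (LP (LK LD1_c5 LD2_c48 LD3_c19)) = (LP (LK LD1_c11 LD2_c26 LD3_c6)) :=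
  Lre_b IH (LK LD1_c5 LD2_c48 LD3_c19) (LK LD1_c11 LD2_c26 LD3_c6) Lrfl Lrfl
theorem f644059 : Led Lsl_ct (LP (LK LD1_c9 LD2_c30 LD3_c52)) = (LP (LK LD1_c4 LD2_c49 LD3_c5)) :=
  Lre_c IH (LK LD1_c9 LD2_c30 LD3_c52) (LK LD1_c4 LD2_c49 LD3_c5) Lrfl Lrfl
theorem f414974 : Led Lsl_ct (LP (LK LD1_c9 LD2_c32 LD3_c14)) = (LP (LK LD1_c17 LD2_c34 LD3_c26)) :=
  Lre_c IH (LK LD1_c9 LD2_c32 LD3_c14) (LK LD1_c17 LD2_c34 LD3_c26) Lrfl Lrfl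
theorem f643586 : Led Lsl_bt (LP (LK LD1_c11 LD2_c42 LD3_c16)) = (LP (LK LD1_c9 LD2_c14 LD3_c17)) :=
  Lgr Lrot127 (Lpr_bf (K52.f643584 IH) (Lpn (LP (LK LD1_c9 LD2_c14 LD3_c17))))
theorem f644008 : Led Lsl_bf (LP (LK LD1_c9 LD2_c30 LD3_c45)) = (LP (LK LD1_c4 LD2_c49 LD3_c18)) :=
  Lgr Lrot96 (Lpr_et (K50.f644004 IH) (Lpr_bt (f643586 IH) (Lpe (K35.f494584 IH) (Lpn (LP (LK LD1_c4 LD2_c49 LD3_c18))))))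
theorem f644050 : Led Lsl_bt (LP (LK LD1_c9 LD2_c30 LD3_c53)) = (LP (LK LD1_c4 LD2_c49 LD3_c7)) :=
  Lre_b IH (LK LD1_c9 LD2_c30 LD3_c53) (LK LD1_c4 LD2_c49 LD3_c7) Lrfl Lrfl
theorem f644052 : Led Lsl_ct (LP (LK LD1_c9 LD2_c30 LD3_c53)) = (LP (LK LD1_c17 LD2_c32 LD3_c21)) :=
  Lre_c IH (LK LD1_c9 LD2_c30 LD3_c53) (LK LD1_c17 LD2_c32 LD3_c21) Lrfl Lrfl
theorem f644054 : Led Lsl_gt (LP (LK LD1_c17 LD2_c34 LD3_c26)) = (LP (LK LD1_c17 LD2_c32 LD3_c21)) :=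
  Lgr Lrot149 (Lpe (f414974 IH) (Lpe (K52.f414970 IH) (Lpe (K56.f414955 IH) (Lpr_ct (K24.f414357 IH) (Lpe (K24.f414964 IH) (Lpe (K24.f414416 IH) (Lpe (f644008 IH) (Lpr_gf (K50.f644019 IH) (Lpe (f644050 IH) (Lpr_ct (f644052 IH) (Lpn (LP (LK LD1_c17 LD2_c32 LD3_c21)))))))))))))
theorem f644051 : Led Lsl_ct (LP (LK LD1_c17 LD2_c32 LD3_c21)) = (LP (LK LD1_c9 LD2_c30 LD3_c53)) :=
  Lre_c IH (LK LD1_c17 LD2_c32 LD3_c21) (LK LD1_c9 LD2_c30 LD3_c53) Lrfl Lrfl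
theorem f705824 : Led Lsl_gf (LP (LK LD1_c9 LD2_c30 LD3_c52)) = K53.v13905 :=
  Lgr Lrot104 (Lpr_ct (f644059 IH) (Lpe (K55.f644060 IH) (Lpe (f644051 IH) (Lpe (f644054 IH) (Lpe (f414974 IH) (Lpe (K52.f414970 IH) (Lpe (K24.f415301 IH) (Lpr_gt (K52.f416235 IH) (Lpr_ct (K53.f705822 IH) (Lpn K53.v13905))))))))))
theorem f664961 : Led Lsl_bt (LP (LK LD1_c3 LD2_c46 LD3_c45)) = (LP (LK LD1_c7 LD2_c34 LD3_c21)) :=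
  Lre_b IH (LK LD1_c3 LD2_c46 LD3_c45) (LK LD1_c7 LD2_c34 LD3_c21) Lrfl Lrfl
theorem f739031 : Led Lsl_gt (LP (LK LD1_c11 LD2_c26 LD3_c6)) = (LP (LK LD1_c7 LD2_c34 LD3_c21)) :=
  Lgr Lrot164 (Lpe (f130162 IH) (Lpr_ct (K55.f438258 IH) (Lpqs (K54.f739029 IH) (Lpe (K54.f705275 IH) (Lpe (f644059 IH) (Lpr_gf (f705824 IH) (Lpq (K53.f710137 IH) (Lpe (K57.f65753 IH) (Lpe (K52.f65722 IH) (Lpe (K61.f712397 IH) (Lpe (K61.f136026 IH) (Lpr_bt (f664961 IH) (Lpn (LP (LK LD1_c7 LD2_c34 LD3_c21)))))))))))))))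
theorem f130135 : Led Lsl_gt (LP (LK LD1_c20 LD2_c23 LD3_c37)) = (LP (LK LD1_c11 LD2_c26 LD3_c6)) :=
  Lre_g IH (LK LD1_c20 LD2_c23 LD3_c37) (LK LD1_c11 LD2_c26 LD3_c6) Lrfl Lrfl
theorem f739033 : Led Lsl_ft (LP (LK LD1_c20 LD2_c23 LD3_c37)) = (LP (LK LD1_c14 LD2_c16 LD3_c40)) :=
  Lgr Lrot2 (Lpr_gt (f130135 IH) (Lpr_gt (f739031 IH) (Lpe (f664960 IH) (Lpn (LP (LK LD1_c14 LD2_c16 LD3_c40))))))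
theorem f805446 : Led Lsl_af (LP (LK LD1_c20 LD2_c23 LD3_c37)) = v22311 :=
  Lgr Lrot45 (Lpr_ft (f739033 IH) (Lpr_at (f664960 IH) (Lpr_ft (f805445 IH) (Lpn v22311))))
theorem f805451 : Led Lsl_bf (LP (LK LD1_c14 LD2_c16 LD3_c49)) = (LP (LK LD1_c20 LD2_c23 LD3_c37)) :=
  Lgr Lrot81 (Lpr_at (f664976 IH) (Lpr_bt (f443232 IH) (Lpr_at (f664974 IH) (Lpr_bt (f805450 IH) (Lpe (f805446 IH) (Lpn (LP (LK LD1_c20 LD2_c23 LD3_c37))))))))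
theorem f805452 : Led Lsl_bt (LP (LK LD1_c20 LD2_c23 LD3_c37)) = (LP (LK LD1_c14 LD2_c16 LD3_c49)) :=
  Leop (Lpr_bf (f805451 IH) (Lpn (LP (LK LD1_c20 LD2_c23 LD3_c37))))
theorem seed_1700 : LEOK LG_b (LK LD1_c20 LD2_c23 LD3_c37) :=
  Leoe_b (LK LD1_c20 LD2_c23 LD3_c37) (f805452 IH)
def v22317 : LQ := Led Lsl_at (LP (LK LD1_c7 LD2_c34 LD3_c23))
theorem f805491 : Led Lsl_at (LP (LK LD1_c7 LD2_c34 LD3_c23)) = v22317 :=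
  Lrfl
theorem f92377 : Led Lsl_dt (LP (LK LD1_c3 LD2_c46 LD3_c45)) = (LP (LK LD1_c7 LD2_c34 LD3_c23)) :=
  Lre_d IH (LK LD1_c3 LD2_c46 LD3_c45) (LK LD1_c7 LD2_c34 LD3_c23) Lrfl Lrfl
theorem f805493 : Led Lsl_df v7405 = v22317 :=
  Lgr Lrot18 (Lpe (f664959 IH) (Lpr_dt (f92377 IH) (Lpr_at (f805491 IH) (Lpn v22317))))
theorem f207598 : Led Lsl_dt (LP (LK LD1_c3 LD2_c46 LD3_c46)) = (LP (LK LD1_c7 LD2_c34 LD3_c27)) :=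
  Lre_d IH (LK LD1_c3 LD2_c46 LD3_c46) (LK LD1_c7 LD2_c34 LD3_c27) Lrfl Lrfl
theorem f805495 : Led Lsl_ft (LP (LK LD1_c7 LD2_c34 LD3_c27)) = v22317 :=
  Lgr Lrot54 (Lpe (f207598 IH) (Lpr_ff (f664966 IH) (Lpr_df (f805493 IH) (Lpn v22317))))
theorem f805492 : Led Lsl_af (LP (LK LD1_c7 LD2_c34 LD3_c23)) = v22317 :=
  Lgr Lrot0 (Lpr_at (f805491 IH) (Lpn v22317))
theorem f658425 : Led Lsl_gt (LP (LK LD1_c14 LD2_c16 LD3_c43)) = (LP (LK LD1_c7 LD2_c34 LD3_c23)) :=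
  Lre_g IH (LK LD1_c14 LD2_c16 LD3_c43) (LK LD1_c7 LD2_c34 LD3_c23) Lrfl Lrfl
theorem f805498 : Led Lsl_gt (LP (LK LD1_c7 LD2_c34 LD3_c27)) = (LP (LK LD1_c14 LD2_c16 LD3_c43)) :=
  Lgr Lrot5 (Lpr_ft (f805495 IH) (Lpe (f805492 IH) (Lpe (f658425 IH) (Lpn (LP (LK LD1_c14 LD2_c16 LD3_c43))))))
theorem f805499 : Led Lsl_gt (LP (LK LD1_c7 LD2_c34 LD3_c27)) = (LP (LK LD1_c14 LD2_c16 LD3_c43)) :=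
  Leop (Lpe (f805498 IH) (Lpn (LP (LK LD1_c7 LD2_c34 LD3_c27))))
theorem seed_1701 : LEOK LG_g (LK LD1_c7 LD2_c34 LD3_c27) :=
  Leoe_g (LK LD1_c7 LD2_c34 LD3_c27) (f805499 IH)
def v22327 : LQ := Led Lsl_at (LP (LK LD1_c7 LD2_c34 LD3_c29))
theorem f805537 : Led Lsl_at (LP (LK LD1_c7 LD2_c34 LD3_c29)) = v22327 :=
  Lrfl
theorem f805538 : Led Lsl_af (LP (LK LD1_c7 LD2_c34 LD3_c29)) = v22327 :=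
  Lgr Lrot0 (Lpr_at (f805537 IH) (Lpn v22327))
theorem f92766 : Led Lsl_gt (LP (LK LD1_c3 LD2_c46 LD3_c47)) = (LP (LK LD1_c7 LD2_c34 LD3_c29)) :=
  Lre_g IH (LK LD1_c3 LD2_c46 LD3_c47) (LK LD1_c7 LD2_c34 LD3_c29) Lrfl Lrfl
theorem f805543 : Led Lsl_ft (LP (LK LD1_c7 LD2_c34 LD3_c30)) = v22327 :=
  Lgr Lrot2 (Lpr_gt (K61.f88298 IH) (Lpr_gt (f92766 IH) (Lpr_af (f805538 IH) (Lpn v22327))))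
theorem f805545 : Led Lsl_ff (LP (LK LD1_c7 LD2_c34 LD3_c30)) = v22327 :=
  Lgr Lrot3 (Lpr_ft (f805543 IH) (Lpn v22327))
theorem f88352 : Led Lsl_ft (LP (LK LD1_c7 LD2_c38 LD3_c29)) = (LP (LK LD1_c14 LD2_c23 LD3_c61)) :=
  Lre_f IH (LK LD1_c7 LD2_c38 LD3_c29) (LK LD1_c14 LD2_c23 LD3_c61) Lrfl Lrfl
theorem f805546 : Led Lsl_dt (LP (LK LD1_c14 LD2_c23 LD3_c61)) = v22327 :=
  Lgr Lrot60 (Lpe (f88352 IH) (Lpr_df (K61.f88346 IH) (Lpr_ff (f805545 IH) (Lpn v22327))))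
theorem f207587 : Led Lsl_dt (LP (LK LD1_c7 LD2_c34 LD3_c29)) = (LP (LK LD1_c14 LD2_c16 LD3_c61)) :=
  Lre_d IH (LK LD1_c7 LD2_c34 LD3_c29) (LK LD1_c14 LD2_c16 LD3_c61) Lrfl Lrfl
theorem f805547 : Led Lsl_af (LP (LK LD1_c14 LD2_c23 LD3_c61)) = (LP (LK LD1_c14 LD2_c16 LD3_c61)) :=
  Lgr Lrot117 (Lpr_dt (f805546 IH) (Lpe (f805538 IH) (Lpr_dt (f207587 IH) (Lpn (LP (LK LD1_c14 LD2_c16 LD3_c61))))))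
theorem f805548 : Led Lsl_at (LP (LK LD1_c14 LD2_c16 LD3_c61)) = (LP (LK LD1_c14 LD2_c23 LD3_c61)) :=
  Leop (Lpr_af (f805547 IH) (Lpn (LP (LK LD1_c14 LD2_c16 LD3_c61))))
theorem seed_1702 : LEOK LG_a (LK LD1_c14 LD2_c16 LD3_c61) :=
  Leoe_a (LK LD1_c14 LD2_c16 LD3_c61) (f805548 IH)
def v22339 : LQ := Led Lsl_dt (LP (LK LD1_c7 LD2_c34 LD3_c41))
theorem f805596 : Led Lsl_dt (LP (LK LD1_c7 LD2_c34 LD3_c41)) = v22339 :=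
  Lrfl
theorem f805599 : Led Lsl_df (LP (LK LD1_c7 LD2_c34 LD3_c41)) = v22339 :=
  Lgr Lrot38 (Lpr_dt (f805596 IH) (Lpn v22339))
theorem f102860 : Led Lsl_et (LP (LK LD1_c3 LD2_c26 LD3_c5)) = (LP (LK LD1_c1 LD2_c39 LD3_c43)) :=
  Lre_e IH (LK LD1_c3 LD2_c26 LD3_c5) (LK LD1_c1 LD2_c39 LD3_c43) Lrfl Lrfl
theorem f657821 : Led Lsl_et (LP (LK LD1_c7 LD2_c18 LD3_c32)) = K47.v6692 :=
  Lgr Lrot69 (Lpr_ff (K47.f485709 IH) (Lpe (K34.f12836 IH) (Lpe (K4.f102853 IH) (Lpe (f102860 IH) (Lpr_ff (K47.f657817 IH) (Lpn K47.v6692))))))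
theorem f486127 : Led Lsl_et (LP (LK LD1_c14 LD2_c14 LD3_c50)) = (LP (LK LD1_c7 LD2_c33 LD3_c15)) :=
  Lre_e IH (LK LD1_c14 LD2_c14 LD3_c50) (LK LD1_c7 LD2_c33 LD3_c15) Lrfl Lrfl
theorem f98788 : Led Lsl_dt (LP (LK LD1_c6 LD2_c54 LD3_c32)) = (LP (LK LD1_c13 LD2_c7 LD3_c43)) :=
  Lre_d IH (LK LD1_c6 LD2_c54 LD3_c32) (LK LD1_c13 LD2_c7 LD3_c43) Lrfl Lrfl
theorem f98790 : Led Lsl_gt (LP (LK LD1_c13 LD2_c7 LD3_c43)) = (LP (LK LD1_c22 LD2_c19 LD3_c44)) :=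
  Lre_g IH (LK LD1_c13 LD2_c7 LD3_c43) (LK LD1_c22 LD2_c19 LD3_c44) Lrfl Lrfl
theorem f522807 : Led Lsl_dt (LP (LK LD1_c14 LD2_c14 LD3_c50)) = (LP (LK LD1_c22 LD2_c19 LD3_c44)) :=
  Lgr Lrot56 (Lpr_et (f486127 IH) (Lpr_gt (K47.f522794 IH) (Lpe (K60.f102448 IH) (Lpr_dt (K7.f102447 IH) (Lpe (K7.f130272 IH) (Lpr_df (K6.f129532 IH) (Lpr_et (K34.f129535 IH) (Lpr_gt (K28.f465414 IH) (Lpr_dt (f98788 IH) (Lpr_gt (f98790 IH) (Lpn (LP (LK LD1_c22 LD2_c19 LD3_c44)))))))))))))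
theorem f493056 : Led Lsl_gt (LP (LK LD1_c22 LD2_c19 LD3_c44)) = (LP (LK LD1_c13 LD2_c13 LD3_c11)) :=
  Lgr Lrot46 (Lpe (f98790 IH) (Lpr_ft (K60.f493049 IH) (Lpr_at (K60.f493048 IH) (Lpn (LP (LK LD1_c13 LD2_c13 LD3_c11))))))
theorem f492610 : Led Lsl_dt (LP (LK LD1_c6 LD2_c57 LD3_c47)) = (LP (LK LD1_c13 LD2_c13 LD3_c11)) :=
  Lre_d IH (LK LD1_c6 LD2_c57 LD3_c47) (LK LD1_c13 LD2_c13 LD3_c11) Lrfl Lrfl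
theorem f493059 : Led Lsl_et (LP (LK LD1_c6 LD2_c57 LD3_c47)) = (LP (LK LD1_c13 LD2_c13 LD3_c12)) :=
  Lre_e IH (LK LD1_c6 LD2_c57 LD3_c47) (LK LD1_c13 LD2_c13 LD3_c12) Lrfl Lrfl
theorem f805608 : Led Lsl_gt (LP (LK LD1_c13 LD2_c13 LD3_c12)) = v22339 :=
  Lgr Lrot137 (Lpe (f493059 IH) (Lpr_dt (f492610 IH) (Lpe (f493056 IH) (Lpe (f522807 IH) (Lpr_et (f486127 IH) (Lpr_gf (K47.f657822 IH) (Lpe (f657821 IH) (Lpr_dt (K47.f485708 IH) (Lpr_gf (K61.f788494 IH) (Lpr_df (f805599 IH) (Lpn v22339)))))))))))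
theorem f520756 : Led Lsl_ct (LP (LK LD1_c14 LD2_c17 LD3_c3)) = (LP (LK LD1_c23 LD2_c54 LD3_c24)) :=
  Lre_c IH (LK LD1_c14 LD2_c17 LD3_c3) (LK LD1_c23 LD2_c54 LD3_c24) Lrfl Lrfl
theorem f523144 : Led Lsl_dt (LP (LK LD1_c30 LD2_c31 LD3_c12)) = (LP (LK LD1_c31 LD2_c11 LD3_c57)) :=
  Lgr Lrot42 (Lpr_df (K47.f523139 IH) (Lpn (LP (LK LD1_c31 LD2_c11 LD3_c57))))
theorem f523166 : Led Lsl_ft (LP (LK LD1_c23 LD2_c54 LD3_c24)) = (LP (LK LD1_c30 LD2_c31 LD3_c12)) :=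
  Lgr Lrot54 (Lpe (K47.f520761 IH) (Lpr_ff (K47.f523157 IH) (Lpe (f523144 IH) (Lpn (LP (LK LD1_c30 LD2_c31 LD3_c12))))))
theorem f523206 : Led Lsl_gt (LP (LK LD1_c30 LD2_c34 LD3_c49)) = (LP (LK LD1_c22 LD2_c33 LD3_c44)) :=
  Lre_g IH (LK LD1_c30 LD2_c34 LD3_c49) (LK LD1_c22 LD2_c33 LD3_c44) Lrfl Lrfl
theorem f523230 : Led Lsl_gt (LP (LK LD1_c23 LD2_c54 LD3_c24)) = (LP (LK LD1_c30 LD2_c34 LD3_c49)) :=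
  Lgr Lrot5 (Lpr_ft (f523166 IH) (Lpr_at (K47.f523129 IH) (Lpe (f523206 IH) (Lpn (LP (LK LD1_c30 LD2_c34 LD3_c49))))))
theorem f658451 : Led Lsl_ct (LP (LK LD1_c14 LD2_c17 LD3_c24)) = (LP (LK LD1_c7 LD2_c34 LD3_c41)) :=
  Lre_c IH (LK LD1_c14 LD2_c17 LD3_c24) (LK LD1_c7 LD2_c34 LD3_c41) Lrfl Lrfl
theorem f658452 : Led Lsl_dt (LP (LK LD1_c23 LD2_c54 LD3_c59)) = (LP (LK LD1_c14 LD2_c17 LD3_c24)) :=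
  Lre_d IH (LK LD1_c23 LD2_c54 LD3_c59) (LK LD1_c14 LD2_c17 LD3_c24) Lrfl Lrfl
theorem f658453 : Led Lsl_gt (LP (LK LD1_c31 LD2_c16 LD3_c60)) = (LP (LK LD1_c23 LD2_c54 LD3_c59)) :=
  Lre_g IH (LK LD1_c31 LD2_c16 LD3_c60) (LK LD1_c23 LD2_c54 LD3_c59) Lrfl Lrfl
theorem f805609 : Led Lsl_dt (LP (LK LD1_c30 LD2_c34 LD3_c49)) = (LP (LK LD1_c31 LD2_c16 LD3_c60)) :=
  Lgr Lrot57 (Lpe (f523230 IH) (Lpe (f520756 IH) (Lpe (K34.f532807 IH) (Lpr_dt (K34.f484731 IH) (Lpr_gt (f805608 IH) (Lpe (f805599 IH) (Lpe (f658451 IH) (Lpe (f658452 IH) (Lpe (f658453 IH) (Lpn (LP (LK LD1_c31 LD2_c16 LD3_c60))))))))))))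
theorem f805610 : Led Lsl_dt (LP (LK LD1_c30 LD2_c34 LD3_c49)) = (LP (LK LD1_c31 LD2_c16 LD3_c60)) :=
  Leop (Lpe (f805609 IH) (Lpn (LP (LK LD1_c30 LD2_c34 LD3_c49))))
theorem seed_1703 : LEOK LG_d (LK LD1_c30 LD2_c34 LD3_c49) :=
  Leoe_d (LK LD1_c30 LD2_c34 LD3_c49) (f805610 IH)
def v22344 : LQ := Led Lsl_dt (LP (LK LD1_c7 LD2_c34 LD3_c43))
theorem f805625 : Led Lsl_dt (LP (LK LD1_c7 LD2_c34 LD3_c43)) = v22344 :=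
  Lrfl
theorem f805627 : Led Lsl_df (LP (LK LD1_c7 LD2_c34 LD3_c43)) = v22344 :=
  Lgr Lrot38 (Lpr_dt (f805625 IH) (Lpn v22344))
theorem f805630 : Led Lsl_bt K48.v7420 = v22344 :=
  Lgr Lrot95 (Lpe (K48.f665302 IH) (Lpe (K62.f493761 IH) (Lpr_df (f805627 IH) (Lpn v22344))))
theorem f665308 : Led Lsl_et (LP (LK LD1_c3 LD2_c47 LD3_c12)) = K48.v7420 :=
  Lgr Lrot87 (Lpr_ef (K48.f665305 IH) (Lpn K48.v7420))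
theorem f805632 : Led Lsl_ef (LP (LK LD1_c7 LD2_c35 LD3_c14)) = v22344 :=
  Lgr Lrot29 (Lpr_bt (K33.f12049 IH) (Lpr_et (f665308 IH) (Lpr_bt (f805630 IH) (Lpn v22344))))
theorem f659908 : Led Lsl_bt (LP (LK LD1_c14 LD2_c0 LD3_c54)) = (LP (LK LD1_c7 LD2_c34 LD3_c36)) :=
  Lgr Lrot127 (Lpr_bf (K47.f659905 IH) (Lpn (LP (LK LD1_c7 LD2_c34 LD3_c36))))
theorem f660002 : Led Lsl_et (LP (LK LD1_c7 LD2_c34 LD3_c36)) = (LP (LK LD1_c13 LD2_c18 LD3_c42)) :=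
  Lgr Lrot74 (Lpe (f659908 IH) (Lpr_ef (K62.f659928 IH) (Lpr_bf (K48.f611528 IH) (Lpn (LP (LK LD1_c13 LD2_c18 LD3_c42))))))
theorem f511784 : Led Lsl_dt (LP (LK LD1_c7 LD2_c34 LD3_c36)) = (LP (LK LD1_c14 LD2_c17 LD3_c13)) :=
  Lre_d IH (LK LD1_c7 LD2_c34 LD3_c36) (LK LD1_c14 LD2_c17 LD3_c13) Lrfl Lrfl
def v22343 : LQ := Led Lsl_gf (LP (LK LD1_c7 LD2_c34 LD3_c43))
theorem f805623 : Led Lsl_gf (LP (LK LD1_c7 LD2_c34 LD3_c43)) = v22343 :=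
  Lrfl
theorem f805635 : (LP (LK LD1_c14 LD2_c17 LD3_c13)) = v22343 :=
  (Llr Lrot136 (Lpe (f511784 IH) (Lpr_et (f660002 IH) (Lpe (K48.f518252 IH) (Lpe (K48.f88126 IH) (Lpr_dt (K48.f88124 IH) (Lpe (K48.f611504 IH) (Lpe (K48.f486880 IH) (Lpe (K33.f486879 IH) (Lpr_ef (f805632 IH) (Lpe (f805627 IH) (Lpr_gf (f805623 IH) (Lpn v22343))))))))))))).symm
theorem f805636 : Led Lsl_gt (LP (LK LD1_c14 LD2_c17 LD3_c13)) = (LP (LK LD1_c7 LD2_c34 LD3_c43)) :=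
  Leop (Lpr_gf (f805623 IH) (Lpq (f805635 IH) (Lpn (LP (LK LD1_c14 LD2_c17 LD3_c13)))))
theorem seed_1704 : LEOK LG_g (LK LD1_c14 LD2_c17 LD3_c13) :=
  Leoe_g (LK LD1_c14 LD2_c17 LD3_c13) (f805636 IH)
theorem f97492 : Led Lsl_dt (LP (LK LD1_c7 LD2_c31 LD3_c56)) = (LP (LK LD1_c14 LD2_c12 LD3_c24)) :=
  Lre_d IH (LK LD1_c7 LD2_c31 LD3_c56) (LK LD1_c14 LD2_c12 LD3_c24) Lrfl Lrfl
def v22342 : LQ := Led Lsl_gt (LP (LK LD1_c7 LD2_c34 LD3_c43))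
theorem f805621 : Led Lsl_gt (LP (LK LD1_c7 LD2_c34 LD3_c43)) = v22342 :=
  Lrfl
theorem f805638 : (LP (LK LD1_c14 LD2_c12 LD3_c24)) = v22342 :=
  (Llr Lrot37 (Lpe (f97492 IH) (Lpr_et (K62.f97496 IH) (Lpr_gt (K7.f111515 IH) (Lpr_dt (K4.f89567 IH) (Lpe (K4.f111836 IH) (Lpr_df (K43.f127265 IH) (Lpr_et (K34.f127268 IH) (Lpr_gt (K62.f489217 IH) (Lpr_ef (f805632 IH) (Lpe (f805627 IH) (Lpr_gt (f805621 IH) (Lpn v22342))))))))))))).symm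
theorem f805622 : Led Lsl_gf (LP (LK LD1_c22 LD2_c33 LD3_c50)) = v22342 :=
  Lgr Lrot76 (Lpe (K62.f665090 IH) (Lpe (K62.f665086 IH) (Lpr_gt (f805621 IH) (Lpn v22342))))
theorem f805639 : Led Lsl_gt (LP (LK LD1_c14 LD2_c12 LD3_c24)) = (LP (LK LD1_c22 LD2_c33 LD3_c50)) :=
  Leop (Lpr_gf (f805622 IH) (Lpq (f805638 IH) (Lpn (LP (LK LD1_c14 LD2_c12 LD3_c24)))))
theorem seed_1705 : LEOK LG_g (LK LD1_c14 LD2_c12 LD3_c24) :=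
  Leoe_g (LK LD1_c14 LD2_c12 LD3_c24) (f805639 IH)
def v22351 : LQ := Led Lsl_et (LP (LK LD1_c7 LD2_c34 LD3_c54))
theorem f805705 : Led Lsl_et (LP (LK LD1_c7 LD2_c34 LD3_c54)) = v22351 :=
  Lrfl
theorem f805708 : Led Lsl_ef (LP (LK LD1_c7 LD2_c34 LD3_c54)) = v22351 :=
  Lgr Lrot88 (Lpr_et (f805705 IH) (Lpn v22351))
theorem f109011 : Led Lsl_et (LP (LK LD1_c7 LD2_c0 LD3_c52)) = (LP (LK LD1_c3 LD2_c29 LD3_c39)) :=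
  Lre_e IH (LK LD1_c7 LD2_c0 LD3_c52) (LK LD1_c3 LD2_c29 LD3_c39) Lrfl Lrfl
theorem f109005 : Led Lsl_dt (LP (LK LD1_c7 LD2_c0 LD3_c52)) = (LP (LK LD1_c13 LD2_c18 LD3_c16)) :=
  Lre_d IH (LK LD1_c7 LD2_c0 LD3_c52) (LK LD1_c13 LD2_c18 LD3_c16) Lrfl Lrfl
theorem f109027 : Led Lsl_gt (LP (LK LD1_c22 LD2_c34 LD3_c13)) = (LP (LK LD1_c13 LD2_c18 LD3_c16)) :=
  Lre_g IH (LK LD1_c22 LD2_c34 LD3_c13) (LK LD1_c13 LD2_c18 LD3_c16) Lrfl Lrfl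
theorem f805711 : Led Lsl_df (LP (LK LD1_c22 LD2_c34 LD3_c13)) = v22351 :=
  Lgr Lrot170 (Lpr_gt (f109027 IH) (Lpe (f109005 IH) (Lpr_et (f109011 IH) (Lpe (K3.f109018 IH) (Lpr_dt (K28.f94531 IH) (Lpe (K42.f419464 IH) (Lpe (K48.f88525 IH) (Lpr_et (K3.f88526 IH) (Lpr_gt (K37.f88546 IH) (Lpr_ef (f805708 IH) (Lpn v22351)))))))))))
theorem f528661 : Led Lsl_at (LP (LK LD1_c6 LD2_c55 LD3_c33)) = (LP (LK LD1_c7 LD2_c34 LD3_c54)) :=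
  Lgr Lrot26 (Lpr_ff (K35.f528651 IH) (Lpr_gt (K33.f88550 IH) (Lpr_gt (K37.f88546 IH) (Lpn (LP (LK LD1_c7 LD2_c34 LD3_c54))))))
theorem f528663 : Led Lsl_af (LP (LK LD1_c6 LD2_c55 LD3_c33)) = (LP (LK LD1_c7 LD2_c34 LD3_c54)) :=
  Lgr Lrot0 (Lpr_at (f528661 IH) (Lpn (LP (LK LD1_c7 LD2_c34 LD3_c54))))
theorem f673585 : Led Lsl_ef K60.v7614 = (LP (LK LD1_c6 LD2_c55 LD3_c33)) :=
  Lgr Lrot88 (Lpr_et (K60.f673583 IH) (Lpn (LP (LK LD1_c6 LD2_c55 LD3_c33))))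
theorem f805709 : Led Lsl_at K60.v7614 = v22351 :=
  Lgr Lrot80 (Lpr_ef (f673585 IH) (Lpr_af (f528663 IH) (Lpr_ef (f805708 IH) (Lpn v22351))))
theorem f805712 : Led Lsl_at (LP (LK LD1_c22 LD2_c34 LD3_c13)) = (LP (LK LD1_c13 LD2_c18 LD3_c27)) :=
  Lgr Lrot51 (Lpr_df (f805711 IH) (Lpe (f805709 IH) (Lpr_df (K60.f673587 IH) (Lpn (LP (LK LD1_c13 LD2_c18 LD3_c27))))))
theorem f805713 : Led Lsl_at (LP (LK LD1_c22 LD2_c34 LD3_c13)) = (LP (LK LD1_c13 LD2_c18 LD3_c27)) :=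
  Leop (Lpe (f805712 IH) (Lpn (LP (LK LD1_c22 LD2_c34 LD3_c13))))
theorem seed_1706 : LEOK LG_a (LK LD1_c22 LD2_c34 LD3_c13) :=
  Leoe_a (LK LD1_c22 LD2_c34 LD3_c13) (f805713 IH)
theorem f805714 : Led Lsl_dt (LP (LK LD1_c22 LD2_c34 LD3_c13)) = v22351 :=
  Lgr Lrot42 (Lpr_df (f805711 IH) (Lpn v22351))
theorem f805706 : Led Lsl_af K60.v7614 = v22351 :=
  Lgr Lrot50 (Lpr_et (K60.f673583 IH) (Lpr_at (f528661 IH) (Lpr_et (f805705 IH) (Lpn v22351))))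
theorem f805718 : Led Lsl_af (LP (LK LD1_c22 LD2_c34 LD3_c13)) = (LP (LK LD1_c13 LD2_c18 LD3_c27)) :=
  Lgr Lrot117 (Lpr_dt (f805714 IH) (Lpe (f805706 IH) (Lpr_dt (K60.f673586 IH) (Lpn (LP (LK LD1_c13 LD2_c18 LD3_c27))))))
theorem f785472 : Led Lsl_at (LP (LK LD1_c6 LD2_c54 LD3_c14)) = K60.v20198 :=
  Lgr Lrot66 (Lpr_ff (K61.f785471 IH) (Lpe (K61.f785468 IH) (Lpr_ff (K60.f785466 IH) (Lpn K60.v20198))))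
theorem f657796 : Led Lsl_bt (LP (LK LD1_c13 LD2_c7 LD3_c6)) = (LP (LK LD1_c6 LD2_c54 LD3_c14)) :=
  Lre_b IH (LK LD1_c13 LD2_c7 LD3_c6) (LK LD1_c6 LD2_c54 LD3_c14) Lrfl Lrfl
theorem f785473 : Led Lsl_at (LP (LK LD1_c22 LD2_c18 LD3_c47)) = (LP (LK LD1_c13 LD2_c7 LD3_c6)) :=
  Lre_a IH (LK LD1_c22 LD2_c18 LD3_c47) (LK LD1_c13 LD2_c7 LD3_c6) Lrfl Lrfl
theorem f805720 : Led Lsl_bt (LP (LK LD1_c22 LD2_c34 LD3_c13)) = (LP (LK LD1_c22 LD2_c18 LD3_c47)) :=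
  Lgr Lrot62 (Lpr_af (f805718 IH) (Lpr_bf (K60.f785464 IH) (Lpe (f785472 IH) (Lpe (f657796 IH) (Lpe (f785473 IH) (Lpn (LP (LK LD1_c22 LD2_c18 LD3_c47))))))))
theorem f805721 : Led Lsl_bt (LP (LK LD1_c22 LD2_c34 LD3_c13)) = (LP (LK LD1_c22 LD2_c18 LD3_c47)) :=
  Leop (Lpe (f805720 IH) (Lpn (LP (LK LD1_c22 LD2_c34 LD3_c13))))
theorem seed_1707 : LEOK LG_b (LK LD1_c22 LD2_c34 LD3_c13) :=
  Leoe_b (LK LD1_c22 LD2_c34 LD3_c13) (f805721 IH)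
def v22368 : LQ := Led Lsl_ft (LP (LK LD1_c7 LD2_c35 LD3_c7))
theorem f805858 : Led Lsl_ft (LP (LK LD1_c7 LD2_c35 LD3_c7)) = v22368 :=
  Lrfl
theorem f805861 : Led Lsl_ff (LP (LK LD1_c7 LD2_c35 LD3_c7)) = v22368 :=
  Lgr Lrot3 (Lpr_ft (f805858 IH) (Lpn v22368))
def v20340 : LQ := Led Lsl_ft (LP (LK LD1_c6 LD2_c54 LD3_c49))
theorem f786432 : Led Lsl_ft (LP (LK LD1_c6 LD2_c54 LD3_c49)) = v20340 :=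
  Lrfl
theorem f805863 : Led Lsl_bt v20340 = v22368 :=
  Lgr Lrot35 (Lpe (f786432 IH) (Lpe (K34.f485465 IH) (Lpr_ff (f805861 IH) (Lpn v22368))))
theorem f786434 : Led Lsl_ff (LP (LK LD1_c6 LD2_c54 LD3_c49)) = v20340 :=
  Lgr Lrot3 (Lpr_ft (f786432 IH) (Lpn v20340))
def v20339 : LQ := Led Lsl_at (LP (LK LD1_c6 LD2_c54 LD3_c49))
theorem f786427 : Led Lsl_at (LP (LK LD1_c6 LD2_c54 LD3_c49)) = v20339 :=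
  Lrfl
theorem f786428 : Led Lsl_af (LP (LK LD1_c6 LD2_c54 LD3_c49)) = v20339 :=
  Lgr Lrot0 (Lpr_at (f786427 IH) (Lpn v20339))
theorem f15176 : Led Lsl_gt (LP (LK LD1_c3 LD2_c26 LD3_c30)) = (LP (LK LD1_c6 LD2_c54 LD3_c49)) :=
  Lre_g IH (LK LD1_c3 LD2_c26 LD3_c30) (LK LD1_c6 LD2_c54 LD3_c49) Lrfl Lrfl
theorem f786429 : Led Lsl_ft (LP (LK LD1_c6 LD2_c54 LD3_c50)) = v20339 :=
  Lgr Lrot2 (Lpr_gt (K33.f15195 IH) (Lpr_gt (f15176 IH) (Lpr_af (f786428 IH) (Lpn v20339))))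
theorem f786430 : Led Lsl_ff (LP (LK LD1_c6 LD2_c54 LD3_c50)) = v20339 :=
  Lgr Lrot3 (Lpr_ft (f786429 IH) (Lpn v20339))
theorem f786435 : Led Lsl_at (LP (LK LD1_c6 LD2_c54 LD3_c50)) = v20340 :=
  Lgr Lrot66 (Lpr_ff (f786430 IH) (Lpe (f786427 IH) (Lpr_ff (f786434 IH) (Lpn v20340))))
def v22366 : LQ := Led Lsl_at (LP (LK LD1_c7 LD2_c35 LD3_c7))
theorem f805846 : Led Lsl_at (LP (LK LD1_c7 LD2_c35 LD3_c7)) = v22366 :=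
  Lrfl
theorem f805847 : Led Lsl_af (LP (LK LD1_c7 LD2_c35 LD3_c7)) = v22366 :=
  Lgr Lrot0 (Lpr_at (f805846 IH) (Lpn v22366))
theorem f805848 : Led Lsl_ft (LP (LK LD1_c7 LD2_c35 LD3_c8)) = v22366 :=
  Lgr Lrot2 (Lpr_gt (K33.f12029 IH) (Lpr_gt (K34.f12022 IH) (Lpr_af (f805847 IH) (Lpn v22366))))
theorem f805859 : Led Lsl_af (LP (LK LD1_c7 LD2_c35 LD3_c8)) = v22368 :=
  Lgr Lrot45 (Lpr_ft (f805848 IH) (Lpe (f805847 IH) (Lpr_ft (f805858 IH) (Lpn v22368))))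
theorem f805864 : Led Lsl_af (LP (LK LD1_c13 LD2_c8 LD3_c8)) = (LP (LK LD1_c14 LD2_c18 LD3_c7)) :=
  Lgr Lrot36 (Lpr_bt (K33.f15269 IH) (Lpr_at (f786435 IH) (Lpr_bt (f805863 IH) (Lpe (f805859 IH) (Lpr_bt (K33.f479185 IH) (Lpn (LP (LK LD1_c14 LD2_c18 LD3_c7))))))))
theorem f805865 : Led Lsl_at (LP (LK LD1_c14 LD2_c18 LD3_c7)) = (LP (LK LD1_c13 LD2_c8 LD3_c8)) :=
  Leop (Lpr_af (f805864 IH) (Lpn (LP (LK LD1_c14 LD2_c18 LD3_c7))))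
theorem seed_1708 : LEOK LG_a (LK LD1_c14 LD2_c18 LD3_c7) :=
  Leoe_a (LK LD1_c14 LD2_c18 LD3_c7) (f805865 IH)
def v22369 : LQ := Led Lsl_gt (LP (LK LD1_c7 LD2_c35 LD3_c9))
theorem f806302 : Led Lsl_gt (LP (LK LD1_c7 LD2_c35 LD3_c9)) = v22369 :=
  Lrfl
theorem f12014 : Led Lsl_dt (LP (LK LD1_c3 LD2_c47 LD3_c10)) = (LP (LK LD1_c7 LD2_c35 LD3_c9)) :=
  Lre_d IH (LK LD1_c3 LD2_c47 LD3_c10) (LK LD1_c7 LD2_c35 LD3_c9) Lrfl Lrfl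
theorem f145157 : Led Lsl_gt (LP (LK LD1_c21 LD2_c40 LD3_c26)) = (LP (LK LD1_c12 LD2_c34 LD3_c10)) :=
  Lre_g IH (LK LD1_c21 LD2_c40 LD3_c26) (LK LD1_c12 LD2_c34 LD3_c10) Lrfl Lrfl
def v22195 : LQ := Led Lsl_ft (LP (LK LD1_c7 LD2_c32 LD3_c38))
theorem f804726 : Led Lsl_ft (LP (LK LD1_c7 LD2_c32 LD3_c38)) = v22195 :=
  Lrfl
theorem f514221 : Led Lsl_ff (LP (LK LD1_c13 LD2_c12 LD3_c4)) = (LP (LK LD1_c22 LD2_c19 LD3_c29)) :=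
  Lgr Lrot3 (Lpr_ft (K62.f514214 IH) (Lpn (LP (LK LD1_c22 LD2_c19 LD3_c29))))
theorem f514226 : Led Lsl_ft (LP (LK LD1_c22 LD2_c25 LD3_c17)) = (LP (LK LD1_c22 LD2_c40 LD3_c16)) :=
  Lgr Lrot54 (Lpe (K62.f514223 IH) (Lpr_ff (f514221 IH) (Lpe (K62.f472245 IH) (Lpn (LP (LK LD1_c22 LD2_c40 LD3_c16))))))
theorem f91905 : Led Lsl_at (LP (LK LD1_c13 LD2_c12 LD3_c6)) = (LP (LK LD1_c22 LD2_c25 LD3_c17)) :=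
  Lre_a IH (LK LD1_c13 LD2_c12 LD3_c6) (LK LD1_c22 LD2_c25 LD3_c17) Lrfl Lrfl
theorem f472255 : Led Lsl_at (LP (LK LD1_c22 LD2_c40 LD3_c16)) = (LP (LK LD1_c13 LD2_c22 LD3_c41)) :=
  Lre_a IH (LK LD1_c22 LD2_c40 LD3_c16) (LK LD1_c13 LD2_c22 LD3_c41) Lrfl Lrfl
theorem f514229 : Led Lsl_ff (LP (LK LD1_c13 LD2_c12 LD3_c6)) = (LP (LK LD1_c13 LD2_c22 LD3_c41)) :=
  Lgr Lrot30 (Lpr_at (f91905 IH) (Lpr_ft (f514226 IH) (Lpr_at (f472255 IH) (Lpn (LP (LK LD1_c13 LD2_c22 LD3_c41))))))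
theorem f514235 : Led Lsl_ft (LP (LK LD1_c13 LD2_c12 LD3_c6)) = (LP (LK LD1_c13 LD2_c22 LD3_c41)) :=
  Lgr Lrot48 (Lpr_ff (f514229 IH) (Lpn (LP (LK LD1_c13 LD2_c22 LD3_c41))))
theorem f803571 : Led Lsl_gf (LP (LK LD1_c21 LD2_c39 LD3_c12)) = (LP (LK LD1_c13 LD2_c12 LD3_c6)) :=
  Lgr Lrot47 (Lpr_gt (K62.f803569 IH) (Lpe (K62.f472243 IH) (Lpe (f514235 IH) (Lpn (LP (LK LD1_c13 LD2_c12 LD3_c6))))))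
theorem f803563 : Led Lsl_ct (LP (LK LD1_c21 LD2_c39 LD3_c12)) = (LP (LK LD1_c22 LD2_c40 LD3_c10)) :=
  Lgr Lrot59 (Lpr_cf (K62.f803545 IH) (Lpn (LP (LK LD1_c22 LD2_c40 LD3_c10))))
theorem f803567 : Led Lsl_dt (LP (LK LD1_c24 LD2_c14 LD3_c61)) = (LP (LK LD1_c22 LD2_c40 LD3_c10)) :=
  Lgr Lrot105 (Lpe (K49.f527199 IH) (Lpe (K49.f458210 IH) (Lpe (K62.f534335 IH) (Lpe (K6.f116697 IH) (Lpe (K62.f533433 IH) (Lpr_dt (K34.f458051 IH) (Lpr_gt (K62.f476054 IH) (Lpr_dt (K62.f535149 IH) (Lpr_cf (K62.f803545 IH) (Lpn (LP (LK LD1_c22 LD2_c40 LD3_c10))))))))))))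
theorem f534259 : Led Lsl_cf (LP (LK LD1_c24 LD2_c14 LD3_c61)) = (LP (LK LD1_c14 LD2_c41 LD3_c50)) :=
  Lgr Lrot11 (Lpr_ct (K49.f534254 IH) (Lpn (LP (LK LD1_c14 LD2_c41 LD3_c50))))
theorem f458074 : Led Lsl_gt (LP (LK LD1_c7 LD2_c47 LD3_c21)) = (LP (LK LD1_c3 LD2_c52 LD3_c49)) :=
  Lre_g IH (LK LD1_c7 LD2_c47 LD3_c21) (LK LD1_c3 LD2_c52 LD3_c49) Lrfl Lrfl
theorem f476033 : Led Lsl_dt (LP (LK LD1_c14 LD2_c41 LD3_c48)) = (LP (LK LD1_c7 LD2_c47 LD3_c21)) :=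
  Lre_d IH (LK LD1_c14 LD2_c41 LD3_c48) (LK LD1_c7 LD2_c47 LD3_c21) Lrfl Lrfl
theorem f129745 : Led Lsl_bt (LP (LK LD1_c7 LD2_c0 LD3_c14)) = (LP (LK LD1_c13 LD2_c17 LD3_c19)) :=
  Lre_b IH (LK LD1_c7 LD2_c0 LD3_c14) (LK LD1_c13 LD2_c17 LD3_c19) Lrfl Lrfl
theorem f457439 : Led Lsl_cf (LP (LK LD1_c13 LD2_c12 LD3_c6)) = (LP (LK LD1_c13 LD2_c17 LD3_c19)) :=
  Lgr Lrot97 (Lpr_bt (K39.f90924 IH) (Lpr_ct (K28.f457437 IH) (Lpr_bt (K29.f129679 IH) (Lpr_ct (K24.f129694 IH) (Lpr_bt (f129745 IH) (Lpn (LP (LK LD1_c13 LD2_c17 LD3_c19))))))))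
theorem f803594 : Led Lsl_gt (LP (LK LD1_c14 LD2_c41 LD3_c48)) = (LP (LK LD1_c13 LD2_c17 LD3_c19)) :=
  Lgr Lrot146 (Lpr_dt (f476033 IH) (Lpr_gt (f458074 IH) (Lpr_ct (K34.f463824 IH) (Lpr_gt (K49.f475547 IH) (Lpe (f534259 IH) (Lpr_dt (f803567 IH) (Lpe (f803563 IH) (Lpr_gf (f803571 IH) (Lpr_cf (f457439 IH) (Lpn (LP (LK LD1_c13 LD2_c17 LD3_c19))))))))))))
theorem f476028 : Led Lsl_dt (LP (LK LD1_c7 LD2_c47 LD3_c21)) = (LP (LK LD1_c14 LD2_c41 LD3_c48)) :=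
  Lre_d IH (LK LD1_c7 LD2_c47 LD3_c21) (LK LD1_c14 LD2_c41 LD3_c48) Lrfl Lrfl
theorem f803597 : Led Lsl_df (LP (LK LD1_c24 LD2_c14 LD3_c61)) = (LP (LK LD1_c22 LD2_c40 LD3_c10)) :=
  Lgr Lrot162 (Lpr_cf (f534259 IH) (Lpe (K49.f475547 IH) (Lpe (K34.f463824 IH) (Lpe (f458074 IH) (Lpr_dt (f476028 IH) (Lpr_gt (f803594 IH) (Lpe (f457439 IH) (Lpe (f803571 IH) (Lpr_ct (f803563 IH) (Lpn (LP (LK LD1_c22 LD2_c40 LD3_c10))))))))))))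
theorem f802406 : Led Lsl_ct (LP (LK LD1_c7 LD2_c43 LD3_c38)) = (LP (LK LD1_c12 LD2_c51 LD3_c19)) :=
  Lgr Lrot59 (Lpr_cf (K62.f802404 IH) (Lpn (LP (LK LD1_c12 LD2_c51 LD3_c19))))
theorem f437242 : Led Lsl_dt (LP (LK LD1_c22 LD2_c0 LD3_c0)) = (LP (LK LD1_c12 LD2_c51 LD3_c19)) :=
  Lre_d IH (LK LD1_c22 LD2_c0 LD3_c0) (LK LD1_c12 LD2_c51 LD3_c19) Lrfl Lrfl
theorem f517051 : Led Lsl_gt (LP (LK LD1_c7 LD2_c48 LD3_c28)) = (LP (LK LD1_c14 LD2_c43 LD3_c58)) :=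
  Lre_g IH (LK LD1_c7 LD2_c48 LD3_c28) (LK LD1_c14 LD2_c43 LD3_c58) Lrfl Lrfl
theorem f803103 : Led Lsl_af (LP (LK LD1_c22 LD2_c0 LD3_c0)) = (LP (LK LD1_c12 LD2_c51 LD3_c43)) :=
  Lgr Lrot45 (Lpe (K62.f802420 IH) (Lpe (K62.f803085 IH) (Lpr_ft (K62.f803101 IH) (Lpn (LP (LK LD1_c12 LD2_c51 LD3_c43))))))
theorem f803112 : Led Lsl_gt (LP (LK LD1_c14 LD2_c43 LD3_c58)) = (LP (LK LD1_c22 LD2_c0 LD3_c0)) :=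
  Lgr Lrot46 (Lpe (f517051 IH) (Lpr_ft (K62.f803101 IH) (Lpe (f803103 IH) (Lpn (LP (LK LD1_c22 LD2_c0 LD3_c0))))))
theorem f803600 : Led Lsl_df (LP (LK LD1_c14 LD2_c43 LD3_c58)) = (LP (LK LD1_c13 LD2_c22 LD3_c53)) :=
  Lgr Lrot153 (Lpr_gt (f803112 IH) (Lpr_dt (f437242 IH) (Lpe (f802406 IH) (Lpe (K49.f531188 IH) (Lpr_gf (K49.f531186 IH) (Lpr_df (f803597 IH) (Lpe (K62.f457605 IH) (Lpe (K62.f457601 IH) (Lpr_gt (K62.f129768 IH) (Lpn (LP (LK LD1_c13 LD2_c22 LD3_c53))))))))))))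
theorem f458223 : Led Lsl_dt (LP (LK LD1_c3 LD2_c53 LD3_c26)) = (LP (LK LD1_c7 LD2_c48 LD3_c28)) :=
  Lre_d IH (LK LD1_c3 LD2_c53 LD3_c26) (LK LD1_c7 LD2_c48 LD3_c28) Lrfl Lrfl
theorem f145243 : Led Lsl_ct (LP (LK LD1_c4 LD2_c47 LD3_c49)) = (LP (LK LD1_c6 LD2_c43 LD3_c14)) :=
  Lgr Lrot15 (Lpe (K6.f87635 IH) (Lpr_cf (K6.f145180 IH) (Lpe (K62.f64454 IH) (Lpn (LP (LK LD1_c6 LD2_c43 LD3_c14))))))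
theorem f801840 : K48.v7621 = (LP (LK LD1_c6 LD2_c43 LD3_c14)) :=
  Lefun (Lecon (K48.f667340 IH) (K62.f801833 IH).symm) (f145243 IH)
theorem f64449 : Led Lsl_et (LP (LK LD1_c3 LD2_c19 LD3_c43)) = (LP (LK LD1_c6 LD2_c43 LD3_c14)) :=
  Lre_e IH (LK LD1_c3 LD2_c19 LD3_c43) (LK LD1_c6 LD2_c43 LD3_c14) Lrfl Lrfl
theorem f62586 : Led Lsl_dt (LP (LK LD1_c3 LD2_c19 LD3_c43)) = (LP (LK LD1_c1 LD2_c36 LD3_c15)) :=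
  Lre_d IH (LK LD1_c3 LD2_c19 LD3_c43) (LK LD1_c1 LD2_c36 LD3_c15) Lrfl Lrfl
theorem f143094 : Led Lsl_bt (LP (LK LD1_c0 LD2_c44 LD3_c37)) = (LP (LK LD1_c1 LD2_c8 LD3_c10)) :=
  Lgr Lrot62 (Lpe (K51.f62338 IH) (Lpe (K2.f56679 IH) (Lpr_af (K6.f143092 IH) (Lpe (K5.f13617 IH) (Lpe (K5.f84588 IH) (Lpn (LP (LK LD1_c1 LD2_c8 LD3_c10))))))))
theorem f144143 : Led Lsl_gt (LP (LK LD1_c2 LD2_c21 LD3_c46)) = (LP (LK LD1_c1 LD2_c36 LD3_c15)) :=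
  Lgr Lrot65 (Lpe (K2.f78098 IH) (Lpe (K2.f23534 IH) (Lpe (K3.f103115 IH) (Lpr_bf (K4.f114985 IH) (Lpr_ct (K5.f124592 IH) (Lpe (K5.f124610 IH) (Lpe (K4.f23693 IH) (Lpr_gf (K6.f144137 IH) (Lpe (f143094 IH) (Lpr_ct (K7.f62584 IH) (Lpn (LP (LK LD1_c1 LD2_c36 LD3_c15)))))))))))))
theorem f95510 : Led Lsl_gt (LP (LK LD1_c7 LD2_c32 LD3_c33)) = (LP (LK LD1_c3 LD2_c45 LD3_c54)) :=
  Lre_g IH (LK LD1_c7 LD2_c32 LD3_c33) (LK LD1_c3 LD2_c45 LD3_c54) Lrfl Lrfl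
theorem f803606 : Led Lsl_ef (LP (LK LD1_c7 LD2_c32 LD3_c33)) = (LP (LK LD1_c13 LD2_c22 LD3_c53)) :=
  Lgr Lrot114 (Lpr_gt (f95510 IH) (Lpe (K62.f108990 IH) (Lpe (K3.f108982 IH) (Lpr_gt (f144143 IH) (Lpe (f62586 IH) (Lpr_et (f64449 IH) (Lpq (f801840 IH) (Lpe (K48.f667339 IH) (Lpr_dt (f458223 IH) (Lpr_gt (f517051 IH) (Lpr_df (f803600 IH) (Lpn (LP (LK LD1_c13 LD2_c22 LD3_c53))))))))))))))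
theorem f658401 : Led Lsl_et (LP (LK LD1_c7 LD2_c0 LD3_c25)) = (LP (LK LD1_c13 LD2_c17 LD3_c38)) :=
  Lre_e IH (LK LD1_c7 LD2_c0 LD3_c25) (LK LD1_c13 LD2_c17 LD3_c38) Lrfl Lrfl
theorem f803612 : (LP (LK LD1_c13 LD2_c17 LD3_c38)) = K62.v20726 :=
  (Llr Lrot158 (Lpe (f658401 IH) (Lpr_cf (K47.f658395 IH) (Lpr_ef (f803606 IH) (Lpr_cf (K62.f789517 IH) (Lpn K62.v20726)))))).symm
theorem f472248 : Led Lsl_at (LP (LK LD1_c13 LD2_c23 LD3_c11)) = (LP (LK LD1_c7 LD2_c3 LD3_c33)) :=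
  Lre_a IH (LK LD1_c13 LD2_c23 LD3_c11) (LK LD1_c7 LD2_c3 LD3_c33) Lrfl Lrfl
theorem f472253 : Led Lsl_df (LP (LK LD1_c22 LD2_c40 LD3_c16)) = (LP (LK LD1_c22 LD2_c19 LD3_c29)) :=
  Lgr Lrot38 (Lpr_dt (K62.f472245 IH) (Lpn (LP (LK LD1_c22 LD2_c19 LD3_c29))))
theorem f514218 : Led Lsl_ff (LP (LK LD1_c22 LD2_c25 LD3_c17)) = (LP (LK LD1_c22 LD2_c40 LD3_c16)) :=
  Lgr Lrot19 (Lpr_dt (K62.f514217 IH) (Lpr_ft (K62.f514214 IH) (Lpe (f472253 IH) (Lpn (LP (LK LD1_c22 LD2_c40 LD3_c16))))))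
theorem f801978 : Led Lsl_ff (LP (LK LD1_c13 LD2_c23 LD3_c11)) = (LP (LK LD1_c17 LD2_c17 LD3_c21)) :=
  Lgr Lrot23 (Lpr_ct (K62.f472252 IH) (Lpe (f514218 IH) (Lpr_ct (K62.f801972 IH) (Lpn (LP (LK LD1_c17 LD2_c17 LD3_c21))))))
theorem f803621 : Led Lsl_gt (LP (LK LD1_c17 LD2_c17 LD3_c21)) = (LP (LK LD1_c13 LD2_c17 LD3_c38)) :=
  Lgr Lrot5 (Lpe (f801978 IH) (Lpr_at (f472248 IH) (Lpr_gf (K62.f789514 IH) (Lpq (f803612 IH) (Lpn (LP (LK LD1_c13 LD2_c17 LD3_c38)))))))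
theorem f120372 : Led Lsl_et (LP (LK LD1_c13 LD2_c17 LD3_c38)) = (LP (LK LD1_c7 LD2_c0 LD3_c25)) :=
  Lre_e IH (LK LD1_c13 LD2_c17 LD3_c38) (LK LD1_c7 LD2_c0 LD3_c25) Lrfl Lrfl
theorem f120370 : Led Lsl_et (LP (LK LD1_c1 LD2_c41 LD3_c26)) = (LP (LK LD1_c3 LD2_c29 LD3_c24)) :=
  Lre_e IH (LK LD1_c1 LD2_c41 LD3_c26) (LK LD1_c3 LD2_c29 LD3_c24) Lrfl Lrfl
theorem f474110 : Led Lsl_at (LP (LK LD1_c14 LD2_c22 LD3_c8)) = (LP (LK LD1_c7 LD2_c37 LD3_c19)) :=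
  Lre_a IH (LK LD1_c14 LD2_c22 LD3_c8) (LK LD1_c7 LD2_c37 LD3_c19) Lrfl Lrfl
theorem f457845 : Led Lsl_gt (LP (LK LD1_c14 LD2_c22 LD3_c11)) = (LP (LK LD1_c7 LD2_c37 LD3_c19)) :=
  Lre_g IH (LK LD1_c14 LD2_c22 LD3_c11) (LK LD1_c7 LD2_c37 LD3_c19) Lrfl Lrfl
theorem f475967 : Led Lsl_gt (LP (LK LD1_c7 LD2_c47 LD3_c18)) = (LP (LK LD1_c14 LD2_c22 LD3_c11)) :=
  Lgr Lrot5 (Lpr_ft (K34.f475651 IH) (Lpr_at (f474110 IH) (Lpe (f457845 IH) (Lpn (LP (LK LD1_c14 LD2_c22 LD3_c11))))))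
theorem f803616 : Led Lsl_df (LP (LK LD1_c14 LD2_c22 LD3_c11)) = (LP (LK LD1_c13 LD2_c17 LD3_c38)) :=
  Lgr Lrot132 (Lpe (f475967 IH) (Lpe (K34.f475527 IH) (Lpqs (K62.f801838 IH) (Lpe (K62.f704665 IH) (Lpe (K6.f87635 IH) (Lpr_dt (K3.f11012 IH) (Lpe (K3.f89825 IH) (Lpr_df (K4.f120361 IH) (Lpr_et (f120370 IH) (Lpe (K47.f120371 IH) (Lpe (f120372 IH) (Lpn (LP (LK LD1_c13 LD2_c17 LD3_c38))))))))))))))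
theorem f475972 : Led Lsl_ct (LP (LK LD1_c24 LD2_c0 LD3_c16)) = (LP (LK LD1_c14 LD2_c22 LD3_c11)) :=
  Lre_c IH (LK LD1_c24 LD2_c0 LD3_c16) (LK LD1_c14 LD2_c22 LD3_c11) Lrfl Lrfl
theorem f475970 : Led Lsl_dt (LP (LK LD1_c31 LD2_c18 LD3_c61)) = (LP (LK LD1_c24 LD2_c0 LD3_c16)) :=
  Lre_d IH (LK LD1_c31 LD2_c18 LD3_c61) (LK LD1_c24 LD2_c0 LD3_c16) Lrfl Lrfl
theorem f803623 : Led Lsl_gt (LP (LK LD1_c24 LD2_c17 LD3_c9)) = (LP (LK LD1_c31 LD2_c18 LD3_c61)) :=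
  Lgr Lrot49 (Lpe (K62.f457603 IH) (Lpe (K62.f802929 IH) (Lpe (K62.f473974 IH) (Lpr_gt (K62.f801980 IH) (Lpr_dt (K62.f116752 IH) (Lpr_gt (f803621 IH) (Lpe (f803616 IH) (Lpe (f475972 IH) (Lpe (f475970 IH) (Lpn (LP (LK LD1_c31 LD2_c18 LD3_c61))))))))))))
theorem f512928 : Led Lsl_ff (LP (LK LD1_c14 LD2_c34 LD3_c24)) = (LP (LK LD1_c24 LD2_c15 LD3_c5)) :=
  Lgr Lrot3 (Lpr_ft (K62.f512918 IH) (Lpn (LP (LK LD1_c24 LD2_c15 LD3_c5))))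
theorem f512931 : Led Lsl_ft (LP (LK LD1_c24 LD2_c17 LD3_c9)) = (LP (LK LD1_c31 LD2_c26 LD3_c27)) :=
  Lgr Lrot54 (Lpe (K62.f457603 IH) (Lpr_ff (f512928 IH) (Lpe (K62.f446529 IH) (Lpn (LP (LK LD1_c31 LD2_c26 LD3_c27))))))
theorem f802779 : Led Lsl_af (LP (LK LD1_c22 LD2_c0 LD3_c48)) = (LP (LK LD1_c30 LD2_c7 LD3_c3)) :=
  Lgr Lrot31 (Lpe (K62.f802554 IH) (Lpe (K62.f802450 IH) (Lpr_ft (K62.f802775 IH) (Lpn (LP (LK LD1_c30 LD2_c7 LD3_c3))))))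
theorem f145176 : Led Lsl_dt (LP (LK LD1_c32 LD2_c50 LD3_c16)) = (LP (LK LD1_c30 LD2_c7 LD3_c3)) :=
  Lre_d IH (LK LD1_c32 LD2_c50 LD3_c16) (LK LD1_c30 LD2_c7 LD3_c3) Lrfl Lrfl
theorem f802783 : Led Lsl_at (LP (LK LD1_c30 LD2_c15 LD3_c26)) = (LP (LK LD1_c32 LD2_c50 LD3_c16)) :=
  Lgr Lrot51 (Lpe (K62.f802557 IH) (Lpr_af (f802779 IH) (Lpe (f145176 IH) (Lpn (LP (LK LD1_c32 LD2_c50 LD3_c16))))))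
theorem f802975 : Led Lsl_at (LP (LK LD1_c31 LD2_c26 LD3_c27)) = (LP (LK LD1_c31 LD2_c19 LD3_c48)) :=
  Lgr Lrot107 (Lpr_cf (K62.f802815 IH) (Lpe (f802783 IH) (Lpr_cf (K62.f802973 IH) (Lpn (LP (LK LD1_c31 LD2_c19 LD3_c48))))))
theorem f803636 : Led Lsl_gf (LP (LK LD1_c31 LD2_c19 LD3_c48)) = (LP (LK LD1_c31 LD2_c18 LD3_c61)) :=
  Lgr Lrot76 (Lpe (f802975 IH) (Lpe (f512931 IH) (Lpr_gt (f803623 IH) (Lpn (LP (LK LD1_c31 LD2_c18 LD3_c61))))))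
theorem f802966 : Led Lsl_dt (LP (LK LD1_c31 LD2_c19 LD3_c48)) = (LP (LK LD1_c24 LD2_c1 LD3_c33)) :=
  Lre_d IH (LK LD1_c31 LD2_c19 LD3_c48) (LK LD1_c24 LD2_c1 LD3_c33) Lrfl Lrfl
theorem f803604 : Led Lsl_dt (LP (LK LD1_c14 LD2_c43 LD3_c58)) = (LP (LK LD1_c13 LD2_c22 LD3_c53)) :=
  Lgr Lrot42 (Lpr_df (f803600 IH) (Lpn (LP (LK LD1_c13 LD2_c22 LD3_c53))))
theorem f457847 : Led Lsl_gt (LP (LK LD1_c22 LD2_c24 LD3_c38)) = (LP (LK LD1_c13 LD2_c11 LD3_c44)) :=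
  Lre_g IH (LK LD1_c22 LD2_c24 LD3_c38) (LK LD1_c13 LD2_c11 LD3_c44) Lrfl Lrfl
theorem f517053 : Led Lsl_cf (LP (LK LD1_c22 LD2_c24 LD3_c38)) = (LP (LK LD1_c14 LD2_c43 LD3_c58)) :=
  Lgr Lrot125 (Lpr_gt (f457847 IH) (Lpe (K62.f457836 IH) (Lpr_bt (K62.f469071 IH) (Lpr_gt (K28.f472801 IH) (Lpe (K62.f487223 IH) (Lpr_ct (K48.f487225 IH) (Lpr_gt (K48.f517040 IH) (Lpe (K48.f472369 IH) (Lpr_bt (K62.f517047 IH) (Lpr_gt (f517051 IH) (Lpn (LP (LK LD1_c14 LD2_c43 LD3_c58)))))))))))))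
theorem f517056 : Led Lsl_ct (LP (LK LD1_c22 LD2_c24 LD3_c38)) = (LP (LK LD1_c14 LD2_c43 LD3_c58)) :=
  Lgr Lrot59 (Lpr_cf (f517053 IH) (Lpn (LP (LK LD1_c14 LD2_c43 LD3_c58))))
theorem f475613 : Led Lsl_gt (LP (LK LD1_c24 LD2_c25 LD3_c45)) = (LP (LK LD1_c22 LD2_c24 LD3_c38)) :=
  Lgr Lrot5 (Lpr_ft (K34.f475598 IH) (Lpr_at (K34.f457842 IH) (Lpe (f457847 IH) (Lpn (LP (LK LD1_c22 LD2_c24 LD3_c38))))))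
theorem f475471 : Led Lsl_dt (LP (LK LD1_c22 LD2_c24 LD3_c34)) = (LP (LK LD1_c13 LD2_c11 LD3_c42)) :=
  Lre_d IH (LK LD1_c22 LD2_c24 LD3_c34) (LK LD1_c13 LD2_c11 LD3_c42) Lrfl Lrfl
theorem f803625 : Led Lsl_gf (LP (LK LD1_c22 LD2_c25 LD3_c17)) = (LP (LK LD1_c22 LD2_c24 LD3_c34)) :=
  Lgr Lrot147 (Lpr_ct (K62.f801972 IH) (Lpr_gt (f803621 IH) (Lpqs (f803612 IH) (Lpe (K62.f789517 IH) (Lpe (f803604 IH) (Lpe (f517056 IH) (Lpe (f475613 IH) (Lpe (K34.f475474 IH) (Lpr_gf (K62.f475465 IH) (Lpe (f475471 IH) (Lpn (LP (LK LD1_c22 LD2_c24 LD3_c34)))))))))))))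
theorem f472963 : Led Lsl_dt (LP (LK LD1_c13 LD2_c11 LD3_c42)) = (LP (LK LD1_c22 LD2_c24 LD3_c34)) :=
  Lre_d IH (LK LD1_c13 LD2_c11 LD3_c42) (LK LD1_c22 LD2_c24 LD3_c34) Lrfl Lrfl
theorem f473164 : Led Lsl_dt (LP (LK LD1_c22 LD2_c24 LD3_c37)) = (LP (LK LD1_c30 LD2_c29 LD3_c1)) :=
  Lre_d IH (LK LD1_c22 LD2_c24 LD3_c37) (LK LD1_c30 LD2_c29 LD3_c1) Lrfl Lrfl
theorem f803629 : Led Lsl_gf (LP (LK LD1_c30 LD2_c15 LD3_c30)) = (LP (LK LD1_c30 LD2_c29 LD3_c1)) :=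
  Lgr Lrot143 (Lpr_dt (K62.f802610 IH) (Lpe (K62.f802598 IH) (Lpe (K62.f514217 IH) (Lpr_gf (f803625 IH) (Lpe (f472963 IH) (Lpe (K62.f472962 IH) (Lpe (K62.f457846 IH) (Lpr_gt (K62.f469072 IH) (Lpr_dt (f473164 IH) (Lpn (LP (LK LD1_c30 LD2_c29 LD3_c1))))))))))))
theorem f803639 : Led Lsl_ct (LP (LK LD1_c30 LD2_c29 LD3_c1)) = (LP (LK LD1_c31 LD2_c18 LD3_c61)) :=
  Lgr Lrot8 (Lpe (f803629 IH) (Lpr_dt (K62.f802610 IH) (Lpr_gt (K62.f57300 IH) (Lpr_dt (K62.f64422 IH) (Lpe (K62.f802934 IH) (Lpe (K62.f667224 IH) (Lpr_gf (K62.f802971 IH) (Lpe (f802966 IH) (Lpr_gf (f803636 IH) (Lpn (LP (LK LD1_c31 LD2_c18 LD3_c61))))))))))))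
theorem f803539 : Led Lsl_df (LP (LK LD1_c14 LD2_c43 LD3_c59)) = (LP (LK LD1_c13 LD2_c22 LD3_c54)) :=
  Lgr Lrot38 (Lpr_dt (K62.f803537 IH) (Lpn (LP (LK LD1_c13 LD2_c22 LD3_c54))))
theorem f803618 : Led Lsl_dt (LP (LK LD1_c14 LD2_c22 LD3_c11)) = (LP (LK LD1_c13 LD2_c17 LD3_c38)) :=
  Lgr Lrot42 (Lpr_df (f803616 IH) (Lpn (LP (LK LD1_c13 LD2_c17 LD3_c38))))
theorem f803608 : Led Lsl_at (LP (LK LD1_c7 LD2_c32 LD3_c41)) = (LP (LK LD1_c13 LD2_c22 LD3_c53)) :=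
  Lgr Lrot80 (Lpe (K62.f664791 IH) (Lpr_af (K61.f664795 IH) (Lpq (K61.f788347 IH) (Lpr_ef (f803606 IH) (Lpn (LP (LK LD1_c13 LD2_c22 LD3_c53)))))))
theorem f803647 : Led Lsl_ft (LP (LK LD1_c13 LD2_c22 LD3_c54)) = (LP (LK LD1_c7 LD2_c32 LD3_c41)) :=
  Lgr Lrot142 (Lpe (f803539 IH) (Lpr_ct (K62.f803525 IH) (Lpr_dt (f473164 IH) (Lpr_ct (f803639 IH) (Lpr_dt (f475970 IH) (Lpr_ct (f475972 IH) (Lpr_dt (f803618 IH) (Lpqs (f803612 IH) (Lpe (K62.f789517 IH) (Lpe (f803608 IH) (Lpn (LP (LK LD1_c7 LD2_c32 LD3_c41)))))))))))))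
theorem f803864 : Led Lsl_ff (LP (LK LD1_c13 LD2_c22 LD3_c54)) = (LP (LK LD1_c7 LD2_c32 LD3_c41)) :=
  Lgr Lrot3 (Lpr_ft (f803647 IH) (Lpn (LP (LK LD1_c7 LD2_c32 LD3_c41))))
theorem f802923 : Led Lsl_at (LP (LK LD1_c21 LD2_c40 LD3_c28)) = (LP (LK LD1_c13 LD2_c22 LD3_c55)) :=
  Lgr Lrot100 (Lpr_af (K62.f802921 IH) (Lpn (LP (LK LD1_c13 LD2_c22 LD3_c55))))
theorem f803589 : Led Lsl_gt (LP (LK LD1_c7 LD2_c32 LD3_c41)) = (LP (LK LD1_c13 LD2_c22 LD3_c55)) :=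
  Lgr Lrot46 (Lpr_gf (K62.f803584 IH) (Lpr_ft (K62.f775961 IH) (Lpr_at (f802923 IH) (Lpn (LP (LK LD1_c13 LD2_c22 LD3_c55))))))
theorem f802618 : Led Lsl_at (LP (LK LD1_c22 LD2_c25 LD3_c20)) = (LP (LK LD1_c30 LD2_c15 LD3_c30)) :=
  Lgr Lrot100 (Lpr_af (K62.f802615 IH) (Lpn (LP (LK LD1_c30 LD2_c15 LD3_c30))))
theorem f802638 : Led Lsl_ff (LP (LK LD1_c22 LD2_c25 LD3_c20)) = (LP (LK LD1_c30 LD2_c15 LD3_c28)) :=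
  Lgr Lrot3 (Lpr_ft (K62.f802634 IH) (Lpn (LP (LK LD1_c30 LD2_c15 LD3_c28))))
theorem f803632 : Led Lsl_gt (LP (LK LD1_c30 LD2_c15 LD3_c28)) = (LP (LK LD1_c30 LD2_c29 LD3_c1)) :=
  Lgr Lrot5 (Lpe (f802638 IH) (Lpr_at (f802618 IH) (Lpr_gf (f803629 IH) (Lpn (LP (LK LD1_c30 LD2_c29 LD3_c1))))))
theorem f475971 : Led Lsl_dt (LP (LK LD1_c24 LD2_c0 LD3_c16)) = (LP (LK LD1_c31 LD2_c18 LD3_c61)) :=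
  Lre_d IH (LK LD1_c24 LD2_c0 LD3_c16) (LK LD1_c31 LD2_c18 LD3_c61) Lrfl Lrfl
theorem f475969 : Led Lsl_ct (LP (LK LD1_c14 LD2_c22 LD3_c11)) = (LP (LK LD1_c24 LD2_c0 LD3_c16)) :=
  Lre_c IH (LK LD1_c14 LD2_c22 LD3_c11) (LK LD1_c24 LD2_c0 LD3_c16) Lrfl Lrfl
theorem f475529 : Led Lsl_dt (LP (LK LD1_c31 LD2_c19 LD3_c2)) = (LP (LK LD1_c24 LD2_c0 LD3_c18)) :=
  Lre_d IH (LK LD1_c31 LD2_c19 LD3_c2) (LK LD1_c24 LD2_c0 LD3_c18) Lrfl Lrfl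
theorem f803649 : Led Lsl_gf (LP (LK LD1_c31 LD2_c19 LD3_c45)) = (LP (LK LD1_c31 LD2_c19 LD3_c2)) :=
  Lgr Lrot147 (Lpr_ct (K62.f802594 IH) (Lpr_gt (f803632 IH) (Lpr_ct (f803639 IH) (Lpe (f475971 IH) (Lpe (f475969 IH) (Lpe (f475967 IH) (Lpe (K47.f475530 IH) (Lpr_gf (K47.f475524 IH) (Lpe (f475529 IH) (Lpn (LP (LK LD1_c31 LD2_c19 LD3_c2))))))))))))
theorem f802409 : Led Lsl_gf (LP (LK LD1_c24 LD2_c0 LD3_c32)) = (LP (LK LD1_c30 LD2_c7 LD3_c3)) :=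
  Lgr Lrot104 (Lpr_ct (K62.f130042 IH) (Lpe (K46.f116717 IH) (Lpr_cf (K49.f144938 IH) (Lpe (K49.f534274 IH) (Lpr_cf (K62.f802404 IH) (Lpe (K62.f145174 IH) (Lpe (K62.f145177 IH) (Lpe (K62.f145158 IH) (Lpr_ct (K62.f145161 IH) (Lpn (LP (LK LD1_c30 LD2_c7 LD3_c3))))))))))))
theorem f475979 : Led Lsl_ct (LP (LK LD1_c22 LD2_c24 LD3_c35)) = (LP (LK LD1_c13 LD2_c11 LD3_c43)) :=
  Lre_c IH (LK LD1_c22 LD2_c24 LD3_c35) (LK LD1_c13 LD2_c11 LD3_c43) Lrfl Lrfl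
theorem f803057 : Led Lsl_gf (LP (LK LD1_c22 LD2_c24 LD3_c35)) = (LP (LK LD1_c22 LD2_c0 LD3_c42)) :=
  Lgr Lrot147 (Lpr_ct (f475979 IH) (Lpr_gt (K62.f457844 IH) (Lpr_ct (K62.f457836 IH) (Lpe (K34.f457896 IH) (Lpe (K49.f475565 IH) (Lpr_gf (K62.f475988 IH) (Lpe (K62.f802509 IH) (Lpr_gf (K62.f802544 IH) (Lpe (K62.f780427 IH) (Lpn (LP (LK LD1_c22 LD2_c0 LD3_c42))))))))))))
theorem f476048 : Led Lsl_dt (LP (LK LD1_c22 LD2_c24 LD3_c35)) = (LP (LK LD1_c30 LD2_c28 LD3_c60)) :=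
  Lre_d IH (LK LD1_c22 LD2_c24 LD3_c35) (LK LD1_c30 LD2_c28 LD3_c60) Lrfl Lrfl
theorem f457840 : Led Lsl_dt (LP (LK LD1_c24 LD2_c0 LD3_c21)) = (LP (LK LD1_c14 LD2_c22 LD3_c12)) :=
  Lre_d IH (LK LD1_c24 LD2_c0 LD3_c21) (LK LD1_c14 LD2_c22 LD3_c12) Lrfl Lrfl
theorem f475531 : Led Lsl_dt (LP (LK LD1_c24 LD2_c0 LD3_c18)) = (LP (LK LD1_c31 LD2_c19 LD3_c2)) :=
  Lre_d IH (LK LD1_c24 LD2_c0 LD3_c18) (LK LD1_c31 LD2_c19 LD3_c2) Lrfl Lrfl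
theorem f803059 : Led Lsl_ct (LP (LK LD1_c30 LD2_c28 LD3_c60)) = (LP (LK LD1_c31 LD2_c19 LD3_c2)) :=
  Lgr Lrot7 (Lpe (f476048 IH) (Lpr_gf (f803057 IH) (Lpe (K62.f802546 IH) (Lpe (K62.f802542 IH) (Lpr_cf (K62.f802528 IH) (Lpr_gt (K62.f468397 IH) (Lpr_dt (f457840 IH) (Lpr_gt (K47.f474233 IH) (Lpr_dt (f475531 IH) (Lpn (LP (LK LD1_c31 LD2_c19 LD3_c2))))))))))))
theorem f803651 : Led Lsl_gt (LP (LK LD1_c32 LD2_c50 LD3_c16)) = (LP (LK LD1_c30 LD2_c28 LD3_c60)) :=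
  Lgr Lrot9 (Lpe (K62.f145175 IH) (Lpe (f802409 IH) (Lpr_ct (K62.f130042 IH) (Lpe (K49.f676020 IH) (Lpr_ct (K62.f802589 IH) (Lpe (K62.f802591 IH) (Lpe (K62.f802594 IH) (Lpr_gf (f803649 IH) (Lpe (f803059 IH) (Lpn (LP (LK LD1_c30 LD2_c28 LD3_c60))))))))))))
theorem f476047 : Led Lsl_dt (LP (LK LD1_c30 LD2_c28 LD3_c60)) = (LP (LK LD1_c22 LD2_c24 LD3_c35)) :=
  Lre_d IH (LK LD1_c30 LD2_c28 LD3_c60) (LK LD1_c22 LD2_c24 LD3_c35) Lrfl Lrfl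
theorem f802989 : Led Lsl_cf (LP (LK LD1_c30 LD2_c15 LD3_c19)) = (LP (LK LD1_c31 LD2_c19 LD3_c49)) :=
  Lgr Lrot11 (Lpr_ct (K62.f802987 IH) (Lpn (LP (LK LD1_c31 LD2_c19 LD3_c49))))
theorem f802995 : Led Lsl_dt (LP (LK LD1_c24 LD2_c26 LD3_c26)) = (LP (LK LD1_c31 LD2_c19 LD3_c49)) :=
  Lgr Lrot6 (Lpr_gt (K62.f475509 IH) (Lpr_ct (K62.f475508 IH) (Lpr_gt (K62.f475505 IH) (Lpr_ct (K34.f457861 IH) (Lpe (K34.f457871 IH) (Lpe (K34.f475483 IH) (Lpr_gf (K62.f802596 IH) (Lpe (K62.f802934 IH) (Lpr_gf (K62.f802991 IH) (Lpn (LP (LK LD1_c31 LD2_c19 LD3_c49))))))))))))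
theorem f475497 : Led Lsl_at (LP (LK LD1_c7 LD2_c47 LD3_c18)) = (LP (LK LD1_c3 LD2_c52 LD3_c49)) :=
  Lre_a IH (LK LD1_c7 LD2_c47 LD3_c18) (LK LD1_c3 LD2_c52 LD3_c49) Lrfl Lrfl
theorem f475498 : Led Lsl_ff (LP (LK LD1_c7 LD2_c47 LD3_c18)) = (LP (LK LD1_c14 LD2_c22 LD3_c8)) :=
  Lgr Lrot30 (Lpr_at (f475497 IH) (Lpr_ft (K34.f475494 IH) (Lpr_at (K34.f474945 IH) (Lpn (LP (LK LD1_c14 LD2_c22 LD3_c8))))))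
theorem f476026 : Led Lsl_gf (LP (LK LD1_c7 LD2_c47 LD3_c21)) = (LP (LK LD1_c14 LD2_c22 LD3_c8)) :=
  Lgr Lrot47 (Lpr_gt (f458074 IH) (Lpe (f475497 IH) (Lpr_ff (f475498 IH) (Lpn (LP (LK LD1_c14 LD2_c22 LD3_c8))))))
theorem f476029 : Led Lsl_ct (LP (LK LD1_c7 LD2_c47 LD3_c21)) = (LP (LK LD1_c14 LD2_c41 LD3_c47)) :=
  Lre_c IH (LK LD1_c7 LD2_c47 LD3_c21) (LK LD1_c14 LD2_c41 LD3_c47) Lrfl Lrfl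
theorem f803009 : Led Lsl_gf (LP (LK LD1_c24 LD2_c26 LD3_c26)) = (LP (LK LD1_c14 LD2_c41 LD3_c47)) :=
  Lgr Lrot104 (Lpr_ct (K62.f803002 IH) (Lpe (K62.f64428 IH) (Lpe (K62.f57283 IH) (Lpe (K62.f57278 IH) (Lpr_cf (K62.f64417 IH) (Lpr_gf (K62.f665685 IH) (Lpqs (K62.f802038 IH) (Lpe (K34.f457867 IH) (Lpe (f476026 IH) (Lpr_ct (f476029 IH) (Lpn (LP (LK LD1_c14 LD2_c41 LD3_c47)))))))))))))
theorem f476031 : Led Lsl_dt (LP (LK LD1_c24 LD2_c26 LD3_c33)) = (LP (LK LD1_c14 LD2_c41 LD3_c47)) :=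
  Lre_d IH (LK LD1_c24 LD2_c26 LD3_c33) (LK LD1_c14 LD2_c41 LD3_c47) Lrfl Lrfl
theorem f803654 : Led Lsl_gt (LP (LK LD1_c31 LD2_c26 LD3_c27)) = (LP (LK LD1_c24 LD2_c26 LD3_c33)) :=
  Lgr Lrot94 (Lpr_cf (K62.f802815 IH) (Lpr_gt (f803651 IH) (Lpr_dt (f476047 IH) (Lpr_gt (K62.f803015 IH) (Lpr_dt (K62.f780422 IH) (Lpr_cf (f802989 IH) (Lpe (f802995 IH) (Lpr_gf (f803009 IH) (Lpe (f476031 IH) (Lpn (LP (LK LD1_c24 LD2_c26 LD3_c33))))))))))))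
theorem f64434 : Led Lsl_dt (LP (LK LD1_c14 LD2_c23 LD3_c8)) = (LP (LK LD1_c24 LD2_c1 LD3_c34)) :=
  Lre_d IH (LK LD1_c14 LD2_c23 LD3_c8) (LK LD1_c24 LD2_c1 LD3_c34) Lrfl Lrfl
theorem f534603 : Led Lsl_at (LP (LK LD1_c14 LD2_c22 LD3_c21)) = (LP (LK LD1_c7 LD2_c43 LD3_c37)) :=
  Lgr Lrot66 (Lpe (K49.f130015 IH) (Lpe (K6.f130024 IH) (Lpr_ff (K46.f534600 IH) (Lpn (LP (LK LD1_c7 LD2_c43 LD3_c37))))))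
theorem f802445 : Led Lsl_gf (LP (LK LD1_c12 LD2_c51 LD3_c40)) = (LP (LK LD1_c7 LD2_c37 LD3_c24)) :=
  Lgr Lrot47 (Lpr_gt (K62.f802443 IH) (Lpe (f534603 IH) (Lpe (K49.f130015 IH) (Lpn (LP (LK LD1_c7 LD2_c37 LD3_c24))))))
theorem f803004 : Led Lsl_cf (LP (LK LD1_c24 LD2_c26 LD3_c26)) = (LP (LK LD1_c22 LD2_c0 LD3_c40)) :=
  Lgr Lrot14 (Lpr_df (K62.f802997 IH) (Lpe (K62.f437232 IH) (Lpe (f64434 IH) (Lpe (K62.f802946 IH) (Lpr_ct (K62.f451221 IH) (Lpe (K35.f533566 IH) (Lpr_dt (K35.f107403 IH) (Lpe (f802445 IH) (Lpr_dt (K62.f64428 IH) (Lpn (LP (LK LD1_c22 LD2_c0 LD3_c40))))))))))))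
theorem f441892 : Led Lsl_ct (LP (LK LD1_c22 LD2_c0 LD3_c42)) = (LP (LK LD1_c12 LD2_c51 LD3_c41)) :=
  Lre_c IH (LK LD1_c22 LD2_c0 LD3_c42) (LK LD1_c12 LD2_c51 LD3_c41) Lrfl Lrfl
theorem f531178 : Led Lsl_ft (LP (LK LD1_c14 LD2_c34 LD3_c8)) = (LP (LK LD1_c24 LD2_c15 LD3_c0)) :=
  Lgr Lrot4 (Lpe (K62.f527405 IH) (Lpr_ff (K49.f531169 IH) (Lpe (K48.f458219 IH) (Lpn (LP (LK LD1_c24 LD2_c15 LD3_c0))))))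
theorem f803007 : Led Lsl_af (LP (LK LD1_c24 LD2_c26 LD3_c26)) = (LP (LK LD1_c24 LD2_c15 LD3_c0)) :=
  Lgr Lrot109 (Lpr_cf (f803004 IH) (Lpe (K62.f64428 IH) (Lpe (K62.f57283 IH) (Lpe (K62.f441894 IH) (Lpe (f441892 IH) (Lpe (K62.f802546 IH) (Lpr_cf (K62.f802424 IH) (Lpe (K62.f531198 IH) (Lpr_ft (f531178 IH) (Lpn (LP (LK LD1_c24 LD2_c15 LD3_c0))))))))))))
theorem f803011 : Led Lsl_gt (LP (LK LD1_c14 LD2_c34 LD3_c8)) = (LP (LK LD1_c14 LD2_c41 LD3_c47)) :=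
  Lgr Lrot5 (Lpr_ft (f531178 IH) (Lpe (f803007 IH) (Lpr_gf (f803009 IH) (Lpn (LP (LK LD1_c14 LD2_c41 LD3_c47))))))
theorem f476030 : Led Lsl_dt (LP (LK LD1_c14 LD2_c41 LD3_c47)) = (LP (LK LD1_c24 LD2_c26 LD3_c33)) :=
  Lre_d IH (LK LD1_c14 LD2_c41 LD3_c47) (LK LD1_c24 LD2_c26 LD3_c33) Lrfl Lrfl
theorem f803577 : Led Lsl_ct (LP (LK LD1_c24 LD2_c26 LD3_c33)) = (LP (LK LD1_c30 LD2_c29 LD3_c35)) :=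
  Lgr Lrot7 (Lpe (f476030 IH) (Lpe (f803011 IH) (Lpe (K62.f527407 IH) (Lpe (K62.f803035 IH) (Lpr_cf (K62.f802931 IH) (Lpe (K62.f802596 IH) (Lpr_dt (K34.f475556 IH) (Lpe (K62.f803497 IH) (Lpr_dt (K62.f803573 IH) (Lpn (LP (LK LD1_c30 LD2_c29 LD3_c35))))))))))))
theorem f803065 : Led Lsl_dt (LP (LK LD1_c30 LD2_c28 LD3_c58)) = (LP (LK LD1_c22 LD2_c24 LD3_c33)) :=
  Lre_d IH (LK LD1_c30 LD2_c28 LD3_c58) (LK LD1_c22 LD2_c24 LD3_c33) Lrfl Lrfl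
theorem f803673 : Led Lsl_gf (LP (LK LD1_c32 LD2_c50 LD3_c16)) = (LP (LK LD1_c30 LD2_c28 LD3_c58)) :=
  Lgr Lrot147 (Lpe (K62.f802815 IH) (Lpr_gt (f803654 IH) (Lpr_ct (f803577 IH) (Lpe (K62.f803573 IH) (Lpe (K62.f441893 IH) (Lpr_gf (K62.f441888 IH) (Lpe (f441892 IH) (Lpe (K62.f803055 IH) (Lpe (f803065 IH) (Lpn (LP (LK LD1_c30 LD2_c28 LD3_c58))))))))))))
theorem f803066 : Led Lsl_dt (LP (LK LD1_c22 LD2_c24 LD3_c33)) = (LP (LK LD1_c30 LD2_c28 LD3_c58)) :=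
  Lre_d IH (LK LD1_c22 LD2_c24 LD3_c33) (LK LD1_c30 LD2_c28 LD3_c58) Lrfl Lrfl
theorem f803126 : Led Lsl_gt (LP (LK LD1_c22 LD2_c0 LD3_c44)) = (LP (LK LD1_c22 LD2_c24 LD3_c33)) :=
  Lgr Lrot5 (Lpe (K62.f803106 IH) (Lpr_at (K62.f803119 IH) (Lpe (K62.f803055 IH) (Lpn (LP (LK LD1_c22 LD2_c24 LD3_c33))))))
theorem f803676 : Led Lsl_df (LP (LK LD1_c21 LD2_c40 LD3_c26)) = (LP (LK LD1_c22 LD2_c0 LD3_c41)) :=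
  Lgr Lrot153 (Lpr_gt (f145157 IH) (Lpr_dt (K62.f58822 IH) (Lpe (K62.f145163 IH) (Lpe (f145176 IH) (Lpr_gf (f803673 IH) (Lpe (f803066 IH) (Lpe (f803126 IH) (Lpe (K62.f780058 IH) (Lpr_gt (K62.f803044 IH) (Lpn (LP (LK LD1_c22 LD2_c0 LD3_c41))))))))))))
theorem f803684 : Led Lsl_cf (LP (LK LD1_c21 LD2_c40 LD3_c26)) = (LP (LK LD1_c14 LD2_c41 LD3_c48)) :=
  Lgr Lrot14 (Lpr_df (f803676 IH) (Lpe (K62.f803044 IH) (Lpe (K62.f64436 IH) (Lpr_gf (K62.f780057 IH) (Lpqs (K62.f802048 IH) (Lpr_ct (K41.f457990 IH) (Lpe (K62.f476365 IH) (Lpr_dt (K34.f457860 IH) (Lpe (f476026 IH) (Lpr_dt (f476028 IH) (Lpn (LP (LK LD1_c14 LD2_c41 LD3_c48)))))))))))))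
theorem f803686 : Led Lsl_gf (LP (LK LD1_c14 LD2_c41 LD3_c48)) = (LP (LK LD1_c13 LD2_c23 LD3_c11)) :=
  Lgr Lrot104 (Lpe (f803684 IH) (Lpr_df (f803676 IH) (Lpe (K62.f803039 IH) (Lpr_gf (K62.f475621 IH) (Lpe (K62.f457870 IH) (Lpe (K62.f476055 IH) (Lpr_df (K62.f535144 IH) (Lpr_gt (K62.f803569 IH) (Lpr_ct (K62.f472257 IH) (Lpn (LP (LK LD1_c13 LD2_c23 LD3_c11))))))))))))
theorem f91902 : Led Lsl_at (LP (LK LD1_c22 LD2_c25 LD3_c17)) = (LP (LK LD1_c13 LD2_c12 LD3_c6)) :=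
  Lre_a IH (LK LD1_c22 LD2_c25 LD3_c17) (LK LD1_c13 LD2_c12 LD3_c6) Lrfl Lrfl
theorem f91906 : Led Lsl_gt (LP (LK LD1_c22 LD2_c25 LD3_c22)) = (LP (LK LD1_c13 LD2_c12 LD3_c6)) :=
  Lre_g IH (LK LD1_c22 LD2_c25 LD3_c22) (LK LD1_c13 LD2_c12 LD3_c6) Lrfl Lrfl
theorem f514242 : Led Lsl_gf (LP (LK LD1_c22 LD2_c25 LD3_c22)) = (LP (LK LD1_c22 LD2_c40 LD3_c16)) :=
  Lgr Lrot47 (Lpr_gt (f91906 IH) (Lpe (f91902 IH) (Lpr_ff (f514218 IH) (Lpn (LP (LK LD1_c22 LD2_c40 LD3_c16))))))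
theorem f803691 : Led Lsl_df (LP (LK LD1_c14 LD2_c41 LD3_c16)) = (LP (LK LD1_c22 LD2_c25 LD3_c22)) :=
  Lgr Lrot153 (Lpr_gt (K62.f475630 IH) (Lpr_dt (K34.f458023 IH) (Lpe (K34.f458072 IH) (Lpe (K34.f458073 IH) (Lpe (f458074 IH) (Lpe (f476033 IH) (Lpr_gf (f803686 IH) (Lpe (K62.f472257 IH) (Lpe (f514242 IH) (Lpn (LP (LK LD1_c22 LD2_c25 LD3_c22))))))))))))
theorem f475635 : Led Lsl_dt (LP (LK LD1_c31 LD2_c31 LD3_c16)) = (LP (LK LD1_c24 LD2_c25 LD3_c49)) :=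
  Lre_d IH (LK LD1_c31 LD2_c31 LD3_c16) (LK LD1_c24 LD2_c25 LD3_c49) Lrfl Lrfl
theorem f803696 : Led Lsl_gf (LP (LK LD1_c31 LD2_c31 LD3_c16)) = (LP (LK LD1_c30 LD2_c15 LD3_c24)) :=
  Lgr Lrot143 (Lpr_dt (f475635 IH) (Lpe (K62.f475633 IH) (Lpr_df (f803691 IH) (Lpr_gf (f514242 IH) (Lpr_df (f472253 IH) (Lpe (K62.f534069 IH) (Lpe (K62.f130055 IH) (Lpe (K62.f802452 IH) (Lpr_dt (K62.f802456 IH) (Lpn (LP (LK LD1_c30 LD2_c15 LD3_c24))))))))))))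
theorem f457446 : Led Lsl_ct (LP (LK LD1_c30 LD2_c29 LD3_c37)) = (LP (LK LD1_c22 LD2_c25 LD3_c20)) :=
  Lre_c IH (LK LD1_c30 LD2_c29 LD3_c37) (LK LD1_c22 LD2_c25 LD3_c20) Lrfl Lrfl
theorem f803579 : Led Lsl_cf (LP (LK LD1_c24 LD2_c26 LD3_c33)) = (LP (LK LD1_c30 LD2_c29 LD3_c35)) :=
  Lgr Lrot14 (Lpe (f476030 IH) (Lpe (f803011 IH) (Lpe (K62.f527407 IH) (Lpe (K62.f803035 IH) (Lpr_ct (K62.f802934 IH) (Lpe (K62.f802596 IH) (Lpr_dt (K34.f475556 IH) (Lpe (K62.f803497 IH) (Lpr_dt (K62.f803573 IH) (Lpn (LP (LK LD1_c30 LD2_c29 LD3_c35))))))))))))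
theorem f475982 : Led Lsl_dt (LP (LK LD1_c14 LD2_c41 LD3_c50)) = (LP (LK LD1_c24 LD2_c26 LD3_c37)) :=
  Lre_d IH (LK LD1_c14 LD2_c41 LD3_c50) (LK LD1_c24 LD2_c26 LD3_c37) Lrfl Lrfl
theorem f803582 : Led Lsl_gt (LP (LK LD1_c24 LD2_c26 LD3_c37)) = (LP (LK LD1_c30 LD2_c29 LD3_c37)) :=
  Lgr Lrot9 (Lpe (f475982 IH) (Lpr_gt (K49.f475548 IH) (Lpr_ct (K34.f457868 IH) (Lpe (f476026 IH) (Lpr_ct (f476029 IH) (Lpe (f476031 IH) (Lpr_cf (f803579 IH) (Lpe (K62.f802640 IH) (Lpe (f457446 IH) (Lpn (LP (LK LD1_c30 LD2_c29 LD3_c37))))))))))))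
theorem f803698 : Led Lsl_ct (LP (LK LD1_c31 LD2_c31 LD3_c16)) = (LP (LK LD1_c24 LD2_c26 LD3_c37)) :=
  Lgr Lrot152 (Lpr_gf (f803696 IH) (Lpe (K62.f802456 IH) (Lpr_gt (K62.f802450 IH) (Lpr_ct (K62.f475646 IH) (Lpr_gt (K62.f534062 IH) (Lpr_ct (K62.f15466 IH) (Lpe (K62.f455183 IH) (Lpe (f457446 IH) (Lpe (f803582 IH) (Lpn (LP (LK LD1_c24 LD2_c26 LD3_c37))))))))))))
theorem f803700 : Led Lsl_cf (LP (LK LD1_c31 LD2_c31 LD3_c16)) = (LP (LK LD1_c24 LD2_c26 LD3_c37)) :=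
  Lgr Lrot11 (Lpr_ct (f803698 IH) (Lpn (LP (LK LD1_c24 LD2_c26 LD3_c37))))
theorem f475981 : Led Lsl_gt (LP (LK LD1_c31 LD2_c31 LD3_c49)) = (LP (LK LD1_c24 LD2_c26 LD3_c37)) :=
  Lre_g IH (LK LD1_c31 LD2_c31 LD3_c49) (LK LD1_c24 LD2_c26 LD3_c37) Lrfl Lrfl
theorem f803702 : Led Lsl_ct (LP (LK LD1_c32 LD2_c50 LD3_c55)) = (LP (LK LD1_c31 LD2_c31 LD3_c49)) :=
  Lgr Lrot152 (Lpe (K62.f802717 IH) (Lpe (K62.f803573 IH) (Lpr_gt (K62.f803495 IH) (Lpr_ct (K34.f457859 IH) (Lpe (K62.f475631 IH) (Lpr_ct (K62.f475633 IH) (Lpe (f475635 IH) (Lpr_cf (f803700 IH) (Lpe (f475981 IH) (Lpn (LP (LK LD1_c31 LD2_c31 LD3_c49))))))))))))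
theorem f455184 : Led Lsl_gt (LP (LK LD1_c30 LD2_c29 LD3_c36)) = (LP (LK LD1_c22 LD2_c25 LD3_c20)) :=
  Lre_g IH (LK LD1_c30 LD2_c29 LD3_c36) (LK LD1_c22 LD2_c25 LD3_c20) Lrfl Lrfl
theorem f802713 : Led Lsl_gf (LP (LK LD1_c30 LD2_c29 LD3_c36)) = (LP (LK LD1_c32 LD2_c50 LD3_c55)) :=
  Lgr Lrot47 (Lpr_gt (f455184 IH) (Lpr_af (K62.f802615 IH) (Lpr_ff (K62.f802709 IH) (Lpn (LP (LK LD1_c32 LD2_c50 LD3_c55))))))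
theorem f475980 : Led Lsl_dt (LP (LK LD1_c24 LD2_c26 LD3_c37)) = (LP (LK LD1_c14 LD2_c41 LD3_c50)) :=
  Lre_d IH (LK LD1_c24 LD2_c26 LD3_c37) (LK LD1_c14 LD2_c41 LD3_c50) Lrfl Lrfl
theorem f475486 : Led Lsl_cf (LP (LK LD1_c24 LD2_c25 LD3_c52)) = (LP (LK LD1_c31 LD2_c18 LD3_c60)) :=
  Lgr Lrot11 (Lpr_ct (K34.f475483 IH) (Lpn (LP (LK LD1_c31 LD2_c18 LD3_c60))))
theorem f803708 : Led Lsl_dt (LP (LK LD1_c30 LD2_c29 LD3_c36)) = (LP (LK LD1_c24 LD2_c25 LD3_c51)) :=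
  Lgr Lrot115 (Lpr_gf (f802713 IH) (Lpr_ct (f803702 IH) (Lpr_gt (f475981 IH) (Lpr_dt (f475980 IH) (Lpr_gt (K49.f475548 IH) (Lpr_dt (K49.f457862 IH) (Lpe (f475486 IH) (Lpe (K34.f475482 IH) (Lpe (K62.f475496 IH) (Lpn (LP (LK LD1_c24 LD2_c25 LD3_c51))))))))))))
theorem f145167 : Led Lsl_ct (LP (LK LD1_c22 LD2_c0 LD3_c2)) = (LP (LK LD1_c12 LD2_c51 LD3_c20)) :=
  Lre_c IH (LK LD1_c22 LD2_c0 LD3_c2) (LK LD1_c12 LD2_c51 LD3_c20) Lrfl Lrfl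
theorem f803680 : Led Lsl_dt (LP (LK LD1_c21 LD2_c40 LD3_c26)) = (LP (LK LD1_c22 LD2_c0 LD3_c41)) :=
  Lgr Lrot42 (Lpr_df (f803676 IH) (Lpn (LP (LK LD1_c22 LD2_c0 LD3_c41))))
theorem f803712 : Led Lsl_gt (LP (LK LD1_c13 LD2_c22 LD3_c55)) = (LP (LK LD1_c21 LD2_c40 LD3_c26)) :=
  Lgr Lrot49 (Lpe (K62.f802740 IH) (Lpe (K62.f145160 IH) (Lpe (f145167 IH) (Lpr_gt (K62.f145166 IH) (Lpr_dt (K62.f802689 IH) (Lpe (f802713 IH) (Lpr_dt (f803708 IH) (Lpr_cf (K62.f803041 IH) (Lpe (f803680 IH) (Lpn (LP (LK LD1_c21 LD2_c40 LD3_c26))))))))))))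
theorem f803870 : Led Lsl_at (LP (LK LD1_c13 LD2_c22 LD3_c54)) = (LP (LK LD1_c21 LD2_c40 LD3_c26)) :=
  Lgr Lrot26 (Lpr_ff (f803864 IH) (Lpr_gt (f803589 IH) (Lpr_gt (f803712 IH) (Lpn (LP (LK LD1_c21 LD2_c40 LD3_c26))))))
theorem f803876 : Led Lsl_af (LP (LK LD1_c14 LD2_c43 LD3_c59)) = (LP (LK LD1_c22 LD2_c0 LD3_c41)) :=
  Lgr Lrot117 (Lpr_dt (K62.f803537 IH) (Lpr_at (f803870 IH) (Lpr_dt (f803680 IH) (Lpn (LP (LK LD1_c22 LD2_c0 LD3_c41))))))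
theorem f803882 : Led Lsl_ft (LP (LK LD1_c14 LD2_c43 LD3_c58)) = (LP (LK LD1_c22 LD2_c0 LD3_c41)) :=
  Lgr Lrot2 (Lpr_gt (f803112 IH) (Lpe (K62.f803523 IH) (Lpr_af (f803876 IH) (Lpn (LP (LK LD1_c22 LD2_c0 LD3_c41))))))
theorem f803890 : Led Lsl_ff (LP (LK LD1_c13 LD2_c22 LD3_c53)) = (LP (LK LD1_c21 LD2_c40 LD3_c26)) :=
  Lgr Lrot19 (Lpe (f803600 IH) (Lpr_ft (f803882 IH) (Lpe (f803676 IH) (Lpn (LP (LK LD1_c21 LD2_c40 LD3_c26))))))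
theorem f804727 : Led Lsl_ef (LP (LK LD1_c21 LD2_c40 LD3_c26)) = v22195 :=
  Lgr Lrot21 (Lpe (f803890 IH) (Lpe (f803606 IH) (Lpqs (K61.f788347 IH) (Lpe (K61.f664796 IH) (Lpr_et (K62.f664787 IH) (Lpr_ft (f804726 IH) (Lpn v22195)))))))
theorem f806304 : Led Lsl_dt v22195 = v22369 :=
  Lgr Lrot56 (Lpe (f804727 IH) (Lpr_gt (f145157 IH) (Lpe (K62.f775953 IH) (Lpr_dt (K62.f24186 IH) (Lpe (K62.f804479 IH) (Lpe (K62.f475963 IH) (Lpr_et (K62.f804484 IH) (Lpr_gt (K33.f12029 IH) (Lpr_dt (f12014 IH) (Lpr_gt (f806302 IH) (Lpn v22369)))))))))))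
theorem f806306 : Led Lsl_ff (LP (LK LD1_c14 LD2_c13 LD3_c29)) = v22369 :=
  Lgr Lrot19 (Lpr_dt (K60.f511661 IH) (Lpr_ft (f804726 IH) (Lpr_dt (f806304 IH) (Lpn v22369))))
theorem f511664 : Led Lsl_df (LP (LK LD1_c14 LD2_c13 LD3_c27)) = (LP (LK LD1_c22 LD2_c20 LD3_c1)) :=
  Lgr Lrot38 (Lpr_dt (K60.f511658 IH) (Lpn (LP (LK LD1_c22 LD2_c20 LD3_c1))))
theorem f511666 : Led Lsl_bt (LP (LK LD1_c14 LD2_c13 LD3_c27)) = (LP (LK LD1_c7 LD2_c32 LD3_c38)) :=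
  Lre_b IH (LK LD1_c14 LD2_c13 LD3_c27) (LK LD1_c7 LD2_c32 LD3_c38) Lrfl Lrfl
theorem f511667 : Led Lsl_bt (LP (LK LD1_c14 LD2_c13 LD3_c29)) = (LP (LK LD1_c22 LD2_c20 LD3_c1)) :=
  Lgr Lrot95 (Lpe (K60.f438275 IH) (Lpe (f511666 IH) (Lpr_df (f511664 IH) (Lpn (LP (LK LD1_c22 LD2_c20 LD3_c1))))))
theorem f439692 : Led Lsl_bt (LP (LK LD1_c3 LD2_c47 LD3_c14)) = (LP (LK LD1_c7 LD2_c35 LD3_c9)) :=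
  Lre_b IH (LK LD1_c3 LD2_c47 LD3_c14) (LK LD1_c7 LD2_c35 LD3_c9) Lrfl Lrfl
theorem f103979 : Led Lsl_ct (LP (LK LD1_c3 LD2_c47 LD3_c14)) = (LP (LK LD1_c7 LD2_c35 LD3_c20)) :=
  Lre_c IH (LK LD1_c3 LD2_c47 LD3_c14) (LK LD1_c7 LD2_c35 LD3_c20) Lrfl Lrfl
theorem f89231 : Led Lsl_ct (LP (LK LD1_c7 LD2_c35 LD3_c20)) = (LP (LK LD1_c3 LD2_c47 LD3_c14)) :=
  Lre_c IH (LK LD1_c7 LD2_c35 LD3_c20) (LK LD1_c3 LD2_c47 LD3_c14) Lrfl Lrfl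
theorem f478457 : Led Lsl_ct (LP (LK LD1_c7 LD2_c24 LD3_c49)) = (LP (LK LD1_c14 LD2_c1 LD3_c23)) :=
  Lre_c IH (LK LD1_c7 LD2_c24 LD3_c49) (LK LD1_c14 LD2_c1 LD3_c23) Lrfl Lrfl
theorem f481908 : Led Lsl_gf (LP (LK LD1_c7 LD2_c35 LD3_c20)) = (LP (LK LD1_c14 LD2_c1 LD3_c23)) :=
  Lgr Lrot104 (Lpr_ct (f89231 IH) (Lpe (K2.f12065 IH) (Lpe (K33.f11982 IH) (Lpr_gf (K29.f459697 IH) (Lpqs (K29.f477946 IH) (Lpe (K29.f451186 IH) (Lpe (K29.f477159 IH) (Lpe (K48.f136697 IH) (Lpr_gt (K48.f481893 IH) (Lpr_ct (f478457 IH) (Lpn (LP (LK LD1_c14 LD2_c1 LD3_c23)))))))))))))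
theorem f481910 : Led Lsl_bt (LP (LK LD1_c7 LD2_c42 LD3_c22)) = (LP (LK LD1_c3 LD2_c50 LD3_c46)) :=
  Lre_b IH (LK LD1_c7 LD2_c42 LD3_c22) (LK LD1_c3 LD2_c50 LD3_c46) Lrfl Lrfl
theorem f476882 : Led Lsl_ct (LP (LK LD1_c7 LD2_c42 LD3_c22)) = (LP (LK LD1_c14 LD2_c31 LD3_c29)) :=
  Lre_c IH (LK LD1_c7 LD2_c42 LD3_c22) (LK LD1_c14 LD2_c31 LD3_c29) Lrfl Lrfl
theorem f136685 : Led Lsl_dt (LP (LK LD1_c3 LD2_c50 LD3_c38)) = (LP (LK LD1_c7 LD2_c42 LD3_c22)) :=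
  Lre_d IH (LK LD1_c3 LD2_c50 LD3_c38) (LK LD1_c7 LD2_c42 LD3_c22) Lrfl Lrfl
theorem f476853 : Led Lsl_ct (LP (LK LD1_c14 LD2_c31 LD3_c29)) = (LP (LK LD1_c7 LD2_c42 LD3_c22)) :=
  Lre_c IH (LK LD1_c14 LD2_c31 LD3_c29) (LK LD1_c7 LD2_c42 LD3_c22) Lrfl Lrfl
theorem f112185 : Led Lsl_gt (LP (LK LD1_c6 LD2_c54 LD3_c51)) = (LP (LK LD1_c13 LD2_c8 LD3_c12)) :=
  Lre_g IH (LK LD1_c6 LD2_c54 LD3_c51) (LK LD1_c13 LD2_c8 LD3_c12) Lrfl Lrfl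
theorem f485396 : Led Lsl_ct (LP (LK LD1_c13 LD2_c8 LD3_c12)) = (LP (LK LD1_c22 LD2_c20 LD3_c11)) :=
  Lre_c IH (LK LD1_c13 LD2_c8 LD3_c12) (LK LD1_c22 LD2_c20 LD3_c11) Lrfl Lrfl
theorem f485461 : Led Lsl_gf (LP (LK LD1_c14 LD2_c31 LD3_c29)) = (LP (LK LD1_c22 LD2_c20 LD3_c11)) :=
  Lgr Lrot104 (Lpr_ct (f476853 IH) (Lpe (f136685 IH) (Lpr_cf (K29.f476826 IH) (Lpr_gf (K34.f485458 IH) (Lpe (K34.f15184 IH) (Lpe (f15176 IH) (Lpe (K4.f15180 IH) (Lpr_gt (f112185 IH) (Lpr_ct (f485396 IH) (Lpn (LP (LK LD1_c22 LD2_c20 LD3_c11))))))))))))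
theorem f806303 : Led Lsl_bt (LP (LK LD1_c13 LD2_c8 LD3_c12)) = v22369 :=
  Lgr Lrot92 (Lpr_ct (f485396 IH) (Lpe (f485461 IH) (Lpe (f476882 IH) (Lpr_bt (f481910 IH) (Lpr_gt (K48.f481893 IH) (Lpr_ct (f478457 IH) (Lpe (f481908 IH) (Lpe (f103979 IH) (Lpr_bt (f439692 IH) (Lpr_gt (f806302 IH) (Lpn v22369)))))))))))
theorem f806307 : Led Lsl_ft (LP (LK LD1_c22 LD2_c20 LD3_c1)) = (LP (LK LD1_c13 LD2_c8 LD3_c12)) :=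
  Lgr Lrot75 (Lpe (f511667 IH) (Lpr_ff (f806306 IH) (Lpe (f806303 IH) (Lpn (LP (LK LD1_c13 LD2_c8 LD3_c12))))))
theorem f806308 : Led Lsl_ft (LP (LK LD1_c22 LD2_c20 LD3_c1)) = (LP (LK LD1_c13 LD2_c8 LD3_c12)) :=
  Leop (Lpe (f806307 IH) (Lpn (LP (LK LD1_c22 LD2_c20 LD3_c1))))
theorem seed_1709 : LEOK LG_f (LK LD1_c22 LD2_c20 LD3_c1) :=
  Leoe_f (LK LD1_c22 LD2_c20 LD3_c1) (f806308 IH)
def v22372 : LQ := Led Lsl_at (LP (LK LD1_c7 LD2_c35 LD3_c10))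
theorem f806450 : Led Lsl_at (LP (LK LD1_c7 LD2_c35 LD3_c10)) = v22372 :=
  Lrfl
theorem f105572 : Led Lsl_dt (LP (LK LD1_c13 LD2_c18 LD3_c35)) = (LP (LK LD1_c14 LD2_c18 LD3_c12)) :=
  Lgr Lrot42 (Lpr_df (K57.f105564 IH) (Lpn (LP (LK LD1_c14 LD2_c18 LD3_c12))))
theorem f711635 : Led Lsl_dt (LP (LK LD1_c11 LD2_c50 LD3_c5)) = (LP (LK LD1_c20 LD2_c52 LD3_c14)) :=
  Lre_d IH (LK LD1_c11 LD2_c50 LD3_c5) (LK LD1_c20 LD2_c52 LD3_c14) Lrfl Lrfl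
theorem f110193 : Led Lsl_ef (LP (LK LD1_c12 LD2_c36 LD3_c39)) = (LP (LK LD1_c6 LD2_c37 LD3_c50)) :=
  Lgr Lrot21 (Lpr_ft (K3.f93569 IH) (Lpr_et (K3.f93555 IH) (Lpr_ft (K3.f110185 IH) (Lpr_et (K48.f66097 IH) (Lpr_ft (K52.f87400 IH) (Lpn (LP (LK LD1_c6 LD2_c37 LD3_c50))))))))
theorem f110163 : Led Lsl_af (LP (LK LD1_c12 LD2_c36 LD3_c39)) = (LP (LK LD1_c6 LD2_c36 LD3_c59)) :=
  Lgr Lrot0 (Lpr_at (K3.f110153 IH) (Lpn (LP (LK LD1_c6 LD2_c36 LD3_c59))))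
theorem f66245 : Led Lsl_ft (LP (LK LD1_c3 LD2_c16 LD3_c48)) = (LP (LK LD1_c6 LD2_c36 LD3_c59)) :=
  Lre_f IH (LK LD1_c3 LD2_c16 LD3_c48) (LK LD1_c6 LD2_c36 LD3_c59) Lrfl Lrfl
theorem f66123 : Led Lsl_gt (LP (LK LD1_c3 LD2_c16 LD3_c48)) = (LP (LK LD1_c6 LD2_c36 LD3_c56)) :=
  Lre_g IH (LK LD1_c3 LD2_c16 LD3_c48) (LK LD1_c6 LD2_c36 LD3_c56) Lrfl Lrfl
theorem f441310 : Led Lsl_gf (LP (LK LD1_c12 LD2_c36 LD3_c39)) = (LP (LK LD1_c6 LD2_c36 LD3_c56)) :=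
  Lgr Lrot76 (Lpr_af (f110163 IH) (Lpe (f66245 IH) (Lpr_gt (f66123 IH) (Lpn (LP (LK LD1_c6 LD2_c36 LD3_c56))))))
theorem f66124 : Led Lsl_et (LP (LK LD1_c12 LD2_c39 LD3_c41)) = (LP (LK LD1_c6 LD2_c36 LD3_c56)) :=
  Lre_e IH (LK LD1_c12 LD2_c39 LD3_c41) (LK LD1_c6 LD2_c36 LD3_c56) Lrfl Lrfl
theorem f65338 : Led Lsl_dt (LP (LK LD1_c3 LD2_c15 LD3_c55)) = (LP (LK LD1_c6 LD2_c35 LD3_c9)) :=
  Lre_d IH (LK LD1_c3 LD2_c15 LD3_c55) (LK LD1_c6 LD2_c35 LD3_c9) Lrfl Lrfl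
theorem f65301 : Led Lsl_gt (LP (LK LD1_c12 LD2_c36 LD3_c25)) = (LP (LK LD1_c6 LD2_c35 LD3_c9)) :=
  Lre_g IH (LK LD1_c12 LD2_c36 LD3_c25) (LK LD1_c6 LD2_c35 LD3_c9) Lrfl Lrfl
theorem f66125 : Led Lsl_df (LP (LK LD1_c12 LD2_c36 LD3_c25)) = (LP (LK LD1_c12 LD2_c39 LD3_c41)) :=
  Lgr Lrot170 (Lpr_gt (f65301 IH) (Lpe (f65338 IH) (Lpr_et (K52.f65339 IH) (Lpe (K3.f66120 IH) (Lpr_dt (K3.f65990 IH) (Lpr_gt (K3.f64480 IH) (Lpe (K3.f64254 IH) (Lpr_et (K3.f66122 IH) (Lpr_gt (f66123 IH) (Lpe (f66124 IH) (Lpn (LP (LK LD1_c12 LD2_c39 LD3_c41)))))))))))))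
theorem f711706 : Led Lsl_gt (LP (LK LD1_c20 LD2_c52 LD3_c14)) = (LP (LK LD1_c12 LD2_c36 LD3_c25)) :=
  Lgr Lrot139 (Lpe (f711635 IH) (Lpr_gf (K61.f711704 IH) (Lpe (K57.f96741 IH) (Lpr_dt (K57.f96742 IH) (Lpr_gf (K57.f119558 IH) (Lpe (K57.f87454 IH) (Lpe (f110193 IH) (Lpr_gf (f441310 IH) (Lpe (f66124 IH) (Lpe (f66125 IH) (Lpn (LP (LK LD1_c12 LD2_c36 LD3_c25)))))))))))))
theorem f66143 : Led Lsl_dt (LP (LK LD1_c12 LD2_c36 LD3_c25)) = (LP (LK LD1_c12 LD2_c39 LD3_c41)) :=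
  Lgr Lrot42 (Lpr_df (f66125 IH) (Lpn (LP (LK LD1_c12 LD2_c39 LD3_c41))))
theorem f712433 : Led Lsl_cf (LP (LK LD1_c14 LD2_c18 LD3_c12)) = (LP (LK LD1_c12 LD2_c39 LD3_c41)) :=
  Lgr Lrot14 (Lpe (f105572 IH) (Lpr_gf (K57.f441348 IH) (Lpe (K57.f109840 IH) (Lpe (K57.f109841 IH) (Lpr_ct (K57.f712427 IH) (Lpe (K61.f711704 IH) (Lpr_dt (f711635 IH) (Lpr_gt (f711706 IH) (Lpr_dt (f66143 IH) (Lpn (LP (LK LD1_c12 LD2_c39 LD3_c41))))))))))))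
theorem f66135 : Led Lsl_et (LP (LK LD1_c6 LD2_c36 LD3_c56)) = (LP (LK LD1_c12 LD2_c39 LD3_c41)) :=
  Lre_e IH (LK LD1_c6 LD2_c36 LD3_c56) (LK LD1_c12 LD2_c39 LD3_c41) Lrfl Lrfl
theorem f712451 : Led Lsl_ct (LP (LK LD1_c7 LD2_c35 LD3_c10)) = (LP (LK LD1_c6 LD2_c36 LD3_c56)) :=
  Lgr Lrot15 (Lpe (K57.f96171 IH) (Lpr_cf (f712433 IH) (Lpe (f66135 IH) (Lpn (LP (LK LD1_c6 LD2_c36 LD3_c56))))))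
theorem f712457 : Led Lsl_cf (LP (LK LD1_c7 LD2_c35 LD3_c10)) = (LP (LK LD1_c6 LD2_c36 LD3_c56)) :=
  Lgr Lrot11 (Lpr_ct (f712451 IH) (Lpn (LP (LK LD1_c6 LD2_c36 LD3_c56))))
def v19033 : LQ := Led Lsl_at (LP (LK LD1_c6 LD2_c36 LD3_c56))
theorem f777331 : Led Lsl_at (LP (LK LD1_c6 LD2_c36 LD3_c56)) = v19033 :=
  Lrfl
theorem f777332 : Led Lsl_af (LP (LK LD1_c6 LD2_c36 LD3_c56)) = v19033 :=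
  Lgr Lrot0 (Lpr_at (f777331 IH) (Lpn v19033))
theorem f806452 : Led Lsl_cf v19033 = v22372 :=
  Lgr Lrot1 (Lpe (f777332 IH) (Lpe (f712457 IH) (Lpr_at (f806450 IH) (Lpn v22372))))
theorem f66186 : Led Lsl_gt (LP (LK LD1_c6 LD2_c36 LD3_c57)) = (LP (LK LD1_c3 LD2_c16 LD3_c48)) :=
  Lre_g IH (LK LD1_c6 LD2_c36 LD3_c57) (LK LD1_c3 LD2_c16 LD3_c48) Lrfl Lrfl
theorem f777333 : Led Lsl_ft (LP (LK LD1_c6 LD2_c36 LD3_c57)) = v19033 :=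
  Lgr Lrot2 (Lpr_gt (f66186 IH) (Lpr_gt (f66123 IH) (Lpr_af (f777332 IH) (Lpn v19033))))
theorem f777334 : Led Lsl_ff (LP (LK LD1_c6 LD2_c36 LD3_c57)) = v19033 :=
  Lgr Lrot3 (Lpr_ft (f777333 IH) (Lpn v19033))
def v19036 : LQ := Led Lsl_ct (LP (LK LD1_c6 LD2_c36 LD3_c57))
theorem f777341 : Led Lsl_ct (LP (LK LD1_c6 LD2_c36 LD3_c57)) = v19036 :=
  Lrfl
theorem f806454 : Led Lsl_ft v19036 = v22372 :=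
  Lgr Lrot4 (Lpe (f777341 IH) (Lpr_ff (f777334 IH) (Lpr_cf (f806452 IH) (Lpn v22372))))
theorem f806451 : Led Lsl_af (LP (LK LD1_c7 LD2_c35 LD3_c10)) = v22372 :=
  Lgr Lrot0 (Lpr_at (f806450 IH) (Lpn v22372))
theorem f12070 : Led Lsl_gt (LP (LK LD1_c7 LD2_c35 LD3_c11)) = (LP (LK LD1_c3 LD2_c47 LD3_c11)) :=
  Lre_g IH (LK LD1_c7 LD2_c35 LD3_c11) (LK LD1_c3 LD2_c47 LD3_c11) Lrfl Lrfl
theorem f806456 : v19036 = (LP (LK LD1_c7 LD2_c35 LD3_c11)) :=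
  (Llr Lrot52 (Lpr_ft (f806454 IH) (Lpe (f806451 IH) (Lpe (K57.f92380 IH) (Lpe (f12070 IH) (Lpn (LP (LK LD1_c7 LD2_c35 LD3_c11)))))))).symm
theorem f777342 : Led Lsl_cf (LP (LK LD1_c6 LD2_c36 LD3_c57)) = v19036 :=
  Lgr Lrot11 (Lpr_ct (f777341 IH) (Lpn v19036))
theorem f806457 : Led Lsl_ct (LP (LK LD1_c7 LD2_c35 LD3_c11)) = (LP (LK LD1_c6 LD2_c36 LD3_c57)) :=
  Leop (Lpr_cf (f777342 IH) (Lpqs (f806456 IH) (Lpn (LP (LK LD1_c7 LD2_c35 LD3_c11)))))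
theorem seed_1710 : LEOK LG_c (LK LD1_c7 LD2_c35 LD3_c11) :=
  Leoe_c (LK LD1_c7 LD2_c35 LD3_c11) (f806457 IH)
def v22381 : LQ := Led Lsl_ft (LP (LK LD1_c7 LD2_c35 LD3_c29))
theorem f806530 : Led Lsl_ft (LP (LK LD1_c7 LD2_c35 LD3_c29)) = v22381 :=
  Lrfl
theorem f806533 : Led Lsl_ff (LP (LK LD1_c7 LD2_c35 LD3_c29)) = v22381 :=
  Lgr Lrot3 (Lpr_ft (f806530 IH) (Lpn v22381))
def v5293 : LQ := Led Lsl_gt (LP (LK LD1_c3 LD2_c3 LD3_c8))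
theorem f646926 : Led Lsl_gt (LP (LK LD1_c3 LD2_c3 LD3_c8)) = v5293 :=
  Lrfl
theorem f647091 : Led Lsl_gt v5293 = K48.v5325 :=
  Lgr Lrot46 (Lpe (f646926 IH) (Lpr_ft (K51.f503506 IH) (Lpr_at (K48.f647086 IH) (Lpn K48.v5325))))
theorem f708764 : v5293 = (LP (LK LD1_c1 LD2_c33 LD3_c60)) :=
  Lefun (Lecon (Lfl_gt (f647091 IH)) (K51.f708759 IH).symm) (Lfl_gt (K51.f112970 IH))
theorem f112973 : Led Lsl_bt (LP (LK LD1_c3 LD2_c14 LD3_c53)) = (LP (LK LD1_c3 LD2_c27 LD3_c13)) :=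
  Lgr Lrot127 (Lpr_bf (K5.f112956 IH) (Lpn (LP (LK LD1_c3 LD2_c27 LD3_c13))))
theorem f15072 : Led Lsl_gt (LP (LK LD1_c3 LD2_c27 LD3_c13)) = (LP (LK LD1_c6 LD2_c56 LD3_c21)) :=
  Lre_g IH (LK LD1_c3 LD2_c27 LD3_c13) (LK LD1_c6 LD2_c56 LD3_c21) Lrfl Lrfl
theorem f711731 : Led Lsl_bf (LP (LK LD1_c6 LD2_c56 LD3_c21)) = (LP (LK LD1_c7 LD2_c35 LD3_c29)) :=
  Lgr Lrot34 (Lpe (f15072 IH) (Lpe (f112973 IH) (Lpr_ct (K52.f112975 IH) (Lpq (f708764 IH) (Lpe (f646926 IH) (Lpe (K52.f438618 IH) (Lpqs (K51.f708239 IH) (Lpe (K51.f650083 IH) (Lpe (K4.f64884 IH) (Lpr_ct (K4.f64847 IH) (Lpr_gf (K52.f93875 IH) (Lpr_cf (K52.f711726 IH) (Lpn (LP (LK LD1_c7 LD2_c35 LD3_c29)))))))))))))))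
def v20411 : LQ := Led Lsl_ft (LP (LK LD1_c6 LD2_c56 LD3_c21))
theorem f786839 : Led Lsl_ft (LP (LK LD1_c6 LD2_c56 LD3_c21)) = v20411 :=
  Lrfl
theorem f806535 : Led Lsl_bt v20411 = v22381 :=
  Lgr Lrot35 (Lpe (f786839 IH) (Lpr_bf (f711731 IH) (Lpr_ff (f806533 IH) (Lpn v22381))))
theorem f786841 : Led Lsl_ff (LP (LK LD1_c6 LD2_c56 LD3_c21)) = v20411 :=
  Lgr Lrot3 (Lpr_ft (f786839 IH) (Lpn v20411))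
def v20409 : LQ := Led Lsl_at (LP (LK LD1_c6 LD2_c56 LD3_c21))
theorem f786831 : Led Lsl_at (LP (LK LD1_c6 LD2_c56 LD3_c21)) = v20409 :=
  Lrfl
theorem f786832 : Led Lsl_af (LP (LK LD1_c6 LD2_c56 LD3_c21)) = v20409 :=
  Lgr Lrot0 (Lpr_at (f786831 IH) (Lpn v20409))
theorem f93251 : Led Lsl_gt (LP (LK LD1_c6 LD2_c56 LD3_c22)) = (LP (LK LD1_c3 LD2_c27 LD3_c13)) :=
  Lre_g IH (LK LD1_c6 LD2_c56 LD3_c22) (LK LD1_c3 LD2_c27 LD3_c13) Lrfl Lrfl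
theorem f786833 : Led Lsl_ft (LP (LK LD1_c6 LD2_c56 LD3_c22)) = v20409 :=
  Lgr Lrot2 (Lpr_gt (f93251 IH) (Lpr_gt (f15072 IH) (Lpr_af (f786832 IH) (Lpn v20409))))
theorem f786834 : Led Lsl_ff (LP (LK LD1_c6 LD2_c56 LD3_c22)) = v20409 :=
  Lgr Lrot3 (Lpr_ft (f786833 IH) (Lpn v20409))
theorem f786842 : Led Lsl_at (LP (LK LD1_c6 LD2_c56 LD3_c22)) = v20411 :=
  Lgr Lrot66 (Lpr_ff (f786834 IH) (Lpe (f786831 IH) (Lpr_ff (f786841 IH) (Lpn v20411))))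
theorem f93255 : Led Lsl_bt (LP (LK LD1_c13 LD2_c10 LD3_c38)) = (LP (LK LD1_c6 LD2_c56 LD3_c22)) :=
  Lre_b IH (LK LD1_c13 LD2_c10 LD3_c38) (LK LD1_c6 LD2_c56 LD3_c22) Lrfl Lrfl
def v22380 : LQ := Led Lsl_at (LP (LK LD1_c7 LD2_c35 LD3_c29))
theorem f806526 : Led Lsl_at (LP (LK LD1_c7 LD2_c35 LD3_c29)) = v22380 :=
  Lrfl
theorem f806527 : Led Lsl_af (LP (LK LD1_c7 LD2_c35 LD3_c29)) = v22380 :=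
  Lgr Lrot0 (Lpr_at (f806526 IH) (Lpn v22380))
theorem f806528 : Led Lsl_ft (LP (LK LD1_c7 LD2_c35 LD3_c30)) = v22380 :=
  Lgr Lrot2 (Lpr_gt (K61.f96690 IH) (Lpr_gt (K52.f65016 IH) (Lpr_af (f806527 IH) (Lpn v22380))))
theorem f806531 : Led Lsl_af (LP (LK LD1_c7 LD2_c35 LD3_c30)) = v22381 :=
  Lgr Lrot45 (Lpr_ft (f806528 IH) (Lpe (f806527 IH) (Lpr_ft (f806530 IH) (Lpn v22381))))
theorem f711851 : Led Lsl_bt (LP (LK LD1_c7 LD2_c35 LD3_c30)) = (LP (LK LD1_c14 LD2_c18 LD3_c46)) :=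
  Lre_b IH (LK LD1_c7 LD2_c35 LD3_c30) (LK LD1_c14 LD2_c18 LD3_c46) Lrfl Lrfl
theorem f806536 : Led Lsl_af (LP (LK LD1_c13 LD2_c10 LD3_c38)) = (LP (LK LD1_c14 LD2_c18 LD3_c46)) :=
  Lgr Lrot36 (Lpr_bt (f93255 IH) (Lpr_at (f786842 IH) (Lpr_bt (f806535 IH) (Lpe (f806531 IH) (Lpr_bt (f711851 IH) (Lpn (LP (LK LD1_c14 LD2_c18 LD3_c46))))))))
theorem f806537 : Led Lsl_at (LP (LK LD1_c14 LD2_c18 LD3_c46)) = (LP (LK LD1_c13 LD2_c10 LD3_c38)) :=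
  Leop (Lpr_af (f806536 IH) (Lpn (LP (LK LD1_c14 LD2_c18 LD3_c46))))
theorem seed_1711 : LEOK LG_a (LK LD1_c14 LD2_c18 LD3_c46) :=
  Leoe_a (LK LD1_c14 LD2_c18 LD3_c46) (f806537 IH)
def v22388 : LQ := Led Lsl_ft (LP (LK LD1_c7 LD2_c35 LD3_c39))
theorem f806601 : Led Lsl_ft (LP (LK LD1_c7 LD2_c35 LD3_c39)) = v22388 :=
  Lrfl
theorem f806606 : Led Lsl_ff (LP (LK LD1_c7 LD2_c35 LD3_c39)) = v22388 :=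
  Lgr Lrot3 (Lpr_ft (f806601 IH) (Lpn v22388))
theorem f806611 : Led Lsl_gf (LP (LK LD1_c7 LD2_c35 LD3_c43)) = v22388 :=
  Lgr Lrot47 (Lpr_gt (K40.f91278 IH) (Lpe (K29.f132242 IH) (Lpr_ff (f806606 IH) (Lpn v22388))))
theorem f132256 : Led Lsl_dt (LP (LK LD1_c7 LD2_c35 LD3_c43)) = (LP (LK LD1_c14 LD2_c19 LD3_c6)) :=
  Lre_d IH (LK LD1_c7 LD2_c35 LD3_c43) (LK LD1_c14 LD2_c19 LD3_c6) Lrfl Lrfl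
theorem f91215 : Led Lsl_dt (LP (LK LD1_c6 LD2_c54 LD3_c57)) = (LP (LK LD1_c13 LD2_c8 LD3_c25)) :=
  Lre_d IH (LK LD1_c6 LD2_c54 LD3_c57) (LK LD1_c13 LD2_c8 LD3_c25) Lrfl Lrfl
theorem f468938 : Led Lsl_ct (LP (LK LD1_c22 LD2_c20 LD3_c36)) = (LP (LK LD1_c13 LD2_c8 LD3_c25)) :=
  Lre_c IH (LK LD1_c22 LD2_c20 LD3_c36) (LK LD1_c13 LD2_c8 LD3_c25) Lrfl Lrfl
theorem f456141 : Led Lsl_ct (LP (LK LD1_c7 LD2_c11 LD3_c12)) = (LP (LK LD1_c3 LD2_c35 LD3_c1)) :=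
  Lre_c IH (LK LD1_c7 LD2_c11 LD3_c12) (LK LD1_c3 LD2_c35 LD3_c1) Lrfl Lrfl
theorem f456156 : Led Lsl_gt (LP (LK LD1_c13 LD2_c36 LD3_c59)) = (LP (LK LD1_c7 LD2_c11 LD3_c12)) :=
  Lre_g IH (LK LD1_c13 LD2_c36 LD3_c59) (LK LD1_c7 LD2_c11 LD3_c12) Lrfl Lrfl
theorem f484516 : Led Lsl_ct (LP (LK LD1_c13 LD2_c4 LD3_c10)) = (LP (LK LD1_c13 LD2_c36 LD3_c59)) :=
  Lgr Lrot152 (Lpe (K29.f468933 IH) (Lpe (K29.f15190 IH) (Lpr_gt (K33.f484514 IH) (Lpr_ct (K33.f456228 IH) (Lpr_gt (K33.f450791 IH) (Lpr_ct (K29.f5933 IH) (Lpe (K33.f450799 IH) (Lpe (f456141 IH) (Lpe (f456156 IH) (Lpn (LP (LK LD1_c13 LD2_c36 LD3_c59))))))))))))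
theorem f468939 : Led Lsl_ct (LP (LK LD1_c13 LD2_c8 LD3_c25)) = (LP (LK LD1_c22 LD2_c20 LD3_c36)) :=
  Lre_c IH (LK LD1_c13 LD2_c8 LD3_c25) (LK LD1_c22 LD2_c20 LD3_c36) Lrfl Lrfl
theorem f456157 : Led Lsl_bt (LP (LK LD1_c14 LD2_c52 LD3_c18)) = (LP (LK LD1_c7 LD2_c52 LD3_c61)) :=
  Lre_b IH (LK LD1_c14 LD2_c52 LD3_c18) (LK LD1_c7 LD2_c52 LD3_c61) Lrfl Lrfl
theorem f456158 : Led Lsl_ct (LP (LK LD1_c14 LD2_c52 LD3_c18)) = (LP (LK LD1_c24 LD2_c38 LD3_c56)) :=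
  Lre_c IH (LK LD1_c14 LD2_c52 LD3_c18) (LK LD1_c24 LD2_c38 LD3_c56) Lrfl Lrfl
theorem f485541 : Led Lsl_gf (LP (LK LD1_c22 LD2_c20 LD3_c36)) = (LP (LK LD1_c24 LD2_c38 LD3_c56)) :=
  Lgr Lrot126 (Lpe (f468939 IH) (Lpr_bt (K35.f468937 IH) (Lpr_gt (K29.f468933 IH) (Lpr_ct (f484516 IH) (Lpr_gt (f456156 IH) (Lpe (K33.f456153 IH) (Lpr_bt (K33.f456133 IH) (Lpr_gt (K48.f456152 IH) (Lpe (f456157 IH) (Lpr_ct (f456158 IH) (Lpn (LP (LK LD1_c24 LD2_c38 LD3_c56)))))))))))))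
theorem f132257 : Led Lsl_dt (LP (LK LD1_c14 LD2_c19 LD3_c6)) = (LP (LK LD1_c7 LD2_c35 LD3_c43)) :=
  Lre_d IH (LK LD1_c14 LD2_c19 LD3_c6) (LK LD1_c7 LD2_c35 LD3_c43) Lrfl Lrfl
theorem f485683 : Led Lsl_gf (LP (LK LD1_c14 LD2_c52 LD3_c18)) = (LP (LK LD1_c14 LD2_c19 LD3_c6)) :=
  Lgr Lrot147 (Lpr_ct (f456158 IH) (Lpe (f485541 IH) (Lpr_ct (f468938 IH) (Lpe (f91215 IH) (Lpr_cf (K34.f485649 IH) (Lpr_gf (K34.f480261 IH) (Lpe (K5.f132237 IH) (Lpe (K40.f91278 IH) (Lpe (f132257 IH) (Lpn (LP (LK LD1_c14 LD2_c19 LD3_c6))))))))))))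
theorem f478343 : Led Lsl_bt (LP (LK LD1_c7 LD2_c52 LD3_c61)) = (LP (LK LD1_c14 LD2_c52 LD3_c18)) :=
  Lre_b IH (LK LD1_c7 LD2_c52 LD3_c61) (LK LD1_c14 LD2_c52 LD3_c18) Lrfl Lrfl
theorem f466809 : Led Lsl_bt (LP (LK LD1_c14 LD2_c15 LD3_c36)) = (LP (LK LD1_c7 LD2_c33 LD3_c39)) :=
  Lre_b IH (LK LD1_c14 LD2_c15 LD3_c36) (LK LD1_c7 LD2_c33 LD3_c39) Lrfl Lrfl
theorem f478344 : Led Lsl_dt (LP (LK LD1_c14 LD2_c52 LD3_c18)) = (LP (LK LD1_c14 LD2_c15 LD3_c36)) :=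
  Lgr Lrot79 (Lpe (f478343 IH) (Lpr_df (K48.f478341 IH) (Lpe (f466809 IH) (Lpn (LP (LK LD1_c14 LD2_c15 LD3_c36))))))
def v21659 : LQ := Led Lsl_bt (LP (LK LD1_c7 LD2_c24 LD3_c24))
theorem f798456 : Led Lsl_bt (LP (LK LD1_c7 LD2_c24 LD3_c24)) = v21659 :=
  Lrfl
theorem f655002 : Led Lsl_ff (LP (LK LD1_c7 LD2_c24 LD3_c24)) = (LP (LK LD1_c7 LD2_c27 LD3_c60)) :=
  Lgr Lrot3 (Lpr_ft (K46.f654998 IH) (Lpn (LP (LK LD1_c7 LD2_c27 LD3_c60))))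
theorem f489895 : Led Lsl_bt (LP (LK LD1_c14 LD2_c5 LD3_c42)) = (LP (LK LD1_c7 LD2_c27 LD3_c60)) :=
  Lre_b IH (LK LD1_c14 LD2_c5 LD3_c42) (LK LD1_c7 LD2_c27 LD3_c60) Lrfl Lrfl
theorem f798460 : Led Lsl_ff (LP (LK LD1_c14 LD2_c5 LD3_c42)) = v21659 :=
  Lgr Lrot25 (Lpr_bt (f489895 IH) (Lpe (f655002 IH) (Lpr_bt (f798456 IH) (Lpn v21659))))
theorem f468777 : Led Lsl_bt (LP (LK LD1_c3 LD2_c52 LD3_c13)) = (LP (LK LD1_c7 LD2_c46 LD3_c8)) :=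
  Lre_b IH (LK LD1_c3 LD2_c52 LD3_c13) (LK LD1_c7 LD2_c46 LD3_c8) Lrfl Lrfl
theorem f478339 : Led Lsl_et (LP (LK LD1_c7 LD2_c46 LD3_c8)) = (LP (LK LD1_c14 LD2_c15 LD3_c36)) :=
  Lgr Lrot74 (Lpe (f468777 IH) (Lpr_ef (K48.f478337 IH) (Lpe (f466809 IH) (Lpn (LP (LK LD1_c14 LD2_c15 LD3_c36))))))
theorem f628713 : Led Lsl_bt (LP (LK LD1_c14 LD2_c1 LD3_c21)) = (LP (LK LD1_c7 LD2_c24 LD3_c47)) :=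
  Lre_b IH (LK LD1_c14 LD2_c1 LD3_c21) (LK LD1_c7 LD2_c24 LD3_c47) Lrfl Lrfl
theorem f478332 : Led Lsl_bt (LP (LK LD1_c7 LD2_c33 LD3_c39)) = (LP (LK LD1_c14 LD2_c15 LD3_c36)) :=
  Lre_b IH (LK LD1_c7 LD2_c33 LD3_c39) (LK LD1_c14 LD2_c15 LD3_c36) Lrfl Lrfl
theorem f656368 : Led Lsl_ff (LP (LK LD1_c14 LD2_c1 LD3_c21)) = (LP (LK LD1_c14 LD2_c15 LD3_c36)) :=
  Lgr Lrot25 (Lpr_bt (f628713 IH) (Lpr_ft (K48.f656364 IH) (Lpr_bt (f478332 IH) (Lpn (LP (LK LD1_c14 LD2_c15 LD3_c36))))))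
theorem f656386 : Led Lsl_ef (LP (LK LD1_c13 LD2_c14 LD3_c58)) = (LP (LK LD1_c14 LD2_c1 LD3_c21)) :=
  Lgr Lrot21 (Lpr_ft (K61.f656028 IH) (Lpr_et (K34.f443401 IH) (Lpr_ft (K62.f656374 IH) (Lpr_et (f478339 IH) (Lpe (f656368 IH) (Lpn (LP (LK LD1_c14 LD2_c1 LD3_c21))))))))
theorem f480099 : Led Lsl_et (LP (LK LD1_c7 LD2_c27 LD3_c58)) = (LP (LK LD1_c14 LD2_c5 LD3_c42)) :=
  Lre_e IH (LK LD1_c7 LD2_c27 LD3_c58) (LK LD1_c14 LD2_c5 LD3_c42) Lrfl Lrfl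
theorem f656390 : Led Lsl_ct (LP (LK LD1_c14 LD2_c5 LD3_c42)) = (LP (LK LD1_c14 LD2_c1 LD3_c21)) :=
  Lgr Lrot15 (Lpe (f480099 IH) (Lpr_cf (K61.f489899 IH) (Lpr_ef (f656386 IH) (Lpn (LP (LK LD1_c14 LD2_c1 LD3_c21))))))
theorem f656351 : Led Lsl_bt (LP (LK LD1_c7 LD2_c24 LD3_c47)) = (LP (LK LD1_c14 LD2_c1 LD3_c21)) :=
  Lre_b IH (LK LD1_c7 LD2_c24 LD3_c47) (LK LD1_c14 LD2_c1 LD3_c21) Lrfl Lrfl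
theorem f656362 : Led Lsl_ft (LP (LK LD1_c14 LD2_c1 LD3_c21)) = (LP (LK LD1_c14 LD2_c15 LD3_c36)) :=
  Lgr Lrot75 (Lpe (f656351 IH) (Lpr_ff (K48.f656358 IH) (Lpe (f466809 IH) (Lpn (LP (LK LD1_c14 LD2_c15 LD3_c36))))))
theorem f798461 : Led Lsl_ct (LP (LK LD1_c14 LD2_c15 LD3_c36)) = v21659 :=
  Lgr Lrot40 (Lpe (f656362 IH) (Lpe (f656390 IH) (Lpr_ff (f798460 IH) (Lpn v21659))))
theorem f527056 : Led Lsl_df (LP (LK LD1_c13 LD2_c56 LD3_c26)) = (LP (LK LD1_c14 LD2_c48 LD3_c33)) :=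
  Lgr Lrot38 (Lpr_dt (K37.f527049 IH) (Lpn (LP (LK LD1_c14 LD2_c48 LD3_c33))))
theorem f489907 : Led Lsl_et (LP (LK LD1_c14 LD2_c5 LD3_c42)) = (LP (LK LD1_c7 LD2_c27 LD3_c58)) :=
  Lre_e IH (LK LD1_c14 LD2_c5 LD3_c42) (LK LD1_c7 LD2_c27 LD3_c58) Lrfl Lrfl
theorem f526921 : Led Lsl_et (LP (LK LD1_c3 LD2_c54 LD3_c39)) = (LP (LK LD1_c7 LD2_c51 LD3_c1)) :=
  Lre_e IH (LK LD1_c3 LD2_c54 LD3_c39) (LK LD1_c7 LD2_c51 LD3_c1) Lrfl Lrfl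
theorem f477062 : Led Lsl_dt (LP (LK LD1_c3 LD2_c54 LD3_c39)) = (LP (LK LD1_c7 LD2_c51 LD3_c0)) :=
  Lre_d IH (LK LD1_c3 LD2_c54 LD3_c39) (LK LD1_c7 LD2_c51 LD3_c0) Lrfl Lrfl
theorem f477078 : Led Lsl_gt (LP (LK LD1_c14 LD2_c48 LD3_c30)) = (LP (LK LD1_c7 LD2_c51 LD3_c0)) :=
  Lre_g IH (LK LD1_c14 LD2_c48 LD3_c30) (LK LD1_c7 LD2_c51 LD3_c0) Lrfl Lrfl
theorem f527118 : Led Lsl_dt (LP (LK LD1_c14 LD2_c5 LD3_c42)) = (LP (LK LD1_c14 LD2_c48 LD3_c30)) :=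
  Lgr Lrot136 (Lpr_et (f489907 IH) (Lpr_gf (K46.f489905 IH) (Lpe (K43.f469686 IH) (Lpr_dt (K34.f469676 IH) (Lpr_gf (K34.f469781 IH) (Lpr_df (f527056 IH) (Lpe (K37.f477091 IH) (Lpe (f526921 IH) (Lpr_dt (f477062 IH) (Lpe (f477078 IH) (Lpn (LP (LK LD1_c14 LD2_c48 LD3_c30)))))))))))))
theorem f655004 : Led Lsl_ft (LP (LK LD1_c7 LD2_c52 LD3_c40)) = (LP (LK LD1_c14 LD2_c5 LD3_c45)) :=
  Lgr Lrot54 (Lpe (K61.f529683 IH) (Lpr_ff (f655002 IH) (Lpe (K46.f480135 IH) (Lpn (LP (LK LD1_c14 LD2_c5 LD3_c45))))))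
theorem f481011 : Led Lsl_bt (LP (LK LD1_c14 LD2_c51 LD3_c38)) = (LP (LK LD1_c7 LD2_c52 LD3_c40)) :=
  Lre_b IH (LK LD1_c14 LD2_c51 LD3_c38) (LK LD1_c7 LD2_c52 LD3_c40) Lrfl Lrfl
theorem f527122 : Led Lsl_df (LP (LK LD1_c14 LD2_c5 LD3_c42)) = (LP (LK LD1_c14 LD2_c48 LD3_c30)) :=
  Lgr Lrot38 (Lpr_dt (f527118 IH) (Lpn (LP (LK LD1_c14 LD2_c48 LD3_c30))))
theorem f527125 : Led Lsl_bt (LP (LK LD1_c14 LD2_c5 LD3_c45)) = (LP (LK LD1_c14 LD2_c48 LD3_c30)) :=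
  Lgr Lrot95 (Lpe (K35.f209161 IH) (Lpe (f489895 IH) (Lpr_df (f527122 IH) (Lpn (LP (LK LD1_c14 LD2_c48 LD3_c30))))))
theorem f655006 : Led Lsl_ff (LP (LK LD1_c14 LD2_c51 LD3_c38)) = (LP (LK LD1_c14 LD2_c48 LD3_c30)) :=
  Lgr Lrot25 (Lpr_bt (f481011 IH) (Lpr_ft (f655004 IH) (Lpr_bt (f527125 IH) (Lpn (LP (LK LD1_c14 LD2_c48 LD3_c30))))))
theorem f798462 : Led Lsl_dt (LP (LK LD1_c14 LD2_c51 LD3_c38)) = v21659 :=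
  Lgr Lrot60 (Lpr_ff (f655006 IH) (Lpe (f527118 IH) (Lpr_ff (f798460 IH) (Lpn v21659))))
theorem f806609 : Led Lsl_ct (LP (LK LD1_c13 LD2_c53 LD3_c61)) = v22388 :=
  Lgr Lrot40 (Lpe (K34.f136806 IH) (Lpe (K29.f136788 IH) (Lpr_ff (f806606 IH) (Lpn v22388))))
theorem f477116 : Led Lsl_ff (LP (LK LD1_c13 LD2_c53 LD3_c59)) = (LP (LK LD1_c7 LD2_c50 LD3_c61)) :=
  Lgr Lrot3 (Lpr_ft (K34.f477112 IH) (Lpn (LP (LK LD1_c7 LD2_c50 LD3_c61))))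
theorem f524367 : Led Lsl_gf (LP (LK LD1_c7 LD2_c25 LD3_c4)) = (LP (LK LD1_c7 LD2_c50 LD3_c61)) :=
  Lgr Lrot47 (Lpe (K34.f480261 IH) (Lpr_af (K34.f524344 IH) (Lpr_ff (f477116 IH) (Lpn (LP (LK LD1_c7 LD2_c50 LD3_c61))))))
theorem f136800 : Led Lsl_af (LP (LK LD1_c7 LD2_c25 LD3_c4)) = (LP (LK LD1_c7 LD2_c21 LD3_c7)) :=
  Lgr Lrot68 (Lpe (K5.f132233 IH) (Lpr_at (K29.f110099 IH) (Lpr_ct (K29.f136788 IH) (Lpn (LP (LK LD1_c7 LD2_c21 LD3_c7))))))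
theorem f136792 : Led Lsl_ft (LP (LK LD1_c13 LD2_c53 LD3_c61)) = (LP (LK LD1_c7 LD2_c21 LD3_c7)) :=
  Lre_f IH (LK LD1_c13 LD2_c53 LD3_c61) (LK LD1_c7 LD2_c21 LD3_c7) Lrfl Lrfl
theorem f524369 : Led Lsl_gt (LP (LK LD1_c13 LD2_c53 LD3_c61)) = (LP (LK LD1_c7 LD2_c50 LD3_c61)) :=
  Lgr Lrot5 (Lpr_ft (f136792 IH) (Lpe (f136800 IH) (Lpr_gf (f524367 IH) (Lpn (LP (LK LD1_c7 LD2_c50 LD3_c61))))))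
theorem f477114 : Led Lsl_dt (LP (LK LD1_c7 LD2_c50 LD3_c61)) = (LP (LK LD1_c14 LD2_c48 LD3_c27)) :=
  Lre_d IH (LK LD1_c7 LD2_c50 LD3_c61) (LK LD1_c14 LD2_c48 LD3_c27) Lrfl Lrfl
theorem f806612 : Led Lsl_gf (LP (LK LD1_c14 LD2_c51 LD3_c38)) = (LP (LK LD1_c14 LD2_c48 LD3_c27)) :=
  Lgr Lrot143 (Lpr_dt (f798462 IH) (Lpe (f798461 IH) (Lpe (f478344 IH) (Lpr_gf (f485683 IH) (Lpe (f132256 IH) (Lpr_gf (f806611 IH) (Lpe (f806609 IH) (Lpr_gt (f524369 IH) (Lpr_dt (f477114 IH) (Lpn (LP (LK LD1_c14 LD2_c48 LD3_c27))))))))))))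
theorem f806613 : Led Lsl_gt (LP (LK LD1_c14 LD2_c48 LD3_c27)) = (LP (LK LD1_c14 LD2_c51 LD3_c38)) :=
  Leop (Lpr_gf (f806612 IH) (Lpn (LP (LK LD1_c14 LD2_c48 LD3_c27))))
theorem seed_1712 : LEOK LG_g (LK LD1_c14 LD2_c48 LD3_c27) :=
  Leoe_g (LK LD1_c14 LD2_c48 LD3_c27) (f806613 IH)
def v22395 : LQ := Led Lsl_at (LP (LK LD1_c7 LD2_c35 LD3_c45))
theorem f806645 : Led Lsl_at (LP (LK LD1_c7 LD2_c35 LD3_c45)) = v22395 :=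
  Lrfl
theorem f806646 : Led Lsl_af (LP (LK LD1_c7 LD2_c35 LD3_c45)) = v22395 :=
  Lgr Lrot0 (Lpr_at (f806645 IH) (Lpn v22395))
theorem f93576 : Led Lsl_gt (LP (LK LD1_c7 LD2_c35 LD3_c46)) = (LP (LK LD1_c3 LD2_c47 LD3_c27)) :=
  Lre_g IH (LK LD1_c7 LD2_c35 LD3_c46) (LK LD1_c3 LD2_c47 LD3_c27) Lrfl Lrfl
theorem f806647 : Led Lsl_ft (LP (LK LD1_c7 LD2_c35 LD3_c46)) = v22395 :=
  Lgr Lrot2 (Lpr_gt (f93576 IH) (Lpr_gt (K52.f63866 IH) (Lpr_af (f806646 IH) (Lpn v22395))))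
theorem f806649 : Led Lsl_ff (LP (LK LD1_c7 LD2_c35 LD3_c46)) = v22395 :=
  Lgr Lrot3 (Lpr_ft (f806647 IH) (Lpn v22395))
theorem f128719 : Led Lsl_at (LP (LK LD1_c3 LD2_c49 LD3_c25)) = (LP (LK LD1_c7 LD2_c39 LD3_c30)) :=
  Lre_a IH (LK LD1_c3 LD2_c49 LD3_c25) (LK LD1_c7 LD2_c39 LD3_c30) Lrfl Lrfl
theorem f87195 : Led Lsl_bt (LP (LK LD1_c1 LD2_c51 LD3_c46)) = (LP (LK LD1_c3 LD2_c49 LD3_c25)) :=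
  Lre_b IH (LK LD1_c1 LD2_c51 LD3_c46) (LK LD1_c3 LD2_c49 LD3_c25) Lrfl Lrfl
theorem f439668 : Led Lsl_bf (LP (LK LD1_c3 LD2_c47 LD3_c11)) = (LP (LK LD1_c3 LD2_c15 LD3_c2)) :=
  Lgr Lrot81 (Lpr_at (K58.f89246 IH) (Lpr_bt (f87195 IH) (Lpr_at (f128719 IH) (Lpr_bt (K28.f128716 IH) (Lpr_at (K51.f439664 IH) (Lpn (LP (LK LD1_c3 LD2_c15 LD3_c2))))))))
theorem f439707 : Led Lsl_ct (LP (LK LD1_c3 LD2_c47 LD3_c11)) = (LP (LK LD1_c6 LD2_c28 LD3_c21)) :=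
  Lgr Lrot83 (Lpr_bf (f439668 IH) (Lpr_cf (K51.f62908 IH) (Lpe (K51.f62916 IH) (Lpe (K51.f62917 IH) (Lpe (K51.f62918 IH) (Lpn (LP (LK LD1_c6 LD2_c28 LD3_c21))))))))
theorem f439717 : Led Lsl_gt (LP (LK LD1_c12 LD2_c27 LD3_c52)) = (LP (LK LD1_c6 LD2_c28 LD3_c21)) :=
  Lre_g IH (LK LD1_c12 LD2_c27 LD3_c52) (LK LD1_c6 LD2_c28 LD3_c21) Lrfl Lrfl
theorem f66248 : Led Lsl_bt (LP (LK LD1_c3 LD2_c50 LD3_c34)) = (LP (LK LD1_c1 LD2_c52 LD3_c13)) :=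
  Lre_b IH (LK LD1_c3 LD2_c50 LD3_c34) (LK LD1_c1 LD2_c52 LD3_c13) Lrfl Lrfl
theorem f158041 : Led Lsl_bt (LP (LK LD1_c11 LD2_c29 LD3_c60)) = (LP (LK LD1_c5 LD2_c51 LD3_c17)) :=
  Lre_b IH (LK LD1_c11 LD2_c29 LD3_c60) (LK LD1_c5 LD2_c51 LD3_c17) Lrfl Lrfl
theorem f428803 : Led Lsl_at (LP (LK LD1_c1 LD2_c52 LD3_c13)) = (LP (LK LD1_c3 LD2_c47 LD3_c27)) :=
  Lgr Lrot67 (Lpe (f66248 IH) (Lpr_af (K54.f158059 IH) (Lpe (f158041 IH) (Lpe (K8.f158037 IH) (Lpe (K58.f93561 IH) (Lpn (LP (LK LD1_c3 LD2_c47 LD3_c27))))))))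
theorem f66246 : Led Lsl_ft (LP (LK LD1_c3 LD2_c50 LD3_c42)) = (LP (LK LD1_c1 LD2_c52 LD3_c13)) :=
  Lre_f IH (LK LD1_c3 LD2_c50 LD3_c42) (LK LD1_c1 LD2_c52 LD3_c13) Lrfl Lrfl
theorem f428807 : Led Lsl_gt (LP (LK LD1_c3 LD2_c50 LD3_c42)) = (LP (LK LD1_c7 LD2_c35 LD3_c46)) :=
  Lgr Lrot5 (Lpr_ft (f66246 IH) (Lpr_at (f428803 IH) (Lpe (f93576 IH) (Lpn (LP (LK LD1_c7 LD2_c35 LD3_c46))))))
theorem f713720 : Led Lsl_cf (LP (LK LD1_c12 LD2_c27 LD3_c52)) = (LP (LK LD1_c7 LD2_c35 LD3_c46)) :=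
  Lgr Lrot125 (Lpr_gt (f439717 IH) (Lpe (f439707 IH) (Lpe (K58.f111891 IH) (Lpq (K51.f708498 IH) (Lpe (K51.f701538 IH) (Lpe (K51.f504110 IH) (Lpr_ct (K50.f413660 IH) (Lpr_gt (K51.f701570 IH) (Lpqs (K51.f710352 IH) (Lpe (K6.f66305 IH) (Lpr_bt (K53.f66233 IH) (Lpr_gt (f428807 IH) (Lpn (LP (LK LD1_c7 LD2_c35 LD3_c46)))))))))))))))
theorem f416247 : Led Lsl_gt (LP (LK LD1_c2 LD2_c17 LD3_c34)) = (LP (LK LD1_c4 LD2_c41 LD3_c1)) :=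
  Lre_g IH (LK LD1_c2 LD2_c17 LD3_c34) (LK LD1_c4 LD2_c41 LD3_c1) Lrfl Lrfl
theorem f504418 : Led Lsl_ct (LP (LK LD1_c9 LD2_c17 LD3_c31)) = (LP (LK LD1_c4 LD2_c41 LD3_c1)) :=
  Lre_c IH (LK LD1_c9 LD2_c17 LD3_c31) (LK LD1_c4 LD2_c41 LD3_c1) Lrfl Lrfl
theorem f703043 : Led Lsl_ff (LP (LK LD1_c4 LD2_c44 LD3_c7)) = K51.v13448 :=
  Lgr Lrot3 (Lpr_ft (K51.f703038 IH) (Lpn K51.v13448))
theorem f129975 : Led Lsl_ct (LP (LK LD1_c4 LD2_c44 LD3_c7)) = (LP (LK LD1_c2 LD2_c20 LD3_c2)) :=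
  Lre_c IH (LK LD1_c4 LD2_c44 LD3_c7) (LK LD1_c2 LD2_c20 LD3_c2) Lrfl Lrfl
theorem f703047 : Led Lsl_ct K51.v4366 = K51.v13448 :=
  Lgr Lrot40 (Lpe (K51.f632946 IH) (Lpe (f129975 IH) (Lpr_ff (f703043 IH) (Lpn K51.v13448))))
theorem f416248 : Led Lsl_ct (LP (LK LD1_c4 LD2_c41 LD3_c1)) = (LP (LK LD1_c9 LD2_c17 LD3_c31)) :=
  Lre_c IH (LK LD1_c4 LD2_c41 LD3_c1) (LK LD1_c9 LD2_c17 LD3_c31) Lrfl Lrfl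
theorem f708724 : K51.v4366 = (LP (LK LD1_c4 LD2_c41 LD3_c1)) :=
  Lefun (Lecon (K51.f632956 IH) (K51.f708718 IH).symm) (f416247 IH)
theorem f708740 : K51.v13448 = (LP (LK LD1_c9 LD2_c17 LD3_c31)) :=
  Lefun (Lecon (f703047 IH) (f708724 IH)) (f416248 IH)
theorem f89958 : Led Lsl_bt (LP (LK LD1_c6 LD2_c56 LD3_c0)) = (LP (LK LD1_c3 LD2_c27 LD3_c6)) :=
  Lre_b IH (LK LD1_c6 LD2_c56 LD3_c0) (LK LD1_c3 LD2_c27 LD3_c6) Lrfl Lrfl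
theorem f129965 : Led Lsl_bf (LP (LK LD1_c4 LD2_c44 LD3_c7)) = (LP (LK LD1_c3 LD2_c48 LD3_c14)) :=
  Lgr Lrot81 (Lpr_at (K51.f129960 IH) (Lpr_bt (K60.f126587 IH) (Lpr_at (K52.f127380 IH) (Lpr_bt (f89958 IH) (Lpr_at (K3.f89951 IH) (Lpn (LP (LK LD1_c3 LD2_c48 LD3_c14))))))))
theorem f89932 : Led Lsl_ft (LP (LK LD1_c7 LD2_c37 LD3_c32)) = (LP (LK LD1_c3 LD2_c48 LD3_c14)) :=
  Lre_f IH (LK LD1_c7 LD2_c37 LD3_c32) (LK LD1_c3 LD2_c48 LD3_c14) Lrfl Lrfl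
theorem f703040 : Led Lsl_bf (LP (LK LD1_c7 LD2_c37 LD3_c32)) = K51.v13448 :=
  Lgr Lrot61 (Lpr_ft (f89932 IH) (Lpe (f129965 IH) (Lpr_ft (K51.f703038 IH) (Lpn K51.v13448))))
theorem f89891 : Led Lsl_dt (LP (LK LD1_c3 LD2_c27 LD3_c6)) = (LP (LK LD1_c6 LD2_c56 LD3_c8)) :=
  Lre_d IH (LK LD1_c3 LD2_c27 LD3_c6) (LK LD1_c6 LD2_c56 LD3_c8) Lrfl Lrfl
theorem f89892 : Led Lsl_dt (LP (LK LD1_c7 LD2_c37 LD3_c31)) = (LP (LK LD1_c3 LD2_c48 LD3_c14)) :=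
  Lre_d IH (LK LD1_c7 LD2_c37 LD3_c31) (LK LD1_c3 LD2_c48 LD3_c14) Lrfl Lrfl
theorem f89893 : Led Lsl_af (LP (LK LD1_c3 LD2_c27 LD3_c6)) = (LP (LK LD1_c3 LD2_c48 LD3_c14)) :=
  Lgr Lrot117 (Lpr_dt (f89891 IH) (Lpr_at (K3.f89880 IH) (Lpr_dt (f89892 IH) (Lpn (LP (LK LD1_c3 LD2_c48 LD3_c14))))))
theorem f90000 : Led Lsl_gf (LP (LK LD1_c6 LD2_c56 LD3_c7)) = (LP (LK LD1_c7 LD2_c37 LD3_c32)) :=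
  Lgr Lrot47 (Lpr_gt (K61.f89999 IH) (Lpr_af (f89893 IH) (Lpe (f89932 IH) (Lpn (LP (LK LD1_c7 LD2_c37 LD3_c32))))))
theorem f713726 : Led Lsl_bf (LP (LK LD1_c6 LD2_c56 LD3_c7)) = (LP (LK LD1_c7 LD2_c35 LD3_c46)) :=
  Lgr Lrot34 (Lpr_gf (f90000 IH) (Lpr_bf (f703040 IH) (Lpqs (f708740 IH) (Lpr_ct (f504418 IH) (Lpe (f416247 IH) (Lpe (K60.f503337 IH) (Lpqs (K51.f708499 IH) (Lpe (K51.f650084 IH) (Lpr_bf (K58.f111891 IH) (Lpr_ct (f439707 IH) (Lpe (f439717 IH) (Lpr_cf (f713720 IH) (Lpn (LP (LK LD1_c7 LD2_c35 LD3_c46)))))))))))))))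
def v20392 : LQ := Led Lsl_at (LP (LK LD1_c6 LD2_c56 LD3_c6))
theorem f786763 : Led Lsl_at (LP (LK LD1_c6 LD2_c56 LD3_c6)) = v20392 :=
  Lrfl
theorem f786764 : Led Lsl_af (LP (LK LD1_c6 LD2_c56 LD3_c6)) = v20392 :=
  Lgr Lrot0 (Lpr_at (f786763 IH) (Lpn v20392))
theorem f89933 : Led Lsl_gt (LP (LK LD1_c3 LD2_c27 LD3_c6)) = (LP (LK LD1_c6 LD2_c56 LD3_c6)) :=
  Lre_g IH (LK LD1_c3 LD2_c27 LD3_c6) (LK LD1_c6 LD2_c56 LD3_c6) Lrfl Lrfl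
theorem f786767 : Led Lsl_ft (LP (LK LD1_c6 LD2_c56 LD3_c7)) = v20392 :=
  Lgr Lrot2 (Lpr_gt (K61.f89999 IH) (Lpr_gt (f89933 IH) (Lpr_af (f786764 IH) (Lpn v20392))))
theorem f806650 : Led Lsl_bt v20392 = v22395 :=
  Lgr Lrot35 (Lpe (f786767 IH) (Lpr_bf (f713726 IH) (Lpr_ff (f806649 IH) (Lpn v22395))))
theorem f89941 : Led Lsl_bt (LP (LK LD1_c13 LD2_c10 LD3_c15)) = (LP (LK LD1_c6 LD2_c56 LD3_c6)) :=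
  Lre_b IH (LK LD1_c13 LD2_c10 LD3_c15) (LK LD1_c6 LD2_c56 LD3_c6) Lrfl Lrfl
theorem f713796 : Led Lsl_bt (LP (LK LD1_c7 LD2_c35 LD3_c45)) = (LP (LK LD1_c14 LD2_c19 LD3_c11)) :=
  Lre_b IH (LK LD1_c7 LD2_c35 LD3_c45) (LK LD1_c14 LD2_c19 LD3_c11) Lrfl Lrfl
theorem f806651 : Led Lsl_af (LP (LK LD1_c13 LD2_c10 LD3_c15)) = (LP (LK LD1_c14 LD2_c19 LD3_c11)) :=
  Lgr Lrot36 (Lpr_bt (f89941 IH) (Lpr_at (f786763 IH) (Lpr_bt (f806650 IH) (Lpe (f806646 IH) (Lpr_bt (f713796 IH) (Lpn (LP (LK LD1_c14 LD2_c19 LD3_c11))))))))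
theorem f806652 : Led Lsl_at (LP (LK LD1_c14 LD2_c19 LD3_c11)) = (LP (LK LD1_c13 LD2_c10 LD3_c15)) :=
  Leop (Lpr_af (f806651 IH) (Lpn (LP (LK LD1_c14 LD2_c19 LD3_c11))))
theorem seed_1713 : LEOK LG_a (LK LD1_c14 LD2_c19 LD3_c11) :=
  Leoe_a (LK LD1_c14 LD2_c19 LD3_c11) (f806652 IH)
def v22398 : LQ := Led Lsl_ct (LP (LK LD1_c7 LD2_c35 LD3_c47))
theorem f806696 : Led Lsl_ct (LP (LK LD1_c7 LD2_c35 LD3_c47)) = v22398 :=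
  Lrfl
theorem f806698 : Led Lsl_cf (LP (LK LD1_c7 LD2_c35 LD3_c47)) = v22398 :=
  Lgr Lrot11 (Lpr_ct (f806696 IH) (Lpn v22398))
theorem f65801 : Led Lsl_dt (LP (LK LD1_c7 LD2_c35 LD3_c47)) = (LP (LK LD1_c3 LD2_c47 LD3_c27)) :=
  Lre_d IH (LK LD1_c7 LD2_c35 LD3_c47) (LK LD1_c3 LD2_c47 LD3_c27) Lrfl Lrfl
theorem f87816 : Led Lsl_ct (LP (LK LD1_c7 LD2_c40 LD3_c0)) = (LP (LK LD1_c14 LD2_c27 LD3_c8)) :=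
  Lre_c IH (LK LD1_c7 LD2_c40 LD3_c0) (LK LD1_c14 LD2_c27 LD3_c8) Lrfl Lrfl
theorem f806704 : Led Lsl_gt (LP (LK LD1_c14 LD2_c27 LD3_c8)) = v22398 :=
  Lgr Lrot150 (Lpe (f87816 IH) (Lpe (K54.f442277 IH) (Lpe (K2.f89258 IH) (Lpr_gt (K58.f442250 IH) (Lpr_ct (K58.f442254 IH) (Lpr_gt (K58.f727565 IH) (Lpe (K3.f93548 IH) (Lpe (f65801 IH) (Lpr_cf (f806698 IH) (Lpn v22398))))))))))
theorem f441330 : Led Lsl_et (LP (LK LD1_c3 LD2_c47 LD3_c28)) = (LP (LK LD1_c7 LD2_c35 LD3_c47)) :=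
  Lre_e IH (LK LD1_c3 LD2_c47 LD3_c28) (LK LD1_c7 LD2_c35 LD3_c47) Lrfl Lrfl
theorem f91272 : Led Lsl_ct (LP (LK LD1_c7 LD2_c35 LD3_c50)) = (LP (LK LD1_c3 LD2_c47 LD3_c28)) :=
  Lre_c IH (LK LD1_c7 LD2_c35 LD3_c50) (LK LD1_c3 LD2_c47 LD3_c28) Lrfl Lrfl
theorem f806699 : Led Lsl_ef (LP (LK LD1_c7 LD2_c35 LD3_c50)) = v22398 :=
  Lgr Lrot28 (Lpr_ct (f91272 IH) (Lpr_et (f441330 IH) (Lpr_ct (f806696 IH) (Lpn v22398))))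
theorem f110119 : Led Lsl_af (LP (LK LD1_c7 LD2_c35 LD3_c50)) = (LP (LK LD1_c3 LD2_c50 LD3_c45)) :=
  Lgr Lrot68 (Lpr_ct (f91272 IH) (Lpr_at (K3.f110105 IH) (Lpr_ct (K60.f110118 IH) (Lpn (LP (LK LD1_c3 LD2_c50 LD3_c45))))))
theorem f441332 : Led Lsl_at (LP (LK LD1_c7 LD2_c35 LD3_c50)) = (LP (LK LD1_c3 LD2_c50 LD3_c45)) :=
  Lgr Lrot100 (Lpr_af (f110119 IH) (Lpn (LP (LK LD1_c3 LD2_c50 LD3_c45))))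
theorem f441340 : Led Lsl_et (LP (LK LD1_c3 LD2_c50 LD3_c45)) = (LP (LK LD1_c7 LD2_c42 LD3_c30)) :=
  Lre_e IH (LK LD1_c3 LD2_c50 LD3_c45) (LK LD1_c7 LD2_c42 LD3_c30) Lrfl Lrfl
theorem f806700 : Led Lsl_at (LP (LK LD1_c7 LD2_c42 LD3_c30)) = v22398 :=
  Lgr Lrot80 (Lpe (f441340 IH) (Lpe (f441332 IH) (Lpr_ef (f806699 IH) (Lpn v22398))))
theorem f806703 : Led Lsl_ft (LP (LK LD1_c14 LD2_c31 LD3_c50)) = (LP (LK LD1_c7 LD2_c42 LD3_c30)) :=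
  Lre_f IH (LK LD1_c14 LD2_c31 LD3_c50) (LK LD1_c7 LD2_c42 LD3_c30) Lrfl Lrfl
theorem f806705 : Led Lsl_gf (LP (LK LD1_c14 LD2_c27 LD3_c8)) = (LP (LK LD1_c14 LD2_c31 LD3_c50)) :=
  Lgr Lrot47 (Lpr_gt (f806704 IH) (Lpe (f806700 IH) (Lpe (f806703 IH) (Lpn (LP (LK LD1_c14 LD2_c31 LD3_c50))))))
theorem f806706 : Led Lsl_gt (LP (LK LD1_c14 LD2_c31 LD3_c50)) = (LP (LK LD1_c14 LD2_c27 LD3_c8)) :=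
  Leop (Lpr_gf (f806705 IH) (Lpn (LP (LK LD1_c14 LD2_c31 LD3_c50))))
theorem seed_1714 : LEOK LG_g (LK LD1_c14 LD2_c31 LD3_c50) :=
  Leoe_g (LK LD1_c14 LD2_c31 LD3_c50) (f806706 IH)
def v22425 : LQ := Led Lsl_gt (LP (LK LD1_c7 LD2_c36 LD3_c26))
theorem f806848 : Led Lsl_gt (LP (LK LD1_c7 LD2_c36 LD3_c26)) = v22425 :=
  Lrfl
theorem f14834 : Led Lsl_dt (LP (LK LD1_c3 LD2_c47 LD3_c43)) = (LP (LK LD1_c7 LD2_c36 LD3_c26)) :=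
  Lre_d IH (LK LD1_c3 LD2_c47 LD3_c43) (LK LD1_c7 LD2_c36 LD3_c26) Lrfl Lrfl
theorem f787534 : Led Lsl_ef (LP (LK LD1_c6 LD2_c58 LD3_c42)) = K61.v20513 :=
  Lgr Lrot88 (Lpr_et (K61.f787532 IH) (Lpn K61.v20513))
theorem f795333 : Led Lsl_bf K61.v20513 = K62.v21377 :=
  Lgr Lrot96 (Lpe (f787534 IH) (Lpe (K28.f97475 IH) (Lpr_et (K62.f795331 IH) (Lpn K62.v21377))))
theorem f795345 : Led Lsl_gt (LP (LK LD1_c7 LD2_c18 LD3_c34)) = K61.v20513 :=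
  Lgr Lrot164 (Lpe (K61.f478898 IH) (Lpr_ct (K34.f457010 IH) (Lpr_gf (K29.f478890 IH) (Lpe (K4.f94322 IH) (Lpe (K29.f484114 IH) (Lpr_bf (K47.f660819 IH) (Lpe (K47.f660820 IH) (Lpr_gf (K62.f610335 IH) (Lpr_cf (f795334 IH) (Lpe (f795333 IH) (Lpn K61.v20513)))))))))))
theorem f478914 : Led Lsl_et (LP (LK LD1_c13 LD2_c49 LD3_c49)) = (LP (LK LD1_c7 LD2_c18 LD3_c34)) :=
  Lre_e IH (LK LD1_c13 LD2_c49 LD3_c49) (LK LD1_c7 LD2_c18 LD3_c34) Lrfl Lrfl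
theorem f806851 : Led Lsl_dt (LP (LK LD1_c13 LD2_c49 LD3_c49)) = v22425 :=
  Lgr Lrot56 (Lpr_et (f478914 IH) (Lpr_gt (f795345 IH) (Lpe (K61.f787532 IH) (Lpe (K7.f156657 IH) (Lpr_gt (K7.f16108 IH) (Lpe (K0.f15657 IH) (Lpr_et (K7.f14956 IH) (Lpr_gt (K7.f14960 IH) (Lpr_dt (f14834 IH) (Lpr_gt (f806848 IH) (Lpn v22425)))))))))))
theorem f522573 : Led Lsl_at (LP (LK LD1_c7 LD2_c17 LD3_c37)) = (LP (LK LD1_c3 LD2_c38 LD3_c38)) :=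
  Lre_a IH (LK LD1_c7 LD2_c17 LD3_c37) (LK LD1_c3 LD2_c38 LD3_c38) Lrfl Lrfl
theorem f795322 : Led Lsl_ff (LP (LK LD1_c7 LD2_c17 LD3_c37)) = K62.v21376 :=
  Lgr Lrot30 (Lpr_at (f522573 IH) (Lpe (K62.f526506 IH) (Lpr_at (K62.f795317 IH) (Lpn K62.v21376))))
theorem f609444 : Led Lsl_cf (LP (LK LD1_c3 LD2_c46 LD3_c42)) = (LP (LK LD1_c7 LD2_c17 LD3_c37)) :=
  Lgr Lrot11 (Lpr_ct (K61.f609441 IH) (Lpn (LP (LK LD1_c7 LD2_c17 LD3_c37))))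
theorem f660821 : Led Lsl_ff (LP (LK LD1_c3 LD2_c46 LD3_c43)) = K47.v7089 :=
  Lgr Lrot23 (Lpr_ct (K47.f523471 IH) (Lpe (K47.f523828 IH) (Lpr_ct (K47.f660817 IH) (Lpn K47.v7089))))
theorem f660823 : Led Lsl_ft (LP (LK LD1_c3 LD2_c46 LD3_c43)) = K47.v7089 :=
  Lgr Lrot48 (Lpr_ff (f660821 IH) (Lpn K47.v7089))
theorem f660818 : Led Lsl_af (LP (LK LD1_c3 LD2_c46 LD3_c42)) = K47.v7089 :=
  Lgr Lrot68 (Lpr_ct (K61.f609441 IH) (Lpr_at (f522573 IH) (Lpr_ct (K47.f660817 IH) (Lpn K47.v7089))))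
theorem f664936 : Led Lsl_ft (LP (LK LD1_c3 LD2_c46 LD3_c42)) = K62.v7401 :=
  Lgr Lrot101 (Lpr_af (f660818 IH) (Lpe (f660823 IH) (Lpr_af (K62.f664933 IH) (Lpn K62.v7401))))
theorem f795329 : Led Lsl_ct K62.v7401 = K62.v21376 :=
  Lgr Lrot40 (Lpe (f664936 IH) (Lpr_cf (f609444 IH) (Lpr_ff (f795322 IH) (Lpn K62.v21376))))
def v2639 : LQ := Led Lsl_ft (LP (LK LD1_c1 LD2_c50 LD3_c28))
theorem f529981 : Led Lsl_ft (LP (LK LD1_c1 LD2_c50 LD3_c28)) = v2639 :=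
  Lrfl
theorem f529984 : Led Lsl_ff (LP (LK LD1_c1 LD2_c50 LD3_c28)) = v2639 :=
  Lgr Lrot3 (Lpr_ft (f529981 IH) (Lpn v2639))
theorem f664930 : Led Lsl_gt v2639 = K62.v7401 :=
  Lgr Lrot5 (Lpe (f529984 IH) (Lpr_at (K28.f120509 IH) (Lpr_gf (K62.f664929 IH) (Lpn K62.v7401))))
theorem f529987 : Led Lsl_bt K29.v837 = v2639 :=
  Lgr Lrot35 (Lpe (K29.f459645 IH) (Lpe (K47.f120572 IH) (Lpr_ff (f529984 IH) (Lpn v2639))))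
theorem f459646 : Led Lsl_cf K30.v206 = K29.v837 :=
  Lgr Lrot108 (Lpe (K30.f451078 IH) (Lpr_ct (K33.f120550 IH) (Lpr_ft (K29.f459645 IH) (Lpn K29.v837))))
theorem f528010 : Led Lsl_ct K34.v2302 = K34.v615 :=
  Lgr Lrot59 (Lpr_cf (K34.f528008 IH) (Lpq (K34.f493753 IH) (Lpqs (K34.f493785 IH) (Lpn K34.v615))))
def v7422 : LQ := Led Lsl_ft (LP (LK LD1_c3 LD2_c46 LD3_c57))
theorem f665316 : Led Lsl_ft (LP (LK LD1_c3 LD2_c46 LD3_c57)) = v7422 :=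
  Lrfl
theorem f665319 : Led Lsl_ff (LP (LK LD1_c3 LD2_c46 LD3_c57)) = v7422 :=
  Lgr Lrot3 (Lpr_ft (f665316 IH) (Lpn v7422))
theorem f665321 : Led Lsl_bt K34.v2302 = v7422 :=
  Lgr Lrot35 (Lpr_ff (K48.f528013 IH) (Lpe (K46.f459661 IH) (Lpr_ff (f665319 IH) (Lpn v7422))))
theorem f795346 : Led Lsl_gf v7422 = K61.v20513 :=
  Lgr Lrot124 (Lpe (f665321 IH) (Lpr_ct (f528010 IH) (Lpr_gt (K34.f455524 IH) (Lpr_cf (f459646 IH) (Lpr_bt (f529987 IH) (Lpr_gt (f664930 IH) (Lpr_ct (f795329 IH) (Lpe (K62.f795324 IH) (Lpr_cf (f795334 IH) (Lpe (f795333 IH) (Lpn K61.v20513)))))))))))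
def v20569 : LQ := Led Lsl_ft (LP (LK LD1_c6 LD2_c59 LD3_c44))
theorem f787959 : Led Lsl_ft (LP (LK LD1_c6 LD2_c59 LD3_c44)) = v20569 :=
  Lrfl
theorem f787962 : Led Lsl_ff (LP (LK LD1_c6 LD2_c59 LD3_c44)) = v20569 :=
  Lgr Lrot3 (Lpr_ft (f787959 IH) (Lpn v20569))
theorem f787535 : Led Lsl_at (LP (LK LD1_c6 LD2_c59 LD3_c44)) = K61.v20513 :=
  Lgr Lrot80 (Lpe (K61.f130458 IH) (Lpe (K32.f497588 IH) (Lpr_ef (f787534 IH) (Lpn K61.v20513))))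
theorem f787963 : Led Lsl_at (LP (LK LD1_c7 LD2_c34 LD3_c45)) = v20569 :=
  Lgr Lrot66 (Lpr_ff (K61.f787537 IH) (Lpe (f787535 IH) (Lpr_ff (f787962 IH) (Lpn v20569))))
theorem f795347 : Led Lsl_gt v7422 = v20569 :=
  Lgr Lrot46 (Lpr_gf (f795346 IH) (Lpe (K61.f787537 IH) (Lpr_at (f787963 IH) (Lpn v20569))))
theorem f795348 : Led Lsl_gf (LP (LK LD1_c7 LD2_c18 LD3_c34)) = v20569 :=
  Lgr Lrot76 (Lpe (K30.f493769 IH) (Lpr_ff (f665319 IH) (Lpr_gt (f795347 IH) (Lpn v20569))))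
theorem f497557 : Led Lsl_ff (LP (LK LD1_c6 LD2_c58 LD3_c41)) = (LP (LK LD1_c3 LD2_c29 LD3_c0)) :=
  Lgr Lrot25 (Lpe (K7.f116518 IH) (Lpr_ft (K32.f497553 IH) (Lpr_bt (K5.f18636 IH) (Lpn (LP (LK LD1_c3 LD2_c29 LD3_c0))))))
theorem f787964 : Led Lsl_et (LP (LK LD1_c7 LD2_c33 LD3_c34)) = v20569 :=
  Lgr Lrot69 (Lpr_ff (K61.f787520 IH) (Lpe (K61.f787503 IH) (Lpr_ff (f497557 IH) (Lpe (K61.f18637 IH) (Lpr_ff (f787962 IH) (Lpn v20569))))))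
theorem f466817 : Led Lsl_dt (LP (LK LD1_c7 LD2_c33 LD3_c34)) = (LP (LK LD1_c14 LD2_c15 LD3_c24)) :=
  Lre_d IH (LK LD1_c7 LD2_c33 LD3_c34) (LK LD1_c14 LD2_c15 LD3_c24) Lrfl Lrfl
def v22409 : LQ := Led Lsl_dt (LP (LK LD1_c7 LD2_c36 LD3_c7))
theorem f806773 : Led Lsl_dt (LP (LK LD1_c7 LD2_c36 LD3_c7)) = v22409 :=
  Lrfl
theorem f14833 : Led Lsl_dt (LP (LK LD1_c7 LD2_c36 LD3_c26)) = (LP (LK LD1_c3 LD2_c47 LD3_c43)) :=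
  Lre_d IH (LK LD1_c7 LD2_c36 LD3_c26) (LK LD1_c3 LD2_c47 LD3_c43) Lrfl Lrfl
theorem f806776 : Led Lsl_ff (LP (LK LD1_c7 LD2_c36 LD3_c26)) = v22409 :=
  Lgr Lrot19 (Lpr_dt (f14833 IH) (Lpr_ft (K57.f665555 IH) (Lpq (K57.f757341 IH) (Lpr_dt (f806773 IH) (Lpn v22409)))))
theorem f806778 : Led Lsl_ft (LP (LK LD1_c7 LD2_c36 LD3_c26)) = v22409 :=
  Lgr Lrot48 (Lpr_ff (f806776 IH) (Lpn v22409))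
theorem f665553 : Led Lsl_ff (LP (LK LD1_c3 LD2_c47 LD3_c44)) = K57.v7437 :=
  Lgr Lrot3 (Lpr_ft (K57.f665552 IH) (Lpn K57.v7437))
theorem f665559 : Led Lsl_at (LP (LK LD1_c3 LD2_c47 LD3_c44)) = K57.v7438 :=
  Lgr Lrot66 (Lpr_ff (f665553 IH) (Lpe (K57.f665550 IH) (Lpr_ff (K57.f665558 IH) (Lpn K57.v7438))))
def v7439 : LQ := Led Lsl_dt (LP (LK LD1_c3 LD2_c47 LD3_c44))
theorem f665560 : Led Lsl_dt (LP (LK LD1_c3 LD2_c47 LD3_c44)) = v7439 :=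
  Lrfl
theorem f665561 : Led Lsl_df (LP (LK LD1_c3 LD2_c47 LD3_c44)) = v7439 :=
  Lgr Lrot38 (Lpr_dt (f665560 IH) (Lpn v7439))
theorem f806774 : Led Lsl_af v7439 = v22409 :=
  Lgr Lrot117 (Lpe (f665561 IH) (Lpr_at (f665559 IH) (Lpq (K57.f757341 IH) (Lpr_dt (f806773 IH) (Lpn v22409)))))
theorem f806849 : Led Lsl_gf v7439 = v22425 :=
  Lgr Lrot76 (Lpr_af (f806774 IH) (Lpe (f806778 IH) (Lpr_gt (f806848 IH) (Lpn v22425))))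
theorem f665554 : Led Lsl_et (LP (LK LD1_c3 LD2_c47 LD3_c44)) = (LP (LK LD1_c7 LD2_c36 LD3_c30)) :=
  Lre_e IH (LK LD1_c3 LD2_c47 LD3_c44) (LK LD1_c7 LD2_c36 LD3_c30) Lrfl Lrfl
theorem f552967 : Led Lsl_dt (LP (LK LD1_c6 LD2_c14 LD3_c52)) = (LP (LK LD1_c12 LD2_c8 LD3_c2)) :=
  Lre_d IH (LK LD1_c6 LD2_c14 LD3_c52) (LK LD1_c12 LD2_c8 LD3_c2) Lrfl Lrfl
theorem f92464 : Led Lsl_dt (LP (LK LD1_c14 LD2_c12 LD3_c28)) = (LP (LK LD1_c7 LD2_c31 LD3_c60)) :=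
  Lre_d IH (LK LD1_c14 LD2_c12 LD3_c28) (LK LD1_c7 LD2_c31 LD3_c60) Lrfl Lrfl
theorem f460963 : Led Lsl_ff (LP (LK LD1_c14 LD2_c12 LD3_c28)) = (LP (LK LD1_c22 LD2_c40 LD3_c18)) :=
  Lgr Lrot19 (Lpr_dt (f92464 IH) (Lpr_ft (K28.f460956 IH) (Lpr_dt (K62.f460962 IH) (Lpn (LP (LK LD1_c22 LD2_c40 LD3_c18))))))
theorem f461019 : Led Lsl_gf (LP (LK LD1_c14 LD2_c12 LD3_c41)) = (LP (LK LD1_c22 LD2_c40 LD3_c18)) :=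
  Lgr Lrot47 (Lpr_gt (K62.f92436 IH) (Lpe (K4.f109296 IH) (Lpr_ff (f460963 IH) (Lpn (LP (LK LD1_c22 LD2_c40 LD3_c18))))))
theorem f756717 : Led Lsl_dt (LP (LK LD1_c14 LD2_c12 LD3_c41)) = (LP (LK LD1_c14 LD2_c27 LD3_c34)) :=
  Lgr Lrot113 (Lpr_gf (f461019 IH) (Lpe (K62.f460962 IH) (Lpr_gf (K39.f468368 IH) (Lpr_ct (K62.f92409 IH) (Lpe (K62.f589985 IH) (Lpr_dt (K44.f552969 IH) (Lpr_gt (K43.f80504 IH) (Lpr_dt (f552967 IH) (Lpr_ct (K57.f756711 IH) (Lpn (LP (LK LD1_c14 LD2_c27 LD3_c34))))))))))))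
theorem f757583 : Led Lsl_ff (LP (LK LD1_c14 LD2_c42 LD3_c41)) = (LP (LK LD1_c14 LD2_c27 LD3_c34)) :=
  Lgr Lrot19 (Lpe (K62.f664236 IH) (Lpr_ft (K62.f757581 IH) (Lpr_dt (f756717 IH) (Lpn (LP (LK LD1_c14 LD2_c27 LD3_c34))))))
theorem f460985 : Led Lsl_gt (LP (LK LD1_c14 LD2_c12 LD3_c28)) = (LP (LK LD1_c22 LD2_c40 LD3_c20)) :=
  Lgr Lrot5 (Lpr_ft (K28.f460976 IH) (Lpr_at (K29.f460980 IH) (Lpe (K62.f460943 IH) (Lpn (LP (LK LD1_c22 LD2_c40 LD3_c20))))))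
theorem f64763 : Led Lsl_gt (LP (LK LD1_c14 LD2_c24 LD3_c30)) = (LP (LK LD1_c7 LD2_c38 LD3_c41)) :=
  Lre_g IH (LK LD1_c14 LD2_c24 LD3_c30) (LK LD1_c7 LD2_c38 LD3_c41) Lrfl Lrfl
theorem f664240 : Led Lsl_ef (LP (LK LD1_c14 LD2_c24 LD3_c30)) = (LP (LK LD1_c14 LD2_c42 LD3_c41)) :=
  Lgr Lrot167 (Lpr_gt (f64763 IH) (Lpr_dt (K48.f64749 IH) (Lpr_gt (K48.f486309 IH) (Lpe (K48.f91255 IH) (Lpr_et (K48.f91256 IH) (Lpe (K4.f111497 IH) (Lpe (K4.f92455 IH) (Lpr_dt (K4.f92467 IH) (Lpr_gt (f460985 IH) (Lpr_df (K62.f664236 IH) (Lpn (LP (LK LD1_c14 LD2_c42 LD3_c41)))))))))))))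
theorem f461021 : Led Lsl_et (LP (LK LD1_c23 LD2_c47 LD3_c53)) = (LP (LK LD1_c14 LD2_c12 LD3_c41)) :=
  Lre_e IH (LK LD1_c23 LD2_c47 LD3_c53) (LK LD1_c14 LD2_c12 LD3_c41) Lrfl Lrfl
theorem f552935 : Led Lsl_et (LP (LK LD1_c13 LD2_c30 LD3_c50)) = (LP (LK LD1_c12 LD2_c8 LD3_c2)) :=
  Lgr Lrot74 (Lpe (K57.f475840 IH) (Lpr_ef (K39.f552932 IH) (Lpe (K57.f552934 IH) (Lpn (LP (LK LD1_c12 LD2_c8 LD3_c2))))))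
theorem f756715 : Led Lsl_ef (LP (LK LD1_c7 LD2_c47 LD3_c10)) = (LP (LK LD1_c14 LD2_c27 LD3_c34)) :=
  Lgr Lrot28 (Lpr_ct (K57.f476176 IH) (Lpr_et (f552935 IH) (Lpr_ct (K57.f756711 IH) (Lpn (LP (LK LD1_c14 LD2_c27 LD3_c34))))))
theorem f460383 : Led Lsl_et (LP (LK LD1_c14 LD2_c41 LD3_c29)) = (LP (LK LD1_c24 LD2_c26 LD3_c5)) :=
  Lre_e IH (LK LD1_c14 LD2_c41 LD3_c29) (LK LD1_c24 LD2_c26 LD3_c5) Lrfl Lrfl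
theorem f756721 : Led Lsl_df (LP (LK LD1_c23 LD2_c47 LD3_c53)) = (LP (LK LD1_c24 LD2_c26 LD3_c5)) :=
  Lgr Lrot70 (Lpr_et (f461021 IH) (Lpr_dt (f756717 IH) (Lpe (f756715 IH) (Lpr_dt (K57.f460378 IH) (Lpr_et (f460383 IH) (Lpn (LP (LK LD1_c24 LD2_c26 LD3_c5))))))))
theorem f756724 : Led Lsl_dt (LP (LK LD1_c23 LD2_c47 LD3_c53)) = (LP (LK LD1_c24 LD2_c26 LD3_c5)) :=
  Lgr Lrot42 (Lpr_df (f756721 IH) (Lpn (LP (LK LD1_c24 LD2_c26 LD3_c5))))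
theorem f756723 : Led Lsl_et (LP (LK LD1_c14 LD2_c12 LD3_c41)) = (LP (LK LD1_c23 LD2_c47 LD3_c53)) :=
  Lre_e IH (LK LD1_c14 LD2_c12 LD3_c41) (LK LD1_c23 LD2_c47 LD3_c53) Lrfl Lrfl
theorem f756719 : Led Lsl_df (LP (LK LD1_c14 LD2_c12 LD3_c41)) = (LP (LK LD1_c14 LD2_c27 LD3_c34)) :=
  Lgr Lrot38 (Lpr_dt (f756717 IH) (Lpn (LP (LK LD1_c14 LD2_c27 LD3_c34))))
theorem f511882 : Led Lsl_et (LP (LK LD1_c24 LD2_c26 LD3_c5)) = (LP (LK LD1_c14 LD2_c41 LD3_c29)) :=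
  Lre_e IH (LK LD1_c24 LD2_c26 LD3_c5) (LK LD1_c14 LD2_c41 LD3_c29) Lrfl Lrfl
theorem f756726 : Led Lsl_ef (LP (LK LD1_c14 LD2_c27 LD3_c34)) = (LP (LK LD1_c7 LD2_c47 LD3_c10)) :=
  Lgr Lrot73 (Lpe (f756719 IH) (Lpr_et (f756723 IH) (Lpr_dt (f756724 IH) (Lpr_et (f511882 IH) (Lpr_dt (K57.f460382 IH) (Lpn (LP (LK LD1_c7 LD2_c47 LD3_c10))))))))
theorem f104091 : Led Lsl_dt (LP (LK LD1_c22 LD2_c50 LD3_c47)) = (LP (LK LD1_c13 LD2_c29 LD3_c61)) :=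
  Lre_d IH (LK LD1_c22 LD2_c50 LD3_c47) (LK LD1_c13 LD2_c29 LD3_c61) Lrfl Lrfl
theorem f757379 : Led Lsl_ff (LP (LK LD1_c7 LD2_c47 LD3_c10)) = (LP (LK LD1_c13 LD2_c29 LD3_c61)) :=
  Lgr Lrot19 (Lpr_dt (K57.f460378 IH) (Lpr_ft (K57.f757375 IH) (Lpr_dt (f104091 IH) (Lpn (LP (LK LD1_c13 LD2_c29 LD3_c61))))))
theorem f104066 : Led Lsl_et (LP (LK LD1_c22 LD2_c50 LD3_c48)) = (LP (LK LD1_c13 LD2_c29 LD3_c61)) :=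
  Lre_e IH (LK LD1_c22 LD2_c50 LD3_c48) (LK LD1_c13 LD2_c29 LD3_c61) Lrfl Lrfl
theorem f757613 : Led Lsl_ft (LP (LK LD1_c14 LD2_c24 LD3_c30)) = (LP (LK LD1_c22 LD2_c50 LD3_c48)) :=
  Lgr Lrot86 (Lpr_ef (f664240 IH) (Lpr_ff (f757583 IH) (Lpr_ef (f756726 IH) (Lpr_ff (f757379 IH) (Lpe (f104066 IH) (Lpn (LP (LK LD1_c22 LD2_c50 LD3_c48))))))))
theorem f64765 : Led Lsl_gt (LP (LK LD1_c7 LD2_c38 LD3_c41)) = (LP (LK LD1_c14 LD2_c24 LD3_c29)) :=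
  Lre_g IH (LK LD1_c7 LD2_c38 LD3_c41) (LK LD1_c14 LD2_c24 LD3_c29) Lrfl Lrfl
theorem f757619 : Led Lsl_af (LP (LK LD1_c14 LD2_c24 LD3_c29)) = (LP (LK LD1_c22 LD2_c50 LD3_c48)) :=
  Lgr Lrot31 (Lpe (f64765 IH) (Lpe (f64763 IH) (Lpr_ft (f757613 IH) (Lpn (LP (LK LD1_c22 LD2_c50 LD3_c48))))))
theorem f757623 : Led Lsl_et (LP (LK LD1_c14 LD2_c24 LD3_c29)) = (LP (LK LD1_c7 LD2_c47 LD3_c9)) :=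
  Lgr Lrot123 (Lpr_af (f757619 IH) (Lpe (K62.f470643 IH) (Lpe (K57.f757365 IH) (Lpn (LP (LK LD1_c7 LD2_c47 LD3_c9))))))
theorem f472092 : Led Lsl_et (LP (LK LD1_c7 LD2_c36 LD3_c29)) = (LP (LK LD1_c14 LD2_c20 LD3_c36)) :=
  Lre_e IH (LK LD1_c7 LD2_c36 LD3_c29) (LK LD1_c14 LD2_c20 LD3_c36) Lrfl Lrfl
theorem f757625 : Led Lsl_bf (LP (LK LD1_c14 LD2_c24 LD3_c29)) = (LP (LK LD1_c14 LD2_c20 LD3_c36)) :=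
  Lgr Lrot96 (Lpr_et (f757623 IH) (Lpe (K41.f471263 IH) (Lpr_et (f472092 IH) (Lpn (LP (LK LD1_c14 LD2_c20 LD3_c36))))))
theorem f482913 : Led Lsl_ct (LP (LK LD1_c3 LD2_c48 LD3_c48)) = (LP (LK LD1_c3 LD2_c38 LD3_c58)) :=
  Lgr Lrot59 (Lpr_cf (K29.f482909 IH) (Lpn (LP (LK LD1_c3 LD2_c38 LD3_c58))))
theorem f466929 : Led Lsl_bt (LP (LK LD1_c3 LD2_c46 LD3_c18)) = (LP (LK LD1_c7 LD2_c33 LD3_c40)) :=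
  Lre_b IH (LK LD1_c3 LD2_c46 LD3_c18) (LK LD1_c7 LD2_c33 LD3_c40) Lrfl Lrfl
theorem f466931 : Led Lsl_ct (LP (LK LD1_c7 LD2_c33 LD3_c40)) = (LP (LK LD1_c7 LD2_c33 LD3_c40)) :=
  Lgr Lrot83 (Lpe (f466929 IH) (Lpe (K29.f85275 IH) (Lpr_bf (K29.f466925 IH) (Lpe (K29.f85271 IH) (Lpe (f466930 IH) (Lpn (LP (LK LD1_c7 LD2_c33 LD3_c40))))))))
theorem f757658 : Led Lsl_ct (LP (LK LD1_c14 LD2_c20 LD3_c36)) = (LP (LK LD1_c7 LD2_c36 LD3_c30)) :=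
  Lre_c IH (LK LD1_c14 LD2_c20 LD3_c36) (LK LD1_c7 LD2_c36 LD3_c30) Lrfl Lrfl
theorem f757662 : Led Lsl_gf (LP (LK LD1_c7 LD2_c33 LD3_c40)) = (LP (LK LD1_c7 LD2_c36 LD3_c30)) :=
  Lgr Lrot126 (Lpe (f466931 IH) (Lpr_bt (f466930 IH) (Lpe (K34.f491996 IH) (Lpr_ct (K33.f491990 IH) (Lpr_gt (K34.f481695 IH) (Lpe (f482913 IH) (Lpr_bt (K62.f64760 IH) (Lpr_gt (f64765 IH) (Lpr_bf (f757625 IH) (Lpr_ct (f757658 IH) (Lpn (LP (LK LD1_c7 LD2_c36 LD3_c30)))))))))))))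
theorem f806855 : Led Lsl_gf (LP (LK LD1_c14 LD2_c15 LD3_c24)) = (LP (LK LD1_c14 LD2_c15 LD3_c37)) :=
  Lgr Lrot134 (Lpe (f466817 IH) (Lpr_et (f787964 IH) (Lpe (f795348 IH) (Lpe (f478914 IH) (Lpr_dt (f806851 IH) (Lpe (f806849 IH) (Lpe (f665560 IH) (Lpr_et (f665554 IH) (Lpe (f757662 IH) (Lpr_dt (f466938 IH) (Lpn (LP (LK LD1_c14 LD2_c15 LD3_c37)))))))))))))
theorem f806856 : Led Lsl_gt (LP (LK LD1_c14 LD2_c15 LD3_c37)) = (LP (LK LD1_c14 LD2_c15 LD3_c24)) :=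
  Leop (Lpr_gf (f806855 IH) (Lpn (LP (LK LD1_c14 LD2_c15 LD3_c37))))
theorem seed_1715 : LEOK LG_g (LK LD1_c14 LD2_c15 LD3_c37) :=
  Leoe_g (LK LD1_c14 LD2_c15 LD3_c37) (f806856 IH)
def v22426 : LQ := Led Lsl_gf (LP (LK LD1_c7 LD2_c36 LD3_c26))
theorem f806865 : Led Lsl_gf (LP (LK LD1_c7 LD2_c36 LD3_c26)) = v22426 :=
  Lrfl
theorem f806854 : Led Lsl_df (LP (LK LD1_c13 LD2_c49 LD3_c49)) = v22425 :=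
  Lgr Lrot38 (Lpr_dt (f806851 IH) (Lpn v22425))
theorem f477477 : Led Lsl_et (LP (LK LD1_c7 LD2_c34 LD3_c46)) = (LP (LK LD1_c3 LD2_c46 LD3_c57)) :=
  Lre_e IH (LK LD1_c7 LD2_c34 LD3_c46) (LK LD1_c3 LD2_c46 LD3_c57) Lrfl Lrfl
theorem f478915 : Led Lsl_et (LP (LK LD1_c7 LD2_c18 LD3_c34)) = (LP (LK LD1_c13 LD2_c49 LD3_c49)) :=
  Lre_e IH (LK LD1_c7 LD2_c18 LD3_c34) (LK LD1_c13 LD2_c49 LD3_c49) Lrfl Lrfl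
theorem f493773 : Led Lsl_af (LP (LK LD1_c7 LD2_c34 LD3_c46)) = (LP (LK LD1_c13 LD2_c49 LD3_c49)) :=
  Lgr Lrot50 (Lpr_et (f477477 IH) (Lpr_at (K30.f493769 IH) (Lpr_et (f478915 IH) (Lpn (LP (LK LD1_c13 LD2_c49 LD3_c49))))))
theorem f477483 : Led Lsl_dt (LP (LK LD1_c7 LD2_c34 LD3_c46)) = (LP (LK LD1_c7 LD2_c45 LD3_c46)) :=
  Lre_d IH (LK LD1_c7 LD2_c34 LD3_c46) (LK LD1_c7 LD2_c45 LD3_c46) Lrfl Lrfl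
theorem f806864 : Led Lsl_at (LP (LK LD1_c7 LD2_c45 LD3_c46)) = v22425 :=
  Lgr Lrot51 (Lpe (f477483 IH) (Lpr_af (f493773 IH) (Lpr_df (f806854 IH) (Lpn v22425))))
theorem f806867 : Led Lsl_ff (LP (LK LD1_c7 LD2_c45 LD3_c46)) = v22426 :=
  Lgr Lrot52 (Lpr_at (f806864 IH) (Lpe (f806848 IH) (Lpr_gf (f806865 IH) (Lpn v22426))))
theorem f461291 : Led Lsl_bt (LP (LK LD1_c7 LD2_c45 LD3_c46)) = (LP (LK LD1_c3 LD2_c51 LD3_c60)) :=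
  Lre_b IH (LK LD1_c7 LD2_c45 LD3_c46) (LK LD1_c3 LD2_c51 LD3_c60) Lrfl Lrfl
theorem f487601 : Led Lsl_ff (LP (LK LD1_c7 LD2_c45 LD3_c47)) = (LP (LK LD1_c14 LD2_c21 LD3_c17)) :=
  Lgr Lrot19 (Lpr_dt (K29.f464013 IH) (Lpr_ft (K33.f487597 IH) (Lpe (K29.f477291 IH) (Lpn (LP (LK LD1_c14 LD2_c21 LD3_c17))))))
theorem f487756 : Led Lsl_ft (LP (LK LD1_c3 LD2_c51 LD3_c60)) = (LP (LK LD1_c7 LD2_c36 LD3_c50)) :=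
  Lgr Lrot4 (Lpe (K29.f461256 IH) (Lpr_ff (f487601 IH) (Lpe (K29.f468659 IH) (Lpn (LP (LK LD1_c7 LD2_c36 LD3_c50))))))
theorem f806868 : Led Lsl_bt (LP (LK LD1_c7 LD2_c36 LD3_c50)) = v22426 :=
  Lgr Lrot35 (Lpe (f487756 IH) (Lpe (f461291 IH) (Lpr_ff (f806867 IH) (Lpn v22426))))
theorem f460659 : Led Lsl_bt (LP (LK LD1_c14 LD2_c21 LD3_c58)) = (LP (LK LD1_c7 LD2_c37 LD3_c12)) :=
  Lre_b IH (LK LD1_c14 LD2_c21 LD3_c58) (LK LD1_c7 LD2_c37 LD3_c12) Lrfl Lrfl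
theorem f460660 : Led Lsl_ct (LP (LK LD1_c14 LD2_c21 LD3_c58)) = (LP (LK LD1_c23 LD2_c59 LD3_c59)) :=
  Lre_c IH (LK LD1_c14 LD2_c21 LD3_c58) (LK LD1_c23 LD2_c59 LD3_c59) Lrfl Lrfl
theorem f534693 : Led Lsl_bt (LP (LK LD1_c14 LD2_c20 LD3_c27)) = (LP (LK LD1_c7 LD2_c36 LD3_c26)) :=
  Lre_b IH (LK LD1_c14 LD2_c20 LD3_c27) (LK LD1_c7 LD2_c36 LD3_c26) Lrfl Lrfl
theorem f472109 : Led Lsl_ct (LP (LK LD1_c14 LD2_c20 LD3_c27)) = (LP (LK LD1_c23 LD2_c58 LD3_c19)) :=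
  Lre_c IH (LK LD1_c14 LD2_c20 LD3_c27) (LK LD1_c23 LD2_c58 LD3_c19) Lrfl Lrfl
theorem f806875 : Led Lsl_gf (LP (LK LD1_c23 LD2_c59 LD3_c59)) = (LP (LK LD1_c23 LD2_c58 LD3_c19)) :=
  Lgr Lrot126 (Lpe (f460660 IH) (Lpr_bt (f460659 IH) (Lpr_gt (K29.f474227 IH) (Lpr_ct (K29.f62779 IH) (Lpe (K29.f468652 IH) (Lpe (K29.f468659 IH) (Lpr_bt (f806868 IH) (Lpe (f806865 IH) (Lpe (f534693 IH) (Lpr_ct (f472109 IH) (Lpn (LP (LK LD1_c23 LD2_c58 LD3_c19)))))))))))))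
theorem f806876 : Led Lsl_gt (LP (LK LD1_c23 LD2_c58 LD3_c19)) = (LP (LK LD1_c23 LD2_c59 LD3_c59)) :=
  Leop (Lpr_gf (f806875 IH) (Lpn (LP (LK LD1_c23 LD2_c58 LD3_c19))))
theorem seed_1716 : LEOK LG_g (LK LD1_c23 LD2_c58 LD3_c19) :=
  Leoe_g (LK LD1_c23 LD2_c58 LD3_c19) (f806876 IH)
def v22451 : LQ := Led Lsl_ft (LP (LK LD1_c7 LD2_c36 LD3_c37))
theorem f806999 : Led Lsl_ft (LP (LK LD1_c7 LD2_c36 LD3_c37)) = v22451 :=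
  Lrfl
theorem f64073 : Led Lsl_gt (LP (LK LD1_c7 LD2_c36 LD3_c37)) = (LP (LK LD1_c14 LD2_c20 LD3_c48)) :=
  Lre_g IH (LK LD1_c7 LD2_c36 LD3_c37) (LK LD1_c14 LD2_c20 LD3_c48) Lrfl Lrfl
def v22450 : LQ := Led Lsl_at (LP (LK LD1_c7 LD2_c36 LD3_c37))
theorem f806984 : Led Lsl_at (LP (LK LD1_c7 LD2_c36 LD3_c37)) = v22450 :=
  Lrfl
theorem f806985 : Led Lsl_af (LP (LK LD1_c7 LD2_c36 LD3_c37)) = v22450 :=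
  Lgr Lrot0 (Lpr_at (f806984 IH) (Lpn v22450))
theorem f64071 : Led Lsl_dt (LP (LK LD1_c3 LD2_c47 LD3_c47)) = (LP (LK LD1_c7 LD2_c36 LD3_c37)) :=
  Lre_d IH (LK LD1_c3 LD2_c47 LD3_c47) (LK LD1_c7 LD2_c36 LD3_c37) Lrfl Lrfl
def v7440 : LQ := Led Lsl_at (LP (LK LD1_c3 LD2_c47 LD3_c47))
theorem f665567 : Led Lsl_at (LP (LK LD1_c3 LD2_c47 LD3_c47)) = v7440 :=
  Lrfl
theorem f665568 : Led Lsl_af (LP (LK LD1_c3 LD2_c47 LD3_c47)) = v7440 :=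
  Lgr Lrot0 (Lpr_at (f665567 IH) (Lpn v7440))
theorem f806986 : Led Lsl_df v7440 = v22450 :=
  Lgr Lrot18 (Lpe (f665568 IH) (Lpr_dt (f64071 IH) (Lpr_at (f806984 IH) (Lpn v22450))))
theorem f477435 : Led Lsl_gt (LP (LK LD1_c3 LD2_c47 LD3_c48)) = (LP (LK LD1_c1 LD2_c50 LD3_c56)) :=
  Lre_g IH (LK LD1_c3 LD2_c47 LD3_c48) (LK LD1_c1 LD2_c50 LD3_c56) Lrfl Lrfl
theorem f665570 : Led Lsl_ft (LP (LK LD1_c3 LD2_c47 LD3_c48)) = v7440 :=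
  Lgr Lrot2 (Lpr_gt (f477435 IH) (Lpr_gt (K3.f63736 IH) (Lpr_af (f665568 IH) (Lpn v7440))))
theorem f665577 : Led Lsl_ff (LP (LK LD1_c3 LD2_c47 LD3_c48)) = v7440 :=
  Lgr Lrot3 (Lpr_ft (f665570 IH) (Lpn v7440))
theorem f665571 : Led Lsl_dt (LP (LK LD1_c3 LD2_c47 LD3_c48)) = (LP (LK LD1_c7 LD2_c36 LD3_c41)) :=
  Lre_d IH (LK LD1_c3 LD2_c47 LD3_c48) (LK LD1_c7 LD2_c36 LD3_c41) Lrfl Lrfl
theorem f806988 : Led Lsl_ft (LP (LK LD1_c7 LD2_c36 LD3_c41)) = v22450 :=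
  Lgr Lrot54 (Lpe (f665571 IH) (Lpr_ff (f665577 IH) (Lpr_df (f806986 IH) (Lpn v22450))))
theorem f807000 : Led Lsl_af (LP (LK LD1_c7 LD2_c36 LD3_c41)) = v22451 :=
  Lgr Lrot45 (Lpr_ft (f806988 IH) (Lpe (f806985 IH) (Lpr_ft (f806999 IH) (Lpn v22451))))
theorem f807003 : Led Lsl_gt (LP (LK LD1_c14 LD2_c20 LD3_c48)) = (LP (LK LD1_c7 LD2_c36 LD3_c41)) :=
  Lgr Lrot46 (Lpe (f64073 IH) (Lpr_ft (f806999 IH) (Lpe (f807000 IH) (Lpn (LP (LK LD1_c7 LD2_c36 LD3_c41))))))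
theorem f807004 : Led Lsl_gt (LP (LK LD1_c14 LD2_c20 LD3_c48)) = (LP (LK LD1_c7 LD2_c36 LD3_c41)) :=
  Leop (Lpe (f807003 IH) (Lpn (LP (LK LD1_c14 LD2_c20 LD3_c48))))
theorem seed_1717 : LEOK LG_g (LK LD1_c14 LD2_c20 LD3_c48) :=
  Leoe_g (LK LD1_c14 LD2_c20 LD3_c48) (f807004 IH)
def v22397 : LQ := Led Lsl_et (LP (LK LD1_c7 LD2_c35 LD3_c46))
theorem f806689 : Led Lsl_et (LP (LK LD1_c7 LD2_c35 LD3_c46)) = v22397 :=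
  Lrfl
theorem f806691 : Led Lsl_ef (LP (LK LD1_c7 LD2_c35 LD3_c46)) = v22397 :=
  Lgr Lrot88 (Lpr_et (f806689 IH) (Lpn v22397))
theorem f806693 : Led Lsl_df (LP (LK LD1_c14 LD2_c20 LD3_c48)) = v22397 :=
  Lgr Lrot132 (Lpe (f64073 IH) (Lpe (f64071 IH) (Lpe (K3.f63736 IH) (Lpe (K3.f63735 IH) (Lpr_dt (K3.f15271 IH) (Lpe (K3.f17281 IH) (Lpe (K3.f63721 IH) (Lpr_et (K52.f63865 IH) (Lpe (f93576 IH) (Lpr_ef (f806691 IH) (Lpn v22397)))))))))))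
theorem f117421 : Led Lsl_ef (LP (LK LD1_c3 LD2_c50 LD3_c42)) = (LP (LK LD1_c7 LD2_c35 LD3_c32)) :=
  Lgr Lrot21 (Lpr_ft (f66246 IH) (Lpr_et (K3.f64920 IH) (Lpr_ft (K4.f117411 IH) (Lpr_et (K4.f65015 IH) (Lpr_ft (K4.f96705 IH) (Lpn (LP (LK LD1_c7 LD2_c35 LD3_c32))))))))
theorem f96698 : Led Lsl_dt (LP (LK LD1_c7 LD2_c35 LD3_c32)) = (LP (LK LD1_c14 LD2_c18 LD3_c52)) :=
  Lre_d IH (LK LD1_c7 LD2_c35 LD3_c32) (LK LD1_c14 LD2_c18 LD3_c52) Lrfl Lrfl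
theorem f87405 : Led Lsl_ft (LP (LK LD1_c3 LD2_c50 LD3_c17)) = (LP (LK LD1_c7 LD2_c41 LD3_c43)) :=
  Lre_f IH (LK LD1_c3 LD2_c50 LD3_c17) (LK LD1_c7 LD2_c41 LD3_c43) Lrfl Lrfl
theorem f64270 : Led Lsl_gt (LP (LK LD1_c3 LD2_c50 LD3_c17)) = (LP (LK LD1_c7 LD2_c41 LD3_c40)) :=
  Lre_g IH (LK LD1_c3 LD2_c50 LD3_c17) (LK LD1_c7 LD2_c41 LD3_c40) Lrfl Lrfl
theorem f117387 : Led Lsl_gt (LP (LK LD1_c7 LD2_c41 LD3_c40)) = (LP (LK LD1_c14 LD2_c18 LD3_c52)) :=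
  Lgr Lrot46 (Lpe (f64270 IH) (Lpr_ft (f87405 IH) (Lpr_at (K4.f117378 IH) (Lpn (LP (LK LD1_c14 LD2_c18 LD3_c52))))))
theorem f665579 : Led Lsl_et (LP (LK LD1_c3 LD2_c47 LD3_c48)) = (LP (LK LD1_c7 LD2_c36 LD3_c42)) :=
  Lre_e IH (LK LD1_c3 LD2_c47 LD3_c48) (LK LD1_c7 LD2_c36 LD3_c42) Lrfl Lrfl
theorem f65047 : Led Lsl_gt (LP (LK LD1_c7 LD2_c36 LD3_c42)) = (LP (LK LD1_c14 LD2_c20 LD3_c61)) :=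
  Lre_g IH (LK LD1_c7 LD2_c36 LD3_c42) (LK LD1_c14 LD2_c20 LD3_c61) Lrfl Lrfl
theorem f807005 : Led Lsl_df (LP (LK LD1_c7 LD2_c41 LD3_c40)) = (LP (LK LD1_c14 LD2_c20 LD3_c61)) :=
  Lgr Lrot135 (Lpr_gt (f117387 IH) (Lpe (f96698 IH) (Lpe (f117421 IH) (Lpr_gt (f428807 IH) (Lpr_ef (f806691 IH) (Lpe (f806693 IH) (Lpr_gt (f807003 IH) (Lpe (f665571 IH) (Lpr_et (f665579 IH) (Lpr_gt (f65047 IH) (Lpn (LP (LK LD1_c14 LD2_c20 LD3_c61)))))))))))))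
theorem f807006 : Led Lsl_dt (LP (LK LD1_c14 LD2_c20 LD3_c61)) = (LP (LK LD1_c7 LD2_c41 LD3_c40)) :=
  Leop (Lpr_df (f807005 IH) (Lpn (LP (LK LD1_c14 LD2_c20 LD3_c61))))
theorem seed_1718 : LEOK LG_d (LK LD1_c14 LD2_c20 LD3_c61) :=
  Leoe_d (LK LD1_c14 LD2_c20 LD3_c61) (f807006 IH)
def v22460 : LQ := Led Lsl_at (LP (LK LD1_c7 LD2_c36 LD3_c43))
theorem f807038 : Led Lsl_at (LP (LK LD1_c7 LD2_c36 LD3_c43)) = v22460 :=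
  Lrfl
theorem f807039 : Led Lsl_af (LP (LK LD1_c7 LD2_c36 LD3_c43)) = v22460 :=
  Lgr Lrot0 (Lpr_at (f807038 IH) (Lpn v22460))
theorem f807040 : Led Lsl_ft (LP (LK LD1_c7 LD2_c36 LD3_c44)) = v22460 :=
  Lgr Lrot2 (Lpr_gt (K3.f63782 IH) (Lpr_gt (K61.f65023 IH) (Lpr_af (f807039 IH) (Lpn v22460))))
theorem f807042 : Led Lsl_ff (LP (LK LD1_c7 LD2_c36 LD3_c44)) = v22460 :=
  Lgr Lrot3 (Lpr_ft (f807040 IH) (Lpn v22460))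
def v20673 : LQ := Led Lsl_ft (LP (LK LD1_c7 LD2_c2 LD3_c12))
theorem f789091 : Led Lsl_ft (LP (LK LD1_c7 LD2_c2 LD3_c12)) = v20673 :=
  Lrfl
theorem f807043 : Led Lsl_dt v20673 = v22460 :=
  Lgr Lrot60 (Lpe (f789091 IH) (Lpr_df (K61.f63773 IH) (Lpr_ff (f807042 IH) (Lpn v22460))))
theorem f493302 : Led Lsl_dt (LP (LK LD1_c7 LD2_c36 LD3_c43)) = (LP (LK LD1_c14 LD2_c21 LD3_c3)) :=
  Lre_d IH (LK LD1_c7 LD2_c36 LD3_c43) (LK LD1_c14 LD2_c21 LD3_c3) Lrfl Lrfl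
theorem f807044 : Led Lsl_af v20673 = (LP (LK LD1_c14 LD2_c21 LD3_c3)) :=
  Lgr Lrot117 (Lpr_dt (f807043 IH) (Lpe (f807039 IH) (Lpr_dt (f493302 IH) (Lpn (LP (LK LD1_c14 LD2_c21 LD3_c3))))))
theorem f789092 : Led Lsl_ff (LP (LK LD1_c7 LD2_c2 LD3_c12)) = v20673 :=
  Lgr Lrot3 (Lpr_ft (f789091 IH) (Lpn v20673))
def v20672 : LQ := Led Lsl_at (LP (LK LD1_c7 LD2_c2 LD3_c12))
theorem f789087 : Led Lsl_at (LP (LK LD1_c7 LD2_c2 LD3_c12)) = v20672 :=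
  Lrfl
theorem f807046 : Led Lsl_ft v20672 = (LP (LK LD1_c14 LD2_c21 LD3_c3)) :=
  Lgr Lrot101 (Lpe (f789087 IH) (Lpr_ff (f789092 IH) (Lpr_af (f807044 IH) (Lpn (LP (LK LD1_c14 LD2_c21 LD3_c3))))))
theorem f63775 : Led Lsl_et (LP (LK LD1_c3 LD2_c30 LD3_c14)) = (LP (LK LD1_c7 LD2_c2 LD3_c12)) :=
  Lre_e IH (LK LD1_c3 LD2_c30 LD3_c14) (LK LD1_c7 LD2_c2 LD3_c12) Lrfl Lrfl
theorem f789089 : Led Lsl_ef K61.v6800 = v20672 :=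
  Lgr Lrot20 (Lpe (K61.f658544 IH) (Lpr_et (f63775 IH) (Lpr_at (f789087 IH) (Lpn v20672))))
theorem f789090 : Led Lsl_et K61.v6800 = v20672 :=
  Lgr Lrot87 (Lpr_ef (f789089 IH) (Lpn v20672))
theorem f63242 : Led Lsl_et (LP (LK LD1_c7 LD2_c2 LD3_c16)) = (LP (LK LD1_c3 LD2_c30 LD3_c15)) :=
  Lre_e IH (LK LD1_c7 LD2_c2 LD3_c16) (LK LD1_c3 LD2_c30 LD3_c15) Lrfl Lrfl
theorem f658547 : Led Lsl_ft (LP (LK LD1_c13 LD2_c20 LD3_c51)) = (LP (LK LD1_c7 LD2_c2 LD3_c16)) :=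
  Lre_f IH (LK LD1_c13 LD2_c20 LD3_c51) (LK LD1_c7 LD2_c2 LD3_c16) Lrfl Lrfl
theorem f807047 : Led Lsl_ef (LP (LK LD1_c13 LD2_c20 LD3_c51)) = (LP (LK LD1_c14 LD2_c21 LD3_c3)) :=
  Lgr Lrot21 (Lpr_ft (f658547 IH) (Lpr_et (f63242 IH) (Lpr_ft (K61.f658546 IH) (Lpr_et (f789090 IH) (Lpr_ft (f807046 IH) (Lpn (LP (LK LD1_c14 LD2_c21 LD3_c3))))))))
theorem f807048 : Led Lsl_et (LP (LK LD1_c14 LD2_c21 LD3_c3)) = (LP (LK LD1_c13 LD2_c20 LD3_c51)) :=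
  Leop (Lpr_ef (f807047 IH) (Lpn (LP (LK LD1_c14 LD2_c21 LD3_c3))))
theorem seed_1719 : LEOK LG_e (LK LD1_c14 LD2_c21 LD3_c3) :=
  Leoe_e (LK LD1_c14 LD2_c21 LD3_c3) (f807048 IH)
theorem f807049 : Led Lsl_ff v20672 = (LP (LK LD1_c14 LD2_c21 LD3_c3)) :=
  Lgr Lrot3 (Lpr_ft (f807046 IH) (Lpn (LP (LK LD1_c14 LD2_c21 LD3_c3))))
theorem f789088 : Led Lsl_af (LP (LK LD1_c7 LD2_c2 LD3_c12)) = v20672 :=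
  Lgr Lrot0 (Lpr_at (f789087 IH) (Lpn v20672))
theorem f63781 : Led Lsl_gt (LP (LK LD1_c13 LD2_c20 LD3_c44)) = (LP (LK LD1_c7 LD2_c2 LD3_c12)) :=
  Lre_g IH (LK LD1_c13 LD2_c20 LD3_c44) (LK LD1_c7 LD2_c2 LD3_c12) Lrfl Lrfl
theorem f807052 : Led Lsl_gf (LP (LK LD1_c13 LD2_c20 LD3_c44)) = (LP (LK LD1_c14 LD2_c21 LD3_c3)) :=
  Lgr Lrot47 (Lpr_gt (f63781 IH) (Lpr_af (f789088 IH) (Lpr_ff (f807049 IH) (Lpn (LP (LK LD1_c14 LD2_c21 LD3_c3))))))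
theorem f807053 : Led Lsl_gt (LP (LK LD1_c14 LD2_c21 LD3_c3)) = (LP (LK LD1_c13 LD2_c20 LD3_c44)) :=
  Leop (Lpr_gf (f807052 IH) (Lpn (LP (LK LD1_c14 LD2_c21 LD3_c3))))
theorem seed_1720 : LEOK LG_g (LK LD1_c14 LD2_c21 LD3_c3) :=
  Leoe_g (LK LD1_c14 LD2_c21 LD3_c3) (f807053 IH)
def v20671 : LQ := Led Lsl_gt (LP (LK LD1_c7 LD2_c2 LD3_c12))
theorem f789086 : Led Lsl_gt (LP (LK LD1_c7 LD2_c2 LD3_c12)) = v20671 :=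
  Lrfl
theorem f807045 : Led Lsl_at v20673 = (LP (LK LD1_c14 LD2_c21 LD3_c3)) :=
  Lgr Lrot100 (Lpr_af (f807044 IH) (Lpn (LP (LK LD1_c14 LD2_c21 LD3_c3))))
theorem f662019 : Led Lsl_et (LP (LK LD1_c7 LD2_c35 LD3_c49)) = (LP (LK LD1_c14 LD2_c19 LD3_c19)) :=
  Lre_e IH (LK LD1_c7 LD2_c35 LD3_c49) (LK LD1_c14 LD2_c19 LD3_c19) Lrfl Lrfl
theorem f662020 : Led Lsl_af (LP (LK LD1_c7 LD2_c42 LD3_c32)) = (LP (LK LD1_c14 LD2_c19 LD3_c19)) :=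
  Lgr Lrot50 (Lpr_et (K48.f487337 IH) (Lpr_at (K62.f662014 IH) (Lpr_et (f662019 IH) (Lpn (LP (LK LD1_c14 LD2_c19 LD3_c19))))))
theorem f487334 : Led Lsl_ft (LP (LK LD1_c7 LD2_c42 LD3_c32)) = (LP (LK LD1_c14 LD2_c31 LD3_c55)) :=
  Lre_f IH (LK LD1_c7 LD2_c42 LD3_c32) (LK LD1_c14 LD2_c31 LD3_c55) Lrfl Lrfl
theorem f662028 : Led Lsl_ft (LP (LK LD1_c23 LD2_c57 LD3_c18)) = (LP (LK LD1_c14 LD2_c19 LD3_c19)) :=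
  Lre_f IH (LK LD1_c23 LD2_c57 LD3_c18) (LK LD1_c14 LD2_c19 LD3_c19) Lrfl Lrfl
theorem f662080 : Led Lsl_at (LP (LK LD1_c14 LD2_c31 LD3_c55)) = (LP (LK LD1_c23 LD2_c57 LD3_c18)) :=
  Lgr Lrot66 (Lpe (f487334 IH) (Lpr_af (f662020 IH) (Lpe (f662028 IH) (Lpn (LP (LK LD1_c23 LD2_c57 LD3_c18))))))
theorem f487333 : Led Lsl_dt (LP (LK LD1_c24 LD2_c13 LD3_c54)) = (LP (LK LD1_c14 LD2_c31 LD3_c55)) :=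
  Lre_d IH (LK LD1_c24 LD2_c13 LD3_c54) (LK LD1_c14 LD2_c31 LD3_c55) Lrfl Lrfl
theorem f662031 : Led Lsl_ft (LP (LK LD1_c3 LD2_c50 LD3_c44)) = (LP (LK LD1_c7 LD2_c35 LD3_c49)) :=
  Lgr Lrot48 (Lpr_ff (K62.f662022 IH) (Lpn (LP (LK LD1_c7 LD2_c35 LD3_c49))))
theorem f459825 : Led Lsl_et (LP (LK LD1_c7 LD2_c42 LD3_c34)) = (LP (LK LD1_c3 LD2_c50 LD3_c44)) :=
  Lre_e IH (LK LD1_c7 LD2_c42 LD3_c34) (LK LD1_c3 LD2_c50 LD3_c44) Lrfl Lrfl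
theorem f478411 : Led Lsl_ft (LP (LK LD1_c14 LD2_c31 LD3_c60)) = (LP (LK LD1_c7 LD2_c42 LD3_c34)) :=
  Lre_f IH (LK LD1_c14 LD2_c31 LD3_c60) (LK LD1_c7 LD2_c42 LD3_c34) Lrfl Lrfl
theorem f662037 : Led Lsl_ft (LP (LK LD1_c14 LD2_c19 LD3_c19)) = (LP (LK LD1_c23 LD2_c57 LD3_c18)) :=
  Lre_f IH (LK LD1_c14 LD2_c19 LD3_c19) (LK LD1_c23 LD2_c57 LD3_c18) Lrfl Lrfl
theorem f662038 : Led Lsl_ef (LP (LK LD1_c14 LD2_c31 LD3_c60)) = (LP (LK LD1_c23 LD2_c57 LD3_c18)) :=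
  Lgr Lrot21 (Lpr_ft (f478411 IH) (Lpr_et (f459825 IH) (Lpr_ft (f662031 IH) (Lpr_et (f662019 IH) (Lpr_ft (f662037 IH) (Lpn (LP (LK LD1_c23 LD2_c57 LD3_c18))))))))
theorem f466894 : Led Lsl_ft (LP (LK LD1_c7 LD2_c33 LD3_c38)) = (LP (LK LD1_c14 LD2_c15 LD3_c35)) :=
  Lre_f IH (LK LD1_c7 LD2_c33 LD3_c38) (LK LD1_c14 LD2_c15 LD3_c35) Lrfl Lrfl
theorem f478412 : Led Lsl_df (LP (LK LD1_c14 LD2_c31 LD3_c60)) = (LP (LK LD1_c14 LD2_c15 LD3_c35)) :=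
  Lgr Lrot78 (Lpr_ft (f478411 IH) (Lpr_dt (K47.f478327 IH) (Lpr_ft (f466894 IH) (Lpn (LP (LK LD1_c14 LD2_c15 LD3_c35))))))
theorem f478418 : Led Lsl_dt (LP (LK LD1_c14 LD2_c31 LD3_c60)) = (LP (LK LD1_c14 LD2_c15 LD3_c35)) :=
  Lgr Lrot42 (Lpr_df (f478412 IH) (Lpn (LP (LK LD1_c14 LD2_c15 LD3_c35))))
theorem f456350 : Led Lsl_et (LP (LK LD1_c7 LD2_c24 LD3_c54)) = (LP (LK LD1_c14 LD2_c1 LD3_c31)) :=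
  Lre_e IH (LK LD1_c7 LD2_c24 LD3_c54) (LK LD1_c14 LD2_c1 LD3_c31) Lrfl Lrfl
theorem f456362 : Led Lsl_gt (LP (LK LD1_c14 LD2_c1 LD3_c31)) = (LP (LK LD1_c23 LD2_c34 LD3_c22)) :=
  Lre_g IH (LK LD1_c14 LD2_c1 LD3_c31) (LK LD1_c23 LD2_c34 LD3_c22) Lrfl Lrfl
theorem f64094 : Led Lsl_et (LP (LK LD1_c14 LD2_c10 LD3_c40)) = (LP (LK LD1_c7 LD2_c30 LD3_c26)) :=
  Lre_e IH (LK LD1_c14 LD2_c10 LD3_c40) (LK LD1_c7 LD2_c30 LD3_c26) Lrfl Lrfl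
theorem f64095 : Led Lsl_dt (LP (LK LD1_c14 LD2_c10 LD3_c40)) = (LP (LK LD1_c7 LD2_c37 LD3_c5)) :=
  Lre_d IH (LK LD1_c14 LD2_c10 LD3_c40) (LK LD1_c7 LD2_c37 LD3_c5) Lrfl Lrfl
theorem f64096 : Led Lsl_gt (LP (LK LD1_c14 LD2_c21 LD3_c45)) = (LP (LK LD1_c7 LD2_c37 LD3_c5)) :=
  Lre_g IH (LK LD1_c14 LD2_c21 LD3_c45) (LK LD1_c7 LD2_c37 LD3_c5) Lrfl Lrfl
theorem f64097 : Led Lsl_dt (LP (LK LD1_c23 LD2_c59 LD3_c43)) = (LP (LK LD1_c14 LD2_c21 LD3_c45)) :=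
  Lre_d IH (LK LD1_c23 LD2_c59 LD3_c43) (LK LD1_c14 LD2_c21 LD3_c45) Lrfl Lrfl
theorem f492233 : Led Lsl_ef (LP (LK LD1_c23 LD2_c34 LD3_c22)) = (LP (LK LD1_c23 LD2_c59 LD3_c43)) :=
  Lgr Lrot17 (Lpe (f456362 IH) (Lpe (f456350 IH) (Lpr_dt (K48.f456282 IH) (Lpr_gf (K46.f492231 IH) (Lpr_df (K48.f63699 IH) (Lpe (K3.f16038 IH) (Lpe (f64094 IH) (Lpr_dt (f64095 IH) (Lpe (f64096 IH) (Lpe (f64097 IH) (Lpn (LP (LK LD1_c23 LD2_c59 LD3_c43)))))))))))))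
theorem f487204 : Led Lsl_gf (LP (LK LD1_c24 LD2_c24 LD3_c46)) = (LP (LK LD1_c23 LD2_c34 LD3_c22)) :=
  Lgr Lrot76 (Lpr_af (K48.f487200 IH) (Lpe (K48.f456361 IH) (Lpr_gt (f456362 IH) (Lpn (LP (LK LD1_c23 LD2_c34 LD3_c22))))))
theorem f474611 : Led Lsl_af (LP (LK LD1_c7 LD2_c24 LD3_c53)) = (LP (LK LD1_c13 LD2_c18 LD3_c60)) :=
  Lgr Lrot0 (Lpr_at (K29.f474604 IH) (Lpn (LP (LK LD1_c13 LD2_c18 LD3_c60))))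
theorem f456331 : Led Lsl_gt (LP (LK LD1_c14 LD2_c1 LD3_c30)) = (LP (LK LD1_c7 LD2_c24 LD3_c53)) :=
  Lre_g IH (LK LD1_c14 LD2_c1 LD3_c30) (LK LD1_c7 LD2_c24 LD3_c53) Lrfl Lrfl
theorem f474603 : Led Lsl_ft (LP (LK LD1_c22 LD2_c35 LD3_c20)) = (LP (LK LD1_c13 LD2_c18 LD3_c60)) :=
  Lre_f IH (LK LD1_c22 LD2_c35 LD3_c20) (LK LD1_c13 LD2_c18 LD3_c60) Lrfl Lrfl
theorem f474724 : Led Lsl_gf (LP (LK LD1_c14 LD2_c1 LD3_c30)) = (LP (LK LD1_c22 LD2_c35 LD3_c20)) :=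
  Lgr Lrot47 (Lpr_gt (f456331 IH) (Lpr_af (f474611 IH) (Lpe (f474603 IH) (Lpn (LP (LK LD1_c22 LD2_c35 LD3_c20))))))
theorem f492238 : Led Lsl_gt (LP (LK LD1_c7 LD2_c45 LD3_c17)) = (LP (LK LD1_c14 LD2_c21 LD3_c45)) :=
  Lre_g IH (LK LD1_c7 LD2_c45 LD3_c17) (LK LD1_c14 LD2_c21 LD3_c45) Lrfl Lrfl
theorem f64020 : Led Lsl_dt (LP (LK LD1_c14 LD2_c37 LD3_c49)) = (LP (LK LD1_c7 LD2_c45 LD3_c17)) :=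
  Lre_d IH (LK LD1_c14 LD2_c37 LD3_c49) (LK LD1_c7 LD2_c45 LD3_c17) Lrfl Lrfl
theorem f64019 : Led Lsl_et (LP (LK LD1_c14 LD2_c37 LD3_c49)) = (LP (LK LD1_c7 LD2_c45 LD3_c18)) :=
  Lre_e IH (LK LD1_c14 LD2_c37 LD3_c49) (LK LD1_c7 LD2_c45 LD3_c18) Lrfl Lrfl
theorem f492239 : Led Lsl_gt (LP (LK LD1_c12 LD2_c45 LD3_c28)) = (LP (LK LD1_c7 LD2_c45 LD3_c18)) :=
  Lre_g IH (LK LD1_c12 LD2_c45 LD3_c28) (LK LD1_c7 LD2_c45 LD3_c18) Lrfl Lrfl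
theorem f492240 : Led Lsl_et (LP (LK LD1_c21 LD2_c52 LD3_c41)) = (LP (LK LD1_c12 LD2_c45 LD3_c28)) :=
  Lre_e IH (LK LD1_c21 LD2_c52 LD3_c41) (LK LD1_c12 LD2_c45 LD3_c28) Lrfl Lrfl
theorem f492241 : Led Lsl_df (LP (LK LD1_c14 LD2_c1 LD3_c30)) = (LP (LK LD1_c21 LD2_c52 LD3_c41)) :=
  Lgr Lrot132 (Lpr_gf (f474724 IH) (Lpe (K48.f487198 IH) (Lpr_gf (f487204 IH) (Lpr_ef (f492233 IH) (Lpr_dt (f64097 IH) (Lpe (f492238 IH) (Lpe (f64020 IH) (Lpr_et (f64019 IH) (Lpe (f492239 IH) (Lpe (f492240 IH) (Lpn (LP (LK LD1_c21 LD2_c52 LD3_c41)))))))))))))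
theorem f66228 : Led Lsl_dt (LP (LK LD1_c7 LD2_c45 LD3_c18)) = (LP (LK LD1_c3 LD2_c51 LD3_c47)) :=
  Lre_d IH (LK LD1_c7 LD2_c45 LD3_c18) (LK LD1_c3 LD2_c51 LD3_c47) Lrfl Lrfl
theorem f66216 : Led Lsl_gt (LP (LK LD1_c3 LD2_c51 LD3_c47)) = (LP (LK LD1_c6 LD2_c39 LD3_c48)) :=
  Lre_g IH (LK LD1_c3 LD2_c51 LD3_c47) (LK LD1_c6 LD2_c39 LD3_c48) Lrfl Lrfl
theorem f66210 : Led Lsl_dt (LP (LK LD1_c12 LD2_c45 LD3_c26)) = (LP (LK LD1_c6 LD2_c39 LD3_c48)) :=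
  Lre_d IH (LK LD1_c12 LD2_c45 LD3_c26) (LK LD1_c6 LD2_c39 LD3_c48) Lrfl Lrfl
theorem f492253 : Led Lsl_et (LP (LK LD1_c12 LD2_c45 LD3_c26)) = (LP (LK LD1_c21 LD2_c52 LD3_c37)) :=
  Lre_e IH (LK LD1_c12 LD2_c45 LD3_c26) (LK LD1_c21 LD2_c52 LD3_c37) Lrfl Lrfl
theorem f492254 : Led Lsl_gt (LP (LK LD1_c21 LD2_c52 LD3_c37)) = (LP (LK LD1_c30 LD2_c11 LD3_c47)) :=
  Lre_g IH (LK LD1_c21 LD2_c52 LD3_c37) (LK LD1_c30 LD2_c11 LD3_c47) Lrfl Lrfl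
theorem f492255 : Led Lsl_et (LP (LK LD1_c24 LD2_c24 LD3_c46)) = (LP (LK LD1_c30 LD2_c11 LD3_c47)) :=
  Lgr Lrot122 (Lpr_dt (K48.f487198 IH) (Lpe (f474724 IH) (Lpr_df (f492241 IH) (Lpr_et (f492240 IH) (Lpr_gt (f492239 IH) (Lpr_dt (f66228 IH) (Lpr_gt (f66216 IH) (Lpe (f66210 IH) (Lpr_et (f492253 IH) (Lpr_gt (f492254 IH) (Lpn (LP (LK LD1_c30 LD2_c11 LD3_c47)))))))))))))
theorem f662058 : Led Lsl_dt (LP (LK LD1_c30 LD2_c11 LD3_c47)) = (LP (LK LD1_c23 LD2_c57 LD3_c18)) :=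
  Lgr Lrot77 (Lpe (f492255 IH) (Lpr_df (K48.f487191 IH) (Lpe (K29.f474598 IH) (Lpe (f478418 IH) (Lpr_ef (f662038 IH) (Lpn (LP (LK LD1_c23 LD2_c57 LD3_c18))))))))
theorem f662060 : Led Lsl_df (LP (LK LD1_c30 LD2_c11 LD3_c47)) = (LP (LK LD1_c23 LD2_c57 LD3_c18)) :=
  Lgr Lrot38 (Lpr_dt (f662058 IH) (Lpn (LP (LK LD1_c23 LD2_c57 LD3_c18))))
theorem f662087 : Led Lsl_af (LP (LK LD1_c24 LD2_c13 LD3_c54)) = (LP (LK LD1_c30 LD2_c11 LD3_c47)) :=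
  Lgr Lrot117 (Lpr_dt (f487333 IH) (Lpr_at (f662080 IH) (Lpe (f662060 IH) (Lpn (LP (LK LD1_c30 LD2_c11 LD3_c47))))))
theorem f662093 : Led Lsl_at (LP (LK LD1_c24 LD2_c13 LD3_c54)) = (LP (LK LD1_c30 LD2_c11 LD3_c47)) :=
  Lgr Lrot100 (Lpr_af (f662087 IH) (Lpn (LP (LK LD1_c30 LD2_c11 LD3_c47))))
theorem f628405 : Led Lsl_ft (LP (LK LD1_c14 LD2_c31 LD3_c54)) = (LP (LK LD1_c24 LD2_c13 LD3_c54)) :=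
  Lre_f IH (LK LD1_c14 LD2_c31 LD3_c54) (LK LD1_c24 LD2_c13 LD3_c54) Lrfl Lrfl
theorem f662122 : Led Lsl_gt (LP (LK LD1_c14 LD2_c31 LD3_c54)) = (LP (LK LD1_c21 LD2_c52 LD3_c37)) :=
  Lgr Lrot5 (Lpr_ft (f628405 IH) (Lpr_at (f662093 IH) (Lpe (f492254 IH) (Lpn (LP (LK LD1_c21 LD2_c52 LD3_c37))))))
theorem f662062 : Led Lsl_dt (LP (LK LD1_c24 LD2_c13 LD3_c31)) = (LP (LK LD1_c21 LD2_c52 LD3_c37)) :=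
  Lre_d IH (LK LD1_c24 LD2_c13 LD3_c31) (LK LD1_c21 LD2_c52 LD3_c37) Lrfl Lrfl
theorem f662064 : Led Lsl_et (LP (LK LD1_c24 LD2_c13 LD3_c31)) = (LP (LK LD1_c14 LD2_c31 LD3_c31)) :=
  Lre_e IH (LK LD1_c24 LD2_c13 LD3_c31) (LK LD1_c14 LD2_c31 LD3_c31) Lrfl Lrfl
theorem f662125 : Led Lsl_gf (LP (LK LD1_c7 LD2_c42 LD3_c26)) = (LP (LK LD1_c14 LD2_c31 LD3_c31)) :=
  Lgr Lrot138 (Lpr_dt (K48.f66254 IH) (Lpr_gt (K48.f66195 IH) (Lpe (K48.f66185 IH) (Lpr_et (K48.f441331 IH) (Lpr_gt (K48.f64958 IH) (Lpe (K48.f487337 IH) (Lpr_dt (K48.f487336 IH) (Lpr_gt (f662122 IH) (Lpe (f662062 IH) (Lpr_et (f662064 IH) (Lpn (LP (LK LD1_c14 LD2_c31 LD3_c31)))))))))))))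
theorem f66255 : Led Lsl_dt (LP (LK LD1_c3 LD2_c50 LD3_c40)) = (LP (LK LD1_c7 LD2_c42 LD3_c26)) :=
  Lre_d IH (LK LD1_c3 LD2_c50 LD3_c40) (LK LD1_c7 LD2_c42 LD3_c26) Lrfl Lrfl
theorem f662128 : Led Lsl_et (LP (LK LD1_c3 LD2_c50 LD3_c40)) = (LP (LK LD1_c7 LD2_c42 LD3_c27)) :=
  Lre_e IH (LK LD1_c3 LD2_c50 LD3_c40) (LK LD1_c7 LD2_c42 LD3_c27) Lrfl Lrfl
theorem f66231 : Led Lsl_dt (LP (LK LD1_c12 LD2_c45 LD3_c27)) = (LP (LK LD1_c14 LD2_c31 LD3_c31)) :=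
  Lre_d IH (LK LD1_c12 LD2_c45 LD3_c27) (LK LD1_c14 LD2_c31 LD3_c31) Lrfl Lrfl
theorem f66225 : Led Lsl_et (LP (LK LD1_c12 LD2_c45 LD3_c27)) = (LP (LK LD1_c6 LD2_c39 LD3_c48)) :=
  Lre_e IH (LK LD1_c12 LD2_c45 LD3_c27) (LK LD1_c6 LD2_c39 LD3_c48) Lrfl Lrfl
theorem f63793 : Led Lsl_et (LP (LK LD1_c1 LD2_c52 LD3_c37)) = (LP (LK LD1_c3 LD2_c51 LD3_c47)) :=
  Lre_e IH (LK LD1_c1 LD2_c52 LD3_c37) (LK LD1_c3 LD2_c51 LD3_c47) Lrfl Lrfl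
theorem f662129 : Led Lsl_gt (LP (LK LD1_c7 LD2_c36 LD3_c43)) = (LP (LK LD1_c3 LD2_c51 LD3_c46)) :=
  Lre_g IH (LK LD1_c7 LD2_c36 LD3_c43) (LK LD1_c3 LD2_c51 LD3_c46) Lrfl Lrfl
theorem f65024 : Led Lsl_dt (LP (LK LD1_c14 LD2_c21 LD3_c3)) = (LP (LK LD1_c7 LD2_c36 LD3_c43)) :=
  Lre_d IH (LK LD1_c14 LD2_c21 LD3_c3) (LK LD1_c7 LD2_c36 LD3_c43) Lrfl Lrfl
theorem f662130 : Led Lsl_gt (LP (LK LD1_c7 LD2_c42 LD3_c27)) = (LP (LK LD1_c14 LD2_c21 LD3_c3)) :=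
  Lgr Lrot137 (Lpe (f662128 IH) (Lpr_dt (f66255 IH) (Lpr_gf (f662125 IH) (Lpe (f66231 IH) (Lpr_et (f66225 IH) (Lpe (f66216 IH) (Lpe (f63793 IH) (Lpr_dt (K3.f63761 IH) (Lpe (f662129 IH) (Lpe (f65024 IH) (Lpn (LP (LK LD1_c14 LD2_c21 LD3_c3)))))))))))))
theorem f807065 : v20671 = (LP (LK LD1_c7 LD2_c42 LD3_c27)) :=
  (Llr Lrot5 (Lpe (f789086 IH) (Lpr_ft (f789091 IH) (Lpr_at (f807045 IH) (Lpe (f662130 IH) (Lpn (LP (LK LD1_c7 LD2_c42 LD3_c27)))))))).symm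
theorem f807066 : Led Lsl_gt (LP (LK LD1_c7 LD2_c2 LD3_c12)) = (LP (LK LD1_c7 LD2_c42 LD3_c27)) :=
  Leop (Lpq (f807065 IH) (Lpe (f789086 IH) (Lpn (LP (LK LD1_c7 LD2_c2 LD3_c12)))))
theorem seed_1721 : LEOK LG_g (LK LD1_c7 LD2_c2 LD3_c12) :=
  Leoe_g (LK LD1_c7 LD2_c2 LD3_c12) (f807066 IH)
def v22467 : LQ := Led Lsl_ft (LP (LK LD1_c7 LD2_c36 LD3_c52))
theorem f807121 : Led Lsl_ft (LP (LK LD1_c7 LD2_c36 LD3_c52)) = v22467 :=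
  Lrfl
theorem f63937 : Led Lsl_gt (LP (LK LD1_c7 LD2_c36 LD3_c52)) = (LP (LK LD1_c14 LD2_c21 LD3_c20)) :=
  Lre_g IH (LK LD1_c7 LD2_c36 LD3_c52) (LK LD1_c14 LD2_c21 LD3_c20) Lrfl Lrfl
theorem f491839 : Led Lsl_at (LP (LK LD1_c3 LD2_c30 LD3_c27)) = (LP (LK LD1_c7 LD2_c0 LD3_c2)) :=
  Lgr Lrot107 (Lpe (K29.f468561 IH) (Lpr_af (K33.f491835 IH) (Lpe (K29.f458437 IH) (Lpn (LP (LK LD1_c7 LD2_c0 LD3_c2))))))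
theorem f491847 : Led Lsl_ff (LP (LK LD1_c3 LD2_c30 LD3_c28)) = (LP (LK LD1_c7 LD2_c0 LD3_c2)) :=
  Lgr Lrot23 (Lpr_ct (K29.f64978 IH) (Lpr_ft (K33.f491843 IH) (Lpr_ct (K29.f463923 IH) (Lpn (LP (LK LD1_c7 LD2_c0 LD3_c2))))))
theorem f491877 : Led Lsl_at (LP (LK LD1_c3 LD2_c30 LD3_c28)) = (LP (LK LD1_c3 LD2_c52 LD3_c2)) :=
  Lgr Lrot66 (Lpr_ff (f491847 IH) (Lpe (f491839 IH) (Lpr_ff (K33.f491875 IH) (Lpn (LP (LK LD1_c3 LD2_c52 LD3_c2))))))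
theorem f443432 : Led Lsl_et (LP (LK LD1_c7 LD2_c2 LD3_c54)) = (LP (LK LD1_c3 LD2_c30 LD3_c28)) :=
  Lre_e IH (LK LD1_c7 LD2_c2 LD3_c54) (LK LD1_c3 LD2_c30 LD3_c28) Lrfl Lrfl
theorem f493191 : Led Lsl_af (LP (LK LD1_c7 LD2_c2 LD3_c54)) = (LP (LK LD1_c7 LD2_c45 LD3_c57)) :=
  Lgr Lrot50 (Lpr_et (f443432 IH) (Lpr_at (f491877 IH) (Lpr_et (K34.f477503 IH) (Lpn (LP (LK LD1_c7 LD2_c45 LD3_c57))))))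
theorem f493193 : Led Lsl_at (LP (LK LD1_c7 LD2_c2 LD3_c54)) = (LP (LK LD1_c7 LD2_c45 LD3_c57)) :=
  Lgr Lrot100 (Lpr_af (f493191 IH) (Lpn (LP (LK LD1_c7 LD2_c45 LD3_c57))))
theorem f64982 : Led Lsl_et (LP (LK LD1_c7 LD2_c36 LD3_c52)) = (LP (LK LD1_c3 LD2_c47 LD3_c52)) :=
  Lre_e IH (LK LD1_c7 LD2_c36 LD3_c52) (LK LD1_c3 LD2_c47 LD3_c52) Lrfl Lrfl
theorem f64983 : Led Lsl_et (LP (LK LD1_c3 LD2_c30 LD3_c28)) = (LP (LK LD1_c7 LD2_c2 LD3_c54)) :=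
  Lre_e IH (LK LD1_c3 LD2_c30 LD3_c28) (LK LD1_c7 LD2_c2 LD3_c54) Lrfl Lrfl
theorem f64984 : Led Lsl_df (LP (LK LD1_c7 LD2_c36 LD3_c52)) = (LP (LK LD1_c7 LD2_c2 LD3_c54)) :=
  Lgr Lrot70 (Lpr_et (f64982 IH) (Lpr_dt (K29.f63935 IH) (Lpr_et (K24.f64981 IH) (Lpr_dt (K1.f64972 IH) (Lpr_et (f64983 IH) (Lpn (LP (LK LD1_c7 LD2_c2 LD3_c54))))))))
theorem f443423 : Led Lsl_dt (LP (LK LD1_c7 LD2_c36 LD3_c52)) = (LP (LK LD1_c7 LD2_c2 LD3_c54)) :=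
  Lgr Lrot42 (Lpr_df (f64984 IH) (Lpn (LP (LK LD1_c7 LD2_c2 LD3_c54))))
theorem f63690 : Led Lsl_dt (LP (LK LD1_c7 LD2_c45 LD3_c57)) = (LP (LK LD1_c3 LD2_c52 LD3_c1)) :=
  Lre_d IH (LK LD1_c7 LD2_c45 LD3_c57) (LK LD1_c3 LD2_c52 LD3_c1) Lrfl Lrfl
theorem f493220 : Led Lsl_af (LP (LK LD1_c7 LD2_c36 LD3_c52)) = (LP (LK LD1_c3 LD2_c52 LD3_c1)) :=
  Lgr Lrot117 (Lpr_dt (f443423 IH) (Lpr_at (f493193 IH) (Lpr_dt (f63690 IH) (Lpn (LP (LK LD1_c3 LD2_c52 LD3_c1))))))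
theorem f493230 : Led Lsl_ft (LP (LK LD1_c7 LD2_c45 LD3_c58)) = (LP (LK LD1_c3 LD2_c52 LD3_c1)) :=
  Lre_f IH (LK LD1_c7 LD2_c45 LD3_c58) (LK LD1_c3 LD2_c52 LD3_c1) Lrfl Lrfl
theorem f807122 : Led Lsl_af (LP (LK LD1_c7 LD2_c45 LD3_c58)) = v22467 :=
  Lgr Lrot45 (Lpr_ft (f493230 IH) (Lpe (f493220 IH) (Lpr_ft (f807121 IH) (Lpn v22467))))
theorem f807126 : Led Lsl_gt (LP (LK LD1_c14 LD2_c21 LD3_c20)) = (LP (LK LD1_c7 LD2_c45 LD3_c58)) :=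
  Lgr Lrot46 (Lpe (f63937 IH) (Lpr_ft (f807121 IH) (Lpe (f807122 IH) (Lpn (LP (LK LD1_c7 LD2_c45 LD3_c58))))))
theorem f807127 : Led Lsl_gt (LP (LK LD1_c14 LD2_c21 LD3_c20)) = (LP (LK LD1_c7 LD2_c45 LD3_c58)) :=
  Leop (Lpe (f807126 IH) (Lpn (LP (LK LD1_c14 LD2_c21 LD3_c20))))
theorem seed_1722 : LEOK LG_g (LK LD1_c14 LD2_c21 LD3_c20) :=
  Leoe_g (LK LD1_c14 LD2_c21 LD3_c20) (f807127 IH)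
def v22468 : LQ := Led Lsl_dt (LP (LK LD1_c7 LD2_c36 LD3_c54))
theorem f807138 : Led Lsl_dt (LP (LK LD1_c7 LD2_c36 LD3_c54)) = v22468 :=
  Lrfl
theorem f492110 : Led Lsl_dt (LP (LK LD1_c7 LD2_c45 LD3_c32)) = (LP (LK LD1_c3 LD2_c51 LD3_c52)) :=
  Lre_d IH (LK LD1_c7 LD2_c45 LD3_c32) (LK LD1_c3 LD2_c51 LD3_c52) Lrfl Lrfl
theorem f807142 : Led Lsl_ff (LP (LK LD1_c7 LD2_c45 LD3_c32)) = v22468 :=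
  Lgr Lrot19 (Lpr_dt (f492110 IH) (Lpe (K34.f492107 IH) (Lpr_dt (f807138 IH) (Lpn v22468))))
theorem f807145 : Led Lsl_ft (LP (LK LD1_c7 LD2_c45 LD3_c32)) = v22468 :=
  Lgr Lrot48 (Lpr_ff (f807142 IH) (Lpn v22468))
theorem f481932 : Led Lsl_dt (LP (LK LD1_c7 LD2_c36 LD3_c55)) = (LP (LK LD1_c3 LD2_c47 LD3_c54)) :=
  Lre_d IH (LK LD1_c7 LD2_c36 LD3_c55) (LK LD1_c3 LD2_c47 LD3_c54) Lrfl Lrfl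
theorem f807139 : Led Lsl_af (LP (LK LD1_c7 LD2_c36 LD3_c55)) = v22468 :=
  Lgr Lrot117 (Lpr_dt (f481932 IH) (Lpr_at (K34.f492092 IH) (Lpr_dt (f807138 IH) (Lpn v22468))))
theorem f468521 : Led Lsl_gt (LP (LK LD1_c14 LD2_c21 LD3_c25)) = (LP (LK LD1_c7 LD2_c36 LD3_c55)) :=
  Lre_g IH (LK LD1_c14 LD2_c21 LD3_c25) (LK LD1_c7 LD2_c36 LD3_c55) Lrfl Lrfl
theorem f807148 : Led Lsl_gt (LP (LK LD1_c7 LD2_c45 LD3_c32)) = (LP (LK LD1_c14 LD2_c21 LD3_c25)) :=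
  Lgr Lrot5 (Lpr_ft (f807145 IH) (Lpe (f807139 IH) (Lpe (f468521 IH) (Lpn (LP (LK LD1_c14 LD2_c21 LD3_c25))))))
theorem f807149 : Led Lsl_gt (LP (LK LD1_c7 LD2_c45 LD3_c32)) = (LP (LK LD1_c14 LD2_c21 LD3_c25)) :=
  Leop (Lpe (f807148 IH) (Lpn (LP (LK LD1_c7 LD2_c45 LD3_c32))))
theorem seed_1723 : LEOK LG_g (LK LD1_c7 LD2_c45 LD3_c32) :=
  Leoe_g (LK LD1_c7 LD2_c45 LD3_c32) (f807149 IH)
def v22479 : LQ := Led Lsl_ft (LP (LK LD1_c7 LD2_c36 LD3_c60))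
theorem f807204 : Led Lsl_ft (LP (LK LD1_c7 LD2_c36 LD3_c60)) = v22479 :=
  Lrfl
theorem f477844 : Led Lsl_gt (LP (LK LD1_c7 LD2_c36 LD3_c60)) = (LP (LK LD1_c14 LD2_c21 LD3_c29)) :=
  Lre_g IH (LK LD1_c7 LD2_c36 LD3_c60) (LK LD1_c14 LD2_c21 LD3_c29) Lrfl Lrfl
theorem f477841 : Led Lsl_et (LP (LK LD1_c7 LD2_c36 LD3_c60)) = (LP (LK LD1_c3 LD2_c47 LD3_c58)) :=
  Lre_e IH (LK LD1_c7 LD2_c36 LD3_c60) (LK LD1_c3 LD2_c47 LD3_c58) Lrfl Lrfl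
theorem f477865 : Led Lsl_et (LP (LK LD1_c1 LD2_c52 LD3_c47)) = (LP (LK LD1_c3 LD2_c52 LD3_c14)) :=
  Lre_e IH (LK LD1_c1 LD2_c52 LD3_c47) (LK LD1_c3 LD2_c52 LD3_c14) Lrfl Lrfl
theorem f656863 : Led Lsl_af (LP (LK LD1_c7 LD2_c36 LD3_c60)) = (LP (LK LD1_c3 LD2_c52 LD3_c14)) :=
  Lgr Lrot50 (Lpr_et (f477841 IH) (Lpqs (K46.f655359 IH) (Lpe (K46.f530405 IH) (Lpr_et (f477865 IH) (Lpn (LP (LK LD1_c3 LD2_c52 LD3_c14)))))))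
theorem f807205 : Led Lsl_af (LP (LK LD1_c7 LD2_c46 LD3_c17)) = v22479 :=
  Lgr Lrot45 (Lpr_ft (K46.f530414 IH) (Lpe (f656863 IH) (Lpr_ft (f807204 IH) (Lpn v22479))))
theorem f807208 : Led Lsl_gt (LP (LK LD1_c14 LD2_c21 LD3_c29)) = (LP (LK LD1_c7 LD2_c46 LD3_c17)) :=
  Lgr Lrot46 (Lpe (f477844 IH) (Lpr_ft (f807204 IH) (Lpe (f807205 IH) (Lpn (LP (LK LD1_c7 LD2_c46 LD3_c17))))))
theorem f807209 : Led Lsl_gt (LP (LK LD1_c14 LD2_c21 LD3_c29)) = (LP (LK LD1_c7 LD2_c46 LD3_c17)) :=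
  Leop (Lpe (f807208 IH) (Lpn (LP (LK LD1_c14 LD2_c21 LD3_c29))))
theorem seed_1724 : LEOK LG_g (LK LD1_c14 LD2_c21 LD3_c29) :=
  Leoe_g (LK LD1_c14 LD2_c21 LD3_c29) (f807209 IH)
def v22494 : LQ := Led Lsl_ct (LP (LK LD1_c7 LD2_c37 LD3_c30))
theorem f807301 : Led Lsl_ct (LP (LK LD1_c7 LD2_c37 LD3_c30)) = v22494 :=
  Lrfl
theorem f807302 : Led Lsl_cf (LP (LK LD1_c7 LD2_c37 LD3_c30)) = v22494 :=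
  Lgr Lrot11 (Lpr_ct (f807301 IH) (Lpn v22494))
theorem f11866 : Led Lsl_gt (LP (LK LD1_c7 LD2_c37 LD3_c30)) = (LP (LK LD1_c3 LD2_c48 LD3_c14)) :=
  Lre_g IH (LK LD1_c7 LD2_c37 LD3_c30) (LK LD1_c3 LD2_c48 LD3_c14) Lrfl Lrfl
def v7449 : LQ := Led Lsl_ct (LP (LK LD1_c3 LD2_c48 LD3_c14))
theorem f665654 : Led Lsl_ct (LP (LK LD1_c3 LD2_c48 LD3_c14)) = v7449 :=
  Lrfl
theorem f665657 : Led Lsl_cf (LP (LK LD1_c3 LD2_c48 LD3_c14)) = v7449 :=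
  Lgr Lrot11 (Lpr_ct (f665654 IH) (Lpn v7449))
theorem f129980 : Led Lsl_bt (LP (LK LD1_c4 LD2_c44 LD3_c7)) = (LP (LK LD1_c3 LD2_c48 LD3_c14)) :=
  Lgr Lrot127 (Lpr_bf (f129965 IH) (Lpn (LP (LK LD1_c3 LD2_c48 LD3_c14))))
def v3050 : LQ := Led Lsl_et K51.v469
theorem f622650 : Led Lsl_et K51.v469 = v3050 :=
  Lrfl
theorem f453509 : Led Lsl_bt (LP (LK LD1_c1 LD2_c7 LD3_c17)) = K51.v469 :=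
  Lgr Lrot178 (Lpe (K5.f25297 IH) (Lpe (K4.f116699 IH) (Lpe (K4.f17462 IH) (Lpr_bf (K6.f144940 IH) (Lpe (K6.f96389 IH) (Lpe (K32.f144844 IH) (Lpr_gf (K32.f155747 IH) (Lpe (K32.f155729 IH) (Lpr_cf (K32.f155621 IH) (Lpe (K32.f79345 IH) (Lpe (K6.f79342 IH) (Lpr_bf (K5.f79161 IH) (Lpe (K4.f23570 IH) (Lpe (K2.f23344 IH) (Lpr_gf (K3.f79254 IH) (Lpe (K3.f79279 IH) (Lpr_cf (K3.f79284 IH) (Lpr_df (K51.f452374 IH) (Lpr_gf (K51.f453508 IH) (Lpn K51.v469))))))))))))))))))))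
theorem f622651 : Led Lsl_bf (LP (LK LD1_c2 LD2_c20 LD3_c2)) = v3050 :=
  Lgr Lrot96 (Lpr_et (K51.f129974 IH) (Lpr_bt (f453509 IH) (Lpr_et (f622650 IH) (Lpn v3050))))
def v957 : LQ := Led Lsl_gf K51.v126
def v3578 : LQ := Led Lsl_et v957
theorem f626337 : Led Lsl_et v957 = v3578 :=
  Lrfl
theorem f490733 : Led Lsl_gf K51.v126 = v957 :=
  Lrfl
theorem f450608 : Led Lsl_cf (LP (LK LD1_c0 LD2_c19 LD3_c13)) = K51.v126 :=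
  Lgr Lrot11 (Lpr_ct (K51.f450606 IH) (Lpn K51.v126))
theorem f453507 : Led Lsl_df (LP (LK LD1_c0 LD2_c41 LD3_c32)) = K51.v469 :=
  Lgr Lrot38 (Lpr_dt (K51.f453505 IH) (Lpn K51.v469))
theorem f455005 : Led Lsl_gf K51.v469 = K58.v581 :=
  Lgr Lrot143 (Lpe (f453507 IH) (Lpe (K4.f57587 IH) (Lpe (K4.f57589 IH) (Lpe (K8.f110442 IH) (Lpe (K8.f26173 IH) (Lpr_gf (K4.f104158 IH) (Lpe (K2.f23457 IH) (Lpe (K3.f104173 IH) (Lpr_dt (K58.f455001 IH) (Lpn K58.v581))))))))))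
theorem f490734 : Led Lsl_ct K51.v469 = v957 :=
  Lgr Lrot152 (Lpr_gf (f455005 IH) (Lpe (K58.f455001 IH) (Lpe (K3.f23466 IH) (Lpr_ct (K2.f23465 IH) (Lpr_gt (K2.f23464 IH) (Lpr_ct (K0.f23385 IH) (Lpe (K5.f23440 IH) (Lpr_cf (f450608 IH) (Lpr_gf (f490733 IH) (Lpn v957))))))))))
theorem f622653 : Led Lsl_ef K51.v469 = v3050 :=
  Lgr Lrot88 (Lpr_et (f622650 IH) (Lpn v3050))
theorem f626338 : Led Lsl_cf v3050 = v3578 :=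
  Lgr Lrot39 (Lpe (f622653 IH) (Lpr_ct (f490734 IH) (Lpr_et (f626337 IH) (Lpn v3578))))
theorem f665656 : Led Lsl_bf v3578 = v7449 :=
  Lgr Lrot90 (Lpe (f626338 IH) (Lpe (f622651 IH) (Lpr_ct (K51.f129967 IH) (Lpr_bt (f129980 IH) (Lpr_ct (f665654 IH) (Lpn v7449))))))
def v11003 : LQ := Led Lsl_gt v3578
theorem f682820 : Led Lsl_gt v3578 = v11003 :=
  Lrfl
theorem f67023 : Led Lsl_bt (LP (LK LD1_c3 LD2_c12 LD3_c42)) = (LP (LK LD1_c1 LD2_c32 LD3_c48)) :=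
  Lre_b IH (LK LD1_c3 LD2_c12 LD3_c42) (LK LD1_c1 LD2_c32 LD3_c48) Lrfl Lrfl
def v5743 : LQ := Led Lsl_ct (LP (LK LD1_c3 LD2_c12 LD3_c42))
theorem f649155 : Led Lsl_ct (LP (LK LD1_c3 LD2_c12 LD3_c42)) = v5743 :=
  Lrfl
theorem f626339 : Led Lsl_ef v957 = v3578 :=
  Lgr Lrot88 (Lpr_et (f626337 IH) (Lpn v3578))
theorem f490735 : Led Lsl_cf K51.v469 = v957 :=
  Lgr Lrot11 (Lpr_ct (f490734 IH) (Lpn v957))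
theorem f626340 : Led Lsl_ct v3050 = v3578 :=
  Lgr Lrot15 (Lpe (f622650 IH) (Lpr_cf (f490735 IH) (Lpr_ef (f626339 IH) (Lpn v3578))))
theorem f709483 : v5743 = v11003 :=
  (Llr Lrot10 (Lpe (f649155 IH) (Lpr_bt (f67023 IH) (Lpe (K24.f67021 IH) (Lpr_ct (K16.f73653 IH) (Lpe (K16.f139922 IH) (Lpe (K9.f59839 IH) (Lpr_bt (K48.f139943 IH) (Lpr_gt (K51.f502972 IH) (Lpq (K51.f674274 IH) (Lpqs (K51.f708033 IH) (Lpr_bf (f622651 IH) (Lpr_ct (f626340 IH) (Lpr_gt (f682820 IH) (Lpn v11003))))))))))))))).symm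
theorem f649157 : Led Lsl_cf (LP (LK LD1_c3 LD2_c12 LD3_c42)) = v5743 :=
  Lgr Lrot11 (Lpr_ct (f649155 IH) (Lpn v5743))
theorem f649158 : Led Lsl_bt (LP (LK LD1_c9 LD2_c17 LD3_c18)) = v5743 :=
  Lgr Lrot128 (Lpe (K55.f23154 IH) (Lpe (K52.f23109 IH) (Lpr_cf (K9.f139974 IH) (Lpe (f67023 IH) (Lpr_cf (f649157 IH) (Lpn v5743))))))
theorem f757810 : Led Lsl_cf (LP (LK LD1_c6 LD2_c15 LD3_c50)) = K57.v17227 :=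
  Lgr Lrot108 (Lpr_ft (K52.f138580 IH) (Lpr_ct (K57.f83783 IH) (Lpr_ft (K57.f757808 IH) (Lpn K57.v17227))))
def v20071 : LQ := Led Lsl_ft (LP (LK LD1_c6 LD2_c50 LD3_c21))
theorem f784668 : Led Lsl_ft (LP (LK LD1_c6 LD2_c50 LD3_c21)) = v20071 :=
  Lrfl
theorem f784671 : Led Lsl_ff (LP (LK LD1_c6 LD2_c50 LD3_c21)) = v20071 :=
  Lgr Lrot3 (Lpr_ft (f784668 IH) (Lpn v20071))
theorem f784672 : Led Lsl_bt K57.v17227 = v20071 :=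
  Lgr Lrot35 (Lpe (K57.f757808 IH) (Lpr_bf (K4.f83777 IH) (Lpr_ff (f784671 IH) (Lpn v20071))))
theorem f807303 : Led Lsl_gt v20071 = v22494 :=
  Lgr Lrot82 (Lpe (f784672 IH) (Lpe (f757810 IH) (Lpq (K52.f715019 IH) (Lpe (K52.f701496 IH) (Lpe (K55.f23161 IH) (Lpr_bt (f649158 IH) (Lpqs (f709483 IH) (Lpe (f682820 IH) (Lpr_bf (f665656 IH) (Lpe (f665657 IH) (Lpe (f11866 IH) (Lpr_cf (f807302 IH) (Lpn v22494)))))))))))))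
def v7717 : LQ := Led Lsl_et (LP (LK LD1_c3 LD2_c55 LD3_c48))
theorem f667961 : Led Lsl_et (LP (LK LD1_c3 LD2_c55 LD3_c48)) = v7717 :=
  Lrfl
theorem f667964 : Led Lsl_ef (LP (LK LD1_c3 LD2_c55 LD3_c48)) = v7717 :=
  Lgr Lrot88 (Lpr_et (f667961 IH) (Lpn v7717))
theorem f97705 : Led Lsl_dt (LP (LK LD1_c3 LD2_c55 LD3_c48)) = (LP (LK LD1_c3 LD2_c23 LD3_c5)) :=
  Lgr Lrot173 (Lpe (K5.f90257 IH) (Lpe (K5.f90256 IH) (Lpe (K5.f90255 IH) (Lpr_df (K4.f90242 IH) (Lpe (K2.f12089 IH) (Lpe (K5.f78195 IH) (Lpe (K3.f78194 IH) (Lpr_df (K3.f97701 IH) (Lpe (K3.f12282 IH) (Lpe (K5.f11842 IH) (Lpe (K1.f11841 IH) (Lpe (K1.f64346 IH) (Lpe (K2.f17665 IH) (Lpe (K3.f17661 IH) (Lpe (K3.f90244 IH) (Lpn (LP (LK LD1_c3 LD2_c23 LD3_c5))))))))))))))))))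
theorem f125786 : Led Lsl_ff (LP (LK LD1_c3 LD2_c55 LD3_c48)) = (LP (LK LD1_c3 LD2_c23 LD3_c29)) :=
  Lgr Lrot19 (Lpr_dt (f97705 IH) (Lpr_ft (K5.f125782 IH) (Lpr_dt (K4.f83757 IH) (Lpn (LP (LK LD1_c3 LD2_c23 LD3_c29))))))
theorem f125822 : Led Lsl_at (LP (LK LD1_c3 LD2_c55 LD3_c48)) = (LP (LK LD1_c3 LD2_c23 LD3_c32)) :=
  Lgr Lrot66 (Lpr_ff (f125786 IH) (Lpe (K5.f125794 IH) (Lpr_ff (K5.f125820 IH) (Lpn (LP (LK LD1_c3 LD2_c23 LD3_c32))))))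
theorem f667965 : Led Lsl_at (LP (LK LD1_c6 LD2_c50 LD3_c21)) = v7717 :=
  Lgr Lrot80 (Lpe (K4.f83776 IH) (Lpe (f125822 IH) (Lpr_ef (f667964 IH) (Lpn v7717))))
theorem f807304 : Led Lsl_gf v7717 = v22494 :=
  Lgr Lrot76 (Lpe (f667965 IH) (Lpr_ff (f784671 IH) (Lpr_gt (f807303 IH) (Lpn v22494))))
theorem f97726 : Led Lsl_et (LP (LK LD1_c3 LD2_c55 LD3_c49)) = (LP (LK LD1_c1 LD2_c54 LD3_c31)) :=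
  Lre_e IH (LK LD1_c3 LD2_c55 LD3_c49) (LK LD1_c1 LD2_c54 LD3_c31) Lrfl Lrfl
theorem f667963 : Led Lsl_cf (LP (LK LD1_c3 LD2_c55 LD3_c49)) = v7717 :=
  Lgr Lrot39 (Lpr_et (f97726 IH) (Lpr_ct (K5.f90257 IH) (Lpr_et (f667961 IH) (Lpn v7717))))
theorem f97727 : Led Lsl_dt (LP (LK LD1_c3 LD2_c55 LD3_c49)) = (LP (LK LD1_c7 LD2_c53 LD3_c21)) :=
  Lre_d IH (LK LD1_c3 LD2_c55 LD3_c49) (LK LD1_c7 LD2_c53 LD3_c21) Lrfl Lrfl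
theorem f125918 : Led Lsl_ct (LP (LK LD1_c14 LD2_c52 LD3_c51)) = (LP (LK LD1_c7 LD2_c53 LD3_c21)) :=
  Lre_c IH (LK LD1_c14 LD2_c52 LD3_c51) (LK LD1_c7 LD2_c53 LD3_c21) Lrfl Lrfl
theorem f89964 : Led Lsl_gt (LP (LK LD1_c6 LD2_c56 LD3_c9)) = (LP (LK LD1_c7 LD2_c37 LD3_c30)) :=
  Lgr Lrot5 (Lpr_ft (K3.f89949 IH) (Lpr_at (K3.f89951 IH) (Lpe (f11866 IH) (Lpn (LP (LK LD1_c7 LD2_c37 LD3_c30))))))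
theorem f89899 : Led Lsl_gt (LP (LK LD1_c14 LD2_c22 LD3_c31)) = (LP (LK LD1_c7 LD2_c37 LD3_c31)) :=
  Lre_g IH (LK LD1_c14 LD2_c22 LD3_c31) (LK LD1_c7 LD2_c37 LD3_c31) Lrfl Lrfl
theorem f89900 : Led Lsl_gt (LP (LK LD1_c13 LD2_c10 LD3_c20)) = (LP (LK LD1_c14 LD2_c22 LD3_c31)) :=
  Lgr Lrot5 (Lpr_ft (K3.f89895 IH) (Lpr_at (K3.f89880 IH) (Lpe (f89899 IH) (Lpn (LP (LK LD1_c14 LD2_c22 LD3_c31))))))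
theorem f89908 : Led Lsl_ct (LP (LK LD1_c14 LD2_c22 LD3_c31)) = (LP (LK LD1_c24 LD2_c0 LD3_c38)) :=
  Lre_c IH (LK LD1_c14 LD2_c22 LD3_c31) (LK LD1_c24 LD2_c0 LD3_c38) Lrfl Lrfl
theorem f807305 : Led Lsl_gf (LP (LK LD1_c14 LD2_c52 LD3_c51)) = (LP (LK LD1_c24 LD2_c0 LD3_c38)) :=
  Lgr Lrot104 (Lpr_ct (f125918 IH) (Lpe (f97727 IH) (Lpr_cf (f667963 IH) (Lpr_gf (f807304 IH) (Lpe (f807301 IH) (Lpe (f89964 IH) (Lpe (K3.f89902 IH) (Lpr_gt (f89900 IH) (Lpr_ct (f89908 IH) (Lpn (LP (LK LD1_c24 LD2_c0 LD3_c38))))))))))))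
theorem f807306 : Led Lsl_gt (LP (LK LD1_c24 LD2_c0 LD3_c38)) = (LP (LK LD1_c14 LD2_c52 LD3_c51)) :=
  Leop (Lpr_gf (f807305 IH) (Lpn (LP (LK LD1_c24 LD2_c0 LD3_c38))))
theorem seed_1725 : LEOK LG_g (LK LD1_c24 LD2_c0 LD3_c38) :=
  Leoe_g (LK LD1_c24 LD2_c0 LD3_c38) (f807306 IH)
def v22507 : LQ := Led Lsl_et (LP (LK LD1_c7 LD2_c37 LD3_c48))
theorem f807384 : Led Lsl_et (LP (LK LD1_c7 LD2_c37 LD3_c48)) = v22507 :=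
  Lrfl
theorem f807385 : Led Lsl_ef (LP (LK LD1_c7 LD2_c37 LD3_c48)) = v22507 :=
  Lgr Lrot88 (Lpr_et (f807384 IH) (Lpn v22507))
theorem f460397 : Led Lsl_gt (LP (LK LD1_c14 LD2_c22 LD3_c45)) = (LP (LK LD1_c7 LD2_c37 LD3_c48)) :=
  Lre_g IH (LK LD1_c14 LD2_c22 LD3_c45) (LK LD1_c7 LD2_c37 LD3_c48) Lrfl Lrfl
theorem f17369 : Led Lsl_at (LP (LK LD1_c14 LD2_c22 LD3_c45)) = (LP (LK LD1_c7 LD2_c37 LD3_c50)) :=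
  Lre_a IH (LK LD1_c14 LD2_c22 LD3_c45) (LK LD1_c7 LD2_c37 LD3_c50) Lrfl Lrfl
theorem f460279 : Led Lsl_ef (LP (LK LD1_c14 LD2_c22 LD3_c45)) = (LP (LK LD1_c7 LD2_c47 LD3_c11)) :=
  Lgr Lrot20 (Lpr_at (f17369 IH) (Lpr_et (K28.f460276 IH) (Lpr_at (K28.f460278 IH) (Lpn (LP (LK LD1_c7 LD2_c47 LD3_c11))))))
theorem f460155 : Led Lsl_ft (LP (LK LD1_c13 LD2_c30 LD3_c0)) = (LP (LK LD1_c7 LD2_c47 LD3_c12)) :=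
  Lgr Lrot75 (Lpe (K29.f104025 IH) (Lpr_ff (K24.f460131 IH) (Lpe (K29.f460154 IH) (Lpn (LP (LK LD1_c7 LD2_c47 LD3_c12))))))
theorem f104052 : Led Lsl_gt (LP (LK LD1_c13 LD2_c30 LD3_c0)) = (LP (LK LD1_c22 LD2_c50 LD3_c49)) :=
  Lre_g IH (LK LD1_c13 LD2_c30 LD3_c0) (LK LD1_c22 LD2_c50 LD3_c49) Lrfl Lrfl
theorem f460344 : Led Lsl_at (LP (LK LD1_c7 LD2_c47 LD3_c12)) = (LP (LK LD1_c14 LD2_c41 LD3_c30)) :=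
  Lre_a IH (LK LD1_c7 LD2_c47 LD3_c12) (LK LD1_c14 LD2_c41 LD3_c30) Lrfl Lrfl
theorem f490167 : Led Lsl_gt (LP (LK LD1_c22 LD2_c50 LD3_c49)) = (LP (LK LD1_c14 LD2_c41 LD3_c30)) :=
  Lgr Lrot46 (Lpe (f104052 IH) (Lpr_ft (f460155 IH) (Lpr_at (f460344 IH) (Lpn (LP (LK LD1_c14 LD2_c41 LD3_c30))))))
theorem f14917 : Led Lsl_ct (LP (LK LD1_c24 LD2_c15 LD3_c11)) = (LP (LK LD1_c14 LD2_c32 LD3_c47)) :=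
  Lre_c IH (LK LD1_c24 LD2_c15 LD3_c11) (LK LD1_c14 LD2_c32 LD3_c47) Lrfl Lrfl
theorem f566349 : Led Lsl_df (LP (LK LD1_c22 LD2_c50 LD3_c49)) = (LP (LK LD1_c14 LD2_c17 LD3_c20)) :=
  Lgr Lrot155 (Lpr_gt (f490167 IH) (Lpr_ct (K29.f460310 IH) (Lpr_gt (K29.f471788 IH) (Lpr_ct (f14917 IH) (Lpr_dt (K41.f90993 IH) (Lpr_cf (K34.f488210 IH) (Lpe (K47.f11628 IH) (Lpr_cf (K47.f566341 IH) (Lpr_gf (K61.f521458 IH) (Lpn (LP (LK LD1_c14 LD2_c17 LD3_c20))))))))))))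
theorem f460065 : Led Lsl_dt (LP (LK LD1_c3 LD2_c46 LD3_c52)) = (LP (LK LD1_c7 LD2_c34 LD3_c38)) :=
  Lre_d IH (LK LD1_c3 LD2_c46 LD3_c52) (LK LD1_c7 LD2_c34 LD3_c38) Lrfl Lrfl
theorem f460073 : Led Lsl_gt (LP (LK LD1_c14 LD2_c17 LD3_c17)) = (LP (LK LD1_c7 LD2_c34 LD3_c38)) :=
  Lre_g IH (LK LD1_c14 LD2_c17 LD3_c17) (LK LD1_c7 LD2_c34 LD3_c38) Lrfl Lrfl
theorem f807386 : Led Lsl_df (LP (LK LD1_c14 LD2_c17 LD3_c17)) = v22507 :=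
  Lgr Lrot170 (Lpr_gt (f460073 IH) (Lpe (f460065 IH) (Lpr_et (K47.f459995 IH) (Lpr_gt (K47.f460023 IH) (Lpe (f566349 IH) (Lpr_gt (f490167 IH) (Lpe (K29.f460308 IH) (Lpe (f460279 IH) (Lpr_gt (f460397 IH) (Lpr_ef (f807385 IH) (Lpn v22507)))))))))))
theorem f807389 : Led Lsl_et (LP (LK LD1_c14 LD2_c17 LD3_c17)) = (LP (LK LD1_c23 LD2_c54 LD3_c47)) :=
  Lre_e IH (LK LD1_c14 LD2_c17 LD3_c17) (LK LD1_c23 LD2_c54 LD3_c47) Lrfl Lrfl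
theorem f17399 : Led Lsl_dt (LP (LK LD1_c14 LD2_c22 LD3_c50)) = (LP (LK LD1_c7 LD2_c37 LD3_c48)) :=
  Lre_d IH (LK LD1_c14 LD2_c22 LD3_c50) (LK LD1_c7 LD2_c37 LD3_c48) Lrfl Lrfl
theorem f471989 : Led Lsl_et (LP (LK LD1_c24 LD2_c1 LD3_c0)) = (LP (LK LD1_c14 LD2_c22 LD3_c50)) :=
  Lre_e IH (LK LD1_c24 LD2_c1 LD3_c0) (LK LD1_c14 LD2_c22 LD3_c50) Lrfl Lrfl
theorem f807390 : Led Lsl_dt (LP (LK LD1_c23 LD2_c54 LD3_c47)) = (LP (LK LD1_c24 LD2_c1 LD3_c0)) :=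
  Lgr Lrot77 (Lpe (f807389 IH) (Lpr_df (f807386 IH) (Lpe (f807384 IH) (Lpe (f17399 IH) (Lpe (f471989 IH) (Lpn (LP (LK LD1_c24 LD2_c1 LD3_c0))))))))
theorem f807391 : Led Lsl_dt (LP (LK LD1_c23 LD2_c54 LD3_c47)) = (LP (LK LD1_c24 LD2_c1 LD3_c0)) :=
  Leop (Lpe (f807390 IH) (Lpn (LP (LK LD1_c23 LD2_c54 LD3_c47))))
theorem seed_1726 : LEOK LG_d (LK LD1_c23 LD2_c54 LD3_c47) :=
  Leoe_d (LK LD1_c23 LD2_c54 LD3_c47) (f807391 IH)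
def v22509 : LQ := Led Lsl_et (LP (LK LD1_c7 LD2_c37 LD3_c54))
theorem f807397 : Led Lsl_et (LP (LK LD1_c7 LD2_c37 LD3_c54)) = v22509 :=
  Lrfl
theorem f807400 : Led Lsl_ef (LP (LK LD1_c7 LD2_c37 LD3_c54)) = v22509 :=
  Lgr Lrot88 (Lpr_et (f807397 IH) (Lpn v22509))
theorem f137240 : Led Lsl_bf (LP (LK LD1_c4 LD2_c34 LD3_c52)) = (LP (LK LD1_c7 LD2_c37 LD3_c54)) :=
  Lgr Lrot93 (Lpr_dt (K6.f137230 IH) (Lpr_bt (K6.f127935 IH) (Lpr_dt (K36.f114459 IH) (Lpn (LP (LK LD1_c7 LD2_c37 LD3_c54))))))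
theorem f137236 : Led Lsl_et (LP (LK LD1_c4 LD2_c34 LD3_c52)) = (LP (LK LD1_c9 LD2_c6 LD3_c22)) :=
  Lre_e IH (LK LD1_c4 LD2_c34 LD3_c52) (LK LD1_c9 LD2_c6 LD3_c22) Lrfl Lrfl
theorem f807402 : Led Lsl_bt (LP (LK LD1_c9 LD2_c6 LD3_c22)) = v22509 :=
  Lgr Lrot119 (Lpe (f137236 IH) (Lpr_bf (f137240 IH) (Lpr_ef (f807400 IH) (Lpn v22509))))
theorem f666051 : Led Lsl_bt (LP (LK LD1_c3 LD2_c49 LD3_c30)) = (LP (LK LD1_c7 LD2_c39 LD3_c53)) :=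
  Lre_b IH (LK LD1_c3 LD2_c49 LD3_c30) (LK LD1_c7 LD2_c39 LD3_c53) Lrfl Lrfl
theorem f807403 : Led Lsl_gf (LP (LK LD1_c7 LD2_c39 LD3_c53)) = v22509 :=
  Lgr Lrot124 (Lpe (f666051 IH) (Lpr_ct (K62.f87223 IH) (Lpe (K62.f740755 IH) (Lpr_cf (K3.f66176 IH) (Lpr_bt (K6.f66241 IH) (Lpr_gt (K53.f158108 IH) (Lpe (K55.f713746 IH) (Lpr_gt (K54.f714939 IH) (Lpe (K52.f137274 IH) (Lpr_bt (f807402 IH) (Lpn v22509)))))))))))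
theorem f92739 : Led Lsl_et (LP (LK LD1_c14 LD2_c26 LD3_c44)) = (LP (LK LD1_c7 LD2_c39 LD3_c53)) :=
  Lre_e IH (LK LD1_c14 LD2_c26 LD3_c44) (LK LD1_c7 LD2_c39 LD3_c53) Lrfl Lrfl
theorem f92667 : Led Lsl_et (LP (LK LD1_c7 LD2_c33 LD3_c4)) = (LP (LK LD1_c14 LD2_c14 LD3_c29)) :=
  Lre_e IH (LK LD1_c7 LD2_c33 LD3_c4) (LK LD1_c14 LD2_c14 LD3_c29) Lrfl Lrfl
theorem f87842 : Led Lsl_dt (LP (LK LD1_c7 LD2_c39 LD3_c55)) = (LP (LK LD1_c3 LD2_c49 LD3_c30)) :=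
  Lre_d IH (LK LD1_c7 LD2_c39 LD3_c55) (LK LD1_c3 LD2_c49 LD3_c30) Lrfl Lrfl
theorem f92669 : Led Lsl_et (LP (LK LD1_c14 LD2_c26 LD3_c50)) = (LP (LK LD1_c7 LD2_c39 LD3_c55)) :=
  Lre_e IH (LK LD1_c14 LD2_c26 LD3_c50) (LK LD1_c7 LD2_c39 LD3_c55) Lrfl Lrfl
theorem f92670 : Led Lsl_dt (LP (LK LD1_c14 LD2_c14 LD3_c29)) = (LP (LK LD1_c14 LD2_c26 LD3_c50)) :=
  Lgr Lrot77 (Lpe (f92667 IH) (Lpr_df (K52.f92654 IH) (Lpe (K60.f92668 IH) (Lpe (f87842 IH) (Lpe (f92669 IH) (Lpn (LP (LK LD1_c14 LD2_c26 LD3_c50))))))))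
theorem f92688 : Led Lsl_df (LP (LK LD1_c14 LD2_c14 LD3_c29)) = (LP (LK LD1_c14 LD2_c26 LD3_c50)) :=
  Lgr Lrot38 (Lpr_dt (f92670 IH) (Lpn (LP (LK LD1_c14 LD2_c26 LD3_c50))))
theorem f92714 : Led Lsl_bt (LP (LK LD1_c14 LD2_c14 LD3_c29)) = (LP (LK LD1_c23 LD2_c50 LD3_c16)) :=
  Lre_b IH (LK LD1_c14 LD2_c14 LD3_c29) (LK LD1_c23 LD2_c50 LD3_c16) Lrfl Lrfl
theorem f88068 : Led Lsl_bt (LP (LK LD1_c24 LD2_c7 LD3_c3)) = (LP (LK LD1_c14 LD2_c26 LD3_c50)) :=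
  Lre_b IH (LK LD1_c24 LD2_c7 LD3_c3) (LK LD1_c14 LD2_c26 LD3_c50) Lrfl Lrfl
theorem f92715 : Led Lsl_dt (LP (LK LD1_c23 LD2_c50 LD3_c16)) = (LP (LK LD1_c24 LD2_c7 LD3_c3)) :=
  Lgr Lrot79 (Lpe (f92714 IH) (Lpr_df (f92688 IH) (Lpe (f88068 IH) (Lpn (LP (LK LD1_c24 LD2_c7 LD3_c3))))))
theorem f92718 : Led Lsl_et (LP (LK LD1_c14 LD2_c14 LD3_c27)) = (LP (LK LD1_c23 LD2_c50 LD3_c16)) :=
  Lre_e IH (LK LD1_c14 LD2_c14 LD3_c27) (LK LD1_c23 LD2_c50 LD3_c16) Lrfl Lrfl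
theorem f92719 : Led Lsl_et (LP (LK LD1_c24 LD2_c7 LD3_c3)) = (LP (LK LD1_c14 LD2_c26 LD3_c43)) :=
  Lre_e IH (LK LD1_c24 LD2_c7 LD3_c3) (LK LD1_c14 LD2_c26 LD3_c43) Lrfl Lrfl
theorem f92720 : Led Lsl_dt (LP (LK LD1_c14 LD2_c26 LD3_c43)) = (LP (LK LD1_c7 LD2_c39 LD3_c53)) :=
  Lre_d IH (LK LD1_c14 LD2_c26 LD3_c43) (LK LD1_c7 LD2_c39 LD3_c53) Lrfl Lrfl
theorem f92721 : Led Lsl_et (LP (LK LD1_c7 LD2_c39 LD3_c53)) = (LP (LK LD1_c14 LD2_c26 LD3_c44)) :=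
  Lre_e IH (LK LD1_c7 LD2_c39 LD3_c53) (LK LD1_c14 LD2_c26 LD3_c44) Lrfl Lrfl
theorem f92722 : Led Lsl_df (LP (LK LD1_c14 LD2_c14 LD3_c27)) = (LP (LK LD1_c14 LD2_c26 LD3_c44)) :=
  Lgr Lrot70 (Lpr_et (f92718 IH) (Lpr_dt (f92715 IH) (Lpr_et (f92719 IH) (Lpr_dt (f92720 IH) (Lpr_et (f92721 IH) (Lpn (LP (LK LD1_c14 LD2_c26 LD3_c44))))))))
theorem f96324 : Led Lsl_et (LP (LK LD1_c6 LD2_c54 LD3_c1)) = (LP (LK LD1_c3 LD2_c26 LD3_c4)) :=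
  Lre_e IH (LK LD1_c6 LD2_c54 LD3_c1) (LK LD1_c3 LD2_c26 LD3_c4) Lrfl Lrfl
theorem f96325 : Led Lsl_dt (LP (LK LD1_c6 LD2_c54 LD3_c1)) = (LP (LK LD1_c13 LD2_c6 LD3_c45)) :=
  Lre_d IH (LK LD1_c6 LD2_c54 LD3_c1) (LK LD1_c13 LD2_c6 LD3_c45) Lrfl Lrfl
theorem f807404 : Led Lsl_gt (LP (LK LD1_c14 LD2_c14 LD3_c27)) = (LP (LK LD1_c13 LD2_c6 LD3_c45)) :=
  Lgr Lrot112 (Lpr_df (f92722 IH) (Lpr_et (f92739 IH) (Lpr_gf (f807403 IH) (Lpe (f807397 IH) (Lpr_dt (K48.f88235 IH) (Lpe (K5.f127926 IH) (Lpr_df (K8.f127921 IH) (Lpe (K5.f94698 IH) (Lpe (f96324 IH) (Lpr_dt (f96325 IH) (Lpn (LP (LK LD1_c13 LD2_c6 LD3_c45)))))))))))))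
theorem f807405 : Led Lsl_gt (LP (LK LD1_c14 LD2_c14 LD3_c27)) = (LP (LK LD1_c13 LD2_c6 LD3_c45)) :=
  Leop (Lpe (f807404 IH) (Lpn (LP (LK LD1_c14 LD2_c14 LD3_c27))))
theorem seed_1727 : LEOK LG_g (LK LD1_c14 LD2_c14 LD3_c27) :=
  Leoe_g (LK LD1_c14 LD2_c14 LD3_c27) (f807405 IH)
def v22513 : LQ := Led Lsl_dt (LP (LK LD1_c7 LD2_c38 LD3_c2))
theorem f807426 : Led Lsl_dt (LP (LK LD1_c7 LD2_c38 LD3_c2)) = v22513 :=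
  Lrfl
theorem f489058 : Led Lsl_gt (LP (LK LD1_c14 LD2_c19 LD3_c41)) = (LP (LK LD1_c22 LD2_c20 LD3_c5)) :=
  Lgr Lrot46 (Lpe (K37.f95157 IH) (Lpr_ft (K34.f95156 IH) (Lpr_at (K34.f489036 IH) (Lpn (LP (LK LD1_c22 LD2_c20 LD3_c5))))))
theorem f805872 : Led Lsl_ft (LP (LK LD1_c14 LD2_c19 LD3_c41)) = (LP (LK LD1_c14 LD2_c18 LD3_c7)) :=
  Lgr Lrot2 (Lpr_gt (f489058 IH) (Lpr_gt (K34.f486954 IH) (Lpr_af (f805864 IH) (Lpn (LP (LK LD1_c14 LD2_c18 LD3_c7))))))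
theorem f488972 : Led Lsl_bf (LP (LK LD1_c14 LD2_c19 LD3_c41)) = (LP (LK LD1_c7 LD2_c38 LD3_c8)) :=
  Lgr Lrot90 (Lpr_ct (K37.f488969 IH) (Lpr_bt (K37.f15156 IH) (Lpe (K37.f487013 IH) (Lpr_bt (K37.f487008 IH) (Lpr_ct (K37.f467724 IH) (Lpn (LP (LK LD1_c7 LD2_c38 LD3_c8))))))))
theorem f805880 : (LP (LK LD1_c7 LD2_c38 LD3_c8)) = v22366 :=
  (Llr Lrot61 (Lpe (f488972 IH) (Lpr_ft (f805872 IH) (Lpr_bt (K33.f12050 IH) (Lpr_ft (f805848 IH) (Lpn v22366)))))).symm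
def v7461 : LQ := Led Lsl_ft (LP (LK LD1_c3 LD2_c48 LD3_c34))
theorem f665713 : Led Lsl_ft (LP (LK LD1_c3 LD2_c48 LD3_c34)) = v7461 :=
  Lrfl
theorem f805887 : (LP (LK LD1_c7 LD2_c38 LD3_c3)) = v7461 :=
  (Llr Lrot108 (Lpe (K33.f479181 IH) (Lpr_ft (f805848 IH) (Lpq (f805880 IH) (Lpr_ct (K37.f478838 IH) (Lpr_ft (f665713 IH) (Lpn v7461))))))).symm
theorem f487036 : Led Lsl_dt (LP (LK LD1_c7 LD2_c38 LD3_c9)) = (LP (LK LD1_c3 LD2_c48 LD3_c34)) :=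
  Lre_d IH (LK LD1_c7 LD2_c38 LD3_c9) (LK LD1_c3 LD2_c48 LD3_c34) Lrfl Lrfl
theorem f130003 : Led Lsl_dt (LP (LK LD1_c7 LD2_c38 LD3_c3)) = (LP (LK LD1_c14 LD2_c23 LD3_c10)) :=
  Lre_d IH (LK LD1_c7 LD2_c38 LD3_c3) (LK LD1_c14 LD2_c23 LD3_c10) Lrfl Lrfl
theorem f805894 : Led Lsl_ff (LP (LK LD1_c7 LD2_c38 LD3_c9)) = (LP (LK LD1_c14 LD2_c23 LD3_c10)) :=
  Lgr Lrot19 (Lpr_dt (f487036 IH) (Lpr_ft (f665713 IH) (Lpq (f805887 IH) (Lpr_dt (f130003 IH) (Lpn (LP (LK LD1_c14 LD2_c23 LD3_c10)))))))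
theorem f805899 : Led Lsl_ft (LP (LK LD1_c7 LD2_c38 LD3_c9)) = (LP (LK LD1_c14 LD2_c23 LD3_c10)) :=
  Lgr Lrot48 (Lpr_ff (f805894 IH) (Lpn (LP (LK LD1_c14 LD2_c23 LD3_c10))))
theorem f805901 : Led Lsl_bt (LP (LK LD1_c14 LD2_c23 LD3_c15)) = (LP (LK LD1_c7 LD2_c38 LD3_c9)) :=
  Lre_b IH (LK LD1_c14 LD2_c23 LD3_c15) (LK LD1_c7 LD2_c38 LD3_c9) Lrfl Lrfl
theorem f130004 : Led Lsl_dt (LP (LK LD1_c14 LD2_c23 LD3_c10)) = (LP (LK LD1_c7 LD2_c38 LD3_c3)) :=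
  Lre_d IH (LK LD1_c14 LD2_c23 LD3_c10) (LK LD1_c7 LD2_c38 LD3_c3) Lrfl Lrfl
theorem f15248 : Led Lsl_dt (LP (LK LD1_c13 LD2_c8 LD3_c9)) = (LP (LK LD1_c22 LD2_c20 LD3_c8)) :=
  Lre_d IH (LK LD1_c13 LD2_c8 LD3_c9) (LK LD1_c22 LD2_c20 LD3_c8) Lrfl Lrfl
theorem f486942 : Led Lsl_bf (LP (LK LD1_c14 LD2_c23 LD3_c10)) = (LP (LK LD1_c22 LD2_c20 LD3_c8)) :=
  Lgr Lrot93 (Lpr_dt (f130004 IH) (Lpr_bt (K33.f486938 IH) (Lpr_dt (f15248 IH) (Lpn (LP (LK LD1_c22 LD2_c20 LD3_c8))))))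
theorem f486944 : Led Lsl_bt (LP (LK LD1_c14 LD2_c23 LD3_c10)) = (LP (LK LD1_c22 LD2_c20 LD3_c8)) :=
  Lgr Lrot127 (Lpr_bf (f486942 IH) (Lpn (LP (LK LD1_c22 LD2_c20 LD3_c8))))
theorem f805902 : Led Lsl_ff (LP (LK LD1_c14 LD2_c23 LD3_c15)) = (LP (LK LD1_c22 LD2_c20 LD3_c8)) :=
  Lgr Lrot25 (Lpr_bt (f805901 IH) (Lpr_ft (f805899 IH) (Lpr_bt (f486944 IH) (Lpn (LP (LK LD1_c22 LD2_c20 LD3_c8))))))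
theorem f487015 : Led Lsl_dt (LP (LK LD1_c14 LD2_c23 LD3_c15)) = (LP (LK LD1_c7 LD2_c38 LD3_c7)) :=
  Lre_d IH (LK LD1_c14 LD2_c23 LD3_c15) (LK LD1_c7 LD2_c38 LD3_c7) Lrfl Lrfl
theorem f805904 : Led Lsl_ft (LP (LK LD1_c7 LD2_c38 LD3_c7)) = (LP (LK LD1_c13 LD2_c8 LD3_c9)) :=
  Lgr Lrot54 (Lpe (f487015 IH) (Lpr_ff (f805902 IH) (Lpe (f15248 IH) (Lpn (LP (LK LD1_c13 LD2_c8 LD3_c9))))))
theorem f805908 : (LP (LK LD1_c13 LD2_c8 LD3_c1)) = v20339 :=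
  (Llr Lrot108 (Lpe (K37.f487013 IH) (Lpr_ft (f805904 IH) (Lpr_ct (K33.f15196 IH) (Lpr_ft (f786429 IH) (Lpn v20339)))))).symm
theorem f805937 : v20340 = (LP (LK LD1_c13 LD2_c8 LD3_c2)) :=
  (Llr Lrot26 (Lpe (f786435 IH) (Lpr_ff (f786430 IH) (Lpq (f805908 IH) (Lpr_gt (K37.f15153 IH) (Lpr_gt (K48.f15151 IH) (Lpn (LP (LK LD1_c13 LD2_c8 LD3_c2))))))))).symm
theorem f805942 : v22368 = (LP (LK LD1_c7 LD2_c38 LD3_c12)) :=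
  Lefun (Lecon (f805863 IH) (f805937 IH)) (K61.f487279 IH)
def v7460 : LQ := Led Lsl_at (LP (LK LD1_c3 LD2_c48 LD3_c34))
theorem f665705 : Led Lsl_at (LP (LK LD1_c3 LD2_c48 LD3_c34)) = v7460 :=
  Lrfl
theorem f665706 : Led Lsl_af (LP (LK LD1_c3 LD2_c48 LD3_c34)) = v7460 :=
  Lgr Lrot0 (Lpr_at (f665705 IH) (Lpn v7460))
theorem f665708 : Led Lsl_ft (LP (LK LD1_c3 LD2_c48 LD3_c35)) = v7460 :=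
  Lgr Lrot2 (Lpr_gt (K61.f116733 IH) (Lpr_gt (K37.f429003 IH) (Lpr_af (f665706 IH) (Lpn v7460))))
theorem f805949 : (LP (LK LD1_c7 LD2_c38 LD3_c2)) = v7460 :=
  (Llr Lrot108 (Lpe (K34.f485481 IH) (Lpr_ft (f805858 IH) (Lpqs (f805942 IH) (Lpr_ct (K61.f467914 IH) (Lpr_ft (f665708 IH) (Lpn v7460))))))).symm
theorem f486380 : Led Lsl_dt (LP (LK LD1_c7 LD2_c38 LD3_c13)) = (LP (LK LD1_c3 LD2_c48 LD3_c35)) :=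
  Lre_d IH (LK LD1_c7 LD2_c38 LD3_c13) (LK LD1_c3 LD2_c48 LD3_c35) Lrfl Lrfl
theorem f807429 : Led Lsl_ff (LP (LK LD1_c7 LD2_c38 LD3_c13)) = v22513 :=
  Lgr Lrot19 (Lpr_dt (f486380 IH) (Lpr_ft (f665708 IH) (Lpq (f805949 IH) (Lpr_dt (f807426 IH) (Lpn v22513)))))
theorem f807431 : Led Lsl_ft (LP (LK LD1_c7 LD2_c38 LD3_c13)) = v22513 :=
  Lgr Lrot48 (Lpr_ff (f807429 IH) (Lpn v22513))
theorem f807427 : Led Lsl_af (LP (LK LD1_c7 LD2_c38 LD3_c9)) = v22513 :=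
  Lgr Lrot117 (Lpr_dt (f487036 IH) (Lpr_at (f665705 IH) (Lpq (f805949 IH) (Lpr_dt (f807426 IH) (Lpn v22513)))))
theorem f488987 : Led Lsl_gt (LP (LK LD1_c14 LD2_c23 LD3_c17)) = (LP (LK LD1_c7 LD2_c38 LD3_c9)) :=
  Lre_g IH (LK LD1_c14 LD2_c23 LD3_c17) (LK LD1_c7 LD2_c38 LD3_c9) Lrfl Lrfl
theorem f807432 : Led Lsl_gt (LP (LK LD1_c7 LD2_c38 LD3_c13)) = (LP (LK LD1_c14 LD2_c23 LD3_c17)) :=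
  Lgr Lrot5 (Lpr_ft (f807431 IH) (Lpe (f807427 IH) (Lpe (f488987 IH) (Lpn (LP (LK LD1_c14 LD2_c23 LD3_c17))))))
theorem f807433 : Led Lsl_gt (LP (LK LD1_c7 LD2_c38 LD3_c13)) = (LP (LK LD1_c14 LD2_c23 LD3_c17)) :=
  Leop (Lpe (f807432 IH) (Lpn (LP (LK LD1_c7 LD2_c38 LD3_c13))))
theorem seed_1728 : LEOK LG_g (LK LD1_c7 LD2_c38 LD3_c13) :=
  Leoe_g (LK LD1_c7 LD2_c38 LD3_c13) (f807433 IH)
def v22536 : LQ := Led Lsl_at (LP (LK LD1_c7 LD2_c38 LD3_c27))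
theorem f807537 : Led Lsl_at (LP (LK LD1_c7 LD2_c38 LD3_c27)) = v22536 :=
  Lrfl
def v7468 : LQ := Led Lsl_at (LP (LK LD1_c3 LD2_c48 LD3_c42))
theorem f665731 : Led Lsl_at (LP (LK LD1_c3 LD2_c48 LD3_c42)) = v7468 :=
  Lrfl
theorem f665732 : Led Lsl_af (LP (LK LD1_c3 LD2_c48 LD3_c42)) = v7468 :=
  Lgr Lrot0 (Lpr_at (f665731 IH) (Lpn v7468))
theorem f807539 : Led Lsl_cf v7468 = v22536 :=
  Lgr Lrot1 (Lpe (f665732 IH) (Lpr_ct (K57.f64861 IH) (Lpr_at (f807537 IH) (Lpn v22536))))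
theorem f64872 : Led Lsl_gt (LP (LK LD1_c3 LD2_c48 LD3_c43)) = (LP (LK LD1_c1 LD2_c51 LD3_c22)) :=
  Lre_g IH (LK LD1_c3 LD2_c48 LD3_c43) (LK LD1_c1 LD2_c51 LD3_c22) Lrfl Lrfl
theorem f665736 : Led Lsl_ft (LP (LK LD1_c3 LD2_c48 LD3_c43)) = v7468 :=
  Lgr Lrot2 (Lpr_gt (f64872 IH) (Lpr_gt (K52.f64850 IH) (Lpr_af (f665732 IH) (Lpn v7468))))
theorem f665738 : Led Lsl_ff (LP (LK LD1_c3 LD2_c48 LD3_c43)) = v7468 :=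
  Lgr Lrot3 (Lpr_ft (f665736 IH) (Lpn v7468))
theorem f442312 : Led Lsl_ct (LP (LK LD1_c3 LD2_c48 LD3_c43)) = (LP (LK LD1_c7 LD2_c38 LD3_c31)) :=
  Lre_c IH (LK LD1_c3 LD2_c48 LD3_c43) (LK LD1_c7 LD2_c38 LD3_c31) Lrfl Lrfl
theorem f807541 : Led Lsl_ft (LP (LK LD1_c7 LD2_c38 LD3_c31)) = v22536 :=
  Lgr Lrot4 (Lpe (f442312 IH) (Lpr_ff (f665738 IH) (Lpr_cf (f807539 IH) (Lpn v22536))))
theorem f807538 : Led Lsl_af (LP (LK LD1_c7 LD2_c38 LD3_c27)) = v22536 :=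
  Lgr Lrot0 (Lpr_at (f807537 IH) (Lpn v22536))
theorem f117444 : Led Lsl_af (LP (LK LD1_c6 LD2_c37 LD3_c50)) = (LP (LK LD1_c12 LD2_c36 LD3_c59)) :=
  Lgr Lrot50 (Lpe (f110193 IH) (Lpr_at (K3.f110153 IH) (Lpr_et (K4.f117442 IH) (Lpn (LP (LK LD1_c12 LD2_c36 LD3_c59))))))
theorem f712379 : Led Lsl_gf (LP (LK LD1_c7 LD2_c38 LD3_c27)) = (LP (LK LD1_c6 LD2_c35 LD3_c28)) :=
  Lgr Lrot47 (Lpr_gt (K57.f712377 IH) (Lpr_af (f117444 IH) (Lpe (K4.f96683 IH) (Lpn (LP (LK LD1_c6 LD2_c35 LD3_c28))))))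
def v18949 : LQ := Led Lsl_gf (LP (LK LD1_c6 LD2_c35 LD3_c28))
theorem f776772 : Led Lsl_gf (LP (LK LD1_c6 LD2_c35 LD3_c28)) = v18949 :=
  Lrfl
theorem f807548 : (LP (LK LD1_c7 LD2_c38 LD3_c31)) = v18949 :=
  (Llr Lrot52 (Lpr_ft (f807541 IH) (Lpe (f807538 IH) (Lpr_gf (f712379 IH) (Lpr_gf (f776772 IH) (Lpn v18949)))))).symm
theorem f807549 : Led Lsl_gt (LP (LK LD1_c7 LD2_c38 LD3_c31)) = (LP (LK LD1_c6 LD2_c35 LD3_c28)) :=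
  Leop (Lpr_gf (f776772 IH) (Lpq (f807548 IH) (Lpn (LP (LK LD1_c7 LD2_c38 LD3_c31)))))
theorem seed_1729 : LEOK LG_g (LK LD1_c7 LD2_c38 LD3_c31) :=
  Leoe_g (LK LD1_c7 LD2_c38 LD3_c31) (f807549 IH)
theorem f442313 : Led Lsl_dt (LP (LK LD1_c14 LD2_c24 LD3_c6)) = (LP (LK LD1_c7 LD2_c38 LD3_c31)) :=
  Lre_d IH (LK LD1_c14 LD2_c24 LD3_c6) (LK LD1_c7 LD2_c38 LD3_c31) Lrfl Lrfl
theorem f807553 : Led Lsl_et (LP (LK LD1_c14 LD2_c24 LD3_c6)) = (LP (LK LD1_c24 LD2_c2 LD3_c54)) :=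
  Lre_e IH (LK LD1_c14 LD2_c24 LD3_c6) (LK LD1_c24 LD2_c2 LD3_c54) Lrfl Lrfl
theorem f96689 : Led Lsl_dt (LP (LK LD1_c12 LD2_c36 LD3_c58)) = (LP (LK LD1_c6 LD2_c35 LD3_c28)) :=
  Lre_d IH (LK LD1_c12 LD2_c36 LD3_c58) (LK LD1_c6 LD2_c35 LD3_c28) Lrfl Lrfl
theorem f112286 : Led Lsl_et (LP (LK LD1_c12 LD2_c36 LD3_c58)) = (LP (LK LD1_c6 LD2_c35 LD3_c30)) :=
  Lre_e IH (LK LD1_c12 LD2_c36 LD3_c58) (LK LD1_c6 LD2_c35 LD3_c30) Lrfl Lrfl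
def v22145 : LQ := Led Lsl_gf (LP (LK LD1_c7 LD2_c31 LD3_c52))
theorem f801612 : Led Lsl_gf (LP (LK LD1_c7 LD2_c31 LD3_c52)) = v22145 :=
  Lrfl
theorem f66059 : Led Lsl_ft (LP (LK LD1_c12 LD2_c35 LD3_c40)) = (LP (LK LD1_c6 LD2_c34 LD3_c37)) :=
  Lre_f IH (LK LD1_c12 LD2_c35 LD3_c40) (LK LD1_c6 LD2_c34 LD3_c37) Lrfl Lrfl
theorem f772506 : Led Lsl_af (LP (LK LD1_c7 LD2_c31 LD3_c52)) = (LP (LK LD1_c6 LD2_c34 LD3_c37)) :=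
  Lgr Lrot45 (Lpr_ft (K59.f772504 IH) (Lpr_at (K59.f753961 IH) (Lpr_ft (f66059 IH) (Lpn (LP (LK LD1_c6 LD2_c34 LD3_c37))))))
theorem f801613 : Led Lsl_gt (LP (LK LD1_c12 LD2_c35 LD3_c40)) = v22145 :=
  Lgr Lrot5 (Lpr_ft (f66059 IH) (Lpe (f772506 IH) (Lpr_gf (f801612 IH) (Lpn v22145))))
theorem f773249 : Led Lsl_ft (LP (LK LD1_c21 LD2_c50 LD3_c30)) = (LP (LK LD1_c21 LD2_c48 LD3_c33)) :=
  Lgr Lrot4 (Lpr_cf (K60.f773236 IH) (Lpe (K59.f772458 IH) (Lpr_cf (K59.f769296 IH) (Lpn (LP (LK LD1_c21 LD2_c48 LD3_c33))))))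
theorem f777574 : Led Lsl_gt (LP (LK LD1_c30 LD2_c9 LD3_c31)) = (LP (LK LD1_c21 LD2_c50 LD3_c32)) :=
  Lgr Lrot46 (Lpr_gf (K60.f777572 IH) (Lpr_ft (f773249 IH) (Lpr_at (K59.f772464 IH) (Lpn (LP (LK LD1_c21 LD2_c50 LD3_c32))))))
theorem f769502 : Led Lsl_dt (LP (LK LD1_c21 LD2_c48 LD3_c14)) = (LP (LK LD1_c30 LD2_c9 LD3_c31)) :=
  Lre_d IH (LK LD1_c21 LD2_c48 LD3_c14) (LK LD1_c30 LD2_c9 LD3_c31) Lrfl Lrfl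
theorem f119532 : Led Lsl_ct (LP (LK LD1_c12 LD2_c41 LD3_c32)) = (LP (LK LD1_c6 LD2_c37 LD3_c53)) :=
  Lre_c IH (LK LD1_c12 LD2_c41 LD3_c32) (LK LD1_c6 LD2_c37 LD3_c53) Lrfl Lrfl
theorem f801616 : Led Lsl_dt (LP (LK LD1_c12 LD2_c41 LD3_c29)) = v22145 :=
  Lgr Lrot57 (Lpe (K60.f777737 IH) (Lpe (f119532 IH) (Lpe (K61.f787896 IH) (Lpr_dt (f769502 IH) (Lpr_gt (f777574 IH) (Lpr_dt (K59.f650883 IH) (Lpr_cf (K59.f769405 IH) (Lpe (K58.f769438 IH) (Lpr_gf (f801612 IH) (Lpn v22145))))))))))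
theorem f801620 : Led Lsl_et (LP (LK LD1_c12 LD2_c41 LD3_c29)) = (LP (LK LD1_c21 LD2_c48 LD3_c12)) :=
  Lre_e IH (LK LD1_c12 LD2_c41 LD3_c29) (LK LD1_c21 LD2_c48 LD3_c12) Lrfl Lrfl
theorem f807557 : Led Lsl_gf (LP (LK LD1_c24 LD2_c2 LD3_c54)) = (LP (LK LD1_c21 LD2_c48 LD3_c12)) :=
  Lgr Lrot141 (Lpe (f807553 IH) (Lpr_dt (f442313 IH) (Lpqs (f807548 IH) (Lpe (f776772 IH) (Lpe (f96689 IH) (Lpr_et (f112286 IH) (Lpr_gt (K59.f96639 IH) (Lpr_dt (K61.f772550 IH) (Lpr_gt (f801613 IH) (Lpe (f801616 IH) (Lpr_et (f801620 IH) (Lpn (LP (LK LD1_c21 LD2_c48 LD3_c12))))))))))))))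
theorem f807558 : Led Lsl_gt (LP (LK LD1_c21 LD2_c48 LD3_c12)) = (LP (LK LD1_c24 LD2_c2 LD3_c54)) :=
  Leop (Lpr_gf (f807557 IH) (Lpn (LP (LK LD1_c21 LD2_c48 LD3_c12))))
theorem seed_1730 : LEOK LG_g (LK LD1_c21 LD2_c48 LD3_c12) :=
  Leoe_g (LK LD1_c21 LD2_c48 LD3_c12) (f807558 IH)
theorem f665739 : Led Lsl_bt (LP (LK LD1_c3 LD2_c48 LD3_c43)) = (LP (LK LD1_c7 LD2_c38 LD3_c30)) :=
  Lre_b IH (LK LD1_c3 LD2_c48 LD3_c43) (LK LD1_c7 LD2_c38 LD3_c30) Lrfl Lrfl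
theorem f807562 : Led Lsl_gt (LP (LK LD1_c14 LD2_c24 LD3_c0)) = (LP (LK LD1_c7 LD2_c38 LD3_c30)) :=
  Lre_g IH (LK LD1_c14 LD2_c24 LD3_c0) (LK LD1_c7 LD2_c38 LD3_c30) Lrfl Lrfl
theorem f112109 : Led Lsl_bf (LP (LK LD1_c5 LD2_c51 LD3_c10)) = (LP (LK LD1_c3 LD2_c47 LD3_c19)) :=
  Lgr Lrot96 (Lpr_et (K4.f112108 IH) (Lpr_bt (K4.f112096 IH) (Lpr_et (K4.f65015 IH) (Lpn (LP (LK LD1_c3 LD2_c47 LD3_c19))))))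
theorem f427273 : Led Lsl_et (LP (LK LD1_c16 LD2_c58 LD3_c11)) = (LP (LK LD1_c11 LD2_c30 LD3_c8)) :=
  Lgr Lrot123 (Lpr_af (K52.f137265 IH) (Lpe (K8.f136611 IH) (Lpr_af (K56.f427267 IH) (Lpn (LP (LK LD1_c11 LD2_c30 LD3_c8))))))
theorem f117890 : Led Lsl_et (LP (LK LD1_c16 LD2_c57 LD3_c38)) = (LP (LK LD1_c11 LD2_c25 LD3_c20)) :=
  Lgr Lrot87 (Lpr_ef (K5.f117859 IH) (Lpn (LP (LK LD1_c11 LD2_c25 LD3_c20))))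
theorem f427275 : Led Lsl_cf (LP (LK LD1_c16 LD2_c57 LD3_c38)) = (LP (LK LD1_c11 LD2_c30 LD3_c8)) :=
  Lgr Lrot39 (Lpr_et (f117890 IH) (Lpe (K52.f137271 IH) (Lpr_et (f427273 IH) (Lpn (LP (LK LD1_c11 LD2_c30 LD3_c8))))))
theorem f807563 : Led Lsl_bf (LP (LK LD1_c14 LD2_c24 LD3_c0)) = (LP (LK LD1_c11 LD2_c30 LD3_c8)) :=
  Lgr Lrot156 (Lpr_gt (f807562 IH) (Lpe (f665739 IH) (Lpr_ct (f442312 IH) (Lpqs (f807548 IH) (Lpe (f776772 IH) (Lpe (K4.f96670 IH) (Lpe (f112109 IH) (Lpr_gt (K56.f112208 IH) (Lpe (K56.f739485 IH) (Lpe (K56.f132410 IH) (Lpr_cf (f427275 IH) (Lpn (LP (LK LD1_c11 LD2_c30 LD3_c8))))))))))))))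
theorem f807571 : Led Lsl_ft (LP (LK LD1_c14 LD2_c24 LD3_c0)) = (LP (LK LD1_c11 LD2_c30 LD3_c6)) :=
  Lgr Lrot75 (Lpr_bf (f807563 IH) (Lpe (K56.f427266 IH) (Lpe (K56.f427226 IH) (Lpn (LP (LK LD1_c11 LD2_c30 LD3_c6))))))
theorem f427224 : Led Lsl_af (LP (LK LD1_c6 LD2_c55 LD3_c25)) = (LP (LK LD1_c11 LD2_c30 LD3_c6)) :=
  Lgr Lrot0 (Lpr_at (K56.f427222 IH) (Lpn (LP (LK LD1_c11 LD2_c30 LD3_c6))))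
def v20363 : LQ := Led Lsl_ft (LP (LK LD1_c6 LD2_c55 LD3_c25))
theorem f786592 : Led Lsl_ft (LP (LK LD1_c6 LD2_c55 LD3_c25)) = v20363 :=
  Lrfl
theorem f807575 : Led Lsl_af (LP (LK LD1_c14 LD2_c24 LD3_c0)) = v20363 :=
  Lgr Lrot45 (Lpr_ft (f807571 IH) (Lpe (f427224 IH) (Lpr_ft (f786592 IH) (Lpn v20363))))
theorem f114430 : Led Lsl_gt (LP (LK LD1_c6 LD2_c55 LD3_c25)) = (LP (LK LD1_c13 LD2_c9 LD3_c3)) :=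
  Lre_g IH (LK LD1_c6 LD2_c55 LD3_c25) (LK LD1_c13 LD2_c9 LD3_c3) Lrfl Lrfl
theorem f807636 : Led Lsl_gf (LP (LK LD1_c14 LD2_c24 LD3_c0)) = (LP (LK LD1_c13 LD2_c9 LD3_c3)) :=
  Lgr Lrot76 (Lpr_af (f807575 IH) (Lpe (f786592 IH) (Lpr_gt (f114430 IH) (Lpn (LP (LK LD1_c13 LD2_c9 LD3_c3))))))
theorem f807637 : Led Lsl_gt (LP (LK LD1_c13 LD2_c9 LD3_c3)) = (LP (LK LD1_c14 LD2_c24 LD3_c0)) :=
  Leop (Lpr_gf (f807636 IH) (Lpn (LP (LK LD1_c13 LD2_c9 LD3_c3))))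
theorem seed_1731 : LEOK LG_g (LK LD1_c13 LD2_c9 LD3_c3) :=
  Leoe_g (LK LD1_c13 LD2_c9 LD3_c3) (f807637 IH)
theorem f64873 : Led Lsl_ct (LP (LK LD1_c7 LD2_c38 LD3_c31)) = (LP (LK LD1_c3 LD2_c48 LD3_c43)) :=
  Lre_c IH (LK LD1_c7 LD2_c38 LD3_c31) (LK LD1_c3 LD2_c48 LD3_c43) Lrfl Lrfl
theorem f64897 : Led Lsl_gt (LP (LK LD1_c21 LD2_c50 LD3_c23)) = (LP (LK LD1_c12 LD2_c43 LD3_c11)) :=
  Lre_g IH (LK LD1_c21 LD2_c50 LD3_c23) (LK LD1_c12 LD2_c43 LD3_c11) Lrfl Lrfl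
theorem f87457 : Led Lsl_ft (LP (LK LD1_c6 LD2_c37 LD3_c50)) = (LP (LK LD1_c3 LD2_c17 LD3_c13)) :=
  Lre_f IH (LK LD1_c6 LD2_c37 LD3_c50) (LK LD1_c3 LD2_c17 LD3_c13) Lrfl Lrfl
theorem f776773 : Led Lsl_gt (LP (LK LD1_c6 LD2_c37 LD3_c50)) = v18949 :=
  Lgr Lrot5 (Lpr_ft (f87457 IH) (Lpe (K4.f117962 IH) (Lpr_gf (f776772 IH) (Lpn v18949))))
theorem f87444 : Led Lsl_dt (LP (LK LD1_c12 LD2_c41 LD3_c25)) = (LP (LK LD1_c6 LD2_c37 LD3_c50)) :=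
  Lre_d IH (LK LD1_c12 LD2_c41 LD3_c25) (LK LD1_c6 LD2_c37 LD3_c50) Lrfl Lrfl
theorem f807670 : Led Lsl_cf (LP (LK LD1_c21 LD2_c50 LD3_c23)) = (LP (LK LD1_c21 LD2_c42 LD3_c40)) :=
  Lgr Lrot169 (Lpr_gt (f64897 IH) (Lpr_ct (K4.f64843 IH) (Lpe (K4.f64284 IH) (Lpe (K4.f64836 IH) (Lpe (f64872 IH) (Lpe (f64873 IH) (Lpqs (f807548 IH) (Lpe (f776773 IH) (Lpe (f87444 IH) (Lpe (K57.f119558 IH) (Lpn (LP (LK LD1_c21 LD2_c42 LD3_c40)))))))))))))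
theorem f64893 : Led Lsl_dt (LP (LK LD1_c12 LD2_c43 LD3_c11)) = (LP (LK LD1_c21 LD2_c50 LD3_c24)) :=
  Lre_d IH (LK LD1_c12 LD2_c43 LD3_c11) (LK LD1_c21 LD2_c50 LD3_c24) Lrfl Lrfl
theorem f712504 : Led Lsl_gt (LP (LK LD1_c21 LD2_c50 LD3_c24)) = (LP (LK LD1_c30 LD2_c11 LD3_c15)) :=
  Lre_g IH (LK LD1_c21 LD2_c50 LD3_c24) (LK LD1_c30 LD2_c11 LD3_c15) Lrfl Lrfl
theorem f64862 : Led Lsl_dt (LP (LK LD1_c7 LD2_c38 LD3_c27)) = (LP (LK LD1_c14 LD2_c23 LD3_c54)) :=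
  Lre_d IH (LK LD1_c7 LD2_c38 LD3_c27) (LK LD1_c14 LD2_c23 LD3_c54) Lrfl Lrfl
theorem f64863 : Led Lsl_ct (LP (LK LD1_c24 LD2_c2 LD3_c29)) = (LP (LK LD1_c14 LD2_c23 LD3_c54)) :=
  Lre_c IH (LK LD1_c24 LD2_c2 LD3_c29) (LK LD1_c14 LD2_c23 LD3_c54) Lrfl Lrfl
theorem f807676 : Led Lsl_dt (LP (LK LD1_c30 LD2_c11 LD3_c15)) = (LP (LK LD1_c24 LD2_c2 LD3_c29)) :=
  Lgr Lrot105 (Lpe (f712504 IH) (Lpe (f64893 IH) (Lpe (f64897 IH) (Lpr_cf (f807670 IH) (Lpr_gt (K57.f96743 IH) (Lpr_dt (f96689 IH) (Lpe (f712379 IH) (Lpr_dt (f64862 IH) (Lpe (f64863 IH) (Lpn (LP (LK LD1_c24 LD2_c2 LD3_c29))))))))))))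
theorem f64865 : Led Lsl_dt (LP (LK LD1_c14 LD2_c23 LD3_c54)) = (LP (LK LD1_c7 LD2_c38 LD3_c27)) :=
  Lre_d IH (LK LD1_c14 LD2_c23 LD3_c54) (LK LD1_c7 LD2_c38 LD3_c27) Lrfl Lrfl
theorem f64868 : Led Lsl_ct (LP (LK LD1_c7 LD2_c38 LD3_c27)) = (LP (LK LD1_c3 LD2_c48 LD3_c42)) :=
  Lre_c IH (LK LD1_c7 LD2_c38 LD3_c27) (LK LD1_c3 LD2_c48 LD3_c42) Lrfl Lrfl
theorem f64896 : Led Lsl_dt (LP (LK LD1_c3 LD2_c48 LD3_c43)) = (LP (LK LD1_c7 LD2_c38 LD3_c32)) :=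
  Lre_d IH (LK LD1_c3 LD2_c48 LD3_c43) (LK LD1_c7 LD2_c38 LD3_c32) Lrfl Lrfl
theorem f442311 : Led Lsl_ct (LP (LK LD1_c7 LD2_c38 LD3_c32)) = (LP (LK LD1_c14 LD2_c24 LD3_c8)) :=
  Lre_c IH (LK LD1_c7 LD2_c38 LD3_c32) (LK LD1_c14 LD2_c24 LD3_c8) Lrfl Lrfl
theorem f521731 : Led Lsl_dt (LP (LK LD1_c14 LD2_c24 LD3_c8)) = (LP (LK LD1_c24 LD2_c2 LD3_c59)) :=
  Lre_d IH (LK LD1_c14 LD2_c24 LD3_c8) (LK LD1_c24 LD2_c2 LD3_c59) Lrfl Lrfl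
theorem f807681 : Led Lsl_cf (LP (LK LD1_c30 LD2_c11 LD3_c15)) = (LP (LK LD1_c24 LD2_c2 LD3_c59)) :=
  Lgr Lrot116 (Lpr_dt (f807676 IH) (Lpr_ct (f64863 IH) (Lpr_dt (f64865 IH) (Lpr_ct (f64868 IH) (Lpr_af (f665732 IH) (Lpe (f665736 IH) (Lpr_dt (f64896 IH) (Lpr_ct (f442311 IH) (Lpr_dt (f521731 IH) (Lpn (LP (LK LD1_c24 LD2_c2 LD3_c59))))))))))))
theorem f807682 : Led Lsl_ct (LP (LK LD1_c24 LD2_c2 LD3_c59)) = (LP (LK LD1_c30 LD2_c11 LD3_c15)) :=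
  Leop (Lpr_cf (f807681 IH) (Lpn (LP (LK LD1_c24 LD2_c2 LD3_c59))))
theorem seed_1732 : LEOK LG_c (LK LD1_c24 LD2_c2 LD3_c59) :=
  Leoe_c (LK LD1_c24 LD2_c2 LD3_c59) (f807682 IH)
def v22538 : LQ := Led Lsl_at (LP (LK LD1_c7 LD2_c38 LD3_c28))
theorem f807713 : Led Lsl_at (LP (LK LD1_c7 LD2_c38 LD3_c28)) = v22538 :=
  Lrfl
theorem f64851 : Led Lsl_dt (LP (LK LD1_c3 LD2_c48 LD3_c42)) = (LP (LK LD1_c7 LD2_c38 LD3_c28)) :=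
  Lre_d IH (LK LD1_c3 LD2_c48 LD3_c42) (LK LD1_c7 LD2_c38 LD3_c28) Lrfl Lrfl
theorem f807716 : Led Lsl_df v7468 = v22538 :=
  Lgr Lrot18 (Lpe (f665732 IH) (Lpr_dt (f64851 IH) (Lpr_at (f807713 IH) (Lpn v22538))))
theorem f807718 : Led Lsl_ft (LP (LK LD1_c7 LD2_c38 LD3_c32)) = v22538 :=
  Lgr Lrot54 (Lpe (f64896 IH) (Lpr_ff (f665738 IH) (Lpr_df (f807716 IH) (Lpn v22538))))
theorem f807714 : Led Lsl_af (LP (LK LD1_c7 LD2_c38 LD3_c28)) = v22538 :=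
  Lgr Lrot0 (Lpr_at (f807713 IH) (Lpn v22538))
theorem f87745 : Led Lsl_gt (LP (LK LD1_c14 LD2_c23 LD3_c57)) = (LP (LK LD1_c7 LD2_c38 LD3_c28)) :=
  Lre_g IH (LK LD1_c14 LD2_c23 LD3_c57) (LK LD1_c7 LD2_c38 LD3_c28) Lrfl Lrfl
theorem f807721 : Led Lsl_gt (LP (LK LD1_c7 LD2_c38 LD3_c32)) = (LP (LK LD1_c14 LD2_c23 LD3_c57)) :=
  Lgr Lrot5 (Lpr_ft (f807718 IH) (Lpe (f807714 IH) (Lpe (f87745 IH) (Lpn (LP (LK LD1_c14 LD2_c23 LD3_c57))))))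
theorem f807722 : Led Lsl_gt (LP (LK LD1_c7 LD2_c38 LD3_c32)) = (LP (LK LD1_c14 LD2_c23 LD3_c57)) :=
  Leop (Lpe (f807721 IH) (Lpn (LP (LK LD1_c7 LD2_c38 LD3_c32))))
theorem seed_1733 : LEOK LG_g (LK LD1_c7 LD2_c38 LD3_c32) :=
  Leoe_g (LK LD1_c7 LD2_c38 LD3_c32) (f807722 IH)
def v22541 : LQ := Led Lsl_at (LP (LK LD1_c7 LD2_c38 LD3_c29))
theorem f807736 : Led Lsl_at (LP (LK LD1_c7 LD2_c38 LD3_c29)) = v22541 :=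
  Lrfl
theorem f88351 : Led Lsl_ft (LP (LK LD1_c14 LD2_c23 LD3_c61)) = (LP (LK LD1_c7 LD2_c38 LD3_c29)) :=
  Lre_f IH (LK LD1_c14 LD2_c23 LD3_c61) (LK LD1_c7 LD2_c38 LD3_c29) Lrfl Lrfl
theorem f807740 : Led Lsl_ff (LP (LK LD1_c14 LD2_c16 LD3_c61)) = v22541 :=
  Lgr Lrot30 (Lpe (f805547 IH) (Lpr_ft (f88351 IH) (Lpr_at (f807736 IH) (Lpn v22541))))
theorem f807742 : Led Lsl_ft (LP (LK LD1_c14 LD2_c16 LD3_c61)) = v22541 :=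
  Lgr Lrot48 (Lpr_ff (f807740 IH) (Lpn v22541))
theorem f88329 : Led Lsl_et (LP (LK LD1_c3 LD2_c48 LD3_c42)) = (LP (LK LD1_c7 LD2_c38 LD3_c29)) :=
  Lre_e IH (LK LD1_c3 LD2_c48 LD3_c42) (LK LD1_c7 LD2_c38 LD3_c29) Lrfl Lrfl
theorem f807739 : Led Lsl_ef v7468 = v22541 :=
  Lgr Lrot20 (Lpe (f665732 IH) (Lpr_et (f88329 IH) (Lpr_at (f807736 IH) (Lpn v22541))))
theorem f521735 : Led Lsl_et (LP (LK LD1_c3 LD2_c48 LD3_c43)) = (LP (LK LD1_c7 LD2_c38 LD3_c33)) :=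
  Lre_e IH (LK LD1_c3 LD2_c48 LD3_c43) (LK LD1_c7 LD2_c38 LD3_c33) Lrfl Lrfl
theorem f665740 : Led Lsl_ft (LP (LK LD1_c7 LD2_c38 LD3_c33)) = (LP (LK LD1_c14 LD2_c24 LD3_c12)) :=
  Lre_f IH (LK LD1_c7 LD2_c38 LD3_c33) (LK LD1_c14 LD2_c24 LD3_c12) Lrfl Lrfl
theorem f807743 : Led Lsl_ef (LP (LK LD1_c14 LD2_c16 LD3_c61)) = (LP (LK LD1_c14 LD2_c24 LD3_c12)) :=
  Lgr Lrot21 (Lpr_ft (f807742 IH) (Lpe (f807739 IH) (Lpe (f665738 IH) (Lpr_et (f521735 IH) (Lpr_ft (f665740 IH) (Lpn (LP (LK LD1_c14 LD2_c24 LD3_c12))))))))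
theorem f807744 : Led Lsl_et (LP (LK LD1_c14 LD2_c24 LD3_c12)) = (LP (LK LD1_c14 LD2_c16 LD3_c61)) :=
  Leop (Lpr_ef (f807743 IH) (Lpn (LP (LK LD1_c14 LD2_c24 LD3_c12))))
theorem seed_1734 : LEOK LG_e (LK LD1_c14 LD2_c24 LD3_c12) :=
  Leoe_e (LK LD1_c14 LD2_c24 LD3_c12) (f807744 IH)
theorem f807737 : Led Lsl_af (LP (LK LD1_c7 LD2_c38 LD3_c29)) = v22541 :=
  Lgr Lrot0 (Lpr_at (f807736 IH) (Lpn v22541))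
theorem f88330 : Led Lsl_gt (LP (LK LD1_c14 LD2_c23 LD3_c60)) = (LP (LK LD1_c7 LD2_c38 LD3_c29)) :=
  Lre_g IH (LK LD1_c14 LD2_c23 LD3_c60) (LK LD1_c7 LD2_c38 LD3_c29) Lrfl Lrfl
theorem f807745 : Led Lsl_gt (LP (LK LD1_c14 LD2_c16 LD3_c61)) = (LP (LK LD1_c14 LD2_c23 LD3_c60)) :=
  Lgr Lrot5 (Lpr_ft (f807742 IH) (Lpe (f807737 IH) (Lpe (f88330 IH) (Lpn (LP (LK LD1_c14 LD2_c23 LD3_c60))))))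
theorem f807746 : Led Lsl_gt (LP (LK LD1_c14 LD2_c16 LD3_c61)) = (LP (LK LD1_c14 LD2_c23 LD3_c60)) :=
  Leop (Lpe (f807745 IH) (Lpn (LP (LK LD1_c14 LD2_c16 LD3_c61))))
theorem seed_1735 : LEOK LG_g (LK LD1_c14 LD2_c16 LD3_c61) :=
  Leoe_g (LK LD1_c14 LD2_c16 LD3_c61) (f807746 IH)
def v22542 : LQ := Led Lsl_ft (LP (LK LD1_c7 LD2_c38 LD3_c30))
theorem f807767 : Led Lsl_ft (LP (LK LD1_c7 LD2_c38 LD3_c30)) = v22542 :=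
  Lrfl
theorem f807770 : Led Lsl_ff (LP (LK LD1_c7 LD2_c38 LD3_c30)) = v22542 :=
  Lgr Lrot3 (Lpr_ft (f807767 IH) (Lpn v22542))
theorem f64902 : Led Lsl_bt (LP (LK LD1_c7 LD2_c38 LD3_c30)) = (LP (LK LD1_c3 LD2_c48 LD3_c43)) :=
  Lre_b IH (LK LD1_c7 LD2_c38 LD3_c30) (LK LD1_c3 LD2_c48 LD3_c43) Lrfl Lrfl
theorem f807772 : Led Lsl_bt v7468 = v22542 :=
  Lgr Lrot35 (Lpe (f665736 IH) (Lpe (f64902 IH) (Lpr_ff (f807770 IH) (Lpn v22542))))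
theorem f665733 : Led Lsl_at (LP (LK LD1_c14 LD2_c23 LD3_c50)) = (LP (LK LD1_c7 LD2_c38 LD3_c26)) :=
  Lre_a IH (LK LD1_c14 LD2_c23 LD3_c50) (LK LD1_c7 LD2_c38 LD3_c26) Lrfl Lrfl
theorem f665746 : Led Lsl_at (LP (LK LD1_c14 LD2_c24 LD3_c1)) = (LP (LK LD1_c7 LD2_c38 LD3_c30)) :=
  Lre_a IH (LK LD1_c14 LD2_c24 LD3_c1) (LK LD1_c7 LD2_c38 LD3_c30) Lrfl Lrfl
theorem f807638 : Led Lsl_ff (LP (LK LD1_c14 LD2_c24 LD3_c1)) = (LP (LK LD1_c13 LD2_c9 LD3_c3)) :=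
  Lgr Lrot52 (Lpr_at (f665746 IH) (Lpe (f807562 IH) (Lpr_gf (f807636 IH) (Lpn (LP (LK LD1_c13 LD2_c9 LD3_c3))))))
theorem f807768 : Led Lsl_af (LP (LK LD1_c13 LD2_c9 LD3_c3)) = v22542 :=
  Lgr Lrot45 (Lpe (f807638 IH) (Lpr_at (f665746 IH) (Lpr_ft (f807767 IH) (Lpn v22542))))
theorem f807773 : Led Lsl_bf (LP (LK LD1_c14 LD2_c23 LD3_c50)) = (LP (LK LD1_c13 LD2_c9 LD3_c3)) :=
  Lgr Lrot81 (Lpr_at (f665733 IH) (Lpr_bt (K52.f87749 IH) (Lpr_at (f665731 IH) (Lpr_bt (f807772 IH) (Lpe (f807768 IH) (Lpn (LP (LK LD1_c13 LD2_c9 LD3_c3))))))))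
theorem f807774 : Led Lsl_bt (LP (LK LD1_c13 LD2_c9 LD3_c3)) = (LP (LK LD1_c14 LD2_c23 LD3_c50)) :=
  Leop (Lpr_bf (f807773 IH) (Lpn (LP (LK LD1_c13 LD2_c9 LD3_c3))))
theorem seed_1736 : LEOK LG_b (LK LD1_c13 LD2_c9 LD3_c3) :=
  Leoe_b (LK LD1_c13 LD2_c9 LD3_c3) (f807774 IH)
def v22578 : LQ := Led Lsl_et (LP (LK LD1_c7 LD2_c39 LD3_c15))
theorem f808467 : Led Lsl_et (LP (LK LD1_c7 LD2_c39 LD3_c15)) = v22578 :=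
  Lrfl
theorem f808468 : Led Lsl_ef (LP (LK LD1_c7 LD2_c39 LD3_c15)) = v22578 :=
  Lgr Lrot88 (Lpr_et (f808467 IH) (Lpn v22578))
theorem f483351 : Led Lsl_et (LP (LK LD1_c13 LD2_c19 LD3_c42)) = (LP (LK LD1_c22 LD2_c36 LD3_c11)) :=
  Lre_e IH (LK LD1_c13 LD2_c19 LD3_c42) (LK LD1_c22 LD2_c36 LD3_c11) Lrfl Lrfl
theorem f483346 : Led Lsl_ct (LP (LK LD1_c13 LD2_c48 LD3_c61)) = (LP (LK LD1_c13 LD2_c19 LD3_c42)) :=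
  Lgr Lrot59 (Lpr_cf (K43.f483342 IH) (Lpn (LP (LK LD1_c13 LD2_c19 LD3_c42))))
theorem f611447 : Led Lsl_ef (LP (LK LD1_c13 LD2_c48 LD3_c61)) = (LP (LK LD1_c23 LD2_c4 LD3_c11)) :=
  Lgr Lrot28 (Lpr_ct (f483346 IH) (Lpr_et (f483351 IH) (Lpr_ct (K47.f611443 IH) (Lpn (LP (LK LD1_c23 LD2_c4 LD3_c11))))))
def v7388 : LQ := Led Lsl_ft (LP (LK LD1_c3 LD2_c46 LD3_c23))
theorem f664867 : Led Lsl_ft (LP (LK LD1_c3 LD2_c46 LD3_c23)) = v7388 :=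
  Lrfl
theorem f664870 : Led Lsl_ef (LP (LK LD1_c7 LD2_c18 LD3_c6)) = v7388 :=
  Lgr Lrot21 (Lpr_ft (K43.f467058 IH) (Lpr_et (K45.f109056 IH) (Lpe (K3.f109043 IH) (Lpr_et (K47.f109055 IH) (Lpr_ft (f664867 IH) (Lpn v7388))))))
theorem f805229 : Led Lsl_ff (LP (LK LD1_c7 LD2_c33 LD3_c50)) = v22266 :=
  Lgr Lrot3 (Lpr_ft (f805224 IH) (Lpn v22266))
theorem f805234 : Led Lsl_dt v7388 = v22266 :=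
  Lgr Lrot60 (Lpe (f664867 IH) (Lpe (K41.f523481 IH) (Lpr_ff (f805229 IH) (Lpn v22266))))
theorem f566916 : Led Lsl_gt (LP (LK LD1_c20 LD2_c33 LD3_c11)) = (LP (LK LD1_c11 LD2_c35 LD3_c12)) :=
  Lre_g IH (LK LD1_c20 LD2_c33 LD3_c11) (LK LD1_c11 LD2_c35 LD3_c12) Lrfl Lrfl
theorem f805236 : Led Lsl_gf (LP (LK LD1_c20 LD2_c33 LD3_c11)) = v22266 :=
  Lgr Lrot47 (Lpr_gt (f566916 IH) (Lpr_af (K41.f566917 IH) (Lpr_ff (f805229 IH) (Lpn v22266))))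
theorem f808469 : Led Lsl_df (LP (LK LD1_c20 LD2_c33 LD3_c11)) = v22578 :=
  Lgr Lrot168 (Lpr_gf (f805236 IH) (Lpe (f805234 IH) (Lpe (f664870 IH) (Lpe (K43.f467070 IH) (Lpr_ef (f611447 IH) (Lpe (K47.f611451 IH) (Lpe (K47.f481429 IH) (Lpe (K33.f481068 IH) (Lpr_gf (K33.f487818 IH) (Lpr_ef (f808468 IH) (Lpn v22578)))))))))))
theorem f808471 : Led Lsl_et (LP (LK LD1_c20 LD2_c33 LD3_c11)) = (LP (LK LD1_c29 LD2_c30 LD3_c15)) :=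
  Lre_e IH (LK LD1_c20 LD2_c33 LD3_c11) (LK LD1_c29 LD2_c30 LD3_c15) Lrfl Lrfl
theorem f487820 : Led Lsl_dt (LP (LK LD1_c14 LD2_c25 LD3_c36)) = (LP (LK LD1_c7 LD2_c39 LD3_c15)) :=
  Lre_d IH (LK LD1_c14 LD2_c25 LD3_c36) (LK LD1_c7 LD2_c39 LD3_c15) Lrfl Lrfl
theorem f488169 : Led Lsl_et (LP (LK LD1_c24 LD2_c5 LD3_c28)) = (LP (LK LD1_c14 LD2_c25 LD3_c36)) :=
  Lre_e IH (LK LD1_c24 LD2_c5 LD3_c28) (LK LD1_c14 LD2_c25 LD3_c36) Lrfl Lrfl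
theorem f808472 : Led Lsl_dt (LP (LK LD1_c29 LD2_c30 LD3_c15)) = (LP (LK LD1_c24 LD2_c5 LD3_c28)) :=
  Lgr Lrot77 (Lpe (f808471 IH) (Lpr_df (f808469 IH) (Lpe (f808467 IH) (Lpe (f487820 IH) (Lpe (f488169 IH) (Lpn (LP (LK LD1_c24 LD2_c5 LD3_c28))))))))
theorem f808473 : Led Lsl_dt (LP (LK LD1_c29 LD2_c30 LD3_c15)) = (LP (LK LD1_c24 LD2_c5 LD3_c28)) :=
  Leop (Lpe (f808472 IH) (Lpn (LP (LK LD1_c29 LD2_c30 LD3_c15))))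
theorem seed_1737 : LEOK LG_d (LK LD1_c29 LD2_c30 LD3_c15) :=
  Leoe_d (LK LD1_c29 LD2_c30 LD3_c15) (f808473 IH)
def v22599 : LQ := Led Lsl_gf (LP (LK LD1_c7 LD2_c39 LD3_c46))
theorem f808577 : Led Lsl_gf (LP (LK LD1_c7 LD2_c39 LD3_c46)) = v22599 :=
  Lrfl
theorem f514069 : Led Lsl_at (LP (LK LD1_c22 LD2_c41 LD3_c50)) = (LP (LK LD1_c14 LD2_c26 LD3_c26)) :=
  Lgr Lrot100 (Lpr_af (K47.f514067 IH) (Lpn (LP (LK LD1_c14 LD2_c26 LD3_c26))))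
theorem f808579 : Led Lsl_ff (LP (LK LD1_c22 LD2_c41 LD3_c50)) = v22599 :=
  Lgr Lrot52 (Lpr_at (f514069 IH) (Lpe (K47.f157550 IH) (Lpr_gf (f808577 IH) (Lpn v22599))))
theorem f808582 : Led Lsl_ft (LP (LK LD1_c22 LD2_c41 LD3_c50)) = v22599 :=
  Lgr Lrot48 (Lpr_ff (f808579 IH) (Lpn v22599))
theorem f674356 : Led Lsl_ff (LP (LK LD1_c7 LD2_c3 LD3_c35)) = K49.v9210 :=
  Lgr Lrot23 (Lpr_ct (K5.f87962 IH) (Lpr_ft (K34.f527211 IH) (Lpr_ct (K49.f674352 IH) (Lpn K49.v9210))))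
theorem f88024 : Led Lsl_dt (LP (LK LD1_c7 LD2_c3 LD3_c35)) = (LP (LK LD1_c13 LD2_c23 LD3_c15)) :=
  Lre_d IH (LK LD1_c7 LD2_c3 LD3_c35) (LK LD1_c13 LD2_c23 LD3_c15) Lrfl Lrfl
theorem f674361 : Led Lsl_ff K49.v7499 = (LP (LK LD1_c13 LD2_c23 LD3_c15)) :=
  Lgr Lrot19 (Lpr_dt (K49.f674358 IH) (Lpe (f674356 IH) (Lpr_dt (f88024 IH) (Lpn (LP (LK LD1_c13 LD2_c23 LD3_c15))))))
theorem f674368 : Led Lsl_ft K49.v7499 = (LP (LK LD1_c13 LD2_c23 LD3_c15)) :=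
  Lgr Lrot48 (Lpr_ff (f674361 IH) (Lpn (LP (LK LD1_c13 LD2_c23 LD3_c15))))
theorem f520085 : Led Lsl_bt (LP (LK LD1_c7 LD2_c35 LD3_c17)) = (LP (LK LD1_c14 LD2_c18 LD3_c22)) :=
  Lre_b IH (LK LD1_c7 LD2_c35 LD3_c17) (LK LD1_c14 LD2_c18 LD3_c22) Lrfl Lrfl
theorem f520086 : Led Lsl_ft (LP (LK LD1_c3 LD2_c49 LD3_c36)) = (LP (LK LD1_c7 LD2_c35 LD3_c17)) :=
  Lgr Lrot75 (Lpe (K33.f520084 IH) (Lpr_ff (K33.f520081 IH) (Lpe (f520085 IH) (Lpn (LP (LK LD1_c7 LD2_c35 LD3_c17))))))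
theorem f520224 : Led Lsl_af (LP (LK LD1_c3 LD2_c49 LD3_c38)) = (LP (LK LD1_c7 LD2_c35 LD3_c17)) :=
  Lgr Lrot117 (Lpr_dt (K33.f451102 IH) (Lpr_at (K33.f520112 IH) (Lpr_dt (K33.f89212 IH) (Lpn (LP (LK LD1_c7 LD2_c35 LD3_c17))))))
theorem f666124 : Led Lsl_gf (LP (LK LD1_c3 LD2_c49 LD3_c38)) = K49.v7499 :=
  Lgr Lrot76 (Lpr_af (f520224 IH) (Lpe (f520086 IH) (Lpr_gt (K49.f666123 IH) (Lpn K49.v7499))))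
def v7500 : LQ := Led Lsl_gf (LP (LK LD1_c3 LD2_c49 LD3_c36))
theorem f666125 : Led Lsl_gf (LP (LK LD1_c3 LD2_c49 LD3_c36)) = v7500 :=
  Lrfl
theorem f520261 : Led Lsl_at (LP (LK LD1_c7 LD2_c35 LD3_c15)) = (LP (LK LD1_c3 LD2_c49 LD3_c36)) :=
  Lgr Lrot100 (Lpr_af (K33.f520259 IH) (Lpn (LP (LK LD1_c3 LD2_c49 LD3_c36))))
theorem f451101 : Led Lsl_dt (LP (LK LD1_c1 LD2_c51 LD3_c48)) = (LP (LK LD1_c3 LD2_c49 LD3_c38)) :=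
  Lre_d IH (LK LD1_c1 LD2_c51 LD3_c48) (LK LD1_c3 LD2_c49 LD3_c38) Lrfl Lrfl
theorem f520236 : Led Lsl_ft (LP (LK LD1_c3 LD2_c49 LD3_c38)) = (LP (LK LD1_c7 LD2_c35 LD3_c15)) :=
  Lgr Lrot54 (Lpe (f451101 IH) (Lpr_ff (K33.f520228 IH) (Lpe (K33.f92393 IH) (Lpn (LP (LK LD1_c7 LD2_c35 LD3_c15))))))
theorem f666126 : Led Lsl_gt (LP (LK LD1_c3 LD2_c49 LD3_c38)) = v7500 :=
  Lgr Lrot5 (Lpr_ft (f520236 IH) (Lpr_at (f520261 IH) (Lpr_gf (f666125 IH) (Lpn v7500))))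
theorem f674372 : Led Lsl_af v7500 = (LP (LK LD1_c13 LD2_c23 LD3_c15)) :=
  Lgr Lrot31 (Lpe (f666126 IH) (Lpr_gf (f666124 IH) (Lpr_ft (f674368 IH) (Lpn (LP (LK LD1_c13 LD2_c23 LD3_c15))))))
theorem f674353 : Led Lsl_af (LP (LK LD1_c7 LD2_c4 LD3_c2)) = K49.v9210 :=
  Lgr Lrot68 (Lpr_ct (K47.f461840 IH) (Lpr_at (K34.f527207 IH) (Lpr_ct (K49.f674352 IH) (Lpn K49.v9210))))
theorem f674359 : Led Lsl_af K49.v7499 = (LP (LK LD1_c13 LD2_c23 LD3_c55)) :=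
  Lgr Lrot117 (Lpr_dt (K49.f674358 IH) (Lpe (f674353 IH) (Lpr_dt (K33.f461832 IH) (Lpn (LP (LK LD1_c13 LD2_c23 LD3_c55))))))
theorem f674374 : Led Lsl_ft v7500 = (LP (LK LD1_c13 LD2_c23 LD3_c55)) :=
  Lgr Lrot101 (Lpr_af (f674372 IH) (Lpe (f674368 IH) (Lpr_af (f674359 IH) (Lpn (LP (LK LD1_c13 LD2_c23 LD3_c55))))))
theorem f808584 : Led Lsl_bf v7500 = v22599 :=
  Lgr Lrot61 (Lpr_ft (f674374 IH) (Lpr_bt (K33.f478016 IH) (Lpr_ft (f808582 IH) (Lpn v22599))))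
theorem f674373 : Led Lsl_at v7500 = (LP (LK LD1_c13 LD2_c23 LD3_c15)) :=
  Lgr Lrot100 (Lpr_af (f674372 IH) (Lpn (LP (LK LD1_c13 LD2_c23 LD3_c15))))
theorem f661988 : Led Lsl_bt (LP (LK LD1_c13 LD2_c23 LD3_c15)) = (LP (LK LD1_c22 LD2_c41 LD3_c3)) :=
  Lre_b IH (LK LD1_c13 LD2_c23 LD3_c15) (LK LD1_c22 LD2_c41 LD3_c3) Lrfl Lrfl
theorem f487282 : Led Lsl_dt (LP (LK LD1_c14 LD2_c23 LD3_c23)) = (LP (LK LD1_c7 LD2_c38 LD3_c12)) :=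
  Lre_d IH (LK LD1_c14 LD2_c23 LD3_c23) (LK LD1_c7 LD2_c38 LD3_c12) Lrfl Lrfl
theorem f12047 : Led Lsl_dt (LP (LK LD1_c7 LD2_c35 LD3_c8)) = (LP (LK LD1_c14 LD2_c18 LD3_c8)) :=
  Lre_d IH (LK LD1_c7 LD2_c35 LD3_c8) (LK LD1_c14 LD2_c18 LD3_c8) Lrfl Lrfl
theorem f806254 : Led Lsl_af (LP (LK LD1_c14 LD2_c23 LD3_c23)) = (LP (LK LD1_c14 LD2_c18 LD3_c8)) :=
  Lgr Lrot117 (Lpr_dt (f487282 IH) (Lpq (f805942 IH) (Lpe (f805859 IH) (Lpr_dt (f12047 IH) (Lpn (LP (LK LD1_c14 LD2_c18 LD3_c8)))))))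
theorem f439695 : Led Lsl_dt (LP (LK LD1_c14 LD2_c18 LD3_c6)) = (LP (LK LD1_c7 LD2_c35 LD3_c7)) :=
  Lre_d IH (LK LD1_c14 LD2_c18 LD3_c6) (LK LD1_c7 LD2_c35 LD3_c7) Lrfl Lrfl
theorem f487294 : Led Lsl_dt (LP (LK LD1_c7 LD2_c38 LD3_c12)) = (LP (LK LD1_c14 LD2_c23 LD3_c23)) :=
  Lre_d IH (LK LD1_c7 LD2_c38 LD3_c12) (LK LD1_c14 LD2_c23 LD3_c23) Lrfl Lrfl
theorem f805947 : Led Lsl_ff (LP (LK LD1_c14 LD2_c18 LD3_c6)) = (LP (LK LD1_c14 LD2_c23 LD3_c23)) :=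
  Lgr Lrot19 (Lpr_dt (f439695 IH) (Lpr_ft (f805858 IH) (Lpqs (f805942 IH) (Lpr_dt (f487294 IH) (Lpn (LP (LK LD1_c14 LD2_c23 LD3_c23)))))))
theorem f12048 : Led Lsl_dt (LP (LK LD1_c14 LD2_c18 LD3_c8)) = (LP (LK LD1_c7 LD2_c35 LD3_c8)) :=
  Lre_d IH (LK LD1_c14 LD2_c18 LD3_c8) (LK LD1_c7 LD2_c35 LD3_c8) Lrfl Lrfl
theorem f487034 : Led Lsl_dt (LP (LK LD1_c7 LD2_c38 LD3_c8)) = (LP (LK LD1_c14 LD2_c23 LD3_c16)) :=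
  Lre_d IH (LK LD1_c7 LD2_c38 LD3_c8) (LK LD1_c14 LD2_c23 LD3_c16) Lrfl Lrfl
theorem f805885 : Led Lsl_ff (LP (LK LD1_c14 LD2_c18 LD3_c8)) = (LP (LK LD1_c14 LD2_c23 LD3_c16)) :=
  Lgr Lrot19 (Lpr_dt (f12048 IH) (Lpr_ft (f805848 IH) (Lpq (f805880 IH) (Lpr_dt (f487034 IH) (Lpn (LP (LK LD1_c14 LD2_c23 LD3_c16)))))))
theorem f806262 : Led Lsl_at (LP (LK LD1_c14 LD2_c18 LD3_c6)) = (LP (LK LD1_c14 LD2_c23 LD3_c16)) :=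
  Lgr Lrot66 (Lpr_ff (f805947 IH) (Lpr_af (f806254 IH) (Lpr_ff (f805885 IH) (Lpn (LP (LK LD1_c14 LD2_c23 LD3_c16))))))
theorem f487031 : Led Lsl_gt (LP (LK LD1_c24 LD2_c1 LD3_c40)) = (LP (LK LD1_c14 LD2_c23 LD3_c16)) :=
  Lre_g IH (LK LD1_c24 LD2_c1 LD3_c40) (LK LD1_c14 LD2_c23 LD3_c16) Lrfl Lrfl
theorem f806268 : Led Lsl_gt (LP (LK LD1_c14 LD2_c23 LD3_c23)) = (LP (LK LD1_c24 LD2_c1 LD3_c40)) :=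
  Lgr Lrot5 (Lpe (f805947 IH) (Lpr_at (f806262 IH) (Lpe (f487031 IH) (Lpn (LP (LK LD1_c24 LD2_c1 LD3_c40))))))
theorem f458427 : Led Lsl_dt (LP (LK LD1_c13 LD2_c16 LD3_c54)) = (LP (LK LD1_c22 LD2_c32 LD3_c23)) :=
  Lre_d IH (LK LD1_c13 LD2_c16 LD3_c54) (LK LD1_c22 LD2_c32 LD3_c23) Lrfl Lrfl
theorem f655534 : Led Lsl_ff (LP (LK LD1_c13 LD2_c21 LD3_c35)) = (LP (LK LD1_c22 LD2_c32 LD3_c23)) :=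
  Lgr Lrot19 (Lpr_dt (K62.f655506 IH) (Lpr_ft (K46.f655504 IH) (Lpr_dt (f458427 IH) (Lpn (LP (LK LD1_c22 LD2_c32 LD3_c23))))))
theorem f656787 : Led Lsl_at (LP (LK LD1_c13 LD2_c21 LD3_c35)) = (LP (LK LD1_c7 LD2_c2 LD3_c43)) :=
  Lre_a IH (LK LD1_c13 LD2_c21 LD3_c35) (LK LD1_c7 LD2_c2 LD3_c43) Lrfl Lrfl
theorem f458523 : Led Lsl_gt (LP (LK LD1_c13 LD2_c21 LD3_c40)) = (LP (LK LD1_c7 LD2_c2 LD3_c43)) :=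
  Lre_g IH (LK LD1_c13 LD2_c21 LD3_c40) (LK LD1_c7 LD2_c2 LD3_c43) Lrfl Lrfl
theorem f656800 : Led Lsl_gf (LP (LK LD1_c13 LD2_c21 LD3_c40)) = (LP (LK LD1_c22 LD2_c32 LD3_c23)) :=
  Lgr Lrot47 (Lpr_gt (f458523 IH) (Lpe (f656787 IH) (Lpr_ff (f655534 IH) (Lpn (LP (LK LD1_c22 LD2_c32 LD3_c23))))))
theorem f656802 : Led Lsl_df (LP (LK LD1_c13 LD2_c21 LD3_c40)) = (LP (LK LD1_c7 LD2_c42 LD3_c18)) :=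
  Lgr Lrot132 (Lpr_gf (f656800 IH) (Lpe (f458427 IH) (Lpe (K48.f655548 IH) (Lpe (K46.f426598 IH) (Lpr_dt (K28.f426588 IH) (Lpe (K28.f66165 IH) (Lpe (K8.f64340 IH) (Lpr_et (K62.f136684 IH) (Lpe (K37.f12241 IH) (Lpe (K62.f136675 IH) (Lpn (LP (LK LD1_c7 LD2_c42 LD3_c18)))))))))))))
theorem f458522 : Led Lsl_dt (LP (LK LD1_c7 LD2_c2 LD3_c43)) = (LP (LK LD1_c3 LD2_c30 LD3_c23)) :=
  Lre_d IH (LK LD1_c7 LD2_c2 LD3_c43) (LK LD1_c3 LD2_c30 LD3_c23) Lrfl Lrfl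
theorem f458518 : Led Lsl_dt (LP (LK LD1_c13 LD2_c21 LD3_c38)) = (LP (LK LD1_c7 LD2_c2 LD3_c42)) :=
  Lre_d IH (LK LD1_c13 LD2_c21 LD3_c38) (LK LD1_c7 LD2_c2 LD3_c42) Lrfl Lrfl
theorem f492591 : Led Lsl_gt (LP (LK LD1_c13 LD2_c12 LD3_c35)) = (LP (LK LD1_c13 LD2_c12 LD3_c57)) :=
  Lgr Lrot5 (Lpr_ft (K34.f492500 IH) (Lpr_at (K34.f463941 IH) (Lpe (K34.f463944 IH) (Lpn (LP (LK LD1_c13 LD2_c12 LD3_c57))))))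
theorem f492593 : Led Lsl_dt (LP (LK LD1_c13 LD2_c12 LD3_c57)) = (LP (LK LD1_c22 LD2_c26 LD3_c58)) :=
  Lre_d IH (LK LD1_c13 LD2_c12 LD3_c57) (LK LD1_c22 LD2_c26 LD3_c58) Lrfl Lrfl
theorem f804575 : Led Lsl_gf (LP (LK LD1_c13 LD2_c21 LD3_c38)) = (LP (LK LD1_c22 LD2_c26 LD3_c58)) :=
  Lgr Lrot143 (Lpr_dt (f458518 IH) (Lpe (K61.f18978 IH) (Lpe (f458522 IH) (Lpe (f458523 IH) (Lpr_df (f656802 IH) (Lpr_gf (K62.f804571 IH) (Lpe (K34.f457914 IH) (Lpr_gt (f492591 IH) (Lpr_dt (f492593 IH) (Lpn (LP (LK LD1_c22 LD2_c26 LD3_c58))))))))))))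
theorem f458509 : Led Lsl_at (LP (LK LD1_c22 LD2_c38 LD3_c26)) = (LP (LK LD1_c13 LD2_c21 LD3_c38)) :=
  Lre_a IH (LK LD1_c22 LD2_c38 LD3_c26) (LK LD1_c13 LD2_c21 LD3_c38) Lrfl Lrfl
theorem f479876 : Led Lsl_bt (LP (LK LD1_c13 LD2_c3 LD3_c53)) = (LP (LK LD1_c6 LD2_c52 LD3_c10)) :=
  Lre_b IH (LK LD1_c13 LD2_c3 LD3_c53) (LK LD1_c6 LD2_c52 LD3_c10) Lrfl Lrfl
theorem f656582 : Led Lsl_ft (LP (LK LD1_c13 LD2_c21 LD3_c38)) = (LP (LK LD1_c13 LD2_c3 LD3_c53)) :=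
  Lgr Lrot75 (Lpr_bf (K46.f458510 IH) (Lpr_ff (K48.f656580 IH) (Lpe (f479876 IH) (Lpn (LP (LK LD1_c13 LD2_c3 LD3_c53))))))
theorem f656715 : Led Lsl_at (LP (LK LD1_c13 LD2_c3 LD3_c53)) = (LP (LK LD1_c22 LD2_c14 LD3_c3)) :=
  Lre_a IH (LK LD1_c13 LD2_c3 LD3_c53) (LK LD1_c22 LD2_c14 LD3_c3) Lrfl Lrfl
theorem f656716 : Led Lsl_ff (LP (LK LD1_c22 LD2_c38 LD3_c26)) = (LP (LK LD1_c22 LD2_c14 LD3_c3)) :=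
  Lgr Lrot30 (Lpr_at (f458509 IH) (Lpr_ft (f656582 IH) (Lpr_at (f656715 IH) (Lpn (LP (LK LD1_c22 LD2_c14 LD3_c3))))))
theorem f804577 : Led Lsl_gt (LP (LK LD1_c22 LD2_c14 LD3_c3)) = (LP (LK LD1_c22 LD2_c26 LD3_c58)) :=
  Lgr Lrot5 (Lpe (f656716 IH) (Lpr_at (f458509 IH) (Lpr_gf (f804575 IH) (Lpn (LP (LK LD1_c22 LD2_c26 LD3_c58))))))
theorem f458417 : Led Lsl_dt (LP (LK LD1_c13 LD2_c3 LD3_c52)) = (LP (LK LD1_c22 LD2_c14 LD3_c3)) :=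
  Lre_d IH (LK LD1_c13 LD2_c3 LD3_c52) (LK LD1_c22 LD2_c14 LD3_c3) Lrfl Lrfl
theorem f12232 : Led Lsl_et (LP (LK LD1_c1 LD2_c52 LD3_c9)) = (LP (LK LD1_c3 LD2_c50 LD3_c31)) :=
  Lre_e IH (LK LD1_c1 LD2_c52 LD3_c9) (LK LD1_c3 LD2_c50 LD3_c31) Lrfl Lrfl
theorem f804582 : Led Lsl_ef (LP (LK LD1_c7 LD2_c42 LD3_c5)) = (LP (LK LD1_c13 LD2_c12 LD3_c57)) :=
  Lgr Lrot114 (Lpr_gt (K48.f12320 IH) (Lpe (f12232 IH) (Lpr_dt (K5.f12283 IH) (Lpe (K6.f137300 IH) (Lpr_df (K7.f146490 IH) (Lpr_et (K62.f115871 IH) (Lpq (K62.f801891 IH) (Lpe (K62.f789260 IH) (Lpr_dt (f458417 IH) (Lpr_gt (f804577 IH) (Lpe (f492593 IH) (Lpn (LP (LK LD1_c13 LD2_c12 LD3_c57))))))))))))))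
theorem f804588 : Led Lsl_et (LP (LK LD1_c7 LD2_c42 LD3_c5)) = (LP (LK LD1_c13 LD2_c12 LD3_c57)) :=
  Lgr Lrot87 (Lpr_ef (f804582 IH) (Lpn (LP (LK LD1_c13 LD2_c12 LD3_c57))))
theorem f530380 : Led Lsl_cf (LP (LK LD1_c14 LD2_c41 LD3_c59)) = (LP (LK LD1_c13 LD2_c12 LD3_c57)) :=
  Lgr Lrot11 (Lpr_ct (K34.f530376 IH) (Lpn (LP (LK LD1_c13 LD2_c12 LD3_c57))))
theorem f804590 : Led Lsl_ef (LP (LK LD1_c13 LD2_c8 LD3_c2)) = (LP (LK LD1_c14 LD2_c41 LD3_c59)) :=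
  Lgr Lrot28 (Lpr_ct (K48.f486197 IH) (Lpr_et (f804588 IH) (Lpe (f530380 IH) (Lpn (LP (LK LD1_c14 LD2_c41 LD3_c59))))))
theorem f530378 : Led Lsl_bt (LP (LK LD1_c7 LD2_c47 LD3_c24)) = (LP (LK LD1_c14 LD2_c41 LD3_c59)) :=
  Lre_b IH (LK LD1_c7 LD2_c47 LD3_c24) (LK LD1_c14 LD2_c41 LD3_c59) Lrfl Lrfl
theorem f804597 : Led Lsl_et (LP (LK LD1_c7 LD2_c38 LD3_c12)) = (LP (LK LD1_c7 LD2_c47 LD3_c24)) :=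
  Lgr Lrot74 (Lpe (K61.f487279 IH) (Lpr_ef (f804590 IH) (Lpe (f530378 IH) (Lpn (LP (LK LD1_c7 LD2_c47 LD3_c24))))))
theorem f476368 : Led Lsl_et (LP (LK LD1_c1 LD2_c52 LD3_c61)) = (LP (LK LD1_c3 LD2_c52 LD3_c50)) :=
  Lre_e IH (LK LD1_c1 LD2_c52 LD3_c61) (LK LD1_c3 LD2_c52 LD3_c50) Lrfl Lrfl
theorem f514333 : Led Lsl_et (LP (LK LD1_c22 LD2_c41 LD3_c1)) = (LP (LK LD1_c13 LD2_c23 LD3_c11)) :=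
  Lre_e IH (LK LD1_c22 LD2_c41 LD3_c1) (LK LD1_c13 LD2_c23 LD3_c11) Lrfl Lrfl
theorem f806270 : Led Lsl_dt (LP (LK LD1_c22 LD2_c41 LD3_c1)) = (LP (LK LD1_c24 LD2_c1 LD3_c40)) :=
  Lgr Lrot37 (Lpr_et (f514333 IH) (Lpe (f803686 IH) (Lpr_dt (f476033 IH) (Lpr_gt (f458074 IH) (Lpe (K34.f475502 IH) (Lpr_et (f476368 IH) (Lpr_gt (K34.f63022 IH) (Lpe (f804597 IH) (Lpr_dt (f487294 IH) (Lpr_gt (f806268 IH) (Lpn (LP (LK LD1_c24 LD2_c1 LD3_c40)))))))))))))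
theorem f806274 : Led Lsl_df (LP (LK LD1_c22 LD2_c41 LD3_c1)) = (LP (LK LD1_c24 LD2_c1 LD3_c40)) :=
  Lgr Lrot38 (Lpr_dt (f806270 IH) (Lpn (LP (LK LD1_c24 LD2_c1 LD3_c40))))
theorem f674398 : Led Lsl_at (LP (LK LD1_c22 LD2_c41 LD3_c1)) = (LP (LK LD1_c13 LD2_c23 LD3_c13)) :=
  Lre_a IH (LK LD1_c22 LD2_c41 LD3_c1) (LK LD1_c13 LD2_c23 LD3_c13) Lrfl Lrfl
theorem f789516 : Led Lsl_dt (LP (LK LD1_c13 LD2_c23 LD3_c13)) = (LP (LK LD1_c22 LD2_c41 LD3_c3)) :=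
  Lre_d IH (LK LD1_c13 LD2_c23 LD3_c13) (LK LD1_c22 LD2_c41 LD3_c3) Lrfl Lrfl
theorem f806276 : Led Lsl_at (LP (LK LD1_c22 LD2_c41 LD3_c3)) = (LP (LK LD1_c24 LD2_c1 LD3_c40)) :=
  Lgr Lrot51 (Lpe (f789516 IH) (Lpe (f674398 IH) (Lpr_df (f806274 IH) (Lpn (LP (LK LD1_c24 LD2_c1 LD3_c40))))))
theorem f808580 : Led Lsl_at (LP (LK LD1_c22 LD2_c53 LD3_c1)) = v22599 :=
  Lgr Lrot66 (Lpr_ff (K47.f514077 IH) (Lpe (f514069 IH) (Lpr_ff (f808579 IH) (Lpn v22599))))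
theorem f808585 : Led Lsl_bt (LP (LK LD1_c24 LD2_c1 LD3_c40)) = (LP (LK LD1_c22 LD2_c53 LD3_c1)) :=
  Lgr Lrot62 (Lpe (f806276 IH) (Lpe (f661988 IH) (Lpe (f674373 IH) (Lpr_bf (f808584 IH) (Lpe (f808580 IH) (Lpn (LP (LK LD1_c22 LD2_c53 LD3_c1))))))))
theorem f808586 : Led Lsl_bt (LP (LK LD1_c24 LD2_c1 LD3_c40)) = (LP (LK LD1_c22 LD2_c53 LD3_c1)) :=
  Leop (Lpe (f808585 IH) (Lpn (LP (LK LD1_c24 LD2_c1 LD3_c40))))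
theorem seed_1738 : LEOK LG_b (LK LD1_c24 LD2_c1 LD3_c40) :=
  Leoe_b (LK LD1_c24 LD2_c1 LD3_c40) (f808586 IH)
def v22606 : LQ := Led Lsl_at (LP (LK LD1_c7 LD2_c39 LD3_c55))
theorem f808622 : Led Lsl_at (LP (LK LD1_c7 LD2_c39 LD3_c55)) = v22606 :=
  Lrfl
def v7494 : LQ := Led Lsl_at (LP (LK LD1_c3 LD2_c49 LD3_c30))
theorem f666048 : Led Lsl_at (LP (LK LD1_c3 LD2_c49 LD3_c30)) = v7494 :=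
  Lrfl
theorem f666049 : Led Lsl_af (LP (LK LD1_c3 LD2_c49 LD3_c30)) = v7494 :=
  Lgr Lrot0 (Lpr_at (f666048 IH) (Lpn v7494))
theorem f808625 : Led Lsl_df v7494 = v22606 :=
  Lgr Lrot18 (Lpe (f666049 IH) (Lpr_dt (K60.f87217 IH) (Lpr_at (f808622 IH) (Lpn v22606))))
theorem f666053 : Led Lsl_ft (LP (LK LD1_c3 LD2_c49 LD3_c31)) = v7494 :=
  Lgr Lrot2 (Lpr_gt (K58.f87233 IH) (Lpr_gt (K52.f87216 IH) (Lpr_af (f666049 IH) (Lpn v7494))))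
theorem f666055 : Led Lsl_ff (LP (LK LD1_c3 LD2_c49 LD3_c31)) = v7494 :=
  Lgr Lrot3 (Lpr_ft (f666053 IH) (Lpn v7494))
theorem f808627 : Led Lsl_ft (LP (LK LD1_c7 LD2_c39 LD3_c59)) = v22606 :=
  Lgr Lrot54 (Lpe (K61.f87335 IH) (Lpr_ff (f666055 IH) (Lpr_df (f808625 IH) (Lpn v22606))))
theorem f808623 : Led Lsl_af (LP (LK LD1_c7 LD2_c39 LD3_c55)) = v22606 :=
  Lgr Lrot0 (Lpr_at (f808622 IH) (Lpn v22606))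
theorem f89277 : Led Lsl_gt (LP (LK LD1_c14 LD2_c26 LD3_c48)) = (LP (LK LD1_c7 LD2_c39 LD3_c55)) :=
  Lre_g IH (LK LD1_c14 LD2_c26 LD3_c48) (LK LD1_c7 LD2_c39 LD3_c55) Lrfl Lrfl
theorem f808629 : Led Lsl_gt (LP (LK LD1_c7 LD2_c39 LD3_c59)) = (LP (LK LD1_c14 LD2_c26 LD3_c48)) :=
  Lgr Lrot5 (Lpr_ft (f808627 IH) (Lpe (f808623 IH) (Lpe (f89277 IH) (Lpn (LP (LK LD1_c14 LD2_c26 LD3_c48))))))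
theorem f808630 : Led Lsl_gt (LP (LK LD1_c7 LD2_c39 LD3_c59)) = (LP (LK LD1_c14 LD2_c26 LD3_c48)) :=
  Leop (Lpe (f808629 IH) (Lpn (LP (LK LD1_c7 LD2_c39 LD3_c59))))
theorem seed_1739 : LEOK LG_g (LK LD1_c7 LD2_c39 LD3_c59) :=
  Leoe_g (LK LD1_c7 LD2_c39 LD3_c59) (f808630 IH)
def v22609 : LQ := Led Lsl_at (LP (LK LD1_c7 LD2_c39 LD3_c56))
theorem f808646 : Led Lsl_at (LP (LK LD1_c7 LD2_c39 LD3_c56)) = v22609 :=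
  Lrfl
theorem f92672 : Led Lsl_ft (LP (LK LD1_c14 LD2_c26 LD3_c52)) = (LP (LK LD1_c7 LD2_c39 LD3_c56)) :=
  Lre_f IH (LK LD1_c14 LD2_c26 LD3_c52) (LK LD1_c7 LD2_c39 LD3_c56) Lrfl Lrfl
theorem f808650 : Led Lsl_ff (LP (LK LD1_c14 LD2_c14 LD3_c25)) = v22609 :=
  Lgr Lrot30 (Lpe (f804965 IH) (Lpr_ft (f92672 IH) (Lpr_at (f808646 IH) (Lpn v22609))))
theorem f808652 : Led Lsl_ft (LP (LK LD1_c14 LD2_c14 LD3_c25)) = v22609 :=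
  Lgr Lrot48 (Lpr_ff (f808650 IH) (Lpn v22609))
theorem f808649 : Led Lsl_ef v7494 = v22609 :=
  Lgr Lrot20 (Lpe (f666049 IH) (Lpr_et (K60.f92668 IH) (Lpr_at (f808646 IH) (Lpn v22609))))
theorem f666058 : Led Lsl_ft (LP (LK LD1_c7 LD2_c39 LD3_c60)) = (LP (LK LD1_c14 LD2_c27 LD3_c3)) :=
  Lre_f IH (LK LD1_c7 LD2_c39 LD3_c60) (LK LD1_c14 LD2_c27 LD3_c3) Lrfl Lrfl
theorem f808653 : Led Lsl_ef (LP (LK LD1_c14 LD2_c14 LD3_c25)) = (LP (LK LD1_c14 LD2_c27 LD3_c3)) :=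
  Lgr Lrot21 (Lpr_ft (f808652 IH) (Lpe (f808649 IH) (Lpe (f666055 IH) (Lpr_et (K61.f666057 IH) (Lpr_ft (f666058 IH) (Lpn (LP (LK LD1_c14 LD2_c27 LD3_c3))))))))
theorem f808654 : Led Lsl_et (LP (LK LD1_c14 LD2_c27 LD3_c3)) = (LP (LK LD1_c14 LD2_c14 LD3_c25)) :=
  Leop (Lpr_ef (f808653 IH) (Lpn (LP (LK LD1_c14 LD2_c27 LD3_c3))))
theorem seed_1740 : LEOK LG_e (LK LD1_c14 LD2_c27 LD3_c3) :=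
  Leoe_e (LK LD1_c14 LD2_c27 LD3_c3) (f808654 IH)
theorem f808647 : Led Lsl_af (LP (LK LD1_c7 LD2_c39 LD3_c56)) = v22609 :=
  Lgr Lrot0 (Lpr_at (f808646 IH) (Lpn v22609))
theorem f808655 : Led Lsl_gt (LP (LK LD1_c14 LD2_c14 LD3_c25)) = (LP (LK LD1_c14 LD2_c26 LD3_c51)) :=
  Lgr Lrot5 (Lpr_ft (f808652 IH) (Lpe (f808647 IH) (Lpe (K60.f92674 IH) (Lpn (LP (LK LD1_c14 LD2_c26 LD3_c51))))))
theorem f808656 : Led Lsl_gt (LP (LK LD1_c14 LD2_c14 LD3_c25)) = (LP (LK LD1_c14 LD2_c26 LD3_c51)) :=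
  Leop (Lpe (f808655 IH) (Lpn (LP (LK LD1_c14 LD2_c14 LD3_c25))))
theorem seed_1741 : LEOK LG_g (LK LD1_c14 LD2_c14 LD3_c25) :=
  Leoe_g (LK LD1_c14 LD2_c14 LD3_c25) (f808656 IH)
def v22617 : LQ := Led Lsl_et (LP (LK LD1_c7 LD2_c40 LD3_c3))
theorem f808736 : Led Lsl_et (LP (LK LD1_c7 LD2_c40 LD3_c3)) = v22617 :=
  Lrfl
theorem f488127 : Led Lsl_dt (LP (LK LD1_c7 LD2_c40 LD3_c3)) = (LP (LK LD1_c14 LD2_c27 LD3_c16)) :=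
  Lre_d IH (LK LD1_c7 LD2_c40 LD3_c3) (LK LD1_c14 LD2_c27 LD3_c16) Lrfl Lrfl
theorem f103806 : Led Lsl_dt (LP (LK LD1_c14 LD2_c12 LD3_c59)) = (LP (LK LD1_c23 LD2_c48 LD3_c11)) :=
  Lre_d IH (LK LD1_c14 LD2_c12 LD3_c59) (LK LD1_c23 LD2_c48 LD3_c11) Lrfl Lrfl
theorem f520064 : Led Lsl_gt (LP (LK LD1_c14 LD2_c27 LD3_c16)) = (LP (LK LD1_c23 LD2_c48 LD3_c11)) :=
  Lgr Lrot139 (Lpe (f488127 IH) (Lpr_gf (K33.f520058 IH) (Lpe (K5.f103823 IH) (Lpr_dt (K8.f96140 IH) (Lpr_gf (K5.f103814 IH) (Lpe (K5.f103646 IH) (Lpr_et (K24.f103824 IH) (Lpe (K46.f103825 IH) (Lpe (K46.f103805 IH) (Lpr_dt (f103806 IH) (Lpn (LP (LK LD1_c23 LD2_c48 LD3_c11)))))))))))))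
def v20469 : LQ := Led Lsl_ft (LP (LK LD1_c6 LD2_c57 LD3_c49))
theorem f787196 : Led Lsl_ft (LP (LK LD1_c6 LD2_c57 LD3_c49)) = v20469 :=
  Lrfl
theorem f787199 : Led Lsl_ff (LP (LK LD1_c6 LD2_c57 LD3_c49)) = v20469 :=
  Lgr Lrot3 (Lpr_ft (f787196 IH) (Lpn v20469))
theorem f492345 : Led Lsl_ft (LP (LK LD1_c3 LD2_c27 LD3_c47)) = (LP (LK LD1_c6 LD2_c54 LD3_c32)) :=
  Lgr Lrot75 (Lpe (K28.f16735 IH) (Lpr_ff (K33.f492343 IH) (Lpe (K28.f98795 IH) (Lpn (LP (LK LD1_c6 LD2_c54 LD3_c32))))))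
theorem f787201 : Led Lsl_et (LP (LK LD1_c13 LD2_c7 LD3_c47)) = v20469 :=
  Lgr Lrot69 (Lpe (K34.f492380 IH) (Lpr_ef (K34.f98752 IH) (Lpe (f492345 IH) (Lpe (K47.f465466 IH) (Lpr_ff (f787199 IH) (Lpn v20469))))))
theorem f808739 : Led Lsl_gt v20469 = v22617 :=
  Lgr Lrot131 (Lpe (f787201 IH) (Lpr_dt (K37.f492871 IH) (Lpe (K46.f473503 IH) (Lpe (K34.f103653 IH) (Lpe (K46.f103825 IH) (Lpe (K46.f103805 IH) (Lpr_dt (f103806 IH) (Lpe (f520064 IH) (Lpe (f488127 IH) (Lpr_et (f808736 IH) (Lpn v22617)))))))))))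
theorem f103691 : Led Lsl_at (LP (LK LD1_c13 LD2_c3 LD3_c6)) = (LP (LK LD1_c14 LD2_c12 LD3_c46)) :=
  Lgr Lrot100 (Lpr_af (K4.f103689 IH) (Lpn (LP (LK LD1_c14 LD2_c12 LD3_c46))))
theorem f788504 : Led Lsl_gf (LP (LK LD1_c14 LD2_c12 LD3_c46)) = (LP (LK LD1_c22 LD2_c33 LD3_c54)) :=
  Lgr Lrot76 (Lpe (f103691 IH) (Lpe (K47.f485704 IH) (Lpr_gt (K62.f788498 IH) (Lpn (LP (LK LD1_c22 LD2_c33 LD3_c54))))))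
theorem f808741 : Led Lsl_df (LP (LK LD1_c22 LD2_c33 LD3_c54)) = v22617 :=
  Lgr Lrot135 (Lpe (f788504 IH) (Lpe (K4.f103679 IH) (Lpr_et (K4.f103664 IH) (Lpr_gt (K4.f103648 IH) (Lpe (K34.f103652 IH) (Lpr_dt (K34.f103653 IH) (Lpr_gt (K46.f473503 IH) (Lpe (K37.f492871 IH) (Lpr_et (f787201 IH) (Lpr_gt (f808739 IH) (Lpn v22617)))))))))))
theorem f808743 : Led Lsl_dt (LP (LK LD1_c22 LD2_c33 LD3_c54)) = v22617 :=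
  Lgr Lrot42 (Lpr_df (f808741 IH) (Lpn v22617))
theorem f484054 : Led Lsl_ct (LP (LK LD1_c13 LD2_c49 LD3_c47)) = (LP (LK LD1_c23 LD2_c18 LD3_c51)) :=
  Lre_c IH (LK LD1_c13 LD2_c49 LD3_c47) (LK LD1_c23 LD2_c18 LD3_c51) Lrfl Lrfl
theorem f111232 : Led Lsl_gt (LP (LK LD1_c13 LD2_c19 LD3_c24)) = (LP (LK LD1_c7 LD2_c1 LD3_c26)) :=
  Lre_g IH (LK LD1_c13 LD2_c19 LD3_c24) (LK LD1_c7 LD2_c1 LD3_c26) Lrfl Lrfl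
theorem f137151 : Led Lsl_bt (LP (LK LD1_c22 LD2_c35 LD3_c54)) = (LP (LK LD1_c13 LD2_c19 LD3_c24)) :=
  Lre_b IH (LK LD1_c22 LD2_c35 LD3_c54) (LK LD1_c13 LD2_c19 LD3_c24) Lrfl Lrfl
theorem f658481 : Led Lsl_ct (LP (LK LD1_c22 LD2_c35 LD3_c54)) = (LP (LK LD1_c30 LD2_c36 LD3_c17)) :=
  Lre_c IH (LK LD1_c22 LD2_c35 LD3_c54) (LK LD1_c30 LD2_c36 LD3_c17) Lrfl Lrfl
theorem f786107 : Led Lsl_gf (LP (LK LD1_c30 LD2_c36 LD3_c17)) = (LP (LK LD1_c23 LD2_c18 LD3_c51)) :=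
  Lgr Lrot126 (Lpe (f658481 IH) (Lpr_bt (f137151 IH) (Lpr_gt (f111232 IH) (Lpr_ct (K60.f528030 IH) (Lpr_gt (K60.f786104 IH) (Lpe (K60.f485759 IH) (Lpr_bt (K60.f485756 IH) (Lpe (K60.f485753 IH) (Lpe (K47.f484028 IH) (Lpr_ct (f484054 IH) (Lpn (LP (LK LD1_c23 LD2_c18 LD3_c51)))))))))))))
theorem f786112 : Led Lsl_dt (LP (LK LD1_c30 LD2_c36 LD3_c17)) = (LP (LK LD1_c32 LD2_c53 LD3_c36)) :=
  Lre_d IH (LK LD1_c30 LD2_c36 LD3_c17) (LK LD1_c32 LD2_c53 LD3_c36) Lrfl Lrfl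
theorem f484729 : Led Lsl_at (LP (LK LD1_c6 LD2_c57 LD3_c49)) = (LP (LK LD1_c13 LD2_c13 LD3_c12)) :=
  Lre_a IH (LK LD1_c6 LD2_c57 LD3_c49) (LK LD1_c13 LD2_c13 LD3_c12) Lrfl Lrfl
theorem f808740 : Led Lsl_gf (LP (LK LD1_c13 LD2_c13 LD3_c12)) = v22617 :=
  Lgr Lrot76 (Lpe (f484729 IH) (Lpr_ff (f787199 IH) (Lpr_gt (f808739 IH) (Lpn v22617))))
theorem f484735 : Led Lsl_ct (LP (LK LD1_c30 LD2_c30 LD3_c53)) = (LP (LK LD1_c22 LD2_c27 LD3_c18)) :=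
  Lre_c IH (LK LD1_c30 LD2_c30 LD3_c53) (LK LD1_c22 LD2_c27 LD3_c18) Lrfl Lrfl
theorem f484736 : Led Lsl_dt (LP (LK LD1_c32 LD2_c52 LD3_c59)) = (LP (LK LD1_c30 LD2_c30 LD3_c53)) :=
  Lre_d IH (LK LD1_c32 LD2_c52 LD3_c59) (LK LD1_c30 LD2_c30 LD3_c53) Lrfl Lrfl
theorem f808746 : Led Lsl_gt (LP (LK LD1_c32 LD2_c53 LD3_c36)) = (LP (LK LD1_c32 LD2_c52 LD3_c59)) :=
  Lgr Lrot49 (Lpe (f786112 IH) (Lpr_gf (f786107 IH) (Lpe (f484054 IH) (Lpr_gt (K62.f788498 IH) (Lpr_dt (f808743 IH) (Lpe (f808740 IH) (Lpr_dt (K34.f484723 IH) (Lpe (f484735 IH) (Lpe (f484736 IH) (Lpn (LP (LK LD1_c32 LD2_c52 LD3_c59))))))))))))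
theorem f808747 : Led Lsl_gt (LP (LK LD1_c32 LD2_c53 LD3_c36)) = (LP (LK LD1_c32 LD2_c52 LD3_c59)) :=
  Leop (Lpe (f808746 IH) (Lpn (LP (LK LD1_c32 LD2_c53 LD3_c36))))
theorem seed_1742 : LEOK LG_g (LK LD1_c32 LD2_c53 LD3_c36) :=
  Leoe_g (LK LD1_c32 LD2_c53 LD3_c36) (f808747 IH)
def v22634 : LQ := Led Lsl_ft (LP (LK LD1_c7 LD2_c40 LD3_c25))
theorem f808821 : Led Lsl_ft (LP (LK LD1_c7 LD2_c40 LD3_c25)) = v22634 :=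
  Lrfl
theorem f443591 : Led Lsl_gt (LP (LK LD1_c7 LD2_c40 LD3_c25)) = (LP (LK LD1_c14 LD2_c28 LD3_c4)) :=
  Lre_g IH (LK LD1_c7 LD2_c40 LD3_c25) (LK LD1_c14 LD2_c28 LD3_c4) Lrfl Lrfl
theorem f808822 : Led Lsl_af (LP (LK LD1_c13 LD2_c8 LD3_c41)) = v22634 :=
  Lgr Lrot45 (Lpe (K43.f484189 IH) (Lpr_at (K43.f487656 IH) (Lpr_ft (f808821 IH) (Lpn v22634))))
theorem f808826 : Led Lsl_gt (LP (LK LD1_c14 LD2_c28 LD3_c4)) = (LP (LK LD1_c13 LD2_c8 LD3_c41)) :=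
  Lgr Lrot46 (Lpe (f443591 IH) (Lpr_ft (f808821 IH) (Lpe (f808822 IH) (Lpn (LP (LK LD1_c13 LD2_c8 LD3_c41))))))
theorem f808827 : Led Lsl_gt (LP (LK LD1_c14 LD2_c28 LD3_c4)) = (LP (LK LD1_c13 LD2_c8 LD3_c41)) :=
  Leop (Lpe (f808826 IH) (Lpn (LP (LK LD1_c14 LD2_c28 LD3_c4))))
theorem seed_1743 : LEOK LG_g (LK LD1_c14 LD2_c28 LD3_c4) :=
  Leoe_g (LK LD1_c14 LD2_c28 LD3_c4) (f808827 IH)
def v22678 : LQ := Led Lsl_gf (LP (LK LD1_c7 LD2_c40 LD3_c56))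
theorem f809014 : Led Lsl_gf (LP (LK LD1_c7 LD2_c40 LD3_c56)) = v22678 :=
  Lrfl
theorem f777923 : Led Lsl_ff (LP (LK LD1_c6 LD2_c38 LD3_c22)) = K60.v19121 :=
  Lgr Lrot3 (Lpr_ft (K60.f777919 IH) (Lpn K60.v19121))
theorem f809015 : Led Lsl_gt K60.v19121 = v22678 :=
  Lgr Lrot5 (Lpe (f777923 IH) (Lpr_at (K6.f144780 IH) (Lpr_gf (f809014 IH) (Lpn v22678))))
theorem f62208 : Led Lsl_bt (LP (LK LD1_c1 LD2_c35 LD3_c20)) = (LP (LK LD1_c3 LD2_c17 LD3_c32)) :=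
  Lre_b IH (LK LD1_c1 LD2_c35 LD3_c20) (LK LD1_c3 LD2_c17 LD3_c32) Lrfl Lrfl
theorem f62210 : Led Lsl_bf (LP (LK LD1_c6 LD2_c59 LD3_c0)) = (LP (LK LD1_c6 LD2_c38 LD3_c22)) :=
  Lgr Lrot90 (Lpr_ct (K59.f62207 IH) (Lpr_bt (K59.f62206 IH) (Lpr_ct (K3.f62187 IH) (Lpr_bt (f62208 IH) (Lpr_ct (K60.f62209 IH) (Lpn (LP (LK LD1_c6 LD2_c38 LD3_c22))))))))
theorem f62298 : Led Lsl_ft (LP (LK LD1_c6 LD2_c59 LD3_c0)) = (LP (LK LD1_c13 LD2_c15 LD3_c15)) :=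
  Lre_f IH (LK LD1_c6 LD2_c59 LD3_c0) (LK LD1_c13 LD2_c15 LD3_c15) Lrfl Lrfl
theorem f777924 : Led Lsl_bt (LP (LK LD1_c13 LD2_c15 LD3_c15)) = K60.v19121 :=
  Lgr Lrot35 (Lpe (f62298 IH) (Lpr_bf (f62210 IH) (Lpr_ff (f777923 IH) (Lpn K60.v19121))))
theorem f62252 : Led Lsl_ct (LP (LK LD1_c13 LD2_c15 LD3_c15)) = (LP (LK LD1_c6 LD2_c59 LD3_c3)) :=
  Lre_c IH (LK LD1_c13 LD2_c15 LD3_c15) (LK LD1_c6 LD2_c59 LD3_c3) Lrfl Lrfl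
theorem f113652 : Led Lsl_bt (LP (LK LD1_c2 LD2_c20 LD3_c41)) = (LP (LK LD1_c4 LD2_c44 LD3_c61)) :=
  Lre_b IH (LK LD1_c2 LD2_c20 LD3_c41) (LK LD1_c4 LD2_c44 LD3_c61) Lrfl Lrfl
theorem f113654 : Led Lsl_ct (LP (LK LD1_c2 LD2_c20 LD3_c41)) = (LP (LK LD1_c4 LD2_c45 LD3_c2)) :=
  Lre_c IH (LK LD1_c2 LD2_c20 LD3_c41) (LK LD1_c4 LD2_c45 LD3_c2) Lrfl Lrfl
theorem f760079 : Led Lsl_af (LP (LK LD1_c6 LD2_c19 LD3_c46)) = K57.v17490 :=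
  Lgr Lrot0 (Lpr_at (K57.f760078 IH) (Lpn K57.v17490))
def v17489 : LQ := Led Lsl_gf (LP (LK LD1_c6 LD2_c19 LD3_c46))
theorem f760077 : Led Lsl_gf (LP (LK LD1_c6 LD2_c19 LD3_c46)) = v17489 :=
  Lrfl
theorem f760088 : Led Lsl_gt (LP (LK LD1_c6 LD2_c20 LD3_c37)) = v17489 :=
  Lgr Lrot5 (Lpr_ft (K61.f760086 IH) (Lpe (f760079 IH) (Lpr_gf (f760077 IH) (Lpn v17489))))
theorem f772884 : v17489 = (LP (LK LD1_c6 LD2_c59 LD3_c3)) :=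
  (Llr Lrot82 (Lpe (f760088 IH) (Lpr_bf (K57.f760035 IH) (Lpr_ct (K58.f770591 IH) (Lpe (K58.f102236 IH) (Lpe (f113654 IH) (Lpr_bt (f113652 IH) (Lpr_gf (K59.f703461 IH) (Lpe (K59.f772883 IH) (Lpr_ct (K59.f704743 IH) (Lpqs (K59.f772882 IH) (Lpe (K59.f768339 IH) (Lpe (K59.f62236 IH) (Lpn (LP (LK LD1_c6 LD2_c59 LD3_c3)))))))))))))))).symm
theorem f809017 : Led Lsl_bt K50.v12920 = v22678 :=
  Lgr Lrot92 (Lpe (K58.f699596 IH) (Lpr_gt (K50.f92151 IH) (Lpe (K58.f92132 IH) (Lpr_bt (K6.f92155 IH) (Lpr_gt (K57.f87628 IH) (Lpr_ct (K57.f704688 IH) (Lpq (K57.f715893 IH) (Lpr_gt (f760088 IH) (Lpqs (f772884 IH) (Lpe (f62252 IH) (Lpr_bt (f777924 IH) (Lpr_gt (f809015 IH) (Lpn v22678)))))))))))))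
theorem f438266 : Led Lsl_gt (LP (LK LD1_c9 LD2_c5 LD3_c52)) = (LP (LK LD1_c4 LD2_c34 LD3_c34)) :=
  Lre_g IH (LK LD1_c9 LD2_c5 LD3_c52) (LK LD1_c4 LD2_c34 LD3_c34) Lrfl Lrfl
theorem f437250 : Led Lsl_ct (LP (LK LD1_c16 LD2_c57 LD3_c41)) = (LP (LK LD1_c9 LD2_c5 LD3_c52)) :=
  Lre_c IH (LK LD1_c16 LD2_c57 LD3_c41) (LK LD1_c9 LD2_c5 LD3_c52) Lrfl Lrfl
theorem f92224 : Led Lsl_bt (LP (LK LD1_c16 LD2_c57 LD3_c41)) = (LP (LK LD1_c26 LD2_c53 LD3_c20)) :=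
  Lre_b IH (LK LD1_c16 LD2_c57 LD3_c41) (LK LD1_c26 LD2_c53 LD3_c20) Lrfl Lrfl
theorem f144785 : Led Lsl_cf (LP (LK LD1_c6 LD2_c38 LD3_c21)) = (LP (LK LD1_c7 LD2_c40 LD3_c56)) :=
  Lgr Lrot1 (Lpr_at (K7.f93991 IH) (Lpr_ct (K60.f62209 IH) (Lpr_at (K6.f144780 IH) (Lpn (LP (LK LD1_c7 LD2_c40 LD3_c56))))))
theorem f158020 : Led Lsl_gt (LP (LK LD1_c6 LD2_c38 LD3_c21)) = (LP (LK LD1_c12 LD2_c42 LD3_c21)) :=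
  Lre_g IH (LK LD1_c6 LD2_c38 LD3_c21) (LK LD1_c12 LD2_c42 LD3_c21) Lrfl Lrfl
theorem f809021 : Led Lsl_gf (LP (LK LD1_c26 LD2_c53 LD3_c20)) = (LP (LK LD1_c17 LD2_c28 LD3_c26)) :=
  Lgr Lrot124 (Lpe (f92224 IH) (Lpr_ct (f437250 IH) (Lpr_gt (f438266 IH) (Lpr_cf (K58.f699596 IH) (Lpr_bt (f809017 IH) (Lpe (f809014 IH) (Lpe (f144785 IH) (Lpr_gt (f158020 IH) (Lpe (K60.f437712 IH) (Lpr_bt (K60.f777927 IH) (Lpn (LP (LK LD1_c17 LD2_c28 LD3_c26)))))))))))))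
theorem f809022 : Led Lsl_gt (LP (LK LD1_c17 LD2_c28 LD3_c26)) = (LP (LK LD1_c26 LD2_c53 LD3_c20)) :=
  Leop (Lpr_gf (f809021 IH) (Lpn (LP (LK LD1_c17 LD2_c28 LD3_c26))))
theorem seed_1744 : LEOK LG_g (LK LD1_c17 LD2_c28 LD3_c26) :=
  Leoe_g (LK LD1_c17 LD2_c28 LD3_c26) (f809022 IH)
def v22682 : LQ := Led Lsl_at (LP (LK LD1_c7 LD2_c40 LD3_c60))
theorem f809052 : Led Lsl_at (LP (LK LD1_c7 LD2_c40 LD3_c60)) = v22682 :=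
  Lrfl
theorem f809053 : Led Lsl_af (LP (LK LD1_c7 LD2_c40 LD3_c60)) = v22682 :=
  Lgr Lrot0 (Lpr_at (f809052 IH) (Lpn v22682))
theorem f117315 : Led Lsl_gt (LP (LK LD1_c7 LD2_c40 LD3_c61)) = (LP (LK LD1_c3 LD2_c50 LD3_c1)) :=
  Lre_g IH (LK LD1_c7 LD2_c40 LD3_c61) (LK LD1_c3 LD2_c50 LD3_c1) Lrfl Lrfl
theorem f809054 : Led Lsl_ft (LP (LK LD1_c7 LD2_c40 LD3_c61)) = v22682 :=
  Lgr Lrot2 (Lpr_gt (f117315 IH) (Lpr_gt (K29.f117155 IH) (Lpr_af (f809053 IH) (Lpn v22682))))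
theorem f809056 : Led Lsl_ff (LP (LK LD1_c7 LD2_c40 LD3_c61)) = v22682 :=
  Lgr Lrot3 (Lpr_ft (f809054 IH) (Lpn v22682))
def v20400 : LQ := Led Lsl_at (LP (LK LD1_c6 LD2_c56 LD3_c17))
theorem f786803 : Led Lsl_at (LP (LK LD1_c6 LD2_c56 LD3_c17)) = v20400 :=
  Lrfl
theorem f786804 : Led Lsl_af (LP (LK LD1_c6 LD2_c56 LD3_c17)) = v20400 :=
  Lgr Lrot0 (Lpr_at (f786803 IH) (Lpn v20400))
theorem f786805 : Led Lsl_ft (LP (LK LD1_c6 LD2_c56 LD3_c18)) = v20400 :=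
  Lgr Lrot2 (Lpr_gt (K33.f11999 IH) (Lpr_gt (K33.f12001 IH) (Lpr_af (f786804 IH) (Lpn v20400))))
theorem f809057 : Led Lsl_bt v20400 = v22682 :=
  Lgr Lrot35 (Lpe (f786805 IH) (Lpe (K33.f486286 IH) (Lpr_ff (f809056 IH) (Lpn v22682))))
theorem f478624 : Led Lsl_bt (LP (LK LD1_c13 LD2_c8 LD3_c53)) = (LP (LK LD1_c14 LD2_c45 LD3_c40)) :=
  Lgr Lrot127 (Lpr_bf (K33.f478622 IH) (Lpn (LP (LK LD1_c14 LD2_c45 LD3_c40))))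
theorem f481800 : Led Lsl_bf (LP (LK LD1_c14 LD2_c28 LD3_c60)) = (LP (LK LD1_c7 LD2_c49 LD3_c23)) :=
  Lgr Lrot24 (Lpr_bt (K29.f481797 IH) (Lpn (LP (LK LD1_c7 LD2_c49 LD3_c23))))
theorem f486193 : Led Lsl_bf (LP (LK LD1_c14 LD2_c19 LD3_c23)) = (LP (LK LD1_c7 LD2_c40 LD3_c60)) :=
  Lgr Lrot90 (Lpr_ct (K48.f486191 IH) (Lpr_bt (f478624 IH) (Lpr_ct (K33.f123185 IH) (Lpe (f481800 IH) (Lpr_ct (K29.f96373 IH) (Lpn (LP (LK LD1_c7 LD2_c40 LD3_c60))))))))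
theorem f809058 : Led Lsl_af (LP (LK LD1_c13 LD2_c10 LD3_c34)) = (LP (LK LD1_c14 LD2_c19 LD3_c23)) :=
  Lgr Lrot36 (Lpr_bt (K33.f12002 IH) (Lpr_at (f786803 IH) (Lpr_bt (f809057 IH) (Lpe (f809053 IH) (Lpe (f486193 IH) (Lpn (LP (LK LD1_c14 LD2_c19 LD3_c23))))))))
theorem f809059 : Led Lsl_at (LP (LK LD1_c14 LD2_c19 LD3_c23)) = (LP (LK LD1_c13 LD2_c10 LD3_c34)) :=
  Leop (Lpr_af (f809058 IH) (Lpn (LP (LK LD1_c14 LD2_c19 LD3_c23))))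
theorem seed_1745 : LEOK LG_a (LK LD1_c14 LD2_c19 LD3_c23) :=
  Leoe_a (LK LD1_c14 LD2_c19 LD3_c23) (f809059 IH)
def v22683 : LQ := Led Lsl_et (LP (LK LD1_c7 LD2_c40 LD3_c60))
theorem f809766 : Led Lsl_et (LP (LK LD1_c7 LD2_c40 LD3_c60)) = v22683 :=
  Lrfl
theorem f809768 : Led Lsl_ef (LP (LK LD1_c7 LD2_c40 LD3_c60)) = v22683 :=
  Lgr Lrot88 (Lpr_et (f809766 IH) (Lpn v22683))
theorem f122292 : Led Lsl_dt (LP (LK LD1_c6 LD2_c34 LD3_c8)) = (LP (LK LD1_c12 LD2_c34 LD3_c56)) :=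
  Lre_d IH (LK LD1_c6 LD2_c34 LD3_c8) (LK LD1_c12 LD2_c34 LD3_c56) Lrfl Lrfl
theorem f122293 : Led Lsl_gt (LP (LK LD1_c21 LD2_c41 LD3_c25)) = (LP (LK LD1_c12 LD2_c34 LD3_c56)) :=
  Lre_g IH (LK LD1_c21 LD2_c41 LD3_c25) (LK LD1_c12 LD2_c34 LD3_c56) Lrfl Lrfl
theorem f809770 : Led Lsl_df (LP (LK LD1_c21 LD2_c41 LD3_c25)) = v22683 :=
  Lgr Lrot170 (Lpr_gt (f122293 IH) (Lpe (f122292 IH) (Lpr_et (K4.f115810 IH) (Lpr_gt (K4.f94533 IH) (Lpe (K6.f122283 IH) (Lpr_gt (K4.f117148 IH) (Lpe (K7.f117134 IH) (Lpr_et (K29.f117154 IH) (Lpr_gt (K29.f117155 IH) (Lpr_ef (f809768 IH) (Lpn v22683)))))))))))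
def v7523 : LQ := Led Lsl_at (LP (LK LD1_c3 LD2_c50 LD3_c7))
theorem f666312 : Led Lsl_at (LP (LK LD1_c3 LD2_c50 LD3_c7)) = v7523 :=
  Lrfl
theorem f666313 : Led Lsl_af (LP (LK LD1_c3 LD2_c50 LD3_c7)) = v7523 :=
  Lgr Lrot0 (Lpr_at (f666312 IH) (Lpn v7523))
theorem f809064 : Led Lsl_ft (LP (LK LD1_c7 LD2_c41 LD3_c20)) = (LP (LK LD1_c14 LD2_c19 LD3_c23)) :=
  Lgr Lrot2 (Lpe (K34.f486804 IH) (Lpr_gt (K33.f486367 IH) (Lpr_af (f809058 IH) (Lpn (LP (LK LD1_c14 LD2_c19 LD3_c23))))))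
theorem f666314 : Led Lsl_ft (LP (LK LD1_c3 LD2_c50 LD3_c8)) = v7523 :=
  Lgr Lrot2 (Lpr_gt (K33.f96464 IH) (Lpr_gt (K33.f96466 IH) (Lpr_af (f666313 IH) (Lpn v7523))))
theorem f666316 : Led Lsl_ff (LP (LK LD1_c3 LD2_c50 LD3_c8)) = v7523 :=
  Lgr Lrot3 (Lpr_ft (f666314 IH) (Lpn v7523))
theorem f809070 : v7523 = (LP (LK LD1_c7 LD2_c40 LD3_c60)) :=
  (Llr Lrot25 (Lpe (f666316 IH) (Lpr_bt (K34.f485493 IH) (Lpr_ft (f809064 IH) (Lpr_bt (K48.f486189 IH) (Lpn (LP (LK LD1_c7 LD2_c40 LD3_c60)))))))).symm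
theorem f809073 : (LP (LK LD1_c3 LD2_c50 LD3_c7)) = v22682 :=
  Lefun (Lecon (Lfl_af (f666313 IH)) (f809070 IH)) (f809052 IH)
theorem f535168 : Led Lsl_et (LP (LK LD1_c3 LD2_c50 LD3_c7)) = (LP (LK LD1_c7 LD2_c41 LD3_c19)) :=
  Lre_e IH (LK LD1_c3 LD2_c50 LD3_c7) (LK LD1_c7 LD2_c41 LD3_c19) Lrfl Lrfl
theorem f809769 : Led Lsl_at (LP (LK LD1_c7 LD2_c41 LD3_c19)) = v22683 :=
  Lgr Lrot80 (Lpe (f535168 IH) (Lpqs (f809073 IH) (Lpe (f809052 IH) (Lpr_ef (f809768 IH) (Lpn v22683)))))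
theorem f122325 : Led Lsl_dt (LP (LK LD1_c14 LD2_c29 LD3_c32)) = (LP (LK LD1_c7 LD2_c41 LD3_c19)) :=
  Lre_d IH (LK LD1_c14 LD2_c29 LD3_c32) (LK LD1_c7 LD2_c41 LD3_c19) Lrfl Lrfl
theorem f809771 : Led Lsl_at (LP (LK LD1_c21 LD2_c41 LD3_c25)) = (LP (LK LD1_c14 LD2_c29 LD3_c32)) :=
  Lgr Lrot51 (Lpr_df (f809770 IH) (Lpe (f809769 IH) (Lpe (f122325 IH) (Lpn (LP (LK LD1_c14 LD2_c29 LD3_c32))))))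
theorem f809772 : Led Lsl_at (LP (LK LD1_c21 LD2_c41 LD3_c25)) = (LP (LK LD1_c14 LD2_c29 LD3_c32)) :=
  Leop (Lpe (f809771 IH) (Lpn (LP (LK LD1_c21 LD2_c41 LD3_c25))))
theorem seed_1746 : LEOK LG_a (LK LD1_c21 LD2_c41 LD3_c25) :=
  Leoe_a (LK LD1_c21 LD2_c41 LD3_c25) (f809772 IH)
theorem f122318 : Led Lsl_et (LP (LK LD1_c7 LD2_c41 LD3_c19)) = (LP (LK LD1_c3 LD2_c50 LD3_c7)) :=
  Lre_e IH (LK LD1_c7 LD2_c41 LD3_c19) (LK LD1_c3 LD2_c50 LD3_c7) Lrfl Lrfl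
theorem f809767 : Led Lsl_af (LP (LK LD1_c7 LD2_c41 LD3_c19)) = v22683 :=
  Lgr Lrot50 (Lpr_et (f122318 IH) (Lpqs (f809073 IH) (Lpe (f809053 IH) (Lpr_et (f809766 IH) (Lpn v22683)))))
theorem f116671 : Led Lsl_et (LP (LK LD1_c3 LD2_c47 LD3_c22)) = (LP (LK LD1_c7 LD2_c35 LD3_c35)) :=
  Lre_e IH (LK LD1_c3 LD2_c47 LD3_c22) (LK LD1_c7 LD2_c35 LD3_c35) Lrfl Lrfl
theorem f111122 : Led Lsl_et (LP (LK LD1_c7 LD2_c1 LD3_c17)) = (LP (LK LD1_c3 LD2_c29 LD3_c50)) :=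
  Lre_e IH (LK LD1_c7 LD2_c1 LD3_c17) (LK LD1_c3 LD2_c29 LD3_c50) Lrfl Lrfl
theorem f115837 : Led Lsl_dt (LP (LK LD1_c7 LD2_c1 LD3_c17)) = (LP (LK LD1_c13 LD2_c19 LD3_c7)) :=
  Lre_d IH (LK LD1_c7 LD2_c1 LD3_c17) (LK LD1_c13 LD2_c19 LD3_c7) Lrfl Lrfl
theorem f535160 : Led Lsl_gt (LP (LK LD1_c14 LD2_c38 LD3_c12)) = (LP (LK LD1_c13 LD2_c19 LD3_c7)) :=
  Lgr Lrot112 (Lpe (K34.f492118 IH) (Lpr_et (K34.f492112 IH) (Lpr_gf (K41.f533429 IH) (Lpe (f116671 IH) (Lpr_dt (K4.f116659 IH) (Lpr_gf (K7.f146699 IH) (Lpe (K6.f103647 IH) (Lpe (K4.f103622 IH) (Lpe (f111122 IH) (Lpr_dt (f115837 IH) (Lpn (LP (LK LD1_c13 LD2_c19 LD3_c7)))))))))))))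
theorem f492159 : Led Lsl_ft (LP (LK LD1_c14 LD2_c38 LD3_c12)) = (LP (LK LD1_c13 LD2_c21 LD3_c53)) :=
  Lgr Lrot48 (Lpr_ff (K57.f492143 IH) (Lpn (LP (LK LD1_c13 LD2_c21 LD3_c53))))
theorem f535162 : Led Lsl_gf (LP (LK LD1_c7 LD2_c2 LD3_c49)) = (LP (LK LD1_c13 LD2_c19 LD3_c7)) :=
  Lgr Lrot76 (Lpe (K37.f492133 IH) (Lpe (f492159 IH) (Lpr_gt (f535160 IH) (Lpn (LP (LK LD1_c13 LD2_c19 LD3_c7))))))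
theorem f122317 : Led Lsl_et (LP (LK LD1_c0 LD2_c52 LD3_c45)) = (LP (LK LD1_c1 LD2_c52 LD3_c0)) :=
  Lre_e IH (LK LD1_c0 LD2_c52 LD3_c45) (LK LD1_c1 LD2_c52 LD3_c0) Lrfl Lrfl
theorem f122319 : Led Lsl_dt (LP (LK LD1_c7 LD2_c41 LD3_c19)) = (LP (LK LD1_c14 LD2_c29 LD3_c32)) :=
  Lre_d IH (LK LD1_c7 LD2_c41 LD3_c19) (LK LD1_c14 LD2_c29 LD3_c32) Lrfl Lrfl
theorem f122320 : Led Lsl_gf (LP (LK LD1_c21 LD2_c41 LD3_c17)) = (LP (LK LD1_c14 LD2_c29 LD3_c32)) :=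
  Lgr Lrot145 (Lpe (K6.f115782 IH) (Lpr_et (K4.f115784 IH) (Lpr_gt (K4.f115829 IH) (Lpr_dt (K7.f122249 IH) (Lpr_gt (K5.f87474 IH) (Lpe (K7.f87371 IH) (Lpr_et (f122317 IH) (Lpr_gt (K33.f96466 IH) (Lpe (f122318 IH) (Lpr_dt (f122319 IH) (Lpn (LP (LK LD1_c14 LD2_c29 LD3_c32)))))))))))))
theorem f535166 : Led Lsl_gt (LP (LK LD1_c14 LD2_c1 LD3_c24)) = (LP (LK LD1_c7 LD2_c41 LD3_c19)) :=
  Lgr Lrot137 (Lpr_ef (K34.f492077 IH) (Lpe (K37.f491893 IH) (Lpr_gf (f535162 IH) (Lpe (f115837 IH) (Lpr_et (f111122 IH) (Lpe (K4.f115829 IH) (Lpe (K4.f115784 IH) (Lpr_dt (K6.f115782 IH) (Lpr_gf (f122320 IH) (Lpe (f122319 IH) (Lpn (LP (LK LD1_c7 LD2_c41 LD3_c19)))))))))))))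
theorem f474275 : Led Lsl_gt (LP (LK LD1_c23 LD2_c34 LD3_c6)) = (LP (LK LD1_c14 LD2_c1 LD3_c24)) :=
  Lre_g IH (LK LD1_c23 LD2_c34 LD3_c6) (LK LD1_c14 LD2_c1 LD3_c24) Lrfl Lrfl
theorem f809777 : Led Lsl_ft (LP (LK LD1_c23 LD2_c34 LD3_c6)) = v22683 :=
  Lgr Lrot2 (Lpr_gt (f474275 IH) (Lpr_gt (f535166 IH) (Lpr_af (f809767 IH) (Lpn v22683))))
theorem f487084 : Led Lsl_et (LP (LK LD1_c3 LD2_c50 LD3_c8)) = (LP (LK LD1_c7 LD2_c41 LD3_c23)) :=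
  Lre_e IH (LK LD1_c3 LD2_c50 LD3_c8) (LK LD1_c7 LD2_c41 LD3_c23) Lrfl Lrfl
theorem f666317 : Led Lsl_ft (LP (LK LD1_c7 LD2_c41 LD3_c23)) = (LP (LK LD1_c14 LD2_c29 LD3_c41)) :=
  Lre_f IH (LK LD1_c7 LD2_c41 LD3_c23) (LK LD1_c14 LD2_c29 LD3_c41) Lrfl Lrfl
theorem f809778 : Led Lsl_ef (LP (LK LD1_c23 LD2_c34 LD3_c6)) = (LP (LK LD1_c14 LD2_c29 LD3_c41)) :=
  Lgr Lrot21 (Lpr_ft (f809777 IH) (Lpe (f809768 IH) (Lpq (f809070 IH) (Lpe (f666316 IH) (Lpr_et (f487084 IH) (Lpr_ft (f666317 IH) (Lpn (LP (LK LD1_c14 LD2_c29 LD3_c41)))))))))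
theorem f809779 : Led Lsl_et (LP (LK LD1_c14 LD2_c29 LD3_c41)) = (LP (LK LD1_c23 LD2_c34 LD3_c6)) :=
  Leop (Lpr_ef (f809778 IH) (Lpn (LP (LK LD1_c14 LD2_c29 LD3_c41))))
theorem seed_1747 : LEOK LG_e (LK LD1_c14 LD2_c29 LD3_c41) :=
  Leoe_e (LK LD1_c14 LD2_c29 LD3_c41) (f809779 IH)
def v22698 : LQ := Led Lsl_et (LP (LK LD1_c7 LD2_c41 LD3_c16))
theorem f809842 : Led Lsl_et (LP (LK LD1_c7 LD2_c41 LD3_c16)) = v22698 :=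
  Lrfl
theorem f809844 : Led Lsl_bf (LP (LK LD1_c7 LD2_c41 LD3_c19)) = v22698 :=
  Lgr Lrot96 (Lpr_et (f122318 IH) (Lpr_bt (K33.f485094 IH) (Lpr_et (f809842 IH) (Lpn v22698))))
theorem f481980 : Led Lsl_cf (LP (LK LD1_c7 LD2_c45 LD3_c45)) = (LP (LK LD1_c7 LD2_c24 LD3_c50)) :=
  Lgr Lrot166 (Lpe (K32.f464848 IH) (Lpr_dt (K32.f94336 IH) (Lpr_gt (K29.f94335 IH) (Lpe (K32.f94288 IH) (Lpr_ct (K29.f115966 IH) (Lpe (K32.f441017 IH) (Lpe (K32.f64269 IH) (Lpr_df (K32.f481965 IH) (Lpr_gf (K32.f474756 IH) (Lpn (LP (LK LD1_c7 LD2_c24 LD3_c50))))))))))))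
theorem f441399 : Led Lsl_dt (LP (LK LD1_c3 LD2_c46 LD3_c11)) = (LP (LK LD1_c7 LD2_c33 LD3_c23)) :=
  Lre_d IH (LK LD1_c3 LD2_c46 LD3_c11) (LK LD1_c7 LD2_c33 LD3_c23) Lrfl Lrfl
theorem f657598 : Led Lsl_ct (LP (LK LD1_c7 LD2_c33 LD3_c23)) = K46.v6669 :=
  Lgr Lrot7 (Lpe (f441399 IH) (Lpe (K29.f441393 IH) (Lpe (K29.f85265 IH) (Lpe (K29.f85277 IH) (Lpr_cf (K29.f483335 IH) (Lpr_gt (K29.f94335 IH) (Lpe (K32.f94288 IH) (Lpr_gt (K29.f94337 IH) (Lpr_dt (K46.f657591 IH) (Lpn K46.v6669))))))))))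
theorem f457803 : Led Lsl_bt (LP (LK LD1_c6 LD2_c56 LD3_c60)) = (LP (LK LD1_c3 LD2_c27 LD3_c27)) :=
  Lre_b IH (LK LD1_c6 LD2_c56 LD3_c60) (LK LD1_c3 LD2_c27 LD3_c27) Lrfl Lrfl
theorem f457804 : Led Lsl_cf (LP (LK LD1_c6 LD2_c56 LD3_c60)) = (LP (LK LD1_c7 LD2_c37 LD3_c20)) :=
  Lgr Lrot97 (Lpr_bt (f457803 IH) (Lpr_ct (K34.f457799 IH) (Lpr_bt (K34.f62970 IH) (Lpr_ct (K29.f62986 IH) (Lpr_bt (K48.f62989 IH) (Lpn (LP (LK LD1_c7 LD2_c37 LD3_c20))))))))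
theorem f457813 : Led Lsl_gt (LP (LK LD1_c13 LD2_c11 LD3_c47)) = (LP (LK LD1_c6 LD2_c56 LD3_c60)) :=
  Lre_g IH (LK LD1_c13 LD2_c11 LD3_c47) (LK LD1_c6 LD2_c56 LD3_c60) Lrfl Lrfl
theorem f809848 : Led Lsl_cf (LP (LK LD1_c13 LD2_c11 LD3_c47)) = v22698 :=
  Lgr Lrot160 (Lpr_gt (f457813 IH) (Lpr_cf (f457804 IH) (Lpr_bt (K34.f457814 IH) (Lpe (K29.f474239 IH) (Lpr_ct (f657598 IH) (Lpe (K46.f657599 IH) (Lpr_cf (f481980 IH) (Lpr_bt (K37.f474271 IH) (Lpr_gt (f535166 IH) (Lpr_bf (f809844 IH) (Lpn v22698)))))))))))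
theorem f809851 : Led Lsl_et (LP (LK LD1_c13 LD2_c11 LD3_c47)) = (LP (LK LD1_c12 LD2_c33 LD3_c60)) :=
  Lgr Lrot158 (Lpr_cf (f809848 IH) (Lpe (f809842 IH) (Lpe (K33.f486980 IH) (Lpn (LP (LK LD1_c12 LD2_c33 LD3_c60))))))
theorem f809852 : Led Lsl_et (LP (LK LD1_c13 LD2_c11 LD3_c47)) = (LP (LK LD1_c12 LD2_c33 LD3_c60)) :=
  Leop (Lpe (f809851 IH) (Lpn (LP (LK LD1_c13 LD2_c11 LD3_c47))))
theorem seed_1748 : LEOK LG_e (LK LD1_c13 LD2_c11 LD3_c47) :=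
  Leoe_e (LK LD1_c13 LD2_c11 LD3_c47) (f809852 IH)
def v22700 : LQ := Led Lsl_ft (LP (LK LD1_c7 LD2_c41 LD3_c19))
theorem f809866 : Led Lsl_ft (LP (LK LD1_c7 LD2_c41 LD3_c19)) = v22700 :=
  Lrfl
theorem f481936 : Led Lsl_at (LP (LK LD1_c7 LD2_c36 LD3_c56)) = (LP (LK LD1_c14 LD2_c21 LD3_c24)) :=
  Lre_a IH (LK LD1_c7 LD2_c36 LD3_c56) (LK LD1_c14 LD2_c21 LD3_c24) Lrfl Lrfl
theorem f535169 : Led Lsl_gf (LP (LK LD1_c14 LD2_c21 LD3_c24)) = (LP (LK LD1_c7 LD2_c41 LD3_c19)) :=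
  Lgr Lrot76 (Lpe (f481936 IH) (Lpe (K34.f492073 IH) (Lpr_gt (f535166 IH) (Lpn (LP (LK LD1_c7 LD2_c41 LD3_c19))))))
theorem f809867 : Led Lsl_af (LP (LK LD1_c23 LD2_c34 LD3_c6)) = v22700 :=
  Lgr Lrot45 (Lpr_ft (f809777 IH) (Lpe (f809767 IH) (Lpr_ft (f809866 IH) (Lpn v22700))))
theorem f809869 : Led Lsl_gt (LP (LK LD1_c14 LD2_c21 LD3_c24)) = (LP (LK LD1_c23 LD2_c34 LD3_c6)) :=
  Lgr Lrot46 (Lpr_gf (f535169 IH) (Lpr_ft (f809866 IH) (Lpe (f809867 IH) (Lpn (LP (LK LD1_c23 LD2_c34 LD3_c6))))))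
theorem f809870 : Led Lsl_gt (LP (LK LD1_c14 LD2_c21 LD3_c24)) = (LP (LK LD1_c23 LD2_c34 LD3_c6)) :=
  Leop (Lpe (f809869 IH) (Lpn (LP (LK LD1_c14 LD2_c21 LD3_c24))))
theorem seed_1749 : LEOK LG_g (LK LD1_c14 LD2_c21 LD3_c24) :=
  Leoe_g (LK LD1_c14 LD2_c21 LD3_c24) (f809870 IH)
def v22701 : LQ := Led Lsl_gt (LP (LK LD1_c7 LD2_c41 LD3_c23))
theorem f809872 : Led Lsl_gt (LP (LK LD1_c7 LD2_c41 LD3_c23)) = v22701 :=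
  Lrfl
theorem f492748 : Led Lsl_ff (LP (LK LD1_c14 LD2_c55 LD3_c14)) = (LP (LK LD1_c13 LD2_c13 LD3_c9)) :=
  Lgr Lrot25 (Lpr_bt (K39.f462833 IH) (Lpr_ft (K34.f492744 IH) (Lpr_bt (K34.f462804 IH) (Lpn (LP (LK LD1_c13 LD2_c13 LD3_c9))))))
theorem f527100 : Led Lsl_at (LP (LK LD1_c14 LD2_c55 LD3_c14)) = (LP (LK LD1_c24 LD2_c34 LD3_c46)) :=
  Lgr Lrot66 (Lpr_ff (f492748 IH) (Lpe (K34.f462829 IH) (Lpr_ff (K37.f527098 IH) (Lpn (LP (LK LD1_c24 LD2_c34 LD3_c46))))))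
theorem f527116 : Led Lsl_gt (LP (LK LD1_c22 LD2_c27 LD3_c13)) = (LP (LK LD1_c24 LD2_c34 LD3_c46)) :=
  Lgr Lrot46 (Lpe (K46.f462850 IH) (Lpe (f492748 IH) (Lpr_at (f527100 IH) (Lpn (LP (LK LD1_c24 LD2_c34 LD3_c46))))))
theorem f471620 : Led Lsl_af (LP (LK LD1_c7 LD2_c54 LD3_c2)) = (LP (LK LD1_c13 LD2_c53 LD3_c29)) :=
  Lgr Lrot0 (Lpr_at (K33.f471618 IH) (Lpn (LP (LK LD1_c13 LD2_c53 LD3_c29))))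
theorem f471622 : Led Lsl_cf (LP (LK LD1_c13 LD2_c53 LD3_c29)) = (LP (LK LD1_c13 LD2_c53 LD3_c29)) :=
  Lgr Lrot1 (Lpe (f471620 IH) (Lpe (K61.f452046 IH) (Lpr_at (K33.f471618 IH) (Lpn (LP (LK LD1_c13 LD2_c53 LD3_c29))))))
theorem f655847 : Led Lsl_gt (LP (LK LD1_c13 LD2_c53 LD3_c29)) = (LP (LK LD1_c14 LD2_c49 LD3_c0)) :=
  Lgr Lrot149 (Lpr_cf (f471622 IH) (Lpe (K37.f471626 IH) (Lpr_bf (K37.f489583 IH) (Lpr_ct (K37.f489582 IH) (Lpe (K37.f463990 IH) (Lpr_cf (K37.f527039 IH) (Lpr_bt (K37.f527051 IH) (Lpe (f527116 IH) (Lpr_bf (K61.f655826 IH) (Lpr_ct (K61.f485322 IH) (Lpn (LP (LK LD1_c14 LD2_c49 LD3_c0)))))))))))))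
theorem f527022 : Led Lsl_ef (LP (LK LD1_c1 LD2_c47 LD3_c48)) = K34.v2527 :=
  Lgr Lrot88 (Lpr_et (K34.f527020 IH) (Lpn K34.v2527))
theorem f661926 : Led Lsl_cf K34.v2527 = K49.v7192 :=
  Lgr Lrot39 (Lpe (f527022 IH) (Lpr_ct (K29.f4889 IH) (Lpr_et (K49.f661924 IH) (Lpn K49.v7192))))
theorem f809876 : Led Lsl_ct (LP (LK LD1_c14 LD2_c48 LD3_c42)) = v22701 :=
  Lgr Lrot10 (Lpr_bt (K39.f524097 IH) (Lpr_gt (K49.f661930 IH) (Lpe (f661926 IH) (Lpe (K34.f527034 IH) (Lpe (K37.f471370 IH) (Lpr_bt (K33.f471367 IH) (Lpr_gt (f655847 IH) (Lpr_bf (K61.f485320 IH) (Lpr_ct (K61.f441236 IH) (Lpr_gt (f809872 IH) (Lpn v22701)))))))))))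
theorem f528883 : Led Lsl_gf (LP (LK LD1_c22 LD2_c21 LD3_c55)) = (LP (LK LD1_c22 LD2_c26 LD3_c48)) :=
  Lgr Lrot76 (Lpe (K39.f477148 IH) (Lpr_ff (K35.f528869 IH) (Lpr_gt (K39.f483826 IH) (Lpn (LP (LK LD1_c22 LD2_c26 LD3_c48))))))
theorem f419619 : Led Lsl_ct (LP (LK LD1_c14 LD2_c15 LD3_c61)) = (LP (LK LD1_c23 LD2_c52 LD3_c44)) :=
  Lre_c IH (LK LD1_c14 LD2_c15 LD3_c61) (LK LD1_c23 LD2_c52 LD3_c44) Lrfl Lrfl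
theorem f809878 : Led Lsl_dt (LP (LK LD1_c13 LD2_c22 LD3_c26)) = v22701 :=
  Lgr Lrot113 (Lpr_gf (K48.f533169 IH) (Lpe (K7.f111236 IH) (Lpe (K43.f111247 IH) (Lpe (K43.f533332 IH) (Lpr_gt (K43.f488317 IH) (Lpr_dt (K28.f122162 IH) (Lpr_gt (K43.f532117 IH) (Lpe (K62.f524098 IH) (Lpr_ct (f809876 IH) (Lpn v22701))))))))))
theorem f18847 : Led Lsl_ct (LP (LK LD1_c22 LD2_c39 LD3_c44)) = (LP (LK LD1_c13 LD2_c22 LD3_c26)) :=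
  Lre_c IH (LK LD1_c22 LD2_c39 LD3_c44) (LK LD1_c13 LD2_c22 LD3_c26) Lrfl Lrfl
theorem f809879 : Led Lsl_gt (LP (LK LD1_c23 LD2_c52 LD3_c44)) = (LP (LK LD1_c22 LD2_c39 LD3_c44)) :=
  Lgr Lrot150 (Lpe (f419619 IH) (Lpe (K39.f419627 IH) (Lpe (K39.f532153 IH) (Lpe (f528883 IH) (Lpe (K48.f529022 IH) (Lpr_gt (K39.f532169 IH) (Lpr_ct (f809876 IH) (Lpe (f809878 IH) (Lpe (f18847 IH) (Lpn (LP (LK LD1_c22 LD2_c39 LD3_c44))))))))))))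
theorem f809880 : Led Lsl_gt (LP (LK LD1_c23 LD2_c52 LD3_c44)) = (LP (LK LD1_c22 LD2_c39 LD3_c44)) :=
  Leop (Lpe (f809879 IH) (Lpn (LP (LK LD1_c23 LD2_c52 LD3_c44))))
theorem seed_1750 : LEOK LG_g (LK LD1_c23 LD2_c52 LD3_c44) :=
  Leoe_g (LK LD1_c23 LD2_c52 LD3_c44) (f809880 IH)
def v21666 : LQ := Led Lsl_et (LP (LK LD1_c7 LD2_c24 LD3_c27))
theorem f798556 : Led Lsl_et (LP (LK LD1_c7 LD2_c24 LD3_c27)) = v21666 :=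
  Lrfl
theorem f12860 : Led Lsl_bt (LP (LK LD1_c3 LD2_c41 LD3_c51)) = (LP (LK LD1_c7 LD2_c24 LD3_c27)) :=
  Lre_b IH (LK LD1_c3 LD2_c41 LD3_c51) (LK LD1_c7 LD2_c24 LD3_c27) Lrfl Lrfl
theorem f661927 : Led Lsl_ef (LP (LK LD1_c3 LD2_c41 LD3_c51)) = K49.v7192 :=
  Lgr Lrot88 (Lpr_et (K49.f661924 IH) (Lpn K49.v7192))
theorem f798557 : Led Lsl_bf K49.v7192 = v21666 :=
  Lgr Lrot96 (Lpe (f661927 IH) (Lpr_bt (f12860 IH) (Lpr_et (f798556 IH) (Lpn v21666))))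
def v21665 : LQ := Led Lsl_ct (LP (LK LD1_c7 LD2_c24 LD3_c27))
theorem f798545 : Led Lsl_ct (LP (LK LD1_c7 LD2_c24 LD3_c27)) = v21665 :=
  Lrfl
theorem f798547 : Led Lsl_cf (LP (LK LD1_c7 LD2_c24 LD3_c27)) = v21665 :=
  Lgr Lrot11 (Lpr_ct (f798545 IH) (Lpn v21665))
theorem f526933 : Led Lsl_dt (LP (LK LD1_c14 LD2_c0 LD3_c52)) = (LP (LK LD1_c7 LD2_c24 LD3_c27)) :=
  Lre_d IH (LK LD1_c14 LD2_c0 LD3_c52) (LK LD1_c7 LD2_c24 LD3_c27) Lrfl Lrfl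
theorem f439314 : Led Lsl_dt (LP (LK LD1_c13 LD2_c55 LD3_c18)) = (LP (LK LD1_c23 LD2_c25 LD3_c60)) :=
  Lre_d IH (LK LD1_c13 LD2_c55 LD3_c18) (LK LD1_c23 LD2_c25 LD3_c60) Lrfl Lrfl
theorem f439333 : Led Lsl_ct (LP (LK LD1_c31 LD2_c2 LD3_c48)) = (LP (LK LD1_c23 LD2_c25 LD3_c60)) :=
  Lre_c IH (LK LD1_c31 LD2_c2 LD3_c48) (LK LD1_c23 LD2_c25 LD3_c60) Lrfl Lrfl
theorem f13154 : Led Lsl_dt (LP (LK LD1_c13 LD2_c54 LD3_c44)) = (LP (LK LD1_c7 LD2_c21 LD3_c31)) :=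
  Lre_d IH (LK LD1_c13 LD2_c54 LD3_c44) (LK LD1_c7 LD2_c21 LD3_c31) Lrfl Lrfl
theorem f13263 : Led Lsl_gt (LP (LK LD1_c14 LD2_c4 LD3_c8)) = (LP (LK LD1_c7 LD2_c26 LD3_c37)) :=
  Lre_g IH (LK LD1_c14 LD2_c4 LD3_c8) (LK LD1_c7 LD2_c26 LD3_c37) Lrfl Lrfl
theorem f13264 : Led Lsl_gf (LP (LK LD1_c14 LD2_c4 LD3_c8)) = (LP (LK LD1_c13 LD2_c54 LD3_c44)) :=
  Lgr Lrot47 (Lpr_gt (f13263 IH) (Lpr_af (K62.f13125 IH) (Lpe (K62.f13262 IH) (Lpn (LP (LK LD1_c13 LD2_c54 LD3_c44))))))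
theorem f13266 : Led Lsl_ct (LP (LK LD1_c14 LD2_c4 LD3_c8)) = (LP (LK LD1_c23 LD2_c37 LD3_c27)) :=
  Lre_c IH (LK LD1_c14 LD2_c4 LD3_c8) (LK LD1_c23 LD2_c37 LD3_c27) Lrfl Lrfl
theorem f610085 : Led Lsl_gf (LP (LK LD1_c31 LD2_c2 LD3_c48)) = (LP (LK LD1_c23 LD2_c37 LD3_c27)) :=
  Lgr Lrot104 (Lpr_ct (f439333 IH) (Lpe (f439314 IH) (Lpr_cf (K48.f439264 IH) (Lpr_gf (K48.f610081 IH) (Lpe (K48.f13156 IH) (Lpr_gf (K47.f13149 IH) (Lpe (f13154 IH) (Lpe (f13264 IH) (Lpr_ct (f13266 IH) (Lpn (LP (LK LD1_c23 LD2_c37 LD3_c27))))))))))))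
theorem f439332 : Led Lsl_ct (LP (LK LD1_c23 LD2_c25 LD3_c60)) = (LP (LK LD1_c31 LD2_c2 LD3_c48)) :=
  Lre_c IH (LK LD1_c23 LD2_c25 LD3_c60) (LK LD1_c31 LD2_c2 LD3_c48) Lrfl Lrfl
theorem f4626 : Led Lsl_bt (LP (LK LD1_c7 LD2_c21 LD3_c41)) = (LP (LK LD1_c13 LD2_c54 LD3_c44)) :=
  Lre_b IH (LK LD1_c7 LD2_c21 LD3_c41) (LK LD1_c13 LD2_c54 LD3_c44) Lrfl Lrfl
theorem f483673 : Led Lsl_bt (LP (LK LD1_c7 LD2_c24 LD3_c28)) = (LP (LK LD1_c14 LD2_c0 LD3_c52)) :=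
  Lre_b IH (LK LD1_c7 LD2_c24 LD3_c28) (LK LD1_c14 LD2_c0 LD3_c52) Lrfl Lrfl
theorem f610090 : Led Lsl_gt (LP (LK LD1_c13 LD2_c55 LD3_c19)) = (LP (LK LD1_c14 LD2_c0 LD3_c52)) :=
  Lgr Lrot164 (Lpe (K24.f439288 IH) (Lpr_ct (f439332 IH) (Lpr_gf (f610085 IH) (Lpe (f13266 IH) (Lpr_gf (f13264 IH) (Lpe (f4626 IH) (Lpe (K34.f4602 IH) (Lpr_gf (K29.f4807 IH) (Lpe (K29.f483660 IH) (Lpr_bt (f483673 IH) (Lpn (LP (LK LD1_c14 LD2_c0 LD3_c52)))))))))))))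
theorem f439273 : Led Lsl_dt (LP (LK LD1_c7 LD2_c21 LD3_c50)) = (LP (LK LD1_c13 LD2_c55 LD3_c19)) :=
  Lre_d IH (LK LD1_c7 LD2_c21 LD3_c50) (LK LD1_c13 LD2_c55 LD3_c19) Lrfl Lrfl
theorem f493736 : Led Lsl_ct (LP (LK LD1_c7 LD2_c17 LD3_c44)) = (LP (LK LD1_c13 LD2_c48 LD3_c8)) :=
  Lre_c IH (LK LD1_c7 LD2_c17 LD3_c44) (LK LD1_c13 LD2_c48 LD3_c8) Lrfl Lrfl
theorem f798549 : Led Lsl_dt (LP (LK LD1_c13 LD2_c46 LD3_c51)) = v21665 :=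
  Lgr Lrot113 (Lpe (K43.f567309 IH) (Lpr_df (K43.f567407 IH) (Lpr_gf (K47.f608959 IH) (Lpr_ct (f493736 IH) (Lpe (K48.f610077 IH) (Lpr_dt (f439273 IH) (Lpr_gt (f610090 IH) (Lpr_dt (f526933 IH) (Lpr_ct (f798545 IH) (Lpn v21665))))))))))
theorem f204934 : Led Lsl_gt (LP (LK LD1_c18 LD2_c18 LD3_c57)) = (LP (LK LD1_c10 LD2_c1 LD3_c21)) :=
  Lre_g IH (LK LD1_c18 LD2_c18 LD3_c57) (LK LD1_c10 LD2_c1 LD3_c21) Lrfl Lrfl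
theorem f101320 : Led Lsl_gt (LP (LK LD1_c8 LD2_c51 LD3_c42)) = (LP (LK LD1_c16 LD2_c34 LD3_c3)) :=
  Lre_g IH (LK LD1_c8 LD2_c51 LD3_c42) (LK LD1_c16 LD2_c34 LD3_c3) Lrfl Lrfl
theorem f101321 : Led Lsl_et (LP (LK LD1_c26 LD2_c31 LD3_c7)) = (LP (LK LD1_c16 LD2_c34 LD3_c3)) :=
  Lre_e IH (LK LD1_c26 LD2_c31 LD3_c7) (LK LD1_c16 LD2_c34 LD3_c3) Lrfl Lrfl
theorem f205047 : Led Lsl_df (LP (LK LD1_c18 LD2_c18 LD3_c57)) = (LP (LK LD1_c26 LD2_c31 LD3_c7)) :=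
  Lgr Lrot170 (Lpr_gt (f204934 IH) (Lpr_df (K40.f204939 IH) (Lpr_et (K37.f101049 IH) (Lpe (K12.f101042 IH) (Lpr_dt (K9.f100660 IH) (Lpr_gt (K10.f101312 IH) (Lpe (K12.f43028 IH) (Lpr_et (K47.f101319 IH) (Lpr_gt (f101320 IH) (Lpe (f101321 IH) (Lpn (LP (LK LD1_c26 LD2_c31 LD3_c7)))))))))))))
theorem f609036 : Led Lsl_gt (LP (LK LD1_c23 LD2_c9 LD3_c18)) = (LP (LK LD1_c26 LD2_c31 LD3_c7)) :=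
  Lgr Lrot137 (Lpr_ef (K47.f609030 IH) (Lpr_dt (K47.f39227 IH) (Lpe (K37.f39213 IH) (Lpe (K40.f100983 IH) (Lpr_et (K9.f100975 IH) (Lpr_gf (K12.f101042 IH) (Lpe (K37.f101049 IH) (Lpe (K40.f204939 IH) (Lpe (f204934 IH) (Lpr_df (f205047 IH) (Lpn (LP (LK LD1_c26 LD2_c31 LD3_c7)))))))))))))
theorem f609028 : Led Lsl_df (LP (LK LD1_c23 LD2_c9 LD3_c18)) = (LP (LK LD1_c18 LD2_c19 LD3_c26)) :=
  Lgr Lrot38 (Lpr_dt (K47.f609022 IH) (Lpn (LP (LK LD1_c18 LD2_c19 LD3_c26))))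
theorem f303837 : Led Lsl_ef (LP (LK LD1_c16 LD2_c10 LD3_c28)) = (LP (LK LD1_c16 LD2_c11 LD3_c50)) :=
  Lgr Lrot88 (Lpr_et (K32.f303835 IH) (Lpn (LP (LK LD1_c16 LD2_c11 LD3_c50))))
theorem f205050 : Led Lsl_dt (LP (LK LD1_c18 LD2_c18 LD3_c57)) = (LP (LK LD1_c26 LD2_c31 LD3_c7)) :=
  Lgr Lrot42 (Lpr_df (f205047 IH) (Lpn (LP (LK LD1_c26 LD2_c31 LD3_c7))))
theorem f205052 : Led Lsl_et (LP (LK LD1_c18 LD2_c18 LD3_c57)) = (LP (LK LD1_c27 LD2_c57 LD3_c40)) :=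
  Lre_e IH (LK LD1_c18 LD2_c18 LD3_c57) (LK LD1_c27 LD2_c57 LD3_c40) Lrfl Lrfl
theorem f609042 : Led Lsl_gf (LP (LK LD1_c26 LD2_c22 LD3_c51)) = (LP (LK LD1_c27 LD2_c57 LD3_c40)) :=
  Lgr Lrot138 (Lpr_dt (K43.f205379 IH) (Lpr_gt (K43.f303827 IH) (Lpr_df (K32.f36362 IH) (Lpe (f303837 IH) (Lpr_gt (K37.f303946 IH) (Lpe (K47.f164931 IH) (Lpe (f609028 IH) (Lpr_gt (f609036 IH) (Lpe (f205050 IH) (Lpr_et (f205052 IH) (Lpn (LP (LK LD1_c27 LD2_c57 LD3_c40)))))))))))))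
theorem f567329 : Led Lsl_af (LP (LK LD1_c26 LD2_c22 LD3_c51)) = (LP (LK LD1_c21 LD2_c30 LD3_c3)) :=
  Lgr Lrot45 (Lpr_ft (K43.f567327 IH) (Lpr_at (K37.f543223 IH) (Lpe (K37.f543241 IH) (Lpn (LP (LK LD1_c21 LD2_c30 LD3_c3))))))
theorem f609044 : Led Lsl_gt (LP (LK LD1_c23 LD2_c14 LD3_c11)) = (LP (LK LD1_c27 LD2_c57 LD3_c40)) :=
  Lgr Lrot5 (Lpe (K37.f543241 IH) (Lpe (f567329 IH) (Lpr_gf (f609042 IH) (Lpn (LP (LK LD1_c27 LD2_c57 LD3_c40))))))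
theorem f526414 : Led Lsl_ft (LP (LK LD1_c23 LD2_c9 LD3_c18)) = (LP (LK LD1_c13 LD2_c43 LD3_c1)) :=
  Lre_f IH (LK LD1_c23 LD2_c9 LD3_c18) (LK LD1_c13 LD2_c43 LD3_c1) Lrfl Lrfl
theorem f609040 : Led Lsl_gf (LP (LK LD1_c23 LD2_c9 LD3_c12)) = (LP (LK LD1_c26 LD2_c31 LD3_c7)) :=
  Lgr Lrot76 (Lpe (K50.f526416 IH) (Lpe (f526414 IH) (Lpr_gt (f609036 IH) (Lpn (LP (LK LD1_c26 LD2_c31 LD3_c7))))))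
theorem f609660 : Led Lsl_et (LP (LK LD1_c23 LD2_c16 LD3_c19)) = (LP (LK LD1_c13 LD2_c48 LD3_c14)) :=
  Lre_e IH (LK LD1_c23 LD2_c16 LD3_c19) (LK LD1_c13 LD2_c48 LD3_c14) Lrfl Lrfl
theorem f609652 : Led Lsl_et (LP (LK LD1_c13 LD2_c48 LD3_c14)) = (LP (LK LD1_c23 LD2_c16 LD3_c19)) :=
  Lre_e IH (LK LD1_c13 LD2_c48 LD3_c14) (LK LD1_c23 LD2_c16 LD3_c19) Lrfl Lrfl
theorem f609653 : Led Lsl_df (LP (LK LD1_c21 LD2_c12 LD3_c55)) = (LP (LK LD1_c23 LD2_c16 LD3_c19)) :=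
  Lgr Lrot70 (Lpe (K57.f546980 IH) (Lpr_dt (K57.f108147 IH) (Lpr_et (K62.f465515 IH) (Lpr_dt (K47.f609648 IH) (Lpr_et (f609652 IH) (Lpn (LP (LK LD1_c23 LD2_c16 LD3_c19))))))))
theorem f270230 : Led Lsl_gf (LP (LK LD1_c20 LD2_c21 LD3_c14)) = (LP (LK LD1_c21 LD2_c12 LD3_c55)) :=
  Lgr Lrot76 (Lpr_af (K16.f270222 IH) (Lpe (K16.f211539 IH) (Lpr_gt (K57.f197845 IH) (Lpn (LP (LK LD1_c21 LD2_c12 LD3_c55))))))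
theorem f410748 : Led Lsl_gf (LP (LK LD1_c21 LD2_c10 LD3_c44)) = (LP (LK LD1_c16 LD2_c34 LD3_c9)) :=
  Lgr Lrot76 (Lpr_af (K37.f410728 IH) (Lpe (K39.f205001 IH) (Lpr_gt (K50.f198015 IH) (Lpn (LP (LK LD1_c16 LD2_c34 LD3_c9))))))
theorem f410829 : Led Lsl_af (LP (LK LD1_c21 LD2_c10 LD3_c37)) = (LP (LK LD1_c16 LD2_c34 LD3_c5)) :=
  Lgr Lrot50 (Lpr_et (K37.f410827 IH) (Lpe (K16.f271923 IH) (Lpr_et (K16.f271886 IH) (Lpn (LP (LK LD1_c16 LD2_c34 LD3_c5))))))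
theorem f410862 : Led Lsl_gf (LP (LK LD1_c21 LD2_c10 LD3_c37)) = (LP (LK LD1_c16 LD2_c34 LD3_c3)) :=
  Lgr Lrot76 (Lpr_af (f410829 IH) (Lpe (K37.f239023 IH) (Lpr_gt (f101320 IH) (Lpn (LP (LK LD1_c16 LD2_c34 LD3_c3))))))
theorem f410899 : Led Lsl_gt (LP (LK LD1_c18 LD2_c22 LD3_c59)) = (LP (LK LD1_c18 LD2_c18 LD3_c57)) :=
  Lgr Lrot139 (Lpe (K39.f241064 IH) (Lpr_gf (f410748 IH) (Lpr_ef (K50.f410891 IH) (Lpr_dt (K50.f193522 IH) (Lpr_gf (K50.f271944 IH) (Lpe (K41.f192755 IH) (Lpe (K37.f410831 IH) (Lpr_gf (f410862 IH) (Lpe (f101321 IH) (Lpe (f205047 IH) (Lpn (LP (LK LD1_c18 LD2_c18 LD3_c57)))))))))))))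
theorem f609661 : Led Lsl_dt (LP (LK LD1_c29 LD2_c55 LD3_c27)) = (LP (LK LD1_c23 LD2_c9 LD3_c12)) :=
  Lgr Lrot56 (Lpr_et (K50.f609659 IH) (Lpr_gt (K47.f609655 IH) (Lpe (f609660 IH) (Lpe (f609653 IH) (Lpe (f270230 IH) (Lpr_df (K57.f240885 IH) (Lpe (K39.f410732 IH) (Lpr_gt (f410899 IH) (Lpr_dt (f205050 IH) (Lpe (f609040 IH) (Lpn (LP (LK LD1_c23 LD2_c9 LD3_c12)))))))))))))
theorem f609650 : Led Lsl_df (LP (LK LD1_c13 LD2_c30 LD3_c53)) = (LP (LK LD1_c13 LD2_c48 LD3_c14)) :=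
  Lgr Lrot38 (Lpr_dt (K47.f609648 IH) (Lpn (LP (LK LD1_c13 LD2_c48 LD3_c14))))
theorem f798552 : Led Lsl_gt (LP (LK LD1_c13 LD2_c30 LD3_c53)) = v21665 :=
  Lgr Lrot139 (Lpr_df (f609650 IH) (Lpe (K47.f609655 IH) (Lpe (K50.f609659 IH) (Lpr_dt (f609661 IH) (Lpr_gf (f609040 IH) (Lpe (f205050 IH) (Lpr_et (f205052 IH) (Lpe (f609044 IH) (Lpe (K37.f526791 IH) (Lpr_dt (f798549 IH) (Lpn v21665)))))))))))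
theorem f514972 : Led Lsl_ft (LP (LK LD1_c7 LD2_c8 LD3_c54)) = (LP (LK LD1_c3 LD2_c33 LD3_c56)) :=
  Lre_f IH (LK LD1_c7 LD2_c8 LD3_c54) (LK LD1_c3 LD2_c33 LD3_c56) Lrfl Lrfl
theorem f526904 : Led Lsl_df (LP (LK LD1_c7 LD2_c8 LD3_c54)) = (LP (LK LD1_c13 LD2_c24 LD3_c31)) :=
  Lgr Lrot78 (Lpr_ft (f514972 IH) (Lpr_dt (K33.f10667 IH) (Lpr_ft (K43.f526899 IH) (Lpn (LP (LK LD1_c13 LD2_c24 LD3_c31))))))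
theorem f526907 : Led Lsl_bt (LP (LK LD1_c7 LD2_c8 LD3_c54)) = (LP (LK LD1_c13 LD2_c32 LD3_c10)) :=
  Lre_b IH (LK LD1_c7 LD2_c8 LD3_c54) (LK LD1_c13 LD2_c32 LD3_c10) Lrfl Lrfl
theorem f526908 : Led Lsl_dt (LP (LK LD1_c13 LD2_c32 LD3_c10)) = (LP (LK LD1_c22 LD2_c42 LD3_c41)) :=
  Lgr Lrot79 (Lpe (f526907 IH) (Lpr_df (f526904 IH) (Lpe (K43.f18961 IH) (Lpn (LP (LK LD1_c22 LD2_c42 LD3_c41))))))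
theorem f798553 : Led Lsl_et (LP (LK LD1_c13 LD2_c32 LD3_c10)) = v21665 :=
  Lgr Lrot122 (Lpr_dt (f526908 IH) (Lpe (K43.f543287 IH) (Lpe (K43.f439551 IH) (Lpr_et (K43.f470251 IH) (Lpe (K47.f610708 IH) (Lpr_dt (K47.f479722 IH) (Lpr_gt (K57.f611390 IH) (Lpe (K62.f108145 IH) (Lpr_et (K62.f465515 IH) (Lpr_gt (f798552 IH) (Lpn v21665)))))))))))
theorem f798558 : Led Lsl_cf (LP (LK LD1_c13 LD2_c32 LD3_c10)) = v21666 :=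
  Lgr Lrot39 (Lpr_et (f798553 IH) (Lpe (f798547 IH) (Lpr_et (f798556 IH) (Lpn v21666))))
theorem f526915 : Led Lsl_at (LP (LK LD1_c7 LD2_c8 LD3_c48)) = (LP (LK LD1_c13 LD2_c32 LD3_c1)) :=
  Lre_a IH (LK LD1_c7 LD2_c8 LD3_c48) (LK LD1_c13 LD2_c32 LD3_c1) Lrfl Lrfl
theorem f524058 : Led Lsl_ft (LP (LK LD1_c13 LD2_c32 LD3_c10)) = (LP (LK LD1_c7 LD2_c8 LD3_c48)) :=
  Lre_f IH (LK LD1_c13 LD2_c32 LD3_c10) (LK LD1_c7 LD2_c8 LD3_c48) Lrfl Lrfl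
theorem f554083 : Led Lsl_gt (LP (LK LD1_c13 LD2_c32 LD3_c10)) = (LP (LK LD1_c13 LD2_c41 LD3_c55)) :=
  Lgr Lrot5 (Lpr_ft (f524058 IH) (Lpr_at (f526915 IH) (Lpr_gf (K40.f554078 IH) (Lpn (LP (LK LD1_c13 LD2_c41 LD3_c55))))))
theorem f809881 : Led Lsl_gt (LP (LK LD1_c24 LD2_c9 LD3_c47)) = (LP (LK LD1_c14 LD2_c29 LD3_c37)) :=
  Lgr Lrot82 (Lpe (K34.f533451 IH) (Lpe (K40.f475306 IH) (Lpe (f554083 IH) (Lpr_cf (f798558 IH) (Lpe (f798557 IH) (Lpe (K49.f661930 IH) (Lpe (K39.f524097 IH) (Lpr_ct (f809876 IH) (Lpe (f809872 IH) (Lpe (K61.f441236 IH) (Lpn (LP (LK LD1_c14 LD2_c29 LD3_c37)))))))))))))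
theorem f809882 : Led Lsl_gt (LP (LK LD1_c24 LD2_c9 LD3_c47)) = (LP (LK LD1_c14 LD2_c29 LD3_c37)) :=
  Leop (Lpe (f809881 IH) (Lpn (LP (LK LD1_c24 LD2_c9 LD3_c47))))
theorem seed_1751 : LEOK LG_g (LK LD1_c24 LD2_c9 LD3_c47) :=
  Leoe_g (LK LD1_c24 LD2_c9 LD3_c47) (f809882 IH)
def v22722 : LQ := Led Lsl_at (LP (LK LD1_c7 LD2_c41 LD3_c35))
theorem f809972 : Led Lsl_at (LP (LK LD1_c7 LD2_c41 LD3_c35)) = v22722 :=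
  Lrfl
def v7527 : LQ := Led Lsl_at (LP (LK LD1_c3 LD2_c50 LD3_c15))
theorem f666342 : Led Lsl_at (LP (LK LD1_c3 LD2_c50 LD3_c15)) = v7527 :=
  Lrfl
theorem f666343 : Led Lsl_af (LP (LK LD1_c3 LD2_c50 LD3_c15)) = v7527 :=
  Lgr Lrot0 (Lpr_at (f666342 IH) (Lpn v7527))
theorem f809974 : Led Lsl_df v7527 = v22722 :=
  Lgr Lrot18 (Lpe (f666343 IH) (Lpr_dt (K48.f87408 IH) (Lpr_at (f809972 IH) (Lpn v22722))))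
theorem f87418 : Led Lsl_gt (LP (LK LD1_c3 LD2_c50 LD3_c16)) = (LP (LK LD1_c1 LD2_c52 LD3_c3)) :=
  Lre_g IH (LK LD1_c3 LD2_c50 LD3_c16) (LK LD1_c1 LD2_c52 LD3_c3) Lrfl Lrfl
theorem f666346 : Led Lsl_ft (LP (LK LD1_c3 LD2_c50 LD3_c16)) = v7527 :=
  Lgr Lrot2 (Lpr_gt (f87418 IH) (Lpr_gt (K48.f87407 IH) (Lpr_af (f666343 IH) (Lpn v7527))))
theorem f666348 : Led Lsl_ff (LP (LK LD1_c3 LD2_c50 LD3_c16)) = v7527 :=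
  Lgr Lrot3 (Lpr_ft (f666346 IH) (Lpn v7527))
theorem f87420 : Led Lsl_dt (LP (LK LD1_c3 LD2_c50 LD3_c16)) = (LP (LK LD1_c7 LD2_c41 LD3_c38)) :=
  Lre_d IH (LK LD1_c3 LD2_c50 LD3_c16) (LK LD1_c7 LD2_c41 LD3_c38) Lrfl Lrfl
theorem f809976 : Led Lsl_ft (LP (LK LD1_c7 LD2_c41 LD3_c38)) = v22722 :=
  Lgr Lrot54 (Lpe (f87420 IH) (Lpr_ff (f666348 IH) (Lpr_df (f809974 IH) (Lpn v22722))))
theorem f809973 : Led Lsl_af (LP (LK LD1_c7 LD2_c41 LD3_c35)) = v22722 :=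
  Lgr Lrot0 (Lpr_at (f809972 IH) (Lpn v22722))
theorem f439903 : Led Lsl_gt (LP (LK LD1_c14 LD2_c30 LD3_c2)) = (LP (LK LD1_c7 LD2_c41 LD3_c35)) :=
  Lre_g IH (LK LD1_c14 LD2_c30 LD3_c2) (LK LD1_c7 LD2_c41 LD3_c35) Lrfl Lrfl
theorem f809978 : Led Lsl_gt (LP (LK LD1_c7 LD2_c41 LD3_c38)) = (LP (LK LD1_c14 LD2_c30 LD3_c2)) :=
  Lgr Lrot5 (Lpr_ft (f809976 IH) (Lpe (f809973 IH) (Lpe (f439903 IH) (Lpn (LP (LK LD1_c14 LD2_c30 LD3_c2))))))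
theorem f809979 : Led Lsl_gt (LP (LK LD1_c7 LD2_c41 LD3_c38)) = (LP (LK LD1_c14 LD2_c30 LD3_c2)) :=
  Leop (Lpe (f809978 IH) (Lpn (LP (LK LD1_c7 LD2_c41 LD3_c38))))
theorem seed_1752 : LEOK LG_g (LK LD1_c7 LD2_c41 LD3_c38) :=
  Leoe_g (LK LD1_c7 LD2_c41 LD3_c38) (f809979 IH)
def v22737 : LQ := Led Lsl_dt (LP (LK LD1_c7 LD2_c41 LD3_c44))
theorem f810043 : Led Lsl_dt (LP (LK LD1_c7 LD2_c41 LD3_c44)) = v22737 :=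
  Lrfl
def v22404 : LQ := Led Lsl_gf (LP (LK LD1_c7 LD2_c35 LD3_c57))
theorem f806732 : Led Lsl_gf (LP (LK LD1_c7 LD2_c35 LD3_c57)) = v22404 :=
  Lrfl
theorem f523301 : Led Lsl_dt (LP (LK LD1_c22 LD2_c21 LD3_c34)) = (LP (LK LD1_c30 LD2_c27 LD3_c6)) :=
  Lre_d IH (LK LD1_c22 LD2_c21 LD3_c34) (LK LD1_c30 LD2_c27 LD3_c6) Lrfl Lrfl
theorem f92879 : Led Lsl_dt (LP (LK LD1_c31 LD2_c21 LD3_c59)) = (LP (LK LD1_c24 LD2_c4 LD3_c29)) :=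
  Lre_d IH (LK LD1_c31 LD2_c21 LD3_c59) (LK LD1_c24 LD2_c4 LD3_c29) Lrfl Lrfl
theorem f523308 : Led Lsl_ff (LP (LK LD1_c22 LD2_c21 LD3_c34)) = (LP (LK LD1_c24 LD2_c4 LD3_c29)) :=
  Lgr Lrot19 (Lpr_dt (f523301 IH) (Lpr_ft (K34.f523304 IH) (Lpr_dt (f92879 IH) (Lpn (LP (LK LD1_c24 LD2_c4 LD3_c29))))))
theorem f523285 : Led Lsl_at (LP (LK LD1_c22 LD2_c21 LD3_c34)) = (LP (LK LD1_c23 LD2_c55 LD3_c46)) :=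
  Lgr Lrot107 (Lpe (K34.f484982 IH) (Lpr_af (K34.f523092 IH) (Lpe (K34.f477812 IH) (Lpn (LP (LK LD1_c23 LD2_c55 LD3_c46))))))
theorem f532787 : Led Lsl_gt (LP (LK LD1_c23 LD2_c57 LD3_c22)) = (LP (LK LD1_c23 LD2_c55 LD3_c46)) :=
  Lgr Lrot46 (Lpr_gf (K48.f532701 IH) (Lpe (f523308 IH) (Lpr_at (f523285 IH) (Lpn (LP (LK LD1_c23 LD2_c55 LD3_c46))))))
theorem f477809 : Led Lsl_bt (LP (LK LD1_c14 LD2_c17 LD3_c60)) = (LP (LK LD1_c7 LD2_c35 LD3_c1)) :=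
  Lre_b IH (LK LD1_c14 LD2_c17 LD3_c60) (LK LD1_c7 LD2_c35 LD3_c1) Lrfl Lrfl
theorem f87699 : Led Lsl_ct (LP (LK LD1_c3 LD2_c48 LD3_c55)) = (LP (LK LD1_c7 LD2_c38 LD3_c60)) :=
  Lre_c IH (LK LD1_c3 LD2_c48 LD3_c55) (LK LD1_c7 LD2_c38 LD3_c60) Lrfl Lrfl
def v22360 : LQ := Led Lsl_gf (LP (LK LD1_c7 LD2_c35 LD3_c3))
theorem f805794 : Led Lsl_gf (LP (LK LD1_c7 LD2_c35 LD3_c3)) = v22360 :=
  Lrfl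
theorem f87704 : Led Lsl_ct (LP (LK LD1_c7 LD2_c35 LD3_c3)) = (LP (LK LD1_c3 LD2_c47 LD3_c5)) :=
  Lre_c IH (LK LD1_c7 LD2_c35 LD3_c3) (LK LD1_c3 LD2_c47 LD3_c5) Lrfl Lrfl
theorem f87705 : Led Lsl_ct (LP (LK LD1_c1 LD2_c51 LD3_c25)) = (LP (LK LD1_c3 LD2_c48 LD3_c54)) :=
  Lre_c IH (LK LD1_c1 LD2_c51 LD3_c25) (LK LD1_c3 LD2_c48 LD3_c54) Lrfl Lrfl
theorem f87706 : Led Lsl_af (LP (LK LD1_c7 LD2_c35 LD3_c3)) = (LP (LK LD1_c3 LD2_c48 LD3_c54)) :=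
  Lgr Lrot68 (Lpr_ct (f87704 IH) (Lpr_at (K2.f87693 IH) (Lpr_ct (f87705 IH) (Lpn (LP (LK LD1_c3 LD2_c48 LD3_c54))))))
theorem f442335 : Led Lsl_ft (LP (LK LD1_c7 LD2_c38 LD3_c60)) = (LP (LK LD1_c3 LD2_c48 LD3_c54)) :=
  Lre_f IH (LK LD1_c7 LD2_c38 LD3_c60) (LK LD1_c3 LD2_c48 LD3_c54) Lrfl Lrfl
theorem f805795 : Led Lsl_gt (LP (LK LD1_c7 LD2_c38 LD3_c60)) = v22360 :=
  Lgr Lrot5 (Lpr_ft (f442335 IH) (Lpe (f87706 IH) (Lpr_gf (f805794 IH) (Lpn v22360))))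
def v7432 : LQ := Led Lsl_gf (LP (LK LD1_c3 LD2_c47 LD3_c20))
theorem f665486 : Led Lsl_gf (LP (LK LD1_c3 LD2_c47 LD3_c20)) = v7432 :=
  Lrfl
theorem f117355 : Led Lsl_ft (LP (LK LD1_c3 LD2_c50 LD3_c21)) = (LP (LK LD1_c1 LD2_c52 LD3_c4)) :=
  Lre_f IH (LK LD1_c3 LD2_c50 LD3_c21) (LK LD1_c1 LD2_c52 LD3_c4) Lrfl Lrfl
theorem f665487 : Led Lsl_gt (LP (LK LD1_c3 LD2_c50 LD3_c21)) = v7432 :=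
  Lgr Lrot5 (Lpr_ft (f117355 IH) (Lpr_at (K4.f117345 IH) (Lpr_gf (f665486 IH) (Lpn v7432))))
theorem f805797 : Led Lsl_ct v7432 = v22360 :=
  Lgr Lrot152 (Lpe (f665487 IH) (Lpe (K48.f440839 IH) (Lpr_gt (K29.f481705 IH) (Lpr_ct (K29.f442359 IH) (Lpr_gt (K29.f88618 IH) (Lpr_ct (K28.f87697 IH) (Lpe (K61.f89188 IH) (Lpe (f87704 IH) (Lpr_gf (f805794 IH) (Lpn v22360))))))))))
theorem f806734 : Led Lsl_bt v7432 = v22404 :=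
  Lgr Lrot22 (Lpr_ct (f805797 IH) (Lpe (f805795 IH) (Lpe (f87699 IH) (Lpe (K33.f514541 IH) (Lpe (f477809 IH) (Lpr_ct (K34.f477810 IH) (Lpe (f532787 IH) (Lpe (K48.f440281 IH) (Lpr_bt (K48.f162433 IH) (Lpr_gf (f806732 IH) (Lpn v22404)))))))))))
theorem f806736 : Led Lsl_bf v7432 = v22404 :=
  Lgr Lrot24 (Lpr_bt (f806734 IH) (Lpn v22404))
theorem f665488 : Led Lsl_ff (LP (LK LD1_c3 LD2_c50 LD3_c19)) = v7432 :=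
  Lgr Lrot52 (Lpr_at (K48.f665481 IH) (Lpe (K48.f665470 IH) (Lpr_gf (f665486 IH) (Lpn v7432))))
theorem f665482 : Led Lsl_bt (LP (LK LD1_c3 LD2_c50 LD3_c19)) = (LP (LK LD1_c7 LD2_c41 LD3_c44)) :=
  Lre_b IH (LK LD1_c3 LD2_c50 LD3_c19) (LK LD1_c7 LD2_c41 LD3_c44) Lrfl Lrfl
theorem f806738 : Led Lsl_ft (LP (LK LD1_c7 LD2_c41 LD3_c44)) = v22404 :=
  Lgr Lrot75 (Lpe (f665482 IH) (Lpr_ff (f665488 IH) (Lpr_bf (f806736 IH) (Lpn v22404))))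
theorem f15254 : Led Lsl_et (LP (LK LD1_c1 LD2_c50 LD3_c47)) = (LP (LK LD1_c0 LD2_c52 LD3_c17)) :=
  Lre_e IH (LK LD1_c1 LD2_c50 LD3_c47) (LK LD1_c0 LD2_c52 LD3_c17) Lrfl Lrfl
theorem f658579 : Led Lsl_ef K34.v2302 = K48.v6804 :=
  Lgr Lrot88 (Lpr_et (K48.f658577 IH) (Lpn K48.v6804))
theorem f665489 : Led Lsl_dt K48.v6804 = v7432 :=
  Lgr Lrot136 (Lpe (f658579 IH) (Lpe (K34.f511969 IH) (Lpe (K61.f65022 IH) (Lpr_dt (K1.f18138 IH) (Lpe (K1.f65006 IH) (Lpe (K0.f15088 IH) (Lpe (K3.f11264 IH) (Lpe (f15254 IH) (Lpr_dt (K48.f15251 IH) (Lpr_gf (f665486 IH) (Lpn v7432)))))))))))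
theorem f665491 : Led Lsl_df K48.v6804 = v7432 :=
  Lgr Lrot38 (Lpr_dt (f665489 IH) (Lpn v7432))
theorem f658578 : Led Lsl_af K48.v3810 = K48.v6804 :=
  Lgr Lrot50 (Lpe (K48.f627380 IH) (Lpq (K34.f493755 IH) (Lpe (K34.f528012 IH) (Lpr_et (K48.f658577 IH) (Lpn K48.v6804)))))
theorem f665492 : Led Lsl_at K48.v2672 = v7432 :=
  Lgr Lrot51 (Lpr_df (K48.f627382 IH) (Lpr_af (f658578 IH) (Lpr_df (f665491 IH) (Lpn v7432))))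
theorem f628027 : Led Lsl_bt K48.v3810 = K48.v3939 :=
  Lgr Lrot119 (Lpe (K48.f627378 IH) (Lpq (K34.f493755 IH) (Lpe (K46.f493491 IH) (Lpr_ef (K48.f628025 IH) (Lpn K48.v3939)))))
theorem f666489 : Led Lsl_bf K48.v2672 = K48.v7545 :=
  Lgr Lrot93 (Lpr_dt (K48.f627383 IH) (Lpr_bt (f628027 IH) (Lpr_dt (K48.f666487 IH) (Lpn K48.v7545))))
theorem f806735 : Led Lsl_af (LP (LK LD1_c13 LD2_c10 LD3_c43)) = v22404 :=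
  Lgr Lrot36 (Lpr_bt (K61.f11995 IH) (Lpr_at (K61.f666491 IH) (Lpe (f666489 IH) (Lpr_at (f665492 IH) (Lpr_bt (f806734 IH) (Lpn v22404))))))
theorem f665507 : Led Lsl_ct (LP (LK LD1_c7 LD2_c41 LD3_c44)) = (LP (LK LD1_c14 LD2_c30 LD3_c21)) :=
  Lre_c IH (LK LD1_c7 LD2_c41 LD3_c44) (LK LD1_c14 LD2_c30 LD3_c21) Lrfl Lrfl
theorem f810045 : Led Lsl_df (LP (LK LD1_c7 LD2_c41 LD3_c44)) = v22737 :=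
  Lgr Lrot38 (Lpr_dt (f810043 IH) (Lpn v22737))
theorem f810046 : Led Lsl_cf v22737 = v22737 :=
  Lgr Lrot118 (Lpe (f810045 IH) (Lpr_ct (f665507 IH) (Lpr_dt (K61.f666550 IH) (Lpe (K61.f666548 IH) (Lpr_dt (K61.f11997 IH) (Lpr_ct (K61.f11996 IH) (Lpr_af (f806735 IH) (Lpe (f806738 IH) (Lpr_dt (f810043 IH) (Lpn v22737))))))))))
theorem f666366 : Led Lsl_df (LP (LK LD1_c3 LD2_c50 LD3_c19)) = K48.v7532 :=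
  Lgr Lrot38 (Lpr_dt (K48.f666364 IH) (Lpn K48.v7532))
theorem f810044 : Led Lsl_bf K48.v7532 = v22737 :=
  Lgr Lrot93 (Lpe (f666366 IH) (Lpr_bt (f665482 IH) (Lpr_dt (f810043 IH) (Lpn v22737))))
theorem f666368 : Led Lsl_ct K48.v3829 = K48.v7532 :=
  Lgr Lrot7 (Lpe (K48.f627438 IH) (Lpe (K48.f491206 IH) (Lpe (K34.f451088 IH) (Lpe (K28.f62688 IH) (Lpe (K37.f451093 IH) (Lpqs (K37.f482298 IH) (Lpe (K37.f459821 IH) (Lpr_dt (K4.f65780 IH) (Lpr_gt (K48.f458492 IH) (Lpr_dt (K48.f666364 IH) (Lpn K48.v7532)))))))))))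
theorem f810048 : Led Lsl_bt K48.v7532 = v22737 :=
  Lgr Lrot128 (Lpe (f666368 IH) (Lpr_bf (K48.f627446 IH) (Lpr_cf (K48.f666369 IH) (Lpr_bf (f810044 IH) (Lpr_cf (f810046 IH) (Lpn v22737))))))
theorem f666374 : Led Lsl_et (LP (LK LD1_c7 LD2_c3 LD3_c31)) = K48.v7532 :=
  Lgr Lrot158 (Lpe (K29.f443502 IH) (Lpr_ef (K48.f627441 IH) (Lpr_cf (K48.f666369 IH) (Lpn K48.v7532))))
theorem f810049 : Led Lsl_ef (LP (LK LD1_c13 LD2_c23 LD3_c8)) = v22737 :=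
  Lgr Lrot29 (Lpr_bt (K47.f458487 IH) (Lpr_et (f666374 IH) (Lpr_bt (f810048 IH) (Lpn v22737))))
theorem f666544 : Led Lsl_gt (LP (LK LD1_c14 LD2_c10 LD3_c19)) = (LP (LK LD1_c7 LD2_c41 LD3_c44)) :=
  Lgr Lrot46 (Lpe (K61.f659995 IH) (Lpr_ft (K61.f666521 IH) (Lpe (K48.f666513 IH) (Lpn (LP (LK LD1_c7 LD2_c41 LD3_c44))))))
theorem f810055 : Led Lsl_gt (LP (LK LD1_c13 LD2_c23 LD3_c8)) = (LP (LK LD1_c22 LD2_c29 LD3_c48)) :=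
  Lgr Lrot137 (Lpr_ef (f810049 IH) (Lpe (f810045 IH) (Lpe (f666544 IH) (Lpe (K61.f16690 IH) (Lpr_et (K61.f16689 IH) (Lpe (K5.f16685 IH) (Lpe (K8.f14768 IH) (Lpr_dt (K8.f14787 IH) (Lpe (K8.f14799 IH) (Lpe (K8.f162332 IH) (Lpn (LP (LK LD1_c22 LD2_c29 LD3_c48)))))))))))))
theorem f810056 : Led Lsl_gt (LP (LK LD1_c13 LD2_c23 LD3_c8)) = (LP (LK LD1_c22 LD2_c29 LD3_c48)) :=
  Leop (Lpe (f810055 IH) (Lpn (LP (LK LD1_c13 LD2_c23 LD3_c8))))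
theorem seed_1753 : LEOK LG_g (LK LD1_c13 LD2_c23 LD3_c8) :=
  Leoe_g (LK LD1_c13 LD2_c23 LD3_c8) (f810056 IH)
def v22756 : LQ := Led Lsl_ft (LP (LK LD1_c7 LD2_c42 LD3_c19))
theorem f810172 : Led Lsl_ft (LP (LK LD1_c7 LD2_c42 LD3_c19)) = v22756 :=
  Lrfl
theorem f485371 : Led Lsl_dt (LP (LK LD1_c7 LD2_c42 LD3_c19)) = (LP (LK LD1_c14 LD2_c31 LD3_c19)) :=
  Lre_d IH (LK LD1_c7 LD2_c42 LD3_c19) (LK LD1_c14 LD2_c31 LD3_c19) Lrfl Lrfl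
theorem f112234 : Led Lsl_gt (LP (LK LD1_c7 LD2_c35 LD3_c27)) = (LP (LK LD1_c14 LD2_c18 LD3_c41)) :=
  Lre_g IH (LK LD1_c7 LD2_c35 LD3_c27) (LK LD1_c14 LD2_c18 LD3_c41) Lrfl Lrfl
theorem f789272 : Led Lsl_df (LP (LK LD1_c13 LD2_c21 LD3_c43)) = (LP (LK LD1_c14 LD2_c18 LD3_c41)) :=
  Lgr Lrot84 (Lpr_cf (K61.f789267 IH) (Lpe (f485371 IH) (Lpe (K60.f484883 IH) (Lpe (K47.f135947 IH) (Lpe (K37.f12241 IH) (Lpr_cf (K37.f485360 IH) (Lpr_gt (K37.f15113 IH) (Lpr_dt (K4.f15236 IH) (Lpr_gt (f112234 IH) (Lpn (LP (LK LD1_c14 LD2_c18 LD3_c41))))))))))))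
theorem f789276 : Led Lsl_dt (LP (LK LD1_c13 LD2_c21 LD3_c43)) = (LP (LK LD1_c14 LD2_c18 LD3_c41)) :=
  Lgr Lrot42 (Lpr_df (f789272 IH) (Lpn (LP (LK LD1_c14 LD2_c18 LD3_c41))))
theorem f484881 : Led Lsl_ct (LP (LK LD1_c14 LD2_c18 LD3_c41)) = (LP (LK LD1_c23 LD2_c56 LD3_c35)) :=
  Lre_c IH (LK LD1_c14 LD2_c18 LD3_c41) (LK LD1_c23 LD2_c56 LD3_c35) Lrfl Lrfl
theorem f789279 : Led Lsl_dt (LP (LK LD1_c23 LD2_c56 LD3_c35)) = (LP (LK LD1_c31 LD2_c17 LD3_c34)) :=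
  Lre_d IH (LK LD1_c23 LD2_c56 LD3_c35) (LK LD1_c31 LD2_c17 LD3_c34) Lrfl Lrfl
def v22755 : LQ := Led Lsl_at (LP (LK LD1_c7 LD2_c42 LD3_c19))
theorem f810165 : Led Lsl_at (LP (LK LD1_c7 LD2_c42 LD3_c19)) = v22755 :=
  Lrfl
theorem f810166 : Led Lsl_af (LP (LK LD1_c7 LD2_c42 LD3_c19)) = v22755 :=
  Lgr Lrot0 (Lpr_at (f810165 IH) (Lpn v22755))
theorem f810168 : Led Lsl_ft (LP (LK LD1_c7 LD2_c42 LD3_c20)) = v22755 :=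
  Lgr Lrot2 (Lpr_gt (K47.f12235 IH) (Lpr_gt (K60.f484883 IH) (Lpr_af (f810166 IH) (Lpn v22755))))
theorem f810173 : Led Lsl_af (LP (LK LD1_c7 LD2_c42 LD3_c20)) = v22756 :=
  Lgr Lrot45 (Lpr_ft (f810168 IH) (Lpe (f810166 IH) (Lpr_ft (f810172 IH) (Lpn v22756))))
theorem f485391 : Led Lsl_ct (LP (LK LD1_c14 LD2_c31 LD3_c22)) = (LP (LK LD1_c7 LD2_c42 LD3_c20)) :=
  Lre_c IH (LK LD1_c14 LD2_c31 LD3_c22) (LK LD1_c7 LD2_c42 LD3_c20) Lrfl Lrfl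
theorem f485394 : Led Lsl_dt (LP (LK LD1_c24 LD2_c13 LD3_c9)) = (LP (LK LD1_c14 LD2_c31 LD3_c22)) :=
  Lre_d IH (LK LD1_c24 LD2_c13 LD3_c9) (LK LD1_c14 LD2_c31 LD3_c22) Lrfl Lrfl
theorem f810176 : Led Lsl_ct (LP (LK LD1_c31 LD2_c17 LD3_c34)) = (LP (LK LD1_c24 LD2_c13 LD3_c9)) :=
  Lgr Lrot53 (Lpe (f789279 IH) (Lpe (f484881 IH) (Lpe (f789276 IH) (Lpr_cf (K61.f789267 IH) (Lpe (f485371 IH) (Lpr_ft (f810172 IH) (Lpe (f810173 IH) (Lpe (f485391 IH) (Lpe (f485394 IH) (Lpn (LP (LK LD1_c24 LD2_c13 LD3_c9))))))))))))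
theorem f810177 : Led Lsl_ct (LP (LK LD1_c31 LD2_c17 LD3_c34)) = (LP (LK LD1_c24 LD2_c13 LD3_c9)) :=
  Leop (Lpe (f810176 IH) (Lpn (LP (LK LD1_c31 LD2_c17 LD3_c34))))
theorem seed_1754 : LEOK LG_c (LK LD1_c31 LD2_c17 LD3_c34) :=
  Leoe_c (LK LD1_c31 LD2_c17 LD3_c34) (f810177 IH)
def v22757 : LQ := Led Lsl_at (LP (LK LD1_c7 LD2_c42 LD3_c23))
theorem f810184 : Led Lsl_at (LP (LK LD1_c7 LD2_c42 LD3_c23)) = v22757 :=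
  Lrfl
theorem f66180 : Led Lsl_dt (LP (LK LD1_c3 LD2_c50 LD3_c39)) = (LP (LK LD1_c7 LD2_c42 LD3_c23)) :=
  Lre_d IH (LK LD1_c3 LD2_c50 LD3_c39) (LK LD1_c7 LD2_c42 LD3_c23) Lrfl Lrfl
def v7537 : LQ := Led Lsl_at (LP (LK LD1_c3 LD2_c50 LD3_c39))
theorem f666449 : Led Lsl_at (LP (LK LD1_c3 LD2_c50 LD3_c39)) = v7537 :=
  Lrfl
theorem f666450 : Led Lsl_af (LP (LK LD1_c3 LD2_c50 LD3_c39)) = v7537 :=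
  Lgr Lrot0 (Lpr_at (f666449 IH) (Lpn v7537))
theorem f810186 : Led Lsl_df v7537 = v22757 :=
  Lgr Lrot18 (Lpe (f666450 IH) (Lpr_dt (f66180 IH) (Lpr_at (f810184 IH) (Lpn v22757))))
theorem f66179 : Led Lsl_gt (LP (LK LD1_c1 LD2_c52 LD3_c13)) = (LP (LK LD1_c3 LD2_c50 LD3_c39)) :=
  Lre_g IH (LK LD1_c1 LD2_c52 LD3_c13) (LK LD1_c3 LD2_c50 LD3_c39) Lrfl Lrfl
theorem f666452 : Led Lsl_ft (LP (LK LD1_c3 LD2_c50 LD3_c40)) = v7537 :=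
  Lgr Lrot2 (Lpr_gt (K48.f66195 IH) (Lpr_gt (f66179 IH) (Lpr_af (f666450 IH) (Lpn v7537))))
theorem f666454 : Led Lsl_ff (LP (LK LD1_c3 LD2_c50 LD3_c40)) = v7537 :=
  Lgr Lrot3 (Lpr_ft (f666452 IH) (Lpn v7537))
theorem f810188 : Led Lsl_ft (LP (LK LD1_c7 LD2_c42 LD3_c26)) = v22757 :=
  Lgr Lrot54 (Lpe (f66255 IH) (Lpr_ff (f666454 IH) (Lpr_df (f810186 IH) (Lpn v22757))))
theorem f810185 : Led Lsl_af (LP (LK LD1_c7 LD2_c42 LD3_c23)) = v22757 :=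
  Lgr Lrot0 (Lpr_at (f810184 IH) (Lpn v22757))
theorem f110158 : Led Lsl_gt (LP (LK LD1_c14 LD2_c31 LD3_c32)) = (LP (LK LD1_c7 LD2_c42 LD3_c23)) :=
  Lre_g IH (LK LD1_c14 LD2_c31 LD3_c32) (LK LD1_c7 LD2_c42 LD3_c23) Lrfl Lrfl
theorem f810190 : Led Lsl_gt (LP (LK LD1_c7 LD2_c42 LD3_c26)) = (LP (LK LD1_c14 LD2_c31 LD3_c32)) :=
  Lgr Lrot5 (Lpr_ft (f810188 IH) (Lpe (f810185 IH) (Lpe (f110158 IH) (Lpn (LP (LK LD1_c14 LD2_c31 LD3_c32))))))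
theorem f810191 : Led Lsl_gt (LP (LK LD1_c7 LD2_c42 LD3_c26)) = (LP (LK LD1_c14 LD2_c31 LD3_c32)) :=
  Leop (Lpe (f810190 IH) (Lpn (LP (LK LD1_c7 LD2_c42 LD3_c26))))
theorem seed_1755 : LEOK LG_g (LK LD1_c7 LD2_c42 LD3_c26) :=
  Leoe_g (LK LD1_c7 LD2_c42 LD3_c26) (f810191 IH)
def v22760 : LQ := Led Lsl_at (LP (LK LD1_c7 LD2_c42 LD3_c24))
theorem f810202 : Led Lsl_at (LP (LK LD1_c7 LD2_c42 LD3_c24)) = v22760 :=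
  Lrfl
theorem f810203 : Led Lsl_af (LP (LK LD1_c7 LD2_c42 LD3_c24)) = v22760 :=
  Lgr Lrot0 (Lpr_at (f810202 IH) (Lpn v22760))
theorem f65300 : Led Lsl_gt (LP (LK LD1_c14 LD2_c31 LD3_c35)) = (LP (LK LD1_c7 LD2_c42 LD3_c24)) :=
  Lre_g IH (LK LD1_c14 LD2_c31 LD3_c35) (LK LD1_c7 LD2_c42 LD3_c24) Lrfl Lrfl
theorem f65302 : Led Lsl_ct (LP (LK LD1_c7 LD2_c44 LD3_c7)) = (LP (LK LD1_c3 LD2_c51 LD3_c19)) :=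
  Lre_c IH (LK LD1_c7 LD2_c44 LD3_c7) (LK LD1_c3 LD2_c51 LD3_c19) Lrfl Lrfl
theorem f65303 : Led Lsl_gt (LP (LK LD1_c14 LD2_c35 LD3_c17)) = (LP (LK LD1_c7 LD2_c44 LD3_c7)) :=
  Lre_g IH (LK LD1_c14 LD2_c35 LD3_c17) (LK LD1_c7 LD2_c44 LD3_c7) Lrfl Lrfl
theorem f761571 : Led Lsl_ct (LP (LK LD1_c13 LD2_c18 LD3_c35)) = (LP (LK LD1_c14 LD2_c35 LD3_c17)) :=
  Lgr Lrot152 (Lpr_gf (K57.f441348 IH) (Lpe (K57.f109840 IH) (Lpe (K57.f109855 IH) (Lpr_ct (K57.f761567 IH) (Lpr_gt (K57.f65304 IH) (Lpe (K4.f65273 IH) (Lpe (K4.f65185 IH) (Lpe (f65302 IH) (Lpe (f65303 IH) (Lpn (LP (LK LD1_c14 LD2_c35 LD3_c17))))))))))))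
theorem f761574 : Led Lsl_cf (LP (LK LD1_c13 LD2_c18 LD3_c35)) = (LP (LK LD1_c14 LD2_c35 LD3_c17)) :=
  Lgr Lrot11 (Lpr_ct (f761571 IH) (Lpn (LP (LK LD1_c14 LD2_c35 LD3_c17))))
theorem f66136 : Led Lsl_gt (LP (LK LD1_c21 LD2_c45 LD3_c54)) = (LP (LK LD1_c12 LD2_c39 LD3_c41)) :=
  Lre_g IH (LK LD1_c21 LD2_c45 LD3_c54) (LK LD1_c12 LD2_c39 LD3_c41) Lrfl Lrfl
theorem f65290 : Led Lsl_dt (LP (LK LD1_c6 LD2_c35 LD3_c9)) = (LP (LK LD1_c3 LD2_c15 LD3_c55)) :=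
  Lre_d IH (LK LD1_c6 LD2_c35 LD3_c9) (LK LD1_c3 LD2_c15 LD3_c55) Lrfl Lrfl
theorem f65298 : Led Lsl_gt (LP (LK LD1_c7 LD2_c44 LD3_c6)) = (LP (LK LD1_c3 LD2_c51 LD3_c19)) :=
  Lre_g IH (LK LD1_c7 LD2_c44 LD3_c6) (LK LD1_c3 LD2_c51 LD3_c19) Lrfl Lrfl
theorem f65299 : Led Lsl_dt (LP (LK LD1_c7 LD2_c42 LD3_c24)) = (LP (LK LD1_c7 LD2_c44 LD3_c6)) :=
  Lre_d IH (LK LD1_c7 LD2_c42 LD3_c24) (LK LD1_c7 LD2_c44 LD3_c6) Lrfl Lrfl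
theorem f66148 : Led Lsl_ct (LP (LK LD1_c14 LD2_c31 LD3_c35)) = (LP (LK LD1_c21 LD2_c45 LD3_c54)) :=
  Lgr Lrot8 (Lpr_gt (f65300 IH) (Lpr_dt (f65299 IH) (Lpr_gt (f65298 IH) (Lpr_dt (K4.f65185 IH) (Lpr_cf (K4.f65273 IH) (Lpe (f65290 IH) (Lpe (f65301 IH) (Lpr_df (f66125 IH) (Lpe (f66136 IH) (Lpn (LP (LK LD1_c21 LD2_c45 LD3_c54))))))))))))
theorem f65318 : Led Lsl_dt (LP (LK LD1_c7 LD2_c44 LD3_c8)) = (LP (LK LD1_c3 LD2_c51 LD3_c20)) :=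
  Lre_d IH (LK LD1_c7 LD2_c44 LD3_c8) (LK LD1_c3 LD2_c51 LD3_c20) Lrfl Lrfl
theorem f115663 : Led Lsl_dt (LP (LK LD1_c7 LD2_c1 LD3_c44)) = (LP (LK LD1_c13 LD2_c19 LD3_c58)) :=
  Lre_d IH (LK LD1_c7 LD2_c1 LD3_c44) (LK LD1_c13 LD2_c19 LD3_c58) Lrfl Lrfl
theorem f115673 : Led Lsl_af (LP (LK LD1_c7 LD2_c44 LD3_c8)) = (LP (LK LD1_c13 LD2_c19 LD3_c58)) :=
  Lgr Lrot117 (Lpr_dt (f65318 IH) (Lpr_at (K5.f115659 IH) (Lpr_dt (f115663 IH) (Lpn (LP (LK LD1_c13 LD2_c19 LD3_c58))))))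
theorem f65328 : Led Lsl_ct (LP (LK LD1_c7 LD2_c44 LD3_c8)) = (LP (LK LD1_c14 LD2_c35 LD3_c20)) :=
  Lre_c IH (LK LD1_c7 LD2_c44 LD3_c8) (LK LD1_c14 LD2_c35 LD3_c20) Lrfl Lrfl
theorem f115678 : Led Lsl_ct (LP (LK LD1_c22 LD2_c36 LD3_c21)) = (LP (LK LD1_c13 LD2_c19 LD3_c58)) :=
  Lre_c IH (LK LD1_c22 LD2_c36 LD3_c21) (LK LD1_c13 LD2_c19 LD3_c58) Lrfl Lrfl
theorem f115688 : Led Lsl_at (LP (LK LD1_c14 LD2_c35 LD3_c20)) = (LP (LK LD1_c22 LD2_c36 LD3_c21)) :=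
  Lgr Lrot107 (Lpe (f65328 IH) (Lpr_af (f115673 IH) (Lpe (f115678 IH) (Lpn (LP (LK LD1_c22 LD2_c36 LD3_c21))))))
theorem f115697 : Led Lsl_ft (LP (LK LD1_c7 LD2_c44 LD3_c7)) = (LP (LK LD1_c14 LD2_c35 LD3_c20)) :=
  Lre_f IH (LK LD1_c7 LD2_c44 LD3_c7) (LK LD1_c14 LD2_c35 LD3_c20) Lrfl Lrfl
theorem f115698 : Led Lsl_ft (LP (LK LD1_c22 LD2_c36 LD3_c21)) = (LP (LK LD1_c13 LD2_c19 LD3_c57)) :=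
  Lre_f IH (LK LD1_c22 LD2_c36 LD3_c21) (LK LD1_c13 LD2_c19 LD3_c57) Lrfl Lrfl
theorem f115699 : Led Lsl_af (LP (LK LD1_c7 LD2_c44 LD3_c7)) = (LP (LK LD1_c13 LD2_c19 LD3_c57)) :=
  Lgr Lrot45 (Lpr_ft (f115697 IH) (Lpr_at (f115688 IH) (Lpr_ft (f115698 IH) (Lpn (LP (LK LD1_c13 LD2_c19 LD3_c57))))))
theorem f115709 : Led Lsl_gf (LP (LK LD1_c14 LD2_c35 LD3_c17)) = (LP (LK LD1_c22 LD2_c36 LD3_c21)) :=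
  Lgr Lrot47 (Lpr_gt (f65303 IH) (Lpr_af (f115699 IH) (Lpe (f115698 IH) (Lpn (LP (LK LD1_c22 LD2_c36 LD3_c21))))))
theorem f115664 : Led Lsl_ct (LP (LK LD1_c13 LD2_c19 LD3_c58)) = (LP (LK LD1_c22 LD2_c36 LD3_c21)) :=
  Lre_c IH (LK LD1_c13 LD2_c19 LD3_c58) (LK LD1_c22 LD2_c36 LD3_c21) Lrfl Lrfl
theorem f115684 : Led Lsl_at (LP (LK LD1_c7 LD2_c44 LD3_c8)) = (LP (LK LD1_c13 LD2_c19 LD3_c58)) :=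
  Lgr Lrot100 (Lpr_af (f115673 IH) (Lpn (LP (LK LD1_c13 LD2_c19 LD3_c58))))
theorem f65340 : Led Lsl_ft (LP (LK LD1_c3 LD2_c51 LD3_c19)) = (LP (LK LD1_c7 LD2_c44 LD3_c8)) :=
  Lre_f IH (LK LD1_c3 LD2_c51 LD3_c19) (LK LD1_c7 LD2_c44 LD3_c8) Lrfl Lrfl
theorem f115734 : Led Lsl_gt (LP (LK LD1_c3 LD2_c51 LD3_c19)) = (LP (LK LD1_c7 LD2_c44 LD3_c5)) :=
  Lre_g IH (LK LD1_c3 LD2_c51 LD3_c19) (LK LD1_c7 LD2_c44 LD3_c5) Lrfl Lrfl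
theorem f115735 : Led Lsl_gt (LP (LK LD1_c7 LD2_c44 LD3_c5)) = (LP (LK LD1_c13 LD2_c19 LD3_c58)) :=
  Lgr Lrot46 (Lpe (f115734 IH) (Lpr_ft (f65340 IH) (Lpr_at (f115684 IH) (Lpn (LP (LK LD1_c13 LD2_c19 LD3_c58))))))
theorem f115737 : Led Lsl_dt (LP (LK LD1_c14 LD2_c35 LD3_c14)) = (LP (LK LD1_c7 LD2_c44 LD3_c5)) :=
  Lre_d IH (LK LD1_c14 LD2_c35 LD3_c14) (LK LD1_c7 LD2_c44 LD3_c5) Lrfl Lrfl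
theorem f761586 : Led Lsl_gf (LP (LK LD1_c14 LD2_c31 LD3_c35)) = (LP (LK LD1_c14 LD2_c35 LD3_c14)) :=
  Lgr Lrot147 (Lpr_ct (f66148 IH) (Lpr_gt (f66136 IH) (Lpe (f712433 IH) (Lpe (f105572 IH) (Lpr_cf (f761574 IH) (Lpr_gf (f115709 IH) (Lpe (f115664 IH) (Lpe (f115735 IH) (Lpe (f115737 IH) (Lpn (LP (LK LD1_c14 LD2_c35 LD3_c14))))))))))))
theorem f810206 : Led Lsl_ft (LP (LK LD1_c14 LD2_c35 LD3_c14)) = v22760 :=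
  Lgr Lrot2 (Lpe (f761586 IH) (Lpr_gt (f65300 IH) (Lpr_af (f810203 IH) (Lpn v22760))))
theorem f666466 : Led Lsl_ft (LP (LK LD1_c7 LD2_c42 LD3_c24)) = (LP (LK LD1_c14 LD2_c31 LD3_c36)) :=
  Lre_f IH (LK LD1_c7 LD2_c42 LD3_c24) (LK LD1_c14 LD2_c31 LD3_c36) Lrfl Lrfl
theorem f810207 : Led Lsl_af (LP (LK LD1_c14 LD2_c35 LD3_c14)) = (LP (LK LD1_c14 LD2_c31 LD3_c36)) :=
  Lgr Lrot45 (Lpr_ft (f810206 IH) (Lpe (f810203 IH) (Lpr_ft (f666466 IH) (Lpn (LP (LK LD1_c14 LD2_c31 LD3_c36))))))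
theorem f810208 : Led Lsl_at (LP (LK LD1_c14 LD2_c31 LD3_c36)) = (LP (LK LD1_c14 LD2_c35 LD3_c14)) :=
  Leop (Lpr_af (f810207 IH) (Lpn (LP (LK LD1_c14 LD2_c31 LD3_c36))))
theorem seed_1756 : LEOK LG_a (LK LD1_c14 LD2_c31 LD3_c36) :=
  Leoe_a (LK LD1_c14 LD2_c31 LD3_c36) (f810208 IH)
theorem f666451 : Led Lsl_et (LP (LK LD1_c3 LD2_c50 LD3_c39)) = (LP (LK LD1_c7 LD2_c42 LD3_c24)) :=
  Lre_e IH (LK LD1_c3 LD2_c50 LD3_c39) (LK LD1_c7 LD2_c42 LD3_c24) Lrfl Lrfl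
theorem f810204 : Led Lsl_ef v7537 = v22760 :=
  Lgr Lrot20 (Lpe (f666450 IH) (Lpr_et (f666451 IH) (Lpr_at (f810202 IH) (Lpn v22760))))
theorem f662133 : Led Lsl_ft (LP (LK LD1_c7 LD2_c42 LD3_c27)) = (LP (LK LD1_c14 LD2_c31 LD3_c42)) :=
  Lre_f IH (LK LD1_c7 LD2_c42 LD3_c27) (LK LD1_c14 LD2_c31 LD3_c42) Lrfl Lrfl
theorem f810209 : Led Lsl_ef (LP (LK LD1_c14 LD2_c35 LD3_c14)) = (LP (LK LD1_c14 LD2_c31 LD3_c42)) :=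
  Lgr Lrot21 (Lpr_ft (f810206 IH) (Lpe (f810204 IH) (Lpe (f666454 IH) (Lpr_et (f662128 IH) (Lpr_ft (f662133 IH) (Lpn (LP (LK LD1_c14 LD2_c31 LD3_c42))))))))
theorem f810210 : Led Lsl_et (LP (LK LD1_c14 LD2_c31 LD3_c42)) = (LP (LK LD1_c14 LD2_c35 LD3_c14)) :=
  Leop (Lpr_ef (f810209 IH) (Lpn (LP (LK LD1_c14 LD2_c31 LD3_c42))))
theorem seed_1757 : LEOK LG_e (LK LD1_c14 LD2_c31 LD3_c42) :=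
  Leoe_e (LK LD1_c14 LD2_c31 LD3_c42) (f810210 IH)
def v22758 : LQ := Led Lsl_ft (LP (LK LD1_c7 LD2_c42 LD3_c23))
theorem f810195 : Led Lsl_ft (LP (LK LD1_c7 LD2_c42 LD3_c23)) = v22758 :=
  Lrfl
theorem f810198 : Led Lsl_ff (LP (LK LD1_c7 LD2_c42 LD3_c23)) = v22758 :=
  Lgr Lrot3 (Lpr_ft (f810195 IH) (Lpn v22758))
theorem f110157 : Led Lsl_dt (LP (LK LD1_c7 LD2_c42 LD3_c23)) = (LP (LK LD1_c3 LD2_c50 LD3_c39)) :=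
  Lre_d IH (LK LD1_c7 LD2_c42 LD3_c23) (LK LD1_c3 LD2_c50 LD3_c39) Lrfl Lrfl
def v7540 : LQ := Led Lsl_ft (LP (LK LD1_c3 LD2_c50 LD3_c39))
theorem f666461 : Led Lsl_ft (LP (LK LD1_c3 LD2_c50 LD3_c39)) = v7540 :=
  Lrfl
theorem f810200 : Led Lsl_dt v7540 = v22758 :=
  Lgr Lrot60 (Lpe (f666461 IH) (Lpe (f110157 IH) (Lpr_ff (f810198 IH) (Lpn v22758))))
theorem f93591 : Led Lsl_dt (LP (LK LD1_c7 LD2_c35 LD3_c46)) = (LP (LK LD1_c14 LD2_c19 LD3_c14)) :=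
  Lre_d IH (LK LD1_c7 LD2_c35 LD3_c46) (LK LD1_c14 LD2_c19 LD3_c14) Lrfl Lrfl
theorem f810211 : Led Lsl_ff (LP (LK LD1_c14 LD2_c35 LD3_c14)) = v22760 :=
  Lgr Lrot3 (Lpr_ft (f810206 IH) (Lpn v22760))
theorem f810205 : Led Lsl_et v7537 = v22760 :=
  Lgr Lrot87 (Lpr_ef (f810204 IH) (Lpn v22760))
theorem f441328 : Led Lsl_et (LP (LK LD1_c7 LD2_c42 LD3_c27)) = (LP (LK LD1_c3 LD2_c50 LD3_c40)) :=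
  Lre_e IH (LK LD1_c7 LD2_c42 LD3_c27) (LK LD1_c3 LD2_c50 LD3_c40) Lrfl Lrfl
theorem f666453 : Led Lsl_ft (LP (LK LD1_c14 LD2_c31 LD3_c42)) = (LP (LK LD1_c7 LD2_c42 LD3_c27)) :=
  Lre_f IH (LK LD1_c14 LD2_c31 LD3_c42) (LK LD1_c7 LD2_c42 LD3_c27) Lrfl Lrfl
theorem f810215 : Led Lsl_et (LP (LK LD1_c14 LD2_c35 LD3_c14)) = (LP (LK LD1_c14 LD2_c31 LD3_c42)) :=
  Lgr Lrot69 (Lpr_ff (f810211 IH) (Lpe (f810205 IH) (Lpe (f666452 IH) (Lpe (f441328 IH) (Lpe (f666453 IH) (Lpn (LP (LK LD1_c14 LD2_c31 LD3_c42))))))))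
theorem f807054 : Led Lsl_af (LP (LK LD1_c13 LD2_c20 LD3_c44)) = (LP (LK LD1_c14 LD2_c31 LD3_c42)) :=
  Lgr Lrot31 (Lpr_gf (f807052 IH) (Lpe (f662130 IH) (Lpr_ft (f662133 IH) (Lpn (LP (LK LD1_c14 LD2_c31 LD3_c42))))))
theorem f810217 : Led Lsl_ef (LP (LK LD1_c14 LD2_c31 LD3_c36)) = (LP (LK LD1_c13 LD2_c20 LD3_c44)) :=
  Lgr Lrot20 (Lpe (f810207 IH) (Lpr_et (f810215 IH) (Lpe (f807054 IH) (Lpn (LP (LK LD1_c13 LD2_c20 LD3_c44))))))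
theorem f810223 : Led Lsl_et (LP (LK LD1_c14 LD2_c31 LD3_c36)) = (LP (LK LD1_c13 LD2_c20 LD3_c44)) :=
  Lgr Lrot87 (Lpr_ef (f810217 IH) (Lpn (LP (LK LD1_c13 LD2_c20 LD3_c44))))
theorem f63815 : Led Lsl_gt (LP (LK LD1_c7 LD2_c1 LD3_c43)) = (LP (LK LD1_c13 LD2_c19 LD3_c55)) :=
  Lre_g IH (LK LD1_c7 LD2_c1 LD3_c43) (LK LD1_c13 LD2_c19 LD3_c55) Lrfl Lrfl
theorem f810225 : Led Lsl_dt (LP (LK LD1_c14 LD2_c31 LD3_c36)) = (LP (LK LD1_c13 LD2_c19 LD3_c55)) :=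
  Lgr Lrot56 (Lpr_et (f810223 IH) (Lpr_gt (f63781 IH) (Lpe (f63775 IH) (Lpr_dt (K61.f63961 IH) (Lpr_gt (K61.f789054 IH) (Lpe (K61.f789055 IH) (Lpe (K61.f788690 IH) (Lpr_gt (K52.f109956 IH) (Lpr_dt (K52.f63814 IH) (Lpr_gt (f63815 IH) (Lpn (LP (LK LD1_c13 LD2_c19 LD3_c55)))))))))))))
theorem f115730 : Led Lsl_dt (LP (LK LD1_c7 LD2_c44 LD3_c6)) = (LP (LK LD1_c7 LD2_c42 LD3_c24)) :=
  Lre_d IH (LK LD1_c7 LD2_c44 LD3_c6) (LK LD1_c7 LD2_c42 LD3_c24) Lrfl Lrfl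
theorem f810231 : Led Lsl_ff (LP (LK LD1_c7 LD2_c44 LD3_c6)) = (LP (LK LD1_c13 LD2_c19 LD3_c55)) :=
  Lgr Lrot19 (Lpr_dt (f115730 IH) (Lpr_ft (f666466 IH) (Lpr_dt (f810225 IH) (Lpn (LP (LK LD1_c13 LD2_c19 LD3_c55))))))
theorem f115691 : Led Lsl_ft (LP (LK LD1_c7 LD2_c1 LD3_c43)) = (LP (LK LD1_c13 LD2_c19 LD3_c58)) :=
  Lre_f IH (LK LD1_c7 LD2_c1 LD3_c43) (LK LD1_c13 LD2_c19 LD3_c58) Lrfl Lrfl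
theorem f115692 : Led Lsl_gf (LP (LK LD1_c7 LD2_c44 LD3_c8)) = (LP (LK LD1_c13 LD2_c19 LD3_c55)) :=
  Lgr Lrot76 (Lpr_af (f115673 IH) (Lpe (f115691 IH) (Lpr_gt (f63815 IH) (Lpn (LP (LK LD1_c13 LD2_c19 LD3_c55))))))
theorem f810235 : Led Lsl_at (LP (LK LD1_c7 LD2_c44 LD3_c6)) = (LP (LK LD1_c13 LD2_c19 LD3_c56)) :=
  Lgr Lrot26 (Lpr_ff (f810231 IH) (Lpe (f115692 IH) (Lpr_gt (K52.f115754 IH) (Lpn (LP (LK LD1_c13 LD2_c19 LD3_c56))))))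
theorem f810241 : v22760 = (LP (LK LD1_c14 LD2_c19 LD3_c13)) :=
  (Llr Lrot117 (Lpe (f810203 IH) (Lpr_dt (f65299 IH) (Lpr_at (f810235 IH) (Lpr_dt (K52.f63902 IH) (Lpn (LP (LK LD1_c14 LD2_c19 LD3_c13)))))))).symm
theorem f810246 : v7537 = (LP (LK LD1_c7 LD2_c35 LD3_c45)) :=
  Lefun (Lecon (Lfl_ef (f810204 IH)) (f810241 IH)) (K52.f63867 IH)
theorem f810247 : (LP (LK LD1_c3 LD2_c50 LD3_c39)) = v22395 :=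
  Lefun (Lecon (Lfl_af (f666450 IH)) (f810246 IH)) (f806645 IH)
theorem f810264 : (LP (LK LD1_c7 LD2_c35 LD3_c46)) = v7540 :=
  Lefun (Lecon (Lfl_ff (f806649 IH)) (f810247 IH).symm) (f666461 IH)
theorem f810280 : v22758 = (LP (LK LD1_c14 LD2_c19 LD3_c14)) :=
  Lefun (Lecon (f810200 IH) (f810264 IH).symm) (f93591 IH)
theorem f810189 : Led Lsl_ff (LP (LK LD1_c7 LD2_c42 LD3_c26)) = v22757 :=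
  Lgr Lrot3 (Lpr_ft (f810188 IH) (Lpn v22757))
theorem f810199 : Led Lsl_at (LP (LK LD1_c7 LD2_c42 LD3_c26)) = v22758 :=
  Lgr Lrot66 (Lpr_ff (f810189 IH) (Lpe (f810184 IH) (Lpr_ff (f810198 IH) (Lpn v22758))))
theorem f810187 : Led Lsl_dt v7537 = v22757 :=
  Lgr Lrot42 (Lpr_df (f810186 IH) (Lpn v22757))
theorem f810255 : v22757 = (LP (LK LD1_c14 LD2_c19 LD3_c12)) :=
  Lefun (Lecon (f810187 IH) (f810246 IH)) (K62.f63913 IH)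
theorem f810337 : Led Lsl_gt (LP (LK LD1_c14 LD2_c38 LD3_c0)) = (LP (LK LD1_c14 LD2_c19 LD3_c14)) :=
  Lgr Lrot46 (Lpe (K62.f93572 IH) (Lpq (f810255 IH) (Lpe (f810189 IH) (Lpr_at (f810199 IH) (Lpqs (f810280 IH) (Lpn (LP (LK LD1_c14 LD2_c19 LD3_c14))))))))
theorem f666419 : Led Lsl_dt (LP (LK LD1_c7 LD2_c45 LD3_c26)) = (LP (LK LD1_c14 LD2_c38 LD3_c0)) :=
  Lre_d IH (LK LD1_c7 LD2_c45 LD3_c26) (LK LD1_c14 LD2_c38 LD3_c0) Lrfl Lrfl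
theorem f666418 : Led Lsl_et (LP (LK LD1_c7 LD2_c45 LD3_c26)) = (LP (LK LD1_c3 LD2_c51 LD3_c49)) :=
  Lre_e IH (LK LD1_c7 LD2_c45 LD3_c26) (LK LD1_c3 LD2_c51 LD3_c49) Lrfl Lrfl
theorem f493587 : Led Lsl_gt (LP (LK LD1_c6 LD2_c39 LD3_c50)) = (LP (LK LD1_c3 LD2_c51 LD3_c49)) :=
  Lre_g IH (LK LD1_c6 LD2_c39 LD3_c50) (LK LD1_c3 LD2_c51 LD3_c49) Lrfl Lrfl
theorem f65177 : Led Lsl_et (LP (LK LD1_c3 LD2_c47 LD3_c50)) = (LP (LK LD1_c6 LD2_c39 LD3_c50)) :=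
  Lre_e IH (LK LD1_c3 LD2_c47 LD3_c50) (LK LD1_c6 LD2_c39 LD3_c50) Lrfl Lrfl
theorem f103872 : Led Lsl_dt (LP (LK LD1_c7 LD2_c45 LD3_c6)) = (LP (LK LD1_c3 LD2_c51 LD3_c43)) :=
  Lre_d IH (LK LD1_c7 LD2_c45 LD3_c6) (LK LD1_c3 LD2_c51 LD3_c43) Lrfl Lrfl
theorem f810339 : Led Lsl_gf (LP (LK LD1_c7 LD2_c45 LD3_c6)) = v22397 :=
  Lgr Lrot138 (Lpr_dt (f103872 IH) (Lpr_gt (K61.f667085 IH) (Lpe (K1.f65148 IH) (Lpr_et (f65177 IH) (Lpr_gt (f493587 IH) (Lpe (f666418 IH) (Lpr_dt (f666419 IH) (Lpr_gt (f810337 IH) (Lpe (f93591 IH) (Lpr_et (f806689 IH) (Lpn v22397)))))))))))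
theorem f103869 : Led Lsl_dt (LP (LK LD1_c14 LD2_c37 LD3_c20)) = (LP (LK LD1_c7 LD2_c45 LD3_c5)) :=
  Lre_d IH (LK LD1_c14 LD2_c37 LD3_c20) (LK LD1_c7 LD2_c45 LD3_c5) Lrfl Lrfl
theorem f810341 : Led Lsl_gt (LP (LK LD1_c24 LD2_c20 LD3_c51)) = (LP (LK LD1_c14 LD2_c37 LD3_c20)) :=
  Lre_g IH (LK LD1_c24 LD2_c20 LD3_c51) (LK LD1_c14 LD2_c37 LD3_c20) Lrfl Lrfl
theorem f806694 : Led Lsl_dt (LP (LK LD1_c14 LD2_c20 LD3_c48)) = v22397 :=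
  Lgr Lrot42 (Lpr_df (f806693 IH) (Lpn v22397))
theorem f712493 : Led Lsl_ct (LP (LK LD1_c14 LD2_c20 LD3_c49)) = (LP (LK LD1_c7 LD2_c36 LD3_c37)) :=
  Lre_c IH (LK LD1_c14 LD2_c20 LD3_c49) (LK LD1_c7 LD2_c36 LD3_c37) Lrfl Lrfl
theorem f712496 : Led Lsl_gt (LP (LK LD1_c14 LD2_c20 LD3_c49)) = (LP (LK LD1_c23 LD2_c58 LD3_c41)) :=
  Lre_g IH (LK LD1_c14 LD2_c20 LD3_c49) (LK LD1_c23 LD2_c58 LD3_c41) Lrfl Lrfl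
theorem f810342 : Led Lsl_df (LP (LK LD1_c24 LD2_c20 LD3_c51)) = (LP (LK LD1_c23 LD2_c58 LD3_c41)) :=
  Lgr Lrot153 (Lpr_gt (f810341 IH) (Lpr_dt (f103869 IH) (Lpe (K61.f103873 IH) (Lpe (f103872 IH) (Lpr_gf (f810339 IH) (Lpe (f806694 IH) (Lpe (f64073 IH) (Lpe (f712493 IH) (Lpr_gt (f712496 IH) (Lpn (LP (LK LD1_c23 LD2_c58 LD3_c41))))))))))))
theorem f810343 : Led Lsl_dt (LP (LK LD1_c23 LD2_c58 LD3_c41)) = (LP (LK LD1_c24 LD2_c20 LD3_c51)) :=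
  Leop (Lpr_df (f810342 IH) (Lpn (LP (LK LD1_c23 LD2_c58 LD3_c41))))
theorem seed_1758 : LEOK LG_d (LK LD1_c23 LD2_c58 LD3_c41) :=
  Leoe_d (LK LD1_c23 LD2_c58 LD3_c41) (f810343 IH)
theorem f110161 : Led Lsl_et (LP (LK LD1_c7 LD2_c42 LD3_c24)) = (LP (LK LD1_c3 LD2_c50 LD3_c39)) :=
  Lre_e IH (LK LD1_c7 LD2_c42 LD3_c24) (LK LD1_c3 LD2_c50 LD3_c39) Lrfl Lrfl
theorem f666463 : Led Lsl_ft (LP (LK LD1_c14 LD2_c31 LD3_c36)) = (LP (LK LD1_c7 LD2_c42 LD3_c24)) :=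
  Lre_f IH (LK LD1_c14 LD2_c31 LD3_c36) (LK LD1_c7 LD2_c42 LD3_c24) Lrfl Lrfl
theorem f810406 : Led Lsl_ff (LP (LK LD1_c13 LD2_c20 LD3_c44)) = v22397 :=
  Lgr Lrot72 (Lpe (f810217 IH) (Lpr_ft (f666463 IH) (Lpr_et (f110161 IH) (Lpqs (f810247 IH) (Lpe (f806649 IH) (Lpr_et (f806689 IH) (Lpn v22397)))))))
theorem f807056 : Led Lsl_at (LP (LK LD1_c13 LD2_c20 LD3_c44)) = (LP (LK LD1_c14 LD2_c31 LD3_c42)) :=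
  Lgr Lrot100 (Lpr_af (f807054 IH) (Lpn (LP (LK LD1_c14 LD2_c31 LD3_c42))))
theorem f810409 : Led Lsl_gf (LP (LK LD1_c14 LD2_c31 LD3_c42)) = (LP (LK LD1_c7 LD2_c45 LD3_c6)) :=
  Lgr Lrot76 (Lpe (f807056 IH) (Lpr_ff (f810406 IH) (Lpe (f810339 IH) (Lpn (LP (LK LD1_c7 LD2_c45 LD3_c6))))))
theorem f810410 : Led Lsl_gt (LP (LK LD1_c7 LD2_c45 LD3_c6)) = (LP (LK LD1_c14 LD2_c31 LD3_c42)) :=
  Leop (Lpr_gf (f810409 IH) (Lpn (LP (LK LD1_c7 LD2_c45 LD3_c6))))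
theorem seed_1759 : LEOK LG_g (LK LD1_c7 LD2_c45 LD3_c6) :=
  Leoe_g (LK LD1_c7 LD2_c45 LD3_c6) (f810410 IH)
theorem f810408 : Led Lsl_ft (LP (LK LD1_c13 LD2_c20 LD3_c44)) = v22397 :=
  Lgr Lrot48 (Lpr_ff (f810406 IH) (Lpn v22397))
theorem f810414 : Led Lsl_af (LP (LK LD1_c7 LD2_c42 LD3_c27)) = v22397 :=
  Lgr Lrot45 (Lpr_ft (f662133 IH) (Lpe (f807054 IH) (Lpr_ft (f810408 IH) (Lpn v22397))))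
theorem f441329 : Led Lsl_dt (LP (LK LD1_c7 LD2_c42 LD3_c27)) = (LP (LK LD1_c7 LD2_c44 LD3_c48)) :=
  Lre_d IH (LK LD1_c7 LD2_c42 LD3_c27) (LK LD1_c7 LD2_c44 LD3_c48) Lrfl Lrfl
theorem f810415 : Led Lsl_at (LP (LK LD1_c7 LD2_c44 LD3_c48)) = (LP (LK LD1_c14 LD2_c20 LD3_c48)) :=
  Lgr Lrot51 (Lpe (f441329 IH) (Lpr_af (f810414 IH) (Lpe (f806694 IH) (Lpn (LP (LK LD1_c14 LD2_c20 LD3_c48))))))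
theorem f810416 : Led Lsl_at (LP (LK LD1_c7 LD2_c44 LD3_c48)) = (LP (LK LD1_c14 LD2_c20 LD3_c48)) :=
  Leop (Lpe (f810415 IH) (Lpn (LP (LK LD1_c7 LD2_c44 LD3_c48))))
theorem seed_1760 : LEOK LG_a (LK LD1_c7 LD2_c44 LD3_c48) :=
  Leoe_a (LK LD1_c7 LD2_c44 LD3_c48) (f810416 IH)
def v22777 : LQ := Led Lsl_ct (LP (LK LD1_c7 LD2_c42 LD3_c50))
theorem f810597 : Led Lsl_ct (LP (LK LD1_c7 LD2_c42 LD3_c50)) = v22777 :=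
  Lrfl
theorem f666479 : Led Lsl_cf (LP (LK LD1_c3 LD2_c50 LD3_c51)) = K61.v7544 :=
  Lgr Lrot11 (Lpr_ct (K61.f666477 IH) (Lpn K61.v7544))
theorem f810601 : Led Lsl_ff K61.v7544 = v22777 :=
  Lgr Lrot23 (Lpe (f666479 IH) (Lpr_ft (K3.f97796 IH) (Lpr_ct (f810597 IH) (Lpn v22777))))
theorem f666478 : Led Lsl_af (LP (LK LD1_c6 LD2_c49 LD3_c49)) = K61.v7544 :=
  Lgr Lrot68 (Lpr_ct (K61.f93242 IH) (Lpr_at (K3.f97802 IH) (Lpr_ct (K61.f666477 IH) (Lpn K61.v7544))))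
theorem f810602 : Led Lsl_at K61.v20027 = v22777 :=
  Lgr Lrot66 (Lpe (K61.f784412 IH) (Lpr_af (f666478 IH) (Lpr_ff (f810601 IH) (Lpn v22777))))
theorem f93247 : Led Lsl_gt (LP (LK LD1_c6 LD2_c49 LD3_c49)) = (LP (LK LD1_c13 LD2_c1 LD3_c6)) :=
  Lre_g IH (LK LD1_c6 LD2_c49 LD3_c49) (LK LD1_c13 LD2_c1 LD3_c6) Lrfl Lrfl
theorem f810606 : Led Lsl_gt (LP (LK LD1_c13 LD2_c1 LD3_c6)) = v22777 :=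
  Lgr Lrot46 (Lpe (f93247 IH) (Lpr_ft (K61.f784412 IH) (Lpr_at (f810602 IH) (Lpn v22777))))
theorem f97800 : Led Lsl_bt (LP (LK LD1_c7 LD2_c42 LD3_c50)) = (LP (LK LD1_c14 LD2_c32 LD3_c18)) :=
  Lre_b IH (LK LD1_c7 LD2_c42 LD3_c50) (LK LD1_c14 LD2_c32 LD3_c18) Lrfl Lrfl
theorem f127242 : Led Lsl_gt (LP (LK LD1_c17 LD2_c17 LD3_c11)) = (LP (LK LD1_c9 LD2_c21 LD3_c12)) :=
  Lre_g IH (LK LD1_c17 LD2_c17 LD3_c11) (LK LD1_c9 LD2_c21 LD3_c12) Lrfl Lrfl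
theorem f127243 : Led Lsl_gf (LP (LK LD1_c17 LD2_c17 LD3_c11)) = (LP (LK LD1_c14 LD2_c32 LD3_c18)) :=
  Lgr Lrot47 (Lpr_gt (f127242 IH) (Lpr_af (K5.f127219 IH) (Lpe (K3.f97770 IH) (Lpn (LP (LK LD1_c14 LD2_c32 LD3_c18))))))
theorem f427269 : Led Lsl_at (LP (LK LD1_c14 LD2_c30 LD3_c55)) = (LP (LK LD1_c11 LD2_c30 LD3_c8)) :=
  Lgr Lrot100 (Lpr_af (K56.f427267 IH) (Lpn (LP (LK LD1_c11 LD2_c30 LD3_c8))))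
theorem f712195 : Led Lsl_gt (LP (LK LD1_c11 LD2_c25 LD3_c7)) = (LP (LK LD1_c11 LD2_c30 LD3_c8)) :=
  Lgr Lrot46 (Lpr_gf (K52.f712193 IH) (Lpr_ft (K8.f12271 IH) (Lpr_at (f427269 IH) (Lpn (LP (LK LD1_c11 LD2_c30 LD3_c8))))))
def v5324 : LQ := Led Lsl_gf (LP (LK LD1_c3 LD2_c6 LD3_c4))
theorem f647085 : Led Lsl_gf (LP (LK LD1_c3 LD2_c6 LD3_c4)) = v5324 :=
  Lrfl
theorem f674279 : Led Lsl_et K51.v5323 = K51.v4494 :=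
  Lgr Lrot87 (Lpr_ef (K51.f674278 IH) (Lpn K51.v4494))
def v5277 : LQ := Led Lsl_et (LP (LK LD1_c3 LD2_c2 LD3_c56))
theorem f646879 : Led Lsl_et (LP (LK LD1_c3 LD2_c2 LD3_c56)) = v5277 :=
  Lrfl
theorem f678955 : Led Lsl_af K51.v5323 = v5277 :=
  Lgr Lrot50 (Lpr_et (f674279 IH) (Lpq (K51.f678946 IH) (Lpqs (K51.f674267 IH) (Lpe (K51.f646871 IH) (Lpr_et (f646879 IH) (Lpn v5277))))))
theorem f678957 : Led Lsl_ft v5324 = v5277 :=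
  Lgr Lrot2 (Lpe (f647085 IH) (Lpr_gt (K51.f647083 IH) (Lpr_af (f678955 IH) (Lpn v5277))))
theorem f678958 : Led Lsl_ff v5324 = v5277 :=
  Lgr Lrot3 (Lpr_ft (f678957 IH) (Lpn v5277))
theorem f708102 : (LP (LK LD1_c4 LD2_c44 LD3_c14)) = v5277 :=
  Lefun (Lecon (Lfl_ef (K51.f507863 IH)) ((K51.f708039 IH).trans (K49.f674264 IH))) (f646879 IH)
theorem f708130 : v5324 = (LP (LK LD1_c2 LD2_c20 LD3_c5)) :=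
  Lefun (Lecon (Lfl_ff (f678958 IH)) (f708102 IH).symm) (K51.f440266 IH)
theorem f753069 : Led Lsl_bf (LP (LK LD1_c17 LD2_c17 LD3_c11)) = (LP (LK LD1_c11 LD2_c29 LD3_c48)) :=
  Lgr Lrot156 (Lpr_gt (f127242 IH) (Lpe (K51.f127303 IH) (Lpr_ct (K51.f127196 IH) (Lpq (f708130 IH) (Lpe (f647085 IH) (Lpe (K51.f443955 IH) (Lpe (K53.f444294 IH) (Lpr_gt (f712195 IH) (Lpe (f427275 IH) (Lpr_gt (K56.f132415 IH) (Lpq (K56.f753031 IH) (Lpr_cf (K57.f753057 IH) (Lpn (LP (LK LD1_c11 LD2_c29 LD3_c48)))))))))))))))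
theorem f12301 : Led Lsl_gt (LP (LK LD1_c3 LD2_c55 LD3_c42)) = (LP (LK LD1_c7 LD2_c53 LD3_c7)) :=
  Lre_g IH (LK LD1_c3 LD2_c55 LD3_c42) (LK LD1_c7 LD2_c53 LD3_c7) Lrfl Lrfl
theorem f810607 : Led Lsl_cf (LP (LK LD1_c13 LD2_c1 LD3_c6)) = (LP (LK LD1_c7 LD2_c53 LD3_c7)) :=
  Lgr Lrot125 (Lpr_gt (f810606 IH) (Lpe (f810597 IH) (Lpr_bt (f97800 IH) (Lpe (f127243 IH) (Lpr_bf (f753069 IH) (Lpe (K57.f753057 IH) (Lpqs (K56.f753031 IH) (Lpr_gt (K56.f132399 IH) (Lpe (K8.f136617 IH) (Lpr_bt (K56.f12264 IH) (Lpr_gt (f12301 IH) (Lpn (LP (LK LD1_c7 LD2_c53 LD3_c7))))))))))))))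
theorem f810608 : Led Lsl_ct (LP (LK LD1_c7 LD2_c53 LD3_c7)) = (LP (LK LD1_c13 LD2_c1 LD3_c6)) :=
  Leop (Lpr_cf (f810607 IH) (Lpn (LP (LK LD1_c7 LD2_c53 LD3_c7))))
theorem seed_1761 : LEOK LG_c (LK LD1_c7 LD2_c53 LD3_c7) :=
  Leoe_c (LK LD1_c7 LD2_c53 LD3_c7) (f810608 IH)
def v22781 : LQ := Led Lsl_et (LP (LK LD1_c7 LD2_c42 LD3_c53))
theorem f810625 : Led Lsl_et (LP (LK LD1_c7 LD2_c42 LD3_c53)) = v22781 :=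
  Lrfl
theorem f810627 : Led Lsl_ef (LP (LK LD1_c7 LD2_c42 LD3_c53)) = v22781 :=
  Lgr Lrot88 (Lpr_et (f810625 IH) (Lpn v22781))
theorem f14533 : Led Lsl_gt (LP (LK LD1_c3 LD2_c50 LD3_c53)) = (LP (LK LD1_c7 LD2_c42 LD3_c53)) :=
  Lre_g IH (LK LD1_c3 LD2_c50 LD3_c53) (LK LD1_c7 LD2_c42 LD3_c53) Lrfl Lrfl
theorem f18255 : Led Lsl_et (LP (LK LD1_c3 LD2_c24 LD3_c44)) = (LP (LK LD1_c1 LD2_c38 LD3_c48)) :=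
  Lre_e IH (LK LD1_c3 LD2_c24 LD3_c44) (LK LD1_c1 LD2_c38 LD3_c48) Lrfl Lrfl
theorem f19108 : Led Lsl_gt (LP (LK LD1_c13 LD2_c3 LD3_c23)) = (LP (LK LD1_c6 LD2_c51 LD3_c57)) :=
  Lre_g IH (LK LD1_c13 LD2_c3 LD3_c23) (LK LD1_c6 LD2_c51 LD3_c57) Lrfl Lrfl
theorem f810628 : Led Lsl_df (LP (LK LD1_c13 LD2_c3 LD3_c23)) = v22781 :=
  Lgr Lrot170 (Lpr_gt (f19108 IH) (Lpe (K2.f18311 IH) (Lpr_et (f18255 IH) (Lpr_gt (K2.f91291 IH) (Lpr_dt (K2.f89968 IH) (Lpe (K2.f91295 IH) (Lpe (K0.f14559 IH) (Lpr_et (K0.f14530 IH) (Lpr_gt (f14533 IH) (Lpr_ef (f810627 IH) (Lpn v22781)))))))))))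
theorem f810630 : Led Lsl_et (LP (LK LD1_c13 LD2_c3 LD3_c23)) = (LP (LK LD1_c22 LD2_c13 LD3_c8)) :=
  Lre_e IH (LK LD1_c13 LD2_c3 LD3_c23) (LK LD1_c22 LD2_c13 LD3_c8) Lrfl Lrfl
theorem f14458 : Led Lsl_dt (LP (LK LD1_c14 LD2_c32 LD3_c35)) = (LP (LK LD1_c7 LD2_c42 LD3_c53)) :=
  Lre_d IH (LK LD1_c14 LD2_c32 LD3_c35) (LK LD1_c7 LD2_c42 LD3_c53) Lrfl Lrfl
theorem f810626 : Led Lsl_et (LP (LK LD1_c24 LD2_c14 LD3_c55)) = (LP (LK LD1_c14 LD2_c32 LD3_c35)) :=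
  Lre_e IH (LK LD1_c24 LD2_c14 LD3_c55) (LK LD1_c14 LD2_c32 LD3_c35) Lrfl Lrfl
theorem f810631 : Led Lsl_dt (LP (LK LD1_c22 LD2_c13 LD3_c8)) = (LP (LK LD1_c24 LD2_c14 LD3_c55)) :=
  Lgr Lrot77 (Lpe (f810630 IH) (Lpr_df (f810628 IH) (Lpe (f810625 IH) (Lpe (f14458 IH) (Lpe (f810626 IH) (Lpn (LP (LK LD1_c24 LD2_c14 LD3_c55))))))))
theorem f810632 : Led Lsl_dt (LP (LK LD1_c22 LD2_c13 LD3_c8)) = (LP (LK LD1_c24 LD2_c14 LD3_c55)) :=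
  Leop (Lpe (f810631 IH) (Lpn (LP (LK LD1_c22 LD2_c13 LD3_c8))))
theorem seed_1762 : LEOK LG_d (LK LD1_c22 LD2_c13 LD3_c8) :=
  Leoe_d (LK LD1_c22 LD2_c13 LD3_c8) (f810632 IH)
def v22787 : LQ := Led Lsl_ft (LP (LK LD1_c7 LD2_c42 LD3_c55))
theorem f810655 : Led Lsl_ft (LP (LK LD1_c7 LD2_c42 LD3_c55)) = v22787 :=
  Lrfl
theorem f810658 : Led Lsl_ff (LP (LK LD1_c7 LD2_c42 LD3_c55)) = v22787 :=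
  Lgr Lrot3 (Lpr_ft (f810655 IH) (Lpn v22787))
theorem f666682 : Led Lsl_at (LP (LK LD1_c7 LD2_c42 LD3_c55)) = (LP (LK LD1_c3 LD2_c51 LD3_c3)) :=
  Lre_a IH (LK LD1_c7 LD2_c42 LD3_c55) (LK LD1_c3 LD2_c51 LD3_c3) Lrfl Lrfl
theorem f666689 : Led Lsl_ft (LP (LK LD1_c3 LD2_c51 LD3_c3)) = (LP (LK LD1_c7 LD2_c43 LD3_c27)) :=
  Lre_f IH (LK LD1_c3 LD2_c51 LD3_c3) (LK LD1_c7 LD2_c43 LD3_c27) Lrfl Lrfl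
theorem f810660 : Led Lsl_at (LP (LK LD1_c7 LD2_c43 LD3_c27)) = v22787 :=
  Lgr Lrot66 (Lpe (f666689 IH) (Lpe (f666682 IH) (Lpr_ff (f810658 IH) (Lpn v22787))))
theorem f91765 : Led Lsl_gt (LP (LK LD1_c3 LD2_c51 LD3_c3)) = (LP (LK LD1_c7 LD2_c43 LD3_c25)) :=
  Lre_g IH (LK LD1_c3 LD2_c51 LD3_c3) (LK LD1_c7 LD2_c43 LD3_c25) Lrfl Lrfl
theorem f810667 : Led Lsl_gt (LP (LK LD1_c7 LD2_c43 LD3_c25)) = v22787 :=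
  Lgr Lrot46 (Lpe (f91765 IH) (Lpr_ft (f666689 IH) (Lpr_at (f810660 IH) (Lpn v22787))))
theorem f531233 : Led Lsl_et (LP (LK LD1_c14 LD2_c33 LD3_c37)) = (LP (LK LD1_c7 LD2_c43 LD3_c25)) :=
  Lre_e IH (LK LD1_c14 LD2_c33 LD3_c37) (LK LD1_c7 LD2_c43 LD3_c25) Lrfl Lrfl
theorem f478957 : Led Lsl_et (LP (LK LD1_c14 LD2_c33 LD3_c54)) = (LP (LK LD1_c7 LD2_c43 LD3_c32)) :=
  Lre_e IH (LK LD1_c14 LD2_c33 LD3_c54) (LK LD1_c7 LD2_c43 LD3_c32) Lrfl Lrfl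
theorem f478920 : Led Lsl_gt (LP (LK LD1_c23 LD2_c18 LD3_c58)) = (LP (LK LD1_c13 LD2_c49 LD3_c51)) :=
  Lre_g IH (LK LD1_c23 LD2_c18 LD3_c58) (LK LD1_c13 LD2_c49 LD3_c51) Lrfl Lrfl
theorem f530308 : Led Lsl_et (LP (LK LD1_c1 LD2_c52 LD3_c26)) = (LP (LK LD1_c3 LD2_c51 LD3_c3)) :=
  Lre_e IH (LK LD1_c1 LD2_c52 LD3_c26) (LK LD1_c3 LD2_c51 LD3_c3) Lrfl Lrfl
theorem f531234 : Led Lsl_df (LP (LK LD1_c23 LD2_c18 LD3_c58)) = (LP (LK LD1_c14 LD2_c33 LD3_c37)) :=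
  Lgr Lrot170 (Lpr_gt (f478920 IH) (Lpr_df (K49.f478930 IH) (Lpr_et (f478957 IH) (Lpr_gt (K61.f531231 IH) (Lpr_dt (K49.f527271 IH) (Lpr_gt (K34.f95367 IH) (Lpe (K35.f451219 IH) (Lpr_et (f530308 IH) (Lpr_gt (f91765 IH) (Lpe (f531233 IH) (Lpn (LP (LK LD1_c14 LD2_c33 LD3_c37)))))))))))))
theorem f479054 : Led Lsl_gt (LP (LK LD1_c13 LD2_c50 LD3_c0)) = (LP (LK LD1_c23 LD2_c18 LD3_c58)) :=
  Lre_g IH (LK LD1_c13 LD2_c50 LD3_c0) (LK LD1_c23 LD2_c18 LD3_c58) Lrfl Lrfl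
theorem f478961 : Led Lsl_dt (LP (LK LD1_c23 LD2_c19 LD3_c14)) = (LP (LK LD1_c13 LD2_c50 LD3_c0)) :=
  Lre_d IH (LK LD1_c23 LD2_c19 LD3_c14) (LK LD1_c13 LD2_c50 LD3_c0) Lrfl Lrfl
theorem f94820 : Led Lsl_dt (LP (LK LD1_c3 LD2_c50 LD3_c53)) = (LP (LK LD1_c7 LD2_c42 LD3_c55)) :=
  Lre_d IH (LK LD1_c3 LD2_c50 LD3_c53) (LK LD1_c7 LD2_c42 LD3_c55) Lrfl Lrfl
theorem f810657 : Led Lsl_df (LP (LK LD1_c7 LD2_c42 LD3_c56)) = v22787 :=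
  Lgr Lrot78 (Lpr_ft (K0.f14512 IH) (Lpr_dt (f94820 IH) (Lpr_ft (f810655 IH) (Lpn v22787))))
theorem f14498 : Led Lsl_gt (LP (LK LD1_c7 LD2_c42 LD3_c56)) = (LP (LK LD1_c3 LD2_c51 LD3_c2)) :=
  Lre_g IH (LK LD1_c7 LD2_c42 LD3_c56) (LK LD1_c3 LD2_c51 LD3_c2) Lrfl Lrfl
theorem f486043 : Led Lsl_dt (LP (LK LD1_c7 LD2_c43 LD3_c23)) = (LP (LK LD1_c3 LD2_c51 LD3_c2)) :=
  Lre_d IH (LK LD1_c7 LD2_c43 LD3_c23) (LK LD1_c3 LD2_c51 LD3_c2) Lrfl Lrfl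
theorem f486044 : Led Lsl_et (LP (LK LD1_c7 LD2_c43 LD3_c23)) = (LP (LK LD1_c14 LD2_c33 LD3_c33)) :=
  Lre_e IH (LK LD1_c7 LD2_c43 LD3_c23) (LK LD1_c14 LD2_c33 LD3_c33) Lrfl Lrfl
theorem f810675 : Led Lsl_gt (LP (LK LD1_c14 LD2_c33 LD3_c33)) = (LP (LK LD1_c24 LD2_c15 LD3_c53)) :=
  Lre_g IH (LK LD1_c14 LD2_c33 LD3_c33) (LK LD1_c24 LD2_c15 LD3_c53) Lrfl Lrfl
theorem f810676 : Led Lsl_et (LP (LK LD1_c23 LD2_c19 LD3_c14)) = (LP (LK LD1_c24 LD2_c15 LD3_c53)) :=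
  Lgr Lrot122 (Lpr_dt (f478961 IH) (Lpr_gt (f479054 IH) (Lpr_df (f531234 IH) (Lpr_et (f531233 IH) (Lpr_gt (f810667 IH) (Lpe (f810657 IH) (Lpr_gt (f14498 IH) (Lpe (f486043 IH) (Lpr_et (f486044 IH) (Lpr_gt (f810675 IH) (Lpn (LP (LK LD1_c24 LD2_c15 LD3_c53)))))))))))))
theorem f810677 : Led Lsl_et (LP (LK LD1_c23 LD2_c19 LD3_c14)) = (LP (LK LD1_c24 LD2_c15 LD3_c53)) :=
  Leop (Lpe (f810676 IH) (Lpn (LP (LK LD1_c23 LD2_c19 LD3_c14))))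
theorem seed_1763 : LEOK LG_e (LK LD1_c23 LD2_c19 LD3_c14) :=
  Leoe_e (LK LD1_c23 LD2_c19 LD3_c14) (f810677 IH)
def v22818 : LQ := Led Lsl_at (LP (LK LD1_c7 LD2_c43 LD3_c19))
theorem f810850 : Led Lsl_at (LP (LK LD1_c7 LD2_c43 LD3_c19)) = v22818 :=
  Lrfl
theorem f11863 : Led Lsl_dt (LP (LK LD1_c3 LD2_c51 LD3_c1)) = (LP (LK LD1_c7 LD2_c43 LD3_c19)) :=
  Lre_d IH (LK LD1_c3 LD2_c51 LD3_c1) (LK LD1_c7 LD2_c43 LD3_c19) Lrfl Lrfl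
def v7548 : LQ := Led Lsl_at (LP (LK LD1_c3 LD2_c51 LD3_c1))
theorem f666659 : Led Lsl_at (LP (LK LD1_c3 LD2_c51 LD3_c1)) = v7548 :=
  Lrfl
theorem f666660 : Led Lsl_af (LP (LK LD1_c3 LD2_c51 LD3_c1)) = v7548 :=
  Lgr Lrot0 (Lpr_at (f666659 IH) (Lpn v7548))
theorem f810852 : Led Lsl_df v7548 = v22818 :=
  Lgr Lrot18 (Lpe (f666660 IH) (Lpr_dt (f11863 IH) (Lpr_at (f810850 IH) (Lpn v22818))))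
theorem f11862 : Led Lsl_gt (LP (LK LD1_c1 LD2_c52 LD3_c23)) = (LP (LK LD1_c3 LD2_c51 LD3_c1)) :=
  Lre_g IH (LK LD1_c1 LD2_c52 LD3_c23) (LK LD1_c3 LD2_c51 LD3_c1) Lrfl Lrfl
theorem f486042 : Led Lsl_gt (LP (LK LD1_c3 LD2_c51 LD3_c2)) = (LP (LK LD1_c1 LD2_c52 LD3_c23)) :=
  Lre_g IH (LK LD1_c3 LD2_c51 LD3_c2) (LK LD1_c1 LD2_c52 LD3_c23) Lrfl Lrfl
theorem f666666 : Led Lsl_ft (LP (LK LD1_c3 LD2_c51 LD3_c2)) = v7548 :=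
  Lgr Lrot2 (Lpr_gt (f486042 IH) (Lpr_gt (f11862 IH) (Lpr_af (f666660 IH) (Lpn v7548))))
theorem f666671 : Led Lsl_ff (LP (LK LD1_c3 LD2_c51 LD3_c2)) = v7548 :=
  Lgr Lrot3 (Lpr_ft (f666666 IH) (Lpn v7548))
theorem f14499 : Led Lsl_dt (LP (LK LD1_c3 LD2_c51 LD3_c2)) = (LP (LK LD1_c7 LD2_c43 LD3_c23)) :=
  Lre_d IH (LK LD1_c3 LD2_c51 LD3_c2) (LK LD1_c7 LD2_c43 LD3_c23) Lrfl Lrfl
theorem f810854 : Led Lsl_ft (LP (LK LD1_c7 LD2_c43 LD3_c23)) = v22818 :=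
  Lgr Lrot54 (Lpe (f14499 IH) (Lpr_ff (f666671 IH) (Lpr_df (f810852 IH) (Lpn v22818))))
theorem f810851 : Led Lsl_af (LP (LK LD1_c7 LD2_c43 LD3_c19)) = v22818 :=
  Lgr Lrot0 (Lpr_at (f810850 IH) (Lpn v22818))
theorem f810663 : Led Lsl_gt (LP (LK LD1_c14 LD2_c33 LD3_c24)) = (LP (LK LD1_c7 LD2_c43 LD3_c19)) :=
  Lre_g IH (LK LD1_c14 LD2_c33 LD3_c24) (LK LD1_c7 LD2_c43 LD3_c19) Lrfl Lrfl
theorem f810859 : Led Lsl_gt (LP (LK LD1_c7 LD2_c43 LD3_c23)) = (LP (LK LD1_c14 LD2_c33 LD3_c24)) :=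
  Lgr Lrot5 (Lpr_ft (f810854 IH) (Lpe (f810851 IH) (Lpe (f810663 IH) (Lpn (LP (LK LD1_c14 LD2_c33 LD3_c24))))))
theorem f810860 : Led Lsl_gt (LP (LK LD1_c7 LD2_c43 LD3_c23)) = (LP (LK LD1_c14 LD2_c33 LD3_c24)) :=
  Leop (Lpe (f810859 IH) (Lpn (LP (LK LD1_c7 LD2_c43 LD3_c23))))
theorem seed_1764 : LEOK LG_g (LK LD1_c7 LD2_c43 LD3_c23) :=
  Leoe_g (LK LD1_c7 LD2_c43 LD3_c23) (f810860 IH)
def v22819 : LQ := Led Lsl_ft (LP (LK LD1_c7 LD2_c43 LD3_c19))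
theorem f810867 : Led Lsl_ft (LP (LK LD1_c7 LD2_c43 LD3_c19)) = v22819 :=
  Lrfl
theorem f11864 : Led Lsl_gt (LP (LK LD1_c7 LD2_c43 LD3_c19)) = (LP (LK LD1_c14 LD2_c33 LD3_c23)) :=
  Lre_g IH (LK LD1_c7 LD2_c43 LD3_c19) (LK LD1_c14 LD2_c33 LD3_c23) Lrfl Lrfl
theorem f810868 : Led Lsl_af (LP (LK LD1_c7 LD2_c43 LD3_c23)) = v22819 :=
  Lgr Lrot45 (Lpr_ft (f810854 IH) (Lpe (f810851 IH) (Lpr_ft (f810867 IH) (Lpn v22819))))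
theorem f810872 : Led Lsl_gt (LP (LK LD1_c14 LD2_c33 LD3_c23)) = (LP (LK LD1_c7 LD2_c43 LD3_c23)) :=
  Lgr Lrot46 (Lpe (f11864 IH) (Lpr_ft (f810867 IH) (Lpe (f810868 IH) (Lpn (LP (LK LD1_c7 LD2_c43 LD3_c23))))))
theorem f810873 : Led Lsl_gt (LP (LK LD1_c14 LD2_c33 LD3_c23)) = (LP (LK LD1_c7 LD2_c43 LD3_c23)) :=
  Leop (Lpe (f810872 IH) (Lpn (LP (LK LD1_c14 LD2_c33 LD3_c23))))
theorem seed_1765 : LEOK LG_g (LK LD1_c14 LD2_c33 LD3_c23) :=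
  Leoe_g (LK LD1_c14 LD2_c33 LD3_c23) (f810873 IH)
def v22849 : LQ := Led Lsl_gf (LP (LK LD1_c7 LD2_c43 LD3_c54))
theorem f811004 : Led Lsl_gf (LP (LK LD1_c7 LD2_c43 LD3_c54)) = v22849 :=
  Lrfl
theorem f715534 : Led Lsl_ct K52.v13898 = K51.v13433 :=
  Lgr Lrot40 (Lpr_ff (K52.f715532 IH) (Lpe (K51.f633485 IH) (Lpr_ff (K57.f702937 IH) (Lpn K51.v13433))))
theorem f702942 : Led Lsl_gf K57.v5404 = K51.v13433 :=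
  Lgr Lrot47 (Lpe (K57.f647496 IH) (Lpr_af (K3.f107491 IH) (Lpr_ff (K57.f702937 IH) (Lpn K51.v13433))))
theorem f811007 : Led Lsl_bt K57.v13434 = v22849 :=
  Lgr Lrot22 (Lpe (K57.f760268 IH) (Lpqs (K57.f761546 IH) (Lpr_gf (f702942 IH) (Lpe (f715534 IH) (Lpr_gf (K52.f715539 IH) (Lpqs (K52.f715910 IH) (Lpe (K52.f669014 IH) (Lpr_ct (K52.f77393 IH) (Lpq (K52.f710497 IH) (Lpe (K51.f640508 IH) (Lpe (K53.f56823 IH) (Lpr_bt (K53.f437124 IH) (Lpr_gf (f811004 IH) (Lpn v22849))))))))))))))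
theorem f651451 : Led Lsl_bt (LP (LK LD1_c3 LD2_c18 LD3_c19)) = (LP (LK LD1_c6 LD2_c40 LD3_c36)) :=
  Lre_b IH (LK LD1_c3 LD2_c18 LD3_c19) (LK LD1_c6 LD2_c40 LD3_c36) Lrfl Lrfl
theorem f761555 : Led Lsl_bt (LP (LK LD1_c7 LD2_c43 LD3_c59)) = K57.v5901 :=
  Lgr Lrot128 (Lpr_cf (K57.f713656 IH) (Lpe (f651451 IH) (Lpr_cf (K51.f651460 IH) (Lpr_bf (K57.f707739 IH) (Lpe (K57.f761524 IH) (Lpn K57.v5901))))))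
theorem f811010 : Led Lsl_ff (LP (LK LD1_c7 LD2_c43 LD3_c59)) = v22849 :=
  Lgr Lrot25 (Lpr_bt (f761555 IH) (Lpr_ft (K57.f760276 IH) (Lpr_bt (f811007 IH) (Lpn v22849))))
theorem f146657 : Led Lsl_gt (LP (LK LD1_c7 LD2_c43 LD3_c54)) = (LP (LK LD1_c14 LD2_c34 LD3_c47)) :=
  Lre_g IH (LK LD1_c7 LD2_c43 LD3_c54) (LK LD1_c14 LD2_c34 LD3_c47) Lrfl Lrfl
theorem f811012 : Led Lsl_at (LP (LK LD1_c7 LD2_c43 LD3_c59)) = (LP (LK LD1_c14 LD2_c34 LD3_c47)) :=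
  Lgr Lrot26 (Lpr_ff (f811010 IH) (Lpe (f811004 IH) (Lpr_gt (f146657 IH) (Lpn (LP (LK LD1_c14 LD2_c34 LD3_c47))))))
theorem f811013 : Led Lsl_at (LP (LK LD1_c7 LD2_c43 LD3_c59)) = (LP (LK LD1_c14 LD2_c34 LD3_c47)) :=
  Leop (Lpe (f811012 IH) (Lpn (LP (LK LD1_c7 LD2_c43 LD3_c59))))
theorem seed_1766 : LEOK LG_a (LK LD1_c7 LD2_c43 LD3_c59) :=
  Leoe_a (LK LD1_c7 LD2_c43 LD3_c59) (f811013 IH)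
def v22857 : LQ := Led Lsl_at (LP (LK LD1_c7 LD2_c44 LD3_c2))
theorem f811076 : Led Lsl_at (LP (LK LD1_c7 LD2_c44 LD3_c2)) = v22857 :=
  Lrfl
theorem f65199 : Led Lsl_dt (LP (LK LD1_c3 LD2_c51 LD3_c17)) = (LP (LK LD1_c7 LD2_c44 LD3_c2)) :=
  Lre_d IH (LK LD1_c3 LD2_c51 LD3_c17) (LK LD1_c7 LD2_c44 LD3_c2) Lrfl Lrfl
def v7553 : LQ := Led Lsl_at (LP (LK LD1_c3 LD2_c51 LD3_c17))
theorem f666708 : Led Lsl_at (LP (LK LD1_c3 LD2_c51 LD3_c17)) = v7553 :=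
  Lrfl
theorem f666709 : Led Lsl_af (LP (LK LD1_c3 LD2_c51 LD3_c17)) = v7553 :=
  Lgr Lrot0 (Lpr_at (f666708 IH) (Lpn v7553))
theorem f811078 : Led Lsl_df v7553 = v22857 :=
  Lgr Lrot18 (Lpe (f666709 IH) (Lpr_dt (f65199 IH) (Lpr_at (f811076 IH) (Lpn v22857))))
theorem f666711 : Led Lsl_ft (LP (LK LD1_c3 LD2_c51 LD3_c18)) = v7553 :=
  Lgr Lrot2 (Lpr_gt (K52.f65204 IH) (Lpr_gt (K52.f65198 IH) (Lpr_af (f666709 IH) (Lpn v7553))))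
theorem f666712 : Led Lsl_ff (LP (LK LD1_c3 LD2_c51 LD3_c18)) = v7553 :=
  Lgr Lrot3 (Lpr_ft (f666711 IH) (Lpn v7553))
theorem f65341 : Led Lsl_dt (LP (LK LD1_c3 LD2_c51 LD3_c18)) = (LP (LK LD1_c7 LD2_c44 LD3_c4)) :=
  Lre_d IH (LK LD1_c3 LD2_c51 LD3_c18) (LK LD1_c7 LD2_c44 LD3_c4) Lrfl Lrfl
theorem f811080 : Led Lsl_ft (LP (LK LD1_c7 LD2_c44 LD3_c4)) = v22857 :=
  Lgr Lrot54 (Lpe (f65341 IH) (Lpr_ff (f666712 IH) (Lpr_df (f811078 IH) (Lpn v22857))))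
theorem f811077 : Led Lsl_af (LP (LK LD1_c7 LD2_c44 LD3_c2)) = v22857 :=
  Lgr Lrot0 (Lpr_at (f811076 IH) (Lpn v22857))
theorem f93506 : Led Lsl_gt (LP (LK LD1_c14 LD2_c35 LD3_c8)) = (LP (LK LD1_c7 LD2_c44 LD3_c2)) :=
  Lre_g IH (LK LD1_c14 LD2_c35 LD3_c8) (LK LD1_c7 LD2_c44 LD3_c2) Lrfl Lrfl
theorem f811082 : Led Lsl_gt (LP (LK LD1_c7 LD2_c44 LD3_c4)) = (LP (LK LD1_c14 LD2_c35 LD3_c8)) :=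
  Lgr Lrot5 (Lpr_ft (f811080 IH) (Lpe (f811077 IH) (Lpe (f93506 IH) (Lpn (LP (LK LD1_c14 LD2_c35 LD3_c8))))))
theorem f811083 : Led Lsl_gt (LP (LK LD1_c7 LD2_c44 LD3_c4)) = (LP (LK LD1_c14 LD2_c35 LD3_c8)) :=
  Leop (Lpe (f811082 IH) (Lpn (LP (LK LD1_c7 LD2_c44 LD3_c4))))
theorem seed_1767 : LEOK LG_g (LK LD1_c7 LD2_c44 LD3_c4) :=
  Leoe_g (LK LD1_c7 LD2_c44 LD3_c4) (f811083 IH)
def v22858 : LQ := Led Lsl_ft (LP (LK LD1_c7 LD2_c44 LD3_c2))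
theorem f811086 : Led Lsl_ft (LP (LK LD1_c7 LD2_c44 LD3_c2)) = v22858 :=
  Lrfl
theorem f65200 : Led Lsl_gt (LP (LK LD1_c7 LD2_c44 LD3_c2)) = (LP (LK LD1_c14 LD2_c35 LD3_c7)) :=
  Lre_g IH (LK LD1_c7 LD2_c44 LD3_c2) (LK LD1_c14 LD2_c35 LD3_c7) Lrfl Lrfl
theorem f811087 : Led Lsl_af (LP (LK LD1_c7 LD2_c44 LD3_c4)) = v22858 :=
  Lgr Lrot45 (Lpr_ft (f811080 IH) (Lpe (f811077 IH) (Lpr_ft (f811086 IH) (Lpn v22858))))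
theorem f811090 : Led Lsl_gt (LP (LK LD1_c14 LD2_c35 LD3_c7)) = (LP (LK LD1_c7 LD2_c44 LD3_c4)) :=
  Lgr Lrot46 (Lpe (f65200 IH) (Lpr_ft (f811086 IH) (Lpe (f811087 IH) (Lpn (LP (LK LD1_c7 LD2_c44 LD3_c4))))))
theorem f811091 : Led Lsl_gt (LP (LK LD1_c14 LD2_c35 LD3_c7)) = (LP (LK LD1_c7 LD2_c44 LD3_c4)) :=
  Leop (Lpe (f811090 IH) (Lpn (LP (LK LD1_c14 LD2_c35 LD3_c7))))
theorem seed_1768 : LEOK LG_g (LK LD1_c14 LD2_c35 LD3_c7) :=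
  Leoe_g (LK LD1_c14 LD2_c35 LD3_c7) (f811091 IH)
def v22860 : LQ := Led Lsl_gf (LP (LK LD1_c7 LD2_c44 LD3_c3))
theorem f811096 : Led Lsl_gf (LP (LK LD1_c7 LD2_c44 LD3_c3)) = v22860 :=
  Lrfl
theorem f96677 : Led Lsl_cf (LP (LK LD1_c3 LD2_c47 LD3_c19)) = (LP (LK LD1_c6 LD2_c35 LD3_c28)) :=
  Lgr Lrot11 (Lpr_ct (K4.f96670 IH) (Lpn (LP (LK LD1_c6 LD2_c35 LD3_c28))))
theorem f96745 : Led Lsl_gt (LP (LK LD1_c21 LD2_c42 LD3_c39)) = (LP (LK LD1_c12 LD2_c36 LD3_c22)) :=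
  Lre_g IH (LK LD1_c21 LD2_c42 LD3_c39) (LK LD1_c12 LD2_c36 LD3_c22) Lrfl Lrfl
theorem f811098 : Led Lsl_cf (LP (LK LD1_c21 LD2_c42 LD3_c39)) = v22860 :=
  Lgr Lrot166 (Lpr_gt (f96745 IH) (Lpr_dt (K57.f96742 IH) (Lpr_gt (K57.f96743 IH) (Lpr_dt (f96689 IH) (Lpe (f96677 IH) (Lpe (K61.f93498 IH) (Lpe (K52.f93482 IH) (Lpe (K52.f93483 IH) (Lpr_gf (f811096 IH) (Lpn v22860))))))))))
theorem f89357 : Led Lsl_ct (LP (LK LD1_c14 LD2_c24 LD3_c17)) = (LP (LK LD1_c7 LD2_c38 LD3_c35)) :=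
  Lre_c IH (LK LD1_c14 LD2_c24 LD3_c17) (LK LD1_c7 LD2_c38 LD3_c35) Lrfl Lrfl
theorem f87722 : Led Lsl_at (LP (LK LD1_c3 LD2_c47 LD3_c3)) = (LP (LK LD1_c1 LD2_c51 LD3_c22)) :=
  Lgr Lrot51 (Lpe (K60.f87721 IH) (Lpr_af (K2.f87710 IH) (Lpe (K57.f64838 IH) (Lpn (LP (LK LD1_c1 LD2_c51 LD3_c22))))))
theorem f442307 : Led Lsl_gt (LP (LK LD1_c7 LD2_c34 LD3_c60)) = (LP (LK LD1_c3 LD2_c48 LD3_c43)) :=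
  Lgr Lrot5 (Lpr_ft (K5.f87741 IH) (Lpr_at (f87722 IH) (Lpe (f64872 IH) (Lpn (LP (LK LD1_c3 LD2_c48 LD3_c43))))))
theorem f89349 : Led Lsl_ct (LP (LK LD1_c7 LD2_c38 LD3_c35)) = (LP (LK LD1_c14 LD2_c24 LD3_c17)) :=
  Lre_c IH (LK LD1_c7 LD2_c38 LD3_c35) (LK LD1_c14 LD2_c24 LD3_c17) Lrfl Lrfl
theorem f96679 : Led Lsl_ct (LP (LK LD1_c14 LD2_c18 LD3_c51)) = (LP (LK LD1_c7 LD2_c35 LD3_c31)) :=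
  Lre_c IH (LK LD1_c14 LD2_c18 LD3_c51) (LK LD1_c7 LD2_c35 LD3_c31) Lrfl Lrfl
theorem f807560 : Led Lsl_gt (LP (LK LD1_c14 LD2_c24 LD3_c17)) = (LP (LK LD1_c14 LD2_c18 LD3_c51)) :=
  Lgr Lrot150 (Lpe (f89349 IH) (Lpr_gf (K57.f442206 IH) (Lpe (K2.f87731 IH) (Lpr_gt (f442307 IH) (Lpr_ct (f442312 IH) (Lpqs (f807548 IH) (Lpe (f776772 IH) (Lpe (f96677 IH) (Lpe (K61.f93498 IH) (Lpe (f96679 IH) (Lpn (LP (LK LD1_c14 LD2_c18 LD3_c51)))))))))))))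
theorem f807656 : Led Lsl_gf (LP (LK LD1_c14 LD2_c24 LD3_c17)) = (LP (LK LD1_c14 LD2_c30 LD3_c19)) :=
  Lgr Lrot47 (Lpr_gt (f807560 IH) (Lpe (K4.f117363 IH) (Lpe (K4.f117372 IH) (Lpn (LP (LK LD1_c14 LD2_c30 LD3_c19))))))
theorem f87447 : Led Lsl_ct (LP (LK LD1_c7 LD2_c41 LD3_c43)) = (LP (LK LD1_c14 LD2_c30 LD3_c19)) :=
  Lre_c IH (LK LD1_c7 LD2_c41 LD3_c43) (LK LD1_c14 LD2_c30 LD3_c19) Lrfl Lrfl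
theorem f117381 : Led Lsl_af (LP (LK LD1_c7 LD2_c41 LD3_c43)) = (LP (LK LD1_c14 LD2_c18 LD3_c52)) :=
  Lgr Lrot0 (Lpr_at (K4.f117378 IH) (Lpn (LP (LK LD1_c14 LD2_c18 LD3_c52))))
theorem f96686 : Led Lsl_ft (LP (LK LD1_c7 LD2_c35 LD3_c31)) = (LP (LK LD1_c14 LD2_c18 LD3_c52)) :=
  Lre_f IH (LK LD1_c7 LD2_c35 LD3_c31) (LK LD1_c14 LD2_c18 LD3_c52) Lrfl Lrfl
theorem f93481 : Led Lsl_gt (LP (LK LD1_c7 LD2_c35 LD3_c31)) = (LP (LK LD1_c14 LD2_c18 LD3_c49)) :=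
  Lre_g IH (LK LD1_c7 LD2_c35 LD3_c31) (LK LD1_c14 LD2_c18 LD3_c49) Lrfl Lrfl
theorem f440796 : Led Lsl_gf (LP (LK LD1_c7 LD2_c41 LD3_c43)) = (LP (LK LD1_c14 LD2_c18 LD3_c49)) :=
  Lgr Lrot76 (Lpr_af (f117381 IH) (Lpe (f96686 IH) (Lpr_gt (f93481 IH) (Lpn (LP (LK LD1_c14 LD2_c18 LD3_c49))))))
theorem f64921 : Led Lsl_dt (LP (LK LD1_c1 LD2_c52 LD3_c13)) = (LP (LK LD1_c3 LD2_c50 LD3_c41)) :=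
  Lre_d IH (LK LD1_c1 LD2_c52 LD3_c13) (LK LD1_c3 LD2_c50 LD3_c41) Lrfl Lrfl
theorem f110131 : Led Lsl_at (LP (LK LD1_c3 LD2_c47 LD3_c27)) = (LP (LK LD1_c1 LD2_c52 LD3_c13)) :=
  Lgr Lrot51 (Lpe (f65801 IH) (Lpr_af (K3.f110123 IH) (Lpe (f64921 IH) (Lpn (LP (LK LD1_c1 LD2_c52 LD3_c13))))))
theorem f93584 : Led Lsl_ft (LP (LK LD1_c7 LD2_c35 LD3_c48)) = (LP (LK LD1_c3 LD2_c47 LD3_c27)) :=
  Lre_f IH (LK LD1_c7 LD2_c35 LD3_c48) (LK LD1_c3 LD2_c47 LD3_c27) Lrfl Lrfl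
theorem f441322 : Led Lsl_gt (LP (LK LD1_c7 LD2_c35 LD3_c48)) = (LP (LK LD1_c3 LD2_c50 LD3_c40)) :=
  Lgr Lrot5 (Lpr_ft (f93584 IH) (Lpr_at (f110131 IH) (Lpe (K48.f66195 IH) (Lpn (LP (LK LD1_c3 LD2_c50 LD3_c40))))))
theorem f110151 : Led Lsl_at (LP (LK LD1_c7 LD2_c35 LD3_c48)) = (LP (LK LD1_c3 LD2_c50 LD3_c42)) :=
  Lgr Lrot100 (Lpr_af (K3.f110144 IH) (Lpn (LP (LK LD1_c3 LD2_c50 LD3_c42))))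
theorem f117433 : Led Lsl_ef (LP (LK LD1_c7 LD2_c35 LD3_c48)) = (LP (LK LD1_c3 LD2_c50 LD3_c18)) :=
  Lgr Lrot20 (Lpr_at (f110151 IH) (Lpr_et (K4.f117431 IH) (Lpe (K4.f117384 IH) (Lpn (LP (LK LD1_c3 LD2_c50 LD3_c18))))))
theorem f530336 : Led Lsl_et (LP (LK LD1_c1 LD2_c52 LD3_c35)) = (LP (LK LD1_c3 LD2_c51 LD3_c42)) :=
  Lre_e IH (LK LD1_c1 LD2_c52 LD3_c35) (LK LD1_c3 LD2_c51 LD3_c42) Lrfl Lrfl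
theorem f666401 : Led Lsl_gt (LP (LK LD1_c3 LD2_c51 LD3_c42)) = (LP (LK LD1_c7 LD2_c45 LD3_c1)) :=
  Lre_g IH (LK LD1_c3 LD2_c51 LD3_c42) (LK LD1_c7 LD2_c45 LD3_c1) Lrfl Lrfl
theorem f667027 : Led Lsl_df (LP (LK LD1_c14 LD2_c18 LD3_c49)) = (LP (LK LD1_c7 LD2_c45 LD3_c1)) :=
  Lgr Lrot135 (Lpe (f440796 IH) (Lpe (K4.f87446 IH) (Lpe (f117433 IH) (Lpr_gt (f441322 IH) (Lpe (f441328 IH) (Lpr_dt (f441329 IH) (Lpr_gt (K48.f667022 IH) (Lpe (K48.f530329 IH) (Lpr_et (f530336 IH) (Lpr_gt (f666401 IH) (Lpn (LP (LK LD1_c7 LD2_c45 LD3_c1)))))))))))))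
theorem f667029 : Led Lsl_dt (LP (LK LD1_c14 LD2_c18 LD3_c49)) = (LP (LK LD1_c7 LD2_c45 LD3_c1)) :=
  Lgr Lrot42 (Lpr_df (f667027 IH) (Lpn (LP (LK LD1_c7 LD2_c45 LD3_c1))))
theorem f811099 : Led Lsl_gt (LP (LK LD1_c7 LD2_c45 LD3_c1)) = v22860 :=
  Lgr Lrot9 (Lpe (f667029 IH) (Lpe (f440796 IH) (Lpr_ct (f87447 IH) (Lpe (f807656 IH) (Lpr_ct (f89357 IH) (Lpe (K57.f89325 IH) (Lpr_cf (K57.f712384 IH) (Lpe (f96745 IH) (Lpr_cf (f811098 IH) (Lpn v22860))))))))))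
theorem f530337 : Led Lsl_ft (LP (LK LD1_c3 LD2_c51 LD3_c42)) = (LP (LK LD1_c7 LD2_c45 LD3_c3)) :=
  Lre_f IH (LK LD1_c3 LD2_c51 LD3_c42) (LK LD1_c7 LD2_c45 LD3_c3) Lrfl Lrfl
theorem f811100 : Led Lsl_at (LP (LK LD1_c7 LD2_c45 LD3_c3)) = v22860 :=
  Lgr Lrot26 (Lpe (f530337 IH) (Lpr_gt (f666401 IH) (Lpr_gt (f811099 IH) (Lpn v22860))))
theorem f811104 : Led Lsl_ct (LP (LK LD1_c14 LD2_c37 LD3_c5)) = (LP (LK LD1_c7 LD2_c45 LD3_c3)) :=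
  Lre_c IH (LK LD1_c14 LD2_c37 LD3_c5) (LK LD1_c7 LD2_c45 LD3_c3) Lrfl Lrfl
theorem f811105 : Led Lsl_af (LP (LK LD1_c14 LD2_c37 LD3_c5)) = (LP (LK LD1_c21 LD2_c42 LD3_c39)) :=
  Lgr Lrot68 (Lpr_ct (f811104 IH) (Lpr_at (f811100 IH) (Lpe (f811098 IH) (Lpn (LP (LK LD1_c21 LD2_c42 LD3_c39))))))
theorem f811106 : Led Lsl_at (LP (LK LD1_c21 LD2_c42 LD3_c39)) = (LP (LK LD1_c14 LD2_c37 LD3_c5)) :=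
  Leop (Lpr_af (f811105 IH) (Lpn (LP (LK LD1_c21 LD2_c42 LD3_c39))))
theorem seed_1769 : LEOK LG_a (LK LD1_c21 LD2_c42 LD3_c39) :=
  Leoe_a (LK LD1_c21 LD2_c42 LD3_c39) (f811106 IH)
def v7586 : LQ := Led Lsl_at (LP (LK LD1_c3 LD2_c51 LD3_c42))
theorem f667078 : Led Lsl_at (LP (LK LD1_c3 LD2_c51 LD3_c42)) = v7586 :=
  Lrfl
theorem f667079 : Led Lsl_af (LP (LK LD1_c3 LD2_c51 LD3_c42)) = v7586 :=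
  Lgr Lrot0 (Lpr_at (f667078 IH) (Lpn v7586))
theorem f811108 : Led Lsl_ff v7586 = v22860 :=
  Lgr Lrot30 (Lpe (f667079 IH) (Lpr_ft (f530337 IH) (Lpr_at (f811100 IH) (Lpn v22860))))
def v7585 : LQ := Led Lsl_gf (LP (LK LD1_c3 LD2_c51 LD3_c42))
theorem f667075 : Led Lsl_gf (LP (LK LD1_c3 LD2_c51 LD3_c42)) = v7585 :=
  Lrfl
theorem f811111 : v7585 = (LP (LK LD1_c7 LD2_c44 LD3_c3)) :=
  (Llr Lrot76 (Lpe (f667075 IH) (Lpr_af (f667079 IH) (Lpr_ff (f811108 IH) (Lpe (f811096 IH) (Lpn (LP (LK LD1_c7 LD2_c44 LD3_c3)))))))).symm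
theorem f811113 : Led Lsl_gt (LP (LK LD1_c7 LD2_c44 LD3_c3)) = (LP (LK LD1_c3 LD2_c51 LD3_c42)) :=
  Leop (Lpr_gf (f667075 IH) (Lpqs (f811111 IH) (Lpn (LP (LK LD1_c7 LD2_c44 LD3_c3)))))
theorem seed_1770 : LEOK LG_g (LK LD1_c7 LD2_c44 LD3_c3) :=
  Leoe_g (LK LD1_c7 LD2_c44 LD3_c3) (f811113 IH)
theorem f19120 : Led Lsl_gt (LP (LK LD1_c7 LD2_c2 LD3_c23)) = (LP (LK LD1_c3 LD2_c30 LD3_c18)) :=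
  Lre_g IH (LK LD1_c7 LD2_c2 LD3_c23) (LK LD1_c3 LD2_c30 LD3_c18) Lrfl Lrfl
theorem f62838 : Led Lsl_et (LP (LK LD1_c13 LD2_c21 LD3_c1)) = (LP (LK LD1_c7 LD2_c2 LD3_c23)) :=
  Lre_e IH (LK LD1_c13 LD2_c21 LD3_c1) (LK LD1_c7 LD2_c2 LD3_c23) Lrfl Lrfl
theorem f65201 : Led Lsl_df (LP (LK LD1_c14 LD2_c35 LD3_c7)) = (LP (LK LD1_c13 LD2_c21 LD3_c1)) :=
  Lgr Lrot132 (Lpe (f65200 IH) (Lpe (f65199 IH) (Lpe (K52.f65198 IH) (Lpe (K4.f65197 IH) (Lpr_dt (K1.f65175 IH) (Lpe (K1.f62818 IH) (Lpe (K4.f11406 IH) (Lpr_et (K3.f18314 IH) (Lpe (f19120 IH) (Lpe (f62838 IH) (Lpn (LP (LK LD1_c13 LD2_c21 LD3_c1)))))))))))))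
theorem f18331 : Led Lsl_gt (LP (LK LD1_c7 LD2_c2 LD3_c24)) = (LP (LK LD1_c13 LD2_c21 LD3_c2)) :=
  Lre_g IH (LK LD1_c7 LD2_c2 LD3_c24) (LK LD1_c13 LD2_c21 LD3_c2) Lrfl Lrfl
theorem f667081 : Led Lsl_ef K61.v2680 = v7586 :=
  Lgr Lrot20 (Lpe (K61.f530339 IH) (Lpr_et (f530336 IH) (Lpr_at (f667078 IH) (Lpn v7586))))
theorem f530341 : Led Lsl_ff (LP (LK LD1_c1 LD2_c52 LD3_c34)) = K61.v2680 :=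
  Lgr Lrot3 (Lpr_ft (K61.f530338 IH) (Lpn K61.v2680))
theorem f530325 : Led Lsl_et (LP (LK LD1_c1 LD2_c52 LD3_c34)) = (LP (LK LD1_c3 LD2_c51 LD3_c38)) :=
  Lre_e IH (LK LD1_c1 LD2_c52 LD3_c34) (LK LD1_c3 LD2_c51 LD3_c38) Lrfl Lrfl
theorem f530346 : Led Lsl_ft (LP (LK LD1_c3 LD2_c51 LD3_c38)) = (LP (LK LD1_c7 LD2_c44 LD3_c54)) :=
  Lre_f IH (LK LD1_c3 LD2_c51 LD3_c38) (LK LD1_c7 LD2_c44 LD3_c54) Lrfl Lrfl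
theorem f811109 : Led Lsl_et (LP (LK LD1_c7 LD2_c44 LD3_c54)) = v22860 :=
  Lgr Lrot69 (Lpe (f530346 IH) (Lpe (f530325 IH) (Lpr_ff (f530341 IH) (Lpr_ef (f667081 IH) (Lpr_ff (f811108 IH) (Lpn v22860))))))
theorem f811124 : Led Lsl_df (LP (LK LD1_c13 LD2_c21 LD3_c2)) = (LP (LK LD1_c7 LD2_c44 LD3_c54)) :=
  Lgr Lrot132 (Lpe (f18331 IH) (Lpe (K3.f19103 IH) (Lpe (f19120 IH) (Lpe (f62838 IH) (Lpe (f65201 IH) (Lpe (f65200 IH) (Lpe (f65199 IH) (Lpr_et (K52.f65212 IH) (Lpr_gf (f811096 IH) (Lpe (f811109 IH) (Lpn (LP (LK LD1_c7 LD2_c44 LD3_c54)))))))))))))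
theorem f811125 : Led Lsl_dt (LP (LK LD1_c7 LD2_c44 LD3_c54)) = (LP (LK LD1_c13 LD2_c21 LD3_c2)) :=
  Leop (Lpr_df (f811124 IH) (Lpn (LP (LK LD1_c7 LD2_c44 LD3_c54))))
theorem seed_1771 : LEOK LG_d (LK LD1_c7 LD2_c44 LD3_c54) :=
  Leoe_d (LK LD1_c7 LD2_c44 LD3_c54) (f811125 IH)
theorem f665580 : Led Lsl_ft (LP (LK LD1_c7 LD2_c36 LD3_c42)) = (LP (LK LD1_c14 LD2_c21 LD3_c1)) :=
  Lre_f IH (LK LD1_c7 LD2_c36 LD3_c42) (LK LD1_c14 LD2_c21 LD3_c1) Lrfl Lrfl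
theorem f811110 : Led Lsl_ft v7586 = v22860 :=
  Lgr Lrot48 (Lpr_ff (f811108 IH) (Lpn v22860))
theorem f667083 : Led Lsl_et K61.v2680 = v7586 :=
  Lgr Lrot87 (Lpr_ef (f667081 IH) (Lpn v7586))
def v22453 : LQ := Led Lsl_at (LP (LK LD1_c7 LD2_c36 LD3_c38))
theorem f807014 : Led Lsl_at (LP (LK LD1_c7 LD2_c36 LD3_c38)) = v22453 :=
  Lrfl
theorem f63748 : Led Lsl_et (LP (LK LD1_c3 LD2_c47 LD3_c47)) = (LP (LK LD1_c7 LD2_c36 LD3_c38)) :=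
  Lre_e IH (LK LD1_c3 LD2_c47 LD3_c47) (LK LD1_c7 LD2_c36 LD3_c38) Lrfl Lrfl
theorem f807016 : Led Lsl_ef v7440 = v22453 :=
  Lgr Lrot20 (Lpe (f665568 IH) (Lpr_et (f63748 IH) (Lpr_at (f807014 IH) (Lpn v22453))))
theorem f65133 : Led Lsl_dt (LP (LK LD1_c7 LD2_c44 LD3_c53)) = (LP (LK LD1_c3 LD2_c51 LD3_c38)) :=
  Lre_d IH (LK LD1_c7 LD2_c44 LD3_c53) (LK LD1_c3 LD2_c51 LD3_c38) Lrfl Lrfl
theorem f811133 : Led Lsl_ft (LP (LK LD1_c13 LD2_c21 LD3_c2)) = (LP (LK LD1_c7 LD2_c44 LD3_c53)) :=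
  Lgr Lrot54 (Lpr_df (f811124 IH) (Lpe (f530346 IH) (Lpe (f65133 IH) (Lpn (LP (LK LD1_c7 LD2_c44 LD3_c53))))))
theorem f63536 : Led Lsl_at (LP (LK LD1_c13 LD2_c20 LD3_c58)) = (LP (LK LD1_c14 LD2_c30 LD3_c0)) :=
  Lgr Lrot100 (Lpr_af (f63531 IH) (Lpn (LP (LK LD1_c14 LD2_c30 LD3_c0))))
theorem f18330 : Led Lsl_ft (LP (LK LD1_c7 LD2_c2 LD3_c24)) = (LP (LK LD1_c13 LD2_c20 LD3_c58)) :=
  Lre_f IH (LK LD1_c7 LD2_c2 LD3_c24) (LK LD1_c13 LD2_c20 LD3_c58) Lrfl Lrfl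
theorem f63560 : Led Lsl_gt (LP (LK LD1_c13 LD2_c21 LD3_c2)) = (LP (LK LD1_c14 LD2_c30 LD3_c0)) :=
  Lgr Lrot46 (Lpe (f18331 IH) (Lpr_ft (f18330 IH) (Lpr_at (f63536 IH) (Lpn (LP (LK LD1_c14 LD2_c30 LD3_c0))))))
theorem f811141 : Led Lsl_af (LP (LK LD1_c13 LD2_c21 LD3_c3)) = (LP (LK LD1_c7 LD2_c44 LD3_c53)) :=
  Lgr Lrot31 (Lpr_gf (K3.f63580 IH) (Lpe (f63560 IH) (Lpr_ft (f811133 IH) (Lpn (LP (LK LD1_c7 LD2_c44 LD3_c53))))))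
theorem f63745 : Led Lsl_dt (LP (LK LD1_c13 LD2_c21 LD3_c3)) = (LP (LK LD1_c7 LD2_c36 LD3_c38)) :=
  Lgr Lrot42 (Lpr_df (K3.f63738 IH) (Lpn (LP (LK LD1_c7 LD2_c36 LD3_c38))))
theorem f811151 : v22453 = (LP (LK LD1_c3 LD2_c51 LD3_c38)) :=
  (Llr Lrot51 (Lpe (f807014 IH) (Lpe (f63745 IH) (Lpr_af (f811141 IH) (Lpe (K1.f65128 IH) (Lpn (LP (LK LD1_c3 LD2_c51 LD3_c38)))))))).symm
theorem f811155 : v7440 = (LP (LK LD1_c1 LD2_c52 LD3_c34)) :=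
  Lefun (Lecon (Lfl_ef (f807016 IH)) (f811151 IH)) (K1.f65127 IH)
theorem f811162 : (LP (LK LD1_c3 LD2_c47 LD3_c48)) = K61.v2680 :=
  Lefun (Lecon (Lfl_ff (f665577 IH)) (f811155 IH)) (K61.f530338 IH)
theorem f811188 : v7586 = (LP (LK LD1_c7 LD2_c36 LD3_c42)) :=
  Lefun (Lecon (f667083 IH) (f811162 IH).symm) (f665579 IH)
theorem f811205 : v22860 = (LP (LK LD1_c14 LD2_c21 LD3_c1)) :=
  Lefun (Lecon (f811110 IH) (f811188 IH)) (f665580 IH)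
theorem f811101 : Led Lsl_af (LP (LK LD1_c7 LD2_c45 LD3_c3)) = v22860 :=
  Lgr Lrot0 (Lpr_at (f811100 IH) (Lpn v22860))
theorem f811220 : Led Lsl_gt (LP (LK LD1_c14 LD2_c20 LD3_c61)) = (LP (LK LD1_c7 LD2_c45 LD3_c3)) :=
  Lgr Lrot46 (Lpe (f65047 IH) (Lpr_ft (f665580 IH) (Lpq (f811205 IH) (Lpe (f811101 IH) (Lpn (LP (LK LD1_c7 LD2_c45 LD3_c3)))))))
theorem f117367 : Led Lsl_af (LP (LK LD1_c7 LD2_c41 LD3_c42)) = (LP (LK LD1_c14 LD2_c18 LD3_c51)) :=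
  Lgr Lrot0 (Lpr_at (K4.f117363 IH) (Lpn (LP (LK LD1_c14 LD2_c18 LD3_c51))))
theorem f440801 : Led Lsl_ft (LP (LK LD1_c23 LD2_c56 LD3_c50)) = (LP (LK LD1_c14 LD2_c18 LD3_c51)) :=
  Lre_f IH (LK LD1_c23 LD2_c56 LD3_c50) (LK LD1_c14 LD2_c18 LD3_c51) Lrfl Lrfl
theorem f440819 : Led Lsl_gf (LP (LK LD1_c14 LD2_c30 LD3_c16)) = (LP (LK LD1_c23 LD2_c56 LD3_c50)) :=
  Lgr Lrot47 (Lpr_gt (K60.f87468 IH) (Lpr_af (f117367 IH) (Lpe (f440801 IH) (Lpn (LP (LK LD1_c23 LD2_c56 LD3_c50))))))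
theorem f711893 : Led Lsl_cf (LP (LK LD1_c14 LD2_c14 LD3_c12)) = (LP (LK LD1_c14 LD2_c30 LD3_c16)) :=
  Lgr Lrot11 (Lpr_ct (K60.f711889 IH) (Lpn (LP (LK LD1_c14 LD2_c30 LD3_c16))))
theorem f93612 : Led Lsl_dt (LP (LK LD1_c14 LD2_c14 LD3_c12)) = (LP (LK LD1_c7 LD2_c32 LD3_c60)) :=
  Lre_d IH (LK LD1_c14 LD2_c14 LD3_c12) (LK LD1_c7 LD2_c32 LD3_c60) Lrfl Lrfl
theorem f93619 : Led Lsl_ct (LP (LK LD1_c14 LD2_c14 LD3_c7)) = (LP (LK LD1_c7 LD2_c32 LD3_c60)) :=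
  Lre_c IH (LK LD1_c14 LD2_c14 LD3_c7) (LK LD1_c7 LD2_c32 LD3_c60) Lrfl Lrfl
theorem f811115 : Led Lsl_ct (LP (LK LD1_c7 LD2_c45 LD3_c3)) = (LP (LK LD1_c14 LD2_c37 LD3_c5)) :=
  Lre_c IH (LK LD1_c7 LD2_c45 LD3_c3) (LK LD1_c14 LD2_c37 LD3_c5) Lrfl Lrfl
theorem f811222 : Led Lsl_gf (LP (LK LD1_c14 LD2_c14 LD3_c7)) = (LP (LK LD1_c14 LD2_c37 LD3_c5)) :=
  Lgr Lrot104 (Lpr_ct (f93619 IH) (Lpe (f93612 IH) (Lpr_cf (f711893 IH) (Lpr_gf (f440819 IH) (Lpe (K4.f96699 IH) (Lpe (f117387 IH) (Lpr_df (f807005 IH) (Lpr_gt (f811220 IH) (Lpr_ct (f811115 IH) (Lpn (LP (LK LD1_c14 LD2_c37 LD3_c5))))))))))))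
theorem f64852 : Led Lsl_gt (LP (LK LD1_c7 LD2_c38 LD3_c28)) = (LP (LK LD1_c14 LD2_c23 LD3_c56)) :=
  Lre_g IH (LK LD1_c7 LD2_c38 LD3_c28) (LK LD1_c14 LD2_c23 LD3_c56) Lrfl Lrfl
theorem f88176 : Led Lsl_gt (LP (LK LD1_c7 LD2_c32 LD3_c54)) = (LP (LK LD1_c3 LD2_c46 LD3_c0)) :=
  Lre_g IH (LK LD1_c7 LD2_c32 LD3_c54) (LK LD1_c3 LD2_c46 LD3_c0) Lrfl Lrfl
theorem f88301 : Led Lsl_et (LP (LK LD1_c14 LD2_c13 LD3_c58)) = (LP (LK LD1_c7 LD2_c32 LD3_c54)) :=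
  Lre_e IH (LK LD1_c14 LD2_c13 LD3_c58) (LK LD1_c7 LD2_c32 LD3_c54) Lrfl Lrfl
theorem f88302 : Led Lsl_df (LP (LK LD1_c14 LD2_c23 LD3_c56)) = (LP (LK LD1_c14 LD2_c13 LD3_c58)) :=
  Lgr Lrot132 (Lpe (f64852 IH) (Lpe (f64851 IH) (Lpe (K52.f64850 IH) (Lpe (K2.f64894 IH) (Lpr_dt (K1.f17455 IH) (Lpe (K3.f62680 IH) (Lpr_df (K3.f88158 IH) (Lpr_et (K5.f88160 IH) (Lpe (f88176 IH) (Lpe (f88301 IH) (Lpn (LP (LK LD1_c14 LD2_c13 LD3_c58)))))))))))))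
theorem f521580 : Led Lsl_ft (LP (LK LD1_c7 LD2_c38 LD3_c55)) = (LP (LK LD1_c14 LD2_c25 LD3_c1)) :=
  Lre_f IH (LK LD1_c7 LD2_c38 LD3_c55) (LK LD1_c14 LD2_c25 LD3_c1) Lrfl Lrfl
theorem f521581 : Led Lsl_et (LP (LK LD1_c14 LD2_c25 LD3_c1)) = (LP (LK LD1_c23 LD2_c55 LD3_c55)) :=
  Lgr Lrot69 (Lpe (f521580 IH) (Lpe (K61.f521560 IH) (Lpr_ff (K48.f521574 IH) (Lpe (K61.f89190 IH) (Lpe (K61.f484385 IH) (Lpn (LP (LK LD1_c23 LD2_c55 LD3_c55))))))))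
theorem f521498 : Led Lsl_af (LP (LK LD1_c14 LD2_c25 LD3_c9)) = (LP (LK LD1_c23 LD2_c55 LD3_c55)) :=
  Lgr Lrot0 (Lpr_at (K61.f521494 IH) (Lpn (LP (LK LD1_c23 LD2_c55 LD3_c55))))
theorem f520817 : Led Lsl_et (LP (LK LD1_c14 LD2_c25 LD3_c9)) = (LP (LK LD1_c23 LD2_c55 LD3_c50)) :=
  Lgr Lrot71 (Lpr_df (K34.f92795 IH) (Lpr_ef (K34.f520727 IH) (Lpr_df (K33.f460631 IH) (Lpr_ef (K34.f520809 IH) (Lpr_df (K34.f477770 IH) (Lpn (LP (LK LD1_c23 LD2_c55 LD3_c50))))))))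
theorem f521583 : Led Lsl_af (LP (LK LD1_c14 LD2_c25 LD3_c1)) = (LP (LK LD1_c23 LD2_c55 LD3_c50)) :=
  Lgr Lrot50 (Lpr_et (f521581 IH) (Lpe (f521498 IH) (Lpr_et (f520817 IH) (Lpn (LP (LK LD1_c23 LD2_c55 LD3_c50))))))
theorem f521689 : Led Lsl_dt (LP (LK LD1_c14 LD2_c25 LD3_c1)) = (LP (LK LD1_c24 LD2_c0 LD3_c6)) :=
  Lgr Lrot44 (Lpr_af (f521583 IH) (Lpe (K34.f477754 IH) (Lpe (K34.f520811 IH) (Lpn (LP (LK LD1_c24 LD2_c0 LD3_c6))))))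
theorem f521697 : Led Lsl_df (LP (LK LD1_c7 LD2_c38 LD3_c55)) = (LP (LK LD1_c14 LD2_c21 LD3_c61)) :=
  Lgr Lrot78 (Lpr_ft (f521580 IH) (Lpr_dt (f521689 IH) (Lpr_ft (K34.f468424 IH) (Lpn (LP (LK LD1_c14 LD2_c21 LD3_c61))))))
theorem f521704 : Led Lsl_dt (LP (LK LD1_c7 LD2_c38 LD3_c55)) = (LP (LK LD1_c14 LD2_c21 LD3_c61)) :=
  Lgr Lrot42 (Lpr_df (f521697 IH) (Lpn (LP (LK LD1_c14 LD2_c21 LD3_c61))))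
theorem f521570 : Led Lsl_et (LP (LK LD1_c7 LD2_c38 LD3_c55)) = (LP (LK LD1_c3 LD2_c48 LD3_c52)) :=
  Lre_e IH (LK LD1_c7 LD2_c38 LD3_c55) (LK LD1_c3 LD2_c48 LD3_c52) Lrfl Lrfl
theorem f92806 : Led Lsl_et (LP (LK LD1_c3 LD2_c48 LD3_c44)) = (LP (LK LD1_c1 LD2_c51 LD3_c25)) :=
  Lre_e IH (LK LD1_c3 LD2_c48 LD3_c44) (LK LD1_c1 LD2_c51 LD3_c25) Lrfl Lrfl
theorem f64898 : Led Lsl_dt (LP (LK LD1_c7 LD2_c38 LD3_c32)) = (LP (LK LD1_c3 LD2_c48 LD3_c43)) :=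
  Lre_d IH (LK LD1_c7 LD2_c38 LD3_c32) (LK LD1_c3 LD2_c48 LD3_c43) Lrfl Lrfl
theorem f88177 : Led Lsl_dt (LP (LK LD1_c14 LD2_c13 LD3_c57)) = (LP (LK LD1_c7 LD2_c32 LD3_c54)) :=
  Lre_d IH (LK LD1_c14 LD2_c13 LD3_c57) (LK LD1_c7 LD2_c32 LD3_c54) Lrfl Lrfl
theorem f88178 : Led Lsl_et (LP (LK LD1_c14 LD2_c13 LD3_c57)) = (LP (LK LD1_c23 LD2_c49 LD3_c33)) :=
  Lre_e IH (LK LD1_c14 LD2_c13 LD3_c57) (LK LD1_c23 LD2_c49 LD3_c33) Lrfl Lrfl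
theorem f468423 : Led Lsl_et (LP (LK LD1_c7 LD2_c37 LD3_c13)) = (LP (LK LD1_c14 LD2_c21 LD3_c61)) :=
  Lre_e IH (LK LD1_c7 LD2_c37 LD3_c13) (LK LD1_c14 LD2_c21 LD3_c61) Lrfl Lrfl
theorem f477541 : Led Lsl_gf (LP (LK LD1_c23 LD2_c49 LD3_c33)) = (LP (LK LD1_c14 LD2_c21 LD3_c61)) :=
  Lgr Lrot141 (Lpe (f88178 IH) (Lpr_dt (f88177 IH) (Lpr_gt (f88176 IH) (Lpe (K6.f88175 IH) (Lpe (K5.f88162 IH) (Lpe (K5.f87974 IH) (Lpr_dt (K5.f87976 IH) (Lpr_gt (K29.f87977 IH) (Lpr_df (K29.f477519 IH) (Lpr_et (f468423 IH) (Lpn (LP (LK LD1_c14 LD2_c21 LD3_c61)))))))))))))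
theorem f88323 : Led Lsl_et (LP (LK LD1_c14 LD2_c23 LD3_c56)) = (LP (LK LD1_c24 LD2_c2 LD3_c33)) :=
  Lre_e IH (LK LD1_c14 LD2_c23 LD3_c56) (LK LD1_c24 LD2_c2 LD3_c33) Lrfl Lrfl
theorem f88324 : Led Lsl_et (LP (LK LD1_c7 LD2_c32 LD3_c54)) = (LP (LK LD1_c14 LD2_c13 LD3_c58)) :=
  Lre_e IH (LK LD1_c7 LD2_c32 LD3_c54) (LK LD1_c14 LD2_c13 LD3_c58) Lrfl Lrfl
theorem f88325 : Led Lsl_et (LP (LK LD1_c23 LD2_c49 LD3_c33)) = (LP (LK LD1_c14 LD2_c13 LD3_c57)) :=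
  Lre_e IH (LK LD1_c23 LD2_c49 LD3_c33) (LK LD1_c14 LD2_c13 LD3_c57) Lrfl Lrfl
theorem f88326 : Led Lsl_dt (LP (LK LD1_c24 LD2_c2 LD3_c33)) = (LP (LK LD1_c23 LD2_c49 LD3_c33)) :=
  Lgr Lrot77 (Lpe (f88323 IH) (Lpr_df (f88302 IH) (Lpe (f88324 IH) (Lpe (f88177 IH) (Lpe (f88325 IH) (Lpn (LP (LK LD1_c23 LD2_c49 LD3_c33))))))))
theorem f88335 : Led Lsl_et (LP (LK LD1_c24 LD2_c2 LD3_c33)) = (LP (LK LD1_c14 LD2_c23 LD3_c56)) :=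
  Lre_e IH (LK LD1_c24 LD2_c2 LD3_c33) (LK LD1_c14 LD2_c23 LD3_c56) Lrfl Lrfl
theorem f521729 : Led Lsl_gf (LP (LK LD1_c7 LD2_c38 LD3_c32)) = (LP (LK LD1_c14 LD2_c23 LD3_c56)) :=
  Lgr Lrot138 (Lpr_dt (f64898 IH) (Lpr_gt (f64872 IH) (Lpe (K4.f64855 IH) (Lpr_et (f92806 IH) (Lpr_gt (K48.f460141 IH) (Lpe (f521570 IH) (Lpr_dt (f521704 IH) (Lpe (f477541 IH) (Lpe (f88326 IH) (Lpr_et (f88335 IH) (Lpn (LP (LK LD1_c14 LD2_c23 LD3_c56)))))))))))))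
theorem f807717 : Led Lsl_dt v7468 = v22538 :=
  Lgr Lrot42 (Lpr_df (f807716 IH) (Lpn v22538))
def v22358 : LQ := Led Lsl_ft (LP (LK LD1_c7 LD2_c34 LD3_c57))
theorem f805778 : Led Lsl_ft (LP (LK LD1_c7 LD2_c34 LD3_c57)) = v22358 :=
  Lrfl
theorem f805781 : Led Lsl_ff (LP (LK LD1_c7 LD2_c34 LD3_c57)) = v22358 :=
  Lgr Lrot3 (Lpr_ft (f805778 IH) (Lpn v22358))
def v7469 : LQ := Led Lsl_ft (LP (LK LD1_c3 LD2_c48 LD3_c42))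
theorem f665741 : Led Lsl_ft (LP (LK LD1_c3 LD2_c48 LD3_c42)) = v7469 :=
  Lrfl
theorem f665742 : Led Lsl_af (LP (LK LD1_c3 LD2_c48 LD3_c43)) = v7469 :=
  Lgr Lrot45 (Lpr_ft (f665736 IH) (Lpe (f665732 IH) (Lpr_ft (f665741 IH) (Lpn v7469))))
def v22357 : LQ := Led Lsl_at (LP (LK LD1_c7 LD2_c34 LD3_c57))
theorem f805772 : Led Lsl_at (LP (LK LD1_c7 LD2_c34 LD3_c57)) = v22357 :=
  Lrfl
theorem f805774 : Led Lsl_cf K60.v19078 = v22357 :=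
  Lgr Lrot1 (Lpe (K60.f777706 IH) (Lpe (K52.f712027 IH) (Lpr_at (f805772 IH) (Lpn v22357))))
theorem f777716 : Led Lsl_ff (LP (LK LD1_c6 LD2_c37 LD3_c48)) = K60.v19078 :=
  Lgr Lrot3 (Lpr_ft (K60.f777707 IH) (Lpn K60.v19078))
theorem f711883 : Led Lsl_cf (LP (LK LD1_c7 LD2_c34 LD3_c58)) = (LP (LK LD1_c6 LD2_c37 LD3_c48)) :=
  Lgr Lrot11 (Lpr_ct (K52.f711880 IH) (Lpn (LP (LK LD1_c6 LD2_c37 LD3_c48))))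
theorem f805776 : Led Lsl_ft (LP (LK LD1_c7 LD2_c34 LD3_c58)) = v22357 :=
  Lgr Lrot4 (Lpr_cf (f711883 IH) (Lpr_ff (f777716 IH) (Lpr_cf (f805774 IH) (Lpn v22357))))
theorem f805777 : Led Lsl_ff (LP (LK LD1_c7 LD2_c34 LD3_c58)) = v22357 :=
  Lgr Lrot3 (Lpr_ft (f805776 IH) (Lpn v22357))
theorem f805782 : Led Lsl_at (LP (LK LD1_c7 LD2_c34 LD3_c58)) = v22358 :=
  Lgr Lrot66 (Lpr_ff (f805777 IH) (Lpe (f805772 IH) (Lpr_ff (f805781 IH) (Lpn v22358))))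
def v22535 : LQ := Led Lsl_ft (LP (LK LD1_c7 LD2_c38 LD3_c26))
theorem f807532 : Led Lsl_ft (LP (LK LD1_c7 LD2_c38 LD3_c26)) = v22535 :=
  Lrfl
theorem f665734 : Led Lsl_bt (LP (LK LD1_c3 LD2_c48 LD3_c42)) = (LP (LK LD1_c7 LD2_c38 LD3_c26)) :=
  Lre_b IH (LK LD1_c3 LD2_c48 LD3_c42) (LK LD1_c7 LD2_c38 LD3_c26) Lrfl Lrfl
theorem f665743 : Led Lsl_ff (LP (LK LD1_c3 LD2_c48 LD3_c42)) = v7469 :=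
  Lgr Lrot3 (Lpr_ft (f665741 IH) (Lpn v7469))
theorem f807533 : Led Lsl_bf v7469 = v22535 :=
  Lgr Lrot61 (Lpe (f665743 IH) (Lpr_bt (f665734 IH) (Lpr_ft (f807532 IH) (Lpn v22535))))
theorem f807775 : Led Lsl_bt (LP (LK LD1_c14 LD2_c23 LD3_c50)) = (LP (LK LD1_c13 LD2_c9 LD3_c3)) :=
  Lgr Lrot127 (Lpr_bf (f807773 IH) (Lpn (LP (LK LD1_c13 LD2_c9 LD3_c3))))
theorem f709239 : Led Lsl_ct (LP (LK LD1_c14 LD2_c23 LD3_c50)) = (LP (LK LD1_c24 LD2_c2 LD3_c20)) :=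
  Lre_c IH (LK LD1_c14 LD2_c23 LD3_c50) (LK LD1_c24 LD2_c2 LD3_c20) Lrfl Lrfl
theorem f807787 : Led Lsl_gf (LP (LK LD1_c24 LD2_c2 LD3_c20)) = (LP (LK LD1_c17 LD2_c17 LD3_c9)) :=
  Lgr Lrot129 (Lpe (f709239 IH) (Lpr_bt (f807775 IH) (Lpe (f807636 IH) (Lpr_bf (f807563 IH) (Lpe (f427275 IH) (Lpr_gt (K56.f132415 IH) (Lpq (K56.f753031 IH) (Lpr_cf (K57.f753057 IH) (Lpe (f753069 IH) (Lpr_gt (f127242 IH) (Lpr_ct (K51.f127232 IH) (Lpn (LP (LK LD1_c17 LD2_c17 LD3_c9))))))))))))))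
theorem f438635 : Led Lsl_bt (LP (LK LD1_c21 LD2_c18 LD3_c53)) = (LP (LK LD1_c12 LD2_c13 LD3_c0)) :=
  Lre_b IH (LK LD1_c21 LD2_c18 LD3_c53) (LK LD1_c12 LD2_c13 LD3_c0) Lrfl Lrfl
theorem f440251 : Led Lsl_bt (LP (LK LD1_c9 LD2_c21 LD3_c10)) = (LP (LK LD1_c17 LD2_c17 LD3_c9)) :=
  Lre_b IH (LK LD1_c9 LD2_c21 LD3_c10) (LK LD1_c17 LD2_c17 LD3_c9) Lrfl Lrfl
theorem f709033 : Led Lsl_ff (LP (LK LD1_c21 LD2_c18 LD3_c53)) = (LP (LK LD1_c17 LD2_c17 LD3_c9)) :=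
  Lgr Lrot25 (Lpr_bt (f438635 IH) (Lpr_ft (K51.f709031 IH) (Lpr_bt (f440251 IH) (Lpn (LP (LK LD1_c17 LD2_c17 LD3_c9))))))
theorem f807791 : Led Lsl_gt (LP (LK LD1_c24 LD2_c2 LD3_c20)) = (LP (LK LD1_c24 LD2_c14 LD3_c25)) :=
  Lgr Lrot46 (Lpr_gf (f807787 IH) (Lpe (f709033 IH) (Lpr_at (K52.f709132 IH) (Lpn (LP (LK LD1_c24 LD2_c14 LD3_c25))))))
theorem f440252 : Led Lsl_gt (LP (LK LD1_c24 LD2_c14 LD3_c24)) = (LP (LK LD1_c14 LD2_c32 LD3_c14)) :=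
  Lre_g IH (LK LD1_c24 LD2_c14 LD3_c24) (LK LD1_c14 LD2_c32 LD3_c14) Lrfl Lrfl
theorem f709202 : Led Lsl_at (LP (LK LD1_c24 LD2_c2 LD3_c20)) = (LP (LK LD1_c14 LD2_c23 LD3_c51)) :=
  Lre_a IH (LK LD1_c24 LD2_c2 LD3_c20) (LK LD1_c14 LD2_c23 LD3_c51) Lrfl Lrfl
theorem f709203 : Led Lsl_ft (LP (LK LD1_c24 LD2_c14 LD3_c24)) = (LP (LK LD1_c24 LD2_c2 LD3_c20)) :=
  Lgr Lrot2 (Lpr_gt (f440252 IH) (Lpr_gt (K52.f709200 IH) (Lpe (f709202 IH) (Lpn (LP (LK LD1_c24 LD2_c2 LD3_c20))))))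
theorem f709236 : Led Lsl_ff (LP (LK LD1_c24 LD2_c14 LD3_c24)) = (LP (LK LD1_c24 LD2_c2 LD3_c20)) :=
  Lgr Lrot3 (Lpr_ft (f709203 IH) (Lpn (LP (LK LD1_c24 LD2_c2 LD3_c20))))
theorem f807793 : Led Lsl_at (LP (LK LD1_c24 LD2_c14 LD3_c24)) = (LP (LK LD1_c23 LD2_c55 LD3_c35)) :=
  Lgr Lrot26 (Lpr_ff (f709236 IH) (Lpr_gt (f807791 IH) (Lpr_gt (K51.f703102 IH) (Lpn (LP (LK LD1_c23 LD2_c55 LD3_c35))))))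
theorem f703106 : Led Lsl_ct (LP (LK LD1_c23 LD2_c55 LD3_c35)) = (LP (LK LD1_c14 LD2_c17 LD3_c52)) :=
  Lre_c IH (LK LD1_c23 LD2_c55 LD3_c35) (LK LD1_c14 LD2_c17 LD3_c52) Lrfl Lrfl
theorem f805785 : Led Lsl_at (LP (LK LD1_c14 LD2_c17 LD3_c52)) = (LP (LK LD1_c23 LD2_c55 LD3_c34)) :=
  Lre_a IH (LK LD1_c14 LD2_c17 LD3_c52) (LK LD1_c23 LD2_c55 LD3_c34) Lrfl Lrfl
theorem f807798 : Led Lsl_cf (LP (LK LD1_c24 LD2_c14 LD3_c24)) = (LP (LK LD1_c23 LD2_c55 LD3_c34)) :=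
  Lgr Lrot1 (Lpr_at (f807793 IH) (Lpr_ct (f703106 IH) (Lpr_at (f805785 IH) (Lpn (LP (LK LD1_c23 LD2_c55 LD3_c34))))))
theorem f709235 : Led Lsl_ct (LP (LK LD1_c24 LD2_c2 LD3_c20)) = (LP (LK LD1_c14 LD2_c23 LD3_c50)) :=
  Lre_c IH (LK LD1_c24 LD2_c2 LD3_c20) (LK LD1_c14 LD2_c23 LD3_c50) Lrfl Lrfl
theorem f807803 : Led Lsl_ft (LP (LK LD1_c14 LD2_c23 LD3_c50)) = (LP (LK LD1_c23 LD2_c55 LD3_c34)) :=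
  Lgr Lrot4 (Lpe (f709235 IH) (Lpe (f709203 IH) (Lpr_cf (f807798 IH) (Lpn (LP (LK LD1_c23 LD2_c55 LD3_c34))))))
theorem f665735 : Led Lsl_at (LP (LK LD1_c7 LD2_c38 LD3_c26)) = (LP (LK LD1_c14 LD2_c23 LD3_c50)) :=
  Lre_a IH (LK LD1_c7 LD2_c38 LD3_c26) (LK LD1_c14 LD2_c23 LD3_c50) Lrfl Lrfl
theorem f807534 : Led Lsl_ff (LP (LK LD1_c7 LD2_c38 LD3_c26)) = v22535 :=
  Lgr Lrot3 (Lpr_ft (f807532 IH) (Lpn v22535))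
theorem f805784 : Led Lsl_at (LP (LK LD1_c23 LD2_c55 LD3_c34)) = (LP (LK LD1_c14 LD2_c17 LD3_c52)) :=
  Lre_a IH (LK LD1_c23 LD2_c55 LD3_c34) (LK LD1_c14 LD2_c17 LD3_c52) Lrfl Lrfl
theorem f807814 : v22535 = (LP (LK LD1_c14 LD2_c17 LD3_c52)) :=
  (Llr Lrot30 (Lpe (f807534 IH) (Lpr_at (f665735 IH) (Lpr_ft (f807803 IH) (Lpr_at (f805784 IH) (Lpn (LP (LK LD1_c14 LD2_c17 LD3_c52)))))))).symm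
theorem f807819 : v7469 = (LP (LK LD1_c7 LD2_c34 LD3_c58)) :=
  Lefun (Lecon (Lfl_bf (f807533 IH)) (f807814 IH)) (K51.f87781 IH)
theorem f807820 : (LP (LK LD1_c3 LD2_c48 LD3_c43)) = v22358 :=
  Lefun (Lecon (Lfl_af (f665742 IH)) (f807819 IH)) (f805782 IH)
theorem f807837 : (LP (LK LD1_c7 LD2_c34 LD3_c57)) = v7468 :=
  Lefun (Lecon (Lfl_ff (f805781 IH)) (f807820 IH).symm) (f665736 IH)
theorem f807855 : v22538 = (LP (LK LD1_c14 LD2_c17 LD3_c50)) :=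
  Lefun (Lecon (f807717 IH) (f807837 IH).symm) (K60.f87767 IH)
theorem f442309 : Led Lsl_ct (LP (LK LD1_c14 LD2_c24 LD3_c8)) = (LP (LK LD1_c7 LD2_c38 LD3_c32)) :=
  Lre_c IH (LK LD1_c14 LD2_c24 LD3_c8) (LK LD1_c7 LD2_c38 LD3_c32) Lrfl Lrfl
theorem f93611 : Led Lsl_ct (LP (LK LD1_c14 LD2_c17 LD3_c50)) = (LP (LK LD1_c23 LD2_c55 LD3_c31)) :=
  Lre_c IH (LK LD1_c14 LD2_c17 LD3_c50) (LK LD1_c23 LD2_c55 LD3_c31) Lrfl Lrfl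
theorem f807968 : Led Lsl_ff (LP (LK LD1_c14 LD2_c24 LD3_c8)) = (LP (LK LD1_c23 LD2_c55 LD3_c31)) :=
  Lgr Lrot23 (Lpr_ct (f442309 IH) (Lpr_ft (f807718 IH) (Lpqs (f807855 IH) (Lpr_ct (f93611 IH) (Lpn (LP (LK LD1_c23 LD2_c55 LD3_c31)))))))
theorem f711908 : Led Lsl_dt (LP (LK LD1_c23 LD2_c55 LD3_c31)) = (LP (LK LD1_c24 LD2_c11 LD3_c25)) :=
  Lgr Lrot42 (Lpr_df (K60.f711899 IH) (Lpn (LP (LK LD1_c24 LD2_c11 LD3_c25))))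
theorem f777710 : Led Lsl_ct (LP (LK LD1_c24 LD2_c11 LD3_c25)) = (LP (LK LD1_c30 LD2_c9 LD3_c15)) :=
  Lgr Lrot59 (Lpr_cf (K60.f777708 IH) (Lpn (LP (LK LD1_c30 LD2_c9 LD3_c15))))
theorem f440788 : Led Lsl_dt (LP (LK LD1_c30 LD2_c9 LD3_c15)) = (LP (LK LD1_c21 LD2_c47 LD3_c51)) :=
  Lre_d IH (LK LD1_c30 LD2_c9 LD3_c15) (LK LD1_c21 LD2_c47 LD3_c51) Lrfl Lrfl
theorem f440789 : Led Lsl_ct (LP (LK LD1_c21 LD2_c47 LD3_c51)) = (LP (LK LD1_c12 LD2_c41 LD3_c20)) :=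
  Lre_c IH (LK LD1_c21 LD2_c47 LD3_c51) (LK LD1_c12 LD2_c41 LD3_c20) Lrfl Lrfl
theorem f87469 : Led Lsl_dt (LP (LK LD1_c12 LD2_c41 LD3_c20)) = (LP (LK LD1_c6 LD2_c37 LD3_c48)) :=
  Lre_d IH (LK LD1_c12 LD2_c41 LD3_c20) (LK LD1_c6 LD2_c37 LD3_c48) Lrfl Lrfl
theorem f87778 : Led Lsl_dt (LP (LK LD1_c7 LD2_c34 LD3_c58)) = (LP (LK LD1_c14 LD2_c17 LD3_c53)) :=
  Lre_d IH (LK LD1_c7 LD2_c34 LD3_c58) (LK LD1_c14 LD2_c17 LD3_c53) Lrfl Lrfl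
theorem f87779 : Led Lsl_ct (LP (LK LD1_c14 LD2_c17 LD3_c53)) = (LP (LK LD1_c23 LD2_c55 LD3_c38)) :=
  Lre_c IH (LK LD1_c14 LD2_c17 LD3_c53) (LK LD1_c23 LD2_c55 LD3_c38) Lrfl Lrfl
theorem f807976 : Led Lsl_at (LP (LK LD1_c14 LD2_c24 LD3_c8)) = (LP (LK LD1_c23 LD2_c55 LD3_c38)) :=
  Lgr Lrot33 (Lpr_ff (f807968 IH) (Lpr_dt (f711908 IH) (Lpr_ct (f777710 IH) (Lpr_dt (f440788 IH) (Lpr_ct (f440789 IH) (Lpr_dt (f87469 IH) (Lpe (f711883 IH) (Lpr_dt (f87778 IH) (Lpr_ct (f87779 IH) (Lpn (LP (LK LD1_c23 LD2_c55 LD3_c38))))))))))))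
theorem f442310 : Led Lsl_dt (LP (LK LD1_c24 LD2_c2 LD3_c59)) = (LP (LK LD1_c14 LD2_c24 LD3_c8)) :=
  Lre_d IH (LK LD1_c24 LD2_c2 LD3_c59) (LK LD1_c14 LD2_c24 LD3_c8) Lrfl Lrfl
theorem f87780 : Led Lsl_ct (LP (LK LD1_c23 LD2_c55 LD3_c38)) = (LP (LK LD1_c14 LD2_c17 LD3_c53)) :=
  Lre_c IH (LK LD1_c23 LD2_c55 LD3_c38) (LK LD1_c14 LD2_c17 LD3_c53) Lrfl Lrfl
theorem f117399 : Led Lsl_af (LP (LK LD1_c3 LD2_c17 LD3_c13)) = (LP (LK LD1_c6 LD2_c35 LD3_c28)) :=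
  Lgr Lrot68 (Lpr_ct (K60.f87392 IH) (Lpr_at (K4.f117393 IH) (Lpr_ct (K4.f96670 IH) (Lpn (LP (LK LD1_c6 LD2_c35 LD3_c28))))))
theorem f440785 : Led Lsl_gf (LP (LK LD1_c6 LD2_c37 LD3_c48)) = (LP (LK LD1_c12 LD2_c36 LD3_c59)) :=
  Lgr Lrot47 (Lpr_gt (K52.f66098 IH) (Lpr_af (f117399 IH) (Lpe (K4.f96706 IH) (Lpn (LP (LK LD1_c12 LD2_c36 LD3_c59))))))
theorem f65734 : Led Lsl_gt (LP (LK LD1_c7 LD2_c44 LD3_c19)) = (LP (LK LD1_c3 LD2_c51 LD3_c25)) :=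
  Lre_g IH (LK LD1_c7 LD2_c44 LD3_c19) (LK LD1_c3 LD2_c51 LD3_c25) Lrfl Lrfl
theorem f130635 : Led Lsl_gt (LP (LK LD1_c13 LD2_c19 LD3_c32)) = (LP (LK LD1_c7 LD2_c44 LD3_c19)) :=
  Lgr Lrot5 (Lpr_ft (K5.f96283 IH) (Lpr_at (K5.f130627 IH) (Lpe (f65734 IH) (Lpn (LP (LK LD1_c7 LD2_c44 LD3_c19))))))
theorem f65735 : Led Lsl_dt (LP (LK LD1_c7 LD2_c41 LD3_c36)) = (LP (LK LD1_c7 LD2_c44 LD3_c19)) :=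
  Lre_d IH (LK LD1_c7 LD2_c41 LD3_c36) (LK LD1_c7 LD2_c44 LD3_c19) Lrfl Lrfl
theorem f130641 : Led Lsl_et (LP (LK LD1_c7 LD2_c41 LD3_c36)) = (LP (LK LD1_c3 LD2_c50 LD3_c15)) :=
  Lre_e IH (LK LD1_c7 LD2_c41 LD3_c36) (LK LD1_c3 LD2_c50 LD3_c15) Lrfl Lrfl
theorem f439891 : Led Lsl_gt (LP (LK LD1_c3 LD2_c50 LD3_c15)) = (LP (LK LD1_c7 LD2_c35 LD3_c32)) :=
  Lgr Lrot131 (Lpe (f130641 IH) (Lpr_dt (f65735 IH) (Lpe (f130635 IH) (Lpe (K61.f96274 IH) (Lpr_gf (K52.f439888 IH) (Lpe (K52.f65792 IH) (Lpr_dt (K52.f65793 IH) (Lpr_gf (K52.f110135 IH) (Lpe (K52.f66243 IH) (Lpr_et (K4.f117431 IH) (Lpn (LP (LK LD1_c7 LD2_c35 LD3_c32)))))))))))))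
theorem f439902 : Led Lsl_dt (LP (LK LD1_c7 LD2_c41 LD3_c35)) = (LP (LK LD1_c3 LD2_c50 LD3_c15)) :=
  Lre_d IH (LK LD1_c7 LD2_c41 LD3_c35) (LK LD1_c3 LD2_c50 LD3_c15) Lrfl Lrfl
theorem f439904 : Led Lsl_ct (LP (LK LD1_c7 LD2_c45 LD3_c2)) = (LP (LK LD1_c14 LD2_c37 LD3_c11)) :=
  Lre_c IH (LK LD1_c7 LD2_c45 LD3_c2) (LK LD1_c14 LD2_c37 LD3_c11) Lrfl Lrfl
theorem f711947 : Led Lsl_gf (LP (LK LD1_c23 LD2_c55 LD3_c38)) = (LP (LK LD1_c14 LD2_c37 LD3_c11)) :=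
  Lgr Lrot104 (Lpr_ct (f87780 IH) (Lpe (f87778 IH) (Lpr_cf (f711883 IH) (Lpr_gf (f440785 IH) (Lpe (K4.f96696 IH) (Lpe (f439891 IH) (Lpe (f439902 IH) (Lpr_gt (K48.f87409 IH) (Lpr_ct (f439904 IH) (Lpn (LP (LK LD1_c14 LD2_c37 LD3_c11))))))))))))
theorem f666380 : Led Lsl_df (LP (LK LD1_c14 LD2_c21 LD3_c18)) = (LP (LK LD1_c7 LD2_c41 LD3_c45)) :=
  Lgr Lrot38 (Lpr_dt (K48.f666377 IH) (Lpn (LP (LK LD1_c7 LD2_c41 LD3_c45))))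
theorem f477868 : Led Lsl_et (LP (LK LD1_c1 LD2_c52 LD3_c36)) = (LP (LK LD1_c0 LD2_c53 LD3_c2)) :=
  Lre_e IH (LK LD1_c1 LD2_c52 LD3_c36) (LK LD1_c0 LD2_c53 LD3_c2) Lrfl Lrfl
theorem f477870 : Led Lsl_dt (LP (LK LD1_c3 LD2_c51 LD3_c41)) = (LP (LK LD1_c1 LD2_c52 LD3_c35)) :=
  Lre_d IH (LK LD1_c3 LD2_c51 LD3_c41) (LK LD1_c1 LD2_c52 LD3_c35) Lrfl Lrfl
theorem f477871 : Led Lsl_et (LP (LK LD1_c3 LD2_c51 LD3_c41)) = (LP (LK LD1_c7 LD2_c45 LD3_c0)) :=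
  Lre_e IH (LK LD1_c3 LD2_c51 LD3_c41) (LK LD1_c7 LD2_c45 LD3_c0) Lrfl Lrfl
theorem f477872 : Led Lsl_gt (LP (LK LD1_c14 LD2_c21 LD3_c18)) = (LP (LK LD1_c7 LD2_c45 LD3_c0)) :=
  Lgr Lrot131 (Lpe (K33.f477240 IH) (Lpe (K29.f477219 IH) (Lpr_gf (K48.f477297 IH) (Lpe (K29.f461315 IH) (Lpe (K29.f459876 IH) (Lpe (f477868 IH) (Lpr_dt (K61.f477869 IH) (Lpe (K48.f103877 IH) (Lpe (f477870 IH) (Lpr_et (f477871 IH) (Lpn (LP (LK LD1_c7 LD2_c45 LD3_c0)))))))))))))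
theorem f477890 : Led Lsl_dt (LP (LK LD1_c14 LD2_c37 LD3_c9)) = (LP (LK LD1_c7 LD2_c45 LD3_c0)) :=
  Lre_d IH (LK LD1_c14 LD2_c37 LD3_c9) (LK LD1_c7 LD2_c45 LD3_c0) Lrfl Lrfl
theorem f477891 : Led Lsl_et (LP (LK LD1_c14 LD2_c37 LD3_c9)) = (LP (LK LD1_c7 LD2_c45 LD3_c2)) :=
  Lre_e IH (LK LD1_c14 LD2_c37 LD3_c9) (LK LD1_c7 LD2_c45 LD3_c2) Lrfl Lrfl
theorem f117354 : Led Lsl_et (LP (LK LD1_c3 LD2_c50 LD3_c17)) = (LP (LK LD1_c1 LD2_c52 LD3_c4)) :=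
  Lre_e IH (LK LD1_c3 LD2_c50 LD3_c17) (LK LD1_c1 LD2_c52 LD3_c4) Lrfl Lrfl
theorem f87419 : Led Lsl_dt (LP (LK LD1_c7 LD2_c41 LD3_c38)) = (LP (LK LD1_c3 LD2_c50 LD3_c16)) :=
  Lre_d IH (LK LD1_c7 LD2_c41 LD3_c38) (LK LD1_c3 LD2_c50 LD3_c16) Lrfl Lrfl
theorem f666396 : Led Lsl_gt (LP (LK LD1_c7 LD2_c45 LD3_c2)) = (LP (LK LD1_c7 LD2_c41 LD3_c38)) :=
  Lgr Lrot137 (Lpe (f477891 IH) (Lpr_dt (f477890 IH) (Lpe (f477872 IH) (Lpr_df (f666380 IH) (Lpr_et (K48.f665485 IH) (Lpe (K48.f458492 IH) (Lpe (f117354 IH) (Lpr_dt (K60.f63190 IH) (Lpe (f87418 IH) (Lpe (f87419 IH) (Lpn (LP (LK LD1_c7 LD2_c41 LD3_c38)))))))))))))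
theorem f63146 : Led Lsl_dt (LP (LK LD1_c1 LD2_c52 LD3_c3)) = (LP (LK LD1_c3 LD2_c50 LD3_c17)) :=
  Lre_d IH (LK LD1_c1 LD2_c52 LD3_c3) (LK LD1_c3 LD2_c50 LD3_c17) Lrfl Lrfl
theorem f87398 : Led Lsl_dt (LP (LK LD1_c14 LD2_c30 LD3_c18)) = (LP (LK LD1_c7 LD2_c41 LD3_c42)) :=
  Lre_d IH (LK LD1_c14 LD2_c30 LD3_c18) (LK LD1_c7 LD2_c41 LD3_c42) Lrfl Lrfl
theorem f440814 : Led Lsl_gt (LP (LK LD1_c24 LD2_c11 LD3_c26)) = (LP (LK LD1_c14 LD2_c30 LD3_c18)) :=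
  Lre_g IH (LK LD1_c24 LD2_c11 LD3_c26) (LK LD1_c14 LD2_c30 LD3_c18) Lrfl Lrfl
theorem f711958 : Led Lsl_dt (LP (LK LD1_c23 LD2_c55 LD3_c38)) = (LP (LK LD1_c24 LD2_c11 LD3_c26)) :=
  Lgr Lrot57 (Lpr_gf (f711947 IH) (Lpe (f439904 IH) (Lpr_gt (f666396 IH) (Lpr_dt (f87419 IH) (Lpr_gt (f87418 IH) (Lpr_dt (f63146 IH) (Lpe (K60.f87397 IH) (Lpe (f87398 IH) (Lpe (f440814 IH) (Lpn (LP (LK LD1_c24 LD2_c11 LD3_c26))))))))))))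
theorem f807981 : Led Lsl_af (LP (LK LD1_c24 LD2_c2 LD3_c59)) = (LP (LK LD1_c24 LD2_c11 LD3_c26)) :=
  Lgr Lrot117 (Lpr_dt (f442310 IH) (Lpr_at (f807976 IH) (Lpr_dt (f711958 IH) (Lpn (LP (LK LD1_c24 LD2_c11 LD3_c26))))))
theorem f807684 : Led Lsl_ct (LP (LK LD1_c30 LD2_c11 LD3_c15)) = (LP (LK LD1_c24 LD2_c2 LD3_c59)) :=
  Lgr Lrot59 (Lpr_cf (f807681 IH) (Lpn (LP (LK LD1_c24 LD2_c2 LD3_c59))))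
theorem f807678 : Led Lsl_df (LP (LK LD1_c30 LD2_c11 LD3_c15)) = (LP (LK LD1_c24 LD2_c2 LD3_c29)) :=
  Lgr Lrot38 (Lpr_dt (f807676 IH) (Lpn (LP (LK LD1_c24 LD2_c2 LD3_c29))))
theorem f712474 : Led Lsl_ct (LP (LK LD1_c14 LD2_c23 LD3_c54)) = (LP (LK LD1_c24 LD2_c2 LD3_c29)) :=
  Lre_c IH (LK LD1_c14 LD2_c23 LD3_c54) (LK LD1_c24 LD2_c2 LD3_c29) Lrfl Lrfl
theorem f87744 : Led Lsl_dt (LP (LK LD1_c7 LD2_c38 LD3_c28)) = (LP (LK LD1_c3 LD2_c48 LD3_c42)) :=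
  Lre_d IH (LK LD1_c7 LD2_c38 LD3_c28) (LK LD1_c3 LD2_c48 LD3_c42) Lrfl Lrfl
theorem f88340 : Led Lsl_ct (LP (LK LD1_c14 LD2_c23 LD3_c58)) = (LP (LK LD1_c7 LD2_c38 LD3_c28)) :=
  Lre_c IH (LK LD1_c14 LD2_c23 LD3_c58) (LK LD1_c7 LD2_c38 LD3_c28) Lrfl Lrfl
theorem f807547 : Led Lsl_dt (LP (LK LD1_c24 LD2_c2 LD3_c37)) = (LP (LK LD1_c14 LD2_c23 LD3_c58)) :=
  Lre_d IH (LK LD1_c24 LD2_c2 LD3_c37) (LK LD1_c14 LD2_c23 LD3_c58) Lrfl Lrfl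
theorem f807989 : Led Lsl_ft (LP (LK LD1_c24 LD2_c2 LD3_c37)) = (LP (LK LD1_c24 LD2_c11 LD3_c26)) :=
  Lgr Lrot142 (Lpr_dt (f807547 IH) (Lpr_ct (f88340 IH) (Lpr_dt (f87744 IH) (Lpr_ct (K57.f64861 IH) (Lpr_dt (f64862 IH) (Lpr_ct (f712474 IH) (Lpe (f807678 IH) (Lpr_ct (f807684 IH) (Lpr_af (f807981 IH) (Lpn (LP (LK LD1_c24 LD2_c11 LD3_c26))))))))))))
theorem f807995 : Led Lsl_ff (LP (LK LD1_c24 LD2_c2 LD3_c37)) = (LP (LK LD1_c24 LD2_c11 LD3_c26)) :=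
  Lgr Lrot3 (Lpr_ft (f807989 IH) (Lpn (LP (LK LD1_c24 LD2_c11 LD3_c26))))
theorem f808003 : Led Lsl_at (LP (LK LD1_c24 LD2_c2 LD3_c37)) = (LP (LK LD1_c24 LD2_c11 LD3_c25)) :=
  Lgr Lrot26 (Lpr_ff (f807995 IH) (Lpr_gt (f440814 IH) (Lpr_gt (K60.f711898 IH) (Lpn (LP (LK LD1_c24 LD2_c11 LD3_c25))))))
theorem f807985 : Led Lsl_at (LP (LK LD1_c24 LD2_c2 LD3_c59)) = (LP (LK LD1_c24 LD2_c11 LD3_c26)) :=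
  Lgr Lrot100 (Lpr_af (f807981 IH) (Lpn (LP (LK LD1_c24 LD2_c11 LD3_c26))))
theorem f808007 : Led Lsl_ff (LP (LK LD1_c24 LD2_c2 LD3_c59)) = (LP (LK LD1_c24 LD2_c11 LD3_c25)) :=
  Lgr Lrot30 (Lpr_at (f807985 IH) (Lpe (f807995 IH) (Lpr_at (f808003 IH) (Lpn (LP (LK LD1_c24 LD2_c11 LD3_c25))))))
theorem f808011 : Led Lsl_ft (LP (LK LD1_c30 LD2_c11 LD3_c15)) = (LP (LK LD1_c30 LD2_c9 LD3_c15)) :=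
  Lgr Lrot4 (Lpr_cf (f807681 IH) (Lpr_ff (f808007 IH) (Lpr_cf (K60.f777708 IH) (Lpn (LP (LK LD1_c30 LD2_c9 LD3_c15))))))
theorem f808015 : Led Lsl_ff (LP (LK LD1_c30 LD2_c11 LD3_c15)) = (LP (LK LD1_c30 LD2_c9 LD3_c15)) :=
  Lgr Lrot3 (Lpr_ft (f808011 IH) (Lpn (LP (LK LD1_c30 LD2_c9 LD3_c15))))
theorem f808017 : Led Lsl_ft (LP (LK LD1_c24 LD2_c2 LD3_c29)) = (LP (LK LD1_c21 LD2_c47 LD3_c51)) :=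
  Lgr Lrot54 (Lpe (f807676 IH) (Lpr_ff (f808015 IH) (Lpe (K60.f711885 IH) (Lpn (LP (LK LD1_c21 LD2_c47 LD3_c51))))))
theorem f442315 : Led Lsl_dt (LP (LK LD1_c7 LD2_c38 LD3_c31)) = (LP (LK LD1_c14 LD2_c24 LD3_c6)) :=
  Lre_d IH (LK LD1_c7 LD2_c38 LD3_c31) (LK LD1_c14 LD2_c24 LD3_c6) Lrfl Lrfl
theorem f807546 : Led Lsl_ct (LP (LK LD1_c14 LD2_c24 LD3_c6)) = (LP (LK LD1_c24 LD2_c2 LD3_c53)) :=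
  Lre_c IH (LK LD1_c14 LD2_c24 LD3_c6) (LK LD1_c24 LD2_c2 LD3_c53) Lrfl Lrfl
theorem f808022 : Led Lsl_af (LP (LK LD1_c24 LD2_c2 LD3_c53)) = (LP (LK LD1_c21 LD2_c47 LD3_c51)) :=
  Lgr Lrot109 (Lpe (f807546 IH) (Lpe (f442315 IH) (Lpe (f442312 IH) (Lpe (f64898 IH) (Lpe (f442309 IH) (Lpe (f442310 IH) (Lpe (f807684 IH) (Lpr_df (f807678 IH) (Lpr_ft (f808017 IH) (Lpn (LP (LK LD1_c21 LD2_c47 LD3_c51))))))))))))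
theorem f442314 : Led Lsl_ct (LP (LK LD1_c24 LD2_c2 LD3_c53)) = (LP (LK LD1_c14 LD2_c24 LD3_c6)) :=
  Lre_c IH (LK LD1_c24 LD2_c2 LD3_c53) (LK LD1_c14 LD2_c24 LD3_c6) Lrfl Lrfl
theorem f808027 : Led Lsl_at (LP (LK LD1_c14 LD2_c24 LD3_c6)) = (LP (LK LD1_c12 LD2_c41 LD3_c20)) :=
  Lgr Lrot107 (Lpe (f442314 IH) (Lpr_af (f808022 IH) (Lpe (K60.f440787 IH) (Lpn (LP (LK LD1_c12 LD2_c41 LD3_c20))))))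
theorem f66080 : Led Lsl_dt (LP (LK LD1_c12 LD2_c41 LD3_c17)) = (LP (LK LD1_c6 LD2_c37 LD3_c47)) :=
  Lre_d IH (LK LD1_c12 LD2_c41 LD3_c17) (LK LD1_c6 LD2_c37 LD3_c47) Lrfl Lrfl
theorem f808035 : Led Lsl_ff (LP (LK LD1_c14 LD2_c24 LD3_c6)) = (LP (LK LD1_c12 LD2_c41 LD3_c17)) :=
  Lgr Lrot103 (Lpr_at (f808027 IH) (Lpe (f440789 IH) (Lpe (f440788 IH) (Lpe (f777710 IH) (Lpe (f711908 IH) (Lpe (f93611 IH) (Lpe (K60.f87767 IH) (Lpr_cf (K52.f712027 IH) (Lpe (f66080 IH) (Lpn (LP (LK LD1_c12 LD2_c41 LD3_c17))))))))))))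
theorem f808041 : Led Lsl_ft (LP (LK LD1_c14 LD2_c24 LD3_c6)) = (LP (LK LD1_c12 LD2_c41 LD3_c17)) :=
  Lgr Lrot48 (Lpr_ff (f808035 IH) (Lpn (LP (LK LD1_c12 LD2_c41 LD3_c17))))
theorem f808049 : Led Lsl_af (LP (LK LD1_c14 LD2_c23 LD3_c54)) = (LP (LK LD1_c12 LD2_c41 LD3_c17)) :=
  Lgr Lrot109 (Lpe (f64863 IH) (Lpe (f807676 IH) (Lpr_cf (f807681 IH) (Lpe (f521731 IH) (Lpe (f442311 IH) (Lpe (f64896 IH) (Lpe (f64873 IH) (Lpe (f442313 IH) (Lpr_ft (f808041 IH) (Lpn (LP (LK LD1_c12 LD2_c41 LD3_c17))))))))))))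
theorem f808030 : Led Lsl_af (LP (LK LD1_c14 LD2_c24 LD3_c6)) = (LP (LK LD1_c12 LD2_c41 LD3_c20)) :=
  Lgr Lrot0 (Lpr_at (f808027 IH) (Lpn (LP (LK LD1_c12 LD2_c41 LD3_c20))))
theorem f808053 : Led Lsl_ft (LP (LK LD1_c14 LD2_c23 LD3_c54)) = (LP (LK LD1_c12 LD2_c41 LD3_c20)) :=
  Lgr Lrot101 (Lpr_af (f808049 IH) (Lpe (f808041 IH) (Lpr_af (f808030 IH) (Lpn (LP (LK LD1_c12 LD2_c41 LD3_c20))))))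
theorem f65044 : Led Lsl_dt (LP (LK LD1_c7 LD2_c35 LD3_c29)) = (LP (LK LD1_c14 LD2_c18 LD3_c44)) :=
  Lre_d IH (LK LD1_c7 LD2_c35 LD3_c29) (LK LD1_c14 LD2_c18 LD3_c44) Lrfl Lrfl
theorem f65045 : Led Lsl_gt (LP (LK LD1_c14 LD2_c18 LD3_c44)) = (LP (LK LD1_c14 LD2_c21 LD3_c0)) :=
  Lre_g IH (LK LD1_c14 LD2_c18 LD3_c44) (LK LD1_c14 LD2_c21 LD3_c0) Lrfl Lrfl
theorem f65046 : Led Lsl_dt (LP (LK LD1_c14 LD2_c21 LD3_c0)) = (LP (LK LD1_c7 LD2_c36 LD3_c42)) :=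
  Lre_d IH (LK LD1_c14 LD2_c21 LD3_c0) (LK LD1_c7 LD2_c36 LD3_c42) Lrfl Lrfl
theorem f96687 : Led Lsl_ct (LP (LK LD1_c14 LD2_c20 LD3_c58)) = (LP (LK LD1_c7 LD2_c36 LD3_c42)) :=
  Lre_c IH (LK LD1_c14 LD2_c20 LD3_c58) (LK LD1_c7 LD2_c36 LD3_c42) Lrfl Lrfl
theorem f96688 : Led Lsl_dt (LP (LK LD1_c23 LD2_c58 LD3_c51)) = (LP (LK LD1_c14 LD2_c20 LD3_c58)) :=
  Lre_d IH (LK LD1_c23 LD2_c58 LD3_c51) (LK LD1_c14 LD2_c20 LD3_c58) Lrfl Lrfl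
theorem f712472 : Led Lsl_gt (LP (LK LD1_c14 LD2_c23 LD3_c54)) = (LP (LK LD1_c23 LD2_c58 LD3_c51)) :=
  Lgr Lrot49 (Lpe (f64862 IH) (Lpr_gf (f712379 IH) (Lpe (K4.f96670 IH) (Lpr_gt (K52.f65016 IH) (Lpr_dt (f65044 IH) (Lpr_gt (f65045 IH) (Lpr_dt (f65046 IH) (Lpe (f96687 IH) (Lpe (f96688 IH) (Lpn (LP (LK LD1_c23 LD2_c58 LD3_c51))))))))))))
theorem f808059 : Led Lsl_gt (LP (LK LD1_c23 LD2_c58 LD3_c51)) = (LP (LK LD1_c14 LD2_c24 LD3_c6)) :=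
  Lgr Lrot46 (Lpe (f712472 IH) (Lpr_ft (f808053 IH) (Lpe (f808030 IH) (Lpn (LP (LK LD1_c14 LD2_c24 LD3_c6))))))
theorem f712478 : Led Lsl_dt (LP (LK LD1_c14 LD2_c20 LD3_c58)) = (LP (LK LD1_c23 LD2_c58 LD3_c51)) :=
  Lre_d IH (LK LD1_c14 LD2_c20 LD3_c58) (LK LD1_c23 LD2_c58 LD3_c51) Lrfl Lrfl
theorem f807543 : Led Lsl_et (LP (LK LD1_c14 LD2_c24 LD3_c7)) = (LP (LK LD1_c7 LD2_c38 LD3_c31)) :=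
  Lre_e IH (LK LD1_c14 LD2_c24 LD3_c7) (LK LD1_c7 LD2_c38 LD3_c31) Lrfl Lrfl
def v22537 : LQ := Led Lsl_ft (LP (LK LD1_c7 LD2_c38 LD3_c27))
theorem f807707 : Led Lsl_ft (LP (LK LD1_c7 LD2_c38 LD3_c27)) = v22537 :=
  Lrfl
theorem f807710 : Led Lsl_ff (LP (LK LD1_c7 LD2_c38 LD3_c27)) = v22537 :=
  Lgr Lrot3 (Lpr_ft (f807707 IH) (Lpn v22537))
theorem f807545 : Led Lsl_ff (LP (LK LD1_c7 LD2_c38 LD3_c31)) = v22536 :=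
  Lgr Lrot3 (Lpr_ft (f807541 IH) (Lpn v22536))
theorem f807711 : Led Lsl_at (LP (LK LD1_c7 LD2_c38 LD3_c31)) = v22537 :=
  Lgr Lrot66 (Lpr_ff (f807545 IH) (Lpe (f807537 IH) (Lpr_ff (f807710 IH) (Lpn v22537))))
theorem f807712 : Led Lsl_ct v7469 = v22537 :=
  Lgr Lrot40 (Lpe (f665741 IH) (Lpe (f64868 IH) (Lpr_ff (f807710 IH) (Lpn v22537))))
theorem f807823 : v22537 = (LP (LK LD1_c6 LD2_c37 LD3_c48)) :=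
  Lefun (Lecon (f807712 IH) (f807819 IH)) (K52.f711880 IH)
theorem f711886 : Led Lsl_et (LP (LK LD1_c6 LD2_c37 LD3_c48)) = (LP (LK LD1_c12 LD2_c41 LD3_c21)) :=
  Lre_e IH (LK LD1_c6 LD2_c37 LD3_c48) (LK LD1_c12 LD2_c41 LD3_c21) Lrfl Lrfl
theorem f808154 : Led Lsl_af (LP (LK LD1_c14 LD2_c24 LD3_c7)) = (LP (LK LD1_c12 LD2_c41 LD3_c21)) :=
  Lgr Lrot50 (Lpr_et (f807543 IH) (Lpr_at (f807711 IH) (Lpqs (f807823 IH) (Lpr_et (f711886 IH) (Lpn (LP (LK LD1_c12 LD2_c41 LD3_c21)))))))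
theorem f807552 : Led Lsl_ft (LP (LK LD1_c14 LD2_c24 LD3_c7)) = (LP (LK LD1_c24 LD2_c2 LD3_c57)) :=
  Lre_f IH (LK LD1_c14 LD2_c24 LD3_c7) (LK LD1_c24 LD2_c2 LD3_c57) Lrfl Lrfl
theorem f711935 : Led Lsl_ft (LP (LK LD1_c21 LD2_c47 LD3_c55)) = (LP (LK LD1_c12 LD2_c41 LD3_c21)) :=
  Lre_f IH (LK LD1_c21 LD2_c47 LD3_c55) (LK LD1_c12 LD2_c41 LD3_c21) Lrfl Lrfl
theorem f808162 : Led Lsl_at (LP (LK LD1_c24 LD2_c2 LD3_c57)) = (LP (LK LD1_c21 LD2_c47 LD3_c55)) :=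
  Lgr Lrot66 (Lpe (f807552 IH) (Lpr_af (f808154 IH) (Lpe (f711935 IH) (Lpn (LP (LK LD1_c21 LD2_c47 LD3_c55))))))
theorem f807759 : Led Lsl_ct (LP (LK LD1_c14 LD2_c24 LD3_c12)) = (LP (LK LD1_c24 LD2_c2 LD3_c57)) :=
  Lre_c IH (LK LD1_c14 LD2_c24 LD3_c12) (LK LD1_c24 LD2_c2 LD3_c57) Lrfl Lrfl
theorem f87785 : Led Lsl_et (LP (LK LD1_c14 LD2_c17 LD3_c54)) = (LP (LK LD1_c7 LD2_c34 LD3_c58)) :=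
  Lre_e IH (LK LD1_c14 LD2_c17 LD3_c54) (LK LD1_c7 LD2_c34 LD3_c58) Lrfl Lrfl
theorem f711887 : Led Lsl_cf (LP (LK LD1_c14 LD2_c17 LD3_c54)) = (LP (LK LD1_c12 LD2_c41 LD3_c21)) :=
  Lgr Lrot39 (Lpr_et (f87785 IH) (Lpr_ct (K52.f711880 IH) (Lpr_et (f711886 IH) (Lpn (LP (LK LD1_c12 LD2_c41 LD3_c21))))))
theorem f711934 : Led Lsl_ft (LP (LK LD1_c14 LD2_c17 LD3_c54)) = (LP (LK LD1_c23 LD2_c55 LD3_c41)) :=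
  Lre_f IH (LK LD1_c14 LD2_c17 LD3_c54) (LK LD1_c23 LD2_c55 LD3_c41) Lrfl Lrfl
theorem f711936 : Led Lsl_ct (LP (LK LD1_c23 LD2_c55 LD3_c41)) = (LP (LK LD1_c21 LD2_c47 LD3_c55)) :=
  Lgr Lrot40 (Lpe (f711934 IH) (Lpr_cf (f711887 IH) (Lpe (f711935 IH) (Lpn (LP (LK LD1_c21 LD2_c47 LD3_c55))))))
theorem f711941 : Led Lsl_cf (LP (LK LD1_c23 LD2_c55 LD3_c41)) = (LP (LK LD1_c21 LD2_c47 LD3_c55)) :=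
  Lgr Lrot11 (Lpr_ct (f711936 IH) (Lpn (LP (LK LD1_c21 LD2_c47 LD3_c55))))
theorem f808166 : Led Lsl_af (LP (LK LD1_c14 LD2_c24 LD3_c12)) = (LP (LK LD1_c23 LD2_c55 LD3_c41)) :=
  Lgr Lrot68 (Lpr_ct (f807759 IH) (Lpr_at (f808162 IH) (Lpe (f711941 IH) (Lpn (LP (LK LD1_c23 LD2_c55 LD3_c41))))))
theorem f808170 : Led Lsl_at (LP (LK LD1_c14 LD2_c24 LD3_c12)) = (LP (LK LD1_c23 LD2_c55 LD3_c41)) :=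
  Lgr Lrot100 (Lpr_af (f808166 IH) (Lpn (LP (LK LD1_c23 LD2_c55 LD3_c41))))
theorem f521736 : Led Lsl_gt (LP (LK LD1_c7 LD2_c38 LD3_c33)) = (LP (LK LD1_c14 LD2_c24 LD3_c10)) :=
  Lre_g IH (LK LD1_c7 LD2_c38 LD3_c33) (LK LD1_c14 LD2_c24 LD3_c10) Lrfl Lrfl
theorem f808181 : Led Lsl_gt (LP (LK LD1_c14 LD2_c24 LD3_c10)) = (LP (LK LD1_c23 LD2_c55 LD3_c41)) :=
  Lgr Lrot46 (Lpe (f521736 IH) (Lpr_ft (f665740 IH) (Lpr_at (f808170 IH) (Lpn (LP (LK LD1_c23 LD2_c55 LD3_c41))))))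
theorem f808172 : Led Lsl_et (LP (LK LD1_c14 LD2_c23 LD3_c61)) = (LP (LK LD1_c23 LD2_c55 LD3_c41)) :=
  Lgr Lrot123 (Lpr_af (f805547 IH) (Lpr_ef (f807743 IH) (Lpr_af (f808166 IH) (Lpn (LP (LK LD1_c23 LD2_c55 LD3_c41))))))
def v22329 : LQ := Led Lsl_ft (LP (LK LD1_c7 LD2_c34 LD3_c29))
theorem f805555 : Led Lsl_ft (LP (LK LD1_c7 LD2_c34 LD3_c29)) = v22329 :=
  Lrfl
theorem f805556 : Led Lsl_af (LP (LK LD1_c7 LD2_c34 LD3_c30)) = v22329 :=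
  Lgr Lrot45 (Lpr_ft (f805543 IH) (Lpe (f805538 IH) (Lpr_ft (f805555 IH) (Lpn v22329))))
theorem f807738 : Led Lsl_df v22329 = v22541 :=
  Lgr Lrot18 (Lpe (f805556 IH) (Lpe (K61.f88346 IH) (Lpr_at (f807736 IH) (Lpn v22541))))
theorem f807754 : Led Lsl_et (LP (LK LD1_c14 LD2_c16 LD3_c61)) = (LP (LK LD1_c14 LD2_c24 LD3_c12)) :=
  Lgr Lrot87 (Lpr_ef (f807743 IH) (Lpn (LP (LK LD1_c14 LD2_c24 LD3_c12))))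
theorem f665737 : Led Lsl_ft (LP (LK LD1_c14 LD2_c24 LD3_c12)) = (LP (LK LD1_c7 LD2_c38 LD3_c33)) :=
  Lre_f IH (LK LD1_c14 LD2_c24 LD3_c12) (LK LD1_c7 LD2_c38 LD3_c33) Lrfl Lrfl
theorem f93075 : Led Lsl_et (LP (LK LD1_c7 LD2_c38 LD3_c33)) = (LP (LK LD1_c3 LD2_c48 LD3_c43)) :=
  Lre_e IH (LK LD1_c7 LD2_c38 LD3_c33) (LK LD1_c3 LD2_c48 LD3_c43) Lrfl Lrfl
theorem f807760 : Led Lsl_ef v22541 = v7468 :=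
  Lgr Lrot21 (Lpe (f807740 IH) (Lpr_et (f807754 IH) (Lpr_ft (f665737 IH) (Lpr_et (f93075 IH) (Lpr_ft (f665736 IH) (Lpn v7468))))))
theorem f807861 : v22541 = (LP (LK LD1_c14 LD2_c17 LD3_c51)) :=
  Lefun (Lecon (Lfl_ef (f807760 IH)) (f807837 IH).symm) (K54.f441834 IH)
theorem f807866 : v22329 = (LP (LK LD1_c13 LD2_c17 LD3_c55)) :=
  Lefun (Lecon (Lfl_df (f807738 IH)) (f807861 IH)) (K54.f441826 IH)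
theorem f805558 : Led Lsl_ff (LP (LK LD1_c7 LD2_c34 LD3_c29)) = v22329 :=
  Lgr Lrot3 (Lpr_ft (f805555 IH) (Lpn v22329))
theorem f89346 : Led Lsl_gt (LP (LK LD1_c7 LD2_c0 LD3_c33)) = (LP (LK LD1_c13 LD2_c17 LD3_c54)) :=
  Lre_g IH (LK LD1_c7 LD2_c0 LD3_c33) (LK LD1_c13 LD2_c17 LD3_c54) Lrfl Lrfl
theorem f807892 : v22327 = (LP (LK LD1_c13 LD2_c17 LD3_c54)) :=
  (Llr Lrot26 (Lpe (f805537 IH) (Lpr_ff (f805558 IH) (Lpqs (f807866 IH) (Lpr_gt (K54.f87859 IH) (Lpr_gt (f89346 IH) (Lpn (LP (LK LD1_c13 LD2_c17 LD3_c54))))))))).symm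
theorem f708422 : Led Lsl_af (LP (LK LD1_c7 LD2_c34 LD3_c31)) = (LP (LK LD1_c12 LD2_c56 LD3_c60)) :=
  Lgr Lrot45 (Lpr_ft (K54.f441346 IH) (Lpr_at (K54.f105549 IH) (Lpr_ft (K61.f708420 IH) (Lpn (LP (LK LD1_c12 LD2_c56 LD3_c60))))))
theorem f708426 : Led Lsl_gt (LP (LK LD1_c13 LD2_c17 LD3_c54)) = (LP (LK LD1_c7 LD2_c34 LD3_c31)) :=
  Lgr Lrot46 (Lpe (f89346 IH) (Lpr_ft (K61.f708420 IH) (Lpe (f708422 IH) (Lpn (LP (LK LD1_c7 LD2_c34 LD3_c31))))))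
theorem f804898 : Led Lsl_dt (LP (LK LD1_c23 LD2_c49 LD3_c51)) = (LP (LK LD1_c14 LD2_c14 LD3_c9)) :=
  Lre_d IH (LK LD1_c23 LD2_c49 LD3_c51) (LK LD1_c14 LD2_c14 LD3_c9) Lrfl Lrfl
theorem f808183 : Led Lsl_ef (LP (LK LD1_c14 LD2_c24 LD3_c10)) = (LP (LK LD1_c23 LD2_c49 LD3_c51)) :=
  Lgr Lrot114 (Lpr_gt (f808181 IH) (Lpe (f808172 IH) (Lpr_dt (f805546 IH) (Lpqs (f807892 IH) (Lpr_gt (f708426 IH) (Lpe (K54.f109876 IH) (Lpe (K3.f109877 IH) (Lpr_gt (K57.f109742 IH) (Lpr_dt (f109744 IH) (Lpr_gt (f804892 IH) (Lpe (f804898 IH) (Lpn (LP (LK LD1_c23 LD2_c49 LD3_c51))))))))))))))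
theorem f664819 : Led Lsl_et (LP (LK LD1_c3 LD2_c46 LD3_c1)) = (LP (LK LD1_c7 LD2_c32 LD3_c60)) :=
  Lre_e IH (LK LD1_c3 LD2_c46 LD3_c1) (LK LD1_c7 LD2_c32 LD3_c60) Lrfl Lrfl
def v22227 : LQ := Led Lsl_gt (LP (LK LD1_c7 LD2_c32 LD3_c60))
theorem f804909 : Led Lsl_gt (LP (LK LD1_c7 LD2_c32 LD3_c60)) = v22227 :=
  Lrfl
theorem f808187 : (LP (LK LD1_c14 LD2_c13 LD3_c58)) = v22227 :=
  (Llr Lrot135 (Lpe (f88302 IH) (Lpe (f521729 IH) (Lpe (f64896 IH) (Lpr_et (f521735 IH) (Lpr_gt (f521736 IH) (Lpr_ef (f808183 IH) (Lpr_dt (f804898 IH) (Lpr_gt (f109720 IH) (Lpe (f109726 IH) (Lpr_et (f664819 IH) (Lpr_gt (f804909 IH) (Lpn v22227))))))))))))).symm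
theorem f808189 : Led Lsl_gf (LP (LK LD1_c14 LD2_c20 LD3_c58)) = (LP (LK LD1_c14 LD2_c14 LD3_c7)) :=
  Lgr Lrot144 (Lpr_dt (f712478 IH) (Lpr_gt (f808059 IH) (Lpr_dt (f442313 IH) (Lpe (f442312 IH) (Lpe (f64898 IH) (Lpr_gf (f521729 IH) (Lpr_df (f88302 IH) (Lpqs (f808187 IH) (Lpe (f804909 IH) (Lpe (f93619 IH) (Lpn (LP (LK LD1_c14 LD2_c14 LD3_c7)))))))))))))
theorem f666853 : Led Lsl_ft (LP (LK LD1_c14 LD2_c37 LD3_c5)) = (LP (LK LD1_c7 LD2_c44 LD3_c60)) :=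
  Lre_f IH (LK LD1_c14 LD2_c37 LD3_c5) (LK LD1_c7 LD2_c44 LD3_c60) Lrfl Lrfl
theorem f811249 : Led Lsl_af (LP (LK LD1_c14 LD2_c20 LD3_c58)) = (LP (LK LD1_c7 LD2_c44 LD3_c60)) :=
  Lgr Lrot31 (Lpr_gf (f808189 IH) (Lpr_gf (f811222 IH) (Lpr_ft (f666853 IH) (Lpn (LP (LK LD1_c7 LD2_c44 LD3_c60))))))
theorem f811267 : Led Lsl_ft (LP (LK LD1_c14 LD2_c20 LD3_c58)) = (LP (LK LD1_c21 LD2_c42 LD3_c39)) :=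
  Lgr Lrot101 (Lpr_af (f811249 IH) (Lpe (f666853 IH) (Lpr_af (f811105 IH) (Lpn (LP (LK LD1_c21 LD2_c42 LD3_c39))))))
theorem f806970 : Led Lsl_et (LP (LK LD1_c7 LD2_c36 LD3_c40)) = (LP (LK LD1_c14 LD2_c20 LD3_c58)) :=
  Lre_e IH (LK LD1_c7 LD2_c36 LD3_c40) (LK LD1_c14 LD2_c20 LD3_c58) Lrfl Lrfl
def v22445 : LQ := Led Lsl_at (LP (LK LD1_c7 LD2_c36 LD3_c36))
theorem f806963 : Led Lsl_at (LP (LK LD1_c7 LD2_c36 LD3_c36)) = v22445 :=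
  Lrfl
theorem f806965 : Led Lsl_cf v7440 = v22445 :=
  Lgr Lrot1 (Lpe (f665568 IH) (Lpr_ct (K61.f63972 IH) (Lpr_at (f806963 IH) (Lpn v22445))))
theorem f14489 : Led Lsl_ct (LP (LK LD1_c3 LD2_c47 LD3_c48)) = (LP (LK LD1_c7 LD2_c36 LD3_c40)) :=
  Lre_c IH (LK LD1_c3 LD2_c47 LD3_c48) (LK LD1_c7 LD2_c36 LD3_c40) Lrfl Lrfl
theorem f806967 : Led Lsl_ft (LP (LK LD1_c7 LD2_c36 LD3_c40)) = v22445 :=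
  Lgr Lrot4 (Lpe (f14489 IH) (Lpr_ff (f665577 IH) (Lpr_cf (f806965 IH) (Lpn v22445))))
theorem f806968 : Led Lsl_ff (LP (LK LD1_c7 LD2_c36 LD3_c40)) = v22445 :=
  Lgr Lrot3 (Lpr_ft (f806967 IH) (Lpn v22445))
theorem f806966 : Led Lsl_ct v7440 = v22445 :=
  Lgr Lrot59 (Lpr_cf (f806965 IH) (Lpn v22445))
theorem f811160 : v22445 = (LP (LK LD1_c3 LD2_c51 LD3_c36)) :=
  Lefun (Lecon (f806966 IH) (f811155 IH)) (K48.f530323 IH)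
theorem f666846 : Led Lsl_et (LP (LK LD1_c7 LD2_c44 LD3_c47)) = (LP (LK LD1_c3 LD2_c51 LD3_c36)) :=
  Lre_e IH (LK LD1_c7 LD2_c44 LD3_c47) (LK LD1_c3 LD2_c51 LD3_c36) Lrfl Lrfl
theorem f666994 : Led Lsl_ft (LP (LK LD1_c14 LD2_c36 LD3_c42)) = (LP (LK LD1_c7 LD2_c44 LD3_c47)) :=
  Lre_f IH (LK LD1_c14 LD2_c36 LD3_c42) (LK LD1_c7 LD2_c44 LD3_c47) Lrfl Lrfl
theorem f811269 : Led Lsl_ef (LP (LK LD1_c14 LD2_c36 LD3_c42)) = (LP (LK LD1_c21 LD2_c42 LD3_c39)) :=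
  Lgr Lrot21 (Lpr_ft (f666994 IH) (Lpr_et (f666846 IH) (Lpq (f811160 IH) (Lpe (f806968 IH) (Lpr_et (f806970 IH) (Lpr_ft (f811267 IH) (Lpn (LP (LK LD1_c21 LD2_c42 LD3_c39)))))))))
theorem f811271 : Led Lsl_et (LP (LK LD1_c14 LD2_c36 LD3_c42)) = (LP (LK LD1_c21 LD2_c42 LD3_c39)) :=
  Lgr Lrot87 (Lpr_ef (f811269 IH) (Lpn (LP (LK LD1_c21 LD2_c42 LD3_c39))))
theorem f96747 : Led Lsl_et (LP (LK LD1_c6 LD2_c34 LD3_c16)) = (LP (LK LD1_c3 LD2_c15 LD3_c28)) :=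
  Lre_e IH (LK LD1_c6 LD2_c34 LD3_c16) (LK LD1_c3 LD2_c15 LD3_c28) Lrfl Lrfl
theorem f96748 : Led Lsl_dt (LP (LK LD1_c6 LD2_c34 LD3_c16)) = (LP (LK LD1_c12 LD2_c35 LD3_c5)) :=
  Lre_d IH (LK LD1_c6 LD2_c34 LD3_c16) (LK LD1_c12 LD2_c35 LD3_c5) Lrfl Lrfl
theorem f96749 : Led Lsl_gt (LP (LK LD1_c12 LD2_c35 LD3_c5)) = (LP (LK LD1_c21 LD2_c41 LD3_c32)) :=
  Lre_g IH (LK LD1_c12 LD2_c35 LD3_c5) (LK LD1_c21 LD2_c41 LD3_c32) Lrfl Lrfl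
theorem f811273 : Led Lsl_dt (LP (LK LD1_c14 LD2_c36 LD3_c42)) = (LP (LK LD1_c21 LD2_c41 LD3_c32)) :=
  Lgr Lrot37 (Lpr_et (f811271 IH) (Lpr_gt (f96745 IH) (Lpr_dt (K57.f96742 IH) (Lpr_gt (K57.f96743 IH) (Lpe (K4.f96675 IH) (Lpr_et (K4.f96669 IH) (Lpr_gt (K32.f96729 IH) (Lpe (f96747 IH) (Lpr_dt (f96748 IH) (Lpr_gt (f96749 IH) (Lpn (LP (LK LD1_c21 LD2_c41 LD3_c32)))))))))))))
theorem f811275 : Led Lsl_df (LP (LK LD1_c14 LD2_c36 LD3_c42)) = (LP (LK LD1_c21 LD2_c41 LD3_c32)) :=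
  Lgr Lrot38 (Lpr_dt (f811273 IH) (Lpn (LP (LK LD1_c21 LD2_c41 LD3_c32))))
theorem f811130 : Led Lsl_ct (LP (LK LD1_c14 LD2_c36 LD3_c42)) = (LP (LK LD1_c7 LD2_c44 LD3_c54)) :=
  Lre_c IH (LK LD1_c14 LD2_c36 LD3_c42) (LK LD1_c7 LD2_c44 LD3_c54) Lrfl Lrfl
theorem f811131 : Led Lsl_dt (LP (LK LD1_c13 LD2_c21 LD3_c2)) = (LP (LK LD1_c7 LD2_c44 LD3_c54)) :=
  Lgr Lrot42 (Lpr_df (f811124 IH) (Lpn (LP (LK LD1_c7 LD2_c44 LD3_c54))))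
def v20698 : LQ := Led Lsl_ct (LP (LK LD1_c7 LD2_c2 LD3_c23))
theorem f789168 : Led Lsl_ct (LP (LK LD1_c7 LD2_c2 LD3_c23)) = v20698 :=
  Lrfl
def v18861 : LQ := Led Lsl_gf (LP (LK LD1_c6 LD2_c34 LD3_c16))
theorem f776205 : Led Lsl_gf (LP (LK LD1_c6 LD2_c34 LD3_c16)) = v18861 :=
  Lrfl
theorem f811282 : v20698 = v18861 :=
  (Llr Lrot8 (Lpe (f789168 IH) (Lpr_gt (f19120 IH) (Lpr_dt (K3.f19103 IH) (Lpr_gt (f18331 IH) (Lpr_dt (f811131 IH) (Lpe (f811130 IH) (Lpr_df (f811275 IH) (Lpe (f96749 IH) (Lpe (f96748 IH) (Lpr_gf (f776205 IH) (Lpn v18861)))))))))))).symm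
theorem f63360 : Led Lsl_at (LP (LK LD1_c6 LD2_c10 LD3_c13)) = (LP (LK LD1_c3 LD2_c2 LD3_c8)) :=
  Lre_a IH (LK LD1_c6 LD2_c10 LD3_c13) (LK LD1_c3 LD2_c2 LD3_c8) Lrfl Lrfl
theorem f18291 : Led Lsl_ct (LP (LK LD1_c3 LD2_c30 LD3_c18)) = (LP (LK LD1_c6 LD2_c10 LD3_c13)) :=
  Lre_c IH (LK LD1_c3 LD2_c30 LD3_c18) (LK LD1_c6 LD2_c10 LD3_c13) Lrfl Lrfl
theorem f63361 : Led Lsl_af (LP (LK LD1_c3 LD2_c30 LD3_c18)) = (LP (LK LD1_c3 LD2_c50 LD3_c14)) :=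
  Lgr Lrot68 (Lpr_ct (f18291 IH) (Lpr_at (f63360 IH) (Lpr_ct (K2.f63358 IH) (Lpn (LP (LK LD1_c3 LD2_c50 LD3_c14))))))
theorem f63569 : Led Lsl_gf (LP (LK LD1_c7 LD2_c2 LD3_c23)) = (LP (LK LD1_c7 LD2_c41 LD3_c33)) :=
  Lgr Lrot47 (Lpr_gt (f19120 IH) (Lpr_af (f63361 IH) (Lpe (K1.f63202 IH) (Lpn (LP (LK LD1_c7 LD2_c41 LD3_c33))))))
theorem f63582 : Led Lsl_ct (LP (LK LD1_c13 LD2_c21 LD3_c3)) = (LP (LK LD1_c22 LD2_c37 LD3_c35)) :=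
  Lre_c IH (LK LD1_c13 LD2_c21 LD3_c3) (LK LD1_c22 LD2_c37 LD3_c35) Lrfl Lrfl
theorem f96717 : Led Lsl_cf (LP (LK LD1_c3 LD2_c48 LD3_c39)) = (LP (LK LD1_c6 LD2_c34 LD3_c16)) :=
  Lgr Lrot39 (Lpr_et (K4.f89308 IH) (Lpr_ct (K3.f96186 IH) (Lpr_et (K46.f96716 IH) (Lpn (LP (LK LD1_c6 LD2_c34 LD3_c16))))))
theorem f89610 : Led Lsl_ct (LP (LK LD1_c14 LD2_c23 LD3_c41)) = (LP (LK LD1_c7 LD2_c38 LD3_c20)) :=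
  Lre_c IH (LK LD1_c14 LD2_c23 LD3_c41) (LK LD1_c7 LD2_c38 LD3_c20) Lrfl Lrfl
theorem f811283 : Led Lsl_gt (LP (LK LD1_c22 LD2_c37 LD3_c35)) = (LP (LK LD1_c14 LD2_c23 LD3_c41)) :=
  Lgr Lrot150 (Lpe (f63582 IH) (Lpr_gf (K3.f63580 IH) (Lpe (K3.f63215 IH) (Lpe (f63569 IH) (Lpr_ct (f789168 IH) (Lpqs (f811282 IH) (Lpe (f776205 IH) (Lpe (f96717 IH) (Lpe (K4.f89319 IH) (Lpe (f89610 IH) (Lpn (LP (LK LD1_c14 LD2_c23 LD3_c41)))))))))))))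
theorem f811284 : Led Lsl_gt (LP (LK LD1_c22 LD2_c37 LD3_c35)) = (LP (LK LD1_c14 LD2_c23 LD3_c41)) :=
  Leop (Lpe (f811283 IH) (Lpn (LP (LK LD1_c22 LD2_c37 LD3_c35))))
theorem seed_1772 : LEOK LG_g (LK LD1_c22 LD2_c37 LD3_c35) :=
  Leoe_g (LK LD1_c22 LD2_c37 LD3_c35) (f811284 IH)
theorem f667008 : Led Lsl_ff (LP (LK LD1_c3 LD2_c51 LD3_c41)) = K48.v7577 :=
  Lgr Lrot3 (Lpr_ft (K48.f667006 IH) (Lpn K48.v7577))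
theorem f667005 : Led Lsl_dt K48.v2679 = K48.v7577 :=
  Lgr Lrot42 (Lpr_df (K48.f667004 IH) (Lpn K48.v7577))
def v7580 : LQ := Led Lsl_at (LP (LK LD1_c3 LD2_c51 LD3_c38))
theorem f667048 : Led Lsl_at (LP (LK LD1_c3 LD2_c51 LD3_c38)) = v7580 :=
  Lrfl
theorem f667051 : Led Lsl_ef K48.v2679 = v7580 :=
  Lgr Lrot20 (Lpe (K48.f530316 IH) (Lpr_et (f530325 IH) (Lpr_at (f667048 IH) (Lpn v7580))))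
theorem f807015 : Led Lsl_af (LP (LK LD1_c7 LD2_c36 LD3_c38)) = v22453 :=
  Lgr Lrot0 (Lpr_at (f807014 IH) (Lpn v22453))
theorem f811152 : (LP (LK LD1_c7 LD2_c36 LD3_c38)) = v7580 :=
  Lefun (Lecon (Lfl_af (f807015 IH)) (f811151 IH)) (f667048 IH)
theorem f811156 : K48.v2679 = (LP (LK LD1_c3 LD2_c47 LD3_c47)) :=
  Lefun (Lecon (Lfl_ef (f667051 IH)) (f811152 IH).symm) (K3.f63737 IH)
theorem f811171 : K48.v7577 = (LP (LK LD1_c7 LD2_c36 LD3_c37)) :=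
  Lefun (Lecon (f667005 IH) (f811156 IH)) (f64071 IH)
theorem f530330 : Led Lsl_ct (LP (LK LD1_c3 LD2_c51 LD3_c41)) = (LP (LK LD1_c7 LD2_c44 LD3_c61)) :=
  Lre_c IH (LK LD1_c3 LD2_c51 LD3_c41) (LK LD1_c7 LD2_c44 LD3_c61) Lrfl Lrfl
theorem f811730 : Led Lsl_ff (LP (LK LD1_c14 LD2_c20 LD3_c49)) = (LP (LK LD1_c7 LD2_c44 LD3_c61)) :=
  Lgr Lrot23 (Lpr_ct (f712493 IH) (Lpq (f811171 IH) (Lpe (f667008 IH) (Lpr_ct (f530330 IH) (Lpn (LP (LK LD1_c7 LD2_c44 LD3_c61)))))))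
theorem f811736 : Led Lsl_ft (LP (LK LD1_c14 LD2_c20 LD3_c49)) = (LP (LK LD1_c7 LD2_c44 LD3_c61)) :=
  Lgr Lrot48 (Lpr_ff (f811730 IH) (Lpn (LP (LK LD1_c7 LD2_c44 LD3_c61))))
theorem f811265 : Led Lsl_at (LP (LK LD1_c23 LD2_c58 LD3_c51)) = (LP (LK LD1_c14 LD2_c37 LD3_c4)) :=
  Lgr Lrot51 (Lpe (f712478 IH) (Lpr_af (f811249 IH) (Lpe (K48.f87412 IH) (Lpn (LP (LK LD1_c14 LD2_c37 LD3_c4))))))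
theorem f87428 : Led Lsl_gt (LP (LK LD1_c21 LD2_c47 LD3_c43)) = (LP (LK LD1_c12 LD2_c41 LD3_c17)) :=
  Lre_g IH (LK LD1_c21 LD2_c47 LD3_c43) (LK LD1_c12 LD2_c41 LD3_c17) Lrfl Lrfl
theorem f811290 : Led Lsl_ff (LP (LK LD1_c23 LD2_c58 LD3_c51)) = (LP (LK LD1_c21 LD2_c47 LD3_c43)) :=
  Lgr Lrot52 (Lpr_at (f811265 IH) (Lpe (K48.f87413 IH) (Lpe (f87428 IH) (Lpn (LP (LK LD1_c21 LD2_c47 LD3_c43))))))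
theorem f811294 : Led Lsl_ft (LP (LK LD1_c23 LD2_c58 LD3_c51)) = (LP (LK LD1_c21 LD2_c47 LD3_c43)) :=
  Lgr Lrot48 (Lpr_ff (f811290 IH) (Lpn (LP (LK LD1_c21 LD2_c47 LD3_c43))))
theorem f712383 : Led Lsl_gt (LP (LK LD1_c24 LD2_c2 LD3_c28)) = (LP (LK LD1_c14 LD2_c23 LD3_c54)) :=
  Lre_g IH (LK LD1_c24 LD2_c2 LD3_c28) (LK LD1_c14 LD2_c23 LD3_c54) Lrfl Lrfl
theorem f808055 : Led Lsl_gf (LP (LK LD1_c24 LD2_c2 LD3_c28)) = (LP (LK LD1_c14 LD2_c24 LD3_c6)) :=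
  Lgr Lrot47 (Lpr_gt (f712383 IH) (Lpr_af (f808049 IH) (Lpe (f808041 IH) (Lpn (LP (LK LD1_c14 LD2_c24 LD3_c6))))))
theorem f811298 : Led Lsl_af (LP (LK LD1_c24 LD2_c2 LD3_c28)) = (LP (LK LD1_c21 LD2_c47 LD3_c43)) :=
  Lgr Lrot31 (Lpr_gf (f808055 IH) (Lpe (f808059 IH) (Lpr_ft (f811294 IH) (Lpn (LP (LK LD1_c21 LD2_c47 LD3_c43))))))
theorem f811288 : Led Lsl_af (LP (LK LD1_c23 LD2_c58 LD3_c51)) = (LP (LK LD1_c14 LD2_c37 LD3_c4)) :=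
  Lgr Lrot0 (Lpr_at (f811265 IH) (Lpn (LP (LK LD1_c14 LD2_c37 LD3_c4))))
theorem f811302 : Led Lsl_ft (LP (LK LD1_c24 LD2_c2 LD3_c28)) = (LP (LK LD1_c14 LD2_c37 LD3_c4)) :=
  Lgr Lrot101 (Lpr_af (f811298 IH) (Lpe (f811294 IH) (Lpr_af (f811288 IH) (Lpn (LP (LK LD1_c14 LD2_c37 LD3_c4))))))
theorem f811306 : Led Lsl_ff (LP (LK LD1_c24 LD2_c2 LD3_c28)) = (LP (LK LD1_c14 LD2_c37 LD3_c4)) :=
  Lgr Lrot3 (Lpr_ft (f811302 IH) (Lpn (LP (LK LD1_c14 LD2_c37 LD3_c4))))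
theorem f811308 : Led Lsl_dt (LP (LK LD1_c24 LD2_c2 LD3_c28)) = (LP (LK LD1_c14 LD2_c37 LD3_c5)) :=
  Lgr Lrot60 (Lpr_ff (f811306 IH) (Lpe (K48.f87436 IH) (Lpe (f666853 IH) (Lpn (LP (LK LD1_c14 LD2_c37 LD3_c5))))))
theorem f117403 : Led Lsl_gt (LP (LK LD1_c3 LD2_c50 LD3_c18)) = (LP (LK LD1_c7 LD2_c35 LD3_c30)) :=
  Lgr Lrot5 (Lpr_ft (K4.f87401 IH) (Lpr_at (K4.f117393 IH) (Lpe (K61.f96690 IH) (Lpn (LP (LK LD1_c7 LD2_c35 LD3_c30))))))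
theorem f96691 : Led Lsl_dt (LP (LK LD1_c7 LD2_c35 LD3_c30)) = (LP (LK LD1_c14 LD2_c18 LD3_c47)) :=
  Lre_d IH (LK LD1_c7 LD2_c35 LD3_c30) (LK LD1_c14 LD2_c18 LD3_c47) Lrfl Lrfl
theorem f809986 : Led Lsl_dt (LP (LK LD1_c14 LD2_c37 LD3_c12)) = (LP (LK LD1_c7 LD2_c45 LD3_c3)) :=
  Lre_d IH (LK LD1_c14 LD2_c37 LD3_c12) (LK LD1_c7 LD2_c45 LD3_c3) Lrfl Lrfl
theorem f811312 : Led Lsl_gt (LP (LK LD1_c14 LD2_c18 LD3_c47)) = (LP (LK LD1_c14 LD2_c37 LD3_c12)) :=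
  Lgr Lrot49 (Lpe (f96691 IH) (Lpe (f117403 IH) (Lpe (K52.f87402 IH) (Lpr_gt (f776773 IH) (Lpq (f807548 IH) (Lpr_dt (f442315 IH) (Lpe (f808055 IH) (Lpr_dt (f811308 IH) (Lpe (f811115 IH) (Lpe (f809986 IH) (Lpn (LP (LK LD1_c14 LD2_c37 LD3_c12)))))))))))))
theorem f712477 : Led Lsl_gt (LP (LK LD1_c24 LD2_c2 LD3_c35)) = (LP (LK LD1_c14 LD2_c23 LD3_c58)) :=
  Lre_g IH (LK LD1_c24 LD2_c2 LD3_c35) (LK LD1_c14 LD2_c23 LD3_c58) Lrfl Lrfl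
theorem f811316 : Led Lsl_cf (LP (LK LD1_c24 LD2_c2 LD3_c35)) = (LP (LK LD1_c14 LD2_c37 LD3_c12)) :=
  Lgr Lrot169 (Lpr_gt (f712477 IH) (Lpr_ct (f88340 IH) (Lpe (f64851 IH) (Lpe (f64868 IH) (Lpr_gf (f712379 IH) (Lpe (K4.f96670 IH) (Lpe (K61.f96690 IH) (Lpe (K61.f96694 IH) (Lpr_gt (f811312 IH) (Lpn (LP (LK LD1_c14 LD2_c37 LD3_c12))))))))))))
theorem f665744 : Led Lsl_dt (LP (LK LD1_c14 LD2_c23 LD3_c58)) = (LP (LK LD1_c24 LD2_c2 LD3_c37)) :=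
  Lre_d IH (LK LD1_c14 LD2_c23 LD3_c58) (LK LD1_c24 LD2_c2 LD3_c37) Lrfl Lrfl
theorem f442299 : Led Lsl_gt (LP (LK LD1_c3 LD2_c48 LD3_c44)) = (LP (LK LD1_c7 LD2_c38 LD3_c34)) :=
  Lre_g IH (LK LD1_c3 LD2_c48 LD3_c44) (LK LD1_c7 LD2_c38 LD3_c34) Lrfl Lrfl
theorem f442303 : Led Lsl_ct (LP (LK LD1_c7 LD2_c38 LD3_c34)) = (LP (LK LD1_c14 LD2_c24 LD3_c14)) :=
  Lre_c IH (LK LD1_c7 LD2_c38 LD3_c34) (LK LD1_c14 LD2_c24 LD3_c14) Lrfl Lrfl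
theorem f87450 : Led Lsl_dt (LP (LK LD1_c7 LD2_c41 LD3_c43)) = (LP (LK LD1_c3 LD2_c50 LD3_c18)) :=
  Lre_d IH (LK LD1_c7 LD2_c41 LD3_c43) (LK LD1_c3 LD2_c50 LD3_c18) Lrfl Lrfl
theorem f712386 : Led Lsl_gt (LP (LK LD1_c14 LD2_c24 LD3_c14)) = (LP (LK LD1_c14 LD2_c30 LD3_c19)) :=
  Lgr Lrot150 (Lpe (f442303 IH) (Lpe (f442299 IH) (Lpe (K57.f64838 IH) (Lpr_gt (K52.f64850 IH) (Lpr_ct (K57.f64861 IH) (Lpr_gt (K57.f712377 IH) (Lpr_ct (K52.f87402 IH) (Lpe (f87450 IH) (Lpe (K4.f87451 IH) (Lpn (LP (LK LD1_c14 LD2_c30 LD3_c19))))))))))))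
theorem f442302 : Led Lsl_ct (LP (LK LD1_c14 LD2_c24 LD3_c14)) = (LP (LK LD1_c7 LD2_c38 LD3_c34)) :=
  Lre_c IH (LK LD1_c14 LD2_c24 LD3_c14) (LK LD1_c7 LD2_c38 LD3_c34) Lrfl Lrfl
theorem f87729 : Led Lsl_af (LP (LK LD1_c14 LD2_c17 LD3_c57)) = (LP (LK LD1_c7 LD2_c38 LD3_c37)) :=
  Lgr Lrot0 (Lpr_at (K2.f87725 IH) (Lpn (LP (LK LD1_c7 LD2_c38 LD3_c37))))
theorem f64895 : Led Lsl_ft (LP (LK LD1_c3 LD2_c48 LD3_c44)) = (LP (LK LD1_c7 LD2_c38 LD3_c37)) :=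
  Lre_f IH (LK LD1_c3 LD2_c48 LD3_c44) (LK LD1_c7 LD2_c38 LD3_c37) Lrfl Lrfl
theorem f442300 : Led Lsl_gf (LP (LK LD1_c14 LD2_c17 LD3_c57)) = (LP (LK LD1_c7 LD2_c38 LD3_c34)) :=
  Lgr Lrot76 (Lpr_af (f87729 IH) (Lpe (f64895 IH) (Lpr_gt (f442299 IH) (Lpn (LP (LK LD1_c7 LD2_c38 LD3_c34))))))
theorem f87755 : Led Lsl_dt (LP (LK LD1_c14 LD2_c17 LD3_c57)) = (LP (LK LD1_c7 LD2_c34 LD3_c60)) :=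
  Lre_d IH (LK LD1_c14 LD2_c17 LD3_c57) (LK LD1_c7 LD2_c34 LD3_c60) Lrfl Lrfl
theorem f87448 : Led Lsl_dt (LP (LK LD1_c14 LD2_c30 LD3_c19)) = (LP (LK LD1_c24 LD2_c11 LD3_c28)) :=
  Lre_d IH (LK LD1_c14 LD2_c30 LD3_c19) (LK LD1_c24 LD2_c11 LD3_c28) Lrfl Lrfl
theorem f712415 : Led Lsl_gf (LP (LK LD1_c24 LD2_c2 LD3_c59)) = (LP (LK LD1_c24 LD2_c11 LD3_c28)) :=
  Lgr Lrot143 (Lpr_dt (f442310 IH) (Lpe (f442311 IH) (Lpe (f64896 IH) (Lpe (f442307 IH) (Lpe (f87755 IH) (Lpr_gf (f442300 IH) (Lpe (f442302 IH) (Lpr_gt (f712386 IH) (Lpr_dt (f87448 IH) (Lpn (LP (LK LD1_c24 LD2_c11 LD3_c28))))))))))))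
theorem f807997 : Led Lsl_gt (LP (LK LD1_c24 LD2_c2 LD3_c37)) = (LP (LK LD1_c24 LD2_c11 LD3_c28)) :=
  Lgr Lrot5 (Lpr_ft (f807989 IH) (Lpe (f807981 IH) (Lpr_gf (f712415 IH) (Lpn (LP (LK LD1_c24 LD2_c11 LD3_c28))))))
theorem f87456 : Led Lsl_dt (LP (LK LD1_c24 LD2_c11 LD3_c28)) = (LP (LK LD1_c14 LD2_c30 LD3_c19)) :=
  Lre_d IH (LK LD1_c24 LD2_c11 LD3_c28) (LK LD1_c14 LD2_c30 LD3_c19) Lrfl Lrfl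
theorem f65028 : Led Lsl_dt (LP (LK LD1_c14 LD2_c18 LD3_c44)) = (LP (LK LD1_c7 LD2_c35 LD3_c29)) :=
  Lre_d IH (LK LD1_c14 LD2_c18 LD3_c44) (LK LD1_c7 LD2_c35 LD3_c29) Lrfl Lrfl
theorem f811324 : Led Lsl_gf (LP (LK LD1_c14 LD2_c18 LD3_c44)) = (LP (LK LD1_c14 LD2_c37 LD3_c12)) :=
  Lgr Lrot144 (Lpr_dt (f65028 IH) (Lpe (K52.f117395 IH) (Lpr_dt (K4.f87446 IH) (Lpe (K4.f87451 IH) (Lpe (f87456 IH) (Lpe (f807997 IH) (Lpe (f665744 IH) (Lpe (f712477 IH) (Lpr_cf (f811316 IH) (Lpn (LP (LK LD1_c14 LD2_c37 LD3_c12))))))))))))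
theorem f809987 : Led Lsl_ft (LP (LK LD1_c14 LD2_c37 LD3_c12)) = (LP (LK LD1_c7 LD2_c45 LD3_c2)) :=
  Lre_f IH (LK LD1_c14 LD2_c37 LD3_c12) (LK LD1_c7 LD2_c45 LD3_c2) Lrfl Lrfl
theorem f811326 : Led Lsl_af (LP (LK LD1_c14 LD2_c21 LD3_c0)) = (LP (LK LD1_c7 LD2_c45 LD3_c2)) :=
  Lgr Lrot31 (Lpe (f65045 IH) (Lpr_gf (f811324 IH) (Lpr_ft (f809987 IH) (Lpn (LP (LK LD1_c7 LD2_c45 LD3_c2))))))
theorem f807010 : Led Lsl_et (LP (LK LD1_c14 LD2_c21 LD3_c0)) = (LP (LK LD1_c23 LD2_c58 LD3_c56)) :=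
  Lre_e IH (LK LD1_c14 LD2_c21 LD3_c0) (LK LD1_c23 LD2_c58 LD3_c56) Lrfl Lrfl
theorem f811333 : Led Lsl_at (LP (LK LD1_c23 LD2_c58 LD3_c56)) = (LP (LK LD1_c14 LD2_c37 LD3_c9)) :=
  Lgr Lrot80 (Lpe (f807010 IH) (Lpr_af (f811326 IH) (Lpe (f477891 IH) (Lpn (LP (LK LD1_c14 LD2_c37 LD3_c9))))))
theorem f477441 : Led Lsl_dt (LP (LK LD1_c14 LD2_c20 LD3_c60)) = (LP (LK LD1_c23 LD2_c58 LD3_c56)) :=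
  Lre_d IH (LK LD1_c14 LD2_c20 LD3_c60) (LK LD1_c23 LD2_c58 LD3_c56) Lrfl Lrfl
theorem f811339 : Led Lsl_af (LP (LK LD1_c14 LD2_c20 LD3_c60)) = (LP (LK LD1_c7 LD2_c45 LD3_c0)) :=
  Lgr Lrot117 (Lpr_dt (f477441 IH) (Lpr_at (f811333 IH) (Lpr_dt (f477890 IH) (Lpn (LP (LK LD1_c7 LD2_c45 LD3_c0))))))
theorem f477446 : Led Lsl_ct (LP (LK LD1_c14 LD2_c20 LD3_c60)) = (LP (LK LD1_c23 LD2_c58 LD3_c54)) :=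
  Lre_c IH (LK LD1_c14 LD2_c20 LD3_c60) (LK LD1_c23 LD2_c58 LD3_c54) Lrfl Lrfl
theorem f477887 : Led Lsl_ct (LP (LK LD1_c14 LD2_c37 LD3_c7)) = (LP (LK LD1_c7 LD2_c45 LD3_c0)) :=
  Lre_c IH (LK LD1_c14 LD2_c37 LD3_c7) (LK LD1_c7 LD2_c45 LD3_c0) Lrfl Lrfl
theorem f811343 : Led Lsl_at (LP (LK LD1_c23 LD2_c58 LD3_c54)) = (LP (LK LD1_c14 LD2_c37 LD3_c7)) :=
  Lgr Lrot107 (Lpe (f477446 IH) (Lpr_af (f811339 IH) (Lpe (f477887 IH) (Lpn (LP (LK LD1_c14 LD2_c37 LD3_c7))))))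
theorem f811552 : Led Lsl_et (LP (LK LD1_c14 LD2_c20 LD3_c59)) = (LP (LK LD1_c23 LD2_c58 LD3_c54)) :=
  Lre_e IH (LK LD1_c14 LD2_c20 LD3_c59) (LK LD1_c23 LD2_c58 LD3_c54) Lrfl Lrfl
theorem f811553 : Led Lsl_et (LP (LK LD1_c14 LD2_c37 LD3_c7)) = (LP (LK LD1_c7 LD2_c44 LD3_c61)) :=
  Lre_e IH (LK LD1_c14 LD2_c37 LD3_c7) (LK LD1_c7 LD2_c44 LD3_c61) Lrfl Lrfl
theorem f811554 : Led Lsl_af (LP (LK LD1_c14 LD2_c20 LD3_c59)) = (LP (LK LD1_c7 LD2_c44 LD3_c61)) :=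
  Lgr Lrot50 (Lpr_et (f811552 IH) (Lpr_at (f811343 IH) (Lpr_et (f811553 IH) (Lpn (LP (LK LD1_c7 LD2_c44 LD3_c61))))))
theorem f811748 : Led Lsl_gt (LP (LK LD1_c23 LD2_c58 LD3_c41)) = (LP (LK LD1_c14 LD2_c20 LD3_c59)) :=
  Lgr Lrot46 (Lpe (f712496 IH) (Lpr_ft (f811736 IH) (Lpe (f811554 IH) (Lpn (LP (LK LD1_c14 LD2_c20 LD3_c59))))))
theorem f712500 : Led Lsl_ct (LP (LK LD1_c14 LD2_c20 LD3_c59)) = (LP (LK LD1_c7 LD2_c36 LD3_c41)) :=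
  Lre_c IH (LK LD1_c14 LD2_c20 LD3_c59) (LK LD1_c7 LD2_c36 LD3_c41) Lrfl Lrfl
theorem f665574 : Led Lsl_ct (LP (LK LD1_c7 LD2_c36 LD3_c40)) = (LP (LK LD1_c3 LD2_c47 LD3_c48)) :=
  Lre_c IH (LK LD1_c7 LD2_c36 LD3_c40) (LK LD1_c3 LD2_c47 LD3_c48) Lrfl Lrfl
theorem f712479 : Led Lsl_et (LP (LK LD1_c14 LD2_c20 LD3_c58)) = (LP (LK LD1_c7 LD2_c36 LD3_c40)) :=
  Lre_e IH (LK LD1_c14 LD2_c20 LD3_c58) (LK LD1_c7 LD2_c36 LD3_c40) Lrfl Lrfl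
theorem f712480 : Led Lsl_gt (LP (LK LD1_c7 LD2_c36 LD3_c40)) = (LP (LK LD1_c7 LD2_c30 LD3_c60)) :=
  Lgr Lrot131 (Lpe (f712479 IH) (Lpr_dt (f712478 IH) (Lpe (f712472 IH) (Lpe (f64862 IH) (Lpr_gf (f712379 IH) (Lpe (K4.f96636 IH) (Lpr_dt (K4.f96635 IH) (Lpe (K3.f96619 IH) (Lpe (K3.f12563 IH) (Lpr_et (K6.f88433 IH) (Lpn (LP (LK LD1_c7 LD2_c30 LD3_c60)))))))))))))
theorem f126409 : Led Lsl_ft (LP (LK LD1_c12 LD2_c35 LD3_c23)) = (LP (LK LD1_c6 LD2_c34 LD3_c30)) :=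
  Lre_f IH (LK LD1_c12 LD2_c35 LD3_c23) (LK LD1_c6 LD2_c34 LD3_c30) Lrfl Lrfl
theorem f712482 : Led Lsl_gf (LP (LK LD1_c7 LD2_c36 LD3_c40)) = (LP (LK LD1_c12 LD2_c35 LD3_c23)) :=
  Lgr Lrot47 (Lpr_gt (f712480 IH) (Lpr_af (K6.f141437 IH) (Lpe (f126409 IH) (Lpn (LP (LK LD1_c12 LD2_c35 LD3_c23))))))
theorem f87942 : Led Lsl_et (LP (LK LD1_c7 LD2_c39 LD3_c60)) = (LP (LK LD1_c3 LD2_c49 LD3_c31)) :=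
  Lre_e IH (LK LD1_c7 LD2_c39 LD3_c60) (LK LD1_c3 LD2_c49 LD3_c31) Lrfl Lrfl
theorem f87943 : Led Lsl_dt (LP (LK LD1_c7 LD2_c39 LD3_c60)) = (LP (LK LD1_c14 LD2_c27 LD3_c2)) :=
  Lre_d IH (LK LD1_c7 LD2_c39 LD3_c60) (LK LD1_c14 LD2_c27 LD3_c2) Lrfl Lrfl
theorem f88304 : Led Lsl_dt (LP (LK LD1_c7 LD2_c32 LD3_c53)) = (LP (LK LD1_c14 LD2_c13 LD3_c55)) :=
  Lre_d IH (LK LD1_c7 LD2_c32 LD3_c53) (LK LD1_c14 LD2_c13 LD3_c55) Lrfl Lrfl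
theorem f88305 : Led Lsl_gf (LP (LK LD1_c14 LD2_c27 LD3_c2)) = (LP (LK LD1_c14 LD2_c13 LD3_c55)) :=
  Lgr Lrot134 (Lpe (f87943 IH) (Lpr_et (f87942 IH) (Lpr_gt (K58.f87233 IH) (Lpe (K5.f87331 IH) (Lpr_dt (K2.f63502 IH) (Lpe (K3.f87928 IH) (Lpr_df (K3.f88158 IH) (Lpr_et (K5.f88160 IH) (Lpr_gt (f88179 IH) (Lpr_dt (f88304 IH) (Lpn (LP (LK LD1_c14 LD2_c13 LD3_c55)))))))))))))
theorem f811750 : Led Lsl_cf (LP (LK LD1_c23 LD2_c58 LD3_c41)) = (LP (LK LD1_c14 LD2_c27 LD3_c2)) :=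
  Lgr Lrot169 (Lpr_gt (f811748 IH) (Lpr_ct (f712500 IH) (Lpe (f665571 IH) (Lpe (f665574 IH) (Lpr_gf (f712482 IH) (Lpe (K61.f141498 IH) (Lpr_gf (f127805 IH) (Lpe (f88180 IH) (Lpe (f88305 IH) (Lpn (LP (LK LD1_c14 LD2_c27 LD3_c2))))))))))))
theorem f811752 : Led Lsl_ct (LP (LK LD1_c23 LD2_c58 LD3_c41)) = (LP (LK LD1_c14 LD2_c27 LD3_c2)) :=
  Lgr Lrot59 (Lpr_cf (f811750 IH) (Lpn (LP (LK LD1_c14 LD2_c27 LD3_c2))))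
theorem f665584 : Led Lsl_ct (LP (LK LD1_c7 LD2_c36 LD3_c37)) = (LP (LK LD1_c14 LD2_c20 LD3_c49)) :=
  Lre_c IH (LK LD1_c7 LD2_c36 LD3_c37) (LK LD1_c14 LD2_c20 LD3_c49) Lrfl Lrfl
def v22449 : LQ := Led Lsl_gf (LP (LK LD1_c7 LD2_c36 LD3_c37))
theorem f806983 : Led Lsl_gf (LP (LK LD1_c7 LD2_c36 LD3_c37)) = v22449 :=
  Lrfl
theorem f810421 : Led Lsl_ff (LP (LK LD1_c7 LD2_c44 LD3_c48)) = v22449 :=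
  Lgr Lrot52 (Lpr_at (f810415 IH) (Lpe (f64073 IH) (Lpr_gf (f806983 IH) (Lpn v22449))))
theorem f810423 : Led Lsl_ft (LP (LK LD1_c7 LD2_c44 LD3_c48)) = v22449 :=
  Lgr Lrot48 (Lpr_ff (f810421 IH) (Lpn v22449))
theorem f810424 : Led Lsl_df (LP (LK LD1_c14 LD2_c31 LD3_c42)) = v22449 :=
  Lgr Lrot78 (Lpr_ft (f666453 IH) (Lpr_dt (f441329 IH) (Lpr_ft (f810423 IH) (Lpn v22449))))
theorem f810219 : Led Lsl_gf (LP (LK LD1_c7 LD2_c45 LD3_c10)) = (LP (LK LD1_c14 LD2_c31 LD3_c42)) :=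
  Lgr Lrot138 (Lpr_dt (K1.f65150 IH) (Lpr_gt (K1.f65172 IH) (Lpe (K1.f65173 IH) (Lpr_et (K1.f65174 IH) (Lpr_gt (K1.f15048 IH) (Lpe (K4.f65184 IH) (Lpr_dt (K4.f65287 IH) (Lpr_gt (f115734 IH) (Lpe (f115737 IH) (Lpr_et (f810215 IH) (Lpn (LP (LK LD1_c14 LD2_c31 LD3_c42)))))))))))))
theorem f443240 : Led Lsl_ct (LP (LK LD1_c7 LD2_c45 LD3_c10)) = (LP (LK LD1_c14 LD2_c37 LD3_c29)) :=
  Lre_c IH (LK LD1_c7 LD2_c45 LD3_c10) (LK LD1_c14 LD2_c37 LD3_c29) Lrfl Lrfl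
theorem f88312 : Led Lsl_ct (LP (LK LD1_c14 LD2_c26 LD3_c60)) = (LP (LK LD1_c7 LD2_c39 LD3_c60)) :=
  Lre_c IH (LK LD1_c14 LD2_c26 LD3_c60) (LK LD1_c7 LD2_c39 LD3_c60) Lrfl Lrfl
theorem f811768 : Led Lsl_gt (LP (LK LD1_c14 LD2_c37 LD3_c29)) = (LP (LK LD1_c14 LD2_c26 LD3_c60)) :=
  Lgr Lrot150 (Lpe (f443240 IH) (Lpr_gf (f810219 IH) (Lpr_df (f810424 IH) (Lpe (f806983 IH) (Lpr_ct (f665584 IH) (Lpr_gt (f712496 IH) (Lpr_ct (f811752 IH) (Lpe (f87943 IH) (Lpe (f88312 IH) (Lpn (LP (LK LD1_c14 LD2_c26 LD3_c60))))))))))))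
theorem f811769 : Led Lsl_gt (LP (LK LD1_c14 LD2_c37 LD3_c29)) = (LP (LK LD1_c14 LD2_c26 LD3_c60)) :=
  Leop (Lpe (f811768 IH) (Lpn (LP (LK LD1_c14 LD2_c37 LD3_c29))))
theorem seed_1773 : LEOK LG_g (LK LD1_c14 LD2_c37 LD3_c29) :=
  Leoe_g (LK LD1_c14 LD2_c37 LD3_c29) (f811769 IH)
theorem f666854 : Led Lsl_ff (LP (LK LD1_c3 LD2_c51 LD3_c40)) = K48.v7575 :=
  Lgr Lrot3 (Lpr_ft (K48.f666852 IH) (Lpn K48.v7575))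
theorem f666851 : Led Lsl_ct K48.v2679 = K48.v7575 :=
  Lgr Lrot59 (Lpr_cf (K48.f666850 IH) (Lpn K48.v7575))
theorem f811168 : K48.v7575 = (LP (LK LD1_c7 LD2_c36 LD3_c36)) :=
  Lefun (Lecon (f666851 IH) (f811156 IH)) (K61.f63972 IH)
def v22447 : LQ := Led Lsl_dt (LP (LK LD1_c7 LD2_c36 LD3_c36))
theorem f806974 : Led Lsl_dt (LP (LK LD1_c7 LD2_c36 LD3_c36)) = v22447 :=
  Lrfl
theorem f806975 : Led Lsl_df (LP (LK LD1_c7 LD2_c36 LD3_c36)) = v22447 :=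
  Lgr Lrot38 (Lpr_dt (f806974 IH) (Lpn v22447))
theorem f103883 : Led Lsl_dt (LP (LK LD1_c3 LD2_c51 LD3_c40)) = (LP (LK LD1_c7 LD2_c44 LD3_c59)) :=
  Lre_d IH (LK LD1_c3 LD2_c51 LD3_c40) (LK LD1_c7 LD2_c44 LD3_c59) Lrfl Lrfl
theorem f811772 : Led Lsl_ff v22447 = (LP (LK LD1_c7 LD2_c44 LD3_c59)) :=
  Lgr Lrot19 (Lpe (f806975 IH) (Lpq (f811168 IH) (Lpe (f666854 IH) (Lpr_dt (f103883 IH) (Lpn (LP (LK LD1_c7 LD2_c44 LD3_c59)))))))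
theorem f530331 : Led Lsl_dt (LP (LK LD1_c7 LD2_c44 LD3_c61)) = (LP (LK LD1_c14 LD2_c37 LD3_c6)) :=
  Lre_d IH (LK LD1_c7 LD2_c44 LD3_c61) (LK LD1_c14 LD2_c37 LD3_c6) Lrfl Lrfl
theorem f811557 : Led Lsl_at (LP (LK LD1_c14 LD2_c20 LD3_c59)) = (LP (LK LD1_c7 LD2_c44 LD3_c61)) :=
  Lgr Lrot100 (Lpr_af (f811554 IH) (Lpn (LP (LK LD1_c7 LD2_c44 LD3_c61))))
theorem f811576 : Led Lsl_ff (LP (LK LD1_c14 LD2_c20 LD3_c59)) = (LP (LK LD1_c7 LD2_c44 LD3_c50)) :=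
  Lgr Lrot103 (Lpr_at (f811557 IH) (Lpe (f530330 IH) (Lpe (K48.f530329 IH) (Lpe (K61.f103876 IH) (Lpe (K61.f103882 IH) (Lpe (K61.f530344 IH) (Lpe (K61.f788978 IH) (Lpr_cf (K61.f788972 IH) (Lpe (K61.f530343 IH) (Lpn (LP (LK LD1_c7 LD2_c44 LD3_c50))))))))))))
theorem f811585 : Led Lsl_ft (LP (LK LD1_c14 LD2_c20 LD3_c59)) = (LP (LK LD1_c7 LD2_c44 LD3_c50)) :=
  Lgr Lrot48 (Lpr_ff (f811576 IH) (Lpn (LP (LK LD1_c7 LD2_c44 LD3_c50))))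
theorem f806980 : Led Lsl_dt (LP (LK LD1_c23 LD2_c58 LD3_c53)) = (LP (LK LD1_c14 LD2_c20 LD3_c59)) :=
  Lre_d IH (LK LD1_c23 LD2_c58 LD3_c53) (LK LD1_c14 LD2_c20 LD3_c59) Lrfl Lrfl
theorem f811591 : Led Lsl_ff (LP (LK LD1_c23 LD2_c58 LD3_c53)) = (LP (LK LD1_c14 LD2_c36 LD3_c49)) :=
  Lgr Lrot19 (Lpr_dt (f806980 IH) (Lpr_ft (f811585 IH) (Lpr_dt (K61.f530343 IH) (Lpn (LP (LK LD1_c14 LD2_c36 LD3_c49))))))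
theorem f665573 : Led Lsl_dt (LP (LK LD1_c14 LD2_c20 LD3_c59)) = (LP (LK LD1_c23 LD2_c58 LD3_c53)) :=
  Lre_d IH (LK LD1_c14 LD2_c20 LD3_c59) (LK LD1_c23 LD2_c58 LD3_c53) Lrfl Lrfl
theorem f666996 : Led Lsl_dt (LP (LK LD1_c14 LD2_c37 LD3_c6)) = (LP (LK LD1_c7 LD2_c44 LD3_c61)) :=
  Lre_d IH (LK LD1_c14 LD2_c37 LD3_c6) (LK LD1_c7 LD2_c44 LD3_c61) Lrfl Lrfl
theorem f811559 : Led Lsl_at (LP (LK LD1_c23 LD2_c58 LD3_c53)) = (LP (LK LD1_c14 LD2_c37 LD3_c6)) :=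
  Lgr Lrot51 (Lpe (f665573 IH) (Lpr_af (f811554 IH) (Lpe (f666996 IH) (Lpn (LP (LK LD1_c14 LD2_c37 LD3_c6))))))
theorem f788980 : Led Lsl_gt (LP (LK LD1_c14 LD2_c36 LD3_c49)) = (LP (LK LD1_c24 LD2_c20 LD3_c9)) :=
  Lre_g IH (LK LD1_c14 LD2_c36 LD3_c49) (LK LD1_c24 LD2_c20 LD3_c9) Lrfl Lrfl
theorem f811594 : Led Lsl_gf (LP (LK LD1_c14 LD2_c37 LD3_c6)) = (LP (LK LD1_c24 LD2_c20 LD3_c9)) :=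
  Lgr Lrot76 (Lpe (f811559 IH) (Lpr_ff (f811591 IH) (Lpr_gt (f788980 IH) (Lpn (LP (LK LD1_c24 LD2_c20 LD3_c9))))))
theorem f666887 : Led Lsl_ct (LP (LK LD1_c7 LD2_c44 LD3_c61)) = (LP (LK LD1_c3 LD2_c51 LD3_c41)) :=
  Lre_c IH (LK LD1_c7 LD2_c44 LD3_c61) (LK LD1_c3 LD2_c51 LD3_c41) Lrfl Lrfl
theorem f811596 : Led Lsl_dt (LP (LK LD1_c14 LD2_c37 LD3_c17)) = (LP (LK LD1_c24 LD2_c20 LD3_c9)) :=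
  Lgr Lrot57 (Lpe (K61.f666909 IH) (Lpe (K61.f103873 IH) (Lpr_gt (K61.f667085 IH) (Lpr_dt (K61.f103886 IH) (Lpr_gt (K61.f103884 IH) (Lpr_dt (K48.f530329 IH) (Lpe (f666887 IH) (Lpe (f666996 IH) (Lpr_gf (f811594 IH) (Lpn (LP (LK LD1_c24 LD2_c20 LD3_c9))))))))))))
theorem f88173 : Led Lsl_ft (LP (LK LD1_c14 LD2_c14 LD3_c0)) = (LP (LK LD1_c7 LD2_c32 LD3_c55)) :=
  Lre_f IH (LK LD1_c14 LD2_c14 LD3_c0) (LK LD1_c7 LD2_c32 LD3_c55) Lrfl Lrfl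
theorem f88185 : Led Lsl_ct (LP (LK LD1_c7 LD2_c32 LD3_c55)) = (LP (LK LD1_c14 LD2_c13 LD3_c61)) :=
  Lre_c IH (LK LD1_c7 LD2_c32 LD3_c55) (LK LD1_c14 LD2_c13 LD3_c61) Lrfl Lrfl
theorem f666916 : Led Lsl_ft (LP (LK LD1_c14 LD2_c13 LD3_c61)) = (LP (LK LD1_c14 LD2_c37 LD3_c17)) :=
  Lgr Lrot4 (Lpe (f88185 IH) (Lpe (f88173 IH) (Lpr_cf (K61.f666910 IH) (Lpn (LP (LK LD1_c14 LD2_c37 LD3_c17))))))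
theorem f666924 : Led Lsl_ff (LP (LK LD1_c14 LD2_c13 LD3_c61)) = (LP (LK LD1_c14 LD2_c37 LD3_c17)) :=
  Lgr Lrot3 (Lpr_ft (f666916 IH) (Lpn (LP (LK LD1_c14 LD2_c37 LD3_c17))))
theorem f788932 : Led Lsl_af (LP (LK LD1_c14 LD2_c37 LD3_c18)) = (LP (LK LD1_c14 LD2_c13 LD3_c61)) :=
  Lgr Lrot45 (Lpr_ft (K61.f788930 IH) (Lpe (K61.f788926 IH) (Lpe (f666924 IH) (Lpn (LP (LK LD1_c14 LD2_c13 LD3_c61))))))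
theorem f788955 : Led Lsl_gt (LP (LK LD1_c14 LD2_c37 LD3_c17)) = (LP (LK LD1_c7 LD2_c45 LD3_c9)) :=
  Lgr Lrot5 (Lpe (f666924 IH) (Lpe (f788932 IH) (Lpr_gf (K61.f788952 IH) (Lpn (LP (LK LD1_c7 LD2_c45 LD3_c9))))))
theorem f667094 : Led Lsl_ct (LP (LK LD1_c7 LD2_c45 LD3_c9)) = (LP (LK LD1_c3 LD2_c51 LD3_c44)) :=
  Lre_c IH (LK LD1_c7 LD2_c45 LD3_c9) (LK LD1_c3 LD2_c51 LD3_c44) Lrfl Lrfl
theorem f530351 : Led Lsl_ct (LP (LK LD1_c1 LD2_c52 LD3_c36)) = (LP (LK LD1_c3 LD2_c51 LD3_c45)) :=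
  Lre_c IH (LK LD1_c1 LD2_c52 LD3_c36) (LK LD1_c3 LD2_c51 LD3_c45) Lrfl Lrfl
theorem f667024 : Led Lsl_dt (LP (LK LD1_c7 LD2_c45 LD3_c15)) = (LP (LK LD1_c3 LD2_c51 LD3_c45)) :=
  Lre_d IH (LK LD1_c7 LD2_c45 LD3_c15) (LK LD1_c3 LD2_c51 LD3_c45) Lrfl Lrfl
theorem f788995 : Led Lsl_ct (LP (LK LD1_c14 LD2_c37 LD3_c45)) = (LP (LK LD1_c7 LD2_c45 LD3_c15)) :=
  Lre_c IH (LK LD1_c14 LD2_c37 LD3_c45) (LK LD1_c7 LD2_c45 LD3_c15) Lrfl Lrfl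
theorem f788994 : Led Lsl_gt (LP (LK LD1_c24 LD2_c19 LD3_c40)) = (LP (LK LD1_c14 LD2_c37 LD3_c45)) :=
  Lre_g IH (LK LD1_c24 LD2_c19 LD3_c40) (LK LD1_c14 LD2_c37 LD3_c45) Lrfl Lrfl
theorem f811598 : Led Lsl_ct (LP (LK LD1_c14 LD2_c37 LD3_c6)) = (LP (LK LD1_c24 LD2_c19 LD3_c40)) :=
  Lgr Lrot152 (Lpr_gf (f811594 IH) (Lpe (f811596 IH) (Lpr_gt (f788955 IH) (Lpr_ct (f667094 IH) (Lpr_gt (K1.f65172 IH) (Lpr_ct (f530351 IH) (Lpe (f667024 IH) (Lpe (f788995 IH) (Lpe (f788994 IH) (Lpn (LP (LK LD1_c24 LD2_c19 LD3_c40))))))))))))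
theorem f461325 : Led Lsl_dt (LP (LK LD1_c3 LD2_c51 LD3_c45)) = (LP (LK LD1_c7 LD2_c45 LD3_c15)) :=
  Lre_d IH (LK LD1_c3 LD2_c51 LD3_c45) (LK LD1_c7 LD2_c45 LD3_c15) Lrfl Lrfl
theorem f811600 : Led Lsl_df (LP (LK LD1_c14 LD2_c37 LD3_c17)) = (LP (LK LD1_c24 LD2_c20 LD3_c9)) :=
  Lgr Lrot155 (Lpr_gt (f788955 IH) (Lpr_ct (f667094 IH) (Lpr_gt (K1.f65172 IH) (Lpr_ct (f530351 IH) (Lpr_dt (f461325 IH) (Lpe (f788995 IH) (Lpe (f788994 IH) (Lpe (f811598 IH) (Lpr_gf (f811594 IH) (Lpn (LP (LK LD1_c24 LD2_c20 LD3_c9))))))))))))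
theorem f127802 : Led Lsl_dt (LP (LK LD1_c14 LD2_c14 LD3_c0)) = (LP (LK LD1_c7 LD2_c32 LD3_c56)) :=
  Lre_d IH (LK LD1_c14 LD2_c14 LD3_c0) (LK LD1_c7 LD2_c32 LD3_c56) Lrfl Lrfl
theorem f666870 : Led Lsl_ff (LP (LK LD1_c7 LD2_c30 LD3_c60)) = (LP (LK LD1_c7 LD2_c44 LD3_c44)) :=
  Lgr Lrot30 (Lpe (K6.f127813 IH) (Lpr_ft (K24.f126400 IH) (Lpr_at (K61.f666859 IH) (Lpn (LP (LK LD1_c7 LD2_c44 LD3_c44))))))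
theorem f666872 : Led Lsl_ct (LP (LK LD1_c7 LD2_c32 LD3_c56)) = (LP (LK LD1_c7 LD2_c44 LD3_c44)) :=
  Lgr Lrot40 (Lpe (K5.f88445 IH) (Lpe (K6.f88434 IH) (Lpr_ff (f666870 IH) (Lpn (LP (LK LD1_c7 LD2_c44 LD3_c44))))))
theorem f666865 : Led Lsl_dt (LP (LK LD1_c7 LD2_c44 LD3_c44)) = (LP (LK LD1_c14 LD2_c36 LD3_c33)) :=
  Lre_d IH (LK LD1_c7 LD2_c44 LD3_c44) (LK LD1_c14 LD2_c36 LD3_c33) Lrfl Lrfl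
theorem f666883 : Led Lsl_ct (LP (LK LD1_c14 LD2_c36 LD3_c33)) = (LP (LK LD1_c24 LD2_c19 LD3_c55)) :=
  Lre_c IH (LK LD1_c14 LD2_c36 LD3_c33) (LK LD1_c24 LD2_c19 LD3_c55) Lrfl Lrfl
theorem f666884 : Led Lsl_dt (LP (LK LD1_c24 LD2_c19 LD3_c55)) = (LP (LK LD1_c31 LD2_c28 LD3_c44)) :=
  Lre_d IH (LK LD1_c24 LD2_c19 LD3_c55) (LK LD1_c31 LD2_c28 LD3_c44) Lrfl Lrfl
theorem f666914 : Led Lsl_ct (LP (LK LD1_c14 LD2_c14 LD3_c0)) = (LP (LK LD1_c14 LD2_c37 LD3_c17)) :=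
  Lgr Lrot59 (Lpr_cf (K61.f666910 IH) (Lpn (LP (LK LD1_c14 LD2_c37 LD3_c17))))
theorem f666874 : Led Lsl_dt (LP (LK LD1_c14 LD2_c36 LD3_c33)) = (LP (LK LD1_c7 LD2_c44 LD3_c44)) :=
  Lre_d IH (LK LD1_c14 LD2_c36 LD3_c33) (LK LD1_c7 LD2_c44 LD3_c44) Lrfl Lrfl
theorem f666894 : Led Lsl_ct (LP (LK LD1_c24 LD2_c19 LD3_c55)) = (LP (LK LD1_c14 LD2_c36 LD3_c33)) :=
  Lre_c IH (LK LD1_c24 LD2_c19 LD3_c55) (LK LD1_c14 LD2_c36 LD3_c33) Lrfl Lrfl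
theorem f666901 : Led Lsl_dt (LP (LK LD1_c31 LD2_c28 LD3_c44)) = (LP (LK LD1_c24 LD2_c19 LD3_c55)) :=
  Lre_d IH (LK LD1_c31 LD2_c28 LD3_c44) (LK LD1_c24 LD2_c19 LD3_c55) Lrfl Lrfl
theorem f788968 : Led Lsl_cf (LP (LK LD1_c31 LD2_c28 LD3_c44)) = (LP (LK LD1_c24 LD2_c20 LD3_c10)) :=
  Lgr Lrot118 (Lpr_dt (f666901 IH) (Lpr_ct (f666894 IH) (Lpr_dt (f666874 IH) (Lpe (K61.f666863 IH) (Lpr_dt (K5.f127790 IH) (Lpr_ct (f666914 IH) (Lpr_af (K61.f788926 IH) (Lpe (K61.f788930 IH) (Lpr_dt (K61.f788958 IH) (Lpn (LP (LK LD1_c24 LD2_c20 LD3_c10))))))))))))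
theorem f789006 : Led Lsl_ct (LP (LK LD1_c31 LD2_c28 LD3_c44)) = (LP (LK LD1_c24 LD2_c20 LD3_c10)) :=
  Lgr Lrot59 (Lpr_cf (f788968 IH) (Lpn (LP (LK LD1_c24 LD2_c20 LD3_c10))))
theorem f88196 : Led Lsl_dt (LP (LK LD1_c23 LD2_c49 LD3_c35)) = (LP (LK LD1_c14 LD2_c13 LD3_c61)) :=
  Lre_d IH (LK LD1_c23 LD2_c49 LD3_c35) (LK LD1_c14 LD2_c13 LD3_c61) Lrfl Lrfl
theorem f788964 : Led Lsl_af (LP (LK LD1_c23 LD2_c49 LD3_c35)) = (LP (LK LD1_c24 LD2_c20 LD3_c10)) :=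
  Lgr Lrot117 (Lpr_dt (f88196 IH) (Lpe (f788932 IH) (Lpr_dt (K61.f788958 IH) (Lpn (LP (LK LD1_c24 LD2_c20 LD3_c10))))))
theorem f88444 : Led Lsl_ct (LP (LK LD1_c23 LD2_c49 LD3_c35)) = (LP (LK LD1_c31 LD2_c14 LD3_c15)) :=
  Lre_c IH (LK LD1_c23 LD2_c49 LD3_c35) (LK LD1_c31 LD2_c14 LD3_c15) Lrfl Lrfl
theorem f789008 : Led Lsl_af (LP (LK LD1_c31 LD2_c28 LD3_c44)) = (LP (LK LD1_c31 LD2_c14 LD3_c15)) :=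
  Lgr Lrot68 (Lpr_ct (f789006 IH) (Lpe (f788964 IH) (Lpr_ct (f88444 IH) (Lpn (LP (LK LD1_c31 LD2_c14 LD3_c15))))))
theorem f789010 : Led Lsl_at (LP (LK LD1_c31 LD2_c28 LD3_c44)) = (LP (LK LD1_c31 LD2_c14 LD3_c15)) :=
  Lgr Lrot100 (Lpr_af (f789008 IH) (Lpn (LP (LK LD1_c31 LD2_c14 LD3_c15))))
theorem f88452 : Led Lsl_ct (LP (LK LD1_c31 LD2_c14 LD3_c15)) = (LP (LK LD1_c23 LD2_c49 LD3_c35)) :=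
  Lre_c IH (LK LD1_c31 LD2_c14 LD3_c15) (LK LD1_c23 LD2_c49 LD3_c35) Lrfl Lrfl
theorem f789012 : Led Lsl_af (LP (LK LD1_c24 LD2_c20 LD3_c10)) = (LP (LK LD1_c23 LD2_c49 LD3_c35)) :=
  Lgr Lrot68 (Lpe (f788968 IH) (Lpr_at (f789010 IH) (Lpr_ct (f88452 IH) (Lpn (LP (LK LD1_c23 LD2_c49 LD3_c35))))))
theorem f811604 : Led Lsl_ff (LP (LK LD1_c23 LD2_c49 LD3_c35)) = (LP (LK LD1_c24 LD2_c20 LD3_c9)) :=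
  Lgr Lrot103 (Lpe (f789012 IH) (Lpe (f789006 IH) (Lpe (f666884 IH) (Lpe (f666883 IH) (Lpe (f666865 IH) (Lpe (f666872 IH) (Lpe (f127802 IH) (Lpr_cf (K61.f666910 IH) (Lpr_df (f811600 IH) (Lpn (LP (LK LD1_c24 LD2_c20 LD3_c9))))))))))))
theorem f811606 : Led Lsl_gf (LP (LK LD1_c24 LD2_c20 LD3_c10)) = (LP (LK LD1_c14 LD2_c37 LD3_c6)) :=
  Lgr Lrot76 (Lpr_af (f789012 IH) (Lpr_ff (f811604 IH) (Lpe (f811594 IH) (Lpn (LP (LK LD1_c14 LD2_c37 LD3_c6))))))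
theorem f666879 : Led Lsl_ft (LP (LK LD1_c7 LD2_c30 LD3_c60)) = (LP (LK LD1_c7 LD2_c44 LD3_c44)) :=
  Lgr Lrot48 (Lpr_ff (f666870 IH) (Lpn (LP (LK LD1_c7 LD2_c44 LD3_c44))))
theorem f88442 : Led Lsl_dt (LP (LK LD1_c14 LD2_c11 LD3_c19)) = (LP (LK LD1_c7 LD2_c30 LD3_c60)) :=
  Lre_d IH (LK LD1_c14 LD2_c11 LD3_c19) (LK LD1_c7 LD2_c30 LD3_c60) Lrfl Lrfl
theorem f666890 : Led Lsl_ff (LP (LK LD1_c14 LD2_c11 LD3_c19)) = (LP (LK LD1_c14 LD2_c36 LD3_c33)) :=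
  Lgr Lrot19 (Lpr_dt (f88442 IH) (Lpr_ft (f666879 IH) (Lpr_dt (f666865 IH) (Lpn (LP (LK LD1_c14 LD2_c36 LD3_c33))))))
theorem f141462 : Led Lsl_ft (LP (LK LD1_c12 LD2_c35 LD3_c22)) = (LP (LK LD1_c21 LD2_c41 LD3_c46)) :=
  Lre_f IH (LK LD1_c12 LD2_c35 LD3_c22) (LK LD1_c21 LD2_c41 LD3_c46) Lrfl Lrfl
theorem f666892 : Led Lsl_at (LP (LK LD1_c21 LD2_c41 LD3_c46)) = (LP (LK LD1_c14 LD2_c36 LD3_c33)) :=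
  Lgr Lrot66 (Lpe (f141462 IH) (Lpe (K56.f141453 IH) (Lpr_ff (f666890 IH) (Lpn (LP (LK LD1_c14 LD2_c36 LD3_c33))))))
theorem f103856 : Led Lsl_gt (LP (LK LD1_c12 LD2_c35 LD3_c22)) = (LP (LK LD1_c21 LD2_c41 LD3_c44)) :=
  Lre_g IH (LK LD1_c12 LD2_c35 LD3_c22) (LK LD1_c21 LD2_c41 LD3_c44) Lrfl Lrfl
theorem f666903 : Led Lsl_gt (LP (LK LD1_c21 LD2_c41 LD3_c44)) = (LP (LK LD1_c14 LD2_c36 LD3_c33)) :=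
  Lgr Lrot46 (Lpe (f103856 IH) (Lpr_ft (f141462 IH) (Lpr_at (f666892 IH) (Lpn (LP (LK LD1_c14 LD2_c36 LD3_c33))))))
theorem f530319 : Led Lsl_ct (LP (LK LD1_c3 LD2_c51 LD3_c36)) = (LP (LK LD1_c1 LD2_c52 LD3_c34)) :=
  Lre_c IH (LK LD1_c3 LD2_c51 LD3_c36) (LK LD1_c1 LD2_c52 LD3_c34) Lrfl Lrfl
theorem f665596 : Led Lsl_ct (LP (LK LD1_c3 LD2_c47 LD3_c50)) = (LP (LK LD1_c6 LD2_c39 LD3_c60)) :=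
  Lre_c IH (LK LD1_c3 LD2_c47 LD3_c50) (LK LD1_c6 LD2_c39 LD3_c60) Lrfl Lrfl
theorem f666767 : Led Lsl_dt (LP (LK LD1_c6 LD2_c39 LD3_c60)) = (LP (LK LD1_c12 LD2_c45 LD3_c52)) :=
  Lre_d IH (LK LD1_c6 LD2_c39 LD3_c60) (LK LD1_c12 LD2_c45 LD3_c52) Lrfl Lrfl
theorem f666840 : Led Lsl_ct (LP (LK LD1_c21 LD2_c53 LD3_c8)) = (LP (LK LD1_c12 LD2_c45 LD3_c52)) :=
  Lre_c IH (LK LD1_c21 LD2_c53 LD3_c8) (LK LD1_c12 LD2_c45 LD3_c52) Lrfl Lrfl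
theorem f666841 : Led Lsl_gt (LP (LK LD1_c14 LD2_c36 LD3_c15)) = (LP (LK LD1_c21 LD2_c53 LD3_c8)) :=
  Lre_g IH (LK LD1_c14 LD2_c36 LD3_c15) (LK LD1_c21 LD2_c53 LD3_c8) Lrfl Lrfl
theorem f666974 : Led Lsl_ct (LP (LK LD1_c21 LD2_c41 LD3_c44)) = (LP (LK LD1_c14 LD2_c36 LD3_c15)) :=
  Lgr Lrot186 (Lpe (f103856 IH) (Lpr_dt (K56.f103892 IH) (Lpqs (K48.f666857 IH) (Lpe (K48.f666836 IH) (Lpr_ct (f530319 IH) (Lpr_gt (K1.f65126 IH) (Lpr_ct (f665596 IH) (Lpr_dt (f666767 IH) (Lpe (f666840 IH) (Lpe (f666841 IH) (Lpn (LP (LK LD1_c14 LD2_c36 LD3_c15)))))))))))))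
theorem f666976 : Led Lsl_cf (LP (LK LD1_c21 LD2_c41 LD3_c44)) = (LP (LK LD1_c14 LD2_c36 LD3_c15)) :=
  Lgr Lrot11 (Lpr_ct (f666974 IH) (Lpn (LP (LK LD1_c14 LD2_c36 LD3_c15))))
theorem f666979 : Led Lsl_gt (LP (LK LD1_c7 LD2_c44 LD3_c37)) = (LP (LK LD1_c14 LD2_c36 LD3_c15)) :=
  Lre_g IH (LK LD1_c7 LD2_c44 LD3_c37) (LK LD1_c14 LD2_c36 LD3_c15) Lrfl Lrfl
theorem f666984 : Led Lsl_dt (LP (LK LD1_c7 LD2_c44 LD3_c37)) = (LP (LK LD1_c14 LD2_c36 LD3_c18)) :=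
  Lre_d IH (LK LD1_c7 LD2_c44 LD3_c37) (LK LD1_c14 LD2_c36 LD3_c18) Lrfl Lrfl
theorem f666983 : Led Lsl_gt (LP (LK LD1_c14 LD2_c36 LD3_c18)) = (LP (LK LD1_c24 LD2_c19 LD3_c40)) :=
  Lre_g IH (LK LD1_c14 LD2_c36 LD3_c18) (LK LD1_c24 LD2_c19 LD3_c40) Lrfl Lrfl
theorem f811608 : Led Lsl_ct (LP (LK LD1_c24 LD2_c19 LD3_c40)) = (LP (LK LD1_c14 LD2_c37 LD3_c6)) :=
  Lgr Lrot152 (Lpe (f666983 IH) (Lpe (f666984 IH) (Lpr_gt (f666979 IH) (Lpe (f666976 IH) (Lpr_gt (f666903 IH) (Lpr_ct (f666883 IH) (Lpe (f666901 IH) (Lpr_cf (f788968 IH) (Lpr_gf (f811606 IH) (Lpn (LP (LK LD1_c14 LD2_c37 LD3_c6))))))))))))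
theorem f666855 : Led Lsl_ct (LP (LK LD1_c7 LD2_c44 LD3_c59)) = (LP (LK LD1_c14 LD2_c37 LD3_c2)) :=
  Lre_c IH (LK LD1_c7 LD2_c44 LD3_c59) (LK LD1_c14 LD2_c37 LD3_c2) Lrfl Lrfl
theorem f788986 : Led Lsl_df (LP (LK LD1_c24 LD2_c19 LD3_c41)) = (LP (LK LD1_c14 LD2_c37 LD3_c2)) :=
  Lgr Lrot38 (Lpr_dt (K61.f788978 IH) (Lpn (LP (LK LD1_c14 LD2_c37 LD3_c2))))
theorem f788975 : Led Lsl_ct (LP (LK LD1_c24 LD2_c19 LD3_c41)) = (LP (LK LD1_c14 LD2_c36 LD3_c49)) :=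
  Lgr Lrot59 (Lpr_cf (K61.f788972 IH) (Lpn (LP (LK LD1_c14 LD2_c36 LD3_c49))))
theorem f530320 : Led Lsl_dt (LP (LK LD1_c3 LD2_c51 LD3_c37)) = (LP (LK LD1_c1 LD2_c52 LD3_c34)) :=
  Lre_d IH (LK LD1_c3 LD2_c51 LD3_c37) (LK LD1_c1 LD2_c52 LD3_c34) Lrfl Lrfl
theorem f666837 : Led Lsl_dt (LP (LK LD1_c3 LD2_c51 LD3_c36)) = (LP (LK LD1_c7 LD2_c44 LD3_c46)) :=
  Lre_d IH (LK LD1_c3 LD2_c51 LD3_c36) (LK LD1_c7 LD2_c44 LD3_c46) Lrfl Lrfl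
theorem f666839 : Led Lsl_ct (LP (LK LD1_c7 LD2_c44 LD3_c46)) = (LP (LK LD1_c14 LD2_c36 LD3_c39)) :=
  Lre_c IH (LK LD1_c7 LD2_c44 LD3_c46) (LK LD1_c14 LD2_c36 LD3_c39) Lrfl Lrfl
theorem f811685 : Led Lsl_df (LP (LK LD1_c24 LD2_c19 LD3_c40)) = (LP (LK LD1_c14 LD2_c36 LD3_c39)) :=
  Lgr Lrot43 (Lpr_ct (f811608 IH) (Lpr_dt (f666996 IH) (Lpr_ct (f666887 IH) (Lpr_dt (f477870 IH) (Lpr_ct (K48.f103880 IH) (Lpr_dt (f103883 IH) (Lpr_ct (f666855 IH) (Lpe (f788986 IH) (Lpr_ct (f788975 IH) (Lpr_dt (K61.f666856 IH) (Lpr_ct (K61.f662143 IH) (Lpr_dt (f530320 IH) (Lpr_ct (K48.f530323 IH) (Lpr_dt (f666837 IH) (Lpr_ct (f666839 IH) (Lpn (LP (LK LD1_c14 LD2_c36 LD3_c39))))))))))))))))))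
theorem f811693 : Led Lsl_dt (LP (LK LD1_c24 LD2_c19 LD3_c40)) = (LP (LK LD1_c14 LD2_c36 LD3_c39)) :=
  Lgr Lrot42 (Lpr_df (f811685 IH) (Lpn (LP (LK LD1_c14 LD2_c36 LD3_c39))))
theorem f530328 : Led Lsl_ct (LP (LK LD1_c14 LD2_c36 LD3_c39)) = (LP (LK LD1_c7 LD2_c44 LD3_c46)) :=
  Lre_c IH (LK LD1_c14 LD2_c36 LD3_c39) (LK LD1_c7 LD2_c44 LD3_c46) Lrfl Lrfl
theorem f811775 : Led Lsl_at v22447 = (LP (LK LD1_c7 LD2_c44 LD3_c46)) :=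
  Lgr Lrot33 (Lpr_ff (f811772 IH) (Lpr_dt (K61.f103882 IH) (Lpr_ct (K61.f103876 IH) (Lpr_dt (K48.f530329 IH) (Lpr_ct (f530330 IH) (Lpr_dt (f530331 IH) (Lpr_ct (f811598 IH) (Lpr_dt (f811693 IH) (Lpr_ct (f530328 IH) (Lpn (LP (LK LD1_c7 LD2_c44 LD3_c46))))))))))))
theorem f810439 : Led Lsl_gt (LP (LK LD1_c14 LD2_c36 LD3_c38)) = (LP (LK LD1_c7 LD2_c44 LD3_c46)) :=
  Lre_g IH (LK LD1_c14 LD2_c36 LD3_c38) (LK LD1_c7 LD2_c44 LD3_c46) Lrfl Lrfl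
theorem f811777 : Led Lsl_gt (LP (LK LD1_c7 LD2_c44 LD3_c59)) = (LP (LK LD1_c14 LD2_c36 LD3_c38)) :=
  Lgr Lrot5 (Lpe (f811772 IH) (Lpr_at (f811775 IH) (Lpe (f810439 IH) (Lpn (LP (LK LD1_c14 LD2_c36 LD3_c38))))))
theorem f811778 : Led Lsl_gt (LP (LK LD1_c7 LD2_c44 LD3_c59)) = (LP (LK LD1_c14 LD2_c36 LD3_c38)) :=
  Leop (Lpe (f811777 IH) (Lpn (LP (LK LD1_c7 LD2_c44 LD3_c59))))
theorem seed_1774 : LEOK LG_g (LK LD1_c7 LD2_c44 LD3_c59) :=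
  Leoe_g (LK LD1_c7 LD2_c44 LD3_c59) (f811778 IH)
def v22603 : LQ := Led Lsl_ft (LP (LK LD1_c7 LD2_c39 LD3_c53))
theorem f808606 : Led Lsl_ft (LP (LK LD1_c7 LD2_c39 LD3_c53)) = v22603 :=
  Lrfl
theorem f808608 : Led Lsl_ff (LP (LK LD1_c7 LD2_c39 LD3_c53)) = v22603 :=
  Lgr Lrot3 (Lpr_ft (f808606 IH) (Lpn v22603))
theorem f89281 : Led Lsl_bt (LP (LK LD1_c7 LD2_c39 LD3_c53)) = (LP (LK LD1_c3 LD2_c49 LD3_c30)) :=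
  Lre_b IH (LK LD1_c7 LD2_c39 LD3_c53) (LK LD1_c3 LD2_c49 LD3_c30) Lrfl Lrfl
def v7495 : LQ := Led Lsl_ft (LP (LK LD1_c3 LD2_c49 LD3_c30))
theorem f666059 : Led Lsl_ft (LP (LK LD1_c3 LD2_c49 LD3_c30)) = v7495 :=
  Lrfl
theorem f808609 : Led Lsl_bt v7495 = v22603 :=
  Lgr Lrot35 (Lpe (f666059 IH) (Lpe (f89281 IH) (Lpr_ff (f808608 IH) (Lpn v22603))))
def v22374 : LQ := Led Lsl_bt (LP (LK LD1_c7 LD2_c35 LD3_c11))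
theorem f806485 : Led Lsl_bt (LP (LK LD1_c7 LD2_c35 LD3_c11)) = v22374 :=
  Lrfl
def v22613 : LQ := Led Lsl_at (LP (LK LD1_c7 LD2_c39 LD3_c60))
theorem f808713 : Led Lsl_at (LP (LK LD1_c7 LD2_c39 LD3_c60)) = v22613 :=
  Lrfl
theorem f666060 : Led Lsl_af (LP (LK LD1_c3 LD2_c49 LD3_c31)) = v7495 :=
  Lgr Lrot45 (Lpr_ft (f666053 IH) (Lpe (f666049 IH) (Lpr_ft (f666059 IH) (Lpn v7495))))
theorem f808716 : Led Lsl_ef v7495 = v22613 :=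
  Lgr Lrot20 (Lpe (f666060 IH) (Lpr_et (K61.f666057 IH) (Lpr_at (f808713 IH) (Lpn v22613))))
theorem f12071 : Led Lsl_et (LP (LK LD1_c14 LD2_c18 LD3_c14)) = (LP (LK LD1_c7 LD2_c35 LD3_c11)) :=
  Lre_e IH (LK LD1_c14 LD2_c18 LD3_c14) (LK LD1_c7 LD2_c35 LD3_c11) Lrfl Lrfl
def v7576 : LQ := Led Lsl_ft (LP (LK LD1_c3 LD2_c51 LD3_c36))
theorem f666991 : Led Lsl_ft (LP (LK LD1_c3 LD2_c51 LD3_c36)) = v7576 :=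
  Lrfl
theorem f666995 : Led Lsl_ff (LP (LK LD1_c3 LD2_c51 LD3_c36)) = v7576 :=
  Lgr Lrot3 (Lpr_ft (f666991 IH) (Lpn v7576))
theorem f666997 : Led Lsl_at (LP (LK LD1_c3 LD2_c51 LD3_c40)) = v7576 :=
  Lgr Lrot66 (Lpr_ff (f666854 IH) (Lpe (K48.f666848 IH) (Lpr_ff (f666995 IH) (Lpn v7576))))
theorem f811182 : (LP (LK LD1_c7 LD2_c36 LD3_c40)) = v7576 :=
  Lefun (Lecon (Lfl_ff (f806968 IH)) (f811160 IH)) (f666991 IH)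
theorem f712484 : Led Lsl_dt (LP (LK LD1_c7 LD2_c36 LD3_c40)) = (LP (LK LD1_c14 LD2_c20 LD3_c57)) :=
  Lre_d IH (LK LD1_c7 LD2_c36 LD3_c40) (LK LD1_c14 LD2_c20 LD3_c57) Lrfl Lrfl
theorem f811781 : Led Lsl_af (LP (LK LD1_c7 LD2_c44 LD3_c59)) = (LP (LK LD1_c14 LD2_c20 LD3_c57)) :=
  Lgr Lrot117 (Lpr_dt (K61.f103882 IH) (Lpr_at (f666997 IH) (Lpq (f811182 IH) (Lpr_dt (f712484 IH) (Lpn (LP (LK LD1_c14 LD2_c20 LD3_c57)))))))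
theorem f811791 : Led Lsl_ft (LP (LK LD1_c7 LD2_c44 LD3_c46)) = (LP (LK LD1_c14 LD2_c20 LD3_c57)) :=
  Lgr Lrot101 (Lpe (f811775 IH) (Lpr_ff (f811772 IH) (Lpr_af (f811781 IH) (Lpn (LP (LK LD1_c14 LD2_c20 LD3_c57))))))
theorem f666838 : Led Lsl_gt (LP (LK LD1_c7 LD2_c44 LD3_c46)) = (LP (LK LD1_c14 LD2_c36 LD3_c37)) :=
  Lre_g IH (LK LD1_c7 LD2_c44 LD3_c46) (LK LD1_c14 LD2_c36 LD3_c37) Lrfl Lrfl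
theorem f811793 : Led Lsl_gf (LP (LK LD1_c7 LD2_c44 LD3_c59)) = (LP (LK LD1_c14 LD2_c36 LD3_c37)) :=
  Lgr Lrot76 (Lpr_af (f811781 IH) (Lpe (f811791 IH) (Lpr_gt (f666838 IH) (Lpn (LP (LK LD1_c14 LD2_c36 LD3_c37))))))
theorem f441309 : Led Lsl_et (LP (LK LD1_c12 LD2_c39 LD3_c43)) = (LP (LK LD1_c6 LD2_c36 LD3_c57)) :=
  Lre_e IH (LK LD1_c12 LD2_c39 LD3_c43) (LK LD1_c6 LD2_c36 LD3_c57) Lrfl Lrfl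
theorem f666932 : Led Lsl_dt (LP (LK LD1_c12 LD2_c39 LD3_c43)) = (LP (LK LD1_c14 LD2_c36 LD3_c37)) :=
  Lgr Lrot56 (Lpr_et (f441309 IH) (Lpr_gt (f66186 IH) (Lpe (K3.f66122 IH) (Lpr_dt (K3.f64254 IH) (Lpr_gt (K2.f79090 IH) (Lpe (K3.f103828 IH) (Lpr_et (K6.f103838 IH) (Lpqs (K48.f666857 IH) (Lpe (K48.f666836 IH) (Lpr_dt (f666837 IH) (Lpr_gt (f666838 IH) (Lpn (LP (LK LD1_c14 LD2_c36 LD3_c37))))))))))))))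
theorem f811795 : Led Lsl_gt (LP (LK LD1_c13 LD2_c20 LD3_c42)) = (LP (LK LD1_c12 LD2_c39 LD3_c43)) :=
  Lgr Lrot94 (Lpe (K61.f63966 IH) (Lpr_gt (f789086 IH) (Lpqs (f807065 IH) (Lpr_dt (f441329 IH) (Lpr_gt (K48.f667022 IH) (Lpr_dt (f477870 IH) (Lpe (K61.f103876 IH) (Lpe (K61.f103882 IH) (Lpr_gf (f811793 IH) (Lpe (f666932 IH) (Lpn (LP (LK LD1_c12 LD2_c39 LD3_c43)))))))))))))
theorem f63791 : Led Lsl_gt (LP (LK LD1_c22 LD2_c37 LD3_c5)) = (LP (LK LD1_c13 LD2_c20 LD3_c42)) :=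
  Lre_g IH (LK LD1_c22 LD2_c37 LD3_c5) (LK LD1_c13 LD2_c20 LD3_c42) Lrfl Lrfl
theorem f808662 : Led Lsl_et (LP (LK LD1_c14 LD2_c14 LD3_c25)) = (LP (LK LD1_c14 LD2_c27 LD3_c3)) :=
  Lgr Lrot87 (Lpr_ef (f808653 IH) (Lpn (LP (LK LD1_c14 LD2_c27 LD3_c3))))
theorem f109849 : Led Lsl_dt (LP (LK LD1_c14 LD2_c14 LD3_c25)) = (LP (LK LD1_c7 LD2_c33 LD3_c3)) :=
  Lre_d IH (LK LD1_c14 LD2_c14 LD3_c25) (LK LD1_c7 LD2_c33 LD3_c3) Lrfl Lrfl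
theorem f109758 : Led Lsl_et (LP (LK LD1_c7 LD2_c33 LD3_c2)) = (LP (LK LD1_c3 LD2_c46 LD3_c2)) :=
  Lre_e IH (LK LD1_c7 LD2_c33 LD3_c2) (LK LD1_c3 LD2_c46 LD3_c2) Lrfl Lrfl
def v22235 : LQ := Led Lsl_dt (LP (LK LD1_c7 LD2_c33 LD3_c2))
theorem f804952 : Led Lsl_dt (LP (LK LD1_c7 LD2_c33 LD3_c2)) = v22235 :=
  Lrfl
def v22159 : LQ := Led Lsl_dt (LP (LK LD1_c7 LD2_c32 LD3_c6))
theorem f801717 : Led Lsl_dt (LP (LK LD1_c7 LD2_c32 LD3_c6)) = v22159 :=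
  Lrfl
theorem f804954 : Led Lsl_gt v22159 = v22235 :=
  Lgr Lrot139 (Lpe (f801717 IH) (Lpe (f94153 IH) (Lpe (K3.f92376 IH) (Lpr_dt (K3.f89125 IH) (Lpe (K2.f65953 IH) (Lpe (K2.f65244 IH) (Lpr_et (K3.f93598 IH) (Lpe (K57.f109741 IH) (Lpe (f109758 IH) (Lpr_dt (f804952 IH) (Lpn v22235)))))))))))
theorem f801710 : Led Lsl_et (LP (LK LD1_c7 LD2_c32 LD3_c6)) = (LP (LK LD1_c14 LD2_c12 LD3_c43)) :=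
  Lre_e IH (LK LD1_c7 LD2_c32 LD3_c6) (LK LD1_c14 LD2_c12 LD3_c43) Lrfl Lrfl
theorem f808670 : Led Lsl_gf (LP (LK LD1_c14 LD2_c12 LD3_c43)) = (LP (LK LD1_c14 LD2_c27 LD3_c3)) :=
  Lgr Lrot141 (Lpe (f801710 IH) (Lpr_dt (f801717 IH) (Lpr_gt (f804954 IH) (Lpe (f804952 IH) (Lpr_et (f109758 IH) (Lpr_gt (K57.f109741 IH) (Lpr_dt (K52.f92652 IH) (Lpr_gt (f109819 IH) (Lpe (f109849 IH) (Lpr_et (f808662 IH) (Lpn (LP (LK LD1_c14 LD2_c27 LD3_c3)))))))))))))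
theorem f808674 : Led Lsl_cf (LP (LK LD1_c22 LD2_c37 LD3_c5)) = (LP (LK LD1_c14 LD2_c27 LD3_c3)) :=
  Lgr Lrot166 (Lpr_gt (f63791 IH) (Lpr_dt (K61.f63967 IH) (Lpe (K61.f788899 IH) (Lpr_dt (f88442 IH) (Lpr_ct (K6.f88434 IH) (Lpe (K6.f88175 IH) (Lpe (f88191 IH) (Lpe (f88446 IH) (Lpr_gf (f808670 IH) (Lpn (LP (LK LD1_c14 LD2_c27 LD3_c3))))))))))))
theorem f808676 : Led Lsl_ft (LP (LK LD1_c22 LD2_c37 LD3_c5)) = (LP (LK LD1_c14 LD2_c26 LD3_c60)) :=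
  Lgr Lrot4 (Lpr_cf (f808674 IH) (Lpe (f666058 IH) (Lpe (f88312 IH) (Lpn (LP (LK LD1_c14 LD2_c26 LD3_c60))))))
theorem f811797 : Led Lsl_at (LP (LK LD1_c14 LD2_c26 LD3_c60)) = (LP (LK LD1_c12 LD2_c39 LD3_c43)) :=
  Lgr Lrot26 (Lpe (f808676 IH) (Lpr_gt (f63791 IH) (Lpr_gt (f811795 IH) (Lpn (LP (LK LD1_c12 LD2_c39 LD3_c43))))))
theorem f88311 : Led Lsl_ct (LP (LK LD1_c7 LD2_c39 LD3_c60)) = (LP (LK LD1_c14 LD2_c26 LD3_c60)) :=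
  Lre_c IH (LK LD1_c7 LD2_c39 LD3_c60) (LK LD1_c14 LD2_c26 LD3_c60) Lrfl Lrfl
theorem f808714 : Led Lsl_af (LP (LK LD1_c7 LD2_c39 LD3_c60)) = v22613 :=
  Lgr Lrot0 (Lpr_at (f808713 IH) (Lpn v22613))
theorem f666936 : Led Lsl_et (LP (LK LD1_c6 LD2_c36 LD3_c57)) = (LP (LK LD1_c12 LD2_c39 LD3_c43)) :=
  Lre_e IH (LK LD1_c6 LD2_c36 LD3_c57) (LK LD1_c12 LD2_c39 LD3_c43) Lrfl Lrfl
theorem f806460 : Led Lsl_cf (LP (LK LD1_c14 LD2_c18 LD3_c14)) = (LP (LK LD1_c12 LD2_c39 LD3_c43)) :=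
  Lgr Lrot39 (Lpr_et (f12071 IH) (Lpq (f806456 IH) (Lpe (f777342 IH) (Lpr_et (f666936 IH) (Lpn (LP (LK LD1_c12 LD2_c39 LD3_c43)))))))
theorem f811807 : v22613 = (LP (LK LD1_c14 LD2_c18 LD3_c14)) :=
  (Llr Lrot68 (Lpe (f808714 IH) (Lpr_ct (f88311 IH) (Lpr_at (f811797 IH) (Lpe (f806460 IH) (Lpn (LP (LK LD1_c14 LD2_c18 LD3_c14)))))))).symm
theorem f811812 : v7495 = (LP (LK LD1_c7 LD2_c35 LD3_c11)) :=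
  Lefun (Lecon (Lfl_ef (f808716 IH)) (f811807 IH)) (f12071 IH)
theorem f811822 : v22603 = v22374 :=
  Lefun (Lecon (f808609 IH) (f811812 IH)) (f806485 IH)
theorem f666052 : Led Lsl_at (LP (LK LD1_c7 LD2_c39 LD3_c53)) = (LP (LK LD1_c14 LD2_c26 LD3_c42)) :=
  Lre_a IH (LK LD1_c7 LD2_c39 LD3_c53) (LK LD1_c14 LD2_c26 LD3_c42) Lrfl Lrfl
def v22497 : LQ := Led Lsl_ct (LP (LK LD1_c7 LD2_c37 LD3_c32))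
theorem f807318 : Led Lsl_ct (LP (LK LD1_c7 LD2_c37 LD3_c32)) = v22497 :=
  Lrfl
theorem f807321 : Led Lsl_cf (LP (LK LD1_c7 LD2_c37 LD3_c32)) = v22497 :=
  Lgr Lrot11 (Lpr_ct (f807318 IH) (Lpn v22497))
theorem f89931 : Led Lsl_ft (LP (LK LD1_c3 LD2_c27 LD3_c6)) = (LP (LK LD1_c6 LD2_c56 LD3_c9)) :=
  Lre_f IH (LK LD1_c3 LD2_c27 LD3_c6) (LK LD1_c6 LD2_c56 LD3_c9) Lrfl Lrfl
theorem f89934 : Led Lsl_gt (LP (LK LD1_c6 LD2_c56 LD3_c6)) = (LP (LK LD1_c7 LD2_c37 LD3_c32)) :=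
  Lgr Lrot46 (Lpe (f89933 IH) (Lpr_ft (f89931 IH) (Lpr_at (K3.f89921 IH) (Lpn (LP (LK LD1_c7 LD2_c37 LD3_c32))))))
def v20393 : LQ := Led Lsl_ct (LP (LK LD1_c6 LD2_c56 LD3_c6))
theorem f786769 : Led Lsl_ct (LP (LK LD1_c6 LD2_c56 LD3_c6)) = v20393 :=
  Lrfl
theorem f786770 : Led Lsl_cf (LP (LK LD1_c6 LD2_c56 LD3_c6)) = v20393 :=
  Lgr Lrot11 (Lpr_ct (f786769 IH) (Lpn v20393))
def v13176 : LQ := Led Lsl_bt (LP (LK LD1_c4 LD2_c41 LD3_c1))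
theorem f701528 : Led Lsl_bt (LP (LK LD1_c4 LD2_c41 LD3_c1)) = v13176 :=
  Lrfl
theorem f701529 : Led Lsl_bf (LP (LK LD1_c4 LD2_c41 LD3_c1)) = v13176 :=
  Lgr Lrot24 (Lpr_bt (f701528 IH) (Lpn v13176))
def v9721 : LQ := Led Lsl_ft v3050
theorem f677323 : Led Lsl_ft v3050 = v9721 :=
  Lrfl
theorem f677327 : Led Lsl_ff v3050 = v9721 :=
  Lgr Lrot3 (Lpr_ft (f677323 IH) (Lpn v9721))
theorem f677328 : Led Lsl_bt K51.v4366 = v9721 :=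
  Lgr Lrot35 (Lpe (K51.f632946 IH) (Lpr_bf (f622651 IH) (Lpr_ff (f677327 IH) (Lpn v9721))))
theorem f708739 : v9721 = v13176 :=
  Lefun (Lecon (f677328 IH) (f708724 IH)) (f701528 IH)
def v11006 : LQ := Led Lsl_ft v3578
theorem f682824 : Led Lsl_ft v3578 = v11006 :=
  Lrfl
theorem f682825 : Led Lsl_cf v9721 = v11006 :=
  Lgr Lrot108 (Lpe (f677327 IH) (Lpr_ct (f626340 IH) (Lpr_ft (f682824 IH) (Lpn v11006))))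
theorem f807320 : Led Lsl_bf v11006 = v22497 :=
  Lgr Lrot90 (Lpe (f682825 IH) (Lpqs (f708739 IH) (Lpe (f701529 IH) (Lpr_ct (f416248 IH) (Lpq (f708740 IH) (Lpe (f703040 IH) (Lpr_ct (f807318 IH) (Lpn v22497))))))))
theorem f622652 : Led Lsl_df K51.v1967 = v3050 :=
  Lgr Lrot70 (Lpe (K51.f506645 IH) (Lpr_dt (K3.f26155 IH) (Lpe (K5.f133685 IH) (Lpr_dt (K51.f453505 IH) (Lpr_et (f622650 IH) (Lpn v3050))))))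
def v8293 : LQ := Led Lsl_ft K51.v1967
theorem f670685 : Led Lsl_ft K51.v1967 = v8293 :=
  Lrfl
theorem f677329 : Led Lsl_dt v8293 = v9721 :=
  Lgr Lrot60 (Lpe (f670685 IH) (Lpr_df (f622652 IH) (Lpr_ff (f677327 IH) (Lpn v9721))))
theorem f708063 : K49.v8750 = v8293 :=
  Lefun (Lecon (K49.f672197 IH) (K51.f708031 IH)) (f670685 IH)
theorem f670428 : Led Lsl_gf K49.v6613 = K51.v8224 :=
  Lgr Lrot129 (Lpe (K49.f654423 IH) (Lpe (K49.f634230 IH) (Lpr_gt (K51.f454426 IH) (Lpe (K46.f454625 IH) (Lpr_ct (K48.f454635 IH) (Lpr_gt (K46.f509490 IH) (Lpqs (K46.f527842 IH) (Lpe (K46.f129251 IH) (Lpr_bt (K34.f125560 IH) (Lpr_gt (K35.f506445 IH) (Lpr_ct (K51.f670424 IH) (Lpn K51.v8224))))))))))))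
def v8205 : LQ := Led Lsl_ct K48.v1920
theorem f670342 : Led Lsl_ct K48.v1920 = v8205 :=
  Lrfl
theorem f709450 : Led Lsl_gt v8205 = v11006 :=
  Lgr Lrot187 (Lpe (f670342 IH) (Lpe (K48.f506395 IH) (Lpr_dt (K34.f209072 IH) (Lpr_gt (K35.f506445 IH) (Lpr_ct (K51.f670424 IH) (Lpe (f670428 IH) (Lpe (K62.f654424 IH) (Lpqs (K49.f678936 IH) (Lpqs (f708063 IH) (Lpr_dt (f677329 IH) (Lpr_cf (f682825 IH) (Lpn v11006))))))))))))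
def v8348 : LQ := Led Lsl_ct K48.v1995
theorem f670943 : Led Lsl_ct K48.v1995 = v8348 :=
  Lrfl
theorem f670344 : Led Lsl_cf K48.v1920 = v8205 :=
  Lgr Lrot11 (Lpr_ct (f670342 IH) (Lpn v8205))
theorem f670946 : Led Lsl_ff v8205 = v8348 :=
  Lgr Lrot23 (Lpe (f670344 IH) (Lpq (K48.f649372 IH) (Lpe (K48.f649152 IH) (Lpr_ct (f670943 IH) (Lpn v8348)))))
theorem f670948 : Led Lsl_ft v8205 = v8348 :=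
  Lgr Lrot48 (Lpr_ff (f670946 IH) (Lpn v8348))
def v8105 : LQ := Led Lsl_ct K46.v1841
theorem f670017 : Led Lsl_ct K46.v1841 = v8105 :=
  Lrfl
theorem f670019 : Led Lsl_cf K46.v1841 = v8105 :=
  Lgr Lrot11 (Lpr_ct (f670017 IH) (Lpn v8105))
theorem f670944 : Led Lsl_af v8105 = v8348 :=
  Lgr Lrot68 (Lpe (f670019 IH) (Lpr_at (K48.f640443 IH) (Lpr_ct (f670943 IH) (Lpn v8348))))
theorem f709451 : Led Lsl_gf v8105 = v11006 :=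
  Lgr Lrot76 (Lpr_af (f670944 IH) (Lpe (f670948 IH) (Lpr_gt (f709450 IH) (Lpn v11006))))
theorem f670020 : Led Lsl_ff v5743 = v8105 :=
  Lgr Lrot23 (Lpe (f649157 IH) (Lpe (K48.f640441 IH) (Lpr_ct (f670017 IH) (Lpn v8105))))
theorem f649156 : Led Lsl_bf (LP (LK LD1_c9 LD2_c17 LD3_c18)) = v5743 :=
  Lgr Lrot90 (Lpr_ct (K55.f23161 IH) (Lpr_bt (K53.f23124 IH) (Lpr_ct (K24.f139976 IH) (Lpr_bt (K34.f139987 IH) (Lpr_ct (f649155 IH) (Lpn v5743))))))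
theorem f646810 : Led Lsl_ft (LP (LK LD1_c9 LD2_c17 LD3_c18)) = K52.v5255 :=
  Lgr Lrot48 (Lpr_ff (K55.f646809 IH) (Lpn K52.v5255))
theorem f670021 : Led Lsl_bt K52.v5255 = v8105 :=
  Lgr Lrot35 (Lpe (f646810 IH) (Lpr_bf (f649156 IH) (Lpr_ff (f670020 IH) (Lpn v8105))))
theorem f646808 : Led Lsl_cf (LP (LK LD1_c3 LD2_c2 LD3_c36)) = K52.v5255 :=
  Lgr Lrot11 (Lpr_ct (K52.f646807 IH) (Lpn K52.v5255))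
def v5252 : LQ := Led Lsl_gt (LP (LK LD1_c3 LD2_c2 LD3_c36))
theorem f646803 : Led Lsl_gt (LP (LK LD1_c3 LD2_c2 LD3_c36)) = v5252 :=
  Lrfl
theorem f701503 : Led Lsl_gt v5252 = K52.v13170 :=
  Lgr Lrot46 (Lpe (f646803 IH) (Lpr_ft (K52.f639926 IH) (Lpr_at (K52.f701499 IH) (Lpn K52.v13170))))
theorem f739181 : v5252 = (LP (LK LD1_c3 LD2_c4 LD3_c60)) :=
  Lefun (Lecon (Lfl_gt (f701503 IH)) (K54.f739173 IH).symm) (Lfl_gt (K54.f83787 IH))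
theorem f83779 : Led Lsl_bt (LP (LK LD1_c6 LD2_c15 LD3_c47)) = (LP (LK LD1_c6 LD2_c50 LD3_c21)) :=
  Lgr Lrot127 (Lpr_bf (K4.f83777 IH) (Lpn (LP (LK LD1_c6 LD2_c50 LD3_c21))))
def v20068 : LQ := Led Lsl_gt (LP (LK LD1_c6 LD2_c50 LD3_c21))
theorem f784658 : Led Lsl_gt (LP (LK LD1_c6 LD2_c50 LD3_c21)) = v20068 :=
  Lrfl
theorem f807331 : v20393 = v20068 :=
  (Llr Lrot125 (Lpe (f786770 IH) (Lpr_gt (f89934 IH) (Lpr_cf (f807321 IH) (Lpe (f807320 IH) (Lpe (f709451 IH) (Lpe (f670021 IH) (Lpe (f646808 IH) (Lpr_gt (f646803 IH) (Lpqs (f739181 IH) (Lpe (K4.f83781 IH) (Lpr_bt (f83779 IH) (Lpr_gt (f784658 IH) (Lpn v20068)))))))))))))).symm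
def v22492 : LQ := Led Lsl_ft (LP (LK LD1_c7 LD2_c37 LD3_c29))
theorem f807290 : Led Lsl_ft (LP (LK LD1_c7 LD2_c37 LD3_c29)) = v22492 :=
  Lrfl
theorem f807293 : Led Lsl_ff (LP (LK LD1_c7 LD2_c37 LD3_c29)) = v22492 :=
  Lgr Lrot3 (Lpr_ft (f807290 IH) (Lpn v22492))
def v22489 : LQ := Led Lsl_at (LP (LK LD1_c7 LD2_c37 LD3_c29))
theorem f807279 : Led Lsl_at (LP (LK LD1_c7 LD2_c37 LD3_c29)) = v22489 :=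
  Lrfl
theorem f807280 : Led Lsl_af (LP (LK LD1_c7 LD2_c37 LD3_c29)) = v22489 :=
  Lgr Lrot0 (Lpr_at (f807279 IH) (Lpn v22489))
theorem f14656 : Led Lsl_gt (LP (LK LD1_c3 LD2_c48 LD3_c14)) = (LP (LK LD1_c7 LD2_c37 LD3_c29)) :=
  Lre_g IH (LK LD1_c3 LD2_c48 LD3_c14) (LK LD1_c7 LD2_c37 LD3_c29) Lrfl Lrfl
theorem f807281 : Led Lsl_ft (LP (LK LD1_c7 LD2_c37 LD3_c30)) = v22489 :=
  Lgr Lrot2 (Lpr_gt (f11866 IH) (Lpr_gt (f14656 IH) (Lpr_af (f807280 IH) (Lpn v22489))))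
theorem f807282 : Led Lsl_ff (LP (LK LD1_c7 LD2_c37 LD3_c30)) = v22489 :=
  Lgr Lrot3 (Lpr_ft (f807281 IH) (Lpn v22489))
theorem f807294 : Led Lsl_at (LP (LK LD1_c7 LD2_c37 LD3_c30)) = v22492 :=
  Lgr Lrot66 (Lpr_ff (f807282 IH) (Lpe (f807279 IH) (Lpr_ff (f807293 IH) (Lpn v22492))))
theorem f786768 : Led Lsl_ff (LP (LK LD1_c6 LD2_c56 LD3_c7)) = v20392 :=
  Lgr Lrot3 (Lpr_ft (f786767 IH) (Lpn v20392))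
theorem f713728 : Led Lsl_bt (LP (LK LD1_c6 LD2_c56 LD3_c7)) = (LP (LK LD1_c7 LD2_c35 LD3_c46)) :=
  Lgr Lrot127 (Lpr_bf (f713726 IH) (Lpn (LP (LK LD1_c7 LD2_c35 LD3_c46))))
theorem f806648 : Led Lsl_bf v20392 = v22395 :=
  Lgr Lrot61 (Lpe (f786768 IH) (Lpr_bt (f713728 IH) (Lpr_ft (f806647 IH) (Lpn v22395))))
def v7538 : LQ := Led Lsl_bt (LP (LK LD1_c3 LD2_c50 LD3_c39))
theorem f666456 : Led Lsl_bt (LP (LK LD1_c3 LD2_c50 LD3_c39)) = v7538 :=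
  Lrfl
theorem f810263 : v20392 = v7538 :=
  Lefun (Lecon (Lfl_bf (f806648 IH)) (f810247 IH).symm) (f666456 IH)
theorem f115704 : Led Lsl_at (LP (LK LD1_c7 LD2_c44 LD3_c7)) = (LP (LK LD1_c13 LD2_c19 LD3_c57)) :=
  Lgr Lrot100 (Lpr_af (f115699 IH) (Lpn (LP (LK LD1_c13 LD2_c19 LD3_c57))))
theorem f65288 : Led Lsl_ct (LP (LK LD1_c3 LD2_c51 LD3_c19)) = (LP (LK LD1_c7 LD2_c44 LD3_c7)) :=
  Lre_c IH (LK LD1_c3 LD2_c51 LD3_c19) (LK LD1_c7 LD2_c44 LD3_c7) Lrfl Lrfl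
theorem f115717 : Led Lsl_ct (LP (LK LD1_c13 LD2_c19 LD3_c57)) = (LP (LK LD1_c7 LD2_c1 LD3_c43)) :=
  Lre_c IH (LK LD1_c13 LD2_c19 LD3_c57) (LK LD1_c7 LD2_c1 LD3_c43) Lrfl Lrfl
theorem f115718 : Led Lsl_af (LP (LK LD1_c3 LD2_c51 LD3_c19)) = (LP (LK LD1_c7 LD2_c1 LD3_c43)) :=
  Lgr Lrot68 (Lpr_ct (f65288 IH) (Lpr_at (f115704 IH) (Lpr_ct (f115717 IH) (Lpn (LP (LK LD1_c7 LD2_c1 LD3_c43))))))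
theorem f115727 : Led Lsl_ft (LP (LK LD1_c13 LD2_c19 LD3_c58)) = (LP (LK LD1_c7 LD2_c1 LD3_c43)) :=
  Lre_f IH (LK LD1_c13 LD2_c19 LD3_c58) (LK LD1_c7 LD2_c1 LD3_c43) Lrfl Lrfl
theorem f115728 : Led Lsl_gf (LP (LK LD1_c7 LD2_c44 LD3_c6)) = (LP (LK LD1_c13 LD2_c19 LD3_c58)) :=
  Lgr Lrot47 (Lpr_gt (f65298 IH) (Lpr_af (f115718 IH) (Lpe (f115727 IH) (Lpn (LP (LK LD1_c13 LD2_c19 LD3_c58))))))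
theorem f105279 : Led Lsl_dt (LP (LK LD1_c12 LD2_c45 LD3_c16)) = (LP (LK LD1_c12 LD2_c42 LD3_c44)) :=
  Lre_d IH (LK LD1_c12 LD2_c45 LD3_c16) (LK LD1_c12 LD2_c42 LD3_c44) Lrfl Lrfl
theorem f712560 : Led Lsl_cf (LP (LK LD1_c7 LD2_c42 LD3_c24)) = (LP (LK LD1_c12 LD2_c42 LD3_c44)) :=
  Lgr Lrot14 (Lpe (f115730 IH) (Lpr_gf (f115728 IH) (Lpe (f115663 IH) (Lpe (K52.f115675 IH) (Lpr_ct (K52.f666713 IH) (Lpq (K52.f711714 IH) (Lpr_gt (K4.f105298 IH) (Lpr_dt (K4.f65088 IH) (Lpe (K4.f105277 IH) (Lpr_dt (f105279 IH) (Lpn (LP (LK LD1_c12 LD2_c42 LD3_c44)))))))))))))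
def v7539 : LQ := Led Lsl_ct (LP (LK LD1_c3 LD2_c50 LD3_c39))
theorem f666458 : Led Lsl_ct (LP (LK LD1_c3 LD2_c50 LD3_c39)) = v7539 :=
  Lrfl
theorem f712564 : Led Lsl_et (LP (LK LD1_c6 LD2_c38 LD3_c29)) = (LP (LK LD1_c12 LD2_c42 LD3_c44)) :=
  Lre_e IH (LK LD1_c6 LD2_c38 LD3_c29) (LK LD1_c12 LD2_c42 LD3_c44) Lrfl Lrfl
theorem f712565 : v7539 = (LP (LK LD1_c6 LD2_c38 LD3_c29)) :=
  (Llr Lrot15 (Lpe (f666458 IH) (Lpe (f110161 IH) (Lpr_cf (f712560 IH) (Lpe (f712564 IH) (Lpn (LP (LK LD1_c6 LD2_c38 LD3_c29)))))))).symm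
theorem f87199 : Led Lsl_cf (LP (LK LD1_c3 LD2_c17 LD3_c33)) = (LP (LK LD1_c1 LD2_c51 LD3_c46)) :=
  Lgr Lrot11 (Lpr_ct (K4.f87185 IH) (Lpn (LP (LK LD1_c1 LD2_c51 LD3_c46))))
theorem f89930 : Led Lsl_bt (LP (LK LD1_c13 LD2_c10 LD3_c2)) = (LP (LK LD1_c6 LD2_c56 LD3_c9)) :=
  Lre_b IH (LK LD1_c13 LD2_c10 LD3_c2) (LK LD1_c6 LD2_c56 LD3_c9) Lrfl Lrfl
theorem f89953 : Led Lsl_gf (LP (LK LD1_c6 LD2_c56 LD3_c9)) = (LP (LK LD1_c7 LD2_c37 LD3_c29)) :=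
  Lgr Lrot76 (Lpr_af (K3.f89928 IH) (Lpe (K3.f89950 IH) (Lpr_gt (f14656 IH) (Lpn (LP (LK LD1_c7 LD2_c37 LD3_c29))))))
theorem f712574 : v7538 = (LP (LK LD1_c7 LD2_c37 LD3_c29)) :=
  (Llr Lrot22 (Lpe (f666456 IH) (Lpr_ct (f666458 IH) (Lpqs (f712565 IH) (Lpe (K4.f87212 IH) (Lpr_cf (f87199 IH) (Lpe (K58.f87233 IH) (Lpe (K62.f87337 IH) (Lpr_ct (K62.f87338 IH) (Lpe (K62.f709594 IH) (Lpe (K62.f89957 IH) (Lpr_bt (f89930 IH) (Lpr_gf (f89953 IH) (Lpn (LP (LK LD1_c7 LD2_c37 LD3_c29)))))))))))))))).symm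
theorem f810272 : (LP (LK LD1_c6 LD2_c56 LD3_c7)) = v22492 :=
  Lefun (Lecon (Lfl_ff (f786768 IH)) ((f810263 IH).trans (f712574 IH))) (f807290 IH)
def v20069 : LQ := Led Lsl_gf (LP (LK LD1_c6 LD2_c50 LD3_c21))
theorem f784659 : Led Lsl_gf (LP (LK LD1_c6 LD2_c50 LD3_c21)) = v20069 :=
  Lrfl
theorem f112124 : Led Lsl_bf (LP (LK LD1_c5 LD2_c51 LD3_c22)) = (LP (LK LD1_c3 LD2_c26 LD3_c32)) :=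
  Lgr Lrot24 (Lpr_bt (K4.f112122 IH) (Lpn (LP (LK LD1_c3 LD2_c26 LD3_c32))))
theorem f784660 : Led Lsl_ct (LP (LK LD1_c6 LD2_c56 LD3_c7)) = v20069 :=
  Lgr Lrot64 (Lpr_bt (f713728 IH) (Lpe (f428807 IH) (Lpe (K53.f66233 IH) (Lpr_ct (K6.f66305 IH) (Lpq (K51.f710352 IH) (Lpe (K51.f701570 IH) (Lpe (K50.f413660 IH) (Lpe (K60.f739169 IH) (Lpr_bf (f112124 IH) (Lpr_ct (K4.f91109 IH) (Lpr_gf (f784659 IH) (Lpn v20069))))))))))))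
theorem f810315 : Led Lsl_af v22494 = v20069 :=
  Lgr Lrot68 (Lpe (f807302 IH) (Lpr_at (f807294 IH) (Lpq (f810272 IH) (Lpr_ct (f784660 IH) (Lpn v20069)))))
def v22490 : LQ := Led Lsl_ct (LP (LK LD1_c7 LD2_c37 LD3_c29))
theorem f807283 : Led Lsl_ct (LP (LK LD1_c7 LD2_c37 LD3_c29)) = v22490 :=
  Lrfl
theorem f502973 : Led Lsl_ct (LP (LK LD1_c3 LD2_c2 LD3_c58)) = (LP (LK LD1_c1 LD2_c27 LD3_c23)) :=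
  Lre_c IH (LK LD1_c3 LD2_c2 LD3_c58) (LK LD1_c1 LD2_c27 LD3_c23) Lrfl Lrfl
theorem f137260 : Led Lsl_af (LP (LK LD1_c9 LD2_c6 LD3_c22)) = (LP (LK LD1_c5 LD2_c51 LD3_c22)) :=
  Lgr Lrot0 (Lpr_at (K52.f137258 IH) (Lpn (LP (LK LD1_c5 LD2_c51 LD3_c22))))
theorem f714933 : Led Lsl_gf (LP (LK LD1_c6 LD2_c12 LD3_c36)) = (LP (LK LD1_c11 LD2_c30 LD3_c10)) :=
  Lgr Lrot47 (Lpr_gt (K52.f714931 IH) (Lpr_af (f137260 IH) (Lpe (K4.f112131 IH) (Lpn (LP (LK LD1_c11 LD2_c30 LD3_c10))))))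
theorem f91112 : Led Lsl_cf (LP (LK LD1_c3 LD2_c26 LD3_c32)) = (LP (LK LD1_c6 LD2_c50 LD3_c21)) :=
  Lgr Lrot11 (Lpr_ct (K4.f91109 IH) (Lpn (LP (LK LD1_c6 LD2_c50 LD3_c21))))
theorem f784673 : Led Lsl_ct (LP (LK LD1_c6 LD2_c54 LD3_c56)) = v20071 :=
  Lgr Lrot40 (Lpe (K4.f91127 IH) (Lpr_cf (f91112 IH) (Lpr_ff (f784671 IH) (Lpn v20071))))
theorem f807285 : Led Lsl_gf v20071 = v22490 :=
  Lgr Lrot129 (Lpe (f784673 IH) (Lpe (K4.f112132 IH) (Lpe (f714933 IH) (Lpe (K51.f502976 IH) (Lpr_ct (f502973 IH) (Lpqs (K51.f708081 IH) (Lpe (K51.f632944 IH) (Lpe (f129975 IH) (Lpr_bt (f129980 IH) (Lpr_gt (f14656 IH) (Lpr_ct (f807283 IH) (Lpn v22490))))))))))))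
theorem f810317 : Led Lsl_ft v22490 = v20069 :=
  Lgr Lrot2 (Lpe (f807285 IH) (Lpr_gt (f807303 IH) (Lpr_af (f810315 IH) (Lpn v20069))))
theorem f810269 : (LP (LK LD1_c6 LD2_c56 LD3_c6)) = v22489 :=
  Lefun (Lecon (Lfl_af (f786764 IH)) ((f810263 IH).trans (f712574 IH))) (f807279 IH)
theorem f810291 : Led Lsl_ff v20393 = v22494 :=
  Lgr Lrot23 (Lpe (f786770 IH) (Lpqs (f810269 IH) (Lpe (f807282 IH) (Lpr_ct (f807301 IH) (Lpn v22494)))))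
theorem f810318 : Led Lsl_af v22490 = v20393 :=
  Lgr Lrot45 (Lpr_ft (f810317 IH) (Lpe (f810315 IH) (Lpe (f810291 IH) (Lpn v20393))))
theorem f810321 : Led Lsl_gf v22490 = v7717 :=
  Lgr Lrot76 (Lpr_af (f810318 IH) (Lpqs (f807331 IH) (Lpq (f807331 IH) (Lpr_ff (f810291 IH) (Lpe (f807304 IH) (Lpn v7717))))))
theorem f666457 : Led Lsl_bf (LP (LK LD1_c3 LD2_c50 LD3_c39)) = v7538 :=
  Lgr Lrot24 (Lpr_bt (f666456 IH) (Lpn v7538))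
theorem f110155 : Led Lsl_gf (LP (LK LD1_c7 LD2_c35 LD3_c48)) = (LP (LK LD1_c3 LD2_c50 LD3_c39)) :=
  Lgr Lrot76 (Lpr_af (K3.f110144 IH) (Lpe (K3.f66175 IH) (Lpr_gt (f66179 IH) (Lpn (LP (LK LD1_c3 LD2_c50 LD3_c39))))))
theorem f110167 : Led Lsl_at (LP (LK LD1_c6 LD2_c35 LD3_c17)) = (LP (LK LD1_c3 LD2_c16 LD3_c48)) :=
  Lgr Lrot100 (Lpr_af (K3.f110165 IH) (Lpn (LP (LK LD1_c3 LD2_c16 LD3_c48))))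
theorem f441304 : Led Lsl_gt (LP (LK LD1_c12 LD2_c36 LD3_c39)) = (LP (LK LD1_c6 LD2_c36 LD3_c57)) :=
  Lgr Lrot5 (Lpr_ft (K3.f93569 IH) (Lpr_at (f110167 IH) (Lpe (f66186 IH) (Lpn (LP (LK LD1_c6 LD2_c36 LD3_c57))))))
theorem f667966 : Led Lsl_ct (LP (LK LD1_c3 LD2_c55 LD3_c49)) = v7717 :=
  Lgr Lrot15 (Lpe (K8.f125850 IH) (Lpe (K5.f90288 IH) (Lpr_ef (f667964 IH) (Lpn v7717))))
theorem f125943 : Led Lsl_bt (LP (LK LD1_c3 LD2_c55 LD3_c49)) = (LP (LK LD1_c7 LD2_c53 LD3_c17)) :=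
  Lre_b IH (LK LD1_c3 LD2_c55 LD3_c49) (LK LD1_c7 LD2_c53 LD3_c17) Lrfl Lrfl
theorem f810322 : Led Lsl_gt v22374 = (LP (LK LD1_c7 LD2_c53 LD3_c17)) :=
  Lgr Lrot164 (Lpe (f806485 IH) (Lpq (f806456 IH) (Lpe (f777342 IH) (Lpe (f441304 IH) (Lpe (K3.f93570 IH) (Lpr_gf (f110155 IH) (Lpr_bf (f666457 IH) (Lpqs (f712574 IH) (Lpr_ct (f807283 IH) (Lpr_gf (f810321 IH) (Lpe (f667966 IH) (Lpr_bt (f125943 IH) (Lpn (LP (LK LD1_c7 LD2_c53 LD3_c17)))))))))))))))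
theorem f812160 : Led Lsl_gf (LP (LK LD1_c14 LD2_c26 LD3_c42)) = (LP (LK LD1_c7 LD2_c53 LD3_c17)) :=
  Lgr Lrot76 (Lpe (f666052 IH) (Lpr_ff (f808608 IH) (Lpqs (f811822 IH) (Lpr_gt (f810322 IH) (Lpn (LP (LK LD1_c7 LD2_c53 LD3_c17)))))))
theorem f812161 : Led Lsl_gt (LP (LK LD1_c7 LD2_c53 LD3_c17)) = (LP (LK LD1_c14 LD2_c26 LD3_c42)) :=
  Leop (Lpr_gf (f812160 IH) (Lpn (LP (LK LD1_c7 LD2_c53 LD3_c17))))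
theorem seed_1775 : LEOK LG_g (LK LD1_c7 LD2_c53 LD3_c17) :=
  Leoe_g (LK LD1_c7 LD2_c53 LD3_c17) (f812161 IH)
def v22867 : LQ := Led Lsl_at (LP (LK LD1_c7 LD2_c44 LD3_c14))
theorem f812460 : Led Lsl_at (LP (LK LD1_c7 LD2_c44 LD3_c14)) = v22867 :=
  Lrfl
theorem f65730 : Led Lsl_dt (LP (LK LD1_c3 LD2_c51 LD3_c23)) = (LP (LK LD1_c7 LD2_c44 LD3_c14)) :=
  Lre_d IH (LK LD1_c3 LD2_c51 LD3_c23) (LK LD1_c7 LD2_c44 LD3_c14) Lrfl Lrfl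
def v7559 : LQ := Led Lsl_at (LP (LK LD1_c3 LD2_c51 LD3_c23))
theorem f666728 : Led Lsl_at (LP (LK LD1_c3 LD2_c51 LD3_c23)) = v7559 :=
  Lrfl
theorem f666729 : Led Lsl_af (LP (LK LD1_c3 LD2_c51 LD3_c23)) = v7559 :=
  Lgr Lrot0 (Lpr_at (f666728 IH) (Lpn v7559))
theorem f812462 : Led Lsl_df v7559 = v22867 :=
  Lgr Lrot18 (Lpe (f666729 IH) (Lpr_dt (f65730 IH) (Lpr_at (f812460 IH) (Lpn v22867))))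
theorem f65742 : Led Lsl_gt (LP (LK LD1_c3 LD2_c51 LD3_c24)) = (LP (LK LD1_c1 LD2_c52 LD3_c31)) :=
  Lre_g IH (LK LD1_c3 LD2_c51 LD3_c24) (LK LD1_c1 LD2_c52 LD3_c31) Lrfl Lrfl
theorem f666730 : Led Lsl_ft (LP (LK LD1_c3 LD2_c51 LD3_c24)) = v7559 :=
  Lgr Lrot2 (Lpr_gt (f65742 IH) (Lpr_gt (K52.f65729 IH) (Lpr_af (f666729 IH) (Lpn v7559))))
theorem f666731 : Led Lsl_ff (LP (LK LD1_c3 LD2_c51 LD3_c24)) = v7559 :=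
  Lgr Lrot3 (Lpr_ft (f666730 IH) (Lpn v7559))
theorem f65765 : Led Lsl_dt (LP (LK LD1_c3 LD2_c51 LD3_c24)) = (LP (LK LD1_c7 LD2_c44 LD3_c16)) :=
  Lre_d IH (LK LD1_c3 LD2_c51 LD3_c24) (LK LD1_c7 LD2_c44 LD3_c16) Lrfl Lrfl
theorem f812464 : Led Lsl_ft (LP (LK LD1_c7 LD2_c44 LD3_c16)) = v22867 :=
  Lgr Lrot54 (Lpe (f65765 IH) (Lpr_ff (f666731 IH) (Lpr_df (f812462 IH) (Lpn v22867))))
theorem f812461 : Led Lsl_af (LP (LK LD1_c7 LD2_c44 LD3_c14)) = v22867 :=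
  Lgr Lrot0 (Lpr_at (f812460 IH) (Lpn v22867))
theorem f439890 : Led Lsl_gt (LP (LK LD1_c14 LD2_c35 LD3_c35)) = (LP (LK LD1_c7 LD2_c44 LD3_c14)) :=
  Lre_g IH (LK LD1_c14 LD2_c35 LD3_c35) (LK LD1_c7 LD2_c44 LD3_c14) Lrfl Lrfl
theorem f812467 : Led Lsl_gt (LP (LK LD1_c7 LD2_c44 LD3_c16)) = (LP (LK LD1_c14 LD2_c35 LD3_c35)) :=
  Lgr Lrot5 (Lpr_ft (f812464 IH) (Lpe (f812461 IH) (Lpe (f439890 IH) (Lpn (LP (LK LD1_c14 LD2_c35 LD3_c35))))))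
theorem f812468 : Led Lsl_gt (LP (LK LD1_c7 LD2_c44 LD3_c16)) = (LP (LK LD1_c14 LD2_c35 LD3_c35)) :=
  Leop (Lpe (f812467 IH) (Lpn (LP (LK LD1_c7 LD2_c44 LD3_c16))))
theorem seed_1776 : LEOK LG_g (LK LD1_c7 LD2_c44 LD3_c16) :=
  Leoe_g (LK LD1_c7 LD2_c44 LD3_c16) (f812468 IH)
theorem f658552 : Led Lsl_ft (LP (LK LD1_c7 LD2_c2 LD3_c16)) = (LP (LK LD1_c13 LD2_c20 LD3_c51)) :=
  Lre_f IH (LK LD1_c7 LD2_c2 LD3_c16) (LK LD1_c13 LD2_c20 LD3_c51) Lrfl Lrfl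
theorem f807041 : Led Lsl_df v20673 = v22460 :=
  Lgr Lrot78 (Lpe (f789092 IH) (Lpr_dt (K3.f63763 IH) (Lpr_ft (f807040 IH) (Lpn v22460))))
theorem f103867 : Led Lsl_dt (LP (LK LD1_c3 LD2_c51 LD3_c43)) = (LP (LK LD1_c7 LD2_c45 LD3_c6)) :=
  Lre_d IH (LK LD1_c3 LD2_c51 LD3_c43) (LK LD1_c7 LD2_c45 LD3_c6) Lrfl Lrfl
def v7588 : LQ := Led Lsl_ft (LP (LK LD1_c3 LD2_c51 LD3_c43))
theorem f667099 : Led Lsl_ft (LP (LK LD1_c3 LD2_c51 LD3_c43)) = v7588 :=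
  Lrfl
theorem f667102 : Led Lsl_ff (LP (LK LD1_c3 LD2_c51 LD3_c43)) = v7588 :=
  Lgr Lrot3 (Lpr_ft (f667099 IH) (Lpn v7588))
def v22462 : LQ := Led Lsl_ft (LP (LK LD1_c7 LD2_c36 LD3_c43))
theorem f807081 : Led Lsl_ft (LP (LK LD1_c7 LD2_c36 LD3_c43)) = v22462 :=
  Lrfl
theorem f807082 : Led Lsl_af (LP (LK LD1_c7 LD2_c36 LD3_c44)) = v22462 :=
  Lgr Lrot45 (Lpr_ft (f807040 IH) (Lpe (f807039 IH) (Lpr_ft (f807081 IH) (Lpn v22462))))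
def v7587 : LQ := Led Lsl_at (LP (LK LD1_c3 LD2_c51 LD3_c43))
theorem f667086 : Led Lsl_at (LP (LK LD1_c3 LD2_c51 LD3_c43)) = v7587 :=
  Lrfl
theorem f667087 : Led Lsl_af (LP (LK LD1_c3 LD2_c51 LD3_c43)) = v7587 :=
  Lgr Lrot0 (Lpr_at (f667086 IH) (Lpn v7587))
theorem f667092 : Led Lsl_ft (LP (LK LD1_c3 LD2_c51 LD3_c44)) = v7587 :=
  Lgr Lrot2 (Lpr_gt (K1.f65172 IH) (Lpr_gt (K61.f103878 IH) (Lpr_af (f667087 IH) (Lpn v7587))))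
theorem f667096 : Led Lsl_ff (LP (LK LD1_c3 LD2_c51 LD3_c44)) = v7587 :=
  Lgr Lrot3 (Lpr_ft (f667092 IH) (Lpn v7587))
theorem f667104 : Led Lsl_at (LP (LK LD1_c3 LD2_c51 LD3_c44)) = v7588 :=
  Lgr Lrot66 (Lpr_ff (f667096 IH) (Lpe (f667086 IH) (Lpr_ff (f667102 IH) (Lpn v7588))))
theorem f807084 : Led Lsl_ff (LP (LK LD1_c7 LD2_c36 LD3_c43)) = v22462 :=
  Lgr Lrot3 (Lpr_ft (f807081 IH) (Lpn v22462))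
theorem f807086 : Led Lsl_dt v20672 = v22462 :=
  Lgr Lrot60 (Lpr_ff (f807049 IH) (Lpe (f493302 IH) (Lpr_ff (f807084 IH) (Lpn v22462))))
theorem f65170 : Led Lsl_ef (LP (LK LD1_c7 LD2_c45 LD3_c10)) = (LP (LK LD1_c6 LD2_c59 LD3_c55)) :=
  Lgr Lrot88 (Lpr_et (K1.f65152 IH) (Lpn (LP (LK LD1_c6 LD2_c59 LD3_c55))))
def v20580 : LQ := Led Lsl_ft (LP (LK LD1_c6 LD2_c59 LD3_c55))
theorem f788015 : Led Lsl_ft (LP (LK LD1_c6 LD2_c59 LD3_c55)) = v20580 :=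
  Lrfl
theorem f788017 : Led Lsl_ff (LP (LK LD1_c6 LD2_c59 LD3_c55)) = v20580 :=
  Lgr Lrot3 (Lpr_ft (f788015 IH) (Lpn v20580))
def v6801 : LQ := Led Lsl_ft (LP (LK LD1_c3 LD2_c30 LD3_c14))
theorem f658553 : Led Lsl_ft (LP (LK LD1_c3 LD2_c30 LD3_c14)) = v6801 :=
  Lrfl
theorem f658554 : Led Lsl_af (LP (LK LD1_c3 LD2_c30 LD3_c15)) = v6801 :=
  Lgr Lrot45 (Lpr_ft (K61.f658546 IH) (Lpe (K61.f658544 IH) (Lpr_ft (f658553 IH) (Lpn v6801))))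
def v20576 : LQ := Led Lsl_at (LP (LK LD1_c6 LD2_c59 LD3_c55))
theorem f788002 : Led Lsl_at (LP (LK LD1_c6 LD2_c59 LD3_c55)) = v20576 :=
  Lrfl
theorem f788003 : Led Lsl_af (LP (LK LD1_c6 LD2_c59 LD3_c55)) = v20576 :=
  Lgr Lrot0 (Lpr_at (f788002 IH) (Lpn v20576))
theorem f65789 : Led Lsl_gt (LP (LK LD1_c6 LD2_c59 LD3_c56)) = (LP (LK LD1_c3 LD2_c29 LD3_c5)) :=
  Lre_g IH (LK LD1_c6 LD2_c59 LD3_c56) (LK LD1_c3 LD2_c29 LD3_c5) Lrfl Lrfl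
theorem f788004 : Led Lsl_ft (LP (LK LD1_c6 LD2_c59 LD3_c56)) = v20576 :=
  Lgr Lrot2 (Lpr_gt (f65789 IH) (Lpr_gt (K1.f62845 IH) (Lpr_af (f788003 IH) (Lpn v20576))))
theorem f788005 : Led Lsl_ff (LP (LK LD1_c6 LD2_c59 LD3_c56)) = v20576 :=
  Lgr Lrot3 (Lpr_ft (f788004 IH) (Lpn v20576))
theorem f788018 : Led Lsl_at (LP (LK LD1_c6 LD2_c59 LD3_c56)) = v20580 :=
  Lgr Lrot66 (Lpr_ff (f788005 IH) (Lpe (f788002 IH) (Lpr_ff (f788017 IH) (Lpn v20580))))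
def v20683 : LQ := Led Lsl_at (LP (LK LD1_c7 LD2_c2 LD3_c16))
theorem f789117 : Led Lsl_at (LP (LK LD1_c7 LD2_c2 LD3_c16)) = v20683 :=
  Lrfl
theorem f789119 : Led Lsl_ef v6801 = v20683 :=
  Lgr Lrot20 (Lpe (f658554 IH) (Lpr_et (K61.f658551 IH) (Lpr_at (f789117 IH) (Lpn v20683))))
theorem f63545 : Led Lsl_et (LP (LK LD1_c13 LD2_c16 LD3_c50)) = (LP (LK LD1_c6 LD2_c59 LD3_c56)) :=
  Lre_e IH (LK LD1_c13 LD2_c16 LD3_c50) (LK LD1_c6 LD2_c59 LD3_c56) Lrfl Lrfl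
theorem f666732 : Led Lsl_et (LP (LK LD1_c3 LD2_c51 LD3_c24)) = (LP (LK LD1_c7 LD2_c44 LD3_c17)) :=
  Lre_e IH (LK LD1_c3 LD2_c51 LD3_c24) (LK LD1_c7 LD2_c44 LD3_c17) Lrfl Lrfl
theorem f96249 : Led Lsl_bt (LP (LK LD1_c7 LD2_c1 LD3_c23)) = (LP (LK LD1_c3 LD2_c29 LD3_c55)) :=
  Lre_b IH (LK LD1_c7 LD2_c1 LD3_c23) (LK LD1_c3 LD2_c29 LD3_c55) Lrfl Lrfl
theorem f130606 : Led Lsl_at (LP (LK LD1_c3 LD2_c29 LD3_c55)) = (LP (LK LD1_c1 LD2_c52 LD3_c31)) :=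
  Lgr Lrot67 (Lpe (f96249 IH) (Lpe (K54.f130595 IH) (Lpr_bf (K5.f130589 IH) (Lpe (K51.f130605 IH) (Lpe (K52.f65715 IH) (Lpn (LP (LK LD1_c1 LD2_c52 LD3_c31))))))))
theorem f439926 : Led Lsl_gt (LP (LK LD1_c7 LD2_c1 LD3_c30)) = (LP (LK LD1_c3 LD2_c51 LD3_c24)) :=
  Lgr Lrot5 (Lpr_ft (K4.f96254 IH) (Lpr_at (f130606 IH) (Lpe (f65742 IH) (Lpn (LP (LK LD1_c3 LD2_c51 LD3_c24))))))
theorem f807050 : Led Lsl_et (LP (LK LD1_c13 LD2_c20 LD3_c51)) = (LP (LK LD1_c14 LD2_c21 LD3_c3)) :=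
  Lgr Lrot69 (Lpe (f658552 IH) (Lpe (K61.f658551 IH) (Lpr_ff (K61.f658548 IH) (Lpr_ef (f789089 IH) (Lpr_ff (f807049 IH) (Lpn (LP (LK LD1_c14 LD2_c21 LD3_c3))))))))
theorem f812471 : Led Lsl_dt (LP (LK LD1_c13 LD2_c20 LD3_c51)) = (LP (LK LD1_c14 LD2_c35 LD3_c35)) :=
  Lgr Lrot56 (Lpr_et (f807050 IH) (Lpe (f807052 IH) (Lpe (f810223 IH) (Lpr_dt (f810225 IH) (Lpe (f115692 IH) (Lpe (K52.f65327 IH) (Lpr_et (K4.f115628 IH) (Lpr_gt (f439926 IH) (Lpr_dt (f65765 IH) (Lpr_gt (f812467 IH) (Lpn (LP (LK LD1_c14 LD2_c35 LD3_c35)))))))))))))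
theorem f810425 : Led Lsl_af (LP (LK LD1_c7 LD2_c44 LD3_c49)) = v22449 :=
  Lgr Lrot31 (Lpe (K48.f667009 IH) (Lpe (K48.f667022 IH) (Lpr_ft (f810423 IH) (Lpn v22449))))
theorem f810417 : Led Lsl_af (LP (LK LD1_c7 LD2_c44 LD3_c48)) = (LP (LK LD1_c14 LD2_c20 LD3_c48)) :=
  Lgr Lrot0 (Lpr_at (f810415 IH) (Lpn (LP (LK LD1_c14 LD2_c20 LD3_c48))))
theorem f810429 : Led Lsl_ft (LP (LK LD1_c7 LD2_c44 LD3_c49)) = (LP (LK LD1_c14 LD2_c20 LD3_c48)) :=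
  Lgr Lrot101 (Lpr_af (f810425 IH) (Lpe (f810423 IH) (Lpr_af (f810417 IH) (Lpn (LP (LK LD1_c14 LD2_c20 LD3_c48))))))
theorem f810433 : Led Lsl_df (LP (LK LD1_c7 LD2_c44 LD3_c49)) = (LP (LK LD1_c13 LD2_c20 LD3_c44)) :=
  Lgr Lrot78 (Lpr_ft (f810429 IH) (Lpr_dt (f806694 IH) (Lpe (f810406 IH) (Lpn (LP (LK LD1_c13 LD2_c20 LD3_c44))))))
def v7579 : LQ := Led Lsl_gt (LP (LK LD1_c3 LD2_c51 LD3_c38))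
theorem f667040 : Led Lsl_gt (LP (LK LD1_c3 LD2_c51 LD3_c38)) = v7579 :=
  Lrfl
theorem f812473 : (LP (LK LD1_c7 LD2_c44 LD3_c17)) = v7579 :=
  (Llr Lrot122 (Lpe (f666732 IH) (Lpr_dt (f65765 IH) (Lpr_gt (f812467 IH) (Lpe (f812471 IH) (Lpr_et (f807050 IH) (Lpe (f807052 IH) (Lpe (f810433 IH) (Lpr_gt (K48.f667000 IH) (Lpe (K48.f530324 IH) (Lpr_et (f530325 IH) (Lpr_gt (f667040 IH) (Lpn v7579))))))))))))).symm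
theorem f443362 : Led Lsl_et (LP (LK LD1_c3 LD2_c47 LD3_c49)) = (LP (LK LD1_c1 LD2_c50 LD3_c59)) :=
  Lre_e IH (LK LD1_c3 LD2_c47 LD3_c49) (LK LD1_c1 LD2_c50 LD3_c59) Lrfl Lrfl
theorem f477436 : Led Lsl_dt (LP (LK LD1_c7 LD2_c36 LD3_c41)) = (LP (LK LD1_c3 LD2_c47 LD3_c48)) :=
  Lre_d IH (LK LD1_c7 LD2_c36 LD3_c41) (LK LD1_c3 LD2_c47 LD3_c48) Lrfl Lrfl
theorem f477437 : Led Lsl_et (LP (LK LD1_c7 LD2_c36 LD3_c41)) = (LP (LK LD1_c14 LD2_c20 LD3_c60)) :=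
  Lre_e IH (LK LD1_c7 LD2_c36 LD3_c41) (LK LD1_c14 LD2_c20 LD3_c60) Lrfl Lrfl
theorem f476331 : Led Lsl_et (LP (LK LD1_c3 LD2_c51 LD3_c61)) = (LP (LK LD1_c7 LD2_c45 LD3_c50)) :=
  Lre_e IH (LK LD1_c3 LD2_c51 LD3_c61) (LK LD1_c7 LD2_c45 LD3_c50) Lrfl Lrfl
theorem f477438 : Led Lsl_gf (LP (LK LD1_c14 LD2_c20 LD3_c60)) = (LP (LK LD1_c7 LD2_c45 LD3_c50)) :=
  Lgr Lrot141 (Lpe (f477437 IH) (Lpr_dt (f477436 IH) (Lpr_gt (f477435 IH) (Lpe (K61.f63783 IH) (Lpr_et (f443362 IH) (Lpr_gt (K29.f457958 IH) (Lpe (K46.f477424 IH) (Lpr_gt (K29.f477429 IH) (Lpr_df (K29.f476323 IH) (Lpr_et (f476331 IH) (Lpn (LP (LK LD1_c7 LD2_c45 LD3_c50)))))))))))))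
theorem f667007 : Led Lsl_ft (LP (LK LD1_c14 LD2_c37 LD3_c10)) = (LP (LK LD1_c7 LD2_c45 LD3_c0)) :=
  Lre_f IH (LK LD1_c14 LD2_c37 LD3_c10) (LK LD1_c7 LD2_c45 LD3_c0) Lrfl Lrfl
theorem f811347 : Led Lsl_gf (LP (LK LD1_c7 LD2_c45 LD3_c50)) = (LP (LK LD1_c14 LD2_c37 LD3_c10)) :=
  Lgr Lrot47 (Lpe (f477438 IH) (Lpr_af (f811339 IH) (Lpe (f667007 IH) (Lpn (LP (LK LD1_c14 LD2_c37 LD3_c10))))))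
def v22739 : LQ := Led Lsl_at (LP (LK LD1_c7 LD2_c41 LD3_c45))
theorem f810060 : Led Lsl_at (LP (LK LD1_c7 LD2_c41 LD3_c45)) = v22739 :=
  Lrfl
theorem f487580 : Led Lsl_at (LP (LK LD1_c7 LD2_c45 LD3_c50)) = (LP (LK LD1_c14 LD2_c21 LD3_c18)) :=
  Lgr Lrot100 (Lpr_af (K33.f487578 IH) (Lpn (LP (LK LD1_c14 LD2_c21 LD3_c18))))
theorem f810063 : Led Lsl_df (LP (LK LD1_c7 LD2_c45 LD3_c50)) = v22739 :=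
  Lgr Lrot18 (Lpr_at (f487580 IH) (Lpr_dt (K48.f666377 IH) (Lpr_at (f810060 IH) (Lpn v22739))))
theorem f665483 : Led Lsl_et (LP (LK LD1_c3 LD2_c50 LD3_c19)) = (LP (LK LD1_c7 LD2_c41 LD3_c45)) :=
  Lre_e IH (LK LD1_c3 LD2_c50 LD3_c19) (LK LD1_c7 LD2_c41 LD3_c45) Lrfl Lrfl
theorem f810064 : Led Lsl_ef K48.v7431 = v22739 :=
  Lgr Lrot20 (Lpe (K48.f665480 IH) (Lpr_et (f665483 IH) (Lpr_at (f810060 IH) (Lpn v22739))))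
theorem f467795 : Led Lsl_gt (LP (LK LD1_c14 LD2_c18 LD3_c4)) = (LP (LK LD1_c23 LD2_c55 LD3_c60)) :=
  Lre_g IH (LK LD1_c14 LD2_c18 LD3_c4) (LK LD1_c23 LD2_c55 LD3_c60) Lrfl Lrfl
theorem f811351 : Led Lsl_dt (LP (LK LD1_c24 LD2_c20 LD3_c32)) = (LP (LK LD1_c14 LD2_c37 LD3_c10)) :=
  Lre_d IH (LK LD1_c24 LD2_c20 LD3_c32) (LK LD1_c14 LD2_c37 LD3_c10) Lrfl Lrfl
theorem f811353 : Led Lsl_ef (LP (LK LD1_c23 LD2_c55 LD3_c60)) = (LP (LK LD1_c24 LD2_c20 LD3_c32)) :=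
  Lgr Lrot17 (Lpe (f467795 IH) (Lpe (K33.f467749 IH) (Lpr_dt (K29.f442356 IH) (Lpe (K29.f481705 IH) (Lpe (K48.f84950 IH) (Lpr_gf (K48.f665475 IH) (Lpr_ef (f810064 IH) (Lpe (f810063 IH) (Lpr_gf (f811347 IH) (Lpe (f811351 IH) (Lpn (LP (LK LD1_c24 LD2_c20 LD3_c32)))))))))))))
theorem f811234 : Led Lsl_ft (LP (LK LD1_c14 LD2_c37 LD3_c9)) = (LP (LK LD1_c24 LD2_c20 LD3_c32)) :=
  Lre_f IH (LK LD1_c14 LD2_c37 LD3_c9) (LK LD1_c24 LD2_c20 LD3_c32) Lrfl Lrfl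
theorem f477901 : Led Lsl_et (LP (LK LD1_c7 LD2_c45 LD3_c2)) = (LP (LK LD1_c14 LD2_c37 LD3_c9)) :=
  Lre_e IH (LK LD1_c7 LD2_c45 LD3_c2) (LK LD1_c14 LD2_c37 LD3_c9) Lrfl Lrfl
theorem f807008 : Led Lsl_dt (LP (LK LD1_c7 LD2_c41 LD3_c40)) = (LP (LK LD1_c14 LD2_c20 LD3_c61)) :=
  Lgr Lrot42 (Lpr_df (f807005 IH) (Lpn (LP (LK LD1_c14 LD2_c20 LD3_c61))))
theorem f439925 : Led Lsl_et (LP (LK LD1_c1 LD2_c52 LD3_c4)) = (LP (LK LD1_c3 LD2_c50 LD3_c17)) :=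
  Lre_e IH (LK LD1_c1 LD2_c52 LD3_c4) (LK LD1_c3 LD2_c50 LD3_c17) Lrfl Lrfl
theorem f467764 : Led Lsl_gt (LP (LK LD1_c14 LD2_c25 LD3_c27)) = (LP (LK LD1_c7 LD2_c39 LD3_c7)) :=
  Lre_g IH (LK LD1_c14 LD2_c25 LD3_c27) (LK LD1_c7 LD2_c39 LD3_c7) Lrfl Lrfl
theorem f811224 : Led Lsl_ef (LP (LK LD1_c14 LD2_c25 LD3_c27)) = (LP (LK LD1_c14 LD2_c37 LD3_c12)) :=
  Lgr Lrot114 (Lpr_gt (f467764 IH) (Lpe (K33.f467737 IH) (Lpr_dt (K29.f459689 IH) (Lpqs (K37.f482298 IH) (Lpe (K37.f459821 IH) (Lpe (K48.f84960 IH) (Lpr_et (f439925 IH) (Lpr_gt (f64270 IH) (Lpr_dt (f807008 IH) (Lpr_gt (f811220 IH) (Lpe (f809986 IH) (Lpn (LP (LK LD1_c14 LD2_c37 LD3_c12))))))))))))))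
theorem f811229 : Led Lsl_et (LP (LK LD1_c14 LD2_c25 LD3_c27)) = (LP (LK LD1_c14 LD2_c37 LD3_c12)) :=
  Lgr Lrot87 (Lpr_ef (f811224 IH) (Lpn (LP (LK LD1_c14 LD2_c37 LD3_c12))))
theorem f811357 : Led Lsl_ft (LP (LK LD1_c23 LD2_c55 LD3_c60)) = (LP (LK LD1_c14 LD2_c25 LD3_c27)) :=
  Lgr Lrot86 (Lpr_ef (f811353 IH) (Lpe (f811234 IH) (Lpe (f477901 IH) (Lpe (f809987 IH) (Lpe (f811229 IH) (Lpn (LP (LK LD1_c14 LD2_c25 LD3_c27))))))))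
theorem f467793 : Led Lsl_ft (LP (LK LD1_c14 LD2_c18 LD3_c4)) = (LP (LK LD1_c23 LD2_c56 LD3_c0)) :=
  Lre_f IH (LK LD1_c14 LD2_c18 LD3_c4) (LK LD1_c23 LD2_c56 LD3_c0) Lrfl Lrfl
theorem f467796 : Led Lsl_gt (LP (LK LD1_c23 LD2_c55 LD3_c60)) = (LP (LK LD1_c14 LD2_c25 LD3_c29)) :=
  Lgr Lrot46 (Lpe (f467795 IH) (Lpr_ft (f467793 IH) (Lpr_at (K33.f467777 IH) (Lpn (LP (LK LD1_c14 LD2_c25 LD3_c29))))))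
theorem f467753 : Led Lsl_af (LP (LK LD1_c14 LD2_c18 LD3_c4)) = (LP (LK LD1_c7 LD2_c39 LD3_c7)) :=
  Lgr Lrot0 (Lpr_at (K33.f467751 IH) (Lpn (LP (LK LD1_c7 LD2_c39 LD3_c7))))
theorem f467812 : Led Lsl_gt (LP (LK LD1_c23 LD2_c55 LD3_c61)) = (LP (LK LD1_c14 LD2_c18 LD3_c4)) :=
  Lre_g IH (LK LD1_c23 LD2_c55 LD3_c61) (LK LD1_c14 LD2_c18 LD3_c4) Lrfl Lrfl
theorem f467794 : Led Lsl_ft (LP (LK LD1_c14 LD2_c25 LD3_c29)) = (LP (LK LD1_c7 LD2_c39 LD3_c7)) :=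
  Lre_f IH (LK LD1_c14 LD2_c25 LD3_c29) (LK LD1_c7 LD2_c39 LD3_c7) Lrfl Lrfl
theorem f467813 : Led Lsl_gf (LP (LK LD1_c23 LD2_c55 LD3_c61)) = (LP (LK LD1_c14 LD2_c25 LD3_c29)) :=
  Lgr Lrot47 (Lpr_gt (f467812 IH) (Lpr_af (f467753 IH) (Lpe (f467794 IH) (Lpn (LP (LK LD1_c14 LD2_c25 LD3_c29))))))
theorem f811361 : Led Lsl_af (LP (LK LD1_c23 LD2_c55 LD3_c61)) = (LP (LK LD1_c14 LD2_c25 LD3_c27)) :=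
  Lgr Lrot31 (Lpr_gf (f467813 IH) (Lpe (f467796 IH) (Lpr_ft (f811357 IH) (Lpn (LP (LK LD1_c14 LD2_c25 LD3_c27))))))
theorem f443415 : Led Lsl_et (LP (LK LD1_c22 LD2_c39 LD3_c30)) = (LP (LK LD1_c13 LD2_c22 LD3_c19)) :=
  Lre_e IH (LK LD1_c22 LD2_c39 LD3_c30) (LK LD1_c13 LD2_c22 LD3_c19) Lrfl Lrfl
theorem f442354 : Led Lsl_dt (LP (LK LD1_c3 LD2_c47 LD3_c6)) = (LP (LK LD1_c7 LD2_c35 LD3_c5)) :=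
  Lre_d IH (LK LD1_c3 LD2_c47 LD3_c6) (LK LD1_c7 LD2_c35 LD3_c5) Lrfl Lrfl
theorem f665352 : Led Lsl_df (LP (LK LD1_c22 LD2_c39 LD3_c30)) = (LP (LK LD1_c14 LD2_c18 LD3_c4)) :=
  Lgr Lrot70 (Lpr_et (f443415 IH) (Lpr_dt (K48.f665348 IH) (Lpe (K48.f665343 IH) (Lpr_dt (f442354 IH) (Lpr_et (K33.f467749 IH) (Lpn (LP (LK LD1_c14 LD2_c18 LD3_c4))))))))
theorem f665361 : Led Lsl_dt (LP (LK LD1_c22 LD2_c39 LD3_c30)) = (LP (LK LD1_c14 LD2_c18 LD3_c4)) :=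
  Lgr Lrot42 (Lpr_df (f665352 IH) (Lpn (LP (LK LD1_c14 LD2_c18 LD3_c4))))
theorem f19136 : Led Lsl_dt (LP (LK LD1_c6 LD2_c58 LD3_c45)) = (LP (LK LD1_c13 LD2_c14 LD3_c59)) :=
  Lre_d IH (LK LD1_c6 LD2_c58 LD3_c45) (LK LD1_c13 LD2_c14 LD3_c59) Lrfl Lrfl
theorem f656325 : Led Lsl_at (LP (LK LD1_c13 LD2_c14 LD3_c59)) = (LP (LK LD1_c7 LD2_c3 LD3_c4)) :=
  Lgr Lrot51 (Lpe (f19136 IH) (Lpr_af (K48.f656319 IH) (Lpe (K61.f460732 IH) (Lpn (LP (LK LD1_c7 LD2_c3 LD3_c4))))))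
theorem f656509 : Led Lsl_gt (LP (LK LD1_c13 LD2_c22 LD3_c19)) = (LP (LK LD1_c7 LD2_c3 LD3_c4)) :=
  Lgr Lrot46 (Lpe (K48.f93485 IH) (Lpe (K61.f656006 IH) (Lpr_at (f656325 IH) (Lpn (LP (LK LD1_c7 LD2_c3 LD3_c4))))))
theorem f63564 : Led Lsl_et (LP (LK LD1_c22 LD2_c37 LD3_c34)) = (LP (LK LD1_c13 LD2_c21 LD3_c2)) :=
  Lre_e IH (LK LD1_c22 LD2_c37 LD3_c34) (LK LD1_c13 LD2_c21 LD3_c2) Lrfl Lrfl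
theorem f665405 : Led Lsl_dt (LP (LK LD1_c22 LD2_c37 LD3_c34)) = (LP (LK LD1_c23 LD2_c55 LD3_c61)) :=
  Lgr Lrot136 (Lpr_et (f63564 IH) (Lpe (f18331 IH) (Lpe (K56.f19087 IH) (Lpr_dt (K41.f18592 IH) (Lpe (K24.f19076 IH) (Lpe (K61.f460732 IH) (Lpe (f656509 IH) (Lpe (f443415 IH) (Lpr_dt (f665361 IH) (Lpe (f467812 IH) (Lpn (LP (LK LD1_c23 LD2_c55 LD3_c61)))))))))))))
theorem f665411 : Led Lsl_df (LP (LK LD1_c22 LD2_c37 LD3_c34)) = (LP (LK LD1_c23 LD2_c55 LD3_c61)) :=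
  Lgr Lrot38 (Lpr_dt (f665405 IH) (Lpn (LP (LK LD1_c23 LD2_c55 LD3_c61))))
theorem f467776 : Led Lsl_dt (LP (LK LD1_c24 LD2_c5 LD3_c20)) = (LP (LK LD1_c14 LD2_c25 LD3_c27)) :=
  Lre_d IH (LK LD1_c24 LD2_c5 LD3_c20) (LK LD1_c14 LD2_c25 LD3_c27) Lrfl Lrfl
theorem f811365 : Led Lsl_at (LP (LK LD1_c22 LD2_c37 LD3_c34)) = (LP (LK LD1_c24 LD2_c5 LD3_c20)) :=
  Lgr Lrot51 (Lpr_df (f665411 IH) (Lpr_af (f811361 IH) (Lpe (f467776 IH) (Lpn (LP (LK LD1_c24 LD2_c5 LD3_c20))))))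
theorem f665413 : Led Lsl_et (LP (LK LD1_c13 LD2_c21 LD3_c2)) = (LP (LK LD1_c22 LD2_c37 LD3_c34)) :=
  Lre_e IH (LK LD1_c13 LD2_c21 LD3_c2) (LK LD1_c22 LD2_c37 LD3_c34) Lrfl Lrfl
theorem f467824 : Led Lsl_et (LP (LK LD1_c14 LD2_c48 LD3_c48)) = (LP (LK LD1_c14 LD2_c25 LD3_c29)) :=
  Lgr Lrot87 (Lpr_ef (K33.f467739 IH) (Lpn (LP (LK LD1_c14 LD2_c25 LD3_c29))))
theorem f456682 : Led Lsl_bt (LP (LK LD1_c14 LD2_c48 LD3_c48)) = (LP (LK LD1_c13 LD2_c46 LD3_c1)) :=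
  Lgr Lrot35 (Lpe (K33.f456680 IH) (Lpr_bf (K33.f456668 IH) (Lpe (K29.f456681 IH) (Lpn (LP (LK LD1_c13 LD2_c46 LD3_c1))))))
theorem f456692 : Led Lsl_bf (LP (LK LD1_c14 LD2_c48 LD3_c48)) = (LP (LK LD1_c13 LD2_c46 LD3_c1)) :=
  Lgr Lrot24 (Lpr_bt (f456682 IH) (Lpn (LP (LK LD1_c13 LD2_c46 LD3_c1))))
theorem f467826 : Led Lsl_bf (LP (LK LD1_c13 LD2_c46 LD3_c11)) = (LP (LK LD1_c14 LD2_c25 LD3_c29)) :=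
  Lgr Lrot96 (Lpr_et (K29.f457288 IH) (Lpe (f456692 IH) (Lpr_et (f467824 IH) (Lpn (LP (LK LD1_c14 LD2_c25 LD3_c29))))))
theorem f457294 : Led Lsl_ft (LP (LK LD1_c13 LD2_c46 LD3_c11)) = (LP (LK LD1_c7 LD2_c16 LD3_c32)) :=
  Lre_f IH (LK LD1_c13 LD2_c46 LD3_c11) (LK LD1_c7 LD2_c16 LD3_c32) Lrfl Lrfl
theorem f467837 : Led Lsl_bt (LP (LK LD1_c7 LD2_c16 LD3_c32)) = (LP (LK LD1_c7 LD2_c39 LD3_c7)) :=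
  Lgr Lrot35 (Lpe (f457294 IH) (Lpr_bf (f467826 IH) (Lpe (K33.f467738 IH) (Lpn (LP (LK LD1_c7 LD2_c39 LD3_c7))))))
theorem f467842 : Led Lsl_dt (LP (LK LD1_c13 LD2_c46 LD3_c10)) = (LP (LK LD1_c7 LD2_c16 LD3_c32)) :=
  Lre_d IH (LK LD1_c13 LD2_c46 LD3_c10) (LK LD1_c7 LD2_c16 LD3_c32) Lrfl Lrfl
theorem f467760 : Led Lsl_dt (LP (LK LD1_c7 LD2_c39 LD3_c7)) = (LP (LK LD1_c14 LD2_c25 LD3_c28)) :=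
  Lre_d IH (LK LD1_c7 LD2_c39 LD3_c7) (LK LD1_c14 LD2_c25 LD3_c28) Lrfl Lrfl
theorem f467843 : Led Lsl_bf (LP (LK LD1_c13 LD2_c46 LD3_c10)) = (LP (LK LD1_c14 LD2_c25 LD3_c28)) :=
  Lgr Lrot93 (Lpr_dt (f467842 IH) (Lpr_bt (f467837 IH) (Lpr_dt (f467760 IH) (Lpn (LP (LK LD1_c14 LD2_c25 LD3_c28))))))
theorem f467850 : Led Lsl_et (LP (LK LD1_c13 LD2_c46 LD3_c10)) = (LP (LK LD1_c7 LD2_c16 LD3_c33)) :=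
  Lre_e IH (LK LD1_c13 LD2_c46 LD3_c10) (LK LD1_c7 LD2_c16 LD3_c33) Lrfl Lrfl
theorem f467852 : Led Lsl_bt (LP (LK LD1_c7 LD2_c16 LD3_c33)) = (LP (LK LD1_c7 LD2_c39 LD3_c8)) :=
  Lgr Lrot119 (Lpe (f467850 IH) (Lpr_bf (f467843 IH) (Lpe (K48.f467851 IH) (Lpn (LP (LK LD1_c7 LD2_c39 LD3_c8))))))
theorem f656145 : Led Lsl_gt (LP (LK LD1_c7 LD2_c39 LD3_c8)) = (LP (LK LD1_c13 LD2_c14 LD3_c59)) :=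
  Lgr Lrot82 (Lpe (f467852 IH) (Lpr_ct (K28.f457373 IH) (Lpe (K29.f480689 IH) (Lpe (K29.f460874 IH) (Lpe (K34.f460870 IH) (Lpr_gf (K46.f516233 IH) (Lpe (K48.f516569 IH) (Lpr_ct (K61.f460901 IH) (Lpr_gf (K61.f656133 IH) (Lpe (K61.f19137 IH) (Lpn (LP (LK LD1_c13 LD2_c14 LD3_c59)))))))))))))
theorem f467872 : Led Lsl_et (LP (LK LD1_c14 LD2_c25 LD3_c28)) = (LP (LK LD1_c7 LD2_c39 LD3_c8)) :=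
  Lre_e IH (LK LD1_c14 LD2_c25 LD3_c28) (LK LD1_c7 LD2_c39 LD3_c8) Lrfl Lrfl
theorem f467808 : Led Lsl_dt (LP (LK LD1_c14 LD2_c25 LD3_c28)) = (LP (LK LD1_c7 LD2_c39 LD3_c7)) :=
  Lre_d IH (LK LD1_c14 LD2_c25 LD3_c28) (LK LD1_c7 LD2_c39 LD3_c7) Lrfl Lrfl
theorem f18870 : Led Lsl_gt (LP (LK LD1_c6 LD2_c58 LD3_c45)) = (LP (LK LD1_c3 LD2_c28 LD3_c16)) :=
  Lre_g IH (LK LD1_c6 LD2_c58 LD3_c45) (LK LD1_c3 LD2_c28 LD3_c16) Lrfl Lrfl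
theorem f18866 : Led Lsl_dt (LP (LK LD1_c6 LD2_c58 LD3_c46)) = (LP (LK LD1_c3 LD2_c28 LD3_c16)) :=
  Lre_d IH (LK LD1_c6 LD2_c58 LD3_c46) (LK LD1_c3 LD2_c28 LD3_c16) Lrfl Lrfl
theorem f63122 : Led Lsl_dt (LP (LK LD1_c3 LD2_c28 LD3_c16)) = (LP (LK LD1_c6 LD2_c58 LD3_c46)) :=
  Lre_d IH (LK LD1_c3 LD2_c28 LD3_c16) (LK LD1_c6 LD2_c58 LD3_c46) Lrfl Lrfl
theorem f63125 : Led Lsl_et (LP (LK LD1_c6 LD2_c58 LD3_c46)) = (LP (LK LD1_c7 LD2_c41 LD3_c32)) :=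
  Lgr Lrot71 (Lpe (f63122 IH) (Lpe (K3.f63121 IH) (Lpr_df (K1.f62676 IH) (Lpe (K1.f63123 IH) (Lpe (K56.f63124 IH) (Lpn (LP (LK LD1_c7 LD2_c41 LD3_c32))))))))
theorem f63183 : Led Lsl_gt (LP (LK LD1_c7 LD2_c41 LD3_c32)) = (LP (LK LD1_c14 LD2_c29 LD3_c60)) :=
  Lre_g IH (LK LD1_c7 LD2_c41 LD3_c32) (LK LD1_c14 LD2_c29 LD3_c60) Lrfl Lrfl
theorem f656147 : Led Lsl_et (LP (LK LD1_c24 LD2_c5 LD3_c20)) = (LP (LK LD1_c14 LD2_c29 LD3_c60)) :=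
  Lgr Lrot122 (Lpr_dt (f467776 IH) (Lpr_gt (f467764 IH) (Lpe (f467808 IH) (Lpr_et (f467872 IH) (Lpr_gt (f656145 IH) (Lpr_dt (K61.f63626 IH) (Lpr_gt (f18870 IH) (Lpe (f18866 IH) (Lpr_et (f63125 IH) (Lpr_gt (f63183 IH) (Lpn (LP (LK LD1_c14 LD2_c29 LD3_c60)))))))))))))
theorem f811376 : Led Lsl_af (LP (LK LD1_c13 LD2_c21 LD3_c2)) = (LP (LK LD1_c14 LD2_c29 LD3_c60)) :=
  Lgr Lrot50 (Lpr_et (f665413 IH) (Lpr_at (f811365 IH) (Lpr_et (f656147 IH) (Lpn (LP (LK LD1_c14 LD2_c29 LD3_c60))))))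
theorem f811382 : Led Lsl_ft (LP (LK LD1_c13 LD2_c21 LD3_c3)) = (LP (LK LD1_c14 LD2_c29 LD3_c60)) :=
  Lgr Lrot101 (Lpr_af (f811141 IH) (Lpe (f811133 IH) (Lpr_af (f811376 IH) (Lpn (LP (LK LD1_c14 LD2_c29 LD3_c60))))))
theorem f811388 : Led Lsl_ff (LP (LK LD1_c13 LD2_c21 LD3_c3)) = (LP (LK LD1_c14 LD2_c29 LD3_c60)) :=
  Lgr Lrot3 (Lpr_ft (f811382 IH) (Lpn (LP (LK LD1_c14 LD2_c29 LD3_c60))))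
theorem f63754 : Led Lsl_ft (LP (LK LD1_c7 LD2_c36 LD3_c38)) = (LP (LK LD1_c14 LD2_c20 LD3_c52)) :=
  Lre_f IH (LK LD1_c7 LD2_c36 LD3_c38) (LK LD1_c14 LD2_c20 LD3_c52) Lrfl Lrfl
theorem f811392 : Led Lsl_dt (LP (LK LD1_c14 LD2_c20 LD3_c52)) = (LP (LK LD1_c14 LD2_c29 LD3_c60)) :=
  Lgr Lrot60 (Lpe (f63754 IH) (Lpe (f63745 IH) (Lpr_ff (f811388 IH) (Lpn (LP (LK LD1_c14 LD2_c29 LD3_c60))))))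
theorem f811394 : Led Lsl_af (LP (LK LD1_c14 LD2_c20 LD3_c52)) = (LP (LK LD1_c7 LD2_c44 LD3_c54)) :=
  Lgr Lrot117 (Lpr_dt (f811392 IH) (Lpe (f811376 IH) (Lpr_dt (f811131 IH) (Lpn (LP (LK LD1_c7 LD2_c44 LD3_c54))))))
theorem f811417 : Led Lsl_gf (LP (LK LD1_c14 LD2_c20 LD3_c52)) = v7579 :=
  Lgr Lrot76 (Lpr_af (f811394 IH) (Lpe (f530346 IH) (Lpr_gt (f667040 IH) (Lpn v7579))))
theorem f63541 : Led Lsl_gf (LP (LK LD1_c13 LD2_c20 LD3_c58)) = (LP (LK LD1_c14 LD2_c29 LD3_c60)) :=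
  Lgr Lrot76 (Lpr_af (f63531 IH) (Lpe (f63273 IH) (Lpr_gt (f63183 IH) (Lpn (LP (LK LD1_c14 LD2_c29 LD3_c60))))))
theorem f63543 : Led Lsl_gt (LP (LK LD1_c3 LD2_c30 LD3_c17)) = (LP (LK LD1_c6 LD2_c59 LD3_c56)) :=
  Lre_g IH (LK LD1_c3 LD2_c30 LD3_c17) (LK LD1_c6 LD2_c59 LD3_c56) Lrfl Lrfl
theorem f65731 : Led Lsl_gt (LP (LK LD1_c7 LD2_c44 LD3_c14)) = (LP (LK LD1_c14 LD2_c35 LD3_c34)) :=
  Lre_g IH (LK LD1_c7 LD2_c44 LD3_c14) (LK LD1_c14 LD2_c35 LD3_c34) Lrfl Lrfl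
theorem f65790 : Led Lsl_df (LP (LK LD1_c14 LD2_c35 LD3_c34)) = (LP (LK LD1_c13 LD2_c16 LD3_c50)) :=
  Lgr Lrot132 (Lpe (f65731 IH) (Lpe (f65730 IH) (Lpe (K52.f65729 IH) (Lpe (K5.f65762 IH) (Lpe (K3.f65774 IH) (Lpr_gf (K2.f65776 IH) (Lpe (K1.f62806 IH) (Lpr_et (K1.f62844 IH) (Lpe (f65789 IH) (Lpe (f63545 IH) (Lpn (LP (LK LD1_c13 LD2_c16 LD3_c50)))))))))))))
theorem f812477 : Led Lsl_gf (LP (LK LD1_c7 LD2_c44 LD3_c16)) = (LP (LK LD1_c14 LD2_c35 LD3_c34)) :=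
  Lgr Lrot145 (Lpe (f65765 IH) (Lpr_et (f666732 IH) (Lpqs (f812473 IH) (Lpe (f811417 IH) (Lpr_dt (f811392 IH) (Lpe (f63541 IH) (Lpe (K1.f63372 IH) (Lpr_et (K1.f63206 IH) (Lpr_gt (f63543 IH) (Lpe (f63545 IH) (Lpe (f65790 IH) (Lpn (LP (LK LD1_c14 LD2_c35 LD3_c34))))))))))))))
theorem f656149 : Led Lsl_ef (LP (LK LD1_c24 LD2_c5 LD3_c20)) = (LP (LK LD1_c14 LD2_c29 LD3_c60)) :=
  Lgr Lrot88 (Lpr_et (f656147 IH) (Lpn (LP (LK LD1_c14 LD2_c29 LD3_c60))))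
theorem f811396 : Led Lsl_ef (LP (LK LD1_c14 LD2_c20 LD3_c52)) = (LP (LK LD1_c7 LD2_c45 LD3_c3)) :=
  Lgr Lrot73 (Lpr_dt (f811392 IH) (Lpe (f656149 IH) (Lpr_dt (f467776 IH) (Lpr_et (f811229 IH) (Lpr_dt (f809986 IH) (Lpn (LP (LK LD1_c7 LD2_c45 LD3_c3))))))))
theorem f667082 : Led Lsl_dt (LP (LK LD1_c7 LD2_c45 LD3_c3)) = (LP (LK LD1_c14 LD2_c37 LD3_c12)) :=
  Lre_d IH (LK LD1_c7 LD2_c45 LD3_c3) (LK LD1_c14 LD2_c37 LD3_c12) Lrfl Lrfl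
theorem f65027 : Led Lsl_et (LP (LK LD1_c7 LD2_c35 LD3_c29)) = (LP (LK LD1_c14 LD2_c18 LD3_c45)) :=
  Lre_e IH (LK LD1_c7 LD2_c35 LD3_c29) (LK LD1_c14 LD2_c18 LD3_c45) Lrfl Lrfl
theorem f807060 : Led Lsl_gt (LP (LK LD1_c13 LD2_c20 LD3_c51)) = (LP (LK LD1_c14 LD2_c18 LD3_c45)) :=
  Lgr Lrot137 (Lpr_ef (f807047 IH) (Lpr_dt (f65024 IH) (Lpe (K61.f65023 IH) (Lpe (K3.f63795 IH) (Lpr_et (K3.f63796 IH) (Lpr_gf (K1.f65003 IH) (Lpe (K4.f65018 IH) (Lpr_dt (K52.f63174 IH) (Lpe (K52.f65019 IH) (Lpe (K52.f65020 IH) (Lpn (LP (LK LD1_c14 LD2_c18 LD3_c45)))))))))))))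
theorem f807062 : Led Lsl_gf v20683 = (LP (LK LD1_c14 LD2_c18 LD3_c45)) :=
  Lgr Lrot76 (Lpe (f789117 IH) (Lpe (f658547 IH) (Lpr_gt (f807060 IH) (Lpn (LP (LK LD1_c14 LD2_c18 LD3_c45))))))
theorem f812480 : v20683 = (LP (LK LD1_c13 LD2_c16 LD3_c50)) :=
  (Llr Lrot137 (Lpr_gf (f807062 IH) (Lpe (f65027 IH) (Lpr_dt (f65044 IH) (Lpr_gf (f811324 IH) (Lpe (f667082 IH) (Lpe (f811396 IH) (Lpr_gf (f811417 IH) (Lpq (f812473 IH) (Lpe (f666732 IH) (Lpr_dt (f65765 IH) (Lpr_gf (f812477 IH) (Lpr_df (f65790 IH) (Lpn (LP (LK LD1_c13 LD2_c16 LD3_c50)))))))))))))))).symm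
theorem f812484 : v6801 = (LP (LK LD1_c6 LD2_c59 LD3_c56)) :=
  Lefun (Lecon (Lfl_ef (f789119 IH)) (f812480 IH)) (f63545 IH)
theorem f812485 : (LP (LK LD1_c3 LD2_c30 LD3_c15)) = v20580 :=
  Lefun (Lecon (Lfl_af (f658554 IH)) (f812484 IH)) (f788018 IH)
theorem f812498 : (LP (LK LD1_c6 LD2_c59 LD3_c55)) = K61.v6800 :=
  Lefun (Lecon (Lfl_ff (f788017 IH)) (f812485 IH).symm) (K61.f658546 IH)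
theorem f812506 : v20672 = (LP (LK LD1_c7 LD2_c45 LD3_c10)) :=
  Lefun (Lecon (f789090 IH) (f812498 IH).symm) (Lfl_ef (f65170 IH))
theorem f812511 : v22462 = (LP (LK LD1_c3 LD2_c51 LD3_c44)) :=
  Lefun (Lecon (f807086 IH) (f812506 IH)) (K1.f65150 IH)
theorem f812512 : (LP (LK LD1_c7 LD2_c36 LD3_c44)) = v7588 :=
  Lefun (Lecon (Lfl_af (f807082 IH)) (f812511 IH)) (f667104 IH)
theorem f812518 : (LP (LK LD1_c3 LD2_c51 LD3_c43)) = v22460 :=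
  Lefun (Lecon (Lfl_ff (f667102 IH)) (f812512 IH).symm) (f807040 IH)
theorem f812523 : v20673 = (LP (LK LD1_c7 LD2_c45 LD3_c6)) :=
  Lefun (Lecon (Lfl_df (f807041 IH)) (f812518 IH).symm) (f103867 IH)
theorem f658555 : Led Lsl_ff (LP (LK LD1_c3 LD2_c30 LD3_c14)) = v6801 :=
  Lgr Lrot3 (Lpr_ft (f658553 IH) (Lpn v6801))
theorem f103857 : Led Lsl_et (LP (LK LD1_c7 LD2_c45 LD3_c6)) = (LP (LK LD1_c14 LD2_c30 LD3_c5)) :=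
  Lre_e IH (LK LD1_c7 LD2_c45 LD3_c6) (LK LD1_c14 LD2_c30 LD3_c5) Lrfl Lrfl
theorem f812532 : Led Lsl_ff (LP (LK LD1_c13 LD2_c16 LD3_c50)) = (LP (LK LD1_c14 LD2_c30 LD3_c5)) :=
  Lgr Lrot72 (Lpr_et (f63545 IH) (Lpq (f812484 IH) (Lpe (f658555 IH) (Lpr_et (f63775 IH) (Lpr_ft (f789091 IH) (Lpqs (f812523 IH) (Lpr_et (f103857 IH) (Lpn (LP (LK LD1_c14 LD2_c30 LD3_c5))))))))))
theorem f789118 : Led Lsl_af (LP (LK LD1_c7 LD2_c2 LD3_c16)) = v20683 :=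
  Lgr Lrot0 (Lpr_at (f789117 IH) (Lpn v20683))
theorem f812534 : Led Lsl_at (LP (LK LD1_c13 LD2_c20 LD3_c51)) = (LP (LK LD1_c14 LD2_c30 LD3_c5)) :=
  Lgr Lrot66 (Lpe (f658552 IH) (Lpr_af (f789118 IH) (Lpqs (f812480 IH) (Lpr_ff (f812532 IH) (Lpn (LP (LK LD1_c14 LD2_c30 LD3_c5)))))))
theorem f812607 : Led Lsl_gf (LP (LK LD1_c14 LD2_c30 LD3_c5)) = (LP (LK LD1_c13 LD2_c20 LD3_c49)) :=
  Lgr Lrot76 (Lpe (f812534 IH) (Lpe (f658552 IH) (Lpr_gt (K61.f443496 IH) (Lpn (LP (LK LD1_c13 LD2_c20 LD3_c49))))))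
theorem f65736 : Led Lsl_gt (LP (LK LD1_c14 LD2_c30 LD3_c5)) = (LP (LK LD1_c7 LD2_c41 LD3_c36)) :=
  Lre_g IH (LK LD1_c14 LD2_c30 LD3_c5) (LK LD1_c7 LD2_c41 LD3_c36) Lrfl Lrfl
def v22725 : LQ := Led Lsl_at (LP (LK LD1_c7 LD2_c41 LD3_c36))
theorem f809998 : Led Lsl_at (LP (LK LD1_c7 LD2_c41 LD3_c36)) = v22725 :=
  Lrfl
theorem f809999 : Led Lsl_af (LP (LK LD1_c7 LD2_c41 LD3_c36)) = v22725 :=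
  Lgr Lrot0 (Lpr_at (f809998 IH) (Lpn v22725))
theorem f812609 : Led Lsl_ff v22725 = (LP (LK LD1_c13 LD2_c20 LD3_c49)) :=
  Lgr Lrot52 (Lpe (f809999 IH) (Lpe (f65736 IH) (Lpr_gf (f812607 IH) (Lpn (LP (LK LD1_c13 LD2_c20 LD3_c49))))))
theorem f666345 : Led Lsl_et (LP (LK LD1_c3 LD2_c50 LD3_c15)) = (LP (LK LD1_c7 LD2_c41 LD3_c36)) :=
  Lre_e IH (LK LD1_c3 LD2_c50 LD3_c15) (LK LD1_c7 LD2_c41 LD3_c36) Lrfl Lrfl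
theorem f810000 : Led Lsl_ef v7527 = v22725 :=
  Lgr Lrot20 (Lpe (f666343 IH) (Lpr_et (f666345 IH) (Lpr_at (f809998 IH) (Lpn v22725))))
theorem f666350 : Led Lsl_et (LP (LK LD1_c3 LD2_c50 LD3_c16)) = (LP (LK LD1_c7 LD2_c41 LD3_c39)) :=
  Lre_e IH (LK LD1_c3 LD2_c50 LD3_c16) (LK LD1_c7 LD2_c41 LD3_c39) Lrfl Lrfl
theorem f666351 : Led Lsl_ft (LP (LK LD1_c7 LD2_c41 LD3_c39)) = (LP (LK LD1_c14 LD2_c30 LD3_c10)) :=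
  Lre_f IH (LK LD1_c7 LD2_c41 LD3_c39) (LK LD1_c14 LD2_c30 LD3_c10) Lrfl Lrfl
theorem f812611 : Led Lsl_et (LP (LK LD1_c14 LD2_c30 LD3_c10)) = (LP (LK LD1_c13 LD2_c20 LD3_c49)) :=
  Lgr Lrot69 (Lpe (f666351 IH) (Lpe (f666350 IH) (Lpr_ff (f666348 IH) (Lpr_ef (f810000 IH) (Lpr_ff (f812609 IH) (Lpn (LP (LK LD1_c13 LD2_c20 LD3_c49))))))))
theorem f812612 : Led Lsl_et (LP (LK LD1_c14 LD2_c30 LD3_c10)) = (LP (LK LD1_c13 LD2_c20 LD3_c49)) :=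
  Leop (Lpe (f812611 IH) (Lpn (LP (LK LD1_c14 LD2_c30 LD3_c10))))
theorem seed_1777 : LEOK LG_e (LK LD1_c14 LD2_c30 LD3_c10) :=
  Leoe_e (LK LD1_c14 LD2_c30 LD3_c10) (f812612 IH)
theorem f812605 : Led Lsl_ft (LP (LK LD1_c14 LD2_c35 LD3_c35)) = (LP (LK LD1_c13 LD2_c20 LD3_c50)) :=
  Lgr Lrot54 (Lpe (f812471 IH) (Lpe (f658552 IH) (Lpe (K61.f96261 IH) (Lpn (LP (LK LD1_c13 LD2_c20 LD3_c50))))))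
theorem f812623 : Led Lsl_af (LP (LK LD1_c14 LD2_c35 LD3_c34)) = (LP (LK LD1_c13 LD2_c20 LD3_c50)) :=
  Lgr Lrot31 (Lpe (f65731 IH) (Lpe (f439890 IH) (Lpr_ft (f812605 IH) (Lpn (LP (LK LD1_c13 LD2_c20 LD3_c50))))))
theorem f812625 : Led Lsl_at (LP (LK LD1_c14 LD2_c35 LD3_c34)) = (LP (LK LD1_c13 LD2_c20 LD3_c50)) :=
  Lgr Lrot100 (Lpr_af (f812623 IH) (Lpn (LP (LK LD1_c13 LD2_c20 LD3_c50))))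
theorem f130661 : Led Lsl_gt (LP (LK LD1_c22 LD2_c35 LD3_c59)) = (LP (LK LD1_c13 LD2_c19 LD3_c26)) :=
  Lre_g IH (LK LD1_c22 LD2_c35 LD3_c59) (LK LD1_c13 LD2_c19 LD3_c26) Lrfl Lrfl
theorem f812632 : Led Lsl_ff (LP (LK LD1_c14 LD2_c35 LD3_c34)) = (LP (LK LD1_c22 LD2_c35 LD3_c59)) :=
  Lgr Lrot52 (Lpr_at (f812625 IH) (Lpe (K61.f96260 IH) (Lpe (f130661 IH) (Lpn (LP (LK LD1_c22 LD2_c35 LD3_c59))))))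
theorem f65805 : Led Lsl_dt (LP (LK LD1_c14 LD2_c35 LD3_c34)) = (LP (LK LD1_c13 LD2_c16 LD3_c50)) :=
  Lgr Lrot42 (Lpr_df (f65790 IH) (Lpn (LP (LK LD1_c13 LD2_c16 LD3_c50))))
theorem f812538 : Led Lsl_ft (LP (LK LD1_c13 LD2_c16 LD3_c50)) = (LP (LK LD1_c14 LD2_c30 LD3_c5)) :=
  Lgr Lrot48 (Lpr_ff (f812532 IH) (Lpn (LP (LK LD1_c14 LD2_c30 LD3_c5))))
theorem f812636 : Led Lsl_dt (LP (LK LD1_c14 LD2_c30 LD3_c5)) = (LP (LK LD1_c22 LD2_c35 LD3_c59)) :=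
  Lgr Lrot60 (Lpe (f812538 IH) (Lpe (f65805 IH) (Lpr_ff (f812632 IH) (Lpn (LP (LK LD1_c22 LD2_c35 LD3_c59))))))
theorem f103863 : Led Lsl_et (LP (LK LD1_c14 LD2_c30 LD3_c5)) = (LP (LK LD1_c7 LD2_c45 LD3_c6)) :=
  Lre_e IH (LK LD1_c14 LD2_c30 LD3_c5) (LK LD1_c7 LD2_c45 LD3_c6) Lrfl Lrfl
theorem f443482 : Led Lsl_et (LP (LK LD1_c7 LD2_c1 LD3_c27)) = (LP (LK LD1_c13 LD2_c19 LD3_c27)) :=
  Lre_e IH (LK LD1_c7 LD2_c1 LD3_c27) (LK LD1_c13 LD2_c19 LD3_c27) Lrfl Lrfl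
theorem f812648 : Led Lsl_gf (LP (LK LD1_c7 LD2_c45 LD3_c26)) = (LP (LK LD1_c13 LD2_c19 LD3_c27)) :=
  Lgr Lrot138 (Lpr_dt (f666419 IH) (Lpr_gt (f810337 IH) (Lpe (f93591 IH) (Lpr_et (f806689 IH) (Lpe (f810339 IH) (Lpe (f103863 IH) (Lpr_dt (f812636 IH) (Lpr_gt (f130661 IH) (Lpe (K61.f96259 IH) (Lpr_et (f443482 IH) (Lpn (LP (LK LD1_c13 LD2_c19 LD3_c27)))))))))))))
theorem f812649 : Led Lsl_gt (LP (LK LD1_c13 LD2_c19 LD3_c27)) = (LP (LK LD1_c7 LD2_c45 LD3_c26)) :=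
  Leop (Lpr_gf (f812648 IH) (Lpn (LP (LK LD1_c13 LD2_c19 LD3_c27))))
theorem seed_1778 : LEOK LG_g (LK LD1_c13 LD2_c19 LD3_c27) :=
  Leoe_g (LK LD1_c13 LD2_c19 LD3_c27) (f812649 IH)
def v22872 : LQ := Led Lsl_at (LP (LK LD1_c7 LD2_c44 LD3_c17))
theorem f812828 : Led Lsl_at (LP (LK LD1_c7 LD2_c44 LD3_c17)) = v22872 :=
  Lrfl
theorem f812829 : Led Lsl_af (LP (LK LD1_c7 LD2_c44 LD3_c17)) = v22872 :=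
  Lgr Lrot0 (Lpr_at (f812828 IH) (Lpn v22872))
theorem f812832 : Led Lsl_ft (LP (LK LD1_c7 LD2_c44 LD3_c52)) = v22872 :=
  Lgr Lrot2 (Lpr_gt (K56.f443242 IH) (Lpr_gt (f667040 IH) (Lpq (f812473 IH) (Lpr_af (f812829 IH) (Lpn v22872)))))
theorem f441321 : Led Lsl_et (LP (LK LD1_c14 LD2_c31 LD3_c43)) = (LP (LK LD1_c7 LD2_c44 LD3_c52)) :=
  Lre_e IH (LK LD1_c14 LD2_c31 LD3_c43) (LK LD1_c7 LD2_c44 LD3_c52) Lrfl Lrfl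
def v7562 : LQ := Led Lsl_ft (LP (LK LD1_c3 LD2_c51 LD3_c23))
theorem f666737 : Led Lsl_ft (LP (LK LD1_c3 LD2_c51 LD3_c23)) = v7562 :=
  Lrfl
theorem f666738 : Led Lsl_af (LP (LK LD1_c3 LD2_c51 LD3_c24)) = v7562 :=
  Lgr Lrot45 (Lpr_ft (f666730 IH) (Lpe (f666729 IH) (Lpr_ft (f666737 IH) (Lpn v7562))))
theorem f812830 : Led Lsl_ef v7562 = v22872 :=
  Lgr Lrot20 (Lpe (f666738 IH) (Lpr_et (f666732 IH) (Lpr_at (f812828 IH) (Lpn v22872))))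
theorem f666739 : Led Lsl_ff (LP (LK LD1_c3 LD2_c51 LD3_c23)) = v7562 :=
  Lgr Lrot3 (Lpr_ft (f666737 IH) (Lpn v7562))
theorem f65797 : Led Lsl_et (LP (LK LD1_c3 LD2_c51 LD3_c23)) = (LP (LK LD1_c7 LD2_c44 LD3_c15)) :=
  Lre_e IH (LK LD1_c3 LD2_c51 LD3_c23) (LK LD1_c7 LD2_c44 LD3_c15) Lrfl Lrfl
def v22870 : LQ := Led Lsl_ft (LP (LK LD1_c7 LD2_c44 LD3_c15))
theorem f812822 : Led Lsl_ft (LP (LK LD1_c7 LD2_c44 LD3_c15)) = v22870 :=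
  Lrfl
theorem f812834 : (LP (LK LD1_c14 LD2_c31 LD3_c43)) = v22870 :=
  (Llr Lrot21 (Lpr_et (f441321 IH) (Lpr_ft (f812832 IH) (Lpe (f812830 IH) (Lpe (f666739 IH) (Lpr_et (f65797 IH) (Lpr_ft (f812822 IH) (Lpn v22870)))))))).symm
theorem f812823 : Led Lsl_ff (LP (LK LD1_c7 LD2_c44 LD3_c15)) = v22870 :=
  Lgr Lrot3 (Lpr_ft (f812822 IH) (Lpn v22870))
theorem f812835 : Led Lsl_ft (LP (LK LD1_c14 LD2_c31 LD3_c43)) = (LP (LK LD1_c7 LD2_c44 LD3_c15)) :=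
  Leop (Lpr_ff (f812823 IH) (Lpq (f812834 IH) (Lpn (LP (LK LD1_c14 LD2_c31 LD3_c43)))))
theorem seed_1779 : LEOK LG_f (LK LD1_c14 LD2_c31 LD3_c43) :=
  Leoe_f (LK LD1_c14 LD2_c31 LD3_c43) (f812835 IH)
def v22774 : LQ := Led Lsl_et (LP (LK LD1_c7 LD2_c42 LD3_c48))
theorem f810588 : Led Lsl_et (LP (LK LD1_c7 LD2_c42 LD3_c48)) = v22774 :=
  Lrfl
theorem f810589 : Led Lsl_ef (LP (LK LD1_c7 LD2_c42 LD3_c48)) = v22774 :=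
  Lgr Lrot88 (Lpr_et (f810588 IH) (Lpn v22774))
def v22730 : LQ := Led Lsl_ft (LP (LK LD1_c7 LD2_c41 LD3_c37))
theorem f810016 : Led Lsl_ft (LP (LK LD1_c7 LD2_c41 LD3_c37)) = v22730 :=
  Lrfl
theorem f810019 : Led Lsl_ff (LP (LK LD1_c7 LD2_c41 LD3_c37)) = v22730 :=
  Lgr Lrot3 (Lpr_ft (f810016 IH) (Lpn v22730))
def v22727 : LQ := Led Lsl_at (LP (LK LD1_c7 LD2_c41 LD3_c37))
theorem f810004 : Led Lsl_at (LP (LK LD1_c7 LD2_c41 LD3_c37)) = v22727 :=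
  Lrfl
theorem f810005 : Led Lsl_af (LP (LK LD1_c7 LD2_c41 LD3_c37)) = v22727 :=
  Lgr Lrot0 (Lpr_at (f810004 IH) (Lpn v22727))
theorem f64835 : Led Lsl_bt (LP (LK LD1_c1 LD2_c51 LD3_c22)) = (LP (LK LD1_c3 LD2_c48 LD3_c33)) :=
  Lre_b IH (LK LD1_c1 LD2_c51 LD3_c22) (LK LD1_c3 LD2_c48 LD3_c33) Lrfl Lrfl
theorem f64860 : Led Lsl_gt (LP (LK LD1_c6 LD2_c38 LD3_c44)) = (LP (LK LD1_c3 LD2_c17 LD3_c38)) :=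
  Lre_g IH (LK LD1_c6 LD2_c38 LD3_c44) (LK LD1_c3 LD2_c17 LD3_c38) Lrfl Lrfl
theorem f112246 : Led Lsl_bt (LP (LK LD1_c11 LD2_c29 LD3_c50)) = (LP (LK LD1_c7 LD2_c35 LD3_c32)) :=
  Lgr Lrot127 (Lpr_bf (K4.f112244 IH) (Lpn (LP (LK LD1_c7 LD2_c35 LD3_c32))))
theorem f117234 : Led Lsl_af (LP (LK LD1_c1 LD2_c52 LD3_c3)) = (LP (LK LD1_c3 LD2_c47 LD3_c19)) :=
  Lgr Lrot36 (Lpr_bt (K52.f87424 IH) (Lpr_at (K57.f117174 IH) (Lpe (K52.f117172 IH) (Lpr_at (K4.f117228 IH) (Lpr_bt (K52.f112237 IH) (Lpn (LP (LK LD1_c3 LD2_c47 LD3_c19))))))))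
theorem f440852 : Led Lsl_gf (LP (LK LD1_c3 LD2_c50 LD3_c16)) = (LP (LK LD1_c7 LD2_c35 LD3_c32)) :=
  Lgr Lrot47 (Lpr_gt (f87418 IH) (Lpr_af (f117234 IH) (Lpe (K4.f96682 IH) (Lpn (LP (LK LD1_c7 LD2_c35 LD3_c32))))))
def v7530 : LQ := Led Lsl_ct (LP (LK LD1_c3 LD2_c50 LD3_c16))
theorem f666359 : Led Lsl_ct (LP (LK LD1_c3 LD2_c50 LD3_c16)) = v7530 :=
  Lrfl
theorem f712289 : (LP (LK LD1_c6 LD2_c38 LD3_c44)) = v7530 :=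
  (Llr Lrot129 (Lpr_gt (f64860 IH) (Lpe (K4.f64836 IH) (Lpr_bt (f64835 IH) (Lpr_gt (K52.f665703 IH) (Lpq (K52.f708825 IH) (Lpe (K52.f444281 IH) (Lpr_ct (K52.f79884 IH) (Lpqs (K52.f712151 IH) (Lpe (K52.f640495 IH) (Lpe (K4.f24107 IH) (Lpr_bt (f112246 IH) (Lpe (f440852 IH) (Lpr_ct (f666359 IH) (Lpn v7530))))))))))))))).symm
theorem f666349 : Led Lsl_bt (LP (LK LD1_c3 LD2_c50 LD3_c16)) = (LP (LK LD1_c7 LD2_c41 LD3_c37)) :=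
  Lre_b IH (LK LD1_c3 LD2_c50 LD3_c16) (LK LD1_c7 LD2_c41 LD3_c37) Lrfl Lrfl
theorem f93759 : Led Lsl_gf (LP (LK LD1_c6 LD2_c38 LD3_c44)) = (LP (LK LD1_c12 LD2_c37 LD3_c23)) :=
  Lgr Lrot47 (Lpr_gt (f64860 IH) (Lpr_af (K4.f93750 IH) (Lpe (K4.f93749 IH) (Lpn (LP (LK LD1_c12 LD2_c37 LD3_c23))))))
theorem f87714 : Led Lsl_at (LP (LK LD1_c7 LD2_c34 LD3_c59)) = (LP (LK LD1_c3 LD2_c48 LD3_c44)) :=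
  Lgr Lrot100 (Lpr_af (K2.f87710 IH) (Lpn (LP (LK LD1_c3 LD2_c48 LD3_c44))))
theorem f93746 : Led Lsl_ft (LP (LK LD1_c14 LD2_c17 LD3_c57)) = (LP (LK LD1_c7 LD2_c34 LD3_c59)) :=
  Lre_f IH (LK LD1_c14 LD2_c17 LD3_c57) (LK LD1_c7 LD2_c34 LD3_c59) Lrfl Lrfl
theorem f93747 : Led Lsl_ct (LP (LK LD1_c7 LD2_c34 LD3_c60)) = (LP (LK LD1_c12 LD2_c37 LD3_c23)) :=
  Lgr Lrot133 (Lpe (f87755 IH) (Lpr_ft (f93746 IH) (Lpr_at (f87714 IH) (Lpe (K4.f64858 IH) (Lpe (K4.f64890 IH) (Lpe (K4.f64891 IH) (Lpr_df (K4.f93738 IH) (Lpe (K4.f93741 IH) (Lpe (K4.f93742 IH) (Lpn (LP (LK LD1_c12 LD2_c37 LD3_c23))))))))))))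
theorem f112972 : Led Lsl_bt (LP (LK LD1_c7 LD2_c42 LD3_c44)) = (LP (LK LD1_c3 LD2_c50 LD3_c51)) :=
  Lre_b IH (LK LD1_c7 LD2_c42 LD3_c44) (LK LD1_c3 LD2_c50 LD3_c51) Lrfl Lrfl
def v7543 : LQ := Led Lsl_gf (LP (LK LD1_c3 LD2_c50 LD3_c51))
theorem f666475 : Led Lsl_gf (LP (LK LD1_c3 LD2_c50 LD3_c51)) = v7543 :=
  Lrfl
theorem f712303 : (LP (LK LD1_c7 LD2_c41 LD3_c37)) = v7543 :=
  (Llr Lrot22 (Lpe (f666349 IH) (Lpr_ct (f666359 IH) (Lpq (f712289 IH) (Lpr_gf (f93759 IH) (Lpe (f93747 IH) (Lpr_gf (K52.f87742 IH) (Lpe (K52.f87749 IH) (Lpr_ct (K52.f87751 IH) (Lpe (K52.f709200 IH) (Lpe (K52.f440229 IH) (Lpr_bt (f112972 IH) (Lpr_gf (f666475 IH) (Lpn v7543)))))))))))))).symm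
theorem f666476 : Led Lsl_gt (LP (LK LD1_c6 LD2_c56 LD3_c24)) = v7543 :=
  Lgr Lrot5 (Lpr_ft (K3.f91722 IH) (Lpr_at (K3.f97802 IH) (Lpr_gf (f666475 IH) (Lpn v7543))))
theorem f810006 : Led Lsl_ft (LP (LK LD1_c7 LD2_c42 LD3_c48)) = v22727 :=
  Lgr Lrot2 (Lpe (K61.f97804 IH) (Lpr_gt (f666476 IH) (Lpq (f712303 IH) (Lpr_af (f810005 IH) (Lpn v22727)))))
theorem f810007 : Led Lsl_ff (LP (LK LD1_c7 LD2_c42 LD3_c48)) = v22727 :=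
  Lgr Lrot3 (Lpr_ft (f810006 IH) (Lpn v22727))
theorem f810020 : Led Lsl_at (LP (LK LD1_c7 LD2_c42 LD3_c48)) = v22730 :=
  Lgr Lrot66 (Lpr_ff (f810007 IH) (Lpe (f810004 IH) (Lpr_ff (f810019 IH) (Lpn v22730))))
theorem f711733 : Led Lsl_bt (LP (LK LD1_c6 LD2_c56 LD3_c21)) = (LP (LK LD1_c7 LD2_c35 LD3_c29)) :=
  Lgr Lrot127 (Lpr_bf (f711731 IH) (Lpn (LP (LK LD1_c7 LD2_c35 LD3_c29))))
theorem f806532 : Led Lsl_bf v20411 = v22381 :=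
  Lgr Lrot61 (Lpe (f786841 IH) (Lpr_bt (f711733 IH) (Lpr_ft (f806530 IH) (Lpn v22381))))
def v7529 : LQ := Led Lsl_ft (LP (LK LD1_c3 LD2_c50 LD3_c15))
theorem f666355 : Led Lsl_ft (LP (LK LD1_c3 LD2_c50 LD3_c15)) = v7529 :=
  Lrfl
theorem f666356 : Led Lsl_af (LP (LK LD1_c3 LD2_c50 LD3_c16)) = v7529 :=
  Lgr Lrot45 (Lpr_ft (f666346 IH) (Lpe (f666343 IH) (Lpr_ft (f666355 IH) (Lpn v7529))))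
theorem f806529 : Led Lsl_ff (LP (LK LD1_c7 LD2_c35 LD3_c30)) = v22380 :=
  Lgr Lrot3 (Lpr_ft (f806528 IH) (Lpn v22380))
theorem f806534 : Led Lsl_at (LP (LK LD1_c7 LD2_c35 LD3_c30)) = v22381 :=
  Lgr Lrot66 (Lpr_ff (f806529 IH) (Lpe (f806526 IH) (Lpr_ff (f806533 IH) (Lpn v22381))))
def v22732 : LQ := Led Lsl_at (LP (LK LD1_c7 LD2_c41 LD3_c39))
theorem f810025 : Led Lsl_at (LP (LK LD1_c7 LD2_c41 LD3_c39)) = v22732 :=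
  Lrfl
theorem f810027 : Led Lsl_ef v7529 = v22732 :=
  Lgr Lrot20 (Lpe (f666356 IH) (Lpr_et (f666350 IH) (Lpr_at (f810025 IH) (Lpn v22732))))
theorem f117409 : Led Lsl_et (LP (LK LD1_c14 LD2_c18 LD3_c48)) = (LP (LK LD1_c7 LD2_c35 LD3_c30)) :=
  Lre_e IH (LK LD1_c14 LD2_c18 LD3_c48) (LK LD1_c7 LD2_c35 LD3_c30) Lrfl Lrfl
theorem f65733 : Led Lsl_dt (LP (LK LD1_c3 LD2_c51 LD3_c25)) = (LP (LK LD1_c1 LD2_c52 LD3_c31)) :=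
  Lre_d IH (LK LD1_c3 LD2_c51 LD3_c25) (LK LD1_c1 LD2_c52 LD3_c31) Lrfl Lrfl
theorem f130631 : Led Lsl_af (LP (LK LD1_c3 LD2_c29 LD3_c55)) = (LP (LK LD1_c1 LD2_c52 LD3_c31)) :=
  Lgr Lrot117 (Lpr_dt (K52.f63174 IH) (Lpr_at (K5.f130627 IH) (Lpr_dt (f65733 IH) (Lpn (LP (LK LD1_c1 LD2_c52 LD3_c31))))))
theorem f63161 : Led Lsl_gt (LP (LK LD1_c7 LD2_c1 LD3_c28)) = (LP (LK LD1_c3 LD2_c29 LD3_c55)) :=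
  Lre_g IH (LK LD1_c7 LD2_c1 LD3_c28) (LK LD1_c3 LD2_c29 LD3_c55) Lrfl Lrfl
theorem f65756 : Led Lsl_ft (LP (LK LD1_c3 LD2_c51 LD3_c26)) = (LP (LK LD1_c1 LD2_c52 LD3_c31)) :=
  Lre_f IH (LK LD1_c3 LD2_c51 LD3_c26) (LK LD1_c1 LD2_c52 LD3_c31) Lrfl Lrfl
theorem f439911 : Led Lsl_gf (LP (LK LD1_c7 LD2_c1 LD3_c28)) = (LP (LK LD1_c3 LD2_c51 LD3_c26)) :=
  Lgr Lrot47 (Lpr_gt (f63161 IH) (Lpr_af (f130631 IH) (Lpe (f65756 IH) (Lpn (LP (LK LD1_c3 LD2_c51 LD3_c26))))))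
theorem f96266 : Led Lsl_dt (LP (LK LD1_c7 LD2_c1 LD3_c28)) = (LP (LK LD1_c13 LD2_c19 LD3_c28)) :=
  Lre_d IH (LK LD1_c7 LD2_c1 LD3_c28) (LK LD1_c13 LD2_c19 LD3_c28) Lrfl Lrfl
theorem f812646 : Led Lsl_gt (LP (LK LD1_c13 LD2_c19 LD3_c28)) = (LP (LK LD1_c22 LD2_c35 LD3_c59)) :=
  Lgr Lrot139 (Lpe (f96266 IH) (Lpr_gf (f439911 IH) (Lpe (K52.f130662 IH) (Lpr_dt (f115663 IH) (Lpe (f115735 IH) (Lpe (f115737 IH) (Lpr_et (f810215 IH) (Lpr_gf (f810409 IH) (Lpe (f103863 IH) (Lpr_dt (f812636 IH) (Lpn (LP (LK LD1_c22 LD2_c35 LD3_c59)))))))))))))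
theorem f714842 : Led Lsl_et (LP (LK LD1_c7 LD2_c1 LD3_c28)) = (LP (LK LD1_c13 LD2_c19 LD3_c29)) :=
  Lre_e IH (LK LD1_c7 LD2_c1 LD3_c28) (LK LD1_c13 LD2_c19 LD3_c29) Lrfl Lrfl
theorem f662138 : Led Lsl_dt (LP (LK LD1_c7 LD2_c44 LD3_c48)) = (LP (LK LD1_c7 LD2_c42 LD3_c27)) :=
  Lre_d IH (LK LD1_c7 LD2_c44 LD3_c48) (LK LD1_c7 LD2_c42 LD3_c27) Lrfl Lrfl
theorem f810422 : Led Lsl_dt (LP (LK LD1_c14 LD2_c31 LD3_c42)) = v22449 :=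
  Lgr Lrot60 (Lpe (f662133 IH) (Lpe (f662138 IH) (Lpr_ff (f810421 IH) (Lpn v22449))))
def v22452 : LQ := Led Lsl_gt (LP (LK LD1_c7 LD2_c36 LD3_c38))
theorem f807013 : Led Lsl_gt (LP (LK LD1_c7 LD2_c36 LD3_c38)) = v22452 :=
  Lrfl
theorem f812652 : (LP (LK LD1_c13 LD2_c19 LD3_c29)) = v22452 :=
  (Llr Lrot122 (Lpe (f714842 IH) (Lpr_dt (f96266 IH) (Lpr_gt (f812646 IH) (Lpe (f812636 IH) (Lpr_et (f103863 IH) (Lpe (f810409 IH) (Lpr_dt (f810422 IH) (Lpe (f806983 IH) (Lpe (f64071 IH) (Lpr_et (f63748 IH) (Lpr_gt (f807013 IH) (Lpn v22452))))))))))))).symm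
theorem f110150 : Led Lsl_et (LP (LK LD1_c23 LD2_c57 LD3_c16)) = (LP (LK LD1_c14 LD2_c19 LD3_c15)) :=
  Lre_e IH (LK LD1_c23 LD2_c57 LD3_c16) (LK LD1_c14 LD2_c19 LD3_c15) Lrfl Lrfl
theorem f65795 : Led Lsl_df (LP (LK LD1_c7 LD2_c44 LD3_c15)) = (LP (LK LD1_c14 LD2_c19 LD3_c16)) :=
  Lgr Lrot38 (Lpr_dt (K52.f65793 IH) (Lpn (LP (LK LD1_c14 LD2_c19 LD3_c16))))
theorem f441317 : Led Lsl_dt (LP (LK LD1_c14 LD2_c31 LD3_c43)) = (LP (LK LD1_c7 LD2_c42 LD3_c28)) :=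
  Lre_d IH (LK LD1_c14 LD2_c31 LD3_c43) (LK LD1_c7 LD2_c42 LD3_c28) Lrfl Lrfl
def v22764 : LQ := Led Lsl_ft (LP (LK LD1_c7 LD2_c42 LD3_c28))
theorem f810518 : Led Lsl_ft (LP (LK LD1_c7 LD2_c42 LD3_c28)) = v22764 :=
  Lrfl
theorem f812837 : (LP (LK LD1_c14 LD2_c19 LD3_c16)) = v22764 :=
  (Llr Lrot78 (Lpe (f65795 IH) (Lpr_ft (f812822 IH) (Lpq (f812834 IH) (Lpr_dt (f441317 IH) (Lpr_ft (f810518 IH) (Lpn v22764))))))).symm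
theorem f441314 : Led Lsl_gt (LP (LK LD1_c3 LD2_c50 LD3_c41)) = (LP (LK LD1_c7 LD2_c42 LD3_c28)) :=
  Lre_g IH (LK LD1_c3 LD2_c50 LD3_c41) (LK LD1_c7 LD2_c42 LD3_c28) Lrfl Lrfl
theorem f112057 : Led Lsl_ct (LP (LK LD1_c12 LD2_c27 LD3_c53)) = (LP (LK LD1_c7 LD2_c35 LD3_c13)) :=
  Lgr Lrot15 (Lpr_ef (K4.f112052 IH) (Lpe (K4.f64847 IH) (Lpe (K2.f89271 IH) (Lpn (LP (LK LD1_c7 LD2_c35 LD3_c13))))))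
theorem f89283 : Led Lsl_dt (LP (LK LD1_c14 LD2_c18 LD3_c17)) = (LP (LK LD1_c7 LD2_c35 LD3_c13)) :=
  Lre_d IH (LK LD1_c14 LD2_c18 LD3_c17) (LK LD1_c7 LD2_c35 LD3_c13) Lrfl Lrfl
theorem f89255 : Led Lsl_ct (LP (LK LD1_c23 LD2_c56 LD3_c19)) = (LP (LK LD1_c14 LD2_c18 LD3_c17)) :=
  Lre_c IH (LK LD1_c23 LD2_c56 LD3_c19) (LK LD1_c14 LD2_c18 LD3_c17) Lrfl Lrfl
theorem f87264 : Led Lsl_ct (LP (LK LD1_c7 LD2_c40 LD3_c2)) = (LP (LK LD1_c14 LD2_c27 LD3_c14)) :=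
  Lre_c IH (LK LD1_c7 LD2_c40 LD3_c2) (LK LD1_c14 LD2_c27 LD3_c14) Lrfl Lrfl
theorem f89256 : Led Lsl_af (LP (LK LD1_c23 LD2_c56 LD3_c19)) = (LP (LK LD1_c14 LD2_c27 LD3_c14)) :=
  Lgr Lrot68 (Lpr_ct (f89255 IH) (Lpr_at (K2.f89249 IH) (Lpr_ct (f87264 IH) (Lpn (LP (LK LD1_c14 LD2_c27 LD3_c14))))))
theorem f441228 : Led Lsl_ft (LP (LK LD1_c7 LD2_c40 LD3_c1)) = (LP (LK LD1_c14 LD2_c27 LD3_c14)) :=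
  Lre_f IH (LK LD1_c7 LD2_c40 LD3_c1) (LK LD1_c14 LD2_c27 LD3_c14) Lrfl Lrfl
theorem f87826 : Led Lsl_gt (LP (LK LD1_c7 LD2_c40 LD3_c1)) = (LP (LK LD1_c14 LD2_c27 LD3_c10)) :=
  Lre_g IH (LK LD1_c7 LD2_c40 LD3_c1) (LK LD1_c14 LD2_c27 LD3_c10) Lrfl Lrfl
theorem f442213 : Led Lsl_gf (LP (LK LD1_c23 LD2_c56 LD3_c19)) = (LP (LK LD1_c14 LD2_c27 LD3_c10)) :=
  Lgr Lrot76 (Lpr_af (f89256 IH) (Lpe (f441228 IH) (Lpr_gt (f87826 IH) (Lpn (LP (LK LD1_c14 LD2_c27 LD3_c10))))))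
theorem f712572 : Led Lsl_ct (LP (LK LD1_c7 LD2_c42 LD3_c28)) = (LP (LK LD1_c14 LD2_c27 LD3_c10)) :=
  Lgr Lrot152 (Lpe (f441314 IH) (Lpe (f64921 IH) (Lpr_gt (f66179 IH) (Lpr_ct (f666458 IH) (Lpqs (f712565 IH) (Lpe (K4.f112063 IH) (Lpr_ct (f112057 IH) (Lpe (f89283 IH) (Lpe (f89255 IH) (Lpr_gf (f442213 IH) (Lpn (LP (LK LD1_c14 LD2_c27 LD3_c10)))))))))))))
theorem f712589 : Led Lsl_cf (LP (LK LD1_c7 LD2_c42 LD3_c28)) = (LP (LK LD1_c14 LD2_c27 LD3_c10)) :=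
  Lgr Lrot11 (Lpr_ct (f712572 IH) (Lpn (LP (LK LD1_c14 LD2_c27 LD3_c10))))
theorem f439712 : Led Lsl_cf (LP (LK LD1_c3 LD2_c47 LD3_c11)) = (LP (LK LD1_c6 LD2_c28 LD3_c21)) :=
  Lgr Lrot11 (Lpr_ct (f439707 IH) (Lpn (LP (LK LD1_c6 LD2_c28 LD3_c21))))
theorem f89251 : Led Lsl_ct (LP (LK LD1_c14 LD2_c18 LD3_c16)) = (LP (LK LD1_c7 LD2_c35 LD3_c12)) :=
  Lre_c IH (LK LD1_c14 LD2_c18 LD3_c16) (LK LD1_c7 LD2_c35 LD3_c12) Lrfl Lrfl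
theorem f439687 : Led Lsl_gt (LP (LK LD1_c23 LD2_c56 LD3_c18)) = (LP (LK LD1_c14 LD2_c18 LD3_c16)) :=
  Lre_g IH (LK LD1_c23 LD2_c56 LD3_c18) (LK LD1_c14 LD2_c18 LD3_c16) Lrfl Lrfl
theorem f713724 : Led Lsl_cf (LP (LK LD1_c23 LD2_c56 LD3_c18)) = (LP (LK LD1_c14 LD2_c19 LD3_c16)) :=
  Lgr Lrot169 (Lpr_gt (f439687 IH) (Lpr_ct (f89251 IH) (Lpe (K61.f89672 IH) (Lpr_cf (f439712 IH) (Lpe (f439717 IH) (Lpr_cf (f713720 IH) (Lpe (f428807 IH) (Lpe (K3.f66237 IH) (Lpe (K52.f110135 IH) (Lpn (LP (LK LD1_c14 LD2_c19 LD3_c16))))))))))))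
theorem f812843 : Led Lsl_ff (LP (LK LD1_c14 LD2_c27 LD3_c10)) = (LP (LK LD1_c23 LD2_c56 LD3_c18)) :=
  Lgr Lrot23 (Lpe (f712589 IH) (Lpr_ft (f810518 IH) (Lpq (f812837 IH) (Lpe (f713724 IH) (Lpn (LP (LK LD1_c23 LD2_c56 LD3_c18)))))))
theorem f92384 : Led Lsl_gt (LP (LK LD1_c14 LD2_c18 LD3_c16)) = (LP (LK LD1_c23 LD2_c56 LD3_c17)) :=
  Lre_g IH (LK LD1_c14 LD2_c18 LD3_c16) (LK LD1_c23 LD2_c56 LD3_c17) Lrfl Lrfl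
theorem f812847 : Led Lsl_at (LP (LK LD1_c14 LD2_c27 LD3_c10)) = (LP (LK LD1_c23 LD2_c56 LD3_c17)) :=
  Lgr Lrot26 (Lpr_ff (f812843 IH) (Lpr_gt (f439687 IH) (Lpr_gt (f92384 IH) (Lpn (LP (LK LD1_c23 LD2_c56 LD3_c17))))))
def v22763 : LQ := Led Lsl_at (LP (LK LD1_c7 LD2_c42 LD3_c28))
theorem f810514 : Led Lsl_at (LP (LK LD1_c7 LD2_c42 LD3_c28)) = v22763 :=
  Lrfl
theorem f810515 : Led Lsl_af (LP (LK LD1_c7 LD2_c42 LD3_c28)) = v22763 :=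
  Lgr Lrot0 (Lpr_at (f810514 IH) (Lpn v22763))
theorem f713797 : Led Lsl_cf (LP (LK LD1_c12 LD2_c27 LD3_c51)) = (LP (LK LD1_c7 LD2_c35 LD3_c45)) :=
  Lgr Lrot11 (Lpr_ct (K52.f713794 IH) (Lpn (LP (LK LD1_c7 LD2_c35 LD3_c45))))
theorem f439714 : Led Lsl_ft (LP (LK LD1_c6 LD2_c28 LD3_c21)) = (LP (LK LD1_c12 LD2_c27 LD3_c53)) :=
  Lre_f IH (LK LD1_c6 LD2_c28 LD3_c21) (LK LD1_c12 LD2_c27 LD3_c53) Lrfl Lrfl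
theorem f441229 : Led Lsl_gt (LP (LK LD1_c12 LD2_c27 LD3_c51)) = (LP (LK LD1_c6 LD2_c38 LD3_c32)) :=
  Lgr Lrot46 (Lpe (K52.f131516 IH) (Lpr_ft (f439714 IH) (Lpr_at (K51.f112055 IH) (Lpn (LP (LK LD1_c6 LD2_c38 LD3_c32))))))
theorem f87244 : Led Lsl_ct (LP (LK LD1_c6 LD2_c38 LD3_c32)) = (LP (LK LD1_c3 LD2_c49 LD3_c33)) :=
  Lgr Lrot59 (Lpr_cf (K4.f87209 IH) (Lpn (LP (LK LD1_c3 LD2_c49 LD3_c33))))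
theorem f87249 : Led Lsl_ct (LP (LK LD1_c14 LD2_c27 LD3_c14)) = (LP (LK LD1_c7 LD2_c40 LD3_c2)) :=
  Lre_c IH (LK LD1_c14 LD2_c27 LD3_c14) (LK LD1_c7 LD2_c40 LD3_c2) Lrfl Lrfl
theorem f442209 : Led Lsl_at (LP (LK LD1_c23 LD2_c56 LD3_c19)) = (LP (LK LD1_c14 LD2_c27 LD3_c14)) :=
  Lgr Lrot100 (Lpr_af (f89256 IH) (Lpn (LP (LK LD1_c14 LD2_c27 LD3_c14))))
theorem f442220 : Led Lsl_ft (LP (LK LD1_c14 LD2_c18 LD3_c16)) = (LP (LK LD1_c23 LD2_c56 LD3_c19)) :=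
  Lre_f IH (LK LD1_c14 LD2_c18 LD3_c16) (LK LD1_c23 LD2_c56 LD3_c19) Lrfl Lrfl
theorem f442224 : Led Lsl_gt (LP (LK LD1_c23 LD2_c56 LD3_c17)) = (LP (LK LD1_c14 LD2_c27 LD3_c14)) :=
  Lgr Lrot46 (Lpe (f92384 IH) (Lpr_ft (f442220 IH) (Lpr_at (f442209 IH) (Lpn (LP (LK LD1_c14 LD2_c27 LD3_c14))))))
theorem f63741 : Led Lsl_gt (LP (LK LD1_c7 LD2_c35 LD3_c47)) = (LP (LK LD1_c14 LD2_c19 LD3_c15)) :=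
  Lre_g IH (LK LD1_c7 LD2_c35 LD3_c47) (LK LD1_c14 LD2_c19 LD3_c15) Lrfl Lrfl
theorem f714705 : Led Lsl_cf (LP (LK LD1_c23 LD2_c56 LD3_c17)) = (LP (LK LD1_c14 LD2_c19 LD3_c15)) :=
  Lgr Lrot169 (Lpr_gt (f442224 IH) (Lpr_ct (f87249 IH) (Lpe (K61.f87263 IH) (Lpe (f87244 IH) (Lpe (f441229 IH) (Lpr_cf (f713797 IH) (Lpe (K52.f63866 IH) (Lpe (f65801 IH) (Lpr_gt (f63741 IH) (Lpn (LP (LK LD1_c14 LD2_c19 LD3_c15))))))))))))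
theorem f714707 : Led Lsl_ct (LP (LK LD1_c23 LD2_c56 LD3_c17)) = (LP (LK LD1_c14 LD2_c19 LD3_c15)) :=
  Lgr Lrot59 (Lpr_cf (f714705 IH) (Lpn (LP (LK LD1_c14 LD2_c19 LD3_c15))))
theorem f812853 : v22763 = (LP (LK LD1_c14 LD2_c19 LD3_c15)) :=
  (Llr Lrot68 (Lpe (f810515 IH) (Lpr_ct (f712572 IH) (Lpr_at (f812847 IH) (Lpr_ct (f714707 IH) (Lpn (LP (LK LD1_c14 LD2_c19 LD3_c15)))))))).symm
theorem f712609 : Led Lsl_et (LP (LK LD1_c7 LD2_c42 LD3_c28)) = (LP (LK LD1_c14 LD2_c31 LD3_c44)) :=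
  Lre_e IH (LK LD1_c7 LD2_c42 LD3_c28) (LK LD1_c14 LD2_c31 LD3_c44) Lrfl Lrfl
theorem f812872 : Led Lsl_af (LP (LK LD1_c23 LD2_c57 LD3_c16)) = (LP (LK LD1_c14 LD2_c31 LD3_c44)) :=
  Lgr Lrot50 (Lpr_et (f110150 IH) (Lpq (f812853 IH) (Lpe (f810515 IH) (Lpr_et (f712609 IH) (Lpn (LP (LK LD1_c14 LD2_c31 LD3_c44)))))))
theorem f473991 : Led Lsl_et (LP (LK LD1_c14 LD2_c52 LD3_c20)) = (LP (LK LD1_c7 LD2_c53 LD3_c0)) :=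
  Lre_e IH (LK LD1_c14 LD2_c52 LD3_c20) (LK LD1_c7 LD2_c53 LD3_c0) Lrfl Lrfl
theorem f491942 : Led Lsl_gt (LP (LK LD1_c22 LD2_c39 LD3_c42)) = (LP (LK LD1_c13 LD2_c22 LD3_c25)) :=
  Lre_g IH (LK LD1_c22 LD2_c39 LD3_c42) (LK LD1_c13 LD2_c22 LD3_c25) Lrfl Lrfl
theorem f491943 : Led Lsl_dt (LP (LK LD1_c23 LD2_c57 LD3_c16)) = (LP (LK LD1_c22 LD2_c39 LD3_c42)) :=
  Lgr Lrot136 (Lpr_et (f110150 IH) (Lpe (f63741 IH) (Lpe (f441330 IH) (Lpr_dt (K60.f91271 IH) (Lpr_gf (K29.f477161 IH) (Lpe (K33.f451197 IH) (Lpe (K48.f451198 IH) (Lpe (f473991 IH) (Lpr_dt (K61.f491929 IH) (Lpe (f491942 IH) (Lpn (LP (LK LD1_c22 LD2_c39 LD3_c42)))))))))))))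
theorem f712608 : Led Lsl_dt (LP (LK LD1_c24 LD2_c13 LD3_c38)) = (LP (LK LD1_c14 LD2_c31 LD3_c44)) :=
  Lre_d IH (LK LD1_c24 LD2_c13 LD3_c38) (LK LD1_c14 LD2_c31 LD3_c44) Lrfl Lrfl
theorem f812876 : Led Lsl_at (LP (LK LD1_c22 LD2_c39 LD3_c42)) = (LP (LK LD1_c24 LD2_c13 LD3_c38)) :=
  Lgr Lrot51 (Lpe (f491943 IH) (Lpr_af (f812872 IH) (Lpe (f712608 IH) (Lpn (LP (LK LD1_c24 LD2_c13 LD3_c38))))))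
theorem f530340 : Led Lsl_ft (LP (LK LD1_c7 LD2_c44 LD3_c54)) = (LP (LK LD1_c3 LD2_c51 LD3_c38)) :=
  Lre_f IH (LK LD1_c7 LD2_c44 LD3_c54) (LK LD1_c3 LD2_c51 LD3_c38) Lrfl Lrfl
theorem f63740 : Led Lsl_gt (LP (LK LD1_c14 LD2_c20 LD3_c51)) = (LP (LK LD1_c7 LD2_c36 LD3_c38)) :=
  Lre_g IH (LK LD1_c14 LD2_c20 LD3_c51) (LK LD1_c7 LD2_c36 LD3_c38) Lrfl Lrfl
theorem f812402 : Led Lsl_gt (LP (LK LD1_c7 LD2_c44 LD3_c54)) = (LP (LK LD1_c14 LD2_c20 LD3_c51)) :=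
  Lgr Lrot5 (Lpr_ft (f530340 IH) (Lpq (f811151 IH) (Lpe (f807015 IH) (Lpe (f63740 IH) (Lpn (LP (LK LD1_c14 LD2_c20 LD3_c51)))))))
theorem f63755 : Led Lsl_dt (LP (LK LD1_c23 LD2_c58 LD3_c46)) = (LP (LK LD1_c14 LD2_c20 LD3_c51)) :=
  Lre_d IH (LK LD1_c23 LD2_c58 LD3_c46) (LK LD1_c14 LD2_c20 LD3_c51) Lrfl Lrfl
theorem f812406 : Led Lsl_ef (LP (LK LD1_c22 LD2_c39 LD3_c42)) = (LP (LK LD1_c23 LD2_c58 LD3_c46)) :=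
  Lgr Lrot114 (Lpr_gt (f491942 IH) (Lpe (K61.f491953 IH) (Lpr_dt (K61.f460732 IH) (Lpr_gt (K24.f19076 IH) (Lpe (K41.f18592 IH) (Lpr_et (K56.f19087 IH) (Lpr_gt (f18331 IH) (Lpr_dt (f811131 IH) (Lpr_gt (f812402 IH) (Lpe (f63755 IH) (Lpn (LP (LK LD1_c23 LD2_c58 LD3_c46)))))))))))))
theorem f812882 : Led Lsl_et (LP (LK LD1_c24 LD2_c13 LD3_c38)) = (LP (LK LD1_c14 LD2_c36 LD3_c55)) :=
  Lre_e IH (LK LD1_c24 LD2_c13 LD3_c38) (LK LD1_c14 LD2_c36 LD3_c55) Lrfl Lrfl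
theorem f812883 : Led Lsl_af (LP (LK LD1_c23 LD2_c58 LD3_c46)) = (LP (LK LD1_c14 LD2_c36 LD3_c55)) :=
  Lgr Lrot50 (Lpe (f812406 IH) (Lpr_at (f812876 IH) (Lpr_et (f812882 IH) (Lpn (LP (LK LD1_c14 LD2_c36 LD3_c55))))))
theorem f754770 : Led Lsl_dt (LP (LK LD1_c7 LD2_c44 LD3_c52)) = (LP (LK LD1_c14 LD2_c36 LD3_c55)) :=
  Lre_d IH (LK LD1_c7 LD2_c44 LD3_c52) (LK LD1_c14 LD2_c36 LD3_c55) Lrfl Lrfl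
theorem f812906 : Led Lsl_at (LP (LK LD1_c14 LD2_c20 LD3_c51)) = (LP (LK LD1_c7 LD2_c44 LD3_c52)) :=
  Lgr Lrot51 (Lpe (f63755 IH) (Lpr_af (f812883 IH) (Lpe (f754770 IH) (Lpn (LP (LK LD1_c7 LD2_c44 LD3_c52))))))
theorem f812910 : Led Lsl_ff (LP (LK LD1_c14 LD2_c20 LD3_c51)) = (LP (LK LD1_c7 LD2_c44 LD3_c17)) :=
  Lgr Lrot30 (Lpr_at (f812906 IH) (Lpr_ft (f812832 IH) (Lpe (f812829 IH) (Lpn (LP (LK LD1_c7 LD2_c44 LD3_c17))))))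
theorem f812914 : Led Lsl_ft (LP (LK LD1_c14 LD2_c20 LD3_c51)) = (LP (LK LD1_c7 LD2_c44 LD3_c17)) :=
  Lgr Lrot48 (Lpr_ff (f812910 IH) (Lpn (LP (LK LD1_c7 LD2_c44 LD3_c17))))
theorem f812918 : v22452 = v22872 :=
  (Llr Lrot46 (Lpe (f807013 IH) (Lpe (f63740 IH) (Lpr_ft (f812914 IH) (Lpr_at (f812828 IH) (Lpn v22872)))))).symm
theorem f754768 : Led Lsl_dt (LP (LK LD1_c14 LD2_c36 LD3_c55)) = (LP (LK LD1_c7 LD2_c44 LD3_c52)) :=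
  Lre_d IH (LK LD1_c14 LD2_c36 LD3_c55) (LK LD1_c7 LD2_c44 LD3_c52) Lrfl Lrfl
theorem f63163 : Led Lsl_dt (LP (LK LD1_c13 LD2_c19 LD3_c29)) = (LP (LK LD1_c22 LD2_c36 LD3_c1)) :=
  Lre_d IH (LK LD1_c13 LD2_c19 LD3_c29) (LK LD1_c22 LD2_c36 LD3_c1) Lrfl Lrfl
theorem f813081 : Led Lsl_ff (LP (LK LD1_c14 LD2_c36 LD3_c55)) = (LP (LK LD1_c22 LD2_c36 LD3_c1)) :=
  Lgr Lrot19 (Lpr_dt (f754768 IH) (Lpr_ft (f812832 IH) (Lpq (f812918 IH) (Lpq (f812652 IH) (Lpr_dt (f63163 IH) (Lpn (LP (LK LD1_c22 LD2_c36 LD3_c1))))))))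
theorem f813087 : Led Lsl_ft (LP (LK LD1_c14 LD2_c36 LD3_c55)) = (LP (LK LD1_c22 LD2_c36 LD3_c1)) :=
  Lgr Lrot48 (Lpr_ff (f813081 IH) (Lpn (LP (LK LD1_c22 LD2_c36 LD3_c1))))
theorem f812902 : Led Lsl_at (LP (LK LD1_c23 LD2_c58 LD3_c46)) = (LP (LK LD1_c14 LD2_c36 LD3_c55)) :=
  Lgr Lrot100 (Lpr_af (f812883 IH) (Lpn (LP (LK LD1_c14 LD2_c36 LD3_c55))))
theorem f65835 : Led Lsl_dt (LP (LK LD1_c7 LD2_c44 LD3_c17)) = (LP (LK LD1_c14 LD2_c35 LD3_c41)) :=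
  Lre_d IH (LK LD1_c7 LD2_c44 LD3_c17) (LK LD1_c14 LD2_c35 LD3_c41) Lrfl Lrfl
theorem f812916 : Led Lsl_ff (LP (LK LD1_c23 LD2_c58 LD3_c46)) = (LP (LK LD1_c14 LD2_c35 LD3_c41)) :=
  Lgr Lrot19 (Lpr_dt (f63755 IH) (Lpr_ft (f812914 IH) (Lpr_dt (f65835 IH) (Lpn (LP (LK LD1_c14 LD2_c35 LD3_c41))))))
theorem f813089 : Led Lsl_af (LP (LK LD1_c14 LD2_c35 LD3_c41)) = (LP (LK LD1_c22 LD2_c36 LD3_c1)) :=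
  Lgr Lrot45 (Lpe (f812916 IH) (Lpr_at (f812902 IH) (Lpr_ft (f813087 IH) (Lpn (LP (LK LD1_c22 LD2_c36 LD3_c1))))))
theorem f65834 : Led Lsl_et (LP (LK LD1_c7 LD2_c44 LD3_c17)) = (LP (LK LD1_c3 LD2_c51 LD3_c24)) :=
  Lre_e IH (LK LD1_c7 LD2_c44 LD3_c17) (LK LD1_c3 LD2_c51 LD3_c24) Lrfl Lrfl
theorem f19116 : Led Lsl_dt (LP (LK LD1_c7 LD2_c2 LD3_c22)) = (LP (LK LD1_c13 LD2_c20 LD3_c60)) :=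
  Lre_d IH (LK LD1_c7 LD2_c2 LD3_c22) (LK LD1_c13 LD2_c20 LD3_c60) Lrfl Lrfl
theorem f65836 : Led Lsl_gf (LP (LK LD1_c14 LD2_c35 LD3_c41)) = (LP (LK LD1_c13 LD2_c20 LD3_c60)) :=
  Lgr Lrot134 (Lpe (f65835 IH) (Lpr_et (f65834 IH) (Lpr_gt (f65742 IH) (Lpe (K5.f65762 IH) (Lpe (K3.f65774 IH) (Lpr_gt (K2.f65785 IH) (Lpe (K4.f11406 IH) (Lpr_et (K3.f18314 IH) (Lpr_gt (K60.f19115 IH) (Lpr_dt (f19116 IH) (Lpn (LP (LK LD1_c13 LD2_c20 LD3_c60)))))))))))))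
theorem f813093 : Led Lsl_gt (LP (LK LD1_c14 LD2_c36 LD3_c55)) = (LP (LK LD1_c13 LD2_c20 LD3_c60)) :=
  Lgr Lrot5 (Lpr_ft (f813087 IH) (Lpe (f813089 IH) (Lpr_gf (f65836 IH) (Lpn (LP (LK LD1_c13 LD2_c20 LD3_c60))))))
theorem f96281 : Led Lsl_ft (LP (LK LD1_c3 LD2_c29 LD3_c55)) = (LP (LK LD1_c7 LD2_c1 LD3_c30)) :=
  Lre_f IH (LK LD1_c3 LD2_c29 LD3_c55) (LK LD1_c7 LD2_c1 LD3_c30) Lrfl Lrfl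
theorem f130659 : Led Lsl_gt (LP (LK LD1_c7 LD2_c1 LD3_c27)) = (LP (LK LD1_c3 LD2_c51 LD3_c26)) :=
  Lgr Lrot46 (Lpe (K61.f64923 IH) (Lpr_ft (f96281 IH) (Lpr_at (K5.f130648 IH) (Lpn (LP (LK LD1_c3 LD2_c51 LD3_c26))))))
theorem f64924 : Led Lsl_et (LP (LK LD1_c13 LD2_c19 LD3_c27)) = (LP (LK LD1_c7 LD2_c1 LD3_c27)) :=
  Lre_e IH (LK LD1_c13 LD2_c19 LD3_c27) (LK LD1_c7 LD2_c1 LD3_c27) Lrfl Lrfl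
theorem f64922 : Led Lsl_gt (LP (LK LD1_c7 LD2_c42 LD3_c29)) = (LP (LK LD1_c3 LD2_c50 LD3_c41)) :=
  Lre_g IH (LK LD1_c7 LD2_c42 LD3_c29) (LK LD1_c3 LD2_c50 LD3_c41) Lrfl Lrfl
theorem f64925 : Led Lsl_df (LP (LK LD1_c7 LD2_c42 LD3_c29)) = (LP (LK LD1_c13 LD2_c19 LD3_c27)) :=
  Lgr Lrot170 (Lpr_gt (f64922 IH) (Lpe (f64921 IH) (Lpr_et (K3.f64920 IH) (Lpr_gt (K1.f64905 IH) (Lpr_dt (K2.f11311 IH) (Lpr_gt (K1.f4467 IH) (Lpe (K1.f63157 IH) (Lpr_et (K4.f63160 IH) (Lpr_gt (K61.f64923 IH) (Lpe (f64924 IH) (Lpn (LP (LK LD1_c13 LD2_c19 LD3_c27)))))))))))))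
theorem f439882 : Led Lsl_gt (LP (LK LD1_c14 LD2_c19 LD3_c17)) = (LP (LK LD1_c7 LD2_c42 LD3_c29)) :=
  Lgr Lrot139 (Lpe (K3.f93583 IH) (Lpr_gf (f110155 IH) (Lpe (f110161 IH) (Lpr_dt (f65299 IH) (Lpr_gf (f115728 IH) (Lpe (f115663 IH) (Lpr_et (K52.f130662 IH) (Lpe (f130659 IH) (Lpe (f64924 IH) (Lpe (f64925 IH) (Lpn (LP (LK LD1_c7 LD2_c42 LD3_c29)))))))))))))
theorem f439921 : Led Lsl_ef (LP (LK LD1_c3 LD2_c50 LD3_c18)) = (LP (LK LD1_c7 LD2_c35 LD3_c48)) :=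
  Lgr Lrot17 (Lpr_gf (K52.f117395 IH) (Lpe (K52.f65017 IH) (Lpr_dt (K52.f65020 IH) (Lpr_gf (K52.f439917 IH) (Lpe (K5.f65754 IH) (Lpe (f130659 IH) (Lpe (f64924 IH) (Lpe (f64925 IH) (Lpe (f439882 IH) (Lpe (K3.f93583 IH) (Lpn (LP (LK LD1_c7 LD2_c35 LD3_c48)))))))))))))
theorem f110140 : Led Lsl_af (LP (LK LD1_c14 LD2_c19 LD3_c17)) = (LP (LK LD1_c7 LD2_c42 LD3_c31)) :=
  Lgr Lrot0 (Lpr_at (K3.f110133 IH) (Lpn (LP (LK LD1_c7 LD2_c42 LD3_c31))))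
theorem f66253 : Led Lsl_ft (LP (LK LD1_c3 LD2_c50 LD3_c41)) = (LP (LK LD1_c7 LD2_c42 LD3_c31)) :=
  Lre_f IH (LK LD1_c3 LD2_c50 LD3_c41) (LK LD1_c7 LD2_c42 LD3_c31) Lrfl Lrfl
theorem f441315 : Led Lsl_gf (LP (LK LD1_c14 LD2_c19 LD3_c17)) = (LP (LK LD1_c7 LD2_c42 LD3_c28)) :=
  Lgr Lrot76 (Lpr_af (f110140 IH) (Lpe (f66253 IH) (Lpr_gt (f441314 IH) (Lpn (LP (LK LD1_c7 LD2_c42 LD3_c28))))))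
theorem f811402 : Led Lsl_gt (LP (LK LD1_c14 LD2_c20 LD3_c52)) = (LP (LK LD1_c7 LD2_c44 LD3_c52)) :=
  Lgr Lrot131 (Lpr_ef (f811396 IH) (Lpr_dt (f667082 IH) (Lpe (f811312 IH) (Lpe (f96691 IH) (Lpe (f117403 IH) (Lpr_ef (f439921 IH) (Lpr_dt (K3.f93583 IH) (Lpr_gf (f441315 IH) (Lpe (f441317 IH) (Lpr_et (f441321 IH) (Lpn (LP (LK LD1_c7 LD2_c44 LD3_c52)))))))))))))
theorem f711854 : Led Lsl_et (LP (LK LD1_c7 LD2_c35 LD3_c30)) = (LP (LK LD1_c14 LD2_c18 LD3_c48)) :=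
  Lre_e IH (LK LD1_c7 LD2_c35 LD3_c30) (LK LD1_c14 LD2_c18 LD3_c48) Lrfl Lrfl
theorem f63988 : Led Lsl_et (LP (LK LD1_c7 LD2_c2 LD3_c22)) = (LP (LK LD1_c13 LD2_c20 LD3_c61)) :=
  Lre_e IH (LK LD1_c7 LD2_c2 LD3_c22) (LK LD1_c13 LD2_c20 LD3_c61) Lrfl Lrfl
theorem f812613 : Led Lsl_ft v22725 = (LP (LK LD1_c13 LD2_c20 LD3_c49)) :=
  Lgr Lrot48 (Lpr_ff (f812609 IH) (Lpn (LP (LK LD1_c13 LD2_c20 LD3_c49))))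
theorem f810001 : Led Lsl_et v7527 = v22725 :=
  Lgr Lrot87 (Lpr_ef (f810000 IH) (Lpn v22725))
theorem f440858 : Led Lsl_et (LP (LK LD1_c7 LD2_c41 LD3_c39)) = (LP (LK LD1_c3 LD2_c50 LD3_c16)) :=
  Lre_e IH (LK LD1_c7 LD2_c41 LD3_c39) (LK LD1_c3 LD2_c50 LD3_c16) Lrfl Lrfl
theorem f666347 : Led Lsl_ft (LP (LK LD1_c14 LD2_c30 LD3_c10)) = (LP (LK LD1_c7 LD2_c41 LD3_c39)) :=
  Lre_f IH (LK LD1_c14 LD2_c30 LD3_c10) (LK LD1_c7 LD2_c41 LD3_c39) Lrfl Lrfl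
theorem f812615 : Led Lsl_ef (LP (LK LD1_c14 LD2_c30 LD3_c10)) = (LP (LK LD1_c13 LD2_c20 LD3_c49)) :=
  Lgr Lrot21 (Lpr_ft (f666347 IH) (Lpr_et (f440858 IH) (Lpr_ft (f666346 IH) (Lpr_et (f810001 IH) (Lpr_ft (f812613 IH) (Lpn (LP (LK LD1_c13 LD2_c20 LD3_c49))))))))
theorem f64006 : Led Lsl_dt (LP (LK LD1_c1 LD2_c52 LD3_c31)) = (LP (LK LD1_c3 LD2_c51 LD3_c25)) :=
  Lre_d IH (LK LD1_c1 LD2_c52 LD3_c31) (LK LD1_c3 LD2_c51 LD3_c25) Lrfl Lrfl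
theorem f64003 : Led Lsl_et (LP (LK LD1_c3 LD2_c18 LD3_c0)) = (LP (LK LD1_c1 LD2_c35 LD3_c31)) :=
  Lre_e IH (LK LD1_c3 LD2_c18 LD3_c0) (LK LD1_c1 LD2_c35 LD3_c31) Lrfl Lrfl
theorem f63993 : Led Lsl_gt (LP (LK LD1_c12 LD2_c45 LD3_c29)) = (LP (LK LD1_c6 LD2_c39 LD3_c49)) :=
  Lre_g IH (LK LD1_c12 LD2_c45 LD3_c29) (LK LD1_c6 LD2_c39 LD3_c49) Lrfl Lrfl
theorem f812617 : Led Lsl_gt (LP (LK LD1_c14 LD2_c30 LD3_c10)) = (LP (LK LD1_c13 LD2_c20 LD3_c61)) :=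
  Lgr Lrot137 (Lpr_ef (f812615 IH) (Lpe (K61.f789077 IH) (Lpe (K61.f64007 IH) (Lpe (f64006 IH) (Lpr_et (K51.f64005 IH) (Lpe (K2.f64004 IH) (Lpe (f64003 IH) (Lpr_dt (f64002 IH) (Lpe (f63993 IH) (Lpe (K60.f63759 IH) (Lpn (LP (LK LD1_c13 LD2_c20 LD3_c61)))))))))))))
theorem f812619 : Led Lsl_gf v22732 = (LP (LK LD1_c13 LD2_c20 LD3_c61)) :=
  Lgr Lrot76 (Lpe (f810025 IH) (Lpe (f666347 IH) (Lpr_gt (f812617 IH) (Lpn (LP (LK LD1_c13 LD2_c20 LD3_c61))))))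
theorem f813097 : (LP (LK LD1_c14 LD2_c18 LD3_c48)) = v22732 :=
  (Llr Lrot122 (Lpe (f711854 IH) (Lpr_dt (f96691 IH) (Lpr_gt (f811312 IH) (Lpe (f667082 IH) (Lpe (f811396 IH) (Lpr_gt (f811402 IH) (Lpr_dt (f754770 IH) (Lpr_gt (f813093 IH) (Lpe (f19116 IH) (Lpr_et (f63988 IH) (Lpe (f812619 IH) (Lpn v22732))))))))))))).symm
theorem f813101 : v7529 = (LP (LK LD1_c7 LD2_c35 LD3_c30)) :=
  Lefun (Lecon (Lfl_ef (f810027 IH)) (f813097 IH).symm) (f117409 IH)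
theorem f813102 : (LP (LK LD1_c3 LD2_c50 LD3_c16)) = v22381 :=
  Lefun (Lecon (Lfl_af (f666356 IH)) (f813101 IH)) (f806534 IH)
theorem f813121 : v20411 = (LP (LK LD1_c7 LD2_c41 LD3_c37)) :=
  Lefun (Lecon (Lfl_bf (f806532 IH)) (f813102 IH).symm) (f666349 IH)
theorem f813130 : (LP (LK LD1_c6 LD2_c56 LD3_c21)) = v22730 :=
  Lefun (Lecon (Lfl_ff (f786841 IH)) (f813121 IH)) (f810016 IH)
theorem f94824 : Led Lsl_et (LP (LK LD1_c6 LD2_c56 LD3_c21)) = (LP (LK LD1_c13 LD2_c10 LD3_c37)) :=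
  Lre_e IH (LK LD1_c6 LD2_c56 LD3_c21) (LK LD1_c13 LD2_c10 LD3_c37) Lrfl Lrfl
theorem f813169 : Led Lsl_af v22774 = (LP (LK LD1_c13 LD2_c10 LD3_c37)) :=
  Lgr Lrot50 (Lpe (f810589 IH) (Lpr_at (f810020 IH) (Lpq (f813130 IH) (Lpr_et (f94824 IH) (Lpn (LP (LK LD1_c13 LD2_c10 LD3_c37)))))))
def v20397 : LQ := Led Lsl_gf (LP (LK LD1_c6 LD2_c56 LD3_c8))
theorem f786781 : Led Lsl_gf (LP (LK LD1_c6 LD2_c56 LD3_c8)) = v20397 :=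
  Lrfl
theorem f89884 : Led Lsl_af (LP (LK LD1_c6 LD2_c56 LD3_c8)) = (LP (LK LD1_c7 LD2_c37 LD3_c31)) :=
  Lgr Lrot0 (Lpr_at (K3.f89880 IH) (Lpn (LP (LK LD1_c7 LD2_c37 LD3_c31))))
theorem f89996 : Led Lsl_ft (LP (LK LD1_c14 LD2_c22 LD3_c33)) = (LP (LK LD1_c7 LD2_c37 LD3_c31)) :=
  Lre_f IH (LK LD1_c14 LD2_c22 LD3_c33) (LK LD1_c7 LD2_c37 LD3_c31) Lrfl Lrfl
theorem f786782 : Led Lsl_gt (LP (LK LD1_c14 LD2_c22 LD3_c33)) = v20397 :=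
  Lgr Lrot5 (Lpr_ft (f89996 IH) (Lpe (f89884 IH) (Lpr_gf (f786781 IH) (Lpn v20397))))
def v22069 : LQ := Led Lsl_et (LP (LK LD1_c7 LD2_c30 LD3_c50))
theorem f801024 : Led Lsl_et (LP (LK LD1_c7 LD2_c30 LD3_c50)) = v22069 :=
  Lrfl
theorem f801026 : Led Lsl_ef (LP (LK LD1_c7 LD2_c30 LD3_c50)) = v22069 :=
  Lgr Lrot88 (Lpr_et (f801024 IH) (Lpn v22069))
theorem f95454 : Led Lsl_af (LP (LK LD1_c6 LD2_c56 LD3_c34)) = (LP (LK LD1_c7 LD2_c30 LD3_c53)) :=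
  Lgr Lrot0 (Lpr_at (K3.f95446 IH) (Lpn (LP (LK LD1_c7 LD2_c30 LD3_c53))))
theorem f95515 : Led Lsl_gf (LP (LK LD1_c6 LD2_c56 LD3_c34)) = (LP (LK LD1_c7 LD2_c30 LD3_c50)) :=
  Lgr Lrot76 (Lpr_af (f95454 IH) (Lpe (K60.f91846 IH) (Lpr_gt (K62.f65866 IH) (Lpn (LP (LK LD1_c7 LD2_c30 LD3_c50))))))
theorem f95422 : Led Lsl_ft (LP (LK LD1_c3 LD2_c50 LD3_c59)) = (LP (LK LD1_c7 LD2_c43 LD3_c7)) :=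
  Lre_f IH (LK LD1_c3 LD2_c50 LD3_c59) (LK LD1_c7 LD2_c43 LD3_c7) Lrfl Lrfl
theorem f95423 : Led Lsl_ef (LP (LK LD1_c6 LD2_c56 LD3_c34)) = (LP (LK LD1_c7 LD2_c43 LD3_c7)) :=
  Lgr Lrot21 (Lpr_ft (K60.f94731 IH) (Lpr_et (K3.f94704 IH) (Lpr_ft (K2.f95415 IH) (Lpr_et (K47.f95281 IH) (Lpr_ft (f95422 IH) (Lpn (LP (LK LD1_c7 LD2_c43 LD3_c7))))))))
theorem f89945 : Led Lsl_dt (LP (LK LD1_c13 LD2_c10 LD3_c17)) = (LP (LK LD1_c13 LD2_c10 LD3_c56)) :=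
  Lre_d IH (LK LD1_c13 LD2_c10 LD3_c17) (LK LD1_c13 LD2_c10 LD3_c56) Lrfl Lrfl
theorem f89944 : Led Lsl_et (LP (LK LD1_c13 LD2_c10 LD3_c17)) = (LP (LK LD1_c6 LD2_c56 LD3_c6)) :=
  Lre_e IH (LK LD1_c13 LD2_c10 LD3_c17) (LK LD1_c6 LD2_c56 LD3_c6) Lrfl Lrfl
theorem f801028 : Led Lsl_df v20397 = v22069 :=
  Lgr Lrot132 (Lpe (f786782 IH) (Lpe (K3.f89920 IH) (Lpe (f89934 IH) (Lpe (f89944 IH) (Lpr_dt (f89945 IH) (Lpe (K60.f136894 IH) (Lpe (K60.f95519 IH) (Lpe (f95423 IH) (Lpr_gf (f95515 IH) (Lpr_ef (f801026 IH) (Lpn v22069)))))))))))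
theorem f810590 : Led Lsl_df (LP (LK LD1_c14 LD2_c11 LD3_c10)) = v22774 :=
  Lgr Lrot132 (Lpe (K62.f95520 IH) (Lpe (K60.f95472 IH) (Lpr_gf (f95515 IH) (Lpr_ef (f801026 IH) (Lpe (f801028 IH) (Lpe (f786782 IH) (Lpe (K3.f89920 IH) (Lpe (K3.f91723 IH) (Lpr_gf (K61.f97804 IH) (Lpr_ef (f810589 IH) (Lpn v22774)))))))))))
theorem f15073 : Led Lsl_et (LP (LK LD1_c13 LD2_c10 LD3_c37)) = (LP (LK LD1_c6 LD2_c56 LD3_c21)) :=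
  Lre_e IH (LK LD1_c13 LD2_c10 LD3_c37) (LK LD1_c6 LD2_c56 LD3_c21) Lrfl Lrfl
theorem f94721 : Led Lsl_gt (LP (LK LD1_c13 LD2_c10 LD3_c52)) = (LP (LK LD1_c6 LD2_c56 LD3_c33)) :=
  Lre_g IH (LK LD1_c13 LD2_c10 LD3_c52) (LK LD1_c6 LD2_c56 LD3_c33) Lrfl Lrfl
theorem f94817 : Led Lsl_dt (LP (LK LD1_c13 LD2_c10 LD3_c37)) = (LP (LK LD1_c13 LD2_c10 LD3_c52)) :=
  Lgr Lrot136 (Lpr_et (f15073 IH) (Lpe (f15072 IH) (Lpe (K5.f15071 IH) (Lpr_dt (K2.f11972 IH) (Lpe (K2.f15066 IH) (Lpe (K0.f14559 IH) (Lpr_gf (K5.f94812 IH) (Lpe (K3.f94704 IH) (Lpr_dt (K62.f94713 IH) (Lpe (f94721 IH) (Lpn (LP (LK LD1_c13 LD2_c10 LD3_c52)))))))))))))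
theorem f94822 : Led Lsl_df (LP (LK LD1_c13 LD2_c10 LD3_c37)) = (LP (LK LD1_c13 LD2_c10 LD3_c52)) :=
  Lgr Lrot38 (Lpr_dt (f94817 IH) (Lpn (LP (LK LD1_c13 LD2_c10 LD3_c52))))
theorem f813171 : Led Lsl_at (LP (LK LD1_c14 LD2_c11 LD3_c10)) = (LP (LK LD1_c13 LD2_c10 LD3_c52)) :=
  Lgr Lrot51 (Lpr_df (f810590 IH) (Lpr_af (f813169 IH) (Lpr_df (f94822 IH) (Lpn (LP (LK LD1_c13 LD2_c10 LD3_c52))))))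
theorem f813172 : Led Lsl_at (LP (LK LD1_c14 LD2_c11 LD3_c10)) = (LP (LK LD1_c13 LD2_c10 LD3_c52)) :=
  Leop (Lpe (f813171 IH) (Lpn (LP (LK LD1_c14 LD2_c11 LD3_c10))))
theorem seed_1780 : LEOK LG_a (LK LD1_c14 LD2_c11 LD3_c10) :=
  Leoe_a (LK LD1_c14 LD2_c11 LD3_c10) (f813172 IH)
def v19146 : LQ := Led Lsl_ft (LP (LK LD1_c6 LD2_c38 LD3_c43))
theorem f778038 : Led Lsl_ft (LP (LK LD1_c6 LD2_c38 LD3_c43)) = v19146 :=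
  Lrfl
theorem f778041 : Led Lsl_ff (LP (LK LD1_c6 LD2_c38 LD3_c43)) = v19146 :=
  Lgr Lrot3 (Lpr_ft (f778038 IH) (Lpn v19146))
theorem f444226 : Led Lsl_bt (LP (LK LD1_c3 LD2_c0 LD3_c51)) = (LP (LK LD1_c6 LD2_c8 LD3_c60)) :=
  Lre_b IH (LK LD1_c3 LD2_c0 LD3_c51) (LK LD1_c6 LD2_c8 LD3_c60) Lrfl Lrfl
theorem f444256 : Led Lsl_bf (LP (LK LD1_c12 LD2_c13 LD3_c32)) = (LP (LK LD1_c11 LD2_c59 LD3_c9)) :=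
  Lgr Lrot90 (Lpr_ct (K58.f444255 IH) (Lpr_bt (K51.f61686 IH) (Lpr_ct (K41.f444220 IH) (Lpr_bt (f444226 IH) (Lpr_ct (K56.f444248 IH) (Lpn (LP (LK LD1_c11 LD2_c59 LD3_c9))))))))
theorem f444258 : Led Lsl_et (LP (LK LD1_c12 LD2_c13 LD3_c32)) = (LP (LK LD1_c6 LD2_c18 LD3_c50)) :=
  Lre_e IH (LK LD1_c12 LD2_c13 LD3_c32) (LK LD1_c6 LD2_c18 LD3_c50) Lrfl Lrfl
theorem f444260 : Led Lsl_bt (LP (LK LD1_c6 LD2_c18 LD3_c50)) = (LP (LK LD1_c6 LD2_c8 LD3_c58)) :=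
  Lgr Lrot119 (Lpe (f444258 IH) (Lpr_bf (f444256 IH) (Lpe (K56.f444259 IH) (Lpn (LP (LK LD1_c6 LD2_c8 LD3_c58))))))
theorem f89435 : Led Lsl_ct (LP (LK LD1_c3 LD2_c7 LD3_c7)) = (LP (LK LD1_c1 LD2_c29 LD3_c46)) :=
  Lre_c IH (LK LD1_c3 LD2_c7 LD3_c7) (LK LD1_c1 LD2_c29 LD3_c46) Lrfl Lrfl
theorem f89402 : Led Lsl_bt (LP (LK LD1_c3 LD2_c7 LD3_c7)) = (LP (LK LD1_c3 LD2_c17 LD3_c38)) :=
  Lgr Lrot128 (Lpe (K51.f89401 IH) (Lpe (K51.f89400 IH) (Lpr_cf (K4.f89397 IH) (Lpe (f64835 IH) (Lpr_cf (K4.f64615 IH) (Lpn (LP (LK LD1_c3 LD2_c17 LD3_c38))))))))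
theorem f64853 : Led Lsl_gt (LP (LK LD1_c3 LD2_c17 LD3_c38)) = (LP (LK LD1_c6 LD2_c38 LD3_c43)) :=
  Lre_g IH (LK LD1_c3 LD2_c17 LD3_c38) (LK LD1_c6 LD2_c38 LD3_c43) Lrfl Lrfl
def v7528 : LQ := Led Lsl_ct (LP (LK LD1_c3 LD2_c50 LD3_c15))
theorem f666352 : Led Lsl_ct (LP (LK LD1_c3 LD2_c50 LD3_c15)) = v7528 :=
  Lrfl
theorem f666353 : Led Lsl_cf (LP (LK LD1_c3 LD2_c50 LD3_c15)) = v7528 :=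
  Lgr Lrot11 (Lpr_ct (f666352 IH) (Lpn v7528))
theorem f712510 : (LP (LK LD1_c6 LD2_c38 LD3_c43)) = v7528 :=
  (Llr Lrot82 (Lpe (f64853 IH) (Lpe (f89402 IH) (Lpr_ct (f89435 IH) (Lpqs (K51.f708172 IH) (Lpe (K51.f647239 IH) (Lpe (K48.f444200 IH) (Lpr_bt (f444260 IH) (Lpr_gf (K56.f712506 IH) (Lpr_bf (K4.f112251 IH) (Lpe (K4.f96684 IH) (Lpe (f439891 IH) (Lpr_cf (f666353 IH) (Lpn v7528)))))))))))))).symm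
theorem f778043 : Led Lsl_ct v7529 = v19146 :=
  Lgr Lrot40 (Lpe (f666355 IH) (Lpr_cf (f666353 IH) (Lpq (f712510 IH) (Lpr_ff (f778041 IH) (Lpn v19146)))))
theorem f663032 : Led Lsl_bf (LP (LK LD1_c9 LD2_c15 LD3_c37)) = K48.v5718 :=
  Lgr Lrot90 (Lpr_ct (K56.f140020 IH) (Lpr_bt (K56.f58588 IH) (Lpr_ct (K50.f140014 IH) (Lpr_bt (K48.f506757 IH) (Lpr_ct (K48.f663031 IH) (Lpn K48.v5718))))))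
theorem f440100 : Led Lsl_ct (LP (LK LD1_c3 LD2_c12 LD3_c20)) = (LP (LK LD1_c6 LD2_c28 LD3_c47)) :=
  Lre_c IH (LK LD1_c3 LD2_c12 LD3_c20) (LK LD1_c6 LD2_c28 LD3_c47) Lrfl Lrfl
theorem f707629 : K48.v5718 = (LP (LK LD1_c6 LD2_c28 LD3_c47)) :=
  Lefun (Lecon (K48.f663031 IH) (K51.f707594 IH)) (f440100 IH)
theorem f440099 : Led Lsl_ct (LP (LK LD1_c6 LD2_c28 LD3_c47)) = (LP (LK LD1_c3 LD2_c12 LD3_c20)) :=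
  Lre_c IH (LK LD1_c6 LD2_c28 LD3_c47) (LK LD1_c3 LD2_c12 LD3_c20) Lrfl Lrfl
theorem f93754 : Led Lsl_at (LP (LK LD1_c3 LD2_c17 LD3_c38)) = (LP (LK LD1_c6 LD2_c35 LD3_c40)) :=
  Lgr Lrot100 (Lpr_af (K4.f93750 IH) (Lpn (LP (LK LD1_c6 LD2_c35 LD3_c40))))
theorem f93879 : Led Lsl_gt (LP (LK LD1_c12 LD2_c37 LD3_c21)) = (LP (LK LD1_c6 LD2_c35 LD3_c40)) :=
  Lre_g IH (LK LD1_c12 LD2_c37 LD3_c21) (LK LD1_c6 LD2_c35 LD3_c40) Lrfl Lrfl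
theorem f93880 : Led Lsl_gt (LP (LK LD1_c6 LD2_c38 LD3_c46)) = (LP (LK LD1_c12 LD2_c37 LD3_c21)) :=
  Lgr Lrot5 (Lpr_ft (K4.f64846 IH) (Lpr_at (f93754 IH) (Lpe (f93879 IH) (Lpn (LP (LK LD1_c12 LD2_c37 LD3_c21))))))
theorem f711849 : Led Lsl_ct (LP (LK LD1_c12 LD2_c37 LD3_c21)) = (LP (LK LD1_c7 LD2_c35 LD3_c30)) :=
  Lgr Lrot91 (Lpe (f93880 IH) (Lpe (K4.f89425 IH) (Lpr_ct (K52.f89418 IH) (Lpr_gf (K51.f440097 IH) (Lpe (f440099 IH) (Lpq (f707629 IH) (Lpe (f663032 IH) (Lpr_gf (K56.f711845 IH) (Lpr_bf (K4.f112255 IH) (Lpe (f96677 IH) (Lpe (K61.f96690 IH) (Lpn (LP (LK LD1_c7 LD2_c35 LD3_c30))))))))))))))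
theorem f711852 : Led Lsl_cf (LP (LK LD1_c12 LD2_c37 LD3_c21)) = (LP (LK LD1_c7 LD2_c35 LD3_c30)) :=
  Lgr Lrot11 (Lpr_ct (f711849 IH) (Lpn (LP (LK LD1_c7 LD2_c35 LD3_c30))))
theorem f813108 : v19146 = (LP (LK LD1_c12 LD2_c37 LD3_c21)) :=
  Lefun (Lecon (f778043 IH) (f813101 IH)) (Lfl_cf (f711852 IH))
def v19144 : LQ := Led Lsl_bt (LP (LK LD1_c6 LD2_c38 LD3_c43))
theorem f778028 : Led Lsl_bt (LP (LK LD1_c6 LD2_c38 LD3_c43)) = v19144 :=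
  Lrfl
theorem f778029 : Led Lsl_bf (LP (LK LD1_c6 LD2_c38 LD3_c43)) = v19144 :=
  Lgr Lrot24 (Lpr_bt (f778028 IH) (Lpn v19144))
theorem f116852 : Led Lsl_ct (LP (LK LD1_c12 LD2_c23 LD3_c21)) = (LP (LK LD1_c6 LD2_c25 LD3_c11)) :=
  Lre_c IH (LK LD1_c12 LD2_c23 LD3_c21) (LK LD1_c6 LD2_c25 LD3_c11) Lrfl Lrfl
theorem f116850 : Led Lsl_bf (LP (LK LD1_c12 LD2_c43 LD3_c45)) = (LP (LK LD1_c12 LD2_c23 LD3_c21)) :=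
  Lgr Lrot24 (Lpr_bt (K56.f116846 IH) (Lpn (LP (LK LD1_c12 LD2_c23 LD3_c21))))
theorem f498160 : Led Lsl_gt (LP (LK LD1_c17 LD2_c5 LD3_c26)) = (LP (LK LD1_c9 LD2_c11 LD3_c44)) :=
  Lre_g IH (LK LD1_c17 LD2_c5 LD3_c26) (LK LD1_c9 LD2_c11 LD3_c44) Lrfl Lrfl
theorem f498161 : Led Lsl_gf (LP (LK LD1_c17 LD2_c5 LD3_c26)) = (LP (LK LD1_c12 LD2_c43 LD3_c45)) :=
  Lgr Lrot47 (Lpr_gt (f498160 IH) (Lpr_af (K32.f498151 IH) (Lpe (K32.f116856 IH) (Lpn (LP (LK LD1_c12 LD2_c43 LD3_c45))))))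
theorem f752819 : Led Lsl_bt (LP (LK LD1_c12 LD2_c37 LD3_c21)) = (LP (LK LD1_c17 LD2_c5 LD3_c26)) :=
  Lgr Lrot92 (Lpr_ct (f711849 IH) (Lpr_gt (K61.f96690 IH) (Lpr_cf (f96677 IH) (Lpe (K4.f112255 IH) (Lpe (K56.f711845 IH) (Lpr_ct (K56.f140020 IH) (Lpr_gt (K56.f701161 IH) (Lpqs (K56.f752642 IH) (Lpe (f116852 IH) (Lpe (f116850 IH) (Lpe (f498161 IH) (Lpn (LP (LK LD1_c17 LD2_c5 LD3_c26))))))))))))))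
theorem f813335 : Led Lsl_ff v19144 = (LP (LK LD1_c17 LD2_c5 LD3_c26)) :=
  Lgr Lrot25 (Lpe (f778029 IH) (Lpr_ft (f778038 IH) (Lpqs (f813108 IH) (Lpr_bt (f752819 IH) (Lpn (LP (LK LD1_c17 LD2_c5 LD3_c26)))))))
theorem f498171 : Led Lsl_gt (LP (LK LD1_c9 LD2_c11 LD3_c44)) = (LP (LK LD1_c17 LD2_c5 LD3_c25)) :=
  Lre_g IH (LK LD1_c9 LD2_c11 LD3_c44) (LK LD1_c17 LD2_c5 LD3_c25) Lrfl Lrfl
theorem f813337 : Led Lsl_at v19144 = (LP (LK LD1_c17 LD2_c5 LD3_c25)) :=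
  Lgr Lrot26 (Lpr_ff (f813335 IH) (Lpr_gt (f498160 IH) (Lpr_gt (f498171 IH) (Lpn (LP (LK LD1_c17 LD2_c5 LD3_c25))))))
theorem f813338 : Led Lsl_af v19144 = (LP (LK LD1_c17 LD2_c5 LD3_c25)) :=
  Lgr Lrot0 (Lpr_at (f813337 IH) (Lpn (LP (LK LD1_c17 LD2_c5 LD3_c25))))
theorem f778030 : Led Lsl_gt (LP (LK LD1_c6 LD2_c39 LD3_c2)) = v19144 :=
  Lgr Lrot164 (Lpr_bf (K6.f116837 IH) (Lpr_ct (K32.f69230 IH) (Lpq (K52.f714140 IH) (Lpe (K52.f646372 IH) (Lpe (K52.f444262 IH) (Lpr_gf (K56.f712506 IH) (Lpr_bf (K4.f112251 IH) (Lpe (K4.f96684 IH) (Lpe (f439891 IH) (Lpr_cf (f666353 IH) (Lpq (f712510 IH) (Lpr_bt (f778028 IH) (Lpn v19144)))))))))))))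
theorem f116848 : Led Lsl_gt (LP (LK LD1_c12 LD2_c43 LD3_c43)) = (LP (LK LD1_c6 LD2_c39 LD3_c2)) :=
  Lre_g IH (LK LD1_c12 LD2_c43 LD3_c43) (LK LD1_c6 LD2_c39 LD3_c2) Lrfl Lrfl
theorem f813339 : Led Lsl_ft (LP (LK LD1_c12 LD2_c43 LD3_c43)) = (LP (LK LD1_c17 LD2_c5 LD3_c25)) :=
  Lgr Lrot2 (Lpr_gt (f116848 IH) (Lpr_gt (f778030 IH) (Lpr_af (f813338 IH) (Lpn (LP (LK LD1_c17 LD2_c5 LD3_c25))))))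
theorem f813340 : Led Lsl_ft (LP (LK LD1_c12 LD2_c43 LD3_c43)) = (LP (LK LD1_c17 LD2_c5 LD3_c25)) :=
  Leop (Lpe (f813339 IH) (Lpn (LP (LK LD1_c12 LD2_c43 LD3_c43))))
theorem seed_1781 : LEOK LG_f (LK LD1_c12 LD2_c43 LD3_c43) :=
  Leoe_f (LK LD1_c12 LD2_c43 LD3_c43) (f813340 IH)
theorem f807704 : Led Lsl_dt (LP (LK LD1_c14 LD2_c37 LD3_c53)) = (LP (LK LD1_c14 LD2_c18 LD3_c48)) :=
  Lre_d IH (LK LD1_c14 LD2_c37 LD3_c53) (LK LD1_c14 LD2_c18 LD3_c48) Lrfl Lrfl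
theorem f810026 : Led Lsl_af (LP (LK LD1_c7 LD2_c41 LD3_c39)) = v22732 :=
  Lgr Lrot0 (Lpr_at (f810025 IH) (Lpn v22732))
def v22733 : LQ := Led Lsl_dt (LP (LK LD1_c7 LD2_c41 LD3_c39))
theorem f810029 : Led Lsl_dt (LP (LK LD1_c7 LD2_c41 LD3_c39)) = v22733 :=
  Lrfl
theorem f813348 : Led Lsl_af (LP (LK LD1_c14 LD2_c37 LD3_c53)) = v22733 :=
  Lgr Lrot117 (Lpr_dt (f807704 IH) (Lpqs (f813097 IH) (Lpe (f810026 IH) (Lpr_dt (f810029 IH) (Lpn v22733)))))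
theorem f667034 : Led Lsl_gt (LP (LK LD1_c7 LD2_c45 LD3_c21)) = (LP (LK LD1_c14 LD2_c37 LD3_c53)) :=
  Lre_g IH (LK LD1_c7 LD2_c45 LD3_c21) (LK LD1_c14 LD2_c37 LD3_c53) Lrfl Lrfl
theorem f813353 : Led Lsl_gt (LP (LK LD1_c14 LD2_c37 LD3_c54)) = (LP (LK LD1_c7 LD2_c45 LD3_c21)) :=
  Lre_g IH (LK LD1_c14 LD2_c37 LD3_c54) (LK LD1_c7 LD2_c45 LD3_c21) Lrfl Lrfl
theorem f813354 : Led Lsl_ft (LP (LK LD1_c14 LD2_c37 LD3_c54)) = v22733 :=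
  Lgr Lrot2 (Lpr_gt (f813353 IH) (Lpr_gt (f667034 IH) (Lpr_af (f813348 IH) (Lpn v22733))))
theorem f810030 : Led Lsl_df (LP (LK LD1_c7 LD2_c41 LD3_c39)) = v22733 :=
  Lgr Lrot38 (Lpr_dt (f810029 IH) (Lpn v22733))
theorem f813356 : Led Lsl_df (LP (LK LD1_c14 LD2_c37 LD3_c54)) = (LP (LK LD1_c14 LD2_c30 LD3_c10)) :=
  Lgr Lrot78 (Lpr_ft (f813354 IH) (Lpe (f810030 IH) (Lpr_ft (f666351 IH) (Lpn (LP (LK LD1_c14 LD2_c30 LD3_c10))))))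
theorem f813357 : Led Lsl_dt (LP (LK LD1_c14 LD2_c30 LD3_c10)) = (LP (LK LD1_c14 LD2_c37 LD3_c54)) :=
  Leop (Lpr_df (f813356 IH) (Lpn (LP (LK LD1_c14 LD2_c30 LD3_c10))))
theorem seed_1782 : LEOK LG_d (LK LD1_c14 LD2_c30 LD3_c10) :=
  Leoe_d (LK LD1_c14 LD2_c30 LD3_c10) (f813357 IH)
theorem f813351 : Led Lsl_at (LP (LK LD1_c14 LD2_c37 LD3_c53)) = v22733 :=
  Lgr Lrot100 (Lpr_af (f813348 IH) (Lpn v22733))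
theorem f64268 : Led Lsl_et (LP (LK LD1_c1 LD2_c35 LD3_c31)) = (LP (LK LD1_c3 LD2_c18 LD3_c0)) :=
  Lre_e IH (LK LD1_c1 LD2_c35 LD3_c31) (LK LD1_c3 LD2_c18 LD3_c0) Lrfl Lrfl
theorem f64027 : Led Lsl_gt (LP (LK LD1_c3 LD2_c18 LD3_c0)) = (LP (LK LD1_c6 LD2_c39 LD3_c47)) :=
  Lre_g IH (LK LD1_c3 LD2_c18 LD3_c0) (LK LD1_c6 LD2_c39 LD3_c47) Lrfl Lrfl
theorem f436600 : Led Lsl_dt (LP (LK LD1_c6 LD2_c39 LD3_c47)) = (LP (LK LD1_c12 LD2_c45 LD3_c24)) :=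
  Lre_d IH (LK LD1_c6 LD2_c39 LD3_c47) (LK LD1_c12 LD2_c45 LD3_c24) Lrfl Lrfl
theorem f810031 : Led Lsl_gt (LP (LK LD1_c12 LD2_c45 LD3_c24)) = v22733 :=
  Lgr Lrot139 (Lpe (f436600 IH) (Lpe (f64027 IH) (Lpe (f64268 IH) (Lpr_dt (K3.f14674 IH) (Lpe (K1.f14680 IH) (Lpe (K1.f63503 IH) (Lpr_et (K4.f87386 IH) (Lpe (f87418 IH) (Lpe (f440858 IH) (Lpr_dt (f810029 IH) (Lpn v22733)))))))))))
theorem f778439 : Led Lsl_gt (LP (LK LD1_c21 LD2_c52 LD3_c31)) = (LP (LK LD1_c12 LD2_c45 LD3_c24)) :=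
  Lre_g IH (LK LD1_c21 LD2_c52 LD3_c31) (LK LD1_c12 LD2_c45 LD3_c24) Lrfl Lrfl
theorem f813371 : Led Lsl_ff (LP (LK LD1_c14 LD2_c37 LD3_c53)) = (LP (LK LD1_c21 LD2_c52 LD3_c31)) :=
  Lgr Lrot52 (Lpr_at (f813351 IH) (Lpe (f810031 IH) (Lpe (f778439 IH) (Lpn (LP (LK LD1_c21 LD2_c52 LD3_c31))))))
theorem f813372 : Led Lsl_ft (LP (LK LD1_c21 LD2_c52 LD3_c31)) = (LP (LK LD1_c14 LD2_c37 LD3_c53)) :=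
  Leop (Lpr_ff (f813371 IH) (Lpn (LP (LK LD1_c21 LD2_c52 LD3_c31))))
theorem seed_1783 : LEOK LG_f (LK LD1_c21 LD2_c52 LD3_c31) :=
  Leoe_f (LK LD1_c21 LD2_c52 LD3_c31) (f813372 IH)
theorem f813358 : Led Lsl_ff (LP (LK LD1_c14 LD2_c37 LD3_c54)) = v22733 :=
  Lgr Lrot3 (Lpr_ft (f813354 IH) (Lpn v22733))
theorem f813373 : Led Lsl_at (LP (LK LD1_c14 LD2_c37 LD3_c54)) = (LP (LK LD1_c21 LD2_c52 LD3_c31)) :=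
  Lgr Lrot66 (Lpr_ff (f813358 IH) (Lpe (f813351 IH) (Lpr_ff (f813371 IH) (Lpn (LP (LK LD1_c21 LD2_c52 LD3_c31))))))
theorem f813374 : Led Lsl_at (LP (LK LD1_c14 LD2_c37 LD3_c54)) = (LP (LK LD1_c21 LD2_c52 LD3_c31)) :=
  Leop (Lpe (f813373 IH) (Lpn (LP (LK LD1_c14 LD2_c37 LD3_c54))))
theorem seed_1784 : LEOK LG_a (LK LD1_c14 LD2_c37 LD3_c54) :=
  Leoe_a (LK LD1_c14 LD2_c37 LD3_c54) (f813374 IH)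
def v22876 : LQ := Led Lsl_ct (LP (LK LD1_c7 LD2_c44 LD3_c20))
theorem f813423 : Led Lsl_ct (LP (LK LD1_c7 LD2_c44 LD3_c20)) = v22876 :=
  Lrfl
theorem f813424 : Led Lsl_cf (LP (LK LD1_c7 LD2_c44 LD3_c20)) = v22876 :=
  Lgr Lrot11 (Lpr_ct (f813423 IH) (Lpn v22876))
theorem f65749 : Led Lsl_dt (LP (LK LD1_c7 LD2_c44 LD3_c20)) = (LP (LK LD1_c3 LD2_c51 LD3_c26)) :=
  Lre_d IH (LK LD1_c7 LD2_c44 LD3_c20) (LK LD1_c3 LD2_c51 LD3_c26) Lrfl Lrfl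
theorem f65745 : Led Lsl_ct (LP (LK LD1_c6 LD2_c34 LD3_c35)) = (LP (LK LD1_c3 LD2_c51 LD3_c26)) :=
  Lgr Lrot59 (Lpr_cf (K52.f65722 IH) (Lpn (LP (LK LD1_c3 LD2_c51 LD3_c26))))
def v22328 : LQ := Led Lsl_ct (LP (LK LD1_c7 LD2_c34 LD3_c29))
theorem f805553 : Led Lsl_ct (LP (LK LD1_c7 LD2_c34 LD3_c29)) = v22328 :=
  Lrfl
theorem f813428 : Led Lsl_gt v22328 = v22876 :=
  Lgr Lrot150 (Lpe (f805553 IH) (Lpe (f92766 IH) (Lpe (K54.f88297 IH) (Lpr_gt (K61.f88381 IH) (Lpr_ct (K61.f136026 IH) (Lpr_gt (K61.f712397 IH) (Lpr_ct (f65745 IH) (Lpe (f65749 IH) (Lpr_cf (f813424 IH) (Lpn v22876))))))))))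
theorem f805540 : Led Lsl_bt (LP (LK LD1_c7 LD2_c34 LD3_c29)) = (LP (LK LD1_c14 LD2_c16 LD3_c60)) :=
  Lre_b IH (LK LD1_c7 LD2_c34 LD3_c29) (LK LD1_c14 LD2_c16 LD3_c60) Lrfl Lrfl
theorem f439907 : Led Lsl_bt (LP (LK LD1_c7 LD2_c44 LD3_c20)) = (LP (LK LD1_c14 LD2_c35 LD3_c33)) :=
  Lre_b IH (LK LD1_c7 LD2_c44 LD3_c20) (LK LD1_c14 LD2_c35 LD3_c33) Lrfl Lrfl
theorem f502705 : Led Lsl_gt (LP (LK LD1_c14 LD2_c35 LD3_c33)) = (LP (LK LD1_c24 LD2_c18 LD3_c35)) :=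
  Lre_g IH (LK LD1_c14 LD2_c35 LD3_c33) (LK LD1_c24 LD2_c18 LD3_c35) Lrfl Lrfl
theorem f130145 : Led Lsl_ct (LP (LK LD1_c20 LD2_c23 LD3_c39)) = (LP (LK LD1_c11 LD2_c26 LD3_c7)) :=
  Lre_c IH (LK LD1_c20 LD2_c23 LD3_c39) (LK LD1_c11 LD2_c26 LD3_c7) Lrfl Lrfl
theorem f130177 : Led Lsl_gt (LP (LK LD1_c29 LD2_c26 LD3_c3)) = (LP (LK LD1_c20 LD2_c23 LD3_c39)) :=
  Lre_g IH (LK LD1_c29 LD2_c26 LD3_c3) (LK LD1_c20 LD2_c23 LD3_c39) Lrfl Lrfl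
theorem f739088 : Led Lsl_cf (LP (LK LD1_c29 LD2_c26 LD3_c3)) = (LP (LK LD1_c24 LD2_c18 LD3_c35)) :=
  Lgr Lrot169 (Lpr_gt (f130177 IH) (Lpr_ct (f130145 IH) (Lpe (K5.f130148 IH) (Lpr_cf (K54.f136265 IH) (Lpqs (K54.f739029 IH) (Lpe (K54.f705275 IH) (Lpe (f644059 IH) (Lpr_gf (f705824 IH) (Lpq (K53.f710137 IH) (Lpe (K53.f640506 IH) (Lpr_gt (f502705 IH) (Lpn (LP (LK LD1_c24 LD2_c18 LD3_c35))))))))))))))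
theorem f130178 : Led Lsl_ct (LP (LK LD1_c11 LD2_c26 LD3_c7)) = (LP (LK LD1_c20 LD2_c23 LD3_c39)) :=
  Lre_c IH (LK LD1_c11 LD2_c26 LD3_c7) (LK LD1_c20 LD2_c23 LD3_c39) Lrfl Lrfl
theorem f130129 : Led Lsl_bt (LP (LK LD1_c11 LD2_c26 LD3_c7)) = (LP (LK LD1_c20 LD2_c23 LD3_c38)) :=
  Lre_b IH (LK LD1_c11 LD2_c26 LD3_c7) (LK LD1_c20 LD2_c23 LD3_c38) Lrfl Lrfl
theorem f813429 : Led Lsl_gf (LP (LK LD1_c14 LD2_c16 LD3_c60)) = (LP (LK LD1_c20 LD2_c23 LD3_c38)) :=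
  Lgr Lrot124 (Lpe (f805540 IH) (Lpr_ct (f805553 IH) (Lpr_gt (f813428 IH) (Lpe (f813423 IH) (Lpr_bt (f439907 IH) (Lpr_gt (f502705 IH) (Lpe (f739088 IH) (Lpr_gt (f130177 IH) (Lpe (f130178 IH) (Lpr_bt (f130129 IH) (Lpn (LP (LK LD1_c20 LD2_c23 LD3_c38)))))))))))))
theorem f813430 : Led Lsl_gt (LP (LK LD1_c20 LD2_c23 LD3_c38)) = (LP (LK LD1_c14 LD2_c16 LD3_c60)) :=
  Leop (Lpr_gf (f813429 IH) (Lpn (LP (LK LD1_c20 LD2_c23 LD3_c38))))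
theorem seed_1785 : LEOK LG_g (LK LD1_c20 LD2_c23 LD3_c38) :=
  Leoe_g (LK LD1_c20 LD2_c23 LD3_c38) (f813430 IH)
def v22928 : LQ := Led Lsl_et (LP (LK LD1_c7 LD2_c44 LD3_c49))
theorem f813718 : Led Lsl_et (LP (LK LD1_c7 LD2_c44 LD3_c49)) = v22928 :=
  Lrfl
theorem f810427 : Led Lsl_dt (LP (LK LD1_c7 LD2_c44 LD3_c49)) = (LP (LK LD1_c13 LD2_c20 LD3_c44)) :=
  Lgr Lrot44 (Lpr_af (f810425 IH) (Lpe (f810422 IH) (Lpe (f807056 IH) (Lpn (LP (LK LD1_c13 LD2_c20 LD3_c44))))))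
theorem f63933 : Led Lsl_et (LP (LK LD1_c1 LD2_c50 LD3_c59)) = (LP (LK LD1_c3 LD2_c47 LD3_c49)) :=
  Lre_e IH (LK LD1_c1 LD2_c50 LD3_c59) (LK LD1_c3 LD2_c47 LD3_c49) Lrfl Lrfl
def v7444 : LQ := Led Lsl_et (LP (LK LD1_c3 LD2_c47 LD3_c56))
theorem f665614 : Led Lsl_et (LP (LK LD1_c3 LD2_c47 LD3_c56)) = v7444 :=
  Lrfl
theorem f813721 : Led Lsl_gf v7444 = v22928 :=
  Lgr Lrot141 (Lpe (f665614 IH) (Lpr_dt (K29.f463746 IH) (Lpr_gt (K28.f14971 IH) (Lpe (K29.f63934 IH) (Lpr_et (f63933 IH) (Lpr_gt (K61.f65023 IH) (Lpr_dt (f493302 IH) (Lpe (f807052 IH) (Lpe (f810427 IH) (Lpr_et (f813718 IH) (Lpn v22928)))))))))))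
theorem f665616 : Led Lsl_ef (LP (LK LD1_c3 LD2_c47 LD3_c56)) = v7444 :=
  Lgr Lrot88 (Lpr_et (f665614 IH) (Lpn v7444))
theorem f491801 : Led Lsl_af (LP (LK LD1_c1 LD2_c52 LD3_c41)) = (LP (LK LD1_c3 LD2_c47 LD3_c52)) :=
  Lgr Lrot0 (Lpr_at (K33.f491799 IH) (Lpn (LP (LK LD1_c3 LD2_c47 LD3_c52))))
theorem f491797 : Led Lsl_ft (LP (LK LD1_c1 LD2_c52 LD3_c41)) = (LP (LK LD1_c3 LD2_c47 LD3_c56)) :=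
  Lgr Lrot48 (Lpr_ff (K33.f491789 IH) (Lpn (LP (LK LD1_c3 LD2_c47 LD3_c56))))
theorem f491825 : Led Lsl_af (LP (LK LD1_c1 LD2_c52 LD3_c45)) = (LP (LK LD1_c3 LD2_c47 LD3_c56)) :=
  Lgr Lrot45 (Lpr_ft (K33.f491823 IH) (Lpe (f491801 IH) (Lpr_ft (f491797 IH) (Lpn (LP (LK LD1_c3 LD2_c47 LD3_c56))))))
def v2686 : LQ := Led Lsl_et (LP (LK LD1_c1 LD2_c52 LD3_c45))
theorem f530401 : Led Lsl_et (LP (LK LD1_c1 LD2_c52 LD3_c45)) = v2686 :=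
  Lrfl
theorem f665617 : Led Lsl_at v2686 = v7444 :=
  Lgr Lrot80 (Lpe (f530401 IH) (Lpr_af (f491825 IH) (Lpr_ef (f665616 IH) (Lpn v7444))))
def v9443 : LQ := Led Lsl_ft v2686
theorem f675992 : Led Lsl_ft v2686 = v9443 :=
  Lrfl
theorem f675993 : Led Lsl_ff v2686 = v9443 :=
  Lgr Lrot3 (Lpr_ft (f675992 IH) (Lpn v9443))
theorem f813722 : Led Lsl_gt v9443 = v22928 :=
  Lgr Lrot5 (Lpe (f675993 IH) (Lpr_at (f665617 IH) (Lpr_gf (f813721 IH) (Lpn v22928))))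
theorem f63936 : Led Lsl_et (LP (LK LD1_c3 LD2_c47 LD3_c52)) = (LP (LK LD1_c7 LD2_c36 LD3_c52)) :=
  Lre_e IH (LK LD1_c3 LD2_c47 LD3_c52) (LK LD1_c7 LD2_c36 LD3_c52) Lrfl Lrfl
theorem f530402 : Led Lsl_ef (LP (LK LD1_c1 LD2_c52 LD3_c45)) = v2686 :=
  Lgr Lrot88 (Lpr_et (f530401 IH) (Lpn v2686))
theorem f807124 : Led Lsl_ef v9443 = v22467 :=
  Lgr Lrot21 (Lpe (f675993 IH) (Lpe (f530402 IH) (Lpr_ft (K33.f491823 IH) (Lpr_et (f63936 IH) (Lpr_ft (f807121 IH) (Lpn v22467))))))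
theorem f443425 : Led Lsl_ft (LP (LK LD1_c13 LD2_c22 LD3_c3)) = (LP (LK LD1_c7 LD2_c2 LD3_c54)) :=
  Lre_f IH (LK LD1_c13 LD2_c22 LD3_c3) (LK LD1_c7 LD2_c2 LD3_c54) Lrfl Lrfl
theorem f807123 : Led Lsl_df (LP (LK LD1_c13 LD2_c22 LD3_c3)) = v22467 :=
  Lgr Lrot78 (Lpr_ft (f443425 IH) (Lpe (f64984 IH) (Lpr_ft (f807121 IH) (Lpn v22467))))
theorem f443426 : Led Lsl_ft (LP (LK LD1_c7 LD2_c2 LD3_c54)) = (LP (LK LD1_c13 LD2_c22 LD3_c3)) :=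
  Lre_f IH (LK LD1_c7 LD2_c2 LD3_c54) (LK LD1_c13 LD2_c22 LD3_c3) Lrfl Lrfl
theorem f491885 : Led Lsl_ft (LP (LK LD1_c14 LD2_c38 LD3_c56)) = (LP (LK LD1_c7 LD2_c45 LD3_c57)) :=
  Lre_f IH (LK LD1_c14 LD2_c38 LD3_c56) (LK LD1_c7 LD2_c45 LD3_c57) Lrfl Lrfl
theorem f493197 : Led Lsl_at (LP (LK LD1_c13 LD2_c22 LD3_c3)) = (LP (LK LD1_c14 LD2_c38 LD3_c56)) :=
  Lgr Lrot66 (Lpe (f443426 IH) (Lpr_af (f493191 IH) (Lpe (f491885 IH) (Lpn (LP (LK LD1_c14 LD2_c38 LD3_c56))))))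
theorem f493203 : Led Lsl_af (LP (LK LD1_c13 LD2_c22 LD3_c3)) = (LP (LK LD1_c14 LD2_c38 LD3_c56)) :=
  Lgr Lrot0 (Lpr_at (f493197 IH) (Lpn (LP (LK LD1_c14 LD2_c38 LD3_c56))))
theorem f491872 : Led Lsl_ft (LP (LK LD1_c7 LD2_c45 LD3_c57)) = (LP (LK LD1_c14 LD2_c38 LD3_c56)) :=
  Lre_f IH (LK LD1_c7 LD2_c45 LD3_c57) (LK LD1_c14 LD2_c38 LD3_c56) Lrfl Lrfl
theorem f493214 : Led Lsl_gf (LP (LK LD1_c13 LD2_c22 LD3_c3)) = (LP (LK LD1_c14 LD2_c38 LD3_c53)) :=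
  Lgr Lrot76 (Lpr_af (f493203 IH) (Lpe (f491872 IH) (Lpr_gt (K34.f493213 IH) (Lpn (LP (LK LD1_c14 LD2_c38 LD3_c53))))))
theorem f63778 : Led Lsl_et (LP (LK LD1_c7 LD2_c36 LD3_c44)) = (LP (LK LD1_c14 LD2_c21 LD3_c7)) :=
  Lre_e IH (LK LD1_c7 LD2_c36 LD3_c44) (LK LD1_c14 LD2_c21 LD3_c7) Lrfl Lrfl
theorem f63928 : Led Lsl_gt (LP (LK LD1_c14 LD2_c21 LD3_c7)) = (LP (LK LD1_c23 LD2_c59 LD3_c4)) :=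
  Lre_g IH (LK LD1_c14 LD2_c21 LD3_c7) (LK LD1_c23 LD2_c59 LD3_c4) Lrfl Lrfl
theorem f813723 : Led Lsl_df (LP (LK LD1_c14 LD2_c38 LD3_c53)) = (LP (LK LD1_c23 LD2_c59 LD3_c4)) :=
  Lgr Lrot135 (Lpe (f493214 IH) (Lpr_df (f807123 IH) (Lpe (f807124 IH) (Lpr_gt (f813722 IH) (Lpe (f813718 IH) (Lpr_dt (f810427 IH) (Lpr_gt (f63781 IH) (Lpr_df (K61.f63773 IH) (Lpr_et (f63778 IH) (Lpr_gt (f63928 IH) (Lpn (LP (LK LD1_c23 LD2_c59 LD3_c4)))))))))))))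
theorem f813724 : Led Lsl_dt (LP (LK LD1_c23 LD2_c59 LD3_c4)) = (LP (LK LD1_c14 LD2_c38 LD3_c53)) :=
  Leop (Lpr_df (f813723 IH) (Lpn (LP (LK LD1_c23 LD2_c59 LD3_c4))))
theorem seed_1786 : LEOK LG_d (LK LD1_c23 LD2_c59 LD3_c4) :=
  Leoe_d (LK LD1_c23 LD2_c59 LD3_c4) (f813724 IH)
def v20641 : LQ := Led Lsl_ft (LP (LK LD1_c7 LD2_c1 LD3_c41))
theorem f788685 : Led Lsl_ft (LP (LK LD1_c7 LD2_c1 LD3_c41)) = v20641 :=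
  Lrfl
theorem f788687 : Led Lsl_ff (LP (LK LD1_c7 LD2_c1 LD3_c41)) = v20641 :=
  Lgr Lrot3 (Lpr_ft (f788685 IH) (Lpn v20641))
def v20640 : LQ := Led Lsl_at (LP (LK LD1_c7 LD2_c1 LD3_c41))
theorem f788681 : Led Lsl_at (LP (LK LD1_c7 LD2_c1 LD3_c41)) = v20640 :=
  Lrfl
theorem f788682 : Led Lsl_af (LP (LK LD1_c7 LD2_c1 LD3_c41)) = v20640 :=
  Lgr Lrot0 (Lpr_at (f788681 IH) (Lpn v20640))
theorem f788683 : Led Lsl_ft (LP (LK LD1_c7 LD2_c1 LD3_c42)) = v20640 :=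
  Lgr Lrot2 (Lpr_gt (K52.f109956 IH) (Lpr_gt (K52.f63143 IH) (Lpr_af (f788682 IH) (Lpn v20640))))
theorem f788684 : Led Lsl_ff (LP (LK LD1_c7 LD2_c1 LD3_c42)) = v20640 :=
  Lgr Lrot3 (Lpr_ft (f788683 IH) (Lpn v20640))
theorem f788688 : Led Lsl_at (LP (LK LD1_c7 LD2_c1 LD3_c42)) = v20641 :=
  Lgr Lrot66 (Lpr_ff (f788684 IH) (Lpe (f788681 IH) (Lpr_ff (f788687 IH) (Lpn v20641))))
def v22948 : LQ := Led Lsl_et (LP (LK LD1_c7 LD2_c45 LD3_c1))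
theorem f813797 : Led Lsl_et (LP (LK LD1_c7 LD2_c45 LD3_c1)) = v22948 :=
  Lrfl
theorem f117410 : Led Lsl_dt (LP (LK LD1_c14 LD2_c18 LD3_c48)) = (LP (LK LD1_c14 LD2_c37 LD3_c53)) :=
  Lre_d IH (LK LD1_c14 LD2_c18 LD3_c48) (LK LD1_c14 LD2_c37 LD3_c53) Lrfl Lrfl
theorem f16822 : Led Lsl_dt (LP (LK LD1_c3 LD2_c51 LD3_c48)) = (LP (LK LD1_c7 LD2_c45 LD3_c21)) :=
  Lre_d IH (LK LD1_c3 LD2_c51 LD3_c48) (LK LD1_c7 LD2_c45 LD3_c21) Lrfl Lrfl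
theorem f443262 : Led Lsl_et (LP (LK LD1_c3 LD2_c51 LD3_c48)) = (LP (LK LD1_c7 LD2_c45 LD3_c22)) :=
  Lre_e IH (LK LD1_c3 LD2_c51 LD3_c48) (LK LD1_c7 LD2_c45 LD3_c22) Lrfl Lrfl
theorem f813800 : Led Lsl_gf (LP (LK LD1_c7 LD2_c45 LD3_c22)) = v22948 :=
  Lgr Lrot141 (Lpe (f443262 IH) (Lpr_dt (f16822 IH) (Lpr_gt (f667034 IH) (Lpe (f117410 IH) (Lpr_et (f117409 IH) (Lpr_gt (K61.f96690 IH) (Lpr_dt (K52.f93480 IH) (Lpr_gt (f93481 IH) (Lpr_df (f667027 IH) (Lpr_et (f813797 IH) (Lpn v22948)))))))))))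
theorem f813363 : Led Lsl_gt (LP (LK LD1_c7 LD2_c45 LD3_c22)) = K61.v20642 :=
  Lgr Lrot137 (Lpe (f443262 IH) (Lpr_dt (f16822 IH) (Lpe (f813353 IH) (Lpr_df (f813356 IH) (Lpr_et (f812611 IH) (Lpe (K61.f443496 IH) (Lpe (K61.f658551 IH) (Lpr_dt (K61.f63241 IH) (Lpe (K61.f789076 IH) (Lpe (K61.f789055 IH) (Lpn K61.v20642)))))))))))
def v22861 : LQ := Led Lsl_at (LP (LK LD1_c7 LD2_c44 LD3_c3))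
theorem f812433 : Led Lsl_at (LP (LK LD1_c7 LD2_c44 LD3_c3)) = v22861 :=
  Lrfl
theorem f812434 : Led Lsl_af (LP (LK LD1_c7 LD2_c44 LD3_c3)) = v22861 :=
  Lgr Lrot0 (Lpr_at (f812433 IH) (Lpn v22861))
theorem f812437 : Led Lsl_ft (LP (LK LD1_c7 LD2_c45 LD3_c1)) = v22861 :=
  Lgr Lrot2 (Lpr_gt (f811099 IH) (Lpe (f811096 IH) (Lpr_af (f812434 IH) (Lpn v22861))))
theorem f812438 : Led Lsl_ff (LP (LK LD1_c7 LD2_c45 LD3_c1)) = v22861 :=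
  Lgr Lrot3 (Lpr_ft (f812437 IH) (Lpn v22861))
theorem f812435 : Led Lsl_ef v7553 = v22861 :=
  Lgr Lrot20 (Lpe (f666709 IH) (Lpr_et (K52.f65212 IH) (Lpr_at (f812433 IH) (Lpn v22861))))
theorem f812436 : Led Lsl_et v7553 = v22861 :=
  Lgr Lrot87 (Lpr_ef (f812435 IH) (Lpn v22861))
def v7558 : LQ := Led Lsl_et (LP (LK LD1_c3 LD2_c51 LD3_c18))
theorem f666725 : Led Lsl_et (LP (LK LD1_c3 LD2_c51 LD3_c18)) = v7558 :=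
  Lrfl
theorem f666727 : Led Lsl_ef (LP (LK LD1_c3 LD2_c51 LD3_c18)) = v7558 :=
  Lgr Lrot88 (Lpr_et (f666725 IH) (Lpn v7558))
theorem f813799 : Led Lsl_ff v7558 = v22948 :=
  Lgr Lrot72 (Lpe (f666727 IH) (Lpr_ft (f666711 IH) (Lpr_et (f812436 IH) (Lpe (f812438 IH) (Lpr_et (f813797 IH) (Lpn v22948))))))
theorem f813801 : Led Lsl_af K61.v20642 = v7558 :=
  Lgr Lrot31 (Lpe (f813363 IH) (Lpr_gf (f813800 IH) (Lpe (f813799 IH) (Lpn v7558))))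
theorem f813803 : v20641 = (LP (LK LD1_c3 LD2_c51 LD3_c18)) :=
  (Llr Lrot80 (Lpe (f788688 IH) (Lpr_ef (K61.f788690 IH) (Lpr_af (f813801 IH) (Lpe (f666725 IH) (Lpn (LP (LK LD1_c3 LD2_c51 LD3_c18)))))))).symm
theorem f813805 : Led Lsl_at (LP (LK LD1_c7 LD2_c1 LD3_c42)) = (LP (LK LD1_c3 LD2_c51 LD3_c18)) :=
  Leop (Lpq (f813803 IH) (Lpe (f788688 IH) (Lpn (LP (LK LD1_c7 LD2_c1 LD3_c42)))))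
theorem seed_1787 : LEOK LG_a (LK LD1_c7 LD2_c1 LD3_c42) :=
  Leoe_a (LK LD1_c7 LD2_c1 LD3_c42) (f813805 IH)
def v22794 : LQ := Led Lsl_ct (LP (LK LD1_c7 LD2_c43 LD3_c5))
theorem f810747 : Led Lsl_ct (LP (LK LD1_c7 LD2_c43 LD3_c5)) = v22794 :=
  Lrfl
theorem f95384 : Led Lsl_gt (LP (LK LD1_c7 LD2_c43 LD3_c6)) = (LP (LK LD1_c14 LD2_c33 LD3_c0)) :=
  Lre_g IH (LK LD1_c7 LD2_c43 LD3_c6) (LK LD1_c14 LD2_c33 LD3_c0) Lrfl Lrfl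
theorem f786932 : Led Lsl_ct (LP (LK LD1_c14 LD2_c33 LD3_c0)) = (LP (LK LD1_c24 LD2_c15 LD3_c29)) :=
  Lre_c IH (LK LD1_c14 LD2_c33 LD3_c0) (LK LD1_c24 LD2_c15 LD3_c29) Lrfl Lrfl
def v22792 : LQ := Led Lsl_at (LP (LK LD1_c7 LD2_c43 LD3_c5))
theorem f810737 : Led Lsl_at (LP (LK LD1_c7 LD2_c43 LD3_c5)) = v22792 :=
  Lrfl
theorem f810738 : Led Lsl_af (LP (LK LD1_c7 LD2_c43 LD3_c5)) = v22792 :=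
  Lgr Lrot0 (Lpr_at (f810737 IH) (Lpn v22792))
def v7547 : LQ := Led Lsl_gf (LP (LK LD1_c3 LD2_c50 LD3_c59))
theorem f666657 : Led Lsl_gf (LP (LK LD1_c3 LD2_c50 LD3_c59)) = v7547 :=
  Lrfl
theorem f810739 : Led Lsl_ft v7547 = v22792 :=
  Lgr Lrot2 (Lpe (f666657 IH) (Lpr_gt (K62.f95376 IH) (Lpr_af (f810738 IH) (Lpn v22792))))
theorem f810741 : Led Lsl_ff v7547 = v22792 :=
  Lgr Lrot3 (Lpr_ft (f810739 IH) (Lpn v22792))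
theorem f91926 : Led Lsl_ct (LP (LK LD1_c2 LD2_c19 LD3_c56)) = (LP (LK LD1_c4 LD2_c43 LD3_c60)) :=
  Lre_c IH (LK LD1_c2 LD2_c19 LD3_c56) (LK LD1_c4 LD2_c43 LD3_c60) Lrfl Lrfl
theorem f702951 : Led Lsl_cf K51.v4356 = K57.v13435 :=
  Lgr Lrot108 (Lpe (K51.f632892 IH) (Lpr_ct (f91926 IH) (Lpr_ft (K57.f702948 IH) (Lpn K57.v13435))))
def v6711 : LQ := Led Lsl_ft (LP (LK LD1_c3 LD2_c27 LD3_c18))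
theorem f657939 : Led Lsl_ft (LP (LK LD1_c3 LD2_c27 LD3_c18)) = v6711 :=
  Lrfl
theorem f657942 : Led Lsl_ff (LP (LK LD1_c3 LD2_c27 LD3_c18)) = v6711 :=
  Lgr Lrot3 (Lpr_ft (f657939 IH) (Lpn v6711))
theorem f702950 : Led Lsl_bf v6711 = K57.v13435 :=
  Lgr Lrot61 (Lpe (f657942 IH) (Lpr_bt (K60.f91924 IH) (Lpr_ft (K57.f702948 IH) (Lpn K57.v13435))))
theorem f91910 : Led Lsl_dt (LP (LK LD1_c6 LD2_c56 LD3_c35)) = (LP (LK LD1_c3 LD2_c27 LD3_c18)) :=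
  Lre_d IH (LK LD1_c6 LD2_c56 LD3_c35) (LK LD1_c3 LD2_c27 LD3_c18) Lrfl Lrfl
theorem f136892 : Led Lsl_af (LP (LK LD1_c3 LD2_c50 LD3_c59)) = (LP (LK LD1_c3 LD2_c27 LD3_c18)) :=
  Lgr Lrot117 (Lpr_dt (K47.f17145 IH) (Lpr_at (K60.f136880 IH) (Lpr_dt (f91910 IH) (Lpn (LP (LK LD1_c3 LD2_c27 LD3_c18))))))
theorem f666658 : Led Lsl_gt v6711 = v7547 :=
  Lgr Lrot5 (Lpe (f657942 IH) (Lpe (f136892 IH) (Lpr_gf (f666657 IH) (Lpn v7547))))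
def v7556 : LQ := Led Lsl_bt (LP (LK LD1_c3 LD2_c51 LD3_c18))
theorem f666719 : Led Lsl_bt (LP (LK LD1_c3 LD2_c51 LD3_c18)) = v7556 :=
  Lrfl
theorem f760180 : v7547 = v7556 :=
  (Llr Lrot164 (Lpe (f666658 IH) (Lpr_bf (f702950 IH) (Lpe (f702951 IH) (Lpq (K57.f760159 IH) (Lpe (K57.f668998 IH) (Lpr_cf (K58.f669012 IH) (Lpq (K52.f715910 IH) (Lpe (K52.f652521 IH) (Lpr_bf (K52.f109802 IH) (Lpe (K52.f109739 IH) (Lpe (K52.f66407 IH) (Lpq (K52.f715926 IH) (Lpe (K52.f666723 IH) (Lpr_bt (f666719 IH) (Lpn v7556)))))))))))))))).symm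
theorem f666720 : Led Lsl_bf (LP (LK LD1_c3 LD2_c51 LD3_c18)) = v7556 :=
  Lgr Lrot24 (Lpr_bt (f666719 IH) (Lpn v7556))
theorem f810742 : Led Lsl_bt v7553 = v22792 :=
  Lgr Lrot35 (Lpe (f666711 IH) (Lpr_bf (f666720 IH) (Lpq (f760180 IH) (Lpr_ff (f810741 IH) (Lpn v22792)))))
def v6709 : LQ := Led Lsl_gt (LP (LK LD1_c3 LD2_c27 LD3_c18))
theorem f657936 : Led Lsl_gt (LP (LK LD1_c3 LD2_c27 LD3_c18)) = v6709 :=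
  Lrfl
theorem f760281 : Led Lsl_bt (LP (LK LD1_c7 LD2_c1 LD3_c41)) = v6709 :=
  Lgr Lrot92 (Lpe (K52.f713805 IH) (Lpe (K52.f105291 IH) (Lpr_cf (K52.f109804 IH) (Lpr_bt (K52.f652527 IH) (Lpq (K51.f707741 IH) (Lpe (K51.f679020 IH) (Lpe (K52.f624621 IH) (Lpq (K57.f760224 IH) (Lpe (K57.f632887 IH) (Lpe (K3.f91930 IH) (Lpe (K60.f91922 IH) (Lpr_gt (f657936 IH) (Lpn v6709)))))))))))))
theorem f813807 : (LP (LK LD1_c7 LD2_c1 LD3_c41)) = v7553 :=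
  Lefun (Lecon (Lfl_ff (f788687 IH)) (f813803 IH)) (f666711 IH)
theorem f813832 : v22792 = v6709 :=
  Lefun (Lecon (f810742 IH) (f813807 IH).symm) (f760281 IH)
def v22799 : LQ := Led Lsl_gf (LP (LK LD1_c7 LD2_c43 LD3_c8))
theorem f810768 : Led Lsl_gf (LP (LK LD1_c7 LD2_c43 LD3_c8)) = v22799 :=
  Lrfl
theorem f810770 : Led Lsl_ct v7556 = v22799 :=
  Lgr Lrot64 (Lpe (f666720 IH) (Lpr_gf (K52.f115661 IH) (Lpe (K52.f711649 IH) (Lpr_ct (K52.f415578 IH) (Lpe (K52.f79907 IH) (Lpe (K52.f77393 IH) (Lpr_gf (K53.f720671 IH) (Lpr_bf (K53.f130515 IH) (Lpr_ct (K4.f91857 IH) (Lpr_gf (f810768 IH) (Lpn v22799)))))))))))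
theorem f810771 : Led Lsl_cf v7556 = v22799 :=
  Lgr Lrot11 (Lpr_ct (f810770 IH) (Lpn v22799))
def v20089 : LQ := Led Lsl_gt (LP (LK LD1_c6 LD2_c50 LD3_c35))
theorem f784753 : Led Lsl_gt (LP (LK LD1_c6 LD2_c50 LD3_c35)) = v20089 :=
  Lrfl
theorem f720726 : Led Lsl_gf (LP (LK LD1_c6 LD2_c54 LD3_c1)) = (LP (LK LD1_c7 LD2_c32 LD3_c61)) :=
  Lgr Lrot76 (Lpe (f102408 IH) (Lpr_ff (f720717 IH) (Lpr_gt (f712985 IH) (Lpn (LP (LK LD1_c7 LD2_c32 LD3_c61))))))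
theorem f760282 : Led Lsl_bf (LP (LK LD1_c7 LD2_c1 LD3_c41)) = v6709 :=
  Lgr Lrot24 (Lpr_bt (f760281 IH) (Lpn v6709))
theorem f784754 : Led Lsl_ct v6709 = v20089 :=
  Lgr Lrot10 (Lpe (f760282 IH) (Lpe (K52.f115745 IH) (Lpr_ct (K4.f65293 IH) (Lpr_gt (f712976 IH) (Lpe (f109748 IH) (Lpr_bt (f664823 IH) (Lpe (f720726 IH) (Lpe (K53.f94759 IH) (Lpe (K4.f94745 IH) (Lpr_gt (f784753 IH) (Lpn v20089)))))))))))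
theorem f813903 : Led Lsl_ff v22799 = v20089 :=
  Lgr Lrot23 (Lpe (f810771 IH) (Lpq (f760180 IH) (Lpr_ft (f810739 IH) (Lpqs (f813832 IH) (Lpr_ct (f784754 IH) (Lpn v20089))))))
def v20092 : LQ := Led Lsl_ft (LP (LK LD1_c6 LD2_c50 LD3_c35))
theorem f784776 : Led Lsl_ft (LP (LK LD1_c6 LD2_c50 LD3_c35)) = v20092 :=
  Lrfl
theorem f784777 : Led Lsl_af K60.v16555 = v20092 :=
  Lgr Lrot45 (Lpe (K60.f750398 IH) (Lpe (K4.f102400 IH) (Lpr_ft (f784776 IH) (Lpn v20092))))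
theorem f784780 : Led Lsl_gt v20089 = K60.v16555 :=
  Lgr Lrot46 (Lpe (f784753 IH) (Lpr_ft (f784776 IH) (Lpe (f784777 IH) (Lpn K60.v16555))))
theorem f813905 : Led Lsl_at v22799 = K60.v20090 :=
  Lgr Lrot26 (Lpr_ff (f813903 IH) (Lpr_gt (f784780 IH) (Lpr_gt (K60.f784757 IH) (Lpn K60.v20090))))
def v22796 : LQ := Led Lsl_ft (LP (LK LD1_c7 LD2_c43 LD3_c5))
theorem f810756 : Led Lsl_ft (LP (LK LD1_c7 LD2_c43 LD3_c5)) = v22796 :=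
  Lrfl
theorem f810757 : Led Lsl_af v7547 = v22796 :=
  Lgr Lrot45 (Lpr_ft (f810739 IH) (Lpe (f810738 IH) (Lpr_ft (f810756 IH) (Lpn v22796))))
theorem f813907 : v22796 = K60.v6710 :=
  (Llr Lrot68 (Lpe (f810757 IH) (Lpqs (f760180 IH) (Lpr_ct (f810770 IH) (Lpr_at (f813905 IH) (Lpe (K60.f784758 IH) (Lpn K60.v6710))))))).symm
theorem f810748 : Led Lsl_cf (LP (LK LD1_c7 LD2_c43 LD3_c5)) = v22794 :=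
  Lgr Lrot11 (Lpr_ct (f810747 IH) (Lpn v22794))
theorem f813908 : Led Lsl_ff v22794 = K60.v20090 :=
  Lgr Lrot23 (Lpe (f810748 IH) (Lpr_ft (f810756 IH) (Lpqs (f813907 IH) (Lpr_ct (K60.f784759 IH) (Lpn K60.v20090)))))
theorem f813910 : Led Lsl_ft v22794 = K60.v20090 :=
  Lgr Lrot48 (Lpr_ff (f813908 IH) (Lpn K60.v20090))
theorem f813906 : Led Lsl_af v22799 = K60.v20090 :=
  Lgr Lrot0 (Lpr_at (f813905 IH) (Lpn K60.v20090))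
theorem f102402 : Led Lsl_at (LP (LK LD1_c6 LD2_c50 LD3_c35)) = (LP (LK LD1_c7 LD2_c43 LD3_c8)) :=
  Lgr Lrot100 (Lpr_af (K4.f102400 IH) (Lpn (LP (LK LD1_c7 LD2_c43 LD3_c8))))
theorem f784779 : Led Lsl_ff (LP (LK LD1_c6 LD2_c50 LD3_c35)) = v20092 :=
  Lgr Lrot3 (Lpr_ft (f784776 IH) (Lpn v20092))
theorem f810769 : Led Lsl_gt v20092 = v22799 :=
  Lgr Lrot5 (Lpe (f784779 IH) (Lpr_at (f102402 IH) (Lpr_gf (f810768 IH) (Lpn v22799))))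
def v22798 : LQ := Led Lsl_gt (LP (LK LD1_c7 LD2_c43 LD3_c8))
theorem f810766 : Led Lsl_gt (LP (LK LD1_c7 LD2_c43 LD3_c8)) = v22798 :=
  Lrfl
theorem f750400 : Led Lsl_ft (LP (LK LD1_c7 LD2_c43 LD3_c8)) = K60.v16555 :=
  Lgr Lrot48 (Lpr_ff (K60.f750398 IH) (Lpn K60.v16555))
theorem f784781 : Led Lsl_at K60.v16555 = v20092 :=
  Lgr Lrot66 (Lpe (f750400 IH) (Lpe (f102402 IH) (Lpr_ff (f784779 IH) (Lpn v20092))))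
theorem f810767 : Led Lsl_gf v20092 = v22798 :=
  Lgr Lrot76 (Lpe (f784781 IH) (Lpe (f750400 IH) (Lpr_gt (f810766 IH) (Lpn v22798))))
theorem f813912 : v22794 = v22798 :=
  (Llr Lrot52 (Lpr_ft (f813910 IH) (Lpe (f813906 IH) (Lpe (f810769 IH) (Lpr_gf (f810767 IH) (Lpn v22798)))))).symm
theorem f94753 : Led Lsl_ft (LP (LK LD1_c6 LD2_c54 LD3_c6)) = (LP (LK LD1_c3 LD2_c26 LD3_c6)) :=
  Lre_f IH (LK LD1_c6 LD2_c54 LD3_c6) (LK LD1_c3 LD2_c26 LD3_c6) Lrfl Lrfl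
theorem f784778 : Led Lsl_cf (LP (LK LD1_c6 LD2_c54 LD3_c6)) = v20092 :=
  Lgr Lrot108 (Lpr_ft (f94753 IH) (Lpe (K4.f94745 IH) (Lpr_ft (f784776 IH) (Lpn v20092))))
theorem f102479 : Led Lsl_dt (LP (LK LD1_c13 LD2_c6 LD3_c56)) = (LP (LK LD1_c6 LD2_c54 LD3_c6)) :=
  Lre_d IH (LK LD1_c13 LD2_c6 LD3_c56) (LK LD1_c6 LD2_c54 LD3_c6) Lrfl Lrfl
theorem f102480 : Led Lsl_ct (LP (LK LD1_c22 LD2_c18 LD3_c24)) = (LP (LK LD1_c13 LD2_c6 LD3_c56)) :=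
  Lre_c IH (LK LD1_c22 LD2_c18 LD3_c24) (LK LD1_c13 LD2_c6 LD3_c56) Lrfl Lrfl
theorem f813913 : Led Lsl_gt (LP (LK LD1_c24 LD2_c15 LD3_c29)) = (LP (LK LD1_c22 LD2_c18 LD3_c24)) :=
  Lgr Lrot150 (Lpe (f786932 IH) (Lpe (f95384 IH) (Lpe (K47.f17145 IH) (Lpr_gt (K62.f95376 IH) (Lpr_ct (f810747 IH) (Lpqs (f813912 IH) (Lpe (f810767 IH) (Lpe (f784778 IH) (Lpe (f102479 IH) (Lpe (f102480 IH) (Lpn (LP (LK LD1_c22 LD2_c18 LD3_c24)))))))))))))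
theorem f813914 : Led Lsl_gt (LP (LK LD1_c24 LD2_c15 LD3_c29)) = (LP (LK LD1_c22 LD2_c18 LD3_c24)) :=
  Leop (Lpe (f813913 IH) (Lpn (LP (LK LD1_c24 LD2_c15 LD3_c29))))
theorem seed_1788 : LEOK LG_g (LK LD1_c24 LD2_c15 LD3_c29) :=
  Leoe_g (LK LD1_c24 LD2_c15 LD3_c29) (f813914 IH)
def v22951 : LQ := Led Lsl_dt (LP (LK LD1_c7 LD2_c45 LD3_c7))
theorem f813984 : Led Lsl_dt (LP (LK LD1_c7 LD2_c45 LD3_c7)) = v22951 :=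
  Lrfl
theorem f461296 : Led Lsl_et (LP (LK LD1_c7 LD2_c45 LD3_c7)) = (LP (LK LD1_c3 LD2_c51 LD3_c43)) :=
  Lre_e IH (LK LD1_c7 LD2_c45 LD3_c7) (LK LD1_c3 LD2_c51 LD3_c43) Lrfl Lrfl
theorem f459880 : Led Lsl_et (LP (LK LD1_c0 LD2_c53 LD3_c2)) = (LP (LK LD1_c1 LD2_c52 LD3_c36)) :=
  Lre_e IH (LK LD1_c0 LD2_c53 LD3_c2) (LK LD1_c1 LD2_c52 LD3_c36) Lrfl Lrfl
theorem f461295 : Led Lsl_et (LP (LK LD1_c7 LD2_c45 LD3_c48)) = (LP (LK LD1_c3 LD2_c51 LD3_c60)) :=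
  Lre_e IH (LK LD1_c7 LD2_c45 LD3_c48) (LK LD1_c3 LD2_c51 LD3_c60) Lrfl Lrfl
def v2643 : LQ := Led Lsl_dt (LP (LK LD1_c1 LD2_c50 LD3_c33))
def v9406 : LQ := Led Lsl_et v2643
theorem f675723 : Led Lsl_et v2643 = v9406 :=
  Lrfl
theorem f675725 : Led Lsl_ef v2643 = v9406 :=
  Lgr Lrot88 (Lpr_et (f675723 IH) (Lpn v9406))
theorem f530012 : Led Lsl_dt (LP (LK LD1_c1 LD2_c50 LD3_c33)) = v2643 :=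
  Lrfl
theorem f530013 : Led Lsl_df (LP (LK LD1_c1 LD2_c50 LD3_c33)) = v2643 :=
  Lgr Lrot38 (Lpr_dt (f530012 IH) (Lpn v2643))
theorem f477432 : Led Lsl_et (LP (LK LD1_c1 LD2_c50 LD3_c33)) = (LP (LK LD1_c3 LD2_c46 LD3_c58)) :=
  Lre_e IH (LK LD1_c1 LD2_c50 LD3_c33) (LK LD1_c3 LD2_c46 LD3_c58) Lrfl Lrfl
theorem f477845 : Led Lsl_et (LP (LK LD1_c3 LD2_c51 LD3_c60)) = (LP (LK LD1_c7 LD2_c45 LD3_c48)) :=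
  Lre_e IH (LK LD1_c3 LD2_c51 LD3_c60) (LK LD1_c7 LD2_c45 LD3_c48) Lrfl Lrfl
theorem f675726 : Led Lsl_dt (LP (LK LD1_c7 LD2_c45 LD3_c48)) = v9406 :=
  Lgr Lrot77 (Lpe (f477845 IH) (Lpe (K29.f65783 IH) (Lpe (f477432 IH) (Lpr_df (f530013 IH) (Lpr_ef (f675725 IH) (Lpn v9406))))))
theorem f813990 : Led Lsl_gf v9406 = v22951 :=
  Lgr Lrot145 (Lpe (f675726 IH) (Lpr_et (f461295 IH) (Lpr_gt (K29.f461257 IH) (Lpr_dt (K29.f457979 IH) (Lpr_gt (K24.f443237 IH) (Lpe (K29.f451323 IH) (Lpr_et (f459880 IH) (Lpr_gt (K61.f103878 IH) (Lpe (f461296 IH) (Lpr_dt (f813984 IH) (Lpn v22951)))))))))))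
theorem f675724 : Led Lsl_df (LP (LK LD1_c7 LD2_c45 LD3_c48)) = v9406 :=
  Lgr Lrot70 (Lpr_et (f461295 IH) (Lpr_dt (K29.f461289 IH) (Lpr_et (K46.f65784 IH) (Lpr_dt (f530012 IH) (Lpr_et (f675723 IH) (Lpn v9406))))))
theorem f461281 : Led Lsl_ct (LP (LK LD1_c7 LD2_c45 LD3_c48)) = (LP (LK LD1_c14 LD2_c38 LD3_c31)) :=
  Lre_c IH (LK LD1_c7 LD2_c45 LD3_c48) (LK LD1_c14 LD2_c38 LD3_c31) Lrfl Lrfl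
theorem f461278 : Led Lsl_dt (LP (LK LD1_c24 LD2_c22 LD3_c9)) = (LP (LK LD1_c14 LD2_c38 LD3_c31)) :=
  Lre_d IH (LK LD1_c24 LD2_c22 LD3_c9) (LK LD1_c14 LD2_c38 LD3_c31) Lrfl Lrfl
theorem f461268 : Led Lsl_et (LP (LK LD1_c14 LD2_c38 LD3_c31)) = (LP (LK LD1_c7 LD2_c45 LD3_c47)) :=
  Lre_e IH (LK LD1_c14 LD2_c38 LD3_c31) (LK LD1_c7 LD2_c45 LD3_c47) Lrfl Lrfl
theorem f461269 : Led Lsl_dt (LP (LK LD1_c14 LD2_c38 LD3_c31)) = (LP (LK LD1_c24 LD2_c22 LD3_c9)) :=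
  Lre_d IH (LK LD1_c14 LD2_c38 LD3_c31) (LK LD1_c24 LD2_c22 LD3_c9) Lrfl Lrfl
theorem f461270 : Led Lsl_et (LP (LK LD1_c1 LD2_c52 LD3_c49)) = (LP (LK LD1_c3 LD2_c51 LD3_c45)) :=
  Lre_e IH (LK LD1_c1 LD2_c52 LD3_c49) (LK LD1_c3 LD2_c51 LD3_c45) Lrfl Lrfl
theorem f461271 : Led Lsl_gt (LP (LK LD1_c3 LD2_c51 LD3_c45)) = (LP (LK LD1_c7 LD2_c45 LD3_c12)) :=
  Lre_g IH (LK LD1_c3 LD2_c51 LD3_c45) (LK LD1_c7 LD2_c45 LD3_c12) Lrfl Lrfl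
theorem f461272 : Led Lsl_et (LP (LK LD1_c14 LD2_c37 LD3_c35)) = (LP (LK LD1_c7 LD2_c45 LD3_c12)) :=
  Lre_e IH (LK LD1_c14 LD2_c37 LD3_c35) (LK LD1_c7 LD2_c45 LD3_c12) Lrfl Lrfl
theorem f461273 : Led Lsl_dt (LP (LK LD1_c14 LD2_c37 LD3_c35)) = (LP (LK LD1_c24 LD2_c21 LD3_c7)) :=
  Lre_d IH (LK LD1_c14 LD2_c37 LD3_c35) (LK LD1_c24 LD2_c21 LD3_c7) Lrfl Lrfl
theorem f461274 : Led Lsl_gf (LP (LK LD1_c24 LD2_c22 LD3_c9)) = (LP (LK LD1_c24 LD2_c21 LD3_c7)) :=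
  Lgr Lrot145 (Lpe (f461269 IH) (Lpr_et (f461268 IH) (Lpr_gt (K29.f461177 IH) (Lpr_dt (K29.f461157 IH) (Lpr_gt (K29.f156652 IH) (Lpe (K24.f156645 IH) (Lpr_et (f461270 IH) (Lpr_gt (f461271 IH) (Lpe (f461272 IH) (Lpr_dt (f461273 IH) (Lpn (LP (LK LD1_c24 LD2_c21 LD3_c7)))))))))))))
theorem f810413 : Led Lsl_gt (LP (LK LD1_c14 LD2_c37 LD3_c24)) = (LP (LK LD1_c7 LD2_c45 LD3_c7)) :=
  Lre_g IH (LK LD1_c14 LD2_c37 LD3_c24) (LK LD1_c7 LD2_c45 LD3_c7) Lrfl Lrfl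
theorem f813988 : Led Lsl_ct (LP (LK LD1_c24 LD2_c20 LD3_c60)) = (LP (LK LD1_c14 LD2_c37 LD3_c24)) :=
  Lre_c IH (LK LD1_c24 LD2_c20 LD3_c60) (LK LD1_c14 LD2_c37 LD3_c24) Lrfl Lrfl
theorem f813991 : Led Lsl_gf (LP (LK LD1_c14 LD2_c37 LD3_c35)) = (LP (LK LD1_c24 LD2_c20 LD3_c60)) :=
  Lgr Lrot144 (Lpr_dt (f461273 IH) (Lpe (f461274 IH) (Lpr_dt (f461278 IH) (Lpe (f461281 IH) (Lpr_df (f675724 IH) (Lpr_gf (f813990 IH) (Lpe (f813984 IH) (Lpe (f810413 IH) (Lpe (f813988 IH) (Lpn (LP (LK LD1_c24 LD2_c20 LD3_c60))))))))))))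
theorem f813992 : Led Lsl_gt (LP (LK LD1_c24 LD2_c20 LD3_c60)) = (LP (LK LD1_c14 LD2_c37 LD3_c35)) :=
  Leop (Lpr_gf (f813991 IH) (Lpn (LP (LK LD1_c24 LD2_c20 LD3_c60))))
theorem seed_1789 : LEOK LG_g (LK LD1_c24 LD2_c20 LD3_c60) :=
  Leoe_g (LK LD1_c24 LD2_c20 LD3_c60) (f813992 IH)
def v22958 : LQ := Led Lsl_dt (LP (LK LD1_c7 LD2_c45 LD3_c11))
theorem f814018 : Led Lsl_dt (LP (LK LD1_c7 LD2_c45 LD3_c11)) = v22958 :=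
  Lrfl
theorem f443241 : Led Lsl_et (LP (LK LD1_c3 LD2_c51 LD3_c44)) = (LP (LK LD1_c7 LD2_c45 LD3_c11)) :=
  Lre_e IH (LK LD1_c3 LD2_c51 LD3_c44) (LK LD1_c7 LD2_c45 LD3_c11) Lrfl Lrfl
def v20579 : LQ := Led Lsl_dt (LP (LK LD1_c6 LD2_c59 LD3_c55))
theorem f788012 : Led Lsl_dt (LP (LK LD1_c6 LD2_c59 LD3_c55)) = v20579 :=
  Lrfl
theorem f788013 : Led Lsl_df (LP (LK LD1_c6 LD2_c59 LD3_c55)) = v20579 :=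
  Lgr Lrot38 (Lpr_dt (f788012 IH) (Lpn v20579))
theorem f814021 : Led Lsl_ef v20579 = v22958 :=
  Lgr Lrot73 (Lpe (f788013 IH) (Lpe (f65170 IH) (Lpr_dt (K1.f65150 IH) (Lpr_et (f443241 IH) (Lpr_dt (f814018 IH) (Lpn v22958))))))
theorem f814024 : Led Lsl_et v20579 = v22958 :=
  Lgr Lrot87 (Lpr_ef (f814021 IH) (Lpn v22958))
theorem f65829 : Led Lsl_dt (LP (LK LD1_c7 LD2_c2 LD3_c20)) = (LP (LK LD1_c3 LD2_c30 LD3_c17)) :=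
  Lre_d IH (LK LD1_c7 LD2_c2 LD3_c20) (LK LD1_c3 LD2_c30 LD3_c17) Lrfl Lrfl
theorem f788014 : Led Lsl_et (LP (LK LD1_c7 LD2_c2 LD3_c20)) = (LP (LK LD1_c13 LD2_c20 LD3_c57)) :=
  Lre_e IH (LK LD1_c7 LD2_c2 LD3_c20) (LK LD1_c13 LD2_c20 LD3_c57) Lrfl Lrfl
theorem f63296 : Led Lsl_gt (LP (LK LD1_c13 LD2_c20 LD3_c57)) = (LP (LK LD1_c22 LD2_c32 LD3_c49)) :=
  Lre_g IH (LK LD1_c13 LD2_c20 LD3_c57) (LK LD1_c22 LD2_c32 LD3_c49) Lrfl Lrfl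
theorem f63297 : Led Lsl_dt (LP (LK LD1_c22 LD2_c32 LD3_c49)) = (LP (LK LD1_c30 LD2_c34 LD3_c7)) :=
  Lre_d IH (LK LD1_c22 LD2_c32 LD3_c49) (LK LD1_c30 LD2_c34 LD3_c7) Lrfl Lrfl
theorem f65169 : Led Lsl_et (LP (LK LD1_c7 LD2_c45 LD3_c11)) = (LP (LK LD1_c3 LD2_c51 LD3_c44)) :=
  Lre_e IH (LK LD1_c7 LD2_c45 LD3_c11) (LK LD1_c3 LD2_c51 LD3_c44) Lrfl Lrfl
theorem f667016 : Led Lsl_et (LP (LK LD1_c3 LD2_c51 LD3_c37)) = (LP (LK LD1_c7 LD2_c44 LD3_c51)) :=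
  Lre_e IH (LK LD1_c3 LD2_c51 LD3_c37) (LK LD1_c7 LD2_c44 LD3_c51) Lrfl Lrfl
theorem f65156 : Led Lsl_gt (LP (LK LD1_c7 LD2_c44 LD3_c51)) = (LP (LK LD1_c14 LD2_c36 LD3_c51)) :=
  Lre_g IH (LK LD1_c7 LD2_c44 LD3_c51) (LK LD1_c14 LD2_c36 LD3_c51) Lrfl Lrfl
theorem f811679 : Led Lsl_et (LP (LK LD1_c7 LD2_c45 LD3_c55)) = (LP (LK LD1_c14 LD2_c36 LD3_c51)) :=
  Lre_e IH (LK LD1_c7 LD2_c45 LD3_c55) (LK LD1_c14 LD2_c36 LD3_c51) Lrfl Lrfl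
theorem f807137 : Led Lsl_dt (LP (LK LD1_c7 LD2_c45 LD3_c55)) = (LP (LK LD1_c14 LD2_c38 LD3_c49)) :=
  Lre_d IH (LK LD1_c7 LD2_c45 LD3_c55) (LK LD1_c14 LD2_c38 LD3_c49) Lrfl Lrfl
theorem f814022 : Led Lsl_gt (LP (LK LD1_c14 LD2_c38 LD3_c49)) = v22958 :=
  Lgr Lrot112 (Lpe (f807137 IH) (Lpr_et (f811679 IH) (Lpe (f65156 IH) (Lpe (f667016 IH) (Lpr_dt (f530320 IH) (Lpe (K48.f443247 IH) (Lpe (K61.f477869 IH) (Lpe (K1.f65172 IH) (Lpe (f65169 IH) (Lpr_dt (f814018 IH) (Lpn v22958)))))))))))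
theorem f65166 : Led Lsl_et (LP (LK LD1_c24 LD2_c22 LD3_c38)) = (LP (LK LD1_c14 LD2_c38 LD3_c49)) :=
  Lre_e IH (LK LD1_c24 LD2_c22 LD3_c38) (LK LD1_c14 LD2_c38 LD3_c49) Lrfl Lrfl
theorem f65163 : Led Lsl_dt (LP (LK LD1_c24 LD2_c22 LD3_c38)) = (LP (LK LD1_c24 LD2_c23 LD3_c29)) :=
  Lre_d IH (LK LD1_c24 LD2_c22 LD3_c38) (LK LD1_c24 LD2_c23 LD3_c29) Lrfl Lrfl
theorem f814025 : Led Lsl_gt (LP (LK LD1_c30 LD2_c34 LD3_c7)) = (LP (LK LD1_c24 LD2_c23 LD3_c29)) :=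
  Lgr Lrot139 (Lpe (f63297 IH) (Lpe (f63296 IH) (Lpe (f788014 IH) (Lpr_dt (f65829 IH) (Lpe (K1.f65151 IH) (Lpr_df (f788013 IH) (Lpr_et (f814024 IH) (Lpe (f814022 IH) (Lpe (f65166 IH) (Lpr_dt (f65163 IH) (Lpn (LP (LK LD1_c24 LD2_c23 LD3_c29)))))))))))))
theorem f814026 : Led Lsl_gt (LP (LK LD1_c30 LD2_c34 LD3_c7)) = (LP (LK LD1_c24 LD2_c23 LD3_c29)) :=
  Leop (Lpe (f814025 IH) (Lpn (LP (LK LD1_c30 LD2_c34 LD3_c7))))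
theorem seed_1790 : LEOK LG_g (LK LD1_c30 LD2_c34 LD3_c7) :=
  Leoe_g (LK LD1_c30 LD2_c34 LD3_c7) (f814026 IH)
theorem f789061 : Led Lsl_dt K61.v6800 = K61.v20668 :=
  Lgr Lrot42 (Lpr_df (K61.f789060 IH) (Lpn K61.v20668))
theorem f812505 : K61.v20668 = v20579 :=
  Lefun (Lecon (f789061 IH) (f812498 IH).symm) (f788012 IH)
theorem f63960 : Led Lsl_et (LP (LK LD1_c7 LD2_c2 LD3_c11)) = (LP (LK LD1_c13 LD2_c20 LD3_c43)) :=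
  Lre_e IH (LK LD1_c7 LD2_c2 LD3_c11) (LK LD1_c13 LD2_c20 LD3_c43) Lrfl Lrfl
theorem f814023 : Led Lsl_at (LP (LK LD1_c13 LD2_c20 LD3_c43)) = v22958 :=
  Lgr Lrot80 (Lpe (f63960 IH) (Lpr_af (K61.f789059 IH) (Lpqs (f812505 IH) (Lpr_ef (f814021 IH) (Lpn v22958)))))
theorem f63958 : Led Lsl_ft (LP (LK LD1_c22 LD2_c37 LD3_c9)) = (LP (LK LD1_c13 LD2_c20 LD3_c43)) :=
  Lre_f IH (LK LD1_c22 LD2_c37 LD3_c9) (LK LD1_c13 LD2_c20 LD3_c43) Lrfl Lrfl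
theorem f814028 : Led Lsl_gt (LP (LK LD1_c22 LD2_c37 LD3_c9)) = (LP (LK LD1_c14 LD2_c38 LD3_c49)) :=
  Lgr Lrot5 (Lpr_ft (f63958 IH) (Lpr_at (f814023 IH) (Lpe (f814022 IH) (Lpn (LP (LK LD1_c14 LD2_c38 LD3_c49))))))
theorem f814029 : Led Lsl_gt (LP (LK LD1_c22 LD2_c37 LD3_c9)) = (LP (LK LD1_c14 LD2_c38 LD3_c49)) :=
  Leop (Lpe (f814028 IH) (Lpn (LP (LK LD1_c22 LD2_c37 LD3_c9))))
theorem seed_1791 : LEOK LG_g (LK LD1_c22 LD2_c37 LD3_c9) :=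
  Leoe_g (LK LD1_c22 LD2_c37 LD3_c9) (f814029 IH)
def v22972 : LQ := Led Lsl_at (LP (LK LD1_c7 LD2_c45 LD3_c20))
theorem f814101 : Led Lsl_at (LP (LK LD1_c7 LD2_c45 LD3_c20)) = v22972 :=
  Lrfl
theorem f16826 : Led Lsl_ct (LP (LK LD1_c3 LD2_c51 LD3_c48)) = (LP (LK LD1_c7 LD2_c45 LD3_c20)) :=
  Lre_c IH (LK LD1_c3 LD2_c51 LD3_c48) (LK LD1_c7 LD2_c45 LD3_c20) Lrfl Lrfl
def v7589 : LQ := Led Lsl_at (LP (LK LD1_c3 LD2_c51 LD3_c48))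
theorem f667113 : Led Lsl_at (LP (LK LD1_c3 LD2_c51 LD3_c48)) = v7589 :=
  Lrfl
theorem f667114 : Led Lsl_af (LP (LK LD1_c3 LD2_c51 LD3_c48)) = v7589 :=
  Lgr Lrot0 (Lpr_at (f667113 IH) (Lpn v7589))
theorem f814103 : Led Lsl_cf v7589 = v22972 :=
  Lgr Lrot1 (Lpe (f667114 IH) (Lpr_ct (f16826 IH) (Lpr_at (f814101 IH) (Lpn v22972))))
theorem f16821 : Led Lsl_gt (LP (LK LD1_c1 LD2_c52 LD3_c38)) = (LP (LK LD1_c3 LD2_c51 LD3_c48)) :=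
  Lre_g IH (LK LD1_c1 LD2_c52 LD3_c38) (LK LD1_c3 LD2_c51 LD3_c48) Lrfl Lrfl
theorem f16828 : Led Lsl_gt (LP (LK LD1_c3 LD2_c51 LD3_c49)) = (LP (LK LD1_c1 LD2_c52 LD3_c38)) :=
  Lre_g IH (LK LD1_c3 LD2_c51 LD3_c49) (LK LD1_c1 LD2_c52 LD3_c38) Lrfl Lrfl
theorem f667116 : Led Lsl_ft (LP (LK LD1_c3 LD2_c51 LD3_c49)) = v7589 :=
  Lgr Lrot2 (Lpr_gt (f16828 IH) (Lpr_gt (f16821 IH) (Lpr_af (f667114 IH) (Lpn v7589))))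
theorem f667120 : Led Lsl_ff (LP (LK LD1_c3 LD2_c51 LD3_c49)) = v7589 :=
  Lgr Lrot3 (Lpr_ft (f667116 IH) (Lpn v7589))
theorem f666424 : Led Lsl_ct (LP (LK LD1_c3 LD2_c51 LD3_c49)) = (LP (LK LD1_c7 LD2_c45 LD3_c24)) :=
  Lre_c IH (LK LD1_c3 LD2_c51 LD3_c49) (LK LD1_c7 LD2_c45 LD3_c24) Lrfl Lrfl
theorem f814105 : Led Lsl_ft (LP (LK LD1_c7 LD2_c45 LD3_c24)) = v22972 :=
  Lgr Lrot4 (Lpe (f666424 IH) (Lpr_ff (f667120 IH) (Lpr_cf (f814103 IH) (Lpn v22972))))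
def v22086 : LQ := Led Lsl_gt (LP (LK LD1_c7 LD2_c31 LD3_c8))
theorem f801194 : Led Lsl_gt (LP (LK LD1_c7 LD2_c31 LD3_c8)) = v22086 :=
  Lrfl
theorem f814102 : Led Lsl_af (LP (LK LD1_c7 LD2_c45 LD3_c20)) = v22972 :=
  Lgr Lrot0 (Lpr_at (f814101 IH) (Lpn v22972))
theorem f814107 : v22086 = (LP (LK LD1_c7 LD2_c45 LD3_c20)) :=
  (Llr Lrot46 (Lpe (f801194 IH) (Lpe (K62.f740784 IH) (Lpr_ft (f814105 IH) (Lpe (f814102 IH) (Lpn (LP (LK LD1_c7 LD2_c45 LD3_c20)))))))).symm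
theorem f93418 : Led Lsl_ft (LP (LK LD1_c7 LD2_c31 LD3_c8)) = (LP (LK LD1_c14 LD2_c11 LD3_c37)) :=
  Lre_f IH (LK LD1_c7 LD2_c31 LD3_c8) (LK LD1_c14 LD2_c11 LD3_c37) Lrfl Lrfl
theorem f66000 : Led Lsl_et (LP (LK LD1_c3 LD2_c15 LD3_c37)) = (LP (LK LD1_c6 LD2_c34 LD3_c31)) :=
  Lre_e IH (LK LD1_c3 LD2_c15 LD3_c37) (LK LD1_c6 LD2_c34 LD3_c31) Lrfl Lrfl
theorem f66001 : Led Lsl_dt (LP (LK LD1_c6 LD2_c34 LD3_c31)) = (LP (LK LD1_c12 LD2_c35 LD3_c26)) :=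
  Lre_d IH (LK LD1_c6 LD2_c34 LD3_c31) (LK LD1_c12 LD2_c35 LD3_c26) Lrfl Lrfl
theorem f66004 : Led Lsl_et (LP (LK LD1_c12 LD2_c35 LD3_c26)) = (LP (LK LD1_c6 LD2_c36 LD3_c43)) :=
  Lgr Lrot71 (Lpe (f66001 IH) (Lpe (f66000 IH) (Lpr_df (K3.f65992 IH) (Lpe (K5.f66002 IH) (Lpe (K48.f66003 IH) (Lpn (LP (LK LD1_c6 LD2_c36 LD3_c43))))))))
theorem f66105 : Led Lsl_ef (LP (LK LD1_c12 LD2_c35 LD3_c26)) = (LP (LK LD1_c6 LD2_c36 LD3_c43)) :=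
  Lgr Lrot88 (Lpr_et (f66004 IH) (Lpn (LP (LK LD1_c6 LD2_c36 LD3_c43))))
theorem f436575 : Led Lsl_af (LP (LK LD1_c14 LD2_c11 LD3_c36)) = (LP (LK LD1_c12 LD2_c35 LD3_c26)) :=
  Lgr Lrot50 (Lpr_et (K62.f436574 IH) (Lpr_at (K48.f436569 IH) (Lpe (f66105 IH) (Lpn (LP (LK LD1_c12 LD2_c35 LD3_c26))))))
theorem f436579 : Led Lsl_at (LP (LK LD1_c7 LD2_c31 LD3_c8)) = (LP (LK LD1_c6 LD2_c34 LD3_c31)) :=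
  Lgr Lrot51 (Lpe (K62.f93403 IH) (Lpr_af (f436575 IH) (Lpe (f66001 IH) (Lpn (LP (LK LD1_c6 LD2_c34 LD3_c31))))))
theorem f436586 : Led Lsl_ft (LP (LK LD1_c6 LD2_c34 LD3_c31)) = (LP (LK LD1_c12 LD2_c35 LD3_c27)) :=
  Lre_f IH (LK LD1_c6 LD2_c34 LD3_c31) (LK LD1_c12 LD2_c35 LD3_c27) Lrfl Lrfl
theorem f436587 : Led Lsl_af (LP (LK LD1_c14 LD2_c11 LD3_c37)) = (LP (LK LD1_c12 LD2_c35 LD3_c27)) :=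
  Lgr Lrot45 (Lpr_ft (K24.f93404 IH) (Lpr_at (f436579 IH) (Lpr_ft (f436586 IH) (Lpn (LP (LK LD1_c12 LD2_c35 LD3_c27))))))
theorem f436591 : Led Lsl_at (LP (LK LD1_c14 LD2_c11 LD3_c37)) = (LP (LK LD1_c12 LD2_c35 LD3_c27)) :=
  Lgr Lrot100 (Lpr_af (f436587 IH) (Lpn (LP (LK LD1_c12 LD2_c35 LD3_c27))))
theorem f801195 : Led Lsl_gf (LP (LK LD1_c12 LD2_c35 LD3_c27)) = v22086 :=
  Lgr Lrot76 (Lpe (f436591 IH) (Lpe (f93418 IH) (Lpr_gt (f801194 IH) (Lpn v22086))))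
theorem f814109 : Led Lsl_gt (LP (LK LD1_c7 LD2_c45 LD3_c20)) = (LP (LK LD1_c12 LD2_c35 LD3_c27)) :=
  Leop (Lpr_gf (f801195 IH) (Lpqs (f814107 IH) (Lpn (LP (LK LD1_c7 LD2_c45 LD3_c20)))))
theorem seed_1792 : LEOK LG_g (LK LD1_c7 LD2_c45 LD3_c20) :=
  Leoe_g (LK LD1_c7 LD2_c45 LD3_c20) (f814109 IH)
theorem f66115 : Led Lsl_et (LP (LK LD1_c6 LD2_c34 LD3_c31)) = (LP (LK LD1_c3 LD2_c15 LD3_c37)) :=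
  Lre_e IH (LK LD1_c6 LD2_c34 LD3_c31) (LK LD1_c3 LD2_c15 LD3_c37) Lrfl Lrfl
theorem f96184 : Led Lsl_ct (LP (LK LD1_c7 LD2_c0 LD3_c30)) = (LP (LK LD1_c6 LD2_c34 LD3_c31)) :=
  Lgr Lrot15 (Lpe (K5.f96169 IH) (Lpr_cf (K3.f96178 IH) (Lpe (f66115 IH) (Lpn (LP (LK LD1_c6 LD2_c34 LD3_c31))))))
theorem f778495 : Led Lsl_ct (LP (LK LD1_c12 LD2_c35 LD3_c27)) = (LP (LK LD1_c12 LD2_c45 LD3_c32)) :=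
  Lgr Lrot40 (Lpe (f436586 IH) (Lpe (f96184 IH) (Lpr_ff (K61.f778493 IH) (Lpn (LP (LK LD1_c12 LD2_c45 LD3_c32))))))
theorem f15492 : Led Lsl_ct (LP (LK LD1_c7 LD2_c45 LD3_c27)) = (LP (LK LD1_c14 LD2_c38 LD3_c2)) :=
  Lre_c IH (LK LD1_c7 LD2_c45 LD3_c27) (LK LD1_c14 LD2_c38 LD3_c2) Lrfl Lrfl
theorem f15493 : Led Lsl_gt (LP (LK LD1_c14 LD2_c38 LD3_c2)) = (LP (LK LD1_c24 LD2_c21 LD3_c36)) :=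
  Lre_g IH (LK LD1_c14 LD2_c38 LD3_c2) (LK LD1_c24 LD2_c21 LD3_c36) Lrfl Lrfl
theorem f814120 : Led Lsl_cf (LP (LK LD1_c21 LD2_c52 LD3_c50)) = (LP (LK LD1_c24 LD2_c21 LD3_c36)) :=
  Lgr Lrot99 (Lpe (f778488 IH) (Lpe (f778495 IH) (Lpr_gf (f801195 IH) (Lpqs (f814107 IH) (Lpe (f16826 IH) (Lpe (f16821 IH) (Lpe (K0.f15483 IH) (Lpr_gt (K62.f15488 IH) (Lpr_ct (f15492 IH) (Lpr_gt (f15493 IH) (Lpn (LP (LK LD1_c24 LD2_c21 LD3_c36)))))))))))))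
theorem f93413 : Led Lsl_dt (LP (LK LD1_c14 LD2_c13 LD3_c46)) = (LP (LK LD1_c7 LD2_c32 LD3_c49)) :=
  Lre_d IH (LK LD1_c14 LD2_c13 LD3_c46) (LK LD1_c7 LD2_c32 LD3_c49) Lrfl Lrfl
theorem f778489 : Led Lsl_af (LP (LK LD1_c14 LD2_c13 LD3_c46)) = (LP (LK LD1_c21 LD2_c52 LD3_c50)) :=
  Lgr Lrot117 (Lpr_dt (f93413 IH) (Lpr_at (K61.f778482 IH) (Lpr_dt (f778488 IH) (Lpn (LP (LK LD1_c21 LD2_c52 LD3_c50))))))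
theorem f93417 : Led Lsl_ct (LP (LK LD1_c14 LD2_c13 LD3_c46)) = (LP (LK LD1_c23 LD2_c49 LD3_c17)) :=
  Lre_c IH (LK LD1_c14 LD2_c13 LD3_c46) (LK LD1_c23 LD2_c49 LD3_c17) Lrfl Lrfl
theorem f814122 : Led Lsl_at (LP (LK LD1_c23 LD2_c49 LD3_c17)) = (LP (LK LD1_c24 LD2_c21 LD3_c36)) :=
  Lgr Lrot107 (Lpe (f93417 IH) (Lpr_af (f778489 IH) (Lpr_cf (f814120 IH) (Lpn (LP (LK LD1_c24 LD2_c21 LD3_c36))))))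
theorem f93052 : Led Lsl_ft (LP (LK LD1_c14 LD2_c13 LD3_c45)) = (LP (LK LD1_c23 LD2_c49 LD3_c17)) :=
  Lre_f IH (LK LD1_c14 LD2_c13 LD3_c45) (LK LD1_c23 LD2_c49 LD3_c17) Lrfl Lrfl
theorem f814136 : Led Lsl_gt (LP (LK LD1_c14 LD2_c13 LD3_c45)) = (LP (LK LD1_c14 LD2_c38 LD3_c2)) :=
  Lgr Lrot5 (Lpr_ft (f93052 IH) (Lpr_at (f814122 IH) (Lpe (f15493 IH) (Lpn (LP (LK LD1_c14 LD2_c38 LD3_c2))))))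
theorem f92987 : Led Lsl_ct (LP (LK LD1_c7 LD2_c32 LD3_c48)) = (LP (LK LD1_c14 LD2_c13 LD3_c45)) :=
  Lre_c IH (LK LD1_c7 LD2_c32 LD3_c48) (LK LD1_c14 LD2_c13 LD3_c45) Lrfl Lrfl
theorem f778549 : Led Lsl_ct (LP (LK LD1_c14 LD2_c24 LD3_c7)) = (LP (LK LD1_c7 LD2_c38 LD3_c33)) :=
  Lre_c IH (LK LD1_c14 LD2_c24 LD3_c7) (LK LD1_c7 LD2_c38 LD3_c33) Lrfl Lrfl
theorem f711931 : Led Lsl_ct (LP (LK LD1_c14 LD2_c17 LD3_c54)) = (LP (LK LD1_c12 LD2_c41 LD3_c21)) :=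
  Lgr Lrot59 (Lpr_cf (f711887 IH) (Lpn (LP (LK LD1_c12 LD2_c41 LD3_c21))))
theorem f808158 : Led Lsl_at (LP (LK LD1_c7 LD2_c38 LD3_c33)) = (LP (LK LD1_c14 LD2_c17 LD3_c54)) :=
  Lgr Lrot107 (Lpe (f778549 IH) (Lpr_af (f808154 IH) (Lpe (f711931 IH) (Lpn (LP (LK LD1_c14 LD2_c17 LD3_c54))))))
theorem f92767 : Led Lsl_dt (LP (LK LD1_c14 LD2_c16 LD3_c61)) = (LP (LK LD1_c7 LD2_c34 LD3_c29)) :=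
  Lre_d IH (LK LD1_c14 LD2_c16 LD3_c61) (LK LD1_c7 LD2_c34 LD3_c29) Lrfl Lrfl
theorem f93656 : Led Lsl_et (LP (LK LD1_c7 LD2_c32 LD3_c19)) = (LP (LK LD1_c14 LD2_c13 LD3_c3)) :=
  Lre_e IH (LK LD1_c7 LD2_c32 LD3_c19) (LK LD1_c14 LD2_c13 LD3_c3) Lrfl Lrfl
theorem f807761 : Led Lsl_gf (LP (LK LD1_c14 LD2_c13 LD3_c3)) = (LP (LK LD1_c14 LD2_c24 LD3_c12)) :=
  Lgr Lrot141 (Lpe (f93656 IH) (Lpr_dt (K51.f93633 IH) (Lpr_gt (K51.f93637 IH) (Lpe (K51.f93636 IH) (Lpr_et (K51.f93635 IH) (Lpr_gt (K51.f93634 IH) (Lpr_dt (K54.f88297 IH) (Lpr_gt (f92766 IH) (Lpe (f92767 IH) (Lpr_et (f807754 IH) (Lpn (LP (LK LD1_c14 LD2_c24 LD3_c12)))))))))))))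
theorem f808223 : Led Lsl_gt (LP (LK LD1_c14 LD2_c13 LD3_c3)) = (LP (LK LD1_c14 LD2_c17 LD3_c54)) :=
  Lgr Lrot46 (Lpr_gf (f807761 IH) (Lpr_ft (f665737 IH) (Lpr_at (f808158 IH) (Lpn (LP (LK LD1_c14 LD2_c17 LD3_c54))))))
theorem f711938 : Led Lsl_gt (LP (LK LD1_c12 LD2_c41 LD3_c21)) = (LP (LK LD1_c21 LD2_c47 LD3_c53)) :=
  Lre_g IH (LK LD1_c12 LD2_c41 LD3_c21) (LK LD1_c21 LD2_c47 LD3_c53) Lrfl Lrfl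
theorem f666417 : Led Lsl_ct (LP (LK LD1_c14 LD2_c38 LD3_c2)) = (LP (LK LD1_c7 LD2_c45 LD3_c27)) :=
  Lre_c IH (LK LD1_c14 LD2_c38 LD3_c2) (LK LD1_c7 LD2_c45 LD3_c27) Lrfl Lrfl
theorem f666399 : Led Lsl_dt (LP (LK LD1_c3 LD2_c51 LD3_c42)) = (LP (LK LD1_c7 LD2_c45 LD3_c2)) :=
  Lre_d IH (LK LD1_c3 LD2_c51 LD3_c42) (LK LD1_c7 LD2_c45 LD3_c2) Lrfl Lrfl
theorem f530333 : Led Lsl_et (LP (LK LD1_c3 LD2_c51 LD3_c42)) = (LP (LK LD1_c1 LD2_c52 LD3_c35)) :=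
  Lre_e IH (LK LD1_c3 LD2_c51 LD3_c42) (LK LD1_c1 LD2_c52 LD3_c35) Lrfl Lrfl
theorem f666407 : Led Lsl_gt (LP (LK LD1_c7 LD2_c41 LD3_c39)) = (LP (LK LD1_c14 LD2_c30 LD3_c9)) :=
  Lre_g IH (LK LD1_c7 LD2_c41 LD3_c39) (LK LD1_c14 LD2_c30 LD3_c9) Lrfl Lrfl
theorem f666409 : Led Lsl_df (LP (LK LD1_c7 LD2_c45 LD3_c27)) = (LP (LK LD1_c14 LD2_c30 LD3_c9)) :=
  Lgr Lrot135 (Lpr_gt (K62.f493574 IH) (Lpe (K1.f65120 IH) (Lpr_et (K1.f65125 IH) (Lpr_gt (K61.f103884 IH) (Lpe (f530333 IH) (Lpr_dt (f666399 IH) (Lpr_gt (f666396 IH) (Lpe (f87420 IH) (Lpr_et (f666350 IH) (Lpr_gt (f666407 IH) (Lpn (LP (LK LD1_c14 LD2_c30 LD3_c9)))))))))))))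
theorem f814138 : Led Lsl_ct (LP (LK LD1_c21 LD2_c47 LD3_c53)) = (LP (LK LD1_c14 LD2_c30 LD3_c9)) :=
  Lgr Lrot110 (Lpe (f711938 IH) (Lpe (f711931 IH) (Lpe (f808223 IH) (Lpr_df (f804791 IH) (Lpe (f804788 IH) (Lpr_ct (f92987 IH) (Lpr_gt (f814136 IH) (Lpr_ct (f666417 IH) (Lpr_df (f666409 IH) (Lpn (LP (LK LD1_c14 LD2_c30 LD3_c9))))))))))))
theorem f814139 : Led Lsl_ct (LP (LK LD1_c21 LD2_c47 LD3_c53)) = (LP (LK LD1_c14 LD2_c30 LD3_c9)) :=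
  Leop (Lpe (f814138 IH) (Lpn (LP (LK LD1_c21 LD2_c47 LD3_c53))))
theorem seed_1793 : LEOK LG_c (LK LD1_c21 LD2_c47 LD3_c53) :=
  Leoe_c (LK LD1_c21 LD2_c47 LD3_c53) (f814139 IH)
theorem f666412 : Led Lsl_dt (LP (LK LD1_c7 LD2_c45 LD3_c27)) = (LP (LK LD1_c14 LD2_c30 LD3_c9)) :=
  Lgr Lrot42 (Lpr_df (f666409 IH) (Lpn (LP (LK LD1_c14 LD2_c30 LD3_c9))))
theorem f93421 : Led Lsl_dt (LP (LK LD1_c7 LD2_c31 LD3_c8)) = (LP (LK LD1_c14 LD2_c11 LD3_c36)) :=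
  Lre_d IH (LK LD1_c7 LD2_c31 LD3_c8) (LK LD1_c14 LD2_c11 LD3_c36) Lrfl Lrfl
theorem f96070 : Led Lsl_gt (LP (LK LD1_c14 LD2_c11 LD3_c36)) = (LP (LK LD1_c23 LD2_c47 LD3_c2)) :=
  Lre_g IH (LK LD1_c14 LD2_c11 LD3_c36) (LK LD1_c23 LD2_c47 LD3_c2) Lrfl Lrfl
theorem f814145 : Led Lsl_df (LP (LK LD1_c21 LD2_c47 LD3_c53)) = (LP (LK LD1_c23 LD2_c47 LD3_c2)) :=
  Lgr Lrot174 (Lpr_ct (f814138 IH) (Lpe (f666412 IH) (Lpe (K62.f15488 IH) (Lpe (K1.f16818 IH) (Lpe (f16828 IH) (Lpr_ct (f666424 IH) (Lpr_gt (K62.f740784 IH) (Lpr_dt (f93421 IH) (Lpr_gt (f96070 IH) (Lpn (LP (LK LD1_c23 LD2_c47 LD3_c2))))))))))))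
theorem f814147 : Led Lsl_dt (LP (LK LD1_c21 LD2_c47 LD3_c53)) = (LP (LK LD1_c23 LD2_c47 LD3_c2)) :=
  Lgr Lrot42 (Lpr_df (f814145 IH) (Lpn (LP (LK LD1_c23 LD2_c47 LD3_c2))))
theorem f808043 : Led Lsl_gf (LP (LK LD1_c12 LD2_c41 LD3_c20)) = (LP (LK LD1_c14 LD2_c37 LD3_c4)) :=
  Lgr Lrot76 (Lpe (f808027 IH) (Lpr_ff (f808035 IH) (Lpr_gt (K48.f87413 IH) (Lpn (LP (LK LD1_c14 LD2_c37 LD3_c4))))))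
theorem f666881 : Led Lsl_gf (LP (LK LD1_c3 LD2_c51 LD3_c40)) = (LP (LK LD1_c7 LD2_c44 LD3_c44)) :=
  Lgr Lrot47 (Lpr_gt (K48.f103839 IH) (Lpr_af (K6.f127813 IH) (Lpr_ff (f666870 IH) (Lpn (LP (LK LD1_c7 LD2_c44 LD3_c44))))))
theorem f666877 : Led Lsl_et (LP (LK LD1_c12 LD2_c35 LD3_c27)) = (LP (LK LD1_c7 LD2_c44 LD3_c44)) :=
  Lgr Lrot69 (Lpe (f436586 IH) (Lpe (f66000 IH) (Lpr_ff (K6.f126356 IH) (Lpe (K61.f88453 IH) (Lpr_ff (f666870 IH) (Lpn (LP (LK LD1_c7 LD2_c44 LD3_c44))))))))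
theorem f436595 : Led Lsl_dt (LP (LK LD1_c12 LD2_c35 LD3_c27)) = (LP (LK LD1_c21 LD2_c41 LD3_c53)) :=
  Lre_d IH (LK LD1_c12 LD2_c35 LD3_c27) (LK LD1_c21 LD2_c41 LD3_c53) Lrfl Lrfl
theorem f814153 : Led Lsl_gf (LP (LK LD1_c21 LD2_c41 LD3_c53)) = (LP (LK LD1_c23 LD2_c47 LD3_c2)) :=
  Lgr Lrot134 (Lpe (f436595 IH) (Lpr_et (f666877 IH) (Lpe (f666881 IH) (Lpe (K48.f87437 IH) (Lpr_dt (K48.f87436 IH) (Lpe (f808043 IH) (Lpe (K60.f87467 IH) (Lpr_et (f711886 IH) (Lpr_gt (f711938 IH) (Lpr_dt (f814147 IH) (Lpn (LP (LK LD1_c23 LD2_c47 LD3_c2)))))))))))))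
theorem f93411 : Led Lsl_ct (LP (LK LD1_c14 LD2_c11 LD3_c37)) = (LP (LK LD1_c7 LD2_c32 LD3_c49)) :=
  Lgr Lrot59 (Lpr_cf (K24.f93406 IH) (Lpn (LP (LK LD1_c7 LD2_c32 LD3_c49))))
theorem f778486 : Led Lsl_cf (LP (LK LD1_c12 LD2_c35 LD3_c27)) = (LP (LK LD1_c12 LD2_c45 LD3_c32)) :=
  Lgr Lrot1 (Lpe (f436587 IH) (Lpr_ct (f93411 IH) (Lpr_at (K61.f778482 IH) (Lpn (LP (LK LD1_c12 LD2_c45 LD3_c32))))))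
theorem f63996 : Led Lsl_dt (LP (LK LD1_c3 LD2_c18 LD3_c3)) = (LP (LK LD1_c1 LD2_c35 LD3_c32)) :=
  Lre_d IH (LK LD1_c3 LD2_c18 LD3_c3) (LK LD1_c1 LD2_c35 LD3_c32) Lrfl Lrfl
theorem f109785 : Led Lsl_ct (LP (LK LD1_c6 LD2_c39 LD3_c56)) = (LP (LK LD1_c12 LD2_c45 LD3_c41)) :=
  Lre_c IH (LK LD1_c6 LD2_c39 LD3_c56) (LK LD1_c12 LD2_c45 LD3_c41) Lrfl Lrfl
theorem f778534 : Led Lsl_gt (LP (LK LD1_c12 LD2_c45 LD3_c41)) = (LP (LK LD1_c21 LD2_c52 LD3_c59)) :=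
  Lre_g IH (LK LD1_c12 LD2_c45 LD3_c41) (LK LD1_c21 LD2_c52 LD3_c59) Lrfl Lrfl
theorem f778535 : Led Lsl_cf (LP (LK LD1_c21 LD2_c41 LD3_c53)) = (LP (LK LD1_c21 LD2_c52 LD3_c59)) :=
  Lgr Lrot99 (Lpe (f436595 IH) (Lpr_cf (f778486 IH) (Lpe (K61.f651126 IH) (Lpe (K60.f651112 IH) (Lpe (K60.f64278 IH) (Lpe (f63996 IH) (Lpr_gt (K60.f109787 IH) (Lpr_ct (f109785 IH) (Lpr_gt (f778534 IH) (Lpn (LP (LK LD1_c21 LD2_c52 LD3_c59))))))))))))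
theorem f778537 : Led Lsl_ct (LP (LK LD1_c21 LD2_c41 LD3_c53)) = (LP (LK LD1_c21 LD2_c52 LD3_c59)) :=
  Lgr Lrot59 (Lpr_cf (f778535 IH) (Lpn (LP (LK LD1_c21 LD2_c52 LD3_c59))))
theorem f808164 : Led Lsl_af (LP (LK LD1_c24 LD2_c2 LD3_c57)) = (LP (LK LD1_c21 LD2_c47 LD3_c55)) :=
  Lgr Lrot0 (Lpr_at (f808162 IH) (Lpn (LP (LK LD1_c21 LD2_c47 LD3_c55))))
theorem f711944 : Led Lsl_ft (LP (LK LD1_c12 LD2_c41 LD3_c21)) = (LP (LK LD1_c21 LD2_c47 LD3_c55)) :=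
  Lre_f IH (LK LD1_c12 LD2_c41 LD3_c21) (LK LD1_c21 LD2_c47 LD3_c55) Lrfl Lrfl
theorem f808219 : Led Lsl_gf (LP (LK LD1_c24 LD2_c2 LD3_c57)) = (LP (LK LD1_c21 LD2_c47 LD3_c53)) :=
  Lgr Lrot76 (Lpr_af (f808164 IH) (Lpe (f711944 IH) (Lpr_gt (f711938 IH) (Lpn (LP (LK LD1_c21 LD2_c47 LD3_c53))))))
theorem f807752 : Led Lsl_ct (LP (LK LD1_c24 LD2_c2 LD3_c57)) = (LP (LK LD1_c14 LD2_c24 LD3_c12)) :=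
  Lre_c IH (LK LD1_c24 LD2_c2 LD3_c57) (LK LD1_c14 LD2_c24 LD3_c12) Lrfl Lrfl
theorem f804792 : Led Lsl_ct (LP (LK LD1_c14 LD2_c13 LD3_c3)) = v19225 :=
  Lgr Lrot7 (Lpr_df (f804791 IH) (Lpe (f804789 IH) (Lpe (f778488 IH) (Lpe (K61.f651126 IH) (Lpe (K60.f651112 IH) (Lpr_gt (f66219 IH) (Lpr_dt (f109796 IH) (Lpr_gt (f109797 IH) (Lpr_dt (f778683 IH) (Lpn v19225))))))))))
theorem f778619 : Led Lsl_ct (LP (LK LD1_c12 LD2_c45 LD3_c44)) = (LP (LK LD1_c6 LD2_c39 LD3_c57)) :=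
  Lre_c IH (LK LD1_c12 LD2_c45 LD3_c44) (LK LD1_c6 LD2_c39 LD3_c57) Lrfl Lrfl
theorem f814157 : Led Lsl_gt (LP (LK LD1_c21 LD2_c52 LD3_c59)) = (LP (LK LD1_c12 LD2_c45 LD3_c44)) :=
  Lgr Lrot150 (Lpe (f778537 IH) (Lpr_gf (f814153 IH) (Lpe (f814147 IH) (Lpe (f808219 IH) (Lpr_ct (f807752 IH) (Lpe (f807761 IH) (Lpr_ct (f804792 IH) (Lpe (f778683 IH) (Lpe (f778619 IH) (Lpn (LP (LK LD1_c12 LD2_c45 LD3_c44))))))))))))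
theorem f814158 : Led Lsl_gt (LP (LK LD1_c21 LD2_c52 LD3_c59)) = (LP (LK LD1_c12 LD2_c45 LD3_c44)) :=
  Leop (Lpe (f814157 IH) (Lpn (LP (LK LD1_c21 LD2_c52 LD3_c59))))
theorem seed_1794 : LEOK LG_g (LK LD1_c21 LD2_c52 LD3_c59) :=
  Leoe_g (LK LD1_c21 LD2_c52 LD3_c59) (f814158 IH)
def v23005 : LQ := Led Lsl_gt (LP (LK LD1_c7 LD2_c45 LD3_c38))
theorem f814295 : Led Lsl_gt (LP (LK LD1_c7 LD2_c45 LD3_c38)) = v23005 :=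
  Lrfl
theorem f492099 : Led Lsl_ct (LP (LK LD1_c3 LD2_c51 LD3_c54)) = (LP (LK LD1_c7 LD2_c45 LD3_c38)) :=
  Lre_c IH (LK LD1_c3 LD2_c51 LD3_c54) (LK LD1_c7 LD2_c45 LD3_c38) Lrfl Lrfl
theorem f475010 : Led Lsl_gt (LP (LK LD1_c7 LD2_c45 LD3_c37)) = (LP (LK LD1_c3 LD2_c51 LD3_c54)) :=
  Lre_g IH (LK LD1_c7 LD2_c45 LD3_c37) (LK LD1_c3 LD2_c51 LD3_c54) Lrfl Lrfl
theorem f475011 : Led Lsl_bt (LP (LK LD1_c14 LD2_c38 LD3_c17)) = (LP (LK LD1_c7 LD2_c45 LD3_c37)) :=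
  Lre_b IH (LK LD1_c14 LD2_c38 LD3_c17) (LK LD1_c7 LD2_c45 LD3_c37) Lrfl Lrfl
theorem f475012 : Led Lsl_ct (LP (LK LD1_c14 LD2_c38 LD3_c17)) = (LP (LK LD1_c24 LD2_c21 LD3_c54)) :=
  Lre_c IH (LK LD1_c14 LD2_c38 LD3_c17) (LK LD1_c24 LD2_c21 LD3_c54) Lrfl Lrfl
theorem f520850 : Led Lsl_at (LP (LK LD1_c7 LD2_c47 LD3_c30)) = (LP (LK LD1_c14 LD2_c42 LD3_c9)) :=
  Lre_a IH (LK LD1_c7 LD2_c47 LD3_c30) (LK LD1_c14 LD2_c42 LD3_c9) Lrfl Lrfl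
theorem f534685 : Led Lsl_gt (LP (LK LD1_c14 LD2_c21 LD3_c58)) = (LP (LK LD1_c7 LD2_c53 LD3_c39)) :=
  Lgr Lrot5 (Lpr_ft (K47.f520848 IH) (Lpr_at (f520850 IH) (Lpr_gf (K57.f534683 IH) (Lpn (LP (LK LD1_c7 LD2_c53 LD3_c39))))))
theorem f460602 : Led Lsl_bt (LP (LK LD1_c7 LD2_c37 LD3_c12)) = (LP (LK LD1_c14 LD2_c21 LD3_c58)) :=
  Lre_b IH (LK LD1_c7 LD2_c37 LD3_c12) (LK LD1_c14 LD2_c21 LD3_c58) Lrfl Lrfl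
theorem f459870 : Led Lsl_bt (LP (LK LD1_c1 LD2_c52 LD3_c41)) = (LP (LK LD1_c3 LD2_c51 LD3_c54)) :=
  Lre_b IH (LK LD1_c1 LD2_c52 LD3_c41) (LK LD1_c3 LD2_c51 LD3_c54) Lrfl Lrfl
theorem f471236 : Led Lsl_ct (LP (LK LD1_c7 LD2_c53 LD3_c39)) = (LP (LK LD1_c14 LD2_c53 LD3_c15)) :=
  Lre_c IH (LK LD1_c7 LD2_c53 LD3_c39) (LK LD1_c14 LD2_c53 LD3_c15) Lrfl Lrfl
theorem f534730 : Led Lsl_gf (LP (LK LD1_c24 LD2_c21 LD3_c54)) = (LP (LK LD1_c14 LD2_c53 LD3_c15)) :=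
  Lgr Lrot129 (Lpe (f475012 IH) (Lpr_bt (f475011 IH) (Lpr_gt (f475010 IH) (Lpe (f459870 IH) (Lpr_ct (K24.f459850 IH) (Lpr_gt (K29.f459858 IH) (Lpe (K29.f474973 IH) (Lpr_bt (f460602 IH) (Lpr_gt (f534685 IH) (Lpr_ct (f471236 IH) (Lpn (LP (LK LD1_c14 LD2_c53 LD3_c15)))))))))))))
theorem f532402 : Led Lsl_bt (LP (LK LD1_c7 LD2_c53 LD3_c39)) = (LP (LK LD1_c3 LD2_c55 LD3_c60)) :=
  Lre_b IH (LK LD1_c7 LD2_c53 LD3_c39) (LK LD1_c3 LD2_c55 LD3_c60) Lrfl Lrfl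
theorem f478559 : Led Lsl_bt (LP (LK LD1_c14 LD2_c53 LD3_c5)) = (LP (LK LD1_c7 LD2_c53 LD3_c34)) :=
  Lre_b IH (LK LD1_c14 LD2_c53 LD3_c5) (LK LD1_c7 LD2_c53 LD3_c34) Lrfl Lrfl
theorem f814296 : Led Lsl_ct (LP (LK LD1_c14 LD2_c53 LD3_c5)) = v23005 :=
  Lgr Lrot63 (Lpr_bt (f478559 IH) (Lpr_gt (K35.f626047 IH) (Lpe (f532402 IH) (Lpr_ct (f471236 IH) (Lpe (f534730 IH) (Lpe (f475012 IH) (Lpr_bt (f475011 IH) (Lpr_gt (f475010 IH) (Lpr_ct (f492099 IH) (Lpr_gt (f814295 IH) (Lpn v23005)))))))))))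
theorem f814298 : Led Lsl_cf (LP (LK LD1_c14 LD2_c53 LD3_c5)) = v23005 :=
  Lgr Lrot11 (Lpr_ct (f814296 IH) (Lpn v23005))
theorem f478500 : Led Lsl_bt (LP (LK LD1_c7 LD2_c53 LD3_c34)) = (LP (LK LD1_c14 LD2_c53 LD3_c5)) :=
  Lre_b IH (LK LD1_c7 LD2_c53 LD3_c34) (LK LD1_c14 LD2_c53 LD3_c5) Lrfl Lrfl
theorem f478501 : Led Lsl_bt (LP (LK LD1_c14 LD2_c0 LD3_c56)) = (LP (LK LD1_c7 LD2_c24 LD3_c32)) :=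
  Lre_b IH (LK LD1_c14 LD2_c0 LD3_c56) (LK LD1_c7 LD2_c24 LD3_c32) Lrfl Lrfl
theorem f478502 : Led Lsl_dt (LP (LK LD1_c14 LD2_c53 LD3_c5)) = (LP (LK LD1_c14 LD2_c0 LD3_c56)) :=
  Lgr Lrot79 (Lpe (f478500 IH) (Lpr_df (K35.f478498 IH) (Lpe (f478501 IH) (Lpn (LP (LK LD1_c14 LD2_c0 LD3_c56))))))
theorem f478561 : Led Lsl_ct (LP (LK LD1_c7 LD2_c24 LD3_c36)) = (LP (LK LD1_c14 LD2_c0 LD3_c56)) :=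
  Lre_c IH (LK LD1_c7 LD2_c24 LD3_c36) (LK LD1_c14 LD2_c0 LD3_c56) Lrfl Lrfl
theorem f468143 : Led Lsl_cf (LP (LK LD1_c13 LD2_c56 LD3_c40)) = (LP (LK LD1_c13 LD2_c22 LD3_c18)) :=
  Lgr Lrot11 (Lpr_ct (K28.f468141 IH) (Lpn (LP (LK LD1_c13 LD2_c22 LD3_c18))))
theorem f657419 : Led Lsl_dt (LP (LK LD1_c14 LD2_c38 LD3_c18)) = (LP (LK LD1_c7 LD2_c45 LD3_c37)) :=
  Lre_d IH (LK LD1_c14 LD2_c38 LD3_c18) (LK LD1_c7 LD2_c45 LD3_c37) Lrfl Lrfl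
theorem f814299 : Led Lsl_gf (LP (LK LD1_c13 LD2_c22 LD3_c18)) = (LP (LK LD1_c14 LD2_c38 LD3_c18)) :=
  Lgr Lrot147 (Lpe (f468143 IH) (Lpr_gt (K62.f527342 IH) (Lpr_ct (f478561 IH) (Lpe (f478502 IH) (Lpr_cf (f814298 IH) (Lpe (f814295 IH) (Lpe (f492099 IH) (Lpe (f475010 IH) (Lpe (f657419 IH) (Lpn (LP (LK LD1_c14 LD2_c38 LD3_c18))))))))))))
theorem f814300 : Led Lsl_gt (LP (LK LD1_c14 LD2_c38 LD3_c18)) = (LP (LK LD1_c13 LD2_c22 LD3_c18)) :=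
  Leop (Lpr_gf (f814299 IH) (Lpn (LP (LK LD1_c14 LD2_c38 LD3_c18))))
theorem seed_1795 : LEOK LG_g (LK LD1_c14 LD2_c38 LD3_c18) :=
  Leoe_g (LK LD1_c14 LD2_c38 LD3_c18) (f814300 IH)
def v23020 : LQ := Led Lsl_et (LP (LK LD1_c7 LD2_c45 LD3_c58))
theorem f814351 : Led Lsl_et (LP (LK LD1_c7 LD2_c45 LD3_c58)) = v23020 :=
  Lrfl
theorem f491796 : Led Lsl_ft (LP (LK LD1_c3 LD2_c52 LD3_c1)) = (LP (LK LD1_c7 LD2_c45 LD3_c58)) :=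
  Lre_f IH (LK LD1_c3 LD2_c52 LD3_c1) (LK LD1_c7 LD2_c45 LD3_c58) Lrfl Lrfl
theorem f491795 : Led Lsl_et (LP (LK LD1_c1 LD2_c52 LD3_c41)) = (LP (LK LD1_c3 LD2_c52 LD3_c1)) :=
  Lre_e IH (LK LD1_c1 LD2_c52 LD3_c41) (LK LD1_c3 LD2_c52 LD3_c1) Lrfl Lrfl
theorem f814354 : Led Lsl_ff v7444 = v23020 :=
  Lgr Lrot72 (Lpe (f665616 IH) (Lpe (K33.f491789 IH) (Lpr_et (f491795 IH) (Lpr_ft (f491796 IH) (Lpr_et (f814351 IH) (Lpn v23020))))))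
theorem f491819 : Led Lsl_at (LP (LK LD1_c1 LD2_c52 LD3_c45)) = (LP (LK LD1_c3 LD2_c47 LD3_c56)) :=
  Lgr Lrot66 (Lpr_ff (K33.f491817 IH) (Lpe (K33.f491799 IH) (Lpr_ff (K33.f491789 IH) (Lpn (LP (LK LD1_c3 LD2_c47 LD3_c56))))))
theorem f665615 : Led Lsl_af v2686 = v7444 :=
  Lgr Lrot50 (Lpe (f530402 IH) (Lpr_at (f491819 IH) (Lpr_et (f665614 IH) (Lpn v7444))))
def v9442 : LQ := Led Lsl_gf v2686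
theorem f675991 : Led Lsl_gf v2686 = v9442 :=
  Lrfl
theorem f814357 : Led Lsl_gf v9442 = v23020 :=
  Lgr Lrot47 (Lpe (f675991 IH) (Lpr_af (f665615 IH) (Lpr_ff (f814354 IH) (Lpn v23020))))
theorem f810446 : Led Lsl_ef v9442 = v22449 :=
  Lgr Lrot114 (Lpe (f675991 IH) (Lpe (f530401 IH) (Lpr_dt (K29.f457979 IH) (Lpr_gt (K24.f443237 IH) (Lpe (K29.f451323 IH) (Lpr_et (f459880 IH) (Lpr_gt (K61.f103878 IH) (Lpr_dt (f103867 IH) (Lpe (f810409 IH) (Lpr_df (f810424 IH) (Lpn v22449)))))))))))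
theorem f65168 : Led Lsl_dt (LP (LK LD1_c3 LD2_c51 LD3_c44)) = (LP (LK LD1_c7 LD2_c45 LD3_c10)) :=
  Lre_d IH (LK LD1_c3 LD2_c51 LD3_c44) (LK LD1_c7 LD2_c45 LD3_c10) Lrfl Lrfl
theorem f810222 : Led Lsl_gt (LP (LK LD1_c7 LD2_c45 LD3_c11)) = (LP (LK LD1_c14 LD2_c37 LD3_c30)) :=
  Lre_g IH (LK LD1_c7 LD2_c45 LD3_c11) (LK LD1_c14 LD2_c37 LD3_c30) Lrfl Lrfl
theorem f493202 : Led Lsl_dt (LP (LK LD1_c7 LD2_c45 LD3_c58)) = (LP (LK LD1_c14 LD2_c38 LD3_c56)) :=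
  Lre_d IH (LK LD1_c7 LD2_c45 LD3_c58) (LK LD1_c14 LD2_c38 LD3_c56) Lrfl Lrfl
theorem f443430 : Led Lsl_gt (LP (LK LD1_c7 LD2_c2 LD3_c54)) = (LP (LK LD1_c13 LD2_c22 LD3_c1)) :=
  Lre_g IH (LK LD1_c7 LD2_c2 LD3_c54) (LK LD1_c13 LD2_c22 LD3_c1) Lrfl Lrfl
theorem f493207 : Led Lsl_gt (LP (LK LD1_c13 LD2_c22 LD3_c1)) = (LP (LK LD1_c14 LD2_c38 LD3_c56)) :=
  Lgr Lrot46 (Lpe (f443430 IH) (Lpr_ft (f443426 IH) (Lpr_at (f493197 IH) (Lpn (LP (LK LD1_c14 LD2_c38 LD3_c56))))))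
theorem f814358 : Led Lsl_dt (LP (LK LD1_c14 LD2_c37 LD3_c30)) = (LP (LK LD1_c13 LD2_c22 LD3_c1)) :=
  Lgr Lrot171 (Lpe (f810222 IH) (Lpe (f443241 IH) (Lpr_dt (f65168 IH) (Lpr_gf (f810219 IH) (Lpr_df (f810424 IH) (Lpe (f810446 IH) (Lpr_gf (f814357 IH) (Lpe (f814351 IH) (Lpr_dt (f493202 IH) (Lpe (f493207 IH) (Lpn (LP (LK LD1_c13 LD2_c22 LD3_c1)))))))))))))
theorem f814359 : Led Lsl_dt (LP (LK LD1_c14 LD2_c37 LD3_c30)) = (LP (LK LD1_c13 LD2_c22 LD3_c1)) :=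
  Leop (Lpe (f814358 IH) (Lpn (LP (LK LD1_c14 LD2_c37 LD3_c30))))
theorem seed_1796 : LEOK LG_d (LK LD1_c14 LD2_c37 LD3_c30) :=
  Leoe_d (LK LD1_c14 LD2_c37 LD3_c30) (f814359 IH)
def v23022 : LQ := Led Lsl_et (LP (LK LD1_c7 LD2_c45 LD3_c61))
theorem f814368 : Led Lsl_et (LP (LK LD1_c7 LD2_c45 LD3_c61)) = v23022 :=
  Lrfl
theorem f814372 : Led Lsl_ef (LP (LK LD1_c7 LD2_c45 LD3_c61)) = v23022 :=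
  Lgr Lrot88 (Lpr_et (f814368 IH) (Lpn v23022))
def v6717 : LQ := Led Lsl_gf (LP (LK LD1_c3 LD2_c27 LD3_c36))
theorem f658002 : Led Lsl_gf (LP (LK LD1_c3 LD2_c27 LD3_c36)) = v6717 :=
  Lrfl
theorem f658003 : Led Lsl_gt (LP (LK LD1_c7 LD2_c45 LD3_c61)) = v6717 :=
  Lgr Lrot5 (Lpe (K34.f492479 IH) (Lpr_at (K33.f457927 IH) (Lpr_gf (f658002 IH) (Lpn v6717))))
def v20337 : LQ := Led Lsl_gf (LP (LK LD1_c6 LD2_c54 LD3_c47))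
theorem f786416 : Led Lsl_gf (LP (LK LD1_c6 LD2_c54 LD3_c47)) = v20337 :=
  Lrfl
theorem f786417 : Led Lsl_gt K62.v15827 = v20337 :=
  Lgr Lrot5 (Lpe (K62.f741903 IH) (Lpe (K62.f437177 IH) (Lpr_gf (f786416 IH) (Lpn v20337))))
theorem f801850 : v20337 = (LP (LK LD1_c7 LD2_c45 LD3_c61)) :=
  Lefun (Lecon (f786417 IH) (K62.f801847 IH).symm) (K41.f493146 IH)
theorem f801857 : (LP (LK LD1_c6 LD2_c54 LD3_c47)) = v6717 :=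
  Lefun (Lecon (Lfl_gf (f786416 IH)) (f801850 IH)) (f658003 IH)
theorem f94313 : Led Lsl_dt (LP (LK LD1_c6 LD2_c53 LD3_c18)) = (LP (LK LD1_c13 LD2_c5 LD3_c34)) :=
  Lre_d IH (LK LD1_c6 LD2_c53 LD3_c18) (LK LD1_c13 LD2_c5 LD3_c34) Lrfl Lrfl
theorem f115917 : Led Lsl_gt (LP (LK LD1_c13 LD2_c5 LD3_c34)) = (LP (LK LD1_c22 LD2_c16 LD3_c23)) :=
  Lre_g IH (LK LD1_c13 LD2_c5 LD3_c34) (LK LD1_c22 LD2_c16 LD3_c23) Lrfl Lrfl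
theorem f814379 : Led Lsl_df (LP (LK LD1_c22 LD2_c16 LD3_c23)) = v23022 :=
  Lgr Lrot132 (Lpe (f115917 IH) (Lpe (f94313 IH) (Lpe (K47.f94312 IH) (Lpe (K4.f103765 IH) (Lpr_dt (K8.f95236 IH) (Lpr_gf (K7.f146482 IH) (Lpe (K6.f146464 IH) (Lpr_et (K62.f15637 IH) (Lpqs (f801857 IH) (Lpe (f658003 IH) (Lpr_ef (f814372 IH) (Lpn v23022))))))))))))
theorem f814378 : Led Lsl_bt (LP (LK LD1_c13 LD2_c13 LD3_c12)) = v23022 :=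
  Lgr Lrot119 (Lpe (f493059 IH) (Lpr_bf (K33.f492356 IH) (Lpr_ef (f814372 IH) (Lpn v23022))))
theorem f814380 : Led Lsl_bt (LP (LK LD1_c22 LD2_c16 LD3_c23)) = (LP (LK LD1_c22 LD2_c27 LD3_c18)) :=
  Lgr Lrot95 (Lpr_df (f814379 IH) (Lpe (f814378 IH) (Lpe (K34.f484731 IH) (Lpn (LP (LK LD1_c22 LD2_c27 LD3_c18))))))
theorem f814381 : Led Lsl_bt (LP (LK LD1_c22 LD2_c16 LD3_c23)) = (LP (LK LD1_c22 LD2_c27 LD3_c18)) :=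
  Leop (Lpe (f814380 IH) (Lpn (LP (LK LD1_c22 LD2_c16 LD3_c23))))
theorem seed_1797 : LEOK LG_b (LK LD1_c22 LD2_c16 LD3_c23) :=
  Leoe_b (LK LD1_c22 LD2_c16 LD3_c23) (f814381 IH)
theorem f814383 : Led Lsl_et (LP (LK LD1_c22 LD2_c16 LD3_c23)) = (LP (LK LD1_c30 LD2_c23 LD3_c55)) :=
  Lre_e IH (LK LD1_c22 LD2_c16 LD3_c23) (LK LD1_c30 LD2_c23 LD3_c55) Lrfl Lrfl
theorem f492271 : Led Lsl_dt (LP (LK LD1_c14 LD2_c38 LD3_c59)) = (LP (LK LD1_c7 LD2_c45 LD3_c61)) :=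
  Lre_d IH (LK LD1_c14 LD2_c38 LD3_c59) (LK LD1_c7 LD2_c45 LD3_c61) Lrfl Lrfl
theorem f492470 : Led Lsl_et (LP (LK LD1_c24 LD2_c22 LD3_c44)) = (LP (LK LD1_c14 LD2_c38 LD3_c59)) :=
  Lre_e IH (LK LD1_c24 LD2_c22 LD3_c44) (LK LD1_c14 LD2_c38 LD3_c59) Lrfl Lrfl
theorem f814384 : Led Lsl_dt (LP (LK LD1_c30 LD2_c23 LD3_c55)) = (LP (LK LD1_c24 LD2_c22 LD3_c44)) :=
  Lgr Lrot77 (Lpe (f814383 IH) (Lpr_df (f814379 IH) (Lpe (f814368 IH) (Lpe (f492271 IH) (Lpe (f492470 IH) (Lpn (LP (LK LD1_c24 LD2_c22 LD3_c44))))))))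
theorem f814385 : Led Lsl_dt (LP (LK LD1_c30 LD2_c23 LD3_c55)) = (LP (LK LD1_c24 LD2_c22 LD3_c44)) :=
  Leop (Lpe (f814384 IH) (Lpn (LP (LK LD1_c30 LD2_c23 LD3_c55))))
theorem seed_1798 : LEOK LG_d (LK LD1_c30 LD2_c23 LD3_c55) :=
  Leoe_d (LK LD1_c30 LD2_c23 LD3_c55) (f814385 IH)
theorem f814382 : Led Lsl_dt (LP (LK LD1_c22 LD2_c16 LD3_c23)) = v23022 :=
  Lgr Lrot42 (Lpr_df (f814379 IH) (Lpn v23022))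
theorem f814370 : Led Lsl_bf (LP (LK LD1_c13 LD2_c13 LD3_c12)) = v23022 :=
  Lgr Lrot96 (Lpr_et (K34.f492552 IH) (Lpe (K60.f493035 IH) (Lpr_et (f814368 IH) (Lpn v23022))))
theorem f814388 : Led Lsl_bf (LP (LK LD1_c22 LD2_c16 LD3_c23)) = (LP (LK LD1_c22 LD2_c27 LD3_c18)) :=
  Lgr Lrot93 (Lpr_dt (f814382 IH) (Lpe (f814370 IH) (Lpr_dt (K34.f484723 IH) (Lpn (LP (LK LD1_c22 LD2_c27 LD3_c18))))))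
theorem f523109 : Led Lsl_at (LP (LK LD1_c22 LD2_c27 LD3_c18)) = (LP (LK LD1_c13 LD2_c13 LD3_c18)) :=
  Lre_a IH (LK LD1_c22 LD2_c27 LD3_c18) (LK LD1_c13 LD2_c13 LD3_c18) Lrfl Lrfl
theorem f92924 : Led Lsl_gt (LP (LK LD1_c14 LD2_c17 LD3_c5)) = (LP (LK LD1_c7 LD2_c34 LD3_c33)) :=
  Lre_g IH (LK LD1_c14 LD2_c17 LD3_c5) (LK LD1_c7 LD2_c34 LD3_c33) Lrfl Lrfl
theorem f523110 : Led Lsl_ff (LP (LK LD1_c22 LD2_c27 LD3_c18)) = (LP (LK LD1_c14 LD2_c17 LD3_c5)) :=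
  Lgr Lrot52 (Lpr_at (f523109 IH) (Lpr_gf (K47.f523107 IH) (Lpe (f92924 IH) (Lpn (LP (LK LD1_c14 LD2_c17 LD3_c5))))))
theorem f523238 : Led Lsl_bt (LP (LK LD1_c23 LD2_c54 LD3_c26)) = (LP (LK LD1_c14 LD2_c17 LD3_c5)) :=
  Lre_b IH (LK LD1_c23 LD2_c54 LD3_c26) (LK LD1_c14 LD2_c17 LD3_c5) Lrfl Lrfl
theorem f814390 : Led Lsl_ft (LP (LK LD1_c22 LD2_c16 LD3_c23)) = (LP (LK LD1_c23 LD2_c54 LD3_c26)) :=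
  Lgr Lrot75 (Lpr_bf (f814388 IH) (Lpr_ff (f523110 IH) (Lpe (f523238 IH) (Lpn (LP (LK LD1_c23 LD2_c54 LD3_c26))))))
theorem f492289 : Led Lsl_et (LP (LK LD1_c22 LD2_c26 LD3_c59)) = (LP (LK LD1_c13 LD2_c12 LD3_c58)) :=
  Lre_e IH (LK LD1_c22 LD2_c26 LD3_c59) (LK LD1_c13 LD2_c12 LD3_c58) Lrfl Lrfl
theorem f814373 : Led Lsl_ff (LP (LK LD1_c22 LD2_c26 LD3_c59)) = v23022 :=
  Lgr Lrot72 (Lpr_et (f492289 IH) (Lpe (K34.f492506 IH) (Lpr_et (K34.f457946 IH) (Lpr_ft (K33.f492471 IH) (Lpr_et (f814368 IH) (Lpn v23022))))))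
theorem f814376 : Led Lsl_ft (LP (LK LD1_c22 LD2_c26 LD3_c59)) = v23022 :=
  Lgr Lrot48 (Lpr_ff (f814373 IH) (Lpn v23022))
theorem f814394 : Led Lsl_df (LP (LK LD1_c22 LD2_c26 LD3_c59)) = (LP (LK LD1_c23 LD2_c54 LD3_c26)) :=
  Lgr Lrot78 (Lpr_ft (f814376 IH) (Lpe (f814379 IH) (Lpr_ft (f814390 IH) (Lpn (LP (LK LD1_c23 LD2_c54 LD3_c26))))))
theorem f814395 : Led Lsl_dt (LP (LK LD1_c23 LD2_c54 LD3_c26)) = (LP (LK LD1_c22 LD2_c26 LD3_c59)) :=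
  Leop (Lpr_df (f814394 IH) (Lpn (LP (LK LD1_c23 LD2_c54 LD3_c26))))
theorem seed_1799 : LEOK LG_d (LK LD1_c23 LD2_c54 LD3_c26) :=
  Leoe_d (LK LD1_c23 LD2_c54 LD3_c26) (f814395 IH)
theorem f439935 : Led Lsl_dt (LP (LK LD1_c22 LD2_c16 LD3_c16)) = (LP (LK LD1_c13 LD2_c5 LD3_c30)) :=
  Lre_d IH (LK LD1_c22 LD2_c16 LD3_c16) (LK LD1_c13 LD2_c5 LD3_c30) Lrfl Lrfl
theorem f786032 : Led Lsl_af (LP (LK LD1_c6 LD2_c53 LD3_c19)) = K61.v20274 :=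
  Lgr Lrot45 (Lpr_ft (K61.f786024 IH) (Lpe (K61.f786023 IH) (Lpr_ft (K61.f786031 IH) (Lpn K61.v20274))))
theorem f115924 : Led Lsl_dt (LP (LK LD1_c6 LD2_c53 LD3_c19)) = (LP (LK LD1_c13 LD2_c5 LD3_c37)) :=
  Lre_d IH (LK LD1_c6 LD2_c53 LD3_c19) (LK LD1_c13 LD2_c5 LD3_c37) Lrfl Lrfl
theorem f788412 : Led Lsl_af (LP (LK LD1_c22 LD2_c16 LD3_c16)) = (LP (LK LD1_c13 LD2_c5 LD3_c37)) :=
  Lgr Lrot117 (Lpr_dt (f439935 IH) (Lpq (K62.f788354 IH) (Lpe (f786032 IH) (Lpr_dt (f115924 IH) (Lpn (LP (LK LD1_c13 LD2_c5 LD3_c37)))))))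
theorem f788414 : Led Lsl_at (LP (LK LD1_c22 LD2_c16 LD3_c16)) = (LP (LK LD1_c13 LD2_c5 LD3_c37)) :=
  Lgr Lrot100 (Lpr_af (f788412 IH) (Lpn (LP (LK LD1_c13 LD2_c5 LD3_c37))))
theorem f441044 : Led Lsl_dt (LP (LK LD1_c13 LD2_c5 LD3_c34)) = (LP (LK LD1_c6 LD2_c53 LD3_c18)) :=
  Lre_d IH (LK LD1_c13 LD2_c5 LD3_c34) (LK LD1_c6 LD2_c53 LD3_c18) Lrfl Lrfl
theorem f94328 : Led Lsl_dt (LP (LK LD1_c13 LD2_c5 LD3_c30)) = (LP (LK LD1_c22 LD2_c16 LD3_c16)) :=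
  Lre_d IH (LK LD1_c13 LD2_c5 LD3_c30) (LK LD1_c22 LD2_c16 LD3_c16) Lrfl Lrfl
theorem f788360 : Led Lsl_ff (LP (LK LD1_c13 LD2_c5 LD3_c34)) = (LP (LK LD1_c22 LD2_c16 LD3_c16)) :=
  Lgr Lrot19 (Lpr_dt (f441044 IH) (Lpr_ft (K61.f786031 IH) (Lpqs (K62.f788354 IH) (Lpr_dt (f94328 IH) (Lpn (LP (LK LD1_c22 LD2_c16 LD3_c16)))))))
theorem f788362 : Led Lsl_ft (LP (LK LD1_c13 LD2_c5 LD3_c34)) = (LP (LK LD1_c22 LD2_c16 LD3_c16)) :=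
  Lgr Lrot48 (Lpr_ff (f788360 IH) (Lpn (LP (LK LD1_c22 LD2_c16 LD3_c16))))
theorem f788426 : Led Lsl_gt (LP (LK LD1_c22 LD2_c16 LD3_c23)) = (LP (LK LD1_c13 LD2_c5 LD3_c37)) :=
  Lgr Lrot46 (Lpe (f115917 IH) (Lpr_ft (f788362 IH) (Lpr_at (f788414 IH) (Lpn (LP (LK LD1_c13 LD2_c5 LD3_c37))))))
theorem f115926 : Led Lsl_dt (LP (LK LD1_c13 LD2_c5 LD3_c37)) = (LP (LK LD1_c6 LD2_c53 LD3_c19)) :=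
  Lre_d IH (LK LD1_c13 LD2_c5 LD3_c37) (LK LD1_c6 LD2_c53 LD3_c19) Lrfl Lrfl
theorem f103775 : Led Lsl_dt (LP (LK LD1_c13 LD2_c5 LD3_c29)) = (LP (LK LD1_c22 LD2_c16 LD3_c15)) :=
  Lre_d IH (LK LD1_c13 LD2_c5 LD3_c29) (LK LD1_c22 LD2_c16 LD3_c15) Lrfl Lrfl
theorem f788337 : Led Lsl_ff (LP (LK LD1_c13 LD2_c5 LD3_c37)) = (LP (LK LD1_c22 LD2_c16 LD3_c15)) :=
  Lgr Lrot19 (Lpr_dt (f115926 IH) (Lpr_ft (K61.f786024 IH) (Lpqs (K61.f788331 IH) (Lpr_dt (f103775 IH) (Lpn (LP (LK LD1_c22 LD2_c16 LD3_c15)))))))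
theorem f788416 : Led Lsl_at (LP (LK LD1_c13 LD2_c5 LD3_c34)) = (LP (LK LD1_c22 LD2_c16 LD3_c15)) :=
  Lgr Lrot66 (Lpr_ff (f788360 IH) (Lpr_af (f788412 IH) (Lpr_ff (f788337 IH) (Lpn (LP (LK LD1_c22 LD2_c16 LD3_c15))))))
theorem f788418 : Led Lsl_af (LP (LK LD1_c13 LD2_c5 LD3_c34)) = (LP (LK LD1_c22 LD2_c16 LD3_c15)) :=
  Lgr Lrot0 (Lpr_at (f788416 IH) (Lpn (LP (LK LD1_c22 LD2_c16 LD3_c15))))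
theorem f493814 : Led Lsl_gt (LP (LK LD1_c22 LD2_c16 LD3_c24)) = (LP (LK LD1_c13 LD2_c5 LD3_c34)) :=
  Lre_g IH (LK LD1_c22 LD2_c16 LD3_c24) (LK LD1_c13 LD2_c5 LD3_c34) Lrfl Lrfl
theorem f788341 : Led Lsl_ft (LP (LK LD1_c13 LD2_c5 LD3_c37)) = (LP (LK LD1_c22 LD2_c16 LD3_c15)) :=
  Lgr Lrot48 (Lpr_ff (f788337 IH) (Lpn (LP (LK LD1_c22 LD2_c16 LD3_c15))))
theorem f788424 : Led Lsl_gf (LP (LK LD1_c22 LD2_c16 LD3_c24)) = (LP (LK LD1_c13 LD2_c5 LD3_c37)) :=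
  Lgr Lrot47 (Lpr_gt (f493814 IH) (Lpr_af (f788418 IH) (Lpe (f788341 IH) (Lpn (LP (LK LD1_c13 LD2_c5 LD3_c37))))))
theorem f814398 : Led Lsl_af (LP (LK LD1_c22 LD2_c16 LD3_c24)) = (LP (LK LD1_c23 LD2_c54 LD3_c26)) :=
  Lgr Lrot31 (Lpr_gf (f788424 IH) (Lpe (f788426 IH) (Lpr_ft (f814390 IH) (Lpn (LP (LK LD1_c23 LD2_c54 LD3_c26))))))
theorem f814400 : Led Lsl_at (LP (LK LD1_c22 LD2_c16 LD3_c24)) = (LP (LK LD1_c23 LD2_c54 LD3_c26)) :=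
  Lgr Lrot100 (Lpr_af (f814398 IH) (Lpn (LP (LK LD1_c23 LD2_c54 LD3_c26))))
theorem f492278 : Led Lsl_at (LP (LK LD1_c22 LD2_c26 LD3_c59)) = (LP (LK LD1_c13 LD2_c12 LD3_c60)) :=
  Lre_a IH (LK LD1_c22 LD2_c26 LD3_c59) (LK LD1_c13 LD2_c12 LD3_c60) Lrfl Lrfl
theorem f814402 : Led Lsl_df (LP (LK LD1_c22 LD2_c16 LD3_c24)) = (LP (LK LD1_c13 LD2_c12 LD3_c60)) :=
  Lgr Lrot18 (Lpr_at (f814400 IH) (Lpe (f814394 IH) (Lpr_at (f492278 IH) (Lpn (LP (LK LD1_c13 LD2_c12 LD3_c60))))))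
theorem f814406 : Led Lsl_dt (LP (LK LD1_c22 LD2_c16 LD3_c24)) = (LP (LK LD1_c13 LD2_c12 LD3_c60)) :=
  Lgr Lrot42 (Lpr_df (f814402 IH) (Lpn (LP (LK LD1_c13 LD2_c12 LD3_c60))))
theorem f441033 : Led Lsl_gt (LP (LK LD1_c13 LD2_c5 LD3_c32)) = (LP (LK LD1_c6 LD2_c53 LD3_c19)) :=
  Lre_g IH (LK LD1_c13 LD2_c5 LD3_c32) (LK LD1_c6 LD2_c53 LD3_c19) Lrfl Lrfl
theorem f115931 : Led Lsl_at (LP (LK LD1_c6 LD2_c53 LD3_c21)) = (LP (LK LD1_c13 LD2_c5 LD3_c32)) :=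
  Lre_a IH (LK LD1_c6 LD2_c53 LD3_c21) (LK LD1_c13 LD2_c5 LD3_c32) Lrfl Lrfl
theorem f115932 : Led Lsl_at (LP (LK LD1_c13 LD2_c19 LD3_c40)) = (LP (LK LD1_c7 LD2_c1 LD3_c40)) :=
  Lre_a IH (LK LD1_c13 LD2_c19 LD3_c40) (LK LD1_c7 LD2_c1 LD3_c40) Lrfl Lrfl
theorem f115933 : Led Lsl_ct (LP (LK LD1_c13 LD2_c5 LD3_c32)) = (LP (LK LD1_c13 LD2_c19 LD3_c40)) :=
  Lgr Lrot111 (Lpe (f115931 IH) (Lpr_cf (K4.f115911 IH) (Lpe (f115932 IH) (Lpn (LP (LK LD1_c13 LD2_c19 LD3_c40))))))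
theorem f441034 : Led Lsl_gt (LP (LK LD1_c13 LD2_c19 LD3_c40)) = (LP (LK LD1_c7 LD2_c1 LD3_c38)) :=
  Lre_g IH (LK LD1_c13 LD2_c19 LD3_c40) (LK LD1_c7 LD2_c1 LD3_c38) Lrfl Lrfl
theorem f441035 : Led Lsl_dt (LP (LK LD1_c7 LD2_c1 LD3_c38)) = (LP (LK LD1_c13 LD2_c19 LD3_c45)) :=
  Lre_d IH (LK LD1_c7 LD2_c1 LD3_c38) (LK LD1_c13 LD2_c19 LD3_c45) Lrfl Lrfl
theorem f481957 : Led Lsl_bt (LP (LK LD1_c3 LD2_c52 LD3_c10)) = (LP (LK LD1_c7 LD2_c46 LD3_c5)) :=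
  Lre_b IH (LK LD1_c3 LD2_c52 LD3_c10) (LK LD1_c7 LD2_c46 LD3_c5) Lrfl Lrfl
theorem f468946 : Led Lsl_ct (LP (LK LD1_c6 LD2_c57 LD3_c36)) = (LP (LK LD1_c3 LD2_c27 LD3_c41)) :=
  Lre_c IH (LK LD1_c6 LD2_c57 LD3_c36) (LK LD1_c3 LD2_c27 LD3_c41) Lrfl Lrfl
theorem f468947 : Led Lsl_bt (LP (LK LD1_c13 LD2_c12 LD3_c60)) = (LP (LK LD1_c6 LD2_c57 LD3_c36)) :=
  Lre_b IH (LK LD1_c13 LD2_c12 LD3_c60) (LK LD1_c6 LD2_c57 LD3_c36) Lrfl Lrfl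
theorem f491988 : Led Lsl_ct (LP (LK LD1_c7 LD2_c46 LD3_c5)) = (LP (LK LD1_c13 LD2_c12 LD3_c60)) :=
  Lgr Lrot83 (Lpe (f481957 IH) (Lpr_cf (K33.f491984 IH) (Lpe (K48.f468948 IH) (Lpe (f468946 IH) (Lpe (f468947 IH) (Lpn (LP (LK LD1_c13 LD2_c12 LD3_c60))))))))
theorem f798688 : Led Lsl_df (LP (LK LD1_c7 LD2_c46 LD3_c5)) = v21684 :=
  Lgr Lrot12 (Lpr_bt (K34.f481955 IH) (Lpr_dt (K34.f492000 IH) (Lpr_bt (f798686 IH) (Lpn v21684))))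
theorem f814419 : Led Lsl_gt (LP (LK LD1_c13 LD2_c19 LD3_c45)) = v21684 :=
  Lgr Lrot49 (Lpe (f441035 IH) (Lpe (f441034 IH) (Lpe (f115933 IH) (Lpr_gt (f441033 IH) (Lpr_dt (f115924 IH) (Lpe (f788424 IH) (Lpr_dt (f814406 IH) (Lpe (f491988 IH) (Lpr_df (f798688 IH) (Lpn v21684))))))))))
theorem f616156 : Led Lsl_et (LP (LK LD1_c7 LD2_c1 LD3_c38)) = (LP (LK LD1_c13 LD2_c19 LD3_c46)) :=
  Lre_e IH (LK LD1_c7 LD2_c1 LD3_c38) (LK LD1_c13 LD2_c19 LD3_c46) Lrfl Lrfl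
theorem f458499 : Led Lsl_dt (LP (LK LD1_c7 LD2_c4 LD3_c16)) = (LP (LK LD1_c13 LD2_c24 LD3_c17)) :=
  Lre_d IH (LK LD1_c7 LD2_c4 LD3_c16) (LK LD1_c13 LD2_c24 LD3_c17) Lrfl Lrfl
theorem f492594 : Led Lsl_dt (LP (LK LD1_c22 LD2_c26 LD3_c58)) = (LP (LK LD1_c13 LD2_c12 LD3_c57)) :=
  Lre_d IH (LK LD1_c22 LD2_c26 LD3_c58) (LK LD1_c13 LD2_c12 LD3_c57) Lrfl Lrfl
theorem f804580 : Led Lsl_dt (LP (LK LD1_c22 LD2_c40 LD3_c27)) = (LP (LK LD1_c14 LD2_c41 LD3_c59)) :=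
  Lgr Lrot105 (Lpr_gf (K61.f789821 IH) (Lpe (f458499 IH) (Lpqs (K62.f801887 IH) (Lpe (K62.f786020 IH) (Lpr_cf (K62.f115872 IH) (Lpq (K62.f801891 IH) (Lpe (K62.f789260 IH) (Lpr_dt (f458417 IH) (Lpr_gt (f804577 IH) (Lpr_dt (f492594 IH) (Lpe (K34.f530376 IH) (Lpn (LP (LK LD1_c14 LD2_c41 LD3_c59))))))))))))))
theorem f461407 : Led Lsl_cf (LP (LK LD1_c22 LD2_c40 LD3_c27)) = (LP (LK LD1_c22 LD2_c38 LD3_c35)) :=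
  Lgr Lrot11 (Lpr_ct (K61.f461402 IH) (Lpn (LP (LK LD1_c22 LD2_c38 LD3_c35))))
theorem f655490 : Led Lsl_ct (LP (LK LD1_c22 LD2_c38 LD3_c27)) = (LP (LK LD1_c13 LD2_c21 LD3_c35)) :=
  Lre_c IH (LK LD1_c22 LD2_c38 LD3_c27) (LK LD1_c13 LD2_c21 LD3_c35) Lrfl Lrfl
theorem f458428 : Led Lsl_ct (LP (LK LD1_c22 LD2_c32 LD3_c23)) = (LP (LK LD1_c30 LD2_c33 LD3_c60)) :=
  Lre_c IH (LK LD1_c22 LD2_c32 LD3_c23) (LK LD1_c30 LD2_c33 LD3_c60) Lrfl Lrfl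
theorem f656771 : Led Lsl_ff (LP (LK LD1_c22 LD2_c38 LD3_c27)) = (LP (LK LD1_c30 LD2_c33 LD3_c60)) :=
  Lgr Lrot23 (Lpr_ct (f655490 IH) (Lpr_ft (K62.f655544 IH) (Lpr_ct (f458428 IH) (Lpn (LP (LK LD1_c30 LD2_c33 LD3_c60))))))
theorem f656775 : Led Lsl_at (LP (LK LD1_c22 LD2_c38 LD3_c27)) = (LP (LK LD1_c13 LD2_c21 LD3_c41)) :=
  Lre_a IH (LK LD1_c22 LD2_c38 LD3_c27) (LK LD1_c13 LD2_c21 LD3_c41) Lrfl Lrfl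
theorem f656780 : Led Lsl_gf (LP (LK LD1_c22 LD2_c38 LD3_c35)) = (LP (LK LD1_c30 LD2_c33 LD3_c60)) :=
  Lgr Lrot47 (Lpr_gt (K61.f461401 IH) (Lpe (f656775 IH) (Lpr_ff (f656771 IH) (Lpn (LP (LK LD1_c30 LD2_c33 LD3_c60))))))
theorem f656778 : Led Lsl_ft (LP (LK LD1_c22 LD2_c38 LD3_c27)) = (LP (LK LD1_c30 LD2_c33 LD3_c60)) :=
  Lgr Lrot48 (Lpr_ff (f656771 IH) (Lpn (LP (LK LD1_c30 LD2_c33 LD3_c60))))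
theorem f656782 : Led Lsl_at (LP (LK LD1_c13 LD2_c21 LD3_c41)) = (LP (LK LD1_c22 LD2_c38 LD3_c27)) :=
  Lre_a IH (LK LD1_c13 LD2_c21 LD3_c41) (LK LD1_c22 LD2_c38 LD3_c27) Lrfl Lrfl
theorem f458409 : Led Lsl_at (LP (LK LD1_c30 LD2_c33 LD3_c60)) = (LP (LK LD1_c22 LD2_c32 LD3_c27)) :=
  Lre_a IH (LK LD1_c30 LD2_c33 LD3_c60) (LK LD1_c22 LD2_c32 LD3_c27) Lrfl Lrfl
theorem f656783 : Led Lsl_ff (LP (LK LD1_c13 LD2_c21 LD3_c41)) = (LP (LK LD1_c22 LD2_c32 LD3_c27)) :=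
  Lgr Lrot30 (Lpr_at (f656782 IH) (Lpr_ft (f656778 IH) (Lpr_at (f458409 IH) (Lpn (LP (LK LD1_c22 LD2_c32 LD3_c27))))))
theorem f458407 : Led Lsl_ct (LP (LK LD1_c13 LD2_c16 LD3_c55)) = (LP (LK LD1_c22 LD2_c32 LD3_c27)) :=
  Lre_c IH (LK LD1_c13 LD2_c16 LD3_c55) (LK LD1_c22 LD2_c32 LD3_c27) Lrfl Lrfl
theorem f656785 : Led Lsl_ft (LP (LK LD1_c7 LD2_c2 LD3_c43)) = (LP (LK LD1_c13 LD2_c16 LD3_c55)) :=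
  Lgr Lrot4 (Lpe (K61.f461411 IH) (Lpr_ff (f656783 IH) (Lpe (f458407 IH) (Lpn (LP (LK LD1_c13 LD2_c16 LD3_c55))))))
theorem f468761 : Led Lsl_gt (LP (LK LD1_c7 LD2_c2 LD3_c43)) = (LP (LK LD1_c13 LD2_c21 LD3_c39)) :=
  Lre_g IH (LK LD1_c7 LD2_c2 LD3_c43) (LK LD1_c13 LD2_c21 LD3_c39) Lrfl Lrfl
theorem f654624 : Led Lsl_at (LP (LK LD1_c13 LD2_c16 LD3_c55)) = (LP (LK LD1_c22 LD2_c32 LD3_c23)) :=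
  Lre_a IH (LK LD1_c13 LD2_c16 LD3_c55) (LK LD1_c22 LD2_c32 LD3_c23) Lrfl Lrfl
theorem f656790 : Led Lsl_gt (LP (LK LD1_c13 LD2_c21 LD3_c39)) = (LP (LK LD1_c22 LD2_c32 LD3_c23)) :=
  Lgr Lrot46 (Lpe (f468761 IH) (Lpr_ft (f656785 IH) (Lpr_at (f654624 IH) (Lpn (LP (LK LD1_c22 LD2_c32 LD3_c23))))))
theorem f804680 : Led Lsl_df (LP (LK LD1_c13 LD2_c21 LD3_c39)) = (LP (LK LD1_c22 LD2_c26 LD3_c8)) :=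
  Lgr Lrot155 (Lpr_gt (f656790 IH) (Lpr_ct (f458428 IH) (Lpe (f656780 IH) (Lpe (f461407 IH) (Lpr_dt (f804580 IH) (Lpr_cf (f530380 IH) (Lpe (f492591 IH) (Lpr_cf (K34.f457947 IH) (Lpr_gf (K62.f493179 IH) (Lpn (LP (LK LD1_c22 LD2_c26 LD3_c8))))))))))))
theorem f458430 : Led Lsl_et (LP (LK LD1_c13 LD2_c16 LD3_c54)) = (LP (LK LD1_c22 LD2_c32 LD3_c24)) :=
  Lre_e IH (LK LD1_c13 LD2_c16 LD3_c54) (LK LD1_c22 LD2_c32 LD3_c24) Lrfl Lrfl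
theorem f814420 : Led Lsl_gf (LP (LK LD1_c13 LD2_c19 LD3_c46)) = (LP (LK LD1_c22 LD2_c32 LD3_c24)) :=
  Lgr Lrot141 (Lpe (f616156 IH) (Lpr_dt (f441035 IH) (Lpr_gt (f814419 IH) (Lpe (f798690 IH) (Lpr_et (K34.f492282 IH) (Lpr_gt (K62.f461916 IH) (Lpe (f804680 IH) (Lpr_gt (f656790 IH) (Lpe (f458427 IH) (Lpr_et (f458430 IH) (Lpn (LP (LK LD1_c22 LD2_c32 LD3_c24)))))))))))))
theorem f814421 : Led Lsl_gt (LP (LK LD1_c22 LD2_c32 LD3_c24)) = (LP (LK LD1_c13 LD2_c19 LD3_c46)) :=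
  Leop (Lpr_gf (f814420 IH) (Lpn (LP (LK LD1_c22 LD2_c32 LD3_c24))))
theorem seed_1800 : LEOK LG_g (LK LD1_c22 LD2_c32 LD3_c24) :=
  Leoe_g (LK LD1_c22 LD2_c32 LD3_c24) (f814421 IH)
def v23089 : LQ := Led Lsl_dt (LP (LK LD1_c7 LD2_c46 LD3_c52))
theorem f814713 : Led Lsl_dt (LP (LK LD1_c7 LD2_c46 LD3_c52)) = v23089 :=
  Lrfl
theorem f530434 : Led Lsl_et (LP (LK LD1_c3 LD2_c52 LD3_c30)) = (LP (LK LD1_c7 LD2_c46 LD3_c52)) :=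
  Lre_e IH (LK LD1_c3 LD2_c52 LD3_c30) (LK LD1_c7 LD2_c46 LD3_c52) Lrfl Lrfl
theorem f675996 : Led Lsl_df K61.v2691 = K61.v9444 :=
  Lgr Lrot38 (Lpr_dt (K61.f675994 IH) (Lpn K61.v9444))
theorem f814715 : Led Lsl_ef K61.v9444 = v23089 :=
  Lgr Lrot73 (Lpe (f675996 IH) (Lpe (K61.f530433 IH) (Lpr_dt (K48.f14899 IH) (Lpr_et (f530434 IH) (Lpr_dt (f814713 IH) (Lpn v23089))))))
def v9408 : LQ := Led Lsl_et K48.v2651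
theorem f675745 : Led Lsl_et K48.v2651 = v9408 :=
  Lrfl
theorem f675750 : Led Lsl_gf K61.v2691 = v9408 :=
  Lgr Lrot141 (Lpe (K61.f530432 IH) (Lpr_dt (K48.f14899 IH) (Lpe (K48.f517049 IH) (Lpe (K62.f493601 IH) (Lpr_et (K62.f661983 IH) (Lpe (K48.f661984 IH) (Lpe (K48.f478341 IH) (Lpr_gt (K48.f666163 IH) (Lpe (K48.f666161 IH) (Lpr_et (f675745 IH) (Lpn v9408)))))))))))
def v3461 : LQ := Led Lsl_et K48.v845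
theorem f625743 : Led Lsl_et K48.v845 = v3461 :=
  Lrfl
theorem f625745 : Led Lsl_ef K48.v845 = v3461 :=
  Lgr Lrot88 (Lpr_et (f625743 IH) (Lpn v3461))
theorem f675747 : Led Lsl_cf v3461 = v9408 :=
  Lgr Lrot39 (Lpe (f625745 IH) (Lpq (K48.f487541 IH) (Lpr_ct (K48.f530105 IH) (Lpr_et (f675745 IH) (Lpn v9408)))))
def v2693 : LQ := Led Lsl_et (LP (LK LD1_c1 LD2_c53 LD3_c2))
theorem f530440 : Led Lsl_et (LP (LK LD1_c1 LD2_c53 LD3_c2)) = v2693 :=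
  Lrfl
theorem f530441 : Led Lsl_ef (LP (LK LD1_c1 LD2_c53 LD3_c2)) = v2693 :=
  Lgr Lrot88 (Lpr_et (f530440 IH) (Lpn v2693))
theorem f625746 : Led Lsl_ff v2693 = v3461 :=
  Lgr Lrot72 (Lpe (f530441 IH) (Lpr_ft (K30.f487550 IH) (Lpr_et (K29.f443497 IH) (Lpr_ft (K48.f459815 IH) (Lpqs (K48.f487541 IH) (Lpr_et (f625743 IH) (Lpn v3461)))))))
theorem f625748 : Led Lsl_ft v2693 = v3461 :=
  Lgr Lrot48 (Lpr_ff (f625746 IH) (Lpn v3461))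
def v3250 : LQ := Led Lsl_gt K49.v617
theorem f624808 : Led Lsl_gt K49.v617 = v3250 :=
  Lrfl
def v202 : LQ := Led Lsl_dt (LP (LK LD1_c0 LD2_c23 LD3_c29))
theorem f451052 : Led Lsl_dt (LP (LK LD1_c0 LD2_c23 LD3_c29)) = v202 :=
  Lrfl
theorem f451054 : Led Lsl_df (LP (LK LD1_c0 LD2_c23 LD3_c29)) = v202 :=
  Lgr Lrot38 (Lpr_dt (f451052 IH) (Lpn v202))
theorem f455517 : Led Lsl_ef v202 = K49.v617 :=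
  Lgr Lrot73 (Lpe (f451054 IH) (Lpr_et (K2.f85025 IH) (Lpe (K4.f95993 IH) (Lpr_et (K28.f120566 IH) (Lpr_dt (K49.f455514 IH) (Lpn K49.v617))))))
theorem f455519 : Led Lsl_et v202 = K49.v617 :=
  Lgr Lrot87 (Lpr_ef (f455517 IH) (Lpn K49.v617))
theorem f447693 : Led Lsl_gf (LP (LK LD1_c0 LD2_c23 LD3_c29)) = K7.v98 :=
  Lgr Lrot76 (Lpe (K2.f85029 IH) (Lpr_ff (K2.f85031 IH) (Lpr_gt (K7.f447691 IH) (Lpn K7.v98))))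
def v305 : LQ := Led Lsl_dt K7.v98
theorem f452083 : Led Lsl_dt K7.v98 = v305 :=
  Lrfl
theorem f452086 : Led Lsl_df K7.v98 = v305 :=
  Lgr Lrot38 (Lpr_dt (f452083 IH) (Lpn v305))
theorem f64303 : Led Lsl_et (LP (LK LD1_c0 LD2_c10 LD3_c36)) = (LP (LK LD1_c0 LD2_c4 LD3_c57)) :=
  Lre_e IH (LK LD1_c0 LD2_c10 LD3_c36) (LK LD1_c0 LD2_c4 LD3_c57) Lrfl Lrfl
def v99 : LQ := Led Lsl_dt (LP (LK LD1_c0 LD2_c10 LD3_c36))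
theorem f448751 : Led Lsl_dt (LP (LK LD1_c0 LD2_c10 LD3_c36)) = v99 :=
  Lrfl
theorem f452088 : Led Lsl_gt v99 = v305 :=
  Lgr Lrot112 (Lpe (f448751 IH) (Lpr_et (f64303 IH) (Lpe (K1.f14692 IH) (Lpe (K2.f14689 IH) (Lpr_dt (K2.f62830 IH) (Lpe (K3.f87586 IH) (Lpe (K7.f85321 IH) (Lpe (K7.f143292 IH) (Lpr_ef (K34.f447698 IH) (Lpr_dt (f452083 IH) (Lpn v305)))))))))))
def v205 : LQ := Led Lsl_dt (LP (LK LD1_c0 LD2_c23 LD3_c37))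
theorem f451066 : Led Lsl_dt (LP (LK LD1_c0 LD2_c23 LD3_c37)) = v205 :=
  Lrfl
theorem f448752 : Led Lsl_df (LP (LK LD1_c0 LD2_c10 LD3_c36)) = v99 :=
  Lgr Lrot38 (Lpr_dt (f448751 IH) (Lpn v99))
theorem f451068 : Led Lsl_ef v99 = v205 :=
  Lgr Lrot73 (Lpe (f448752 IH) (Lpr_et (f64303 IH) (Lpr_dt (K1.f14693 IH) (Lpr_et (K48.f120557 IH) (Lpr_dt (f451066 IH) (Lpn v205))))))
theorem f451067 : Led Lsl_df (LP (LK LD1_c0 LD2_c23 LD3_c37)) = v205 :=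
  Lgr Lrot38 (Lpr_dt (f451066 IH) (Lpn v205))
theorem f624811 : Led Lsl_et K49.v840 = v3250 :=
  Lgr Lrot122 (Lpe (K49.f459663 IH) (Lpr_gt (K34.f120569 IH) (Lpr_df (f451067 IH) (Lpe (f451068 IH) (Lpr_gt (f452088 IH) (Lpe (f452086 IH) (Lpe (f447693 IH) (Lpr_df (f451054 IH) (Lpr_et (f455519 IH) (Lpr_gt (f624808 IH) (Lpn v3250)))))))))))
theorem f624813 : Led Lsl_df v2693 = v3250 :=
  Lgr Lrot70 (Lpe (f530441 IH) (Lpr_dt (K29.f62992 IH) (Lpr_et (K30.f451071 IH) (Lpr_dt (K49.f459662 IH) (Lpr_et (f624811 IH) (Lpn v3250))))))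
def v207 : LQ := Led Lsl_dt (LP (LK LD1_c0 LD2_c23 LD3_c38))
theorem f451080 : Led Lsl_dt (LP (LK LD1_c0 LD2_c23 LD3_c38)) = v207 :=
  Lrfl
theorem f85613 : Led Lsl_et (LP (LK LD1_c0 LD2_c10 LD3_c43)) = (LP (LK LD1_c0 LD2_c4 LD3_c60)) :=
  Lre_e IH (LK LD1_c0 LD2_c10 LD3_c43) (LK LD1_c0 LD2_c4 LD3_c60) Lrfl Lrfl
theorem f451083 : Led Lsl_gt v202 = v207 :=
  Lgr Lrot112 (Lpe (f451052 IH) (Lpr_et (K2.f85025 IH) (Lpe (K3.f95963 IH) (Lpe (f85613 IH) (Lpr_dt (K3.f18013 IH) (Lpe (K3.f11906 IH) (Lpe (K11.f106080 IH) (Lpe (K11.f432804 IH) (Lpr_ef (K11.f434047 IH) (Lpr_dt (f451080 IH) (Lpn v207)))))))))))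
theorem f451081 : Led Lsl_df (LP (LK LD1_c0 LD2_c23 LD3_c38)) = v207 :=
  Lgr Lrot38 (Lpr_dt (f451080 IH) (Lpn v207))
theorem f451073 : Led Lsl_et v99 = v205 :=
  Lgr Lrot87 (Lpr_ef (f451068 IH) (Lpn v205))
def v1055 : LQ := Led Lsl_gt v205
theorem f491189 : Led Lsl_gt v205 = v1055 :=
  Lrfl
theorem f493534 : Led Lsl_df K30.v297 = K49.v1180 :=
  Lgr Lrot38 (Lpr_dt (K49.f493532 IH) (Lpn K49.v1180))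
theorem f493786 : Led Lsl_ef v1055 = K49.v1180 :=
  Lgr Lrot17 (Lpe (f491189 IH) (Lpe (f451073 IH) (Lpe (f448752 IH) (Lpe (K11.f62828 IH) (Lpr_df (f451081 IH) (Lpe (f451083 IH) (Lpr_ef (f455517 IH) (Lpe (K49.f455516 IH) (Lpr_gf (K30.f455512 IH) (Lpqs (K30.f493782 IH) (Lpr_df (f493534 IH) (Lpn K49.v1180))))))))))))
theorem f493788 : Led Lsl_et v1055 = K49.v1180 :=
  Lgr Lrot87 (Lpr_ef (f493786 IH) (Lpn K49.v1180))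
theorem f624812 : Led Lsl_af v1055 = v3250 :=
  Lgr Lrot50 (Lpr_et (f493788 IH) (Lpe (K49.f493765 IH) (Lpr_et (f624811 IH) (Lpn v3250))))
def v1056 : LQ := Led Lsl_gf v205
theorem f491190 : Led Lsl_gf v205 = v1056 :=
  Lrfl
theorem f624816 : Led Lsl_ft v1056 = v3250 :=
  Lgr Lrot2 (Lpe (f491190 IH) (Lpr_gt (f491189 IH) (Lpr_af (f624812 IH) (Lpn v3250))))
theorem f625750 : Led Lsl_df v1056 = v3461 :=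
  Lgr Lrot78 (Lpr_ft (f624816 IH) (Lpe (f624813 IH) (Lpr_ft (f625748 IH) (Lpn v3461))))
theorem f624818 : Led Lsl_ff v1056 = v3250 :=
  Lgr Lrot3 (Lpr_ft (f624816 IH) (Lpn v3250))
theorem f479095 : Led Lsl_ff K24.v153 = K24.v276 :=
  Lgr Lrot3 (Lpr_ft (K29.f479094 IH) (Lpn K24.v276))
theorem f479098 : Led Lsl_at K24.v153 = K24.v153 :=
  Lgr Lrot66 (Lpr_ff (f479095 IH) (Lpr_af (K29.f479096 IH) (Lpe (K29.f479094 IH) (Lpn K24.v153))))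
theorem f479099 : Led Lsl_af K29.v313 = K29.v313 :=
  Lgr Lrot68 (Lpr_ct (K29.f456253 IH) (Lpr_at (f479098 IH) (Lpe (K29.f456252 IH) (Lpn K29.v313))))
theorem f452117 : Led Lsl_dt K30.v302 = K29.v313 :=
  Lgr Lrot42 (Lpr_df (K30.f452116 IH) (Lpn K29.v313))
theorem f479100 : Led Lsl_at K30.v302 = K30.v302 :=
  Lgr Lrot51 (Lpr_df (K30.f452116 IH) (Lpr_af (f479099 IH) (Lpe (f452117 IH) (Lpn K30.v302))))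
theorem f479101 : Led Lsl_ff K30.v302 = K61.v301 :=
  Lgr Lrot52 (Lpr_at (f479100 IH) (Lpr_gf (K30.f452081 IH) (Lpe (K61.f452082 IH) (Lpn K61.v301))))
def v294 : LQ := Led Lsl_dt K24.v94
theorem f451563 : Led Lsl_dt K24.v94 = v294 :=
  Lrfl
theorem f451564 : Led Lsl_df K24.v94 = v294 :=
  Lgr Lrot38 (Lpr_dt (f451563 IH) (Lpn v294))
theorem f493493 : Led Lsl_bf v294 = K49.v1171 :=
  Lgr Lrot93 (Lpe (f451564 IH) (Lpr_bt (K30.f451559 IH) (Lpr_dt (K49.f493492 IH) (Lpn K49.v1171))))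
theorem f479065 : Led Lsl_ff K61.v299 = v294 :=
  Lgr Lrot19 (Lpe (K61.f451576 IH) (Lpq (K24.f455958 IH) (Lpq (K29.f478886 IH) (Lpe (K29.f451569 IH) (Lpr_dt (f451563 IH) (Lpn v294))))))
theorem f493536 : Led Lsl_bt K61.v299 = K49.v1180 :=
  Lgr Lrot35 (Lpr_ff (f479065 IH) (Lpr_bf (f493493 IH) (Lpr_ff (K49.f493535 IH) (Lpn K49.v1180))))
theorem f493787 : Led Lsl_bt v1055 = K61.v301 :=
  Lgr Lrot119 (Lpr_ef (f493786 IH) (Lpe (f493536 IH) (Lpr_ef (K61.f452068 IH) (Lpn K61.v301))))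
theorem f493827 : Led Lsl_ff v1055 = K49.v1183 :=
  Lgr Lrot25 (Lpr_bt (f493787 IH) (Lpe (f479101 IH) (Lpr_bt (K49.f493824 IH) (Lpn K49.v1183))))
theorem f624809 : Led Lsl_at v1055 = v3250 :=
  Lgr Lrot26 (Lpr_ff (f493827 IH) (Lpe (K49.f493830 IH) (Lpr_gt (f624808 IH) (Lpn v3250))))
theorem f624819 : Led Lsl_at v1056 = K49.v1183 :=
  Lgr Lrot66 (Lpr_ff (f624818 IH) (Lpe (f624809 IH) (Lpr_ff (f493827 IH) (Lpn K49.v1183))))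
theorem f625751 : Led Lsl_at K49.v1065 = v3461 :=
  Lgr Lrot51 (Lpr_df (K49.f493826 IH) (Lpe (f624819 IH) (Lpr_df (f625750 IH) (Lpn v3461))))
theorem f625802 : Led Lsl_at v2693 = K49.v3472 :=
  Lgr Lrot66 (Lpr_ff (f625746 IH) (Lpe (f625751 IH) (Lpr_ff (K49.f625800 IH) (Lpn K49.v3472))))
theorem f625806 : Led Lsl_gt v3461 = K49.v875 :=
  Lgr Lrot5 (Lpe (f625746 IH) (Lpr_at (f625802 IH) (Lpe (K49.f625801 IH) (Lpn K49.v875))))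
theorem f62765 : Led Lsl_et (LP (LK LD1_c0 LD2_c52 LD3_c24)) = (LP (LK LD1_c1 LD2_c49 LD3_c24)) :=
  Lre_e IH (LK LD1_c0 LD2_c52 LD3_c24) (LK LD1_c1 LD2_c49 LD3_c24) Lrfl Lrfl
theorem f625828 : Led Lsl_gf K49.v1180 = K49.v3478 :=
  Lgr Lrot145 (Lpe (K49.f493532 IH) (Lpr_et (K30.f493538 IH) (Lpe (K30.f493545 IH) (Lpr_dt (K29.f455539 IH) (Lpr_gt (K24.f18823 IH) (Lpe (K1.f18805 IH) (Lpr_et (f62765 IH) (Lpr_gt (K28.f16052 IH) (Lpr_ef (K49.f490196 IH) (Lpr_dt (K49.f625824 IH) (Lpn K49.v3478)))))))))))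
def v4017 : LQ := Led Lsl_dt K30.v1179
theorem f629005 : Led Lsl_dt K30.v1179 = v4017 :=
  Lrfl
theorem f629008 : Led Lsl_df K30.v1179 = v4017 :=
  Lgr Lrot38 (Lpr_dt (f629005 IH) (Lpn v4017))
theorem f675997 : Led Lsl_gf v4017 = K61.v9444 :=
  Lgr Lrot143 (Lpe (f629008 IH) (Lpe (K30.f493526 IH) (Lpr_df (f493534 IH) (Lpr_gf (f625828 IH) (Lpe (K49.f625824 IH) (Lpe (f625806 IH) (Lpr_cf (f675747 IH) (Lpe (f675750 IH) (Lpr_dt (K61.f675994 IH) (Lpn K61.v9444))))))))))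
theorem f65040 : Led Lsl_dt (LP (LK LD1_c3 LD2_c29 LD3_c56)) = (LP (LK LD1_c1 LD2_c41 LD3_c39)) :=
  Lre_d IH (LK LD1_c3 LD2_c29 LD3_c56) (LK LD1_c1 LD2_c41 LD3_c39) Lrfl Lrfl
theorem f65039 : Led Lsl_et (LP (LK LD1_c3 LD2_c29 LD3_c56)) = (LP (LK LD1_c7 LD2_c1 LD3_c29)) :=
  Lre_e IH (LK LD1_c3 LD2_c29 LD3_c56) (LK LD1_c7 LD2_c1 LD3_c29) Lrfl Lrfl
theorem f63175 : Led Lsl_gt (LP (LK LD1_c7 LD2_c1 LD3_c29)) = (LP (LK LD1_c13 LD2_c19 LD3_c30)) :=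
  Lre_g IH (LK LD1_c7 LD2_c1 LD3_c29) (LK LD1_c13 LD2_c19 LD3_c30) Lrfl Lrfl
theorem f439910 : Led Lsl_et (LP (LK LD1_c22 LD2_c36 LD3_c2)) = (LP (LK LD1_c13 LD2_c19 LD3_c30)) :=
  Lre_e IH (LK LD1_c22 LD2_c36 LD3_c2) (LK LD1_c13 LD2_c19 LD3_c30) Lrfl Lrfl
theorem f814714 : Led Lsl_df (LP (LK LD1_c7 LD2_c46 LD3_c52)) = v23089 :=
  Lgr Lrot38 (Lpr_dt (f814713 IH) (Lpn v23089))
theorem f666426 : Led Lsl_gt (LP (LK LD1_c14 LD2_c40 LD3_c49)) = (LP (LK LD1_c7 LD2_c46 LD3_c52)) :=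
  Lre_g IH (LK LD1_c14 LD2_c40 LD3_c49) (LK LD1_c7 LD2_c46 LD3_c52) Lrfl Lrfl
theorem f814722 : Led Lsl_dt (LP (LK LD1_c22 LD2_c36 LD3_c2)) = (LP (LK LD1_c14 LD2_c40 LD3_c49)) :=
  Lgr Lrot136 (Lpr_et (f439910 IH) (Lpe (f63175 IH) (Lpe (f65039 IH) (Lpr_dt (f65040 IH) (Lpr_gf (K34.f511970 IH) (Lpqs (K34.f528014 IH) (Lpr_df (f629008 IH) (Lpr_gf (f675997 IH) (Lpr_ef (f814715 IH) (Lpe (f814714 IH) (Lpe (f666426 IH) (Lpn (LP (LK LD1_c14 LD2_c40 LD3_c49))))))))))))))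
theorem f814723 : Led Lsl_dt (LP (LK LD1_c22 LD2_c36 LD3_c2)) = (LP (LK LD1_c14 LD2_c40 LD3_c49)) :=
  Leop (Lpe (f814722 IH) (Lpn (LP (LK LD1_c22 LD2_c36 LD3_c2))))
theorem seed_1801 : LEOK LG_d (LK LD1_c22 LD2_c36 LD3_c2) :=
  Leoe_d (LK LD1_c22 LD2_c36 LD3_c2) (f814723 IH)
def v23093 : LQ := Led Lsl_ft (LP (LK LD1_c7 LD2_c46 LD3_c55))
theorem f814739 : Led Lsl_ft (LP (LK LD1_c7 LD2_c46 LD3_c55)) = v23093 :=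
  Lrfl
theorem f656988 : Led Lsl_gt (LP (LK LD1_c7 LD2_c46 LD3_c55)) = (LP (LK LD1_c14 LD2_c40 LD3_c54)) :=
  Lre_g IH (LK LD1_c7 LD2_c46 LD3_c55) (LK LD1_c14 LD2_c40 LD3_c54) Lrfl Lrfl
theorem f64086 : Led Lsl_ft (LP (LK LD1_c7 LD2_c46 LD3_c58)) = (LP (LK LD1_c14 LD2_c41 LD3_c0)) :=
  Lre_f IH (LK LD1_c7 LD2_c46 LD3_c58) (LK LD1_c14 LD2_c41 LD3_c0) Lrfl Lrfl
theorem f527701 : Led Lsl_et (LP (LK LD1_c14 LD2_c10 LD3_c36)) = (LP (LK LD1_c7 LD2_c30 LD3_c24)) :=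
  Lre_e IH (LK LD1_c14 LD2_c10 LD3_c36) (LK LD1_c7 LD2_c30 LD3_c24) Lrfl Lrfl
theorem f656906 : Led Lsl_ft (LP (LK LD1_c23 LD2_c46 LD3_c1)) = (LP (LK LD1_c14 LD2_c10 LD3_c36)) :=
  Lre_f IH (LK LD1_c23 LD2_c46 LD3_c1) (LK LD1_c14 LD2_c10 LD3_c36) Lrfl Lrfl
theorem f656907 : Led Lsl_et (LP (LK LD1_c14 LD2_c41 LD3_c0)) = (LP (LK LD1_c23 LD2_c46 LD3_c1)) :=
  Lgr Lrot69 (Lpe (f64086 IH) (Lpe (K46.f63704 IH) (Lpr_ff (K46.f656900 IH) (Lpe (f527701 IH) (Lpe (f656906 IH) (Lpn (LP (LK LD1_c23 LD2_c46 LD3_c1))))))))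
theorem f656912 : Led Lsl_ef (LP (LK LD1_c14 LD2_c41 LD3_c0)) = (LP (LK LD1_c23 LD2_c46 LD3_c1)) :=
  Lgr Lrot88 (Lpr_et (f656907 IH) (Lpn (LP (LK LD1_c23 LD2_c46 LD3_c1))))
theorem f64141 : Led Lsl_bt (LP (LK LD1_c14 LD2_c41 LD3_c0)) = (LP (LK LD1_c24 LD2_c25 LD3_c17)) :=
  Lre_b IH (LK LD1_c14 LD2_c41 LD3_c0) (LK LD1_c24 LD2_c25 LD3_c17) Lrfl Lrfl
theorem f656914 : Led Lsl_bt (LP (LK LD1_c31 LD2_c12 LD3_c45)) = (LP (LK LD1_c23 LD2_c46 LD3_c1)) :=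
  Lre_b IH (LK LD1_c31 LD2_c12 LD3_c45) (LK LD1_c23 LD2_c46 LD3_c1) Lrfl Lrfl
theorem f656915 : Led Lsl_et (LP (LK LD1_c24 LD2_c25 LD3_c17)) = (LP (LK LD1_c31 LD2_c12 LD3_c45)) :=
  Lgr Lrot74 (Lpe (f64141 IH) (Lpr_ef (f656912 IH) (Lpe (f656914 IH) (Lpn (LP (LK LD1_c31 LD2_c12 LD3_c45))))))
theorem f656919 : Led Lsl_ft (LP (LK LD1_c14 LD2_c40 LD3_c56)) = (LP (LK LD1_c24 LD2_c25 LD3_c17)) :=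
  Lre_f IH (LK LD1_c14 LD2_c40 LD3_c56) (LK LD1_c24 LD2_c25 LD3_c17) Lrfl Lrfl
theorem f64158 : Led Lsl_et (LP (LK LD1_c7 LD2_c46 LD3_c56)) = (LP (LK LD1_c14 LD2_c40 LD3_c56)) :=
  Lre_e IH (LK LD1_c7 LD2_c46 LD3_c56) (LK LD1_c14 LD2_c40 LD3_c56) Lrfl Lrfl
theorem f656920 : Led Lsl_ft (LP (LK LD1_c31 LD2_c12 LD3_c45)) = (LP (LK LD1_c23 LD2_c45 LD3_c61)) :=
  Lre_f IH (LK LD1_c31 LD2_c12 LD3_c45) (LK LD1_c23 LD2_c45 LD3_c61) Lrfl Lrfl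
theorem f656921 : Led Lsl_et (LP (LK LD1_c23 LD2_c45 LD3_c61)) = (LP (LK LD1_c14 LD2_c10 LD3_c34)) :=
  Lre_e IH (LK LD1_c23 LD2_c45 LD3_c61) (LK LD1_c14 LD2_c10 LD3_c34) Lrfl Lrfl
theorem f656922 : Led Lsl_ff (LP (LK LD1_c7 LD2_c46 LD3_c56)) = (LP (LK LD1_c14 LD2_c10 LD3_c34)) :=
  Lgr Lrot72 (Lpr_et (f64158 IH) (Lpr_ft (f656919 IH) (Lpr_et (f656915 IH) (Lpr_ft (f656920 IH) (Lpr_et (f656921 IH) (Lpn (LP (LK LD1_c14 LD2_c10 LD3_c34))))))))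
theorem f656924 : Led Lsl_at (LP (LK LD1_c23 LD2_c45 LD3_c60)) = (LP (LK LD1_c14 LD2_c10 LD3_c34)) :=
  Lre_a IH (LK LD1_c23 LD2_c45 LD3_c60) (LK LD1_c14 LD2_c10 LD3_c34) Lrfl Lrfl
theorem f656925 : Led Lsl_ft (LP (LK LD1_c14 LD2_c30 LD3_c44)) = (LP (LK LD1_c23 LD2_c45 LD3_c60)) :=
  Lgr Lrot101 (Lpr_af (K48.f656752 IH) (Lpr_ff (f656922 IH) (Lpe (f656924 IH) (Lpn (LP (LK LD1_c23 LD2_c45 LD3_c60))))))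
theorem f656936 : Led Lsl_ff (LP (LK LD1_c14 LD2_c30 LD3_c44)) = (LP (LK LD1_c23 LD2_c45 LD3_c60)) :=
  Lgr Lrot3 (Lpr_ft (f656925 IH) (Lpn (LP (LK LD1_c23 LD2_c45 LD3_c60))))
theorem f656939 : Led Lsl_bt (LP (LK LD1_c14 LD2_c28 LD3_c48)) = (LP (LK LD1_c23 LD2_c45 LD3_c60)) :=
  Lgr Lrot35 (Lpr_ff (K46.f533058 IH) (Lpe (K48.f656754 IH) (Lpr_ff (f656936 IH) (Lpn (LP (LK LD1_c23 LD2_c45 LD3_c60))))))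
theorem f533053 : Led Lsl_et (LP (LK LD1_c24 LD2_c9 LD3_c57)) = (LP (LK LD1_c14 LD2_c28 LD3_c48)) :=
  Lre_e IH (LK LD1_c24 LD2_c9 LD3_c57) (LK LD1_c14 LD2_c28 LD3_c48) Lrfl Lrfl
theorem f656935 : Led Lsl_et (LP (LK LD1_c23 LD2_c45 LD3_c60)) = (LP (LK LD1_c31 LD2_c12 LD3_c42)) :=
  Lre_e IH (LK LD1_c23 LD2_c45 LD3_c60) (LK LD1_c31 LD2_c12 LD3_c42) Lrfl Lrfl
theorem f656948 : Led Lsl_bf (LP (LK LD1_c24 LD2_c9 LD3_c57)) = (LP (LK LD1_c31 LD2_c12 LD3_c42)) :=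
  Lgr Lrot96 (Lpr_et (f533053 IH) (Lpr_bt (f656939 IH) (Lpr_et (f656935 IH) (Lpn (LP (LK LD1_c31 LD2_c12 LD3_c42))))))
theorem f656954 : Led Lsl_bt (LP (LK LD1_c24 LD2_c9 LD3_c57)) = (LP (LK LD1_c31 LD2_c12 LD3_c42)) :=
  Lgr Lrot127 (Lpr_bf (f656948 IH) (Lpn (LP (LK LD1_c31 LD2_c12 LD3_c42))))
theorem f655262 : Led Lsl_et (LP (LK LD1_c7 LD2_c46 LD3_c53)) = (LP (LK LD1_c14 LD2_c40 LD3_c52)) :=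
  Lre_e IH (LK LD1_c7 LD2_c46 LD3_c53) (LK LD1_c14 LD2_c40 LD3_c52) Lrfl Lrfl
theorem f655263 : Led Lsl_at (LP (LK LD1_c14 LD2_c40 LD3_c52)) = (LP (LK LD1_c24 LD2_c9 LD3_c57)) :=
  Lgr Lrot80 (Lpe (f655262 IH) (Lpr_af (K46.f655256 IH) (Lpe (f533053 IH) (Lpn (LP (LK LD1_c24 LD2_c9 LD3_c57))))))
theorem f655267 : Led Lsl_bt (LP (LK LD1_c7 LD2_c46 LD3_c55)) = (LP (LK LD1_c14 LD2_c40 LD3_c52)) :=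
  Lre_b IH (LK LD1_c7 LD2_c46 LD3_c55) (LK LD1_c14 LD2_c40 LD3_c52) Lrfl Lrfl
theorem f656956 : Led Lsl_at (LP (LK LD1_c31 LD2_c12 LD3_c42)) = (LP (LK LD1_c23 LD2_c45 LD3_c61)) :=
  Lre_a IH (LK LD1_c31 LD2_c12 LD3_c42) (LK LD1_c23 LD2_c45 LD3_c61) Lrfl Lrfl
theorem f656957 : Led Lsl_bt (LP (LK LD1_c23 LD2_c45 LD3_c61)) = (LP (LK LD1_c14 LD2_c10 LD3_c36)) :=
  Lre_b IH (LK LD1_c23 LD2_c45 LD3_c61) (LK LD1_c14 LD2_c10 LD3_c36) Lrfl Lrfl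
theorem f656958 : Led Lsl_af (LP (LK LD1_c7 LD2_c46 LD3_c55)) = (LP (LK LD1_c14 LD2_c10 LD3_c36)) :=
  Lgr Lrot36 (Lpr_bt (f655267 IH) (Lpr_at (f655263 IH) (Lpr_bt (f656954 IH) (Lpr_at (f656956 IH) (Lpr_bt (f656957 IH) (Lpn (LP (LK LD1_c14 LD2_c10 LD3_c36))))))))
theorem f814740 : Led Lsl_af (LP (LK LD1_c23 LD2_c46 LD3_c1)) = v23093 :=
  Lgr Lrot45 (Lpr_ft (f656906 IH) (Lpe (f656958 IH) (Lpr_ft (f814739 IH) (Lpn v23093))))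
theorem f814744 : Led Lsl_gt (LP (LK LD1_c14 LD2_c40 LD3_c54)) = (LP (LK LD1_c23 LD2_c46 LD3_c1)) :=
  Lgr Lrot46 (Lpe (f656988 IH) (Lpr_ft (f814739 IH) (Lpe (f814740 IH) (Lpn (LP (LK LD1_c23 LD2_c46 LD3_c1))))))
theorem f814745 : Led Lsl_gt (LP (LK LD1_c14 LD2_c40 LD3_c54)) = (LP (LK LD1_c23 LD2_c46 LD3_c1)) :=
  Leop (Lpe (f814744 IH) (Lpn (LP (LK LD1_c14 LD2_c40 LD3_c54))))
theorem seed_1802 : LEOK LG_g (LK LD1_c14 LD2_c40 LD3_c54) :=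
  Leoe_g (LK LD1_c14 LD2_c40 LD3_c54) (f814745 IH)
def v23116 : LQ := Led Lsl_at (LP (LK LD1_c7 LD2_c47 LD3_c40))
theorem f814873 : Led Lsl_at (LP (LK LD1_c7 LD2_c47 LD3_c40)) = v23116 :=
  Lrfl
theorem f814876 : Led Lsl_cf (LP (LK LD1_c14 LD2_c55 LD3_c9)) = v23116 :=
  Lgr Lrot1 (Lpr_at (K40.f474031 IH) (Lpr_ct (K46.f474029 IH) (Lpr_at (f814873 IH) (Lpn v23116))))
theorem f745332 : Led Lsl_bt (LP (LK LD1_c13 LD2_c10 LD3_c9)) = (LP (LK LD1_c22 LD2_c22 LD3_c41)) :=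
  Lre_b IH (LK LD1_c13 LD2_c10 LD3_c9) (LK LD1_c22 LD2_c22 LD3_c41) Lrfl Lrfl
theorem f520226 : Led Lsl_af (LP (LK LD1_c3 LD2_c49 LD3_c39)) = (LP (LK LD1_c3 LD2_c52 LD3_c60)) :=
  Lgr Lrot50 (Lpr_et (K29.f87814 IH) (Lpr_at (K33.f520112 IH) (Lpe (K33.f477338 IH) (Lpn (LP (LK LD1_c3 LD2_c52 LD3_c60))))))
theorem f520461 : Led Lsl_at (LP (LK LD1_c3 LD2_c52 LD3_c59)) = (LP (LK LD1_c3 LD2_c52 LD3_c55)) :=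
  Lgr Lrot66 (Lpr_ff (K33.f520459 IH) (Lpr_af (f520226 IH) (Lpr_ff (K48.f520429 IH) (Lpn (LP (LK LD1_c3 LD2_c52 LD3_c55))))))
theorem f474081 : Led Lsl_bt (LP (LK LD1_c7 LD2_c47 LD3_c46)) = (LP (LK LD1_c3 LD2_c52 LD3_c59)) :=
  Lre_b IH (LK LD1_c7 LD2_c47 LD3_c46) (LK LD1_c3 LD2_c52 LD3_c59) Lrfl Lrfl
theorem f814875 : Led Lsl_bf (LP (LK LD1_c14 LD2_c42 LD3_c42)) = v23116 :=
  Lgr Lrot81 (Lpr_at (K62.f521973 IH) (Lpr_bt (f474081 IH) (Lpr_at (f520461 IH) (Lpr_bt (K40.f464042 IH) (Lpr_at (f814873 IH) (Lpn v23116))))))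
theorem f521978 : Led Lsl_ft (LP (LK LD1_c14 LD2_c42 LD3_c42)) = (LP (LK LD1_c14 LD2_c27 LD3_c29)) :=
  Lgr Lrot48 (Lpr_ff (K62.f521974 IH) (Lpn (LP (LK LD1_c14 LD2_c27 LD3_c29))))
theorem f521982 : Led Lsl_gt (LP (LK LD1_c14 LD2_c42 LD3_c42)) = (LP (LK LD1_c14 LD2_c27 LD3_c34)) :=
  Lgr Lrot5 (Lpr_ft (f521978 IH) (Lpr_at (K33.f461736 IH) (Lpe (K57.f461743 IH) (Lpn (LP (LK LD1_c14 LD2_c27 LD3_c34))))))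
theorem f756713 : Led Lsl_cf (LP (LK LD1_c12 LD2_c8 LD3_c2)) = (LP (LK LD1_c14 LD2_c27 LD3_c34)) :=
  Lgr Lrot11 (Lpr_ct (K57.f756711 IH) (Lpn (LP (LK LD1_c14 LD2_c27 LD3_c34))))
theorem f552957 : Led Lsl_gt (LP (LK LD1_c12 LD2_c8 LD3_c2)) = (LP (LK LD1_c21 LD2_c14 LD3_c18)) :=
  Lre_g IH (LK LD1_c12 LD2_c8 LD3_c2) (LK LD1_c21 LD2_c14 LD3_c18) Lrfl Lrfl
theorem f814885 : Led Lsl_ct (LP (LK LD1_c13 LD2_c10 LD3_c9)) = (LP (LK LD1_c21 LD2_c14 LD3_c18)) :=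
  Lgr Lrot63 (Lpr_bt (f745332 IH) (Lpr_gt (K57.f756729 IH) (Lpr_bf (K48.f607604 IH) (Lpr_ct (K48.f479851 IH) (Lpr_gt (K48.f520642 IH) (Lpr_cf (f814876 IH) (Lpe (f814875 IH) (Lpr_gt (f521982 IH) (Lpe (f756713 IH) (Lpr_gt (f552957 IH) (Lpn (LP (LK LD1_c21 LD2_c14 LD3_c18)))))))))))))
theorem f814886 : Led Lsl_ct (LP (LK LD1_c13 LD2_c10 LD3_c9)) = (LP (LK LD1_c21 LD2_c14 LD3_c18)) :=
  Leop (Lpe (f814885 IH) (Lpn (LP (LK LD1_c13 LD2_c10 LD3_c9))))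
theorem seed_1803 : LEOK LG_c (LK LD1_c13 LD2_c10 LD3_c9) :=
  Leoe_c (LK LD1_c13 LD2_c10 LD3_c9) (f814886 IH)
def v23122 : LQ := Led Lsl_bt (LP (LK LD1_c7 LD2_c47 LD3_c50))
theorem f814964 : Led Lsl_bt (LP (LK LD1_c7 LD2_c47 LD3_c50)) = v23122 :=
  Lrfl
theorem f485044 : Led Lsl_bt (LP (LK LD1_c7 LD2_c38 LD3_c11)) = (LP (LK LD1_c3 LD2_c48 LD3_c35)) :=
  Lre_b IH (LK LD1_c7 LD2_c38 LD3_c11) (LK LD1_c3 LD2_c48 LD3_c35) Lrfl Lrfl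
theorem f805954 : Led Lsl_ff (LP (LK LD1_c7 LD2_c38 LD3_c11)) = (LP (LK LD1_c14 LD2_c23 LD3_c9)) :=
  Lgr Lrot25 (Lpr_bt (f485044 IH) (Lpr_ft (f665708 IH) (Lpq (f805949 IH) (Lpr_bt (K34.f485480 IH) (Lpn (LP (LK LD1_c14 LD2_c23 LD3_c9)))))))
theorem f560860 : Led Lsl_at (LP (LK LD1_c7 LD2_c38 LD3_c11)) = (LP (LK LD1_c14 LD2_c23 LD3_c20)) :=
  Lre_a IH (LK LD1_c7 LD2_c38 LD3_c11) (LK LD1_c14 LD2_c23 LD3_c20) Lrfl Lrfl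
theorem f805962 : Led Lsl_gf (LP (LK LD1_c14 LD2_c23 LD3_c20)) = (LP (LK LD1_c14 LD2_c19 LD3_c29)) :=
  Lgr Lrot76 (Lpe (f560860 IH) (Lpr_ff (f805954 IH) (Lpe (K34.f485485 IH) (Lpn (LP (LK LD1_c14 LD2_c19 LD3_c29))))))
theorem f516240 : Led Lsl_bf (LP (LK LD1_c6 LD2_c55 LD3_c26)) = (LP (LK LD1_c7 LD2_c38 LD3_c39)) :=
  Lgr Lrot24 (Lpr_bt (K33.f516238 IH) (Lpn (LP (LK LD1_c7 LD2_c38 LD3_c39))))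
theorem f516434 : Led Lsl_bf (LP (LK LD1_c13 LD2_c33 LD3_c33)) = (LP (LK LD1_c7 LD2_c38 LD3_c46)) :=
  Lgr Lrot61 (Lpr_ft (K34.f516384 IH) (Lpe (f516240 IH) (Lpr_ft (K33.f484890 IH) (Lpn (LP (LK LD1_c7 LD2_c38 LD3_c46))))))
theorem f516442 : Led Lsl_gf (LP (LK LD1_c14 LD2_c28 LD3_c60)) = (LP (LK LD1_c14 LD2_c49 LD3_c43)) :=
  Lgr Lrot126 (Lpe (K48.f117314 IH) (Lpe (f486193 IH) (Lpr_gt (K48.f486183 IH) (Lpr_ct (K33.f486164 IH) (Lpe (K48.f515563 IH) (Lpe (K33.f484895 IH) (Lpe (f516434 IH) (Lpr_gt (K34.f516438 IH) (Lpr_bf (K33.f144893 IH) (Lpe (K8.f132136 IH) (Lpn (LP (LK LD1_c14 LD2_c49 LD3_c43)))))))))))))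
theorem f516615 : Led Lsl_gt (LP (LK LD1_c14 LD2_c28 LD3_c60)) = (LP (LK LD1_c24 LD2_c3 LD3_c45)) :=
  Lgr Lrot46 (Lpr_gf (f516442 IH) (Lpe (K37.f485102 IH) (Lpr_at (K37.f485104 IH) (Lpn (LP (LK LD1_c24 LD2_c3 LD3_c45))))))
theorem f805968 : Led Lsl_bf (LP (LK LD1_c14 LD2_c23 LD3_c20)) = (LP (LK LD1_c7 LD2_c42 LD3_c5)) :=
  Lgr Lrot34 (Lpr_gf (f805962 IH) (Lpe (K34.f485412 IH) (Lpr_ct (K33.f485414 IH) (Lpe (f516615 IH) (Lpe (K48.f117314 IH) (Lpe (K29.f117155 IH) (Lpr_bf (K4.f117302 IH) (Lpe (K8.f15215 IH) (Lpe (K48.f15233 IH) (Lpr_cf (K48.f486195 IH) (Lpn (LP (LK LD1_c7 LD2_c42 LD3_c5)))))))))))))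
theorem f457272 : Led Lsl_gt (LP (LK LD1_c7 LD2_c16 LD3_c21)) = (LP (LK LD1_c13 LD2_c45 LD3_c43)) :=
  Lre_g IH (LK LD1_c7 LD2_c16 LD3_c21) (LK LD1_c13 LD2_c45 LD3_c43) Lrfl Lrfl
theorem f482189 : Led Lsl_gf (LP (LK LD1_c7 LD2_c35 LD3_c4)) = (LP (LK LD1_c13 LD2_c45 LD3_c43)) :=
  Lgr Lrot76 (Lpe (K33.f479224 IH) (Lpr_ff (K33.f482185 IH) (Lpr_gt (f457272 IH) (Lpn (LP (LK LD1_c13 LD2_c45 LD3_c43))))))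
theorem f16769 : Led Lsl_dt (LP (LK LD1_c3 LD2_c47 LD3_c32)) = (LP (LK LD1_c7 LD2_c35 LD3_c57)) :=
  Lre_d IH (LK LD1_c3 LD2_c47 LD3_c32) (LK LD1_c7 LD2_c35 LD3_c57) Lrfl Lrfl
theorem f162437 : Led Lsl_af (LP (LK LD1_c3 LD2_c47 LD3_c32)) = (LP (LK LD1_c7 LD2_c30 LD3_c17)) :=
  Lgr Lrot117 (Lpr_dt (f16769 IH) (Lpr_at (K61.f162429 IH) (Lpr_dt (K61.f89754 IH) (Lpn (LP (LK LD1_c7 LD2_c30 LD3_c17))))))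
theorem f486774 : Led Lsl_ft (LP (LK LD1_c13 LD2_c45 LD3_c43)) = (LP (LK LD1_c7 LD2_c30 LD3_c17)) :=
  Lgr Lrot2 (Lpe (f482189 IH) (Lpr_gt (K33.f486772 IH) (Lpr_af (f162437 IH) (Lpn (LP (LK LD1_c7 LD2_c30 LD3_c17))))))
theorem f560850 : Led Lsl_ct (LP (LK LD1_c14 LD2_c23 LD3_c19)) = (LP (LK LD1_c13 LD2_c45 LD3_c43)) :=
  Lgr Lrot40 (Lpr_ff (K61.f560833 IH) (Lpe (K33.f89751 IH) (Lpe (f486774 IH) (Lpn (LP (LK LD1_c13 LD2_c45 LD3_c43))))))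
theorem f486798 : Led Lsl_bt (LP (LK LD1_c13 LD2_c8 LD3_c5)) = (LP (LK LD1_c14 LD2_c19 LD3_c27)) :=
  Lgr Lrot128 (Lpe (K34.f15184 IH) (Lpe (K34.f485465 IH) (Lpr_cf (K34.f485481 IH) (Lpe (K34.f88568 IH) (Lpr_cf (K34.f486796 IH) (Lpn (LP (LK LD1_c14 LD2_c19 LD3_c27))))))))
theorem f560852 : Led Lsl_gf (LP (LK LD1_c14 LD2_c23 LD3_c19)) = (LP (LK LD1_c14 LD2_c19 LD3_c27)) :=
  Lgr Lrot181 (Lpr_ct (f560850 IH) (Lpe (f482189 IH) (Lpe (K33.f466739 IH) (Lpr_bt (K33.f466738 IH) (Lpr_gt (K48.f485563 IH) (Lpe (K33.f15094 IH) (Lpe (K4.f15143 IH) (Lpr_gt (f15176 IH) (Lpe (K34.f15194 IH) (Lpr_bt (f486798 IH) (Lpn (LP (LK LD1_c14 LD2_c19 LD3_c27)))))))))))))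
theorem f560854 : Led Lsl_at (LP (LK LD1_c14 LD2_c23 LD3_c20)) = (LP (LK LD1_c7 LD2_c38 LD3_c11)) :=
  Lre_a IH (LK LD1_c14 LD2_c23 LD3_c20) (LK LD1_c7 LD2_c38 LD3_c11) Lrfl Lrfl
theorem f560855 : Led Lsl_ff (LP (LK LD1_c14 LD2_c23 LD3_c20)) = (LP (LK LD1_c14 LD2_c19 LD3_c27)) :=
  Lgr Lrot52 (Lpr_at (f560854 IH) (Lpe (K61.f487298 IH) (Lpr_gf (f560852 IH) (Lpn (LP (LK LD1_c14 LD2_c19 LD3_c27))))))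
theorem f560858 : Led Lsl_ft (LP (LK LD1_c14 LD2_c23 LD3_c20)) = (LP (LK LD1_c14 LD2_c19 LD3_c27)) :=
  Lgr Lrot48 (Lpr_ff (f560855 IH) (Lpn (LP (LK LD1_c14 LD2_c19 LD3_c27))))
theorem f805977 : Led Lsl_ft (LP (LK LD1_c13 LD2_c8 LD3_c5)) = (LP (LK LD1_c7 LD2_c42 LD3_c5)) :=
  Lgr Lrot75 (Lpr_bf (K34.f486794 IH) (Lpe (f560858 IH) (Lpr_bf (f805968 IH) (Lpn (LP (LK LD1_c7 LD2_c42 LD3_c5))))))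
theorem f805983 : Led Lsl_af (LP (LK LD1_c13 LD2_c8 LD3_c9)) = (LP (LK LD1_c7 LD2_c42 LD3_c5)) :=
  Lgr Lrot31 (Lpe (K33.f486928 IH) (Lpr_gf (K34.f485458 IH) (Lpr_ft (f805977 IH) (Lpn (LP (LK LD1_c7 LD2_c42 LD3_c5))))))
theorem f786431 : Led Lsl_et (LP (LK LD1_c6 LD2_c54 LD3_c50)) = (LP (LK LD1_c13 LD2_c8 LD3_c11)) :=
  Lre_e IH (LK LD1_c6 LD2_c54 LD3_c50) (LK LD1_c13 LD2_c8 LD3_c11) Lrfl Lrfl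
theorem f804514 : Led Lsl_et (LP (LK LD1_c13 LD2_c12 LD3_c39)) = (LP (LK LD1_c13 LD2_c8 LD3_c9)) :=
  Lgr Lrot158 (Lpr_cf (K62.f804508 IH) (Lpe (f786431 IH) (Lpe (K33.f15196 IH) (Lpn (LP (LK LD1_c13 LD2_c8 LD3_c9))))))
theorem f804705 : Led Lsl_ef (LP (LK LD1_c13 LD2_c12 LD3_c39)) = (LP (LK LD1_c13 LD2_c8 LD3_c9)) :=
  Lgr Lrot88 (Lpr_et (f804514 IH) (Lpn (LP (LK LD1_c13 LD2_c8 LD3_c9))))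
theorem f805987 : Led Lsl_at (LP (LK LD1_c13 LD2_c12 LD3_c39)) = (LP (LK LD1_c13 LD2_c12 LD3_c57)) :=
  Lgr Lrot80 (Lpr_ef (f804705 IH) (Lpr_af (f805983 IH) (Lpr_ef (f804582 IH) (Lpn (LP (LK LD1_c13 LD2_c12 LD3_c57))))))
theorem f806005 : Led Lsl_af (LP (LK LD1_c13 LD2_c8 LD3_c11)) = (LP (LK LD1_c14 LD2_c41 LD3_c59)) :=
  Lgr Lrot68 (Lpe (K62.f804508 IH) (Lpr_at (f805987 IH) (Lpe (f530380 IH) (Lpn (LP (LK LD1_c14 LD2_c41 LD3_c59))))))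
theorem f486959 : Led Lsl_et (LP (LK LD1_c13 LD2_c8 LD3_c8)) = (LP (LK LD1_c22 LD2_c20 LD3_c7)) :=
  Lre_e IH (LK LD1_c13 LD2_c8 LD3_c8) (LK LD1_c22 LD2_c20 LD3_c7) Lrfl Lrfl
theorem f804496 : Led Lsl_et (LP (LK LD1_c14 LD2_c42 LD3_c50)) = (LP (LK LD1_c14 LD2_c18 LD3_c7)) :=
  Lgr Lrot87 (Lpr_ef (K62.f804486 IH) (Lpn (LP (LK LD1_c14 LD2_c18 LD3_c7))))
theorem f805870 : Led Lsl_at (LP (LK LD1_c22 LD2_c20 LD3_c7)) = (LP (LK LD1_c14 LD2_c42 LD3_c50)) :=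
  Lgr Lrot80 (Lpe (f486959 IH) (Lpr_af (f805864 IH) (Lpe (f804496 IH) (Lpn (LP (LK LD1_c14 LD2_c42 LD3_c50))))))
theorem f806070 : Led Lsl_at (LP (LK LD1_c7 LD2_c47 LD3_c51)) = (LP (LK LD1_c7 LD2_c47 LD3_c24)) :=
  Lgr Lrot67 (Lpe (K62.f475964 IH) (Lpe (f805870 IH) (Lpe (K62.f804505 IH) (Lpr_af (f806005 IH) (Lpe (f530378 IH) (Lpn (LP (LK LD1_c7 LD2_c47 LD3_c24))))))))
theorem f458027 : Led Lsl_gt (LP (LK LD1_c7 LD2_c47 LD3_c25)) = (LP (LK LD1_c3 LD2_c52 LD3_c50)) :=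
  Lre_g IH (LK LD1_c7 LD2_c47 LD3_c25) (LK LD1_c3 LD2_c52 LD3_c50) Lrfl Lrfl
theorem f806078 : Led Lsl_ff (LP (LK LD1_c7 LD2_c47 LD3_c51)) = (LP (LK LD1_c7 LD2_c47 LD3_c25)) :=
  Lgr Lrot52 (Lpr_at (f806070 IH) (Lpe (K34.f63022 IH) (Lpe (f458027 IH) (Lpn (LP (LK LD1_c7 LD2_c47 LD3_c25))))))
theorem f806084 : Led Lsl_ft (LP (LK LD1_c7 LD2_c47 LD3_c51)) = (LP (LK LD1_c7 LD2_c47 LD3_c25)) :=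
  Lgr Lrot48 (Lpr_ff (f806078 IH) (Lpn (LP (LK LD1_c7 LD2_c47 LD3_c25))))
theorem f806090 : Led Lsl_af (LP (LK LD1_c7 LD2_c47 LD3_c50)) = (LP (LK LD1_c7 LD2_c47 LD3_c25)) :=
  Lgr Lrot31 (Lpe (K62.f451237 IH) (Lpe (K62.f475960 IH) (Lpr_ft (f806084 IH) (Lpn (LP (LK LD1_c7 LD2_c47 LD3_c25))))))
theorem f806072 : Led Lsl_af (LP (LK LD1_c7 LD2_c47 LD3_c51)) = (LP (LK LD1_c7 LD2_c47 LD3_c24)) :=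
  Lgr Lrot0 (Lpr_at (f806070 IH) (Lpn (LP (LK LD1_c7 LD2_c47 LD3_c24))))
theorem f806096 : Led Lsl_ft (LP (LK LD1_c7 LD2_c47 LD3_c50)) = (LP (LK LD1_c7 LD2_c47 LD3_c24)) :=
  Lgr Lrot101 (Lpr_af (f806090 IH) (Lpe (f806084 IH) (Lpr_af (f806072 IH) (Lpn (LP (LK LD1_c7 LD2_c47 LD3_c24))))))
theorem f804599 : Led Lsl_df (LP (LK LD1_c22 LD2_c40 LD3_c27)) = (LP (LK LD1_c14 LD2_c41 LD3_c59)) :=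
  Lgr Lrot132 (Lpr_gf (K61.f789821 IH) (Lpe (f458499 IH) (Lpqs (K62.f801887 IH) (Lpe (K62.f786020 IH) (Lpe (K7.f115885 IH) (Lpr_dt (K24.f151539 IH) (Lpe (K7.f151563 IH) (Lpr_df (K8.f137244 IH) (Lpr_et (K6.f15210 IH) (Lpe (K48.f15233 IH) (Lpr_ef (f804590 IH) (Lpn (LP (LK LD1_c14 LD2_c41 LD3_c59))))))))))))))
theorem f804601 : Led Lsl_dt (LP (LK LD1_c13 LD2_c22 LD3_c49)) = (LP (LK LD1_c7 LD2_c47 LD3_c24)) :=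
  Lgr Lrot79 (Lpe (K61.f461400 IH) (Lpr_df (f804599 IH) (Lpe (f530378 IH) (Lpn (LP (LK LD1_c7 LD2_c47 LD3_c24))))))
theorem f513073 : Led Lsl_dt (LP (LK LD1_c3 LD2_c30 LD3_c41)) = (LP (LK LD1_c7 LD2_c3 LD3_c22)) :=
  Lre_d IH (LK LD1_c3 LD2_c30 LD3_c41) (LK LD1_c7 LD2_c3 LD3_c22) Lrfl Lrfl
def v6807 : LQ := Led Lsl_gf (LP (LK LD1_c3 LD2_c30 LD3_c41))
theorem f658586 : Led Lsl_gf (LP (LK LD1_c3 LD2_c30 LD3_c41)) = v6807 :=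
  Lrfl
theorem f801877 : (LP (LK LD1_c6 LD2_c33 LD3_c10)) = v6807 :=
  Lefun (Lecon (Lfl_gt (K62.f768568 IH)) (K62.f801874 IH)) (f658586 IH)
theorem f157454 : Led Lsl_cf (LP (LK LD1_c6 LD2_c33 LD3_c10)) = (LP (LK LD1_c4 LD2_c44 LD3_c16)) :=
  Lgr Lrot1 (Lpr_at (K62.f24157 IH) (Lpe (K62.f65886 IH) (Lpr_at (K62.f157448 IH) (Lpn (LP (LK LD1_c4 LD2_c44 LD3_c16))))))
theorem f116739 : Led Lsl_dt (LP (LK LD1_c14 LD2_c23 LD3_c26)) = (LP (LK LD1_c7 LD2_c38 LD3_c14)) :=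
  Lre_d IH (LK LD1_c14 LD2_c23 LD3_c26) (LK LD1_c7 LD2_c38 LD3_c14) Lrfl Lrfl
theorem f804607 : Led Lsl_cf (LP (LK LD1_c7 LD2_c38 LD3_c14)) = (LP (LK LD1_c7 LD2_c47 LD3_c24)) :=
  Lgr Lrot14 (Lpe (f116739 IH) (Lpr_gf (K62.f116737 IH) (Lpe (K62.f116736 IH) (Lpe (K62.f116729 IH) (Lpe (f157454 IH) (Lpqs (f801877 IH) (Lpe (f658586 IH) (Lpr_dt (f513073 IH) (Lpr_gt (K61.f461397 IH) (Lpr_dt (f804601 IH) (Lpn (LP (LK LD1_c7 LD2_c47 LD3_c24)))))))))))))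
theorem f665712 : Led Lsl_ft (LP (LK LD1_c7 LD2_c38 LD3_c14)) = (LP (LK LD1_c14 LD2_c23 LD3_c27)) :=
  Lre_f IH (LK LD1_c7 LD2_c38 LD3_c14) (LK LD1_c14 LD2_c23 LD3_c27) Lrfl Lrfl
theorem f806098 : Led Lsl_cf (LP (LK LD1_c7 LD2_c47 LD3_c50)) = (LP (LK LD1_c14 LD2_c23 LD3_c27)) :=
  Lgr Lrot108 (Lpr_ft (f806096 IH) (Lpe (f804607 IH) (Lpr_ft (f665712 IH) (Lpn (LP (LK LD1_c14 LD2_c23 LD3_c27))))))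
theorem f806039 : Led Lsl_bt (LP (LK LD1_c24 LD2_c1 LD3_c47)) = (LP (LK LD1_c14 LD2_c23 LD3_c27)) :=
  Lre_b IH (LK LD1_c24 LD2_c1 LD3_c47) (LK LD1_c14 LD2_c23 LD3_c27) Lrfl Lrfl
theorem f806009 : Led Lsl_ff (LP (LK LD1_c13 LD2_c12 LD3_c39)) = (LP (LK LD1_c13 LD2_c12 LD3_c56)) :=
  Lgr Lrot52 (Lpr_at (f805987 IH) (Lpe (f492591 IH) (Lpr_gf (K62.f492524 IH) (Lpn (LP (LK LD1_c13 LD2_c12 LD3_c56))))))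
theorem f806015 : Led Lsl_ft (LP (LK LD1_c13 LD2_c12 LD3_c39)) = (LP (LK LD1_c13 LD2_c12 LD3_c56)) :=
  Lgr Lrot48 (Lpr_ff (f806009 IH) (Lpn (LP (LK LD1_c13 LD2_c12 LD3_c56))))
theorem f457926 : Led Lsl_gt (LP (LK LD1_c13 LD2_c12 LD3_c40)) = (LP (LK LD1_c6 LD2_c57 LD3_c25)) :=
  Lre_g IH (LK LD1_c13 LD2_c12 LD3_c40) (LK LD1_c6 LD2_c57 LD3_c25) Lrfl Lrfl
theorem f492511 : Led Lsl_gf (LP (LK LD1_c13 LD2_c12 LD3_c40)) = (LP (LK LD1_c13 LD2_c12 LD3_c58)) :=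
  Lgr Lrot47 (Lpr_gt (f457926 IH) (Lpe (K34.f457921 IH) (Lpr_ff (K34.f492506 IH) (Lpn (LP (LK LD1_c13 LD2_c12 LD3_c58))))))
theorem f806021 : Led Lsl_af (LP (LK LD1_c13 LD2_c12 LD3_c40)) = (LP (LK LD1_c13 LD2_c12 LD3_c56)) :=
  Lgr Lrot31 (Lpr_gf (f492511 IH) (Lpe (K62.f492517 IH) (Lpr_ft (f806015 IH) (Lpn (LP (LK LD1_c13 LD2_c12 LD3_c56))))))
theorem f806003 : Led Lsl_af (LP (LK LD1_c13 LD2_c12 LD3_c39)) = (LP (LK LD1_c13 LD2_c12 LD3_c57)) :=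
  Lgr Lrot0 (Lpr_at (f805987 IH) (Lpn (LP (LK LD1_c13 LD2_c12 LD3_c57))))
theorem f806026 : Led Lsl_ft (LP (LK LD1_c13 LD2_c12 LD3_c40)) = (LP (LK LD1_c13 LD2_c12 LD3_c57)) :=
  Lgr Lrot101 (Lpr_af (f806021 IH) (Lpe (f806015 IH) (Lpr_af (f806003 IH) (Lpn (LP (LK LD1_c13 LD2_c12 LD3_c57))))))
theorem f806030 : Led Lsl_ff (LP (LK LD1_c13 LD2_c12 LD3_c40)) = (LP (LK LD1_c13 LD2_c12 LD3_c57)) :=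
  Lgr Lrot3 (Lpr_ft (f806026 IH) (Lpn (LP (LK LD1_c13 LD2_c12 LD3_c57))))
theorem f806025 : Led Lsl_bt (LP (LK LD1_c13 LD2_c12 LD3_c40)) = (LP (LK LD1_c22 LD2_c26 LD3_c30)) :=
  Lre_b IH (LK LD1_c13 LD2_c12 LD3_c40) (LK LD1_c22 LD2_c26 LD3_c30) Lrfl Lrfl
theorem f469121 : Led Lsl_bt (LP (LK LD1_c22 LD2_c26 LD3_c57)) = (LP (LK LD1_c13 LD2_c12 LD3_c57)) :=
  Lre_b IH (LK LD1_c22 LD2_c26 LD3_c57) (LK LD1_c13 LD2_c12 LD3_c57) Lrfl Lrfl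
theorem f806032 : Led Lsl_ft (LP (LK LD1_c22 LD2_c26 LD3_c30)) = (LP (LK LD1_c22 LD2_c26 LD3_c57)) :=
  Lgr Lrot75 (Lpe (f806025 IH) (Lpr_ff (f806030 IH) (Lpe (f469121 IH) (Lpn (LP (LK LD1_c22 LD2_c26 LD3_c57))))))
theorem f804609 : Led Lsl_bt (LP (LK LD1_c7 LD2_c38 LD3_c14)) = (LP (LK LD1_c14 LD2_c23 LD3_c22)) :=
  Lre_b IH (LK LD1_c7 LD2_c38 LD3_c14) (LK LD1_c14 LD2_c23 LD3_c22) Lrfl Lrfl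
theorem f804611 : Led Lsl_ct (LP (LK LD1_c14 LD2_c23 LD3_c22)) = (LP (LK LD1_c22 LD2_c26 LD3_c57)) :=
  Lgr Lrot83 (Lpe (f804609 IH) (Lpr_cf (f804607 IH) (Lpe (K34.f476371 IH) (Lpr_cf (f530380 IH) (Lpe (f469121 IH) (Lpn (LP (LK LD1_c22 LD2_c26 LD3_c57))))))))
theorem f804635 : Led Lsl_cf (LP (LK LD1_c14 LD2_c23 LD3_c22)) = (LP (LK LD1_c22 LD2_c26 LD3_c57)) :=
  Lgr Lrot11 (Lpr_ct (f804611 IH) (Lpn (LP (LK LD1_c22 LD2_c26 LD3_c57))))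
theorem f804640 : Led Lsl_ft (LP (LK LD1_c14 LD2_c23 LD3_c22)) = (LP (LK LD1_c24 LD2_c1 LD3_c47)) :=
  Lre_f IH (LK LD1_c14 LD2_c23 LD3_c22) (LK LD1_c24 LD2_c1 LD3_c47) Lrfl Lrfl
theorem f806034 : Led Lsl_cf (LP (LK LD1_c22 LD2_c26 LD3_c30)) = (LP (LK LD1_c24 LD2_c1 LD3_c47)) :=
  Lgr Lrot108 (Lpr_ft (f806032 IH) (Lpe (f804635 IH) (Lpr_ft (f804640 IH) (Lpn (LP (LK LD1_c24 LD2_c1 LD3_c47))))))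
theorem f806037 : Led Lsl_ct (LP (LK LD1_c22 LD2_c26 LD3_c30)) = (LP (LK LD1_c24 LD2_c1 LD3_c47)) :=
  Lgr Lrot59 (Lpr_cf (f806034 IH) (Lpn (LP (LK LD1_c24 LD2_c1 LD3_c47))))
theorem f814967 : Led Lsl_cf (LP (LK LD1_c13 LD2_c12 LD3_c40)) = v23122 :=
  Lgr Lrot97 (Lpr_bt (f806025 IH) (Lpr_ct (f806037 IH) (Lpr_bt (f806039 IH) (Lpe (f806098 IH) (Lpr_bt (f814964 IH) (Lpn v23122))))))
theorem f491976 : Led Lsl_ft (LP (LK LD1_c7 LD2_c36 LD3_c49)) = (LP (LK LD1_c13 LD2_c12 LD3_c25)) :=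
  Lgr Lrot75 (Lpe (K34.f443455 IH) (Lpr_ff (K33.f491972 IH) (Lpe (K34.f463933 IH) (Lpn (LP (LK LD1_c13 LD2_c12 LD3_c25))))))
theorem f493175 : Led Lsl_gt (LP (LK LD1_c14 LD2_c21 LD3_c16)) = (LP (LK LD1_c22 LD2_c26 LD3_c9)) :=
  Lgr Lrot46 (Lpe (K62.f443468 IH) (Lpr_ft (f491976 IH) (Lpr_at (K34.f463937 IH) (Lpn (LP (LK LD1_c22 LD2_c26 LD3_c9))))))
theorem f488994 : Led Lsl_et (LP (LK LD1_c14 LD2_c19 LD3_c38)) = (LP (LK LD1_c23 LD2_c57 LD3_c39)) :=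
  Lre_e IH (LK LD1_c14 LD2_c19 LD3_c38) (LK LD1_c23 LD2_c57 LD3_c39) Lrfl Lrfl
theorem f804533 : Led Lsl_bf (LP (LK LD1_c14 LD2_c21 LD3_c16)) = (LP (LK LD1_c23 LD2_c57 LD3_c39)) :=
  Lgr Lrot96 (Lpr_et (K62.f804529 IH) (Lpe (K33.f488943 IH) (Lpr_et (f488994 IH) (Lpn (LP (LK LD1_c23 LD2_c57 LD3_c39))))))
theorem f489022 : Led Lsl_ct (LP (LK LD1_c23 LD2_c57 LD3_c39)) = (LP (LK LD1_c14 LD2_c25 LD3_c38)) :=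
  Lgr Lrot59 (Lpr_cf (K62.f489003 IH) (Lpn (LP (LK LD1_c14 LD2_c25 LD3_c38))))
theorem f814966 : Led Lsl_bf (LP (LK LD1_c7 LD2_c47 LD3_c50)) = v23122 :=
  Lgr Lrot24 (Lpr_bt (f814964 IH) (Lpn v23122))
theorem f475718 : Led Lsl_ct (LP (LK LD1_c7 LD2_c47 LD3_c7)) = (LP (LK LD1_c3 LD2_c52 LD3_c61)) :=
  Lre_c IH (LK LD1_c7 LD2_c47 LD3_c7) (LK LD1_c3 LD2_c52 LD3_c61) Lrfl Lrfl
theorem f475719 : Led Lsl_ff (LP (LK LD1_c3 LD2_c52 LD3_c50)) = (LP (LK LD1_c3 LD2_c52 LD3_c61)) :=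
  Lgr Lrot23 (Lpr_ct (K62.f458018 IH) (Lpr_ft (K48.f475680 IH) (Lpr_ct (f475718 IH) (Lpn (LP (LK LD1_c3 LD2_c52 LD3_c61))))))
theorem f458040 : Led Lsl_at (LP (LK LD1_c3 LD2_c52 LD3_c50)) = (LP (LK LD1_c7 LD2_c47 LD3_c19)) :=
  Lre_a IH (LK LD1_c3 LD2_c52 LD3_c50) (LK LD1_c7 LD2_c47 LD3_c19) Lrfl Lrfl
theorem f475756 : Led Lsl_gf (LP (LK LD1_c7 LD2_c47 LD3_c19)) = (LP (LK LD1_c7 LD2_c47 LD3_c50)) :=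
  Lgr Lrot76 (Lpe (f458040 IH) (Lpr_ff (f475719 IH) (Lpr_gt (K62.f451237 IH) (Lpn (LP (LK LD1_c7 LD2_c47 LD3_c50))))))
theorem f814972 : Led Lsl_gf (LP (LK LD1_c14 LD2_c25 LD3_c38)) = (LP (LK LD1_c14 LD2_c43 LD3_c12)) :=
  Lgr Lrot126 (Lpe (f489022 IH) (Lpe (f804533 IH) (Lpr_gt (f493175 IH) (Lpr_ct (K34.f463991 IH) (Lpe (f492511 IH) (Lpr_cf (f814967 IH) (Lpe (f814966 IH) (Lpe (f475756 IH) (Lpe (K48.f475876 IH) (Lpr_ct (K48.f129885 IH) (Lpn (LP (LK LD1_c14 LD2_c43 LD3_c12)))))))))))))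
theorem f814973 : Led Lsl_gt (LP (LK LD1_c14 LD2_c43 LD3_c12)) = (LP (LK LD1_c14 LD2_c25 LD3_c38)) :=
  Leop (Lpr_gf (f814972 IH) (Lpn (LP (LK LD1_c14 LD2_c43 LD3_c12))))
theorem seed_1804 : LEOK LG_g (LK LD1_c14 LD2_c43 LD3_c12) :=
  Leoe_g (LK LD1_c14 LD2_c43 LD3_c12) (f814973 IH)
def v23129 : LQ := Led Lsl_bt (LP (LK LD1_c7 LD2_c48 LD3_c5))
theorem f815017 : Led Lsl_bt (LP (LK LD1_c7 LD2_c48 LD3_c5)) = v23129 :=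
  Lrfl
theorem f471463 : Led Lsl_ct (LP (LK LD1_c7 LD2_c48 LD3_c5)) = (LP (LK LD1_c14 LD2_c43 LD3_c13)) :=
  Lre_c IH (LK LD1_c7 LD2_c48 LD3_c5) (LK LD1_c14 LD2_c43 LD3_c13) Lrfl Lrfl
theorem f757409 : Led Lsl_at (LP (LK LD1_c13 LD2_c30 LD3_c27)) = (LP (LK LD1_c14 LD2_c19 LD3_c55)) :=
  Lgr Lrot107 (Lpe (K41.f97360 IH) (Lpr_af (K62.f757397 IH) (Lpe (K41.f471490 IH) (Lpn (LP (LK LD1_c14 LD2_c19 LD3_c55))))))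
theorem f493291 : Led Lsl_ft (LP (LK LD1_c14 LD2_c20 LD3_c34)) = (LP (LK LD1_c13 LD2_c30 LD3_c27)) :=
  Lgr Lrot48 (Lpr_ff (K57.f493281 IH) (Lpn (LP (LK LD1_c13 LD2_c30 LD3_c27))))
theorem f757478 : Led Lsl_gt (LP (LK LD1_c14 LD2_c20 LD3_c34)) = (LP (LK LD1_c7 LD2_c41 LD3_c51)) :=
  Lgr Lrot5 (Lpr_ft (f493291 IH) (Lpr_at (f757409 IH) (Lpr_gf (K41.f564821 IH) (Lpn (LP (LK LD1_c7 LD2_c41 LD3_c51))))))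
def v7613 : LQ := Led Lsl_bt (LP (LK LD1_c3 LD2_c53 LD3_c13))
theorem f667268 : Led Lsl_bt (LP (LK LD1_c3 LD2_c53 LD3_c13)) = v7613 :=
  Lrfl
theorem f667179 : Led Lsl_cf (LP (LK LD1_c3 LD2_c52 LD3_c29)) = K62.v7600 :=
  Lgr Lrot11 (Lpr_ct (K62.f667177 IH) (Lpn K62.v7600))
theorem f519682 : Led Lsl_bt K34.v900 = K33.v2428 :=
  Lgr Lrot127 (Lpr_bf (K34.f519681 IH) (Lpn K33.v2428))
theorem f531758 : Led Lsl_cf K34.v903 = K61.v2751 :=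
  Lgr Lrot108 (Lpe (K34.f490374 IH) (Lpr_ct (K29.f452057 IH) (Lpr_ft (K61.f531756 IH) (Lpn K61.v2751))))
theorem f667178 : Led Lsl_bf K61.v2751 = K62.v7600 :=
  Lgr Lrot90 (Lpe (f531758 IH) (Lpqs (K34.f531815 IH) (Lpr_bt (f519682 IH) (Lpe (K34.f519653 IH) (Lpr_bt (K48.f519656 IH) (Lpr_ct (K62.f667177 IH) (Lpn K62.v7600)))))))
theorem f667274 : Led Lsl_gf K61.v2751 = v7613 :=
  Lgr Lrot124 (Lpr_bf (f667178 IH) (Lpe (f667179 IH) (Lpe (K48.f564718 IH) (Lpe (K6.f136349 IH) (Lpr_bt (K41.f96161 IH) (Lpe (K41.f564821 IH) (Lpr_ct (K41.f471490 IH) (Lpr_gt (K62.f97348 IH) (Lpe (K47.f471460 IH) (Lpr_bt (f667268 IH) (Lpn v7613)))))))))))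
theorem f531755 : Led Lsl_ff (LP (LK LD1_c1 LD2_c54 LD3_c40)) = K41.v2750 :=
  Lgr Lrot3 (Lpr_ft (K61.f531754 IH) (Lpn K41.v2750))
theorem f531760 : Led Lsl_at (LP (LK LD1_c1 LD2_c54 LD3_c40)) = K61.v2751 :=
  Lgr Lrot66 (Lpr_ff (f531755 IH) (Lpe (K41.f531750 IH) (Lpr_ff (K61.f531759 IH) (Lpn K61.v2751))))
theorem f667275 : Led Lsl_gt K41.v2750 = v7613 :=
  Lgr Lrot5 (Lpe (f531755 IH) (Lpr_at (f531760 IH) (Lpr_gf (f667274 IH) (Lpn v7613))))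
theorem f757339 : Led Lsl_cf (LP (LK LD1_c13 LD2_c30 LD3_c24)) = (LP (LK LD1_c14 LD2_c20 LD3_c34)) :=
  Lgr Lrot58 (Lpe (K29.f97349 IH) (Lpe (K47.f471460 IH) (Lpr_bt (f667268 IH) (Lpe (f667275 IH) (Lpqs (K41.f531828 IH) (Lpe (K29.f463727 IH) (Lpe (K35.f471759 IH) (Lpe (K35.f533590 IH) (Lpr_cf (K35.f145005 IH) (Lpe (K57.f534523 IH) (Lpr_bf (K57.f757333 IH) (Lpn (LP (LK LD1_c14 LD2_c20 LD3_c34))))))))))))))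
theorem f566264 : Led Lsl_df (LP (LK LD1_c23 LD2_c20 LD3_c23)) = (LP (LK LD1_c16 LD2_c53 LD3_c4)) :=
  Lgr Lrot155 (Lpr_gt (K47.f566249 IH) (Lpr_ct (K33.f476513 IH) (Lpr_gt (K33.f63106 IH) (Lpr_ct (K41.f63105 IH) (Lpr_dt (K43.f488650 IH) (Lpe (K47.f464839 IH) (Lpe (K41.f493677 IH) (Lpe (K41.f425390 IH) (Lpe (K47.f566245 IH) (Lpn (LP (LK LD1_c16 LD2_c53 LD3_c4))))))))))))
theorem f566359 : Led Lsl_dt (LP (LK LD1_c23 LD2_c57 LD3_c59)) = (LP (LK LD1_c30 LD2_c39 LD3_c9)) :=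
  Lgr Lrot27 (Lpr_cf (K47.f476517 IH) (Lpe (K47.f110278 IH) (Lpe (K47.f110269 IH) (Lpe (K34.f476508 IH) (Lpe (K34.f63099 IH) (Lpr_gt (K46.f18820 IH) (Lpr_ct (K46.f458498 IH) (Lpe (K47.f566247 IH) (Lpr_ct (K47.f566271 IH) (Lpn (LP (LK LD1_c30 LD2_c39 LD3_c9))))))))))))
theorem f757482 : Led Lsl_gf (LP (LK LD1_c23 LD2_c57 LD3_c59)) = (LP (LK LD1_c14 LD2_c30 LD3_c36)) :=
  Lgr Lrot143 (Lpr_dt (f566359 IH) (Lpe (K47.f566271 IH) (Lpr_df (f566264 IH) (Lpe (K47.f181391 IH) (Lpr_df (K41.f566221 IH) (Lpe (K29.f425490 IH) (Lpr_cf (f757339 IH) (Lpr_gt (f757478 IH) (Lpr_dt (K8.f96157 IH) (Lpn (LP (LK LD1_c14 LD2_c30 LD3_c36))))))))))))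
theorem f471471 : Led Lsl_ct (LP (LK LD1_c14 LD2_c43 LD3_c13)) = (LP (LK LD1_c7 LD2_c48 LD3_c5)) :=
  Lre_c IH (LK LD1_c14 LD2_c43 LD3_c13) (LK LD1_c7 LD2_c48 LD3_c5) Lrfl Lrfl
theorem f757486 : Led Lsl_gt (LP (LK LD1_c24 LD2_c5 LD3_c48)) = (LP (LK LD1_c14 LD2_c43 LD3_c13)) :=
  Lgr Lrot150 (Lpe (K47.f476514 IH) (Lpr_gf (f757482 IH) (Lpe (K8.f96157 IH) (Lpe (K41.f564821 IH) (Lpr_ct (K41.f471490 IH) (Lpr_gt (K62.f97348 IH) (Lpe (K34.f471454 IH) (Lpe (K34.f471470 IH) (Lpe (f471471 IH) (Lpn (LP (LK LD1_c14 LD2_c43 LD3_c13))))))))))))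
theorem f476521 : Led Lsl_gt (LP (LK LD1_c14 LD2_c32 LD3_c51)) = (LP (LK LD1_c7 LD2_c43 LD3_c1)) :=
  Lre_g IH (LK LD1_c14 LD2_c32 LD3_c51) (LK LD1_c7 LD2_c43 LD3_c1) Lrfl Lrfl
theorem f656622 : Led Lsl_at (LP (LK LD1_c13 LD2_c50 LD3_c4)) = (LP (LK LD1_c13 LD2_c7 LD3_c57)) :=
  Lgr Lrot26 (Lpr_ff (K48.f656618 IH) (Lpr_gt (K34.f479942 IH) (Lpr_gt (K29.f102561 IH) (Lpn (LP (LK LD1_c13 LD2_c7 LD3_c57))))))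
theorem f656610 : Led Lsl_at (LP (LK LD1_c13 LD2_c50 LD3_c6)) = (LP (LK LD1_c13 LD2_c3 LD3_c60)) :=
  Lgr Lrot100 (Lpr_af (K48.f656608 IH) (Lpn (LP (LK LD1_c13 LD2_c3 LD3_c60))))
theorem f656628 : Led Lsl_ff (LP (LK LD1_c13 LD2_c50 LD3_c6)) = (LP (LK LD1_c13 LD2_c7 LD3_c57)) :=
  Lgr Lrot30 (Lpr_at (f656610 IH) (Lpe (K48.f656618 IH) (Lpr_at (f656622 IH) (Lpn (LP (LK LD1_c13 LD2_c7 LD3_c57))))))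
theorem f656634 : Led Lsl_ft (LP (LK LD1_c13 LD2_c50 LD3_c6)) = (LP (LK LD1_c13 LD2_c7 LD3_c57)) :=
  Lgr Lrot48 (Lpr_ff (f656628 IH) (Lpn (LP (LK LD1_c13 LD2_c7 LD3_c57))))
theorem f535308 : Led Lsl_cf (LP (LK LD1_c13 LD2_c50 LD3_c6)) = (LP (LK LD1_c7 LD2_c43 LD3_c49)) :=
  Lgr Lrot11 (Lpr_ct (K35.f532611 IH) (Lpn (LP (LK LD1_c7 LD2_c43 LD3_c49))))
theorem f656638 : Led Lsl_ff (LP (LK LD1_c7 LD2_c43 LD3_c49)) = (LP (LK LD1_c14 LD2_c32 LD3_c50)) :=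
  Lgr Lrot23 (Lpe (f535308 IH) (Lpr_ft (f656634 IH) (Lpr_ct (K29.f471771 IH) (Lpn (LP (LK LD1_c14 LD2_c32 LD3_c50))))))
theorem f91101 : Led Lsl_gt (LP (LK LD1_c7 LD2_c43 LD3_c52)) = (LP (LK LD1_c14 LD2_c32 LD3_c51)) :=
  Lre_g IH (LK LD1_c7 LD2_c43 LD3_c52) (LK LD1_c14 LD2_c32 LD3_c51) Lrfl Lrfl
theorem f656642 : Led Lsl_at (LP (LK LD1_c7 LD2_c43 LD3_c49)) = (LP (LK LD1_c14 LD2_c32 LD3_c51)) :=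
  Lgr Lrot26 (Lpr_ff (f656638 IH) (Lpr_gt (K29.f463742 IH) (Lpr_gt (f91101 IH) (Lpn (LP (LK LD1_c14 LD2_c32 LD3_c51))))))
theorem f656647 : Led Lsl_cf (LP (LK LD1_c13 LD2_c3 LD3_c60)) = (LP (LK LD1_c14 LD2_c32 LD3_c51)) :=
  Lgr Lrot1 (Lpe (K48.f656608 IH) (Lpr_ct (K35.f532611 IH) (Lpr_at (f656642 IH) (Lpn (LP (LK LD1_c14 LD2_c32 LD3_c51))))))
theorem f656649 : Led Lsl_ct (LP (LK LD1_c13 LD2_c3 LD3_c60)) = (LP (LK LD1_c14 LD2_c32 LD3_c51)) :=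
  Lgr Lrot59 (Lpr_cf (f656647 IH) (Lpn (LP (LK LD1_c14 LD2_c32 LD3_c51))))
theorem f815021 : Led Lsl_gf (LP (LK LD1_c13 LD2_c3 LD3_c60)) = v23129 :=
  Lgr Lrot181 (Lpr_ct (f656649 IH) (Lpr_gt (f476521 IH) (Lpe (K29.f91005 IH) (Lpr_bt (K29.f461571 IH) (Lpr_gt (K47.f476520 IH) (Lpe (K47.f14876 IH) (Lpr_ct (K47.f476514 IH) (Lpr_gt (f757486 IH) (Lpe (f471463 IH) (Lpr_bt (f815017 IH) (Lpn v23129)))))))))))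
theorem f479948 : Led Lsl_dt (LP (LK LD1_c13 LD2_c3 LD3_c60)) = (LP (LK LD1_c6 LD2_c52 LD3_c11)) :=
  Lre_d IH (LK LD1_c13 LD2_c3 LD3_c60) (LK LD1_c6 LD2_c52 LD3_c11) Lrfl Lrfl
theorem f17288 : Led Lsl_dt (LP (LK LD1_c0 LD2_c53 LD3_c60)) = (LP (LK LD1_c1 LD2_c54 LD3_c43)) :=
  Lre_d IH (LK LD1_c0 LD2_c53 LD3_c60) (LK LD1_c1 LD2_c54 LD3_c43) Lrfl Lrfl
theorem f815023 : Led Lsl_dt v7613 = v23129 :=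
  Lgr Lrot57 (Lpe (f667275 IH) (Lpqs (K41.f531828 IH) (Lpe (K29.f14919 IH) (Lpr_gt (K28.f11247 IH) (Lpr_dt (f17288 IH) (Lpr_gt (K48.f531721 IH) (Lpe (K48.f531723 IH) (Lpe (K43.f458389 IH) (Lpe (f479948 IH) (Lpr_gf (f815021 IH) (Lpn v23129)))))))))))
theorem f531761 : Led Lsl_ct K34.v903 = K61.v2751 :=
  Lgr Lrot40 (Lpe (K34.f490372 IH) (Lpe (K29.f457722 IH) (Lpr_ff (K61.f531759 IH) (Lpn K61.v2751))))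
theorem f660787 : Led Lsl_bf (LP (LK LD1_c3 LD2_c38 LD3_c8)) = K61.v7085 :=
  Lgr Lrot61 (Lpr_ft (K29.f97332 IH) (Lpr_bt (K3.f86834 IH) (Lpr_ft (K61.f660785 IH) (Lpn K61.v7085))))
theorem f667276 : Led Lsl_ct K61.v7085 = v7613 :=
  Lgr Lrot64 (Lpe (f660787 IH) (Lpe (K29.f425234 IH) (Lpr_bf (K34.f472145 IH) (Lpr_ct (K29.f129761 IH) (Lpe (K34.f472260 IH) (Lpe (K5.f17325 IH) (Lpr_gf (K33.f519650 IH) (Lpe (f519682 IH) (Lpq (K34.f531815 IH) (Lpr_ct (f531761 IH) (Lpr_gf (f667274 IH) (Lpn v7613))))))))))))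
def v7084 : LQ := Led Lsl_gf (LP (LK LD1_c3 LD2_c38 LD3_c5))
theorem f660775 : Led Lsl_gf (LP (LK LD1_c3 LD2_c38 LD3_c5)) = v7084 :=
  Lrfl
theorem f660779 : Led Lsl_bt (LP (LK LD1_c3 LD2_c39 LD3_c15)) = v7084 :=
  Lgr Lrot130 (Lpe (K41.f475269 IH) (Lpe (K35.f160211 IH) (Lpe (K3.f17354 IH) (Lpr_bt (K24.f17339 IH) (Lpr_gf (K28.f465429 IH) (Lpe (K29.f457721 IH) (Lpr_ct (K29.f452057 IH) (Lpr_gf (K29.f470920 IH) (Lpe (K3.f97354 IH) (Lpr_gf (f660775 IH) (Lpn v7084)))))))))))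
theorem f660780 : Led Lsl_af K34.v2543 = v7084 :=
  Lgr Lrot36 (Lpe (K41.f527291 IH) (Lpq (K41.f530516 IH) (Lpe (K41.f490190 IH) (Lpr_bt (K28.f465230 IH) (Lpr_at (K34.f530475 IH) (Lpqs (K41.f530778 IH) (Lpr_bt (f660779 IH) (Lpn v7084))))))))
theorem f475286 : Led Lsl_bt (LP (LK LD1_c3 LD2_c50 LD3_c55)) = (LP (LK LD1_c7 LD2_c42 LD3_c59)) :=
  Lre_b IH (LK LD1_c3 LD2_c50 LD3_c55) (LK LD1_c7 LD2_c42 LD3_c59) Lrfl Lrfl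
theorem f660782 : Led Lsl_cf (LP (LK LD1_c3 LD2_c50 LD3_c55)) = v7084 :=
  Lgr Lrot97 (Lpr_bt (f475286 IH) (Lpe (K47.f475284 IH) (Lpr_bt (K41.f11828 IH) (Lpr_ct (K35.f475267 IH) (Lpr_bt (f660779 IH) (Lpn v7084))))))
theorem f660784 : Led Lsl_ft (LP (LK LD1_c3 LD2_c42 LD3_c26)) = v7084 :=
  Lgr Lrot4 (Lpe (K41.f471187 IH) (Lpr_ff (K47.f530300 IH) (Lpq (K47.f531014 IH) (Lpr_cf (f660782 IH) (Lpn v7084)))))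
theorem f660794 : Led Lsl_gt (LP (LK LD1_c3 LD2_c42 LD3_c26)) = K61.v7085 :=
  Lgr Lrot5 (Lpr_ft (f660784 IH) (Lpe (f660780 IH) (Lpr_gf (K61.f660793 IH) (Lpn K61.v7085))))
theorem f460442 : Led Lsl_ct (LP (LK LD1_c3 LD2_c51 LD3_c10)) = (LP (LK LD1_c7 LD2_c43 LD3_c43)) :=
  Lre_c IH (LK LD1_c3 LD2_c51 LD3_c10) (LK LD1_c7 LD2_c43 LD3_c43) Lrfl Lrfl
theorem f460443 : Led Lsl_gt (LP (LK LD1_c7 LD2_c43 LD3_c43)) = (LP (LK LD1_c14 LD2_c34 LD3_c16)) :=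
  Lre_g IH (LK LD1_c7 LD2_c43 LD3_c43) (LK LD1_c14 LD2_c34 LD3_c16) Lrfl Lrfl
theorem f815026 : Led Lsl_ct (LP (LK LD1_c14 LD2_c34 LD3_c16)) = v23129 :=
  Lgr Lrot151 (Lpe (f460443 IH) (Lpe (f460442 IH) (Lpe (K29.f11869 IH) (Lpr_dt (K35.f451219 IH) (Lpr_gt (K2.f91751 IH) (Lpr_ct (K41.f471187 IH) (Lpr_gt (f660794 IH) (Lpr_ct (f667276 IH) (Lpr_dt (f815023 IH) (Lpn v23129))))))))))
theorem f815027 : Led Lsl_cf (LP (LK LD1_c14 LD2_c34 LD3_c16)) = v23129 :=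
  Lgr Lrot11 (Lpr_ct (f815026 IH) (Lpn v23129))
theorem f512822 : Led Lsl_ft (LP (LK LD1_c7 LD2_c43 LD3_c43)) = (LP (LK LD1_c14 LD2_c32 LD3_c48)) :=
  Lgr Lrot4 (Lpe (f460442 IH) (Lpr_ff (K34.f512818 IH) (Lpe (K34.f91004 IH) (Lpn (LP (LK LD1_c14 LD2_c32 LD3_c48))))))
theorem f513029 : Led Lsl_gt (LP (LK LD1_c14 LD2_c34 LD3_c16)) = (LP (LK LD1_c7 LD2_c43 LD3_c46)) :=
  Lgr Lrot46 (Lpe (f460443 IH) (Lpr_ft (f512822 IH) (Lpe (K34.f512785 IH) (Lpn (LP (LK LD1_c7 LD2_c43 LD3_c46))))))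
theorem f815022 : Led Lsl_gt (LP (LK LD1_c13 LD2_c7 LD3_c57)) = v23129 :=
  Lgr Lrot5 (Lpe (f656628 IH) (Lpr_at (f656610 IH) (Lpr_gf (f815021 IH) (Lpn v23129))))
theorem f471855 : Led Lsl_bf (LP (LK LD1_c13 LD2_c7 LD3_c57)) = (LP (LK LD1_c14 LD2_c23 LD3_c1)) :=
  Lgr Lrot24 (Lpr_bt (K29.f471786 IH) (Lpn (LP (LK LD1_c14 LD2_c23 LD3_c1))))
theorem f815030 : Led Lsl_gt (LP (LK LD1_c31 LD2_c17 LD3_c51)) = (LP (LK LD1_c24 LD2_c1 LD3_c21)) :=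
  Lgr Lrot65 (Lpe (K35.f204033 IH) (Lpr_bt (K35.f204035 IH) (Lpr_gf (K35.f533566 IH) (Lpe (K35.f457495 IH) (Lpr_ct (K34.f457500 IH) (Lpe (f513029 IH) (Lpr_cf (f815027 IH) (Lpe (f815022 IH) (Lpr_bf (f471855 IH) (Lpr_ct (K37.f461111 IH) (Lpn (LP (LK LD1_c24 LD2_c1 LD3_c21)))))))))))))
theorem f815031 : Led Lsl_gt (LP (LK LD1_c31 LD2_c17 LD3_c51)) = (LP (LK LD1_c24 LD2_c1 LD3_c21)) :=
  Leop (Lpe (f815030 IH) (Lpn (LP (LK LD1_c31 LD2_c17 LD3_c51))))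
theorem seed_1805 : LEOK LG_g (LK LD1_c31 LD2_c17 LD3_c51) :=
  Leoe_g (LK LD1_c31 LD2_c17 LD3_c51) (f815031 IH)
def v23130 : LQ := Led Lsl_gt (LP (LK LD1_c7 LD2_c48 LD3_c7))
theorem f815032 : Led Lsl_gt (LP (LK LD1_c7 LD2_c48 LD3_c7)) = v23130 :=
  Lrfl
theorem f514111 : Led Lsl_at (LP (LK LD1_c22 LD2_c26 LD3_c54)) = (LP (LK LD1_c30 LD2_c30 LD3_c37)) :=
  Lre_a IH (LK LD1_c22 LD2_c26 LD3_c54) (LK LD1_c30 LD2_c30 LD3_c37) Lrfl Lrfl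
theorem f476600 : Led Lsl_bt (LP (LK LD1_c13 LD2_c3 LD3_c56)) = (LP (LK LD1_c22 LD2_c14 LD3_c12)) :=
  Lre_b IH (LK LD1_c13 LD2_c3 LD3_c56) (LK LD1_c22 LD2_c14 LD3_c12) Lrfl Lrfl
theorem f480680 : Led Lsl_bt (LP (LK LD1_c22 LD2_c26 LD3_c54)) = (LP (LK LD1_c13 LD2_c12 LD3_c55)) :=
  Lre_b IH (LK LD1_c22 LD2_c26 LD3_c54) (LK LD1_c13 LD2_c12 LD3_c55) Lrfl Lrfl
theorem f528935 : Led Lsl_ft (LP (LK LD1_c22 LD2_c14 LD3_c12)) = (LP (LK LD1_c22 LD2_c26 LD3_c54)) :=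
  Lgr Lrot75 (Lpe (f476600 IH) (Lpr_ff (K35.f528931 IH) (Lpe (f480680 IH) (Lpn (LP (LK LD1_c22 LD2_c26 LD3_c54))))))
theorem f628293 : Led Lsl_gt (LP (LK LD1_c22 LD2_c14 LD3_c12)) = (LP (LK LD1_c22 LD2_c29 LD3_c60)) :=
  Lgr Lrot5 (Lpr_ft (f528935 IH) (Lpr_at (f514111 IH) (Lpr_gf (K62.f628291 IH) (Lpn (LP (LK LD1_c22 LD2_c29 LD3_c60))))))
theorem f464052 : Led Lsl_bt (LP (LK LD1_c22 LD2_c14 LD3_c12)) = (LP (LK LD1_c13 LD2_c3 LD3_c56)) :=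
  Lre_b IH (LK LD1_c22 LD2_c14 LD3_c12) (LK LD1_c13 LD2_c3 LD3_c56) Lrfl Lrfl
theorem f473307 : Led Lsl_bt (LP (LK LD1_c6 LD2_c57 LD3_c29)) = (LP (LK LD1_c13 LD2_c12 LD3_c47)) :=
  Lre_b IH (LK LD1_c6 LD2_c57 LD3_c29) (LK LD1_c13 LD2_c12 LD3_c47) Lrfl Lrfl
theorem f479370 : Led Lsl_df (LP (LK LD1_c22 LD2_c14 LD3_c12)) = (LP (LK LD1_c13 LD2_c12 LD3_c47)) :=
  Lgr Lrot12 (Lpr_bt (f464052 IH) (Lpr_dt (K29.f479368 IH) (Lpr_bt (f473307 IH) (Lpn (LP (LK LD1_c13 LD2_c12 LD3_c47))))))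
theorem f815034 : Led Lsl_et (LP (LK LD1_c13 LD2_c12 LD3_c47)) = v23130 :=
  Lgr Lrot122 (Lpe (f479370 IH) (Lpr_gt (f628293 IH) (Lpe (K34.f63087 IH) (Lpr_et (K37.f63057 IH) (Lpr_gt (K46.f18820 IH) (Lpe (K62.f526619 IH) (Lpr_gt (K47.f476307 IH) (Lpe (K34.f474936 IH) (Lpr_et (K34.f474928 IH) (Lpr_gt (f815032 IH) (Lpn v23130)))))))))))
theorem f457956 : Led Lsl_bt (LP (LK LD1_c13 LD2_c12 LD3_c47)) = (LP (LK LD1_c6 LD2_c57 LD3_c29)) :=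
  Lre_b IH (LK LD1_c13 LD2_c12 LD3_c47) (LK LD1_c6 LD2_c57 LD3_c29) Lrfl Lrfl
theorem f528927 : Led Lsl_ff (LP (LK LD1_c13 LD2_c12 LD3_c47)) = (LP (LK LD1_c13 LD2_c12 LD3_c54)) :=
  Lgr Lrot25 (Lpr_bt (f457956 IH) (Lpr_ft (K35.f528923 IH) (Lpr_bt (K33.f473826 IH) (Lpn (LP (LK LD1_c13 LD2_c12 LD3_c54))))))
theorem f815038 : Led Lsl_ff K60.v7614 = v23130 :=
  Lgr Lrot72 (Lpr_et (K60.f673583 IH) (Lpr_ft (K35.f528659 IH) (Lpr_et (K33.f477637 IH) (Lpe (f528927 IH) (Lpr_et (f815034 IH) (Lpn v23130))))))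
theorem f815043 : Led Lsl_ft K60.v7614 = v23130 :=
  Lgr Lrot48 (Lpr_ff (f815038 IH) (Lpn v23130))
theorem f466935 : Led Lsl_gt (LP (LK LD1_c3 LD2_c53 LD3_c16)) = (LP (LK LD1_c7 LD2_c48 LD3_c12)) :=
  Lre_g IH (LK LD1_c3 LD2_c53 LD3_c16) (LK LD1_c7 LD2_c48 LD3_c12) Lrfl Lrfl
theorem f815044 : Led Lsl_af (LP (LK LD1_c7 LD2_c48 LD3_c12)) = v23130 :=
  Lgr Lrot31 (Lpe (f466935 IH) (Lpr_gf (K60.f667280 IH) (Lpr_ft (f815043 IH) (Lpn v23130))))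
theorem f514099 : Led Lsl_ft (LP (LK LD1_c13 LD2_c23 LD3_c51)) = (LP (LK LD1_c22 LD2_c29 LD3_c60)) :=
  Lgr Lrot48 (Lpr_ff (K62.f514094 IH) (Lpn (LP (LK LD1_c22 LD2_c29 LD3_c60))))
theorem f463605 : Led Lsl_gt (LP (LK LD1_c13 LD2_c23 LD3_c51)) = (LP (LK LD1_c22 LD2_c41 LD3_c47)) :=
  Lre_g IH (LK LD1_c13 LD2_c23 LD3_c51) (LK LD1_c22 LD2_c41 LD3_c47) Lrfl Lrfl
theorem f514104 : Led Lsl_gt (LP (LK LD1_c22 LD2_c41 LD3_c47)) = (LP (LK LD1_c14 LD2_c16 LD3_c3)) :=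
  Lgr Lrot46 (Lpe (f463605 IH) (Lpr_ft (f514099 IH) (Lpe (K62.f513330 IH) (Lpn (LP (LK LD1_c14 LD2_c16 LD3_c3))))))
theorem f477643 : Led Lsl_at (LP (LK LD1_c30 LD2_c30 LD3_c37)) = (LP (LK LD1_c22 LD2_c26 LD3_c54)) :=
  Lre_a IH (LK LD1_c30 LD2_c30 LD3_c37) (LK LD1_c22 LD2_c26 LD3_c54) Lrfl Lrfl
theorem f514106 : Led Lsl_ft (LP (LK LD1_c22 LD2_c41 LD3_c47)) = (LP (LK LD1_c30 LD2_c30 LD3_c37)) :=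
  Lgr Lrot2 (Lpr_gt (f514104 IH) (Lpr_gt (K48.f477641 IH) (Lpe (f477643 IH) (Lpn (LP (LK LD1_c30 LD2_c30 LD3_c37))))))
theorem f514109 : Led Lsl_ff (LP (LK LD1_c22 LD2_c41 LD3_c47)) = (LP (LK LD1_c30 LD2_c30 LD3_c37)) :=
  Lgr Lrot3 (Lpr_ft (f514106 IH) (Lpn (LP (LK LD1_c30 LD2_c30 LD3_c37))))
theorem f528937 : Led Lsl_af (LP (LK LD1_c22 LD2_c14 LD3_c12)) = (LP (LK LD1_c22 LD2_c41 LD3_c47)) :=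
  Lgr Lrot45 (Lpr_ft (f528935 IH) (Lpr_at (f514111 IH) (Lpe (f514109 IH) (Lpn (LP (LK LD1_c22 LD2_c41 LD3_c47))))))
theorem f628299 : Led Lsl_gf (LP (LK LD1_c22 LD2_c14 LD3_c12)) = (LP (LK LD1_c22 LD2_c34 LD3_c9)) :=
  Lgr Lrot76 (Lpr_af (f528937 IH) (Lpr_ff (f514109 IH) (Lpr_gt (K62.f628295 IH) (Lpn (LP (LK LD1_c22 LD2_c34 LD3_c9))))))
theorem f157559 : Led Lsl_et (LP (LK LD1_c13 LD2_c18 LD3_c12)) = (LP (LK LD1_c22 LD2_c34 LD3_c10)) :=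
  Lre_e IH (LK LD1_c13 LD2_c18 LD3_c12) (LK LD1_c22 LD2_c34 LD3_c10) Lrfl Lrfl
theorem f815039 : Led Lsl_gf (LP (LK LD1_c7 LD2_c48 LD3_c14)) = v23130 :=
  Lgr Lrot138 (Lpr_dt (K47.f475059 IH) (Lpe (K47.f475051 IH) (Lpe (K47.f120297 IH) (Lpr_et (K47.f158555 IH) (Lpr_gt (K47.f628278 IH) (Lpe (f157559 IH) (Lpr_dt (K62.f97523 IH) (Lpe (f628299 IH) (Lpr_df (f479370 IH) (Lpr_et (f815034 IH) (Lpn v23130)))))))))))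
theorem f482627 : Led Lsl_bt (LP (LK LD1_c13 LD2_c49 LD3_c23)) = (LP (LK LD1_c7 LD2_c18 LD3_c18)) :=
  Lre_b IH (LK LD1_c13 LD2_c49 LD3_c23) (LK LD1_c7 LD2_c18 LD3_c18) Lrfl Lrfl
theorem f628209 : Led Lsl_bt (LP (LK LD1_c3 LD2_c39 LD3_c41)) = (LP (LK LD1_c7 LD2_c19 LD3_c33)) :=
  Lre_b IH (LK LD1_c3 LD2_c39 LD3_c41) (LK LD1_c7 LD2_c19 LD3_c33) Lrfl Lrfl
theorem f661401 : Led Lsl_df (LP (LK LD1_c3 LD2_c39 LD3_c41)) = K49.v7130 :=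
  Lgr Lrot38 (Lpr_dt (K49.f661400 IH) (Lpn K49.v7130))
theorem f797105 : Led Lsl_bf K49.v7130 = K62.v21430 :=
  Lgr Lrot93 (Lpe (f661401 IH) (Lpr_bt (f628209 IH) (Lpr_dt (K62.f797104 IH) (Lpn K62.v21430))))
theorem f815040 : Led Lsl_ct K62.v21430 = v23130 :=
  Lgr Lrot64 (Lpe (f797105 IH) (Lpe (K61.f661407 IH) (Lpe (K62.f535440 IH) (Lpr_ct (K29.f455209 IH) (Lpr_gf (K29.f482906 IH) (Lpe (K29.f4418 IH) (Lpe (K29.f482654 IH) (Lpe (f482627 IH) (Lpr_ct (K62.f482646 IH) (Lpr_gf (f815039 IH) (Lpn v23130)))))))))))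
theorem f109013 : Led Lsl_gt (LP (LK LD1_c13 LD2_c18 LD3_c15)) = (LP (LK LD1_c7 LD2_c0 LD3_c52)) :=
  Lre_g IH (LK LD1_c13 LD2_c18 LD3_c15) (LK LD1_c7 LD2_c0 LD3_c52) Lrfl Lrfl
theorem f785476 : Led Lsl_ft (LP (LK LD1_c13 LD2_c7 LD3_c3)) = (LP (LK LD1_c13 LD2_c18 LD3_c27)) :=
  Lgr Lrot48 (Lpr_ff (K60.f785474 IH) (Lpn (LP (LK LD1_c13 LD2_c18 LD3_c27))))
theorem f440725 : Led Lsl_gt (LP (LK LD1_c7 LD2_c0 LD3_c56)) = (LP (LK LD1_c13 LD2_c18 LD3_c26)) :=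
  Lre_g IH (LK LD1_c7 LD2_c0 LD3_c56) (LK LD1_c13 LD2_c18 LD3_c26) Lrfl Lrfl
theorem f785478 : Led Lsl_at (LP (LK LD1_c13 LD2_c7 LD3_c3)) = (LP (LK LD1_c13 LD2_c18 LD3_c26)) :=
  Lgr Lrot26 (Lpr_ff (K60.f785474 IH) (Lpr_gt (K60.f157585 IH) (Lpr_gt (f440725 IH) (Lpn (LP (LK LD1_c13 LD2_c18 LD3_c26))))))
theorem f785481 : Led Lsl_af (LP (LK LD1_c13 LD2_c7 LD3_c3)) = (LP (LK LD1_c13 LD2_c18 LD3_c26)) :=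
  Lgr Lrot0 (Lpr_at (f785478 IH) (Lpn (LP (LK LD1_c13 LD2_c18 LD3_c26))))
theorem f805722 : Led Lsl_ft (LP (LK LD1_c22 LD2_c34 LD3_c13)) = (LP (LK LD1_c13 LD2_c18 LD3_c26)) :=
  Lgr Lrot101 (Lpr_af (f805718 IH) (Lpe (f785476 IH) (Lpr_af (f785481 IH) (Lpn (LP (LK LD1_c13 LD2_c18 LD3_c26))))))
theorem f805731 : Led Lsl_gt (LP (LK LD1_c13 LD2_c18 LD3_c16)) = (LP (LK LD1_c13 LD2_c7 LD3_c3)) :=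
  Lgr Lrot46 (Lpe (f109027 IH) (Lpr_ft (f805722 IH) (Lpe (f785481 IH) (Lpn (LP (LK LD1_c13 LD2_c7 LD3_c3))))))
theorem f815041 : Led Lsl_dt (LP (LK LD1_c13 LD2_c7 LD3_c3)) = v23130 :=
  Lgr Lrot113 (Lpe (f805731 IH) (Lpe (f109005 IH) (Lpe (f109013 IH) (Lpr_ct (K62.f795718 IH) (Lpe (K62.f795715 IH) (Lpr_dt (K43.f94517 IH) (Lpr_gt (K47.f628203 IH) (Lpr_dt (K62.f797104 IH) (Lpr_ct (f815040 IH) (Lpn v23130))))))))))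
theorem f815046 : Led Lsl_dt (LP (LK LD1_c7 LD2_c48 LD3_c12)) = (LP (LK LD1_c13 LD2_c18 LD3_c26)) :=
  Lgr Lrot44 (Lpr_af (f815044 IH) (Lpe (f815041 IH) (Lpr_af (f785481 IH) (Lpn (LP (LK LD1_c13 LD2_c18 LD3_c26))))))
theorem f815047 : Led Lsl_dt (LP (LK LD1_c7 LD2_c48 LD3_c12)) = (LP (LK LD1_c13 LD2_c18 LD3_c26)) :=
  Leop (Lpe (f815046 IH) (Lpn (LP (LK LD1_c7 LD2_c48 LD3_c12))))
theorem seed_1806 : LEOK LG_d (LK LD1_c7 LD2_c48 LD3_c12) :=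
  Leoe_d (LK LD1_c7 LD2_c48 LD3_c12) (f815047 IH)
theorem f529434 : Led Lsl_ct (LP (LK LD1_c13 LD2_c12 LD3_c47)) = (LP (LK LD1_c13 LD2_c14 LD3_c17)) :=
  Lgr Lrot40 (Lpr_ff (f528927 IH) (Lpe (K33.f473940 IH) (Lpr_ff (K47.f529423 IH) (Lpn (LP (LK LD1_c13 LD2_c14 LD3_c17))))))
theorem f529437 : Led Lsl_cf (LP (LK LD1_c13 LD2_c12 LD3_c47)) = (LP (LK LD1_c13 LD2_c14 LD3_c17)) :=
  Lgr Lrot11 (Lpr_ct (f529434 IH) (Lpn (LP (LK LD1_c13 LD2_c14 LD3_c17))))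
theorem f815036 : Led Lsl_cf K62.v21430 = v23130 :=
  Lgr Lrot39 (Lpe (K62.f797107 IH) (Lpe (f529437 IH) (Lpr_et (f815034 IH) (Lpn v23130))))
theorem f481668 : Led Lsl_ct (LP (LK LD1_c13 LD2_c51 LD3_c25)) = (LP (LK LD1_c7 LD2_c19 LD3_c33)) :=
  Lre_c IH (LK LD1_c13 LD2_c51 LD3_c25) (LK LD1_c7 LD2_c19 LD3_c33) Lrfl Lrfl
theorem f481667 : Led Lsl_gt (LP (LK LD1_c23 LD2_c20 LD3_c40)) = (LP (LK LD1_c13 LD2_c51 LD3_c25)) :=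
  Lre_g IH (LK LD1_c23 LD2_c20 LD3_c40) (LK LD1_c13 LD2_c51 LD3_c25) Lrfl Lrfl
theorem f474926 : Led Lsl_ct (LP (LK LD1_c14 LD2_c42 LD3_c57)) = (LP (LK LD1_c7 LD2_c48 LD3_c7)) :=
  Lre_c IH (LK LD1_c14 LD2_c42 LD3_c57) (LK LD1_c7 LD2_c48 LD3_c7) Lrfl Lrfl
theorem f462024 : Led Lsl_bt (LP (LK LD1_c7 LD2_c37 LD3_c6)) = (LP (LK LD1_c14 LD2_c21 LD3_c46)) :=
  Lre_b IH (LK LD1_c7 LD2_c37 LD3_c6) (LK LD1_c14 LD2_c21 LD3_c46) Lrfl Lrfl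
theorem f441615 : Led Lsl_bt (LP (LK LD1_c13 LD2_c38 LD3_c38)) = (LP (LK LD1_c7 LD2_c12 LD3_c17)) :=
  Lre_b IH (LK LD1_c13 LD2_c38 LD3_c38) (LK LD1_c7 LD2_c12 LD3_c17) Lrfl Lrfl
theorem f462025 : Led Lsl_dt (LP (LK LD1_c14 LD2_c21 LD3_c46)) = (LP (LK LD1_c13 LD2_c38 LD3_c38)) :=
  Lgr Lrot79 (Lpe (f462024 IH) (Lpr_df (K30.f462021 IH) (Lpe (f441615 IH) (Lpn (LP (LK LD1_c13 LD2_c38 LD3_c38))))))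
theorem f578495 : Led Lsl_dt (LP (LK LD1_c17 LD2_c0 LD3_c18)) = (LP (LK LD1_c13 LD2_c18 LD3_c3)) :=
  Lgr Lrot42 (Lpr_df (K43.f578493 IH) (Lpn (LP (LK LD1_c13 LD2_c18 LD3_c3))))
theorem f161187 : Led Lsl_bt (LP (LK LD1_c11 LD2_c24 LD3_c40)) = (LP (LK LD1_c17 LD2_c0 LD3_c18)) :=
  Lgr Lrot127 (Lpr_bf (K61.f161185 IH) (Lpn (LP (LK LD1_c17 LD2_c0 LD3_c18))))
theorem f606750 : Led Lsl_df (LP (LK LD1_c11 LD2_c24 LD3_c40)) = (LP (LK LD1_c7 LD2_c33 LD3_c44)) :=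
  Lgr Lrot12 (Lpr_bt (f161187 IH) (Lpr_dt (f578495 IH) (Lpe (K46.f427182 IH) (Lpn (LP (LK LD1_c7 LD2_c33 LD3_c44))))))
theorem f427175 : Led Lsl_et (LP (LK LD1_c7 LD2_c33 LD3_c44)) = (LP (LK LD1_c3 LD2_c46 LD3_c20)) :=
  Lre_e IH (LK LD1_c7 LD2_c33 LD3_c44) (LK LD1_c3 LD2_c46 LD3_c20) Lrfl Lrfl
theorem f109030 : Led Lsl_et (LP (LK LD1_c13 LD2_c18 LD3_c4)) = (LP (LK LD1_c7 LD2_c0 LD3_c42)) :=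
  Lre_e IH (LK LD1_c13 LD2_c18 LD3_c4) (LK LD1_c7 LD2_c0 LD3_c42) Lrfl Lrfl
theorem f109031 : Led Lsl_dt (LP (LK LD1_c13 LD2_c18 LD3_c4)) = (LP (LK LD1_c22 LD2_c33 LD3_c60)) :=
  Lre_d IH (LK LD1_c13 LD2_c18 LD3_c4) (LK LD1_c22 LD2_c33 LD3_c60) Lrfl Lrfl
theorem f109589 : Led Lsl_at (LP (LK LD1_c13 LD2_c18 LD3_c7)) = (LP (LK LD1_c22 LD2_c33 LD3_c60)) :=
  Lre_a IH (LK LD1_c13 LD2_c18 LD3_c7) (LK LD1_c22 LD2_c33 LD3_c60) Lrfl Lrfl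
theorem f467052 : Led Lsl_gt (LP (LK LD1_c23 LD2_c17 LD3_c45)) = (LP (LK LD1_c22 LD2_c33 LD3_c60)) :=
  Lgr Lrot46 (Lpe (K43.f467051 IH) (Lpr_ft (K43.f467024 IH) (Lpr_at (f109589 IH) (Lpn (LP (LK LD1_c22 LD2_c33 LD3_c60))))))
theorem f88513 : Led Lsl_et (LP (LK LD1_c3 LD2_c36 LD3_c31)) = (LP (LK LD1_c7 LD2_c13 LD3_c25)) :=
  Lre_e IH (LK LD1_c3 LD2_c36 LD3_c31) (LK LD1_c7 LD2_c13 LD3_c25) Lrfl Lrfl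
theorem f88547 : Led Lsl_gt (LP (LK LD1_c7 LD2_c13 LD3_c25)) = (LP (LK LD1_c13 LD2_c40 LD3_c27)) :=
  Lre_g IH (LK LD1_c7 LD2_c13 LD3_c25) (LK LD1_c13 LD2_c40 LD3_c27) Lrfl Lrfl
theorem f479139 : Led Lsl_et (LP (LK LD1_c23 LD2_c6 LD3_c0)) = (LP (LK LD1_c13 LD2_c40 LD3_c27)) :=
  Lre_e IH (LK LD1_c23 LD2_c6 LD3_c0) (LK LD1_c13 LD2_c40 LD3_c27) Lrfl Lrfl
theorem f559227 : Led Lsl_df (LP (LK LD1_c23 LD2_c17 LD3_c45)) = (LP (LK LD1_c23 LD2_c6 LD3_c0)) :=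
  Lgr Lrot170 (Lpr_gt (f467052 IH) (Lpe (f109031 IH) (Lpr_et (f109030 IH) (Lpe (K38.f427169 IH) (Lpe (K38.f548921 IH) (Lpr_gt (K38.f548929 IH) (Lpr_df (K41.f559199 IH) (Lpr_et (f88513 IH) (Lpr_gt (f88547 IH) (Lpe (f479139 IH) (Lpn (LP (LK LD1_c23 LD2_c6 LD3_c0)))))))))))))
theorem f790872 : Led Lsl_gt (LP (LK LD1_c13 LD2_c49 LD3_c23)) = (LP (LK LD1_c23 LD2_c6 LD3_c0)) :=
  Lgr Lrot137 (Lpr_ef (K62.f482644 IH) (Lpr_dt (f462025 IH) (Lpr_gf (K61.f790870 IH) (Lpr_df (f606750 IH) (Lpr_et (f427175 IH) (Lpr_gf (K38.f427169 IH) (Lpe (f109030 IH) (Lpr_dt (f109031 IH) (Lpe (f467052 IH) (Lpr_df (f559227 IH) (Lpn (LP (LK LD1_c23 LD2_c6 LD3_c0)))))))))))))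
theorem f475111 : Led Lsl_at (LP (LK LD1_c7 LD2_c47 LD3_c60)) = (LP (LK LD1_c14 LD2_c42 LD3_c57)) :=
  Lre_a IH (LK LD1_c7 LD2_c47 LD3_c60) (LK LD1_c14 LD2_c42 LD3_c57) Lrfl Lrfl
theorem f790886 : Led Lsl_gf (LP (LK LD1_c14 LD2_c42 LD3_c57)) = (LP (LK LD1_c23 LD2_c6 LD3_c0)) :=
  Lgr Lrot76 (Lpe (f475111 IH) (Lpe (K62.f482638 IH) (Lpr_gt (f790872 IH) (Lpn (LP (LK LD1_c23 LD2_c6 LD3_c0))))))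
theorem f559229 : Led Lsl_dt (LP (LK LD1_c23 LD2_c17 LD3_c45)) = (LP (LK LD1_c23 LD2_c6 LD3_c0)) :=
  Lgr Lrot42 (Lpr_df (f559227 IH) (Lpn (LP (LK LD1_c23 LD2_c6 LD3_c0))))
theorem f815052 : Led Lsl_cf (LP (LK LD1_c23 LD2_c20 LD3_c40)) = (LP (LK LD1_c22 LD2_c33 LD3_c60)) :=
  Lgr Lrot169 (Lpr_gt (f481667 IH) (Lpr_ct (f481668 IH) (Lpr_df (K62.f797106 IH) (Lpr_cf (f815036 IH) (Lpe (f815032 IH) (Lpe (f474926 IH) (Lpr_gf (f790886 IH) (Lpe (f559229 IH) (Lpr_gt (f467052 IH) (Lpn (LP (LK LD1_c22 LD2_c33 LD3_c60))))))))))))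
theorem f815053 : Led Lsl_ct (LP (LK LD1_c22 LD2_c33 LD3_c60)) = (LP (LK LD1_c23 LD2_c20 LD3_c40)) :=
  Leop (Lpr_cf (f815052 IH) (Lpn (LP (LK LD1_c22 LD2_c33 LD3_c60))))
theorem seed_1807 : LEOK LG_c (LK LD1_c22 LD2_c33 LD3_c60) :=
  Leoe_c (LK LD1_c22 LD2_c33 LD3_c60) (f815053 IH)
def v23136 : LQ := Led Lsl_et (LP (LK LD1_c7 LD2_c48 LD3_c12))
theorem f815104 : Led Lsl_et (LP (LK LD1_c7 LD2_c48 LD3_c12)) = v23136 :=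
  Lrfl
theorem f136006 : Led Lsl_gt (LP (LK LD1_c7 LD2_c0 LD3_c55)) = (LP (LK LD1_c3 LD2_c29 LD3_c41)) :=
  Lre_g IH (LK LD1_c7 LD2_c0 LD3_c55) (LK LD1_c3 LD2_c29 LD3_c41) Lrfl Lrfl
theorem f136007 : Led Lsl_et (LP (LK LD1_c13 LD2_c18 LD3_c25)) = (LP (LK LD1_c7 LD2_c0 LD3_c55)) :=
  Lre_e IH (LK LD1_c13 LD2_c18 LD3_c25) (LK LD1_c7 LD2_c0 LD3_c55) Lrfl Lrfl
theorem f529095 : Led Lsl_ff (LP (LK LD1_c13 LD2_c7 LD3_c44)) = (LP (LK LD1_c6 LD2_c57 LD3_c27)) :=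
  Lgr Lrot19 (Lpr_dt (K29.f464429 IH) (Lpr_ft (K35.f529093 IH) (Lpr_dt (K29.f472949 IH) (Lpn (LP (LK LD1_c6 LD2_c57 LD3_c27))))))
theorem f461914 : Led Lsl_bt (LP (LK LD1_c13 LD2_c12 LD3_c44)) = (LP (LK LD1_c6 LD2_c57 LD3_c27)) :=
  Lre_b IH (LK LD1_c13 LD2_c12 LD3_c44) (LK LD1_c6 LD2_c57 LD3_c27) Lrfl Lrfl
theorem f788195 : Led Lsl_ft (LP (LK LD1_c14 LD2_c44 LD3_c13)) = (LP (LK LD1_c13 LD2_c12 LD3_c44)) :=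
  Lgr Lrot75 (Lpr_bf (K62.f788181 IH) (Lpr_ff (f529095 IH) (Lpe (f461914 IH) (Lpn (LP (LK LD1_c13 LD2_c12 LD3_c44))))))
theorem f480639 : Led Lsl_dt (LP (LK LD1_c13 LD2_c12 LD3_c44)) = (LP (LK LD1_c22 LD2_c26 LD3_c38)) :=
  Lre_d IH (LK LD1_c13 LD2_c12 LD3_c44) (LK LD1_c22 LD2_c26 LD3_c38) Lrfl Lrfl
theorem f488477 : Led Lsl_at (LP (LK LD1_c6 LD2_c54 LD3_c10)) = (LP (LK LD1_c13 LD2_c6 LD3_c61)) :=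
  Lre_a IH (LK LD1_c6 LD2_c54 LD3_c10) (LK LD1_c13 LD2_c6 LD3_c61) Lrfl Lrfl
theorem f611568 : Led Lsl_bt (LP (LK LD1_c7 LD2_c0 LD3_c55)) = (LP (LK LD1_c6 LD2_c51 LD3_c44)) :=
  Lgr Lrot62 (Lpr_af (K48.f611564 IH) (Lpe (K48.f532352 IH) (Lpe (f488477 IH) (Lpe (K42.f488433 IH) (Lpe (K35.f529451 IH) (Lpn (LP (LK LD1_c6 LD2_c51 LD3_c44))))))))
theorem f464431 : Led Lsl_et (LP (LK LD1_c6 LD2_c51 LD3_c44)) = (LP (LK LD1_c13 LD2_c3 LD3_c4)) :=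
  Lre_e IH (LK LD1_c6 LD2_c51 LD3_c44) (LK LD1_c13 LD2_c3 LD3_c4) Lrfl Lrfl
theorem f611574 : Led Lsl_bf (LP (LK LD1_c13 LD2_c18 LD3_c25)) = (LP (LK LD1_c13 LD2_c3 LD3_c4)) :=
  Lgr Lrot96 (Lpr_et (f136007 IH) (Lpr_bt (f611568 IH) (Lpr_et (f464431 IH) (Lpn (LP (LK LD1_c13 LD2_c3 LD3_c4))))))
theorem f611578 : Led Lsl_ft (LP (LK LD1_c13 LD2_c18 LD3_c25)) = (LP (LK LD1_c22 LD2_c26 LD3_c38)) :=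
  Lgr Lrot75 (Lpr_bf (f611574 IH) (Lpr_ff (K35.f529089 IH) (Lpe (K47.f479447 IH) (Lpn (LP (LK LD1_c22 LD2_c26 LD3_c38))))))
theorem f611580 : Led Lsl_ff (LP (LK LD1_c13 LD2_c18 LD3_c25)) = (LP (LK LD1_c22 LD2_c26 LD3_c38)) :=
  Lgr Lrot3 (Lpr_ft (f611578 IH) (Lpn (LP (LK LD1_c22 LD2_c26 LD3_c38))))
theorem f788206 : Led Lsl_df (LP (LK LD1_c14 LD2_c44 LD3_c13)) = (LP (LK LD1_c13 LD2_c18 LD3_c25)) :=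
  Lgr Lrot78 (Lpr_ft (f788195 IH) (Lpr_dt (f480639 IH) (Lpe (f611580 IH) (Lpn (LP (LK LD1_c13 LD2_c18 LD3_c25))))))
theorem f802108 : Led Lsl_dt (LP (LK LD1_c12 LD2_c51 LD3_c39)) = (LP (LK LD1_c22 LD2_c0 LD3_c38)) :=
  Lre_d IH (LK LD1_c12 LD2_c51 LD3_c39) (LK LD1_c22 LD2_c0 LD3_c38) Lrfl Lrfl
theorem f802110 : Led Lsl_et (LP (LK LD1_c12 LD2_c51 LD3_c39)) = (LP (LK LD1_c22 LD2_c0 LD3_c39)) :=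
  Lre_e IH (LK LD1_c12 LD2_c51 LD3_c39) (LK LD1_c22 LD2_c0 LD3_c39) Lrfl Lrfl
theorem f815109 : Led Lsl_gf (LP (LK LD1_c22 LD2_c0 LD3_c39)) = v23136 :=
  Lgr Lrot141 (Lpe (f802110 IH) (Lpr_dt (f802108 IH) (Lpe (K62.f803067 IH) (Lpr_df (f788206 IH) (Lpr_et (f136007 IH) (Lpr_gt (f136006 IH) (Lpr_dt (K60.f157584 IH) (Lpr_gt (f440725 IH) (Lpe (f815046 IH) (Lpr_et (f815104 IH) (Lpn v23136)))))))))))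
theorem f543799 : Led Lsl_dt (LP (LK LD1_c6 LD2_c14 LD3_c38)) = (LP (LK LD1_c3 LD2_c38 LD3_c26)) :=
  Lgr Lrot42 (Lpr_df (K37.f543725 IH) (Lpn (LP (LK LD1_c3 LD2_c38 LD3_c26))))
theorem f465585 : Led Lsl_et (LP (LK LD1_c13 LD2_c7 LD3_c14)) = (LP (LK LD1_c22 LD2_c19 LD3_c2)) :=
  Lre_e IH (LK LD1_c13 LD2_c7 LD3_c14) (LK LD1_c22 LD2_c19 LD3_c2) Lrfl Lrfl
theorem f548906 : Led Lsl_ct (LP (LK LD1_c22 LD2_c19 LD3_c2)) = (LP (LK LD1_c21 LD2_c13 LD3_c44)) :=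
  Lgr Lrot15 (Lpe (f465585 IH) (Lpe (K28.f465555 IH) (Lpr_ef (K41.f548902 IH) (Lpn (LP (LK LD1_c21 LD2_c13 LD3_c44))))))
theorem f465565 : Led Lsl_bt (LP (LK LD1_c22 LD2_c19 LD3_c2)) = (LP (LK LD1_c13 LD2_c7 LD3_c17)) :=
  Lre_b IH (LK LD1_c22 LD2_c19 LD3_c2) (LK LD1_c13 LD2_c7 LD3_c17) Lrfl Lrfl
theorem f477566 : Led Lsl_ct (LP (LK LD1_c13 LD2_c44 LD3_c3)) = (LP (LK LD1_c13 LD2_c11 LD3_c27)) :=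
  Lgr Lrot83 (Lpe (K43.f477565 IH) (Lpr_cf (K29.f477556 IH) (Lpr_bf (K29.f473930 IH) (Lpe (K49.f473778 IH) (Lpe (K43.f473752 IH) (Lpn (LP (LK LD1_c13 LD2_c11 LD3_c27))))))))
theorem f93031 : Led Lsl_et (LP (LK LD1_c14 LD2_c22 LD3_c48)) = (LP (LK LD1_c7 LD2_c37 LD3_c47)) :=
  Lre_e IH (LK LD1_c14 LD2_c22 LD3_c48) (LK LD1_c7 LD2_c37 LD3_c47) Lrfl Lrfl
theorem f93032 : Led Lsl_dt (LP (LK LD1_c14 LD2_c22 LD3_c48)) = (LP (LK LD1_c24 LD2_c0 LD3_c61)) :=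
  Lre_d IH (LK LD1_c14 LD2_c22 LD3_c48) (LK LD1_c24 LD2_c0 LD3_c61) Lrfl Lrfl
theorem f419809 : Led Lsl_gt (LP (LK LD1_c7 LD2_c0 LD3_c18)) = (LP (LK LD1_c3 LD2_c45 LD3_c39)) :=
  Lgr Lrot164 (Lpe (K38.f109230 IH) (Lpr_ct (K5.f123647 IH) (Lpe (K7.f123670 IH) (Lpe (K28.f116511 IH) (Lpr_gf (K24.f155568 IH) (Lpe (K4.f103626 IH) (Lpr_ct (K7.f103644 IH) (Lpe (K32.f419793 IH) (Lpr_cf (K32.f419785 IH) (Lpr_bt (K32.f419799 IH) (Lpn (LP (LK LD1_c3 LD2_c45 LD3_c39)))))))))))))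
theorem f419849 : Led Lsl_gt (LP (LK LD1_c24 LD2_c0 LD3_c61)) = (LP (LK LD1_c22 LD2_c33 LD3_c10)) :=
  Lgr Lrot112 (Lpe (f93032 IH) (Lpr_et (f93031 IH) (Lpe (K28.f17337 IH) (Lpe (K3.f17386 IH) (Lpe (K5.f93016 IH) (Lpr_gf (K32.f419843 IH) (Lpe (K32.f92480 IH) (Lpe (f419809 IH) (Lpe (K4.f17918 IH) (Lpr_dt (K41.f17922 IH) (Lpn (LP (LK LD1_c22 LD2_c33 LD3_c10)))))))))))))
theorem f516608 : Led Lsl_gf (LP (LK LD1_c22 LD2_c27 LD3_c47)) = (LP (LK LD1_c14 LD2_c22 LD3_c48)) :=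
  Lgr Lrot147 (Lpe (K43.f516458 IH) (Lpr_gt (K43.f516606 IH) (Lpr_ct (f477566 IH) (Lpr_df (K43.f473753 IH) (Lpe (K62.f15831 IH) (Lpe (K41.f19033 IH) (Lpe (K41.f472711 IH) (Lpe (f419849 IH) (Lpe (f93032 IH) (Lpn (LP (LK LD1_c14 LD2_c22 LD3_c48))))))))))))
theorem f465559 : Led Lsl_et (LP (LK LD1_c7 LD2_c37 LD3_c47)) = (LP (LK LD1_c14 LD2_c22 LD3_c48)) :=
  Lre_e IH (LK LD1_c7 LD2_c37 LD3_c47) (LK LD1_c14 LD2_c22 LD3_c48) Lrfl Lrfl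
theorem f458112 : Led Lsl_et (LP (LK LD1_c22 LD2_c19 LD3_c4)) = (LP (LK LD1_c13 LD2_c7 LD3_c15)) :=
  Lre_e IH (LK LD1_c22 LD2_c19 LD3_c4) (LK LD1_c13 LD2_c7 LD3_c15) Lrfl Lrfl
theorem f465560 : Led Lsl_bt (LP (LK LD1_c14 LD2_c22 LD3_c48)) = (LP (LK LD1_c22 LD2_c19 LD3_c4)) :=
  Lgr Lrot119 (Lpe (f465559 IH) (Lpr_bf (K28.f465551 IH) (Lpe (f458112 IH) (Lpn (LP (LK LD1_c22 LD2_c19 LD3_c4))))))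
theorem f465562 : Led Lsl_bf (LP (LK LD1_c14 LD2_c22 LD3_c48)) = (LP (LK LD1_c22 LD2_c19 LD3_c4)) :=
  Lgr Lrot24 (Lpr_bt (f465560 IH) (Lpn (LP (LK LD1_c22 LD2_c19 LD3_c4))))
theorem f162347 : Led Lsl_ct (LP (LK LD1_c22 LD2_c19 LD3_c4)) = (LP (LK LD1_c13 LD2_c7 LD3_c17)) :=
  Lre_c IH (LK LD1_c22 LD2_c19 LD3_c4) (LK LD1_c13 LD2_c7 LD3_c17) Lrfl Lrfl
theorem f457888 : Led Lsl_bt (LP (LK LD1_c13 LD2_c12 LD3_c50)) = (LP (LK LD1_c6 LD2_c57 LD3_c31)) :=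
  Lre_b IH (LK LD1_c13 LD2_c12 LD3_c50) (LK LD1_c6 LD2_c57 LD3_c31) Lrfl Lrfl
theorem f458009 : Led Lsl_bt (LP (LK LD1_c6 LD2_c57 LD3_c31)) = (LP (LK LD1_c13 LD2_c12 LD3_c50)) :=
  Lre_b IH (LK LD1_c6 LD2_c57 LD3_c31) (LK LD1_c13 LD2_c12 LD3_c50) Lrfl Lrfl
theorem f473191 : Led Lsl_ct (LP (LK LD1_c13 LD2_c12 LD3_c50)) = (LP (LK LD1_c13 LD2_c12 LD3_c50)) :=
  Lgr Lrot83 (Lpe (f458009 IH) (Lpe (K29.f457881 IH) (Lpr_bf (K29.f473187 IH) (Lpe (K28.f457885 IH) (Lpe (f457888 IH) (Lpn (LP (LK LD1_c13 LD2_c12 LD3_c50))))))))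
theorem f516610 : Led Lsl_gf (LP (LK LD1_c13 LD2_c7 LD3_c17)) = (LP (LK LD1_c13 LD2_c12 LD3_c50)) :=
  Lgr Lrot126 (Lpe (f162347 IH) (Lpe (f465562 IH) (Lpe (f516608 IH) (Lpe (K43.f516458 IH) (Lpr_gt (K43.f516606 IH) (Lpr_cf (K43.f477661 IH) (Lpr_bt (K43.f473752 IH) (Lpr_gt (K29.f473746 IH) (Lpe (f457888 IH) (Lpr_ct (f473191 IH) (Lpn (LP (LK LD1_c13 LD2_c12 LD3_c50)))))))))))))
theorem f548916 : Led Lsl_gf (LP (LK LD1_c13 LD2_c14 LD3_c14)) = (LP (LK LD1_c21 LD2_c13 LD3_c44)) :=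
  Lgr Lrot126 (Lpr_cf (K33.f473947 IH) (Lpr_bt (K33.f468984 IH) (Lpr_gt (K29.f468980 IH) (Lpr_ct (K28.f468921 IH) (Lpr_gt (K29.f455085 IH) (Lpe (K28.f457885 IH) (Lpr_bt (f458009 IH) (Lpe (f516610 IH) (Lpe (f465565 IH) (Lpr_ct (f548906 IH) (Lpn (LP (LK LD1_c21 LD2_c13 LD3_c44)))))))))))))
theorem f628249 : Led Lsl_gf (LP (LK LD1_c21 LD2_c13 LD3_c44)) = (LP (LK LD1_c22 LD2_c29 LD3_c2)) :=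
  Lgr Lrot47 (Lpe (f548916 IH) (Lpe (K47.f628247 IH) (Lpr_ff (K47.f628245 IH) (Lpn (LP (LK LD1_c22 LD2_c29 LD3_c2))))))
theorem f815110 : Led Lsl_ct (LP (LK LD1_c22 LD2_c29 LD3_c2)) = v23136 :=
  Lgr Lrot8 (Lpe (f628249 IH) (Lpr_dt (K41.f543596 IH) (Lpr_gt (K41.f420518 IH) (Lpr_dt (f543799 IH) (Lpe (K3.f97506 IH) (Lpe (K42.f97514 IH) (Lpe (K62.f97521 IH) (Lpr_df (K62.f803297 IH) (Lpr_gf (f815109 IH) (Lpn v23136))))))))))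
theorem f742996 : Led Lsl_ft (LP (LK LD1_c20 LD2_c31 LD3_c36)) = (LP (LK LD1_c13 LD2_c51 LD3_c31)) :=
  Lgr Lrot48 (Lpr_ff (K55.f742987 IH) (Lpn (LP (LK LD1_c13 LD2_c51 LD3_c31))))
theorem f574112 : Led Lsl_dt (LP (LK LD1_c13 LD2_c51 LD3_c31)) = (LP (LK LD1_c7 LD2_c19 LD3_c35)) :=
  Lre_d IH (LK LD1_c13 LD2_c51 LD3_c31) (LK LD1_c7 LD2_c19 LD3_c35) Lrfl Lrfl
theorem f661286 : Led Lsl_ft (LP (LK LD1_c7 LD2_c19 LD3_c35)) = (LP (LK LD1_c13 LD2_c51 LD3_c32)) :=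
  Lre_f IH (LK LD1_c7 LD2_c19 LD3_c35) (LK LD1_c13 LD2_c51 LD3_c32) Lrfl Lrfl
theorem f743002 : Led Lsl_df (LP (LK LD1_c20 LD2_c31 LD3_c36)) = (LP (LK LD1_c13 LD2_c51 LD3_c32)) :=
  Lgr Lrot78 (Lpr_ft (f742996 IH) (Lpr_dt (f574112 IH) (Lpr_ft (f661286 IH) (Lpn (LP (LK LD1_c13 LD2_c51 LD3_c32))))))
theorem f138239 : Led Lsl_bt (LP (LK LD1_c20 LD2_c31 LD3_c36)) = (LP (LK LD1_c11 LD2_c34 LD3_c7)) :=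
  Lre_b IH (LK LD1_c20 LD2_c31 LD3_c36) (LK LD1_c11 LD2_c34 LD3_c7) Lrfl Lrfl
theorem f138238 : Led Lsl_dt (LP (LK LD1_c11 LD2_c34 LD3_c7)) = (LP (LK LD1_c20 LD2_c31 LD3_c38)) :=
  Lre_d IH (LK LD1_c11 LD2_c34 LD3_c7) (LK LD1_c20 LD2_c31 LD3_c38) Lrfl Lrfl
theorem f743005 : Led Lsl_bt (LP (LK LD1_c20 LD2_c31 LD3_c38)) = (LP (LK LD1_c13 LD2_c51 LD3_c32)) :=
  Lgr Lrot95 (Lpe (f138238 IH) (Lpe (f138239 IH) (Lpr_df (f743002 IH) (Lpn (LP (LK LD1_c13 LD2_c51 LD3_c32))))))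
theorem f661284 : Led Lsl_ft (LP (LK LD1_c13 LD2_c51 LD3_c32)) = (LP (LK LD1_c7 LD2_c19 LD3_c35)) :=
  Lre_f IH (LK LD1_c13 LD2_c51 LD3_c32) (LK LD1_c7 LD2_c19 LD3_c35) Lrfl Lrfl
theorem f628213 : Led Lsl_bt (LP (LK LD1_c7 LD2_c19 LD3_c35)) = (LP (LK LD1_c13 LD2_c51 LD3_c26)) :=
  Lre_b IH (LK LD1_c7 LD2_c19 LD3_c35) (LK LD1_c13 LD2_c51 LD3_c26) Lrfl Lrfl
theorem f743011 : Led Lsl_ff (LP (LK LD1_c20 LD2_c31 LD3_c38)) = (LP (LK LD1_c13 LD2_c51 LD3_c26)) :=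
  Lgr Lrot25 (Lpr_bt (f743005 IH) (Lpr_ft (f661284 IH) (Lpr_bt (f628213 IH) (Lpn (LP (LK LD1_c13 LD2_c51 LD3_c26))))))
theorem f56404 : Led Lsl_dt (LP (LK LD1_c17 LD2_c9 LD3_c16)) = (LP (LK LD1_c9 LD2_c14 LD3_c52)) :=
  Lre_d IH (LK LD1_c17 LD2_c9 LD3_c16) (LK LD1_c9 LD2_c14 LD3_c52) Lrfl Lrfl
theorem f742909 : Led Lsl_at (LP (LK LD1_c20 LD2_c31 LD3_c38)) = (LP (LK LD1_c17 LD2_c9 LD3_c16)) :=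
  Lgr Lrot51 (Lpe (f138238 IH) (Lpr_af (K55.f742900 IH) (Lpe (f56404 IH) (Lpn (LP (LK LD1_c17 LD2_c9 LD3_c16))))))
theorem f138207 : Led Lsl_dt (LP (LK LD1_c20 LD2_c31 LD3_c41)) = (LP (LK LD1_c11 LD2_c34 LD3_c8)) :=
  Lre_d IH (LK LD1_c20 LD2_c31 LD3_c41) (LK LD1_c11 LD2_c34 LD3_c8) Lrfl Lrfl
theorem f56415 : Led Lsl_dt (LP (LK LD1_c9 LD2_c14 LD3_c52)) = (LP (LK LD1_c17 LD2_c9 LD3_c16)) :=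
  Lre_d IH (LK LD1_c9 LD2_c14 LD3_c52) (LK LD1_c17 LD2_c9 LD3_c16) Lrfl Lrfl
theorem f742896 : Led Lsl_ff (LP (LK LD1_c20 LD2_c31 LD3_c41)) = (LP (LK LD1_c17 LD2_c9 LD3_c16)) :=
  Lgr Lrot19 (Lpr_dt (f138207 IH) (Lpr_ft (K55.f742892 IH) (Lpr_dt (f56415 IH) (Lpn (LP (LK LD1_c17 LD2_c9 LD3_c16))))))
theorem f743013 : Led Lsl_at (LP (LK LD1_c20 LD2_c31 LD3_c41)) = (LP (LK LD1_c13 LD2_c51 LD3_c26)) :=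
  Lgr Lrot66 (Lpr_ff (f742896 IH) (Lpe (f742909 IH) (Lpr_ff (f743011 IH) (Lpn (LP (LK LD1_c13 LD2_c51 LD3_c26))))))
theorem f498724 : Led Lsl_dt (LP (LK LD1_c11 LD2_c34 LD3_c8)) = (LP (LK LD1_c20 LD2_c31 LD3_c41)) :=
  Lre_d IH (LK LD1_c11 LD2_c34 LD3_c8) (LK LD1_c20 LD2_c31 LD3_c41) Lrfl Lrfl
theorem f743021 : Led Lsl_af (LP (LK LD1_c11 LD2_c34 LD3_c8)) = (LP (LK LD1_c12 LD2_c7 LD3_c23)) :=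
  Lgr Lrot117 (Lpr_dt (f498724 IH) (Lpr_at (f743013 IH) (Lpe (K47.f628211 IH) (Lpn (LP (LK LD1_c12 LD2_c7 LD3_c23))))))
theorem f742889 : Led Lsl_et (LP (LK LD1_c11 LD2_c34 LD3_c8)) = (LP (LK LD1_c20 LD2_c31 LD3_c42)) :=
  Lre_e IH (LK LD1_c11 LD2_c34 LD3_c8) (LK LD1_c20 LD2_c31 LD3_c42) Lrfl Lrfl
theorem f743035 : Led Lsl_at (LP (LK LD1_c20 LD2_c31 LD3_c42)) = (LP (LK LD1_c21 LD2_c13 LD3_c33)) :=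
  Lgr Lrot80 (Lpe (f742889 IH) (Lpr_af (f743021 IH) (Lpe (K47.f498815 IH) (Lpn (LP (LK LD1_c21 LD2_c13 LD3_c33))))))
theorem f743042 : Led Lsl_ff (LP (LK LD1_c20 LD2_c31 LD3_c42)) = (LP (LK LD1_c23 LD2_c14 LD3_c42)) :=
  Lgr Lrot30 (Lpr_at (f743035 IH) (Lpr_ft (K62.f628237 IH) (Lpr_at (K62.f628287 IH) (Lpn (LP (LK LD1_c23 LD2_c14 LD3_c42))))))
theorem f743047 : Led Lsl_dt (LP (LK LD1_c20 LD2_c31 LD3_c42)) = (LP (LK LD1_c22 LD2_c29 LD3_c2)) :=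
  Lgr Lrot60 (Lpr_ff (f743042 IH) (Lpe (K47.f628261 IH) (Lpr_ff (K47.f628245 IH) (Lpn (LP (LK LD1_c22 LD2_c29 LD3_c2))))))
theorem f743049 : Led Lsl_ft (LP (LK LD1_c20 LD2_c31 LD3_c42)) = (LP (LK LD1_c23 LD2_c14 LD3_c42)) :=
  Lgr Lrot48 (Lpr_ff (f743042 IH) (Lpn (LP (LK LD1_c23 LD2_c14 LD3_c42))))
theorem f628243 : Led Lsl_af (LP (LK LD1_c21 LD2_c13 LD3_c57)) = (LP (LK LD1_c13 LD2_c14 LD3_c14)) :=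
  Lgr Lrot45 (Lpr_ft (K47.f628241 IH) (Lpr_at (K47.f529433 IH) (Lpe (K47.f529423 IH) (Lpn (LP (LK LD1_c13 LD2_c14 LD3_c14))))))
theorem f477613 : Led Lsl_dt (LP (LK LD1_c22 LD2_c14 LD3_c33)) = (LP (LK LD1_c13 LD2_c14 LD3_c14)) :=
  Lgr Lrot79 (Lpe (K47.f477612 IH) (Lpr_df (K29.f477610 IH) (Lpe (K47.f455391 IH) (Lpn (LP (LK LD1_c13 LD2_c14 LD3_c14))))))
theorem f628263 : Led Lsl_af (LP (LK LD1_c22 LD2_c14 LD3_c33)) = (LP (LK LD1_c23 LD2_c14 LD3_c42)) :=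
  Lgr Lrot117 (Lpr_dt (f477613 IH) (Lpe (f628243 IH) (Lpr_dt (K47.f628261 IH) (Lpn (LP (LK LD1_c23 LD2_c14 LD3_c42))))))
theorem f489123 : Led Lsl_bf (LP (LK LD1_c23 LD2_c57 LD3_c41)) = (LP (LK LD1_c14 LD2_c30 LD3_c51)) :=
  Lgr Lrot24 (Lpr_bt (K43.f489121 IH) (Lpn (LP (LK LD1_c14 LD2_c30 LD3_c51))))
theorem f501759 : Led Lsl_dt (LP (LK LD1_c23 LD2_c57 LD3_c41)) = (LP (LK LD1_c22 LD2_c36 LD3_c11)) :=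
  Lgr Lrot79 (Lpr_bf (f489123 IH) (Lpr_df (K43.f501756 IH) (Lpe (K60.f501758 IH) (Lpn (LP (LK LD1_c22 LD2_c36 LD3_c11))))))
theorem f611449 : Led Lsl_dt (LP (LK LD1_c14 LD2_c25 LD3_c40)) = (LP (LK LD1_c23 LD2_c4 LD3_c11)) :=
  Lgr Lrot113 (Lpe (K47.f481429 IH) (Lpe (K33.f481068 IH) (Lpr_gf (K33.f487818 IH) (Lpr_ct (K33.f489252 IH) (Lpr_gt (K33.f489137 IH) (Lpr_dt (K43.f478006 IH) (Lpe (K43.f489109 IH) (Lpr_dt (f501759 IH) (Lpr_ct (K47.f611443 IH) (Lpn (LP (LK LD1_c23 LD2_c4 LD3_c11))))))))))))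
theorem f525027 : Led Lsl_bt (LP (LK LD1_c7 LD2_c14 LD3_c43)) = (LP (LK LD1_c7 LD2_c8 LD3_c40)) :=
  Lgr Lrot127 (Lpr_bf (K48.f525023 IH) (Lpn (LP (LK LD1_c7 LD2_c8 LD3_c40))))
theorem f467531 : Led Lsl_at (LP (LK LD1_c3 LD2_c37 LD3_c25)) = (LP (LK LD1_c7 LD2_c15 LD3_c19)) :=
  Lre_a IH (LK LD1_c3 LD2_c37 LD3_c25) (LK LD1_c7 LD2_c15 LD3_c19) Lrfl Lrfl
theorem f520295 : Led Lsl_ft (LP (LK LD1_c7 LD2_c13 LD3_c9)) = (LP (LK LD1_c3 LD2_c37 LD3_c25)) :=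
  Lgr Lrot101 (Lpe (K33.f482391 IH) (Lpr_ff (K33.f520293 IH) (Lpe (f467531 IH) (Lpn (LP (LK LD1_c3 LD2_c37 LD3_c25))))))
theorem f482378 : Led Lsl_dt (LP (LK LD1_c13 LD2_c39 LD3_c61)) = (LP (LK LD1_c7 LD2_c13 LD3_c9)) :=
  Lre_d IH (LK LD1_c13 LD2_c39 LD3_c61) (LK LD1_c7 LD2_c13 LD3_c9) Lrfl Lrfl
theorem f467539 : Led Lsl_dt (LP (LK LD1_c3 LD2_c37 LD3_c25)) = (LP (LK LD1_c7 LD2_c15 LD3_c20)) :=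
  Lre_d IH (LK LD1_c3 LD2_c37 LD3_c25) (LK LD1_c7 LD2_c15 LD3_c20) Lrfl Lrfl
theorem f522021 : Led Lsl_ff (LP (LK LD1_c13 LD2_c39 LD3_c61)) = (LP (LK LD1_c7 LD2_c15 LD3_c20)) :=
  Lgr Lrot19 (Lpr_dt (f482378 IH) (Lpr_ft (f520295 IH) (Lpr_dt (f467539 IH) (Lpn (LP (LK LD1_c7 LD2_c15 LD3_c20))))))
theorem f522032 : Led Lsl_ft (LP (LK LD1_c13 LD2_c39 LD3_c61)) = (LP (LK LD1_c7 LD2_c15 LD3_c20)) :=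
  Lgr Lrot48 (Lpr_ff (f522021 IH) (Lpn (LP (LK LD1_c7 LD2_c15 LD3_c20))))
theorem f522036 : Led Lsl_et (LP (LK LD1_c23 LD2_c5 LD3_c28)) = (LP (LK LD1_c13 LD2_c39 LD3_c61)) :=
  Lre_e IH (LK LD1_c23 LD2_c5 LD3_c28) (LK LD1_c13 LD2_c39 LD3_c61) Lrfl Lrfl
theorem f522037 : Led Lsl_ft (LP (LK LD1_c30 LD2_c53 LD3_c43)) = (LP (LK LD1_c23 LD2_c5 LD3_c28)) :=
  Lre_f IH (LK LD1_c30 LD2_c53 LD3_c43) (LK LD1_c23 LD2_c5 LD3_c28) Lrfl Lrfl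
theorem f480766 : Led Lsl_et (LP (LK LD1_c7 LD2_c15 LD3_c20)) = (LP (LK LD1_c13 LD2_c43 LD3_c56)) :=
  Lre_e IH (LK LD1_c7 LD2_c15 LD3_c20) (LK LD1_c13 LD2_c43 LD3_c56) Lrfl Lrfl
theorem f522038 : Led Lsl_ft (LP (LK LD1_c13 LD2_c43 LD3_c56)) = (LP (LK LD1_c23 LD2_c10 LD3_c36)) :=
  Lre_f IH (LK LD1_c13 LD2_c43 LD3_c56) (LK LD1_c23 LD2_c10 LD3_c36) Lrfl Lrfl
theorem f522039 : Led Lsl_ef (LP (LK LD1_c30 LD2_c53 LD3_c43)) = (LP (LK LD1_c23 LD2_c10 LD3_c36)) :=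
  Lgr Lrot21 (Lpr_ft (f522037 IH) (Lpr_et (f522036 IH) (Lpr_ft (f522032 IH) (Lpr_et (f480766 IH) (Lpr_ft (f522038 IH) (Lpn (LP (LK LD1_c23 LD2_c10 LD3_c36))))))))
theorem f522044 : Led Lsl_bt (LP (LK LD1_c30 LD2_c53 LD3_c43)) = (LP (LK LD1_c23 LD2_c5 LD3_c32)) :=
  Lre_b IH (LK LD1_c30 LD2_c53 LD3_c43) (LK LD1_c23 LD2_c5 LD3_c32) Lrfl Lrfl
theorem f522045 : Led Lsl_bt (LP (LK LD1_c13 LD2_c44 LD3_c2)) = (LP (LK LD1_c23 LD2_c10 LD3_c36)) :=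
  Lre_b IH (LK LD1_c13 LD2_c44 LD3_c2) (LK LD1_c23 LD2_c10 LD3_c36) Lrfl Lrfl
theorem f522046 : Led Lsl_et (LP (LK LD1_c23 LD2_c5 LD3_c32)) = (LP (LK LD1_c13 LD2_c44 LD3_c2)) :=
  Lgr Lrot74 (Lpe (f522044 IH) (Lpr_ef (f522039 IH) (Lpe (f522045 IH) (Lpn (LP (LK LD1_c13 LD2_c44 LD3_c2))))))
theorem f522054 : Led Lsl_ef (LP (LK LD1_c23 LD2_c5 LD3_c32)) = (LP (LK LD1_c13 LD2_c44 LD3_c2)) :=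
  Lgr Lrot88 (Lpr_et (f522046 IH) (Lpn (LP (LK LD1_c13 LD2_c44 LD3_c2))))
theorem f522061 : Led Lsl_ct (LP (LK LD1_c23 LD2_c5 LD3_c32)) = (LP (LK LD1_c30 LD2_c53 LD3_c44)) :=
  Lre_c IH (LK LD1_c23 LD2_c5 LD3_c32) (LK LD1_c30 LD2_c53 LD3_c44) Lrfl Lrfl
theorem f522062 : Led Lsl_et (LP (LK LD1_c30 LD2_c53 LD3_c44)) = (LP (LK LD1_c23 LD2_c10 LD3_c39)) :=
  Lgr Lrot158 (Lpe (f522061 IH) (Lpr_ef (f522054 IH) (Lpe (K33.f519912 IH) (Lpn (LP (LK LD1_c23 LD2_c10 LD3_c39))))))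
theorem f522067 : Led Lsl_ft (LP (LK LD1_c23 LD2_c5 LD3_c29)) = (LP (LK LD1_c30 LD2_c53 LD3_c44)) :=
  Lre_f IH (LK LD1_c23 LD2_c5 LD3_c29) (LK LD1_c30 LD2_c53 LD3_c44) Lrfl Lrfl
theorem f522068 : Led Lsl_et (LP (LK LD1_c13 LD2_c40 LD3_c0)) = (LP (LK LD1_c23 LD2_c5 LD3_c29)) :=
  Lre_e IH (LK LD1_c13 LD2_c40 LD3_c0) (LK LD1_c23 LD2_c5 LD3_c29) Lrfl Lrfl
theorem f519923 : Led Lsl_ft (LP (LK LD1_c23 LD2_c10 LD3_c39)) = (LP (LK LD1_c13 LD2_c43 LD3_c60)) :=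
  Lre_f IH (LK LD1_c23 LD2_c10 LD3_c39) (LK LD1_c13 LD2_c43 LD3_c60) Lrfl Lrfl
theorem f522069 : Led Lsl_ff (LP (LK LD1_c13 LD2_c40 LD3_c0)) = (LP (LK LD1_c7 LD2_c15 LD3_c22)) :=
  Lgr Lrot72 (Lpr_et (f522068 IH) (Lpr_ft (f522067 IH) (Lpr_et (f522062 IH) (Lpr_ft (f519923 IH) (Lpr_et (K33.f519934 IH) (Lpn (LP (LK LD1_c7 LD2_c15 LD3_c22))))))))
theorem f522071 : Led Lsl_at (LP (LK LD1_c13 LD2_c40 LD3_c0)) = (LP (LK LD1_c7 LD2_c15 LD3_c15)) :=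
  Lgr Lrot66 (Lpr_ff (f522069 IH) (Lpr_af (K33.f519938 IH) (Lpe (K33.f519943 IH) (Lpn (LP (LK LD1_c7 LD2_c15 LD3_c15))))))
theorem f522075 : Led Lsl_gf (LP (LK LD1_c13 LD2_c42 LD3_c26)) = (LP (LK LD1_c7 LD2_c15 LD3_c22)) :=
  Lgr Lrot47 (Lpr_gt (K47.f481288 IH) (Lpe (f522071 IH) (Lpr_ff (f522069 IH) (Lpn (LP (LK LD1_c7 LD2_c15 LD3_c22))))))
theorem f481032 : Led Lsl_ct (LP (LK LD1_c7 LD2_c8 LD3_c34)) = (LP (LK LD1_c13 LD2_c31 LD3_c40)) :=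
  Lre_c IH (LK LD1_c7 LD2_c8 LD3_c34) (LK LD1_c13 LD2_c31 LD3_c40) Lrfl Lrfl
theorem f525054 : Led Lsl_gt (LP (LK LD1_c13 LD2_c31 LD3_c40)) = (LP (LK LD1_c22 LD2_c53 LD3_c8)) :=
  Lre_g IH (LK LD1_c13 LD2_c31 LD3_c40) (LK LD1_c22 LD2_c53 LD3_c8) Lrfl Lrfl
theorem f525055 : Led Lsl_ct (LP (LK LD1_c13 LD2_c43 LD3_c39)) = (LP (LK LD1_c22 LD2_c53 LD3_c8)) :=
  Lgr Lrot10 (Lpr_bt (K41.f478169 IH) (Lpr_gt (K43.f478167 IH) (Lpr_ct (K33.f477978 IH) (Lpe (f522075 IH) (Lpe (K47.f481287 IH) (Lpr_bt (f525027 IH) (Lpr_gt (K48.f466688 IH) (Lpe (K35.f468839 IH) (Lpr_ct (f481032 IH) (Lpr_gt (f525054 IH) (Lpn (LP (LK LD1_c22 LD2_c53 LD3_c8)))))))))))))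
theorem f525061 : Led Lsl_cf (LP (LK LD1_c13 LD2_c43 LD3_c39)) = (LP (LK LD1_c22 LD2_c53 LD3_c8)) :=
  Lgr Lrot11 (Lpr_ct (f525055 IH) (Lpn (LP (LK LD1_c22 LD2_c53 LD3_c8))))
theorem f525067 : Led Lsl_dt (LP (LK LD1_c30 LD2_c46 LD3_c37)) = (LP (LK LD1_c22 LD2_c53 LD3_c8)) :=
  Lre_d IH (LK LD1_c30 LD2_c46 LD3_c37) (LK LD1_c22 LD2_c53 LD3_c8) Lrfl Lrfl
theorem f611718 : Led Lsl_gt (LP (LK LD1_c30 LD2_c43 LD3_c28)) = (LP (LK LD1_c30 LD2_c46 LD3_c37)) :=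
  Lgr Lrot49 (Lpe (K61.f17585 IH) (Lpe (K33.f17591 IH) (Lpe (K33.f481093 IH) (Lpr_gt (K47.f481429 IH) (Lpr_dt (f611449 IH) (Lpr_gt (K47.f478186 IH) (Lpe (K41.f478175 IH) (Lpr_cf (f525061 IH) (Lpe (f525067 IH) (Lpn (LP (LK LD1_c30 LD2_c46 LD3_c37))))))))))))
theorem f529784 : Led Lsl_ff (LP (LK LD1_c22 LD2_c48 LD3_c8)) = (LP (LK LD1_c13 LD2_c32 LD3_c18)) :=
  Lgr Lrot3 (Lpr_ft (K61.f529779 IH) (Lpn (LP (LK LD1_c13 LD2_c32 LD3_c18))))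
theorem f10832 : Led Lsl_dt (LP (LK LD1_c22 LD2_c54 LD3_c10)) = (LP (LK LD1_c13 LD2_c32 LD3_c18)) :=
  Lre_d IH (LK LD1_c22 LD2_c54 LD3_c10) (LK LD1_c13 LD2_c32 LD3_c18) Lrfl Lrfl
theorem f529792 : Led Lsl_ft (LP (LK LD1_c30 LD2_c43 LD3_c28)) = (LP (LK LD1_c22 LD2_c54 LD3_c10)) :=
  Lgr Lrot54 (Lpe (K61.f17585 IH) (Lpr_ff (f529784 IH) (Lpe (f10832 IH) (Lpn (LP (LK LD1_c22 LD2_c54 LD3_c10))))))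
theorem f529795 : Led Lsl_at (LP (LK LD1_c22 LD2_c54 LD3_c10)) = (LP (LK LD1_c30 LD2_c47 LD3_c16)) :=
  Lre_a IH (LK LD1_c22 LD2_c54 LD3_c10) (LK LD1_c30 LD2_c47 LD3_c16) Lrfl Lrfl
theorem f611720 : Led Lsl_gf (LP (LK LD1_c30 LD2_c47 LD3_c16)) = (LP (LK LD1_c30 LD2_c46 LD3_c37)) :=
  Lgr Lrot76 (Lpe (f529795 IH) (Lpe (f529792 IH) (Lpr_gt (f611718 IH) (Lpn (LP (LK LD1_c30 LD2_c46 LD3_c37))))))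
theorem f529730 : Led Lsl_dt (LP (LK LD1_c30 LD2_c47 LD3_c16)) = (LP (LK LD1_c22 LD2_c54 LD3_c4)) :=
  Lre_d IH (LK LD1_c30 LD2_c47 LD3_c16) (LK LD1_c22 LD2_c54 LD3_c4) Lrfl Lrfl
theorem f17589 : Led Lsl_gt (LP (LK LD1_c7 LD2_c19 LD3_c25)) = (LP (LK LD1_c13 LD2_c51 LD3_c6)) :=
  Lre_g IH (LK LD1_c7 LD2_c19 LD3_c25) (LK LD1_c13 LD2_c51 LD3_c6) Lrfl Lrfl
theorem f529727 : Led Lsl_gt (LP (LK LD1_c13 LD2_c51 LD3_c6)) = (LP (LK LD1_c22 LD2_c54 LD3_c5)) :=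
  Lgr Lrot46 (Lpe (f17589 IH) (Lpr_ft (K47.f528127 IH) (Lpr_at (K47.f480667 IH) (Lpn (LP (LK LD1_c22 LD2_c54 LD3_c5))))))
theorem f525063 : Led Lsl_dt (LP (LK LD1_c22 LD2_c53 LD3_c8)) = (LP (LK LD1_c30 LD2_c46 LD3_c37)) :=
  Lre_d IH (LK LD1_c22 LD2_c53 LD3_c8) (LK LD1_c30 LD2_c46 LD3_c37) Lrfl Lrfl
theorem f488937 : Led Lsl_gt (LP (LK LD1_c7 LD2_c8 LD3_c34)) = (LP (LK LD1_c13 LD2_c31 LD3_c38)) :=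
  Lre_g IH (LK LD1_c7 LD2_c8 LD3_c34) (LK LD1_c13 LD2_c31 LD3_c38) Lrfl Lrfl
theorem f611723 : Led Lsl_df (LP (LK LD1_c13 LD2_c51 LD3_c6)) = (LP (LK LD1_c13 LD2_c31 LD3_c38)) :=
  Lgr Lrot153 (Lpr_gt (f529727 IH) (Lpr_dt (K47.f480663 IH) (Lpe (K47.f529729 IH) (Lpe (f529730 IH) (Lpr_gf (f611720 IH) (Lpe (f525063 IH) (Lpe (f525054 IH) (Lpe (f481032 IH) (Lpr_gt (f488937 IH) (Lpn (LP (LK LD1_c13 LD2_c31 LD3_c38))))))))))))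
theorem f526871 : Led Lsl_et (LP (LK LD1_c22 LD2_c53 LD3_c5)) = (LP (LK LD1_c13 LD2_c31 LD3_c38)) :=
  Lre_e IH (LK LD1_c22 LD2_c53 LD3_c5) (LK LD1_c13 LD2_c31 LD3_c38) Lrfl Lrfl
theorem f524657 : Led Lsl_dt (LP (LK LD1_c22 LD2_c47 LD3_c56)) = (LP (LK LD1_c13 LD2_c28 LD3_c19)) :=
  Lre_d IH (LK LD1_c22 LD2_c47 LD3_c56) (LK LD1_c13 LD2_c28 LD3_c19) Lrfl Lrfl
theorem f489021 : Led Lsl_bt (LP (LK LD1_c3 LD2_c33 LD3_c51)) = (LP (LK LD1_c7 LD2_c8 LD3_c34)) :=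
  Lre_b IH (LK LD1_c3 LD2_c33 LD3_c51) (LK LD1_c7 LD2_c8 LD3_c34) Lrfl Lrfl
theorem f524553 : Led Lsl_ft (LP (LK LD1_c7 LD2_c8 LD3_c34)) = (LP (LK LD1_c13 LD2_c28 LD3_c20)) :=
  Lgr Lrot75 (Lpe (f489021 IH) (Lpr_ff (K35.f524550 IH) (Lpe (K35.f524552 IH) (Lpn (LP (LK LD1_c13 LD2_c28 LD3_c20))))))
theorem f524650 : Led Lsl_at (LP (LK LD1_c13 LD2_c28 LD3_c20)) = (LP (LK LD1_c22 LD2_c47 LD3_c56)) :=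
  Lre_a IH (LK LD1_c13 LD2_c28 LD3_c20) (LK LD1_c22 LD2_c47 LD3_c56) Lrfl Lrfl
theorem f526869 : Led Lsl_gt (LP (LK LD1_c13 LD2_c31 LD3_c38)) = (LP (LK LD1_c22 LD2_c47 LD3_c56)) :=
  Lgr Lrot46 (Lpe (f488937 IH) (Lpr_ft (f524553 IH) (Lpr_at (f524650 IH) (Lpn (LP (LK LD1_c22 LD2_c47 LD3_c56))))))
theorem f72180 : Led Lsl_dt (LP (LK LD1_c17 LD2_c0 LD3_c40)) = (LP (LK LD1_c9 LD2_c8 LD3_c11)) :=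
  Lre_d IH (LK LD1_c17 LD2_c0 LD3_c40) (LK LD1_c9 LD2_c8 LD3_c11) Lrfl Lrfl
theorem f576921 : Led Lsl_dt (LP (LK LD1_c22 LD2_c53 LD3_c5)) = (LP (LK LD1_c17 LD2_c0 LD3_c38)) :=
  Lgr Lrot37 (Lpr_et (f526871 IH) (Lpr_gt (f526869 IH) (Lpr_dt (f524657 IH) (Lpe (K40.f524918 IH) (Lpe (K47.f96808 IH) (Lpr_et (K43.f576902 IH) (Lpe (K38.f424550 IH) (Lpe (K41.f424558 IH) (Lpr_dt (f72180 IH) (Lpr_gt (K37.f72172 IH) (Lpn (LP (LK LD1_c17 LD2_c0 LD3_c38)))))))))))))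
theorem f577019 : Led Lsl_df (LP (LK LD1_c22 LD2_c53 LD3_c5)) = (LP (LK LD1_c17 LD2_c0 LD3_c38)) :=
  Lgr Lrot38 (Lpr_dt (f576921 IH) (Lpn (LP (LK LD1_c17 LD2_c0 LD3_c38))))
theorem f611730 : Led Lsl_et (LP (LK LD1_c13 LD2_c51 LD3_c6)) = (LP (LK LD1_c12 LD2_c7 LD3_c47)) :=
  Lgr Lrot71 (Lpr_df (f611723 IH) (Lpe (f526871 IH) (Lpr_df (f577019 IH) (Lpr_ef (K37.f438179 IH) (Lpe (K61.f438183 IH) (Lpn (LP (LK LD1_c12 LD2_c7 LD3_c47))))))))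
theorem f611736 : Led Lsl_ef (LP (LK LD1_c13 LD2_c51 LD3_c6)) = (LP (LK LD1_c12 LD2_c7 LD3_c47)) :=
  Lgr Lrot88 (Lpr_et (f611730 IH) (Lpn (LP (LK LD1_c12 LD2_c7 LD3_c47))))
theorem f611783 : Led Lsl_gt (LP (LK LD1_c22 LD2_c14 LD3_c33)) = (LP (LK LD1_c21 LD2_c14 LD3_c11)) :=
  Lgr Lrot112 (Lpr_df (K47.f477608 IH) (Lpe (K33.f477623 IH) (Lpe (K33.f467012 IH) (Lpr_ef (K43.f488843 IH) (Lpr_dt (K47.f481144 IH) (Lpr_gf (K47.f529743 IH) (Lpe (K47.f480663 IH) (Lpe (f529727 IH) (Lpr_ef (f611736 IH) (Lpr_dt (K61.f438183 IH) (Lpn (LP (LK LD1_c21 LD2_c14 LD3_c11)))))))))))))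
theorem f458549 : Led Lsl_ct (LP (LK LD1_c22 LD2_c14 LD3_c33)) = (LP (LK LD1_c30 LD2_c23 LD3_c3)) :=
  Lre_c IH (LK LD1_c22 LD2_c14 LD3_c33) (LK LD1_c30 LD2_c23 LD3_c3) Lrfl Lrfl
theorem f611785 : Led Lsl_gt (LP (LK LD1_c30 LD2_c23 LD3_c3)) = (LP (LK LD1_c23 LD2_c4 LD3_c9)) :=
  Lgr Lrot94 (Lpe (f458549 IH) (Lpr_gt (f611783 IH) (Lpr_dt (K37.f438178 IH) (Lpr_gt (K37.f75668 IH) (Lpr_dt (K43.f75667 IH) (Lpe (K43.f75669 IH) (Lpe (K43.f75660 IH) (Lpe (K43.f75760 IH) (Lpr_df (K43.f578533 IH) (Lpn (LP (LK LD1_c23 LD2_c4 LD3_c9))))))))))))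
theorem f137507 : Led Lsl_dt (LP (LK LD1_c21 LD2_c14 LD3_c8)) = (LP (LK LD1_c12 LD2_c7 LD3_c46)) :=
  Lre_d IH (LK LD1_c21 LD2_c14 LD3_c8) (LK LD1_c12 LD2_c7 LD3_c46) Lrfl Lrfl
theorem f611789 : Led Lsl_gf (LP (LK LD1_c22 LD2_c14 LD3_c33)) = (LP (LK LD1_c21 LD2_c14 LD3_c8)) :=
  Lgr Lrot147 (Lpr_ct (f458549 IH) (Lpr_gt (f611785 IH) (Lpr_ct (K43.f490103 IH) (Lpe (K43.f478192 IH) (Lpe (K37.f490096 IH) (Lpe (K28.f463600 IH) (Lpr_cf (K28.f97518 IH) (Lpe (K43.f543766 IH) (Lpe (f137507 IH) (Lpn (LP (LK LD1_c21 LD2_c14 LD3_c8))))))))))))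
theorem f743055 : Led Lsl_gt (LP (LK LD1_c20 LD2_c31 LD3_c42)) = (LP (LK LD1_c21 LD2_c14 LD3_c8)) :=
  Lgr Lrot5 (Lpr_ft (f743049 IH) (Lpe (f628263 IH) (Lpr_gf (f611789 IH) (Lpn (LP (LK LD1_c21 LD2_c14 LD3_c8))))))
theorem f743044 : Led Lsl_ct (LP (LK LD1_c20 LD2_c31 LD3_c42)) = (LP (LK LD1_c29 LD2_c29 LD3_c43)) :=
  Lre_c IH (LK LD1_c20 LD2_c31 LD3_c42) (LK LD1_c29 LD2_c29 LD3_c43) Lrfl Lrfl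
theorem f743057 : Led Lsl_gt (LP (LK LD1_c29 LD2_c29 LD3_c43)) = (LP (LK LD1_c29 LD2_c54 LD3_c53)) :=
  Lgr Lrot94 (Lpe (f743044 IH) (Lpr_gt (f743055 IH) (Lpr_dt (f137507 IH) (Lpr_gt (K43.f543766 IH) (Lpe (K61.f543723 IH) (Lpe (K43.f420532 IH) (Lpe (K43.f420550 IH) (Lpe (K43.f420554 IH) (Lpe (K43.f137514 IH) (Lpn (LP (LK LD1_c29 LD2_c54 LD3_c53))))))))))))
theorem f578511 : Led Lsl_ct (LP (LK LD1_c29 LD2_c54 LD3_c53)) = (LP (LK LD1_c22 LD2_c46 LD3_c18)) :=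
  Lgr Lrot7 (Lpe (K43.f75759 IH) (Lpe (K43.f75758 IH) (Lpe (K43.f75713 IH) (Lpe (K37.f75798 IH) (Lpe (K37.f543485 IH) (Lpr_gt (K43.f578509 IH) (Lpe (K43.f569368 IH) (Lpe (K43.f564317 IH) (Lpr_dt (K41.f488670 IH) (Lpn (LP (LK LD1_c22 LD2_c46 LD3_c18))))))))))))
theorem f743061 : Led Lsl_gf (LP (LK LD1_c20 LD2_c31 LD3_c42)) = (LP (LK LD1_c21 LD2_c14 LD3_c11)) :=
  Lgr Lrot147 (Lpr_ct (f743044 IH) (Lpr_gt (f743057 IH) (Lpr_ct (f578511 IH) (Lpe (K41.f488670 IH) (Lpe (K43.f513308 IH) (Lpe (K34.f419656 IH) (Lpe (K61.f543710 IH) (Lpe (K37.f75668 IH) (Lpe (K37.f438178 IH) (Lpn (LP (LK LD1_c21 LD2_c14 LD3_c11))))))))))))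
theorem f815111 : Led Lsl_dt (LP (LK LD1_c22 LD2_c41 LD3_c47)) = v23136 :=
  Lgr Lrot113 (Lpe (f463605 IH) (Lpe (K48.f463604 IH) (Lpe (K28.f463600 IH) (Lpr_ct (K43.f97529 IH) (Lpe (K37.f543712 IH) (Lpr_dt (K61.f438183 IH) (Lpe (f743061 IH) (Lpr_dt (f743047 IH) (Lpr_ct (f815110 IH) (Lpn v23136))))))))))
theorem f815112 : Led Lsl_df (LP (LK LD1_c22 LD2_c41 LD3_c47)) = v23136 :=
  Lgr Lrot38 (Lpr_dt (f815111 IH) (Lpn v23136))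
theorem f815114 : Led Lsl_ft (LP (LK LD1_c22 LD2_c26 LD3_c53)) = v23136 :=
  Lgr Lrot54 (Lpe (K62.f514108 IH) (Lpe (f514106 IH) (Lpr_df (f815112 IH) (Lpn v23136))))
theorem f528909 : Led Lsl_af (LP (LK LD1_c6 LD2_c57 LD3_c29)) = (LP (LK LD1_c6 LD2_c57 LD3_c32)) :=
  Lgr Lrot0 (Lpr_at (K35.f528901 IH) (Lpn (LP (LK LD1_c6 LD2_c57 LD3_c32))))
theorem f483824 : Led Lsl_bt (LP (LK LD1_c6 LD2_c57 LD3_c32)) = (LP (LK LD1_c13 LD2_c12 LD3_c52)) :=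
  Lre_b IH (LK LD1_c6 LD2_c57 LD3_c32) (LK LD1_c13 LD2_c12 LD3_c52) Lrfl Lrfl
theorem f528879 : Led Lsl_ft (LP (LK LD1_c6 LD2_c55 LD3_c37)) = (LP (LK LD1_c6 LD2_c57 LD3_c32)) :=
  Lgr Lrot75 (Lpe (K33.f477147 IH) (Lpr_ff (K35.f528869 IH) (Lpe (f483824 IH) (Lpn (LP (LK LD1_c6 LD2_c57 LD3_c32))))))
theorem f528925 : Led Lsl_af (LP (LK LD1_c6 LD2_c55 LD3_c37)) = (LP (LK LD1_c6 LD2_c57 LD3_c33)) :=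
  Lgr Lrot45 (Lpr_ft (f528879 IH) (Lpe (f528909 IH) (Lpr_ft (K35.f528923 IH) (Lpn (LP (LK LD1_c6 LD2_c57 LD3_c33))))))
theorem f473950 : Led Lsl_at (LP (LK LD1_c22 LD2_c26 LD3_c53)) = (LP (LK LD1_c13 LD2_c12 LD3_c54)) :=
  Lre_a IH (LK LD1_c22 LD2_c26 LD3_c53) (LK LD1_c13 LD2_c12 LD3_c54) Lrfl Lrfl
theorem f529462 : Led Lsl_bt (LP (LK LD1_c22 LD2_c21 LD3_c55)) = (LP (LK LD1_c22 LD2_c26 LD3_c53)) :=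
  Lgr Lrot62 (Lpe (K39.f477148 IH) (Lpe (K32.f477139 IH) (Lpr_af (f528925 IH) (Lpe (K33.f468984 IH) (Lpe (f473950 IH) (Lpn (LP (LK LD1_c22 LD2_c26 LD3_c53))))))))
theorem f815115 : Led Lsl_bf (LP (LK LD1_c22 LD2_c26 LD3_c50)) = v23136 :=
  Lgr Lrot61 (Lpe (K48.f529028 IH) (Lpr_bt (f529462 IH) (Lpr_ft (f815114 IH) (Lpn v23136))))
def v23134 : LQ := Led Lsl_bt (LP (LK LD1_c7 LD2_c48 LD3_c12))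
theorem f815089 : Led Lsl_bt (LP (LK LD1_c7 LD2_c48 LD3_c12)) = v23134 :=
  Lrfl
theorem f815090 : Led Lsl_bf (LP (LK LD1_c7 LD2_c48 LD3_c12)) = v23134 :=
  Lgr Lrot24 (Lpr_bt (f815089 IH) (Lpn v23134))
theorem f815117 : Led Lsl_et (LP (LK LD1_c22 LD2_c26 LD3_c50)) = v23134 :=
  Lgr Lrot74 (Lpr_bf (f815115 IH) (Lpe (f815104 IH) (Lpr_bf (f815090 IH) (Lpn v23134))))
theorem f815118 : Led Lsl_ef (LP (LK LD1_c22 LD2_c26 LD3_c50)) = v23134 :=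
  Lgr Lrot88 (Lpr_et (f815117 IH) (Lpn v23134))
theorem f151474 : Led Lsl_et (LP (LK LD1_c6 LD2_c53 LD3_c8)) = (LP (LK LD1_c3 LD2_c25 LD3_c34)) :=
  Lre_e IH (LK LD1_c6 LD2_c53 LD3_c8) (LK LD1_c3 LD2_c25 LD3_c34) Lrfl Lrfl
theorem f122092 : Led Lsl_dt (LP (LK LD1_c13 LD2_c5 LD3_c12)) = (LP (LK LD1_c22 LD2_c15 LD3_c52)) :=
  Lre_d IH (LK LD1_c13 LD2_c5 LD3_c12) (LK LD1_c22 LD2_c15 LD3_c52) Lrfl Lrfl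
theorem f815048 : Led Lsl_ft (LP (LK LD1_c7 LD2_c48 LD3_c12)) = v22351 :=
  Lgr Lrot101 (Lpr_af (f815044 IH) (Lpe (f815043 IH) (Lpr_af (f805706 IH) (Lpn v22351))))
theorem f815049 : Led Lsl_df (LP (LK LD1_c7 LD2_c48 LD3_c12)) = (LP (LK LD1_c13 LD2_c18 LD3_c26)) :=
  Lgr Lrot78 (Lpr_ft (f815048 IH) (Lpe (f805711 IH) (Lpr_ft (f805722 IH) (Lpn (LP (LK LD1_c13 LD2_c18 LD3_c26))))))
theorem f487170 : Led Lsl_bt (LP (LK LD1_c22 LD2_c34 LD3_c22)) = (LP (LK LD1_c13 LD2_c18 LD3_c26)) :=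
  Lre_b IH (LK LD1_c22 LD2_c34 LD3_c22) (LK LD1_c13 LD2_c18 LD3_c26) Lrfl Lrfl
theorem f815091 : Led Lsl_df (LP (LK LD1_c22 LD2_c34 LD3_c22)) = v23134 :=
  Lgr Lrot12 (Lpr_bt (f487170 IH) (Lpe (f815049 IH) (Lpr_bt (f815089 IH) (Lpn v23134))))
theorem f815119 : Led Lsl_gt (LP (LK LD1_c22 LD2_c15 LD3_c52)) = (LP (LK LD1_c22 LD2_c34 LD3_c22)) :=
  Lgr Lrot112 (Lpe (f122092 IH) (Lpr_et (K47.f122091 IH) (Lpe (K4.f122086 IH) (Lpe (f151474 IH) (Lpr_dt (K28.f151475 IH) (Lpe (K48.f151476 IH) (Lpe (K48.f554101 IH) (Lpr_gf (K48.f529030 IH) (Lpr_ef (f815118 IH) (Lpe (f815091 IH) (Lpn (LP (LK LD1_c22 LD2_c34 LD3_c22)))))))))))))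
theorem f815120 : Led Lsl_gt (LP (LK LD1_c22 LD2_c15 LD3_c52)) = (LP (LK LD1_c22 LD2_c34 LD3_c22)) :=
  Leop (Lpe (f815119 IH) (Lpn (LP (LK LD1_c22 LD2_c15 LD3_c52))))
theorem seed_1808 : LEOK LG_g (LK LD1_c22 LD2_c15 LD3_c52) :=
  Leoe_g (LK LD1_c22 LD2_c15 LD3_c52) (f815120 IH)
def v23143 : LQ := Led Lsl_ft (LP (LK LD1_c7 LD2_c48 LD3_c27))
theorem f815144 : Led Lsl_ft (LP (LK LD1_c7 LD2_c48 LD3_c27)) = v23143 :=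
  Lrfl
theorem f129840 : Led Lsl_gt (LP (LK LD1_c7 LD2_c48 LD3_c27)) = (LP (LK LD1_c14 LD2_c43 LD3_c56)) :=
  Lre_g IH (LK LD1_c7 LD2_c48 LD3_c27) (LK LD1_c14 LD2_c43 LD3_c56) Lrfl Lrfl
theorem f474088 : Led Lsl_ft (LP (LK LD1_c3 LD2_c48 LD3_c7)) = (LP (LK LD1_c1 LD2_c53 LD3_c0)) :=
  Lgr Lrot54 (Lpe (K29.f62778 IH) (Lpr_ff (K29.f474077 IH) (Lpe (K24.f451116 IH) (Lpn (LP (LK LD1_c1 LD2_c53 LD3_c0))))))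
theorem f474220 : Led Lsl_af (LP (LK LD1_c3 LD2_c48 LD3_c3)) = (LP (LK LD1_c1 LD2_c53 LD3_c0)) :=
  Lgr Lrot45 (Lpr_ft (K29.f474218 IH) (Lpe (K29.f474108 IH) (Lpr_ft (f474088 IH) (Lpn (LP (LK LD1_c1 LD2_c53 LD3_c0))))))
theorem f129825 : Led Lsl_et (LP (LK LD1_c3 LD2_c48 LD3_c3)) = (LP (LK LD1_c7 LD2_c37 LD3_c15)) :=
  Lre_e IH (LK LD1_c3 LD2_c48 LD3_c3) (LK LD1_c7 LD2_c37 LD3_c15) Lrfl Lrfl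
theorem f459959 : Led Lsl_et (LP (LK LD1_c3 LD2_c52 LD3_c54)) = (LP (LK LD1_c1 LD2_c53 LD3_c0)) :=
  Lre_e IH (LK LD1_c3 LD2_c52 LD3_c54) (LK LD1_c1 LD2_c53 LD3_c0) Lrfl Lrfl
theorem f476225 : Led Lsl_at (LP (LK LD1_c7 LD2_c37 LD3_c15)) = (LP (LK LD1_c3 LD2_c52 LD3_c54)) :=
  Lgr Lrot80 (Lpe (f129825 IH) (Lpr_af (f474220 IH) (Lpe (f459959 IH) (Lpn (LP (LK LD1_c3 LD2_c52 LD3_c54))))))
theorem f129823 : Led Lsl_et (LP (LK LD1_c7 LD2_c48 LD3_c27)) = (LP (LK LD1_c3 LD2_c53 LD3_c23)) :=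
  Lre_e IH (LK LD1_c7 LD2_c48 LD3_c27) (LK LD1_c3 LD2_c53 LD3_c23) Lrfl Lrfl
theorem f129826 : Led Lsl_df (LP (LK LD1_c7 LD2_c48 LD3_c27)) = (LP (LK LD1_c7 LD2_c37 LD3_c15)) :=
  Lgr Lrot70 (Lpr_et (f129823 IH) (Lpr_dt (K29.f129822 IH) (Lpr_et (K24.f129789 IH) (Lpr_dt (K29.f129824 IH) (Lpr_et (f129825 IH) (Lpn (LP (LK LD1_c7 LD2_c37 LD3_c15))))))))
theorem f129835 : Led Lsl_dt (LP (LK LD1_c7 LD2_c48 LD3_c27)) = (LP (LK LD1_c7 LD2_c37 LD3_c15)) :=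
  Lgr Lrot42 (Lpr_df (f129826 IH) (Lpn (LP (LK LD1_c7 LD2_c37 LD3_c15))))
theorem f459960 : Led Lsl_dt (LP (LK LD1_c3 LD2_c52 LD3_c54)) = (LP (LK LD1_c7 LD2_c47 LD3_c38)) :=
  Lre_d IH (LK LD1_c3 LD2_c52 LD3_c54) (LK LD1_c7 LD2_c47 LD3_c38) Lrfl Lrfl
theorem f476234 : Led Lsl_af (LP (LK LD1_c7 LD2_c48 LD3_c27)) = (LP (LK LD1_c7 LD2_c47 LD3_c38)) :=
  Lgr Lrot117 (Lpr_dt (f129835 IH) (Lpr_at (f476225 IH) (Lpr_dt (f459960 IH) (Lpn (LP (LK LD1_c7 LD2_c47 LD3_c38))))))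
theorem f476285 : Led Lsl_ft (LP (LK LD1_c14 LD2_c42 LD3_c33)) = (LP (LK LD1_c7 LD2_c47 LD3_c38)) :=
  Lre_f IH (LK LD1_c14 LD2_c42 LD3_c33) (LK LD1_c7 LD2_c47 LD3_c38) Lrfl Lrfl
theorem f815145 : Led Lsl_af (LP (LK LD1_c14 LD2_c42 LD3_c33)) = v23143 :=
  Lgr Lrot45 (Lpr_ft (f476285 IH) (Lpe (f476234 IH) (Lpr_ft (f815144 IH) (Lpn v23143))))
theorem f815148 : Led Lsl_gt (LP (LK LD1_c14 LD2_c43 LD3_c56)) = (LP (LK LD1_c14 LD2_c42 LD3_c33)) :=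
  Lgr Lrot46 (Lpe (f129840 IH) (Lpr_ft (f815144 IH) (Lpe (f815145 IH) (Lpn (LP (LK LD1_c14 LD2_c42 LD3_c33))))))
theorem f815149 : Led Lsl_gt (LP (LK LD1_c14 LD2_c43 LD3_c56)) = (LP (LK LD1_c14 LD2_c42 LD3_c33)) :=
  Leop (Lpe (f815148 IH) (Lpn (LP (LK LD1_c14 LD2_c43 LD3_c56))))
theorem seed_1809 : LEOK LG_g (LK LD1_c14 LD2_c43 LD3_c56) :=
  Leoe_g (LK LD1_c14 LD2_c43 LD3_c56) (f815149 IH)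
def v23145 : LQ := Led Lsl_ct (LP (LK LD1_c7 LD2_c48 LD3_c34))
theorem f815165 : Led Lsl_ct (LP (LK LD1_c7 LD2_c48 LD3_c34)) = v23145 :=
  Lrfl
theorem f123791 : Led Lsl_ct (LP (LK LD1_c14 LD2_c13 LD3_c1)) = (LP (LK LD1_c23 LD2_c48 LD3_c20)) :=
  Lre_c IH (LK LD1_c14 LD2_c13 LD3_c1) (LK LD1_c23 LD2_c48 LD3_c20) Lrfl Lrfl
theorem f63339 : Led Lsl_ct (LP (LK LD1_c13 LD2_c14 LD3_c60)) = (LP (LK LD1_c6 LD2_c58 LD3_c46)) :=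
  Lre_c IH (LK LD1_c13 LD2_c14 LD3_c60) (LK LD1_c6 LD2_c58 LD3_c46) Lrfl Lrfl
theorem f815169 : Led Lsl_gf (LP (LK LD1_c13 LD2_c14 LD3_c60)) = v23145 :=
  Lgr Lrot104 (Lpr_ct (f63339 IH) (Lpe (f63122 IH) (Lpe (K24.f18858 IH) (Lpe (K28.f18869 IH) (Lpe (K28.f18552 IH) (Lpe (K28.f463466 IH) (Lpe (K34.f130718 IH) (Lpe (K34.f472340 IH) (Lpr_ct (f815165 IH) (Lpn v23145))))))))))
theorem f19014 : Led Lsl_bt (LP (LK LD1_c6 LD2_c58 LD3_c46)) = (LP (LK LD1_c13 LD2_c14 LD3_c54)) :=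
  Lre_b IH (LK LD1_c6 LD2_c58 LD3_c46) (LK LD1_c13 LD2_c14 LD3_c54) Lrfl Lrfl
theorem f19058 : Led Lsl_gt (LP (LK LD1_c13 LD2_c14 LD3_c54)) = (LP (LK LD1_c22 LD2_c29 LD3_c50)) :=
  Lre_g IH (LK LD1_c13 LD2_c14 LD3_c54) (LK LD1_c22 LD2_c29 LD3_c50) Lrfl Lrfl
theorem f19061 : Led Lsl_bt (LP (LK LD1_c30 LD2_c32 LD3_c15)) = (LP (LK LD1_c22 LD2_c29 LD3_c50)) :=
  Lre_b IH (LK LD1_c30 LD2_c32 LD3_c15) (LK LD1_c22 LD2_c29 LD3_c50) Lrfl Lrfl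
theorem f419856 : Led Lsl_gt (LP (LK LD1_c23 LD2_c47 LD3_c60)) = (LP (LK LD1_c31 LD2_c13 LD3_c29)) :=
  Lre_g IH (LK LD1_c23 LD2_c47 LD3_c60) (LK LD1_c31 LD2_c13 LD3_c29) Lrfl Lrfl
theorem f19006 : Led Lsl_bt (LP (LK LD1_c13 LD2_c2 LD3_c57)) = (LP (LK LD1_c22 LD2_c12 LD3_c34)) :=
  Lre_b IH (LK LD1_c13 LD2_c2 LD3_c57) (LK LD1_c22 LD2_c12 LD3_c34) Lrfl Lrfl
theorem f18374 : Led Lsl_at (LP (LK LD1_c7 LD2_c2 LD3_c61)) = (LP (LK LD1_c13 LD2_c14 LD3_c61)) :=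
  Lre_a IH (LK LD1_c7 LD2_c2 LD3_c61) (LK LD1_c13 LD2_c14 LD3_c61) Lrfl Lrfl
theorem f18375 : Led Lsl_bt (LP (LK LD1_c13 LD2_c14 LD3_c61)) = (LP (LK LD1_c22 LD2_c29 LD3_c52)) :=
  Lre_b IH (LK LD1_c13 LD2_c14 LD3_c61) (LK LD1_c22 LD2_c29 LD3_c52) Lrfl Lrfl
theorem f18377 : Led Lsl_bt (LP (LK LD1_c22 LD2_c12 LD3_c34)) = (LP (LK LD1_c13 LD2_c2 LD3_c57)) :=
  Lre_b IH (LK LD1_c22 LD2_c12 LD3_c34) (LK LD1_c13 LD2_c2 LD3_c57) Lrfl Lrfl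
theorem f18378 : Led Lsl_at (LP (LK LD1_c22 LD2_c29 LD3_c52)) = (LP (LK LD1_c22 LD2_c12 LD3_c34)) :=
  Lgr Lrot67 (Lpe (f18375 IH) (Lpe (f18374 IH) (Lpr_bf (K2.f18360 IH) (Lpe (K29.f18376 IH) (Lpe (f18377 IH) (Lpn (LP (LK LD1_c22 LD2_c12 LD3_c34))))))))
theorem f18916 : Led Lsl_ft (LP (LK LD1_c13 LD2_c14 LD3_c54)) = (LP (LK LD1_c22 LD2_c29 LD3_c52)) :=
  Lre_f IH (LK LD1_c13 LD2_c14 LD3_c54) (LK LD1_c22 LD2_c29 LD3_c52) Lrfl Lrfl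
theorem f19059 : Led Lsl_gt (LP (LK LD1_c22 LD2_c29 LD3_c50)) = (LP (LK LD1_c22 LD2_c12 LD3_c34)) :=
  Lgr Lrot46 (Lpe (f19058 IH) (Lpr_ft (f18916 IH) (Lpr_at (f18378 IH) (Lpn (LP (LK LD1_c22 LD2_c12 LD3_c34))))))
theorem f472709 : Led Lsl_cf (LP (LK LD1_c31 LD2_c13 LD3_c29)) = (LP (LK LD1_c30 LD2_c32 LD3_c15)) :=
  Lgr Lrot163 (Lpe (f419856 IH) (Lpe (K61.f111396 IH) (Lpr_gf (K34.f465418 IH) (Lpe (K41.f465423 IH) (Lpr_ct (K28.f469124 IH) (Lpe (K28.f19063 IH) (Lpe (K29.f19062 IH) (Lpr_bt (f19006 IH) (Lpe (f19059 IH) (Lpe (f19061 IH) (Lpn (LP (LK LD1_c30 LD2_c32 LD3_c15)))))))))))))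
theorem f815171 : Led Lsl_gf (LP (LK LD1_c23 LD2_c48 LD3_c20)) = (LP (LK LD1_c31 LD2_c13 LD3_c29)) :=
  Lgr Lrot126 (Lpe (f123791 IH) (Lpr_bt (K37.f111717 IH) (Lpe (K34.f472340 IH) (Lpr_ct (f815165 IH) (Lpe (f815169 IH) (Lpe (K2.f63312 IH) (Lpr_bt (f19014 IH) (Lpr_gt (f19058 IH) (Lpe (f19061 IH) (Lpe (f472709 IH) (Lpn (LP (LK LD1_c31 LD2_c13 LD3_c29)))))))))))))
theorem f815172 : Led Lsl_gt (LP (LK LD1_c31 LD2_c13 LD3_c29)) = (LP (LK LD1_c23 LD2_c48 LD3_c20)) :=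
  Leop (Lpr_gf (f815171 IH) (Lpn (LP (LK LD1_c31 LD2_c13 LD3_c29))))
theorem seed_1810 : LEOK LG_g (LK LD1_c31 LD2_c13 LD3_c29) :=
  Leoe_g (LK LD1_c31 LD2_c13 LD3_c29) (f815172 IH)
def v23147 : LQ := Led Lsl_dt (LP (LK LD1_c7 LD2_c48 LD3_c37))
theorem f815188 : Led Lsl_dt (LP (LK LD1_c7 LD2_c48 LD3_c37)) = v23147 :=
  Lrfl
theorem f465262 : Led Lsl_et (LP (LK LD1_c3 LD2_c53 LD3_c30)) = (LP (LK LD1_c7 LD2_c48 LD3_c37)) :=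
  Lre_e IH (LK LD1_c3 LD2_c53 LD3_c30) (LK LD1_c7 LD2_c48 LD3_c37) Lrfl Lrfl
theorem f676067 : Led Lsl_df K61.v2706 = K61.v9458 :=
  Lgr Lrot38 (Lpr_dt (K61.f676065 IH) (Lpn K61.v9458))
theorem f815190 : Led Lsl_ef K61.v9458 = v23147 :=
  Lgr Lrot73 (Lpe (f676067 IH) (Lpe (K61.f531289 IH) (Lpr_dt (K48.f465259 IH) (Lpr_et (f465262 IH) (Lpr_dt (f815188 IH) (Lpn v23147))))))
theorem f477221 : Led Lsl_et (LP (LK LD1_c7 LD2_c3 LD3_c35)) = (LP (LK LD1_c3 LD2_c30 LD3_c45)) :=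
  Lre_e IH (LK LD1_c7 LD2_c3 LD3_c35) (LK LD1_c3 LD2_c30 LD3_c45) Lrfl Lrfl
theorem f129660 : Led Lsl_ef (LP (LK LD1_c1 LD2_c53 LD3_c14)) = (LP (LK LD1_c1 LD2_c51 LD3_c0)) :=
  Lgr Lrot28 (Lpr_ct (K29.f129658 IH) (Lpr_et (K24.f129651 IH) (Lpr_ct (K28.f129659 IH) (Lpn (LP (LK LD1_c1 LD2_c51 LD3_c0))))))
theorem f477521 : Led Lsl_gf (LP (LK LD1_c13 LD2_c23 LD3_c15)) = (LP (LK LD1_c7 LD2_c35 LD3_c17)) :=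
  Lgr Lrot145 (Lpe (f88024 IH) (Lpr_et (f477221 IH) (Lpr_gt (K29.f87977 IH) (Lpr_dt (K29.f477495 IH) (Lpr_gt (K29.f129845 IH) (Lpe (K29.f129824 IH) (Lpe (f129660 IH) (Lpe (K29.f468504 IH) (Lpr_ef (K33.f477338 IH) (Lpr_dt (K33.f89212 IH) (Lpn (LP (LK LD1_c7 LD2_c35 LD3_c17)))))))))))))
theorem f520269 : Led Lsl_gf (LP (LK LD1_c7 LD2_c35 LD3_c15)) = (LP (LK LD1_c13 LD2_c23 LD3_c15)) :=
  Lgr Lrot76 (Lpr_af (K33.f520259 IH) (Lpr_ff (K33.f520092 IH) (Lpe (f477521 IH) (Lpn (LP (LK LD1_c13 LD2_c23 LD3_c15))))))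
theorem f665310 : Led Lsl_gf K61.v2706 = K48.v7420 :=
  Lgr Lrot141 (Lpe (K61.f531287 IH) (Lpr_dt (K48.f465259 IH) (Lpr_gt (K48.f518088 IH) (Lpe (K48.f517024 IH) (Lpe (K48.f461607 IH) (Lpe (K48.f518085 IH) (Lpr_dt (f88024 IH) (Lpe (f520269 IH) (Lpe (K33.f12027 IH) (Lpr_et (f665308 IH) (Lpn K48.v7420)))))))))))
theorem f676070 : Led Lsl_gf (LP (LK LD1_c7 LD2_c0 LD3_c35)) = K61.v9458 :=
  Lgr Lrot134 (Lpe (K49.f455508 IH) (Lpr_et (K33.f460607 IH) (Lpe (K29.f477191 IH) (Lpe (f477221 IH) (Lpr_dt (f88024 IH) (Lpe (f520269 IH) (Lpe (K33.f12027 IH) (Lpr_et (f665308 IH) (Lpe (f665310 IH) (Lpr_dt (K61.f676065 IH) (Lpn K61.v9458)))))))))))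
theorem f676071 : Led Lsl_et (LP (LK LD1_c22 LD2_c33 LD3_c40)) = (LP (LK LD1_c13 LD2_c17 LD3_c54)) :=
  Lre_e IH (LK LD1_c22 LD2_c33 LD3_c40) (LK LD1_c13 LD2_c17 LD3_c54) Lrfl Lrfl
theorem f815189 : Led Lsl_df (LP (LK LD1_c7 LD2_c48 LD3_c37)) = v23147 :=
  Lgr Lrot38 (Lpr_dt (f815188 IH) (Lpn v23147))
theorem f465263 : Led Lsl_gt (LP (LK LD1_c14 LD2_c44 LD3_c19)) = (LP (LK LD1_c7 LD2_c48 LD3_c37)) :=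
  Lre_g IH (LK LD1_c14 LD2_c44 LD3_c19) (LK LD1_c7 LD2_c48 LD3_c37) Lrfl Lrfl
theorem f815196 : Led Lsl_dt (LP (LK LD1_c22 LD2_c33 LD3_c40)) = (LP (LK LD1_c14 LD2_c44 LD3_c19)) :=
  Lgr Lrot136 (Lpr_et (f676071 IH) (Lpe (f89346 IH) (Lpe (K4.f120583 IH) (Lpr_dt (K48.f120549 IH) (Lpe (K29.f103961 IH) (Lpe (K33.f455509 IH) (Lpr_gf (f676070 IH) (Lpr_ef (f815190 IH) (Lpe (f815189 IH) (Lpe (f465263 IH) (Lpn (LP (LK LD1_c14 LD2_c44 LD3_c19)))))))))))))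
theorem f815197 : Led Lsl_dt (LP (LK LD1_c22 LD2_c33 LD3_c40)) = (LP (LK LD1_c14 LD2_c44 LD3_c19)) :=
  Leop (Lpe (f815196 IH) (Lpn (LP (LK LD1_c22 LD2_c33 LD3_c40))))
theorem seed_1811 : LEOK LG_d (LK LD1_c22 LD2_c33 LD3_c40) :=
  Leoe_d (LK LD1_c22 LD2_c33 LD3_c40) (f815197 IH)
def v23179 : LQ := Led Lsl_bt (LP (LK LD1_c7 LD2_c48 LD3_c56))
theorem f815378 : Led Lsl_bt (LP (LK LD1_c7 LD2_c48 LD3_c56)) = v23179 :=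
  Lrfl
theorem f107855 : Led Lsl_bt (LP (LK LD1_c3 LD2_c34 LD3_c43)) = (LP (LK LD1_c7 LD2_c10 LD3_c35)) :=
  Lre_b IH (LK LD1_c3 LD2_c34 LD3_c43) (LK LD1_c7 LD2_c10 LD3_c35) Lrfl Lrfl
theorem f11905 : Led Lsl_ct (LP (LK LD1_c7 LD2_c10 LD3_c36)) = (LP (LK LD1_c3 LD2_c34 LD3_c43)) :=
  Lre_c IH (LK LD1_c7 LD2_c10 LD3_c36) (LK LD1_c3 LD2_c34 LD3_c43) Lrfl Lrfl
def v21023 : LQ := Led Lsl_bt (LP (LK LD1_c7 LD2_c10 LD3_c36))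
theorem f791657 : Led Lsl_bt (LP (LK LD1_c7 LD2_c10 LD3_c36)) = v21023 :=
  Lrfl
theorem f791659 : Led Lsl_bf (LP (LK LD1_c7 LD2_c10 LD3_c36)) = v21023 :=
  Lgr Lrot24 (Lpr_bt (f791657 IH) (Lpn v21023))
theorem f815380 : Led Lsl_cf v21023 = v23179 :=
  Lgr Lrot97 (Lpe (f791659 IH) (Lpr_ct (f11905 IH) (Lpr_bt (f107855 IH) (Lpr_ct (K47.f107847 IH) (Lpr_bt (f815378 IH) (Lpn v23179))))))
def v7649 : LQ := Led Lsl_ct (LP (LK LD1_c3 LD2_c53 LD3_c49))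
theorem f667464 : Led Lsl_ct (LP (LK LD1_c3 LD2_c53 LD3_c49)) = v7649 :=
  Lrfl
theorem f667465 : Led Lsl_cf (LP (LK LD1_c3 LD2_c53 LD3_c49)) = v7649 :=
  Lgr Lrot11 (Lpr_ct (f667464 IH) (Lpn v7649))
theorem f667467 : Led Lsl_bf K61.v3642 = v7649 :=
  Lgr Lrot34 (Lpe (K61.f626550 IH) (Lpe (K29.f490825 IH) (Lpe (K29.f450751 IH) (Lpe (K24.f11493 IH) (Lpe (K29.f9949 IH) (Lpe (K3.f11896 IH) (Lpe (K29.f11898 IH) (Lpr_ct (K29.f11899 IH) (Lpe (K61.f11902 IH) (Lpr_cf (f667465 IH) (Lpn v7649)))))))))))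
theorem f667468 : Led Lsl_bt K61.v3642 = v7649 :=
  Lgr Lrot127 (Lpr_bf (f667467 IH) (Lpn v7649))
theorem f791660 : Led Lsl_gf v7649 = v21023 :=
  Lgr Lrot124 (Lpe (f667468 IH) (Lpr_ct (K61.f683431 IH) (Lpe (K61.f683433 IH) (Lpe (K61.f107818 IH) (Lpr_bt (K61.f446506 IH) (Lpr_gt (K47.f107804 IH) (Lpr_ct (K61.f11903 IH) (Lpr_gt (K47.f11904 IH) (Lpe (f11905 IH) (Lpr_bt (f791657 IH) (Lpn v21023)))))))))))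
theorem f667460 : Led Lsl_bt (LP (LK LD1_c3 LD2_c53 LD3_c49)) = (LP (LK LD1_c7 LD2_c49 LD3_c12)) :=
  Lre_b IH (LK LD1_c3 LD2_c53 LD3_c49) (LK LD1_c7 LD2_c49 LD3_c12) Lrfl Lrfl
theorem f667466 : Led Lsl_gt (LP (LK LD1_c7 LD2_c49 LD3_c12)) = (LP (LK LD1_c14 LD2_c45 LD3_c16)) :=
  Lre_g IH (LK LD1_c7 LD2_c49 LD3_c12) (LK LD1_c14 LD2_c45 LD3_c16) Lrfl Lrfl
theorem f815379 : Led Lsl_bf (LP (LK LD1_c7 LD2_c48 LD3_c56)) = v23179 :=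
  Lgr Lrot24 (Lpr_bt (f815378 IH) (Lpn v23179))
theorem f85504 : Led Lsl_ct (LP (LK LD1_c6 LD2_c59 LD3_c17)) = (LP (LK LD1_c13 LD2_c15 LD3_c12)) :=
  Lre_c IH (LK LD1_c6 LD2_c59 LD3_c17) (LK LD1_c13 LD2_c15 LD3_c12) Lrfl Lrfl
theorem f434201 : Led Lsl_ct (LP (LK LD1_c3 LD2_c31 LD3_c58)) = (LP (LK LD1_c6 LD2_c52 LD3_c46)) :=
  Lgr Lrot110 (Lpe (K34.f19305 IH) (Lpe (K3.f11505 IH) (Lpr_gf (K2.f64365 IH) (Lpe (K2.f18140 IH) (Lpe (K11.f154368 IH) (Lpr_ct (K11.f10375 IH) (Lpr_gt (K7.f154371 IH) (Lpr_ct (K11.f429039 IH) (Lpe (K7.f94091 IH) (Lpn (LP (LK LD1_c6 LD2_c52 LD3_c46))))))))))))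
theorem f434207 : Led Lsl_ff (LP (LK LD1_c3 LD2_c31 LD3_c58)) = (LP (LK LD1_c3 LD2_c27 LD3_c55)) :=
  Lgr Lrot23 (Lpr_ct (f434201 IH) (Lpr_ft (K3.f94094 IH) (Lpr_ct (K3.f106109 IH) (Lpn (LP (LK LD1_c3 LD2_c27 LD3_c55))))))
theorem f434216 : Led Lsl_ft (LP (LK LD1_c3 LD2_c31 LD3_c58)) = (LP (LK LD1_c3 LD2_c27 LD3_c55)) :=
  Lgr Lrot48 (Lpr_ff (f434207 IH) (Lpn (LP (LK LD1_c3 LD2_c27 LD3_c55))))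
theorem f434203 : Led Lsl_af (LP (LK LD1_c3 LD2_c31 LD3_c58)) = (LP (LK LD1_c3 LD2_c27 LD3_c56)) :=
  Lgr Lrot68 (Lpr_ct (f434201 IH) (Lpr_at (K5.f94089 IH) (Lpe (K3.f106262 IH) (Lpn (LP (LK LD1_c3 LD2_c27 LD3_c56))))))
theorem f106234 : Led Lsl_af (LP (LK LD1_c3 LD2_c28 LD3_c30)) = (LP (LK LD1_c3 LD2_c27 LD3_c55)) :=
  Lgr Lrot68 (Lpr_ct (K49.f76765 IH) (Lpr_at (K11.f19405 IH) (Lpr_ct (K3.f106109 IH) (Lpn (LP (LK LD1_c3 LD2_c27 LD3_c55))))))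
theorem f434218 : Led Lsl_ff (LP (LK LD1_c3 LD2_c27 LD3_c56)) = (LP (LK LD1_c3 LD2_c28 LD3_c30)) :=
  Lgr Lrot30 (Lpe (f434203 IH) (Lpr_ft (f434216 IH) (Lpe (f106234 IH) (Lpn (LP (LK LD1_c3 LD2_c28 LD3_c30))))))
theorem f106265 : Led Lsl_bt (LP (LK LD1_c3 LD2_c27 LD3_c56)) = (LP (LK LD1_c6 LD2_c58 LD3_c1)) :=
  Lre_b IH (LK LD1_c3 LD2_c27 LD3_c56) (LK LD1_c6 LD2_c58 LD3_c1) Lrfl Lrfl
theorem f434240 : Led Lsl_ft (LP (LK LD1_c6 LD2_c58 LD3_c1)) = (LP (LK LD1_c6 LD2_c58 LD3_c57)) :=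
  Lgr Lrot75 (Lpe (f106265 IH) (Lpr_ff (f434218 IH) (Lpe (K47.f85618 IH) (Lpn (LP (LK LD1_c6 LD2_c58 LD3_c57))))))
theorem f106272 : Led Lsl_gt (LP (LK LD1_c6 LD2_c58 LD3_c1)) = (LP (LK LD1_c13 LD2_c13 LD3_c42)) :=
  Lre_g IH (LK LD1_c6 LD2_c58 LD3_c1) (LK LD1_c13 LD2_c13 LD3_c42) Lrfl Lrfl
theorem f107932 : Led Lsl_at (LP (LK LD1_c6 LD2_c58 LD3_c57)) = (LP (LK LD1_c13 LD2_c15 LD3_c12)) :=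
  Lre_a IH (LK LD1_c6 LD2_c58 LD3_c57) (LK LD1_c13 LD2_c15 LD3_c12) Lrfl Lrfl
theorem f434250 : Led Lsl_gt (LP (LK LD1_c13 LD2_c13 LD3_c42)) = (LP (LK LD1_c13 LD2_c15 LD3_c12)) :=
  Lgr Lrot46 (Lpe (f106272 IH) (Lpr_ft (f434240 IH) (Lpr_at (f107932 IH) (Lpn (LP (LK LD1_c13 LD2_c15 LD3_c12))))))
theorem f815390 : Led Lsl_ct (LP (LK LD1_c14 LD2_c45 LD3_c16)) = (LP (LK LD1_c13 LD2_c13 LD3_c42)) :=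
  Lgr Lrot91 (Lpe (f667466 IH) (Lpe (f667460 IH) (Lpr_ct (f667464 IH) (Lpr_gf (f791660 IH) (Lpr_cf (f815380 IH) (Lpe (f815379 IH) (Lpr_gf (K47.f85515 IH) (Lpe (K47.f85503 IH) (Lpr_ct (f85504 IH) (Lpe (f434250 IH) (Lpn (LP (LK LD1_c13 LD2_c13 LD3_c42)))))))))))))
theorem f815391 : Led Lsl_ct (LP (LK LD1_c14 LD2_c45 LD3_c16)) = (LP (LK LD1_c13 LD2_c13 LD3_c42)) :=
  Leop (Lpe (f815390 IH) (Lpn (LP (LK LD1_c14 LD2_c45 LD3_c16))))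
theorem seed_1812 : LEOK LG_c (LK LD1_c14 LD2_c45 LD3_c16) :=
  Leoe_c (LK LD1_c14 LD2_c45 LD3_c16) (f815391 IH)
def v21098 : LQ := Led Lsl_bt (LP (LK LD1_c7 LD2_c11 LD3_c32))
theorem f792179 : Led Lsl_bt (LP (LK LD1_c7 LD2_c11 LD3_c32)) = v21098 :=
  Lrfl
theorem f85491 : Led Lsl_bt (LP (LK LD1_c1 LD2_c53 LD3_c28)) = (LP (LK LD1_c3 LD2_c53 LD3_c41)) :=
  Lre_b IH (LK LD1_c1 LD2_c53 LD3_c28) (LK LD1_c3 LD2_c53 LD3_c41) Lrfl Lrfl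
theorem f85586 : Led Lsl_bt (LP (LK LD1_c0 LD2_c53 LD3_c22)) = (LP (LK LD1_c1 LD2_c53 LD3_c32)) :=
  Lre_b IH (LK LD1_c0 LD2_c53 LD3_c22) (LK LD1_c1 LD2_c53 LD3_c32) Lrfl Lrfl
def v2714 : LQ := Led Lsl_gt (LP (LK LD1_c1 LD2_c53 LD3_c32))
theorem f531320 : Led Lsl_gt (LP (LK LD1_c1 LD2_c53 LD3_c32)) = v2714 :=
  Lrfl
def v9480 : LQ := Led Lsl_ct v2714
theorem f676134 : Led Lsl_ct v2714 = v9480 :=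
  Lrfl
theorem f815392 : Led Lsl_gf v21023 = v9480 :=
  Lgr Lrot129 (Lpr_cf (f815380 IH) (Lpe (f815379 IH) (Lpr_gt (K47.f85514 IH) (Lpe (f85491 IH) (Lpr_ct (K11.f85325 IH) (Lpr_gt (K3.f11906 IH) (Lpe (K4.f12722 IH) (Lpr_bt (f85586 IH) (Lpr_gt (f531320 IH) (Lpr_ct (f676134 IH) (Lpn v9480)))))))))))
theorem f107856 : Led Lsl_cf (LP (LK LD1_c7 LD2_c10 LD3_c35)) = (LP (LK LD1_c7 LD2_c48 LD3_c56)) :=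
  Lgr Lrot11 (Lpr_ct (K47.f107847 IH) (Lpn (LP (LK LD1_c7 LD2_c48 LD3_c56))))
theorem f107851 : Led Lsl_gt (LP (LK LD1_c13 LD2_c35 LD3_c34)) = (LP (LK LD1_c7 LD2_c10 LD3_c35)) :=
  Lre_g IH (LK LD1_c13 LD2_c35 LD3_c34) (LK LD1_c7 LD2_c10 LD3_c35) Lrfl Lrfl
theorem f109143 : Led Lsl_bt (LP (LK LD1_c3 LD2_c34 LD3_c30)) = (LP (LK LD1_c7 LD2_c10 LD3_c5)) :=
  Lre_b IH (LK LD1_c3 LD2_c34 LD3_c30) (LK LD1_c7 LD2_c10 LD3_c5) Lrfl Lrfl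
theorem f107850 : Led Lsl_gt (LP (LK LD1_c7 LD2_c10 LD3_c5)) = (LP (LK LD1_c13 LD2_c34 LD3_c35)) :=
  Lre_g IH (LK LD1_c7 LD2_c10 LD3_c5) (LK LD1_c13 LD2_c34 LD3_c35) Lrfl Lrfl
theorem f85682 : Led Lsl_ct (LP (LK LD1_c22 LD2_c30 LD3_c6)) = (LP (LK LD1_c13 LD2_c15 LD3_c4)) :=
  Lre_c IH (LK LD1_c22 LD2_c30 LD3_c6) (LK LD1_c13 LD2_c15 LD3_c4) Lrfl Lrfl
theorem f441115 : Led Lsl_bf (LP (LK LD1_c13 LD2_c34 LD3_c35)) = (LP (LK LD1_c22 LD2_c30 LD3_c6)) :=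
  Lgr Lrot34 (Lpe (f107850 IH) (Lpe (f109143 IH) (Lpr_ct (K3.f106667 IH) (Lpr_gf (K5.f114148 IH) (Lpr_cf (K4.f85649 IH) (Lpe (K3.f85297 IH) (Lpe (K3.f85657 IH) (Lpr_ct (K3.f85658 IH) (Lpe (K61.f85681 IH) (Lpe (f85682 IH) (Lpn (LP (LK LD1_c22 LD2_c30 LD3_c6)))))))))))))
theorem f121546 : Led Lsl_ft (LP (LK LD1_c7 LD2_c10 LD3_c5)) = (LP (LK LD1_c6 LD2_c59 LD3_c10)) :=
  Lgr Lrot75 (Lpe (f109143 IH) (Lpr_ff (K4.f121544 IH) (Lpe (K4.f85585 IH) (Lpn (LP (LK LD1_c6 LD2_c59 LD3_c10))))))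
theorem f86901 : Led Lsl_at (LP (LK LD1_c6 LD2_c59 LD3_c10)) = (LP (LK LD1_c13 LD2_c15 LD3_c22)) :=
  Lre_a IH (LK LD1_c6 LD2_c59 LD3_c10) (LK LD1_c13 LD2_c15 LD3_c22) Lrfl Lrfl
theorem f440528 : Led Lsl_gt (LP (LK LD1_c13 LD2_c34 LD3_c35)) = (LP (LK LD1_c13 LD2_c15 LD3_c22)) :=
  Lgr Lrot46 (Lpe (f107850 IH) (Lpr_ft (f121546 IH) (Lpr_at (f86901 IH) (Lpn (LP (LK LD1_c13 LD2_c15 LD3_c22))))))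
theorem f86707 : Led Lsl_cf (LP (LK LD1_c3 LD2_c36 LD3_c15)) = (LP (LK LD1_c6 LD2_c59 LD3_c10)) :=
  Lgr Lrot97 (Lpr_bt (K60.f86706 IH) (Lpr_ct (K3.f86705 IH) (Lpr_bt (K3.f86704 IH) (Lpr_ct (K3.f86695 IH) (Lpr_bt (K4.f86700 IH) (Lpn (LP (LK LD1_c6 LD2_c59 LD3_c10))))))))
theorem f86878 : Led Lsl_at (LP (LK LD1_c13 LD2_c15 LD3_c22)) = (LP (LK LD1_c6 LD2_c59 LD3_c10)) :=
  Lre_a IH (LK LD1_c13 LD2_c15 LD3_c22) (LK LD1_c6 LD2_c59 LD3_c10) Lrfl Lrfl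
theorem f86879 : Led Lsl_ct (LP (LK LD1_c7 LD2_c12 LD3_c52)) = (LP (LK LD1_c13 LD2_c15 LD3_c22)) :=
  Lgr Lrot111 (Lpe (K61.f86877 IH) (Lpr_cf (f86707 IH) (Lpe (f86878 IH) (Lpn (LP (LK LD1_c13 LD2_c15 LD3_c22))))))
theorem f437974 : Led Lsl_bt (LP (LK LD1_c7 LD2_c26 LD3_c23)) = (LP (LK LD1_c7 LD2_c20 LD3_c55)) :=
  Lgr Lrot127 (Lpr_bf (K60.f142957 IH) (Lpn (LP (LK LD1_c7 LD2_c20 LD3_c55))))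
theorem f125019 : Led Lsl_ct (LP (LK LD1_c14 LD2_c2 LD3_c37)) = (LP (LK LD1_c7 LD2_c26 LD3_c23)) :=
  Lre_c IH (LK LD1_c14 LD2_c2 LD3_c37) (LK LD1_c7 LD2_c26 LD3_c23) Lrfl Lrfl
theorem f429435 : Led Lsl_cf (LP (LK LD1_c7 LD2_c10 LD3_c31)) = (LP (LK LD1_c7 LD2_c20 LD3_c49)) :=
  Lgr Lrot11 (Lpr_ct (K29.f429400 IH) (Lpn (LP (LK LD1_c7 LD2_c20 LD3_c49))))
theorem f429447 : Led Lsl_at (LP (LK LD1_c7 LD2_c10 LD3_c31)) = (LP (LK LD1_c13 LD2_c35 LD3_c20)) :=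
  Lre_a IH (LK LD1_c7 LD2_c10 LD3_c31) (LK LD1_c13 LD2_c35 LD3_c20) Lrfl Lrfl
theorem f142941 : Led Lsl_at (LP (LK LD1_c13 LD2_c53 LD3_c36)) = (LP (LK LD1_c7 LD2_c20 LD3_c49)) :=
  Lre_a IH (LK LD1_c13 LD2_c53 LD3_c36) (LK LD1_c7 LD2_c20 LD3_c49) Lrfl Lrfl
theorem f429448 : Led Lsl_ct (LP (LK LD1_c13 LD2_c35 LD3_c20)) = (LP (LK LD1_c13 LD2_c53 LD3_c36)) :=
  Lgr Lrot111 (Lpe (f429447 IH) (Lpr_cf (f429435 IH) (Lpe (f142941 IH) (Lpn (LP (LK LD1_c13 LD2_c53 LD3_c36))))))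
theorem f429330 : Led Lsl_et (LP (LK LD1_c7 LD2_c10 LD3_c29)) = (LP (LK LD1_c13 LD2_c35 LD3_c20)) :=
  Lre_e IH (LK LD1_c7 LD2_c10 LD3_c29) (LK LD1_c13 LD2_c35 LD3_c20) Lrfl Lrfl
theorem f429397 : Led Lsl_et (LP (LK LD1_c13 LD2_c53 LD3_c36)) = (LP (LK LD1_c7 LD2_c20 LD3_c55)) :=
  Lre_e IH (LK LD1_c13 LD2_c53 LD3_c36) (LK LD1_c7 LD2_c20 LD3_c55) Lrfl Lrfl
theorem f429454 : Led Lsl_cf (LP (LK LD1_c7 LD2_c10 LD3_c29)) = (LP (LK LD1_c7 LD2_c20 LD3_c55)) :=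
  Lgr Lrot39 (Lpr_et (f429330 IH) (Lpr_ct (f429448 IH) (Lpr_et (f429397 IH) (Lpn (LP (LK LD1_c7 LD2_c20 LD3_c55))))))
theorem f106406 : Led Lsl_cf (LP (LK LD1_c22 LD2_c12 LD3_c10)) = (LP (LK LD1_c13 LD2_c28 LD3_c55)) :=
  Lgr Lrot11 (Lpr_ct (K60.f106394 IH) (Lpn (LP (LK LD1_c13 LD2_c28 LD3_c55))))
theorem f437977 : Led Lsl_bf (LP (LK LD1_c14 LD2_c2 LD3_c37)) = (LP (LK LD1_c22 LD2_c12 LD3_c10)) :=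
  Lgr Lrot90 (Lpr_ct (f125019 IH) (Lpr_bt (f437974 IH) (Lpe (f429454 IH) (Lpr_bt (K60.f429492 IH) (Lpe (f106406 IH) (Lpn (LP (LK LD1_c22 LD2_c12 LD3_c10))))))))
theorem f429514 : Led Lsl_ff (LP (LK LD1_c13 LD2_c28 LD3_c55)) = (LP (LK LD1_c7 LD2_c10 LD3_c21)) :=
  Lgr Lrot3 (Lpr_ft (K60.f429508 IH) (Lpn (LP (LK LD1_c7 LD2_c10 LD3_c21))))
theorem f121620 : Led Lsl_ct (LP (LK LD1_c13 LD2_c34 LD3_c58)) = (LP (LK LD1_c7 LD2_c10 LD3_c21)) :=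
  Lre_c IH (LK LD1_c13 LD2_c34 LD3_c58) (LK LD1_c7 LD2_c10 LD3_c21) Lrfl Lrfl
theorem f429519 : Led Lsl_ft (LP (LK LD1_c22 LD2_c12 LD3_c10)) = (LP (LK LD1_c13 LD2_c34 LD3_c58)) :=
  Lgr Lrot4 (Lpr_cf (f106406 IH) (Lpr_ff (f429514 IH) (Lpe (f121620 IH) (Lpn (LP (LK LD1_c13 LD2_c34 LD3_c58))))))
theorem f124971 : Led Lsl_at (LP (LK LD1_c7 LD2_c25 LD3_c37)) = (LP (LK LD1_c14 LD2_c2 LD3_c37)) :=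
  Lre_a IH (LK LD1_c7 LD2_c25 LD3_c37) (LK LD1_c14 LD2_c2 LD3_c37) Lrfl Lrfl
theorem f124972 : Led Lsl_bf (LP (LK LD1_c22 LD2_c12 LD3_c10)) = (LP (LK LD1_c14 LD2_c2 LD3_c37)) :=
  Lgr Lrot81 (Lpr_at (K60.f106398 IH) (Lpr_bt (K60.f92261 IH) (Lpr_at (K5.f124967 IH) (Lpr_bt (K5.f120881 IH) (Lpr_at (f124971 IH) (Lpn (LP (LK LD1_c14 LD2_c2 LD3_c37))))))))
theorem f124989 : Led Lsl_at (LP (LK LD1_c14 LD2_c2 LD3_c37)) = (LP (LK LD1_c7 LD2_c25 LD3_c37)) :=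
  Lre_a IH (LK LD1_c14 LD2_c2 LD3_c37) (LK LD1_c7 LD2_c25 LD3_c37) Lrfl Lrfl
theorem f124990 : Led Lsl_ft (LP (LK LD1_c22 LD2_c12 LD3_c8)) = (LP (LK LD1_c14 LD2_c2 LD3_c37)) :=
  Lgr Lrot101 (Lpe (K60.f121485 IH) (Lpr_ff (K5.f124987 IH) (Lpe (f124989 IH) (Lpn (LP (LK LD1_c14 LD2_c2 LD3_c37))))))
theorem f429526 : Led Lsl_bf (LP (LK LD1_c22 LD2_c12 LD3_c8)) = (LP (LK LD1_c13 LD2_c34 LD3_c58)) :=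
  Lgr Lrot61 (Lpr_ft (f124990 IH) (Lpe (f124972 IH) (Lpr_ft (f429519 IH) (Lpn (LP (LK LD1_c13 LD2_c34 LD3_c58))))))
theorem f429538 : Led Lsl_bt (LP (LK LD1_c22 LD2_c12 LD3_c8)) = (LP (LK LD1_c13 LD2_c34 LD3_c58)) :=
  Lgr Lrot127 (Lpr_bf (f429526 IH) (Lpn (LP (LK LD1_c13 LD2_c34 LD3_c58))))
theorem f437985 : Led Lsl_ft (LP (LK LD1_c14 LD2_c2 LD3_c37)) = (LP (LK LD1_c22 LD2_c12 LD3_c8)) :=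
  Lgr Lrot75 (Lpr_bf (f437977 IH) (Lpr_ff (K60.f429511 IH) (Lpe (f429538 IH) (Lpn (LP (LK LD1_c22 LD2_c12 LD3_c8))))))
theorem f121484 : Led Lsl_gt (LP (LK LD1_c22 LD2_c12 LD3_c7)) = (LP (LK LD1_c13 LD2_c2 LD3_c33)) :=
  Lre_g IH (LK LD1_c22 LD2_c12 LD3_c7) (LK LD1_c13 LD2_c2 LD3_c33) Lrfl Lrfl
theorem f437988 : Led Lsl_gt (LP (LK LD1_c14 LD2_c2 LD3_c37)) = (LP (LK LD1_c22 LD2_c12 LD3_c7)) :=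
  Lgr Lrot5 (Lpr_ft (f437985 IH) (Lpr_at (K60.f121473 IH) (Lpe (f121484 IH) (Lpn (LP (LK LD1_c22 LD2_c12 LD3_c7))))))
theorem f125023 : Led Lsl_ct (LP (LK LD1_c7 LD2_c26 LD3_c23)) = (LP (LK LD1_c14 LD2_c2 LD3_c37)) :=
  Lre_c IH (LK LD1_c7 LD2_c26 LD3_c23) (LK LD1_c14 LD2_c2 LD3_c37) Lrfl Lrfl
theorem f19771 : Led Lsl_gt (LP (LK LD1_c6 LD2_c52 LD3_c27)) = (LP (LK LD1_c13 LD2_c4 LD3_c19)) :=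
  Lre_g IH (LK LD1_c6 LD2_c52 LD3_c27) (LK LD1_c13 LD2_c4 LD3_c19) Lrfl Lrfl
theorem f429395 : Led Lsl_gt (LP (LK LD1_c13 LD2_c4 LD3_c19)) = (LP (LK LD1_c7 LD2_c20 LD3_c55)) :=
  Lgr Lrot46 (Lpe (f19771 IH) (Lpr_ft (K29.f429390 IH) (Lpr_at (K60.f142956 IH) (Lpn (LP (LK LD1_c7 LD2_c20 LD3_c55))))))
theorem f106871 : Led Lsl_bt (LP (LK LD1_c6 LD2_c52 LD3_c37)) = (LP (LK LD1_c3 LD2_c25 LD3_c11)) :=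
  Lre_b IH (LK LD1_c6 LD2_c52 LD3_c37) (LK LD1_c3 LD2_c25 LD3_c11) Lrfl Lrfl
theorem f17978 : Led Lsl_gt (LP (LK LD1_c7 LD2_c16 LD3_c40)) = (LP (LK LD1_c3 LD2_c38 LD3_c9)) :=
  Lre_g IH (LK LD1_c7 LD2_c16 LD3_c40) (LK LD1_c3 LD2_c38 LD3_c9) Lrfl Lrfl
theorem f17984 : Led Lsl_ct (LP (LK LD1_c13 LD2_c46 LD3_c18)) = (LP (LK LD1_c7 LD2_c16 LD3_c40)) :=
  Lre_c IH (LK LD1_c13 LD2_c46 LD3_c18) (LK LD1_c7 LD2_c16 LD3_c40) Lrfl Lrfl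
theorem f143206 : Led Lsl_bf (LP (LK LD1_c13 LD2_c4 LD3_c19)) = (LP (LK LD1_c13 LD2_c46 LD3_c18)) :=
  Lgr Lrot34 (Lpe (f19771 IH) (Lpe (K29.f17715 IH) (Lpr_ct (K5.f17717 IH) (Lpr_gf (K6.f143200 IH) (Lpe (K5.f12738 IH) (Lpe (K3.f12741 IH) (Lpe (f106871 IH) (Lpr_ct (K3.f106861 IH) (Lpe (f17978 IH) (Lpe (f17984 IH) (Lpn (LP (LK LD1_c13 LD2_c46 LD3_c18)))))))))))))
theorem f121476 : Led Lsl_ct (LP (LK LD1_c6 LD2_c52 LD3_c47)) = (LP (LK LD1_c13 LD2_c2 LD3_c33)) :=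
  Lgr Lrot59 (Lpr_cf (K5.f121469 IH) (Lpn (LP (LK LD1_c13 LD2_c2 LD3_c33))))
theorem f107146 : Led Lsl_bt (LP (LK LD1_c22 LD2_c15 LD3_c2)) = (LP (LK LD1_c13 LD2_c4 LD3_c33)) :=
  Lre_b IH (LK LD1_c22 LD2_c15 LD3_c2) (LK LD1_c13 LD2_c4 LD3_c33) Lrfl Lrfl
theorem f142963 : Led Lsl_cf (LP (LK LD1_c22 LD2_c12 LD3_c7)) = (LP (LK LD1_c22 LD2_c15 LD3_c2)) :=
  Lgr Lrot160 (Lpr_gt (f121484 IH) (Lpe (f121476 IH) (Lpr_bt (K5.f121467 IH) (Lpr_gt (K6.f142959 IH) (Lpr_ct (K5.f131191 IH) (Lpr_gt (K3.f86811 IH) (Lpe (K3.f106863 IH) (Lpr_bt (K3.f106860 IH) (Lpr_gt (K61.f106870 IH) (Lpe (f107146 IH) (Lpn (LP (LK LD1_c22 LD2_c15 LD3_c2)))))))))))))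
theorem f107137 : Led Lsl_ct (LP (LK LD1_c13 LD2_c26 LD3_c34)) = (LP (LK LD1_c7 LD2_c6 LD3_c1)) :=
  Lre_c IH (LK LD1_c13 LD2_c26 LD3_c34) (LK LD1_c7 LD2_c6 LD3_c1) Lrfl Lrfl
theorem f437990 : Led Lsl_gf (LP (LK LD1_c7 LD2_c16 LD3_c40)) = (LP (LK LD1_c7 LD2_c6 LD3_c1)) :=
  Lgr Lrot129 (Lpe (f17984 IH) (Lpe (f143206 IH) (Lpr_gt (f429395 IH) (Lpe (f437974 IH) (Lpr_ct (f125023 IH) (Lpr_gt (f437988 IH) (Lpr_cf (f142963 IH) (Lpr_bt (f107146 IH) (Lpr_gt (K61.f107142 IH) (Lpr_ct (f107137 IH) (Lpn (LP (LK LD1_c7 LD2_c6 LD3_c1)))))))))))))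
theorem f17979 : Led Lsl_bt (LP (LK LD1_c13 LD2_c46 LD3_c17)) = (LP (LK LD1_c7 LD2_c16 LD3_c40)) :=
  Lre_b IH (LK LD1_c13 LD2_c46 LD3_c17) (LK LD1_c7 LD2_c16 LD3_c40) Lrfl Lrfl
theorem f10713 : Led Lsl_ct (LP (LK LD1_c7 LD2_c6 LD3_c55)) = (LP (LK LD1_c13 LD2_c28 LD3_c60)) :=
  Lre_c IH (LK LD1_c7 LD2_c6 LD3_c55) (LK LD1_c13 LD2_c28 LD3_c60) Lrfl Lrfl
theorem f17976 : Led Lsl_gt (LP (LK LD1_c13 LD2_c28 LD3_c60)) = (LP (LK LD1_c22 LD2_c49 LD3_c3)) :=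
  Lre_g IH (LK LD1_c13 LD2_c28 LD3_c60) (LK LD1_c22 LD2_c49 LD3_c3) Lrfl Lrfl
theorem f17977 : Led Lsl_bt (LP (LK LD1_c1 LD2_c46 LD3_c2)) = (LP (LK LD1_c3 LD2_c38 LD3_c9)) :=
  Lre_b IH (LK LD1_c1 LD2_c46 LD3_c2) (LK LD1_c3 LD2_c38 LD3_c9) Lrfl Lrfl
theorem f17980 : Led Lsl_cf (LP (LK LD1_c22 LD2_c49 LD3_c3)) = (LP (LK LD1_c13 LD2_c46 LD3_c17)) :=
  Lgr Lrot163 (Lpe (f17976 IH) (Lpe (f10713 IH) (Lpe (K61.f10707 IH) (Lpe (K61.f10394 IH) (Lpr_ct (K0.f10391 IH) (Lpr_gf (K3.f17965 IH) (Lpe (K3.f17971 IH) (Lpr_bt (f17977 IH) (Lpe (f17978 IH) (Lpe (f17979 IH) (Lpn (LP (LK LD1_c13 LD2_c46 LD3_c17)))))))))))))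
theorem f143203 : Led Lsl_ct (LP (LK LD1_c13 LD2_c4 LD3_c19)) = (LP (LK LD1_c22 LD2_c14 LD3_c41)) :=
  Lre_c IH (LK LD1_c13 LD2_c4 LD3_c19) (LK LD1_c22 LD2_c14 LD3_c41) Lrfl Lrfl
theorem f17989 : Led Lsl_ct (LP (LK LD1_c7 LD2_c16 LD3_c40)) = (LP (LK LD1_c13 LD2_c46 LD3_c18)) :=
  Lre_c IH (LK LD1_c7 LD2_c16 LD3_c40) (LK LD1_c13 LD2_c46 LD3_c18) Lrfl Lrfl
theorem f17985 : Led Lsl_ct (LP (LK LD1_c22 LD2_c49 LD3_c3)) = (LP (LK LD1_c13 LD2_c46 LD3_c17)) :=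
  Lgr Lrot59 (Lpr_cf (f17980 IH) (Lpn (LP (LK LD1_c13 LD2_c46 LD3_c17))))
theorem f143210 : Led Lsl_bt (LP (LK LD1_c22 LD2_c14 LD3_c41)) = (LP (LK LD1_c22 LD2_c49 LD3_c3)) :=
  Lgr Lrot128 (Lpe (f143203 IH) (Lpr_bf (f143206 IH) (Lpe (f17989 IH) (Lpe (f17979 IH) (Lpe (f17985 IH) (Lpn (LP (LK LD1_c22 LD2_c49 LD3_c3))))))))
theorem f143214 : Led Lsl_ct (LP (LK LD1_c22 LD2_c14 LD3_c41)) = (LP (LK LD1_c13 LD2_c4 LD3_c19)) :=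
  Lre_c IH (LK LD1_c22 LD2_c14 LD3_c41) (LK LD1_c13 LD2_c4 LD3_c19) Lrfl Lrfl
theorem f10711 : Led Lsl_gt (LP (LK LD1_c7 LD2_c6 LD3_c56)) = (LP (LK LD1_c3 LD2_c32 LD3_c59)) :=
  Lre_g IH (LK LD1_c7 LD2_c6 LD3_c56) (LK LD1_c3 LD2_c32 LD3_c59) Lrfl Lrfl
theorem f10712 : Led Lsl_ct (LP (LK LD1_c13 LD2_c29 LD3_c1)) = (LP (LK LD1_c7 LD2_c6 LD3_c56)) :=
  Lre_c IH (LK LD1_c13 LD2_c29 LD3_c1) (LK LD1_c7 LD2_c6 LD3_c56) Lrfl Lrfl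
theorem f143215 : Led Lsl_gf (LP (LK LD1_c13 LD2_c29 LD3_c1)) = (LP (LK LD1_c22 LD2_c49 LD3_c3)) :=
  Lgr Lrot181 (Lpr_ct (f10712 IH) (Lpr_gt (f10711 IH) (Lpr_cf (K61.f10395 IH) (Lpr_bt (K61.f10392 IH) (Lpr_gt (K3.f10405 IH) (Lpe (K29.f10723 IH) (Lpe (K29.f105921 IH) (Lpr_gt (f19771 IH) (Lpe (f143214 IH) (Lpr_bt (f143210 IH) (Lpn (LP (LK LD1_c22 LD2_c49 LD3_c3)))))))))))))
theorem f143219 : Led Lsl_ct (LP (LK LD1_c7 LD2_c6 LD3_c56)) = (LP (LK LD1_c13 LD2_c29 LD3_c1)) :=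
  Lre_c IH (LK LD1_c7 LD2_c6 LD3_c56) (LK LD1_c13 LD2_c29 LD3_c1) Lrfl Lrfl
theorem f143220 : Led Lsl_bt (LP (LK LD1_c7 LD2_c6 LD3_c56)) = (LP (LK LD1_c13 LD2_c29 LD3_c0)) :=
  Lre_b IH (LK LD1_c7 LD2_c6 LD3_c56) (LK LD1_c13 LD2_c29 LD3_c0) Lrfl Lrfl
theorem f143221 : Led Lsl_gt (LP (LK LD1_c13 LD2_c29 LD3_c0)) = (LP (LK LD1_c22 LD2_c49 LD3_c7)) :=
  Lre_g IH (LK LD1_c13 LD2_c29 LD3_c0) (LK LD1_c22 LD2_c49 LD3_c7) Lrfl Lrfl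
theorem f440530 : Led Lsl_cf (LP (LK LD1_c13 LD2_c34 LD3_c35)) = (LP (LK LD1_c22 LD2_c49 LD3_c7)) :=
  Lgr Lrot125 (Lpr_gt (f440528 IH) (Lpe (f86879 IH) (Lpr_bt (K61.f107777 IH) (Lpe (f437990 IH) (Lpe (f17979 IH) (Lpe (f17980 IH) (Lpe (f143215 IH) (Lpe (f143219 IH) (Lpr_bt (f143220 IH) (Lpr_gt (f143221 IH) (Lpn (LP (LK LD1_c22 LD2_c49 LD3_c7)))))))))))))
theorem f440532 : Led Lsl_ct (LP (LK LD1_c13 LD2_c34 LD3_c35)) = (LP (LK LD1_c22 LD2_c49 LD3_c7)) :=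
  Lgr Lrot59 (Lpr_cf (f440530 IH) (Lpn (LP (LK LD1_c22 LD2_c49 LD3_c7))))
theorem f106669 : Led Lsl_ct (LP (LK LD1_c3 LD2_c34 LD3_c32)) = (LP (LK LD1_c7 LD2_c10 LD3_c5)) :=
  Lre_c IH (LK LD1_c3 LD2_c34 LD3_c32) (LK LD1_c7 LD2_c10 LD3_c5) Lrfl Lrfl
theorem f107849 : Led Lsl_bt (LP (LK LD1_c3 LD2_c34 LD3_c32)) = (LP (LK LD1_c1 LD2_c44 LD3_c3)) :=
  Lre_b IH (LK LD1_c3 LD2_c34 LD3_c32) (LK LD1_c1 LD2_c44 LD3_c3) Lrfl Lrfl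
theorem f440536 : Led Lsl_bf (LP (LK LD1_c13 LD2_c35 LD3_c34)) = (LP (LK LD1_c22 LD2_c49 LD3_c7)) :=
  Lgr Lrot165 (Lpr_gt (f107851 IH) (Lpr_ct (K47.f107847 IH) (Lpr_gt (K47.f85514 IH) (Lpe (K47.f106059 IH) (Lpr_bt (K47.f106067 IH) (Lpe (K47.f107841 IH) (Lpe (f107849 IH) (Lpr_ct (f106669 IH) (Lpr_gt (f107850 IH) (Lpr_cf (f440530 IH) (Lpn (LP (LK LD1_c22 LD2_c49 LD3_c7)))))))))))))
theorem f441119 : Led Lsl_ct (LP (LK LD1_c13 LD2_c15 LD3_c4)) = (LP (LK LD1_c22 LD2_c30 LD3_c6)) :=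
  Lre_c IH (LK LD1_c13 LD2_c15 LD3_c4) (LK LD1_c22 LD2_c30 LD3_c6) Lrfl Lrfl
theorem f85684 : Led Lsl_bt (LP (LK LD1_c22 LD2_c30 LD3_c5)) = (LP (LK LD1_c13 LD2_c15 LD3_c4)) :=
  Lre_b IH (LK LD1_c22 LD2_c30 LD3_c5) (LK LD1_c13 LD2_c15 LD3_c4) Lrfl Lrfl
theorem f441120 : Led Lsl_ct (LP (LK LD1_c13 LD2_c35 LD3_c34)) = (LP (LK LD1_c22 LD2_c30 LD3_c5)) :=
  Lgr Lrot83 (Lpr_bf (f440536 IH) (Lpe (f440532 IH) (Lpr_bf (f441115 IH) (Lpe (f441119 IH) (Lpe (f85684 IH) (Lpn (LP (LK LD1_c22 LD2_c30 LD3_c5))))))))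
theorem f441122 : Led Lsl_cf (LP (LK LD1_c13 LD2_c35 LD3_c34)) = (LP (LK LD1_c22 LD2_c30 LD3_c5)) :=
  Lgr Lrot11 (Lpr_ct (f441120 IH) (Lpn (LP (LK LD1_c22 LD2_c30 LD3_c5))))
theorem f85703 : Led Lsl_bt (LP (LK LD1_c3 LD2_c53 LD3_c50)) = (LP (LK LD1_c7 LD2_c30 LD3_c32)) :=
  Lre_b IH (LK LD1_c3 LD2_c53 LD3_c50) (LK LD1_c7 LD2_c30 LD3_c32) Lrfl Lrfl
def v9566 : LQ := Led Lsl_bt K61.v2782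
theorem f676693 : Led Lsl_bt K61.v2782 = v9566 :=
  Lrfl
theorem f676694 : Led Lsl_bf K61.v2782 = v9566 :=
  Lgr Lrot24 (Lpr_bt (f676693 IH) (Lpn v9566))
theorem f658131 : Led Lsl_bt (LP (LK LD1_c13 LD2_c37 LD3_c29)) = (LP (LK LD1_c7 LD2_c11 LD3_c31)) :=
  Lre_b IH (LK LD1_c13 LD2_c37 LD3_c29) (LK LD1_c7 LD2_c11 LD3_c31) Lrfl Lrfl
theorem f106244 : Led Lsl_bt (LP (LK LD1_c6 LD2_c58 LD3_c40)) = (LP (LK LD1_c13 LD2_c14 LD3_c50)) :=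
  Lre_b IH (LK LD1_c6 LD2_c58 LD3_c40) (LK LD1_c13 LD2_c14 LD3_c50) Lrfl Lrfl
theorem f115106 : Led Lsl_gf (LP (LK LD1_c13 LD2_c14 LD3_c50)) = (LP (LK LD1_c7 LD2_c10 LD3_c22)) :=
  Lgr Lrot124 (Lpe (f106244 IH) (Lpr_ct (K47.f106243 IH) (Lpr_gt (K47.f11486 IH) (Lpe (K61.f106242 IH) (Lpr_bt (K61.f17185 IH) (Lpr_gt (K3.f17271 IH) (Lpe (K3.f106237 IH) (Lpr_gt (K11.f115102 IH) (Lpr_cf (K5.f94349 IH) (Lpe (K61.f115098 IH) (Lpn (LP (LK LD1_c7 LD2_c10 LD3_c22)))))))))))))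
theorem f106654 : Led Lsl_ct (LP (LK LD1_c3 LD2_c34 LD3_c37)) = (LP (LK LD1_c7 LD2_c10 LD3_c22)) :=
  Lre_c IH (LK LD1_c3 LD2_c34 LD3_c37) (LK LD1_c7 LD2_c10 LD3_c22) Lrfl Lrfl
theorem f658135 : Led Lsl_gt (LP (LK LD1_c7 LD2_c11 LD3_c31)) = (LP (LK LD1_c3 LD2_c35 LD3_c18)) :=
  Lgr Lrot82 (Lpe (f658131 IH) (Lpr_ct (K47.f658128 IH) (Lpr_gf (f115106 IH) (Lpe (f106654 IH) (Lpr_bt (K61.f106650 IH) (Lpe (K3.f11485 IH) (Lpe (K47.f106493 IH) (Lpr_ct (K47.f107803 IH) (Lpe (K47.f107804 IH) (Lpe (K47.f107805 IH) (Lpn (LP (LK LD1_c3 LD2_c35 LD3_c18)))))))))))))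
def v6972 : LQ := Led Lsl_gt (LP (LK LD1_c3 LD2_c35 LD3_c17))
theorem f659734 : Led Lsl_gt (LP (LK LD1_c3 LD2_c35 LD3_c17)) = v6972 :=
  Lrfl
def v6727 : LQ := Led Lsl_gt (LP (LK LD1_c3 LD2_c27 LD3_c57))
theorem f658070 : Led Lsl_gt (LP (LK LD1_c3 LD2_c27 LD3_c57)) = v6727 :=
  Lrfl
theorem f672974 : Led Lsl_gt v6727 = K61.v8965 :=
  Lgr Lrot46 (Lpe (f658070 IH) (Lpr_ft (K61.f514702 IH) (Lpr_at (K61.f672970 IH) (Lpn K61.v8965))))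
theorem f672976 : Led Lsl_ct v6972 = v6727 :=
  Lgr Lrot91 (Lpe (f659734 IH) (Lpe (K61.f519510 IH) (Lpr_ct (K47.f107884 IH) (Lpe (f658135 IH) (Lpr_cf (K47.f658126 IH) (Lpe (K47.f658124 IH) (Lpr_gf (K61.f626560 IH) (Lpr_bf (K61.f626555 IH) (Lpr_ct (K61.f672975 IH) (Lpe (f672974 IH) (Lpn v6727)))))))))))
theorem f672977 : Led Lsl_cf v6972 = v6727 :=
  Lgr Lrot11 (Lpr_ct (f672976 IH) (Lpn v6727))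
def v20484 : LQ := Led Lsl_ft (LP (LK LD1_c6 LD2_c58 LD3_c3))
theorem f787279 : Led Lsl_ft (LP (LK LD1_c6 LD2_c58 LD3_c3)) = v20484 :=
  Lrfl
def v20481 : LQ := Led Lsl_at (LP (LK LD1_c6 LD2_c58 LD3_c3))
theorem f787268 : Led Lsl_at (LP (LK LD1_c6 LD2_c58 LD3_c3)) = v20481 :=
  Lrfl
theorem f787269 : Led Lsl_af (LP (LK LD1_c6 LD2_c58 LD3_c3)) = v20481 :=
  Lgr Lrot0 (Lpr_at (f787268 IH) (Lpn v20481))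
theorem f787272 : Led Lsl_ft v6727 = v20481 :=
  Lgr Lrot2 (Lpr_gt (f672974 IH) (Lpe (K61.f672981 IH) (Lpr_af (f787269 IH) (Lpn v20481))))
theorem f787280 : Led Lsl_af v6727 = v20484 :=
  Lgr Lrot45 (Lpr_ft (f787272 IH) (Lpe (f787269 IH) (Lpr_ft (f787279 IH) (Lpn v20484))))
theorem f672978 : Led Lsl_bt v6972 = K61.v6964 :=
  Lgr Lrot130 (Lpr_ct (f672976 IH) (Lpe (f658070 IH) (Lpe (K29.f143227 IH) (Lpr_bt (K29.f9860 IH) (Lpr_gf (K61.f451419 IH) (Lpr_bf (K61.f491502 IH) (Lpr_ct (K61.f535559 IH) (Lpr_gf (K61.f659698 IH) (Lpe (K61.f659695 IH) (Lpr_gf (K61.f659694 IH) (Lpn K61.v6964)))))))))))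
theorem f672979 : Led Lsl_bf v6972 = K61.v6964 :=
  Lgr Lrot24 (Lpr_bt (f672978 IH) (Lpn K61.v6964))
theorem f668341 : Led Lsl_ff (LP (LK LD1_c3 LD2_c56 LD3_c50)) = K61.v7776 :=
  Lgr Lrot3 (Lpr_ft (K61.f668339 IH) (Lpn K61.v7776))
theorem f12735 : Led Lsl_bt (LP (LK LD1_c3 LD2_c56 LD3_c50)) = (LP (LK LD1_c1 LD2_c55 LD3_c8)) :=
  Lre_b IH (LK LD1_c3 LD2_c56 LD3_c50) (LK LD1_c1 LD2_c55 LD3_c8) Lrfl Lrfl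
def v2785 : LQ := Led Lsl_ft (LP (LK LD1_c1 LD2_c55 LD3_c8))
theorem f535591 : Led Lsl_ft (LP (LK LD1_c1 LD2_c55 LD3_c8)) = v2785 :=
  Lrfl
theorem f668342 : Led Lsl_bt v2785 = K61.v7776 :=
  Lgr Lrot35 (Lpe (f535591 IH) (Lpe (f12735 IH) (Lpr_ff (f668341 IH) (Lpn K61.v7776))))
theorem f535593 : Led Lsl_ff (LP (LK LD1_c1 LD2_c55 LD3_c8)) = v2785 :=
  Lgr Lrot3 (Lpr_ft (f535591 IH) (Lpn v2785))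
theorem f535594 : Led Lsl_at K61.v929 = v2785 :=
  Lgr Lrot66 (Lpr_ff (K61.f535586 IH) (Lpe (K61.f535582 IH) (Lpr_ff (f535593 IH) (Lpn v2785))))
def v10946 : LQ := Led Lsl_at K61.v3559
theorem f682632 : Led Lsl_at K61.v3559 = v10946 :=
  Lrfl
theorem f682633 : Led Lsl_af K61.v3559 = v10946 :=
  Lgr Lrot0 (Lpr_at (f682632 IH) (Lpn v10946))
theorem f792134 : v6972 = v10946 :=
  (Llr Lrot62 (Lpr_bf (f672979 IH) (Lpr_af (K61.f792131 IH) (Lpe (f668342 IH) (Lpe (f535594 IH) (Lpr_bf (K61.f626265 IH) (Lpr_af (f682633 IH) (Lpn v10946)))))))).symm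
theorem f792135 : v20484 = K61.v8964 :=
  (Llr Lrot68 (Lpe (f787280 IH) (Lpe (f672977 IH) (Lpqs (f792134 IH) (Lpe (f682633 IH) (Lpr_ct (K61.f672967 IH) (Lpn K61.v8964))))))).symm
theorem f672968 : Led Lsl_cf K61.v3559 = K61.v8964 :=
  Lgr Lrot11 (Lpr_ct (K61.f672967 IH) (Lpn K61.v8964))
theorem f676695 : Led Lsl_ff K61.v3559 = v9566 :=
  Lgr Lrot25 (Lpe (K61.f626265 IH) (Lpr_ft (K61.f535585 IH) (Lpr_bt (f676693 IH) (Lpn v9566))))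
theorem f676696 : Led Lsl_ft K61.v3559 = v9566 :=
  Lgr Lrot48 (Lpr_ff (f676695 IH) (Lpn v9566))
theorem f792136 : K61.v9585 = v9566 :=
  (Llr Lrot108 (Lpe (K61.f676749 IH) (Lpr_ft (f787279 IH) (Lpqs (f792135 IH) (Lpe (f672968 IH) (Lpr_ft (f676696 IH) (Lpn v9566))))))).symm
theorem f792137 : K61.v2782 = K61.v2787 :=
  Lefun (Lecon (Lfl_bf (f676694 IH)) (f792136 IH).symm) (Lfl_bf (K61.f676748 IH))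
theorem f815381 : Led Lsl_gf K61.v7779 = v23179 :=
  Lgr Lrot181 (Lpe (K61.f668350 IH) (Lpqs (f792137 IH) (Lpe (K61.f535597 IH) (Lpe (K29.f85706 IH) (Lpr_bt (f85703 IH) (Lpr_gt (K61.f787559 IH) (Lpe (f85684 IH) (Lpe (f441122 IH) (Lpr_gt (f107851 IH) (Lpr_cf (f107856 IH) (Lpr_bt (f815378 IH) (Lpn v23179))))))))))))
theorem f668351 : Led Lsl_ct K61.v2782 = K61.v7779 :=
  Lgr Lrot59 (Lpr_cf (K61.f668350 IH) (Lpn K61.v7779))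
def v3643 : LQ := Led Lsl_gf K29.v980
def v11202 : LQ := Led Lsl_ct v3643
theorem f683445 : Led Lsl_ct v3643 = v11202 :=
  Lrfl
theorem f683446 : Led Lsl_cf v3643 = v11202 :=
  Lgr Lrot11 (Lpr_ct (f683445 IH) (Lpn v11202))
theorem f626552 : Led Lsl_gf K29.v980 = v3643 :=
  Lrfl
theorem f19308 : Led Lsl_bt (LP (LK LD1_c7 LD2_c5 LD3_c22)) = (LP (LK LD1_c3 LD2_c31 LD3_c58)) :=
  Lre_b IH (LK LD1_c7 LD2_c5 LD3_c22) (LK LD1_c3 LD2_c31 LD3_c58) Lrfl Lrfl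
theorem f434220 : Led Lsl_ff (LP (LK LD1_c7 LD2_c5 LD3_c22)) = (LP (LK LD1_c6 LD2_c57 LD3_c61)) :=
  Lgr Lrot25 (Lpr_bt (f19308 IH) (Lpr_ft (f434216 IH) (Lpr_bt (K47.f106236 IH) (Lpn (LP (LK LD1_c6 LD2_c57 LD3_c61))))))
theorem f107900 : Led Lsl_ct (LP (LK LD1_c7 LD2_c5 LD3_c60)) = (LP (LK LD1_c6 LD2_c57 LD3_c61)) :=
  Lgr Lrot59 (Lpr_cf (K47.f107886 IH) (Lpn (LP (LK LD1_c6 LD2_c57 LD3_c61))))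
theorem f434225 : Led Lsl_ct (LP (LK LD1_c7 LD2_c5 LD3_c22)) = (LP (LK LD1_c7 LD2_c12 LD3_c48)) :=
  Lgr Lrot40 (Lpr_ff (f434220 IH) (Lpe (f107900 IH) (Lpr_ff (K47.f107878 IH) (Lpn (LP (LK LD1_c7 LD2_c12 LD3_c48))))))
theorem f107815 : Led Lsl_ct (LP (LK LD1_c13 LD2_c37 LD3_c35)) = (LP (LK LD1_c7 LD2_c11 LD3_c36)) :=
  Lre_c IH (LK LD1_c13 LD2_c37 LD3_c35) (LK LD1_c7 LD2_c11 LD3_c36) Lrfl Lrfl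
theorem f107825 : Led Lsl_bt (LP (LK LD1_c13 LD2_c37 LD3_c35)) = (LP (LK LD1_c7 LD2_c11 LD3_c35)) :=
  Lre_b IH (LK LD1_c13 LD2_c37 LD3_c35) (LK LD1_c7 LD2_c11 LD3_c35) Lrfl Lrfl
theorem f683447 : Led Lsl_gt (LP (LK LD1_c7 LD2_c11 LD3_c35)) = v11202 :=
  Lgr Lrot82 (Lpe (f107825 IH) (Lpr_ct (f107815 IH) (Lpr_gf (K47.f107807 IH) (Lpe (f434225 IH) (Lpr_bt (f19308 IH) (Lpe (K34.f19305 IH) (Lpr_bf (K61.f514697 IH) (Lpe (K61.f514698 IH) (Lpr_gf (f626552 IH) (Lpr_cf (f683446 IH) (Lpn v11202)))))))))))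
def v11201 : LQ := Led Lsl_bt v3643
theorem f683443 : Led Lsl_bt v3643 = v11201 :=
  Lrfl
theorem f683448 : Led Lsl_gf (LP (LK LD1_c7 LD2_c10 LD3_c36)) = v11201 :=
  Lgr Lrot181 (Lpr_ct (f11905 IH) (Lpr_gt (K47.f659497 IH) (Lpe (K61.f659503 IH) (Lpe (K49.f519492 IH) (Lpe (K47.f519496 IH) (Lpe (K61.f446506 IH) (Lpr_ct (K61.f107818 IH) (Lpr_gt (f683447 IH) (Lpe (f683445 IH) (Lpr_bt (f683443 IH) (Lpn v11201)))))))))))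
theorem f815383 : Led Lsl_ct v21023 = v23179 :=
  Lgr Lrot64 (Lpe (f791659 IH) (Lpr_gf (f683448 IH) (Lpe (f683443 IH) (Lpr_ct (f683445 IH) (Lpe (f683447 IH) (Lpe (K61.f107818 IH) (Lpr_gf (K61.f659735 IH) (Lpqs (K61.f790107 IH) (Lpqs (f792136 IH) (Lpe (f676693 IH) (Lpr_ct (f668351 IH) (Lpr_gf (f815381 IH) (Lpn v23179)))))))))))))
def v21099 : LQ := Led Lsl_ct (LP (LK LD1_c7 LD2_c11 LD3_c32))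
theorem f792181 : Led Lsl_ct (LP (LK LD1_c7 LD2_c11 LD3_c32)) = v21099 :=
  Lrfl
theorem f792182 : Led Lsl_cf (LP (LK LD1_c7 LD2_c11 LD3_c32)) = v21099 :=
  Lgr Lrot11 (Lpr_ct (f792181 IH) (Lpn v21099))
theorem f815393 : Led Lsl_bt v21099 = v9480 :=
  Lgr Lrot130 (Lpe (f792182 IH) (Lpe (K47.f659718 IH) (Lpe (K47.f107884 IH) (Lpr_bt (K61.f519510 IH) (Lpr_gf (K61.f659735 IH) (Lpqs (K61.f790107 IH) (Lpqs (f792136 IH) (Lpe (f676693 IH) (Lpr_ct (f668351 IH) (Lpr_gf (f815381 IH) (Lpe (f815383 IH) (Lpr_gf (f815392 IH) (Lpn v9480)))))))))))))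
theorem f792180 : Led Lsl_bf (LP (LK LD1_c7 LD2_c11 LD3_c32)) = v21098 :=
  Lgr Lrot24 (Lpr_bt (f792179 IH) (Lpn v21098))
theorem f676135 : Led Lsl_cf v2714 = v9480 :=
  Lgr Lrot11 (Lpr_ct (f676134 IH) (Lpn v9480))
def v9479 : LQ := Led Lsl_bt v2714
theorem f676130 : Led Lsl_bt v2714 = v9479 :=
  Lrfl
theorem f676131 : Led Lsl_bf v2714 = v9479 :=
  Lgr Lrot24 (Lpr_bt (f676130 IH) (Lpn v9479))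
theorem f514585 : Led Lsl_ft (LP (LK LD1_c1 LD2_c53 LD3_c32)) = K61.v2314 :=
  Lgr Lrot48 (Lpr_ff (K61.f514582 IH) (Lpn K61.v2314))
theorem f667451 : Led Lsl_at K61.v2314 = K61.v7647 :=
  Lgr Lrot66 (Lpe (f514585 IH) (Lpe (K61.f490574 IH) (Lpr_ff (K61.f667450 IH) (Lpn K61.v7647))))
theorem f667456 : Led Lsl_gt v2714 = K61.v7647 :=
  Lgr Lrot46 (Lpe (f531320 IH) (Lpr_ft (f514585 IH) (Lpr_at (f667451 IH) (Lpn K61.v7647))))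
theorem f667455 : Led Lsl_cf K61.v2781 = K61.v7647 :=
  Lgr Lrot108 (Lpe (K61.f535572 IH) (Lpr_ct (K61.f85704 IH) (Lpr_ft (K61.f667453 IH) (Lpn K61.v7647))))
theorem f109144 : Led Lsl_ct (LP (LK LD1_c3 LD2_c56 LD3_c51)) = (LP (LK LD1_c1 LD2_c55 LD3_c8)) :=
  Lre_c IH (LK LD1_c3 LD2_c56 LD3_c51) (LK LD1_c1 LD2_c55 LD3_c8) Lrfl Lrfl
theorem f109145 : Led Lsl_bt (LP (LK LD1_c3 LD2_c56 LD3_c51)) = (LP (LK LD1_c7 LD2_c55 LD3_c23)) :=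
  Lre_b IH (LK LD1_c3 LD2_c56 LD3_c51) (LK LD1_c7 LD2_c55 LD3_c23) Lrfl Lrfl
theorem f85312 : Led Lsl_bt (LP (LK LD1_c6 LD2_c59 LD3_c12)) = (LP (LK LD1_c3 LD2_c28 LD3_c48)) :=
  Lre_b IH (LK LD1_c6 LD2_c59 LD3_c12) (LK LD1_c3 LD2_c28 LD3_c48) Lrfl Lrfl
theorem f95768 : Led Lsl_bt (LP (LK LD1_c3 LD2_c28 LD3_c48)) = (LP (LK LD1_c6 LD2_c59 LD3_c12)) :=
  Lre_b IH (LK LD1_c3 LD2_c28 LD3_c48) (LK LD1_c6 LD2_c59 LD3_c12) Lrfl Lrfl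
theorem f106296 : Led Lsl_ct (LP (LK LD1_c6 LD2_c59 LD3_c12)) = (LP (LK LD1_c7 LD2_c55 LD3_c19)) :=
  Lgr Lrot83 (Lpe (f95768 IH) (Lpe (K3.f95763 IH) (Lpe (K3.f95828 IH) (Lpr_cf (K5.f106293 IH) (Lpe (K3.f106295 IH) (Lpn (LP (LK LD1_c7 LD2_c55 LD3_c19))))))))
theorem f107105 : Led Lsl_ct (LP (LK LD1_c6 LD2_c52 LD3_c35)) = (LP (LK LD1_c13 LD2_c4 LD3_c30)) :=
  Lre_c IH (LK LD1_c6 LD2_c52 LD3_c35) (LK LD1_c13 LD2_c4 LD3_c30) Lrfl Lrfl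
theorem f107106 : Led Lsl_ff (LP (LK LD1_c6 LD2_c59 LD3_c12)) = (LP (LK LD1_c13 LD2_c4 LD3_c30)) :=
  Lgr Lrot23 (Lpr_ct (f106296 IH) (Lpr_ft (K3.f107101 IH) (Lpr_ct (f107105 IH) (Lpn (LP (LK LD1_c13 LD2_c4 LD3_c30))))))
theorem f121538 : Led Lsl_bt (LP (LK LD1_c6 LD2_c58 LD3_c51)) = (LP (LK LD1_c13 LD2_c4 LD3_c30)) :=
  Lgr Lrot35 (Lpr_ff (K4.f121529 IH) (Lpe (f85312 IH) (Lpr_ff (f107106 IH) (Lpn (LP (LK LD1_c13 LD2_c4 LD3_c30))))))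
theorem f440540 : Led Lsl_gf (LP (LK LD1_c7 LD2_c55 LD3_c23)) = (LP (LK LD1_c13 LD2_c4 LD3_c30)) :=
  Lgr Lrot124 (Lpe (f109145 IH) (Lpr_ct (f109144 IH) (Lpr_gt (K61.f12734 IH) (Lpe (K61.f11900 IH) (Lpr_bt (K61.f86669 IH) (Lpr_gt (K4.f85599 IH) (Lpe (K4.f109134 IH) (Lpr_gt (K3.f109140 IH) (Lpe (K4.f121523 IH) (Lpr_bt (f121538 IH) (Lpn (LP (LK LD1_c13 LD2_c4 LD3_c30)))))))))))))
theorem f106317 : Led Lsl_at (LP (LK LD1_c6 LD2_c59 LD3_c12)) = (LP (LK LD1_c13 LD2_c15 LD3_c26)) :=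
  Lre_a IH (LK LD1_c6 LD2_c59 LD3_c12) (LK LD1_c13 LD2_c15 LD3_c26) Lrfl Lrfl
theorem f440542 : Led Lsl_gt (LP (LK LD1_c7 LD2_c55 LD3_c23)) = (LP (LK LD1_c13 LD2_c15 LD3_c26)) :=
  Lgr Lrot46 (Lpr_gf (f440540 IH) (Lpe (f107106 IH) (Lpr_at (f106317 IH) (Lpn (LP (LK LD1_c13 LD2_c15 LD3_c26))))))
theorem f107648 : Led Lsl_cf (LP (LK LD1_c7 LD2_c16 LD3_c41)) = (LP (LK LD1_c13 LD2_c4 LD3_c35)) :=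
  Lgr Lrot1 (Lpr_at (K60.f107630 IH) (Lpr_ct (K3.f107646 IH) (Lpr_at (K3.f107096 IH) (Lpn (LP (LK LD1_c13 LD2_c4 LD3_c35))))))
theorem f107150 : Led Lsl_bt (LP (LK LD1_c14 LD2_c56 LD3_c48)) = (LP (LK LD1_c13 LD2_c4 LD3_c35)) :=
  Lgr Lrot127 (Lpr_bf (K3.f107097 IH) (Lpn (LP (LK LD1_c13 LD2_c4 LD3_c35))))
theorem f106299 : Led Lsl_at (LP (LK LD1_c13 LD2_c15 LD3_c26)) = (LP (LK LD1_c6 LD2_c59 LD3_c12)) :=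
  Lre_a IH (LK LD1_c13 LD2_c15 LD3_c26) (LK LD1_c6 LD2_c59 LD3_c12) Lrfl Lrfl
theorem f106301 : Led Lsl_cf (LP (LK LD1_c13 LD2_c15 LD3_c26)) = (LP (LK LD1_c14 LD2_c56 LD3_c48)) :=
  Lgr Lrot1 (Lpr_at (f106299 IH) (Lpr_ct (f106296 IH) (Lpr_at (K3.f106300 IH) (Lpn (LP (LK LD1_c14 LD2_c56 LD3_c48))))))
theorem f106315 : Led Lsl_ct (LP (LK LD1_c13 LD2_c15 LD3_c26)) = (LP (LK LD1_c14 LD2_c56 LD3_c48)) :=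
  Lgr Lrot59 (Lpr_cf (f106301 IH) (Lpn (LP (LK LD1_c14 LD2_c56 LD3_c48))))
theorem f160189 : Led Lsl_bt (LP (LK LD1_c13 LD2_c34 LD3_c37)) = (LP (LK LD1_c13 LD2_c15 LD3_c26)) :=
  Lgr Lrot128 (Lpe (K60.f121565 IH) (Lpr_bf (K60.f160184 IH) (Lpr_cf (f107648 IH) (Lpe (f107150 IH) (Lpe (f106315 IH) (Lpn (LP (LK LD1_c13 LD2_c15 LD3_c26))))))))
theorem f121567 : Led Lsl_ct (LP (LK LD1_c13 LD2_c34 LD3_c37)) = (LP (LK LD1_c7 LD2_c10 LD3_c11)) :=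
  Lre_c IH (LK LD1_c13 LD2_c34 LD3_c37) (LK LD1_c7 LD2_c10 LD3_c11) Lrfl Lrfl
theorem f86886 : Led Lsl_at (LP (LK LD1_c7 LD2_c12 LD3_c52)) = (LP (LK LD1_c3 LD2_c36 LD3_c15)) :=
  Lre_a IH (LK LD1_c7 LD2_c12 LD3_c52) (LK LD1_c3 LD2_c36 LD3_c15) Lrfl Lrfl
theorem f121582 : Led Lsl_ft (LP (LK LD1_c7 LD2_c10 LD3_c11)) = (LP (LK LD1_c7 LD2_c12 LD3_c52)) :=
  Lgr Lrot101 (Lpe (K60.f121581 IH) (Lpr_ff (K4.f121577 IH) (Lpe (f86886 IH) (Lpn (LP (LK LD1_c7 LD2_c12 LD3_c52))))))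
theorem f86714 : Led Lsl_gt (LP (LK LD1_c7 LD2_c12 LD3_c51)) = (LP (LK LD1_c3 LD2_c36 LD3_c15)) :=
  Lre_g IH (LK LD1_c7 LD2_c12 LD3_c51) (LK LD1_c3 LD2_c36 LD3_c15) Lrfl Lrfl
theorem f440517 : Led Lsl_gt (LP (LK LD1_c7 LD2_c10 LD3_c11)) = (LP (LK LD1_c7 LD2_c12 LD3_c51)) :=
  Lgr Lrot5 (Lpr_ft (f121582 IH) (Lpr_at (f86886 IH) (Lpe (f86714 IH) (Lpn (LP (LK LD1_c7 LD2_c12 LD3_c51))))))
theorem f676132 : Led Lsl_cf (LP (LK LD1_c7 LD2_c12 LD3_c51)) = v9479 :=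
  Lgr Lrot58 (Lpe (f440517 IH) (Lpe (f121567 IH) (Lpr_bt (f160189 IH) (Lpe (f440542 IH) (Lpe (f109145 IH) (Lpr_ct (f109144 IH) (Lpr_gf (K61.f535571 IH) (Lpr_cf (f667455 IH) (Lpe (f667456 IH) (Lpr_bf (f676131 IH) (Lpn v9479)))))))))))
theorem f815395 : v21098 = (LP (LK LD1_c7 LD2_c12 LD3_c51)) :=
  (Llr Lrot90 (Lpe (f792180 IH) (Lpr_ct (f792181 IH) (Lpr_bt (f815393 IH) (Lpe (f676135 IH) (Lpr_bt (f676130 IH) (Lpe (f676132 IH) (Lpn (LP (LK LD1_c7 LD2_c12 LD3_c51)))))))))).symm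
theorem f815397 : Led Lsl_bt (LP (LK LD1_c7 LD2_c11 LD3_c32)) = (LP (LK LD1_c7 LD2_c12 LD3_c51)) :=
  Leop (Lpq (f815395 IH) (Lpe (f792179 IH) (Lpn (LP (LK LD1_c7 LD2_c11 LD3_c32)))))
theorem seed_1813 : LEOK LG_b (LK LD1_c7 LD2_c11 LD3_c32) :=
  Leoe_b (LK LD1_c7 LD2_c11 LD3_c32) (f815397 IH)
def v21094 : LQ := Led Lsl_at (LP (LK LD1_c7 LD2_c11 LD3_c31))
theorem f792166 : Led Lsl_at (LP (LK LD1_c7 LD2_c11 LD3_c31)) = v21094 :=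
  Lrfl
theorem f792167 : Led Lsl_af (LP (LK LD1_c7 LD2_c11 LD3_c31)) = v21094 :=
  Lgr Lrot0 (Lpr_at (f792166 IH) (Lpn v21094))
theorem f792168 : Led Lsl_ft (LP (LK LD1_c7 LD2_c11 LD3_c32)) = v21094 :=
  Lgr Lrot2 (Lpr_gt (K47.f519490 IH) (Lpr_gt (K47.f11488 IH) (Lpr_af (f792167 IH) (Lpn v21094))))
theorem f792169 : Led Lsl_ff (LP (LK LD1_c7 LD2_c11 LD3_c32)) = v21094 :=
  Lgr Lrot3 (Lpr_ft (f792168 IH) (Lpn v21094))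
def v21169 : LQ := Led Lsl_at (LP (LK LD1_c7 LD2_c12 LD3_c50))
theorem f794145 : Led Lsl_at (LP (LK LD1_c7 LD2_c12 LD3_c50)) = v21169 :=
  Lrfl
theorem f794146 : Led Lsl_af (LP (LK LD1_c7 LD2_c12 LD3_c50)) = v21169 :=
  Lgr Lrot0 (Lpr_at (f794145 IH) (Lpn v21169))
theorem f794148 : Led Lsl_ft (LP (LK LD1_c7 LD2_c12 LD3_c51)) = v21169 :=
  Lgr Lrot2 (Lpr_gt (f86714 IH) (Lpr_gt (K60.f86888 IH) (Lpr_af (f794146 IH) (Lpn v21169))))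
theorem f815399 : Led Lsl_bf v21094 = v21169 :=
  Lgr Lrot61 (Lpe (f792169 IH) (Lpr_bt (f792179 IH) (Lpqs (f815395 IH) (Lpr_ft (f794148 IH) (Lpn v21169)))))
theorem f815400 : Led Lsl_at (LP (LK LD1_c13 LD2_c37 LD3_c29)) = (LP (LK LD1_c13 LD2_c39 LD3_c16)) :=
  Lgr Lrot67 (Lpe (K47.f658127 IH) (Lpr_af (f792167 IH) (Lpr_bf (f815399 IH) (Lpe (f794145 IH) (Lpe (K60.f105768 IH) (Lpn (LP (LK LD1_c13 LD2_c39 LD3_c16))))))))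
theorem f815401 : Led Lsl_at (LP (LK LD1_c13 LD2_c37 LD3_c29)) = (LP (LK LD1_c13 LD2_c39 LD3_c16)) :=
  Leop (Lpe (f815400 IH) (Lpn (LP (LK LD1_c13 LD2_c37 LD3_c29))))
theorem seed_1814 : LEOK LG_a (LK LD1_c13 LD2_c37 LD3_c29) :=
  Leoe_a (LK LD1_c13 LD2_c37 LD3_c29) (f815401 IH)
def v7773 : LQ := Led Lsl_ct (LP (LK LD1_c3 LD2_c56 LD3_c50))
theorem f668328 : Led Lsl_ct (LP (LK LD1_c3 LD2_c56 LD3_c50)) = v7773 :=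
  Lrfl
def v8863 : LQ := Led Lsl_ct K61.v2255
theorem f672548 : Led Lsl_ct K61.v2255 = v8863 :=
  Lrfl
theorem f672550 : Led Lsl_gf v7773 = v8863 :=
  Lgr Lrot129 (Lpe (f668328 IH) (Lpr_bt (f12735 IH) (Lpr_gt (K61.f12734 IH) (Lpe (K61.f12733 IH) (Lpr_ct (K3.f7421 IH) (Lpr_gt (K3.f12709 IH) (Lpe (K6.f12728 IH) (Lpr_bt (K61.f12729 IH) (Lpr_gt (K61.f511292 IH) (Lpr_ct (f672548 IH) (Lpn v8863)))))))))))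
theorem f815394 : Led Lsl_bf v21099 = v9480 :=
  Lgr Lrot24 (Lpr_bt (f815393 IH) (Lpn v9480))
theorem f815495 : Led Lsl_gf K61.v8862 = v21099 :=
  Lgr Lrot124 (Lpe (K61.f672544 IH) (Lpr_ct (f672548 IH) (Lpe (f672550 IH) (Lpe (f668328 IH) (Lpr_bt (f12735 IH) (Lpr_gt (K61.f12734 IH) (Lpr_ct (K29.f11899 IH) (Lpr_gt (f531320 IH) (Lpr_cf (f676135 IH) (Lpe (f815394 IH) (Lpn v21099)))))))))))
def v6737 : LQ := Led Lsl_ft (LP (LK LD1_c3 LD2_c28 LD3_c13))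
theorem f658142 : Led Lsl_ft (LP (LK LD1_c3 LD2_c28 LD3_c13)) = v6737 :=
  Lrfl
theorem f658144 : Led Lsl_ff (LP (LK LD1_c3 LD2_c28 LD3_c13)) = v6737 :=
  Lgr Lrot3 (Lpr_ft (f658142 IH) (Lpn v6737))
def v11200 : LQ := Led Lsl_ft K61.v3642
theorem f683439 : Led Lsl_ft K61.v3642 = v11200 :=
  Lrfl
def v11196 : LQ := Led Lsl_at K61.v3642
theorem f683427 : Led Lsl_at K61.v3642 = v11196 :=
  Lrfl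
theorem f683428 : Led Lsl_af K61.v3642 = v11196 :=
  Lgr Lrot0 (Lpr_at (f683427 IH) (Lpn v11196))
theorem f683429 : Led Lsl_ft v3643 = v11196 :=
  Lgr Lrot2 (Lpe (f626552 IH) (Lpr_gt (K61.f626550 IH) (Lpr_af (f683428 IH) (Lpn v11196))))
theorem f683440 : Led Lsl_af v3643 = v11200 :=
  Lgr Lrot45 (Lpr_ft (f683429 IH) (Lpe (f683428 IH) (Lpr_ft (f683439 IH) (Lpn v11200))))
theorem f658145 : Led Lsl_at K61.v2287 = v6737 :=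
  Lgr Lrot66 (Lpr_ff (K61.f658122 IH) (Lpe (K61.f658119 IH) (Lpr_ff (f658144 IH) (Lpn v6737))))
def v7652 : LQ := Led Lsl_ft (LP (LK LD1_c3 LD2_c53 LD3_c49))
theorem f667474 : Led Lsl_ft (LP (LK LD1_c3 LD2_c53 LD3_c49)) = v7652 :=
  Lrfl
def v7648 : LQ := Led Lsl_at (LP (LK LD1_c3 LD2_c53 LD3_c49))
theorem f667457 : Led Lsl_at (LP (LK LD1_c3 LD2_c53 LD3_c49)) = v7648 :=
  Lrfl
theorem f667458 : Led Lsl_af (LP (LK LD1_c3 LD2_c53 LD3_c49)) = v7648 :=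
  Lgr Lrot0 (Lpr_at (f667457 IH) (Lpn v7648))
theorem f667462 : Led Lsl_ft v2714 = v7648 :=
  Lgr Lrot2 (Lpr_gt (f667456 IH) (Lpe (K61.f667449 IH) (Lpr_af (f667458 IH) (Lpn v7648))))
theorem f667463 : Led Lsl_ff v2714 = v7648 :=
  Lgr Lrot3 (Lpr_ft (f667462 IH) (Lpn v7648))
theorem f667476 : Led Lsl_ff (LP (LK LD1_c3 LD2_c53 LD3_c49)) = v7652 :=
  Lgr Lrot3 (Lpr_ft (f667474 IH) (Lpn v7652))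
theorem f667477 : Led Lsl_at v2714 = v7652 :=
  Lgr Lrot66 (Lpr_ff (f667463 IH) (Lpe (f667457 IH) (Lpr_ff (f667476 IH) (Lpn v7652))))
theorem f794149 : Led Lsl_ff (LP (LK LD1_c7 LD2_c12 LD3_c51)) = v21169 :=
  Lgr Lrot3 (Lpr_ft (f794148 IH) (Lpn v21169))
def v20986 : LQ := Led Lsl_ft (LP (LK LD1_c7 LD2_c10 LD3_c9))
theorem f791472 : Led Lsl_ft (LP (LK LD1_c7 LD2_c10 LD3_c9)) = v20986 :=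
  Lrfl
def v20982 : LQ := Led Lsl_at (LP (LK LD1_c7 LD2_c10 LD3_c9))
theorem f791461 : Led Lsl_at (LP (LK LD1_c7 LD2_c10 LD3_c9)) = v20982 :=
  Lrfl
theorem f791462 : Led Lsl_af (LP (LK LD1_c7 LD2_c10 LD3_c9)) = v20982 :=
  Lgr Lrot0 (Lpr_at (f791461 IH) (Lpn v20982))
theorem f106612 : Led Lsl_gt (LP (LK LD1_c3 LD2_c34 LD3_c32)) = (LP (LK LD1_c7 LD2_c10 LD3_c9)) :=
  Lre_g IH (LK LD1_c3 LD2_c34 LD3_c32) (LK LD1_c7 LD2_c10 LD3_c9) Lrfl Lrfl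
theorem f791463 : Led Lsl_ft (LP (LK LD1_c7 LD2_c10 LD3_c10)) = v20982 :=
  Lgr Lrot2 (Lpr_gt (K61.f106606 IH) (Lpr_gt (f106612 IH) (Lpr_af (f791462 IH) (Lpn v20982))))
theorem f791473 : Led Lsl_af (LP (LK LD1_c7 LD2_c10 LD3_c10)) = v20986 :=
  Lgr Lrot45 (Lpr_ft (f791463 IH) (Lpe (f791462 IH) (Lpr_ft (f791472 IH) (Lpn v20986))))
theorem f815402 : Led Lsl_bt v21094 = v21169 :=
  Lgr Lrot127 (Lpr_bf (f815399 IH) (Lpn v21169))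

end

end K63

end

end Cfsg.Agent.Helper28.S1692
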