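import Cfsg.Agent.Lib.Helper28.S1692.Seeds63

set_option autoImplicit false
set_option maxRecDepth 100000
set_option linter.all false

namespace Cfsg.Agent.Helper28.S1692

open Cfsg.Agent.Helper28
open Cfsg.Spor.ON (Gen)

noncomputable section

namespace K64
abbrev LD1_c0 := D1.c0
abbrev LD1_c1 := D1.c1
abbrev LD1_c2 := D1.c2
abbrev LD1_c3 := D1.c3
abbrev LD1_c4 := D1.c4
abbrev LD1_c5 := D1.c5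
abbrev LD1_c6 := D1.c6
abbrev LD1_c7 := D1.c7
abbrev LD1_c8 := D1.c8
abbrev LD1_c9 := D1.c9
abbrev LD1_c10 := D1.c10
abbrev LD1_c11 := D1.c11
abbrev LD1_c12 := D1.c12
abbrev LD1_c13 := D1.c13
abbrev LD1_c14 := D1.c14
abbrev LD1_c15 := D1.c15
abbrev LD1_c16 := D1.c16
abbrev LD1_c17 := D1.c17
abbrev LD1_c18 := D1.c18
abbrev LD1_c19 := D1.c19
abbrev LD1_c20 := D1.c20
abbrev LD1_c21 := D1.c21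
abbrev LD1_c22 := D1.c22
abbrev LD1_c23 := D1.c23
abbrev LD1_c24 := D1.c24
abbrev LD1_c25 := D1.c25
abbrev LD1_c26 := D1.c26
abbrev LD1_c27 := D1.c27
abbrev LD1_c28 := D1.c28
abbrev LD1_c29 := D1.c29
abbrev LD1_c30 := D1.c30
abbrev LD1_c31 := D1.c31
abbrev LD1_c32 := D1.c32
abbrev LD2_c0 := D2.c0
abbrev LD2_c1 := D2.c1
abbrev LD2_c2 := D2.c2
abbrev LD2_c3 := D2.c3
abbrev LD2_c4 := D2.c4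
abbrev LD2_c5 := D2.c5
abbrev LD2_c6 := D2.c6
abbrev LD2_c7 := D2.c7
abbrev LD2_c8 := D2.c8
abbrev LD2_c9 := D2.c9
abbrev LD2_c10 := D2.c10
abbrev LD2_c11 := D2.c11
abbrev LD2_c12 := D2.c12
abbrev LD2_c13 := D2.c13
abbrev LD2_c14 := D2.c14
abbrev LD2_c15 := D2.c15
abbrev LD2_c16 := D2.c16
abbrev LD2_c17 := D2.c17
abbrev LD2_c18 := D2.c18
abbrev LD2_c19 := D2.c19
abbrev LD2_c20 := D2.c20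
abbrev LD2_c21 := D2.c21
abbrev LD2_c22 := D2.c22
abbrev LD2_c23 := D2.c23
abbrev LD2_c24 := D2.c24
abbrev LD2_c25 := D2.c25
abbrev LD2_c26 := D2.c26
abbrev LD2_c27 := D2.c27
abbrev LD2_c28 := D2.c28
abbrev LD2_c29 := D2.c29
abbrev LD2_c30 := D2.c30
abbrev LD2_c31 := D2.c31
abbrev LD2_c32 := D2.c32
abbrev LD2_c33 := D2.c33
abbrev LD2_c34 := D2.c34
abbrev LD2_c35 := D2.c35
abbrev LD2_c36 := D2.c36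
abbrev LD2_c37 := D2.c37
abbrev LD2_c38 := D2.c38
abbrev LD2_c39 := D2.c39
abbrev LD2_c40 := D2.c40
abbrev LD2_c41 := D2.c41
abbrev LD2_c42 := D2.c42
abbrev LD2_c43 := D2.c43
abbrev LD2_c44 := D2.c44
abbrev LD2_c45 := D2.c45
abbrev LD2_c46 := D2.c46
abbrev LD2_c47 := D2.c47
abbrev LD2_c48 := D2.c48
abbrev LD2_c49 := D2.c49
abbrev LD2_c50 := D2.c50
abbrev LD2_c51 := D2.c51
abbrev LD2_c52 := D2.c52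
abbrev LD2_c53 := D2.c53
abbrev LD2_c54 := D2.c54
abbrev LD2_c55 := D2.c55
abbrev LD2_c56 := D2.c56
abbrev LD2_c57 := D2.c57
abbrev LD2_c58 := D2.c58
abbrev LD2_c59 := D2.c59
abbrev LD3_c0 := D3.c0
abbrev LD3_c1 := D3.c1
abbrev LD3_c2 := D3.c2
abbrev LD3_c3 := D3.c3
abbrev LD3_c4 := D3.c4
abbrev LD3_c5 := D3.c5
abbrev LD3_c6 := D3.c6
abbrev LD3_c7 := D3.c7
abbrev LD3_c8 := D3.c8
abbrev LD3_c9 := D3.c9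
abbrev LD3_c10 := D3.c10
abbrev LD3_c11 := D3.c11
abbrev LD3_c12 := D3.c12
abbrev LD3_c13 := D3.c13
abbrev LD3_c14 := D3.c14
abbrev LD3_c15 := D3.c15
abbrev LD3_c16 := D3.c16
abbrev LD3_c17 := D3.c17
abbrev LD3_c18 := D3.c18
abbrev LD3_c19 := D3.c19
abbrev LD3_c20 := D3.c20
abbrev LD3_c21 := D3.c21
abbrev LD3_c22 := D3.c22
abbrev LD3_c23 := D3.c23
abbrev LD3_c24 := D3.c24
abbrev LD3_c25 := D3.c25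
abbrev LD3_c26 := D3.c26
abbrev LD3_c27 := D3.c27
abbrev LD3_c28 := D3.c28
abbrev LD3_c29 := D3.c29
abbrev LD3_c30 := D3.c30
abbrev LD3_c31 := D3.c31
abbrev LD3_c32 := D3.c32
abbrev LD3_c33 := D3.c33
abbrev LD3_c34 := D3.c34
abbrev LD3_c35 := D3.c35
abbrev LD3_c36 := D3.c36
abbrev LD3_c37 := D3.c37
abbrev LD3_c38 := D3.c38
abbrev LD3_c39 := D3.c39
abbrev LD3_c40 := D3.c40
abbrev LD3_c41 := D3.c41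
abbrev LD3_c42 := D3.c42
abbrev LD3_c43 := D3.c43
abbrev LD3_c44 := D3.c44
abbrev LD3_c45 := D3.c45
abbrev LD3_c46 := D3.c46
abbrev LD3_c47 := D3.c47
abbrev LD3_c48 := D3.c48
abbrev LD3_c49 := D3.c49
abbrev LD3_c50 := D3.c50
abbrev LD3_c51 := D3.c51
abbrev LD3_c52 := D3.c52
abbrev LD3_c53 := D3.c53
abbrev LD3_c54 := D3.c54
abbrev LD3_c55 := D3.c55
abbrev LD3_c56 := D3.c56
abbrev LD3_c57 := D3.c57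
abbrev LD3_c58 := D3.c58
abbrev LD3_c59 := D3.c59
abbrev LD3_c60 := D3.c60
abbrev LD3_c61 := D3.c61
abbrev LG_g := Gen.g
abbrev Lsl_gt : Gen × Bool := sl_gt
alias Lfl_gt := fl_gt
alias Lpr_gt := pr_gt
abbrev Lsl_gf : Gen × Bool := sl_gf
alias Lfl_gf := fl_gf
alias Lpr_gf := pr_gf
alias Lre_g := re_g
alias Leoe_g := eoe_g
abbrev LG_a := Gen.a
abbrev Lsl_at : Gen × Bool := sl_at
alias Lfl_at := fl_at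
alias Lpr_at := pr_at
abbrev Lsl_af : Gen × Bool := sl_af
alias Lfl_af := fl_af
alias Lpr_af := pr_af
alias Lre_a := re_a
alias Leoe_a := eoe_a
abbrev LG_b := Gen.b
abbrev Lsl_bt : Gen × Bool := sl_bt
alias Lfl_bt := fl_bt
alias Lpr_bt := pr_bt
abbrev Lsl_bf : Gen × Bool := sl_bf
alias Lfl_bf := fl_bf
alias Lpr_bf := pr_bf
alias Lre_b := re_b
alias Leoe_b := eoe_b
abbrev LG_c := Gen.c
abbrev Lsl_ct : Gen × Bool := sl_ct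
alias Lfl_ct := fl_ct
alias Lpr_ct := pr_ct
abbrev Lsl_cf : Gen × Bool := sl_cf
alias Lfl_cf := fl_cf
alias Lpr_cf := pr_cf
alias Lre_c := re_c
alias Leoe_c := eoe_c
abbrev LG_d := Gen.d
abbrev Lsl_dt : Gen × Bool := sl_dt
alias Lfl_dt := fl_dt
alias Lpr_dt := pr_dt
abbrev Lsl_df : Gen × Bool := sl_df
alias Lfl_df := fl_df
alias Lpr_df := pr_df
alias Lre_d := re_d
alias Leoe_d := eoe_d
abbrev LG_e := Gen.e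
abbrev Lsl_et : Gen × Bool := sl_et
alias Lfl_et := fl_et
alias Lpr_et := pr_et
abbrev Lsl_ef : Gen × Bool := sl_ef
alias Lfl_ef := fl_ef
alias Lpr_ef := pr_ef
alias Lre_e := re_e
alias Leoe_e := eoe_e
abbrev LG_f := Gen.f
abbrev Lsl_ft : Gen × Bool := sl_ft
alias Lfl_ft := fl_ft
alias Lpr_ft := pr_ft
abbrev Lsl_ff : Gen × Bool := sl_ff
alias Lfl_ff := fl_ff
alias Lpr_ff := pr_ff
alias Lre_f := re_f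
alias Leoe_f := eoe_f
abbrev LK := Pt.mk
abbrev LQ : Type := Qt rels S
abbrev LP (p : Pt) : LQ := P p
abbrev Led (l : Gen × Bool) (c : LQ) : LQ := ed l c
abbrev LEOK (x : Gen) (p : Pt) : Prop := EntryOK rels S fwd inv o plet idx x p
alias Lpe := pe
alias Lpn := pn
alias Lgr := gr
alias Lpq := pq
alias Lpqs := pqs
alias Llr := lr
alias Leop := eop
alias Lefun := efun
alias Lecon := econ
theorem Lrfl {α : Sort _} {a : α} : a = a := rfl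
alias Lrot0 := rot0
alias Lrot1 := rot1
alias Lrot2 := rot2
alias Lrot3 := rot3
alias Lrot4 := rot4
alias Lrot5 := rot5
alias Lrot6 := rot6
alias Lrot7 := rot7
alias Lrot8 := rot8
alias Lrot9 := rot9
alias Lrot11 := rot11
alias Lrot12 := rot12
alias Lrot14 := rot14
alias Lrot15 := rot15
alias Lrot17 := rot17
alias Lrot18 := rot18
alias Lrot19 := rot19
alias Lrot20 := rot20
alias Lrot21 := rot21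
alias Lrot22 := rot22
alias Lrot23 := rot23
alias Lrot24 := rot24
alias Lrot25 := rot25
alias Lrot26 := rot26
alias Lrot27 := rot27
alias Lrot28 := rot28
alias Lrot29 := rot29
alias Lrot30 := rot30
alias Lrot31 := rot31
alias Lrot33 := rot33
alias Lrot34 := rot34
alias Lrot35 := rot35
alias Lrot36 := rot36
alias Lrot37 := rot37
alias Lrot38 := rot38
alias Lrot39 := rot39
alias Lrot40 := rot40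
alias Lrot41 := rot41
alias Lrot42 := rot42
alias Lrot43 := rot43
alias Lrot44 := rot44
alias Lrot45 := rot45
alias Lrot46 := rot46
alias Lrot47 := rot47
alias Lrot48 := rot48
alias Lrot49 := rot49
alias Lrot50 := rot50
alias Lrot51 := rot51
alias Lrot52 := rot52
alias Lrot54 := rot54
alias Lrot56 := rot56
alias Lrot57 := rot57
alias Lrot58 := rot58
alias Lrot59 := rot59
alias Lrot60 := rot60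
alias Lrot61 := rot61
alias Lrot62 := rot62
alias Lrot63 := rot63
alias Lrot64 := rot64
alias Lrot65 := rot65
alias Lrot66 := rot66
alias Lrot67 := rot67
alias Lrot68 := rot68
alias Lrot69 := rot69
alias Lrot70 := rot70
alias Lrot71 := rot71
alias Lrot72 := rot72
alias Lrot73 := rot73
alias Lrot74 := rot74
alias Lrot75 := rot75
alias Lrot76 := rot76
alias Lrot77 := rot77
alias Lrot78 := rot78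
alias Lrot79 := rot79
alias Lrot80 := rot80
alias Lrot81 := rot81
alias Lrot82 := rot82
alias Lrot83 := rot83
alias Lrot84 := rot84
alias Lrot85 := rot85
alias Lrot86 := rot86
alias Lrot87 := rot87
alias Lrot88 := rot88
alias Lrot90 := rot90
alias Lrot91 := rot91
alias Lrot92 := rot92
alias Lrot93 := rot93
alias Lrot94 := rot94
alias Lrot95 := rot95
alias Lrot96 := rot96
alias Lrot97 := rot97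
alias Lrot99 := rot99
alias Lrot100 := rot100
alias Lrot101 := rot101
alias Lrot103 := rot103
alias Lrot104 := rot104
alias Lrot105 := rot105
alias Lrot107 := rot107
alias Lrot108 := rot108
alias Lrot110 := rot110
alias Lrot111 := rot111
alias Lrot112 := rot112
alias Lrot113 := rot113
alias Lrot114 := rot114
alias Lrot116 := rot116
alias Lrot117 := rot117
alias Lrot118 := rot118
alias Lrot119 := rot119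
alias Lrot121 := rot121
alias Lrot122 := rot122
alias Lrot123 := rot123
alias Lrot124 := rot124
alias Lrot125 := rot125
alias Lrot126 := rot126
alias Lrot127 := rot127
alias Lrot128 := rot128
alias Lrot129 := rot129
alias Lrot130 := rot130
alias Lrot131 := rot131
alias Lrot132 := rot132
alias Lrot134 := rot134
alias Lrot135 := rot135
alias Lrot136 := rot136
alias Lrot137 := rot137
alias Lrot138 := rot138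
alias Lrot139 := rot139
alias Lrot141 := rot141
alias Lrot142 := rot142
alias Lrot143 := rot143
alias Lrot144 := rot144
alias Lrot145 := rot145
alias Lrot147 := rot147
alias Lrot148 := rot148
alias Lrot149 := rot149
alias Lrot150 := rot150
alias Lrot151 := rot151
alias Lrot152 := rot152
alias Lrot153 := rot153
alias Lrot155 := rot155
alias Lrot156 := rot156
alias Lrot157 := rot157
alias Lrot158 := rot158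
alias Lrot159 := rot159
alias Lrot160 := rot160
alias Lrot161 := rot161
alias Lrot162 := rot162
alias Lrot163 := rot163
alias Lrot164 := rot164
alias Lrot165 := rot165
alias Lrot166 := rot166
alias Lrot167 := rot167
alias Lrot168 := rot168
alias Lrot169 := rot169
alias Lrot170 := rot170
alias Lrot171 := rot171
alias Lrot172 := rot172
alias Lrot173 := rot173
alias Lrot174 := rot174
alias Lrot175 := rot175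
alias Lrot176 := rot176
alias Lrot179 := rot179
alias Lrot181 := rot181
alias Lrot182 := rot182
alias Lrot183 := rot183
alias Lrot185 := rot185
alias Lrot189 := rot189

section
variable (IH : IHT)
include IH

theorem f106401 : Led Lsl_bt (LP (LK LD1_c7 LD2_c12 LD3_c50)) = (LP (LK LD1_c13 LD2_c39 LD3_c16)) :=
  Lre_b IH (LK LD1_c7 LD2_c12 LD3_c50) (LK LD1_c13 LD2_c39 LD3_c16) Lrfl Lrfl
theorem f815403 : Led Lsl_af (LP (LK LD1_c13 LD2_c37 LD3_c29)) = (LP (LK LD1_c13 LD2_c39 LD3_c16)) :=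
  Lgr Lrot36 (Lpr_bt (K63.f658131 IH) (Lpr_at (K63.f792166 IH) (Lpr_bt (K63.f815402 IH) (Lpe (K63.f794146 IH) (Lpr_bt (f106401 IH) (Lpn (LP (LK LD1_c13 LD2_c39 LD3_c16))))))))
theorem f106402 : Led Lsl_ct (LP (LK LD1_c22 LD2_c12 LD3_c9)) = (LP (LK LD1_c13 LD2_c39 LD3_c16)) :=
  Lgr Lrot59 (Lpr_cf (K60.f106399 IH) (Lpn (LP (LK LD1_c13 LD2_c39 LD3_c16))))
theorem f815405 : Led Lsl_at (LP (LK LD1_c13 LD2_c14 LD3_c50)) = (LP (LK LD1_c22 LD2_c12 LD3_c9)) :=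
  Lgr Lrot107 (Lpe (K47.f658128 IH) (Lpr_af (f815403 IH) (Lpe (f106402 IH) (Lpn (LP (LK LD1_c22 LD2_c12 LD3_c9))))))
theorem f815407 : Led Lsl_af (LP (LK LD1_c13 LD2_c14 LD3_c50)) = (LP (LK LD1_c22 LD2_c12 LD3_c9)) :=
  Lgr Lrot0 (Lpr_at (f815405 IH) (Lpn (LP (LK LD1_c22 LD2_c12 LD3_c9))))
theorem f106655 : Led Lsl_gt (LP (LK LD1_c13 LD2_c34 LD3_c61)) = (LP (LK LD1_c7 LD2_c10 LD3_c22)) :=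
  Lre_g IH (LK LD1_c13 LD2_c34 LD3_c61) (LK LD1_c7 LD2_c10 LD3_c22) Lrfl Lrfl
theorem f815409 : Led Lsl_ft (LP (LK LD1_c13 LD2_c34 LD3_c61)) = (LP (LK LD1_c22 LD2_c12 LD3_c9)) :=
  Lgr Lrot2 (Lpr_gt (f106655 IH) (Lpe (K63.f115106 IH) (Lpr_af (f815407 IH) (Lpn (LP (LK LD1_c22 LD2_c12 LD3_c9))))))
theorem f815413 : Led Lsl_ff (LP (LK LD1_c13 LD2_c34 LD3_c61)) = (LP (LK LD1_c22 LD2_c12 LD3_c9)) :=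
  Lgr Lrot3 (Lpr_ft (f815409 IH) (Lpn (LP (LK LD1_c22 LD2_c12 LD3_c9))))
theorem f106613 : Led Lsl_bt (LP (LK LD1_c13 LD2_c34 LD3_c39)) = (LP (LK LD1_c7 LD2_c10 LD3_c9)) :=
  Lre_b IH (LK LD1_c13 LD2_c34 LD3_c39) (LK LD1_c7 LD2_c10 LD3_c9) Lrfl Lrfl
theorem f106656 : Led Lsl_cf (LP (LK LD1_c13 LD2_c34 LD3_c61)) = (LP (LK LD1_c13 LD2_c34 LD3_c39)) :=
  Lgr Lrot160 (Lpr_gt (f106655 IH) (Lpe (K63.f106654 IH) (Lpr_bt (K61.f106650 IH) (Lpr_gt (K3.f106646 IH) (Lpr_ct (K3.f106492 IH) (Lpr_gt (K3.f106474 IH) (Lpe (K3.f106437 IH) (Lpr_bt (K61.f106611 IH) (Lpr_gt (K63.f106612 IH) (Lpe (f106613 IH) (Lpn (LP (LK LD1_c13 LD2_c34 LD3_c39)))))))))))))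
theorem f441747 : Led Lsl_ct (LP (LK LD1_c13 LD2_c34 LD3_c61)) = (LP (LK LD1_c13 LD2_c34 LD3_c39)) :=
  Lgr Lrot59 (Lpr_cf (f106656 IH) (Lpn (LP (LK LD1_c13 LD2_c34 LD3_c39))))
theorem f815415 : Led Lsl_ft (LP (LK LD1_c13 LD2_c34 LD3_c39)) = (LP (LK LD1_c13 LD2_c39 LD3_c16)) :=
  Lgr Lrot4 (Lpe (f441747 IH) (Lpr_ff (f815413 IH) (Lpr_cf (K60.f106399 IH) (Lpn (LP (LK LD1_c13 LD2_c39 LD3_c16))))))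
theorem f441746 : Led Lsl_bt (LP (LK LD1_c7 LD2_c10 LD3_c9)) = (LP (LK LD1_c13 LD2_c34 LD3_c39)) :=
  Lre_b IH (LK LD1_c7 LD2_c10 LD3_c9) (LK LD1_c13 LD2_c34 LD3_c39) Lrfl Lrfl
theorem f791474 : Led Lsl_ff (LP (LK LD1_c7 LD2_c10 LD3_c9)) = K63.v20986 :=
  Lgr Lrot3 (Lpr_ft (K63.f791472 IH) (Lpn K63.v20986))
theorem f815417 : K63.v20986 = (LP (LK LD1_c7 LD2_c12 LD3_c50)) :=
  (Llr Lrot25 (Lpe (f791474 IH) (Lpr_bt (f441746 IH) (Lpr_ft (f815415 IH) (Lpr_bt (K60.f105768 IH) (Lpn (LP (LK LD1_c7 LD2_c12 LD3_c50)))))))).symm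
theorem f815418 : (LP (LK LD1_c7 LD2_c10 LD3_c10)) = K63.v21169 :=
  Lefun (Lecon (Lfl_af (K63.f791473 IH)) (f815417 IH)) (K63.f794145 IH)
def v20988 : LQ := Led Lsl_ct (LP (LK LD1_c7 LD2_c10 LD3_c10))
theorem f791478 : Led Lsl_ct (LP (LK LD1_c7 LD2_c10 LD3_c10)) = v20988 :=
  Lrfl
theorem f791479 : Led Lsl_cf (LP (LK LD1_c7 LD2_c10 LD3_c10)) = v20988 :=
  Lgr Lrot11 (Lpr_ct (f791478 IH) (Lpn v20988))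
theorem f676133 : Led Lsl_ct (LP (LK LD1_c7 LD2_c12 LD3_c51)) = K63.v9479 :=
  Lgr Lrot59 (Lpr_cf (K63.f676132 IH) (Lpn K63.v9479))
theorem f815430 : Led Lsl_ff v20988 = K63.v9479 :=
  Lgr Lrot23 (Lpe (f791479 IH) (Lpqs (f815418 IH) (Lpe (K63.f794149 IH) (Lpr_ct (f676133 IH) (Lpn K63.v9479)))))
def v7654 : LQ := Led Lsl_gf (LP (LK LD1_c3 LD2_c53 LD3_c50))
theorem f667482 : Led Lsl_gf (LP (LK LD1_c3 LD2_c53 LD3_c50)) = v7654 :=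
  Lrfl
theorem f667483 : Led Lsl_gt K61.v2314 = v7654 :=
  Lgr Lrot5 (Lpe (K61.f514582 IH) (Lpr_at (K61.f514583 IH) (Lpr_gf (f667482 IH) (Lpn v7654))))
theorem f791480 : Led Lsl_bf v7654 = v20988 :=
  Lgr Lrot34 (Lpe (f667483 IH) (Lpe (K61.f514578 IH) (Lpr_ct (K3.f11129 IH) (Lpe (K2.f87588 IH) (Lpe (K3.f85342 IH) (Lpr_gf (K3.f106658 IH) (Lpe (K4.f106668 IH) (Lpr_ct (K4.f106671 IH) (Lpe (K61.f106606 IH) (Lpr_cf (f791479 IH) (Lpn v20988)))))))))))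
theorem f815434 : v7654 = K63.v7648 :=
  (Llr Lrot35 (Lpr_bf (f791480 IH) (Lpr_ff (f815430 IH) (Lpe (K63.f676130 IH) (Lpr_ff (K63.f667463 IH) (Lpn K63.v7648)))))).symm
theorem f815435 : K63.v7652 = K61.v7653 :=
  (Llr Lrot26 (Lpe (K63.f667477 IH) (Lpr_ff (K63.f667463 IH) (Lpq (f815434 IH) (Lpe (f667482 IH) (Lpr_gt (K61.f667478 IH) (Lpn K61.v7653))))))).symm
theorem f672758 : Led Lsl_ct K61.v7653 = K61.v8918 :=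
  Lgr Lrot59 (Lpr_cf (K61.f672757 IH) (Lpn K61.v8918))
theorem f815436 : Led Lsl_ff K63.v7649 = K61.v8918 :=
  Lgr Lrot23 (Lpe (K63.f667465 IH) (Lpr_ft (K63.f667474 IH) (Lpqs (f815435 IH) (Lpr_ct (f672758 IH) (Lpn K61.v8918)))))
theorem f815438 : K63.v11200 = K61.v2287 :=
  (Llr Lrot75 (Lpe (K63.f683439 IH) (Lpr_bf (K63.f667467 IH) (Lpr_ff (f815436 IH) (Lpe (K61.f672755 IH) (Lpn K61.v2287)))))).symm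
theorem f815439 : K63.v3643 = K63.v6737 :=
  Lefun (Lecon (Lfl_af (K63.f683440 IH)) (f815438 IH)) (K63.f658145 IH)
theorem f683444 : Led Lsl_bf K63.v3643 = K63.v11201 :=
  Lgr Lrot24 (Lpr_bt (K63.f683443 IH) (Lpn K63.v11201))
theorem f815444 : Led Lsl_ff K63.v11201 = K47.v6734 :=
  Lgr Lrot25 (Lpe (f683444 IH) (Lpqs (f815439 IH) (Lpe (K63.f658144 IH) (Lpr_bt (K47.f658123 IH) (Lpn K47.v6734)))))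
theorem f815448 : Led Lsl_ft K63.v11201 = K47.v6734 :=
  Lgr Lrot48 (Lpr_ff (f815444 IH) (Lpn K47.v6734))
def v21097 : LQ := Led Lsl_ft (LP (LK LD1_c7 LD2_c11 LD3_c31))
theorem f792175 : Led Lsl_ft (LP (LK LD1_c7 LD2_c11 LD3_c31)) = v21097 :=
  Lrfl
theorem f815449 : Led Lsl_cf K63.v11201 = v21097 :=
  Lgr Lrot108 (Lpr_ft (f815448 IH) (Lpe (K47.f658126 IH) (Lpr_ft (f792175 IH) (Lpn v21097))))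
theorem f792177 : Led Lsl_ff (LP (LK LD1_c7 LD2_c11 LD3_c31)) = v21097 :=
  Lgr Lrot3 (Lpr_ft (f792175 IH) (Lpn v21097))
theorem f792178 : Led Lsl_at (LP (LK LD1_c7 LD2_c11 LD3_c32)) = v21097 :=
  Lgr Lrot66 (Lpr_ff (K63.f792169 IH) (Lpe (K63.f792166 IH) (Lpr_ff (f792177 IH) (Lpn v21097))))
theorem f815452 : Led Lsl_at K63.v11201 = K63.v21099 :=
  Lgr Lrot107 (Lpr_cf (f815449 IH) (Lpe (f792178 IH) (Lpr_cf (K63.f792182 IH) (Lpn K63.v21099))))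
theorem f815450 : Led Lsl_af K61.v21021 = K47.v6734 :=
  Lgr Lrot31 (Lpe (K61.f791645 IH) (Lpr_gf (K63.f683448 IH) (Lpr_ft (f815448 IH) (Lpn K47.v6734))))
theorem f815451 : Led Lsl_at K61.v21021 = K47.v6734 :=
  Lgr Lrot100 (Lpr_af (f815450 IH) (Lpn K47.v6734))
theorem f815455 : Led Lsl_ff K61.v21021 = K63.v21099 :=
  Lgr Lrot30 (Lpr_at (f815451 IH) (Lpe (f815444 IH) (Lpr_at (f815452 IH) (Lpn K63.v21099))))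
theorem f815496 : Led Lsl_gt K61.v8862 = K47.v6734 :=
  Lgr Lrot46 (Lpr_gf (K63.f815495 IH) (Lpe (f815455 IH) (Lpr_at (f815451 IH) (Lpn K47.v6734))))
theorem f107921 : Led Lsl_gt (LP (LK LD1_c7 LD2_c5 LD3_c58)) = (LP (LK LD1_c13 LD2_c27 LD3_c17)) :=
  Lre_g IH (LK LD1_c7 LD2_c5 LD3_c58) (LK LD1_c13 LD2_c27 LD3_c17) Lrfl Lrfl
theorem f441761 : Led Lsl_gt (LP (LK LD1_c13 LD2_c27 LD3_c17)) = (LP (LK LD1_c7 LD2_c6 LD3_c57)) :=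
  Lgr Lrot46 (Lpe (f107921 IH) (Lpr_ft (K61.f441757 IH) (Lpr_at (K61.f10696 IH) (Lpn (LP (LK LD1_c7 LD2_c6 LD3_c57))))))
theorem f107929 : Led Lsl_ct (LP (LK LD1_c22 LD2_c46 LD3_c55)) = (LP (LK LD1_c13 LD2_c27 LD3_c17)) :=
  Lre_c IH (LK LD1_c22 LD2_c46 LD3_c55) (LK LD1_c13 LD2_c27 LD3_c17) Lrfl Lrfl
theorem f106661 : Led Lsl_bt (LP (LK LD1_c7 LD2_c5 LD3_c58)) = (LP (LK LD1_c3 LD2_c32 LD3_c29)) :=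
  Lre_b IH (LK LD1_c7 LD2_c5 LD3_c58) (LK LD1_c3 LD2_c32 LD3_c29) Lrfl Lrfl
theorem f106660 : Led Lsl_gt (LP (LK LD1_c22 LD2_c57 LD3_c61)) = (LP (LK LD1_c13 LD2_c34 LD3_c39)) :=
  Lre_g IH (LK LD1_c22 LD2_c57 LD3_c61) (LK LD1_c13 LD2_c34 LD3_c39) Lrfl Lrfl
theorem f441763 : Led Lsl_bt (LP (LK LD1_c22 LD2_c46 LD3_c55)) = (LP (LK LD1_c22 LD2_c57 LD3_c61)) :=
  Lgr Lrot130 (Lpr_ct (f107929 IH) (Lpe (f107921 IH) (Lpr_cf (K61.f441759 IH) (Lpr_bt (f106661 IH) (Lpe (K3.f106646 IH) (Lpe (K61.f106650 IH) (Lpr_ct (K63.f106654 IH) (Lpe (f106655 IH) (Lpr_cf (f106656 IH) (Lpe (f106660 IH) (Lpn (LP (LK LD1_c22 LD2_c57 LD3_c61)))))))))))))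
theorem f658130 : Led Lsl_ct (LP (LK LD1_c7 LD2_c11 LD3_c31)) = K47.v6734 :=
  Lgr Lrot59 (Lpr_cf (K47.f658126 IH) (Lpn K47.v6734))
theorem f815497 : Led Lsl_gf (LP (LK LD1_c22 LD2_c57 LD3_c61)) = (LP (LK LD1_c13 LD2_c37 LD3_c29)) :=
  Lgr Lrot124 (Lpe (f441763 IH) (Lpr_ct (f107929 IH) (Lpr_gt (f441761 IH) (Lpe (K61.f10698 IH) (Lpr_bt (K61.f10726 IH) (Lpr_gt (K61.f659543 IH) (Lpr_ct (K61.f672547 IH) (Lpr_gt (f815496 IH) (Lpe (f658130 IH) (Lpr_bt (K47.f658127 IH) (Lpn (LP (LK LD1_c13 LD2_c37 LD3_c29)))))))))))))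
theorem f815498 : Led Lsl_gt (LP (LK LD1_c13 LD2_c37 LD3_c29)) = (LP (LK LD1_c22 LD2_c57 LD3_c61)) :=
  Leop (Lpr_gf (f815497 IH) (Lpn (LP (LK LD1_c13 LD2_c37 LD3_c29))))
theorem seed_1815 : LEOK LG_g (LK LD1_c13 LD2_c37 LD3_c29) :=
  Leoe_g (LK LD1_c13 LD2_c37 LD3_c29) (f815498 IH)
theorem f86894 : Led Lsl_ct (LP (LK LD1_c13 LD2_c39 LD3_c17)) = (LP (LK LD1_c7 LD2_c12 LD3_c50)) :=
  Lre_c IH (LK LD1_c13 LD2_c39 LD3_c17) (LK LD1_c7 LD2_c12 LD3_c50) Lrfl Lrfl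
def v20983 : LQ := Led Lsl_ct (LP (LK LD1_c7 LD2_c10 LD3_c9))
theorem f791465 : Led Lsl_ct (LP (LK LD1_c7 LD2_c10 LD3_c9)) = v20983 :=
  Lrfl
theorem f815516 : Led Lsl_ff (LP (LK LD1_c13 LD2_c39 LD3_c17)) = v20983 :=
  Lgr Lrot23 (Lpr_ct (f86894 IH) (Lpq (f815417 IH) (Lpe (f791474 IH) (Lpr_ct (f791465 IH) (Lpn v20983)))))
theorem f815522 : Led Lsl_ft (LP (LK LD1_c13 LD2_c39 LD3_c17)) = v20983 :=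
  Lgr Lrot48 (Lpr_ff (f815516 IH) (Lpn v20983))
def v21171 : LQ := Led Lsl_ft (LP (LK LD1_c7 LD2_c12 LD3_c50))
theorem f794152 : Led Lsl_ft (LP (LK LD1_c7 LD2_c12 LD3_c50)) = v21171 :=
  Lrfl
theorem f794154 : Led Lsl_ff (LP (LK LD1_c7 LD2_c12 LD3_c50)) = v21171 :=
  Lgr Lrot3 (Lpr_ft (f794152 IH) (Lpn v21171))
theorem f794155 : Led Lsl_at (LP (LK LD1_c7 LD2_c12 LD3_c51)) = v21171 :=
  Lgr Lrot66 (Lpr_ff (K63.f794149 IH) (Lpe (K63.f794145 IH) (Lpr_ff (f794154 IH) (Lpn v21171))))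
theorem f815421 : (LP (LK LD1_c7 LD2_c10 LD3_c9)) = v21171 :=
  Lefun (Lecon (Lfl_ff (f791474 IH)) (f815417 IH)) (f794152 IH)
theorem f815514 : Led Lsl_af K63.v9479 = v20983 :=
  Lgr Lrot68 (Lpe (K63.f676132 IH) (Lpr_at (f794155 IH) (Lpq (f815421 IH) (Lpr_ct (f791465 IH) (Lpn v20983)))))
theorem f815523 : Led Lsl_af (LP (LK LD1_c13 LD2_c39 LD3_c17)) = v20988 :=
  Lgr Lrot45 (Lpr_ft (f815522 IH) (Lpe (f815514 IH) (Lpe (f815430 IH) (Lpn v20988))))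
theorem f791481 : Led Lsl_bt v7654 = v20988 :=
  Lgr Lrot127 (Lpr_bf (f791480 IH) (Lpn v20988))
theorem f85610 : Led Lsl_bt (LP (LK LD1_c7 LD2_c49 LD3_c12)) = (LP (LK LD1_c3 LD2_c53 LD3_c49)) :=
  Lre_b IH (LK LD1_c7 LD2_c49 LD3_c12) (LK LD1_c3 LD2_c53 LD3_c49) Lrfl Lrfl
theorem f667459 : Led Lsl_at (LP (LK LD1_c14 LD2_c45 LD3_c17)) = (LP (LK LD1_c7 LD2_c49 LD3_c12)) :=
  Lre_a IH (LK LD1_c14 LD2_c45 LD3_c17) (LK LD1_c7 LD2_c49 LD3_c12) Lrfl Lrfl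
theorem f815524 : Led Lsl_bt (LP (LK LD1_c13 LD2_c39 LD3_c17)) = (LP (LK LD1_c14 LD2_c45 LD3_c17)) :=
  Lgr Lrot62 (Lpr_af (f815523 IH) (Lpe (f791481 IH) (Lpqs (f815434 IH) (Lpe (K63.f667457 IH) (Lpe (f85610 IH) (Lpe (f667459 IH) (Lpn (LP (LK LD1_c14 LD2_c45 LD3_c17)))))))))
theorem f815525 : Led Lsl_bt (LP (LK LD1_c13 LD2_c39 LD3_c17)) = (LP (LK LD1_c14 LD2_c45 LD3_c17)) :=
  Leop (Lpe (f815524 IH) (Lpn (LP (LK LD1_c13 LD2_c39 LD3_c17))))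
theorem seed_1816 : LEOK LG_b (LK LD1_c13 LD2_c39 LD3_c17) :=
  Leoe_b (LK LD1_c13 LD2_c39 LD3_c17) (f815525 IH)
def v23222 : LQ := Led Lsl_ct (LP (LK LD1_c7 LD2_c49 LD3_c12))
theorem f815665 : Led Lsl_ct (LP (LK LD1_c7 LD2_c49 LD3_c12)) = v23222 :=
  Lrfl
theorem f815667 : Led Lsl_cf (LP (LK LD1_c7 LD2_c49 LD3_c12)) = v23222 :=
  Lgr Lrot11 (Lpr_ct (f815665 IH) (Lpn v23222))
theorem f815671 : Led Lsl_bt K61.v11197 = v23222 :=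
  Lgr Lrot128 (Lpe (K61.f683431 IH) (Lpr_bf (K63.f667467 IH) (Lpe (K63.f667464 IH) (Lpe (f85610 IH) (Lpr_cf (f815667 IH) (Lpn v23222))))))
theorem f683432 : Led Lsl_cf K61.v3642 = K61.v11197 :=
  Lgr Lrot11 (Lpr_ct (K61.f683431 IH) (Lpn K61.v11197))
theorem f626551 : Led Lsl_gf (LP (LK LD1_c3 LD2_c28 LD3_c14)) = K61.v3642 :=
  Lgr Lrot76 (Lpe (K29.f9857 IH) (Lpr_ff (K29.f490828 IH) (Lpr_gt (K61.f626550 IH) (Lpn K61.v3642))))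
theorem f18122 : Led Lsl_gt (LP (LK LD1_c13 LD2_c26 LD3_c8)) = (LP (LK LD1_c7 LD2_c5 LD3_c16)) :=
  Lre_g IH (LK LD1_c13 LD2_c26 LD3_c8) (LK LD1_c7 LD2_c5 LD3_c16) Lrfl Lrfl
theorem f18123 : Led Lsl_ct (LP (LK LD1_c22 LD2_c45 LD3_c35)) = (LP (LK LD1_c13 LD2_c26 LD3_c8)) :=
  Lre_c IH (LK LD1_c22 LD2_c45 LD3_c35) (LK LD1_c13 LD2_c26 LD3_c8) Lrfl Lrfl
theorem f440585 : Led Lsl_bt (LP (LK LD1_c22 LD2_c45 LD3_c35)) = (LP (LK LD1_c14 LD2_c2 LD3_c35)) :=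
  Lgr Lrot92 (Lpr_ct (f18123 IH) (Lpr_gt (f18122 IH) (Lpr_cf (K61.f18113 IH) (Lpr_bt (K61.f18110 IH) (Lpr_gt (K3.f19194 IH) (Lpr_ct (K47.f106268 IH) (Lpr_gt (K11.f120864 IH) (Lpe (K5.f120866 IH) (Lpr_bt (K5.f120881 IH) (Lpr_gt (K60.f124997 IH) (Lpn (LP (LK LD1_c14 LD2_c2 LD3_c35)))))))))))))
theorem f86860 : Led Lsl_gt (LP (LK LD1_c13 LD2_c28 LD3_c54)) = (LP (LK LD1_c7 LD2_c6 LD3_c52)) :=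
  Lre_g IH (LK LD1_c13 LD2_c28 LD3_c54) (LK LD1_c7 LD2_c6 LD3_c52) Lrfl Lrfl
theorem f429521 : Led Lsl_gf (LP (LK LD1_c13 LD2_c28 LD3_c54)) = (LP (LK LD1_c7 LD2_c10 LD3_c21)) :=
  Lgr Lrot47 (Lpr_gt (f86860 IH) (Lpe (K60.f106393 IH) (Lpr_ff (K63.f429514 IH) (Lpn (LP (LK LD1_c7 LD2_c10 LD3_c21))))))
theorem f106356 : Led Lsl_bt (LP (LK LD1_c6 LD2_c51 LD3_c24)) = (LP (LK LD1_c13 LD2_c2 LD3_c34)) :=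
  Lre_b IH (LK LD1_c6 LD2_c51 LD3_c24) (LK LD1_c13 LD2_c2 LD3_c34) Lrfl Lrfl
theorem f106357 : Led Lsl_ct (LP (LK LD1_c13 LD2_c2 LD3_c34)) = (LP (LK LD1_c7 LD2_c6 LD3_c52)) :=
  Lgr Lrot83 (Lpe (f106356 IH) (Lpr_cf (K4.f106345 IH) (Lpe (K3.f86840 IH) (Lpr_cf (K4.f86720 IH) (Lpe (K60.f10722 IH) (Lpn (LP (LK LD1_c7 LD2_c6 LD3_c52))))))))
theorem f18120 : Led Lsl_gt (LP (LK LD1_c7 LD2_c5 LD3_c16)) = (LP (LK LD1_c13 LD2_c26 LD3_c7)) :=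
  Lre_g IH (LK LD1_c7 LD2_c5 LD3_c16) (LK LD1_c13 LD2_c26 LD3_c7) Lrfl Lrfl
theorem f19302 : Led Lsl_bt (LP (LK LD1_c22 LD2_c45 LD3_c32)) = (LP (LK LD1_c13 LD2_c26 LD3_c7)) :=
  Lre_b IH (LK LD1_c22 LD2_c45 LD3_c32) (LK LD1_c13 LD2_c26 LD3_c7) Lrfl Lrfl
theorem f106416 : Led Lsl_ct (LP (LK LD1_c22 LD2_c45 LD3_c32)) = (LP (LK LD1_c13 LD2_c28 LD3_c54)) :=
  Lgr Lrot64 (Lpr_bt (f19302 IH) (Lpe (f18120 IH) (Lpe (K61.f18112 IH) (Lpr_ct (K61.f18109 IH) (Lpr_gf (K3.f92249 IH) (Lpe (K5.f92253 IH) (Lpe (K4.f92256 IH) (Lpe (K60.f92261 IH) (Lpr_ct (f106357 IH) (Lpe (f86860 IH) (Lpn (LP (LK LD1_c13 LD2_c28 LD3_c54)))))))))))))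
theorem f19206 : Led Lsl_ft (LP (LK LD1_c7 LD2_c5 LD3_c16)) = (LP (LK LD1_c6 LD2_c52 LD3_c59)) :=
  Lgr Lrot75 (Lpe (K61.f18112 IH) (Lpr_ff (K3.f19192 IH) (Lpe (K29.f9835 IH) (Lpn (LP (LK LD1_c6 LD2_c52 LD3_c59))))))
theorem f19300 : Led Lsl_gt (LP (LK LD1_c13 LD2_c26 LD3_c7)) = (LP (LK LD1_c13 LD2_c5 LD3_c8)) :=
  Lgr Lrot46 (Lpe (f18120 IH) (Lpr_ft (f19206 IH) (Lpr_at (K29.f9840 IH) (Lpn (LP (LK LD1_c13 LD2_c5 LD3_c8))))))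
theorem f440593 : Led Lsl_gf (LP (LK LD1_c13 LD2_c26 LD3_c8)) = (LP (LK LD1_c13 LD2_c5 LD3_c8)) :=
  Lgr Lrot129 (Lpe (f18123 IH) (Lpr_bt (f440585 IH) (Lpe (K60.f124998 IH) (Lpr_bf (K63.f429526 IH) (Lpr_ct (K63.f121620 IH) (Lpe (f429521 IH) (Lpe (f106416 IH) (Lpr_bt (f19302 IH) (Lpr_gt (f19300 IH) (Lpe (K29.f9841 IH) (Lpn (LP (LK LD1_c13 LD2_c5 LD3_c8)))))))))))))
theorem f440589 : Led Lsl_ct (LP (LK LD1_c13 LD2_c26 LD3_c8)) = (LP (LK LD1_c22 LD2_c45 LD3_c35)) :=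
  Lre_c IH (LK LD1_c13 LD2_c26 LD3_c8) (LK LD1_c22 LD2_c45 LD3_c35) Lrfl Lrfl
theorem f626267 : Led Lsl_cf K61.v929 = K61.v3560 :=
  Lgr Lrot11 (Lpr_ct (K61.f626266 IH) (Lpn K61.v3560))
def v10949 : LQ := Led Lsl_bt K61.v3560
theorem f682642 : Led Lsl_bt K61.v3560 = v10949 :=
  Lrfl
theorem f85606 : Led Lsl_bt (LP (LK LD1_c3 LD2_c53 LD3_c46)) = (LP (LK LD1_c1 LD2_c53 LD3_c31)) :=
  Lre_b IH (LK LD1_c3 LD2_c53 LD3_c46) (LK LD1_c1 LD2_c53 LD3_c31) Lrfl Lrfl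
theorem f85645 : Led Lsl_bt (LP (LK LD1_c7 LD2_c5 LD3_c20)) = (LP (LK LD1_c3 LD2_c31 LD3_c57)) :=
  Lre_b IH (LK LD1_c7 LD2_c5 LD3_c20) (LK LD1_c3 LD2_c31 LD3_c57) Lrfl Lrfl
theorem f85646 : Led Lsl_bt (LP (LK LD1_c1 LD2_c53 LD3_c31)) = (LP (LK LD1_c3 LD2_c53 LD3_c46)) :=
  Lre_b IH (LK LD1_c1 LD2_c53 LD3_c31) (LK LD1_c3 LD2_c53 LD3_c46) Lrfl Lrfl
theorem f85647 : Led Lsl_cf (LP (LK LD1_c7 LD2_c5 LD3_c20)) = (LP (LK LD1_c3 LD2_c53 LD3_c46)) :=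
  Lgr Lrot97 (Lpr_bt (f85645 IH) (Lpr_ct (K5.f19334 IH) (Lpr_bt (K5.f85644 IH) (Lpr_ct (K3.f85642 IH) (Lpr_bt (f85646 IH) (Lpn (LP (LK LD1_c3 LD2_c53 LD3_c46))))))))
theorem f19337 : Led Lsl_gt (LP (LK LD1_c13 LD2_c26 LD3_c16)) = (LP (LK LD1_c7 LD2_c5 LD3_c20)) :=
  Lre_g IH (LK LD1_c13 LD2_c26 LD3_c16) (LK LD1_c7 LD2_c5 LD3_c20) Lrfl Lrfl
theorem f85308 : Led Lsl_bt (LP (LK LD1_c1 LD2_c41 LD3_c8)) = (LP (LK LD1_c3 LD2_c28 LD3_c49)) :=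
  Lre_b IH (LK LD1_c1 LD2_c41 LD3_c8) (LK LD1_c3 LD2_c28 LD3_c49) Lrfl Lrfl
theorem f85607 : Led Lsl_gt (LP (LK LD1_c3 LD2_c28 LD3_c49)) = (LP (LK LD1_c6 LD2_c59 LD3_c15)) :=
  Lre_g IH (LK LD1_c3 LD2_c28 LD3_c49) (LK LD1_c6 LD2_c59 LD3_c15) Lrfl Lrfl
theorem f85545 : Led Lsl_bt (LP (LK LD1_c13 LD2_c15 LD3_c32)) = (LP (LK LD1_c6 LD2_c59 LD3_c15)) :=
  Lre_b IH (LK LD1_c13 LD2_c15 LD3_c32) (LK LD1_c6 LD2_c59 LD3_c15) Lrfl Lrfl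
theorem f86670 : Led Lsl_cf (LP (LK LD1_c13 LD2_c26 LD3_c16)) = (LP (LK LD1_c13 LD2_c15 LD3_c32)) :=
  Lgr Lrot160 (Lpr_gt (f19337 IH) (Lpr_cf (f85647 IH) (Lpr_bt (f85606 IH) (Lpr_gt (K4.f12727 IH) (Lpr_ct (K4.f12722 IH) (Lpr_gt (K3.f85286 IH) (Lpe (K11.f85291 IH) (Lpr_bt (f85308 IH) (Lpr_gt (f85607 IH) (Lpe (f85545 IH) (Lpn (LP (LK LD1_c13 LD2_c15 LD3_c32)))))))))))))
theorem f682644 : Led Lsl_gf (LP (LK LD1_c13 LD2_c15 LD3_c32)) = v10949 :=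
  Lgr Lrot181 (Lpe (f86670 IH) (Lpr_gt (f19337 IH) (Lpr_cf (f85647 IH) (Lpr_bt (f85606 IH) (Lpr_gt (K4.f12727 IH) (Lpe (K61.f86669 IH) (Lpr_ct (K61.f11900 IH) (Lpr_gt (K61.f490566 IH) (Lpr_cf (f626267 IH) (Lpr_bt (f682642 IH) (Lpn v10949)))))))))))
theorem f86673 : Led Lsl_bt (LP (LK LD1_c6 LD2_c59 LD3_c15)) = (LP (LK LD1_c13 LD2_c15 LD3_c32)) :=
  Lre_b IH (LK LD1_c6 LD2_c59 LD3_c15) (LK LD1_c13 LD2_c15 LD3_c32) Lrfl Lrfl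
theorem f85611 : Led Lsl_ct (LP (LK LD1_c6 LD2_c59 LD3_c15)) = (LP (LK LD1_c13 LD2_c15 LD3_c33)) :=
  Lre_c IH (LK LD1_c6 LD2_c59 LD3_c15) (LK LD1_c13 LD2_c15 LD3_c33) Lrfl Lrfl
theorem f815668 : Led Lsl_gt (LP (LK LD1_c13 LD2_c15 LD3_c33)) = v23222 :=
  Lgr Lrot65 (Lpe (f85611 IH) (Lpr_bt (f86673 IH) (Lpr_gf (f682644 IH) (Lpe (f682642 IH) (Lpe (f626267 IH) (Lpe (K61.f490566 IH) (Lpe (K61.f11900 IH) (Lpe (K61.f11902 IH) (Lpe (f85610 IH) (Lpr_ct (f815665 IH) (Lpn v23222)))))))))))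
theorem f86674 : Led Lsl_bt (LP (LK LD1_c22 LD2_c30 LD3_c30)) = (LP (LK LD1_c13 LD2_c15 LD3_c33)) :=
  Lre_b IH (LK LD1_c22 LD2_c30 LD3_c30) (LK LD1_c13 LD2_c15 LD3_c33) Lrfl Lrfl
theorem f86677 : Led Lsl_ct (LP (LK LD1_c13 LD2_c26 LD3_c16)) = (LP (LK LD1_c13 LD2_c15 LD3_c32)) :=
  Lgr Lrot59 (Lpr_cf (f86670 IH) (Lpn (LP (LK LD1_c13 LD2_c15 LD3_c32))))
theorem f19338 : Led Lsl_bt (LP (LK LD1_c22 LD2_c45 LD3_c46)) = (LP (LK LD1_c13 LD2_c26 LD3_c16)) :=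
  Lre_b IH (LK LD1_c22 LD2_c45 LD3_c46) (LK LD1_c13 LD2_c26 LD3_c16) Lrfl Lrfl
theorem f85639 : Led Lsl_bt (LP (LK LD1_c13 LD2_c15 LD3_c33)) = (LP (LK LD1_c22 LD2_c30 LD3_c30)) :=
  Lre_b IH (LK LD1_c13 LD2_c15 LD3_c33) (LK LD1_c22 LD2_c30 LD3_c30) Lrfl Lrfl
theorem f86679 : Led Lsl_cf (LP (LK LD1_c22 LD2_c45 LD3_c46)) = (LP (LK LD1_c22 LD2_c30 LD3_c30)) :=
  Lgr Lrot97 (Lpr_bt (f19338 IH) (Lpr_ct (f86677 IH) (Lpr_bt (f85545 IH) (Lpr_ct (f85611 IH) (Lpr_bt (f85639 IH) (Lpn (LP (LK LD1_c22 LD2_c30 LD3_c30))))))))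
theorem f815674 : Led Lsl_gt (LP (LK LD1_c22 LD2_c45 LD3_c35)) = (LP (LK LD1_c22 LD2_c45 LD3_c46)) :=
  Lgr Lrot149 (Lpe (f440589 IH) (Lpr_gf (f440593 IH) (Lpe (K29.f9853 IH) (Lpr_ct (K29.f9852 IH) (Lpr_gf (f626551 IH) (Lpr_cf (f683432 IH) (Lpr_bt (f815671 IH) (Lpe (f815668 IH) (Lpe (f86674 IH) (Lpe (f86679 IH) (Lpn (LP (LK LD1_c22 LD2_c45 LD3_c46)))))))))))))
theorem f815675 : Led Lsl_gt (LP (LK LD1_c22 LD2_c45 LD3_c35)) = (LP (LK LD1_c22 LD2_c45 LD3_c46)) :=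
  Leop (Lpe (f815674 IH) (Lpn (LP (LK LD1_c22 LD2_c45 LD3_c35))))
theorem seed_1817 : LEOK LG_g (LK LD1_c22 LD2_c45 LD3_c35) :=
  Leoe_g (LK LD1_c22 LD2_c45 LD3_c35) (f815675 IH)
theorem f440598 : Led Lsl_bt (LP (LK LD1_c13 LD2_c26 LD3_c8)) = (LP (LK LD1_c22 LD2_c45 LD3_c34)) :=
  Lre_b IH (LK LD1_c13 LD2_c26 LD3_c8) (LK LD1_c22 LD2_c45 LD3_c34) Lrfl Lrfl
theorem f815532 : Led Lsl_cf (LP (LK LD1_c14 LD2_c45 LD3_c16)) = (LP (LK LD1_c13 LD2_c13 LD3_c42)) :=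
  Lgr Lrot11 (Lpr_ct (K63.f815390 IH) (Lpn (LP (LK LD1_c13 LD2_c13 LD3_c42))))
theorem f439771 : Led Lsl_bt (LP (LK LD1_c13 LD2_c13 LD3_c42)) = (LP (LK LD1_c22 LD2_c28 LD3_c11)) :=
  Lre_b IH (LK LD1_c13 LD2_c13 LD3_c42) (LK LD1_c22 LD2_c28 LD3_c11) Lrfl Lrfl
theorem f815676 : Led Lsl_gf (LP (LK LD1_c22 LD2_c45 LD3_c34)) = (LP (LK LD1_c22 LD2_c28 LD3_c11)) :=
  Lgr Lrot124 (Lpe (f440598 IH) (Lpr_ct (f440589 IH) (Lpr_gt (f815674 IH) (Lpr_cf (f86679 IH) (Lpr_bt (f86674 IH) (Lpr_gt (f815668 IH) (Lpe (f815667 IH) (Lpr_gt (K63.f667466 IH) (Lpr_cf (f815532 IH) (Lpr_bt (f439771 IH) (Lpn (LP (LK LD1_c22 LD2_c28 LD3_c11)))))))))))))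
theorem f815677 : Led Lsl_gt (LP (LK LD1_c22 LD2_c28 LD3_c11)) = (LP (LK LD1_c22 LD2_c45 LD3_c34)) :=
  Leop (Lpr_gf (f815676 IH) (Lpn (LP (LK LD1_c22 LD2_c28 LD3_c11))))
theorem seed_1818 : LEOK LG_g (LK LD1_c22 LD2_c28 LD3_c11) :=
  Leoe_g (LK LD1_c22 LD2_c28 LD3_c11) (f815677 IH)
def v11198 : LQ := Led Lsl_dt K61.v3642
theorem f683435 : Led Lsl_dt K61.v3642 = v11198 :=
  Lrfl
theorem f683436 : Led Lsl_df K61.v3642 = v11198 :=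
  Lgr Lrot38 (Lpr_dt (f683435 IH) (Lpn v11198))
def v6735 : LQ := Led Lsl_dt (LP (LK LD1_c3 LD2_c28 LD3_c13))
theorem f658138 : Led Lsl_dt (LP (LK LD1_c3 LD2_c28 LD3_c13)) = v6735 :=
  Lrfl
theorem f683441 : Led Lsl_ff K61.v3642 = K63.v11200 :=
  Lgr Lrot3 (Lpr_ft (K63.f683439 IH) (Lpn K63.v11200))
theorem f815440 : K61.v3642 = K61.v6733 :=
  Lefun (Lecon (Lfl_ff (f683441 IH)) (f815438 IH)) (K61.f658121 IH)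
def v11203 : LQ := Led Lsl_dt K63.v3643
theorem f683450 : Led Lsl_dt K63.v3643 = v11203 :=
  Lrfl
theorem f683451 : Led Lsl_df K63.v3643 = v11203 :=
  Lgr Lrot38 (Lpr_dt (f683450 IH) (Lpn v11203))
theorem f815445 : Led Lsl_ff v11203 = v6735 :=
  Lgr Lrot19 (Lpe (f683451 IH) (Lpqs (f815439 IH) (Lpe (K63.f658144 IH) (Lpr_dt (f658138 IH) (Lpn v6735)))))
theorem f815446 : Led Lsl_ft v11203 = v6735 :=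
  Lgr Lrot48 (Lpr_ff (f815445 IH) (Lpn v6735))
def v271 : LQ := Led Lsl_ct K47.v85
def v1126 : LQ := Led Lsl_bt v271
def v3927 : LQ := Led Lsl_gt v1126
def v11890 : LQ := Led Lsl_at v3927
theorem f686295 : Led Lsl_at v3927 = v11890 :=
  Lrfl
theorem f686296 : Led Lsl_af v3927 = v11890 :=
  Lgr Lrot0 (Lpr_at (f686295 IH) (Lpn v11890))
theorem f627936 : Led Lsl_gt v1126 = v3927 :=
  Lrfl
def v3928 : LQ := Led Lsl_gf v1126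
theorem f627938 : Led Lsl_gf v1126 = v3928 :=
  Lrfl
theorem f686297 : Led Lsl_ft v3928 = v11890 :=
  Lgr Lrot2 (Lpe (f627938 IH) (Lpr_gt (f627936 IH) (Lpr_af (f686296 IH) (Lpn v11890))))
def v6971 : LQ := Led Lsl_ft (LP (LK LD1_c3 LD2_c35 LD3_c16))
theorem f659728 : Led Lsl_ft (LP (LK LD1_c3 LD2_c35 LD3_c16)) = v6971 :=
  Lrfl
theorem f659731 : Led Lsl_ff (LP (LK LD1_c3 LD2_c35 LD3_c16)) = v6971 :=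
  Lgr Lrot3 (Lpr_ft (f659728 IH) (Lpn v6971))
theorem f659733 : Led Lsl_ct K61.v2403 = v6971 :=
  Lgr Lrot40 (Lpe (K61.f519517 IH) (Lpe (K61.f429604 IH) (Lpr_ff (f659731 IH) (Lpn v6971))))
def v9046 : LQ := Led Lsl_ct K61.v2401
theorem f673344 : Led Lsl_ct K61.v2401 = v9046 :=
  Lrfl
theorem f792110 : v6971 = v9046 :=
  Lefun (Lecon (f659733 IH) (K61.f792106 IH)) (f673344 IH)
def v21024 : LQ := Led Lsl_dt (LP (LK LD1_c7 LD2_c10 LD3_c36))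
theorem f791662 : Led Lsl_dt (LP (LK LD1_c7 LD2_c10 LD3_c36)) = v21024 :=
  Lrfl
def v6934 : LQ := Led Lsl_gf (LP (LK LD1_c3 LD2_c34 LD3_c45))
theorem f659548 : Led Lsl_gf (LP (LK LD1_c3 LD2_c34 LD3_c45)) = v6934 :=
  Lrfl
theorem f659549 : Led Lsl_gt (LP (LK LD1_c3 LD2_c34 LD3_c47)) = v6934 :=
  Lgr Lrot5 (Lpr_ft (K61.f519337 IH) (Lpr_at (K61.f519331 IH) (Lpr_gf (f659548 IH) (Lpn v6934))))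
theorem f791664 : Led Lsl_ct v6934 = v21024 :=
  Lgr Lrot151 (Lpe (f659549 IH) (Lpe (K61.f10981 IH) (Lpqs (K61.f787445 IH) (Lpe (K61.f673343 IH) (Lpe (K61.f519522 IH) (Lpr_gt (K47.f107804 IH) (Lpr_ct (K61.f11903 IH) (Lpr_gt (K47.f11904 IH) (Lpr_ct (K61.f107864 IH) (Lpr_dt (f791662 IH) (Lpn v21024)))))))))))
theorem f791665 : Led Lsl_cf v6934 = v21024 :=
  Lgr Lrot11 (Lpr_ct (f791664 IH) (Lpn v21024))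
theorem f791666 : Led Lsl_gt K47.v6734 = v21024 :=
  Lgr Lrot82 (Lpe (K47.f658123 IH) (Lpr_ct (K61.f429542 IH) (Lpr_gf (K61.f787432 IH) (Lpe (K61.f787442 IH) (Lpqs (K61.f787443 IH) (Lpe (K61.f659740 IH) (Lpq (K61.f787444 IH) (Lpe (K61.f519526 IH) (Lpr_bf (K61.f10728 IH) (Lpr_ct (K47.f10725 IH) (Lpr_gf (f659548 IH) (Lpr_cf (f791665 IH) (Lpn v21024)))))))))))))
theorem f815456 : Led Lsl_gt v21024 = K63.v21099 :=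
  Lgr Lrot46 (Lpe (f791666 IH) (Lpe (f815444 IH) (Lpr_at (f815452 IH) (Lpn K63.v21099))))
theorem f791663 : Led Lsl_df (LP (LK LD1_c7 LD2_c10 LD3_c36)) = v21024 :=
  Lgr Lrot38 (Lpr_dt (f791662 IH) (Lpn v21024))
theorem f791647 : Led Lsl_cf K61.v20987 = K61.v21021 :=
  Lgr Lrot11 (Lpr_ct (K61.f791646 IH) (Lpn K61.v21021))
theorem f673345 : Led Lsl_cf K61.v2401 = v9046 :=
  Lgr Lrot11 (Lpr_ct (f673344 IH) (Lpn v9046))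
theorem f815457 : Led Lsl_gt K61.v20987 = v9046 :=
  Lgr Lrot150 (Lpr_cf (f791647 IH) (Lpe (K61.f791645 IH) (Lpr_df (f791663 IH) (Lpr_gt (f815456 IH) (Lpe (K63.f792182 IH) (Lpr_gt (K47.f519490 IH) (Lpr_ct (K61.f429604 IH) (Lpr_df (K61.f519512 IH) (Lpr_cf (f673345 IH) (Lpn v9046))))))))))
theorem f815424 : K63.v21094 = K61.v20987 :=
  Lefun (Lecon (Lfl_bf (K63.f815399 IH)) (f815418 IH).symm) (K61.f791476 IH)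
theorem f815459 : Led Lsl_gf v21097 = v6971 :=
  Lgr Lrot76 (Lpe (f792178 IH) (Lpr_ff (K63.f792169 IH) (Lpqs (f815424 IH) (Lpr_gt (f815457 IH) (Lpq (f792110 IH) (Lpn v6971))))))
def v11896 : LQ := Led Lsl_bt v3928
theorem f686313 : Led Lsl_bt v3928 = v11896 :=
  Lrfl
theorem f686314 : Led Lsl_bf v3928 = v11896 :=
  Lgr Lrot24 (Lpr_bt (f686313 IH) (Lpn v11896))
theorem f491607 : Led Lsl_bt v271 = v1126 :=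
  Lrfl
theorem f451476 : Led Lsl_ct K47.v85 = v271 :=
  Lrfl
theorem f451477 : Led Lsl_cf K47.v85 = v271 :=
  Lgr Lrot11 (Lpr_ct (f451476 IH) (Lpn v271))
theorem f447628 : Led Lsl_gf (LP (LK LD1_c0 LD2_c10 LD3_c0)) = K47.v85 :=
  Lgr Lrot143 (Lpr_dt (K0.f9958 IH) (Lpe (K0.f9944 IH) (Lpr_df (K0.f9942 IH) (Lpe (K0.f5843 IH) (Lpe (K0.f9989 IH) (Lpe (K0.f4928 IH) (Lpe (K7.f9947 IH) (Lpr_gt (K7.f9996 IH) (Lpr_dt (K47.f447625 IH) (Lpn K47.v85))))))))))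
theorem f686315 : Led Lsl_cf K61.v10450 = v11896 :=
  Lgr Lrot163 (Lpe (K61.f680427 IH) (Lpe (K61.f625223 IH) (Lpe (K49.f456973 IH) (Lpe (K49.f10071 IH) (Lpr_ct (K0.f9982 IH) (Lpr_gf (f447628 IH) (Lpr_cf (f451477 IH) (Lpr_bt (f491607 IH) (Lpr_gf (f627938 IH) (Lpr_bf (f686314 IH) (Lpn v11896)))))))))))
theorem f686320 : Led Lsl_ct K61.v10450 = v11896 :=
  Lgr Lrot59 (Lpr_cf (f686315 IH) (Lpn v11896))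
theorem f815468 : Led Lsl_df K63.v11201 = v11896 :=
  Lgr Lrot162 (Lpr_cf (f815449 IH) (Lpr_gf (f815459 IH) (Lpe (f659733 IH) (Lpqs (K61.f792106 IH) (Lpr_gf (K61.f673342 IH) (Lpq (K61.f787445 IH) (Lpr_dt (K61.f10945 IH) (Lpr_gt (K49.f456973 IH) (Lpr_ct (K61.f625223 IH) (Lpr_gt (K61.f680427 IH) (Lpr_ct (f686320 IH) (Lpn v11896))))))))))))
theorem f815469 : v11203 = v3928 :=
  (Llr Lrot79 (Lpe (f683450 IH) (Lpr_bf (f683444 IH) (Lpr_df (f815468 IH) (Lpe (f686313 IH) (Lpn v3928)))))).symm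
theorem f815471 : v6735 = v11890 :=
  Lefun (Lecon (f815446 IH) (f815469 IH)) (f686297 IH)
theorem f815472 : v11198 = v3927 :=
  (Llr Lrot18 (Lpe (f683436 IH) (Lpqs (f815440 IH) (Lpe (K61.f658120 IH) (Lpr_dt (f658138 IH) (Lpqs (f815471 IH) (Lpe (f686296 IH) (Lpn v3927)))))))).symm
theorem f126259 : Led Lsl_gt (LP (LK LD1_c7 LD2_c4 LD3_c5)) = (LP (LK LD1_c6 LD2_c59 LD3_c39)) :=
  Lgr Lrot150 (Lpe (K49.f88812 IH) (Lpe (K11.f105667 IH) (Lpe (K5.f90632 IH) (Lpr_gt (K6.f90625 IH) (Lpr_ct (K3.f90621 IH) (Lpr_gt (K34.f126257 IH) (Lpe (K6.f114275 IH) (Lpe (K5.f114277 IH) (Lpr_cf (K5.f121521 IH) (Lpn (LP (LK LD1_c6 LD2_c59 LD3_c39))))))))))))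
theorem f88811 : Led Lsl_bt (LP (LK LD1_c13 LD2_c23 LD3_c59)) = (LP (LK LD1_c7 LD2_c4 LD3_c5)) :=
  Lre_b IH (LK LD1_c13 LD2_c23 LD3_c59) (LK LD1_c7 LD2_c4 LD3_c5) Lrfl Lrfl
theorem f432760 : Led Lsl_cf (LP (LK LD1_c13 LD2_c23 LD3_c59)) = (LP (LK LD1_c22 LD2_c30 LD3_c37)) :=
  Lgr Lrot11 (Lpr_ct (K49.f432755 IH) (Lpn (LP (LK LD1_c22 LD2_c30 LD3_c37))))
theorem f815673 : Led Lsl_gf (LP (LK LD1_c13 LD2_c15 LD3_c38)) = v23222 :=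
  Lgr Lrot85 (Lpr_dt (K49.f85636 IH) (Lpe (f432760 IH) (Lpr_bt (f88811 IH) (Lpr_gt (f126259 IH) (Lpe (K6.f143372 IH) (Lpr_ct (K3.f106667 IH) (Lpr_bt (K3.f106434 IH) (Lpr_gt (K3.f94430 IH) (Lpr_dt (K3.f19733 IH) (Lpr_ct (K7.f19427 IH) (Lpr_bt (K7.f10429 IH) (Lpr_gt (K7.f9996 IH) (Lpr_dt (K47.f447625 IH) (Lpr_ct (f451476 IH) (Lpr_bt (f491607 IH) (Lpr_gt (f627936 IH) (Lpq (f815472 IH) (Lpe (f683436 IH) (Lpr_ct (K61.f683431 IH) (Lpr_bt (f815671 IH) (Lpn v23222)))))))))))))))))))))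
theorem f85546 : Led Lsl_ct (LP (LK LD1_c6 LD2_c59 LD3_c16)) = (LP (LK LD1_c13 LD2_c15 LD3_c38)) :=
  Lre_c IH (LK LD1_c6 LD2_c59 LD3_c16) (LK LD1_c13 LD2_c15 LD3_c38) Lrfl Lrfl
theorem f85635 : Led Lsl_bt (LP (LK LD1_c6 LD2_c59 LD3_c16)) = (LP (LK LD1_c13 LD2_c15 LD3_c37)) :=
  Lre_b IH (LK LD1_c6 LD2_c59 LD3_c16) (LK LD1_c13 LD2_c15 LD3_c37) Lrfl Lrfl
theorem f514577 : Led Lsl_at (LP (LK LD1_c1 LD2_c42 LD3_c7)) = (LP (LK LD1_c3 LD2_c28 LD3_c20)) :=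
  Lre_a IH (LK LD1_c1 LD2_c42 LD3_c7) (LK LD1_c3 LD2_c28 LD3_c20) Lrfl Lrfl
theorem f514580 : Led Lsl_bf (LP (LK LD1_c1 LD2_c42 LD3_c7)) = K61.v2314 :=
  Lgr Lrot24 (Lpr_bt (K61.f514578 IH) (Lpn K61.v2314))
theorem f787552 : Led Lsl_bf K61.v7647 = K61.v20516 :=
  Lgr Lrot81 (Lpe (K61.f667454 IH) (Lpe (f514580 IH) (Lpr_at (f514577 IH) (Lpr_bt (K3.f85305 IH) (Lpr_at (K61.f787550 IH) (Lpn K61.v20516))))))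
theorem f86608 : Led Lsl_gt (LP (LK LD1_c3 LD2_c44 LD3_c42)) = (LP (LK LD1_c7 LD2_c30 LD3_c30)) :=
  Lre_g IH (LK LD1_c3 LD2_c44 LD3_c42) (LK LD1_c7 LD2_c30 LD3_c30) Lrfl Lrfl
theorem f787555 : Led Lsl_gt (LP (LK LD1_c7 LD2_c30 LD3_c30)) = K61.v20516 :=
  Lgr Lrot46 (Lpe (f86608 IH) (Lpr_ft (K61.f85669 IH) (Lpr_at (K61.f787550 IH) (Lpn K61.v20516))))
theorem f86616 : Led Lsl_ct (LP (LK LD1_c14 LD2_c10 LD3_c46)) = (LP (LK LD1_c7 LD2_c30 LD3_c30)) :=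
  Lre_c IH (LK LD1_c14 LD2_c10 LD3_c46) (LK LD1_c7 LD2_c30 LD3_c30) Lrfl Lrfl
theorem f815678 : Led Lsl_gt (LP (LK LD1_c13 LD2_c15 LD3_c37)) = (LP (LK LD1_c14 LD2_c10 LD3_c46)) :=
  Lgr Lrot82 (Lpe (f85635 IH) (Lpr_ct (f85546 IH) (Lpr_gf (f815673 IH) (Lpe (f815665 IH) (Lpr_bt (f85610 IH) (Lpr_gf (K61.f667449 IH) (Lpr_bf (f787552 IH) (Lpe (K61.f787553 IH) (Lpe (f787555 IH) (Lpe (f86616 IH) (Lpn (LP (LK LD1_c14 LD2_c10 LD3_c46)))))))))))))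
theorem f815679 : Led Lsl_gt (LP (LK LD1_c13 LD2_c15 LD3_c37)) = (LP (LK LD1_c14 LD2_c10 LD3_c46)) :=
  Leop (Lpe (f815678 IH) (Lpn (LP (LK LD1_c13 LD2_c15 LD3_c37))))
theorem seed_1819 : LEOK LG_g (LK LD1_c13 LD2_c15 LD3_c37) :=
  Leoe_g (LK LD1_c13 LD2_c15 LD3_c37) (f815679 IH)
def v23237 : LQ := Led Lsl_et (LP (LK LD1_c7 LD2_c49 LD3_c23))
theorem f815776 : Led Lsl_et (LP (LK LD1_c7 LD2_c49 LD3_c23)) = v23237 :=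
  Lrfl
theorem f815777 : Led Lsl_ef (LP (LK LD1_c7 LD2_c49 LD3_c23)) = v23237 :=
  Lgr Lrot88 (Lpr_et (f815776 IH) (Lpn v23237))
theorem f123134 : Led Lsl_at (LP (LK LD1_c7 LD2_c51 LD3_c18)) = (LP (LK LD1_c7 LD2_c49 LD3_c25)) :=
  Lgr Lrot100 (Lpr_af (K28.f123117 IH) (Lpn (LP (LK LD1_c7 LD2_c49 LD3_c25))))
theorem f123255 : Led Lsl_ft (LP (LK LD1_c14 LD2_c49 LD3_c4)) = (LP (LK LD1_c7 LD2_c51 LD3_c18)) :=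
  Lre_f IH (LK LD1_c14 LD2_c49 LD3_c4) (LK LD1_c7 LD2_c51 LD3_c18) Lrfl Lrfl
theorem f123257 : Led Lsl_gt (LP (LK LD1_c14 LD2_c45 LD3_c46)) = (LP (LK LD1_c7 LD2_c49 LD3_c25)) :=
  Lre_g IH (LK LD1_c14 LD2_c45 LD3_c46) (LK LD1_c7 LD2_c49 LD3_c25) Lrfl Lrfl
theorem f123258 : Led Lsl_gt (LP (LK LD1_c14 LD2_c49 LD3_c4)) = (LP (LK LD1_c14 LD2_c45 LD3_c46)) :=
  Lgr Lrot5 (Lpr_ft (f123255 IH) (Lpr_at (f123134 IH) (Lpe (f123257 IH) (Lpn (LP (LK LD1_c14 LD2_c45 LD3_c46))))))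
theorem f148335 : Led Lsl_et (LP (LK LD1_c13 LD2_c54 LD3_c39)) = (LP (LK LD1_c7 LD2_c21 LD3_c28)) :=
  Lre_e IH (LK LD1_c13 LD2_c54 LD3_c39) (LK LD1_c7 LD2_c21 LD3_c28) Lrfl Lrfl
theorem f436513 : Led Lsl_df (LP (LK LD1_c14 LD2_c45 LD3_c46)) = (LP (LK LD1_c13 LD2_c54 LD3_c39)) :=
  Lgr Lrot170 (Lpr_gt (f123257 IH) (Lpe (K28.f123141 IH) (Lpr_et (K28.f123201 IH) (Lpr_gt (K6.f134784 IH) (Lpr_dt (K28.f151400 IH) (Lpe (K7.f148330 IH) (Lpe (K7.f13170 IH) (Lpr_et (K7.f13144 IH) (Lpr_gt (K48.f4839 IH) (Lpe (f148335 IH) (Lpn (LP (LK LD1_c13 LD2_c54 LD3_c39)))))))))))))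
theorem f662513 : Led Lsl_ct K48.v7224 = K48.v7224 :=
  Lgr Lrot40 (Lpe (K48.f662488 IH) (Lpr_cf (K34.f436805 IH) (Lpr_ff (K48.f662492 IH) (Lpn K48.v7224))))
theorem f662490 : Led Lsl_bf K48.v2554 = K48.v7224 :=
  Lgr Lrot61 (Lpe (K48.f527455 IH) (Lpr_bt (K34.f12867 IH) (Lpr_ft (K48.f662488 IH) (Lpn K48.v7224))))
theorem f662518 : Led Lsl_gt (LP (LK LD1_c7 LD2_c21 LD3_c28)) = K48.v7224 :=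
  Lgr Lrot65 (Lpe (K48.f436811 IH) (Lpr_bt (K48.f518456 IH) (Lpe (K48.f127982 IH) (Lpe (K47.f137099 IH) (Lpr_ct (K33.f137118 IH) (Lpe (K33.f128088 IH) (Lpe (K34.f489800 IH) (Lpr_gf (K48.f527459 IH) (Lpr_bf (f662490 IH) (Lpr_ct (f662513 IH) (Lpn K48.v7224)))))))))))
theorem f13404 : Led Lsl_ft (LP (LK LD1_c3 LD2_c40 LD3_c38)) = (LP (LK LD1_c7 LD2_c21 LD3_c31)) :=
  Lre_f IH (LK LD1_c3 LD2_c40 LD3_c38) (LK LD1_c7 LD2_c21 LD3_c31) Lrfl Lrfl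
theorem f662514 : Led Lsl_et (LP (LK LD1_c7 LD2_c21 LD3_c31)) = K48.v7224 :=
  Lgr Lrot69 (Lpe (f13404 IH) (Lpe (K7.f13144 IH) (Lpe (K7.f148322 IH) (Lpe (K7.f13143 IH) (Lpr_ff (K48.f662492 IH) (Lpn K48.v7224))))))
theorem f4754 : Led Lsl_dt (LP (LK LD1_c7 LD2_c21 LD3_c31)) = (LP (LK LD1_c13 LD2_c54 LD3_c44)) :=
  Lre_d IH (LK LD1_c7 LD2_c21 LD3_c31) (LK LD1_c13 LD2_c54 LD3_c44) Lrfl Lrfl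
theorem f815778 : Led Lsl_df (LP (LK LD1_c14 LD2_c4 LD3_c8)) = v23237 :=
  Lgr Lrot168 (Lpr_gf (K63.f13264 IH) (Lpe (f4754 IH) (Lpr_et (f662514 IH) (Lpe (f662518 IH) (Lpe (f148335 IH) (Lpe (f436513 IH) (Lpe (f123258 IH) (Lpe (K29.f123163 IH) (Lpr_gf (K29.f123181 IH) (Lpr_ef (f815777 IH) (Lpn v23237)))))))))))
theorem f815780 : Led Lsl_et (LP (LK LD1_c14 LD2_c4 LD3_c8)) = (LP (LK LD1_c23 LD2_c37 LD3_c28)) :=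
  Lre_e IH (LK LD1_c14 LD2_c4 LD3_c8) (LK LD1_c23 LD2_c37 LD3_c28) Lrfl Lrfl
theorem f123187 : Led Lsl_dt (LP (LK LD1_c14 LD2_c45 LD3_c41)) = (LP (LK LD1_c7 LD2_c49 LD3_c23)) :=
  Lre_d IH (LK LD1_c14 LD2_c45 LD3_c41) (LK LD1_c7 LD2_c49 LD3_c23) Lrfl Lrfl
theorem f487350 : Led Lsl_et (LP (LK LD1_c24 LD2_c31 LD3_c55)) = (LP (LK LD1_c14 LD2_c45 LD3_c41)) :=
  Lre_e IH (LK LD1_c24 LD2_c31 LD3_c55) (LK LD1_c14 LD2_c45 LD3_c41) Lrfl Lrfl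
theorem f815781 : Led Lsl_dt (LP (LK LD1_c23 LD2_c37 LD3_c28)) = (LP (LK LD1_c24 LD2_c31 LD3_c55)) :=
  Lgr Lrot77 (Lpe (f815780 IH) (Lpr_df (f815778 IH) (Lpe (f815776 IH) (Lpe (f123187 IH) (Lpe (f487350 IH) (Lpn (LP (LK LD1_c24 LD2_c31 LD3_c55))))))))
theorem f815782 : Led Lsl_dt (LP (LK LD1_c23 LD2_c37 LD3_c28)) = (LP (LK LD1_c24 LD2_c31 LD3_c55)) :=
  Leop (Lpe (f815781 IH) (Lpn (LP (LK LD1_c23 LD2_c37 LD3_c28))))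
theorem seed_1820 : LEOK LG_d (LK LD1_c23 LD2_c37 LD3_c28) :=
  Leoe_d (LK LD1_c23 LD2_c37 LD3_c28) (f815782 IH)
def v23239 : LQ := Led Lsl_bt (LP (LK LD1_c7 LD2_c49 LD3_c27))
theorem f815789 : Led Lsl_bt (LP (LK LD1_c7 LD2_c49 LD3_c27)) = v23239 :=
  Lrfl
theorem f815790 : Led Lsl_bf (LP (LK LD1_c7 LD2_c49 LD3_c27)) = v23239 :=
  Lgr Lrot24 (Lpr_bt (f815789 IH) (Lpn v23239))
theorem f122892 : Led Lsl_bt (LP (LK LD1_c3 LD2_c55 LD3_c12)) = (LP (LK LD1_c3 LD2_c54 LD3_c18)) :=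
  Lgr Lrot95 (Lpe (K56.f122890 IH) (Lpr_bf (K6.f122874 IH) (Lpe (K7.f122891 IH) (Lpn (LP (LK LD1_c3 LD2_c54 LD3_c18))))))
theorem f129152 : Led Lsl_gt (LP (LK LD1_c6 LD2_c42 LD3_c15)) = (LP (LK LD1_c3 LD2_c19 LD3_c7)) :=
  Lre_g IH (LK LD1_c6 LD2_c42 LD3_c15) (LK LD1_c3 LD2_c19 LD3_c7) Lrfl Lrfl
theorem f144564 : Led Lsl_gt (LP (LK LD1_c7 LD2_c52 LD3_c0)) = (LP (LK LD1_c6 LD2_c42 LD3_c15)) :=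
  Lgr Lrot5 (Lpr_ft (K6.f144547 IH) (Lpr_at (K56.f144548 IH) (Lpe (f129152 IH) (Lpn (LP (LK LD1_c6 LD2_c42 LD3_c15))))))
theorem f144573 : Led Lsl_ct (LP (LK LD1_c12 LD2_c49 LD3_c36)) = (LP (LK LD1_c6 LD2_c42 LD3_c15)) :=
  Lre_c IH (LK LD1_c12 LD2_c49 LD3_c36) (LK LD1_c6 LD2_c42 LD3_c15) Lrfl Lrfl
theorem f502643 : Led Lsl_ft (LP (LK LD1_c17 LD2_c31 LD3_c27)) = (LP (LK LD1_c27 LD2_c21 LD3_c6)) :=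
  Lre_f IH (LK LD1_c17 LD2_c31 LD3_c27) (LK LD1_c27 LD2_c21 LD3_c6) Lrfl Lrfl
theorem f502601 : Led Lsl_at (LP (LK LD1_c27 LD2_c21 LD3_c6)) = (LP (LK LD1_c17 LD2_c31 LD3_c35)) :=
  Lre_a IH (LK LD1_c27 LD2_c21 LD3_c6) (LK LD1_c17 LD2_c31 LD3_c35) Lrfl Lrfl
theorem f741791 : Led Lsl_gt (LP (LK LD1_c11 LD2_c48 LD3_c29)) = (LP (LK LD1_c17 LD2_c31 LD3_c35)) :=
  Lgr Lrot46 (Lpr_gf (K55.f741753 IH) (Lpr_ft (f502643 IH) (Lpr_at (f502601 IH) (Lpn (LP (LK LD1_c17 LD2_c31 LD3_c35))))))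
theorem f669768 : Led Lsl_cf (LP (LK LD1_c11 LD2_c48 LD3_c29)) = (LP (LK LD1_c14 LD2_c48 LD3_c53)) :=
  Lgr Lrot11 (Lpr_ct (K48.f669764 IH) (Lpn (LP (LK LD1_c14 LD2_c48 LD3_c53))))
theorem f144520 : Led Lsl_dt (LP (LK LD1_c7 LD2_c52 LD3_c0)) = (LP (LK LD1_c14 LD2_c50 LD3_c15)) :=
  Lre_d IH (LK LD1_c7 LD2_c52 LD3_c0) (LK LD1_c14 LD2_c50 LD3_c15) Lrfl Lrfl
theorem f144521 : Led Lsl_ct (LP (LK LD1_c14 LD2_c50 LD3_c15)) = (LP (LK LD1_c24 LD2_c36 LD3_c35)) :=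
  Lre_c IH (LK LD1_c14 LD2_c50 LD3_c15) (LK LD1_c24 LD2_c36 LD3_c35) Lrfl Lrfl
theorem f144522 : Led Lsl_dt (LP (LK LD1_c24 LD2_c36 LD3_c35)) = (LP (LK LD1_c31 LD2_c35 LD3_c10)) :=
  Lre_d IH (LK LD1_c24 LD2_c36 LD3_c35) (LK LD1_c31 LD2_c35 LD3_c10) Lrfl Lrfl
theorem f144523 : Led Lsl_ct (LP (LK LD1_c31 LD2_c35 LD3_c10)) = (LP (LK LD1_c24 LD2_c35 LD3_c29)) :=
  Lre_c IH (LK LD1_c31 LD2_c35 LD3_c10) (LK LD1_c24 LD2_c35 LD3_c29) Lrfl Lrfl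
theorem f144524 : Led Lsl_dt (LP (LK LD1_c24 LD2_c35 LD3_c29)) = (LP (LK LD1_c14 LD2_c49 LD3_c13)) :=
  Lre_d IH (LK LD1_c24 LD2_c35 LD3_c29) (LK LD1_c14 LD2_c49 LD3_c13) Lrfl Lrfl
theorem f144525 : Led Lsl_ct (LP (LK LD1_c14 LD2_c49 LD3_c13)) = (LP (LK LD1_c7 LD2_c51 LD3_c22)) :=
  Lre_c IH (LK LD1_c14 LD2_c49 LD3_c13) (LK LD1_c7 LD2_c51 LD3_c22) Lrfl Lrfl
theorem f144526 : Led Lsl_dt (LP (LK LD1_c7 LD2_c51 LD3_c22)) = (LP (LK LD1_c3 LD2_c54 LD3_c50)) :=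
  Lre_d IH (LK LD1_c7 LD2_c51 LD3_c22) (LK LD1_c3 LD2_c54 LD3_c50) Lrfl Lrfl
theorem f144528 : Led Lsl_ct (LP (LK LD1_c3 LD2_c54 LD3_c50)) = (LP (LK LD1_c3 LD2_c19 LD3_c7)) :=
  Lgr Lrot176 (Lpe (f144526 IH) (Lpe (f144525 IH) (Lpe (f144524 IH) (Lpe (f144523 IH) (Lpe (f144522 IH) (Lpe (f144521 IH) (Lpe (f144520 IH) (Lpe (K6.f123032 IH) (Lpe (K56.f122890 IH) (Lpe (K56.f123289 IH) (Lpe (K56.f123320 IH) (Lpr_cf (K56.f144506 IH) (Lpe (K56.f144518 IH) (Lpe (K56.f144487 IH) (Lpe (K56.f144527 IH) (Lpn (LP (LK LD1_c3 LD2_c19 LD3_c7))))))))))))))))))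
theorem f538805 : Led Lsl_ft (LP (LK LD1_c8 LD2_c2 LD3_c23)) = (LP (LK LD1_c15 LD2_c8 LD3_c6)) :=
  Lre_f IH (LK LD1_c8 LD2_c2 LD3_c23) (LK LD1_c15 LD2_c8 LD3_c6) Lrfl Lrfl
theorem f558579 : Led Lsl_ct (LP (LK LD1_c15 LD2_c8 LD3_c6)) = (LP (LK LD1_c9 LD2_c30 LD3_c24)) :=
  Lgr Lrot40 (Lpe (f538805 IH) (Lpr_cf (K40.f558557 IH) (Lpe (K42.f502620 IH) (Lpn (LP (LK LD1_c9 LD2_c30 LD3_c24))))))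
theorem f30111 : Led Lsl_bt (LP (LK LD1_c8 LD2_c2 LD3_c29)) = (LP (LK LD1_c4 LD2_c0 LD3_c57)) :=
  Lre_b IH (LK LD1_c8 LD2_c2 LD3_c29) (LK LD1_c4 LD2_c0 LD3_c57) Lrfl Lrfl
theorem f538702 : Led Lsl_bf (LP (LK LD1_c15 LD2_c8 LD3_c6)) = (LP (LK LD1_c12 LD2_c22 LD3_c61)) :=
  Lgr Lrot81 (Lpr_at (K40.f30626 IH) (Lpr_bt (f30111 IH) (Lpe (K37.f29959 IH) (Lpr_bt (K37.f30625 IH) (Lpr_at (K35.f538683 IH) (Lpn (LP (LK LD1_c12 LD2_c22 LD3_c61))))))))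
theorem f538690 : Led Lsl_ct (LP (LK LD1_c21 LD2_c29 LD3_c54)) = (LP (LK LD1_c12 LD2_c22 LD3_c61)) :=
  Lre_c IH (LK LD1_c21 LD2_c29 LD3_c54) (LK LD1_c12 LD2_c22 LD3_c61) Lrfl Lrfl
theorem f669173 : Led Lsl_bt (LP (LK LD1_c20 LD2_c24 LD3_c30)) = (LP (LK LD1_c21 LD2_c29 LD3_c54)) :=
  Lgr Lrot128 (Lpr_cf (K48.f669171 IH) (Lpe (K56.f502631 IH) (Lpe (f558579 IH) (Lpr_bf (f538702 IH) (Lpe (f538690 IH) (Lpn (LP (LK LD1_c21 LD2_c29 LD3_c54))))))))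
theorem f36508 : Led Lsl_et (LP (LK LD1_c8 LD2_c1 LD3_c17)) = (LP (LK LD1_c4 LD2_c0 LD3_c9)) :=
  Lre_e IH (LK LD1_c8 LD2_c1 LD3_c17) (LK LD1_c4 LD2_c0 LD3_c9) Lrfl Lrfl
theorem f36502 : Led Lsl_dt (LP (LK LD1_c8 LD2_c1 LD3_c17)) = (LP (LK LD1_c15 LD2_c6 LD3_c14)) :=
  Lre_d IH (LK LD1_c8 LD2_c1 LD3_c17) (LK LD1_c15 LD2_c6 LD3_c14) Lrfl Lrfl
theorem f608196 : Led Lsl_gt (LP (LK LD1_c15 LD2_c6 LD3_c14)) = (LP (LK LD1_c24 LD2_c54 LD3_c18)) :=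
  Lre_g IH (LK LD1_c15 LD2_c6 LD3_c14) (LK LD1_c24 LD2_c54 LD3_c18) Lrfl Lrfl
theorem f608197 : Led Lsl_dt (LP (LK LD1_c31 LD2_c42 LD3_c28)) = (LP (LK LD1_c24 LD2_c54 LD3_c18)) :=
  Lre_d IH (LK LD1_c31 LD2_c42 LD3_c28) (LK LD1_c24 LD2_c54 LD3_c18) Lrfl Lrfl
theorem f608182 : Led Lsl_dt (LP (LK LD1_c16 LD2_c25 LD3_c5)) = (LP (LK LD1_c23 LD2_c29 LD3_c58)) :=
  Lgr Lrot57 (Lpr_gf (K61.f607780 IH) (Lpe (K61.f607778 IH) (Lpr_gt (K43.f576288 IH) (Lpr_dt (K32.f201982 IH) (Lpr_gt (K32.f201975 IH) (Lpr_dt (K11.f59260 IH) (Lpe (K39.f560351 IH) (Lpe (K39.f560350 IH) (Lpr_gf (K47.f608180 IH) (Lpn (LP (LK LD1_c23 LD2_c29 LD3_c58))))))))))))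
theorem f608198 : Led Lsl_et (LP (LK LD1_c31 LD2_c42 LD3_c28)) = (LP (LK LD1_c26 LD2_c22 LD3_c38)) :=
  Lgr Lrot121 (Lpr_dt (f608197 IH) (Lpe (f608196 IH) (Lpe (f36502 IH) (Lpr_et (f36508 IH) (Lpe (K43.f554315 IH) (Lpe (K39.f208989 IH) (Lpr_dt (K43.f560343 IH) (Lpr_gf (K47.f608180 IH) (Lpe (f608182 IH) (Lpr_gf (K61.f607780 IH) (Lpn (LP (LK LD1_c26 LD2_c22 LD3_c38)))))))))))))
theorem f608205 : Led Lsl_ef (LP (LK LD1_c31 LD2_c42 LD3_c28)) = (LP (LK LD1_c26 LD2_c22 LD3_c38)) :=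
  Lgr Lrot88 (Lpr_et (f608198 IH) (Lpn (LP (LK LD1_c26 LD2_c22 LD3_c38))))
theorem f608209 : Led Lsl_ct (LP (LK LD1_c31 LD2_c42 LD3_c28)) = (LP (LK LD1_c27 LD2_c5 LD3_c19)) :=
  Lgr Lrot15 (Lpr_ef (f608205 IH) (Lpe (K61.f607778 IH) (Lpe (K43.f56639 IH) (Lpn (LP (LK LD1_c27 LD2_c5 LD3_c19))))))
theorem f608204 : Led Lsl_dt (LP (LK LD1_c24 LD2_c54 LD3_c18)) = (LP (LK LD1_c31 LD2_c42 LD3_c28)) :=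
  Lre_d IH (LK LD1_c24 LD2_c54 LD3_c18) (LK LD1_c31 LD2_c42 LD3_c28) Lrfl Lrfl
theorem f36510 : Led Lsl_gt (LP (LK LD1_c15 LD2_c6 LD3_c13)) = (LP (LK LD1_c8 LD2_c1 LD3_c17)) :=
  Lre_g IH (LK LD1_c15 LD2_c6 LD3_c13) (LK LD1_c8 LD2_c1 LD3_c17) Lrfl Lrfl
theorem f449840 : Led Lsl_gt (LP (LK LD1_c17 LD2_c15 LD3_c27)) = (LP (LK LD1_c9 LD2_c19 LD3_c41)) :=
  Lre_g IH (LK LD1_c17 LD2_c15 LD3_c27) (LK LD1_c9 LD2_c19 LD3_c41) Lrfl Lrfl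
theorem f608211 : Led Lsl_cf (LP (LK LD1_c15 LD2_c6 LD3_c13)) = (LP (LK LD1_c17 LD2_c15 LD3_c27)) :=
  Lgr Lrot166 (Lpr_gt (f36510 IH) (Lpr_dt (f36502 IH) (Lpr_gt (f608196 IH) (Lpr_dt (f608204 IH) (Lpr_ct (f608209 IH) (Lpr_df (K43.f56637 IH) (Lpr_gf (K43.f576290 IH) (Lpe (K43.f255513 IH) (Lpe (f449840 IH) (Lpn (LP (LK LD1_c17 LD2_c15 LD3_c27))))))))))))
theorem f36812 : Led Lsl_ct (LP (LK LD1_c4 LD2_c0 LD3_c10)) = (LP (LK LD1_c8 LD2_c1 LD3_c17)) :=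
  Lre_c IH (LK LD1_c4 LD2_c0 LD3_c10) (LK LD1_c8 LD2_c1 LD3_c17) Lrfl Lrfl
theorem f39971 : Led Lsl_bt (LP (LK LD1_c3 LD2_c58 LD3_c2)) = (LP (LK LD1_c7 LD2_c57 LD3_c24)) :=
  Lre_b IH (LK LD1_c3 LD2_c58 LD3_c2) (LK LD1_c7 LD2_c57 LD3_c24) Lrfl Lrfl
theorem f444716 : Led Lsl_gt (LP (LK LD1_c7 LD2_c57 LD3_c24)) = (LP (LK LD1_c15 LD2_c0 LD3_c2)) :=
  Lre_g IH (LK LD1_c7 LD2_c57 LD3_c24) (LK LD1_c15 LD2_c0 LD3_c2) Lrfl Lrfl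
theorem f608222 : Led Lsl_bf (LP (LK LD1_c15 LD2_c0 LD3_c2)) = (LP (LK LD1_c17 LD2_c15 LD3_c27)) :=
  Lgr Lrot34 (Lpe (f444716 IH) (Lpe (f39971 IH) (Lpr_ct (K37.f38715 IH) (Lpr_gf (K2.f16452 IH) (Lpr_cf (K37.f445170 IH) (Lpe (K37.f30120 IH) (Lpe (K40.f30043 IH) (Lpr_ct (f36812 IH) (Lpe (f36510 IH) (Lpr_cf (f608211 IH) (Lpn (LP (LK LD1_c17 LD2_c15 LD3_c27)))))))))))))
theorem f99608 : Led Lsl_gt (LP (LK LD1_c15 LD2_c0 LD3_c2)) = (LP (LK LD1_c7 LD2_c57 LD3_c14)) :=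
  Lre_g IH (LK LD1_c15 LD2_c0 LD3_c2) (LK LD1_c7 LD2_c57 LD3_c14) Lrfl Lrfl
theorem f39932 : Led Lsl_bf (LP (LK LD1_c7 LD2_c57 LD3_c14)) = (LP (LK LD1_c4 LD2_c26 LD3_c9)) :=
  Lgr Lrot24 (Lpr_bt (K1.f39922 IH) (Lpn (LP (LK LD1_c4 LD2_c26 LD3_c9))))
theorem f39935 : Led Lsl_ct (LP (LK LD1_c4 LD2_c26 LD3_c9)) = (LP (LK LD1_c8 LD2_c49 LD3_c40)) :=
  Lre_c IH (LK LD1_c4 LD2_c26 LD3_c9) (LK LD1_c8 LD2_c49 LD3_c40) Lrfl Lrfl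
theorem f158698 : Led Lsl_gt (LP (LK LD1_c8 LD2_c49 LD3_c40)) = (LP (LK LD1_c16 LD2_c30 LD3_c20)) :=
  Lre_g IH (LK LD1_c8 LD2_c49 LD3_c40) (LK LD1_c16 LD2_c30 LD3_c20) Lrfl Lrfl
theorem f39972 : Led Lsl_bt (LP (LK LD1_c4 LD2_c26 LD3_c24)) = (LP (LK LD1_c2 LD2_c10 LD3_c34)) :=
  Lre_b IH (LK LD1_c4 LD2_c26 LD3_c24) (LK LD1_c2 LD2_c10 LD3_c34) Lrfl Lrfl
theorem f39995 : Led Lsl_ct (LP (LK LD1_c4 LD2_c26 LD3_c24)) = (LP (LK LD1_c8 LD2_c50 LD3_c8)) :=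
  Lre_c IH (LK LD1_c4 LD2_c26 LD3_c24) (LK LD1_c8 LD2_c50 LD3_c8) Lrfl Lrfl
theorem f407857 : Led Lsl_gt (LP (LK LD1_c16 LD2_c30 LD3_c20)) = (LP (LK LD1_c8 LD2_c50 LD3_c8)) :=
  Lre_g IH (LK LD1_c16 LD2_c30 LD3_c20) (LK LD1_c8 LD2_c50 LD3_c8) Lrfl Lrfl
theorem f30094 : Led Lsl_bt (LP (LK LD1_c1 LD2_c56 LD3_c53)) = (LP (LK LD1_c4 LD2_c0 LD3_c10)) :=
  Lre_b IH (LK LD1_c1 LD2_c56 LD3_c53) (LK LD1_c4 LD2_c0 LD3_c10) Lrfl Lrfl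
theorem f70311 : Led Lsl_bt (LP (LK LD1_c15 LD2_c6 LD3_c16)) = (LP (LK LD1_c8 LD2_c1 LD3_c18)) :=
  Lre_b IH (LK LD1_c15 LD2_c6 LD3_c16) (LK LD1_c8 LD2_c1 LD3_c18) Lrfl Lrfl
theorem f407858 : Led Lsl_cf (LP (LK LD1_c16 LD2_c30 LD3_c20)) = (LP (LK LD1_c15 LD2_c6 LD3_c16)) :=
  Lgr Lrot160 (Lpr_gt (f407857 IH) (Lpe (f39995 IH) (Lpr_bt (f39972 IH) (Lpr_gt (K37.f407849 IH) (Lpr_ct (K37.f70296 IH) (Lpr_gt (K37.f36822 IH) (Lpr_cf (K37.f36815 IH) (Lpr_bt (f30094 IH) (Lpr_gt (K61.f36827 IH) (Lpe (f70311 IH) (Lpn (LP (LK LD1_c15 LD2_c6 LD3_c16)))))))))))))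
theorem f538708 : Led Lsl_gt (LP (LK LD1_c8 LD2_c1 LD3_c18)) = (LP (LK LD1_c12 LD2_c22 LD3_c61)) :=
  Lgr Lrot46 (Lpe (K61.f36827 IH) (Lpr_ft (K35.f445766 IH) (Lpr_at (K35.f538683 IH) (Lpn (LP (LK LD1_c12 LD2_c22 LD3_c61))))))
theorem f608224 : Led Lsl_gf (LP (LK LD1_c15 LD2_c6 LD3_c13)) = (LP (LK LD1_c21 LD2_c29 LD3_c54)) :=
  Lgr Lrot129 (Lpr_cf (f608211 IH) (Lpe (f608222 IH) (Lpr_gt (f99608 IH) (Lpr_bf (f39932 IH) (Lpr_ct (f39935 IH) (Lpr_gt (f158698 IH) (Lpr_cf (f407858 IH) (Lpr_bt (f70311 IH) (Lpr_gt (f538708 IH) (Lpr_ct (K50.f538694 IH) (Lpn (LP (LK LD1_c21 LD2_c29 LD3_c54)))))))))))))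
theorem f741801 : Led Lsl_bt (LP (LK LD1_c12 LD2_c49 LD3_c36)) = (LP (LK LD1_c15 LD2_c6 LD3_c13)) :=
  Lgr Lrot92 (Lpr_ct (f144573 IH) (Lpr_gt (f129152 IH) (Lpe (f144528 IH) (Lpr_bt (K56.f122929 IH) (Lpr_gt (K48.f144637 IH) (Lpe (f669768 IH) (Lpr_gt (f741791 IH) (Lpe (K48.f669175 IH) (Lpr_bt (f669173 IH) (Lpe (f608224 IH) (Lpn (LP (LK LD1_c15 LD2_c6 LD3_c13)))))))))))))
theorem f443868 : Led Lsl_ct (LP (LK LD1_c8 LD2_c1 LD3_c17)) = (LP (LK LD1_c4 LD2_c0 LD3_c10)) :=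
  Lre_c IH (LK LD1_c8 LD2_c1 LD3_c17) (LK LD1_c4 LD2_c0 LD3_c10) Lrfl Lrfl
theorem f815797 : Led Lsl_cf (LP (LK LD1_c8 LD2_c1 LD3_c18)) = v23239 :=
  Lgr Lrot163 (Lpe (K61.f36827 IH) (Lpe (f443868 IH) (Lpe (f36510 IH) (Lpe (f741801 IH) (Lpr_ct (f144573 IH) (Lpe (f144564 IH) (Lpe (K6.f123032 IH) (Lpr_bt (f122892 IH) (Lpe (K7.f123313 IH) (Lpr_bf (f815790 IH) (Lpn v23239)))))))))))
theorem f142338 : Led Lsl_bt (LP (LK LD1_c23 LD2_c43 LD3_c14)) = (LP (LK LD1_c14 LD2_c8 LD3_c42)) :=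
  Lre_b IH (LK LD1_c23 LD2_c43 LD3_c14) (LK LD1_c14 LD2_c8 LD3_c42) Lrfl Lrfl
theorem f815791 : Led Lsl_ef (LP (LK LD1_c23 LD2_c43 LD3_c14)) = v23239 :=
  Lgr Lrot29 (Lpr_bt (f142338 IH) (Lpe (K7.f142336 IH) (Lpr_bt (f815789 IH) (Lpn v23239))))
theorem f815794 : Led Lsl_et (LP (LK LD1_c23 LD2_c43 LD3_c14)) = v23239 :=
  Lgr Lrot87 (Lpr_ef (f815791 IH) (Lpn v23239))
theorem f815799 : Led Lsl_ct (LP (LK LD1_c15 LD2_c6 LD3_c18)) = (LP (LK LD1_c23 LD2_c43 LD3_c14)) :=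
  Lgr Lrot15 (Lpe (K61.f540964 IH) (Lpr_cf (f815797 IH) (Lpe (f815794 IH) (Lpn (LP (LK LD1_c23 LD2_c43 LD3_c14))))))
theorem f815800 : Led Lsl_ct (LP (LK LD1_c15 LD2_c6 LD3_c18)) = (LP (LK LD1_c23 LD2_c43 LD3_c14)) :=
  Leop (Lpe (f815799 IH) (Lpn (LP (LK LD1_c15 LD2_c6 LD3_c18))))
theorem seed_1821 : LEOK LG_c (LK LD1_c15 LD2_c6 LD3_c18) :=
  Leoe_c (LK LD1_c15 LD2_c6 LD3_c18) (f815800 IH)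
theorem f81130 : Led Lsl_bt (LP (LK LD1_c8 LD2_c45 LD3_c37)) = (LP (LK LD1_c16 LD2_c23 LD3_c46)) :=
  Lre_b IH (LK LD1_c8 LD2_c45 LD3_c37) (LK LD1_c16 LD2_c23 LD3_c46) Lrfl Lrfl
theorem f34501 : Led Lsl_bt (LP (LK LD1_c15 LD2_c10 LD3_c36)) = (LP (LK LD1_c8 LD2_c3 LD3_c54)) :=
  Lre_b IH (LK LD1_c15 LD2_c10 LD3_c36) (LK LD1_c8 LD2_c3 LD3_c54) Lrfl Lrfl
theorem f81131 : Led Lsl_dt (LP (LK LD1_c16 LD2_c23 LD3_c46)) = (LP (LK LD1_c15 LD2_c10 LD3_c36)) :=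
  Lgr Lrot79 (Lpe (f81130 IH) (Lpr_df (K10.f81128 IH) (Lpe (f34501 IH) (Lpn (LP (LK LD1_c15 LD2_c10 LD3_c36))))))
theorem f613216 : Led Lsl_ct (LP (LK LD1_c21 LD2_c29 LD3_c47)) = (LP (LK LD1_c12 LD2_c22 LD3_c53)) :=
  Lre_c IH (LK LD1_c21 LD2_c29 LD3_c47) (LK LD1_c12 LD2_c22 LD3_c53) Lrfl Lrfl
theorem f608447 : Led Lsl_et (LP (LK LD1_c16 LD2_c23 LD3_c45)) = (LP (LK LD1_c22 LD2_c29 LD3_c1)) :=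
  Lgr Lrot87 (Lpr_ef (K55.f608445 IH) (Lpn (LP (LK LD1_c22 LD2_c29 LD3_c1))))
theorem f742328 : Led Lsl_cf (LP (LK LD1_c16 LD2_c23 LD3_c45)) = (LP (LK LD1_c14 LD2_c8 LD3_c26)) :=
  Lgr Lrot39 (Lpr_et (f608447 IH) (Lpr_ct (K55.f742325 IH) (Lpr_et (K55.f742296 IH) (Lpn (LP (LK LD1_c14 LD2_c8 LD3_c26))))))
theorem f239331 : Led Lsl_ct (LP (LK LD1_c12 LD2_c22 LD3_c53)) = (LP (LK LD1_c21 LD2_c29 LD3_c47)) :=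
  Lre_c IH (LK LD1_c12 LD2_c22 LD3_c53) (LK LD1_c21 LD2_c29 LD3_c47) Lrfl Lrfl
theorem f742355 : Led Lsl_ft (LP (LK LD1_c21 LD2_c29 LD3_c47)) = (LP (LK LD1_c14 LD2_c8 LD3_c26)) :=
  Lgr Lrot4 (Lpe (f239331 IH) (Lpr_ff (K55.f617773 IH) (Lpr_cf (f742328 IH) (Lpn (LP (LK LD1_c14 LD2_c8 LD3_c26))))))
theorem f664120 : Led Lsl_at (LP (LK LD1_c14 LD2_c8 LD3_c26)) = (LP (LK LD1_c7 LD2_c29 LD3_c23)) :=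
  Lre_a IH (LK LD1_c14 LD2_c8 LD3_c26) (LK LD1_c7 LD2_c29 LD3_c23) Lrfl Lrfl
theorem f742253 : Led Lsl_gt (LP (LK LD1_c14 LD2_c8 LD3_c25)) = (LP (LK LD1_c7 LD2_c29 LD3_c23)) :=
  Lre_g IH (LK LD1_c14 LD2_c8 LD3_c25) (LK LD1_c7 LD2_c29 LD3_c23) Lrfl Lrfl
theorem f742359 : Led Lsl_gt (LP (LK LD1_c21 LD2_c29 LD3_c47)) = (LP (LK LD1_c14 LD2_c8 LD3_c25)) :=
  Lgr Lrot5 (Lpr_ft (f742355 IH) (Lpr_at (f664120 IH) (Lpe (f742253 IH) (Lpn (LP (LK LD1_c14 LD2_c8 LD3_c25))))))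
theorem f742255 : Led Lsl_dt (LP (LK LD1_c14 LD2_c8 LD3_c25)) = (LP (LK LD1_c23 LD2_c42 LD3_c54)) :=
  Lre_d IH (LK LD1_c14 LD2_c8 LD3_c25) (LK LD1_c23 LD2_c42 LD3_c54) Lrfl Lrfl
theorem f815795 : Led Lsl_dt (LP (LK LD1_c14 LD2_c8 LD3_c40)) = (LP (LK LD1_c23 LD2_c43 LD3_c14)) :=
  Lre_d IH (LK LD1_c14 LD2_c8 LD3_c40) (LK LD1_c23 LD2_c43 LD3_c14) Lrfl Lrfl
theorem f815804 : Led Lsl_gt (LP (LK LD1_c23 LD2_c42 LD3_c54)) = (LP (LK LD1_c14 LD2_c8 LD3_c40)) :=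
  Lgr Lrot189 (Lpe (f742255 IH) (Lpe (f742359 IH) (Lpr_ct (f613216 IH) (Lpr_gt (K55.f613214 IH) (Lpr_dt (f81131 IH) (Lpe (K61.f613237 IH) (Lpr_dt (K61.f558969 IH) (Lpr_ct (f815799 IH) (Lpe (f815795 IH) (Lpn (LP (LK LD1_c14 LD2_c8 LD3_c40))))))))))))
theorem f617755 : Led Lsl_df (LP (LK LD1_c21 LD2_c29 LD3_c50)) = (LP (LK LD1_c22 LD2_c29 LD3_c0)) :=
  Lgr Lrot38 (Lpr_dt (K55.f617751 IH) (Lpn (LP (LK LD1_c22 LD2_c29 LD3_c0))))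
theorem f541904 : Led Lsl_dt (LP (LK LD1_c23 LD2_c3 LD3_c33)) = (LP (LK LD1_c30 LD2_c52 LD3_c46)) :=
  Lre_d IH (LK LD1_c23 LD2_c3 LD3_c33) (LK LD1_c30 LD2_c52 LD3_c46) Lrfl Lrfl
theorem f742272 : Led Lsl_dt (LP (LK LD1_c23 LD2_c42 LD3_c60)) = (LP (LK LD1_c14 LD2_c8 LD3_c28)) :=
  Lre_d IH (LK LD1_c23 LD2_c42 LD3_c60) (LK LD1_c14 LD2_c8 LD3_c28) Lrfl Lrfl
theorem f742273 : Led Lsl_gt (LP (LK LD1_c30 LD2_c52 LD3_c46)) = (LP (LK LD1_c23 LD2_c42 LD3_c60)) :=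
  Lgr Lrot189 (Lpe (f541904 IH) (Lpe (K55.f541903 IH) (Lpr_ct (K36.f116161 IH) (Lpr_gt (K55.f463779 IH) (Lpr_dt (K55.f617743 IH) (Lpe (K55.f522168 IH) (Lpe (f617755 IH) (Lpr_ct (K55.f742251 IH) (Lpe (f742272 IH) (Lpn (LP (LK LD1_c23 LD2_c42 LD3_c60))))))))))))
theorem f541945 : Led Lsl_et (LP (LK LD1_c7 LD2_c23 LD3_c3)) = (LP (LK LD1_c13 LD2_c38 LD3_c24)) :=
  Lgr Lrot71 (Lpe (K61.f147186 IH) (Lpe (K34.f147192 IH) (Lpe (K8.f147159 IH) (Lpr_ef (K36.f541937 IH) (Lpe (K36.f116256 IH) (Lpn (LP (LK LD1_c13 LD2_c38 LD3_c24))))))))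
theorem f552168 : Led Lsl_dt (LP (LK LD1_c6 LD2_c25 LD3_c1)) = (LP (LK LD1_c3 LD2_c44 LD3_c0)) :=
  Lgr Lrot105 (Lpr_gf (K39.f552162 IH) (Lpe (K8.f159816 IH) (Lpe (K8.f11771 IH) (Lpr_cf (K29.f155668 IH) (Lpr_gt (K8.f108028 IH) (Lpr_dt (K38.f108103 IH) (Lpe (K38.f546913 IH) (Lpr_dt (K37.f424464 IH) (Lpq (K39.f540345 IH) (Lpe (K39.f522549 IH) (Lpn (LP (LK LD1_c3 LD2_c44 LD3_c0)))))))))))))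
theorem f407991 : Led Lsl_et (LP (LK LD1_c6 LD2_c25 LD3_c1)) = (LP (LK LD1_c12 LD2_c23 LD3_c5)) :=
  Lre_e IH (LK LD1_c6 LD2_c25 LD3_c1) (LK LD1_c12 LD2_c23 LD3_c5) Lrfl Lrfl
theorem f742262 : Led Lsl_dt (LP (LK LD1_c14 LD2_c8 LD3_c28)) = (LP (LK LD1_c23 LD2_c42 LD3_c60)) :=
  Lre_d IH (LK LD1_c14 LD2_c8 LD3_c28) (LK LD1_c23 LD2_c42 LD3_c60) Lrfl Lrfl
theorem f742369 : Led Lsl_gf (LP (LK LD1_c12 LD2_c23 LD3_c5)) = (LP (LK LD1_c7 LD2_c29 LD3_c23)) :=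
  Lgr Lrot141 (Lpe (f407991 IH) (Lpr_dt (f552168 IH) (Lpe (K32.f147345 IH) (Lpe (K62.f147191 IH) (Lpr_et (f541945 IH) (Lpr_gt (K55.f541903 IH) (Lpr_dt (f541904 IH) (Lpr_gt (f742273 IH) (Lpe (f742262 IH) (Lpr_et (K55.f742250 IH) (Lpn (LP (LK LD1_c7 LD2_c29 LD3_c23)))))))))))))
theorem f36386 : Led Lsl_dt (LP (LK LD1_c12 LD2_c23 LD3_c5)) = (LP (LK LD1_c21 LD2_c30 LD3_c0)) :=
  Lre_d IH (LK LD1_c12 LD2_c23 LD3_c5) (LK LD1_c21 LD2_c30 LD3_c0) Lrfl Lrfl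
theorem f552181 : Led Lsl_et (LP (LK LD1_c21 LD2_c30 LD3_c0)) = (LP (LK LD1_c14 LD2_c7 LD3_c20)) :=
  Lgr Lrot71 (Lpe (f36386 IH) (Lpe (f407991 IH) (Lpr_df (K39.f552175 IH) (Lpe (K62.f147347 IH) (Lpe (K62.f497909 IH) (Lpn (LP (LK LD1_c14 LD2_c7 LD3_c20))))))))
theorem f619345 : Led Lsl_ef (LP (LK LD1_c21 LD2_c30 LD3_c0)) = (LP (LK LD1_c14 LD2_c7 LD3_c20)) :=
  Lgr Lrot88 (Lpr_et (f552181 IH) (Lpn (LP (LK LD1_c14 LD2_c7 LD3_c20))))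
theorem f147250 : Led Lsl_et (LP (LK LD1_c23 LD2_c29 LD3_c39)) = (LP (LK LD1_c13 LD2_c57 LD3_c44)) :=
  Lre_e IH (LK LD1_c23 LD2_c29 LD3_c39) (LK LD1_c13 LD2_c57 LD3_c44) Lrfl Lrfl
theorem f619347 : Led Lsl_at (LP (LK LD1_c21 LD2_c30 LD3_c0)) = (LP (LK LD1_c23 LD2_c29 LD3_c39)) :=
  Lgr Lrot80 (Lpr_ef (f619345 IH) (Lpe (K62.f497910 IH) (Lpe (f147250 IH) (Lpn (LP (LK LD1_c23 LD2_c29 LD3_c39))))))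
theorem f147247 : Led Lsl_dt (LP (LK LD1_c23 LD2_c29 LD3_c39)) = (LP (LK LD1_c13 LD2_c57 LD3_c43)) :=
  Lre_d IH (LK LD1_c23 LD2_c29 LD3_c39) (LK LD1_c13 LD2_c57 LD3_c43) Lrfl Lrfl
theorem f619352 : Led Lsl_af (LP (LK LD1_c12 LD2_c23 LD3_c5)) = (LP (LK LD1_c13 LD2_c57 LD3_c43)) :=
  Lgr Lrot117 (Lpr_dt (f36386 IH) (Lpr_at (f619347 IH) (Lpr_dt (f147247 IH) (Lpn (LP (LK LD1_c13 LD2_c57 LD3_c43))))))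
theorem f742371 : Led Lsl_ff (LP (LK LD1_c13 LD2_c57 LD3_c43)) = (LP (LK LD1_c14 LD2_c8 LD3_c25)) :=
  Lgr Lrot52 (Lpe (f619352 IH) (Lpr_gf (f742369 IH) (Lpe (f742253 IH) (Lpn (LP (LK LD1_c14 LD2_c8 LD3_c25))))))
theorem f742464 : Led Lsl_ft (LP (LK LD1_c13 LD2_c57 LD3_c43)) = (LP (LK LD1_c14 LD2_c8 LD3_c25)) :=
  Lgr Lrot48 (Lpr_ff (f742371 IH) (Lpn (LP (LK LD1_c14 LD2_c8 LD3_c25))))
theorem f742470 : Led Lsl_ff (LP (LK LD1_c23 LD2_c29 LD3_c39)) = (LP (LK LD1_c23 LD2_c42 LD3_c54)) :=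
  Lgr Lrot19 (Lpr_dt (f147247 IH) (Lpr_ft (f742464 IH) (Lpr_dt (f742255 IH) (Lpn (LP (LK LD1_c23 LD2_c42 LD3_c54))))))
theorem f619340 : Led Lsl_af (LP (LK LD1_c21 LD2_c30 LD3_c0)) = (LP (LK LD1_c23 LD2_c29 LD3_c39)) :=
  Lgr Lrot50 (Lpr_et (f552181 IH) (Lpe (K63.f497912 IH) (Lpr_et (K34.f147233 IH) (Lpn (LP (LK LD1_c23 LD2_c29 LD3_c39))))))
theorem f815808 : Led Lsl_gf (LP (LK LD1_c21 LD2_c30 LD3_c0)) = (LP (LK LD1_c14 LD2_c8 LD3_c40)) :=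
  Lgr Lrot76 (Lpr_af (f619340 IH) (Lpr_ff (f742470 IH) (Lpr_gt (f815804 IH) (Lpn (LP (LK LD1_c14 LD2_c8 LD3_c40))))))
theorem f407982 : Led Lsl_et (LP (LK LD1_c12 LD2_c23 LD3_c5)) = (LP (LK LD1_c6 LD2_c25 LD3_c1)) :=
  Lre_e IH (LK LD1_c12 LD2_c23 LD3_c5) (LK LD1_c6 LD2_c25 LD3_c1) Lrfl Lrfl
theorem f568092 : Led Lsl_et (LP (LK LD1_c7 LD2_c23 LD3_c6)) = (LP (LK LD1_c13 LD2_c57 LD3_c49)) :=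
  Lre_e IH (LK LD1_c7 LD2_c23 LD3_c6) (LK LD1_c13 LD2_c57 LD3_c49) Lrfl Lrfl
theorem f815792 : Led Lsl_dt (LP (LK LD1_c23 LD2_c43 LD3_c14)) = (LP (LK LD1_c14 LD2_c8 LD3_c40)) :=
  Lre_d IH (LK LD1_c23 LD2_c43 LD3_c14) (LK LD1_c14 LD2_c8 LD3_c40) Lrfl Lrfl
theorem f815810 : Led Lsl_gt (LP (LK LD1_c13 LD2_c57 LD3_c49)) = v23239 :=
  Lgr Lrot131 (Lpe (f568092 IH) (Lpe (K42.f568071 IH) (Lpr_gf (K8.f160000 IH) (Lpr_df (K8.f159860 IH) (Lpe (K39.f552166 IH) (Lpe (f407982 IH) (Lpr_dt (f36386 IH) (Lpr_gf (f815808 IH) (Lpe (f815792 IH) (Lpr_et (f815794 IH) (Lpn v23239)))))))))))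
theorem f568081 : Led Lsl_et (LP (LK LD1_c13 LD2_c57 LD3_c49)) = (LP (LK LD1_c7 LD2_c23 LD3_c6)) :=
  Lre_e IH (LK LD1_c13 LD2_c57 LD3_c49) (LK LD1_c7 LD2_c23 LD3_c6) Lrfl Lrfl
theorem f568224 : Led Lsl_ct (LP (LK LD1_c11 LD2_c28 LD3_c2)) = (LP (LK LD1_c13 LD2_c57 LD3_c49)) :=
  Lgr Lrot15 (Lpe (K36.f241484 IH) (Lpr_cf (K62.f568105 IH) (Lpe (f568081 IH) (Lpn (LP (LK LD1_c13 LD2_c57 LD3_c49))))))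
theorem f479731 : Led Lsl_dt (LP (LK LD1_c13 LD2_c51 LD3_c12)) = (LP (LK LD1_c7 LD2_c19 LD3_c28)) :=
  Lre_d IH (LK LD1_c13 LD2_c51 LD3_c12) (LK LD1_c7 LD2_c19 LD3_c28) Lrfl Lrfl
theorem f46763 : Led Lsl_et (LP (LK LD1_c4 LD2_c13 LD3_c35)) = (LP (LK LD1_c8 LD2_c26 LD3_c7)) :=
  Lre_e IH (LK LD1_c4 LD2_c13 LD3_c35) (LK LD1_c8 LD2_c26 LD3_c7) Lrfl Lrfl
theorem f611280 : Led Lsl_et (LP (LK LD1_c13 LD2_c51 LD3_c12)) = (LP (LK LD1_c15 LD2_c50 LD3_c38)) :=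
  Lgr Lrot122 (Lpr_dt (f479731 IH) (Lpr_gt (K62.f611278 IH) (Lpe (K39.f242773 IH) (Lpr_et (K39.f242778 IH) (Lpr_gt (K13.f69748 IH) (Lpr_dt (K13.f69746 IH) (Lpe (K9.f181995 IH) (Lpe (K1.f27856 IH) (Lpr_et (f46763 IH) (Lpr_gt (K57.f46749 IH) (Lpn (LP (LK LD1_c15 LD2_c50 LD3_c38)))))))))))))
theorem f611285 : Led Lsl_ef (LP (LK LD1_c13 LD2_c51 LD3_c12)) = (LP (LK LD1_c15 LD2_c50 LD3_c38)) :=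
  Lgr Lrot88 (Lpr_et (f611280 IH) (Lpn (LP (LK LD1_c15 LD2_c50 LD3_c38))))
theorem f479730 : Led Lsl_et (LP (LK LD1_c7 LD2_c19 LD3_c28)) = (LP (LK LD1_c13 LD2_c51 LD3_c13)) :=
  Lre_e IH (LK LD1_c7 LD2_c19 LD3_c28) (LK LD1_c13 LD2_c51 LD3_c13) Lrfl Lrfl
theorem f611290 : Led Lsl_et (LP (LK LD1_c22 LD2_c29 LD3_c29)) = (LP (LK LD1_c25 LD2_c46 LD3_c43)) :=
  Lgr Lrot71 (Lpe (K47.f479722 IH) (Lpe (f479730 IH) (Lpe (f479731 IH) (Lpr_ef (f611285 IH) (Lpe (K57.f46752 IH) (Lpn (LP (LK LD1_c25 LD2_c46 LD3_c43))))))))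
theorem f547029 : Led Lsl_df (LP (LK LD1_c13 LD2_c47 LD3_c19)) = (LP (LK LD1_c20 LD2_c21 LD3_c18)) :=
  Lgr Lrot38 (Lpr_dt (K43.f547026 IH) (Lpn (LP (LK LD1_c20 LD2_c21 LD3_c18))))
theorem f80616 : Led Lsl_gt (LP (LK LD1_c4 LD2_c23 LD3_c9)) = (LP (LK LD1_c8 LD2_c44 LD3_c0)) :=
  Lre_g IH (LK LD1_c4 LD2_c23 LD3_c9) (LK LD1_c8 LD2_c44 LD3_c0) Lrfl Lrfl
theorem f201487 : Led Lsl_et (LP (LK LD1_c16 LD2_c21 LD3_c17)) = (LP (LK LD1_c8 LD2_c44 LD3_c0)) :=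
  Lre_e IH (LK LD1_c16 LD2_c21 LD3_c17) (LK LD1_c8 LD2_c44 LD3_c0) Lrfl Lrfl
theorem f181999 : Led Lsl_gt (LP (LK LD1_c15 LD2_c10 LD3_c10)) = (LP (LK LD1_c8 LD2_c3 LD3_c29)) :=
  Lre_g IH (LK LD1_c15 LD2_c10 LD3_c10) (LK LD1_c8 LD2_c3 LD3_c29) Lrfl Lrfl
theorem f201488 : Led Lsl_dt (LP (LK LD1_c16 LD2_c21 LD3_c17)) = (LP (LK LD1_c15 LD2_c10 LD3_c10)) :=
  Lgr Lrot136 (Lpr_et (f201487 IH) (Lpe (f80616 IH) (Lpe (K16.f39215 IH) (Lpr_dt (K13.f39205 IH) (Lpe (K10.f39202 IH) (Lpe (K1.f38928 IH) (Lpe (K13.f39191 IH) (Lpe (K15.f201473 IH) (Lpr_dt (K15.f201468 IH) (Lpe (f181999 IH) (Lpn (LP (LK LD1_c15 LD2_c10 LD3_c10)))))))))))))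
theorem f201495 : Led Lsl_et (LP (LK LD1_c8 LD2_c44 LD3_c0)) = (LP (LK LD1_c16 LD2_c21 LD3_c17)) :=
  Lre_e IH (LK LD1_c8 LD2_c44 LD3_c0) (LK LD1_c16 LD2_c21 LD3_c17) Lrfl Lrfl
theorem f80617 : Led Lsl_dt (LP (LK LD1_c16 LD2_c21 LD3_c16)) = (LP (LK LD1_c8 LD2_c44 LD3_c0)) :=
  Lre_d IH (LK LD1_c16 LD2_c21 LD3_c16) (LK LD1_c8 LD2_c44 LD3_c0) Lrfl Lrfl
theorem f38096 : Led Lsl_et (LP (LK LD1_c26 LD2_c19 LD3_c19)) = (LP (LK LD1_c16 LD2_c21 LD3_c16)) :=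
  Lre_e IH (LK LD1_c26 LD2_c19 LD3_c19) (LK LD1_c16 LD2_c21 LD3_c16) Lrfl Lrfl
theorem f201496 : Led Lsl_et (LP (LK LD1_c15 LD2_c10 LD3_c10)) = (LP (LK LD1_c24 LD2_c59 LD3_c24)) :=
  Lre_e IH (LK LD1_c15 LD2_c10 LD3_c10) (LK LD1_c24 LD2_c59 LD3_c24) Lrfl Lrfl
theorem f201497 : Led Lsl_df (LP (LK LD1_c26 LD2_c19 LD3_c19)) = (LP (LK LD1_c24 LD2_c59 LD3_c24)) :=
  Lgr Lrot70 (Lpr_et (f38096 IH) (Lpr_dt (f80617 IH) (Lpr_et (f201495 IH) (Lpr_dt (f201488 IH) (Lpr_et (f201496 IH) (Lpn (LP (LK LD1_c24 LD2_c59 LD3_c24))))))))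
theorem f182000 : Led Lsl_et (LP (LK LD1_c24 LD2_c59 LD3_c24)) = (LP (LK LD1_c15 LD2_c10 LD3_c10)) :=
  Lre_e IH (LK LD1_c24 LD2_c59 LD3_c24) (LK LD1_c15 LD2_c10 LD3_c10) Lrfl Lrfl
theorem f46753 : Led Lsl_dt (LP (LK LD1_c15 LD2_c50 LD3_c38)) = (LP (LK LD1_c25 LD2_c46 LD3_c43)) :=
  Lre_d IH (LK LD1_c15 LD2_c50 LD3_c38) (LK LD1_c25 LD2_c46 LD3_c43) Lrfl Lrfl
theorem f201504 : Led Lsl_gf (LP (LK LD1_c26 LD2_c19 LD3_c19)) = (LP (LK LD1_c25 LD2_c46 LD3_c43)) :=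
  Lgr Lrot134 (Lpr_df (f201497 IH) (Lpr_et (f182000 IH) (Lpr_gt (f181999 IH) (Lpe (K15.f69728 IH) (Lpr_dt (K13.f69746 IH) (Lpe (K9.f181995 IH) (Lpe (K1.f27856 IH) (Lpr_et (f46763 IH) (Lpr_gt (K57.f46749 IH) (Lpr_dt (f46753 IH) (Lpn (LP (LK LD1_c25 LD2_c46 LD3_c43)))))))))))))
theorem f201500 : Led Lsl_dt (LP (LK LD1_c26 LD2_c19 LD3_c19)) = (LP (LK LD1_c24 LD2_c59 LD3_c24)) :=
  Lgr Lrot42 (Lpr_df (f201497 IH) (Lpn (LP (LK LD1_c24 LD2_c59 LD3_c24))))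
theorem f201493 : Led Lsl_df (LP (LK LD1_c16 LD2_c21 LD3_c17)) = (LP (LK LD1_c15 LD2_c10 LD3_c10)) :=
  Lgr Lrot38 (Lpr_dt (f201488 IH) (Lpn (LP (LK LD1_c15 LD2_c10 LD3_c10))))
theorem f69610 : Led Lsl_gt (LP (LK LD1_c8 LD2_c51 LD3_c10)) = (LP (LK LD1_c16 LD2_c21 LD3_c17)) :=
  Lre_g IH (LK LD1_c8 LD2_c51 LD3_c10) (LK LD1_c16 LD2_c21 LD3_c17) Lrfl Lrfl
theorem f201508 : Led Lsl_gf (LP (LK LD1_c29 LD2_c54 LD3_c34)) = (LP (LK LD1_c24 LD2_c59 LD3_c24)) :=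
  Lgr Lrot138 (Lpr_dt (K37.f56491 IH) (Lpr_gt (K37.f60577 IH) (Lpe (K1.f60296 IH) (Lpr_et (K37.f46728 IH) (Lpr_gt (K37.f46720 IH) (Lpe (K57.f46729 IH) (Lpe (K57.f69528 IH) (Lpr_gt (f69610 IH) (Lpr_df (f201493 IH) (Lpr_et (f201496 IH) (Lpn (LP (LK LD1_c24 LD2_c59 LD3_c24)))))))))))))
theorem f611296 : Led Lsl_gf (LP (LK LD1_c29 LD2_c25 LD3_c8)) = (LP (LK LD1_c29 LD2_c27 LD3_c9)) :=
  Lgr Lrot141 (Lpe (K43.f547031 IH) (Lpe (f547029 IH) (Lpe (K47.f610708 IH) (Lpr_df (K47.f479728 IH) (Lpr_et (f611290 IH) (Lpe (f201504 IH) (Lpr_dt (f201500 IH) (Lpe (f201508 IH) (Lpe (K39.f56490 IH) (Lpr_et (K37.f421101 IH) (Lpn (LP (LK LD1_c29 LD2_c27 LD3_c9)))))))))))))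
theorem f538711 : Led Lsl_dt (LP (LK LD1_c15 LD2_c6 LD3_c17)) = (LP (LK LD1_c8 LD2_c1 LD3_c18)) :=
  Lre_d IH (LK LD1_c15 LD2_c6 LD3_c17) (LK LD1_c8 LD2_c1 LD3_c18) Lrfl Lrfl
theorem f613262 : Led Lsl_ct (LP (LK LD1_c24 LD2_c54 LD3_c24)) = (LP (LK LD1_c15 LD2_c6 LD3_c17)) :=
  Lre_c IH (LK LD1_c24 LD2_c54 LD3_c24) (LK LD1_c15 LD2_c6 LD3_c17) Lrfl Lrfl
theorem f815801 : Led Lsl_gt (LP (LK LD1_c31 LD2_c42 LD3_c31)) = (LP (LK LD1_c24 LD2_c54 LD3_c24)) :=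
  Lre_g IH (LK LD1_c31 LD2_c42 LD3_c31) (LK LD1_c24 LD2_c54 LD3_c24) Lrfl Lrfl
theorem f815811 : Led Lsl_ct (LP (LK LD1_c29 LD2_c25 LD3_c8)) = (LP (LK LD1_c31 LD2_c42 LD3_c31)) :=
  Lgr Lrot152 (Lpr_gf (f611296 IH) (Lpe (K39.f421098 IH) (Lpr_gt (K37.f421082 IH) (Lpr_ct (f568224 IH) (Lpr_gt (f815810 IH) (Lpe (f815797 IH) (Lpe (f538711 IH) (Lpe (f613262 IH) (Lpe (f815801 IH) (Lpn (LP (LK LD1_c31 LD2_c42 LD3_c31))))))))))))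
theorem f815812 : Led Lsl_ct (LP (LK LD1_c29 LD2_c25 LD3_c8)) = (LP (LK LD1_c31 LD2_c42 LD3_c31)) :=
  Leop (Lpe (f815811 IH) (Lpn (LP (LK LD1_c29 LD2_c25 LD3_c8))))
theorem seed_1822 : LEOK LG_c (LK LD1_c29 LD2_c25 LD3_c8) :=
  Leoe_c (LK LD1_c29 LD2_c25 LD3_c8) (f815812 IH)
def v21916 : LQ := Led Lsl_et (LP (LK LD1_c7 LD2_c28 LD3_c35))
theorem f799990 : Led Lsl_et (LP (LK LD1_c7 LD2_c28 LD3_c35)) = v21916 :=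
  Lrfl
theorem f799992 : Led Lsl_bf (LP (LK LD1_c13 LD2_c57 LD3_c49)) = v21916 :=
  Lgr Lrot96 (Lpr_et (f568081 IH) (Lpe (K62.f568226 IH) (Lpr_et (f799990 IH) (Lpn v21916))))
theorem f161957 : Led Lsl_et (LP (LK LD1_c20 LD2_c34 LD3_c30)) = (LP (LK LD1_c11 LD2_c36 LD3_c20)) :=
  Lre_e IH (LK LD1_c20 LD2_c34 LD3_c30) (LK LD1_c11 LD2_c36 LD3_c20) Lrfl Lrfl
theorem f799993 : Led Lsl_cf (LP (LK LD1_c20 LD2_c34 LD3_c30)) = v21916 :=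
  Lgr Lrot39 (Lpr_et (f161957 IH) (Lpr_ct (K8.f161953 IH) (Lpr_et (f799990 IH) (Lpn v21916))))
theorem f136295 : Led Lsl_ft (LP (LK LD1_c9 LD2_c30 LD3_c14)) = (LP (LK LD1_c17 LD2_c31 LD3_c35)) :=
  Lre_f IH (LK LD1_c9 LD2_c30 LD3_c14) (LK LD1_c17 LD2_c31 LD3_c35) Lrfl Lrfl
theorem f669177 : Led Lsl_ft (LP (LK LD1_c20 LD2_c24 LD3_c30)) = (LP (LK LD1_c17 LD2_c31 LD3_c34)) :=
  Lgr Lrot4 (Lpr_cf (K48.f669171 IH) (Lpe (f136295 IH) (Lpe (K40.f136301 IH) (Lpn (LP (LK LD1_c17 LD2_c31 LD3_c34))))))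
theorem f554230 : Led Lsl_et (LP (LK LD1_c12 LD2_c22 LD3_c57)) = (LP (LK LD1_c6 LD2_c24 LD3_c58)) :=
  Lre_e IH (LK LD1_c12 LD2_c22 LD3_c57) (LK LD1_c6 LD2_c24 LD3_c58) Lrfl Lrfl
theorem f558546 : Led Lsl_bf (LP (LK LD1_c12 LD2_c22 LD3_c57)) = (LP (LK LD1_c17 LD2_c31 LD3_c34)) :=
  Lgr Lrot96 (Lpr_et (f554230 IH) (Lpr_bt (K37.f205609 IH) (Lpr_et (K40.f558544 IH) (Lpn (LP (LK LD1_c17 LD2_c31 LD3_c34))))))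
theorem f669180 : Led Lsl_bf (LP (LK LD1_c20 LD2_c24 LD3_c30)) = (LP (LK LD1_c21 LD2_c29 LD3_c54)) :=
  Lgr Lrot61 (Lpr_ft (f669177 IH) (Lpe (f558546 IH) (Lpr_ft (K50.f618539 IH) (Lpn (LP (LK LD1_c21 LD2_c29 LD3_c54))))))
theorem f615551 : Led Lsl_ct (LP (LK LD1_c11 LD2_c26 LD3_c42)) = (LP (LK LD1_c5 LD2_c48 LD3_c35)) :=
  Lre_c IH (LK LD1_c11 LD2_c26 LD3_c42) (LK LD1_c5 LD2_c48 LD3_c35) Lrfl Lrfl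
theorem f613085 : Led Lsl_ct (LP (LK LD1_c11 LD2_c25 LD3_c57)) = (LP (LK LD1_c20 LD2_c23 LD3_c30)) :=
  Lre_c IH (LK LD1_c11 LD2_c25 LD3_c57) (LK LD1_c20 LD2_c23 LD3_c30) Lrfl Lrfl
theorem f755504 : Led Lsl_ff (LP (LK LD1_c11 LD2_c26 LD3_c42)) = (LP (LK LD1_c20 LD2_c23 LD3_c30)) :=
  Lgr Lrot23 (Lpr_ct (f615551 IH) (Lpr_ft (K57.f743873 IH) (Lpqs (K57.f755497 IH) (Lpr_ct (f613085 IH) (Lpn (LP (LK LD1_c20 LD2_c23 LD3_c30)))))))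
theorem f755508 : Led Lsl_ft (LP (LK LD1_c11 LD2_c26 LD3_c42)) = (LP (LK LD1_c20 LD2_c23 LD3_c30)) :=
  Lgr Lrot48 (Lpr_ff (f755504 IH) (Lpn (LP (LK LD1_c20 LD2_c23 LD3_c30))))
theorem f755492 : Led Lsl_af (LP (LK LD1_c11 LD2_c26 LD3_c38)) = (LP (LK LD1_c20 LD2_c23 LD3_c30)) :=
  Lgr Lrot0 (Lpr_at (K57.f755490 IH) (Lpn (LP (LK LD1_c20 LD2_c23 LD3_c30))))
theorem f615553 : Led Lsl_gt (LP (LK LD1_c20 LD2_c24 LD3_c31)) = (LP (LK LD1_c11 LD2_c26 LD3_c38)) :=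
  Lre_g IH (LK LD1_c20 LD2_c24 LD3_c31) (LK LD1_c11 LD2_c26 LD3_c38) Lrfl Lrfl
theorem f755512 : Led Lsl_gt (LP (LK LD1_c11 LD2_c26 LD3_c42)) = (LP (LK LD1_c20 LD2_c24 LD3_c31)) :=
  Lgr Lrot5 (Lpr_ft (f755508 IH) (Lpe (f755492 IH) (Lpe (f615553 IH) (Lpn (LP (LK LD1_c20 LD2_c24 LD3_c31))))))
theorem f66363 : Led Lsl_ct (LP (LK LD1_c5 LD2_c48 LD3_c35)) = (LP (LK LD1_c11 LD2_c26 LD3_c42)) :=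
  Lre_c IH (LK LD1_c5 LD2_c48 LD3_c35) (LK LD1_c11 LD2_c26 LD3_c42) Lrfl Lrfl
theorem f755514 : Led Lsl_cf (LP (LK LD1_c17 LD2_c31 LD3_c27)) = (LP (LK LD1_c20 LD2_c24 LD3_c31)) :=
  Lgr Lrot99 (Lpe (K55.f501863 IH) (Lpe (K55.f502521 IH) (Lpr_gf (K52.f66344 IH) (Lpe (K52.f66351 IH) (Lpe (K55.f66360 IH) (Lpe (K48.f66361 IH) (Lpr_gt (K7.f66362 IH) (Lpr_ct (f66363 IH) (Lpr_gt (f755512 IH) (Lpn (LP (LK LD1_c20 LD2_c24 LD3_c31))))))))))))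
theorem f136299 : Led Lsl_at (LP (LK LD1_c17 LD2_c31 LD3_c27)) = (LP (LK LD1_c9 LD2_c30 LD3_c14)) :=
  Lre_a IH (LK LD1_c17 LD2_c31 LD3_c27) (LK LD1_c9 LD2_c30 LD3_c14) Lrfl Lrfl
theorem f755516 : Led Lsl_at (LP (LK LD1_c17 LD2_c31 LD3_c34)) = (LP (LK LD1_c20 LD2_c24 LD3_c31)) :=
  Lgr Lrot107 (Lpe (K50.f136292 IH) (Lpe (f136299 IH) (Lpr_cf (f755514 IH) (Lpn (LP (LK LD1_c20 LD2_c24 LD3_c31))))))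
theorem f755610 : Led Lsl_gt (LP (LK LD1_c20 LD2_c24 LD3_c30)) = (LP (LK LD1_c11 LD2_c26 LD3_c42)) :=
  Lgr Lrot5 (Lpr_ft (f669177 IH) (Lpr_at (f755516 IH) (Lpe (f755512 IH) (Lpn (LP (LK LD1_c11 LD2_c26 LD3_c42))))))
theorem f645233 : Led Lsl_bt (LP (LK LD1_c20 LD2_c24 LD3_c37)) = (LP (LK LD1_c11 LD2_c26 LD3_c42)) :=
  Lre_b IH (LK LD1_c20 LD2_c24 LD3_c37) (LK LD1_c11 LD2_c26 LD3_c42) Lrfl Lrfl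
theorem f645237 : Led Lsl_cf (LP (LK LD1_c11 LD2_c26 LD3_c41)) = (LP (LK LD1_c12 LD2_c53 LD3_c54)) :=
  Lgr Lrot11 (Lpr_ct (K46.f645230 IH) (Lpn (LP (LK LD1_c12 LD2_c53 LD3_c54))))
theorem f615552 : Led Lsl_bt (LP (LK LD1_c11 LD2_c26 LD3_c42)) = (LP (LK LD1_c20 LD2_c24 LD3_c37)) :=
  Lre_b IH (LK LD1_c11 LD2_c26 LD3_c42) (LK LD1_c20 LD2_c24 LD3_c37) Lrfl Lrfl
theorem f207257 : Led Lsl_bt (LP (LK LD1_c22 LD2_c3 LD3_c37)) = (LP (LK LD1_c12 LD2_c53 LD3_c54)) :=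
  Lre_b IH (LK LD1_c22 LD2_c3 LD3_c37) (LK LD1_c12 LD2_c53 LD3_c54) Lrfl Lrfl
theorem f645240 : Led Lsl_ct (LP (LK LD1_c20 LD2_c24 LD3_c37)) = (LP (LK LD1_c22 LD2_c3 LD3_c37)) :=
  Lgr Lrot83 (Lpe (f615552 IH) (Lpe (f66363 IH) (Lpe (K46.f57522 IH) (Lpr_cf (f645237 IH) (Lpe (f207257 IH) (Lpn (LP (LK LD1_c22 LD2_c3 LD3_c37))))))))
theorem f815813 : Led Lsl_gf (LP (LK LD1_c20 LD2_c34 LD3_c30)) = (LP (LK LD1_c22 LD2_c3 LD3_c37)) :=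
  Lgr Lrot126 (Lpr_cf (f799993 IH) (Lpe (f799992 IH) (Lpr_gt (f815810 IH) (Lpe (f815797 IH) (Lpr_gt (f538708 IH) (Lpe (f538690 IH) (Lpe (f669180 IH) (Lpr_gt (f755610 IH) (Lpe (f645233 IH) (Lpr_ct (f645240 IH) (Lpn (LP (LK LD1_c22 LD2_c3 LD3_c37)))))))))))))
theorem f815814 : Led Lsl_gt (LP (LK LD1_c22 LD2_c3 LD3_c37)) = (LP (LK LD1_c20 LD2_c34 LD3_c30)) :=
  Leop (Lpr_gf (f815813 IH) (Lpn (LP (LK LD1_c22 LD2_c3 LD3_c37))))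
theorem seed_1823 : LEOK LG_g (LK LD1_c22 LD2_c3 LD3_c37) :=
  Leoe_g (LK LD1_c22 LD2_c3 LD3_c37) (f815814 IH)
def v23266 : LQ := Led Lsl_et (LP (LK LD1_c7 LD2_c49 LD3_c56))
theorem f815962 : Led Lsl_et (LP (LK LD1_c7 LD2_c49 LD3_c56)) = v23266 :=
  Lrfl
theorem f815964 : Led Lsl_ef (LP (LK LD1_c7 LD2_c49 LD3_c56)) = v23266 :=
  Lgr Lrot88 (Lpr_et (f815962 IH) (Lpn v23266))
theorem f11796 : Led Lsl_dt (LP (LK LD1_c14 LD2_c49 LD3_c47)) = (LP (LK LD1_c24 LD2_c36 LD3_c5)) :=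
  Lre_d IH (LK LD1_c14 LD2_c49 LD3_c47) (LK LD1_c24 LD2_c36 LD3_c5) Lrfl Lrfl
theorem f11804 : Led Lsl_gt (LP (LK LD1_c14 LD2_c49 LD3_c49)) = (LP (LK LD1_c24 LD2_c36 LD3_c5)) :=
  Lre_g IH (LK LD1_c14 LD2_c49 LD3_c49) (LK LD1_c24 LD2_c36 LD3_c5) Lrfl Lrfl
theorem f159834 : Led Lsl_gt (LP (LK LD1_c7 LD2_c51 LD3_c49)) = (LP (LK LD1_c14 LD2_c49 LD3_c49)) :=
  Lre_g IH (LK LD1_c7 LD2_c51 LD3_c49) (LK LD1_c14 LD2_c49 LD3_c49) Lrfl Lrfl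
theorem f789198 : Led Lsl_df (LP (LK LD1_c13 LD2_c59 LD3_c43)) = (LP (LK LD1_c14 LD2_c49 LD3_c49)) :=
  Lgr Lrot174 (Lpr_ct (K61.f789194 IH) (Lpe (K62.f609275 IH) (Lpe (K47.f465516 IH) (Lpe (K28.f108056 IH) (Lpe (K29.f108051 IH) (Lpr_ct (K29.f465511 IH) (Lpr_gt (K29.f11681 IH) (Lpr_dt (K28.f11798 IH) (Lpr_gt (f159834 IH) (Lpn (LP (LK LD1_c14 LD2_c49 LD3_c49))))))))))))
theorem f789212 : Led Lsl_dt (LP (LK LD1_c13 LD2_c59 LD3_c43)) = (LP (LK LD1_c14 LD2_c49 LD3_c49)) :=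
  Lgr Lrot42 (Lpr_df (f789198 IH) (Lpn (LP (LK LD1_c14 LD2_c49 LD3_c49))))
theorem f456545 : Led Lsl_dt (LP (LK LD1_c3 LD2_c41 LD3_c38)) = (LP (LK LD1_c7 LD2_c23 LD3_c59)) :=
  Lre_d IH (LK LD1_c3 LD2_c41 LD3_c38) (LK LD1_c7 LD2_c23 LD3_c59) Lrfl Lrfl
def v21654 : LQ := Led Lsl_gf (LP (LK LD1_c7 LD2_c23 LD3_c59))
theorem f798422 : Led Lsl_gf (LP (LK LD1_c7 LD2_c23 LD3_c59)) = v21654 :=
  Lrfl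
theorem f815967 : Led Lsl_df v21654 = v23266 :=
  Lgr Lrot170 (Lpe (f798422 IH) (Lpe (f456545 IH) (Lpr_et (K34.f456540 IH) (Lpr_gt (K61.f456529 IH) (Lpr_dt (f789212 IH) (Lpr_gt (f11804 IH) (Lpe (f11796 IH) (Lpr_et (K41.f470137 IH) (Lpr_gt (K47.f471891 IH) (Lpr_ef (f815964 IH) (Lpn v23266)))))))))))
theorem f456550 : Led Lsl_dt (LP (LK LD1_c7 LD2_c23 LD3_c59)) = (LP (LK LD1_c3 LD2_c41 LD3_c38)) :=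
  Lre_d IH (LK LD1_c7 LD2_c23 LD3_c59) (LK LD1_c3 LD2_c41 LD3_c38) Lrfl Lrfl
theorem f815969 : Led Lsl_gt (LP (LK LD1_c14 LD2_c56 LD3_c35)) = v23266 :=
  Lgr Lrot94 (Lpe (K46.f482565 IH) (Lpr_gt (K47.f610678 IH) (Lpr_dt (K47.f464986 IH) (Lpe (K47.f610125 IH) (Lpr_dt (K47.f456547 IH) (Lpe (K47.f456460 IH) (Lpe (f456550 IH) (Lpr_gf (f798422 IH) (Lpr_df (f815967 IH) (Lpn v23266))))))))))
theorem f518886 : Led Lsl_dt (LP (LK LD1_c13 LD2_c49 LD3_c26)) = (LP (LK LD1_c7 LD2_c18 LD3_c19)) :=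
  Lre_d IH (LK LD1_c13 LD2_c49 LD3_c26) (LK LD1_c7 LD2_c18 LD3_c19) Lrfl Lrfl
theorem f518887 : Led Lsl_ft (LP (LK LD1_c7 LD2_c18 LD3_c19)) = (LP (LK LD1_c7 LD2_c9 LD3_c19)) :=
  Lgr Lrot54 (Lpe (f518886 IH) (Lpr_ff (K47.f518882 IH) (Lpe (K47.f482583 IH) (Lpn (LP (LK LD1_c7 LD2_c9 LD3_c19))))))
theorem f5819 : Led Lsl_gt (LP (LK LD1_c7 LD2_c18 LD3_c19)) = (LP (LK LD1_c13 LD2_c49 LD3_c24)) :=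
  Lre_g IH (LK LD1_c7 LD2_c18 LD3_c19) (LK LD1_c13 LD2_c49 LD3_c24) Lrfl Lrfl
theorem f482570 : Led Lsl_at (LP (LK LD1_c7 LD2_c9 LD3_c19)) = (LP (LK LD1_c13 LD2_c33 LD3_c5)) :=
  Lre_a IH (LK LD1_c7 LD2_c9 LD3_c19) (LK LD1_c13 LD2_c33 LD3_c5) Lrfl Lrfl
theorem f518899 : Led Lsl_gt (LP (LK LD1_c13 LD2_c49 LD3_c24)) = (LP (LK LD1_c13 LD2_c33 LD3_c5)) :=
  Lgr Lrot46 (Lpe (f5819 IH) (Lpr_ft (f518887 IH) (Lpr_at (f482570 IH) (Lpn (LP (LK LD1_c13 LD2_c33 LD3_c5))))))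
theorem f488588 : Led Lsl_gt (LP (LK LD1_c13 LD2_c46 LD3_c61)) = (LP (LK LD1_c23 LD2_c14 LD3_c31)) :=
  Lre_g IH (LK LD1_c13 LD2_c46 LD3_c61) (LK LD1_c23 LD2_c14 LD3_c31) Lrfl Lrfl
theorem f617763 : Led Lsl_ft (LP (LK LD1_c21 LD2_c29 LD3_c50)) = (LP (LK LD1_c23 LD2_c3 LD3_c23)) :=
  Lgr Lrot48 (Lpr_ff (K55.f617757 IH) (Lpn (LP (LK LD1_c23 LD2_c3 LD3_c23))))
theorem f560519 : Led Lsl_at (LP (LK LD1_c23 LD2_c3 LD3_c23)) = (LP (LK LD1_c22 LD2_c29 LD3_c5)) :=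
  Lgr Lrot51 (Lpr_df (K40.f560513 IH) (Lpe (K33.f480592 IH) (Lpe (K40.f479609 IH) (Lpn (LP (LK LD1_c22 LD2_c29 LD3_c5))))))
theorem f617765 : Led Lsl_gt (LP (LK LD1_c21 LD2_c29 LD3_c50)) = (LP (LK LD1_c23 LD2_c3 LD3_c20)) :=
  Lgr Lrot5 (Lpr_ft (f617763 IH) (Lpr_at (f560519 IH) (Lpr_gf (K40.f533958 IH) (Lpn (LP (LK LD1_c23 LD2_c3 LD3_c20))))))
theorem f617745 : Led Lsl_ef (LP (LK LD1_c13 LD2_c49 LD3_c24)) = (LP (LK LD1_c22 LD2_c29 LD3_c3)) :=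
  Lgr Lrot114 (Lpr_gt (f518899 IH) (Lpe (K47.f482572 IH) (Lpr_dt (K47.f515427 IH) (Lpr_gt (K47.f560980 IH) (Lpe (K47.f560982 IH) (Lpr_et (K47.f519566 IH) (Lpr_gt (K37.f116177 IH) (Lpr_dt (K36.f116254 IH) (Lpr_gt (K55.f463779 IH) (Lpr_df (K55.f617737 IH) (Lpn (LP (LK LD1_c22 LD2_c29 LD3_c3)))))))))))))
theorem f617747 : Led Lsl_et (LP (LK LD1_c13 LD2_c49 LD3_c24)) = (LP (LK LD1_c22 LD2_c29 LD3_c3)) :=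
  Lgr Lrot87 (Lpr_ef (f617745 IH) (Lpn (LP (LK LD1_c22 LD2_c29 LD3_c3))))
theorem f621950 : Led Lsl_df (LP (LK LD1_c23 LD2_c14 LD3_c31)) = (LP (LK LD1_c13 LD2_c49 LD3_c24)) :=
  Lgr Lrot168 (Lpe (f488588 IH) (Lpe (K47.f456558 IH) (Lpr_et (K47.f456557 IH) (Lpr_gf (K48.f621946 IH) (Lpe (K62.f621904 IH) (Lpr_dt (K40.f116248 IH) (Lpe (f617765 IH) (Lpr_df (f617755 IH) (Lpr_gf (K55.f522168 IH) (Lpe (f617747 IH) (Lpn (LP (LK LD1_c13 LD2_c49 LD3_c24)))))))))))))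
theorem f517489 : Led Lsl_ff (LP (LK LD1_c7 LD2_c18 LD3_c10)) = (LP (LK LD1_c13 LD2_c46 LD3_c61)) :=
  Lgr Lrot19 (Lpr_dt (K47.f456437 IH) (Lpr_ft (K34.f517484 IH) (Lpr_dt (K47.f456558 IH) (Lpn (LP (LK LD1_c13 LD2_c46 LD3_c61))))))
theorem f517492 : Led Lsl_at (LP (LK LD1_c7 LD2_c18 LD3_c10)) = (LP (LK LD1_c13 LD2_c49 LD3_c4)) :=
  Lre_a IH (LK LD1_c7 LD2_c18 LD3_c10) (LK LD1_c13 LD2_c49 LD3_c4) Lrfl Lrfl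
theorem f517497 : Led Lsl_gf (LP (LK LD1_c13 LD2_c49 LD3_c4)) = (LP (LK LD1_c23 LD2_c14 LD3_c31)) :=
  Lgr Lrot76 (Lpe (f517492 IH) (Lpr_ff (f517489 IH) (Lpr_gt (f488588 IH) (Lpn (LP (LK LD1_c23 LD2_c14 LD3_c31))))))
theorem f517501 : Led Lsl_ct (LP (LK LD1_c13 LD2_c49 LD3_c4)) = (LP (LK LD1_c23 LD2_c17 LD3_c55)) :=
  Lre_c IH (LK LD1_c13 LD2_c49 LD3_c4) (LK LD1_c23 LD2_c17 LD3_c55) Lrfl Lrfl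
theorem f815963 : Led Lsl_cf K62.v21219 = v23266 :=
  Lgr Lrot39 (Lpe (K62.f794521 IH) (Lpe (K29.f470973 IH) (Lpr_et (f815962 IH) (Lpn v23266))))
theorem f609341 : Led Lsl_ct (LP (LK LD1_c23 LD2_c20 LD3_c33)) = (LP (LK LD1_c13 LD2_c51 LD3_c15)) :=
  Lre_c IH (LK LD1_c23 LD2_c20 LD3_c33) (LK LD1_c13 LD2_c51 LD3_c15) Lrfl Lrfl
theorem f815970 : Led Lsl_gt (LP (LK LD1_c23 LD2_c17 LD3_c55)) = (LP (LK LD1_c23 LD2_c20 LD3_c33)) :=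
  Lgr Lrot150 (Lpe (f517501 IH) (Lpr_gf (f517497 IH) (Lpr_df (f621950 IH) (Lpr_gt (f518899 IH) (Lpr_ct (K46.f482565 IH) (Lpr_gt (f815969 IH) (Lpe (f815963 IH) (Lpe (K62.f794523 IH) (Lpe (f609341 IH) (Lpn (LP (LK LD1_c23 LD2_c20 LD3_c33))))))))))))
theorem f815971 : Led Lsl_gt (LP (LK LD1_c23 LD2_c17 LD3_c55)) = (LP (LK LD1_c23 LD2_c20 LD3_c33)) :=
  Leop (Lpe (f815970 IH) (Lpn (LP (LK LD1_c23 LD2_c17 LD3_c55))))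
theorem seed_1824 : LEOK LG_g (LK LD1_c23 LD2_c17 LD3_c55) :=
  Leoe_g (LK LD1_c23 LD2_c17 LD3_c55) (f815971 IH)
def v23285 : LQ := Led Lsl_at (LP (LK LD1_c7 LD2_c50 LD3_c6))
theorem f816042 : Led Lsl_at (LP (LK LD1_c7 LD2_c50 LD3_c6)) = v23285 :=
  Lrfl
theorem f123021 : Led Lsl_dt (LP (LK LD1_c3 LD2_c54 LD3_c15)) = (LP (LK LD1_c7 LD2_c50 LD3_c6)) :=
  Lre_d IH (LK LD1_c3 LD2_c54 LD3_c15) (LK LD1_c7 LD2_c50 LD3_c6) Lrfl Lrfl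
def v7660 : LQ := Led Lsl_at (LP (LK LD1_c3 LD2_c54 LD3_c15))
theorem f667509 : Led Lsl_at (LP (LK LD1_c3 LD2_c54 LD3_c15)) = v7660 :=
  Lrfl
theorem f667510 : Led Lsl_af (LP (LK LD1_c3 LD2_c54 LD3_c15)) = v7660 :=
  Lgr Lrot0 (Lpr_at (f667509 IH) (Lpn v7660))
theorem f816044 : Led Lsl_df v7660 = v23285 :=
  Lgr Lrot18 (Lpe (f667510 IH) (Lpr_dt (f123021 IH) (Lpr_at (f816042 IH) (Lpn v23285))))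
theorem f123020 : Led Lsl_gt (LP (LK LD1_c1 LD2_c53 LD3_c45)) = (LP (LK LD1_c3 LD2_c54 LD3_c15)) :=
  Lre_g IH (LK LD1_c1 LD2_c53 LD3_c45) (LK LD1_c3 LD2_c54 LD3_c15) Lrfl Lrfl
theorem f123023 : Led Lsl_gt (LP (LK LD1_c3 LD2_c54 LD3_c16)) = (LP (LK LD1_c1 LD2_c53 LD3_c45)) :=
  Lre_g IH (LK LD1_c3 LD2_c54 LD3_c16) (LK LD1_c1 LD2_c53 LD3_c45) Lrfl Lrfl
theorem f667514 : Led Lsl_ft (LP (LK LD1_c3 LD2_c54 LD3_c16)) = v7660 :=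
  Lgr Lrot2 (Lpr_gt (f123023 IH) (Lpr_gt (f123020 IH) (Lpr_af (f667510 IH) (Lpn v7660))))
theorem f667515 : Led Lsl_ff (LP (LK LD1_c3 LD2_c54 LD3_c16)) = v7660 :=
  Lgr Lrot3 (Lpr_ft (f667514 IH) (Lpn v7660))
theorem f437691 : Led Lsl_dt (LP (LK LD1_c3 LD2_c54 LD3_c16)) = (LP (LK LD1_c7 LD2_c50 LD3_c9)) :=
  Lre_d IH (LK LD1_c3 LD2_c54 LD3_c16) (LK LD1_c7 LD2_c50 LD3_c9) Lrfl Lrfl
theorem f816046 : Led Lsl_ft (LP (LK LD1_c7 LD2_c50 LD3_c9)) = v23285 :=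
  Lgr Lrot54 (Lpe (f437691 IH) (Lpr_ff (f667515 IH) (Lpr_df (f816044 IH) (Lpn v23285))))
theorem f816043 : Led Lsl_af (LP (LK LD1_c7 LD2_c50 LD3_c6)) = v23285 :=
  Lgr Lrot0 (Lpr_at (f816042 IH) (Lpn v23285))
theorem f436930 : Led Lsl_gt (LP (LK LD1_c14 LD2_c46 LD3_c45)) = (LP (LK LD1_c7 LD2_c50 LD3_c6)) :=
  Lre_g IH (LK LD1_c14 LD2_c46 LD3_c45) (LK LD1_c7 LD2_c50 LD3_c6) Lrfl Lrfl
theorem f816048 : Led Lsl_gt (LP (LK LD1_c7 LD2_c50 LD3_c9)) = (LP (LK LD1_c14 LD2_c46 LD3_c45)) :=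
  Lgr Lrot5 (Lpr_ft (f816046 IH) (Lpe (f816043 IH) (Lpe (f436930 IH) (Lpn (LP (LK LD1_c14 LD2_c46 LD3_c45))))))
theorem f816049 : Led Lsl_gt (LP (LK LD1_c7 LD2_c50 LD3_c9)) = (LP (LK LD1_c14 LD2_c46 LD3_c45)) :=
  Leop (Lpe (f816048 IH) (Lpn (LP (LK LD1_c7 LD2_c50 LD3_c9))))
theorem seed_1825 : LEOK LG_g (LK LD1_c7 LD2_c50 LD3_c9) :=
  Leoe_g (LK LD1_c7 LD2_c50 LD3_c9) (f816049 IH)
def v23298 : LQ := Led Lsl_et (LP (LK LD1_c7 LD2_c50 LD3_c15))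
theorem f816121 : Led Lsl_et (LP (LK LD1_c7 LD2_c50 LD3_c15)) = v23298 :=
  Lrfl
theorem f816125 : Led Lsl_ef (LP (LK LD1_c7 LD2_c50 LD3_c15)) = v23298 :=
  Lgr Lrot88 (Lpr_et (f816121 IH) (Lpn v23298))
theorem f485507 : Led Lsl_et (LP (LK LD1_c7 LD2_c29 LD3_c34)) = (LP (LK LD1_c3 LD2_c44 LD3_c16)) :=
  Lre_e IH (LK LD1_c7 LD2_c29 LD3_c34) (LK LD1_c3 LD2_c44 LD3_c16) Lrfl Lrfl
theorem f155578 : Led Lsl_et (LP (LK LD1_c13 LD2_c57 LD3_c1)) = (LP (LK LD1_c7 LD2_c22 LD3_c39)) :=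
  Lre_e IH (LK LD1_c13 LD2_c57 LD3_c1) (LK LD1_c7 LD2_c22 LD3_c39) Lrfl Lrfl
theorem f497533 : Led Lsl_ft (LP (LK LD1_c7 LD2_c22 LD3_c39)) = (LP (LK LD1_c7 LD2_c28 LD3_c27)) :=
  Lgr Lrot48 (Lpr_ff (K32.f497527 IH) (Lpn (LP (LK LD1_c7 LD2_c28 LD3_c27))))
theorem f610263 : Led Lsl_ef (LP (LK LD1_c14 LD2_c8 LD3_c49)) = (LP (LK LD1_c13 LD2_c59 LD3_c22)) :=
  Lgr Lrot21 (Lpr_ft (K47.f610257 IH) (Lpr_et (f155578 IH) (Lpr_ft (f497533 IH) (Lpr_et (K43.f123616 IH) (Lpe (K47.f517850 IH) (Lpn (LP (LK LD1_c13 LD2_c59 LD3_c22))))))))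
theorem f610271 : Led Lsl_et (LP (LK LD1_c7 LD2_c29 LD3_c31)) = (LP (LK LD1_c7 LD2_c23 LD3_c49)) :=
  Lgr Lrot158 (Lpe (K47.f523106 IH) (Lpr_ef (f610263 IH) (Lpe (K48.f517840 IH) (Lpn (LP (LK LD1_c7 LD2_c23 LD3_c49))))))
theorem f610276 : Led Lsl_ef (LP (LK LD1_c7 LD2_c29 LD3_c31)) = (LP (LK LD1_c7 LD2_c23 LD3_c49)) :=
  Lgr Lrot88 (Lpr_et (f610271 IH) (Lpn (LP (LK LD1_c7 LD2_c23 LD3_c49))))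
theorem f517843 : Led Lsl_dt (LP (LK LD1_c7 LD2_c23 LD3_c49)) = (LP (LK LD1_c13 LD2_c59 LD3_c23)) :=
  Lre_d IH (LK LD1_c7 LD2_c23 LD3_c49) (LK LD1_c13 LD2_c59 LD3_c23) Lrfl Lrfl
theorem f486115 : Led Lsl_dt (LP (LK LD1_c23 LD2_c25 LD3_c22)) = (LP (LK LD1_c13 LD2_c54 LD3_c55)) :=
  Lre_d IH (LK LD1_c23 LD2_c25 LD3_c22) (LK LD1_c13 LD2_c54 LD3_c55) Lrfl Lrfl
theorem f501792 : Led Lsl_ft (LP (LK LD1_c13 LD2_c57 LD3_c7)) = (LP (LK LD1_c23 LD2_c25 LD3_c22)) :=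
  Lgr Lrot54 (Lpe (K48.f123837 IH) (Lpr_ff (K47.f501784 IH) (Lpe (f486115 IH) (Lpn (LP (LK LD1_c23 LD2_c25 LD3_c22))))))
theorem f123627 : Led Lsl_dt (LP (LK LD1_c14 LD2_c6 LD3_c35)) = (LP (LK LD1_c7 LD2_c28 LD3_c29)) :=
  Lre_d IH (LK LD1_c14 LD2_c6 LD3_c35) (LK LD1_c7 LD2_c28 LD3_c29) Lrfl Lrfl
theorem f517859 : Led Lsl_ft (LP (LK LD1_c13 LD2_c59 LD3_c23)) = (LP (LK LD1_c14 LD2_c6 LD3_c35)) :=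
  Lgr Lrot54 (Lpe (f517843 IH) (Lpr_ff (K47.f517855 IH) (Lpe (f123627 IH) (Lpn (LP (LK LD1_c14 LD2_c6 LD3_c35))))))
theorem f517861 : Led Lsl_af (LP (LK LD1_c13 LD2_c59 LD3_c23)) = (LP (LK LD1_c23 LD2_c25 LD3_c22)) :=
  Lgr Lrot45 (Lpr_ft (f517859 IH) (Lpr_at (K63.f497989 IH) (Lpr_ft (f501792 IH) (Lpn (LP (LK LD1_c23 LD2_c25 LD3_c22))))))
theorem f667295 : Led Lsl_gf (LP (LK LD1_c13 LD2_c59 LD3_c23)) = (LP (LK LD1_c7 LD2_c24 LD3_c2)) :=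
  Lgr Lrot76 (Lpr_af (f517861 IH) (Lpe (f501792 IH) (Lpr_gt (K48.f667291 IH) (Lpn (LP (LK LD1_c7 LD2_c24 LD3_c2))))))
theorem f4622 : Led Lsl_bt (LP (LK LD1_c7 LD2_c24 LD3_c2)) = (LP (LK LD1_c3 LD2_c41 LD3_c41)) :=
  Lre_b IH (LK LD1_c7 LD2_c24 LD3_c2) (LK LD1_c3 LD2_c41 LD3_c41) Lrfl Lrfl
theorem f515077 : Led Lsl_ff (LP (LK LD1_c7 LD2_c24 LD3_c2)) = (LP (LK LD1_c13 LD2_c55 LD3_c1)) :=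
  Lgr Lrot25 (Lpr_bt (f4622 IH) (Lpr_ft (K33.f515075 IH) (Lpr_bt (K63.f148166 IH) (Lpn (LP (LK LD1_c13 LD2_c55 LD3_c1))))))
theorem f515183 : Led Lsl_ft (LP (LK LD1_c7 LD2_c24 LD3_c2)) = (LP (LK LD1_c13 LD2_c55 LD3_c1)) :=
  Lgr Lrot48 (Lpr_ff (f515077 IH) (Lpn (LP (LK LD1_c13 LD2_c55 LD3_c1))))
theorem f148220 : Led Lsl_at (LP (LK LD1_c13 LD2_c55 LD3_c1)) = (LP (LK LD1_c23 LD2_c25 LD3_c33)) :=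
  Lre_a IH (LK LD1_c13 LD2_c55 LD3_c1) (LK LD1_c23 LD2_c25 LD3_c33) Lrfl Lrfl
theorem f667302 : Led Lsl_gt (LP (LK LD1_c13 LD2_c59 LD3_c23)) = (LP (LK LD1_c23 LD2_c25 LD3_c33)) :=
  Lgr Lrot46 (Lpr_gf (f667295 IH) (Lpr_ft (f515183 IH) (Lpr_at (f148220 IH) (Lpn (LP (LK LD1_c23 LD2_c25 LD3_c33))))))
theorem f816129 : Led Lsl_df (LP (LK LD1_c23 LD2_c25 LD3_c33)) = v23298 :=
  Lgr Lrot168 (Lpe (f667302 IH) (Lpe (f517843 IH) (Lpe (f610276 IH) (Lpe (K47.f485508 IH) (Lpe (f485507 IH) (Lpr_dt (K34.f485506 IH) (Lpe (K34.f484654 IH) (Lpr_df (K34.f484778 IH) (Lpr_gf (K34.f516392 IH) (Lpr_ef (f816125 IH) (Lpn v23298)))))))))))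
theorem f483908 : Led Lsl_at (LP (LK LD1_c13 LD2_c59 LD3_c53)) = (LP (LK LD1_c7 LD2_c24 LD3_c2)) :=
  Lre_a IH (LK LD1_c13 LD2_c59 LD3_c53) (LK LD1_c7 LD2_c24 LD3_c2) Lrfl Lrfl
theorem f515187 : Led Lsl_ff (LP (LK LD1_c13 LD2_c59 LD3_c53)) = (LP (LK LD1_c23 LD2_c25 LD3_c33)) :=
  Lgr Lrot30 (Lpr_at (f483908 IH) (Lpr_ft (f515183 IH) (Lpr_at (f148220 IH) (Lpn (LP (LK LD1_c23 LD2_c25 LD3_c33))))))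
theorem f483869 : Led Lsl_bt (LP (LK LD1_c3 LD2_c56 LD3_c41)) = (LP (LK LD1_c7 LD2_c55 LD3_c10)) :=
  Lre_b IH (LK LD1_c3 LD2_c56 LD3_c41) (LK LD1_c7 LD2_c55 LD3_c10) Lrfl Lrfl
theorem f483870 : Led Lsl_df (LP (LK LD1_c7 LD2_c24 LD3_c2)) = (LP (LK LD1_c7 LD2_c55 LD3_c10)) :=
  Lgr Lrot12 (Lpr_bt (f4622 IH) (Lpr_dt (K33.f483864 IH) (Lpr_bt (f483869 IH) (Lpn (LP (LK LD1_c7 LD2_c55 LD3_c10))))))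
theorem f483893 : Led Lsl_at (LP (LK LD1_c7 LD2_c24 LD3_c2)) = (LP (LK LD1_c13 LD2_c59 LD3_c53)) :=
  Lre_a IH (LK LD1_c7 LD2_c24 LD3_c2) (LK LD1_c13 LD2_c59 LD3_c53) Lrfl Lrfl
theorem f483894 : Led Lsl_at (LP (LK LD1_c14 LD2_c56 LD3_c33)) = (LP (LK LD1_c7 LD2_c55 LD3_c10)) :=
  Lre_a IH (LK LD1_c14 LD2_c56 LD3_c33) (LK LD1_c7 LD2_c55 LD3_c10) Lrfl Lrfl
theorem f483895 : Led Lsl_dt (LP (LK LD1_c13 LD2_c59 LD3_c53)) = (LP (LK LD1_c14 LD2_c56 LD3_c33)) :=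
  Lgr Lrot44 (Lpe (f483893 IH) (Lpr_df (f483870 IH) (Lpe (f483894 IH) (Lpn (LP (LK LD1_c14 LD2_c56 LD3_c33))))))
theorem f816131 : Led Lsl_ft (LP (LK LD1_c14 LD2_c56 LD3_c33)) = v23298 :=
  Lgr Lrot54 (Lpe (f483895 IH) (Lpr_ff (f515187 IH) (Lpr_df (f816129 IH) (Lpn v23298))))
theorem f816122 : Led Lsl_af (LP (LK LD1_c7 LD2_c50 LD3_c17)) = v23298 :=
  Lgr Lrot50 (Lpr_et (K63.f148227 IH) (Lpr_at (K33.f486217 IH) (Lpr_et (f816121 IH) (Lpn v23298))))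
theorem f816133 : Led Lsl_gt (LP (LK LD1_c14 LD2_c56 LD3_c33)) = (LP (LK LD1_c14 LD2_c47 LD3_c7)) :=
  Lgr Lrot5 (Lpr_ft (f816131 IH) (Lpe (f816122 IH) (Lpe (K63.f148224 IH) (Lpn (LP (LK LD1_c14 LD2_c47 LD3_c7))))))
theorem f816134 : Led Lsl_gt (LP (LK LD1_c14 LD2_c56 LD3_c33)) = (LP (LK LD1_c14 LD2_c47 LD3_c7)) :=
  Leop (Lpe (f816133 IH) (Lpn (LP (LK LD1_c14 LD2_c56 LD3_c33))))
theorem seed_1826 : LEOK LG_g (LK LD1_c14 LD2_c56 LD3_c33) :=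
  Leoe_g (LK LD1_c14 LD2_c56 LD3_c33) (f816134 IH)
theorem f148222 : Led Lsl_et (LP (LK LD1_c3 LD2_c54 LD3_c19)) = (LP (LK LD1_c7 LD2_c50 LD3_c17)) :=
  Lre_e IH (LK LD1_c3 LD2_c54 LD3_c19) (LK LD1_c7 LD2_c50 LD3_c17) Lrfl Lrfl
theorem f816126 : Led Lsl_at (LP (LK LD1_c7 LD2_c50 LD3_c17)) = v23298 :=
  Lgr Lrot80 (Lpe (f148222 IH) (Lpe (K33.f486140 IH) (Lpr_ef (f816125 IH) (Lpn v23298))))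
theorem f515073 : Led Lsl_ft (LP (LK LD1_c7 LD2_c55 LD3_c10)) = (LP (LK LD1_c7 LD2_c50 LD3_c17)) :=
  Lgr Lrot75 (Lpe (f483869 IH) (Lpr_ff (K33.f515071 IH) (Lpe (K63.f148165 IH) (Lpn (LP (LK LD1_c7 LD2_c50 LD3_c17))))))
theorem f483900 : Led Lsl_gt (LP (LK LD1_c7 LD2_c55 LD3_c10)) = (LP (LK LD1_c14 LD2_c56 LD3_c32)) :=
  Lre_g IH (LK LD1_c7 LD2_c55 LD3_c10) (LK LD1_c14 LD2_c56 LD3_c32) Lrfl Lrfl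
theorem f816135 : Led Lsl_gt (LP (LK LD1_c14 LD2_c56 LD3_c32)) = v23298 :=
  Lgr Lrot46 (Lpe (f483900 IH) (Lpr_ft (f515073 IH) (Lpr_at (f816126 IH) (Lpn v23298))))
theorem f667293 : Led Lsl_gf (LP (LK LD1_c13 LD2_c57 LD3_c7)) = (LP (LK LD1_c23 LD2_c25 LD3_c33)) :=
  Lgr Lrot47 (Lpr_gt (K48.f667291 IH) (Lpe (f483908 IH) (Lpr_ff (f515187 IH) (Lpn (LP (LK LD1_c23 LD2_c25 LD3_c33))))))
theorem f816136 : Led Lsl_ef (LP (LK LD1_c14 LD2_c56 LD3_c32)) = (LP (LK LD1_c14 LD2_c55 LD3_c0)) :=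
  Lgr Lrot167 (Lpr_gt (f816135 IH) (Lpe (f816129 IH) (Lpe (f667293 IH) (Lpe (K48.f123837 IH) (Lpr_et (K47.f123836 IH) (Lpr_gt (K4.f116512 IH) (Lpe (K57.f116495 IH) (Lpr_dt (K28.f116493 IH) (Lpr_gt (K57.f464730 IH) (Lpe (K57.f607617 IH) (Lpn (LP (LK LD1_c14 LD2_c55 LD3_c0)))))))))))))
theorem f816137 : Led Lsl_et (LP (LK LD1_c14 LD2_c55 LD3_c0)) = (LP (LK LD1_c14 LD2_c56 LD3_c32)) :=
  Leop (Lpr_ef (f816136 IH) (Lpn (LP (LK LD1_c14 LD2_c55 LD3_c0))))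
theorem seed_1827 : LEOK LG_e (LK LD1_c14 LD2_c55 LD3_c0) :=
  Leoe_e (LK LD1_c14 LD2_c55 LD3_c0) (f816137 IH)
def v23302 : LQ := Led Lsl_ft (LP (LK LD1_c7 LD2_c50 LD3_c24))
theorem f816166 : Led Lsl_ft (LP (LK LD1_c7 LD2_c50 LD3_c24)) = v23302 :=
  Lrfl
theorem f816171 : Led Lsl_ff (LP (LK LD1_c7 LD2_c50 LD3_c24)) = v23302 :=
  Lgr Lrot3 (Lpr_ft (f816166 IH) (Lpn v23302))
theorem f515745 : Led Lsl_at (LP (LK LD1_c7 LD2_c50 LD3_c24)) = (LP (LK LD1_c14 LD2_c47 LD3_c19)) :=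
  Lre_a IH (LK LD1_c7 LD2_c50 LD3_c24) (LK LD1_c14 LD2_c47 LD3_c19) Lrfl Lrfl
theorem f816176 : Led Lsl_gf (LP (LK LD1_c12 LD2_c8 LD3_c4)) = v23302 :=
  Lgr Lrot47 (Lpe (K46.f607392 IH) (Lpe (f515745 IH) (Lpr_ff (f816171 IH) (Lpn v23302))))
theorem f816177 : Led Lsl_gt (LP (LK LD1_c12 LD2_c7 LD3_c56)) = v23302 :=
  Lgr Lrot5 (Lpr_ft (K57.f756903 IH) (Lpe (K57.f756897 IH) (Lpr_gf (f816176 IH) (Lpn v23302))))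
def v22485 : LQ := Led Lsl_at (LP (LK LD1_c7 LD2_c37 LD3_c26))
theorem f807258 : Led Lsl_at (LP (LK LD1_c7 LD2_c37 LD3_c26)) = v22485 :=
  Lrfl
theorem f480898 : Led Lsl_bt (LP (LK LD1_c6 LD2_c56 LD3_c17)) = (LP (LK LD1_c13 LD2_c10 LD3_c34)) :=
  Lre_b IH (LK LD1_c6 LD2_c56 LD3_c17) (LK LD1_c13 LD2_c10 LD3_c34) Lrfl Lrfl
theorem f486375 : Led Lsl_ct (LP (LK LD1_c7 LD2_c37 LD3_c26)) = (LP (LK LD1_c6 LD2_c56 LD3_c17)) :=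
  Lgr Lrot83 (Lpe (K33.f481794 IH) (Lpe (K33.f485314 IH) (Lpr_bf (K33.f486371 IH) (Lpe (K33.f480896 IH) (Lpe (f480898 IH) (Lpn (LP (LK LD1_c6 LD2_c56 LD3_c17))))))))
theorem f486377 : Led Lsl_cf (LP (LK LD1_c7 LD2_c37 LD3_c26)) = (LP (LK LD1_c6 LD2_c56 LD3_c17)) :=
  Lgr Lrot11 (Lpr_ct (f486375 IH) (Lpn (LP (LK LD1_c6 LD2_c56 LD3_c17))))
theorem f807260 : Led Lsl_cf K63.v20400 = v22485 :=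
  Lgr Lrot1 (Lpe (K63.f786804 IH) (Lpe (f486377 IH) (Lpr_at (f807258 IH) (Lpn v22485))))
theorem f807261 : Led Lsl_ct K63.v20400 = v22485 :=
  Lgr Lrot59 (Lpr_cf (f807260 IH) (Lpn v22485))
theorem f786806 : Led Lsl_ff (LP (LK LD1_c6 LD2_c56 LD3_c18)) = K63.v20400 :=
  Lgr Lrot3 (Lpr_ft (K63.f786805 IH) (Lpn K63.v20400))
theorem f809055 : Led Lsl_bf K63.v20400 = K63.v22682 :=
  Lgr Lrot61 (Lpe (f786806 IH) (Lpe (K33.f486284 IH) (Lpr_ft (K63.f809054 IH) (Lpn K63.v22682))))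
theorem f809076 : K63.v20400 = (LP (LK LD1_c7 LD2_c41 LD3_c16)) :=
  Lefun (Lecon (Lfl_bf (f809055 IH)) (K63.f809073 IH).symm) (K33.f485094 IH)
theorem f809086 : v22485 = (LP (LK LD1_c12 LD2_c33 LD3_c60)) :=
  Lefun (Lecon (f807261 IH) (f809076 IH)) (Lfl_cf (K33.f486960 IH))
theorem f807262 : Led Lsl_ft (LP (LK LD1_c7 LD2_c37 LD3_c27)) = v22485 :=
  Lgr Lrot4 (Lpr_cf (K33.f486276 IH) (Lpr_ff (f786806 IH) (Lpr_cf (f807260 IH) (Lpn v22485))))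
def v22387 : LQ := Led Lsl_gf (LP (LK LD1_c7 LD2_c35 LD3_c39))
theorem f806595 : Led Lsl_gf (LP (LK LD1_c7 LD2_c35 LD3_c39)) = v22387 :=
  Lrfl
theorem f136766 : Led Lsl_et (LP (LK LD1_c3 LD2_c47 LD3_c24)) = (LP (LK LD1_c7 LD2_c35 LD3_c39)) :=
  Lre_e IH (LK LD1_c3 LD2_c47 LD3_c24) (LK LD1_c7 LD2_c35 LD3_c39) Lrfl Lrfl
theorem f469699 : Led Lsl_dt (LP (LK LD1_c3 LD2_c30 LD3_c19)) = (LP (LK LD1_c7 LD2_c2 LD3_c28)) :=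
  Lre_d IH (LK LD1_c3 LD2_c30 LD3_c19) (LK LD1_c7 LD2_c2 LD3_c28) Lrfl Lrfl
theorem f468565 : Led Lsl_gt (LP (LK LD1_c7 LD2_c2 LD3_c28)) = (LP (LK LD1_c13 LD2_c21 LD3_c11)) :=
  Lre_g IH (LK LD1_c7 LD2_c2 LD3_c28) (LK LD1_c13 LD2_c21 LD3_c11) Lrfl Lrfl
theorem f468564 : Led Lsl_bt (LP (LK LD1_c3 LD2_c30 LD3_c21)) = (LP (LK LD1_c7 LD2_c2 LD3_c28)) :=
  Lre_b IH (LK LD1_c3 LD2_c30 LD3_c21) (LK LD1_c7 LD2_c2 LD3_c28) Lrfl Lrfl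
theorem f654609 : Led Lsl_ft (LP (LK LD1_c7 LD2_c2 LD3_c28)) = (LP (LK LD1_c13 LD2_c16 LD3_c61)) :=
  Lgr Lrot75 (Lpe (f468564 IH) (Lpr_ff (K46.f654607 IH) (Lpe (K46.f477317 IH) (Lpn (LP (LK LD1_c13 LD2_c16 LD3_c61))))))
theorem f656854 : Led Lsl_at (LP (LK LD1_c13 LD2_c16 LD3_c61)) = (LP (LK LD1_c22 LD2_c32 LD3_c36)) :=
  Lre_a IH (LK LD1_c13 LD2_c16 LD3_c61) (LK LD1_c22 LD2_c32 LD3_c36) Lrfl Lrfl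
theorem f657413 : Led Lsl_gt (LP (LK LD1_c13 LD2_c21 LD3_c11)) = (LP (LK LD1_c22 LD2_c32 LD3_c36)) :=
  Lgr Lrot46 (Lpe (f468565 IH) (Lpr_ft (f654609 IH) (Lpr_at (f656854 IH) (Lpn (LP (LK LD1_c22 LD2_c32 LD3_c36))))))
theorem f469815 : Led Lsl_dt (LP (LK LD1_c23 LD2_c27 LD3_c0)) = (LP (LK LD1_c13 LD2_c56 LD3_c0)) :=
  Lre_d IH (LK LD1_c23 LD2_c27 LD3_c0) (LK LD1_c13 LD2_c56 LD3_c0) Lrfl Lrfl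
theorem f469690 : Led Lsl_dt (LP (LK LD1_c7 LD2_c2 LD3_c27)) = (LP (LK LD1_c13 LD2_c21 LD3_c9)) :=
  Lre_d IH (LK LD1_c7 LD2_c2 LD3_c27) (LK LD1_c13 LD2_c21 LD3_c9) Lrfl Lrfl
theorem f655208 : Led Lsl_ff (LP (LK LD1_c13 LD2_c56 LD3_c1)) = (LP (LK LD1_c13 LD2_c21 LD3_c9)) :=
  Lgr Lrot19 (Lpr_dt (K47.f469654 IH) (Lpr_ft (K46.f655202 IH) (Lpr_dt (f469690 IH) (Lpn (LP (LK LD1_c13 LD2_c21 LD3_c9))))))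
theorem f469823 : Led Lsl_at (LP (LK LD1_c13 LD2_c56 LD3_c1)) = (LP (LK LD1_c23 LD2_c27 LD3_c0)) :=
  Lre_a IH (LK LD1_c13 LD2_c56 LD3_c1) (LK LD1_c23 LD2_c27 LD3_c0) Lrfl Lrfl
theorem f477083 : Led Lsl_et (LP (LK LD1_c7 LD2_c51 LD3_c1)) = (LP (LK LD1_c3 LD2_c54 LD3_c39)) :=
  Lre_e IH (LK LD1_c7 LD2_c51 LD3_c1) (LK LD1_c3 LD2_c54 LD3_c39) Lrfl Lrfl
theorem f477084 : Led Lsl_dt (LP (LK LD1_c7 LD2_c51 LD3_c1)) = (LP (LK LD1_c14 LD2_c48 LD3_c34)) :=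
  Lre_d IH (LK LD1_c7 LD2_c51 LD3_c1) (LK LD1_c14 LD2_c48 LD3_c34) Lrfl Lrfl
theorem f477086 : Led Lsl_gt (LP (LK LD1_c13 LD2_c21 LD3_c9)) = (LP (LK LD1_c14 LD2_c48 LD3_c34)) :=
  Lgr Lrot139 (Lpe (f469690 IH) (Lpr_gf (K34.f469688 IH) (Lpe (K28.f122068 IH) (Lpr_dt (K7.f122067 IH) (Lpr_gf (K8.f142656 IH) (Lpe (K8.f136779 IH) (Lpr_et (K29.f136780 IH) (Lpr_gf (K29.f477074 IH) (Lpe (f477083 IH) (Lpr_dt (f477084 IH) (Lpn (LP (LK LD1_c14 LD2_c48 LD3_c34)))))))))))))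
theorem f657125 : Led Lsl_gf (LP (LK LD1_c23 LD2_c27 LD3_c0)) = (LP (LK LD1_c14 LD2_c48 LD3_c34)) :=
  Lgr Lrot76 (Lpe (f469823 IH) (Lpr_ff (f655208 IH) (Lpr_gt (f477086 IH) (Lpn (LP (LK LD1_c14 LD2_c48 LD3_c34))))))
theorem f527077 : Led Lsl_gt (LP (LK LD1_c7 LD2_c45 LD3_c35)) = (LP (LK LD1_c7 LD2_c51 LD3_c1)) :=
  Lgr Lrot46 (Lpe (K40.f477501 IH) (Lpr_ft (K40.f527071 IH) (Lpr_at (K34.f524378 IH) (Lpn (LP (LK LD1_c7 LD2_c51 LD3_c1))))))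
theorem f489538 : Led Lsl_gt (LP (LK LD1_c3 LD2_c51 LD3_c55)) = (LP (LK LD1_c7 LD2_c45 LD3_c40)) :=
  Lre_g IH (LK LD1_c3 LD2_c51 LD3_c55) (LK LD1_c7 LD2_c45 LD3_c40) Lrfl Lrfl
theorem f657415 : Led Lsl_df (LP (LK LD1_c13 LD2_c21 LD3_c11)) = (LP (LK LD1_c7 LD2_c45 LD3_c40)) :=
  Lgr Lrot153 (Lpr_gt (f657413 IH) (Lpr_dt (K46.f469872 IH) (Lpe (K46.f469837 IH) (Lpe (f469815 IH) (Lpr_gf (f657125 IH) (Lpe (f477084 IH) (Lpe (f527077 IH) (Lpe (K46.f477500 IH) (Lpr_gt (f489538 IH) (Lpn (LP (LK LD1_c7 LD2_c45 LD3_c40))))))))))))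
theorem f806598 : Led Lsl_et (LP (LK LD1_c7 LD2_c45 LD3_c40)) = v22387 :=
  Lgr Lrot185 (Lpe (f657415 IH) (Lpe (f468565 IH) (Lpe (f469699 IH) (Lpe (K34.f533015 IH) (Lpe (K46.f111103 IH) (Lpr_dt (K7.f122249 IH) (Lpr_gf (K42.f158008 IH) (Lpe (K42.f157972 IH) (Lpr_et (f136766 IH) (Lpr_gf (f806595 IH) (Lpn v22387)))))))))))
theorem f806102 : Led Lsl_ff (LP (LK LD1_c7 LD2_c47 LD3_c50)) = (LP (LK LD1_c7 LD2_c47 LD3_c24)) :=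
  Lgr Lrot3 (Lpr_ft (K63.f806096 IH) (Lpn (LP (LK LD1_c7 LD2_c47 LD3_c24))))
theorem f806106 : Led Lsl_ft (LP (LK LD1_c14 LD2_c42 LD3_c49)) = (LP (LK LD1_c13 LD2_c22 LD3_c49)) :=
  Lgr Lrot54 (Lpe (K62.f451238 IH) (Lpr_ff (f806102 IH) (Lpe (K63.f804601 IH) (Lpn (LP (LK LD1_c13 LD2_c22 LD3_c49))))))
theorem f804603 : Led Lsl_df (LP (LK LD1_c13 LD2_c22 LD3_c49)) = (LP (LK LD1_c7 LD2_c47 LD3_c24)) :=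
  Lgr Lrot38 (Lpr_dt (K63.f804601 IH) (Lpn (LP (LK LD1_c7 LD2_c47 LD3_c24))))
theorem f806076 : Led Lsl_af (LP (LK LD1_c14 LD2_c42 LD3_c51)) = (LP (LK LD1_c13 LD2_c22 LD3_c49)) :=
  Lgr Lrot117 (Lpr_dt (K62.f475965 IH) (Lpr_at (K63.f806070 IH) (Lpe (f804603 IH) (Lpn (LP (LK LD1_c13 LD2_c22 LD3_c49))))))
theorem f116744 : Led Lsl_ct (LP (LK LD1_c24 LD2_c1 LD3_c51)) = (LP (LK LD1_c14 LD2_c23 LD3_c26)) :=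
  Lre_c IH (LK LD1_c24 LD2_c1 LD3_c51) (LK LD1_c14 LD2_c23 LD3_c26) Lrfl Lrfl
theorem f513078 : Led Lsl_at (LP (LK LD1_c22 LD2_c13 LD3_c36)) = (LP (LK LD1_c30 LD2_c21 LD3_c50)) :=
  Lre_a IH (LK LD1_c22 LD2_c13 LD3_c36) (LK LD1_c30 LD2_c21 LD3_c50) Lrfl Lrfl
theorem f479317 : Led Lsl_ct (LP (LK LD1_c13 LD2_c22 LD3_c37)) = (LP (LK LD1_c22 LD2_c40 LD3_c8)) :=
  Lre_c IH (LK LD1_c13 LD2_c22 LD3_c37) (LK LD1_c22 LD2_c40 LD3_c8) Lrfl Lrfl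
theorem f513076 : Led Lsl_ft (LP (LK LD1_c22 LD2_c40 LD3_c8)) = (LP (LK LD1_c22 LD2_c13 LD3_c36)) :=
  Lgr Lrot4 (Lpe (f479317 IH) (Lpr_ff (K62.f513069 IH) (Lpe (K62.f513075 IH) (Lpn (LP (LK LD1_c22 LD2_c13 LD3_c36))))))
theorem f802179 : Led Lsl_gt (LP (LK LD1_c22 LD2_c40 LD3_c8)) = (LP (LK LD1_c24 LD2_c1 LD3_c51)) :=
  Lgr Lrot5 (Lpr_ft (f513076 IH) (Lpr_at (f513078 IH) (Lpr_gf (K62.f802175 IH) (Lpn (LP (LK LD1_c24 LD2_c1 LD3_c51))))))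
theorem f457620 : Led Lsl_gt (LP (LK LD1_c22 LD2_c40 LD3_c7)) = (LP (LK LD1_c13 LD2_c22 LD3_c37)) :=
  Lre_g IH (LK LD1_c22 LD2_c40 LD3_c7) (LK LD1_c13 LD2_c22 LD3_c37) Lrfl Lrfl
theorem f457892 : Led Lsl_ct (LP (LK LD1_c7 LD2_c47 LD3_c4)) = (LP (LK LD1_c3 LD2_c52 LD3_c50)) :=
  Lre_c IH (LK LD1_c7 LD2_c47 LD3_c4) (LK LD1_c3 LD2_c52 LD3_c50) Lrfl Lrfl
theorem f458025 : Led Lsl_gt (LP (LK LD1_c14 LD2_c41 LD3_c19)) = (LP (LK LD1_c7 LD2_c47 LD3_c4)) :=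
  Lre_g IH (LK LD1_c14 LD2_c41 LD3_c19) (LK LD1_c7 LD2_c47 LD3_c4) Lrfl Lrfl
theorem f804615 : Led Lsl_df (LP (LK LD1_c22 LD2_c40 LD3_c7)) = (LP (LK LD1_c14 LD2_c41 LD3_c19)) :=
  Lgr Lrot155 (Lpr_gt (f457620 IH) (Lpr_ct (f479317 IH) (Lpr_gt (f802179 IH) (Lpr_ct (f116744 IH) (Lpr_dt (K63.f116739 IH) (Lpr_cf (K63.f804607 IH) (Lpe (K34.f63022 IH) (Lpe (f457892 IH) (Lpe (f458025 IH) (Lpn (LP (LK LD1_c14 LD2_c41 LD3_c19))))))))))))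
theorem f457485 : Led Lsl_dt (LP (LK LD1_c7 LD2_c3 LD3_c22)) = (LP (LK LD1_c3 LD2_c30 LD3_c41)) :=
  Lre_d IH (LK LD1_c7 LD2_c3 LD3_c22) (LK LD1_c3 LD2_c30 LD3_c41) Lrfl Lrfl
theorem f457486 : Led Lsl_gt (LP (LK LD1_c13 LD2_c22 LD3_c50)) = (LP (LK LD1_c7 LD2_c3 LD3_c22)) :=
  Lre_g IH (LK LD1_c13 LD2_c22 LD3_c50) (LK LD1_c7 LD2_c3 LD3_c22) Lrfl Lrfl
theorem f475684 : Led Lsl_gf (LP (LK LD1_c14 LD2_c41 LD3_c19)) = (LP (LK LD1_c14 LD2_c41 LD3_c24)) :=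
  Lgr Lrot47 (Lpr_gt (f458025 IH) (Lpe (K48.f458014 IH) (Lpr_ff (K48.f475675 IH) (Lpn (LP (LK LD1_c14 LD2_c41 LD3_c24))))))
theorem f458053 : Led Lsl_at (LP (LK LD1_c7 LD2_c47 LD3_c19)) = (LP (LK LD1_c3 LD2_c52 LD3_c50)) :=
  Lre_a IH (LK LD1_c7 LD2_c47 LD3_c19) (LK LD1_c3 LD2_c52 LD3_c50) Lrfl Lrfl
theorem f475670 : Led Lsl_gf (LP (LK LD1_c7 LD2_c47 LD3_c25)) = (LP (LK LD1_c7 LD2_c47 LD3_c52)) :=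
  Lgr Lrot47 (Lpr_gt (K63.f458027 IH) (Lpe (f458053 IH) (Lpr_ff (K48.f475662 IH) (Lpn (LP (LK LD1_c7 LD2_c47 LD3_c52))))))
theorem f804617 : Led Lsl_df (LP (LK LD1_c13 LD2_c22 LD3_c50)) = (LP (LK LD1_c7 LD2_c47 LD3_c25)) :=
  Lgr Lrot153 (Lpr_gt (f457486 IH) (Lpr_dt (f457485 IH) (Lpe (K62.f457488 IH) (Lpe (K35.f457583 IH) (Lpe (f457620 IH) (Lpr_df (f804615 IH) (Lpr_gf (f475684 IH) (Lpe (K48.f475672 IH) (Lpe (f475670 IH) (Lpn (LP (LK LD1_c7 LD2_c47 LD3_c25))))))))))))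
theorem f804622 : Led Lsl_dt (LP (LK LD1_c13 LD2_c22 LD3_c50)) = (LP (LK LD1_c7 LD2_c47 LD3_c25)) :=
  Lgr Lrot42 (Lpr_df (f804617 IH) (Lpn (LP (LK LD1_c7 LD2_c47 LD3_c25))))
theorem f806082 : Led Lsl_ft (LP (LK LD1_c14 LD2_c42 LD3_c51)) = (LP (LK LD1_c13 LD2_c22 LD3_c50)) :=
  Lgr Lrot54 (Lpe (K62.f475963 IH) (Lpr_ff (K63.f806078 IH) (Lpe (f804622 IH) (Lpn (LP (LK LD1_c13 LD2_c22 LD3_c50))))))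
theorem f806108 : Led Lsl_af (LP (LK LD1_c14 LD2_c42 LD3_c49)) = (LP (LK LD1_c13 LD2_c22 LD3_c50)) :=
  Lgr Lrot45 (Lpr_ft (f806106 IH) (Lpe (f806076 IH) (Lpr_ft (f806082 IH) (Lpn (LP (LK LD1_c13 LD2_c22 LD3_c50))))))
def v20720 : LQ := Led Lsl_at (LP (LK LD1_c7 LD2_c3 LD3_c22))
theorem f789469 : Led Lsl_at (LP (LK LD1_c7 LD2_c3 LD3_c22)) = v20720 :=
  Lrfl
theorem f789471 : Led Lsl_df K62.v6808 = v20720 :=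
  Lgr Lrot18 (Lpe (K62.f658589 IH) (Lpr_dt (K63.f513073 IH) (Lpr_at (f789469 IH) (Lpn v20720))))
theorem f789472 : Led Lsl_dt K62.v6808 = v20720 :=
  Lgr Lrot42 (Lpr_df (f789471 IH) (Lpn v20720))
theorem f802019 : v20720 = (LP (LK LD1_c12 LD2_c34 LD3_c9)) :=
  Lefun (Lecon (f789472 IH) (K62.f801992 IH)) (K62.f24186 IH)
def v20594 : LQ := Led Lsl_bt (LP (LK LD1_c7 LD2_c0 LD3_c13))
theorem f788278 : Led Lsl_bt (LP (LK LD1_c7 LD2_c0 LD3_c13)) = v20594 :=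
  Lrfl
theorem f513694 : Led Lsl_ft (LP (LK LD1_c3 LD2_c30 LD3_c42)) = (LP (LK LD1_c7 LD2_c0 LD3_c13)) :=
  Lgr Lrot54 (Lpe (K29.f460524 IH) (Lpr_ff (K34.f513690 IH) (Lpe (K29.f463590 IH) (Lpn (LP (LK LD1_c7 LD2_c0 LD3_c13))))))
theorem f461765 : Led Lsl_bt (LP (LK LD1_c7 LD2_c3 LD3_c22)) = (LP (LK LD1_c3 LD2_c30 LD3_c42)) :=
  Lre_b IH (LK LD1_c7 LD2_c3 LD3_c22) (LK LD1_c3 LD2_c30 LD3_c42) Lrfl Lrfl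
theorem f788281 : Led Lsl_ff (LP (LK LD1_c7 LD2_c3 LD3_c22)) = v20594 :=
  Lgr Lrot25 (Lpr_bt (f461765 IH) (Lpr_ft (f513694 IH) (Lpr_bt (f788278 IH) (Lpn v20594))))
theorem f804467 : Led Lsl_gf (LP (LK LD1_c14 LD2_c42 LD3_c49)) = v20594 :=
  Lgr Lrot47 (Lpr_gt (K62.f804465 IH) (Lpq (f802019 IH) (Lpe (f789469 IH) (Lpr_ff (f788281 IH) (Lpn v20594)))))
theorem f806110 : Led Lsl_gf v20594 = (LP (LK LD1_c14 LD2_c42 LD3_c51)) :=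
  Lgr Lrot47 (Lpe (f804467 IH) (Lpr_af (f806108 IH) (Lpe (f806082 IH) (Lpn (LP (LK LD1_c14 LD2_c42 LD3_c51))))))
theorem f788282 : Led Lsl_dt K62.v6774 = v20594 :=
  Lgr Lrot60 (Lpe (K62.f658353 IH) (Lpe (f457485 IH) (Lpr_ff (f788281 IH) (Lpn v20594))))
theorem f58818 : Led Lsl_dt (LP (LK LD1_c6 LD2_c33 LD3_c35)) = (LP (LK LD1_c12 LD2_c34 LD3_c11)) :=
  Lre_d IH (LK LD1_c6 LD2_c33 LD3_c35) (LK LD1_c12 LD2_c34 LD3_c11) Lrfl Lrfl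
theorem f802064 : v20594 = (LP (LK LD1_c12 LD2_c34 LD3_c11)) :=
  Lefun (Lecon (f788282 IH) (K62.f802033 IH).symm) (f58818 IH)
theorem f65913 : Led Lsl_dt (LP (LK LD1_c12 LD2_c34 LD3_c11)) = (LP (LK LD1_c6 LD2_c33 LD3_c35)) :=
  Lre_d IH (LK LD1_c12 LD2_c34 LD3_c11) (LK LD1_c6 LD2_c33 LD3_c35) Lrfl Lrfl
def v18825 : LQ := Led Lsl_ct (LP (LK LD1_c6 LD2_c33 LD3_c35))
theorem f775964 : Led Lsl_ct (LP (LK LD1_c6 LD2_c33 LD3_c35)) = v18825 :=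
  Lrfl
theorem f802061 : (LP (LK LD1_c6 LD2_c51 LD3_c61)) = v18825 :=
  Lefun (Lecon (Lfl_cf (K62.f658348 IH)) (K62.f802033 IH).symm) (f775964 IH)
theorem f483818 : Led Lsl_gt (LP (LK LD1_c22 LD2_c13 LD3_c35)) = (LP (LK LD1_c13 LD2_c3 LD3_c34)) :=
  Lre_g IH (LK LD1_c22 LD2_c13 LD3_c35) (LK LD1_c13 LD2_c3 LD3_c34) Lrfl Lrfl
theorem f802860 : Led Lsl_gf (LP (LK LD1_c22 LD2_c13 LD3_c35)) = (LP (LK LD1_c21 LD2_c40 LD3_c24)) :=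
  Lgr Lrot47 (Lpr_gt (f483818 IH) (Lpe (K62.f512728 IH) (Lpr_ff (K62.f802852 IH) (Lpn (LP (LK LD1_c21 LD2_c40 LD3_c24))))))
theorem f24189 : Led Lsl_ct (LP (LK LD1_c6 LD2_c33 LD3_c34)) = (LP (LK LD1_c12 LD2_c34 LD3_c8)) :=
  Lre_c IH (LK LD1_c6 LD2_c33 LD3_c34) (LK LD1_c12 LD2_c34 LD3_c8) Lrfl Lrfl
theorem f802008 : K62.v20715 = (LP (LK LD1_c12 LD2_c34 LD3_c8)) :=
  Lefun (Lecon (K62.f789385 IH) (K62.f801992 IH)) (f24189 IH)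
theorem f113013 : Led Lsl_et (LP (LK LD1_c13 LD2_c10 LD3_c35)) = (LP (LK LD1_c6 LD2_c56 LD3_c18)) :=
  Lre_e IH (LK LD1_c13 LD2_c10 LD3_c35) (LK LD1_c6 LD2_c56 LD3_c18) Lrfl Lrfl
theorem f802864 : Led Lsl_df (LP (LK LD1_c22 LD2_c13 LD3_c35)) = (LP (LK LD1_c13 LD2_c10 LD3_c35)) :=
  Lgr Lrot132 (Lpr_gf (f802860 IH) (Lpe (K62.f65900 IH) (Lpq (f802008 IH) (Lpe (K62.f789383 IH) (Lpe (K24.f93205 IH) (Lpr_dt (K2.f93195 IH) (Lpe (K2.f24034 IH) (Lpr_df (K4.f112954 IH) (Lpr_et (K5.f12018 IH) (Lpe (K33.f11999 IH) (Lpe (f113013 IH) (Lpn (LP (LK LD1_c13 LD2_c10 LD3_c35))))))))))))))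
theorem f806112 : Led Lsl_gf (LP (LK LD1_c13 LD2_c10 LD3_c35)) = (LP (LK LD1_c14 LD2_c41 LD3_c14)) :=
  Lgr Lrot144 (Lpe (f802864 IH) (Lpr_gt (f483818 IH) (Lpr_dt (K62.f484290 IH) (Lpqs (f802061 IH) (Lpe (f775964 IH) (Lpe (f65913 IH) (Lpq (f802064 IH) (Lpr_gf (f806110 IH) (Lpe (K62.f475963 IH) (Lpe (K62.f475961 IH) (Lpe (K62.f458033 IH) (Lpn (LP (LK LD1_c14 LD2_c41 LD3_c14))))))))))))))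
theorem f475674 : Led Lsl_at (LP (LK LD1_c14 LD2_c41 LD3_c24)) = (LP (LK LD1_c7 LD2_c47 LD3_c7)) :=
  Lre_a IH (LK LD1_c14 LD2_c41 LD3_c24) (LK LD1_c7 LD2_c47 LD3_c7) Lrfl Lrfl
theorem f806114 : Led Lsl_gt (LP (LK LD1_c13 LD2_c10 LD3_c35)) = (LP (LK LD1_c7 LD2_c47 LD3_c7)) :=
  Lgr Lrot46 (Lpr_gf (f806112 IH) (Lpr_ft (K48.f475668 IH) (Lpr_at (f475674 IH) (Lpn (LP (LK LD1_c7 LD2_c47 LD3_c7))))))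
theorem f486281 : Led Lsl_et (LP (LK LD1_c7 LD2_c37 LD3_c27)) = (LP (LK LD1_c14 LD2_c22 LD3_c26)) :=
  Lre_e IH (LK LD1_c7 LD2_c37 LD3_c27) (LK LD1_c14 LD2_c22 LD3_c26) Lrfl Lrfl
theorem f486282 : Led Lsl_ct (LP (LK LD1_c14 LD2_c22 LD3_c26)) = (LP (LK LD1_c13 LD2_c10 LD3_c35)) :=
  Lgr Lrot15 (Lpe (f486281 IH) (Lpr_cf (K33.f486276 IH) (Lpe (f113013 IH) (Lpn (LP (LK LD1_c13 LD2_c10 LD3_c35))))))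
theorem f474072 : Led Lsl_bt (LP (LK LD1_c3 LD2_c52 LD3_c61)) = (LP (LK LD1_c1 LD2_c53 LD3_c4)) :=
  Lre_b IH (LK LD1_c3 LD2_c52 LD3_c61) (LK LD1_c1 LD2_c53 LD3_c4) Lrfl Lrfl
theorem f489537 : Led Lsl_bt (LP (LK LD1_c1 LD2_c52 LD3_c42)) = (LP (LK LD1_c3 LD2_c51 LD3_c55)) :=
  Lre_b IH (LK LD1_c1 LD2_c52 LD3_c42) (LK LD1_c3 LD2_c51 LD3_c55) Lrfl Lrfl
theorem f806118 : Led Lsl_bt (LP (LK LD1_c14 LD2_c22 LD3_c26)) = (LP (LK LD1_c7 LD2_c45 LD3_c40)) :=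
  Lgr Lrot92 (Lpr_ct (f486282 IH) (Lpr_gt (f806114 IH) (Lpe (K62.f475677 IH) (Lpr_bt (f474072 IH) (Lpr_gt (K29.f64686 IH) (Lpr_ct (K57.f657999 IH) (Lpe (K48.f657992 IH) (Lpe (K33.f63670 IH) (Lpr_bt (f489537 IH) (Lpr_gt (f489538 IH) (Lpn (LP (LK LD1_c7 LD2_c45 LD3_c40)))))))))))))
theorem f806599 : Led Lsl_bf (LP (LK LD1_c7 LD2_c37 LD3_c27)) = v22387 :=
  Lgr Lrot96 (Lpr_et (f486281 IH) (Lpr_bt (f806118 IH) (Lpr_et (f806598 IH) (Lpn v22387))))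
theorem f486978 : Led Lsl_bt (LP (LK LD1_c12 LD2_c33 LD3_c60)) = (LP (LK LD1_c7 LD2_c35 LD3_c42)) :=
  Lgr Lrot128 (Lpr_cf (K33.f486960 IH) (Lpe (K33.f485094 IH) (Lpe (K33.f96467 IH) (Lpr_bf (K33.f485114 IH) (Lpe (K33.f91280 IH) (Lpn (LP (LK LD1_c7 LD2_c35 LD3_c42))))))))
def v22393 : LQ := Led Lsl_ft (LP (LK LD1_c7 LD2_c35 LD3_c42))
theorem f806635 : Led Lsl_ft (LP (LK LD1_c7 LD2_c35 LD3_c42)) = v22393 :=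
  Lrfl
theorem f809093 : v22387 = v22393 :=
  (Llr Lrot61 (Lpe (f806599 IH) (Lpr_ft (f807262 IH) (Lpqs (f809086 IH) (Lpr_bt (f486978 IH) (Lpr_ft (f806635 IH) (Lpn v22393))))))).symm
theorem f806637 : Led Lsl_ff (LP (LK LD1_c7 LD2_c35 LD3_c42)) = v22393 :=
  Lgr Lrot3 (Lpr_ft (f806635 IH) (Lpn v22393))
def v22391 : LQ := Led Lsl_at (LP (LK LD1_c7 LD2_c35 LD3_c42))
theorem f806629 : Led Lsl_at (LP (LK LD1_c7 LD2_c35 LD3_c42)) = v22391 :=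
  Lrfl
def v22386 : LQ := Led Lsl_gt (LP (LK LD1_c7 LD2_c35 LD3_c39))
theorem f806591 : Led Lsl_gt (LP (LK LD1_c7 LD2_c35 LD3_c39)) = v22386 :=
  Lrfl
theorem f809094 : v22391 = v22386 :=
  (Llr Lrot26 (Lpe (f806629 IH) (Lpr_ff (f806637 IH) (Lpq (f809093 IH) (Lpe (f806595 IH) (Lpr_gt (f806591 IH) (Lpn v22386))))))).symm
theorem f806630 : Led Lsl_af (LP (LK LD1_c7 LD2_c35 LD3_c42)) = v22391 :=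
  Lgr Lrot0 (Lpr_at (f806629 IH) (Lpn v22391))
theorem f806631 : Led Lsl_ft (LP (LK LD1_c7 LD2_c35 LD3_c43)) = v22391 :=
  Lgr Lrot2 (Lpr_gt (K40.f91278 IH) (Lpr_gt (K33.f91273 IH) (Lpr_af (f806630 IH) (Lpn v22391))))
theorem f136769 : Led Lsl_bf (LP (LK LD1_c7 LD2_c35 LD3_c39)) = (LP (LK LD1_c3 LD2_c50 LD3_c28)) :=
  Lgr Lrot96 (Lpr_et (K29.f136707 IH) (Lpr_bt (K6.f136764 IH) (Lpr_et (K37.f136517 IH) (Lpn (LP (LK LD1_c3 LD2_c50 LD3_c28))))))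
theorem f486935 : Led Lsl_gf (LP (LK LD1_c7 LD2_c41 LD3_c60)) = (LP (LK LD1_c13 LD2_c8 LD3_c9)) :=
  Lgr Lrot76 (Lpe (K29.f12317 IH) (Lpr_ff (K29.f476829 IH) (Lpr_gt (K33.f486928 IH) (Lpn (LP (LK LD1_c13 LD2_c8 LD3_c9))))))
theorem f489042 : Led Lsl_ft (LP (LK LD1_c14 LD2_c10 LD3_c14)) = (LP (LK LD1_c22 LD2_c20 LD3_c5)) :=
  Lgr Lrot48 (Lpr_ff (K34.f489034 IH) (Lpn (LP (LK LD1_c22 LD2_c20 LD3_c5))))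
theorem f156616 : Led Lsl_et (LP (LK LD1_c7 LD2_c30 LD3_c12)) = (LP (LK LD1_c14 LD2_c10 LD3_c14)) :=
  Lre_e IH (LK LD1_c7 LD2_c30 LD3_c12) (LK LD1_c14 LD2_c10 LD3_c14) Lrfl Lrfl
theorem f162106 : Led Lsl_ff (LP (LK LD1_c7 LD2_c30 LD3_c12)) = (LP (LK LD1_c3 LD2_c47 LD3_c30)) :=
  Lgr Lrot25 (Lpr_bt (K8.f156618 IH) (Lpr_ft (K8.f162104 IH) (Lpr_bt (K6.f144960 IH) (Lpn (LP (LK LD1_c3 LD2_c47 LD3_c30))))))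
theorem f144977 : Led Lsl_ft (LP (LK LD1_c14 LD2_c19 LD3_c29)) = (LP (LK LD1_c7 LD2_c35 LD3_c55)) :=
  Lre_f IH (LK LD1_c14 LD2_c19 LD3_c29) (LK LD1_c7 LD2_c35 LD3_c55) Lrfl Lrfl
theorem f489048 : Led Lsl_ef (LP (LK LD1_c14 LD2_c19 LD3_c29)) = (LP (LK LD1_c22 LD2_c20 LD3_c5)) :=
  Lgr Lrot21 (Lpr_ft (f144977 IH) (Lpr_et (K8.f64444 IH) (Lpe (f162106 IH) (Lpr_et (f156616 IH) (Lpr_ft (f489042 IH) (Lpn (LP (LK LD1_c22 LD2_c20 LD3_c5))))))))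
theorem f489168 : Led Lsl_bt (LP (LK LD1_c13 LD2_c8 LD3_c24)) = (LP (LK LD1_c22 LD2_c20 LD3_c5)) :=
  Lgr Lrot119 (Lpr_ef (K34.f489166 IH) (Lpr_bf (K33.f485421 IH) (Lpr_ef (f489048 IH) (Lpn (LP (LK LD1_c22 LD2_c20 LD3_c5))))))
theorem f122797 : Led Lsl_bt (LP (LK LD1_c7 LD2_c49 LD3_c26)) = (LP (LK LD1_c3 LD2_c53 LD3_c59)) :=
  Lre_b IH (LK LD1_c7 LD2_c49 LD3_c26) (LK LD1_c3 LD2_c53 LD3_c59) Lrfl Lrfl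
theorem f122794 : Led Lsl_at (LP (LK LD1_c1 LD2_c54 LD3_c14)) = (LP (LK LD1_c3 LD2_c54 LD3_c53)) :=
  Lre_a IH (LK LD1_c1 LD2_c54 LD3_c14) (LK LD1_c3 LD2_c54 LD3_c53) Lrfl Lrfl
theorem f122798 : Led Lsl_at (LP (LK LD1_c7 LD2_c51 LD3_c19)) = (LP (LK LD1_c7 LD2_c49 LD3_c26)) :=
  Lgr Lrot67 (Lpe (K29.f122795 IH) (Lpe (f122794 IH) (Lpr_bf (K6.f122778 IH) (Lpe (K24.f122796 IH) (Lpe (f122797 IH) (Lpn (LP (LK LD1_c7 LD2_c49 LD3_c26))))))))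
theorem f437632 : Led Lsl_cf (LP (LK LD1_c7 LD2_c49 LD3_c26)) = (LP (LK LD1_c7 LD2_c49 LD3_c26)) :=
  Lgr Lrot1 (Lpe (K29.f123164 IH) (Lpr_ct (K33.f437630 IH) (Lpr_at (f122798 IH) (Lpn (LP (LK LD1_c7 LD2_c49 LD3_c26))))))
theorem f123383 : Led Lsl_gt (LP (LK LD1_c3 LD2_c54 LD3_c49)) = (LP (LK LD1_c7 LD2_c51 LD3_c16)) :=
  Lre_g IH (LK LD1_c3 LD2_c54 LD3_c49) (LK LD1_c7 LD2_c51 LD3_c16) Lrfl Lrfl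
theorem f123384 : Led Lsl_gt (LP (LK LD1_c7 LD2_c51 LD3_c16)) = (LP (LK LD1_c7 LD2_c49 LD3_c26)) :=
  Lgr Lrot46 (Lpe (f123383 IH) (Lpr_ft (K33.f123381 IH) (Lpr_at (f122798 IH) (Lpn (LP (LK LD1_c7 LD2_c49 LD3_c26))))))
theorem f123388 : Led Lsl_ct (LP (LK LD1_c14 LD2_c48 LD3_c58)) = (LP (LK LD1_c7 LD2_c51 LD3_c16)) :=
  Lre_c IH (LK LD1_c14 LD2_c48 LD3_c58) (LK LD1_c7 LD2_c51 LD3_c16) Lrfl Lrfl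
theorem f617711 : Led Lsl_gt (LP (LK LD1_c14 LD2_c1 LD3_c50)) = (LP (LK LD1_c14 LD2_c48 LD3_c58)) :=
  Lgr Lrot82 (Lpe (K61.f108114 IH) (Lpe (K40.f108100 IH) (Lpr_gf (K43.f560611 IH) (Lpr_cf (K46.f456077 IH) (Lpr_bt (K33.f122790 IH) (Lpe (K33.f437639 IH) (Lpe (f122797 IH) (Lpe (f437632 IH) (Lpe (f123384 IH) (Lpe (f123388 IH) (Lpn (LP (LK LD1_c14 LD2_c48 LD3_c58)))))))))))))
theorem f560615 : Led Lsl_bf (LP (LK LD1_c7 LD2_c13 LD3_c29)) = (LP (LK LD1_c6 LD2_c15 LD3_c8)) :=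
  Lgr Lrot24 (Lpr_bt (K40.f560613 IH) (Lpn (LP (LK LD1_c6 LD2_c15 LD3_c8))))
theorem f204049 : Led Lsl_bt (LP (LK LD1_c7 LD2_c20 LD3_c21)) = (LP (LK LD1_c13 LD2_c52 LD3_c44)) :=
  Lre_b IH (LK LD1_c7 LD2_c20 LD3_c21) (LK LD1_c13 LD2_c52 LD3_c44) Lrfl Lrfl
theorem f560617 : Led Lsl_cf (LP (LK LD1_c7 LD2_c20 LD3_c21)) = (LP (LK LD1_c6 LD2_c15 LD3_c8)) :=
  Lgr Lrot97 (Lpr_bt (f204049 IH) (Lpe (K61.f204046 IH) (Lpr_bt (K40.f108104 IH) (Lpe (K40.f108100 IH) (Lpr_bt (K40.f560613 IH) (Lpn (LP (LK LD1_c6 LD2_c15 LD3_c8))))))))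
theorem f560773 : Led Lsl_gt (LP (LK LD1_c13 LD2_c31 LD3_c61)) = (LP (LK LD1_c7 LD2_c20 LD3_c21)) :=
  Lgr Lrot65 (Lpe (K40.f524067 IH) (Lpr_bt (K35.f524913 IH) (Lpe (K62.f524926 IH) (Lpe (K33.f489256 IH) (Lpr_ct (K33.f489307 IH) (Lpr_gf (K33.f515542 IH) (Lpe (K33.f482569 IH) (Lpr_gf (K47.f560769 IH) (Lpr_bf (f560615 IH) (Lpe (f560617 IH) (Lpn (LP (LK LD1_c7 LD2_c20 LD3_c21)))))))))))))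
theorem f524340 : Led Lsl_af (LP (LK LD1_c6 LD2_c54 LD3_c57)) = (LP (LK LD1_c7 LD2_c39 LD3_c45)) :=
  Lgr Lrot0 (Lpr_at (K34.f524338 IH) (Lpn (LP (LK LD1_c7 LD2_c39 LD3_c45))))
theorem f524904 : Led Lsl_gf (LP (LK LD1_c13 LD2_c7 LD3_c53)) = (LP (LK LD1_c14 LD2_c26 LD3_c1)) :=
  Lgr Lrot47 (Lpr_gt (K47.f489328 IH) (Lpr_af (f524340 IH) (Lpr_ff (K35.f524892 IH) (Lpn (LP (LK LD1_c14 LD2_c26 LD3_c1))))))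
theorem f489162 : Led Lsl_ft (LP (LK LD1_c13 LD2_c8 LD3_c24)) = (LP (LK LD1_c13 LD2_c53 LD3_c52)) :=
  Lgr Lrot4 (Lpe (K34.f485685 IH) (Lpr_ff (K34.f489160 IH) (Lpr_cf (K33.f123454 IH) (Lpn (LP (LK LD1_c13 LD2_c53 LD3_c52))))))
theorem f524906 : Led Lsl_gt (LP (LK LD1_c13 LD2_c8 LD3_c24)) = (LP (LK LD1_c14 LD2_c26 LD3_c1)) :=
  Lgr Lrot5 (Lpr_ft (f489162 IH) (Lpr_at (K34.f162102 IH) (Lpr_gf (f524904 IH) (Lpn (LP (LK LD1_c14 LD2_c26 LD3_c1))))))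
theorem f123386 : Led Lsl_ct (LP (LK LD1_c7 LD2_c51 LD3_c16)) = (LP (LK LD1_c14 LD2_c48 LD3_c58)) :=
  Lre_c IH (LK LD1_c7 LD2_c51 LD3_c16) (LK LD1_c14 LD2_c48 LD3_c58) Lrfl Lrfl
theorem f486925 : Led Lsl_bt (LP (LK LD1_c7 LD2_c51 LD3_c16)) = (LP (LK LD1_c14 LD2_c48 LD3_c57)) :=
  Lre_b IH (LK LD1_c7 LD2_c51 LD3_c16) (LK LD1_c14 LD2_c48 LD3_c57) Lrfl Lrfl
theorem f617713 : Led Lsl_gf (LP (LK LD1_c22 LD2_c20 LD3_c32)) = (LP (LK LD1_c14 LD2_c48 LD3_c57)) :=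
  Lgr Lrot181 (Lpr_ct (K34.f485685 IH) (Lpr_gt (f524906 IH) (Lpe (K35.f524902 IH) (Lpe (K34.f524420 IH) (Lpr_gt (f560773 IH) (Lpe (K61.f204045 IH) (Lpe (K61.f204046 IH) (Lpr_gt (f617711 IH) (Lpe (f123386 IH) (Lpr_bt (f486925 IH) (Lpn (LP (LK LD1_c14 LD2_c48 LD3_c57)))))))))))))
theorem f806592 : Led Lsl_cf (LP (LK LD1_c14 LD2_c48 LD3_c57)) = v22386 :=
  Lgr Lrot125 (Lpe (f617713 IH) (Lpe (K34.f485653 IH) (Lpr_bt (f489168 IH) (Lpr_gt (K34.f486954 IH) (Lpe (K33.f486937 IH) (Lpr_ct (K33.f15247 IH) (Lpe (f486935 IH) (Lpe (K29.f136663 IH) (Lpe (f136769 IH) (Lpr_gt (f806591 IH) (Lpn v22386)))))))))))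
theorem f809095 : Led Lsl_ff (LP (LK LD1_c14 LD2_c19 LD3_c5)) = (LP (LK LD1_c14 LD2_c48 LD3_c57)) :=
  Lgr Lrot23 (Lpr_ct (K40.f132250 IH) (Lpr_ft (f806631 IH) (Lpqs (f809094 IH) (Lpe (f806592 IH) (Lpn (LP (LK LD1_c14 LD2_c48 LD3_c57)))))))
theorem f809101 : Led Lsl_ft (LP (LK LD1_c14 LD2_c19 LD3_c5)) = (LP (LK LD1_c14 LD2_c48 LD3_c57)) :=
  Lgr Lrot48 (Lpr_ff (f809095 IH) (Lpn (LP (LK LD1_c14 LD2_c48 LD3_c57))))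
theorem f485287 : Led Lsl_dt (LP (LK LD1_c23 LD2_c56 LD3_c61)) = (LP (LK LD1_c14 LD2_c19 LD3_c5)) :=
  Lre_d IH (LK LD1_c23 LD2_c56 LD3_c61) (LK LD1_c14 LD2_c19 LD3_c5) Lrfl Lrfl
theorem f617718 : Led Lsl_dt (LP (LK LD1_c14 LD2_c48 LD3_c57)) = (LP (LK LD1_c24 LD2_c35 LD3_c7)) :=
  Lre_d IH (LK LD1_c14 LD2_c48 LD3_c57) (LK LD1_c24 LD2_c35 LD3_c7) Lrfl Lrfl
theorem f809105 : Led Lsl_ff (LP (LK LD1_c23 LD2_c56 LD3_c61)) = (LP (LK LD1_c24 LD2_c35 LD3_c7)) :=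
  Lgr Lrot19 (Lpr_dt (f485287 IH) (Lpr_ft (f809101 IH) (Lpr_dt (f617718 IH) (Lpn (LP (LK LD1_c24 LD2_c35 LD3_c7))))))
theorem f123221 : Led Lsl_dt (LP (LK LD1_c14 LD2_c45 LD3_c43)) = (LP (LK LD1_c7 LD2_c49 LD3_c24)) :=
  Lre_d IH (LK LD1_c14 LD2_c45 LD3_c43) (LK LD1_c7 LD2_c49 LD3_c24) Lrfl Lrfl
theorem f485266 : Led Lsl_dt (LP (LK LD1_c14 LD2_c19 LD3_c5)) = (LP (LK LD1_c23 LD2_c56 LD3_c61)) :=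
  Lre_d IH (LK LD1_c14 LD2_c19 LD3_c5) (LK LD1_c23 LD2_c56 LD3_c61) Lrfl Lrfl
theorem f485267 : Led Lsl_bf (LP (LK LD1_c14 LD2_c45 LD3_c43)) = (LP (LK LD1_c23 LD2_c56 LD3_c61)) :=
  Lgr Lrot93 (Lpr_dt (f123221 IH) (Lpr_bt (K40.f485263 IH) (Lpr_dt (f485266 IH) (Lpn (LP (LK LD1_c23 LD2_c56 LD3_c61))))))
theorem f809115 : Led Lsl_bt (LP (LK LD1_c14 LD2_c48 LD3_c59)) = (LP (LK LD1_c24 LD2_c35 LD3_c7)) :=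
  Lre_b IH (LK LD1_c14 LD2_c48 LD3_c59) (LK LD1_c24 LD2_c35 LD3_c7) Lrfl Lrfl
theorem f809116 : Led Lsl_ft (LP (LK LD1_c14 LD2_c45 LD3_c43)) = (LP (LK LD1_c14 LD2_c48 LD3_c59)) :=
  Lgr Lrot75 (Lpr_bf (f485267 IH) (Lpr_ff (f809105 IH) (Lpe (f809115 IH) (Lpn (LP (LK LD1_c14 LD2_c48 LD3_c59))))))
theorem f809120 : Led Lsl_ff (LP (LK LD1_c14 LD2_c45 LD3_c43)) = (LP (LK LD1_c14 LD2_c48 LD3_c59)) :=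
  Lgr Lrot3 (Lpr_ft (f809116 IH) (Lpn (LP (LK LD1_c14 LD2_c48 LD3_c59))))
theorem f123389 : Led Lsl_dt (LP (LK LD1_c7 LD2_c51 LD3_c16)) = (LP (LK LD1_c14 LD2_c48 LD3_c59)) :=
  Lre_d IH (LK LD1_c7 LD2_c51 LD3_c16) (LK LD1_c14 LD2_c48 LD3_c59) Lrfl Lrfl
theorem f459179 : Led Lsl_et (LP (LK LD1_c13 LD2_c25 LD3_c25)) = (LP (LK LD1_c7 LD2_c4 LD3_c53)) :=
  Lre_e IH (LK LD1_c13 LD2_c25 LD3_c25) (LK LD1_c7 LD2_c4 LD3_c53) Lrfl Lrfl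
theorem f490001 : Led Lsl_et (LP (LK LD1_c7 LD2_c50 LD3_c18)) = (LP (LK LD1_c14 LD2_c47 LD3_c10)) :=
  Lre_e IH (LK LD1_c7 LD2_c50 LD3_c18) (LK LD1_c14 LD2_c47 LD3_c10) Lrfl Lrfl
theorem f459008 : Led Lsl_et (LP (LK LD1_c3 LD2_c31 LD3_c38)) = (LP (LK LD1_c7 LD2_c4 LD3_c55)) :=
  Lre_e IH (LK LD1_c3 LD2_c31 LD3_c38) (LK LD1_c7 LD2_c4 LD3_c55) Lrfl Lrfl
theorem f459027 : Led Lsl_et (LP (LK LD1_c13 LD2_c25 LD3_c27)) = (LP (LK LD1_c7 LD2_c4 LD3_c54)) :=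
  Lre_e IH (LK LD1_c13 LD2_c25 LD3_c27) (LK LD1_c7 LD2_c4 LD3_c54) Lrfl Lrfl
theorem f490002 : Led Lsl_dt (LP (LK LD1_c14 LD2_c47 LD3_c10)) = (LP (LK LD1_c13 LD2_c25 LD3_c27)) :=
  Lgr Lrot77 (Lpe (f490001 IH) (Lpr_df (K29.f489990 IH) (Lpe (f459008 IH) (Lpe (K28.f455770 IH) (Lpe (f459027 IH) (Lpn (LP (LK LD1_c13 LD2_c25 LD3_c27))))))))
theorem f490010 : Led Lsl_df (LP (LK LD1_c14 LD2_c47 LD3_c10)) = (LP (LK LD1_c13 LD2_c25 LD3_c27)) :=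
  Lgr Lrot38 (Lpr_dt (f490002 IH) (Lpn (LP (LK LD1_c13 LD2_c25 LD3_c27))))
theorem f490031 : Led Lsl_bt (LP (LK LD1_c14 LD2_c47 LD3_c10)) = (LP (LK LD1_c24 LD2_c33 LD3_c26)) :=
  Lre_b IH (LK LD1_c14 LD2_c47 LD3_c10) (LK LD1_c24 LD2_c33 LD3_c26) Lrfl Lrfl
theorem f466028 : Led Lsl_bt (LP (LK LD1_c22 LD2_c44 LD3_c19)) = (LP (LK LD1_c13 LD2_c25 LD3_c27)) :=
  Lre_b IH (LK LD1_c22 LD2_c44 LD3_c19) (LK LD1_c13 LD2_c25 LD3_c27) Lrfl Lrfl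
theorem f490032 : Led Lsl_dt (LP (LK LD1_c24 LD2_c33 LD3_c26)) = (LP (LK LD1_c22 LD2_c44 LD3_c19)) :=
  Lgr Lrot79 (Lpe (f490031 IH) (Lpr_df (f490010 IH) (Lpe (f466028 IH) (Lpn (LP (LK LD1_c22 LD2_c44 LD3_c19))))))
theorem f490035 : Led Lsl_et (LP (LK LD1_c14 LD2_c47 LD3_c8)) = (LP (LK LD1_c24 LD2_c33 LD3_c26)) :=
  Lre_e IH (LK LD1_c14 LD2_c47 LD3_c8) (LK LD1_c24 LD2_c33 LD3_c26) Lrfl Lrfl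
theorem f459158 : Led Lsl_et (LP (LK LD1_c22 LD2_c44 LD3_c19)) = (LP (LK LD1_c13 LD2_c25 LD3_c24)) :=
  Lre_e IH (LK LD1_c22 LD2_c44 LD3_c19) (LK LD1_c13 LD2_c25 LD3_c24) Lrfl Lrfl
theorem f459163 : Led Lsl_et (LP (LK LD1_c7 LD2_c4 LD3_c53)) = (LP (LK LD1_c13 LD2_c25 LD3_c25)) :=
  Lre_e IH (LK LD1_c7 LD2_c4 LD3_c53) (LK LD1_c13 LD2_c25 LD3_c25) Lrfl Lrfl
theorem f490036 : Led Lsl_df (LP (LK LD1_c14 LD2_c47 LD3_c8)) = (LP (LK LD1_c13 LD2_c25 LD3_c25)) :=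
  Lgr Lrot70 (Lpr_et (f490035 IH) (Lpr_dt (f490032 IH) (Lpr_et (f459158 IH) (Lpr_dt (K34.f459153 IH) (Lpr_et (f459163 IH) (Lpn (LP (LK LD1_c13 LD2_c25 LD3_c25))))))))
theorem f533017 : Led Lsl_gt (LP (LK LD1_c14 LD2_c48 LD3_c59)) = (LP (LK LD1_c14 LD2_c47 LD3_c8)) :=
  Lgr Lrot139 (Lpe (f123389 IH) (Lpe (f123383 IH) (Lpe (K28.f123200 IH) (Lpr_dt (K37.f123227 IH) (Lpe (K34.f531365 IH) (Lpe (K42.f148306 IH) (Lpr_et (K24.f148309 IH) (Lpr_gf (K34.f533011 IH) (Lpe (f459179 IH) (Lpe (f490036 IH) (Lpn (LP (LK LD1_c14 LD2_c47 LD3_c8)))))))))))))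
theorem f533110 : Led Lsl_et (LP (LK LD1_c13 LD2_c24 LD3_c39)) = (LP (LK LD1_c13 LD2_c25 LD3_c23)) :=
  Lgr Lrot158 (Lpe (K34.f459323 IH) (Lpr_ef (K34.f533104 IH) (Lpe (K34.f465874 IH) (Lpn (LP (LK LD1_c13 LD2_c25 LD3_c23))))))
theorem f123432 : Led Lsl_dt (LP (LK LD1_c7 LD2_c51 LD3_c17)) = (LP (LK LD1_c14 LD2_c48 LD3_c61)) :=
  Lre_d IH (LK LD1_c7 LD2_c51 LD3_c17) (LK LD1_c14 LD2_c48 LD3_c61) Lrfl Lrfl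
theorem f655859 : Led Lsl_gt (LP (LK LD1_c14 LD2_c47 LD3_c8)) = (LP (LK LD1_c14 LD2_c48 LD3_c61)) :=
  Lgr Lrot112 (Lpr_df (f490036 IH) (Lpr_et (f459179 IH) (Lpe (K34.f458999 IH) (Lpe (f533110 IH) (Lpr_dt (K34.f459209 IH) (Lpe (K46.f533350 IH) (Lpe (K33.f462923 IH) (Lpr_gf (K61.f655849 IH) (Lpe (K61.f485145 IH) (Lpr_dt (f123432 IH) (Lpn (LP (LK LD1_c14 LD2_c48 LD3_c61)))))))))))))
theorem f809124 : Led Lsl_at (LP (LK LD1_c14 LD2_c45 LD3_c43)) = (LP (LK LD1_c14 LD2_c48 LD3_c61)) :=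
  Lgr Lrot26 (Lpr_ff (f809120 IH) (Lpr_gt (f533017 IH) (Lpr_gt (f655859 IH) (Lpn (LP (LK LD1_c14 LD2_c48 LD3_c61))))))
theorem f485288 : Led Lsl_et (LP (LK LD1_c24 LD2_c31 LD3_c59)) = (LP (LK LD1_c14 LD2_c45 LD3_c43)) :=
  Lre_e IH (LK LD1_c24 LD2_c31 LD3_c59) (LK LD1_c14 LD2_c45 LD3_c43) Lrfl Lrfl
theorem f123442 : Led Lsl_et (LP (LK LD1_c14 LD2_c48 LD3_c61)) = (LP (LK LD1_c24 LD2_c35 LD3_c13)) :=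
  Lre_e IH (LK LD1_c14 LD2_c48 LD3_c61) (LK LD1_c24 LD2_c35 LD3_c13) Lrfl Lrfl
theorem f809132 : Led Lsl_af (LP (LK LD1_c24 LD2_c31 LD3_c59)) = (LP (LK LD1_c24 LD2_c35 LD3_c13)) :=
  Lgr Lrot50 (Lpr_et (f485288 IH) (Lpr_at (f809124 IH) (Lpr_et (f123442 IH) (Lpn (LP (LK LD1_c24 LD2_c35 LD3_c13))))))
theorem f123223 : Led Lsl_et (LP (LK LD1_c14 LD2_c45 LD3_c44)) = (LP (LK LD1_c7 LD2_c49 LD3_c24)) :=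
  Lre_e IH (LK LD1_c14 LD2_c45 LD3_c44) (LK LD1_c7 LD2_c49 LD3_c24) Lrfl Lrfl
theorem f613777 : Led Lsl_dt (LP (LK LD1_c14 LD2_c45 LD3_c44)) = (LP (LK LD1_c22 LD2_c42 LD3_c58)) :=
  Lgr Lrot56 (Lpr_et (f123223 IH) (Lpr_gt (K40.f123204 IH) (Lpe (K33.f123428 IH) (Lpr_dt (K34.f531356 IH) (Lpqs (K37.f544129 IH) (Lpr_gt (K62.f496092 IH) (Lpr_df (K62.f571446 IH) (Lpr_et (K34.f436320 IH) (Lpe (K34.f533133 IH) (Lpr_dt (K40.f459165 IH) (Lpr_gt (K47.f458918 IH) (Lpn (LP (LK LD1_c22 LD2_c42 LD3_c58))))))))))))))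
theorem f485280 : Led Lsl_et (LP (LK LD1_c7 LD2_c49 LD3_c24)) = (LP (LK LD1_c14 LD2_c45 LD3_c44)) :=
  Lre_e IH (LK LD1_c7 LD2_c49 LD3_c24) (LK LD1_c14 LD2_c45 LD3_c44) Lrfl Lrfl
theorem f613783 : Led Lsl_et (LP (LK LD1_c22 LD2_c42 LD3_c58)) = (LP (LK LD1_c30 LD2_c40 LD3_c14)) :=
  Lre_e IH (LK LD1_c22 LD2_c42 LD3_c58) (LK LD1_c30 LD2_c40 LD3_c14) Lrfl Lrfl
theorem f613784 : Led Lsl_df (LP (LK LD1_c24 LD2_c31 LD3_c59)) = (LP (LK LD1_c30 LD2_c40 LD3_c14)) :=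
  Lgr Lrot70 (Lpr_et (f485288 IH) (Lpr_dt (f123221 IH) (Lpr_et (f485280 IH) (Lpr_dt (f613777 IH) (Lpr_et (f613783 IH) (Lpn (LP (LK LD1_c30 LD2_c40 LD3_c14))))))))
theorem f613788 : Led Lsl_dt (LP (LK LD1_c24 LD2_c31 LD3_c59)) = (LP (LK LD1_c30 LD2_c40 LD3_c14)) :=
  Lgr Lrot42 (Lpr_df (f613784 IH) (Lpn (LP (LK LD1_c30 LD2_c40 LD3_c14))))
theorem f123444 : Led Lsl_et (LP (LK LD1_c14 LD2_c49 LD3_c0)) = (LP (LK LD1_c7 LD2_c51 LD3_c17)) :=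
  Lre_e IH (LK LD1_c14 LD2_c49 LD3_c0) (LK LD1_c7 LD2_c51 LD3_c17) Lrfl Lrfl
theorem f465921 : Led Lsl_ff (LP (LK LD1_c13 LD2_c56 LD3_c60)) = (LP (LK LD1_c14 LD2_c5 LD3_c56)) :=
  Lgr Lrot23 (Lpr_ct (K47.f465728 IH) (Lpr_ft (K47.f465911 IH) (Lpr_ct (K34.f463555 IH) (Lpn (LP (LK LD1_c14 LD2_c5 LD3_c56))))))
theorem f465880 : Led Lsl_at (LP (LK LD1_c13 LD2_c56 LD3_c60)) = (LP (LK LD1_c13 LD2_c25 LD3_c24)) :=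
  Lgr Lrot100 (Lpr_af (K34.f465868 IH) (Lpn (LP (LK LD1_c13 LD2_c25 LD3_c24))))
theorem f459197 : Led Lsl_gt (LP (LK LD1_c22 LD2_c44 LD3_c17)) = (LP (LK LD1_c13 LD2_c25 LD3_c24)) :=
  Lre_g IH (LK LD1_c22 LD2_c44 LD3_c17) (LK LD1_c13 LD2_c25 LD3_c24) Lrfl Lrfl
theorem f466070 : Led Lsl_gf (LP (LK LD1_c22 LD2_c44 LD3_c17)) = (LP (LK LD1_c14 LD2_c5 LD3_c56)) :=
  Lgr Lrot47 (Lpr_gt (f459197 IH) (Lpe (f465880 IH) (Lpr_ff (f465921 IH) (Lpn (LP (LK LD1_c14 LD2_c5 LD3_c56))))))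
theorem f535206 : Led Lsl_dt (LP (LK LD1_c14 LD2_c49 LD3_c0)) = (LP (LK LD1_c22 LD2_c44 LD3_c17)) :=
  Lgr Lrot56 (Lpr_et (f123444 IH) (Lpr_gt (K33.f123429 IH) (Lpe (K28.f123200 IH) (Lpr_dt (K37.f123227 IH) (Lpe (K34.f202548 IH) (Lpe (K42.f148306 IH) (Lpr_et (K24.f148309 IH) (Lpr_gt (K46.f533013 IH) (Lpr_dt (K34.f465845 IH) (Lpe (f466070 IH) (Lpn (LP (LK LD1_c22 LD2_c44 LD3_c17)))))))))))))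
theorem f123441 : Led Lsl_dt (LP (LK LD1_c14 LD2_c48 LD3_c61)) = (LP (LK LD1_c7 LD2_c51 LD3_c17)) :=
  Lre_d IH (LK LD1_c14 LD2_c48 LD3_c61) (LK LD1_c7 LD2_c51 LD3_c17) Lrfl Lrfl
theorem f485333 : Led Lsl_et (LP (LK LD1_c24 LD2_c35 LD3_c13)) = (LP (LK LD1_c14 LD2_c48 LD3_c61)) :=
  Lre_e IH (LK LD1_c24 LD2_c35 LD3_c13) (LK LD1_c14 LD2_c48 LD3_c61) Lrfl Lrfl
theorem f535212 : Led Lsl_et (LP (LK LD1_c22 LD2_c44 LD3_c17)) = (LP (LK LD1_c30 LD2_c41 LD3_c28)) :=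
  Lre_e IH (LK LD1_c22 LD2_c44 LD3_c17) (LK LD1_c30 LD2_c41 LD3_c28) Lrfl Lrfl
theorem f535213 : Led Lsl_df (LP (LK LD1_c24 LD2_c35 LD3_c13)) = (LP (LK LD1_c30 LD2_c41 LD3_c28)) :=
  Lgr Lrot70 (Lpr_et (f485333 IH) (Lpr_dt (f123441 IH) (Lpr_et (K61.f485145 IH) (Lpr_dt (f535206 IH) (Lpr_et (f535212 IH) (Lpn (LP (LK LD1_c30 LD2_c41 LD3_c28))))))))
theorem f809136 : Led Lsl_at (LP (LK LD1_c30 LD2_c40 LD3_c14)) = (LP (LK LD1_c30 LD2_c41 LD3_c28)) :=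
  Lgr Lrot51 (Lpe (f613788 IH) (Lpr_af (f809132 IH) (Lpr_df (f535213 IH) (Lpn (LP (LK LD1_c30 LD2_c41 LD3_c28))))))
theorem f466074 : Led Lsl_et (LP (LK LD1_c30 LD2_c41 LD3_c28)) = (LP (LK LD1_c22 LD2_c44 LD3_c17)) :=
  Lre_e IH (LK LD1_c30 LD2_c41 LD3_c28) (LK LD1_c22 LD2_c44 LD3_c17) Lrfl Lrfl
theorem f809140 : Led Lsl_af (LP (LK LD1_c22 LD2_c42 LD3_c58)) = (LP (LK LD1_c22 LD2_c44 LD3_c17)) :=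
  Lgr Lrot50 (Lpr_et (f613783 IH) (Lpr_at (f809136 IH) (Lpr_et (f466074 IH) (Lpn (LP (LK LD1_c22 LD2_c44 LD3_c17))))))
theorem f459054 : Led Lsl_gt (LP (LK LD1_c22 LD2_c42 LD3_c59)) = (LP (LK LD1_c13 LD2_c24 LD3_c40)) :=
  Lre_g IH (LK LD1_c22 LD2_c42 LD3_c59) (LK LD1_c13 LD2_c24 LD3_c40) Lrfl Lrfl
theorem f809148 : Led Lsl_ft (LP (LK LD1_c22 LD2_c42 LD3_c59)) = (LP (LK LD1_c22 LD2_c44 LD3_c17)) :=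
  Lgr Lrot2 (Lpr_gt (f459054 IH) (Lpr_gt (K47.f458918 IH) (Lpr_af (f809140 IH) (Lpn (LP (LK LD1_c22 LD2_c44 LD3_c17))))))
theorem f809153 : Led Lsl_ff (LP (LK LD1_c22 LD2_c42 LD3_c59)) = (LP (LK LD1_c22 LD2_c44 LD3_c17)) :=
  Lgr Lrot3 (Lpr_ft (f809148 IH) (Lpn (LP (LK LD1_c22 LD2_c44 LD3_c17))))
theorem f809159 : Led Lsl_at (LP (LK LD1_c22 LD2_c42 LD3_c59)) = (LP (LK LD1_c22 LD2_c44 LD3_c16)) :=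
  Lgr Lrot26 (Lpr_ff (f809153 IH) (Lpr_gt (f459197 IH) (Lpr_gt (K40.f458964 IH) (Lpn (LP (LK LD1_c22 LD2_c44 LD3_c16))))))
theorem f809142 : Led Lsl_at (LP (LK LD1_c22 LD2_c42 LD3_c58)) = (LP (LK LD1_c22 LD2_c44 LD3_c17)) :=
  Lgr Lrot100 (Lpr_af (f809140 IH) (Lpn (LP (LK LD1_c22 LD2_c44 LD3_c17))))
theorem f809167 : Led Lsl_ff (LP (LK LD1_c22 LD2_c42 LD3_c58)) = (LP (LK LD1_c22 LD2_c44 LD3_c16)) :=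
  Lgr Lrot30 (Lpr_at (f809142 IH) (Lpe (f809153 IH) (Lpr_at (f809159 IH) (Lpn (LP (LK LD1_c22 LD2_c44 LD3_c16))))))
theorem f809175 : Led Lsl_ft (LP (LK LD1_c22 LD2_c42 LD3_c58)) = (LP (LK LD1_c22 LD2_c44 LD3_c16)) :=
  Lgr Lrot48 (Lpr_ff (f809167 IH) (Lpn (LP (LK LD1_c22 LD2_c44 LD3_c16))))
theorem f451976 : Led Lsl_ct (LP (LK LD1_c14 LD2_c54 LD3_c9)) = (LP (LK LD1_c24 LD2_c41 LD3_c10)) :=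
  Lre_c IH (LK LD1_c14 LD2_c54 LD3_c9) (LK LD1_c24 LD2_c41 LD3_c10) Lrfl Lrfl
theorem f534462 : Led Lsl_cf (LP (LK LD1_c31 LD2_c3 LD3_c0)) = (LP (LK LD1_c30 LD2_c41 LD3_c29)) :=
  Lgr Lrot11 (Lpr_ct (K46.f534436 IH) (Lpn (LP (LK LD1_c30 LD2_c41 LD3_c29))))
theorem f655855 : Led Lsl_df (LP (LK LD1_c24 LD2_c41 LD3_c10)) = (LP (LK LD1_c31 LD2_c3 LD3_c0)) :=
  Lgr Lrot162 (Lpe (f451976 IH) (Lpe (K37.f451943 IH) (Lpe (K61.f452048 IH) (Lpr_gf (K61.f655849 IH) (Lpr_dt (f535206 IH) (Lpr_gt (f459197 IH) (Lpr_ct (K34.f459034 IH) (Lpr_gt (K46.f459149 IH) (Lpe (f534462 IH) (Lpn (LP (LK LD1_c31 LD2_c3 LD3_c0))))))))))))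
theorem f452050 : Led Lsl_ct (LP (LK LD1_c24 LD2_c41 LD3_c10)) = (LP (LK LD1_c14 LD2_c54 LD3_c9)) :=
  Lre_c IH (LK LD1_c24 LD2_c41 LD3_c10) (LK LD1_c14 LD2_c54 LD3_c9) Lrfl Lrfl
theorem f655866 : Led Lsl_df (LP (LK LD1_c14 LD2_c54 LD3_c9)) = (LP (LK LD1_c22 LD2_c44 LD3_c16)) :=
  Lgr Lrot84 (Lpe (f452050 IH) (Lpr_df (f655855 IH) (Lpe (K46.f534430 IH) (Lpe (K46.f534429 IH) (Lpr_gf (K46.f534425 IH) (Lpe (K34.f465874 IH) (Lpr_gt (K34.f458999 IH) (Lpr_dt (K34.f459155 IH) (Lpr_gt (K40.f458964 IH) (Lpn (LP (LK LD1_c22 LD2_c44 LD3_c16))))))))))))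
theorem f809181 : Led Lsl_ff (LP (LK LD1_c14 LD2_c45 LD3_c44)) = (LP (LK LD1_c14 LD2_c54 LD3_c9)) :=
  Lgr Lrot19 (Lpr_dt (f613777 IH) (Lpr_ft (f809175 IH) (Lpe (f655866 IH) (Lpn (LP (LK LD1_c14 LD2_c54 LD3_c9))))))
theorem f485274 : Led Lsl_ct (LP (LK LD1_c14 LD2_c45 LD3_c44)) = (LP (LK LD1_c24 LD2_c31 LD3_c57)) :=
  Lre_c IH (LK LD1_c14 LD2_c45 LD3_c44) (LK LD1_c24 LD2_c31 LD3_c57) Lrfl Lrfl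
theorem f809185 : Led Lsl_ft (LP (LK LD1_c24 LD2_c31 LD3_c57)) = (LP (LK LD1_c24 LD2_c41 LD3_c10)) :=
  Lgr Lrot4 (Lpe (f485274 IH) (Lpr_ff (f809181 IH) (Lpe (f452050 IH) (Lpn (LP (LK LD1_c24 LD2_c41 LD3_c10))))))
theorem f809189 : Led Lsl_ff (LP (LK LD1_c24 LD2_c31 LD3_c57)) = (LP (LK LD1_c24 LD2_c41 LD3_c10)) :=
  Lgr Lrot3 (Lpr_ft (f809185 IH) (Lpn (LP (LK LD1_c24 LD2_c41 LD3_c10))))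
theorem f610413 : Led Lsl_et (LP (LK LD1_c14 LD2_c2 LD3_c4)) = (LP (LK LD1_c23 LD2_c35 LD3_c1)) :=
  Lre_e IH (LK LD1_c14 LD2_c2 LD3_c4) (LK LD1_c23 LD2_c35 LD3_c1) Lrfl Lrfl
theorem f462525 : Led Lsl_et (LP (LK LD1_c24 LD2_c40 LD3_c52)) = (LP (LK LD1_c14 LD2_c53 LD3_c58)) :=
  Lre_e IH (LK LD1_c24 LD2_c40 LD3_c52) (LK LD1_c14 LD2_c53 LD3_c58) Lrfl Lrfl
theorem f793247 : Led Lsl_at (LP (LK LD1_c23 LD2_c35 LD3_c1)) = (LP (LK LD1_c24 LD2_c40 LD3_c52)) :=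
  Lgr Lrot80 (Lpe (f610413 IH) (Lpr_af (K62.f793243 IH) (Lpe (f462525 IH) (Lpn (LP (LK LD1_c24 LD2_c40 LD3_c52))))))
theorem f489394 : Led Lsl_et (LP (LK LD1_c23 LD2_c3 LD3_c22)) = (LP (LK LD1_c30 LD2_c52 LD3_c44)) :=
  Lre_e IH (LK LD1_c23 LD2_c3 LD3_c22) (LK LD1_c30 LD2_c52 LD3_c44) Lrfl Lrfl
theorem f610411 : Led Lsl_dt (LP (LK LD1_c14 LD2_c2 LD3_c4)) = (LP (LK LD1_c22 LD2_c45 LD3_c14)) :=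
  Lgr Lrot42 (Lpr_df (K61.f610378 IH) (Lpn (LP (LK LD1_c22 LD2_c45 LD3_c14))))
theorem f462559 : Led Lsl_et (LP (LK LD1_c23 LD2_c35 LD3_c1)) = (LP (LK LD1_c14 LD2_c2 LD3_c4)) :=
  Lre_e IH (LK LD1_c23 LD2_c35 LD3_c1) (LK LD1_c14 LD2_c2 LD3_c4) Lrfl Lrfl
theorem f610418 : Led Lsl_dt (LP (LK LD1_c30 LD2_c52 LD3_c44)) = (LP (LK LD1_c23 LD2_c35 LD3_c1)) :=
  Lgr Lrot77 (Lpe (f489394 IH) (Lpe (K40.f116261 IH) (Lpr_ef (K61.f610414 IH) (Lpe (f610411 IH) (Lpe (f462559 IH) (Lpn (LP (LK LD1_c23 LD2_c35 LD3_c1))))))))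
theorem f469301 : Led Lsl_et (LP (LK LD1_c14 LD2_c5 LD3_c17)) = (LP (LK LD1_c23 LD2_c38 LD3_c29)) :=
  Lre_e IH (LK LD1_c14 LD2_c5 LD3_c17) (LK LD1_c23 LD2_c38 LD3_c29) Lrfl Lrfl
theorem f619110 : Led Lsl_dt (LP (LK LD1_c23 LD2_c38 LD3_c29)) = (LP (LK LD1_c24 LD2_c40 LD3_c52)) :=
  Lgr Lrot77 (Lpe (f469301 IH) (Lpe (K55.f439572 IH) (Lpe (K48.f469279 IH) (Lpr_df (K62.f554216 IH) (Lpe (f462525 IH) (Lpn (LP (LK LD1_c24 LD2_c40 LD3_c52))))))))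
theorem f619112 : Led Lsl_df (LP (LK LD1_c23 LD2_c38 LD3_c29)) = (LP (LK LD1_c24 LD2_c40 LD3_c52)) :=
  Lgr Lrot38 (Lpr_dt (f619110 IH) (Lpn (LP (LK LD1_c24 LD2_c40 LD3_c52))))
theorem f793251 : Led Lsl_af (LP (LK LD1_c30 LD2_c52 LD3_c44)) = (LP (LK LD1_c23 LD2_c38 LD3_c29)) :=
  Lgr Lrot117 (Lpr_dt (f610418 IH) (Lpr_at (f793247 IH) (Lpe (f619112 IH) (Lpn (LP (LK LD1_c23 LD2_c38 LD3_c29))))))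
theorem f554154 : Led Lsl_et (LP (LK LD1_c30 LD2_c52 LD3_c44)) = (LP (LK LD1_c23 LD2_c3 LD3_c22)) :=
  Lre_e IH (LK LD1_c30 LD2_c52 LD3_c44) (LK LD1_c23 LD2_c3 LD3_c22) Lrfl Lrfl
theorem f793255 : Led Lsl_at (LP (LK LD1_c23 LD2_c3 LD3_c22)) = (LP (LK LD1_c14 LD2_c5 LD3_c17)) :=
  Lgr Lrot80 (Lpe (f554154 IH) (Lpr_af (f793251 IH) (Lpe (f469301 IH) (Lpn (LP (LK LD1_c14 LD2_c5 LD3_c17))))))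
theorem f793265 : Led Lsl_ff (LP (LK LD1_c23 LD2_c3 LD3_c22)) = (LP (LK LD1_c14 LD2_c5 LD3_c20)) :=
  Lgr Lrot30 (Lpr_at (f793255 IH) (Lpr_ft (K61.f792533 IH) (Lpe (K61.f792539 IH) (Lpn (LP (LK LD1_c14 LD2_c5 LD3_c20))))))
theorem f793273 : Led Lsl_ft (LP (LK LD1_c23 LD2_c3 LD3_c22)) = (LP (LK LD1_c14 LD2_c5 LD3_c20)) :=
  Lgr Lrot48 (Lpr_ff (f793265 IH) (Lpn (LP (LK LD1_c14 LD2_c5 LD3_c20))))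
theorem f793279 : Led Lsl_ff (LP (LK LD1_c13 LD2_c38 LD3_c15)) = (LP (LK LD1_c7 LD2_c27 LD3_c48)) :=
  Lgr Lrot19 (Lpr_dt (K40.f116261 IH) (Lpr_ft (f793273 IH) (Lpr_dt (K55.f439641 IH) (Lpn (LP (LK LD1_c7 LD2_c27 LD3_c48))))))
theorem f793281 : Led Lsl_ft (LP (LK LD1_c23 LD2_c3 LD3_c21)) = (LP (LK LD1_c14 LD2_c5 LD3_c19)) :=
  Lgr Lrot75 (Lpe (K37.f116266 IH) (Lpr_ff (f793279 IH) (Lpe (K47.f439644 IH) (Lpn (LP (LK LD1_c14 LD2_c5 LD3_c19))))))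
theorem f793287 : Led Lsl_af (LP (LK LD1_c13 LD2_c55 LD3_c26)) = (LP (LK LD1_c14 LD2_c5 LD3_c19)) :=
  Lgr Lrot31 (Lpr_gf (K46.f534425 IH) (Lpe (K37.f473491 IH) (Lpr_ft (f793281 IH) (Lpn (LP (LK LD1_c14 LD2_c5 LD3_c19))))))
theorem f793293 : Led Lsl_at (LP (LK LD1_c23 LD2_c26 LD3_c10)) = (LP (LK LD1_c23 LD2_c38 LD3_c30)) :=
  Lgr Lrot51 (Lpe (K46.f534429 IH) (Lpr_af (f793287 IH) (Lpe (K40.f533931 IH) (Lpn (LP (LK LD1_c23 LD2_c38 LD3_c30))))))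
theorem f607564 : Led Lsl_bt (LP (LK LD1_c21 LD2_c14 LD3_c30)) = (LP (LK LD1_c29 LD2_c55 LD3_c17)) :=
  Lre_b IH (LK LD1_c21 LD2_c14 LD3_c30) (LK LD1_c29 LD2_c55 LD3_c17) Lrfl Lrfl
theorem f792511 : Led Lsl_ff (LP (LK LD1_c23 LD2_c26 LD3_c10)) = (LP (LK LD1_c29 LD2_c55 LD3_c17)) :=
  Lgr Lrot25 (Lpr_bt (K47.f534476 IH) (Lpr_ft (K61.f792509 IH) (Lpr_bt (f607564 IH) (Lpn (LP (LK LD1_c29 LD2_c55 LD3_c17))))))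
theorem f533932 : Led Lsl_gt (LP (LK LD1_c31 LD2_c8 LD3_c35)) = (LP (LK LD1_c23 LD2_c38 LD3_c30)) :=
  Lre_g IH (LK LD1_c31 LD2_c8 LD3_c35) (LK LD1_c23 LD2_c38 LD3_c30) Lrfl Lrfl
theorem f793357 : Led Lsl_gt (LP (LK LD1_c29 LD2_c55 LD3_c17)) = (LP (LK LD1_c31 LD2_c8 LD3_c35)) :=
  Lgr Lrot5 (Lpe (f792511 IH) (Lpr_at (f793293 IH) (Lpe (f533932 IH) (Lpn (LP (LK LD1_c31 LD2_c8 LD3_c35))))))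
theorem f436383 : Led Lsl_et (LP (LK LD1_c7 LD2_c26 LD3_c31)) = (LP (LK LD1_c14 LD2_c3 LD3_c56)) :=
  Lre_e IH (LK LD1_c7 LD2_c26 LD3_c31) (LK LD1_c14 LD2_c3 LD3_c56) Lrfl Lrfl
theorem f439633 : Led Lsl_dt (LP (LK LD1_c14 LD2_c1 LD3_c55)) = (LP (LK LD1_c7 LD2_c27 LD3_c42)) :=
  Lgr Lrot79 (Lpe (K42.f159726 IH) (Lpr_df (K39.f439631 IH) (Lpe (K24.f148297 IH) (Lpn (LP (LK LD1_c7 LD2_c27 LD3_c42))))))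
theorem f66883 : Led Lsl_ct (LP (LK LD1_c12 LD2_c13 LD3_c52)) = (LP (LK LD1_c21 LD2_c20 LD3_c3)) :=
  Lre_c IH (LK LD1_c12 LD2_c13 LD3_c52) (LK LD1_c21 LD2_c20 LD3_c3) Lrfl Lrfl
theorem f111857 : Led Lsl_bf (LP (LK LD1_c13 LD2_c9 LD3_c58)) = (LP (LK LD1_c21 LD2_c20 LD3_c3)) :=
  Lgr Lrot90 (Lpr_ct (K4.f111853 IH) (Lpe (K4.f111828 IH) (Lpr_ct (K4.f91288 IH) (Lpe (K4.f111360 IH) (Lpr_ct (f66883 IH) (Lpn (LP (LK LD1_c21 LD2_c20 LD3_c3))))))))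
theorem f568973 : Led Lsl_bt (LP (LK LD1_c11 LD2_c25 LD3_c60)) = (LP (LK LD1_c5 LD2_c48 LD3_c13)) :=
  Lre_b IH (LK LD1_c11 LD2_c25 LD3_c60) (LK LD1_c5 LD2_c48 LD3_c13) Lrfl Lrfl
theorem f568982 : Led Lsl_gf (LP (LK LD1_c4 LD2_c32 LD3_c2)) = (LP (LK LD1_c5 LD2_c48 LD3_c13)) :=
  Lgr Lrot85 (Lpr_dt (K55.f181457 IH) (Lpe (K10.f181446 IH) (Lpr_bt (K10.f181445 IH) (Lpe (K24.f205147 IH) (Lpr_dt (K11.f176647 IH) (Lpr_ct (K11.f176658 IH) (Lpr_bt (K37.f176659 IH) (Lpe (K37.f544100 IH) (Lpr_dt (K32.f40054 IH) (Lpe (K7.f40661 IH) (Lpr_bt (K0.f14393 IH) (Lpr_gt (K28.f15558 IH) (Lpr_dt (K28.f419282 IH) (Lpr_ct (f66883 IH) (Lpe (f111857 IH) (Lpr_gt (K4.f90976 IH) (Lpr_dt (K42.f93539 IH) (Lpr_ct (K42.f568971 IH) (Lpr_bt (f568973 IH) (Lpn (LP (LK LD1_c5 LD2_c48 LD3_c13))))))))))))))))))))))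
theorem f571663 : Led Lsl_dt (LP (LK LD1_c7 LD2_c26 LD3_c31)) = (LP (LK LD1_c5 LD2_c48 LD3_c46)) :=
  Lgr Lrot105 (Lpr_gf (K24.f439251 IH) (Lpe (f439633 IH) (Lpr_gf (K42.f571661 IH) (Lpe (K42.f206048 IH) (Lpe (f568982 IH) (Lpr_dt (K55.f181457 IH) (Lpr_gt (K41.f20781 IH) (Lpe (K41.f567533 IH) (Lpe (K42.f567535 IH) (Lpn (LP (LK LD1_c5 LD2_c48 LD3_c46))))))))))))
theorem f456026 : Led Lsl_et (LP (LK LD1_c24 LD2_c31 LD3_c57)) = (LP (LK LD1_c14 LD2_c45 LD3_c42)) :=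
  Lre_e IH (LK LD1_c24 LD2_c31 LD3_c57) (LK LD1_c14 LD2_c45 LD3_c42) Lrfl Lrfl
theorem f793363 : Led Lsl_dt (LP (LK LD1_c24 LD2_c31 LD3_c57)) = (LP (LK LD1_c31 LD2_c8 LD3_c35)) :=
  Lgr Lrot56 (Lpr_et (f456026 IH) (Lpe (K40.f560603 IH) (Lpe (K40.f204050 IH) (Lpe (K40.f558728 IH) (Lpe (K42.f568259 IH) (Lpe (f571663 IH) (Lpr_et (f436383 IH) (Lpe (K37.f543639 IH) (Lpr_dt (K40.f543643 IH) (Lpr_gt (f793357 IH) (Lpn (LP (LK LD1_c31 LD2_c8 LD3_c35)))))))))))))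
theorem f809191 : Led Lsl_ft (LP (LK LD1_c31 LD2_c8 LD3_c35)) = (LP (LK LD1_c31 LD2_c3 LD3_c0)) :=
  Lgr Lrot54 (Lpe (f793363 IH) (Lpr_ff (f809189 IH) (Lpr_df (f655855 IH) (Lpn (LP (LK LD1_c31 LD2_c3 LD3_c0))))))
theorem f809195 : Led Lsl_af (LP (LK LD1_c31 LD2_c8 LD3_c34)) = (LP (LK LD1_c31 LD2_c3 LD3_c0)) :=
  Lgr Lrot31 (Lpe (K40.f533933 IH) (Lpe (f533932 IH) (Lpr_ft (f809191 IH) (Lpn (LP (LK LD1_c31 LD2_c3 LD3_c0))))))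
theorem f809197 : Led Lsl_at (LP (LK LD1_c31 LD2_c8 LD3_c34)) = (LP (LK LD1_c31 LD2_c3 LD3_c0)) :=
  Lgr Lrot100 (Lpr_af (f809195 IH) (Lpn (LP (LK LD1_c31 LD2_c3 LD3_c0))))
theorem f534422 : Led Lsl_gt (LP (LK LD1_c31 LD2_c3 LD3_c1)) = (LP (LK LD1_c23 LD2_c26 LD3_c10)) :=
  Lre_g IH (LK LD1_c31 LD2_c3 LD3_c1) (LK LD1_c23 LD2_c26 LD3_c10) Lrfl Lrfl
theorem f809205 : Led Lsl_ff (LP (LK LD1_c31 LD2_c8 LD3_c34)) = (LP (LK LD1_c31 LD2_c3 LD3_c1)) :=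
  Lgr Lrot52 (Lpr_at (f809197 IH) (Lpe (K46.f534430 IH) (Lpe (f534422 IH) (Lpn (LP (LK LD1_c31 LD2_c3 LD3_c1))))))
theorem f809211 : Led Lsl_ft (LP (LK LD1_c31 LD2_c8 LD3_c34)) = (LP (LK LD1_c31 LD2_c3 LD3_c1)) :=
  Lgr Lrot48 (Lpr_ff (f809205 IH) (Lpn (LP (LK LD1_c31 LD2_c3 LD3_c1))))
theorem f470272 : Led Lsl_bt (LP (LK LD1_c7 LD2_c28 LD3_c22)) = (LP (LK LD1_c14 LD2_c6 LD3_c25)) :=
  Lre_b IH (LK LD1_c7 LD2_c28 LD3_c22) (LK LD1_c14 LD2_c6 LD3_c25) Lrfl Lrfl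
theorem f468954 : Led Lsl_gt (LP (LK LD1_c14 LD2_c6 LD3_c25)) = (LP (LK LD1_c23 LD2_c40 LD3_c22)) :=
  Lre_g IH (LK LD1_c14 LD2_c6 LD3_c25) (LK LD1_c23 LD2_c40 LD3_c22) Lrfl Lrfl
theorem f533946 : Led Lsl_bf (LP (LK LD1_c23 LD2_c40 LD3_c22)) = (LP (LK LD1_c31 LD2_c8 LD3_c34)) :=
  Lgr Lrot34 (Lpe (f468954 IH) (Lpe (f470272 IH) (Lpr_ct (K33.f463367 IH) (Lpe (K33.f470253 IH) (Lpe (K33.f459253 IH) (Lpr_gf (K29.f459251 IH) (Lpe (K40.f459154 IH) (Lpr_ct (K34.f459131 IH) (Lpe (K40.f459254 IH) (Lpr_cf (K40.f533934 IH) (Lpn (LP (LK LD1_c31 LD2_c8 LD3_c34)))))))))))))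
theorem f533948 : Led Lsl_bt (LP (LK LD1_c23 LD2_c40 LD3_c22)) = (LP (LK LD1_c31 LD2_c8 LD3_c34)) :=
  Lgr Lrot127 (Lpr_bf (f533946 IH) (Lpn (LP (LK LD1_c31 LD2_c8 LD3_c34))))
theorem f554150 : Led Lsl_bt (LP (LK LD1_c23 LD2_c3 LD3_c22)) = (LP (LK LD1_c30 LD2_c52 LD3_c43)) :=
  Lre_b IH (LK LD1_c23 LD2_c3 LD3_c22) (LK LD1_c30 LD2_c52 LD3_c43) Lrfl Lrfl
theorem f534434 : Led Lsl_bt (LP (LK LD1_c23 LD2_c38 LD3_c30)) = (LP (LK LD1_c14 LD2_c5 LD3_c20)) :=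
  Lre_b IH (LK LD1_c23 LD2_c38 LD3_c30) (LK LD1_c14 LD2_c5 LD3_c20) Lrfl Lrfl
theorem f793267 : Led Lsl_ft (LP (LK LD1_c30 LD2_c52 LD3_c43)) = (LP (LK LD1_c23 LD2_c38 LD3_c30)) :=
  Lgr Lrot75 (Lpe (f554150 IH) (Lpr_ff (f793265 IH) (Lpe (f534434 IH) (Lpn (LP (LK LD1_c23 LD2_c38 LD3_c30))))))
theorem f792543 : Led Lsl_at (LP (LK LD1_c23 LD2_c38 LD3_c30)) = (LP (LK LD1_c23 LD2_c26 LD3_c10)) :=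
  Lgr Lrot67 (Lpe (K40.f533943 IH) (Lpr_af (K61.f792539 IH) (Lpe (K47.f544228 IH) (Lpe (K61.f792499 IH) (Lpe (K47.f534476 IH) (Lpn (LP (LK LD1_c23 LD2_c26 LD3_c10))))))))
theorem f793418 : Led Lsl_gt (LP (LK LD1_c30 LD2_c52 LD3_c43)) = (LP (LK LD1_c31 LD2_c3 LD3_c1)) :=
  Lgr Lrot5 (Lpr_ft (f793267 IH) (Lpr_at (f792543 IH) (Lpe (f534422 IH) (Lpn (LP (LK LD1_c31 LD2_c3 LD3_c1))))))
theorem f473494 : Led Lsl_dt (LP (LK LD1_c23 LD2_c3 LD3_c21)) = (LP (LK LD1_c30 LD2_c52 LD3_c43)) :=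
  Lre_d IH (LK LD1_c23 LD2_c3 LD3_c21) (LK LD1_c30 LD2_c52 LD3_c43) Lrfl Lrfl
theorem f544155 : Led Lsl_df (LP (LK LD1_c12 LD2_c22 LD3_c56)) = (LP (LK LD1_c7 LD2_c25 LD3_c8)) :=
  Lgr Lrot153 (Lpr_gt (K37.f544153 IH) (Lpe (K62.f544149 IH) (Lpe (K34.f148298 IH) (Lpe (K34.f148318 IH) (Lpr_gf (K34.f202548 IH) (Lpe (K37.f123227 IH) (Lpr_gf (K28.f203635 IH) (Lpe (K28.f147606 IH) (Lpe (K28.f203663 IH) (Lpn (LP (LK LD1_c7 LD2_c25 LD3_c8))))))))))))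
theorem f485344 : Led Lsl_et (LP (LK LD1_c24 LD2_c35 LD3_c11)) = (LP (LK LD1_c14 LD2_c48 LD3_c60)) :=
  Lre_e IH (LK LD1_c24 LD2_c35 LD3_c11) (LK LD1_c14 LD2_c48 LD3_c60) Lrfl Lrfl
theorem f793422 : Led Lsl_dt (LP (LK LD1_c24 LD2_c35 LD3_c11)) = (LP (LK LD1_c31 LD2_c3 LD3_c1)) :=
  Lgr Lrot56 (Lpr_et (f485344 IH) (Lpr_gt (K61.f560775 IH) (Lpe (K40.f203657 IH) (Lpe (f544155 IH) (Lpr_gt (K37.f544153 IH) (Lpe (K62.f544147 IH) (Lpr_et (K24.f436398 IH) (Lpe (K39.f534078 IH) (Lpr_dt (f473494 IH) (Lpr_gt (f793418 IH) (Lpn (LP (LK LD1_c31 LD2_c3 LD3_c1)))))))))))))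
theorem f655833 : Led Lsl_bt (LP (LK LD1_c22 LD2_c27 LD3_c13)) = (LP (LK LD1_c24 LD2_c35 LD3_c11)) :=
  Lgr Lrot119 (Lpr_ef (K46.f655831 IH) (Lpe (K33.f485141 IH) (Lpe (f485344 IH) (Lpn (LP (LK LD1_c24 LD2_c35 LD3_c11))))))
theorem f655821 : Led Lsl_df (LP (LK LD1_c22 LD2_c27 LD3_c13)) = (LP (LK LD1_c23 LD2_c26 LD3_c54)) :=
  Lgr Lrot38 (Lpr_dt (K46.f655814 IH) (Lpn (LP (LK LD1_c23 LD2_c26 LD3_c54))))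
theorem f793424 : Led Lsl_bf (LP (LK LD1_c23 LD2_c26 LD3_c54)) = (LP (LK LD1_c31 LD2_c3 LD3_c1)) :=
  Lgr Lrot93 (Lpe (f655821 IH) (Lpr_bt (f655833 IH) (Lpr_dt (f793422 IH) (Lpn (LP (LK LD1_c31 LD2_c3 LD3_c1))))))
theorem f809215 : Led Lsl_ff (LP (LK LD1_c23 LD2_c40 LD3_c22)) = (LP (LK LD1_c23 LD2_c26 LD3_c54)) :=
  Lgr Lrot25 (Lpr_bt (f533948 IH) (Lpr_ft (f809211 IH) (Lpe (f793424 IH) (Lpn (LP (LK LD1_c23 LD2_c26 LD3_c54))))))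
theorem f655661 : Led Lsl_gf (LP (LK LD1_c23 LD2_c26 LD3_c55)) = (LP (LK LD1_c23 LD2_c40 LD3_c20)) :=
  Lgr Lrot47 (Lpr_gt (K57.f142448 IH) (Lpe (K46.f655652 IH) (Lpr_ff (K46.f655650 IH) (Lpn (LP (LK LD1_c23 LD2_c40 LD3_c20))))))
theorem f809217 : Led Lsl_at (LP (LK LD1_c23 LD2_c40 LD3_c22)) = (LP (LK LD1_c23 LD2_c26 LD3_c55)) :=
  Lgr Lrot26 (Lpr_ff (f809215 IH) (Lpr_gt (K46.f655786 IH) (Lpe (f655661 IH) (Lpn (LP (LK LD1_c23 LD2_c26 LD3_c55))))))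
theorem f809219 : Led Lsl_af (LP (LK LD1_c23 LD2_c40 LD3_c22)) = (LP (LK LD1_c23 LD2_c26 LD3_c55)) :=
  Lgr Lrot0 (Lpr_at (f809217 IH) (Lpn (LP (LK LD1_c23 LD2_c26 LD3_c55))))
theorem f809221 : Led Lsl_ft (LP (LK LD1_c23 LD2_c40 LD3_c23)) = (LP (LK LD1_c23 LD2_c26 LD3_c55)) :=
  Lgr Lrot2 (Lpr_gt (K48.f463436 IH) (Lpr_gt (f468954 IH) (Lpr_af (f809219 IH) (Lpn (LP (LK LD1_c23 LD2_c26 LD3_c55))))))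
theorem f809227 : Led Lsl_ff (LP (LK LD1_c23 LD2_c40 LD3_c23)) = (LP (LK LD1_c23 LD2_c26 LD3_c55)) :=
  Lgr Lrot3 (Lpr_ft (f809221 IH) (Lpn (LP (LK LD1_c23 LD2_c26 LD3_c55))))
theorem f655672 : Led Lsl_df (LP (LK LD1_c22 LD2_c21 LD3_c13)) = (LP (LK LD1_c23 LD2_c40 LD3_c23)) :=
  Lgr Lrot38 (Lpr_dt (K48.f655668 IH) (Lpn (LP (LK LD1_c23 LD2_c40 LD3_c23))))
theorem f809231 : Led Lsl_ft (LP (LK LD1_c22 LD2_c21 LD3_c13)) = (LP (LK LD1_c22 LD2_c27 LD3_c14)) :=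
  Lgr Lrot54 (Lpr_df (f655672 IH) (Lpr_ff (f809227 IH) (Lpe (K57.f527106 IH) (Lpn (LP (LK LD1_c22 LD2_c27 LD3_c14))))))
theorem f462842 : Led Lsl_gt (LP (LK LD1_c14 LD2_c55 LD3_c14)) = (LP (LK LD1_c24 LD2_c42 LD3_c34)) :=
  Lre_g IH (LK LD1_c14 LD2_c55 LD3_c14) (LK LD1_c24 LD2_c42 LD3_c34) Lrfl Lrfl
theorem f809237 : Led Lsl_af (LP (LK LD1_c24 LD2_c42 LD3_c34)) = (LP (LK LD1_c22 LD2_c27 LD3_c14)) :=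
  Lgr Lrot31 (Lpe (f462842 IH) (Lpe (K48.f655677 IH) (Lpr_ft (f809231 IH) (Lpn (LP (LK LD1_c22 LD2_c27 LD3_c14))))))
theorem f527110 : Led Lsl_df (LP (LK LD1_c22 LD2_c27 LD3_c14)) = (LP (LK LD1_c23 LD2_c26 LD3_c55)) :=
  Lgr Lrot38 (Lpr_dt (K57.f527106 IH) (Lpn (LP (LK LD1_c23 LD2_c26 LD3_c55))))
theorem f809241 : Led Lsl_dt (LP (LK LD1_c24 LD2_c42 LD3_c34)) = (LP (LK LD1_c23 LD2_c40 LD3_c22)) :=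
  Lgr Lrot44 (Lpr_af (f809237 IH) (Lpr_df (f527110 IH) (Lpe (f809217 IH) (Lpn (LP (LK LD1_c23 LD2_c40 LD3_c22))))))
theorem f793426 : Led Lsl_bt (LP (LK LD1_c23 LD2_c26 LD3_c54)) = (LP (LK LD1_c31 LD2_c3 LD3_c1)) :=
  Lgr Lrot127 (Lpr_bf (f793424 IH) (Lpn (LP (LK LD1_c31 LD2_c3 LD3_c1))))
theorem f809209 : Led Lsl_ft (LP (LK LD1_c23 LD2_c40 LD3_c22)) = (LP (LK LD1_c23 LD2_c26 LD3_c54)) :=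
  Lgr Lrot75 (Lpr_bf (f533946 IH) (Lpr_ff (f809205 IH) (Lpe (f793426 IH) (Lpn (LP (LK LD1_c23 LD2_c26 LD3_c54))))))
theorem f809245 : Led Lsl_ff (LP (LK LD1_c24 LD2_c42 LD3_c34)) = (LP (LK LD1_c22 LD2_c27 LD3_c13)) :=
  Lgr Lrot19 (Lpr_dt (f809241 IH) (Lpr_ft (f809209 IH) (Lpe (f655821 IH) (Lpn (LP (LK LD1_c22 LD2_c27 LD3_c13))))))
theorem f809251 : Led Lsl_ft (LP (LK LD1_c24 LD2_c42 LD3_c34)) = (LP (LK LD1_c22 LD2_c27 LD3_c13)) :=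
  Lgr Lrot48 (Lpr_ff (f809245 IH) (Lpn (LP (LK LD1_c22 LD2_c27 LD3_c13))))
theorem f655837 : Led Lsl_ft (LP (LK LD1_c14 LD2_c29 LD3_c35)) = (LP (LK LD1_c24 LD2_c10 LD3_c42)) :=
  Lre_f IH (LK LD1_c14 LD2_c29 LD3_c35) (LK LD1_c24 LD2_c10 LD3_c42) Lrfl Lrfl
theorem f809255 : Led Lsl_cf (LP (LK LD1_c24 LD2_c42 LD3_c34)) = (LP (LK LD1_c24 LD2_c10 LD3_c42)) :=
  Lgr Lrot108 (Lpr_ft (f809251 IH) (Lpr_ct (K46.f655835 IH) (Lpr_ft (f655837 IH) (Lpn (LP (LK LD1_c24 LD2_c10 LD3_c42))))))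
theorem f809263 : Led Lsl_bt (LP (LK LD1_c24 LD2_c10 LD3_c42)) = (LP (LK LD1_c14 LD2_c29 LD3_c41)) :=
  Lre_b IH (LK LD1_c24 LD2_c10 LD3_c42) (LK LD1_c14 LD2_c29 LD3_c41) Lrfl Lrfl
theorem f809264 : Led Lsl_gf (LP (LK LD1_c7 LD2_c46 LD3_c44)) = (LP (LK LD1_c14 LD2_c29 LD3_c41)) :=
  Lgr Lrot124 (Lpe (K35.f465371 IH) (Lpr_ct (K34.f465243 IH) (Lpe (K48.f662250 IH) (Lpr_cf (K48.f484535 IH) (Lpr_bt (K48.f484752 IH) (Lpe (K39.f492922 IH) (Lpr_ct (K39.f462834 IH) (Lpr_gt (f462842 IH) (Lpr_cf (f809255 IH) (Lpr_bt (f809263 IH) (Lpn (LP (LK LD1_c14 LD2_c29 LD3_c41)))))))))))))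
theorem f111259 : Led Lsl_ct (LP (LK LD1_c30 LD2_c35 LD3_c54)) = (LP (LK LD1_c22 LD2_c35 LD3_c22)) :=
  Lre_c IH (LK LD1_c30 LD2_c35 LD3_c54) (LK LD1_c22 LD2_c35 LD3_c22) Lrfl Lrfl
theorem f533526 : Led Lsl_gt (LP (LK LD1_c23 LD2_c39 LD3_c28)) = (LP (LK LD1_c30 LD2_c35 LD3_c54)) :=
  Lgr Lrot150 (Lpe (K34.f131804 IH) (Lpe (K35.f471128 IH) (Lpe (K35.f468171 IH) (Lpe (K46.f489905 IH) (Lpr_ct (K35.f463565 IH) (Lpr_gt (K35.f533523 IH) (Lpr_ct (K7.f111174 IH) (Lpe (K35.f111258 IH) (Lpe (f111259 IH) (Lpn (LP (LK LD1_c30 LD2_c35 LD3_c54))))))))))))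
theorem f532025 : Led Lsl_at (LP (LK LD1_c23 LD2_c28 LD3_c26)) = (LP (LK LD1_c23 LD2_c40 LD3_c2)) :=
  Lgr Lrot100 (Lpr_af (K34.f532022 IH) (Lpn (LP (LK LD1_c23 LD2_c40 LD3_c2))))
theorem f535041 : Led Lsl_gf (LP (LK LD1_c23 LD2_c40 LD3_c2)) = (LP (LK LD1_c30 LD2_c35 LD3_c54)) :=
  Lgr Lrot76 (Lpe (f532025 IH) (Lpr_ff (K34.f532008 IH) (Lpr_gt (f533526 IH) (Lpn (LP (LK LD1_c30 LD2_c35 LD3_c54))))))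
theorem f533092 : Led Lsl_ff (LP (LK LD1_c23 LD2_c39 LD3_c4)) = (LP (LK LD1_c22 LD2_c17 LD3_c43)) :=
  Lgr Lrot19 (Lpr_dt (K34.f489452 IH) (Lpr_ft (K34.f533088 IH) (Lpr_dt (K35.f102876 IH) (Lpn (LP (LK LD1_c22 LD2_c17 LD3_c43))))))
theorem f535028 : Led Lsl_gf (LP (LK LD1_c23 LD2_c28 LD3_c13)) = (LP (LK LD1_c23 LD2_c39 LD3_c23)) :=
  Lgr Lrot76 (Lpe (K34.f533086 IH) (Lpr_ff (f533092 IH) (Lpr_gt (K35.f533596 IH) (Lpn (LP (LK LD1_c23 LD2_c39 LD3_c23))))))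
theorem f466262 : Led Lsl_gt (LP (LK LD1_c7 LD2_c28 LD3_c41)) = (LP (LK LD1_c14 LD2_c7 LD3_c0)) :=
  Lre_g IH (LK LD1_c7 LD2_c28 LD3_c41) (LK LD1_c14 LD2_c7 LD3_c0) Lrfl Lrfl
theorem f533734 : Led Lsl_bf (LP (LK LD1_c14 LD2_c7 LD3_c0)) = (LP (LK LD1_c22 LD2_c44 LD3_c31)) :=
  Lgr Lrot34 (Lpe (f466262 IH) (Lpe (K8.f147145 IH) (Lpr_ct (K8.f146946 IH) (Lpr_gf (K35.f466256 IH) (Lpe (K35.f122500 IH) (Lpr_gf (K28.f439161 IH) (Lpe (K37.f131760 IH) (Lpr_ct (K37.f439164 IH) (Lpr_gf (K37.f533731 IH) (Lpe (K37.f470209 IH) (Lpn (LP (LK LD1_c22 LD2_c44 LD3_c31)))))))))))))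
theorem f533738 : Led Lsl_bt (LP (LK LD1_c14 LD2_c7 LD3_c0)) = (LP (LK LD1_c22 LD2_c44 LD3_c31)) :=
  Lgr Lrot127 (Lpr_bf (f533734 IH) (Lpn (LP (LK LD1_c22 LD2_c44 LD3_c31))))
theorem f466263 : Led Lsl_ct (LP (LK LD1_c14 LD2_c7 LD3_c0)) = (LP (LK LD1_c23 LD2_c41 LD3_c12)) :=
  Lre_c IH (LK LD1_c14 LD2_c7 LD3_c0) (LK LD1_c23 LD2_c41 LD3_c12) Lrfl Lrfl
theorem f534445 : Led Lsl_gt (LP (LK LD1_c31 LD2_c8 LD3_c21)) = (LP (LK LD1_c23 LD2_c41 LD3_c12)) :=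
  Lgr Lrot65 (Lpe (K34.f108926 IH) (Lpr_bt (K34.f147818 IH) (Lpr_gf (K55.f534440 IH) (Lpe (K55.f533713 IH) (Lpr_ct (K55.f469780 IH) (Lpe (K55.f534443 IH) (Lpe (K33.f469157 IH) (Lpe (K37.f469255 IH) (Lpe (f533738 IH) (Lpr_ct (f466263 IH) (Lpn (LP (LK LD1_c23 LD2_c41 LD3_c12)))))))))))))
theorem f534447 : Led Lsl_gf (LP (LK LD1_c31 LD2_c10 LD3_c21)) = (LP (LK LD1_c23 LD2_c41 LD3_c12)) :=
  Lgr Lrot76 (Lpr_af (K34.f533279 IH) (Lpe (K34.f532991 IH) (Lpr_gt (f534445 IH) (Lpn (LP (LK LD1_c23 LD2_c41 LD3_c12))))))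
theorem f534450 : Led Lsl_bt (LP (LK LD1_c23 LD2_c40 LD3_c19)) = (LP (LK LD1_c23 LD2_c28 LD3_c13)) :=
  Lgr Lrot130 (Lpr_ct (K37.f468953 IH) (Lpr_gf (f534447 IH) (Lpe (f466263 IH) (Lpr_bt (f533738 IH) (Lpr_gf (K37.f470207 IH) (Lpe (K4.f116429 IH) (Lpr_ct (K37.f116431 IH) (Lpe (K37.f533729 IH) (Lpe (K37.f122580 IH) (Lpe (K47.f533594 IH) (Lpn (LP (LK LD1_c23 LD2_c28 LD3_c13)))))))))))))
theorem f532121 : Led Lsl_bt (LP (LK LD1_c14 LD2_c7 LD3_c1)) = (LP (LK LD1_c23 LD2_c41 LD3_c14)) :=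
  Lre_b IH (LK LD1_c14 LD2_c7 LD3_c1) (LK LD1_c23 LD2_c41 LD3_c14) Lrfl Lrfl
theorem f111332 : Led Lsl_ct (LP (LK LD1_c22 LD2_c35 LD3_c22)) = (LP (LK LD1_c30 LD2_c35 LD3_c54)) :=
  Lre_c IH (LK LD1_c22 LD2_c35 LD3_c22) (LK LD1_c30 LD2_c35 LD3_c54) Lrfl Lrfl
theorem f535043 : Led Lsl_gt (LP (LK LD1_c23 LD2_c41 LD3_c14)) = (LP (LK LD1_c22 LD2_c35 LD3_c22)) :=
  Lgr Lrot82 (Lpe (f532121 IH) (Lpr_ct (K37.f147172 IH) (Lpe (K37.f533272 IH) (Lpe (K37.f468953 IH) (Lpr_bt (f534450 IH) (Lpr_gf (f535028 IH) (Lpr_bf (K35.f532020 IH) (Lpr_ct (K34.f468235 IH) (Lpr_gf (f535041 IH) (Lpe (f111332 IH) (Lpn (LP (LK LD1_c22 LD2_c35 LD3_c22)))))))))))))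
theorem f483827 : Led Lsl_ct (LP (LK LD1_c22 LD2_c26 LD3_c48)) = (LP (LK LD1_c30 LD2_c30 LD3_c36)) :=
  Lre_c IH (LK LD1_c22 LD2_c26 LD3_c48) (LK LD1_c30 LD2_c30 LD3_c36) Lrfl Lrfl
theorem f532123 : Led Lsl_ct (LP (LK LD1_c30 LD2_c41 LD3_c12)) = (LP (LK LD1_c23 LD2_c41 LD3_c14)) :=
  Lgr Lrot59 (Lpr_cf (K39.f532119 IH) (Lpn (LP (LK LD1_c23 LD2_c41 LD3_c14))))
theorem f532171 : Led Lsl_dt (LP (LK LD1_c30 LD2_c30 LD3_c36)) = (LP (LK LD1_c23 LD2_c41 LD3_c14)) :=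
  Lgr Lrot27 (Lpe (f483827 IH) (Lpe (K39.f483826 IH) (Lpe (K35.f483820 IH) (Lpr_gf (K39.f532161 IH) (Lpr_df (K62.f524098 IH) (Lpe (K39.f532115 IH) (Lpr_ct (K39.f466135 IH) (Lpr_gt (K39.f468220 IH) (Lpr_ct (f532123 IH) (Lpn (LP (LK LD1_c23 LD2_c41 LD3_c14))))))))))))
theorem f809260 : Led Lsl_ct (LP (LK LD1_c24 LD2_c10 LD3_c46)) = (LP (LK LD1_c14 LD2_c29 LD3_c41)) :=
  Lre_c IH (LK LD1_c24 LD2_c10 LD3_c46) (LK LD1_c14 LD2_c29 LD3_c41) Lrfl Lrfl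
theorem f809268 : Led Lsl_gf (LP (LK LD1_c30 LD2_c30 LD3_c36)) = (LP (LK LD1_c24 LD2_c10 LD3_c46)) :=
  Lgr Lrot144 (Lpr_dt (f532171 IH) (Lpr_gt (f535043 IH) (Lpr_dt (K35.f111258 IH) (Lpe (K7.f111174 IH) (Lpe (K4.f111202 IH) (Lpe (K35.f533656 IH) (Lpe (K35.f471107 IH) (Lpr_gf (f809264 IH) (Lpe (f809260 IH) (Lpn (LP (LK LD1_c24 LD2_c10 LD3_c46))))))))))))
theorem f486288 : Led Lsl_et (LP (LK LD1_c7 LD2_c40 LD3_c61)) = (LP (LK LD1_c14 LD2_c29 LD3_c2)) :=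
  Lre_e IH (LK LD1_c7 LD2_c40 LD3_c61) (LK LD1_c14 LD2_c29 LD3_c2) Lrfl Lrfl
theorem f486289 : Led Lsl_bt (LP (LK LD1_c14 LD2_c29 LD3_c2)) = (LP (LK LD1_c13 LD2_c10 LD3_c35)) :=
  Lgr Lrot119 (Lpe (f486288 IH) (Lpr_bf (K33.f486284 IH) (Lpe (f113013 IH) (Lpn (LP (LK LD1_c13 LD2_c10 LD3_c35))))))
theorem f486294 : Led Lsl_ct (LP (LK LD1_c14 LD2_c29 LD3_c2)) = (LP (LK LD1_c24 LD2_c10 LD3_c10)) :=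
  Lre_c IH (LK LD1_c14 LD2_c29 LD3_c2) (LK LD1_c24 LD2_c10 LD3_c10) Lrfl Lrfl
theorem f806116 : Led Lsl_gf (LP (LK LD1_c24 LD2_c10 LD3_c10)) = (LP (LK LD1_c30 LD2_c30 LD3_c36)) :=
  Lgr Lrot129 (Lpe (f486294 IH) (Lpr_bt (f486289 IH) (Lpr_gt (f806114 IH) (Lpe (K37.f459886 IH) (Lpr_ct (K29.f457986 IH) (Lpr_gt (K34.f63011 IH) (Lpr_cf (K35.f483804 IH) (Lpr_bt (K63.f483824 IH) (Lpr_gt (K39.f483826 IH) (Lpr_ct (f483827 IH) (Lpn (LP (LK LD1_c30 LD2_c30 LD3_c36)))))))))))))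
theorem f485330 : Led Lsl_ft (LP (LK LD1_c24 LD2_c10 LD3_c46)) = (LP (LK LD1_c14 LD2_c29 LD3_c37)) :=
  Lre_f IH (LK LD1_c24 LD2_c10 LD3_c46) (LK LD1_c14 LD2_c29 LD3_c37) Lrfl Lrfl
theorem f809273 : Led Lsl_af (LP (LK LD1_c24 LD2_c10 LD3_c10)) = (LP (LK LD1_c14 LD2_c29 LD3_c37)) :=
  Lgr Lrot31 (Lpr_gf (f806116 IH) (Lpr_gf (f809268 IH) (Lpr_ft (f485330 IH) (Lpn (LP (LK LD1_c14 LD2_c29 LD3_c37))))))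
theorem f486302 : Led Lsl_et (LP (LK LD1_c24 LD2_c10 LD3_c10)) = (LP (LK LD1_c14 LD2_c29 LD3_c0)) :=
  Lre_e IH (LK LD1_c24 LD2_c10 LD3_c10) (LK LD1_c14 LD2_c29 LD3_c0) Lrfl Lrfl
theorem f485329 : Led Lsl_et (LP (LK LD1_c7 LD2_c41 LD3_c21)) = (LP (LK LD1_c14 LD2_c29 LD3_c37)) :=
  Lre_e IH (LK LD1_c7 LD2_c41 LD3_c21) (LK LD1_c14 LD2_c29 LD3_c37) Lrfl Lrfl
theorem f809281 : Led Lsl_at (LP (LK LD1_c14 LD2_c29 LD3_c0)) = (LP (LK LD1_c7 LD2_c41 LD3_c21)) :=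
  Lgr Lrot80 (Lpe (f486302 IH) (Lpr_af (f809273 IH) (Lpe (f485329 IH) (Lpn (LP (LK LD1_c7 LD2_c41 LD3_c21))))))
theorem f809287 : Led Lsl_ff (LP (LK LD1_c14 LD2_c29 LD3_c0)) = (LP (LK LD1_c7 LD2_c41 LD3_c17)) :=
  Lgr Lrot52 (Lpr_at (f809281 IH) (Lpe (K34.f486811 IH) (Lpe (K33.f484350 IH) (Lpn (LP (LK LD1_c7 LD2_c41 LD3_c17))))))
theorem f809291 : Led Lsl_ft (LP (LK LD1_c14 LD2_c29 LD3_c0)) = (LP (LK LD1_c7 LD2_c41 LD3_c17)) :=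
  Lgr Lrot48 (Lpr_ff (f809287 IH) (Lpn (LP (LK LD1_c7 LD2_c41 LD3_c17))))
theorem f809295 : Led Lsl_af (LP (LK LD1_c14 LD2_c28 LD3_c60)) = (LP (LK LD1_c7 LD2_c41 LD3_c17)) :=
  Lgr Lrot31 (Lpr_gf (K63.f516442 IH) (Lpe (K33.f486298 IH) (Lpr_ft (f809291 IH) (Lpn (LP (LK LD1_c7 LD2_c41 LD3_c17))))))
theorem f809283 : Led Lsl_af (LP (LK LD1_c14 LD2_c29 LD3_c0)) = (LP (LK LD1_c7 LD2_c41 LD3_c21)) :=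
  Lgr Lrot0 (Lpr_at (f809281 IH) (Lpn (LP (LK LD1_c7 LD2_c41 LD3_c21))))
theorem f809303 : Led Lsl_ft (LP (LK LD1_c14 LD2_c28 LD3_c60)) = (LP (LK LD1_c7 LD2_c41 LD3_c21)) :=
  Lgr Lrot101 (Lpr_af (f809295 IH) (Lpe (f809291 IH) (Lpr_af (f809283 IH) (Lpn (LP (LK LD1_c7 LD2_c41 LD3_c21))))))
theorem f809309 : Led Lsl_ff (LP (LK LD1_c14 LD2_c28 LD3_c60)) = (LP (LK LD1_c7 LD2_c41 LD3_c21)) :=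
  Lgr Lrot3 (Lpr_ft (f809303 IH) (Lpn (LP (LK LD1_c7 LD2_c41 LD3_c21))))
theorem f142579 : Led Lsl_dt (LP (LK LD1_c14 LD2_c28 LD3_c60)) = (LP (LK LD1_c24 LD2_c10 LD3_c7)) :=
  Lre_d IH (LK LD1_c14 LD2_c28 LD3_c60) (LK LD1_c24 LD2_c10 LD3_c7) Lrfl Lrfl
theorem f142598 : Led Lsl_dt (LP (LK LD1_c14 LD2_c29 LD3_c36)) = (LP (LK LD1_c7 LD2_c41 LD3_c21)) :=
  Lre_d IH (LK LD1_c14 LD2_c29 LD3_c36) (LK LD1_c7 LD2_c41 LD3_c21) Lrfl Lrfl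
theorem f809313 : Led Lsl_ft (LP (LK LD1_c24 LD2_c10 LD3_c7)) = (LP (LK LD1_c14 LD2_c29 LD3_c36)) :=
  Lgr Lrot54 (Lpe (f142579 IH) (Lpr_ff (f809309 IH) (Lpe (f142598 IH) (Lpn (LP (LK LD1_c14 LD2_c29 LD3_c36))))))
theorem f142577 : Led Lsl_dt (LP (LK LD1_c24 LD2_c10 LD3_c7)) = (LP (LK LD1_c14 LD2_c28 LD3_c60)) :=
  Lre_d IH (LK LD1_c24 LD2_c10 LD3_c7) (LK LD1_c14 LD2_c28 LD3_c60) Lrfl Lrfl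
theorem f481802 : Led Lsl_bf (LP (LK LD1_c24 LD2_c10 LD3_c7)) = (LP (LK LD1_c14 LD2_c45 LD3_c41)) :=
  Lgr Lrot93 (Lpr_dt (f142577 IH) (Lpr_bt (K29.f481797 IH) (Lpr_dt (K62.f123189 IH) (Lpn (LP (LK LD1_c14 LD2_c45 LD3_c41))))))
theorem f485143 : Led Lsl_bt (LP (LK LD1_c14 LD2_c48 LD3_c61)) = (LP (LK LD1_c14 LD2_c29 LD3_c36)) :=
  Lgr Lrot95 (Lpe (f123432 IH) (Lpr_bf (K33.f485136 IH) (Lpe (f142598 IH) (Lpn (LP (LK LD1_c14 LD2_c29 LD3_c36))))))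
theorem f485331 : Led Lsl_bf (LP (LK LD1_c14 LD2_c48 LD3_c61)) = (LP (LK LD1_c14 LD2_c29 LD3_c36)) :=
  Lgr Lrot24 (Lpr_bt (f485143 IH) (Lpn (LP (LK LD1_c14 LD2_c29 LD3_c36))))
theorem f809317 : Led Lsl_ff (LP (LK LD1_c14 LD2_c45 LD3_c41)) = (LP (LK LD1_c14 LD2_c48 LD3_c61)) :=
  Lgr Lrot25 (Lpe (f481802 IH) (Lpr_ft (f809313 IH) (Lpe (f485331 IH) (Lpn (LP (LK LD1_c14 LD2_c48 LD3_c61))))))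
theorem f809319 : Led Lsl_at (LP (LK LD1_c14 LD2_c45 LD3_c41)) = (LP (LK LD1_c14 LD2_c48 LD3_c59)) :=
  Lgr Lrot66 (Lpr_ff (f809317 IH) (Lpe (f809124 IH) (Lpr_ff (f809120 IH) (Lpn (LP (LK LD1_c14 LD2_c48 LD3_c59))))))
theorem f533019 : Led Lsl_ct (LP (LK LD1_c24 LD2_c35 LD3_c8)) = (LP (LK LD1_c14 LD2_c48 LD3_c59)) :=
  Lre_c IH (LK LD1_c24 LD2_c35 LD3_c8) (LK LD1_c14 LD2_c48 LD3_c59) Lrfl Lrfl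
theorem f809325 : Led Lsl_dt (LP (LK LD1_c31 LD2_c34 LD3_c56)) = (LP (LK LD1_c24 LD2_c35 LD3_c8)) :=
  Lre_d IH (LK LD1_c31 LD2_c34 LD3_c56) (LK LD1_c24 LD2_c35 LD3_c8) Lrfl Lrfl
theorem f123436 : Led Lsl_dt (LP (LK LD1_c14 LD2_c48 LD3_c60)) = (LP (LK LD1_c24 LD2_c35 LD3_c10)) :=
  Lre_d IH (LK LD1_c14 LD2_c48 LD3_c60) (LK LD1_c24 LD2_c35 LD3_c10) Lrfl Lrfl
theorem f123387 : Led Lsl_dt (LP (LK LD1_c14 LD2_c48 LD3_c59)) = (LP (LK LD1_c7 LD2_c51 LD3_c16)) :=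
  Lre_d IH (LK LD1_c14 LD2_c48 LD3_c59) (LK LD1_c7 LD2_c51 LD3_c16) Lrfl Lrfl
theorem f490043 : Led Lsl_ct (LP (LK LD1_c14 LD2_c47 LD3_c8)) = (LP (LK LD1_c24 LD2_c33 LD3_c25)) :=
  Lre_c IH (LK LD1_c14 LD2_c47 LD3_c8) (LK LD1_c24 LD2_c33 LD3_c25) Lrfl Lrfl
theorem f533020 : Led Lsl_gt (LP (LK LD1_c24 LD2_c33 LD3_c25)) = (LP (LK LD1_c31 LD2_c34 LD3_c29)) :=
  Lre_g IH (LK LD1_c24 LD2_c33 LD3_c25) (LK LD1_c31 LD2_c34 LD3_c29) Lrfl Lrfl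
theorem f533021 : Led Lsl_cf (LP (LK LD1_c24 LD2_c35 LD3_c10)) = (LP (LK LD1_c31 LD2_c34 LD3_c29)) :=
  Lgr Lrot99 (Lpe (f123436 IH) (Lpe (K33.f123435 IH) (Lpr_gf (K33.f123430 IH) (Lpr_cf (f437632 IH) (Lpe (f123384 IH) (Lpe (f123387 IH) (Lpr_gt (f533017 IH) (Lpr_ct (f490043 IH) (Lpr_gt (f533020 IH) (Lpn (LP (LK LD1_c31 LD2_c34 LD3_c29))))))))))))
theorem f533025 : Led Lsl_ct (LP (LK LD1_c24 LD2_c35 LD3_c10)) = (LP (LK LD1_c31 LD2_c34 LD3_c29)) :=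
  Lgr Lrot59 (Lpr_cf (f533021 IH) (Lpn (LP (LK LD1_c31 LD2_c34 LD3_c29))))
theorem f123248 : Led Lsl_dt (LP (LK LD1_c3 LD2_c54 LD3_c49)) = (LP (LK LD1_c7 LD2_c51 LD3_c18)) :=
  Lre_d IH (LK LD1_c3 LD2_c54 LD3_c49) (LK LD1_c7 LD2_c51 LD3_c18) Lrfl Lrfl
theorem f123152 : Led Lsl_ct (LP (LK LD1_c14 LD2_c49 LD3_c3)) = (LP (LK LD1_c7 LD2_c51 LD3_c18)) :=
  Lre_c IH (LK LD1_c14 LD2_c49 LD3_c3) (LK LD1_c7 LD2_c51 LD3_c18) Lrfl Lrfl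
theorem f123153 : Led Lsl_dt (LP (LK LD1_c24 LD2_c35 LD3_c19)) = (LP (LK LD1_c14 LD2_c49 LD3_c3)) :=
  Lre_d IH (LK LD1_c24 LD2_c35 LD3_c19) (LK LD1_c14 LD2_c49 LD3_c3) Lrfl Lrfl
theorem f123239 : Led Lsl_gt (LP (LK LD1_c31 LD2_c35 LD3_c4)) = (LP (LK LD1_c24 LD2_c35 LD3_c19)) :=
  Lre_g IH (LK LD1_c31 LD2_c35 LD3_c4) (LK LD1_c24 LD2_c35 LD3_c19) Lrfl Lrfl
theorem f655861 : Led Lsl_dt (LP (LK LD1_c31 LD2_c34 LD3_c29)) = (LP (LK LD1_c31 LD2_c35 LD3_c4)) :=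
  Lgr Lrot57 (Lpe (f533020 IH) (Lpe (f490043 IH) (Lpr_gt (f655859 IH) (Lpr_dt (f123441 IH) (Lpr_gt (K33.f123429 IH) (Lpr_dt (f123248 IH) (Lpe (f123152 IH) (Lpe (f123153 IH) (Lpe (f123239 IH) (Lpn (LP (LK LD1_c31 LD2_c35 LD3_c4))))))))))))
theorem f809326 : Led Lsl_cf (LP (LK LD1_c31 LD2_c34 LD3_c56)) = (LP (LK LD1_c31 LD2_c35 LD3_c4)) :=
  Lgr Lrot161 (Lpr_dt (f809325 IH) (Lpr_ct (f533019 IH) (Lpe (f809319 IH) (Lpr_ff (f809317 IH) (Lpr_dt (f123441 IH) (Lpr_ct (K33.f123435 IH) (Lpr_dt (f123436 IH) (Lpr_ct (f533025 IH) (Lpr_dt (f655861 IH) (Lpn (LP (LK LD1_c31 LD2_c35 LD3_c4))))))))))))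
theorem f809328 : Led Lsl_ct (LP (LK LD1_c31 LD2_c34 LD3_c56)) = (LP (LK LD1_c31 LD2_c35 LD3_c4)) :=
  Lgr Lrot59 (Lpr_cf (f809326 IH) (Lpn (LP (LK LD1_c31 LD2_c35 LD3_c4))))
theorem f809330 : Led Lsl_dt (LP (LK LD1_c24 LD2_c35 LD3_c8)) = (LP (LK LD1_c31 LD2_c34 LD3_c56)) :=
  Lre_d IH (LK LD1_c24 LD2_c35 LD3_c8) (LK LD1_c31 LD2_c34 LD3_c56) Lrfl Lrfl
theorem f437916 : Led Lsl_ct (LP (LK LD1_c14 LD2_c48 LD3_c59)) = (LP (LK LD1_c24 LD2_c35 LD3_c8)) :=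
  Lre_c IH (LK LD1_c14 LD2_c48 LD3_c59) (LK LD1_c24 LD2_c35 LD3_c8) Lrfl Lrfl
theorem f123390 : Led Lsl_bt (LP (LK LD1_c14 LD2_c48 LD3_c57)) = (LP (LK LD1_c7 LD2_c51 LD3_c16)) :=
  Lre_b IH (LK LD1_c14 LD2_c48 LD3_c57) (LK LD1_c7 LD2_c51 LD3_c16) Lrfl Lrfl
theorem f809103 : Led Lsl_ff (LP (LK LD1_c7 LD2_c49 LD3_c24)) = (LP (LK LD1_c7 LD2_c51 LD3_c16)) :=
  Lgr Lrot25 (Lpr_bt (K40.f485263 IH) (Lpr_ft (f809101 IH) (Lpr_bt (f123390 IH) (Lpn (LP (LK LD1_c7 LD2_c51 LD3_c16))))))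
theorem f655863 : Led Lsl_df (LP (LK LD1_c31 LD2_c34 LD3_c29)) = (LP (LK LD1_c31 LD2_c35 LD3_c4)) :=
  Lgr Lrot38 (Lpr_dt (f655861 IH) (Lpn (LP (LK LD1_c31 LD2_c35 LD3_c4))))
theorem f123437 : Led Lsl_dt (LP (LK LD1_c24 LD2_c35 LD3_c10)) = (LP (LK LD1_c14 LD2_c48 LD3_c60)) :=
  Lre_d IH (LK LD1_c24 LD2_c35 LD3_c10) (LK LD1_c14 LD2_c48 LD3_c60) Lrfl Lrfl
theorem f809333 : Led Lsl_at (LP (LK LD1_c7 LD2_c49 LD3_c24)) = (LP (LK LD1_c7 LD2_c51 LD3_c17)) :=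
  Lgr Lrot33 (Lpr_ff (f809103 IH) (Lpr_dt (f123389 IH) (Lpr_ct (f437916 IH) (Lpr_dt (f809330 IH) (Lpr_ct (f809328 IH) (Lpe (f655863 IH) (Lpe (f533021 IH) (Lpr_dt (f123437 IH) (Lpr_ct (K33.f123440 IH) (Lpn (LP (LK LD1_c7 LD2_c51 LD3_c17))))))))))))
theorem f809337 : Led Lsl_af (LP (LK LD1_c14 LD2_c45 LD3_c44)) = (LP (LK LD1_c14 LD2_c49 LD3_c0)) :=
  Lgr Lrot50 (Lpr_et (f123223 IH) (Lpr_at (f809333 IH) (Lpr_et (K61.f485145 IH) (Lpn (LP (LK LD1_c14 LD2_c49 LD3_c0))))))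
theorem f809341 : Led Lsl_at (LP (LK LD1_c24 LD2_c31 LD3_c57)) = (LP (LK LD1_c24 LD2_c35 LD3_c11)) :=
  Lgr Lrot107 (Lpe (f485274 IH) (Lpr_af (f809337 IH) (Lpe (K61.f485322 IH) (Lpn (LP (LK LD1_c24 LD2_c35 LD3_c11))))))
theorem f613781 : Led Lsl_df (LP (LK LD1_c14 LD2_c45 LD3_c44)) = (LP (LK LD1_c22 LD2_c42 LD3_c58)) :=
  Lgr Lrot38 (Lpr_dt (f613777 IH) (Lpn (LP (LK LD1_c22 LD2_c42 LD3_c58))))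
theorem f485269 : Led Lsl_et (LP (LK LD1_c14 LD2_c19 LD3_c5)) = (LP (LK LD1_c23 LD2_c57 LD3_c0)) :=
  Lre_e IH (LK LD1_c14 LD2_c19 LD3_c5) (LK LD1_c23 LD2_c57 LD3_c0) Lrfl Lrfl
theorem f485270 : Led Lsl_bf (LP (LK LD1_c14 LD2_c45 LD3_c44)) = (LP (LK LD1_c23 LD2_c57 LD3_c0)) :=
  Lgr Lrot96 (Lpr_et (f123223 IH) (Lpr_bt (K40.f485263 IH) (Lpr_et (f485269 IH) (Lpn (LP (LK LD1_c23 LD2_c57 LD3_c0))))))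
theorem f485272 : Led Lsl_bt (LP (LK LD1_c14 LD2_c45 LD3_c44)) = (LP (LK LD1_c23 LD2_c57 LD3_c0)) :=
  Lgr Lrot127 (Lpr_bf (f485270 IH) (Lpn (LP (LK LD1_c23 LD2_c57 LD3_c0))))
theorem f613795 : Led Lsl_dt (LP (LK LD1_c23 LD2_c57 LD3_c0)) = (LP (LK LD1_c30 LD2_c40 LD3_c12)) :=
  Lgr Lrot79 (Lpe (f485272 IH) (Lpr_df (f613781 IH) (Lpe (K47.f459174 IH) (Lpn (LP (LK LD1_c30 LD2_c40 LD3_c12))))))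
theorem f485275 : Led Lsl_ct (LP (LK LD1_c14 LD2_c19 LD3_c7)) = (LP (LK LD1_c23 LD2_c57 LD3_c0)) :=
  Lre_c IH (LK LD1_c14 LD2_c19 LD3_c7) (LK LD1_c23 LD2_c57 LD3_c0) Lrfl Lrfl
theorem f479634 : Led Lsl_ct (LP (LK LD1_c31 LD2_c3 LD3_c37)) = (LP (LK LD1_c30 LD2_c40 LD3_c12)) :=
  Lgr Lrot59 (Lpr_cf (K47.f479630 IH) (Lpn (LP (LK LD1_c30 LD2_c40 LD3_c12))))
theorem f122334 : Led Lsl_at (LP (LK LD1_c0 LD2_c22 LD3_c49)) = (LP (LK LD1_c0 LD2_c23 LD3_c8)) :=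
  Lgr Lrot100 (Lpr_af (K4.f122332 IH) (Lpn (LP (LK LD1_c0 LD2_c23 LD3_c8))))
theorem f148286 : Led Lsl_ft (LP (LK LD1_c0 LD2_c23 LD3_c7)) = (LP (LK LD1_c0 LD2_c22 LD3_c49)) :=
  Lgr Lrot2 (Lpr_gt (K7.f148282 IH) (Lpe (K7.f148158 IH) (Lpe (f122334 IH) (Lpn (LP (LK LD1_c0 LD2_c22 LD3_c49))))))
theorem f457149 : Led Lsl_ef (LP (LK LD1_c1 LD2_c48 LD3_c57)) = K24.v769 :=
  Lgr Lrot21 (Lpr_ft (K28.f131731 IH) (Lpr_et (K5.f131666 IH) (Lpr_ft (f148286 IH) (Lpr_et (K4.f122340 IH) (Lpr_ft (K24.f457148 IH) (Lpn K24.v769))))))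
def v2521 : LQ := Led Lsl_dt (LP (LK LD1_c1 LD2_c47 LD3_c30))
theorem f523758 : Led Lsl_dt (LP (LK LD1_c1 LD2_c47 LD3_c30)) = v2521 :=
  Lrfl
theorem f523908 : Led Lsl_gf (LP (LK LD1_c3 LD2_c55 LD3_c32)) = v2521 :=
  Lgr Lrot134 (Lpe (K34.f523900 IH) (Lpr_et (K34.f523902 IH) (Lpe (K34.f523722 IH) (Lpe (K29.f490425 IH) (Lpr_dt (K29.f11340 IH) (Lpr_gt (K24.f11356 IH) (Lpq (K28.f462401 IH) (Lpe (K33.f459393 IH) (Lpe (f457149 IH) (Lpe (K28.f439210 IH) (Lpr_dt (f523758 IH) (Lpn v2521))))))))))))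
theorem f439140 : Led Lsl_dt (LP (LK LD1_c3 LD2_c41 LD3_c6)) = (LP (LK LD1_c7 LD2_c22 LD3_c31)) :=
  Lre_d IH (LK LD1_c3 LD2_c41 LD3_c6) (LK LD1_c7 LD2_c22 LD3_c31) Lrfl Lrfl
theorem f524519 : Led Lsl_gf (LP (LK LD1_c13 LD2_c56 LD3_c42)) = (LP (LK LD1_c7 LD2_c22 LD3_c31)) :=
  Lgr Lrot143 (Lpr_dt (K62.f524516 IH) (Lpe (K34.f523899 IH) (Lpr_df (K49.f523904 IH) (Lpr_gf (f523908 IH) (Lpe (f523758 IH) (Lpr_gf (K28.f439210 IH) (Lpe (K28.f131724 IH) (Lpe (K28.f439138 IH) (Lpr_dt (f439140 IH) (Lpn (LP (LK LD1_c7 LD2_c22 LD3_c31))))))))))))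
theorem f466066 : Led Lsl_gt (LP (LK LD1_c22 LD2_c43 LD3_c23)) = (LP (LK LD1_c13 LD2_c24 LD3_c54)) :=
  Lre_g IH (LK LD1_c22 LD2_c43 LD3_c23) (LK LD1_c13 LD2_c24 LD3_c54) Lrfl Lrfl
theorem f524522 : Led Lsl_ct (LP (LK LD1_c13 LD2_c56 LD3_c42)) = (LP (LK LD1_c22 LD2_c43 LD3_c23)) :=
  Lgr Lrot152 (Lpr_gf (f524519 IH) (Lpe (f439140 IH) (Lpr_gt (K28.f437771 IH) (Lpr_ct (K28.f122512 IH) (Lpr_gt (K28.f457152 IH) (Lpqs (K28.f466161 IH) (Lpr_ct (K24.f455650 IH) (Lpe (K24.f455647 IH) (Lpe (K28.f458841 IH) (Lpe (f466066 IH) (Lpn (LP (LK LD1_c22 LD2_c43 LD3_c23)))))))))))))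
theorem f488123 : Led Lsl_bt (LP (LK LD1_c14 LD2_c48 LD3_c34)) = (LP (LK LD1_c7 LD2_c51 LD3_c5)) :=
  Lre_b IH (LK LD1_c14 LD2_c48 LD3_c34) (LK LD1_c7 LD2_c51 LD3_c5) Lrfl Lrfl
theorem f144294 : Led Lsl_dt (LP (LK LD1_c7 LD2_c22 LD3_c20)) = (LP (LK LD1_c13 LD2_c56 LD3_c24)) :=
  Lre_d IH (LK LD1_c7 LD2_c22 LD3_c20) (LK LD1_c13 LD2_c56 LD3_c24) Lrfl Lrfl
theorem f469810 : Led Lsl_ft (LP (LK LD1_c13 LD2_c56 LD3_c0)) = (LP (LK LD1_c7 LD2_c22 LD3_c20)) :=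
  Lgr Lrot48 (Lpr_ff (K46.f469805 IH) (Lpn (LP (LK LD1_c7 LD2_c22 LD3_c20))))
theorem f469816 : Led Lsl_ff (LP (LK LD1_c23 LD2_c27 LD3_c0)) = (LP (LK LD1_c13 LD2_c56 LD3_c24)) :=
  Lgr Lrot19 (Lpr_dt (f469815 IH) (Lpr_ft (f469810 IH) (Lpr_dt (f144294 IH) (Lpn (LP (LK LD1_c13 LD2_c56 LD3_c24))))))
theorem f469818 : Led Lsl_at (LP (LK LD1_c23 LD2_c27 LD3_c0)) = (LP (LK LD1_c13 LD2_c56 LD3_c1)) :=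
  Lre_a IH (LK LD1_c23 LD2_c27 LD3_c0) (LK LD1_c13 LD2_c56 LD3_c1) Lrfl Lrfl
theorem f468136 : Led Lsl_gt (LP (LK LD1_c23 LD2_c27 LD3_c2)) = (LP (LK LD1_c13 LD2_c56 LD3_c1)) :=
  Lre_g IH (LK LD1_c23 LD2_c27 LD3_c2) (LK LD1_c13 LD2_c56 LD3_c1) Lrfl Lrfl
theorem f469821 : Led Lsl_gf (LP (LK LD1_c23 LD2_c27 LD3_c2)) = (LP (LK LD1_c13 LD2_c56 LD3_c24)) :=
  Lgr Lrot47 (Lpr_gt (f468136 IH) (Lpe (f469818 IH) (Lpr_ff (f469816 IH) (Lpn (LP (LK LD1_c13 LD2_c56 LD3_c24))))))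
theorem f524371 : Led Lsl_df (LP (LK LD1_c23 LD2_c27 LD3_c2)) = (LP (LK LD1_c14 LD2_c48 LD3_c28)) :=
  Lgr Lrot132 (Lpr_gf (f469821 IH) (Lpe (f144294 IH) (Lpe (K34.f144293 IH) (Lpe (K34.f122170 IH) (Lpr_dt (K5.f122154 IH) (Lpr_gf (K34.f144289 IH) (Lpe (K34.f144285 IH) (Lpr_et (K5.f132232 IH) (Lpr_gf (K63.f524367 IH) (Lpe (K34.f477122 IH) (Lpn (LP (LK LD1_c14 LD2_c48 LD3_c28)))))))))))))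
theorem f524373 : Led Lsl_at (LP (LK LD1_c7 LD2_c51 LD3_c1)) = (LP (LK LD1_c14 LD2_c48 LD3_c28)) :=
  Lre_a IH (LK LD1_c7 LD2_c51 LD3_c1) (LK LD1_c14 LD2_c48 LD3_c28) Lrfl Lrfl
theorem f477090 : Led Lsl_dt (LP (LK LD1_c14 LD2_c48 LD3_c34)) = (LP (LK LD1_c7 LD2_c51 LD3_c1)) :=
  Lre_d IH (LK LD1_c14 LD2_c48 LD3_c34) (LK LD1_c7 LD2_c51 LD3_c1) Lrfl Lrfl
theorem f524374 : Led Lsl_at (LP (LK LD1_c23 LD2_c27 LD3_c2)) = (LP (LK LD1_c14 LD2_c48 LD3_c34)) :=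
  Lgr Lrot51 (Lpr_df (f524371 IH) (Lpe (f524373 IH) (Lpe (f477090 IH) (Lpn (LP (LK LD1_c14 LD2_c48 LD3_c34))))))
theorem f477088 : Led Lsl_gt (LP (LK LD1_c22 LD2_c37 LD3_c48)) = (LP (LK LD1_c13 LD2_c21 LD3_c9)) :=
  Lre_g IH (LK LD1_c22 LD2_c37 LD3_c48) (LK LD1_c13 LD2_c21 LD3_c9) Lrfl Lrfl
theorem f524386 : Led Lsl_ff (LP (LK LD1_c23 LD2_c27 LD3_c2)) = (LP (LK LD1_c22 LD2_c37 LD3_c48)) :=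
  Lgr Lrot52 (Lpr_at (f524374 IH) (Lpe (f477086 IH) (Lpe (f477088 IH) (Lpn (LP (LK LD1_c22 LD2_c37 LD3_c48))))))
theorem f524390 : Led Lsl_ft (LP (LK LD1_c23 LD2_c27 LD3_c2)) = (LP (LK LD1_c22 LD2_c37 LD3_c48)) :=
  Lgr Lrot48 (Lpr_ff (f524386 IH) (Lpn (LP (LK LD1_c22 LD2_c37 LD3_c48))))
theorem f468127 : Led Lsl_gt (LP (LK LD1_c13 LD2_c56 LD3_c1)) = (LP (LK LD1_c23 LD2_c27 LD3_c1)) :=
  Lre_g IH (LK LD1_c13 LD2_c56 LD3_c1) (LK LD1_c23 LD2_c27 LD3_c1) Lrfl Lrfl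
theorem f524394 : Led Lsl_af (LP (LK LD1_c23 LD2_c27 LD3_c1)) = (LP (LK LD1_c22 LD2_c37 LD3_c48)) :=
  Lgr Lrot31 (Lpe (f468127 IH) (Lpe (f468136 IH) (Lpr_ft (f524390 IH) (Lpn (LP (LK LD1_c22 LD2_c37 LD3_c48))))))
theorem f524376 : Led Lsl_dt (LP (LK LD1_c23 LD2_c27 LD3_c2)) = (LP (LK LD1_c14 LD2_c48 LD3_c28)) :=
  Lgr Lrot42 (Lpr_df (f524371 IH) (Lpn (LP (LK LD1_c14 LD2_c48 LD3_c28))))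
theorem f524379 : Led Lsl_af (LP (LK LD1_c23 LD2_c27 LD3_c2)) = (LP (LK LD1_c14 LD2_c48 LD3_c34)) :=
  Lgr Lrot117 (Lpr_dt (f524376 IH) (Lpr_at (K34.f524378 IH) (Lpr_dt (f477084 IH) (Lpn (LP (LK LD1_c14 LD2_c48 LD3_c34))))))
theorem f524398 : Led Lsl_ft (LP (LK LD1_c23 LD2_c27 LD3_c1)) = (LP (LK LD1_c14 LD2_c48 LD3_c34)) :=
  Lgr Lrot101 (Lpr_af (f524394 IH) (Lpe (f524390 IH) (Lpr_af (f524379 IH) (Lpn (LP (LK LD1_c14 LD2_c48 LD3_c34))))))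
theorem f524514 : Led Lsl_bt (LP (LK LD1_c13 LD2_c56 LD3_c42)) = (LP (LK LD1_c23 LD2_c27 LD3_c1)) :=
  Lgr Lrot35 (Lpr_ff (K62.f524512 IH) (Lpe (f488123 IH) (Lpe (f524398 IH) (Lpn (LP (LK LD1_c23 LD2_c27 LD3_c1))))))
theorem f524405 : Led Lsl_gt (LP (LK LD1_c23 LD2_c27 LD3_c1)) = (LP (LK LD1_c13 LD2_c56 LD3_c24)) :=
  Lgr Lrot5 (Lpr_ft (f524398 IH) (Lpe (f524379 IH) (Lpr_gf (f469821 IH) (Lpn (LP (LK LD1_c13 LD2_c56 LD3_c24))))))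
theorem f457160 : Led Lsl_ct (LP (LK LD1_c13 LD2_c56 LD3_c24)) = (LP (LK LD1_c23 LD2_c27 LD3_c32)) :=
  Lre_c IH (LK LD1_c13 LD2_c56 LD3_c24) (LK LD1_c23 LD2_c27 LD3_c32) Lrfl Lrfl
theorem f465937 : Led Lsl_bt (LP (LK LD1_c23 LD2_c28 LD3_c44)) = (LP (LK LD1_c13 LD2_c56 LD3_c61)) :=
  Lre_b IH (LK LD1_c23 LD2_c28 LD3_c44) (LK LD1_c13 LD2_c56 LD3_c61) Lrfl Lrfl
theorem f463547 : Led Lsl_bt (LP (LK LD1_c14 LD2_c5 LD3_c57)) = (LP (LK LD1_c23 LD2_c39 LD3_c47)) :=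
  Lre_b IH (LK LD1_c14 LD2_c5 LD3_c57) (LK LD1_c23 LD2_c39 LD3_c47) Lrfl Lrfl
theorem f465938 : Led Lsl_ft (LP (LK LD1_c13 LD2_c56 LD3_c61)) = (LP (LK LD1_c14 LD2_c5 LD3_c57)) :=
  Lgr Lrot75 (Lpe (f465937 IH) (Lpr_ff (K47.f465933 IH) (Lpe (f463547 IH) (Lpn (LP (LK LD1_c14 LD2_c5 LD3_c57))))))
theorem f465778 : Led Lsl_at (LP (LK LD1_c14 LD2_c5 LD3_c57)) = (LP (LK LD1_c13 LD2_c24 LD3_c54)) :=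
  Lgr Lrot100 (Lpr_af (K28.f465775 IH) (Lpn (LP (LK LD1_c13 LD2_c24 LD3_c54))))
theorem f466067 : Led Lsl_gt (LP (LK LD1_c13 LD2_c56 LD3_c61)) = (LP (LK LD1_c22 LD2_c43 LD3_c23)) :=
  Lgr Lrot5 (Lpr_ft (f465938 IH) (Lpr_at (f465778 IH) (Lpe (f466066 IH) (Lpn (LP (LK LD1_c22 LD2_c43 LD3_c23))))))
theorem f465743 : Led Lsl_ct (LP (LK LD1_c7 LD2_c22 LD3_c38)) = (LP (LK LD1_c13 LD2_c56 LD3_c61)) :=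
  Lre_c IH (LK LD1_c7 LD2_c22 LD3_c38) (LK LD1_c13 LD2_c56 LD3_c61) Lrfl Lrfl
theorem f466049 : Led Lsl_bt (LP (LK LD1_c7 LD2_c22 LD3_c38)) = (LP (LK LD1_c13 LD2_c56 LD3_c60)) :=
  Lre_b IH (LK LD1_c7 LD2_c22 LD3_c38) (LK LD1_c13 LD2_c56 LD3_c60) Lrfl Lrfl
theorem f465892 : Led Lsl_gf (LP (LK LD1_c13 LD2_c56 LD3_c60)) = (LP (LK LD1_c22 LD2_c42 LD3_c58)) :=
  Lgr Lrot76 (Lpr_af (K34.f465868 IH) (Lpr_ff (K47.f459023 IH) (Lpr_gt (K47.f458918 IH) (Lpn (LP (LK LD1_c22 LD2_c42 LD3_c58))))))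
theorem f524526 : Led Lsl_gt (LP (LK LD1_c23 LD2_c27 LD3_c32)) = (LP (LK LD1_c31 LD2_c3 LD3_c37)) :=
  Lgr Lrot149 (Lpe (f457160 IH) (Lpe (f524405 IH) (Lpe (f524514 IH) (Lpr_ct (f524522 IH) (Lpe (f466067 IH) (Lpe (f465743 IH) (Lpr_bt (f466049 IH) (Lpr_gf (f465892 IH) (Lpe (K47.f459174 IH) (Lpe (K47.f479630 IH) (Lpn (LP (LK LD1_c31 LD2_c3 LD3_c37)))))))))))))
theorem f524403 : Led Lsl_ff (LP (LK LD1_c23 LD2_c27 LD3_c1)) = (LP (LK LD1_c14 LD2_c48 LD3_c34)) :=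
  Lgr Lrot3 (Lpr_ft (f524398 IH) (Lpn (LP (LK LD1_c14 LD2_c48 LD3_c34))))
theorem f524407 : Led Lsl_ft (LP (LK LD1_c14 LD2_c48 LD3_c35)) = (LP (LK LD1_c7 LD2_c51 LD3_c1)) :=
  Lre_f IH (LK LD1_c14 LD2_c48 LD3_c35) (LK LD1_c7 LD2_c51 LD3_c1) Lrfl Lrfl
theorem f524408 : Led Lsl_dt (LP (LK LD1_c23 LD2_c27 LD3_c1)) = (LP (LK LD1_c14 LD2_c48 LD3_c35)) :=
  Lgr Lrot60 (Lpr_ff (f524403 IH) (Lpe (f477084 IH) (Lpe (f524407 IH) (Lpn (LP (LK LD1_c14 LD2_c48 LD3_c35))))))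
theorem f492793 : Led Lsl_at (LP (LK LD1_c7 LD2_c45 LD3_c35)) = (LP (LK LD1_c14 LD2_c2 LD3_c59)) :=
  Lgr Lrot51 (Lpe (K34.f489578 IH) (Lpe (K34.f489591 IH) (Lpr_df (K34.f492791 IH) (Lpn (LP (LK LD1_c14 LD2_c2 LD3_c59))))))
theorem f535462 : Led Lsl_gt (LP (LK LD1_c14 LD2_c48 LD3_c35)) = (LP (LK LD1_c14 LD2_c2 LD3_c59)) :=
  Lgr Lrot46 (Lpr_gf (K35.f535458 IH) (Lpr_ft (K35.f489580 IH) (Lpr_at (f492793 IH) (Lpn (LP (LK LD1_c14 LD2_c2 LD3_c59))))))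
theorem f613797 : Led Lsl_gf (LP (LK LD1_c14 LD2_c19 LD3_c7)) = (LP (LK LD1_c7 LD2_c45 LD3_c33)) :=
  Lgr Lrot172 (Lpr_ct (f485275 IH) (Lpr_dt (f613795 IH) (Lpe (f479634 IH) (Lpe (f524526 IH) (Lpe (f457160 IH) (Lpe (f524405 IH) (Lpr_dt (f524408 IH) (Lpr_gt (f535462 IH) (Lpe (K34.f492970 IH) (Lpn (LP (LK LD1_c7 LD2_c45 LD3_c33))))))))))))
theorem f613799 : Led Lsl_gt (LP (LK LD1_c14 LD2_c19 LD3_c7)) = (LP (LK LD1_c7 LD2_c45 LD3_c43)) :=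
  Lgr Lrot46 (Lpr_gf (f613797 IH) (Lpr_ft (K57.f463997 IH) (Lpr_at (K37.f463983 IH) (Lpn (LP (LK LD1_c7 LD2_c45 LD3_c43))))))
theorem f485276 : Led Lsl_bt (LP (LK LD1_c23 LD2_c56 LD3_c60)) = (LP (LK LD1_c14 LD2_c19 LD3_c7)) :=
  Lre_b IH (LK LD1_c23 LD2_c56 LD3_c60) (LK LD1_c14 LD2_c19 LD3_c7) Lrfl Lrfl
theorem f122583 : Led Lsl_gt (LP (LK LD1_c13 LD2_c53 LD3_c16)) = (LP (LK LD1_c23 LD2_c23 LD3_c26)) :=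
  Lre_g IH (LK LD1_c13 LD2_c53 LD3_c16) (LK LD1_c23 LD2_c23 LD3_c26) Lrfl Lrfl
theorem f657726 : Led Lsl_ct (LP (LK LD1_c23 LD2_c56 LD3_c60)) = (LP (LK LD1_c23 LD2_c23 LD3_c26)) :=
  Lgr Lrot63 (Lpr_bt (f485276 IH) (Lpr_gt (f613799 IH) (Lpe (K37.f463995 IH) (Lpe (K46.f491895 IH) (Lpe (K29.f464799 IH) (Lpe (K29.f463709 IH) (Lpr_bt (K40.f464042 IH) (Lpe (K46.f491917 IH) (Lpr_ct (K57.f657704 IH) (Lpr_gt (f122583 IH) (Lpn (LP (LK LD1_c23 LD2_c23 LD3_c26)))))))))))))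
theorem f485279 : Led Lsl_bt (LP (LK LD1_c14 LD2_c19 LD3_c7)) = (LP (LK LD1_c23 LD2_c56 LD3_c60)) :=
  Lre_b IH (LK LD1_c14 LD2_c19 LD3_c7) (LK LD1_c23 LD2_c56 LD3_c60) Lrfl Lrfl
theorem f485277 : Led Lsl_ct (LP (LK LD1_c23 LD2_c57 LD3_c0)) = (LP (LK LD1_c14 LD2_c19 LD3_c7)) :=
  Lre_c IH (LK LD1_c23 LD2_c57 LD3_c0) (LK LD1_c14 LD2_c19 LD3_c7) Lrfl Lrfl
theorem f485278 : Led Lsl_ct (LP (LK LD1_c24 LD2_c31 LD3_c57)) = (LP (LK LD1_c14 LD2_c45 LD3_c44)) :=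
  Lre_c IH (LK LD1_c24 LD2_c31 LD3_c57) (LK LD1_c14 LD2_c45 LD3_c44) Lrfl Lrfl
theorem f657728 : Led Lsl_bf (LP (LK LD1_c24 LD2_c31 LD3_c57)) = (LP (LK LD1_c23 LD2_c23 LD3_c26)) :=
  Lgr Lrot90 (Lpr_ct (f485278 IH) (Lpr_bt (f485272 IH) (Lpr_ct (f485277 IH) (Lpr_bt (f485279 IH) (Lpr_ct (f657726 IH) (Lpn (LP (LK LD1_c23 LD2_c23 LD3_c26))))))))
theorem f809253 : Led Lsl_af (LP (LK LD1_c22 LD2_c21 LD3_c13)) = (LP (LK LD1_c22 LD2_c27 LD3_c13)) :=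
  Lgr Lrot45 (Lpr_ft (f809231 IH) (Lpe (f809237 IH) (Lpr_ft (f809251 IH) (Lpn (LP (LK LD1_c22 LD2_c27 LD3_c13))))))
theorem f486424 : Led Lsl_et (LP (LK LD1_c14 LD2_c1 LD3_c47)) = (LP (LK LD1_c23 LD2_c34 LD3_c36)) :=
  Lre_e IH (LK LD1_c14 LD2_c1 LD3_c47) (LK LD1_c23 LD2_c34 LD3_c36) Lrfl Lrfl
theorem f486425 : Led Lsl_bf (LP (LK LD1_c22 LD2_c21 LD3_c13)) = (LP (LK LD1_c23 LD2_c34 LD3_c36)) :=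
  Lgr Lrot96 (Lpr_et (K48.f484842 IH) (Lpr_bt (K33.f486420 IH) (Lpr_et (f486424 IH) (Lpn (LP (LK LD1_c23 LD2_c34 LD3_c36))))))
theorem f486427 : Led Lsl_bt (LP (LK LD1_c22 LD2_c21 LD3_c13)) = (LP (LK LD1_c23 LD2_c34 LD3_c36)) :=
  Lgr Lrot127 (Lpr_bf (f486425 IH) (Lpn (LP (LK LD1_c23 LD2_c34 LD3_c36))))
theorem f809345 : Led Lsl_af (LP (LK LD1_c23 LD2_c23 LD3_c26)) = (LP (LK LD1_c23 LD2_c34 LD3_c36)) :=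
  Lgr Lrot36 (Lpe (f657728 IH) (Lpr_at (f809341 IH) (Lpe (K61.f655826 IH) (Lpe (f809253 IH) (Lpr_bt (f486427 IH) (Lpn (LP (LK LD1_c23 LD2_c34 LD3_c36))))))))
theorem f485261 : Led Lsl_et (LP (LK LD1_c14 LD2_c19 LD3_c4)) = (LP (LK LD1_c23 LD2_c56 LD3_c60)) :=
  Lre_e IH (LK LD1_c14 LD2_c19 LD3_c4) (LK LD1_c23 LD2_c56 LD3_c60) Lrfl Lrfl
theorem f657732 : Led Lsl_ef (LP (LK LD1_c14 LD2_c47 LD3_c60)) = (LP (LK LD1_c23 LD2_c23 LD3_c26)) :=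
  Lgr Lrot28 (Lpr_ct (K40.f485257 IH) (Lpr_et (f485261 IH) (Lpr_ct (f657726 IH) (Lpn (LP (LK LD1_c23 LD2_c23 LD3_c26))))))
theorem f132129 : Led Lsl_dt (LP (LK LD1_c7 LD2_c27 LD3_c55)) = (LP (LK LD1_c14 LD2_c5 LD3_c37)) :=
  Lre_d IH (LK LD1_c7 LD2_c27 LD3_c55) (LK LD1_c14 LD2_c5 LD3_c37) Lrfl Lrfl
theorem f466147 : Led Lsl_gt (LP (LK LD1_c14 LD2_c5 LD3_c37)) = (LP (LK LD1_c23 LD2_c39 LD3_c6)) :=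
  Lre_g IH (LK LD1_c14 LD2_c5 LD3_c37) (LK LD1_c23 LD2_c39 LD3_c6) Lrfl Lrfl
theorem f657738 : Led Lsl_df (LP (LK LD1_c23 LD2_c39 LD3_c6)) = (LP (LK LD1_c23 LD2_c23 LD3_c26)) :=
  Lgr Lrot132 (Lpe (f466147 IH) (Lpe (f132129 IH) (Lpe (K34.f532947 IH) (Lpe (K4.f108904 IH) (Lpe (K32.f155636 IH) (Lpe (K8.f128001 IH) (Lpr_df (K5.f122681 IH) (Lpr_et (K5.f123531 IH) (Lpe (K40.f485250 IH) (Lpr_ef (f657732 IH) (Lpn (LP (LK LD1_c23 LD2_c23 LD3_c26)))))))))))))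
theorem f92864 : Led Lsl_bt (LP (LK LD1_c3 LD2_c46 LD3_c51)) = (LP (LK LD1_c7 LD2_c34 LD3_c34)) :=
  Lre_b IH (LK LD1_c3 LD2_c46 LD3_c51) (LK LD1_c7 LD2_c34 LD3_c34) Lrfl Lrfl
theorem f520789 : Led Lsl_ft (LP (LK LD1_c7 LD2_c34 LD3_c34)) = (LP (LK LD1_c13 LD2_c23 LD3_c35)) :=
  Lgr Lrot75 (Lpe (f92864 IH) (Lpr_ff (K34.f520709 IH) (Lpe (K34.f477729 IH) (Lpn (LP (LK LD1_c13 LD2_c23 LD3_c35))))))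
theorem f523366 : Led Lsl_af (LP (LK LD1_c22 LD2_c21 LD3_c35)) = (LP (LK LD1_c13 LD2_c23 LD3_c35)) :=
  Lgr Lrot50 (Lpr_et (K47.f523364 IH) (Lpr_at (K34.f477831 IH) (Lpe (K34.f477731 IH) (Lpn (LP (LK LD1_c13 LD2_c23 LD3_c35))))))
theorem f607904 : Led Lsl_gt (LP (LK LD1_c13 LD2_c24 LD3_c26)) = (LP (LK LD1_c22 LD2_c21 LD3_c35)) :=
  Lgr Lrot46 (Lpr_gf (K63.f607902 IH) (Lpr_ft (f520789 IH) (Lpe (f523366 IH) (Lpn (LP (LK LD1_c22 LD2_c21 LD3_c35))))))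
theorem f480989 : Led Lsl_et (LP (LK LD1_c7 LD2_c22 LD3_c30)) = (LP (LK LD1_c13 LD2_c56 LD3_c48)) :=
  Lre_e IH (LK LD1_c7 LD2_c22 LD3_c30) (LK LD1_c13 LD2_c56 LD3_c48) Lrfl Lrfl
theorem f489372 : Led Lsl_cf (LP (LK LD1_c13 LD2_c24 LD3_c26)) = (LP (LK LD1_c13 LD2_c56 LD3_c48)) :=
  Lgr Lrot39 (Lpr_et (K34.f466300 IH) (Lpr_ct (K34.f489368 IH) (Lpr_et (f480989 IH) (Lpn (LP (LK LD1_c13 LD2_c56 LD3_c48))))))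
theorem f489378 : Led Lsl_ct (LP (LK LD1_c13 LD2_c24 LD3_c26)) = (LP (LK LD1_c13 LD2_c56 LD3_c48)) :=
  Lgr Lrot59 (Lpr_cf (f489372 IH) (Lpn (LP (LK LD1_c13 LD2_c56 LD3_c48))))
theorem f480997 : Led Lsl_gt (LP (LK LD1_c13 LD2_c56 LD3_c48)) = (LP (LK LD1_c23 LD2_c28 LD3_c19)) :=
  Lre_g IH (LK LD1_c13 LD2_c56 LD3_c48) (LK LD1_c23 LD2_c28 LD3_c19) Lrfl Lrfl
theorem f484885 : Led Lsl_af (LP (LK LD1_c13 LD2_c9 LD3_c8)) = (LP (LK LD1_c14 LD2_c24 LD3_c38)) :=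
  Lgr Lrot117 (Lpr_dt (K48.f480893 IH) (Lpr_at (K33.f484865 IH) (Lpr_dt (K34.f484820 IH) (Lpn (LP (LK LD1_c14 LD2_c24 LD3_c38))))))
theorem f484952 : Led Lsl_at (LP (LK LD1_c13 LD2_c9 LD3_c8)) = (LP (LK LD1_c14 LD2_c24 LD3_c38)) :=
  Lgr Lrot100 (Lpr_af (f484885 IH) (Lpn (LP (LK LD1_c14 LD2_c24 LD3_c38))))
theorem f484979 : Led Lsl_ft (LP (LK LD1_c6 LD2_c55 LD3_c27)) = (LP (LK LD1_c13 LD2_c9 LD3_c8)) :=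
  Lre_f IH (LK LD1_c6 LD2_c55 LD3_c27) (LK LD1_c13 LD2_c9 LD3_c8) Lrfl Lrfl
theorem f484980 : Led Lsl_gt (LP (LK LD1_c13 LD2_c9 LD3_c6)) = (LP (LK LD1_c14 LD2_c24 LD3_c38)) :=
  Lgr Lrot46 (Lpe (K34.f114433 IH) (Lpr_ft (f484979 IH) (Lpr_at (f484952 IH) (Lpn (LP (LK LD1_c14 LD2_c24 LD3_c38))))))
theorem f484817 : Led Lsl_dt (LP (LK LD1_c14 LD2_c24 LD3_c38)) = (LP (LK LD1_c7 LD2_c38 LD3_c45)) :=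
  Lre_d IH (LK LD1_c14 LD2_c24 LD3_c38) (LK LD1_c7 LD2_c38 LD3_c45) Lrfl Lrfl
theorem f484822 : Led Lsl_dt (LP (LK LD1_c24 LD2_c3 LD3_c40)) = (LP (LK LD1_c14 LD2_c24 LD3_c37)) :=
  Lre_d IH (LK LD1_c24 LD2_c3 LD3_c40) (LK LD1_c14 LD2_c24 LD3_c37) Lrfl Lrfl
theorem f484815 : Led Lsl_dt (LP (LK LD1_c14 LD2_c24 LD3_c37)) = (LP (LK LD1_c24 LD2_c3 LD3_c40)) :=
  Lre_d IH (LK LD1_c14 LD2_c24 LD3_c37) (LK LD1_c24 LD2_c3 LD3_c40) Lrfl Lrfl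
theorem f484843 : Led Lsl_ff (LP (LK LD1_c22 LD2_c21 LD3_c8)) = (LP (LK LD1_c24 LD2_c3 LD3_c40)) :=
  Lgr Lrot19 (Lpr_dt (K48.f136553 IH) (Lpr_ft (K33.f484837 IH) (Lpr_dt (f484815 IH) (Lpn (LP (LK LD1_c24 LD2_c3 LD3_c40))))))
theorem f484847 : Led Lsl_at (LP (LK LD1_c14 LD2_c51 LD3_c27)) = (LP (LK LD1_c24 LD2_c3 LD3_c40)) :=
  Lgr Lrot66 (Lpe (K48.f480848 IH) (Lpe (K48.f132203 IH) (Lpr_ff (f484843 IH) (Lpn (LP (LK LD1_c24 LD2_c3 LD3_c40))))))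
theorem f478632 : Led Lsl_gt (LP (LK LD1_c13 LD2_c8 LD3_c55)) = (LP (LK LD1_c22 LD2_c21 LD3_c14)) :=
  Lre_g IH (LK LD1_c13 LD2_c8 LD3_c55) (LK LD1_c22 LD2_c21 LD3_c14) Lrfl Lrfl
theorem f484854 : Led Lsl_gt (LP (LK LD1_c22 LD2_c21 LD3_c14)) = (LP (LK LD1_c24 LD2_c3 LD3_c40)) :=
  Lgr Lrot46 (Lpe (f478632 IH) (Lpr_ft (K48.f480848 IH) (Lpr_at (f484847 IH) (Lpn (LP (LK LD1_c24 LD2_c3 LD3_c40))))))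
theorem f607907 : Led Lsl_dt (LP (LK LD1_c23 LD2_c28 LD3_c19)) = (LP (LK LD1_c22 LD2_c21 LD3_c14)) :=
  Lgr Lrot57 (Lpe (f480997 IH) (Lpe (f489378 IH) (Lpr_gt (f607904 IH) (Lpr_dt (K47.f114434 IH) (Lpr_gt (f484980 IH) (Lpr_dt (f484817 IH) (Lpe (K33.f484808 IH) (Lpe (f484822 IH) (Lpe (f484854 IH) (Lpn (LP (LK LD1_c22 LD2_c21 LD3_c14))))))))))))
theorem f481000 : Led Lsl_dt (LP (LK LD1_c7 LD2_c22 LD3_c30)) = (LP (LK LD1_c13 LD2_c56 LD3_c47)) :=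
  Lre_d IH (LK LD1_c7 LD2_c22 LD3_c30) (LK LD1_c13 LD2_c56 LD3_c47) Lrfl Lrfl
theorem f466230 : Led Lsl_gt (LP (LK LD1_c23 LD2_c28 LD3_c16)) = (LP (LK LD1_c13 LD2_c56 LD3_c47)) :=
  Lre_g IH (LK LD1_c23 LD2_c28 LD3_c16) (LK LD1_c13 LD2_c56 LD3_c47) Lrfl Lrfl
theorem f123534 : Led Lsl_et (LP (LK LD1_c23 LD2_c34 LD3_c36)) = (LP (LK LD1_c14 LD2_c1 LD3_c47)) :=
  Lre_e IH (LK LD1_c23 LD2_c34 LD3_c36) (LK LD1_c14 LD2_c1 LD3_c47) Lrfl Lrfl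
theorem f607921 : Led Lsl_df (LP (LK LD1_c23 LD2_c28 LD3_c16)) = (LP (LK LD1_c23 LD2_c34 LD3_c36)) :=
  Lgr Lrot170 (Lpr_gt (f466230 IH) (Lpe (f481000 IH) (Lpr_et (f480989 IH) (Lpr_gt (f480997 IH) (Lpr_dt (f607907 IH) (Lpr_gt (f484854 IH) (Lpe (f484815 IH) (Lpe (K33.f485297 IH) (Lpr_gt (K33.f485307 IH) (Lpe (f123534 IH) (Lpn (LP (LK LD1_c23 LD2_c34 LD3_c36)))))))))))))
theorem f607923 : Led Lsl_dt (LP (LK LD1_c23 LD2_c28 LD3_c16)) = (LP (LK LD1_c23 LD2_c34 LD3_c36)) :=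
  Lgr Lrot42 (Lpr_df (f607921 IH) (Lpn (LP (LK LD1_c23 LD2_c34 LD3_c36))))
theorem f809351 : Led Lsl_at (LP (LK LD1_c23 LD2_c39 LD3_c6)) = (LP (LK LD1_c23 LD2_c28 LD3_c16)) :=
  Lgr Lrot51 (Lpr_df (f657738 IH) (Lpr_af (f809345 IH) (Lpe (f607923 IH) (Lpn (LP (LK LD1_c23 LD2_c28 LD3_c16))))))
theorem f533084 : Led Lsl_at (LP (LK LD1_c14 LD2_c5 LD3_c35)) = (LP (LK LD1_c13 LD2_c56 LD3_c45)) :=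
  Lgr Lrot100 (Lpr_af (K34.f533082 IH) (Lpn (LP (LK LD1_c13 LD2_c56 LD3_c45))))
theorem f654893 : Led Lsl_gf (LP (LK LD1_c14 LD2_c5 LD3_c36)) = (LP (LK LD1_c13 LD2_c6 LD3_c18)) :=
  Lgr Lrot47 (Lpr_gt (K46.f654891 IH) (Lpe (f533084 IH) (Lpr_ff (K34.f533096 IH) (Lpn (LP (LK LD1_c13 LD2_c6 LD3_c18))))))
theorem f654883 : Led Lsl_dt (LP (LK LD1_c14 LD2_c5 LD3_c36)) = (LP (LK LD1_c23 LD2_c39 LD3_c5)) :=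
  Lre_d IH (LK LD1_c14 LD2_c5 LD3_c36) (LK LD1_c23 LD2_c39 LD3_c5) Lrfl Lrfl
theorem f98616 : Led Lsl_dt (LP (LK LD1_c6 LD2_c53 LD3_c44)) = (LP (LK LD1_c13 LD2_c6 LD3_c17)) :=
  Lre_d IH (LK LD1_c6 LD2_c53 LD3_c44) (LK LD1_c13 LD2_c6 LD3_c17) Lrfl Lrfl
theorem f657363 : Led Lsl_gt (LP (LK LD1_c23 LD2_c39 LD3_c5)) = (LP (LK LD1_c23 LD2_c28 LD3_c16)) :=
  Lgr Lrot139 (Lpe (f654883 IH) (Lpr_gf (f654893 IH) (Lpe (K4.f103631 IH) (Lpr_dt (f98616 IH) (Lpe (K5.f129476 IH) (Lpr_df (K5.f122624 IH) (Lpr_et (K5.f122685 IH) (Lpe (K33.f123517 IH) (Lpe (f123534 IH) (Lpe (f607921 IH) (Lpn (LP (LK LD1_c23 LD2_c28 LD3_c16)))))))))))))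
theorem f132117 : Led Lsl_dt (LP (LK LD1_c3 LD2_c43 LD3_c39)) = (LP (LK LD1_c7 LD2_c27 LD3_c56)) :=
  Lre_d IH (LK LD1_c3 LD2_c43 LD3_c39) (LK LD1_c7 LD2_c27 LD3_c56) Lrfl Lrfl
theorem f655024 : Led Lsl_ff (LP (LK LD1_c7 LD2_c22 LD3_c31)) = (LP (LK LD1_c7 LD2_c27 LD3_c56)) :=
  Lgr Lrot19 (Lpr_dt (K46.f439146 IH) (Lpr_ft (K46.f655022 IH) (Lpr_dt (f132117 IH) (Lpn (LP (LK LD1_c7 LD2_c27 LD3_c56))))))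
theorem f654876 : Led Lsl_bt (LP (LK LD1_c7 LD2_c22 LD3_c31)) = (LP (LK LD1_c13 LD2_c56 LD3_c47)) :=
  Lre_b IH (LK LD1_c7 LD2_c22 LD3_c31) (LK LD1_c13 LD2_c56 LD3_c47) Lrfl Lrfl
theorem f488121 : Led Lsl_bt (LP (LK LD1_c14 LD2_c5 LD3_c37)) = (LP (LK LD1_c7 LD2_c27 LD3_c56)) :=
  Lre_b IH (LK LD1_c14 LD2_c5 LD3_c37) (LK LD1_c7 LD2_c27 LD3_c56) Lrfl Lrfl
theorem f657344 : Led Lsl_ft (LP (LK LD1_c13 LD2_c56 LD3_c47)) = (LP (LK LD1_c14 LD2_c5 LD3_c37)) :=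
  Lgr Lrot75 (Lpe (f654876 IH) (Lpr_ff (f655024 IH) (Lpe (f488121 IH) (Lpn (LP (LK LD1_c14 LD2_c5 LD3_c37))))))
theorem f481001 : Led Lsl_gt (LP (LK LD1_c13 LD2_c56 LD3_c47)) = (LP (LK LD1_c23 LD2_c28 LD3_c15)) :=
  Lre_g IH (LK LD1_c13 LD2_c56 LD3_c47) (LK LD1_c23 LD2_c28 LD3_c15) Lrfl Lrfl
theorem f656070 : Led Lsl_at (LP (LK LD1_c14 LD2_c5 LD3_c37)) = (LP (LK LD1_c23 LD2_c39 LD3_c5)) :=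
  Lre_a IH (LK LD1_c14 LD2_c5 LD3_c37) (LK LD1_c23 LD2_c39 LD3_c5) Lrfl Lrfl
theorem f657352 : Led Lsl_gt (LP (LK LD1_c23 LD2_c28 LD3_c15)) = (LP (LK LD1_c23 LD2_c39 LD3_c5)) :=
  Lgr Lrot46 (Lpe (f481001 IH) (Lpr_ft (f657344 IH) (Lpr_at (f656070 IH) (Lpn (LP (LK LD1_c23 LD2_c39 LD3_c5))))))
theorem f809594 : Led Lsl_ff (LP (LK LD1_c23 LD2_c39 LD3_c6)) = (LP (LK LD1_c23 LD2_c28 LD3_c15)) :=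
  Lgr Lrot52 (Lpr_at (f809351 IH) (Lpe (f657363 IH) (Lpe (f657352 IH) (Lpn (LP (LK LD1_c23 LD2_c28 LD3_c15))))))
theorem f809598 : Led Lsl_ft (LP (LK LD1_c23 LD2_c39 LD3_c6)) = (LP (LK LD1_c23 LD2_c28 LD3_c15)) :=
  Lgr Lrot48 (Lpr_ff (f809594 IH) (Lpn (LP (LK LD1_c23 LD2_c28 LD3_c15))))
theorem f657350 : Led Lsl_ff (LP (LK LD1_c13 LD2_c56 LD3_c47)) = (LP (LK LD1_c14 LD2_c5 LD3_c37)) :=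
  Lgr Lrot3 (Lpr_ft (f657344 IH) (Lpn (LP (LK LD1_c14 LD2_c5 LD3_c37))))
theorem f654875 : Led Lsl_at (LP (LK LD1_c13 LD2_c56 LD3_c47)) = (LP (LK LD1_c23 LD2_c28 LD3_c14)) :=
  Lre_a IH (LK LD1_c13 LD2_c56 LD3_c47) (LK LD1_c23 LD2_c28 LD3_c14) Lrfl Lrfl
theorem f657354 : Led Lsl_gf (LP (LK LD1_c23 LD2_c28 LD3_c14)) = (LP (LK LD1_c23 LD2_c39 LD3_c6)) :=
  Lgr Lrot76 (Lpe (f654875 IH) (Lpr_ff (f657350 IH) (Lpr_gt (f466147 IH) (Lpn (LP (LK LD1_c23 LD2_c39 LD3_c6))))))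
theorem f654888 : Led Lsl_dt (LP (LK LD1_c23 LD2_c39 LD3_c5)) = (LP (LK LD1_c14 LD2_c5 LD3_c36)) :=
  Lre_d IH (LK LD1_c23 LD2_c39 LD3_c5) (LK LD1_c14 LD2_c5 LD3_c36) Lrfl Lrfl
theorem f654862 : Led Lsl_dt (LP (LK LD1_c13 LD2_c56 LD3_c46)) = (LP (LK LD1_c23 LD2_c28 LD3_c14)) :=
  Lre_d IH (LK LD1_c13 LD2_c56 LD3_c46) (LK LD1_c23 LD2_c28 LD3_c14) Lrfl Lrfl
theorem f654889 : Led Lsl_ff (LP (LK LD1_c23 LD2_c39 LD3_c5)) = (LP (LK LD1_c23 LD2_c28 LD3_c14)) :=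
  Lgr Lrot19 (Lpr_dt (f654888 IH) (Lpr_ft (K46.f654886 IH) (Lpr_dt (f654862 IH) (Lpn (LP (LK LD1_c23 LD2_c28 LD3_c14))))))
theorem f656044 : Led Lsl_at (LP (LK LD1_c23 LD2_c39 LD3_c5)) = (LP (LK LD1_c14 LD2_c5 LD3_c37)) :=
  Lre_a IH (LK LD1_c23 LD2_c39 LD3_c5) (LK LD1_c14 LD2_c5 LD3_c37) Lrfl Lrfl
theorem f464346 : Led Lsl_gt (LP (LK LD1_c23 LD2_c39 LD3_c7)) = (LP (LK LD1_c14 LD2_c5 LD3_c37)) :=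
  Lre_g IH (LK LD1_c23 LD2_c39 LD3_c7) (LK LD1_c14 LD2_c5 LD3_c37) Lrfl Lrfl
theorem f657365 : Led Lsl_gf (LP (LK LD1_c23 LD2_c39 LD3_c7)) = (LP (LK LD1_c23 LD2_c28 LD3_c14)) :=
  Lgr Lrot47 (Lpr_gt (f464346 IH) (Lpe (f656044 IH) (Lpr_ff (f654889 IH) (Lpn (LP (LK LD1_c23 LD2_c28 LD3_c14))))))
theorem f809603 : Led Lsl_af (LP (LK LD1_c23 LD2_c39 LD3_c7)) = (LP (LK LD1_c23 LD2_c28 LD3_c15)) :=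
  Lgr Lrot31 (Lpr_gf (f657365 IH) (Lpr_gf (f657354 IH) (Lpr_ft (f809598 IH) (Lpn (LP (LK LD1_c23 LD2_c28 LD3_c15))))))
theorem f809592 : Led Lsl_af (LP (LK LD1_c23 LD2_c39 LD3_c6)) = (LP (LK LD1_c23 LD2_c28 LD3_c16)) :=
  Lgr Lrot0 (Lpr_at (f809351 IH) (Lpn (LP (LK LD1_c23 LD2_c28 LD3_c16))))
theorem f809612 : Led Lsl_ft (LP (LK LD1_c23 LD2_c39 LD3_c7)) = (LP (LK LD1_c23 LD2_c28 LD3_c16)) :=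
  Lgr Lrot101 (Lpr_af (f809603 IH) (Lpe (f809598 IH) (Lpr_af (f809592 IH) (Lpn (LP (LK LD1_c23 LD2_c28 LD3_c16))))))
theorem f809616 : Led Lsl_ff (LP (LK LD1_c23 LD2_c39 LD3_c7)) = (LP (LK LD1_c23 LD2_c28 LD3_c16)) :=
  Lgr Lrot3 (Lpr_ft (f809612 IH) (Lpn (LP (LK LD1_c23 LD2_c28 LD3_c16))))
theorem f658749 : Led Lsl_bf (LP (LK LD1_c23 LD2_c23 LD3_c27)) = (LP (LK LD1_c22 LD2_c27 LD3_c14)) :=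
  Lgr Lrot24 (Lpr_bt (K57.f658747 IH) (Lpn (LP (LK LD1_c22 LD2_c27 LD3_c14))))
theorem f809233 : Led Lsl_ff (LP (LK LD1_c23 LD2_c34 LD3_c36)) = (LP (LK LD1_c23 LD2_c23 LD3_c27)) :=
  Lgr Lrot25 (Lpe (f486425 IH) (Lpr_ft (f809231 IH) (Lpe (f658749 IH) (Lpn (LP (LK LD1_c23 LD2_c23 LD3_c27))))))
theorem f809618 : Led Lsl_dt (LP (LK LD1_c23 LD2_c39 LD3_c7)) = (LP (LK LD1_c23 LD2_c23 LD3_c27)) :=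
  Lgr Lrot60 (Lpr_ff (f809616 IH) (Lpr_df (f607921 IH) (Lpr_ff (f809233 IH) (Lpn (LP (LK LD1_c23 LD2_c23 LD3_c27))))))
theorem f809620 : Led Lsl_df (LP (LK LD1_c23 LD2_c39 LD3_c7)) = (LP (LK LD1_c23 LD2_c23 LD3_c27)) :=
  Lgr Lrot38 (Lpr_dt (f809618 IH) (Lpn (LP (LK LD1_c23 LD2_c23 LD3_c27))))
theorem f809622 : Led Lsl_ft (LP (LK LD1_c23 LD2_c34 LD3_c36)) = (LP (LK LD1_c23 LD2_c23 LD3_c27)) :=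
  Lgr Lrot54 (Lpe (f607923 IH) (Lpe (f809612 IH) (Lpr_df (f809620 IH) (Lpn (LP (LK LD1_c23 LD2_c23 LD3_c27))))))
theorem f486823 : Led Lsl_et (LP (LK LD1_c21 LD2_c40 LD3_c12)) = (LP (LK LD1_c30 LD2_c6 LD3_c59)) :=
  Lre_e IH (LK LD1_c21 LD2_c40 LD3_c12) (LK LD1_c30 LD2_c6 LD3_c59) Lrfl Lrfl
theorem f486824 : Led Lsl_cf (LP (LK LD1_c23 LD2_c34 LD3_c36)) = (LP (LK LD1_c30 LD2_c6 LD3_c59)) :=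
  Lgr Lrot39 (Lpr_et (f123534 IH) (Lpr_ct (K33.f486820 IH) (Lpr_et (f486823 IH) (Lpn (LP (LK LD1_c30 LD2_c6 LD3_c59))))))
theorem f809624 : Led Lsl_ff (LP (LK LD1_c30 LD2_c6 LD3_c59)) = (LP (LK LD1_c23 LD2_c58 LD3_c20)) :=
  Lgr Lrot23 (Lpe (f486824 IH) (Lpr_ft (f809622 IH) (Lpe (K57.f533600 IH) (Lpn (LP (LK LD1_c23 LD2_c58 LD3_c20))))))
def v22487 : LQ := Led Lsl_ft (LP (LK LD1_c7 LD2_c37 LD3_c26))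
theorem f807269 : Led Lsl_ft (LP (LK LD1_c7 LD2_c37 LD3_c26)) = v22487 :=
  Lrfl
def v20403 : LQ := Led Lsl_ft (LP (LK LD1_c6 LD2_c56 LD3_c17))
theorem f786811 : Led Lsl_ft (LP (LK LD1_c6 LD2_c56 LD3_c17)) = v20403 :=
  Lrfl
theorem f786813 : Led Lsl_ff (LP (LK LD1_c6 LD2_c56 LD3_c17)) = v20403 :=
  Lgr Lrot3 (Lpr_ft (f786811 IH) (Lpn v20403))
theorem f807271 : Led Lsl_cf v20403 = v22487 :=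
  Lgr Lrot108 (Lpe (f786813 IH) (Lpe (f486377 IH) (Lpr_ft (f807269 IH) (Lpn v22487))))
theorem f809353 : Led Lsl_at (LP (LK LD1_c14 LD2_c47 LD3_c60)) = (LP (LK LD1_c14 LD2_c1 LD3_c47)) :=
  Lgr Lrot80 (Lpr_ef (f657732 IH) (Lpr_af (f809345 IH) (Lpe (f486424 IH) (Lpn (LP (LK LD1_c14 LD2_c1 LD3_c47))))))
theorem f122701 : Led Lsl_gt (LP (LK LD1_c7 LD2_c25 LD3_c2)) = (LP (LK LD1_c14 LD2_c1 LD3_c46)) :=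
  Lre_g IH (LK LD1_c7 LD2_c25 LD3_c2) (LK LD1_c14 LD2_c1 LD3_c46) Lrfl Lrfl
theorem f482314 : Led Lsl_bt (LP (LK LD1_c14 LD2_c48 LD3_c58)) = (LP (LK LD1_c14 LD2_c1 LD3_c46)) :=
  Lgr Lrot92 (Lpr_ct (f123388 IH) (Lpr_gt (f123384 IH) (Lpr_cf (f437632 IH) (Lpr_bt (f122797 IH) (Lpr_gt (K33.f437639 IH) (Lpe (K33.f456079 IH) (Lpr_gt (K29.f482312 IH) (Lpr_cf (K33.f120973 IH) (Lpr_bt (K29.f123507 IH) (Lpr_gt (f122701 IH) (Lpn (LP (LK LD1_c14 LD2_c1 LD3_c46)))))))))))))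
theorem f485309 : Led Lsl_gf (LP (LK LD1_c14 LD2_c48 LD3_c0)) = (LP (LK LD1_c14 LD2_c1 LD3_c46)) :=
  Lgr Lrot124 (Lpr_bf (K33.f485303 IH) (Lpr_ct (K8.f142582 IH) (Lpr_gt (K33.f117328 IH) (Lpe (K33.f96465 IH) (Lpe (K33.f485136 IH) (Lpr_gt (K33.f123429 IH) (Lpe (K33.f437625 IH) (Lpr_gt (f123383 IH) (Lpe (f123388 IH) (Lpr_bt (f482314 IH) (Lpn (LP (LK LD1_c14 LD2_c1 LD3_c46)))))))))))))
theorem f809361 : Led Lsl_ff (LP (LK LD1_c14 LD2_c47 LD3_c60)) = (LP (LK LD1_c14 LD2_c1 LD3_c46)) :=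
  Lgr Lrot52 (Lpr_at (f809353 IH) (Lpe (K33.f485307 IH) (Lpr_gf (f485309 IH) (Lpn (LP (LK LD1_c14 LD2_c1 LD3_c46))))))
theorem f809365 : Led Lsl_ft (LP (LK LD1_c14 LD2_c47 LD3_c60)) = (LP (LK LD1_c14 LD2_c1 LD3_c46)) :=
  Lgr Lrot48 (Lpr_ff (f809361 IH) (Lpn (LP (LK LD1_c14 LD2_c1 LD3_c46))))
theorem f485243 : Led Lsl_ff (LP (LK LD1_c14 LD2_c48 LD3_c0)) = (LP (LK LD1_c14 LD2_c1 LD3_c45)) :=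
  Lgr Lrot30 (Lpr_at (K33.f485242 IH) (Lpr_ft (K33.f485223 IH) (Lpr_at (K37.f123522 IH) (Lpn (LP (LK LD1_c14 LD2_c1 LD3_c45))))))
theorem f485318 : Led Lsl_gf (LP (LK LD1_c14 LD2_c47 LD3_c61)) = (LP (LK LD1_c14 LD2_c1 LD3_c45)) :=
  Lgr Lrot47 (Lpr_gt (K33.f485296 IH) (Lpe (K33.f485242 IH) (Lpr_ff (f485243 IH) (Lpn (LP (LK LD1_c14 LD2_c1 LD3_c45))))))
theorem f809369 : Led Lsl_af (LP (LK LD1_c14 LD2_c47 LD3_c61)) = (LP (LK LD1_c14 LD2_c1 LD3_c46)) :=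
  Lgr Lrot31 (Lpr_gf (f485318 IH) (Lpe (K40.f485250 IH) (Lpr_ft (f809365 IH) (Lpn (LP (LK LD1_c14 LD2_c1 LD3_c46))))))
theorem f809355 : Led Lsl_af (LP (LK LD1_c14 LD2_c47 LD3_c60)) = (LP (LK LD1_c14 LD2_c1 LD3_c47)) :=
  Lgr Lrot0 (Lpr_at (f809353 IH) (Lpn (LP (LK LD1_c14 LD2_c1 LD3_c47))))
theorem f809375 : Led Lsl_ft (LP (LK LD1_c14 LD2_c47 LD3_c61)) = (LP (LK LD1_c14 LD2_c1 LD3_c47)) :=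
  Lgr Lrot101 (Lpr_af (f809369 IH) (Lpe (f809365 IH) (Lpr_af (f809355 IH) (Lpn (LP (LK LD1_c14 LD2_c1 LD3_c47))))))
theorem f809381 : Led Lsl_ff (LP (LK LD1_c14 LD2_c47 LD3_c61)) = (LP (LK LD1_c14 LD2_c1 LD3_c47)) :=
  Lgr Lrot3 (Lpr_ft (f809375 IH) (Lpn (LP (LK LD1_c14 LD2_c1 LD3_c47))))
theorem f809385 : Led Lsl_ft (LP (LK LD1_c14 LD2_c22 LD3_c23)) = (LP (LK LD1_c21 LD2_c40 LD3_c12)) :=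
  Lgr Lrot4 (Lpe (K33.f485314 IH) (Lpr_ff (f809381 IH) (Lpe (K33.f482334 IH) (Lpn (LP (LK LD1_c21 LD2_c40 LD3_c12))))))
theorem f485313 : Led Lsl_bt (LP (LK LD1_c7 LD2_c37 LD3_c26)) = (LP (LK LD1_c14 LD2_c22 LD3_c23)) :=
  Lre_b IH (LK LD1_c7 LD2_c37 LD3_c26) (LK LD1_c14 LD2_c22 LD3_c23) Lrfl Lrfl
theorem f807272 : Led Lsl_ff (LP (LK LD1_c7 LD2_c37 LD3_c26)) = v22487 :=
  Lgr Lrot3 (Lpr_ft (f807269 IH) (Lpn v22487))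
theorem f809387 : v22487 = (LP (LK LD1_c12 LD2_c33 LD3_c61)) :=
  (Llr Lrot25 (Lpe (f807272 IH) (Lpr_bt (f485313 IH) (Lpr_ft (f809385 IH) (Lpr_bt (K33.f130001 IH) (Lpn (LP (LK LD1_c12 LD2_c33 LD3_c61)))))))).symm
theorem f809392 : v20403 = (LP (LK LD1_c13 LD2_c10 LD3_c31)) :=
  Lefun (Lecon (Lfl_cf (f807271 IH)) (f809387 IH)) (K33.f482336 IH)
theorem f809397 : Led Lsl_ff (LP (LK LD1_c13 LD2_c10 LD3_c34)) = (LP (LK LD1_c14 LD2_c19 LD3_c24)) :=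
  Lgr Lrot25 (Lpr_bt (K33.f12002 IH) (Lpr_ft (f786811 IH) (Lpqs (f809392 IH) (Lpe (K33.f486766 IH) (Lpn (LP (LK LD1_c14 LD2_c19 LD3_c24)))))))
theorem f809401 : Led Lsl_ft (LP (LK LD1_c13 LD2_c10 LD3_c34)) = (LP (LK LD1_c14 LD2_c19 LD3_c24)) :=
  Lgr Lrot48 (Lpr_ff (f809397 IH) (Lpn (LP (LK LD1_c14 LD2_c19 LD3_c24))))
theorem f809403 : Led Lsl_af (LP (LK LD1_c7 LD2_c41 LD3_c20)) = (LP (LK LD1_c14 LD2_c19 LD3_c24)) :=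
  Lgr Lrot45 (Lpr_ft (K63.f809064 IH) (Lpe (K63.f809058 IH) (Lpr_ft (f809401 IH) (Lpn (LP (LK LD1_c14 LD2_c19 LD3_c24))))))
theorem f655828 : Led Lsl_et (LP (LK LD1_c7 LD2_c41 LD3_c20)) = (LP (LK LD1_c14 LD2_c29 LD3_c35)) :=
  Lre_e IH (LK LD1_c7 LD2_c41 LD3_c20) (LK LD1_c14 LD2_c29 LD3_c35) Lrfl Lrfl
theorem f809407 : Led Lsl_at (LP (LK LD1_c14 LD2_c29 LD3_c35)) = (LP (LK LD1_c23 LD2_c57 LD3_c21)) :=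
  Lgr Lrot80 (Lpe (f655828 IH) (Lpr_af (f809403 IH) (Lpe (K48.f440280 IH) (Lpn (LP (LK LD1_c23 LD2_c57 LD3_c21))))))
theorem f655846 : Led Lsl_ft (LP (LK LD1_c24 LD2_c10 LD3_c42)) = (LP (LK LD1_c14 LD2_c29 LD3_c35)) :=
  Lre_f IH (LK LD1_c24 LD2_c10 LD3_c42) (LK LD1_c14 LD2_c29 LD3_c35) Lrfl Lrfl
theorem f809239 : Led Lsl_at (LP (LK LD1_c24 LD2_c42 LD3_c34)) = (LP (LK LD1_c22 LD2_c27 LD3_c14)) :=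
  Lgr Lrot100 (Lpr_af (f809237 IH) (Lpn (LP (LK LD1_c22 LD2_c27 LD3_c14))))
theorem f809257 : Led Lsl_at (LP (LK LD1_c24 LD2_c25 LD3_c59)) = (LP (LK LD1_c24 LD2_c10 LD3_c42)) :=
  Lgr Lrot107 (Lpe (K37.f473539 IH) (Lpe (f809239 IH) (Lpr_cf (f809255 IH) (Lpn (LP (LK LD1_c24 LD2_c10 LD3_c42))))))
theorem f809415 : Led Lsl_ff (LP (LK LD1_c24 LD2_c25 LD3_c59)) = (LP (LK LD1_c23 LD2_c57 LD3_c21)) :=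
  Lgr Lrot30 (Lpr_at (f809257 IH) (Lpr_ft (f655846 IH) (Lpr_at (f809407 IH) (Lpn (LP (LK LD1_c23 LD2_c57 LD3_c21))))))
theorem f655683 : Led Lsl_bf (LP (LK LD1_c23 LD2_c57 LD3_c21)) = (LP (LK LD1_c14 LD2_c41 LD3_c18)) :=
  Lgr Lrot24 (Lpr_bt (K48.f655681 IH) (Lpn (LP (LK LD1_c14 LD2_c41 LD3_c18))))
theorem f809417 : Led Lsl_ft (LP (LK LD1_c14 LD2_c41 LD3_c23)) = (LP (LK LD1_c14 LD2_c41 LD3_c18)) :=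
  Lgr Lrot75 (Lpe (K37.f473534 IH) (Lpr_ff (f809415 IH) (Lpr_bf (f655683 IH) (Lpn (LP (LK LD1_c14 LD2_c41 LD3_c18))))))
theorem f809421 : Led Lsl_ff (LP (LK LD1_c14 LD2_c41 LD3_c23)) = (LP (LK LD1_c14 LD2_c41 LD3_c18)) :=
  Lgr Lrot3 (Lpr_ft (f809417 IH) (Lpn (LP (LK LD1_c14 LD2_c41 LD3_c18))))
theorem f809425 : Led Lsl_at (LP (LK LD1_c14 LD2_c41 LD3_c23)) = (LP (LK LD1_c14 LD2_c41 LD3_c19)) :=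
  Lgr Lrot26 (Lpr_ff (f809421 IH) (Lpr_gt (K48.f475724 IH) (Lpe (f475684 IH) (Lpn (LP (LK LD1_c14 LD2_c41 LD3_c19))))))
theorem f804471 : Led Lsl_df (LP (LK LD1_c14 LD2_c41 LD3_c23)) = (LP (LK LD1_c22 LD2_c13 LD3_c34)) :=
  Lgr Lrot38 (Lpr_dt (K62.f804469 IH) (Lpn (LP (LK LD1_c22 LD2_c13 LD3_c34))))
theorem f809429 : Led Lsl_af (LP (LK LD1_c22 LD2_c13 LD3_c34)) = (LP (LK LD1_c22 LD2_c40 LD3_c7)) :=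
  Lgr Lrot117 (Lpe (f804471 IH) (Lpr_at (f809425 IH) (Lpe (f804615 IH) (Lpn (LP (LK LD1_c22 LD2_c40 LD3_c7))))))
theorem f809433 : Led Lsl_ft (LP (LK LD1_c22 LD2_c13 LD3_c35)) = (LP (LK LD1_c22 LD2_c40 LD3_c7)) :=
  Lgr Lrot2 (Lpr_gt (f483818 IH) (Lpr_gt (K62.f473073 IH) (Lpr_af (f809429 IH) (Lpn (LP (LK LD1_c22 LD2_c40 LD3_c7))))))
theorem f804613 : Led Lsl_dt (LP (LK LD1_c22 LD2_c40 LD3_c7)) = (LP (LK LD1_c14 LD2_c41 LD3_c19)) :=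
  Lgr Lrot6 (Lpr_gt (f457620 IH) (Lpr_ct (f479317 IH) (Lpr_gt (f802179 IH) (Lpr_ct (f116744 IH) (Lpe (K62.f116735 IH) (Lpr_cf (K63.f804607 IH) (Lpe (K34.f63022 IH) (Lpe (f457892 IH) (Lpe (f458025 IH) (Lpn (LP (LK LD1_c14 LD2_c41 LD3_c19))))))))))))
theorem f809439 : Led Lsl_ff (LP (LK LD1_c13 LD2_c10 LD3_c35)) = (LP (LK LD1_c14 LD2_c41 LD3_c19)) :=
  Lgr Lrot19 (Lpe (f802864 IH) (Lpr_ft (f809433 IH) (Lpr_dt (f804613 IH) (Lpn (LP (LK LD1_c14 LD2_c41 LD3_c19))))))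
theorem f809514 : Led Lsl_at (LP (LK LD1_c13 LD2_c10 LD3_c35)) = (LP (LK LD1_c14 LD2_c41 LD3_c18)) :=
  Lgr Lrot66 (Lpr_ff (f809439 IH) (Lpe (f809425 IH) (Lpr_ff (f809421 IH) (Lpn (LP (LK LD1_c14 LD2_c41 LD3_c18))))))
theorem f486835 : Led Lsl_bt (LP (LK LD1_c21 LD2_c40 LD3_c13)) = (LP (LK LD1_c30 LD2_c6 LD3_c59)) :=
  Lre_b IH (LK LD1_c21 LD2_c40 LD3_c13) (LK LD1_c30 LD2_c6 LD3_c59) Lrfl Lrfl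
theorem f655685 : Led Lsl_cf (LP (LK LD1_c21 LD2_c40 LD3_c13)) = (LP (LK LD1_c14 LD2_c41 LD3_c18)) :=
  Lgr Lrot97 (Lpr_bt (f486835 IH) (Lpe (f486824 IH) (Lpe (f486425 IH) (Lpr_ct (K48.f486415 IH) (Lpr_bt (K48.f655681 IH) (Lpn (LP (LK LD1_c14 LD2_c41 LD3_c18))))))))
theorem f809516 : Led Lsl_af (LP (LK LD1_c14 LD2_c22 LD3_c26)) = (LP (LK LD1_c21 LD2_c40 LD3_c13)) :=
  Lgr Lrot68 (Lpr_ct (f486282 IH) (Lpr_at (f809514 IH) (Lpe (f655685 IH) (Lpn (LP (LK LD1_c21 LD2_c40 LD3_c13))))))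
theorem f486838 : Led Lsl_bt (LP (LK LD1_c30 LD2_c6 LD3_c59)) = (LP (LK LD1_c21 LD2_c40 LD3_c13)) :=
  Lre_b IH (LK LD1_c30 LD2_c6 LD3_c59) (LK LD1_c21 LD2_c40 LD3_c13) Lrfl Lrfl
theorem f657730 : Led Lsl_cf (LP (LK LD1_c23 LD2_c56 LD3_c60)) = (LP (LK LD1_c23 LD2_c23 LD3_c26)) :=
  Lgr Lrot11 (Lpr_ct (f657726 IH) (Lpn (LP (LK LD1_c23 LD2_c23 LD3_c26))))
theorem f809349 : Led Lsl_at (LP (LK LD1_c23 LD2_c56 LD3_c60)) = (LP (LK LD1_c30 LD2_c6 LD3_c59)) :=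
  Lgr Lrot107 (Lpr_cf (f657730 IH) (Lpr_af (f809345 IH) (Lpr_cf (f486824 IH) (Lpn (LP (LK LD1_c30 LD2_c6 LD3_c59))))))
theorem f809520 : Led Lsl_at (LP (LK LD1_c7 LD2_c45 LD3_c40)) = (LP (LK LD1_c14 LD2_c19 LD3_c7)) :=
  Lgr Lrot67 (Lpe (f806118 IH) (Lpr_af (f809516 IH) (Lpe (f486838 IH) (Lpe (f809349 IH) (Lpe (f485279 IH) (Lpn (LP (LK LD1_c14 LD2_c19 LD3_c7))))))))
theorem f809522 : Led Lsl_af (LP (LK LD1_c7 LD2_c45 LD3_c40)) = (LP (LK LD1_c14 LD2_c19 LD3_c7)) :=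
  Lgr Lrot0 (Lpr_at (f809520 IH) (Lpn (LP (LK LD1_c14 LD2_c19 LD3_c7))))
theorem f806121 : Led Lsl_bf (LP (LK LD1_c14 LD2_c22 LD3_c26)) = (LP (LK LD1_c7 LD2_c45 LD3_c40)) :=
  Lgr Lrot24 (Lpr_bt (f806118 IH) (Lpn (LP (LK LD1_c7 LD2_c45 LD3_c40))))
theorem f809518 : Led Lsl_at (LP (LK LD1_c14 LD2_c22 LD3_c26)) = (LP (LK LD1_c21 LD2_c40 LD3_c13)) :=
  Lgr Lrot100 (Lpr_af (f809516 IH) (Lpn (LP (LK LD1_c21 LD2_c40 LD3_c13))))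
theorem f809554 : Led Lsl_at (LP (LK LD1_c30 LD2_c6 LD3_c59)) = (LP (LK LD1_c23 LD2_c56 LD3_c60)) :=
  Lgr Lrot67 (Lpe (f486835 IH) (Lpe (f809518 IH) (Lpr_bf (f806121 IH) (Lpr_af (f809522 IH) (Lpe (f485276 IH) (Lpn (LP (LK LD1_c23 LD2_c56 LD3_c60))))))))
theorem f809630 : Led Lsl_gf (LP (LK LD1_c23 LD2_c56 LD3_c60)) = (LP (LK LD1_c14 LD2_c20 LD3_c28)) :=
  Lgr Lrot76 (Lpe (f809554 IH) (Lpr_ff (f809624 IH) (Lpr_gt (K57.f472104 IH) (Lpn (LP (LK LD1_c14 LD2_c20 LD3_c28))))))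
theorem f472101 : Led Lsl_ft (LP (LK LD1_c14 LD2_c20 LD3_c28)) = (LP (LK LD1_c23 LD2_c58 LD3_c22)) :=
  Lre_f IH (LK LD1_c14 LD2_c20 LD3_c28) (LK LD1_c23 LD2_c58 LD3_c22) Lrfl Lrfl
theorem f658753 : Led Lsl_at (LP (LK LD1_c23 LD2_c58 LD3_c22)) = (LP (LK LD1_c24 LD2_c42 LD3_c24)) :=
  Lgr Lrot66 (Lpe (f472101 IH) (Lpe (K57.f472102 IH) (Lpr_ff (K57.f658745 IH) (Lpn (LP (LK LD1_c24 LD2_c42 LD3_c24))))))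
theorem f809632 : Led Lsl_gt (LP (LK LD1_c23 LD2_c56 LD3_c60)) = (LP (LK LD1_c24 LD2_c42 LD3_c24)) :=
  Lgr Lrot46 (Lpr_gf (f809630 IH) (Lpr_ft (f472101 IH) (Lpr_at (f658753 IH) (Lpn (LP (LK LD1_c24 LD2_c42 LD3_c24))))))
def v20869 : LQ := Led Lsl_et (LP (LK LD1_c7 LD2_c6 LD3_c46))
theorem f790564 : Led Lsl_et (LP (LK LD1_c7 LD2_c6 LD3_c46)) = v20869 :=
  Lrfl
theorem f456109 : Led Lsl_et (LP (LK LD1_c7 LD2_c50 LD3_c24)) = (LP (LK LD1_c3 LD2_c54 LD3_c22)) :=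
  Lre_e IH (LK LD1_c7 LD2_c50 LD3_c24) (LK LD1_c3 LD2_c54 LD3_c22) Lrfl Lrfl
theorem f790567 : Led Lsl_cf (LP (LK LD1_c7 LD2_c50 LD3_c24)) = v20869 :=
  Lgr Lrot39 (Lpr_et (f456109 IH) (Lpe (K46.f456077 IH) (Lpr_et (f790564 IH) (Lpn v20869))))
def v21396 : LQ := Led Lsl_et (LP (LK LD1_c7 LD2_c18 LD3_c19))
theorem f795551 : Led Lsl_et (LP (LK LD1_c7 LD2_c18 LD3_c19)) = v21396 :=
  Lrfl
theorem f475148 : Led Lsl_bt (LP (LK LD1_c7 LD2_c18 LD3_c19)) = (LP (LK LD1_c3 LD2_c38 LD3_c57)) :=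
  Lre_b IH (LK LD1_c7 LD2_c18 LD3_c19) (LK LD1_c3 LD2_c38 LD3_c57) Lrfl Lrfl
theorem f93139 : Led Lsl_bt (LP (LK LD1_c3 LD2_c34 LD3_c7)) = (LP (LK LD1_c7 LD2_c9 LD3_c19)) :=
  Lre_b IH (LK LD1_c3 LD2_c34 LD3_c7) (LK LD1_c7 LD2_c9 LD3_c19) Lrfl Lrfl
theorem f515319 : Led Lsl_ff (LP (LK LD1_c7 LD2_c18 LD3_c19)) = (LP (LK LD1_c7 LD2_c9 LD3_c19)) :=
  Lgr Lrot25 (Lpr_bt (f475148 IH) (Lpr_ft (K33.f515317 IH) (Lpr_bt (f93139 IH) (Lpn (LP (LK LD1_c7 LD2_c9 LD3_c19))))))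
theorem f482413 : Led Lsl_bt (LP (LK LD1_c3 LD2_c34 LD3_c5)) = (LP (LK LD1_c1 LD2_c43 LD3_c43)) :=
  Lre_b IH (LK LD1_c3 LD2_c34 LD3_c5) (LK LD1_c1 LD2_c43 LD3_c43) Lrfl Lrfl
theorem f515370 : Led Lsl_ft (LP (LK LD1_c7 LD2_c6 LD3_c46)) = (LP (LK LD1_c3 LD2_c34 LD3_c5)) :=
  Lgr Lrot75 (Lpe (K33.f6632 IH) (Lpr_ff (K33.f515368 IH) (Lpe (f482413 IH) (Lpn (LP (LK LD1_c3 LD2_c34 LD3_c5))))))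
theorem f790569 : Led Lsl_ef (LP (LK LD1_c7 LD2_c6 LD3_c46)) = v20869 :=
  Lgr Lrot88 (Lpr_et (f790564 IH) (Lpn v20869))
theorem f795554 : Led Lsl_ff v20869 = v21396 :=
  Lgr Lrot72 (Lpe (f790569 IH) (Lpr_ft (f515370 IH) (Lpr_et (K46.f482555 IH) (Lpe (f515319 IH) (Lpr_et (f795551 IH) (Lpn v21396))))))
theorem f816168 : Led Lsl_cf v21396 = v23302 :=
  Lgr Lrot108 (Lpe (f795554 IH) (Lpe (f790567 IH) (Lpr_ft (f816166 IH) (Lpn v23302))))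
theorem f481676 : Led Lsl_dt (LP (LK LD1_c7 LD2_c18 LD3_c19)) = (LP (LK LD1_c13 LD2_c49 LD3_c26)) :=
  Lre_d IH (LK LD1_c7 LD2_c18 LD3_c19) (LK LD1_c13 LD2_c49 LD3_c26) Lrfl Lrfl
theorem f558985 : Led Lsl_et (LP (LK LD1_c23 LD2_c3 LD3_c18)) = (LP (LK LD1_c13 LD2_c38 LD3_c9)) :=
  Lre_e IH (LK LD1_c23 LD2_c3 LD3_c18) (LK LD1_c13 LD2_c38 LD3_c9) Lrfl Lrfl
theorem f11748 : Led Lsl_dt (LP (LK LD1_c7 LD2_c7 LD3_c2)) = (LP (LK LD1_c13 LD2_c29 LD3_c15)) :=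
  Lre_d IH (LK LD1_c7 LD2_c7 LD3_c2) (LK LD1_c13 LD2_c29 LD3_c15) Lrfl Lrfl
theorem f11749 : Led Lsl_gt (LP (LK LD1_c13 LD2_c29 LD3_c15)) = (LP (LK LD1_c22 LD2_c49 LD3_c35)) :=
  Lre_g IH (LK LD1_c13 LD2_c29 LD3_c15) (LK LD1_c22 LD2_c49 LD3_c35) Lrfl Lrfl
theorem f558986 : Led Lsl_df (LP (LK LD1_c22 LD2_c49 LD3_c35)) = (LP (LK LD1_c23 LD2_c3 LD3_c18)) :=
  Lgr Lrot132 (Lpe (f11749 IH) (Lpe (f11748 IH) (Lpe (K29.f11747 IH) (Lpe (K46.f11819 IH) (Lpr_dt (K37.f11831 IH) (Lpr_gf (K40.f558977 IH) (Lpe (K46.f558981 IH) (Lpr_et (K24.f116218 IH) (Lpe (K46.f116228 IH) (Lpe (f558985 IH) (Lpn (LP (LK LD1_c23 LD2_c3 LD3_c18)))))))))))))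
theorem f795555 : Led Lsl_gf (LP (LK LD1_c8 LD2_c45 LD3_c58)) = v21396 :=
  Lgr Lrot141 (Lpe (K46.f558996 IH) (Lpr_dt (f11748 IH) (Lpr_gt (f11749 IH) (Lpr_df (f558986 IH) (Lpr_et (f558985 IH) (Lpr_gt (K46.f116228 IH) (Lpr_dt (K47.f116232 IH) (Lpe (K48.f606991 IH) (Lpe (f481676 IH) (Lpr_et (f795551 IH) (Lpn v21396)))))))))))
theorem f462601 : Led Lsl_bt (LP (LK LD1_c14 LD2_c53 LD3_c56)) = (LP (LK LD1_c24 LD2_c40 LD3_c47)) :=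
  Lre_b IH (LK LD1_c14 LD2_c53 LD3_c56) (LK LD1_c24 LD2_c40 LD3_c47) Lrfl Lrfl
theorem f816178 : Led Lsl_gf (LP (LK LD1_c24 LD2_c31 LD3_c57)) = (LP (LK LD1_c24 LD2_c40 LD3_c47)) :=
  Lgr Lrot124 (Lpr_bf (f657728 IH) (Lpe (f657730 IH) (Lpr_gt (f809632 IH) (Lpe (K48.f464667 IH) (Lpe (K57.f607601 IH) (Lpr_gt (f816177 IH) (Lpe (f816168 IH) (Lpe (f795555 IH) (Lpe (K47.f558992 IH) (Lpr_bt (f462601 IH) (Lpn (LP (LK LD1_c24 LD2_c40 LD3_c47)))))))))))))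
theorem f816179 : Led Lsl_gt (LP (LK LD1_c24 LD2_c40 LD3_c47)) = (LP (LK LD1_c24 LD2_c31 LD3_c57)) :=
  Leop (Lpr_gf (f816178 IH) (Lpn (LP (LK LD1_c24 LD2_c40 LD3_c47))))
theorem seed_1828 : LEOK LG_g (LK LD1_c24 LD2_c40 LD3_c47) :=
  Leoe_g (LK LD1_c24 LD2_c40 LD3_c47) (f816179 IH)
def v23325 : LQ := Led Lsl_gf (LP (LK LD1_c7 LD2_c50 LD3_c48))
theorem f816299 : Led Lsl_gf (LP (LK LD1_c7 LD2_c50 LD3_c48)) = v23325 :=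
  Lrfl
theorem f478656 : Led Lsl_gt (LP (LK LD1_c7 LD2_c50 LD3_c44)) = (LP (LK LD1_c14 LD2_c48 LD3_c3)) :=
  Lre_g IH (LK LD1_c7 LD2_c50 LD3_c44) (LK LD1_c14 LD2_c48 LD3_c3) Lrfl Lrfl
def v23311 : LQ := Led Lsl_gt (LP (LK LD1_c7 LD2_c50 LD3_c37))
theorem f816214 : Led Lsl_gt (LP (LK LD1_c7 LD2_c50 LD3_c37)) = v23311 :=
  Lrfl
theorem f451156 : Led Lsl_dt (LP (LK LD1_c3 LD2_c54 LD3_c27)) = (LP (LK LD1_c7 LD2_c50 LD3_c37)) :=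
  Lre_d IH (LK LD1_c3 LD2_c54 LD3_c27) (LK LD1_c7 LD2_c50 LD3_c37) Lrfl Lrfl
theorem f123104 : Led Lsl_gt (LP (LK LD1_c7 LD2_c50 LD3_c35)) = (LP (LK LD1_c3 LD2_c54 LD3_c27)) :=
  Lre_g IH (LK LD1_c7 LD2_c50 LD3_c35) (LK LD1_c3 LD2_c54 LD3_c27) Lrfl Lrfl
def v21484 : LQ := Led Lsl_gf (LP (LK LD1_c7 LD2_c20 LD3_c16))
theorem f797483 : Led Lsl_gf (LP (LK LD1_c7 LD2_c20 LD3_c16)) = v21484 :=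
  Lrfl
theorem f797484 : Led Lsl_gt (LP (LK LD1_c7 LD2_c50 LD3_c41)) = v21484 :=
  Lgr Lrot5 (Lpr_ft (K61.f485225 IH) (Lpe (K61.f132056 IH) (Lpr_gf (f797483 IH) (Lpn v21484))))
theorem f485216 : Led Lsl_dt (LP (LK LD1_c7 LD2_c50 LD3_c41)) = (LP (LK LD1_c3 LD2_c54 LD3_c30)) :=
  Lre_d IH (LK LD1_c7 LD2_c50 LD3_c41) (LK LD1_c3 LD2_c54 LD3_c30) Lrfl Lrfl
theorem f123415 : Led Lsl_ct (LP (LK LD1_c0 LD2_c24 LD3_c2)) = (LP (LK LD1_c0 LD2_c53 LD3_c28)) :=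
  Lre_c IH (LK LD1_c0 LD2_c24 LD3_c2) (LK LD1_c0 LD2_c53 LD3_c28) Lrfl Lrfl
theorem f123068 : Led Lsl_ct (LP (LK LD1_c3 LD2_c54 LD3_c27)) = (LP (LK LD1_c1 LD2_c53 LD3_c48)) :=
  Lre_c IH (LK LD1_c3 LD2_c54 LD3_c27) (LK LD1_c1 LD2_c53 LD3_c48) Lrfl Lrfl
theorem f797489 : Led Lsl_cf (LP (LK LD1_c7 LD2_c50 LD3_c35)) = v21484 :=
  Lgr Lrot169 (Lpr_gt (f123104 IH) (Lpr_ct (f123068 IH) (Lpe (K34.f122773 IH) (Lpe (f123415 IH) (Lpe (K29.f123407 IH) (Lpe (K29.f123393 IH) (Lpe (K33.f488016 IH) (Lpe (f485216 IH) (Lpr_gt (f797484 IH) (Lpn v21484))))))))))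
theorem f797491 : Led Lsl_ct (LP (LK LD1_c7 LD2_c50 LD3_c35)) = v21484 :=
  Lgr Lrot59 (Lpr_cf (f797489 IH) (Lpn v21484))
theorem f96349 : Led Lsl_dt (LP (LK LD1_c7 LD2_c20 LD3_c16)) = (LP (LK LD1_c3 LD2_c40 LD3_c4)) :=
  Lre_d IH (LK LD1_c7 LD2_c20 LD3_c16) (LK LD1_c3 LD2_c40 LD3_c4) Lrfl Lrfl
theorem f816215 : Led Lsl_df (LP (LK LD1_c7 LD2_c50 LD3_c48)) = v23311 :=
  Lgr Lrot84 (Lpe (K62.f485158 IH) (Lpe (K39.f485154 IH) (Lpr_gf (K33.f485150 IH) (Lpe (f96349 IH) (Lpr_gf (f797483 IH) (Lpe (f797491 IH) (Lpr_gt (f123104 IH) (Lpr_dt (f451156 IH) (Lpr_gt (f816214 IH) (Lpn v23311))))))))))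
theorem f816216 : Led Lsl_dt (LP (LK LD1_c7 LD2_c50 LD3_c48)) = v23311 :=
  Lgr Lrot42 (Lpr_df (f816215 IH) (Lpn v23311))
theorem f456082 : Led Lsl_dt (LP (LK LD1_c3 LD2_c54 LD3_c23)) = (LP (LK LD1_c1 LD2_c53 LD3_c47)) :=
  Lre_d IH (LK LD1_c3 LD2_c54 LD3_c23) (LK LD1_c1 LD2_c53 LD3_c47) Lrfl Lrfl
theorem f515752 : Led Lsl_af (LP (LK LD1_c3 LD2_c54 LD3_c23)) = (LP (LK LD1_c7 LD2_c49 LD3_c31)) :=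
  Lgr Lrot117 (Lpr_dt (f456082 IH) (Lpr_at (K34.f515746 IH) (Lpr_dt (K33.f123377 IH) (Lpn (LP (LK LD1_c7 LD2_c49 LD3_c31))))))
theorem f484803 : Led Lsl_bt (LP (LK LD1_c7 LD2_c49 LD3_c31)) = (LP (LK LD1_c14 LD2_c24 LD3_c42)) :=
  Lgr Lrot95 (Lpe (K33.f123377 IH) (Lpr_bf (K33.f484782 IH) (Lpe (K33.f484802 IH) (Lpn (LP (LK LD1_c14 LD2_c24 LD3_c42))))))
theorem f490058 : Led Lsl_bt (LP (LK LD1_c7 LD2_c50 LD3_c16)) = (LP (LK LD1_c3 LD2_c54 LD3_c20)) :=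
  Lre_b IH (LK LD1_c7 LD2_c50 LD3_c16) (LK LD1_c3 LD2_c54 LD3_c20) Lrfl Lrfl
theorem f515592 : Led Lsl_ff (LP (LK LD1_c7 LD2_c49 LD3_c31)) = (LP (LK LD1_c3 LD2_c54 LD3_c20)) :=
  Lgr Lrot25 (Lpr_bt (f484803 IH) (Lpr_ft (K33.f515590 IH) (Lpr_bt (f490058 IH) (Lpn (LP (LK LD1_c3 LD2_c54 LD3_c20))))))
theorem f515760 : Led Lsl_gf (LP (LK LD1_c3 LD2_c54 LD3_c23)) = (LP (LK LD1_c7 LD2_c50 LD3_c18)) :=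
  Lgr Lrot76 (Lpr_af (f515752 IH) (Lpr_ff (f515592 IH) (Lpr_gt (K29.f148160 IH) (Lpn (LP (LK LD1_c7 LD2_c50 LD3_c18))))))
theorem f437641 : Led Lsl_ct (LP (LK LD1_c3 LD2_c54 LD3_c23)) = (LP (LK LD1_c7 LD2_c50 LD3_c25)) :=
  Lre_c IH (LK LD1_c3 LD2_c54 LD3_c23) (LK LD1_c7 LD2_c50 LD3_c25) Lrfl Lrfl
def v23303 : LQ := Led Lsl_dt (LP (LK LD1_c7 LD2_c50 LD3_c25))
theorem f816180 : Led Lsl_dt (LP (LK LD1_c7 LD2_c50 LD3_c25)) = v23303 :=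
  Lrfl
theorem f456083 : Led Lsl_ct (LP (LK LD1_c7 LD2_c50 LD3_c25)) = (LP (LK LD1_c3 LD2_c54 LD3_c23)) :=
  Lre_c IH (LK LD1_c7 LD2_c50 LD3_c25) (LK LD1_c3 LD2_c54 LD3_c23) Lrfl Lrfl
theorem f456008 : Led Lsl_ct (LP (LK LD1_c7 LD2_c9 LD3_c10)) = (LP (LK LD1_c13 LD2_c32 LD3_c56)) :=
  Lre_c IH (LK LD1_c7 LD2_c9 LD3_c10) (LK LD1_c13 LD2_c32 LD3_c56) Lrfl Lrfl
theorem f515508 : Led Lsl_ff (LP (LK LD1_c7 LD2_c50 LD3_c25)) = (LP (LK LD1_c13 LD2_c32 LD3_c56)) :=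
  Lgr Lrot23 (Lpr_ct (f456083 IH) (Lpr_ft (K34.f515465 IH) (Lpr_ct (f456008 IH) (Lpn (LP (LK LD1_c13 LD2_c32 LD3_c56))))))
theorem f515527 : Led Lsl_ft (LP (LK LD1_c7 LD2_c50 LD3_c25)) = (LP (LK LD1_c13 LD2_c32 LD3_c56)) :=
  Lgr Lrot48 (Lpr_ff (f515508 IH) (Lpn (LP (LK LD1_c13 LD2_c32 LD3_c56))))
theorem f456007 : Led Lsl_ct (LP (LK LD1_c13 LD2_c32 LD3_c56)) = (LP (LK LD1_c7 LD2_c9 LD3_c10)) :=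
  Lre_c IH (LK LD1_c13 LD2_c32 LD3_c56) (LK LD1_c7 LD2_c9 LD3_c10) Lrfl Lrfl
theorem f122783 : Led Lsl_ct (LP (LK LD1_c3 LD2_c54 LD3_c20)) = (LP (LK LD1_c7 LD2_c50 LD3_c19)) :=
  Lre_c IH (LK LD1_c3 LD2_c54 LD3_c20) (LK LD1_c7 LD2_c50 LD3_c19) Lrfl Lrfl
theorem f515125 : Led Lsl_af (LP (LK LD1_c13 LD2_c32 LD3_c56)) = (LP (LK LD1_c7 LD2_c50 LD3_c19)) :=
  Lgr Lrot68 (Lpr_ct (f456007 IH) (Lpr_at (K46.f515118 IH) (Lpr_ct (f122783 IH) (Lpn (LP (LK LD1_c7 LD2_c50 LD3_c19))))))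
theorem f515127 : Led Lsl_at (LP (LK LD1_c13 LD2_c32 LD3_c56)) = (LP (LK LD1_c7 LD2_c50 LD3_c19)) :=
  Lgr Lrot100 (Lpr_af (f515125 IH) (Lpn (LP (LK LD1_c7 LD2_c50 LD3_c19))))
theorem f485519 : Led Lsl_dt (LP (LK LD1_c7 LD2_c9 LD3_c7)) = (LP (LK LD1_c3 LD2_c34 LD3_c0)) :=
  Lre_d IH (LK LD1_c7 LD2_c9 LD3_c7) (LK LD1_c3 LD2_c34 LD3_c0) Lrfl Lrfl
def v20923 : LQ := Led Lsl_ct (LP (LK LD1_c7 LD2_c9 LD3_c7))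
theorem f791075 : Led Lsl_ct (LP (LK LD1_c7 LD2_c9 LD3_c7)) = v20923 :=
  Lrfl
theorem f791077 : Led Lsl_cf (LP (LK LD1_c7 LD2_c9 LD3_c7)) = v20923 :=
  Lgr Lrot11 (Lpr_ct (f791075 IH) (Lpn v20923))
theorem f485513 : Led Lsl_dt (LP (LK LD1_c3 LD2_c34 LD3_c0)) = (LP (LK LD1_c7 LD2_c9 LD3_c7)) :=
  Lre_d IH (LK LD1_c3 LD2_c34 LD3_c0) (LK LD1_c7 LD2_c9 LD3_c7) Lrfl Lrfl
def v2739 : LQ := Led Lsl_dt (LP (LK LD1_c1 LD2_c54 LD3_c29))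
theorem f531697 : Led Lsl_dt (LP (LK LD1_c1 LD2_c54 LD3_c29)) = v2739 :=
  Lrfl
theorem f531699 : Led Lsl_df (LP (LK LD1_c1 LD2_c54 LD3_c29)) = v2739 :=
  Lgr Lrot38 (Lpr_dt (f531697 IH) (Lpn v2739))
def v6908 : LQ := Led Lsl_ft (LP (LK LD1_c3 LD2_c34 LD3_c18))
theorem f659374 : Led Lsl_ft (LP (LK LD1_c3 LD2_c34 LD3_c18)) = v6908 :=
  Lrfl
theorem f659378 : Led Lsl_ff (LP (LK LD1_c3 LD2_c34 LD3_c18)) = v6908 :=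
  Lgr Lrot3 (Lpr_ft (f659374 IH) (Lpn v6908))
theorem f531701 : Led Lsl_gf (LP (LK LD1_c7 LD2_c9 LD3_c46)) = v2739 :=
  Lgr Lrot143 (Lpe (K61.f521094 IH) (Lpe (K34.f493311 IH) (Lpr_df (K34.f472569 IH) (Lpe (K34.f123125 IH) (Lpe (K34.f122773 IH) (Lpe (K33.f122789 IH) (Lpe (K33.f456072 IH) (Lpr_gt (K29.f482312 IH) (Lpr_dt (f531697 IH) (Lpn v2739))))))))))
theorem f659382 : Led Lsl_gf v2739 = v6908 :=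
  Lgr Lrot47 (Lpe (f531701 IH) (Lpe (K61.f519307 IH) (Lpr_ff (f659378 IH) (Lpn v6908))))
def v6907 : LQ := Led Lsl_ct (LP (LK LD1_c3 LD2_c34 LD3_c18))
theorem f659366 : Led Lsl_ct (LP (LK LD1_c3 LD2_c34 LD3_c18)) = v6907 :=
  Lrfl
theorem f519305 : Led Lsl_at (LP (LK LD1_c7 LD2_c9 LD3_c46)) = (LP (LK LD1_c3 LD2_c34 LD3_c18)) :=
  Lre_a IH (LK LD1_c7 LD2_c9 LD3_c46) (LK LD1_c3 LD2_c34 LD3_c18) Lrfl Lrfl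
def v2586 : LQ := Led Lsl_ft (LP (LK LD1_c1 LD2_c49 LD3_c14))
theorem f527623 : Led Lsl_ft (LP (LK LD1_c1 LD2_c49 LD3_c14)) = v2586 :=
  Lrfl
theorem f527626 : Led Lsl_ff (LP (LK LD1_c1 LD2_c49 LD3_c14)) = v2586 :=
  Lgr Lrot3 (Lpr_ft (f527623 IH) (Lpn v2586))
theorem f529169 : Led Lsl_et (LP (LK LD1_c7 LD2_c5 LD3_c5)) = v2586 :=
  Lgr Lrot69 (Lpr_ff (K42.f529161 IH) (Lpe (K49.f480431 IH) (Lpe (K48.f527668 IH) (Lpe (K48.f517621 IH) (Lpr_ff (f527626 IH) (Lpn v2586))))))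
theorem f102880 : Led Lsl_et (LP (LK LD1_c1 LD2_c39 LD3_c37)) = (LP (LK LD1_c3 LD2_c25 LD3_c59)) :=
  Lre_e IH (LK LD1_c1 LD2_c39 LD3_c37) (LK LD1_c3 LD2_c25 LD3_c59) Lrfl Lrfl
theorem f529170 : Led Lsl_gf (LP (LK LD1_c3 LD2_c25 LD3_c59)) = v2586 :=
  Lgr Lrot141 (Lpe (f102880 IH) (Lpr_dt (K5.f12583 IH) (Lpe (K5.f129147 IH) (Lpe (K5.f107308 IH) (Lpr_et (K8.f129165 IH) (Lpr_gt (K28.f129166 IH) (Lpr_dt (K33.f129167 IH) (Lpe (K33.f480487 IH) (Lpr_df (K33.f480050 IH) (Lpr_et (f529169 IH) (Lpn v2586)))))))))))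
theorem f529171 : Led Lsl_gt (LP (LK LD1_c3 LD2_c25 LD3_c59)) = K48.v2585 :=
  Lgr Lrot46 (Lpr_gf (f529170 IH) (Lpe (f527626 IH) (Lpr_at (K48.f527615 IH) (Lpn K48.v2585))))
theorem f4557 : Led Lsl_ft (LP (LK LD1_c1 LD2_c47 LD3_c45)) = (LP (LK LD1_c0 LD2_c50 LD3_c36)) :=
  Lre_f IH (LK LD1_c1 LD2_c47 LD3_c45) (LK LD1_c0 LD2_c50 LD3_c36) Lrfl Lrfl
theorem f459497 : Led Lsl_bf (LP (LK LD1_c1 LD2_c47 LD3_c45)) = K49.v809 :=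
  Lgr Lrot61 (Lpr_ft (f4557 IH) (Lpe (K4.f12858 IH) (Lpr_ft (K49.f459496 IH) (Lpn K49.v809))))
theorem f459498 : Led Lsl_cf K33.v198 = K49.v809 :=
  Lgr Lrot108 (Lpe (K33.f451035 IH) (Lpr_ct (K34.f12848 IH) (Lpr_ft (K49.f459496 IH) (Lpn K49.v809))))
theorem f459437 : Led Lsl_af K33.v198 = K33.v798 :=
  Lgr Lrot45 (Lpe (K33.f451035 IH) (Lpr_at (K33.f436824 IH) (Lpr_ft (K33.f459436 IH) (Lpn K33.v798))))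
theorem f459440 : Led Lsl_gt K62.v795 = K33.v198 :=
  Lgr Lrot46 (Lpe (K62.f459425 IH) (Lpr_ft (K33.f459436 IH) (Lpe (f459437 IH) (Lpn K33.v198))))
theorem f529172 : K62.v795 = K34.v810 :=
  (Llr Lrot129 (Lpr_gt (f459440 IH) (Lpr_cf (f459498 IH) (Lpe (f459497 IH) (Lpr_gt (K29.f148259 IH) (Lpe (K43.f436812 IH) (Lpe (K46.f483457 IH) (Lpr_gt (K48.f518327 IH) (Lpe (K48.f511566 IH) (Lpr_bt (K47.f137111 IH) (Lpr_gt (f529171 IH) (Lpe (K48.f527618 IH) (Lpn K34.v810))))))))))))).symm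
def v1070 : LQ := Led Lsl_gf K29.v214
theorem f491266 : Led Lsl_gf K29.v214 = v1070 :=
  Lrfl
theorem f529173 : Led Lsl_dt K61.v2587 = v1070 :=
  Lgr Lrot136 (Lpe (K61.f527631 IH) (Lpq (f529172 IH) (Lpe (K62.f459425 IH) (Lpe (K33.f147765 IH) (Lpr_dt (K7.f147741 IH) (Lpr_gf (K49.f148443 IH) (Lpe (K5.f12405 IH) (Lpe (K5.f90077 IH) (Lpe (K61.f90083 IH) (Lpr_dt (K29.f451146 IH) (Lpr_gf (f491266 IH) (Lpn v1070))))))))))))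
theorem f529175 : Led Lsl_df K61.v2587 = v1070 :=
  Lgr Lrot38 (Lpr_dt (f529173 IH) (Lpn v1070))
def v1071 : LQ := Led Lsl_ct K29.v214
theorem f491267 : Led Lsl_ct K29.v214 = v1071 :=
  Lrfl
def v3850 : LQ := Led Lsl_gt v1071
theorem f627554 : Led Lsl_gt v1071 = v3850 :=
  Lrfl
theorem f521096 : Led Lsl_dt (LP (LK LD1_c13 LD2_c4 LD3_c4)) = (LP (LK LD1_c7 LD2_c9 LD3_c46)) :=
  Lgr Lrot42 (Lpr_df (K61.f521094 IH) (Lpn (LP (LK LD1_c7 LD2_c9 LD3_c46))))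
theorem f658870 : Led Lsl_ct v3850 = (LP (LK LD1_c7 LD2_c9 LD3_c46)) :=
  Lgr Lrot151 (Lpe (f627554 IH) (Lpe (f491267 IH) (Lpr_gf (f491266 IH) (Lpe (f529175 IH) (Lpqs (K61.f658869 IH) (Lpe (K61.f514658 IH) (Lpr_ct (K34.f455784 IH) (Lpr_gt (K34.f455795 IH) (Lpr_ct (K34.f493311 IH) (Lpr_dt (f521096 IH) (Lpn (LP (LK LD1_c7 LD2_c9 LD3_c46)))))))))))))
theorem f659367 : Led Lsl_af v3850 = v6907 :=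
  Lgr Lrot68 (Lpr_ct (f658870 IH) (Lpr_at (f519305 IH) (Lpr_ct (f659366 IH) (Lpn v6907))))
def v3851 : LQ := Led Lsl_gf v1071
theorem f627555 : Led Lsl_gf v1071 = v3851 :=
  Lrfl
theorem f659372 : Led Lsl_ft v3851 = v6907 :=
  Lgr Lrot2 (Lpe (f627555 IH) (Lpr_gt (f627554 IH) (Lpr_af (f659367 IH) (Lpn v6907))))
theorem f659373 : Led Lsl_ff v3851 = v6907 :=
  Lgr Lrot3 (Lpr_ft (f659372 IH) (Lpn v6907))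
theorem f659380 : Led Lsl_ct v3851 = v6908 :=
  Lgr Lrot40 (Lpr_ff (f659373 IH) (Lpe (f659366 IH) (Lpr_ff (f659378 IH) (Lpn v6908))))
def v3853 : LQ := Led Lsl_dt v1071
theorem f627564 : Led Lsl_dt v1071 = v3853 :=
  Lrfl
def v11691 : LQ := Led Lsl_gt v3853
theorem f685521 : Led Lsl_gt v3853 = v11691 :=
  Lrfl
theorem f791079 : Led Lsl_dt v11691 = v20923 :=
  Lgr Lrot113 (Lpe (f685521 IH) (Lpe (f627564 IH) (Lpr_gf (f627555 IH) (Lpr_ct (f659380 IH) (Lpe (f659382 IH) (Lpe (f531699 IH) (Lpe (K33.f515971 IH) (Lpr_dt (f485513 IH) (Lpr_ct (f791075 IH) (Lpn v20923))))))))))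
theorem f816182 : Led Lsl_cf v11691 = v23303 :=
  Lgr Lrot118 (Lpr_dt (f791079 IH) (Lpe (f791077 IH) (Lpr_dt (f485519 IH) (Lpr_ct (K33.f515969 IH) (Lpr_dt (K29.f122782 IH) (Lpr_ct (f122783 IH) (Lpe (f515127 IH) (Lpe (f515527 IH) (Lpr_dt (f816180 IH) (Lpn v23303))))))))))
theorem f816183 : Led Lsl_ct v11691 = v23303 :=
  Lgr Lrot59 (Lpr_cf (f816182 IH) (Lpn v23303))
def v11693 : LQ := Led Lsl_ct v3853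
theorem f685523 : Led Lsl_ct v3853 = v11693 :=
  Lrfl
theorem f685524 : Led Lsl_cf v3853 = v11693 :=
  Lgr Lrot11 (Lpr_ct (f685523 IH) (Lpn v11693))
theorem f816218 : Led Lsl_gf v11693 = v23311 :=
  Lgr Lrot147 (Lpe (f685524 IH) (Lpr_gt (f685521 IH) (Lpr_ct (f816183 IH) (Lpe (f816180 IH) (Lpe (f437641 IH) (Lpr_gf (f515760 IH) (Lpe (K62.f490004 IH) (Lpe (K62.f524494 IH) (Lpr_df (f816215 IH) (Lpn v23311))))))))))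
def v23248 : LQ := Led Lsl_ft (LP (LK LD1_c7 LD2_c49 LD3_c34))
theorem f815860 : Led Lsl_ft (LP (LK LD1_c7 LD2_c49 LD3_c34)) = v23248 :=
  Lrfl
theorem f815864 : Led Lsl_ff (LP (LK LD1_c7 LD2_c49 LD3_c34)) = v23248 :=
  Lgr Lrot3 (Lpr_ft (f815860 IH) (Lpn v23248))
def v23247 : LQ := Led Lsl_dt (LP (LK LD1_c7 LD2_c49 LD3_c34))
theorem f815849 : Led Lsl_dt (LP (LK LD1_c7 LD2_c49 LD3_c34)) = v23247 :=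
  Lrfl
def v882 : LQ := Led Lsl_dt (LP (LK LD1_c0 LD2_c53 LD3_c31))
theorem f490243 : Led Lsl_dt (LP (LK LD1_c0 LD2_c53 LD3_c31)) = v882 :=
  Lrfl
theorem f490245 : Led Lsl_df (LP (LK LD1_c0 LD2_c53 LD3_c31)) = v882 :=
  Lgr Lrot38 (Lpr_dt (f490243 IH) (Lpn v882))
def v3485 : LQ := Led Lsl_ct v882
theorem f625870 : Led Lsl_ct v882 = v3485 :=
  Lrfl
theorem f625871 : Led Lsl_cf v882 = v3485 :=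
  Lgr Lrot11 (Lpr_ct (f625870 IH) (Lpn v3485))
def v10805 : LQ := Led Lsl_dt v3485
theorem f681848 : Led Lsl_dt v3485 = v10805 :=
  Lrfl
theorem f681849 : Led Lsl_df v3485 = v10805 :=
  Lgr Lrot38 (Lpr_dt (f681848 IH) (Lpn v10805))
theorem f815852 : Led Lsl_cf v10805 = v23247 :=
  Lgr Lrot116 (Lpe (f681849 IH) (Lpe (f625871 IH) (Lpe (f490245 IH) (Lpr_ct (K6.f122804 IH) (Lpe (K24.f122796 IH) (Lpe (K24.f134733 IH) (Lpr_dt (K34.f142289 IH) (Lpr_ct (K62.f142302 IH) (Lpr_dt (f815849 IH) (Lpn v23247))))))))))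
theorem f437673 : Led Lsl_ft (LP (LK LD1_c0 LD2_c24 LD3_c2)) = (LP (LK LD1_c0 LD2_c53 LD3_c31)) :=
  Lre_f IH (LK LD1_c0 LD2_c24 LD3_c2) (LK LD1_c0 LD2_c53 LD3_c31) Lrfl Lrfl
theorem f490246 : Led Lsl_ff K29.v214 = v882 :=
  Lgr Lrot19 (Lpe (K29.f451148 IH) (Lpr_ft (f437673 IH) (Lpr_dt (f490243 IH) (Lpn v882))))
theorem f490248 : Led Lsl_ft K29.v214 = v882 :=
  Lgr Lrot48 (Lpr_ff (f490246 IH) (Lpn v882))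
theorem f491268 : Led Lsl_cf K29.v214 = v1071 :=
  Lgr Lrot11 (Lpr_ct (f491267 IH) (Lpn v1071))
theorem f625872 : Led Lsl_ff v1071 = v3485 :=
  Lgr Lrot23 (Lpe (f491268 IH) (Lpr_ft (f490248 IH) (Lpr_ct (f625870 IH) (Lpn v3485))))
theorem f625873 : Led Lsl_ft v1071 = v3485 :=
  Lgr Lrot48 (Lpr_ff (f625872 IH) (Lpn v3485))
theorem f627565 : Led Lsl_df v1071 = v3853 :=
  Lgr Lrot38 (Lpr_dt (f627564 IH) (Lpn v3853))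
theorem f681850 : Led Lsl_ff v3853 = v10805 :=
  Lgr Lrot19 (Lpe (f627565 IH) (Lpr_ft (f625873 IH) (Lpr_dt (f681848 IH) (Lpn v10805))))
theorem f815855 : Led Lsl_ft v11693 = v23247 :=
  Lgr Lrot4 (Lpe (f685523 IH) (Lpr_ff (f681850 IH) (Lpr_cf (f815852 IH) (Lpn v23247))))
theorem f815856 : Led Lsl_ff v11693 = v23247 :=
  Lgr Lrot3 (Lpr_ft (f815855 IH) (Lpn v23247))
theorem f815867 : Led Lsl_dt v11693 = v23248 :=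
  Lgr Lrot60 (Lpr_ff (f815856 IH) (Lpe (f815849 IH) (Lpr_ff (f815864 IH) (Lpn v23248))))
theorem f531383 : Led Lsl_ft (LP (LK LD1_c7 LD2_c49 LD3_c35)) = (LP (LK LD1_c3 LD2_c53 LD3_c58)) :=
  Lre_f IH (LK LD1_c7 LD2_c49 LD3_c35) (LK LD1_c3 LD2_c53 LD3_c58) Lrfl Lrfl
theorem f815862 : Led Lsl_cf (LP (LK LD1_c7 LD2_c49 LD3_c35)) = v23248 :=
  Lgr Lrot108 (Lpr_ft (f531383 IH) (Lpr_ct (K62.f142302 IH) (Lpr_ft (f815860 IH) (Lpn v23248))))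
def v7664 : LQ := Led Lsl_gf (LP (LK LD1_c3 LD2_c54 LD3_c20))
theorem f667525 : Led Lsl_gf (LP (LK LD1_c3 LD2_c54 LD3_c20)) = v7664 :=
  Lrfl
theorem f816302 : Led Lsl_ct v7664 = v23325 :=
  Lgr Lrot8 (Lpe (f667525 IH) (Lpr_dt (K33.f148172 IH) (Lpr_gt (K33.f148177 IH) (Lpr_dt (K34.f148178 IH) (Lpr_cf (f815862 IH) (Lpe (f815867 IH) (Lpr_gf (f816218 IH) (Lpe (f816216 IH) (Lpr_gf (f816299 IH) (Lpn v23325))))))))))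
theorem f667526 : Led Lsl_gt (LP (LK LD1_c3 LD2_c54 LD3_c23)) = v7664 :=
  Lgr Lrot5 (Lpr_ft (K34.f515465 IH) (Lpr_at (K46.f515118 IH) (Lpr_gf (f667525 IH) (Lpn v7664))))
theorem f456103 : Led Lsl_gt (LP (LK LD1_c24 LD2_c33 LD3_c41)) = (LP (LK LD1_c14 LD2_c47 LD3_c22)) :=
  Lre_g IH (LK LD1_c24 LD2_c33 LD3_c41) (LK LD1_c14 LD2_c47 LD3_c22) Lrfl Lrfl
theorem f456102 : Led Lsl_ct (LP (LK LD1_c14 LD2_c47 LD3_c22)) = (LP (LK LD1_c7 LD2_c50 LD3_c23)) :=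
  Lre_c IH (LK LD1_c14 LD2_c47 LD3_c22) (LK LD1_c7 LD2_c50 LD3_c23) Lrfl Lrfl
theorem f560765 : Led Lsl_ct (LP (LK LD1_c14 LD2_c51 LD3_c32)) = (LP (LK LD1_c24 LD2_c33 LD3_c41)) :=
  Lgr Lrot152 (Lpe (K61.f528255 IH) (Lpe (K61.f456642 IH) (Lpr_gt (K46.f122788 IH) (Lpr_ct (K46.f560757 IH) (Lpe (K43.f560755 IH) (Lpr_ct (K33.f456084 IH) (Lpe (K34.f456100 IH) (Lpe (f456102 IH) (Lpe (f456103 IH) (Lpn (LP (LK LD1_c24 LD2_c33 LD3_c41))))))))))))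
theorem f816304 : Led Lsl_bf (LP (LK LD1_c14 LD2_c48 LD3_c3)) = (LP (LK LD1_c14 LD2_c51 LD3_c32)) :=
  Lgr Lrot34 (Lpe (f478656 IH) (Lpe (K34.f524078 IH) (Lpr_ct (K62.f485158 IH) (Lpr_gf (f816299 IH) (Lpe (f816302 IH) (Lpe (f667526 IH) (Lpe (K34.f515464 IH) (Lpr_ct (K33.f456094 IH) (Lpe (f456103 IH) (Lpe (f560765 IH) (Lpn (LP (LK LD1_c14 LD2_c51 LD3_c32)))))))))))))
theorem f816305 : Led Lsl_bt (LP (LK LD1_c14 LD2_c51 LD3_c32)) = (LP (LK LD1_c14 LD2_c48 LD3_c3)) :=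
  Leop (Lpr_bf (f816304 IH) (Lpn (LP (LK LD1_c14 LD2_c51 LD3_c32))))
theorem seed_1829 : LEOK LG_b (LK LD1_c14 LD2_c51 LD3_c32) :=
  Leoe_b (LK LD1_c14 LD2_c51 LD3_c32) (f816305 IH)
def v23329 : LQ := Led Lsl_bt (LP (LK LD1_c7 LD2_c50 LD3_c50))
theorem f816323 : Led Lsl_bt (LP (LK LD1_c7 LD2_c50 LD3_c50)) = v23329 :=
  Lrfl
theorem f491909 : Led Lsl_bf (LP (LK LD1_c7 LD2_c52 LD3_c47)) = (LP (LK LD1_c14 LD2_c38 LD3_c15)) :=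
  Lgr Lrot90 (Lpe (K35.f479827 IH) (Lpr_bt (K32.f464773 IH) (Lpr_ct (K33.f491900 IH) (Lpr_bt (K37.f463995 IH) (Lpr_ct (K48.f491908 IH) (Lpn (LP (LK LD1_c14 LD2_c38 LD3_c15))))))))
theorem f816327 : Led Lsl_ef (LP (LK LD1_c14 LD2_c38 LD3_c15)) = v23329 :=
  Lgr Lrot29 (Lpe (f491909 IH) (Lpe (K33.f485173 IH) (Lpr_bt (f816323 IH) (Lpn v23329))))
theorem f524401 : Led Lsl_df (LP (LK LD1_c23 LD2_c27 LD3_c1)) = (LP (LK LD1_c14 LD2_c48 LD3_c35)) :=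
  Lgr Lrot78 (Lpr_ft (f524398 IH) (Lpr_dt (f477090 IH) (Lpr_ft (K40.f524400 IH) (Lpn (LP (LK LD1_c14 LD2_c48 LD3_c35))))))
theorem f488479 : Led Lsl_dt (LP (LK LD1_c7 LD2_c30 LD3_c4)) = (LP (LK LD1_c14 LD2_c10 LD3_c1)) :=
  Lre_d IH (LK LD1_c7 LD2_c30 LD3_c4) (LK LD1_c14 LD2_c10 LD3_c1) Lrfl Lrfl
theorem f467386 : Led Lsl_bt (LP (LK LD1_c14 LD2_c0 LD3_c40)) = (LP (LK LD1_c7 LD2_c24 LD3_c21)) :=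
  Lre_b IH (LK LD1_c14 LD2_c0 LD3_c40) (LK LD1_c7 LD2_c24 LD3_c21) Lrfl Lrfl
theorem f816326 : Led Lsl_df (LP (LK LD1_c14 LD2_c0 LD3_c40)) = v23329 :=
  Lgr Lrot12 (Lpr_bt (f467386 IH) (Lpe (K34.f490446 IH) (Lpr_bt (f816323 IH) (Lpn v23329))))
theorem f816334 : Led Lsl_gt (LP (LK LD1_c14 LD2_c10 LD3_c1)) = (LP (LK LD1_c14 LD2_c0 LD3_c40)) :=
  Lgr Lrot112 (Lpe (f488479 IH) (Lpr_et (K48.f488474 IH) (Lpr_gf (K47.f611043 IH) (Lpe (K46.f462344 IH) (Lpr_dt (f144294 IH) (Lpe (f524405 IH) (Lpr_df (f524401 IH) (Lpr_gf (K35.f535458 IH) (Lpr_ef (f816327 IH) (Lpe (f816326 IH) (Lpn (LP (LK LD1_c14 LD2_c0 LD3_c40)))))))))))))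
theorem f816335 : Led Lsl_gt (LP (LK LD1_c14 LD2_c10 LD3_c1)) = (LP (LK LD1_c14 LD2_c0 LD3_c40)) :=
  Leop (Lpe (f816334 IH) (Lpn (LP (LK LD1_c14 LD2_c10 LD3_c1))))
theorem seed_1830 : LEOK LG_g (LK LD1_c14 LD2_c10 LD3_c1) :=
  Leoe_g (LK LD1_c14 LD2_c10 LD3_c1) (f816335 IH)
def v23343 : LQ := Led Lsl_et (LP (LK LD1_c7 LD2_c50 LD3_c57))
theorem f816403 : Led Lsl_et (LP (LK LD1_c7 LD2_c50 LD3_c57)) = v23343 :=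
  Lrfl
theorem f816407 : Led Lsl_ef (LP (LK LD1_c7 LD2_c50 LD3_c57)) = v23343 :=
  Lgr Lrot88 (Lpr_et (f816403 IH) (Lpn v23343))
theorem f816409 : Led Lsl_bt K48.v7671 = v23343 :=
  Lgr Lrot119 (Lpe (K48.f667577 IH) (Lpe (K29.f477082 IH) (Lpr_ef (f816407 IH) (Lpn v23343))))
theorem f667586 : Led Lsl_dt (LP (LK LD1_c13 LD2_c24 LD3_c19)) = K48.v7671 :=
  Lgr Lrot42 (Lpr_df (K48.f667583 IH) (Lpn K48.v7671))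
theorem f654719 : Led Lsl_bt (LP (LK LD1_c22 LD2_c42 LD3_c26)) = (LP (LK LD1_c13 LD2_c24 LD3_c19)) :=
  Lre_b IH (LK LD1_c22 LD2_c42 LD3_c26) (LK LD1_c13 LD2_c24 LD3_c19) Lrfl Lrfl
theorem f816411 : Led Lsl_df (LP (LK LD1_c22 LD2_c42 LD3_c26)) = v23343 :=
  Lgr Lrot12 (Lpr_bt (f654719 IH) (Lpr_dt (f667586 IH) (Lpr_bt (f816409 IH) (Lpn v23343))))
theorem f816410 : Led Lsl_ct (LP (LK LD1_c7 LD2_c51 LD3_c1)) = v23343 :=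
  Lgr Lrot15 (Lpe (K63.f526921 IH) (Lpe (K29.f477076 IH) (Lpr_ef (f816407 IH) (Lpn v23343))))
theorem f527069 : Led Lsl_dt (LP (LK LD1_c14 LD2_c38 LD3_c14)) = (LP (LK LD1_c22 LD2_c37 LD3_c48)) :=
  Lgr Lrot44 (Lpr_af (K40.f527065 IH) (Lpe (f524408 IH) (Lpr_af (f524394 IH) (Lpn (LP (LK LD1_c22 LD2_c37 LD3_c48))))))
theorem f469707 : Led Lsl_dt (LP (LK LD1_c13 LD2_c21 LD3_c9)) = (LP (LK LD1_c7 LD2_c2 LD3_c27)) :=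
  Lre_d IH (LK LD1_c13 LD2_c21 LD3_c9) (LK LD1_c7 LD2_c2 LD3_c27) Lrfl Lrfl
theorem f469702 : Led Lsl_dt (LP (LK LD1_c7 LD2_c2 LD3_c28)) = (LP (LK LD1_c3 LD2_c30 LD3_c19)) :=
  Lre_d IH (LK LD1_c7 LD2_c2 LD3_c28) (LK LD1_c3 LD2_c30 LD3_c19) Lrfl Lrfl
theorem f477910 : Led Lsl_gt (LP (LK LD1_c13 LD2_c21 LD3_c12)) = (LP (LK LD1_c7 LD2_c2 LD3_c28)) :=
  Lre_g IH (LK LD1_c13 LD2_c21 LD3_c12) (LK LD1_c7 LD2_c2 LD3_c28) Lrfl Lrfl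
theorem f527088 : Led Lsl_dt (LP (LK LD1_c7 LD2_c45 LD3_c41)) = (LP (LK LD1_c13 LD2_c21 LD3_c12)) :=
  Lgr Lrot57 (Lpe (K37.f463990 IH) (Lpr_cf (K37.f527039 IH) (Lpe (K40.f527063 IH) (Lpr_dt (f527069 IH) (Lpr_gt (f477088 IH) (Lpr_dt (f469707 IH) (Lpe (K34.f18976 IH) (Lpe (f469702 IH) (Lpe (f477910 IH) (Lpn (LP (LK LD1_c13 LD2_c21 LD3_c12))))))))))))
theorem f527090 : Led Lsl_df (LP (LK LD1_c7 LD2_c45 LD3_c41)) = (LP (LK LD1_c13 LD2_c21 LD3_c12)) :=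
  Lgr Lrot38 (Lpr_dt (f527088 IH) (Lpn (LP (LK LD1_c13 LD2_c21 LD3_c12))))
theorem f527092 : Led Lsl_ct (LP (LK LD1_c7 LD2_c2 LD3_c28)) = (LP (LK LD1_c13 LD2_c21 LD3_c13)) :=
  Lre_c IH (LK LD1_c7 LD2_c2 LD3_c28) (LK LD1_c13 LD2_c21 LD3_c13) Lrfl Lrfl
theorem f468818 : Led Lsl_gt (LP (LK LD1_c13 LD2_c21 LD3_c13)) = (LP (LK LD1_c22 LD2_c37 LD3_c54)) :=
  Lre_g IH (LK LD1_c13 LD2_c21 LD3_c13) (LK LD1_c22 LD2_c37 LD3_c54) Lrfl Lrfl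
theorem f816413 : Led Lsl_cf (LP (LK LD1_c22 LD2_c42 LD3_c26)) = (LP (LK LD1_c22 LD2_c37 LD3_c54)) :=
  Lgr Lrot99 (Lpr_df (f816411 IH) (Lpe (f816410 IH) (Lpe (f527077 IH) (Lpe (K46.f477500 IH) (Lpe (K37.f489567 IH) (Lpr_df (f527090 IH) (Lpr_gt (f477910 IH) (Lpr_ct (f527092 IH) (Lpr_gt (f468818 IH) (Lpn (LP (LK LD1_c22 LD2_c37 LD3_c54))))))))))))
theorem f816414 : Led Lsl_ct (LP (LK LD1_c22 LD2_c37 LD3_c54)) = (LP (LK LD1_c22 LD2_c42 LD3_c26)) :=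
  Leop (Lpr_cf (f816413 IH) (Lpn (LP (LK LD1_c22 LD2_c37 LD3_c54))))
theorem seed_1831 : LEOK LG_c (LK LD1_c22 LD2_c37 LD3_c54) :=
  Leoe_c (LK LD1_c22 LD2_c37 LD3_c54) (f816414 IH)
def v23344 : LQ := Led Lsl_gt (LP (LK LD1_c7 LD2_c50 LD3_c58))
theorem f816417 : Led Lsl_gt (LP (LK LD1_c7 LD2_c50 LD3_c58)) = v23344 :=
  Lrfl
def v21407 : LQ := Led Lsl_at (LP (LK LD1_c7 LD2_c18 LD3_c44))
theorem f795645 : Led Lsl_at (LP (LK LD1_c7 LD2_c18 LD3_c44)) = v21407 :=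
  Lrfl
theorem f656616 : Led Lsl_ff (LP (LK LD1_c7 LD2_c18 LD3_c44)) = (LP (LK LD1_c6 LD2_c52 LD3_c11)) :=
  Lgr Lrot19 (Lpr_dt (K48.f458338 IH) (Lpr_ft (K48.f656614 IH) (Lpr_dt (K63.f479948 IH) (Lpn (LP (LK LD1_c6 LD2_c52 LD3_c11))))))
theorem f795650 : Led Lsl_gt (LP (LK LD1_c7 LD2_c24 LD3_c32)) = v21407 :=
  Lgr Lrot46 (Lpe (K34.f527344 IH) (Lpe (f656616 IH) (Lpr_at (f795645 IH) (Lpn v21407))))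
theorem f525924 : Led Lsl_ff (LP (LK LD1_c13 LD2_c25 LD3_c17)) = (LP (LK LD1_c7 LD2_c24 LD3_c32)) :=
  Lgr Lrot23 (Lpr_ct (K48.f458339 IH) (Lpr_ft (K48.f525918 IH) (Lpr_ct (K34.f478504 IH) (Lpn (LP (LK LD1_c7 LD2_c24 LD3_c32))))))
theorem f527373 : Led Lsl_ff (LP (LK LD1_c7 LD2_c3 LD3_c17)) = (LP (LK LD1_c3 LD2_c45 LD3_c3)) :=
  Lgr Lrot3 (Lpr_ft (K60.f527367 IH) (Lpn (LP (LK LD1_c3 LD2_c45 LD3_c3))))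
theorem f527375 : Led Lsl_at (LP (LK LD1_c7 LD2_c3 LD3_c17)) = (LP (LK LD1_c7 LD2_c4 LD3_c47)) :=
  Lgr Lrot66 (Lpr_ff (f527373 IH) (Lpe (K48.f523793 IH) (Lpe (K48.f525918 IH) (Lpn (LP (LK LD1_c7 LD2_c4 LD3_c47))))))
theorem f527379 : Led Lsl_af (LP (LK LD1_c13 LD2_c3 LD3_c59)) = (LP (LK LD1_c13 LD2_c25 LD3_c17)) :=
  Lgr Lrot68 (Lpr_ct (K48.f479944 IH) (Lpr_at (f527375 IH) (Lpr_ct (K24.f455674 IH) (Lpn (LP (LK LD1_c13 LD2_c25 LD3_c17))))))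
theorem f795651 : Led Lsl_gf (LP (LK LD1_c13 LD2_c3 LD3_c59)) = v21407 :=
  Lgr Lrot76 (Lpr_af (f527379 IH) (Lpr_ff (f525924 IH) (Lpr_gt (f795650 IH) (Lpn v21407))))
theorem f465439 : Led Lsl_dt (LP (LK LD1_c3 LD2_c55 LD3_c57)) = (LP (LK LD1_c1 LD2_c54 LD3_c37)) :=
  Lre_d IH (LK LD1_c3 LD2_c55 LD3_c57) (LK LD1_c1 LD2_c54 LD3_c37) Lrfl Lrfl
def v7104 : LQ := Led Lsl_gt (LP (LK LD1_c3 LD2_c39 LD3_c6))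
theorem f661094 : Led Lsl_gt (LP (LK LD1_c3 LD2_c39 LD3_c6)) = v7104 :=
  Lrfl
theorem f661097 : Led Lsl_et K61.v6646 = v7104 :=
  Lgr Lrot122 (Lpe (K61.f657451 IH) (Lpr_gt (K49.f455888 IH) (Lpe (K46.f455891 IH) (Lpr_et (K29.f455902 IH) (Lpr_gt (K35.f511464 IH) (Lpe (K35.f511386 IH) (Lpr_gt (K33.f511409 IH) (Lpe (K33.f511413 IH) (Lpr_et (K33.f478905 IH) (Lpr_gt (f661094 IH) (Lpn v7104)))))))))))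
theorem f484157 : Led Lsl_ft (LP (LK LD1_c3 LD2_c34 LD3_c60)) = (LP (LK LD1_c3 LD2_c26 LD3_c38)) :=
  Lgr Lrot48 (Lpr_ff (K33.f484151 IH) (Lpn (LP (LK LD1_c3 LD2_c26 LD3_c38))))
theorem f485629 : Led Lsl_gf (LP (LK LD1_c3 LD2_c34 LD3_c55)) = (LP (LK LD1_c3 LD2_c34 LD3_c60)) :=
  Lgr Lrot47 (Lpr_gt (K49.f455888 IH) (Lpr_af (K46.f485613 IH) (Lpe (f484157 IH) (Lpn (LP (LK LD1_c3 LD2_c34 LD3_c60))))))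
theorem f626991 : Led Lsl_ft K29.v1134 = K46.v3718 :=
  Lgr Lrot48 (Lpr_ff (K46.f626988 IH) (Lpn K46.v3718))
theorem f626992 : Led Lsl_ef K34.v2483 = K46.v3718 :=
  Lgr Lrot21 (Lpe (K34.f522679 IH) (Lpr_et (K46.f455914 IH) (Lpr_ft (K29.f457006 IH) (Lpqs (K29.f478889 IH) (Lpr_et (K29.f491663 IH) (Lpr_ft (f626991 IH) (Lpn K46.v3718)))))))
theorem f661100 : Led Lsl_gf K34.v2483 = v7104 :=
  Lgr Lrot141 (Lpr_ef (f626992 IH) (Lpe (K46.f626987 IH) (Lpr_gt (K46.f522433 IH) (Lpe (K46.f522428 IH) (Lpe (K29.f476793 IH) (Lpqs (K29.f481858 IH) (Lpe (K29.f479127 IH) (Lpr_dt (K29.f478789 IH) (Lpe (f485629 IH) (Lpr_df (K61.f657451 IH) (Lpr_et (f661097 IH) (Lpn v7104))))))))))))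
theorem f795652 : Led Lsl_ct v7104 = v21407 :=
  Lgr Lrot8 (Lpe (f661100 IH) (Lpr_dt (K46.f626058 IH) (Lpe (K46.f626054 IH) (Lpe (K35.f490371 IH) (Lpe (K29.f457722 IH) (Lpe (f465439 IH) (Lpe (K61.f465440 IH) (Lpe (K61.f527385 IH) (Lpr_gf (f795651 IH) (Lpn v21407))))))))))
theorem f687000 : Led Lsl_cf K61.v3956 = K61.v11951 :=
  Lgr Lrot11 (Lpr_ct (K61.f686999 IH) (Lpn K61.v11951))
theorem f795653 : Led Lsl_ef K61.v11951 = v21407 :=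
  Lgr Lrot28 (Lpe (f687000 IH) (Lpq (K61.f658025 IH) (Lpr_et (f661097 IH) (Lpr_ct (f795652 IH) (Lpn v21407)))))
theorem f795655 : Led Lsl_et K61.v11951 = v21407 :=
  Lgr Lrot87 (Lpr_ef (f795653 IH) (Lpn v21407))
theorem f816421 : Led Lsl_dt K61.v11951 = v23344 :=
  Lgr Lrot56 (Lpr_et (f795655 IH) (Lpe (f795651 IH) (Lpr_ef (K34.f479938 IH) (Lpr_dt (K34.f102589 IH) (Lpr_gt (K46.f476933 IH) (Lpe (K29.f457330 IH) (Lpe (K29.f476802 IH) (Lpr_gt (K29.f481845 IH) (Lpr_dt (K35.f481849 IH) (Lpr_gt (f816417 IH) (Lpn v23344)))))))))))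
theorem f91597 : Led Lsl_ef (LP (LK LD1_c1 LD2_c38 LD3_c39)) = (LP (LK LD1_c1 LD2_c40 LD3_c6)) :=
  Lgr Lrot88 (Lpr_et (K29.f91493 IH) (Lpn (LP (LK LD1_c1 LD2_c40 LD3_c6))))
theorem f624752 : Led Lsl_et K46.v2277 = K61.v3241 :=
  Lgr Lrot122 (Lpe (K46.f511423 IH) (Lpr_gt (K28.f91498 IH) (Lpe (K29.f91492 IH) (Lpe (f91597 IH) (Lpe (K7.f154965 IH) (Lpr_dt (K7.f10928 IH) (Lpr_gt (K7.f154955 IH) (Lpe (K5.f92033 IH) (Lpr_et (K61.f455102 IH) (Lpr_gt (K61.f624749 IH) (Lpn K61.v3241)))))))))))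
theorem f679374 : Led Lsl_ef (LP (LK LD1_c6 LD2_c52 LD3_c12)) = K61.v10237 :=
  Lgr Lrot73 (Lpr_dt (K28.f91504 IH) (Lpr_et (K28.f91499 IH) (Lpr_dt (K46.f511421 IH) (Lpr_et (f624752 IH) (Lpr_dt (K61.f679371 IH) (Lpn K61.v10237))))))
theorem f786791 : Led Lsl_et (LP (LK LD1_c13 LD2_c3 LD3_c61)) = K61.v20398 :=
  Lgr Lrot158 (Lpe (K28.f91502 IH) (Lpr_ef (f679374 IH) (Lpr_cf (K61.f786789 IH) (Lpn K61.v20398))))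
theorem f480682 : Led Lsl_gf (LP (LK LD1_c13 LD2_c2 LD3_c55)) = (LP (LK LD1_c7 LD2_c16 LD3_c33)) :=
  Lgr Lrot143 (Lpr_dt (K29.f473455 IH) (Lpr_cf (K29.f473446 IH) (Lpr_df (K29.f108802 IH) (Lpe (K34.f477206 IH) (Lpr_df (K32.f479432 IH) (Lpe (K32.f63005 IH) (Lpe (K29.f63003 IH) (Lpe (K29.f472945 IH) (Lpr_dt (K28.f457372 IH) (Lpn (LP (LK LD1_c7 LD2_c16 LD3_c33))))))))))))
theorem f786800 : Led Lsl_gt K49.v11939 = K61.v20398 :=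
  Lgr Lrot131 (Lpe (K49.f686799 IH) (Lpr_dt (K29.f18221 IH) (Lpr_gf (f480682 IH) (Lpe (K28.f457372 IH) (Lpr_gf (K29.f472945 IH) (Lpe (K49.f457893 IH) (Lpr_dt (K33.f457894 IH) (Lpe (K29.f458069 IH) (Lpe (K49.f479351 IH) (Lpr_et (f786791 IH) (Lpn K61.v20398)))))))))))
theorem f478748 : Led Lsl_ft (LP (LK LD1_c3 LD2_c35 LD3_c1)) = (LP (LK LD1_c3 LD2_c34 LD3_c53)) :=
  Lgr Lrot4 (Lpe (K63.f456141 IH) (Lpr_ff (K33.f478742 IH) (Lpe (K29.f467912 IH) (Lpn (LP (LK LD1_c3 LD2_c34 LD3_c53))))))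
theorem f484207 : Led Lsl_at (LP (LK LD1_c3 LD2_c34 LD3_c53)) = (LP (LK LD1_c6 LD2_c55 LD3_c5)) :=
  Lgr Lrot66 (Lpe (f478748 IH) (Lpe (K49.f456137 IH) (Lpr_ff (K33.f484193 IH) (Lpn (LP (LK LD1_c6 LD2_c55 LD3_c5))))))
theorem f485588 : Led Lsl_af (LP (LK LD1_c7 LD2_c10 LD3_c56)) = (LP (LK LD1_c13 LD2_c8 LD3_c42)) :=
  Lgr Lrot68 (Lpr_ct (K29.f455897 IH) (Lpr_at (f484207 IH) (Lpr_ct (K33.f484162 IH) (Lpn (LP (LK LD1_c13 LD2_c8 LD3_c42))))))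
theorem f455898 : Led Lsl_gt (LP (LK LD1_c13 LD2_c36 LD3_c27)) = (LP (LK LD1_c7 LD2_c10 LD3_c56)) :=
  Lre_g IH (LK LD1_c13 LD2_c36 LD3_c27) (LK LD1_c7 LD2_c10 LD3_c56) Lrfl Lrfl
theorem f478787 : Led Lsl_ft (LP (LK LD1_c13 LD2_c37 LD3_c9)) = (LP (LK LD1_c13 LD2_c36 LD3_c36)) :=
  Lgr Lrot48 (Lpr_ff (K48.f478780 IH) (Lpn (LP (LK LD1_c13 LD2_c36 LD3_c36))))
theorem f478750 : Led Lsl_dt (LP (LK LD1_c7 LD2_c11 LD3_c12)) = (LP (LK LD1_c13 LD2_c36 LD3_c61)) :=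
  Lre_d IH (LK LD1_c7 LD2_c11 LD3_c12) (LK LD1_c13 LD2_c36 LD3_c61) Lrfl Lrfl
theorem f478777 : Led Lsl_df (LP (LK LD1_c13 LD2_c36 LD3_c45)) = (LP (LK LD1_c13 LD2_c36 LD3_c36)) :=
  Lgr Lrot18 (Lpr_at (K33.f478764 IH) (Lpr_dt (f478750 IH) (Lpr_at (K48.f478772 IH) (Lpn (LP (LK LD1_c13 LD2_c36 LD3_c36))))))
theorem f484172 : Led Lsl_ft (LP (LK LD1_c13 LD2_c36 LD3_c45)) = (LP (LK LD1_c13 LD2_c8 LD3_c42)) :=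
  Lgr Lrot54 (Lpr_df (f478777 IH) (Lpe (f478787 IH) (Lpr_df (K33.f484163 IH) (Lpn (LP (LK LD1_c13 LD2_c8 LD3_c42))))))
theorem f485601 : Led Lsl_gf (LP (LK LD1_c13 LD2_c36 LD3_c27)) = (LP (LK LD1_c13 LD2_c36 LD3_c45)) :=
  Lgr Lrot47 (Lpr_gt (f455898 IH) (Lpr_af (f485588 IH) (Lpe (f484172 IH) (Lpn (LP (LK LD1_c13 LD2_c36 LD3_c45))))))
theorem f816424 : Led Lsl_ct (LP (LK LD1_c13 LD2_c36 LD3_c27)) = v23344 :=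
  Lgr Lrot151 (Lpr_gf (f485601 IH) (Lpe (K33.f478731 IH) (Lpr_gf (K49.f478818 IH) (Lpr_dt (K49.f686795 IH) (Lpr_gt (f786800 IH) (Lpe (K61.f786789 IH) (Lpe (K61.f679377 IH) (Lpqs (K61.f658025 IH) (Lpr_ct (K61.f686999 IH) (Lpr_dt (f816421 IH) (Lpn v23344)))))))))))
def v21408 : LQ := Led Lsl_et (LP (LK LD1_c7 LD2_c18 LD3_c44))
theorem f795657 : Led Lsl_et (LP (LK LD1_c7 LD2_c18 LD3_c44)) = v21408 :=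
  Lrfl
theorem f795646 : Led Lsl_af (LP (LK LD1_c7 LD2_c18 LD3_c44)) = v21407 :=
  Lgr Lrot0 (Lpr_at (f795645 IH) (Lpn v21407))
theorem f795658 : Led Lsl_af K61.v11951 = v21408 :=
  Lgr Lrot50 (Lpr_et (f795655 IH) (Lpe (f795646 IH) (Lpr_et (f795657 IH) (Lpn v21408))))
def v20310 : LQ := Led Lsl_at (LP (LK LD1_c6 LD2_c54 LD3_c8))
theorem f786261 : Led Lsl_at (LP (LK LD1_c6 LD2_c54 LD3_c8)) = v20310 :=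
  Lrfl
def v20196 : LQ := Led Lsl_dt (LP (LK LD1_c6 LD2_c51 LD3_c44))
theorem f785449 : Led Lsl_dt (LP (LK LD1_c6 LD2_c51 LD3_c44)) = v20196 :=
  Lrfl
theorem f785453 : Led Lsl_ff (LP (LK LD1_c6 LD2_c54 LD3_c8)) = v20196 :=
  Lgr Lrot19 (Lpr_dt (K48.f102551 IH) (Lpr_ft (K35.f628181 IH) (Lpr_dt (f785449 IH) (Lpn v20196))))
theorem f785452 : Led Lsl_df (LP (LK LD1_c6 LD2_c51 LD3_c44)) = v20196 :=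
  Lgr Lrot38 (Lpr_dt (f785449 IH) (Lpn v20196))
theorem f455075 : Led Lsl_dt (LP (LK LD1_c3 LD2_c26 LD3_c8)) = (LP (LK LD1_c6 LD2_c54 LD3_c11)) :=
  Lre_d IH (LK LD1_c3 LD2_c26 LD3_c8) (LK LD1_c6 LD2_c54 LD3_c11) Lrfl Lrfl
theorem f785457 : Led Lsl_at (LP (LK LD1_c6 LD2_c54 LD3_c11)) = v20196 :=
  Lgr Lrot51 (Lpe (f455075 IH) (Lpe (K35.f529451 IH) (Lpr_df (f785452 IH) (Lpn v20196))))
theorem f786264 : Led Lsl_ff (LP (LK LD1_c6 LD2_c54 LD3_c11)) = v20310 :=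
  Lgr Lrot30 (Lpr_at (f785457 IH) (Lpe (f785453 IH) (Lpr_at (f786261 IH) (Lpn v20310))))
theorem f473364 : Led Lsl_gt (LP (LK LD1_c13 LD2_c4 LD3_c2)) = (LP (LK LD1_c6 LD2_c57 LD3_c21)) :=
  Lgr Lrot150 (Lpr_cf (K28.f473248 IH) (Lpe (K28.f16893 IH) (Lpe (K28.f17034 IH) (Lpr_gt (K28.f19063 IH) (Lpe (K33.f472701 IH) (Lpr_gt (K28.f464414 IH) (Lpr_ct (K28.f91230 IH) (Lpr_df (K29.f473354 IH) (Lpe (K29.f457961 IH) (Lpn (LP (LK LD1_c6 LD2_c57 LD3_c21))))))))))))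
theorem f785454 : Led Lsl_gt K61.v9532 = v20196 :=
  Lgr Lrot112 (Lpe (K61.f676536 IH) (Lpe (K61.f532565 IH) (Lpe (K34.f471913 IH) (Lpe (K34.f473428 IH) (Lpr_dt (K28.f92000 IH) (Lpe (f473364 IH) (Lpe (K28.f468884 IH) (Lpr_gf (K29.f479379 IH) (Lpe (K63.f464431 IH) (Lpr_dt (f785449 IH) (Lpn v20196)))))))))))
theorem f786267 : Led Lsl_gf K61.v9532 = v20310 :=
  Lgr Lrot47 (Lpr_gt (f785454 IH) (Lpe (f785457 IH) (Lpr_ff (f786264 IH) (Lpn v20310))))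
theorem f455076 : Led Lsl_dt (LP (LK LD1_c6 LD2_c54 LD3_c11)) = (LP (LK LD1_c3 LD2_c26 LD3_c8)) :=
  Lre_d IH (LK LD1_c6 LD2_c54 LD3_c11) (LK LD1_c3 LD2_c26 LD3_c8) Lrfl Lrfl
def v6638 : LQ := Led Lsl_gt (LP (LK LD1_c3 LD2_c24 LD3_c36))
theorem f654552 : Led Lsl_gt (LP (LK LD1_c3 LD2_c24 LD3_c36)) = v6638 :=
  Lrfl
def v2592 : LQ := Led Lsl_ft (LP (LK LD1_c1 LD2_c49 LD3_c16))
theorem f527645 : Led Lsl_ft (LP (LK LD1_c1 LD2_c49 LD3_c16)) = v2592 :=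
  Lrfl
theorem f527646 : Led Lsl_bf K34.v810 = v2592 :=
  Lgr Lrot61 (Lpe (K48.f459513 IH) (Lpr_bt (K34.f459514 IH) (Lpr_ft (f527645 IH) (Lpn v2592))))
theorem f654555 : Led Lsl_ct v2592 = v6638 :=
  Lgr Lrot63 (Lpe (f527646 IH) (Lpq (f529172 IH) (Lpr_gt (f459440 IH) (Lpe (K33.f451036 IH) (Lpe (K33.f447683 IH) (Lpr_gt (K24.f436821 IH) (Lpq (K24.f456262 IH) (Lpe (K24.f450983 IH) (Lpr_bt (K33.f450979 IH) (Lpqs (K33.f511460 IH) (Lpe (K33.f510463 IH) (Lpr_ct (K33.f65927 IH) (Lpr_gt (f654552 IH) (Lpn v6638))))))))))))))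
theorem f654558 : Led Lsl_ff (LP (LK LD1_c3 LD2_c26 LD3_c8)) = v6638 :=
  Lgr Lrot23 (Lpr_ct (K35.f488397 IH) (Lpr_ft (f527645 IH) (Lpr_ct (f654555 IH) (Lpn v6638))))
theorem f654559 : Led Lsl_ft (LP (LK LD1_c3 LD2_c26 LD3_c8)) = v6638 :=
  Lgr Lrot48 (Lpr_ff (f654558 IH) (Lpn v6638))
theorem f786265 : Led Lsl_dt v6638 = v20310 :=
  Lgr Lrot60 (Lpe (f654559 IH) (Lpe (f455076 IH) (Lpr_ff (f786264 IH) (Lpn v20310))))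
def v20217 : LQ := Led Lsl_gf (LP (LK LD1_c6 LD2_c52 LD3_c18))
theorem f785724 : Led Lsl_gf (LP (LK LD1_c6 LD2_c52 LD3_c18)) = v20217 :=
  Lrfl
def v11221 : LQ := Led Lsl_ct K49.v3652
theorem f683538 : Led Lsl_ct K49.v3652 = v11221 :=
  Lrfl
theorem f683543 : Led Lsl_dt (LP (LK LD1_c7 LD2_c37 LD3_c33)) = v11221 :=
  Lgr Lrot113 (Lpe (K48.f14658 IH) (Lpe (K3.f11859 IH) (Lpe (K49.f478829 IH) (Lpr_ct (K37.f456749 IH) (Lpr_gt (K29.f478870 IH) (Lpq (K29.f481861 IH) (Lpr_dt (K29.f490325 IH) (Lpr_gt (K49.f490862 IH) (Lpr_dt (K49.f626601 IH) (Lpr_ct (f683538 IH) (Lpn v11221)))))))))))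
theorem f467342 : Led Lsl_ct (LP (LK LD1_c14 LD2_c22 LD3_c34)) = (LP (LK LD1_c7 LD2_c37 LD3_c33)) :=
  Lre_c IH (LK LD1_c14 LD2_c22 LD3_c34) (LK LD1_c7 LD2_c37 LD3_c33) Lrfl Lrfl
theorem f487313 : Led Lsl_gt (LP (LK LD1_c7 LD2_c53 LD3_c26)) = (LP (LK LD1_c14 LD2_c22 LD3_c34)) :=
  Lgr Lrot5 (Lpr_ft (K61.f484453 IH) (Lpe (K61.f484455 IH) (Lpr_gf (K48.f487299 IH) (Lpn (LP (LK LD1_c14 LD2_c22 LD3_c34))))))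
theorem f125966 : Led Lsl_ct (LP (LK LD1_c3 LD2_c55 LD3_c51)) = (LP (LK LD1_c7 LD2_c53 LD3_c26)) :=
  Lre_c IH (LK LD1_c3 LD2_c55 LD3_c51) (LK LD1_c7 LD2_c53 LD3_c26) Lrfl Lrfl
theorem f125992 : Led Lsl_gt (LP (LK LD1_c7 LD2_c53 LD3_c25)) = (LP (LK LD1_c3 LD2_c55 LD3_c51)) :=
  Lre_g IH (LK LD1_c7 LD2_c53 LD3_c25) (LK LD1_c3 LD2_c55 LD3_c51) Lrfl Lrfl
theorem f785726 : Led Lsl_df (LP (LK LD1_c7 LD2_c53 LD3_c25)) = v20217 :=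
  Lgr Lrot155 (Lpr_gt (f125992 IH) (Lpr_ct (f125966 IH) (Lpr_gt (f487313 IH) (Lpr_ct (f467342 IH) (Lpr_dt (f683543 IH) (Lpe (f683538 IH) (Lpe (K61.f626609 IH) (Lpe (K34.f463418 IH) (Lpr_gf (f785724 IH) (Lpn v20217))))))))))
theorem f785728 : Led Lsl_ef v6638 = v20217 :=
  Lgr Lrot17 (Lpe (f654552 IH) (Lpe (K4.f91871 IH) (Lpr_dt (K3.f65872 IH) (Lpr_gf (K5.f91867 IH) (Lpe (K5.f14641 IH) (Lpe (K5.f98703 IH) (Lpe (K5.f125882 IH) (Lpr_dt (K6.f125889 IH) (Lpe (f125992 IH) (Lpr_df (f785726 IH) (Lpn v20217)))))))))))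
theorem f785730 : Led Lsl_et v6638 = v20217 :=
  Lgr Lrot87 (Lpr_ef (f785728 IH) (Lpn v20217))
theorem f795663 : Led Lsl_gf v20217 = v21408 :=
  Lgr Lrot141 (Lpe (f785730 IH) (Lpr_dt (f786265 IH) (Lpe (f786267 IH) (Lpe (K61.f676536 IH) (Lpe (K61.f532565 IH) (Lpe (K34.f471206 IH) (Lpr_dt (K34.f96850 IH) (Lpr_gt (K48.f493625 IH) (Lpe (K48.f458338 IH) (Lpr_et (f795657 IH) (Lpn v21408)))))))))))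
theorem f529920 : Led Lsl_ff (LP (LK LD1_c3 LD2_c29 LD3_c19)) = K47.v2630 :=
  Lgr Lrot25 (Lpr_bt (K34.f527946 IH) (Lpe (K34.f527945 IH) (Lpq (K35.f528041 IH) (Lpr_bt (K47.f529917 IH) (Lpn K47.v2630)))))
theorem f529924 : Led Lsl_ft (LP (LK LD1_c3 LD2_c29 LD3_c19)) = K47.v2630 :=
  Lgr Lrot48 (Lpr_ff (f529920 IH) (Lpn K47.v2630))
def v2297 : LQ := Led Lsl_gt (LP (LK LD1_c1 LD2_c41 LD3_c23))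
theorem f511941 : Led Lsl_gt (LP (LK LD1_c1 LD2_c41 LD3_c23)) = v2297 :=
  Lrfl
theorem f529918 : Led Lsl_af v2592 = K47.v2630 :=
  Lgr Lrot36 (Lpe (f527646 IH) (Lpe (K34.f459507 IH) (Lpr_bt (K33.f459508 IH) (Lpr_at (K34.f527605 IH) (Lpq (K35.f528041 IH) (Lpr_bt (K47.f529917 IH) (Lpn K47.v2630)))))))
theorem f529925 : v2297 = v2592 :=
  (Llr Lrot46 (Lpe (f511941 IH) (Lpe (K29.f441696 IH) (Lpr_ft (f529924 IH) (Lpe (f529918 IH) (Lpn v2592)))))).symm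
def v8934 : LQ := Led Lsl_et v2297
theorem f672816 : Led Lsl_et v2297 = v8934 :=
  Lrfl
theorem f672819 : Led Lsl_ef v2297 = v8934 :=
  Lgr Lrot88 (Lpr_et (f672816 IH) (Lpn v8934))
theorem f785732 : Led Lsl_cf v8934 = v20217 :=
  Lgr Lrot39 (Lpe (f672819 IH) (Lpqs (f529925 IH) (Lpr_ct (f654555 IH) (Lpr_et (f785730 IH) (Lpn v20217)))))
def v20519 : LQ := Led Lsl_et (LP (LK LD1_c6 LD2_c58 LD3_c54))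
theorem f787575 : Led Lsl_et (LP (LK LD1_c6 LD2_c58 LD3_c54)) = v20519 :=
  Lrfl
theorem f108811 : Led Lsl_et (LP (LK LD1_c3 LD2_c40 LD3_c59)) = (LP (LK LD1_c7 LD2_c22 LD3_c13)) :=
  Lre_e IH (LK LD1_c3 LD2_c40 LD3_c59) (LK LD1_c7 LD2_c22 LD3_c13) Lrfl Lrfl
theorem f524240 : Led Lsl_et (LP (LK LD1_c7 LD2_c37 LD3_c36)) = (LP (LK LD1_c7 LD2_c22 LD3_c12)) :=
  Lgr Lrot87 (Lpr_ef (K34.f524237 IH) (Lpn (LP (LK LD1_c7 LD2_c22 LD3_c12))))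
theorem f787579 : Led Lsl_df (LP (LK LD1_c7 LD2_c37 LD3_c36)) = v20519 :=
  Lgr Lrot70 (Lpr_et (f524240 IH) (Lpr_dt (K34.f108810 IH) (Lpr_et (f108811 IH) (Lpe (K29.f108802 IH) (Lpr_et (f787575 IH) (Lpn v20519))))))
theorem f524291 : Led Lsl_gf (LP (LK LD1_c6 LD2_c54 LD3_c60)) = (LP (LK LD1_c13 LD2_c4 LD3_c10)) :=
  Lgr Lrot76 (Lpr_af (K35.f524283 IH) (Lpe (K35.f524254 IH) (Lpr_gt (K29.f468933 IH) (Lpn (LP (LK LD1_c13 LD2_c4 LD3_c10))))))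
theorem f787585 : Led Lsl_gt v8934 = v20519 :=
  Lgr Lrot94 (Lpr_cf (f785732 IH) (Lpe (f785724 IH) (Lpr_dt (K29.f468930 IH) (Lpe (f524291 IH) (Lpr_dt (K35.f481720 IH) (Lpr_cf (K33.f481709 IH) (Lpe (K24.f459775 IH) (Lpe (K34.f524234 IH) (Lpr_df (f787579 IH) (Lpn v20519))))))))))
theorem f787578 : Led Lsl_cf K49.v11939 = v20519 :=
  Lgr Lrot39 (Lpe (K49.f686797 IH) (Lpr_ct (K34.f473451 IH) (Lpr_et (f787575 IH) (Lpn v20519))))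
theorem f478820 : Led Lsl_ct (LP (LK LD1_c13 LD2_c36 LD3_c21)) = (LP (LK LD1_c7 LD2_c10 LD3_c54)) :=
  Lre_c IH (LK LD1_c13 LD2_c36 LD3_c21) (LK LD1_c7 LD2_c10 LD3_c54) Lrfl Lrfl
theorem f481782 : Led Lsl_ct (LP (LK LD1_c22 LD2_c20 LD3_c43)) = (LP (LK LD1_c13 LD2_c8 LD3_c31)) :=
  Lre_c IH (LK LD1_c22 LD2_c20 LD3_c43) (LK LD1_c13 LD2_c8 LD3_c31) Lrfl Lrfl
theorem f524313 : Led Lsl_ct (LP (LK LD1_c14 LD2_c48 LD3_c23)) = (LP (LK LD1_c24 LD2_c34 LD3_c38)) :=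
  Lre_c IH (LK LD1_c14 LD2_c48 LD3_c23) (LK LD1_c24 LD2_c34 LD3_c38) Lrfl Lrfl
theorem f524314 : Led Lsl_af (LP (LK LD1_c22 LD2_c20 LD3_c43)) = (LP (LK LD1_c24 LD2_c34 LD3_c38)) :=
  Lgr Lrot68 (Lpr_ct (f481782 IH) (Lpr_at (K43.f524289 IH) (Lpr_ct (f524313 IH) (Lpn (LP (LK LD1_c24 LD2_c34 LD3_c38))))))
theorem f524328 : Led Lsl_at (LP (LK LD1_c22 LD2_c20 LD3_c43)) = (LP (LK LD1_c24 LD2_c34 LD3_c38)) :=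
  Lgr Lrot100 (Lpr_af (f524314 IH) (Lpn (LP (LK LD1_c24 LD2_c34 LD3_c38))))
theorem f524330 : Led Lsl_et (LP (LK LD1_c13 LD2_c8 LD3_c30)) = (LP (LK LD1_c22 LD2_c20 LD3_c43)) :=
  Lre_e IH (LK LD1_c13 LD2_c8 LD3_c30) (LK LD1_c22 LD2_c20 LD3_c43) Lrfl Lrfl
theorem f488112 : Led Lsl_et (LP (LK LD1_c24 LD2_c34 LD3_c38)) = (LP (LK LD1_c14 LD2_c48 LD3_c22)) :=
  Lre_e IH (LK LD1_c24 LD2_c34 LD3_c38) (LK LD1_c14 LD2_c48 LD3_c22) Lrfl Lrfl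
theorem f524331 : Led Lsl_af (LP (LK LD1_c13 LD2_c8 LD3_c30)) = (LP (LK LD1_c14 LD2_c48 LD3_c22)) :=
  Lgr Lrot50 (Lpr_et (f524330 IH) (Lpr_at (f524328 IH) (Lpr_et (f488112 IH) (Lpn (LP (LK LD1_c14 LD2_c48 LD3_c22))))))
theorem f481721 : Led Lsl_ct (LP (LK LD1_c13 LD2_c8 LD3_c30)) = (LP (LK LD1_c6 LD2_c54 LD3_c60)) :=
  Lre_c IH (LK LD1_c13 LD2_c8 LD3_c30) (LK LD1_c6 LD2_c54 LD3_c60) Lrfl Lrfl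
theorem f478821 : Led Lsl_ct (LP (LK LD1_c7 LD2_c10 LD3_c54)) = (LP (LK LD1_c13 LD2_c36 LD3_c21)) :=
  Lre_c IH (LK LD1_c7 LD2_c10 LD3_c54) (LK LD1_c13 LD2_c36 LD3_c21) Lrfl Lrfl
theorem f481722 : Led Lsl_gf (LP (LK LD1_c13 LD2_c8 LD3_c30)) = (LP (LK LD1_c13 LD2_c36 LD3_c21)) :=
  Lgr Lrot104 (Lpr_ct (f481721 IH) (Lpe (K35.f481715 IH) (Lpr_cf (K33.f481709 IH) (Lpe (K28.f90047 IH) (Lpe (K29.f90036 IH) (Lpe (K29.f467909 IH) (Lpe (K29.f10165 IH) (Lpr_gt (K49.f467911 IH) (Lpr_ct (f478821 IH) (Lpn (LP (LK LD1_c13 LD2_c36 LD3_c21))))))))))))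
theorem f468936 : Led Lsl_ct (LP (LK LD1_c13 LD2_c8 LD3_c28)) = (LP (LK LD1_c6 LD2_c54 LD3_c58)) :=
  Lre_c IH (LK LD1_c13 LD2_c8 LD3_c28) (LK LD1_c6 LD2_c54 LD3_c58) Lrfl Lrfl
theorem f481851 : Led Lsl_ct (LP (LK LD1_c7 LD2_c50 LD3_c58)) = (LP (LK LD1_c14 LD2_c48 LD3_c22)) :=
  Lre_c IH (LK LD1_c7 LD2_c50 LD3_c58) (LK LD1_c14 LD2_c48 LD3_c22) Lrfl Lrfl
theorem f524258 : Led Lsl_ff (LP (LK LD1_c13 LD2_c8 LD3_c28)) = (LP (LK LD1_c14 LD2_c48 LD3_c22)) :=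
  Lgr Lrot23 (Lpr_ct (f468936 IH) (Lpr_ft (K35.f524254 IH) (Lpr_ct (f481851 IH) (Lpn (LP (LK LD1_c14 LD2_c48 LD3_c22))))))
theorem f524269 : Led Lsl_ft (LP (LK LD1_c13 LD2_c8 LD3_c28)) = (LP (LK LD1_c14 LD2_c48 LD3_c22)) :=
  Lgr Lrot48 (Lpr_ff (f524258 IH) (Lpn (LP (LK LD1_c14 LD2_c48 LD3_c22))))
theorem f524333 : Led Lsl_gf (LP (LK LD1_c13 LD2_c36 LD3_c21)) = (LP (LK LD1_c13 LD2_c8 LD3_c28)) :=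
  Lgr Lrot47 (Lpe (f481722 IH) (Lpr_af (f524331 IH) (Lpe (f524269 IH) (Lpn (LP (LK LD1_c13 LD2_c8 LD3_c28))))))
theorem f15191 : Led Lsl_ct (LP (LK LD1_c6 LD2_c54 LD3_c58)) = (LP (LK LD1_c13 LD2_c8 LD3_c28)) :=
  Lre_c IH (LK LD1_c6 LD2_c54 LD3_c58) (LK LD1_c13 LD2_c8 LD3_c28) Lrfl Lrfl
theorem f795665 : Led Lsl_dt (LP (LK LD1_c13 LD2_c8 LD3_c27)) = v21408 :=
  Lgr Lrot6 (Lpr_gt (K43.f91194 IH) (Lpr_ct (f15191 IH) (Lpe (f524333 IH) (Lpr_ct (f478820 IH) (Lpr_df (K49.f686794 IH) (Lpr_cf (f787578 IH) (Lpe (f787585 IH) (Lpr_cf (f785732 IH) (Lpr_gf (f795663 IH) (Lpn v21408))))))))))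
theorem f816422 : Led Lsl_af (LP (LK LD1_c13 LD2_c8 LD3_c27)) = v23344 :=
  Lgr Lrot117 (Lpr_dt (f795665 IH) (Lpe (f795658 IH) (Lpr_dt (f816421 IH) (Lpn v23344))))
theorem f816426 : Led Lsl_af (LP (LK LD1_c13 LD2_c36 LD3_c27)) = (LP (LK LD1_c13 LD2_c36 LD3_c58)) :=
  Lgr Lrot68 (Lpr_ct (f816424 IH) (Lpe (f816422 IH) (Lpr_ct (K43.f524833 IH) (Lpn (LP (LK LD1_c13 LD2_c36 LD3_c58))))))
theorem f816427 : Led Lsl_at (LP (LK LD1_c13 LD2_c36 LD3_c58)) = (LP (LK LD1_c13 LD2_c36 LD3_c27)) :=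
  Leop (Lpr_af (f816426 IH) (Lpn (LP (LK LD1_c13 LD2_c36 LD3_c58))))
theorem seed_1832 : LEOK LG_a (LK LD1_c13 LD2_c36 LD3_c58) :=
  Leoe_a (LK LD1_c13 LD2_c36 LD3_c58) (f816427 IH)
def v23361 : LQ := Led Lsl_dt (LP (LK LD1_c7 LD2_c51 LD3_c11))
theorem f816545 : Led Lsl_dt (LP (LK LD1_c7 LD2_c51 LD3_c11)) = v23361 :=
  Lrfl
theorem f456704 : Led Lsl_et (LP (LK LD1_c3 LD2_c54 LD3_c45)) = (LP (LK LD1_c7 LD2_c51 LD3_c11)) :=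
  Lre_e IH (LK LD1_c3 LD2_c54 LD3_c45) (LK LD1_c7 LD2_c51 LD3_c11) Lrfl Lrfl
theorem f816549 : Led Lsl_ef K49.v9490 = v23361 :=
  Lgr Lrot73 (Lpe (K61.f676182 IH) (Lpe (K49.f531590 IH) (Lpr_dt (K29.f456655 IH) (Lpr_et (f456704 IH) (Lpr_dt (f816545 IH) (Lpn v23361))))))
theorem f531596 : Led Lsl_gt (LP (LK LD1_c3 LD2_c52 LD3_c10)) = K49.v2723 :=
  Lgr Lrot65 (Lpr_cf (K33.f491984 IH) (Lpr_bt (K34.f491653 IH) (Lpr_gf (K29.f491651 IH) (Lpe (K29.f491654 IH) (Lpr_ct (K29.f491390 IH) (Lpe (K29.f491389 IH) (Lpe (K29.f451363 IH) (Lpq (K11.f451588 IH) (Lpe (K24.f451375 IH) (Lpr_bf (K49.f459367 IH) (Lpr_ct (K49.f531593 IH) (Lpn K49.v2723))))))))))))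
theorem f676184 : Led Lsl_gf (LP (LK LD1_c6 LD2_c34 LD3_c9)) = K49.v9490 :=
  Lgr Lrot143 (Lpr_dt (K4.f65510 IH) (Lpe (K29.f65512 IH) (Lpe (K29.f65501 IH) (Lpr_gf (K29.f481678 IH) (Lpe (K29.f481686 IH) (Lpe (K34.f481695 IH) (Lpe (K33.f491990 IH) (Lpr_gt (f531596 IH) (Lpr_dt (K49.f676178 IH) (Lpn K49.v9490))))))))))
theorem f466895 : Led Lsl_gt (LP (LK LD1_c7 LD2_c33 LD3_c38)) = (LP (LK LD1_c14 LD2_c15 LD3_c33)) :=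
  Lre_g IH (LK LD1_c7 LD2_c33 LD3_c38) (LK LD1_c14 LD2_c15 LD3_c33) Lrfl Lrfl
theorem f466903 : Led Lsl_et (LP (LK LD1_c23 LD2_c52 LD3_c12)) = (LP (LK LD1_c14 LD2_c15 LD3_c33)) :=
  Lre_e IH (LK LD1_c23 LD2_c52 LD3_c12) (LK LD1_c14 LD2_c15 LD3_c33) Lrfl Lrfl
theorem f816548 : Led Lsl_df (LP (LK LD1_c7 LD2_c51 LD3_c11)) = v23361 :=
  Lgr Lrot38 (Lpr_dt (f816545 IH) (Lpn v23361))
theorem f456689 : Led Lsl_gt (LP (LK LD1_c14 LD2_c48 LD3_c47)) = (LP (LK LD1_c7 LD2_c51 LD3_c11)) :=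
  Lre_g IH (LK LD1_c14 LD2_c48 LD3_c47) (LK LD1_c7 LD2_c51 LD3_c11) Lrfl Lrfl
theorem f816554 : Led Lsl_dt (LP (LK LD1_c23 LD2_c52 LD3_c12)) = (LP (LK LD1_c14 LD2_c48 LD3_c47)) :=
  Lgr Lrot136 (Lpr_et (f466903 IH) (Lpe (f466895 IH) (Lpe (K29.f466853 IH) (Lpr_dt (K29.f459570 IH) (Lpe (K29.f478300 IH) (Lpe (K4.f65510 IH) (Lpr_gf (f676184 IH) (Lpr_ef (f816549 IH) (Lpe (f816548 IH) (Lpe (f456689 IH) (Lpn (LP (LK LD1_c14 LD2_c48 LD3_c47)))))))))))))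
theorem f816555 : Led Lsl_dt (LP (LK LD1_c23 LD2_c52 LD3_c12)) = (LP (LK LD1_c14 LD2_c48 LD3_c47)) :=
  Leop (Lpe (f816554 IH) (Lpn (LP (LK LD1_c23 LD2_c52 LD3_c12))))
theorem seed_1833 : LEOK LG_d (LK LD1_c23 LD2_c52 LD3_c12) :=
  Leoe_d (LK LD1_c23 LD2_c52 LD3_c12) (f816555 IH)
def v23365 : LQ := Led Lsl_et (LP (LK LD1_c7 LD2_c51 LD3_c16))
theorem f816579 : Led Lsl_et (LP (LK LD1_c7 LD2_c51 LD3_c16)) = v23365 :=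
  Lrfl
theorem f816581 : Led Lsl_ef (LP (LK LD1_c7 LD2_c51 LD3_c16)) = v23365 :=
  Lgr Lrot88 (Lpr_et (f816579 IH) (Lpn v23365))
theorem f123155 : Led Lsl_dt (LP (LK LD1_c7 LD2_c49 LD3_c26)) = (LP (LK LD1_c14 LD2_c45 LD3_c48)) :=
  Lre_d IH (LK LD1_c7 LD2_c49 LD3_c26) (LK LD1_c14 LD2_c45 LD3_c48) Lrfl Lrfl
theorem f123149 : Led Lsl_gt (LP (LK LD1_c14 LD2_c49 LD3_c2)) = (LP (LK LD1_c7 LD2_c51 LD3_c18)) :=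
  Lre_g IH (LK LD1_c14 LD2_c49 LD3_c2) (LK LD1_c7 LD2_c51 LD3_c18) Lrfl Lrfl
theorem f123150 : Led Lsl_gf (LP (LK LD1_c14 LD2_c49 LD3_c2)) = (LP (LK LD1_c14 LD2_c45 LD3_c48)) :=
  Lgr Lrot47 (Lpr_gt (f123149 IH) (Lpr_af (K28.f123117 IH) (Lpe (K29.f123146 IH) (Lpn (LP (LK LD1_c14 LD2_c45 LD3_c48))))))
theorem f123427 : Led Lsl_et (LP (LK LD1_c3 LD2_c54 LD3_c49)) = (LP (LK LD1_c1 LD2_c53 LD3_c60)) :=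
  Lre_e IH (LK LD1_c3 LD2_c54 LD3_c49) (LK LD1_c1 LD2_c53 LD3_c60) Lrfl Lrfl
theorem f13396 : Led Lsl_et (LP (LK LD1_c1 LD2_c48 LD3_c28)) = (LP (LK LD1_c3 LD2_c42 LD3_c56)) :=
  Lre_e IH (LK LD1_c1 LD2_c48 LD3_c28) (LK LD1_c3 LD2_c42 LD3_c56) Lrfl Lrfl
theorem f203602 : Led Lsl_et (LP (LK LD1_c14 LD2_c4 LD3_c2)) = (LP (LK LD1_c7 LD2_c26 LD3_c35)) :=
  Lre_e IH (LK LD1_c14 LD2_c4 LD3_c2) (LK LD1_c7 LD2_c26 LD3_c35) Lrfl Lrfl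
theorem f203603 : Led Lsl_df (LP (LK LD1_c14 LD2_c49 LD3_c2)) = (LP (LK LD1_c14 LD2_c4 LD3_c2)) :=
  Lgr Lrot170 (Lpr_gt (f123149 IH) (Lpe (f123248 IH) (Lpr_et (f123427 IH) (Lpr_gt (K28.f84911 IH) (Lpe (K28.f203575 IH) (Lpr_gt (K42.f203599 IH) (Lpe (K62.f13394 IH) (Lpr_et (f13396 IH) (Lpr_gt (K48.f203601 IH) (Lpe (f203602 IH) (Lpn (LP (LK LD1_c14 LD2_c4 LD3_c2)))))))))))))
theorem f13397 : Led Lsl_et (LP (LK LD1_c3 LD2_c40 LD3_c38)) = (LP (LK LD1_c1 LD2_c47 LD3_c15)) :=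
  Lre_e IH (LK LD1_c3 LD2_c40 LD3_c38) (LK LD1_c1 LD2_c47 LD3_c15) Lrfl Lrfl
theorem f662491 : Led Lsl_ef (LP (LK LD1_c7 LD2_c21 LD3_c31)) = K48.v7224 :=
  Lgr Lrot21 (Lpr_ft (K47.f13147 IH) (Lpr_et (f13397 IH) (Lpe (K7.f148315 IH) (Lpr_et (f13396 IH) (Lpr_ft (K48.f662488 IH) (Lpn K48.v7224))))))
theorem f799274 : Led Lsl_ff (LP (LK LD1_c7 LD2_c26 LD3_c37)) = K62.v21788 :=
  Lgr Lrot3 (Lpr_ft (K62.f799270 IH) (Lpn K62.v21788))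
theorem f13261 : Led Lsl_dt (LP (LK LD1_c7 LD2_c26 LD3_c37)) = (LP (LK LD1_c3 LD2_c42 LD3_c56)) :=
  Lre_d IH (LK LD1_c7 LD2_c26 LD3_c37) (LK LD1_c3 LD2_c42 LD3_c56) Lrfl Lrfl
theorem f799281 : Led Lsl_dt K48.v7224 = K62.v21788 :=
  Lgr Lrot60 (Lpe (K48.f662488 IH) (Lpe (f13261 IH) (Lpr_ff (f799274 IH) (Lpn K62.v21788))))
theorem f13138 : Led Lsl_gt (LP (LK LD1_c13 LD2_c54 LD3_c42)) = (LP (LK LD1_c7 LD2_c21 LD3_c30)) :=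
  Lre_g IH (LK LD1_c13 LD2_c54 LD3_c42) (LK LD1_c7 LD2_c21 LD3_c30) Lrfl Lrfl
theorem f799282 : Led Lsl_gf (LP (LK LD1_c13 LD2_c54 LD3_c42)) = K62.v21788 :=
  Lgr Lrot47 (Lpr_gt (f13138 IH) (Lpe (K7.f13069 IH) (Lpr_ff (f799274 IH) (Lpn K62.v21788))))
theorem f816583 : Led Lsl_df (LP (LK LD1_c13 LD2_c54 LD3_c42)) = v23365 :=
  Lgr Lrot168 (Lpr_gf (f799282 IH) (Lpe (f799281 IH) (Lpe (f662491 IH) (Lpe (K48.f662493 IH) (Lpe (f203602 IH) (Lpe (f203603 IH) (Lpr_gf (f123150 IH) (Lpe (f123155 IH) (Lpe (f123384 IH) (Lpr_ef (f816581 IH) (Lpn v23365)))))))))))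
theorem f809062 : Led Lsl_at (LP (LK LD1_c14 LD2_c51 LD3_c26)) = (LP (LK LD1_c13 LD2_c8 LD3_c53)) :=
  Lgr Lrot107 (Lpe (K33.f480896 IH) (Lpr_af (K63.f809058 IH) (Lpr_cf (K48.f486187 IH) (Lpn (LP (LK LD1_c13 LD2_c8 LD3_c53))))))
theorem f809373 : Led Lsl_at (LP (LK LD1_c14 LD2_c45 LD3_c40)) = (LP (LK LD1_c14 LD2_c48 LD3_c58)) :=
  Lgr Lrot67 (Lpe (K63.f478624 IH) (Lpe (f809062 IH) (Lpe (K33.f486373 IH) (Lpr_af (f809369 IH) (Lpe (f482314 IH) (Lpn (LP (LK LD1_c14 LD2_c48 LD3_c58))))))))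
theorem f809589 : Led Lsl_af (LP (LK LD1_c7 LD2_c49 LD3_c23)) = (LP (LK LD1_c7 LD2_c51 LD3_c16)) :=
  Lgr Lrot68 (Lpr_ct (K48.f123188 IH) (Lpr_at (f809373 IH) (Lpr_ct (f123388 IH) (Lpn (LP (LK LD1_c7 LD2_c51 LD3_c16))))))
theorem f816582 : Led Lsl_at v23237 = v23365 :=
  Lgr Lrot80 (Lpe (f815776 IH) (Lpr_af (f809589 IH) (Lpr_ef (f816581 IH) (Lpn v23365))))
theorem f815779 : Led Lsl_dt (LP (LK LD1_c14 LD2_c4 LD3_c8)) = v23237 :=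
  Lgr Lrot42 (Lpr_df (f815778 IH) (Lpn v23237))
theorem f816584 : Led Lsl_at (LP (LK LD1_c13 LD2_c54 LD3_c42)) = (LP (LK LD1_c14 LD2_c4 LD3_c8)) :=
  Lgr Lrot51 (Lpr_df (f816583 IH) (Lpe (f816582 IH) (Lpe (f815779 IH) (Lpn (LP (LK LD1_c14 LD2_c4 LD3_c8))))))
theorem f816585 : Led Lsl_at (LP (LK LD1_c13 LD2_c54 LD3_c42)) = (LP (LK LD1_c14 LD2_c4 LD3_c8)) :=
  Leop (Lpe (f816584 IH) (Lpn (LP (LK LD1_c13 LD2_c54 LD3_c42))))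
theorem seed_1834 : LEOK LG_a (LK LD1_c13 LD2_c54 LD3_c42) :=
  Leoe_a (LK LD1_c13 LD2_c54 LD3_c42) (f816585 IH)
theorem f816587 : Led Lsl_et (LP (LK LD1_c13 LD2_c54 LD3_c42)) = (LP (LK LD1_c23 LD2_c25 LD3_c1)) :=
  Lre_e IH (LK LD1_c13 LD2_c54 LD3_c42) (LK LD1_c23 LD2_c25 LD3_c1) Lrfl Lrfl
theorem f533024 : Led Lsl_et (LP (LK LD1_c24 LD2_c35 LD3_c9)) = (LP (LK LD1_c14 LD2_c48 LD3_c59)) :=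
  Lre_e IH (LK LD1_c24 LD2_c35 LD3_c9) (LK LD1_c14 LD2_c48 LD3_c59) Lrfl Lrfl
theorem f816588 : Led Lsl_dt (LP (LK LD1_c23 LD2_c25 LD3_c1)) = (LP (LK LD1_c24 LD2_c35 LD3_c9)) :=
  Lgr Lrot77 (Lpe (f816587 IH) (Lpr_df (f816583 IH) (Lpe (f816579 IH) (Lpe (f123387 IH) (Lpe (f533024 IH) (Lpn (LP (LK LD1_c24 LD2_c35 LD3_c9))))))))
theorem f816592 : Led Lsl_df (LP (LK LD1_c23 LD2_c25 LD3_c1)) = (LP (LK LD1_c24 LD2_c35 LD3_c9)) :=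
  Lgr Lrot38 (Lpr_dt (f816588 IH) (Lpn (LP (LK LD1_c24 LD2_c35 LD3_c9))))
theorem f809323 : Led Lsl_ft (LP (LK LD1_c14 LD2_c45 LD3_c41)) = (LP (LK LD1_c14 LD2_c48 LD3_c61)) :=
  Lgr Lrot48 (Lpr_ff (f809317 IH) (Lpn (LP (LK LD1_c14 LD2_c48 LD3_c61))))
theorem f809126 : Led Lsl_af (LP (LK LD1_c14 LD2_c45 LD3_c43)) = (LP (LK LD1_c14 LD2_c48 LD3_c61)) :=
  Lgr Lrot0 (Lpr_at (f809124 IH) (Lpn (LP (LK LD1_c14 LD2_c48 LD3_c61))))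
theorem f809662 : Led Lsl_af (LP (LK LD1_c14 LD2_c45 LD3_c41)) = (LP (LK LD1_c14 LD2_c48 LD3_c59)) :=
  Lgr Lrot45 (Lpr_ft (f809323 IH) (Lpe (f809126 IH) (Lpr_ft (f809116 IH) (Lpn (LP (LK LD1_c14 LD2_c48 LD3_c59))))))
theorem f123195 : Led Lsl_et (LP (LK LD1_c14 LD2_c45 LD3_c41)) = (LP (LK LD1_c24 LD2_c31 LD3_c55)) :=
  Lre_e IH (LK LD1_c14 LD2_c45 LD3_c41) (LK LD1_c24 LD2_c31 LD3_c55) Lrfl Lrfl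
theorem f809681 : Led Lsl_at (LP (LK LD1_c24 LD2_c31 LD3_c55)) = (LP (LK LD1_c24 LD2_c35 LD3_c9)) :=
  Lgr Lrot80 (Lpe (f123195 IH) (Lpr_af (f809662 IH) (Lpe (f533024 IH) (Lpn (LP (LK LD1_c24 LD2_c35 LD3_c9))))))
theorem f816594 : Led Lsl_at (LP (LK LD1_c23 LD2_c25 LD3_c1)) = (LP (LK LD1_c23 LD2_c37 LD3_c28)) :=
  Lgr Lrot51 (Lpr_df (f816592 IH) (Lpe (f809681 IH) (Lpe (f815781 IH) (Lpn (LP (LK LD1_c23 LD2_c37 LD3_c28))))))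
theorem f13273 : Led Lsl_et (LP (LK LD1_c23 LD2_c37 LD3_c28)) = (LP (LK LD1_c14 LD2_c4 LD3_c8)) :=
  Lre_e IH (LK LD1_c23 LD2_c37 LD3_c28) (LK LD1_c14 LD2_c4 LD3_c8) Lrfl Lrfl
theorem f816596 : Led Lsl_af (LP (LK LD1_c13 LD2_c54 LD3_c42)) = (LP (LK LD1_c14 LD2_c4 LD3_c8)) :=
  Lgr Lrot50 (Lpr_et (f816587 IH) (Lpr_at (f816594 IH) (Lpr_et (f13273 IH) (Lpn (LP (LK LD1_c14 LD2_c4 LD3_c8))))))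
theorem f13137 : Led Lsl_ft (LP (LK LD1_c7 LD2_c21 LD3_c30)) = (LP (LK LD1_c13 LD2_c54 LD3_c44)) :=
  Lre_f IH (LK LD1_c7 LD2_c21 LD3_c30) (LK LD1_c13 LD2_c54 LD3_c44) Lrfl Lrfl
theorem f799279 : Led Lsl_at (LP (LK LD1_c13 LD2_c54 LD3_c44)) = K62.v21788 :=
  Lgr Lrot66 (Lpe (f13137 IH) (Lpe (K7.f13069 IH) (Lpr_ff (f799274 IH) (Lpn K62.v21788))))
theorem f4567 : Led Lsl_gt (LP (LK LD1_c7 LD2_c21 LD3_c30)) = (LP (LK LD1_c13 LD2_c54 LD3_c41)) :=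
  Lre_g IH (LK LD1_c7 LD2_c21 LD3_c30) (LK LD1_c13 LD2_c54 LD3_c41) Lrfl Lrfl
theorem f799289 : Led Lsl_gt (LP (LK LD1_c13 LD2_c54 LD3_c41)) = K62.v21788 :=
  Lgr Lrot46 (Lpe (f4567 IH) (Lpr_ft (f13137 IH) (Lpr_at (f799279 IH) (Lpn K62.v21788))))
theorem f816600 : Led Lsl_ft (LP (LK LD1_c13 LD2_c54 LD3_c41)) = (LP (LK LD1_c14 LD2_c4 LD3_c8)) :=
  Lgr Lrot2 (Lpr_gt (f799289 IH) (Lpe (f799282 IH) (Lpr_af (f816596 IH) (Lpn (LP (LK LD1_c14 LD2_c4 LD3_c8))))))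
theorem f816607 : Led Lsl_ff (LP (LK LD1_c13 LD2_c54 LD3_c41)) = (LP (LK LD1_c14 LD2_c4 LD3_c8)) :=
  Lgr Lrot3 (Lpr_ft (f816600 IH) (Lpn (LP (LK LD1_c14 LD2_c4 LD3_c8))))
theorem f816616 : Led Lsl_at (LP (LK LD1_c13 LD2_c54 LD3_c41)) = (LP (LK LD1_c14 LD2_c4 LD3_c7)) :=
  Lgr Lrot26 (Lpr_ff (f816607 IH) (Lpr_gt (K63.f13263 IH) (Lpr_gt (K62.f436874 IH) (Lpn (LP (LK LD1_c14 LD2_c4 LD3_c7))))))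
theorem f816627 : Led Lsl_ff (LP (LK LD1_c13 LD2_c54 LD3_c42)) = (LP (LK LD1_c14 LD2_c4 LD3_c7)) :=
  Lgr Lrot30 (Lpr_at (f816584 IH) (Lpe (f816607 IH) (Lpr_at (f816616 IH) (Lpn (LP (LK LD1_c14 LD2_c4 LD3_c7))))))
theorem f799283 : Led Lsl_ct (LP (LK LD1_c13 LD2_c54 LD3_c42)) = (LP (LK LD1_c23 LD2_c25 LD3_c0)) :=
  Lre_c IH (LK LD1_c13 LD2_c54 LD3_c42) (LK LD1_c23 LD2_c25 LD3_c0) Lrfl Lrfl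
theorem f799277 : Led Lsl_ct (LP (LK LD1_c23 LD2_c37 LD3_c24)) = (LP (LK LD1_c14 LD2_c4 LD3_c7)) :=
  Lre_c IH (LK LD1_c23 LD2_c37 LD3_c24) (LK LD1_c14 LD2_c4 LD3_c7) Lrfl Lrfl
theorem f816629 : Led Lsl_ft (LP (LK LD1_c23 LD2_c25 LD3_c0)) = (LP (LK LD1_c23 LD2_c37 LD3_c24)) :=
  Lgr Lrot4 (Lpe (f799283 IH) (Lpr_ff (f816627 IH) (Lpe (f799277 IH) (Lpn (LP (LK LD1_c23 LD2_c37 LD3_c24))))))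
theorem f799290 : Led Lsl_ct (LP (LK LD1_c23 LD2_c24 LD3_c60)) = (LP (LK LD1_c13 LD2_c54 LD3_c41)) :=
  Lre_c IH (LK LD1_c23 LD2_c24 LD3_c60) (LK LD1_c13 LD2_c54 LD3_c41) Lrfl Lrfl
theorem f662533 : Led Lsl_ct (LP (LK LD1_c14 LD2_c4 LD3_c7)) = (LP (LK LD1_c23 LD2_c37 LD3_c24)) :=
  Lre_c IH (LK LD1_c14 LD2_c4 LD3_c7) (LK LD1_c23 LD2_c37 LD3_c24) Lrfl Lrfl
theorem f816622 : Led Lsl_af (LP (LK LD1_c23 LD2_c24 LD3_c60)) = (LP (LK LD1_c23 LD2_c37 LD3_c24)) :=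
  Lgr Lrot68 (Lpr_ct (f799290 IH) (Lpr_at (f816616 IH) (Lpr_ct (f662533 IH) (Lpn (LP (LK LD1_c23 LD2_c37 LD3_c24))))))
theorem f799291 : Led Lsl_gt (LP (LK LD1_c31 LD2_c2 LD3_c13)) = (LP (LK LD1_c23 LD2_c24 LD3_c60)) :=
  Lre_g IH (LK LD1_c31 LD2_c2 LD3_c13) (LK LD1_c23 LD2_c24 LD3_c60) Lrfl Lrfl
theorem f816657 : Led Lsl_gt (LP (LK LD1_c23 LD2_c25 LD3_c0)) = (LP (LK LD1_c31 LD2_c2 LD3_c13)) :=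
  Lgr Lrot5 (Lpr_ft (f816629 IH) (Lpe (f816622 IH) (Lpe (f799291 IH) (Lpn (LP (LK LD1_c31 LD2_c2 LD3_c13))))))
theorem f799273 : Led Lsl_df K48.v7224 = K62.v21788 :=
  Lgr Lrot78 (Lpe (K48.f662492 IH) (Lpr_dt (K7.f13131 IH) (Lpr_ft (K62.f799270 IH) (Lpn K62.v21788))))
theorem f816660 : Led Lsl_cf (LP (LK LD1_c23 LD2_c38 LD3_c21)) = (LP (LK LD1_c31 LD2_c2 LD3_c13)) :=
  Lgr Lrot99 (Lpe (K24.f439254 IH) (Lpr_cf (K48.f439625 IH) (Lpe (K48.f662516 IH) (Lpe (K48.f486077 IH) (Lpr_gf (K48.f662515 IH) (Lpr_df (f799273 IH) (Lpe (f799282 IH) (Lpr_ct (f799283 IH) (Lpr_gt (f816657 IH) (Lpn (LP (LK LD1_c31 LD2_c2 LD3_c13))))))))))))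
theorem f816661 : Led Lsl_ct (LP (LK LD1_c31 LD2_c2 LD3_c13)) = (LP (LK LD1_c23 LD2_c38 LD3_c21)) :=
  Leop (Lpr_cf (f816660 IH) (Lpn (LP (LK LD1_c31 LD2_c2 LD3_c13))))
theorem seed_1835 : LEOK LG_c (LK LD1_c31 LD2_c2 LD3_c13) :=
  Leoe_c (LK LD1_c31 LD2_c2 LD3_c13) (f816661 IH)
def v23370 : LQ := Led Lsl_ct (LP (LK LD1_c7 LD2_c51 LD3_c25))
theorem f816732 : Led Lsl_ct (LP (LK LD1_c7 LD2_c51 LD3_c25)) = v23370 :=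
  Lrfl
def v20793 : LQ := Led Lsl_bt (LP (LK LD1_c7 LD2_c5 LD3_c4))
theorem f790024 : Led Lsl_bt (LP (LK LD1_c7 LD2_c5 LD3_c4)) = v20793 :=
  Lrfl
theorem f466007 : Led Lsl_at (LP (LK LD1_c7 LD2_c5 LD3_c1)) = (LP (LK LD1_c13 LD2_c25 LD3_c27)) :=
  Lre_a IH (LK LD1_c7 LD2_c5 LD3_c1) (LK LD1_c13 LD2_c25 LD3_c27) Lrfl Lrfl
theorem f489749 : Led Lsl_dt (LP (LK LD1_c13 LD2_c25 LD3_c50)) = (LP (LK LD1_c7 LD2_c5 LD3_c1)) :=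
  Lre_d IH (LK LD1_c13 LD2_c25 LD3_c50) (LK LD1_c7 LD2_c5 LD3_c1) Lrfl Lrfl
theorem f490029 : Led Lsl_at (LP (LK LD1_c14 LD2_c47 LD3_c10)) = (LP (LK LD1_c13 LD2_c25 LD3_c50)) :=
  Lgr Lrot51 (Lpr_df (f490010 IH) (Lpe (f466007 IH) (Lpe (f489749 IH) (Lpn (LP (LK LD1_c13 LD2_c25 LD3_c50))))))
theorem f489748 : Led Lsl_et (LP (LK LD1_c13 LD2_c25 LD3_c50)) = (LP (LK LD1_c7 LD2_c5 LD3_c4)) :=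
  Lre_e IH (LK LD1_c13 LD2_c25 LD3_c50) (LK LD1_c7 LD2_c5 LD3_c4) Lrfl Lrfl
theorem f490047 : Led Lsl_af (LP (LK LD1_c7 LD2_c50 LD3_c18)) = (LP (LK LD1_c7 LD2_c5 LD3_c4)) :=
  Lgr Lrot50 (Lpr_et (f490001 IH) (Lpr_at (f490029 IH) (Lpr_et (f489748 IH) (Lpn (LP (LK LD1_c7 LD2_c5 LD3_c4))))))
theorem f667527 : Led Lsl_ff (LP (LK LD1_c7 LD2_c5 LD3_c4)) = v7664 :=
  Lgr Lrot52 (Lpe (f490047 IH) (Lpe (K29.f148160 IH) (Lpr_gf (f667525 IH) (Lpn v7664))))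
theorem f658882 : Led Lsl_bf (LP (LK LD1_c3 LD2_c31 LD3_c44)) = K61.v6839 :=
  Lgr Lrot96 (Lpr_et (K47.f459270 IH) (Lpr_bt (K28.f455759 IH) (Lpr_et (K61.f658881 IH) (Lpn K61.v6839))))
theorem f658887 : Led Lsl_ft K49.v6834 = K61.v6839 :=
  Lgr Lrot48 (Lpr_ff (K61.f658885 IH) (Lpn K61.v6839))
theorem f658890 : Led Lsl_bf K49.v6834 = K47.v6840 :=
  Lgr Lrot61 (Lpr_ft (f658887 IH) (Lpe (f658882 IH) (Lpr_ft (K47.f658889 IH) (Lpn K47.v6840))))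
theorem f462954 : Led Lsl_ct (LP (LK LD1_c7 LD2_c23 LD3_c53)) = (LP (LK LD1_c13 LD2_c59 LD3_c30)) :=
  Lre_c IH (LK LD1_c7 LD2_c23 LD3_c53) (LK LD1_c13 LD2_c59 LD3_c30) Lrfl Lrfl
theorem f511540 : Led Lsl_gt (LP (LK LD1_c3 LD2_c54 LD3_c21)) = (LP (LK LD1_c3 LD2_c56 LD3_c33)) :=
  Lgr Lrot49 (Lpr_df (K33.f148169 IH) (Lpe (K33.f4587 IH) (Lpe (K29.f4512 IH) (Lpr_gt (K34.f4562 IH) (Lpr_dt (K34.f485166 IH) (Lpr_gt (K34.f511537 IH) (Lpe (K29.f490435 IH) (Lpe (f462954 IH) (Lpe (K29.f462945 IH) (Lpn (LP (LK LD1_c3 LD2_c56 LD3_c33))))))))))))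
theorem f658892 : Led Lsl_ef (LP (LK LD1_c7 LD2_c4 LD3_c42)) = K47.v6840 :=
  Lgr Lrot21 (Lpr_ft (K48.f458244 IH) (Lpr_et (K28.f458261 IH) (Lpe (K33.f458892 IH) (Lpr_et (K34.f459228 IH) (Lpr_ft (K47.f658889 IH) (Lpn K47.v6840))))))
theorem f667528 : Led Lsl_dt K47.v6840 = v7664 :=
  Lgr Lrot136 (Lpe (f658892 IH) (Lpr_gf (K29.f483720 IH) (Lpe (K29.f456464 IH) (Lpr_dt (K29.f436795 IH) (Lpe (K29.f483712 IH) (Lpe (K29.f462945 IH) (Lpe (f511540 IH) (Lpe (K33.f148171 IH) (Lpr_dt (K29.f122782 IH) (Lpr_gf (f667525 IH) (Lpn v7664)))))))))))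
theorem f667529 : Led Lsl_df K47.v6840 = v7664 :=
  Lgr Lrot38 (Lpr_dt (f667528 IH) (Lpn v7664))
theorem f667778 : Led Lsl_bf v7664 = K49.v7691 :=
  Lgr Lrot93 (Lpe (f667529 IH) (Lpe (f658890 IH) (Lpr_dt (K49.f667777 IH) (Lpn K49.v7691))))
theorem f790028 : Led Lsl_ff K49.v7691 = v20793 :=
  Lgr Lrot25 (Lpe (f667778 IH) (Lpe (f667527 IH) (Lpr_bt (f790024 IH) (Lpn v20793))))
def v892 : LQ := Led Lsl_dt (LP (LK LD1_c0 LD2_c53 LD3_c43))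
theorem f490285 : Led Lsl_dt (LP (LK LD1_c0 LD2_c53 LD3_c43)) = v892 :=
  Lrfl
def v2726 : LQ := Led Lsl_dt (LP (LK LD1_c1 LD2_c54 LD3_c1))
theorem f531616 : Led Lsl_dt (LP (LK LD1_c1 LD2_c54 LD3_c1)) = v2726 :=
  Lrfl
theorem f490278 : Led Lsl_df (LP (LK LD1_c0 LD2_c53 LD3_c42)) = K61.v889 :=
  Lgr Lrot38 (Lpr_dt (K61.f490277 IH) (Lpn K61.v889))
theorem f531617 : Led Lsl_af K61.v889 = v2726 :=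
  Lgr Lrot117 (Lpe (f490278 IH) (Lpr_at (K35.f490273 IH) (Lpqs (K35.f528733 IH) (Lpr_dt (f531616 IH) (Lpn v2726)))))
theorem f490286 : Led Lsl_df (LP (LK LD1_c0 LD2_c53 LD3_c43)) = v892 :=
  Lgr Lrot38 (Lpr_dt (f490285 IH) (Lpn v892))
theorem f531619 : Led Lsl_ff v892 = v2726 :=
  Lgr Lrot19 (Lpe (f490286 IH) (Lpr_ft (K35.f490275 IH) (Lpqs (K35.f528733 IH) (Lpr_dt (f531616 IH) (Lpn v2726)))))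
theorem f531620 : Led Lsl_ft v892 = v2726 :=
  Lgr Lrot48 (Lpr_ff (f531619 IH) (Lpn v2726))
theorem f625929 : Led Lsl_gt v892 = K61.v3493 :=
  Lgr Lrot5 (Lpr_ft (f531620 IH) (Lpe (f531617 IH) (Lpr_gf (K61.f625928 IH) (Lpn K61.v3493))))
theorem f436999 : Led Lsl_dt (LP (LK LD1_c3 LD2_c54 LD3_c52)) = (LP (LK LD1_c1 LD2_c54 LD3_c0)) :=
  Lre_d IH (LK LD1_c3 LD2_c54 LD3_c52) (LK LD1_c1 LD2_c54 LD3_c0) Lrfl Lrfl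
theorem f514651 : Led Lsl_gf (LP (LK LD1_c1 LD2_c47 LD3_c49)) = K61.v2325 :=
  Lgr Lrot138 (Lpr_dt (K29.f4860 IH) (Lpr_gt (K29.f437909 IH) (Lpe (K5.f84894 IH) (Lpr_et (K29.f84919 IH) (Lpe (K6.f143194 IH) (Lpe (K61.f95910 IH) (Lpe (K28.f159495 IH) (Lpq (K28.f463253 IH) (Lpe (K24.f455619 IH) (Lpe (K32.f455630 IH) (Lpr_et (K61.f514648 IH) (Lpn K61.v2325))))))))))))
theorem f658842 : Led Lsl_ct K61.v2325 = K49.v6834 :=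
  Lgr Lrot8 (Lpe (f514651 IH) (Lpr_dt (K29.f4860 IH) (Lpr_gt (K29.f437909 IH) (Lpr_dt (K33.f84901 IH) (Lpe (K33.f437018 IH) (Lpe (f436999 IH) (Lpr_gf (K47.f437013 IH) (Lpe (K47.f437012 IH) (Lpr_gf (K49.f658841 IH) (Lpn K49.v6834))))))))))
theorem f667776 : Led Lsl_df K49.v6834 = K49.v7691 :=
  Lgr Lrot84 (Lpe (f658842 IH) (Lpr_df (K61.f625932 IH) (Lpe (f625929 IH) (Lpe (f490285 IH) (Lpe (K29.f123192 IH) (Lpe (K29.f123191 IH) (Lpr_gt (K33.f437634 IH) (Lpr_dt (K33.f437635 IH) (Lpr_gt (K49.f667775 IH) (Lpn K49.v7691))))))))))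
theorem f790029 : Led Lsl_dt K61.v6839 = v20793 :=
  Lgr Lrot60 (Lpe (f658887 IH) (Lpr_df (f667776 IH) (Lpr_ff (f790028 IH) (Lpn v20793))))
theorem f660888 : Led Lsl_cf (LP (LK LD1_c3 LD2_c38 LD3_c52)) = K47.v7092 :=
  Lgr Lrot39 (Lpr_et (K29.f478288 IH) (Lpr_ct (K29.f5284 IH) (Lpr_et (K47.f660886 IH) (Lpn K47.v7092))))
def v9102 : LQ := Led Lsl_gt K61.v2442
theorem f673589 : Led Lsl_gt K61.v2442 = v9102 :=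
  Lrfl
theorem f673591 : Led Lsl_dt K48.v6829 = v9102 :=
  Lgr Lrot56 (Lpe (K48.f658794 IH) (Lpe (K28.f466252 IH) (Lpe (K24.f116023 IH) (Lpr_dt (K4.f116021 IH) (Lpr_gt (K6.f144151 IH) (Lpe (K6.f142714 IH) (Lpr_et (K33.f96975 IH) (Lpr_gt (K29.f477166 IH) (Lpr_dt (K61.f519766 IH) (Lpr_gt (f673589 IH) (Lpn v9102)))))))))))
theorem f108233 : Led Lsl_bt (LP (LK LD1_c3 LD2_c35 LD3_c34)) = (LP (LK LD1_c1 LD2_c44 LD3_c47)) :=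
  Lre_b IH (LK LD1_c3 LD2_c35 LD3_c34) (LK LD1_c1 LD2_c44 LD3_c47) Lrfl Lrfl
theorem f108235 : Led Lsl_ef (LP (LK LD1_c3 LD2_c35 LD3_c34)) = (LP (LK LD1_c3 LD2_c32 LD3_c6)) :=
  Lgr Lrot29 (Lpr_bt (f108233 IH) (Lpr_et (K3.f108231 IH) (Lpr_bt (K28.f108234 IH) (Lpn (LP (LK LD1_c3 LD2_c32 LD3_c6))))))
theorem f108290 : Led Lsl_et (LP (LK LD1_c3 LD2_c35 LD3_c34)) = (LP (LK LD1_c3 LD2_c32 LD3_c6)) :=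
  Lgr Lrot87 (Lpr_ef (f108235 IH) (Lpn (LP (LK LD1_c3 LD2_c32 LD3_c6))))
theorem f786529 : Led Lsl_gt v9102 = K61.v20353 :=
  Lgr Lrot112 (Lpe (f673591 IH) (Lpe (K48.f658794 IH) (Lpe (K28.f466254 IH) (Lpe (f108290 IH) (Lpe (K28.f464610 IH) (Lpr_gf (K28.f464707 IH) (Lpe (K32.f128090 IH) (Lpr_gf (K33.f469515 IH) (Lpr_ef (K33.f480257 IH) (Lpr_dt (K61.f786522 IH) (Lpn K61.v20353)))))))))))
theorem f786525 : Led Lsl_df (LP (LK LD1_c6 LD2_c55 LD3_c7)) = K61.v20353 :=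
  Lgr Lrot38 (Lpr_dt (K61.f786522 IH) (Lpn K61.v20353))
theorem f790031 : Led Lsl_gf (LP (LK LD1_c7 LD2_c51 LD3_c25)) = v20793 :=
  Lgr Lrot143 (Lpr_dt (K33.f480187 IH) (Lpr_cf (K33.f480255 IH) (Lpr_df (f786525 IH) (Lpe (f786529 IH) (Lpe (f673591 IH) (Lpqs (K48.f660959 IH) (Lpe (K48.f660953 IH) (Lpr_cf (f660888 IH) (Lpe (K61.f660936 IH) (Lpr_dt (f790029 IH) (Lpn v20793)))))))))))
theorem f489738 : Led Lsl_ct (LP (LK LD1_c7 LD2_c5 LD3_c4)) = (LP (LK LD1_c13 LD2_c25 LD3_c54)) :=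
  Lre_c IH (LK LD1_c7 LD2_c5 LD3_c4) (LK LD1_c13 LD2_c25 LD3_c54) Lrfl Lrfl
theorem f524114 : Led Lsl_af (LP (LK LD1_c7 LD2_c49 LD3_c37)) = (LP (LK LD1_c3 LD2_c54 LD3_c32)) :=
  Lgr Lrot0 (Lpr_at (K34.f524085 IH) (Lpn (LP (LK LD1_c3 LD2_c54 LD3_c32))))
theorem f524466 : Led Lsl_ft (LP (LK LD1_c7 LD2_c49 LD3_c37)) = (LP (LK LD1_c3 LD2_c54 LD3_c40)) :=
  Lgr Lrot101 (Lpr_af (f524114 IH) (Lpe (K34.f524079 IH) (Lpr_af (K62.f524459 IH) (Lpn (LP (LK LD1_c3 LD2_c54 LD3_c40))))))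
theorem f483563 : Led Lsl_ct (LP (LK LD1_c14 LD2_c45 LD3_c61)) = (LP (LK LD1_c7 LD2_c49 LD3_c37)) :=
  Lre_c IH (LK LD1_c14 LD2_c45 LD3_c61) (LK LD1_c7 LD2_c49 LD3_c37) Lrfl Lrfl
theorem f488024 : Led Lsl_ct (LP (LK LD1_c3 LD2_c54 LD3_c40)) = (LP (LK LD1_c7 LD2_c51 LD3_c2)) :=
  Lre_c IH (LK LD1_c3 LD2_c54 LD3_c40) (LK LD1_c7 LD2_c51 LD3_c2) Lrfl Lrfl
theorem f524471 : Led Lsl_ff (LP (LK LD1_c14 LD2_c45 LD3_c61)) = (LP (LK LD1_c7 LD2_c51 LD3_c2)) :=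
  Lgr Lrot23 (Lpr_ct (f483563 IH) (Lpr_ft (f524466 IH) (Lpr_ct (f488024 IH) (Lpn (LP (LK LD1_c7 LD2_c51 LD3_c2))))))
theorem f524478 : Led Lsl_ft (LP (LK LD1_c14 LD2_c45 LD3_c61)) = (LP (LK LD1_c7 LD2_c51 LD3_c2)) :=
  Lgr Lrot48 (Lpr_ff (f524471 IH) (Lpn (LP (LK LD1_c7 LD2_c51 LD3_c2))))
theorem f524117 : Led Lsl_af (LP (LK LD1_c14 LD2_c45 LD3_c61)) = (LP (LK LD1_c7 LD2_c50 LD3_c48)) :=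
  Lgr Lrot68 (Lpr_ct (f483563 IH) (Lpr_at (K34.f524085 IH) (Lpr_ct (K62.f485158 IH) (Lpn (LP (LK LD1_c7 LD2_c50 LD3_c48))))))
theorem f485159 : Led Lsl_ct (LP (LK LD1_c7 LD2_c50 LD3_c48)) = (LP (LK LD1_c3 LD2_c54 LD3_c32)) :=
  Lre_c IH (LK LD1_c7 LD2_c50 LD3_c48) (LK LD1_c3 LD2_c54 LD3_c32) Lrfl Lrfl
theorem f524087 : Led Lsl_ft (LP (LK LD1_c14 LD2_c46 LD3_c1)) = (LP (LK LD1_c7 LD2_c50 LD3_c48)) :=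
  Lgr Lrot4 (Lpe (K62.f456603 IH) (Lpr_ff (K34.f524083 IH) (Lpe (f485159 IH) (Lpn (LP (LK LD1_c7 LD2_c50 LD3_c48))))))
theorem f524480 : Led Lsl_af (LP (LK LD1_c14 LD2_c46 LD3_c1)) = (LP (LK LD1_c7 LD2_c51 LD3_c2)) :=
  Lgr Lrot45 (Lpr_ft (f524087 IH) (Lpe (f524117 IH) (Lpr_ft (f524478 IH) (Lpn (LP (LK LD1_c7 LD2_c51 LD3_c2))))))
theorem f455999 : Led Lsl_dt (LP (LK LD1_c3 LD2_c34 LD3_c1)) = (LP (LK LD1_c7 LD2_c9 LD3_c10)) :=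
  Lre_d IH (LK LD1_c3 LD2_c34 LD3_c1) (LK LD1_c7 LD2_c9 LD3_c10) Lrfl Lrfl
theorem f470287 : Led Lsl_dt (LP (LK LD1_c3 LD2_c31 LD3_c44)) = (LP (LK LD1_c7 LD2_c5 LD3_c4)) :=
  Lre_d IH (LK LD1_c3 LD2_c31 LD3_c44) (LK LD1_c7 LD2_c5 LD3_c4) Lrfl Lrfl
theorem f489736 : Led Lsl_gt (LP (LK LD1_c7 LD2_c9 LD3_c10)) = (LP (LK LD1_c7 LD2_c5 LD3_c4)) :=
  Lgr Lrot139 (Lpe (f455999 IH) (Lpe (K24.f455992 IH) (Lpe (K33.f134732 IH) (Lpr_dt (K5.f134727 IH) (Lpr_gf (K6.f146870 IH) (Lpe (K6.f12900 IH) (Lpr_et (K28.f124012 IH) (Lpr_gf (K28.f463691 IH) (Lpe (K47.f459270 IH) (Lpr_dt (f470287 IH) (Lpn (LP (LK LD1_c7 LD2_c5 LD3_c4)))))))))))))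
theorem f489739 : Led Lsl_gf (LP (LK LD1_c14 LD2_c46 LD3_c1)) = (LP (LK LD1_c13 LD2_c25 LD3_c54)) :=
  Lgr Lrot104 (Lpr_ct (K62.f455997 IH) (Lpe (K34.f455996 IH) (Lpe (K29.f123372 IH) (Lpe (K24.f122819 IH) (Lpe (K33.f122814 IH) (Lpr_gf (K24.f455990 IH) (Lpe (K34.f455994 IH) (Lpr_gt (f489736 IH) (Lpr_ct (f489738 IH) (Lpn (LP (LK LD1_c13 LD2_c25 LD3_c54))))))))))))
theorem f524484 : Led Lsl_gt (LP (LK LD1_c14 LD2_c45 LD3_c61)) = (LP (LK LD1_c13 LD2_c25 LD3_c54)) :=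
  Lgr Lrot5 (Lpr_ft (f524478 IH) (Lpe (f524480 IH) (Lpr_gf (f489739 IH) (Lpn (LP (LK LD1_c13 LD2_c25 LD3_c54))))))
theorem f483562 : Led Lsl_ct (LP (LK LD1_c7 LD2_c49 LD3_c37)) = (LP (LK LD1_c14 LD2_c45 LD3_c61)) :=
  Lre_c IH (LK LD1_c7 LD2_c49 LD3_c37) (LK LD1_c14 LD2_c45 LD3_c61) Lrfl Lrfl
theorem f524486 : Led Lsl_bt (LP (LK LD1_c7 LD2_c49 LD3_c37)) = (LP (LK LD1_c14 LD2_c45 LD3_c60)) :=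
  Lre_b IH (LK LD1_c7 LD2_c49 LD3_c37) (LK LD1_c14 LD2_c45 LD3_c60) Lrfl Lrfl
theorem f790027 : Led Lsl_df K61.v6839 = v20793 :=
  Lgr Lrot12 (Lpe (f658882 IH) (Lpr_dt (f470287 IH) (Lpr_bt (f790024 IH) (Lpn v20793))))
theorem f515710 : Led Lsl_af (LP (LK LD1_c14 LD2_c47 LD3_c31)) = (LP (LK LD1_c22 LD2_c43 LD3_c18)) :=
  Lgr Lrot50 (Lpr_et (K34.f463560 IH) (Lpr_at (K34.f515704 IH) (Lpr_et (K33.f460803 IH) (Lpn (LP (LK LD1_c22 LD2_c43 LD3_c18))))))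
theorem f515703 : Led Lsl_ft (LP (LK LD1_c14 LD2_c47 LD3_c31)) = (LP (LK LD1_c24 LD2_c33 LD3_c61)) :=
  Lre_f IH (LK LD1_c14 LD2_c47 LD3_c31) (LK LD1_c24 LD2_c33 LD3_c61) Lrfl Lrfl
theorem f515713 : Led Lsl_at (LP (LK LD1_c24 LD2_c33 LD3_c61)) = (LP (LK LD1_c30 LD2_c40 LD3_c39)) :=
  Lgr Lrot66 (Lpe (f515703 IH) (Lpr_af (f515710 IH) (Lpe (K34.f460813 IH) (Lpn (LP (LK LD1_c30 LD2_c40 LD3_c39))))))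
theorem f515721 : Led Lsl_gt (LP (LK LD1_c14 LD2_c47 LD3_c31)) = (LP (LK LD1_c24 LD2_c33 LD3_c59)) :=
  Lre_g IH (LK LD1_c14 LD2_c47 LD3_c31) (LK LD1_c24 LD2_c33 LD3_c59) Lrfl Lrfl
theorem f515722 : Led Lsl_gt (LP (LK LD1_c24 LD2_c33 LD3_c59)) = (LP (LK LD1_c30 LD2_c40 LD3_c39)) :=
  Lgr Lrot46 (Lpe (f515721 IH) (Lpr_ft (f515703 IH) (Lpr_at (f515713 IH) (Lpn (LP (LK LD1_c30 LD2_c40 LD3_c39))))))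
theorem f459016 : Led Lsl_et (LP (LK LD1_c7 LD2_c4 LD3_c58)) = (LP (LK LD1_c13 LD2_c25 LD3_c34)) :=
  Lre_e IH (LK LD1_c7 LD2_c4 LD3_c58) (LK LD1_c13 LD2_c25 LD3_c34) Lrfl Lrfl
theorem f469507 : Led Lsl_at (LP (LK LD1_c13 LD2_c25 LD3_c34)) = (LP (LK LD1_c13 LD2_c24 LD3_c51)) :=
  Lgr Lrot80 (Lpe (f459016 IH) (Lpr_af (K28.f469502 IH) (Lpe (K28.f466425 IH) (Lpn (LP (LK LD1_c13 LD2_c24 LD3_c51))))))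
theorem f459237 : Led Lsl_gt (LP (LK LD1_c22 LD2_c43 LD3_c14)) = (LP (LK LD1_c13 LD2_c24 LD3_c51)) :=
  Lre_g IH (LK LD1_c22 LD2_c43 LD3_c14) (LK LD1_c13 LD2_c24 LD3_c51) Lrfl Lrfl
theorem f470202 : Led Lsl_gt (LP (LK LD1_c22 LD2_c44 LD3_c38)) = (LP (LK LD1_c22 LD2_c43 LD3_c14)) :=
  Lgr Lrot5 (Lpr_ft (K28.f469219 IH) (Lpr_at (f469507 IH) (Lpe (f459237 IH) (Lpn (LP (LK LD1_c22 LD2_c43 LD3_c14))))))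
theorem f466436 : Led Lsl_dt (LP (LK LD1_c30 LD2_c40 LD3_c34)) = (LP (LK LD1_c22 LD2_c43 LD3_c14)) :=
  Lre_d IH (LK LD1_c30 LD2_c40 LD3_c34) (LK LD1_c22 LD2_c43 LD3_c14) Lrfl Lrfl
theorem f515725 : Led Lsl_ef (LP (LK LD1_c24 LD2_c33 LD3_c59)) = (LP (LK LD1_c30 LD2_c40 LD3_c34)) :=
  Lgr Lrot167 (Lpr_gt (f515722 IH) (Lpe (K34.f460822 IH) (Lpr_gt (K34.f515656 IH) (Lpr_df (K34.f466096 IH) (Lpr_et (K34.f147022 IH) (Lpe (K34.f147013 IH) (Lpe (K28.f147024 IH) (Lpe (K28.f469222 IH) (Lpr_gt (f470202 IH) (Lpe (f466436 IH) (Lpn (LP (LK LD1_c30 LD2_c40 LD3_c34)))))))))))))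
theorem f515702 : Led Lsl_et (LP (LK LD1_c7 LD2_c50 LD3_c27)) = (LP (LK LD1_c14 LD2_c47 LD3_c31)) :=
  Lre_e IH (LK LD1_c7 LD2_c50 LD3_c27) (LK LD1_c14 LD2_c47 LD3_c31) Lrfl Lrfl
theorem f463553 : Led Lsl_dt (LP (LK LD1_c7 LD2_c50 LD3_c27)) = (LP (LK LD1_c3 LD2_c54 LD3_c24)) :=
  Lre_d IH (LK LD1_c7 LD2_c50 LD3_c27) (LK LD1_c3 LD2_c54 LD3_c24) Lrfl Lrfl
theorem f147408 : Led Lsl_et (LP (LK LD1_c14 LD2_c7 LD3_c18)) = (LP (LK LD1_c7 LD2_c28 LD3_c50)) :=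
  Lre_e IH (LK LD1_c14 LD2_c7 LD3_c18) (LK LD1_c7 LD2_c28 LD3_c50) Lrfl Lrfl
theorem f515729 : Led Lsl_gf (LP (LK LD1_c3 LD2_c54 LD3_c24)) = (LP (LK LD1_c7 LD2_c20 LD3_c46)) :=
  Lgr Lrot134 (Lpe (f463553 IH) (Lpr_et (f515702 IH) (Lpr_gt (f515721 IH) (Lpr_ef (f515725 IH) (Lpr_dt (f466436 IH) (Lpr_gt (f459237 IH) (Lpe (K28.f466421 IH) (Lpr_et (f147408 IH) (Lpe (K33.f147427 IH) (Lpr_dt (K33.f471347 IH) (Lpn (LP (LK LD1_c7 LD2_c20 LD3_c46)))))))))))))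
theorem f661831 : Led Lsl_gt K61.v6839 = K48.v7184 :=
  Lgr Lrot131 (Lpe (K61.f658881 IH) (Lpr_dt (K24.f458819 IH) (Lpe (K34.f466092 IH) (Lpe (K34.f438030 IH) (Lpr_gf (f515729 IH) (Lpe (K33.f471321 IH) (Lpr_dt (K34.f471318 IH) (Lpe (K34.f471642 IH) (Lpr_df (K48.f531538 IH) (Lpr_et (K48.f661828 IH) (Lpn K48.v7184)))))))))))
def v20357 : LQ := Led Lsl_dt (LP (LK LD1_c6 LD2_c55 LD3_c18))
theorem f786549 : Led Lsl_dt (LP (LK LD1_c6 LD2_c55 LD3_c18)) = v20357 :=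
  Lrfl
theorem f121190 : Led Lsl_dt (LP (LK LD1_c0 LD2_c53 LD3_c41)) = (LP (LK LD1_c1 LD2_c54 LD3_c13)) :=
  Lre_d IH (LK LD1_c0 LD2_c53 LD3_c41) (LK LD1_c1 LD2_c54 LD3_c13) Lrfl Lrfl
theorem f123396 : Led Lsl_gt (LP (LK LD1_c1 LD2_c54 LD3_c13)) = (LP (LK LD1_c3 LD2_c55 LD3_c18)) :=
  Lre_g IH (LK LD1_c1 LD2_c54 LD3_c13) (LK LD1_c3 LD2_c55 LD3_c18) Lrfl Lrfl
theorem f660901 : Led Lsl_ff (LP (LK LD1_c3 LD2_c55 LD3_c18)) = (LP (LK LD1_c7 LD2_c23 LD3_c56)) :=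
  Lgr Lrot3 (Lpr_ft (K48.f660898 IH) (Lpn (LP (LK LD1_c7 LD2_c23 LD3_c56))))
theorem f661827 : Led Lsl_dt (LP (LK LD1_c3 LD2_c55 LD3_c18)) = K48.v7184 :=
  Lgr Lrot60 (Lpr_ff (f660901 IH) (Lpe (K47.f437012 IH) (Lpr_ff (K48.f661826 IH) (Lpn K48.v7184))))
theorem f786554 : Led Lsl_ct K48.v7184 = v20357 :=
  Lgr Lrot7 (Lpe (f661827 IH) (Lpe (f123396 IH) (Lpe (f121190 IH) (Lpe (K29.f123422 IH) (Lpe (K29.f478258 IH) (Lpr_gt (K29.f91710 IH) (Lpr_dt (K29.f91716 IH) (Lpr_gt (K48.f91706 IH) (Lpr_dt (f786549 IH) (Lpn v20357))))))))))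
theorem f91603 : Led Lsl_bt (LP (LK LD1_c1 LD2_c38 LD3_c39)) = (LP (LK LD1_c3 LD2_c24 LD3_c23)) :=
  Lre_b IH (LK LD1_c1 LD2_c38 LD3_c39) (LK LD1_c3 LD2_c24 LD3_c23) Lrfl Lrfl
theorem f91605 : Led Lsl_et (LP (LK LD1_c3 LD2_c24 LD3_c23)) = (LP (LK LD1_c3 LD2_c26 LD3_c45)) :=
  Lgr Lrot74 (Lpe (f91603 IH) (Lpr_ef (f91597 IH) (Lpe (K61.f91604 IH) (Lpn (LP (LK LD1_c3 LD2_c26 LD3_c45))))))
def v6883 : LQ := Led Lsl_gf (LP (LK LD1_c3 LD2_c33 LD3_c1))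
theorem f659219 : Led Lsl_gf (LP (LK LD1_c3 LD2_c33 LD3_c1)) = v6883 :=
  Lrfl
def v18560 : LQ := Led Lsl_gt (LP (LK LD1_c6 LD2_c30 LD3_c43))
theorem f767445 : Led Lsl_gt (LP (LK LD1_c6 LD2_c30 LD3_c43)) = v18560 :=
  Lrfl
theorem f95833 : Led Lsl_bf (LP (LK LD1_c6 LD2_c30 LD3_c43)) = (LP (LK LD1_c6 LD2_c33 LD3_c61)) :=
  Lgr Lrot24 (Lpr_bt (K4.f95831 IH) (Lpn (LP (LK LD1_c6 LD2_c33 LD3_c61))))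
theorem f493643 : Led Lsl_bt (LP (LK LD1_c1 LD2_c54 LD3_c41)) = (LP (LK LD1_c3 LD2_c55 LD3_c61)) :=
  Lre_b IH (LK LD1_c1 LD2_c54 LD3_c41) (LK LD1_c3 LD2_c55 LD3_c61) Lrfl Lrfl
theorem f493644 : Led Lsl_dt (LP (LK LD1_c3 LD2_c55 LD3_c61)) = (LP (LK LD1_c7 LD2_c18 LD3_c43)) :=
  Lgr Lrot79 (Lpe (f493643 IH) (Lpr_df (K48.f493641 IH) (Lpe (K48.f455694 IH) (Lpn (LP (LK LD1_c7 LD2_c18 LD3_c43))))))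
theorem f656990 : Led Lsl_dt (LP (LK LD1_c7 LD2_c18 LD3_c21)) = (LP (LK LD1_c7 LD2_c10 LD3_c7)) :=
  Lgr Lrot42 (Lpr_df (K46.f656986 IH) (Lpn (LP (LK LD1_c7 LD2_c10 LD3_c7))))
theorem f657002 : Led Lsl_af (LP (LK LD1_c3 LD2_c55 LD3_c61)) = (LP (LK LD1_c7 LD2_c10 LD3_c7)) :=
  Lgr Lrot117 (Lpr_dt (f493644 IH) (Lpr_at (K48.f657000 IH) (Lpr_dt (f656990 IH) (Lpn (LP (LK LD1_c7 LD2_c10 LD3_c7))))))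
theorem f657006 : Led Lsl_at (LP (LK LD1_c3 LD2_c55 LD3_c61)) = (LP (LK LD1_c7 LD2_c10 LD3_c7)) :=
  Lgr Lrot100 (Lpr_af (f657002 IH) (Lpn (LP (LK LD1_c7 LD2_c10 LD3_c7))))
theorem f659461 : Led Lsl_ff (LP (LK LD1_c3 LD2_c55 LD3_c61)) = K48.v6922 :=
  Lgr Lrot52 (Lpr_at (f657006 IH) (Lpe (K46.f106688 IH) (Lpr_gf (K48.f659460 IH) (Lpn K48.v6922))))
theorem f659468 : Led Lsl_ct K48.v2708 = K48.v6922 :=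
  Lgr Lrot59 (Lpr_cf (K48.f659467 IH) (Lpn K48.v6922))
theorem f664425 : Led Lsl_ft K48.v7303 = K48.v2708 :=
  Lgr Lrot4 (Lpr_cf (K48.f664421 IH) (Lpr_ff (f659461 IH) (Lpe (f659468 IH) (Lpn K48.v2708))))
def v7304 : LQ := Led Lsl_gf (LP (LK LD1_c3 LD2_c44 LD3_c41))
theorem f664409 : Led Lsl_gf (LP (LK LD1_c3 LD2_c44 LD3_c41)) = v7304 :=
  Lrfl
theorem f664410 : Led Lsl_gt (LP (LK LD1_c3 LD2_c53 LD3_c24)) = v7304 :=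
  Lgr Lrot5 (Lpr_ft (K48.f514591 IH) (Lpr_at (K48.f531300 IH) (Lpr_gf (f664409 IH) (Lpn v7304))))
theorem f664429 : Led Lsl_af v7304 = K48.v2708 :=
  Lgr Lrot31 (Lpe (f664410 IH) (Lpe (K48.f664420 IH) (Lpr_ft (f664425 IH) (Lpn K48.v2708))))
theorem f664430 : Led Lsl_at v7304 = K48.v2708 :=
  Lgr Lrot100 (Lpr_af (f664429 IH) (Lpn K48.v2708))
theorem f664428 : Led Lsl_ff K48.v7303 = K48.v2708 :=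
  Lgr Lrot3 (Lpr_ft (f664425 IH) (Lpn K48.v2708))
theorem f664422 : Led Lsl_at K48.v7303 = (LP (LK LD1_c3 LD2_c53 LD3_c33)) :=
  Lgr Lrot107 (Lpr_cf (K48.f664421 IH) (Lpr_af (f657002 IH) (Lpe (K46.f657036 IH) (Lpn (LP (LK LD1_c3 LD2_c53 LD3_c33))))))
theorem f664431 : Led Lsl_ff v7304 = (LP (LK LD1_c3 LD2_c53 LD3_c33)) :=
  Lgr Lrot30 (Lpr_at (f664430 IH) (Lpe (f664428 IH) (Lpr_at (f664422 IH) (Lpn (LP (LK LD1_c3 LD2_c53 LD3_c33))))))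
theorem f664439 : Led Lsl_gt (LP (LK LD1_c3 LD2_c53 LD3_c33)) = K48.v7306 :=
  Lgr Lrot5 (Lpe (f664431 IH) (Lpr_at (f664430 IH) (Lpr_gf (K48.f664438 IH) (Lpn K48.v7306))))
theorem f657042 : Led Lsl_cf (LP (LK LD1_c3 LD2_c53 LD3_c33)) = (LP (LK LD1_c7 LD2_c10 LD3_c7)) :=
  Lgr Lrot11 (Lpr_ct (K46.f657036 IH) (Lpn (LP (LK LD1_c7 LD2_c10 LD3_c7))))
theorem f767448 : Led Lsl_bt (LP (LK LD1_c7 LD2_c10 LD3_c7)) = v18560 :=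
  Lgr Lrot92 (Lpe (f657042 IH) (Lpr_gt (f664439 IH) (Lpe (K48.f664437 IH) (Lpr_bt (K48.f527728 IH) (Lpe (K46.f527730 IH) (Lpr_ct (K48.f625845 IH) (Lpe (K48.f625849 IH) (Lpe (K48.f95766 IH) (Lpe (f95833 IH) (Lpr_gt (f767445 IH) (Lpn v18560)))))))))))
theorem f625841 : Led Lsl_bf K46.v876 = K47.v3480 :=
  Lgr Lrot24 (Lpr_bt (K47.f625840 IH) (Lpn K47.v3480))
def v6923 : LQ := Led Lsl_gf (LP (LK LD1_c3 LD2_c34 LD3_c34))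
theorem f659469 : Led Lsl_gf (LP (LK LD1_c3 LD2_c34 LD3_c34)) = v6923 :=
  Lrfl
theorem f659470 : Led Lsl_gt K47.v6890 = v6923 :=
  Lgr Lrot5 (Lpe (K47.f659270 IH) (Lpe (K47.f160114 IH) (Lpr_gf (f659469 IH) (Lpn v6923))))
theorem f160112 : Led Lsl_af (LP (LK LD1_c1 LD2_c44 LD3_c4)) = (LP (LK LD1_c1 LD2_c43 LD3_c21)) :=
  Lgr Lrot0 (Lpr_at (K29.f160102 IH) (Lpn (LP (LK LD1_c1 LD2_c43 LD3_c21))))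
theorem f514952 : Led Lsl_gf (LP (LK LD1_c3 LD2_c34 LD3_c35)) = K47.v2356 :=
  Lgr Lrot47 (Lpr_gt (K32.f107843 IH) (Lpr_af (f160112 IH) (Lpr_ff (K47.f514948 IH) (Lpn K47.v2356))))
theorem f511236 : Led Lsl_af (LP (LK LD1_c3 LD2_c34 LD3_c35)) = K29.v1083 :=
  Lgr Lrot0 (Lpr_at (K32.f510659 IH) (Lpn K29.v1083))
theorem f514953 : Led Lsl_gt (LP (LK LD1_c1 LD2_c54 LD3_c46)) = K47.v2356 :=
  Lgr Lrot5 (Lpe (K32.f510560 IH) (Lpe (f511236 IH) (Lpr_gf (f514952 IH) (Lpn K47.v2356))))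
theorem f659471 : Led Lsl_ct K47.v3480 = v6923 :=
  Lgr Lrot63 (Lpe (f625841 IH) (Lpe (K46.f490197 IH) (Lpe (K29.f11142 IH) (Lpr_ct (K29.f451399 IH) (Lpr_gt (K30.f490413 IH) (Lpe (K30.f490411 IH) (Lpr_bt (K30.f455195 IH) (Lpr_gt (f514953 IH) (Lpr_ct (K47.f659275 IH) (Lpr_gt (f659470 IH) (Lpn v6923)))))))))))
theorem f767451 : Led Lsl_gf K47.v6884 = v18560 :=
  Lgr Lrot124 (Lpe (K47.f659225 IH) (Lpr_ct (K47.f659275 IH) (Lpr_gt (f659470 IH) (Lpe (f659471 IH) (Lpe (f625841 IH) (Lpe (K46.f490197 IH) (Lpr_ct (K46.f451393 IH) (Lpr_gt (K46.f451394 IH) (Lpr_cf (f657042 IH) (Lpr_bt (f767448 IH) (Lpn v18560)))))))))))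
def v10868 : LQ := Led Lsl_at K47.v3519
theorem f682196 : Led Lsl_at K47.v3519 = v10868 :=
  Lrfl
theorem f682197 : Led Lsl_af K47.v3519 = v10868 :=
  Lgr Lrot0 (Lpr_at (f682196 IH) (Lpn v10868))
theorem f767452 : Led Lsl_ff v10868 = v18560 :=
  Lgr Lrot52 (Lpe (f682197 IH) (Lpr_gf (K47.f659228 IH) (Lpr_gf (f767451 IH) (Lpn v18560))))
theorem f767454 : Led Lsl_ft v10868 = v18560 :=
  Lgr Lrot48 (Lpr_ff (f767452 IH) (Lpn v18560))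
theorem f767449 : Led Lsl_af (LP (LK LD1_c7 LD2_c6 LD3_c61)) = v18560 :=
  Lgr Lrot36 (Lpe (K48.f662419 IH) (Lpq (K48.f656696 IH) (Lpe (K35.f532568 IH) (Lpr_bt (f493643 IH) (Lpr_at (f657006 IH) (Lpr_bt (f767448 IH) (Lpn v18560)))))))
theorem f767455 : v10868 = v6883 :=
  (Llr Lrot52 (Lpr_ft (f767454 IH) (Lpe (f767449 IH) (Lpe (K48.f84925 IH) (Lpr_gf (f659219 IH) (Lpn v6883)))))).symm
def v10391 : LQ := Led Lsl_bt K49.v3316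
theorem f680147 : Led Lsl_bt K49.v3316 = v10391 :=
  Lrfl
theorem f626077 : Led Lsl_bf K34.v906 = K47.v3519 :=
  Lgr Lrot24 (Lpr_bt (K47.f626076 IH) (Lpn K47.v3519))
theorem f680149 : Led Lsl_ef K47.v3519 = v10391 :=
  Lgr Lrot29 (Lpe (f626077 IH) (Lpr_et (K49.f626083 IH) (Lpqs (K49.f654541 IH) (Lpr_bt (f680147 IH) (Lpn v10391)))))
def v3500 : LQ := Led Lsl_ct K33.v893
def v10831 : LQ := Led Lsl_gt v3500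
theorem f681980 : Led Lsl_gt v3500 = v10831 :=
  Lrfl
def v3836 : LQ := Led Lsl_ct K49.v1064
theorem f627475 : Led Lsl_ct K49.v1064 = v3836 :=
  Lrfl
theorem f491222 : Led Lsl_ft K33.v893 = K49.v1064 :=
  Lgr Lrot48 (Lpr_ff (K49.f491220 IH) (Lpn K49.v1064))
theorem f625972 : Led Lsl_ct K33.v893 = v3500 :=
  Lrfl
theorem f625974 : Led Lsl_cf K33.v893 = v3500 :=
  Lgr Lrot11 (Lpr_ct (f625972 IH) (Lpn v3500))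
theorem f627477 : Led Lsl_ff v3500 = v3836 :=
  Lgr Lrot23 (Lpe (f625974 IH) (Lpr_ft (f491222 IH) (Lpr_ct (f627475 IH) (Lpn v3836))))
theorem f627478 : Led Lsl_ft v3500 = v3836 :=
  Lgr Lrot48 (Lpr_ff (f627477 IH) (Lpn v3836))
def v10767 : LQ := Led Lsl_ct K49.v3460
theorem f681670 : Led Lsl_ct K49.v3460 = v10767 :=
  Lrfl
def v3469 : LQ := Led Lsl_ct K48.v859
theorem f625781 : Led Lsl_ct K48.v859 = v3469 :=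
  Lrfl
theorem f625782 : Led Lsl_cf K48.v859 = v3469 :=
  Lgr Lrot11 (Lpr_ct (f625781 IH) (Lpn v3469))
theorem f681673 : Led Lsl_ff v3469 = v10767 :=
  Lgr Lrot23 (Lpe (f625782 IH) (Lpr_ft (K49.f625741 IH) (Lpr_ct (f681670 IH) (Lpn v10767))))
theorem f625975 : Led Lsl_at v3469 = v3500 :=
  Lgr Lrot107 (Lpe (f625781 IH) (Lpr_af (K49.f490288 IH) (Lpr_cf (f625974 IH) (Lpn v3500))))
theorem f681674 : Led Lsl_at v3836 = v10767 :=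
  Lgr Lrot66 (Lpe (f627478 IH) (Lpe (f625975 IH) (Lpr_ff (f681673 IH) (Lpn v10767))))
theorem f681981 : Led Lsl_gf v10767 = v10831 :=
  Lgr Lrot76 (Lpe (f681674 IH) (Lpe (f627478 IH) (Lpr_gt (f681980 IH) (Lpn v10831))))
theorem f681672 : Led Lsl_cf K49.v3460 = v10767 :=
  Lgr Lrot11 (Lpr_ct (f681670 IH) (Lpn v10767))
theorem f625738 : Led Lsl_df K48.v845 = K49.v3460 :=
  Lgr Lrot38 (Lpr_dt (K49.f625736 IH) (Lpn K49.v3460))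
theorem f459699 : Led Lsl_bt (LP (LK LD1_c1 LD2_c51 LD3_c50)) = (LP (LK LD1_c3 LD2_c49 LD3_c29)) :=
  Lre_b IH (LK LD1_c1 LD2_c51 LD3_c50) (LK LD1_c3 LD2_c49 LD3_c29) Lrfl Lrfl
theorem f530104 : Led Lsl_cf K48.v845 = K48.v2651 :=
  Lgr Lrot125 (Lpr_gt (K48.f459712 IH) (Lpe (K29.f89217 IH) (Lpr_bt (f459699 IH) (Lpr_gt (K35.f459714 IH) (Lpe (K48.f89801 IH) (Lpe (K35.f524910 IH) (Lpe (K63.f524367 IH) (Lpe (K5.f132237 IH) (Lpr_bt (K29.f91276 IH) (Lpr_gt (K48.f530102 IH) (Lpn K48.v2651)))))))))))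
theorem f467483 : Led Lsl_dt (LP (LK LD1_c1 LD2_c45 LD3_c33)) = (LP (LK LD1_c3 LD2_c37 LD3_c23)) :=
  Lre_d IH (LK LD1_c1 LD2_c45 LD3_c33) (LK LD1_c3 LD2_c37 LD3_c23) Lrfl Lrfl
def v7032 : LQ := Led Lsl_gt (LP (LK LD1_c3 LD2_c37 LD3_c23))
theorem f660461 : Led Lsl_gt (LP (LK LD1_c3 LD2_c37 LD3_c23)) = v7032 :=
  Lrfl
theorem f681982 : Led Lsl_ct v7032 = v10831 :=
  Lgr Lrot152 (Lpe (f660461 IH) (Lpe (f467483 IH) (Lpr_gt (K29.f467479 IH) (Lpr_ct (K5.f91260 IH) (Lpr_gt (K48.f530102 IH) (Lpe (f530104 IH) (Lpr_df (f625738 IH) (Lpr_cf (f681672 IH) (Lpr_gf (f681981 IH) (Lpn v10831))))))))))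
def v3499 : LQ := Led Lsl_gf K33.v893
theorem f625964 : Led Lsl_gf K33.v893 = v3499 :=
  Lrfl
def v2731 : LQ := Led Lsl_dt (LP (LK LD1_c1 LD2_c54 LD3_c15))
def v9499 : LQ := Led Lsl_gt v2731
theorem f676276 : Led Lsl_gt v2731 = v9499 :=
  Lrfl
theorem f531646 : Led Lsl_dt (LP (LK LD1_c1 LD2_c54 LD3_c15)) = v2731 :=
  Lrfl
theorem f676280 : Led Lsl_dt K62.v6815 = v9499 :=
  Lgr Lrot56 (Lpe (K62.f658634 IH) (Lpe (K28.f464553 IH) (Lpe (K4.f84737 IH) (Lpr_dt (K2.f84724 IH) (Lpr_gt (K2.f84720 IH) (Lpr_df (K3.f87136 IH) (Lpr_et (K3.f87145 IH) (Lpr_gt (K62.f479305 IH) (Lpr_dt (f531646 IH) (Lpr_gt (f676276 IH) (Lpn v9499)))))))))))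
theorem f658636 : Led Lsl_bt (LP (LK LD1_c3 LD2_c31 LD3_c3)) = K62.v6815 :=
  Lgr Lrot119 (Lpe (K34.f512320 IH) (Lpe (K24.f18850 IH) (Lpr_ef (K62.f658634 IH) (Lpn K62.v6815))))
theorem f492229 : Led Lsl_gt (LP (LK LD1_c3 LD2_c46 LD3_c17)) = (LP (LK LD1_c7 LD2_c3 LD3_c5)) :=
  Lgr Lrot137 (Lpe (K47.f466767 IH) (Lpr_dt (K29.f466864 IH) (Lpr_gf (K29.f466856 IH) (Lpr_df (K32.f474263 IH) (Lpr_et (K46.f492079 IH) (Lpe (K46.f491915 IH) (Lpe (K48.f473975 IH) (Lpr_dt (K33.f456218 IH) (Lpe (K48.f451198 IH) (Lpr_df (K48.f491919 IH) (Lpn (LP (LK LD1_c7 LD2_c3 LD3_c5)))))))))))))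
theorem f625967 : Led Lsl_dt (LP (LK LD1_c3 LD2_c31 LD3_c3)) = v3499 :=
  Lgr Lrot57 (Lpe (K34.f527213 IH) (Lpe (K29.f466766 IH) (Lpr_gt (f492229 IH) (Lpe (K48.f491919 IH) (Lpr_gt (K48.f451198 IH) (Lpr_dt (K33.f451197 IH) (Lpe (K29.f437666 IH) (Lpr_df (K33.f490290 IH) (Lpr_gf (f625964 IH) (Lpn v3499))))))))))
theorem f625969 : Led Lsl_df (LP (LK LD1_c3 LD2_c31 LD3_c3)) = v3499 :=
  Lgr Lrot38 (Lpr_dt (f625967 IH) (Lpn v3499))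
theorem f676282 : Led Lsl_bf v3499 = v9499 :=
  Lgr Lrot93 (Lpe (f625969 IH) (Lpr_bt (f658636 IH) (Lpr_dt (f676280 IH) (Lpn v9499))))
theorem f531649 : Led Lsl_df (LP (LK LD1_c1 LD2_c54 LD3_c15)) = v2731 :=
  Lgr Lrot38 (Lpr_dt (f531646 IH) (Lpn v2731))
def v7038 : LQ := Led Lsl_gf (LP (LK LD1_c3 LD2_c37 LD3_c28))
theorem f660491 : Led Lsl_gf (LP (LK LD1_c3 LD2_c37 LD3_c28)) = v7038 :=
  Lrfl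
theorem f676279 : Led Lsl_cf v7038 = v9499 :=
  Lgr Lrot169 (Lpe (f660491 IH) (Lpr_ct (K33.f477979 IH) (Lpe (K29.f10818 IH) (Lpe (K29.f6619 IH) (Lpe (K29.f477976 IH) (Lpr_cf (K29.f477949 IH) (Lpr_gf (K29.f480912 IH) (Lpr_df (f531649 IH) (Lpr_gt (f676276 IH) (Lpn v9499))))))))))
def v6912 : LQ := Led Lsl_et (LP (LK LD1_c3 LD2_c34 LD3_c19))
theorem f659395 : Led Lsl_et (LP (LK LD1_c3 LD2_c34 LD3_c19)) = v6912 :=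
  Lrfl
def v6911 : LQ := Led Lsl_at (LP (LK LD1_c3 LD2_c34 LD3_c19))
theorem f659385 : Led Lsl_at (LP (LK LD1_c3 LD2_c34 LD3_c19)) = v6911 :=
  Lrfl
theorem f659386 : Led Lsl_af (LP (LK LD1_c3 LD2_c34 LD3_c19)) = v6911 :=
  Lgr Lrot0 (Lpr_at (f659385 IH) (Lpn v6911))
theorem f450802 : Led Lsl_ct (LP (LK LD1_c1 LD2_c43 LD3_c50)) = (LP (LK LD1_c3 LD2_c34 LD3_c19)) :=
  Lre_c IH (LK LD1_c1 LD2_c43 LD3_c50) (LK LD1_c3 LD2_c34 LD3_c19) Lrfl Lrfl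
theorem f659387 : Led Lsl_cf K33.v2369 = v6911 :=
  Lgr Lrot1 (Lpe (K33.f519304 IH) (Lpr_ct (f450802 IH) (Lpr_at (f659385 IH) (Lpn v6911))))
theorem f659389 : Led Lsl_et (LP (LK LD1_c3 LD2_c37 LD3_c28)) = v6911 :=
  Lgr Lrot158 (Lpe (K29.f10837 IH) (Lpr_ef (K33.f514772 IH) (Lpq (K33.f522178 IH) (Lpr_cf (f659387 IH) (Lpn v6911)))))
theorem f659396 : Led Lsl_af (LP (LK LD1_c3 LD2_c37 LD3_c28)) = v6912 :=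
  Lgr Lrot50 (Lpr_et (f659389 IH) (Lpe (f659386 IH) (Lpr_et (f659395 IH) (Lpn v6912))))
theorem f659398 : Led Lsl_ef (LP (LK LD1_c3 LD2_c34 LD3_c19)) = v6912 :=
  Lgr Lrot88 (Lpr_et (f659395 IH) (Lpn v6912))
theorem f466635 : Led Lsl_ct (LP (LK LD1_c3 LD2_c34 LD3_c19)) = (LP (LK LD1_c1 LD2_c43 LD3_c50)) :=
  Lre_c IH (LK LD1_c3 LD2_c34 LD3_c19) (LK LD1_c1 LD2_c43 LD3_c50) Lrfl Lrfl
theorem f659400 : Led Lsl_ct K33.v2370 = v6912 :=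
  Lgr Lrot15 (Lpe (K33.f519310 IH) (Lpe (f466635 IH) (Lpr_ef (f659398 IH) (Lpn v6912))))
def v3306 : LQ := Led Lsl_ct K33.v705
theorem f625051 : Led Lsl_ct K33.v705 = v3306 :=
  Lrfl
theorem f625052 : Led Lsl_cf K33.v705 = v3306 :=
  Lgr Lrot11 (Lpr_ct (f625051 IH) (Lpn v3306))
theorem f659401 : Led Lsl_ff v3306 = v6912 :=
  Lgr Lrot23 (Lpe (f625052 IH) (Lpe (K33.f522174 IH) (Lpr_ct (f659400 IH) (Lpn v6912))))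
theorem f659402 : Led Lsl_ft v3306 = v6912 :=
  Lgr Lrot48 (Lpr_ff (f659401 IH) (Lpn v6912))
theorem f660492 : Led Lsl_gt v3306 = v7038 :=
  Lgr Lrot5 (Lpr_ft (f659402 IH) (Lpe (f659396 IH) (Lpr_gf (f660491 IH) (Lpn v7038))))
theorem f519768 : Led Lsl_df (LP (LK LD1_c1 LD2_c45 LD3_c31)) = K61.v2442 :=
  Lgr Lrot38 (Lpr_dt (K61.f519766 IH) (Lpn K61.v2442))
theorem f519769 : Led Lsl_bt K33.v705 = K61.v2442 :=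
  Lgr Lrot95 (Lpe (K33.f456861 IH) (Lpe (K29.f6646 IH) (Lpr_df (f519768 IH) (Lpn K61.v2442))))
theorem f681985 : Led Lsl_bt v7032 = K61.v9103 :=
  Lgr Lrot22 (Lpr_ct (f681982 IH) (Lpe (f681980 IH) (Lpe (f625972 IH) (Lpr_gf (f625964 IH) (Lpr_bf (f676282 IH) (Lpe (f676279 IH) (Lpe (f660492 IH) (Lpe (f625051 IH) (Lpr_bt (f519769 IH) (Lpr_gf (K61.f673594 IH) (Lpn K61.v9103)))))))))))
def v10399 : LQ := Led Lsl_bt K61.v3322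
theorem f680174 : Led Lsl_bt K61.v3322 = v10399 :=
  Lrfl
theorem f532574 : Led Lsl_af K34.v906 = K48.v2764 :=
  Lgr Lrot45 (Lpr_ft (K35.f532569 IH) (Lpe (K35.f532568 IH) (Lpr_ft (K48.f532573 IH) (Lpn K48.v2764))))
theorem f656697 : Led Lsl_af K61.v3322 = K49.v3521 :=
  Lgr Lrot50 (Lpe (K61.f626611 IH) (Lpq (K48.f656695 IH) (Lpe (f532574 IH) (Lpr_et (K49.f626083 IH) (Lpn K49.v3521)))))
theorem f654540 : Led Lsl_df K46.v3942 = K49.v3521 :=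
  Lgr Lrot70 (Lpr_et (K47.f654539 IH) (Lpe (K46.f654533 IH) (Lpe (K49.f532622 IH) (Lpr_dt (K47.f532601 IH) (Lpr_et (K49.f626083 IH) (Lpn K49.v3521))))))
theorem f654681 : Led Lsl_ft K35.v3323 = K49.v3521 :=
  Lgr Lrot54 (Lpe (K35.f625132 IH) (Lpr_ff (K46.f654680 IH) (Lpr_df (f654540 IH) (Lpn K49.v3521))))
theorem f625133 : Led Lsl_df (LP (LK LD1_c3 LD2_c31 LD3_c19)) = K35.v3323 :=
  Lgr Lrot38 (Lpr_dt (K35.f625132 IH) (Lpn K35.v3323))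
theorem f654685 : Led Lsl_af K35.v3323 = K46.v3315 :=
  Lgr Lrot117 (Lpe (f625133 IH) (Lpr_at (K46.f654683 IH) (Lpe (K46.f628167 IH) (Lpn K46.v3315))))
theorem f656699 : Led Lsl_ft K61.v3322 = K46.v3315 :=
  Lgr Lrot101 (Lpr_af (f656697 IH) (Lpqs (K49.f654541 IH) (Lpq (K49.f654541 IH) (Lpe (f654681 IH) (Lpr_af (f654685 IH) (Lpn K46.v3315))))))
theorem f656700 : Led Lsl_ff K61.v3322 = K46.v3315 :=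
  Lgr Lrot3 (Lpr_ft (f656699 IH) (Lpn K46.v3315))
def v7033 : LQ := Led Lsl_gf (LP (LK LD1_c3 LD2_c37 LD3_c23))
theorem f660462 : Led Lsl_gf (LP (LK LD1_c3 LD2_c37 LD3_c23)) = v7033 :=
  Lrfl
theorem f467502 : Led Lsl_et (LP (LK LD1_c1 LD2_c45 LD3_c33)) = (LP (LK LD1_c3 LD2_c37 LD3_c24)) :=
  Lre_e IH (LK LD1_c1 LD2_c45 LD3_c33) (LK LD1_c3 LD2_c37 LD3_c24) Lrfl Lrfl
theorem f477456 : Led Lsl_gf (LP (LK LD1_c3 LD2_c51 LD3_c58)) = (LP (LK LD1_c3 LD2_c37 LD3_c24)) :=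
  Lgr Lrot143 (Lpr_dt (K29.f459841 IH) (Lpe (K29.f458477 IH) (Lpe (K29.f459836 IH) (Lpe (K29.f459859 IH) (Lpe (K29.f476329 IH) (Lpe (K29.f477429 IH) (Lpr_cf (K29.f477433 IH) (Lpe (K29.f467473 IH) (Lpr_dt (K29.f467472 IH) (Lpn (LP (LK LD1_c3 LD2_c37 LD3_c24))))))))))))
def v7003 : LQ := Led Lsl_et (LP (LK LD1_c3 LD2_c35 LD3_c58))
theorem f660131 : Led Lsl_et (LP (LK LD1_c3 LD2_c35 LD3_c58)) = v7003 :=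
  Lrfl
theorem f660134 : Led Lsl_ef (LP (LK LD1_c3 LD2_c35 LD3_c58)) = v7003 :=
  Lgr Lrot88 (Lpr_et (f660131 IH) (Lpn v7003))
theorem f660463 : Led Lsl_dt v7003 = v7033 :=
  Lgr Lrot136 (Lpe (f660134 IH) (Lpr_gf (K24.f130705 IH) (Lpe (K28.f130719 IH) (Lpr_dt (K28.f464812 IH) (Lpe (K28.f458478 IH) (Lpe (K29.f459841 IH) (Lpr_gf (f477456 IH) (Lpe (f467502 IH) (Lpr_dt (f467483 IH) (Lpr_gf (f660462 IH) (Lpn v7033)))))))))))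
theorem f660135 : Led Lsl_bt K46.v3941 = v7003 :=
  Lgr Lrot119 (Lpe (K47.f628170 IH) (Lpe (K46.f460750 IH) (Lpr_ef (f660134 IH) (Lpn v7003))))
theorem f628168 : Led Lsl_dt K46.v3315 = K46.v3941 :=
  Lgr Lrot42 (Lpr_df (K46.f628167 IH) (Lpn K46.v3941))
theorem f660464 : Led Lsl_bf K46.v3315 = v7033 :=
  Lgr Lrot93 (Lpr_dt (f628168 IH) (Lpr_bt (f660135 IH) (Lpr_dt (f660463 IH) (Lpn v7033))))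
theorem f680177 : Led Lsl_ff v7033 = v10399 :=
  Lgr Lrot25 (Lpe (f660464 IH) (Lpe (f656700 IH) (Lpr_bt (f680174 IH) (Lpn v10399))))
theorem f680178 : Led Lsl_ft v7033 = v10399 :=
  Lgr Lrot48 (Lpr_ff (f680177 IH) (Lpn v10399))
theorem f680179 : Led Lsl_af v7032 = v10399 :=
  Lgr Lrot31 (Lpe (f660461 IH) (Lpr_gf (f660462 IH) (Lpr_ft (f680178 IH) (Lpn v10399))))
theorem f680148 : Led Lsl_bf K49.v3316 = v10391 :=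
  Lgr Lrot24 (Lpr_bt (f680147 IH) (Lpn v10391))
theorem f681986 : Led Lsl_af v10391 = K61.v9103 :=
  Lgr Lrot36 (Lpe (f680148 IH) (Lpq (K49.f654541 IH) (Lpe (f656697 IH) (Lpr_bt (f680174 IH) (Lpe (f680179 IH) (Lpr_bt (f681985 IH) (Lpn K61.v9103)))))))
theorem f682199 : Led Lsl_ef K61.v9103 = v10868 :=
  Lgr Lrot20 (Lpe (f681986 IH) (Lpe (f680149 IH) (Lpr_at (f682196 IH) (Lpn v10868))))
theorem f682200 : Led Lsl_et K61.v9103 = v10868 :=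
  Lgr Lrot87 (Lpr_ef (f682199 IH) (Lpn v10868))
theorem f786556 : Led Lsl_gf K48.v7096 = v20357 :=
  Lgr Lrot134 (Lpe (K61.f685560 IH) (Lpr_et (f682200 IH) (Lpqs (f767455 IH) (Lpe (f659219 IH) (Lpe (K3.f107572 IH) (Lpr_dt (K3.f86810 IH) (Lpe (K4.f105940 IH) (Lpe (K5.f91704 IH) (Lpr_et (f91605 IH) (Lpr_gt (K48.f91706 IH) (Lpr_dt (f786549 IH) (Lpn v20357))))))))))))
theorem f529680 : Led Lsl_ct (LP (LK LD1_c14 LD2_c51 LD3_c39)) = (LP (LK LD1_c7 LD2_c52 LD3_c40)) :=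
  Lre_c IH (LK LD1_c14 LD2_c51 LD3_c39) (LK LD1_c7 LD2_c52 LD3_c40) Lrfl Lrfl
theorem f816736 : Led Lsl_gf (LP (LK LD1_c14 LD2_c51 LD3_c39)) = v23370 :=
  Lgr Lrot104 (Lpr_ct (f529680 IH) (Lpe (K61.f529683 IH) (Lpr_cf (K48.f660956 IH) (Lpr_gf (f786556 IH) (Lpe (f786554 IH) (Lpe (f661831 IH) (Lpr_df (f790027 IH) (Lpe (f790031 IH) (Lpr_ct (f816732 IH) (Lpn v23370))))))))))
theorem f529677 : Led Lsl_ct (LP (LK LD1_c7 LD2_c52 LD3_c40)) = (LP (LK LD1_c14 LD2_c51 LD3_c39)) :=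
  Lre_c IH (LK LD1_c7 LD2_c52 LD3_c40) (LK LD1_c14 LD2_c51 LD3_c39) Lrfl Lrfl
theorem f529686 : Led Lsl_bt (LP (LK LD1_c7 LD2_c52 LD3_c40)) = (LP (LK LD1_c14 LD2_c51 LD3_c38)) :=
  Lre_b IH (LK LD1_c7 LD2_c52 LD3_c40) (LK LD1_c14 LD2_c51 LD3_c38) Lrfl Lrfl
theorem f816737 : Led Lsl_gf (LP (LK LD1_c14 LD2_c45 LD3_c60)) = (LP (LK LD1_c14 LD2_c51 LD3_c38)) :=
  Lgr Lrot124 (Lpe (f524486 IH) (Lpr_ct (f483562 IH) (Lpr_gt (f524484 IH) (Lpe (f489738 IH) (Lpr_bt (f790024 IH) (Lpe (f790031 IH) (Lpr_ct (f816732 IH) (Lpe (f816736 IH) (Lpe (f529677 IH) (Lpr_bt (f529686 IH) (Lpn (LP (LK LD1_c14 LD2_c51 LD3_c38)))))))))))))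
theorem f816738 : Led Lsl_gt (LP (LK LD1_c14 LD2_c51 LD3_c38)) = (LP (LK LD1_c14 LD2_c45 LD3_c60)) :=
  Leop (Lpr_gf (f816737 IH) (Lpn (LP (LK LD1_c14 LD2_c51 LD3_c38))))
theorem seed_1836 : LEOK LG_g (LK LD1_c14 LD2_c51 LD3_c38) :=
  Leoe_g (LK LD1_c14 LD2_c51 LD3_c38) (f816738 IH)
def v23380 : LQ := Led Lsl_dt (LP (LK LD1_c7 LD2_c51 LD3_c34))
theorem f816822 : Led Lsl_dt (LP (LK LD1_c7 LD2_c51 LD3_c34)) = v23380 :=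
  Lrfl
theorem f816828 : Led Lsl_gt (LP (LK LD1_c14 LD2_c8 LD3_c59)) = v23380 :=
  Lgr Lrot112 (Lpe (K34.f485506 IH) (Lpr_et (f485507 IH) (Lpr_gf (K47.f659934 IH) (Lpe (K32.f123961 IH) (Lpr_dt (K5.f123658 IH) (Lpe (K32.f160689 IH) (Lpr_df (K6.f129355 IH) (Lpe (K5.f129343 IH) (Lpe (K33.f123835 IH) (Lpr_dt (f816822 IH) (Lpn v23380)))))))))))
theorem f480902 : Led Lsl_dt (LP (LK LD1_c22 LD2_c21 LD3_c15)) = (LP (LK LD1_c30 LD2_c26 LD3_c60)) :=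
  Lre_d IH (LK LD1_c22 LD2_c21 LD3_c15) (LK LD1_c30 LD2_c26 LD3_c60) Lrfl Lrfl
theorem f816825 : Led Lsl_df (LP (LK LD1_c7 LD2_c51 LD3_c34)) = v23380 :=
  Lgr Lrot38 (Lpr_dt (f816822 IH) (Lpn v23380))
theorem f816830 : Led Lsl_gt (LP (LK LD1_c30 LD2_c26 LD3_c60)) = (LP (LK LD1_c31 LD2_c21 LD3_c27)) :=
  Lgr Lrot49 (Lpe (f480902 IH) (Lpr_gf (K34.f484652 IH) (Lpe (K34.f142308 IH) (Lpr_gt (f816828 IH) (Lpe (f816825 IH) (Lpr_gt (K34.f516390 IH) (Lpr_dt (K46.f515138 IH) (Lpe (K33.f515137 IH) (Lpe (K33.f515584 IH) (Lpn (LP (LK LD1_c31 LD2_c21 LD3_c27))))))))))))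
theorem f816831 : Led Lsl_gt (LP (LK LD1_c30 LD2_c26 LD3_c60)) = (LP (LK LD1_c31 LD2_c21 LD3_c27)) :=
  Leop (Lpe (f816830 IH) (Lpn (LP (LK LD1_c30 LD2_c26 LD3_c60))))
theorem seed_1837 : LEOK LG_g (LK LD1_c30 LD2_c26 LD3_c60) :=
  Leoe_g (LK LD1_c30 LD2_c26 LD3_c60) (f816831 IH)
def v22511 : LQ := Led Lsl_dt (LP (LK LD1_c7 LD2_c37 LD3_c58))
theorem f807416 : Led Lsl_dt (LP (LK LD1_c7 LD2_c37 LD3_c58)) = v22511 :=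
  Lrfl
theorem f757271 : Led Lsl_cf (LP (LK LD1_c14 LD2_c20 LD3_c26)) = (LP (LK LD1_c7 LD2_c51 LD3_c38)) :=
  Lgr Lrot1 (Lpr_at (K57.f471247 IH) (Lpr_ct (K29.f471245 IH) (Lpr_at (K57.f757267 IH) (Lpn (LP (LK LD1_c7 LD2_c51 LD3_c38))))))
theorem f534533 : Led Lsl_dt (LP (LK LD1_c23 LD2_c58 LD3_c15)) = (LP (LK LD1_c14 LD2_c20 LD3_c26)) :=
  Lre_d IH (LK LD1_c23 LD2_c58 LD3_c15) (LK LD1_c14 LD2_c20 LD3_c26) Lrfl Lrfl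
def v23383 : LQ := Led Lsl_dt (LP (LK LD1_c7 LD2_c51 LD3_c39))
theorem f816851 : Led Lsl_dt (LP (LK LD1_c7 LD2_c51 LD3_c39)) = v23383 :=
  Lrfl
theorem f533439 : Led Lsl_ct (LP (LK LD1_c13 LD2_c12 LD3_c27)) = (LP (LK LD1_c14 LD2_c28 LD3_c39)) :=
  Lgr Lrot59 (Lpr_cf (K34.f533435 IH) (Lpn (LP (LK LD1_c14 LD2_c28 LD3_c39))))
theorem f462271 : Led Lsl_gf (LP (LK LD1_c7 LD2_c21 LD3_c9)) = (LP (LK LD1_c7 LD2_c54 LD3_c41)) :=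
  Lgr Lrot76 (Lpe (K28.f425559 IH) (Lpr_ff (K28.f462263 IH) (Lpr_gt (K48.f451983 IH) (Lpn (LP (LK LD1_c7 LD2_c54 LD3_c41))))))
theorem f532095 : Led Lsl_at (LP (LK LD1_c13 LD2_c54 LD3_c7)) = (LP (LK LD1_c14 LD2_c3 LD3_c6)) :=
  Lgr Lrot51 (Lpe (K34.f148752 IH) (Lpr_af (K34.f532089 IH) (Lpe (K34.f437747 IH) (Lpn (LP (LK LD1_c14 LD2_c3 LD3_c6))))))
theorem f437760 : Led Lsl_gt (LP (LK LD1_c23 LD2_c36 LD3_c7)) = (LP (LK LD1_c14 LD2_c3 LD3_c6)) :=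
  Lre_g IH (LK LD1_c23 LD2_c36 LD3_c7) (LK LD1_c14 LD2_c3 LD3_c6) Lrfl Lrfl
theorem f532319 : Led Lsl_gt (LP (LK LD1_c14 LD2_c55 LD3_c22)) = (LP (LK LD1_c23 LD2_c36 LD3_c7)) :=
  Lgr Lrot5 (Lpr_ft (K48.f532312 IH) (Lpr_at (f532095 IH) (Lpe (f437760 IH) (Lpn (LP (LK LD1_c23 LD2_c36 LD3_c7))))))
theorem f471135 : Led Lsl_ct (LP (LK LD1_c23 LD2_c36 LD3_c7)) = (LP (LK LD1_c31 LD2_c7 LD3_c29)) :=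
  Lre_c IH (LK LD1_c23 LD2_c36 LD3_c7) (LK LD1_c31 LD2_c7 LD3_c29) Lrfl Lrfl
theorem f532329 : Led Lsl_af (LP (LK LD1_c14 LD2_c10 LD3_c8)) = (LP (LK LD1_c23 LD2_c23 LD3_c30)) :=
  Lgr Lrot0 (Lpr_at (K48.f532327 IH) (Lpn (LP (LK LD1_c23 LD2_c23 LD3_c30))))
theorem f532359 : Led Lsl_ft (LP (LK LD1_c23 LD2_c36 LD3_c7)) = (LP (LK LD1_c23 LD2_c23 LD3_c30)) :=
  Lgr Lrot2 (Lpr_gt (f437760 IH) (Lpe (K47.f517815 IH) (Lpr_af (f532329 IH) (Lpn (LP (LK LD1_c23 LD2_c23 LD3_c30))))))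
theorem f532365 : Led Lsl_ff (LP (LK LD1_c23 LD2_c36 LD3_c7)) = (LP (LK LD1_c23 LD2_c23 LD3_c30)) :=
  Lgr Lrot3 (Lpr_ft (f532359 IH) (Lpn (LP (LK LD1_c23 LD2_c23 LD3_c30))))
theorem f488742 : Led Lsl_ct (LP (LK LD1_c31 LD2_c1 LD3_c45)) = (LP (LK LD1_c23 LD2_c23 LD3_c30)) :=
  Lre_c IH (LK LD1_c31 LD2_c1 LD3_c45) (LK LD1_c23 LD2_c23 LD3_c30) Lrfl Lrfl
theorem f532369 : Led Lsl_ft (LP (LK LD1_c31 LD2_c7 LD3_c29)) = (LP (LK LD1_c31 LD2_c1 LD3_c45)) :=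
  Lgr Lrot4 (Lpe (f471135 IH) (Lpr_ff (f532365 IH) (Lpe (f488742 IH) (Lpn (LP (LK LD1_c31 LD2_c1 LD3_c45))))))
theorem f488463 : Led Lsl_ct (LP (LK LD1_c23 LD2_c45 LD3_c21)) = (LP (LK LD1_c14 LD2_c10 LD3_c8)) :=
  Lre_c IH (LK LD1_c23 LD2_c45 LD3_c21) (LK LD1_c14 LD2_c10 LD3_c8) Lrfl Lrfl
theorem f488743 : Led Lsl_ct (LP (LK LD1_c23 LD2_c23 LD3_c30)) = (LP (LK LD1_c31 LD2_c1 LD3_c45)) :=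
  Lre_c IH (LK LD1_c23 LD2_c23 LD3_c30) (LK LD1_c31 LD2_c1 LD3_c45) Lrfl Lrfl
theorem f532331 : Led Lsl_af (LP (LK LD1_c23 LD2_c45 LD3_c21)) = (LP (LK LD1_c31 LD2_c1 LD3_c45)) :=
  Lgr Lrot68 (Lpr_ct (f488463 IH) (Lpr_at (K48.f532327 IH) (Lpr_ct (f488743 IH) (Lpn (LP (LK LD1_c31 LD2_c1 LD3_c45))))))
theorem f488490 : Led Lsl_gt (LP (LK LD1_c31 LD2_c12 LD3_c26)) = (LP (LK LD1_c23 LD2_c45 LD3_c21)) :=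
  Lre_g IH (LK LD1_c31 LD2_c12 LD3_c26) (LK LD1_c23 LD2_c45 LD3_c21) Lrfl Lrfl
theorem f532371 : Led Lsl_gt (LP (LK LD1_c31 LD2_c7 LD3_c29)) = (LP (LK LD1_c31 LD2_c12 LD3_c26)) :=
  Lgr Lrot5 (Lpr_ft (f532369 IH) (Lpe (f532331 IH) (Lpe (f488490 IH) (Lpn (LP (LK LD1_c31 LD2_c12 LD3_c26))))))
theorem f533441 : Led Lsl_dt (LP (LK LD1_c24 LD2_c9 LD3_c46)) = (LP (LK LD1_c14 LD2_c28 LD3_c39)) :=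
  Lre_d IH (LK LD1_c24 LD2_c9 LD3_c46) (LK LD1_c14 LD2_c28 LD3_c39) Lrfl Lrfl
theorem f535111 : Led Lsl_ct (LP (LK LD1_c31 LD2_c12 LD3_c26)) = (LP (LK LD1_c24 LD2_c9 LD3_c46)) :=
  Lgr Lrot110 (Lpe (f532371 IH) (Lpe (f471135 IH) (Lpe (f532319 IH) (Lpe (K48.f462265 IH) (Lpe (f462271 IH) (Lpr_ct (K8.f160386 IH) (Lpe (K47.f476680 IH) (Lpr_ct (f533439 IH) (Lpe (f533441 IH) (Lpn (LP (LK LD1_c24 LD2_c9 LD3_c46))))))))))))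
theorem f535113 : Led Lsl_cf (LP (LK LD1_c31 LD2_c12 LD3_c26)) = (LP (LK LD1_c24 LD2_c9 LD3_c46)) :=
  Lgr Lrot11 (Lpr_ct (f535111 IH) (Lpn (LP (LK LD1_c24 LD2_c9 LD3_c46))))
theorem f483850 : Led Lsl_ct (LP (LK LD1_c14 LD2_c10 LD3_c8)) = (LP (LK LD1_c23 LD2_c45 LD3_c21)) :=
  Lre_c IH (LK LD1_c14 LD2_c10 LD3_c8) (LK LD1_c23 LD2_c45 LD3_c21) Lrfl Lrfl
theorem f462386 : Led Lsl_ct (LP (LK LD1_c7 LD2_c25 LD3_c30)) = (LP (LK LD1_c14 LD2_c2 LD3_c30)) :=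
  Lre_c IH (LK LD1_c7 LD2_c25 LD3_c30) (LK LD1_c14 LD2_c2 LD3_c30) Lrfl Lrfl
theorem f160506 : Led Lsl_dt (LP (LK LD1_c7 LD2_c49 LD3_c55)) = (LP (LK LD1_c14 LD2_c46 LD3_c21)) :=
  Lre_d IH (LK LD1_c7 LD2_c49 LD3_c55) (LK LD1_c14 LD2_c46 LD3_c21) Lrfl Lrfl
theorem f533449 : Led Lsl_bt (LP (LK LD1_c14 LD2_c46 LD3_c21)) = (LP (LK LD1_c24 LD2_c9 LD3_c46)) :=
  Lgr Lrot95 (Lpe (f160506 IH) (Lpr_bf (K34.f533445 IH) (Lpe (f533441 IH) (Lpn (LP (LK LD1_c24 LD2_c9 LD3_c46))))))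
theorem f535099 : Led Lsl_bf (LP (LK LD1_c14 LD2_c46 LD3_c21)) = (LP (LK LD1_c24 LD2_c9 LD3_c46)) :=
  Lgr Lrot24 (Lpr_bt (f533449 IH) (Lpn (LP (LK LD1_c24 LD2_c9 LD3_c46))))
theorem f535115 : Led Lsl_gt (LP (LK LD1_c7 LD2_c54 LD3_c17)) = (LP (LK LD1_c14 LD2_c46 LD3_c21)) :=
  Lgr Lrot164 (Lpe (K47.f464654 IH) (Lpr_ct (K33.f451882 IH) (Lpe (K42.f470089 IH) (Lpe (f462386 IH) (Lpr_gf (K33.f493137 IH) (Lpe (K42.f483849 IH) (Lpr_ct (f483850 IH) (Lpe (f488490 IH) (Lpr_cf (f535113 IH) (Lpe (f535099 IH) (Lpn (LP (LK LD1_c14 LD2_c46 LD3_c21)))))))))))))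
theorem f521140 : Led Lsl_ff (LP (LK LD1_c7 LD2_c55 LD3_c0)) = (LP (LK LD1_c7 LD2_c54 LD3_c17)) :=
  Lgr Lrot25 (Lpr_bt (K48.f451990 IH) (Lpr_ft (K47.f521136 IH) (Lpr_bt (K47.f464654 IH) (Lpn (LP (LK LD1_c7 LD2_c54 LD3_c17))))))
theorem f535117 : Led Lsl_gf (LP (LK LD1_c14 LD2_c56 LD3_c6)) = (LP (LK LD1_c14 LD2_c46 LD3_c21)) :=
  Lgr Lrot76 (Lpe (K47.f489863 IH) (Lpr_ff (f521140 IH) (Lpr_gt (f535115 IH) (Lpn (LP (LK LD1_c14 LD2_c46 LD3_c21))))))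
theorem f521283 : Led Lsl_bf (LP (LK LD1_c14 LD2_c56 LD3_c6)) = (LP (LK LD1_c14 LD2_c54 LD3_c36)) :=
  Lgr Lrot24 (Lpr_bt (K62.f521281 IH) (Lpn (LP (LK LD1_c14 LD2_c54 LD3_c36))))
theorem f480580 : Led Lsl_ct (LP (LK LD1_c14 LD2_c54 LD3_c36)) = (LP (LK LD1_c24 LD2_c41 LD3_c42)) :=
  Lre_c IH (LK LD1_c14 LD2_c54 LD3_c36) (LK LD1_c24 LD2_c41 LD3_c42) Lrfl Lrfl
theorem f480364 : Led Lsl_ct (LP (LK LD1_c24 LD2_c43 LD3_c26)) = (LP (LK LD1_c14 LD2_c55 LD3_c60)) :=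
  Lre_c IH (LK LD1_c24 LD2_c43 LD3_c26) (LK LD1_c14 LD2_c55 LD3_c60) Lrfl Lrfl
theorem f521269 : Led Lsl_ff (LP (LK LD1_c24 LD2_c43 LD3_c26)) = (LP (LK LD1_c24 LD2_c41 LD3_c42)) :=
  Lgr Lrot23 (Lpr_ct (f480364 IH) (Lpr_ft (K47.f521267 IH) (Lpr_ct (f480580 IH) (Lpn (LP (LK LD1_c24 LD2_c41 LD3_c42))))))
theorem f480361 : Led Lsl_at (LP (LK LD1_c24 LD2_c43 LD3_c26)) = (LP (LK LD1_c14 LD2_c55 LD3_c61)) :=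
  Lre_a IH (LK LD1_c24 LD2_c43 LD3_c26) (LK LD1_c14 LD2_c55 LD3_c61) Lrfl Lrfl
theorem f451819 : Led Lsl_gt (LP (LK LD1_c24 LD2_c43 LD3_c28)) = (LP (LK LD1_c14 LD2_c55 LD3_c61)) :=
  Lre_g IH (LK LD1_c24 LD2_c43 LD3_c28) (LK LD1_c14 LD2_c55 LD3_c61) Lrfl Lrfl
theorem f521327 : Led Lsl_gf (LP (LK LD1_c24 LD2_c43 LD3_c28)) = (LP (LK LD1_c24 LD2_c41 LD3_c42)) :=
  Lgr Lrot47 (Lpr_gt (f451819 IH) (Lpe (f480361 IH) (Lpr_ff (f521269 IH) (Lpn (LP (LK LD1_c24 LD2_c41 LD3_c42))))))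
theorem f535119 : Led Lsl_cf (LP (LK LD1_c24 LD2_c43 LD3_c28)) = (LP (LK LD1_c23 LD2_c36 LD3_c12)) :=
  Lgr Lrot58 (Lpr_gf (f521327 IH) (Lpe (f480580 IH) (Lpe (f521283 IH) (Lpr_gf (f535117 IH) (Lpr_bf (f535099 IH) (Lpe (f535113 IH) (Lpe (f532371 IH) (Lpe (f471135 IH) (Lpe (f532319 IH) (Lpr_bf (K48.f532316 IH) (Lpn (LP (LK LD1_c23 LD2_c36 LD3_c12)))))))))))))
theorem f535127 : Led Lsl_ft (LP (LK LD1_c24 LD2_c43 LD3_c28)) = (LP (LK LD1_c24 LD2_c41 LD3_c43)) :=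
  Lgr Lrot4 (Lpr_cf (f535119 IH) (Lpe (K48.f532267 IH) (Lpe (K57.f534698 IH) (Lpn (LP (LK LD1_c24 LD2_c41 LD3_c43))))))
theorem f521331 : Led Lsl_et (LP (LK LD1_c31 LD2_c37 LD3_c26)) = (LP (LK LD1_c24 LD2_c41 LD3_c43)) :=
  Lre_e IH (LK LD1_c31 LD2_c37 LD3_c26) (LK LD1_c24 LD2_c41 LD3_c43) Lrfl Lrfl
theorem f122591 : Led Lsl_et (LP (LK LD1_c23 LD2_c23 LD3_c20)) = (LP (LK LD1_c31 LD2_c1 LD3_c41)) :=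
  Lre_e IH (LK LD1_c23 LD2_c23 LD3_c20) (LK LD1_c31 LD2_c1 LD3_c41) Lrfl Lrfl
theorem f534704 : Led Lsl_cf (LP (LK LD1_c31 LD2_c37 LD3_c26)) = (LP (LK LD1_c31 LD2_c1 LD3_c41)) :=
  Lgr Lrot39 (Lpr_et (f521331 IH) (Lpr_ct (K57.f534698 IH) (Lpr_et (f122591 IH) (Lpn (LP (LK LD1_c31 LD2_c1 LD3_c41))))))
theorem f534713 : Led Lsl_ct (LP (LK LD1_c31 LD2_c37 LD3_c26)) = (LP (LK LD1_c31 LD2_c1 LD3_c41)) :=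
  Lgr Lrot59 (Lpr_cf (f534704 IH) (Lpn (LP (LK LD1_c31 LD2_c1 LD3_c41))))
theorem f122601 : Led Lsl_at (LP (LK LD1_c31 LD2_c1 LD3_c41)) = (LP (LK LD1_c23 LD2_c23 LD3_c25)) :=
  Lre_a IH (LK LD1_c31 LD2_c1 LD3_c41) (LK LD1_c23 LD2_c23 LD3_c25) Lrfl Lrfl
theorem f122561 : Led Lsl_ct (LP (LK LD1_c23 LD2_c23 LD3_c25)) = (LP (LK LD1_c31 LD2_c1 LD3_c42)) :=
  Lre_c IH (LK LD1_c23 LD2_c23 LD3_c25) (LK LD1_c31 LD2_c1 LD3_c42) Lrfl Lrfl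
theorem f534715 : Led Lsl_af (LP (LK LD1_c31 LD2_c37 LD3_c26)) = (LP (LK LD1_c31 LD2_c1 LD3_c42)) :=
  Lgr Lrot68 (Lpr_ct (f534713 IH) (Lpr_at (f122601 IH) (Lpr_ct (f122561 IH) (Lpn (LP (LK LD1_c31 LD2_c1 LD3_c42))))))
theorem f532290 : Led Lsl_et (LP (LK LD1_c23 LD2_c23 LD3_c24)) = (LP (LK LD1_c31 LD2_c1 LD3_c42)) :=
  Lre_e IH (LK LD1_c23 LD2_c23 LD3_c24) (LK LD1_c31 LD2_c1 LD3_c42) Lrfl Lrfl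
theorem f534717 : Led Lsl_at (LP (LK LD1_c24 LD2_c41 LD3_c43)) = (LP (LK LD1_c23 LD2_c23 LD3_c24)) :=
  Lgr Lrot80 (Lpe (f521331 IH) (Lpr_af (f534715 IH) (Lpe (f532290 IH) (Lpn (LP (LK LD1_c23 LD2_c23 LD3_c24))))))
theorem f535133 : Led Lsl_gt (LP (LK LD1_c14 LD2_c55 LD3_c61)) = (LP (LK LD1_c23 LD2_c23 LD3_c24)) :=
  Lgr Lrot46 (Lpe (f451819 IH) (Lpr_ft (f535127 IH) (Lpr_at (f534717 IH) (Lpn (LP (LK LD1_c23 LD2_c23 LD3_c24))))))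
theorem f451818 : Led Lsl_ct (LP (LK LD1_c7 LD2_c54 LD3_c59)) = (LP (LK LD1_c14 LD2_c55 LD3_c61)) :=
  Lre_c IH (LK LD1_c7 LD2_c54 LD3_c59) (LK LD1_c14 LD2_c55 LD3_c61) Lrfl Lrfl
theorem f816855 : Led Lsl_gf (LP (LK LD1_c7 LD2_c54 LD3_c59)) = v23383 :=
  Lgr Lrot179 (Lpr_ct (f451818 IH) (Lpr_gt (f535133 IH) (Lpr_ct (K57.f471764 IH) (Lpr_dt (K34.f122564 IH) (Lpr_cf (K35.f471759 IH) (Lpe (K28.f88239 IH) (Lpe (K28.f128077 IH) (Lpe (K28.f121118 IH) (Lpr_dt (f816851 IH) (Lpn v23383))))))))))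
theorem f480286 : Led Lsl_bt (LP (LK LD1_c3 LD2_c56 LD3_c37)) = (LP (LK LD1_c7 LD2_c54 LD3_c59)) :=
  Lre_b IH (LK LD1_c3 LD2_c56 LD3_c37) (LK LD1_c7 LD2_c54 LD3_c59) Lrfl Lrfl
theorem f480287 : Led Lsl_dt (LP (LK LD1_c7 LD2_c54 LD3_c59)) = (LP (LK LD1_c13 LD2_c25 LD3_c12)) :=
  Lgr Lrot79 (Lpe (f480286 IH) (Lpr_df (K34.f480284 IH) (Lpe (K34.f459198 IH) (Lpn (LP (LK LD1_c13 LD2_c25 LD3_c12))))))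
def v23108 : LQ := Led Lsl_gf (LP (LK LD1_c7 LD2_c47 LD3_c30))
theorem f814844 : Led Lsl_gf (LP (LK LD1_c7 LD2_c47 LD3_c30)) = v23108 :=
  Lrfl
theorem f816858 : v23108 = v22511 :=
  (Llr Lrot143 (Lpe (f814844 IH) (Lpr_dt (K34.f477794 IH) (Lpe (K34.f521421 IH) (Lpe (f480287 IH) (Lpr_gf (f816855 IH) (Lpe (f816851 IH) (Lpe (K28.f463167 IH) (Lpr_cf (K28.f463165 IH) (Lpe (K35.f461109 IH) (Lpr_dt (f807416 IH) (Lpn v22511)))))))))))).symm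
theorem f464020 : Led Lsl_ct (LP (LK LD1_c7 LD2_c47 LD3_c30)) = (LP (LK LD1_c14 LD2_c42 LD3_c10)) :=
  Lre_c IH (LK LD1_c7 LD2_c47 LD3_c30) (LK LD1_c14 LD2_c42 LD3_c10) Lrfl Lrfl
theorem f464021 : Led Lsl_gt (LP (LK LD1_c14 LD2_c42 LD3_c10)) = (LP (LK LD1_c24 LD2_c27 LD3_c15)) :=
  Lre_g IH (LK LD1_c14 LD2_c42 LD3_c10) (LK LD1_c24 LD2_c27 LD3_c15) Lrfl Lrfl
theorem f816859 : Led Lsl_cf (LP (LK LD1_c23 LD2_c58 LD3_c15)) = (LP (LK LD1_c24 LD2_c27 LD3_c15)) :=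
  Lgr Lrot175 (Lpr_dt (f534533 IH) (Lpr_cf (f757271 IH) (Lpe (K41.f121120 IH) (Lpr_cf (K28.f129548 IH) (Lpe (K35.f88243 IH) (Lpr_dt (f807416 IH) (Lpq (f816858 IH) (Lpe (f814844 IH) (Lpr_ct (f464020 IH) (Lpr_gt (f464021 IH) (Lpn (LP (LK LD1_c24 LD2_c27 LD3_c15)))))))))))))
theorem f816860 : Led Lsl_ct (LP (LK LD1_c24 LD2_c27 LD3_c15)) = (LP (LK LD1_c23 LD2_c58 LD3_c15)) :=
  Leop (Lpr_cf (f816859 IH) (Lpn (LP (LK LD1_c24 LD2_c27 LD3_c15))))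
theorem seed_1838 : LEOK LG_c (LK LD1_c24 LD2_c27 LD3_c15) :=
  Leoe_c (LK LD1_c24 LD2_c27 LD3_c15) (f816860 IH)
def v23387 : LQ := Led Lsl_et (LP (LK LD1_c7 LD2_c51 LD3_c48))
theorem f816891 : Led Lsl_et (LP (LK LD1_c7 LD2_c51 LD3_c48)) = v23387 :=
  Lrfl
theorem f816894 : Led Lsl_ef (LP (LK LD1_c7 LD2_c51 LD3_c48)) = v23387 :=
  Lgr Lrot88 (Lpr_et (f816891 IH) (Lpn v23387))
theorem f465008 : Led Lsl_ef (LP (LK LD1_c14 LD2_c49 LD3_c47)) = (LP (LK LD1_c7 LD2_c54 LD3_c52)) :=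
  Lgr Lrot20 (Lpr_at (K8.f11717 IH) (Lpr_et (K28.f465005 IH) (Lpr_at (K35.f465007 IH) (Lpn (LP (LK LD1_c7 LD2_c54 LD3_c52))))))
theorem f489889 : Led Lsl_dt (LP (LK LD1_c3 LD2_c44 LD3_c19)) = (LP (LK LD1_c7 LD2_c29 LD3_c40)) :=
  Lre_d IH (LK LD1_c3 LD2_c44 LD3_c19) (LK LD1_c7 LD2_c29 LD3_c40) Lrfl Lrfl
theorem f489890 : Led Lsl_gt (LP (LK LD1_c14 LD2_c9 LD3_c8)) = (LP (LK LD1_c7 LD2_c29 LD3_c40)) :=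
  Lre_g IH (LK LD1_c14 LD2_c9 LD3_c8) (LK LD1_c7 LD2_c29 LD3_c40) Lrfl Lrfl
theorem f816897 : Led Lsl_df (LP (LK LD1_c14 LD2_c9 LD3_c8)) = v23387 :=
  Lgr Lrot170 (Lpr_gt (f489890 IH) (Lpe (f489889 IH) (Lpr_et (K47.f489854 IH) (Lpr_gt (K47.f489791 IH) (Lpr_dt (K47.f610947 IH) (Lpr_gt (K47.f489527 IH) (Lpe (K47.f465043 IH) (Lpe (f465008 IH) (Lpr_gt (K29.f11800 IH) (Lpr_ef (f816894 IH) (Lpn v23387)))))))))))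
theorem f472616 : Led Lsl_ct (LP (LK LD1_c14 LD2_c47 LD3_c33)) = (LP (LK LD1_c24 LD2_c34 LD3_c0)) :=
  Lre_c IH (LK LD1_c14 LD2_c47 LD3_c33) (LK LD1_c24 LD2_c34 LD3_c0) Lrfl Lrfl
theorem f523297 : Led Lsl_ct (LP (LK LD1_c22 LD2_c21 LD3_c35)) = (LP (LK LD1_c22 LD2_c45 LD3_c10)) :=
  Lgr Lrot176 (Lpe (K63.f484765 IH) (Lpe (K34.f484983 IH) (Lpe (K34.f523292 IH) (Lpr_cf (K34.f523293 IH) (Lpe (K34.f484655 IH) (Lpe (K34.f142308 IH) (Lpe (K34.f485506 IH) (Lpr_cf (K34.f523076 IH) (Lpe (K34.f92771 IH) (Lpe (K34.f92873 IH) (Lpe (K34.f92869 IH) (Lpe (K34.f92926 IH) (Lpe (K48.f521452 IH) (Lpe (f472616 IH) (Lpe (K57.f472611 IH) (Lpn (LP (LK LD1_c22 LD2_c45 LD3_c10))))))))))))))))))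
theorem f523368 : Led Lsl_cf (LP (LK LD1_c22 LD2_c21 LD3_c35)) = (LP (LK LD1_c22 LD2_c45 LD3_c10)) :=
  Lgr Lrot39 (Lpr_et (K47.f523364 IH) (Lpe (K57.f521423 IH) (Lpe (K57.f472586 IH) (Lpn (LP (LK LD1_c22 LD2_c45 LD3_c10))))))
theorem f523370 : Led Lsl_ft (LP (LK LD1_c14 LD2_c8 LD3_c52)) = (LP (LK LD1_c22 LD2_c45 LD3_c10)) :=
  Lgr Lrot4 (Lpr_cf (K48.f523074 IH) (Lpe (K63.f523324 IH) (Lpr_cf (f523368 IH) (Lpn (LP (LK LD1_c22 LD2_c45 LD3_c10))))))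
theorem f523372 : Led Lsl_ff (LP (LK LD1_c14 LD2_c8 LD3_c52)) = (LP (LK LD1_c22 LD2_c45 LD3_c10)) :=
  Lgr Lrot3 (Lpr_ft (f523370 IH) (Lpn (LP (LK LD1_c22 LD2_c45 LD3_c10))))
theorem f523085 : Led Lsl_gt (LP (LK LD1_c14 LD2_c8 LD3_c58)) = (LP (LK LD1_c7 LD2_c29 LD3_c34)) :=
  Lre_g IH (LK LD1_c14 LD2_c8 LD3_c58) (LK LD1_c7 LD2_c29 LD3_c34) Lrfl Lrfl
theorem f523376 : Led Lsl_gf (LP (LK LD1_c14 LD2_c8 LD3_c58)) = (LP (LK LD1_c22 LD2_c45 LD3_c10)) :=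
  Lgr Lrot47 (Lpr_gt (f523085 IH) (Lpe (K48.f523073 IH) (Lpr_ff (f523372 IH) (Lpn (LP (LK LD1_c22 LD2_c45 LD3_c10))))))
theorem f89171 : Led Lsl_dt (LP (LK LD1_c14 LD2_c17 LD3_c58)) = (LP (LK LD1_c7 LD2_c34 LD3_c61)) :=
  Lre_d IH (LK LD1_c14 LD2_c17 LD3_c58) (LK LD1_c7 LD2_c34 LD3_c61) Lrfl Lrfl
theorem f486146 : Led Lsl_gt (LP (LK LD1_c14 LD2_c47 LD3_c4)) = (LP (LK LD1_c7 LD2_c50 LD3_c16)) :=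
  Lre_g IH (LK LD1_c14 LD2_c47 LD3_c4) (LK LD1_c7 LD2_c50 LD3_c16) Lrfl Lrfl
theorem f654799 : Led Lsl_dt (LP (LK LD1_c14 LD2_c8 LD3_c58)) = (LP (LK LD1_c14 LD2_c47 LD3_c4)) :=
  Lgr Lrot57 (Lpr_gf (f523376 IH) (Lpe (f523297 IH) (Lpr_gt (K63.f523404 IH) (Lpr_dt (K63.f523406 IH) (Lpr_gt (K63.f654793 IH) (Lpr_dt (f89171 IH) (Lpr_cf (K33.f486137 IH) (Lpe (K33.f148223 IH) (Lpe (f486146 IH) (Lpn (LP (LK LD1_c14 LD2_c47 LD3_c4))))))))))))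
theorem f148226 : Led Lsl_gt (LP (LK LD1_c7 LD2_c50 LD3_c17)) = (LP (LK LD1_c14 LD2_c47 LD3_c6)) :=
  Lre_g IH (LK LD1_c7 LD2_c50 LD3_c17) (LK LD1_c14 LD2_c47 LD3_c6) Lrfl Lrfl
theorem f654806 : Led Lsl_et (LP (LK LD1_c7 LD2_c54 LD3_c4)) = (LP (LK LD1_c14 LD2_c47 LD3_c6)) :=
  Lgr Lrot122 (Lpr_dt (K57.f463124 IH) (Lpe (K57.f534687 IH) (Lpr_df (K47.f480365 IH) (Lpe (K57.f472586 IH) (Lpe (f523376 IH) (Lpr_dt (f654799 IH) (Lpr_gt (f486146 IH) (Lpe (K62.f148231 IH) (Lpr_et (f148222 IH) (Lpr_gt (f148226 IH) (Lpn (LP (LK LD1_c14 LD2_c47 LD3_c6)))))))))))))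
theorem f816895 : Led Lsl_bt (LP (LK LD1_c14 LD2_c47 LD3_c6)) = v23387 :=
  Lgr Lrot119 (Lpe (f654806 IH) (Lpr_bf (K57.f465521 IH) (Lpr_ef (f816894 IH) (Lpn v23387))))
theorem f654808 : Led Lsl_ef (LP (LK LD1_c7 LD2_c54 LD3_c4)) = (LP (LK LD1_c14 LD2_c47 LD3_c6)) :=
  Lgr Lrot88 (Lpr_et (f654806 IH) (Lpn (LP (LK LD1_c14 LD2_c47 LD3_c6))))
theorem f129330 : Led Lsl_ft (LP (LK LD1_c7 LD2_c29 LD3_c2)) = (LP (LK LD1_c7 LD2_c23 LD3_c19)) :=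
  Lgr Lrot101 (Lpe (K8.f121146 IH) (Lpr_ff (K5.f129326 IH) (Lpe (K6.f129329 IH) (Lpn (LP (LK LD1_c7 LD2_c23 LD3_c19))))))
theorem f144696 : Led Lsl_gt (LP (LK LD1_c7 LD2_c29 LD3_c2)) = (LP (LK LD1_c7 LD2_c22 LD3_c44)) :=
  Lgr Lrot5 (Lpr_ft (f129330 IH) (Lpr_at (K6.f129329 IH) (Lpr_gf (K7.f144691 IH) (Lpn (LP (LK LD1_c7 LD2_c22 LD3_c44))))))
theorem f144701 : Led Lsl_et (LP (LK LD1_c3 LD2_c41 LD3_c11)) = (LP (LK LD1_c7 LD2_c22 LD3_c45)) :=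
  Lre_e IH (LK LD1_c3 LD2_c41 LD3_c11) (LK LD1_c7 LD2_c22 LD3_c45) Lrfl Lrfl
theorem f517834 : Led Lsl_dt (LP (LK LD1_c3 LD2_c41 LD3_c35)) = (LP (LK LD1_c7 LD2_c23 LD3_c51)) :=
  Lre_d IH (LK LD1_c3 LD2_c41 LD3_c35) (LK LD1_c7 LD2_c23 LD3_c51) Lrfl Lrfl
theorem f517677 : Led Lsl_gt (LP (LK LD1_c7 LD2_c23 LD3_c51)) = (LP (LK LD1_c13 LD2_c59 LD3_c24)) :=
  Lre_g IH (LK LD1_c7 LD2_c23 LD3_c51) (LK LD1_c13 LD2_c59 LD3_c24) Lrfl Lrfl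
theorem f654810 : Led Lsl_df (LP (LK LD1_c13 LD2_c59 LD3_c24)) = (LP (LK LD1_c14 LD2_c47 LD3_c6)) :=
  Lgr Lrot132 (Lpe (f517677 IH) (Lpe (f517834 IH) (Lpr_gf (K47.f517828 IH) (Lpe (f144701 IH) (Lpr_dt (K7.f116528 IH) (Lpe (f144696 IH) (Lpr_df (K6.f121125 IH) (Lpr_et (K28.f121145 IH) (Lpe (K57.f463206 IH) (Lpr_ef (f654808 IH) (Lpn (LP (LK LD1_c14 LD2_c47 LD3_c6)))))))))))))
theorem f654813 : Led Lsl_dt (LP (LK LD1_c13 LD2_c59 LD3_c24)) = (LP (LK LD1_c14 LD2_c47 LD3_c6)) :=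
  Lgr Lrot42 (Lpr_df (f654810 IH) (Lpn (LP (LK LD1_c14 LD2_c47 LD3_c6))))
theorem f816898 : Led Lsl_bt (LP (LK LD1_c14 LD2_c9 LD3_c8)) = (LP (LK LD1_c13 LD2_c59 LD3_c24)) :=
  Lgr Lrot95 (Lpr_df (f816897 IH) (Lpe (f816895 IH) (Lpe (f654813 IH) (Lpn (LP (LK LD1_c13 LD2_c59 LD3_c24))))))
theorem f816899 : Led Lsl_bt (LP (LK LD1_c14 LD2_c9 LD3_c8)) = (LP (LK LD1_c13 LD2_c59 LD3_c24)) :=
  Leop (Lpe (f816898 IH) (Lpn (LP (LK LD1_c14 LD2_c9 LD3_c8))))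
theorem seed_1839 : LEOK LG_b (LK LD1_c14 LD2_c9 LD3_c8) :=
  Leoe_b (LK LD1_c14 LD2_c9 LD3_c8) (f816899 IH)
def v23403 : LQ := Led Lsl_ft (LP (LK LD1_c7 LD2_c52 LD3_c2))
theorem f816985 : Led Lsl_ft (LP (LK LD1_c7 LD2_c52 LD3_c2)) = v23403 :=
  Lrfl
theorem f122949 : Led Lsl_gt (LP (LK LD1_c7 LD2_c52 LD3_c2)) = (LP (LK LD1_c14 LD2_c50 LD3_c20)) :=
  Lre_g IH (LK LD1_c7 LD2_c52 LD3_c2) (LK LD1_c14 LD2_c50 LD3_c20) Lrfl Lrfl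
def v23400 : LQ := Led Lsl_at (LP (LK LD1_c7 LD2_c52 LD3_c2))
theorem f816967 : Led Lsl_at (LP (LK LD1_c7 LD2_c52 LD3_c2)) = v23400 :=
  Lrfl
theorem f816968 : Led Lsl_af (LP (LK LD1_c7 LD2_c52 LD3_c2)) = v23400 :=
  Lgr Lrot0 (Lpr_at (f816967 IH) (Lpn v23400))
theorem f122948 : Led Lsl_ct (LP (LK LD1_c3 LD2_c55 LD3_c9)) = (LP (LK LD1_c7 LD2_c52 LD3_c2)) :=
  Lre_c IH (LK LD1_c3 LD2_c55 LD3_c9) (LK LD1_c7 LD2_c52 LD3_c2) Lrfl Lrfl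
def v7687 : LQ := Led Lsl_at (LP (LK LD1_c3 LD2_c55 LD3_c9))
theorem f667746 : Led Lsl_at (LP (LK LD1_c3 LD2_c55 LD3_c9)) = v7687 :=
  Lrfl
theorem f667747 : Led Lsl_af (LP (LK LD1_c3 LD2_c55 LD3_c9)) = v7687 :=
  Lgr Lrot0 (Lpr_at (f667746 IH) (Lpn v7687))
theorem f816969 : Led Lsl_cf v7687 = v23400 :=
  Lgr Lrot1 (Lpe (f667747 IH) (Lpr_ct (f122948 IH) (Lpr_at (f816967 IH) (Lpn v23400))))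
theorem f121035 : Led Lsl_gt (LP (LK LD1_c3 LD2_c55 LD3_c10)) = (LP (LK LD1_c1 LD2_c54 LD3_c10)) :=
  Lre_g IH (LK LD1_c3 LD2_c55 LD3_c10) (LK LD1_c1 LD2_c54 LD3_c10) Lrfl Lrfl
theorem f667751 : Led Lsl_ft (LP (LK LD1_c3 LD2_c55 LD3_c10)) = v7687 :=
  Lgr Lrot2 (Lpr_gt (f121035 IH) (Lpr_gt (K7.f122943 IH) (Lpr_af (f667747 IH) (Lpn v7687))))
theorem f667754 : Led Lsl_ff (LP (LK LD1_c3 LD2_c55 LD3_c10)) = v7687 :=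
  Lgr Lrot3 (Lpr_ft (f667751 IH) (Lpn v7687))
theorem f144624 : Led Lsl_ct (LP (LK LD1_c3 LD2_c55 LD3_c10)) = (LP (LK LD1_c7 LD2_c52 LD3_c6)) :=
  Lre_c IH (LK LD1_c3 LD2_c55 LD3_c10) (LK LD1_c7 LD2_c52 LD3_c6) Lrfl Lrfl
theorem f816971 : Led Lsl_ft (LP (LK LD1_c7 LD2_c52 LD3_c6)) = v23400 :=
  Lgr Lrot4 (Lpe (f144624 IH) (Lpr_ff (f667754 IH) (Lpr_cf (f816969 IH) (Lpn v23400))))
theorem f816986 : Led Lsl_af (LP (LK LD1_c7 LD2_c52 LD3_c6)) = v23403 :=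
  Lgr Lrot45 (Lpr_ft (f816971 IH) (Lpe (f816968 IH) (Lpr_ft (f816985 IH) (Lpn v23403))))
theorem f816989 : Led Lsl_gt (LP (LK LD1_c14 LD2_c50 LD3_c20)) = (LP (LK LD1_c7 LD2_c52 LD3_c6)) :=
  Lgr Lrot46 (Lpe (f122949 IH) (Lpr_ft (f816985 IH) (Lpe (f816986 IH) (Lpn (LP (LK LD1_c7 LD2_c52 LD3_c6))))))
theorem f816990 : Led Lsl_gt (LP (LK LD1_c14 LD2_c50 LD3_c20)) = (LP (LK LD1_c7 LD2_c52 LD3_c6)) :=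
  Leop (Lpe (f816989 IH) (Lpn (LP (LK LD1_c14 LD2_c50 LD3_c20))))
theorem seed_1840 : LEOK LG_g (LK LD1_c14 LD2_c50 LD3_c20) :=
  Leoe_g (LK LD1_c14 LD2_c50 LD3_c20) (f816990 IH)
def v23404 : LQ := Led Lsl_at (LP (LK LD1_c7 LD2_c52 LD3_c3))
theorem f816996 : Led Lsl_at (LP (LK LD1_c7 LD2_c52 LD3_c3)) = v23404 :=
  Lrfl
theorem f122944 : Led Lsl_dt (LP (LK LD1_c3 LD2_c55 LD3_c9)) = (LP (LK LD1_c7 LD2_c52 LD3_c3)) :=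
  Lre_d IH (LK LD1_c3 LD2_c55 LD3_c9) (LK LD1_c7 LD2_c52 LD3_c3) Lrfl Lrfl
theorem f816999 : Led Lsl_df v7687 = v23404 :=
  Lgr Lrot18 (Lpe (f667747 IH) (Lpr_dt (f122944 IH) (Lpr_at (f816996 IH) (Lpn v23404))))
theorem f144583 : Led Lsl_dt (LP (LK LD1_c3 LD2_c55 LD3_c10)) = (LP (LK LD1_c7 LD2_c52 LD3_c7)) :=
  Lre_d IH (LK LD1_c3 LD2_c55 LD3_c10) (LK LD1_c7 LD2_c52 LD3_c7) Lrfl Lrfl
theorem f817001 : Led Lsl_ft (LP (LK LD1_c7 LD2_c52 LD3_c7)) = v23404 :=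
  Lgr Lrot54 (Lpe (f144583 IH) (Lpr_ff (f667754 IH) (Lpr_df (f816999 IH) (Lpn v23404))))
theorem f816997 : Led Lsl_af (LP (LK LD1_c7 LD2_c52 LD3_c3)) = v23404 :=
  Lgr Lrot0 (Lpr_at (f816996 IH) (Lpn v23404))
theorem f816980 : Led Lsl_gt (LP (LK LD1_c14 LD2_c50 LD3_c23)) = (LP (LK LD1_c7 LD2_c52 LD3_c3)) :=
  Lre_g IH (LK LD1_c14 LD2_c50 LD3_c23) (LK LD1_c7 LD2_c52 LD3_c3) Lrfl Lrfl
theorem f817005 : Led Lsl_gt (LP (LK LD1_c7 LD2_c52 LD3_c7)) = (LP (LK LD1_c14 LD2_c50 LD3_c23)) :=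
  Lgr Lrot5 (Lpr_ft (f817001 IH) (Lpe (f816997 IH) (Lpe (f816980 IH) (Lpn (LP (LK LD1_c14 LD2_c50 LD3_c23))))))
theorem f817006 : Led Lsl_gt (LP (LK LD1_c7 LD2_c52 LD3_c7)) = (LP (LK LD1_c14 LD2_c50 LD3_c23)) :=
  Leop (Lpe (f817005 IH) (Lpn (LP (LK LD1_c7 LD2_c52 LD3_c7))))
theorem seed_1841 : LEOK LG_g (LK LD1_c7 LD2_c52 LD3_c7) :=
  Leoe_g (LK LD1_c7 LD2_c52 LD3_c7) (f817006 IH)
def v23405 : LQ := Led Lsl_ft (LP (LK LD1_c7 LD2_c52 LD3_c3))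
theorem f817014 : Led Lsl_ft (LP (LK LD1_c7 LD2_c52 LD3_c3)) = v23405 :=
  Lrfl
theorem f144588 : Led Lsl_gt (LP (LK LD1_c7 LD2_c52 LD3_c3)) = (LP (LK LD1_c14 LD2_c50 LD3_c22)) :=
  Lre_g IH (LK LD1_c7 LD2_c52 LD3_c3) (LK LD1_c14 LD2_c50 LD3_c22) Lrfl Lrfl
theorem f817015 : Led Lsl_af (LP (LK LD1_c7 LD2_c52 LD3_c7)) = v23405 :=
  Lgr Lrot45 (Lpr_ft (f817001 IH) (Lpe (f816997 IH) (Lpr_ft (f817014 IH) (Lpn v23405))))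
theorem f817018 : Led Lsl_gt (LP (LK LD1_c14 LD2_c50 LD3_c22)) = (LP (LK LD1_c7 LD2_c52 LD3_c7)) :=
  Lgr Lrot46 (Lpe (f144588 IH) (Lpr_ft (f817014 IH) (Lpe (f817015 IH) (Lpn (LP (LK LD1_c7 LD2_c52 LD3_c7))))))
theorem f817019 : Led Lsl_gt (LP (LK LD1_c14 LD2_c50 LD3_c22)) = (LP (LK LD1_c7 LD2_c52 LD3_c7)) :=
  Leop (Lpe (f817018 IH) (Lpn (LP (LK LD1_c14 LD2_c50 LD3_c22))))
theorem seed_1842 : LEOK LG_g (LK LD1_c14 LD2_c50 LD3_c22) :=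
  Leoe_g (LK LD1_c14 LD2_c50 LD3_c22) (f817019 IH)
def v23479 : LQ := Led Lsl_et (LP (LK LD1_c7 LD2_c53 LD3_c11))
theorem f817359 : Led Lsl_et (LP (LK LD1_c7 LD2_c53 LD3_c11)) = v23479 :=
  Lrfl
theorem f817363 : Led Lsl_ef (LP (LK LD1_c7 LD2_c53 LD3_c11)) = v23479 :=
  Lgr Lrot88 (Lpr_et (f817359 IH) (Lpn v23479))
theorem f485357 : Led Lsl_dt (LP (LK LD1_c14 LD2_c52 LD3_c38)) = (LP (LK LD1_c7 LD2_c53 LD3_c11)) :=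
  Lre_d IH (LK LD1_c14 LD2_c52 LD3_c38) (LK LD1_c7 LD2_c53 LD3_c11) Lrfl Lrfl
theorem f529459 : Led Lsl_et (LP (LK LD1_c24 LD2_c39 LD3_c14)) = (LP (LK LD1_c14 LD2_c52 LD3_c38)) :=
  Lre_e IH (LK LD1_c24 LD2_c39 LD3_c14) (LK LD1_c14 LD2_c52 LD3_c38) Lrfl Lrfl
theorem f667932 : Led Lsl_df (LP (LK LD1_c13 LD2_c7 LD3_c8)) = (LP (LK LD1_c14 LD2_c52 LD3_c40)) :=
  Lgr Lrot38 (Lpr_dt (K48.f667924 IH) (Lpn (LP (LK LD1_c14 LD2_c52 LD3_c40))))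
theorem f667944 : Led Lsl_bt (LP (LK LD1_c13 LD2_c7 LD3_c8)) = (LP (LK LD1_c22 LD2_c18 LD3_c49)) :=
  Lre_b IH (LK LD1_c13 LD2_c7 LD3_c8) (LK LD1_c22 LD2_c18 LD3_c49) Lrfl Lrfl
theorem f528720 : Led Lsl_bt (LP (LK LD1_c24 LD2_c39 LD3_c14)) = (LP (LK LD1_c14 LD2_c52 LD3_c40)) :=
  Lre_b IH (LK LD1_c24 LD2_c39 LD3_c14) (LK LD1_c14 LD2_c52 LD3_c40) Lrfl Lrfl
theorem f667945 : Led Lsl_dt (LP (LK LD1_c22 LD2_c18 LD3_c49)) = (LP (LK LD1_c24 LD2_c39 LD3_c14)) :=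
  Lgr Lrot79 (Lpe (f667944 IH) (Lpr_df (f667932 IH) (Lpe (f528720 IH) (Lpn (LP (LK LD1_c24 LD2_c39 LD3_c14))))))
theorem f667950 : Led Lsl_et (LP (LK LD1_c13 LD2_c7 LD3_c6)) = (LP (LK LD1_c22 LD2_c18 LD3_c49)) :=
  Lre_e IH (LK LD1_c13 LD2_c7 LD3_c6) (LK LD1_c22 LD2_c18 LD3_c49) Lrfl Lrfl
theorem f817362 : Led Lsl_df (LP (LK LD1_c13 LD2_c7 LD3_c6)) = v23479 :=
  Lgr Lrot70 (Lpr_et (f667950 IH) (Lpr_dt (f667945 IH) (Lpr_et (f529459 IH) (Lpr_dt (f485357 IH) (Lpr_et (f817359 IH) (Lpn v23479))))))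
theorem f817367 : Led Lsl_gf (LP (LK LD1_c22 LD2_c15 LD3_c52)) = (LP (LK LD1_c13 LD2_c7 LD3_c6)) :=
  Lgr Lrot145 (Lpe (K63.f122092 IH) (Lpr_et (K47.f122091 IH) (Lpr_gt (K4.f122087 IH) (Lpe (K28.f157515 IH) (Lpe (K8.f162949 IH) (Lpr_df (K8.f144885 IH) (Lpr_et (K8.f132135 IH) (Lpe (K33.f485445 IH) (Lpr_ef (f817363 IH) (Lpe (f817362 IH) (Lpn (LP (LK LD1_c13 LD2_c7 LD3_c6)))))))))))))
theorem f817368 : Led Lsl_gt (LP (LK LD1_c13 LD2_c7 LD3_c6)) = (LP (LK LD1_c22 LD2_c15 LD3_c52)) :=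
  Leop (Lpr_gf (f817367 IH) (Lpn (LP (LK LD1_c13 LD2_c7 LD3_c6))))
theorem seed_1843 : LEOK LG_g (LK LD1_c13 LD2_c7 LD3_c6) :=
  Leoe_g (LK LD1_c13 LD2_c7 LD3_c6) (f817368 IH)
def v23107 : LQ := Led Lsl_gt (LP (LK LD1_c7 LD2_c47 LD3_c30))
theorem f814843 : Led Lsl_gt (LP (LK LD1_c7 LD2_c47 LD3_c30)) = v23107 :=
  Lrfl
def v23497 : LQ := Led Lsl_ct (LP (LK LD1_c7 LD2_c53 LD3_c27))
theorem f817469 : Led Lsl_ct (LP (LK LD1_c7 LD2_c53 LD3_c27)) = v23497 :=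
  Lrfl
theorem f88240 : Led Lsl_dt (LP (LK LD1_c7 LD2_c37 LD3_c57)) = (LP (LK LD1_c14 LD2_c23 LD3_c0)) :=
  Lre_d IH (LK LD1_c7 LD2_c37 LD3_c57) (LK LD1_c14 LD2_c23 LD3_c0) Lrfl Lrfl
theorem f463729 : Led Lsl_dt (LP (LK LD1_c7 LD2_c53 LD3_c27)) = (LP (LK LD1_c3 LD2_c55 LD3_c52)) :=
  Lre_d IH (LK LD1_c7 LD2_c53 LD3_c27) (LK LD1_c3 LD2_c55 LD3_c52) Lrfl Lrfl
theorem f463730 : Led Lsl_bt (LP (LK LD1_c14 LD2_c23 LD3_c0)) = (LP (LK LD1_c7 LD2_c53 LD3_c27)) :=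
  Lgr Lrot95 (Lpe (f88240 IH) (Lpr_bf (K28.f463725 IH) (Lpe (f463729 IH) (Lpn (LP (LK LD1_c7 LD2_c53 LD3_c27))))))
theorem f464028 : Led Lsl_bf (LP (LK LD1_c14 LD2_c23 LD3_c0)) = (LP (LK LD1_c7 LD2_c53 LD3_c27)) :=
  Lgr Lrot24 (Lpr_bt (f463730 IH) (Lpn (LP (LK LD1_c7 LD2_c53 LD3_c27))))
def v23496 : LQ := Led Lsl_gf (LP (LK LD1_c7 LD2_c53 LD3_c27))
theorem f817459 : Led Lsl_gf (LP (LK LD1_c7 LD2_c53 LD3_c27)) = v23496 :=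
  Lrfl
def v9515 : LQ := Led Lsl_gf K46.v2741
theorem f676417 : Led Lsl_gf K46.v2741 = v9515 :=
  Lrfl
def v7105 : LQ := Led Lsl_ft (LP (LK LD1_c3 LD2_c39 LD3_c6))
theorem f661104 : Led Lsl_ft (LP (LK LD1_c3 LD2_c39 LD3_c6)) = v7105 :=
  Lrfl
theorem f661106 : Led Lsl_ef K47.v6686 = v7105 :=
  Lgr Lrot21 (Lpe (K47.f657771 IH) (Lpr_et (K47.f481867 IH) (Lpe (K29.f485766 IH) (Lpr_et (K33.f478905 IH) (Lpr_ft (f661104 IH) (Lpn v7105))))))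
theorem f676420 : Led Lsl_dt v7105 = v9515 :=
  Lgr Lrot136 (Lpe (f661106 IH) (Lpe (K47.f657776 IH) (Lpe (K47.f628170 IH) (Lpr_dt (K47.f658733 IH) (Lpe (K47.f658737 IH) (Lpe (K47.f519463 IH) (Lpe (K46.f456057 IH) (Lpq (K46.f657671 IH) (Lpe (K34.f531711 IH) (Lpr_dt (K46.f531708 IH) (Lpr_gf (f676417 IH) (Lpn v9515))))))))))))
theorem f661107 : Led Lsl_ff (LP (LK LD1_c3 LD2_c39 LD3_c6)) = v7105 :=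
  Lgr Lrot3 (Lpr_ft (f661104 IH) (Lpn v7105))
theorem f457015 : Led Lsl_at (LP (LK LD1_c3 LD2_c39 LD3_c6)) = (LP (LK LD1_c1 LD2_c46 LD3_c32)) :=
  Lre_a IH (LK LD1_c3 LD2_c39 LD3_c6) (LK LD1_c1 LD2_c46 LD3_c32) Lrfl Lrfl
theorem f661111 : Led Lsl_gf (LP (LK LD1_c3 LD2_c39 LD3_c11)) = v7105 :=
  Lgr Lrot47 (Lpr_gt (K34.f455687 IH) (Lpe (f457015 IH) (Lpr_ff (f661107 IH) (Lpn v7105))))
theorem f656606 : Led Lsl_af (LP (LK LD1_c3 LD2_c39 LD3_c11)) = (LP (LK LD1_c3 LD2_c24 LD3_c52)) :=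
  Lgr Lrot68 (Lpr_ct (K34.f519439 IH) (Lpr_at (K48.f656602 IH) (Lpr_ct (K43.f458389 IH) (Lpn (LP (LK LD1_c3 LD2_c24 LD3_c52))))))
theorem f661112 : Led Lsl_gt (LP (LK LD1_c3 LD2_c39 LD3_c10)) = v7105 :=
  Lgr Lrot5 (Lpr_ft (K48.f656693 IH) (Lpe (f656606 IH) (Lpr_gf (f661111 IH) (Lpn v7105))))
theorem f817462 : Led Lsl_dt (LP (LK LD1_c13 LD2_c25 LD3_c17)) = v23496 :=
  Lgr Lrot57 (Lpe (K24.f458334 IH) (Lpe (K24.f455693 IH) (Lpr_gt (f661112 IH) (Lpr_dt (f676420 IH) (Lpe (f676417 IH) (Lpe (K46.f531709 IH) (Lpe (K28.f463724 IH) (Lpe (f463729 IH) (Lpr_gf (f817459 IH) (Lpn v23496))))))))))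
theorem f817464 : Led Lsl_df (LP (LK LD1_c13 LD2_c25 LD3_c17)) = v23496 :=
  Lgr Lrot38 (Lpr_dt (f817462 IH) (Lpn v23496))
theorem f532635 : Led Lsl_gt (LP (LK LD1_c7 LD2_c18 LD3_c45)) = (LP (LK LD1_c6 LD2_c53 LD3_c32)) :=
  Lgr Lrot131 (Lpr_ef (K34.f532626 IH) (Lpr_dt (K29.f460894 IH) (Lpr_gf (K48.f483806 IH) (Lpe (K35.f463947 IH) (Lpe (K35.f463946 IH) (Lpe (K48.f480721 IH) (Lpr_dt (K48.f525807 IH) (Lpe (K35.f525803 IH) (Lpe (K35.f481872 IH) (Lpr_et (K45.f483322 IH) (Lpn (LP (LK LD1_c6 LD2_c53 LD3_c32)))))))))))))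
theorem f525944 : Led Lsl_ft (LP (LK LD1_c13 LD2_c25 LD3_c17)) = (LP (LK LD1_c7 LD2_c24 LD3_c32)) :=
  Lgr Lrot48 (Lpr_ff (f525924 IH) (Lpn (LP (LK LD1_c7 LD2_c24 LD3_c32))))
theorem f532637 : Led Lsl_gf (LP (LK LD1_c7 LD2_c18 LD3_c45)) = (LP (LK LD1_c13 LD2_c25 LD3_c17)) :=
  Lgr Lrot47 (Lpr_gt (f532635 IH) (Lpr_af (K45.f525763 IH) (Lpe (f525944 IH) (Lpn (LP (LK LD1_c13 LD2_c25 LD3_c17))))))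
theorem f467626 : Led Lsl_ct (LP (LK LD1_c13 LD2_c50 LD3_c2)) = (LP (LK LD1_c7 LD2_c18 LD3_c42)) :=
  Lre_c IH (LK LD1_c13 LD2_c50 LD3_c2) (LK LD1_c7 LD2_c18 LD3_c42) Lrfl Lrfl
theorem f817473 : Led Lsl_gf (LP (LK LD1_c13 LD2_c50 LD3_c2)) = v23497 :=
  Lgr Lrot104 (Lpr_ct (f467626 IH) (Lpe (K46.f467619 IH) (Lpe (K30.f455689 IH) (Lpe (K34.f455687 IH) (Lpe (K34.f519440 IH) (Lpr_gf (f532637 IH) (Lpr_df (f817464 IH) (Lpe (f817459 IH) (Lpr_ct (f817469 IH) (Lpn v23497))))))))))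
theorem f467624 : Led Lsl_ct (LP (LK LD1_c7 LD2_c18 LD3_c42)) = (LP (LK LD1_c13 LD2_c50 LD3_c2)) :=
  Lre_c IH (LK LD1_c7 LD2_c18 LD3_c42) (LK LD1_c13 LD2_c50 LD3_c2) Lrfl Lrfl
def v7443 : LQ := Led Lsl_gt (LP (LK LD1_c3 LD2_c47 LD3_c52))
theorem f665604 : Led Lsl_gt (LP (LK LD1_c3 LD2_c47 LD3_c52)) = v7443 :=
  Lrfl
theorem f665608 : Led Lsl_dt K35.v4018 = v7443 :=
  Lgr Lrot56 (Lpe (K48.f629017 IH) (Lpq (K34.f528014 IH) (Lpe (K34.f511970 IH) (Lpe (K61.f65022 IH) (Lpr_dt (K1.f18138 IH) (Lpe (K1.f65003 IH) (Lpe (K1.f15272 IH) (Lpr_et (K1.f63811 IH) (Lpr_gt (K1.f14965 IH) (Lpr_dt (K29.f14966 IH) (Lpr_gt (f665604 IH) (Lpn v7443))))))))))))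
theorem f629025 : Led Lsl_ft (LP (LK LD1_c7 LD2_c4 LD3_c50)) = K35.v4018 :=
  Lgr Lrot48 (Lpr_ff (K48.f629021 IH) (Lpn K35.v4018))
theorem f665611 : Led Lsl_ff (LP (LK LD1_c3 LD2_c51 LD3_c61)) = v7443 :=
  Lgr Lrot19 (Lpe (K29.f476323 IH) (Lpr_ft (f629025 IH) (Lpr_dt (f665608 IH) (Lpn v7443))))
theorem f665612 : Led Lsl_bt (LP (LK LD1_c7 LD2_c18 LD3_c42)) = v7443 :=
  Lgr Lrot35 (Lpr_ff (K49.f479010 IH) (Lpe (K47.f534636 IH) (Lpr_ff (f665611 IH) (Lpn v7443))))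
theorem f665606 : Led Lsl_gf (LP (LK LD1_c3 LD2_c47 LD3_c56)) = v7443 :=
  Lgr Lrot76 (Lpe (K63.f491819 IH) (Lpr_ff (K33.f491817 IH) (Lpr_gt (f665604 IH) (Lpn v7443))))
theorem f464008 : Led Lsl_bt (LP (LK LD1_c3 LD2_c52 LD3_c52)) = (LP (LK LD1_c7 LD2_c47 LD3_c30)) :=
  Lre_b IH (LK LD1_c3 LD2_c52 LD3_c52) (LK LD1_c7 LD2_c47 LD3_c30) Lrfl Lrfl
theorem f817474 : (LP (LK LD1_c14 LD2_c23 LD3_c0)) = v23107 :=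
  (Llr Lrot92 (Lpr_bf (f464028 IH) (Lpr_ct (f817469 IH) (Lpe (f817473 IH) (Lpe (f467624 IH) (Lpr_bt (f665612 IH) (Lpe (f665606 IH) (Lpr_ct (K33.f463826 IH) (Lpe (K29.f468517 IH) (Lpe (K29.f460413 IH) (Lpr_bt (f464008 IH) (Lpr_gt (f814843 IH) (Lpn v23107))))))))))))).symm
theorem f817475 : Led Lsl_gt (LP (LK LD1_c7 LD2_c47 LD3_c30)) = (LP (LK LD1_c14 LD2_c23 LD3_c0)) :=
  Leop (Lpqs (f817474 IH) (Lpe (f814843 IH) (Lpn (LP (LK LD1_c7 LD2_c47 LD3_c30)))))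
theorem seed_1844 : LEOK LG_g (LK LD1_c7 LD2_c47 LD3_c30) :=
  Leoe_g (LK LD1_c7 LD2_c47 LD3_c30) (f817475 IH)
def v23506 : LQ := Led Lsl_ft (LP (LK LD1_c7 LD2_c53 LD3_c33))
theorem f817516 : Led Lsl_ft (LP (LK LD1_c7 LD2_c53 LD3_c33)) = v23506 :=
  Lrfl
theorem f817518 : Led Lsl_ff (LP (LK LD1_c7 LD2_c53 LD3_c33)) = v23506 :=
  Lgr Lrot3 (Lpr_ft (f817516 IH) (Lpn v23506))
theorem f532412 : Led Lsl_bt (LP (LK LD1_c7 LD2_c53 LD3_c33)) = (LP (LK LD1_c3 LD2_c55 LD3_c58)) :=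
  Lre_b IH (LK LD1_c7 LD2_c53 LD3_c33) (LK LD1_c3 LD2_c55 LD3_c58) Lrfl Lrfl
def v7728 : LQ := Led Lsl_ft (LP (LK LD1_c3 LD2_c55 LD3_c58))
theorem f668051 : Led Lsl_ft (LP (LK LD1_c3 LD2_c55 LD3_c58)) = v7728 :=
  Lrfl
theorem f817519 : Led Lsl_bt v7728 = v23506 :=
  Lgr Lrot35 (Lpe (f668051 IH) (Lpe (f532412 IH) (Lpr_ff (f817518 IH) (Lpn v23506))))
theorem f476625 : Led Lsl_ct (LP (LK LD1_c1 LD2_c54 LD3_c38)) = (LP (LK LD1_c3 LD2_c55 LD3_c58)) :=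
  Lre_c IH (LK LD1_c1 LD2_c54 LD3_c38) (LK LD1_c3 LD2_c55 LD3_c58) Lrfl Lrfl
def v2756 : LQ := Led Lsl_ft (LP (LK LD1_c1 LD2_c54 LD3_c38))
theorem f531778 : Led Lsl_ft (LP (LK LD1_c1 LD2_c54 LD3_c38)) = v2756 :=
  Lrfl
theorem f531779 : Led Lsl_ff (LP (LK LD1_c1 LD2_c54 LD3_c38)) = v2756 :=
  Lgr Lrot3 (Lpr_ft (f531778 IH) (Lpn v2756))
theorem f668052 : Led Lsl_cf v2756 = v7728 :=
  Lgr Lrot108 (Lpe (f531779 IH) (Lpr_ct (f476625 IH) (Lpr_ft (f668051 IH) (Lpn v7728))))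
theorem f657759 : Led Lsl_at K33.v2395 = K46.v6685 :=
  Lgr Lrot66 (Lpe (K33.f519468 IH) (Lpe (K46.f456764 IH) (Lpr_ff (K46.f657668 IH) (Lpn K46.v6685))))
def v2393 : LQ := Led Lsl_gt (LP (LK LD1_c1 LD2_c44 LD3_c18))
theorem f519462 : Led Lsl_gt (LP (LK LD1_c1 LD2_c44 LD3_c18)) = v2393 :=
  Lrfl
theorem f657670 : Led Lsl_gt v2756 = K46.v6685 :=
  Lgr Lrot5 (Lpe (f531779 IH) (Lpr_at (K34.f531767 IH) (Lpqs (K34.f531833 IH) (Lpr_gf (K46.f657669 IH) (Lpn K46.v6685)))))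
theorem f657767 : v2393 = v2756 :=
  (Llr Lrot5 (Lpe (f519462 IH) (Lpr_ft (K33.f519468 IH) (Lpr_at (f657759 IH) (Lpe (f657670 IH) (Lpn v2756)))))).symm
theorem f474021 : Led Lsl_bt (LP (LK LD1_c13 LD2_c37 LD3_c5)) = (LP (LK LD1_c7 LD2_c11 LD3_c15)) :=
  Lre_b IH (LK LD1_c13 LD2_c37 LD3_c5) (LK LD1_c7 LD2_c11 LD3_c15) Lrfl Lrfl
theorem f472350 : Led Lsl_bt (LP (LK LD1_c1 LD2_c53 LD3_c19)) = (LP (LK LD1_c3 LD2_c53 LD3_c25)) :=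
  Lre_b IH (LK LD1_c1 LD2_c53 LD3_c19) (LK LD1_c3 LD2_c53 LD3_c25) Lrfl Lrfl
theorem f472348 : Led Lsl_ct (LP (LK LD1_c3 LD2_c53 LD3_c28)) = (LP (LK LD1_c1 LD2_c53 LD3_c19)) :=
  Lre_c IH (LK LD1_c3 LD2_c53 LD3_c28) (LK LD1_c1 LD2_c53 LD3_c19) Lrfl Lrfl
theorem f527152 : Led Lsl_cf (LP (LK LD1_c7 LD2_c48 LD3_c29)) = (LP (LK LD1_c13 LD2_c37 LD3_c5)) :=
  Lgr Lrot97 (Lpr_bt (K62.f516602 IH) (Lpr_ct (f472348 IH) (Lpr_bt (f472350 IH) (Lpr_ct (K34.f527149 IH) (Lpr_bt (K48.f527151 IH) (Lpn (LP (LK LD1_c13 LD2_c37 LD3_c5))))))))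
theorem f806036 : Led Lsl_bt (LP (LK LD1_c14 LD2_c23 LD3_c27)) = (LP (LK LD1_c24 LD2_c1 LD3_c47)) :=
  Lre_b IH (LK LD1_c14 LD2_c23 LD3_c27) (LK LD1_c24 LD2_c1 LD3_c47) Lrfl Lrfl
theorem f532147 : Led Lsl_et (LP (LK LD1_c30 LD2_c30 LD3_c36)) = (LP (LK LD1_c23 LD2_c24 LD3_c5)) :=
  Lgr Lrot87 (Lpr_ef (K39.f532143 IH) (Lpn (LP (LK LD1_c23 LD2_c24 LD3_c5))))
theorem f532149 : Led Lsl_ef (LP (LK LD1_c22 LD2_c26 LD3_c48)) = (LP (LK LD1_c13 LD2_c53 LD3_c55)) :=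
  Lgr Lrot28 (Lpr_ct (f483827 IH) (Lpr_et (f532147 IH) (Lpr_ct (K35.f462758 IH) (Lpn (LP (LK LD1_c13 LD2_c53 LD3_c55))))))
theorem f464241 : Led Lsl_et (LP (LK LD1_c23 LD2_c45 LD3_c36)) = (LP (LK LD1_c14 LD2_c10 LD3_c21)) :=
  Lre_e IH (LK LD1_c23 LD2_c45 LD3_c36) (LK LD1_c14 LD2_c10 LD3_c21) Lrfl Lrfl
theorem f532151 : Led Lsl_bt (LP (LK LD1_c22 LD2_c26 LD3_c48)) = (LP (LK LD1_c23 LD2_c45 LD3_c36)) :=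
  Lgr Lrot119 (Lpr_ef (f532149 IH) (Lpe (K35.f464232 IH) (Lpe (f464241 IH) (Lpn (LP (LK LD1_c23 LD2_c45 LD3_c36))))))
theorem f806132 : Led Lsl_gt (LP (LK LD1_c24 LD2_c1 LD3_c47)) = (LP (LK LD1_c23 LD2_c45 LD3_c36)) :=
  Lgr Lrot164 (Lpe (f806036 IH) (Lpe (K63.f806098 IH) (Lpe (K62.f451237 IH) (Lpe (K63.f475718 IH) (Lpe (f806114 IH) (Lpe (f486289 IH) (Lpr_ct (f486294 IH) (Lpr_gf (f806116 IH) (Lpe (f483827 IH) (Lpr_bt (f532151 IH) (Lpn (LP (LK LD1_c23 LD2_c45 LD3_c36)))))))))))))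
theorem f428963 : Led Lsl_dt (LP (LK LD1_c23 LD2_c45 LD3_c36)) = (LP (LK LD1_c31 LD2_c12 LD3_c31)) :=
  Lre_d IH (LK LD1_c23 LD2_c45 LD3_c36) (LK LD1_c31 LD2_c12 LD3_c31) Lrfl Lrfl
theorem f803892 : Led Lsl_ff (LP (LK LD1_c14 LD2_c43 LD3_c58)) = (LP (LK LD1_c22 LD2_c0 LD3_c41)) :=
  Lgr Lrot3 (Lpr_ft (K63.f803882 IH) (Lpn (LP (LK LD1_c22 LD2_c0 LD3_c41))))
theorem f472785 : Led Lsl_bt (LP (LK LD1_c3 LD2_c27 LD3_c37)) = (LP (LK LD1_c6 LD2_c57 LD3_c24)) :=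
  Lre_b IH (LK LD1_c3 LD2_c27 LD3_c37) (LK LD1_c6 LD2_c57 LD3_c24) Lrfl Lrfl
theorem f472786 : Led Lsl_gt (LP (LK LD1_c6 LD2_c57 LD3_c24)) = (LP (LK LD1_c13 LD2_c12 LD3_c36)) :=
  Lre_g IH (LK LD1_c6 LD2_c57 LD3_c24) (LK LD1_c13 LD2_c12 LD3_c36) Lrfl Lrfl
theorem f517062 : Led Lsl_bf (LP (LK LD1_c13 LD2_c12 LD3_c36)) = (LP (LK LD1_c14 LD2_c43 LD3_c58)) :=
  Lgr Lrot34 (Lpe (f472786 IH) (Lpe (f472785 IH) (Lpr_ct (K28.f469052 IH) (Lpr_gf (K28.f472793 IH) (Lpe (K28.f472796 IH) (Lpe (K28.f472801 IH) (Lpe (K62.f469071 IH) (Lpr_ct (K62.f457836 IH) (Lpe (K63.f457847 IH) (Lpr_cf (K63.f517053 IH) (Lpn (LP (LK LD1_c14 LD2_c43 LD3_c58)))))))))))))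
theorem f458165 : Led Lsl_gt (LP (LK LD1_c7 LD2_c46 LD3_c2)) = (LP (LK LD1_c14 LD2_c39 LD3_c1)) :=
  Lre_g IH (LK LD1_c7 LD2_c46 LD3_c2) (LK LD1_c14 LD2_c39 LD3_c1) Lrfl Lrfl
theorem f803046 : Led Lsl_bf (LP (LK LD1_c14 LD2_c39 LD3_c1)) = (LP (LK LD1_c22 LD2_c0 LD3_c41)) :=
  Lgr Lrot34 (Lpe (f458165 IH) (Lpr_bf (K33.f458119 IH) (Lpr_ct (K29.f90871 IH) (Lpe (K29.f479335 IH) (Lpe (K28.f456364 IH) (Lpr_gf (K29.f479339 IH) (Lpe (K34.f475452 IH) (Lpr_ct (K34.f475458 IH) (Lpe (K62.f475496 IH) (Lpr_cf (K62.f803041 IH) (Lpn (LP (LK LD1_c22 LD2_c0 LD3_c41)))))))))))))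
theorem f803048 : Led Lsl_bt (LP (LK LD1_c14 LD2_c39 LD3_c1)) = (LP (LK LD1_c22 LD2_c0 LD3_c41)) :=
  Lgr Lrot127 (Lpr_bf (f803046 IH) (Lpn (LP (LK LD1_c22 LD2_c0 LD3_c41))))
theorem f803896 : Led Lsl_ft (LP (LK LD1_c13 LD2_c12 LD3_c36)) = (LP (LK LD1_c14 LD2_c39 LD3_c1)) :=
  Lgr Lrot75 (Lpr_bf (f517062 IH) (Lpr_ff (f803892 IH) (Lpe (f803048 IH) (Lpn (LP (LK LD1_c14 LD2_c39 LD3_c1))))))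
theorem f458163 : Led Lsl_at (LP (LK LD1_c7 LD2_c46 LD3_c2)) = (LP (LK LD1_c14 LD2_c38 LD3_c59)) :=
  Lre_a IH (LK LD1_c7 LD2_c46 LD3_c2) (LK LD1_c14 LD2_c38 LD3_c59) Lrfl Lrfl
theorem f492464 : Led Lsl_gt (LP (LK LD1_c13 LD2_c12 LD3_c36)) = (LP (LK LD1_c14 LD2_c38 LD3_c59)) :=
  Lgr Lrot46 (Lpe (f472786 IH) (Lpr_ft (K33.f492452 IH) (Lpr_at (f458163 IH) (Lpn (LP (LK LD1_c14 LD2_c38 LD3_c59))))))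
theorem f492458 : Led Lsl_at (LP (LK LD1_c13 LD2_c12 LD3_c34)) = (LP (LK LD1_c6 LD2_c57 LD3_c24)) :=
  Lre_a IH (LK LD1_c13 LD2_c12 LD3_c34) (LK LD1_c6 LD2_c57 LD3_c24) Lrfl Lrfl
theorem f492459 : Led Lsl_ff (LP (LK LD1_c13 LD2_c12 LD3_c34)) = (LP (LK LD1_c14 LD2_c38 LD3_c59)) :=
  Lgr Lrot30 (Lpr_at (f492458 IH) (Lpr_ft (K33.f492452 IH) (Lpr_at (f458163 IH) (Lpn (LP (LK LD1_c14 LD2_c38 LD3_c59))))))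
theorem f457934 : Led Lsl_gt (LP (LK LD1_c13 LD2_c12 LD3_c37)) = (LP (LK LD1_c6 LD2_c57 LD3_c24)) :=
  Lre_g IH (LK LD1_c13 LD2_c12 LD3_c37) (LK LD1_c6 LD2_c57 LD3_c24) Lrfl Lrfl
theorem f493142 : Led Lsl_gf (LP (LK LD1_c13 LD2_c12 LD3_c37)) = (LP (LK LD1_c14 LD2_c38 LD3_c59)) :=
  Lgr Lrot47 (Lpr_gt (f457934 IH) (Lpe (f492458 IH) (Lpr_ff (f492459 IH) (Lpn (LP (LK LD1_c14 LD2_c38 LD3_c59))))))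
theorem f804021 : Led Lsl_af (LP (LK LD1_c13 LD2_c12 LD3_c37)) = (LP (LK LD1_c14 LD2_c39 LD3_c1)) :=
  Lgr Lrot31 (Lpr_gf (f493142 IH) (Lpe (f492464 IH) (Lpr_ft (f803896 IH) (Lpn (LP (LK LD1_c14 LD2_c39 LD3_c1))))))
theorem f804025 : Led Lsl_bt (LP (LK LD1_c13 LD2_c12 LD3_c37)) = (LP (LK LD1_c22 LD2_c26 LD3_c25)) :=
  Lre_b IH (LK LD1_c13 LD2_c12 LD3_c37) (LK LD1_c22 LD2_c26 LD3_c25) Lrfl Lrfl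
theorem f803878 : Led Lsl_at (LP (LK LD1_c14 LD2_c43 LD3_c59)) = (LP (LK LD1_c22 LD2_c0 LD3_c41)) :=
  Lgr Lrot100 (Lpr_af (K63.f803876 IH) (Lpn (LP (LK LD1_c22 LD2_c0 LD3_c41))))
theorem f804026 : Led Lsl_at (LP (LK LD1_c22 LD2_c26 LD3_c25)) = (LP (LK LD1_c24 LD2_c29 LD3_c41)) :=
  Lgr Lrot67 (Lpe (f804025 IH) (Lpr_af (f804021 IH) (Lpr_bf (f803046 IH) (Lpe (f803878 IH) (Lpe (K62.f458221 IH) (Lpn (LP (LK LD1_c24 LD2_c29 LD3_c41))))))))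
theorem f804040 : Led Lsl_dt (LP (LK LD1_c30 LD2_c30 LD3_c19)) = (LP (LK LD1_c22 LD2_c26 LD3_c25)) :=
  Lre_d IH (LK LD1_c30 LD2_c30 LD3_c19) (LK LD1_c22 LD2_c26 LD3_c25) Lrfl Lrfl
theorem f472872 : Led Lsl_dt (LP (LK LD1_c13 LD2_c7 LD3_c11)) = (LP (LK LD1_c13 LD2_c11 LD3_c28)) :=
  Lre_d IH (LK LD1_c13 LD2_c7 LD3_c11) (LK LD1_c13 LD2_c11 LD3_c28) Lrfl Lrfl
theorem f803533 : Led Lsl_dt (LP (LK LD1_c24 LD2_c29 LD3_c41)) = (LP (LK LD1_c22 LD2_c40 LD3_c31)) :=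
  Lgr Lrot6 (Lpr_gt (K62.f803531 IH) (Lpe (K62.f532344 IH) (Lpr_gt (K62.f469068 IH) (Lpr_ct (K62.f469066 IH) (Lpe (f472872 IH) (Lpe (K33.f472868 IH) (Lpr_gf (K62.f611051 IH) (Lpe (K62.f162360 IH) (Lpr_gf (K62.f629031 IH) (Lpn (LP (LK LD1_c22 LD2_c40 LD3_c31))))))))))))
theorem f804041 : Led Lsl_af (LP (LK LD1_c30 LD2_c30 LD3_c19)) = (LP (LK LD1_c22 LD2_c40 LD3_c31)) :=
  Lgr Lrot117 (Lpr_dt (f804040 IH) (Lpr_at (f804026 IH) (Lpr_dt (f803533 IH) (Lpn (LP (LK LD1_c22 LD2_c40 LD3_c31))))))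
theorem f493552 : Led Lsl_bt (LP (LK LD1_c22 LD2_c40 LD3_c31)) = (LP (LK LD1_c13 LD2_c22 LD3_c54)) :=
  Lre_b IH (LK LD1_c22 LD2_c40 LD3_c31) (LK LD1_c13 LD2_c22 LD3_c54) Lrfl Lrfl
theorem f788398 : Led Lsl_bt (LP (LK LD1_c7 LD2_c32 LD3_c41)) = (LP (LK LD1_c14 LD2_c13 LD3_c33)) :=
  Lre_b IH (LK LD1_c7 LD2_c32 LD3_c41) (LK LD1_c14 LD2_c13 LD3_c33) Lrfl Lrfl
theorem f803860 : Led Lsl_ff (LP (LK LD1_c22 LD2_c40 LD3_c31)) = (LP (LK LD1_c14 LD2_c13 LD3_c33)) :=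
  Lgr Lrot25 (Lpr_bt (f493552 IH) (Lpr_ft (K63.f803647 IH) (Lpr_bt (f788398 IH) (Lpn (LP (LK LD1_c14 LD2_c13 LD3_c33))))))
theorem f788395 : Led Lsl_at (LP (LK LD1_c23 LD2_c48 LD3_c61)) = (LP (LK LD1_c14 LD2_c13 LD3_c33)) :=
  Lre_a IH (LK LD1_c23 LD2_c48 LD3_c61) (LK LD1_c14 LD2_c13 LD3_c33) Lrfl Lrfl
theorem f804052 : Led Lsl_ft (LP (LK LD1_c30 LD2_c30 LD3_c19)) = (LP (LK LD1_c23 LD2_c48 LD3_c61)) :=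
  Lgr Lrot101 (Lpr_af (f804041 IH) (Lpr_ff (f803860 IH) (Lpe (f788395 IH) (Lpn (LP (LK LD1_c23 LD2_c48 LD3_c61))))))
theorem f788386 : Led Lsl_ct (LP (LK LD1_c7 LD2_c32 LD3_c39)) = (LP (LK LD1_c14 LD2_c13 LD3_c31)) :=
  Lgr Lrot63 (Lpr_bt (K62.f109626 IH) (Lpr_gt (K49.f109828 IH) (Lpe (K29.f85278 IH) (Lpr_ct (K46.f85260 IH) (Lpr_gt (K29.f85269 IH) (Lpe (K29.f441410 IH) (Lpr_bt (K47.f441411 IH) (Lpr_gt (K47.f466816 IH) (Lpr_ct (K61.f466820 IH) (Lpr_gt (K62.f788378 IH) (Lpn (LP (LK LD1_c14 LD2_c13 LD3_c31)))))))))))))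
theorem f673909 : Led Lsl_et (LP (LK LD1_c14 LD2_c13 LD3_c33)) = (LP (LK LD1_c7 LD2_c32 LD3_c39)) :=
  Lre_e IH (LK LD1_c14 LD2_c13 LD3_c33) (LK LD1_c7 LD2_c32 LD3_c39) Lrfl Lrfl
theorem f788375 : Led Lsl_et (LP (LK LD1_c14 LD2_c13 LD3_c31)) = (LP (LK LD1_c23 LD2_c48 LD3_c61)) :=
  Lre_e IH (LK LD1_c14 LD2_c13 LD3_c31) (LK LD1_c23 LD2_c48 LD3_c61) Lrfl Lrfl
theorem f788389 : Led Lsl_cf (LP (LK LD1_c14 LD2_c13 LD3_c33)) = (LP (LK LD1_c23 LD2_c48 LD3_c61)) :=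
  Lgr Lrot39 (Lpr_et (f673909 IH) (Lpr_ct (f788386 IH) (Lpr_et (f788375 IH) (Lpn (LP (LK LD1_c23 LD2_c48 LD3_c61))))))
theorem f804058 : Led Lsl_cf (LP (LK LD1_c30 LD2_c30 LD3_c19)) = (LP (LK LD1_c22 LD2_c40 LD3_c31)) :=
  Lgr Lrot108 (Lpr_ft (f804052 IH) (Lpe (f788389 IH) (Lpe (f803860 IH) (Lpn (LP (LK LD1_c22 LD2_c40 LD3_c31))))))
theorem f788396 : Led Lsl_gt (LP (LK LD1_c14 LD2_c13 LD3_c33)) = (LP (LK LD1_c23 LD2_c49 LD3_c2)) :=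
  Lre_g IH (LK LD1_c14 LD2_c13 LD3_c33) (LK LD1_c23 LD2_c49 LD3_c2) Lrfl Lrfl
theorem f804054 : Led Lsl_gf (LP (LK LD1_c30 LD2_c30 LD3_c19)) = (LP (LK LD1_c23 LD2_c49 LD3_c2)) :=
  Lgr Lrot76 (Lpr_af (f804041 IH) (Lpr_ff (f803860 IH) (Lpr_gt (f788396 IH) (Lpn (LP (LK LD1_c23 LD2_c49 LD3_c2))))))
theorem f474666 : Led Lsl_ct (LP (LK LD1_c7 LD2_c1 LD3_c12)) = (LP (LK LD1_c3 LD2_c29 LD3_c48)) :=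
  Lre_c IH (LK LD1_c7 LD2_c1 LD3_c12) (LK LD1_c3 LD2_c29 LD3_c48) Lrfl Lrfl
theorem f474667 : Led Lsl_bt (LP (LK LD1_c7 LD2_c1 LD3_c12)) = (LP (LK LD1_c13 LD2_c18 LD3_c58)) :=
  Lre_b IH (LK LD1_c7 LD2_c1 LD3_c12) (LK LD1_c13 LD2_c18 LD3_c58) Lrfl Lrfl
def v12659 : LQ := Led Lsl_ft (LP (LK LD1_c4 LD2_c25 LD3_c30))
theorem f696634 : Led Lsl_ft (LP (LK LD1_c4 LD2_c25 LD3_c30)) = v12659 :=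
  Lrfl
theorem f576606 : Led Lsl_cf (LP (LK LD1_c8 LD2_c48 LD3_c33)) = (LP (LK LD1_c8 LD2_c47 LD3_c52)) :=
  Lgr Lrot14 (Lpe (K61.f70717 IH) (Lpr_gf (K43.f576602 IH) (Lpr_df (K40.f554163 IH) (Lpe (K11.f38140 IH) (Lpe (K37.f543470 IH) (Lpe (K37.f420716 IH) (Lpr_dt (K37.f210848 IH) (Lpr_gt (K37.f420662 IH) (Lpr_dt (K43.f420664 IH) (Lpn (LP (LK LD1_c8 LD2_c47 LD3_c52))))))))))))
theorem f576303 : Led Lsl_et (LP (LK LD1_c4 LD2_c25 LD3_c7)) = (LP (LK LD1_c8 LD2_c47 LD3_c52)) :=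
  Lre_e IH (LK LD1_c4 LD2_c25 LD3_c7) (LK LD1_c8 LD2_c47 LD3_c52) Lrfl Lrfl
theorem f607357 : Led Lsl_ct (LP (LK LD1_c4 LD2_c25 LD3_c30)) = (LP (LK LD1_c4 LD2_c25 LD3_c7)) :=
  Lgr Lrot15 (Lpe (K46.f38310 IH) (Lpr_cf (f576606 IH) (Lpe (f576303 IH) (Lpn (LP (LK LD1_c4 LD2_c25 LD3_c7))))))
theorem f607362 : Led Lsl_cf (LP (LK LD1_c4 LD2_c25 LD3_c30)) = (LP (LK LD1_c4 LD2_c25 LD3_c7)) :=
  Lgr Lrot11 (Lpr_ct (f607357 IH) (Lpn (LP (LK LD1_c4 LD2_c25 LD3_c7))))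
def v12655 : LQ := Led Lsl_ft (LP (LK LD1_c4 LD2_c25 LD3_c7))
theorem f696614 : Led Lsl_ft (LP (LK LD1_c4 LD2_c25 LD3_c7)) = v12655 :=
  Lrfl
theorem f696616 : Led Lsl_ff (LP (LK LD1_c4 LD2_c25 LD3_c7)) = v12655 :=
  Lgr Lrot3 (Lpr_ft (f696614 IH) (Lpn v12655))
theorem f696636 : Led Lsl_cf v12655 = v12659 :=
  Lgr Lrot108 (Lpe (f696616 IH) (Lpe (f607362 IH) (Lpr_ft (f696634 IH) (Lpn v12659))))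
theorem f38691 : Led Lsl_ct (LP (LK LD1_c6 LD2_c9 LD3_c12)) = (LP (LK LD1_c7 LD2_c57 LD3_c1)) :=
  Lgr Lrot15 (Lpe (K1.f37780 IH) (Lpr_cf (K1.f38685 IH) (Lpe (K37.f38680 IH) (Lpn (LP (LK LD1_c7 LD2_c57 LD3_c1))))))
def v16952 : LQ := Led Lsl_at (LP (LK LD1_c6 LD2_c9 LD3_c11))
theorem f753747 : Led Lsl_at (LP (LK LD1_c6 LD2_c9 LD3_c11)) = v16952 :=
  Lrfl
theorem f753748 : Led Lsl_af (LP (LK LD1_c6 LD2_c9 LD3_c11)) = v16952 :=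
  Lgr Lrot0 (Lpr_at (f753747 IH) (Lpn v16952))
theorem f753749 : Led Lsl_ft (LP (LK LD1_c6 LD2_c9 LD3_c12)) = v16952 :=
  Lgr Lrot2 (Lpr_gt (K1.f35694 IH) (Lpr_gt (K37.f35556 IH) (Lpr_af (f753748 IH) (Lpn v16952))))
theorem f753750 : Led Lsl_ff (LP (LK LD1_c6 LD2_c9 LD3_c12)) = v16952 :=
  Lgr Lrot3 (Lpr_ft (f753749 IH) (Lpn v16952))
def v12658 : LQ := Led Lsl_at (LP (LK LD1_c4 LD2_c25 LD3_c30))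
theorem f696628 : Led Lsl_at (LP (LK LD1_c4 LD2_c25 LD3_c30)) = v12658 :=
  Lrfl
theorem f696629 : Led Lsl_af (LP (LK LD1_c4 LD2_c25 LD3_c30)) = v12658 :=
  Lgr Lrot0 (Lpr_at (f696628 IH) (Lpn v12658))
theorem f795745 : Led Lsl_bf K62.v17217 = K62.v21416 :=
  Lgr Lrot61 (Lpe (K62.f757751 IH) (Lpr_bt (K37.f544203 IH) (Lpr_ft (K62.f795743 IH) (Lpn K62.v21416))))
theorem f92328 : Led Lsl_gt (LP (LK LD1_c7 LD2_c18 LD3_c61)) = (LP (LK LD1_c13 LD2_c50 LD3_c24)) :=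
  Lre_g IH (LK LD1_c7 LD2_c18 LD3_c61) (LK LD1_c13 LD2_c50 LD3_c24) Lrfl Lrfl
theorem f488305 : Led Lsl_bf (LP (LK LD1_c13 LD2_c50 LD3_c24)) = (LP (LK LD1_c7 LD2_c19 LD3_c8)) :=
  Lgr Lrot34 (Lpe (f92328 IH) (Lpe (K4.f92321 IH) (Lpr_ct (K33.f92322 IH) (Lpr_gf (K33.f121771 IH) (Lpr_cf (K37.f466599 IH) (Lpe (K28.f97380 IH) (Lpe (K37.f108484 IH) (Lpr_ct (K37.f147270 IH) (Lpe (K37.f147284 IH) (Lpr_cf (K37.f488284 IH) (Lpn (LP (LK LD1_c7 LD2_c19 LD3_c8)))))))))))))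
theorem f488307 : Led Lsl_bt (LP (LK LD1_c13 LD2_c50 LD3_c24)) = (LP (LK LD1_c7 LD2_c19 LD3_c8)) :=
  Lgr Lrot127 (Lpr_bf (f488305 IH) (Lpn (LP (LK LD1_c7 LD2_c19 LD3_c8))))
theorem f795757 : Led Lsl_ft (LP (LK LD1_c14 LD2_c12 LD3_c35)) = (LP (LK LD1_c13 LD2_c50 LD3_c28)) :=
  Lgr Lrot2 (Lpe (K62.f589985 IH) (Lpr_gt (K61.f578268 IH) (Lpr_af (K62.f795749 IH) (Lpn (LP (LK LD1_c13 LD2_c50 LD3_c28))))))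
theorem f466497 : Led Lsl_bt (LP (LK LD1_c13 LD2_c50 LD3_c23)) = (LP (LK LD1_c14 LD2_c12 LD3_c35)) :=
  Lgr Lrot127 (Lpr_bf (K33.f466495 IH) (Lpn (LP (LK LD1_c14 LD2_c12 LD3_c35))))
theorem f795763 : (LP (LK LD1_c13 LD2_c50 LD3_c23)) = K62.v21414 :=
  (Llr Lrot61 (Lpr_bt (f466497 IH) (Lpr_ft (f795757 IH) (Lpr_bt (K28.f92320 IH) (Lpr_ft (K62.f795737 IH) (Lpn K62.v21414)))))).symm
theorem f795738 : Led Lsl_ff (LP (LK LD1_c7 LD2_c18 LD3_c59)) = K62.v21414 :=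
  Lgr Lrot3 (Lpr_ft (K62.f795737 IH) (Lpn K62.v21414))
theorem f795747 : Led Lsl_at (LP (LK LD1_c7 LD2_c18 LD3_c59)) = K62.v21416 :=
  Lgr Lrot66 (Lpr_ff (f795738 IH) (Lpe (K62.f795735 IH) (Lpr_ff (K62.f795746 IH) (Lpn K62.v21416))))
theorem f795768 : K62.v21416 = (LP (LK LD1_c13 LD2_c50 LD3_c24)) :=
  (Llr Lrot26 (Lpe (f795747 IH) (Lpr_ff (f795738 IH) (Lpq (f795763 IH) (Lpr_gt (K33.f92333 IH) (Lpr_gt (f92328 IH) (Lpn (LP (LK LD1_c13 LD2_c50 LD3_c24))))))))).symm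
theorem f795773 : K62.v17217 = (LP (LK LD1_c7 LD2_c19 LD3_c8)) :=
  Lefun (Lecon (Lfl_bf (f795745 IH)) (f795768 IH)) (f488307 IH)
theorem f795780 : Led Lsl_ff (LP (LK LD1_c12 LD2_c8 LD3_c9)) = (LP (LK LD1_c11 LD2_c59 LD3_c30)) :=
  Lgr Lrot19 (Lpr_dt (K40.f38044 IH) (Lpr_ft (K62.f757749 IH) (Lpqs (f795773 IH) (Lpe (K37.f543408 IH) (Lpn (LP (LK LD1_c11 LD2_c59 LD3_c30)))))))
theorem f795786 : Led Lsl_at (LP (LK LD1_c12 LD2_c8 LD3_c9)) = (LP (LK LD1_c13 LD2_c50 LD3_c41)) :=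
  Lgr Lrot26 (Lpr_ff (f795780 IH) (Lpr_gt (K57.f607726 IH) (Lpr_gt (K37.f543372 IH) (Lpn (LP (LK LD1_c13 LD2_c50 LD3_c41))))))
theorem f795794 : K62.v17216 = (LP (LK LD1_c7 LD2_c19 LD3_c7)) :=
  (Llr Lrot117 (Lpe (K62.f757746 IH) (Lpr_dt (K40.f80497 IH) (Lpr_at (f795786 IH) (Lpr_dt (K37.f533550 IH) (Lpn (LP (LK LD1_c7 LD2_c19 LD3_c7)))))))).symm
theorem f795803 : Led Lsl_ff (LP (LK LD1_c8 LD2_c48 LD3_c33)) = (LP (LK LD1_c13 LD2_c50 LD3_c41)) :=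
  Lgr Lrot19 (Lpe (K46.f70561 IH) (Lpr_ft (K62.f757747 IH) (Lpqs (f795794 IH) (Lpr_dt (K37.f106001 IH) (Lpn (LP (LK LD1_c13 LD2_c50 LD3_c41)))))))
theorem f795809 : Led Lsl_ft (LP (LK LD1_c8 LD2_c48 LD3_c33)) = (LP (LK LD1_c13 LD2_c50 LD3_c41)) :=
  Lgr Lrot48 (Lpr_ff (f795803 IH) (Lpn (LP (LK LD1_c13 LD2_c50 LD3_c41))))
theorem f795788 : Led Lsl_af (LP (LK LD1_c12 LD2_c8 LD3_c9)) = (LP (LK LD1_c13 LD2_c50 LD3_c41)) :=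
  Lgr Lrot0 (Lpr_at (f795786 IH) (Lpn (LP (LK LD1_c13 LD2_c50 LD3_c41))))
theorem f795784 : Led Lsl_ft (LP (LK LD1_c12 LD2_c8 LD3_c9)) = (LP (LK LD1_c11 LD2_c59 LD3_c30)) :=
  Lgr Lrot48 (Lpr_ff (f795780 IH) (Lpn (LP (LK LD1_c11 LD2_c59 LD3_c30))))
theorem f795811 : Led Lsl_af (LP (LK LD1_c8 LD2_c48 LD3_c33)) = (LP (LK LD1_c11 LD2_c59 LD3_c30)) :=
  Lgr Lrot45 (Lpr_ft (f795809 IH) (Lpe (f795788 IH) (Lpr_ft (f795784 IH) (Lpn (LP (LK LD1_c11 LD2_c59 LD3_c30))))))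
theorem f795815 : v12658 = (LP (LK LD1_c6 LD2_c9 LD3_c11)) :=
  (Llr Lrot80 (Lpe (f696628 IH) (Lpe (K46.f38310 IH) (Lpr_af (f795811 IH) (Lpe (K37.f35568 IH) (Lpn (LP (LK LD1_c6 LD2_c9 LD3_c11)))))))).symm
theorem f795816 : (LP (LK LD1_c4 LD2_c25 LD3_c30)) = v16952 :=
  Lefun (Lecon (Lfl_af (f696629 IH)) (f795815 IH)) (f753747 IH)
theorem f795827 : (LP (LK LD1_c6 LD2_c9 LD3_c12)) = v12659 :=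
  Lefun (Lecon (Lfl_ff (f753750 IH)) (f795816 IH).symm) (f696634 IH)
theorem f795832 : v12655 = (LP (LK LD1_c7 LD2_c57 LD3_c1)) :=
  Lefun (Lecon (Lfl_cf (f696636 IH)) (f795827 IH).symm) (f38691 IH)
theorem f795837 : Led Lsl_ff (LP (LK LD1_c8 LD2_c47 LD3_c51)) = (LP (LK LD1_c14 LD2_c59 LD3_c50)) :=
  Lgr Lrot19 (Lpr_dt (K43.f255536 IH) (Lpr_ft (f696614 IH) (Lpqs (f795832 IH) (Lpr_dt (K37.f38684 IH) (Lpn (LP (LK LD1_c14 LD2_c59 LD3_c50)))))))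
theorem f227348 : Led Lsl_dt (LP (LK LD1_c11 LD2_c6 LD3_c15)) = (LP (LK LD1_c19 LD2_c59 LD3_c46)) :=
  Lre_d IH (LK LD1_c11 LD2_c6 LD3_c15) (LK LD1_c19 LD2_c59 LD3_c46) Lrfl Lrfl
theorem f696960 : Led Lsl_ft (LP (LK LD1_c19 LD2_c59 LD3_c46)) = (LP (LK LD1_c16 LD2_c33 LD3_c28)) :=
  Lgr Lrot54 (Lpe (f227348 IH) (Lpr_ff (K57.f696953 IH) (Lpe (K37.f211180 IH) (Lpn (LP (LK LD1_c16 LD2_c33 LD3_c28))))))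
theorem f164934 : Led Lsl_dt (LP (LK LD1_c19 LD2_c59 LD3_c46)) = (LP (LK LD1_c11 LD2_c6 LD3_c15)) :=
  Lre_d IH (LK LD1_c19 LD2_c59 LD3_c46) (LK LD1_c11 LD2_c6 LD3_c15) Lrfl Lrfl
theorem f53290 : Led Lsl_gt (LP (LK LD1_c8 LD2_c23 LD3_c58)) = (LP (LK LD1_c15 LD2_c47 LD3_c31)) :=
  Lre_g IH (LK LD1_c8 LD2_c23 LD3_c58) (LK LD1_c15 LD2_c47 LD3_c31) Lrfl Lrfl
theorem f227344 : Led Lsl_et (LP (LK LD1_c19 LD2_c59 LD3_c46)) = (LP (LK LD1_c15 LD2_c47 LD3_c31)) :=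
  Lgr Lrot122 (Lpr_dt (f164934 IH) (Lpr_gt (K57.f164933 IH) (Lpr_df (K32.f164890 IH) (Lpr_et (K37.f164932 IH) (Lpr_gt (K13.f201908 IH) (Lpr_dt (K2.f70817 IH) (Lpr_gt (K13.f227339 IH) (Lpe (K13.f53244 IH) (Lpr_et (K36.f53259 IH) (Lpr_gt (f53290 IH) (Lpn (LP (LK LD1_c15 LD2_c47 LD3_c31)))))))))))))
theorem f227349 : Led Lsl_ef (LP (LK LD1_c19 LD2_c59 LD3_c46)) = (LP (LK LD1_c15 LD2_c47 LD3_c31)) :=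
  Lgr Lrot88 (Lpr_et (f227344 IH) (Lpn (LP (LK LD1_c15 LD2_c47 LD3_c31))))
theorem f697027 : Led Lsl_ff (LP (LK LD1_c15 LD2_c47 LD3_c31)) = (LP (LK LD1_c10 LD2_c17 LD3_c36)) :=
  Lgr Lrot72 (Lpe (f227349 IH) (Lpr_ft (f696960 IH) (Lpr_et (K37.f211181 IH) (Lpr_ft (K50.f99372 IH) (Lpr_et (K57.f697021 IH) (Lpn (LP (LK LD1_c10 LD2_c17 LD3_c36))))))))
theorem f697033 : Led Lsl_ft (LP (LK LD1_c15 LD2_c47 LD3_c31)) = (LP (LK LD1_c10 LD2_c17 LD3_c36)) :=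
  Lgr Lrot48 (Lpr_ff (f697027 IH) (Lpn (LP (LK LD1_c10 LD2_c17 LD3_c36))))
theorem f418391 : Led Lsl_df (LP (LK LD1_c15 LD2_c23 LD3_c56)) = (LP (LK LD1_c10 LD2_c17 LD3_c36)) :=
  Lgr Lrot38 (Lpr_dt (K47.f229365 IH) (Lpn (LP (LK LD1_c10 LD2_c17 LD3_c36))))
theorem f418395 : Led Lsl_ft (LP (LK LD1_c15 LD2_c23 LD3_c56)) = (LP (LK LD1_c25 LD2_c16 LD3_c26)) :=
  Lre_f IH (LK LD1_c15 LD2_c23 LD3_c56) (LK LD1_c25 LD2_c16 LD3_c26) Lrfl Lrfl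
theorem f697038 : Led Lsl_df (LP (LK LD1_c15 LD2_c47 LD3_c31)) = (LP (LK LD1_c25 LD2_c16 LD3_c26)) :=
  Lgr Lrot78 (Lpr_ft (f697033 IH) (Lpe (f418391 IH) (Lpr_ft (f418395 IH) (Lpn (LP (LK LD1_c25 LD2_c16 LD3_c26))))))
theorem f697029 : Led Lsl_at (LP (LK LD1_c15 LD2_c47 LD3_c31)) = (LP (LK LD1_c10 LD2_c17 LD3_c35)) :=
  Lgr Lrot66 (Lpr_ff (f697027 IH) (Lpe (K57.f697009 IH) (Lpr_ff (K57.f697003 IH) (Lpn (LP (LK LD1_c10 LD2_c17 LD3_c35))))))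
theorem f201766 : Led Lsl_dt (LP (LK LD1_c10 LD2_c17 LD3_c35)) = (LP (LK LD1_c18 LD2_c42 LD3_c38)) :=
  Lre_d IH (LK LD1_c10 LD2_c17 LD3_c35) (LK LD1_c18 LD2_c42 LD3_c38) Lrfl Lrfl
theorem f697062 : Led Lsl_at (LP (LK LD1_c18 LD2_c42 LD3_c38)) = (LP (LK LD1_c25 LD2_c16 LD3_c26)) :=
  Lgr Lrot51 (Lpe (f201766 IH) (Lpe (f697029 IH) (Lpr_df (f697038 IH) (Lpn (LP (LK LD1_c25 LD2_c16 LD3_c26))))))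
theorem f697068 : Led Lsl_af (LP (LK LD1_c18 LD2_c42 LD3_c38)) = (LP (LK LD1_c25 LD2_c16 LD3_c26)) :=
  Lgr Lrot0 (Lpr_at (f697062 IH) (Lpn (LP (LK LD1_c25 LD2_c16 LD3_c26))))
theorem f242156 : Led Lsl_et (LP (LK LD1_c8 LD2_c26 LD3_c4)) = (LP (LK LD1_c15 LD2_c50 LD3_c34)) :=
  Lre_e IH (LK LD1_c8 LD2_c26 LD3_c4) (LK LD1_c15 LD2_c50 LD3_c34) Lrfl Lrfl
theorem f696914 : Led Lsl_at (LP (LK LD1_c15 LD2_c50 LD3_c34)) = (LP (LK LD1_c15 LD2_c23 LD3_c56)) :=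
  Lgr Lrot80 (Lpe (f242156 IH) (Lpr_af (K57.f696909 IH) (Lpe (K47.f46744 IH) (Lpn (LP (LK LD1_c15 LD2_c23 LD3_c56))))))
theorem f697074 : Led Lsl_ft (LP (LK LD1_c18 LD2_c42 LD3_c38)) = (LP (LK LD1_c15 LD2_c50 LD3_c34)) :=
  Lgr Lrot101 (Lpr_af (f697068 IH) (Lpe (f418395 IH) (Lpe (f696914 IH) (Lpn (LP (LK LD1_c15 LD2_c50 LD3_c34))))))
theorem f229370 : Led Lsl_gt (LP (LK LD1_c25 LD2_c16 LD3_c25)) = (LP (LK LD1_c15 LD2_c23 LD3_c56)) :=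
  Lre_g IH (LK LD1_c25 LD2_c16 LD3_c25) (LK LD1_c15 LD2_c23 LD3_c56) Lrfl Lrfl
theorem f697078 : Led Lsl_gt (LP (LK LD1_c18 LD2_c42 LD3_c38)) = (LP (LK LD1_c25 LD2_c16 LD3_c25)) :=
  Lgr Lrot5 (Lpr_ft (f697074 IH) (Lpr_at (f696914 IH) (Lpe (f229370 IH) (Lpn (LP (LK LD1_c25 LD2_c16 LD3_c25))))))
theorem f201893 : Led Lsl_gt (LP (LK LD1_c18 LD2_c40 LD3_c52)) = (LP (LK LD1_c10 LD2_c16 LD3_c18)) :=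
  Lre_g IH (LK LD1_c18 LD2_c40 LD3_c52) (LK LD1_c10 LD2_c16 LD3_c18) Lrfl Lrfl
theorem f418316 : Led Lsl_et (LP (LK LD1_c28 LD2_c12 LD3_c23)) = (LP (LK LD1_c18 LD2_c40 LD3_c52)) :=
  Lre_e IH (LK LD1_c28 LD2_c12 LD3_c23) (LK LD1_c18 LD2_c40 LD3_c52) Lrfl Lrfl
theorem f697080 : Led Lsl_dt (LP (LK LD1_c28 LD2_c12 LD3_c23)) = (LP (LK LD1_c25 LD2_c16 LD3_c25)) :=
  Lgr Lrot56 (Lpr_et (f418316 IH) (Lpr_gt (f201893 IH) (Lpe (K11.f201626 IH) (Lpr_dt (K12.f201624 IH) (Lpr_gt (K11.f171694 IH) (Lpe (K24.f187928 IH) (Lpr_et (K57.f201447 IH) (Lpr_gt (K57.f201454 IH) (Lpr_dt (f201766 IH) (Lpr_gt (f697078 IH) (Lpn (LP (LK LD1_c25 LD2_c16 LD3_c25)))))))))))))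
theorem f607479 : Led Lsl_ef (LP (LK LD1_c11 LD2_c29 LD3_c17)) = (LP (LK LD1_c16 LD2_c31 LD3_c43)) :=
  Lgr Lrot88 (Lpr_et (K47.f607453 IH) (Lpn (LP (LK LD1_c16 LD2_c31 LD3_c43))))
theorem f407930 : Led Lsl_dt (LP (LK LD1_c16 LD2_c21 LD3_c14)) = (LP (LK LD1_c12 LD2_c23 LD3_c53)) :=
  Lgr Lrot44 (Lpe (K32.f407839 IH) (Lpe (K32.f239066 IH) (Lpr_af (K32.f407921 IH) (Lpn (LP (LK LD1_c12 LD2_c23 LD3_c53))))))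
theorem f408029 : Led Lsl_gf (LP (LK LD1_c11 LD2_c29 LD3_c17)) = (LP (LK LD1_c12 LD2_c23 LD3_c53)) :=
  Lgr Lrot134 (Lpr_df (K47.f239074 IH) (Lpr_et (K47.f38870 IH) (Lpr_gt (K37.f38859 IH) (Lpe (K37.f38871 IH) (Lpr_dt (K9.f16374 IH) (Lpe (K37.f101391 IH) (Lpe (K37.f237419 IH) (Lpr_et (K37.f237418 IH) (Lpr_gt (K37.f407845 IH) (Lpr_dt (f407930 IH) (Lpn (LP (LK LD1_c12 LD2_c23 LD3_c53)))))))))))))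
theorem f36378 : Led Lsl_dt (LP (LK LD1_c12 LD2_c23 LD3_c8)) = (LP (LK LD1_c16 LD2_c11 LD3_c50)) :=
  Lgr Lrot42 (Lpr_df (K32.f36362 IH) (Lpn (LP (LK LD1_c16 LD2_c11 LD3_c50))))
theorem f205363 : Led Lsl_dt (LP (LK LD1_c18 LD2_c41 LD3_c0)) = (LP (LK LD1_c10 LD2_c16 LD3_c21)) :=
  Lre_d IH (LK LD1_c18 LD2_c41 LD3_c0) (LK LD1_c10 LD2_c16 LD3_c21) Lrfl Lrfl
theorem f607443 : Led Lsl_gf (LP (LK LD1_c14 LD2_c59 LD3_c49)) = (LP (LK LD1_c20 LD2_c20 LD3_c61)) :=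
  Lgr Lrot144 (Lpe (K11.f59264 IH) (Lpr_gt (K11.f59261 IH) (Lpr_dt (K32.f59316 IH) (Lpr_cf (K41.f210821 IH) (Lpr_df (K40.f561102 IH) (Lpe (K37.f147288 IH) (Lpe (K40.f544246 IH) (Lpe (K46.f37357 IH) (Lpr_cf (K47.f607428 IH) (Lpn (LP (LK LD1_c20 LD2_c20 LD3_c61))))))))))))
theorem f607537 : Led Lsl_gf (LP (LK LD1_c18 LD2_c41 LD3_c0)) = (LP (LK LD1_c17 LD2_c15 LD3_c24)) :=
  Lgr Lrot138 (Lpr_dt (f205363 IH) (Lpr_gt (K47.f303817 IH) (Lpe (f36378 IH) (Lpr_et (K32.f407932 IH) (Lpe (f408029 IH) (Lpr_ef (f607479 IH) (Lpe (K47.f576286 IH) (Lpe (f607443 IH) (Lpe (K37.f59308 IH) (Lpr_et (K37.f59310 IH) (Lpn (LP (LK LD1_c17 LD2_c15 LD3_c24)))))))))))))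
theorem f205355 : Led Lsl_dt (LP (LK LD1_c10 LD2_c16 LD3_c21)) = (LP (LK LD1_c18 LD2_c41 LD3_c0)) :=
  Lre_d IH (LK LD1_c10 LD2_c16 LD3_c21) (LK LD1_c18 LD2_c41 LD3_c0) Lrfl Lrfl
theorem f241168 : Led Lsl_et (LP (LK LD1_c10 LD2_c16 LD3_c21)) = (LP (LK LD1_c18 LD2_c41 LD3_c1)) :=
  Lre_e IH (LK LD1_c10 LD2_c16 LD3_c21) (LK LD1_c18 LD2_c41 LD3_c1) Lrfl Lrfl
theorem f59317 : Led Lsl_df (LP (LK LD1_c17 LD2_c15 LD3_c24)) = (LP (LK LD1_c24 LD2_c47 LD3_c11)) :=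
  Lgr Lrot38 (Lpr_dt (K37.f59314 IH) (Lpn (LP (LK LD1_c24 LD2_c47 LD3_c11))))
theorem f543239 : Led Lsl_ef (LP (LK LD1_c21 LD2_c30 LD3_c3)) = (LP (LK LD1_c23 LD2_c16 LD3_c56)) :=
  Lgr Lrot21 (Lpr_ft (K37.f543235 IH) (Lpr_et (K37.f526794 IH) (Lpe (K47.f526792 IH) (Lpr_et (K37.f482763 IH) (Lpr_ft (K37.f482756 IH) (Lpn (LP (LK LD1_c23 LD2_c16 LD3_c56))))))))
theorem f70813 : Led Lsl_ft (LP (LK LD1_c16 LD2_c28 LD3_c2)) = (LP (LK LD1_c8 LD2_c47 LD3_c61)) :=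
  Lre_f IH (LK LD1_c16 LD2_c28 LD3_c2) (LK LD1_c8 LD2_c47 LD3_c61) Lrfl Lrfl
theorem f418312 : Led Lsl_gf (LP (LK LD1_c18 LD2_c40 LD3_c52)) = (LP (LK LD1_c16 LD2_c28 LD3_c2)) :=
  Lgr Lrot47 (Lpr_gt (f201893 IH) (Lpr_af (K45.f418306 IH) (Lpe (f70813 IH) (Lpn (LP (LK LD1_c16 LD2_c28 LD3_c2))))))
theorem f201895 : Led Lsl_dt (LP (LK LD1_c18 LD2_c40 LD3_c52)) = (LP (LK LD1_c28 LD2_c12 LD3_c22)) :=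
  Lre_d IH (LK LD1_c18 LD2_c40 LD3_c52) (LK LD1_c28 LD2_c12 LD3_c22) Lrfl Lrfl
theorem f543259 : Led Lsl_gf (LP (LK LD1_c26 LD2_c24 LD3_c52)) = (LP (LK LD1_c28 LD2_c12 LD3_c22)) :=
  Lgr Lrot134 (Lpr_df (K37.f543247 IH) (Lpe (f543239 IH) (Lpr_gt (K37.f204968 IH) (Lpe (K37.f59326 IH) (Lpr_dt (K37.f59312 IH) (Lpr_gt (K11.f70795 IH) (Lpe (K11.f70785 IH) (Lpr_et (K2.f70786 IH) (Lpe (f418312 IH) (Lpr_dt (f201895 IH) (Lpn (LP (LK LD1_c28 LD2_c12 LD3_c22)))))))))))))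
theorem f418319 : Led Lsl_et (LP (LK LD1_c18 LD2_c40 LD3_c52)) = (LP (LK LD1_c28 LD2_c12 LD3_c23)) :=
  Lre_e IH (LK LD1_c18 LD2_c40 LD3_c52) (LK LD1_c28 LD2_c12 LD3_c23) Lrfl Lrfl
theorem f607541 : Led Lsl_gt (LP (LK LD1_c18 LD2_c41 LD3_c1)) = (LP (LK LD1_c28 LD2_c12 LD3_c23)) :=
  Lgr Lrot131 (Lpe (f241168 IH) (Lpr_dt (f205355 IH) (Lpr_gf (f607537 IH) (Lpr_df (f59317 IH) (Lpe (K37.f204968 IH) (Lpr_ef (f543239 IH) (Lpe (K37.f543247 IH) (Lpr_gf (f543259 IH) (Lpe (f201895 IH) (Lpr_et (f418319 IH) (Lpn (LP (LK LD1_c28 LD2_c12 LD3_c23)))))))))))))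
theorem f697084 : Led Lsl_gf (LP (LK LD1_c14 LD2_c59 LD3_c48)) = (LP (LK LD1_c16 LD2_c33 LD3_c30)) :=
  Lgr Lrot141 (Lpe (K37.f59313 IH) (Lpe (f59317 IH) (Lpe (f607537 IH) (Lpe (f205355 IH) (Lpr_et (f241168 IH) (Lpr_gt (f607541 IH) (Lpr_dt (f697080 IH) (Lpr_gt (f229370 IH) (Lpr_df (f418391 IH) (Lpe (K57.f697015 IH) (Lpn (LP (LK LD1_c16 LD2_c33 LD3_c30)))))))))))))
theorem f795841 : Led Lsl_at (LP (LK LD1_c8 LD2_c47 LD3_c51)) = (LP (LK LD1_c14 LD2_c59 LD3_c48)) :=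
  Lgr Lrot26 (Lpr_ff (f795837 IH) (Lpe (K57.f696871 IH) (Lpe (f697084 IH) (Lpn (LP (LK LD1_c14 LD2_c59 LD3_c48))))))
theorem f227651 : Led Lsl_et (LP (LK LD1_c16 LD2_c27 LD3_c50)) = (LP (LK LD1_c8 LD2_c47 LD3_c51)) :=
  Lre_e IH (LK LD1_c16 LD2_c27 LD3_c50) (LK LD1_c8 LD2_c47 LD3_c51) Lrfl Lrfl
theorem f795845 : Led Lsl_af (LP (LK LD1_c16 LD2_c27 LD3_c50)) = (LP (LK LD1_c24 LD2_c47 LD3_c11)) :=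
  Lgr Lrot50 (Lpr_et (f227651 IH) (Lpr_at (f795841 IH) (Lpr_et (K37.f59326 IH) (Lpn (LP (LK LD1_c24 LD2_c47 LD3_c11))))))
theorem f420700 : Led Lsl_ft (LP (LK LD1_c16 LD2_c27 LD3_c50)) = (LP (LK LD1_c26 LD2_c25 LD3_c3)) :=
  Lre_f IH (LK LD1_c16 LD2_c27 LD3_c50) (LK LD1_c26 LD2_c25 LD3_c3) Lrfl Lrfl
theorem f609046 : Led Lsl_at (LP (LK LD1_c26 LD2_c25 LD3_c3)) = (LP (LK LD1_c27 LD2_c57 LD3_c40)) :=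
  Lgr Lrot26 (Lpe (f420700 IH) (Lpr_gt (K43.f567321 IH) (Lpr_gt (K63.f609044 IH) (Lpn (LP (LK LD1_c27 LD2_c57 LD3_c40))))))
theorem f795852 : Led Lsl_ft (LP (LK LD1_c27 LD2_c57 LD3_c40)) = (LP (LK LD1_c24 LD2_c47 LD3_c11)) :=
  Lgr Lrot101 (Lpe (f609046 IH) (Lpe (f420700 IH) (Lpr_af (f795845 IH) (Lpn (LP (LK LD1_c24 LD2_c47 LD3_c11))))))
theorem f795856 : Led Lsl_ff (LP (LK LD1_c27 LD2_c57 LD3_c40)) = (LP (LK LD1_c24 LD2_c47 LD3_c11)) :=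
  Lgr Lrot3 (Lpr_ft (f795852 IH) (Lpn (LP (LK LD1_c24 LD2_c47 LD3_c11))))
theorem f609048 : Led Lsl_af (LP (LK LD1_c26 LD2_c25 LD3_c3)) = (LP (LK LD1_c27 LD2_c57 LD3_c40)) :=
  Lgr Lrot0 (Lpr_at (f609046 IH) (Lpn (LP (LK LD1_c27 LD2_c57 LD3_c40))))
theorem f795860 : Led Lsl_gf (LP (LK LD1_c26 LD2_c25 LD3_c3)) = (LP (LK LD1_c18 LD2_c23 LD3_c6)) :=
  Lgr Lrot76 (Lpr_af (f609048 IH) (Lpr_ff (f795856 IH) (Lpe (K37.f204959 IH) (Lpn (LP (LK LD1_c18 LD2_c23 LD3_c6))))))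
theorem f567337 : Led Lsl_at (LP (LK LD1_c26 LD2_c22 LD3_c51)) = (LP (LK LD1_c21 LD2_c30 LD3_c3)) :=
  Lgr Lrot66 (Lpr_ff (K43.f567335 IH) (Lpr_af (K37.f543233 IH) (Lpe (K37.f543235 IH) (Lpn (LP (LK LD1_c21 LD2_c30 LD3_c3))))))
theorem f795862 : Led Lsl_gt (LP (LK LD1_c26 LD2_c25 LD3_c3)) = (LP (LK LD1_c21 LD2_c30 LD3_c3)) :=
  Lgr Lrot46 (Lpr_gf (f795860 IH) (Lpe (K43.f567335 IH) (Lpr_at (f567337 IH) (Lpn (LP (LK LD1_c21 LD2_c30 LD3_c3))))))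
theorem f36391 : Led Lsl_dt (LP (LK LD1_c21 LD2_c30 LD3_c3)) = (LP (LK LD1_c12 LD2_c23 LD3_c6)) :=
  Lre_d IH (LK LD1_c21 LD2_c30 LD3_c3) (LK LD1_c12 LD2_c23 LD3_c6) Lrfl Lrfl
theorem f303822 : Led Lsl_gf (LP (LK LD1_c16 LD2_c25 LD3_c18)) = (LP (LK LD1_c12 LD2_c23 LD3_c6)) :=
  Lgr Lrot76 (Lpr_af (K32.f303815 IH) (Lpe (K32.f36364 IH) (Lpr_gt (K37.f36371 IH) (Lpn (LP (LK LD1_c12 LD2_c23 LD3_c6))))))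
theorem f92616 : Led Lsl_gt (LP (LK LD1_c23 LD2_c9 LD3_c16)) = (LP (LK LD1_c13 LD2_c43 LD3_c1)) :=
  Lre_g IH (LK LD1_c23 LD2_c9 LD3_c16) (LK LD1_c13 LD2_c43 LD3_c1) Lrfl Lrfl
theorem f609820 : Led Lsl_gf (LP (LK LD1_c23 LD2_c9 LD3_c16)) = (LP (LK LD1_c26 LD2_c21 LD3_c21)) :=
  Lgr Lrot47 (Lpr_gt (f92616 IH) (Lpe (K47.f526162 IH) (Lpr_ff (K47.f609814 IH) (Lpn (LP (LK LD1_c26 LD2_c21 LD3_c21))))))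
theorem f239510 : Led Lsl_gt (LP (LK LD1_c18 LD2_c22 LD3_c58)) = (LP (LK LD1_c10 LD2_c4 LD3_c14)) :=
  Lre_g IH (LK LD1_c18 LD2_c22 LD3_c58) (LK LD1_c10 LD2_c4 LD3_c14) Lrfl Lrfl
theorem f609823 : Led Lsl_dt (LP (LK LD1_c23 LD2_c9 LD3_c16)) = (LP (LK LD1_c18 LD2_c22 LD3_c58)) :=
  Lgr Lrot171 (Lpr_gf (f609820 IH) (Lpe (K47.f38895 IH) (Lpr_dt (K47.f38887 IH) (Lpe (K37.f38882 IH) (Lpe (K37.f16379 IH) (Lpr_et (K47.f101039 IH) (Lpe (K13.f101380 IH) (Lpe (K47.f101074 IH) (Lpr_dt (K39.f241045 IH) (Lpe (f239510 IH) (Lpn (LP (LK LD1_c18 LD2_c22 LD3_c58)))))))))))))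
theorem f609825 : Led Lsl_df (LP (LK LD1_c23 LD2_c9 LD3_c16)) = (LP (LK LD1_c18 LD2_c22 LD3_c58)) :=
  Lgr Lrot38 (Lpr_dt (f609823 IH) (Lpn (LP (LK LD1_c18 LD2_c22 LD3_c58))))
theorem f795864 : Led Lsl_ef (LP (LK LD1_c26 LD2_c25 LD3_c3)) = (LP (LK LD1_c18 LD2_c22 LD3_c58)) :=
  Lgr Lrot167 (Lpr_gt (f795862 IH) (Lpr_dt (f36391 IH) (Lpe (f303822 IH) (Lpr_df (K32.f205351 IH) (Lpr_et (K32.f303894 IH) (Lpe (K37.f303999 IH) (Lpe (K47.f180167 IH) (Lpr_dt (K47.f408060 IH) (Lpe (f609820 IH) (Lpr_df (f609825 IH) (Lpn (LP (LK LD1_c18 LD2_c22 LD3_c58)))))))))))))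
theorem f609052 : Led Lsl_ft (LP (LK LD1_c26 LD2_c25 LD3_c3)) = (LP (LK LD1_c16 LD2_c27 LD3_c50)) :=
  Lre_f IH (LK LD1_c26 LD2_c25 LD3_c3) (LK LD1_c16 LD2_c27 LD3_c50) Lrfl Lrfl
theorem f795839 : Led Lsl_ft (LP (LK LD1_c8 LD2_c47 LD3_c51)) = (LP (LK LD1_c14 LD2_c59 LD3_c50)) :=
  Lgr Lrot48 (Lpr_ff (f795837 IH) (Lpn (LP (LK LD1_c14 LD2_c59 LD3_c50))))
theorem f795870 : Led Lsl_ft (LP (LK LD1_c18 LD2_c18 LD3_c56)) = (LP (LK LD1_c18 LD2_c22 LD3_c58)) :=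
  Lgr Lrot86 (Lpr_ef (K40.f201361 IH) (Lpe (f795839 IH) (Lpe (f227651 IH) (Lpe (f609052 IH) (Lpr_ef (f795864 IH) (Lpn (LP (LK LD1_c18 LD2_c22 LD3_c58))))))))
theorem f795876 : Led Lsl_af (LP (LK LD1_c18 LD2_c18 LD3_c57)) = (LP (LK LD1_c18 LD2_c22 LD3_c58)) :=
  Lgr Lrot31 (Lpe (K63.f410899 IH) (Lpr_gf (K47.f410775 IH) (Lpr_ft (f795870 IH) (Lpn (LP (LK LD1_c18 LD2_c22 LD3_c58))))))
theorem f795878 : Led Lsl_at (LP (LK LD1_c26 LD2_c31 LD3_c7)) = (LP (LK LD1_c23 LD2_c9 LD3_c16)) :=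
  Lgr Lrot51 (Lpe (K63.f205050 IH) (Lpr_af (f795876 IH) (Lpe (f609823 IH) (Lpn (LP (LK LD1_c23 LD2_c9 LD3_c16))))))
theorem f795884 : Led Lsl_ff (LP (LK LD1_c26 LD2_c31 LD3_c7)) = (LP (LK LD1_c23 LD2_c9 LD3_c15)) :=
  Lgr Lrot52 (Lpr_at (f795878 IH) (Lpr_gf (f609820 IH) (Lpe (K47.f609839 IH) (Lpn (LP (LK LD1_c23 LD2_c9 LD3_c15))))))
theorem f795890 : Led Lsl_ft (LP (LK LD1_c26 LD2_c31 LD3_c7)) = (LP (LK LD1_c23 LD2_c9 LD3_c15)) :=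
  Lgr Lrot48 (Lpr_ff (f795884 IH) (Lpn (LP (LK LD1_c23 LD2_c9 LD3_c15))))
theorem f609818 : Led Lsl_ft (LP (LK LD1_c23 LD2_c9 LD3_c12)) = (LP (LK LD1_c26 LD2_c21 LD3_c21)) :=
  Lgr Lrot48 (Lpr_ff (K47.f609814 IH) (Lpn (LP (LK LD1_c26 LD2_c21 LD3_c21))))
theorem f609734 : Led Lsl_at (LP (LK LD1_c26 LD2_c21 LD3_c21)) = (LP (LK LD1_c23 LD2_c9 LD3_c18)) :=
  Lgr Lrot51 (Lpe (K47.f408060 IH) (Lpr_af (K47.f609728 IH) (Lpe (K47.f609022 IH) (Lpn (LP (LK LD1_c23 LD2_c9 LD3_c18))))))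
theorem f609038 : Led Lsl_gf (LP (LK LD1_c23 LD2_c9 LD3_c18)) = (LP (LK LD1_c26 LD2_c30 LD3_c20)) :=
  Lgr Lrot141 (Lpr_ef (K47.f609030 IH) (Lpr_dt (K47.f39227 IH) (Lpe (K37.f407847 IH) (Lpe (K37.f16365 IH) (Lpr_et (K40.f16364 IH) (Lpr_gt (K2.f16578 IH) (Lpe (K40.f56379 IH) (Lpe (K40.f445117 IH) (Lpe (K1.f38677 IH) (Lpr_et (K40.f38679 IH) (Lpn (LP (LK LD1_c26 LD2_c30 LD3_c20)))))))))))))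
theorem f609832 : Led Lsl_gt (LP (LK LD1_c23 LD2_c9 LD3_c12)) = (LP (LK LD1_c26 LD2_c30 LD3_c20)) :=
  Lgr Lrot5 (Lpr_ft (f609818 IH) (Lpr_at (f609734 IH) (Lpr_gf (f609038 IH) (Lpn (LP (LK LD1_c26 LD2_c30 LD3_c20))))))
theorem f795894 : Led Lsl_af (LP (LK LD1_c26 LD2_c30 LD3_c20)) = (LP (LK LD1_c23 LD2_c9 LD3_c15)) :=
  Lgr Lrot31 (Lpe (f609832 IH) (Lpr_gf (K63.f609040 IH) (Lpr_ft (f795890 IH) (Lpn (LP (LK LD1_c23 LD2_c9 LD3_c15))))))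
theorem f609841 : Led Lsl_ef (LP (LK LD1_c23 LD2_c9 LD3_c15)) = (LP (LK LD1_c16 LD2_c27 LD3_c57)) :=
  Lgr Lrot167 (Lpr_gt (K47.f609839 IH) (Lpe (K47.f408176 IH) (Lpr_gt (K50.f503192 IH) (Lpe (K50.f198016 IH) (Lpr_et (K50.f410897 IH) (Lpe (K50.f503190 IH) (Lpe (K50.f443807 IH) (Lpr_dt (K37.f443805 IH) (Lpr_gt (K40.f445108 IH) (Lpe (K46.f408080 IH) (Lpn (LP (LK LD1_c16 LD2_c27 LD3_c57)))))))))))))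
theorem f795898 : Led Lsl_at (LP (LK LD1_c16 LD2_c33 LD3_c35)) = (LP (LK LD1_c16 LD2_c27 LD3_c57)) :=
  Lgr Lrot80 (Lpe (K40.f38663 IH) (Lpr_af (f795894 IH) (Lpr_ef (f609841 IH) (Lpn (LP (LK LD1_c16 LD2_c27 LD3_c57))))))
theorem f795908 : Led Lsl_ff (LP (LK LD1_c16 LD2_c33 LD3_c35)) = (LP (LK LD1_c16 LD2_c32 LD3_c13)) :=
  Lgr Lrot52 (Lpr_at (f795898 IH) (Lpe (K40.f70557 IH) (Lpe (K46.f16455 IH) (Lpn (LP (LK LD1_c16 LD2_c32 LD3_c13))))))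
theorem f795916 : Led Lsl_ft (LP (LK LD1_c16 LD2_c33 LD3_c35)) = (LP (LK LD1_c16 LD2_c32 LD3_c13)) :=
  Lgr Lrot48 (Lpr_ff (f795908 IH) (Lpn (LP (LK LD1_c16 LD2_c32 LD3_c13))))
theorem f445368 : Led Lsl_ct (LP (LK LD1_c3 LD2_c58 LD3_c0)) = (LP (LK LD1_c6 LD2_c13 LD3_c34)) :=
  Lgr Lrot59 (Lpr_cf (K40.f445365 IH) (Lpn (LP (LK LD1_c6 LD2_c13 LD3_c34))))
theorem f445422 : Led Lsl_dt (LP (LK LD1_c21 LD2_c11 LD3_c47)) = (LP (LK LD1_c26 LD2_c30 LD3_c44)) :=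
  Lgr Lrot173 (Lpe (K40.f443141 IH) (Lpe (K37.f36820 IH) (Lpe (f445368 IH) (Lpe (K47.f39986 IH) (Lpe (K61.f37806 IH) (Lpe (K40.f407888 IH) (Lpr_cf (K40.f445309 IH) (Lpr_df (K40.f407871 IH) (Lpe (K40.f70308 IH) (Lpe (K40.f36823 IH) (Lpe (K37.f70296 IH) (Lpe (K37.f70305 IH) (Lpe (K40.f70306 IH) (Lpe (K61.f70307 IH) (Lpr_cf (K61.f445398 IH) (Lpn (LP (LK LD1_c26 LD2_c30 LD3_c44))))))))))))))))))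
theorem f16431 : Led Lsl_gt (LP (LK LD1_c16 LD2_c33 LD3_c36)) = (LP (LK LD1_c8 LD2_c51 LD3_c28)) :=
  Lre_g IH (LK LD1_c16 LD2_c33 LD3_c36) (LK LD1_c8 LD2_c51 LD3_c28) Lrfl Lrfl
theorem f16433 : Led Lsl_ct (LP (LK LD1_c26 LD2_c30 LD3_c21)) = (LP (LK LD1_c16 LD2_c33 LD3_c36)) :=
  Lre_c IH (LK LD1_c26 LD2_c30 LD3_c21) (LK LD1_c16 LD2_c33 LD3_c36) Lrfl Lrfl
theorem f445433 : Led Lsl_gf (LP (LK LD1_c21 LD2_c11 LD3_c47)) = (LP (LK LD1_c26 LD2_c30 LD3_c21)) :=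
  Lgr Lrot144 (Lpr_dt (f445422 IH) (Lpe (K40.f38769 IH) (Lpr_dt (K40.f38711 IH) (Lpe (K40.f16406 IH) (Lpe (K1.f16345 IH) (Lpe (K37.f16423 IH) (Lpe (K47.f16430 IH) (Lpe (f16431 IH) (Lpe (f16433 IH) (Lpn (LP (LK LD1_c26 LD2_c30 LD3_c21))))))))))))
theorem f16432 : Led Lsl_ct (LP (LK LD1_c16 LD2_c33 LD3_c36)) = (LP (LK LD1_c26 LD2_c30 LD3_c21)) :=
  Lre_c IH (LK LD1_c16 LD2_c33 LD3_c36) (LK LD1_c26 LD2_c30 LD3_c21) Lrfl Lrfl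
theorem f445437 : Led Lsl_gt (LP (LK LD1_c8 LD2_c51 LD3_c31)) = (LP (LK LD1_c16 LD2_c33 LD3_c36)) :=
  Lgr Lrot9 (Lpe (K57.f16601 IH) (Lpr_gt (K37.f16598 IH) (Lpe (K1.f38698 IH) (Lpr_gt (K1.f37777 IH) (Lpr_ct (f445368 IH) (Lpe (K40.f59768 IH) (Lpe (K40.f443144 IH) (Lpr_gf (f445433 IH) (Lpe (f16432 IH) (Lpn (LP (LK LD1_c16 LD2_c33 LD3_c36))))))))))))
theorem f795924 : Led Lsl_af (LP (LK LD1_c16 LD2_c33 LD3_c36)) = (LP (LK LD1_c16 LD2_c32 LD3_c13)) :=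
  Lgr Lrot31 (Lpe (f445437 IH) (Lpe (K40.f205045 IH) (Lpr_ft (f795916 IH) (Lpn (LP (LK LD1_c16 LD2_c32 LD3_c13))))))
theorem f795902 : Led Lsl_af (LP (LK LD1_c16 LD2_c33 LD3_c35)) = (LP (LK LD1_c16 LD2_c27 LD3_c57)) :=
  Lgr Lrot0 (Lpr_at (f795898 IH) (Lpn (LP (LK LD1_c16 LD2_c27 LD3_c57))))
theorem f795934 : Led Lsl_ft (LP (LK LD1_c16 LD2_c33 LD3_c36)) = (LP (LK LD1_c16 LD2_c27 LD3_c57)) :=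
  Lgr Lrot101 (Lpr_af (f795924 IH) (Lpe (f795916 IH) (Lpr_af (f795902 IH) (Lpn (LP (LK LD1_c16 LD2_c27 LD3_c57))))))
theorem f795942 : Led Lsl_ff (LP (LK LD1_c16 LD2_c33 LD3_c36)) = (LP (LK LD1_c16 LD2_c27 LD3_c57)) :=
  Lgr Lrot3 (Lpr_ft (f795934 IH) (Lpn (LP (LK LD1_c16 LD2_c27 LD3_c57))))
theorem f269628 : Led Lsl_dt (LP (LK LD1_c26 LD2_c19 LD3_c15)) = (LP (LK LD1_c16 LD2_c21 LD3_c12)) :=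
  Lre_d IH (LK LD1_c26 LD2_c19 LD3_c15) (LK LD1_c16 LD2_c21 LD3_c12) Lrfl Lrfl
theorem f411299 : Led Lsl_gt (LP (LK LD1_c26 LD2_c28 LD3_c23)) = (LP (LK LD1_c16 LD2_c31 LD3_c54)) :=
  Lre_g IH (LK LD1_c26 LD2_c28 LD3_c23) (LK LD1_c16 LD2_c31 LD3_c54) Lrfl Lrfl
theorem f411300 : Led Lsl_et (LP (LK LD1_c26 LD2_c19 LD3_c15)) = (LP (LK LD1_c26 LD2_c28 LD3_c23)) :=
  Lgr Lrot121 (Lpr_dt (f269628 IH) (Lpe (K37.f269618 IH) (Lpe (K32.f269604 IH) (Lpr_et (K32.f407917 IH) (Lpe (K36.f25993 IH) (Lpe (K37.f205320 IH) (Lpe (K37.f411277 IH) (Lpe (K37.f410849 IH) (Lpr_df (K37.f411291 IH) (Lpe (f411299 IH) (Lpn (LP (LK LD1_c26 LD2_c28 LD3_c23)))))))))))))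
theorem f411304 : Led Lsl_ef (LP (LK LD1_c26 LD2_c19 LD3_c15)) = (LP (LK LD1_c26 LD2_c28 LD3_c23)) :=
  Lgr Lrot88 (Lpr_et (f411300 IH) (Lpn (LP (LK LD1_c26 LD2_c28 LD3_c23))))
theorem f269627 : Led Lsl_et (LP (LK LD1_c16 LD2_c21 LD3_c12)) = (LP (LK LD1_c26 LD2_c19 LD3_c16)) :=
  Lre_e IH (LK LD1_c16 LD2_c21 LD3_c12) (LK LD1_c26 LD2_c19 LD3_c16) Lrfl Lrfl
theorem f269626 : Led Lsl_et (LP (LK LD1_c16 LD2_c23 LD3_c29)) = (LP (LK LD1_c26 LD2_c21 LD3_c28)) :=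
  Lre_e IH (LK LD1_c16 LD2_c23 LD3_c29) (LK LD1_c26 LD2_c21 LD3_c28) Lrfl Lrfl
theorem f411306 : Led Lsl_dt (LP (LK LD1_c26 LD2_c21 LD3_c28)) = (LP (LK LD1_c26 LD2_c28 LD3_c23)) :=
  Lgr Lrot77 (Lpe (f269626 IH) (Lpr_df (K37.f269620 IH) (Lpe (f269627 IH) (Lpe (f269628 IH) (Lpr_ef (f411304 IH) (Lpn (LP (LK LD1_c26 LD2_c28 LD3_c23))))))))
theorem f101013 : Led Lsl_et (LP (LK LD1_c26 LD2_c21 LD3_c28)) = (LP (LK LD1_c16 LD2_c23 LD3_c29)) :=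
  Lre_e IH (LK LD1_c26 LD2_c21 LD3_c28) (LK LD1_c16 LD2_c23 LD3_c29) Lrfl Lrfl
theorem f411294 : Led Lsl_dt (LP (LK LD1_c21 LD2_c10 LD3_c36)) = (LP (LK LD1_c16 LD2_c31 LD3_c54)) :=
  Lgr Lrot42 (Lpr_df (K37.f411291 IH) (Lpn (LP (LK LD1_c16 LD2_c31 LD3_c54))))
theorem f411308 : Led Lsl_ef (LP (LK LD1_c16 LD2_c33 LD3_c36)) = (LP (LK LD1_c21 LD2_c10 LD3_c36)) :=
  Lgr Lrot167 (Lpr_gt (f16431 IH) (Lpr_dt (K47.f16430 IH) (Lpr_gt (K37.f16423 IH) (Lpe (K1.f16228 IH) (Lpr_et (K37.f16387 IH) (Lpe (K37.f101008 IH) (Lpe (f101013 IH) (Lpr_dt (f411306 IH) (Lpr_gt (f411299 IH) (Lpe (f411294 IH) (Lpn (LP (LK LD1_c21 LD2_c10 LD3_c36)))))))))))))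
theorem f411310 : Led Lsl_et (LP (LK LD1_c16 LD2_c33 LD3_c36)) = (LP (LK LD1_c21 LD2_c10 LD3_c36)) :=
  Lgr Lrot87 (Lpr_ef (f411308 IH) (Lpn (LP (LK LD1_c21 LD2_c10 LD3_c36))))
theorem f205053 : Led Lsl_et (LP (LK LD1_c16 LD2_c34 LD3_c3)) = (LP (LK LD1_c26 LD2_c31 LD3_c7)) :=
  Lre_e IH (LK LD1_c16 LD2_c34 LD3_c3) (LK LD1_c26 LD2_c31 LD3_c7) Lrfl Lrfl
theorem f795946 : Led Lsl_ft (LP (LK LD1_c21 LD2_c10 LD3_c36)) = (LP (LK LD1_c16 LD2_c34 LD3_c3)) :=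
  Lgr Lrot86 (Lpe (f411310 IH) (Lpr_ff (f795942 IH) (Lpe (K47.f609847 IH) (Lpe (f795890 IH) (Lpe (f205053 IH) (Lpn (LP (LK LD1_c16 LD2_c34 LD3_c3))))))))
theorem f101292 : Led Lsl_gt (LP (LK LD1_c12 LD2_c5 LD3_c10)) = (LP (LK LD1_c21 LD2_c10 LD3_c35)) :=
  Lre_g IH (LK LD1_c12 LD2_c5 LD3_c10) (LK LD1_c21 LD2_c10 LD3_c35) Lrfl Lrfl
theorem f795950 : Led Lsl_af (LP (LK LD1_c21 LD2_c10 LD3_c35)) = (LP (LK LD1_c16 LD2_c34 LD3_c3)) :=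
  Lgr Lrot31 (Lpe (f101292 IH) (Lpe (K37.f410849 IH) (Lpr_ft (f795946 IH) (Lpn (LP (LK LD1_c16 LD2_c34 LD3_c3))))))
theorem f795880 : Led Lsl_af (LP (LK LD1_c26 LD2_c31 LD3_c7)) = (LP (LK LD1_c23 LD2_c9 LD3_c16)) :=
  Lgr Lrot0 (Lpr_at (f795878 IH) (Lpn (LP (LK LD1_c23 LD2_c9 LD3_c16))))
theorem f795900 : Led Lsl_ft (LP (LK LD1_c26 LD2_c30 LD3_c20)) = (LP (LK LD1_c23 LD2_c9 LD3_c16)) :=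
  Lgr Lrot101 (Lpr_af (f795894 IH) (Lpe (f795890 IH) (Lpr_af (f795880 IH) (Lpn (LP (LK LD1_c23 LD2_c9 LD3_c16))))))
theorem f410769 : Led Lsl_gf (LP (LK LD1_c18 LD2_c22 LD3_c58)) = (LP (LK LD1_c18 LD2_c18 LD3_c58)) :=
  Lgr Lrot47 (Lpr_gt (f239510 IH) (Lpr_af (K47.f410759 IH) (Lpe (K39.f205000 IH) (Lpn (LP (LK LD1_c18 LD2_c18 LD3_c58))))))
theorem f197943 : Led Lsl_gt (LP (LK LD1_c8 LD2_c51 LD3_c47)) = (LP (LK LD1_c16 LD2_c34 LD3_c14)) :=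
  Lre_g IH (LK LD1_c8 LD2_c51 LD3_c47) (LK LD1_c16 LD2_c34 LD3_c14) Lrfl Lrfl
theorem f410673 : Led Lsl_gf (LP (LK LD1_c21 LD2_c10 LD3_c49)) = (LP (LK LD1_c16 LD2_c34 LD3_c14)) :=
  Lgr Lrot76 (Lpr_af (K37.f410559 IH) (Lpe (K47.f197937 IH) (Lpr_gt (f197943 IH) (Lpn (LP (LK LD1_c16 LD2_c34 LD3_c14))))))
theorem f197977 : Led Lsl_et (LP (LK LD1_c26 LD2_c31 LD3_c32)) = (LP (LK LD1_c16 LD2_c34 LD3_c14)) :=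
  Lre_e IH (LK LD1_c26 LD2_c31 LD3_c32) (LK LD1_c16 LD2_c34 LD3_c14) Lrfl Lrfl
theorem f411279 : Led Lsl_gt (LP (LK LD1_c21 LD2_c30 LD3_c45)) = (LP (LK LD1_c12 LD2_c23 LD3_c48)) :=
  Lre_g IH (LK LD1_c21 LD2_c30 LD3_c45) (LK LD1_c12 LD2_c23 LD3_c48) Lrfl Lrfl
theorem f411280 : Led Lsl_gt (LP (LK LD1_c20 LD2_c26 LD3_c22)) = (LP (LK LD1_c21 LD2_c30 LD3_c45)) :=
  Lgr Lrot5 (Lpr_ft (K37.f239022 IH) (Lpr_at (K37.f411273 IH) (Lpe (f411279 IH) (Lpn (LP (LK LD1_c21 LD2_c30 LD3_c45))))))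
theorem f192743 : Led Lsl_ft (LP (LK LD1_c8 LD2_c51 LD3_c39)) = (LP (LK LD1_c16 LD2_c33 LD3_c60)) :=
  Lre_f IH (LK LD1_c8 LD2_c51 LD3_c39) (LK LD1_c16 LD2_c33 LD3_c60) Lrfl Lrfl
theorem f192746 : Led Lsl_gt (LP (LK LD1_c8 LD2_c51 LD3_c39)) = (LP (LK LD1_c16 LD2_c33 LD3_c58)) :=
  Lre_g IH (LK LD1_c8 LD2_c51 LD3_c39) (LK LD1_c16 LD2_c33 LD3_c58) Lrfl Lrfl
theorem f271929 : Led Lsl_gf (LP (LK LD1_c21 LD2_c10 LD3_c32)) = (LP (LK LD1_c16 LD2_c33 LD3_c58)) :=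
  Lgr Lrot76 (Lpr_af (K16.f271923 IH) (Lpe (f192743 IH) (Lpr_gt (f192746 IH) (Lpn (LP (LK LD1_c16 LD2_c33 LD3_c58))))))
theorem f16446 : Led Lsl_et (LP (LK LD1_c8 LD2_c51 LD3_c28)) = (LP (LK LD1_c16 LD2_c33 LD3_c38)) :=
  Lre_e IH (LK LD1_c8 LD2_c51 LD3_c28) (LK LD1_c16 LD2_c33 LD3_c38) Lrfl Lrfl
theorem f38656 : Led Lsl_gt (LP (LK LD1_c16 LD2_c33 LD3_c38)) = (LP (LK LD1_c26 LD2_c30 LD3_c24)) :=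
  Lre_g IH (LK LD1_c16 LD2_c33 LD3_c38) (LK LD1_c26 LD2_c30 LD3_c24) Lrfl Lrfl
theorem f197946 : Led Lsl_gt (LP (LK LD1_c21 LD2_c12 LD3_c51)) = (LP (LK LD1_c12 LD2_c6 LD3_c46)) :=
  Lre_g IH (LK LD1_c21 LD2_c12 LD3_c51) (LK LD1_c12 LD2_c6 LD3_c46) Lrfl Lrfl
theorem f197947 : Led Lsl_dt (LP (LK LD1_c26 LD2_c30 LD3_c24)) = (LP (LK LD1_c21 LD2_c12 LD3_c51)) :=
  Lgr Lrot171 (Lpe (f38656 IH) (Lpe (f16446 IH) (Lpr_dt (K47.f16430 IH) (Lpe (K1.f16422 IH) (Lpe (K1.f16214 IH) (Lpr_et (K40.f16218 IH) (Lpe (K10.f35554 IH) (Lpe (K37.f101066 IH) (Lpr_dt (K37.f197925 IH) (Lpe (f197946 IH) (Lpn (LP (LK LD1_c21 LD2_c12 LD3_c51)))))))))))))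
theorem f197953 : Led Lsl_et (LP (LK LD1_c26 LD2_c30 LD3_c24)) = (LP (LK LD1_c16 LD2_c33 LD3_c58)) :=
  Lgr Lrot122 (Lpr_dt (f197947 IH) (Lpr_gt (f197946 IH) (Lpe (K37.f197925 IH) (Lpr_et (K37.f101066 IH) (Lpr_gt (K10.f35554 IH) (Lpr_dt (K9.f101019 IH) (Lpr_gt (K9.f101398 IH) (Lpe (K12.f101401 IH) (Lpr_et (K16.f101410 IH) (Lpr_gt (f192746 IH) (Lpn (LP (LK LD1_c16 LD2_c33 LD3_c58)))))))))))))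
theorem f410545 : Led Lsl_at (LP (LK LD1_c11 LD2_c23 LD3_c25)) = (LP (LK LD1_c12 LD2_c6 LD3_c46)) :=
  Lgr Lrot100 (Lpr_af (K37.f410543 IH) (Lpn (LP (LK LD1_c12 LD2_c6 LD3_c46))))
theorem f410959 : Led Lsl_gt (LP (LK LD1_c20 LD2_c21 LD3_c9)) = (LP (LK LD1_c21 LD2_c12 LD3_c51)) :=
  Lgr Lrot5 (Lpr_ft (K39.f69411 IH) (Lpr_at (f410545 IH) (Lpe (f197946 IH) (Lpn (LP (LK LD1_c21 LD2_c12 LD3_c51))))))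
theorem f411282 : Led Lsl_dt (LP (LK LD1_c26 LD2_c31 LD3_c32)) = (LP (LK LD1_c21 LD2_c30 LD3_c45)) :=
  Lgr Lrot37 (Lpr_et (f197977 IH) (Lpe (f410673 IH) (Lpe (K37.f69409 IH) (Lpr_gt (f410959 IH) (Lpe (f197947 IH) (Lpr_et (f197953 IH) (Lpe (f271929 IH) (Lpr_ef (K16.f271890 IH) (Lpe (K37.f239024 IH) (Lpr_gt (f411280 IH) (Lpn (LP (LK LD1_c21 LD2_c30 LD3_c45)))))))))))))
theorem f410842 : Led Lsl_gt (LP (LK LD1_c21 LD2_c10 LD3_c35)) = (LP (LK LD1_c16 LD2_c34 LD3_c5)) :=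
  Lgr Lrot46 (Lpe (f101292 IH) (Lpr_ft (K37.f410833 IH) (Lpr_at (K37.f410834 IH) (Lpn (LP (LK LD1_c16 LD2_c34 LD3_c5))))))
theorem f609828 : Led Lsl_et (LP (LK LD1_c23 LD2_c9 LD3_c16)) = (LP (LK LD1_c21 LD2_c10 LD3_c35)) :=
  Lgr Lrot121 (Lpr_dt (f609823 IH) (Lpr_gf (f410769 IH) (Lpr_df (K39.f205002 IH) (Lpe (K47.f410702 IH) (Lpr_gf (f410673 IH) (Lpe (f197977 IH) (Lpr_dt (f411282 IH) (Lpe (f411280 IH) (Lpr_df (K37.f239024 IH) (Lpe (f410842 IH) (Lpn (LP (LK LD1_c21 LD2_c10 LD3_c35)))))))))))))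
theorem f445530 : Led Lsl_et (LP (LK LD1_c16 LD2_c34 LD3_c4)) = (LP (LK LD1_c16 LD2_c32 LD3_c13)) :=
  Lgr Lrot87 (Lpr_ef (K47.f445526 IH) (Lpn (LP (LK LD1_c16 LD2_c32 LD3_c13))))
theorem f795914 : Led Lsl_ft (LP (LK LD1_c21 LD2_c10 LD3_c35)) = (LP (LK LD1_c16 LD2_c34 LD3_c4)) :=
  Lgr Lrot86 (Lpe (f609828 IH) (Lpe (f795900 IH) (Lpe (K40.f38679 IH) (Lpr_ff (f795908 IH) (Lpe (f445530 IH) (Lpn (LP (LK LD1_c16 LD2_c34 LD3_c4))))))))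
theorem f795952 : Led Lsl_at (LP (LK LD1_c16 LD2_c34 LD3_c4)) = (LP (LK LD1_c21 LD2_c10 LD3_c36)) :=
  Lgr Lrot66 (Lpe (f795914 IH) (Lpr_af (f795950 IH) (Lpe (f795946 IH) (Lpn (LP (LK LD1_c21 LD2_c10 LD3_c36))))))
theorem f239031 : Led Lsl_et (LP (LK LD1_c17 LD2_c15 LD3_c22)) = (LP (LK LD1_c9 LD2_c19 LD3_c38)) :=
  Lre_e IH (LK LD1_c17 LD2_c15 LD3_c22) (LK LD1_c9 LD2_c19 LD3_c38) Lrfl Lrfl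
theorem f239033 : Led Lsl_dt (LP (LK LD1_c17 LD2_c15 LD3_c22)) = (LP (LK LD1_c16 LD2_c34 LD3_c4)) :=
  Lgr Lrot136 (Lpr_et (f239031 IH) (Lpe (K47.f239030 IH) (Lpe (K37.f59324 IH) (Lpr_dt (K14.f59078 IH) (Lpr_gf (K14.f227757 IH) (Lpe (K32.f177130 IH) (Lpe (K36.f177131 IH) (Lpe (K37.f239014 IH) (Lpr_dt (K36.f239009 IH) (Lpe (K47.f239032 IH) (Lpn (LP (LK LD1_c16 LD2_c34 LD3_c4)))))))))))))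
theorem f795954 : Led Lsl_af (LP (LK LD1_c17 LD2_c15 LD3_c22)) = (LP (LK LD1_c16 LD2_c31 LD3_c54)) :=
  Lgr Lrot117 (Lpr_dt (f239033 IH) (Lpr_at (f795952 IH) (Lpr_dt (f411294 IH) (Lpn (LP (LK LD1_c16 LD2_c31 LD3_c54))))))
theorem f239040 : Led Lsl_ft (LP (LK LD1_c17 LD2_c15 LD3_c22)) = (LP (LK LD1_c27 LD2_c5 LD3_c23)) :=
  Lre_f IH (LK LD1_c17 LD2_c15 LD3_c22) (LK LD1_c27 LD2_c5 LD3_c23) Lrfl Lrfl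
theorem f411297 : Led Lsl_ft (LP (LK LD1_c26 LD2_c28 LD3_c24)) = (LP (LK LD1_c16 LD2_c31 LD3_c54)) :=
  Lre_f IH (LK LD1_c26 LD2_c28 LD3_c24) (LK LD1_c16 LD2_c31 LD3_c54) Lrfl Lrfl
theorem f795960 : Led Lsl_at (LP (LK LD1_c27 LD2_c5 LD3_c23)) = (LP (LK LD1_c26 LD2_c28 LD3_c24)) :=
  Lgr Lrot66 (Lpe (f239040 IH) (Lpr_af (f795954 IH) (Lpe (f411297 IH) (Lpn (LP (LK LD1_c26 LD2_c28 LD3_c24))))))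
theorem f795962 : Led Lsl_af (LP (LK LD1_c27 LD2_c5 LD3_c23)) = (LP (LK LD1_c26 LD2_c28 LD3_c24)) :=
  Lgr Lrot0 (Lpr_at (f795960 IH) (Lpn (LP (LK LD1_c26 LD2_c28 LD3_c24))))
theorem f795948 : Led Lsl_df (LP (LK LD1_c26 LD2_c28 LD3_c24)) = (LP (LK LD1_c16 LD2_c34 LD3_c3)) :=
  Lgr Lrot78 (Lpr_ft (f411297 IH) (Lpe (K37.f411291 IH) (Lpr_ft (f795946 IH) (Lpn (LP (LK LD1_c16 LD2_c34 LD3_c3))))))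
theorem f795882 : Led Lsl_af (LP (LK LD1_c16 LD2_c34 LD3_c3)) = (LP (LK LD1_c21 LD2_c10 LD3_c35)) :=
  Lgr Lrot50 (Lpr_et (f205053 IH) (Lpr_at (f795878 IH) (Lpr_et (f609828 IH) (Lpn (LP (LK LD1_c21 LD2_c10 LD3_c35))))))
theorem f795966 : Led Lsl_dt (LP (LK LD1_c27 LD2_c5 LD3_c23)) = (LP (LK LD1_c21 LD2_c10 LD3_c35)) :=
  Lgr Lrot44 (Lpr_af (f795962 IH) (Lpr_df (f795948 IH) (Lpr_af (f795882 IH) (Lpn (LP (LK LD1_c21 LD2_c10 LD3_c35))))))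
theorem f609830 : Led Lsl_ef (LP (LK LD1_c23 LD2_c9 LD3_c16)) = (LP (LK LD1_c21 LD2_c10 LD3_c35)) :=
  Lgr Lrot88 (Lpr_et (f609828 IH) (Lpn (LP (LK LD1_c21 LD2_c10 LD3_c35))))
theorem f609051 : Led Lsl_dt (LP (LK LD1_c26 LD2_c25 LD3_c3)) = (LP (LK LD1_c26 LD2_c28 LD3_c25)) :=
  Lre_d IH (LK LD1_c26 LD2_c25 LD3_c3) (LK LD1_c26 LD2_c28 LD3_c25) Lrfl Lrfl
theorem f795970 : Led Lsl_ef (LP (LK LD1_c27 LD2_c5 LD3_c23)) = (LP (LK LD1_c26 LD2_c28 LD3_c25)) :=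
  Lgr Lrot73 (Lpr_dt (f795966 IH) (Lpe (f609830 IH) (Lpr_dt (f609823 IH) (Lpe (f795864 IH) (Lpr_dt (f609051 IH) (Lpn (LP (LK LD1_c26 LD2_c28 LD3_c25))))))))
theorem f239039 : Led Lsl_ft (LP (LK LD1_c27 LD2_c5 LD3_c23)) = (LP (LK LD1_c17 LD2_c15 LD3_c22)) :=
  Lre_f IH (LK LD1_c27 LD2_c5 LD3_c23) (LK LD1_c17 LD2_c15 LD3_c22) Lrfl Lrfl
theorem f420697 : Led Lsl_ft (LP (LK LD1_c16 LD2_c31 LD3_c55)) = (LP (LK LD1_c26 LD2_c28 LD3_c25)) :=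
  Lre_f IH (LK LD1_c16 LD2_c31 LD3_c55) (LK LD1_c26 LD2_c28 LD3_c25) Lrfl Lrfl
theorem f420698 : Led Lsl_et (LP (LK LD1_c8 LD2_c50 LD3_c41)) = (LP (LK LD1_c16 LD2_c31 LD3_c55)) :=
  Lre_e IH (LK LD1_c8 LD2_c50 LD3_c41) (LK LD1_c16 LD2_c31 LD3_c55) Lrfl Lrfl
theorem f795974 : Led Lsl_ft (LP (LK LD1_c9 LD2_c19 LD3_c38)) = (LP (LK LD1_c8 LD2_c50 LD3_c41)) :=
  Lgr Lrot86 (Lpe (f239031 IH) (Lpe (f239039 IH) (Lpr_ef (f795970 IH) (Lpe (f420697 IH) (Lpe (f420698 IH) (Lpn (LP (LK LD1_c8 LD2_c50 LD3_c41))))))))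
theorem f420701 : Led Lsl_at (LP (LK LD1_c9 LD2_c19 LD3_c40)) = (LP (LK LD1_c8 LD2_c50 LD3_c43)) :=
  Lgr Lrot100 (Lpr_af (K37.f201956 IH) (Lpn (LP (LK LD1_c8 LD2_c50 LD3_c43))))
theorem f420714 : Led Lsl_gt (LP (LK LD1_c9 LD2_c19 LD3_c38)) = (LP (LK LD1_c8 LD2_c50 LD3_c43)) :=
  Lgr Lrot46 (Lpe (K47.f239030 IH) (Lpr_ft (K39.f420713 IH) (Lpr_at (f420701 IH) (Lpn (LP (LK LD1_c8 LD2_c50 LD3_c43))))))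
theorem f795984 : Led Lsl_af (LP (LK LD1_c9 LD2_c19 LD3_c39)) = (LP (LK LD1_c8 LD2_c50 LD3_c41)) :=
  Lgr Lrot31 (Lpr_gf (K11.f201941 IH) (Lpe (f420714 IH) (Lpr_ft (f795974 IH) (Lpn (LP (LK LD1_c8 LD2_c50 LD3_c41))))))
theorem f607674 : Led Lsl_cf (LP (LK LD1_c9 LD2_c19 LD3_c39)) = (LP (LK LD1_c12 LD2_c22 LD3_c48)) :=
  Lgr Lrot166 (Lpr_gt (K11.f59261 IH) (Lpr_dt (K32.f59316 IH) (Lpr_gt (K11.f56608 IH) (Lpr_dt (K43.f56609 IH) (Lpr_ct (K47.f56647 IH) (Lpr_df (K47.f607664 IH) (Lpe (K47.f205516 IH) (Lpe (K39.f205517 IH) (Lpe (K47.f205518 IH) (Lpn (LP (LK LD1_c12 LD2_c22 LD3_c48))))))))))))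
theorem f795807 : Led Lsl_ct (LP (LK LD1_c16 LD2_c27 LD3_c51)) = (LP (LK LD1_c13 LD2_c50 LD3_c41)) :=
  Lgr Lrot40 (Lpe (K43.f420686 IH) (Lpe (K61.f576604 IH) (Lpr_ff (f795803 IH) (Lpn (LP (LK LD1_c13 LD2_c50 LD3_c41))))))
theorem f795986 : Led Lsl_dt (LP (LK LD1_c9 LD2_c19 LD3_c38)) = (LP (LK LD1_c16 LD2_c27 LD3_c51)) :=
  Lgr Lrot159 (Lpr_ft (f795974 IH) (Lpe (f795984 IH) (Lpr_cf (f607674 IH) (Lpe (K47.f205519 IH) (Lpr_cf (K47.f607812 IH) (Lpe (K46.f147281 IH) (Lpr_cf (K35.f533544 IH) (Lpe (K37.f533550 IH) (Lpe (f795807 IH) (Lpn (LP (LK LD1_c16 LD2_c27 LD3_c51))))))))))))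
theorem f795994 : Led Lsl_gf (LP (LK LD1_c20 LD2_c20 LD3_c61)) = (LP (LK LD1_c16 LD2_c27 LD3_c51)) :=
  Lgr Lrot143 (Lpr_dt (K47.f576280 IH) (Lpe (K47.f607415 IH) (Lpe (K47.f607398 IH) (Lpe (K47.f608290 IH) (Lpe (K47.f209187 IH) (Lpe (K47.f209181 IH) (Lpr_cf (K47.f560357 IH) (Lpr_gt (K47.f239030 IH) (Lpr_dt (f795986 IH) (Lpn (LP (LK LD1_c16 LD2_c27 LD3_c51))))))))))))
theorem f80565 : Led Lsl_et (LP (LK LD1_c4 LD2_c26 LD3_c31)) = (LP (LK LD1_c8 LD2_c50 LD3_c36)) :=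
  Lre_e IH (LK LD1_c4 LD2_c26 LD3_c31) (LK LD1_c8 LD2_c50 LD3_c36) Lrfl Lrfl
theorem f543455 : Led Lsl_gt (LP (LK LD1_c8 LD2_c50 LD3_c36)) = (LP (LK LD1_c8 LD2_c50 LD3_c56)) :=
  Lgr Lrot94 (Lpr_cf (K37.f543439 IH) (Lpr_gt (K37.f543339 IH) (Lpr_dt (K37.f99378 IH) (Lpe (K37.f211182 IH) (Lpr_dt (K37.f99396 IH) (Lpr_cf (K43.f408096 IH) (Lpe (K37.f38287 IH) (Lpe (K37.f241117 IH) (Lpe (K37.f70563 IH) (Lpn (LP (LK LD1_c8 LD2_c50 LD3_c56))))))))))))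
theorem f795998 : Led Lsl_et (LP (LK LD1_c21 LD2_c28 LD3_c39)) = (LP (LK LD1_c16 LD2_c27 LD3_c51)) :=
  Lgr Lrot121 (Lpr_dt (K47.f445520 IH) (Lpe (K46.f444975 IH) (Lpe (K46.f16553 IH) (Lpr_et (K37.f70571 IH) (Lpe (f543455 IH) (Lpe (f80565 IH) (Lpr_dt (K37.f80467 IH) (Lpe (K43.f80580 IH) (Lpe (K47.f576280 IH) (Lpr_gf (f795994 IH) (Lpn (LP (LK LD1_c16 LD2_c27 LD3_c51)))))))))))))
theorem f408092 : Led Lsl_ft (LP (LK LD1_c8 LD2_c47 LD3_c55)) = (LP (LK LD1_c16 LD2_c27 LD3_c58)) :=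
  Lre_f IH (LK LD1_c8 LD2_c47 LD3_c55) (LK LD1_c16 LD2_c27 LD3_c58) Lrfl Lrfl
theorem f445459 : Led Lsl_at (LP (LK LD1_c16 LD2_c27 LD3_c58)) = (LP (LK LD1_c21 LD2_c28 LD3_c39)) :=
  Lgr Lrot26 (Lpe (f408092 IH) (Lpr_gt (K37.f211196 IH) (Lpr_gt (K40.f445297 IH) (Lpn (LP (LK LD1_c21 LD2_c28 LD3_c39))))))
theorem f796000 : Led Lsl_ef (LP (LK LD1_c16 LD2_c27 LD3_c58)) = (LP (LK LD1_c16 LD2_c31 LD3_c53)) :=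
  Lgr Lrot20 (Lpr_at (f445459 IH) (Lpr_et (f795998 IH) (Lpe (K43.f576300 IH) (Lpn (LP (LK LD1_c16 LD2_c31 LD3_c53))))))
theorem f796008 : Led Lsl_gt (LP (LK LD1_c16 LD2_c27 LD3_c58)) = (LP (LK LD1_c9 LD2_c14 LD3_c54)) :=
  Lgr Lrot137 (Lpr_ef (f796000 IH) (Lpr_dt (K46.f40019 IH) (Lpe (K37.f40018 IH) (Lpe (K39.f40017 IH) (Lpr_et (K37.f38114 IH) (Lpr_gf (K4.f40013 IH) (Lpe (K1.f16548 IH) (Lpr_dt (K37.f16215 IH) (Lpe (K2.f16577 IH) (Lpe (K2.f56373 IH) (Lpn (LP (LK LD1_c9 LD2_c14 LD3_c54)))))))))))))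
theorem f796012 : Led Lsl_cf (LP (LK LD1_c16 LD2_c27 LD3_c58)) = (LP (LK LD1_c16 LD2_c23 LD3_c12)) :=
  Lgr Lrot166 (Lpr_gt (f796008 IH) (Lpr_dt (K2.f56373 IH) (Lpr_gt (K2.f16577 IH) (Lpr_dt (K1.f16331 IH) (Lpr_ct (K1.f16330 IH) (Lpe (K37.f16284 IH) (Lpe (K37.f38027 IH) (Lpe (K37.f38028 IH) (Lpe (K43.f576160 IH) (Lpn (LP (LK LD1_c16 LD2_c23 LD3_c12))))))))))))
theorem f408116 : Led Lsl_ft (LP (LK LD1_c16 LD2_c27 LD3_c58)) = (LP (LK LD1_c8 LD2_c47 LD3_c55)) :=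
  Lre_f IH (LK LD1_c16 LD2_c27 LD3_c58) (LK LD1_c8 LD2_c47 LD3_c55) Lrfl Lrfl
theorem f796014 : Led Lsl_ft (LP (LK LD1_c8 LD2_c48 LD3_c35)) = (LP (LK LD1_c16 LD2_c23 LD3_c12)) :=
  Lgr Lrot4 (Lpe (K40.f408078 IH) (Lpe (f408116 IH) (Lpr_cf (f796012 IH) (Lpn (LP (LK LD1_c16 LD2_c23 LD3_c12))))))
theorem f796020 : Led Lsl_af (LP (LK LD1_c16 LD2_c33 LD3_c3)) = (LP (LK LD1_c16 LD2_c23 LD3_c12)) :=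
  Lgr Lrot31 (Lpr_gf (K46.f445524 IH) (Lpr_gf (K37.f241119 IH) (Lpr_ft (f796014 IH) (Lpn (LP (LK LD1_c16 LD2_c23 LD3_c12))))))
theorem f796022 : Led Lsl_at (LP (LK LD1_c8 LD2_c51 LD3_c8)) = (LP (LK LD1_c15 LD2_c0 LD3_c25)) :=
  Lgr Lrot51 (Lpe (K37.f421111 IH) (Lpr_af (f796020 IH) (Lpr_df (K47.f576164 IH) (Lpn (LP (LK LD1_c15 LD2_c0 LD3_c25))))))
theorem f796030 : Led Lsl_ff (LP (LK LD1_c8 LD2_c51 LD3_c8)) = (LP (LK LD1_c15 LD2_c0 LD3_c24)) :=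
  Lgr Lrot52 (Lpr_at (f796022 IH) (Lpr_gf (K57.f445126 IH) (Lpe (K37.f227567 IH) (Lpn (LP (LK LD1_c15 LD2_c0 LD3_c24))))))
theorem f796038 : Led Lsl_ft (LP (LK LD1_c8 LD2_c51 LD3_c8)) = (LP (LK LD1_c15 LD2_c0 LD3_c24)) :=
  Lgr Lrot48 (Lpr_ff (f796030 IH) (Lpn (LP (LK LD1_c15 LD2_c0 LD3_c24))))
theorem f796044 : Led Lsl_af (LP (LK LD1_c8 LD2_c51 LD3_c7)) = (LP (LK LD1_c15 LD2_c0 LD3_c24)) :=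
  Lgr Lrot31 (Lpe (K40.f69625 IH) (Lpe (K37.f69628 IH) (Lpr_ft (f796038 IH) (Lpn (LP (LK LD1_c15 LD2_c0 LD3_c24))))))
theorem f796024 : Led Lsl_af (LP (LK LD1_c8 LD2_c51 LD3_c8)) = (LP (LK LD1_c15 LD2_c0 LD3_c25)) :=
  Lgr Lrot0 (Lpr_at (f796022 IH) (Lpn (LP (LK LD1_c15 LD2_c0 LD3_c25))))
theorem f796052 : Led Lsl_ft (LP (LK LD1_c8 LD2_c51 LD3_c7)) = (LP (LK LD1_c15 LD2_c0 LD3_c25)) :=
  Lgr Lrot101 (Lpr_af (f796044 IH) (Lpe (f796038 IH) (Lpr_af (f796024 IH) (Lpn (LP (LK LD1_c15 LD2_c0 LD3_c25))))))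
theorem f227632 : Led Lsl_ct (LP (LK LD1_c16 LD2_c33 LD3_c0)) = (LP (LK LD1_c8 LD2_c51 LD3_c7)) :=
  Lre_c IH (LK LD1_c16 LD2_c33 LD3_c0) (LK LD1_c8 LD2_c51 LD3_c7) Lrfl Lrfl
theorem f796056 : Led Lsl_ff (LP (LK LD1_c16 LD2_c33 LD3_c0)) = (LP (LK LD1_c24 LD2_c47 LD3_c46)) :=
  Lgr Lrot23 (Lpr_ct (f227632 IH) (Lpr_ft (f796052 IH) (Lpr_ct (K57.f39988 IH) (Lpn (LP (LK LD1_c24 LD2_c47 LD3_c46))))))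
theorem f796046 : Led Lsl_at (LP (LK LD1_c16 LD2_c33 LD3_c0)) = (LP (LK LD1_c24 LD2_c47 LD3_c44)) :=
  Lgr Lrot107 (Lpe (K40.f227631 IH) (Lpr_af (f796044 IH) (Lpe (K61.f37793 IH) (Lpn (LP (LK LD1_c24 LD2_c47 LD3_c44))))))
theorem f796040 : Led Lsl_ff (LP (LK LD1_c16 LD2_c33 LD3_c2)) = (LP (LK LD1_c24 LD2_c47 LD3_c44)) :=
  Lgr Lrot23 (Lpr_ct (K40.f443770 IH) (Lpr_ft (f796038 IH) (Lpr_ct (K40.f37785 IH) (Lpn (LP (LK LD1_c24 LD2_c47 LD3_c44))))))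
theorem f796058 : Led Lsl_at (LP (LK LD1_c16 LD2_c33 LD3_c2)) = (LP (LK LD1_c24 LD2_c47 LD3_c46)) :=
  Lgr Lrot66 (Lpr_ff (f796040 IH) (Lpe (f796046 IH) (Lpr_ff (f796056 IH) (Lpn (LP (LK LD1_c24 LD2_c47 LD3_c46))))))
theorem f553022 : Led Lsl_ef (LP (LK LD1_c16 LD2_c33 LD3_c2)) = (LP (LK LD1_c17 LD2_c54 LD3_c40)) :=
  Lgr Lrot28 (Lpr_ct (K40.f443770 IH) (Lpr_et (K46.f445542 IH) (Lpr_ct (K41.f553013 IH) (Lpn (LP (LK LD1_c17 LD2_c54 LD3_c40))))))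
theorem f552927 : Led Lsl_bt (LP (LK LD1_c8 LD2_c44 LD3_c13)) = (LP (LK LD1_c16 LD2_c21 LD3_c34)) :=
  Lre_b IH (LK LD1_c8 LD2_c44 LD3_c13) (LK LD1_c16 LD2_c21 LD3_c34) Lrfl Lrfl
theorem f547018 : Led Lsl_bf (LP (LK LD1_c13 LD2_c41 LD3_c30)) = (LP (LK LD1_c11 LD2_c23 LD3_c31)) :=
  Lgr Lrot93 (Lpr_dt (K43.f160387 IH) (Lpr_bt (K8.f160375 IH) (Lpr_dt (K38.f547016 IH) (Lpn (LP (LK LD1_c11 LD2_c23 LD3_c31))))))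
theorem f241713 : Led Lsl_gf (LP (LK LD1_c9 LD2_c45 LD3_c9)) = (LP (LK LD1_c8 LD2_c43 LD3_c57)) :=
  Lgr Lrot76 (Lpr_af (K13.f241705 IH) (Lpe (K13.f237668 IH) (Lpr_gt (K39.f237633 IH) (Lpn (LP (LK LD1_c8 LD2_c43 LD3_c57))))))
theorem f241696 : Led Lsl_at (LP (LK LD1_c9 LD2_c45 LD3_c6)) = (LP (LK LD1_c8 LD2_c41 LD3_c50)) :=
  Lgr Lrot100 (Lpr_af (K13.f241694 IH) (Lpn (LP (LK LD1_c8 LD2_c41 LD3_c50))))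
theorem f241651 : Led Lsl_ft (LP (LK LD1_c17 LD2_c54 LD3_c42)) = (LP (LK LD1_c9 LD2_c45 LD3_c6)) :=
  Lre_f IH (LK LD1_c17 LD2_c54 LD3_c42) (LK LD1_c9 LD2_c45 LD3_c6) Lrfl Lrfl
theorem f39015 : Led Lsl_gt (LP (LK LD1_c16 LD2_c17 LD3_c20)) = (LP (LK LD1_c8 LD2_c41 LD3_c50)) :=
  Lre_g IH (LK LD1_c16 LD2_c17 LD3_c20) (LK LD1_c8 LD2_c41 LD3_c50) Lrfl Lrfl
theorem f417988 : Led Lsl_gt (LP (LK LD1_c17 LD2_c54 LD3_c42)) = (LP (LK LD1_c16 LD2_c17 LD3_c20)) :=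
  Lgr Lrot5 (Lpr_ft (f241651 IH) (Lpr_at (f241696 IH) (Lpe (f39015 IH) (Lpn (LP (LK LD1_c16 LD2_c17 LD3_c20))))))
theorem f559207 : Led Lsl_ct (LP (LK LD1_c8 LD2_c44 LD3_c13)) = (LP (LK LD1_c16 LD2_c17 LD3_c20)) :=
  Lgr Lrot63 (Lpr_bt (f552927 IH) (Lpr_gt (K47.f559201 IH) (Lpr_bf (f547018 IH) (Lpr_ct (K47.f546995 IH) (Lpe (K47.f547000 IH) (Lpe (K29.f470578 IH) (Lpr_bt (K47.f553299 IH) (Lpe (f241713 IH) (Lpr_ct (K13.f172790 IH) (Lpr_gt (f417988 IH) (Lpn (LP (LK LD1_c16 LD2_c17 LD3_c20)))))))))))))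
theorem f559210 : Led Lsl_cf (LP (LK LD1_c8 LD2_c44 LD3_c13)) = (LP (LK LD1_c16 LD2_c17 LD3_c20)) :=
  Lgr Lrot11 (Lpr_ct (f559207 IH) (Lpn (LP (LK LD1_c16 LD2_c17 LD3_c20))))
theorem f576196 : Led Lsl_et (LP (LK LD1_c24 LD2_c47 LD3_c46)) = (LP (LK LD1_c16 LD2_c17 LD3_c20)) :=
  Lgr Lrot158 (Lpe (K57.f39988 IH) (Lpr_ef (K47.f576194 IH) (Lpr_cf (f559210 IH) (Lpn (LP (LK LD1_c16 LD2_c17 LD3_c20))))))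
theorem f796065 : Led Lsl_af (LP (LK LD1_c17 LD2_c54 LD3_c40)) = (LP (LK LD1_c16 LD2_c17 LD3_c20)) :=
  Lgr Lrot50 (Lpe (f553022 IH) (Lpr_at (f796058 IH) (Lpr_et (f576196 IH) (Lpn (LP (LK LD1_c16 LD2_c17 LD3_c20))))))
theorem f796071 : Led Lsl_ft (LP (LK LD1_c17 LD2_c54 LD3_c39)) = (LP (LK LD1_c16 LD2_c17 LD3_c20)) :=
  Lgr Lrot2 (Lpr_gt (K39.f241707 IH) (Lpe (K47.f241701 IH) (Lpr_af (f796065 IH) (Lpn (LP (LK LD1_c16 LD2_c17 LD3_c20))))))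
theorem f796077 : Led Lsl_ff (LP (LK LD1_c17 LD2_c54 LD3_c39)) = (LP (LK LD1_c16 LD2_c17 LD3_c20)) :=
  Lgr Lrot3 (Lpr_ft (f796071 IH) (Lpn (LP (LK LD1_c16 LD2_c17 LD3_c20))))
theorem f796083 : Led Lsl_at (LP (LK LD1_c17 LD2_c54 LD3_c39)) = (LP (LK LD1_c16 LD2_c17 LD3_c19)) :=
  Lgr Lrot26 (Lpr_ff (f796077 IH) (Lpr_gt (f39015 IH) (Lpr_gt (K41.f237662 IH) (Lpn (LP (LK LD1_c16 LD2_c17 LD3_c19))))))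
theorem f796067 : Led Lsl_at (LP (LK LD1_c17 LD2_c54 LD3_c40)) = (LP (LK LD1_c16 LD2_c17 LD3_c20)) :=
  Lgr Lrot100 (Lpr_af (f796065 IH) (Lpn (LP (LK LD1_c16 LD2_c17 LD3_c20))))
theorem f796091 : Led Lsl_ff (LP (LK LD1_c17 LD2_c54 LD3_c40)) = (LP (LK LD1_c16 LD2_c17 LD3_c19)) :=
  Lgr Lrot30 (Lpr_at (f796067 IH) (Lpe (f796077 IH) (Lpr_at (f796083 IH) (Lpn (LP (LK LD1_c16 LD2_c17 LD3_c19))))))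
theorem f796095 : Led Lsl_ft (LP (LK LD1_c17 LD2_c54 LD3_c40)) = (LP (LK LD1_c16 LD2_c17 LD3_c19)) :=
  Lgr Lrot48 (Lpr_ff (f796091 IH) (Lpn (LP (LK LD1_c16 LD2_c17 LD3_c19))))
theorem f552979 : Led Lsl_cf (LP (LK LD1_c8 LD2_c44 LD3_c12)) = (LP (LK LD1_c16 LD2_c17 LD3_c19)) :=
  Lgr Lrot11 (Lpr_ct (K41.f552923 IH) (Lpn (LP (LK LD1_c16 LD2_c17 LD3_c19))))
theorem f796097 : Led Lsl_ff (LP (LK LD1_c14 LD2_c58 LD3_c39)) = (LP (LK LD1_c8 LD2_c44 LD3_c12)) :=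
  Lgr Lrot23 (Lpr_ct (K41.f553013 IH) (Lpr_ft (f796095 IH) (Lpe (f552979 IH) (Lpn (LP (LK LD1_c8 LD2_c44 LD3_c12))))))
theorem f796103 : Led Lsl_ft (LP (LK LD1_c24 LD2_c47 LD3_c45)) = (LP (LK LD1_c16 LD2_c21 LD3_c33)) :=
  Lgr Lrot86 (Lpe (K37.f37790 IH) (Lpe (f796038 IH) (Lpr_ef (K46.f445544 IH) (Lpr_ff (f796097 IH) (Lpe (K37.f237297 IH) (Lpn (LP (LK LD1_c16 LD2_c21 LD3_c33))))))))
theorem f796107 : Led Lsl_ff (LP (LK LD1_c24 LD2_c47 LD3_c45)) = (LP (LK LD1_c16 LD2_c21 LD3_c33)) :=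
  Lgr Lrot3 (Lpr_ft (f796103 IH) (Lpn (LP (LK LD1_c16 LD2_c21 LD3_c33))))
theorem f237300 : Led Lsl_df (LP (LK LD1_c16 LD2_c21 LD3_c33)) = (LP (LK LD1_c16 LD2_c22 LD3_c36)) :=
  Lgr Lrot38 (Lpr_dt (K37.f237298 IH) (Lpn (LP (LK LD1_c16 LD2_c22 LD3_c36))))
theorem f796109 : Led Lsl_ft (LP (LK LD1_c21 LD2_c4 LD3_c15)) = (LP (LK LD1_c16 LD2_c22 LD3_c36)) :=
  Lgr Lrot54 (Lpr_df (K37.f37791 IH) (Lpr_ff (f796107 IH) (Lpr_df (f237300 IH) (Lpn (LP (LK LD1_c16 LD2_c22 LD3_c36))))))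
theorem f385993 : Led Lsl_gt (LP (LK LD1_c21 LD2_c4 LD3_c15)) = (LP (LK LD1_c16 LD2_c22 LD3_c38)) :=
  Lgr Lrot46 (Lpr_gf (K37.f227565 IH) (Lpr_ft (K48.f197785 IH) (Lpr_at (K48.f385987 IH) (Lpn (LP (LK LD1_c16 LD2_c22 LD3_c38))))))
theorem f197762 : Led Lsl_gt (LP (LK LD1_c24 LD2_c46 LD3_c34)) = (LP (LK LD1_c14 LD2_c59 LD3_c1)) :=
  Lre_g IH (LK LD1_c24 LD2_c46 LD3_c34) (LK LD1_c14 LD2_c59 LD3_c1) Lrfl Lrfl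
theorem f385989 : Led Lsl_gf (LP (LK LD1_c24 LD2_c46 LD3_c34)) = (LP (LK LD1_c16 LD2_c22 LD3_c38)) :=
  Lgr Lrot47 (Lpr_gt (f197762 IH) (Lpr_af (K48.f385985 IH) (Lpe (K48.f210386 IH) (Lpn (LP (LK LD1_c16 LD2_c22 LD3_c38))))))
theorem f796111 : Led Lsl_af (LP (LK LD1_c24 LD2_c46 LD3_c34)) = (LP (LK LD1_c16 LD2_c22 LD3_c36)) :=
  Lgr Lrot31 (Lpr_gf (f385989 IH) (Lpe (f385993 IH) (Lpr_ft (f796109 IH) (Lpn (LP (LK LD1_c16 LD2_c22 LD3_c36))))))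
theorem f479724 : Led Lsl_bt (LP (LK LD1_c6 LD2_c58 LD3_c34)) = (LP (LK LD1_c13 LD2_c14 LD3_c37)) :=
  Lre_b IH (LK LD1_c6 LD2_c58 LD3_c34) (LK LD1_c13 LD2_c14 LD3_c37) Lrfl Lrfl
theorem f15757 : Led Lsl_bt (LP (LK LD1_c13 LD2_c14 LD3_c9)) = (LP (LK LD1_c6 LD2_c58 LD3_c17)) :=
  Lre_b IH (LK LD1_c13 LD2_c14 LD3_c9) (LK LD1_c6 LD2_c58 LD3_c17) Lrfl Lrfl
theorem f529226 : Led Lsl_ft (LP (LK LD1_c13 LD2_c14 LD3_c37)) = (LP (LK LD1_c13 LD2_c14 LD3_c9)) :=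
  Lgr Lrot75 (Lpe (f479724 IH) (Lpr_ff (K47.f529224 IH) (Lpe (f15757 IH) (Lpn (LP (LK LD1_c13 LD2_c14 LD3_c9))))))
theorem f609357 : Led Lsl_gt (LP (LK LD1_c22 LD2_c29 LD3_c19)) = (LP (LK LD1_c22 LD2_c28 LD3_c52)) :=
  Lgr Lrot46 (Lpr_gf (K57.f609355 IH) (Lpr_ft (f529226 IH) (Lpr_at (K47.f529284 IH) (Lpn (LP (LK LD1_c22 LD2_c28 LD3_c52))))))
theorem f609287 : Led Lsl_ef (LP (LK LD1_c21 LD2_c14 LD3_c28)) = (LP (LK LD1_c23 LD2_c20 LD3_c30)) :=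
  Lgr Lrot17 (Lpe (K61.f70736 IH) (Lpe (K61.f70719 IH) (Lpr_dt (K61.f70717 IH) (Lpe (K46.f561081 IH) (Lpe (K40.f487914 IH) (Lpr_gf (K46.f607764 IH) (Lpr_ef (K46.f553271 IH) (Lpr_dt (K47.f470543 IH) (Lpr_gf (K47.f609283 IH) (Lpe (K47.f529395 IH) (Lpn (LP (LK LD1_c23 LD2_c20 LD3_c30)))))))))))))
theorem f418548 : Led Lsl_et (LP (LK LD1_c20 LD2_c1 LD3_c60)) = (LP (LK LD1_c29 LD2_c15 LD3_c27)) :=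
  Lre_e IH (LK LD1_c20 LD2_c1 LD3_c60) (LK LD1_c29 LD2_c15 LD3_c27) Lrfl Lrfl
theorem f529402 : Led Lsl_df (LP (LK LD1_c23 LD2_c20 LD3_c30)) = (LP (LK LD1_c22 LD2_c28 LD3_c52)) :=
  Lgr Lrot78 (Lpr_ft (K47.f479732 IH) (Lpr_dt (K47.f479722 IH) (Lpr_ft (K47.f529397 IH) (Lpn (LP (LK LD1_c22 LD2_c28 LD3_c52))))))
theorem f609291 : Led Lsl_et (LP (LK LD1_c26 LD2_c19 LD3_c0)) = (LP (LK LD1_c22 LD2_c28 LD3_c52)) :=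
  Lgr Lrot71 (Lpr_df (K37.f418544 IH) (Lpe (f418548 IH) (Lpr_df (K61.f561083 IH) (Lpr_ef (f609287 IH) (Lpr_df (f529402 IH) (Lpn (LP (LK LD1_c22 LD2_c28 LD3_c52))))))))
theorem f609295 : Led Lsl_ef (LP (LK LD1_c26 LD2_c19 LD3_c0)) = (LP (LK LD1_c22 LD2_c28 LD3_c52)) :=
  Lgr Lrot88 (Lpr_et (f609291 IH) (Lpn (LP (LK LD1_c22 LD2_c28 LD3_c52))))
theorem f529393 : Led Lsl_bt (LP (LK LD1_c22 LD2_c29 LD3_c23)) = (LP (LK LD1_c22 LD2_c28 LD3_c52)) :=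
  Lgr Lrot127 (Lpr_bf (K47.f529285 IH) (Lpn (LP (LK LD1_c22 LD2_c28 LD3_c52))))
theorem f181676 : Led Lsl_et (LP (LK LD1_c1 LD2_c19 LD3_c51)) = (LP (LK LD1_c2 LD2_c46 LD3_c54)) :=
  Lre_e IH (LK LD1_c1 LD2_c19 LD3_c51) (LK LD1_c2 LD2_c46 LD3_c54) Lrfl Lrfl
theorem f601987 : Led Lsl_ef (LP (LK LD1_c5 LD2_c41 LD3_c44)) = (LP (LK LD1_c5 LD2_c56 LD3_c61)) :=
  Lgr Lrot17 (Lpe (K41.f68721 IH) (Lpe (f181676 IH) (Lpr_dt (K30.f181658 IH) (Lpe (K45.f181686 IH) (Lpr_df (K45.f588528 IH) (Lpe (K38.f549805 IH) (Lpe (K43.f210442 IH) (Lpe (K43.f574700 IH) (Lpe (K44.f577087 IH) (Lpe (K38.f418478 IH) (Lpn (LP (LK LD1_c5 LD2_c56 LD3_c61)))))))))))))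
theorem f551750 : Led Lsl_et (LP (LK LD1_c11 LD2_c13 LD3_c41)) = (LP (LK LD1_c20 LD2_c8 LD3_c25)) :=
  Lre_e IH (LK LD1_c11 LD2_c13 LD3_c41) (LK LD1_c20 LD2_c8 LD3_c25) Lrfl Lrfl
theorem f549085 : Led Lsl_et (LP (LK LD1_c20 LD2_c38 LD3_c50)) = (LP (LK LD1_c11 LD2_c39 LD3_c18)) :=
  Lre_e IH (LK LD1_c20 LD2_c38 LD3_c50) (LK LD1_c11 LD2_c39 LD3_c18) Lrfl Lrfl
theorem f601991 : Led Lsl_dt (LP (LK LD1_c20 LD2_c8 LD3_c25)) = (LP (LK LD1_c20 LD2_c38 LD3_c50)) :=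
  Lgr Lrot77 (Lpe (f551750 IH) (Lpe (K41.f181590 IH) (Lpr_ef (f601987 IH) (Lpe (K38.f418483 IH) (Lpe (f549085 IH) (Lpn (LP (LK LD1_c20 LD2_c38 LD3_c50))))))))
theorem f602019 : Led Lsl_df (LP (LK LD1_c20 LD2_c8 LD3_c25)) = (LP (LK LD1_c20 LD2_c38 LD3_c50)) :=
  Lgr Lrot38 (Lpr_dt (f601991 IH) (Lpn (LP (LK LD1_c20 LD2_c38 LD3_c50))))
theorem f601997 : Led Lsl_gt (LP (LK LD1_c29 LD2_c19 LD3_c4)) = (LP (LK LD1_c20 LD2_c8 LD3_c25)) :=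
  Lre_g IH (LK LD1_c29 LD2_c19 LD3_c4) (LK LD1_c20 LD2_c8 LD3_c25) Lrfl Lrfl
theorem f480669 : Led Lsl_et (LP (LK LD1_c22 LD2_c54 LD3_c6)) = (LP (LK LD1_c13 LD2_c32 LD3_c17)) :=
  Lre_e IH (LK LD1_c22 LD2_c54 LD3_c6) (LK LD1_c13 LD2_c32 LD3_c17) Lrfl Lrfl
theorem f602023 : Led Lsl_df (LP (LK LD1_c29 LD2_c19 LD3_c4)) = (LP (LK LD1_c22 LD2_c54 LD3_c6)) :=
  Lgr Lrot170 (Lpr_gt (f601997 IH) (Lpr_df (f602019 IH) (Lpr_et (f549085 IH) (Lpr_gt (K44.f577087 IH) (Lpr_dt (K43.f574698 IH) (Lpe (K43.f574692 IH) (Lpr_df (K43.f559126 IH) (Lpe (K43.f576880 IH) (Lpr_gt (K47.f529745 IH) (Lpe (f480669 IH) (Lpn (LP (LK LD1_c22 LD2_c54 LD3_c6)))))))))))))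
theorem f480664 : Led Lsl_et (LP (LK LD1_c13 LD2_c32 LD3_c17)) = (LP (LK LD1_c22 LD2_c54 LD3_c6)) :=
  Lre_e IH (LK LD1_c13 LD2_c32 LD3_c17) (LK LD1_c22 LD2_c54 LD3_c6) Lrfl Lrfl
theorem f602030 : Led Lsl_et (LP (LK LD1_c29 LD2_c19 LD3_c4)) = (LP (LK LD1_c22 LD2_c29 LD3_c23)) :=
  Lgr Lrot71 (Lpr_df (f602023 IH) (Lpe (f480664 IH) (Lpe (K47.f480663 IH) (Lpe (K62.f480661 IH) (Lpe (K47.f480642 IH) (Lpn (LP (LK LD1_c22 LD2_c29 LD3_c23))))))))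
theorem f609297 : Led Lsl_bt (LP (LK LD1_c26 LD2_c19 LD3_c0)) = (LP (LK LD1_c29 LD2_c19 LD3_c4)) :=
  Lgr Lrot119 (Lpr_ef (f609295 IH) (Lpe (f529393 IH) (Lpe (f602030 IH) (Lpn (LP (LK LD1_c29 LD2_c19 LD3_c4))))))
theorem f602028 : Led Lsl_dt (LP (LK LD1_c29 LD2_c19 LD3_c4)) = (LP (LK LD1_c22 LD2_c54 LD3_c6)) :=
  Lgr Lrot42 (Lpr_df (f602023 IH) (Lpn (LP (LK LD1_c22 LD2_c54 LD3_c6))))
theorem f609299 : Led Lsl_bf (LP (LK LD1_c29 LD2_c15 LD3_c27)) = (LP (LK LD1_c22 LD2_c54 LD3_c6)) :=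
  Lgr Lrot93 (Lpe (K37.f418544 IH) (Lpr_bt (f609297 IH) (Lpr_dt (f602028 IH) (Lpn (LP (LK LD1_c22 LD2_c54 LD3_c6))))))
theorem f609305 : Led Lsl_bt (LP (LK LD1_c20 LD2_c1 LD3_c60)) = (LP (LK LD1_c13 LD2_c32 LD3_c17)) :=
  Lgr Lrot119 (Lpe (K37.f210778 IH) (Lpr_bf (f609299 IH) (Lpe (f480664 IH) (Lpn (LP (LK LD1_c13 LD2_c32 LD3_c17))))))
theorem f6575 : Led Lsl_bt (LP (LK LD1_c7 LD2_c8 LD3_c59)) = (LP (LK LD1_c3 LD2_c33 LD3_c58)) :=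
  Lre_b IH (LK LD1_c7 LD2_c8 LD3_c59) (LK LD1_c3 LD2_c33 LD3_c58) Lrfl Lrfl
theorem f528058 : Led Lsl_at (LP (LK LD1_c13 LD2_c32 LD3_c28)) = (LP (LK LD1_c7 LD2_c8 LD3_c59)) :=
  Lre_a IH (LK LD1_c13 LD2_c32 LD3_c28) (LK LD1_c7 LD2_c8 LD3_c59) Lrfl Lrfl
theorem f528059 : Led Lsl_bt (LP (LK LD1_c22 LD2_c48 LD3_c7)) = (LP (LK LD1_c13 LD2_c32 LD3_c28)) :=
  Lgr Lrot62 (Lpe (K47.f17580 IH) (Lpe (K61.f17511 IH) (Lpr_af (K35.f528054 IH) (Lpe (f6575 IH) (Lpe (f528058 IH) (Lpn (LP (LK LD1_c13 LD2_c32 LD3_c28))))))))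
theorem f609313 : Led Lsl_ff (LP (LK LD1_c20 LD2_c1 LD3_c60)) = (LP (LK LD1_c13 LD2_c32 LD3_c28)) :=
  Lgr Lrot25 (Lpr_bt (f609305 IH) (Lpe (K47.f529738 IH) (Lpr_bt (f528059 IH) (Lpn (LP (LK LD1_c13 LD2_c32 LD3_c28))))))
theorem f561085 : Led Lsl_dt (LP (LK LD1_c20 LD2_c1 LD3_c60)) = (LP (LK LD1_c21 LD2_c14 LD3_c28)) :=
  Lgr Lrot42 (Lpr_df (K61.f561083 IH) (Lpn (LP (LK LD1_c21 LD2_c14 LD3_c28))))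
theorem f522714 : Led Lsl_dt (LP (LK LD1_c22 LD2_c54 LD3_c28)) = (LP (LK LD1_c13 LD2_c32 LD3_c28)) :=
  Lre_d IH (LK LD1_c22 LD2_c54 LD3_c28) (LK LD1_c13 LD2_c32 LD3_c28) Lrfl Lrfl
theorem f609317 : Led Lsl_ft (LP (LK LD1_c21 LD2_c14 LD3_c28)) = (LP (LK LD1_c22 LD2_c54 LD3_c28)) :=
  Lgr Lrot54 (Lpe (f561085 IH) (Lpr_ff (f609313 IH) (Lpe (f522714 IH) (Lpn (LP (LK LD1_c22 LD2_c54 LD3_c28))))))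
theorem f522704 : Led Lsl_at (LP (LK LD1_c22 LD2_c54 LD3_c28)) = (LP (LK LD1_c13 LD2_c32 LD3_c30)) :=
  Lre_a IH (LK LD1_c22 LD2_c54 LD3_c28) (LK LD1_c13 LD2_c32 LD3_c30) Lrfl Lrfl
theorem f522698 : Led Lsl_gt (LP (LK LD1_c22 LD2_c54 LD3_c31)) = (LP (LK LD1_c13 LD2_c32 LD3_c30)) :=
  Lre_g IH (LK LD1_c22 LD2_c54 LD3_c31) (LK LD1_c13 LD2_c32 LD3_c30) Lrfl Lrfl
theorem f609329 : Led Lsl_gt (LP (LK LD1_c21 LD2_c14 LD3_c28)) = (LP (LK LD1_c22 LD2_c54 LD3_c31)) :=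
  Lgr Lrot5 (Lpr_ft (f609317 IH) (Lpr_at (f522704 IH) (Lpe (f522698 IH) (Lpn (LP (LK LD1_c22 LD2_c54 LD3_c31))))))
theorem f456121 : Led Lsl_gt (LP (LK LD1_c22 LD2_c47 LD3_c49)) = (LP (LK LD1_c13 LD2_c28 LD3_c15)) :=
  Lre_g IH (LK LD1_c22 LD2_c47 LD3_c49) (LK LD1_c13 LD2_c28 LD3_c15) Lrfl Lrfl
theorem f757680 : Led Lsl_dt (LP (LK LD1_c22 LD2_c54 LD3_c31)) = (LP (LK LD1_c22 LD2_c47 LD3_c49)) :=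
  Lgr Lrot171 (Lpe (f609329 IH) (Lpr_ef (f609287 IH) (Lpr_dt (K47.f529395 IH) (Lpe (f609357 IH) (Lpe (K57.f470565 IH) (Lpr_et (K62.f470658 IH) (Lpr_gf (K62.f757678 IH) (Lpe (K37.f482690 IH) (Lpr_dt (K34.f456117 IH) (Lpe (f456121 IH) (Lpn (LP (LK LD1_c22 LD2_c47 LD3_c49)))))))))))))
theorem f757682 : Led Lsl_df (LP (LK LD1_c22 LD2_c54 LD3_c31)) = (LP (LK LD1_c22 LD2_c47 LD3_c49)) :=
  Lgr Lrot38 (Lpr_dt (f757680 IH) (Lpn (LP (LK LD1_c22 LD2_c47 LD3_c49))))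
theorem f757685 : Led Lsl_ef (LP (LK LD1_c24 LD2_c46 LD3_c34)) = (LP (LK LD1_c22 LD2_c47 LD3_c49)) :=
  Lgr Lrot114 (Lpr_gt (f197762 IH) (Lpe (K37.f210750 IH) (Lpr_dt (K18.f210745 IH) (Lpe (K12.f210729 IH) (Lpe (K12.f24558 IH) (Lpr_et (K36.f210728 IH) (Lpr_gt (K37.f210754 IH) (Lpr_dt (f561085 IH) (Lpr_gt (f609329 IH) (Lpr_df (f757682 IH) (Lpn (LP (LK LD1_c22 LD2_c47 LD3_c49)))))))))))))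
theorem f757687 : Led Lsl_et (LP (LK LD1_c24 LD2_c46 LD3_c34)) = (LP (LK LD1_c22 LD2_c47 LD3_c49)) :=
  Lgr Lrot87 (Lpr_ef (f757685 IH) (Lpn (LP (LK LD1_c22 LD2_c47 LD3_c49))))
theorem f567446 : Led Lsl_at (LP (LK LD1_c13 LD2_c28 LD3_c15)) = (LP (LK LD1_c20 LD2_c25 LD3_c40)) :=
  Lgr Lrot66 (Lpe (K37.f524021 IH) (Lpe (K40.f524930 IH) (Lpr_ff (K47.f567444 IH) (Lpn (LP (LK LD1_c20 LD2_c25 LD3_c40))))))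
theorem f515985 : Led Lsl_gt (LP (LK LD1_c7 LD2_c8 LD3_c47)) = (LP (LK LD1_c13 LD2_c32 LD3_c4)) :=
  Lre_g IH (LK LD1_c7 LD2_c8 LD3_c47) (LK LD1_c13 LD2_c32 LD3_c4) Lrfl Lrfl
theorem f567468 : Led Lsl_gt (LP (LK LD1_c13 LD2_c32 LD3_c4)) = (LP (LK LD1_c20 LD2_c25 LD3_c40)) :=
  Lgr Lrot46 (Lpe (f515985 IH) (Lpr_ft (K37.f524021 IH) (Lpr_at (f567446 IH) (Lpn (LP (LK LD1_c20 LD2_c25 LD3_c40))))))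
theorem f449694 : Led Lsl_gf (LP (LK LD1_c16 LD2_c29 LD3_c1)) = (LP (LK LD1_c21 LD2_c4 LD3_c23)) :=
  Lgr Lrot47 (Lpr_gt (K37.f227617 IH) (Lpr_af (K36.f449682 IH) (Lpe (K37.f272797 IH) (Lpn (LP (LK LD1_c21 LD2_c4 LD3_c23))))))
theorem f567470 : Led Lsl_ef (LP (LK LD1_c13 LD2_c32 LD3_c4)) = (LP (LK LD1_c16 LD2_c22 LD3_c36)) :=
  Lgr Lrot167 (Lpr_gt (f567468 IH) (Lpr_dt (K47.f210724 IH) (Lpe (K47.f567464 IH) (Lpe (K37.f515986 IH) (Lpr_et (K37.f543062 IH) (Lpe (f449694 IH) (Lpe (K37.f227618 IH) (Lpe (K37.f241145 IH) (Lpr_gt (K37.f237303 IH) (Lpr_df (f237300 IH) (Lpn (LP (LK LD1_c16 LD2_c22 LD3_c36)))))))))))))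
theorem f567473 : Led Lsl_et (LP (LK LD1_c13 LD2_c32 LD3_c4)) = (LP (LK LD1_c16 LD2_c22 LD3_c36)) :=
  Lgr Lrot87 (Lpr_ef (f567470 IH) (Lpn (LP (LK LD1_c16 LD2_c22 LD3_c36))))
theorem f796117 : Led Lsl_at (LP (LK LD1_c22 LD2_c47 LD3_c49)) = (LP (LK LD1_c13 LD2_c32 LD3_c4)) :=
  Lgr Lrot80 (Lpe (f757687 IH) (Lpr_af (f796111 IH) (Lpe (f567473 IH) (Lpn (LP (LK LD1_c13 LD2_c32 LD3_c4))))))
theorem f796121 : Led Lsl_ff (LP (LK LD1_c22 LD2_c47 LD3_c49)) = (LP (LK LD1_c13 LD2_c32 LD3_c5)) :=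
  Lgr Lrot52 (Lpr_at (f796117 IH) (Lpe (f515985 IH) (Lpe (K55.f456598 IH) (Lpn (LP (LK LD1_c13 LD2_c32 LD3_c5))))))
theorem f796125 : Led Lsl_ft (LP (LK LD1_c22 LD2_c47 LD3_c49)) = (LP (LK LD1_c13 LD2_c32 LD3_c5)) :=
  Lgr Lrot48 (Lpr_ff (f796121 IH) (Lpn (LP (LK LD1_c13 LD2_c32 LD3_c5))))
theorem f567454 : Led Lsl_dt (LP (LK LD1_c13 LD2_c32 LD3_c5)) = (LP (LK LD1_c13 LD2_c50 LD3_c43)) :=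
  Lgr Lrot42 (Lpr_df (K55.f567452 IH) (Lpn (LP (LK LD1_c13 LD2_c50 LD3_c43))))
theorem f796127 : Led Lsl_ff (LP (LK LD1_c22 LD2_c54 LD3_c31)) = (LP (LK LD1_c13 LD2_c50 LD3_c43)) :=
  Lgr Lrot19 (Lpr_dt (f757680 IH) (Lpr_ft (f796125 IH) (Lpr_dt (f567454 IH) (Lpn (LP (LK LD1_c13 LD2_c50 LD3_c43))))))
theorem f488286 : Led Lsl_et (LP (LK LD1_c7 LD2_c19 LD3_c8)) = (LP (LK LD1_c13 LD2_c50 LD3_c43)) :=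
  Lre_e IH (LK LD1_c7 LD2_c19 LD3_c8) (LK LD1_c13 LD2_c50 LD3_c43) Lrfl Lrfl
theorem f544215 : Led Lsl_ft (LP (LK LD1_c21 LD2_c14 LD3_c24)) = (LP (LK LD1_c12 LD2_c8 LD3_c10)) :=
  Lre_f IH (LK LD1_c21 LD2_c14 LD3_c24) (LK LD1_c12 LD2_c8 LD3_c10) Lrfl Lrfl
theorem f796264 : Led Lsl_et (LP (LK LD1_c22 LD2_c54 LD3_c31)) = (LP (LK LD1_c21 LD2_c14 LD3_c24)) :=
  Lgr Lrot69 (Lpr_ff (f796127 IH) (Lpe (f488286 IH) (Lpq (f795773 IH) (Lpe (K62.f757749 IH) (Lpe (K39.f544208 IH) (Lpe (f544215 IH) (Lpn (LP (LK LD1_c21 LD2_c14 LD3_c24)))))))))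
theorem f567440 : Led Lsl_af (LP (LK LD1_c13 LD2_c28 LD3_c15)) = (LP (LK LD1_c20 LD2_c25 LD3_c40)) :=
  Lgr Lrot36 (Lpr_bt (K37.f524020 IH) (Lpr_at (K35.f524941 IH) (Lpr_bt (K63.f489021 IH) (Lpr_at (K35.f524593 IH) (Lpr_bt (K47.f567438 IH) (Lpn (LP (LK LD1_c20 LD2_c25 LD3_c40))))))))
theorem f567462 : Led Lsl_gt (LP (LK LD1_c13 LD2_c32 LD3_c0)) = (LP (LK LD1_c22 LD2_c47 LD3_c49)) :=
  Lgr Lrot5 (Lpr_ft (K47.f567448 IH) (Lpe (f567440 IH) (Lpe (f456121 IH) (Lpn (LP (LK LD1_c22 LD2_c47 LD3_c49))))))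
theorem f475312 : Led Lsl_et (LP (LK LD1_c7 LD2_c14 LD3_c20)) = (LP (LK LD1_c13 LD2_c41 LD3_c55)) :=
  Lre_e IH (LK LD1_c7 LD2_c14 LD3_c20) (LK LD1_c13 LD2_c41 LD3_c55) Lrfl Lrfl
theorem f796272 : Led Lsl_gf (LP (LK LD1_c13 LD2_c48 LD3_c19)) = (LP (LK LD1_c21 LD2_c14 LD3_c24)) :=
  Lgr Lrot138 (Lpe (K47.f526262 IH) (Lpe (K47.f609139 IH) (Lpe (K47.f425439 IH) (Lpr_et (f475312 IH) (Lpe (K40.f554078 IH) (Lpe (K40.f526832 IH) (Lpr_dt (K40.f524070 IH) (Lpr_gt (f567462 IH) (Lpe (f757680 IH) (Lpr_et (f796264 IH) (Lpn (LP (LK LD1_c21 LD2_c14 LD3_c24)))))))))))))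
theorem f160572 : Led Lsl_dt (LP (LK LD1_c14 LD2_c46 LD3_c21)) = (LP (LK LD1_c7 LD2_c49 LD3_c55)) :=
  Lre_d IH (LK LD1_c14 LD2_c46 LD3_c21) (LK LD1_c7 LD2_c49 LD3_c55) Lrfl Lrfl
theorem f11206 : Led Lsl_bt (LP (LK LD1_c7 LD2_c54 LD3_c17)) = (LP (LK LD1_c3 LD2_c56 LD3_c18)) :=
  Lre_b IH (LK LD1_c7 LD2_c54 LD3_c17) (LK LD1_c3 LD2_c56 LD3_c18) Lrfl Lrfl
theorem f480059 : Led Lsl_df (LP (LK LD1_c7 LD2_c54 LD3_c17)) = (LP (LK LD1_c13 LD2_c25 LD3_c59)) :=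
  Lgr Lrot12 (Lpr_bt (f11206 IH) (Lpr_dt (K33.f480056 IH) (Lpr_bt (K47.f464593 IH) (Lpn (LP (LK LD1_c13 LD2_c25 LD3_c59))))))
theorem f464594 : Led Lsl_gt (LP (LK LD1_c22 LD2_c45 LD3_c19)) = (LP (LK LD1_c13 LD2_c25 LD3_c59)) :=
  Lre_g IH (LK LD1_c22 LD2_c45 LD3_c19) (LK LD1_c13 LD2_c25 LD3_c59) Lrfl Lrfl
theorem f796278 : Led Lsl_cf (LP (LK LD1_c22 LD2_c45 LD3_c19)) = (LP (LK LD1_c21 LD2_c14 LD3_c24)) :=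
  Lgr Lrot166 (Lpr_gt (f464594 IH) (Lpe (f480059 IH) (Lpr_gt (f535115 IH) (Lpr_dt (f160572 IH) (Lpe (K35.f475304 IH) (Lpe (K47.f425521 IH) (Lpr_gf (K47.f609139 IH) (Lpr_df (K47.f526262 IH) (Lpr_gf (f796272 IH) (Lpn (LP (LK LD1_c21 LD2_c14 LD3_c24))))))))))))
theorem f544214 : Led Lsl_ft (LP (LK LD1_c12 LD2_c8 LD3_c10)) = (LP (LK LD1_c21 LD2_c14 LD3_c24)) :=
  Lre_f IH (LK LD1_c12 LD2_c8 LD3_c10) (LK LD1_c21 LD2_c14 LD3_c24) Lrfl Lrfl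
theorem f489795 : Led Lsl_gt (LP (LK LD1_c14 LD2_c9 LD3_c11)) = (LP (LK LD1_c7 LD2_c29 LD3_c41)) :=
  Lre_g IH (LK LD1_c14 LD2_c9 LD3_c11) (LK LD1_c7 LD2_c29 LD3_c41) Lrfl Lrfl
theorem f521173 : Led Lsl_gf (LP (LK LD1_c14 LD2_c9 LD3_c11)) = (LP (LK LD1_c22 LD2_c45 LD3_c20)) :=
  Lgr Lrot47 (Lpr_gt (f489795 IH) (Lpe (K47.f489862 IH) (Lpr_ff (K47.f521171 IH) (Lpn (LP (LK LD1_c22 LD2_c45 LD3_c20))))))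
theorem f610935 : Led Lsl_ct (LP (LK LD1_c14 LD2_c9 LD3_c11)) = (LP (LK LD1_c12 LD2_c8 LD3_c10)) :=
  Lgr Lrot110 (Lpr_gf (f521173 IH) (Lpr_cf (K47.f610726 IH) (Lpe (K47.f237635 IH) (Lpe (K47.f237634 IH) (Lpe (f241713 IH) (Lpr_ct (K13.f172790 IH) (Lpr_gt (f417988 IH) (Lpe (f559210 IH) (Lpr_df (K39.f552925 IH) (Lpn (LP (LK LD1_c12 LD2_c8 LD3_c10))))))))))))
theorem f796284 : Led Lsl_ft (LP (LK LD1_c22 LD2_c45 LD3_c19)) = (LP (LK LD1_c14 LD2_c9 LD3_c11)) :=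
  Lgr Lrot4 (Lpr_cf (f796278 IH) (Lpe (f544214 IH) (Lpe (f610935 IH) (Lpn (LP (LK LD1_c14 LD2_c9 LD3_c11))))))
theorem f796290 : Led Lsl_af (LP (LK LD1_c13 LD2_c57 LD3_c56)) = (LP (LK LD1_c14 LD2_c9 LD3_c11)) :=
  Lgr Lrot31 (Lpe (K47.f609252 IH) (Lpe (f464594 IH) (Lpr_ft (f796284 IH) (Lpn (LP (LK LD1_c14 LD2_c9 LD3_c11))))))
theorem f610971 : Led Lsl_df (LP (LK LD1_c16 LD2_c20 LD3_c29)) = (LP (LK LD1_c13 LD2_c13 LD3_c56)) :=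
  Lgr Lrot38 (Lpr_dt (K61.f610969 IH) (Lpn (LP (LK LD1_c13 LD2_c13 LD3_c56))))
theorem f464705 : Led Lsl_dt (LP (LK LD1_c7 LD2_c54 LD3_c50)) = (LP (LK LD1_c14 LD2_c55 LD3_c39)) :=
  Lre_d IH (LK LD1_c7 LD2_c54 LD3_c50) (LK LD1_c14 LD2_c55 LD3_c39) Lrfl Lrfl
theorem f610976 : Led Lsl_gf (LP (LK LD1_c14 LD2_c54 LD3_c44)) = (LP (LK LD1_c14 LD2_c55 LD3_c39)) :=
  Lgr Lrot143 (Lpr_dt (K47.f480478 IH) (Lpr_cf (K47.f610726 IH) (Lpr_df (K61.f237636 IH) (Lpe (K61.f610963 IH) (Lpr_df (f610971 IH) (Lpe (K35.f458567 IH) (Lpr_cf (K28.f464696 IH) (Lpr_gt (K34.f464704 IH) (Lpr_dt (f464705 IH) (Lpn (LP (LK LD1_c14 LD2_c55 LD3_c39))))))))))))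
theorem f610978 : Led Lsl_gt (LP (LK LD1_c7 LD2_c55 LD3_c0)) = (LP (LK LD1_c14 LD2_c55 LD3_c39)) :=
  Lgr Lrot5 (Lpr_ft (K47.f521157 IH) (Lpr_at (K47.f480481 IH) (Lpr_gf (f610976 IH) (Lpn (LP (LK LD1_c14 LD2_c55 LD3_c39))))))
theorem f465035 : Led Lsl_dt (LP (LK LD1_c14 LD2_c55 LD3_c39)) = (LP (LK LD1_c7 LD2_c54 LD3_c50)) :=
  Lre_d IH (LK LD1_c14 LD2_c55 LD3_c39) (LK LD1_c7 LD2_c54 LD3_c50) Lrfl Lrfl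
theorem f411517 : Led Lsl_gf (LP (LK LD1_c8 LD2_c44 LD3_c14)) = (LP (LK LD1_c14 LD2_c58 LD3_c38)) :=
  Lgr Lrot76 (Lpr_af (K39.f411509 IH) (Lpe (K47.f181380 IH) (Lpr_gt (K39.f181329 IH) (Lpn (LP (LK LD1_c14 LD2_c58 LD3_c38))))))
theorem f181330 : Led Lsl_et (LP (LK LD1_c24 LD2_c46 LD3_c3)) = (LP (LK LD1_c14 LD2_c58 LD3_c38)) :=
  Lre_e IH (LK LD1_c24 LD2_c46 LD3_c3) (LK LD1_c14 LD2_c58 LD3_c38) Lrfl Lrfl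
theorem f229419 : Led Lsl_dt (LP (LK LD1_c24 LD2_c46 LD3_c3)) = (LP (LK LD1_c24 LD2_c46 LD3_c34)) :=
  Lgr Lrot136 (Lpr_et (f181330 IH) (Lpe (K39.f181329 IH) (Lpe (K39.f181328 IH) (Lpr_dt (K13.f181321 IH) (Lpe (K13.f181324 IH) (Lpe (K1.f39199 IH) (Lpr_gf (K12.f229408 IH) (Lpe (K15.f197740 IH) (Lpr_dt (K37.f197752 IH) (Lpe (f197762 IH) (Lpn (LP (LK LD1_c24 LD2_c46 LD3_c34)))))))))))))
theorem f39899 : Led Lsl_et (LP (LK LD1_c7 LD2_c56 LD3_c33)) = (LP (LK LD1_c3 LD2_c57 LD3_c33)) :=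
  Lre_e IH (LK LD1_c7 LD2_c56 LD3_c33) (LK LD1_c3 LD2_c57 LD3_c33) Lrfl Lrfl
theorem f262320 : Led Lsl_et (LP (LK LD1_c8 LD2_c44 LD3_c58)) = (LP (LK LD1_c14 LD2_c59 LD3_c7)) :=
  Lgr Lrot69 (Lpe (K15.f216660 IH) (Lpe (K15.f210331 IH) (Lpr_ff (K15.f262312 IH) (Lpe (f39899 IH) (Lpe (K15.f193548 IH) (Lpn (LP (LK LD1_c14 LD2_c59 LD3_c7))))))))
theorem f201485 : Led Lsl_gt (LP (LK LD1_c4 LD2_c23 LD3_c37)) = (LP (LK LD1_c8 LD2_c45 LD3_c0)) :=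
  Lre_g IH (LK LD1_c4 LD2_c23 LD3_c37) (LK LD1_c8 LD2_c45 LD3_c0) Lrfl Lrfl
theorem f262346 : Led Lsl_gt (LP (LK LD1_c8 LD2_c45 LD3_c0)) = (LP (LK LD1_c14 LD2_c59 LD3_c7)) :=
  Lgr Lrot46 (Lpe (f201485 IH) (Lpr_ft (K48.f201482 IH) (Lpr_at (K15.f262332 IH) (Lpn (LP (LK LD1_c14 LD2_c59 LD3_c7))))))
theorem f201545 : Led Lsl_et (LP (LK LD1_c16 LD2_c22 LD3_c48)) = (LP (LK LD1_c8 LD2_c45 LD3_c0)) :=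
  Lre_e IH (LK LD1_c16 LD2_c22 LD3_c48) (LK LD1_c8 LD2_c45 LD3_c0) Lrfl Lrfl
theorem f553015 : Led Lsl_dt (LP (LK LD1_c16 LD2_c22 LD3_c48)) = (LP (LK LD1_c13 LD2_c41 LD3_c51)) :=
  Lgr Lrot56 (Lpr_et (f201545 IH) (Lpr_gt (f262346 IH) (Lpe (f262320 IH) (Lpr_dt (K48.f216682 IH) (Lpe (f385989 IH) (Lpe (f229419 IH) (Lpr_et (f181330 IH) (Lpe (f411517 IH) (Lpr_dt (K39.f552919 IH) (Lpr_gt (K34.f425431 IH) (Lpn (LP (LK LD1_c13 LD2_c41 LD3_c51)))))))))))))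
theorem f455417 : Led Lsl_gt (LP (LK LD1_c6 LD2_c58 LD3_c35)) = (LP (LK LD1_c13 LD2_c14 LD3_c39)) :=
  Lre_g IH (LK LD1_c6 LD2_c58 LD3_c35) (LK LD1_c13 LD2_c14 LD3_c39) Lrfl Lrfl
theorem f480609 : Led Lsl_cf (LP (LK LD1_c13 LD2_c40 LD3_c46)) = (LP (LK LD1_c13 LD2_c14 LD3_c39)) :=
  Lgr Lrot175 (Lpr_dt (K33.f480603 IH) (Lpe (K28.f458348 IH) (Lpe (K28.f458347 IH) (Lpe (K33.f11043 IH) (Lpe (K33.f479750 IH) (Lpr_dt (K33.f479678 IH) (Lpr_gt (K33.f18581 IH) (Lpr_ct (K46.f446446 IH) (Lpr_gt (f455417 IH) (Lpn (LP (LK LD1_c13 LD2_c14 LD3_c39))))))))))))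
theorem f480613 : Led Lsl_ct (LP (LK LD1_c13 LD2_c40 LD3_c46)) = (LP (LK LD1_c13 LD2_c14 LD3_c39)) :=
  Lgr Lrot59 (Lpr_cf (f480609 IH) (Lpn (LP (LK LD1_c13 LD2_c14 LD3_c39))))
theorem f471037 : Led Lsl_ct (LP (LK LD1_c13 LD2_c48 LD3_c18)) = (LP (LK LD1_c23 LD2_c16 LD3_c23)) :=
  Lre_c IH (LK LD1_c13 LD2_c48 LD3_c18) (LK LD1_c23 LD2_c16 LD3_c23) Lrfl Lrfl
theorem f441810 : Led Lsl_ct (LP (LK LD1_c13 LD2_c40 LD3_c37)) = (LP (LK LD1_c23 LD2_c6 LD3_c10)) :=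
  Lre_c IH (LK LD1_c13 LD2_c40 LD3_c37) (LK LD1_c23 LD2_c6 LD3_c10) Lrfl Lrfl
theorem f610849 : Led Lsl_gf (LP (LK LD1_c23 LD2_c16 LD3_c23)) = (LP (LK LD1_c23 LD2_c6 LD3_c10)) :=
  Lgr Lrot129 (Lpe (f471037 IH) (Lpr_bt (K47.f471036 IH) (Lpe (K33.f471028 IH) (Lpr_bf (K46.f458634 IH) (Lpr_ct (K46.f446446 IH) (Lpr_gt (f455417 IH) (Lpe (f480613 IH) (Lpr_bt (K61.f610730 IH) (Lpr_gt (K47.f470595 IH) (Lpr_ct (f441810 IH) (Lpn (LP (LK LD1_c23 LD2_c6 LD3_c10)))))))))))))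
theorem f425520 : Led Lsl_ct (LP (LK LD1_c23 LD2_c7 LD3_c23)) = (LP (LK LD1_c30 LD2_c54 LD3_c18)) :=
  Lre_c IH (LK LD1_c23 LD2_c7 LD3_c23) (LK LD1_c30 LD2_c54 LD3_c18) Lrfl Lrfl
theorem f471041 : Led Lsl_ct (LP (LK LD1_c23 LD2_c16 LD3_c23)) = (LP (LK LD1_c13 LD2_c48 LD3_c18)) :=
  Lre_c IH (LK LD1_c23 LD2_c16 LD3_c23) (LK LD1_c13 LD2_c48 LD3_c18) Lrfl Lrfl
theorem f609137 : Led Lsl_at (LP (LK LD1_c30 LD2_c54 LD3_c18)) = (LP (LK LD1_c23 LD2_c16 LD3_c23)) :=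
  Lgr Lrot107 (Lpe (f425520 IH) (Lpr_af (K47.f608974 IH) (Lpe (f471041 IH) (Lpn (LP (LK LD1_c23 LD2_c16 LD3_c23))))))
theorem f237730 : Led Lsl_dt (LP (LK LD1_c16 LD2_c16 LD3_c17)) = (LP (LK LD1_c26 LD2_c14 LD3_c12)) :=
  Lre_d IH (LK LD1_c16 LD2_c16 LD3_c17) (LK LD1_c26 LD2_c14 LD3_c12) Lrfl Lrfl
theorem f30471 : Led Lsl_et (LP (LK LD1_c4 LD2_c0 LD3_c19)) = (LP (LK LD1_c8 LD2_c1 LD3_c39)) :=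
  Lre_e IH (LK LD1_c4 LD2_c0 LD3_c19) (LK LD1_c8 LD2_c1 LD3_c39) Lrfl Lrfl
theorem f29738 : Led Lsl_gt (LP (LK LD1_c15 LD2_c7 LD3_c1)) = (LP (LK LD1_c8 LD2_c1 LD3_c39)) :=
  Lre_g IH (LK LD1_c15 LD2_c7 LD3_c1) (LK LD1_c8 LD2_c1 LD3_c39) Lrfl Lrfl
theorem f29746 : Led Lsl_et (LP (LK LD1_c24 LD2_c55 LD3_c20)) = (LP (LK LD1_c15 LD2_c7 LD3_c1)) :=
  Lre_e IH (LK LD1_c24 LD2_c55 LD3_c20) (LK LD1_c15 LD2_c7 LD3_c1) Lrfl Lrfl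
theorem f29747 : Led Lsl_dt (LP (LK LD1_c24 LD2_c55 LD3_c20)) = (LP (LK LD1_c31 LD2_c42 LD3_c61)) :=
  Lre_d IH (LK LD1_c24 LD2_c55 LD3_c20) (LK LD1_c31 LD2_c42 LD3_c61) Lrfl Lrfl
theorem f237731 : Led Lsl_gt (LP (LK LD1_c26 LD2_c14 LD3_c12)) = (LP (LK LD1_c31 LD2_c42 LD3_c61)) :=
  Lgr Lrot139 (Lpe (f237730 IH) (Lpe (K62.f237729 IH) (Lpe (K16.f237716 IH) (Lpr_dt (K13.f227216 IH) (Lpr_gf (K13.f237719 IH) (Lpe (K1.f29579 IH) (Lpr_et (f30471 IH) (Lpe (f29738 IH) (Lpe (f29746 IH) (Lpr_dt (f29747 IH) (Lpn (LP (LK LD1_c31 LD2_c42 LD3_c61)))))))))))))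
theorem f233399 : Led Lsl_dt (LP (LK LD1_c31 LD2_c42 LD3_c61)) = (LP (LK LD1_c24 LD2_c55 LD3_c20)) :=
  Lre_d IH (LK LD1_c31 LD2_c42 LD3_c61) (LK LD1_c24 LD2_c55 LD3_c20) Lrfl Lrfl
theorem f609617 : Led Lsl_cf (LP (LK LD1_c24 LD2_c55 LD3_c20)) = (LP (LK LD1_c24 LD2_c40 LD3_c24)) :=
  Lgr Lrot14 (Lpe (f233399 IH) (Lpe (f237731 IH) (Lpe (f237730 IH) (Lpe (K62.f237729 IH) (Lpr_ct (K39.f237717 IH) (Lpr_gt (K37.f237296 IH) (Lpr_dt (K47.f609609 IH) (Lpe (K47.f609607 IH) (Lpr_dt (K48.f609566 IH) (Lpn (LP (LK LD1_c24 LD2_c40 LD3_c24))))))))))))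
theorem f608973 : Led Lsl_ct (LP (LK LD1_c30 LD2_c54 LD3_c18)) = (LP (LK LD1_c23 LD2_c7 LD3_c23)) :=
  Lre_c IH (LK LD1_c30 LD2_c54 LD3_c18) (LK LD1_c23 LD2_c7 LD3_c23) Lrfl Lrfl
theorem f609621 : Led Lsl_ft (LP (LK LD1_c24 LD2_c55 LD3_c20)) = (LP (LK LD1_c30 LD2_c54 LD3_c18)) :=
  Lgr Lrot4 (Lpr_cf (f609617 IH) (Lpe (K47.f609131 IH) (Lpe (f608973 IH) (Lpn (LP (LK LD1_c30 LD2_c54 LD3_c18))))))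
theorem f610851 : Led Lsl_gt (LP (LK LD1_c24 LD2_c55 LD3_c20)) = (LP (LK LD1_c23 LD2_c6 LD3_c10)) :=
  Lgr Lrot5 (Lpr_ft (f609621 IH) (Lpr_at (f609137 IH) (Lpr_gf (f610849 IH) (Lpn (LP (LK LD1_c23 LD2_c6 LD3_c10))))))
theorem f470591 : Led Lsl_ct (LP (LK LD1_c23 LD2_c6 LD3_c10)) = (LP (LK LD1_c13 LD2_c40 LD3_c37)) :=
  Lre_c IH (LK LD1_c23 LD2_c6 LD3_c10) (LK LD1_c13 LD2_c40 LD3_c37) Lrfl Lrfl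
theorem f610853 : Led Lsl_gf (LP (LK LD1_c24 LD2_c40 LD3_c24)) = (LP (LK LD1_c16 LD2_c22 LD3_c48)) :=
  Lgr Lrot147 (Lpe (f609617 IH) (Lpr_gt (f610851 IH) (Lpr_ct (f470591 IH) (Lpe (K47.f160503 IH) (Lpe (K47.f160612 IH) (Lpe (K29.f472111 IH) (Lpe (K29.f425498 IH) (Lpe (K34.f425502 IH) (Lpe (f553015 IH) (Lpn (LP (LK LD1_c16 LD2_c22 LD3_c48))))))))))))
theorem f446555 : Led Lsl_bt (LP (LK LD1_c14 LD2_c53 LD3_c33)) = (LP (LK LD1_c7 LD2_c53 LD3_c49)) :=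
  Lre_b IH (LK LD1_c14 LD2_c53 LD3_c33) (LK LD1_c7 LD2_c53 LD3_c49) Lrfl Lrfl
theorem f471038 : Led Lsl_bt (LP (LK LD1_c7 LD2_c17 LD3_c51)) = (LP (LK LD1_c13 LD2_c48 LD3_c18)) :=
  Lre_b IH (LK LD1_c7 LD2_c17 LD3_c51) (LK LD1_c13 LD2_c48 LD3_c18) Lrfl Lrfl
theorem f526239 : Led Lsl_ff (LP (LK LD1_c14 LD2_c53 LD3_c33)) = (LP (LK LD1_c13 LD2_c48 LD3_c18)) :=
  Lgr Lrot25 (Lpr_bt (f446555 IH) (Lpr_ft (K47.f526237 IH) (Lpr_bt (f471038 IH) (Lpn (LP (LK LD1_c13 LD2_c48 LD3_c18))))))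
theorem f610855 : Led Lsl_gt (LP (LK LD1_c13 LD2_c48 LD3_c18)) = (LP (LK LD1_c16 LD2_c22 LD3_c48)) :=
  Lgr Lrot5 (Lpe (f526239 IH) (Lpr_at (K47.f526229 IH) (Lpr_gf (f610853 IH) (Lpn (LP (LK LD1_c16 LD2_c22 LD3_c48))))))
theorem f610981 : Led Lsl_cf (LP (LK LD1_c14 LD2_c9 LD3_c11)) = (LP (LK LD1_c12 LD2_c8 LD3_c10)) :=
  Lgr Lrot166 (Lpr_gt (f489795 IH) (Lpr_dt (K47.f489856 IH) (Lpr_gt (f610978 IH) (Lpr_dt (f465035 IH) (Lpr_ct (K34.f471511 IH) (Lpe (f553015 IH) (Lpe (f610855 IH) (Lpe (K47.f493742 IH) (Lpe (K62.f609576 IH) (Lpn (LP (LK LD1_c12 LD2_c8 LD3_c10))))))))))))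
theorem f463089 : Led Lsl_bt (LP (LK LD1_c3 LD2_c56 LD3_c15)) = (LP (LK LD1_c7 LD2_c54 LD3_c7)) :=
  Lre_b IH (LK LD1_c3 LD2_c56 LD3_c15) (LK LD1_c7 LD2_c54 LD3_c7) Lrfl Lrfl
theorem f465048 : Led Lsl_at (LP (LK LD1_c14 LD2_c55 LD3_c42)) = (LP (LK LD1_c7 LD2_c54 LD3_c53)) :=
  Lre_a IH (LK LD1_c14 LD2_c55 LD3_c42) (LK LD1_c7 LD2_c54 LD3_c53) Lrfl Lrfl
theorem f470045 : Led Lsl_bt (LP (LK LD1_c14 LD2_c54 LD3_c14)) = (LP (LK LD1_c14 LD2_c55 LD3_c42)) :=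
  Lgr Lrot62 (Lpe (K47.f463066 IH) (Lpe (f463089 IH) (Lpr_af (K28.f470038 IH) (Lpe (K47.f465108 IH) (Lpe (f465048 IH) (Lpn (LP (LK LD1_c14 LD2_c55 LD3_c42))))))))
theorem f463086 : Led Lsl_at (LP (LK LD1_c14 LD2_c54 LD3_c14)) = (LP (LK LD1_c7 LD2_c54 LD3_c7)) :=
  Lre_a IH (LK LD1_c14 LD2_c54 LD3_c14) (LK LD1_c7 LD2_c54 LD3_c7) Lrfl Lrfl
theorem f463087 : Led Lsl_ff (LP (LK LD1_c14 LD2_c54 LD3_c14)) = (LP (LK LD1_c14 LD2_c49 LD3_c32)) :=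
  Lgr Lrot30 (Lpr_at (f463086 IH) (Lpr_ft (K28.f463075 IH) (Lpr_at (K28.f121156 IH) (Lpn (LP (LK LD1_c14 LD2_c49 LD3_c32))))))
theorem f470145 : Led Lsl_ff (LP (LK LD1_c14 LD2_c46 LD3_c20)) = (LP (LK LD1_c14 LD2_c55 LD3_c42)) :=
  Lgr Lrot25 (Lpe (K8.f159936 IH) (Lpe (f463087 IH) (Lpr_bt (f470045 IH) (Lpn (LP (LK LD1_c14 LD2_c55 LD3_c42))))))
theorem f160542 : Led Lsl_at (LP (LK LD1_c14 LD2_c46 LD3_c20)) = (LP (LK LD1_c7 LD2_c49 LD3_c57)) :=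
  Lre_a IH (LK LD1_c14 LD2_c46 LD3_c20) (LK LD1_c7 LD2_c49 LD3_c57) Lrfl Lrfl
theorem f160508 : Led Lsl_gt (LP (LK LD1_c14 LD2_c46 LD3_c25)) = (LP (LK LD1_c7 LD2_c49 LD3_c57)) :=
  Lre_g IH (LK LD1_c14 LD2_c46 LD3_c25) (LK LD1_c7 LD2_c49 LD3_c57) Lrfl Lrfl
theorem f470147 : Led Lsl_gf (LP (LK LD1_c14 LD2_c46 LD3_c25)) = (LP (LK LD1_c14 LD2_c55 LD3_c42)) :=
  Lgr Lrot47 (Lpr_gt (f160508 IH) (Lpe (f160542 IH) (Lpr_ff (f470145 IH) (Lpn (LP (LK LD1_c14 LD2_c55 LD3_c42))))))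
theorem f610987 : Led Lsl_df (LP (LK LD1_c14 LD2_c9 LD3_c11)) = (LP (LK LD1_c14 LD2_c46 LD3_c25)) :=
  Lgr Lrot84 (Lpr_cf (f610981 IH) (Lpe (K47.f552930 IH) (Lpr_gf (K39.f411505 IH) (Lpe (K39.f547014 IH) (Lpe (K35.f425519 IH) (Lpr_cf (K35.f475304 IH) (Lpr_gt (K35.f465041 IH) (Lpr_dt (K47.f465043 IH) (Lpe (f470147 IH) (Lpn (LP (LK LD1_c14 LD2_c46 LD3_c25))))))))))))
theorem f610985 : Led Lsl_et (LP (LK LD1_c14 LD2_c9 LD3_c11)) = (LP (LK LD1_c12 LD2_c8 LD3_c8)) :=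
  Lgr Lrot158 (Lpr_cf (f610981 IH) (Lpe (K47.f543687 IH) (Lpe (K37.f80509 IH) (Lpn (LP (LK LD1_c12 LD2_c8 LD3_c8))))))
theorem f544205 : Led Lsl_et (LP (LK LD1_c21 LD2_c14 LD3_c22)) = (LP (LK LD1_c29 LD2_c55 LD3_c14)) :=
  Lre_e IH (LK LD1_c21 LD2_c14 LD3_c22) (LK LD1_c29 LD2_c55 LD3_c14) Lrfl Lrfl
theorem f160579 : Led Lsl_et (LP (LK LD1_c24 LD2_c32 LD3_c36)) = (LP (LK LD1_c14 LD2_c46 LD3_c25)) :=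
  Lre_e IH (LK LD1_c24 LD2_c32 LD3_c36) (LK LD1_c14 LD2_c46 LD3_c25) Lrfl Lrfl
theorem f610989 : Led Lsl_dt (LP (LK LD1_c29 LD2_c55 LD3_c14)) = (LP (LK LD1_c24 LD2_c32 LD3_c36)) :=
  Lgr Lrot77 (Lpe (f544205 IH) (Lpe (K43.f80508 IH) (Lpe (f610985 IH) (Lpr_df (f610987 IH) (Lpe (f160579 IH) (Lpn (LP (LK LD1_c24 LD2_c32 LD3_c36))))))))
theorem f610992 : Led Lsl_df (LP (LK LD1_c29 LD2_c55 LD3_c14)) = (LP (LK LD1_c24 LD2_c32 LD3_c36)) :=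
  Lgr Lrot38 (Lpr_dt (f610989 IH) (Lpn (LP (LK LD1_c24 LD2_c32 LD3_c36))))
theorem f608060 : Led Lsl_et (LP (LK LD1_c29 LD2_c55 LD3_c14)) = (LP (LK LD1_c21 LD2_c14 LD3_c22)) :=
  Lre_e IH (LK LD1_c29 LD2_c55 LD3_c14) (LK LD1_c21 LD2_c14 LD3_c22) Lrfl Lrfl
theorem f610991 : Led Lsl_et (LP (LK LD1_c14 LD2_c46 LD3_c25)) = (LP (LK LD1_c24 LD2_c32 LD3_c36)) :=
  Lre_e IH (LK LD1_c14 LD2_c46 LD3_c25) (LK LD1_c24 LD2_c32 LD3_c36) Lrfl Lrfl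
theorem f610951 : Led Lsl_dt (LP (LK LD1_c14 LD2_c9 LD3_c11)) = (LP (LK LD1_c14 LD2_c46 LD3_c25)) :=
  Lgr Lrot57 (Lpr_gf (f521173 IH) (Lpr_cf (K47.f610726 IH) (Lpr_gt (K61.f610949 IH) (Lpr_dt (K55.f237687 IH) (Lpr_gt (K39.f237679 IH) (Lpe (K39.f552905 IH) (Lpe (K28.f159805 IH) (Lpe (K28.f160507 IH) (Lpe (f160508 IH) (Lpn (LP (LK LD1_c14 LD2_c46 LD3_c25))))))))))))
theorem f610994 : Led Lsl_et (LP (LK LD1_c12 LD2_c8 LD3_c8)) = (LP (LK LD1_c14 LD2_c9 LD3_c11)) :=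
  Lgr Lrot71 (Lpe (K43.f80512 IH) (Lpe (f608060 IH) (Lpr_df (f610992 IH) (Lpe (f610991 IH) (Lpe (f610951 IH) (Lpn (LP (LK LD1_c14 LD2_c9 LD3_c11))))))))
theorem f796298 : Led Lsl_at (LP (LK LD1_c7 LD2_c23 LD3_c8)) = (LP (LK LD1_c12 LD2_c8 LD3_c8)) :=
  Lgr Lrot80 (Lpe (K47.f469390 IH) (Lpr_af (f796290 IH) (Lpe (f610994 IH) (Lpn (LP (LK LD1_c12 LD2_c8 LD3_c8))))))
theorem f796302 : Led Lsl_ff (LP (LK LD1_c7 LD2_c23 LD3_c8)) = (LP (LK LD1_c12 LD2_c8 LD3_c12)) :=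
  Lgr Lrot52 (Lpr_at (f796298 IH) (Lpr_gf (K39.f544198 IH) (Lpr_gf (K43.f560413 IH) (Lpn (LP (LK LD1_c12 LD2_c8 LD3_c12))))))
theorem f796306 : Led Lsl_ft (LP (LK LD1_c13 LD2_c57 LD3_c55)) = (LP (LK LD1_c21 LD2_c14 LD3_c27)) :=
  Lgr Lrot54 (Lpe (K46.f147281 IH) (Lpr_ff (f796302 IH) (Lpe (K46.f70722 IH) (Lpn (LP (LK LD1_c21 LD2_c14 LD3_c27))))))
theorem f796314 : Led Lsl_af (LP (LK LD1_c13 LD2_c57 LD3_c57)) = (LP (LK LD1_c21 LD2_c14 LD3_c27)) :=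
  Lgr Lrot31 (Lpr_gf (K47.f607869 IH) (Lpe (K46.f147282 IH) (Lpr_ft (f796306 IH) (Lpn (LP (LK LD1_c21 LD2_c14 LD3_c27))))))
theorem f796300 : Led Lsl_af (LP (LK LD1_c13 LD2_c57 LD3_c55)) = (LP (LK LD1_c21 LD2_c14 LD3_c22)) :=
  Lgr Lrot117 (Lpr_dt (K47.f533546 IH) (Lpr_at (f796298 IH) (Lpr_dt (K43.f80508 IH) (Lpn (LP (LK LD1_c21 LD2_c14 LD3_c22))))))
theorem f796322 : Led Lsl_ft (LP (LK LD1_c13 LD2_c57 LD3_c57)) = (LP (LK LD1_c21 LD2_c14 LD3_c22)) :=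
  Lgr Lrot101 (Lpr_af (f796314 IH) (Lpe (f796306 IH) (Lpr_af (f796300 IH) (Lpn (LP (LK LD1_c21 LD2_c14 LD3_c22))))))
theorem f796330 : Led Lsl_ff (LP (LK LD1_c13 LD2_c57 LD3_c57)) = (LP (LK LD1_c21 LD2_c14 LD3_c22)) :=
  Lgr Lrot3 (Lpr_ft (f796322 IH) (Lpn (LP (LK LD1_c21 LD2_c14 LD3_c22))))
theorem f116485 : Led Lsl_dt (LP (LK LD1_c7 LD2_c22 LD3_c52)) = (LP (LK LD1_c13 LD2_c57 LD3_c19)) :=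
  Lre_d IH (LK LD1_c7 LD2_c22 LD3_c52) (LK LD1_c13 LD2_c57 LD3_c19) Lrfl Lrfl
theorem f544218 : Led Lsl_bf (LP (LK LD1_c21 LD2_c14 LD3_c22)) = (LP (LK LD1_c13 LD2_c57 LD3_c19)) :=
  Lgr Lrot93 (Lpr_dt (K43.f80512 IH) (Lpr_bt (K37.f544216 IH) (Lpr_dt (f116485 IH) (Lpn (LP (LK LD1_c13 LD2_c57 LD3_c19))))))
theorem f796334 : Led Lsl_ft (LP (LK LD1_c22 LD2_c43 LD3_c3)) = (LP (LK LD1_c13 LD2_c57 LD3_c19)) :=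
  Lgr Lrot75 (Lpe (K57.f488294 IH) (Lpr_ff (f796330 IH) (Lpr_bf (f544218 IH) (Lpn (LP (LK LD1_c13 LD2_c57 LD3_c19))))))
theorem f469297 : Led Lsl_bt (LP (LK LD1_c14 LD2_c5 LD3_c17)) = (LP (LK LD1_c13 LD2_c55 LD3_c24)) :=
  Lgr Lrot127 (Lpr_bf (K61.f469288 IH) (Lpn (LP (LK LD1_c13 LD2_c55 LD3_c24))))
theorem f469299 : Led Lsl_ct (LP (LK LD1_c14 LD2_c5 LD3_c17)) = (LP (LK LD1_c23 LD2_c38 LD3_c28)) :=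
  Lre_c IH (LK LD1_c14 LD2_c5 LD3_c17) (LK LD1_c23 LD2_c38 LD3_c28) Lrfl Lrfl
theorem f469278 : Led Lsl_ct (LP (LK LD1_c23 LD2_c38 LD3_c28)) = (LP (LK LD1_c14 LD2_c5 LD3_c17)) :=
  Lre_c IH (LK LD1_c23 LD2_c38 LD3_c28) (LK LD1_c14 LD2_c5 LD3_c17) Lrfl Lrfl
theorem f480507 : Led Lsl_ct (LP (LK LD1_c22 LD2_c43 LD3_c35)) = (LP (LK LD1_c30 LD2_c40 LD3_c55)) :=
  Lre_c IH (LK LD1_c22 LD2_c43 LD3_c35) (LK LD1_c30 LD2_c40 LD3_c55) Lrfl Lrfl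
theorem f576574 : Led Lsl_gf (LP (LK LD1_c23 LD2_c38 LD3_c28)) = (LP (LK LD1_c30 LD2_c40 LD3_c55)) :=
  Lgr Lrot104 (Lpr_ct (f469278 IH) (Lpe (K55.f439572 IH) (Lpr_cf (K37.f469275 IH) (Lpe (K37.f116247 IH) (Lpr_cf (K28.f116158 IH) (Lpe (K46.f470284 IH) (Lpe (K55.f470269 IH) (Lpr_gt (K55.f576572 IH) (Lpr_ct (f480507 IH) (Lpn (LP (LK LD1_c30 LD2_c40 LD3_c55))))))))))))
theorem f607871 : Led Lsl_gt (LP (LK LD1_c22 LD2_c43 LD3_c3)) = (LP (LK LD1_c22 LD2_c44 LD3_c45)) :=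
  Lgr Lrot164 (Lpe (K57.f488294 IH) (Lpr_ct (K47.f607864 IH) (Lpe (K47.f205572 IH) (Lpe (K47.f607851 IH) (Lpe (K47.f439414 IH) (Lpe (f469297 IH) (Lpr_ct (f469299 IH) (Lpr_gf (f576574 IH) (Lpe (f480507 IH) (Lpr_bt (K40.f520379 IH) (Lpn (LP (LK LD1_c22 LD2_c44 LD3_c45)))))))))))))
theorem f520604 : Led Lsl_gf (LP (LK LD1_c22 LD2_c43 LD3_c4)) = (LP (LK LD1_c22 LD2_c44 LD3_c45)) :=
  Lgr Lrot47 (Lpe (K33.f488780 IH) (Lpe (K33.f480424 IH) (Lpr_ff (K40.f520594 IH) (Lpn (LP (LK LD1_c22 LD2_c44 LD3_c45))))))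
theorem f796424 : Led Lsl_af (LP (LK LD1_c22 LD2_c43 LD3_c4)) = (LP (LK LD1_c13 LD2_c57 LD3_c19)) :=
  Lgr Lrot31 (Lpr_gf (f520604 IH) (Lpe (f607871 IH) (Lpr_ft (f796334 IH) (Lpn (LP (LK LD1_c13 LD2_c57 LD3_c19))))))
theorem f466324 : Led Lsl_dt (LP (LK LD1_c22 LD2_c43 LD3_c4)) = (LP (LK LD1_c13 LD2_c24 LD3_c47)) :=
  Lre_d IH (LK LD1_c22 LD2_c43 LD3_c4) (LK LD1_c13 LD2_c24 LD3_c47) Lrfl Lrfl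
theorem f796430 : Led Lsl_at (LP (LK LD1_c13 LD2_c24 LD3_c47)) = (LP (LK LD1_c7 LD2_c22 LD3_c52)) :=
  Lgr Lrot51 (Lpe (f466324 IH) (Lpr_af (f796424 IH) (Lpe (f116485 IH) (Lpn (LP (LK LD1_c7 LD2_c22 LD3_c52))))))
theorem f796444 : Led Lsl_ff (LP (LK LD1_c13 LD2_c24 LD3_c47)) = (LP (LK LD1_c7 LD2_c22 LD3_c53)) :=
  Lgr Lrot52 (Lpr_at (f796430 IH) (Lpe (K37.f116484 IH) (Lpe (K39.f116487 IH) (Lpn (LP (LK LD1_c7 LD2_c22 LD3_c53))))))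
theorem f796454 : Led Lsl_ft (LP (LK LD1_c13 LD2_c24 LD3_c47)) = (LP (LK LD1_c7 LD2_c22 LD3_c53)) :=
  Lgr Lrot48 (Lpr_ff (f796444 IH) (Lpn (LP (LK LD1_c7 LD2_c22 LD3_c53))))
theorem f796463 : Led Lsl_af (LP (LK LD1_c13 LD2_c24 LD3_c46)) = (LP (LK LD1_c7 LD2_c22 LD3_c53)) :=
  Lgr Lrot31 (Lpe (K39.f466320 IH) (Lpe (K33.f466323 IH) (Lpr_ft (f796454 IH) (Lpn (LP (LK LD1_c7 LD2_c22 LD3_c53))))))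
theorem f123838 : Led Lsl_et (LP (LK LD1_c13 LD2_c57 LD3_c24)) = (LP (LK LD1_c7 LD2_c22 LD3_c53)) :=
  Lre_e IH (LK LD1_c13 LD2_c57 LD3_c24) (LK LD1_c7 LD2_c22 LD3_c53) Lrfl Lrfl
theorem f796469 : Led Lsl_at (LP (LK LD1_c14 LD2_c8 LD3_c57)) = (LP (LK LD1_c13 LD2_c57 LD3_c24)) :=
  Lgr Lrot80 (Lpe (K57.f607877 IH) (Lpr_af (f796463 IH) (Lpe (f123838 IH) (Lpn (LP (LK LD1_c13 LD2_c57 LD3_c24))))))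
theorem f123839 : Led Lsl_dt (LP (LK LD1_c13 LD2_c57 LD3_c24)) = (LP (LK LD1_c23 LD2_c29 LD3_c14)) :=
  Lre_d IH (LK LD1_c13 LD2_c57 LD3_c24) (LK LD1_c23 LD2_c29 LD3_c14) Lrfl Lrfl
theorem f796476 : Led Lsl_af (LP (LK LD1_c14 LD2_c47 LD3_c3)) = (LP (LK LD1_c23 LD2_c29 LD3_c14)) :=
  Lgr Lrot117 (Lpr_dt (K62.f607896 IH) (Lpr_at (f796469 IH) (Lpr_dt (f123839 IH) (Lpn (LP (LK LD1_c23 LD2_c29 LD3_c14))))))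
theorem f796480 : Led Lsl_ft (LP (LK LD1_c14 LD2_c47 LD3_c4)) = (LP (LK LD1_c23 LD2_c29 LD3_c14)) :=
  Lgr Lrot2 (Lpr_gt (f486146 IH) (Lpr_gt (K62.f486151 IH) (Lpr_af (f796476 IH) (Lpn (LP (LK LD1_c23 LD2_c29 LD3_c14))))))
theorem f796484 : Led Lsl_ff (LP (LK LD1_c14 LD2_c47 LD3_c4)) = (LP (LK LD1_c23 LD2_c29 LD3_c14)) :=
  Lgr Lrot3 (Lpr_ft (f796480 IH) (Lpn (LP (LK LD1_c23 LD2_c29 LD3_c14))))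
theorem f654801 : Led Lsl_df (LP (LK LD1_c14 LD2_c8 LD3_c58)) = (LP (LK LD1_c14 LD2_c47 LD3_c4)) :=
  Lgr Lrot38 (Lpr_dt (f654799 IH) (Lpn (LP (LK LD1_c14 LD2_c47 LD3_c4))))
theorem f796486 : Led Lsl_ft (LP (LK LD1_c14 LD2_c8 LD3_c58)) = (LP (LK LD1_c13 LD2_c57 LD3_c24)) :=
  Lgr Lrot54 (Lpr_df (f654801 IH) (Lpr_ff (f796484 IH) (Lpe (f123839 IH) (Lpn (LP (LK LD1_c13 LD2_c57 LD3_c24))))))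
theorem f523379 : Led Lsl_et (LP (LK LD1_c23 LD2_c43 LD3_c50)) = (LP (LK LD1_c14 LD2_c8 LD3_c58)) :=
  Lre_e IH (LK LD1_c23 LD2_c43 LD3_c50) (LK LD1_c14 LD2_c8 LD3_c58) Lrfl Lrfl
theorem f488793 : Led Lsl_et (LP (LK LD1_c13 LD2_c24 LD3_c47)) = (LP (LK LD1_c22 LD2_c43 LD3_c5)) :=
  Lre_e IH (LK LD1_c13 LD2_c24 LD3_c47) (LK LD1_c22 LD2_c43 LD3_c5) Lrfl Lrfl
theorem f796490 : Led Lsl_ff (LP (LK LD1_c23 LD2_c43 LD3_c50)) = (LP (LK LD1_c22 LD2_c43 LD3_c5)) :=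
  Lgr Lrot72 (Lpr_et (f523379 IH) (Lpr_ft (f796486 IH) (Lpr_et (f123838 IH) (Lpe (f796444 IH) (Lpr_et (f488793 IH) (Lpn (LP (LK LD1_c22 LD2_c43 LD3_c5))))))))
theorem f796494 : Led Lsl_ft (LP (LK LD1_c23 LD2_c43 LD3_c50)) = (LP (LK LD1_c22 LD2_c43 LD3_c5)) :=
  Lgr Lrot48 (Lpr_ff (f796490 IH) (Lpn (LP (LK LD1_c22 LD2_c43 LD3_c5))))
theorem f489348 : Led Lsl_cf (LP (LK LD1_c22 LD2_c32 LD3_c11)) = (LP (LK LD1_c22 LD2_c43 LD3_c5)) :=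
  Lgr Lrot39 (Lpr_et (K41.f425678 IH) (Lpr_ct (K39.f488782 IH) (Lpr_et (f488793 IH) (Lpn (LP (LK LD1_c22 LD2_c43 LD3_c5))))))
theorem f425677 : Led Lsl_ft (LP (LK LD1_c22 LD2_c32 LD3_c11)) = (LP (LK LD1_c30 LD2_c33 LD3_c59)) :=
  Lre_f IH (LK LD1_c22 LD2_c32 LD3_c11) (LK LD1_c30 LD2_c33 LD3_c59) Lrfl Lrfl
theorem f796496 : Led Lsl_cf (LP (LK LD1_c23 LD2_c43 LD3_c50)) = (LP (LK LD1_c30 LD2_c33 LD3_c59)) :=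
  Lgr Lrot108 (Lpr_ft (f796494 IH) (Lpe (f489348 IH) (Lpr_ft (f425677 IH) (Lpn (LP (LK LD1_c30 LD2_c33 LD3_c59))))))
theorem f523378 : Led Lsl_ct (LP (LK LD1_c14 LD2_c8 LD3_c58)) = (LP (LK LD1_c23 LD2_c43 LD3_c49)) :=
  Lre_c IH (LK LD1_c14 LD2_c8 LD3_c58) (LK LD1_c23 LD2_c43 LD3_c49) Lrfl Lrfl
theorem f796498 : Led Lsl_et (LP (LK LD1_c23 LD2_c43 LD3_c49)) = (LP (LK LD1_c30 LD2_c33 LD3_c59)) :=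
  Lgr Lrot158 (Lpe (f523378 IH) (Lpe (f523379 IH) (Lpr_cf (f796496 IH) (Lpn (LP (LK LD1_c30 LD2_c33 LD3_c59))))))
theorem f489380 : Led Lsl_bt (LP (LK LD1_c7 LD2_c4 LD3_c22)) = (LP (LK LD1_c13 LD2_c24 LD3_c26)) :=
  Lre_b IH (LK LD1_c7 LD2_c4 LD3_c22) (LK LD1_c13 LD2_c24 LD3_c26) Lrfl Lrfl
theorem f485837 : Led Lsl_bt (LP (LK LD1_c6 LD2_c53 LD3_c39)) = (LP (LK LD1_c13 LD2_c6 LD3_c11)) :=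
  Lre_b IH (LK LD1_c6 LD2_c53 LD3_c39) (LK LD1_c13 LD2_c6 LD3_c11) Lrfl Lrfl
theorem f485841 : Led Lsl_gt (LP (LK LD1_c22 LD2_c17 LD3_c35)) = (LP (LK LD1_c13 LD2_c6 LD3_c11)) :=
  Lre_g IH (LK LD1_c22 LD2_c17 LD3_c35) (LK LD1_c13 LD2_c6 LD3_c11) Lrfl Lrfl
theorem f523086 : Led Lsl_ct (LP (LK LD1_c23 LD2_c43 LD3_c49)) = (LP (LK LD1_c14 LD2_c8 LD3_c58)) :=
  Lre_c IH (LK LD1_c23 LD2_c43 LD3_c49) (LK LD1_c14 LD2_c8 LD3_c58) Lrfl Lrfl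
theorem f607909 : Led Lsl_bf (LP (LK LD1_c22 LD2_c17 LD3_c35)) = (LP (LK LD1_c23 LD2_c43 LD3_c49)) :=
  Lgr Lrot156 (Lpr_gt (f485841 IH) (Lpe (f485837 IH) (Lpr_ct (K46.f485836 IH) (Lpe (K33.f522463 IH) (Lpe (K49.f466239 IH) (Lpr_bt (f489380 IH) (Lpr_gt (f607904 IH) (Lpr_ct (f523297 IH) (Lpe (f523376 IH) (Lpe (f523086 IH) (Lpn (LP (LK LD1_c23 LD2_c43 LD3_c49)))))))))))))
theorem f607916 : Led Lsl_bt (LP (LK LD1_c22 LD2_c17 LD3_c35)) = (LP (LK LD1_c23 LD2_c43 LD3_c49)) :=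
  Lgr Lrot127 (Lpr_bf (f607909 IH) (Lpn (LP (LK LD1_c23 LD2_c43 LD3_c49))))
theorem f611065 : Led Lsl_bt (LP (LK LD1_c30 LD2_c33 LD3_c59)) = (LP (LK LD1_c22 LD2_c32 LD3_c17)) :=
  Lre_b IH (LK LD1_c30 LD2_c33 LD3_c59) (LK LD1_c22 LD2_c32 LD3_c17) Lrfl Lrfl
theorem f796500 : Led Lsl_ef (LP (LK LD1_c22 LD2_c17 LD3_c35)) = (LP (LK LD1_c22 LD2_c32 LD3_c17)) :=
  Lgr Lrot29 (Lpr_bt (f607916 IH) (Lpr_et (f796498 IH) (Lpr_bt (f611065 IH) (Lpn (LP (LK LD1_c22 LD2_c32 LD3_c17))))))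
theorem f17074 : Led Lsl_gt (LP (LK LD1_c7 LD2_c30 LD3_c20)) = (LP (LK LD1_c14 LD2_c10 LD3_c26)) :=
  Lre_g IH (LK LD1_c7 LD2_c30 LD3_c20) (LK LD1_c14 LD2_c10 LD3_c26) Lrfl Lrfl
theorem f796506 : Led Lsl_df (LP (LK LD1_c14 LD2_c10 LD3_c26)) = (LP (LK LD1_c22 LD2_c32 LD3_c17)) :=
  Lgr Lrot168 (Lpe (f17074 IH) (Lpe (K7.f15946 IH) (Lpr_et (K7.f14718 IH) (Lpe (K5.f14737 IH) (Lpe (K61.f16689 IH) (Lpr_dt (K61.f16690 IH) (Lpe (K61.f659995 IH) (Lpr_df (K61.f485951 IH) (Lpe (f485841 IH) (Lpr_ef (f796500 IH) (Lpn (LP (LK LD1_c22 LD2_c32 LD3_c17)))))))))))))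
theorem f162369 : Led Lsl_ft (LP (LK LD1_c13 LD2_c16 LD3_c42)) = (LP (LK LD1_c22 LD2_c32 LD3_c17)) :=
  Lre_f IH (LK LD1_c13 LD2_c16 LD3_c42) (LK LD1_c22 LD2_c32 LD3_c17) Lrfl Lrfl
theorem f796515 : Led Lsl_ft (LP (LK LD1_c14 LD2_c10 LD3_c26)) = (LP (LK LD1_c13 LD2_c7 LD3_c22)) :=
  Lgr Lrot54 (Lpr_df (f796506 IH) (Lpe (f162369 IH) (Lpr_df (K62.f162361 IH) (Lpn (LP (LK LD1_c13 LD2_c7 LD3_c22))))))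
theorem f15410 : Led Lsl_at (LP (LK LD1_c3 LD2_c52 LD3_c25)) = (LP (LK LD1_c7 LD2_c30 LD3_c26)) :=
  Lre_a IH (LK LD1_c3 LD2_c52 LD3_c25) (LK LD1_c7 LD2_c30 LD3_c26) Lrfl Lrfl
theorem f15411 : Led Lsl_bt (LP (LK LD1_c7 LD2_c30 LD3_c26)) = (LP (LK LD1_c14 LD2_c10 LD3_c29)) :=
  Lre_b IH (LK LD1_c7 LD2_c30 LD3_c26) (LK LD1_c14 LD2_c10 LD3_c29) Lrfl Lrfl
theorem f15412 : Led Lsl_at (LP (LK LD1_c6 LD2_c54 LD3_c29)) = (LP (LK LD1_c3 LD2_c27 LD3_c31)) :=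
  Lre_a IH (LK LD1_c6 LD2_c54 LD3_c29) (LK LD1_c3 LD2_c27 LD3_c31) Lrfl Lrfl
theorem f15413 : Led Lsl_bt (LP (LK LD1_c13 LD2_c7 LD3_c24)) = (LP (LK LD1_c6 LD2_c54 LD3_c29)) :=
  Lre_b IH (LK LD1_c13 LD2_c7 LD3_c24) (LK LD1_c6 LD2_c54 LD3_c29) Lrfl Lrfl
theorem f15414 : Led Lsl_at (LP (LK LD1_c14 LD2_c10 LD3_c29)) = (LP (LK LD1_c13 LD2_c7 LD3_c24)) :=
  Lgr Lrot67 (Lpe (f15411 IH) (Lpe (f15410 IH) (Lpr_bf (K0.f15402 IH) (Lpe (f15412 IH) (Lpe (f15413 IH) (Lpn (LP (LK LD1_c13 LD2_c7 LD3_c24))))))))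
theorem f16046 : Led Lsl_ft (LP (LK LD1_c7 LD2_c30 LD3_c20)) = (LP (LK LD1_c14 LD2_c10 LD3_c29)) :=
  Lre_f IH (LK LD1_c7 LD2_c30 LD3_c20) (LK LD1_c14 LD2_c10 LD3_c29) Lrfl Lrfl
theorem f17075 : Led Lsl_gt (LP (LK LD1_c14 LD2_c10 LD3_c26)) = (LP (LK LD1_c13 LD2_c7 LD3_c24)) :=
  Lgr Lrot46 (Lpe (f17074 IH) (Lpr_ft (f16046 IH) (Lpr_at (f15414 IH) (Lpn (LP (LK LD1_c13 LD2_c7 LD3_c24))))))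
theorem f796524 : Led Lsl_af (LP (LK LD1_c14 LD2_c10 LD3_c27)) = (LP (LK LD1_c13 LD2_c7 LD3_c22)) :=
  Lgr Lrot31 (Lpr_gf (K7.f17042 IH) (Lpe (f17075 IH) (Lpr_ft (f796515 IH) (Lpn (LP (LK LD1_c13 LD2_c7 LD3_c22))))))
theorem f156630 : Led Lsl_dt (LP (LK LD1_c14 LD2_c10 LD3_c27)) = (LP (LK LD1_c22 LD2_c32 LD3_c6)) :=
  Lgr Lrot42 (Lpr_df (K7.f156627 IH) (Lpn (LP (LK LD1_c22 LD2_c32 LD3_c6))))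
theorem f796530 : Led Lsl_at (LP (LK LD1_c22 LD2_c32 LD3_c6)) = (LP (LK LD1_c13 LD2_c16 LD3_c42)) :=
  Lgr Lrot51 (Lpe (f156630 IH) (Lpr_af (f796524 IH) (Lpe (K8.f162354 IH) (Lpn (LP (LK LD1_c13 LD2_c16 LD3_c42))))))
theorem f156633 : Led Lsl_et (LP (LK LD1_c13 LD2_c16 LD3_c31)) = (LP (LK LD1_c22 LD2_c32 LD3_c6)) :=
  Lre_e IH (LK LD1_c13 LD2_c16 LD3_c31) (LK LD1_c22 LD2_c32 LD3_c6) Lrfl Lrfl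
def v20573 : LQ := Led Lsl_at (LP (LK LD1_c6 LD2_c59 LD3_c51))
theorem f787991 : Led Lsl_at (LP (LK LD1_c6 LD2_c59 LD3_c51)) = v20573 :=
  Lrfl
theorem f796542 : (LP (LK LD1_c13 LD2_c16 LD3_c31)) = v20573 :=
  (Llr Lrot20 (Lpr_et (f156633 IH) (Lpr_at (f796530 IH) (Lpr_et (K8.f18683 IH) (Lpr_at (f787991 IH) (Lpn v20573)))))).symm
theorem f787992 : Led Lsl_af (LP (LK LD1_c6 LD2_c59 LD3_c51)) = v20573 :=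
  Lgr Lrot0 (Lpr_at (f787991 IH) (Lpn v20573))
theorem f18756 : Led Lsl_ct (LP (LK LD1_c6 LD2_c59 LD3_c51)) = (LP (LK LD1_c13 LD2_c16 LD3_c40)) :=
  Lre_c IH (LK LD1_c6 LD2_c59 LD3_c51) (LK LD1_c13 LD2_c16 LD3_c40) Lrfl Lrfl
theorem f796584 : Led Lsl_af (LP (LK LD1_c14 LD2_c12 LD3_c34)) = (LP (LK LD1_c13 LD2_c16 LD3_c40)) :=
  Lgr Lrot68 (Lpe (K39.f468360 IH) (Lpqs (f796542 IH) (Lpe (f787992 IH) (Lpr_ct (f18756 IH) (Lpn (LP (LK LD1_c13 LD2_c16 LD3_c40)))))))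
theorem f468380 : Led Lsl_et (LP (LK LD1_c14 LD2_c12 LD3_c34)) = (LP (LK LD1_c23 LD2_c47 LD3_c46)) :=
  Lre_e IH (LK LD1_c14 LD2_c12 LD3_c34) (LK LD1_c23 LD2_c47 LD3_c46) Lrfl Lrfl
theorem f796590 : Led Lsl_at (LP (LK LD1_c23 LD2_c47 LD3_c46)) = (LP (LK LD1_c22 LD2_c32 LD3_c13)) :=
  Lgr Lrot80 (Lpe (f468380 IH) (Lpr_af (f796584 IH) (Lpe (K62.f458116 IH) (Lpn (LP (LK LD1_c22 LD2_c32 LD3_c13))))))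
theorem f425682 : Led Lsl_ct (LP (LK LD1_c13 LD2_c16 LD3_c42)) = (LP (LK LD1_c22 LD2_c32 LD3_c13)) :=
  Lre_c IH (LK LD1_c13 LD2_c16 LD3_c42) (LK LD1_c22 LD2_c32 LD3_c13) Lrfl Lrfl
theorem f16002 : Led Lsl_ct (LP (LK LD1_c22 LD2_c19 LD3_c16)) = (LP (LK LD1_c13 LD2_c7 LD3_c22)) :=
  Lre_c IH (LK LD1_c22 LD2_c19 LD3_c16) (LK LD1_c13 LD2_c7 LD3_c22) Lrfl Lrfl
theorem f15997 : Led Lsl_dt (LP (LK LD1_c30 LD2_c25 LD3_c30)) = (LP (LK LD1_c22 LD2_c19 LD3_c16)) :=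
  Lre_d IH (LK LD1_c30 LD2_c25 LD3_c30) (LK LD1_c22 LD2_c19 LD3_c16) Lrfl Lrfl
theorem f463929 : Led Lsl_gt (LP (LK LD1_c13 LD2_c7 LD3_c11)) = (LP (LK LD1_c22 LD2_c18 LD3_c59)) :=
  Lre_g IH (LK LD1_c13 LD2_c7 LD3_c11) (LK LD1_c22 LD2_c18 LD3_c59) Lrfl Lrfl
theorem f472873 : Led Lsl_ct (LP (LK LD1_c22 LD2_c18 LD3_c59)) = (LP (LK LD1_c30 LD2_c25 LD3_c13)) :=
  Lre_c IH (LK LD1_c22 LD2_c18 LD3_c59) (LK LD1_c30 LD2_c25 LD3_c13) Lrfl Lrfl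
theorem f16032 : Led Lsl_gt (LP (LK LD1_c13 LD2_c7 LD3_c23)) = (LP (LK LD1_c22 LD2_c19 LD3_c18)) :=
  Lre_g IH (LK LD1_c13 LD2_c7 LD3_c23) (LK LD1_c22 LD2_c19 LD3_c18) Lrfl Lrfl
theorem f16009 : Led Lsl_bt (LP (LK LD1_c14 LD2_c10 LD3_c29)) = (LP (LK LD1_c7 LD2_c30 LD3_c26)) :=
  Lre_b IH (LK LD1_c14 LD2_c10 LD3_c29) (LK LD1_c7 LD2_c30 LD3_c26) Lrfl Lrfl
theorem f14892 : Led Lsl_ct (LP (LK LD1_c14 LD2_c10 LD3_c29)) = (LP (LK LD1_c23 LD2_c45 LD3_c51)) :=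
  Lre_c IH (LK LD1_c14 LD2_c10 LD3_c29) (LK LD1_c23 LD2_c45 LD3_c51) Lrfl Lrfl
theorem f15974 : Led Lsl_af (LP (LK LD1_c13 LD2_c7 LD3_c23)) = (LP (LK LD1_c14 LD2_c10 LD3_c28)) :=
  Lgr Lrot0 (Lpr_at (K8.f15969 IH) (Lpn (LP (LK LD1_c14 LD2_c10 LD3_c28))))
theorem f16019 : Led Lsl_ft (LP (LK LD1_c13 LD2_c7 LD3_c23)) = (LP (LK LD1_c22 LD2_c19 LD3_c22)) :=
  Lre_f IH (LK LD1_c13 LD2_c7 LD3_c23) (LK LD1_c22 LD2_c19 LD3_c22) Lrfl Lrfl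
theorem f16020 : Led Lsl_ft (LP (LK LD1_c23 LD2_c45 LD3_c51)) = (LP (LK LD1_c14 LD2_c10 LD3_c28)) :=
  Lre_f IH (LK LD1_c23 LD2_c45 LD3_c51) (LK LD1_c14 LD2_c10 LD3_c28) Lrfl Lrfl
theorem f16021 : Led Lsl_at (LP (LK LD1_c22 LD2_c19 LD3_c22)) = (LP (LK LD1_c23 LD2_c45 LD3_c51)) :=
  Lgr Lrot66 (Lpe (f16019 IH) (Lpr_af (f15974 IH) (Lpe (f16020 IH) (Lpn (LP (LK LD1_c23 LD2_c45 LD3_c51))))))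
theorem f16033 : Led Lsl_gt (LP (LK LD1_c22 LD2_c19 LD3_c18)) = (LP (LK LD1_c23 LD2_c45 LD3_c51)) :=
  Lgr Lrot46 (Lpe (f16032 IH) (Lpr_ft (f16019 IH) (Lpr_at (f16021 IH) (Lpn (LP (LK LD1_c23 LD2_c45 LD3_c51))))))
theorem f92940 : Led Lsl_bt (LP (LK LD1_c3 LD2_c48 LD3_c24)) = (LP (LK LD1_c7 LD2_c37 LD3_c49)) :=
  Lre_b IH (LK LD1_c3 LD2_c48 LD3_c24) (LK LD1_c7 LD2_c37 LD3_c49) Lrfl Lrfl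
theorem f93023 : Led Lsl_gt (LP (LK LD1_c7 LD2_c37 LD3_c49)) = (LP (LK LD1_c14 LD2_c22 LD3_c51)) :=
  Lre_g IH (LK LD1_c7 LD2_c37 LD3_c49) (LK LD1_c14 LD2_c22 LD3_c51) Lrfl Lrfl
theorem f475857 : Led Lsl_bt (LP (LK LD1_c24 LD2_c1 LD3_c1)) = (LP (LK LD1_c14 LD2_c22 LD3_c51)) :=
  Lre_b IH (LK LD1_c24 LD2_c1 LD3_c1) (LK LD1_c14 LD2_c22 LD3_c51) Lrfl Lrfl
theorem f519658 : Led Lsl_cf (LP (LK LD1_c22 LD2_c19 LD3_c18)) = (LP (LK LD1_c24 LD2_c1 LD3_c1)) :=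
  Lgr Lrot160 (Lpr_gt (f16033 IH) (Lpe (f14892 IH) (Lpr_bt (f16009 IH) (Lpr_gt (K3.f16038 IH) (Lpr_ct (K33.f16040 IH) (Lpr_gt (K33.f519654 IH) (Lpe (K46.f17437 IH) (Lpr_bt (f92940 IH) (Lpr_gt (f93023 IH) (Lpe (f475857 IH) (Lpn (LP (LK LD1_c24 LD2_c1 LD3_c1)))))))))))))
theorem f519666 : Led Lsl_ct (LP (LK LD1_c22 LD2_c19 LD3_c18)) = (LP (LK LD1_c24 LD2_c1 LD3_c1)) :=
  Lgr Lrot59 (Lpr_cf (f519658 IH) (Lpn (LP (LK LD1_c24 LD2_c1 LD3_c1))))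
theorem f611057 : Led Lsl_df (LP (LK LD1_c30 LD2_c25 LD3_c13)) = (LP (LK LD1_c24 LD2_c1 LD3_c1)) :=
  Lgr Lrot162 (Lpe (f472873 IH) (Lpe (f463929 IH) (Lpe (K33.f472868 IH) (Lpr_gf (K62.f611051 IH) (Lpr_dt (K8.f162354 IH) (Lpr_gt (K8.f15924 IH) (Lpr_ct (K8.f15910 IH) (Lpr_gt (f16032 IH) (Lpr_ct (f519666 IH) (Lpn (LP (LK LD1_c24 LD2_c1 LD3_c1))))))))))))
theorem f472874 : Led Lsl_ct (LP (LK LD1_c30 LD2_c25 LD3_c13)) = (LP (LK LD1_c22 LD2_c18 LD3_c59)) :=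
  Lre_c IH (LK LD1_c30 LD2_c25 LD3_c13) (LK LD1_c22 LD2_c18 LD3_c59) Lrfl Lrfl
theorem f611053 : Led Lsl_af (LP (LK LD1_c22 LD2_c18 LD3_c59)) = (LP (LK LD1_c22 LD2_c32 LD3_c17)) :=
  Lgr Lrot31 (Lpe (f463929 IH) (Lpr_gf (K62.f611051 IH) (Lpr_ft (f162369 IH) (Lpn (LP (LK LD1_c22 LD2_c32 LD3_c17))))))
theorem f15995 : Led Lsl_ct (LP (LK LD1_c13 LD2_c7 LD3_c22)) = (LP (LK LD1_c22 LD2_c19 LD3_c16)) :=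
  Lre_c IH (LK LD1_c13 LD2_c7 LD3_c22) (LK LD1_c22 LD2_c19 LD3_c16) Lrfl Lrfl
theorem f15996 : Led Lsl_dt (LP (LK LD1_c22 LD2_c19 LD3_c16)) = (LP (LK LD1_c30 LD2_c25 LD3_c30)) :=
  Lre_d IH (LK LD1_c22 LD2_c19 LD3_c16) (LK LD1_c30 LD2_c25 LD3_c30) Lrfl Lrfl
theorem f16035 : Led Lsl_dt (LP (LK LD1_c30 LD2_c25 LD3_c32)) = (LP (LK LD1_c22 LD2_c19 LD3_c18)) :=
  Lre_d IH (LK LD1_c30 LD2_c25 LD3_c32) (LK LD1_c22 LD2_c19 LD3_c18) Lrfl Lrfl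
theorem f611059 : Led Lsl_ct (LP (LK LD1_c30 LD2_c25 LD3_c30)) = (LP (LK LD1_c30 LD2_c25 LD3_c32)) :=
  Lgr Lrot41 (Lpe (f15996 IH) (Lpe (f15995 IH) (Lpe (K8.f162354 IH) (Lpr_ft (f162369 IH) (Lpe (f611053 IH) (Lpe (f472874 IH) (Lpr_df (f611057 IH) (Lpe (f519666 IH) (Lpe (f16035 IH) (Lpn (LP (LK LD1_c30 LD2_c25 LD3_c32))))))))))))
theorem f611061 : Led Lsl_cf (LP (LK LD1_c30 LD2_c25 LD3_c30)) = (LP (LK LD1_c30 LD2_c25 LD3_c32)) :=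
  Lgr Lrot11 (Lpr_ct (f611059 IH) (Lpn (LP (LK LD1_c30 LD2_c25 LD3_c32))))
theorem f16036 : Led Lsl_dt (LP (LK LD1_c22 LD2_c19 LD3_c18)) = (LP (LK LD1_c30 LD2_c25 LD3_c32)) :=
  Lre_d IH (LK LD1_c22 LD2_c19 LD3_c18) (LK LD1_c30 LD2_c25 LD3_c32) Lrfl Lrfl
theorem f611055 : Led Lsl_dt (LP (LK LD1_c30 LD2_c25 LD3_c13)) = (LP (LK LD1_c24 LD2_c1 LD3_c1)) :=
  Lgr Lrot27 (Lpe (f472873 IH) (Lpe (f463929 IH) (Lpe (K33.f472868 IH) (Lpr_gf (K62.f611051 IH) (Lpr_df (K62.f162361 IH) (Lpr_gt (K8.f15924 IH) (Lpr_ct (K8.f15910 IH) (Lpr_gt (f16032 IH) (Lpr_ct (f519666 IH) (Lpn (LP (LK LD1_c24 LD2_c1 LD3_c1))))))))))))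
theorem f796592 : Led Lsl_ff (LP (LK LD1_c23 LD2_c47 LD3_c46)) = (LP (LK LD1_c30 LD2_c25 LD3_c13)) :=
  Lgr Lrot103 (Lpr_at (f796590 IH) (Lpe (f425682 IH) (Lpr_df (K62.f162361 IH) (Lpe (f16002 IH) (Lpe (f15997 IH) (Lpr_cf (f611061 IH) (Lpe (f16036 IH) (Lpr_cf (f519658 IH) (Lpe (f611055 IH) (Lpn (LP (LK LD1_c30 LD2_c25 LD3_c13))))))))))))
theorem f468365 : Led Lsl_et (LP (LK LD1_c23 LD2_c47 LD3_c46)) = (LP (LK LD1_c14 LD2_c12 LD3_c34)) :=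
  Lre_e IH (LK LD1_c23 LD2_c47 LD3_c46) (LK LD1_c14 LD2_c12 LD3_c34) Lrfl Lrfl
theorem f468366 : Led Lsl_ct (LP (LK LD1_c22 LD2_c32 LD3_c6)) = (LP (LK LD1_c23 LD2_c47 LD3_c46)) :=
  Lgr Lrot15 (Lpe (f156633 IH) (Lpr_cf (K39.f468360 IH) (Lpe (f468365 IH) (Lpn (LP (LK LD1_c23 LD2_c47 LD3_c46))))))
theorem f468377 : Led Lsl_cf (LP (LK LD1_c22 LD2_c32 LD3_c6)) = (LP (LK LD1_c23 LD2_c47 LD3_c46)) :=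
  Lgr Lrot11 (Lpr_ct (f468366 IH) (Lpn (LP (LK LD1_c23 LD2_c47 LD3_c46))))
theorem f796596 : Led Lsl_ft (LP (LK LD1_c22 LD2_c32 LD3_c6)) = (LP (LK LD1_c22 LD2_c18 LD3_c59)) :=
  Lgr Lrot4 (Lpr_cf (f468377 IH) (Lpr_ff (f796592 IH) (Lpe (f472873 IH) (Lpn (LP (LK LD1_c22 LD2_c18 LD3_c59))))))
theorem f561125 : Led Lsl_bt (LP (LK LD1_c9 LD2_c3 LD3_c18)) = (LP (LK LD1_c12 LD2_c6 LD3_c36)) :=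
  Lgr Lrot127 (Lpr_bf (K40.f561121 IH) (Lpn (LP (LK LD1_c12 LD2_c6 LD3_c36))))
theorem f617165 : Led Lsl_df (LP (LK LD1_c9 LD2_c3 LD3_c18)) = (LP (LK LD1_c7 LD2_c13 LD3_c45)) :=
  Lgr Lrot12 (Lpr_bt (f561125 IH) (Lpe (K40.f561113 IH) (Lpe (K34.f160012 IH) (Lpn (LP (LK LD1_c7 LD2_c13 LD3_c45))))))
theorem f561130 : Led Lsl_gt (LP (LK LD1_c16 LD2_c54 LD3_c4)) = (LP (LK LD1_c9 LD2_c3 LD3_c18)) :=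
  Lre_g IH (LK LD1_c16 LD2_c54 LD3_c4) (LK LD1_c9 LD2_c3 LD3_c18) Lrfl Lrfl
theorem f540245 : Led Lsl_dt (LP (LK LD1_c3 LD2_c27 LD3_c2)) = (LP (LK LD1_c4 LD2_c24 LD3_c1)) :=
  Lgr Lrot42 (Lpr_df (K36.f540241 IH) (Lpn (LP (LK LD1_c4 LD2_c24 LD3_c1))))
theorem f587128 : Led Lsl_ft (LP (LK LD1_c4 LD2_c24 LD3_c2)) = (LP (LK LD1_c5 LD2_c48 LD3_c39)) :=
  Lgr Lrot48 (Lpr_ff (K45.f587124 IH) (Lpn (LP (LK LD1_c5 LD2_c48 LD3_c39))))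
theorem f587132 : Led Lsl_af (LP (LK LD1_c4 LD2_c24 LD3_c1)) = (LP (LK LD1_c5 LD2_c48 LD3_c39)) :=
  Lgr Lrot31 (Lpe (K36.f36442 IH) (Lpe (K43.f36580 IH) (Lpr_ft (f587128 IH) (Lpn (LP (LK LD1_c5 LD2_c48 LD3_c39))))))
theorem f578964 : Led Lsl_at (LP (LK LD1_c7 LD2_c12 LD3_c8)) = (LP (LK LD1_c4 LD2_c24 LD3_c2)) :=
  Lgr Lrot80 (Lpe (K42.f108541 IH) (Lpr_af (K43.f578960 IH) (Lpe (K43.f577517 IH) (Lpn (LP (LK LD1_c4 LD2_c24 LD3_c2))))))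
theorem f587136 : Led Lsl_ft (LP (LK LD1_c4 LD2_c24 LD3_c1)) = (LP (LK LD1_c7 LD2_c12 LD3_c8)) :=
  Lgr Lrot101 (Lpr_af (f587132 IH) (Lpe (f587128 IH) (Lpe (f578964 IH) (Lpn (LP (LK LD1_c7 LD2_c12 LD3_c8))))))
theorem f587140 : Led Lsl_gt (LP (LK LD1_c4 LD2_c24 LD3_c1)) = (LP (LK LD1_c3 LD2_c32 LD3_c37)) :=
  Lgr Lrot5 (Lpr_ft (f587136 IH) (Lpr_at (f578964 IH) (Lpe (K43.f577528 IH) (Lpn (LP (LK LD1_c3 LD2_c32 LD3_c37))))))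
theorem f92471 : Led Lsl_et (LP (LK LD1_c1 LD2_c42 LD3_c61)) = (LP (LK LD1_c3 LD2_c32 LD3_c38)) :=
  Lre_e IH (LK LD1_c1 LD2_c42 LD3_c61) (LK LD1_c3 LD2_c32 LD3_c38) Lrfl Lrfl
theorem f617169 : Led Lsl_df (LP (LK LD1_c16 LD2_c54 LD3_c4)) = (LP (LK LD1_c13 LD2_c27 LD3_c36)) :=
  Lgr Lrot170 (Lpr_gt (f561130 IH) (Lpr_df (f617165 IH) (Lpr_et (K34.f17418 IH) (Lpe (K5.f127902 IH) (Lpr_dt (f540245 IH) (Lpr_gt (f587140 IH) (Lpe (K38.f92479 IH) (Lpr_et (f92471 IH) (Lpr_gt (K34.f92434 IH) (Lpe (K43.f466538 IH) (Lpn (LP (LK LD1_c13 LD2_c27 LD3_c36)))))))))))))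
theorem f17423 : Led Lsl_dt (LP (LK LD1_c14 LD2_c22 LD3_c44)) = (LP (LK LD1_c7 LD2_c37 LD3_c46)) :=
  Lre_d IH (LK LD1_c14 LD2_c22 LD3_c44) (LK LD1_c7 LD2_c37 LD3_c46) Lrfl Lrfl
theorem f127847 : Led Lsl_gf (LP (LK LD1_c7 LD2_c7 LD3_c29)) = (LP (LK LD1_c3 LD2_c48 LD3_c22)) :=
  Lgr Lrot47 (Lpr_gt (K8.f96333 IH) (Lpe (K5.f104056 IH) (Lpr_ff (K5.f127841 IH) (Lpn (LP (LK LD1_c3 LD2_c48 LD3_c22))))))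
theorem f127274 : Led Lsl_et (LP (LK LD1_c14 LD2_c12 LD3_c37)) = (LP (LK LD1_c7 LD2_c32 LD3_c3)) :=
  Lre_e IH (LK LD1_c14 LD2_c12 LD3_c37) (LK LD1_c7 LD2_c32 LD3_c3) Lrfl Lrfl
theorem f127275 : Led Lsl_dt (LP (LK LD1_c14 LD2_c12 LD3_c37)) = (LP (LK LD1_c23 LD2_c47 LD3_c50)) :=
  Lre_d IH (LK LD1_c14 LD2_c12 LD3_c37) (LK LD1_c23 LD2_c47 LD3_c50) Lrfl Lrfl
theorem f17371 : Led Lsl_dt (LP (LK LD1_c7 LD2_c37 LD3_c46)) = (LP (LK LD1_c14 LD2_c22 LD3_c44)) :=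
  Lre_d IH (LK LD1_c7 LD2_c37 LD3_c46) (LK LD1_c14 LD2_c22 LD3_c44) Lrfl Lrfl
theorem f127849 : Led Lsl_gt (LP (LK LD1_c23 LD2_c47 LD3_c50)) = (LP (LK LD1_c14 LD2_c22 LD3_c44)) :=
  Lgr Lrot112 (Lpe (f127275 IH) (Lpr_et (f127274 IH) (Lpe (K33.f92408 IH) (Lpe (K4.f92428 IH) (Lpr_dt (K28.f92446 IH) (Lpe (K4.f92450 IH) (Lpr_df (K43.f127265 IH) (Lpr_gf (f127847 IH) (Lpe (K28.f17416 IH) (Lpr_dt (f17371 IH) (Lpn (LP (LK LD1_c14 LD2_c22 LD3_c44)))))))))))))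
theorem f617179 : Led Lsl_gf (LP (LK LD1_c14 LD2_c12 LD3_c37)) = (LP (LK LD1_c22 LD2_c32 LD3_c59)) :=
  Lgr Lrot144 (Lpr_dt (f127275 IH) (Lpr_gt (f127849 IH) (Lpr_dt (f17423 IH) (Lpe (K28.f17376 IH) (Lpr_df (K40.f549549 IH) (Lpe (f561130 IH) (Lpr_df (f617169 IH) (Lpr_gf (K48.f516884 IH) (Lpe (K48.f516878 IH) (Lpn (LP (LK LD1_c22 LD2_c32 LD3_c59))))))))))))
theorem f617181 : Led Lsl_gt (LP (LK LD1_c14 LD2_c12 LD3_c37)) = (LP (LK LD1_c22 LD2_c34 LD3_c48)) :=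
  Lgr Lrot46 (Lpr_gf (f617179 IH) (Lpr_ft (K48.f516872 IH) (Lpr_at (K46.f472472 IH) (Lpn (LP (LK LD1_c22 LD2_c34 LD3_c48))))))
theorem f468376 : Led Lsl_bt (LP (LK LD1_c23 LD2_c47 LD3_c46)) = (LP (LK LD1_c14 LD2_c12 LD3_c37)) :=
  Lre_b IH (LK LD1_c23 LD2_c47 LD3_c46) (LK LD1_c14 LD2_c12 LD3_c37) Lrfl Lrfl
theorem f617185 : Led Lsl_gf (LP (LK LD1_c22 LD2_c32 LD3_c6)) = (LP (LK LD1_c22 LD2_c14 LD3_c21)) :=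
  Lgr Lrot126 (Lpr_cf (f468377 IH) (Lpr_bt (f468376 IH) (Lpr_gt (f617181 IH) (Lpr_ct (K48.f482967 IH) (Lpe (K48.f516888 IH) (Lpe (K33.f513088 IH) (Lpr_bt (K33.f473265 IH) (Lpr_gt (K48.f473261 IH) (Lpe (K33.f458376 IH) (Lpe (K33.f473221 IH) (Lpn (LP (LK LD1_c22 LD2_c14 LD3_c21)))))))))))))
theorem f617187 : Led Lsl_gt (LP (LK LD1_c22 LD2_c32 LD3_c6)) = (LP (LK LD1_c13 LD2_c18 LD3_c58)) :=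
  Lgr Lrot46 (Lpr_gf (f617185 IH) (Lpr_ft (K33.f473219 IH) (Lpr_at (K29.f474657 IH) (Lpn (LP (LK LD1_c13 LD2_c18 LD3_c58))))))
theorem f611063 : Led Lsl_at (LP (LK LD1_c22 LD2_c18 LD3_c59)) = (LP (LK LD1_c22 LD2_c32 LD3_c17)) :=
  Lgr Lrot100 (Lpr_af (f611053 IH) (Lpn (LP (LK LD1_c22 LD2_c32 LD3_c17))))
theorem f796806 : Led Lsl_gt (LP (LK LD1_c13 LD2_c18 LD3_c58)) = (LP (LK LD1_c22 LD2_c32 LD3_c17)) :=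
  Lgr Lrot46 (Lpe (f617187 IH) (Lpr_ft (f796596 IH) (Lpr_at (f611063 IH) (Lpn (LP (LK LD1_c22 LD2_c32 LD3_c17))))))
theorem f804068 : Led Lsl_cf (LP (LK LD1_c23 LD2_c49 LD3_c2)) = (LP (LK LD1_c22 LD2_c32 LD3_c17)) :=
  Lgr Lrot125 (Lpe (f804054 IH) (Lpr_cf (f804058 IH) (Lpr_bt (f493552 IH) (Lpr_gt (K35.f457606 IH) (Lpe (K62.f129767 IH) (Lpr_ct (K34.f129760 IH) (Lpr_gt (K30.f493548 IH) (Lpe (f474666 IH) (Lpr_bt (f474667 IH) (Lpr_gt (f796806 IH) (Lpn (LP (LK LD1_c22 LD2_c32 LD3_c17)))))))))))))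
theorem f804080 : Led Lsl_ft (LP (LK LD1_c23 LD2_c49 LD3_c2)) = (LP (LK LD1_c22 LD2_c32 LD3_c13)) :=
  Lgr Lrot4 (Lpr_cf (f804068 IH) (Lpe (f162369 IH) (Lpe (K62.f162360 IH) (Lpn (LP (LK LD1_c22 LD2_c32 LD3_c13))))))
theorem f804088 : Led Lsl_ff (LP (LK LD1_c23 LD2_c49 LD3_c2)) = (LP (LK LD1_c22 LD2_c32 LD3_c13)) :=
  Lgr Lrot3 (Lpr_ft (f804080 IH) (Lpn (LP (LK LD1_c22 LD2_c32 LD3_c13))))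
theorem f804072 : Led Lsl_at (LP (LK LD1_c23 LD2_c49 LD3_c2)) = (LP (LK LD1_c30 LD2_c25 LD3_c13)) :=
  Lgr Lrot107 (Lpr_cf (f804068 IH) (Lpe (f611063 IH) (Lpe (f472874 IH) (Lpn (LP (LK LD1_c30 LD2_c25 LD3_c13))))))
theorem f804060 : Led Lsl_ff (LP (LK LD1_c30 LD2_c30 LD3_c19)) = (LP (LK LD1_c23 LD2_c48 LD3_c61)) :=
  Lgr Lrot3 (Lpr_ft (f804052 IH) (Lpn (LP (LK LD1_c23 LD2_c48 LD3_c61))))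
theorem f804049 : Led Lsl_at (LP (LK LD1_c30 LD2_c30 LD3_c19)) = (LP (LK LD1_c22 LD2_c40 LD3_c31)) :=
  Lgr Lrot100 (Lpr_af (f804041 IH) (Lpn (LP (LK LD1_c22 LD2_c40 LD3_c31))))
theorem f796600 : Led Lsl_gf (LP (LK LD1_c22 LD2_c40 LD3_c31)) = (LP (LK LD1_c30 LD2_c25 LD3_c13)) :=
  Lgr Lrot47 (Lpe (K62.f629031 IH) (Lpe (f796590 IH) (Lpr_ff (f796592 IH) (Lpn (LP (LK LD1_c30 LD2_c25 LD3_c13))))))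
theorem f804064 : Led Lsl_gf (LP (LK LD1_c30 LD2_c25 LD3_c13)) = (LP (LK LD1_c23 LD2_c48 LD3_c61)) :=
  Lgr Lrot47 (Lpe (f796600 IH) (Lpe (f804049 IH) (Lpr_ff (f804060 IH) (Lpn (LP (LK LD1_c23 LD2_c48 LD3_c61))))))
theorem f804094 : Led Lsl_gf (LP (LK LD1_c23 LD2_c48 LD3_c61)) = (LP (LK LD1_c22 LD2_c32 LD3_c13)) :=
  Lgr Lrot47 (Lpe (f804064 IH) (Lpe (f804072 IH) (Lpr_ff (f804088 IH) (Lpn (LP (LK LD1_c22 LD2_c32 LD3_c13))))))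
theorem f804076 : Led Lsl_ct (LP (LK LD1_c23 LD2_c49 LD3_c2)) = (LP (LK LD1_c22 LD2_c32 LD3_c17)) :=
  Lgr Lrot59 (Lpr_cf (f804068 IH) (Lpn (LP (LK LD1_c22 LD2_c32 LD3_c17))))
theorem f17078 : Led Lsl_ct (LP (LK LD1_c23 LD2_c45 LD3_c43)) = (LP (LK LD1_c14 LD2_c10 LD3_c26)) :=
  Lre_c IH (LK LD1_c23 LD2_c45 LD3_c43) (LK LD1_c14 LD2_c10 LD3_c26) Lrfl Lrfl
theorem f437193 : Led Lsl_ct (LP (LK LD1_c22 LD2_c19 LD3_c58)) = (LP (LK LD1_c30 LD2_c26 LD3_c10)) :=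
  Lre_c IH (LK LD1_c22 LD2_c19 LD3_c58) (LK LD1_c30 LD2_c26 LD3_c10) Lrfl Lrfl
theorem f804096 : Led Lsl_gf (LP (LK LD1_c23 LD2_c45 LD3_c43)) = (LP (LK LD1_c30 LD2_c26 LD3_c10)) :=
  Lgr Lrot104 (Lpr_ct (f17078 IH) (Lpr_df (f796506 IH) (Lpe (f804076 IH) (Lpe (f788396 IH) (Lpr_cf (f788389 IH) (Lpr_gf (f804094 IH) (Lpe (K62.f458109 IH) (Lpr_gt (K62.f802370 IH) (Lpr_ct (f437193 IH) (Lpn (LP (LK LD1_c30 LD2_c26 LD3_c10))))))))))))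
theorem f796526 : Led Lsl_at (LP (LK LD1_c14 LD2_c10 LD3_c27)) = (LP (LK LD1_c13 LD2_c7 LD3_c22)) :=
  Lgr Lrot100 (Lpr_af (f796524 IH) (Lpn (LP (LK LD1_c13 LD2_c7 LD3_c22))))
theorem f15920 : Led Lsl_ft (LP (LK LD1_c6 LD2_c54 LD3_c22)) = (LP (LK LD1_c13 LD2_c7 LD3_c24)) :=
  Lre_f IH (LK LD1_c6 LD2_c54 LD3_c22) (LK LD1_c13 LD2_c7 LD3_c24) Lrfl Lrfl
theorem f15991 : Led Lsl_at (LP (LK LD1_c13 LD2_c7 LD3_c24)) = (LP (LK LD1_c14 LD2_c10 LD3_c29)) :=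
  Lgr Lrot66 (Lpe (f15920 IH) (Lpr_af (K8.f15977 IH) (Lpe (K8.f14897 IH) (Lpn (LP (LK LD1_c14 LD2_c10 LD3_c29))))))
theorem f16010 : Led Lsl_gt (LP (LK LD1_c6 LD2_c54 LD3_c22)) = (LP (LK LD1_c13 LD2_c7 LD3_c21)) :=
  Lre_g IH (LK LD1_c6 LD2_c54 LD3_c22) (LK LD1_c13 LD2_c7 LD3_c21) Lrfl Lrfl
theorem f16011 : Led Lsl_gt (LP (LK LD1_c13 LD2_c7 LD3_c21)) = (LP (LK LD1_c14 LD2_c10 LD3_c29)) :=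
  Lgr Lrot46 (Lpe (f16010 IH) (Lpr_ft (f15920 IH) (Lpr_at (f15991 IH) (Lpn (LP (LK LD1_c14 LD2_c10 LD3_c29))))))
theorem f796837 : Led Lsl_ff (LP (LK LD1_c14 LD2_c10 LD3_c27)) = (LP (LK LD1_c13 LD2_c7 LD3_c21)) :=
  Lgr Lrot52 (Lpr_at (f796526 IH) (Lpr_gf (K8.f15993 IH) (Lpe (f16011 IH) (Lpn (LP (LK LD1_c13 LD2_c7 LD3_c21))))))
theorem f796839 : Led Lsl_dt (LP (LK LD1_c13 LD2_c7 LD3_c21)) = (LP (LK LD1_c22 LD2_c18 LD3_c59)) :=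
  Lgr Lrot159 (Lpe (f796837 IH) (Lpr_at (f796526 IH) (Lpe (f16002 IH) (Lpe (f15997 IH) (Lpr_cf (f611061 IH) (Lpe (f16036 IH) (Lpr_cf (f519658 IH) (Lpe (f611055 IH) (Lpe (f472873 IH) (Lpn (LP (LK LD1_c22 LD2_c18 LD3_c59))))))))))))
theorem f16014 : Led Lsl_ct (LP (LK LD1_c22 LD2_c19 LD3_c13)) = (LP (LK LD1_c13 LD2_c7 LD3_c21)) :=
  Lre_c IH (LK LD1_c22 LD2_c19 LD3_c13) (LK LD1_c13 LD2_c7 LD3_c21) Lrfl Lrfl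
theorem f796845 : Led Lsl_dt (LP (LK LD1_c30 LD2_c25 LD3_c25)) = (LP (LK LD1_c22 LD2_c19 LD3_c13)) :=
  Lre_d IH (LK LD1_c30 LD2_c25 LD3_c25) (LK LD1_c22 LD2_c19 LD3_c13) Lrfl Lrfl
theorem f17044 : Led Lsl_ct (LP (LK LD1_c14 LD2_c10 LD3_c27)) = (LP (LK LD1_c23 LD2_c45 LD3_c46)) :=
  Lre_c IH (LK LD1_c14 LD2_c10 LD3_c27) (LK LD1_c23 LD2_c45 LD3_c46) Lrfl Lrfl
theorem f796528 : Led Lsl_at (LP (LK LD1_c23 LD2_c45 LD3_c46)) = (LP (LK LD1_c22 LD2_c19 LD3_c16)) :=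
  Lgr Lrot107 (Lpe (f17044 IH) (Lpr_af (f796524 IH) (Lpe (f16002 IH) (Lpn (LP (LK LD1_c22 LD2_c19 LD3_c16))))))
theorem f17046 : Led Lsl_dt (LP (LK LD1_c31 LD2_c12 LD3_c38)) = (LP (LK LD1_c23 LD2_c45 LD3_c46)) :=
  Lre_d IH (LK LD1_c31 LD2_c12 LD3_c38) (LK LD1_c23 LD2_c45 LD3_c46) Lrfl Lrfl
theorem f796832 : Led Lsl_af (LP (LK LD1_c31 LD2_c12 LD3_c38)) = (LP (LK LD1_c30 LD2_c25 LD3_c30)) :=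
  Lgr Lrot117 (Lpr_dt (f17046 IH) (Lpr_at (f796528 IH) (Lpr_dt (f15996 IH) (Lpn (LP (LK LD1_c30 LD2_c25 LD3_c30))))))
theorem f796834 : Led Lsl_at (LP (LK LD1_c31 LD2_c12 LD3_c38)) = (LP (LK LD1_c30 LD2_c25 LD3_c30)) :=
  Lgr Lrot100 (Lpr_af (f796832 IH) (Lpn (LP (LK LD1_c30 LD2_c25 LD3_c30))))
theorem f796852 : Led Lsl_ft (LP (LK LD1_c30 LD2_c25 LD3_c25)) = (LP (LK LD1_c31 LD2_c12 LD3_c38)) :=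
  Lgr Lrot142 (Lpr_dt (f796845 IH) (Lpr_ct (f16014 IH) (Lpr_dt (f796839 IH) (Lpr_ct (f472873 IH) (Lpr_dt (f611055 IH) (Lpe (f519658 IH) (Lpr_dt (f16036 IH) (Lpe (f611061 IH) (Lpe (f796834 IH) (Lpn (LP (LK LD1_c31 LD2_c12 LD3_c38))))))))))))
theorem f796858 : Led Lsl_ff (LP (LK LD1_c30 LD2_c25 LD3_c25)) = (LP (LK LD1_c31 LD2_c12 LD3_c38)) :=
  Lgr Lrot3 (Lpr_ft (f796852 IH) (Lpn (LP (LK LD1_c31 LD2_c12 LD3_c38))))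
theorem f17045 : Led Lsl_dt (LP (LK LD1_c23 LD2_c45 LD3_c46)) = (LP (LK LD1_c31 LD2_c12 LD3_c38)) :=
  Lre_d IH (LK LD1_c23 LD2_c45 LD3_c46) (LK LD1_c31 LD2_c12 LD3_c38) Lrfl Lrfl
theorem f796860 : Led Lsl_ft (LP (LK LD1_c22 LD2_c19 LD3_c13)) = (LP (LK LD1_c23 LD2_c45 LD3_c46)) :=
  Lgr Lrot54 (Lpe (f796845 IH) (Lpr_ff (f796858 IH) (Lpe (f17045 IH) (Lpn (LP (LK LD1_c23 LD2_c45 LD3_c46))))))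
theorem f796520 : Led Lsl_ff (LP (LK LD1_c23 LD2_c45 LD3_c43)) = (LP (LK LD1_c22 LD2_c19 LD3_c16)) :=
  Lgr Lrot23 (Lpr_ct (f17078 IH) (Lpr_ft (f796515 IH) (Lpr_ct (f15995 IH) (Lpn (LP (LK LD1_c22 LD2_c19 LD3_c16))))))
theorem f796862 : Led Lsl_af (LP (LK LD1_c22 LD2_c19 LD3_c13)) = (LP (LK LD1_c23 LD2_c45 LD3_c43)) :=
  Lgr Lrot45 (Lpr_ft (f796860 IH) (Lpr_at (f796528 IH) (Lpe (f796520 IH) (Lpn (LP (LK LD1_c23 LD2_c45 LD3_c43))))))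
theorem f796867 : Led Lsl_at (LP (LK LD1_c22 LD2_c19 LD3_c13)) = (LP (LK LD1_c23 LD2_c45 LD3_c43)) :=
  Lgr Lrot100 (Lpr_af (f796862 IH) (Lpn (LP (LK LD1_c23 LD2_c45 LD3_c43))))
theorem f796855 : Led Lsl_dt (LP (LK LD1_c22 LD2_c19 LD3_c13)) = (LP (LK LD1_c30 LD2_c25 LD3_c25)) :=
  Lre_d IH (LK LD1_c22 LD2_c19 LD3_c13) (LK LD1_c30 LD2_c25 LD3_c25) Lrfl Lrfl
theorem f796856 : Led Lsl_ff (LP (LK LD1_c22 LD2_c19 LD3_c13)) = (LP (LK LD1_c23 LD2_c45 LD3_c46)) :=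
  Lgr Lrot19 (Lpr_dt (f796855 IH) (Lpr_ft (f796852 IH) (Lpr_dt (f17046 IH) (Lpn (LP (LK LD1_c23 LD2_c45 LD3_c46))))))
theorem f804098 : Led Lsl_gt (LP (LK LD1_c23 LD2_c45 LD3_c46)) = (LP (LK LD1_c30 LD2_c26 LD3_c10)) :=
  Lgr Lrot5 (Lpe (f796856 IH) (Lpr_at (f796867 IH) (Lpr_gf (f804096 IH) (Lpn (LP (LK LD1_c30 LD2_c26 LD3_c10))))))
theorem f16752 : Led Lsl_ct (LP (LK LD1_c7 LD2_c30 LD3_c19)) = (LP (LK LD1_c14 LD2_c10 LD3_c24)) :=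
  Lre_c IH (LK LD1_c7 LD2_c30 LD3_c19) (LK LD1_c14 LD2_c10 LD3_c24) Lrfl Lrfl
theorem f437199 : Led Lsl_ct (LP (LK LD1_c30 LD2_c26 LD3_c10)) = (LP (LK LD1_c22 LD2_c19 LD3_c58)) :=
  Lre_c IH (LK LD1_c30 LD2_c26 LD3_c10) (LK LD1_c22 LD2_c19 LD3_c58) Lrfl Lrfl
theorem f87638 : Led Lsl_bt (LP (LK LD1_c6 LD2_c54 LD3_c45)) = (LP (LK LD1_c4 LD2_c47 LD3_c49)) :=
  Lgr Lrot127 (Lpr_bf (K6.f87636 IH) (Lpn (LP (LK LD1_c4 LD2_c47 LD3_c49))))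
theorem f15641 : Led Lsl_bt (LP (LK LD1_c13 LD2_c7 LD3_c61)) = (LP (LK LD1_c6 LD2_c54 LD3_c47)) :=
  Lre_b IH (LK LD1_c13 LD2_c7 LD3_c61) (LK LD1_c6 LD2_c54 LD3_c47) Lrfl Lrfl
theorem f57270 : Led Lsl_bt (LP (LK LD1_c6 LD2_c43 LD3_c14)) = (LP (LK LD1_c12 LD2_c51 LD3_c16)) :=
  Lre_b IH (LK LD1_c6 LD2_c43 LD3_c14) (LK LD1_c12 LD2_c51 LD3_c16) Lrfl Lrfl
theorem f437695 : Led Lsl_cf (LP (LK LD1_c13 LD2_c7 LD3_c61)) = (LP (LK LD1_c12 LD2_c51 LD3_c16)) :=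
  Lgr Lrot97 (Lpr_bt (f15641 IH) (Lpr_ct (K62.f15639 IH) (Lpr_bt (f87638 IH) (Lpr_ct (K63.f145243 IH) (Lpr_bt (f57270 IH) (Lpn (LP (LK LD1_c12 LD2_c51 LD3_c16))))))))
theorem f804100 : Led Lsl_gt (LP (LK LD1_c14 LD2_c10 LD3_c24)) = (LP (LK LD1_c12 LD2_c51 LD3_c16)) :=
  Lgr Lrot150 (Lpe (f16752 IH) (Lpr_gf (K28.f16747 IH) (Lpe (K8.f15943 IH) (Lpe (K7.f17042 IH) (Lpr_ct (f17044 IH) (Lpr_gt (f804098 IH) (Lpr_ct (f437199 IH) (Lpe (K62.f15663 IH) (Lpr_cf (f437695 IH) (Lpn (LP (LK LD1_c12 LD2_c51 LD3_c16))))))))))))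
theorem f457767 : Led Lsl_ct (LP (LK LD1_c7 LD2_c46 LD3_c1)) = (LP (LK LD1_c7 LD2_c47 LD3_c15)) :=
  Lre_c IH (LK LD1_c7 LD2_c46 LD3_c1) (LK LD1_c7 LD2_c47 LD3_c15) Lrfl Lrfl
theorem f457768 : Led Lsl_bt (LP (LK LD1_c7 LD2_c46 LD3_c1)) = (LP (LK LD1_c14 LD2_c38 LD3_c61)) :=
  Lre_b IH (LK LD1_c7 LD2_c46 LD3_c1) (LK LD1_c14 LD2_c38 LD3_c61) Lrfl Lrfl
theorem f457769 : Led Lsl_gf (LP (LK LD1_c14 LD2_c10 LD3_c24)) = (LP (LK LD1_c14 LD2_c38 LD3_c61)) :=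
  Lgr Lrot181 (Lpr_ct (K28.f16757 IH) (Lpr_gt (K28.f16746 IH) (Lpe (K8.f14719 IH) (Lpr_bt (K28.f15668 IH) (Lpr_gt (K28.f17286 IH) (Lpe (K41.f15720 IH) (Lpr_ct (K62.f457724 IH) (Lpr_gt (K62.f457746 IH) (Lpe (f457767 IH) (Lpr_bt (f457768 IH) (Lpn (LP (LK LD1_c14 LD2_c38 LD3_c61)))))))))))))
theorem f64458 : Led Lsl_et (LP (LK LD1_c12 LD2_c51 LD3_c16)) = (LP (LK LD1_c6 LD2_c43 LD3_c12)) :=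
  Lre_e IH (LK LD1_c12 LD2_c51 LD3_c16) (LK LD1_c6 LD2_c43 LD3_c12) Lrfl Lrfl
theorem f145109 : Led Lsl_et (LP (LK LD1_c6 LD2_c54 LD3_c46)) = (LP (LK LD1_c13 LD2_c7 LD3_c61)) :=
  Lre_e IH (LK LD1_c6 LD2_c54 LD3_c46) (LK LD1_c13 LD2_c7 LD3_c61) Lrfl Lrfl
theorem f145110 : Led Lsl_af (LP (LK LD1_c12 LD2_c51 LD3_c16)) = (LP (LK LD1_c13 LD2_c7 LD3_c61)) :=
  Lgr Lrot50 (Lpr_et (f64458 IH) (Lpr_at (K6.f145101 IH) (Lpr_et (f145109 IH) (Lpn (LP (LK LD1_c13 LD2_c7 LD3_c61))))))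
theorem f804104 : Led Lsl_ft (LP (LK LD1_c14 LD2_c38 LD3_c61)) = (LP (LK LD1_c13 LD2_c7 LD3_c61)) :=
  Lgr Lrot2 (Lpe (f457769 IH) (Lpr_gt (f804100 IH) (Lpr_af (f145110 IH) (Lpn (LP (LK LD1_c13 LD2_c7 LD3_c61))))))
theorem f437200 : Led Lsl_dt (LP (LK LD1_c21 LD2_c59 LD3_c56)) = (LP (LK LD1_c12 LD2_c51 LD3_c16)) :=
  Lre_d IH (LK LD1_c21 LD2_c59 LD3_c56) (LK LD1_c12 LD2_c51 LD3_c16) Lrfl Lrfl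
theorem f802376 : Led Lsl_ff (LP (LK LD1_c14 LD2_c41 LD3_c38)) = (LP (LK LD1_c12 LD2_c51 LD3_c16)) :=
  Lgr Lrot19 (Lpr_dt (K62.f458058 IH) (Lpr_ft (K62.f802372 IH) (Lpr_dt (f437200 IH) (Lpn (LP (LK LD1_c12 LD2_c51 LD3_c16))))))
theorem f804106 : Led Lsl_af (LP (LK LD1_c14 LD2_c38 LD3_c61)) = (LP (LK LD1_c14 LD2_c41 LD3_c38)) :=
  Lgr Lrot45 (Lpr_ft (f804104 IH) (Lpe (f145110 IH) (Lpe (f802376 IH) (Lpn (LP (LK LD1_c14 LD2_c41 LD3_c38))))))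
theorem f114445 : Led Lsl_ct (LP (LK LD1_c7 LD2_c35 LD3_c38)) = (LP (LK LD1_c14 LD2_c18 LD3_c58)) :=
  Lre_c IH (LK LD1_c7 LD2_c35 LD3_c38) (LK LD1_c14 LD2_c18 LD3_c58) Lrfl Lrfl
theorem f533877 : Led Lsl_gf (LP (LK LD1_c14 LD2_c38 LD3_c61)) = (LP (LK LD1_c14 LD2_c10 LD3_c21)) :=
  Lgr Lrot181 (Lpr_ct (K41.f457772 IH) (Lpr_gt (K41.f457992 IH) (Lpe (K41.f16698 IH) (Lpr_bt (K41.f458063 IH) (Lpr_gt (K41.f533678 IH) (Lpe (K35.f114450 IH) (Lpr_ct (f114445 IH) (Lpr_gt (K35.f533873 IH) (Lpe (K35.f464234 IH) (Lpe (K37.f464237 IH) (Lpn (LP (LK LD1_c14 LD2_c10 LD3_c21)))))))))))))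
theorem f804108 : Led Lsl_gf (LP (LK LD1_c14 LD2_c10 LD3_c21)) = (LP (LK LD1_c12 LD2_c51 LD3_c16)) :=
  Lgr Lrot47 (Lpe (f533877 IH) (Lpr_af (f804106 IH) (Lpr_ff (f802376 IH) (Lpn (LP (LK LD1_c12 LD2_c51 LD3_c16))))))
theorem f64456 : Led Lsl_et (LP (LK LD1_c6 LD2_c43 LD3_c12)) = (LP (LK LD1_c12 LD2_c51 LD3_c16)) :=
  Lre_e IH (LK LD1_c6 LD2_c43 LD3_c12) (LK LD1_c12 LD2_c51 LD3_c16) Lrfl Lrfl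
theorem f151511 : Led Lsl_et (LP (LK LD1_c14 LD2_c13 LD3_c16)) = (LP (LK LD1_c7 LD2_c32 LD3_c27)) :=
  Lre_e IH (LK LD1_c14 LD2_c13 LD3_c16) (LK LD1_c7 LD2_c32 LD3_c27) Lrfl Lrfl
theorem f804110 : Led Lsl_gt (LP (LK LD1_c31 LD2_c12 LD3_c31)) = (LP (LK LD1_c23 LD2_c48 LD3_c46)) :=
  Lgr Lrot112 (Lpe (f428963 IH) (Lpr_et (f464241 IH) (Lpr_gf (f804108 IH) (Lpe (f64456 IH) (Lpr_dt (K6.f57468 IH) (Lpe (K11.f57451 IH) (Lpr_df (K11.f157315 IH) (Lpe (K11.f157311 IH) (Lpe (f151511 IH) (Lpr_dt (K8.f157356 IH) (Lpn (LP (LK LD1_c23 LD2_c48 LD3_c46)))))))))))))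
theorem f157373 : Led Lsl_dt (LP (LK LD1_c14 LD2_c13 LD3_c19)) = (LP (LK LD1_c7 LD2_c32 LD3_c28)) :=
  Lre_d IH (LK LD1_c14 LD2_c13 LD3_c19) (LK LD1_c7 LD2_c32 LD3_c28) Lrfl Lrfl
theorem f156672 : Led Lsl_gt (LP (LK LD1_c23 LD2_c48 LD3_c52)) = (LP (LK LD1_c14 LD2_c13 LD3_c19)) :=
  Lre_g IH (LK LD1_c23 LD2_c48 LD3_c52) (LK LD1_c14 LD2_c13 LD3_c19) Lrfl Lrfl
theorem f802378 : Led Lsl_ff (LP (LK LD1_c24 LD2_c26 LD3_c18)) = (LP (LK LD1_c21 LD2_c59 LD3_c56)) :=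
  Lgr Lrot3 (Lpr_ft (K62.f802372 IH) (Lpn (LP (LK LD1_c21 LD2_c59 LD3_c56))))
theorem f458057 : Led Lsl_dt (LP (LK LD1_c24 LD2_c26 LD3_c18)) = (LP (LK LD1_c14 LD2_c41 LD3_c38)) :=
  Lre_d IH (LK LD1_c24 LD2_c26 LD3_c18) (LK LD1_c14 LD2_c41 LD3_c38) Lrfl Lrfl
theorem f145251 : Led Lsl_dt (LP (LK LD1_c12 LD2_c51 LD3_c16)) = (LP (LK LD1_c21 LD2_c59 LD3_c56)) :=
  Lre_d IH (LK LD1_c12 LD2_c51 LD3_c16) (LK LD1_c21 LD2_c59 LD3_c56) Lrfl Lrfl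
theorem f802383 : Led Lsl_ft (LP (LK LD1_c14 LD2_c41 LD3_c38)) = (LP (LK LD1_c12 LD2_c51 LD3_c16)) :=
  Lgr Lrot54 (Lpe (f458057 IH) (Lpr_ff (f802378 IH) (Lpe (f145251 IH) (Lpn (LP (LK LD1_c12 LD2_c51 LD3_c16))))))
theorem f437179 : Led Lsl_af (LP (LK LD1_c13 LD2_c7 LD3_c61)) = (LP (LK LD1_c12 LD2_c51 LD3_c16)) :=
  Lgr Lrot36 (Lpr_bt (f15641 IH) (Lpr_at (K62.f437175 IH) (Lpe (K6.f57267 IH) (Lpr_at (K62.f57269 IH) (Lpr_bt (f57270 IH) (Lpn (LP (LK LD1_c12 LD2_c51 LD3_c16))))))))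
theorem f802387 : Led Lsl_gt (LP (LK LD1_c13 LD2_c7 LD3_c19)) = (LP (LK LD1_c13 LD2_c7 LD3_c61)) :=
  Lgr Lrot46 (Lpe (K41.f457992 IH) (Lpr_ft (f802383 IH) (Lpe (f437179 IH) (Lpn (LP (LK LD1_c13 LD2_c7 LD3_c61))))))
theorem f802389 : Led Lsl_gf (LP (LK LD1_c24 LD2_c1 LD3_c1)) = (LP (LK LD1_c22 LD2_c19 LD3_c58)) :=
  Lgr Lrot143 (Lpe (f611057 IH) (Lpe (f472873 IH) (Lpe (f796839 IH) (Lpe (f16010 IH) (Lpe (K8.f15909 IH) (Lpe (K28.f15925 IH) (Lpe (K41.f15929 IH) (Lpr_gt (f802387 IH) (Lpr_dt (K62.f15663 IH) (Lpn (LP (LK LD1_c22 LD2_c19 LD3_c58))))))))))))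
theorem f14894 : Led Lsl_ct (LP (LK LD1_c23 LD2_c45 LD3_c51)) = (LP (LK LD1_c14 LD2_c10 LD3_c29)) :=
  Lre_c IH (LK LD1_c23 LD2_c45 LD3_c51) (LK LD1_c14 LD2_c10 LD3_c29) Lrfl Lrfl
theorem f14893 : Led Lsl_dt (LP (LK LD1_c14 LD2_c10 LD3_c29)) = (LP (LK LD1_c7 LD2_c30 LD3_c21)) :=
  Lre_d IH (LK LD1_c14 LD2_c10 LD3_c29) (LK LD1_c7 LD2_c30 LD3_c21) Lrfl Lrfl
theorem f802391 : Led Lsl_gf (LP (LK LD1_c13 LD2_c7 LD3_c15)) = (LP (LK LD1_c13 LD2_c7 LD3_c61)) :=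
  Lgr Lrot147 (Lpr_ct (K28.f15936 IH) (Lpr_gt (K8.f16048 IH) (Lpe (K8.f14869 IH) (Lpe (f14893 IH) (Lpe (f14894 IH) (Lpe (f16033 IH) (Lpr_cf (f519658 IH) (Lpr_gf (f802389 IH) (Lpe (K62.f15663 IH) (Lpn (LP (LK LD1_c13 LD2_c7 LD3_c61))))))))))))
theorem f58828 : Led Lsl_et (LP (LK LD1_c7 LD2_c32 LD3_c28)) = (LP (LK LD1_c3 LD2_c45 LD3_c52)) :=
  Lre_e IH (LK LD1_c7 LD2_c32 LD3_c28) (LK LD1_c3 LD2_c45 LD3_c52) Lrfl Lrfl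
theorem f151508 : Led Lsl_dt (LP (LK LD1_c7 LD2_c32 LD3_c28)) = (LP (LK LD1_c14 LD2_c13 LD3_c19)) :=
  Lre_d IH (LK LD1_c7 LD2_c32 LD3_c28) (LK LD1_c14 LD2_c13 LD3_c19) Lrfl Lrfl
theorem f802399 : Led Lsl_dt (LP (LK LD1_c22 LD2_c19 LD3_c4)) = (LP (LK LD1_c23 LD2_c48 LD3_c52)) :=
  Lgr Lrot136 (Lpr_et (K63.f458112 IH) (Lpr_gf (f802391 IH) (Lpe (f145109 IH) (Lpe (K6.f145107 IH) (Lpe (K7.f135838 IH) (Lpr_df (K37.f156670 IH) (Lpe (K4.f58837 IH) (Lpe (f58828 IH) (Lpr_dt (f151508 IH) (Lpe (f156672 IH) (Lpn (LP (LK LD1_c23 LD2_c48 LD3_c52)))))))))))))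
theorem f806134 : Led Lsl_gt (LP (LK LD1_c22 LD2_c26 LD3_c30)) = (LP (LK LD1_c22 LD2_c19 LD3_c4)) :=
  Lgr Lrot94 (Lpr_cf (K63.f806034 IH) (Lpr_gt (f806132 IH) (Lpr_dt (f428963 IH) (Lpr_gt (f804110 IH) (Lpr_dt (K8.f157370 IH) (Lpr_cf (K62.f157368 IH) (Lpe (f157373 IH) (Lpe (f156672 IH) (Lpe (f802399 IH) (Lpn (LP (LK LD1_c22 LD2_c19 LD3_c4))))))))))))
theorem f162348 : Led Lsl_ct (LP (LK LD1_c13 LD2_c7 LD3_c17)) = (LP (LK LD1_c22 LD2_c19 LD3_c4)) :=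
  Lre_c IH (LK LD1_c13 LD2_c7 LD3_c17) (LK LD1_c22 LD2_c19 LD3_c4) Lrfl Lrfl
theorem f804641 : Led Lsl_gf (LP (LK LD1_c14 LD2_c23 LD3_c22)) = (LP (LK LD1_c22 LD2_c19 LD3_c4)) :=
  Lgr Lrot129 (Lpr_cf (K63.f804635 IH) (Lpr_bt (K63.f469121 IH) (Lpr_gt (K34.f463944 IH) (Lpe (K34.f446574 IH) (Lpr_ct (K28.f468921 IH) (Lpr_gt (K29.f455085 IH) (Lpe (K28.f457885 IH) (Lpr_bt (K63.f458009 IH) (Lpe (K63.f516610 IH) (Lpr_ct (f162348 IH) (Lpn (LP (LK LD1_c22 LD2_c19 LD3_c4)))))))))))))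
theorem f806138 : Led Lsl_at (LP (LK LD1_c22 LD2_c26 LD3_c57)) = (LP (LK LD1_c14 LD2_c23 LD3_c22)) :=
  Lgr Lrot26 (Lpe (K63.f806032 IH) (Lpr_gt (f806134 IH) (Lpe (f804641 IH) (Lpn (LP (LK LD1_c14 LD2_c23 LD3_c22))))))
theorem f806142 : Led Lsl_af (LP (LK LD1_c22 LD2_c26 LD3_c30)) = (LP (LK LD1_c24 LD2_c1 LD3_c47)) :=
  Lgr Lrot45 (Lpr_ft (K63.f806032 IH) (Lpr_at (f806138 IH) (Lpr_ft (K63.f804640 IH) (Lpn (LP (LK LD1_c24 LD2_c1 LD3_c47))))))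
theorem f802173 : Led Lsl_gt (LP (LK LD1_c14 LD2_c23 LD3_c22)) = (LP (LK LD1_c24 LD2_c1 LD3_c45)) :=
  Lre_g IH (LK LD1_c14 LD2_c23 LD3_c22) (LK LD1_c24 LD2_c1 LD3_c45) Lrfl Lrfl
theorem f806146 : Led Lsl_gf (LP (LK LD1_c22 LD2_c26 LD3_c30)) = (LP (LK LD1_c24 LD2_c1 LD3_c45)) :=
  Lgr Lrot76 (Lpr_af (f806142 IH) (Lpe (K63.f804640 IH) (Lpr_gt (f802173 IH) (Lpn (LP (LK LD1_c24 LD2_c1 LD3_c45))))))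
theorem f804605 : Led Lsl_ct (LP (LK LD1_c7 LD2_c38 LD3_c14)) = (LP (LK LD1_c7 LD2_c47 LD3_c24)) :=
  Lgr Lrot7 (Lpe (K63.f116739 IH) (Lpr_gf (K62.f116737 IH) (Lpe (K62.f116736 IH) (Lpe (K62.f116729 IH) (Lpe (K62.f156477 IH) (Lpqs (K63.f801877 IH) (Lpe (K63.f658586 IH) (Lpr_dt (K63.f513073 IH) (Lpr_gt (K61.f461397 IH) (Lpr_dt (K63.f804601 IH) (Lpn (LP (LK LD1_c7 LD2_c47 LD3_c24)))))))))))))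
theorem f458010 : Led Lsl_gt (LP (LK LD1_c22 LD2_c26 LD3_c45)) = (LP (LK LD1_c13 LD2_c12 LD3_c50)) :=
  Lre_g IH (LK LD1_c22 LD2_c26 LD3_c45) (LK LD1_c13 LD2_c12 LD3_c50) Lrfl Lrfl
theorem f804663 : Led Lsl_ct (LP (LK LD1_c24 LD2_c1 LD3_c45)) = (LP (LK LD1_c22 LD2_c26 LD3_c45)) :=
  Lgr Lrot91 (Lpe (f802173 IH) (Lpe (K63.f804609 IH) (Lpr_ct (f804605 IH) (Lpe (K34.f63022 IH) (Lpe (f457892 IH) (Lpr_bt (K62.f457891 IH) (Lpe (K29.f457882 IH) (Lpe (K63.f457888 IH) (Lpr_ct (K63.f473191 IH) (Lpe (f458010 IH) (Lpn (LP (LK LD1_c22 LD2_c26 LD3_c45)))))))))))))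
theorem f804665 : Led Lsl_cf (LP (LK LD1_c24 LD2_c1 LD3_c45)) = (LP (LK LD1_c22 LD2_c26 LD3_c45)) :=
  Lgr Lrot11 (Lpr_ct (f804663 IH) (Lpn (LP (LK LD1_c22 LD2_c26 LD3_c45))))
def v22364 : LQ := Led Lsl_et (LP (LK LD1_c7 LD2_c35 LD3_c4))
theorem f805824 : Led Lsl_et (LP (LK LD1_c7 LD2_c35 LD3_c4)) = v22364 :=
  Lrfl
theorem f466748 : Led Lsl_dt (LP (LK LD1_c7 LD2_c35 LD3_c4)) = (LP (LK LD1_c14 LD2_c18 LD3_c2)) :=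
  Lre_d IH (LK LD1_c7 LD2_c35 LD3_c4) (LK LD1_c14 LD2_c18 LD3_c2) Lrfl Lrfl
theorem f457341 : Led Lsl_gt (LP (LK LD1_c23 LD2_c12 LD3_c51)) = (LP (LK LD1_c13 LD2_c45 LD3_c44)) :=
  Lre_g IH (LK LD1_c23 LD2_c12 LD3_c51) (LK LD1_c13 LD2_c45 LD3_c44) Lrfl Lrfl
theorem f466724 : Led Lsl_bt (LP (LK LD1_c7 LD2_c35 LD3_c5)) = (LP (LK LD1_c14 LD2_c18 LD3_c2)) :=
  Lre_b IH (LK LD1_c7 LD2_c35 LD3_c5) (LK LD1_c14 LD2_c18 LD3_c2) Lrfl Lrfl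
theorem f482002 : Led Lsl_bt (LP (LK LD1_c7 LD2_c38 LD3_c61)) = (LP (LK LD1_c3 LD2_c48 LD3_c57)) :=
  Lre_b IH (LK LD1_c7 LD2_c38 LD3_c61) (LK LD1_c3 LD2_c48 LD3_c57) Lrfl Lrfl
theorem f482077 : Led Lsl_ft (LP (LK LD1_c14 LD2_c18 LD3_c2)) = (LP (LK LD1_c7 LD2_c38 LD3_c61)) :=
  Lgr Lrot75 (Lpe (f466724 IH) (Lpr_ff (K33.f482073 IH) (Lpe (f482002 IH) (Lpn (LP (LK LD1_c7 LD2_c38 LD3_c61))))))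
theorem f482172 : Led Lsl_gf (LP (LK LD1_c23 LD2_c12 LD3_c51)) = (LP (LK LD1_c14 LD2_c18 LD3_c2)) :=
  Lgr Lrot47 (Lpr_gt (f457341 IH) (Lpr_af (K33.f482164 IH) (Lpe (f482077 IH) (Lpn (LP (LK LD1_c14 LD2_c18 LD3_c2))))))
theorem f804637 : Led Lsl_et (LP (LK LD1_c7 LD2_c38 LD3_c11)) = (LP (LK LD1_c14 LD2_c23 LD3_c22)) :=
  Lre_e IH (LK LD1_c7 LD2_c38 LD3_c11) (LK LD1_c14 LD2_c23 LD3_c22) Lrfl Lrfl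
theorem f465566 : Led Lsl_et (LP (LK LD1_c13 LD2_c7 LD3_c15)) = (LP (LK LD1_c22 LD2_c19 LD3_c4)) :=
  Lre_e IH (LK LD1_c13 LD2_c7 LD3_c15) (LK LD1_c22 LD2_c19 LD3_c4) Lrfl Lrfl
theorem f15933 : Led Lsl_dt (LP (LK LD1_c13 LD2_c7 LD3_c15)) = (LP (LK LD1_c22 LD2_c19 LD3_c3)) :=
  Lre_d IH (LK LD1_c13 LD2_c7 LD3_c15) (LK LD1_c22 LD2_c19 LD3_c3) Lrfl Lrfl
theorem f461616 : Led Lsl_ct (LP (LK LD1_c13 LD2_c23 LD3_c4)) = (LP (LK LD1_c22 LD2_c40 LD3_c55)) :=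
  Lre_c IH (LK LD1_c13 LD2_c23 LD3_c4) (LK LD1_c22 LD2_c40 LD3_c55) Lrfl Lrfl
theorem f796808 : Led Lsl_gf (LP (LK LD1_c22 LD2_c40 LD3_c55)) = (LP (LK LD1_c23 LD2_c43 LD3_c50)) :=
  Lgr Lrot126 (Lpe (f461616 IH) (Lpr_bt (K60.f461611 IH) (Lpr_gt (K47.f461591 IH) (Lpr_ct (K34.f129760 IH) (Lpr_gt (K30.f493548 IH) (Lpe (f474666 IH) (Lpr_bt (f474667 IH) (Lpr_gt (f796806 IH) (Lpe (f611065 IH) (Lpe (f796496 IH) (Lpn (LP (LK LD1_c23 LD2_c43 LD3_c50)))))))))))))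
theorem f488399 : Led Lsl_gt (LP (LK LD1_c13 LD2_c7 LD3_c1)) = (LP (LK LD1_c22 LD2_c18 LD3_c37)) :=
  Lre_g IH (LK LD1_c13 LD2_c7 LD3_c1) (LK LD1_c22 LD2_c18 LD3_c37) Lrfl Lrfl
theorem f488466 : Led Lsl_ct (LP (LK LD1_c30 LD2_c25 LD3_c0)) = (LP (LK LD1_c22 LD2_c18 LD3_c37)) :=
  Lre_c IH (LK LD1_c30 LD2_c25 LD3_c0) (LK LD1_c22 LD2_c18 LD3_c37) Lrfl Lrfl
theorem f796810 : Led Lsl_bt (LP (LK LD1_c30 LD2_c25 LD3_c0)) = (LP (LK LD1_c23 LD2_c43 LD3_c50)) :=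
  Lgr Lrot130 (Lpr_ct (f488466 IH) (Lpe (f488399 IH) (Lpr_cf (K42.f488446 IH) (Lpr_bt (K61.f483780 IH) (Lpr_gf (K34.f483773 IH) (Lpe (K28.f132085 IH) (Lpe (K28.f464349 IH) (Lpr_gf (K48.f516893 IH) (Lpe (K48.f461621 IH) (Lpr_gf (f796808 IH) (Lpn (LP (LK LD1_c23 LD2_c43 LD3_c50)))))))))))))
theorem f477213 : Led Lsl_at (LP (LK LD1_c22 LD2_c14 LD3_c22)) = (LP (LK LD1_c30 LD2_c22 LD3_c55)) :=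
  Lre_a IH (LK LD1_c22 LD2_c14 LD3_c22) (LK LD1_c30 LD2_c22 LD3_c55) Lrfl Lrfl
theorem f529131 : Led Lsl_gf (LP (LK LD1_c30 LD2_c22 LD3_c55)) = (LP (LK LD1_c22 LD2_c18 LD3_c37)) :=
  Lgr Lrot76 (Lpe (f477213 IH) (Lpr_ff (K42.f529125 IH) (Lpr_gt (f488399 IH) (Lpn (LP (LK LD1_c22 LD2_c18 LD3_c37))))))
theorem f657229 : Led Lsl_ct (LP (LK LD1_c22 LD2_c37 LD3_c51)) = (LP (LK LD1_c30 LD2_c22 LD3_c55)) :=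
  Lgr Lrot111 (Lpr_af (K61.f657223 IH) (Lpe (K42.f477200 IH) (Lpe (K47.f477214 IH) (Lpn (LP (LK LD1_c30 LD2_c22 LD3_c55))))))
theorem f657227 : Led Lsl_bt (LP (LK LD1_c22 LD2_c37 LD3_c51)) = (LP (LK LD1_c22 LD2_c43 LD3_c56)) :=
  Lgr Lrot62 (Lpr_af (K61.f657223 IH) (Lpe (K47.f458330 IH) (Lpr_af (K42.f529148 IH) (Lpe (K42.f464357 IH) (Lpe (K47.f480447 IH) (Lpn (LP (LK LD1_c22 LD2_c43 LD3_c56))))))))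
theorem f70269 : Led Lsl_ft (LP (LK LD1_c16 LD2_c25 LD3_c2)) = (LP (LK LD1_c8 LD2_c46 LD3_c29)) :=
  Lre_f IH (LK LD1_c16 LD2_c25 LD3_c2) (LK LD1_c8 LD2_c46 LD3_c29) Lrfl Lrfl
def v17965 : LQ := Led Lsl_at (LP (LK LD1_c6 LD2_c24 LD3_c49))
theorem f763018 : Led Lsl_at (LP (LK LD1_c6 LD2_c24 LD3_c49)) = v17965 :=
  Lrfl
theorem f763020 : Led Lsl_ef K57.v5557 = v17965 :=
  Lgr Lrot20 (Lpe (K57.f648251 IH) (Lpr_et (K57.f80370 IH) (Lpr_at (f763018 IH) (Lpn v17965))))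
theorem f763021 : Led Lsl_et K57.v5557 = v17965 :=
  Lgr Lrot87 (Lpr_ef (f763020 IH) (Lpn v17965))
def v12648 : LQ := Led Lsl_ft (LP (LK LD1_c4 LD2_c24 LD3_c24))
theorem f696584 : Led Lsl_ft (LP (LK LD1_c4 LD2_c24 LD3_c24)) = v12648 :=
  Lrfl
theorem f696586 : Led Lsl_ff (LP (LK LD1_c4 LD2_c24 LD3_c24)) = v12648 :=
  Lgr Lrot3 (Lpr_ft (f696584 IH) (Lpn v12648))
def v12647 : LQ := Led Lsl_at (LP (LK LD1_c4 LD2_c24 LD3_c24))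
theorem f696580 : Led Lsl_at (LP (LK LD1_c4 LD2_c24 LD3_c24)) = v12647 :=
  Lrfl
theorem f696581 : Led Lsl_af (LP (LK LD1_c4 LD2_c24 LD3_c24)) = v12647 :=
  Lgr Lrot0 (Lpr_at (f696580 IH) (Lpn v12647))
theorem f696582 : Led Lsl_ft (LP (LK LD1_c4 LD2_c24 LD3_c25)) = v12647 :=
  Lgr Lrot2 (Lpr_gt (K37.f75768 IH) (Lpr_gt (K6.f70237 IH) (Lpr_af (f696581 IH) (Lpn v12647))))
theorem f696583 : Led Lsl_ff (LP (LK LD1_c4 LD2_c24 LD3_c25)) = v12647 :=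
  Lgr Lrot3 (Lpr_ft (f696582 IH) (Lpn v12647))
theorem f696587 : Led Lsl_at (LP (LK LD1_c4 LD2_c24 LD3_c25)) = v12648 :=
  Lgr Lrot66 (Lpr_ff (f696583 IH) (Lpe (f696580 IH) (Lpr_ff (f696586 IH) (Lpn v12648))))
theorem f80836 : Led Lsl_et (LP (LK LD1_c8 LD2_c46 LD3_c32)) = (LP (LK LD1_c4 LD2_c24 LD3_c25)) :=
  Lre_e IH (LK LD1_c8 LD2_c46 LD3_c32) (LK LD1_c4 LD2_c24 LD3_c25) Lrfl Lrfl
theorem f31938 : Led Lsl_af (LP (LK LD1_c8 LD2_c39 LD3_c9)) = (LP (LK LD1_c8 LD2_c38 LD3_c29)) :=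
  Lgr Lrot0 (Lpr_at (K0.f31932 IH) (Lpn (LP (LK LD1_c8 LD2_c38 LD3_c29))))
theorem f34801 : Led Lsl_gt (LP (LK LD1_c4 LD2_c20 LD3_c17)) = (LP (LK LD1_c8 LD2_c38 LD3_c27)) :=
  Lre_g IH (LK LD1_c4 LD2_c20 LD3_c17) (LK LD1_c8 LD2_c38 LD3_c27) Lrfl Lrfl
theorem f445836 : Led Lsl_gf (LP (LK LD1_c8 LD2_c39 LD3_c9)) = (LP (LK LD1_c8 LD2_c38 LD3_c27)) :=
  Lgr Lrot76 (Lpr_af (f31938 IH) (Lpe (K1.f34797 IH) (Lpr_gt (f34801 IH) (Lpn (LP (LK LD1_c8 LD2_c38 LD3_c27))))))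
theorem f35739 : Led Lsl_cf (LP (LK LD1_c6 LD2_c9 LD3_c14)) = (LP (LK LD1_c7 LD2_c56 LD3_c55)) :=
  Lgr Lrot11 (Lpr_ct (K61.f35683 IH) (Lpn (LP (LK LD1_c7 LD2_c56 LD3_c55))))
theorem f35609 : Led Lsl_gt (LP (LK LD1_c8 LD2_c2 LD3_c39)) = (LP (LK LD1_c15 LD2_c8 LD3_c46)) :=
  Lre_g IH (LK LD1_c8 LD2_c2 LD3_c39) (LK LD1_c15 LD2_c8 LD3_c46) Lrfl Lrfl
theorem f445839 : Led Lsl_dt (LP (LK LD1_c15 LD2_c8 LD3_c46)) = (LP (LK LD1_c8 LD2_c38 LD3_c27)) :=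
  Lgr Lrot57 (Lpe (f35609 IH) (Lpe (K37.f35685 IH) (Lpr_gt (K57.f413188 IH) (Lpr_dt (K57.f69514 IH) (Lpe (K57.f413185 IH) (Lpr_dt (K2.f35741 IH) (Lpr_cf (f35739 IH) (Lpe (K1.f36087 IH) (Lpr_gf (f445836 IH) (Lpn (LP (LK LD1_c8 LD2_c38 LD3_c27))))))))))))
theorem f445845 : Led Lsl_et (LP (LK LD1_c15 LD2_c8 LD3_c46)) = (LP (LK LD1_c16 LD2_c32 LD3_c59)) :=
  Lgr Lrot121 (Lpr_dt (f445839 IH) (Lpe (f34801 IH) (Lpe (K1.f34785 IH) (Lpr_et (K1.f34809 IH) (Lpr_gf (K2.f80321 IH) (Lpe (K2.f70163 IH) (Lpr_dt (K37.f70157 IH) (Lpe (K37.f70132 IH) (Lpr_df (K37.f444853 IH) (Lpe (K47.f69535 IH) (Lpn (LP (LK LD1_c16 LD2_c32 LD3_c59)))))))))))))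
theorem f445847 : Led Lsl_ef (LP (LK LD1_c15 LD2_c8 LD3_c46)) = (LP (LK LD1_c16 LD2_c32 LD3_c59)) :=
  Lgr Lrot88 (Lpr_et (f445845 IH) (Lpn (LP (LK LD1_c16 LD2_c32 LD3_c59))))
theorem f763043 : Led Lsl_ct (LP (LK LD1_c15 LD2_c8 LD3_c46)) = (LP (LK LD1_c12 LD2_c22 LD3_c35)) :=
  Lgr Lrot15 (Lpr_ef (f445847 IH) (Lpe (K47.f444891 IH) (Lpr_ef (K57.f763041 IH) (Lpn (LP (LK LD1_c12 LD2_c22 LD3_c35))))))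
theorem f35751 : Led Lsl_dt (LP (LK LD1_c6 LD2_c9 LD3_c12)) = (LP (LK LD1_c11 LD2_c59 LD3_c32)) :=
  Lre_d IH (LK LD1_c6 LD2_c9 LD3_c12) (LK LD1_c11 LD2_c59 LD3_c32) Lrfl Lrfl
theorem f229387 : Led Lsl_gt (LP (LK LD1_c21 LD2_c4 LD3_c22)) = (LP (LK LD1_c16 LD2_c33 LD3_c43)) :=
  Lgr Lrot131 (Lpr_ef (K36.f229375 IH) (Lpe (K12.f229373 IH) (Lpr_gf (K12.f198361 IH) (Lpe (K12.f198006 IH) (Lpe (K12.f38637 IH) (Lpe (K40.f16218 IH) (Lpr_dt (K1.f16214 IH) (Lpe (K37.f16598 IH) (Lpe (K37.f16608 IH) (Lpr_et (K37.f16609 IH) (Lpn (LP (LK LD1_c16 LD2_c33 LD3_c43)))))))))))))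
theorem f198082 : Led Lsl_dt (LP (LK LD1_c11 LD2_c59 LD3_c38)) = (LP (LK LD1_c21 LD2_c4 LD3_c22)) :=
  Lre_d IH (LK LD1_c11 LD2_c59 LD3_c38) (LK LD1_c21 LD2_c4 LD3_c22) Lrfl Lrfl
theorem f35571 : Led Lsl_dt (LP (LK LD1_c26 LD2_c30 LD3_c31)) = (LP (LK LD1_c16 LD2_c33 LD3_c43)) :=
  Lre_d IH (LK LD1_c26 LD2_c30 LD3_c31) (LK LD1_c16 LD2_c33 LD3_c43) Lrfl Lrfl
theorem f35570 : Led Lsl_et (LP (LK LD1_c26 LD2_c30 LD3_c31)) = (LP (LK LD1_c16 LD2_c33 LD3_c44)) :=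
  Lre_e IH (LK LD1_c26 LD2_c30 LD3_c31) (LK LD1_c16 LD2_c33 LD3_c44) Lrfl Lrfl
theorem f229391 : Led Lsl_gf (LP (LK LD1_c11 LD2_c59 LD3_c32)) = (LP (LK LD1_c16 LD2_c33 LD3_c44)) :=
  Lgr Lrot138 (Lpr_dt (K37.f35752 IH) (Lpr_gt (K1.f35694 IH) (Lpe (K37.f35687 IH) (Lpr_et (K37.f38370 IH) (Lpr_gt (K10.f35559 IH) (Lpe (K36.f198085 IH) (Lpr_dt (f198082 IH) (Lpr_gt (f229387 IH) (Lpe (f35571 IH) (Lpr_et (f35570 IH) (Lpn (LP (LK LD1_c16 LD2_c33 LD3_c44)))))))))))))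
theorem f576183 : Led Lsl_gf (LP (LK LD1_c8 LD2_c51 LD3_c32)) = (LP (LK LD1_c9 LD2_c19 LD3_c34)) :=
  Lgr Lrot138 (Lpr_dt (K37.f16611 IH) (Lpe (f229391 IH) (Lpe (f35751 IH) (Lpr_et (K37.f37788 IH) (Lpe (K40.f408180 IH) (Lpe (K4.f99320 IH) (Lpr_dt (K43.f576172 IH) (Lpr_gt (K43.f69503 IH) (Lpe (K43.f56609 IH) (Lpr_et (K40.f56634 IH) (Lpn (LP (LK LD1_c9 LD2_c19 LD3_c34)))))))))))))
theorem f69492 : Led Lsl_dt (LP (LK LD1_c8 LD2_c48 LD3_c37)) = (LP (LK LD1_c9 LD2_c19 LD3_c34)) :=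
  Lgr Lrot42 (Lpr_df (K11.f69489 IH) (Lpn (LP (LK LD1_c9 LD2_c19 LD3_c34))))
theorem f69497 : Led Lsl_gt (LP (LK LD1_c8 LD2_c48 LD3_c38)) = (LP (LK LD1_c16 LD2_c28 LD3_c57)) :=
  Lre_g IH (LK LD1_c8 LD2_c48 LD3_c38) (LK LD1_c16 LD2_c28 LD3_c57) Lrfl Lrfl
theorem f763058 : Led Lsl_cf (LP (LK LD1_c9 LD2_c46 LD3_c61)) = (LP (LK LD1_c16 LD2_c28 LD3_c57)) :=
  Lgr Lrot99 (Lpr_df (K62.f763049 IH) (Lpe (f763043 IH) (Lpe (f35609 IH) (Lpe (K37.f35685 IH) (Lpr_gf (f576183 IH) (Lpe (f69492 IH) (Lpr_gt (K11.f38452 IH) (Lpr_ct (K11.f38302 IH) (Lpr_gt (f69497 IH) (Lpn (LP (LK LD1_c16 LD2_c28 LD3_c57))))))))))))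
theorem f35846 : Led Lsl_dt (LP (LK LD1_c2 LD2_c9 LD3_c54)) = (LP (LK LD1_c4 LD2_c24 LD3_c56)) :=
  Lre_d IH (LK LD1_c2 LD2_c9 LD3_c54) (LK LD1_c4 LD2_c24 LD3_c56) Lrfl Lrfl
theorem f80363 : Led Lsl_gt (LP (LK LD1_c8 LD2_c47 LD3_c23)) = (LP (LK LD1_c4 LD2_c24 LD3_c56)) :=
  Lre_g IH (LK LD1_c8 LD2_c47 LD3_c23) (LK LD1_c4 LD2_c24 LD3_c56) Lrfl Lrfl
theorem f80364 : Led Lsl_dt (LP (LK LD1_c6 LD2_c24 LD3_c49)) = (LP (LK LD1_c8 LD2_c47 LD3_c23)) :=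
  Lgr Lrot136 (Lpr_et (K61.f80362 IH) (Lpe (K46.f80355 IH) (Lpe (K46.f59731 IH) (Lpr_dt (K4.f36318 IH) (Lpr_gf (K4.f80344 IH) (Lpe (K2.f37185 IH) (Lpe (K2.f80340 IH) (Lpe (K2.f35911 IH) (Lpr_dt (f35846 IH) (Lpe (f80363 IH) (Lpn (LP (LK LD1_c8 LD2_c47 LD3_c23)))))))))))))
theorem f80368 : Led Lsl_df (LP (LK LD1_c6 LD2_c24 LD3_c49)) = (LP (LK LD1_c8 LD2_c47 LD3_c23)) :=
  Lgr Lrot38 (Lpr_dt (f80364 IH) (Lpn (LP (LK LD1_c8 LD2_c47 LD3_c23))))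
theorem f763052 : Led Lsl_ft (LP (LK LD1_c9 LD2_c46 LD3_c61)) = (LP (LK LD1_c8 LD2_c47 LD3_c23)) :=
  Lgr Lrot54 (Lpr_df (K62.f763049 IH) (Lpe (K57.f80377 IH) (Lpr_df (f80368 IH) (Lpn (LP (LK LD1_c8 LD2_c47 LD3_c23))))))
theorem f80367 : Led Lsl_ct (LP (LK LD1_c8 LD2_c47 LD3_c23)) = (LP (LK LD1_c16 LD2_c26 LD3_c55)) :=
  Lre_c IH (LK LD1_c8 LD2_c47 LD3_c23) (LK LD1_c16 LD2_c26 LD3_c55) Lrfl Lrfl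
theorem f763063 : Led Lsl_ft (LP (LK LD1_c16 LD2_c26 LD3_c55)) = (LP (LK LD1_c16 LD2_c28 LD3_c57)) :=
  Lgr Lrot4 (Lpe (f80367 IH) (Lpe (f763052 IH) (Lpr_cf (f763058 IH) (Lpn (LP (LK LD1_c16 LD2_c28 LD3_c57))))))
theorem f763068 : Led Lsl_ff (LP (LK LD1_c16 LD2_c26 LD3_c55)) = (LP (LK LD1_c16 LD2_c28 LD3_c57)) :=
  Lgr Lrot3 (Lpr_ft (f763063 IH) (Lpn (LP (LK LD1_c16 LD2_c28 LD3_c57))))
theorem f80380 : Led Lsl_ct (LP (LK LD1_c16 LD2_c26 LD3_c55)) = (LP (LK LD1_c8 LD2_c47 LD3_c23)) :=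
  Lre_c IH (LK LD1_c16 LD2_c26 LD3_c55) (LK LD1_c8 LD2_c47 LD3_c23) Lrfl Lrfl
theorem f763061 : Led Lsl_ct (LP (LK LD1_c9 LD2_c46 LD3_c61)) = (LP (LK LD1_c16 LD2_c28 LD3_c57)) :=
  Lgr Lrot59 (Lpr_cf (f763058 IH) (Lpn (LP (LK LD1_c16 LD2_c28 LD3_c57))))
theorem f763072 : Led Lsl_ft (LP (LK LD1_c8 LD2_c47 LD3_c23)) = (LP (LK LD1_c9 LD2_c46 LD3_c61)) :=
  Lgr Lrot4 (Lpe (f80380 IH) (Lpr_ff (f763068 IH) (Lpe (f763061 IH) (Lpn (LP (LK LD1_c9 LD2_c46 LD3_c61))))))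
theorem f35847 : Led Lsl_gt (LP (LK LD1_c4 LD2_c24 LD3_c56)) = (LP (LK LD1_c8 LD2_c47 LD3_c22)) :=
  Lre_g IH (LK LD1_c4 LD2_c24 LD3_c56) (LK LD1_c8 LD2_c47 LD3_c22) Lrfl Lrfl
theorem f763076 : Led Lsl_af (LP (LK LD1_c8 LD2_c47 LD3_c22)) = (LP (LK LD1_c9 LD2_c46 LD3_c61)) :=
  Lgr Lrot31 (Lpe (f35847 IH) (Lpe (f80363 IH) (Lpr_ft (f763072 IH) (Lpn (LP (LK LD1_c9 LD2_c46 LD3_c61))))))
theorem f272523 : Led Lsl_et (LP (LK LD1_c8 LD2_c47 LD3_c22)) = (LP (LK LD1_c16 LD2_c26 LD3_c53)) :=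
  Lre_e IH (LK LD1_c8 LD2_c47 LD3_c22) (LK LD1_c16 LD2_c26 LD3_c53) Lrfl Lrfl
theorem f763083 : Led Lsl_at (LP (LK LD1_c16 LD2_c26 LD3_c53)) = (LP (LK LD1_c17 LD2_c57 LD3_c8)) :=
  Lgr Lrot80 (Lpe (f272523 IH) (Lpr_af (f763076 IH) (Lpe (K47.f37625 IH) (Lpn (LP (LK LD1_c17 LD2_c57 LD3_c8))))))
theorem f211636 : Led Lsl_gt (LP (LK LD1_c8 LD2_c3 LD3_c42)) = (LP (LK LD1_c15 LD2_c10 LD3_c28)) :=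
  Lre_g IH (LK LD1_c8 LD2_c3 LD3_c42) (LK LD1_c15 LD2_c10 LD3_c28) Lrfl Lrfl
theorem f239975 : Led Lsl_dt (LP (LK LD1_c15 LD2_c10 LD3_c28)) = (LP (LK LD1_c24 LD2_c59 LD3_c47)) :=
  Lre_d IH (LK LD1_c15 LD2_c10 LD3_c28) (LK LD1_c24 LD2_c59 LD3_c47) Lrfl Lrfl
theorem f608031 : Led Lsl_gt (LP (LK LD1_c24 LD2_c59 LD3_c47)) = (LP (LK LD1_c27 LD2_c41 LD3_c47)) :=
  Lgr Lrot139 (Lpe (f239975 IH) (Lpe (f211636 IH) (Lpe (K18.f239974 IH) (Lpr_dt (K13.f33824 IH) (Lpr_gf (K13.f239963 IH) (Lpe (K0.f33740 IH) (Lpr_et (K47.f33757 IH) (Lpe (K47.f34268 IH) (Lpe (K47.f34560 IH) (Lpr_dt (K47.f608026 IH) (Lpn (LP (LK LD1_c27 LD2_c41 LD3_c47)))))))))))))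
theorem f763089 : Led Lsl_ff (LP (LK LD1_c16 LD2_c26 LD3_c53)) = (LP (LK LD1_c24 LD2_c59 LD3_c47)) :=
  Lgr Lrot52 (Lpr_at (f763083 IH) (Lpe (K47.f272647 IH) (Lpe (f608031 IH) (Lpn (LP (LK LD1_c24 LD2_c59 LD3_c47))))))
theorem f763093 : Led Lsl_ft (LP (LK LD1_c16 LD2_c26 LD3_c53)) = (LP (LK LD1_c24 LD2_c59 LD3_c47)) :=
  Lgr Lrot48 (Lpr_ff (f763089 IH) (Lpn (LP (LK LD1_c24 LD2_c59 LD3_c47))))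
theorem f272524 : Led Lsl_gt (LP (LK LD1_c16 LD2_c26 LD3_c53)) = (LP (LK LD1_c26 LD2_c24 LD3_c8)) :=
  Lre_g IH (LK LD1_c16 LD2_c26 LD3_c53) (LK LD1_c26 LD2_c24 LD3_c8) Lrfl Lrfl
theorem f297166 : Led Lsl_gf (LP (LK LD1_c8 LD2_c43 LD3_c33)) = (LP (LK LD1_c9 LD2_c45 LD3_c1)) :=
  Lgr Lrot76 (Lpr_af (K18.f297156 IH) (Lpe (K18.f197284 IH) (Lpr_gt (K62.f182340 IH) (Lpn (LP (LK LD1_c9 LD2_c45 LD3_c1))))))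
theorem f240025 : Led Lsl_et (LP (LK LD1_c8 LD2_c3 LD3_c42)) = (LP (LK LD1_c4 LD2_c1 LD3_c31)) :=
  Lre_e IH (LK LD1_c8 LD2_c3 LD3_c42) (LK LD1_c4 LD2_c1 LD3_c31) Lrfl Lrfl
theorem f239997 : Led Lsl_ft (LP (LK LD1_c15 LD2_c10 LD3_c31)) = (LP (LK LD1_c8 LD2_c3 LD3_c42)) :=
  Lre_f IH (LK LD1_c15 LD2_c10 LD3_c31) (LK LD1_c8 LD2_c3 LD3_c42) Lrfl Lrfl
theorem f33751 : Led Lsl_et (LP (LK LD1_c4 LD2_c2 LD3_c13)) = (LP (LK LD1_c8 LD2_c4 LD3_c57)) :=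
  Lre_e IH (LK LD1_c4 LD2_c2 LD3_c13) (LK LD1_c8 LD2_c4 LD3_c57) Lrfl Lrfl
theorem f287363 : Led Lsl_ef (LP (LK LD1_c15 LD2_c10 LD3_c31)) = (LP (LK LD1_c15 LD2_c13 LD3_c7)) :=
  Lgr Lrot21 (Lpr_ft (f239997 IH) (Lpr_et (f240025 IH) (Lpr_ft (K17.f287357 IH) (Lpr_et (f33751 IH) (Lpr_ft (K18.f225039 IH) (Lpn (LP (LK LD1_c15 LD2_c13 LD3_c7))))))))
theorem f287320 : Led Lsl_at (LP (LK LD1_c8 LD2_c3 LD3_c42)) = (LP (LK LD1_c8 LD2_c4 LD3_c58)) :=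
  Lgr Lrot80 (Lpe (K18.f239974 IH) (Lpr_af (K17.f287313 IH) (Lpe (K18.f193878 IH) (Lpn (LP (LK LD1_c8 LD2_c4 LD3_c58))))))
theorem f193883 : Led Lsl_gt (LP (LK LD1_c15 LD2_c13 LD3_c9)) = (LP (LK LD1_c8 LD2_c4 LD3_c58)) :=
  Lre_g IH (LK LD1_c15 LD2_c13 LD3_c9) (LK LD1_c8 LD2_c4 LD3_c58) Lrfl Lrfl
theorem f408541 : Led Lsl_gt (LP (LK LD1_c15 LD2_c10 LD3_c31)) = (LP (LK LD1_c15 LD2_c13 LD3_c9)) :=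
  Lgr Lrot5 (Lpr_ft (f239997 IH) (Lpr_at (f287320 IH) (Lpe (f193883 IH) (Lpn (LP (LK LD1_c15 LD2_c13 LD3_c9))))))
theorem f37567 : Led Lsl_et (LP (LK LD1_c2 LD2_c9 LD3_c57)) = (LP (LK LD1_c4 LD2_c24 LD3_c56)) :=
  Lre_e IH (LK LD1_c2 LD2_c9 LD3_c57) (LK LD1_c4 LD2_c24 LD3_c56) Lrfl Lrfl
theorem f272514 : Led Lsl_et (LP (LK LD1_c16 LD2_c26 LD3_c53)) = (LP (LK LD1_c8 LD2_c47 LD3_c22)) :=
  Lre_e IH (LK LD1_c16 LD2_c26 LD3_c53) (LK LD1_c8 LD2_c47 LD3_c22) Lrfl Lrfl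
theorem f272515 : Led Lsl_dt (LP (LK LD1_c16 LD2_c26 LD3_c53)) = (LP (LK LD1_c15 LD2_c13 LD3_c9)) :=
  Lgr Lrot136 (Lpr_et (f272514 IH) (Lpe (f35847 IH) (Lpe (f37567 IH) (Lpr_dt (K1.f35457 IH) (Lpe (K18.f35474 IH) (Lpe (K18.f272415 IH) (Lpr_gf (K18.f272437 IH) (Lpe (K38.f81217 IH) (Lpr_dt (K38.f81218 IH) (Lpe (f193883 IH) (Lpn (LP (LK LD1_c15 LD2_c13 LD3_c9)))))))))))))
theorem f272521 : Led Lsl_df (LP (LK LD1_c16 LD2_c26 LD3_c53)) = (LP (LK LD1_c15 LD2_c13 LD3_c9)) :=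
  Lgr Lrot38 (Lpr_dt (f272515 IH) (Lpn (LP (LK LD1_c15 LD2_c13 LD3_c9))))
theorem f610136 : Led Lsl_df (LP (LK LD1_c26 LD2_c24 LD3_c8)) = (LP (LK LD1_c23 LD2_c17 LD3_c56)) :=
  Lgr Lrot132 (Lpe (f272524 IH) (Lpr_df (f272521 IH) (Lpe (f408541 IH) (Lpr_ef (f287363 IH) (Lpr_dt (K18.f225041 IH) (Lpr_gf (f297166 IH) (Lpe (K62.f197352 IH) (Lpr_et (K62.f610129 IH) (Lpe (K47.f610119 IH) (Lpe (K47.f517503 IH) (Lpn (LP (LK LD1_c23 LD2_c17 LD3_c56)))))))))))))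
theorem f610140 : Led Lsl_dt (LP (LK LD1_c26 LD2_c24 LD3_c8)) = (LP (LK LD1_c23 LD2_c17 LD3_c56)) :=
  Lgr Lrot42 (Lpr_df (f610136 IH) (Lpn (LP (LK LD1_c23 LD2_c17 LD3_c56))))
theorem f610146 : Led Lsl_af (LP (LK LD1_c26 LD2_c24 LD3_c8)) = (LP (LK LD1_c23 LD2_c18 LD3_c4)) :=
  Lgr Lrot117 (Lpr_dt (f610140 IH) (Lpr_at (K47.f517290 IH) (Lpr_dt (K62.f608804 IH) (Lpn (LP (LK LD1_c23 LD2_c18 LD3_c4))))))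
theorem f272518 : Led Lsl_gt (LP (LK LD1_c26 LD2_c24 LD3_c9)) = (LP (LK LD1_c16 LD2_c26 LD3_c53)) :=
  Lre_g IH (LK LD1_c26 LD2_c24 LD3_c9) (LK LD1_c16 LD2_c26 LD3_c53) Lrfl Lrfl
theorem f610148 : Led Lsl_ft (LP (LK LD1_c26 LD2_c24 LD3_c9)) = (LP (LK LD1_c23 LD2_c18 LD3_c4)) :=
  Lgr Lrot2 (Lpr_gt (f272518 IH) (Lpr_gt (f272524 IH) (Lpr_af (f610146 IH) (Lpn (LP (LK LD1_c23 LD2_c18 LD3_c4))))))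
theorem f608767 : Led Lsl_dt (LP (LK LD1_c23 LD2_c18 LD3_c4)) = (LP (LK LD1_c13 LD2_c49 LD3_c8)) :=
  Lre_d IH (LK LD1_c23 LD2_c18 LD3_c4) (LK LD1_c13 LD2_c49 LD3_c8) Lrfl Lrfl
theorem f610154 : Led Lsl_df (LP (LK LD1_c26 LD2_c24 LD3_c9)) = (LP (LK LD1_c23 LD2_c18 LD3_c5)) :=
  Lgr Lrot78 (Lpr_ft (f610148 IH) (Lpr_dt (f608767 IH) (Lpr_ft (K47.f517496 IH) (Lpn (LP (LK LD1_c23 LD2_c18 LD3_c5))))))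
theorem f33727 : Led Lsl_gt (LP (LK LD1_c8 LD2_c4 LD3_c58)) = (LP (LK LD1_c15 LD2_c13 LD3_c8)) :=
  Lre_g IH (LK LD1_c8 LD2_c4 LD3_c58) (LK LD1_c15 LD2_c13 LD3_c8) Lrfl Lrfl
theorem f33728 : Led Lsl_dt (LP (LK LD1_c15 LD2_c13 LD3_c8)) = (LP (LK LD1_c25 LD2_c2 LD3_c5)) :=
  Lre_d IH (LK LD1_c15 LD2_c13 LD3_c8) (LK LD1_c25 LD2_c2 LD3_c5) Lrfl Lrfl
theorem f610167 : Led Lsl_gf (LP (LK LD1_c26 LD2_c24 LD3_c9)) = (LP (LK LD1_c25 LD2_c2 LD3_c5)) :=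
  Lgr Lrot134 (Lpr_df (f610154 IH) (Lpe (K47.f609990 IH) (Lpr_gt (K47.f33730 IH) (Lpe (K47.f33729 IH) (Lpr_dt (K0.f33723 IH) (Lpe (K10.f33720 IH) (Lpe (K13.f33725 IH) (Lpr_et (K38.f33726 IH) (Lpr_gt (f33727 IH) (Lpr_dt (f33728 IH) (Lpn (LP (LK LD1_c25 LD2_c2 LD3_c5)))))))))))))
theorem f608028 : Led Lsl_df (LP (LK LD1_c25 LD2_c3 LD3_c12)) = (LP (LK LD1_c27 LD2_c41 LD3_c47)) :=
  Lgr Lrot38 (Lpr_dt (K47.f608026 IH) (Lpn (LP (LK LD1_c27 LD2_c41 LD3_c47))))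
theorem f610142 : Led Lsl_ft (LP (LK LD1_c26 LD2_c24 LD3_c8)) = (LP (LK LD1_c27 LD2_c41 LD3_c47)) :=
  Lgr Lrot54 (Lpr_df (f610136 IH) (Lpr_ff (K47.f608802 IH) (Lpr_df (f608028 IH) (Lpn (LP (LK LD1_c27 LD2_c41 LD3_c47))))))
theorem f610150 : Led Lsl_af (LP (LK LD1_c26 LD2_c24 LD3_c9)) = (LP (LK LD1_c27 LD2_c41 LD3_c47)) :=
  Lgr Lrot45 (Lpr_ft (f610148 IH) (Lpe (f610146 IH) (Lpr_ft (f610142 IH) (Lpn (LP (LK LD1_c27 LD2_c41 LD3_c47))))))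
theorem f610170 : Led Lsl_gt (LP (LK LD1_c26 LD2_c24 LD3_c8)) = (LP (LK LD1_c25 LD2_c2 LD3_c5)) :=
  Lgr Lrot5 (Lpr_ft (f610142 IH) (Lpe (f610150 IH) (Lpr_gf (f610167 IH) (Lpn (LP (LK LD1_c25 LD2_c2 LD3_c5))))))
theorem f763097 : Led Lsl_af (LP (LK LD1_c25 LD2_c2 LD3_c5)) = (LP (LK LD1_c24 LD2_c59 LD3_c47)) :=
  Lgr Lrot31 (Lpe (f610170 IH) (Lpe (f272524 IH) (Lpr_ft (f763093 IH) (Lpn (LP (LK LD1_c24 LD2_c59 LD3_c47))))))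
theorem f763085 : Led Lsl_af (LP (LK LD1_c16 LD2_c26 LD3_c53)) = (LP (LK LD1_c17 LD2_c57 LD3_c8)) :=
  Lgr Lrot0 (Lpr_at (f763083 IH) (Lpn (LP (LK LD1_c17 LD2_c57 LD3_c8))))
theorem f763103 : Led Lsl_ft (LP (LK LD1_c25 LD2_c2 LD3_c5)) = (LP (LK LD1_c17 LD2_c57 LD3_c8)) :=
  Lgr Lrot101 (Lpr_af (f763097 IH) (Lpe (f763093 IH) (Lpr_af (f763085 IH) (Lpn (LP (LK LD1_c17 LD2_c57 LD3_c8))))))
theorem f763105 : Led Lsl_ff (LP (LK LD1_c15 LD2_c13 LD3_c8)) = (LP (LK LD1_c15 LD2_c10 LD3_c29)) :=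
  Lgr Lrot19 (Lpr_dt (f33728 IH) (Lpr_ft (f763103 IH) (Lpr_dt (K47.f272645 IH) (Lpn (LP (LK LD1_c15 LD2_c10 LD3_c29))))))
theorem f81219 : Led Lsl_dt (LP (LK LD1_c25 LD2_c2 LD3_c5)) = (LP (LK LD1_c15 LD2_c13 LD3_c8)) :=
  Lre_d IH (LK LD1_c25 LD2_c2 LD3_c5) (LK LD1_c15 LD2_c13 LD3_c8) Lrfl Lrfl
theorem f763101 : Led Lsl_at (LP (LK LD1_c15 LD2_c13 LD3_c8)) = (LP (LK LD1_c15 LD2_c10 LD3_c28)) :=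
  Lgr Lrot51 (Lpe (f81219 IH) (Lpr_af (f763097 IH) (Lpe (f239975 IH) (Lpn (LP (LK LD1_c15 LD2_c10 LD3_c28))))))
theorem f211637 : Led Lsl_dt (LP (LK LD1_c24 LD2_c59 LD3_c47)) = (LP (LK LD1_c15 LD2_c10 LD3_c28)) :=
  Lre_d IH (LK LD1_c24 LD2_c59 LD3_c47) (LK LD1_c15 LD2_c10 LD3_c28) Lrfl Lrfl
theorem f763095 : Led Lsl_ff (LP (LK LD1_c15 LD2_c13 LD3_c9)) = (LP (LK LD1_c15 LD2_c10 LD3_c28)) :=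
  Lgr Lrot19 (Lpe (f272521 IH) (Lpr_ft (f763093 IH) (Lpr_dt (f211637 IH) (Lpn (LP (LK LD1_c15 LD2_c10 LD3_c28))))))
theorem f763126 : Led Lsl_at (LP (LK LD1_c15 LD2_c13 LD3_c9)) = (LP (LK LD1_c15 LD2_c10 LD3_c29)) :=
  Lgr Lrot66 (Lpr_ff (f763095 IH) (Lpe (f763101 IH) (Lpr_ff (f763105 IH) (Lpn (LP (LK LD1_c15 LD2_c10 LD3_c29))))))
theorem f763128 : Led Lsl_ef (LP (LK LD1_c15 LD2_c13 LD3_c9)) = (LP (LK LD1_c21 LD2_c29 LD3_c31)) :=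
  Lgr Lrot20 (Lpr_at (f763126 IH) (Lpe (K47.f608024 IH) (Lpr_at (K47.f607216 IH) (Lpn (LP (LK LD1_c21 LD2_c29 LD3_c31))))))
theorem f35858 : Led Lsl_et (LP (LK LD1_c15 LD2_c6 LD3_c28)) = (LP (LK LD1_c8 LD2_c1 LD3_c22)) :=
  Lre_e IH (LK LD1_c15 LD2_c6 LD3_c28) (LK LD1_c8 LD2_c1 LD3_c22) Lrfl Lrfl
theorem f35845 : Led Lsl_et (LP (LK LD1_c4 LD2_c0 LD3_c11)) = (LP (LK LD1_c8 LD2_c1 LD3_c23)) :=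
  Lre_e IH (LK LD1_c4 LD2_c0 LD3_c11) (LK LD1_c8 LD2_c1 LD3_c23) Lrfl Lrfl
theorem f81462 : Led Lsl_et (LP (LK LD1_c8 LD2_c5 LD3_c22)) = (LP (LK LD1_c15 LD2_c14 LD3_c3)) :=
  Lre_e IH (LK LD1_c8 LD2_c5 LD3_c22) (LK LD1_c15 LD2_c14 LD3_c3) Lrfl Lrfl
theorem f81463 : Led Lsl_df (LP (LK LD1_c15 LD2_c6 LD3_c28)) = (LP (LK LD1_c15 LD2_c14 LD3_c3)) :=
  Lgr Lrot70 (Lpr_et (f35858 IH) (Lpr_dt (K46.f30124 IH) (Lpr_et (f35845 IH) (Lpr_dt (K40.f81454 IH) (Lpr_et (f81462 IH) (Lpn (LP (LK LD1_c15 LD2_c14 LD3_c3))))))))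
theorem f81466 : Led Lsl_dt (LP (LK LD1_c15 LD2_c6 LD3_c28)) = (LP (LK LD1_c15 LD2_c14 LD3_c3)) :=
  Lgr Lrot42 (Lpr_df (f81463 IH) (Lpn (LP (LK LD1_c15 LD2_c14 LD3_c3))))
theorem f182341 : Led Lsl_dt (LP (LK LD1_c9 LD2_c45 LD3_c1)) = (LP (LK LD1_c17 LD2_c54 LD3_c33)) :=
  Lre_d IH (LK LD1_c9 LD2_c45 LD3_c1) (LK LD1_c17 LD2_c54 LD3_c33) Lrfl Lrfl
theorem f610662 : Led Lsl_gt (LP (LK LD1_c15 LD2_c14 LD3_c3)) = (LP (LK LD1_c17 LD2_c54 LD3_c33)) :=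
  Lgr Lrot112 (Lpe (f81466 IH) (Lpr_et (f35858 IH) (Lpe (K61.f30125 IH) (Lpe (K61.f610638 IH) (Lpe (K61.f558925 IH) (Lpr_gf (K61.f610635 IH) (Lpe (K47.f609240 IH) (Lpr_gf (K47.f610660 IH) (Lpe (K62.f610173 IH) (Lpr_dt (f182341 IH) (Lpn (LP (LK LD1_c17 LD2_c54 LD3_c33)))))))))))))
theorem f763132 : Led Lsl_gf (LP (LK LD1_c8 LD2_c1 LD3_c23)) = (LP (LK LD1_c12 LD2_c22 LD3_c43)) :=
  Lgr Lrot145 (Lpr_df (K40.f81460 IH) (Lpr_et (f81462 IH) (Lpr_gt (f610662 IH) (Lpr_dt (K62.f197352 IH) (Lpe (f297166 IH) (Lpe (K18.f225041 IH) (Lpe (f287363 IH) (Lpr_gt (f408541 IH) (Lpr_ef (f763128 IH) (Lpr_dt (K47.f81276 IH) (Lpn (LP (LK LD1_c12 LD2_c22 LD3_c43)))))))))))))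
theorem f552939 : Led Lsl_et (LP (LK LD1_c13 LD2_c30 LD3_c51)) = (LP (LK LD1_c12 LD2_c8 LD3_c6)) :=
  Lgr Lrot71 (Lpe (K47.f108040 IH) (Lpr_ef (K39.f552932 IH) (Lpe (K47.f38144 IH) (Lpe (K39.f38088 IH) (Lpe (K39.f38090 IH) (Lpn (LP (LK LD1_c12 LD2_c8 LD3_c6))))))))
theorem f552970 : Led Lsl_gf (LP (LK LD1_c12 LD2_c7 LD3_c7)) = (LP (LK LD1_c12 LD2_c8 LD3_c6)) :=
  Lgr Lrot138 (Lpr_dt (K37.f69594 IH) (Lpr_gt (K37.f69568 IH) (Lpe (K37.f38092 IH) (Lpr_et (K37.f38093 IH) (Lpr_gt (K10.f60503 IH) (Lpe (K38.f546952 IH) (Lpr_dt (K38.f108070 IH) (Lpr_gt (K39.f108039 IH) (Lpe (K47.f475843 IH) (Lpr_et (f552939 IH) (Lpn (LP (LK LD1_c12 LD2_c8 LD3_c6)))))))))))))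
theorem f606944 : Led Lsl_cf (LP (LK LD1_c6 LD2_c14 LD3_c13)) = (LP (LK LD1_c5 LD2_c46 LD3_c33)) :=
  Lgr Lrot108 (Lpr_ft (K46.f606940 IH) (Lpr_ct (K46.f445001 IH) (Lpe (K43.f576210 IH) (Lpn (LP (LK LD1_c5 LD2_c46 LD3_c33))))))
theorem f576217 : Led Lsl_af (LP (LK LD1_c5 LD2_c46 LD3_c33)) = (LP (LK LD1_c6 LD2_c14 LD3_c23)) :=
  Lgr Lrot0 (Lpr_at (K43.f576215 IH) (Lpn (LP (LK LD1_c6 LD2_c14 LD3_c23))))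
theorem f606962 : Led Lsl_cf (LP (LK LD1_c6 LD2_c14 LD3_c23)) = (LP (LK LD1_c8 LD2_c45 LD3_c36)) :=
  Lgr Lrot1 (Lpe (f576217 IH) (Lpe (f606944 IH) (Lpr_at (K46.f606958 IH) (Lpn (LP (LK LD1_c8 LD2_c45 LD3_c36))))))
theorem f142262 : Led Lsl_gt (LP (LK LD1_c8 LD2_c1 LD3_c14)) = (LP (LK LD1_c15 LD2_c6 LD3_c6)) :=
  Lre_g IH (LK LD1_c8 LD2_c1 LD3_c14) (LK LD1_c15 LD2_c6 LD3_c6) Lrfl Lrfl
theorem f554014 : Led Lsl_ef (LP (LK LD1_c15 LD2_c6 LD3_c6)) = (LP (LK LD1_c8 LD2_c46 LD3_c31)) :=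
  Lgr Lrot17 (Lpe (f142262 IH) (Lpe (K35.f80878 IH) (Lpr_dt (K8.f80877 IH) (Lpe (K6.f3031 IH) (Lpe (K61.f3033 IH) (Lpr_gf (K39.f554006 IH) (Lpe (K37.f205596 IH) (Lpr_dt (K39.f70724 IH) (Lpe (K37.f75768 IH) (Lpe (K61.f75772 IH) (Lpn (LP (LK LD1_c8 LD2_c46 LD3_c31)))))))))))))
theorem f142263 : Led Lsl_dt (LP (LK LD1_c15 LD2_c6 LD3_c6)) = (LP (LK LD1_c24 LD2_c54 LD3_c11)) :=
  Lre_d IH (LK LD1_c15 LD2_c6 LD3_c6) (LK LD1_c24 LD2_c54 LD3_c11) Lrfl Lrfl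
theorem f80840 : Led Lsl_dt (LP (LK LD1_c16 LD2_c25 LD3_c6)) = (LP (LK LD1_c8 LD2_c46 LD3_c32)) :=
  Lre_d IH (LK LD1_c16 LD2_c25 LD3_c6) (LK LD1_c8 LD2_c46 LD3_c32) Lrfl Lrfl
theorem f554017 : Led Lsl_et (LP (LK LD1_c24 LD2_c54 LD3_c11)) = (LP (LK LD1_c16 LD2_c25 LD3_c6)) :=
  Lgr Lrot71 (Lpe (f142263 IH) (Lpr_ef (f554014 IH) (Lpe (K61.f75769 IH) (Lpe (f80836 IH) (Lpe (f80840 IH) (Lpn (LP (LK LD1_c16 LD2_c25 LD3_c6))))))))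
theorem f538640 : Led Lsl_dt (LP (LK LD1_c24 LD2_c54 LD3_c11)) = (LP (LK LD1_c15 LD2_c6 LD3_c6)) :=
  Lre_d IH (LK LD1_c24 LD2_c54 LD3_c11) (LK LD1_c15 LD2_c6 LD3_c6) Lrfl Lrfl
theorem f554032 : Led Lsl_gf (LP (LK LD1_c16 LD2_c23 LD3_c48)) = (LP (LK LD1_c16 LD2_c25 LD3_c6)) :=
  Lgr Lrot138 (Lpr_dt (K46.f81162 IH) (Lpr_gt (K46.f81151 IH) (Lpr_df (K10.f81156 IH) (Lpr_et (K48.f34473 IH) (Lpr_gt (K10.f33761 IH) (Lpe (K16.f81173 IH) (Lpr_dt (K35.f538631 IH) (Lpr_gt (f142262 IH) (Lpe (f538640 IH) (Lpr_et (f554017 IH) (Lpn (LP (LK LD1_c16 LD2_c25 LD3_c6)))))))))))))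
theorem f80837 : Led Lsl_dt (LP (LK LD1_c8 LD2_c46 LD3_c32)) = (LP (LK LD1_c16 LD2_c25 LD3_c6)) :=
  Lre_d IH (LK LD1_c8 LD2_c46 LD3_c32) (LK LD1_c16 LD2_c25 LD3_c6) Lrfl Lrfl
theorem f607945 : Led Lsl_gt (LP (LK LD1_c8 LD2_c1 LD3_c23)) = (LP (LK LD1_c8 LD2_c46 LD3_c32)) :=
  Lgr Lrot94 (Lpe (K40.f445176 IH) (Lpr_gt (K47.f607941 IH) (Lpr_dt (K47.f38087 IH) (Lpe (f552970 IH) (Lpr_dt (K37.f69594 IH) (Lpr_cf (f606962 IH) (Lpe (K46.f81162 IH) (Lpr_gf (f554032 IH) (Lpe (f80837 IH) (Lpn (LP (LK LD1_c8 LD2_c46 LD3_c32))))))))))))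
theorem f763136 : (LP (LK LD1_c8 LD2_c46 LD3_c32)) = K57.v17970 :=
  (Llr Lrot46 (Lpe (f607945 IH) (Lpr_gf (f763132 IH) (Lpr_ft (K57.f81281 IH) (Lpr_at (K57.f763036 IH) (Lpn K57.v17970)))))).symm
theorem f763141 : K57.v5558 = (LP (LK LD1_c4 LD2_c24 LD3_c25)) :=
  Lefun (Lecon (Lfl_ef (K57.f763038 IH)) (f763136 IH).symm) (f80836 IH)
theorem f763142 : (LP (LK LD1_c3 LD2_c10 LD3_c1)) = v12648 :=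
  Lefun (Lecon (Lfl_af (K57.f648257 IH)) (f763141 IH)) (f696587 IH)
theorem f763165 : (LP (LK LD1_c4 LD2_c24 LD3_c24)) = K57.v5557 :=
  Lefun (Lecon (Lfl_ff (f696586 IH)) (f763142 IH).symm) (K57.f648254 IH)
theorem f763183 : v17965 = (LP (LK LD1_c8 LD2_c46 LD3_c29)) :=
  Lefun (Lecon (f763021 IH) (f763165 IH).symm) (K50.f70252 IH)
theorem f763019 : Led Lsl_af (LP (LK LD1_c6 LD2_c24 LD3_c49)) = v17965 :=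
  Lgr Lrot0 (Lpr_at (f763018 IH) (Lpn v17965))
theorem f80378 : Led Lsl_gt (LP (LK LD1_c12 LD2_c22 LD3_c34)) = (LP (LK LD1_c6 LD2_c24 LD3_c49)) :=
  Lre_g IH (LK LD1_c12 LD2_c22 LD3_c34) (LK LD1_c6 LD2_c24 LD3_c49) Lrfl Lrfl
theorem f763191 : Led Lsl_gt (LP (LK LD1_c16 LD2_c25 LD3_c2)) = (LP (LK LD1_c12 LD2_c22 LD3_c34)) :=
  Lgr Lrot5 (Lpr_ft (f70269 IH) (Lpq (f763183 IH) (Lpe (f763019 IH) (Lpe (f80378 IH) (Lpn (LP (LK LD1_c12 LD2_c22 LD3_c34)))))))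
theorem f697487 : Led Lsl_at (LP (LK LD1_c8 LD2_c51 LD3_c20)) = (LP (LK LD1_c12 LD2_c5 LD3_c59)) :=
  Lgr Lrot100 (Lpr_af (K61.f697485 IH) (Lpn (LP (LK LD1_c12 LD2_c5 LD3_c59))))
theorem f697535 : Led Lsl_ff (LP (LK LD1_c8 LD2_c51 LD3_c20)) = (LP (LK LD1_c12 LD2_c22 LD3_c34)) :=
  Lgr Lrot52 (Lpr_at (f697487 IH) (Lpe (K61.f607060 IH) (Lpe (f80378 IH) (Lpn (LP (LK LD1_c12 LD2_c22 LD3_c34))))))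
theorem f697537 : Led Lsl_at (LP (LK LD1_c16 LD2_c25 LD3_c1)) = (LP (LK LD1_c12 LD2_c22 LD3_c34)) :=
  Lgr Lrot66 (Lpr_ff (K61.f696863 IH) (Lpe (f697487 IH) (Lpr_ff (f697535 IH) (Lpn (LP (LK LD1_c12 LD2_c22 LD3_c34))))))
theorem f763193 : Led Lsl_gf (LP (LK LD1_c16 LD2_c25 LD3_c2)) = (LP (LK LD1_c12 LD2_c5 LD3_c59)) :=
  Lgr Lrot47 (Lpr_gt (f763191 IH) (Lpe (f697537 IH) (Lpr_ff (K61.f696863 IH) (Lpn (LP (LK LD1_c12 LD2_c5 LD3_c59))))))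
theorem f763189 : Led Lsl_ef (LP (LK LD1_c16 LD2_c25 LD3_c2)) = (LP (LK LD1_c12 LD2_c22 LD3_c43)) :=
  Lgr Lrot21 (Lpr_ft (f70269 IH) (Lpr_et (K6.f70238 IH) (Lpr_ft (f696584 IH) (Lpq (f763142 IH) (Lpr_et (K47.f81317 IH) (Lpr_ft (K47.f81265 IH) (Lpn (LP (LK LD1_c12 LD2_c22 LD3_c43)))))))))
theorem f81280 : Led Lsl_dt (LP (LK LD1_c12 LD2_c22 LD3_c43)) = (LP (LK LD1_c21 LD2_c29 LD3_c31)) :=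
  Lre_d IH (LK LD1_c12 LD2_c22 LD3_c43) (LK LD1_c21 LD2_c29 LD3_c31) Lrfl Lrfl
theorem f763380 : Led Lsl_gt (LP (LK LD1_c21 LD2_c29 LD3_c31)) = (LP (LK LD1_c16 LD2_c23 LD3_c47)) :=
  Lgr Lrot112 (Lpe (f81280 IH) (Lpe (f763189 IH) (Lpr_gf (f763193 IH) (Lpe (K37.f37349 IH) (Lpr_dt (K40.f36823 IH) (Lpe (K37.f443136 IH) (Lpr_df (K37.f443127 IH) (Lpe (K37.f445137 IH) (Lpe (K57.f445003 IH) (Lpr_dt (K47.f80835 IH) (Lpn (LP (LK LD1_c16 LD2_c23 LD3_c47)))))))))))))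
theorem f81277 : Led Lsl_ft (LP (LK LD1_c21 LD2_c29 LD3_c31)) = (LP (LK LD1_c12 LD2_c22 LD3_c42)) :=
  Lre_f IH (LK LD1_c21 LD2_c29 LD3_c31) (LK LD1_c12 LD2_c22 LD3_c42) Lrfl Lrfl
theorem f80838 : Led Lsl_gt (LP (LK LD1_c16 LD2_c23 LD3_c47)) = (LP (LK LD1_c16 LD2_c25 LD3_c6)) :=
  Lgr Lrot139 (Lpe (K47.f80835 IH) (Lpe (K46.f80834 IH) (Lpe (K10.f80833 IH) (Lpr_dt (K2.f59663 IH) (Lpr_gf (K11.f80830 IH) (Lpe (K4.f59621 IH) (Lpr_et (K6.f70236 IH) (Lpe (K37.f75768 IH) (Lpe (f80836 IH) (Lpr_dt (f80837 IH) (Lpn (LP (LK LD1_c16 LD2_c25 LD3_c6)))))))))))))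
theorem f763382 : Led Lsl_at (LP (LK LD1_c12 LD2_c22 LD3_c42)) = (LP (LK LD1_c16 LD2_c25 LD3_c6)) :=
  Lgr Lrot26 (Lpe (f81277 IH) (Lpr_gt (f763380 IH) (Lpr_gt (f80838 IH) (Lpn (LP (LK LD1_c16 LD2_c25 LD3_c6))))))
theorem f59773 : Led Lsl_et (LP (LK LD1_c21 LD2_c29 LD3_c29)) = (LP (LK LD1_c12 LD2_c22 LD3_c42)) :=
  Lre_e IH (LK LD1_c21 LD2_c29 LD3_c29) (LK LD1_c12 LD2_c22 LD3_c42) Lrfl Lrfl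
theorem f554019 : Led Lsl_et (LP (LK LD1_c15 LD2_c6 LD3_c6)) = (LP (LK LD1_c8 LD2_c46 LD3_c31)) :=
  Lgr Lrot87 (Lpr_ef (f554014 IH) (Lpn (LP (LK LD1_c8 LD2_c46 LD3_c31))))
theorem f544282 : Led Lsl_et (LP (LK LD1_c4 LD2_c24 LD3_c25)) = (LP (LK LD1_c8 LD2_c46 LD3_c32)) :=
  Lre_e IH (LK LD1_c4 LD2_c24 LD3_c25) (LK LD1_c8 LD2_c46 LD3_c32) Lrfl Lrfl
theorem f554022 : Led Lsl_ef (LP (LK LD1_c24 LD2_c54 LD3_c11)) = (LP (LK LD1_c16 LD2_c25 LD3_c6)) :=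
  Lgr Lrot73 (Lpr_dt (f538640 IH) (Lpr_et (f554019 IH) (Lpr_dt (K61.f75772 IH) (Lpr_et (f544282 IH) (Lpr_dt (f80837 IH) (Lpn (LP (LK LD1_c16 LD2_c25 LD3_c6))))))))
theorem f763388 : Led Lsl_af (LP (LK LD1_c21 LD2_c29 LD3_c29)) = (LP (LK LD1_c24 LD2_c54 LD3_c11)) :=
  Lgr Lrot50 (Lpr_et (f59773 IH) (Lpr_at (f763382 IH) (Lpe (f554022 IH) (Lpn (LP (LK LD1_c24 LD2_c54 LD3_c11))))))
theorem f59774 : Led Lsl_dt (LP (LK LD1_c21 LD2_c29 LD3_c29)) = (LP (LK LD1_c12 LD2_c22 LD3_c40)) :=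
  Lre_d IH (LK LD1_c21 LD2_c29 LD3_c29) (LK LD1_c12 LD2_c22 LD3_c40) Lrfl Lrfl
theorem f763404 : Led Lsl_at (LP (LK LD1_c12 LD2_c22 LD3_c40)) = (LP (LK LD1_c15 LD2_c6 LD3_c6)) :=
  Lgr Lrot51 (Lpe (f59774 IH) (Lpr_af (f763388 IH) (Lpe (f142263 IH) (Lpn (LP (LK LD1_c15 LD2_c6 LD3_c6))))))
theorem f541969 : Led Lsl_et (LP (LK LD1_c23 LD2_c29 LD3_c48)) = (LP (LK LD1_c13 LD2_c57 LD3_c60)) :=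
  Lre_e IH (LK LD1_c23 LD2_c29 LD3_c48) (LK LD1_c13 LD2_c57 LD3_c60) Lrfl Lrfl
theorem f608178 : Led Lsl_et (LP (LK LD1_c16 LD2_c31 LD3_c56)) = (LP (LK LD1_c14 LD2_c5 LD3_c11)) :=
  Lgr Lrot69 (Lpr_ff (K47.f576592 IH) (Lpe (f541969 IH) (Lpr_ff (K36.f541960 IH) (Lpe (K43.f576566 IH) (Lpe (K37.f209138 IH) (Lpn (LP (LK LD1_c14 LD2_c5 LD3_c11))))))))
theorem f608381 : Led Lsl_ef (LP (LK LD1_c8 LD2_c50 LD3_c42)) = (LP (LK LD1_c7 LD2_c27 LD3_c44)) :=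
  Lgr Lrot73 (Lpr_dt (K43.f101874 IH) (Lpr_et (f608178 IH) (Lpr_dt (K37.f209128 IH) (Lpr_et (K28.f208947 IH) (Lpr_dt (K46.f208945 IH) (Lpn (LP (LK LD1_c7 LD2_c27 LD3_c44))))))))
theorem f608385 : Led Lsl_et (LP (LK LD1_c8 LD2_c50 LD3_c42)) = (LP (LK LD1_c7 LD2_c27 LD3_c44)) :=
  Lgr Lrot87 (Lpr_ef (f608381 IH) (Lpn (LP (LK LD1_c7 LD2_c27 LD3_c44))))
theorem f608399 : Led Lsl_et (LP (LK LD1_c12 LD2_c22 LD3_c39)) = (LP (LK LD1_c14 LD2_c1 LD3_c57)) :=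
  Lgr Lrot122 (Lpr_dt (K47.f81316 IH) (Lpr_gt (K46.f607076 IH) (Lpe (K43.f101874 IH) (Lpr_et (f608385 IH) (Lpr_gt (K46.f554241 IH) (Lpe (K39.f554226 IH) (Lpr_gt (K28.f108092 IH) (Lpe (K8.f108090 IH) (Lpr_et (K28.f159417 IH) (Lpr_gt (K39.f554247 IH) (Lpn (LP (LK LD1_c14 LD2_c1 LD3_c57)))))))))))))
theorem f607771 : Led Lsl_et (LP (LK LD1_c12 LD2_c22 LD3_c40)) = (LP (LK LD1_c6 LD2_c24 LD3_c51)) :=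
  Lre_e IH (LK LD1_c12 LD2_c22 LD3_c40) (LK LD1_c6 LD2_c24 LD3_c51) Lrfl Lrfl
theorem f608401 : Led Lsl_cf (LP (LK LD1_c12 LD2_c22 LD3_c40)) = (LP (LK LD1_c14 LD2_c1 LD3_c57)) :=
  Lgr Lrot39 (Lpr_et (f607771 IH) (Lpr_ct (K46.f81315 IH) (Lpr_et (f608399 IH) (Lpn (LP (LK LD1_c14 LD2_c1 LD3_c57))))))
theorem f159507 : Led Lsl_gt (LP (LK LD1_c14 LD2_c1 LD3_c52)) = (LP (LK LD1_c23 LD2_c34 LD3_c40)) :=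
  Lre_g IH (LK LD1_c14 LD2_c1 LD3_c52) (LK LD1_c23 LD2_c34 LD3_c40) Lrfl Lrfl
theorem f608194 : Led Lsl_ef (LP (LK LD1_c23 LD2_c34 LD3_c40)) = (LP (LK LD1_c16 LD2_c25 LD3_c5)) :=
  Lgr Lrot17 (Lpe (f159507 IH) (Lpe (K39.f159442 IH) (Lpr_dt (K28.f108123 IH) (Lpr_gf (K8.f159505 IH) (Lpr_df (K37.f36498 IH) (Lpe (K43.f554315 IH) (Lpe (K39.f208989 IH) (Lpr_dt (K43.f560343 IH) (Lpr_gf (K47.f608180 IH) (Lpe (f608182 IH) (Lpn (LP (LK LD1_c16 LD2_c25 LD3_c5)))))))))))))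
theorem f608266 : Led Lsl_et (LP (LK LD1_c23 LD2_c34 LD3_c40)) = (LP (LK LD1_c16 LD2_c25 LD3_c5)) :=
  Lgr Lrot87 (Lpr_ef (f608194 IH) (Lpn (LP (LK LD1_c16 LD2_c25 LD3_c5))))
theorem f608268 : Led Lsl_cf (LP (LK LD1_c23 LD2_c34 LD3_c40)) = (LP (LK LD1_c15 LD2_c6 LD3_c6)) :=
  Lgr Lrot39 (Lpr_et (f608266 IH) (Lpr_ct (K61.f205661 IH) (Lpe (f554014 IH) (Lpn (LP (LK LD1_c15 LD2_c6 LD3_c6))))))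
theorem f763408 : Led Lsl_af (LP (LK LD1_c14 LD2_c1 LD3_c57)) = (LP (LK LD1_c23 LD2_c34 LD3_c40)) :=
  Lgr Lrot68 (Lpe (f608401 IH) (Lpr_at (f763404 IH) (Lpe (f608268 IH) (Lpn (LP (LK LD1_c23 LD2_c34 LD3_c40))))))
theorem f608403 : Led Lsl_ef (LP (LK LD1_c12 LD2_c22 LD3_c39)) = (LP (LK LD1_c14 LD2_c1 LD3_c57)) :=
  Lgr Lrot88 (Lpr_et (f608399 IH) (Lpn (LP (LK LD1_c14 LD2_c1 LD3_c57))))
theorem f763412 : Led Lsl_at (LP (LK LD1_c12 LD2_c22 LD3_c39)) = (LP (LK LD1_c16 LD2_c25 LD3_c5)) :=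
  Lgr Lrot80 (Lpr_ef (f608403 IH) (Lpr_af (f763408 IH) (Lpr_ef (f608194 IH) (Lpn (LP (LK LD1_c16 LD2_c25 LD3_c5))))))
theorem f763422 : Led Lsl_ff (LP (LK LD1_c12 LD2_c22 LD3_c39)) = (LP (LK LD1_c16 LD2_c24 LD3_c61)) :=
  Lgr Lrot52 (Lpr_at (f763412 IH) (Lpr_gf (K61.f607780 IH) (Lpe (K46.f70255 IH) (Lpn (LP (LK LD1_c16 LD2_c24 LD3_c61))))))
theorem f763426 : Led Lsl_ft (LP (LK LD1_c12 LD2_c22 LD3_c39)) = (LP (LK LD1_c16 LD2_c24 LD3_c61)) :=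
  Lgr Lrot48 (Lpr_ff (f763422 IH) (Lpn (LP (LK LD1_c16 LD2_c24 LD3_c61))))
theorem f763430 : Led Lsl_af (LP (LK LD1_c12 LD2_c22 LD3_c32)) = (LP (LK LD1_c16 LD2_c24 LD3_c61)) :=
  Lgr Lrot31 (Lpe (K47.f607349 IH) (Lpr_gf (K61.f607768 IH) (Lpr_ft (f763426 IH) (Lpn (LP (LK LD1_c16 LD2_c24 LD3_c61))))))
theorem f763418 : Led Lsl_af (LP (LK LD1_c12 LD2_c22 LD3_c39)) = (LP (LK LD1_c16 LD2_c25 LD3_c5)) :=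
  Lgr Lrot0 (Lpr_at (f763412 IH) (Lpn (LP (LK LD1_c16 LD2_c25 LD3_c5))))
theorem f763437 : Led Lsl_ft (LP (LK LD1_c12 LD2_c22 LD3_c32)) = (LP (LK LD1_c16 LD2_c25 LD3_c5)) :=
  Lgr Lrot101 (Lpr_af (f763430 IH) (Lpe (f763426 IH) (Lpr_af (f763418 IH) (Lpn (LP (LK LD1_c16 LD2_c25 LD3_c5))))))
theorem f763443 : Led Lsl_ff (LP (LK LD1_c12 LD2_c22 LD3_c32)) = (LP (LK LD1_c16 LD2_c25 LD3_c5)) :=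
  Lgr Lrot3 (Lpr_ft (f763437 IH) (Lpn (LP (LK LD1_c16 LD2_c25 LD3_c5))))
theorem f763447 : Led Lsl_ft (LP (LK LD1_c21 LD2_c29 LD3_c17)) = (LP (LK LD1_c23 LD2_c29 LD3_c58)) :=
  Lgr Lrot54 (Lpe (K47.f607348 IH) (Lpr_ff (f763443 IH) (Lpr_df (K61.f608186 IH) (Lpn (LP (LK LD1_c23 LD2_c29 LD3_c58))))))
theorem f763451 : Led Lsl_ff (LP (LK LD1_c13 LD2_c55 LD3_c30)) = (LP (LK LD1_c21 LD2_c14 LD3_c33)) :=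
  Lgr Lrot23 (Lpe (K46.f607390 IH) (Lpr_ft (f763447 IH) (Lpr_ct (K47.f608284 IH) (Lpn (LP (LK LD1_c21 LD2_c14 LD3_c33))))))
theorem f763459 : Led Lsl_at (LP (LK LD1_c13 LD2_c55 LD3_c30)) = (LP (LK LD1_c21 LD2_c14 LD3_c34)) :=
  Lgr Lrot26 (Lpr_ff (f763451 IH) (Lpe (K47.f608278 IH) (Lpr_gt (K49.f607575 IH) (Lpn (LP (LK LD1_c21 LD2_c14 LD3_c34))))))
theorem f462594 : Led Lsl_et (LP (LK LD1_c23 LD2_c26 LD3_c14)) = (LP (LK LD1_c13 LD2_c55 LD3_c30)) :=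
  Lre_e IH (LK LD1_c23 LD2_c26 LD3_c14) (LK LD1_c13 LD2_c55 LD3_c30) Lrfl Lrfl
theorem f607573 : Led Lsl_et (LP (LK LD1_c21 LD2_c14 LD3_c34)) = (LP (LK LD1_c29 LD2_c55 LD3_c21)) :=
  Lre_e IH (LK LD1_c21 LD2_c14 LD3_c34) (LK LD1_c29 LD2_c55 LD3_c21) Lrfl Lrfl
theorem f763465 : Led Lsl_af (LP (LK LD1_c23 LD2_c26 LD3_c14)) = (LP (LK LD1_c29 LD2_c55 LD3_c21)) :=
  Lgr Lrot50 (Lpr_et (f462594 IH) (Lpr_at (f763459 IH) (Lpr_et (f607573 IH) (Lpn (LP (LK LD1_c29 LD2_c55 LD3_c21))))))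
theorem f462585 : Led Lsl_et (LP (LK LD1_c13 LD2_c55 LD3_c30)) = (LP (LK LD1_c23 LD2_c26 LD3_c14)) :=
  Lre_e IH (LK LD1_c13 LD2_c55 LD3_c30) (LK LD1_c23 LD2_c26 LD3_c14) Lrfl Lrfl
theorem f462574 : Led Lsl_dt (LP (LK LD1_c14 LD2_c53 LD3_c55)) = (LP (LK LD1_c7 LD2_c53 LD3_c57)) :=
  Lre_d IH (LK LD1_c14 LD2_c53 LD3_c55) (LK LD1_c7 LD2_c53 LD3_c57) Lrfl Lrfl
theorem f462587 : Led Lsl_et (LP (LK LD1_c24 LD2_c40 LD3_c49)) = (LP (LK LD1_c14 LD2_c53 LD3_c55)) :=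
  Lre_e IH (LK LD1_c24 LD2_c40 LD3_c49) (LK LD1_c14 LD2_c53 LD3_c55) Lrfl Lrfl
theorem f462588 : Led Lsl_dt (LP (LK LD1_c23 LD2_c26 LD3_c14)) = (LP (LK LD1_c24 LD2_c40 LD3_c49)) :=
  Lgr Lrot77 (Lpe (f462585 IH) (Lpr_df (K46.f462577 IH) (Lpe (K47.f462586 IH) (Lpe (f462574 IH) (Lpe (f462587 IH) (Lpn (LP (LK LD1_c24 LD2_c40 LD3_c49))))))))
theorem f471883 : Led Lsl_et (LP (LK LD1_c23 LD2_c34 LD3_c56)) = (LP (LK LD1_c14 LD2_c1 LD3_c61)) :=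
  Lre_e IH (LK LD1_c23 LD2_c34 LD3_c56) (LK LD1_c14 LD2_c1 LD3_c61) Lrfl Lrfl
theorem f607585 : Led Lsl_df (LP (LK LD1_c23 LD2_c34 LD3_c56)) = (LP (LK LD1_c29 LD2_c55 LD3_c21)) :=
  Lgr Lrot70 (Lpr_et (f471883 IH) (Lpr_dt (K48.f462783 IH) (Lpr_et (K47.f471875 IH) (Lpr_dt (K47.f607581 IH) (Lpr_et (f607573 IH) (Lpn (LP (LK LD1_c29 LD2_c55 LD3_c21))))))))
theorem f607650 : Led Lsl_dt (LP (LK LD1_c23 LD2_c34 LD3_c56)) = (LP (LK LD1_c29 LD2_c55 LD3_c21)) :=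
  Lgr Lrot42 (Lpr_df (f607585 IH) (Lpn (LP (LK LD1_c29 LD2_c55 LD3_c21))))
theorem f763469 : Led Lsl_at (LP (LK LD1_c24 LD2_c40 LD3_c49)) = (LP (LK LD1_c23 LD2_c34 LD3_c56)) :=
  Lgr Lrot51 (Lpe (f462588 IH) (Lpr_af (f763465 IH) (Lpe (f607650 IH) (Lpn (LP (LK LD1_c23 LD2_c34 LD3_c56))))))
theorem f462575 : Led Lsl_et (LP (LK LD1_c14 LD2_c53 LD3_c55)) = (LP (LK LD1_c24 LD2_c40 LD3_c49)) :=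
  Lre_e IH (LK LD1_c14 LD2_c53 LD3_c55) (LK LD1_c24 LD2_c40 LD3_c49) Lrfl Lrfl
theorem f763473 : Led Lsl_af (LP (LK LD1_c14 LD2_c53 LD3_c55)) = (LP (LK LD1_c14 LD2_c1 LD3_c61)) :=
  Lgr Lrot50 (Lpr_et (f462575 IH) (Lpr_at (f763469 IH) (Lpr_et (f471883 IH) (Lpn (LP (LK LD1_c14 LD2_c1 LD3_c61))))))
theorem f462661 : Led Lsl_dt (LP (LK LD1_c7 LD2_c53 LD3_c56)) = (LP (LK LD1_c14 LD2_c53 LD3_c53)) :=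
  Lre_d IH (LK LD1_c7 LD2_c53 LD3_c56) (LK LD1_c14 LD2_c53 LD3_c53) Lrfl Lrfl
theorem f462660 : Led Lsl_gt (LP (LK LD1_c14 LD2_c53 LD3_c53)) = (LP (LK LD1_c24 LD2_c40 LD3_c44)) :=
  Lre_g IH (LK LD1_c14 LD2_c53 LD3_c53) (LK LD1_c24 LD2_c40 LD3_c44) Lrfl Lrfl
theorem f609359 : Led Lsl_dt (LP (LK LD1_c24 LD2_c40 LD3_c44)) = (LP (LK LD1_c22 LD2_c43 LD3_c56)) :=
  Lgr Lrot105 (Lpe (f462660 IH) (Lpe (f462661 IH) (Lpe (K28.f452022 IH) (Lpe (K29.f470562 IH) (Lpr_gt (K34.f470564 IH) (Lpr_dt (K57.f470565 IH) (Lpr_gt (f609357 IH) (Lpe (f529402 IH) (Lpr_cf (K47.f529198 IH) (Lpn (LP (LK LD1_c22 LD2_c43 LD3_c56))))))))))))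
theorem f609363 : Led Lsl_df (LP (LK LD1_c24 LD2_c40 LD3_c44)) = (LP (LK LD1_c22 LD2_c43 LD3_c56)) :=
  Lgr Lrot38 (Lpr_dt (f609359 IH) (Lpn (LP (LK LD1_c22 LD2_c43 LD3_c56))))
theorem f609365 : Led Lsl_at (LP (LK LD1_c24 LD2_c40 LD3_c44)) = (LP (LK LD1_c22 LD2_c43 LD3_c57)) :=
  Lgr Lrot51 (Lpr_df (f609363 IH) (Lpe (K47.f480443 IH) (Lpe (K48.f480449 IH) (Lpn (LP (LK LD1_c22 LD2_c43 LD3_c57))))))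
theorem f611260 : Led Lsl_ff (LP (LK LD1_c24 LD2_c40 LD3_c44)) = (LP (LK LD1_c23 LD2_c34 LD3_c54)) :=
  Lgr Lrot30 (Lpr_at (f609365 IH) (Lpe (K47.f529179 IH) (Lpr_at (K47.f611250 IH) (Lpn (LP (LK LD1_c23 LD2_c34 LD3_c54))))))
theorem f611266 : Led Lsl_ft (LP (LK LD1_c24 LD2_c40 LD3_c44)) = (LP (LK LD1_c23 LD2_c34 LD3_c54)) :=
  Lgr Lrot48 (Lpr_ff (f611260 IH) (Lpn (LP (LK LD1_c23 LD2_c34 LD3_c54))))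
theorem f611254 : Led Lsl_af (LP (LK LD1_c22 LD2_c27 LD3_c8)) = (LP (LK LD1_c23 LD2_c34 LD3_c54)) :=
  Lgr Lrot0 (Lpr_at (K47.f611250 IH) (Lpn (LP (LK LD1_c23 LD2_c34 LD3_c54))))
theorem f611268 : Led Lsl_gt (LP (LK LD1_c24 LD2_c40 LD3_c44)) = (LP (LK LD1_c14 LD2_c53 LD3_c55)) :=
  Lgr Lrot5 (Lpr_ft (f611266 IH) (Lpe (f611254 IH) (Lpe (K48.f609333 IH) (Lpn (LP (LK LD1_c14 LD2_c53 LD3_c55))))))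
theorem f763481 : Led Lsl_ft (LP (LK LD1_c14 LD2_c53 LD3_c53)) = (LP (LK LD1_c14 LD2_c1 LD3_c61)) :=
  Lgr Lrot2 (Lpr_gt (f462660 IH) (Lpr_gt (f611268 IH) (Lpr_af (f763473 IH) (Lpn (LP (LK LD1_c14 LD2_c1 LD3_c61))))))
theorem f763489 : Led Lsl_ff (LP (LK LD1_c14 LD2_c53 LD3_c53)) = (LP (LK LD1_c14 LD2_c1 LD3_c61)) :=
  Lgr Lrot3 (Lpr_ft (f763481 IH) (Lpn (LP (LK LD1_c14 LD2_c1 LD3_c61))))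
theorem f529222 : Led Lsl_df (LP (LK LD1_c13 LD2_c51 LD3_c20)) = (LP (LK LD1_c13 LD2_c14 LD3_c9)) :=
  Lgr Lrot12 (Lpr_bt (K42.f479765 IH) (Lpr_dt (K47.f529210 IH) (Lpr_bt (K47.f511176 IH) (Lpn (LP (LK LD1_c13 LD2_c14 LD3_c9))))))
theorem f108077 : Led Lsl_dt (LP (LK LD1_c7 LD2_c25 LD3_c16)) = (LP (LK LD1_c14 LD2_c2 LD3_c2)) :=
  Lre_d IH (LK LD1_c7 LD2_c25 LD3_c16) (LK LD1_c14 LD2_c2 LD3_c2) Lrfl Lrfl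
theorem f611394 : Led Lsl_gf (LP (LK LD1_c22 LD2_c43 LD3_c57)) = (LP (LK LD1_c14 LD2_c2 LD3_c2)) :=
  Lgr Lrot143 (Lpr_dt (K48.f480449 IH) (Lpe (K47.f529195 IH) (Lpr_df (f529222 IH) (Lpr_gf (K57.f611392 IH) (Lpe (K62.f108145 IH) (Lpe (K35.f470557 IH) (Lpr_cf (K39.f470527 IH) (Lpe (K35.f462614 IH) (Lpr_dt (f108077 IH) (Lpn (LP (LK LD1_c14 LD2_c2 LD3_c2))))))))))))
theorem f611401 : Led Lsl_gt (LP (LK LD1_c23 LD2_c34 LD3_c54)) = (LP (LK LD1_c14 LD2_c2 LD3_c2)) :=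
  Lgr Lrot5 (Lpe (f611260 IH) (Lpr_at (f609365 IH) (Lpr_gf (f611394 IH) (Lpn (LP (LK LD1_c14 LD2_c2 LD3_c2))))))
theorem f763497 : Led Lsl_at (LP (LK LD1_c14 LD2_c53 LD3_c53)) = (LP (LK LD1_c14 LD2_c2 LD3_c2)) :=
  Lgr Lrot26 (Lpr_ff (f763489 IH) (Lpr_gt (K47.f108069 IH) (Lpr_gt (f611401 IH) (Lpn (LP (LK LD1_c14 LD2_c2 LD3_c2))))))
theorem f763475 : Led Lsl_at (LP (LK LD1_c14 LD2_c53 LD3_c55)) = (LP (LK LD1_c14 LD2_c1 LD3_c61)) :=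
  Lgr Lrot100 (Lpr_af (f763473 IH) (Lpn (LP (LK LD1_c14 LD2_c1 LD3_c61))))
theorem f763507 : Led Lsl_ff (LP (LK LD1_c14 LD2_c53 LD3_c55)) = (LP (LK LD1_c14 LD2_c2 LD3_c2)) :=
  Lgr Lrot30 (Lpr_at (f763475 IH) (Lpe (f763489 IH) (Lpr_at (f763497 IH) (Lpn (LP (LK LD1_c14 LD2_c2 LD3_c2))))))
theorem f763513 : Led Lsl_ft (LP (LK LD1_c14 LD2_c53 LD3_c55)) = (LP (LK LD1_c14 LD2_c2 LD3_c2)) :=
  Lgr Lrot48 (Lpr_ff (f763507 IH) (Lpn (LP (LK LD1_c14 LD2_c2 LD3_c2))))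
theorem f108076 : Led Lsl_dt (LP (LK LD1_c14 LD2_c2 LD3_c2)) = (LP (LK LD1_c7 LD2_c25 LD3_c16)) :=
  Lre_d IH (LK LD1_c14 LD2_c2 LD3_c2) (LK LD1_c7 LD2_c25 LD3_c16) Lrfl Lrfl
theorem f763517 : Led Lsl_ff (LP (LK LD1_c7 LD2_c53 LD3_c57)) = (LP (LK LD1_c7 LD2_c25 LD3_c16)) :=
  Lgr Lrot19 (Lpr_dt (K48.f462571 IH) (Lpr_ft (f763513 IH) (Lpr_dt (f108076 IH) (Lpn (LP (LK LD1_c7 LD2_c25 LD3_c16))))))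
theorem f470574 : Led Lsl_bt (LP (LK LD1_c7 LD2_c53 LD3_c57)) = (LP (LK LD1_c14 LD2_c53 LD3_c54)) :=
  Lre_b IH (LK LD1_c7 LD2_c53 LD3_c57) (LK LD1_c14 LD2_c53 LD3_c54) Lrfl Lrfl
theorem f763521 : Led Lsl_ft (LP (LK LD1_c14 LD2_c53 LD3_c54)) = (LP (LK LD1_c14 LD2_c2 LD3_c1)) :=
  Lgr Lrot75 (Lpe (f470574 IH) (Lpr_ff (f763517 IH) (Lpe (K35.f108079 IH) (Lpn (LP (LK LD1_c14 LD2_c2 LD3_c1))))))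
theorem f471155 : Led Lsl_gt (LP (LK LD1_c14 LD2_c53 LD3_c54)) = (LP (LK LD1_c14 LD2_c54 LD3_c5)) :=
  Lgr Lrot82 (Lpe (f470574 IH) (Lpe (K46.f470575 IH) (Lpe (K29.f11747 IH) (Lpe (K8.f11715 IH) (Lpr_bt (K28.f11657 IH) (Lpr_gf (K34.f470896 IH) (Lpe (K33.f470852 IH) (Lpe (K37.f470889 IH) (Lpe (K35.f470891 IH) (Lpe (K37.f452055 IH) (Lpn (LP (LK LD1_c14 LD2_c54 LD3_c5)))))))))))))
theorem f763525 : Led Lsl_af (LP (LK LD1_c13 LD2_c52 LD3_c55)) = (LP (LK LD1_c14 LD2_c2 LD3_c1)) :=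
  Lgr Lrot31 (Lpr_gf (K37.f533882 IH) (Lpe (f471155 IH) (Lpr_ft (f763521 IH) (Lpn (LP (LK LD1_c14 LD2_c2 LD3_c1))))))
theorem f533879 : Led Lsl_bt (LP (LK LD1_c7 LD2_c25 LD3_c16)) = (LP (LK LD1_c14 LD2_c2 LD3_c1)) :=
  Lre_b IH (LK LD1_c7 LD2_c25 LD3_c16) (LK LD1_c14 LD2_c2 LD3_c1) Lrfl Lrfl
theorem f763479 : Led Lsl_at (LP (LK LD1_c7 LD2_c53 LD3_c57)) = (LP (LK LD1_c7 LD2_c25 LD3_c15)) :=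
  Lgr Lrot51 (Lpe (f462574 IH) (Lpr_af (f763473 IH) (Lpe (K47.f108068 IH) (Lpn (LP (LK LD1_c7 LD2_c25 LD3_c15))))))
theorem f763487 : Led Lsl_ff (LP (LK LD1_c7 LD2_c53 LD3_c56)) = (LP (LK LD1_c7 LD2_c25 LD3_c15)) :=
  Lgr Lrot19 (Lpr_dt (f462661 IH) (Lpr_ft (f763481 IH) (Lpr_dt (K48.f462783 IH) (Lpn (LP (LK LD1_c7 LD2_c25 LD3_c15))))))
theorem f763519 : Led Lsl_at (LP (LK LD1_c7 LD2_c53 LD3_c56)) = (LP (LK LD1_c7 LD2_c25 LD3_c16)) :=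
  Lgr Lrot66 (Lpr_ff (f763487 IH) (Lpe (f763479 IH) (Lpr_ff (f763517 IH) (Lpn (LP (LK LD1_c7 LD2_c25 LD3_c16))))))
theorem f763529 : Led Lsl_at (LP (LK LD1_c7 LD2_c20 LD3_c26)) = (LP (LK LD1_c13 LD2_c40 LD3_c40)) :=
  Lgr Lrot67 (Lpe (K35.f425528 IH) (Lpr_af (f763525 IH) (Lpe (f533879 IH) (Lpe (f763519 IH) (Lpr_bf (K39.f462870 IH) (Lpn (LP (LK LD1_c13 LD2_c40 LD3_c40))))))))
theorem f763537 : Led Lsl_ff (LP (LK LD1_c7 LD2_c20 LD3_c26)) = (LP (LK LD1_c13 LD2_c40 LD3_c36)) :=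
  Lgr Lrot52 (Lpr_at (f763529 IH) (Lpr_gf (K39.f471158 IH) (Lpr_gf (K29.f470837 IH) (Lpn (LP (LK LD1_c13 LD2_c40 LD3_c36))))))
theorem f763541 : Led Lsl_ft (LP (LK LD1_c7 LD2_c20 LD3_c26)) = (LP (LK LD1_c13 LD2_c40 LD3_c36)) :=
  Lgr Lrot48 (Lpr_ff (f763537 IH) (Lpn (LP (LK LD1_c13 LD2_c40 LD3_c36))))
theorem f763545 : Led Lsl_af (LP (LK LD1_c7 LD2_c20 LD3_c25)) = (LP (LK LD1_c13 LD2_c40 LD3_c36)) :=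
  Lgr Lrot31 (Lpe (K29.f425453 IH) (Lpe (K35.f159760 IH) (Lpr_ft (f763541 IH) (Lpn (LP (LK LD1_c13 LD2_c40 LD3_c36))))))
theorem f763531 : Led Lsl_af (LP (LK LD1_c7 LD2_c20 LD3_c26)) = (LP (LK LD1_c13 LD2_c40 LD3_c40)) :=
  Lgr Lrot0 (Lpr_at (f763529 IH) (Lpn (LP (LK LD1_c13 LD2_c40 LD3_c40))))
theorem f763553 : Led Lsl_ft (LP (LK LD1_c7 LD2_c20 LD3_c25)) = (LP (LK LD1_c13 LD2_c40 LD3_c40)) :=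
  Lgr Lrot101 (Lpr_af (f763545 IH) (Lpe (f763541 IH) (Lpr_af (f763531 IH) (Lpn (LP (LK LD1_c13 LD2_c40 LD3_c40))))))
theorem f763557 : Led Lsl_ff (LP (LK LD1_c7 LD2_c20 LD3_c25)) = (LP (LK LD1_c13 LD2_c40 LD3_c40)) :=
  Lgr Lrot3 (Lpr_ft (f763553 IH) (Lpn (LP (LK LD1_c13 LD2_c40 LD3_c40))))
theorem f763559 : Led Lsl_ft (LP (LK LD1_c13 LD2_c13 LD3_c57)) = (LP (LK LD1_c7 LD2_c13 LD3_c34)) :=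
  Lgr Lrot4 (Lpe (K29.f471279 IH) (Lpr_ff (f763557 IH) (Lpe (K39.f462933 IH) (Lpn (LP (LK LD1_c7 LD2_c13 LD3_c34))))))
theorem f763565 : Led Lsl_ff (LP (LK LD1_c22 LD2_c28 LD3_c36)) = (LP (LK LD1_c13 LD2_c40 LD3_c41)) :=
  Lgr Lrot19 (Lpr_dt (K61.f464997 IH) (Lpr_ft (f763559 IH) (Lpr_dt (K47.f160510 IH) (Lpn (LP (LK LD1_c13 LD2_c40 LD3_c41))))))
theorem f763569 : Led Lsl_at (LP (LK LD1_c22 LD2_c28 LD3_c36)) = (LP (LK LD1_c13 LD2_c40 LD3_c37)) :=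
  Lgr Lrot26 (Lpr_ff (f763565 IH) (Lpe (K47.f610660 IH) (Lpr_gt (K47.f470595 IH) (Lpn (LP (LK LD1_c13 LD2_c40 LD3_c37))))))
theorem f763573 : Led Lsl_af (LP (LK LD1_c24 LD2_c56 LD3_c32)) = (LP (LK LD1_c23 LD2_c6 LD3_c11)) :=
  Lgr Lrot50 (Lpe (K61.f554571 IH) (Lpr_at (f763569 IH) (Lpr_et (K47.f470594 IH) (Lpn (LP (LK LD1_c23 LD2_c6 LD3_c11))))))
theorem f464996 : Led Lsl_dt (LP (LK LD1_c13 LD2_c13 LD3_c57)) = (LP (LK LD1_c22 LD2_c28 LD3_c36)) :=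
  Lre_d IH (LK LD1_c13 LD2_c13 LD3_c57) (LK LD1_c22 LD2_c28 LD3_c36) Lrfl Lrfl
theorem f554569 : Led Lsl_df (LP (LK LD1_c23 LD2_c3 LD3_c32)) = (LP (LK LD1_c24 LD2_c56 LD3_c32)) :=
  Lgr Lrot70 (Lpr_et (K61.f544177 IH) (Lpe (K40.f552202 IH) (Lpr_et (K40.f464998 IH) (Lpr_dt (f464996 IH) (Lpr_et (K61.f554565 IH) (Lpn (LP (LK LD1_c24 LD2_c56 LD3_c32))))))))
theorem f763577 : Led Lsl_at (LP (LK LD1_c23 LD2_c3 LD3_c32)) = (LP (LK LD1_c16 LD2_c24 LD3_c9)) :=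
  Lgr Lrot51 (Lpr_df (f554569 IH) (Lpr_af (f763573 IH) (Lpr_df (K47.f559008 IH) (Lpn (LP (LK LD1_c16 LD2_c24 LD3_c9))))))
theorem f559016 : Led Lsl_ft (LP (LK LD1_c16 LD2_c24 LD3_c9)) = (LP (LK LD1_c26 LD2_c21 LD3_c60)) :=
  Lre_f IH (LK LD1_c16 LD2_c24 LD3_c9) (LK LD1_c26 LD2_c21 LD3_c60) Lrfl Lrfl
theorem f225044 : Led Lsl_gt (LP (LK LD1_c8 LD2_c43 LD3_c32)) = (LP (LK LD1_c4 LD2_c22 LD3_c50)) :=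
  Lre_g IH (LK LD1_c8 LD2_c43 LD3_c32) (LK LD1_c4 LD2_c22 LD3_c50) Lrfl Lrfl
theorem f225051 : Led Lsl_et (LP (LK LD1_c16 LD2_c20 LD3_c33)) = (LP (LK LD1_c8 LD2_c43 LD3_c32)) :=
  Lre_e IH (LK LD1_c16 LD2_c20 LD3_c33) (LK LD1_c8 LD2_c43 LD3_c32) Lrfl Lrfl
theorem f225052 : Led Lsl_dt (LP (LK LD1_c16 LD2_c20 LD3_c33)) = (LP (LK LD1_c26 LD2_c18 LD3_c28)) :=
  Lre_d IH (LK LD1_c16 LD2_c20 LD3_c33) (LK LD1_c26 LD2_c18 LD3_c28) Lrfl Lrfl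
theorem f229305 : Led Lsl_gt (LP (LK LD1_c26 LD2_c17 LD3_c15)) = (LP (LK LD1_c26 LD2_c18 LD3_c28)) :=
  Lgr Lrot139 (Lpe (K55.f229304 IH) (Lpe (K55.f229303 IH) (Lpe (K23.f229302 IH) (Lpr_dt (K13.f173290 IH) (Lpr_gf (K13.f229298 IH) (Lpe (K13.f180213 IH) (Lpr_et (K18.f225030 IH) (Lpe (f225044 IH) (Lpe (f225051 IH) (Lpr_dt (f225052 IH) (Lpn (LP (LK LD1_c26 LD2_c18 LD3_c28)))))))))))))
theorem f611165 : Led Lsl_at (LP (LK LD1_c26 LD2_c21 LD3_c60)) = (LP (LK LD1_c26 LD2_c18 LD3_c28)) :=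
  Lgr Lrot26 (Lpe (f559016 IH) (Lpr_gt (K55.f611163 IH) (Lpr_gt (f229305 IH) (Lpn (LP (LK LD1_c26 LD2_c18 LD3_c28))))))
theorem f763585 : Led Lsl_ff (LP (LK LD1_c23 LD2_c3 LD3_c32)) = (LP (LK LD1_c26 LD2_c18 LD3_c28)) :=
  Lgr Lrot30 (Lpr_at (f763577 IH) (Lpr_ft (f559016 IH) (Lpr_at (f611165 IH) (Lpn (LP (LK LD1_c26 LD2_c18 LD3_c28))))))
theorem f763591 : Led Lsl_ft (LP (LK LD1_c23 LD2_c3 LD3_c32)) = (LP (LK LD1_c26 LD2_c18 LD3_c28)) :=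
  Lgr Lrot48 (Lpr_ff (f763585 IH) (Lpn (LP (LK LD1_c26 LD2_c18 LD3_c28))))
theorem f225138 : Led Lsl_dt (LP (LK LD1_c26 LD2_c18 LD3_c28)) = (LP (LK LD1_c16 LD2_c20 LD3_c33)) :=
  Lre_d IH (LK LD1_c26 LD2_c18 LD3_c28) (LK LD1_c16 LD2_c20 LD3_c33) Lrfl Lrfl
theorem f763595 : Led Lsl_ff (LP (LK LD1_c24 LD2_c56 LD3_c32)) = (LP (LK LD1_c16 LD2_c20 LD3_c33)) :=
  Lgr Lrot19 (Lpe (f554569 IH) (Lpr_ft (f763591 IH) (Lpr_dt (f225138 IH) (Lpn (LP (LK LD1_c16 LD2_c20 LD3_c33))))))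
theorem f763567 : Led Lsl_ft (LP (LK LD1_c22 LD2_c28 LD3_c36)) = (LP (LK LD1_c13 LD2_c40 LD3_c41)) :=
  Lgr Lrot48 (Lpr_ff (f763565 IH) (Lpn (LP (LK LD1_c13 LD2_c40 LD3_c41))))
theorem f610127 : Led Lsl_dt (LP (LK LD1_c23 LD2_c6 LD3_c15)) = (LP (LK LD1_c13 LD2_c40 LD3_c42)) :=
  Lre_d IH (LK LD1_c23 LD2_c6 LD3_c15) (LK LD1_c13 LD2_c40 LD3_c42) Lrfl Lrfl
theorem f610132 : Led Lsl_ef (LP (LK LD1_c9 LD2_c45 LD3_c1)) = (LP (LK LD1_c13 LD2_c40 LD3_c41)) :=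
  Lgr Lrot73 (Lpr_dt (f182341 IH) (Lpr_et (K62.f610129 IH) (Lpr_dt (f610127 IH) (Lpr_et (K47.f464985 IH) (Lpr_dt (K47.f160510 IH) (Lpn (LP (LK LD1_c13 LD2_c40 LD3_c41))))))))
theorem f225142 : Led Lsl_et (LP (LK LD1_c8 LD2_c43 LD3_c32)) = (LP (LK LD1_c16 LD2_c20 LD3_c33)) :=
  Lre_e IH (LK LD1_c8 LD2_c43 LD3_c32) (LK LD1_c16 LD2_c20 LD3_c33) Lrfl Lrfl
theorem f763597 : Led Lsl_ft (LP (LK LD1_c9 LD2_c45 LD3_c1)) = (LP (LK LD1_c8 LD2_c43 LD3_c32)) :=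
  Lgr Lrot86 (Lpr_ef (f610132 IH) (Lpe (f763567 IH) (Lpr_ef (K61.f554571 IH) (Lpr_ff (f763595 IH) (Lpe (f225142 IH) (Lpn (LP (LK LD1_c8 LD2_c43 LD3_c32))))))))
theorem f763606 : Led Lsl_af (LP (LK LD1_c9 LD2_c45 LD3_c2)) = (LP (LK LD1_c8 LD2_c43 LD3_c32)) :=
  Lgr Lrot31 (Lpe (K47.f297158 IH) (Lpr_gf (f297166 IH) (Lpr_ft (f763597 IH) (Lpn (LP (LK LD1_c8 LD2_c43 LD3_c32))))))
theorem f763608 : Led Lsl_at (LP (LK LD1_c9 LD2_c45 LD3_c2)) = (LP (LK LD1_c8 LD2_c43 LD3_c32)) :=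
  Lgr Lrot100 (Lpr_af (f763606 IH) (Lpn (LP (LK LD1_c8 LD2_c43 LD3_c32))))
theorem f81473 : Led Lsl_gt (LP (LK LD1_c8 LD2_c4 LD3_c57)) = (LP (LK LD1_c15 LD2_c13 LD3_c5)) :=
  Lre_g IH (LK LD1_c8 LD2_c4 LD3_c57) (LK LD1_c15 LD2_c13 LD3_c5) Lrfl Lrfl
theorem f297175 : Led Lsl_gt (LP (LK LD1_c15 LD2_c13 LD3_c5)) = (LP (LK LD1_c15 LD2_c10 LD3_c21)) :=
  Lgr Lrot46 (Lpe (f81473 IH) (Lpr_ft (K18.f225039 IH) (Lpr_at (K18.f297164 IH) (Lpn (LP (LK LD1_c15 LD2_c10 LD3_c21))))))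
theorem f81481 : Led Lsl_et (LP (LK LD1_c25 LD2_c2 LD3_c1)) = (LP (LK LD1_c15 LD2_c13 LD3_c5)) :=
  Lre_e IH (LK LD1_c25 LD2_c2 LD3_c1) (LK LD1_c15 LD2_c13 LD3_c5) Lrfl Lrfl
theorem f242876 : Led Lsl_df (LP (LK LD1_c8 LD2_c51 LD3_c54)) = (LP (LK LD1_c8 LD2_c5 LD3_c18)) :=
  Lgr Lrot38 (Lpr_dt (K16.f242845 IH) (Lpn (LP (LK LD1_c8 LD2_c5 LD3_c18))))
theorem f193752 : Led Lsl_gt (LP (LK LD1_c16 LD2_c34 LD3_c31)) = (LP (LK LD1_c8 LD2_c51 LD3_c54)) :=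
  Lre_g IH (LK LD1_c16 LD2_c34 LD3_c31) (LK LD1_c8 LD2_c51 LD3_c54) Lrfl Lrfl
theorem f30133 : Led Lsl_gt (LP (LK LD1_c24 LD2_c54 LD3_c36)) = (LP (LK LD1_c15 LD2_c6 LD3_c28)) :=
  Lre_g IH (LK LD1_c24 LD2_c54 LD3_c36) (LK LD1_c15 LD2_c6 LD3_c28) Lrfl Lrfl
theorem f34506 : Led Lsl_et (LP (LK LD1_c15 LD2_c14 LD3_c3)) = (LP (LK LD1_c8 LD2_c5 LD3_c22)) :=
  Lre_e IH (LK LD1_c15 LD2_c14 LD3_c3) (LK LD1_c8 LD2_c5 LD3_c22) Lrfl Lrfl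
theorem f81474 : Led Lsl_df (LP (LK LD1_c24 LD2_c54 LD3_c36)) = (LP (LK LD1_c15 LD2_c13 LD3_c5)) :=
  Lgr Lrot135 (Lpr_gt (f30133 IH) (Lpr_df (f81463 IH) (Lpr_et (f34506 IH) (Lpr_gt (K40.f34497 IH) (Lpe (K32.f34474 IH) (Lpr_dt (K0.f34020 IH) (Lpr_gt (K13.f33744 IH) (Lpe (K13.f33747 IH) (Lpr_et (f33751 IH) (Lpr_gt (f81473 IH) (Lpn (LP (LK LD1_c15 LD2_c13 LD3_c5)))))))))))))
theorem f81476 : Led Lsl_et (LP (LK LD1_c15 LD2_c13 LD3_c5)) = (LP (LK LD1_c25 LD2_c2 LD3_c1)) :=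
  Lre_e IH (LK LD1_c15 LD2_c13 LD3_c5) (LK LD1_c25 LD2_c2 LD3_c1) Lrfl Lrfl
theorem f81477 : Led Lsl_gf (LP (LK LD1_c25 LD2_c2 LD3_c1)) = (LP (LK LD1_c21 LD2_c13 LD3_c1)) :=
  Lgr Lrot141 (Lpe (f81476 IH) (Lpe (f81474 IH) (Lpr_gt (f30133 IH) (Lpr_df (f81463 IH) (Lpr_et (f34506 IH) (Lpr_gt (K40.f34497 IH) (Lpe (K32.f81206 IH) (Lpr_gt (K40.f59729 IH) (Lpe (K47.f59747 IH) (Lpr_et (K47.f59770 IH) (Lpn (LP (LK LD1_c21 LD2_c13 LD3_c1)))))))))))))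
theorem f242897 : Led Lsl_df (LP (LK LD1_c16 LD2_c34 LD3_c31)) = (LP (LK LD1_c25 LD2_c2 LD3_c1)) :=
  Lgr Lrot135 (Lpr_gt (f193752 IH) (Lpr_df (f242876 IH) (Lpr_et (K16.f81235 IH) (Lpr_gt (K13.f34041 IH) (Lpe (K47.f34492 IH) (Lpe (K32.f81206 IH) (Lpr_gt (K40.f59729 IH) (Lpe (K47.f59747 IH) (Lpr_et (K47.f59770 IH) (Lpe (f81477 IH) (Lpn (LP (LK LD1_c25 LD2_c2 LD3_c1)))))))))))))
theorem f272134 : Led Lsl_gt (LP (LK LD1_c21 LD2_c11 LD3_c5)) = (LP (LK LD1_c16 LD2_c34 LD3_c31)) :=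
  Lgr Lrot5 (Lpr_ft (K16.f272131 IH) (Lpr_at (K16.f272121 IH) (Lpe (f193752 IH) (Lpn (LP (LK LD1_c16 LD2_c34 LD3_c31))))))
theorem f197226 : Led Lsl_gt (LP (LK LD1_c8 LD2_c3 LD3_c47)) = (LP (LK LD1_c15 LD2_c10 LD3_c39)) :=
  Lre_g IH (LK LD1_c8 LD2_c3 LD3_c47) (LK LD1_c15 LD2_c10 LD3_c39) Lrfl Lrfl
theorem f272112 : Led Lsl_gf (LP (LK LD1_c15 LD2_c13 LD3_c47)) = (LP (LK LD1_c15 LD2_c10 LD3_c39)) :=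
  Lgr Lrot76 (Lpr_af (K16.f272104 IH) (Lpe (K16.f197235 IH) (Lpr_gt (f197226 IH) (Lpn (LP (LK LD1_c15 LD2_c10 LD3_c39))))))
theorem f225045 : Led Lsl_dt (LP (LK LD1_c16 LD2_c20 LD3_c32)) = (LP (LK LD1_c8 LD2_c43 LD3_c32)) :=
  Lre_d IH (LK LD1_c16 LD2_c20 LD3_c32) (LK LD1_c8 LD2_c43 LD3_c32) Lrfl Lrfl
theorem f225134 : Led Lsl_ef (LP (LK LD1_c15 LD2_c10 LD3_c39)) = (LP (LK LD1_c16 LD2_c20 LD3_c32)) :=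
  Lgr Lrot17 (Lpe (f197226 IH) (Lpe (K16.f197217 IH) (Lpr_dt (K13.f211601 IH) (Lpe (K12.f211585 IH) (Lpe (K13.f211588 IH) (Lpr_gf (K13.f211659 IH) (Lpe (K18.f211662 IH) (Lpr_dt (K62.f225037 IH) (Lpe (f225044 IH) (Lpe (f225045 IH) (Lpn (LP (LK LD1_c16 LD2_c20 LD3_c32)))))))))))))
theorem f297177 : Led Lsl_gf (LP (LK LD1_c8 LD2_c43 LD3_c32)) = (LP (LK LD1_c9 LD2_c45 LD3_c3)) :=
  Lgr Lrot134 (Lpe (f225045 IH) (Lpe (f225134 IH) (Lpe (f272112 IH) (Lpr_ef (K16.f272080 IH) (Lpe (K37.f272149 IH) (Lpr_gt (f272134 IH) (Lpr_df (f242897 IH) (Lpr_et (f81481 IH) (Lpr_gt (f297175 IH) (Lpr_dt (K18.f197282 IH) (Lpn (LP (LK LD1_c9 LD2_c45 LD3_c3)))))))))))))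
theorem f764023 : Led Lsl_ff (LP (LK LD1_c9 LD2_c45 LD3_c2)) = (LP (LK LD1_c8 LD2_c43 LD3_c31)) :=
  Lgr Lrot52 (Lpr_at (f763608 IH) (Lpr_gf (f297177 IH) (Lpe (K61.f407022 IH) (Lpn (LP (LK LD1_c8 LD2_c43 LD3_c31))))))
theorem f764033 : Led Lsl_ft (LP (LK LD1_c9 LD2_c45 LD3_c2)) = (LP (LK LD1_c8 LD2_c43 LD3_c31)) :=
  Lgr Lrot48 (Lpr_ff (f764023 IH) (Lpn (LP (LK LD1_c8 LD2_c43 LD3_c31))))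
theorem f764040 : Led Lsl_ff (LP (LK LD1_c17 LD2_c54 LD3_c35)) = (LP (LK LD1_c16 LD2_c20 LD3_c28)) :=
  Lgr Lrot19 (Lpr_dt (K47.f197286 IH) (Lpr_ft (f764033 IH) (Lpr_dt (K61.f225133 IH) (Lpn (LP (LK LD1_c16 LD2_c20 LD3_c28))))))
theorem f406954 : Led Lsl_et (LP (LK LD1_c9 LD2_c45 LD3_c2)) = (LP (LK LD1_c17 LD2_c54 LD3_c36)) :=
  Lre_e IH (LK LD1_c9 LD2_c45 LD3_c2) (LK LD1_c17 LD2_c54 LD3_c36) Lrfl Lrfl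
theorem f763613 : Led Lsl_at (LP (LK LD1_c17 LD2_c54 LD3_c36)) = (LP (LK LD1_c16 LD2_c20 LD3_c33)) :=
  Lgr Lrot80 (Lpe (f406954 IH) (Lpr_af (f763606 IH) (Lpe (f225051 IH) (Lpn (LP (LK LD1_c16 LD2_c20 LD3_c33))))))
theorem f763575 : Led Lsl_at (LP (LK LD1_c24 LD2_c56 LD3_c32)) = (LP (LK LD1_c23 LD2_c6 LD3_c11)) :=
  Lgr Lrot100 (Lpr_af (f763573 IH) (Lpn (LP (LK LD1_c23 LD2_c6 LD3_c11))))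
theorem f763619 : Led Lsl_ff (LP (LK LD1_c17 LD2_c54 LD3_c36)) = (LP (LK LD1_c23 LD2_c6 LD3_c11)) :=
  Lgr Lrot30 (Lpr_at (f763613 IH) (Lpe (f763595 IH) (Lpr_at (f763575 IH) (Lpn (LP (LK LD1_c23 LD2_c6 LD3_c11))))))
theorem f559015 : Led Lsl_ft (LP (LK LD1_c26 LD2_c21 LD3_c60)) = (LP (LK LD1_c16 LD2_c24 LD3_c9)) :=
  Lre_f IH (LK LD1_c26 LD2_c21 LD3_c60) (LK LD1_c16 LD2_c24 LD3_c9) Lrfl Lrfl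
theorem f763623 : Led Lsl_dt (LP (LK LD1_c17 LD2_c54 LD3_c36)) = (LP (LK LD1_c26 LD2_c21 LD3_c60)) :=
  Lgr Lrot60 (Lpr_ff (f763619 IH) (Lpr_df (K47.f559008 IH) (Lpe (f559015 IH) (Lpn (LP (LK LD1_c26 LD2_c21 LD3_c60))))))
theorem f297309 : Led Lsl_ef (LP (LK LD1_c8 LD2_c43 LD3_c33)) = (LP (LK LD1_c14 LD2_c58 LD3_c27)) :=
  Lgr Lrot88 (Lpr_et (K18.f297303 IH) (Lpn (LP (LK LD1_c14 LD2_c58 LD3_c27))))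
theorem f297160 : Led Lsl_dt (LP (LK LD1_c9 LD2_c45 LD3_c2)) = (LP (LK LD1_c17 LD2_c54 LD3_c35)) :=
  Lre_d IH (LK LD1_c9 LD2_c45 LD3_c2) (LK LD1_c17 LD2_c54 LD3_c35) Lrfl Lrfl
theorem f406952 : Led Lsl_gf (LP (LK LD1_c15 LD2_c14 LD3_c3)) = (LP (LK LD1_c17 LD2_c54 LD3_c35)) :=
  Lgr Lrot134 (Lpe (f81466 IH) (Lpr_et (f35858 IH) (Lpr_gt (K37.f30127 IH) (Lpe (K40.f35852 IH) (Lpr_dt (K40.f272901 IH) (Lpr_gt (K61.f406950 IH) (Lpe (K19.f236806 IH) (Lpe (f297309 IH) (Lpr_gt (K47.f297158 IH) (Lpr_dt (f297160 IH) (Lpn (LP (LK LD1_c17 LD2_c54 LD3_c35)))))))))))))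
theorem f445112 : Led Lsl_gt (LP (LK LD1_c15 LD2_c7 LD3_c42)) = (LP (LK LD1_c17 LD2_c54 LD3_c36)) :=
  Lgr Lrot131 (Lpe (K61.f408131 IH) (Lpr_dt (K37.f30647 IH) (Lpr_gf (K37.f445104 IH) (Lpe (K37.f35838 IH) (Lpe (K37.f30127 IH) (Lpe (f35858 IH) (Lpr_dt (f81466 IH) (Lpr_gf (f406952 IH) (Lpe (f297160 IH) (Lpr_et (f406954 IH) (Lpn (LP (LK LD1_c17 LD2_c54 LD3_c36)))))))))))))
theorem f70265 : Led Lsl_et (LP (LK LD1_c9 LD2_c47 LD3_c0)) = (LP (LK LD1_c17 LD2_c57 LD3_c10)) :=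
  Lre_e IH (LK LD1_c9 LD2_c47 LD3_c0) (LK LD1_c17 LD2_c57 LD3_c10) Lrfl Lrfl
theorem f445823 : Led Lsl_et (LP (LK LD1_c13 LD2_c52 LD3_c45)) = (LP (LK LD1_c7 LD2_c20 LD3_c20)) :=
  Lre_e IH (LK LD1_c13 LD2_c52 LD3_c45) (LK LD1_c7 LD2_c20 LD3_c20) Lrfl Lrfl
theorem f560146 : Led Lsl_cf (LP (LK LD1_c13 LD2_c52 LD3_c45)) = (LP (LK LD1_c8 LD2_c46 LD3_c37)) :=
  Lgr Lrot39 (Lpr_et (f445823 IH) (Lpr_ct (K39.f560142 IH) (Lpr_et (K39.f503090 IH) (Lpn (LP (LK LD1_c8 LD2_c46 LD3_c37))))))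
theorem f617964 : Led Lsl_ct (LP (LK LD1_c13 LD2_c52 LD3_c45)) = (LP (LK LD1_c8 LD2_c46 LD3_c37)) :=
  Lgr Lrot59 (Lpr_cf (f560146 IH) (Lpn (LP (LK LD1_c8 LD2_c46 LD3_c37))))
theorem f159465 : Led Lsl_et (LP (LK LD1_c7 LD2_c20 LD3_c20)) = (LP (LK LD1_c13 LD2_c52 LD3_c45)) :=
  Lre_e IH (LK LD1_c7 LD2_c20 LD3_c20) (LK LD1_c13 LD2_c52 LD3_c45) Lrfl Lrfl
theorem f445819 : Led Lsl_af (LP (LK LD1_c12 LD2_c5 LD3_c51)) = (LP (LK LD1_c13 LD2_c52 LD3_c45)) :=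
  Lgr Lrot50 (Lpr_et (K37.f443877 IH) (Lpr_at (K42.f445815 IH) (Lpr_et (f159465 IH) (Lpn (LP (LK LD1_c13 LD2_c52 LD3_c45))))))
theorem f445821 : Led Lsl_at (LP (LK LD1_c12 LD2_c5 LD3_c51)) = (LP (LK LD1_c13 LD2_c52 LD3_c45)) :=
  Lgr Lrot100 (Lpr_af (f445819 IH) (Lpn (LP (LK LD1_c13 LD2_c52 LD3_c45))))
theorem f443869 : Led Lsl_ct (LP (LK LD1_c6 LD2_c13 LD3_c33)) = (LP (LK LD1_c12 LD2_c5 LD3_c51)) :=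
  Lre_c IH (LK LD1_c6 LD2_c13 LD3_c33) (LK LD1_c12 LD2_c5 LD3_c51) Lrfl Lrfl
theorem f617966 : Led Lsl_af (LP (LK LD1_c6 LD2_c13 LD3_c33)) = (LP (LK LD1_c8 LD2_c46 LD3_c37)) :=
  Lgr Lrot68 (Lpr_ct (f443869 IH) (Lpr_at (f445821 IH) (Lpr_ct (f617964 IH) (Lpn (LP (LK LD1_c8 LD2_c46 LD3_c37))))))
theorem f617968 : Led Lsl_dt (LP (LK LD1_c6 LD2_c13 LD3_c33)) = (LP (LK LD1_c8 LD2_c47 LD3_c27)) :=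
  Lgr Lrot44 (Lpr_af (f617966 IH) (Lpr_df (K32.f503088 IH) (Lpe (K55.f453205 IH) (Lpn (LP (LK LD1_c8 LD2_c47 LD3_c27))))))
theorem f445764 : Led Lsl_et (LP (LK LD1_c6 LD2_c13 LD3_c33)) = (LP (LK LD1_c3 LD2_c3 LD3_c37)) :=
  Lre_e IH (LK LD1_c6 LD2_c13 LD3_c33) (LK LD1_c3 LD2_c3 LD3_c37) Lrfl Lrfl
theorem f80397 : Led Lsl_et (LP (LK LD1_c6 LD2_c24 LD3_c48)) = (LP (LK LD1_c12 LD2_c22 LD3_c33)) :=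
  Lre_e IH (LK LD1_c6 LD2_c24 LD3_c48) (LK LD1_c12 LD2_c22 LD3_c33) Lrfl Lrfl
theorem f80389 : Led Lsl_gt (LP (LK LD1_c12 LD2_c22 LD3_c33)) = (LP (LK LD1_c21 LD2_c29 LD3_c18)) :=
  Lre_g IH (LK LD1_c12 LD2_c22 LD3_c33) (LK LD1_c21 LD2_c29 LD3_c18) Lrfl Lrfl
theorem f227476 : Led Lsl_gt (LP (LK LD1_c16 LD2_c27 LD3_c2)) = (LP (LK LD1_c8 LD2_c47 LD3_c27)) :=
  Lre_g IH (LK LD1_c16 LD2_c27 LD3_c2) (LK LD1_c8 LD2_c47 LD3_c27) Lrfl Lrfl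
theorem f617991 : Led Lsl_dt (LP (LK LD1_c21 LD2_c29 LD3_c18)) = (LP (LK LD1_c16 LD2_c27 LD3_c2)) :=
  Lgr Lrot171 (Lpe (f80389 IH) (Lpe (f80397 IH) (Lpr_dt (K46.f80371 IH) (Lpe (K46.f80355 IH) (Lpe (K11.f205493 IH) (Lpr_et (K32.f205532 IH) (Lpr_gf (K35.f506307 IH) (Lpqs (K35.f538655 IH) (Lpe (f445764 IH) (Lpr_dt (f617968 IH) (Lpe (f227476 IH) (Lpn (LP (LK LD1_c16 LD2_c27 LD3_c2))))))))))))))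
theorem f453228 : Led Lsl_ft (LP (LK LD1_c17 LD2_c57 LD3_c23)) = (LP (LK LD1_c9 LD2_c47 LD3_c6)) :=
  Lre_f IH (LK LD1_c17 LD2_c57 LD3_c23) (LK LD1_c9 LD2_c47 LD3_c6) Lrfl Lrfl
theorem f453348 : Led Lsl_at (LP (LK LD1_c9 LD2_c47 LD3_c6)) = (LP (LK LD1_c8 LD2_c47 LD3_c27)) :=
  Lgr Lrot66 (Lpe (f453228 IH) (Lpr_af (K53.f453341 IH) (Lpe (K38.f453243 IH) (Lpn (LP (LK LD1_c8 LD2_c47 LD3_c27))))))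
theorem f453352 : Led Lsl_gt (LP (LK LD1_c17 LD2_c57 LD3_c23)) = (LP (LK LD1_c16 LD2_c27 LD3_c2)) :=
  Lgr Lrot5 (Lpr_ft (f453228 IH) (Lpr_at (f453348 IH) (Lpe (f227476 IH) (Lpn (LP (LK LD1_c16 LD2_c27 LD3_c2))))))
theorem f503095 : Led Lsl_ft (LP (LK LD1_c8 LD2_c46 LD3_c37)) = (LP (LK LD1_c16 LD2_c25 LD3_c15)) :=
  Lre_f IH (LK LD1_c8 LD2_c46 LD3_c37) (LK LD1_c16 LD2_c25 LD3_c15) Lrfl Lrfl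
theorem f503096 : Led Lsl_dt (LP (LK LD1_c16 LD2_c25 LD3_c15)) = (LP (LK LD1_c17 LD2_c57 LD3_c23)) :=
  Lgr Lrot60 (Lpe (f503095 IH) (Lpr_df (K32.f503088 IH) (Lpe (f453228 IH) (Lpn (LP (LK LD1_c17 LD2_c57 LD3_c23))))))
theorem f445771 : Led Lsl_ft (LP (LK LD1_c6 LD2_c13 LD3_c33)) = (LP (LK LD1_c12 LD2_c5 LD3_c54)) :=
  Lre_f IH (LK LD1_c6 LD2_c13 LD3_c33) (LK LD1_c12 LD2_c5 LD3_c54) Lrfl Lrfl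
theorem f503101 : Led Lsl_ft (LP (LK LD1_c16 LD2_c25 LD3_c15)) = (LP (LK LD1_c8 LD2_c46 LD3_c37)) :=
  Lre_f IH (LK LD1_c16 LD2_c25 LD3_c15) (LK LD1_c8 LD2_c46 LD3_c37) Lrfl Lrfl
theorem f617970 : Led Lsl_at (LP (LK LD1_c12 LD2_c5 LD3_c54)) = (LP (LK LD1_c16 LD2_c25 LD3_c15)) :=
  Lgr Lrot66 (Lpe (f445771 IH) (Lpr_af (f617966 IH) (Lpe (f503101 IH) (Lpn (LP (LK LD1_c16 LD2_c25 LD3_c15))))))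
theorem f538700 : Led Lsl_af (LP (LK LD1_c8 LD2_c1 LD3_c20)) = (LP (LK LD1_c12 LD2_c22 LD3_c61)) :=
  Lgr Lrot0 (Lpr_at (K35.f538683 IH) (Lpn (LP (LK LD1_c12 LD2_c22 LD3_c61))))
theorem f617980 : Led Lsl_ef (LP (LK LD1_c12 LD2_c22 LD3_c61)) = (LP (LK LD1_c16 LD2_c25 LD3_c15)) :=
  Lgr Lrot20 (Lpe (f538700 IH) (Lpe (K37.f36683 IH) (Lpr_at (f617970 IH) (Lpn (LP (LK LD1_c16 LD2_c25 LD3_c15))))))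
theorem f617995 : Led Lsl_et (LP (LK LD1_c21 LD2_c29 LD3_c18)) = (LP (LK LD1_c12 LD2_c22 LD3_c53)) :=
  Lgr Lrot121 (Lpr_dt (f617991 IH) (Lpe (f453352 IH) (Lpe (f503096 IH) (Lpe (f617980 IH) (Lpe (f538708 IH) (Lpe (K61.f538717 IH) (Lpe (K61.f558963 IH) (Lpr_gf (K61.f613237 IH) (Lpe (f81131 IH) (Lpe (K55.f613214 IH) (Lpn (LP (LK LD1_c12 LD2_c22 LD3_c53)))))))))))))
theorem f237260 : Led Lsl_gt (LP (LK LD1_c16 LD2_c20 LD3_c45)) = (LP (LK LD1_c8 LD2_c43 LD3_c43)) :=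
  Lre_g IH (LK LD1_c16 LD2_c20 LD3_c45) (LK LD1_c8 LD2_c43 LD3_c43) Lrfl Lrfl
theorem f394697 : Led Lsl_gf (LP (LK LD1_c16 LD2_c20 LD3_c45)) = (LP (LK LD1_c16 LD2_c19 LD3_c25)) :=
  Lgr Lrot47 (Lpr_gt (f237260 IH) (Lpr_af (K39.f346690 IH) (Lpe (K23.f346705 IH) (Lpn (LP (LK LD1_c16 LD2_c19 LD3_c25))))))
theorem f36831 : Led Lsl_gt (LP (LK LD1_c6 LD2_c13 LD3_c33)) = (LP (LK LD1_c12 LD2_c5 LD3_c52)) :=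
  Lre_g IH (LK LD1_c6 LD2_c13 LD3_c33) (LK LD1_c12 LD2_c5 LD3_c52) Lrfl Lrfl
theorem f617982 : Led Lsl_gt (LP (LK LD1_c12 LD2_c5 LD3_c52)) = (LP (LK LD1_c16 LD2_c25 LD3_c15)) :=
  Lgr Lrot46 (Lpe (f36831 IH) (Lpr_ft (f445771 IH) (Lpr_at (f617970 IH) (Lpn (LP (LK LD1_c16 LD2_c25 LD3_c15))))))
theorem f617985 : Led Lsl_et (LP (LK LD1_c21 LD2_c11 LD3_c41)) = (LP (LK LD1_c12 LD2_c5 LD3_c52)) :=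
  Lre_e IH (LK LD1_c21 LD2_c11 LD3_c41) (LK LD1_c12 LD2_c5 LD3_c52) Lrfl Lrfl
theorem f617997 : Led Lsl_df (LP (LK LD1_c16 LD2_c20 LD3_c45)) = (LP (LK LD1_c21 LD2_c11 LD3_c41)) :=
  Lgr Lrot168 (Lpr_gf (f394697 IH) (Lpe (K39.f554558 IH) (Lpe (K39.f81126 IH) (Lpe (K55.f613214 IH) (Lpe (f617995 IH) (Lpr_dt (f617991 IH) (Lpe (f453352 IH) (Lpe (f503096 IH) (Lpe (f617982 IH) (Lpe (f617985 IH) (Lpn (LP (LK LD1_c21 LD2_c11 LD3_c41)))))))))))))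
theorem f617999 : Led Lsl_dt (LP (LK LD1_c16 LD2_c20 LD3_c45)) = (LP (LK LD1_c21 LD2_c11 LD3_c41)) :=
  Lgr Lrot42 (Lpr_df (f617997 IH) (Lpn (LP (LK LD1_c21 LD2_c11 LD3_c41))))
theorem f394687 : Led Lsl_et (LP (LK LD1_c16 LD2_c20 LD3_c48)) = (LP (LK LD1_c16 LD2_c19 LD3_c25)) :=
  Lgr Lrot123 (Lpe (K37.f346716 IH) (Lpr_ef (K37.f346743 IH) (Lpr_af (K23.f346694 IH) (Lpn (LP (LK LD1_c16 LD2_c19 LD3_c25))))))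
theorem f346871 : Led Lsl_af (LP (LK LD1_c16 LD2_c12 LD3_c11)) = (LP (LK LD1_c16 LD2_c10 LD3_c51)) :=
  Lgr Lrot0 (Lpr_at (K37.f346867 IH) (Lpn (LP (LK LD1_c16 LD2_c10 LD3_c51))))
theorem f346897 : Led Lsl_gf (LP (LK LD1_c16 LD2_c12 LD3_c11)) = (LP (LK LD1_c16 LD2_c10 LD3_c49)) :=
  Lgr Lrot76 (Lpr_af (f346871 IH) (Lpe (K37.f346791 IH) (Lpr_gt (K61.f346835 IH) (Lpn (LP (LK LD1_c16 LD2_c10 LD3_c49))))))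
theorem f30169 : Led Lsl_dt (LP (LK LD1_c15 LD2_c7 LD3_c46)) = (LP (LK LD1_c24 LD2_c56 LD3_c37)) :=
  Lre_d IH (LK LD1_c15 LD2_c7 LD3_c46) (LK LD1_c24 LD2_c56 LD3_c37) Lrfl Lrfl
theorem f609212 : Led Lsl_ff (LP (LK LD1_c24 LD2_c54 LD3_c10)) = (LP (LK LD1_c24 LD2_c56 LD3_c37)) :=
  Lgr Lrot19 (Lpr_dt (K40.f30206 IH) (Lpr_ft (K47.f609209 IH) (Lpr_dt (f30169 IH) (Lpn (LP (LK LD1_c24 LD2_c56 LD3_c37))))))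
theorem f609196 : Led Lsl_at (LP (LK LD1_c24 LD2_c54 LD3_c10)) = (LP (LK LD1_c24 LD2_c56 LD3_c40)) :=
  Lgr Lrot100 (Lpr_af (K47.f609194 IH) (Lpn (LP (LK LD1_c24 LD2_c56 LD3_c40))))
theorem f193705 : Led Lsl_gt (LP (LK LD1_c8 LD2_c43 LD3_c46)) = (LP (LK LD1_c4 LD2_c22 LD3_c58)) :=
  Lre_g IH (LK LD1_c8 LD2_c43 LD3_c46) (LK LD1_c4 LD2_c22 LD3_c58) Lrfl Lrfl
theorem f241737 : Led Lsl_et (LP (LK LD1_c16 LD2_c20 LD3_c56)) = (LP (LK LD1_c8 LD2_c43 LD3_c46)) :=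
  Lre_e IH (LK LD1_c16 LD2_c20 LD3_c56) (LK LD1_c8 LD2_c43 LD3_c46) Lrfl Lrfl
theorem f241738 : Led Lsl_dt (LP (LK LD1_c16 LD2_c20 LD3_c56)) = (LP (LK LD1_c26 LD2_c18 LD3_c54)) :=
  Lre_d IH (LK LD1_c16 LD2_c20 LD3_c56) (LK LD1_c26 LD2_c18 LD3_c54) Lrfl Lrfl
theorem f421566 : Led Lsl_gt (LP (LK LD1_c24 LD2_c56 LD3_c37)) = (LP (LK LD1_c26 LD2_c18 LD3_c54)) :=
  Lgr Lrot139 (Lpe (f30169 IH) (Lpe (K37.f30164 IH) (Lpe (K37.f30198 IH) (Lpr_dt (K12.f29355 IH) (Lpr_gf (K10.f193688 IH) (Lpe (K13.f181782 IH) (Lpr_et (K47.f193693 IH) (Lpe (f193705 IH) (Lpe (f241737 IH) (Lpr_dt (f241738 IH) (Lpn (LP (LK LD1_c26 LD2_c18 LD3_c54)))))))))))))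
theorem f611175 : Led Lsl_gf (LP (LK LD1_c24 LD2_c56 LD3_c40)) = (LP (LK LD1_c26 LD2_c18 LD3_c54)) :=
  Lgr Lrot76 (Lpe (f609196 IH) (Lpr_ff (f609212 IH) (Lpr_gt (f421566 IH) (Lpn (LP (LK LD1_c26 LD2_c18 LD3_c54))))))
theorem f241729 : Led Lsl_gf (LP (LK LD1_c8 LD2_c43 LD3_c46)) = (LP (LK LD1_c14 LD2_c58 LD3_c32)) :=
  Lgr Lrot47 (Lpr_gt (f193705 IH) (Lpr_af (K13.f241717 IH) (Lpe (K13.f241353 IH) (Lpn (LP (LK LD1_c14 LD2_c58 LD3_c32))))))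
theorem f241615 : Led Lsl_ef (LP (LK LD1_c14 LD2_c58 LD3_c32)) = (LP (LK LD1_c8 LD2_c43 LD3_c59)) :=
  Lgr Lrot21 (Lpr_ft (K13.f241353 IH) (Lpr_et (K13.f238827 IH) (Lpr_ft (K13.f241609 IH) (Lpr_et (K61.f237632 IH) (Lpr_ft (K13.f237668 IH) (Lpn (LP (LK LD1_c8 LD2_c43 LD3_c59))))))))
theorem f611177 : Led Lsl_gt (LP (LK LD1_c24 LD2_c56 LD3_c41)) = (LP (LK LD1_c22 LD2_c28 LD3_c36)) :=
  Lgr Lrot137 (Lpe (K61.f237661 IH) (Lpr_dt (K47.f30183 IH) (Lpr_gf (f611175 IH) (Lpe (f241738 IH) (Lpr_et (f241737 IH) (Lpr_gf (f241729 IH) (Lpr_ef (f241615 IH) (Lpe (K39.f552877 IH) (Lpe (K29.f455432 IH) (Lpe (K61.f464997 IH) (Lpn (LP (LK LD1_c22 LD2_c28 LD3_c36)))))))))))))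
theorem f610875 : Led Lsl_ft (LP (LK LD1_c24 LD2_c56 LD3_c41)) = (LP (LK LD1_c23 LD2_c6 LD3_c8)) :=
  Lgr Lrot48 (Lpr_ff (K61.f610871 IH) (Lpn (LP (LK LD1_c23 LD2_c6 LD3_c8))))
theorem f611179 : Led Lsl_gf (LP (LK LD1_c14 LD2_c43 LD3_c4)) = (LP (LK LD1_c22 LD2_c28 LD3_c36)) :=
  Lgr Lrot76 (Lpr_af (K61.f610866 IH) (Lpe (f610875 IH) (Lpr_gt (f611177 IH) (Lpn (LP (LK LD1_c22 LD2_c28 LD3_c36))))))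
theorem f618014 : Led Lsl_gf (LP (LK LD1_c23 LD2_c3 LD3_c32)) = (LP (LK LD1_c21 LD2_c11 LD3_c41)) :=
  Lgr Lrot134 (Lpr_df (f554569 IH) (Lpe (K61.f554571 IH) (Lpe (f611179 IH) (Lpe (K61.f610870 IH) (Lpr_dt (K61.f610901 IH) (Lpe (f346897 IH) (Lpr_df (K37.f346873 IH) (Lpr_et (f394687 IH) (Lpe (f394697 IH) (Lpr_dt (f617999 IH) (Lpn (LP (LK LD1_c21 LD2_c11 LD3_c41)))))))))))))
theorem f70258 : Led Lsl_et (LP (LK LD1_c16 LD2_c25 LD3_c0)) = (LP (LK LD1_c8 LD2_c46 LD3_c28)) :=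
  Lre_e IH (LK LD1_c16 LD2_c25 LD3_c0) (LK LD1_c8 LD2_c46 LD3_c28) Lrfl Lrfl
theorem f70267 : Led Lsl_dt (LP (LK LD1_c17 LD2_c57 LD3_c10)) = (LP (LK LD1_c16 LD2_c25 LD3_c0)) :=
  Lgr Lrot77 (Lpe (f70265 IH) (Lpr_df (K6.f70239 IH) (Lpe (K50.f70252 IH) (Lpe (K43.f70266 IH) (Lpe (f70258 IH) (Lpn (LP (LK LD1_c16 LD2_c25 LD3_c0))))))))
theorem f70403 : Led Lsl_df (LP (LK LD1_c17 LD2_c57 LD3_c10)) = (LP (LK LD1_c16 LD2_c25 LD3_c0)) :=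
  Lgr Lrot38 (Lpr_dt (f70267 IH) (Lpn (LP (LK LD1_c16 LD2_c25 LD3_c0))))
theorem f618002 : Led Lsl_et (LP (LK LD1_c12 LD2_c5 LD3_c52)) = (LP (LK LD1_c21 LD2_c11 LD3_c41)) :=
  Lre_e IH (LK LD1_c12 LD2_c5 LD3_c52) (LK LD1_c21 LD2_c11 LD3_c41) Lrfl Lrfl
theorem f445735 : Led Lsl_dt (LP (LK LD1_c12 LD2_c5 LD3_c52)) = (LP (LK LD1_c21 LD2_c11 LD3_c40)) :=
  Lre_d IH (LK LD1_c12 LD2_c5 LD3_c52) (LK LD1_c21 LD2_c11 LD3_c40) Lrfl Lrfl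
theorem f618016 : Led Lsl_gt (LP (LK LD1_c17 LD2_c57 LD3_c10)) = (LP (LK LD1_c21 LD2_c11 LD3_c40)) :=
  Lgr Lrot112 (Lpr_df (f70403 IH) (Lpr_et (f70258 IH) (Lpe (K61.f70412 IH) (Lpr_ef (K61.f558919 IH) (Lpr_dt (K61.f554563 IH) (Lpe (K61.f445114 IH) (Lpe (K61.f554573 IH) (Lpr_gf (f618014 IH) (Lpe (f618002 IH) (Lpr_dt (f445735 IH) (Lpn (LP (LK LD1_c21 LD2_c11 LD3_c40)))))))))))))
theorem f618003 : Led Lsl_et (LP (LK LD1_c29 LD2_c53 LD3_c43)) = (LP (LK LD1_c21 LD2_c11 LD3_c40)) :=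
  Lre_e IH (LK LD1_c29 LD2_c53 LD3_c43) (LK LD1_c21 LD2_c11 LD3_c40) Lrfl Lrfl
theorem f618001 : Led Lsl_et (LP (LK LD1_c16 LD2_c20 LD3_c45)) = (LP (LK LD1_c26 LD2_c18 LD3_c44)) :=
  Lre_e IH (LK LD1_c16 LD2_c20 LD3_c45) (LK LD1_c26 LD2_c18 LD3_c44) Lrfl Lrfl
theorem f617984 : Led Lsl_dt (LP (LK LD1_c21 LD2_c11 LD3_c40)) = (LP (LK LD1_c12 LD2_c5 LD3_c52)) :=
  Lre_d IH (LK LD1_c21 LD2_c11 LD3_c40) (LK LD1_c12 LD2_c5 LD3_c52) Lrfl Lrfl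
theorem f618004 : Led Lsl_dt (LP (LK LD1_c26 LD2_c18 LD3_c44)) = (LP (LK LD1_c29 LD2_c53 LD3_c43)) :=
  Lgr Lrot77 (Lpe (f618001 IH) (Lpr_df (f617997 IH) (Lpe (f618002 IH) (Lpe (f617984 IH) (Lpe (f618003 IH) (Lpn (LP (LK LD1_c29 LD2_c53 LD3_c43))))))))
theorem f618006 : Led Lsl_df (LP (LK LD1_c26 LD2_c18 LD3_c44)) = (LP (LK LD1_c29 LD2_c53 LD3_c43)) :=
  Lgr Lrot38 (Lpr_dt (f618004 IH) (Lpn (LP (LK LD1_c29 LD2_c53 LD3_c43))))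
theorem f697517 : Led Lsl_gf (LP (LK LD1_c24 LD2_c54 LD3_c34)) = (LP (LK LD1_c26 LD2_c18 LD3_c44)) :=
  Lgr Lrot145 (Lpr_df (K61.f272889 IH) (Lpe (K40.f272891 IH) (Lpe (K61.f697515 IH) (Lpr_dt (K61.f697511 IH) (Lpr_gt (K6.f70253 IH) (Lpe (K61.f70263 IH) (Lpr_et (f70265 IH) (Lpr_gt (f618016 IH) (Lpe (f618003 IH) (Lpe (f618006 IH) (Lpn (LP (LK LD1_c26 LD2_c18 LD3_c44)))))))))))))
theorem f763629 : Led Lsl_gf (LP (LK LD1_c21 LD2_c11 LD3_c41)) = (LP (LK LD1_c26 LD2_c21 LD3_c60)) :=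
  Lgr Lrot134 (Lpe (f617999 IH) (Lpr_et (f618001 IH) (Lpe (f697517 IH) (Lpe (K40.f35840 IH) (Lpr_dt (K37.f35838 IH) (Lpe (K37.f445104 IH) (Lpe (K37.f30647 IH) (Lpr_et (K61.f408131 IH) (Lpr_gt (f445112 IH) (Lpr_dt (f763623 IH) (Lpn (LP (LK LD1_c26 LD2_c21 LD3_c60)))))))))))))
theorem f418124 : Led Lsl_ef (LP (LK LD1_c17 LD2_c54 LD3_c35)) = (LP (LK LD1_c15 LD2_c13 LD3_c45)) :=
  Lgr Lrot88 (Lpr_et (K47.f418122 IH) (Lpn (LP (LK LD1_c15 LD2_c13 LD3_c45))))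
theorem f160622 : Led Lsl_gt (LP (LK LD1_c24 LD2_c54 LD3_c11)) = (LP (LK LD1_c24 LD2_c54 LD3_c29)) :=
  Lre_g IH (LK LD1_c24 LD2_c54 LD3_c11) (LK LD1_c24 LD2_c54 LD3_c29) Lrfl Lrfl
theorem f160623 : Led Lsl_dt (LP (LK LD1_c24 LD2_c54 LD3_c29)) = (LP (LK LD1_c15 LD2_c6 LD3_c21)) :=
  Lre_d IH (LK LD1_c24 LD2_c54 LD3_c29) (LK LD1_c15 LD2_c6 LD3_c21) Lrfl Lrfl
theorem f554026 : Led Lsl_gt (LP (LK LD1_c15 LD2_c6 LD3_c21)) = (LP (LK LD1_c24 LD2_c54 LD3_c28)) :=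
  Lre_g IH (LK LD1_c15 LD2_c6 LD3_c21) (LK LD1_c24 LD2_c54 LD3_c28) Lrfl Lrfl
theorem f607950 : Led Lsl_dt (LP (LK LD1_c15 LD2_c13 LD3_c45)) = (LP (LK LD1_c24 LD2_c54 LD3_c28)) :=
  Lgr Lrot56 (Lpe (f418124 IH) (Lpe (f406952 IH) (Lpe (f81462 IH) (Lpe (K40.f81460 IH) (Lpr_gt (f607945 IH) (Lpe (f80840 IH) (Lpe (f554022 IH) (Lpr_gt (f160622 IH) (Lpr_dt (f160623 IH) (Lpr_gt (f554026 IH) (Lpn (LP (LK LD1_c24 LD2_c54 LD3_c28)))))))))))))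
theorem f607952 : Led Lsl_df (LP (LK LD1_c15 LD2_c13 LD3_c45)) = (LP (LK LD1_c24 LD2_c54 LD3_c28)) :=
  Lgr Lrot38 (Lpr_dt (f607950 IH) (Lpn (LP (LK LD1_c24 LD2_c54 LD3_c28))))
theorem f763631 : Led Lsl_et (LP (LK LD1_c24 LD2_c54 LD3_c28)) = (LP (LK LD1_c26 LD2_c21 LD3_c60)) :=
  Lgr Lrot121 (Lpe (f607952 IH) (Lpe (K47.f193421 IH) (Lpr_df (K35.f538637 IH) (Lpr_et (K35.f160652 IH) (Lpe (K42.f552227 IH) (Lpe (K37.f239209 IH) (Lpe (K37.f239214 IH) (Lpe (f237260 IH) (Lpr_df (f617997 IH) (Lpr_gf (f763629 IH) (Lpn (LP (LK LD1_c26 LD2_c21 LD3_c60)))))))))))))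
theorem f81279 : Led Lsl_bt (LP (LK LD1_c26 LD2_c21 LD3_c60)) = (LP (LK LD1_c16 LD2_c24 LD3_c12)) :=
  Lre_b IH (LK LD1_c26 LD2_c21 LD3_c60) (LK LD1_c16 LD2_c24 LD3_c12) Lrfl Lrfl
theorem f697543 : Led Lsl_ft (LP (LK LD1_c8 LD2_c51 LD3_c20)) = (LP (LK LD1_c12 LD2_c22 LD3_c34)) :=
  Lgr Lrot48 (Lpr_ff (f697535 IH) (Lpn (LP (LK LD1_c12 LD2_c22 LD3_c34))))
theorem f697547 : Led Lsl_cf (LP (LK LD1_c8 LD2_c51 LD3_c25)) = (LP (LK LD1_c12 LD2_c22 LD3_c34)) :=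
  Lgr Lrot108 (Lpr_ft (K50.f617217 IH) (Lpr_ct (K62.f99365 IH) (Lpr_ft (f697543 IH) (Lpn (LP (LK LD1_c12 LD2_c22 LD3_c34))))))
theorem f756649 : Led Lsl_cf (LP (LK LD1_c9 LD2_c19 LD3_c34)) = K57.v17200 :=
  Lgr Lrot39 (Lpr_et (K11.f56619 IH) (Lpe (K47.f543429 IH) (Lpr_et (K57.f756648 IH) (Lpn K57.v17200))))
theorem f37643 : Led Lsl_ct (LP (LK LD1_c8 LD2_c47 LD3_c24)) = (LP (LK LD1_c4 LD2_c24 LD3_c56)) :=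
  Lre_c IH (LK LD1_c8 LD2_c47 LD3_c24) (LK LD1_c4 LD2_c24 LD3_c56) Lrfl Lrfl
theorem f37646 : Led Lsl_gt (LP (LK LD1_c16 LD2_c26 LD3_c58)) = (LP (LK LD1_c8 LD2_c47 LD3_c24)) :=
  Lre_g IH (LK LD1_c16 LD2_c26 LD3_c58) (LK LD1_c8 LD2_c47 LD3_c24) Lrfl Lrfl
theorem f408100 : Led Lsl_cf (LP (LK LD1_c16 LD2_c26 LD3_c58)) = (LP (LK LD1_c8 LD2_c48 LD3_c37)) :=
  Lgr Lrot169 (Lpr_gt (f37646 IH) (Lpr_ct (f37643 IH) (Lpe (f35846 IH) (Lpr_cf (K4.f99383 IH) (Lpe (K37.f70554 IH) (Lpr_cf (K43.f408096 IH) (Lpr_gf (K43.f38282 IH) (Lpe (K2.f35741 IH) (Lpe (K11.f38453 IH) (Lpn (LP (LK LD1_c8 LD2_c48 LD3_c37))))))))))))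
theorem f408112 : Led Lsl_ct (LP (LK LD1_c16 LD2_c26 LD3_c58)) = (LP (LK LD1_c8 LD2_c48 LD3_c37)) :=
  Lgr Lrot59 (Lpr_cf (f408100 IH) (Lpn (LP (LK LD1_c8 LD2_c48 LD3_c37))))
theorem f37647 : Led Lsl_gt (LP (LK LD1_c17 LD2_c57 LD3_c13)) = (LP (LK LD1_c16 LD2_c26 LD3_c58)) :=
  Lgr Lrot5 (Lpr_ft (K1.f37629 IH) (Lpr_at (K1.f37631 IH) (Lpe (f37646 IH) (Lpn (LP (LK LD1_c16 LD2_c26 LD3_c58))))))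
theorem f37636 : Led Lsl_ct (LP (LK LD1_c9 LD2_c47 LD3_c2)) = (LP (LK LD1_c17 LD2_c57 LD3_c13)) :=
  Lre_c IH (LK LD1_c9 LD2_c47 LD3_c2) (LK LD1_c17 LD2_c57 LD3_c13) Lrfl Lrfl
theorem f240015 : Led Lsl_dt (LP (LK LD1_c24 LD2_c59 LD3_c51)) = (LP (LK LD1_c15 LD2_c10 LD3_c31)) :=
  Lre_d IH (LK LD1_c24 LD2_c59 LD3_c51) (LK LD1_c15 LD2_c10 LD3_c31) Lrfl Lrfl
theorem f297187 : Led Lsl_af (LP (LK LD1_c24 LD2_c59 LD3_c51)) = (LP (LK LD1_c25 LD2_c2 LD3_c10)) :=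
  Lgr Lrot0 (Lpr_at (K18.f297183 IH) (Lpn (LP (LK LD1_c25 LD2_c2 LD3_c10))))
theorem f193850 : Led Lsl_gt (LP (LK LD1_c15 LD2_c13 LD3_c10)) = (LP (LK LD1_c25 LD2_c2 LD3_c7)) :=
  Lre_g IH (LK LD1_c15 LD2_c13 LD3_c10) (LK LD1_c25 LD2_c2 LD3_c7) Lrfl Lrfl
theorem f407014 : Led Lsl_gf (LP (LK LD1_c24 LD2_c59 LD3_c51)) = (LP (LK LD1_c25 LD2_c2 LD3_c7)) :=
  Lgr Lrot76 (Lpr_af (f297187 IH) (Lpe (K61.f193849 IH) (Lpr_gt (f193850 IH) (Lpn (LP (LK LD1_c25 LD2_c2 LD3_c7))))))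
theorem f36071 : Led Lsl_gt (LP (LK LD1_c16 LD2_c12 LD3_c25)) = (LP (LK LD1_c8 LD2_c39 LD3_c10)) :=
  Lre_g IH (LK LD1_c16 LD2_c12 LD3_c25) (LK LD1_c8 LD2_c39 LD3_c10) Lrfl Lrfl
theorem f36072 : Led Lsl_dt (LP (LK LD1_c26 LD2_c9 LD3_c7)) = (LP (LK LD1_c16 LD2_c12 LD3_c25)) :=
  Lre_d IH (LK LD1_c26 LD2_c9 LD3_c7) (LK LD1_c16 LD2_c12 LD3_c25) Lrfl Lrfl
theorem f272833 : Led Lsl_ef (LP (LK LD1_c25 LD2_c2 LD3_c7)) = (LP (LK LD1_c26 LD2_c9 LD3_c7)) :=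
  Lgr Lrot17 (Lpe (f193850 IH) (Lpe (K18.f193887 IH) (Lpr_dt (K10.f81210 IH) (Lpe (K12.f211669 IH) (Lpr_df (K12.f227550 IH) (Lpr_gf (K41.f272725 IH) (Lpe (K1.f35798 IH) (Lpe (K1.f35808 IH) (Lpe (f36071 IH) (Lpe (f36072 IH) (Lpn (LP (LK LD1_c26 LD2_c9 LD3_c7)))))))))))))
theorem f297220 : Led Lsl_ef (LP (LK LD1_c24 LD2_c59 LD3_c51)) = (LP (LK LD1_c24 LD2_c45 LD3_c57)) :=
  Lgr Lrot21 (Lpr_ft (K47.f240020 IH) (Lpr_et (K18.f211634 IH) (Lpr_ft (K18.f297214 IH) (Lpr_et (K40.f211114 IH) (Lpr_ft (K61.f236792 IH) (Lpn (LP (LK LD1_c24 LD2_c45 LD3_c57))))))))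
theorem f407016 : Led Lsl_gt (LP (LK LD1_c16 LD2_c11 LD3_c2)) = (LP (LK LD1_c16 LD2_c12 LD3_c25)) :=
  Lgr Lrot139 (Lpr_df (K2.f37484 IH) (Lpr_gf (K61.f37605 IH) (Lpe (K61.f272729 IH) (Lpr_dt (K61.f272569 IH) (Lpr_gf (K61.f406963 IH) (Lpe (K61.f236812 IH) (Lpe (f297220 IH) (Lpr_gf (f407014 IH) (Lpr_ef (f272833 IH) (Lpr_dt (f36072 IH) (Lpn (LP (LK LD1_c16 LD2_c12 LD3_c25)))))))))))))
theorem f408543 : Led Lsl_gf (LP (LK LD1_c9 LD2_c47 LD3_c2)) = (LP (LK LD1_c8 LD2_c47 LD3_c22)) :=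
  Lgr Lrot141 (Lpe (K1.f37478 IH) (Lpe (K2.f37484 IH) (Lpr_gt (f407016 IH) (Lpe (f36072 IH) (Lpe (f272833 IH) (Lpe (f407014 IH) (Lpr_dt (f240015 IH) (Lpr_gt (f408541 IH) (Lpe (f272515 IH) (Lpr_et (f272514 IH) (Lpn (LP (LK LD1_c8 LD2_c47 LD3_c22)))))))))))))
theorem f763197 : Led Lsl_df (LP (LK LD1_c16 LD2_c25 LD3_c2)) = (LP (LK LD1_c8 LD2_c47 LD3_c22)) :=
  Lgr Lrot155 (Lpr_gt (f763191 IH) (Lpe (f697547 IH) (Lpr_gt (K57.f756652 IH) (Lpe (f756649 IH) (Lpe (K11.f69489 IH) (Lpe (f408112 IH) (Lpe (f37647 IH) (Lpe (f37636 IH) (Lpr_gf (f408543 IH) (Lpn (LP (LK LD1_c8 LD2_c47 LD3_c22))))))))))))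
theorem f35788 : Led Lsl_df (LP (LK LD1_c4 LD2_c20 LD3_c44)) = (LP (LK LD1_c3 LD2_c57 LD3_c45)) :=
  Lgr Lrot70 (Lpr_et (K0.f31969 IH) (Lpr_dt (K0.f28653 IH) (Lpr_et (K1.f35779 IH) (Lpr_dt (K1.f35598 IH) (Lpr_et (K2.f35602 IH) (Lpn (LP (LK LD1_c3 LD2_c57 LD3_c45))))))))
theorem f31948 : Led Lsl_gt (LP (LK LD1_c4 LD2_c20 LD3_c44)) = (LP (LK LD1_c8 LD2_c39 LD3_c7)) :=
  Lre_g IH (LK LD1_c4 LD2_c20 LD3_c44) (LK LD1_c8 LD2_c39 LD3_c7) Lrfl Lrfl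
theorem f31949 : Led Lsl_gt (LP (LK LD1_c8 LD2_c39 LD3_c7)) = (LP (LK LD1_c8 LD2_c38 LD3_c29)) :=
  Lgr Lrot46 (Lpe (f31948 IH) (Lpr_ft (K0.f31944 IH) (Lpr_at (K0.f31932 IH) (Lpn (LP (LK LD1_c8 LD2_c38 LD3_c29))))))
theorem f35354 : Led Lsl_gt (LP (LK LD1_c8 LD2_c1 LD3_c26)) = (LP (LK LD1_c15 LD2_c6 LD3_c36)) :=
  Lre_g IH (LK LD1_c8 LD2_c1 LD3_c26) (LK LD1_c15 LD2_c6 LD3_c36) Lrfl Lrfl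
theorem f406972 : Led Lsl_df (LP (LK LD1_c8 LD2_c39 LD3_c7)) = (LP (LK LD1_c15 LD2_c6 LD3_c36)) :=
  Lgr Lrot135 (Lpr_gt (f31949 IH) (Lpe (K1.f34814 IH) (Lpr_et (K6.f37468 IH) (Lpr_gt (K61.f406969 IH) (Lpe (K37.f35831 IH) (Lpe (K37.f35832 IH) (Lpr_gt (K40.f272908 IH) (Lpe (K40.f30107 IH) (Lpr_et (K37.f70606 IH) (Lpr_gt (f35354 IH) (Lpn (LP (LK LD1_c15 LD2_c6 LD3_c36)))))))))))))
theorem f406974 : Led Lsl_dt (LP (LK LD1_c8 LD2_c39 LD3_c7)) = (LP (LK LD1_c15 LD2_c6 LD3_c36)) :=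
  Lgr Lrot42 (Lpr_df (f406972 IH) (Lpn (LP (LK LD1_c15 LD2_c6 LD3_c36))))
theorem f763242 : Led Lsl_cf (LP (LK LD1_c16 LD2_c25 LD3_c2)) = (LP (LK LD1_c15 LD2_c6 LD3_c36)) :=
  Lgr Lrot14 (Lpr_df (f763197 IH) (Lpe (f35847 IH) (Lpe (f35846 IH) (Lpe (K37.f35830 IH) (Lpr_ct (K61.f443147 IH) (Lpr_gt (K37.f35690 IH) (Lpe (f35788 IH) (Lpr_gt (f31948 IH) (Lpr_dt (f406974 IH) (Lpn (LP (LK LD1_c15 LD2_c6 LD3_c36))))))))))))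
theorem f763236 : Led Lsl_et (LP (LK LD1_c16 LD2_c25 LD3_c2)) = (LP (LK LD1_c12 LD2_c22 LD3_c43)) :=
  Lgr Lrot71 (Lpr_df (f763197 IH) (Lpe (f272514 IH) (Lpr_df (f272521 IH) (Lpr_ef (f763128 IH) (Lpe (f81280 IH) (Lpn (LP (LK LD1_c12 LD2_c22 LD3_c43))))))))
theorem f81266 : Led Lsl_ft (LP (LK LD1_c16 LD2_c24 LD3_c12)) = (LP (LK LD1_c8 LD2_c45 LD3_c59)) :=
  Lre_f IH (LK LD1_c16 LD2_c24 LD3_c12) (LK LD1_c8 LD2_c45 LD3_c59) Lrfl Lrfl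
theorem f81267 : Led Lsl_ct (LP (LK LD1_c12 LD2_c22 LD3_c43)) = (LP (LK LD1_c16 LD2_c24 LD3_c12)) :=
  Lgr Lrot40 (Lpe (K47.f81265 IH) (Lpr_cf (K46.f81248 IH) (Lpe (f81266 IH) (Lpn (LP (LK LD1_c16 LD2_c24 LD3_c12))))))
theorem f763252 : Led Lsl_et (LP (LK LD1_c16 LD2_c24 LD3_c12)) = (LP (LK LD1_c15 LD2_c6 LD3_c36)) :=
  Lgr Lrot158 (Lpe (f81267 IH) (Lpe (f763236 IH) (Lpr_cf (f763242 IH) (Lpn (LP (LK LD1_c15 LD2_c6 LD3_c36))))))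
theorem f763633 : Led Lsl_bf (LP (LK LD1_c24 LD2_c54 LD3_c28)) = (LP (LK LD1_c15 LD2_c6 LD3_c36)) :=
  Lgr Lrot96 (Lpr_et (f763631 IH) (Lpr_bt (f81279 IH) (Lpr_et (f763252 IH) (Lpn (LP (LK LD1_c15 LD2_c6 LD3_c36))))))
theorem f763254 : Led Lsl_ft (LP (LK LD1_c14 LD2_c59 LD3_c30)) = (LP (LK LD1_c15 LD2_c6 LD3_c36)) :=
  Lgr Lrot4 (Lpr_cf (K50.f561098 IH) (Lpe (f70269 IH) (Lpr_cf (f763242 IH) (Lpn (LP (LK LD1_c15 LD2_c6 LD3_c36))))))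
theorem f544178 : Led Lsl_et (LP (LK LD1_c23 LD2_c3 LD3_c30)) = (LP (LK LD1_c13 LD2_c38 LD3_c22)) :=
  Lre_e IH (LK LD1_c23 LD2_c3 LD3_c30) (LK LD1_c13 LD2_c38 LD3_c22) Lrfl Lrfl
theorem f70207 : Led Lsl_et (LP (LK LD1_c7 LD2_c56 LD3_c45)) = (LP (LK LD1_c14 LD2_c59 LD3_c30)) :=
  Lre_e IH (LK LD1_c7 LD2_c56 LD3_c45) (LK LD1_c14 LD2_c59 LD3_c30) Lrfl Lrfl
theorem f617730 : Led Lsl_bf (LP (LK LD1_c23 LD2_c3 LD3_c30)) = (LP (LK LD1_c14 LD2_c59 LD3_c30)) :=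
  Lgr Lrot96 (Lpr_et (f544178 IH) (Lpr_bt (K55.f617725 IH) (Lpr_et (f70207 IH) (Lpn (LP (LK LD1_c14 LD2_c59 LD3_c30))))))
theorem f617732 : Led Lsl_bt (LP (LK LD1_c23 LD2_c3 LD3_c30)) = (LP (LK LD1_c14 LD2_c59 LD3_c30)) :=
  Lgr Lrot127 (Lpr_bf (f617730 IH) (Lpn (LP (LK LD1_c14 LD2_c59 LD3_c30))))
theorem f763639 : Led Lsl_ft (LP (LK LD1_c24 LD2_c54 LD3_c28)) = (LP (LK LD1_c23 LD2_c3 LD3_c30)) :=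
  Lgr Lrot75 (Lpr_bf (f763633 IH) (Lpe (f763254 IH) (Lpe (f617732 IH) (Lpn (LP (LK LD1_c23 LD2_c3 LD3_c30))))))
theorem f763647 : Led Lsl_ff (LP (LK LD1_c24 LD2_c54 LD3_c28)) = (LP (LK LD1_c23 LD2_c3 LD3_c30)) :=
  Lgr Lrot3 (Lpr_ft (f763639 IH) (Lpn (LP (LK LD1_c23 LD2_c3 LD3_c30))))
theorem f544169 : Led Lsl_ct (LP (LK LD1_c4 LD2_c24 LD3_c31)) = (LP (LK LD1_c7 LD2_c23 LD3_c3)) :=
  Lgr Lrot59 (Lpr_cf (K37.f544167 IH) (Lpn (LP (LK LD1_c7 LD2_c23 LD3_c3))))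
theorem f552170 : Led Lsl_gf (LP (LK LD1_c3 LD2_c10 LD3_c4)) = (LP (LK LD1_c4 LD2_c0 LD3_c6)) :=
  Lgr Lrot148 (Lpr_dt (K37.f205622 IH) (Lpe (K13.f205620 IH) (Lpr_dt (K35.f205612 IH) (Lpr_ct (f544169 IH) (Lpe (K61.f147186 IH) (Lpr_gf (K32.f147345 IH) (Lpe (f552168 IH) (Lpr_gf (K39.f552162 IH) (Lpe (K37.f159776 IH) (Lpn (LP (LK LD1_c4 LD2_c0 LD3_c6))))))))))))
theorem f142245 : Led Lsl_et (LP (LK LD1_c8 LD2_c1 LD3_c14)) = (LP (LK LD1_c4 LD2_c0 LD3_c6)) :=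
  Lre_e IH (LK LD1_c8 LD2_c1 LD3_c14) (LK LD1_c4 LD2_c0 LD3_c6) Lrfl Lrfl
theorem f197230 : Led Lsl_gt (LP (LK LD1_c15 LD2_c10 LD3_c40)) = (LP (LK LD1_c8 LD2_c3 LD3_c47)) :=
  Lre_g IH (LK LD1_c15 LD2_c10 LD3_c40) (LK LD1_c8 LD2_c3 LD3_c47) Lrfl Lrfl
theorem f619356 : Led Lsl_dt (LP (LK LD1_c23 LD2_c3 LD3_c30)) = (LP (LK LD1_c15 LD2_c10 LD3_c40)) :=
  Lgr Lrot136 (Lpr_et (f544178 IH) (Lpe (K55.f463779 IH) (Lpe (K37.f544171 IH) (Lpr_dt (K11.f80657 IH) (Lpr_gf (K13.f205620 IH) (Lpe (K37.f205622 IH) (Lpr_gf (f552170 IH) (Lpe (f142245 IH) (Lpe (K35.f538627 IH) (Lpe (f197230 IH) (Lpn (LP (LK LD1_c15 LD2_c10 LD3_c40)))))))))))))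
theorem f619360 : Led Lsl_df (LP (LK LD1_c23 LD2_c3 LD3_c30)) = (LP (LK LD1_c15 LD2_c10 LD3_c40)) :=
  Lgr Lrot38 (Lpr_dt (f619356 IH) (Lpn (LP (LK LD1_c15 LD2_c10 LD3_c40))))
theorem f763651 : Led Lsl_ft (LP (LK LD1_c15 LD2_c13 LD3_c45)) = (LP (LK LD1_c15 LD2_c10 LD3_c40)) :=
  Lgr Lrot54 (Lpr_df (f607952 IH) (Lpr_ff (f763647 IH) (Lpr_df (f619360 IH) (Lpn (LP (LK LD1_c15 LD2_c10 LD3_c40))))))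
theorem f621954 : Led Lsl_et (LP (LK LD1_c23 LD2_c14 LD3_c31)) = (LP (LK LD1_c15 LD2_c10 LD3_c40)) :=
  Lgr Lrot71 (Lpr_df (f621950 IH) (Lpr_ef (f617745 IH) (Lpe (K55.f617743 IH) (Lpe (f544178 IH) (Lpr_df (f619360 IH) (Lpn (LP (LK LD1_c15 LD2_c10 LD3_c40))))))))
theorem f621958 : Led Lsl_ef (LP (LK LD1_c23 LD2_c14 LD3_c31)) = (LP (LK LD1_c15 LD2_c10 LD3_c40)) :=
  Lgr Lrot88 (Lpr_et (f621954 IH) (Lpn (LP (LK LD1_c15 LD2_c10 LD3_c40))))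
theorem f610034 : Led Lsl_ef (LP (LK LD1_c16 LD2_c20 LD3_c28)) = (LP (LK LD1_c13 LD2_c49 LD3_c5)) :=
  Lgr Lrot88 (Lpr_et (K62.f610032 IH) (Lpn (LP (LK LD1_c13 LD2_c49 LD3_c5))))
theorem f764057 : Led Lsl_ft (LP (LK LD1_c23 LD2_c14 LD3_c31)) = (LP (LK LD1_c13 LD2_c49 LD3_c5)) :=
  Lgr Lrot86 (Lpr_ef (f621958 IH) (Lpe (f763651 IH) (Lpe (K47.f418122 IH) (Lpr_ff (f764040 IH) (Lpr_ef (f610034 IH) (Lpn (LP (LK LD1_c13 LD2_c49 LD3_c5))))))))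
theorem f764061 : Led Lsl_af (LP (LK LD1_c23 LD2_c6 LD3_c15)) = (LP (LK LD1_c13 LD2_c49 LD3_c5)) :=
  Lgr Lrot31 (Lpe (K47.f610119 IH) (Lpr_gf (f517497 IH) (Lpr_ft (f764057 IH) (Lpn (LP (LK LD1_c13 LD2_c49 LD3_c5))))))
theorem f764063 : Led Lsl_at (LP (LK LD1_c23 LD2_c6 LD3_c15)) = (LP (LK LD1_c13 LD2_c49 LD3_c5)) :=
  Lgr Lrot100 (Lpr_af (f764061 IH) (Lpn (LP (LK LD1_c13 LD2_c49 LD3_c5))))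
theorem f456438 : Led Lsl_gt (LP (LK LD1_c13 LD2_c49 LD3_c6)) = (LP (LK LD1_c7 LD2_c18 LD3_c10)) :=
  Lre_g IH (LK LD1_c13 LD2_c49 LD3_c6) (LK LD1_c7 LD2_c18 LD3_c10) Lrfl Lrfl
theorem f764067 : Led Lsl_ff (LP (LK LD1_c23 LD2_c6 LD3_c15)) = (LP (LK LD1_c13 LD2_c49 LD3_c6)) :=
  Lgr Lrot52 (Lpr_at (f764063 IH) (Lpe (K62.f481642 IH) (Lpe (f456438 IH) (Lpn (LP (LK LD1_c13 LD2_c49 LD3_c6))))))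
theorem f559017 : Led Lsl_et (LP (LK LD1_c16 LD2_c24 LD3_c9)) = (LP (LK LD1_c8 LD2_c45 LD3_c57)) :=
  Lre_e IH (LK LD1_c16 LD2_c24 LD3_c9) (LK LD1_c8 LD2_c45 LD3_c57) Lrfl Lrfl
theorem f617734 : Led Lsl_et (LP (LK LD1_c13 LD2_c38 LD3_c22)) = (LP (LK LD1_c23 LD2_c3 LD3_c30)) :=
  Lre_e IH (LK LD1_c13 LD2_c38 LD3_c22) (LK LD1_c23 LD2_c3 LD3_c30) Lrfl Lrfl
theorem f763653 : Led Lsl_ft (LP (LK LD1_c8 LD2_c45 LD3_c57)) = (LP (LK LD1_c13 LD2_c38 LD3_c22)) :=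
  Lgr Lrot86 (Lpe (f559017 IH) (Lpe (f559015 IH) (Lpe (f763631 IH) (Lpr_ff (f763647 IH) (Lpe (f617734 IH) (Lpn (LP (LK LD1_c13 LD2_c38 LD3_c22))))))))
theorem f763659 : Led Lsl_af (LP (LK LD1_c12 LD2_c23 LD3_c3)) = (LP (LK LD1_c13 LD2_c38 LD3_c22)) :=
  Lgr Lrot31 (Lpe (K55.f493998 IH) (Lpr_gf (K47.f559020 IH) (Lpr_ft (f763653 IH) (Lpn (LP (LK LD1_c13 LD2_c38 LD3_c22))))))
theorem f763667 : Led Lsl_at (LP (LK LD1_c21 LD2_c29 LD3_c60)) = (LP (LK LD1_c22 LD2_c29 LD3_c3)) :=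
  Lgr Lrot51 (Lpe (K55.f493999 IH) (Lpr_af (f763659 IH) (Lpr_df (K55.f617737 IH) (Lpn (LP (LK LD1_c22 LD2_c29 LD3_c3))))))
theorem f763673 : Led Lsl_ff (LP (LK LD1_c21 LD2_c29 LD3_c60)) = (LP (LK LD1_c22 LD2_c28 LD3_c37)) :=
  Lgr Lrot52 (Lpr_at (f763667 IH) (Lpe (K55.f479557 IH) (Lpe (K55.f607593 IH) (Lpn (LP (LK LD1_c22 LD2_c28 LD3_c37))))))
theorem f763681 : Led Lsl_ft (LP (LK LD1_c21 LD2_c29 LD3_c60)) = (LP (LK LD1_c22 LD2_c28 LD3_c37)) :=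
  Lgr Lrot48 (Lpr_ff (f763673 IH) (Lpn (LP (LK LD1_c22 LD2_c28 LD3_c37))))
theorem f560725 : Led Lsl_et (LP (LK LD1_c13 LD2_c33 LD3_c10)) = (LP (LK LD1_c21 LD2_c29 LD3_c60)) :=
  Lgr Lrot87 (Lpr_ef (K61.f560723 IH) (Lpn (LP (LK LD1_c21 LD2_c29 LD3_c60))))
theorem f763685 : Led Lsl_ff (LP (LK LD1_c13 LD2_c33 LD3_c10)) = (LP (LK LD1_c13 LD2_c40 LD3_c42)) :=
  Lgr Lrot72 (Lpr_et (f560725 IH) (Lpr_ft (f763681 IH) (Lpr_et (K40.f464998 IH) (Lpr_ft (f763559 IH) (Lpr_et (K47.f610172 IH) (Lpn (LP (LK LD1_c13 LD2_c40 LD3_c42))))))))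
theorem f764073 : Led Lsl_dt (LP (LK LD1_c13 LD2_c33 LD3_c10)) = (LP (LK LD1_c13 LD2_c49 LD3_c6)) :=
  Lgr Lrot60 (Lpr_ff (f763685 IH) (Lpe (f610127 IH) (Lpr_ff (f764067 IH) (Lpn (LP (LK LD1_c13 LD2_c49 LD3_c6))))))
theorem f617719 : Led Lsl_gf (LP (LK LD1_c13 LD2_c38 LD3_c16)) = (LP (LK LD1_c22 LD2_c29 LD3_c1)) :=
  Lgr Lrot47 (Lpr_gt (K40.f116173 IH) (Lpr_af (K55.f560511 IH) (Lpe (K55.f522166 IH) (Lpn (LP (LK LD1_c22 LD2_c29 LD3_c1))))))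
theorem f610026 : Led Lsl_gt (LP (LK LD1_c23 LD2_c3 LD3_c17)) = (LP (LK LD1_c13 LD2_c49 LD3_c6)) :=
  Lgr Lrot5 (Lpr_ft (K62.f610020 IH) (Lpr_at (K62.f518608 IH) (Lpe (f456438 IH) (Lpn (LP (LK LD1_c13 LD2_c49 LD3_c6))))))
theorem f764094 : Led Lsl_gt (LP (LK LD1_c13 LD2_c38 LD3_c17)) = (LP (LK LD1_c23 LD2_c3 LD3_c18)) :=
  Lgr Lrot131 (Lpe (K61.f489405 IH) (Lpr_dt (K40.f106230 IH) (Lpr_gf (f617719 IH) (Lpe (K55.f464687 IH) (Lpe (K55.f608441 IH) (Lpe (f560725 IH) (Lpr_dt (f764073 IH) (Lpe (f610026 IH) (Lpe (K47.f116229 IH) (Lpr_et (K46.f559048 IH) (Lpn (LP (LK LD1_c23 LD2_c3 LD3_c18)))))))))))))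
theorem f796816 : Led Lsl_gt (LP (LK LD1_c22 LD2_c43 LD3_c53)) = (LP (LK LD1_c23 LD2_c43 LD3_c50)) :=
  Lgr Lrot164 (Lpr_bf (K46.f531548 IH) (Lpe (K46.f608910 IH) (Lpe (f764094 IH) (Lpr_cf (K62.f610422 IH) (Lpr_gf (K61.f529439 IH) (Lpe (f657227 IH) (Lpr_ct (f657229 IH) (Lpr_gf (f529131 IH) (Lpe (f488466 IH) (Lpr_bt (f796810 IH) (Lpn (LP (LK LD1_c23 LD2_c43 LD3_c50)))))))))))))
theorem f796818 : Led Lsl_gf (LP (LK LD1_c22 LD2_c14 LD3_c21)) = (LP (LK LD1_c22 LD2_c32 LD3_c17)) :=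
  Lgr Lrot124 (Lpe (K33.f91508 IH) (Lpr_ct (K28.f91507 IH) (Lpr_gt (K28.f458374 IH) (Lpe (K28.f90862 IH) (Lpr_bt (K28.f15827 IH) (Lpr_gt (K48.f516890 IH) (Lpe (K46.f531544 IH) (Lpr_gt (f796816 IH) (Lpr_cf (f796496 IH) (Lpr_bt (f611065 IH) (Lpn (LP (LK LD1_c22 LD2_c32 LD3_c17)))))))))))))
theorem f464473 : Led Lsl_bt (LP (LK LD1_c14 LD2_c41 LD3_c20)) = (LP (LK LD1_c7 LD2_c47 LD3_c5)) :=
  Lre_b IH (LK LD1_c14 LD2_c41 LD3_c20) (LK LD1_c7 LD2_c47 LD3_c5) Lrfl Lrfl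
theorem f479360 : Led Lsl_dt (LP (LK LD1_c22 LD2_c14 LD3_c21)) = (LP (LK LD1_c14 LD2_c41 LD3_c20)) :=
  Lgr Lrot79 (Lpe (K33.f91508 IH) (Lpr_df (K29.f479358 IH) (Lpe (f464473 IH) (Lpn (LP (LK LD1_c14 LD2_c41 LD3_c20))))))
theorem f487264 : Led Lsl_af (LP (LK LD1_c14 LD2_c40 LD3_c33)) = (LP (LK LD1_c13 LD2_c11 LD3_c28)) :=
  Lgr Lrot0 (Lpr_at (K61.f487210 IH) (Lpn (LP (LK LD1_c13 LD2_c11 LD3_c28))))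
theorem f487449 : Led Lsl_ff (LP (LK LD1_c13 LD2_c11 LD3_c28)) = (LP (LK LD1_c14 LD2_c41 LD3_c20)) :=
  Lgr Lrot19 (Lpr_dt (K61.f472871 IH) (Lpe (K33.f473211 IH) (Lpr_dt (f479360 IH) (Lpn (LP (LK LD1_c14 LD2_c41 LD3_c20))))))
theorem f787515 : Led Lsl_gt (LP (LK LD1_c14 LD2_c41 LD3_c20)) = (LP (LK LD1_c13 LD2_c7 LD3_c16)) :=
  Lgr Lrot5 (Lpe (f487449 IH) (Lpe (f487264 IH) (Lpr_gf (K61.f787513 IH) (Lpn (LP (LK LD1_c13 LD2_c7 LD3_c16))))))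
theorem f16050 : Led Lsl_dt (LP (LK LD1_c13 LD2_c7 LD3_c16)) = (LP (LK LD1_c6 LD2_c54 LD3_c20)) :=
  Lre_d IH (LK LD1_c13 LD2_c7 LD3_c16) (LK LD1_c6 LD2_c54 LD3_c20) Lrfl Lrfl
theorem f15928 : Led Lsl_dt (LP (LK LD1_c22 LD2_c19 LD3_c3)) = (LP (LK LD1_c13 LD2_c7 LD3_c15)) :=
  Lre_d IH (LK LD1_c22 LD2_c19 LD3_c3) (LK LD1_c13 LD2_c7 LD3_c15) Lrfl Lrfl
theorem f804082 : Led Lsl_gt (LP (LK LD1_c22 LD2_c26 LD3_c25)) = (LP (LK LD1_c22 LD2_c19 LD3_c3)) :=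
  Lgr Lrot49 (Lpe (f804040 IH) (Lpr_gf (f804054 IH) (Lpr_cf (f804068 IH) (Lpe (f796818 IH) (Lpr_dt (f479360 IH) (Lpr_gt (f787515 IH) (Lpr_dt (f16050 IH) (Lpe (K28.f15936 IH) (Lpe (f15928 IH) (Lpn (LP (LK LD1_c22 LD2_c19 LD3_c3))))))))))))
theorem f796502 : Led Lsl_ef (LP (LK LD1_c23 LD2_c43 LD3_c49)) = (LP (LK LD1_c30 LD2_c33 LD3_c59)) :=
  Lgr Lrot88 (Lpr_et (f796498 IH) (Lpn (LP (LK LD1_c30 LD2_c33 LD3_c59))))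
theorem f611066 : Led Lsl_bt (LP (LK LD1_c22 LD2_c32 LD3_c17)) = (LP (LK LD1_c30 LD2_c33 LD3_c59)) :=
  Lre_b IH (LK LD1_c22 LD2_c32 LD3_c17) (LK LD1_c30 LD2_c33 LD3_c59) Lrfl Lrfl
theorem f796504 : Led Lsl_et (LP (LK LD1_c22 LD2_c17 LD3_c35)) = (LP (LK LD1_c22 LD2_c32 LD3_c17)) :=
  Lgr Lrot74 (Lpr_bf (f607909 IH) (Lpr_ef (f796502 IH) (Lpe (f611066 IH) (Lpn (LP (LK LD1_c22 LD2_c32 LD3_c17))))))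
theorem f485842 : Led Lsl_ct (LP (LK LD1_c30 LD2_c24 LD3_c36)) = (LP (LK LD1_c22 LD2_c17 LD3_c35)) :=
  Lre_c IH (LK LD1_c30 LD2_c24 LD3_c36) (LK LD1_c22 LD2_c17 LD3_c35) Lrfl Lrfl
theorem f804078 : Led Lsl_et (LP (LK LD1_c23 LD2_c49 LD3_c2)) = (LP (LK LD1_c30 LD2_c24 LD3_c36)) :=
  Lgr Lrot158 (Lpr_cf (f804068 IH) (Lpe (f796504 IH) (Lpe (f485842 IH) (Lpn (LP (LK LD1_c30 LD2_c24 LD3_c36))))))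
theorem f804112 : Led Lsl_ef (LP (LK LD1_c23 LD2_c49 LD3_c2)) = (LP (LK LD1_c30 LD2_c24 LD3_c36)) :=
  Lgr Lrot88 (Lpr_et (f804078 IH) (Lpn (LP (LK LD1_c30 LD2_c24 LD3_c36))))
theorem f804644 : Led Lsl_df (LP (LK LD1_c24 LD2_c1 LD3_c42)) = (LP (LK LD1_c30 LD2_c24 LD3_c36)) :=
  Lgr Lrot168 (Lpe (K61.f560839 IH) (Lpe (K61.f560826 IH) (Lpr_et (f804637 IH) (Lpr_gf (f804641 IH) (Lpe (f465566 IH) (Lpr_dt (f15933 IH) (Lpe (f804082 IH) (Lpe (f804040 IH) (Lpr_gf (f804054 IH) (Lpr_ef (f804112 IH) (Lpn (LP (LK LD1_c30 LD2_c24 LD3_c36)))))))))))))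
theorem f804646 : Led Lsl_dt (LP (LK LD1_c24 LD2_c1 LD3_c42)) = (LP (LK LD1_c30 LD2_c24 LD3_c36)) :=
  Lgr Lrot42 (Lpr_df (f804644 IH) (Lpn (LP (LK LD1_c30 LD2_c24 LD3_c36))))
theorem f485958 : Led Lsl_ct (LP (LK LD1_c22 LD2_c17 LD3_c35)) = (LP (LK LD1_c30 LD2_c24 LD3_c36)) :=
  Lre_c IH (LK LD1_c22 LD2_c17 LD3_c35) (LK LD1_c30 LD2_c24 LD3_c36) Lrfl Lrfl
theorem f804648 : Led Lsl_dt (LP (LK LD1_c23 LD2_c12 LD3_c51)) = (LP (LK LD1_c22 LD2_c17 LD3_c35)) :=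
  Lgr Lrot105 (Lpr_gf (f482172 IH) (Lpe (f466748 IH) (Lpr_gf (K63.f482189 IH) (Lpe (K63.f560850 IH) (Lpr_gt (K61.f487298 IH) (Lpr_dt (K61.f560826 IH) (Lpr_gt (K61.f560839 IH) (Lpr_dt (f804646 IH) (Lpe (f485958 IH) (Lpn (LP (LK LD1_c22 LD2_c17 LD3_c35))))))))))))
theorem f804652 : Led Lsl_df (LP (LK LD1_c23 LD2_c12 LD3_c51)) = (LP (LK LD1_c22 LD2_c17 LD3_c35)) :=
  Lgr Lrot38 (Lpr_dt (f804648 IH) (Lpn (LP (LK LD1_c22 LD2_c17 LD3_c35))))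
theorem f516613 : Led Lsl_et (LP (LK LD1_c6 LD2_c54 LD3_c20)) = (LP (LK LD1_c13 LD2_c7 LD3_c17)) :=
  Lre_e IH (LK LD1_c6 LD2_c54 LD3_c20) (LK LD1_c13 LD2_c7 LD3_c17) Lrfl Lrfl
theorem f805830 : Led Lsl_gt (LP (LK LD1_c13 LD2_c7 LD3_c17)) = v22364 :=
  Lgr Lrot131 (Lpe (f516613 IH) (Lpr_dt (K61.f15923 IH) (Lpe (f787515 IH) (Lpe (f479360 IH) (Lpr_gf (f796818 IH) (Lpe (f796504 IH) (Lpe (f804652 IH) (Lpr_gf (f482172 IH) (Lpe (f466748 IH) (Lpr_et (f805824 IH) (Lpn v22364)))))))))))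
theorem f91574 : Led Lsl_bt (LP (LK LD1_c13 LD2_c9 LD3_c32)) = (LP (LK LD1_c6 LD2_c55 LD3_c44)) :=
  Lre_b IH (LK LD1_c13 LD2_c9 LD3_c32) (LK LD1_c6 LD2_c55 LD3_c44) Lrfl Lrfl
theorem f479242 : Led Lsl_ff (LP (LK LD1_c13 LD2_c9 LD3_c32)) = (LP (LK LD1_c13 LD2_c12 LD3_c50)) :=
  Lgr Lrot25 (Lpr_bt (f91574 IH) (Lpr_ft (K29.f479240 IH) (Lpr_bt (K63.f458009 IH) (Lpn (LP (LK LD1_c13 LD2_c12 LD3_c50))))))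
theorem f805831 : Led Lsl_at (LP (LK LD1_c13 LD2_c9 LD3_c32)) = v22364 :=
  Lgr Lrot26 (Lpr_ff (f479242 IH) (Lpe (K63.f516610 IH) (Lpr_gt (f805830 IH) (Lpn v22364))))
theorem f91517 : Led Lsl_bt (LP (LK LD1_c6 LD2_c55 LD3_c44)) = (LP (LK LD1_c13 LD2_c9 LD3_c32)) :=
  Lre_b IH (LK LD1_c6 LD2_c55 LD3_c44) (LK LD1_c13 LD2_c9 LD3_c32) Lrfl Lrfl
theorem f473227 : Led Lsl_ct (LP (LK LD1_c13 LD2_c9 LD3_c32)) = (LP (LK LD1_c13 LD2_c9 LD3_c32)) :=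
  Lgr Lrot83 (Lpe (f91517 IH) (Lpe (K28.f91510 IH) (Lpr_bf (K33.f473225 IH) (Lpe (K28.f91503 IH) (Lpe (f91574 IH) (Lpn (LP (LK LD1_c13 LD2_c9 LD3_c32))))))))
theorem f91565 : Led Lsl_et (LP (LK LD1_c13 LD2_c9 LD3_c32)) = (LP (LK LD1_c6 LD2_c55 LD3_c42)) :=
  Lre_e IH (LK LD1_c13 LD2_c9 LD3_c32) (LK LD1_c6 LD2_c55 LD3_c42) Lrfl Lrfl
theorem f805825 : Led Lsl_af (LP (LK LD1_c13 LD2_c9 LD3_c32)) = v22364 :=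
  Lgr Lrot50 (Lpr_et (f91565 IH) (Lpr_at (K33.f479224 IH) (Lpr_et (f805824 IH) (Lpn v22364))))
theorem f805832 : Led Lsl_cf v22364 = v22364 :=
  Lgr Lrot1 (Lpe (f805825 IH) (Lpr_ct (f473227 IH) (Lpr_at (f805831 IH) (Lpn v22364))))
theorem f805826 : Led Lsl_bf K48.v7425 = v22364 :=
  Lgr Lrot96 (Lpe (K48.f665343 IH) (Lpr_bt (K33.f442360 IH) (Lpr_et (f805824 IH) (Lpn v22364))))
theorem f63213 : Led Lsl_dt (LP (LK LD1_c13 LD2_c16 LD3_c52)) = (LP (LK LD1_c6 LD2_c59 LD3_c58)) :=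
  Lre_d IH (LK LD1_c13 LD2_c16 LD3_c52) (LK LD1_c6 LD2_c59 LD3_c58) Lrfl Lrfl
theorem f63214 : Led Lsl_et (LP (LK LD1_c22 LD2_c32 LD3_c22)) = (LP (LK LD1_c13 LD2_c16 LD3_c52)) :=
  Lre_e IH (LK LD1_c22 LD2_c32 LD3_c22) (LK LD1_c13 LD2_c16 LD3_c52) Lrfl Lrfl
theorem f63216 : Led Lsl_et (LP (LK LD1_c14 LD2_c30 LD3_c0)) = (LP (LK LD1_c24 LD2_c11 LD3_c7)) :=
  Lre_e IH (LK LD1_c14 LD2_c30 LD3_c0) (LK LD1_c24 LD2_c11 LD3_c7) Lrfl Lrfl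
theorem f63217 : Led Lsl_df (LP (LK LD1_c22 LD2_c32 LD3_c22)) = (LP (LK LD1_c24 LD2_c11 LD3_c7)) :=
  Lgr Lrot70 (Lpr_et (f63214 IH) (Lpr_dt (f63213 IH) (Lpr_et (K1.f63203 IH) (Lpr_dt (K3.f63215 IH) (Lpr_et (f63216 IH) (Lpn (LP (LK LD1_c24 LD2_c11 LD3_c7))))))))
theorem f63264 : Led Lsl_gt (LP (LK LD1_c22 LD2_c32 LD3_c22)) = (LP (LK LD1_c13 LD2_c22 LD3_c14)) :=
  Lre_g IH (LK LD1_c22 LD2_c32 LD3_c22) (LK LD1_c13 LD2_c22 LD3_c14) Lrfl Lrfl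
theorem f63565 : Led Lsl_dt (LP (LK LD1_c22 LD2_c39 LD3_c20)) = (LP (LK LD1_c13 LD2_c22 LD3_c14)) :=
  Lre_d IH (LK LD1_c22 LD2_c39 LD3_c20) (LK LD1_c13 LD2_c22 LD3_c14) Lrfl Lrfl
theorem f63566 : Led Lsl_et (LP (LK LD1_c22 LD2_c39 LD3_c20)) = (LP (LK LD1_c30 LD2_c37 LD3_c46)) :=
  Lre_e IH (LK LD1_c22 LD2_c39 LD3_c20) (LK LD1_c30 LD2_c37 LD3_c46) Lrfl Lrfl
theorem f467781 : Led Lsl_dt (LP (LK LD1_c24 LD2_c5 LD3_c23)) = (LP (LK LD1_c14 LD2_c25 LD3_c29)) :=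
  Lre_d IH (LK LD1_c24 LD2_c5 LD3_c23) (LK LD1_c14 LD2_c25 LD3_c29) Lrfl Lrfl
theorem f665415 : Led Lsl_gt (LP (LK LD1_c30 LD2_c37 LD3_c46)) = (LP (LK LD1_c24 LD2_c5 LD3_c23)) :=
  Lgr Lrot137 (Lpe (f63566 IH) (Lpr_dt (f63565 IH) (Lpe (f63264 IH) (Lpr_df (f63217 IH) (Lpr_et (K2.f63234 IH) (Lpe (K63.f63560 IH) (Lpe (K63.f63564 IH) (Lpr_dt (K63.f665405 IH) (Lpr_gf (K63.f467813 IH) (Lpe (f467781 IH) (Lpn (LP (LK LD1_c24 LD2_c5 LD3_c23)))))))))))))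
theorem f665363 : Led Lsl_ft (LP (LK LD1_c22 LD2_c39 LD3_c30)) = (LP (LK LD1_c30 LD2_c38 LD3_c1)) :=
  Lre_f IH (LK LD1_c22 LD2_c39 LD3_c30) (LK LD1_c30 LD2_c38 LD3_c1) Lrfl Lrfl
theorem f665364 : Led Lsl_dt (LP (LK LD1_c30 LD2_c38 LD3_c1)) = (LP (LK LD1_c23 LD2_c56 LD3_c0)) :=
  Lgr Lrot60 (Lpe (f665363 IH) (Lpr_df (K63.f665352 IH) (Lpe (K33.f467761 IH) (Lpn (LP (LK LD1_c23 LD2_c56 LD3_c0))))))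
theorem f665371 : Led Lsl_df (LP (LK LD1_c30 LD2_c38 LD3_c1)) = (LP (LK LD1_c23 LD2_c56 LD3_c0)) :=
  Lgr Lrot38 (Lpr_dt (f665364 IH) (Lpn (LP (LK LD1_c23 LD2_c56 LD3_c0))))
theorem f665376 : Led Lsl_at (LP (LK LD1_c30 LD2_c38 LD3_c1)) = (LP (LK LD1_c24 LD2_c5 LD3_c23)) :=
  Lgr Lrot51 (Lpr_df (f665371 IH) (Lpr_af (K33.f467762 IH) (Lpe (f467781 IH) (Lpn (LP (LK LD1_c24 LD2_c5 LD3_c23))))))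
theorem f665417 : Led Lsl_gf (LP (LK LD1_c30 LD2_c37 LD3_c46)) = (LP (LK LD1_c22 LD2_c39 LD3_c30)) :=
  Lgr Lrot47 (Lpr_gt (f665415 IH) (Lpe (f665376 IH) (Lpe (f665363 IH) (Lpn (LP (LK LD1_c22 LD2_c39 LD3_c30))))))
theorem f64130 : Led Lsl_gt (LP (LK LD1_c13 LD2_c22 LD3_c14)) = (LP (LK LD1_c7 LD2_c2 LD3_c60)) :=
  Lre_g IH (LK LD1_c13 LD2_c22 LD3_c14) (LK LD1_c7 LD2_c2 LD3_c60) Lrfl Lrfl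
theorem f18528 : Led Lsl_dt (LP (LK LD1_c13 LD2_c22 LD3_c15)) = (LP (LK LD1_c7 LD2_c2 LD3_c60)) :=
  Lre_d IH (LK LD1_c13 LD2_c22 LD3_c15) (LK LD1_c7 LD2_c2 LD3_c60) Lrfl Lrfl
theorem f18532 : Led Lsl_et (LP (LK LD1_c13 LD2_c22 LD3_c15)) = (LP (LK LD1_c7 LD2_c2 LD3_c61)) :=
  Lre_e IH (LK LD1_c13 LD2_c22 LD3_c15) (LK LD1_c7 LD2_c2 LD3_c61) Lrfl Lrfl
theorem f19055 : Led Lsl_dt (LP (LK LD1_c3 LD2_c30 LD3_c31)) = (LP (LK LD1_c7 LD2_c2 LD3_c61)) :=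
  Lre_d IH (LK LD1_c3 LD2_c30 LD3_c31) (LK LD1_c7 LD2_c2 LD3_c61) Lrfl Lrfl
theorem f63650 : Led Lsl_et (LP (LK LD1_c1 LD2_c50 LD3_c60)) = (LP (LK LD1_c3 LD2_c44 LD3_c39)) :=
  Lre_e IH (LK LD1_c1 LD2_c50 LD3_c60) (LK LD1_c3 LD2_c44 LD3_c39) Lrfl Lrfl
theorem f63651 : Led Lsl_et (LP (LK LD1_c3 LD2_c52 LD3_c28)) = (LP (LK LD1_c1 LD2_c52 LD3_c52)) :=
  Lre_e IH (LK LD1_c3 LD2_c52 LD3_c28) (LK LD1_c1 LD2_c52 LD3_c52) Lrfl Lrfl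
theorem f63652 : Led Lsl_dt (LP (LK LD1_c3 LD2_c52 LD3_c28)) = (LP (LK LD1_c7 LD2_c46 LD3_c49)) :=
  Lre_d IH (LK LD1_c3 LD2_c52 LD3_c28) (LK LD1_c7 LD2_c46 LD3_c49) Lrfl Lrfl
theorem f63653 : Led Lsl_gt (LP (LK LD1_c7 LD2_c2 LD3_c61)) = (LP (LK LD1_c7 LD2_c46 LD3_c49)) :=
  Lgr Lrot139 (Lpe (f19055 IH) (Lpe (K3.f19139 IH) (Lpr_ef (K3.f63633 IH) (Lpr_dt (K3.f63632 IH) (Lpe (K3.f63648 IH) (Lpe (K3.f63649 IH) (Lpr_et (f63650 IH) (Lpe (K28.f14902 IH) (Lpe (f63651 IH) (Lpr_dt (f63652 IH) (Lpn (LP (LK LD1_c7 LD2_c46 LD3_c49)))))))))))))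
theorem f665354 : Led Lsl_et (LP (LK LD1_c13 LD2_c22 LD3_c19)) = (LP (LK LD1_c22 LD2_c39 LD3_c30)) :=
  Lre_e IH (LK LD1_c13 LD2_c22 LD3_c19) (LK LD1_c22 LD2_c39 LD3_c30) Lrfl Lrfl
theorem f665419 : Led Lsl_gt (LP (LK LD1_c3 LD2_c52 LD3_c28)) = K48.v7425 :=
  Lgr Lrot139 (Lpe (K61.f63875 IH) (Lpe (f63653 IH) (Lpe (f18532 IH) (Lpr_dt (f18528 IH) (Lpe (f64130 IH) (Lpe (f63565 IH) (Lpr_et (f63566 IH) (Lpr_gf (f665417 IH) (Lpe (f665354 IH) (Lpr_dt (K48.f665348 IH) (Lpn K48.v7425)))))))))))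
theorem f528865 : Led Lsl_ft (LP (LK LD1_c13 LD2_c9 LD3_c19)) = (LP (LK LD1_c13 LD2_c12 LD3_c52)) :=
  Lgr Lrot4 (Lpr_cf (K48.f477141 IH) (Lpr_ff (K35.f528863 IH) (Lpr_cf (K39.f483832 IH) (Lpn (LP (LK LD1_c13 LD2_c12 LD3_c52))))))
theorem f477144 : Led Lsl_gt (LP (LK LD1_c13 LD2_c9 LD3_c19)) = (LP (LK LD1_c22 LD2_c21 LD3_c59)) :=
  Lre_g IH (LK LD1_c13 LD2_c9 LD3_c19) (LK LD1_c22 LD2_c21 LD3_c59) Lrfl Lrfl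
theorem f529584 : Led Lsl_gt (LP (LK LD1_c22 LD2_c21 LD3_c59)) = (LP (LK LD1_c22 LD2_c26 LD3_c50)) :=
  Lgr Lrot46 (Lpe (f477144 IH) (Lpr_ft (f528865 IH) (Lpr_at (K48.f483829 IH) (Lpn (LP (LK LD1_c22 LD2_c26 LD3_c50))))))
theorem f804669 : Led Lsl_bt (LP (LK LD1_c24 LD2_c1 LD3_c45)) = (LP (LK LD1_c22 LD2_c21 LD3_c59)) :=
  Lgr Lrot92 (Lpr_ct (f804663 IH) (Lpr_gt (f458010 IH) (Lpe (K63.f473191 IH) (Lpr_bt (K63.f457888 IH) (Lpr_gt (K29.f457882 IH) (Lpr_ct (K29.f63003 IH) (Lpr_gt (K32.f63005 IH) (Lpr_cf (K32.f479862 IH) (Lpr_bt (K32.f477139 IH) (Lpr_gt (f477144 IH) (Lpn (LP (LK LD1_c22 LD2_c21 LD3_c59)))))))))))))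
theorem f805835 : Led Lsl_gt v22364 = (LP (LK LD1_c22 LD2_c26 LD3_c45)) :=
  Lgr Lrot65 (Lpr_cf (f805832 IH) (Lpe (f805826 IH) (Lpe (f665419 IH) (Lpe (K34.f465367 IH) (Lpr_ct (K35.f471101 IH) (Lpe (K48.f554103 IH) (Lpr_cf (K48.f483830 IH) (Lpe (f529584 IH) (Lpe (f804669 IH) (Lpr_ct (f804663 IH) (Lpn (LP (LK LD1_c22 LD2_c26 LD3_c45)))))))))))))
theorem f665342 : Led Lsl_cf K48.v2647 = K48.v7425 :=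
  Lgr Lrot39 (Lpe (K48.f530067 IH) (Lpr_ct (K29.f442353 IH) (Lpr_et (K48.f665340 IH) (Lpn K48.v7425))))
theorem f527934 : Led Lsl_bt K48.v2625 = K48.v2625 :=
  Lgr Lrot119 (Lpe (K48.f527928 IH) (Lpr_bf (K29.f466925 IH) (Lpr_ef (K48.f527931 IH) (Lpn K48.v2625))))
theorem f530071 : Led Lsl_bf K48.v2647 = K48.v2647 :=
  Lgr Lrot61 (Lpe (K48.f530068 IH) (Lpr_bt (f527934 IH) (Lpr_ft (K48.f530070 IH) (Lpn K48.v2647))))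
theorem f805833 : Led Lsl_bt K48.v7425 = v22364 :=
  Lgr Lrot128 (Lpe (K48.f665346 IH) (Lpr_bf (f530071 IH) (Lpr_cf (f665342 IH) (Lpr_bf (f805826 IH) (Lpr_cf (f805832 IH) (Lpn v22364))))))
theorem f527929 : Led Lsl_af K34.v2532 = K48.v2625 :=
  Lgr Lrot50 (Lpe (K48.f527142 IH) (Lpe (K29.f466923 IH) (Lpr_et (K48.f527928 IH) (Lpn K48.v2625))))
theorem f530069 : Led Lsl_at (LP (LK LD1_c1 LD2_c51 LD3_c32)) = K48.v2647 :=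
  Lgr Lrot66 (Lpr_ff (K34.f527143 IH) (Lpr_af (f527929 IH) (Lpr_ff (K48.f530068 IH) (Lpn K48.v2647))))
theorem f530073 : Led Lsl_gt (LP (LK LD1_c1 LD2_c53 LD3_c19)) = K48.v2647 :=
  Lgr Lrot46 (Lpr_gf (K34.f527146 IH) (Lpe (K34.f527143 IH) (Lpr_at (f530069 IH) (Lpn K48.v2647))))
theorem f527147 : Led Lsl_bt (LP (LK LD1_c3 LD2_c53 LD3_c28)) = (LP (LK LD1_c7 LD2_c48 LD3_c29)) :=
  Lre_b IH (LK LD1_c3 LD2_c53 LD3_c28) (LK LD1_c7 LD2_c48 LD3_c29) Lrfl Lrfl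
theorem f806150 : Led Lsl_gt (LP (LK LD1_c14 LD2_c23 LD3_c27)) = (LP (LK LD1_c7 LD2_c48 LD3_c29)) :=
  Lgr Lrot164 (Lpe (K63.f806039 IH) (Lpe (K63.f806034 IH) (Lpr_gf (f806146 IH) (Lpr_cf (f804665 IH) (Lpe (f805835 IH) (Lpe (f805833 IH) (Lpe (f665342 IH) (Lpe (f530073 IH) (Lpe (f472348 IH) (Lpr_bt (f527147 IH) (Lpn (LP (LK LD1_c7 LD2_c48 LD3_c29)))))))))))))
theorem f665709 : Led Lsl_ft (LP (LK LD1_c14 LD2_c23 LD3_c27)) = (LP (LK LD1_c7 LD2_c38 LD3_c14)) :=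
  Lre_f IH (LK LD1_c14 LD2_c23 LD3_c27) (LK LD1_c7 LD2_c38 LD3_c14) Lrfl Lrfl
theorem f806104 : Led Lsl_ct (LP (LK LD1_c7 LD2_c47 LD3_c50)) = (LP (LK LD1_c14 LD2_c23 LD3_c27)) :=
  Lgr Lrot40 (Lpr_ff (f806102 IH) (Lpe (f804605 IH) (Lpe (f665709 IH) (Lpn (LP (LK LD1_c14 LD2_c23 LD3_c27))))))
theorem f817521 : Led Lsl_gf K63.v23122 = v23506 :=
  Lgr Lrot124 (Lpe (K63.f814964 IH) (Lpr_ct (f806104 IH) (Lpr_gt (f806150 IH) (Lpr_cf (f527152 IH) (Lpr_bt (f474021 IH) (Lpr_gt (K34.f456759 IH) (Lpr_ct (K46.f456053 IH) (Lpr_gt (f519462 IH) (Lpqs (f657767 IH) (Lpr_cf (f668052 IH) (Lpr_bt (f817519 IH) (Lpn v23506))))))))))))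
theorem f532408 : Led Lsl_at (LP (LK LD1_c7 LD2_c53 LD3_c33)) = (LP (LK LD1_c14 LD2_c53 LD3_c1)) :=
  Lre_a IH (LK LD1_c7 LD2_c53 LD3_c33) (LK LD1_c14 LD2_c53 LD3_c1) Lrfl Lrfl
theorem f817522 : Led Lsl_gt K63.v23122 = (LP (LK LD1_c14 LD2_c53 LD3_c1)) :=
  Lgr Lrot46 (Lpr_gf (f817521 IH) (Lpe (f817518 IH) (Lpr_at (f532408 IH) (Lpn (LP (LK LD1_c14 LD2_c53 LD3_c1))))))
theorem f814968 : Led Lsl_ff (LP (LK LD1_c14 LD2_c41 LD3_c59)) = K63.v23122 :=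
  Lgr Lrot25 (Lpr_bt (K34.f476371 IH) (Lpe (f806102 IH) (Lpr_bt (K63.f814964 IH) (Lpn K63.v23122))))
theorem f817523 : Led Lsl_gf (LP (LK LD1_c13 LD2_c8 LD3_c11)) = (LP (LK LD1_c14 LD2_c53 LD3_c1)) :=
  Lgr Lrot76 (Lpr_af (K63.f806005 IH) (Lpr_ff (f814968 IH) (Lpr_gt (f817522 IH) (Lpn (LP (LK LD1_c14 LD2_c53 LD3_c1))))))
theorem f817524 : Led Lsl_gt (LP (LK LD1_c14 LD2_c53 LD3_c1)) = (LP (LK LD1_c13 LD2_c8 LD3_c11)) :=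
  Leop (Lpr_gf (f817523 IH) (Lpn (LP (LK LD1_c14 LD2_c53 LD3_c1))))
theorem seed_1845 : LEOK LG_g (LK LD1_c14 LD2_c53 LD3_c1) :=
  Leoe_g (LK LD1_c14 LD2_c53 LD3_c1) (f817524 IH)
def v23572 : LQ := Led Lsl_gt (LP (LK LD1_c7 LD2_c54 LD3_c48))
theorem f817847 : Led Lsl_gt (LP (LK LD1_c7 LD2_c54 LD3_c48)) = v23572 :=
  Lrfl
theorem f451942 : Led Lsl_et (LP (LK LD1_c3 LD2_c56 LD3_c31)) = (LP (LK LD1_c7 LD2_c54 LD3_c48)) :=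
  Lre_e IH (LK LD1_c3 LD2_c56 LD3_c31) (LK LD1_c7 LD2_c54 LD3_c48) Lrfl Lrfl
theorem f451902 : Led Lsl_dt (LP (LK LD1_c3 LD2_c56 LD3_c31)) = (LP (LK LD1_c7 LD2_c54 LD3_c47)) :=
  Lre_d IH (LK LD1_c3 LD2_c56 LD3_c31) (LK LD1_c7 LD2_c54 LD3_c47) Lrfl Lrfl
def v23571 : LQ := Led Lsl_gf (LP (LK LD1_c7 LD2_c54 LD3_c47))
theorem f817843 : Led Lsl_gf (LP (LK LD1_c7 LD2_c54 LD3_c47)) = v23571 :=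
  Lrfl
def v21750 : LQ := Led Lsl_dt (LP (LK LD1_c7 LD2_c26 LD3_c7))
theorem f799055 : Led Lsl_dt (LP (LK LD1_c7 LD2_c26 LD3_c7)) = v21750 :=
  Lrfl
theorem f451893 : Led Lsl_dt (LP (LK LD1_c7 LD2_c54 LD3_c47)) = (LP (LK LD1_c3 LD2_c56 LD3_c31)) :=
  Lre_d IH (LK LD1_c7 LD2_c54 LD3_c47) (LK LD1_c3 LD2_c56 LD3_c31) Lrfl Lrfl
theorem f799056 : Led Lsl_af (LP (LK LD1_c7 LD2_c54 LD3_c47)) = v21750 :=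
  Lgr Lrot117 (Lpr_dt (f451893 IH) (Lpr_at (K33.f470853 IH) (Lpr_dt (f799055 IH) (Lpn v21750))))
theorem f799059 : Led Lsl_ff (LP (LK LD1_c13 LD2_c53 LD3_c28)) = v21750 :=
  Lgr Lrot19 (Lpr_dt (K34.f471374 IH) (Lpe (K33.f471316 IH) (Lpr_dt (f799055 IH) (Lpn v21750))))
theorem f799062 : Led Lsl_ft (LP (LK LD1_c13 LD2_c53 LD3_c28)) = v21750 :=
  Lgr Lrot48 (Lpr_ff (f799059 IH) (Lpn v21750))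
theorem f817844 : Led Lsl_gt (LP (LK LD1_c13 LD2_c53 LD3_c28)) = v23571 :=
  Lgr Lrot5 (Lpr_ft (f799062 IH) (Lpe (f799056 IH) (Lpr_gf (f817843 IH) (Lpn v23571))))
theorem f471377 : Led Lsl_dt (LP (LK LD1_c7 LD2_c20 LD3_c44)) = (LP (LK LD1_c13 LD2_c53 LD3_c28)) :=
  Lre_d IH (LK LD1_c7 LD2_c20 LD3_c44) (LK LD1_c13 LD2_c53 LD3_c28) Lrfl Lrfl
theorem f532917 : Led Lsl_gt (LP (LK LD1_c7 LD2_c51 LD3_c14)) = (LP (LK LD1_c7 LD2_c20 LD3_c44)) :=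
  Lgr Lrot82 (Lpr_bf (K34.f203989 IH) (Lpr_ct (K34.f123499 IH) (Lpq (K34.f532914 IH) (Lpe (K41.f530357 IH) (Lpe (K35.f493001 IH) (Lpr_bt (K35.f493033 IH) (Lpe (K33.f492614 IH) (Lpr_bf (K33.f464642 IH) (Lpr_ct (K33.f452043 IH) (Lpr_gf (K33.f471707 IH) (Lpe (K33.f471630 IH) (Lpn (LP (LK LD1_c7 LD2_c20 LD3_c44))))))))))))))
theorem f13164 : Led Lsl_et (LP (LK LD1_c14 LD2_c4 LD3_c6)) = (LP (LK LD1_c7 LD2_c26 LD3_c36)) :=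
  Lre_e IH (LK LD1_c14 LD2_c4 LD3_c6) (LK LD1_c7 LD2_c26 LD3_c36) Lrfl Lrfl
theorem f817845 : Led Lsl_dt (LP (LK LD1_c14 LD2_c4 LD3_c6)) = v23571 :=
  Lgr Lrot56 (Lpr_et (f13164 IH) (Lpr_gt (K34.f13148 IH) (Lpe (f13396 IH) (Lpr_dt (K62.f13394 IH) (Lpr_gt (K28.f157765 IH) (Lpr_df (K28.f203575 IH) (Lpr_et (K35.f203577 IH) (Lpr_gt (f532917 IH) (Lpr_dt (f471377 IH) (Lpr_gt (f817844 IH) (Lpn v23571)))))))))))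
theorem f817848 : Led Lsl_df (LP (LK LD1_c13 LD2_c54 LD3_c41)) = v23572 :=
  Lgr Lrot135 (Lpr_gt (f799289 IH) (Lpe (f799281 IH) (Lpe (f662491 IH) (Lpe (K47.f13149 IH) (Lpe (f13164 IH) (Lpr_dt (f817845 IH) (Lpe (f817843 IH) (Lpe (f451902 IH) (Lpr_et (f451942 IH) (Lpr_gt (f817847 IH) (Lpn v23572)))))))))))
theorem f13258 : Led Lsl_dt (LP (LK LD1_c3 LD2_c40 LD3_c38)) = (LP (LK LD1_c7 LD2_c21 LD3_c30)) :=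
  Lre_d IH (LK LD1_c3 LD2_c40 LD3_c38) (LK LD1_c7 LD2_c21 LD3_c30) Lrfl Lrfl
def v21549 : LQ := Led Lsl_et (LP (LK LD1_c7 LD2_c21 LD3_c29))
theorem f797780 : Led Lsl_et (LP (LK LD1_c7 LD2_c21 LD3_c29)) = v21549 :=
  Lrfl
theorem f797781 : Led Lsl_ef (LP (LK LD1_c7 LD2_c21 LD3_c29)) = v21549 :=
  Lgr Lrot88 (Lpr_et (f797780 IH) (Lpn v21549))
def v23538 : LQ := Led Lsl_gt (LP (LK LD1_c7 LD2_c54 LD3_c1))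
theorem f817670 : Led Lsl_gt (LP (LK LD1_c7 LD2_c54 LD3_c1)) = v23538 :=
  Lrfl
theorem f817672 : Led Lsl_dt v21549 = v23538 :=
  Lgr Lrot56 (Lpe (f797781 IH) (Lpr_gt (K48.f13405 IH) (Lpe (K7.f13144 IH) (Lpr_dt (K7.f13170 IH) (Lpr_gt (K7.f148317 IH) (Lpe (K28.f151400 IH) (Lpr_et (K34.f142485 IH) (Lpe (K35.f533674 IH) (Lpr_dt (K34.f451894 IH) (Lpr_gt (f817670 IH) (Lpn v23538)))))))))))
def v23540 : LQ := Led Lsl_gf (LP (LK LD1_c7 LD2_c54 LD3_c2))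
theorem f817678 : Led Lsl_gf (LP (LK LD1_c7 LD2_c54 LD3_c2)) = v23540 :=
  Lrfl
theorem f817851 : Led Lsl_ef v23540 = v23572 :=
  Lgr Lrot114 (Lpe (f817678 IH) (Lpe (K33.f451936 IH) (Lpr_dt (K34.f451894 IH) (Lpr_gt (f817670 IH) (Lpe (f817672 IH) (Lpe (f797781 IH) (Lpr_gt (K48.f13405 IH) (Lpr_dt (f13258 IH) (Lpr_gt (f4567 IH) (Lpr_df (f817848 IH) (Lpn v23572)))))))))))
theorem f492081 : Led Lsl_ct (LP (LK LD1_c14 LD2_c38 LD3_c15)) = (LP (LK LD1_c7 LD2_c45 LD3_c43)) :=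
  Lre_c IH (LK LD1_c14 LD2_c38 LD3_c15) (LK LD1_c7 LD2_c45 LD3_c43) Lrfl Lrfl
theorem f613808 : Led Lsl_gf (LP (LK LD1_c14 LD2_c45 LD3_c44)) = (LP (LK LD1_c7 LD2_c54 LD3_c2)) :=
  Lgr Lrot124 (Lpr_bf (f485270 IH) (Lpr_ct (f485277 IH) (Lpr_gt (f613799 IH) (Lpe (f492081 IH) (Lpe (f491909 IH) (Lpe (K33.f479833 IH) (Lpr_ct (K29.f451966 IH) (Lpe (K28.f451964 IH) (Lpe (K28.f11366 IH) (Lpr_bt (K33.f11367 IH) (Lpn (LP (LK LD1_c7 LD2_c54 LD3_c2)))))))))))))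
theorem f793359 : Led Lsl_df (LP (LK LD1_c24 LD2_c31 LD3_c57)) = (LP (LK LD1_c31 LD2_c8 LD3_c35)) :=
  Lgr Lrot84 (Lpe (f485274 IH) (Lpr_df (f613781 IH) (Lpe (K47.f458918 IH) (Lpe (K40.f459165 IH) (Lpr_gf (K34.f533133 IH) (Lpe (K7.f147811 IH) (Lpe (K37.f543639 IH) (Lpr_dt (K40.f543643 IH) (Lpr_gt (f793357 IH) (Lpn (LP (LK LD1_c31 LD2_c8 LD3_c35))))))))))))
theorem f543650 : Led Lsl_dt (LP (LK LD1_c29 LD2_c55 LD3_c17)) = (LP (LK LD1_c21 LD2_c14 LD3_c29)) :=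
  Lre_d IH (LK LD1_c29 LD2_c55 LD3_c17) (LK LD1_c21 LD2_c14 LD3_c29) Lrfl Lrfl
theorem f459141 : Led Lsl_gt (LP (LK LD1_c22 LD2_c42 LD3_c60)) = (LP (LK LD1_c30 LD2_c40 LD3_c17)) :=
  Lre_g IH (LK LD1_c22 LD2_c42 LD3_c60) (LK LD1_c30 LD2_c40 LD3_c17) Lrfl Lrfl
theorem f465913 : Led Lsl_gf (LP (LK LD1_c23 LD2_c28 LD3_c42)) = (LP (LK LD1_c30 LD2_c40 LD3_c17)) :=
  Lgr Lrot76 (Lpr_af (K47.f465904 IH) (Lpr_ff (K34.f459129 IH) (Lpr_gt (f459141 IH) (Lpn (LP (LK LD1_c30 LD2_c40 LD3_c17))))))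
theorem f793361 : Led Lsl_cf (LP (LK LD1_c30 LD2_c40 LD3_c17)) = (LP (LK LD1_c31 LD2_c8 LD3_c35)) :=
  Lgr Lrot169 (Lpe (f465913 IH) (Lpr_ct (K47.f465731 IH) (Lpe (K47.f465727 IH) (Lpr_cf (K34.f465725 IH) (Lpr_gf (K34.f489439 IH) (Lpe (K34.f459323 IH) (Lpe (K39.f543641 IH) (Lpe (f543650 IH) (Lpr_gt (f793357 IH) (Lpn (LP (LK LD1_c31 LD2_c8 LD3_c35))))))))))))
theorem f793375 : Led Lsl_ct (LP (LK LD1_c30 LD2_c40 LD3_c17)) = (LP (LK LD1_c31 LD2_c8 LD3_c35)) :=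
  Lgr Lrot59 (Lpr_cf (f793361 IH) (Lpn (LP (LK LD1_c31 LD2_c8 LD3_c35))))
theorem f817681 : Led Lsl_df (LP (LK LD1_c22 LD2_c42 LD3_c59)) = v23540 :=
  Lgr Lrot155 (Lpr_gt (f459054 IH) (Lpr_ct (K34.f459131 IH) (Lpr_gt (f459141 IH) (Lpr_ct (f793375 IH) (Lpe (f793359 IH) (Lpe (f485274 IH) (Lpr_gf (f613808 IH) (Lpr_cf (K61.f452046 IH) (Lpr_gf (f817678 IH) (Lpn v23540))))))))))
theorem f809157 : Led Lsl_et (LP (LK LD1_c22 LD2_c42 LD3_c59)) = (LP (LK LD1_c30 LD2_c40 LD3_c16)) :=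
  Lre_e IH (LK LD1_c22 LD2_c42 LD3_c59) (LK LD1_c30 LD2_c40 LD3_c16) Lrfl Lrfl
theorem f817849 : Led Lsl_dt (LP (LK LD1_c13 LD2_c54 LD3_c41)) = v23572 :=
  Lgr Lrot42 (Lpr_df (f817848 IH) (Lpn v23572))
theorem f799293 : Led Lsl_et (LP (LK LD1_c23 LD2_c24 LD3_c61)) = (LP (LK LD1_c13 LD2_c54 LD3_c41)) :=
  Lre_e IH (LK LD1_c23 LD2_c24 LD3_c61) (LK LD1_c13 LD2_c54 LD3_c41) Lrfl Lrfl
theorem f817852 : Led Lsl_dt (LP (LK LD1_c30 LD2_c40 LD3_c16)) = (LP (LK LD1_c23 LD2_c24 LD3_c61)) :=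
  Lgr Lrot77 (Lpe (f809157 IH) (Lpr_df (f817681 IH) (Lpr_ef (f817851 IH) (Lpe (f817849 IH) (Lpe (f799293 IH) (Lpn (LP (LK LD1_c23 LD2_c24 LD3_c61))))))))
theorem f817853 : Led Lsl_dt (LP (LK LD1_c30 LD2_c40 LD3_c16)) = (LP (LK LD1_c23 LD2_c24 LD3_c61)) :=
  Leop (Lpe (f817852 IH) (Lpn (LP (LK LD1_c30 LD2_c40 LD3_c16))))
theorem seed_1846 : LEOK LG_d (LK LD1_c30 LD2_c40 LD3_c16) :=
  Leoe_d (LK LD1_c30 LD2_c40 LD3_c16) (f817853 IH)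
theorem f817854 : Led Lsl_et v23540 = v23572 :=
  Lgr Lrot87 (Lpr_ef (f817851 IH) (Lpn v23572))
theorem f458331 : Led Lsl_et (LP (LK LD1_c7 LD2_c4 LD3_c27)) = (LP (LK LD1_c13 LD2_c24 LD3_c41)) :=
  Lre_e IH (LK LD1_c7 LD2_c4 LD3_c27) (LK LD1_c13 LD2_c24 LD3_c41) Lrfl Lrfl
theorem f817858 : Led Lsl_gt (LP (LK LD1_c13 LD2_c24 LD3_c41)) = (LP (LK LD1_c14 LD2_c4 LD3_c6)) :=
  Lgr Lrot137 (Lpe (f458331 IH) (Lpr_dt (K40.f459165 IH) (Lpe (f459054 IH) (Lpr_df (f817681 IH) (Lpr_et (f817854 IH) (Lpe (f817847 IH) (Lpe (f451942 IH) (Lpr_dt (f451902 IH) (Lpr_gf (f817843 IH) (Lpe (f817845 IH) (Lpn (LP (LK LD1_c14 LD2_c4 LD3_c6)))))))))))))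
theorem f817859 : Led Lsl_gt (LP (LK LD1_c13 LD2_c24 LD3_c41)) = (LP (LK LD1_c14 LD2_c4 LD3_c6)) :=
  Leop (Lpe (f817858 IH) (Lpn (LP (LK LD1_c13 LD2_c24 LD3_c41))))
theorem seed_1847 : LEOK LG_g (LK LD1_c13 LD2_c24 LD3_c41) :=
  Leoe_g (LK LD1_c13 LD2_c24 LD3_c41) (f817859 IH)
theorem f458321 : Led Lsl_bt (LP (LK LD1_c7 LD2_c4 LD3_c29)) = (LP (LK LD1_c13 LD2_c24 LD3_c41)) :=
  Lre_b IH (LK LD1_c7 LD2_c4 LD3_c29) (LK LD1_c13 LD2_c24 LD3_c41) Lrfl Lrfl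
theorem f459316 : Led Lsl_ct (LP (LK LD1_c7 LD2_c4 LD3_c29)) = (LP (LK LD1_c3 LD2_c31 LD3_c25)) :=
  Lre_c IH (LK LD1_c7 LD2_c4 LD3_c29) (LK LD1_c3 LD2_c31 LD3_c25) Lrfl Lrfl
def v6832 : LQ := Led Lsl_gf (LP (LK LD1_c3 LD2_c31 LD3_c25))
theorem f658819 : Led Lsl_gf (LP (LK LD1_c3 LD2_c31 LD3_c25)) = v6832 :=
  Lrfl
def v20783 : LQ := Led Lsl_ft (LP (LK LD1_c7 LD2_c4 LD3_c46))
theorem f789949 : Led Lsl_ft (LP (LK LD1_c7 LD2_c4 LD3_c46)) = v20783 :=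
  Lrfl
theorem f525906 : Led Lsl_at (LP (LK LD1_c3 LD2_c31 LD3_c32)) = (LP (LK LD1_c1 LD2_c47 LD3_c53)) :=
  Lgr Lrot100 (Lpr_af (K45.f525899 IH) (Lpn (LP (LK LD1_c1 LD2_c47 LD3_c53))))
theorem f658821 : Led Lsl_ff (LP (LK LD1_c3 LD2_c31 LD3_c32)) = v6832 :=
  Lgr Lrot52 (Lpr_at (f525906 IH) (Lpr_gf (K29.f491659 IH) (Lpr_gf (f658819 IH) (Lpn v6832))))
theorem f789951 : Led Lsl_cf v6832 = v20783 :=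
  Lgr Lrot108 (Lpe (f658821 IH) (Lpr_ct (K45.f455671 IH) (Lpr_ft (f789949 IH) (Lpn v20783))))
theorem f789953 : Led Lsl_ff (LP (LK LD1_c7 LD2_c4 LD3_c46)) = v20783 :=
  Lgr Lrot3 (Lpr_ft (f789949 IH) (Lpn v20783))
theorem f789957 : Led Lsl_gf (LP (LK LD1_c7 LD2_c22 LD3_c3)) = v20783 :=
  Lgr Lrot47 (Lpr_gt (K34.f519251 IH) (Lpe (K45.f525892 IH) (Lpr_ff (f789953 IH) (Lpn v20783))))
theorem f789958 : Led Lsl_gt (LP (LK LD1_c7 LD2_c24 LD3_c39)) = v20783 :=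
  Lgr Lrot5 (Lpr_ft (K62.f655160 IH) (Lpe (K46.f655114 IH) (Lpr_gf (f789957 IH) (Lpn v20783))))
theorem f488703 : Led Lsl_ct (LP (LK LD1_c7 LD2_c2 LD3_c29)) = (LP (LK LD1_c13 LD2_c21 LD3_c10)) :=
  Lre_c IH (LK LD1_c7 LD2_c2 LD3_c29) (LK LD1_c13 LD2_c21 LD3_c10) Lrfl Lrfl
theorem f655165 : Led Lsl_ct (LP (LK LD1_c14 LD2_c1 LD3_c6)) = (LP (LK LD1_c13 LD2_c21 LD3_c18)) :=
  Lgr Lrot40 (Lpr_ff (K62.f655162 IH) (Lpe (f488703 IH) (Lpe (K46.f655164 IH) (Lpn (LP (LK LD1_c13 LD2_c21 LD3_c18))))))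
theorem f487398 : Led Lsl_bt (LP (LK LD1_c23 LD2_c37 LD3_c19)) = (LP (LK LD1_c14 LD2_c4 LD3_c6)) :=
  Lre_b IH (LK LD1_c23 LD2_c37 LD3_c19) (LK LD1_c14 LD2_c4 LD3_c6) Lrfl Lrfl
theorem f487394 : Led Lsl_et (LP (LK LD1_c12 LD2_c34 LD3_c55)) = (LP (LK LD1_c21 LD2_c41 LD3_c23)) :=
  Lre_e IH (LK LD1_c12 LD2_c34 LD3_c55) (LK LD1_c21 LD2_c41 LD3_c23) Lrfl Lrfl
theorem f487395 : Led Lsl_et (LP (LK LD1_c23 LD2_c37 LD3_c19)) = (LP (LK LD1_c14 LD2_c4 LD3_c3)) :=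
  Lre_e IH (LK LD1_c23 LD2_c37 LD3_c19) (LK LD1_c14 LD2_c4 LD3_c3) Lrfl Lrfl
theorem f487396 : Led Lsl_ct (LP (LK LD1_c21 LD2_c41 LD3_c23)) = (LP (LK LD1_c23 LD2_c37 LD3_c19)) :=
  Lgr Lrot15 (Lpe (f487394 IH) (Lpr_cf (K48.f487387 IH) (Lpe (f487395 IH) (Lpn (LP (LK LD1_c23 LD2_c37 LD3_c19))))))
theorem f487400 : Led Lsl_cf (LP (LK LD1_c21 LD2_c41 LD3_c23)) = (LP (LK LD1_c23 LD2_c37 LD3_c19)) :=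
  Lgr Lrot11 (Lpr_ct (f487396 IH) (Lpn (LP (LK LD1_c23 LD2_c37 LD3_c19))))
theorem f817860 : Led Lsl_gf (LP (LK LD1_c13 LD2_c21 LD3_c18)) = (LP (LK LD1_c21 LD2_c41 LD3_c23)) :=
  Lgr Lrot126 (Lpe (f655165 IH) (Lpr_bt (K62.f517613 IH) (Lpr_gt (f789958 IH) (Lpe (f789951 IH) (Lpe (f658819 IH) (Lpe (f459316 IH) (Lpr_bt (f458321 IH) (Lpr_gt (f817858 IH) (Lpe (f487398 IH) (Lpe (f487400 IH) (Lpn (LP (LK LD1_c21 LD2_c41 LD3_c23)))))))))))))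
theorem f817861 : Led Lsl_gt (LP (LK LD1_c21 LD2_c41 LD3_c23)) = (LP (LK LD1_c13 LD2_c21 LD3_c18)) :=
  Leop (Lpr_gf (f817860 IH) (Lpn (LP (LK LD1_c21 LD2_c41 LD3_c23))))
theorem seed_1848 : LEOK LG_g (LK LD1_c21 LD2_c41 LD3_c23) :=
  Leoe_g (LK LD1_c21 LD2_c41 LD3_c23) (f817861 IH)
theorem f533065 : Led Lsl_at (LP (LK LD1_c22 LD2_c37 LD3_c47)) = (LP (LK LD1_c13 LD2_c21 LD3_c18)) :=
  Lre_a IH (LK LD1_c22 LD2_c37 LD3_c47) (LK LD1_c13 LD2_c21 LD3_c18) Lrfl Lrfl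
theorem f817862 : Led Lsl_gt (LP (LK LD1_c13 LD2_c21 LD3_c8)) = (LP (LK LD1_c21 LD2_c41 LD3_c23)) :=
  Lgr Lrot5 (Lpr_ft (K46.f533055 IH) (Lpr_at (f533065 IH) (Lpr_gf (f817860 IH) (Lpn (LP (LK LD1_c21 LD2_c41 LD3_c23))))))
theorem f655230 : Led Lsl_et (LP (LK LD1_c7 LD2_c2 LD3_c26)) = (LP (LK LD1_c13 LD2_c21 LD3_c8)) :=
  Lre_e IH (LK LD1_c7 LD2_c2 LD3_c26) (LK LD1_c13 LD2_c21 LD3_c8) Lrfl Lrfl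
theorem f655227 : Led Lsl_dt (LP (LK LD1_c7 LD2_c2 LD3_c26)) = (LP (LK LD1_c13 LD2_c21 LD3_c7)) :=
  Lre_d IH (LK LD1_c7 LD2_c2 LD3_c26) (LK LD1_c13 LD2_c21 LD3_c7) Lrfl Lrfl
theorem f469874 : Led Lsl_dt (LP (LK LD1_c13 LD2_c16 LD3_c60)) = (LP (LK LD1_c22 LD2_c32 LD3_c36)) :=
  Lre_d IH (LK LD1_c13 LD2_c16 LD3_c60) (LK LD1_c22 LD2_c32 LD3_c36) Lrfl Lrfl
theorem f655233 : Led Lsl_dt (LP (LK LD1_c13 LD2_c21 LD3_c7)) = (LP (LK LD1_c7 LD2_c2 LD3_c26)) :=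
  Lre_d IH (LK LD1_c13 LD2_c21 LD3_c7) (LK LD1_c7 LD2_c2 LD3_c26) Lrfl Lrfl
theorem f655234 : Led Lsl_ft (LP (LK LD1_c22 LD2_c32 LD3_c36)) = (LP (LK LD1_c13 LD2_c21 LD3_c7)) :=
  Lgr Lrot54 (Lpe (f469874 IH) (Lpr_ff (K46.f655231 IH) (Lpe (f655233 IH) (Lpn (LP (LK LD1_c13 LD2_c21 LD3_c7))))))
theorem f469873 : Led Lsl_ct (LP (LK LD1_c30 LD2_c34 LD3_c3)) = (LP (LK LD1_c22 LD2_c32 LD3_c36)) :=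
  Lre_c IH (LK LD1_c30 LD2_c34 LD3_c3) (LK LD1_c22 LD2_c32 LD3_c36) Lrfl Lrfl
theorem f655239 : Led Lsl_ct (LP (LK LD1_c13 LD2_c21 LD3_c7)) = (LP (LK LD1_c22 LD2_c37 LD3_c43)) :=
  Lre_c IH (LK LD1_c13 LD2_c21 LD3_c7) (LK LD1_c22 LD2_c37 LD3_c43) Lrfl Lrfl
theorem f657089 : Led Lsl_ff (LP (LK LD1_c30 LD2_c34 LD3_c3)) = (LP (LK LD1_c22 LD2_c37 LD3_c43)) :=
  Lgr Lrot23 (Lpr_ct (f469873 IH) (Lpr_ft (f655234 IH) (Lpr_ct (f655239 IH) (Lpn (LP (LK LD1_c22 LD2_c37 LD3_c43))))))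
theorem f657094 : Led Lsl_ft (LP (LK LD1_c30 LD2_c34 LD3_c3)) = (LP (LK LD1_c22 LD2_c37 LD3_c43)) :=
  Lgr Lrot48 (Lpr_ff (f657089 IH) (Lpn (LP (LK LD1_c22 LD2_c37 LD3_c43))))
theorem f469876 : Led Lsl_at (LP (LK LD1_c22 LD2_c32 LD3_c39)) = (LP (LK LD1_c30 LD2_c34 LD3_c3)) :=
  Lre_a IH (LK LD1_c22 LD2_c32 LD3_c39) (LK LD1_c30 LD2_c34 LD3_c3) Lrfl Lrfl
theorem f657096 : Led Lsl_at (LP (LK LD1_c22 LD2_c37 LD3_c43)) = (LP (LK LD1_c13 LD2_c21 LD3_c13)) :=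
  Lre_a IH (LK LD1_c22 LD2_c37 LD3_c43) (LK LD1_c13 LD2_c21 LD3_c13) Lrfl Lrfl
theorem f657097 : Led Lsl_ff (LP (LK LD1_c22 LD2_c32 LD3_c39)) = (LP (LK LD1_c13 LD2_c21 LD3_c13)) :=
  Lgr Lrot30 (Lpr_at (f469876 IH) (Lpr_ft (f657094 IH) (Lpr_at (f657096 IH) (Lpn (LP (LK LD1_c13 LD2_c21 LD3_c13))))))
theorem f469813 : Led Lsl_ct (LP (LK LD1_c22 LD2_c32 LD3_c39)) = (LP (LK LD1_c13 LD2_c16 LD3_c61)) :=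
  Lre_c IH (LK LD1_c22 LD2_c32 LD3_c39) (LK LD1_c13 LD2_c16 LD3_c61) Lrfl Lrfl
theorem f657105 : Led Lsl_ft (LP (LK LD1_c13 LD2_c16 LD3_c61)) = (LP (LK LD1_c7 LD2_c2 LD3_c28)) :=
  Lgr Lrot4 (Lpe (f469813 IH) (Lpr_ff (f657097 IH) (Lpe (f527092 IH) (Lpn (LP (LK LD1_c7 LD2_c2 LD3_c28))))))
theorem f463918 : Led Lsl_gt (LP (LK LD1_c13 LD2_c16 LD3_c61)) = (LP (LK LD1_c22 LD2_c32 LD3_c37)) :=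
  Lre_g IH (LK LD1_c13 LD2_c16 LD3_c61) (LK LD1_c22 LD2_c32 LD3_c37) Lrfl Lrfl
theorem f656841 : Led Lsl_at (LP (LK LD1_c7 LD2_c2 LD3_c28)) = (LP (LK LD1_c13 LD2_c21 LD3_c7)) :=
  Lre_a IH (LK LD1_c7 LD2_c2 LD3_c28) (LK LD1_c13 LD2_c21 LD3_c7) Lrfl Lrfl
theorem f657111 : Led Lsl_gt (LP (LK LD1_c22 LD2_c32 LD3_c37)) = (LP (LK LD1_c13 LD2_c21 LD3_c7)) :=
  Lgr Lrot46 (Lpe (f463918 IH) (Lpr_ft (f657105 IH) (Lpr_at (f656841 IH) (Lpn (LP (LK LD1_c13 LD2_c21 LD3_c7))))))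
def v22995 : LQ := Led Lsl_gf (LP (LK LD1_c7 LD2_c45 LD3_c33))
theorem f814254 : Led Lsl_gf (LP (LK LD1_c7 LD2_c45 LD3_c33)) = v22995 :=
  Lrfl
theorem f814256 : Led Lsl_ff (LP (LK LD1_c7 LD2_c45 LD3_c40)) = v22995 :=
  Lgr Lrot52 (Lpr_at (f809520 IH) (Lpr_gf (f613797 IH) (Lpr_gf (f814254 IH) (Lpn v22995))))
theorem f814259 : Led Lsl_ft (LP (LK LD1_c7 LD2_c45 LD3_c40)) = v22995 :=
  Lgr Lrot48 (Lpr_ff (f814256 IH) (Lpn v22995))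
theorem f657420 : Led Lsl_dt (LP (LK LD1_c13 LD2_c21 LD3_c11)) = (LP (LK LD1_c7 LD2_c45 LD3_c40)) :=
  Lgr Lrot42 (Lpr_df (f657415 IH) (Lpn (LP (LK LD1_c7 LD2_c45 LD3_c40))))
theorem f535464 : Led Lsl_gf (LP (LK LD1_c14 LD2_c48 LD3_c28)) = (LP (LK LD1_c14 LD2_c2 LD3_c59)) :=
  Lgr Lrot76 (Lpe (f524373 IH) (Lpe (f524407 IH) (Lpr_gt (f535462 IH) (Lpn (LP (LK LD1_c14 LD2_c2 LD3_c59))))))
theorem f469812 : Led Lsl_dt (LP (LK LD1_c13 LD2_c16 LD3_c61)) = (LP (LK LD1_c7 LD2_c0 LD3_c0)) :=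
  Lre_d IH (LK LD1_c13 LD2_c16 LD3_c61) (LK LD1_c7 LD2_c0 LD3_c0) Lrfl Lrfl
theorem f469841 : Led Lsl_gt (LP (LK LD1_c22 LD2_c32 LD3_c38)) = (LP (LK LD1_c13 LD2_c16 LD3_c61)) :=
  Lre_g IH (LK LD1_c22 LD2_c32 LD3_c38) (LK LD1_c13 LD2_c16 LD3_c61) Lrfl Lrfl
theorem f613801 : Led Lsl_dt (LP (LK LD1_c14 LD2_c19 LD3_c7)) = (LP (LK LD1_c22 LD2_c32 LD3_c38)) :=
  Lgr Lrot57 (Lpr_gf (f613797 IH) (Lpr_cf (K34.f492970 IH) (Lpe (f535464 IH) (Lpe (f524371 IH) (Lpr_gt (f468136 IH) (Lpr_dt (K47.f469654 IH) (Lpr_cf (K34.f469642 IH) (Lpe (f469812 IH) (Lpe (f469841 IH) (Lpn (LP (LK LD1_c22 LD2_c32 LD3_c38))))))))))))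
theorem f809524 : Led Lsl_af (LP (LK LD1_c13 LD2_c21 LD3_c11)) = (LP (LK LD1_c22 LD2_c32 LD3_c38)) :=
  Lgr Lrot117 (Lpr_dt (f657420 IH) (Lpr_at (f809520 IH) (Lpr_dt (f613801 IH) (Lpn (LP (LK LD1_c22 LD2_c32 LD3_c38))))))
theorem f809528 : Led Lsl_ft (LP (LK LD1_c13 LD2_c21 LD3_c12)) = (LP (LK LD1_c22 LD2_c32 LD3_c38)) :=
  Lgr Lrot2 (Lpr_gt (f477910 IH) (Lpr_gt (f468565 IH) (Lpr_af (f809524 IH) (Lpn (LP (LK LD1_c22 LD2_c32 LD3_c38))))))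
theorem f809532 : Led Lsl_ff (LP (LK LD1_c13 LD2_c21 LD3_c12)) = (LP (LK LD1_c22 LD2_c32 LD3_c38)) :=
  Lgr Lrot3 (Lpr_ft (f809528 IH) (Lpn (LP (LK LD1_c22 LD2_c32 LD3_c38))))
theorem f809536 : Led Lsl_at (LP (LK LD1_c13 LD2_c21 LD3_c12)) = (LP (LK LD1_c22 LD2_c32 LD3_c37)) :=
  Lgr Lrot26 (Lpr_ff (f809532 IH) (Lpr_gt (f469841 IH) (Lpr_gt (f463918 IH) (Lpn (LP (LK LD1_c22 LD2_c32 LD3_c37))))))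
theorem f809526 : Led Lsl_at (LP (LK LD1_c13 LD2_c21 LD3_c11)) = (LP (LK LD1_c22 LD2_c32 LD3_c38)) :=
  Lgr Lrot100 (Lpr_af (f809524 IH) (Lpn (LP (LK LD1_c22 LD2_c32 LD3_c38))))
theorem f809540 : Led Lsl_ff (LP (LK LD1_c13 LD2_c21 LD3_c11)) = (LP (LK LD1_c22 LD2_c32 LD3_c37)) :=
  Lgr Lrot30 (Lpr_at (f809526 IH) (Lpe (f809532 IH) (Lpr_at (f809536 IH) (Lpn (LP (LK LD1_c22 LD2_c32 LD3_c37))))))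
theorem f814261 : Led Lsl_df (LP (LK LD1_c22 LD2_c32 LD3_c37)) = v22995 :=
  Lgr Lrot78 (Lpe (f809540 IH) (Lpr_dt (f657420 IH) (Lpr_ft (f814259 IH) (Lpn v22995))))
theorem f492584 : Led Lsl_at (LP (LK LD1_c3 LD2_c51 LD3_c55)) = (LP (LK LD1_c7 LD2_c45 LD3_c33)) :=
  Lre_a IH (LK LD1_c3 LD2_c51 LD3_c55) (LK LD1_c7 LD2_c45 LD3_c33) Lrfl Lrfl
theorem f814255 : Led Lsl_gt (LP (LK LD1_c7 LD2_c45 LD3_c43)) = v22995 :=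
  Lgr Lrot5 (Lpr_ft (K34.f492088 IH) (Lpr_at (f492584 IH) (Lpr_gf (f814254 IH) (Lpn v22995))))
theorem f440376 : Led Lsl_dt (LP (LK LD1_c12 LD2_c34 LD3_c55)) = (LP (LK LD1_c21 LD2_c41 LD3_c22)) :=
  Lre_d IH (LK LD1_c12 LD2_c34 LD3_c55) (LK LD1_c21 LD2_c41 LD3_c22) Lrfl Lrfl
theorem f817866 : Led Lsl_gf (LP (LK LD1_c14 LD2_c1 LD3_c25)) = (LP (LK LD1_c21 LD2_c41 LD3_c22)) :=
  Lgr Lrot145 (Lpr_df (K37.f474272 IH) (Lpr_et (K34.f492082 IH) (Lpr_gt (f814255 IH) (Lpe (f814261 IH) (Lpr_gt (f657111 IH) (Lpe (f655227 IH) (Lpr_et (f655230 IH) (Lpr_gt (f817862 IH) (Lpe (f487394 IH) (Lpr_dt (f440376 IH) (Lpn (LP (LK LD1_c21 LD2_c41 LD3_c22)))))))))))))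
theorem f817867 : Led Lsl_gt (LP (LK LD1_c21 LD2_c41 LD3_c22)) = (LP (LK LD1_c14 LD2_c1 LD3_c25)) :=
  Leop (Lpr_gf (f817866 IH) (Lpn (LP (LK LD1_c21 LD2_c41 LD3_c22))))
theorem seed_1849 : LEOK LG_g (LK LD1_c21 LD2_c41 LD3_c22) :=
  Leoe_g (LK LD1_c21 LD2_c41 LD3_c22) (f817867 IH)
def v23575 : LQ := Led Lsl_ft (LP (LK LD1_c7 LD2_c54 LD3_c49))
theorem f817896 : Led Lsl_ft (LP (LK LD1_c7 LD2_c54 LD3_c49)) = v23575 :=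
  Lrfl
theorem f451840 : Led Lsl_gt (LP (LK LD1_c7 LD2_c54 LD3_c49)) = (LP (LK LD1_c14 LD2_c55 LD3_c36)) :=
  Lre_g IH (LK LD1_c7 LD2_c54 LD3_c49) (LK LD1_c14 LD2_c55 LD3_c36) Lrfl Lrfl
theorem f451669 : Led Lsl_ft (LP (LK LD1_c7 LD2_c55 LD3_c9)) = (LP (LK LD1_c3 LD2_c56 LD3_c40)) :=
  Lre_f IH (LK LD1_c7 LD2_c55 LD3_c9) (LK LD1_c3 LD2_c56 LD3_c40) Lrfl Lrfl
theorem f817897 : Led Lsl_af (LP (LK LD1_c7 LD2_c55 LD3_c9)) = v23575 :=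
  Lgr Lrot45 (Lpr_ft (f451669 IH) (Lpr_at (K62.f462974 IH) (Lpr_ft (f817896 IH) (Lpn v23575))))
theorem f817900 : Led Lsl_gt (LP (LK LD1_c14 LD2_c55 LD3_c36)) = (LP (LK LD1_c7 LD2_c55 LD3_c9)) :=
  Lgr Lrot46 (Lpe (f451840 IH) (Lpr_ft (f817896 IH) (Lpe (f817897 IH) (Lpn (LP (LK LD1_c7 LD2_c55 LD3_c9))))))
theorem f817901 : Led Lsl_gt (LP (LK LD1_c14 LD2_c55 LD3_c36)) = (LP (LK LD1_c7 LD2_c55 LD3_c9)) :=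
  Leop (Lpe (f817900 IH) (Lpn (LP (LK LD1_c14 LD2_c55 LD3_c36))))
theorem seed_1850 : LEOK LG_g (LK LD1_c14 LD2_c55 LD3_c36) :=
  Leoe_g (LK LD1_c14 LD2_c55 LD3_c36) (f817901 IH)
def v23576 : LQ := Led Lsl_at (LP (LK LD1_c7 LD2_c54 LD3_c50))
theorem f817918 : Led Lsl_at (LP (LK LD1_c7 LD2_c54 LD3_c50)) = v23576 :=
  Lrfl
theorem f817919 : Led Lsl_af (LP (LK LD1_c7 LD2_c54 LD3_c50)) = v23576 :=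
  Lgr Lrot0 (Lpr_at (f817918 IH) (Lpn v23576))
theorem f817920 : Led Lsl_ft (LP (LK LD1_c7 LD2_c54 LD3_c51)) = v23576 :=
  Lgr Lrot2 (Lpr_gt (K39.f465018 IH) (Lpr_gt (K34.f464704 IH) (Lpr_af (f817919 IH) (Lpn v23576))))
theorem f817922 : Led Lsl_ff (LP (LK LD1_c7 LD2_c54 LD3_c51)) = v23576 :=
  Lgr Lrot3 (Lpr_ft (f817920 IH) (Lpn v23576))
def v23255 : LQ := Led Lsl_ft (LP (LK LD1_c7 LD2_c49 LD3_c45))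
theorem f815918 : Led Lsl_ft (LP (LK LD1_c7 LD2_c49 LD3_c45)) = v23255 :=
  Lrfl
theorem f817923 : Led Lsl_bt v23255 = v23576 :=
  Lgr Lrot35 (Lpe (f815918 IH) (Lpr_bf (K41.f488324 IH) (Lpr_ff (f817922 IH) (Lpn v23576))))
theorem f815921 : Led Lsl_ff (LP (LK LD1_c7 LD2_c49 LD3_c45)) = v23255 :=
  Lgr Lrot3 (Lpr_ft (f815918 IH) (Lpn v23255))
def v23254 : LQ := Led Lsl_at (LP (LK LD1_c7 LD2_c49 LD3_c45))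
theorem f815914 : Led Lsl_at (LP (LK LD1_c7 LD2_c49 LD3_c45)) = v23254 :=
  Lrfl
theorem f815915 : Led Lsl_af (LP (LK LD1_c7 LD2_c49 LD3_c45)) = v23254 :=
  Lgr Lrot0 (Lpr_at (f815914 IH) (Lpn v23254))
theorem f815916 : Led Lsl_ft (LP (LK LD1_c7 LD2_c49 LD3_c46)) = v23254 :=
  Lgr Lrot2 (Lpr_gt (K49.f95871 IH) (Lpr_gt (K41.f95872 IH) (Lpr_af (f815915 IH) (Lpn v23254))))
theorem f815917 : Led Lsl_ff (LP (LK LD1_c7 LD2_c49 LD3_c46)) = v23254 :=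
  Lgr Lrot3 (Lpr_ft (f815916 IH) (Lpn v23254))
theorem f815922 : Led Lsl_at (LP (LK LD1_c7 LD2_c49 LD3_c46)) = v23255 :=
  Lgr Lrot66 (Lpr_ff (f815917 IH) (Lpe (f815914 IH) (Lpr_ff (f815921 IH) (Lpn v23255))))
theorem f534114 : Led Lsl_bf (LP (LK LD1_c7 LD2_c49 LD3_c46)) = (LP (LK LD1_c14 LD2_c28 LD3_c40)) :=
  Lgr Lrot24 (Lpr_bt (K41.f534112 IH) (Lpn (LP (LK LD1_c14 LD2_c28 LD3_c40))))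
theorem f817924 : Led Lsl_af (LP (LK LD1_c14 LD2_c28 LD3_c40)) = (LP (LK LD1_c14 LD2_c55 LD3_c38)) :=
  Lgr Lrot36 (Lpe (f534114 IH) (Lpr_at (f815922 IH) (Lpr_bt (f817923 IH) (Lpe (f817919 IH) (Lpr_bt (K34.f464722 IH) (Lpn (LP (LK LD1_c14 LD2_c55 LD3_c38))))))))
theorem f817925 : Led Lsl_at (LP (LK LD1_c14 LD2_c55 LD3_c38)) = (LP (LK LD1_c14 LD2_c28 LD3_c40)) :=
  Leop (Lpr_af (f817924 IH) (Lpn (LP (LK LD1_c14 LD2_c55 LD3_c38))))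
theorem seed_1851 : LEOK LG_a (LK LD1_c14 LD2_c55 LD3_c38) :=
  Leoe_a (LK LD1_c14 LD2_c55 LD3_c38) (f817925 IH)
theorem f129494 : Led Lsl_dt (LP (LK LD1_c24 LD2_c32 LD3_c22)) = (LP (LK LD1_c14 LD2_c46 LD3_c8)) :=
  Lre_d IH (LK LD1_c24 LD2_c32 LD3_c22) (LK LD1_c14 LD2_c46 LD3_c8) Lrfl Lrfl
def v20320 : LQ := Led Lsl_at (LP (LK LD1_c6 LD2_c54 LD3_c20))
theorem f786308 : Led Lsl_at (LP (LK LD1_c6 LD2_c54 LD3_c20)) = v20320 :=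
  Lrfl
theorem f786309 : Led Lsl_af (LP (LK LD1_c6 LD2_c54 LD3_c20)) = v20320 :=
  Lgr Lrot0 (Lpr_at (f786308 IH) (Lpn v20320))
theorem f786310 : Led Lsl_ft (LP (LK LD1_c6 LD2_c54 LD3_c21)) = v20320 :=
  Lgr Lrot2 (Lpr_gt (K28.f15925 IH) (Lpr_gt (K8.f15922 IH) (Lpr_af (f786309 IH) (Lpn v20320))))
theorem f786311 : Led Lsl_ff (LP (LK LD1_c6 LD2_c54 LD3_c21)) = v20320 :=
  Lgr Lrot3 (Lpr_ft (f786310 IH) (Lpn v20320))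
def v22025 : LQ := Led Lsl_at (LP (LK LD1_c7 LD2_c30 LD3_c18))
theorem f800726 : Led Lsl_at (LP (LK LD1_c7 LD2_c30 LD3_c18)) = v22025 :=
  Lrfl
theorem f800727 : Led Lsl_af (LP (LK LD1_c7 LD2_c30 LD3_c18)) = v22025 :=
  Lgr Lrot0 (Lpr_at (f800726 IH) (Lpn v22025))
def v23264 : LQ := Led Lsl_at (LP (LK LD1_c7 LD2_c49 LD3_c55))
theorem f815950 : Led Lsl_at (LP (LK LD1_c7 LD2_c49 LD3_c55)) = v23264 :=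
  Lrfl
def v21217 : LQ := Led Lsl_at (LP (LK LD1_c7 LD2_c14 LD3_c20))
theorem f794510 : Led Lsl_at (LP (LK LD1_c7 LD2_c14 LD3_c20)) = v21217 :=
  Lrfl
theorem f794511 : Led Lsl_af (LP (LK LD1_c7 LD2_c14 LD3_c20)) = v21217 :=
  Lgr Lrot0 (Lpr_at (f794510 IH) (Lpn v21217))
theorem f815952 : Led Lsl_cf v21217 = v23264 :=
  Lgr Lrot1 (Lpe (f794511 IH) (Lpr_ct (K35.f475302 IH) (Lpr_at (f815950 IH) (Lpn v23264))))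
theorem f794512 : Led Lsl_ft (LP (LK LD1_c7 LD2_c14 LD3_c21)) = v21217 :=
  Lgr Lrot2 (Lpr_gt (K29.f425456 IH) (Lpr_gt (K35.f425438 IH) (Lpr_af (f794511 IH) (Lpn v21217))))
theorem f794513 : Led Lsl_ff (LP (LK LD1_c7 LD2_c14 LD3_c21)) = v21217 :=
  Lgr Lrot3 (Lpr_ft (f794512 IH) (Lpn v21217))
theorem f815954 : Led Lsl_ft (LP (LK LD1_c7 LD2_c49 LD3_c56)) = v23264 :=
  Lgr Lrot4 (Lpr_cf (K29.f470973 IH) (Lpr_ff (f794513 IH) (Lpr_cf (f815952 IH) (Lpn v23264))))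
def v23265 : LQ := Led Lsl_ft (LP (LK LD1_c7 LD2_c49 LD3_c55))
theorem f815956 : Led Lsl_ft (LP (LK LD1_c7 LD2_c49 LD3_c55)) = v23265 :=
  Lrfl
theorem f815951 : Led Lsl_af (LP (LK LD1_c7 LD2_c49 LD3_c55)) = v23264 :=
  Lgr Lrot0 (Lpr_at (f815950 IH) (Lpn v23264))
theorem f815957 : Led Lsl_af (LP (LK LD1_c7 LD2_c49 LD3_c56)) = v23265 :=
  Lgr Lrot45 (Lpr_ft (f815954 IH) (Lpe (f815951 IH) (Lpr_ft (f815956 IH) (Lpn v23265))))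
theorem f533844 : Led Lsl_ff (LP (LK LD1_c14 LD2_c18 LD3_c58)) = (LP (LK LD1_c14 LD2_c55 LD3_c31)) :=
  Lgr Lrot25 (Lpe (K34.f142489 IH) (Lpr_ft (K35.f533840 IH) (Lpr_bt (K35.f464648 IH) (Lpn (LP (LK LD1_c14 LD2_c55 LD3_c31))))))
theorem f145083 : Led Lsl_af (LP (LK LD1_c7 LD2_c40 LD3_c47)) = (LP (LK LD1_c14 LD2_c18 LD3_c58)) :=
  Lgr Lrot0 (Lpr_at (K6.f145081 IH) (Lpn (LP (LK LD1_c14 LD2_c18 LD3_c58))))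
theorem f534858 : Led Lsl_gf (LP (LK LD1_c14 LD2_c28 LD3_c40)) = (LP (LK LD1_c14 LD2_c55 LD3_c31)) :=
  Lgr Lrot47 (Lpr_gt (K41.f144914 IH) (Lpr_af (f145083 IH) (Lpr_ff (f533844 IH) (Lpn (LP (LK LD1_c14 LD2_c55 LD3_c31))))))
theorem f817930 : Led Lsl_ft (LP (LK LD1_c14 LD2_c28 LD3_c39)) = (LP (LK LD1_c14 LD2_c55 LD3_c38)) :=
  Lgr Lrot2 (Lpe (K35.f534552 IH) (Lpe (f534858 IH) (Lpr_af (f817924 IH) (Lpn (LP (LK LD1_c14 LD2_c55 LD3_c38))))))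
theorem f815959 : Led Lsl_ff (LP (LK LD1_c7 LD2_c49 LD3_c55)) = v23265 :=
  Lgr Lrot3 (Lpr_ft (f815956 IH) (Lpn v23265))
theorem f817936 : v23265 = (LP (LK LD1_c7 LD2_c54 LD3_c50)) :=
  (Llr Lrot25 (Lpe (f815959 IH) (Lpr_bt (K35.f533431 IH) (Lpr_ft (f817930 IH) (Lpr_bt (K34.f464719 IH) (Lpn (LP (LK LD1_c7 LD2_c54 LD3_c50)))))))).symm
theorem f817939 : (LP (LK LD1_c7 LD2_c49 LD3_c56)) = v23576 :=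
  Lefun (Lecon (Lfl_af (f815957 IH)) (f817936 IH)) (f817918 IH)
theorem f817954 : (LP (LK LD1_c7 LD2_c54 LD3_c51)) = v23264 :=
  Lefun (Lecon (Lfl_ff (f817922 IH)) (f817939 IH).symm) (f815954 IH)
theorem f817959 : v21217 = (LP (LK LD1_c13 LD2_c41 LD3_c31)) :=
  Lefun (Lecon (Lfl_cf (f815952 IH)) (f817954 IH).symm) (Lfl_cf (K41.f488320 IH))
def v21216 : LQ := Led Lsl_ft (LP (LK LD1_c7 LD2_c14 LD3_c9))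
theorem f794506 : Led Lsl_ft (LP (LK LD1_c7 LD2_c14 LD3_c9)) = v21216 :=
  Lrfl
theorem f817966 : (LP (LK LD1_c13 LD2_c14 LD3_c2)) = v21216 :=
  (Llr Lrot61 (Lpr_bt (K62.f470979 IH) (Lpr_ft (f794512 IH) (Lpqs (f817959 IH) (Lpr_bt (K39.f17495 IH) (Lpr_ft (f794506 IH) (Lpn v21216))))))).symm
theorem f470981 : Led Lsl_ct (LP (LK LD1_c13 LD2_c14 LD3_c2)) = (LP (LK LD1_c22 LD2_c28 LD3_c43)) :=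
  Lre_c IH (LK LD1_c13 LD2_c14 LD3_c2) (LK LD1_c22 LD2_c28 LD3_c43) Lrfl Lrfl
theorem f817971 : Led Lsl_ff (LP (LK LD1_c13 LD2_c41 LD3_c32)) = (LP (LK LD1_c22 LD2_c28 LD3_c43)) :=
  Lgr Lrot23 (Lpr_ct (K41.f96586 IH) (Lpr_ft (f794506 IH) (Lpq (f817966 IH) (Lpr_ct (f470981 IH) (Lpn (LP (LK LD1_c22 LD2_c28 LD3_c43)))))))
theorem f564831 : Led Lsl_gt (LP (LK LD1_c22 LD2_c28 LD3_c43)) = (LP (LK LD1_c14 LD2_c18 LD3_c31)) :=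
  Lgr Lrot65 (Lpe (f470981 IH) (Lpr_bt (K62.f470979 IH) (Lpe (K29.f425514 IH) (Lpr_bf (K29.f425307 IH) (Lpe (K29.f470951 IH) (Lpe (K29.f129883 IH) (Lpr_cf (K29.f461976 IH) (Lpr_gf (K63.f564827 IH) (Lpr_bf (K6.f136355 IH) (Lpr_ct (K6.f110233 IH) (Lpn (LP (LK LD1_c14 LD2_c18 LD3_c31)))))))))))))
theorem f472131 : Led Lsl_bf (LP (LK LD1_c22 LD2_c28 LD3_c39)) = (LP (LK LD1_c13 LD2_c29 LD3_c26)) :=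
  Lgr Lrot24 (Lpr_bt (K41.f472129 IH) (Lpn (LP (LK LD1_c13 LD2_c29 LD3_c26))))
theorem f465586 : Led Lsl_gt (LP (LK LD1_c13 LD2_c7 LD3_c14)) = (LP (LK LD1_c22 LD2_c19 LD3_c0)) :=
  Lre_g IH (LK LD1_c13 LD2_c7 LD3_c14) (LK LD1_c22 LD2_c19 LD3_c0) Lrfl Lrfl
theorem f472532 : Led Lsl_ct (LP (LK LD1_c13 LD2_c29 LD3_c26)) = (LP (LK LD1_c22 LD2_c19 LD3_c0)) :=
  Lgr Lrot63 (Lpe (f472131 IH) (Lpr_gt (K41.f472530 IH) (Lpe (K41.f470360 IH) (Lpe (K41.f470363 IH) (Lpe (K41.f462657 IH) (Lpe (K8.f108054 IH) (Lpe (K8.f160373 IH) (Lpe (K28.f465592 IH) (Lpr_ct (K28.f465555 IH) (Lpr_gt (f465586 IH) (Lpn (LP (LK LD1_c22 LD2_c19 LD3_c0)))))))))))))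
theorem f472534 : Led Lsl_cf (LP (LK LD1_c13 LD2_c29 LD3_c26)) = (LP (LK LD1_c22 LD2_c19 LD3_c0)) :=
  Lgr Lrot11 (Lpr_ct (f472532 IH) (Lpn (LP (LK LD1_c22 LD2_c19 LD3_c0))))
theorem f564795 : Led Lsl_at (LP (LK LD1_c23 LD2_c6 LD3_c37)) = (LP (LK LD1_c22 LD2_c19 LD3_c0)) :=
  Lgr Lrot107 (Lpe (K41.f465435 IH) (Lpr_af (K41.f564789 IH) (Lpr_cf (f472534 IH) (Lpn (LP (LK LD1_c22 LD2_c19 LD3_c0))))))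
theorem f564441 : Led Lsl_ff (LP (LK LD1_c23 LD2_c6 LD3_c37)) = (LP (LK LD1_c14 LD2_c18 LD3_c31)) :=
  Lgr Lrot25 (Lpr_bt (K41.f465431 IH) (Lpr_ft (K41.f564439 IH) (Lpr_bt (K6.f110239 IH) (Lpn (LP (LK LD1_c14 LD2_c18 LD3_c31))))))
theorem f616131 : Led Lsl_gt (LP (LK LD1_c14 LD2_c18 LD3_c31)) = (LP (LK LD1_c13 LD2_c7 LD3_c14)) :=
  Lgr Lrot5 (Lpe (f564441 IH) (Lpr_at (f564795 IH) (Lpe (f465586 IH) (Lpn (LP (LK LD1_c13 LD2_c7 LD3_c14))))))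
theorem f818024 : Led Lsl_at (LP (LK LD1_c13 LD2_c41 LD3_c32)) = (LP (LK LD1_c13 LD2_c7 LD3_c14)) :=
  Lgr Lrot26 (Lpr_ff (f817971 IH) (Lpr_gt (f564831 IH) (Lpr_gt (f616131 IH) (Lpn (LP (LK LD1_c13 LD2_c7 LD3_c14))))))
def v21215 : LQ := Led Lsl_at (LP (LK LD1_c7 LD2_c14 LD3_c9))
theorem f794502 : Led Lsl_at (LP (LK LD1_c7 LD2_c14 LD3_c9)) = v21215 :=
  Lrfl
theorem f794503 : Led Lsl_af (LP (LK LD1_c7 LD2_c14 LD3_c9)) = v21215 :=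
  Lgr Lrot0 (Lpr_at (f794502 IH) (Lpn v21215))
theorem f818030 : v21215 = (LP (LK LD1_c13 LD2_c14 LD3_c3)) :=
  (Llr Lrot68 (Lpe (f794503 IH) (Lpr_ct (K41.f17494 IH) (Lpr_at (f818024 IH) (Lpe (K28.f465582 IH) (Lpn (LP (LK LD1_c13 LD2_c14 LD3_c3)))))))).symm
theorem f794504 : Led Lsl_ft (LP (LK LD1_c7 LD2_c14 LD3_c10)) = v21215 :=
  Lgr Lrot2 (Lpr_gt (K28.f17496 IH) (Lpr_gt (K39.f17489 IH) (Lpr_af (f794503 IH) (Lpn v21215))))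
theorem f818037 : Led Lsl_ff (LP (LK LD1_c13 LD2_c41 LD3_c35)) = (LP (LK LD1_c13 LD2_c7 LD3_c14)) :=
  Lgr Lrot23 (Lpr_ct (K35.f96587 IH) (Lpr_ft (f794504 IH) (Lpqs (f818030 IH) (Lpr_ct (K28.f465555 IH) (Lpn (LP (LK LD1_c13 LD2_c7 LD3_c14)))))))
theorem f800728 : Led Lsl_ft (LP (LK LD1_c7 LD2_c30 LD3_c19)) = v22025 :=
  Lgr Lrot2 (Lpr_gt (K28.f16746 IH) (Lpr_gt (K28.f16726 IH) (Lpr_af (f800727 IH) (Lpn v22025))))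
theorem f458111 : Led Lsl_bt (LP (LK LD1_c6 LD2_c54 LD3_c20)) = (LP (LK LD1_c13 LD2_c7 LD3_c14)) :=
  Lre_b IH (LK LD1_c6 LD2_c54 LD3_c20) (LK LD1_c13 LD2_c7 LD3_c14) Lrfl Lrfl
theorem f818045 : v22025 = (LP (LK LD1_c6 LD2_c54 LD3_c20)) :=
  (Llr Lrot75 (Lpe (f800728 IH) (Lpe (K35.f472202 IH) (Lpr_ff (f818037 IH) (Lpe (f458111 IH) (Lpn (LP (LK LD1_c6 LD2_c54 LD3_c20)))))))).symm
theorem f818046 : (LP (LK LD1_c7 LD2_c30 LD3_c18)) = v20320 :=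
  Lefun (Lecon (Lfl_af (f800727 IH)) (f818045 IH)) (f786308 IH)
theorem f16730 : Led Lsl_dt (LP (LK LD1_c14 LD2_c10 LD3_c22)) = (LP (LK LD1_c7 LD2_c30 LD3_c18)) :=
  Lre_d IH (LK LD1_c14 LD2_c10 LD3_c22) (LK LD1_c7 LD2_c30 LD3_c18) Lrfl Lrfl
theorem f15926 : Led Lsl_dt (LP (LK LD1_c6 LD2_c54 LD3_c21)) = (LP (LK LD1_c13 LD2_c7 LD3_c20)) :=
  Lre_d IH (LK LD1_c6 LD2_c54 LD3_c21) (LK LD1_c13 LD2_c7 LD3_c20) Lrfl Lrfl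
theorem f818061 : Led Lsl_ff (LP (LK LD1_c14 LD2_c10 LD3_c22)) = (LP (LK LD1_c13 LD2_c7 LD3_c20)) :=
  Lgr Lrot19 (Lpr_dt (f16730 IH) (Lpqs (f818046 IH) (Lpe (f786311 IH) (Lpr_dt (f15926 IH) (Lpn (LP (LK LD1_c13 LD2_c7 LD3_c20)))))))
theorem f818067 : Led Lsl_ft (LP (LK LD1_c14 LD2_c10 LD3_c22)) = (LP (LK LD1_c13 LD2_c7 LD3_c20)) :=
  Lgr Lrot48 (Lpr_ff (f818061 IH) (Lpn (LP (LK LD1_c13 LD2_c7 LD3_c20))))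
theorem f611674 : Led Lsl_bt (LP (LK LD1_c23 LD2_c45 LD3_c33)) = (LP (LK LD1_c14 LD2_c10 LD3_c22)) :=
  Lre_b IH (LK LD1_c23 LD2_c45 LD3_c33) (LK LD1_c14 LD2_c10 LD3_c22) Lrfl Lrfl
theorem f661087 : Led Lsl_bt (LP (LK LD1_c13 LD2_c7 LD3_c20)) = (LP (LK LD1_c22 LD2_c19 LD3_c9)) :=
  Lre_b IH (LK LD1_c13 LD2_c7 LD3_c20) (LK LD1_c22 LD2_c19 LD3_c9) Lrfl Lrfl
theorem f818069 : Led Lsl_ff (LP (LK LD1_c23 LD2_c45 LD3_c33)) = (LP (LK LD1_c22 LD2_c19 LD3_c9)) :=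
  Lgr Lrot25 (Lpr_bt (f611674 IH) (Lpr_ft (f818067 IH) (Lpr_bt (f661087 IH) (Lpn (LP (LK LD1_c22 LD2_c19 LD3_c9))))))
theorem f428965 : Led Lsl_dt (LP (LK LD1_c23 LD2_c45 LD3_c33)) = (LP (LK LD1_c14 LD2_c10 LD3_c20)) :=
  Lre_d IH (LK LD1_c23 LD2_c45 LD3_c33) (LK LD1_c14 LD2_c10 LD3_c20) Lrfl Lrfl
theorem f489492 : Led Lsl_dt (LP (LK LD1_c13 LD2_c7 LD3_c18)) = (LP (LK LD1_c22 LD2_c19 LD3_c9)) :=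
  Lre_d IH (LK LD1_c13 LD2_c7 LD3_c18) (LK LD1_c22 LD2_c19 LD3_c9) Lrfl Lrfl
theorem f818073 : Led Lsl_ft (LP (LK LD1_c14 LD2_c10 LD3_c20)) = (LP (LK LD1_c13 LD2_c7 LD3_c18)) :=
  Lgr Lrot54 (Lpe (f428965 IH) (Lpr_ff (f818069 IH) (Lpe (f489492 IH) (Lpn (LP (LK LD1_c13 LD2_c7 LD3_c18))))))
theorem f818077 : (LP (LK LD1_c14 LD2_c46 LD3_c8)) = v23254 :=
  (Llr Lrot108 (Lpr_ct (K37.f465453 IH) (Lpr_ft (f818073 IH) (Lpr_ct (K28.f465549 IH) (Lpr_ft (f815916 IH) (Lpn v23254)))))).symm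
theorem f95891 : Led Lsl_dt (LP (LK LD1_c7 LD2_c49 LD3_c45)) = (LP (LK LD1_c14 LD2_c46 LD3_c12)) :=
  Lre_d IH (LK LD1_c7 LD2_c49 LD3_c45) (LK LD1_c14 LD2_c46 LD3_c12) Lrfl Lrfl
theorem f819061 : Led Lsl_af (LP (LK LD1_c24 LD2_c32 LD3_c22)) = (LP (LK LD1_c14 LD2_c46 LD3_c12)) :=
  Lgr Lrot117 (Lpr_dt (f129494 IH) (Lpqs (f818077 IH) (Lpe (f815915 IH) (Lpr_dt (f95891 IH) (Lpn (LP (LK LD1_c14 LD2_c46 LD3_c12)))))))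
theorem f819063 : Led Lsl_at (LP (LK LD1_c24 LD2_c32 LD3_c22)) = (LP (LK LD1_c14 LD2_c46 LD3_c12)) :=
  Lgr Lrot100 (Lpr_af (f819061 IH) (Lpn (LP (LK LD1_c14 LD2_c46 LD3_c12))))
theorem f126469 : Led Lsl_dt (LP (LK LD1_c14 LD2_c46 LD3_c14)) = (LP (LK LD1_c7 LD2_c49 LD3_c46)) :=
  Lre_d IH (LK LD1_c14 LD2_c46 LD3_c14) (LK LD1_c7 LD2_c49 LD3_c46) Lrfl Lrfl
theorem f818084 : Led Lsl_ff (LP (LK LD1_c14 LD2_c46 LD3_c14)) = (LP (LK LD1_c24 LD2_c32 LD3_c22)) :=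
  Lgr Lrot19 (Lpr_dt (f126469 IH) (Lpr_ft (f815916 IH) (Lpq (f818077 IH) (Lpr_dt (K48.f129366 IH) (Lpn (LP (LK LD1_c24 LD2_c32 LD3_c22)))))))
theorem f818086 : Led Lsl_ft (LP (LK LD1_c14 LD2_c46 LD3_c14)) = (LP (LK LD1_c24 LD2_c32 LD3_c22)) :=
  Lgr Lrot48 (Lpr_ff (f818084 IH) (Lpn (LP (LK LD1_c24 LD2_c32 LD3_c22))))
theorem f522816 : Led Lsl_ff (LP (LK LD1_c13 LD2_c13 LD3_c13)) = (LP (LK LD1_c22 LD2_c19 LD3_c44)) :=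
  Lgr Lrot19 (Lpr_dt (K60.f469044 IH) (Lpe (K60.f518371 IH) (Lpr_dt (K63.f522807 IH) (Lpn (LP (LK LD1_c22 LD2_c19 LD3_c44))))))
theorem f518353 : Led Lsl_af (LP (LK LD1_c14 LD2_c44 LD3_c4)) = (LP (LK LD1_c13 LD2_c13 LD3_c13)) :=
  Lgr Lrot0 (Lpr_at (K60.f518351 IH) (Lpn (LP (LK LD1_c13 LD2_c13 LD3_c13))))
theorem f522825 : Led Lsl_gf (LP (LK LD1_c14 LD2_c44 LD3_c4)) = (LP (LK LD1_c13 LD2_c13 LD3_c11)) :=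
  Lgr Lrot76 (Lpr_af (f518353 IH) (Lpr_ff (f522816 IH) (Lpr_gt (K63.f493056 IH) (Lpn (LP (LK LD1_c13 LD2_c13 LD3_c11))))))
theorem f126470 : Led Lsl_dt (LP (LK LD1_c7 LD2_c49 LD3_c46)) = (LP (LK LD1_c14 LD2_c46 LD3_c14)) :=
  Lre_d IH (LK LD1_c7 LD2_c49 LD3_c46) (LK LD1_c14 LD2_c46 LD3_c14) Lrfl Lrfl
theorem f531540 : Led Lsl_gf (LP (LK LD1_c14 LD2_c55 LD3_c52)) = (LP (LK LD1_c14 LD2_c46 LD3_c14)) :=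
  Lgr Lrot143 (Lpr_dt (K48.f531536 IH) (Lpe (f461616 IH) (Lpr_df (K60.f517121 IH) (Lpr_gf (f522825 IH) (Lpe (K63.f492610 IH) (Lpe (K34.f492611 IH) (Lpr_cf (K29.f465500 IH) (Lpr_gt (K28.f160021 IH) (Lpr_dt (f126470 IH) (Lpn (LP (LK LD1_c14 LD2_c46 LD3_c14))))))))))))
theorem f819065 : Led Lsl_gt (LP (LK LD1_c14 LD2_c55 LD3_c52)) = (LP (LK LD1_c14 LD2_c46 LD3_c12)) :=
  Lgr Lrot46 (Lpr_gf (f531540 IH) (Lpr_ft (f818086 IH) (Lpr_at (f819063 IH) (Lpn (LP (LK LD1_c14 LD2_c46 LD3_c12))))))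
theorem f462769 : Led Lsl_bt (LP (LK LD1_c14 LD2_c54 LD3_c24)) = (LP (LK LD1_c7 LD2_c54 LD3_c10)) :=
  Lre_b IH (LK LD1_c14 LD2_c54 LD3_c24) (LK LD1_c7 LD2_c54 LD3_c10) Lrfl Lrfl
theorem f531461 : Led Lsl_ff (LP (LK LD1_c14 LD2_c54 LD3_c24)) = (LP (LK LD1_c14 LD2_c55 LD3_c52)) :=
  Lgr Lrot25 (Lpr_bt (f462769 IH) (Lpr_ft (K34.f531459 IH) (Lpr_bt (K48.f471100 IH) (Lpn (LP (LK LD1_c14 LD2_c55 LD3_c52))))))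
theorem f531530 : Led Lsl_df (LP (LK LD1_c14 LD2_c55 LD3_c52)) = (LP (LK LD1_c22 LD2_c40 LD3_c55)) :=
  Lgr Lrot78 (Lpe (f531461 IH) (Lpe (K48.f531406 IH) (Lpr_ft (K48.f531522 IH) (Lpn (LP (LK LD1_c22 LD2_c40 LD3_c55))))))
theorem f654805 : Led Lsl_et (LP (LK LD1_c14 LD2_c8 LD3_c58)) = (LP (LK LD1_c23 LD2_c43 LD3_c50)) :=
  Lre_e IH (LK LD1_c14 LD2_c8 LD3_c58) (LK LD1_c23 LD2_c43 LD3_c50) Lrfl Lrfl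
theorem f516005 : Led Lsl_gt (LP (LK LD1_c24 LD2_c3 LD3_c42)) = (LP (LK LD1_c14 LD2_c47 LD3_c4)) :=
  Lgr Lrot5 (Lpr_ft (K33.f515598 IH) (Lpr_at (K33.f515145 IH) (Lpe (f486146 IH) (Lpn (LP (LK LD1_c14 LD2_c47 LD3_c4))))))
theorem f484951 : Led Lsl_dt (LP (LK LD1_c14 LD2_c24 LD3_c39)) = (LP (LK LD1_c24 LD2_c3 LD3_c42)) :=
  Lre_d IH (LK LD1_c14 LD2_c24 LD3_c39) (LK LD1_c24 LD2_c3 LD3_c42) Lrfl Lrfl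
theorem f144709 : Led Lsl_et (LP (LK LD1_c7 LD2_c49 LD3_c45)) = (LP (LK LD1_c14 LD2_c46 LD3_c13)) :=
  Lre_e IH (LK LD1_c7 LD2_c49 LD3_c45) (LK LD1_c14 LD2_c46 LD3_c13) Lrfl Lrfl
theorem f819067 : Led Lsl_gf (LP (LK LD1_c22 LD2_c27 LD3_c48)) = (LP (LK LD1_c14 LD2_c46 LD3_c13)) :=
  Lgr Lrot141 (Lpe (K57.f516130 IH) (Lpr_dt (f484951 IH) (Lpr_gt (f516005 IH) (Lpe (f654799 IH) (Lpr_et (f654805 IH) (Lpe (f796808 IH) (Lpe (f531530 IH) (Lpr_gt (f819065 IH) (Lpe (f95891 IH) (Lpr_et (f144709 IH) (Lpn (LP (LK LD1_c14 LD2_c46 LD3_c13)))))))))))))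
theorem f628311 : Led Lsl_gt (LP (LK LD1_c13 LD2_c14 LD3_c17)) = (LP (LK LD1_c12 LD2_c7 LD3_c44)) :=
  Lgr Lrot5 (Lpe (K47.f529423 IH) (Lpe (K63.f628243 IH) (Lpr_gf (K61.f628309 IH) (Lpn (LP (LK LD1_c12 LD2_c7 LD3_c44))))))
theorem f655679 : Led Lsl_gf (LP (LK LD1_c23 LD2_c57 LD3_c21)) = (LP (LK LD1_c24 LD2_c32 LD3_c25)) :=
  Lgr Lrot181 (Lpe (K48.f486417 IH) (Lpr_gt (K48.f655677 IH) (Lpe (K39.f462834 IH) (Lpr_bt (K34.f462845 IH) (Lpe (K32.f473325 IH) (Lpe (K63.f457956 IH) (Lpr_ct (K63.f529434 IH) (Lpr_gt (f628311 IH) (Lpe (K61.f543769 IH) (Lpe (K61.f590123 IH) (Lpn (LP (LK LD1_c24 LD2_c32 LD3_c25)))))))))))))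
theorem f457618 : Led Lsl_dt (LP (LK LD1_c7 LD2_c3 LD3_c11)) = (LP (LK LD1_c13 LD2_c22 LD3_c37)) :=
  Lre_d IH (LK LD1_c7 LD2_c3 LD3_c11) (LK LD1_c13 LD2_c22 LD3_c37) Lrfl Lrfl
theorem f457619 : Led Lsl_gt (LP (LK LD1_c13 LD2_c22 LD3_c37)) = (LP (LK LD1_c22 LD2_c40 LD3_c6)) :=
  Lre_g IH (LK LD1_c13 LD2_c22 LD3_c37) (LK LD1_c22 LD2_c40 LD3_c6) Lrfl Lrfl
theorem f655693 : Led Lsl_df (LP (LK LD1_c22 LD2_c40 LD3_c6)) = (LP (LK LD1_c14 LD2_c41 LD3_c18)) :=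
  Lgr Lrot132 (Lpe (f457619 IH) (Lpe (f457618 IH) (Lpe (K35.f533560 IH) (Lpe (K4.f111065 IH) (Lpr_dt (K4.f93110 IH) (Lpe (K4.f111072 IH) (Lpr_df (K6.f127123 IH) (Lpr_et (K3.f89818 IH) (Lpe (K33.f89817 IH) (Lpr_ef (K48.f655687 IH) (Lpn (LP (LK LD1_c14 LD2_c41 LD3_c18)))))))))))))
theorem f655698 : Led Lsl_dt (LP (LK LD1_c22 LD2_c40 LD3_c6)) = (LP (LK LD1_c14 LD2_c41 LD3_c18)) :=
  Lgr Lrot42 (Lpr_df (f655693 IH) (Lpn (LP (LK LD1_c14 LD2_c41 LD3_c18))))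
theorem f476598 : Led Lsl_bt (LP (LK LD1_c30 LD2_c38 LD3_c40)) = (LP (LK LD1_c22 LD2_c40 LD3_c6)) :=
  Lre_b IH (LK LD1_c30 LD2_c38 LD3_c40) (LK LD1_c22 LD2_c40 LD3_c6) Lrfl Lrfl
theorem f655700 : Led Lsl_df (LP (LK LD1_c30 LD2_c38 LD3_c40)) = (LP (LK LD1_c23 LD2_c57 LD3_c21)) :=
  Lgr Lrot12 (Lpr_bt (f476598 IH) (Lpr_dt (f655698 IH) (Lpe (f655683 IH) (Lpn (LP (LK LD1_c23 LD2_c57 LD3_c21))))))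
theorem f787549 : Led Lsl_ft (LP (LK LD1_c7 LD2_c3 LD3_c59)) = K62.v20515 :=
  Lgr Lrot48 (Lpr_ff (K62.f787547 IH) (Lpn K62.v20515))
theorem f129737 : Led Lsl_dt (LP (LK LD1_c13 LD2_c23 LD3_c44)) = (LP (LK LD1_c7 LD2_c3 LD3_c59)) :=
  Lre_d IH (LK LD1_c13 LD2_c23 LD3_c44) (LK LD1_c7 LD2_c3 LD3_c59) Lrfl Lrfl
theorem f157460 : Led Lsl_dt (LP (LK LD1_c9 LD2_c21 LD3_c20)) = (LP (LK LD1_c17 LD2_c17 LD3_c22)) :=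
  Lre_d IH (LK LD1_c9 LD2_c21 LD3_c20) (LK LD1_c17 LD2_c17 LD3_c22) Lrfl Lrfl
theorem f802315 : Led Lsl_ff (LP (LK LD1_c13 LD2_c23 LD3_c44)) = (LP (LK LD1_c17 LD2_c17 LD3_c22)) :=
  Lgr Lrot19 (Lpr_dt (f129737 IH) (Lpr_ft (f787549 IH) (Lpq (K62.f802306 IH) (Lpr_dt (f157460 IH) (Lpn (LP (LK LD1_c17 LD2_c17 LD3_c22)))))))
theorem f802324 : Led Lsl_ft (LP (LK LD1_c13 LD2_c23 LD3_c44)) = (LP (LK LD1_c17 LD2_c17 LD3_c22)) :=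
  Lgr Lrot48 (Lpr_ff (f802315 IH) (Lpn (LP (LK LD1_c17 LD2_c17 LD3_c22))))
theorem f457449 : Led Lsl_ct (LP (LK LD1_c22 LD2_c41 LD3_c33)) = (LP (LK LD1_c13 LD2_c23 LD3_c44)) :=
  Lre_c IH (LK LD1_c22 LD2_c41 LD3_c33) (LK LD1_c13 LD2_c23 LD3_c44) Lrfl Lrfl
theorem f157462 : Led Lsl_ct (LP (LK LD1_c17 LD2_c17 LD3_c22)) = (LP (LK LD1_c27 LD2_c6 LD3_c44)) :=
  Lre_c IH (LK LD1_c17 LD2_c17 LD3_c22) (LK LD1_c27 LD2_c6 LD3_c44) Lrfl Lrfl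
theorem f802330 : Led Lsl_ff (LP (LK LD1_c22 LD2_c41 LD3_c33)) = (LP (LK LD1_c27 LD2_c6 LD3_c44)) :=
  Lgr Lrot23 (Lpr_ct (f457449 IH) (Lpr_ft (f802324 IH) (Lpr_ct (f157462 IH) (Lpn (LP (LK LD1_c27 LD2_c6 LD3_c44))))))
theorem f802206 : Led Lsl_bt (LP (LK LD1_c23 LD2_c52 LD3_c48)) = (LP (LK LD1_c27 LD2_c6 LD3_c43)) :=
  Lgr Lrot127 (Lpr_bf (K62.f802188 IH) (Lpn (LP (LK LD1_c27 LD2_c6 LD3_c43))))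
theorem f513328 : Led Lsl_af (LP (LK LD1_c23 LD2_c52 LD3_c48)) = (LP (LK LD1_c30 LD2_c32 LD3_c29)) :=
  Lgr Lrot0 (Lpr_at (K62.f513320 IH) (Lpn (LP (LK LD1_c30 LD2_c32 LD3_c29))))
theorem f129711 : Led Lsl_bt (LP (LK LD1_c22 LD2_c41 LD3_c34)) = (LP (LK LD1_c13 LD2_c23 LD3_c48)) :=
  Lre_b IH (LK LD1_c22 LD2_c41 LD3_c34) (LK LD1_c13 LD2_c23 LD3_c48) Lrfl Lrfl
theorem f802226 : Led Lsl_af (LP (LK LD1_c22 LD2_c41 LD3_c34)) = (LP (LK LD1_c27 LD2_c6 LD3_c43)) :=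
  Lgr Lrot36 (Lpr_bt (f129711 IH) (Lpe (K33.f512464 IH) (Lpr_bt (K34.f63075 IH) (Lpe (f513328 IH) (Lpr_bt (f802206 IH) (Lpn (LP (LK LD1_c27 LD2_c6 LD3_c43))))))))
theorem f129738 : Led Lsl_et (LP (LK LD1_c22 LD2_c41 LD3_c34)) = (LP (LK LD1_c13 LD2_c23 LD3_c44)) :=
  Lre_e IH (LK LD1_c22 LD2_c41 LD3_c34) (LK LD1_c13 LD2_c23 LD3_c44) Lrfl Lrfl
theorem f802229 : Led Lsl_at (LP (LK LD1_c13 LD2_c23 LD3_c44)) = (LP (LK LD1_c17 LD2_c17 LD3_c20)) :=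
  Lgr Lrot80 (Lpe (f129738 IH) (Lpr_af (f802226 IH) (Lpe (K62.f116768 IH) (Lpn (LP (LK LD1_c17 LD2_c17 LD3_c20))))))
theorem f116741 : Led Lsl_ct (LP (LK LD1_c17 LD2_c17 LD3_c20)) = (LP (LK LD1_c27 LD2_c6 LD3_c42)) :=
  Lre_c IH (LK LD1_c17 LD2_c17 LD3_c20) (LK LD1_c27 LD2_c6 LD3_c42) Lrfl Lrfl
theorem f802244 : Led Lsl_af (LP (LK LD1_c22 LD2_c41 LD3_c33)) = (LP (LK LD1_c27 LD2_c6 LD3_c42)) :=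
  Lgr Lrot68 (Lpr_ct (f457449 IH) (Lpr_at (f802229 IH) (Lpr_ct (f116741 IH) (Lpn (LP (LK LD1_c27 LD2_c6 LD3_c42))))))
theorem f802246 : Led Lsl_at (LP (LK LD1_c22 LD2_c41 LD3_c33)) = (LP (LK LD1_c27 LD2_c6 LD3_c42)) :=
  Lgr Lrot100 (Lpr_af (f802244 IH) (Lpn (LP (LK LD1_c27 LD2_c6 LD3_c42))))
theorem f801937 : Led Lsl_ff (LP (LK LD1_c14 LD2_c13 LD3_c21)) = (LP (LK LD1_c17 LD2_c17 LD3_c20)) :=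
  Lgr Lrot19 (Lpr_dt (K62.f65899 IH) (Lpr_ft (K62.f801799 IH) (Lpqs (K62.f801927 IH) (Lpq (K62.f801928 IH) (Lpr_dt (K62.f116736 IH) (Lpn (LP (LK LD1_c17 LD2_c17 LD3_c20))))))))
theorem f801941 : Led Lsl_ft (LP (LK LD1_c14 LD2_c13 LD3_c21)) = (LP (LK LD1_c17 LD2_c17 LD3_c20)) :=
  Lgr Lrot48 (Lpr_ff (f801937 IH) (Lpn (LP (LK LD1_c17 LD2_c17 LD3_c20))))
theorem f157499 : Led Lsl_ct (LP (LK LD1_c23 LD2_c48 LD3_c54)) = (LP (LK LD1_c14 LD2_c13 LD3_c21)) :=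
  Lre_c IH (LK LD1_c23 LD2_c48 LD3_c54) (LK LD1_c14 LD2_c13 LD3_c21) Lrfl Lrfl
theorem f801943 : Led Lsl_ff (LP (LK LD1_c23 LD2_c48 LD3_c54)) = (LP (LK LD1_c27 LD2_c6 LD3_c42)) :=
  Lgr Lrot23 (Lpr_ct (f157499 IH) (Lpr_ft (f801941 IH) (Lpr_ct (f116741 IH) (Lpn (LP (LK LD1_c27 LD2_c6 LD3_c42))))))
theorem f802334 : Led Lsl_at (LP (LK LD1_c23 LD2_c48 LD3_c54)) = (LP (LK LD1_c27 LD2_c6 LD3_c44)) :=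
  Lgr Lrot66 (Lpr_ff (f801943 IH) (Lpe (f802246 IH) (Lpr_ff (f802330 IH) (Lpn (LP (LK LD1_c27 LD2_c6 LD3_c44))))))
theorem f802337 : Led Lsl_af (LP (LK LD1_c23 LD2_c48 LD3_c54)) = (LP (LK LD1_c27 LD2_c6 LD3_c44)) :=
  Lgr Lrot0 (Lpr_at (f802334 IH) (Lpn (LP (LK LD1_c27 LD2_c6 LD3_c44))))
theorem f802190 : Led Lsl_bf (LP (LK LD1_c22 LD2_c34 LD3_c9)) = (LP (LK LD1_c14 LD2_c13 LD3_c21)) :=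
  Lgr Lrot61 (Lpe (K62.f514053 IH) (Lpr_bt (K62.f802181 IH) (Lpe (f801937 IH) (Lpn (LP (LK LD1_c14 LD2_c13 LD3_c21))))))
theorem f457633 : Led Lsl_ct (LP (LK LD1_c7 LD2_c3 LD3_c12)) = (LP (LK LD1_c13 LD2_c22 LD3_c39)) :=
  Lre_c IH (LK LD1_c7 LD2_c3 LD3_c12) (LK LD1_c13 LD2_c22 LD3_c39) Lrfl Lrfl
theorem f476601 : Led Lsl_ct (LP (LK LD1_c22 LD2_c40 LD3_c6)) = (LP (LK LD1_c30 LD2_c38 LD3_c41)) :=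
  Lre_c IH (LK LD1_c22 LD2_c40 LD3_c6) (LK LD1_c30 LD2_c38 LD3_c41) Lrfl Lrfl
theorem f157498 : Led Lsl_ct (LP (LK LD1_c14 LD2_c13 LD3_c21)) = (LP (LK LD1_c23 LD2_c48 LD3_c54)) :=
  Lre_c IH (LK LD1_c14 LD2_c13 LD3_c21) (LK LD1_c23 LD2_c48 LD3_c54) Lrfl Lrfl
theorem f802196 : Led Lsl_gt (LP (LK LD1_c30 LD2_c38 LD3_c41)) = (LP (LK LD1_c23 LD2_c48 LD3_c54)) :=
  Lgr Lrot149 (Lpe (f476601 IH) (Lpe (f457619 IH) (Lpe (K62.f476586 IH) (Lpr_ct (f457633 IH) (Lpe (K29.f476592 IH) (Lpe (K29.f472227 IH) (Lpr_bt (K63.f476600 IH) (Lpr_gf (K63.f628299 IH) (Lpr_bf (f802190 IH) (Lpr_ct (f157498 IH) (Lpn (LP (LK LD1_c23 LD2_c48 LD3_c54)))))))))))))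
theorem f457452 : Led Lsl_ct (LP (LK LD1_c13 LD2_c23 LD3_c44)) = (LP (LK LD1_c22 LD2_c41 LD3_c33)) :=
  Lre_c IH (LK LD1_c13 LD2_c23 LD3_c44) (LK LD1_c22 LD2_c41 LD3_c33) Lrfl Lrfl
theorem f157461 : Led Lsl_ct (LP (LK LD1_c27 LD2_c6 LD3_c44)) = (LP (LK LD1_c17 LD2_c17 LD3_c22)) :=
  Lre_c IH (LK LD1_c27 LD2_c6 LD3_c44) (LK LD1_c17 LD2_c17 LD3_c22) Lrfl Lrfl
theorem f802321 : Led Lsl_ft (LP (LK LD1_c22 LD2_c41 LD3_c33)) = (LP (LK LD1_c27 LD2_c6 LD3_c44)) :=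
  Lgr Lrot4 (Lpe (f457452 IH) (Lpr_ff (f802315 IH) (Lpe (f157461 IH) (Lpn (LP (LK LD1_c27 LD2_c6 LD3_c44))))))
theorem f802354 : Led Lsl_gf (LP (LK LD1_c30 LD2_c38 LD3_c41)) = (LP (LK LD1_c22 LD2_c41 LD3_c33)) :=
  Lgr Lrot47 (Lpr_gt (f802196 IH) (Lpr_af (f802337 IH) (Lpe (f802321 IH) (Lpn (LP (LK LD1_c22 LD2_c41 LD3_c33))))))
theorem f655695 : Led Lsl_bt (LP (LK LD1_c22 LD2_c40 LD3_c6)) = (LP (LK LD1_c30 LD2_c38 LD3_c40)) :=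
  Lre_b IH (LK LD1_c22 LD2_c40 LD3_c6) (LK LD1_c30 LD2_c38 LD3_c40) Lrfl Lrfl
theorem f460866 : Led Lsl_bt (LP (LK LD1_c13 LD2_c23 LD3_c44)) = (LP (LK LD1_c7 LD2_c3 LD3_c60)) :=
  Lre_b IH (LK LD1_c13 LD2_c23 LD3_c44) (LK LD1_c7 LD2_c3 LD3_c60) Lrfl Lrfl
theorem f516562 : Led Lsl_bf (LP (LK LD1_c13 LD2_c23 LD3_c46)) = (LP (LK LD1_c22 LD2_c27 LD3_c50)) :=
  Lgr Lrot61 (Lpr_ft (K48.f516560 IH) (Lpr_bt (K48.f460840 IH) (Lpr_ft (K48.f516224 IH) (Lpn (LP (LK LD1_c22 LD2_c27 LD3_c50))))))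
theorem f492561 : Led Lsl_ct (LP (LK LD1_c22 LD2_c27 LD3_c50)) = (LP (LK LD1_c30 LD2_c31 LD3_c32)) :=
  Lre_c IH (LK LD1_c22 LD2_c27 LD3_c50) (LK LD1_c30 LD2_c31 LD3_c32) Lrfl Lrfl
theorem f16718 : Led Lsl_ct (LP (LK LD1_c22 LD2_c27 LD3_c49)) = (LP (LK LD1_c30 LD2_c31 LD3_c30)) :=
  Lre_c IH (LK LD1_c22 LD2_c27 LD3_c49) (LK LD1_c30 LD2_c31 LD3_c30) Lrfl Lrfl
theorem f529527 : Led Lsl_ct (LP (LK LD1_c30 LD2_c22 LD3_c57)) = (LP (LK LD1_c22 LD2_c14 LD3_c24)) :=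
  Lre_c IH (LK LD1_c30 LD2_c22 LD3_c57) (LK LD1_c22 LD2_c14 LD3_c24) Lrfl Lrfl
theorem f529538 : Led Lsl_ft (LP (LK LD1_c30 LD2_c31 LD3_c30)) = (LP (LK LD1_c30 LD2_c22 LD3_c57)) :=
  Lgr Lrot4 (Lpe (f16718 IH) (Lpr_ff (K48.f529533 IH) (Lpe (f529527 IH) (Lpn (LP (LK LD1_c30 LD2_c22 LD3_c57))))))
theorem f123786 : Led Lsl_dt (LP (LK LD1_c14 LD2_c6 LD3_c59)) = (LP (LK LD1_c23 LD2_c41 LD3_c8)) :=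
  Lre_d IH (LK LD1_c14 LD2_c6 LD3_c59) (LK LD1_c23 LD2_c41 LD3_c8) Lrfl Lrfl
theorem f123784 : Led Lsl_ct (LP (LK LD1_c31 LD2_c10 LD3_c50)) = (LP (LK LD1_c23 LD2_c41 LD3_c8)) :=
  Lre_c IH (LK LD1_c31 LD2_c10 LD3_c50) (LK LD1_c23 LD2_c41 LD3_c8) Lrfl Lrfl
theorem f516139 : Led Lsl_gf (LP (LK LD1_c31 LD2_c10 LD3_c50)) = (LP (LK LD1_c30 LD2_c31 LD3_c30)) :=
  Lgr Lrot104 (Lpr_ct (f123784 IH) (Lpe (f123786 IH) (Lpe (K28.f123782 IH) (Lpe (K24.f123763 IH) (Lpe (K24.f123753 IH) (Lpe (K28.f103803 IH) (Lpe (K57.f123785 IH) (Lpr_gt (K34.f516135 IH) (Lpr_ct (f16718 IH) (Lpn (LP (LK LD1_c30 LD2_c31 LD3_c30))))))))))))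
theorem f484793 : Led Lsl_ct (LP (LK LD1_c14 LD2_c24 LD3_c48)) = (LP (LK LD1_c24 LD2_c3 LD3_c61)) :=
  Lre_c IH (LK LD1_c14 LD2_c24 LD3_c48) (LK LD1_c24 LD2_c3 LD3_c61) Lrfl Lrfl
theorem f465425 : Led Lsl_ct (LP (LK LD1_c30 LD2_c31 LD3_c30)) = (LP (LK LD1_c22 LD2_c27 LD3_c49)) :=
  Lre_c IH (LK LD1_c30 LD2_c31 LD3_c30) (LK LD1_c22 LD2_c27 LD3_c49) Lrfl Lrfl
theorem f516196 : Led Lsl_at (LP (LK LD1_c24 LD2_c3 LD3_c61)) = (LP (LK LD1_c30 LD2_c31 LD3_c30)) :=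
  Lgr Lrot107 (Lpe (f484793 IH) (Lpr_af (K46.f516191 IH) (Lpe (f465425 IH) (Lpn (LP (LK LD1_c30 LD2_c31 LD3_c30))))))
theorem f492560 : Led Lsl_ct (LP (LK LD1_c30 LD2_c31 LD3_c32)) = (LP (LK LD1_c22 LD2_c27 LD3_c50)) :=
  Lre_c IH (LK LD1_c30 LD2_c31 LD3_c32) (LK LD1_c22 LD2_c27 LD3_c50) Lrfl Lrfl
theorem f516230 : Led Lsl_ft (LP (LK LD1_c24 LD2_c3 LD3_c61)) = (LP (LK LD1_c30 LD2_c31 LD3_c32)) :=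
  Lgr Lrot4 (Lpe (f484793 IH) (Lpr_ff (K46.f516228 IH) (Lpe (f492560 IH) (Lpn (LP (LK LD1_c30 LD2_c31 LD3_c32))))))
theorem f516235 : Led Lsl_ff (LP (LK LD1_c24 LD2_c3 LD3_c61)) = (LP (LK LD1_c30 LD2_c31 LD3_c32)) :=
  Lgr Lrot3 (Lpr_ft (f516230 IH) (Lpn (LP (LK LD1_c30 LD2_c31 LD3_c32))))
theorem f529542 : Led Lsl_af (LP (LK LD1_c30 LD2_c31 LD3_c32)) = (LP (LK LD1_c30 LD2_c22 LD3_c57)) :=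
  Lgr Lrot45 (Lpe (f516235 IH) (Lpr_at (f516196 IH) (Lpr_ft (f529538 IH) (Lpn (LP (LK LD1_c30 LD2_c22 LD3_c57))))))
theorem f529544 : Led Lsl_gt (LP (LK LD1_c31 LD2_c10 LD3_c50)) = (LP (LK LD1_c30 LD2_c31 LD3_c32)) :=
  Lgr Lrot46 (Lpr_gf (f516139 IH) (Lpr_ft (f529538 IH) (Lpe (f529542 IH) (Lpn (LP (LK LD1_c30 LD2_c31 LD3_c32))))))
theorem f460897 : Led Lsl_ct (LP (LK LD1_c23 LD2_c41 LD3_c8)) = (LP (LK LD1_c31 LD2_c10 LD3_c50)) :=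
  Lre_c IH (LK LD1_c23 LD2_c41 LD3_c8) (LK LD1_c31 LD2_c10 LD3_c50) Lrfl Lrfl
theorem f802356 : Led Lsl_gt (LP (LK LD1_c30 LD2_c38 LD3_c40)) = (LP (LK LD1_c23 LD2_c41 LD3_c8)) :=
  Lgr Lrot82 (Lpe (f655695 IH) (Lpr_ct (f476601 IH) (Lpr_gf (f802354 IH) (Lpe (f457452 IH) (Lpr_bt (f460866 IH) (Lpe (K48.f129726 IH) (Lpr_bf (f516562 IH) (Lpr_ct (f492561 IH) (Lpe (f529544 IH) (Lpe (f460897 IH) (Lpn (LP (LK LD1_c23 LD2_c41 LD3_c8)))))))))))))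
theorem f123783 : Led Lsl_dt (LP (LK LD1_c23 LD2_c41 LD3_c8)) = (LP (LK LD1_c14 LD2_c6 LD3_c59)) :=
  Lre_d IH (LK LD1_c23 LD2_c41 LD3_c8) (LK LD1_c14 LD2_c6 LD3_c59) Lrfl Lrfl
theorem f123828 : Led Lsl_dt (LP (LK LD1_c14 LD2_c6 LD3_c60)) = (LP (LK LD1_c7 LD2_c28 LD3_c40)) :=
  Lre_d IH (LK LD1_c14 LD2_c6 LD3_c60) (LK LD1_c7 LD2_c28 LD3_c40) Lrfl Lrfl
theorem f819069 : Led Lsl_gt (LP (LK LD1_c23 LD2_c41 LD3_c3)) = (LP (LK LD1_c14 LD2_c6 LD3_c60)) :=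
  Lgr Lrot49 (Lpr_df (K57.f516155 IH) (Lpr_gf (f819067 IH) (Lpe (K46.f144705 IH) (Lpe (f655679 IH) (Lpe (f655700 IH) (Lpr_gt (f802356 IH) (Lpr_dt (f123783 IH) (Lpe (K28.f123782 IH) (Lpe (f123828 IH) (Lpn (LP (LK LD1_c14 LD2_c6 LD3_c60))))))))))))
theorem f123764 : Led Lsl_dt (LP (LK LD1_c7 LD2_c28 LD3_c40)) = (LP (LK LD1_c14 LD2_c6 LD3_c60)) :=
  Lre_d IH (LK LD1_c7 LD2_c28 LD3_c40) (LK LD1_c14 LD2_c6 LD3_c60) Lrfl Lrfl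
theorem f800029 : Led Lsl_et (LP (LK LD1_c7 LD2_c28 LD3_c40)) = (LP (LK LD1_c14 LD2_c6 LD3_c61)) :=
  Lre_e IH (LK LD1_c7 LD2_c28 LD3_c40) (LK LD1_c14 LD2_c6 LD3_c61) Lrfl Lrfl
def v21649 : LQ := Led Lsl_ft (LP (LK LD1_c7 LD2_c23 LD3_c52))
theorem f798390 : Led Lsl_ft (LP (LK LD1_c7 LD2_c23 LD3_c52)) = v21649 :=
  Lrfl
theorem f798395 : Led Lsl_ff (LP (LK LD1_c7 LD2_c23 LD3_c52)) = v21649 :=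
  Lgr Lrot3 (Lpr_ft (f798390 IH) (Lpn v21649))
theorem f517837 : Led Lsl_et (LP (LK LD1_c7 LD2_c23 LD3_c52)) = (LP (LK LD1_c3 LD2_c41 LD3_c35)) :=
  Lre_e IH (LK LD1_c7 LD2_c23 LD3_c52) (LK LD1_c3 LD2_c41 LD3_c35) Lrfl Lrfl
theorem f531415 : Led Lsl_ef (LP (LK LD1_c13 LD2_c25 LD3_c8)) = (LP (LK LD1_c7 LD2_c21 LD3_c36)) :=
  Lgr Lrot29 (Lpr_bt (K48.f458329 IH) (Lpr_et (K34.f531411 IH) (Lpr_bt (K43.f483456 IH) (Lpn (LP (LK LD1_c7 LD2_c21 LD3_c36))))))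
theorem f798399 : Led Lsl_et (LP (LK LD1_c22 LD2_c40 LD3_c55)) = v21649 :=
  Lgr Lrot69 (Lpe (K48.f531522 IH) (Lpr_ef (f531415 IH) (Lpe (K47.f518121 IH) (Lpe (f517837 IH) (Lpr_ff (f798395 IH) (Lpn v21649))))))
theorem f819071 : Led Lsl_gt (LP (LK LD1_c14 LD2_c6 LD3_c61)) = v21649 :=
  Lgr Lrot131 (Lpe (f800029 IH) (Lpr_dt (f123764 IH) (Lpe (f819069 IH) (Lpr_df (K57.f516155 IH) (Lpr_gf (f819067 IH) (Lpe (f144709 IH) (Lpr_dt (f95891 IH) (Lpe (f819065 IH) (Lpr_df (f531530 IH) (Lpr_et (f798399 IH) (Lpn v21649)))))))))))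
theorem f819073 : Led Lsl_ct (LP (LK LD1_c23 LD2_c41 LD3_c9)) = (LP (LK LD1_c14 LD2_c6 LD3_c61)) :=
  Lre_c IH (LK LD1_c23 LD2_c41 LD3_c9) (LK LD1_c14 LD2_c6 LD3_c61) Lrfl Lrfl
theorem f104019 : Led Lsl_bt (LP (LK LD1_c7 LD2_c1 LD3_c2)) = (LP (LK LD1_c13 LD2_c18 LD3_c39)) :=
  Lre_b IH (LK LD1_c7 LD2_c1 LD3_c2) (LK LD1_c13 LD2_c18 LD3_c39) Lrfl Lrfl
theorem f517942 : Led Lsl_ff (LP (LK LD1_c14 LD2_c27 LD3_c40)) = (LP (LK LD1_c13 LD2_c18 LD3_c39)) :=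
  Lgr Lrot25 (Lpr_bt (K60.f461600 IH) (Lpr_ft (K47.f517940 IH) (Lpr_bt (f104019 IH) (Lpn (LP (LK LD1_c13 LD2_c18 LD3_c39))))))
theorem f798397 : Led Lsl_ct (LP (LK LD1_c14 LD2_c27 LD3_c40)) = v21649 :=
  Lgr Lrot40 (Lpr_ff (f517942 IH) (Lpe (K47.f518111 IH) (Lpr_ff (f798395 IH) (Lpn v21649))))
theorem f466804 : Led Lsl_gt (LP (LK LD1_c7 LD2_c33 LD3_c36)) = (LP (LK LD1_c14 LD2_c15 LD3_c29)) :=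
  Lre_g IH (LK LD1_c7 LD2_c33 LD3_c36) (LK LD1_c14 LD2_c15 LD3_c29) Lrfl Lrfl
theorem f819075 : Led Lsl_bt (LP (LK LD1_c23 LD2_c41 LD3_c9)) = (LP (LK LD1_c14 LD2_c15 LD3_c29)) :=
  Lgr Lrot92 (Lpr_ct (f819073 IH) (Lpr_gt (f819071 IH) (Lpe (f798397 IH) (Lpr_bt (K60.f461600 IH) (Lpe (K48.f518085 IH) (Lpr_ct (K5.f87962 IH) (Lpr_gt (K5.f87961 IH) (Lpe (K29.f466766 IH) (Lpr_bt (K47.f466772 IH) (Lpr_gt (f466804 IH) (Lpn (LP (LK LD1_c14 LD2_c15 LD3_c29)))))))))))))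
theorem f819076 : Led Lsl_bt (LP (LK LD1_c23 LD2_c41 LD3_c9)) = (LP (LK LD1_c14 LD2_c15 LD3_c29)) :=
  Leop (Lpe (f819075 IH) (Lpn (LP (LK LD1_c23 LD2_c41 LD3_c9))))
theorem seed_1852 : LEOK LG_b (LK LD1_c23 LD2_c41 LD3_c9) :=
  Leoe_b (LK LD1_c23 LD2_c41 LD3_c9) (f819076 IH)
theorem f815955 : Led Lsl_ff (LP (LK LD1_c7 LD2_c49 LD3_c56)) = v23264 :=
  Lgr Lrot3 (Lpr_ft (f815954 IH) (Lpn v23264))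
theorem f815960 : Led Lsl_at (LP (LK LD1_c7 LD2_c49 LD3_c56)) = v23265 :=
  Lgr Lrot66 (Lpr_ff (f815955 IH) (Lpe (f815950 IH) (Lpr_ff (f815959 IH) (Lpn v23265))))
theorem f471518 : Led Lsl_et (LP (LK LD1_c7 LD2_c54 LD3_c50)) = (LP (LK LD1_c14 LD2_c55 LD3_c40)) :=
  Lre_e IH (LK LD1_c7 LD2_c54 LD3_c50) (LK LD1_c14 LD2_c55 LD3_c40) Lrfl Lrfl
theorem f819137 : Led Lsl_af v23266 = (LP (LK LD1_c14 LD2_c55 LD3_c40)) :=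
  Lgr Lrot50 (Lpe (f815964 IH) (Lpr_at (f815960 IH) (Lpqs (f817936 IH) (Lpr_et (f471518 IH) (Lpn (LP (LK LD1_c14 LD2_c55 LD3_c40)))))))
theorem f819138 : Led Lsl_at v23266 = (LP (LK LD1_c14 LD2_c55 LD3_c40)) :=
  Lgr Lrot100 (Lpr_af (f819137 IH) (Lpn (LP (LK LD1_c14 LD2_c55 LD3_c40))))
theorem f818082 : Led Lsl_ff (LP (LK LD1_c14 LD2_c28 LD3_c40)) = (LP (LK LD1_c23 LD2_c24 LD3_c5)) :=
  Lgr Lrot25 (Lpe (f534114 IH) (Lpr_ft (f815916 IH) (Lpq (f818077 IH) (Lpr_bt (K37.f465451 IH) (Lpn (LP (LK LD1_c23 LD2_c24 LD3_c5)))))))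
theorem f818092 : Led Lsl_ft (LP (LK LD1_c14 LD2_c28 LD3_c40)) = (LP (LK LD1_c23 LD2_c24 LD3_c5)) :=
  Lgr Lrot48 (Lpr_ff (f818082 IH) (Lpn (LP (LK LD1_c23 LD2_c24 LD3_c5))))
theorem f476674 : Led Lsl_ft (LP (LK LD1_c6 LD2_c57 LD3_c20)) = (LP (LK LD1_c7 LD2_c21 LD3_c3)) :=
  Lgr Lrot101 (Lpe (K34.f476650 IH) (Lpr_ff (K41.f476670 IH) (Lpe (K41.f162810 IH) (Lpn (LP (LK LD1_c7 LD2_c21 LD3_c3))))))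
theorem f473417 : Led Lsl_gt (LP (LK LD1_c6 LD2_c57 LD3_c20)) = (LP (LK LD1_c13 LD2_c12 LD3_c26)) :=
  Lre_g IH (LK LD1_c6 LD2_c57 LD3_c20) (LK LD1_c13 LD2_c12 LD3_c26) Lrfl Lrfl
theorem f476693 : Led Lsl_gt (LP (LK LD1_c13 LD2_c12 LD3_c26)) = (LP (LK LD1_c13 LD2_c53 LD3_c54)) :=
  Lgr Lrot46 (Lpe (f473417 IH) (Lpr_ft (f476674 IH) (Lpr_at (K41.f162810 IH) (Lpn (LP (LK LD1_c13 LD2_c53 LD3_c54))))))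
theorem f15904 : Led Lsl_af (LP (LK LD1_c3 LD2_c26 LD3_c13)) = (LP (LK LD1_c3 LD2_c44 LD3_c36)) :=
  Lgr Lrot68 (Lpr_ct (K0.f15887 IH) (Lpe (K28.f15671 IH) (Lpr_ct (K8.f14719 IH) (Lpn (LP (LK LD1_c3 LD2_c44 LD3_c36))))))
theorem f14895 : Led Lsl_ft (LP (LK LD1_c7 LD2_c30 LD3_c21)) = (LP (LK LD1_c3 LD2_c44 LD3_c36)) :=
  Lre_f IH (LK LD1_c7 LD2_c30 LD3_c21) (LK LD1_c3 LD2_c44 LD3_c36) Lrfl Lrfl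
theorem f16696 : Led Lsl_gf (LP (LK LD1_c6 LD2_c54 LD3_c21)) = (LP (LK LD1_c7 LD2_c30 LD3_c21)) :=
  Lgr Lrot47 (Lpr_gt (K28.f15925 IH) (Lpr_af (f15904 IH) (Lpe (f14895 IH) (Lpn (LP (LK LD1_c7 LD2_c30 LD3_c21))))))
theorem f476696 : Led Lsl_bf (LP (LK LD1_c13 LD2_c12 LD3_c26)) = (LP (LK LD1_c13 LD2_c7 LD3_c19)) :=
  Lgr Lrot165 (Lpr_gt (f476693 IH) (Lpr_ct (K34.f162800 IH) (Lpr_gt (K34.f471120 IH) (Lpe (K34.f471109 IH) (Lpr_bt (K34.f14903 IH) (Lpr_gt (K28.f14902 IH) (Lpe (K33.f14887 IH) (Lpe (K8.f14869 IH) (Lpe (f16696 IH) (Lpe (K41.f15929 IH) (Lpn (LP (LK LD1_c13 LD2_c7 LD3_c19)))))))))))))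
theorem f476699 : Led Lsl_bt (LP (LK LD1_c13 LD2_c12 LD3_c26)) = (LP (LK LD1_c13 LD2_c7 LD3_c19)) :=
  Lgr Lrot127 (Lpr_bf (f476696 IH) (Lpn (LP (LK LD1_c13 LD2_c7 LD3_c19))))
theorem f534116 : Led Lsl_cf (LP (LK LD1_c13 LD2_c12 LD3_c26)) = (LP (LK LD1_c14 LD2_c28 LD3_c40)) :=
  Lgr Lrot97 (Lpr_bt (f476699 IH) (Lpr_ct (K41.f15929 IH) (Lpr_bt (K41.f458063 IH) (Lpr_ct (K28.f465549 IH) (Lpr_bt (K41.f534112 IH) (Lpn (LP (LK LD1_c14 LD2_c28 LD3_c40))))))))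
theorem f534189 : Led Lsl_ct (LP (LK LD1_c13 LD2_c12 LD3_c26)) = (LP (LK LD1_c14 LD2_c28 LD3_c40)) :=
  Lgr Lrot59 (Lpr_cf (f534116 IH) (Lpn (LP (LK LD1_c14 LD2_c28 LD3_c40))))
theorem f818096 : Led Lsl_ff (LP (LK LD1_c13 LD2_c12 LD3_c26)) = (LP (LK LD1_c13 LD2_c53 LD3_c55)) :=
  Lgr Lrot23 (Lpr_ct (f534189 IH) (Lpr_ft (f818092 IH) (Lpr_ct (K35.f462758 IH) (Lpn (LP (LK LD1_c13 LD2_c53 LD3_c55))))))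
theorem f473418 : Led Lsl_dt (LP (LK LD1_c13 LD2_c12 LD3_c26)) = (LP (LK LD1_c22 LD2_c26 LD3_c10)) :=
  Lre_d IH (LK LD1_c13 LD2_c12 LD3_c26) (LK LD1_c22 LD2_c26 LD3_c10) Lrfl Lrfl
theorem f464253 : Led Lsl_dt (LP (LK LD1_c23 LD2_c24 LD3_c6)) = (LP (LK LD1_c13 LD2_c53 LD3_c55)) :=
  Lre_d IH (LK LD1_c23 LD2_c24 LD3_c6) (LK LD1_c13 LD2_c53 LD3_c55) Lrfl Lrfl
theorem f818100 : Led Lsl_ft (LP (LK LD1_c22 LD2_c26 LD3_c10)) = (LP (LK LD1_c23 LD2_c24 LD3_c6)) :=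
  Lgr Lrot54 (Lpe (f473418 IH) (Lpr_ff (f818096 IH) (Lpe (f464253 IH) (Lpn (LP (LK LD1_c23 LD2_c24 LD3_c6))))))
theorem f465393 : Led Lsl_gt (LP (LK LD1_c7 LD2_c48 LD3_c35)) = (LP (LK LD1_c14 LD2_c44 LD3_c12)) :=
  Lre_g IH (LK LD1_c7 LD2_c48 LD3_c35) (LK LD1_c14 LD2_c44 LD3_c12) Lrfl Lrfl
theorem f788213 : Led Lsl_af (LP (LK LD1_c14 LD2_c44 LD3_c12)) = (LP (LK LD1_c13 LD2_c12 LD3_c44)) :=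
  Lgr Lrot31 (Lpe (f465393 IH) (Lpe (K62.f465381 IH) (Lpr_ft (K63.f788195 IH) (Lpn (LP (LK LD1_c13 LD2_c12 LD3_c44))))))
theorem f788218 : Led Lsl_bt (LP (LK LD1_c14 LD2_c44 LD3_c12)) = (LP (LK LD1_c24 LD2_c30 LD3_c8)) :=
  Lre_b IH (LK LD1_c14 LD2_c44 LD3_c12) (LK LD1_c24 LD2_c30 LD3_c8) Lrfl Lrfl
theorem f481496 : Led Lsl_bt (LP (LK LD1_c6 LD2_c57 LD3_c27)) = (LP (LK LD1_c13 LD2_c12 LD3_c44)) :=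
  Lre_b IH (LK LD1_c6 LD2_c57 LD3_c27) (LK LD1_c13 LD2_c12 LD3_c44) Lrfl Lrfl
theorem f788219 : Led Lsl_at (LP (LK LD1_c24 LD2_c30 LD3_c8)) = (LP (LK LD1_c22 LD2_c19 LD3_c46)) :=
  Lgr Lrot67 (Lpe (f788218 IH) (Lpr_af (f788213 IH) (Lpe (f481496 IH) (Lpe (K35.f529099 IH) (Lpe (K42.f464437 IH) (Lpn (LP (LK LD1_c22 LD2_c19 LD3_c46))))))))
theorem f788230 : Led Lsl_ff (LP (LK LD1_c24 LD2_c30 LD3_c8)) = (LP (LK LD1_c22 LD2_c26 LD3_c33)) :=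
  Lgr Lrot30 (Lpr_at (f788219 IH) (Lpr_ft (K62.f529109 IH) (Lpr_at (K62.f488491 IH) (Lpn (LP (LK LD1_c22 LD2_c26 LD3_c33))))))
theorem f488495 : Led Lsl_dt (LP (LK LD1_c22 LD2_c18 LD3_c34)) = (LP (LK LD1_c22 LD2_c26 LD3_c33)) :=
  Lgr Lrot42 (Lpr_df (K62.f488492 IH) (Lpn (LP (LK LD1_c22 LD2_c26 LD3_c33))))
theorem f529127 : Led Lsl_ft (LP (LK LD1_c30 LD2_c22 LD3_c55)) = (LP (LK LD1_c22 LD2_c18 LD3_c34)) :=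
  Lgr Lrot101 (Lpe (f477213 IH) (Lpr_ff (K42.f529125 IH) (Lpe (K62.f488464 IH) (Lpn (LP (LK LD1_c22 LD2_c18 LD3_c34))))))
theorem f788236 : Led Lsl_dt (LP (LK LD1_c24 LD2_c30 LD3_c8)) = (LP (LK LD1_c30 LD2_c22 LD3_c55)) :=
  Lgr Lrot60 (Lpr_ff (f788230 IH) (Lpe (f488495 IH) (Lpe (f529127 IH) (Lpn (LP (LK LD1_c30 LD2_c22 LD3_c55))))))
theorem f657239 : Led Lsl_df (LP (LK LD1_c22 LD2_c37 LD3_c51)) = (LP (LK LD1_c23 LD2_c36 LD3_c7)) :=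
  Lgr Lrot78 (Lpr_ft (K61.f657233 IH) (Lpr_dt (K48.f532335 IH) (Lpe (f532365 IH) (Lpn (LP (LK LD1_c23 LD2_c36 LD3_c7))))))
theorem f788244 : Led Lsl_gf (LP (LK LD1_c24 LD2_c30 LD3_c8)) = (LP (LK LD1_c22 LD2_c26 LD3_c10)) :=
  Lgr Lrot143 (Lpr_dt (f788236 IH) (Lpe (f657229 IH) (Lpr_df (f657239 IH) (Lpe (f532319 IH) (Lpe (K48.f462265 IH) (Lpe (K48.f451983 IH) (Lpr_cf (K47.f473400 IH) (Lpr_gt (f473417 IH) (Lpr_dt (f473418 IH) (Lpn (LP (LK LD1_c22 LD2_c26 LD3_c10))))))))))))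
theorem f788238 : Led Lsl_ft (LP (LK LD1_c24 LD2_c30 LD3_c8)) = (LP (LK LD1_c22 LD2_c26 LD3_c33)) :=
  Lgr Lrot48 (Lpr_ff (f788230 IH) (Lpn (LP (LK LD1_c22 LD2_c26 LD3_c33))))
theorem f488497 : Led Lsl_at (LP (LK LD1_c22 LD2_c26 LD3_c33)) = (LP (LK LD1_c13 LD2_c12 LD3_c42)) :=
  Lre_a IH (LK LD1_c22 LD2_c26 LD3_c33) (LK LD1_c13 LD2_c12 LD3_c42) Lrfl Lrfl
theorem f788242 : Led Lsl_gt (LP (LK LD1_c24 LD2_c30 LD3_c8)) = (LP (LK LD1_c22 LD2_c26 LD3_c11)) :=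
  Lgr Lrot5 (Lpr_ft (f788238 IH) (Lpr_at (f488497 IH) (Lpr_gf (K47.f517820 IH) (Lpn (LP (LK LD1_c22 LD2_c26 LD3_c11))))))
theorem f818108 : Led Lsl_af (LP (LK LD1_c22 LD2_c26 LD3_c11)) = (LP (LK LD1_c23 LD2_c24 LD3_c6)) :=
  Lgr Lrot31 (Lpe (f788242 IH) (Lpr_gf (f788244 IH) (Lpr_ft (f818100 IH) (Lpn (LP (LK LD1_c23 LD2_c24 LD3_c6))))))
theorem f818110 : Led Lsl_at (LP (LK LD1_c22 LD2_c26 LD3_c11)) = (LP (LK LD1_c23 LD2_c24 LD3_c6)) :=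
  Lgr Lrot100 (Lpr_af (f818108 IH) (Lpn (LP (LK LD1_c23 LD2_c24 LD3_c6))))
theorem f488744 : Led Lsl_dt (LP (LK LD1_c7 LD2_c20 LD3_c38)) = (LP (LK LD1_c13 LD2_c53 LD3_c19)) :=
  Lre_d IH (LK LD1_c7 LD2_c20 LD3_c38) (LK LD1_c13 LD2_c53 LD3_c19) Lrfl Lrfl
theorem f464725 : Led Lsl_dt (LP (LK LD1_c13 LD2_c53 LD3_c56)) = (LP (LK LD1_c23 LD2_c24 LD3_c7)) :=
  Lre_d IH (LK LD1_c13 LD2_c53 LD3_c56) (LK LD1_c23 LD2_c24 LD3_c7) Lrfl Lrfl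
theorem f488757 : Led Lsl_gf (LP (LK LD1_c22 LD2_c19 LD3_c46)) = (LP (LK LD1_c23 LD2_c24 LD3_c7)) :=
  Lgr Lrot143 (Lpe (K42.f480685 IH) (Lpr_cf (K47.f477211 IH) (Lpe (K42.f480245 IH) (Lpr_gf (K48.f488752 IH) (Lpe (f488744 IH) (Lpe (K39.f488738 IH) (Lpe (K41.f476676 IH) (Lpr_gt (K34.f476672 IH) (Lpr_dt (f464725 IH) (Lpn (LP (LK LD1_c23 LD2_c24 LD3_c7))))))))))))
theorem f818118 : Led Lsl_ff (LP (LK LD1_c22 LD2_c26 LD3_c11)) = (LP (LK LD1_c23 LD2_c24 LD3_c7)) :=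
  Lgr Lrot52 (Lpr_at (f818110 IH) (Lpe (K62.f532340 IH) (Lpr_gf (f488757 IH) (Lpn (LP (LK LD1_c23 LD2_c24 LD3_c7))))))
theorem f818126 : Led Lsl_ft (LP (LK LD1_c22 LD2_c26 LD3_c11)) = (LP (LK LD1_c23 LD2_c24 LD3_c7)) :=
  Lgr Lrot48 (Lpr_ff (f818118 IH) (Lpn (LP (LK LD1_c23 LD2_c24 LD3_c7))))
theorem f475263 : Led Lsl_bt (LP (LK LD1_c7 LD2_c14 LD3_c20)) = (LP (LK LD1_c13 LD2_c41 LD3_c53)) :=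
  Lre_b IH (LK LD1_c7 LD2_c14 LD3_c20) (LK LD1_c13 LD2_c41 LD3_c53) Lrfl Lrfl
theorem f533447 : Led Lsl_bt (LP (LK LD1_c14 LD2_c22 LD3_c42)) = (LP (LK LD1_c13 LD2_c12 LD3_c27)) :=
  Lgr Lrot128 (Lpr_cf (K35.f475261 IH) (Lpe (f475263 IH) (Lpr_cf (K35.f475304 IH) (Lpr_bf (K34.f533445 IH) (Lpe (f533439 IH) (Lpn (LP (LK LD1_c13 LD2_c12 LD3_c27))))))))
theorem f17435 : Led Lsl_dt (LP (LK LD1_c24 LD2_c0 LD3_c53)) = (LP (LK LD1_c14 LD2_c22 LD3_c42)) :=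
  Lre_d IH (LK LD1_c24 LD2_c0 LD3_c53) (LK LD1_c14 LD2_c22 LD3_c42) Lrfl Lrfl
theorem f535101 : Led Lsl_bf (LP (LK LD1_c24 LD2_c0 LD3_c53)) = (LP (LK LD1_c22 LD2_c26 LD3_c11)) :=
  Lgr Lrot93 (Lpr_dt (f17435 IH) (Lpr_bt (f533447 IH) (Lpr_dt (K47.f476682 IH) (Lpn (LP (LK LD1_c22 LD2_c26 LD3_c11))))))
theorem f535103 : Led Lsl_bt (LP (LK LD1_c24 LD2_c0 LD3_c53)) = (LP (LK LD1_c22 LD2_c26 LD3_c11)) :=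
  Lgr Lrot127 (Lpr_bf (f535101 IH) (Lpn (LP (LK LD1_c22 LD2_c26 LD3_c11))))
theorem f17400 : Led Lsl_dt (LP (LK LD1_c7 LD2_c37 LD3_c48)) = (LP (LK LD1_c14 LD2_c22 LD3_c50)) :=
  Lre_d IH (LK LD1_c7 LD2_c37 LD3_c48) (LK LD1_c14 LD2_c22 LD3_c50) Lrfl Lrfl
theorem f464727 : Led Lsl_dt (LP (LK LD1_c23 LD2_c24 LD3_c7)) = (LP (LK LD1_c13 LD2_c53 LD3_c56)) :=
  Lre_d IH (LK LD1_c23 LD2_c24 LD3_c7) (LK LD1_c13 LD2_c53 LD3_c56) Lrfl Lrfl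
theorem f471985 : Led Lsl_bt (LP (LK LD1_c14 LD2_c22 LD3_c50)) = (LP (LK LD1_c23 LD2_c24 LD3_c7)) :=
  Lgr Lrot95 (Lpe (f17400 IH) (Lpr_bf (K34.f471981 IH) (Lpe (f464727 IH) (Lpn (LP (LK LD1_c23 LD2_c24 LD3_c7))))))
theorem f471987 : Led Lsl_bf (LP (LK LD1_c14 LD2_c22 LD3_c50)) = (LP (LK LD1_c23 LD2_c24 LD3_c7)) :=
  Lgr Lrot24 (Lpr_bt (f471985 IH) (Lpn (LP (LK LD1_c23 LD2_c24 LD3_c7))))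
theorem f818130 : Led Lsl_ff (LP (LK LD1_c24 LD2_c0 LD3_c53)) = (LP (LK LD1_c14 LD2_c22 LD3_c50)) :=
  Lgr Lrot25 (Lpr_bt (f535103 IH) (Lpr_ft (f818126 IH) (Lpe (f471987 IH) (Lpn (LP (LK LD1_c14 LD2_c22 LD3_c50))))))
def v22505 : LQ := Led Lsl_at (LP (LK LD1_c7 LD2_c37 LD3_c47))
theorem f807376 : Led Lsl_at (LP (LK LD1_c7 LD2_c37 LD3_c47)) = v22505 :=
  Lrfl
theorem f807377 : Led Lsl_af (LP (LK LD1_c7 LD2_c37 LD3_c47)) = v22505 :=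
  Lgr Lrot0 (Lpr_at (f807376 IH) (Lpn v22505))
theorem f807378 : Led Lsl_ft (LP (LK LD1_c7 LD2_c37 LD3_c48)) = v22505 :=
  Lgr Lrot2 (Lpr_gt (K34.f17336 IH) (Lpr_gt (K28.f17337 IH) (Lpr_af (f807377 IH) (Lpn v22505))))
theorem f807379 : Led Lsl_ff (LP (LK LD1_c7 LD2_c37 LD3_c48)) = v22505 :=
  Lgr Lrot3 (Lpr_ft (f807378 IH) (Lpn v22505))
theorem f818132 : (LP (LK LD1_c14 LD2_c22 LD3_c42)) = v22505 :=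
  (Llr Lrot60 (Lpe (f17435 IH) (Lpr_ff (f818130 IH) (Lpe (f17400 IH) (Lpr_ff (f807379 IH) (Lpn v22505)))))).symm
theorem f475264 : Led Lsl_ct (LP (LK LD1_c14 LD2_c22 LD3_c42)) = (LP (LK LD1_c13 LD2_c41 LD3_c53)) :=
  Lgr Lrot59 (Lpr_cf (K35.f475261 IH) (Lpn (LP (LK LD1_c13 LD2_c41 LD3_c53))))
theorem f818137 : Led Lsl_ff (LP (LK LD1_c14 LD2_c22 LD3_c49)) = (LP (LK LD1_c13 LD2_c41 LD3_c53)) :=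
  Lgr Lrot23 (Lpr_ct (K34.f17398 IH) (Lpr_ft (f807378 IH) (Lpq (f818132 IH) (Lpr_ct (f475264 IH) (Lpn (LP (LK LD1_c13 LD2_c41 LD3_c53)))))))
theorem f818139 : Led Lsl_ft (LP (LK LD1_c14 LD2_c22 LD3_c49)) = (LP (LK LD1_c13 LD2_c41 LD3_c53)) :=
  Lgr Lrot48 (Lpr_ff (f818137 IH) (Lpn (LP (LK LD1_c13 LD2_c41 LD3_c53))))
theorem f465401 : Led Lsl_bf (LP (LK LD1_c14 LD2_c22 LD3_c46)) = (LP (LK LD1_c13 LD2_c14 LD3_c3)) :=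
  Lgr Lrot24 (Lpr_bt (K28.f465395 IH) (Lpn (LP (LK LD1_c13 LD2_c14 LD3_c3))))
theorem f564672 : Led Lsl_gf (LP (LK LD1_c14 LD2_c22 LD3_c46)) = (LP (LK LD1_c13 LD2_c9 LD3_c50)) :=
  Lgr Lrot124 (Lpr_bf (f465401 IH) (Lpr_ct (K28.f465555 IH) (Lpr_gt (f465586 IH) (Lpe (f472532 IH) (Lpe (f472131 IH) (Lpr_gt (K41.f472530 IH) (Lpe (K41.f470361 IH) (Lpr_gt (K41.f564668 IH) (Lpe (K41.f96926 IH) (Lpe (K41.f96917 IH) (Lpn (LP (LK LD1_c13 LD2_c9 LD3_c50)))))))))))))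
theorem f818141 : Led Lsl_af (LP (LK LD1_c14 LD2_c22 LD3_c46)) = (LP (LK LD1_c13 LD2_c41 LD3_c53)) :=
  Lgr Lrot31 (Lpr_gf (f564672 IH) (Lpe (K41.f564648 IH) (Lpr_ft (f818139 IH) (Lpn (LP (LK LD1_c13 LD2_c41 LD3_c53))))))
theorem f818035 : Led Lsl_ff (LP (LK LD1_c13 LD2_c41 LD3_c34)) = (LP (LK LD1_c14 LD2_c22 LD3_c46)) :=
  Lgr Lrot25 (Lpr_bt (K28.f17497 IH) (Lpr_ft (f794504 IH) (Lpqs (f818030 IH) (Lpe (f465401 IH) (Lpn (LP (LK LD1_c14 LD2_c22 LD3_c46)))))))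
theorem f818147 : Led Lsl_at (LP (LK LD1_c13 LD2_c41 LD3_c34)) = (LP (LK LD1_c14 LD2_c22 LD3_c49)) :=
  Lgr Lrot66 (Lpr_ff (f818035 IH) (Lpr_af (f818141 IH) (Lpe (f818139 IH) (Lpn (LP (LK LD1_c14 LD2_c22 LD3_c49))))))
def v22506 : LQ := Led Lsl_ft (LP (LK LD1_c7 LD2_c37 LD3_c47))
theorem f807380 : Led Lsl_ft (LP (LK LD1_c7 LD2_c37 LD3_c47)) = v22506 :=
  Lrfl
theorem f807382 : Led Lsl_ff (LP (LK LD1_c7 LD2_c37 LD3_c47)) = v22506 :=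
  Lgr Lrot3 (Lpr_ft (f807380 IH) (Lpn v22506))
theorem f807383 : Led Lsl_at (LP (LK LD1_c7 LD2_c37 LD3_c48)) = v22506 :=
  Lgr Lrot66 (Lpr_ff (f807379 IH) (Lpe (f807376 IH) (Lpr_ff (f807382 IH) (Lpn v22506))))
theorem f818151 : (LP (LK LD1_c14 LD2_c22 LD3_c43)) = v22506 :=
  (Llr Lrot1 (Lpe (K41.f470521 IH) (Lpr_at (f818147 IH) (Lpr_ct (K34.f17398 IH) (Lpr_at (f807383 IH) (Lpn v22506)))))).symm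
theorem f93066 : Led Lsl_dt (LP (LK LD1_c14 LD2_c22 LD3_c47)) = (LP (LK LD1_c7 LD2_c37 LD3_c47)) :=
  Lre_d IH (LK LD1_c14 LD2_c22 LD3_c47) (LK LD1_c7 LD2_c37 LD3_c47) Lrfl Lrfl
theorem f17352 : Led Lsl_dt (LP (LK LD1_c14 LD2_c22 LD3_c43)) = (LP (LK LD1_c24 LD2_c0 LD3_c54)) :=
  Lre_d IH (LK LD1_c14 LD2_c22 LD3_c43) (LK LD1_c24 LD2_c0 LD3_c54) Lrfl Lrfl
theorem f818160 : Led Lsl_ff (LP (LK LD1_c14 LD2_c22 LD3_c47)) = (LP (LK LD1_c24 LD2_c0 LD3_c54)) :=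
  Lgr Lrot19 (Lpr_dt (f93066 IH) (Lpr_ft (f807380 IH) (Lpq (f818151 IH) (Lpr_dt (f17352 IH) (Lpn (LP (LK LD1_c24 LD2_c0 LD3_c54)))))))
theorem f818164 : Led Lsl_ft (LP (LK LD1_c14 LD2_c22 LD3_c47)) = (LP (LK LD1_c24 LD2_c0 LD3_c54)) :=
  Lgr Lrot48 (Lpr_ff (f818160 IH) (Lpn (LP (LK LD1_c24 LD2_c0 LD3_c54))))
theorem f17393 : Led Lsl_dt (LP (LK LD1_c7 LD2_c37 LD3_c47)) = (LP (LK LD1_c14 LD2_c22 LD3_c47)) :=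
  Lre_d IH (LK LD1_c7 LD2_c37 LD3_c47) (LK LD1_c14 LD2_c22 LD3_c47) Lrfl Lrfl
theorem f465557 : Led Lsl_bt (LP (LK LD1_c14 LD2_c22 LD3_c47)) = (LP (LK LD1_c22 LD2_c19 LD3_c3)) :=
  Lgr Lrot95 (Lpe (f17393 IH) (Lpr_bf (K28.f465551 IH) (Lpe (f15928 IH) (Lpn (LP (LK LD1_c22 LD2_c19 LD3_c3))))))
theorem f465567 : Led Lsl_bf (LP (LK LD1_c14 LD2_c22 LD3_c47)) = (LP (LK LD1_c22 LD2_c19 LD3_c3)) :=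
  Lgr Lrot24 (Lpr_bt (f465557 IH) (Lpn (LP (LK LD1_c22 LD2_c19 LD3_c3))))
theorem f16754 : Led Lsl_dt (LP (LK LD1_c23 LD2_c45 LD3_c39)) = (LP (LK LD1_c14 LD2_c10 LD3_c24)) :=
  Lre_d IH (LK LD1_c23 LD2_c45 LD3_c39) (LK LD1_c14 LD2_c10 LD3_c24) Lrfl Lrfl
theorem f465445 : Led Lsl_bt (LP (LK LD1_c24 LD2_c0 LD3_c54)) = (LP (LK LD1_c23 LD2_c45 LD3_c39)) :=
  Lgr Lrot95 (Lpe (f17352 IH) (Lpr_bf (K28.f465441 IH) (Lpe (f16754 IH) (Lpn (LP (LK LD1_c23 LD2_c45 LD3_c39))))))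
theorem f818166 : Led Lsl_ff (LP (LK LD1_c22 LD2_c19 LD3_c3)) = (LP (LK LD1_c23 LD2_c45 LD3_c39)) :=
  Lgr Lrot25 (Lpe (f465567 IH) (Lpr_ft (f818164 IH) (Lpr_bt (f465445 IH) (Lpn (LP (LK LD1_c23 LD2_c45 LD3_c39))))))
theorem f16753 : Led Lsl_dt (LP (LK LD1_c14 LD2_c10 LD3_c24)) = (LP (LK LD1_c23 LD2_c45 LD3_c39)) :=
  Lre_d IH (LK LD1_c14 LD2_c10 LD3_c24) (LK LD1_c23 LD2_c45 LD3_c39) Lrfl Lrfl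
theorem f818168 : Led Lsl_ft (LP (LK LD1_c13 LD2_c7 LD3_c15)) = (LP (LK LD1_c14 LD2_c10 LD3_c24)) :=
  Lgr Lrot54 (Lpe (f15928 IH) (Lpr_ff (f818166 IH) (Lpe (f16753 IH) (Lpn (LP (LK LD1_c14 LD2_c10 LD3_c24))))))
theorem f818170 : Led Lsl_af (LP (LK LD1_c13 LD2_c7 LD3_c19)) = (LP (LK LD1_c14 LD2_c10 LD3_c24)) :=
  Lgr Lrot31 (Lpe (K41.f457992 IH) (Lpr_gf (K62.f458107 IH) (Lpr_ft (f818168 IH) (Lpn (LP (LK LD1_c14 LD2_c10 LD3_c24))))))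
theorem f818059 : Led Lsl_ff (LP (LK LD1_c14 LD2_c10 LD3_c21)) = (LP (LK LD1_c13 LD2_c7 LD3_c19)) :=
  Lgr Lrot23 (Lpr_ct (K35.f16731 IH) (Lpqs (f818046 IH) (Lpe (f786311 IH) (Lpr_ct (K41.f16698 IH) (Lpn (LP (LK LD1_c13 LD2_c7 LD3_c19)))))))
theorem f818176 : Led Lsl_at (LP (LK LD1_c14 LD2_c10 LD3_c21)) = (LP (LK LD1_c13 LD2_c7 LD3_c15)) :=
  Lgr Lrot66 (Lpr_ff (f818059 IH) (Lpr_af (f818170 IH) (Lpe (f818168 IH) (Lpn (LP (LK LD1_c13 LD2_c7 LD3_c15))))))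
theorem f818182 : Led Lsl_af (LP (LK LD1_c23 LD2_c45 LD3_c36)) = (LP (LK LD1_c22 LD2_c19 LD3_c4)) :=
  Lgr Lrot50 (Lpr_et (f464241 IH) (Lpr_at (f818176 IH) (Lpr_et (f465566 IH) (Lpn (LP (LK LD1_c22 LD2_c19 LD3_c4))))))
theorem f664782 : Led Lsl_ft (LP (LK LD1_c7 LD2_c48 LD3_c34)) = K48.v7373 :=
  Lgr Lrot48 (Lpr_ff (K63.f664781 IH) (Lpn K48.v7373))
theorem f803171 : Led Lsl_bt K48.v7373 = K62.v22181 :=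
  Lgr Lrot35 (Lpe (f664782 IH) (Lpe (K62.f472351 IH) (Lpr_ff (K62.f803170 IH) (Lpn K62.v22181))))
theorem f665754 : Led Lsl_ct K48.v7373 = (LP (LK LD1_c13 LD2_c22 LD3_c32)) :=
  Lgr Lrot59 (Lpr_cf (K48.f665753 IH) (Lpn (LP (LK LD1_c13 LD2_c22 LD3_c32))))
theorem f18368 : Led Lsl_ct (LP (LK LD1_c13 LD2_c3 LD3_c41)) = (LP (LK LD1_c22 LD2_c13 LD3_c49)) :=
  Lre_c IH (LK LD1_c13 LD2_c3 LD3_c41) (LK LD1_c22 LD2_c13 LD3_c49) Lrfl Lrfl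
theorem f803176 : Led Lsl_gf (LP (LK LD1_c22 LD2_c13 LD3_c49)) = (LP (LK LD1_c27 LD2_c6 LD3_c51)) :=
  Lgr Lrot129 (Lpe (f18368 IH) (Lpr_bt (K62.f18367 IH) (Lpr_gt (K28.f18366 IH) (Lpe (K2.f18328 IH) (Lpr_ct (K41.f18364 IH) (Lpr_gt (K48.f18365 IH) (Lpe (f665754 IH) (Lpr_bt (f803171 IH) (Lpe (K62.f801804 IH) (Lpr_ct (K62.f157432 IH) (Lpn (LP (LK LD1_c27 LD2_c6 LD3_c51)))))))))))))
theorem f157478 : Led Lsl_ft (LP (LK LD1_c27 LD2_c6 LD3_c51)) = (LP (LK LD1_c17 LD2_c17 LD3_c24)) :=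
  Lre_f IH (LK LD1_c27 LD2_c6 LD3_c51) (LK LD1_c17 LD2_c17 LD3_c24) Lrfl Lrfl
theorem f144057 : Led Lsl_at (LP (LK LD1_c17 LD2_c17 LD3_c5)) = (LP (LK LD1_c9 LD2_c21 LD3_c30)) :=
  Lre_a IH (LK LD1_c17 LD2_c17 LD3_c5) (LK LD1_c9 LD2_c21 LD3_c30) Lrfl Lrfl
theorem f157401 : Led Lsl_et (LP (LK LD1_c9 LD2_c21 LD3_c30)) = (LP (LK LD1_c17 LD2_c17 LD3_c24)) :=
  Lre_e IH (LK LD1_c9 LD2_c21 LD3_c30) (LK LD1_c17 LD2_c17 LD3_c24) Lrfl Lrfl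
theorem f157402 : Led Lsl_af (LP (LK LD1_c14 LD2_c13 LD3_c23)) = (LP (LK LD1_c17 LD2_c17 LD3_c24)) :=
  Lgr Lrot50 (Lpr_et (K62.f157398 IH) (Lpr_at (f144057 IH) (Lpr_et (f157401 IH) (Lpn (LP (LK LD1_c17 LD2_c17 LD3_c24))))))
theorem f803178 : Led Lsl_gt (LP (LK LD1_c22 LD2_c13 LD3_c49)) = (LP (LK LD1_c14 LD2_c13 LD3_c23)) :=
  Lgr Lrot46 (Lpr_gf (f803176 IH) (Lpr_ft (f157478 IH) (Lpe (f157402 IH) (Lpn (LP (LK LD1_c14 LD2_c13 LD3_c23))))))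
theorem f475726 : Led Lsl_ct (LP (LK LD1_c24 LD2_c25 LD3_c60)) = (LP (LK LD1_c14 LD2_c41 LD3_c25)) :=
  Lre_c IH (LK LD1_c24 LD2_c25 LD3_c60) (LK LD1_c14 LD2_c41 LD3_c25) Lrfl Lrfl
theorem f475727 : Led Lsl_ft (LP (LK LD1_c22 LD2_c13 LD3_c49)) = (LP (LK LD1_c24 LD2_c25 LD3_c60)) :=
  Lgr Lrot4 (Lpe (f18368 IH) (Lpr_ff (K62.f475722 IH) (Lpe (f475726 IH) (Lpn (LP (LK LD1_c24 LD2_c25 LD3_c60))))))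
theorem f157413 : Led Lsl_gt (LP (LK LD1_c14 LD2_c13 LD3_c23)) = (LP (LK LD1_c23 LD2_c48 LD3_c58)) :=
  Lre_g IH (LK LD1_c14 LD2_c13 LD3_c23) (LK LD1_c23 LD2_c48 LD3_c58) Lrfl Lrfl
theorem f803180 : Led Lsl_at (LP (LK LD1_c24 LD2_c25 LD3_c60)) = (LP (LK LD1_c23 LD2_c48 LD3_c58)) :=
  Lgr Lrot26 (Lpe (f475727 IH) (Lpr_gt (f803178 IH) (Lpr_gt (f157413 IH) (Lpn (LP (LK LD1_c23 LD2_c48 LD3_c58))))))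
theorem f475743 : Led Lsl_et (LP (LK LD1_c31 LD2_c31 LD3_c19)) = (LP (LK LD1_c24 LD2_c25 LD3_c60)) :=
  Lre_e IH (LK LD1_c31 LD2_c31 LD3_c19) (LK LD1_c24 LD2_c25 LD3_c60) Lrfl Lrfl
theorem f803190 : Led Lsl_et (LP (LK LD1_c23 LD2_c48 LD3_c58)) = (LP (LK LD1_c31 LD2_c13 LD3_c58)) :=
  Lre_e IH (LK LD1_c23 LD2_c48 LD3_c58) (LK LD1_c31 LD2_c13 LD3_c58) Lrfl Lrfl
theorem f803191 : Led Lsl_af (LP (LK LD1_c31 LD2_c31 LD3_c19)) = (LP (LK LD1_c31 LD2_c13 LD3_c58)) :=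
  Lgr Lrot50 (Lpr_et (f475743 IH) (Lpr_at (f803180 IH) (Lpr_et (f803190 IH) (Lpn (LP (LK LD1_c31 LD2_c13 LD3_c58))))))
theorem f534913 : Led Lsl_ct (LP (LK LD1_c31 LD2_c31 LD3_c19)) = (LP (LK LD1_c24 LD2_c25 LD3_c61)) :=
  Lre_c IH (LK LD1_c31 LD2_c31 LD3_c19) (LK LD1_c24 LD2_c25 LD3_c61) Lrfl Lrfl
theorem f473716 : Led Lsl_ff (LP (LK LD1_c14 LD2_c41 LD3_c25)) = (LP (LK LD1_c13 LD2_c3 LD3_c41)) :=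
  Lgr Lrot25 (Lpr_bt (K62.f473514 IH) (Lpr_ft (K29.f473714 IH) (Lpr_bt (K62.f457998 IH) (Lpn (LP (LK LD1_c13 LD2_c3 LD3_c41))))))
theorem f534896 : Led Lsl_af (LP (LK LD1_c23 LD2_c46 LD3_c30)) = (LP (LK LD1_c14 LD2_c41 LD3_c25)) :=
  Lgr Lrot45 (Lpr_ft (K62.f534894 IH) (Lpr_at (K62.f458045 IH) (Lpe (f473716 IH) (Lpn (LP (LK LD1_c14 LD2_c41 LD3_c25))))))
theorem f534891 : Led Lsl_et (LP (LK LD1_c23 LD2_c46 LD3_c30)) = (LP (LK LD1_c31 LD2_c12 LD3_c58)) :=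
  Lre_e IH (LK LD1_c23 LD2_c46 LD3_c30) (LK LD1_c31 LD2_c12 LD3_c58) Lrfl Lrfl
theorem f475729 : Led Lsl_et (LP (LK LD1_c24 LD2_c25 LD3_c61)) = (LP (LK LD1_c14 LD2_c41 LD3_c25)) :=
  Lre_e IH (LK LD1_c24 LD2_c25 LD3_c61) (LK LD1_c14 LD2_c41 LD3_c25) Lrfl Lrfl
theorem f534906 : Led Lsl_at (LP (LK LD1_c31 LD2_c12 LD3_c58)) = (LP (LK LD1_c24 LD2_c25 LD3_c61)) :=
  Lgr Lrot80 (Lpe (f534891 IH) (Lpr_af (f534896 IH) (Lpe (f475729 IH) (Lpn (LP (LK LD1_c24 LD2_c25 LD3_c61))))))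
theorem f534908 : Led Lsl_af (LP (LK LD1_c31 LD2_c12 LD3_c58)) = (LP (LK LD1_c24 LD2_c25 LD3_c61)) :=
  Lgr Lrot0 (Lpr_at (f534906 IH) (Lpn (LP (LK LD1_c24 LD2_c25 LD3_c61))))
theorem f803197 : Led Lsl_ct (LP (LK LD1_c31 LD2_c12 LD3_c58)) = (LP (LK LD1_c31 LD2_c13 LD3_c58)) :=
  Lgr Lrot111 (Lpr_af (f534908 IH) (Lpe (f534913 IH) (Lpr_af (f803191 IH) (Lpn (LP (LK LD1_c31 LD2_c13 LD3_c58))))))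
theorem f803202 : Led Lsl_cf (LP (LK LD1_c31 LD2_c12 LD3_c58)) = (LP (LK LD1_c31 LD2_c13 LD3_c58)) :=
  Lgr Lrot11 (Lpr_ct (f803197 IH) (Lpn (LP (LK LD1_c31 LD2_c13 LD3_c58))))
theorem f534086 : Led Lsl_et (LP (LK LD1_c31 LD2_c12 LD3_c58)) = (LP (LK LD1_c23 LD2_c46 LD3_c30)) :=
  Lre_e IH (LK LD1_c31 LD2_c12 LD3_c58) (LK LD1_c23 LD2_c46 LD3_c30) Lrfl Lrfl
theorem f803206 : Led Lsl_ct (LP (LK LD1_c23 LD2_c46 LD3_c30)) = (LP (LK LD1_c23 LD2_c48 LD3_c58)) :=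
  Lgr Lrot15 (Lpe (f534086 IH) (Lpr_cf (f803202 IH) (Lpe (f803190 IH) (Lpn (LP (LK LD1_c23 LD2_c48 LD3_c58))))))
theorem f534887 : Led Lsl_bt (LP (LK LD1_c23 LD2_c46 LD3_c30)) = (LP (LK LD1_c22 LD2_c13 LD3_c40)) :=
  Lgr Lrot127 (Lpr_bf (K62.f534882 IH) (Lpn (LP (LK LD1_c22 LD2_c13 LD3_c40))))
theorem f427077 : Led Lsl_et (LP (LK LD1_c6 LD2_c33 LD3_c23)) = (LP (LK LD1_c12 LD2_c33 LD3_c56)) :=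
  Lre_e IH (LK LD1_c6 LD2_c33 LD3_c23) (LK LD1_c12 LD2_c33 LD3_c56) Lrfl Lrfl
theorem f145207 : Led Lsl_dt (LP (LK LD1_c12 LD2_c33 LD3_c56)) = (LP (LK LD1_c21 LD2_c40 LD3_c4)) :=
  Lre_d IH (LK LD1_c12 LD2_c33 LD3_c56) (LK LD1_c21 LD2_c40 LD3_c4) Lrfl Lrfl
theorem f578072 : Led Lsl_ef (LP (LK LD1_c22 LD2_c24 LD3_c8)) = (LP (LK LD1_c21 LD2_c40 LD3_c4)) :=
  Lgr Lrot73 (Lpr_dt (K61.f578068 IH) (Lpr_et (K43.f137193 IH) (Lpe (K40.f427065 IH) (Lpr_et (f427077 IH) (Lpr_dt (f145207 IH) (Lpn (LP (LK LD1_c21 LD2_c40 LD3_c4))))))))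
theorem f578082 : Led Lsl_et (LP (LK LD1_c22 LD2_c24 LD3_c8)) = (LP (LK LD1_c21 LD2_c40 LD3_c4)) :=
  Lgr Lrot87 (Lpr_ef (f578072 IH) (Lpn (LP (LK LD1_c21 LD2_c40 LD3_c4))))
theorem f473859 : Led Lsl_ct (LP (LK LD1_c30 LD2_c28 LD3_c26)) = (LP (LK LD1_c22 LD2_c24 LD3_c8)) :=
  Lre_c IH (LK LD1_c30 LD2_c28 LD3_c26) (LK LD1_c22 LD2_c24 LD3_c8) Lrfl Lrfl
theorem f427085 : Led Lsl_ct (LP (LK LD1_c21 LD2_c40 LD3_c4)) = (LP (LK LD1_c30 LD2_c6 LD3_c54)) :=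
  Lre_c IH (LK LD1_c21 LD2_c40 LD3_c4) (LK LD1_c30 LD2_c6 LD3_c54) Lrfl Lrfl
theorem f578084 : Led Lsl_ef (LP (LK LD1_c30 LD2_c28 LD3_c26)) = (LP (LK LD1_c30 LD2_c6 LD3_c54)) :=
  Lgr Lrot28 (Lpr_ct (f473859 IH) (Lpr_et (f578082 IH) (Lpr_ct (f427085 IH) (Lpn (LP (LK LD1_c30 LD2_c6 LD3_c54))))))
theorem f145206 : Led Lsl_et (LP (LK LD1_c12 LD2_c33 LD3_c56)) = (LP (LK LD1_c6 LD2_c33 LD3_c23)) :=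
  Lre_e IH (LK LD1_c12 LD2_c33 LD3_c56) (LK LD1_c6 LD2_c33 LD3_c23) Lrfl Lrfl
theorem f426910 : Led Lsl_et (LP (LK LD1_c11 LD2_c30 LD3_c30)) = (LP (LK LD1_c20 LD2_c27 LD3_c35)) :=
  Lre_e IH (LK LD1_c11 LD2_c30 LD3_c30) (LK LD1_c20 LD2_c27 LD3_c35) Lrfl Lrfl
theorem f427079 : Led Lsl_cf (LP (LK LD1_c12 LD2_c33 LD3_c56)) = (LP (LK LD1_c20 LD2_c27 LD3_c35)) :=
  Lgr Lrot39 (Lpr_et (f145206 IH) (Lpr_ct (K40.f427073 IH) (Lpr_et (f426910 IH) (Lpn (LP (LK LD1_c20 LD2_c27 LD3_c35))))))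
theorem f427083 : Led Lsl_ct (LP (LK LD1_c12 LD2_c33 LD3_c56)) = (LP (LK LD1_c20 LD2_c27 LD3_c35)) :=
  Lgr Lrot59 (Lpr_cf (f427079 IH) (Lpn (LP (LK LD1_c20 LD2_c27 LD3_c35))))
theorem f427034 : Led Lsl_bt (LP (LK LD1_c20 LD2_c27 LD3_c35)) = (LP (LK LD1_c11 LD2_c30 LD3_c31)) :=
  Lre_b IH (LK LD1_c20 LD2_c27 LD3_c35) (LK LD1_c11 LD2_c30 LD3_c31) Lrfl Lrfl
theorem f427088 : Led Lsl_bf (LP (LK LD1_c12 LD2_c33 LD3_c56)) = (LP (LK LD1_c7 LD2_c42 LD3_c9)) :=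
  Lgr Lrot90 (Lpr_ct (f427083 IH) (Lpr_bt (f427034 IH) (Lpe (K45.f427051 IH) (Lpe (K24.f425996 IH) (Lpe (K55.f426782 IH) (Lpn (LP (LK LD1_c7 LD2_c42 LD3_c9))))))))
theorem f427092 : Led Lsl_bt (LP (LK LD1_c21 LD2_c40 LD3_c4)) = (LP (LK LD1_c14 LD2_c30 LD3_c59)) :=
  Lgr Lrot95 (Lpe (f145207 IH) (Lpr_bf (f427088 IH) (Lpe (K36.f151638 IH) (Lpn (LP (LK LD1_c14 LD2_c30 LD3_c59))))))
theorem f427096 : Led Lsl_bf (LP (LK LD1_c21 LD2_c40 LD3_c4)) = (LP (LK LD1_c14 LD2_c30 LD3_c59)) :=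
  Lgr Lrot24 (Lpr_bt (f427092 IH) (Lpn (LP (LK LD1_c14 LD2_c30 LD3_c59))))
theorem f426557 : Led Lsl_bt (LP (LK LD1_c20 LD2_c41 LD3_c49)) = (LP (LK LD1_c11 LD2_c41 LD3_c50)) :=
  Lre_b IH (LK LD1_c20 LD2_c41 LD3_c49) (LK LD1_c11 LD2_c41 LD3_c50) Lrfl Lrfl
theorem f426525 : Led Lsl_at (LP (LK LD1_c29 LD2_c35 LD3_c38)) = (LP (LK LD1_c20 LD2_c41 LD3_c49)) :=
  Lre_a IH (LK LD1_c29 LD2_c35 LD3_c38) (LK LD1_c20 LD2_c41 LD3_c49) Lrfl Lrfl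
theorem f426521 : Led Lsl_bf (LP (LK LD1_c29 LD2_c35 LD3_c38)) = (LP (LK LD1_c22 LD2_c22 LD3_c26)) :=
  Lgr Lrot24 (Lpr_bt (K28.f426517 IH) (Lpn (LP (LK LD1_c22 LD2_c22 LD3_c26))))
theorem f427099 : Led Lsl_at (LP (LK LD1_c21 LD2_c40 LD3_c4)) = (LP (LK LD1_c22 LD2_c22 LD3_c26)) :=
  Lgr Lrot67 (Lpr_bf (f427096 IH) (Lpr_af (K36.f426733 IH) (Lpe (f426557 IH) (Lpe (f426525 IH) (Lpr_bf (f426521 IH) (Lpn (LP (LK LD1_c22 LD2_c22 LD3_c26))))))))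
theorem f427086 : Led Lsl_ct (LP (LK LD1_c30 LD2_c6 LD3_c54)) = (LP (LK LD1_c21 LD2_c40 LD3_c4)) :=
  Lre_c IH (LK LD1_c30 LD2_c6 LD3_c54) (LK LD1_c21 LD2_c40 LD3_c4) Lrfl Lrfl
theorem f116594 : Led Lsl_ct (LP (LK LD1_c22 LD2_c22 LD3_c26)) = (LP (LK LD1_c30 LD2_c27 LD3_c32)) :=
  Lre_c IH (LK LD1_c22 LD2_c22 LD3_c26) (LK LD1_c30 LD2_c27 LD3_c32) Lrfl Lrfl
theorem f427101 : Led Lsl_af (LP (LK LD1_c30 LD2_c6 LD3_c54)) = (LP (LK LD1_c30 LD2_c27 LD3_c32)) :=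
  Lgr Lrot68 (Lpr_ct (f427086 IH) (Lpr_at (f427099 IH) (Lpr_ct (f116594 IH) (Lpn (LP (LK LD1_c30 LD2_c27 LD3_c32))))))
theorem f116600 : Led Lsl_ct (LP (LK LD1_c22 LD2_c12 LD3_c60)) = (LP (LK LD1_c30 LD2_c21 LD3_c11)) :=
  Lre_c IH (LK LD1_c22 LD2_c12 LD3_c60) (LK LD1_c30 LD2_c21 LD3_c11) Lrfl Lrfl
theorem f116601 : Led Lsl_ct (LP (LK LD1_c30 LD2_c27 LD3_c32)) = (LP (LK LD1_c22 LD2_c22 LD3_c26)) :=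
  Lre_c IH (LK LD1_c30 LD2_c27 LD3_c32) (LK LD1_c22 LD2_c22 LD3_c26) Lrfl Lrfl
theorem f116602 : Led Lsl_et (LP (LK LD1_c30 LD2_c21 LD3_c11)) = (LP (LK LD1_c30 LD2_c27 LD3_c32)) :=
  Lgr Lrot158 (Lpe (f116600 IH) (Lpr_ef (K28.f116597 IH) (Lpe (f116601 IH) (Lpn (LP (LK LD1_c30 LD2_c27 LD3_c32))))))
theorem f578086 : Led Lsl_at (LP (LK LD1_c30 LD2_c28 LD3_c26)) = (LP (LK LD1_c30 LD2_c21 LD3_c11)) :=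
  Lgr Lrot80 (Lpr_ef (f578084 IH) (Lpr_af (f427101 IH) (Lpe (f116602 IH) (Lpn (LP (LK LD1_c30 LD2_c21 LD3_c11))))))
theorem f578058 : Led Lsl_ff (LP (LK LD1_c30 LD2_c28 LD3_c26)) = (LP (LK LD1_c30 LD2_c21 LD3_c23)) :=
  Lgr Lrot23 (Lpr_ct (f473859 IH) (Lpr_ft (K43.f578054 IH) (Lpr_ct (K61.f512622 IH) (Lpn (LP (LK LD1_c30 LD2_c21 LD3_c23))))))
theorem f578052 : Led Lsl_at (LP (LK LD1_c30 LD2_c28 LD3_c28)) = (LP (LK LD1_c30 LD2_c21 LD3_c23)) :=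
  Lgr Lrot100 (Lpr_af (K61.f578046 IH) (Lpn (LP (LK LD1_c30 LD2_c21 LD3_c23))))
theorem f578090 : Led Lsl_ff (LP (LK LD1_c30 LD2_c28 LD3_c28)) = (LP (LK LD1_c30 LD2_c21 LD3_c11)) :=
  Lgr Lrot30 (Lpr_at (f578052 IH) (Lpe (f578058 IH) (Lpr_at (f578086 IH) (Lpn (LP (LK LD1_c30 LD2_c21 LD3_c11))))))
theorem f578092 : Led Lsl_ft (LP (LK LD1_c30 LD2_c28 LD3_c28)) = (LP (LK LD1_c30 LD2_c21 LD3_c11)) :=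
  Lgr Lrot48 (Lpr_ff (f578090 IH) (Lpn (LP (LK LD1_c30 LD2_c21 LD3_c11))))
theorem f578088 : Led Lsl_af (LP (LK LD1_c30 LD2_c28 LD3_c26)) = (LP (LK LD1_c30 LD2_c21 LD3_c11)) :=
  Lgr Lrot0 (Lpr_at (f578086 IH) (Lpn (LP (LK LD1_c30 LD2_c21 LD3_c11))))
theorem f419851 : Led Lsl_gf (LP (LK LD1_c24 LD2_c0 LD3_c61)) = (LP (LK LD1_c22 LD2_c33 LD3_c19)) :=
  Lgr Lrot47 (Lpr_gt (K63.f419849 IH) (Lpe (K41.f17862 IH) (Lpe (K4.f17861 IH) (Lpn (LP (LK LD1_c22 LD2_c33 LD3_c19))))))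
theorem f419853 : Led Lsl_ct (LP (LK LD1_c24 LD2_c0 LD3_c61)) = (LP (LK LD1_c31 LD2_c19 LD3_c29)) :=
  Lre_c IH (LK LD1_c24 LD2_c0 LD3_c61) (LK LD1_c31 LD2_c19 LD3_c29) Lrfl Lrfl
theorem f578074 : Led Lsl_gf (LP (LK LD1_c30 LD2_c28 LD3_c26)) = (LP (LK LD1_c31 LD2_c19 LD3_c29)) :=
  Lgr Lrot172 (Lpr_ct (f473859 IH) (Lpr_dt (K61.f578068 IH) (Lpr_cf (K43.f575120 IH) (Lpr_gf (K43.f575252 IH) (Lpe (K43.f476557 IH) (Lpe (K43.f17841 IH) (Lpr_dt (K28.f17925 IH) (Lpe (f419851 IH) (Lpr_ct (f419853 IH) (Lpn (LP (LK LD1_c31 LD2_c19 LD3_c29))))))))))))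
theorem f578094 : Led Lsl_gt (LP (LK LD1_c30 LD2_c28 LD3_c28)) = (LP (LK LD1_c31 LD2_c19 LD3_c29)) :=
  Lgr Lrot5 (Lpr_ft (f578092 IH) (Lpe (f578088 IH) (Lpr_gf (f578074 IH) (Lpn (LP (LK LD1_c31 LD2_c19 LD3_c29))))))
theorem f803213 : Led Lsl_bt (LP (LK LD1_c24 LD2_c0 LD3_c61)) = (LP (LK LD1_c23 LD2_c48 LD3_c52)) :=
  Lgr Lrot22 (Lpr_ct (f419853 IH) (Lpe (f578094 IH) (Lpe (K61.f473905 IH) (Lpe (K43.f473901 IH) (Lpe (f534887 IH) (Lpr_ct (f803206 IH) (Lpe (f157413 IH) (Lpe (K62.f65911 IH) (Lpr_bt (K62.f157391 IH) (Lpe (f156672 IH) (Lpn (LP (LK LD1_c23 LD2_c48 LD3_c52)))))))))))))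
theorem f803217 : Led Lsl_df (LP (LK LD1_c22 LD2_c19 LD3_c4)) = (LP (LK LD1_c23 LD2_c48 LD3_c52)) :=
  Lgr Lrot12 (Lpe (K63.f465562 IH) (Lpr_dt (K63.f93032 IH) (Lpr_bt (f803213 IH) (Lpn (LP (LK LD1_c23 LD2_c48 LD3_c52))))))
theorem f818188 : Led Lsl_at (LP (LK LD1_c31 LD2_c12 LD3_c31)) = (LP (LK LD1_c23 LD2_c48 LD3_c52)) :=
  Lgr Lrot51 (Lpe (f428963 IH) (Lpr_af (f818182 IH) (Lpr_df (f803217 IH) (Lpn (LP (LK LD1_c23 LD2_c48 LD3_c52))))))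
theorem f818190 : Led Lsl_af (LP (LK LD1_c31 LD2_c12 LD3_c31)) = (LP (LK LD1_c23 LD2_c48 LD3_c52)) :=
  Lgr Lrot0 (Lpr_at (f818188 IH) (Lpn (LP (LK LD1_c23 LD2_c48 LD3_c52))))
theorem f65907 : Led Lsl_ct (LP (LK LD1_c14 LD2_c13 LD3_c24)) = (LP (LK LD1_c23 LD2_c48 LD3_c60)) :=
  Lre_c IH (LK LD1_c14 LD2_c13 LD3_c24) (LK LD1_c23 LD2_c48 LD3_c60) Lrfl Lrfl
theorem f157427 : Led Lsl_bt (LP (LK LD1_c14 LD2_c13 LD3_c24)) = (LP (LK LD1_c23 LD2_c48 LD3_c53)) :=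
  Lre_b IH (LK LD1_c14 LD2_c13 LD3_c24) (LK LD1_c23 LD2_c48 LD3_c53) Lrfl Lrfl
theorem f19017 : Led Lsl_bt (LP (LK LD1_c13 LD2_c2 LD3_c51)) = (LP (LK LD1_c6 LD2_c51 LD3_c36)) :=
  Lre_b IH (LK LD1_c13 LD2_c2 LD3_c51) (LK LD1_c6 LD2_c51 LD3_c36) Lrfl Lrfl
theorem f15867 : Led Lsl_ct (LP (LK LD1_c13 LD2_c2 LD3_c51)) = (LP (LK LD1_c22 LD2_c12 LD3_c33)) :=
  Lre_c IH (LK LD1_c13 LD2_c2 LD3_c51) (LK LD1_c22 LD2_c12 LD3_c33) Lrfl Lrfl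
theorem f15873 : Led Lsl_gt (LP (LK LD1_c30 LD2_c20 LD3_c48)) = (LP (LK LD1_c22 LD2_c12 LD3_c33)) :=
  Lre_g IH (LK LD1_c30 LD2_c20 LD3_c48) (LK LD1_c22 LD2_c12 LD3_c33) Lrfl Lrfl
theorem f532157 : Led Lsl_df (LP (LK LD1_c22 LD2_c26 LD3_c48)) = (LP (LK LD1_c23 LD2_c52 LD3_c43)) :=
  Lgr Lrot38 (Lpr_dt (K39.f532153 IH) (Lpn (LP (LK LD1_c23 LD2_c52 LD3_c43))))
theorem f532182 : Led Lsl_bt (LP (LK LD1_c31 LD2_c12 LD3_c31)) = (LP (LK LD1_c23 LD2_c52 LD3_c43)) :=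
  Lgr Lrot95 (Lpe (f428963 IH) (Lpe (f532151 IH) (Lpr_df (f532157 IH) (Lpn (LP (LK LD1_c23 LD2_c52 LD3_c43))))))
theorem f464489 : Led Lsl_gt (LP (LK LD1_c22 LD2_c13 LD3_c61)) = (LP (LK LD1_c23 LD2_c52 LD3_c43)) :=
  Lgr Lrot5 (Lpr_ft (K28.f464480 IH) (Lpe (K28.f419614 IH) (Lpe (K39.f419627 IH) (Lpn (LP (LK LD1_c23 LD2_c52 LD3_c43))))))
theorem f532184 : Led Lsl_ct (LP (LK LD1_c31 LD2_c12 LD3_c31)) = (LP (LK LD1_c30 LD2_c20 LD3_c48)) :=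
  Lgr Lrot64 (Lpr_bt (f532182 IH) (Lpe (f464489 IH) (Lpe (K61.f464488 IH) (Lpr_ct (K28.f458441 IH) (Lpr_gf (K29.f473508 IH) (Lpe (K29.f459894 IH) (Lpe (K29.f473453 IH) (Lpe (f19017 IH) (Lpr_ct (f15867 IH) (Lpe (f15873 IH) (Lpn (LP (LK LD1_c30 LD2_c20 LD3_c48)))))))))))))
theorem f801872 : Led Lsl_gt (LP (LK LD1_c23 LD2_c48 LD3_c53)) = (LP (LK LD1_c31 LD2_c12 LD3_c31)) :=
  Lgr Lrot82 (Lpe (f157427 IH) (Lpr_ct (f65907 IH) (Lpr_gf (K62.f801868 IH) (Lpe (K62.f473515 IH) (Lpr_bt (K62.f473514 IH) (Lpe (K29.f473453 IH) (Lpe (f19017 IH) (Lpr_ct (f15867 IH) (Lpe (f15873 IH) (Lpe (f532184 IH) (Lpn (LP (LK LD1_c31 LD2_c12 LD3_c31)))))))))))))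
theorem f803182 : Led Lsl_af (LP (LK LD1_c24 LD2_c25 LD3_c60)) = (LP (LK LD1_c23 LD2_c48 LD3_c58)) :=
  Lgr Lrot0 (Lpr_at (f803180 IH) (Lpn (LP (LK LD1_c23 LD2_c48 LD3_c58))))
theorem f475738 : Led Lsl_ff (LP (LK LD1_c22 LD2_c13 LD3_c49)) = (LP (LK LD1_c24 LD2_c25 LD3_c60)) :=
  Lgr Lrot3 (Lpr_ft (f475727 IH) (Lpn (LP (LK LD1_c24 LD2_c25 LD3_c60))))
theorem f146566 : Led Lsl_gt (LP (LK LD1_c27 LD2_c6 LD3_c48)) = (LP (LK LD1_c17 LD2_c17 LD3_c24)) :=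
  Lre_g IH (LK LD1_c27 LD2_c6 LD3_c48) (LK LD1_c17 LD2_c17 LD3_c24) Lrfl Lrfl
theorem f157424 : Led Lsl_gt (LP (LK LD1_c23 LD2_c48 LD3_c60)) = (LP (LK LD1_c27 LD2_c6 LD3_c48)) :=
  Lgr Lrot5 (Lpr_ft (K62.f157407 IH) (Lpr_at (K62.f157409 IH) (Lpe (f146566 IH) (Lpn (LP (LK LD1_c27 LD2_c6 LD3_c48))))))
theorem f801870 : Led Lsl_af (LP (LK LD1_c27 LD2_c6 LD3_c48)) = (LP (LK LD1_c22 LD2_c13 LD3_c49)) :=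
  Lgr Lrot31 (Lpe (f157424 IH) (Lpr_gf (K62.f801868 IH) (Lpe (f475738 IH) (Lpn (LP (LK LD1_c22 LD2_c13 LD3_c49))))))
theorem f803257 : Led Lsl_ft (LP (LK LD1_c27 LD2_c6 LD3_c48)) = (LP (LK LD1_c23 LD2_c48 LD3_c58)) :=
  Lgr Lrot101 (Lpr_af (f801870 IH) (Lpr_ff (f475738 IH) (Lpr_af (f803182 IH) (Lpn (LP (LK LD1_c23 LD2_c48 LD3_c58))))))
theorem f476073 : Led Lsl_af (LP (LK LD1_c14 LD2_c41 LD3_c26)) = (LP (LK LD1_c13 LD2_c3 LD3_c39)) :=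
  Lgr Lrot117 (Lpe (K29.f473524 IH) (Lpr_at (K32.f476063 IH) (Lpr_dt (K32.f472947 IH) (Lpn (LP (LK LD1_c13 LD2_c3 LD3_c39))))))
theorem f476124 : Led Lsl_at (LP (LK LD1_c7 LD2_c47 LD3_c8)) = (LP (LK LD1_c6 LD2_c52 LD3_c2)) :=
  Lgr Lrot107 (Lpe (K29.f473512 IH) (Lpr_af (f476073 IH) (Lpe (K28.f18372 IH) (Lpn (LP (LK LD1_c6 LD2_c52 LD3_c2))))))
theorem f534885 : Led Lsl_at (LP (LK LD1_c23 LD2_c46 LD3_c30)) = (LP (LK LD1_c14 LD2_c41 LD3_c25)) :=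
  Lgr Lrot67 (Lpr_bf (K62.f534882 IH) (Lpe (K43.f473844 IH) (Lpe (K41.f472972 IH) (Lpe (f476124 IH) (Lpe (K62.f473514 IH) (Lpn (LP (LK LD1_c14 LD2_c41 LD3_c25))))))))
theorem f803188 : Led Lsl_cf (LP (LK LD1_c23 LD2_c46 LD3_c30)) = (LP (LK LD1_c23 LD2_c48 LD3_c58)) :=
  Lgr Lrot1 (Lpr_at (f534885 IH) (Lpr_ct (K62.f473515 IH) (Lpr_at (f803180 IH) (Lpn (LP (LK LD1_c23 LD2_c48 LD3_c58))))))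
theorem f803261 : Led Lsl_cf (LP (LK LD1_c27 LD2_c6 LD3_c48)) = (LP (LK LD1_c22 LD2_c13 LD3_c48)) :=
  Lgr Lrot108 (Lpr_ft (f803257 IH) (Lpe (f803188 IH) (Lpr_ft (K62.f534894 IH) (Lpn (LP (LK LD1_c22 LD2_c13 LD3_c48))))))
theorem f578038 : Led Lsl_gf (LP (LK LD1_c22 LD2_c12 LD3_c60)) = (LP (LK LD1_c22 LD2_c23 LD3_c54)) :=
  Lgr Lrot47 (Lpr_gt (K43.f578035 IH) (Lpe (K62.f473830 IH) (Lpr_ff (K62.f473831 IH) (Lpn (LP (LK LD1_c22 LD2_c23 LD3_c54))))))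
theorem f89651 : Led Lsl_gt (LP (LK LD1_c13 LD2_c17 LD3_c26)) = (LP (LK LD1_c22 LD2_c33 LD3_c16)) :=
  Lre_g IH (LK LD1_c13 LD2_c17 LD3_c26) (LK LD1_c22 LD2_c33 LD3_c16) Lrfl Lrfl
theorem f460743 : Led Lsl_ct (LP (LK LD1_c22 LD2_c33 LD3_c16)) = (LP (LK LD1_c30 LD2_c34 LD3_c24)) :=
  Lre_c IH (LK LD1_c22 LD2_c33 LD3_c16) (LK LD1_c30 LD2_c34 LD3_c24) Lrfl Lrfl
theorem f578368 : Led Lsl_gf (LP (LK LD1_c30 LD2_c21 LD3_c23)) = (LP (LK LD1_c30 LD2_c34 LD3_c24)) :=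
  Lgr Lrot104 (Lpr_ct (K61.f513502 IH) (Lpe (K41.f91086 IH) (Lpe (K46.f488226 IH) (Lpr_gf (K43.f578366 IH) (Lpr_cf (K43.f543783 IH) (Lpe (K24.f17823 IH) (Lpe (K41.f17893 IH) (Lpr_gt (f89651 IH) (Lpr_ct (f460743 IH) (Lpn (LP (LK LD1_c30 LD2_c34 LD3_c24))))))))))))
theorem f606761 : Led Lsl_gt (LP (LK LD1_c30 LD2_c21 LD3_c11)) = (LP (LK LD1_c30 LD2_c34 LD3_c24)) :=
  Lgr Lrot5 (Lpe (f578090 IH) (Lpr_at (f578052 IH) (Lpr_gf (f578368 IH) (Lpn (LP (LK LD1_c30 LD2_c34 LD3_c24))))))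
theorem f492942 : Led Lsl_bt (LP (LK LD1_c22 LD2_c33 LD3_c16)) = (LP (LK LD1_c30 LD2_c34 LD3_c23)) :=
  Lre_b IH (LK LD1_c22 LD2_c33 LD3_c16) (LK LD1_c30 LD2_c34 LD3_c23) Lrfl Lrfl
theorem f803281 : Led Lsl_gf (LP (LK LD1_c23 LD2_c48 LD3_c53)) = (LP (LK LD1_c30 LD2_c34 LD3_c23)) :=
  Lgr Lrot124 (Lpe (f157427 IH) (Lpr_ct (f65907 IH) (Lpr_gt (f157424 IH) (Lpr_cf (f803261 IH) (Lpe (K62.f475691 IH) (Lpe (f578038 IH) (Lpr_ct (f116600 IH) (Lpr_gt (f606761 IH) (Lpe (f460743 IH) (Lpr_bt (f492942 IH) (Lpn (LP (LK LD1_c30 LD2_c34 LD3_c23)))))))))))))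
theorem f818196 : Led Lsl_ft (LP (LK LD1_c30 LD2_c34 LD3_c23)) = (LP (LK LD1_c23 LD2_c48 LD3_c52)) :=
  Lgr Lrot2 (Lpe (f803281 IH) (Lpr_gt (f801872 IH) (Lpr_af (f818190 IH) (Lpn (LP (LK LD1_c23 LD2_c48 LD3_c52))))))
theorem f818202 : Led Lsl_ff (LP (LK LD1_c30 LD2_c34 LD3_c23)) = (LP (LK LD1_c23 LD2_c48 LD3_c52)) :=
  Lgr Lrot3 (Lpr_ft (f818196 IH) (Lpn (LP (LK LD1_c23 LD2_c48 LD3_c52))))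
theorem f151509 : Led Lsl_gt (LP (LK LD1_c14 LD2_c13 LD3_c19)) = (LP (LK LD1_c23 LD2_c48 LD3_c51)) :=
  Lre_g IH (LK LD1_c14 LD2_c13 LD3_c19) (LK LD1_c23 LD2_c48 LD3_c51) Lrfl Lrfl
theorem f818208 : Led Lsl_at (LP (LK LD1_c30 LD2_c34 LD3_c23)) = (LP (LK LD1_c23 LD2_c48 LD3_c51)) :=
  Lgr Lrot26 (Lpr_ff (f818202 IH) (Lpr_gt (f156672 IH) (Lpr_gt (f151509 IH) (Lpn (LP (LK LD1_c23 LD2_c48 LD3_c51))))))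
theorem f818212 : Led Lsl_ff (LP (LK LD1_c31 LD2_c12 LD3_c31)) = (LP (LK LD1_c23 LD2_c48 LD3_c51)) :=
  Lgr Lrot30 (Lpr_at (f818188 IH) (Lpe (f818202 IH) (Lpr_at (f818208 IH) (Lpn (LP (LK LD1_c23 LD2_c48 LD3_c51))))))
theorem f818218 : Led Lsl_ft (LP (LK LD1_c31 LD2_c12 LD3_c31)) = (LP (LK LD1_c23 LD2_c48 LD3_c51)) :=
  Lgr Lrot48 (Lpr_ff (f818212 IH) (Lpn (LP (LK LD1_c23 LD2_c48 LD3_c51))))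
theorem f803215 : Led Lsl_bf (LP (LK LD1_c24 LD2_c0 LD3_c61)) = (LP (LK LD1_c23 LD2_c48 LD3_c52)) :=
  Lgr Lrot24 (Lpr_bt (f803213 IH) (Lpn (LP (LK LD1_c23 LD2_c48 LD3_c52))))
theorem f15841 : Led Lsl_ct (LP (LK LD1_c22 LD2_c12 LD3_c34)) = (LP (LK LD1_c30 LD2_c20 LD3_c49)) :=
  Lre_c IH (LK LD1_c22 LD2_c12 LD3_c34) (LK LD1_c30 LD2_c20 LD3_c49) Lrfl Lrfl
theorem f18912 : Led Lsl_ct (LP (LK LD1_c22 LD2_c29 LD3_c51)) = (LP (LK LD1_c13 LD2_c14 LD3_c54)) :=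
  Lre_c IH (LK LD1_c22 LD2_c29 LD3_c51) (LK LD1_c13 LD2_c14 LD3_c54) Lrfl Lrfl
theorem f19018 : Led Lsl_af (LP (LK LD1_c22 LD2_c29 LD3_c51)) = (LP (LK LD1_c22 LD2_c12 LD3_c33)) :=
  Lgr Lrot68 (Lpr_ct (f18912 IH) (Lpr_at (K37.f19007 IH) (Lpr_ct (f15867 IH) (Lpn (LP (LK LD1_c22 LD2_c12 LD3_c33))))))
theorem f18919 : Led Lsl_gt (LP (LK LD1_c30 LD2_c32 LD3_c17)) = (LP (LK LD1_c22 LD2_c29 LD3_c51)) :=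
  Lre_g IH (LK LD1_c30 LD2_c32 LD3_c17) (LK LD1_c22 LD2_c29 LD3_c51) Lrfl Lrfl
theorem f19028 : Led Lsl_ft (LP (LK LD1_c30 LD2_c20 LD3_c49)) = (LP (LK LD1_c22 LD2_c12 LD3_c33)) :=
  Lre_f IH (LK LD1_c30 LD2_c20 LD3_c49) (LK LD1_c22 LD2_c12 LD3_c33) Lrfl Lrfl
theorem f19029 : Led Lsl_gf (LP (LK LD1_c30 LD2_c32 LD3_c17)) = (LP (LK LD1_c30 LD2_c20 LD3_c49)) :=
  Lgr Lrot47 (Lpr_gt (f18919 IH) (Lpr_af (f19018 IH) (Lpe (f19028 IH) (Lpn (LP (LK LD1_c30 LD2_c20 LD3_c49))))))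
theorem f803230 : Led Lsl_cf (LP (LK LD1_c30 LD2_c32 LD3_c17)) = (LP (LK LD1_c23 LD2_c48 LD3_c52)) :=
  Lgr Lrot58 (Lpr_gf (f19029 IH) (Lpe (f15841 IH) (Lpr_bt (K63.f18377 IH) (Lpe (K28.f15829 IH) (Lpe (K41.f15830 IH) (Lpr_ct (K41.f18370 IH) (Lpe (K41.f19033 IH) (Lpe (K41.f472711 IH) (Lpe (K63.f419849 IH) (Lpr_bf (f803215 IH) (Lpn (LP (LK LD1_c23 LD2_c48 LD3_c52)))))))))))))
theorem f803232 : Led Lsl_ct (LP (LK LD1_c30 LD2_c32 LD3_c17)) = (LP (LK LD1_c23 LD2_c48 LD3_c52)) :=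
  Lgr Lrot59 (Lpr_cf (f803230 IH) (Lpn (LP (LK LD1_c23 LD2_c48 LD3_c52))))
theorem f803239 : Led Lsl_dt (LP (LK LD1_c22 LD2_c29 LD3_c50)) = (LP (LK LD1_c22 LD2_c26 LD3_c45)) :=
  Lgr Lrot6 (Lpr_gt (K63.f19059 IH) (Lpr_ct (f15841 IH) (Lpe (f19029 IH) (Lpr_ct (f803232 IH) (Lpe (f802399 IH) (Lpe (f162348 IH) (Lpr_gf (K63.f516610 IH) (Lpe (K63.f473191 IH) (Lpe (f458010 IH) (Lpn (LP (LK LD1_c22 LD2_c26 LD3_c45))))))))))))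
theorem f18909 : Led Lsl_dt (LP (LK LD1_c6 LD2_c58 LD3_c43)) = (LP (LK LD1_c13 LD2_c14 LD3_c54)) :=
  Lre_d IH (LK LD1_c6 LD2_c58 LD3_c43) (LK LD1_c13 LD2_c14 LD3_c54) Lrfl Lrfl
theorem f804667 : Led Lsl_df (LP (LK LD1_c24 LD2_c1 LD3_c45)) = (LP (LK LD1_c23 LD2_c48 LD3_c51)) :=
  Lgr Lrot174 (Lpr_ct (f804663 IH) (Lpe (f803239 IH) (Lpe (K63.f19058 IH) (Lpe (f18909 IH) (Lpe (K62.f18920 IH) (Lpr_ct (K62.f802267 IH) (Lpr_gt (K62.f65904 IH) (Lpr_dt (f151508 IH) (Lpr_gt (f151509 IH) (Lpn (LP (LK LD1_c23 LD2_c48 LD3_c51))))))))))))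
theorem f818222 : Led Lsl_ff (LP (LK LD1_c23 LD2_c45 LD3_c36)) = (LP (LK LD1_c24 LD2_c1 LD3_c45)) :=
  Lgr Lrot19 (Lpr_dt (f428963 IH) (Lpr_ft (f818218 IH) (Lpe (f804667 IH) (Lpn (LP (LK LD1_c24 LD2_c1 LD3_c45))))))
theorem f428944 : Led Lsl_ct (LP (LK LD1_c23 LD2_c45 LD3_c36)) = (LP (LK LD1_c14 LD2_c10 LD3_c23)) :=
  Lre_c IH (LK LD1_c23 LD2_c45 LD3_c36) (LK LD1_c14 LD2_c10 LD3_c23) Lrfl Lrfl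
theorem f818228 : Led Lsl_ft (LP (LK LD1_c14 LD2_c10 LD3_c23)) = (LP (LK LD1_c22 LD2_c26 LD3_c45)) :=
  Lgr Lrot4 (Lpe (f428944 IH) (Lpr_ff (f818222 IH) (Lpr_cf (f804665 IH) (Lpn (LP (LK LD1_c22 LD2_c26 LD3_c45))))))
theorem f818232 : Led Lsl_ff (LP (LK LD1_c14 LD2_c10 LD3_c23)) = (LP (LK LD1_c22 LD2_c26 LD3_c45)) :=
  Lgr Lrot3 (Lpr_ft (f818228 IH) (Lpn (LP (LK LD1_c22 LD2_c26 LD3_c45))))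
theorem f818234 : Led Lsl_ft (LP (LK LD1_c22 LD2_c12 LD3_c32)) = (LP (LK LD1_c22 LD2_c29 LD3_c50)) :=
  Lgr Lrot54 (Lpe (K37.f156634 IH) (Lpr_ff (f818232 IH) (Lpe (f803239 IH) (Lpn (LP (LK LD1_c22 LD2_c29 LD3_c50))))))
theorem f18640 : Led Lsl_gt (LP (LK LD1_c13 LD2_c2 LD3_c51)) = (LP (LK LD1_c22 LD2_c12 LD3_c31)) :=
  Lre_g IH (LK LD1_c13 LD2_c2 LD3_c51) (LK LD1_c22 LD2_c12 LD3_c31) Lrfl Lrfl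
theorem f818238 : Led Lsl_af (LP (LK LD1_c22 LD2_c12 LD3_c31)) = (LP (LK LD1_c22 LD2_c29 LD3_c50)) :=
  Lgr Lrot31 (Lpe (f18640 IH) (Lpe (K37.f15872 IH) (Lpr_ft (f818234 IH) (Lpn (LP (LK LD1_c22 LD2_c29 LD3_c50))))))
theorem f818240 : Led Lsl_at (LP (LK LD1_c22 LD2_c12 LD3_c31)) = (LP (LK LD1_c22 LD2_c29 LD3_c50)) :=
  Lgr Lrot100 (Lpr_af (f818238 IH) (Lpn (LP (LK LD1_c22 LD2_c29 LD3_c50))))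
theorem f15844 : Led Lsl_ft (LP (LK LD1_c22 LD2_c12 LD3_c34)) = (LP (LK LD1_c13 LD2_c2 LD3_c51)) :=
  Lre_f IH (LK LD1_c22 LD2_c12 LD3_c34) (LK LD1_c13 LD2_c2 LD3_c51) Lrfl Lrfl
theorem f18341 : Led Lsl_bt (LP (LK LD1_c13 LD2_c14 LD3_c54)) = (LP (LK LD1_c6 LD2_c58 LD3_c46)) :=
  Lre_b IH (LK LD1_c13 LD2_c14 LD3_c54) (LK LD1_c6 LD2_c58 LD3_c46) Lrfl Lrfl
theorem f18343 : Led Lsl_bt (LP (LK LD1_c6 LD2_c51 LD3_c36)) = (LP (LK LD1_c13 LD2_c2 LD3_c51)) :=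
  Lre_b IH (LK LD1_c6 LD2_c51 LD3_c36) (LK LD1_c13 LD2_c2 LD3_c51) Lrfl Lrfl
theorem f18344 : Led Lsl_af (LP (LK LD1_c13 LD2_c14 LD3_c54)) = (LP (LK LD1_c13 LD2_c2 LD3_c51)) :=
  Lgr Lrot36 (Lpr_bt (f18341 IH) (Lpr_at (K56.f18340 IH) (Lpr_bt (K2.f18328 IH) (Lpr_at (K2.f18342 IH) (Lpr_bt (f18343 IH) (Lpn (LP (LK LD1_c13 LD2_c2 LD3_c51))))))))
theorem f162344 : Led Lsl_gf (LP (LK LD1_c13 LD2_c14 LD3_c54)) = (LP (LK LD1_c22 LD2_c19 LD3_c7)) :=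
  Lgr Lrot76 (Lpr_af (f18344 IH) (Lpe (f15844 IH) (Lpr_gt (K8.f162342 IH) (Lpn (LP (LK LD1_c22 LD2_c19 LD3_c7))))))
theorem f818248 : Led Lsl_ff (LP (LK LD1_c22 LD2_c12 LD3_c31)) = (LP (LK LD1_c22 LD2_c19 LD3_c7)) :=
  Lgr Lrot52 (Lpr_at (f818240 IH) (Lpe (K63.f19058 IH) (Lpr_gf (f162344 IH) (Lpn (LP (LK LD1_c22 LD2_c19 LD3_c7))))))
theorem f818254 : Led Lsl_ft (LP (LK LD1_c22 LD2_c12 LD3_c31)) = (LP (LK LD1_c22 LD2_c19 LD3_c7)) :=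
  Lgr Lrot48 (Lpr_ff (f818248 IH) (Lpn (LP (LK LD1_c22 LD2_c19 LD3_c7))))
theorem f92003 : Led Lsl_bt (LP (LK LD1_c22 LD2_c26 LD3_c43)) = (LP (LK LD1_c13 LD2_c12 LD3_c48)) :=
  Lre_b IH (LK LD1_c22 LD2_c26 LD3_c43) (LK LD1_c13 LD2_c12 LD3_c48) Lrfl Lrfl
theorem f589996 : Led Lsl_bt (LP (LK LD1_c29 LD2_c55 LD3_c0)) = (LP (LK LD1_c22 LD2_c12 LD3_c31)) :=
  Lgr Lrot92 (Lpr_ct (K62.f589929 IH) (Lpe (K62.f543752 IH) (Lpr_cf (K43.f543728 IH) (Lpr_bt (f92003 IH) (Lpr_gt (K28.f91990 IH) (Lpr_ct (K29.f91988 IH) (Lpe (K29.f464280 IH) (Lpe (K37.f90902 IH) (Lpr_bt (f18343 IH) (Lpr_gt (f18640 IH) (Lpn (LP (LK LD1_c22 LD2_c12 LD3_c31)))))))))))))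
theorem f616142 : Led Lsl_bt (LP (LK LD1_c22 LD2_c19 LD3_c7)) = (LP (LK LD1_c30 LD2_c25 LD3_c18)) :=
  Lre_b IH (LK LD1_c22 LD2_c19 LD3_c7) (LK LD1_c30 LD2_c25 LD3_c18) Lrfl Lrfl
theorem f818258 : Led Lsl_ff (LP (LK LD1_c29 LD2_c55 LD3_c0)) = (LP (LK LD1_c30 LD2_c25 LD3_c18)) :=
  Lgr Lrot25 (Lpr_bt (f589996 IH) (Lpr_ft (f818254 IH) (Lpr_bt (f616142 IH) (Lpn (LP (LK LD1_c30 LD2_c25 LD3_c18))))))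
theorem f465589 : Led Lsl_et (LP (LK LD1_c22 LD2_c19 LD3_c2)) = (LP (LK LD1_c13 LD2_c7 LD3_c14)) :=
  Lre_e IH (LK LD1_c22 LD2_c19 LD3_c2) (LK LD1_c13 LD2_c7 LD3_c14) Lrfl Lrfl
theorem f548914 : Led Lsl_dt (LP (LK LD1_c22 LD2_c19 LD3_c2)) = (LP (LK LD1_c30 LD2_c25 LD3_c18)) :=
  Lre_d IH (LK LD1_c22 LD2_c19 LD3_c2) (LK LD1_c30 LD2_c25 LD3_c18) Lrfl Lrfl
theorem f616140 : Led Lsl_gf (LP (LK LD1_c23 LD2_c52 LD3_c21)) = (LP (LK LD1_c30 LD2_c25 LD3_c18)) :=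
  Lgr Lrot145 (Lpe (K28.f116612 IH) (Lpr_et (K7.f116574 IH) (Lpr_gt (K32.f147310 IH) (Lpr_dt (K28.f109550 IH) (Lpr_gt (K6.f130400 IH) (Lpr_df (K8.f109432 IH) (Lpr_et (K36.f109438 IH) (Lpr_gt (f616131 IH) (Lpe (f465589 IH) (Lpr_dt (f548914 IH) (Lpn (LP (LK LD1_c30 LD2_c25 LD3_c18)))))))))))))
theorem f116617 : Led Lsl_gt (LP (LK LD1_c23 LD2_c52 LD3_c21)) = (LP (LK LD1_c31 LD2_c15 LD3_c40)) :=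
  Lre_g IH (LK LD1_c23 LD2_c52 LD3_c21) (LK LD1_c31 LD2_c15 LD3_c40) Lrfl Lrfl
theorem f818262 : Led Lsl_at (LP (LK LD1_c29 LD2_c55 LD3_c0)) = (LP (LK LD1_c31 LD2_c15 LD3_c40)) :=
  Lgr Lrot26 (Lpr_ff (f818258 IH) (Lpe (f616140 IH) (Lpr_gt (f116617 IH) (Lpn (LP (LK LD1_c31 LD2_c15 LD3_c40))))))
theorem f578467 : Led Lsl_dt (LP (LK LD1_c21 LD2_c13 LD3_c58)) = (LP (LK LD1_c29 LD2_c55 LD3_c0)) :=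
  Lre_d IH (LK LD1_c21 LD2_c13 LD3_c58) (LK LD1_c29 LD2_c55 LD3_c0) Lrfl Lrfl
theorem f202314 : Led Lsl_dt (LP (LK LD1_c12 LD2_c7 LD3_c29)) = (LP (LK LD1_c21 LD2_c13 LD3_c43)) :=
  Lre_d IH (LK LD1_c12 LD2_c7 LD3_c29) (LK LD1_c21 LD2_c13 LD3_c43) Lrfl Lrfl
theorem f543802 : Led Lsl_ct (LP (LK LD1_c29 LD2_c54 LD3_c48)) = (LP (LK LD1_c21 LD2_c13 LD3_c43)) :=
  Lre_c IH (LK LD1_c29 LD2_c54 LD3_c48) (LK LD1_c21 LD2_c13 LD3_c43) Lrfl Lrfl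
theorem f575375 : Led Lsl_dt (LP (LK LD1_c31 LD2_c15 LD3_c40)) = (LP (LK LD1_c29 LD2_c54 LD3_c48)) :=
  Lgr Lrot105 (Lpe (f116617 IH) (Lpe (K28.f116612 IH) (Lpr_gf (K43.f575373 IH) (Lpe (K43.f476561 IH) (Lpr_gt (K43.f18050 IH) (Lpe (K37.f543725 IH) (Lpr_gt (K43.f202310 IH) (Lpr_dt (f202314 IH) (Lpe (f543802 IH) (Lpn (LP (LK LD1_c29 LD2_c54 LD3_c48))))))))))))
theorem f818268 : Led Lsl_af (LP (LK LD1_c21 LD2_c13 LD3_c58)) = (LP (LK LD1_c29 LD2_c54 LD3_c48)) :=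
  Lgr Lrot117 (Lpr_dt (f578467 IH) (Lpr_at (f818262 IH) (Lpr_dt (f575375 IH) (Lpn (LP (LK LD1_c29 LD2_c54 LD3_c48))))))
theorem f818260 : Led Lsl_ft (LP (LK LD1_c21 LD2_c13 LD3_c58)) = (LP (LK LD1_c22 LD2_c19 LD3_c2)) :=
  Lgr Lrot54 (Lpe (K62.f578201 IH) (Lpr_ff (f818258 IH) (Lpe (f548914 IH) (Lpn (LP (LK LD1_c22 LD2_c19 LD3_c2))))))
theorem f818028 : Led Lsl_af (LP (LK LD1_c21 LD2_c14 LD3_c3)) = (LP (LK LD1_c22 LD2_c19 LD3_c2)) :=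
  Lgr Lrot50 (Lpe (K61.f590131 IH) (Lpr_at (f818024 IH) (Lpr_et (K63.f465585 IH) (Lpn (LP (LK LD1_c22 LD2_c19 LD3_c2))))))
theorem f818274 : Led Lsl_ft (LP (LK LD1_c21 LD2_c14 LD3_c3)) = (LP (LK LD1_c29 LD2_c54 LD3_c48)) :=
  Lgr Lrot101 (Lpr_af (f818028 IH) (Lpe (f818260 IH) (Lpr_af (f818268 IH) (Lpn (LP (LK LD1_c29 LD2_c54 LD3_c48))))))
theorem f818282 : Led Lsl_ff (LP (LK LD1_c21 LD2_c14 LD3_c3)) = (LP (LK LD1_c29 LD2_c54 LD3_c48)) :=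
  Lgr Lrot3 (Lpr_ft (f818274 IH) (Lpn (LP (LK LD1_c29 LD2_c54 LD3_c48))))
theorem f590007 : Led Lsl_dt (LP (LK LD1_c21 LD2_c14 LD3_c3)) = (LP (LK LD1_c29 LD2_c55 LD3_c6)) :=
  Lre_d IH (LK LD1_c21 LD2_c14 LD3_c3) (LK LD1_c29 LD2_c55 LD3_c6) Lrfl Lrfl
theorem f818288 : Led Lsl_ft (LP (LK LD1_c29 LD2_c55 LD3_c6)) = (LP (LK LD1_c31 LD2_c15 LD3_c40)) :=
  Lgr Lrot54 (Lpe (f590007 IH) (Lpr_ff (f818282 IH) (Lpe (f575375 IH) (Lpn (LP (LK LD1_c31 LD2_c15 LD3_c40))))))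
theorem f818264 : Led Lsl_af (LP (LK LD1_c29 LD2_c55 LD3_c0)) = (LP (LK LD1_c31 LD2_c15 LD3_c40)) :=
  Lgr Lrot0 (Lpr_at (f818262 IH) (Lpn (LP (LK LD1_c31 LD2_c15 LD3_c40))))
theorem f589998 : Led Lsl_bf (LP (LK LD1_c29 LD2_c55 LD3_c0)) = (LP (LK LD1_c22 LD2_c12 LD3_c31)) :=
  Lgr Lrot24 (Lpr_bt (f589996 IH) (Lpn (LP (LK LD1_c22 LD2_c12 LD3_c31))))
theorem f162351 : Led Lsl_bt (LP (LK LD1_c30 LD2_c25 LD3_c18)) = (LP (LK LD1_c22 LD2_c19 LD3_c7)) :=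
  Lre_b IH (LK LD1_c30 LD2_c25 LD3_c18) (LK LD1_c22 LD2_c19 LD3_c7) Lrfl Lrfl
theorem f818252 : Led Lsl_ft (LP (LK LD1_c29 LD2_c55 LD3_c0)) = (LP (LK LD1_c30 LD2_c25 LD3_c18)) :=
  Lgr Lrot75 (Lpr_bf (f589998 IH) (Lpr_ff (f818248 IH) (Lpe (f162351 IH) (Lpn (LP (LK LD1_c30 LD2_c25 LD3_c18))))))
theorem f818290 : Led Lsl_af (LP (LK LD1_c29 LD2_c55 LD3_c6)) = (LP (LK LD1_c30 LD2_c25 LD3_c18)) :=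
  Lgr Lrot45 (Lpr_ft (f818288 IH) (Lpe (f818264 IH) (Lpr_ft (f818252 IH) (Lpn (LP (LK LD1_c30 LD2_c25 LD3_c18))))))
theorem f818300 : Led Lsl_at (LP (LK LD1_c21 LD2_c14 LD3_c3)) = (LP (LK LD1_c22 LD2_c19 LD3_c2)) :=
  Lgr Lrot51 (Lpe (K61.f543770 IH) (Lpr_af (f818290 IH) (Lpe (f548914 IH) (Lpn (LP (LK LD1_c22 LD2_c19 LD3_c2))))))
theorem f818270 : Led Lsl_at (LP (LK LD1_c21 LD2_c13 LD3_c58)) = (LP (LK LD1_c29 LD2_c54 LD3_c48)) :=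
  Lgr Lrot100 (Lpr_af (f818268 IH) (Lpn (LP (LK LD1_c29 LD2_c54 LD3_c48))))
theorem f818306 : Led Lsl_ff (LP (LK LD1_c21 LD2_c13 LD3_c58)) = (LP (LK LD1_c22 LD2_c19 LD3_c2)) :=
  Lgr Lrot30 (Lpr_at (f818270 IH) (Lpe (f818282 IH) (Lpr_at (f818300 IH) (Lpn (LP (LK LD1_c22 LD2_c19 LD3_c2))))))
theorem f548908 : Led Lsl_et (LP (LK LD1_c13 LD2_c14 LD3_c3)) = (LP (LK LD1_c21 LD2_c13 LD3_c44)) :=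
  Lgr Lrot87 (Lpr_ef (K41.f548902 IH) (Lpn (LP (LK LD1_c21 LD2_c13 LD3_c44))))
theorem f548912 : Led Lsl_cf (LP (LK LD1_c22 LD2_c19 LD3_c2)) = (LP (LK LD1_c21 LD2_c13 LD3_c44)) :=
  Lgr Lrot39 (Lpr_et (f465589 IH) (Lpe (K28.f465582 IH) (Lpr_et (f548908 IH) (Lpn (LP (LK LD1_c21 LD2_c13 LD3_c44))))))
theorem f818308 : Led Lsl_ft (LP (LK LD1_c12 LD2_c7 LD3_c40)) = (LP (LK LD1_c21 LD2_c13 LD3_c44)) :=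
  Lgr Lrot4 (Lpe (K62.f578200 IH) (Lpr_ff (f818306 IH) (Lpr_cf (f548912 IH) (Lpn (LP (LK LD1_c21 LD2_c13 LD3_c44))))))
def v17209 : LQ := Led Lsl_ft (LP (LK LD1_c6 LD2_c14 LD3_c42))
theorem f756693 : Led Lsl_ft (LP (LK LD1_c6 LD2_c14 LD3_c42)) = v17209 :=
  Lrfl
theorem f756695 : Led Lsl_ff (LP (LK LD1_c6 LD2_c14 LD3_c42)) = v17209 :=
  Lgr Lrot3 (Lpr_ft (f756693 IH) (Lpn v17209))
theorem f818322 : v17209 = (LP (LK LD1_c12 LD2_c7 LD3_c30)) :=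
  (Llr Lrot19 (Lpe (f756695 IH) (Lpr_dt (K47.f75773 IH) (Lpr_ft (f818308 IH) (Lpr_dt (K41.f543596 IH) (Lpn (LP (LK LD1_c12 LD2_c7 LD3_c30)))))))).symm
def v17208 : LQ := Led Lsl_at (LP (LK LD1_c6 LD2_c14 LD3_c42))
theorem f756686 : Led Lsl_at (LP (LK LD1_c6 LD2_c14 LD3_c42)) = v17208 :=
  Lrfl
theorem f818327 : v17208 = (LP (LK LD1_c12 LD2_c7 LD3_c29)) :=
  (Llr Lrot26 (Lpe (f756686 IH) (Lpr_ff (f756695 IH) (Lpqs (f818322 IH) (Lpr_gt (K41.f420518 IH) (Lpr_gt (K43.f202310 IH) (Lpn (LP (LK LD1_c12 LD2_c7 LD3_c29))))))))).symm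
theorem f756687 : Led Lsl_af (LP (LK LD1_c6 LD2_c14 LD3_c42)) = v17208 :=
  Lgr Lrot0 (Lpr_at (f756686 IH) (Lpn v17208))
theorem f756689 : Led Lsl_ft (LP (LK LD1_c6 LD2_c14 LD3_c43)) = v17208 :=
  Lgr Lrot2 (Lpr_gt (K55.f75670 IH) (Lpr_gt (K37.f75673 IH) (Lpr_af (f756687 IH) (Lpn v17208))))
theorem f487368 : Led Lsl_ct (LP (LK LD1_c22 LD2_c53 LD3_c52)) = (LP (LK LD1_c30 LD2_c47 LD3_c7)) :=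
  Lre_c IH (LK LD1_c22 LD2_c53 LD3_c52) (LK LD1_c30 LD2_c47 LD3_c7) Lrfl Lrfl
theorem f160601 : Led Lsl_et (LP (LK LD1_c3 LD2_c42 LD3_c13)) = (LP (LK LD1_c7 LD2_c25 LD3_c7)) :=
  Lre_e IH (LK LD1_c3 LD2_c42 LD3_c13) (LK LD1_c7 LD2_c25 LD3_c7) Lrfl Lrfl
theorem f568101 : Led Lsl_gf (LP (LK LD1_c22 LD2_c53 LD3_c52)) = (LP (LK LD1_c23 LD2_c3 LD3_c22)) :=
  Lgr Lrot134 (Lpe (K47.f456586 IH) (Lpr_et (K33.f456588 IH) (Lpe (K40.f560525 IH) (Lpe (f160601 IH) (Lpr_dt (K37.f443875 IH) (Lpr_gt (K46.f568088 IH) (Lpe (K46.f208945 IH) (Lpr_et (K61.f209131 IH) (Lpe (K37.f489388 IH) (Lpr_dt (K40.f116261 IH) (Lpn (LP (LK LD1_c23 LD2_c3 LD3_c22)))))))))))))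
theorem f533733 : Led Lsl_ct (LP (LK LD1_c30 LD2_c41 LD3_c39)) = (LP (LK LD1_c22 LD2_c44 LD3_c26)) :=
  Lre_c IH (LK LD1_c30 LD2_c41 LD3_c39) (LK LD1_c22 LD2_c44 LD3_c26) Lrfl Lrfl
theorem f568103 : Led Lsl_gt (LP (LK LD1_c30 LD2_c47 LD3_c7)) = (LP (LK LD1_c30 LD2_c41 LD3_c39)) :=
  Lgr Lrot150 (Lpe (f487368 IH) (Lpr_gf (f568101 IH) (Lpe (K40.f116261 IH) (Lpr_gt (K37.f489386 IH) (Lpe (K29.f439559 IH) (Lpe (K37.f543607 IH) (Lpr_ct (K55.f543610 IH) (Lpe (K55.f470269 IH) (Lpe (f533733 IH) (Lpn (LP (LK LD1_c30 LD2_c41 LD3_c39))))))))))))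
theorem f469247 : Led Lsl_gt (LP (LK LD1_c30 LD2_c41 LD3_c47)) = (LP (LK LD1_c22 LD2_c44 LD3_c33)) :=
  Lre_g IH (LK LD1_c30 LD2_c41 LD3_c47) (LK LD1_c22 LD2_c44 LD3_c33) Lrfl Lrfl
theorem f608294 : Led Lsl_dt (LP (LK LD1_c30 LD2_c41 LD3_c39)) = (LP (LK LD1_c30 LD2_c41 LD3_c47)) :=
  Lgr Lrot57 (Lpe (f568103 IH) (Lpe (f487368 IH) (Lpr_gt (K47.f608292 IH) (Lpr_dt (K47.f466187 IH) (Lpr_gt (K37.f466181 IH) (Lpr_dt (K40.f208948 IH) (Lpr_cf (K43.f576408 IH) (Lpe (K43.f469236 IH) (Lpe (f469247 IH) (Lpn (LP (LK LD1_c30 LD2_c41 LD3_c47))))))))))))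
theorem f488692 : Led Lsl_ct (LP (LK LD1_c22 LD2_c44 LD3_c26)) = (LP (LK LD1_c30 LD2_c41 LD3_c39)) :=
  Lre_c IH (LK LD1_c22 LD2_c44 LD3_c26) (LK LD1_c30 LD2_c41 LD3_c39) Lrfl Lrfl
theorem f459328 : Led Lsl_ct (LP (LK LD1_c22 LD2_c44 LD3_c51)) = (LP (LK LD1_c13 LD2_c25 LD3_c40)) :=
  Lre_c IH (LK LD1_c22 LD2_c44 LD3_c51) (LK LD1_c13 LD2_c25 LD3_c40) Lrfl Lrfl
theorem f607839 : Led Lsl_gt (LP (LK LD1_c23 LD2_c38 LD3_c28)) = (LP (LK LD1_c22 LD2_c44 LD3_c51)) :=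
  Lgr Lrot65 (Lpe (f469299 IH) (Lpr_bt (f469297 IH) (Lpr_gf (K47.f607833 IH) (Lpe (K47.f479612 IH) (Lpr_ct (K29.f479616 IH) (Lpe (K29.f459168 IH) (Lpe (K29.f459051 IH) (Lpe (K29.f459250 IH) (Lpe (K33.f459256 IH) (Lpr_ct (K40.f459257 IH) (Lpn (LP (LK LD1_c22 LD2_c44 LD3_c51)))))))))))))
theorem f541988 : Led Lsl_gt (LP (LK LD1_c31 LD2_c5 LD3_c19)) = (LP (LK LD1_c23 LD2_c29 LD3_c48)) :=
  Lre_g IH (LK LD1_c31 LD2_c5 LD3_c19) (LK LD1_c23 LD2_c29 LD3_c48) Lrfl Lrfl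
theorem f576576 : Led Lsl_dt (LP (LK LD1_c23 LD2_c38 LD3_c28)) = (LP (LK LD1_c31 LD2_c5 LD3_c19)) :=
  Lgr Lrot57 (Lpr_gf (f576574 IH) (Lpe (f480507 IH) (Lpr_gt (K55.f533956 IH) (Lpr_dt (K40.f469271 IH) (Lpr_gt (K37.f469266 IH) (Lpr_dt (K36.f469253 IH) (Lpe (K33.f469156 IH) (Lpe (K43.f541967 IH) (Lpe (f541988 IH) (Lpn (LP (LK LD1_c31 LD2_c5 LD3_c19))))))))))))
theorem f576578 : Led Lsl_df (LP (LK LD1_c23 LD2_c38 LD3_c28)) = (LP (LK LD1_c31 LD2_c5 LD3_c19)) :=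
  Lgr Lrot38 (Lpr_dt (f576576 IH) (Lpn (LP (LK LD1_c31 LD2_c5 LD3_c19))))
theorem f541992 : Led Lsl_gt (LP (LK LD1_c13 LD2_c57 LD3_c52)) = (LP (LK LD1_c23 LD2_c29 LD3_c46)) :=
  Lre_g IH (LK LD1_c13 LD2_c57 LD3_c52) (LK LD1_c23 LD2_c29 LD3_c46) Lrfl Lrfl
theorem f608307 : Led Lsl_ct (LP (LK LD1_c23 LD2_c29 LD3_c46)) = (LP (LK LD1_c30 LD2_c41 LD3_c47)) :=
  Lgr Lrot151 (Lpe (f541992 IH) (Lpe (K36.f541963 IH) (Lpe (f541988 IH) (Lpe (f576578 IH) (Lpr_gt (f607839 IH) (Lpr_ct (f459328 IH) (Lpe (K55.f576570 IH) (Lpr_ct (f488692 IH) (Lpr_dt (f608294 IH) (Lpn (LP (LK LD1_c30 LD2_c41 LD3_c47))))))))))))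
theorem f576431 : Led Lsl_ft (LP (LK LD1_c29 LD2_c55 LD3_c25)) = (LP (LK LD1_c21 LD2_c14 LD3_c36)) :=
  Lre_f IH (LK LD1_c29 LD2_c55 LD3_c25) (LK LD1_c21 LD2_c14 LD3_c36) Lrfl Lrfl
theorem f576432 : Led Lsl_cf (LP (LK LD1_c29 LD2_c55 LD3_c25)) = (LP (LK LD1_c22 LD2_c44 LD3_c33)) :=
  Lgr Lrot108 (Lpr_ft (f576431 IH) (Lpr_ct (K42.f559042 IH) (Lpr_ft (K43.f576425 IH) (Lpn (LP (LK LD1_c22 LD2_c44 LD3_c33))))))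
theorem f608311 : Led Lsl_ct (LP (LK LD1_c13 LD2_c57 LD3_c50)) = (LP (LK LD1_c17 LD2_c15 LD3_c31)) :=
  Lgr Lrot152 (Lpe (K55.f209773 IH) (Lpe (K36.f541980 IH) (Lpr_gt (f541992 IH) (Lpr_ct (f608307 IH) (Lpr_gt (f469247 IH) (Lpe (f576432 IH) (Lpe (K55.f560453 IH) (Lpr_cf (K55.f560489 IH) (Lpr_gf (K40.f554065 IH) (Lpn (LP (LK LD1_c17 LD2_c15 LD3_c31))))))))))))
theorem f608313 : Led Lsl_cf (LP (LK LD1_c13 LD2_c57 LD3_c50)) = (LP (LK LD1_c17 LD2_c15 LD3_c31)) :=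
  Lgr Lrot11 (Lpr_ct (f608311 IH) (Lpn (LP (LK LD1_c17 LD2_c15 LD3_c31))))
theorem f541996 : Led Lsl_cf (LP (LK LD1_c7 LD2_c23 LD3_c7)) = (LP (LK LD1_c6 LD2_c25 LD3_c0)) :=
  Lgr Lrot11 (Lpr_ct (K36.f541981 IH) (Lpn (LP (LK LD1_c6 LD2_c25 LD3_c0))))
theorem f81285 : Led Lsl_bt (LP (LK LD1_c4 LD2_c24 LD3_c5)) = (LP (LK LD1_c8 LD2_c45 LD3_c57)) :=
  Lre_b IH (LK LD1_c4 LD2_c24 LD3_c5) (LK LD1_c8 LD2_c45 LD3_c57) Lrfl Lrfl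
theorem f81289 : Led Lsl_cf (LP (LK LD1_c3 LD2_c10 LD3_c1)) = (LP (LK LD1_c4 LD2_c24 LD3_c5)) :=
  Lgr Lrot11 (Lpr_ct (K46.f81263 IH) (Lpn (LP (LK LD1_c4 LD2_c24 LD3_c5))))
theorem f75738 : Led Lsl_bt (LP (LK LD1_c3 LD2_c4 LD3_c23)) = (LP (LK LD1_c6 LD2_c14 LD3_c45)) :=
  Lre_b IH (LK LD1_c3 LD2_c4 LD3_c23) (LK LD1_c6 LD2_c14 LD3_c45) Lrfl Lrfl
theorem f608319 : Led Lsl_bf (LP (LK LD1_c12 LD2_c7 LD3_c29)) = (LP (LK LD1_c17 LD2_c15 LD3_c31)) :=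
  Lgr Lrot156 (Lpr_gt (K43.f75739 IH) (Lpe (f75738 IH) (Lpe (K11.f75682 IH) (Lpr_gt (K46.f420367 IH) (Lpr_cf (f81289 IH) (Lpr_bt (f81285 IH) (Lpe (K47.f559020 IH) (Lpe (f541996 IH) (Lpr_gt (K55.f209773 IH) (Lpr_cf (f608313 IH) (Lpn (LP (LK LD1_c17 LD2_c15 LD3_c31)))))))))))))
theorem f608321 : Led Lsl_bt (LP (LK LD1_c12 LD2_c7 LD3_c29)) = (LP (LK LD1_c17 LD2_c15 LD3_c31)) :=
  Lgr Lrot127 (Lpr_bf (f608319 IH) (Lpn (LP (LK LD1_c17 LD2_c15 LD3_c31))))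
theorem f818332 : Led Lsl_ff (LP (LK LD1_c12 LD2_c7 LD3_c42)) = (LP (LK LD1_c17 LD2_c15 LD3_c31)) :=
  Lgr Lrot25 (Lpr_bt (K55.f443102 IH) (Lpr_ft (f756689 IH) (Lpqs (f818327 IH) (Lpr_bt (f608321 IH) (Lpn (LP (LK LD1_c17 LD2_c15 LD3_c31)))))))
theorem f818347 : Led Lsl_at (LP (LK LD1_c12 LD2_c7 LD3_c42)) = (LP (LK LD1_c17 LD2_c15 LD3_c32)) :=
  Lgr Lrot26 (Lpr_ff (f818332 IH) (Lpe (K40.f554065 IH) (Lpr_gt (K40.f554071 IH) (Lpn (LP (LK LD1_c17 LD2_c15 LD3_c32))))))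
theorem f607627 : Led Lsl_dt (LP (LK LD1_c14 LD2_c7 LD3_c29)) = (LP (LK LD1_c14 LD2_c51 LD3_c1)) :=
  Lgr Lrot42 (Lpr_df (K61.f607595 IH) (Lpn (LP (LK LD1_c14 LD2_c51 LD3_c1))))
theorem f469432 : Led Lsl_ct (LP (LK LD1_c23 LD2_c38 LD3_c40)) = (LP (LK LD1_c14 LD2_c7 LD3_c29)) :=
  Lgr Lrot59 (Lpr_cf (K39.f469427 IH) (Lpn (LP (LK LD1_c14 LD2_c7 LD3_c29))))
theorem f469429 : Led Lsl_dt (LP (LK LD1_c31 LD2_c8 LD3_c53)) = (LP (LK LD1_c23 LD2_c38 LD3_c40)) :=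
  Lre_d IH (LK LD1_c31 LD2_c8 LD3_c53) (LK LD1_c23 LD2_c38 LD3_c40) Lrfl Lrfl
theorem f147133 : Led Lsl_ct (LP (LK LD1_c23 LD2_c30 LD3_c14)) = (LP (LK LD1_c31 LD2_c5 LD3_c40)) :=
  Lre_c IH (LK LD1_c23 LD2_c30 LD3_c14) (LK LD1_c31 LD2_c5 LD3_c40) Lrfl Lrfl
theorem f146985 : Led Lsl_bt (LP (LK LD1_c31 LD2_c5 LD3_c21)) = (LP (LK LD1_c23 LD2_c30 LD3_c14)) :=
  Lre_b IH (LK LD1_c31 LD2_c5 LD3_c21) (LK LD1_c23 LD2_c30 LD3_c14) Lrfl Lrfl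
theorem f576404 : Led Lsl_ct (LP (LK LD1_c23 LD2_c38 LD3_c23)) = (LP (LK LD1_c31 LD2_c5 LD3_c21)) :=
  Lgr Lrot83 (Lpe (K37.f469778 IH) (Lpe (K34.f469746 IH) (Lpr_bf (K43.f576401 IH) (Lpe (f147133 IH) (Lpe (f146985 IH) (Lpn (LP (LK LD1_c31 LD2_c5 LD3_c21))))))))
theorem f607089 : Led Lsl_gf (LP (LK LD1_c23 LD2_c38 LD3_c40)) = (LP (LK LD1_c31 LD2_c5 LD3_c21)) :=
  Lgr Lrot129 (Lpr_cf (K39.f469427 IH) (Lpr_bt (K39.f489631 IH) (Lpr_gt (K46.f123746 IH) (Lpe (K36.f147156 IH) (Lpr_ct (K39.f147158 IH) (Lpe (K46.f607048 IH) (Lpr_cf (K46.f607080 IH) (Lpr_bt (K47.f607082 IH) (Lpr_gt (K55.f469315 IH) (Lpr_ct (f576404 IH) (Lpn (LP (LK LD1_c31 LD2_c5 LD3_c21)))))))))))))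
theorem f469430 : Led Lsl_dt (LP (LK LD1_c23 LD2_c38 LD3_c40)) = (LP (LK LD1_c31 LD2_c8 LD3_c53)) :=
  Lre_d IH (LK LD1_c23 LD2_c38 LD3_c40) (LK LD1_c31 LD2_c8 LD3_c53) Lrfl Lrfl
theorem f116162 : Led Lsl_dt (LP (LK LD1_c23 LD2_c3 LD3_c34)) = (LP (LK LD1_c13 LD2_c38 LD3_c24)) :=
  Lre_d IH (LK LD1_c23 LD2_c3 LD3_c34) (LK LD1_c13 LD2_c38 LD3_c24) Lrfl Lrfl
theorem f607095 : Led Lsl_cf (LP (LK LD1_c31 LD2_c8 LD3_c53)) = (LP (LK LD1_c30 LD2_c52 LD3_c46)) :=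
  Lgr Lrot14 (Lpe (f469430 IH) (Lpr_gf (f607089 IH) (Lpr_df (K42.f542011 IH) (Lpe (K55.f576444 IH) (Lpr_ct (K55.f560332 IH) (Lpr_gt (K55.f462028 IH) (Lpr_dt (f116162 IH) (Lpr_gt (K55.f541903 IH) (Lpr_dt (f541904 IH) (Lpn (LP (LK LD1_c30 LD2_c52 LD3_c46))))))))))))
theorem f535068 : Led Lsl_dt (LP (LK LD1_c31 LD2_c8 LD3_c50)) = (LP (LK LD1_c23 LD2_c38 LD3_c39)) :=
  Lre_d IH (LK LD1_c31 LD2_c8 LD3_c50) (LK LD1_c23 LD2_c38 LD3_c39) Lrfl Lrfl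
theorem f607645 : Led Lsl_gt (LP (LK LD1_c30 LD2_c52 LD3_c47)) = (LP (LK LD1_c23 LD2_c29 LD3_c49)) :=
  Lgr Lrot150 (Lpr_cf (K55.f607641 IH) (Lpr_gf (K55.f576440 IH) (Lpr_df (K55.f576434 IH) (Lpe (f607089 IH) (Lpr_ct (f469432 IH) (Lpr_gt (K39.f116176 IH) (Lpr_ct (K36.f116165 IH) (Lpe (K36.f116258 IH) (Lpe (K39.f541965 IH) (Lpn (LP (LK LD1_c23 LD2_c29 LD3_c49))))))))))))
theorem f535064 : Led Lsl_dt (LP (LK LD1_c23 LD2_c38 LD3_c39)) = (LP (LK LD1_c31 LD2_c8 LD3_c50)) :=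
  Lre_d IH (LK LD1_c23 LD2_c38 LD3_c39) (LK LD1_c31 LD2_c8 LD3_c50) Lrfl Lrfl
theorem f590097 : Led Lsl_dt (LP (LK LD1_c21 LD2_c13 LD3_c60)) = (LP (LK LD1_c29 LD2_c55 LD3_c2)) :=
  Lre_d IH (LK LD1_c21 LD2_c13 LD3_c60) (LK LD1_c29 LD2_c55 LD3_c2) Lrfl Lrfl
theorem f608476 : Led Lsl_cf (LP (LK LD1_c31 LD2_c8 LD3_c50)) = (LP (LK LD1_c29 LD2_c55 LD3_c2)) :=
  Lgr Lrot14 (Lpe (f535064 IH) (Lpe (K39.f533631 IH) (Lpe (K42.f439639 IH) (Lpe (K55.f560471 IH) (Lpe (K55.f607641 IH) (Lpr_gt (f607645 IH) (Lpr_dt (K42.f542007 IH) (Lpr_gt (K55.f608470 IH) (Lpr_dt (f590097 IH) (Lpn (LP (LK LD1_c29 LD2_c55 LD3_c2))))))))))))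
theorem f617821 : Led Lsl_df (LP (LK LD1_c12 LD2_c7 LD3_c42)) = (LP (LK LD1_c13 LD2_c32 LD3_c8)) :=
  Lgr Lrot43 (Lpr_ct (K55.f443103 IH) (Lpr_dt (f590097 IH) (Lpe (f608476 IH) (Lpr_dt (f535068 IH) (Lpe (K39.f535062 IH) (Lpr_dt (K39.f535057 IH) (Lpe (K55.f554194 IH) (Lpr_dt (K55.f554187 IH) (Lpe (K55.f607637 IH) (Lpr_dt (f541904 IH) (Lpe (f607095 IH) (Lpr_dt (f469429 IH) (Lpr_ct (f469432 IH) (Lpr_dt (f607627 IH) (Lpr_ct (K55.f617815 IH) (Lpn (LP (LK LD1_c13 LD2_c32 LD3_c8))))))))))))))))))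
theorem f818353 : Led Lsl_af (LP (LK LD1_c13 LD2_c32 LD3_c8)) = (LP (LK LD1_c13 LD2_c41 LD3_c55)) :=
  Lgr Lrot117 (Lpe (f617821 IH) (Lpr_at (f818347 IH) (Lpe (K40.f554073 IH) (Lpn (LP (LK LD1_c13 LD2_c41 LD3_c55))))))
theorem f818361 : Led Lsl_ft (LP (LK LD1_c13 LD2_c32 LD3_c7)) = (LP (LK LD1_c13 LD2_c41 LD3_c55)) :=
  Lgr Lrot2 (Lpr_gt (K39.f554182 IH) (Lpr_gt (K55.f554181 IH) (Lpr_af (f818353 IH) (Lpn (LP (LK LD1_c13 LD2_c41 LD3_c55))))))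
theorem f818369 : Led Lsl_ff (LP (LK LD1_c13 LD2_c32 LD3_c7)) = (LP (LK LD1_c13 LD2_c41 LD3_c55)) :=
  Lgr Lrot3 (Lpr_ft (f818361 IH) (Lpn (LP (LK LD1_c13 LD2_c41 LD3_c55))))
theorem f818375 : Led Lsl_ft (LP (LK LD1_c13 LD2_c47 LD3_c22)) = (LP (LK LD1_c17 LD2_c15 LD3_c32)) :=
  Lgr Lrot54 (Lpe (K55.f554187 IH) (Lpr_ff (f818369 IH) (Lpr_df (K40.f554073 IH) (Lpn (LP (LK LD1_c17 LD2_c15 LD3_c32))))))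
theorem f818379 : Led Lsl_ff (LP (LK LD1_c23 LD2_c3 LD3_c33)) = (LP (LK LD1_c13 LD2_c57 LD3_c51)) :=
  Lgr Lrot23 (Lpr_ct (K55.f607635 IH) (Lpr_ft (f818375 IH) (Lpe (K55.f554075 IH) (Lpn (LP (LK LD1_c13 LD2_c57 LD3_c51))))))
theorem f818385 : Led Lsl_at (LP (LK LD1_c23 LD2_c3 LD3_c33)) = (LP (LK LD1_c13 LD2_c57 LD3_c50)) :=
  Lgr Lrot26 (Lpr_ff (f818379 IH) (Lpr_gt (K55.f209866 IH) (Lpr_gt (K55.f209773 IH) (Lpn (LP (LK LD1_c13 LD2_c57 LD3_c50))))))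
theorem f541949 : Led Lsl_dt (LP (LK LD1_c30 LD2_c52 LD3_c46)) = (LP (LK LD1_c23 LD2_c3 LD3_c33)) :=
  Lre_d IH (LK LD1_c30 LD2_c52 LD3_c46) (LK LD1_c23 LD2_c3 LD3_c33) Lrfl Lrfl
theorem f818389 : Led Lsl_af (LP (LK LD1_c30 LD2_c52 LD3_c46)) = (LP (LK LD1_c23 LD2_c29 LD3_c43)) :=
  Lgr Lrot117 (Lpr_dt (f541949 IH) (Lpr_at (f818385 IH) (Lpr_dt (K55.f209846 IH) (Lpn (LP (LK LD1_c23 LD2_c29 LD3_c43))))))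
theorem f607093 : Led Lsl_ct (LP (LK LD1_c31 LD2_c8 LD3_c53)) = (LP (LK LD1_c30 LD2_c52 LD3_c46)) :=
  Lgr Lrot7 (Lpe (f469430 IH) (Lpr_gf (f607089 IH) (Lpr_df (K42.f542011 IH) (Lpe (K55.f576444 IH) (Lpr_cf (K55.f560334 IH) (Lpr_gt (K55.f462028 IH) (Lpr_dt (f116162 IH) (Lpr_gt (K55.f541903 IH) (Lpr_dt (f541904 IH) (Lpn (LP (LK LD1_c30 LD2_c52 LD3_c46))))))))))))
theorem f617827 : Led Lsl_dt (LP (LK LD1_c12 LD2_c7 LD3_c42)) = (LP (LK LD1_c13 LD2_c32 LD3_c8)) :=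
  Lgr Lrot113 (Lpe (K55.f590089 IH) (Lpe (K42.f210890 IH) (Lpr_gf (K43.f567369 IH) (Lpr_ct (K35.f470234 IH) (Lpe (K35.f470232 IH) (Lpr_dt (K34.f469360 IH) (Lpr_gt (K39.f469425 IH) (Lpr_dt (f607627 IH) (Lpr_ct (K55.f617815 IH) (Lpn (LP (LK LD1_c13 LD2_c32 LD3_c8))))))))))))
theorem f590096 : Led Lsl_dt (LP (LK LD1_c29 LD2_c55 LD3_c2)) = (LP (LK LD1_c21 LD2_c13 LD3_c60)) :=
  Lre_d IH (LK LD1_c29 LD2_c55 LD3_c2) (LK LD1_c21 LD2_c13 LD3_c60) Lrfl Lrfl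
theorem f818393 : Led Lsl_ft (LP (LK LD1_c29 LD2_c55 LD3_c2)) = (LP (LK LD1_c23 LD2_c29 LD3_c43)) :=
  Lgr Lrot142 (Lpr_dt (f590096 IH) (Lpr_ct (K55.f590091 IH) (Lpr_dt (f617827 IH) (Lpe (K55.f617819 IH) (Lpe (K61.f607595 IH) (Lpe (K39.f469427 IH) (Lpr_dt (f469430 IH) (Lpr_ct (f607093 IH) (Lpr_af (f818389 IH) (Lpn (LP (LK LD1_c23 LD2_c29 LD3_c43))))))))))))
theorem f818399 : Led Lsl_ff (LP (LK LD1_c29 LD2_c55 LD3_c2)) = (LP (LK LD1_c23 LD2_c29 LD3_c43)) :=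
  Lgr Lrot3 (Lpr_ft (f818393 IH) (Lpn (LP (LK LD1_c23 LD2_c29 LD3_c43))))
theorem f742292 : Led Lsl_ct (LP (LK LD1_c23 LD2_c3 LD3_c23)) = (LP (LK LD1_c23 LD2_c42 LD3_c61)) :=
  Lgr Lrot111 (Lpr_af (K55.f560511 IH) (Lpe (K55.f480591 IH) (Lpr_af (K55.f742287 IH) (Lpn (LP (LK LD1_c23 LD2_c42 LD3_c61))))))
theorem f742362 : Led Lsl_gf (LP (LK LD1_c23 LD2_c14 LD3_c52)) = (LP (LK LD1_c23 LD2_c42 LD3_c61)) :=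
  Lgr Lrot148 (Lpr_dt (K61.f608422 IH) (Lpr_gt (K55.f462028 IH) (Lpr_dt (f116162 IH) (Lpr_ct (K36.f116161 IH) (Lpe (K36.f116254 IH) (Lpe (K37.f116177 IH) (Lpe (K47.f116182 IH) (Lpe (K47.f608296 IH) (Lpr_ct (f742292 IH) (Lpn (LP (LK LD1_c23 LD2_c42 LD3_c61))))))))))))
theorem f742324 : Led Lsl_ft (LP (LK LD1_c23 LD2_c42 LD3_c61)) = (LP (LK LD1_c14 LD2_c8 LD3_c28)) :=
  Lre_f IH (LK LD1_c23 LD2_c42 LD3_c61) (LK LD1_c14 LD2_c8 LD3_c28) Lrfl Lrfl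
theorem f742256 : Led Lsl_at (LP (LK LD1_c14 LD2_c8 LD3_c28)) = (LP (LK LD1_c23 LD2_c42 LD3_c56)) :=
  Lre_a IH (LK LD1_c14 LD2_c8 LD3_c28) (LK LD1_c23 LD2_c42 LD3_c56) Lrfl Lrfl
theorem f742364 : Led Lsl_gt (LP (LK LD1_c23 LD2_c14 LD3_c52)) = (LP (LK LD1_c23 LD2_c42 LD3_c56)) :=
  Lgr Lrot46 (Lpr_gf (f742362 IH) (Lpr_ft (f742324 IH) (Lpr_at (f742256 IH) (Lpn (LP (LK LD1_c23 LD2_c42 LD3_c56))))))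
theorem f554175 : Led Lsl_af (LP (LK LD1_c22 LD2_c42 LD3_c41)) = (LP (LK LD1_c21 LD2_c30 LD3_c6)) :=
  Lgr Lrot45 (Lpe (K43.f526902 IH) (Lpr_at (K43.f526891 IH) (Lpr_ft (K39.f554173 IH) (Lpn (LP (LK LD1_c21 LD2_c30 LD3_c6))))))
theorem f554179 : Led Lsl_gt (LP (LK LD1_c13 LD2_c47 LD3_c20)) = (LP (LK LD1_c22 LD2_c42 LD3_c41)) :=
  Lgr Lrot46 (Lpr_gf (K40.f554057 IH) (Lpr_ft (K39.f554173 IH) (Lpe (f554175 IH) (Lpn (LP (LK LD1_c22 LD2_c42 LD3_c41))))))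
theorem f526912 : Led Lsl_df (LP (LK LD1_c13 LD2_c32 LD3_c10)) = (LP (LK LD1_c22 LD2_c42 LD3_c41)) :=
  Lgr Lrot38 (Lpr_dt (K63.f526908 IH) (Lpn (LP (LK LD1_c22 LD2_c42 LD3_c41))))
theorem f554080 : Led Lsl_dt (LP (LK LD1_c13 LD2_c41 LD3_c55)) = (LP (LK LD1_c17 LD2_c15 LD3_c32)) :=
  Lgr Lrot37 (Lpr_et (K40.f470561 IH) (Lpr_gt (K35.f425519 IH) (Lpr_dt (K39.f547014 IH) (Lpe (K39.f411505 IH) (Lpr_df (K39.f552925 IH) (Lpr_et (K39.f544208 IH) (Lpr_gt (K39.f544221 IH) (Lpr_ef (K29.f208959 IH) (Lpr_dt (K40.f208973 IH) (Lpr_gt (K40.f554071 IH) (Lpn (LP (LK LD1_c17 LD2_c15 LD3_c32)))))))))))))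
theorem f541984 : Led Lsl_dt (LP (LK LD1_c23 LD2_c29 LD3_c44)) = (LP (LK LD1_c13 LD2_c57 LD3_c51)) :=
  Lre_d IH (LK LD1_c23 LD2_c29 LD3_c44) (LK LD1_c13 LD2_c57 LD3_c51) Lrfl Lrfl
theorem f742366 : Led Lsl_gf (LP (LK LD1_c23 LD2_c29 LD3_c44)) = (LP (LK LD1_c31 LD2_c5 LD3_c14)) :=
  Lgr Lrot143 (Lpr_dt (f541984 IH) (Lpr_cf (K55.f554075 IH) (Lpe (f554080 IH) (Lpe (K63.f554083 IH) (Lpr_df (f526912 IH) (Lpe (f554179 IH) (Lpe (K55.f469406 IH) (Lpr_gt (f742364 IH) (Lpe (K55.f742336 IH) (Lpn (LP (LK LD1_c31 LD2_c5 LD3_c14))))))))))))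
theorem f818401 : Led Lsl_at (LP (LK LD1_c29 LD2_c55 LD3_c2)) = (LP (LK LD1_c23 LD2_c29 LD3_c44)) :=
  Lgr Lrot26 (Lpr_ff (f818399 IH) (Lpr_gt (K55.f542000 IH) (Lpe (f742366 IH) (Lpn (LP (LK LD1_c23 LD2_c29 LD3_c44))))))
theorem f818391 : Led Lsl_at (LP (LK LD1_c30 LD2_c52 LD3_c46)) = (LP (LK LD1_c23 LD2_c29 LD3_c43)) :=
  Lgr Lrot100 (Lpr_af (f818389 IH) (Lpn (LP (LK LD1_c23 LD2_c29 LD3_c43))))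
theorem f818405 : Led Lsl_ff (LP (LK LD1_c30 LD2_c52 LD3_c46)) = (LP (LK LD1_c23 LD2_c29 LD3_c44)) :=
  Lgr Lrot30 (Lpr_at (f818391 IH) (Lpe (f818399 IH) (Lpr_at (f818401 IH) (Lpn (LP (LK LD1_c23 LD2_c29 LD3_c44))))))
theorem f554077 : Led Lsl_ct (LP (LK LD1_c31 LD2_c5 LD3_c15)) = (LP (LK LD1_c23 LD2_c29 LD3_c44)) :=
  Lre_c IH (LK LD1_c31 LD2_c5 LD3_c15) (LK LD1_c23 LD2_c29 LD3_c44) Lrfl Lrfl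
theorem f818407 : Led Lsl_ft (LP (LK LD1_c31 LD2_c8 LD3_c53)) = (LP (LK LD1_c31 LD2_c5 LD3_c15)) :=
  Lgr Lrot4 (Lpr_cf (f607095 IH) (Lpr_ff (f818405 IH) (Lpe (f554077 IH) (Lpn (LP (LK LD1_c31 LD2_c5 LD3_c15))))))
theorem f818411 : Led Lsl_ff (LP (LK LD1_c31 LD2_c8 LD3_c53)) = (LP (LK LD1_c31 LD2_c5 LD3_c15)) :=
  Lgr Lrot3 (Lpr_ft (f818407 IH) (Lpn (LP (LK LD1_c31 LD2_c5 LD3_c15))))
theorem f147000 : Led Lsl_at (LP (LK LD1_c31 LD2_c10 LD3_c33)) = (LP (LK LD1_c23 LD2_c41 LD3_c0)) :=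
  Lre_a IH (LK LD1_c31 LD2_c10 LD3_c33) (LK LD1_c23 LD2_c41 LD3_c0) Lrfl Lrfl
theorem f146999 : Led Lsl_bt (LP (LK LD1_c23 LD2_c41 LD3_c0)) = (LP (LK LD1_c14 LD2_c7 LD3_c11)) :=
  Lre_b IH (LK LD1_c23 LD2_c41 LD3_c0) (LK LD1_c14 LD2_c7 LD3_c11) Lrfl Lrfl
theorem f146998 : Led Lsl_bt (LP (LK LD1_c13 LD2_c58 LD3_c7)) = (LP (LK LD1_c23 LD2_c29 LD3_c49)) :=
  Lre_b IH (LK LD1_c13 LD2_c58 LD3_c7) (LK LD1_c23 LD2_c29 LD3_c49) Lrfl Lrfl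
theorem f541929 : Led Lsl_at (LP (LK LD1_c23 LD2_c29 LD3_c49)) = (LP (LK LD1_c30 LD2_c52 LD3_c50)) :=
  Lgr Lrot67 (Lpe (f146998 IH) (Lpr_af (K8.f146991 IH) (Lpe (f146999 IH) (Lpe (f147000 IH) (Lpr_bf (K36.f541926 IH) (Lpn (LP (LK LD1_c30 LD2_c52 LD3_c50))))))))
theorem f622059 : Led Lsl_gt (LP (LK LD1_c23 LD2_c29 LD3_c46)) = (LP (LK LD1_c30 LD2_c52 LD3_c50)) :=
  Lgr Lrot46 (Lpe (f541992 IH) (Lpr_ft (K39.f541964 IH) (Lpr_at (f541929 IH) (Lpn (LP (LK LD1_c30 LD2_c52 LD3_c50))))))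
theorem f542001 : Led Lsl_dt (LP (LK LD1_c13 LD2_c57 LD3_c51)) = (LP (LK LD1_c23 LD2_c29 LD3_c44)) :=
  Lre_d IH (LK LD1_c13 LD2_c57 LD3_c51) (LK LD1_c23 LD2_c29 LD3_c44) Lrfl Lrfl
theorem f622061 : Led Lsl_dt (LP (LK LD1_c30 LD2_c41 LD3_c43)) = (LP (LK LD1_c31 LD2_c5 LD3_c15)) :=
  Lgr Lrot105 (Lpr_gf (K55.f576451 IH) (Lpe (K43.f469236 IH) (Lpe (f469247 IH) (Lpe (f608307 IH) (Lpr_gt (f622059 IH) (Lpr_dt (K36.f441611 IH) (Lpr_gt (K55.f608443 IH) (Lpr_dt (f542001 IH) (Lpe (f554077 IH) (Lpn (LP (LK LD1_c31 LD2_c5 LD3_c15))))))))))))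
theorem f818413 : Led Lsl_ft (LP (LK LD1_c23 LD2_c38 LD3_c40)) = (LP (LK LD1_c30 LD2_c41 LD3_c43)) :=
  Lgr Lrot54 (Lpe (f469429 IH) (Lpr_ff (f818411 IH) (Lpe (f622061 IH) (Lpn (LP (LK LD1_c30 LD2_c41 LD3_c43))))))
theorem f818417 : Led Lsl_af (LP (LK LD1_c23 LD2_c38 LD3_c39)) = (LP (LK LD1_c30 LD2_c41 LD3_c43)) :=
  Lgr Lrot31 (Lpe (K39.f533631 IH) (Lpe (K39.f439577 IH) (Lpr_ft (f818413 IH) (Lpn (LP (LK LD1_c30 LD2_c41 LD3_c43))))))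
theorem f818421 : Led Lsl_at (LP (LK LD1_c14 LD2_c7 LD3_c28)) = (LP (LK LD1_c22 LD2_c44 LD3_c31)) :=
  Lgr Lrot107 (Lpr_cf (K39.f535062 IH) (Lpr_af (f818417 IH) (Lpe (K37.f470209 IH) (Lpn (LP (LK LD1_c22 LD2_c44 LD3_c31))))))
theorem f818431 : Led Lsl_ff (LP (LK LD1_c14 LD2_c7 LD3_c28)) = (LP (LK LD1_c22 LD2_c44 LD3_c30)) :=
  Lgr Lrot52 (Lpr_at (f818421 IH) (Lpr_gf (K37.f470207 IH) (Lpe (K34.f469455 IH) (Lpn (LP (LK LD1_c22 LD2_c44 LD3_c30))))))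
theorem f818437 : Led Lsl_ft (LP (LK LD1_c14 LD2_c7 LD3_c28)) = (LP (LK LD1_c22 LD2_c44 LD3_c30)) :=
  Lgr Lrot48 (Lpr_ff (f818431 IH) (Lpn (LP (LK LD1_c22 LD2_c44 LD3_c30))))
theorem f818441 : Led Lsl_af (LP (LK LD1_c14 LD2_c7 LD3_c29)) = (LP (LK LD1_c22 LD2_c44 LD3_c30)) :=
  Lgr Lrot31 (Lpe (K39.f469425 IH) (Lpr_gf (K55.f469447 IH) (Lpr_ft (f818437 IH) (Lpn (LP (LK LD1_c22 LD2_c44 LD3_c30))))))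
theorem f818425 : Led Lsl_af (LP (LK LD1_c14 LD2_c7 LD3_c28)) = (LP (LK LD1_c22 LD2_c44 LD3_c31)) :=
  Lgr Lrot0 (Lpr_at (f818421 IH) (Lpn (LP (LK LD1_c22 LD2_c44 LD3_c31))))
theorem f818443 : Led Lsl_ft (LP (LK LD1_c14 LD2_c7 LD3_c29)) = (LP (LK LD1_c22 LD2_c44 LD3_c31)) :=
  Lgr Lrot101 (Lpr_af (f818441 IH) (Lpe (f818437 IH) (Lpr_af (f818425 IH) (Lpn (LP (LK LD1_c22 LD2_c44 LD3_c31))))))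
theorem f559030 : Led Lsl_df (LP (LK LD1_c14 LD2_c55 LD3_c2)) = (LP (LK LD1_c22 LD2_c44 LD3_c31)) :=
  Lgr Lrot155 (Lpr_gt (K55.f464669 IH) (Lpr_ct (K47.f464680 IH) (Lpr_gt (K47.f559024 IH) (Lpe (K47.f554208 IH) (Lpr_dt (K39.f554197 IH) (Lpe (K55.f533714 IH) (Lpe (K55.f534443 IH) (Lpe (K33.f469157 IH) (Lpe (K37.f469255 IH) (Lpn (LP (LK LD1_c22 LD2_c44 LD3_c31))))))))))))
theorem f818447 : Led Lsl_ff (LP (LK LD1_c14 LD2_c51 LD3_c1)) = (LP (LK LD1_c14 LD2_c55 LD3_c2)) :=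
  Lgr Lrot19 (Lpe (K61.f607595 IH) (Lpr_ft (f818443 IH) (Lpe (f559030 IH) (Lpn (LP (LK LD1_c14 LD2_c55 LD3_c2))))))
theorem f818452 : Led Lsl_ft (LP (LK LD1_c14 LD2_c51 LD3_c1)) = (LP (LK LD1_c14 LD2_c55 LD3_c2)) :=
  Lgr Lrot48 (Lpr_ff (f818447 IH) (Lpn (LP (LK LD1_c14 LD2_c55 LD3_c2))))
theorem f607629 : Led Lsl_ef (LP (LK LD1_c7 LD2_c54 LD3_c51)) = (LP (LK LD1_c14 LD2_c51 LD3_c1)) :=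
  Lgr Lrot17 (Lpe (K48.f488322 IH) (Lpe (K8.f159864 IH) (Lpr_dt (K48.f159811 IH) (Lpe (K39.f552166 IH) (Lpr_df (K39.f552175 IH) (Lpe (K32.f116133 IH) (Lpe (K4.f116167 IH) (Lpr_dt (K39.f116164 IH) (Lpe (K39.f116176 IH) (Lpr_df (K61.f607595 IH) (Lpn (LP (LK LD1_c14 LD2_c51 LD3_c1)))))))))))))
theorem f607631 : Led Lsl_et (LP (LK LD1_c7 LD2_c54 LD3_c51)) = (LP (LK LD1_c14 LD2_c51 LD3_c1)) :=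
  Lgr Lrot87 (Lpr_ef (f607629 IH) (Lpn (LP (LK LD1_c14 LD2_c51 LD3_c1))))
theorem f482536 : Led Lsl_gt (LP (LK LD1_c14 LD2_c56 LD3_c34)) = (LP (LK LD1_c7 LD2_c55 LD3_c11)) :=
  Lre_g IH (LK LD1_c14 LD2_c56 LD3_c34) (LK LD1_c7 LD2_c55 LD3_c11) Lrfl Lrfl
theorem f568119 : Led Lsl_et (LP (LK LD1_c14 LD2_c55 LD3_c2)) = (LP (LK LD1_c14 LD2_c56 LD3_c34)) :=
  Lgr Lrot185 (Lpr_dt (K55.f559028 IH) (Lpr_gf (K37.f470207 IH) (Lpe (K34.f116245 IH) (Lpe (K46.f470284 IH) (Lpe (K46.f470267 IH) (Lpr_dt (K46.f568111 IH) (Lpe (K46.f482549 IH) (Lpe (K34.f482546 IH) (Lpe (K46.f482472 IH) (Lpe (f482536 IH) (Lpn (LP (LK LD1_c14 LD2_c56 LD3_c34)))))))))))))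
theorem f818456 : Led Lsl_ff v23266 = (LP (LK LD1_c14 LD2_c56 LD3_c34)) :=
  Lgr Lrot72 (Lpe (f815964 IH) (Lpqs (f817939 IH) (Lpe (f817922 IH) (Lpr_et (f607631 IH) (Lpr_ft (f818452 IH) (Lpr_et (f568119 IH) (Lpn (LP (LK LD1_c14 LD2_c56 LD3_c34)))))))))
theorem f819139 : Led Lsl_gt (LP (LK LD1_c7 LD2_c55 LD3_c11)) = (LP (LK LD1_c14 LD2_c55 LD3_c40)) :=
  Lgr Lrot46 (Lpe (f482536 IH) (Lpe (f818456 IH) (Lpr_at (f819138 IH) (Lpn (LP (LK LD1_c14 LD2_c55 LD3_c40))))))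
theorem f819140 : Led Lsl_gt (LP (LK LD1_c7 LD2_c55 LD3_c11)) = (LP (LK LD1_c14 LD2_c55 LD3_c40)) :=
  Leop (Lpe (f819139 IH) (Lpn (LP (LK LD1_c7 LD2_c55 LD3_c11))))
theorem seed_1853 : LEOK LG_g (LK LD1_c7 LD2_c55 LD3_c11) :=
  Leoe_g (LK LD1_c7 LD2_c55 LD3_c11) (f819140 IH)
def v23578 : LQ := Led Lsl_dt (LP (LK LD1_c7 LD2_c54 LD3_c58))
theorem f819149 : Led Lsl_dt (LP (LK LD1_c7 LD2_c54 LD3_c58)) = v23578 :=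
  Lrfl
theorem f451655 : Led Lsl_et (LP (LK LD1_c3 LD2_c56 LD3_c36)) = (LP (LK LD1_c7 LD2_c54 LD3_c58)) :=
  Lre_e IH (LK LD1_c3 LD2_c56 LD3_c36) (LK LD1_c7 LD2_c54 LD3_c58) Lrfl Lrfl
theorem f819152 : Led Lsl_ef K62.v7758 = v23578 :=
  Lgr Lrot73 (Lpe (K62.f668256 IH) (Lpe (K61.f535548 IH) (Lpr_dt (K28.f451626 IH) (Lpr_et (f451655 IH) (Lpr_dt (f819149 IH) (Lpn v23578))))))
theorem f522859 : Led Lsl_at (LP (LK LD1_c1 LD2_c49 LD3_c10)) = K33.v2492 :=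
  Lgr Lrot100 (Lpr_af (K34.f522858 IH) (Lpn K33.v2492))
theorem f527442 : Led Lsl_ff (LP (LK LD1_c1 LD2_c49 LD3_c10)) = K62.v2553 :=
  Lgr Lrot52 (Lpr_at (f522859 IH) (Lpe (K34.f522781 IH) (Lpr_gf (K62.f527440 IH) (Lpn K62.v2553))))
theorem f664152 : Led Lsl_df K62.v2553 = K62.v7290 :=
  Lgr Lrot78 (Lpe (f527442 IH) (Lpr_dt (K49.f12879 IH) (Lpr_ft (K62.f664150 IH) (Lpn K62.v7290))))
theorem f436925 : Led Lsl_et (LP (LK LD1_c3 LD2_c42 LD3_c58)) = (LP (LK LD1_c7 LD2_c26 LD3_c40)) :=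
  Lre_e IH (LK LD1_c3 LD2_c42 LD3_c58) (LK LD1_c7 LD2_c26 LD3_c40) Lrfl Lrfl
theorem f148701 : Led Lsl_gt (LP (LK LD1_c7 LD2_c26 LD3_c40)) = (LP (LK LD1_c14 LD2_c4 LD3_c18)) :=
  Lre_g IH (LK LD1_c7 LD2_c26 LD3_c40) (LK LD1_c14 LD2_c4 LD3_c18) Lrfl Lrfl
theorem f527444 : Led Lsl_et (LP (LK LD1_c23 LD2_c37 LD3_c42)) = (LP (LK LD1_c14 LD2_c4 LD3_c18)) :=
  Lre_e IH (LK LD1_c23 LD2_c37 LD3_c42) (LK LD1_c14 LD2_c4 LD3_c18) Lrfl Lrfl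
theorem f819151 : Led Lsl_df (LP (LK LD1_c7 LD2_c54 LD3_c58)) = v23578 :=
  Lgr Lrot38 (Lpr_dt (f819149 IH) (Lpn v23578))
theorem f465416 : Led Lsl_gt (LP (LK LD1_c14 LD2_c55 LD3_c58)) = (LP (LK LD1_c7 LD2_c54 LD3_c58)) :=
  Lre_g IH (LK LD1_c14 LD2_c55 LD3_c58) (LK LD1_c7 LD2_c54 LD3_c58) Lrfl Lrfl
theorem f819155 : Led Lsl_dt (LP (LK LD1_c23 LD2_c37 LD3_c42)) = (LP (LK LD1_c14 LD2_c55 LD3_c58)) :=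
  Lgr Lrot136 (Lpr_et (f527444 IH) (Lpe (f148701 IH) (Lpe (f436925 IH) (Lpr_dt (K48.f436877 IH) (Lpr_gf (K62.f527440 IH) (Lpr_df (f664152 IH) (Lpr_gf (K62.f668260 IH) (Lpr_ef (f819152 IH) (Lpe (f819151 IH) (Lpe (f465416 IH) (Lpn (LP (LK LD1_c14 LD2_c55 LD3_c58)))))))))))))
theorem f819156 : Led Lsl_dt (LP (LK LD1_c23 LD2_c37 LD3_c42)) = (LP (LK LD1_c14 LD2_c55 LD3_c58)) :=
  Leop (Lpe (f819155 IH) (Lpn (LP (LK LD1_c23 LD2_c37 LD3_c42))))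
theorem seed_1854 : LEOK LG_d (LK LD1_c23 LD2_c37 LD3_c42) :=
  Leoe_d (LK LD1_c23 LD2_c37 LD3_c42) (f819156 IH)
def v21030 : LQ := Led Lsl_gt (LP (LK LD1_c7 LD2_c10 LD3_c38))
theorem f791721 : Led Lsl_gt (LP (LK LD1_c7 LD2_c10 LD3_c38)) = v21030 :=
  Lrfl
theorem f791722 : Led Lsl_gf K61.v6929 = v21030 :=
  Lgr Lrot76 (Lpe (K61.f659527 IH) (Lpe (K61.f659526 IH) (Lpr_gt (f791721 IH) (Lpn v21030))))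
theorem f791654 : Led Lsl_ff K61.v6931 = K61.v21022 :=
  Lgr Lrot3 (Lpr_ft (K61.f791652 IH) (Lpn K61.v21022))
theorem f791656 : Led Lsl_bt K61.v11781 = K61.v21022 :=
  Lgr Lrot35 (Lpe (K61.f685866 IH) (Lpr_bf (K61.f659538 IH) (Lpr_ff (f791654 IH) (Lpn K61.v21022))))
def v23605 : LQ := Led Lsl_ct (LP (LK LD1_c7 LD2_c55 LD3_c23))
theorem f819276 : Led Lsl_ct (LP (LK LD1_c7 LD2_c55 LD3_c23)) = v23605 :=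
  Lrfl
theorem f819278 : Led Lsl_cf (LP (LK LD1_c7 LD2_c55 LD3_c23)) = v23605 :=
  Lgr Lrot11 (Lpr_ct (f819276 IH) (Lpn v23605))
def v8868 : LQ := Led Lsl_ct K61.v2256
theorem f672561 : Led Lsl_ct K61.v2256 = v8868 :=
  Lrfl
theorem f672562 : Led Lsl_cf K61.v2256 = v8868 :=
  Lgr Lrot11 (Lpr_ct (f672561 IH) (Lpn v8868))
theorem f668330 : Led Lsl_cf (LP (LK LD1_c3 LD2_c56 LD3_c50)) = K63.v7773 :=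
  Lgr Lrot11 (Lpr_ct (K63.f668328 IH) (Lpn K63.v7773))
theorem f819277 : Led Lsl_bf K63.v7773 = v23605 :=
  Lgr Lrot90 (Lpe (f668330 IH) (Lpr_bt (K63.f12735 IH) (Lpr_ct (K61.f440548 IH) (Lpr_bt (K63.f109145 IH) (Lpr_ct (f819276 IH) (Lpn v23605))))))
theorem f819280 : Led Lsl_gf v8868 = K63.v7773 :=
  Lgr Lrot181 (Lpe (f672562 IH) (Lpe (K61.f511293 IH) (Lpe (K61.f106920 IH) (Lpr_bt (K61.f106919 IH) (Lpr_gt (K3.f12732 IH) (Lpe (K3.f106908 IH) (Lpr_ct (K63.f107105 IH) (Lpe (K63.f440540 IH) (Lpr_cf (f819278 IH) (Lpe (f819277 IH) (Lpn K63.v7773)))))))))))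
def v8867 : LQ := Led Lsl_bt K61.v2256
theorem f672559 : Led Lsl_bt K61.v2256 = v8867 :=
  Lrfl
theorem f11901 : Led Lsl_dt (LP (LK LD1_c3 LD2_c53 LD3_c51)) = (LP (LK LD1_c1 LD2_c53 LD3_c32)) :=
  Lre_d IH (LK LD1_c3 LD2_c53 LD3_c51) (LK LD1_c1 LD2_c53 LD3_c32) Lrfl Lrfl
theorem f490569 : Led Lsl_ct (LP (LK LD1_c7 LD2_c49 LD3_c14)) = (LP (LK LD1_c3 LD2_c53 LD3_c51)) :=
  Lre_c IH (LK LD1_c7 LD2_c49 LD3_c14) (LK LD1_c3 LD2_c53 LD3_c51) Lrfl Lrfl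
theorem f490585 : Led Lsl_dt (LP (LK LD1_c14 LD2_c45 LD3_c18)) = (LP (LK LD1_c7 LD2_c49 LD3_c14)) :=
  Lgr Lrot42 (Lpr_df (K29.f490579 IH) (Lpn (LP (LK LD1_c7 LD2_c49 LD3_c14))))
theorem f490592 : Led Lsl_ct (LP (LK LD1_c7 LD2_c49 LD3_c13)) = (LP (LK LD1_c14 LD2_c45 LD3_c18)) :=
  Lre_c IH (LK LD1_c7 LD2_c49 LD3_c13) (LK LD1_c14 LD2_c45 LD3_c18) Lrfl Lrfl
theorem f490591 : Led Lsl_dt (LP (LK LD1_c3 LD2_c53 LD3_c50)) = (LP (LK LD1_c7 LD2_c49 LD3_c13)) :=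
  Lre_d IH (LK LD1_c3 LD2_c53 LD3_c50) (LK LD1_c7 LD2_c49 LD3_c13) Lrfl Lrfl
theorem f535577 : Led Lsl_df (LP (LK LD1_c1 LD2_c55 LD3_c9)) = K61.v2781 :=
  Lgr Lrot157 (Lpr_ct (K61.f85704 IH) (Lpr_dt (f490591 IH) (Lpr_ct (f490592 IH) (Lpr_dt (f490585 IH) (Lpr_ct (f490569 IH) (Lpr_dt (f11901 IH) (Lpr_ct (K61.f11900 IH) (Lpe (K61.f85710 IH) (Lpr_ff (K61.f535572 IH) (Lpn K61.v2781))))))))))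
theorem f535578 : Led Lsl_dt (LP (LK LD1_c1 LD2_c55 LD3_c9)) = K61.v2781 :=
  Lgr Lrot42 (Lpr_df (f535577 IH) (Lpn K61.v2781))
theorem f85705 : Led Lsl_bt (LP (LK LD1_c7 LD2_c30 LD3_c32)) = (LP (LK LD1_c3 LD2_c53 LD3_c50)) :=
  Lre_b IH (LK LD1_c7 LD2_c30 LD3_c32) (LK LD1_c3 LD2_c53 LD3_c50) Lrfl Lrfl
theorem f85707 : Led Lsl_bf (LP (LK LD1_c1 LD2_c55 LD3_c9)) = (LP (LK LD1_c1 LD2_c55 LD3_c9)) :=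
  Lgr Lrot90 (Lpr_ct (K61.f85704 IH) (Lpr_bt (K63.f85703 IH) (Lpr_ct (K61.f85696 IH) (Lpr_bt (f85705 IH) (Lpr_ct (K29.f85706 IH) (Lpn (LP (LK LD1_c1 LD2_c55 LD3_c9))))))))
theorem f535580 : Led Lsl_bf K61.v2781 = K61.v2781 :=
  Lgr Lrot93 (Lpe (f535577 IH) (Lpe (f85707 IH) (Lpr_dt (f535578 IH) (Lpn K61.v2781))))
theorem f535576 : Led Lsl_ft (LP (LK LD1_c1 LD2_c55 LD3_c9)) = K61.v2781 :=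
  Lgr Lrot48 (Lpr_ff (K61.f535572 IH) (Lpn K61.v2781))
theorem f667452 : Led Lsl_ct K61.v2781 = K61.v7647 :=
  Lgr Lrot40 (Lpe (f535576 IH) (Lpe (K29.f85706 IH) (Lpr_ff (K61.f667450 IH) (Lpn K61.v7647))))
theorem f819281 : Led Lsl_gt v8867 = K63.v9480 :=
  Lgr Lrot82 (Lpe (f672559 IH) (Lpr_ct (f672561 IH) (Lpr_gf (f819280 IH) (Lpe (K63.f668328 IH) (Lpr_bt (K63.f12735 IH) (Lpr_gf (K61.f535571 IH) (Lpr_bf (f535580 IH) (Lpr_ct (f667452 IH) (Lpe (K63.f667456 IH) (Lpr_cf (K63.f676135 IH) (Lpn K63.v9480)))))))))))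
theorem f791653 : Led Lsl_bf K61.v11781 = K61.v21022 :=
  Lgr Lrot61 (Lpe (K61.f685868 IH) (Lpr_bt (K61.f659539 IH) (Lpr_ft (K61.f791652 IH) (Lpn K61.v21022))))
theorem f685867 : Led Lsl_af K61.v3888 = K61.v11781 :=
  Lgr Lrot45 (Lpr_ft (K61.f685858 IH) (Lpe (K61.f685857 IH) (Lpr_ft (K61.f685866 IH) (Lpn K61.v11781))))
theorem f791661 : Led Lsl_at K61.v11782 = K63.v21023 :=
  Lgr Lrot67 (Lpe (K61.f685870 IH) (Lpr_af (f685867 IH) (Lpr_bf (f791653 IH) (Lpe (K61.f791648 IH) (Lpr_bf (K63.f791659 IH) (Lpn K63.v21023))))))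
theorem f819283 : Led Lsl_ft v8867 = K61.v11782 :=
  Lgr Lrot2 (Lpr_gt (f819281 IH) (Lpe (K63.f815392 IH) (Lpe (f791661 IH) (Lpn K61.v11782))))
theorem f672543 : Led Lsl_ff K61.v2256 = K61.v8861 :=
  Lgr Lrot3 (Lpr_ft (K61.f672542 IH) (Lpn K61.v8861))
theorem f819285 : K61.v8861 = K61.v3888 :=
  (Llr Lrot25 (Lpe (f672543 IH) (Lpr_bt (f672559 IH) (Lpr_ft (f819283 IH) (Lpe (K61.f685871 IH) (Lpn K61.v3888)))))).symm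
theorem f819286 : K61.v2255 = K61.v11781 :=
  Lefun (Lecon (Lfl_af (K61.f672541 IH)) (f819285 IH)) (K61.f685869 IH)
theorem f819288 : K61.v21022 = K61.v8862 :=
  Lefun (Lecon (f791656 IH) (f819286 IH).symm) (K61.f672544 IH)
theorem f819290 : K61.v6929 = K61.v6933 :=
  Lefun (Lecon (Lfl_cf (K61.f791650 IH)) (f819288 IH)) (Lfl_cf (K61.f672546 IH))
theorem f819292 : (LP (LK LD1_c3 LD2_c34 LD3_c45)) = v21030 :=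
  Lefun (Lecon (Lfl_gt (K61.f659543 IH)) (f819290 IH).symm) (f791722 IH)
theorem f819294 : Led Lsl_gt (LP (LK LD1_c7 LD2_c10 LD3_c38)) = (LP (LK LD1_c3 LD2_c34 LD3_c45)) :=
  Leop (Lpqs (f819292 IH) (Lpe (f791721 IH) (Lpn (LP (LK LD1_c7 LD2_c10 LD3_c38)))))
theorem seed_1855 : LEOK LG_g (LK LD1_c7 LD2_c10 LD3_c38) :=
  Leoe_g (LK LD1_c7 LD2_c10 LD3_c38) (f819294 IH)
def v4141 : LQ := Led Lsl_gt (LP (LK LD1_c2 LD2_c7 LD3_c17))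
def v23732 : LQ := Led Lsl_bt v4141
theorem f819874 : Led Lsl_bt v4141 = v23732 :=
  Lrfl
def v12500 : LQ := Led Lsl_ft (LP (LK LD1_c4 LD2_c12 LD3_c46))
theorem f692489 : Led Lsl_ft (LP (LK LD1_c4 LD2_c12 LD3_c46)) = v12500 :=
  Lrfl
theorem f692490 : Led Lsl_af (LP (LK LD1_c4 LD2_c12 LD3_c47)) = v12500 :=
  Lgr Lrot45 (Lpr_ft (K50.f692480 IH) (Lpe (K50.f692479 IH) (Lpr_ft (f692489 IH) (Lpn v12500))))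
theorem f694820 : Led Lsl_ff K50.v4136 = K50.v12625 :=
  Lgr Lrot3 (Lpr_ft (K50.f694819 IH) (Lpn K50.v12625))
theorem f692531 : Led Lsl_af (LP (LK LD1_c4 LD2_c13 LD3_c17)) = K50.v12510 :=
  Lgr Lrot45 (Lpr_ft (K50.f692517 IH) (Lpe (K50.f692516 IH) (Lpr_ft (K50.f692530 IH) (Lpn K50.v12510))))
theorem f694846 : (LP (LK LD1_c4 LD2_c13 LD3_c17)) = K50.v12625 :=
  Lefun (Lecon (Lfl_af (f692531 IH)) (K50.f694843 IH)) (K50.f694817 IH)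
theorem f694850 : K50.v4136 = K50.v12507 :=
  Lefun (Lecon (Lfl_ff (f694820 IH)) (f694846 IH).symm) (K50.f692517 IH)
theorem f631422 : Led Lsl_gt (LP (LK LD1_c2 LD2_c7 LD3_c17)) = v4141 :=
  Lrfl
theorem f692525 : Led Lsl_dt v4141 = (LP (LK LD1_c4 LD2_c13 LD3_c16)) :=
  Lgr Lrot182 (Lpe (f631422 IH) (Lpe (K50.f179544 IH) (Lpe (K9.f179533 IH) (Lpe (K9.f179528 IH) (Lpr_gf (K12.f179554 IH) (Lpe (K10.f2425 IH) (Lpr_cf (K0.f6926 IH) (Lpe (K1.f6937 IH) (Lpe (K10.f197799 IH) (Lpe (K10.f174966 IH) (Lpr_cf (K9.f174957 IH) (Lpe (K9.f174153 IH) (Lpe (K9.f174128 IH) (Lpe (K17.f174136 IH) (Lpe (K27.f174272 IH) (Lpe (K50.f174279 IH) (Lpe (K50.f383991 IH) (Lpr_bf (K50.f692522 IH) (Lpe (K50.f692520 IH) (Lpn (LP (LK LD1_c4 LD2_c13 LD3_c16))))))))))))))))))))))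
theorem f692526 : Led Lsl_df v4141 = (LP (LK LD1_c4 LD2_c13 LD3_c16)) :=
  Lgr Lrot38 (Lpr_dt (f692525 IH) (Lpn (LP (LK LD1_c4 LD2_c13 LD3_c16))))
theorem f694851 : v12500 = v4141 :=
  (Llr Lrot117 (Lpe (f692490 IH) (Lpr_dt (K50.f692495 IH) (Lpqs (K50.f694836 IH) (Lpqs (f694850 IH) (Lpe (K50.f692516 IH) (Lpe (f692526 IH) (Lpn v4141)))))))).symm
theorem f819877 : Led Lsl_ff (LP (LK LD1_c8 LD2_c25 LD3_c0)) = v23732 :=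
  Lgr Lrot25 (Lpr_bt (K50.f170186 IH) (Lpr_ft (f692489 IH) (Lpqs (f694851 IH) (Lpr_bt (f819874 IH) (Lpn v23732)))))
theorem f694829 : Led Lsl_dt (LP (LK LD1_c8 LD2_c25 LD3_c0)) = K50.v12626 :=
  Lgr Lrot27 (Lpe (K50.f170193 IH) (Lpe (K50.f404618 IH) (Lpe (K50.f171024 IH) (Lpr_gf (K50.f404640 IH) (Lpr_df (K50.f382735 IH) (Lpr_gt (K50.f406173 IH) (Lpr_ct (K50.f170276 IH) (Lpe (K50.f406115 IH) (Lpr_ct (K50.f694826 IH) (Lpn K50.v12626))))))))))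
theorem f819878 : Led Lsl_dt (LP (LK LD1_c8 LD2_c25 LD3_c42)) = v23732 :=
  Lgr Lrot60 (Lpr_ff (K50.f694861 IH) (Lpe (f694829 IH) (Lpr_ff (f819877 IH) (Lpn v23732))))
theorem f178335 : Led Lsl_ct (LP (LK LD1_c8 LD2_c33 LD3_c6)) = (LP (LK LD1_c8 LD2_c25 LD3_c42)) :=
  Lgr Lrot59 (Lpr_cf (K50.f178331 IH) (Lpn (LP (LK LD1_c8 LD2_c25 LD3_c42))))
theorem f170908 : Led Lsl_ct (LP (LK LD1_c4 LD2_c10 LD3_c55)) = (LP (LK LD1_c8 LD2_c21 LD3_c26)) :=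
  Lre_c IH (LK LD1_c4 LD2_c10 LD3_c55) (LK LD1_c8 LD2_c21 LD3_c26) Lrfl Lrfl
theorem f170266 : Led Lsl_ct (LP (LK LD1_c8 LD2_c33 LD3_c7)) = (LP (LK LD1_c4 LD2_c17 LD3_c9)) :=
  Lre_c IH (LK LD1_c8 LD2_c33 LD3_c7) (LK LD1_c4 LD2_c17 LD3_c9) Lrfl Lrfl
theorem f406093 : Led Lsl_ft (LP (LK LD1_c8 LD2_c21 LD3_c26)) = (LP (LK LD1_c8 LD2_c33 LD3_c7)) :=
  Lgr Lrot4 (Lpe (f170908 IH) (Lpr_ff (K50.f406087 IH) (Lpe (f170266 IH) (Lpn (LP (LK LD1_c8 LD2_c33 LD3_c7))))))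
theorem f170247 : Led Lsl_at (LP (LK LD1_c8 LD2_c33 LD3_c7)) = (LP (LK LD1_c4 LD2_c16 LD3_c53)) :=
  Lre_a IH (LK LD1_c8 LD2_c33 LD3_c7) (LK LD1_c4 LD2_c16 LD3_c53) Lrfl Lrfl
theorem f406165 : Led Lsl_gt (LP (LK LD1_c8 LD2_c21 LD3_c26)) = (LP (LK LD1_c8 LD2_c33 LD3_c6)) :=
  Lgr Lrot5 (Lpr_ft (f406093 IH) (Lpr_at (f170247 IH) (Lpe (K50.f170257 IH) (Lpn (LP (LK LD1_c8 LD2_c33 LD3_c6))))))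
theorem f406102 : Led Lsl_ff (LP (LK LD1_c2 LD2_c2 LD3_c42)) = (LP (LK LD1_c2 LD2_c5 LD3_c53)) :=
  Lgr Lrot30 (Lpr_at (K50.f170876 IH) (Lpr_ft (K50.f406095 IH) (Lpr_at (K50.f170275 IH) (Lpn (LP (LK LD1_c2 LD2_c5 LD3_c53))))))
theorem f170250 : Led Lsl_gt (LP (LK LD1_c2 LD2_c5 LD3_c53)) = (LP (LK LD1_c4 LD2_c17 LD3_c7)) :=
  Lre_g IH (LK LD1_c2 LD2_c5 LD3_c53) (LK LD1_c4 LD2_c17 LD3_c7) Lrfl Lrfl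
theorem f406163 : Led Lsl_gf (LP (LK LD1_c4 LD2_c10 LD3_c55)) = (LP (LK LD1_c4 LD2_c17 LD3_c7)) :=
  Lgr Lrot76 (Lpe (K50.f170876 IH) (Lpr_ff (f406102 IH) (Lpr_gt (f170250 IH) (Lpn (LP (LK LD1_c4 LD2_c17 LD3_c7))))))
theorem f170260 : Led Lsl_bt (LP (LK LD1_c4 LD2_c16 LD3_c53)) = (LP (LK LD1_c2 LD2_c5 LD3_c43)) :=
  Lre_b IH (LK LD1_c4 LD2_c16 LD3_c53) (LK LD1_c2 LD2_c5 LD3_c43) Lrfl Lrfl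
theorem f319564 : Led Lsl_ct (LP (LK LD1_c8 LD2_c33 LD3_c30)) = (LP (LK LD1_c4 LD2_c17 LD3_c7)) :=
  Lre_c IH (LK LD1_c8 LD2_c33 LD3_c30) (LK LD1_c4 LD2_c17 LD3_c7) Lrfl Lrfl
theorem f319565 : Led Lsl_bt (LP (LK LD1_c8 LD2_c33 LD3_c30)) = (LP (LK LD1_c16 LD2_c3 LD3_c51)) :=
  Lre_b IH (LK LD1_c8 LD2_c33 LD3_c30) (LK LD1_c16 LD2_c3 LD3_c51) Lrfl Lrfl
theorem f319566 : Led Lsl_gt (LP (LK LD1_c16 LD2_c3 LD3_c51)) = (LP (LK LD1_c19 LD2_c43 LD3_c54)) :=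
  Lgr Lrot82 (Lpe (f319565 IH) (Lpr_ct (f319564 IH) (Lpe (f170250 IH) (Lpe (K27.f170251 IH) (Lpr_bt (f170260 IH) (Lpe (K17.f187069 IH) (Lpe (K20.f258331 IH) (Lpr_ct (K20.f290249 IH) (Lpe (K20.f319554 IH) (Lpr_cf (K20.f319555 IH) (Lpn (LP (LK LD1_c19 LD2_c43 LD3_c54)))))))))))))
theorem f170254 : Led Lsl_ct (LP (LK LD1_c4 LD2_c17 LD3_c7)) = (LP (LK LD1_c8 LD2_c33 LD3_c30)) :=
  Lre_c IH (LK LD1_c4 LD2_c17 LD3_c7) (LK LD1_c8 LD2_c33 LD3_c30) Lrfl Lrfl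
theorem f319568 : Led Lsl_df (LP (LK LD1_c4 LD2_c17 LD3_c7)) = (LP (LK LD1_c4 LD2_c10 LD3_c27)) :=
  Lgr Lrot183 (Lpr_ct (f170254 IH) (Lpr_bt (f319565 IH) (Lpr_gt (f319566 IH) (Lpr_dt (K20.f178913 IH) (Lpr_ct (K20.f178912 IH) (Lpr_bt (K20.f178887 IH) (Lpr_gt (K20.f226399 IH) (Lpr_dt (K9.f168094 IH) (Lpr_ct (K9.f168095 IH) (Lpr_bt (K10.f168113 IH) (Lpe (K10.f196391 IH) (Lpr_dt (K12.f50132 IH) (Lpr_ct (K13.f50141 IH) (Lpr_bt (K13.f53451 IH) (Lpr_gt (K9.f518 IH) (Lpr_dt (K9.f1413 IH) (Lpr_ct (K9.f170848 IH) (Lpr_bt (K49.f170969 IH) (Lpr_gt (K49.f171002 IH) (Lpn (LP (LK LD1_c4 LD2_c10 LD3_c27))))))))))))))))))))))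
theorem f404638 : Led Lsl_ft (LP (LK LD1_c2 LD2_c2 LD3_c28)) = (LP (LK LD1_c2 LD2_c6 LD3_c6)) :=
  Lgr Lrot48 (Lpr_ff (K50.f404604 IH) (Lpn (LP (LK LD1_c2 LD2_c6 LD3_c6))))
theorem f404642 : Led Lsl_gt (LP (LK LD1_c4 LD2_c10 LD3_c27)) = (LP (LK LD1_c4 LD2_c17 LD3_c32)) :=
  Lgr Lrot46 (Lpe (K49.f171002 IH) (Lpr_ft (f404638 IH) (Lpr_at (K50.f170203 IH) (Lpn (LP (LK LD1_c4 LD2_c17 LD3_c32))))))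
theorem f170999 : Led Lsl_at (LP (LK LD1_c8 LD2_c20 LD3_c48)) = (LP (LK LD1_c4 LD2_c10 LD3_c17)) :=
  Lre_a IH (LK LD1_c8 LD2_c20 LD3_c48) (LK LD1_c4 LD2_c10 LD3_c17) Lrfl Lrfl
theorem f171009 : Led Lsl_gt (LP (LK LD1_c8 LD2_c20 LD3_c47)) = (LP (LK LD1_c4 LD2_c10 LD3_c17)) :=
  Lre_g IH (LK LD1_c8 LD2_c20 LD3_c47) (LK LD1_c4 LD2_c10 LD3_c17) Lrfl Lrfl
theorem f404612 : Led Lsl_gf (LP (LK LD1_c8 LD2_c20 LD3_c47)) = (LP (LK LD1_c8 LD2_c33 LD3_c57)) :=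
  Lgr Lrot47 (Lpr_gt (f171009 IH) (Lpe (f170999 IH) (Lpr_ff (K50.f404606 IH) (Lpn (LP (LK LD1_c8 LD2_c33 LD3_c57))))))
theorem f819880 : Led Lsl_ct (LP (LK LD1_c8 LD2_c20 LD3_c47)) = v23732 :=
  Lgr Lrot151 (Lpr_gf (f404612 IH) (Lpe (K50.f170233 IH) (Lpe (f404642 IH) (Lpe (f319568 IH) (Lpe (f406163 IH) (Lpr_ct (f170908 IH) (Lpr_gt (f406165 IH) (Lpr_ct (f178335 IH) (Lpr_dt (f819878 IH) (Lpn v23732))))))))))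
theorem f819882 : Led Lsl_ff (LP (LK LD1_c8 LD2_c20 LD3_c47)) = (LP (LK LD1_c8 LD2_c33 LD3_c56)) :=
  Lgr Lrot23 (Lpr_ct (f819880 IH) (Lpe (f819877 IH) (Lpe (K50.f170187 IH) (Lpn (LP (LK LD1_c8 LD2_c33 LD3_c56))))))
theorem f819883 : Led Lsl_ft (LP (LK LD1_c8 LD2_c33 LD3_c56)) = (LP (LK LD1_c8 LD2_c20 LD3_c47)) :=
  Leop (Lpr_ff (f819882 IH) (Lpn (LP (LK LD1_c8 LD2_c33 LD3_c56))))
theorem seed_1856 : LEOK LG_f (LK LD1_c8 LD2_c33 LD3_c56) :=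
  Leoe_f (LK LD1_c8 LD2_c33 LD3_c56) (f819883 IH)
def v4168 : LQ := Led Lsl_gt (LP (LK LD1_c2 LD2_c12 LD3_c12))
def v23772 : LQ := Led Lsl_ct v4168
theorem f820371 : Led Lsl_ct v4168 = v23772 :=
  Lrfl
theorem f820373 : Led Lsl_cf v4168 = v23772 :=
  Lgr Lrot11 (Lpr_ct (f820371 IH) (Lpn v23772))
theorem f332314 : Led Lsl_ft (LP (LK LD1_c2 LD2_c39 LD3_c9)) = (LP (LK LD1_c1 LD2_c16 LD3_c22)) :=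
  Lre_f IH (LK LD1_c2 LD2_c39 LD3_c9) (LK LD1_c1 LD2_c16 LD3_c22) Lrfl Lrfl
theorem f332315 : Led Lsl_at (LP (LK LD1_c1 LD2_c16 LD3_c22)) = (LP (LK LD1_c2 LD2_c39 LD3_c7)) :=
  Lre_a IH (LK LD1_c1 LD2_c16 LD3_c22) (LK LD1_c2 LD2_c39 LD3_c7) Lrfl Lrfl
theorem f332316 : Led Lsl_gt (LP (LK LD1_c5 LD2_c25 LD3_c17)) = (LP (LK LD1_c2 LD2_c39 LD3_c7)) :=
  Lgr Lrot46 (Lpr_gf (K31.f332299 IH) (Lpr_ft (f332314 IH) (Lpr_at (f332315 IH) (Lpn (LP (LK LD1_c2 LD2_c39 LD3_c7))))))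
theorem f8793 : Led Lsl_bt (LP (LK LD1_c1 LD2_c18 LD3_c0)) = (LP (LK LD1_c2 LD2_c12 LD3_c12)) :=
  Lre_b IH (LK LD1_c1 LD2_c18 LD3_c0) (LK LD1_c2 LD2_c12 LD3_c12) Lrfl Lrfl
theorem f631594 : Led Lsl_gt (LP (LK LD1_c2 LD2_c12 LD3_c12)) = v4168 :=
  Lrfl
theorem f732715 : Led Lsl_bf v4168 = K54.v15178 :=
  Lgr Lrot34 (Lpe (f631594 IH) (Lpe (f8793 IH) (Lpr_ct (K42.f173461 IH) (Lpe (f332316 IH) (Lpe (K31.f332324 IH) (Lpr_gf (K31.f387695 IH) (Lpe (K54.f175219 IH) (Lpr_ct (K54.f175220 IH) (Lpr_gf (K54.f621066 IH) (Lpr_cf (K54.f732711 IH) (Lpn K54.v15178)))))))))))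
theorem f732716 : Led Lsl_bt v4168 = K54.v15178 :=
  Lgr Lrot127 (Lpr_bf (f732715 IH) (Lpn K54.v15178))
theorem f621075 : Led Lsl_bt (LP (LK LD1_c10 LD2_c56 LD3_c55)) = (LP (LK LD1_c19 LD2_c46 LD3_c34)) :=
  Lre_b IH (LK LD1_c10 LD2_c56 LD3_c55) (LK LD1_c19 LD2_c46 LD3_c34) Lrfl Lrfl
theorem f820376 : Led Lsl_bt (LP (LK LD1_c16 LD2_c39 LD3_c25)) = v23772 :=
  Lgr Lrot128 (Lpr_cf (K54.f621069 IH) (Lpe (f621075 IH) (Lpr_cf (K54.f732711 IH) (Lpe (f732716 IH) (Lpr_cf (f820373 IH) (Lpn v23772))))))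
theorem f621076 : Led Lsl_ct (LP (LK LD1_c16 LD2_c39 LD3_c25)) = (LP (LK LD1_c19 LD2_c46 LD3_c34)) :=
  Lgr Lrot59 (Lpr_cf (K54.f621069 IH) (Lpn (LP (LK LD1_c19 LD2_c46 LD3_c34))))
theorem f8743 : Led Lsl_ft (LP (LK LD1_c2 LD2_c12 LD3_c12)) = (LP (LK LD1_c4 LD2_c30 LD3_c19)) :=
  Lre_f IH (LK LD1_c2 LD2_c12 LD3_c12) (LK LD1_c4 LD2_c30 LD3_c19) Lrfl Lrfl
theorem f243885 : Led Lsl_at (LP (LK LD1_c4 LD2_c30 LD3_c19)) = (LP (LK LD1_c2 LD2_c12 LD3_c14)) :=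
  Lre_a IH (LK LD1_c4 LD2_c30 LD3_c19) (LK LD1_c2 LD2_c12 LD3_c14) Lrfl Lrfl
theorem f631595 : Led Lsl_gf (LP (LK LD1_c2 LD2_c12 LD3_c14)) = v4168 :=
  Lgr Lrot76 (Lpe (f243885 IH) (Lpe (f8743 IH) (Lpr_gt (f631594 IH) (Lpn v4168))))
theorem f172910 : Led Lsl_dt (LP (LK LD1_c2 LD2_c12 LD3_c14)) = (LP (LK LD1_c1 LD2_c20 LD3_c27)) :=
  Lre_d IH (LK LD1_c2 LD2_c12 LD3_c14) (LK LD1_c1 LD2_c20 LD3_c27) Lrfl Lrfl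
theorem f178166 : Led Lsl_ct (LP (LK LD1_c10 LD2_c47 LD3_c60)) = (LP (LK LD1_c5 LD2_c28 LD3_c26)) :=
  Lre_c IH (LK LD1_c10 LD2_c47 LD3_c60) (LK LD1_c5 LD2_c28 LD3_c26) Lrfl Lrfl
theorem f341347 : Led Lsl_dt (LP (LK LD1_c19 LD2_c32 LD3_c11)) = (LP (LK LD1_c10 LD2_c47 LD3_c60)) :=
  Lre_d IH (LK LD1_c19 LD2_c32 LD3_c11) (LK LD1_c10 LD2_c47 LD3_c60) Lrfl Lrfl
theorem f382717 : Led Lsl_gt (LP (LK LD1_c26 LD2_c1 LD3_c24)) = (LP (LK LD1_c20 LD2_c19 LD3_c22)) :=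
  Lgr Lrot150 (Lpe (K30.f179713 IH) (Lpr_gf (K27.f382713 IH) (Lpe (K27.f243755 IH) (Lpr_gt (K30.f226593 IH) (Lpr_ct (K27.f179163 IH) (Lpr_gt (K27.f8808 IH) (Lpr_ct (K54.f179171 IH) (Lpe (K54.f179157 IH) (Lpe (K54.f179158 IH) (Lpn (LP (LK LD1_c20 LD2_c19 LD3_c22))))))))))))
theorem f243765 : Led Lsl_dt (LP (LK LD1_c2 LD2_c48 LD3_c11)) = (LP (LK LD1_c5 LD2_c44 LD3_c40)) :=
  Lre_d IH (LK LD1_c2 LD2_c48 LD3_c11) (LK LD1_c5 LD2_c44 LD3_c40) Lrfl Lrfl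
theorem f243760 : Led Lsl_ct (LP (LK LD1_c11 LD2_c19 LD3_c25)) = (LP (LK LD1_c5 LD2_c44 LD3_c40)) :=
  Lre_c IH (LK LD1_c11 LD2_c19 LD3_c25) (LK LD1_c5 LD2_c44 LD3_c40) Lrfl Lrfl
theorem f243759 : Led Lsl_dt (LP (LK LD1_c16 LD2_c41 LD3_c41)) = (LP (LK LD1_c11 LD2_c19 LD3_c25)) :=
  Lre_d IH (LK LD1_c16 LD2_c41 LD3_c41) (LK LD1_c11 LD2_c19 LD3_c25) Lrfl Lrfl
theorem f341360 : Led Lsl_gt (LP (LK LD1_c26 LD2_c40 LD3_c16)) = (LP (LK LD1_c16 LD2_c41 LD3_c41)) :=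
  Lre_g IH (LK LD1_c26 LD2_c40 LD3_c16) (LK LD1_c16 LD2_c41 LD3_c41) Lrfl Lrfl
theorem f383214 : Led Lsl_dt (LP (LK LD1_c20 LD2_c19 LD3_c22)) = (LP (LK LD1_c26 LD2_c40 LD3_c16)) :=
  Lgr Lrot57 (Lpe (f382717 IH) (Lpe (K30.f179713 IH) (Lpr_gt (K27.f179686 IH) (Lpr_dt (K30.f382786 IH) (Lpr_gt (K27.f290408 IH) (Lpr_dt (f243765 IH) (Lpe (f243760 IH) (Lpe (f243759 IH) (Lpe (f341360 IH) (Lpn (LP (LK LD1_c26 LD2_c40 LD3_c16))))))))))))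
theorem f267445 : Led Lsl_gt (LP (LK LD1_c16 LD2_c41 LD3_c53)) = (LP (LK LD1_c26 LD2_c40 LD3_c16)) :=
  Lre_g IH (LK LD1_c16 LD2_c41 LD3_c53) (LK LD1_c26 LD2_c40 LD3_c16) Lrfl Lrfl
theorem f341348 : Led Lsl_cf (LP (LK LD1_c19 LD2_c32 LD3_c11)) = (LP (LK LD1_c26 LD2_c40 LD3_c16)) :=
  Lgr Lrot175 (Lpr_dt (f341347 IH) (Lpe (K31.f274898 IH) (Lpe (K27.f7736 IH) (Lpe (K27.f178154 IH) (Lpe (K30.f178115 IH) (Lpr_dt (K30.f341342 IH) (Lpr_gt (K30.f179176 IH) (Lpr_ct (K27.f243805 IH) (Lpr_gt (f267445 IH) (Lpn (LP (LK LD1_c26 LD2_c40 LD3_c16))))))))))))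
theorem f341358 : Led Lsl_ct (LP (LK LD1_c19 LD2_c32 LD3_c11)) = (LP (LK LD1_c26 LD2_c40 LD3_c16)) :=
  Lgr Lrot59 (Lpr_cf (f341348 IH) (Lpn (LP (LK LD1_c26 LD2_c40 LD3_c16))))
theorem f399593 : Led Lsl_gf (LP (LK LD1_c19 LD2_c32 LD3_c11)) = (LP (LK LD1_c26 LD2_c37 LD3_c3)) :=
  Lgr Lrot104 (Lpr_ct (f341358 IH) (Lpe (f383214 IH) (Lpe (K54.f179173 IH) (Lpr_gf (K54.f399591 IH) (Lpe (K54.f399567 IH) (Lpe (K54.f178774 IH) (Lpe (K27.f178811 IH) (Lpr_gt (K30.f296130 IH) (Lpe (K30.f383078 IH) (Lpn (LP (LK LD1_c26 LD2_c37 LD3_c3))))))))))))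
theorem f290378 : Led Lsl_ct (LP (LK LD1_c16 LD2_c41 LD3_c18)) = (LP (LK LD1_c16 LD2_c40 LD3_c3)) :=
  Lre_c IH (LK LD1_c16 LD2_c41 LD3_c18) (LK LD1_c16 LD2_c40 LD3_c3) Lrfl Lrfl
theorem f383083 : Led Lsl_df (LP (LK LD1_c26 LD2_c37 LD3_c3)) = (LP (LK LD1_c16 LD2_c40 LD3_c3)) :=
  Lgr Lrot162 (Lpr_cf (K30.f383078 IH) (Lpe (K30.f296130 IH) (Lpe (K30.f383031 IH) (Lpe (K30.f195224 IH) (Lpr_dt (K27.f173503 IH) (Lpr_gt (K27.f195240 IH) (Lpr_ct (K27.f223494 IH) (Lpr_gt (K27.f223493 IH) (Lpr_ct (f290378 IH) (Lpn (LP (LK LD1_c16 LD2_c40 LD3_c3))))))))))))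
theorem f820374 : Led Lsl_gf (LP (LK LD1_c16 LD2_c40 LD3_c3)) = v23772 :=
  Lgr Lrot148 (Lpe (f383083 IH) (Lpe (f399593 IH) (Lpr_dt (f341347 IH) (Lpr_ct (f178166 IH) (Lpe (K27.f380940 IH) (Lpe (K27.f172878 IH) (Lpe (f172910 IH) (Lpr_gf (f631595 IH) (Lpr_ct (f820371 IH) (Lpn v23772))))))))))
theorem f383175 : Led Lsl_bt (LP (LK LD1_c8 LD2_c54 LD3_c36)) = (LP (LK LD1_c16 LD2_c40 LD3_c3)) :=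
  Lre_b IH (LK LD1_c8 LD2_c54 LD3_c36) (LK LD1_c16 LD2_c40 LD3_c3) Lrfl Lrfl
theorem f393083 : Led Lsl_dt (LP (LK LD1_c25 LD2_c12 LD3_c32)) = (LP (LK LD1_c15 LD2_c21 LD3_c16)) :=
  Lre_d IH (LK LD1_c25 LD2_c12 LD3_c32) (LK LD1_c15 LD2_c21 LD3_c16) Lrfl Lrfl
theorem f393084 : Led Lsl_ft (LP (LK LD1_c25 LD2_c14 LD3_c46)) = (LP (LK LD1_c25 LD2_c12 LD3_c32)) :=
  Lgr Lrot54 (Lpr_df (K31.f244098 IH) (Lpr_ff (K31.f393077 IH) (Lpe (f393083 IH) (Lpn (LP (LK LD1_c25 LD2_c12 LD3_c32))))))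
theorem f393088 : Led Lsl_gt (LP (LK LD1_c15 LD2_c22 LD3_c57)) = (LP (LK LD1_c15 LD2_c21 LD3_c18)) :=
  Lgr Lrot46 (Lpe (K31.f244011 IH) (Lpr_ft (f393084 IH) (Lpr_at (K31.f227130 IH) (Lpn (LP (LK LD1_c15 LD2_c21 LD3_c18))))))
theorem f275371 : Led Lsl_dt (LP (LK LD1_c8 LD2_c20 LD3_c25)) = (LP (LK LD1_c15 LD2_c2 LD3_c59)) :=
  Lgr Lrot79 (Lpe (K30.f170700 IH) (Lpr_df (K16.f275365 IH) (Lpe (K31.f43141 IH) (Lpn (LP (LK LD1_c15 LD2_c2 LD3_c59))))))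
theorem f253236 : Led Lsl_dt (LP (LK LD1_c24 LD2_c51 LD3_c15)) = (LP (LK LD1_c15 LD2_c2 LD3_c33)) :=
  Lre_d IH (LK LD1_c24 LD2_c51 LD3_c15) (LK LD1_c15 LD2_c2 LD3_c33) Lrfl Lrfl
theorem f393090 : Led Lsl_gt (LP (LK LD1_c15 LD2_c2 LD3_c59)) = (LP (LK LD1_c24 LD2_c51 LD3_c15)) :=
  Lgr Lrot49 (Lpe (f275371 IH) (Lpe (K31.f170799 IH) (Lpr_cf (K31.f244009 IH) (Lpr_gt (f393088 IH) (Lpr_dt (K30.f227115 IH) (Lpr_gt (K31.f233907 IH) (Lpr_dt (K31.f390969 IH) (Lpe (K31.f219026 IH) (Lpe (f253236 IH) (Lpn (LP (LK LD1_c24 LD2_c51 LD3_c15))))))))))))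
theorem f227111 : Led Lsl_dt (LP (LK LD1_c15 LD2_c18 LD3_c35)) = (LP (LK LD1_c8 LD2_c7 LD3_c49)) :=
  Lre_d IH (LK LD1_c15 LD2_c18 LD3_c35) (LK LD1_c8 LD2_c7 LD3_c49) Lrfl Lrfl
theorem f292285 : Led Lsl_ff (LP (LK LD1_c15 LD2_c18 LD3_c35)) = (LP (LK LD1_c15 LD2_c2 LD3_c59)) :=
  Lgr Lrot19 (Lpr_dt (f227111 IH) (Lpr_ft (K31.f292270 IH) (Lpr_dt (f275371 IH) (Lpn (LP (LK LD1_c15 LD2_c2 LD3_c59))))))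
theorem f292235 : Led Lsl_at (LP (LK LD1_c15 LD2_c18 LD3_c35)) = (LP (LK LD1_c25 LD2_c9 LD3_c18)) :=
  Lre_a IH (LK LD1_c15 LD2_c18 LD3_c35) (LK LD1_c25 LD2_c9 LD3_c18) Lrfl Lrfl
theorem f393096 : Led Lsl_gf (LP (LK LD1_c25 LD2_c9 LD3_c18)) = (LP (LK LD1_c24 LD2_c51 LD3_c15)) :=
  Lgr Lrot76 (Lpe (f292235 IH) (Lpr_ff (f292285 IH) (Lpr_gt (f393090 IH) (Lpn (LP (LK LD1_c24 LD2_c51 LD3_c15))))))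
theorem f218708 : Led Lsl_dt (LP (LK LD1_c15 LD2_c2 LD3_c33)) = (LP (LK LD1_c24 LD2_c51 LD3_c15)) :=
  Lre_d IH (LK LD1_c15 LD2_c2 LD3_c33) (LK LD1_c24 LD2_c51 LD3_c15) Lrfl Lrfl
theorem f393102 : Led Lsl_gf (LP (LK LD1_c8 LD2_c8 LD3_c18)) = (LP (LK LD1_c15 LD2_c9 LD3_c21)) :=
  Lgr Lrot143 (Lpr_dt (K17.f227159 IH) (Lpe (K17.f227180 IH) (Lpe (K17.f227181 IH) (Lpr_gf (f393096 IH) (Lpe (f218708 IH) (Lpe (K31.f218707 IH) (Lpr_cf (K17.f219004 IH) (Lpe (K27.f238352 IH) (Lpr_dt (K27.f275512 IH) (Lpn (LP (LK LD1_c15 LD2_c9 LD3_c21))))))))))))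
theorem f387833 : Led Lsl_gf (LP (LK LD1_c8 LD2_c54 LD3_c36)) = (LP (LK LD1_c15 LD2_c19 LD3_c11)) :=
  Lgr Lrot126 (Lpe (K31.f224859 IH) (Lpr_bt (K31.f224858 IH) (Lpr_gt (K31.f319744 IH) (Lpr_ct (K22.f238480 IH) (Lpr_gt (K30.f387825 IH) (Lpe (K20.f318384 IH) (Lpr_bt (K30.f318390 IH) (Lpe (K30.f292939 IH) (Lpe (K17.f293049 IH) (Lpr_ct (K17.f227183 IH) (Lpn (LP (LK LD1_c15 LD2_c19 LD3_c11)))))))))))))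
theorem f219034 : Led Lsl_ct (LP (LK LD1_c15 LD2_c2 LD3_c34)) = (LP (LK LD1_c15 LD2_c20 LD3_c42)) :=
  Lgr Lrot59 (Lpr_cf (K31.f219029 IH) (Lpn (LP (LK LD1_c15 LD2_c20 LD3_c42))))
theorem f388411 : Led Lsl_df (LP (LK LD1_c15 LD2_c20 LD3_c42)) = (LP (LK LD1_c15 LD2_c20 LD3_c31)) :=
  Lgr Lrot38 (Lpr_dt (K31.f388384 IH) (Lpn (LP (LK LD1_c15 LD2_c20 LD3_c31))))
theorem f393104 : Led Lsl_ct (LP (LK LD1_c8 LD2_c54 LD3_c36)) = (LP (LK LD1_c15 LD2_c20 LD3_c31)) :=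
  Lgr Lrot110 (Lpr_gf (f387833 IH) (Lpe (K17.f227183 IH) (Lpr_gf (f393102 IH) (Lpe (K27.f275512 IH) (Lpr_gt (K30.f292959 IH) (Lpr_ct (K17.f200977 IH) (Lpe (K31.f292983 IH) (Lpr_ct (f219034 IH) (Lpr_df (f388411 IH) (Lpn (LP (LK LD1_c15 LD2_c20 LD3_c31))))))))))))
theorem f267339 : Led Lsl_gt (LP (LK LD1_c26 LD2_c33 LD3_c47)) = (LP (LK LD1_c16 LD2_c36 LD3_c46)) :=
  Lre_g IH (LK LD1_c26 LD2_c33 LD3_c47) (LK LD1_c16 LD2_c36 LD3_c46) Lrfl Lrfl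
theorem f393419 : Led Lsl_gf (LP (LK LD1_c26 LD2_c33 LD3_c47)) = (LP (LK LD1_c25 LD2_c12 LD3_c34)) :=
  Lgr Lrot47 (Lpr_gt (f267339 IH) (Lpr_af (K31.f393413 IH) (Lpe (K31.f393381 IH) (Lpn (LP (LK LD1_c25 LD2_c12 LD3_c34))))))
theorem f196469 : Led Lsl_ct (LP (LK LD1_c15 LD2_c21 LD3_c20)) = (LP (LK LD1_c25 LD2_c12 LD3_c34)) :=
  Lre_c IH (LK LD1_c15 LD2_c21 LD3_c20) (LK LD1_c25 LD2_c12 LD3_c34) Lrfl Lrfl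
theorem f196468 : Led Lsl_bt (LP (LK LD1_c15 LD2_c21 LD3_c20)) = (LP (LK LD1_c8 LD2_c9 LD3_c13)) :=
  Lre_b IH (LK LD1_c15 LD2_c21 LD3_c20) (LK LD1_c8 LD2_c9 LD3_c13) Lrfl Lrfl
theorem f196471 : Led Lsl_bt (LP (LK LD1_c25 LD2_c4 LD3_c37)) = (LP (LK LD1_c15 LD2_c15 LD3_c26)) :=
  Lre_b IH (LK LD1_c25 LD2_c4 LD3_c37) (LK LD1_c15 LD2_c15 LD3_c26) Lrfl Lrfl
theorem f393421 : Led Lsl_cf (LP (LK LD1_c26 LD2_c33 LD3_c47)) = (LP (LK LD1_c25 LD2_c4 LD3_c37)) :=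
  Lgr Lrot58 (Lpr_gf (f393419 IH) (Lpe (f196469 IH) (Lpr_bt (f196468 IH) (Lpe (K13.f196455 IH) (Lpe (K13.f196445 IH) (Lpr_ct (K13.f196450 IH) (Lpe (K13.f189491 IH) (Lpe (K13.f196466 IH) (Lpe (K31.f196470 IH) (Lpe (f196471 IH) (Lpn (LP (LK LD1_c25 LD2_c4 LD3_c37)))))))))))))
theorem f393423 : Led Lsl_ct (LP (LK LD1_c26 LD2_c33 LD3_c47)) = (LP (LK LD1_c25 LD2_c4 LD3_c37)) :=
  Lgr Lrot59 (Lpr_cf (f393421 IH) (Lpn (LP (LK LD1_c25 LD2_c4 LD3_c37))))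
theorem f820377 : Led Lsl_gf (LP (LK LD1_c19 LD2_c46 LD3_c34)) = (LP (LK LD1_c25 LD2_c4 LD3_c37)) :=
  Lgr Lrot129 (Lpe (f621076 IH) (Lpr_bt (f820376 IH) (Lpe (f820374 IH) (Lpe (f383175 IH) (Lpr_ct (f393104 IH) (Lpr_gt (K31.f393064 IH) (Lpe (K30.f217367 IH) (Lpr_bt (K31.f374756 IH) (Lpe (f393419 IH) (Lpr_ct (f393423 IH) (Lpn (LP (LK LD1_c25 LD2_c4 LD3_c37)))))))))))))
theorem f820378 : Led Lsl_gt (LP (LK LD1_c25 LD2_c4 LD3_c37)) = (LP (LK LD1_c19 LD2_c46 LD3_c34)) :=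
  Leop (Lpr_gf (f820377 IH) (Lpn (LP (LK LD1_c25 LD2_c4 LD3_c37))))
theorem seed_1857 : LEOK LG_g (LK LD1_c25 LD2_c4 LD3_c37) :=
  Leoe_g (LK LD1_c25 LD2_c4 LD3_c37) (f820378 IH)
def v4193 : LQ := Led Lsl_ct (LP (LK LD1_c2 LD2_c14 LD3_c37))
def v23807 : LQ := Led Lsl_gf v4193
theorem f820576 : Led Lsl_gf v4193 = v23807 :=
  Lrfl
theorem f631783 : Led Lsl_ct (LP (LK LD1_c2 LD2_c14 LD3_c37)) = v4193 :=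
  Lrfl
theorem f621163 : Led Lsl_bt (LP (LK LD1_c16 LD2_c58 LD3_c32)) = (LP (LK LD1_c9 LD2_c6 LD3_c35)) :=
  Lre_b IH (LK LD1_c16 LD2_c58 LD3_c32) (LK LD1_c9 LD2_c6 LD3_c35) Lrfl Lrfl
theorem f631785 : Led Lsl_cf (LP (LK LD1_c2 LD2_c14 LD3_c37)) = v4193 :=
  Lgr Lrot11 (Lpr_ct (f631783 IH) (Lpn v4193))
theorem f71342 : Led Lsl_gf (LP (LK LD1_c2 LD2_c15 LD3_c25)) = (LP (LK LD1_c1 LD2_c23 LD3_c24)) :=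
  Lgr Lrot47 (Lpr_gt (K32.f71341 IH) (Lpr_af (K2.f71326 IH) (Lpe (K2.f71338 IH) (Lpn (LP (LK LD1_c1 LD2_c23 LD3_c24))))))
theorem f71996 : Led Lsl_et (LP (LK LD1_c5 LD2_c55 LD3_c56)) = (LP (LK LD1_c2 LD2_c54 LD3_c19)) :=
  Lre_e IH (LK LD1_c5 LD2_c55 LD3_c56) (LK LD1_c2 LD2_c54 LD3_c19) Lrfl Lrfl
theorem f71997 : Led Lsl_et (LP (LK LD1_c4 LD2_c36 LD3_c3)) = (LP (LK LD1_c9 LD2_c8 LD3_c17)) :=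
  Lre_e IH (LK LD1_c4 LD2_c36 LD3_c3) (LK LD1_c9 LD2_c8 LD3_c17) Lrfl Lrfl
theorem f71998 : Led Lsl_bf (LP (LK LD1_c5 LD2_c55 LD3_c56)) = (LP (LK LD1_c9 LD2_c8 LD3_c17)) :=
  Lgr Lrot96 (Lpr_et (f71996 IH) (Lpr_bt (K43.f71981 IH) (Lpr_et (f71997 IH) (Lpn (LP (LK LD1_c9 LD2_c8 LD3_c17))))))
theorem f72008 : Led Lsl_at (LP (LK LD1_c5 LD2_c55 LD3_c56)) = (LP (LK LD1_c2 LD2_c54 LD3_c45)) :=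
  Lre_a IH (LK LD1_c5 LD2_c55 LD3_c56) (LK LD1_c2 LD2_c54 LD3_c45) Lrfl Lrfl
theorem f72009 : Led Lsl_at (LP (LK LD1_c4 LD2_c36 LD3_c20)) = (LP (LK LD1_c9 LD2_c8 LD3_c17)) :=
  Lre_a IH (LK LD1_c4 LD2_c36 LD3_c20) (LK LD1_c9 LD2_c8 LD3_c17) Lrfl Lrfl
theorem f72011 : Led Lsl_at (LP (LK LD1_c1 LD2_c23 LD3_c23)) = (LP (LK LD1_c2 LD2_c15 LD3_c26)) :=
  Lgr Lrot67 (Lpe (K48.f23845 IH) (Lpe (f72008 IH) (Lpr_bf (f71998 IH) (Lpe (f72009 IH) (Lpe (K41.f72010 IH) (Lpn (LP (LK LD1_c2 LD2_c15 LD3_c26))))))))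
theorem f72055 : Led Lsl_ft (LP (LK LD1_c2 LD2_c54 LD3_c60)) = (LP (LK LD1_c1 LD2_c23 LD3_c23)) :=
  Lre_f IH (LK LD1_c2 LD2_c54 LD3_c60) (LK LD1_c1 LD2_c23 LD3_c23) Lrfl Lrfl
theorem f631895 : Led Lsl_gt (LP (LK LD1_c2 LD2_c54 LD3_c60)) = K48.v4209 :=
  Lgr Lrot5 (Lpr_ft (f72055 IH) (Lpr_at (f72011 IH) (Lpr_gf (K48.f631894 IH) (Lpn K48.v4209))))
theorem f820579 : Led Lsl_ct K48.v4209 = v23807 :=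
  Lgr Lrot152 (Lpe (f631895 IH) (Lpe (K2.f71344 IH) (Lpe (f71342 IH) (Lpe (K41.f144093 IH) (Lpr_gt (K32.f25232 IH) (Lpr_ct (K7.f25219 IH) (Lpe (K7.f25221 IH) (Lpr_cf (f631785 IH) (Lpr_gf (f820576 IH) (Lpn v23807))))))))))
theorem f71372 : Led Lsl_bt (LP (LK LD1_c5 LD2_c56 LD3_c60)) = (LP (LK LD1_c2 LD2_c54 LD3_c60)) :=
  Lre_b IH (LK LD1_c5 LD2_c56 LD3_c60) (LK LD1_c2 LD2_c54 LD3_c60) Lrfl Lrfl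
theorem f117009 : Led Lsl_ct (LP (LK LD1_c5 LD2_c56 LD3_c60)) = (LP (LK LD1_c11 LD2_c39 LD3_c16)) :=
  Lre_c IH (LK LD1_c5 LD2_c56 LD3_c60) (LK LD1_c11 LD2_c39 LD3_c16) Lrfl Lrfl
theorem f616383 : Led Lsl_gt (LP (LK LD1_c20 LD2_c35 LD3_c26)) = (LP (LK LD1_c11 LD2_c39 LD3_c16)) :=
  Lre_g IH (LK LD1_c20 LD2_c35 LD3_c26) (LK LD1_c11 LD2_c39 LD3_c16) Lrfl Lrfl
theorem f820580 : Led Lsl_ct (LP (LK LD1_c16 LD2_c58 LD3_c32)) = (LP (LK LD1_c20 LD2_c35 LD3_c26)) :=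
  Lgr Lrot64 (Lpr_bt (f621163 IH) (Lpe (K52.f100343 IH) (Lpe (K45.f151891 IH) (Lpr_ct (f631783 IH) (Lpr_gf (f820576 IH) (Lpe (f820579 IH) (Lpe (f631895 IH) (Lpe (f71372 IH) (Lpr_ct (f117009 IH) (Lpe (f616383 IH) (Lpn (LP (LK LD1_c20 LD2_c35 LD3_c26)))))))))))))
theorem f820581 : Led Lsl_ct (LP (LK LD1_c16 LD2_c58 LD3_c32)) = (LP (LK LD1_c20 LD2_c35 LD3_c26)) :=
  Leop (Lpe (f820580 IH) (Lpn (LP (LK LD1_c16 LD2_c58 LD3_c32))))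
theorem seed_1858 : LEOK LG_c (LK LD1_c16 LD2_c58 LD3_c32) :=
  Leoe_c (LK LD1_c16 LD2_c58 LD3_c32) (f820581 IH)
def v23992 : LQ := Led Lsl_dt K58.v4391
theorem f821783 : Led Lsl_dt K58.v4391 = v23992 :=
  Lrfl
theorem f770755 : Led Lsl_cf K58.v4391 = K58.v13130 :=
  Lgr Lrot11 (Lpr_ct (K58.f770747 IH) (Lpn K58.v13130))
theorem f633411 : Led Lsl_gt (LP (LK LD1_c4 LD2_c47 LD3_c22)) = (LP (LK LD1_c9 LD2_c27 LD3_c47)) :=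
  Lre_g IH (LK LD1_c4 LD2_c47 LD3_c22) (LK LD1_c9 LD2_c27 LD3_c47) Lrfl Lrfl
theorem f821789 : Led Lsl_ct (LP (LK LD1_c9 LD2_c27 LD3_c47)) = v23992 :=
  Lgr Lrot151 (Lpe (f633411 IH) (Lpe (K59.f633410 IH) (Lpr_gf (K49.f633415 IH) (Lpq (K49.f674033 IH) (Lpr_dt (K49.f103352 IH) (Lpr_gt (K49.f103348 IH) (Lpr_ct (K7.f78684 IH) (Lpr_gt (K58.f701266 IH) (Lpe (f770755 IH) (Lpr_dt (f821783 IH) (Lpn v23992)))))))))))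
theorem f821790 : Led Lsl_bt (LP (LK LD1_c17 LD2_c27 LD3_c7)) = (LP (LK LD1_c9 LD2_c27 LD3_c47)) :=
  Lre_b IH (LK LD1_c17 LD2_c27 LD3_c7) (LK LD1_c9 LD2_c27 LD3_c47) Lrfl Lrfl
theorem f708001 : Led Lsl_dt (LP (LK LD1_c12 LD2_c28 LD3_c33)) = (LP (LK LD1_c6 LD2_c29 LD3_c6)) :=
  Lre_d IH (LK LD1_c12 LD2_c28 LD3_c33) (LK LD1_c6 LD2_c29 LD3_c6) Lrfl Lrfl
theorem f821785 : Led Lsl_bf (LP (LK LD1_c12 LD2_c28 LD3_c33)) = v23992 :=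
  Lgr Lrot93 (Lpr_dt (f708001 IH) (Lpr_bt (K58.f766140 IH) (Lpqs (K58.f770361 IH) (Lpr_dt (f821783 IH) (Lpn v23992)))))
theorem f715552 : Led Lsl_cf (LP (LK LD1_c6 LD2_c47 LD3_c10)) = (LP (LK LD1_c12 LD2_c28 LD3_c33)) :=
  Lgr Lrot11 (Lpr_ct (K58.f715549 IH) (Lpn (LP (LK LD1_c12 LD2_c28 LD3_c33))))
theorem f715555 : Led Lsl_bt (LP (LK LD1_c6 LD2_c47 LD3_c10)) = (LP (LK LD1_c12 LD2_c57 LD3_c24)) :=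
  Lre_b IH (LK LD1_c6 LD2_c47 LD3_c10) (LK LD1_c12 LD2_c57 LD3_c24) Lrfl Lrfl
theorem f821791 : Led Lsl_cf (LP (LK LD1_c17 LD2_c27 LD3_c7)) = (LP (LK LD1_c12 LD2_c57 LD3_c24)) :=
  Lgr Lrot97 (Lpr_bt (f821790 IH) (Lpr_ct (f821789 IH) (Lpe (f821785 IH) (Lpe (f715552 IH) (Lpr_bt (f715555 IH) (Lpn (LP (LK LD1_c12 LD2_c57 LD3_c24))))))))
theorem f821792 : Led Lsl_ct (LP (LK LD1_c12 LD2_c57 LD3_c24)) = (LP (LK LD1_c17 LD2_c27 LD3_c7)) :=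
  Leop (Lpr_cf (f821791 IH) (Lpn (LP (LK LD1_c12 LD2_c57 LD3_c24))))
theorem seed_1859 : LEOK LG_c (LK LD1_c12 LD2_c57 LD3_c24) :=
  Leoe_c (LK LD1_c12 LD2_c57 LD3_c24) (f821792 IH)
def v9824 : LQ := Led Lsl_ct K58.v3085
theorem f677699 : Led Lsl_ct K58.v3085 = v9824 :=
  Lrfl
def v8383 : LQ := Led Lsl_ct K58.v2018
theorem f671073 : Led Lsl_ct K58.v2018 = v8383 :=
  Lrfl
theorem f677701 : Led Lsl_gt v8383 = v9824 :=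
  Lgr Lrot149 (Lpe (f671073 IH) (Lpe (K58.f506914 IH) (Lpe (K58.f442883 IH) (Lpe (K32.f442871 IH) (Lpe (K32.f82898 IH) (Lpr_cf (K4.f82888 IH) (Lpr_bt (K4.f82663 IH) (Lpr_gf (K51.f453629 IH) (Lpr_bf (K58.f623805 IH) (Lpr_ct (f677699 IH) (Lpn v9824)))))))))))
def v13131 : LQ := Led Lsl_gf (LP (LK LD1_c4 LD2_c40 LD3_c28))
theorem f701267 : Led Lsl_gf (LP (LK LD1_c4 LD2_c40 LD3_c28)) = v13131 :=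
  Lrfl
theorem f701268 : Led Lsl_gt K58.v4398 = v13131 :=
  Lgr Lrot5 (Lpe (K58.f633137 IH) (Lpe (K58.f103364 IH) (Lpr_gf (f701267 IH) (Lpn v13131))))
theorem f770470 : v8383 = K58.v4398 :=
  Lefun (Lecon (f671073 IH) (K58.f770443 IH).symm) (K58.f633138 IH)
theorem f770521 : v9824 = v13131 :=
  Lefun (Lecon (f677701 IH) (f770470 IH)) (f701268 IH)
theorem f440773 : Led Lsl_gt (LP (LK LD1_c9 LD2_c16 LD3_c19)) = (LP (LK LD1_c17 LD2_c10 LD3_c52)) :=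
  Lre_g IH (LK LD1_c9 LD2_c16 LD3_c19) (LK LD1_c17 LD2_c10 LD3_c52) Lrfl Lrfl
theorem f821794 : Led Lsl_df (LP (LK LD1_c9 LD2_c27 LD3_c47)) = (LP (LK LD1_c17 LD2_c10 LD3_c52)) :=
  Lgr Lrot174 (Lpr_ct (f821789 IH) (Lpe (f821783 IH) (Lpe (K58.f633110 IH) (Lpr_df (K58.f102322 IH) (Lpr_gf (K59.f633111 IH) (Lpq (K59.f770362 IH) (Lpr_ct (f677699 IH) (Lpqs (f770521 IH) (Lpe (f701267 IH) (Lpr_dt (K58.f78668 IH) (Lpr_gt (f440773 IH) (Lpn (LP (LK LD1_c17 LD2_c10 LD3_c52))))))))))))))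
theorem f821795 : Led Lsl_dt (LP (LK LD1_c17 LD2_c10 LD3_c52)) = (LP (LK LD1_c9 LD2_c27 LD3_c47)) :=
  Leop (Lpr_df (f821794 IH) (Lpn (LP (LK LD1_c17 LD2_c10 LD3_c52))))
theorem seed_1860 : LEOK LG_d (LK LD1_c17 LD2_c10 LD3_c52) :=
  Leoe_d (LK LD1_c17 LD2_c10 LD3_c52) (f821795 IH)
def v24169 : LQ := Led Lsl_bt K46.v4594
theorem f822757 : Led Lsl_bt K46.v4594 = v24169 :=
  Lrfl
def v16898 : LQ := Led Lsl_et (LP (LK LD1_c6 LD2_c8 LD3_c26))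
theorem f752363 : Led Lsl_et (LP (LK LD1_c6 LD2_c8 LD3_c26)) = v16898 :=
  Lrfl
theorem f752364 : Led Lsl_bf (LP (LK LD1_c6 LD2_c8 LD3_c27)) = v16898 :=
  Lgr Lrot96 (Lpr_et (K46.f68907 IH) (Lpr_bt (K56.f645359 IH) (Lpr_et (f752363 IH) (Lpn v16898))))
theorem f822759 : Led Lsl_df v16898 = v24169 :=
  Lgr Lrot12 (Lpe (f752364 IH) (Lpr_dt (K46.f636309 IH) (Lpr_bt (f822757 IH) (Lpn v24169))))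
theorem f822762 : Led Lsl_dt v16898 = v24169 :=
  Lgr Lrot42 (Lpr_df (f822759 IH) (Lpn v24169))
theorem f752365 : Led Lsl_ef (LP (LK LD1_c6 LD2_c8 LD3_c26)) = v16898 :=
  Lgr Lrot88 (Lpr_et (f752363 IH) (Lpn v16898))
theorem f501002 : Led Lsl_et (LP (LK LD1_c2 LD2_c57 LD3_c33)) = (LP (LK LD1_c1 LD2_c24 LD3_c29)) :=
  Lre_e IH (LK LD1_c2 LD2_c57 LD3_c33) (LK LD1_c1 LD2_c24 LD3_c29) Lrfl Lrfl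
theorem f501003 : Led Lsl_dt (LP (LK LD1_c2 LD2_c57 LD3_c33)) = (LP (LK LD1_c6 LD2_c2 LD3_c59)) :=
  Lre_d IH (LK LD1_c2 LD2_c57 LD3_c33) (LK LD1_c6 LD2_c2 LD3_c59) Lrfl Lrfl
theorem f645808 : Led Lsl_gt (LP (LK LD1_c11 LD2_c49 LD3_c54)) = (LP (LK LD1_c6 LD2_c2 LD3_c59)) :=
  Lre_g IH (LK LD1_c11 LD2_c49 LD3_c54) (LK LD1_c6 LD2_c2 LD3_c59) Lrfl Lrfl
theorem f739346 : Led Lsl_df (LP (LK LD1_c11 LD2_c49 LD3_c54)) = (LP (LK LD1_c6 LD2_c16 LD3_c7)) :=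
  Lgr Lrot170 (Lpr_gt (f645808 IH) (Lpe (f501003 IH) (Lpr_et (f501002 IH) (Lpr_gt (K54.f140715 IH) (Lpr_dt (K54.f645886 IH) (Lpqs (K54.f739339 IH) (Lpr_gt (K54.f640432 IH) (Lpq (K54.f739213 IH) (Lpe (K54.f737920 IH) (Lpr_et (K54.f137367 IH) (Lpe (K54.f137362 IH) (Lpe (K8.f138463 IH) (Lpn (LP (LK LD1_c6 LD2_c16 LD3_c7)))))))))))))))
theorem f138471 : Led Lsl_ft (LP (LK LD1_c3 LD2_c5 LD3_c8)) = (LP (LK LD1_c6 LD2_c16 LD3_c7)) :=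
  Lre_f IH (LK LD1_c3 LD2_c5 LD3_c8) (LK LD1_c6 LD2_c16 LD3_c7) Lrfl Lrfl
theorem f739677 : Led Lsl_ft (LP (LK LD1_c11 LD2_c49 LD3_c54)) = (LP (LK LD1_c6 LD2_c16 LD3_c6)) :=
  Lgr Lrot54 (Lpr_df (f739346 IH) (Lpe (f138471 IH) (Lpe (K8.f138448 IH) (Lpn (LP (LK LD1_c6 LD2_c16 LD3_c6))))))
theorem f132785 : Led Lsl_af (LP (LK LD1_c3 LD2_c5 LD3_c10)) = (LP (LK LD1_c4 LD2_c42 LD3_c50)) :=
  Lgr Lrot0 (Lpr_at (K8.f132780 IH) (Lpn (LP (LK LD1_c4 LD2_c42 LD3_c50))))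
theorem f132793 : Led Lsl_et (LP (LK LD1_c3 LD2_c5 LD3_c10)) = (LP (LK LD1_c6 LD2_c16 LD3_c6)) :=
  Lre_e IH (LK LD1_c3 LD2_c5 LD3_c10) (LK LD1_c6 LD2_c16 LD3_c6) Lrfl Lrfl
theorem f138439 : Led Lsl_at (LP (LK LD1_c6 LD2_c16 LD3_c6)) = (LP (LK LD1_c5 LD2_c54 LD3_c30)) :=
  Lgr Lrot80 (Lpe (f132793 IH) (Lpr_af (f132785 IH) (Lpr_ef (K8.f138436 IH) (Lpn (LP (LK LD1_c5 LD2_c54 LD3_c30))))))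
theorem f739688 : Led Lsl_gt (LP (LK LD1_c6 LD2_c2 LD3_c59)) = (LP (LK LD1_c5 LD2_c54 LD3_c30)) :=
  Lgr Lrot46 (Lpe (f645808 IH) (Lpr_ft (f739677 IH) (Lpr_at (f138439 IH) (Lpn (LP (LK LD1_c5 LD2_c54 LD3_c30))))))
theorem f645363 : Led Lsl_bt (LP (LK LD1_c6 LD2_c8 LD3_c26)) = (LP (LK LD1_c3 LD2_c0 LD3_c25)) :=
  Lre_b IH (LK LD1_c6 LD2_c8 LD3_c26) (LK LD1_c3 LD2_c0 LD3_c25) Lrfl Lrfl
theorem f645364 : Led Lsl_bt (LP (LK LD1_c2 LD2_c57 LD3_c40)) = (LP (LK LD1_c6 LD2_c2 LD3_c59)) :=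
  Lre_b IH (LK LD1_c2 LD2_c57 LD3_c40) (LK LD1_c6 LD2_c2 LD3_c59) Lrfl Lrfl
theorem f645365 : Led Lsl_ff (LP (LK LD1_c6 LD2_c8 LD3_c26)) = (LP (LK LD1_c6 LD2_c2 LD3_c59)) :=
  Lgr Lrot25 (Lpr_bt (f645363 IH) (Lpr_ft (K52.f645361 IH) (Lpr_bt (f645364 IH) (Lpn (LP (LK LD1_c6 LD2_c2 LD3_c59))))))
theorem f138438 : Led Lsl_gt (LP (LK LD1_c5 LD2_c54 LD3_c30)) = (LP (LK LD1_c11 LD2_c34 LD3_c51)) :=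
  Lre_g IH (LK LD1_c5 LD2_c54 LD3_c30) (LK LD1_c11 LD2_c34 LD3_c51) Lrfl Lrfl
theorem f739690 : Led Lsl_at (LP (LK LD1_c6 LD2_c8 LD3_c26)) = (LP (LK LD1_c11 LD2_c34 LD3_c51)) :=
  Lgr Lrot26 (Lpr_ff (f645365 IH) (Lpr_gt (f739688 IH) (Lpr_gt (f138438 IH) (Lpn (LP (LK LD1_c11 LD2_c34 LD3_c51))))))
theorem f645373 : Led Lsl_at (LP (LK LD1_c11 LD2_c49 LD3_c43)) = (LP (LK LD1_c6 LD2_c2 LD3_c59)) :=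
  Lre_a IH (LK LD1_c11 LD2_c49 LD3_c43) (LK LD1_c6 LD2_c2 LD3_c59) Lrfl Lrfl
theorem f739696 : Led Lsl_ff (LP (LK LD1_c11 LD2_c49 LD3_c43)) = (LP (LK LD1_c11 LD2_c34 LD3_c51)) :=
  Lgr Lrot30 (Lpr_at (f645373 IH) (Lpe (f645365 IH) (Lpr_at (f739690 IH) (Lpn (LP (LK LD1_c11 LD2_c34 LD3_c51))))))
theorem f739700 : Led Lsl_ft (LP (LK LD1_c11 LD2_c49 LD3_c43)) = (LP (LK LD1_c11 LD2_c34 LD3_c51)) :=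
  Lgr Lrot48 (Lpr_ff (f739696 IH) (Lpn (LP (LK LD1_c11 LD2_c34 LD3_c51))))
theorem f138430 : Led Lsl_ft (LP (LK LD1_c11 LD2_c34 LD3_c52)) = (LP (LK LD1_c5 LD2_c54 LD3_c30)) :=
  Lre_f IH (LK LD1_c11 LD2_c34 LD3_c52) (LK LD1_c5 LD2_c54 LD3_c30) Lrfl Lrfl
theorem f720663 : Led Lsl_gt (LP (LK LD1_c11 LD2_c49 LD3_c43)) = (LP (LK LD1_c6 LD2_c16 LD3_c6)) :=
  Lgr Lrot46 (Lpr_gf (K56.f720659 IH) (Lpr_ft (f138430 IH) (Lpe (K8.f138445 IH) (Lpn (LP (LK LD1_c6 LD2_c16 LD3_c6))))))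
theorem f739692 : Led Lsl_af (LP (LK LD1_c6 LD2_c8 LD3_c26)) = (LP (LK LD1_c11 LD2_c34 LD3_c51)) :=
  Lgr Lrot0 (Lpr_at (f739690 IH) (Lpn (LP (LK LD1_c11 LD2_c34 LD3_c51))))
theorem f739704 : Led Lsl_gt (LP (LK LD1_c6 LD2_c16 LD3_c6)) = (LP (LK LD1_c6 LD2_c8 LD3_c26)) :=
  Lgr Lrot46 (Lpe (f720663 IH) (Lpr_ft (f739700 IH) (Lpe (f739692 IH) (Lpn (LP (LK LD1_c6 LD2_c8 LD3_c26))))))
theorem f175978 : Led Lsl_et (LP (LK LD1_c11 LD2_c57 LD3_c42)) = (LP (LK LD1_c6 LD2_c7 LD3_c36)) :=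
  Lre_e IH (LK LD1_c11 LD2_c57 LD3_c42) (LK LD1_c6 LD2_c7 LD3_c36) Lrfl Lrfl
theorem f421498 : Led Lsl_et (LP (LK LD1_c5 LD2_c53 LD3_c60)) = (LP (LK LD1_c11 LD2_c33 LD3_c47)) :=
  Lre_e IH (LK LD1_c5 LD2_c53 LD3_c60) (LK LD1_c11 LD2_c33 LD3_c47) Lrfl Lrfl
theorem f596429 : Led Lsl_df (LP (LK LD1_c11 LD2_c57 LD3_c42)) = (LP (LK LD1_c11 LD2_c33 LD3_c47)) :=
  Lgr Lrot70 (Lpr_et (f175978 IH) (Lpr_dt (K50.f596421 IH) (Lpr_et (K41.f567074 IH) (Lpq (K42.f570451 IH) (Lpr_dt (K42.f71239 IH) (Lpr_et (f421498 IH) (Lpn (LP (LK LD1_c11 LD2_c33 LD3_c47)))))))))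
theorem f599047 : Led Lsl_dt (LP (LK LD1_c11 LD2_c57 LD3_c42)) = (LP (LK LD1_c11 LD2_c33 LD3_c47)) :=
  Lgr Lrot42 (Lpr_df (f596429 IH) (Lpn (LP (LK LD1_c11 LD2_c33 LD3_c47))))
theorem f822763 : Led Lsl_gf (LP (LK LD1_c11 LD2_c33 LD3_c47)) = v24169 :=
  Lgr Lrot145 (Lpe (f599047 IH) (Lpr_et (f175978 IH) (Lpr_gt (K50.f596433 IH) (Lpr_dt (K50.f138497 IH) (Lpr_gt (K35.f81099 IH) (Lpe (K38.f81097 IH) (Lpr_et (f132793 IH) (Lpr_gt (f739704 IH) (Lpr_ef (f752365 IH) (Lpr_dt (f822762 IH) (Lpn v24169)))))))))))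
theorem f421483 : Led Lsl_et (LP (LK LD1_c11 LD2_c33 LD3_c47)) = (LP (LK LD1_c5 LD2_c53 LD3_c60)) :=
  Lre_e IH (LK LD1_c11 LD2_c33 LD3_c47) (LK LD1_c5 LD2_c53 LD3_c60) Lrfl Lrfl
theorem f421484 : Led Lsl_et (LP (LK LD1_c5 LD2_c7 LD3_c46)) = (LP (LK LD1_c10 LD2_c5 LD3_c48)) :=
  Lre_e IH (LK LD1_c5 LD2_c7 LD3_c46) (LK LD1_c10 LD2_c5 LD3_c48) Lrfl Lrfl
theorem f421485 : Led Lsl_bf (LP (LK LD1_c11 LD2_c33 LD3_c47)) = (LP (LK LD1_c10 LD2_c5 LD3_c48)) :=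
  Lgr Lrot96 (Lpr_et (f421483 IH) (Lpr_bt (K42.f421475 IH) (Lpr_et (f421484 IH) (Lpn (LP (LK LD1_c10 LD2_c5 LD3_c48))))))
theorem f723847 : Led Lsl_ff (LP (LK LD1_c5 LD2_c14 LD3_c17)) = K55.v14578 :=
  Lgr Lrot3 (Lpr_ft (K55.f723842 IH) (Lpn K55.v14578))
def v14346 : LQ := Led Lsl_ct (LP (LK LD1_c5 LD2_c6 LD3_c59))
theorem f722059 : Led Lsl_ct (LP (LK LD1_c5 LD2_c6 LD3_c59)) = v14346 :=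
  Lrfl
theorem f722061 : Led Lsl_cf (LP (LK LD1_c5 LD2_c6 LD3_c59)) = v14346 :=
  Lgr Lrot11 (Lpr_ct (f722059 IH) (Lpn v14346))
theorem f539703 : Led Lsl_at (LP (LK LD1_c5 LD2_c6 LD3_c59)) = (LP (LK LD1_c5 LD2_c58 LD3_c2)) :=
  Lgr Lrot66 (Lpe (K53.f308036 IH) (Lpe (K56.f539651 IH) (Lpr_ff (K40.f539701 IH) (Lpn (LP (LK LD1_c5 LD2_c58 LD3_c2))))))
theorem f722065 : Led Lsl_at (LP (LK LD1_c5 LD2_c14 LD3_c17)) = v14346 :=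
  Lgr Lrot107 (Lpr_cf (K53.f699264 IH) (Lpe (f539703 IH) (Lpr_cf (f722061 IH) (Lpn v14346))))
theorem f537516 : Led Lsl_bt (LP (LK LD1_c2 LD2_c34 LD3_c3)) = (LP (LK LD1_c5 LD2_c14 LD3_c25)) :=
  Lre_b IH (LK LD1_c2 LD2_c34 LD3_c3) (LK LD1_c5 LD2_c14 LD3_c25) Lrfl Lrfl
theorem f192643 : Led Lsl_ct (LP (LK LD1_c4 LD2_c5 LD3_c51)) = (LP (LK LD1_c8 LD2_c12 LD3_c24)) :=
  Lre_c IH (LK LD1_c4 LD2_c5 LD3_c51) (LK LD1_c8 LD2_c12 LD3_c24) Lrfl Lrfl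
theorem f421251 : Led Lsl_ct (LP (LK LD1_c5 LD2_c54 LD3_c61)) = (LP (LK LD1_c2 LD2_c53 LD3_c51)) :=
  Lre_c IH (LK LD1_c5 LD2_c54 LD3_c61) (LK LD1_c2 LD2_c53 LD3_c51) Lrfl Lrfl
theorem f544440 : Led Lsl_gf (LP (LK LD1_c5 LD2_c54 LD3_c61)) = (LP (LK LD1_c8 LD2_c12 LD3_c24)) :=
  Lgr Lrot104 (Lpr_ct (f421251 IH) (Lpe (K41.f71115 IH) (Lpe (K35.f201595 IH) (Lpr_gf (K35.f421244 IH) (Lpr_cf (K35.f186695 IH) (Lpr_gf (K37.f544435 IH) (Lpe (K45.f421694 IH) (Lpe (K36.f541316 IH) (Lpr_ct (f192643 IH) (Lpn (LP (LK LD1_c8 LD2_c12 LD3_c24))))))))))))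
theorem f566974 : Led Lsl_bt (LP (LK LD1_c2 LD2_c53 LD3_c51)) = (LP (LK LD1_c5 LD2_c54 LD3_c58)) :=
  Lre_b IH (LK LD1_c2 LD2_c53 LD3_c51) (LK LD1_c5 LD2_c54 LD3_c58) Lrfl Lrfl
theorem f385318 : Led Lsl_bt (LP (LK LD1_c2 LD2_c0 LD3_c11)) = (LP (LK LD1_c4 LD2_c5 LD3_c44)) :=
  Lre_b IH (LK LD1_c2 LD2_c0 LD3_c11) (LK LD1_c4 LD2_c5 LD3_c44) Lrfl Lrfl
theorem f636322 : Led Lsl_gt (LP (LK LD1_c2 LD2_c39 LD3_c41)) = K56.v4596 :=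
  Lgr Lrot65 (Lpe (K17.f198641 IH) (Lpr_bt (f385318 IH) (Lpr_gf (K45.f595189 IH) (Lpe (f566974 IH) (Lpr_ct (K45.f442698 IH) (Lpr_gf (f544440 IH) (Lpe (f192643 IH) (Lpr_gf (K36.f541316 IH) (Lpe (f537516 IH) (Lpr_ct (K56.f636316 IH) (Lpn K56.v4596)))))))))))
theorem f574884 : Led Lsl_bt (LP (LK LD1_c8 LD2_c12 LD3_c17)) = (LP (LK LD1_c15 LD2_c26 LD3_c18)) :=
  Lre_b IH (LK LD1_c8 LD2_c12 LD3_c17) (LK LD1_c15 LD2_c26 LD3_c18) Lrfl Lrfl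
theorem f574885 : Led Lsl_at (LP (LK LD1_c4 LD2_c5 LD3_c51)) = (LP (LK LD1_c8 LD2_c12 LD3_c17)) :=
  Lre_a IH (LK LD1_c4 LD2_c5 LD3_c51) (LK LD1_c8 LD2_c12 LD3_c17) Lrfl Lrfl
theorem f597877 : Led Lsl_bt (LP (LK LD1_c5 LD2_c14 LD3_c15)) = (LP (LK LD1_c4 LD2_c5 LD3_c51)) :=
  Lgr Lrot62 (Lpr_af (K50.f597873 IH) (Lpe (K42.f165700 IH) (Lpe (K43.f574880 IH) (Lpe (f574884 IH) (Lpe (f574885 IH) (Lpn (LP (LK LD1_c4 LD2_c5 LD3_c51))))))))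
theorem f387092 : Led Lsl_ct (LP (LK LD1_c5 LD2_c14 LD3_c15)) = (LP (LK LD1_c10 LD2_c18 LD3_c18)) :=
  Lre_c IH (LK LD1_c5 LD2_c14 LD3_c15) (LK LD1_c10 LD2_c18 LD3_c18) Lrfl Lrfl
theorem f722063 : Led Lsl_gt (LP (LK LD1_c10 LD2_c18 LD3_c18)) = v14346 :=
  Lgr Lrot65 (Lpe (f387092 IH) (Lpr_bt (f597877 IH) (Lpr_gf (K36.f541316 IH) (Lpe (f537516 IH) (Lpr_ct (K56.f636316 IH) (Lpe (f636322 IH) (Lpe (K17.f198641 IH) (Lpr_gf (K22.f193797 IH) (Lpe (K40.f168208 IH) (Lpr_ct (f722059 IH) (Lpn v14346)))))))))))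
theorem f723852 : Led Lsl_gf (LP (LK LD1_c10 LD2_c18 LD3_c18)) = K55.v14578 :=
  Lgr Lrot47 (Lpr_gt (f722063 IH) (Lpe (f722065 IH) (Lpr_ff (f723847 IH) (Lpn K55.v14578))))
theorem f387091 : Led Lsl_ct (LP (LK LD1_c10 LD2_c18 LD3_c18)) = (LP (LK LD1_c5 LD2_c14 LD3_c15)) :=
  Lre_c IH (LK LD1_c10 LD2_c18 LD3_c18) (LK LD1_c5 LD2_c14 LD3_c15) Lrfl Lrfl
theorem f186666 : Led Lsl_ct (LP (LK LD1_c5 LD2_c14 LD3_c16)) = (LP (LK LD1_c2 LD2_c33 LD3_c60)) :=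
  Lre_c IH (LK LD1_c5 LD2_c14 LD3_c16) (LK LD1_c2 LD2_c33 LD3_c60) Lrfl Lrfl
theorem f165669 : Led Lsl_bt (LP (LK LD1_c2 LD2_c29 LD3_c24)) = (LP (LK LD1_c5 LD2_c3 LD3_c54)) :=
  Lre_b IH (LK LD1_c2 LD2_c29 LD3_c24) (LK LD1_c5 LD2_c3 LD3_c54) Lrfl Lrfl
theorem f165693 : Led Lsl_bt (LP (LK LD1_c9 LD2_c58 LD3_c46)) = (LP (LK LD1_c5 LD2_c7 LD3_c5)) :=
  Lgr Lrot128 (Lpe (K53.f165690 IH) (Lpe (f165669 IH) (Lpr_cf (K10.f165663 IH) (Lpe (K40.f165691 IH) (Lpe (K53.f165692 IH) (Lpn (LP (LK LD1_c5 LD2_c7 LD3_c5))))))))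
theorem f699322 : Led Lsl_bt (LP (LK LD1_c5 LD2_c14 LD3_c16)) = (LP (LK LD1_c9 LD2_c7 LD3_c41)) :=
  Lgr Lrot35 (Lpe (K53.f387296 IH) (Lpe (f165693 IH) (Lpr_ff (K53.f699290 IH) (Lpn (LP (LK LD1_c9 LD2_c7 LD3_c41))))))
theorem f301829 : Led Lsl_bt (LP (LK LD1_c5 LD2_c14 LD3_c17)) = (LP (LK LD1_c2 LD2_c34 LD3_c0)) :=
  Lre_b IH (LK LD1_c5 LD2_c14 LD3_c17) (LK LD1_c2 LD2_c34 LD3_c0) Lrfl Lrfl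
theorem f723849 : Led Lsl_bt (LP (LK LD1_c5 LD2_c14 LD3_c21)) = K55.v14578 :=
  Lgr Lrot35 (Lpe (K18.f250209 IH) (Lpe (f301829 IH) (Lpr_ff (f723847 IH) (Lpn K55.v14578))))
theorem f249914 : Led Lsl_ft (LP (LK LD1_c5 LD2_c10 LD3_c42)) = (LP (LK LD1_c10 LD2_c12 LD3_c6)) :=
  Lre_f IH (LK LD1_c5 LD2_c10 LD3_c42) (LK LD1_c10 LD2_c12 LD3_c6) Lrfl Lrfl
theorem f406578 : Led Lsl_cf (LP (LK LD1_c5 LD2_c14 LD3_c21)) = (LP (LK LD1_c10 LD2_c12 LD3_c6)) :=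
  Lgr Lrot108 (Lpr_ft (K18.f301819 IH) (Lpr_ct (K53.f406572 IH) (Lpr_ft (f249914 IH) (Lpn (LP (LK LD1_c10 LD2_c12 LD3_c6))))))
theorem f406580 : Led Lsl_ct (LP (LK LD1_c5 LD2_c14 LD3_c21)) = (LP (LK LD1_c10 LD2_c12 LD3_c6)) :=
  Lgr Lrot59 (Lpr_cf (f406578 IH) (Lpn (LP (LK LD1_c10 LD2_c12 LD3_c6))))
def v14216 : LQ := Led Lsl_gt (LP (LK LD1_c5 LD2_c3 LD3_c31))
theorem f721046 : Led Lsl_gt (LP (LK LD1_c5 LD2_c3 LD3_c31)) = v14216 :=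
  Lrfl
theorem f248830 : Led Lsl_ft (LP (LK LD1_c10 LD2_c12 LD3_c6)) = (LP (LK LD1_c5 LD2_c10 LD3_c42)) :=
  Lre_f IH (LK LD1_c10 LD2_c12 LD3_c6) (LK LD1_c5 LD2_c10 LD3_c42) Lrfl Lrfl
theorem f721050 : Led Lsl_af (LP (LK LD1_c10 LD2_c12 LD3_c6)) = K53.v14218 :=
  Lgr Lrot45 (Lpr_ft (f248830 IH) (Lpe (K14.f248823 IH) (Lpr_ft (K53.f721049 IH) (Lpn K53.v14218))))
theorem f721053 : Led Lsl_gt v14216 = (LP (LK LD1_c10 LD2_c12 LD3_c6)) :=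
  Lgr Lrot46 (Lpe (f721046 IH) (Lpr_ft (K53.f721049 IH) (Lpe (f721050 IH) (Lpn (LP (LK LD1_c10 LD2_c12 LD3_c6))))))
theorem f723854 : K53.v14562 = v14216 :=
  (Llr Lrot64 (Lpe (K53.f723756 IH) (Lpr_bt (K53.f645413 IH) (Lpr_gf (K54.f714478 IH) (Lpe (f699322 IH) (Lpr_ct (f186666 IH) (Lpe (K40.f308061 IH) (Lpe (f387091 IH) (Lpr_gf (f723852 IH) (Lpe (f723849 IH) (Lpr_ct (f406580 IH) (Lpe (f721053 IH) (Lpn v14216))))))))))))).symm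
def v14217 : LQ := Led Lsl_gf (LP (LK LD1_c5 LD2_c3 LD3_c31))
theorem f721047 : Led Lsl_gf (LP (LK LD1_c5 LD2_c3 LD3_c31)) = v14217 :=
  Lrfl
theorem f721048 : Led Lsl_gt (LP (LK LD1_c10 LD2_c12 LD3_c6)) = v14217 :=
  Lgr Lrot5 (Lpr_ft (f248830 IH) (Lpe (K14.f248823 IH) (Lpr_gf (f721047 IH) (Lpn v14217))))
theorem f723855 : Led Lsl_at K53.v14350 = v14217 :=
  Lgr Lrot26 (Lpr_ff (K53.f723759 IH) (Lpqs (f723854 IH) (Lpr_gt (f721053 IH) (Lpr_gt (f721048 IH) (Lpn v14217)))))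
theorem f166271 : Led Lsl_ct (LP (LK LD1_c5 LD2_c6 LD3_c60)) = (LP (LK LD1_c10 LD2_c4 LD3_c38)) :=
  Lre_c IH (LK LD1_c5 LD2_c6 LD3_c60) (LK LD1_c10 LD2_c4 LD3_c38) Lrfl Lrfl
theorem f723758 : Led Lsl_cf (LP (LK LD1_c5 LD2_c13 LD3_c49)) = K53.v14562 :=
  Lgr Lrot11 (Lpr_ct (K53.f723756 IH) (Lpn K53.v14562))
theorem f723764 : Led Lsl_af K53.v14562 = (LP (LK LD1_c10 LD2_c4 LD3_c38)) :=
  Lgr Lrot68 (Lpe (f723758 IH) (Lpr_at (K53.f645416 IH) (Lpr_ct (f166271 IH) (Lpn (LP (LK LD1_c10 LD2_c4 LD3_c38))))))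
theorem f723858 : Led Lsl_ff (LP (LK LD1_c10 LD2_c4 LD3_c38)) = v14217 :=
  Lgr Lrot30 (Lpe (f723764 IH) (Lpe (K53.f723759 IH) (Lpr_at (f723855 IH) (Lpn v14217))))
theorem f723859 : Led Lsl_ct K46.v4594 = v14217 :=
  Lgr Lrot40 (Lpr_ff (K55.f645421 IH) (Lpe (K53.f166276 IH) (Lpr_ff (f723858 IH) (Lpn v14217))))
theorem f301824 : Led Lsl_bt (LP (LK LD1_c10 LD2_c5 LD3_c16)) = (LP (LK LD1_c5 LD2_c7 LD3_c26)) :=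
  Lre_b IH (LK LD1_c10 LD2_c5 LD3_c16) (LK LD1_c5 LD2_c7 LD3_c26) Lrfl Lrfl
theorem f301826 : Led Lsl_ct (LP (LK LD1_c10 LD2_c5 LD3_c16)) = (LP (LK LD1_c18 LD2_c23 LD3_c61)) :=
  Lre_c IH (LK LD1_c10 LD2_c5 LD3_c16) (LK LD1_c18 LD2_c23 LD3_c61) Lrfl Lrfl
theorem f822765 : Led Lsl_gt (LP (LK LD1_c18 LD2_c24 LD3_c34)) = (LP (LK LD1_c18 LD2_c23 LD3_c61)) :=
  Lgr Lrot65 (Lpe (K42.f421495 IH) (Lpe (f421485 IH) (Lpr_gf (f822763 IH) (Lpe (f822757 IH) (Lpr_ct (f723859 IH) (Lpe (f721048 IH) (Lpe (f406580 IH) (Lpr_gf (K51.f301822 IH) (Lpe (f301824 IH) (Lpr_ct (f301826 IH) (Lpn (LP (LK LD1_c18 LD2_c23 LD3_c61)))))))))))))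
theorem f822766 : Led Lsl_gt (LP (LK LD1_c18 LD2_c24 LD3_c34)) = (LP (LK LD1_c18 LD2_c23 LD3_c61)) :=
  Leop (Lpe (f822765 IH) (Lpn (LP (LK LD1_c18 LD2_c24 LD3_c34))))
theorem seed_1861 : LEOK LG_g (LK LD1_c18 LD2_c24 LD3_c34) :=
  Leoe_g (LK LD1_c18 LD2_c24 LD3_c34) (f822766 IH)
theorem f165742 : Led Lsl_gt (LP (LK LD1_c5 LD2_c7 LD3_c5)) = (LP (LK LD1_c10 LD2_c4 LD3_c48)) :=
  Lre_g IH (LK LD1_c5 LD2_c7 LD3_c5) (LK LD1_c10 LD2_c4 LD3_c48) Lrfl Lrfl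
theorem f581851 : Led Lsl_ct (LP (LK LD1_c10 LD2_c4 LD3_c48)) = (LP (LK LD1_c6 LD2_c7 LD3_c50)) :=
  Lgr Lrot110 (Lpe (f165742 IH) (Lpe (K55.f165660 IH) (Lpe (K40.f165699 IH) (Lpe (K40.f558482 IH) (Lpr_gt (K44.f581847 IH) (Lpr_ct (K11.f204891 IH) (Lpr_gt (K40.f22209 IH) (Lpq (K40.f557491 IH) (Lpe (K40.f501325 IH) (Lpe (K55.f427747 IH) (Lpn (LP (LK LD1_c6 LD2_c7 LD3_c50)))))))))))))
theorem f581861 : Led Lsl_bt (LP (LK LD1_c10 LD2_c4 LD3_c48)) = (LP (LK LD1_c18 LD2_c23 LD3_c29)) :=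
  Lre_b IH (LK LD1_c10 LD2_c4 LD3_c48) (LK LD1_c18 LD2_c23 LD3_c29) Lrfl Lrfl
theorem f822767 : Led Lsl_gf (LP (LK LD1_c10 LD2_c5 LD3_c48)) = (LP (LK LD1_c18 LD2_c23 LD3_c29)) :=
  Lgr Lrot181 (Lpr_ct (K42.f421495 IH) (Lpr_gt (f822765 IH) (Lpe (f301826 IH) (Lpr_bt (f301824 IH) (Lpe (K51.f301822 IH) (Lpr_bf (K55.f723844 IH) (Lpe (K55.f723845 IH) (Lpr_gt (K36.f539656 IH) (Lpe (f581851 IH) (Lpr_bt (f581861 IH) (Lpn (LP (LK LD1_c18 LD2_c23 LD3_c29)))))))))))))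
theorem f822768 : Led Lsl_gt (LP (LK LD1_c18 LD2_c23 LD3_c29)) = (LP (LK LD1_c10 LD2_c5 LD3_c48)) :=
  Leop (Lpr_gf (f822767 IH) (Lpn (LP (LK LD1_c18 LD2_c23 LD3_c29))))
theorem seed_1862 : LEOK LG_g (LK LD1_c18 LD2_c23 LD3_c29) :=
  Leoe_g (LK LD1_c18 LD2_c23 LD3_c29) (f822768 IH)
def v12801 : LQ := Led Lsl_ct (LP (LK LD1_c4 LD2_c31 LD3_c11))
theorem f698274 : Led Lsl_ct (LP (LK LD1_c4 LD2_c31 LD3_c11)) = v12801 :=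
  Lrfl
def v4654 : LQ := Led Lsl_dt (LP (LK LD1_c2 LD2_c41 LD3_c32))
def v24278 : LQ := Led Lsl_gt v4654
theorem f823190 : Led Lsl_gt v4654 = v24278 :=
  Lrfl
theorem f638351 : Led Lsl_dt (LP (LK LD1_c2 LD2_c41 LD3_c32)) = v4654 :=
  Lrfl
def v16589 : LQ := Led Lsl_et (LP (LK LD1_c6 LD2_c3 LD3_c4))
theorem f750604 : Led Lsl_et (LP (LK LD1_c6 LD2_c3 LD3_c4)) = v16589 :=
  Lrfl
theorem f750606 : Led Lsl_ef (LP (LK LD1_c6 LD2_c3 LD3_c4)) = v16589 :=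
  Lgr Lrot88 (Lpr_et (f750604 IH) (Lpn v16589))
theorem f823191 : Led Lsl_dt v16589 = v24278 :=
  Lgr Lrot37 (Lpe (f750606 IH) (Lpe (K46.f501105 IH) (Lpr_dt (K46.f646003 IH) (Lpe (K46.f646006 IH) (Lpe (K2.f40970 IH) (Lpr_et (K1.f40972 IH) (Lpr_gt (K9.f175085 IH) (Lpe (K13.f175082 IH) (Lpr_dt (f638351 IH) (Lpr_gt (f823190 IH) (Lpn v24278)))))))))))
theorem f823192 : Led Lsl_df v16589 = v24278 :=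
  Lgr Lrot38 (Lpr_dt (f823191 IH) (Lpn v24278))
theorem f750605 : Led Lsl_cf K53.v14168 = v16589 :=
  Lgr Lrot39 (Lpe (K53.f720607 IH) (Lpr_ct (K46.f501102 IH) (Lpr_et (f750604 IH) (Lpn v16589))))
def v4768 : LQ := Led Lsl_et (LP (LK LD1_c2 LD2_c46 LD3_c36))
theorem f638896 : Led Lsl_et (LP (LK LD1_c2 LD2_c46 LD3_c36)) = v4768 :=
  Lrfl
theorem f638897 : Led Lsl_ef (LP (LK LD1_c2 LD2_c46 LD3_c36)) = v4768 :=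
  Lgr Lrot88 (Lpr_et (f638896 IH) (Lpn v4768))
theorem f720608 : Led Lsl_ff v4768 = K53.v14168 :=
  Lgr Lrot72 (Lpe (f638897 IH) (Lpr_ft (K55.f505633 IH) (Lpe (K55.f505611 IH) (Lpr_ft (K46.f505536 IH) (Lpr_et (K53.f720605 IH) (Lpn K53.v14168))))))
def v7968 : LQ := Led Lsl_gf K54.v1453
theorem f669153 : Led Lsl_gf K54.v1453 = v7968 :=
  Lrfl
theorem f669155 : Led Lsl_dt v4768 = v7968 :=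
  Lgr Lrot136 (Lpe (f638897 IH) (Lpe (K55.f171848 IH) (Lpe (K24.f171785 IH) (Lpr_dt (K27.f171771 IH) (Lpr_gf (K9.f171766 IH) (Lpe (K9.f20816 IH) (Lpe (K9.f171810 IH) (Lpe (K20.f171822 IH) (Lpr_dt (K54.f495654 IH) (Lpr_gf (f669153 IH) (Lpn v7968)))))))))))
def v7967 : LQ := Led Lsl_gt K54.v1453
theorem f669148 : Led Lsl_gt K54.v1453 = v7967 :=
  Lrfl
theorem f495657 : Led Lsl_et (LP (LK LD1_c1 LD2_c18 LD3_c53)) = K54.v1453 :=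
  Lgr Lrot87 (Lpr_ef (K54.f495656 IH) (Lpn K54.v1453))
theorem f211759 : Led Lsl_et (LP (LK LD1_c1 LD2_c22 LD3_c23)) = (LP (LK LD1_c0 LD2_c38 LD3_c13)) :=
  Lre_e IH (LK LD1_c1 LD2_c22 LD3_c23) (LK LD1_c0 LD2_c38 LD3_c13) Lrfl Lrfl
theorem f22514 : Led Lsl_dt (LP (LK LD1_c1 LD2_c22 LD3_c23)) = (LP (LK LD1_c0 LD2_c38 LD3_c10)) :=
  Lre_d IH (LK LD1_c1 LD2_c22 LD3_c23) (LK LD1_c0 LD2_c38 LD3_c10) Lrfl Lrfl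
def v1605 : LQ := Led Lsl_dt (LP (LK LD1_c1 LD2_c22 LD3_c22))
theorem f500334 : Led Lsl_dt (LP (LK LD1_c1 LD2_c22 LD3_c22)) = v1605 :=
  Lrfl
theorem f500335 : Led Lsl_df (LP (LK LD1_c1 LD2_c22 LD3_c22)) = v1605 :=
  Lgr Lrot38 (Lpr_dt (f500334 IH) (Lpn v1605))
theorem f669149 : Led Lsl_et v1605 = v7967 :=
  Lgr Lrot122 (Lpe (f500335 IH) (Lpr_gt (K24.f22528 IH) (Lpe (f22514 IH) (Lpr_et (f211759 IH) (Lpr_gt (K12.f26579 IH) (Lpr_dt (K12.f211739 IH) (Lpr_gt (K12.f171850 IH) (Lpe (K9.f24531 IH) (Lpr_et (f495657 IH) (Lpr_gt (f669148 IH) (Lpn v7967)))))))))))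
theorem f669151 : Led Lsl_ef v1605 = v7967 :=
  Lgr Lrot88 (Lpr_et (f669149 IH) (Lpn v7967))
def v1603 : LQ := Led Lsl_dt (LP (LK LD1_c1 LD2_c22 LD3_c21))
theorem f500321 : Led Lsl_dt (LP (LK LD1_c1 LD2_c22 LD3_c21)) = v1603 :=
  Lrfl
theorem f500322 : Led Lsl_df (LP (LK LD1_c1 LD2_c22 LD3_c21)) = v1603 :=
  Lgr Lrot38 (Lpr_dt (f500321 IH) (Lpn v1603))
theorem f506243 : Led Lsl_ff v1603 = (LP (LK LD1_c3 LD2_c13 LD3_c13)) :=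
  Lgr Lrot19 (Lpe (f500322 IH) (Lpr_ft (K41.f500328 IH) (Lpqs (K41.f504850 IH) (Lpr_dt (K50.f140731 IH) (Lpn (LP (LK LD1_c3 LD2_c13 LD3_c13)))))))
theorem f506245 : Led Lsl_ft v1603 = (LP (LK LD1_c3 LD2_c13 LD3_c13)) :=
  Lgr Lrot48 (Lpr_ff (f506243 IH) (Lpn (LP (LK LD1_c3 LD2_c13 LD3_c13))))
theorem f22525 : Led Lsl_dt (LP (LK LD1_c3 LD2_c21 LD3_c54)) = (LP (LK LD1_c1 LD2_c37 LD3_c11)) :=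
  Lre_d IH (LK LD1_c3 LD2_c21 LD3_c54) (LK LD1_c1 LD2_c37 LD3_c11) Lrfl Lrfl
theorem f500323 : Led Lsl_gf (LP (LK LD1_c3 LD2_c21 LD3_c54)) = v1603 :=
  Lgr Lrot143 (Lpr_dt (f22525 IH) (Lpe (K35.f22524 IH) (Lpe (K24.f22523 IH) (Lpe (K24.f22522 IH) (Lpe (K0.f22521 IH) (Lpe (K0.f22520 IH) (Lpr_cf (K7.f22493 IH) (Lpr_gt (K24.f22526 IH) (Lpr_dt (f500321 IH) (Lpn v1603))))))))))
theorem f445673 : Led Lsl_et (LP (LK LD1_c1 LD2_c22 LD3_c22)) = (LP (LK LD1_c2 LD2_c52 LD3_c40)) :=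
  Lre_e IH (LK LD1_c1 LD2_c22 LD3_c22) (LK LD1_c2 LD2_c52 LD3_c40) Lrfl Lrfl
theorem f141120 : Led Lsl_et (LP (LK LD1_c1 LD2_c37 LD3_c11)) = (LP (LK LD1_c0 LD2_c44 LD3_c57)) :=
  Lre_e IH (LK LD1_c1 LD2_c37 LD3_c11) (LK LD1_c0 LD2_c44 LD3_c57) Lrfl Lrfl
theorem f141121 : Led Lsl_dt (LP (LK LD1_c1 LD2_c37 LD3_c11)) = (LP (LK LD1_c3 LD2_c21 LD3_c54)) :=
  Lre_d IH (LK LD1_c1 LD2_c37 LD3_c11) (LK LD1_c3 LD2_c21 LD3_c54) Lrfl Lrfl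
theorem f500336 : Led Lsl_gt (LP (LK LD1_c3 LD2_c21 LD3_c54)) = v1605 :=
  Lgr Lrot112 (Lpe (f141121 IH) (Lpr_et (f141120 IH) (Lpe (K17.f414054 IH) (Lpr_ef (K32.f413561 IH) (Lpr_dt (K2.f40491 IH) (Lpr_gf (K51.f444689 IH) (Lpe (K51.f58954 IH) (Lpr_gf (K52.f445981 IH) (Lpe (f445673 IH) (Lpr_dt (f500334 IH) (Lpn v1605)))))))))))
theorem f506247 : Led Lsl_af v1605 = (LP (LK LD1_c3 LD2_c13 LD3_c13)) :=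
  Lgr Lrot31 (Lpe (f500336 IH) (Lpr_gf (f500323 IH) (Lpr_ft (f506245 IH) (Lpn (LP (LK LD1_c3 LD2_c13 LD3_c13))))))
theorem f506248 : Led Lsl_at v1605 = (LP (LK LD1_c3 LD2_c13 LD3_c13)) :=
  Lgr Lrot100 (Lpr_af (f506247 IH) (Lpn (LP (LK LD1_c3 LD2_c13 LD3_c13))))
theorem f669152 : Led Lsl_at K53.v5776 = v7967 :=
  Lgr Lrot80 (Lpe (K53.f649308 IH) (Lpe (f506248 IH) (Lpr_ef (f669151 IH) (Lpn v7967))))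
theorem f669154 : Led Lsl_ff K53.v5776 = v7968 :=
  Lgr Lrot52 (Lpr_at (f669152 IH) (Lpe (f669148 IH) (Lpr_gf (f669153 IH) (Lpn v7968))))
theorem f720609 : Led Lsl_dt K53.v5776 = K53.v14168 :=
  Lgr Lrot60 (Lpr_ff (f669154 IH) (Lpe (f669155 IH) (Lpr_ff (f720608 IH) (Lpn K53.v14168))))
theorem f211784 : Led Lsl_gt (LP (LK LD1_c4 LD2_c31 LD3_c11)) = (LP (LK LD1_c2 LD2_c12 LD3_c32)) :=
  Lre_g IH (LK LD1_c4 LD2_c31 LD3_c11) (LK LD1_c2 LD2_c12 LD3_c32) Lrfl Lrfl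
theorem f225262 : Led Lsl_gt (LP (LK LD1_c5 LD2_c30 LD3_c39)) = (LP (LK LD1_c2 LD2_c41 LD3_c32)) :=
  Lre_g IH (LK LD1_c5 LD2_c30 LD3_c39) (LK LD1_c2 LD2_c41 LD3_c32) Lrfl Lrfl
theorem f823193 : v12801 = (LP (LK LD1_c5 LD2_c30 LD3_c39)) :=
  (Llr Lrot8 (Lpe (f698274 IH) (Lpr_gt (f211784 IH) (Lpr_dt (K53.f631623 IH) (Lpr_gt (K53.f649310 IH) (Lpr_dt (f720609 IH) (Lpr_cf (f750605 IH) (Lpr_df (f823192 IH) (Lpe (f823190 IH) (Lpe (f638351 IH) (Lpe (f225262 IH) (Lpn (LP (LK LD1_c5 LD2_c30 LD3_c39)))))))))))))).symm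
theorem f823195 : Led Lsl_ct (LP (LK LD1_c4 LD2_c31 LD3_c11)) = (LP (LK LD1_c5 LD2_c30 LD3_c39)) :=
  Leop (Lpq (f823193 IH) (Lpe (f698274 IH) (Lpn (LP (LK LD1_c4 LD2_c31 LD3_c11)))))
theorem seed_1863 : LEOK LG_c (LK LD1_c4 LD2_c31 LD3_c11) :=
  Leoe_c (LK LD1_c4 LD2_c31 LD3_c11) (f823195 IH)
def v4696 : LQ := Led Lsl_gt (LP (LK LD1_c2 LD2_c42 LD3_c57))
def v24357 : LQ := Led Lsl_at v4696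
theorem f823414 : Led Lsl_at v4696 = v24357 :=
  Lrfl
theorem f823415 : Led Lsl_af v4696 = v24357 :=
  Lgr Lrot0 (Lpr_at (f823414 IH) (Lpn v24357))
theorem f638518 : Led Lsl_gt (LP (LK LD1_c2 LD2_c42 LD3_c57)) = v4696 :=
  Lrfl
theorem f823416 : Led Lsl_ft K54.v4697 = v24357 :=
  Lgr Lrot2 (Lpe (K54.f638519 IH) (Lpr_gt (f638518 IH) (Lpr_af (f823415 IH) (Lpn v24357))))
theorem f823418 : Led Lsl_ff K54.v4697 = v24357 :=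
  Lgr Lrot3 (Lpr_ft (f823416 IH) (Lpn v24357))
def v4770 : LQ := Led Lsl_at (LP (LK LD1_c2 LD2_c47 LD3_c4))
theorem f638904 : Led Lsl_at (LP (LK LD1_c2 LD2_c47 LD3_c4)) = v4770 :=
  Lrfl
theorem f638905 : Led Lsl_af (LP (LK LD1_c2 LD2_c47 LD3_c4)) = v4770 :=
  Lgr Lrot0 (Lpr_at (f638904 IH) (Lpn v4770))
theorem f638907 : Led Lsl_ft (LP (LK LD1_c2 LD2_c47 LD3_c5)) = v4770 :=
  Lgr Lrot2 (Lpr_gt (K50.f68618 IH) (Lpr_gt (K55.f68849 IH) (Lpr_af (f638905 IH) (Lpn v4770))))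
theorem f823419 : Led Lsl_ct v4770 = v24357 :=
  Lgr Lrot40 (Lpe (f638907 IH) (Lpr_cf (K54.f638924 IH) (Lpq (K54.f738100 IH) (Lpr_ff (f823418 IH) (Lpn v24357)))))
def v4771 : LQ := Led Lsl_ct (LP (LK LD1_c2 LD2_c47 LD3_c4))
theorem f638910 : Led Lsl_ct (LP (LK LD1_c2 LD2_c47 LD3_c4)) = v4771 :=
  Lrfl
theorem f638911 : Led Lsl_cf (LP (LK LD1_c2 LD2_c47 LD3_c4)) = v4771 :=
  Lgr Lrot11 (Lpr_ct (f638910 IH) (Lpn v4771))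
theorem f823420 : v4771 = v4696 :=
  (Llr Lrot1 (Lpe (f638911 IH) (Lpr_at (f638904 IH) (Lpr_ct (f823419 IH) (Lpe (f823415 IH) (Lpn v4696)))))).symm
theorem f174283 : Led Lsl_ct (LP (LK LD1_c2 LD2_c46 LD3_c58)) = (LP (LK LD1_c5 LD2_c41 LD3_c55)) :=
  Lre_c IH (LK LD1_c2 LD2_c46 LD3_c58) (LK LD1_c5 LD2_c41 LD3_c55) Lrfl Lrfl
theorem f174320 : Led Lsl_gt (LP (LK LD1_c11 LD2_c14 LD3_c6)) = (LP (LK LD1_c5 LD2_c41 LD3_c55)) :=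
  Lre_g IH (LK LD1_c11 LD2_c14 LD3_c6) (LK LD1_c5 LD2_c41 LD3_c55) Lrfl Lrfl
def v12750 : LQ := Led Lsl_ft (LP (LK LD1_c4 LD2_c30 LD3_c18))
theorem f697972 : Led Lsl_ft (LP (LK LD1_c4 LD2_c30 LD3_c18)) = v12750 :=
  Lrfl
theorem f697976 : Led Lsl_ff (LP (LK LD1_c4 LD2_c30 LD3_c18)) = v12750 :=
  Lgr Lrot3 (Lpr_ft (f697972 IH) (Lpn v12750))
theorem f380701 : Led Lsl_et (LP (LK LD1_c9 LD2_c1 LD3_c29)) = (LP (LK LD1_c4 LD2_c31 LD3_c49)) :=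
  Lre_e IH (LK LD1_c9 LD2_c1 LD3_c29) (LK LD1_c4 LD2_c31 LD3_c49) Lrfl Lrfl
theorem f390214 : Led Lsl_et (LP (LK LD1_c8 LD2_c58 LD3_c48)) = (LP (LK LD1_c16 LD2_c47 LD3_c59)) :=
  Lre_e IH (LK LD1_c8 LD2_c58 LD3_c48) (LK LD1_c16 LD2_c47 LD3_c59) Lrfl Lrfl
theorem f390215 : Led Lsl_bf (LP (LK LD1_c9 LD2_c1 LD3_c29)) = (LP (LK LD1_c16 LD2_c47 LD3_c59)) :=
  Lgr Lrot96 (Lpr_et (f380701 IH) (Lpr_bt (K52.f390206 IH) (Lpr_et (f390214 IH) (Lpn (LP (LK LD1_c16 LD2_c47 LD3_c59))))))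
theorem f390219 : Led Lsl_ct (LP (LK LD1_c9 LD2_c1 LD3_c29)) = (LP (LK LD1_c4 LD2_c31 LD3_c50)) :=
  Lre_c IH (LK LD1_c9 LD2_c1 LD3_c29) (LK LD1_c4 LD2_c31 LD3_c50) Lrfl Lrfl
theorem f390220 : Led Lsl_ct (LP (LK LD1_c8 LD2_c58 LD3_c49)) = (LP (LK LD1_c16 LD2_c47 LD3_c59)) :=
  Lre_c IH (LK LD1_c8 LD2_c58 LD3_c49) (LK LD1_c16 LD2_c47 LD3_c59) Lrfl Lrfl
theorem f390221 : Led Lsl_bt (LP (LK LD1_c4 LD2_c30 LD3_c18)) = (LP (LK LD1_c8 LD2_c58 LD3_c49)) :=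
  Lre_b IH (LK LD1_c4 LD2_c30 LD3_c18) (LK LD1_c8 LD2_c58 LD3_c49) Lrfl Lrfl
theorem f390222 : Led Lsl_ct (LP (LK LD1_c2 LD2_c12 LD3_c57)) = (LP (LK LD1_c4 LD2_c30 LD3_c18)) :=
  Lgr Lrot83 (Lpe (K50.f380653 IH) (Lpe (f390219 IH) (Lpr_bf (f390215 IH) (Lpe (f390220 IH) (Lpe (f390221 IH) (Lpn (LP (LK LD1_c4 LD2_c30 LD3_c18))))))))
theorem f390225 : Led Lsl_af (LP (LK LD1_c2 LD2_c42 LD3_c57)) = (LP (LK LD1_c4 LD2_c30 LD3_c18)) :=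
  Lgr Lrot68 (Lpe (K54.f380489 IH) (Lpr_at (K50.f380636 IH) (Lpr_ct (f390222 IH) (Lpn (LP (LK LD1_c4 LD2_c30 LD3_c18))))))
def v4699 : LQ := Led Lsl_ft (LP (LK LD1_c2 LD2_c42 LD3_c57))
theorem f638525 : Led Lsl_ft (LP (LK LD1_c2 LD2_c42 LD3_c57)) = v4699 :=
  Lrfl
theorem f697978 : Led Lsl_at v4699 = v12750 :=
  Lgr Lrot66 (Lpe (f638525 IH) (Lpr_af (f390225 IH) (Lpr_ff (f697976 IH) (Lpn v12750))))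
theorem f697982 : Led Lsl_gt v4696 = v12750 :=
  Lgr Lrot46 (Lpe (f638518 IH) (Lpr_ft (f638525 IH) (Lpr_at (f697978 IH) (Lpn v12750))))
theorem f390227 : Led Lsl_cf (LP (LK LD1_c2 LD2_c12 LD3_c57)) = (LP (LK LD1_c4 LD2_c30 LD3_c18)) :=
  Lgr Lrot11 (Lpr_ct (f390222 IH) (Lpn (LP (LK LD1_c4 LD2_c30 LD3_c18))))
theorem f697979 : Led Lsl_ct (LP (LK LD1_c4 LD2_c31 LD3_c53)) = v12750 :=
  Lgr Lrot40 (Lpe (K50.f379925 IH) (Lpr_cf (f390227 IH) (Lpr_ff (f697976 IH) (Lpn v12750))))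
theorem f380645 : Led Lsl_at (LP (LK LD1_c5 LD2_c40 LD3_c22)) = (LP (LK LD1_c2 LD2_c46 LD3_c13)) :=
  Lre_a IH (LK LD1_c5 LD2_c40 LD3_c22) (LK LD1_c2 LD2_c46 LD3_c13) Lrfl Lrfl
theorem f380646 : Led Lsl_bt (LP (LK LD1_c2 LD2_c12 LD3_c57)) = (LP (LK LD1_c4 LD2_c31 LD3_c50)) :=
  Lre_b IH (LK LD1_c2 LD2_c12 LD3_c57) (LK LD1_c4 LD2_c31 LD3_c50) Lrfl Lrfl
theorem f613306 : Led Lsl_at (LP (LK LD1_c4 LD2_c31 LD3_c50)) = (LP (LK LD1_c2 LD2_c46 LD3_c20)) :=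
  Lgr Lrot67 (Lpe (f380646 IH) (Lpe (K50.f380636 IH) (Lpe (K55.f380519 IH) (Lpe (f380645 IH) (Lpr_bf (K50.f613304 IH) (Lpn (LP (LK LD1_c2 LD2_c46 LD3_c20))))))))
theorem f289449 : Led Lsl_gt (LP (LK LD1_c5 LD2_c40 LD3_c51)) = (LP (LK LD1_c2 LD2_c46 LD3_c20)) :=
  Lre_g IH (LK LD1_c5 LD2_c40 LD3_c51) (LK LD1_c2 LD2_c46 LD3_c20) Lrfl Lrfl
theorem f613573 : Led Lsl_gt (LP (LK LD1_c9 LD2_c1 LD3_c32)) = (LP (LK LD1_c5 LD2_c40 LD3_c51)) :=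
  Lgr Lrot5 (Lpr_ft (K24.f379926 IH) (Lpr_at (f613306 IH) (Lpe (f289449 IH) (Lpn (LP (LK LD1_c5 LD2_c40 LD3_c51))))))
theorem f289465 : Led Lsl_bt (LP (LK LD1_c11 LD2_c12 LD3_c15)) = (LP (LK LD1_c5 LD2_c40 LD3_c51)) :=
  Lre_b IH (LK LD1_c11 LD2_c12 LD3_c15) (LK LD1_c5 LD2_c40 LD3_c51) Lrfl Lrfl
theorem f823421 : Led Lsl_cf (LP (LK LD1_c11 LD2_c14 LD3_c6)) = (LP (LK LD1_c11 LD2_c12 LD3_c15)) :=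
  Lgr Lrot160 (Lpr_gt (f174320 IH) (Lpe (f174283 IH) (Lpr_bt (K20.f174297 IH) (Lpr_gt (K55.f68849 IH) (Lpr_ct (f638910 IH) (Lpqs (f823420 IH) (Lpr_gt (f697982 IH) (Lpe (f697979 IH) (Lpr_bt (K50.f379917 IH) (Lpr_gt (f613573 IH) (Lpe (f289465 IH) (Lpn (LP (LK LD1_c11 LD2_c12 LD3_c15))))))))))))))
theorem f823422 : Led Lsl_ct (LP (LK LD1_c11 LD2_c12 LD3_c15)) = (LP (LK LD1_c11 LD2_c14 LD3_c6)) :=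
  Leop (Lpr_cf (f823421 IH) (Lpn (LP (LK LD1_c11 LD2_c12 LD3_c15))))
theorem seed_1864 : LEOK LG_c (LK LD1_c11 LD2_c12 LD3_c15) :=
  Leoe_c (LK LD1_c11 LD2_c12 LD3_c15) (f823422 IH)
def v24483 : LQ := Led Lsl_et K54.v4760
theorem f823792 : Led Lsl_et K54.v4760 = v24483 :=
  Lrfl
theorem f823794 : Led Lsl_ef K54.v4760 = v24483 :=
  Lgr Lrot88 (Lpr_et (f823792 IH) (Lpn v24483))
def v4763 : LQ := Led Lsl_et (LP (LK LD1_c2 LD2_c46 LD3_c18))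
theorem f638869 : Led Lsl_et (LP (LK LD1_c2 LD2_c46 LD3_c18)) = v4763 :=
  Lrfl
theorem f823795 : Led Lsl_at v4763 = v24483 :=
  Lgr Lrot80 (Lpe (f638869 IH) (Lpr_af (K54.f638861 IH) (Lpr_ef (f823794 IH) (Lpn v24483))))
theorem f638870 : Led Lsl_ef (LP (LK LD1_c2 LD2_c46 LD3_c18)) = v4763 :=
  Lgr Lrot88 (Lpr_et (f638869 IH) (Lpn v4763))
theorem f172150 : Led Lsl_dt (LP (LK LD1_c1 LD2_c19 LD3_c23)) = (LP (LK LD1_c2 LD2_c46 LD3_c3)) :=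
  Lre_d IH (LK LD1_c1 LD2_c19 LD3_c23) (LK LD1_c2 LD2_c46 LD3_c3) Lrfl Lrfl
def v4757 : LQ := Led Lsl_gf (LP (LK LD1_c2 LD2_c46 LD3_c3))
theorem f638851 : Led Lsl_gf (LP (LK LD1_c2 LD2_c46 LD3_c3)) = v4757 :=
  Lrfl
theorem f638871 : Led Lsl_df v4757 = v4763 :=
  Lgr Lrot170 (Lpe (f638851 IH) (Lpe (f172150 IH) (Lpr_et (K39.f172149 IH) (Lpr_gt (K9.f172033 IH) (Lpr_dt (K1.f41038 IH) (Lpr_gt (K9.f172291 IH) (Lpe (K12.f171267 IH) (Lpr_et (K49.f172310 IH) (Lpr_gt (K49.f172311 IH) (Lpr_ef (f638870 IH) (Lpn v4763)))))))))))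
theorem f638872 : Led Lsl_dt v4757 = v4763 :=
  Lgr Lrot42 (Lpr_df (f638871 IH) (Lpn v4763))
def v4756 : LQ := Led Lsl_gt (LP (LK LD1_c2 LD2_c46 LD3_c3))
def v24475 : LQ := Led Lsl_ft v4756
theorem f823764 : Led Lsl_ft v4756 = v24475 :=
  Lrfl
def v24471 : LQ := Led Lsl_at v4756
theorem f823751 : Led Lsl_at v4756 = v24471 :=
  Lrfl
theorem f823752 : Led Lsl_af v4756 = v24471 :=
  Lgr Lrot0 (Lpr_at (f823751 IH) (Lpn v24471))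
theorem f638850 : Led Lsl_gt (LP (LK LD1_c2 LD2_c46 LD3_c3)) = v4756 :=
  Lrfl
theorem f823753 : Led Lsl_ft v4757 = v24471 :=
  Lgr Lrot2 (Lpe (f638851 IH) (Lpr_gt (f638850 IH) (Lpr_af (f823752 IH) (Lpn v24471))))
theorem f823765 : Led Lsl_af v4757 = v24475 :=
  Lgr Lrot45 (Lpr_ft (f823753 IH) (Lpe (f823752 IH) (Lpr_ft (f823764 IH) (Lpn v24475))))
theorem f823796 : Led Lsl_df v24475 = v24483 :=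
  Lgr Lrot18 (Lpe (f823765 IH) (Lpr_dt (f638872 IH) (Lpr_at (f823795 IH) (Lpn v24483))))
theorem f823766 : Led Lsl_ff v4756 = v24475 :=
  Lgr Lrot3 (Lpr_ft (f823764 IH) (Lpn v24475))
def v24474 : LQ := Led Lsl_dt v4756
theorem f823760 : Led Lsl_dt v4756 = v24474 :=
  Lrfl
theorem f823798 : Led Lsl_ft v24474 = v24483 :=
  Lgr Lrot54 (Lpe (f823760 IH) (Lpr_ff (f823766 IH) (Lpr_df (f823796 IH) (Lpn v24483))))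
theorem f823800 : Led Lsl_ff v24474 = v24483 :=
  Lgr Lrot3 (Lpr_ft (f823798 IH) (Lpn v24483))
theorem f380656 : Led Lsl_et (LP (LK LD1_c5 LD2_c40 LD3_c49)) = (LP (LK LD1_c2 LD2_c46 LD3_c19)) :=
  Lre_e IH (LK LD1_c5 LD2_c40 LD3_c49) (LK LD1_c2 LD2_c46 LD3_c19) Lrfl Lrfl
def v15501 : LQ := Led Lsl_ft (LP (LK LD1_c5 LD2_c40 LD3_c49))
theorem f737784 : Led Lsl_ft (LP (LK LD1_c5 LD2_c40 LD3_c49)) = v15501 :=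
  Lrfl
theorem f737785 : Led Lsl_ff (LP (LK LD1_c5 LD2_c40 LD3_c49)) = v15501 :=
  Lgr Lrot3 (Lpr_ft (f737784 IH) (Lpn v15501))
theorem f823801 : Led Lsl_et v24474 = v15501 :=
  Lgr Lrot69 (Lpr_ff (f823800 IH) (Lpe (f823792 IH) (Lpe (K54.f638862 IH) (Lpe (f380656 IH) (Lpr_ff (f737785 IH) (Lpn v15501))))))
theorem f823761 : Led Lsl_df v4756 = v24474 :=
  Lgr Lrot38 (Lpr_dt (f823760 IH) (Lpn v24474))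
theorem f319432 : Led Lsl_et (LP (LK LD1_c5 LD2_c40 LD3_c16)) = (LP (LK LD1_c2 LD2_c46 LD3_c2)) :=
  Lre_e IH (LK LD1_c5 LD2_c40 LD3_c16) (LK LD1_c2 LD2_c46 LD3_c2) Lrfl Lrfl
theorem f416799 : Led Lsl_gt (LP (LK LD1_c6 LD2_c46 LD3_c34)) = (LP (LK LD1_c3 LD2_c21 LD3_c26)) :=
  Lre_g IH (LK LD1_c6 LD2_c46 LD3_c34) (LK LD1_c3 LD2_c21 LD3_c26) Lrfl Lrfl
theorem f454237 : Led Lsl_gf (LP (LK LD1_c6 LD2_c46 LD3_c34)) = (LP (LK LD1_c6 LD2_c46 LD3_c53)) :=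
  Lgr Lrot47 (Lpr_gt (f416799 IH) (Lpe (K24.f454207 IH) (Lpr_ff (K24.f454209 IH) (Lpn (LP (LK LD1_c6 LD2_c46 LD3_c53))))))
theorem f643238 : Led Lsl_df (LP (LK LD1_c6 LD2_c46 LD3_c34)) = (LP (LK LD1_c5 LD2_c40 LD3_c16)) :=
  Lgr Lrot132 (Lpr_gf (f454237 IH) (Lpr_df (K46.f643234 IH) (Lpe (K41.f319431 IH) (Lpe (K20.f319430 IH) (Lpr_dt (K20.f172330 IH) (Lpr_gf (K20.f319414 IH) (Lpe (K9.f165210 IH) (Lpr_et (K53.f172039 IH) (Lpe (K53.f172050 IH) (Lpe (f319432 IH) (Lpn (LP (LK LD1_c5 LD2_c40 LD3_c16)))))))))))))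
theorem f823803 : Led Lsl_gf (LP (LK LD1_c11 LD2_c7 LD3_c0)) = v15501 :=
  Lgr Lrot141 (Lpe (K56.f319438 IH) (Lpe (K46.f643234 IH) (Lpe (f454237 IH) (Lpr_df (f643238 IH) (Lpr_et (f319432 IH) (Lpr_gt (K53.f172050 IH) (Lpr_dt (f172150 IH) (Lpr_gt (f638850 IH) (Lpr_df (f823761 IH) (Lpr_et (f823801 IH) (Lpn v15501)))))))))))
def v15499 : LQ := Led Lsl_at (LP (LK LD1_c5 LD2_c40 LD3_c49))
theorem f737776 : Led Lsl_at (LP (LK LD1_c5 LD2_c40 LD3_c49)) = v15499 :=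
  Lrfl
theorem f823804 : (LP (LK LD1_c9 LD2_c1 LD3_c37)) = v15499 :=
  (Llr Lrot46 (Lpr_gf (K57.f756412 IH) (Lpr_gf (f823803 IH) (Lpe (f737785 IH) (Lpr_at (f737776 IH) (Lpn v15499)))))).symm
theorem f737777 : Led Lsl_af (LP (LK LD1_c5 LD2_c40 LD3_c49)) = v15499 :=
  Lgr Lrot0 (Lpr_at (f737776 IH) (Lpn v15499))
theorem f823805 : Led Lsl_at (LP (LK LD1_c9 LD2_c1 LD3_c37)) = (LP (LK LD1_c5 LD2_c40 LD3_c49)) :=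
  Leop (Lpr_af (f737777 IH) (Lpq (f823804 IH) (Lpn (LP (LK LD1_c9 LD2_c1 LD3_c37)))))
theorem seed_1865 : LEOK LG_a (LK LD1_c9 LD2_c1 LD3_c37) :=
  Leoe_a (LK LD1_c9 LD2_c1 LD3_c37) (f823805 IH)
def v24499 : LQ := Led Lsl_gt K54.v4769
theorem f823981 : Led Lsl_gt K54.v4769 = v24499 :=
  Lrfl
theorem f737911 : Led Lsl_ft K54.v4769 = K55.v15537 :=
  Lgr Lrot48 (Lpr_ff (K55.f737909 IH) (Lpn K55.v15537))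
theorem f379985 : Led Lsl_at (LP (LK LD1_c9 LD2_c1 LD3_c56)) = (LP (LK LD1_c5 LD2_c41 LD3_c14)) :=
  Lgr Lrot100 (Lpr_af (K40.f379978 IH) (Lpn (LP (LK LD1_c5 LD2_c41 LD3_c14))))
theorem f737907 : Led Lsl_af (LP (LK LD1_c11 LD2_c31 LD3_c21)) = K55.v15537 :=
  Lgr Lrot68 (Lpe (K55.f613766 IH) (Lpr_at (f379985 IH) (Lpr_ct (K55.f737906 IH) (Lpn K55.v15537))))
theorem f823983 : Led Lsl_gf (LP (LK LD1_c11 LD2_c31 LD3_c21)) = v24499 :=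
  Lgr Lrot76 (Lpr_af (f737907 IH) (Lpe (f737911 IH) (Lpr_gt (f823981 IH) (Lpn v24499))))
theorem f12970 : Led Lsl_bt (LP (LK LD1_c7 LD2_c26 LD3_c41)) = (LP (LK LD1_c14 LD2_c3 LD3_c61)) :=
  Lre_b IH (LK LD1_c7 LD2_c26 LD3_c41) (LK LD1_c14 LD2_c3 LD3_c61) Lrfl Lrfl
theorem f613762 : Led Lsl_ct (LP (LK LD1_c9 LD2_c1 LD3_c56)) = (LP (LK LD1_c11 LD2_c31 LD3_c21)) :=
  Lgr Lrot83 (Lpe (K56.f379984 IH) (Lpr_cf (K55.f613759 IH) (Lpe (f12970 IH) (Lpe (K54.f206374 IH) (Lpr_bf (K54.f22647 IH) (Lpn (LP (LK LD1_c11 LD2_c31 LD3_c21))))))))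
theorem f823985 : Led Lsl_ct K55.v4780 = v24499 :=
  Lgr Lrot152 (Lpe (K55.f638942 IH) (Lpe (K55.f174238 IH) (Lpr_gt (K51.f179932 IH) (Lpr_ct (K52.f638926 IH) (Lpqs (K52.f714311 IH) (Lpe (K52.f319892 IH) (Lpe (K40.f380000 IH) (Lpe (K40.f379982 IH) (Lpr_cf (K55.f613766 IH) (Lpr_gf (f823983 IH) (Lpn v24499)))))))))))
theorem f412083 : Led Lsl_bt (LP (LK LD1_c5 LD2_c42 LD3_c59)) = (LP (LK LD1_c2 LD2_c47 LD3_c31)) :=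
  Lre_b IH (LK LD1_c5 LD2_c42 LD3_c59) (LK LD1_c2 LD2_c47 LD3_c31) Lrfl Lrfl
theorem f638945 : Led Lsl_ct (LP (LK LD1_c5 LD2_c42 LD3_c59)) = (LP (LK LD1_c11 LD2_c16 LD3_c16)) :=
  Lre_c IH (LK LD1_c5 LD2_c42 LD3_c59) (LK LD1_c11 LD2_c16 LD3_c16) Lrfl Lrfl
theorem f614373 : Led Lsl_gt (LP (LK LD1_c20 LD2_c12 LD3_c16)) = (LP (LK LD1_c11 LD2_c16 LD3_c16)) :=
  Lre_g IH (LK LD1_c20 LD2_c12 LD3_c16) (LK LD1_c11 LD2_c16 LD3_c16) Lrfl Lrfl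
theorem f638946 : Led Lsl_ct (LP (LK LD1_c29 LD2_c21 LD3_c44)) = (LP (LK LD1_c20 LD2_c12 LD3_c16)) :=
  Lre_c IH (LK LD1_c29 LD2_c21 LD3_c44) (LK LD1_c20 LD2_c12 LD3_c16) Lrfl Lrfl
theorem f823987 : Led Lsl_bf (LP (LK LD1_c20 LD2_c24 LD3_c25)) = (LP (LK LD1_c29 LD2_c21 LD3_c44)) :=
  Lgr Lrot34 (Lpe (K55.f742222 IH) (Lpe (K55.f379987 IH) (Lpr_ct (f613762 IH) (Lpr_gf (f823983 IH) (Lpe (f823985 IH) (Lpe (K55.f638942 IH) (Lpe (f412083 IH) (Lpr_ct (f638945 IH) (Lpe (f614373 IH) (Lpe (f638946 IH) (Lpn (LP (LK LD1_c29 LD2_c21 LD3_c44)))))))))))))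
theorem f823988 : Led Lsl_bt (LP (LK LD1_c29 LD2_c21 LD3_c44)) = (LP (LK LD1_c20 LD2_c24 LD3_c25)) :=
  Leop (Lpr_bf (f823987 IH) (Lpn (LP (LK LD1_c29 LD2_c21 LD3_c44))))
theorem seed_1866 : LEOK LG_b (LK LD1_c29 LD2_c21 LD3_c44) :=
  Leoe_b (LK LD1_c29 LD2_c21 LD3_c44) (f823988 IH)
def v24503 : LQ := Led Lsl_et v4770
theorem f824016 : Led Lsl_et v4770 = v24503 :=
  Lrfl
theorem f824017 : Led Lsl_af K55.v4772 = v24503 :=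
  Lgr Lrot50 (Lpe (K55.f638913 IH) (Lpr_at (f638904 IH) (Lpr_et (f824016 IH) (Lpn v24503))))
theorem f174289 : Led Lsl_dt (LP (LK LD1_c2 LD2_c47 LD3_c4)) = (LP (LK LD1_c5 LD2_c42 LD3_c13)) :=
  Lre_d IH (LK LD1_c2 LD2_c47 LD3_c4) (LK LD1_c5 LD2_c42 LD3_c13) Lrfl Lrfl
theorem f140679 : Led Lsl_et (LP (LK LD1_c2 LD2_c48 LD3_c49)) = (LP (LK LD1_c1 LD2_c20 LD3_c30)) :=
  Lre_e IH (LK LD1_c2 LD2_c48 LD3_c49) (LK LD1_c1 LD2_c20 LD3_c30) Lrfl Lrfl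
theorem f638914 : Led Lsl_gt (LP (LK LD1_c2 LD2_c57 LD3_c38)) = K55.v4772 :=
  Lgr Lrot131 (Lpe (K55.f501119 IH) (Lpr_dt (K32.f140711 IH) (Lpe (K9.f23899 IH) (Lpe (K17.f140250 IH) (Lpe (K1.f59814 IH) (Lpe (f140679 IH) (Lpr_dt (K50.f140687 IH) (Lpe (K50.f140683 IH) (Lpe (f174289 IH) (Lpr_et (K55.f638912 IH) (Lpn K55.v4772)))))))))))
def v5099 : LQ := Led Lsl_gf (LP (LK LD1_c2 LD2_c57 LD3_c38))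
theorem f645929 : Led Lsl_gf (LP (LK LD1_c2 LD2_c57 LD3_c38)) = v5099 :=
  Lrfl
theorem f824020 : Led Lsl_ft v5099 = v24503 :=
  Lgr Lrot2 (Lpe (f645929 IH) (Lpr_gt (f638914 IH) (Lpr_af (f824017 IH) (Lpn v24503))))
theorem f824022 : Led Lsl_ff v5099 = v24503 :=
  Lgr Lrot3 (Lpr_ft (f824020 IH) (Lpn v24503))
def v15572 : LQ := Led Lsl_ft (LP (LK LD1_c5 LD2_c42 LD3_c16))
theorem f738107 : Led Lsl_ft (LP (LK LD1_c5 LD2_c42 LD3_c16)) = v15572 :=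
  Lrfl
theorem f738108 : Led Lsl_ff (LP (LK LD1_c5 LD2_c42 LD3_c16)) = v15572 :=
  Lgr Lrot3 (Lpr_ft (f738107 IH) (Lpn v15572))
theorem f824023 : Led Lsl_et v5099 = v15572 :=
  Lgr Lrot69 (Lpr_ff (f824022 IH) (Lpe (f824016 IH) (Lpe (f638907 IH) (Lpe (K50.f68674 IH) (Lpr_ff (f738108 IH) (Lpn v15572))))))
def v4801 : LQ := Led Lsl_gt (LP (LK LD1_c2 LD2_c48 LD3_c32))
theorem f639061 : Led Lsl_gt (LP (LK LD1_c2 LD2_c48 LD3_c32)) = v4801 :=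
  Lrfl
theorem f645931 : Led Lsl_df (LP (LK LD1_c2 LD2_c57 LD3_c38)) = K50.v5100 :=
  Lgr Lrot38 (Lpr_dt (K50.f645930 IH) (Lpn K50.v5100))
theorem f645934 : Led Lsl_dt v4801 = v5099 :=
  Lgr Lrot171 (Lpe (f639061 IH) (Lpe (K18.f168235 IH) (Lpr_dt (K17.f56560 IH) (Lpr_gf (K9.f168209 IH) (Lpe (K9.f8393 IH) (Lpr_et (K46.f23897 IH) (Lpe (K0.f23875 IH) (Lpr_ef (K55.f645932 IH) (Lpe (f645931 IH) (Lpr_gf (f645929 IH) (Lpn v5099)))))))))))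
theorem f645935 : Led Lsl_df v4801 = v5099 :=
  Lgr Lrot38 (Lpr_dt (f645934 IH) (Lpn v5099))
theorem f168302 : Led Lsl_et (LP (LK LD1_c5 LD2_c45 LD3_c34)) = (LP (LK LD1_c2 LD2_c48 LD3_c31)) :=
  Lre_e IH (LK LD1_c5 LD2_c45 LD3_c34) (LK LD1_c2 LD2_c48 LD3_c31) Lrfl Lrfl
theorem f211855 : Led Lsl_gt (LP (LK LD1_c11 LD2_c6 LD3_c34)) = (LP (LK LD1_c11 LD2_c21 LD3_c35)) :=
  Lgr Lrot139 (Lpe (K55.f211854 IH) (Lpe (K50.f211853 IH) (Lpe (K17.f172683 IH) (Lpr_dt (K12.f172675 IH) (Lpr_gf (K12.f211846 IH) (Lpr_df (K9.f168223 IH) (Lpr_et (K18.f168225 IH) (Lpe (K55.f168238 IH) (Lpe (f168302 IH) (Lpr_dt (K60.f168303 IH) (Lpn (LP (LK LD1_c11 LD2_c21 LD3_c35)))))))))))))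
theorem f824025 : Led Lsl_gf (LP (LK LD1_c11 LD2_c6 LD3_c35)) = v15572 :=
  Lgr Lrot141 (Lpe (K50.f211866 IH) (Lpr_dt (K55.f211854 IH) (Lpr_gt (f211855 IH) (Lpe (K60.f168303 IH) (Lpr_et (f168302 IH) (Lpr_gt (K55.f168238 IH) (Lpr_dt (K18.f168226 IH) (Lpr_gt (f639061 IH) (Lpr_df (f645935 IH) (Lpr_et (f824023 IH) (Lpn v15572)))))))))))
def v15570 : LQ := Led Lsl_at (LP (LK LD1_c5 LD2_c42 LD3_c16))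
theorem f738085 : Led Lsl_at (LP (LK LD1_c5 LD2_c42 LD3_c16)) = v15570 :=
  Lrfl
theorem f824027 : (LP (LK LD1_c9 LD2_c2 LD3_c18)) = v15570 :=
  (Llr Lrot46 (Lpe (K55.f211880 IH) (Lpr_gf (f824025 IH) (Lpe (f738108 IH) (Lpr_at (f738085 IH) (Lpn v15570)))))).symm
theorem f738086 : Led Lsl_af (LP (LK LD1_c5 LD2_c42 LD3_c16)) = v15570 :=
  Lgr Lrot0 (Lpr_at (f738085 IH) (Lpn v15570))
theorem f824028 : Led Lsl_at (LP (LK LD1_c9 LD2_c2 LD3_c18)) = (LP (LK LD1_c5 LD2_c42 LD3_c16)) :=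
  Leop (Lpr_af (f738086 IH) (Lpq (f824027 IH) (Lpn (LP (LK LD1_c9 LD2_c2 LD3_c18)))))
theorem seed_1867 : LEOK LG_a (LK LD1_c9 LD2_c2 LD3_c18) :=
  Leoe_a (LK LD1_c9 LD2_c2 LD3_c18) (f824028 IH)
def v4776 : LQ := Led Lsl_dt (LP (LK LD1_c2 LD2_c47 LD3_c29))
def v24504 : LQ := Led Lsl_gt v4776
theorem f824184 : Led Lsl_gt v4776 = v24504 :=
  Lrfl
theorem f638930 : Led Lsl_dt (LP (LK LD1_c2 LD2_c47 LD3_c29)) = v4776 :=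
  Lrfl
theorem f408211 : Led Lsl_et (LP (LK LD1_c1 LD2_c3 LD3_c54)) = (LP (LK LD1_c2 LD2_c13 LD3_c48)) :=
  Lre_e IH (LK LD1_c1 LD2_c3 LD3_c54) (LK LD1_c2 LD2_c13 LD3_c48) Lrfl Lrfl
theorem f507662 : Led Lsl_et (LP (LK LD1_c9 LD2_c5 LD3_c20)) = (LP (LK LD1_c4 LD2_c33 LD3_c54)) :=
  Lre_e IH (LK LD1_c9 LD2_c5 LD3_c20) (LK LD1_c4 LD2_c33 LD3_c54) Lrfl Lrfl
theorem f824186 : Led Lsl_dt (LP (LK LD1_c9 LD2_c5 LD3_c20)) = v24504 :=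
  Lgr Lrot56 (Lpr_et (f507662 IH) (Lpr_gt (K53.f175406 IH) (Lpe (f408211 IH) (Lpr_dt (K9.f172299 IH) (Lpr_gt (K9.f172409 IH) (Lpe (K9.f172420 IH) (Lpr_et (K51.f281547 IH) (Lpr_gt (K51.f179932 IH) (Lpr_dt (f638930 IH) (Lpr_gt (f824184 IH) (Lpn v24504)))))))))))
def v12834 : LQ := Led Lsl_dt (LP (LK LD1_c4 LD2_c32 LD3_c44))
theorem f698469 : Led Lsl_dt (LP (LK LD1_c4 LD2_c32 LD3_c44)) = v12834 :=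
  Lrfl
theorem f638931 : Led Lsl_df (LP (LK LD1_c2 LD2_c47 LD3_c29)) = v4776 :=
  Lgr Lrot38 (Lpr_dt (f638930 IH) (Lpn v4776))
theorem f698473 : Led Lsl_ff v4776 = v12834 :=
  Lgr Lrot19 (Lpe (f638931 IH) (Lpe (K51.f507663 IH) (Lpr_dt (f698469 IH) (Lpn v12834))))
theorem f698475 : Led Lsl_ft v4776 = v12834 :=
  Lgr Lrot48 (Lpr_ff (f698473 IH) (Lpn v12834))
def v4779 : LQ := Led Lsl_dt (LP (LK LD1_c2 LD2_c47 LD3_c30))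
theorem f638938 : Led Lsl_dt (LP (LK LD1_c2 LD2_c47 LD3_c30)) = v4779 :=
  Lrfl
theorem f638939 : Led Lsl_df (LP (LK LD1_c2 LD2_c47 LD3_c30)) = v4779 :=
  Lgr Lrot38 (Lpr_dt (f638938 IH) (Lpn v4779))
theorem f698470 : Led Lsl_af v4779 = v12834 :=
  Lgr Lrot117 (Lpe (f638939 IH) (Lpe (K51.f507655 IH) (Lpr_dt (f698469 IH) (Lpn v12834))))
theorem f824185 : Led Lsl_gf v4779 = v24504 :=
  Lgr Lrot76 (Lpr_af (f698470 IH) (Lpe (f698475 IH) (Lpr_gt (f824184 IH) (Lpn v24504))))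
theorem f691551 : Led Lsl_ff (LP (LK LD1_c4 LD2_c5 LD3_c46)) = K49.v12333 :=
  Lgr Lrot3 (Lpr_ft (K49.f691548 IH) (Lpn K49.v12333))
theorem f691571 : Led Lsl_gf (LP (LK LD1_c6 LD2_c7 LD3_c47)) = K49.v12333 :=
  Lgr Lrot47 (Lpr_gt (K46.f183453 IH) (Lpe (K49.f385312 IH) (Lpr_ff (f691551 IH) (Lpn K49.v12333))))
theorem f198643 : Led Lsl_cf (LP (LK LD1_c2 LD2_c0 LD3_c11)) = (LP (LK LD1_c2 LD2_c39 LD3_c41)) :=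
  Lgr Lrot14 (Lpe (K17.f179888 IH) (Lpe (K9.f182470 IH) (Lpe (K9.f22400 IH) (Lpr_gf (K11.f198637 IH) (Lpr_ct (K9.f183083 IH) (Lpe (K9.f183074 IH) (Lpr_dt (K2.f55350 IH) (Lpr_gt (K9.f183050 IH) (Lpr_dt (K17.f183056 IH) (Lpn (LP (LK LD1_c2 LD2_c39 LD3_c41))))))))))))
theorem f285954 : Led Lsl_ft (LP (LK LD1_c2 LD2_c0 LD3_c11)) = (LP (LK LD1_c1 LD2_c25 LD3_c46)) :=
  Lgr Lrot4 (Lpr_cf (f198643 IH) (Lpr_ff (K17.f285950 IH) (Lpr_cf (K13.f183421 IH) (Lpn (LP (LK LD1_c1 LD2_c25 LD3_c46))))))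
theorem f691570 : Led Lsl_et K55.v5161 = K49.v12333 :=
  Lgr Lrot69 (Lpe (K55.f646281 IH) (Lpe (K18.f175947 IH) (Lpe (f285954 IH) (Lpe (K40.f185068 IH) (Lpr_ff (f691551 IH) (Lpn K49.v12333))))))
theorem f646283 : Led Lsl_df K55.v4181 = K55.v5161 :=
  Lgr Lrot78 (Lpe (K55.f631682 IH) (Lpe (K18.f175958 IH) (Lpr_ft (K55.f646281 IH) (Lpn K55.v5161))))
def v7971 : LQ := Led Lsl_dt K55.v1503
theorem f669162 : Led Lsl_dt K55.v1503 = v7971 :=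
  Lrfl
theorem f669163 : Led Lsl_df K55.v1503 = v7971 :=
  Lgr Lrot38 (Lpr_dt (f669162 IH) (Lpn v7971))
theorem f691573 : Led Lsl_gt K55.v5170 = v7971 :=
  Lgr Lrot137 (Lpe (K55.f646340 IH) (Lpr_dt (K9.f22985 IH) (Lpe (K35.f22991 IH) (Lpe (K46.f22992 IH) (Lpe (K46.f645380 IH) (Lpr_gf (f691571 IH) (Lpe (f691570 IH) (Lpe (f646283 IH) (Lpe (K55.f631687 IH) (Lpr_df (f669163 IH) (Lpn v7971)))))))))))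
def v15792 : LQ := Led Lsl_ft (LP (LK LD1_c5 LD2_c46 LD3_c17))
theorem f741565 : Led Lsl_ft (LP (LK LD1_c5 LD2_c46 LD3_c17)) = v15792 :=
  Lrfl
theorem f741567 : Led Lsl_ff (LP (LK LD1_c5 LD2_c46 LD3_c17)) = v15792 :=
  Lgr Lrot3 (Lpr_ft (f741565 IH) (Lpn v15792))
theorem f501098 : Led Lsl_et (LP (LK LD1_c5 LD2_c46 LD3_c17)) = (LP (LK LD1_c2 LD2_c48 LD3_c52)) :=
  Lre_e IH (LK LD1_c5 LD2_c46 LD3_c17) (LK LD1_c2 LD2_c48 LD3_c52) Lrfl Lrfl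
theorem f741510 : Led Lsl_ef K55.v4824 = K55.v15779 :=
  Lgr Lrot20 (Lpe (K55.f640480 IH) (Lpr_et (K17.f180471 IH) (Lpr_at (K55.f741507 IH) (Lpn K55.v15779))))
theorem f741511 : Led Lsl_et K55.v4824 = K55.v15779 :=
  Lgr Lrot87 (Lpr_ef (f741510 IH) (Lpn K55.v15779))
theorem f741515 : Led Lsl_ff (LP (LK LD1_c10 LD2_c3 LD3_c1)) = K55.v15779 :=
  Lgr Lrot3 (Lpr_ft (K55.f741513 IH) (Lpn K55.v15779))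
theorem f741568 : Led Lsl_et (LP (LK LD1_c10 LD2_c3 LD3_c1)) = v15792 :=
  Lgr Lrot69 (Lpr_ff (f741515 IH) (Lpe (f741511 IH) (Lpe (K55.f640483 IH) (Lpe (f501098 IH) (Lpr_ff (f741567 IH) (Lpn v15792))))))
theorem f164987 : Led Lsl_dt (LP (LK LD1_c10 LD2_c3 LD3_c1)) = (LP (LK LD1_c5 LD2_c6 LD3_c0)) :=
  Lre_d IH (LK LD1_c10 LD2_c3 LD3_c1) (LK LD1_c5 LD2_c6 LD3_c0) Lrfl Lrfl
def v5101 : LQ := Led Lsl_ft (LP (LK LD1_c2 LD2_c57 LD3_c38))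
theorem f645936 : Led Lsl_ft (LP (LK LD1_c2 LD2_c57 LD3_c38)) = v5101 :=
  Lrfl
theorem f645937 : Led Lsl_ef (LP (LK LD1_c5 LD2_c37 LD3_c16)) = v5101 :=
  Lgr Lrot21 (Lpr_ft (K53.f645815 IH) (Lpr_et (K54.f494517 IH) (Lpq (K50.f645306 IH) (Lpe (K50.f501123 IH) (Lpr_et (K55.f501119 IH) (Lpr_ft (f645936 IH) (Lpn v5101)))))))
theorem f741030 : Led Lsl_dt v5101 = K55.v15711 :=
  Lgr Lrot60 (Lpe (f645936 IH) (Lpr_df (f645931 IH) (Lpr_ff (K55.f741029 IH) (Lpn K55.v15711))))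
theorem f741042 : Led Lsl_gt v7971 = K55.v15711 :=
  Lgr Lrot139 (Lpe (f669162 IH) (Lpe (K55.f495919 IH) (Lpe (K18.f168225 IH) (Lpe (K9.f168223 IH) (Lpr_gf (K9.f168189 IH) (Lpe (K9.f7895 IH) (Lpr_et (K17.f164734 IH) (Lpe (K53.f164771 IH) (Lpr_ef (f645937 IH) (Lpr_dt (f741030 IH) (Lpn K55.v15711)))))))))))
theorem f741569 : Led Lsl_gf K55.v7972 = v15792 :=
  Lgr Lrot141 (Lpe (K55.f669164 IH) (Lpr_dt (f669162 IH) (Lpr_gt (f741042 IH) (Lpe (f741030 IH) (Lpe (f645937 IH) (Lpr_gt (K53.f164771 IH) (Lpr_dt (K17.f164737 IH) (Lpr_gt (K54.f164766 IH) (Lpe (f164987 IH) (Lpr_et (f741568 IH) (Lpn v15792)))))))))))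
def v15790 : LQ := Led Lsl_at (LP (LK LD1_c5 LD2_c46 LD3_c17))
theorem f741556 : Led Lsl_at (LP (LK LD1_c5 LD2_c46 LD3_c17)) = v15790 :=
  Lrfl
theorem f741570 : Led Lsl_gt K55.v7972 = v15790 :=
  Lgr Lrot46 (Lpr_gf (f741569 IH) (Lpe (f741567 IH) (Lpr_at (f741556 IH) (Lpn v15790))))
theorem f824188 : (LP (LK LD1_c9 LD2_c5 LD3_c20)) = v15790 :=
  (Llr Lrot135 (Lpr_dt (f824186 IH) (Lpe (f824185 IH) (Lpe (f638938 IH) (Lpe (K51.f507658 IH) (Lpr_gt (K35.f140108 IH) (Lpr_ef (K55.f632048 IH) (Lpr_dt (K55.f646345 IH) (Lpr_gt (f691573 IH) (Lpe (f669162 IH) (Lpr_et (K55.f669164 IH) (Lpr_gt (f741570 IH) (Lpn v15790))))))))))))).symm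
theorem f741557 : Led Lsl_af (LP (LK LD1_c5 LD2_c46 LD3_c17)) = v15790 :=
  Lgr Lrot0 (Lpr_at (f741556 IH) (Lpn v15790))
theorem f824189 : Led Lsl_at (LP (LK LD1_c9 LD2_c5 LD3_c20)) = (LP (LK LD1_c5 LD2_c46 LD3_c17)) :=
  Leop (Lpr_af (f741557 IH) (Lpq (f824188 IH) (Lpn (LP (LK LD1_c9 LD2_c5 LD3_c20)))))
theorem seed_1868 : LEOK LG_a (LK LD1_c9 LD2_c5 LD3_c20) :=
  Leoe_a (LK LD1_c9 LD2_c5 LD3_c20) (f824189 IH)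
def v14531 : LQ := Led Lsl_at (LP (LK LD1_c5 LD2_c12 LD3_c31))
theorem f723074 : Led Lsl_at (LP (LK LD1_c5 LD2_c12 LD3_c31)) = v14531 :=
  Lrfl
theorem f723075 : Led Lsl_af (LP (LK LD1_c5 LD2_c12 LD3_c31)) = v14531 :=
  Lgr Lrot0 (Lpr_at (f723074 IH) (Lpn v14531))
theorem f723077 : Led Lsl_ft (LP (LK LD1_c5 LD2_c12 LD3_c32)) = v14531 :=
  Lgr Lrot2 (Lpr_gt (K50.f186191 IH) (Lpr_gt (K50.f387381 IH) (Lpr_af (f723075 IH) (Lpn v14531))))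
def v12882 : LQ := Led Lsl_ft (LP (LK LD1_c4 LD2_c33 LD3_c53))
theorem f698798 : Led Lsl_ft (LP (LK LD1_c4 LD2_c33 LD3_c53)) = v12882 :=
  Lrfl
theorem f698800 : Led Lsl_ff (LP (LK LD1_c4 LD2_c33 LD3_c53)) = v12882 :=
  Lgr Lrot3 (Lpr_ft (f698798 IH) (Lpn v12882))
def v4825 : LQ := Led Lsl_ft (LP (LK LD1_c2 LD2_c48 LD3_c51))
theorem f640487 : Led Lsl_ft (LP (LK LD1_c2 LD2_c48 LD3_c51)) = v4825 :=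
  Lrfl
theorem f640488 : Led Lsl_af (LP (LK LD1_c2 LD2_c48 LD3_c52)) = v4825 :=
  Lgr Lrot45 (Lpr_ft (K55.f640483 IH) (Lpe (K55.f640480 IH) (Lpr_ft (f640487 IH) (Lpn v4825))))
def v12880 : LQ := Led Lsl_at (LP (LK LD1_c4 LD2_c33 LD3_c53))
theorem f698786 : Led Lsl_at (LP (LK LD1_c4 LD2_c33 LD3_c53)) = v12880 :=
  Lrfl
theorem f698787 : Led Lsl_af (LP (LK LD1_c4 LD2_c33 LD3_c53)) = v12880 :=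
  Lgr Lrot0 (Lpr_at (f698786 IH) (Lpn v12880))
theorem f698789 : Led Lsl_ft (LP (LK LD1_c4 LD2_c33 LD3_c54)) = v12880 :=
  Lgr Lrot2 (Lpr_gt (K53.f175406 IH) (Lpr_gt (K54.f186211 IH) (Lpr_af (f698787 IH) (Lpn v12880))))
theorem f698790 : Led Lsl_ff (LP (LK LD1_c4 LD2_c33 LD3_c54)) = v12880 :=
  Lgr Lrot3 (Lpr_ft (f698789 IH) (Lpn v12880))
theorem f698801 : Led Lsl_at (LP (LK LD1_c4 LD2_c33 LD3_c54)) = v12882 :=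
  Lgr Lrot66 (Lpr_ff (f698790 IH) (Lpe (f698786 IH) (Lpr_ff (f698800 IH) (Lpn v12882))))
theorem f741558 : Led Lsl_ef v4825 = v15790 :=
  Lgr Lrot20 (Lpe (f640488 IH) (Lpr_et (K55.f27005 IH) (Lpr_at (f741556 IH) (Lpn v15790))))
theorem f824191 : v4825 = (LP (LK LD1_c4 LD2_c33 LD3_c54)) :=
  Lefun (Lecon (Lfl_ef (f741558 IH)) (f824188 IH).symm) (f507662 IH)
theorem f824192 : (LP (LK LD1_c2 LD2_c48 LD3_c52)) = v12882 :=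
  Lefun (Lecon (Lfl_af (f640488 IH)) (f824191 IH)) (f698801 IH)
theorem f824210 : (LP (LK LD1_c4 LD2_c33 LD3_c53)) = K55.v4824 :=
  Lefun (Lecon (Lfl_ff (f698800 IH)) (f824192 IH).symm) (K55.f640483 IH)
theorem f824231 : K55.v15779 = (LP (LK LD1_c9 LD2_c5 LD3_c17)) :=
  Lefun (Lecon (f741511 IH) (f824210 IH).symm) (K56.f408208 IH)
theorem f824236 : K55.v14309 = (LP (LK LD1_c5 LD2_c12 LD3_c32)) :=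
  Lefun (Lecon (Lfl_df (K55.f741509 IH)) (f824231 IH)) (Lfl_df (K50.f408195 IH))
theorem f824240 : (LP (LK LD1_c5 LD2_c6 LD3_c0)) = v14531 :=
  Lefun (Lecon (Lfl_ff (K55.f721851 IH)) (f824236 IH)) (f723077 IH)
theorem f646969 : Led Lsl_et (LP (LK LD1_c5 LD2_c6 LD3_c0)) = (LP (LK LD1_c10 LD2_c3 LD3_c2)) :=
  Lre_e IH (LK LD1_c5 LD2_c6 LD3_c0) (LK LD1_c10 LD2_c3 LD3_c2) Lrfl Lrfl
theorem f824306 : Led Lsl_af (LP (LK LD1_c10 LD2_c15 LD3_c30)) = (LP (LK LD1_c10 LD2_c3 LD3_c2)) :=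
  Lgr Lrot50 (Lpr_et (K50.f387391 IH) (Lpr_at (f723074 IH) (Lpq (f824240 IH) (Lpr_et (f646969 IH) (Lpn (LP (LK LD1_c10 LD2_c3 LD3_c2)))))))
def v5305 : LQ := Led Lsl_gf (LP (LK LD1_c3 LD2_c5 LD3_c30))
theorem f646965 : Led Lsl_gf (LP (LK LD1_c3 LD2_c5 LD3_c30)) = v5305 :=
  Lrfl
theorem f185797 : Led Lsl_et (LP (LK LD1_c10 LD2_c3 LD3_c2)) = (LP (LK LD1_c5 LD2_c6 LD3_c0)) :=
  Lre_e IH (LK LD1_c10 LD2_c3 LD3_c2) (LK LD1_c5 LD2_c6 LD3_c0) Lrfl Lrfl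
theorem f646966 : Led Lsl_dt (LP (LK LD1_c10 LD2_c3 LD3_c2)) = v5305 :=
  Lgr Lrot136 (Lpr_et (f185797 IH) (Lpe (K54.f164766 IH) (Lpe (K17.f164748 IH) (Lpr_dt (K9.f164735 IH) (Lpe (K10.f164751 IH) (Lpe (K10.f166251 IH) (Lpr_gf (K10.f185765 IH) (Lpe (K36.f185781 IH) (Lpe (K36.f185789 IH) (Lpr_gf (f646965 IH) (Lpn v5305)))))))))))
theorem f646968 : Led Lsl_df (LP (LK LD1_c10 LD2_c3 LD3_c2)) = v5305 :=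
  Lgr Lrot38 (Lpr_dt (f646966 IH) (Lpn v5305))
theorem f824310 : Led Lsl_at K50.v13203 = v5305 :=
  Lgr Lrot51 (Lpe (K50.f701653 IH) (Lpr_af (f824306 IH) (Lpr_df (f646968 IH) (Lpn v5305))))
def v13204 : LQ := Led Lsl_ft (LP (LK LD1_c4 LD2_c41 LD3_c34))
theorem f701660 : Led Lsl_ft (LP (LK LD1_c4 LD2_c41 LD3_c34)) = v13204 :=
  Lrfl
theorem f701664 : Led Lsl_ff (LP (LK LD1_c4 LD2_c41 LD3_c34)) = v13204 :=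
  Lgr Lrot3 (Lpr_ft (f701660 IH) (Lpn v13204))
theorem f302553 : Led Lsl_af (LP (LK LD1_c3 LD2_c5 LD3_c30)) = (LP (LK LD1_c4 LD2_c41 LD3_c34)) :=
  Lgr Lrot50 (Lpr_et (K50.f179944 IH) (Lpr_at (K18.f302549 IH) (Lpr_et (K50.f166393 IH) (Lpn (LP (LK LD1_c4 LD2_c41 LD3_c34))))))
theorem f701669 : Led Lsl_gf v5305 = v13204 :=
  Lgr Lrot47 (Lpe (f646965 IH) (Lpr_af (f302553 IH) (Lpr_ff (f701664 IH) (Lpn v13204))))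
theorem f701666 : Led Lsl_at K50.v5306 = v13204 :=
  Lgr Lrot66 (Lpe (K50.f646971 IH) (Lpr_af (f302553 IH) (Lpr_ff (f701664 IH) (Lpn v13204))))
def v5304 : LQ := Led Lsl_gt (LP (LK LD1_c3 LD2_c5 LD3_c30))
theorem f646964 : Led Lsl_gt (LP (LK LD1_c3 LD2_c5 LD3_c30)) = v5304 :=
  Lrfl
theorem f701670 : Led Lsl_gt v5304 = v13204 :=
  Lgr Lrot46 (Lpe (f646964 IH) (Lpr_ft (K50.f646971 IH) (Lpr_at (f701666 IH) (Lpn v13204))))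
theorem f824312 : Led Lsl_ff K50.v13203 = v5304 :=
  Lgr Lrot52 (Lpr_at (f824310 IH) (Lpr_gf (f701669 IH) (Lpe (f701670 IH) (Lpn v5304))))
theorem f701667 : Led Lsl_dt (LP (LK LD1_c5 LD2_c6 LD3_c56)) = v13204 :=
  Lgr Lrot60 (Lpe (K56.f166399 IH) (Lpr_df (K50.f166394 IH) (Lpr_ff (f701664 IH) (Lpn v13204))))
theorem f302567 : Led Lsl_af (LP (LK LD1_c5 LD2_c13 LD3_c33)) = (LP (LK LD1_c5 LD2_c6 LD3_c41)) :=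
  Lgr Lrot117 (Lpe (K50.f186367 IH) (Lpr_at (K44.f302563 IH) (Lpe (K18.f176957 IH) (Lpn (LP (LK LD1_c5 LD2_c6 LD3_c41))))))
theorem f302585 : Led Lsl_at (LP (LK LD1_c2 LD2_c33 LD3_c38)) = (LP (LK LD1_c2 LD2_c30 LD3_c37)) :=
  Lgr Lrot80 (Lpe (K50.f185070 IH) (Lpr_af (f302567 IH) (Lpe (K18.f176946 IH) (Lpn (LP (LK LD1_c2 LD2_c30 LD3_c37))))))
theorem f302589 : Led Lsl_ff (LP (LK LD1_c2 LD2_c33 LD3_c38)) = (LP (LK LD1_c2 LD2_c33 LD3_c50)) :=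
  Lgr Lrot52 (Lpr_at (f302585 IH) (Lpr_gf (K14.f226053 IH) (Lpe (K11.f198567 IH) (Lpn (LP (LK LD1_c2 LD2_c33 LD3_c50))))))
theorem f198787 : Led Lsl_ft (LP (LK LD1_c10 LD2_c17 LD3_c53)) = (LP (LK LD1_c5 LD2_c13 LD3_c50)) :=
  Lre_f IH (LK LD1_c10 LD2_c17 LD3_c53) (LK LD1_c5 LD2_c13 LD3_c50) Lrfl Lrfl
theorem f302591 : Led Lsl_et (LP (LK LD1_c10 LD2_c17 LD3_c23)) = (LP (LK LD1_c10 LD2_c17 LD3_c53)) :=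
  Lgr Lrot69 (Lpe (K50.f186374 IH) (Lpe (K50.f186366 IH) (Lpr_ff (f302589 IH) (Lpe (K46.f185111 IH) (Lpe (f198787 IH) (Lpn (LP (LK LD1_c10 LD2_c17 LD3_c53))))))))
theorem f302594 : Led Lsl_ef (LP (LK LD1_c10 LD2_c17 LD3_c23)) = (LP (LK LD1_c10 LD2_c17 LD3_c53)) :=
  Lgr Lrot88 (Lpr_et (f302591 IH) (Lpn (LP (LK LD1_c10 LD2_c17 LD3_c53))))
theorem f302577 : Led Lsl_af (LP (LK LD1_c10 LD2_c17 LD3_c23)) = (LP (LK LD1_c10 LD2_c4 LD3_c6)) :=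
  Lgr Lrot0 (Lpr_at (K50.f302575 IH) (Lpn (LP (LK LD1_c10 LD2_c4 LD3_c6))))
theorem f176963 : Led Lsl_ft (LP (LK LD1_c5 LD2_c6 LD3_c41)) = (LP (LK LD1_c10 LD2_c4 LD3_c6)) :=
  Lre_f IH (LK LD1_c5 LD2_c6 LD3_c41) (LK LD1_c10 LD2_c4 LD3_c6) Lrfl Lrfl
theorem f193910 : Led Lsl_et (LP (LK LD1_c4 LD2_c40 LD3_c7)) = (LP (LK LD1_c9 LD2_c15 LD3_c44)) :=
  Lre_e IH (LK LD1_c4 LD2_c40 LD3_c7) (LK LD1_c9 LD2_c15 LD3_c44) Lrfl Lrfl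
theorem f198671 : Led Lsl_gt (LP (LK LD1_c5 LD2_c6 LD3_c41)) = (LP (LK LD1_c9 LD2_c15 LD3_c44)) :=
  Lgr Lrot131 (Lpe (K18.f176946 IH) (Lpr_dt (K14.f166154 IH) (Lpr_gf (K11.f198645 IH) (Lpe (K9.f182473 IH) (Lpe (K9.f182474 IH) (Lpe (K16.f175355 IH) (Lpr_dt (K0.f23814 IH) (Lpe (K11.f198670 IH) (Lpe (K16.f193909 IH) (Lpr_et (f193910 IH) (Lpn (LP (LK LD1_c9 LD2_c15 LD3_c44)))))))))))))
theorem f302581 : Led Lsl_gf (LP (LK LD1_c10 LD2_c17 LD3_c23)) = (LP (LK LD1_c9 LD2_c15 LD3_c44)) :=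
  Lgr Lrot76 (Lpr_af (f302577 IH) (Lpe (f176963 IH) (Lpr_gt (f198671 IH) (Lpn (LP (LK LD1_c9 LD2_c15 LD3_c44))))))
theorem f302593 : Led Lsl_dt (LP (LK LD1_c10 LD2_c17 LD3_c53)) = (LP (LK LD1_c5 LD2_c13 LD3_c51)) :=
  Lre_d IH (LK LD1_c10 LD2_c17 LD3_c53) (LK LD1_c5 LD2_c13 LD3_c51) Lrfl Lrfl
theorem f302597 : Led Lsl_gf (LP (LK LD1_c5 LD2_c6 LD3_c61)) = (LP (LK LD1_c5 LD2_c13 LD3_c51)) :=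
  Lgr Lrot145 (Lpe (K46.f193900 IH) (Lpr_et (K46.f68903 IH) (Lpr_gt (K46.f58581 IH) (Lpr_dt (K1.f58564 IH) (Lpr_gt (K48.f58579 IH) (Lpe (K16.f193909 IH) (Lpr_et (f193910 IH) (Lpe (f302581 IH) (Lpr_ef (f302594 IH) (Lpr_dt (f302593 IH) (Lpn (LP (LK LD1_c5 LD2_c13 LD3_c51)))))))))))))
theorem f645839 : Led Lsl_ff (LP (LK LD1_c6 LD2_c3 LD3_c23)) = (LP (LK LD1_c10 LD2_c17 LD3_c50)) :=
  Lgr Lrot19 (Lpr_dt (K17.f180300 IH) (Lpr_ft (K54.f645835 IH) (Lpe (K53.f186522 IH) (Lpn (LP (LK LD1_c10 LD2_c17 LD3_c50))))))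
theorem f186524 : Led Lsl_et (LP (LK LD1_c5 LD2_c13 LD3_c49)) = (LP (LK LD1_c10 LD2_c17 LD3_c50)) :=
  Lre_e IH (LK LD1_c5 LD2_c13 LD3_c49) (LK LD1_c10 LD2_c17 LD3_c50) Lrfl Lrfl
theorem f646026 : Led Lsl_ef (LP (LK LD1_c5 LD2_c6 LD3_c61)) = K56.v5118 :=
  Lgr Lrot21 (Lpe (K53.f645411 IH) (Lpr_et (f186524 IH) (Lpe (f645839 IH) (Lpr_et (K17.f180301 IH) (Lpr_ft (K56.f646023 IH) (Lpn K56.v5118))))))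
theorem f646025 : Led Lsl_df K46.v1733 = K56.v5118 :=
  Lgr Lrot78 (Lpe (K46.f501195 IH) (Lpr_dt (K17.f180306 IH) (Lpr_ft (K56.f646023 IH) (Lpn K56.v5118))))
theorem f631982 : Led Lsl_et (LP (LK LD1_c2 LD2_c54 LD3_c1)) = (LP (LK LD1_c5 LD2_c55 LD3_c22)) :=
  Lre_e IH (LK LD1_c2 LD2_c54 LD3_c1) (LK LD1_c5 LD2_c55 LD3_c22) Lrfl Lrfl
theorem f631983 : Led Lsl_gt (LP (LK LD1_c5 LD2_c55 LD3_c22)) = (LP (LK LD1_c11 LD2_c36 LD3_c3)) :=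
  Lre_g IH (LK LD1_c5 LD2_c55 LD3_c22) (LK LD1_c11 LD2_c36 LD3_c3) Lrfl Lrfl
theorem f701671 : Led Lsl_df v5304 = (LP (LK LD1_c11 LD2_c36 LD3_c3)) :=
  Lgr Lrot135 (Lpr_gt (f701670 IH) (Lpe (f701667 IH) (Lpe (K19.f308115 IH) (Lpe (f302597 IH) (Lpr_ef (f646026 IH) (Lpe (f646025 IH) (Lpr_gt (K46.f645295 IH) (Lpe (K35.f631977 IH) (Lpr_et (f631982 IH) (Lpr_gt (f631983 IH) (Lpn (LP (LK LD1_c11 LD2_c36 LD3_c3)))))))))))))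
theorem f824313 : Led Lsl_ft (LP (LK LD1_c10 LD2_c15 LD3_c30)) = (LP (LK LD1_c11 LD2_c36 LD3_c3)) :=
  Lgr Lrot54 (Lpr_df (K50.f701654 IH) (Lpr_ff (f824312 IH) (Lpr_df (f701671 IH) (Lpn (LP (LK LD1_c11 LD2_c36 LD3_c3))))))
theorem f824314 : Led Lsl_ft (LP (LK LD1_c10 LD2_c15 LD3_c30)) = (LP (LK LD1_c11 LD2_c36 LD3_c3)) :=
  Leop (Lpe (f824313 IH) (Lpn (LP (LK LD1_c10 LD2_c15 LD3_c30))))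
theorem seed_1869 : LEOK LG_f (LK LD1_c10 LD2_c15 LD3_c30) :=
  Leoe_f (LK LD1_c10 LD2_c15 LD3_c30) (f824314 IH)
def v24505 : LQ := Led Lsl_gf v4776
theorem f824458 : Led Lsl_gf v4776 = v24505 :=
  Lrfl
theorem f824187 : Led Lsl_df (LP (LK LD1_c9 LD2_c5 LD3_c20)) = v24504 :=
  Lgr Lrot38 (Lpr_dt (f824186 IH) (Lpn v24504))
def v15791 : LQ := Led Lsl_dt (LP (LK LD1_c5 LD2_c46 LD3_c17))
theorem f741560 : Led Lsl_dt (LP (LK LD1_c5 LD2_c46 LD3_c17)) = v15791 :=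
  Lrfl
theorem f824452 : Led Lsl_af v24504 = v15791 :=
  Lgr Lrot117 (Lpe (f824187 IH) (Lpqs (f824188 IH) (Lpe (f741557 IH) (Lpr_dt (f741560 IH) (Lpn v15791)))))
theorem f824460 : Led Lsl_ff v15791 = v24505 :=
  Lgr Lrot52 (Lpe (f824452 IH) (Lpe (f824184 IH) (Lpr_gf (f824458 IH) (Lpn v24505))))
theorem f824462 : Led Lsl_ft v15791 = v24505 :=
  Lgr Lrot48 (Lpr_ff (f824460 IH) (Lpn v24505))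
theorem f824463 : Led Lsl_df v15792 = v24505 :=
  Lgr Lrot78 (Lpe (f741567 IH) (Lpr_dt (f741560 IH) (Lpr_ft (f824462 IH) (Lpn v24505))))
theorem f741566 : Led Lsl_ef (LP (LK LD1_c10 LD2_c3 LD3_c1)) = v15792 :=
  Lgr Lrot21 (Lpr_ft (K55.f741513 IH) (Lpe (f741510 IH) (Lpe (K55.f640485 IH) (Lpr_et (K55.f27005 IH) (Lpr_ft (f741565 IH) (Lpn v15792))))))
theorem f824464 : Led Lsl_et v5305 = v24505 :=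
  Lgr Lrot71 (Lpe (f646966 IH) (Lpe (f646969 IH) (Lpe (f164987 IH) (Lpr_ef (f741566 IH) (Lpr_df (f824463 IH) (Lpn v24505))))))
def v12831 : LQ := Led Lsl_dt (LP (LK LD1_c4 LD2_c32 LD3_c43))
theorem f698449 : Led Lsl_dt (LP (LK LD1_c4 LD2_c32 LD3_c43)) = v12831 :=
  Lrfl
theorem f698450 : Led Lsl_af v4776 = v12831 :=
  Lgr Lrot117 (Lpe (f638931 IH) (Lpe (K51.f507672 IH) (Lpr_dt (f698449 IH) (Lpn v12831))))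
theorem f507685 : Led Lsl_ff (LP (LK LD1_c4 LD2_c32 LD3_c43)) = (LP (LK LD1_c2 LD2_c47 LD3_c30)) :=
  Lgr Lrot3 (Lpr_ft (K51.f507681 IH) (Lpn (LP (LK LD1_c2 LD2_c47 LD3_c30))))
theorem f698452 : Led Lsl_ff v4779 = v12831 :=
  Lgr Lrot19 (Lpe (f638939 IH) (Lpe (f507685 IH) (Lpr_dt (f698449 IH) (Lpn v12831))))
theorem f698453 : Led Lsl_ft v4779 = v12831 :=
  Lgr Lrot48 (Lpr_ff (f698452 IH) (Lpn v12831))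
theorem f824459 : Led Lsl_gt v4779 = v24505 :=
  Lgr Lrot5 (Lpr_ft (f698453 IH) (Lpe (f698450 IH) (Lpr_gf (f824458 IH) (Lpn v24505))))
theorem f638940 : Led Lsl_ef (LP (LK LD1_c2 LD2_c57 LD3_c10)) = v4779 :=
  Lgr Lrot73 (Lpr_dt (K16.f204679 IH) (Lpr_et (K35.f444636 IH) (Lpe (K35.f507630 IH) (Lpr_et (K51.f507647 IH) (Lpr_dt (f638938 IH) (Lpn v4779))))))
theorem f638941 : Led Lsl_et (LP (LK LD1_c2 LD2_c57 LD3_c10)) = v4779 :=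
  Lgr Lrot87 (Lpr_ef (f638940 IH) (Lpn v4779))
def v13059 : LQ := Led Lsl_et (LP (LK LD1_c4 LD2_c38 LD3_c39))
theorem f700787 : Led Lsl_et (LP (LK LD1_c4 LD2_c38 LD3_c39)) = v13059 :=
  Lrfl
theorem f700790 : Led Lsl_ef (LP (LK LD1_c4 LD2_c38 LD3_c39)) = v13059 :=
  Lgr Lrot88 (Lpr_et (f700787 IH) (Lpn v13059))
theorem f631972 : Led Lsl_ef (LP (LK LD1_c2 LD2_c16 LD3_c20)) = K35.v4216 :=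
  Lgr Lrot88 (Lpr_et (K35.f631969 IH) (Lpn K35.v4216))
theorem f166382 : Led Lsl_et (LP (LK LD1_c5 LD2_c55 LD3_c22)) = (LP (LK LD1_c2 LD2_c54 LD3_c1)) :=
  Lre_e IH (LK LD1_c5 LD2_c55 LD3_c22) (LK LD1_c2 LD2_c54 LD3_c1) Lrfl Lrfl
theorem f700789 : Led Lsl_df (LP (LK LD1_c5 LD2_c55 LD3_c22)) = v13059 :=
  Lgr Lrot70 (Lpr_et (f166382 IH) (Lpr_dt (K35.f631977 IH) (Lpe (f631972 IH) (Lpr_dt (K11.f59499 IH) (Lpr_et (f700787 IH) (Lpn v13059))))))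
def v16232 : LQ := Led Lsl_gf (LP (LK LD1_c5 LD2_c55 LD3_c22))
theorem f747260 : Led Lsl_gf (LP (LK LD1_c5 LD2_c55 LD3_c22)) = v16232 :=
  Lrfl
theorem f824466 : (LP (LK LD1_c10 LD2_c3 LD3_c2)) = v16232 :=
  (Llr Lrot136 (Lpr_df (f646968 IH) (Lpr_et (f824464 IH) (Lpe (f824459 IH) (Lpe (f638941 IH) (Lpr_dt (K16.f204679 IH) (Lpr_gf (K16.f421007 IH) (Lpe (K11.f445898 IH) (Lpe (K11.f59500 IH) (Lpr_ef (f700790 IH) (Lpe (f700789 IH) (Lpr_gf (f747260 IH) (Lpn v16232))))))))))))).symm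
theorem f824467 : Led Lsl_gt (LP (LK LD1_c10 LD2_c3 LD3_c2)) = (LP (LK LD1_c5 LD2_c55 LD3_c22)) :=
  Leop (Lpr_gf (f747260 IH) (Lpq (f824466 IH) (Lpn (LP (LK LD1_c10 LD2_c3 LD3_c2)))))
theorem seed_1870 : LEOK LG_g (LK LD1_c10 LD2_c3 LD3_c2) :=
  Leoe_g (LK LD1_c10 LD2_c3 LD3_c2) (f824467 IH)
def v24628 : LQ := Led Lsl_gt K56.v4865
theorem f824815 : Led Lsl_gt K56.v4865 = v24628 :=
  Lrfl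
theorem f744239 : Led Lsl_ft K56.v4865 = K56.v15924 :=
  Lgr Lrot48 (Lpr_ff (K56.f744238 IH) (Lpn K56.v15924))
def v16064 : LQ := Led Lsl_ct (LP (LK LD1_c5 LD2_c52 LD3_c14))
theorem f745116 : Led Lsl_ct (LP (LK LD1_c5 LD2_c52 LD3_c14)) = v16064 :=
  Lrfl
theorem f745120 : Led Lsl_ff K56.v4901 = v16064 :=
  Lgr Lrot23 (Lpe (K56.f640825 IH) (Lpr_ft (K41.f496461 IH) (Lpr_ct (f745116 IH) (Lpn v16064))))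
theorem f499651 : Led Lsl_bt (LP (LK LD1_c11 LD2_c31 LD3_c18)) = (LP (LK LD1_c11 LD2_c28 LD3_c29)) :=
  Lgr Lrot127 (Lpr_bf (K56.f499647 IH) (Lpn (LP (LK LD1_c11 LD2_c28 LD3_c29))))
theorem f499653 : Led Lsl_af (LP (LK LD1_c2 LD2_c52 LD3_c24)) = (LP (LK LD1_c2 LD2_c51 LD3_c9)) :=
  Lgr Lrot36 (Lpr_bt (K32.f22822 IH) (Lpr_at (K41.f74772 IH) (Lpr_bt (f499651 IH) (Lpr_at (K56.f210031 IH) (Lpr_bt (K39.f209987 IH) (Lpn (LP (LK LD1_c2 LD2_c51 LD3_c9))))))))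
theorem f640637 : Led Lsl_ef (LP (LK LD1_c2 LD2_c51 LD3_c9)) = K56.v4865 :=
  Lgr Lrot88 (Lpr_et (K56.f640635 IH) (Lpn K56.v4865))
theorem f640824 : Led Lsl_af K56.v4865 = K56.v4901 :=
  Lgr Lrot50 (Lpe (f640637 IH) (Lpe (f499653 IH) (Lpr_et (K56.f640823 IH) (Lpn K56.v4901))))
theorem f745121 : Led Lsl_at K56.v15924 = v16064 :=
  Lgr Lrot66 (Lpe (f744239 IH) (Lpr_af (f640824 IH) (Lpr_ff (f745120 IH) (Lpn v16064))))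
theorem f824816 : Led Lsl_gf v16064 = v24628 :=
  Lgr Lrot76 (Lpe (f745121 IH) (Lpe (f744239 IH) (Lpr_gt (f824815 IH) (Lpn v24628))))
theorem f745118 : Led Lsl_cf (LP (LK LD1_c5 LD2_c52 LD3_c14)) = v16064 :=
  Lgr Lrot11 (Lpr_ct (f745116 IH) (Lpn v16064))
theorem f288211 : Led Lsl_gf (LP (LK LD1_c10 LD2_c10 LD3_c47)) = (LP (LK LD1_c9 LD2_c56 LD3_c13)) :=
  Lgr Lrot76 (Lpr_af (K17.f288203 IH) (Lpe (K17.f165772 IH) (Lpr_gt (K53.f165758 IH) (Lpn (LP (LK LD1_c9 LD2_c56 LD3_c13))))))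
def v12923 : LQ := Led Lsl_gt (LP (LK LD1_c4 LD2_c34 LD3_c41))
theorem f699618 : Led Lsl_gt (LP (LK LD1_c4 LD2_c34 LD3_c41)) = v12923 :=
  Lrfl
theorem f824817 : Led Lsl_ct v12923 = v24628 :=
  Lgr Lrot152 (Lpe (f699618 IH) (Lpe (K50.f20506 IH) (Lpr_gt (K53.f20509 IH) (Lpr_ct (K53.f723161 IH) (Lpq (K53.f723185 IH) (Lpe (f288211 IH) (Lpe (K17.f180714 IH) (Lpr_df (K51.f615387 IH) (Lpr_cf (f745118 IH) (Lpr_gf (f824816 IH) (Lpn v24628)))))))))))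
theorem f640638 : Led Lsl_ct (LP (LK LD1_c2 LD2_c51 LD3_c10)) = K56.v4865 :=
  Lgr Lrot15 (Lpe (K41.f437505 IH) (Lpe (K36.f205791 IH) (Lpr_ef (f640637 IH) (Lpn K56.v4865))))
theorem f210019 : Led Lsl_bt (LP (LK LD1_c2 LD2_c51 LD3_c10)) = (LP (LK LD1_c5 LD2_c49 LD3_c61)) :=
  Lre_b IH (LK LD1_c2 LD2_c51 LD3_c10) (LK LD1_c5 LD2_c49 LD3_c61) Lrfl Lrfl
theorem f210024 : Led Lsl_gt (LP (LK LD1_c11 LD2_c28 LD3_c26)) = (LP (LK LD1_c5 LD2_c49 LD3_c61)) :=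
  Lre_g IH (LK LD1_c11 LD2_c28 LD3_c26) (LK LD1_c5 LD2_c49 LD3_c61) Lrfl Lrfl
theorem f99627 : Led Lsl_bf (LP (LK LD1_c2 LD2_c55 LD3_c27)) = (LP (LK LD1_c4 LD2_c37 LD3_c7)) :=
  Lgr Lrot96 (Lpr_et (K53.f75970 IH) (Lpr_bt (K4.f99614 IH) (Lpr_et (K42.f99626 IH) (Lpn (LP (LK LD1_c4 LD2_c37 LD3_c7))))))
theorem f99962 : Led Lsl_ct (LP (LK LD1_c4 LD2_c37 LD3_c7)) = (LP (LK LD1_c9 LD2_c9 LD3_c58)) :=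
  Lre_c IH (LK LD1_c4 LD2_c37 LD3_c7) (LK LD1_c9 LD2_c9 LD3_c58) Lrfl Lrfl
theorem f100119 : Led Lsl_gt (LP (LK LD1_c17 LD2_c3 LD3_c2)) = (LP (LK LD1_c9 LD2_c9 LD3_c58)) :=
  Lre_g IH (LK LD1_c17 LD2_c3 LD3_c2) (LK LD1_c9 LD2_c9 LD3_c58) Lrfl Lrfl
theorem f117255 : Led Lsl_gf (LP (LK LD1_c11 LD2_c25 LD3_c40)) = (LP (LK LD1_c11 LD2_c29 LD3_c47)) :=
  Lgr Lrot76 (Lpr_af (K4.f117240 IH) (Lpe (K4.f112299 IH) (Lpr_gt (K56.f112208 IH) (Lpn (LP (LK LD1_c11 LD2_c29 LD3_c47))))))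
theorem f100317 : Led Lsl_gt (LP (LK LD1_c11 LD2_c25 LD3_c31)) = (LP (LK LD1_c20 LD2_c22 LD3_c49)) :=
  Lre_g IH (LK LD1_c11 LD2_c25 LD3_c31) (LK LD1_c20 LD2_c22 LD3_c49) Lrfl Lrfl
theorem f739489 : Led Lsl_cf (LP (LK LD1_c17 LD2_c3 LD3_c2)) = (LP (LK LD1_c20 LD2_c22 LD3_c49)) :=
  Lgr Lrot125 (Lpr_gt (f100119 IH) (Lpe (f99962 IH) (Lpe (f99627 IH) (Lpr_gt (K56.f75964 IH) (Lpe (K56.f739468 IH) (Lpr_ct (K56.f739482 IH) (Lpe (f117255 IH) (Lpe (K56.f100310 IH) (Lpr_bt (K51.f100319 IH) (Lpr_gt (f100317 IH) (Lpn (LP (LK LD1_c20 LD2_c22 LD3_c49)))))))))))))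
theorem f426051 : Led Lsl_et (LP (LK LD1_c5 LD2_c57 LD3_c33)) = (LP (LK LD1_c11 LD2_c40 LD3_c9)) :=
  Lre_e IH (LK LD1_c5 LD2_c57 LD3_c33) (LK LD1_c11 LD2_c40 LD3_c9) Lrfl Lrfl
theorem f424546 : Led Lsl_et (LP (LK LD1_c9 LD2_c47 LD3_c39)) = (LP (LK LD1_c4 LD2_c58 LD3_c31)) :=
  Lre_e IH (LK LD1_c9 LD2_c47 LD3_c39) (LK LD1_c4 LD2_c58 LD3_c31) Lrfl Lrfl
theorem f426052 : Led Lsl_ct (LP (LK LD1_c11 LD2_c40 LD3_c9)) = (LP (LK LD1_c9 LD2_c47 LD3_c39)) :=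
  Lgr Lrot15 (Lpe (f426051 IH) (Lpr_cf (K24.f426047 IH) (Lpe (f424546 IH) (Lpn (LP (LK LD1_c9 LD2_c47 LD3_c39))))))
theorem f428349 : Led Lsl_ft (LP (LK LD1_c20 LD2_c40 LD3_c16)) = (LP (LK LD1_c11 LD2_c40 LD3_c9)) :=
  Lre_f IH (LK LD1_c20 LD2_c40 LD3_c16) (LK LD1_c11 LD2_c40 LD3_c9) Lrfl Lrfl
theorem f428350 : Led Lsl_ft (LP (LK LD1_c9 LD2_c47 LD3_c39)) = (LP (LK LD1_c17 LD2_c57 LD3_c56)) :=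
  Lre_f IH (LK LD1_c9 LD2_c47 LD3_c39) (LK LD1_c17 LD2_c57 LD3_c56) Lrfl Lrfl
theorem f428351 : Led Lsl_cf (LP (LK LD1_c20 LD2_c40 LD3_c16)) = (LP (LK LD1_c17 LD2_c57 LD3_c56)) :=
  Lgr Lrot108 (Lpr_ft (f428349 IH) (Lpr_ct (f426052 IH) (Lpr_ft (f428350 IH) (Lpn (LP (LK LD1_c17 LD2_c57 LD3_c56))))))
theorem f74747 : Led Lsl_cf (LP (LK LD1_c11 LD2_c31 LD3_c17)) = (LP (LK LD1_c11 LD2_c41 LD3_c5)) :=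
  Lgr Lrot11 (Lpr_ct (K55.f74738 IH) (Lpn (LP (LK LD1_c11 LD2_c41 LD3_c5))))
theorem f499710 : Led Lsl_at (LP (LK LD1_c11 LD2_c31 LD3_c17)) = (LP (LK LD1_c17 LD2_c57 LD3_c56)) :=
  Lgr Lrot107 (Lpr_cf (f74747 IH) (Lpr_af (K56.f499706 IH) (Lpr_cf (f428351 IH) (Lpn (LP (LK LD1_c17 LD2_c57 LD3_c56))))))
theorem f74746 : Led Lsl_bt (LP (LK LD1_c5 LD2_c52 LD3_c14)) = (LP (LK LD1_c11 LD2_c31 LD3_c17)) :=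
  Lre_b IH (LK LD1_c5 LD2_c52 LD3_c14) (LK LD1_c11 LD2_c31 LD3_c17) Lrfl Lrfl
theorem f496503 : Led Lsl_bt (LP (LK LD1_c11 LD2_c28 LD3_c27)) = (LP (LK LD1_c5 LD2_c50 LD3_c2)) :=
  Lre_b IH (LK LD1_c11 LD2_c28 LD3_c27) (LK LD1_c5 LD2_c50 LD3_c2) Lrfl Lrfl
theorem f210011 : Led Lsl_at (LP (LK LD1_c20 LD2_c25 LD3_c56)) = (LP (LK LD1_c11 LD2_c28 LD3_c27)) :=
  Lre_a IH (LK LD1_c20 LD2_c25 LD3_c56) (LK LD1_c11 LD2_c28 LD3_c27) Lrfl Lrfl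
theorem f499714 : Led Lsl_bf (LP (LK LD1_c20 LD2_c25 LD3_c56)) = (LP (LK LD1_c17 LD2_c57 LD3_c56)) :=
  Lgr Lrot81 (Lpr_at (f210011 IH) (Lpr_bt (f496503 IH) (Lpe (K56.f496494 IH) (Lpr_bt (f74746 IH) (Lpr_at (f499710 IH) (Lpn (LP (LK LD1_c17 LD2_c57 LD3_c56))))))))
theorem f210013 : Led Lsl_gt (LP (LK LD1_c20 LD2_c25 LD3_c56)) = (LP (LK LD1_c11 LD2_c28 LD3_c26)) :=
  Lre_g IH (LK LD1_c20 LD2_c25 LD3_c56) (LK LD1_c11 LD2_c28 LD3_c26) Lrfl Lrfl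
theorem f739493 : Led Lsl_bf (LP (LK LD1_c11 LD2_c28 LD3_c26)) = (LP (LK LD1_c20 LD2_c22 LD3_c49)) :=
  Lgr Lrot34 (Lpe (f210013 IH) (Lpr_bf (f499714 IH) (Lpe (f428351 IH) (Lpr_gf (K56.f715452 IH) (Lpe (K56.f76195 IH) (Lpe (K56.f75964 IH) (Lpr_bf (f99627 IH) (Lpr_ct (f99962 IH) (Lpe (f100119 IH) (Lpr_cf (f739489 IH) (Lpn (LP (LK LD1_c20 LD2_c22 LD3_c49)))))))))))))
theorem f100118 : Led Lsl_ft (LP (LK LD1_c9 LD2_c15 LD3_c30)) = (LP (LK LD1_c4 LD2_c39 LD3_c61)) :=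
  Lre_f IH (LK LD1_c9 LD2_c15 LD3_c30) (LK LD1_c4 LD2_c39 LD3_c61) Lrfl Lrfl
theorem f100120 : Led Lsl_gf (LP (LK LD1_c17 LD2_c3 LD3_c2)) = (LP (LK LD1_c9 LD2_c15 LD3_c30)) :=
  Lgr Lrot47 (Lpr_gt (f100119 IH) (Lpr_af (K6.f100095 IH) (Lpe (f100118 IH) (Lpn (LP (LK LD1_c9 LD2_c15 LD3_c30))))))
theorem f100074 : Led Lsl_gt (LP (LK LD1_c9 LD2_c9 LD3_c59)) = (LP (LK LD1_c4 LD2_c40 LD3_c2)) :=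
  Lgr Lrot46 (Lpe (K42.f100073 IH) (Lpr_ft (K6.f100069 IH) (Lpr_at (K6.f100054 IH) (Lpn (LP (LK LD1_c4 LD2_c40 LD3_c2))))))

end

end K64

end

end Cfsg.Agent.Helper28.S1692
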