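import Cfsg.Agent.Lib.Helper28.S1692.Seeds64

set_option autoImplicit false
set_option maxRecDepth 100000
set_option linter.all false

namespace Cfsg.Agent.Helper28.S1692

open Cfsg.Agent.Helper28
open Cfsg.Spor.ON (Gen)

noncomputable section

namespace K65
abbrev LD1_c0 := D1.c0
abbrev LD1_c1 := D1.c1
abbrev LD1_c2 := D1.c2
abbrev LD1_c3 := D1.c3
abbrev LD1_c4 := D1.c4
abbrev LD1_c5 := D1.c5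
abbrev LD1_c6 := D1.c6
abbrev LD1_c7 := D1.c7
abbrev LD1_c8 := D1.c8
abbrev LD1_c9 := D1.c9
abbrev LD1_c10 := D1.c10
abbrev LD1_c11 := D1.c11
abbrev LD1_c12 := D1.c12
abbrev LD1_c13 := D1.c13
abbrev LD1_c14 := D1.c14
abbrev LD1_c15 := D1.c15
abbrev LD1_c16 := D1.c16
abbrev LD1_c17 := D1.c17
abbrev LD1_c18 := D1.c18
abbrev LD1_c19 := D1.c19
abbrev LD1_c20 := D1.c20
abbrev LD1_c21 := D1.c21
abbrev LD1_c22 := D1.c22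
abbrev LD1_c23 := D1.c23
abbrev LD1_c24 := D1.c24
abbrev LD1_c25 := D1.c25
abbrev LD1_c26 := D1.c26
abbrev LD1_c27 := D1.c27
abbrev LD1_c28 := D1.c28
abbrev LD1_c29 := D1.c29
abbrev LD1_c30 := D1.c30
abbrev LD1_c31 := D1.c31
abbrev LD1_c32 := D1.c32
abbrev LD2_c0 := D2.c0
abbrev LD2_c1 := D2.c1
abbrev LD2_c2 := D2.c2
abbrev LD2_c3 := D2.c3
abbrev LD2_c4 := D2.c4
abbrev LD2_c5 := D2.c5
abbrev LD2_c6 := D2.c6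
abbrev LD2_c7 := D2.c7
abbrev LD2_c8 := D2.c8
abbrev LD2_c9 := D2.c9
abbrev LD2_c10 := D2.c10
abbrev LD2_c11 := D2.c11
abbrev LD2_c12 := D2.c12
abbrev LD2_c13 := D2.c13
abbrev LD2_c14 := D2.c14
abbrev LD2_c15 := D2.c15
abbrev LD2_c16 := D2.c16
abbrev LD2_c17 := D2.c17
abbrev LD2_c18 := D2.c18
abbrev LD2_c19 := D2.c19
abbrev LD2_c20 := D2.c20
abbrev LD2_c21 := D2.c21
abbrev LD2_c22 := D2.c22
abbrev LD2_c23 := D2.c23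
abbrev LD2_c24 := D2.c24
abbrev LD2_c25 := D2.c25
abbrev LD2_c26 := D2.c26
abbrev LD2_c27 := D2.c27
abbrev LD2_c28 := D2.c28
abbrev LD2_c29 := D2.c29
abbrev LD2_c30 := D2.c30
abbrev LD2_c31 := D2.c31
abbrev LD2_c32 := D2.c32
abbrev LD2_c33 := D2.c33
abbrev LD2_c34 := D2.c34
abbrev LD2_c35 := D2.c35
abbrev LD2_c36 := D2.c36
abbrev LD2_c37 := D2.c37
abbrev LD2_c38 := D2.c38
abbrev LD2_c39 := D2.c39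
abbrev LD2_c40 := D2.c40
abbrev LD2_c41 := D2.c41
abbrev LD2_c42 := D2.c42
abbrev LD2_c43 := D2.c43
abbrev LD2_c44 := D2.c44
abbrev LD2_c45 := D2.c45
abbrev LD2_c46 := D2.c46
abbrev LD2_c47 := D2.c47
abbrev LD2_c48 := D2.c48
abbrev LD2_c49 := D2.c49
abbrev LD2_c50 := D2.c50
abbrev LD2_c51 := D2.c51
abbrev LD2_c52 := D2.c52
abbrev LD2_c53 := D2.c53
abbrev LD2_c54 := D2.c54
abbrev LD2_c55 := D2.c55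
abbrev LD2_c56 := D2.c56
abbrev LD2_c57 := D2.c57
abbrev LD2_c58 := D2.c58
abbrev LD2_c59 := D2.c59
abbrev LD3_c0 := D3.c0
abbrev LD3_c1 := D3.c1
abbrev LD3_c2 := D3.c2
abbrev LD3_c3 := D3.c3
abbrev LD3_c4 := D3.c4
abbrev LD3_c5 := D3.c5
abbrev LD3_c6 := D3.c6
abbrev LD3_c7 := D3.c7
abbrev LD3_c8 := D3.c8
abbrev LD3_c9 := D3.c9
abbrev LD3_c10 := D3.c10
abbrev LD3_c11 := D3.c11
abbrev LD3_c12 := D3.c12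
abbrev LD3_c13 := D3.c13
abbrev LD3_c14 := D3.c14
abbrev LD3_c15 := D3.c15
abbrev LD3_c16 := D3.c16
abbrev LD3_c17 := D3.c17
abbrev LD3_c18 := D3.c18
abbrev LD3_c19 := D3.c19
abbrev LD3_c20 := D3.c20
abbrev LD3_c21 := D3.c21
abbrev LD3_c22 := D3.c22
abbrev LD3_c23 := D3.c23
abbrev LD3_c24 := D3.c24
abbrev LD3_c25 := D3.c25
abbrev LD3_c26 := D3.c26
abbrev LD3_c27 := D3.c27
abbrev LD3_c28 := D3.c28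
abbrev LD3_c29 := D3.c29
abbrev LD3_c30 := D3.c30
abbrev LD3_c31 := D3.c31
abbrev LD3_c32 := D3.c32
abbrev LD3_c33 := D3.c33
abbrev LD3_c34 := D3.c34
abbrev LD3_c35 := D3.c35
abbrev LD3_c36 := D3.c36
abbrev LD3_c37 := D3.c37
abbrev LD3_c38 := D3.c38
abbrev LD3_c39 := D3.c39
abbrev LD3_c40 := D3.c40
abbrev LD3_c41 := D3.c41
abbrev LD3_c42 := D3.c42
abbrev LD3_c43 := D3.c43
abbrev LD3_c44 := D3.c44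
abbrev LD3_c45 := D3.c45
abbrev LD3_c46 := D3.c46
abbrev LD3_c47 := D3.c47
abbrev LD3_c48 := D3.c48
abbrev LD3_c49 := D3.c49
abbrev LD3_c50 := D3.c50
abbrev LD3_c51 := D3.c51
abbrev LD3_c52 := D3.c52
abbrev LD3_c53 := D3.c53
abbrev LD3_c54 := D3.c54
abbrev LD3_c55 := D3.c55
abbrev LD3_c56 := D3.c56
abbrev LD3_c57 := D3.c57
abbrev LD3_c58 := D3.c58
abbrev LD3_c59 := D3.c59
abbrev LD3_c60 := D3.c60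
abbrev LD3_c61 := D3.c61
abbrev LG_g := Gen.g
abbrev Lsl_gt : Gen × Bool := sl_gt
alias Lfl_gt := fl_gt
alias Lpr_gt := pr_gt
abbrev Lsl_gf : Gen × Bool := sl_gf
alias Lfl_gf := fl_gf
alias Lpr_gf := pr_gf
alias Lre_g := re_g
alias Leoe_g := eoe_g
abbrev LG_a := Gen.a
abbrev Lsl_at : Gen × Bool := sl_at
alias Lfl_at := fl_at
alias Lpr_at := pr_at
abbrev Lsl_af : Gen × Bool := sl_af
alias Lfl_af := fl_af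
alias Lpr_af := pr_af
alias Lre_a := re_a
alias Leoe_a := eoe_a
abbrev LG_b := Gen.b
abbrev Lsl_bt : Gen × Bool := sl_bt
alias Lfl_bt := fl_bt
alias Lpr_bt := pr_bt
abbrev Lsl_bf : Gen × Bool := sl_bf
alias Lfl_bf := fl_bf
alias Lpr_bf := pr_bf
alias Lre_b := re_b
alias Leoe_b := eoe_b
abbrev LG_c := Gen.c
abbrev Lsl_ct : Gen × Bool := sl_ct
alias Lfl_ct := fl_ct
alias Lpr_ct := pr_ct
abbrev Lsl_cf : Gen × Bool := sl_cf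
alias Lfl_cf := fl_cf
alias Lpr_cf := pr_cf
alias Lre_c := re_c
alias Leoe_c := eoe_c
abbrev LG_d := Gen.d
abbrev Lsl_dt : Gen × Bool := sl_dt
alias Lfl_dt := fl_dt
alias Lpr_dt := pr_dt
abbrev Lsl_df : Gen × Bool := sl_df
alias Lfl_df := fl_df
alias Lpr_df := pr_df
alias Lre_d := re_d
alias Leoe_d := eoe_d
abbrev LG_e := Gen.e
abbrev Lsl_et : Gen × Bool := sl_et
alias Lfl_et := fl_et
alias Lpr_et := pr_et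
abbrev Lsl_ef : Gen × Bool := sl_ef
alias Lfl_ef := fl_ef
alias Lpr_ef := pr_ef
alias Lre_e := re_e
alias Leoe_e := eoe_e
abbrev LG_f := Gen.f
abbrev Lsl_ft : Gen × Bool := sl_ft
alias Lfl_ft := fl_ft
alias Lpr_ft := pr_ft
abbrev Lsl_ff : Gen × Bool := sl_ff
alias Lfl_ff := fl_ff
alias Lpr_ff := pr_ff
alias Lre_f := re_f
alias Leoe_f := eoe_f
abbrev LK := Pt.mk
abbrev LQ : Type := Qt rels S
abbrev LP (p : Pt) : LQ := P p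
abbrev Led (l : Gen × Bool) (c : LQ) : LQ := ed l c
abbrev LEOK (x : Gen) (p : Pt) : Prop := EntryOK rels S fwd inv o plet idx x p
alias Lpe := pe
alias Lpn := pn
alias Lgr := gr
alias Lpq := pq
alias Lpqs := pqs
alias Llr := lr
alias Leop := eop
alias Lefun := efun
alias Lecon := econ
theorem Lrfl {α : Sort _} {a : α} : a = a := rfl
alias Lrot0 := rot0
alias Lrot1 := rot1
alias Lrot2 := rot2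
alias Lrot3 := rot3
alias Lrot4 := rot4
alias Lrot5 := rot5
alias Lrot6 := rot6
alias Lrot7 := rot7
alias Lrot8 := rot8
alias Lrot9 := rot9
alias Lrot10 := rot10
alias Lrot11 := rot11
alias Lrot12 := rot12
alias Lrot13 := rot13
alias Lrot14 := rot14
alias Lrot15 := rot15
alias Lrot17 := rot17
alias Lrot18 := rot18
alias Lrot19 := rot19
alias Lrot20 := rot20
alias Lrot21 := rot21
alias Lrot22 := rot22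
alias Lrot23 := rot23
alias Lrot24 := rot24
alias Lrot25 := rot25
alias Lrot26 := rot26
alias Lrot27 := rot27
alias Lrot28 := rot28
alias Lrot29 := rot29
alias Lrot30 := rot30
alias Lrot31 := rot31
alias Lrot33 := rot33
alias Lrot34 := rot34
alias Lrot35 := rot35
alias Lrot36 := rot36
alias Lrot37 := rot37
alias Lrot38 := rot38
alias Lrot39 := rot39
alias Lrot40 := rot40
alias Lrot41 := rot41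
alias Lrot42 := rot42
alias Lrot43 := rot43
alias Lrot44 := rot44
alias Lrot45 := rot45
alias Lrot46 := rot46
alias Lrot47 := rot47
alias Lrot48 := rot48
alias Lrot49 := rot49
alias Lrot50 := rot50
alias Lrot51 := rot51
alias Lrot52 := rot52
alias Lrot53 := rot53
alias Lrot54 := rot54
alias Lrot56 := rot56
alias Lrot57 := rot57
alias Lrot58 := rot58
alias Lrot59 := rot59
alias Lrot60 := rot60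
alias Lrot61 := rot61
alias Lrot62 := rot62
alias Lrot63 := rot63
alias Lrot64 := rot64
alias Lrot65 := rot65
alias Lrot66 := rot66
alias Lrot67 := rot67
alias Lrot68 := rot68
alias Lrot69 := rot69
alias Lrot70 := rot70
alias Lrot71 := rot71
alias Lrot72 := rot72
alias Lrot73 := rot73
alias Lrot74 := rot74
alias Lrot75 := rot75
alias Lrot76 := rot76
alias Lrot77 := rot77
alias Lrot78 := rot78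
alias Lrot79 := rot79
alias Lrot80 := rot80
alias Lrot81 := rot81
alias Lrot82 := rot82
alias Lrot83 := rot83
alias Lrot84 := rot84
alias Lrot85 := rot85
alias Lrot86 := rot86
alias Lrot87 := rot87
alias Lrot88 := rot88
alias Lrot90 := rot90
alias Lrot91 := rot91
alias Lrot92 := rot92
alias Lrot93 := rot93
alias Lrot94 := rot94
alias Lrot95 := rot95
alias Lrot96 := rot96
alias Lrot97 := rot97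
alias Lrot98 := rot98
alias Lrot100 := rot100
alias Lrot101 := rot101
alias Lrot103 := rot103
alias Lrot104 := rot104
alias Lrot105 := rot105
alias Lrot106 := rot106
alias Lrot107 := rot107
alias Lrot108 := rot108
alias Lrot109 := rot109
alias Lrot110 := rot110
alias Lrot111 := rot111
alias Lrot112 := rot112
alias Lrot113 := rot113
alias Lrot114 := rot114
alias Lrot116 := rot116
alias Lrot117 := rot117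
alias Lrot118 := rot118
alias Lrot119 := rot119
alias Lrot120 := rot120
alias Lrot121 := rot121
alias Lrot122 := rot122
alias Lrot123 := rot123
alias Lrot124 := rot124
alias Lrot125 := rot125
alias Lrot126 := rot126
alias Lrot127 := rot127
alias Lrot128 := rot128
alias Lrot129 := rot129
alias Lrot130 := rot130
alias Lrot131 := rot131
alias Lrot132 := rot132
alias Lrot133 := rot133
alias Lrot134 := rot134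
alias Lrot135 := rot135
alias Lrot136 := rot136
alias Lrot137 := rot137
alias Lrot138 := rot138
alias Lrot139 := rot139
alias Lrot141 := rot141
alias Lrot142 := rot142
alias Lrot143 := rot143
alias Lrot144 := rot144
alias Lrot145 := rot145
alias Lrot147 := rot147
alias Lrot148 := rot148
alias Lrot149 := rot149
alias Lrot150 := rot150
alias Lrot151 := rot151
alias Lrot152 := rot152
alias Lrot153 := rot153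
alias Lrot155 := rot155
alias Lrot156 := rot156
alias Lrot157 := rot157
alias Lrot158 := rot158
alias Lrot159 := rot159
alias Lrot160 := rot160
alias Lrot161 := rot161
alias Lrot162 := rot162
alias Lrot163 := rot163
alias Lrot164 := rot164
alias Lrot166 := rot166
alias Lrot168 := rot168
alias Lrot169 := rot169
alias Lrot170 := rot170
alias Lrot171 := rot171
alias Lrot172 := rot172
alias Lrot174 := rot174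
alias Lrot176 := rot176
alias Lrot178 := rot178
alias Lrot179 := rot179
alias Lrot180 := rot180
alias Lrot181 := rot181
alias Lrot185 := rot185
alias Lrot187 := rot187

section
variable (IH : IHT)
include IH

theorem f824819 : Led Lsl_bt K64.v12923 = (LP (LK LD1_c9 LD2_c9 LD3_c59)) :=
  Lgr Lrot130 (Lpr_ct (K64.f824817 IH) (Lpe (K64.f824815 IH) (Lpe (K64.f640638 IH) (Lpr_bt (K64.f210019 IH) (Lpe (K64.f210024 IH) (Lpr_bf (K64.f739493 IH) (Lpe (K64.f739489 IH) (Lpr_gf (K64.f100120 IH) (Lpe (K6.f100053 IH) (Lpe (K64.f100074 IH) (Lpn (LP (LK LD1_c9 LD2_c9 LD3_c59)))))))))))))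
theorem f76218 : Led Lsl_bt (LP (LK LD1_c2 LD2_c17 LD3_c3)) = (LP (LK LD1_c1 LD2_c5 LD3_c29)) :=
  Lre_b IH (LK LD1_c2 LD2_c17 LD3_c3) (LK LD1_c1 LD2_c5 LD3_c29) Lrfl Lrfl
theorem f58474 : Led Lsl_at (LP (LK LD1_c1 LD2_c5 LD3_c29)) = (LP (LK LD1_c0 LD2_c39 LD3_c49)) :=
  Lre_a IH (LK LD1_c1 LD2_c5 LD3_c29) (LK LD1_c0 LD2_c39 LD3_c49) Lrfl Lrfl
theorem f100092 : Led Lsl_bf (LP (LK LD1_c4 LD2_c37 LD3_c7)) = (LP (LK LD1_c2 LD2_c55 LD3_c27)) :=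
  Lgr Lrot81 (Lpr_at (K6.f100083 IH) (Lpr_bt (f76218 IH) (Lpr_at (f58474 IH) (Lpr_bt (K55.f58497 IH) (Lpr_at (K54.f74879 IH) (Lpn (LP (LK LD1_c2 LD2_c55 LD3_c27))))))))
theorem f76232 : Led Lsl_gt (LP (LK LD1_c11 LD2_c40 LD3_c53)) = (LP (LK LD1_c5 LD2_c58 LD3_c6)) :=
  Lre_g IH (LK LD1_c11 LD2_c40 LD3_c53) (LK LD1_c5 LD2_c58 LD3_c6) Lrfl Lrfl
theorem f499719 : Led Lsl_bt (LP (LK LD1_c20 LD2_c25 LD3_c56)) = (LP (LK LD1_c17 LD2_c57 LD3_c56)) :=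
  Lgr Lrot127 (Lpr_bf (K64.f499714 IH) (Lpn (LP (LK LD1_c17 LD2_c57 LD3_c56))))
theorem f428357 : Led Lsl_ft (LP (LK LD1_c17 LD2_c57 LD3_c56)) = (LP (LK LD1_c9 LD2_c47 LD3_c39)) :=
  Lre_f IH (LK LD1_c17 LD2_c57 LD3_c56) (LK LD1_c9 LD2_c47 LD3_c39) Lrfl Lrfl
theorem f499721 : Led Lsl_bf (LP (LK LD1_c11 LD2_c28 LD3_c24)) = (LP (LK LD1_c9 LD2_c47 LD3_c39)) :=
  Lgr Lrot61 (Lpr_ft (K53.f209999 IH) (Lpr_bt (f499719 IH) (Lpr_ft (f428357 IH) (Lpn (LP (LK LD1_c9 LD2_c47 LD3_c39))))))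
theorem f210018 : Led Lsl_at (LP (LK LD1_c11 LD2_c28 LD3_c24)) = (LP (LK LD1_c5 LD2_c49 LD3_c61)) :=
  Lre_a IH (LK LD1_c11 LD2_c28 LD3_c24) (LK LD1_c5 LD2_c49 LD3_c61) Lrfl Lrfl
theorem f210025 : Led Lsl_bt (LP (LK LD1_c5 LD2_c49 LD3_c61)) = (LP (LK LD1_c2 LD2_c51 LD3_c10)) :=
  Lre_b IH (LK LD1_c5 LD2_c49 LD3_c61) (LK LD1_c2 LD2_c51 LD3_c10) Lrfl Lrfl
theorem f499723 : Led Lsl_at (LP (LK LD1_c5 LD2_c52 LD3_c11)) = (LP (LK LD1_c9 LD2_c47 LD3_c39)) :=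
  Lgr Lrot67 (Lpe (K41.f74755 IH) (Lpr_af (K41.f496497 IH) (Lpe (f210025 IH) (Lpe (f210018 IH) (Lpr_bf (f499721 IH) (Lpn (LP (LK LD1_c9 LD2_c47 LD3_c39))))))))
theorem f428353 : Led Lsl_gt (LP (LK LD1_c17 LD2_c57 LD3_c55)) = (LP (LK LD1_c9 LD2_c47 LD3_c39)) :=
  Lre_g IH (LK LD1_c17 LD2_c57 LD3_c55) (LK LD1_c9 LD2_c47 LD3_c39) Lrfl Lrfl
theorem f499725 : Led Lsl_gt (LP (LK LD1_c11 LD2_c31 LD3_c17)) = (LP (LK LD1_c17 LD2_c57 LD3_c55)) :=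
  Lgr Lrot5 (Lpr_ft (K41.f74752 IH) (Lpr_at (f499723 IH) (Lpe (f428353 IH) (Lpn (LP (LK LD1_c17 LD2_c57 LD3_c55))))))
theorem f824820 : Led Lsl_cf (LP (LK LD1_c11 LD2_c40 LD3_c53)) = (LP (LK LD1_c17 LD2_c57 LD3_c55)) :=
  Lgr Lrot125 (Lpr_gt (f76232 IH) (Lpe (K54.f74878 IH) (Lpe (f100092 IH) (Lpr_gt (K42.f100073 IH) (Lpe (f824819 IH) (Lpr_ct (K64.f824817 IH) (Lpe (K64.f824816 IH) (Lpe (K64.f745116 IH) (Lpr_bt (K64.f74746 IH) (Lpr_gt (f499725 IH) (Lpn (LP (LK LD1_c17 LD2_c57 LD3_c55)))))))))))))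
theorem f824821 : Led Lsl_ct (LP (LK LD1_c17 LD2_c57 LD3_c55)) = (LP (LK LD1_c11 LD2_c40 LD3_c53)) :=
  Leop (Lpr_cf (f824820 IH) (Lpn (LP (LK LD1_c17 LD2_c57 LD3_c55))))
theorem seed_1871 : LEOK LG_c (LK LD1_c17 LD2_c57 LD3_c55) :=
  Leoe_c (LK LD1_c17 LD2_c57 LD3_c55) (f824821 IH)
theorem f76217 : Led Lsl_ct (LP (LK LD1_c4 LD2_c40 LD3_c6)) = (LP (LK LD1_c9 LD2_c15 LD3_c40)) :=
  Lre_c IH (LK LD1_c4 LD2_c40 LD3_c6) (LK LD1_c9 LD2_c15 LD3_c40) Lrfl Lrfl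
theorem f138414 : Led Lsl_ct (LP (LK LD1_c11 LD2_c34 LD3_c48)) = (LP (LK LD1_c5 LD2_c54 LD3_c29)) :=
  Lre_c IH (LK LD1_c11 LD2_c34 LD3_c48) (LK LD1_c5 LD2_c54 LD3_c29) Lrfl Lrfl
theorem f100125 : Led Lsl_ct (LP (LK LD1_c3 LD2_c0 LD3_c46)) = (LP (LK LD1_c6 LD2_c8 LD3_c54)) :=
  Lre_c IH (LK LD1_c3 LD2_c0 LD3_c46) (LK LD1_c6 LD2_c8 LD3_c54) Lrfl Lrfl
theorem f712233 : Led Lsl_af (LP (LK LD1_c11 LD2_c34 LD3_c48)) = (LP (LK LD1_c6 LD2_c8 LD3_c54)) :=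
  Lgr Lrot68 (Lpr_ct (f138414 IH) (Lpq (K52.f712198 IH) (Lpe (K52.f646367 IH) (Lpr_ct (f100125 IH) (Lpn (LP (LK LD1_c6 LD2_c8 LD3_c54)))))))
theorem f445944 : Led Lsl_ct (LP (LK LD1_c9 LD2_c15 LD3_c40)) = (LP (LK LD1_c4 LD2_c40 LD3_c6)) :=
  Lre_c IH (LK LD1_c9 LD2_c15 LD3_c40) (LK LD1_c4 LD2_c40 LD3_c6) Lrfl Lrfl
theorem f639507 : Led Lsl_ff (LP (LK LD1_c9 LD2_c15 LD3_c40)) = (LP (LK LD1_c6 LD2_c8 LD3_c54)) :=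
  Lgr Lrot23 (Lpr_ct (f445944 IH) (Lpr_ft (K52.f639505 IH) (Lpr_ct (f100125 IH) (Lpn (LP (LK LD1_c6 LD2_c8 LD3_c54))))))
theorem f639509 : Led Lsl_ft (LP (LK LD1_c9 LD2_c15 LD3_c40)) = (LP (LK LD1_c6 LD2_c8 LD3_c54)) :=
  Lgr Lrot48 (Lpr_ff (f639507 IH) (Lpn (LP (LK LD1_c6 LD2_c8 LD3_c54))))
theorem f74873 : Led Lsl_at (LP (LK LD1_c3 LD2_c0 LD3_c39)) = (LP (LK LD1_c5 LD2_c58 LD3_c6)) :=
  Lgr Lrot100 (Lpr_af (K2.f74868 IH) (Lpn (LP (LK LD1_c5 LD2_c58 LD3_c6))))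
theorem f76233 : Led Lsl_gt (LP (LK LD1_c6 LD2_c8 LD3_c42)) = (LP (LK LD1_c11 LD2_c40 LD3_c53)) :=
  Lgr Lrot5 (Lpr_ft (K1.f58599 IH) (Lpr_at (f74873 IH) (Lpe (f76232 IH) (Lpn (LP (LK LD1_c11 LD2_c40 LD3_c53))))))
theorem f24104 : Led Lsl_gt (LP (LK LD1_c11 LD2_c29 LD3_c44)) = (LP (LK LD1_c5 LD2_c51 LD3_c8)) :=
  Lre_g IH (LK LD1_c11 LD2_c29 LD3_c44) (LK LD1_c5 LD2_c51 LD3_c8) Lrfl Lrfl
theorem f824824 : Led Lsl_bf (LP (LK LD1_c11 LD2_c29 LD3_c44)) = (LP (LK LD1_c17 LD2_c57 LD3_c55)) :=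
  Lgr Lrot156 (Lpr_gt (f24104 IH) (Lpe (K52.f24120 IH) (Lpr_ct (K56.f24086 IH) (Lpr_gt (K56.f112208 IH) (Lpe (K56.f739482 IH) (Lpr_bt (K56.f739468 IH) (Lpe (K56.f76191 IH) (Lpr_ct (K55.f74907 IH) (Lpr_gt (f76233 IH) (Lpr_cf (f824820 IH) (Lpn (LP (LK LD1_c17 LD2_c57 LD3_c55)))))))))))))
theorem f824826 : Led Lsl_bt (LP (LK LD1_c11 LD2_c29 LD3_c44)) = (LP (LK LD1_c17 LD2_c57 LD3_c55)) :=
  Lgr Lrot127 (Lpr_bf (f824824 IH) (Lpn (LP (LK LD1_c17 LD2_c57 LD3_c55))))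
theorem f560092 : Led Lsl_bt (LP (LK LD1_c3 LD2_c10 LD3_c14)) = (LP (LK LD1_c4 LD2_c34 LD3_c41)) :=
  Lgr Lrot95 (Lpr_df (K50.f560090 IH) (Lpe (K52.f20505 IH) (Lpr_df (K35.f20502 IH) (Lpn (LP (LK LD1_c4 LD2_c34 LD3_c41))))))
theorem f116798 : Led Lsl_gt (LP (LK LD1_c12 LD2_c23 LD3_c19)) = (LP (LK LD1_c6 LD2_c25 LD3_c9)) :=
  Lre_g IH (LK LD1_c12 LD2_c23 LD3_c19) (LK LD1_c6 LD2_c25 LD3_c9) Lrfl Lrfl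
theorem f824840 : Led Lsl_ct (LP (LK LD1_c11 LD2_c29 LD3_c44)) = (LP (LK LD1_c12 LD2_c23 LD3_c19)) :=
  Lgr Lrot64 (Lpr_bt (f824826 IH) (Lpe (f499725 IH) (Lpe (K64.f74746 IH) (Lpr_ct (K64.f745116 IH) (Lpr_gf (K64.f824816 IH) (Lpe (K64.f824817 IH) (Lpe (K64.f699618 IH) (Lpe (f560092 IH) (Lpr_ct (K60.f69233 IH) (Lpe (f116798 IH) (Lpn (LP (LK LD1_c12 LD2_c23 LD3_c19)))))))))))))
theorem f499896 : Led Lsl_gt (LP (LK LD1_c11 LD2_c38 LD3_c34)) = (LP (LK LD1_c12 LD2_c23 LD3_c19)) :=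
  Lgr Lrot5 (Lpr_ft (K56.f496908 IH) (Lpr_at (K32.f496793 IH) (Lpe (f116798 IH) (Lpn (LP (LK LD1_c12 LD2_c23 LD3_c19))))))
theorem f701172 : Led Lsl_bt K52.v5177 = K52.v13112 :=
  Lgr Lrot127 (Lpr_bf (K52.f701166 IH) (Lpn K52.v13112))
theorem f138421 : Led Lsl_ct (LP (LK LD1_c5 LD2_c54 LD3_c29)) = (LP (LK LD1_c11 LD2_c34 LD3_c48)) :=
  Lre_c IH (LK LD1_c5 LD2_c54 LD3_c29) (LK LD1_c11 LD2_c34 LD3_c48) Lrfl Lrfl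
theorem f496595 : Led Lsl_bt (LP (LK LD1_c11 LD2_c28 LD3_c24)) = (LP (LK LD1_c9 LD2_c47 LD3_c39)) :=
  Lgr Lrot119 (Lpe (K53.f209998 IH) (Lpr_bf (K32.f496589 IH) (Lpe (K64.f424546 IH) (Lpn (LP (LK LD1_c9 LD2_c47 LD3_c39))))))
theorem f112380 : Led Lsl_et (LP (LK LD1_c4 LD2_c36 LD3_c15)) = (LP (LK LD1_c9 LD2_c8 LD3_c40)) :=
  Lre_e IH (LK LD1_c4 LD2_c36 LD3_c15) (LK LD1_c9 LD2_c8 LD3_c40) Lrfl Lrfl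
theorem f438127 : Led Lsl_et (LP (LK LD1_c5 LD2_c54 LD3_c42)) = (LP (LK LD1_c2 LD2_c53 LD3_c42)) :=
  Lre_e IH (LK LD1_c5 LD2_c54 LD3_c42) (LK LD1_c2 LD2_c53 LD3_c42) Lrfl Lrfl
theorem f496556 : Led Lsl_at (LP (LK LD1_c9 LD2_c8 LD3_c40)) = (LP (LK LD1_c5 LD2_c54 LD3_c42)) :=
  Lgr Lrot80 (Lpe (f112380 IH) (Lpr_af (K32.f496550 IH) (Lpe (f438127 IH) (Lpn (LP (LK LD1_c5 LD2_c54 LD3_c42))))))
theorem f112384 : Led Lsl_et (LP (LK LD1_c9 LD2_c8 LD3_c40)) = (LP (LK LD1_c4 LD2_c36 LD3_c15)) :=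
  Lre_e IH (LK LD1_c9 LD2_c8 LD3_c40) (LK LD1_c4 LD2_c36 LD3_c15) Lrfl Lrfl
theorem f205780 : Led Lsl_et (LP (LK LD1_c2 LD2_c51 LD3_c8)) = (LP (LK LD1_c5 LD2_c49 LD3_c61)) :=
  Lre_e IH (LK LD1_c2 LD2_c51 LD3_c8) (LK LD1_c5 LD2_c49 LD3_c61) Lrfl Lrfl
theorem f205781 : Led Lsl_cf (LP (LK LD1_c9 LD2_c8 LD3_c40)) = (LP (LK LD1_c5 LD2_c49 LD3_c61)) :=
  Lgr Lrot39 (Lpr_et (f112384 IH) (Lpr_ct (K11.f205767 IH) (Lpr_et (f205780 IH) (Lpn (LP (LK LD1_c5 LD2_c49 LD3_c61))))))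
theorem f499940 : Led Lsl_cf (LP (LK LD1_c11 LD2_c28 LD3_c24)) = (LP (LK LD1_c5 LD2_c54 LD3_c42)) :=
  Lgr Lrot1 (Lpr_at (f210018 IH) (Lpe (f205781 IH) (Lpr_at (f496556 IH) (Lpn (LP (LK LD1_c5 LD2_c54 LD3_c42))))))
theorem f499943 : Led Lsl_ct (LP (LK LD1_c11 LD2_c28 LD3_c24)) = (LP (LK LD1_c5 LD2_c54 LD3_c42)) :=
  Lgr Lrot59 (Lpr_cf (f499940 IH) (Lpn (LP (LK LD1_c5 LD2_c54 LD3_c42))))
def v16191 : LQ := Led Lsl_gt (LP (LK LD1_c5 LD2_c54 LD3_c42))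
theorem f746970 : Led Lsl_gt (LP (LK LD1_c5 LD2_c54 LD3_c42)) = v16191 :=
  Lrfl
theorem f824842 : (LP (LK LD1_c11 LD2_c34 LD3_c48)) = v16191 :=
  (Llr Lrot10 (Lpe (f138421 IH) (Lpq (K52.f712198 IH) (Lpr_bt (f701172 IH) (Lpqs (K52.f714134 IH) (Lpe (K52.f499893 IH) (Lpr_ct (K60.f157098 IH) (Lpr_gt (f499896 IH) (Lpe (f824840 IH) (Lpr_bt (f824826 IH) (Lpr_gt (f428353 IH) (Lpe (f496595 IH) (Lpr_ct (f499943 IH) (Lpr_gt (f746970 IH) (Lpn v16191))))))))))))))).symm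
def v16192 : LQ := Led Lsl_gf (LP (LK LD1_c5 LD2_c54 LD3_c42))
theorem f746971 : Led Lsl_gf (LP (LK LD1_c5 LD2_c54 LD3_c42)) = v16192 :=
  Lrfl
theorem f824844 : (LP (LK LD1_c9 LD2_c15 LD3_c40)) = v16192 :=
  (Llr Lrot52 (Lpr_ft (f639509 IH) (Lpe (f712233 IH) (Lpqs (f824842 IH) (Lpe (f746970 IH) (Lpr_gf (f746971 IH) (Lpn v16192))))))).symm
theorem f824846 : Led Lsl_gf (LP (LK LD1_c11 LD2_c24 LD3_c61)) = (LP (LK LD1_c9 LD2_c47 LD3_c39)) :=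
  Lgr Lrot181 (Lpr_ct (K55.f445947 IH) (Lpe (K55.f76214 IH) (Lpe (K55.f74907 IH) (Lpr_bt (K1.f58569 IH) (Lpr_gt (K48.f58579 IH) (Lpe (K56.f76216 IH) (Lpr_ct (f76217 IH) (Lpqs (f824844 IH) (Lpe (f746971 IH) (Lpe (f499943 IH) (Lpr_bt (f496595 IH) (Lpn (LP (LK LD1_c9 LD2_c47 LD3_c39))))))))))))))
theorem f445953 : Led Lsl_dt (LP (LK LD1_c11 LD2_c24 LD3_c61)) = (LP (LK LD1_c20 LD2_c22 LD3_c33)) :=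
  Lre_d IH (LK LD1_c11 LD2_c24 LD3_c61) (LK LD1_c20 LD2_c22 LD3_c33) Lrfl Lrfl
theorem f720179 : Led Lsl_dt (LP (LK LD1_c6 LD2_c8 LD3_c44)) = (LP (LK LD1_c11 LD2_c58 LD3_c60)) :=
  Lre_d IH (LK LD1_c6 LD2_c8 LD3_c44) (LK LD1_c11 LD2_c58 LD3_c60) Lrfl Lrfl
theorem f720214 : Led Lsl_gt (LP (LK LD1_c11 LD2_c58 LD3_c60)) = (LP (LK LD1_c20 LD2_c46 LD3_c20)) :=
  Lgr Lrot139 (Lpe (f720179 IH) (Lpr_gf (K56.f720177 IH) (Lpe (K64.f426051 IH) (Lpe (K28.f426297 IH) (Lpr_gf (K43.f156786 IH) (Lpe (K37.f72650 IH) (Lpr_et (K55.f156788 IH) (Lpe (K45.f156789 IH) (Lpe (K55.f156790 IH) (Lpr_dt (K55.f156791 IH) (Lpn (LP (LK LD1_c20 LD2_c46 LD3_c20)))))))))))))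
theorem f720216 : Led Lsl_dt (LP (LK LD1_c20 LD2_c46 LD3_c20)) = (LP (LK LD1_c11 LD2_c44 LD3_c61)) :=
  Lre_d IH (LK LD1_c20 LD2_c46 LD3_c20) (LK LD1_c11 LD2_c44 LD3_c61) Lrfl Lrfl
theorem f744348 : Led Lsl_ef (LP (LK LD1_c5 LD2_c50 LD3_c24)) = K55.v15949 :=
  Lgr Lrot88 (Lpr_et (K55.f744344 IH) (Lpn K55.v15949))
theorem f622576 : Led Lsl_et (LP (LK LD1_c5 LD2_c51 LD3_c51)) = (LP (LK LD1_c11 LD2_c30 LD3_c57)) :=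
  Lre_e IH (LK LD1_c5 LD2_c51 LD3_c51) (LK LD1_c11 LD2_c30 LD3_c57) Lrfl Lrfl
theorem f744351 : Led Lsl_dt (LP (LK LD1_c11 LD2_c30 LD3_c57)) = K55.v15949 :=
  Lgr Lrot77 (Lpe (f622576 IH) (Lpe (K53.f535820 IH) (Lpe (K45.f535817 IH) (Lpr_df (K45.f622572 IH) (Lpr_ef (f744348 IH) (Lpn K55.v15949))))))
theorem f824850 : Led Lsl_gt (LP (LK LD1_c20 LD2_c22 LD3_c33)) = (LP (LK LD1_c11 LD2_c30 LD3_c57)) :=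
  Lgr Lrot49 (Lpe (f445953 IH) (Lpr_gf (f824846 IH) (Lpe (K64.f426052 IH) (Lpe (K56.f720177 IH) (Lpr_dt (f720179 IH) (Lpr_gt (f720214 IH) (Lpr_dt (f720216 IH) (Lpr_cf (K55.f744346 IH) (Lpe (f744351 IH) (Lpn (LP (LK LD1_c11 LD2_c30 LD3_c57))))))))))))
theorem f824851 : Led Lsl_gt (LP (LK LD1_c20 LD2_c22 LD3_c33)) = (LP (LK LD1_c11 LD2_c30 LD3_c57)) :=
  Leop (Lpe (f824850 IH) (Lpn (LP (LK LD1_c20 LD2_c22 LD3_c33))))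
theorem seed_1872 : LEOK LG_g (LK LD1_c20 LD2_c22 LD3_c33) :=
  Leoe_g (LK LD1_c20 LD2_c22 LD3_c33) (f824851 IH)
theorem f824872 : Led Lsl_bf K64.v12923 = (LP (LK LD1_c9 LD2_c9 LD3_c59)) :=
  Lgr Lrot24 (Lpr_bt (f824819 IH) (Lpn (LP (LK LD1_c9 LD2_c9 LD3_c59))))
theorem f699627 : Led Lsl_af (LP (LK LD1_c5 LD2_c50 LD3_c47)) = K50.v12925 :=
  Lgr Lrot45 (Lpr_ft (K50.f22154 IH) (Lpe (K50.f302469 IH) (Lpr_ft (K50.f699626 IH) (Lpn K50.v12925))))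
theorem f699632 : Led Lsl_gt K64.v12923 = (LP (LK LD1_c5 LD2_c50 LD3_c47)) :=
  Lgr Lrot46 (Lpe (K64.f699618 IH) (Lpr_ft (K50.f699626 IH) (Lpe (f699627 IH) (Lpn (LP (LK LD1_c5 LD2_c50 LD3_c47))))))
theorem f100077 : Led Lsl_ct (LP (LK LD1_c9 LD2_c9 LD3_c59)) = (LP (LK LD1_c17 LD2_c3 LD3_c5)) :=
  Lre_c IH (LK LD1_c9 LD2_c9 LD3_c59) (LK LD1_c17 LD2_c3 LD3_c5) Lrfl Lrfl
theorem f824873 : Led Lsl_gt (LP (LK LD1_c9 LD2_c10 LD3_c0)) = (LP (LK LD1_c17 LD2_c3 LD3_c5)) :=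
  Lgr Lrot65 (Lpe (K56.f100286 IH) (Lpr_bt (K52.f100307 IH) (Lpe (K52.f64356 IH) (Lpr_bf (K55.f739456 IH) (Lpr_ct (K55.f745097 IH) (Lpe (K55.f745101 IH) (Lpe (K55.f744520 IH) (Lpe (f699632 IH) (Lpr_bf (f824872 IH) (Lpr_ct (f100077 IH) (Lpn (LP (LK LD1_c17 LD2_c3 LD3_c5)))))))))))))
theorem f824874 : Led Lsl_gt (LP (LK LD1_c9 LD2_c10 LD3_c0)) = (LP (LK LD1_c17 LD2_c3 LD3_c5)) :=
  Leop (Lpe (f824873 IH) (Lpn (LP (LK LD1_c9 LD2_c10 LD3_c0))))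
theorem seed_1873 : LEOK LG_g (LK LD1_c9 LD2_c10 LD3_c0) :=
  Leoe_g (LK LD1_c9 LD2_c10 LD3_c0) (f824874 IH)
def v4909 : LQ := Led Lsl_dt (LP (LK LD1_c2 LD2_c52 LD3_c37))
def v24676 : LQ := Led Lsl_gt v4909
theorem f825091 : Led Lsl_gt v4909 = v24676 :=
  Lrfl
theorem f640863 : Led Lsl_dt (LP (LK LD1_c2 LD2_c52 LD3_c37)) = v4909 :=
  Lrfl
def v19769 : LQ := Led Lsl_et (LP (LK LD1_c6 LD2_c46 LD3_c25))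
theorem f782034 : Led Lsl_et (LP (LK LD1_c6 LD2_c46 LD3_c25)) = v19769 :=
  Lrfl
theorem f782036 : Led Lsl_ef (LP (LK LD1_c6 LD2_c46 LD3_c25)) = v19769 :=
  Lgr Lrot88 (Lpr_et (f782034 IH) (Lpn v19769))
theorem f825093 : Led Lsl_dt v19769 = v24676 :=
  Lgr Lrot56 (Lpe (f782036 IH) (Lpr_gt (K17.f413859 IH) (Lpe (K7.f40331 IH) (Lpr_dt (K7.f99547 IH) (Lpe (K5.f101598 IH) (Lpe (K8.f37072 IH) (Lpr_et (K52.f101609 IH) (Lpq (K52.f711180 IH) (Lpe (K52.f640861 IH) (Lpr_dt (f640863 IH) (Lpr_gt (f825091 IH) (Lpn v24676))))))))))))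
theorem f413877 : Led Lsl_ft (LP (LK LD1_c1 LD2_c56 LD3_c34)) = (LP (LK LD1_c3 LD2_c59 LD3_c52)) :=
  Lre_f IH (LK LD1_c1 LD2_c56 LD3_c34) (LK LD1_c3 LD2_c59 LD3_c52) Lrfl Lrfl
theorem f413878 : Led Lsl_ef (LP (LK LD1_c3 LD2_c21 LD3_c23)) = (LP (LK LD1_c3 LD2_c59 LD3_c52)) :=
  Lgr Lrot21 (Lpr_ft (K17.f413864 IH) (Lpr_et (K60.f80245 IH) (Lpr_ft (K7.f36270 IH) (Lpr_et (K52.f112570 IH) (Lpr_ft (f413877 IH) (Lpn (LP (LK LD1_c3 LD2_c59 LD3_c52))))))))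
theorem f640866 : Led Lsl_ff (LP (LK LD1_c6 LD2_c30 LD3_c22)) = v4909 :=
  Lgr Lrot19 (Lpr_dt (K55.f140800 IH) (Lpe (K41.f505659 IH) (Lpr_dt (f640863 IH) (Lpn v4909))))
theorem f506250 : Led Lsl_at (LP (LK LD1_c6 LD2_c30 LD3_c22)) = (LP (LK LD1_c12 LD2_c30 LD3_c3)) :=
  Lre_a IH (LK LD1_c6 LD2_c30 LD3_c22) (LK LD1_c12 LD2_c30 LD3_c3) Lrfl Lrfl
theorem f825092 : Led Lsl_gf (LP (LK LD1_c12 LD2_c30 LD3_c3)) = v24676 :=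
  Lgr Lrot76 (Lpe (f506250 IH) (Lpr_ff (f640866 IH) (Lpr_gt (f825091 IH) (Lpn v24676))))
theorem f505677 : Led Lsl_dt (LP (LK LD1_c6 LD2_c30 LD3_c21)) = (LP (LK LD1_c12 LD2_c30 LD3_c3)) :=
  Lre_d IH (LK LD1_c6 LD2_c30 LD3_c21) (LK LD1_c12 LD2_c30 LD3_c3) Lrfl Lrfl
theorem f642469 : Led Lsl_gt (LP (LK LD1_c12 LD2_c30 LD3_c4)) = (LP (LK LD1_c21 LD2_c36 LD3_c40)) :=
  Lre_g IH (LK LD1_c12 LD2_c30 LD3_c4) (LK LD1_c21 LD2_c36 LD3_c40) Lrfl Lrfl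
theorem f825096 : Led Lsl_df (LP (LK LD1_c15 LD2_c4 LD3_c10)) = (LP (LK LD1_c21 LD2_c36 LD3_c40)) :=
  Lgr Lrot135 (Lpr_gt (K57.f140479 IH) (Lpe (K24.f140859 IH) (Lpe (f413878 IH) (Lpr_gt (K17.f413573 IH) (Lpr_ef (f782036 IH) (Lpr_dt (f825093 IH) (Lpe (f825092 IH) (Lpe (f505677 IH) (Lpr_et (K41.f505705 IH) (Lpr_gt (f642469 IH) (Lpn (LP (LK LD1_c21 LD2_c36 LD3_c40)))))))))))))
theorem f825097 : Led Lsl_dt (LP (LK LD1_c21 LD2_c36 LD3_c40)) = (LP (LK LD1_c15 LD2_c4 LD3_c10)) :=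
  Leop (Lpr_df (f825096 IH) (Lpn (LP (LK LD1_c21 LD2_c36 LD3_c40))))
theorem seed_1874 : LEOK LG_d (LK LD1_c21 LD2_c36 LD3_c40) :=
  Leoe_d (LK LD1_c21 LD2_c36 LD3_c40) (f825097 IH)
theorem f101710 : Led Lsl_et (LP (LK LD1_c6 LD2_c51 LD3_c13)) = (LP (LK LD1_c3 LD2_c24 LD3_c5)) :=
  Lre_e IH (LK LD1_c6 LD2_c51 LD3_c13) (LK LD1_c3 LD2_c24 LD3_c5) Lrfl Lrfl
def v6598 : LQ := Led Lsl_ft (LP (LK LD1_c3 LD2_c24 LD3_c4))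
theorem f654362 : Led Lsl_ft (LP (LK LD1_c3 LD2_c24 LD3_c4)) = v6598 :=
  Lrfl
theorem f654364 : Led Lsl_ff (LP (LK LD1_c3 LD2_c24 LD3_c4)) = v6598 :=
  Lgr Lrot3 (Lpr_ft (f654362 IH) (Lpn v6598))
theorem f654366 : Led Lsl_at (LP (LK LD1_c3 LD2_c24 LD3_c5)) = v6598 :=
  Lgr Lrot66 (Lpr_ff (K60.f654359 IH) (Lpe (K60.f654354 IH) (Lpr_ff (f654364 IH) (Lpn v6598))))
theorem f414484 : Led Lsl_bt (LP (LK LD1_c3 LD2_c24 LD3_c4)) = (LP (LK LD1_c6 LD2_c51 LD3_c6)) :=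
  Lre_b IH (LK LD1_c3 LD2_c24 LD3_c4) (LK LD1_c6 LD2_c51 LD3_c6) Lrfl Lrfl
theorem f785071 : Led Lsl_bf v6598 = K60.v20150 :=
  Lgr Lrot61 (Lpe (f654364 IH) (Lpr_bt (f414484 IH) (Lpr_ft (K60.f785070 IH) (Lpn K60.v20150))))
theorem f785150 : v6598 = (LP (LK LD1_c6 LD2_c46 LD3_c25)) :=
  Lefun (Lecon (Lfl_bf (f785071 IH)) (K60.f785147 IH).symm) (Lfl_bf (K17.f413575 IH))
theorem f785251 : Led Lsl_af (LP (LK LD1_c6 LD2_c51 LD3_c13)) = v19769 :=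
  Lgr Lrot50 (Lpr_et (f101710 IH) (Lpr_at (f654366 IH) (Lpqs (f785150 IH) (Lpr_et (f782034 IH) (Lpn v19769)))))
theorem f785252 : Led Lsl_at (LP (LK LD1_c6 LD2_c51 LD3_c13)) = v19769 :=
  Lgr Lrot100 (Lpr_af (f785251 IH) (Lpn v19769))
theorem f825094 : Led Lsl_af (LP (LK LD1_c12 LD2_c30 LD3_c6)) = v24676 :=
  Lgr Lrot117 (Lpe (K55.f741655 IH) (Lpr_at (f785252 IH) (Lpr_dt (f825093 IH) (Lpn v24676))))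
def v16115 : LQ := Led Lsl_dt (LP (LK LD1_c5 LD2_c52 LD3_c43))
theorem f746590 : Led Lsl_dt (LP (LK LD1_c5 LD2_c52 LD3_c43)) = v16115 :=
  Lrfl
theorem f746594 : Led Lsl_gf (LP (LK LD1_c12 LD2_c30 LD3_c6)) = v16115 :=
  Lgr Lrot134 (Lpe (K55.f741650 IH) (Lpr_et (f101710 IH) (Lpr_gt (K54.f101704 IH) (Lpe (K17.f99549 IH) (Lpr_dt (K8.f99538 IH) (Lpr_gt (K4.f36621 IH) (Lpe (K4.f99504 IH) (Lpr_et (K4.f74969 IH) (Lpr_gt (K42.f641799 IH) (Lpr_dt (f746590 IH) (Lpn v16115)))))))))))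
theorem f505684 : Led Lsl_dt (LP (LK LD1_c12 LD2_c30 LD3_c3)) = (LP (LK LD1_c6 LD2_c30 LD3_c21)) :=
  Lre_d IH (LK LD1_c12 LD2_c30 LD3_c3) (LK LD1_c6 LD2_c30 LD3_c21) Lrfl Lrfl
theorem f746593 : Led Lsl_ff (LP (LK LD1_c12 LD2_c30 LD3_c3)) = v16115 :=
  Lgr Lrot19 (Lpr_dt (f505684 IH) (Lpe (K52.f505670 IH) (Lpr_dt (f746590 IH) (Lpn v16115))))
theorem f506249 : Led Lsl_at (LP (LK LD1_c12 LD2_c30 LD3_c3)) = (LP (LK LD1_c6 LD2_c30 LD3_c22)) :=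
  Lre_a IH (LK LD1_c12 LD2_c30 LD3_c3) (LK LD1_c6 LD2_c30 LD3_c22) Lrfl Lrfl
theorem f640868 : Led Lsl_ft (LP (LK LD1_c6 LD2_c30 LD3_c22)) = v4909 :=
  Lgr Lrot48 (Lpr_ff (f640866 IH) (Lpn v4909))
theorem f746595 : Led Lsl_at v4909 = v16115 :=
  Lgr Lrot66 (Lpe (f640868 IH) (Lpe (f506249 IH) (Lpr_ff (f746593 IH) (Lpn v16115))))
theorem f640869 : Led Lsl_gt (LP (LK LD1_c6 LD2_c30 LD3_c22)) = (LP (LK LD1_c12 LD2_c30 LD3_c5)) :=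
  Lre_g IH (LK LD1_c6 LD2_c30 LD3_c22) (LK LD1_c12 LD2_c30 LD3_c5) Lrfl Lrfl
theorem f746597 : Led Lsl_gt (LP (LK LD1_c12 LD2_c30 LD3_c5)) = v16115 :=
  Lgr Lrot46 (Lpe (f640869 IH) (Lpr_ft (f640868 IH) (Lpr_at (f746595 IH) (Lpn v16115))))
theorem f825101 : Led Lsl_ft (LP (LK LD1_c12 LD2_c30 LD3_c5)) = v24676 :=
  Lgr Lrot2 (Lpr_gt (f746597 IH) (Lpe (f746594 IH) (Lpr_af (f825094 IH) (Lpn v24676))))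
theorem f825095 : Led Lsl_df v19769 = v24676 :=
  Lgr Lrot38 (Lpr_dt (f825093 IH) (Lpn v24676))
theorem f445670 : Led Lsl_at (LP (LK LD1_c17 LD2_c16 LD3_c38)) = (LP (LK LD1_c9 LD2_c20 LD3_c40)) :=
  Lre_a IH (LK LD1_c17 LD2_c16 LD3_c38) (LK LD1_c9 LD2_c20 LD3_c40) Lrfl Lrfl
theorem f747886 : Led Lsl_gt (LP (LK LD1_c11 LD2_c28 LD3_c54)) = (LP (LK LD1_c6 LD2_c51 LD3_c13)) :=
  Lgr Lrot5 (Lpr_ft (K35.f505028 IH) (Lpr_at (f445670 IH) (Lpr_gf (K58.f747884 IH) (Lpn (LP (LK LD1_c6 LD2_c51 LD3_c13))))))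
theorem f139951 : Led Lsl_bt (LP (LK LD1_c5 LD2_c50 LD3_c31)) = (LP (LK LD1_c2 LD2_c51 LD3_c27)) :=
  Lre_b IH (LK LD1_c5 LD2_c50 LD3_c31) (LK LD1_c2 LD2_c51 LD3_c27) Lrfl Lrfl
theorem f505010 : Led Lsl_ff (LP (LK LD1_c5 LD2_c50 LD3_c31)) = (LP (LK LD1_c9 LD2_c20 LD3_c40)) :=
  Lgr Lrot25 (Lpr_bt (f139951 IH) (Lpr_ft (K35.f505006 IH) (Lpr_bt (K35.f442827 IH) (Lpn (LP (LK LD1_c9 LD2_c20 LD3_c40))))))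
theorem f505032 : Led Lsl_at (LP (LK LD1_c5 LD2_c50 LD3_c31)) = (LP (LK LD1_c11 LD2_c28 LD3_c54)) :=
  Lre_a IH (LK LD1_c5 LD2_c50 LD3_c31) (LK LD1_c11 LD2_c28 LD3_c54) Lrfl Lrfl
theorem f442828 : Led Lsl_gt (LP (LK LD1_c9 LD2_c20 LD3_c40)) = (LP (LK LD1_c17 LD2_c16 LD3_c37)) :=
  Lre_g IH (LK LD1_c9 LD2_c20 LD3_c40) (LK LD1_c17 LD2_c16 LD3_c37) Lrfl Lrfl
theorem f505065 : Led Lsl_gf (LP (LK LD1_c11 LD2_c28 LD3_c54)) = (LP (LK LD1_c17 LD2_c16 LD3_c37)) :=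
  Lgr Lrot76 (Lpe (f505032 IH) (Lpr_ff (f505010 IH) (Lpr_gt (f442828 IH) (Lpn (LP (LK LD1_c17 LD2_c16 LD3_c37))))))
theorem f785253 : Led Lsl_ft (LP (LK LD1_c17 LD2_c16 LD3_c37)) = v19769 :=
  Lgr Lrot2 (Lpe (f505065 IH) (Lpr_gt (f747886 IH) (Lpr_af (f785251 IH) (Lpn v19769))))
theorem f785255 : Led Lsl_ff (LP (LK LD1_c17 LD2_c16 LD3_c37)) = v19769 :=
  Lgr Lrot3 (Lpr_ft (f785253 IH) (Lpn v19769))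
theorem f825102 : Led Lsl_df (LP (LK LD1_c12 LD2_c30 LD3_c5)) = (LP (LK LD1_c17 LD2_c16 LD3_c37)) :=
  Lgr Lrot78 (Lpr_ft (f825101 IH) (Lpe (f825095 IH) (Lpe (f785255 IH) (Lpn (LP (LK LD1_c17 LD2_c16 LD3_c37))))))
theorem f825103 : Led Lsl_dt (LP (LK LD1_c17 LD2_c16 LD3_c37)) = (LP (LK LD1_c12 LD2_c30 LD3_c5)) :=
  Leop (Lpr_df (f825102 IH) (Lpn (LP (LK LD1_c17 LD2_c16 LD3_c37))))
theorem seed_1875 : LEOK LG_d (LK LD1_c17 LD2_c16 LD3_c37) :=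
  Leoe_d (LK LD1_c17 LD2_c16 LD3_c37) (f825103 IH)
def v4913 : LQ := Led Lsl_dt (LP (LK LD1_c2 LD2_c52 LD3_c39))
def v24680 : LQ := Led Lsl_gt v4913
theorem f825125 : Led Lsl_gt v4913 = v24680 :=
  Lrfl
theorem f640888 : Led Lsl_dt (LP (LK LD1_c2 LD2_c52 LD3_c39)) = v4913 :=
  Lrfl
theorem f72851 : Led Lsl_gt (LP (LK LD1_c5 LD2_c47 LD3_c1)) = (LP (LK LD1_c11 LD2_c24 LD3_c14)) :=
  Lre_g IH (LK LD1_c5 LD2_c47 LD3_c1) (LK LD1_c11 LD2_c24 LD3_c14) Lrfl Lrfl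
theorem f75455 : Led Lsl_et (LP (LK LD1_c9 LD2_c46 LD3_c15)) = (LP (LK LD1_c11 LD2_c24 LD3_c14)) :=
  Lgr Lrot122 (Lpr_dt (K52.f75454 IH) (Lpr_gt (K52.f75453 IH) (Lpe (K52.f75452 IH) (Lpr_et (K17.f75451 IH) (Lpr_gt (K4.f56864 IH) (Lpr_dt (K4.f75398 IH) (Lpr_gt (K4.f72839 IH) (Lpe (K2.f72849 IH) (Lpr_et (K2.f72850 IH) (Lpr_gt (f72851 IH) (Lpn (LP (LK LD1_c11 LD2_c24 LD3_c14)))))))))))))
theorem f75463 : Led Lsl_ef (LP (LK LD1_c9 LD2_c46 LD3_c15)) = (LP (LK LD1_c11 LD2_c24 LD3_c14)) :=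
  Lgr Lrot88 (Lpr_et (f75455 IH) (Lpn (LP (LK LD1_c11 LD2_c24 LD3_c14))))
theorem f72854 : Led Lsl_dt (LP (LK LD1_c11 LD2_c24 LD3_c14)) = (LP (LK LD1_c20 LD2_c22 LD3_c2)) :=
  Lre_d IH (LK LD1_c11 LD2_c24 LD3_c14) (LK LD1_c20 LD2_c22 LD3_c2) Lrfl Lrfl
theorem f698961 : Led Lsl_gf (LP (LK LD1_c12 LD2_c25 LD3_c43)) = (LP (LK LD1_c20 LD2_c22 LD3_c2)) :=
  Lgr Lrot134 (Lpe (K52.f623445 IH) (Lpr_et (K52.f623203 IH) (Lpr_gt (K52.f648737 IH) (Lpqs (K52.f698948 IH) (Lpe (K53.f75450 IH) (Lpr_dt (K4.f75398 IH) (Lpr_gt (K4.f72839 IH) (Lpe (K2.f72849 IH) (Lpr_et (K2.f72850 IH) (Lpr_gt (f72851 IH) (Lpr_dt (f72854 IH) (Lpn (LP (LK LD1_c20 LD2_c22 LD3_c2))))))))))))))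
theorem f623451 : Led Lsl_dt (LP (LK LD1_c12 LD2_c25 LD3_c43)) = (LP (LK LD1_c6 LD2_c26 LD3_c58)) :=
  Lre_d IH (LK LD1_c12 LD2_c25 LD3_c43) (LK LD1_c6 LD2_c26 LD3_c58) Lrfl Lrfl
theorem f669376 : Led Lsl_at (LP (LK LD1_c20 LD2_c22 LD3_c14)) = (LP (LK LD1_c12 LD2_c25 LD3_c43)) :=
  Lgr Lrot51 (Lpr_df (K53.f669347 IH) (Lpe (K53.f623442 IH) (Lpe (f623451 IH) (Lpn (LP (LK LD1_c12 LD2_c25 LD3_c43))))))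
theorem f669384 : Led Lsl_ff (LP (LK LD1_c20 LD2_c22 LD3_c14)) = (LP (LK LD1_c21 LD2_c9 LD3_c49)) :=
  Lgr Lrot3 (Lpr_ft (K53.f669380 IH) (Lpn (LP (LK LD1_c21 LD2_c9 LD3_c49))))
theorem f698963 : Led Lsl_gt (LP (LK LD1_c21 LD2_c9 LD3_c49)) = (LP (LK LD1_c20 LD2_c22 LD3_c2)) :=
  Lgr Lrot5 (Lpe (f669384 IH) (Lpr_at (f669376 IH) (Lpr_gf (f698961 IH) (Lpn (LP (LK LD1_c20 LD2_c22 LD3_c2))))))
theorem f416541 : Led Lsl_bt (LP (LK LD1_c3 LD2_c11 LD3_c22)) = (LP (LK LD1_c6 LD2_c26 LD3_c58)) :=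
  Lre_b IH (LK LD1_c3 LD2_c11 LD3_c22) (LK LD1_c6 LD2_c26 LD3_c58) Lrfl Lrfl
theorem f623400 : Led Lsl_ft (LP (LK LD1_c6 LD2_c26 LD3_c58)) = (LP (LK LD1_c6 LD2_c46 LD3_c45)) :=
  Lgr Lrot75 (Lpe (f416541 IH) (Lpr_ff (K35.f623398 IH) (Lpe (K53.f416797 IH) (Lpn (LP (LK LD1_c6 LD2_c46 LD3_c45))))))
theorem f416542 : Led Lsl_gt (LP (LK LD1_c6 LD2_c26 LD3_c58)) = (LP (LK LD1_c12 LD2_c25 LD3_c41)) :=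
  Lre_g IH (LK LD1_c6 LD2_c26 LD3_c58) (LK LD1_c12 LD2_c25 LD3_c41) Lrfl Lrfl
theorem f623459 : Led Lsl_gt (LP (LK LD1_c12 LD2_c25 LD3_c41)) = (LP (LK LD1_c12 LD2_c56 LD3_c47)) :=
  Lgr Lrot46 (Lpe (f416542 IH) (Lpr_ft (f623400 IH) (Lpr_at (K53.f417016 IH) (Lpn (LP (LK LD1_c12 LD2_c56 LD3_c47))))))
theorem f57018 : Led Lsl_dt (LP (LK LD1_c4 LD2_c59 LD3_c27)) = (LP (LK LD1_c9 LD2_c49 LD3_c21)) :=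
  Lre_d IH (LK LD1_c4 LD2_c59 LD3_c27) (LK LD1_c9 LD2_c49 LD3_c21) Lrfl Lrfl
theorem f699023 : Led Lsl_ff (LP (LK LD1_c12 LD2_c25 LD3_c35)) = (LP (LK LD1_c9 LD2_c49 LD3_c21)) :=
  Lgr Lrot19 (Lpr_dt (K57.f623194 IH) (Lpr_ft (K51.f640539 IH) (Lpqs (K53.f698949 IH) (Lpr_dt (f57018 IH) (Lpn (LP (LK LD1_c9 LD2_c49 LD3_c21)))))))
theorem f648721 : Led Lsl_gt (LP (LK LD1_c12 LD2_c25 LD3_c38)) = (LP (LK LD1_c6 LD2_c26 LD3_c57)) :=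
  Lre_g IH (LK LD1_c12 LD2_c25 LD3_c38) (LK LD1_c6 LD2_c26 LD3_c57) Lrfl Lrfl
theorem f699034 : Led Lsl_gf (LP (LK LD1_c12 LD2_c25 LD3_c38)) = (LP (LK LD1_c9 LD2_c49 LD3_c21)) :=
  Lgr Lrot47 (Lpr_gt (f648721 IH) (Lpe (K57.f623164 IH) (Lpr_ff (f699023 IH) (Lpn (LP (LK LD1_c9 LD2_c49 LD3_c21))))))
theorem f74455 : Led Lsl_et (LP (LK LD1_c1 LD2_c22 LD3_c1)) = (LP (LK LD1_c2 LD2_c52 LD3_c1)) :=
  Lre_e IH (LK LD1_c1 LD2_c22 LD3_c1) (LK LD1_c2 LD2_c52 LD3_c1) Lrfl Lrfl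
theorem f74246 : Led Lsl_gt (LP (LK LD1_c5 LD2_c51 LD3_c37)) = (LP (LK LD1_c2 LD2_c52 LD3_c1)) :=
  Lre_g IH (LK LD1_c5 LD2_c51 LD3_c37) (LK LD1_c2 LD2_c52 LD3_c1) Lrfl Lrfl
theorem f74254 : Led Lsl_et (LP (LK LD1_c11 LD2_c30 LD3_c39)) = (LP (LK LD1_c5 LD2_c51 LD3_c37)) :=
  Lre_e IH (LK LD1_c11 LD2_c30 LD3_c39) (LK LD1_c5 LD2_c51 LD3_c37) Lrfl Lrfl
theorem f699037 : Led Lsl_df (LP (LK LD1_c12 LD2_c25 LD3_c38)) = (LP (LK LD1_c11 LD2_c30 LD3_c39)) :=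
  Lgr Lrot132 (Lpr_gf (f699034 IH) (Lpe (f57018 IH) (Lpe (K53.f57017 IH) (Lpe (K53.f75450 IH) (Lpr_dt (K4.f75398 IH) (Lpe (K4.f56023 IH) (Lpr_df (K2.f74445 IH) (Lpr_et (f74455 IH) (Lpe (f74246 IH) (Lpe (f74254 IH) (Lpn (LP (LK LD1_c11 LD2_c30 LD3_c39)))))))))))))
theorem f623206 : Led Lsl_dt (LP (LK LD1_c3 LD2_c11 LD3_c20)) = (LP (LK LD1_c6 LD2_c26 LD3_c57)) :=
  Lre_d IH (LK LD1_c3 LD2_c11 LD3_c20) (LK LD1_c6 LD2_c26 LD3_c57) Lrfl Lrfl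
theorem f623210 : Led Lsl_et (LP (LK LD1_c3 LD2_c11 LD3_c20)) = (LP (LK LD1_c6 LD2_c26 LD3_c58)) :=
  Lre_e IH (LK LD1_c3 LD2_c11 LD3_c20) (LK LD1_c6 LD2_c26 LD3_c58) Lrfl Lrfl
theorem f74247 : Led Lsl_gf (LP (LK LD1_c5 LD2_c51 LD3_c37)) = (LP (LK LD1_c9 LD2_c47 LD3_c44)) :=
  Lgr Lrot47 (Lpr_gt (f74246 IH) (Lpr_af (K2.f74233 IH) (Lpe (K2.f74208 IH) (Lpn (LP (LK LD1_c9 LD2_c47 LD3_c44))))))
theorem f61468 : Led Lsl_dt (LP (LK LD1_c11 LD2_c24 LD3_c17)) = (LP (LK LD1_c20 LD2_c22 LD3_c3)) :=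
  Lre_d IH (LK LD1_c11 LD2_c24 LD3_c17) (LK LD1_c20 LD2_c22 LD3_c3) Lrfl Lrfl
theorem f74425 : Led Lsl_gt (LP (LK LD1_c11 LD2_c24 LD3_c31)) = (LP (LK LD1_c20 LD2_c22 LD3_c3)) :=
  Lre_g IH (LK LD1_c11 LD2_c24 LD3_c31) (LK LD1_c20 LD2_c22 LD3_c3) Lrfl Lrfl
theorem f699042 : Led Lsl_dt (LP (LK LD1_c12 LD2_c25 LD3_c41)) = (LP (LK LD1_c11 LD2_c24 LD3_c31)) :=
  Lgr Lrot171 (Lpe (f416542 IH) (Lpe (f623210 IH) (Lpr_dt (f623206 IH) (Lpe (f648721 IH) (Lpr_df (f699037 IH) (Lpr_et (f74254 IH) (Lpr_gf (f74247 IH) (Lpe (K2.f74412 IH) (Lpr_dt (f61468 IH) (Lpe (f74425 IH) (Lpn (LP (LK LD1_c11 LD2_c24 LD3_c31)))))))))))))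
theorem f72491 : Led Lsl_dt (LP (LK LD1_c2 LD2_c49 LD3_c25)) = (LP (LK LD1_c5 LD2_c47 LD3_c7)) :=
  Lre_d IH (LK LD1_c2 LD2_c49 LD3_c25) (LK LD1_c5 LD2_c47 LD3_c7) Lrfl Lrfl
theorem f72490 : Led Lsl_et (LP (LK LD1_c2 LD2_c49 LD3_c25)) = (LP (LK LD1_c1 LD2_c20 LD3_c51)) :=
  Lre_e IH (LK LD1_c2 LD2_c49 LD3_c25) (LK LD1_c1 LD2_c20 LD3_c51) Lrfl Lrfl
theorem f504920 : Led Lsl_ft (LP (LK LD1_c6 LD2_c30 LD3_c6)) = (LP (LK LD1_c6 LD2_c21 LD3_c39)) :=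
  Lgr Lrot75 (Lpe (K32.f140753 IH) (Lpr_ff (K32.f504908 IH) (Lpe (K32.f438461 IH) (Lpn (LP (LK LD1_c6 LD2_c21 LD3_c39))))))
theorem f140785 : Led Lsl_gt (LP (LK LD1_c6 LD2_c30 LD3_c6)) = (LP (LK LD1_c12 LD2_c29 LD3_c48)) :=
  Lre_g IH (LK LD1_c6 LD2_c30 LD3_c6) (LK LD1_c12 LD2_c29 LD3_c48) Lrfl Lrfl
theorem f438655 : Led Lsl_at (LP (LK LD1_c6 LD2_c21 LD3_c39)) = (LP (LK LD1_c12 LD2_c17 LD3_c6)) :=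
  Lre_a IH (LK LD1_c6 LD2_c21 LD3_c39) (LK LD1_c12 LD2_c17 LD3_c6) Lrfl Lrfl
theorem f505067 : Led Lsl_gt (LP (LK LD1_c12 LD2_c29 LD3_c48)) = (LP (LK LD1_c12 LD2_c17 LD3_c6)) :=
  Lgr Lrot46 (Lpe (f140785 IH) (Lpr_ft (f504920 IH) (Lpr_at (f438655 IH) (Lpn (LP (LK LD1_c12 LD2_c17 LD3_c6))))))
theorem f699049 : Led Lsl_et (LP (LK LD1_c12 LD2_c25 LD3_c41)) = (LP (LK LD1_c12 LD2_c29 LD3_c48)) :=
  Lgr Lrot121 (Lpr_dt (f699042 IH) (Lpe (K53.f61612 IH) (Lpe (f72491 IH) (Lpr_et (f72490 IH) (Lpe (K2.f72439 IH) (Lpe (K46.f72479 IH) (Lpr_dt (K46.f72480 IH) (Lpe (K46.f72481 IH) (Lpr_df (K46.f643535 IH) (Lpe (f505067 IH) (Lpn (LP (LK LD1_c12 LD2_c29 LD3_c48)))))))))))))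
theorem f699054 : Led Lsl_ef (LP (LK LD1_c12 LD2_c25 LD3_c41)) = (LP (LK LD1_c12 LD2_c29 LD3_c48)) :=
  Lgr Lrot88 (Lpr_et (f699049 IH) (Lpn (LP (LK LD1_c12 LD2_c29 LD3_c48))))
theorem f825127 : Led Lsl_dt (LP (LK LD1_c12 LD2_c29 LD3_c48)) = v24680 :=
  Lgr Lrot37 (Lpe (f699054 IH) (Lpr_gt (f623459 IH) (Lpr_dt (K53.f417018 IH) (Lpr_gt (f698963 IH) (Lpe (f72854 IH) (Lpe (f75463 IH) (Lpe (K55.f644922 IH) (Lpe (K41.f505762 IH) (Lpr_dt (f640888 IH) (Lpr_gt (f825125 IH) (Lpn v24680)))))))))))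
def v5762 : LQ := Led Lsl_dt (LP (LK LD1_c3 LD2_c12 LD3_c61))
theorem f649246 : Led Lsl_dt (LP (LK LD1_c3 LD2_c12 LD3_c61)) = v5762 :=
  Lrfl
theorem f640890 : Led Lsl_df (LP (LK LD1_c2 LD2_c52 LD3_c39)) = v4913 :=
  Lgr Lrot38 (Lpr_dt (f640888 IH) (Lpn v4913))
theorem f649249 : Led Lsl_ff v4913 = v5762 :=
  Lgr Lrot19 (Lpe (f640890 IH) (Lpe (K45.f505767 IH) (Lpr_dt (f649246 IH) (Lpn v5762))))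
theorem f649251 : Led Lsl_ft v4913 = v5762 :=
  Lgr Lrot48 (Lpr_ff (f649249 IH) (Lpn v5762))
def v18489 : LQ := Led Lsl_dt (LP (LK LD1_c6 LD2_c30 LD3_c3))
theorem f767159 : Led Lsl_dt (LP (LK LD1_c6 LD2_c30 LD3_c3)) = v18489 :=
  Lrfl
theorem f616245 : Led Lsl_dt (LP (LK LD1_c9 LD2_c48 LD3_c35)) = (LP (LK LD1_c4 LD2_c59 LD3_c3)) :=
  Lre_d IH (LK LD1_c9 LD2_c48 LD3_c35) (LK LD1_c4 LD2_c59 LD3_c3) Lrfl Lrfl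
theorem f767163 : Led Lsl_ff (LP (LK LD1_c9 LD2_c48 LD3_c35)) = v18489 :=
  Lgr Lrot19 (Lpr_dt (f616245 IH) (Lpq (K41.f642213 IH) (Lpe (K41.f640882 IH) (Lpr_dt (f767159 IH) (Lpn v18489)))))
theorem f644857 : Led Lsl_bf (LP (LK LD1_c9 LD2_c48 LD3_c35)) = (LP (LK LD1_c12 LD2_c30 LD3_c3)) :=
  Lgr Lrot93 (Lpr_dt (f616245 IH) (Lpq (K41.f642213 IH) (Lpe (K41.f640881 IH) (Lpr_dt (f505677 IH) (Lpn (LP (LK LD1_c12 LD2_c30 LD3_c3)))))))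
theorem f506246 : Led Lsl_bt (LP (LK LD1_c3 LD2_c13 LD3_c13)) = (LP (LK LD1_c6 LD2_c30 LD3_c22)) :=
  Lre_b IH (LK LD1_c3 LD2_c13 LD3_c13) (LK LD1_c6 LD2_c30 LD3_c22) Lrfl Lrfl
theorem f640889 : Led Lsl_bf K64.v1605 = v4913 :=
  Lgr Lrot93 (Lpe (K64.f500335 IH) (Lpr_bt (K41.f445623 IH) (Lpr_dt (f640888 IH) (Lpn v4913))))
theorem f644859 : Led Lsl_at (LP (LK LD1_c9 LD2_c48 LD3_c35)) = v4913 :=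
  Lgr Lrot67 (Lpr_bf (f644857 IH) (Lpe (f506250 IH) (Lpe (f506246 IH) (Lpe (K64.f506248 IH) (Lpr_bf (f640889 IH) (Lpn v4913))))))
theorem f767164 : Led Lsl_at v5762 = v18489 :=
  Lgr Lrot66 (Lpe (f649251 IH) (Lpe (f644859 IH) (Lpr_ff (f767163 IH) (Lpn v18489))))
theorem f825126 : Led Lsl_gf v18489 = v24680 :=
  Lgr Lrot76 (Lpe (f767164 IH) (Lpe (f649251 IH) (Lpr_gt (f825125 IH) (Lpn v24680))))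
theorem f825129 : Led Lsl_gf (LP (LK LD1_c11 LD2_c30 LD3_c39)) = (LP (LK LD1_c12 LD2_c29 LD3_c44)) :=
  Lgr Lrot138 (Lpe (f699037 IH) (Lpr_gt (f648721 IH) (Lpe (f623206 IH) (Lpr_et (f623210 IH) (Lpr_gt (f416542 IH) (Lpr_ef (f699054 IH) (Lpr_dt (f825127 IH) (Lpe (f825126 IH) (Lpe (f767159 IH) (Lpr_et (K52.f505250 IH) (Lpn (LP (LK LD1_c12 LD2_c29 LD3_c44)))))))))))))
theorem f825130 : Led Lsl_gt (LP (LK LD1_c12 LD2_c29 LD3_c44)) = (LP (LK LD1_c11 LD2_c30 LD3_c39)) :=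
  Leop (Lpr_gf (f825129 IH) (Lpn (LP (LK LD1_c12 LD2_c29 LD3_c44))))
theorem seed_1876 : LEOK LG_g (LK LD1_c12 LD2_c29 LD3_c44) :=
  Leoe_g (LK LD1_c12 LD2_c29 LD3_c44) (f825130 IH)
def v24762 : LQ := Led Lsl_gt K56.v4956
theorem f825487 : Led Lsl_gt K56.v4956 = v24762 :=
  Lrfl
theorem f716105 : Led Lsl_gf (LP (LK LD1_c12 LD2_c32 LD3_c46)) = (LP (LK LD1_c9 LD2_c30 LD3_c32)) :=
  Lgr Lrot76 (Lpe (K42.f446103 IH) (Lpr_ff (K57.f644249 IH) (Lpr_gt (K57.f716101 IH) (Lpn (LP (LK LD1_c9 LD2_c30 LD3_c32))))))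
theorem f705175 : Led Lsl_et (LP (LK LD1_c4 LD2_c48 LD3_c60)) = (LP (LK LD1_c9 LD2_c30 LD3_c32)) :=
  Lre_e IH (LK LD1_c4 LD2_c48 LD3_c60) (LK LD1_c9 LD2_c30 LD3_c32) Lrfl Lrfl
theorem f705252 : Led Lsl_dt K50.v4483 = K56.v13846 :=
  Lgr Lrot42 (Lpr_df (K56.f705251 IH) (Lpn K56.v13846))
theorem f705334 : K56.v13846 = (LP (LK LD1_c9 LD2_c30 LD3_c27)) :=
  Lefun (Lecon (f705252 IH) (K52.f705322 IH)) (K55.f74670 IH)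
theorem f705413 : Led Lsl_gf (LP (LK LD1_c17 LD2_c31 LD3_c49)) = (LP (LK LD1_c9 LD2_c30 LD3_c31)) :=
  Lgr Lrot47 (Lpr_gt (K55.f74672 IH) (Lpq (f705334 IH) (Lpe (K56.f705249 IH) (Lpr_ff (K56.f705262 IH) (Lpqs (K56.f705355 IH) (Lpn (LP (LK LD1_c9 LD2_c30 LD3_c31))))))))
theorem f644064 : Led Lsl_ff (LP (LK LD1_c9 LD2_c30 LD3_c45)) = (LP (LK LD1_c6 LD2_c45 LD3_c25)) :=
  Lgr Lrot3 (Lpr_ft (K55.f644016 IH) (Lpn (LP (LK LD1_c6 LD2_c45 LD3_c25))))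
theorem f644080 : Led Lsl_at (LP (LK LD1_c9 LD2_c30 LD3_c45)) = (LP (LK LD1_c17 LD2_c31 LD3_c49)) :=
  Lgr Lrot66 (Lpr_ff (f644064 IH) (Lpe (K55.f644069 IH) (Lpr_ff (K55.f644078 IH) (Lpn (LP (LK LD1_c17 LD2_c31 LD3_c49))))))
theorem f705415 : Led Lsl_gt (LP (LK LD1_c6 LD2_c45 LD3_c25)) = (LP (LK LD1_c9 LD2_c30 LD3_c31)) :=
  Lgr Lrot5 (Lpe (f644064 IH) (Lpr_at (f644080 IH) (Lpr_gf (f705413 IH) (Lpn (LP (LK LD1_c9 LD2_c30 LD3_c31))))))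
theorem f716109 : Led Lsl_gt (LP (LK LD1_c11 LD2_c40 LD3_c0)) = (LP (LK LD1_c5 LD2_c59 LD3_c10)) :=
  Lgr Lrot139 (Lpr_df (K42.f446104 IH) (Lpr_gf (f716105 IH) (Lpe (f705175 IH) (Lpr_dt (K56.f415090 IH) (Lpe (f705415 IH) (Lpe (K55.f641038 IH) (Lpr_et (K55.f631843 IH) (Lpe (K55.f24046 IH) (Lpq (K55.f643432 IH) (Lpe (K41.f641254 IH) (Lpr_dt (K55.f502245 IH) (Lpn (LP (LK LD1_c5 LD2_c59 LD3_c10))))))))))))))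
def v16397 : LQ := Led Lsl_gf (LP (LK LD1_c5 LD2_c59 LD3_c30))
theorem f749155 : Led Lsl_gf (LP (LK LD1_c5 LD2_c59 LD3_c30)) = v16397 :=
  Lrfl
theorem f74783 : Led Lsl_et (LP (LK LD1_c1 LD2_c26 LD3_c9)) = (LP (LK LD1_c0 LD2_c39 LD3_c47)) :=
  Lre_e IH (LK LD1_c1 LD2_c26 LD3_c9) (LK LD1_c0 LD2_c39 LD3_c47) Lrfl Lrfl
theorem f428330 : Led Lsl_at (LP (LK LD1_c2 LD2_c55 LD3_c58)) = (LP (LK LD1_c5 LD2_c58 LD3_c28)) :=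
  Lre_a IH (LK LD1_c2 LD2_c55 LD3_c58) (LK LD1_c5 LD2_c58 LD3_c28) Lrfl Lrfl
theorem f641848 : Led Lsl_ft (LP (LK LD1_c5 LD2_c59 LD3_c10)) = (LP (LK LD1_c2 LD2_c55 LD3_c58)) :=
  Lre_f IH (LK LD1_c5 LD2_c59 LD3_c10) (LK LD1_c2 LD2_c55 LD3_c58) Lrfl Lrfl
theorem f641871 : Led Lsl_af (LP (LK LD1_c5 LD2_c59 LD3_c10)) = (LP (LK LD1_c11 LD2_c39 LD3_c49)) :=
  Lgr Lrot45 (Lpr_ft (f641848 IH) (Lpr_at (f428330 IH) (Lpr_ft (K46.f641867 IH) (Lpn (LP (LK LD1_c11 LD2_c39 LD3_c49))))))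
theorem f716111 : Led Lsl_gf (LP (LK LD1_c11 LD2_c40 LD3_c0)) = (LP (LK LD1_c5 LD2_c58 LD3_c28)) :=
  Lgr Lrot47 (Lpr_gt (f716109 IH) (Lpr_af (f641871 IH) (Lpe (K46.f641867 IH) (Lpn (LP (LK LD1_c5 LD2_c58 LD3_c28))))))
theorem f749158 : Led Lsl_et (LP (LK LD1_c12 LD2_c32 LD3_c46)) = v16397 :=
  Lgr Lrot121 (Lpe (K42.f446104 IH) (Lpr_gf (f716111 IH) (Lpe (K50.f426313 IH) (Lpr_et (K41.f426041 IH) (Lpe (K28.f426309 IH) (Lpe (f74783 IH) (Lpr_dt (K56.f75008 IH) (Lpe (K53.f58615 IH) (Lpe (K53.f75982 IH) (Lpr_gf (f749155 IH) (Lpn v16397)))))))))))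
theorem f500863 : Led Lsl_ft (LP (LK LD1_c6 LD2_c1 LD3_c15)) = (LP (LK LD1_c2 LD2_c56 LD3_c49)) :=
  Lre_f IH (LK LD1_c6 LD2_c1 LD3_c15) (LK LD1_c2 LD2_c56 LD3_c49) Lrfl Lrfl
theorem f749156 : Led Lsl_gt (LP (LK LD1_c6 LD2_c1 LD3_c15)) = v16397 :=
  Lgr Lrot5 (Lpr_ft (f500863 IH) (Lpr_at (K53.f645121 IH) (Lpqs (K53.f719917 IH) (Lpr_gf (f749155 IH) (Lpn v16397)))))
theorem f641395 : Led Lsl_ff (LP (LK LD1_c2 LD2_c56 LD3_c6)) = K56.v5026 :=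
  Lgr Lrot3 (Lpr_ft (K56.f641394 IH) (Lpn K56.v5026))
theorem f749183 : Led Lsl_ef (LP (LK LD1_c6 LD2_c1 LD3_c15)) = K56.v16401 :=
  Lgr Lrot21 (Lpr_ft (f500863 IH) (Lpr_et (K5.f75885 IH) (Lpqs (K56.f719902 IH) (Lpe (f641395 IH) (Lpr_et (K53.f384016 IH) (Lpr_ft (K56.f749181 IH) (Lpn K56.v16401)))))))
theorem f825490 : Led Lsl_dt K56.v16401 = v24762 :=
  Lgr Lrot56 (Lpe (f749183 IH) (Lpr_gt (f749156 IH) (Lpe (f749158 IH) (Lpe (K42.f446104 IH) (Lpr_gt (f716109 IH) (Lpe (K55.f502245 IH) (Lpr_et (K41.f641254 IH) (Lpqs (K55.f643432 IH) (Lpr_gt (K55.f24046 IH) (Lpr_dt (K56.f641045 IH) (Lpr_gt (f825487 IH) (Lpn v24762))))))))))))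
theorem f700776 : Led Lsl_ft K53.v8066 = K53.v13057 :=
  Lgr Lrot48 (Lpr_ff (K53.f700774 IH) (Lpn K53.v13057))
theorem f641425 : Led Lsl_ef (LP (LK LD1_c2 LD2_c56 LD3_c16)) = K56.v5032 :=
  Lgr Lrot88 (Lpr_et (K56.f641424 IH) (Lpn K56.v5032))
theorem f700771 : Led Lsl_af K56.v5032 = K53.v13057 :=
  Lgr Lrot50 (Lpe (f641425 IH) (Lpr_at (K51.f641414 IH) (Lpq (K51.f669240 IH) (Lpr_et (K53.f700770 IH) (Lpn K53.v13057)))))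
theorem f749190 : Led Lsl_gf K56.v16401 = K56.v5063 :=
  Lgr Lrot47 (Lpe (K56.f749187 IH) (Lpqs (K56.f749188 IH) (Lpr_af (f700771 IH) (Lpe (f700776 IH) (Lpqs (K56.f749189 IH) (Lpn K56.v5063))))))
theorem f669833 : Led Lsl_et (LP (LK LD1_c6 LD2_c46 LD3_c47)) = K53.v8066 :=
  Lgr Lrot87 (Lpr_ef (K53.f669832 IH) (Lpn K53.v8066))
theorem f782213 : Led Lsl_gt K55.v13167 = K60.v19801 :=
  Lgr Lrot139 (Lpe (K55.f701493 IH) (Lpe (K53.f74998 IH) (Lpr_ef (K2.f74990 IH) (Lpr_dt (K53.f74920 IH) (Lpr_gf (K53.f76015 IH) (Lpr_df (K53.f720251 IH) (Lpr_et (K56.f749186 IH) (Lpr_gf (f749190 IH) (Lpq (K56.f749189 IH) (Lpe (f669833 IH) (Lpr_dt (K60.f782209 IH) (Lpn K60.v19801))))))))))))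
def v23823 : LQ := Led Lsl_dt K45.v4201
theorem f820706 : Led Lsl_dt K45.v4201 = v23823 :=
  Lrfl
theorem f631842 : Led Lsl_ft (LP (LK LD1_c2 LD2_c53 LD3_c59)) = K45.v4201 :=
  Lgr Lrot48 (Lpr_ff (K45.f631839 IH) (Lpn K45.v4201))
theorem f820710 : Led Lsl_ff K56.v4956 = v23823 :=
  Lgr Lrot19 (Lpe (K56.f641047 IH) (Lpr_ft (f631842 IH) (Lpr_dt (f820706 IH) (Lpn v23823))))
theorem f820714 : Led Lsl_ft K56.v4956 = v23823 :=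
  Lgr Lrot48 (Lpr_ff (f820710 IH) (Lpn v23823))
def v5007 : LQ := Led Lsl_dt (LP (LK LD1_c2 LD2_c55 LD3_c34))
theorem f641293 : Led Lsl_dt (LP (LK LD1_c2 LD2_c55 LD3_c34)) = v5007 :=
  Lrfl
theorem f641294 : Led Lsl_df (LP (LK LD1_c2 LD2_c55 LD3_c34)) = v5007 :=
  Lgr Lrot38 (Lpr_dt (f641293 IH) (Lpn v5007))
theorem f820707 : Led Lsl_af v5007 = v23823 :=
  Lgr Lrot117 (Lpe (f641294 IH) (Lpr_at (K45.f641284 IH) (Lpqs (K45.f643428 IH) (Lpr_dt (f820706 IH) (Lpn v23823)))))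
theorem f825489 : Led Lsl_gf v5007 = v24762 :=
  Lgr Lrot76 (Lpr_af (f820707 IH) (Lpe (f820714 IH) (Lpr_gt (f825487 IH) (Lpn v24762))))
def v16358 : LQ := Led Lsl_gt (LP (LK LD1_c5 LD2_c58 LD3_c27))
theorem f748941 : Led Lsl_gt (LP (LK LD1_c5 LD2_c58 LD3_c27)) = v16358 :=
  Lrfl
theorem f825495 : (LP (LK LD1_c9 LD2_c17 LD3_c13)) = v16358 :=
  (Llr Lrot122 (Lpe (K55.f643347 IH) (Lpr_dt (K55.f701493 IH) (Lpr_gt (f782213 IH) (Lpe (K60.f782209 IH) (Lpr_et (f669833 IH) (Lpqs (K56.f749189 IH) (Lpe (f749190 IH) (Lpr_dt (f825490 IH) (Lpe (f825489 IH) (Lpe (f641293 IH) (Lpr_et (K45.f641286 IH) (Lpr_gt (f748941 IH) (Lpn v16358)))))))))))))).symm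
theorem f641301 : Led Lsl_ft (LP (LK LD1_c5 LD2_c58 LD3_c27)) = (LP (LK LD1_c11 LD2_c41 LD3_c29)) :=
  Lre_f IH (LK LD1_c5 LD2_c58 LD3_c27) (LK LD1_c11 LD2_c41 LD3_c29) Lrfl Lrfl
theorem f748942 : Led Lsl_gf (LP (LK LD1_c11 LD2_c45 LD3_c11)) = v16358 :=
  Lgr Lrot76 (Lpr_af (K50.f643507 IH) (Lpe (f641301 IH) (Lpr_gt (f748941 IH) (Lpn v16358))))
theorem f825496 : Led Lsl_gt (LP (LK LD1_c9 LD2_c17 LD3_c13)) = (LP (LK LD1_c11 LD2_c45 LD3_c11)) :=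
  Leop (Lpr_gf (f748942 IH) (Lpq (f825495 IH) (Lpn (LP (LK LD1_c9 LD2_c17 LD3_c13)))))
theorem seed_1877 : LEOK LG_g (LK LD1_c9 LD2_c17 LD3_c13) :=
  Leoe_g (LK LD1_c9 LD2_c17 LD3_c13) (f825496 IH)
def v16458 : LQ := Led Lsl_gt (LP (LK LD1_c6 LD2_c1 LD3_c4))
theorem f749566 : Led Lsl_gt (LP (LK LD1_c6 LD2_c1 LD3_c4)) = v16458 :=
  Lrfl
def v24831 : LQ := Led Lsl_et v5007
theorem f825801 : Led Lsl_et v5007 = v24831 :=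
  Lrfl
theorem f825804 : Led Lsl_ef v5007 = v24831 :=
  Lgr Lrot88 (Lpr_et (f825801 IH) (Lpn v24831))
theorem f502747 : Led Lsl_gt (LP (LK LD1_c11 LD2_c20 LD3_c4)) = (LP (LK LD1_c5 LD2_c58 LD3_c27)) :=
  Lre_g IH (LK LD1_c11 LD2_c20 LD3_c4) (LK LD1_c5 LD2_c58 LD3_c27) Lrfl Lrfl
theorem f645160 : Led Lsl_gt v5007 = K56.v5066 :=
  Lgr Lrot112 (Lpe (f641293 IH) (Lpr_et (K45.f641286 IH) (Lpe (f502747 IH) (Lpe (K50.f502748 IH) (Lpr_dt (K50.f414695 IH) (Lpe (K41.f444613 IH) (Lpe (K5.f75864 IH) (Lpe (K41.f383330 IH) (Lpe (K56.f500854 IH) (Lpr_dt (K56.f645158 IH) (Lpn K56.v5066)))))))))))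
def v14330 : LQ := Led Lsl_ft (LP (LK LD1_c5 LD2_c6 LD3_c35))
theorem f721952 : Led Lsl_ft (LP (LK LD1_c5 LD2_c6 LD3_c35)) = v14330 :=
  Lrfl
theorem f721956 : Led Lsl_ff (LP (LK LD1_c5 LD2_c6 LD3_c35)) = v14330 :=
  Lgr Lrot3 (Lpr_ft (f721952 IH) (Lpn v14330))
theorem f302654 : Led Lsl_et (LP (LK LD1_c2 LD2_c33 LD3_c7)) = (LP (LK LD1_c5 LD2_c12 LD3_c30)) :=
  Lre_e IH (LK LD1_c2 LD2_c33 LD3_c7) (LK LD1_c5 LD2_c12 LD3_c30) Lrfl Lrfl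
theorem f302655 : Led Lsl_ft (LP (LK LD1_c5 LD2_c12 LD3_c30)) = (LP (LK LD1_c10 LD2_c15 LD3_c27)) :=
  Lre_f IH (LK LD1_c5 LD2_c12 LD3_c30) (LK LD1_c10 LD2_c15 LD3_c27) Lrfl Lrfl
theorem f721959 : Led Lsl_et (LP (LK LD1_c10 LD2_c15 LD3_c27)) = v14330 :=
  Lgr Lrot69 (Lpe (f302655 IH) (Lpe (f302654 IH) (Lpr_ff (K27.f302645 IH) (Lpe (K11.f22189 IH) (Lpr_ff (f721956 IH) (Lpn v14330))))))
def v16459 : LQ := Led Lsl_dt (LP (LK LD1_c6 LD2_c1 LD3_c4))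
theorem f749567 : Led Lsl_dt (LP (LK LD1_c6 LD2_c1 LD3_c4)) = v16459 :=
  Lrfl
theorem f641515 : Led Lsl_et (LP (LK LD1_c6 LD2_c1 LD3_c4)) = (LP (LK LD1_c2 LD2_c56 LD3_c46)) :=
  Lre_e IH (LK LD1_c6 LD2_c1 LD3_c4) (LK LD1_c2 LD2_c56 LD3_c46) Lrfl Lrfl
theorem f496724 : Led Lsl_gt (LP (LK LD1_c11 LD2_c40 LD3_c36)) = (LP (LK LD1_c11 LD2_c40 LD3_c13)) :=
  Lgr Lrot46 (Lpe (K54.f150325 IH) (Lpr_ft (K32.f150320 IH) (Lpr_at (K50.f496720 IH) (Lpn (LP (LK LD1_c11 LD2_c40 LD3_c13))))))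
theorem f22149 : Led Lsl_bt (LP (LK LD1_c2 LD2_c30 LD3_c35)) = (LP (LK LD1_c5 LD2_c6 LD3_c35)) :=
  Lre_b IH (LK LD1_c2 LD2_c30 LD3_c35) (LK LD1_c5 LD2_c6 LD3_c35) Lrfl Lrfl
theorem f22150 : Led Lsl_df (LP (LK LD1_c5 LD2_c50 LD3_c41)) = (LP (LK LD1_c5 LD2_c6 LD3_c35)) :=
  Lgr Lrot12 (Lpr_bt (K50.f22148 IH) (Lpr_dt (K11.f22145 IH) (Lpr_bt (f22149 IH) (Lpn (LP (LK LD1_c5 LD2_c6 LD3_c35))))))
theorem f721958 : Led Lsl_dt (LP (LK LD1_c11 LD2_c29 LD3_c8)) = v14330 :=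
  Lgr Lrot60 (Lpe (K50.f22194 IH) (Lpr_df (f22150 IH) (Lpr_ff (f721956 IH) (Lpn v14330))))
theorem f749572 : Led Lsl_gt v14330 = v16459 :=
  Lgr Lrot112 (Lpe (f721958 IH) (Lpe (K50.f560117 IH) (Lpe (f496724 IH) (Lpe (K54.f150341 IH) (Lpr_dt (K54.f549463 IH) (Lpe (K55.f714020 IH) (Lpr_df (K55.f714004 IH) (Lpe (K52.f140179 IH) (Lpe (f641515 IH) (Lpr_dt (f749567 IH) (Lpn v16459)))))))))))
theorem f749570 : Led Lsl_df (LP (LK LD1_c6 LD2_c1 LD3_c4)) = v16459 :=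
  Lgr Lrot38 (Lpr_dt (f749567 IH) (Lpn v16459))
theorem f502749 : Led Lsl_et (LP (LK LD1_c5 LD2_c58 LD3_c27)) = (LP (LK LD1_c2 LD2_c55 LD3_c34)) :=
  Lre_e IH (LK LD1_c5 LD2_c58 LD3_c27) (LK LD1_c2 LD2_c55 LD3_c34) Lrfl Lrfl
theorem f76132 : Led Lsl_et (LP (LK LD1_c11 LD2_c45 LD3_c13)) = (LP (LK LD1_c6 LD2_c0 LD3_c24)) :=
  Lre_e IH (LK LD1_c11 LD2_c45 LD3_c13) (LK LD1_c6 LD2_c0 LD3_c24) Lrfl Lrfl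
theorem f825803 : Led Lsl_df (LP (LK LD1_c11 LD2_c45 LD3_c13)) = v24831 :=
  Lgr Lrot70 (Lpr_et (f76132 IH) (Lpr_dt (K45.f559452 IH) (Lpr_et (f502749 IH) (Lpr_dt (f641293 IH) (Lpr_et (f825801 IH) (Lpn v24831))))))
theorem f825807 : v16458 = (LP (LK LD1_c11 LD2_c45 LD3_c13)) :=
  (Llr Lrot139 (Lpe (f749566 IH) (Lpr_df (f749570 IH) (Lpe (f749572 IH) (Lpe (f721959 IH) (Lpr_dt (K54.f387338 IH) (Lpr_gf (K56.f383341 IH) (Lpr_df (K56.f749651 IH) (Lpe (K56.f749652 IH) (Lpe (f645160 IH) (Lpr_ef (f825804 IH) (Lpe (f825803 IH) (Lpn (LP (LK LD1_c11 LD2_c45 LD3_c13))))))))))))))).symm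
theorem f825808 : Led Lsl_gt (LP (LK LD1_c6 LD2_c1 LD3_c4)) = (LP (LK LD1_c11 LD2_c45 LD3_c13)) :=
  Leop (Lpq (f825807 IH) (Lpe (f749566 IH) (Lpn (LP (LK LD1_c6 LD2_c1 LD3_c4)))))
theorem seed_1878 : LEOK LG_g (LK LD1_c6 LD2_c1 LD3_c4) :=
  Leoe_g (LK LD1_c6 LD2_c1 LD3_c4) (f825808 IH)
def v5028 : LQ := Led Lsl_gt (LP (LK LD1_c2 LD2_c56 LD3_c15))
def v24855 : LQ := Led Lsl_ct v5028
theorem f825890 : Led Lsl_ct v5028 = v24855 :=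
  Lrfl
theorem f825891 : Led Lsl_cf v5028 = v24855 :=
  Lgr Lrot11 (Lpr_ct (f825890 IH) (Lpn v24855))
def v13835 : LQ := Led Lsl_ft (LP (LK LD1_c4 LD2_c48 LD3_c55))
theorem f705150 : Led Lsl_ft (LP (LK LD1_c4 LD2_c48 LD3_c55)) = v13835 :=
  Lrfl
theorem f705154 : Led Lsl_ff (LP (LK LD1_c4 LD2_c48 LD3_c55)) = v13835 :=
  Lgr Lrot3 (Lpr_ft (f705150 IH) (Lpn v13835))
theorem f502190 : Led Lsl_af (LP (LK LD1_c2 LD2_c56 LD3_c15)) = (LP (LK LD1_c4 LD2_c48 LD3_c55)) :=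
  Lgr Lrot0 (Lpr_at (K55.f502188 IH) (Lpn (LP (LK LD1_c4 LD2_c48 LD3_c55))))
theorem f500800 : Led Lsl_ft (LP (LK LD1_c2 LD2_c56 LD3_c15)) = (LP (LK LD1_c5 LD2_c59 LD3_c56)) :=
  Lre_f IH (LK LD1_c2 LD2_c56 LD3_c15) (LK LD1_c5 LD2_c59 LD3_c56) Lrfl Lrfl
theorem f705157 : Led Lsl_at (LP (LK LD1_c5 LD2_c59 LD3_c56)) = v13835 :=
  Lgr Lrot66 (Lpe (f500800 IH) (Lpr_af (f502190 IH) (Lpr_ff (f705154 IH) (Lpn v13835))))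
theorem f641405 : Led Lsl_gt (LP (LK LD1_c2 LD2_c56 LD3_c15)) = v5028 :=
  Lrfl
theorem f705163 : Led Lsl_gt v5028 = v13835 :=
  Lgr Lrot46 (Lpe (f641405 IH) (Lpr_ft (f500800 IH) (Lpr_at (f705157 IH) (Lpn v13835))))
theorem f705158 : Led Lsl_ct (LP (LK LD1_c4 LD2_c48 LD3_c58)) = v13835 :=
  Lgr Lrot40 (Lpe (K40.f495134 IH) (Lpe (K50.f427464 IH) (Lpr_ff (f705154 IH) (Lpn v13835))))
theorem f825893 : Led Lsl_bf (LP (LK LD1_c9 LD2_c5 LD3_c25)) = v24855 :=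
  Lgr Lrot34 (Lpe (K56.f437468 IH) (Lpr_bf (K56.f437272 IH) (Lpr_ct (K55.f146512 IH) (Lpe (K56.f437246 IH) (Lpr_cf (K55.f700371 IH) (Lpe (K56.f700377 IH) (Lpe (K37.f501916 IH) (Lpr_ct (f705158 IH) (Lpe (f705163 IH) (Lpr_cf (f825891 IH) (Lpn v24855)))))))))))
theorem f698850 : Led Lsl_ff (LP (LK LD1_c4 LD2_c34 LD3_c2)) = K54.v12889 :=
  Lgr Lrot3 (Lpr_ft (K54.f698849 IH) (Lpn K54.v12889))
theorem f825895 : Led Lsl_ft (LP (LK LD1_c9 LD2_c5 LD3_c34)) = v24855 :=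
  Lgr Lrot75 (Lpe (K56.f698851 IH) (Lpr_ff (f698850 IH) (Lpqs (K56.f737625 IH) (Lpr_bf (f825893 IH) (Lpn v24855)))))
def v16408 : LQ := Led Lsl_at (LP (LK LD1_c5 LD2_c59 LD3_c54))
theorem f749219 : Led Lsl_at (LP (LK LD1_c5 LD2_c59 LD3_c54)) = v16408 :=
  Lrfl
theorem f749220 : Led Lsl_af (LP (LK LD1_c5 LD2_c59 LD3_c54)) = v16408 :=
  Lgr Lrot0 (Lpr_at (f749219 IH) (Lpn v16408))
theorem f705160 : Led Lsl_gf (LP (LK LD1_c5 LD2_c59 LD3_c54)) = v13835 :=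
  Lgr Lrot47 (Lpr_gt (K59.f499915 IH) (Lpr_af (f502190 IH) (Lpr_ff (f705154 IH) (Lpn v13835))))
theorem f749221 : Led Lsl_ft v5028 = v16408 :=
  Lgr Lrot2 (Lpr_gt (f705163 IH) (Lpe (f705160 IH) (Lpr_af (f749220 IH) (Lpn v16408))))
theorem f825898 : K56.v13834 = v16408 :=
  (Llr Lrot108 (Lpe (K56.f705148 IH) (Lpr_ft (f825895 IH) (Lpe (f825891 IH) (Lpr_ft (f749221 IH) (Lpn v16408)))))).symm
theorem f749222 : Led Lsl_ff v5028 = v16408 :=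
  Lgr Lrot3 (Lpr_ft (f749221 IH) (Lpn v16408))
def v16411 : LQ := Led Lsl_ft (LP (LK LD1_c5 LD2_c59 LD3_c54))
theorem f749228 : Led Lsl_ft (LP (LK LD1_c5 LD2_c59 LD3_c54)) = v16411 :=
  Lrfl
theorem f749230 : Led Lsl_ff (LP (LK LD1_c5 LD2_c59 LD3_c54)) = v16411 :=
  Lgr Lrot3 (Lpr_ft (f749228 IH) (Lpn v16411))
theorem f749231 : Led Lsl_at v5028 = v16411 :=
  Lgr Lrot66 (Lpr_ff (f749222 IH) (Lpe (f749219 IH) (Lpr_ff (f749230 IH) (Lpn v16411))))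
def v13833 : LQ := Led Lsl_gt (LP (LK LD1_c4 LD2_c48 LD3_c55))
theorem f705143 : Led Lsl_gt (LP (LK LD1_c4 LD2_c48 LD3_c55)) = v13833 :=
  Lrfl
theorem f825899 : v16411 = v13833 :=
  (Llr Lrot26 (Lpe (f749231 IH) (Lpr_ff (f749222 IH) (Lpq (f825898 IH) (Lpe (K56.f705144 IH) (Lpr_gt (f705143 IH) (Lpn v13833))))))).symm
theorem f749229 : Led Lsl_af v5028 = v16411 :=
  Lgr Lrot45 (Lpr_ft (f749221 IH) (Lpe (f749220 IH) (Lpr_ft (f749228 IH) (Lpn v16411))))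
def v16431 : LQ := Led Lsl_gt (LP (LK LD1_c6 LD2_c0 LD3_c32))
theorem f749319 : Led Lsl_gt (LP (LK LD1_c6 LD2_c0 LD3_c32)) = v16431 :=
  Lrfl
theorem f825897 : Led Lsl_af v16431 = v24855 :=
  Lgr Lrot31 (Lpe (f749319 IH) (Lpr_gf (K56.f749320 IH) (Lpqs (K56.f750018 IH) (Lpr_ft (f825895 IH) (Lpn v24855)))))
theorem f825900 : Led Lsl_ct v16431 = v13833 :=
  Lgr Lrot111 (Lpr_af (f825897 IH) (Lpe (f825890 IH) (Lpr_af (f749229 IH) (Lpqs (f825899 IH) (Lpn v13833)))))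
theorem f548729 : Led Lsl_gt (LP (LK LD1_c11 LD2_c27 LD3_c26)) = (LP (LK LD1_c20 LD2_c25 LD3_c25)) :=
  Lre_g IH (LK LD1_c11 LD2_c27 LD3_c26) (LK LD1_c20 LD2_c25 LD3_c25) Lrfl Lrfl
theorem f705151 : Led Lsl_af (LP (LK LD1_c5 LD2_c59 LD3_c56)) = v13835 :=
  Lgr Lrot45 (Lpr_ft (K56.f500796 IH) (Lpr_at (K55.f502188 IH) (Lpr_ft (f705150 IH) (Lpn v13835))))
theorem f705155 : Led Lsl_gt v13833 = (LP (LK LD1_c5 LD2_c59 LD3_c56)) :=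
  Lgr Lrot46 (Lpe (f705143 IH) (Lpr_ft (f705150 IH) (Lpe (f705151 IH) (Lpn (LP (LK LD1_c5 LD2_c59 LD3_c56))))))
theorem f445414 : Led Lsl_gt (LP (LK LD1_c15 LD2_c8 LD3_c4)) = (LP (LK LD1_c8 LD2_c2 LD3_c29)) :=
  Lre_g IH (LK LD1_c15 LD2_c8 LD3_c4) (LK LD1_c8 LD2_c2 LD3_c29) Lrfl Lrfl
theorem f825903 : Led Lsl_ct (LP (LK LD1_c20 LD2_c25 LD3_c25)) = (LP (LK LD1_c15 LD2_c8 LD3_c4)) :=
  Lgr Lrot152 (Lpe (f548729 IH) (Lpe (K38.f548723 IH) (Lpr_gt (f749319 IH) (Lpr_ct (f825900 IH) (Lpr_gt (f705155 IH) (Lpr_ct (K40.f501440 IH) (Lpe (K40.f501443 IH) (Lpe (K40.f558623 IH) (Lpe (f445414 IH) (Lpn (LP (LK LD1_c15 LD2_c8 LD3_c4))))))))))))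
theorem f825904 : Led Lsl_ct (LP (LK LD1_c20 LD2_c25 LD3_c25)) = (LP (LK LD1_c15 LD2_c8 LD3_c4)) :=
  Leop (Lpe (f825903 IH) (Lpn (LP (LK LD1_c20 LD2_c25 LD3_c25))))
theorem seed_1879 : LEOK LG_c (LK LD1_c20 LD2_c25 LD3_c25) :=
  Leoe_c (LK LD1_c20 LD2_c25 LD3_c25) (f825904 IH)
theorem f825902 : Led Lsl_ff v16431 = (LP (LK LD1_c11 LD2_c44 LD3_c17)) :=
  Lgr Lrot23 (Lpr_ct (f825900 IH) (Lpq (f825899 IH) (Lpe (f749230 IH) (Lpr_ct (K59.f705161 IH) (Lpn (LP (LK LD1_c11 LD2_c44 LD3_c17)))))))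
theorem f764299 : Led Lsl_gf (LP (LK LD1_c8 LD2_c0 LD3_c25)) = (LP (LK LD1_c11 LD2_c44 LD3_c17)) :=
  Lgr Lrot76 (Lpr_af (K52.f498362 IH) (Lpe (K52.f119862 IH) (Lpr_gt (K59.f764297 IH) (Lpn (LP (LK LD1_c11 LD2_c44 LD3_c17))))))
theorem f705152 : Led Lsl_cf (LP (LK LD1_c4 LD2_c48 LD3_c58)) = v13835 :=
  Lgr Lrot108 (Lpr_ft (K40.f495132 IH) (Lpr_ct (K52.f427467 IH) (Lpr_ft (f705150 IH) (Lpn v13835))))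
theorem f749944 : Led Lsl_bf (LP (LK LD1_c20 LD2_c41 LD3_c60)) = (LP (LK LD1_c17 LD2_c4 LD3_c42)) :=
  Lgr Lrot24 (Lpr_bt (K57.f749942 IH) (Lpn (LP (LK LD1_c17 LD2_c4 LD3_c42))))
theorem f559382 : Led Lsl_df (LP (LK LD1_c6 LD2_c0 LD3_c2)) = (LP (LK LD1_c2 LD2_c56 LD3_c22)) :=
  Lgr Lrot12 (Lpr_bt (K42.f559373 IH) (Lpr_dt (K42.f75046 IH) (Lpr_bt (K45.f500828 IH) (Lpn (LP (LK LD1_c2 LD2_c56 LD3_c22))))))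
theorem f500815 : Led Lsl_ft (LP (LK LD1_c6 LD2_c0 LD3_c7)) = (LP (LK LD1_c2 LD2_c56 LD3_c22)) :=
  Lre_f IH (LK LD1_c6 LD2_c0 LD3_c7) (LK LD1_c2 LD2_c56 LD3_c22) Lrfl Lrfl
theorem f559387 : Led Lsl_dt (LP (LK LD1_c11 LD2_c44 LD3_c33)) = (LP (LK LD1_c6 LD2_c0 LD3_c7)) :=
  Lgr Lrot60 (Lpe (K50.f501958 IH) (Lpr_df (f559382 IH) (Lpe (f500815 IH) (Lpn (LP (LK LD1_c6 LD2_c0 LD3_c7))))))
theorem f501944 : Led Lsl_ef (LP (LK LD1_c6 LD2_c0 LD3_c7)) = (LP (LK LD1_c9 LD2_c30 LD3_c15)) :=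
  Lgr Lrot29 (Lpr_bt (K50.f501943 IH) (Lpr_et (K37.f501939 IH) (Lpr_bt (K37.f501916 IH) (Lpn (LP (LK LD1_c9 LD2_c30 LD3_c15))))))
theorem f501948 : Led Lsl_at (LP (LK LD1_c6 LD2_c0 LD3_c7)) = (LP (LK LD1_c11 LD2_c44 LD3_c33)) :=
  Lre_a IH (LK LD1_c6 LD2_c0 LD3_c7) (LK LD1_c11 LD2_c44 LD3_c33) Lrfl Lrfl
theorem f501949 : Led Lsl_et (LP (LK LD1_c11 LD2_c44 LD3_c33)) = (LP (LK LD1_c17 LD2_c31 LD3_c28)) :=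
  Lgr Lrot123 (Lpe (f501948 IH) (Lpr_ef (f501944 IH) (Lpe (K37.f501904 IH) (Lpn (LP (LK LD1_c17 LD2_c31 LD3_c28))))))
theorem f501956 : Led Lsl_ef (LP (LK LD1_c11 LD2_c44 LD3_c33)) = (LP (LK LD1_c17 LD2_c31 LD3_c28)) :=
  Lgr Lrot88 (Lpr_et (f501949 IH) (Lpn (LP (LK LD1_c17 LD2_c31 LD3_c28))))
theorem f501935 : Led Lsl_et (LP (LK LD1_c6 LD2_c0 LD3_c7)) = (LP (LK LD1_c9 LD2_c30 LD3_c15)) :=
  Lgr Lrot74 (Lpe (K60.f501934 IH) (Lpr_ef (K37.f501927 IH) (Lpe (K37.f501905 IH) (Lpn (LP (LK LD1_c9 LD2_c30 LD3_c15))))))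
theorem f559392 : Led Lsl_ef (LP (LK LD1_c27 LD2_c21 LD3_c6)) = (LP (LK LD1_c17 LD2_c31 LD3_c35)) :=
  Lgr Lrot73 (Lpr_dt (K48.f501919 IH) (Lpe (f501956 IH) (Lpr_dt (f559387 IH) (Lpr_et (f501935 IH) (Lpr_dt (K48.f501955 IH) (Lpn (LP (LK LD1_c17 LD2_c31 LD3_c35))))))))
theorem f559398 : Led Lsl_et (LP (LK LD1_c17 LD2_c31 LD3_c27)) = (LP (LK LD1_c11 LD2_c28 LD3_c12)) :=
  Lgr Lrot69 (Lpe (K48.f502533 IH) (Lpr_ef (f559392 IH) (Lpe (K64.f136295 IH) (Lpr_ef (K40.f136285 IH) (Lpe (K40.f558708 IH) (Lpn (LP (LK LD1_c11 LD2_c28 LD3_c12))))))))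
theorem f559400 : Led Lsl_bf (LP (LK LD1_c17 LD2_c31 LD3_c27)) = (LP (LK LD1_c11 LD2_c28 LD3_c13)) :=
  Lgr Lrot96 (Lpr_et (f559398 IH) (Lpr_bt (K40.f557406 IH) (Lpr_et (K42.f557434 IH) (Lpn (LP (LK LD1_c11 LD2_c28 LD3_c13))))))
theorem f502516 : Led Lsl_dt (LP (LK LD1_c5 LD2_c59 LD3_c42)) = (LP (LK LD1_c11 LD2_c43 LD3_c58)) :=
  Lre_d IH (LK LD1_c5 LD2_c59 LD3_c42) (LK LD1_c11 LD2_c43 LD3_c58) Lrfl Lrfl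
theorem f563822 : Led Lsl_ct (LP (LK LD1_c9 LD2_c49 LD3_c22)) = (LP (LK LD1_c17 LD2_c59 LD3_c50)) :=
  Lre_c IH (LK LD1_c9 LD2_c49 LD3_c22) (LK LD1_c17 LD2_c59 LD3_c50) Lrfl Lrfl
theorem f699092 : Led Lsl_gf (LP (LK LD1_c15 LD2_c8 LD3_c18)) = (LP (LK LD1_c17 LD2_c59 LD3_c50)) :=
  Lgr Lrot104 (Lpe (K53.f618491 IH) (Lpe (f502516 IH) (Lpe (K48.f502460 IH) (Lpr_gf (K55.f699088 IH) (Lpe (K55.f57090 IH) (Lpe (K53.f57017 IH) (Lpe (K8.f75444 IH) (Lpr_gt (K52.f75482 IH) (Lpr_ct (f563822 IH) (Lpn (LP (LK LD1_c17 LD2_c59 LD3_c50))))))))))))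
theorem f669309 : Led Lsl_at (LP (LK LD1_c20 LD2_c25 LD3_c19)) = (LP (LK LD1_c15 LD2_c8 LD3_c18)) :=
  Lgr Lrot107 (Lpr_cf (K48.f669307 IH) (Lpe (K42.f558637 IH) (Lpr_cf (K53.f618491 IH) (Lpn (LP (LK LD1_c15 LD2_c8 LD3_c18))))))
theorem f669325 : Led Lsl_ff (LP (LK LD1_c20 LD2_c25 LD3_c19)) = (LP (LK LD1_c15 LD2_c7 LD3_c52)) :=
  Lgr Lrot19 (Lpr_dt (K53.f669317 IH) (Lpr_ft (K55.f453373 IH) (Lpe (K39.f553980 IH) (Lpn (LP (LK LD1_c15 LD2_c7 LD3_c52))))))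
theorem f699107 : Led Lsl_gt (LP (LK LD1_c15 LD2_c7 LD3_c52)) = (LP (LK LD1_c17 LD2_c59 LD3_c50)) :=
  Lgr Lrot5 (Lpe (f669325 IH) (Lpr_at (f669309 IH) (Lpr_gf (f699092 IH) (Lpn (LP (LK LD1_c17 LD2_c59 LD3_c50))))))
theorem f502614 : Led Lsl_bt (LP (LK LD1_c11 LD2_c43 LD3_c58)) = (LP (LK LD1_c6 LD2_c0 LD3_c0)) :=
  Lre_b IH (LK LD1_c11 LD2_c43 LD3_c58) (LK LD1_c6 LD2_c0 LD3_c0) Lrfl Lrfl
theorem f150007 : Led Lsl_gt (LP (LK LD1_c8 LD2_c0 LD3_c29)) = (LP (LK LD1_c15 LD2_c5 LD3_c9)) :=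
  Lre_g IH (LK LD1_c8 LD2_c0 LD3_c29) (LK LD1_c15 LD2_c5 LD3_c9) Lrfl Lrfl
theorem f711284 : Led Lsl_bt (LP (LK LD1_c9 LD2_c49 LD3_c22)) = (LP (LK LD1_c15 LD2_c5 LD3_c9)) :=
  Lgr Lrot92 (Lpr_ct (f563822 IH) (Lpe (f699092 IH) (Lpr_cf (K40.f558630 IH) (Lpr_bt (f502614 IH) (Lpr_gt (K52.f502609 IH) (Lpr_ct (K52.f502611 IH) (Lpr_gt (K52.f711279 IH) (Lpr_cf (K52.f568377 IH) (Lpe (K52.f558859 IH) (Lpr_gt (f150007 IH) (Lpn (LP (LK LD1_c15 LD2_c5 LD3_c9)))))))))))))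
theorem f645266 : Led Lsl_gf (LP (LK LD1_c20 LD2_c25 LD3_c23)) = (LP (LK LD1_c21 LD2_c16 LD3_c10)) :=
  Lgr Lrot47 (Lpr_gt (K45.f56722 IH) (Lpe (K57.f56716 IH) (Lpr_ff (K57.f645262 IH) (Lpn (LP (LK LD1_c21 LD2_c16 LD3_c10))))))
theorem f711286 : Led Lsl_cf (LP (LK LD1_c21 LD2_c16 LD3_c10)) = (LP (LK LD1_c15 LD2_c5 LD3_c9)) :=
  Lgr Lrot125 (Lpe (f645266 IH) (Lpr_cf (K46.f645228 IH) (Lpr_bt (K46.f207143 IH) (Lpr_gt (K46.f207240 IH) (Lpr_bf (K46.f642408 IH) (Lpr_ct (K52.f502611 IH) (Lpr_gt (K52.f711279 IH) (Lpr_cf (K52.f568377 IH) (Lpe (K52.f558859 IH) (Lpr_gt (f150007 IH) (Lpn (LP (LK LD1_c15 LD2_c5 LD3_c9)))))))))))))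
theorem f207243 : Led Lsl_ct (LP (LK LD1_c6 LD2_c44 LD3_c42)) = (LP (LK LD1_c12 LD2_c53 LD3_c51)) :=
  Lre_c IH (LK LD1_c6 LD2_c44 LD3_c42) (LK LD1_c12 LD2_c53 LD3_c51) Lrfl Lrfl
theorem f57015 : Led Lsl_ct (LP (LK LD1_c17 LD2_c59 LD3_c32)) = (LP (LK LD1_c9 LD2_c49 LD3_c5)) :=
  Lre_c IH (LK LD1_c17 LD2_c59 LD3_c32) (LK LD1_c9 LD2_c49 LD3_c5) Lrfl Lrfl
theorem f699103 : Led Lsl_gt (LP (LK LD1_c12 LD2_c53 LD3_c51)) = (LP (LK LD1_c17 LD2_c59 LD3_c32)) :=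
  Lgr Lrot150 (Lpe (f207243 IH) (Lpe (K46.f207240 IH) (Lpe (K35.f207099 IH) (Lpr_gt (K55.f207128 IH) (Lpr_ct (K55.f652695 IH) (Lpqs (K55.f699094 IH) (Lpr_gt (K55.f57013 IH) (Lpr_ct (K4.f56855 IH) (Lpe (K8.f57011 IH) (Lpe (f57015 IH) (Lpn (LP (LK LD1_c17 LD2_c59 LD3_c32)))))))))))))
theorem f56999 : Led Lsl_ct (LP (LK LD1_c9 LD2_c49 LD3_c5)) = (LP (LK LD1_c17 LD2_c59 LD3_c32)) :=
  Lre_c IH (LK LD1_c9 LD2_c49 LD3_c5) (LK LD1_c17 LD2_c59 LD3_c32) Lrfl Lrfl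
theorem f711445 : Led Lsl_bf (LP (LK LD1_c9 LD2_c49 LD3_c22)) = (LP (LK LD1_c15 LD2_c5 LD3_c9)) :=
  Lgr Lrot34 (Lpe (K52.f75482 IH) (Lpe (K8.f75485 IH) (Lpr_ct (f56999 IH) (Lpe (f699103 IH) (Lpe (f207243 IH) (Lpe (K46.f207240 IH) (Lpe (K46.f207143 IH) (Lpe (K46.f645228 IH) (Lpr_gf (f645266 IH) (Lpr_cf (f711286 IH) (Lpn (LP (LK LD1_c15 LD2_c5 LD3_c9)))))))))))))
theorem f56736 : Led Lsl_ft (LP (LK LD1_c20 LD2_c28 LD3_c28)) = (LP (LK LD1_c11 LD2_c31 LD3_c49)) :=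
  Lre_f IH (LK LD1_c20 LD2_c28 LD3_c28) (LK LD1_c11 LD2_c31 LD3_c49) Lrfl Lrfl
theorem f644940 : Led Lsl_bf (LP (LK LD1_c20 LD2_c28 LD3_c28)) = (LP (LK LD1_c17 LD2_c59 LD3_c51)) :=
  Lgr Lrot61 (Lpr_ft (f56736 IH) (Lpr_bt (K41.f505231 IH) (Lpr_ft (K52.f644936 IH) (Lpn (LP (LK LD1_c17 LD2_c59 LD3_c51))))))
theorem f711447 : Led Lsl_dt (LP (LK LD1_c20 LD2_c28 LD3_c28)) = (LP (LK LD1_c15 LD2_c5 LD3_c9)) :=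
  Lgr Lrot79 (Lpr_bf (f644940 IH) (Lpe (K52.f75483 IH) (Lpr_bf (f711445 IH) (Lpn (LP (LK LD1_c15 LD2_c5 LD3_c9))))))
theorem f56731 : Led Lsl_ft (LP (LK LD1_c11 LD2_c31 LD3_c49)) = (LP (LK LD1_c20 LD2_c28 LD3_c28)) :=
  Lre_f IH (LK LD1_c11 LD2_c31 LD3_c49) (LK LD1_c20 LD2_c28 LD3_c28) Lrfl Lrfl
theorem f711453 : Led Lsl_ff (LP (LK LD1_c11 LD2_c27 LD3_c23)) = (LP (LK LD1_c15 LD2_c5 LD3_c9)) :=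
  Lgr Lrot19 (Lpe (K57.f56707 IH) (Lpr_ft (f56731 IH) (Lpr_dt (f711447 IH) (Lpn (LP (LK LD1_c15 LD2_c5 LD3_c9))))))
theorem f56733 : Led Lsl_at (LP (LK LD1_c11 LD2_c27 LD3_c23)) = (LP (LK LD1_c5 LD2_c49 LD3_c0)) :=
  Lre_a IH (LK LD1_c11 LD2_c27 LD3_c23) (LK LD1_c5 LD2_c49 LD3_c0) Lrfl Lrfl
theorem f699193 : Led Lsl_gf (LP (LK LD1_c8 LD2_c0 LD3_c38)) = (LP (LK LD1_c5 LD2_c48 LD3_c55)) :=
  Lgr Lrot76 (Lpe (K35.f207851 IH) (Lpr_ff (K60.f699187 IH) (Lpr_gt (K60.f57508 IH) (Lpn (LP (LK LD1_c5 LD2_c48 LD3_c55))))))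
theorem f615738 : Led Lsl_af (LP (LK LD1_c9 LD2_c11 LD3_c12)) = (LP (LK LD1_c6 LD2_c16 LD3_c43)) :=
  Lgr Lrot0 (Lpr_at (K56.f615736 IH) (Lpn (LP (LK LD1_c6 LD2_c16 LD3_c43))))
theorem f40610 : Led Lsl_at (LP (LK LD1_c4 LD2_c37 LD3_c47)) = (LP (LK LD1_c9 LD2_c11 LD3_c9)) :=
  Lre_a IH (LK LD1_c4 LD2_c37 LD3_c47) (LK LD1_c9 LD2_c11 LD3_c9) Lrfl Lrfl
theorem f615753 : Led Lsl_dt (LP (LK LD1_c9 LD2_c11 LD3_c9)) = (LP (LK LD1_c6 LD2_c16 LD3_c43)) :=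
  Lgr Lrot44 (Lpe (f40610 IH) (Lpe (K57.f40622 IH) (Lpr_af (f615738 IH) (Lpn (LP (LK LD1_c6 LD2_c16 LD3_c43))))))
theorem f438336 : Led Lsl_gt (LP (LK LD1_c5 LD2_c48 LD3_c53)) = (LP (LK LD1_c2 LD2_c50 LD3_c29)) :=
  Lre_g IH (LK LD1_c5 LD2_c48 LD3_c53) (LK LD1_c2 LD2_c50 LD3_c29) Lrfl Lrfl
theorem f623376 : Led Lsl_dt (LP (LK LD1_c11 LD2_c27 LD3_c9)) = (LP (LK LD1_c5 LD2_c48 LD3_c53)) :=
  Lre_d IH (LK LD1_c11 LD2_c27 LD3_c9) (LK LD1_c5 LD2_c48 LD3_c53) Lrfl Lrfl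
theorem f699197 : Led Lsl_gf (LP (LK LD1_c5 LD2_c49 LD3_c0)) = (LP (LK LD1_c11 LD2_c27 LD3_c9)) :=
  Lgr Lrot147 (Lpr_ct (K45.f56710 IH) (Lpr_gt (K57.f645255 IH) (Lpr_ct (K56.f204680 IH) (Lpe (f615753 IH) (Lpr_cf (K35.f207859 IH) (Lpr_gf (f699193 IH) (Lpe (K59.f57507 IH) (Lpe (f438336 IH) (Lpe (f623376 IH) (Lpn (LP (LK LD1_c11 LD2_c27 LD3_c9))))))))))))
theorem f711455 : Led Lsl_gf (LP (LK LD1_c11 LD2_c27 LD3_c9)) = (LP (LK LD1_c15 LD2_c5 LD3_c9)) :=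
  Lgr Lrot47 (Lpe (f699197 IH) (Lpe (f56733 IH) (Lpr_ff (f711453 IH) (Lpn (LP (LK LD1_c15 LD2_c5 LD3_c9))))))
theorem f623374 : Led Lsl_ct (LP (LK LD1_c11 LD2_c27 LD3_c9)) = (LP (LK LD1_c20 LD2_c25 LD3_c6)) :=
  Lre_c IH (LK LD1_c11 LD2_c27 LD3_c9) (LK LD1_c20 LD2_c25 LD3_c6) Lrfl Lrfl
def v12294 : LQ := Led Lsl_gt (LP (LK LD1_c3 LD2_c59 LD3_c43))
theorem f689225 : Led Lsl_gt (LP (LK LD1_c3 LD2_c59 LD3_c43)) = v12294 :=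
  Lrfl
theorem f654352 : Led Lsl_ff (LP (LK LD1_c3 LD2_c24 LD3_c2)) = K57.v6596 :=
  Lgr Lrot3 (Lpr_ft (K57.f654350 IH) (Lpn K57.v6596))
theorem f689229 : Led Lsl_af K57.v6596 = K56.v12296 :=
  Lgr Lrot45 (Lpe (f654352 IH) (Lpe (K52.f497210 IH) (Lpr_ft (K56.f689228 IH) (Lpn K56.v12296))))
theorem f689232 : Led Lsl_gt v12294 = K57.v6596 :=
  Lgr Lrot46 (Lpe (f689225 IH) (Lpr_ft (K56.f689228 IH) (Lpe (f689229 IH) (Lpn K57.v6596))))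
theorem f506548 : Led Lsl_at (LP (LK LD1_c3 LD2_c11 LD3_c10)) = (LP (LK LD1_c6 LD2_c26 LD3_c34)) :=
  Lre_a IH (LK LD1_c3 LD2_c11 LD3_c10) (LK LD1_c6 LD2_c26 LD3_c34) Lrfl Lrfl
theorem f496151 : Led Lsl_at (LP (LK LD1_c5 LD2_c48 LD3_c54)) = (LP (LK LD1_c2 LD2_c50 LD3_c29)) :=
  Lre_a IH (LK LD1_c5 LD2_c48 LD3_c54) (LK LD1_c2 LD2_c50 LD3_c29) Lrfl Lrfl
theorem f623289 : Led Lsl_ft (LP (LK LD1_c6 LD2_c26 LD3_c34)) = (LP (LK LD1_c5 LD2_c48 LD3_c54)) :=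
  Lgr Lrot101 (Lpe (f506548 IH) (Lpr_ff (K57.f623278 IH) (Lpe (f496151 IH) (Lpn (LP (LK LD1_c5 LD2_c48 LD3_c54))))))
theorem f623369 : Led Lsl_gt (LP (LK LD1_c6 LD2_c26 LD3_c34)) = (LP (LK LD1_c5 LD2_c48 LD3_c53)) :=
  Lgr Lrot5 (Lpr_ft (f623289 IH) (Lpr_at (f496151 IH) (Lpe (f438336 IH) (Lpn (LP (LK LD1_c5 LD2_c48 LD3_c53))))))
def v4843 : LQ := Led Lsl_gt (LP (LK LD1_c2 LD2_c50 LD3_c29))
theorem f640559 : Led Lsl_gt (LP (LK LD1_c2 LD2_c50 LD3_c29)) = v4843 :=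
  Lrfl
theorem f640560 : Led Lsl_gf (LP (LK LD1_c6 LD2_c26 LD3_c34)) = v4843 :=
  Lgr Lrot76 (Lpe (f506548 IH) (Lpr_ff (K57.f623278 IH) (Lpr_gt (f640559 IH) (Lpn v4843))))
theorem f438335 : Led Lsl_bt (LP (LK LD1_c1 LD2_c21 LD3_c15)) = (LP (LK LD1_c2 LD2_c50 LD3_c29)) :=
  Lre_b IH (LK LD1_c1 LD2_c21 LD3_c15) (LK LD1_c2 LD2_c50 LD3_c29) Lrfl Lrfl
theorem f711296 : v4843 = (LP (LK LD1_c3 LD2_c59 LD3_c43)) :=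
  (Llr Lrot164 (Lpe (f640559 IH) (Lpe (f438335 IH) (Lpe (K24.f438323 IH) (Lpr_gf (K24.f210120 IH) (Lpe (K11.f69064 IH) (Lpr_gf (K32.f435367 IH) (Lpe (K52.f435370 IH) (Lpr_ct (K52.f700762 IH) (Lpqs (K52.f711289 IH) (Lpe (K52.f704113 IH) (Lpe (K52.f156816 IH) (Lpr_bt (K52.f150019 IH) (Lpn (LP (LK LD1_c3 LD2_c59 LD3_c43)))))))))))))))).symm
theorem f711297 : (LP (LK LD1_c6 LD2_c26 LD3_c34)) = v12294 :=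
  Lefun (Lecon (Lfl_gf (f640560 IH)) (f711296 IH)) (f689225 IH)
theorem f711301 : K57.v6596 = (LP (LK LD1_c5 LD2_c48 LD3_c53)) :=
  Lefun (Lecon (f689232 IH) (f711297 IH).symm) (f623369 IH)
theorem f711314 : Led Lsl_ft (LP (LK LD1_c6 LD2_c51 LD3_c4)) = (LP (LK LD1_c11 LD2_c27 LD3_c9)) :=
  Lgr Lrot54 (Lpe (K8.f40673 IH) (Lpr_ff (f654352 IH) (Lpqs (f711301 IH) (Lpe (f623376 IH) (Lpn (LP (LK LD1_c11 LD2_c27 LD3_c9)))))))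
theorem f137563 : Led Lsl_et (LP (LK LD1_c20 LD2_c41 LD3_c9)) = (LP (LK LD1_c11 LD2_c41 LD3_c19)) :=
  Lre_e IH (LK LD1_c20 LD2_c41 LD3_c9) (LK LD1_c11 LD2_c41 LD3_c19) Lrfl Lrfl
theorem f137564 : Led Lsl_af (LP (LK LD1_c20 LD2_c41 LD3_c9)) = (LP (LK LD1_c16 LD2_c24 LD3_c40)) :=
  Lgr Lrot50 (Lpr_et (f137563 IH) (Lpr_at (K6.f137552 IH) (Lpr_et (K52.f70510 IH) (Lpn (LP (LK LD1_c16 LD2_c24 LD3_c40))))))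
theorem f426989 : Led Lsl_bt (LP (LK LD1_c20 LD2_c41 LD3_c9)) = (LP (LK LD1_c11 LD2_c41 LD3_c25)) :=
  Lre_b IH (LK LD1_c20 LD2_c41 LD3_c9) (LK LD1_c11 LD2_c41 LD3_c25) Lrfl Lrfl
theorem f72762 : Led Lsl_at (LP (LK LD1_c11 LD2_c41 LD3_c25)) = (LP (LK LD1_c5 LD2_c59 LD3_c0)) :=
  Lre_a IH (LK LD1_c11 LD2_c41 LD3_c25) (LK LD1_c5 LD2_c59 LD3_c0) Lrfl Lrfl
theorem f72753 : Led Lsl_bt (LP (LK LD1_c5 LD2_c59 LD3_c0)) = (LP (LK LD1_c11 LD2_c42 LD3_c24)) :=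
  Lre_b IH (LK LD1_c5 LD2_c59 LD3_c0) (LK LD1_c11 LD2_c42 LD3_c24) Lrfl Lrfl
theorem f568373 : Led Lsl_at (LP (LK LD1_c11 LD2_c42 LD3_c24)) = (LP (LK LD1_c15 LD2_c5 LD3_c10)) :=
  Lgr Lrot67 (Lpe (f72753 IH) (Lpe (f72762 IH) (Lpe (f426989 IH) (Lpr_af (f137564 IH) (Lpr_bf (K52.f568371 IH) (Lpn (LP (LK LD1_c15 LD2_c5 LD3_c10))))))))
theorem f497284 : Led Lsl_af (LP (LK LD1_c6 LD2_c51 LD3_c4)) = (LP (LK LD1_c8 LD2_c0 LD3_c29)) :=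
  Lgr Lrot0 (Lpr_at (K32.f497282 IH) (Lpn (LP (LK LD1_c8 LD2_c0 LD3_c29))))
theorem f568396 : Led Lsl_cf (LP (LK LD1_c11 LD2_c42 LD3_c24)) = (LP (LK LD1_c6 LD2_c51 LD3_c4)) :=
  Lgr Lrot1 (Lpr_at (f568373 IH) (Lpr_ct (K52.f149996 IH) (Lpe (f497284 IH) (Lpn (LP (LK LD1_c6 LD2_c51 LD3_c4))))))
theorem f568418 : Led Lsl_ct (LP (LK LD1_c11 LD2_c42 LD3_c24)) = (LP (LK LD1_c6 LD2_c51 LD3_c4)) :=
  Lgr Lrot59 (Lpr_cf (f568396 IH) (Lpn (LP (LK LD1_c6 LD2_c51 LD3_c4))))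
theorem f711317 : Led Lsl_ff (LP (LK LD1_c11 LD2_c42 LD3_c24)) = (LP (LK LD1_c20 LD2_c25 LD3_c6)) :=
  Lgr Lrot23 (Lpr_ct (f568418 IH) (Lpr_ft (f711314 IH) (Lpr_ct (f623374 IH) (Lpn (LP (LK LD1_c20 LD2_c25 LD3_c6))))))
theorem f150010 : Led Lsl_gt (LP (LK LD1_c24 LD2_c53 LD3_c33)) = (LP (LK LD1_c15 LD2_c5 LD3_c10)) :=
  Lre_g IH (LK LD1_c24 LD2_c53 LD3_c33) (LK LD1_c15 LD2_c5 LD3_c10) Lrfl Lrfl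
theorem f711339 : Led Lsl_gf (LP (LK LD1_c24 LD2_c53 LD3_c33)) = (LP (LK LD1_c20 LD2_c25 LD3_c6)) :=
  Lgr Lrot47 (Lpr_gt (f150010 IH) (Lpe (f568373 IH) (Lpr_ff (f711317 IH) (Lpn (LP (LK LD1_c20 LD2_c25 LD3_c6))))))
theorem f749954 : Led Lsl_cf (LP (LK LD1_c24 LD2_c53 LD3_c33)) = (LP (LK LD1_c17 LD2_c4 LD3_c42)) :=
  Lgr Lrot163 (Lpr_gf (f711339 IH) (Lpe (f623374 IH) (Lpr_gf (f711455 IH) (Lpe (f711284 IH) (Lpr_ct (f563822 IH) (Lpe (f699107 IH) (Lpe (K53.f618509 IH) (Lpe (f559400 IH) (Lpe (K55.f502689 IH) (Lpr_bf (f749944 IH) (Lpn (LP (LK LD1_c17 LD2_c4 LD3_c42)))))))))))))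
theorem f749956 : Led Lsl_gf (LP (LK LD1_c11 LD2_c27 LD3_c58)) = (LP (LK LD1_c12 LD2_c10 LD3_c60)) :=
  Lgr Lrot181 (Lpr_ct (K50.f698879 IH) (Lpr_gt (K56.f558614 IH) (Lpr_cf (K40.f558620 IH) (Lpr_bt (K56.f502631 IH) (Lpe (K55.f502691 IH) (Lpr_bf (f749944 IH) (Lpe (f749954 IH) (Lpr_gt (f150010 IH) (Lpe (K52.f150003 IH) (Lpr_bt (K52.f568379 IH) (Lpn (LP (LK LD1_c12 LD2_c10 LD3_c60)))))))))))))
theorem f825892 : Led Lsl_gt (LP (LK LD1_c8 LD2_c0 LD3_c25)) = v24855 :=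
  Lgr Lrot9 (Lpr_df (K52.f568383 IH) (Lpe (f749956 IH) (Lpr_ct (K50.f698879 IH) (Lpr_gt (K56.f558614 IH) (Lpr_ct (K64.f558579 IH) (Lpe (K40.f501924 IH) (Lpr_cf (f705152 IH) (Lpe (f705163 IH) (Lpr_cf (f825891 IH) (Lpn v24855))))))))))
theorem f825922 : Led Lsl_at v16431 = v24855 :=
  Lgr Lrot26 (Lpr_ff (f825902 IH) (Lpe (f764299 IH) (Lpr_gt (f825892 IH) (Lpn v24855))))
theorem f825896 : Led Lsl_ff (LP (LK LD1_c9 LD2_c5 LD3_c34)) = v24855 :=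
  Lgr Lrot3 (Lpr_ft (f825895 IH) (Lpn v24855))
theorem f825923 : Led Lsl_af (LP (LK LD1_c11 LD2_c44 LD3_c17)) = (LP (LK LD1_c9 LD2_c5 LD3_c34)) :=
  Lgr Lrot45 (Lpe (f825902 IH) (Lpr_at (f825922 IH) (Lpe (f825896 IH) (Lpn (LP (LK LD1_c9 LD2_c5 LD3_c34))))))
theorem f825924 : Led Lsl_at (LP (LK LD1_c9 LD2_c5 LD3_c34)) = (LP (LK LD1_c11 LD2_c44 LD3_c17)) :=
  Leop (Lpr_af (f825923 IH) (Lpn (LP (LK LD1_c9 LD2_c5 LD3_c34))))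
theorem seed_1880 : LEOK LG_a (LK LD1_c9 LD2_c5 LD3_c34) :=
  Leoe_a (LK LD1_c9 LD2_c5 LD3_c34) (f825924 IH)
theorem f825927 : Led Lsl_gf (LP (LK LD1_c11 LD2_c45 LD3_c25)) = v24855 :=
  Lgr Lrot47 (Lpr_gt (K59.f764297 IH) (Lpr_af (f825923 IH) (Lpr_ff (f825896 IH) (Lpn v24855))))
theorem f498377 : Led Lsl_ct (LP (LK LD1_c20 LD2_c46 LD3_c53)) = (LP (LK LD1_c11 LD2_c45 LD3_c34)) :=
  Lre_c IH (LK LD1_c20 LD2_c46 LD3_c53) (LK LD1_c11 LD2_c45 LD3_c34) Lrfl Lrfl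
theorem f641408 : Led Lsl_ct (LP (LK LD1_c11 LD2_c44 LD3_c19)) = (LP (LK LD1_c20 LD2_c45 LD3_c38)) :=
  Lre_c IH (LK LD1_c11 LD2_c44 LD3_c19) (LK LD1_c20 LD2_c45 LD3_c38) Lrfl Lrfl
theorem f825928 : Led Lsl_gf (LP (LK LD1_c20 LD2_c46 LD3_c53)) = (LP (LK LD1_c20 LD2_c45 LD3_c38)) :=
  Lgr Lrot104 (Lpr_ct (f498377 IH) (Lpe (K52.f497138 IH) (Lpe (K52.f119870 IH) (Lpr_gf (f825927 IH) (Lpe (f825890 IH) (Lpe (f641405 IH) (Lpe (K40.f500810 IH) (Lpr_gt (K55.f641407 IH) (Lpr_ct (f641408 IH) (Lpn (LP (LK LD1_c20 LD2_c45 LD3_c38))))))))))))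
theorem f825929 : Led Lsl_gt (LP (LK LD1_c20 LD2_c45 LD3_c38)) = (LP (LK LD1_c20 LD2_c46 LD3_c53)) :=
  Leop (Lpr_gf (f825928 IH) (Lpn (LP (LK LD1_c20 LD2_c45 LD3_c38))))
theorem seed_1881 : LEOK LG_g (LK LD1_c20 LD2_c45 LD3_c38) :=
  Leoe_g (LK LD1_c20 LD2_c45 LD3_c38) (f825929 IH)
def v24861 : LQ := Led Lsl_ct K41.v5035
theorem f825950 : Led Lsl_ct K41.v5035 = v24861 :=
  Lrfl
theorem f641943 : Led Lsl_ff K41.v5035 = (LP (LK LD1_c9 LD2_c13 LD3_c12)) :=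
  Lgr Lrot3 (Lpr_ft (K41.f641852 IH) (Lpn (LP (LK LD1_c9 LD2_c13 LD3_c12))))
theorem f825953 : Led Lsl_ff (LP (LK LD1_c8 LD2_c50 LD3_c10)) = v24861 :=
  Lgr Lrot23 (Lpe (K50.f644909 IH) (Lpe (f641943 IH) (Lpr_ct (f825950 IH) (Lpn v24861))))
theorem f825956 : Led Lsl_ft (LP (LK LD1_c8 LD2_c50 LD3_c10)) = v24861 :=
  Lgr Lrot48 (Lpr_ff (f825953 IH) (Lpn v24861))
theorem f645032 : Led Lsl_bt (LP (LK LD1_c4 LD2_c26 LD3_c22)) = (LP (LK LD1_c8 LD2_c50 LD3_c10)) :=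
  Lre_b IH (LK LD1_c4 LD2_c26 LD3_c22) (LK LD1_c8 LD2_c50 LD3_c10) Lrfl Lrfl
def v12668 : LQ := Led Lsl_ft (LP (LK LD1_c4 LD2_c26 LD3_c22))
theorem f696676 : Led Lsl_ft (LP (LK LD1_c4 LD2_c26 LD3_c22)) = v12668 :=
  Lrfl
theorem f696678 : Led Lsl_ff (LP (LK LD1_c4 LD2_c26 LD3_c22)) = v12668 :=
  Lgr Lrot3 (Lpr_ft (f696676 IH) (Lpn v12668))
theorem f825957 : Led Lsl_bf v12668 = v24861 :=
  Lgr Lrot61 (Lpe (f696678 IH) (Lpr_bt (f645032 IH) (Lpr_ft (f825956 IH) (Lpn v24861))))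
def v12666 : LQ := Led Lsl_at (LP (LK LD1_c4 LD2_c26 LD3_c22))
theorem f696667 : Led Lsl_at (LP (LK LD1_c4 LD2_c26 LD3_c22)) = v12666 :=
  Lrfl
theorem f696668 : Led Lsl_af (LP (LK LD1_c4 LD2_c26 LD3_c22)) = v12666 :=
  Lgr Lrot0 (Lpr_at (f696667 IH) (Lpn v12666))
theorem f445182 : Led Lsl_gt (LP (LK LD1_c4 LD2_c26 LD3_c23)) = (LP (LK LD1_c2 LD2_c10 LD3_c25)) :=
  Lre_g IH (LK LD1_c4 LD2_c26 LD3_c23) (LK LD1_c2 LD2_c10 LD3_c25) Lrfl Lrfl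
theorem f696670 : Led Lsl_ft (LP (LK LD1_c4 LD2_c26 LD3_c23)) = v12666 :=
  Lgr Lrot2 (Lpr_gt (f445182 IH) (Lpr_gt (K50.f70650 IH) (Lpr_af (f696668 IH) (Lpn v12666))))
theorem f696677 : Led Lsl_af (LP (LK LD1_c4 LD2_c26 LD3_c23)) = v12668 :=
  Lgr Lrot45 (Lpr_ft (f696670 IH) (Lpe (f696668 IH) (Lpr_ft (f696676 IH) (Lpn v12668))))
theorem f696672 : Led Lsl_bt (LP (LK LD1_c4 LD2_c26 LD3_c23)) = (LP (LK LD1_c8 LD2_c50 LD3_c13)) :=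
  Lre_b IH (LK LD1_c4 LD2_c26 LD3_c23) (LK LD1_c8 LD2_c50 LD3_c13) Lrfl Lrfl
theorem f696681 : Led Lsl_at (LP (LK LD1_c8 LD2_c50 LD3_c13)) = (LP (LK LD1_c16 LD2_c30 LD3_c61)) :=
  Lre_a IH (LK LD1_c8 LD2_c50 LD3_c13) (LK LD1_c16 LD2_c30 LD3_c61) Lrfl Lrfl
theorem f645039 : Led Lsl_af (LP (LK LD1_c11 LD2_c44 LD3_c29)) = (LP (LK LD1_c8 LD2_c50 LD3_c10)) :=
  Lgr Lrot68 (Lpr_ct (K52.f502637 IH) (Lpr_at (K50.f641946 IH) (Lpr_ct (K50.f645033 IH) (Lpn (LP (LK LD1_c8 LD2_c50 LD3_c10))))))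
theorem f644769 : Led Lsl_ft (LP (LK LD1_c11 LD2_c44 LD3_c29)) = (LP (LK LD1_c17 LD2_c31 LD3_c45)) :=
  Lgr Lrot48 (Lpr_ff (K52.f644765 IH) (Lpn (LP (LK LD1_c17 LD2_c31 LD3_c45))))
theorem f825954 : Led Lsl_at (LP (LK LD1_c17 LD2_c31 LD3_c45)) = v24861 :=
  Lgr Lrot66 (Lpe (f644769 IH) (Lpr_af (f645039 IH) (Lpr_ff (f825953 IH) (Lpn v24861))))
theorem f825958 : Led Lsl_bt (LP (LK LD1_c16 LD2_c30 LD3_c61)) = (LP (LK LD1_c17 LD2_c31 LD3_c45)) :=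
  Lgr Lrot62 (Lpe (f696681 IH) (Lpe (f696672 IH) (Lpr_af (f696677 IH) (Lpr_bf (f825957 IH) (Lpe (f825954 IH) (Lpn (LP (LK LD1_c17 LD2_c31 LD3_c45))))))))
theorem f825959 : Led Lsl_bt (LP (LK LD1_c16 LD2_c30 LD3_c61)) = (LP (LK LD1_c17 LD2_c31 LD3_c45)) :=
  Leop (Lpe (f825958 IH) (Lpn (LP (LK LD1_c16 LD2_c30 LD3_c61))))
theorem seed_1882 : LEOK LG_b (LK LD1_c16 LD2_c30 LD3_c61) :=
  Leoe_b (LK LD1_c16 LD2_c30 LD3_c61) (f825959 IH)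
theorem f825952 : Led Lsl_cf K41.v5035 = v24861 :=
  Lgr Lrot11 (Lpr_ct (f825950 IH) (Lpn v24861))
theorem f538763 : Led Lsl_ef (LP (LK LD1_c15 LD2_c5 LD3_c45)) = (LP (LK LD1_c21 LD2_c29 LD3_c58)) :=
  Lgr Lrot88 (Lpr_et (K35.f538746 IH) (Lpn (LP (LK LD1_c21 LD2_c29 LD3_c58))))
theorem f538742 : Led Lsl_ct (LP (LK LD1_c12 LD2_c22 LD3_c60)) = (LP (LK LD1_c21 LD2_c29 LD3_c58)) :=
  Lre_c IH (LK LD1_c12 LD2_c22 LD3_c60) (LK LD1_c21 LD2_c29 LD3_c58) Lrfl Lrfl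
theorem f538768 : Led Lsl_et (LP (LK LD1_c8 LD2_c1 LD3_c4)) = (LP (LK LD1_c12 LD2_c22 LD3_c60)) :=
  Lgr Lrot158 (Lpe (K35.f30034 IH) (Lpr_ef (f538763 IH) (Lpe (f538742 IH) (Lpn (LP (LK LD1_c12 LD2_c22 LD3_c60))))))
theorem f538787 : Led Lsl_bf (LP (LK LD1_c15 LD2_c7 LD3_c17)) = (LP (LK LD1_c12 LD2_c22 LD3_c60)) :=
  Lgr Lrot96 (Lpr_et (K62.f30025 IH) (Lpe (K35.f30013 IH) (Lpr_et (f538768 IH) (Lpn (LP (LK LD1_c12 LD2_c22 LD3_c60))))))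
theorem f538789 : Led Lsl_bt (LP (LK LD1_c15 LD2_c7 LD3_c17)) = (LP (LK LD1_c12 LD2_c22 LD3_c60)) :=
  Lgr Lrot127 (Lpr_bf (f538787 IH) (Lpn (LP (LK LD1_c12 LD2_c22 LD3_c60))))
theorem f538796 : Led Lsl_ft (LP (LK LD1_c24 LD2_c55 LD3_c44)) = (LP (LK LD1_c15 LD2_c7 LD3_c17)) :=
  Lre_f IH (LK LD1_c24 LD2_c55 LD3_c44) (LK LD1_c15 LD2_c7 LD3_c17) Lrfl Lrfl
theorem f538725 : Led Lsl_ft (LP (LK LD1_c12 LD2_c22 LD3_c60)) = (LP (LK LD1_c21 LD2_c29 LD3_c59)) :=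
  Lre_f IH (LK LD1_c12 LD2_c22 LD3_c60) (LK LD1_c21 LD2_c29 LD3_c59) Lrfl Lrfl
theorem f538797 : Led Lsl_bf (LP (LK LD1_c24 LD2_c55 LD3_c44)) = (LP (LK LD1_c21 LD2_c29 LD3_c59)) :=
  Lgr Lrot61 (Lpr_ft (f538796 IH) (Lpr_bt (f538789 IH) (Lpr_ft (f538725 IH) (Lpn (LP (LK LD1_c21 LD2_c29 LD3_c59))))))
theorem f538799 : Led Lsl_dt (LP (LK LD1_c24 LD2_c55 LD3_c44)) = (LP (LK LD1_c15 LD2_c8 LD3_c6)) :=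
  Lre_d IH (LK LD1_c24 LD2_c55 LD3_c44) (LK LD1_c15 LD2_c8 LD3_c6) Lrfl Lrfl
theorem f538800 : Led Lsl_bt (LP (LK LD1_c15 LD2_c8 LD3_c6)) = (LP (LK LD1_c12 LD2_c22 LD3_c61)) :=
  Lgr Lrot95 (Lpe (f538799 IH) (Lpr_bf (f538797 IH) (Lpe (K35.f538687 IH) (Lpn (LP (LK LD1_c12 LD2_c22 LD3_c61))))))
def v12664 : LQ := Led Lsl_gf (LP (LK LD1_c4 LD2_c26 LD3_c9))
theorem f696650 : Led Lsl_gf (LP (LK LD1_c4 LD2_c26 LD3_c9)) = v12664 :=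
  Lrfl
theorem f825960 : v12668 = v12664 :=
  (Llr Lrot130 (Lpr_bf (f825957 IH) (Lpe (f825952 IH) (Lpe (K42.f641433 IH) (Lpe (K64.f558579 IH) (Lpr_bt (f538800 IH) (Lpe (K64.f538708 IH) (Lpe (K64.f70311 IH) (Lpe (K64.f407858 IH) (Lpe (K64.f158698 IH) (Lpe (K64.f39935 IH) (Lpr_gf (f696650 IH) (Lpn v12664))))))))))))).symm
theorem f39944 : Led Lsl_gt (LP (LK LD1_c4 LD2_c26 LD3_c9)) = (LP (LK LD1_c8 LD2_c49 LD3_c41)) :=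
  Lre_g IH (LK LD1_c4 LD2_c26 LD3_c9) (LK LD1_c8 LD2_c49 LD3_c41) Lrfl Lrfl
theorem f825961 : v12666 = (LP (LK LD1_c8 LD2_c49 LD3_c41)) :=
  (Llr Lrot26 (Lpe (f696667 IH) (Lpr_ff (f696678 IH) (Lpqs (f825960 IH) (Lpe (f696650 IH) (Lpr_gt (f39944 IH) (Lpn (LP (LK LD1_c8 LD2_c49 LD3_c41))))))))).symm
theorem f825962 : Led Lsl_at (LP (LK LD1_c8 LD2_c49 LD3_c41)) = (LP (LK LD1_c4 LD2_c26 LD3_c22)) :=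
  Leop (Lpr_af (f696668 IH) (Lpqs (f825961 IH) (Lpn (LP (LK LD1_c8 LD2_c49 LD3_c41)))))
theorem seed_1883 : LEOK LG_a (LK LD1_c8 LD2_c49 LD3_c41) :=
  Leoe_a (LK LD1_c8 LD2_c49 LD3_c41) (f825962 IH)
theorem f825955 : Led Lsl_bt v12668 = v24861 :=
  Lgr Lrot35 (Lpe (f696676 IH) (Lpe (K50.f39980 IH) (Lpr_ff (f825953 IH) (Lpn v24861))))
theorem f642141 : Led Lsl_af K41.v5035 = (LP (LK LD1_c9 LD2_c30 LD3_c23)) :=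
  Lgr Lrot117 (Lpr_dt (K62.f641851 IH) (Lpr_at (K41.f507158 IH) (Lpr_dt (K41.f642139 IH) (Lpn (LP (LK LD1_c9 LD2_c30 LD3_c23))))))
theorem f502615 : Led Lsl_ct (LP (LK LD1_c17 LD2_c31 LD3_c45)) = (LP (LK LD1_c9 LD2_c30 LD3_c23)) :=
  Lre_c IH (LK LD1_c17 LD2_c31 LD3_c45) (LK LD1_c9 LD2_c30 LD3_c23) Lrfl Lrfl
theorem f825951 : Led Lsl_af (LP (LK LD1_c17 LD2_c31 LD3_c45)) = v24861 :=
  Lgr Lrot68 (Lpr_ct (f502615 IH) (Lpe (f642141 IH) (Lpr_ct (f825950 IH) (Lpn v24861))))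
theorem f696671 : Led Lsl_ff (LP (LK LD1_c4 LD2_c26 LD3_c23)) = v12666 :=
  Lgr Lrot3 (Lpr_ft (f696670 IH) (Lpn v12666))
theorem f696679 : Led Lsl_at (LP (LK LD1_c4 LD2_c26 LD3_c23)) = v12668 :=
  Lgr Lrot66 (Lpr_ff (f696671 IH) (Lpe (f696667 IH) (Lpr_ff (f696678 IH) (Lpn v12668))))
theorem f39981 : Led Lsl_bt (LP (LK LD1_c8 LD2_c50 LD3_c13)) = (LP (LK LD1_c4 LD2_c26 LD3_c23)) :=
  Lre_b IH (LK LD1_c8 LD2_c50 LD3_c13) (LK LD1_c4 LD2_c26 LD3_c23) Lrfl Lrfl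
theorem f696680 : Led Lsl_at (LP (LK LD1_c16 LD2_c30 LD3_c61)) = (LP (LK LD1_c8 LD2_c50 LD3_c13)) :=
  Lre_a IH (LK LD1_c16 LD2_c30 LD3_c61) (LK LD1_c8 LD2_c50 LD3_c13) Lrfl Lrfl
theorem f826024 : Led Lsl_bt (LP (LK LD1_c17 LD2_c31 LD3_c45)) = (LP (LK LD1_c16 LD2_c30 LD3_c61)) :=
  Lgr Lrot62 (Lpr_af (f825951 IH) (Lpe (f825955 IH) (Lpqs (f825960 IH) (Lpq (f825960 IH) (Lpe (f696679 IH) (Lpe (f39981 IH) (Lpe (f696680 IH) (Lpn (LP (LK LD1_c16 LD2_c30 LD3_c61))))))))))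
theorem f30128 : Led Lsl_bt (LP (LK LD1_c8 LD2_c1 LD3_c21)) = (LP (LK LD1_c4 LD2_c0 LD3_c11)) :=
  Lre_b IH (LK LD1_c8 LD2_c1 LD3_c21) (LK LD1_c4 LD2_c0 LD3_c11) Lrfl Lrfl
theorem f30130 : Led Lsl_ct (LP (LK LD1_c8 LD2_c1 LD3_c21)) = (LP (LK LD1_c15 LD2_c6 LD3_c22)) :=
  Lre_c IH (LK LD1_c8 LD2_c1 LD3_c21) (LK LD1_c15 LD2_c6 LD3_c22) Lrfl Lrfl
def v12677 : LQ := Led Lsl_ft (LP (LK LD1_c4 LD2_c26 LD3_c43))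
theorem f696725 : Led Lsl_ft (LP (LK LD1_c4 LD2_c26 LD3_c43)) = v12677 :=
  Lrfl
theorem f696727 : Led Lsl_ff (LP (LK LD1_c4 LD2_c26 LD3_c43)) = v12677 :=
  Lgr Lrot3 (Lpr_ft (f696725 IH) (Lpn v12677))
theorem f443775 : Led Lsl_bt (LP (LK LD1_c4 LD2_c26 LD3_c43)) = (LP (LK LD1_c2 LD2_c10 LD3_c32)) :=
  Lre_b IH (LK LD1_c4 LD2_c26 LD3_c43) (LK LD1_c2 LD2_c10 LD3_c32) Lrfl Lrfl
theorem f696728 : Led Lsl_bt K50.v4148 = v12677 :=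
  Lgr Lrot35 (Lpe (K50.f631464 IH) (Lpe (f443775 IH) (Lpr_ff (f696727 IH) (Lpn v12677))))
theorem f70310 : Led Lsl_bt (LP (LK LD1_c3 LD2_c58 LD3_c1)) = (LP (LK LD1_c7 LD2_c57 LD3_c28)) :=
  Lre_b IH (LK LD1_c3 LD2_c58 LD3_c1) (LK LD1_c7 LD2_c57 LD3_c28) Lrfl Lrfl
theorem f696845 : v12677 = (LP (LK LD1_c7 LD2_c57 LD3_c28)) :=
  Lefun (Lecon (f696728 IH) (K57.f696840 IH).symm) (f70310 IH)
theorem f36356 : Led Lsl_ct (LP (LK LD1_c12 LD2_c23 LD3_c5)) = (LP (LK LD1_c6 LD2_c25 LD3_c2)) :=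
  Lre_c IH (LK LD1_c12 LD2_c23 LD3_c5) (LK LD1_c6 LD2_c25 LD3_c2) Lrfl Lrfl
theorem f303766 : Led Lsl_gt (LP (LK LD1_c18 LD2_c18 LD3_c35)) = (LP (LK LD1_c10 LD2_c1 LD3_c7)) :=
  Lre_g IH (LK LD1_c18 LD2_c18 LD3_c35) (LK LD1_c10 LD2_c1 LD3_c7) Lrfl Lrfl
theorem f742373 : Led Lsl_cf (LP (LK LD1_c18 LD2_c18 LD3_c35)) = (LP (LK LD1_c16 LD2_c12 LD3_c13)) :=
  Lgr Lrot169 (Lpr_gt (f303766 IH) (Lpe (K32.f255267 IH) (Lpe (K32.f36353 IH) (Lpe (f36356 IH) (Lpr_gf (K64.f742369 IH) (Lpe (K55.f742247 IH) (Lpr_gf (K55.f613210 IH) (Lpr_df (K39.f81185 IH) (Lpe (K61.f613237 IH) (Lpn (LP (LK LD1_c16 LD2_c12 LD3_c13))))))))))))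
theorem f303833 : Led Lsl_ct (LP (LK LD1_c18 LD2_c18 LD3_c37)) = (LP (LK LD1_c16 LD2_c11 LD3_c50)) :=
  Lgr Lrot59 (Lpr_cf (K32.f303813 IH) (Lpn (LP (LK LD1_c16 LD2_c11 LD3_c50))))
theorem f303841 : Led Lsl_cf (LP (LK LD1_c10 LD2_c1 LD3_c7)) = (LP (LK LD1_c8 LD2_c38 LD3_c53)) :=
  Lgr Lrot108 (Lpr_ft (K32.f303742 IH) (Lpr_ct (f303833 IH) (Lpr_ft (K32.f36380 IH) (Lpn (LP (LK LD1_c8 LD2_c38 LD3_c53))))))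
theorem f541223 : Led Lsl_bf (LP (LK LD1_c12 LD2_c7 LD3_c24)) = (LP (LK LD1_c8 LD2_c38 LD3_c53)) :=
  Lgr Lrot24 (Lpr_bt (K36.f541219 IH) (Lpn (LP (LK LD1_c8 LD2_c38 LD3_c53))))
theorem f34433 : Led Lsl_bt (LP (LK LD1_c8 LD2_c3 LD3_c54)) = (LP (LK LD1_c15 LD2_c10 LD3_c36)) :=
  Lre_b IH (LK LD1_c8 LD2_c3 LD3_c54) (LK LD1_c15 LD2_c10 LD3_c36) Lrfl Lrfl
theorem f34430 : Led Lsl_gt (LP (LK LD1_c8 LD2_c5 LD3_c20)) = (LP (LK LD1_c15 LD2_c13 LD3_c56)) :=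
  Lre_g IH (LK LD1_c8 LD2_c5 LD3_c20) (LK LD1_c15 LD2_c13 LD3_c56) Lrfl Lrfl
theorem f34431 : Led Lsl_gf (LP (LK LD1_c15 LD2_c10 LD3_c53)) = (LP (LK LD1_c15 LD2_c13 LD3_c56)) :=
  Lgr Lrot76 (Lpr_af (K10.f34419 IH) (Lpe (K2.f34209 IH) (Lpr_gt (f34430 IH) (Lpn (LP (LK LD1_c15 LD2_c13 LD3_c56))))))
theorem f445185 : Led Lsl_cf (LP (LK LD1_c4 LD2_c39 LD3_c38)) = (LP (LK LD1_c8 LD2_c45 LD3_c29)) :=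
  Lgr Lrot39 (Lpr_et (K55.f56381 IH) (Lpr_ct (K40.f445178 IH) (Lpr_et (K61.f35875 IH) (Lpn (LP (LK LD1_c8 LD2_c45 LD3_c29))))))
theorem f445190 : Led Lsl_ct (LP (LK LD1_c4 LD2_c39 LD3_c38)) = (LP (LK LD1_c8 LD2_c45 LD3_c29)) :=
  Lgr Lrot59 (Lpr_cf (f445185 IH) (Lpn (LP (LK LD1_c8 LD2_c45 LD3_c29))))
theorem f70144 : Led Lsl_gf (LP (LK LD1_c6 LD2_c13 LD3_c60)) = (LP (LK LD1_c8 LD2_c45 LD3_c29)) :=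
  Lgr Lrot76 (Lpr_af (K2.f70137 IH) (Lpe (K32.f70143 IH) (Lpr_gt (K46.f35874 IH) (Lpn (LP (LK LD1_c8 LD2_c45 LD3_c29))))))
theorem f81139 : Led Lsl_cf (LP (LK LD1_c8 LD2_c45 LD3_c37)) = (LP (LK LD1_c6 LD2_c13 LD3_c60)) :=
  Lgr Lrot11 (Lpr_ct (K10.f81137 IH) (Lpn (LP (LK LD1_c6 LD2_c13 LD3_c60))))
theorem f445192 : Led Lsl_ct (LP (LK LD1_c8 LD2_c26 LD3_c4)) = (LP (LK LD1_c15 LD2_c13 LD3_c56)) :=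
  Lgr Lrot152 (Lpe (K50.f46803 IH) (Lpr_df (K1.f56082 IH) (Lpr_gt (K2.f56095 IH) (Lpr_ct (f445190 IH) (Lpe (f70144 IH) (Lpe (f81139 IH) (Lpr_df (K10.f81128 IH) (Lpe (K2.f34115 IH) (Lpr_gf (f34431 IH) (Lpn (LP (LK LD1_c15 LD2_c13 LD3_c56))))))))))))
theorem f445196 : Led Lsl_bt (LP (LK LD1_c8 LD2_c26 LD3_c4)) = (LP (LK LD1_c15 LD2_c50 LD3_c33)) :=
  Lre_b IH (LK LD1_c8 LD2_c26 LD3_c4) (LK LD1_c15 LD2_c50 LD3_c33) Lrfl Lrfl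
theorem f742383 : Led Lsl_gt (LP (LK LD1_c12 LD2_c7 LD3_c24)) = (LP (LK LD1_c15 LD2_c50 LD3_c33)) :=
  Lgr Lrot164 (Lpr_bf (f541223 IH) (Lpe (f303841 IH) (Lpe (f303766 IH) (Lpr_cf (f742373 IH) (Lpr_gf (K61.f613237 IH) (Lpe (f34433 IH) (Lpr_ct (K2.f34121 IH) (Lpr_gf (f34431 IH) (Lpe (f445192 IH) (Lpr_bt (f445196 IH) (Lpn (LP (LK LD1_c15 LD2_c50 LD3_c33)))))))))))))
theorem f498812 : Led Lsl_ft (LP (LK LD1_c12 LD2_c7 LD3_c24)) = (LP (LK LD1_c21 LD2_c13 LD3_c36)) :=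
  Lre_f IH (LK LD1_c12 LD2_c7 LD3_c24) (LK LD1_c21 LD2_c13 LD3_c36) Lrfl Lrfl
theorem f498647 : Led Lsl_at (LP (LK LD1_c21 LD2_c13 LD3_c36)) = (LP (LK LD1_c20 LD2_c31 LD3_c45)) :=
  Lgr Lrot100 (Lpr_af (K36.f498645 IH) (Lpn (LP (LK LD1_c20 LD2_c31 LD3_c45))))
theorem f742385 : Led Lsl_gf (LP (LK LD1_c20 LD2_c31 LD3_c45)) = (LP (LK LD1_c15 LD2_c50 LD3_c33)) :=
  Lgr Lrot76 (Lpe (f498647 IH) (Lpe (f498812 IH) (Lpr_gt (f742383 IH) (Lpn (LP (LK LD1_c15 LD2_c50 LD3_c33))))))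
theorem f498637 : Led Lsl_af (LP (LK LD1_c12 LD2_c7 LD3_c24)) = (LP (LK LD1_c11 LD2_c34 LD3_c9)) :=
  Lgr Lrot0 (Lpr_at (K36.f498635 IH) (Lpn (LP (LK LD1_c11 LD2_c34 LD3_c9))))
theorem f112745 : Led Lsl_gt (LP (LK LD1_c21 LD2_c13 LD3_c34)) = (LP (LK LD1_c12 LD2_c7 LD3_c24)) :=
  Lre_g IH (LK LD1_c21 LD2_c13 LD3_c34) (LK LD1_c12 LD2_c7 LD3_c24) Lrfl Lrfl
theorem f138204 : Led Lsl_ft (LP (LK LD1_c20 LD2_c31 LD3_c45)) = (LP (LK LD1_c11 LD2_c34 LD3_c9)) :=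
  Lre_f IH (LK LD1_c20 LD2_c31 LD3_c45) (LK LD1_c11 LD2_c34 LD3_c9) Lrfl Lrfl
theorem f498827 : Led Lsl_gf (LP (LK LD1_c21 LD2_c13 LD3_c34)) = (LP (LK LD1_c20 LD2_c31 LD3_c45)) :=
  Lgr Lrot47 (Lpr_gt (f112745 IH) (Lpr_af (f498637 IH) (Lpe (f138204 IH) (Lpn (LP (LK LD1_c20 LD2_c31 LD3_c45))))))
theorem f697064 : Led Lsl_et (LP (LK LD1_c25 LD2_c46 LD3_c42)) = (LP (LK LD1_c25 LD2_c16 LD3_c26)) :=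
  Lgr Lrot71 (Lpe (K57.f696934 IH) (Lpe (K57.f227352 IH) (Lpe (K64.f164934 IH) (Lpr_ef (K64.f227349 IH) (Lpr_df (K64.f697038 IH) (Lpn (LP (LK LD1_c25 LD2_c16 LD3_c26))))))))
theorem f697072 : Led Lsl_et (LP (LK LD1_c18 LD2_c42 LD3_c38)) = (LP (LK LD1_c25 LD2_c16 LD3_c29)) :=
  Lgr Lrot123 (Lpr_af (K64.f697068 IH) (Lpe (f697064 IH) (Lpe (K57.f696928 IH) (Lpn (LP (LK LD1_c25 LD2_c16 LD3_c29))))))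
theorem f201455 : Led Lsl_dt (LP (LK LD1_c18 LD2_c42 LD3_c38)) = (LP (LK LD1_c10 LD2_c17 LD3_c35)) :=
  Lre_d IH (LK LD1_c18 LD2_c42 LD3_c38) (LK LD1_c10 LD2_c17 LD3_c35) Lrfl Lrfl
theorem f697005 : Led Lsl_ft (LP (LK LD1_c15 LD2_c50 LD3_c34)) = (LP (LK LD1_c18 LD2_c42 LD3_c38)) :=
  Lgr Lrot54 (Lpr_df (K50.f242154 IH) (Lpr_ff (K57.f697003 IH) (Lpe (f201455 IH) (Lpn (LP (LK LD1_c18 LD2_c42 LD3_c38))))))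
theorem f697112 : Led Lsl_ff (LP (LK LD1_c8 LD2_c26 LD3_c4)) = (LP (LK LD1_c8 LD2_c10 LD3_c43)) :=
  Lgr Lrot72 (Lpr_et (K64.f242156 IH) (Lpr_ft (f697005 IH) (Lpr_et (f697072 IH) (Lpr_ft (K57.f69606 IH) (Lpr_et (K57.f46729 IH) (Lpn (LP (LK LD1_c8 LD2_c10 LD3_c43))))))))
theorem f46726 : Led Lsl_bt (LP (LK LD1_c15 LD2_c23 LD3_c57)) = (LP (LK LD1_c8 LD2_c10 LD3_c43)) :=
  Lre_b IH (LK LD1_c15 LD2_c23 LD3_c57) (LK LD1_c8 LD2_c10 LD3_c43) Lrfl Lrfl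
theorem f697116 : Led Lsl_ft (LP (LK LD1_c15 LD2_c50 LD3_c33)) = (LP (LK LD1_c15 LD2_c23 LD3_c57)) :=
  Lgr Lrot75 (Lpe (f445196 IH) (Lpr_ff (f697112 IH) (Lpe (f46726 IH) (Lpn (LP (LK LD1_c15 LD2_c23 LD3_c57))))))
theorem f742399 : Led Lsl_af (LP (LK LD1_c21 LD2_c13 LD3_c34)) = (LP (LK LD1_c15 LD2_c23 LD3_c57)) :=
  Lgr Lrot31 (Lpr_gf (f498827 IH) (Lpr_gf (f742385 IH) (Lpr_ft (f697116 IH) (Lpn (LP (LK LD1_c15 LD2_c23 LD3_c57))))))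
theorem f742409 : Led Lsl_et (LP (LK LD1_c21 LD2_c13 LD3_c34)) = (LP (LK LD1_c29 LD2_c54 LD3_c39)) :=
  Lre_e IH (LK LD1_c21 LD2_c13 LD3_c34) (LK LD1_c29 LD2_c54 LD3_c39) Lrfl Lrfl
theorem f69640 : Led Lsl_et (LP (LK LD1_c25 LD2_c16 LD3_c28)) = (LP (LK LD1_c15 LD2_c23 LD3_c57)) :=
  Lre_e IH (LK LD1_c25 LD2_c16 LD3_c28) (LK LD1_c15 LD2_c23 LD3_c57) Lrfl Lrfl
theorem f742410 : Led Lsl_at (LP (LK LD1_c29 LD2_c54 LD3_c39)) = (LP (LK LD1_c25 LD2_c16 LD3_c28)) :=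
  Lgr Lrot80 (Lpe (f742409 IH) (Lpr_af (f742399 IH) (Lpe (f69640 IH) (Lpn (LP (LK LD1_c25 LD2_c16 LD3_c28))))))
theorem f69619 : Led Lsl_bt (LP (LK LD1_c16 LD2_c32 LD3_c48)) = (LP (LK LD1_c8 LD2_c51 LD3_c10)) :=
  Lre_b IH (LK LD1_c16 LD2_c32 LD3_c48) (LK LD1_c8 LD2_c51 LD3_c10) Lrfl Lrfl
theorem f69620 : Led Lsl_bt (LP (LK LD1_c15 LD2_c23 LD3_c58)) = (LP (LK LD1_c25 LD2_c16 LD3_c28)) :=
  Lre_b IH (LK LD1_c15 LD2_c23 LD3_c58) (LK LD1_c25 LD2_c16 LD3_c28) Lrfl Lrfl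
theorem f69621 : Led Lsl_df (LP (LK LD1_c16 LD2_c32 LD3_c48)) = (LP (LK LD1_c25 LD2_c16 LD3_c28)) :=
  Lgr Lrot12 (Lpr_bt (f69619 IH) (Lpr_dt (K62.f69603 IH) (Lpr_bt (f69620 IH) (Lpn (LP (LK LD1_c25 LD2_c16 LD3_c28))))))
theorem f69629 : Led Lsl_at (LP (LK LD1_c16 LD2_c32 LD3_c48)) = (LP (LK LD1_c26 LD2_c29 LD3_c21)) :=
  Lre_a IH (LK LD1_c16 LD2_c32 LD3_c48) (LK LD1_c26 LD2_c29 LD3_c21) Lrfl Lrfl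
theorem f742414 : Led Lsl_df (LP (LK LD1_c29 LD2_c54 LD3_c39)) = (LP (LK LD1_c26 LD2_c29 LD3_c21)) :=
  Lgr Lrot18 (Lpr_at (f742410 IH) (Lpe (f69621 IH) (Lpr_at (f69629 IH) (Lpn (LP (LK LD1_c26 LD2_c29 LD3_c21))))))
theorem f742416 : Led Lsl_dt (LP (LK LD1_c29 LD2_c54 LD3_c39)) = (LP (LK LD1_c26 LD2_c29 LD3_c21)) :=
  Lgr Lrot42 (Lpr_df (f742414 IH) (Lpn (LP (LK LD1_c26 LD2_c29 LD3_c21))))
theorem f742419 : Led Lsl_et (LP (LK LD1_c26 LD2_c29 LD3_c21)) = (LP (LK LD1_c16 LD2_c32 LD3_c39)) :=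
  Lre_e IH (LK LD1_c26 LD2_c29 LD3_c21) (LK LD1_c16 LD2_c32 LD3_c39) Lrfl Lrfl
theorem f697355 : Led Lsl_dt (LP (LK LD1_c16 LD2_c32 LD3_c39)) = (LP (LK LD1_c8 LD2_c51 LD3_c0)) :=
  Lre_d IH (LK LD1_c16 LD2_c32 LD3_c39) (LK LD1_c8 LD2_c51 LD3_c0) Lrfl Lrfl
theorem f697603 : Led Lsl_et (LP (LK LD1_c8 LD2_c51 LD3_c0)) = (LP (LK LD1_c16 LD2_c32 LD3_c40)) :=
  Lre_e IH (LK LD1_c8 LD2_c51 LD3_c0) (LK LD1_c16 LD2_c32 LD3_c40) Lrfl Lrfl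
theorem f742420 : Led Lsl_df (LP (LK LD1_c21 LD2_c13 LD3_c34)) = (LP (LK LD1_c16 LD2_c32 LD3_c40)) :=
  Lgr Lrot70 (Lpr_et (f742409 IH) (Lpr_dt (f742416 IH) (Lpr_et (f742419 IH) (Lpr_dt (f697355 IH) (Lpr_et (f697603 IH) (Lpn (LP (LK LD1_c16 LD2_c32 LD3_c40))))))))
theorem f112723 : Led Lsl_et (LP (LK LD1_c6 LD2_c14 LD3_c34)) = (LP (LK LD1_c3 LD2_c4 LD3_c10)) :=
  Lre_e IH (LK LD1_c6 LD2_c14 LD3_c34) (LK LD1_c3 LD2_c4 LD3_c10) Lrfl Lrfl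
theorem f112747 : Led Lsl_et (LP (LK LD1_c4 LD2_c36 LD3_c5)) = (LP (LK LD1_c9 LD2_c8 LD3_c24)) :=
  Lre_e IH (LK LD1_c4 LD2_c36 LD3_c5) (LK LD1_c9 LD2_c8 LD3_c24) Lrfl Lrfl
theorem f697609 : Led Lsl_et (LP (LK LD1_c16 LD2_c32 LD3_c40)) = (LP (LK LD1_c8 LD2_c51 LD3_c0)) :=
  Lre_e IH (LK LD1_c16 LD2_c32 LD3_c40) (LK LD1_c8 LD2_c51 LD3_c0) Lrfl Lrfl
theorem f742422 : Led Lsl_gt (LP (LK LD1_c9 LD2_c8 LD3_c24)) = (LP (LK LD1_c8 LD2_c51 LD3_c0)) :=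
  Lgr Lrot131 (Lpe (f112747 IH) (Lpr_dt (K11.f112746 IH) (Lpe (K8.f112400 IH) (Lpe (K8.f37817 IH) (Lpe (K6.f112710 IH) (Lpe (f112723 IH) (Lpr_dt (K36.f112724 IH) (Lpe (f112745 IH) (Lpr_df (f742420 IH) (Lpr_et (f697609 IH) (Lpn (LP (LK LD1_c8 LD2_c51 LD3_c0)))))))))))))
theorem f631461 : Led Lsl_at (LP (LK LD1_c4 LD2_c26 LD3_c43)) = (LP (LK LD1_c8 LD2_c51 LD3_c0)) :=
  Lre_a IH (LK LD1_c4 LD2_c26 LD3_c43) (LK LD1_c8 LD2_c51 LD3_c0) Lrfl Lrfl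
theorem f742424 : Led Lsl_gf (LP (LK LD1_c9 LD2_c8 LD3_c24)) = v12677 :=
  Lgr Lrot47 (Lpr_gt (f742422 IH) (Lpe (f631461 IH) (Lpr_ff (f696727 IH) (Lpn v12677))))
theorem f161334 : Led Lsl_et (LP (LK LD1_c9 LD2_c7 LD3_c11)) = (LP (LK LD1_c4 LD2_c35 LD3_c18)) :=
  Lre_e IH (LK LD1_c9 LD2_c7 LD3_c11) (LK LD1_c4 LD2_c35 LD3_c18) Lrfl Lrfl
theorem f161335 : Led Lsl_bt (LP (LK LD1_c9 LD2_c8 LD3_c24)) = (LP (LK LD1_c9 LD2_c7 LD3_c11)) :=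
  Lgr Lrot119 (Lpe (f112747 IH) (Lpr_bf (K11.f161330 IH) (Lpe (f161334 IH) (Lpn (LP (LK LD1_c9 LD2_c7 LD3_c11))))))
theorem f161337 : Led Lsl_bf (LP (LK LD1_c9 LD2_c8 LD3_c24)) = (LP (LK LD1_c9 LD2_c7 LD3_c11)) :=
  Lgr Lrot24 (Lpr_bt (f161335 IH) (Lpn (LP (LK LD1_c9 LD2_c7 LD3_c11))))
theorem f139116 : Led Lsl_et (LP (LK LD1_c16 LD2_c23 LD3_c59)) = (LP (LK LD1_c8 LD2_c45 LD3_c47)) :=
  Lre_e IH (LK LD1_c16 LD2_c23 LD3_c59) (LK LD1_c8 LD2_c45 LD3_c47) Lrfl Lrfl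
theorem f37069 : Led Lsl_et (LP (LK LD1_c4 LD2_c35 LD3_c18)) = (LP (LK LD1_c9 LD2_c7 LD3_c11)) :=
  Lre_e IH (LK LD1_c4 LD2_c35 LD3_c18) (LK LD1_c9 LD2_c7 LD3_c11) Lrfl Lrfl
theorem f161669 : Led Lsl_cf (LP (LK LD1_c16 LD2_c23 LD3_c59)) = (LP (LK LD1_c9 LD2_c7 LD3_c11)) :=
  Lgr Lrot39 (Lpr_et (f139116 IH) (Lpr_ct (K8.f161629 IH) (Lpr_et (f37069 IH) (Lpn (LP (LK LD1_c9 LD2_c7 LD3_c11))))))
theorem f742428 : Led Lsl_gt (LP (LK LD1_c16 LD2_c23 LD3_c59)) = (LP (LK LD1_c15 LD2_c6 LD3_c22)) :=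
  Lgr Lrot65 (Lpr_cf (f161669 IH) (Lpe (f161337 IH) (Lpr_gf (f742424 IH) (Lpqs (f696845 IH) (Lpe (f70310 IH) (Lpr_ct (K37.f70296 IH) (Lpr_gf (K40.f445410 IH) (Lpe (K40.f29932 IH) (Lpe (K40.f30121 IH) (Lpe (f30128 IH) (Lpr_ct (f30130 IH) (Lpn (LP (LK LD1_c15 LD2_c6 LD3_c22))))))))))))))
theorem f826029 : Led Lsl_gf (LP (LK LD1_c9 LD2_c7 LD3_c11)) = (LP (LK LD1_c16 LD2_c30 LD3_c61)) :=
  Lgr Lrot181 (Lpe (f161669 IH) (Lpr_gt (f742428 IH) (Lpe (f30130 IH) (Lpr_bt (f30128 IH) (Lpr_gt (K40.f30121 IH) (Lpe (K64.f30111 IH) (Lpr_ct (K40.f558623 IH) (Lpr_gt (K52.f502609 IH) (Lpe (f502615 IH) (Lpr_bt (f826024 IH) (Lpn (LP (LK LD1_c16 LD2_c30 LD3_c61)))))))))))))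
theorem f424561 : Led Lsl_af (LP (LK LD1_c2 LD2_c54 LD3_c6)) = (LP (LK LD1_c4 LD2_c35 LD3_c18)) :=
  Lgr Lrot117 (Lpr_dt (K8.f59562 IH) (Lpr_at (K46.f424559 IH) (Lpr_dt (K11.f37060 IH) (Lpn (LP (LK LD1_c4 LD2_c35 LD3_c18))))))
theorem f161089 : Led Lsl_et (LP (LK LD1_c2 LD2_c54 LD3_c6)) = (LP (LK LD1_c5 LD2_c55 LD3_c33)) :=
  Lre_e IH (LK LD1_c2 LD2_c54 LD3_c6) (LK LD1_c5 LD2_c55 LD3_c33) Lrfl Lrfl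
theorem f424565 : Led Lsl_at (LP (LK LD1_c5 LD2_c55 LD3_c33)) = (LP (LK LD1_c9 LD2_c7 LD3_c11)) :=
  Lgr Lrot80 (Lpe (f161089 IH) (Lpr_af (f424561 IH) (Lpe (f161334 IH) (Lpn (LP (LK LD1_c9 LD2_c7 LD3_c11))))))
theorem f826031 : Led Lsl_gt (LP (LK LD1_c11 LD2_c36 LD3_c24)) = (LP (LK LD1_c16 LD2_c30 LD3_c61)) :=
  Lgr Lrot5 (Lpr_ft (K36.f424572 IH) (Lpr_at (f424565 IH) (Lpr_gf (f826029 IH) (Lpn (LP (LK LD1_c16 LD2_c30 LD3_c61))))))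
theorem f542102 : Led Lsl_bt (LP (LK LD1_c20 LD2_c25 LD3_c43)) = (LP (LK LD1_c11 LD2_c36 LD3_c24)) :=
  Lgr Lrot127 (Lpr_bf (K36.f542098 IH) (Lpn (LP (LK LD1_c11 LD2_c36 LD3_c24))))
def v23289 : LQ := Led Lsl_gf (LP (LK LD1_c7 LD2_c50 LD3_c8))
theorem f816079 : Led Lsl_gf (LP (LK LD1_c7 LD2_c50 LD3_c8)) = v23289 :=
  Lrfl
theorem f423900 : Led Lsl_df (LP (LK LD1_c11 LD2_c15 LD3_c13)) = (LP (LK LD1_c20 LD2_c10 LD3_c13)) :=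
  Lgr Lrot38 (Lpr_dt (K36.f423897 IH) (Lpn (LP (LK LD1_c20 LD2_c10 LD3_c13))))
theorem f601632 : Led Lsl_ff (LP (LK LD1_c16 LD2_c19 LD3_c34)) = (LP (LK LD1_c11 LD2_c15 LD3_c13)) :=
  Lgr Lrot19 (Lpr_dt (K31.f398600 IH) (Lpr_ft (K51.f601626 IH) (Lpe (f423900 IH) (Lpn (LP (LK LD1_c11 LD2_c15 LD3_c13))))))
theorem f601638 : Led Lsl_at (LP (LK LD1_c16 LD2_c19 LD3_c34)) = (LP (LK LD1_c11 LD2_c15 LD3_c6)) :=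
  Lgr Lrot26 (Lpr_ff (f601632 IH) (Lpr_gt (K51.f411697 IH) (Lpe (K36.f423867 IH) (Lpn (LP (LK LD1_c11 LD2_c15 LD3_c6))))))
theorem f601640 : Led Lsl_af (LP (LK LD1_c16 LD2_c19 LD3_c34)) = (LP (LK LD1_c11 LD2_c15 LD3_c6)) :=
  Lgr Lrot0 (Lpr_at (f601638 IH) (Lpn (LP (LK LD1_c11 LD2_c15 LD3_c6))))
theorem f601646 : Led Lsl_at (LP (LK LD1_c9 LD2_c1 LD3_c60)) = (LP (LK LD1_c5 LD2_c42 LD3_c27)) :=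
  Lgr Lrot107 (Lpr_cf (K31.f407040 IH) (Lpr_af (f601640 IH) (Lpe (K36.f423869 IH) (Lpn (LP (LK LD1_c5 LD2_c42 LD3_c27))))))
theorem f601650 : Led Lsl_ff (LP (LK LD1_c9 LD2_c1 LD3_c60)) = (LP (LK LD1_c5 LD2_c42 LD3_c31)) :=
  Lgr Lrot30 (Lpr_at (f601646 IH) (Lpr_ft (K51.f549221 IH) (Lpr_at (K51.f601552 IH) (Lpn (LP (LK LD1_c5 LD2_c42 LD3_c31))))))
theorem f601652 : Led Lsl_ft (LP (LK LD1_c9 LD2_c2 LD3_c34)) = (LP (LK LD1_c5 LD2_c41 LD3_c36)) :=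
  Lgr Lrot75 (Lpe (K36.f411822 IH) (Lpr_ff (f601650 IH) (Lpe (K31.f172504 IH) (Lpn (LP (LK LD1_c5 LD2_c41 LD3_c36))))))
theorem f601656 : Led Lsl_ff (LP (LK LD1_c9 LD2_c2 LD3_c34)) = (LP (LK LD1_c5 LD2_c41 LD3_c36)) :=
  Lgr Lrot3 (Lpr_ft (f601652 IH) (Lpn (LP (LK LD1_c5 LD2_c41 LD3_c36))))
theorem f601660 : Led Lsl_at (LP (LK LD1_c9 LD2_c2 LD3_c34)) = (LP (LK LD1_c5 LD2_c41 LD3_c39)) :=
  Lgr Lrot26 (Lpr_ff (f601656 IH) (Lpr_gt (K31.f172538 IH) (Lpr_gt (K31.f411741 IH) (Lpn (LP (LK LD1_c5 LD2_c41 LD3_c39))))))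
theorem f411824 : Led Lsl_et (LP (LK LD1_c16 LD2_c52 LD3_c58)) = (LP (LK LD1_c9 LD2_c2 LD3_c34)) :=
  Lre_e IH (LK LD1_c16 LD2_c52 LD3_c58) (LK LD1_c9 LD2_c2 LD3_c34) Lrfl Lrfl
theorem f281803 : Led Lsl_et (LP (LK LD1_c5 LD2_c41 LD3_c39)) = (LP (LK LD1_c11 LD2_c13 LD3_c28)) :=
  Lre_e IH (LK LD1_c5 LD2_c41 LD3_c39) (LK LD1_c11 LD2_c13 LD3_c28) Lrfl Lrfl
theorem f601666 : Led Lsl_af (LP (LK LD1_c16 LD2_c52 LD3_c58)) = (LP (LK LD1_c11 LD2_c13 LD3_c28)) :=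
  Lgr Lrot50 (Lpr_et (f411824 IH) (Lpr_at (f601660 IH) (Lpr_et (f281803 IH) (Lpn (LP (LK LD1_c11 LD2_c13 LD3_c28))))))
theorem f601668 : Led Lsl_at (LP (LK LD1_c16 LD2_c52 LD3_c58)) = (LP (LK LD1_c11 LD2_c13 LD3_c28)) :=
  Lgr Lrot100 (Lpr_af (f601666 IH) (Lpn (LP (LK LD1_c11 LD2_c13 LD3_c28))))
theorem f574690 : Led Lsl_dt (LP (LK LD1_c9 LD2_c8 LD3_c24)) = (LP (LK LD1_c16 LD2_c52 LD3_c58)) :=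
  Lgr Lrot77 (Lpe (f112747 IH) (Lpe (K11.f112739 IH) (Lpr_ef (K43.f574684 IH) (Lpe (K30.f411802 IH) (Lpe (f411824 IH) (Lpn (LP (LK LD1_c16 LD2_c52 LD3_c58))))))))
theorem f137500 : Led Lsl_et (LP (LK LD1_c5 LD2_c54 LD3_c8)) = (LP (LK LD1_c2 LD2_c53 LD3_c28)) :=
  Lre_e IH (LK LD1_c5 LD2_c54 LD3_c8) (LK LD1_c2 LD2_c53 LD3_c28) Lrfl Lrfl
theorem f163512 : Led Lsl_af (LP (LK LD1_c5 LD2_c54 LD3_c8)) = (LP (LK LD1_c9 LD2_c8 LD3_c24)) :=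
  Lgr Lrot50 (Lpr_et (f137500 IH) (Lpr_at (K11.f163350 IH) (Lpr_et (f112747 IH) (Lpn (LP (LK LD1_c9 LD2_c8 LD3_c24))))))
theorem f163514 : Led Lsl_at (LP (LK LD1_c5 LD2_c54 LD3_c8)) = (LP (LK LD1_c9 LD2_c8 LD3_c24)) :=
  Lgr Lrot100 (Lpr_af (f163512 IH) (Lpn (LP (LK LD1_c9 LD2_c8 LD3_c24))))
theorem f601671 : Led Lsl_df (LP (LK LD1_c5 LD2_c54 LD3_c8)) = (LP (LK LD1_c11 LD2_c13 LD3_c28)) :=
  Lgr Lrot18 (Lpr_at (f163514 IH) (Lpr_dt (f574690 IH) (Lpr_at (f601668 IH) (Lpn (LP (LK LD1_c11 LD2_c13 LD3_c28))))))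
theorem f449809 : Led Lsl_at (LP (LK LD1_c4 LD2_c42 LD3_c44)) = (LP (LK LD1_c8 LD2_c2 LD3_c8)) :=
  Lgr Lrot26 (Lpr_ff (K36.f449803 IH) (Lpr_gt (K37.f241482 IH) (Lpe (K39.f205312 IH) (Lpn (LP (LK LD1_c8 LD2_c2 LD3_c8))))))
theorem f449811 : Led Lsl_af (LP (LK LD1_c4 LD2_c42 LD3_c44)) = (LP (LK LD1_c8 LD2_c2 LD3_c8)) :=
  Lgr Lrot0 (Lpr_at (f449809 IH) (Lpn (LP (LK LD1_c8 LD2_c2 LD3_c8))))
theorem f449825 : Led Lsl_ft (LP (LK LD1_c4 LD2_c42 LD3_c43)) = (LP (LK LD1_c8 LD2_c2 LD3_c8)) :=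
  Lgr Lrot2 (Lpe (K39.f255509 IH) (Lpr_gt (K36.f255485 IH) (Lpr_af (f449811 IH) (Lpn (LP (LK LD1_c8 LD2_c2 LD3_c8))))))
theorem f449829 : Led Lsl_ff (LP (LK LD1_c4 LD2_c42 LD3_c43)) = (LP (LK LD1_c8 LD2_c2 LD3_c8)) :=
  Lgr Lrot3 (Lpr_ft (f449825 IH) (Lpn (LP (LK LD1_c8 LD2_c2 LD3_c8))))
theorem f449831 : Led Lsl_at (LP (LK LD1_c4 LD2_c42 LD3_c43)) = (LP (LK LD1_c5 LD2_c49 LD3_c41)) :=
  Lgr Lrot66 (Lpr_ff (f449829 IH) (Lpe (f449809 IH) (Lpr_ff (K36.f449803 IH) (Lpn (LP (LK LD1_c5 LD2_c49 LD3_c41))))))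
theorem f449834 : Led Lsl_af (LP (LK LD1_c9 LD2_c19 LD3_c41)) = (LP (LK LD1_c11 LD2_c28 LD3_c2)) :=
  Lgr Lrot50 (Lpr_et (K43.f255512 IH) (Lpr_at (f449831 IH) (Lpr_et (K36.f241484 IH) (Lpn (LP (LK LD1_c11 LD2_c28 LD3_c2))))))
theorem f449836 : Led Lsl_at (LP (LK LD1_c9 LD2_c19 LD3_c41)) = (LP (LK LD1_c11 LD2_c28 LD3_c2)) :=
  Lgr Lrot100 (Lpr_af (f449834 IH) (Lpn (LP (LK LD1_c11 LD2_c28 LD3_c2))))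
theorem f542094 : Led Lsl_bf (LP (LK LD1_c9 LD2_c19 LD3_c41)) = (LP (LK LD1_c5 LD2_c54 LD3_c8)) :=
  Lgr Lrot81 (Lpr_at (f449836 IH) (Lpr_bt (K36.f542092 IH) (Lpr_at (f424565 IH) (Lpe (f161337 IH) (Lpe (f163512 IH) (Lpn (LP (LK LD1_c5 LD2_c54 LD3_c8))))))))
theorem f601675 : Led Lsl_bt (LP (LK LD1_c17 LD2_c15 LD3_c28)) = (LP (LK LD1_c11 LD2_c13 LD3_c28)) :=
  Lgr Lrot95 (Lpe (K43.f255513 IH) (Lpr_bf (f542094 IH) (Lpr_df (f601671 IH) (Lpn (LP (LK LD1_c11 LD2_c13 LD3_c28))))))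
theorem f601712 : Led Lsl_bf (LP (LK LD1_c17 LD2_c15 LD3_c28)) = (LP (LK LD1_c11 LD2_c13 LD3_c28)) :=
  Lgr Lrot24 (Lpr_bt (f601675 IH) (Lpn (LP (LK LD1_c11 LD2_c13 LD3_c28))))
theorem f601677 : Led Lsl_dt (LP (LK LD1_c5 LD2_c54 LD3_c8)) = (LP (LK LD1_c11 LD2_c13 LD3_c28)) :=
  Lgr Lrot42 (Lpr_df (f601671 IH) (Lpn (LP (LK LD1_c11 LD2_c13 LD3_c28))))
theorem f601714 : Led Lsl_bt (LP (LK LD1_c9 LD2_c19 LD3_c41)) = (LP (LK LD1_c5 LD2_c54 LD3_c8)) :=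
  Lgr Lrot95 (Lpe (K43.f255520 IH) (Lpr_bf (f601712 IH) (Lpe (f601677 IH) (Lpn (LP (LK LD1_c5 LD2_c54 LD3_c8))))))
theorem f568016 : Led Lsl_et (LP (LK LD1_c12 LD2_c23 LD3_c1)) = (LP (LK LD1_c6 LD2_c24 LD3_c60)) :=
  Lre_e IH (LK LD1_c12 LD2_c23 LD3_c1) (LK LD1_c6 LD2_c24 LD3_c60) Lrfl Lrfl
theorem f449833 : Led Lsl_et (LP (LK LD1_c4 LD2_c42 LD3_c43)) = (LP (LK LD1_c9 LD2_c19 LD3_c41)) :=
  Lre_e IH (LK LD1_c4 LD2_c42 LD3_c43) (LK LD1_c9 LD2_c19 LD3_c41) Lrfl Lrfl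
theorem f568017 : Led Lsl_cf (LP (LK LD1_c12 LD2_c23 LD3_c1)) = (LP (LK LD1_c9 LD2_c19 LD3_c41)) :=
  Lgr Lrot39 (Lpr_et (f568016 IH) (Lpr_ct (K42.f568003 IH) (Lpr_et (f449833 IH) (Lpn (LP (LK LD1_c9 LD2_c19 LD3_c41))))))
theorem f303771 : Led Lsl_at (LP (LK LD1_c18 LD2_c40 LD3_c60)) = (LP (LK LD1_c18 LD2_c18 LD3_c37)) :=
  Lgr Lrot100 (Lpr_af (K32.f303764 IH) (Lpn (LP (LK LD1_c18 LD2_c18 LD3_c37))))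
theorem f201667 : Led Lsl_gt (LP (LK LD1_c10 LD2_c16 LD3_c20)) = (LP (LK LD1_c18 LD2_c40 LD3_c57)) :=
  Lre_g IH (LK LD1_c10 LD2_c16 LD3_c20) (LK LD1_c18 LD2_c40 LD3_c57) Lrfl Lrfl
theorem f303780 : Led Lsl_gt (LP (LK LD1_c18 LD2_c40 LD3_c57)) = (LP (LK LD1_c18 LD2_c18 LD3_c37)) :=
  Lgr Lrot46 (Lpe (f201667 IH) (Lpr_ft (K32.f303778 IH) (Lpr_at (f303771 IH) (Lpn (LP (LK LD1_c18 LD2_c18 LD3_c37))))))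
theorem f81188 : Led Lsl_gt (LP (LK LD1_c8 LD2_c3 LD3_c45)) = (LP (LK LD1_c15 LD2_c10 LD3_c34)) :=
  Lre_g IH (LK LD1_c8 LD2_c3 LD3_c45) (LK LD1_c15 LD2_c10 LD3_c34) Lrfl Lrfl
theorem f742879 : Led Lsl_cf (LP (LK LD1_c18 LD2_c40 LD3_c57)) = (LP (LK LD1_c15 LD2_c10 LD3_c34)) :=
  Lgr Lrot169 (Lpr_gt (f303780 IH) (Lpr_ct (f303833 IH) (Lpe (K64.f36378 IH) (Lpe (K55.f36382 IH) (Lpr_gf (K55.f742875 IH) (Lpe (K55.f742538 IH) (Lpe (K55.f81148 IH) (Lpr_df (K61.f81175 IH) (Lpr_gt (f81188 IH) (Lpn (LP (LK LD1_c15 LD2_c10 LD3_c34))))))))))))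
theorem f541213 : Led Lsl_bf (LP (LK LD1_c21 LD2_c13 LD3_c36)) = (LP (LK LD1_c16 LD2_c11 LD3_c50)) :=
  Lgr Lrot93 (Lpr_dt (K36.f498605 IH) (Lpr_bt (K36.f541211 IH) (Lpr_dt (K64.f36378 IH) (Lpn (LP (LK LD1_c16 LD2_c11 LD3_c50))))))
theorem f34470 : Led Lsl_bt (LP (LK LD1_c4 LD2_c1 LD3_c37)) = (LP (LK LD1_c8 LD2_c3 LD3_c45)) :=
  Lre_b IH (LK LD1_c4 LD2_c1 LD3_c37) (LK LD1_c8 LD2_c3 LD3_c45) Lrfl Lrfl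
theorem f69518 : Led Lsl_bt (LP (LK LD1_c8 LD2_c10 LD3_c43)) = (LP (LK LD1_c15 LD2_c23 LD3_c57)) :=
  Lre_b IH (LK LD1_c8 LD2_c10 LD3_c43) (LK LD1_c15 LD2_c23 LD3_c57) Lrfl Lrfl
theorem f743205 : Led Lsl_gt (LP (LK LD1_c21 LD2_c13 LD3_c36)) = (LP (LK LD1_c15 LD2_c23 LD3_c57)) :=
  Lgr Lrot164 (Lpr_bf (f541213 IH) (Lpe (K32.f303813 IH) (Lpe (f303780 IH) (Lpr_cf (f742879 IH) (Lpe (f81188 IH) (Lpe (f34470 IH) (Lpr_ct (K10.f34438 IH) (Lpe (K47.f34095 IH) (Lpr_cf (K47.f608002 IH) (Lpr_bt (f69518 IH) (Lpn (LP (LK LD1_c15 LD2_c23 LD3_c57)))))))))))))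
theorem f498610 : Led Lsl_dt (LP (LK LD1_c12 LD2_c7 LD3_c25)) = (LP (LK LD1_c21 LD2_c13 LD3_c36)) :=
  Lre_d IH (LK LD1_c12 LD2_c7 LD3_c25) (LK LD1_c21 LD2_c13 LD3_c36) Lrfl Lrfl
theorem f138237 : Led Lsl_ft (LP (LK LD1_c5 LD2_c54 LD3_c10)) = (LP (LK LD1_c11 LD2_c34 LD3_c10)) :=
  Lre_f IH (LK LD1_c5 LD2_c54 LD3_c10) (LK LD1_c11 LD2_c34 LD3_c10) Lrfl Lrfl
theorem f498809 : Led Lsl_gf (LP (LK LD1_c12 LD2_c7 LD3_c25)) = (LP (LK LD1_c11 LD2_c34 LD3_c7)) :=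
  Lgr Lrot76 (Lpr_af (K39.f498655 IH) (Lpe (f138237 IH) (Lpr_gt (K55.f138208 IH) (Lpn (LP (LK LD1_c11 LD2_c34 LD3_c7))))))
theorem f138313 : Led Lsl_et (LP (LK LD1_c20 LD2_c31 LD3_c39)) = (LP (LK LD1_c11 LD2_c34 LD3_c7)) :=
  Lre_e IH (LK LD1_c20 LD2_c31 LD3_c39) (LK LD1_c11 LD2_c34 LD3_c7) Lrfl Lrfl
theorem f71059 : Led Lsl_et (LP (LK LD1_c4 LD2_c36 LD3_c7)) = (LP (LK LD1_c9 LD2_c8 LD3_c26)) :=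
  Lre_e IH (LK LD1_c4 LD2_c36 LD3_c7) (LK LD1_c9 LD2_c8 LD3_c26) Lrfl Lrfl
theorem f547207 : Led Lsl_dt (LP (LK LD1_c9 LD2_c8 LD3_c26)) = (LP (LK LD1_c11 LD2_c32 LD3_c7)) :=
  Lgr Lrot77 (Lpe (f71059 IH) (Lpe (K11.f71050 IH) (Lpr_ef (K38.f547201 IH) (Lpe (K38.f210679 IH) (Lpe (K36.f210690 IH) (Lpn (LP (LK LD1_c11 LD2_c32 LD3_c7))))))))
theorem f149934 : Led Lsl_et (LP (LK LD1_c9 LD2_c8 LD3_c26)) = (LP (LK LD1_c4 LD2_c36 LD3_c7)) :=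
  Lre_e IH (LK LD1_c9 LD2_c8 LD3_c26) (LK LD1_c4 LD2_c36 LD3_c7) Lrfl Lrfl
theorem f210703 : Led Lsl_gt (LP (LK LD1_c20 LD2_c28 LD3_c49)) = (LP (LK LD1_c11 LD2_c32 LD3_c7)) :=
  Lre_g IH (LK LD1_c20 LD2_c28 LD3_c49) (LK LD1_c11 LD2_c32 LD3_c7) Lrfl Lrfl
theorem f621300 : Led Lsl_dt (LP (LK LD1_c20 LD2_c31 LD3_c39)) = (LP (LK LD1_c20 LD2_c28 LD3_c49)) :=
  Lgr Lrot136 (Lpr_et (f138313 IH) (Lpe (K55.f138208 IH) (Lpe (K8.f138185 IH) (Lpe (K11.f138183 IH) (Lpe (K8.f27025 IH) (Lpe (K11.f27051 IH) (Lpe (K11.f149932 IH) (Lpe (f149934 IH) (Lpr_dt (f547207 IH) (Lpe (f210703 IH) (Lpn (LP (LK LD1_c20 LD2_c28 LD3_c49)))))))))))))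
theorem f580645 : Led Lsl_af (LP (LK LD1_c11 LD2_c36 LD3_c34)) = (LP (LK LD1_c16 LD2_c27 LD3_c37)) :=
  Lgr Lrot50 (Lpr_et (K6.f81864 IH) (Lpr_at (K44.f580641 IH) (Lpr_et (K36.f449863 IH) (Lpn (LP (LK LD1_c16 LD2_c27 LD3_c37))))))
theorem f81869 : Led Lsl_bf (LP (LK LD1_c11 LD2_c33 LD3_c59)) = (LP (LK LD1_c11 LD2_c36 LD3_c34)) :=
  Lgr Lrot24 (Lpr_bt (K6.f81865 IH) (Lpn (LP (LK LD1_c11 LD2_c36 LD3_c34))))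
theorem f227411 : Led Lsl_bt (LP (LK LD1_c8 LD2_c47 LD3_c46)) = (LP (LK LD1_c16 LD2_c27 LD3_c37)) :=
  Lre_b IH (LK LD1_c8 LD2_c47 LD3_c46) (LK LD1_c16 LD2_c27 LD3_c37) Lrfl Lrfl
theorem f449771 : Led Lsl_af (LP (LK LD1_c8 LD2_c47 LD3_c46)) = (LP (LK LD1_c9 LD2_c47 LD3_c17)) :=
  Lgr Lrot0 (Lpr_at (K36.f449769 IH) (Lpn (LP (LK LD1_c9 LD2_c47 LD3_c17))))
theorem f210696 : Led Lsl_bt (LP (LK LD1_c11 LD2_c32 LD3_c7)) = (LP (LK LD1_c9 LD2_c47 LD3_c17)) :=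
  Lgr Lrot127 (Lpr_bf (K36.f210691 IH) (Lpn (LP (LK LD1_c9 LD2_c47 LD3_c17))))
theorem f605314 : Led Lsl_at (LP (LK LD1_c11 LD2_c33 LD3_c59)) = (LP (LK LD1_c11 LD2_c32 LD3_c7)) :=
  Lgr Lrot67 (Lpr_bf (f81869 IH) (Lpr_af (f580645 IH) (Lpe (f227411 IH) (Lpr_af (f449771 IH) (Lpe (f210696 IH) (Lpn (LP (LK LD1_c11 LD2_c32 LD3_c7))))))))
theorem f605355 : Led Lsl_gt (LP (LK LD1_c20 LD2_c31 LD3_c25)) = (LP (LK LD1_c20 LD2_c28 LD3_c49)) :=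
  Lgr Lrot5 (Lpr_ft (K6.f81877 IH) (Lpr_at (f605314 IH) (Lpe (f210703 IH) (Lpn (LP (LK LD1_c20 LD2_c28 LD3_c49))))))
theorem f81894 : Led Lsl_dt (LP (LK LD1_c11 LD2_c33 LD3_c60)) = (LP (LK LD1_c20 LD2_c31 LD3_c25)) :=
  Lre_d IH (LK LD1_c11 LD2_c33 LD3_c60) (LK LD1_c20 LD2_c31 LD3_c25) Lrfl Lrfl
theorem f69632 : Led Lsl_et (LP (LK LD1_c16 LD2_c32 LD3_c48)) = (LP (LK LD1_c8 LD2_c51 LD3_c2)) :=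
  Lre_e IH (LK LD1_c16 LD2_c32 LD3_c48) (LK LD1_c8 LD2_c51 LD3_c2) Lrfl Lrfl
theorem f69633 : Led Lsl_dt (LP (LK LD1_c8 LD2_c51 LD3_c2)) = (LP (LK LD1_c4 LD2_c26 LD3_c43)) :=
  Lre_d IH (LK LD1_c8 LD2_c51 LD3_c2) (LK LD1_c4 LD2_c26 LD3_c43) Lrfl Lrfl
theorem f69634 : Led Lsl_et (LP (LK LD1_c4 LD2_c26 LD3_c43)) = (LP (LK LD1_c8 LD2_c51 LD3_c3)) :=
  Lre_e IH (LK LD1_c4 LD2_c26 LD3_c43) (LK LD1_c8 LD2_c51 LD3_c3) Lrfl Lrfl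
theorem f69635 : Led Lsl_et (LP (LK LD1_c15 LD2_c23 LD3_c57)) = (LP (LK LD1_c25 LD2_c16 LD3_c28)) :=
  Lre_e IH (LK LD1_c15 LD2_c23 LD3_c57) (LK LD1_c25 LD2_c16 LD3_c28) Lrfl Lrfl
theorem f69636 : Led Lsl_dt (LP (LK LD1_c8 LD2_c51 LD3_c3)) = (LP (LK LD1_c15 LD2_c23 LD3_c57)) :=
  Lgr Lrot77 (Lpe (f69634 IH) (Lpe (f69633 IH) (Lpe (f69632 IH) (Lpr_df (f69621 IH) (Lpe (f69635 IH) (Lpn (LP (LK LD1_c15 LD2_c23 LD3_c57))))))))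
theorem f69653 : Led Lsl_et (LP (LK LD1_c8 LD2_c51 LD3_c3)) = (LP (LK LD1_c4 LD2_c26 LD3_c43)) :=
  Lre_e IH (LK LD1_c8 LD2_c51 LD3_c3) (LK LD1_c4 LD2_c26 LD3_c43) Lrfl Lrfl
theorem f69654 : Led Lsl_gt (LP (LK LD1_c4 LD2_c26 LD3_c43)) = (LP (LK LD1_c8 LD2_c50 LD3_c61)) :=
  Lre_g IH (LK LD1_c4 LD2_c26 LD3_c43) (LK LD1_c8 LD2_c50 LD3_c61) Lrfl Lrfl
theorem f743212 : Led Lsl_et (LP (LK LD1_c11 LD2_c33 LD3_c60)) = (LP (LK LD1_c8 LD2_c50 LD3_c61)) :=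
  Lgr Lrot122 (Lpr_dt (f81894 IH) (Lpr_gt (f605355 IH) (Lpe (f621300 IH) (Lpr_et (f138313 IH) (Lpe (f498809 IH) (Lpr_dt (f498610 IH) (Lpr_gt (f743205 IH) (Lpe (f69636 IH) (Lpr_et (f69653 IH) (Lpr_gt (f69654 IH) (Lpn (LP (LK LD1_c8 LD2_c50 LD3_c61)))))))))))))
theorem f81892 : Led Lsl_ft (LP (LK LD1_c5 LD2_c54 LD3_c5)) = (LP (LK LD1_c11 LD2_c33 LD3_c60)) :=
  Lre_f IH (LK LD1_c5 LD2_c54 LD3_c5) (LK LD1_c11 LD2_c33 LD3_c60) Lrfl Lrfl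
theorem f163320 : Led Lsl_ff (LP (LK LD1_c2 LD2_c53 LD3_c25)) = (LP (LK LD1_c4 LD2_c36 LD3_c5)) :=
  Lgr Lrot19 (Lpr_dt (K8.f71195 IH) (Lpr_ft (K8.f163316 IH) (Lpr_dt (K11.f112739 IH) (Lpn (LP (LK LD1_c4 LD2_c36 LD3_c5))))))
theorem f161339 : Led Lsl_et (LP (LK LD1_c9 LD2_c8 LD3_c24)) = (LP (LK LD1_c4 LD2_c36 LD3_c5)) :=
  Lre_e IH (LK LD1_c9 LD2_c8 LD3_c24) (LK LD1_c4 LD2_c36 LD3_c5) Lrfl Lrfl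
theorem f743218 : Led Lsl_ff (LP (LK LD1_c9 LD2_c8 LD3_c24)) = (LP (LK LD1_c8 LD2_c50 LD3_c61)) :=
  Lgr Lrot72 (Lpr_et (f161339 IH) (Lpe (f163320 IH) (Lpr_et (K6.f81904 IH) (Lpr_ft (f81892 IH) (Lpr_et (f743212 IH) (Lpn (LP (LK LD1_c8 LD2_c50 LD3_c61))))))))
theorem f163517 : Led Lsl_gt (LP (LK LD1_c11 LD2_c34 LD3_c2)) = (LP (LK LD1_c5 LD2_c54 LD3_c8)) :=
  Lre_g IH (LK LD1_c11 LD2_c34 LD3_c2) (LK LD1_c5 LD2_c54 LD3_c8) Lrfl Lrfl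
theorem f743224 : Led Lsl_gf (LP (LK LD1_c11 LD2_c34 LD3_c2)) = (LP (LK LD1_c8 LD2_c50 LD3_c61)) :=
  Lgr Lrot47 (Lpr_gt (f163517 IH) (Lpr_af (f163512 IH) (Lpr_ff (f743218 IH) (Lpn (LP (LK LD1_c8 LD2_c50 LD3_c61))))))
theorem f601685 : Led Lsl_et (LP (LK LD1_c20 LD2_c31 LD3_c31)) = (LP (LK LD1_c11 LD2_c34 LD3_c2)) :=
  Lre_e IH (LK LD1_c20 LD2_c31 LD3_c31) (LK LD1_c11 LD2_c34 LD3_c2) Lrfl Lrfl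
theorem f601693 : Led Lsl_dt (LP (LK LD1_c20 LD2_c31 LD3_c31)) = (LP (LK LD1_c20 LD2_c32 LD3_c0)) :=
  Lre_d IH (LK LD1_c20 LD2_c31 LD3_c31) (LK LD1_c20 LD2_c32 LD3_c0) Lrfl Lrfl
theorem f601681 : Led Lsl_dt (LP (LK LD1_c20 LD2_c31 LD3_c30)) = (LP (LK LD1_c11 LD2_c34 LD3_c2)) :=
  Lre_d IH (LK LD1_c20 LD2_c31 LD3_c30) (LK LD1_c11 LD2_c34 LD3_c2) Lrfl Lrfl
theorem f281809 : Led Lsl_et (LP (LK LD1_c11 LD2_c13 LD3_c28)) = (LP (LK LD1_c5 LD2_c41 LD3_c39)) :=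
  Lre_e IH (LK LD1_c11 LD2_c13 LD3_c28) (LK LD1_c5 LD2_c41 LD3_c39) Lrfl Lrfl
theorem f587702 : Led Lsl_et (LP (LK LD1_c9 LD2_c2 LD3_c36)) = (LP (LK LD1_c16 LD2_c52 LD3_c60)) :=
  Lre_e IH (LK LD1_c9 LD2_c2 LD3_c36) (LK LD1_c16 LD2_c52 LD3_c60) Lrfl Lrfl
theorem f587715 : Led Lsl_gt (LP (LK LD1_c16 LD2_c52 LD3_c60)) = (LP (LK LD1_c26 LD2_c49 LD3_c47)) :=
  Lre_g IH (LK LD1_c16 LD2_c52 LD3_c60) (LK LD1_c26 LD2_c49 LD3_c47) Lrfl Lrfl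
theorem f601682 : Led Lsl_et (LP (LK LD1_c20 LD2_c31 LD3_c30)) = (LP (LK LD1_c26 LD2_c49 LD3_c47)) :=
  Lgr Lrot122 (Lpr_dt (f601681 IH) (Lpr_gt (f163517 IH) (Lpr_df (f601671 IH) (Lpr_et (f281809 IH) (Lpr_gt (K31.f281797 IH) (Lpr_dt (K30.f210329 IH) (Lpr_gt (K39.f172682 IH) (Lpr_df (K40.f559756 IH) (Lpr_et (f587702 IH) (Lpr_gt (f587715 IH) (Lpn (LP (LK LD1_c26 LD2_c49 LD3_c47)))))))))))))
theorem f601690 : Led Lsl_ef (LP (LK LD1_c20 LD2_c31 LD3_c30)) = (LP (LK LD1_c26 LD2_c49 LD3_c47)) :=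
  Lgr Lrot88 (Lpr_et (f601682 IH) (Lpn (LP (LK LD1_c26 LD2_c49 LD3_c47))))
theorem f601692 : Led Lsl_et (LP (LK LD1_c11 LD2_c34 LD3_c2)) = (LP (LK LD1_c20 LD2_c31 LD3_c31)) :=
  Lre_e IH (LK LD1_c11 LD2_c34 LD3_c2) (LK LD1_c20 LD2_c31 LD3_c31) Lrfl Lrfl
theorem f601694 : Led Lsl_et (LP (LK LD1_c20 LD2_c32 LD3_c0)) = (LP (LK LD1_c29 LD2_c29 LD3_c53)) :=
  Lre_e IH (LK LD1_c20 LD2_c32 LD3_c0) (LK LD1_c29 LD2_c29 LD3_c53) Lrfl Lrfl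
theorem f601695 : Led Lsl_dt (LP (LK LD1_c29 LD2_c29 LD3_c53)) = (LP (LK LD1_c26 LD2_c49 LD3_c47)) :=
  Lgr Lrot77 (Lpe (f601694 IH) (Lpe (f601693 IH) (Lpe (f601692 IH) (Lpe (f601681 IH) (Lpr_ef (f601690 IH) (Lpn (LP (LK LD1_c26 LD2_c49 LD3_c47))))))))
theorem f601687 : Led Lsl_et (LP (LK LD1_c29 LD2_c29 LD3_c53)) = (LP (LK LD1_c20 LD2_c32 LD3_c0)) :=
  Lre_e IH (LK LD1_c29 LD2_c29 LD3_c53) (LK LD1_c20 LD2_c32 LD3_c0) Lrfl Lrfl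
theorem f590338 : Led Lsl_et (LP (LK LD1_c11 LD2_c34 LD3_c41)) = (LP (LK LD1_c5 LD2_c54 LD3_c24)) :=
  Lre_e IH (LK LD1_c11 LD2_c34 LD3_c41) (LK LD1_c5 LD2_c54 LD3_c24) Lrfl Lrfl
theorem f420952 : Led Lsl_et (LP (LK LD1_c5 LD2_c54 LD3_c18)) = (LP (LK LD1_c2 LD2_c53 LD3_c35)) :=
  Lre_e IH (LK LD1_c5 LD2_c54 LD3_c18) (LK LD1_c2 LD2_c53 LD3_c35) Lrfl Lrfl
theorem f72220 : Led Lsl_dt (LP (LK LD1_c5 LD2_c54 LD3_c18)) = (LP (LK LD1_c2 LD2_c53 LD3_c32)) :=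
  Lre_d IH (LK LD1_c5 LD2_c54 LD3_c18) (LK LD1_c2 LD2_c53 LD3_c32) Lrfl Lrfl
theorem f99398 : Led Lsl_gt (LP (LK LD1_c5 LD2_c54 LD3_c17)) = (LP (LK LD1_c2 LD2_c53 LD3_c32)) :=
  Lre_g IH (LK LD1_c5 LD2_c54 LD3_c17) (LK LD1_c2 LD2_c53 LD3_c32) Lrfl Lrfl
theorem f587446 : Led Lsl_dt (LP (LK LD1_c11 LD2_c34 LD3_c27)) = (LP (LK LD1_c5 LD2_c54 LD3_c17)) :=
  Lre_d IH (LK LD1_c11 LD2_c34 LD3_c27) (LK LD1_c5 LD2_c54 LD3_c17) Lrfl Lrfl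
theorem f601697 : Led Lsl_gt (LP (LK LD1_c20 LD2_c32 LD3_c0)) = (LP (LK LD1_c11 LD2_c34 LD3_c27)) :=
  Lgr Lrot137 (Lpe (f601687 IH) (Lpr_dt (f601695 IH) (Lpe (f587715 IH) (Lpe (K46.f600903 IH) (Lpr_et (f590338 IH) (Lpe (K43.f420966 IH) (Lpe (f420952 IH) (Lpr_dt (f72220 IH) (Lpe (f99398 IH) (Lpe (f587446 IH) (Lpn (LP (LK LD1_c11 LD2_c34 LD3_c27)))))))))))))
theorem f70998 : Led Lsl_dt (LP (LK LD1_c5 LD2_c54 LD3_c17)) = (LP (LK LD1_c11 LD2_c34 LD3_c27)) :=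
  Lre_d IH (LK LD1_c5 LD2_c54 LD3_c17) (LK LD1_c11 LD2_c34 LD3_c27) Lrfl Lrfl
theorem f601706 : Led Lsl_et (LP (LK LD1_c5 LD2_c54 LD3_c17)) = (LP (LK LD1_c11 LD2_c34 LD3_c28)) :=
  Lre_e IH (LK LD1_c5 LD2_c54 LD3_c17) (LK LD1_c11 LD2_c34 LD3_c28) Lrfl Lrfl
theorem f601707 : Led Lsl_gt (LP (LK LD1_c11 LD2_c34 LD3_c28)) = (LP (LK LD1_c20 LD2_c32 LD3_c8)) :=
  Lre_g IH (LK LD1_c11 LD2_c34 LD3_c28) (LK LD1_c20 LD2_c32 LD3_c8) Lrfl Lrfl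
theorem f621306 : Led Lsl_et (LP (LK LD1_c11 LD2_c34 LD3_c7)) = (LP (LK LD1_c20 LD2_c31 LD3_c39)) :=
  Lre_e IH (LK LD1_c11 LD2_c34 LD3_c7) (LK LD1_c20 LD2_c31 LD3_c39) Lrfl Lrfl
theorem f56413 : Led Lsl_et (LP (LK LD1_c17 LD2_c9 LD3_c17)) = (LP (LK LD1_c9 LD2_c14 LD3_c52)) :=
  Lre_e IH (LK LD1_c17 LD2_c9 LD3_c17) (LK LD1_c9 LD2_c14 LD3_c52) Lrfl Lrfl
theorem f742911 : Led Lsl_at (LP (LK LD1_c20 LD2_c31 LD3_c39)) = (LP (LK LD1_c17 LD2_c9 LD3_c17)) :=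
  Lgr Lrot80 (Lpe (f621306 IH) (Lpr_af (K55.f742900 IH) (Lpe (f56413 IH) (Lpn (LP (LK LD1_c17 LD2_c9 LD3_c17))))))
theorem f621304 : Led Lsl_df (LP (LK LD1_c20 LD2_c31 LD3_c39)) = (LP (LK LD1_c20 LD2_c28 LD3_c49)) :=
  Lgr Lrot38 (Lpr_dt (f621300 IH) (Lpn (LP (LK LD1_c20 LD2_c28 LD3_c49))))
theorem f56398 : Led Lsl_bt (LP (LK LD1_c27 LD2_c1 LD3_c19)) = (LP (LK LD1_c17 LD2_c9 LD3_c19)) :=
  Lre_b IH (LK LD1_c27 LD2_c1 LD3_c19) (LK LD1_c17 LD2_c9 LD3_c19) Lrfl Lrfl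
theorem f56400 : Led Lsl_df (LP (LK LD1_c27 LD2_c1 LD3_c19)) = (LP (LK LD1_c26 LD2_c29 LD3_c9)) :=
  Lgr Lrot12 (Lpr_bt (f56398 IH) (Lpr_dt (K55.f56392 IH) (Lpr_bt (K55.f56399 IH) (Lpn (LP (LK LD1_c26 LD2_c29 LD3_c9))))))
theorem f56403 : Led Lsl_et (LP (LK LD1_c27 LD2_c1 LD3_c19)) = (LP (LK LD1_c17 LD2_c9 LD3_c16)) :=
  Lre_e IH (LK LD1_c27 LD2_c1 LD3_c19) (LK LD1_c17 LD2_c9 LD3_c16) Lrfl Lrfl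
theorem f56405 : Led Lsl_et (LP (LK LD1_c9 LD2_c14 LD3_c52)) = (LP (LK LD1_c17 LD2_c9 LD3_c17)) :=
  Lre_e IH (LK LD1_c9 LD2_c14 LD3_c52) (LK LD1_c17 LD2_c9 LD3_c17) Lrfl Lrfl
theorem f56406 : Led Lsl_et (LP (LK LD1_c16 LD2_c32 LD3_c28)) = (LP (LK LD1_c26 LD2_c29 LD3_c9)) :=
  Lre_e IH (LK LD1_c16 LD2_c32 LD3_c28) (LK LD1_c26 LD2_c29 LD3_c9) Lrfl Lrfl
theorem f56407 : Led Lsl_dt (LP (LK LD1_c17 LD2_c9 LD3_c17)) = (LP (LK LD1_c16 LD2_c32 LD3_c28)) :=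
  Lgr Lrot77 (Lpe (f56405 IH) (Lpe (K63.f56404 IH) (Lpe (f56403 IH) (Lpr_df (f56400 IH) (Lpe (f56406 IH) (Lpn (LP (LK LD1_c16 LD2_c32 LD3_c28))))))))
theorem f742919 : Led Lsl_af (LP (LK LD1_c20 LD2_c28 LD3_c49)) = (LP (LK LD1_c16 LD2_c32 LD3_c28)) :=
  Lgr Lrot117 (Lpe (f621304 IH) (Lpr_at (f742911 IH) (Lpr_dt (f56407 IH) (Lpn (LP (LK LD1_c16 LD2_c32 LD3_c28))))))
theorem f408075 : Led Lsl_bt (LP (LK LD1_c8 LD2_c51 LD3_c33)) = (LP (LK LD1_c16 LD2_c33 LD3_c45)) :=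
  Lre_b IH (LK LD1_c8 LD2_c51 LD3_c33) (LK LD1_c16 LD2_c33 LD3_c45) Lrfl Lrfl
theorem f16585 : Led Lsl_bt (LP (LK LD1_c16 LD2_c32 LD3_c28)) = (LP (LK LD1_c8 LD2_c50 LD3_c58)) :=
  Lre_b IH (LK LD1_c16 LD2_c32 LD3_c28) (LK LD1_c8 LD2_c50 LD3_c58) Lrfl Lrfl
theorem f617248 : Led Lsl_ft (LP (LK LD1_c16 LD2_c33 LD3_c45)) = (LP (LK LD1_c16 LD2_c32 LD3_c28)) :=
  Lgr Lrot75 (Lpe (f408075 IH) (Lpr_ff (K55.f617246 IH) (Lpe (f16585 IH) (Lpn (LP (LK LD1_c16 LD2_c32 LD3_c28))))))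
theorem f742929 : Led Lsl_gf (LP (LK LD1_c20 LD2_c31 LD3_c25)) = (LP (LK LD1_c16 LD2_c33 LD3_c45)) :=
  Lgr Lrot47 (Lpr_gt (f605355 IH) (Lpr_af (f742919 IH) (Lpe (f617248 IH) (Lpn (LP (LK LD1_c16 LD2_c33 LD3_c45))))))
theorem f743228 : Led Lsl_dt (LP (LK LD1_c20 LD2_c32 LD3_c8)) = (LP (LK LD1_c16 LD2_c33 LD3_c45)) :=
  Lgr Lrot171 (Lpe (f601707 IH) (Lpe (f601706 IH) (Lpr_dt (f70998 IH) (Lpe (f601697 IH) (Lpe (f601693 IH) (Lpr_et (f601685 IH) (Lpr_gf (f743224 IH) (Lpe (f743212 IH) (Lpr_dt (f81894 IH) (Lpr_gf (f742929 IH) (Lpn (LP (LK LD1_c16 LD2_c33 LD3_c45)))))))))))))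
theorem f605316 : Led Lsl_at (LP (LK LD1_c20 LD2_c34 LD3_c52)) = (LP (LK LD1_c26 LD2_c24 LD3_c50)) :=
  Lgr Lrot66 (Lpe (K6.f81878 IH) (Lpr_af (f580645 IH) (Lpe (K36.f449897 IH) (Lpn (LP (LK LD1_c26 LD2_c24 LD3_c50))))))
theorem f81885 : Led Lsl_bt (LP (LK LD1_c20 LD2_c31 LD3_c25)) = (LP (LK LD1_c20 LD2_c34 LD3_c52)) :=
  Lgr Lrot127 (Lpr_bf (K6.f81879 IH) (Lpn (LP (LK LD1_c20 LD2_c34 LD3_c52))))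
theorem f449777 : Led Lsl_at (LP (LK LD1_c16 LD2_c27 LD3_c40)) = (LP (LK LD1_c17 LD2_c57 LD3_c42)) :=
  Lgr Lrot100 (Lpr_af (K36.f449773 IH) (Lpn (LP (LK LD1_c17 LD2_c57 LD3_c42))))
theorem f605320 : Led Lsl_af (LP (LK LD1_c20 LD2_c31 LD3_c25)) = (LP (LK LD1_c20 LD2_c28 LD3_c50)) :=
  Lgr Lrot36 (Lpr_bt (f81885 IH) (Lpr_at (f605316 IH) (Lpr_bt (K36.f227429 IH) (Lpr_at (f449777 IH) (Lpe (K36.f210704 IH) (Lpn (LP (LK LD1_c20 LD2_c28 LD3_c50))))))))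
theorem f742931 : Led Lsl_gt (LP (LK LD1_c11 LD2_c32 LD3_c7)) = (LP (LK LD1_c16 LD2_c33 LD3_c45)) :=
  Lgr Lrot5 (Lpr_ft (K36.f210699 IH) (Lpe (f605320 IH) (Lpr_gf (f742929 IH) (Lpn (LP (LK LD1_c16 LD2_c33 LD3_c45))))))
theorem f743241 : Led Lsl_et (LP (LK LD1_c20 LD2_c32 LD3_c8)) = (LP (LK LD1_c23 LD2_c14 LD3_c42)) :=
  Lgr Lrot121 (Lpr_dt (f743228 IH) (Lpe (f742931 IH) (Lpe (f547207 IH) (Lpr_et (f149934 IH) (Lpr_gf (K11.f202161 IH) (Lpe (K37.f202191 IH) (Lpr_dt (K63.f543799 IH) (Lpe (K43.f18050 IH) (Lpe (K43.f97539 IH) (Lpe (K47.f578491 IH) (Lpn (LP (LK LD1_c23 LD2_c14 LD3_c42)))))))))))))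
theorem f743243 : Led Lsl_ef (LP (LK LD1_c20 LD2_c32 LD3_c8)) = (LP (LK LD1_c23 LD2_c14 LD3_c42)) :=
  Lgr Lrot88 (Lpr_et (f743241 IH) (Lpn (LP (LK LD1_c23 LD2_c14 LD3_c42))))
theorem f112728 : Led Lsl_et (LP (LK LD1_c6 LD2_c14 LD3_c42)) = (LP (LK LD1_c12 LD2_c7 LD3_c41)) :=
  Lre_e IH (LK LD1_c6 LD2_c14 LD3_c42) (LK LD1_c12 LD2_c7 LD3_c41) Lrfl Lrfl
theorem f743249 : Led Lsl_gf (LP (LK LD1_c20 LD2_c31 LD3_c31)) = (LP (LK LD1_c12 LD2_c7 LD3_c41)) :=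
  Lgr Lrot138 (Lpr_dt (f601693 IH) (Lpr_gt (f601697 IH) (Lpe (f70998 IH) (Lpr_et (f601706 IH) (Lpr_gt (f601707 IH) (Lpr_ef (f743243 IH) (Lpe (K62.f628267 IH) (Lpr_gt (K47.f543733 IH) (Lpe (K47.f75773 IH) (Lpr_et (f112728 IH) (Lpn (LP (LK LD1_c12 LD2_c7 LD3_c41)))))))))))))
theorem f112725 : Led Lsl_gt (LP (LK LD1_c21 LD2_c13 LD3_c59)) = (LP (LK LD1_c12 LD2_c7 LD3_c41)) :=
  Lre_g IH (LK LD1_c21 LD2_c13 LD3_c59) (LK LD1_c12 LD2_c7 LD3_c41) Lrfl Lrfl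
theorem f69517 : Led Lsl_bt (LP (LK LD1_c8 LD2_c51 LD3_c3)) = (LP (LK LD1_c4 LD2_c26 LD3_c46)) :=
  Lre_b IH (LK LD1_c8 LD2_c51 LD3_c3) (LK LD1_c4 LD2_c26 LD3_c46) Lrfl Lrfl
theorem f69519 : Led Lsl_df (LP (LK LD1_c8 LD2_c51 LD3_c3)) = (LP (LK LD1_c15 LD2_c23 LD3_c57)) :=
  Lgr Lrot12 (Lpr_bt (f69517 IH) (Lpr_dt (K8.f69511 IH) (Lpr_bt (f69518 IH) (Lpn (LP (LK LD1_c15 LD2_c23 LD3_c57))))))
theorem f69647 : Led Lsl_ft (LP (LK LD1_c8 LD2_c51 LD3_c3)) = (LP (LK LD1_c16 LD2_c32 LD3_c51)) :=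
  Lre_f IH (LK LD1_c8 LD2_c51 LD3_c3) (LK LD1_c16 LD2_c32 LD3_c51) Lrfl Lrfl
theorem f697130 : Led Lsl_df (LP (LK LD1_c15 LD2_c50 LD3_c33)) = (LP (LK LD1_c16 LD2_c32 LD3_c51)) :=
  Lgr Lrot78 (Lpr_ft (f697116 IH) (Lpe (f69519 IH) (Lpr_ft (f69647 IH) (Lpn (LP (LK LD1_c16 LD2_c32 LD3_c51))))))
theorem f742387 : Led Lsl_ef (LP (LK LD1_c21 LD2_c13 LD3_c59)) = (LP (LK LD1_c16 LD2_c32 LD3_c51)) :=
  Lgr Lrot114 (Lpr_gt (f112725 IH) (Lpe (f112728 IH) (Lpr_dt (K47.f75773 IH) (Lpr_gt (K47.f628239 IH) (Lpe (K47.f628235 IH) (Lpr_et (K47.f498815 IH) (Lpr_gt (K47.f498777 IH) (Lpr_dt (K36.f112724 IH) (Lpr_gt (f742383 IH) (Lpr_df (f697130 IH) (Lpn (LP (LK LD1_c16 LD2_c32 LD3_c51)))))))))))))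
theorem f236551 : Led Lsl_et (LP (LK LD1_c15 LD2_c0 LD3_c32)) = (LP (LK LD1_c7 LD2_c57 LD3_c28)) :=
  Lre_e IH (LK LD1_c15 LD2_c0 LD3_c32) (LK LD1_c7 LD2_c57 LD3_c28) Lrfl Lrfl
theorem f742393 : Led Lsl_ft (LP (LK LD1_c21 LD2_c13 LD3_c59)) = (LP (LK LD1_c15 LD2_c0 LD3_c32)) :=
  Lgr Lrot86 (Lpr_ef (f742387 IH) (Lpe (f69647 IH) (Lpe (f69634 IH) (Lpr_ff (f696727 IH) (Lpqs (f696845 IH) (Lpe (f236551 IH) (Lpn (LP (LK LD1_c15 LD2_c0 LD3_c32)))))))))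
theorem f743251 : Led Lsl_af (LP (LK LD1_c20 LD2_c31 LD3_c31)) = (LP (LK LD1_c15 LD2_c0 LD3_c32)) :=
  Lgr Lrot31 (Lpr_gf (f743249 IH) (Lpe (f112725 IH) (Lpr_ft (f742393 IH) (Lpn (LP (LK LD1_c15 LD2_c0 LD3_c32))))))
theorem f236545 : Led Lsl_et (LP (LK LD1_c7 LD2_c57 LD3_c28)) = (LP (LK LD1_c15 LD2_c0 LD3_c32)) :=
  Lre_e IH (LK LD1_c7 LD2_c57 LD3_c28) (LK LD1_c15 LD2_c0 LD3_c32) Lrfl Lrfl
theorem f743259 : Led Lsl_at (LP (LK LD1_c11 LD2_c34 LD3_c2)) = (LP (LK LD1_c7 LD2_c57 LD3_c28)) :=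
  Lgr Lrot80 (Lpe (f601685 IH) (Lpr_af (f743251 IH) (Lpe (f236545 IH) (Lpn (LP (LK LD1_c7 LD2_c57 LD3_c28))))))
theorem f743265 : Led Lsl_ff (LP (LK LD1_c11 LD2_c34 LD3_c2)) = (LP (LK LD1_c8 LD2_c51 LD3_c0)) :=
  Lgr Lrot30 (Lpr_at (f743259 IH) (Lpq (f696845 IH) (Lpe (f696727 IH) (Lpr_at (f631461 IH) (Lpn (LP (LK LD1_c8 LD2_c51 LD3_c0)))))))
theorem f743275 : Led Lsl_ft (LP (LK LD1_c11 LD2_c34 LD3_c2)) = (LP (LK LD1_c8 LD2_c51 LD3_c0)) :=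
  Lgr Lrot48 (Lpr_ff (f743265 IH) (Lpn (LP (LK LD1_c8 LD2_c51 LD3_c0))))
theorem f631460 : Led Lsl_at (LP (LK LD1_c8 LD2_c51 LD3_c0)) = (LP (LK LD1_c4 LD2_c26 LD3_c43)) :=
  Lre_a IH (LK LD1_c8 LD2_c51 LD3_c0) (LK LD1_c4 LD2_c26 LD3_c43) Lrfl Lrfl
def v12676 : LQ := Led Lsl_gf (LP (LK LD1_c4 LD2_c26 LD3_c43))
theorem f696720 : Led Lsl_gf (LP (LK LD1_c4 LD2_c26 LD3_c43)) = v12676 :=
  Lrfl
theorem f743279 : (LP (LK LD1_c5 LD2_c54 LD3_c8)) = v12676 :=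
  (Llr Lrot5 (Lpe (f163517 IH) (Lpr_ft (f743275 IH) (Lpr_at (f631460 IH) (Lpr_gf (f696720 IH) (Lpn v12676)))))).symm
theorem f444906 : Led Lsl_bt (LP (LK LD1_c2 LD2_c10 LD3_c32)) = (LP (LK LD1_c4 LD2_c26 LD3_c43)) :=
  Lre_b IH (LK LD1_c2 LD2_c10 LD3_c32) (LK LD1_c4 LD2_c26 LD3_c43) Lrfl Lrfl
theorem f444907 : Led Lsl_ct (LP (LK LD1_c2 LD2_c10 LD3_c25)) = (LP (LK LD1_c4 LD2_c26 LD3_c20)) :=
  Lre_c IH (LK LD1_c2 LD2_c10 LD3_c25) (LK LD1_c4 LD2_c26 LD3_c20) Lrfl Lrfl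
theorem f39930 : Led Lsl_bt (LP (LK LD1_c2 LD2_c10 LD3_c25)) = (LP (LK LD1_c1 LD2_c2 LD3_c18)) :=
  Lre_b IH (LK LD1_c2 LD2_c10 LD3_c25) (LK LD1_c1 LD2_c2 LD3_c18) Lrfl Lrfl
theorem f622240 : Led Lsl_gt (LP (LK LD1_c8 LD2_c1 LD3_c20)) = (LP (LK LD1_c12 LD2_c22 LD3_c59)) :=
  Lgr Lrot164 (Lpe (K37.f30625 IH) (Lpe (K1.f36817 IH) (Lpr_gf (K37.f444897 IH) (Lpe (K37.f443772 IH) (Lpe (K8.f69509 IH) (Lpe (f39930 IH) (Lpr_ct (f444907 IH) (Lpe (K50.f438092 IH) (Lpe (K50.f39969 IH) (Lpr_bt (K50.f622235 IH) (Lpn (LP (LK LD1_c12 LD2_c22 LD3_c59)))))))))))))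
theorem f743298 : Led Lsl_gf (LP (LK LD1_c12 LD2_c23 LD3_c1)) = (LP (LK LD1_c7 LD2_c50 LD3_c8)) :=
  Lgr Lrot129 (Lpr_cf (f568017 IH) (Lpr_bt (f601714 IH) (Lpqs (f743279 IH) (Lpe (f696720 IH) (Lpe (f444906 IH) (Lpr_ct (K37.f443772 IH) (Lpe (K37.f444897 IH) (Lpr_cf (K1.f36817 IH) (Lpr_bt (K37.f30625 IH) (Lpr_gt (f622240 IH) (Lpe (K50.f704962 IH) (Lpn (LP (LK LD1_c7 LD2_c50 LD3_c8))))))))))))))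
theorem f568228 : Led Lsl_cf (LP (LK LD1_c11 LD2_c28 LD3_c2)) = (LP (LK LD1_c13 LD2_c57 LD3_c49)) :=
  Lgr Lrot11 (Lpr_ct (K64.f568224 IH) (Lpn (LP (LK LD1_c13 LD2_c57 LD3_c49))))
theorem f568230 : Led Lsl_at (LP (LK LD1_c12 LD2_c23 LD3_c1)) = (LP (LK LD1_c13 LD2_c57 LD3_c49)) :=
  Lgr Lrot107 (Lpr_cf (f568017 IH) (Lpr_af (f449834 IH) (Lpr_cf (f568228 IH) (Lpn (LP (LK LD1_c13 LD2_c57 LD3_c49))))))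
theorem f568232 : Led Lsl_af (LP (LK LD1_c12 LD2_c23 LD3_c1)) = (LP (LK LD1_c13 LD2_c57 LD3_c49)) :=
  Lgr Lrot0 (Lpr_at (f568230 IH) (Lpn (LP (LK LD1_c13 LD2_c57 LD3_c49))))
theorem f816080 : Led Lsl_ff (LP (LK LD1_c13 LD2_c57 LD3_c49)) = v23289 :=
  Lgr Lrot52 (Lpe (f568232 IH) (Lpr_gf (f743298 IH) (Lpr_gf (f816079 IH) (Lpn v23289))))
theorem f816081 : Led Lsl_ct (LP (LK LD1_c20 LD2_c25 LD3_c43)) = v23289 :=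
  Lgr Lrot40 (Lpe (K36.f421081 IH) (Lpr_cf (f568228 IH) (Lpr_ff (f816080 IH) (Lpn v23289))))
theorem f538824 : Led Lsl_gt (LP (LK LD1_c6 LD2_c24 LD3_c59)) = (LP (LK LD1_c12 LD2_c22 LD3_c58)) :=
  Lre_g IH (LK LD1_c6 LD2_c24 LD3_c59) (LK LD1_c12 LD2_c22 LD3_c58) Lrfl Lrfl
theorem f607826 : Led Lsl_ct (LP (LK LD1_c12 LD2_c22 LD3_c58)) = (LP (LK LD1_c21 LD2_c29 LD3_c55)) :=
  Lre_c IH (LK LD1_c12 LD2_c22 LD3_c58) (LK LD1_c21 LD2_c29 LD3_c55) Lrfl Lrfl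
theorem f826036 : Led Lsl_gf v23289 = (LP (LK LD1_c21 LD2_c29 LD3_c55)) :=
  Lgr Lrot129 (Lpe (f816081 IH) (Lpr_bt (f542102 IH) (Lpr_gt (f826031 IH) (Lpe (f826024 IH) (Lpr_ct (f502615 IH) (Lpr_gt (K41.f427466 IH) (Lpe (K50.f558577 IH) (Lpr_bt (K40.f538673 IH) (Lpr_gt (f538824 IH) (Lpr_ct (f607826 IH) (Lpn (LP (LK LD1_c21 LD2_c29 LD3_c55)))))))))))))
def v23290 : LQ := Led Lsl_at (LP (LK LD1_c7 LD2_c50 LD3_c8))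
theorem f816084 : Led Lsl_at (LP (LK LD1_c7 LD2_c50 LD3_c8)) = v23290 :=
  Lrfl
theorem f816085 : Led Lsl_af (LP (LK LD1_c7 LD2_c50 LD3_c8)) = v23290 :=
  Lgr Lrot0 (Lpr_at (f816084 IH) (Lpn v23290))
theorem f826037 : Led Lsl_ff v23290 = (LP (LK LD1_c21 LD2_c29 LD3_c55)) :=
  Lgr Lrot52 (Lpe (f816085 IH) (Lpr_gf (f816079 IH) (Lpr_gf (f826036 IH) (Lpn (LP (LK LD1_c21 LD2_c29 LD3_c55))))))
theorem f826039 : Led Lsl_ft v23290 = (LP (LK LD1_c21 LD2_c29 LD3_c55)) :=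
  Lgr Lrot48 (Lpr_ff (f826037 IH) (Lpn (LP (LK LD1_c21 LD2_c29 LD3_c55))))
def v23292 : LQ := Led Lsl_ft (LP (LK LD1_c7 LD2_c50 LD3_c8))
theorem f816090 : Led Lsl_ft (LP (LK LD1_c7 LD2_c50 LD3_c8)) = v23292 :=
  Lrfl
theorem f816092 : Led Lsl_ff (LP (LK LD1_c7 LD2_c50 LD3_c8)) = v23292 :=
  Lgr Lrot3 (Lpr_ft (f816090 IH) (Lpn v23292))
theorem f826040 : Led Lsl_af v23292 = (LP (LK LD1_c21 LD2_c29 LD3_c55)) :=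
  Lgr Lrot45 (Lpe (f816092 IH) (Lpr_at (f816084 IH) (Lpr_ft (f826039 IH) (Lpn (LP (LK LD1_c21 LD2_c29 LD3_c55))))))
theorem f667516 : Led Lsl_bt (LP (LK LD1_c3 LD2_c54 LD3_c16)) = (LP (LK LD1_c7 LD2_c50 LD3_c8)) :=
  Lre_b IH (LK LD1_c3 LD2_c54 LD3_c16) (LK LD1_c7 LD2_c50 LD3_c8) Lrfl Lrfl
theorem f816091 : Led Lsl_bf K64.v7660 = v23292 :=
  Lgr Lrot61 (Lpe (K64.f667515 IH) (Lpr_bt (f667516 IH) (Lpr_ft (f816090 IH) (Lpn v23292))))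
theorem f667512 : Led Lsl_bt (LP (LK LD1_c3 LD2_c54 LD3_c15)) = (LP (LK LD1_c7 LD2_c50 LD3_c4)) :=
  Lre_b IH (LK LD1_c3 LD2_c54 LD3_c15) (LK LD1_c7 LD2_c50 LD3_c4) Lrfl Lrfl
theorem f667513 : Led Lsl_at (LP (LK LD1_c7 LD2_c50 LD3_c4)) = (LP (LK LD1_c14 LD2_c46 LD3_c40)) :=
  Lre_a IH (LK LD1_c7 LD2_c50 LD3_c4) (LK LD1_c14 LD2_c46 LD3_c40) Lrfl Lrfl
theorem f826041 : Led Lsl_bt (LP (LK LD1_c14 LD2_c46 LD3_c40)) = (LP (LK LD1_c21 LD2_c29 LD3_c55)) :=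
  Lgr Lrot62 (Lpe (f667513 IH) (Lpe (f667512 IH) (Lpr_af (K64.f667510 IH) (Lpr_bf (f816091 IH) (Lpr_af (f826040 IH) (Lpn (LP (LK LD1_c21 LD2_c29 LD3_c55))))))))
theorem f826042 : Led Lsl_bt (LP (LK LD1_c14 LD2_c46 LD3_c40)) = (LP (LK LD1_c21 LD2_c29 LD3_c55)) :=
  Leop (Lpe (f826041 IH) (Lpn (LP (LK LD1_c14 LD2_c46 LD3_c40))))
theorem seed_1884 : LEOK LG_b (LK LD1_c14 LD2_c46 LD3_c40) :=
  Leoe_b (LK LD1_c14 LD2_c46 LD3_c40) (f826042 IH)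
theorem f826038 : Led Lsl_at v23292 = (LP (LK LD1_c21 LD2_c29 LD3_c55)) :=
  Lgr Lrot66 (Lpe (f816090 IH) (Lpr_af (f816085 IH) (Lpr_ff (f826037 IH) (Lpn (LP (LK LD1_c21 LD2_c29 LD3_c55))))))
theorem f826046 : Led Lsl_gt (LP (LK LD1_c12 LD2_c23 LD3_c1)) = (LP (LK LD1_c21 LD2_c29 LD3_c55)) :=
  Lgr Lrot46 (Lpr_gf (f743298 IH) (Lpr_ft (f816090 IH) (Lpr_at (f826038 IH) (Lpn (LP (LK LD1_c21 LD2_c29 LD3_c55))))))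
theorem f826047 : Led Lsl_gt (LP (LK LD1_c12 LD2_c23 LD3_c1)) = (LP (LK LD1_c21 LD2_c29 LD3_c55)) :=
  Leop (Lpe (f826046 IH) (Lpn (LP (LK LD1_c12 LD2_c23 LD3_c1))))
theorem seed_1885 : LEOK LG_g (LK LD1_c12 LD2_c23 LD3_c1) :=
  Leoe_g (LK LD1_c12 LD2_c23 LD3_c1) (f826047 IH)
theorem f704978 : Led Lsl_dt (LP (LK LD1_c7 LD2_c50 LD3_c8)) = (LP (LK LD1_c14 LD2_c46 LD3_c49)) :=
  Lre_d IH (LK LD1_c7 LD2_c50 LD3_c8) (LK LD1_c14 LD2_c46 LD3_c49) Lrfl Lrfl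
theorem f480395 : Led Lsl_ct (LP (LK LD1_c14 LD2_c46 LD3_c49)) = (LP (LK LD1_c24 LD2_c32 LD3_c61)) :=
  Lre_c IH (LK LD1_c14 LD2_c46 LD3_c49) (LK LD1_c24 LD2_c32 LD3_c61) Lrfl Lrfl
theorem f704979 : Led Lsl_dt (LP (LK LD1_c24 LD2_c32 LD3_c61)) = (LP (LK LD1_c31 LD2_c34 LD3_c19)) :=
  Lre_d IH (LK LD1_c24 LD2_c32 LD3_c61) (LK LD1_c31 LD2_c34 LD3_c19) Lrfl Lrfl
theorem f538825 : Led Lsl_dt (LP (LK LD1_c21 LD2_c29 LD3_c56)) = (LP (LK LD1_c12 LD2_c22 LD3_c58)) :=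
  Lre_d IH (LK LD1_c21 LD2_c29 LD3_c56) (LK LD1_c12 LD2_c22 LD3_c58) Lrfl Lrfl
theorem f617957 : Led Lsl_ct (LP (LK LD1_c30 LD2_c3 LD3_c7)) = (LP (LK LD1_c21 LD2_c29 LD3_c56)) :=
  Lre_c IH (LK LD1_c30 LD2_c3 LD3_c7) (LK LD1_c21 LD2_c29 LD3_c56) Lrfl Lrfl
theorem f793501 : Led Lsl_dt (LP (LK LD1_c32 LD2_c49 LD3_c35)) = (LP (LK LD1_c30 LD2_c3 LD3_c7)) :=
  Lre_d IH (LK LD1_c32 LD2_c49 LD3_c35) (LK LD1_c30 LD2_c3 LD3_c7) Lrfl Lrfl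
theorem f826048 : Led Lsl_ct (LP (LK LD1_c31 LD2_c34 LD3_c19)) = (LP (LK LD1_c32 LD2_c49 LD3_c35)) :=
  Lgr Lrot41 (Lpe (f704979 IH) (Lpe (f480395 IH) (Lpe (f704978 IH) (Lpr_ft (f816090 IH) (Lpr_at (f826038 IH) (Lpe (f607826 IH) (Lpe (f538825 IH) (Lpe (f617957 IH) (Lpe (f793501 IH) (Lpn (LP (LK LD1_c32 LD2_c49 LD3_c35))))))))))))
theorem f826049 : Led Lsl_ct (LP (LK LD1_c31 LD2_c34 LD3_c19)) = (LP (LK LD1_c32 LD2_c49 LD3_c35)) :=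
  Leop (Lpe (f826048 IH) (Lpn (LP (LK LD1_c31 LD2_c34 LD3_c19))))
theorem seed_1886 : LEOK LG_c (LK LD1_c31 LD2_c34 LD3_c19) :=
  Leoe_c (LK LD1_c31 LD2_c34 LD3_c19) (f826049 IH)
def v5142 : LQ := Led Lsl_dt (LP (LK LD1_c2 LD2_c59 LD3_c27))
def v24995 : LQ := Led Lsl_gt v5142
theorem f826516 : Led Lsl_gt v5142 = v24995 :=
  Lrfl
def v14320 : LQ := Led Lsl_dt (LP (LK LD1_c5 LD2_c6 LD3_c27))
theorem f721904 : Led Lsl_dt (LP (LK LD1_c5 LD2_c6 LD3_c27)) = v14320 :=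
  Lrfl
theorem f721906 : Led Lsl_df (LP (LK LD1_c5 LD2_c6 LD3_c27)) = v14320 :=
  Lgr Lrot38 (Lpr_dt (f721904 IH) (Lpn v14320))
theorem f198723 : Led Lsl_bt (LP (LK LD1_c5 LD2_c6 LD3_c27)) = (LP (LK LD1_c2 LD2_c30 LD3_c30)) :=
  Lre_b IH (LK LD1_c5 LD2_c6 LD3_c27) (LK LD1_c2 LD2_c30 LD3_c30) Lrfl Lrfl
theorem f721907 : Led Lsl_bt (LP (LK LD1_c5 LD2_c6 LD3_c28)) = v14320 :=
  Lgr Lrot95 (Lpe (K14.f166134 IH) (Lpe (f198723 IH) (Lpr_df (f721906 IH) (Lpn v14320))))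
theorem f192676 : Led Lsl_dt (LP (LK LD1_c8 LD2_c3 LD3_c23)) = (LP (LK LD1_c4 LD2_c1 LD3_c21)) :=
  Lre_d IH (LK LD1_c8 LD2_c3 LD3_c23) (LK LD1_c4 LD2_c1 LD3_c21) Lrfl Lrfl
theorem f180191 : Led Lsl_dt (LP (LK LD1_c4 LD2_c20 LD3_c4)) = (LP (LK LD1_c8 LD2_c38 LD3_c7)) :=
  Lre_d IH (LK LD1_c4 LD2_c20 LD3_c4) (LK LD1_c8 LD2_c38 LD3_c7) Lrfl Lrfl
theorem f569480 : Led Lsl_gf (LP (LK LD1_c8 LD2_c3 LD3_c23)) = (LP (LK LD1_c8 LD2_c38 LD3_c7)) :=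
  Lgr Lrot143 (Lpr_dt (f192676 IH) (Lpe (K36.f192665 IH) (Lpe (K35.f175362 IH) (Lpe (K41.f538272 IH) (Lpe (K42.f132776 IH) (Lpr_gf (K42.f569476 IH) (Lpe (K39.f176003 IH) (Lpr_gt (K39.f551751 IH) (Lpr_dt (f180191 IH) (Lpn (LP (LK LD1_c8 LD2_c38 LD3_c7))))))))))))
theorem f201682 : Led Lsl_bt (LP (LK LD1_c4 LD2_c20 LD3_c5)) = (LP (LK LD1_c8 LD2_c38 LD3_c7)) :=
  Lre_b IH (LK LD1_c4 LD2_c20 LD3_c5) (LK LD1_c8 LD2_c38 LD3_c7) Lrfl Lrfl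
theorem f191125 : Led Lsl_bt (LP (LK LD1_c10 LD2_c8 LD3_c13)) = (LP (LK LD1_c5 LD2_c8 LD3_c55)) :=
  Lre_b IH (LK LD1_c10 LD2_c8 LD3_c13) (LK LD1_c5 LD2_c8 LD3_c55) Lrfl Lrfl
theorem f256841 : Led Lsl_bt (LP (LK LD1_c6 LD2_c4 LD3_c38)) = (LP (LK LD1_c11 LD2_c52 LD3_c48)) :=
  Lre_b IH (LK LD1_c6 LD2_c4 LD3_c38) (LK LD1_c11 LD2_c52 LD3_c48) Lrfl Lrfl
theorem f256842 : Led Lsl_ct (LP (LK LD1_c11 LD2_c52 LD3_c48)) = (LP (LK LD1_c10 LD2_c8 LD3_c13)) :=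
  Lgr Lrot83 (Lpe (f256841 IH) (Lpr_cf (K15.f256827 IH) (Lpe (K13.f191111 IH) (Lpe (K13.f191121 IH) (Lpe (f191125 IH) (Lpn (LP (LK LD1_c10 LD2_c8 LD3_c13))))))))
theorem f256858 : Led Lsl_bt (LP (LK LD1_c11 LD2_c52 LD3_c48)) = (LP (LK LD1_c6 LD2_c4 LD3_c38)) :=
  Lre_b IH (LK LD1_c11 LD2_c52 LD3_c48) (LK LD1_c6 LD2_c4 LD3_c38) Lrfl Lrfl
theorem f256892 : Led Lsl_bt (LP (LK LD1_c10 LD2_c37 LD3_c16)) = (LP (LK LD1_c19 LD2_c14 LD3_c20)) :=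
  Lre_b IH (LK LD1_c10 LD2_c37 LD3_c16) (LK LD1_c19 LD2_c14 LD3_c20) Lrfl Lrfl
theorem f256893 : Led Lsl_df (LP (LK LD1_c11 LD2_c52 LD3_c48)) = (LP (LK LD1_c19 LD2_c14 LD3_c20)) :=
  Lgr Lrot12 (Lpr_bt (f256858 IH) (Lpr_dt (K16.f256889 IH) (Lpr_bt (f256892 IH) (Lpn (LP (LK LD1_c19 LD2_c14 LD3_c20))))))
theorem f311122 : Led Lsl_et (LP (LK LD1_c19 LD2_c14 LD3_c3)) = (LP (LK LD1_c10 LD2_c37 LD3_c15)) :=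
  Lre_e IH (LK LD1_c19 LD2_c14 LD3_c3) (LK LD1_c10 LD2_c37 LD3_c15) Lrfl Lrfl
theorem f182886 : Led Lsl_ft (LP (LK LD1_c28 LD2_c40 LD3_c21)) = (LP (LK LD1_c19 LD2_c14 LD3_c3)) :=
  Lre_f IH (LK LD1_c28 LD2_c40 LD3_c21) (LK LD1_c19 LD2_c14 LD3_c3) Lrfl Lrfl
theorem f555324 : Led Lsl_et (LP (LK LD1_c20 LD2_c57 LD3_c14)) = (LP (LK LD1_c28 LD2_c40 LD3_c21)) :=
  Lgr Lrot69 (Lpe (K17.f283416 IH) (Lpe (K17.f194769 IH) (Lpr_ff (K39.f555314 IH) (Lpe (f311122 IH) (Lpe (f182886 IH) (Lpn (LP (LK LD1_c28 LD2_c40 LD3_c21))))))))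
theorem f368266 : Led Lsl_bt (LP (LK LD1_c19 LD2_c11 LD3_c12)) = (LP (LK LD1_c28 LD2_c36 LD3_c61)) :=
  Lre_b IH (LK LD1_c19 LD2_c11 LD3_c12) (LK LD1_c28 LD2_c36 LD3_c61) Lrfl Lrfl
theorem f368295 : Led Lsl_bt (LP (LK LD1_c29 LD2_c14 LD3_c22)) = (LP (LK LD1_c19 LD2_c59 LD3_c26)) :=
  Lre_b IH (LK LD1_c29 LD2_c14 LD3_c22) (LK LD1_c19 LD2_c59 LD3_c26) Lrfl Lrfl
theorem f368327 : Led Lsl_ft (LP (LK LD1_c28 LD2_c36 LD3_c61)) = (LP (LK LD1_c29 LD2_c14 LD3_c22)) :=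
  Lgr Lrot75 (Lpe (f368266 IH) (Lpr_ff (K27.f368314 IH) (Lpe (f368295 IH) (Lpn (LP (LK LD1_c29 LD2_c14 LD3_c22))))))
theorem f376689 : Led Lsl_ff (LP (LK LD1_c28 LD2_c36 LD3_c61)) = (LP (LK LD1_c29 LD2_c14 LD3_c22)) :=
  Lgr Lrot3 (Lpr_ft (f368327 IH) (Lpn (LP (LK LD1_c29 LD2_c14 LD3_c22))))
theorem f283735 : Led Lsl_dt (LP (LK LD1_c28 LD2_c36 LD3_c61)) = (LP (LK LD1_c19 LD2_c11 LD3_c11)) :=
  Lre_d IH (LK LD1_c28 LD2_c36 LD3_c61) (LK LD1_c19 LD2_c11 LD3_c11) Lrfl Lrfl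
theorem f283671 : Led Lsl_ft (LP (LK LD1_c19 LD2_c11 LD3_c11)) = (LP (LK LD1_c28 LD2_c37 LD3_c0)) :=
  Lre_f IH (LK LD1_c19 LD2_c11 LD3_c11) (LK LD1_c28 LD2_c37 LD3_c0) Lrfl Lrfl
theorem f376700 : Led Lsl_dt (LP (LK LD1_c28 LD2_c37 LD3_c0)) = (LP (LK LD1_c29 LD2_c14 LD3_c22)) :=
  Lgr Lrot60 (Lpe (f283671 IH) (Lpe (f283735 IH) (Lpr_ff (f376689 IH) (Lpn (LP (LK LD1_c29 LD2_c14 LD3_c22))))))
theorem f283662 : Led Lsl_dt (LP (LK LD1_c31 LD2_c52 LD3_c16)) = (LP (LK LD1_c25 LD2_c21 LD3_c34)) :=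
  Lre_d IH (LK LD1_c31 LD2_c52 LD3_c16) (LK LD1_c25 LD2_c21 LD3_c34) Lrfl Lrfl
theorem f283663 : Led Lsl_et (LP (LK LD1_c32 LD2_c58 LD3_c23)) = (LP (LK LD1_c31 LD2_c52 LD3_c16)) :=
  Lre_e IH (LK LD1_c32 LD2_c58 LD3_c23) (LK LD1_c31 LD2_c52 LD3_c16) Lrfl Lrfl
theorem f376688 : Led Lsl_et (LP (LK LD1_c29 LD2_c14 LD3_c22)) = (LP (LK LD1_c32 LD2_c43 LD3_c33)) :=
  Lre_e IH (LK LD1_c29 LD2_c14 LD3_c22) (LK LD1_c32 LD2_c43 LD3_c33) Lrfl Lrfl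
theorem f376703 : Led Lsl_df (LP (LK LD1_c32 LD2_c58 LD3_c23)) = (LP (LK LD1_c32 LD2_c43 LD3_c33)) :=
  Lgr Lrot70 (Lpr_et (f283663 IH) (Lpr_dt (f283662 IH) (Lpe (K17.f283657 IH) (Lpr_dt (f376700 IH) (Lpr_et (f376688 IH) (Lpn (LP (LK LD1_c32 LD2_c43 LD3_c33))))))))
theorem f283551 : Led Lsl_bt (LP (LK LD1_c32 LD2_c58 LD3_c23)) = (LP (LK LD1_c31 LD2_c52 LD3_c28)) :=
  Lre_b IH (LK LD1_c32 LD2_c58 LD3_c23) (LK LD1_c31 LD2_c52 LD3_c28) Lrfl Lrfl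
theorem f376707 : Led Lsl_bt (LP (LK LD1_c29 LD2_c14 LD3_c23)) = (LP (LK LD1_c32 LD2_c43 LD3_c33)) :=
  Lre_b IH (LK LD1_c29 LD2_c14 LD3_c23) (LK LD1_c32 LD2_c43 LD3_c33) Lrfl Lrfl
theorem f376708 : Led Lsl_dt (LP (LK LD1_c31 LD2_c52 LD3_c28)) = (LP (LK LD1_c29 LD2_c14 LD3_c23)) :=
  Lgr Lrot79 (Lpe (f283551 IH) (Lpr_df (f376703 IH) (Lpe (f376707 IH) (Lpn (LP (LK LD1_c29 LD2_c14 LD3_c23))))))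
theorem f283553 : Led Lsl_ft (LP (LK LD1_c32 LD2_c58 LD3_c24)) = (LP (LK LD1_c31 LD2_c52 LD3_c28)) :=
  Lre_f IH (LK LD1_c32 LD2_c58 LD3_c24) (LK LD1_c31 LD2_c52 LD3_c28) Lrfl Lrfl
theorem f376682 : Led Lsl_ft (LP (LK LD1_c29 LD2_c14 LD3_c23)) = (LP (LK LD1_c32 LD2_c43 LD3_c36)) :=
  Lre_f IH (LK LD1_c29 LD2_c14 LD3_c23) (LK LD1_c32 LD2_c43 LD3_c36) Lrfl Lrfl
theorem f376719 : Led Lsl_df (LP (LK LD1_c32 LD2_c58 LD3_c24)) = (LP (LK LD1_c32 LD2_c43 LD3_c36)) :=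
  Lgr Lrot78 (Lpr_ft (f283553 IH) (Lpr_dt (f376708 IH) (Lpr_ft (f376682 IH) (Lpn (LP (LK LD1_c32 LD2_c43 LD3_c36))))))
theorem f283589 : Led Lsl_et (LP (LK LD1_c32 LD2_c58 LD3_c24)) = (LP (LK LD1_c31 LD2_c52 LD3_c24)) :=
  Lre_e IH (LK LD1_c32 LD2_c58 LD3_c24) (LK LD1_c31 LD2_c52 LD3_c24) Lrfl Lrfl
theorem f283411 : Led Lsl_dt (LP (LK LD1_c31 LD2_c52 LD3_c24)) = (LP (LK LD1_c25 LD2_c21 LD3_c40)) :=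
  Lre_d IH (LK LD1_c31 LD2_c52 LD3_c24) (LK LD1_c25 LD2_c21 LD3_c40) Lrfl Lrfl
theorem f368270 : Led Lsl_et (LP (LK LD1_c19 LD2_c11 LD3_c12)) = (LP (LK LD1_c28 LD2_c37 LD3_c2)) :=
  Lre_e IH (LK LD1_c19 LD2_c11 LD3_c12) (LK LD1_c28 LD2_c37 LD3_c2) Lrfl Lrfl
theorem f368329 : Led Lsl_ft (LP (LK LD1_c28 LD2_c37 LD3_c2)) = (LP (LK LD1_c32 LD2_c36 LD3_c40)) :=
  Lre_f IH (LK LD1_c28 LD2_c37 LD3_c2) (LK LD1_c32 LD2_c36 LD3_c40) Lrfl Lrfl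
theorem f368299 : Led Lsl_et (LP (LK LD1_c29 LD2_c14 LD3_c23)) = (LP (LK LD1_c19 LD2_c59 LD3_c26)) :=
  Lre_e IH (LK LD1_c29 LD2_c14 LD3_c23) (LK LD1_c19 LD2_c59 LD3_c26) Lrfl Lrfl
theorem f368330 : Led Lsl_ft (LP (LK LD1_c32 LD2_c43 LD3_c36)) = (LP (LK LD1_c29 LD2_c14 LD3_c23)) :=
  Lre_f IH (LK LD1_c32 LD2_c43 LD3_c36) (LK LD1_c29 LD2_c14 LD3_c23) Lrfl Lrfl
theorem f368331 : Led Lsl_et (LP (LK LD1_c32 LD2_c36 LD3_c40)) = (LP (LK LD1_c32 LD2_c43 LD3_c36)) :=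
  Lgr Lrot69 (Lpe (f368329 IH) (Lpe (f368270 IH) (Lpr_ff (K27.f368314 IH) (Lpe (f368299 IH) (Lpe (f368330 IH) (Lpn (LP (LK LD1_c32 LD2_c43 LD3_c36))))))))
theorem f376677 : Led Lsl_dt (LP (LK LD1_c28 LD2_c37 LD3_c11)) = (LP (LK LD1_c32 LD2_c36 LD3_c40)) :=
  Lre_d IH (LK LD1_c28 LD2_c37 LD3_c11) (LK LD1_c32 LD2_c36 LD3_c40) Lrfl Lrfl
theorem f376727 : Led Lsl_et (LP (LK LD1_c25 LD2_c21 LD3_c40)) = (LP (LK LD1_c28 LD2_c37 LD3_c11)) :=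
  Lgr Lrot71 (Lpe (f283411 IH) (Lpe (f283589 IH) (Lpr_df (f376719 IH) (Lpe (f368331 IH) (Lpe (f376677 IH) (Lpn (LP (LK LD1_c28 LD2_c37 LD3_c11))))))))
theorem f376729 : Led Lsl_ef (LP (LK LD1_c25 LD2_c21 LD3_c40)) = (LP (LK LD1_c28 LD2_c37 LD3_c11)) :=
  Lgr Lrot88 (Lpr_et (f376727 IH) (Lpn (LP (LK LD1_c28 LD2_c37 LD3_c11))))
theorem f555436 : Led Lsl_cf (LP (LK LD1_c28 LD2_c37 LD3_c11)) = (LP (LK LD1_c28 LD2_c40 LD3_c21)) :=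
  Lgr Lrot39 (Lpe (f376729 IH) (Lpe (K17.f283396 IH) (Lpr_et (f555324 IH) (Lpn (LP (LK LD1_c28 LD2_c40 LD3_c21))))))
theorem f376731 : Led Lsl_ft (LP (LK LD1_c28 LD2_c37 LD3_c11)) = (LP (LK LD1_c19 LD2_c11 LD3_c18)) :=
  Lre_f IH (LK LD1_c28 LD2_c37 LD3_c11) (LK LD1_c19 LD2_c11 LD3_c18) Lrfl Lrfl
theorem f182905 : Led Lsl_ft (LP (LK LD1_c19 LD2_c14 LD3_c3)) = (LP (LK LD1_c28 LD2_c40 LD3_c21)) :=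
  Lre_f IH (LK LD1_c19 LD2_c14 LD3_c3) (LK LD1_c28 LD2_c40 LD3_c21) Lrfl Lrfl
theorem f555445 : Led Lsl_ct (LP (LK LD1_c19 LD2_c11 LD3_c18)) = (LP (LK LD1_c19 LD2_c14 LD3_c3)) :=
  Lgr Lrot40 (Lpe (f376731 IH) (Lpr_cf (f555436 IH) (Lpe (f182905 IH) (Lpn (LP (LK LD1_c19 LD2_c14 LD3_c3))))))
theorem f555449 : Led Lsl_cf (LP (LK LD1_c19 LD2_c11 LD3_c18)) = (LP (LK LD1_c19 LD2_c14 LD3_c3)) :=
  Lgr Lrot11 (Lpr_ct (f555445 IH) (Lpn (LP (LK LD1_c19 LD2_c14 LD3_c3))))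
theorem f182874 : Led Lsl_at (LP (LK LD1_c10 LD2_c37 LD3_c6)) = (LP (LK LD1_c19 LD2_c14 LD3_c3)) :=
  Lre_a IH (LK LD1_c10 LD2_c37 LD3_c6) (LK LD1_c19 LD2_c14 LD3_c3) Lrfl Lrfl
theorem f555452 : Led Lsl_at (LP (LK LD1_c19 LD2_c11 LD3_c18)) = (LP (LK LD1_c15 LD2_c29 LD3_c5)) :=
  Lgr Lrot107 (Lpr_cf (f555449 IH) (Lpe (f182874 IH) (Lpr_cf (K39.f182869 IH) (Lpn (LP (LK LD1_c15 LD2_c29 LD3_c5))))))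
theorem f182904 : Led Lsl_ft (LP (LK LD1_c15 LD2_c29 LD3_c5)) = (LP (LK LD1_c25 LD2_c21 LD3_c47)) :=
  Lre_f IH (LK LD1_c15 LD2_c29 LD3_c5) (LK LD1_c25 LD2_c21 LD3_c47) Lrfl Lrfl
theorem f555460 : Led Lsl_af (LP (LK LD1_c28 LD2_c37 LD3_c11)) = (LP (LK LD1_c25 LD2_c21 LD3_c47)) :=
  Lgr Lrot45 (Lpr_ft (f376731 IH) (Lpr_at (f555452 IH) (Lpr_ft (f182904 IH) (Lpn (LP (LK LD1_c25 LD2_c21 LD3_c47))))))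
theorem f283595 : Led Lsl_af (LP (LK LD1_c28 LD2_c40 LD3_c43)) = (LP (LK LD1_c25 LD2_c21 LD3_c40)) :=
  Lgr Lrot0 (Lpr_at (K17.f283587 IH) (Lpn (LP (LK LD1_c25 LD2_c21 LD3_c40))))
theorem f555467 : Led Lsl_et (LP (LK LD1_c28 LD2_c40 LD3_c43)) = (LP (LK LD1_c25 LD2_c21 LD3_c47)) :=
  Lgr Lrot123 (Lpr_af (f283595 IH) (Lpr_ef (f376729 IH) (Lpr_af (f555460 IH) (Lpn (LP (LK LD1_c25 LD2_c21 LD3_c47))))))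
theorem f555475 : Led Lsl_ef (LP (LK LD1_c28 LD2_c40 LD3_c43)) = (LP (LK LD1_c25 LD2_c21 LD3_c47)) :=
  Lgr Lrot88 (Lpr_et (f555467 IH) (Lpn (LP (LK LD1_c25 LD2_c21 LD3_c47))))
theorem f283582 : Led Lsl_ct (LP (LK LD1_c28 LD2_c40 LD3_c43)) = (LP (LK LD1_c19 LD2_c14 LD3_c26)) :=
  Lre_c IH (LK LD1_c28 LD2_c40 LD3_c43) (LK LD1_c19 LD2_c14 LD3_c26) Lrfl Lrfl
theorem f555481 : Led Lsl_et (LP (LK LD1_c19 LD2_c14 LD3_c26)) = (LP (LK LD1_c19 LD2_c14 LD3_c5)) :=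
  Lgr Lrot158 (Lpe (f283582 IH) (Lpr_ef (f555475 IH) (Lpe (K39.f182857 IH) (Lpn (LP (LK LD1_c19 LD2_c14 LD3_c5))))))
theorem f283593 : Led Lsl_dt (LP (LK LD1_c28 LD2_c40 LD3_c34)) = (LP (LK LD1_c19 LD2_c14 LD3_c26)) :=
  Lre_d IH (LK LD1_c28 LD2_c40 LD3_c34) (LK LD1_c19 LD2_c14 LD3_c26) Lrfl Lrfl
theorem f311174 : Led Lsl_et (LP (LK LD1_c32 LD2_c37 LD3_c57)) = (LP (LK LD1_c28 LD2_c40 LD3_c34)) :=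
  Lre_e IH (LK LD1_c32 LD2_c37 LD3_c57) (LK LD1_c28 LD2_c40 LD3_c34) Lrfl Lrfl
theorem f182902 : Led Lsl_dt (LP (LK LD1_c19 LD2_c14 LD3_c5)) = (LP (LK LD1_c28 LD2_c40 LD3_c28)) :=
  Lre_d IH (LK LD1_c19 LD2_c14 LD3_c5) (LK LD1_c28 LD2_c40 LD3_c28) Lrfl Lrfl
theorem f555485 : Led Lsl_et (LP (LK LD1_c28 LD2_c40 LD3_c28)) = (LP (LK LD1_c32 LD2_c37 LD3_c55)) :=
  Lre_e IH (LK LD1_c28 LD2_c40 LD3_c28) (LK LD1_c32 LD2_c37 LD3_c55) Lrfl Lrfl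
theorem f555486 : Led Lsl_df (LP (LK LD1_c32 LD2_c37 LD3_c57)) = (LP (LK LD1_c32 LD2_c37 LD3_c55)) :=
  Lgr Lrot70 (Lpr_et (f311174 IH) (Lpr_dt (f283593 IH) (Lpr_et (f555481 IH) (Lpr_dt (f182902 IH) (Lpr_et (f555485 IH) (Lpn (LP (LK LD1_c32 LD2_c37 LD3_c55))))))))
theorem f283465 : Led Lsl_ft (LP (LK LD1_c32 LD2_c37 LD3_c57)) = (LP (LK LD1_c28 LD2_c40 LD3_c35)) :=
  Lre_f IH (LK LD1_c32 LD2_c37 LD3_c57) (LK LD1_c28 LD2_c40 LD3_c35) Lrfl Lrfl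
theorem f283457 : Led Lsl_et (LP (LK LD1_c19 LD2_c14 LD3_c10)) = (LP (LK LD1_c28 LD2_c40 LD3_c35)) :=
  Lre_e IH (LK LD1_c19 LD2_c14 LD3_c10) (LK LD1_c28 LD2_c40 LD3_c35) Lrfl Lrfl
theorem f283459 : Led Lsl_et (LP (LK LD1_c29 LD2_c45 LD3_c52)) = (LP (LK LD1_c20 LD2_c56 LD3_c59)) :=
  Lre_e IH (LK LD1_c29 LD2_c45 LD3_c52) (LK LD1_c20 LD2_c56 LD3_c59) Lrfl Lrfl
theorem f283460 : Led Lsl_dt (LP (LK LD1_c28 LD2_c40 LD3_c35)) = (LP (LK LD1_c29 LD2_c45 LD3_c52)) :=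
  Lgr Lrot77 (Lpe (f283457 IH) (Lpe (K25.f283455 IH) (Lpr_ef (K22.f283453 IH) (Lpe (K22.f283458 IH) (Lpe (f283459 IH) (Lpn (LP (LK LD1_c29 LD2_c45 LD3_c52))))))))
theorem f555492 : Led Lsl_ft (LP (LK LD1_c29 LD2_c45 LD3_c52)) = (LP (LK LD1_c32 LD2_c37 LD3_c55)) :=
  Lgr Lrot54 (Lpe (f283460 IH) (Lpe (f283465 IH) (Lpr_df (f555486 IH) (Lpn (LP (LK LD1_c32 LD2_c37 LD3_c55))))))
theorem f555495 : Led Lsl_ff (LP (LK LD1_c29 LD2_c45 LD3_c52)) = (LP (LK LD1_c32 LD2_c37 LD3_c55)) :=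
  Lgr Lrot3 (Lpr_ft (f555492 IH) (Lpn (LP (LK LD1_c32 LD2_c37 LD3_c55))))
theorem f182919 : Led Lsl_ft (LP (LK LD1_c19 LD2_c14 LD3_c4)) = (LP (LK LD1_c28 LD2_c40 LD3_c28)) :=
  Lre_f IH (LK LD1_c19 LD2_c14 LD3_c4) (LK LD1_c28 LD2_c40 LD3_c28) Lrfl Lrfl
theorem f555499 : Led Lsl_et (LP (LK LD1_c11 LD2_c53 LD3_c20)) = (LP (LK LD1_c19 LD2_c14 LD3_c4)) :=
  Lgr Lrot69 (Lpe (K22.f334313 IH) (Lpe (f283459 IH) (Lpr_ff (f555495 IH) (Lpe (f555485 IH) (Lpe (f182919 IH) (Lpn (LP (LK LD1_c19 LD2_c14 LD3_c4))))))))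
theorem f311168 : Led Lsl_et (LP (LK LD1_c10 LD2_c37 LD3_c7)) = (LP (LK LD1_c19 LD2_c14 LD3_c9)) :=
  Lre_e IH (LK LD1_c10 LD2_c37 LD3_c7) (LK LD1_c19 LD2_c14 LD3_c9) Lrfl Lrfl
theorem f555503 : Led Lsl_bf (LP (LK LD1_c11 LD2_c53 LD3_c20)) = (LP (LK LD1_c19 LD2_c14 LD3_c9)) :=
  Lgr Lrot96 (Lpr_et (f555499 IH) (Lpr_bt (K25.f311136 IH) (Lpr_et (f311168 IH) (Lpn (LP (LK LD1_c19 LD2_c14 LD3_c9))))))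
theorem f292672 : Led Lsl_ft (LP (LK LD1_c11 LD2_c53 LD3_c20)) = (LP (LK LD1_c20 LD2_c56 LD3_c59)) :=
  Lre_f IH (LK LD1_c11 LD2_c53 LD3_c20) (LK LD1_c20 LD2_c56 LD3_c59) Lrfl Lrfl
theorem f311169 : Led Lsl_ft (LP (LK LD1_c28 LD2_c40 LD3_c34)) = (LP (LK LD1_c19 LD2_c14 LD3_c9)) :=
  Lre_f IH (LK LD1_c28 LD2_c40 LD3_c34) (LK LD1_c19 LD2_c14 LD3_c9) Lrfl Lrfl
theorem f555510 : Led Lsl_bt (LP (LK LD1_c20 LD2_c56 LD3_c59)) = (LP (LK LD1_c28 LD2_c40 LD3_c34)) :=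
  Lgr Lrot35 (Lpe (f292672 IH) (Lpr_bf (f555503 IH) (Lpe (f311169 IH) (Lpn (LP (LK LD1_c28 LD2_c40 LD3_c34))))))
theorem f555514 : Led Lsl_bf (LP (LK LD1_c11 LD2_c53 LD3_c21)) = (LP (LK LD1_c19 LD2_c14 LD3_c26)) :=
  Lgr Lrot93 (Lpr_dt (K22.f283449 IH) (Lpr_bt (f555510 IH) (Lpr_dt (f283593 IH) (Lpn (LP (LK LD1_c19 LD2_c14 LD3_c26))))))
theorem f309065 : Led Lsl_bt (LP (LK LD1_c20 LD2_c55 LD3_c12)) = (LP (LK LD1_c29 LD2_c44 LD3_c3)) :=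
  Lre_b IH (LK LD1_c20 LD2_c55 LD3_c12) (LK LD1_c29 LD2_c44 LD3_c3) Lrfl Lrfl
theorem f283414 : Led Lsl_bt (LP (LK LD1_c29 LD2_c45 LD3_c57)) = (LP (LK LD1_c20 LD2_c57 LD3_c14)) :=
  Lre_b IH (LK LD1_c29 LD2_c45 LD3_c57) (LK LD1_c20 LD2_c57 LD3_c14) Lrfl Lrfl
theorem f555516 : Led Lsl_at (LP (LK LD1_c29 LD2_c44 LD3_c3)) = (LP (LK LD1_c29 LD2_c45 LD3_c57)) :=
  Lgr Lrot67 (Lpe (f309065 IH) (Lpe (K22.f334321 IH) (Lpr_bf (f555514 IH) (Lpr_af (K17.f283597 IH) (Lpe (f283414 IH) (Lpn (LP (LK LD1_c29 LD2_c45 LD3_c57))))))))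
theorem f310636 : Led Lsl_ft (LP (LK LD1_c20 LD2_c55 LD3_c8)) = (LP (LK LD1_c29 LD2_c44 LD3_c3)) :=
  Lre_f IH (LK LD1_c20 LD2_c55 LD3_c8) (LK LD1_c29 LD2_c44 LD3_c3) Lrfl Lrfl
theorem f555520 : Led Lsl_ft (LP (LK LD1_c29 LD2_c45 LD3_c57)) = (LP (LK LD1_c20 LD2_c57 LD3_c7)) :=
  Lre_f IH (LK LD1_c29 LD2_c45 LD3_c57) (LK LD1_c20 LD2_c57 LD3_c7) Lrfl Lrfl
theorem f555521 : Led Lsl_af (LP (LK LD1_c20 LD2_c55 LD3_c8)) = (LP (LK LD1_c20 LD2_c57 LD3_c7)) :=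
  Lgr Lrot45 (Lpr_ft (f310636 IH) (Lpr_at (f555516 IH) (Lpr_ft (f555520 IH) (Lpn (LP (LK LD1_c20 LD2_c57 LD3_c7))))))
theorem f555527 : Led Lsl_et (LP (LK LD1_c11 LD2_c53 LD3_c32)) = (LP (LK LD1_c20 LD2_c57 LD3_c7)) :=
  Lre_e IH (LK LD1_c11 LD2_c53 LD3_c32) (LK LD1_c20 LD2_c57 LD3_c7) Lrfl Lrfl
theorem f555528 : Led Lsl_at (LP (LK LD1_c11 LD2_c52 LD3_c20)) = (LP (LK LD1_c11 LD2_c53 LD3_c32)) :=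
  Lgr Lrot80 (Lpe (K39.f310632 IH) (Lpr_af (f555521 IH) (Lpe (f555527 IH) (Lpn (LP (LK LD1_c11 LD2_c53 LD3_c32))))))
theorem f555530 : Led Lsl_af (LP (LK LD1_c11 LD2_c52 LD3_c20)) = (LP (LK LD1_c11 LD2_c53 LD3_c32)) :=
  Lgr Lrot0 (Lpr_at (f555528 IH) (Lpn (LP (LK LD1_c11 LD2_c53 LD3_c32))))
theorem f283385 : Led Lsl_bt (LP (LK LD1_c6 LD2_c5 LD3_c4)) = (LP (LK LD1_c11 LD2_c53 LD3_c32)) :=
  Lre_b IH (LK LD1_c6 LD2_c5 LD3_c4) (LK LD1_c11 LD2_c53 LD3_c32) Lrfl Lrfl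
theorem f283626 : Led Lsl_at (LP (LK LD1_c5 LD2_c23 LD3_c22)) = (LP (LK LD1_c6 LD2_c5 LD3_c4)) :=
  Lgr Lrot100 (Lpr_af (K17.f283617 IH) (Lpn (LP (LK LD1_c6 LD2_c5 LD3_c4))))
theorem f555540 : Led Lsl_bt (LP (LK LD1_c2 LD2_c58 LD3_c40)) = (LP (LK LD1_c5 LD2_c23 LD3_c22)) :=
  Lgr Lrot62 (Lpe (K17.f283432 IH) (Lpe (K39.f190117 IH) (Lpr_af (f555530 IH) (Lpe (f283385 IH) (Lpe (f283626 IH) (Lpn (LP (LK LD1_c5 LD2_c23 LD3_c22))))))))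
theorem f194968 : Led Lsl_bt (LP (LK LD1_c6 LD2_c5 LD3_c12)) = (LP (LK LD1_c2 LD2_c58 LD3_c46)) :=
  Lre_b IH (LK LD1_c6 LD2_c5 LD3_c12) (LK LD1_c2 LD2_c58 LD3_c46) Lrfl Lrfl
theorem f187477 : Led Lsl_ct (LP (LK LD1_c6 LD2_c5 LD3_c12)) = (LP (LK LD1_c11 LD2_c53 LD3_c53)) :=
  Lre_c IH (LK LD1_c6 LD2_c5 LD3_c12) (LK LD1_c11 LD2_c53 LD3_c53) Lrfl Lrfl
theorem f351553 : Led Lsl_gt (LP (LK LD1_c20 LD2_c57 LD3_c45)) = (LP (LK LD1_c11 LD2_c53 LD3_c53)) :=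
  Lre_g IH (LK LD1_c20 LD2_c57 LD3_c45) (LK LD1_c11 LD2_c53 LD3_c53) Lrfl Lrfl
theorem f256886 : Led Lsl_bt (LP (LK LD1_c19 LD2_c14 LD3_c20)) = (LP (LK LD1_c10 LD2_c37 LD3_c16)) :=
  Lre_b IH (LK LD1_c19 LD2_c14 LD3_c20) (LK LD1_c10 LD2_c37 LD3_c16) Lrfl Lrfl
theorem f555546 : Led Lsl_cf (LP (LK LD1_c20 LD2_c57 LD3_c45)) = (LP (LK LD1_c19 LD2_c14 LD3_c20)) :=
  Lgr Lrot160 (Lpr_gt (f351553 IH) (Lpe (f187477 IH) (Lpr_bt (f194968 IH) (Lpr_gt (K10.f181242 IH) (Lpr_ct (K10.f187488 IH) (Lpr_gt (K10.f177473 IH) (Lpe (K17.f216292 IH) (Lpr_bt (f555540 IH) (Lpr_gt (K16.f190111 IH) (Lpe (f256886 IH) (Lpn (LP (LK LD1_c19 LD2_c14 LD3_c20)))))))))))))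
theorem f195211 : Led Lsl_bt (LP (LK LD1_c2 LD2_c58 LD3_c47)) = (LP (LK LD1_c1 LD2_c25 LD3_c6)) :=
  Lre_b IH (LK LD1_c2 LD2_c58 LD3_c47) (LK LD1_c1 LD2_c25 LD3_c6) Lrfl Lrfl
theorem f555554 : Led Lsl_ct (LP (LK LD1_c6 LD2_c6 LD3_c42)) = (LP (LK LD1_c2 LD2_c59 LD3_c27)) :=
  Lre_c IH (LK LD1_c6 LD2_c6 LD3_c42) (LK LD1_c2 LD2_c59 LD3_c27) Lrfl Lrfl
theorem f555555 : Led Lsl_bt (LP (LK LD1_c6 LD2_c6 LD3_c42)) = (LP (LK LD1_c11 LD2_c56 LD3_c28)) :=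
  Lre_b IH (LK LD1_c6 LD2_c6 LD3_c42) (LK LD1_c11 LD2_c56 LD3_c28) Lrfl Lrfl
theorem f555556 : Led Lsl_gt (LP (LK LD1_c11 LD2_c56 LD3_c28)) = (LP (LK LD1_c19 LD2_c14 LD3_c20)) :=
  Lgr Lrot82 (Lpe (f555555 IH) (Lpr_ct (f555554 IH) (Lpe (K39.f183490 IH) (Lpe (K39.f177420 IH) (Lpr_bt (f195211 IH) (Lpe (K10.f181242 IH) (Lpe (f194968 IH) (Lpr_ct (f187477 IH) (Lpe (f351553 IH) (Lpr_cf (f555546 IH) (Lpn (LP (LK LD1_c19 LD2_c14 LD3_c20)))))))))))))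
theorem f646202 : Led Lsl_dt (LP (LK LD1_c2 LD2_c59 LD3_c27)) = v5142 :=
  Lrfl
theorem f646203 : Led Lsl_df (LP (LK LD1_c2 LD2_c59 LD3_c27)) = v5142 :=
  Lgr Lrot38 (Lpr_dt (f646202 IH) (Lpn v5142))
theorem f721909 : Led Lsl_gf v5142 = v14320 :=
  Lgr Lrot85 (Lpe (f646203 IH) (Lpr_ct (K39.f555176 IH) (Lpr_bt (f555555 IH) (Lpr_gt (f555556 IH) (Lpe (f256893 IH) (Lpr_ct (f256842 IH) (Lpr_bt (f191125 IH) (Lpr_gt (K13.f191114 IH) (Lpr_dt (K11.f191122 IH) (Lpr_ct (K11.f201678 IH) (Lpr_bt (f201682 IH) (Lpe (f569480 IH) (Lpr_dt (f192676 IH) (Lpe (K37.f192668 IH) (Lpr_bt (K35.f175323 IH) (Lpr_gt (K11.f198570 IH) (Lpr_dt (K10.f20711 IH) (Lpe (K11.f198710 IH) (Lpr_bt (f721907 IH) (Lpn v14320))))))))))))))))))))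
def v4591 : LQ := Led Lsl_ct (LP (LK LD1_c2 LD2_c33 LD3_c38))
def v24164 : LQ := Led Lsl_bt v4591
theorem f822739 : Led Lsl_bt v4591 = v24164 :=
  Lrfl
theorem f636291 : Led Lsl_ct (LP (LK LD1_c2 LD2_c33 LD3_c38)) = v4591 :=
  Lrfl
theorem f636295 : Led Lsl_ff (LP (LK LD1_c5 LD2_c6 LD3_c28)) = v4591 :=
  Lgr Lrot23 (Lpr_ct (K11.f198705 IH) (Lpe (K64.f302589 IH) (Lpr_ct (f636291 IH) (Lpn v4591))))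
theorem f636300 : Led Lsl_ft (LP (LK LD1_c5 LD2_c6 LD3_c28)) = v4591 :=
  Lgr Lrot48 (Lpr_ff (f636295 IH) (Lpn v4591))
theorem f166141 : Led Lsl_bt (LP (LK LD1_c2 LD2_c30 LD3_c30)) = (LP (LK LD1_c5 LD2_c6 LD3_c27)) :=
  Lre_b IH (LK LD1_c2 LD2_c30 LD3_c30) (LK LD1_c5 LD2_c6 LD3_c27) Lrfl Lrfl
theorem f721905 : Led Lsl_bf (LP (LK LD1_c5 LD2_c6 LD3_c28)) = v14320 :=
  Lgr Lrot93 (Lpr_dt (K11.f166133 IH) (Lpr_bt (f166141 IH) (Lpr_dt (f721904 IH) (Lpn v14320))))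
theorem f822742 : Led Lsl_ff v14320 = v24164 :=
  Lgr Lrot25 (Lpe (f721905 IH) (Lpr_ft (f636300 IH) (Lpr_bt (f822739 IH) (Lpn v24164))))
theorem f822744 : Led Lsl_ft v14320 = v24164 :=
  Lgr Lrot48 (Lpr_ff (f822742 IH) (Lpn v24164))
theorem f826517 : Led Lsl_at v24164 = v24995 :=
  Lgr Lrot26 (Lpe (f822744 IH) (Lpe (f721909 IH) (Lpr_gt (f826516 IH) (Lpn v24995))))
def v4652 : LQ := Led Lsl_bt (LP (LK LD1_c2 LD2_c40 LD3_c54))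
theorem f638344 : Led Lsl_bt (LP (LK LD1_c2 LD2_c40 LD3_c54)) = v4652 :=
  Lrfl
theorem f302768 : Led Lsl_ff (LP (LK LD1_c2 LD2_c40 LD3_c54)) = (LP (LK LD1_c2 LD2_c30 LD3_c30)) :=
  Lgr Lrot23 (Lpr_ct (K15.f7944 IH) (Lpr_ft (K18.f302764 IH) (Lpr_ct (K11.f166131 IH) (Lpn (LP (LK LD1_c2 LD2_c30 LD3_c30))))))
theorem f638347 : Led Lsl_ff (LP (LK LD1_c5 LD2_c6 LD3_c27)) = v4652 :=
  Lgr Lrot25 (Lpr_bt (f198723 IH) (Lpe (f302768 IH) (Lpr_bt (f638344 IH) (Lpn v4652))))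
theorem f638349 : Led Lsl_ft (LP (LK LD1_c5 LD2_c6 LD3_c27)) = v4652 :=
  Lgr Lrot48 (Lpr_ff (f638347 IH) (Lpn v4652))
theorem f822743 : Led Lsl_dt v4652 = v24164 :=
  Lgr Lrot60 (Lpe (f638349 IH) (Lpr_df (f721906 IH) (Lpr_ff (f822742 IH) (Lpn v24164))))
def v24273 : LQ := Led Lsl_at v4652
theorem f823171 : Led Lsl_at v4652 = v24273 :=
  Lrfl
theorem f823172 : Led Lsl_af v4652 = v24273 :=
  Lgr Lrot0 (Lpr_at (f823171 IH) (Lpn v24273))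
theorem f826519 : Led Lsl_df v24273 = v24995 :=
  Lgr Lrot18 (Lpe (f823172 IH) (Lpr_dt (f822743 IH) (Lpr_at (f826517 IH) (Lpn v24995))))
theorem f826520 : Led Lsl_dt v24273 = v24995 :=
  Lgr Lrot42 (Lpr_df (f826519 IH) (Lpn v24995))
theorem f304282 : Led Lsl_et (LP (LK LD1_c5 LD2_c6 LD3_c27)) = (LP (LK LD1_c10 LD2_c3 LD3_c51)) :=
  Lre_e IH (LK LD1_c5 LD2_c6 LD3_c27) (LK LD1_c10 LD2_c3 LD3_c51) Lrfl Lrfl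
theorem f302928 : Led Lsl_bt (LP (LK LD1_c10 LD2_c3 LD3_c51)) = (LP (LK LD1_c5 LD2_c6 LD3_c26)) :=
  Lre_b IH (LK LD1_c10 LD2_c3 LD3_c51) (LK LD1_c5 LD2_c6 LD3_c26) Lrfl Lrfl
theorem f304269 : Led Lsl_bt (LP (LK LD1_c8 LD2_c56 LD3_c60)) = (LP (LK LD1_c16 LD2_c45 LD3_c22)) :=
  Lre_b IH (LK LD1_c8 LD2_c56 LD3_c60) (LK LD1_c16 LD2_c45 LD3_c22) Lrfl Lrfl
theorem f304272 : Led Lsl_ff (LP (LK LD1_c10 LD2_c3 LD3_c51)) = (LP (LK LD1_c16 LD2_c45 LD3_c22)) :=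
  Lgr Lrot25 (Lpr_bt (f302928 IH) (Lpr_ft (K20.f304265 IH) (Lpr_bt (f304269 IH) (Lpn (LP (LK LD1_c16 LD2_c45 LD3_c22))))))
theorem f304278 : Led Lsl_ft (LP (LK LD1_c10 LD2_c3 LD3_c51)) = (LP (LK LD1_c16 LD2_c45 LD3_c22)) :=
  Lgr Lrot48 (Lpr_ff (f304272 IH) (Lpn (LP (LK LD1_c16 LD2_c45 LD3_c22))))
theorem f304283 : Led Lsl_et (LP (LK LD1_c16 LD2_c45 LD3_c22)) = (LP (LK LD1_c8 LD2_c56 LD3_c58)) :=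
  Lre_e IH (LK LD1_c16 LD2_c45 LD3_c22) (LK LD1_c8 LD2_c56 LD3_c58) Lrfl Lrfl
theorem f245774 : Led Lsl_dt (LP (LK LD1_c5 LD2_c30 LD3_c52)) = (LP (LK LD1_c2 LD2_c41 LD3_c40)) :=
  Lre_d IH (LK LD1_c5 LD2_c30 LD3_c52) (LK LD1_c2 LD2_c41 LD3_c40) Lrfl Lrfl
theorem f353322 : Led Lsl_gf (LP (LK LD1_c5 LD2_c30 LD3_c52)) = (LP (LK LD1_c10 LD2_c53 LD3_c9)) :=
  Lgr Lrot143 (Lpr_dt (f245774 IH) (Lpe (K22.f245771 IH) (Lpe (K13.f178846 IH) (Lpe (K13.f7924 IH) (Lpe (K20.f178856 IH) (Lpe (K23.f276164 IH) (Lpe (K50.f276168 IH) (Lpr_gt (K26.f353320 IH) (Lpr_dt (K22.f320397 IH) (Lpn (LP (LK LD1_c10 LD2_c53 LD3_c9))))))))))))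
theorem f245772 : Led Lsl_dt (LP (LK LD1_c2 LD2_c41 LD3_c40)) = (LP (LK LD1_c5 LD2_c30 LD3_c52)) :=
  Lre_d IH (LK LD1_c2 LD2_c41 LD3_c40) (LK LD1_c5 LD2_c30 LD3_c52) Lrfl Lrfl
theorem f8626 : Led Lsl_gt (LP (LK LD1_c2 LD2_c40 LD3_c3)) = (LP (LK LD1_c4 LD2_c30 LD3_c43)) :=
  Lre_g IH (LK LD1_c2 LD2_c40 LD3_c3) (LK LD1_c4 LD2_c30 LD3_c43) Lrfl Lrfl
theorem f8663 : Led Lsl_et (LP (LK LD1_c1 LD2_c16 LD3_c45)) = (LP (LK LD1_c2 LD2_c40 LD3_c3)) :=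
  Lre_e IH (LK LD1_c1 LD2_c16 LD3_c45) (LK LD1_c2 LD2_c40 LD3_c3) Lrfl Lrfl
theorem f353332 : Led Lsl_et (LP (LK LD1_c2 LD2_c41 LD3_c40)) = (LP (LK LD1_c2 LD2_c40 LD3_c54)) :=
  Lgr Lrot121 (Lpr_dt (f245772 IH) (Lpr_gf (f353322 IH) (Lpe (K22.f320397 IH) (Lpr_et (K22.f9047 IH) (Lpe (f8626 IH) (Lpe (f8663 IH) (Lpr_dt (K0.f9008 IH) (Lpe (K9.f9046 IH) (Lpe (K9.f177494 IH) (Lpe (K9.f179038 IH) (Lpn (LP (LK LD1_c2 LD2_c40 LD3_c54)))))))))))))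
theorem f353341 : Led Lsl_ff (LP (LK LD1_c2 LD2_c41 LD3_c40)) = (LP (LK LD1_c4 LD2_c29 LD3_c22)) :=
  Lgr Lrot72 (Lpr_et (f353332 IH) (Lpr_ft (K18.f302774 IH) (Lpr_et (K53.f198707 IH) (Lpr_ft (K20.f304265 IH) (Lpr_et (K20.f304274 IH) (Lpn (LP (LK LD1_c4 LD2_c29 LD3_c22))))))))
theorem f353349 : Led Lsl_ft (LP (LK LD1_c2 LD2_c41 LD3_c40)) = (LP (LK LD1_c4 LD2_c29 LD3_c22)) :=
  Lgr Lrot48 (Lpr_ff (f353341 IH) (Lpn (LP (LK LD1_c4 LD2_c29 LD3_c22))))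
theorem f245963 : Led Lsl_bt (LP (LK LD1_c5 LD2_c30 LD3_c51)) = (LP (LK LD1_c2 LD2_c41 LD3_c40)) :=
  Lre_b IH (LK LD1_c5 LD2_c30 LD3_c51) (LK LD1_c2 LD2_c41 LD3_c40) Lrfl Lrfl
theorem f304289 : Led Lsl_bt (LP (LK LD1_c4 LD2_c29 LD3_c22)) = (LP (LK LD1_c8 LD2_c56 LD3_c58)) :=
  Lre_b IH (LK LD1_c4 LD2_c29 LD3_c22) (LK LD1_c8 LD2_c56 LD3_c58) Lrfl Lrfl
theorem f353353 : Led Lsl_ff (LP (LK LD1_c5 LD2_c30 LD3_c51)) = (LP (LK LD1_c8 LD2_c56 LD3_c58)) :=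
  Lgr Lrot25 (Lpr_bt (f245963 IH) (Lpr_ft (f353349 IH) (Lpr_bt (f304289 IH) (Lpn (LP (LK LD1_c8 LD2_c56 LD3_c58))))))
theorem f638348 : Led Lsl_et (LP (LK LD1_c5 LD2_c30 LD3_c51)) = v4652 :=
  Lgr Lrot69 (Lpr_ff (f353353 IH) (Lpe (f304283 IH) (Lpe (f304278 IH) (Lpe (f304282 IH) (Lpr_ff (f638347 IH) (Lpn v4652))))))
theorem f353390 : Led Lsl_at (LP (LK LD1_c10 LD2_c53 LD3_c16)) = (LP (LK LD1_c5 LD2_c30 LD3_c51)) :=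
  Lre_a IH (LK LD1_c10 LD2_c53 LD3_c16) (LK LD1_c5 LD2_c30 LD3_c51) Lrfl Lrfl
theorem f823174 : Led Lsl_ef (LP (LK LD1_c10 LD2_c53 LD3_c16)) = v24273 :=
  Lgr Lrot20 (Lpr_at (f353390 IH) (Lpr_et (f638348 IH) (Lpr_at (f823171 IH) (Lpn v24273))))
theorem f194982 : Led Lsl_et (LP (LK LD1_c2 LD2_c37 LD3_c7)) = (LP (LK LD1_c5 LD2_c20 LD3_c21)) :=
  Lre_e IH (LK LD1_c2 LD2_c37 LD3_c7) (LK LD1_c5 LD2_c20 LD3_c21) Lrfl Lrfl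
theorem f168610 : Led Lsl_ct (LP (LK LD1_c4 LD2_c27 LD3_c38)) = (LP (LK LD1_c2 LD2_c37 LD3_c7)) :=
  Lre_c IH (LK LD1_c4 LD2_c27 LD3_c38) (LK LD1_c2 LD2_c37 LD3_c7) Lrfl Lrfl
theorem f194983 : Led Lsl_et (LP (LK LD1_c6 LD2_c4 LD3_c30)) = (LP (LK LD1_c4 LD2_c27 LD3_c38)) :=
  Lgr Lrot158 (Lpr_cf (K10.f194961 IH) (Lpe (f194982 IH) (Lpe (f168610 IH) (Lpn (LP (LK LD1_c4 LD2_c27 LD3_c38))))))
theorem f195007 : Led Lsl_ef (LP (LK LD1_c6 LD2_c4 LD3_c30)) = (LP (LK LD1_c4 LD2_c27 LD3_c38)) :=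
  Lgr Lrot88 (Lpr_et (f194983 IH) (Lpn (LP (LK LD1_c4 LD2_c27 LD3_c38))))
theorem f194978 : Led Lsl_dt (LP (LK LD1_c6 LD2_c4 LD3_c30)) = (LP (LK LD1_c11 LD2_c52 LD3_c33)) :=
  Lre_d IH (LK LD1_c6 LD2_c4 LD3_c30) (LK LD1_c11 LD2_c52 LD3_c33) Lrfl Lrfl
theorem f195039 : Led Lsl_et (LP (LK LD1_c11 LD2_c52 LD3_c33)) = (LP (LK LD1_c20 LD2_c55 LD3_c39)) :=
  Lre_e IH (LK LD1_c11 LD2_c52 LD3_c33) (LK LD1_c20 LD2_c55 LD3_c39) Lrfl Lrfl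
theorem f195040 : Led Lsl_dt (LP (LK LD1_c8 LD2_c53 LD3_c10)) = (LP (LK LD1_c4 LD2_c27 LD3_c38)) :=
  Lre_d IH (LK LD1_c8 LD2_c53 LD3_c10) (LK LD1_c4 LD2_c27 LD3_c38) Lrfl Lrfl
theorem f195041 : Led Lsl_et (LP (LK LD1_c16 LD2_c36 LD3_c59)) = (LP (LK LD1_c8 LD2_c53 LD3_c10)) :=
  Lre_e IH (LK LD1_c16 LD2_c36 LD3_c59) (LK LD1_c8 LD2_c53 LD3_c10) Lrfl Lrfl
theorem f195042 : Led Lsl_dt (LP (LK LD1_c20 LD2_c55 LD3_c39)) = (LP (LK LD1_c16 LD2_c36 LD3_c59)) :=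
  Lgr Lrot77 (Lpe (f195039 IH) (Lpe (f194978 IH) (Lpr_ef (f195007 IH) (Lpe (f195040 IH) (Lpe (f195041 IH) (Lpn (LP (LK LD1_c16 LD2_c36 LD3_c59))))))))
theorem f195049 : Led Lsl_bt (LP (LK LD1_c11 LD2_c52 LD3_c37)) = (LP (LK LD1_c20 LD2_c55 LD3_c39)) :=
  Lre_b IH (LK LD1_c11 LD2_c52 LD3_c37) (LK LD1_c20 LD2_c55 LD3_c39) Lrfl Lrfl
theorem f195050 : Led Lsl_bt (LP (LK LD1_c16 LD2_c36 LD3_c59)) = (LP (LK LD1_c8 LD2_c53 LD3_c14)) :=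
  Lre_b IH (LK LD1_c16 LD2_c36 LD3_c59) (LK LD1_c8 LD2_c53 LD3_c14) Lrfl Lrfl
theorem f195051 : Led Lsl_df (LP (LK LD1_c11 LD2_c52 LD3_c37)) = (LP (LK LD1_c8 LD2_c53 LD3_c14)) :=
  Lgr Lrot12 (Lpr_bt (f195049 IH) (Lpr_dt (f195042 IH) (Lpr_bt (f195050 IH) (Lpn (LP (LK LD1_c8 LD2_c53 LD3_c14))))))
theorem f195071 : Led Lsl_ft (LP (LK LD1_c11 LD2_c52 LD3_c37)) = (LP (LK LD1_c20 LD2_c55 LD3_c46)) :=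
  Lre_f IH (LK LD1_c11 LD2_c52 LD3_c37) (LK LD1_c20 LD2_c55 LD3_c46) Lrfl Lrfl
theorem f195072 : Led Lsl_ft (LP (LK LD1_c16 LD2_c37 LD3_c5)) = (LP (LK LD1_c8 LD2_c53 LD3_c14)) :=
  Lre_f IH (LK LD1_c16 LD2_c37 LD3_c5) (LK LD1_c8 LD2_c53 LD3_c14) Lrfl Lrfl
theorem f195073 : Led Lsl_dt (LP (LK LD1_c20 LD2_c55 LD3_c46)) = (LP (LK LD1_c16 LD2_c37 LD3_c5)) :=
  Lgr Lrot60 (Lpe (f195071 IH) (Lpr_df (f195051 IH) (Lpe (f195072 IH) (Lpn (LP (LK LD1_c16 LD2_c37 LD3_c5))))))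
theorem f195093 : Led Lsl_df (LP (LK LD1_c20 LD2_c55 LD3_c46)) = (LP (LK LD1_c16 LD2_c37 LD3_c5)) :=
  Lgr Lrot38 (Lpr_dt (f195073 IH) (Lpn (LP (LK LD1_c16 LD2_c37 LD3_c5))))
theorem f195116 : Led Lsl_at (LP (LK LD1_c20 LD2_c55 LD3_c46)) = (LP (LK LD1_c11 LD2_c54 LD3_c21)) :=
  Lre_a IH (LK LD1_c20 LD2_c55 LD3_c46) (LK LD1_c11 LD2_c54 LD3_c21) Lrfl Lrfl
theorem f195117 : Led Lsl_at (LP (LK LD1_c8 LD2_c55 LD3_c31)) = (LP (LK LD1_c16 LD2_c37 LD3_c5)) :=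
  Lre_a IH (LK LD1_c8 LD2_c55 LD3_c31) (LK LD1_c16 LD2_c37 LD3_c5) Lrfl Lrfl
theorem f195118 : Led Lsl_dt (LP (LK LD1_c11 LD2_c54 LD3_c21)) = (LP (LK LD1_c8 LD2_c55 LD3_c31)) :=
  Lgr Lrot44 (Lpe (f195116 IH) (Lpr_df (f195093 IH) (Lpe (f195117 IH) (Lpn (LP (LK LD1_c8 LD2_c55 LD3_c31))))))
theorem f195140 : Led Lsl_ft (LP (LK LD1_c6 LD2_c5 LD3_c23)) = (LP (LK LD1_c11 LD2_c54 LD3_c21)) :=
  Lre_f IH (LK LD1_c6 LD2_c5 LD3_c23) (LK LD1_c11 LD2_c54 LD3_c21) Lrfl Lrfl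
theorem f195141 : Led Lsl_ft (LP (LK LD1_c8 LD2_c55 LD3_c31)) = (LP (LK LD1_c4 LD2_c28 LD3_c38)) :=
  Lre_f IH (LK LD1_c8 LD2_c55 LD3_c31) (LK LD1_c4 LD2_c28 LD3_c38) Lrfl Lrfl
theorem f195142 : Led Lsl_df (LP (LK LD1_c6 LD2_c5 LD3_c23)) = (LP (LK LD1_c4 LD2_c28 LD3_c38)) :=
  Lgr Lrot78 (Lpr_ft (f195140 IH) (Lpr_dt (f195118 IH) (Lpr_ft (f195141 IH) (Lpn (LP (LK LD1_c4 LD2_c28 LD3_c38))))))
theorem f195154 : Led Lsl_bt (LP (LK LD1_c6 LD2_c5 LD3_c23)) = (LP (LK LD1_c11 LD2_c54 LD3_c10)) :=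
  Lre_b IH (LK LD1_c6 LD2_c5 LD3_c23) (LK LD1_c11 LD2_c54 LD3_c10) Lrfl Lrfl
theorem f195155 : Led Lsl_bt (LP (LK LD1_c8 LD2_c55 LD3_c20)) = (LP (LK LD1_c4 LD2_c28 LD3_c38)) :=
  Lre_b IH (LK LD1_c8 LD2_c55 LD3_c20) (LK LD1_c4 LD2_c28 LD3_c38) Lrfl Lrfl
theorem f195156 : Led Lsl_dt (LP (LK LD1_c11 LD2_c54 LD3_c10)) = (LP (LK LD1_c8 LD2_c55 LD3_c20)) :=
  Lgr Lrot79 (Lpe (f195154 IH) (Lpr_df (f195142 IH) (Lpe (f195155 IH) (Lpn (LP (LK LD1_c8 LD2_c55 LD3_c20))))))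
theorem f195183 : Led Lsl_et (LP (LK LD1_c6 LD2_c5 LD3_c18)) = (LP (LK LD1_c11 LD2_c54 LD3_c10)) :=
  Lre_e IH (LK LD1_c6 LD2_c5 LD3_c18) (LK LD1_c11 LD2_c54 LD3_c10) Lrfl Lrfl
theorem f195184 : Led Lsl_dt (LP (LK LD1_c2 LD2_c58 LD3_c47)) = (LP (LK LD1_c6 LD2_c5 LD3_c18)) :=
  Lre_d IH (LK LD1_c2 LD2_c58 LD3_c47) (LK LD1_c6 LD2_c5 LD3_c18) Lrfl Lrfl
theorem f195185 : Led Lsl_et (LP (LK LD1_c8 LD2_c55 LD3_c20)) = (LP (LK LD1_c4 LD2_c28 LD3_c33)) :=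
  Lre_e IH (LK LD1_c8 LD2_c55 LD3_c20) (LK LD1_c4 LD2_c28 LD3_c33) Lrfl Lrfl
theorem f195186 : Led Lsl_ef (LP (LK LD1_c2 LD2_c58 LD3_c47)) = (LP (LK LD1_c2 LD2_c11 LD3_c20)) :=
  Lgr Lrot73 (Lpr_dt (f195184 IH) (Lpr_et (f195183 IH) (Lpr_dt (f195156 IH) (Lpr_et (f195185 IH) (Lpr_dt (K27.f173503 IH) (Lpn (LP (LK LD1_c2 LD2_c11 LD3_c20))))))))
theorem f195213 : Led Lsl_et (LP (LK LD1_c2 LD2_c58 LD3_c47)) = (LP (LK LD1_c2 LD2_c11 LD3_c20)) :=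
  Lgr Lrot87 (Lpr_ef (f195186 IH) (Lpn (LP (LK LD1_c2 LD2_c11 LD3_c20))))
theorem f195231 : Led Lsl_ef (LP (LK LD1_c1 LD2_c25 LD3_c25)) = (LP (LK LD1_c1 LD2_c3 LD3_c0)) :=
  Lgr Lrot28 (Lpr_ct (K39.f195230 IH) (Lpr_et (f195213 IH) (Lpr_ct (K30.f173502 IH) (Lpn (LP (LK LD1_c1 LD2_c3 LD3_c0))))))
theorem f173514 : Led Lsl_dt (LP (LK LD1_c1 LD2_c3 LD3_c0)) = (LP (LK LD1_c2 LD2_c12 LD3_c13)) :=
  Lre_d IH (LK LD1_c1 LD2_c3 LD3_c0) (LK LD1_c2 LD2_c12 LD3_c13) Lrfl Lrfl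
theorem f173510 : Led Lsl_et (LP (LK LD1_c8 LD2_c56 LD3_c7)) = (LP (LK LD1_c16 LD2_c43 LD3_c31)) :=
  Lre_e IH (LK LD1_c8 LD2_c56 LD3_c7) (LK LD1_c16 LD2_c43 LD3_c31) Lrfl Lrfl
theorem f826521 : Led Lsl_gt (LP (LK LD1_c10 LD2_c53 LD3_c16)) = (LP (LK LD1_c16 LD2_c43 LD3_c31)) :=
  Lgr Lrot131 (Lpr_ef (f823174 IH) (Lpr_dt (f826520 IH) (Lpe (f826516 IH) (Lpe (f646202 IH) (Lpe (K39.f183490 IH) (Lpr_ef (f195231 IH) (Lpr_dt (f173514 IH) (Lpe (K27.f173408 IH) (Lpe (K27.f173488 IH) (Lpr_et (f173510 IH) (Lpn (LP (LK LD1_c16 LD2_c43 LD3_c31)))))))))))))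
theorem f826522 : Led Lsl_gt (LP (LK LD1_c10 LD2_c53 LD3_c16)) = (LP (LK LD1_c16 LD2_c43 LD3_c31)) :=
  Leop (Lpe (f826521 IH) (Lpn (LP (LK LD1_c10 LD2_c53 LD3_c16))))
theorem seed_1887 : LEOK LG_g (LK LD1_c10 LD2_c53 LD3_c16) :=
  Leoe_g (LK LD1_c10 LD2_c53 LD3_c16) (f826522 IH)
def v5164 : LQ := Led Lsl_ct (LP (LK LD1_c3 LD2_c0 LD3_c19))
def v25051 : LQ := Led Lsl_et v5164
theorem f826753 : Led Lsl_et v5164 = v25051 :=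
  Lrfl
theorem f826755 : Led Lsl_ef v5164 = v25051 :=
  Lgr Lrot88 (Lpr_et (f826753 IH) (Lpn v25051))
theorem f646307 : Led Lsl_ct (LP (LK LD1_c3 LD2_c0 LD3_c19)) = v5164 :=
  Lrfl
theorem f646308 : Led Lsl_cf (LP (LK LD1_c3 LD2_c0 LD3_c19)) = v5164 :=
  Lgr Lrot11 (Lpr_ct (f646307 IH) (Lpn v5164))
def v5165 : LQ := Led Lsl_et (LP (LK LD1_c3 LD2_c0 LD3_c19))
theorem f646313 : Led Lsl_et (LP (LK LD1_c3 LD2_c0 LD3_c19)) = v5165 :=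
  Lrfl
theorem f826756 : Led Lsl_ct v5165 = v25051 :=
  Lgr Lrot15 (Lpe (f646313 IH) (Lpr_cf (f646308 IH) (Lpr_ef (f826755 IH) (Lpn v25051))))
theorem f646314 : Led Lsl_bf (LP (LK LD1_c3 LD2_c0 LD3_c20)) = v5165 :=
  Lgr Lrot96 (Lpr_et (K32.f59954 IH) (Lpr_bt (K35.f181143 IH) (Lpr_et (f646313 IH) (Lpn v5165))))
def v14406 : LQ := Led Lsl_ct (LP (LK LD1_c5 LD2_c8 LD3_c23))
theorem f722373 : Led Lsl_ct (LP (LK LD1_c5 LD2_c8 LD3_c23)) = v14406 :=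
  Lrfl
theorem f826757 : Led Lsl_gt v14406 = v25051 :=
  Lgr Lrot65 (Lpe (f722373 IH) (Lpr_bt (K57.f22376 IH) (Lpr_gf (K56.f164422 IH) (Lpe (K54.f164367 IH) (Lpr_ct (K56.f723929 IH) (Lpe (K56.f751599 IH) (Lpr_cf (K56.f751600 IH) (Lpe (K56.f181162 IH) (Lpr_bf (f646314 IH) (Lpr_ct (f826756 IH) (Lpn v25051)))))))))))
theorem f749922 : Led Lsl_ft K57.v14566 = K57.v14404 :=
  Lgr Lrot48 (Lpr_ff (K57.f749920 IH) (Lpn K57.v14404))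
theorem f723790 : Led Lsl_ef (LP (LK LD1_c5 LD2_c13 LD3_c57)) = K57.v14566 :=
  Lgr Lrot88 (Lpr_et (K57.f723787 IH) (Lpn K57.v14566))
theorem f723792 : Led Lsl_dt (LP (LK LD1_c5 LD2_c47 LD3_c30)) = K57.v14566 :=
  Lgr Lrot77 (Lpe (K49.f137981 IH) (Lpe (K6.f137963 IH) (Lpe (K32.f421271 IH) (Lpe (K56.f308596 IH) (Lpr_ef (f723790 IH) (Lpn K57.v14566))))))
theorem f741674 : Led Lsl_ff (LP (LK LD1_c5 LD2_c47 LD3_c30)) = K57.v15804 :=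
  Lgr Lrot3 (Lpr_ft (K57.f741671 IH) (Lpn K57.v15804))
theorem f749923 : Led Lsl_df K57.v15804 = K57.v14404 :=
  Lgr Lrot78 (Lpe (f741674 IH) (Lpr_dt (f723792 IH) (Lpr_ft (f749922 IH) (Lpn K57.v14404))))
theorem f139423 : Led Lsl_af (LP (LK LD1_c3 LD2_c59 LD3_c25)) = (LP (LK LD1_c5 LD2_c47 LD3_c30)) :=
  Lgr Lrot0 (Lpr_at (K58.f139420 IH) (Lpn (LP (LK LD1_c5 LD2_c47 LD3_c30))))
def v12286 : LQ := Led Lsl_gf (LP (LK LD1_c3 LD2_c59 LD3_c25))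
theorem f689196 : Led Lsl_gf (LP (LK LD1_c3 LD2_c59 LD3_c25)) = v12286 :=
  Lrfl
theorem f741677 : Led Lsl_gf v12286 = K57.v15804 :=
  Lgr Lrot47 (Lpe (f689196 IH) (Lpr_af (f139423 IH) (Lpr_ff (f741674 IH) (Lpn K57.v15804))))
theorem f646316 : Led Lsl_ef (LP (LK LD1_c3 LD2_c0 LD3_c19)) = v5165 :=
  Lgr Lrot88 (Lpr_et (f646313 IH) (Lpn v5165))
theorem f826754 : Led Lsl_cf v5165 = v25051 :=
  Lgr Lrot39 (Lpe (f646316 IH) (Lpr_ct (f646307 IH) (Lpr_et (f826753 IH) (Lpn v25051))))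
theorem f159007 : Led Lsl_et (LP (LK LD1_c4 LD2_c36 LD3_c42)) = (LP (LK LD1_c9 LD2_c9 LD3_c24)) :=
  Lre_e IH (LK LD1_c4 LD2_c36 LD3_c42) (LK LD1_c9 LD2_c9 LD3_c24) Lrfl Lrfl
theorem f646318 : Led Lsl_dt (LP (LK LD1_c9 LD2_c9 LD3_c24)) = v5165 :=
  Lgr Lrot77 (Lpe (f159007 IH) (Lpe (K8.f157866 IH) (Lpe (K35.f538399 IH) (Lpe (K43.f181144 IH) (Lpr_ef (f646316 IH) (Lpn v5165))))))
def v16023 : LQ := Led Lsl_et (LP (LK LD1_c5 LD2_c51 LD3_c44))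
theorem f744875 : Led Lsl_et (LP (LK LD1_c5 LD2_c51 LD3_c44)) = v16023 :=
  Lrfl
theorem f157867 : Led Lsl_et (LP (LK LD1_c9 LD2_c9 LD3_c24)) = (LP (LK LD1_c4 LD2_c36 LD3_c42)) :=
  Lre_e IH (LK LD1_c9 LD2_c9 LD3_c24) (LK LD1_c4 LD2_c36 LD3_c42) Lrfl Lrfl
theorem f744877 : Led Lsl_cf (LP (LK LD1_c9 LD2_c9 LD3_c24)) = v16023 :=
  Lgr Lrot39 (Lpr_et (f157867 IH) (Lpr_ct (K8.f157862 IH) (Lpr_et (f744875 IH) (Lpn v16023))))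
def v4897 : LQ := Led Lsl_ct (LP (LK LD1_c2 LD2_c52 LD3_c13))
theorem f640767 : Led Lsl_ct (LP (LK LD1_c2 LD2_c52 LD3_c13)) = v4897 :=
  Lrfl
theorem f87258 : Led Lsl_bt (LP (LK LD1_c12 LD2_c42 LD3_c29)) = (LP (LK LD1_c6 LD2_c38 LD3_c32)) :=
  Lre_b IH (LK LD1_c12 LD2_c42 LD3_c29) (LK LD1_c6 LD2_c38 LD3_c32) Lrfl Lrfl
theorem f87259 : Led Lsl_ct (LP (LK LD1_c21 LD2_c49 LD3_c42)) = (LP (LK LD1_c12 LD2_c42 LD3_c29)) :=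
  Lre_c IH (LK LD1_c21 LD2_c49 LD3_c42) (LK LD1_c12 LD2_c42 LD3_c29) Lrfl Lrfl
theorem f87255 : Led Lsl_bt (LP (LK LD1_c3 LD2_c49 LD3_c33)) = (LP (LK LD1_c7 LD2_c39 LD3_c44)) :=
  Lre_b IH (LK LD1_c3 LD2_c49 LD3_c33) (LK LD1_c7 LD2_c39 LD3_c44) Lrfl Lrfl
theorem f87260 : Led Lsl_ct (LP (LK LD1_c7 LD2_c39 LD3_c44)) = (LP (LK LD1_c14 LD2_c26 LD3_c13)) :=
  Lre_c IH (LK LD1_c7 LD2_c39 LD3_c44) (LK LD1_c14 LD2_c26 LD3_c13) Lrfl Lrfl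
theorem f87261 : Led Lsl_bf (LP (LK LD1_c21 LD2_c49 LD3_c42)) = (LP (LK LD1_c14 LD2_c26 LD3_c13)) :=
  Lgr Lrot90 (Lpr_ct (f87259 IH) (Lpr_bt (f87258 IH) (Lpr_ct (K63.f87244 IH) (Lpr_bt (f87255 IH) (Lpr_ct (f87260 IH) (Lpn (LP (LK LD1_c14 LD2_c26 LD3_c13))))))))
theorem f87269 : Led Lsl_ft (LP (LK LD1_c21 LD2_c49 LD3_c42)) = (LP (LK LD1_c12 LD2_c42 LD3_c26)) :=
  Lre_f IH (LK LD1_c21 LD2_c49 LD3_c42) (LK LD1_c12 LD2_c42 LD3_c26) Lrfl Lrfl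
theorem f87270 : Led Lsl_ft (LP (LK LD1_c7 LD2_c39 LD3_c40)) = (LP (LK LD1_c14 LD2_c26 LD3_c13)) :=
  Lre_f IH (LK LD1_c7 LD2_c39 LD3_c40) (LK LD1_c14 LD2_c26 LD3_c13) Lrfl Lrfl
theorem f87271 : Led Lsl_bt (LP (LK LD1_c12 LD2_c42 LD3_c26)) = (LP (LK LD1_c7 LD2_c39 LD3_c40)) :=
  Lgr Lrot35 (Lpe (f87269 IH) (Lpr_bf (f87261 IH) (Lpe (f87270 IH) (Lpn (LP (LK LD1_c7 LD2_c39 LD3_c40))))))
theorem f87285 : Led Lsl_bf (LP (LK LD1_c6 LD2_c38 LD3_c23)) = (LP (LK LD1_c3 LD2_c49 LD3_c24)) :=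
  Lgr Lrot96 (Lpr_et (K5.f87283 IH) (Lpr_bt (f87271 IH) (Lpr_et (K5.f87284 IH) (Lpn (LP (LK LD1_c3 LD2_c49 LD3_c24))))))
theorem f87296 : Led Lsl_bt (LP (LK LD1_c12 LD2_c42 LD3_c25)) = (LP (LK LD1_c7 LD2_c39 LD3_c39)) :=
  Lgr Lrot95 (Lpe (K7.f87294 IH) (Lpr_bf (f87285 IH) (Lpe (K4.f87295 IH) (Lpn (LP (LK LD1_c7 LD2_c39 LD3_c39))))))
theorem f87302 : Led Lsl_bf (LP (LK LD1_c12 LD2_c42 LD3_c25)) = (LP (LK LD1_c7 LD2_c39 LD3_c39)) :=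
  Lgr Lrot24 (Lpr_bt (f87296 IH) (Lpn (LP (LK LD1_c7 LD2_c39 LD3_c39))))
theorem f613096 : Led Lsl_bt (LP (LK LD1_c2 LD2_c15 LD3_c32)) = (LP (LK LD1_c2 LD2_c51 LD3_c33)) :=
  Lgr Lrot178 (Lpe (K6.f141255 IH) (Lpe (K6.f141254 IH) (Lpe (K6.f141243 IH) (Lpe (K6.f128958 IH) (Lpe (K6.f136157 IH) (Lpr_df (K6.f146724 IH) (Lpe (K7.f151364 IH) (Lpr_bf (f87302 IH) (Lpe (K43.f558755 IH) (Lpe (K42.f59057 IH) (Lpe (K35.f59056 IH) (Lpe (K38.f59055 IH) (Lpe (K11.f59051 IH) (Lpe (K11.f59040 IH) (Lpe (K11.f204373 IH) (Lpr_bf (K11.f205093 IH) (Lpe (K11.f22131 IH) (Lpe (K11.f22181 IH) (Lpe (K11.f22170 IH) (Lpn (LP (LK LD1_c2 LD2_c51 LD3_c33))))))))))))))))))))))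
theorem f613102 : Led Lsl_bf (LP (LK LD1_c4 LD2_c36 LD3_c40)) = (LP (LK LD1_c5 LD2_c50 LD3_c44)) :=
  Lgr Lrot96 (Lpr_et (K49.f428912 IH) (Lpr_bt (f613096 IH) (Lpr_et (K11.f198627 IH) (Lpn (LP (LK LD1_c5 LD2_c50 LD3_c44))))))
theorem f613127 : Led Lsl_bt (LP (LK LD1_c2 LD2_c15 LD3_c47)) = (LP (LK LD1_c4 LD2_c36 LD3_c48)) :=
  Lre_b IH (LK LD1_c2 LD2_c15 LD3_c47) (LK LD1_c4 LD2_c36 LD3_c48) Lrfl Lrfl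
theorem f613128 : Led Lsl_at (LP (LK LD1_c4 LD2_c36 LD3_c48)) = (LP (LK LD1_c9 LD2_c9 LD3_c24)) :=
  Lre_a IH (LK LD1_c4 LD2_c36 LD3_c48) (LK LD1_c9 LD2_c9 LD3_c24) Lrfl Lrfl
theorem f613129 : Led Lsl_bt (LP (LK LD1_c9 LD2_c9 LD3_c24)) = (LP (LK LD1_c6 LD2_c8 LD3_c13)) :=
  Lgr Lrot62 (Lpe (f613128 IH) (Lpe (f613127 IH) (Lpe (K60.f613126 IH) (Lpr_bf (f613102 IH) (Lpe (K16.f411173 IH) (Lpn (LP (LK LD1_c6 LD2_c8 LD3_c13))))))))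
theorem f744878 : Led Lsl_ef (LP (LK LD1_c5 LD2_c51 LD3_c44)) = v16023 :=
  Lgr Lrot88 (Lpr_et (f744875 IH) (Lpn v16023))
theorem f744880 : Led Lsl_ct (LP (LK LD1_c9 LD2_c9 LD3_c24)) = v16023 :=
  Lgr Lrot15 (Lpe (f159007 IH) (Lpr_cf (K36.f157864 IH) (Lpr_ef (f744878 IH) (Lpn v16023))))
theorem f750322 : Led Lsl_gt v4897 = v16023 :=
  Lgr Lrot65 (Lpe (f640767 IH) (Lpr_bt (K49.f22246 IH) (Lpr_gf (K56.f414571 IH) (Lpe (K10.f152043 IH) (Lpr_ct (K56.f664009 IH) (Lpr_gf (K56.f750321 IH) (Lpe (K56.f750319 IH) (Lpr_gf (K32.f411187 IH) (Lpe (f613129 IH) (Lpr_ct (f744880 IH) (Lpn v16023)))))))))))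
theorem f826758 : v12286 = (LP (LK LD1_c2 LD2_c52 LD3_c13)) :=
  (Llr Lrot9 (Lpr_gf (f741677 IH) (Lpr_df (f749923 IH) (Lpe (K57.f722368 IH) (Lpr_ct (f722373 IH) (Lpr_gt (f826757 IH) (Lpe (f826754 IH) (Lpe (f646318 IH) (Lpr_cf (f744877 IH) (Lpe (f750322 IH) (Lpe (f640767 IH) (Lpn (LP (LK LD1_c2 LD2_c52 LD3_c13)))))))))))))).symm
theorem f826760 : Led Lsl_gt (LP (LK LD1_c2 LD2_c52 LD3_c13)) = (LP (LK LD1_c3 LD2_c59 LD3_c25)) :=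
  Leop (Lpr_gf (f689196 IH) (Lpqs (f826758 IH) (Lpn (LP (LK LD1_c2 LD2_c52 LD3_c13)))))
theorem seed_1888 : LEOK LG_g (LK LD1_c2 LD2_c52 LD3_c13) :=
  Leoe_g (LK LD1_c2 LD2_c52 LD3_c13) (f826760 IH)
def v19768 : LQ := Led Lsl_dt (LP (LK LD1_c6 LD2_c46 LD3_c25))
theorem f782032 : Led Lsl_dt (LP (LK LD1_c6 LD2_c46 LD3_c25)) = v19768 :=
  Lrfl
def v20158 : LQ := Led Lsl_ft (LP (LK LD1_c6 LD2_c51 LD3_c8))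
theorem f785113 : Led Lsl_ft (LP (LK LD1_c6 LD2_c51 LD3_c8)) = v20158 :=
  Lrfl
theorem f785116 : Led Lsl_ff (LP (LK LD1_c6 LD2_c51 LD3_c8)) = v20158 :=
  Lgr Lrot3 (Lpr_ft (f785113 IH) (Lpn v20158))
theorem f101702 : Led Lsl_dt (LP (LK LD1_c6 LD2_c51 LD3_c8)) = (LP (LK LD1_c3 LD2_c24 LD3_c4)) :=
  Lre_d IH (LK LD1_c6 LD2_c51 LD3_c8) (LK LD1_c3 LD2_c24 LD3_c4) Lrfl Lrfl
theorem f785118 : Led Lsl_dt v6598 = v20158 :=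
  Lgr Lrot60 (Lpe (f654362 IH) (Lpe (f101702 IH) (Lpr_ff (f785116 IH) (Lpn v20158))))
theorem f785159 : v20158 = v19768 :=
  Lefun (Lecon (f785118 IH) (f785150 IH)) (f782032 IH)
def v20157 : LQ := Led Lsl_at (LP (LK LD1_c6 LD2_c51 LD3_c8))
theorem f785106 : Led Lsl_at (LP (LK LD1_c6 LD2_c51 LD3_c8)) = v20157 :=
  Lrfl
theorem f101707 : Led Lsl_dt (LP (LK LD1_c3 LD2_c24 LD3_c4)) = (LP (LK LD1_c6 LD2_c51 LD3_c8)) :=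
  Lre_d IH (LK LD1_c3 LD2_c24 LD3_c4) (LK LD1_c6 LD2_c51 LD3_c8) Lrfl Lrfl
theorem f785108 : Led Lsl_df K60.v6597 = v20157 :=
  Lgr Lrot18 (Lpe (K60.f654355 IH) (Lpr_dt (f101707 IH) (Lpr_at (f785106 IH) (Lpn v20157))))
theorem f785109 : Led Lsl_dt K60.v6597 = v20157 :=
  Lgr Lrot42 (Lpr_df (f785108 IH) (Lpn v20157))
theorem f415175 : Led Lsl_dt (LP (LK LD1_c6 LD2_c46 LD3_c26)) = (LP (LK LD1_c12 LD2_c56 LD3_c23)) :=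
  Lre_d IH (LK LD1_c6 LD2_c46 LD3_c26) (LK LD1_c12 LD2_c56 LD3_c23) Lrfl Lrfl
def v19767 : LQ := Led Lsl_at (LP (LK LD1_c6 LD2_c46 LD3_c25))
theorem f782028 : Led Lsl_at (LP (LK LD1_c6 LD2_c46 LD3_c25)) = v19767 :=
  Lrfl
theorem f782029 : Led Lsl_af (LP (LK LD1_c6 LD2_c46 LD3_c25)) = v19767 :=
  Lgr Lrot0 (Lpr_at (f782028 IH) (Lpn v19767))
theorem f782030 : Led Lsl_ft (LP (LK LD1_c6 LD2_c46 LD3_c26)) = v19767 :=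
  Lgr Lrot2 (Lpr_gt (K60.f413578 IH) (Lpr_gt (K17.f413573 IH) (Lpr_af (f782029 IH) (Lpn v19767))))
theorem f782031 : Led Lsl_ff (LP (LK LD1_c6 LD2_c46 LD3_c26)) = v19767 :=
  Lgr Lrot3 (Lpr_ft (f782030 IH) (Lpn v19767))
theorem f654363 : Led Lsl_af (LP (LK LD1_c3 LD2_c24 LD3_c5)) = v6598 :=
  Lgr Lrot45 (Lpr_ft (K60.f654357 IH) (Lpe (K60.f654355 IH) (Lpr_ft (f654362 IH) (Lpn v6598))))
theorem f785151 : (LP (LK LD1_c3 LD2_c24 LD3_c5)) = v19767 :=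
  Lefun (Lecon (Lfl_af (f654363 IH)) (f785150 IH)) (f782028 IH)
theorem f785163 : (LP (LK LD1_c6 LD2_c46 LD3_c26)) = K60.v6597 :=
  Lefun (Lecon (Lfl_ff (f782031 IH)) (f785151 IH).symm) (K60.f654357 IH)
theorem f785174 : v20157 = (LP (LK LD1_c12 LD2_c56 LD3_c23)) :=
  Lefun (Lecon (f785109 IH) (f785163 IH).symm) (f415175 IH)
theorem f785110 : Led Lsl_ft (LP (LK LD1_c6 LD2_c51 LD3_c12)) = v20157 :=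
  Lgr Lrot54 (Lpe (K58.f415159 IH) (Lpr_ff (K60.f654359 IH) (Lpr_df (f785108 IH) (Lpn v20157))))
theorem f785111 : Led Lsl_ff (LP (LK LD1_c6 LD2_c51 LD3_c12)) = v20157 :=
  Lgr Lrot3 (Lpr_ft (f785110 IH) (Lpn v20157))
theorem f785117 : Led Lsl_at (LP (LK LD1_c6 LD2_c51 LD3_c12)) = v20158 :=
  Lgr Lrot66 (Lpr_ff (f785111 IH) (Lpe (f785106 IH) (Lpr_ff (f785116 IH) (Lpn v20158))))
def v19785 : LQ := Led Lsl_gf (LP (LK LD1_c6 LD2_c46 LD3_c35))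
theorem f782141 : Led Lsl_gf (LP (LK LD1_c6 LD2_c46 LD3_c35)) = v19785 :=
  Lrfl
theorem f826783 : v19785 = (LP (LK LD1_c12 LD2_c56 LD3_c23)) :=
  (Llr Lrot134 (Lpe (f782141 IH) (Lpr_df (K58.f414183 IH) (Lpr_et (K49.f414199 IH) (Lpq (f826758 IH) (Lpe (f689196 IH) (Lpe (K57.f101698 IH) (Lpr_dt (K6.f37819 IH) (Lpr_gt (K7.f101688 IH) (Lpe (K7.f99547 IH) (Lpr_et (K7.f40331 IH) (Lpe (K60.f415173 IH) (Lpr_dt (f415175 IH) (Lpn (LP (LK LD1_c12 LD2_c56 LD3_c23)))))))))))))))).symm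
def v19784 : LQ := Led Lsl_gt (LP (LK LD1_c6 LD2_c46 LD3_c35))
theorem f782139 : Led Lsl_gt (LP (LK LD1_c6 LD2_c46 LD3_c35)) = v19784 :=
  Lrfl
theorem f826786 : v20158 = v19784 :=
  (Llr Lrot26 (Lpe (f785117 IH) (Lpr_ff (f785111 IH) (Lpqs (f785174 IH) (Lpq (f826783 IH) (Lpe (f782141 IH) (Lpr_gt (f782139 IH) (Lpn v19784)))))))).symm
theorem f414200 : Led Lsl_gt (LP (LK LD1_c5 LD2_c51 LD3_c58)) = (LP (LK LD1_c2 LD2_c52 LD3_c13)) :=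
  Lre_g IH (LK LD1_c5 LD2_c51 LD3_c58) (LK LD1_c2 LD2_c52 LD3_c13) Lrfl Lrfl
def v16040 : LQ := Led Lsl_et (LP (LK LD1_c5 LD2_c51 LD3_c58))
theorem f744948 : Led Lsl_et (LP (LK LD1_c5 LD2_c51 LD3_c58)) = v16040 :=
  Lrfl
theorem f744949 : Led Lsl_ef (LP (LK LD1_c5 LD2_c51 LD3_c58)) = v16040 :=
  Lgr Lrot88 (Lpr_et (f744948 IH) (Lpn v16040))
theorem f826761 : K57.v15804 = (LP (LK LD1_c5 LD2_c51 LD3_c58)) :=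
  Lefun (Lecon (f741677 IH) (f826758 IH)) (Lfl_gt (f414200 IH))
theorem f826772 : (LP (LK LD1_c6 LD2_c30 LD3_c20)) = v16040 :=
  Lefun (Lecon (Lfl_ef (K57.f741673 IH)) (f826761 IH)) (f744948 IH)
theorem f741638 : Led Lsl_ff (LP (LK LD1_c11 LD2_c31 LD3_c47)) = K55.v15802 :=
  Lgr Lrot19 (Lpr_dt (K58.f505678 IH) (Lpr_ft (K53.f711241 IH) (Lpr_dt (K55.f741633 IH) (Lpn K55.v15802))))
theorem f646932 : Led Lsl_bf (LP (LK LD1_c4 LD2_c58 LD3_c61)) = K55.v5296 :=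
  Lgr Lrot93 (Lpr_dt (K38.f101719 IH) (Lpr_bt (K6.f99531 IH) (Lpr_dt (K55.f646930 IH) (Lpn K55.v5296))))
theorem f741641 : Led Lsl_bt (LP (LK LD1_c9 LD2_c48 LD3_c23)) = K55.v15802 :=
  Lgr Lrot119 (Lpe (K44.f539789 IH) (Lpr_bf (f646932 IH) (Lpr_ef (K55.f741637 IH) (Lpn K55.v15802))))
theorem f76263 : Led Lsl_ct (LP (LK LD1_c9 LD2_c48 LD3_c23)) = (LP (LK LD1_c17 LD2_c58 LD3_c38)) :=
  Lre_c IH (LK LD1_c9 LD2_c48 LD3_c23) (LK LD1_c17 LD2_c58 LD3_c38) Lrfl Lrfl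
theorem f452975 : Led Lsl_ct (LP (LK LD1_c5 LD2_c59 LD3_c8)) = (LP (LK LD1_c11 LD2_c42 LD3_c45)) :=
  Lre_c IH (LK LD1_c5 LD2_c59 LD3_c8) (LK LD1_c11 LD2_c42 LD3_c45) Lrfl Lrfl
theorem f76265 : Led Lsl_ct (LP (LK LD1_c17 LD2_c58 LD3_c38)) = (LP (LK LD1_c9 LD2_c48 LD3_c23)) :=
  Lre_c IH (LK LD1_c17 LD2_c58 LD3_c38) (LK LD1_c9 LD2_c48 LD3_c23) Lrfl Lrfl
theorem f641857 : Led Lsl_gt (LP (LK LD1_c11 LD2_c42 LD3_c45)) = (LP (LK LD1_c17 LD2_c58 LD3_c38)) :=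
  Lgr Lrot150 (Lpe (f452975 IH) (Lpr_gf (K42.f641853 IH) (Lpe (K42.f442880 IH) (Lpq (K55.f641743 IH) (Lpe (K41.f641320 IH) (Lpr_ct (K42.f76295 IH) (Lpe (K41.f76293 IH) (Lpr_ct (K4.f76255 IH) (Lpe (K55.f74982 IH) (Lpe (f76265 IH) (Lpn (LP (LK LD1_c17 LD2_c58 LD3_c38)))))))))))))
theorem f642914 : Led Lsl_cf (LP (LK LD1_c11 LD2_c42 LD3_c18)) = (LP (LK LD1_c20 LD2_c28 LD3_c39)) :=
  Lgr Lrot108 (Lpr_ft (K52.f428291 IH) (Lpr_ct (K42.f428292 IH) (Lpr_ft (K52.f642910 IH) (Lpn (LP (LK LD1_c20 LD2_c28 LD3_c39))))))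
theorem f426135 : Led Lsl_dt (LP (LK LD1_c11 LD2_c42 LD3_c18)) = (LP (LK LD1_c5 LD2_c58 LD3_c56)) :=
  Lre_d IH (LK LD1_c11 LD2_c42 LD3_c18) (LK LD1_c5 LD2_c58 LD3_c56) Lrfl Lrfl
theorem f642516 : Led Lsl_cf (LP (LK LD1_c5 LD2_c58 LD3_c56)) = (LP (LK LD1_c11 LD2_c31 LD3_c55)) :=
  Lgr Lrot11 (Lpr_ct (K42.f642513 IH) (Lpn (LP (LK LD1_c11 LD2_c31 LD3_c55))))
theorem f642902 : Led Lsl_cf (LP (LK LD1_c20 LD2_c49 LD3_c45)) = (LP (LK LD1_c16 LD2_c59 LD3_c3)) :=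
  Lgr Lrot11 (Lpr_ct (K52.f642900 IH) (Lpn (LP (LK LD1_c16 LD2_c59 LD3_c3))))
theorem f642918 : Led Lsl_gt (LP (LK LD1_c20 LD2_c49 LD3_c45)) = (LP (LK LD1_c20 LD2_c28 LD3_c39)) :=
  Lgr Lrot150 (Lpr_cf (f642902 IH) (Lpr_gf (K57.f615216 IH) (Lpe (K39.f138990 IH) (Lpqs (K45.f642553 IH) (Lpe (K45.f640873 IH) (Lpr_ct (K41.f505246 IH) (Lpr_gt (K41.f642511 IH) (Lpe (f642516 IH) (Lpe (f426135 IH) (Lpr_cf (f642914 IH) (Lpn (LP (LK LD1_c20 LD2_c28 LD3_c39)))))))))))))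
theorem f445655 : Led Lsl_at (LP (LK LD1_c11 LD2_c31 LD3_c60)) = (LP (LK LD1_c5 LD2_c52 LD3_c52)) :=
  Lre_a IH (LK LD1_c11 LD2_c31 LD3_c60) (LK LD1_c5 LD2_c52 LD3_c52) Lrfl Lrfl
theorem f504934 : Led Lsl_bt (LP (LK LD1_c16 LD2_c59 LD3_c3)) = (LP (LK LD1_c11 LD2_c31 LD3_c60)) :=
  Lgr Lrot62 (Lpe (K57.f140790 IH) (Lpe (K32.f140766 IH) (Lpr_af (K32.f504930 IH) (Lpe (K48.f436295 IH) (Lpe (f445655 IH) (Lpn (LP (LK LD1_c11 LD2_c31 LD3_c60))))))))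
theorem f741664 : Led Lsl_gf (LP (LK LD1_c11 LD2_c31 LD3_c60)) = K55.v15802 :=
  Lgr Lrot124 (Lpe (f504934 IH) (Lpe (f642902 IH) (Lpr_gt (f642918 IH) (Lpe (K42.f642906 IH) (Lpr_bt (K42.f641863 IH) (Lpe (K42.f641853 IH) (Lpr_ct (f452975 IH) (Lpr_gt (f641857 IH) (Lpe (f76263 IH) (Lpr_bt (f741641 IH) (Lpn K55.v15802)))))))))))
theorem f646931 : Led Lsl_af (LP (LK LD1_c3 LD2_c59 LD3_c37)) = K55.v5296 :=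
  Lgr Lrot117 (Lpr_dt (K38.f158373 IH) (Lpe (K8.f158366 IH) (Lpr_dt (K55.f646930 IH) (Lpn K55.v5296))))
theorem f565530 : Led Lsl_et (LP (LK LD1_c3 LD2_c59 LD3_c37)) = (LP (LK LD1_c8 LD2_c0 LD3_c17)) :=
  Lre_e IH (LK LD1_c3 LD2_c59 LD3_c37) (LK LD1_c8 LD2_c0 LD3_c17) Lrfl Lrfl
theorem f741640 : Led Lsl_at (LP (LK LD1_c8 LD2_c0 LD3_c17)) = K55.v15802 :=
  Lgr Lrot80 (Lpe (f565530 IH) (Lpr_af (f646931 IH) (Lpr_ef (K55.f741637 IH) (Lpn K55.v15802))))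
theorem f767314 : Led Lsl_at (LP (LK LD1_c11 LD2_c31 LD3_c47)) = K58.v18531 :=
  Lgr Lrot66 (Lpr_ff (f741638 IH) (Lpe (f741640 IH) (Lpr_ff (K58.f767312 IH) (Lpn K58.v18531))))
theorem f767318 : Led Lsl_gt (LP (LK LD1_c11 LD2_c31 LD3_c60)) = K58.v18531 :=
  Lgr Lrot46 (Lpr_gf (f741664 IH) (Lpe (f741638 IH) (Lpr_at (f767314 IH) (Lpn K58.v18531))))
theorem f445653 : Led Lsl_dt (LP (LK LD1_c5 LD2_c52 LD3_c52)) = (LP (LK LD1_c9 LD2_c20 LD3_c40)) :=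
  Lgr Lrot79 (Lpe (K57.f445651 IH) (Lpr_df (K24.f445647 IH) (Lpe (K35.f445652 IH) (Lpn (LP (LK LD1_c9 LD2_c20 LD3_c40))))))
theorem f445657 : Led Lsl_df (LP (LK LD1_c11 LD2_c31 LD3_c60)) = (LP (LK LD1_c17 LD2_c16 LD3_c38)) :=
  Lgr Lrot18 (Lpr_at (f445655 IH) (Lpr_dt (f445653 IH) (Lpr_at (K35.f445656 IH) (Lpn (LP (LK LD1_c17 LD2_c16 LD3_c38))))))
theorem f436250 : Led Lsl_gt (LP (LK LD1_c5 LD2_c50 LD3_c31)) = (LP (LK LD1_c11 LD2_c28 LD3_c59)) :=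
  Lre_g IH (LK LD1_c5 LD2_c50 LD3_c31) (LK LD1_c11 LD2_c28 LD3_c59) Lrfl Lrfl
theorem f505022 : Led Lsl_gt (LP (LK LD1_c11 LD2_c28 LD3_c59)) = (LP (LK LD1_c17 LD2_c16 LD3_c38)) :=
  Lgr Lrot46 (Lpe (f436250 IH) (Lpr_ft (K35.f505016 IH) (Lpr_at (K35.f445656 IH) (Lpn (LP (LK LD1_c17 LD2_c16 LD3_c38))))))
theorem f826787 : v19769 = (LP (LK LD1_c11 LD2_c28 LD3_c59)) :=
  (Llr Lrot121 (Lpe (f782034 IH) (Lpr_dt (f782032 IH) (Lpq (f785159 IH) (Lpqs (f826786 IH) (Lpe (f782139 IH) (Lpr_df (K58.f414183 IH) (Lpr_et (K49.f414199 IH) (Lpe (f414200 IH) (Lpr_ef (f744949 IH) (Lpq (f826772 IH) (Lpr_dt (K58.f767309 IH) (Lpe (f767318 IH) (Lpr_df (f445657 IH) (Lpe (f505022 IH) (Lpn (LP (LK LD1_c11 LD2_c28 LD3_c59)))))))))))))))))).symm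
theorem f826788 : Led Lsl_at (LP (LK LD1_c11 LD2_c28 LD3_c59)) = (LP (LK LD1_c6 LD2_c51 LD3_c13)) :=
  Leop (Lpr_af (f785251 IH) (Lpqs (f826787 IH) (Lpn (LP (LK LD1_c11 LD2_c28 LD3_c59)))))
theorem seed_1889 : LEOK LG_a (LK LD1_c11 LD2_c28 LD3_c59) :=
  Leoe_a (LK LD1_c11 LD2_c28 LD3_c59) (f826788 IH)
def v5222 : LQ := Led Lsl_dt (LP (LK LD1_c3 LD2_c2 LD3_c15))
def v25103 : LQ := Led Lsl_et v5222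
theorem f827036 : Led Lsl_et v5222 = v25103 :=
  Lrfl
theorem f827038 : Led Lsl_ef v5222 = v25103 :=
  Lgr Lrot88 (Lpr_et (f827036 IH) (Lpn v25103))
theorem f646600 : Led Lsl_dt (LP (LK LD1_c3 LD2_c2 LD3_c15)) = v5222 :=
  Lrfl
theorem f646601 : Led Lsl_bf K46.v1788 = v5222 :=
  Lgr Lrot93 (Lpe (K46.f502905 IH) (Lpr_bt (K48.f502896 IH) (Lpr_dt (f646600 IH) (Lpn v5222))))
theorem f827040 : Led Lsl_bt K46.v5972 = v25103 :=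
  Lgr Lrot119 (Lpe (K46.f650317 IH) (Lpr_bf (f646601 IH) (Lpr_ef (f827038 IH) (Lpn v25103))))
theorem f776313 : Led Lsl_ct K46.v5972 = K59.v18892 :=
  Lgr Lrot8 (Lpe (K46.f650316 IH) (Lpr_dt (K46.f66063 IH) (Lpr_gt (K46.f61991 IH) (Lpr_dt (K1.f61985 IH) (Lpe (K58.f66066 IH) (Lpe (K58.f66061 IH) (Lpe (K58.f66016 IH) (Lpe (K58.f66017 IH) (Lpr_gf (K59.f776310 IH) (Lpn K59.v18892))))))))))
theorem f119494 : Led Lsl_dt (LP (LK LD1_c12 LD2_c42 LD3_c1)) = (LP (LK LD1_c6 LD2_c38 LD3_c8)) :=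
  Lre_d IH (LK LD1_c12 LD2_c42 LD3_c1) (LK LD1_c6 LD2_c38 LD3_c8) Lrfl Lrfl
theorem f769496 : Led Lsl_ct (LP (LK LD1_c6 LD2_c38 LD3_c8)) = (LP (LK LD1_c7 LD2_c48 LD3_c49)) :=
  Lgr Lrot59 (Lpr_cf (K59.f769493 IH) (Lpn (LP (LK LD1_c7 LD2_c48 LD3_c49))))
theorem f772414 : Led Lsl_dt (LP (LK LD1_c7 LD2_c48 LD3_c49)) = (LP (LK LD1_c7 LD2_c31 LD3_c53)) :=
  Lgr Lrot60 (Lpr_ff (K59.f772410 IH) (Lpe (K58.f93374 IH) (Lpe (K59.f93380 IH) (Lpn (LP (LK LD1_c7 LD2_c31 LD3_c53))))))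
theorem f772490 : Led Lsl_ct (LP (LK LD1_c7 LD2_c31 LD3_c53)) = (LP (LK LD1_c12 LD2_c41 LD3_c36)) :=
  Lgr Lrot176 (Lpe (f772414 IH) (Lpe (f769496 IH) (Lpe (f119494 IH) (Lpr_cf (K59.f769296 IH) (Lpe (K59.f66051 IH) (Lpe (K58.f66050 IH) (Lpe (K58.f66017 IH) (Lpr_cf (K59.f769032 IH) (Lpe (K58.f675361 IH) (Lpe (K58.f769284 IH) (Lpe (K59.f118146 IH) (Lpr_cf (K59.f772484 IH) (Lpe (K59.f769322 IH) (Lpe (K58.f118286 IH) (Lpe (K59.f103842 IH) (Lpn (LP (LK LD1_c12 LD2_c41 LD3_c36))))))))))))))))))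
theorem f772428 : Led Lsl_ff (LP (LK LD1_c6 LD2_c59 LD3_c26)) = K58.v7634 :=
  Lgr Lrot23 (Lpr_ct (K58.f769415 IH) (Lpr_ft (K59.f772422 IH) (Lpr_ct (K58.f769284 IH) (Lpn K58.v7634))))
theorem f787893 : Led Lsl_ff K58.v9315 = K61.v20554 :=
  Lgr Lrot19 (Lpe (K58.f675360 IH) (Lpe (f772428 IH) (Lpr_dt (K61.f787889 IH) (Lpn K61.v20554))))
theorem f787901 : Led Lsl_ft K58.v9315 = K61.v20554 :=
  Lgr Lrot48 (Lpr_ff (f787893 IH) (Lpn K61.v20554))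
def v20551 : LQ := Led Lsl_gf (LP (LK LD1_c6 LD2_c59 LD3_c25))
theorem f787862 : Led Lsl_gf (LP (LK LD1_c6 LD2_c59 LD3_c25)) = v20551 :=
  Lrfl
theorem f664740 : Led Lsl_dt K56.v2621 = K56.v7363 :=
  Lgr Lrot42 (Lpr_df (K56.f664739 IH) (Lpn K56.v7363))
theorem f772398 : K56.v7363 = K56.v9314 :=
  Lefun (Lecon (f664740 IH) (K59.f772389 IH)) (K56.f675356 IH)
theorem f649361 : Led Lsl_ef (LP (LK LD1_c3 LD2_c45 LD3_c28)) = K46.v5790 :=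
  Lgr Lrot21 (Lpr_ft (K34.f209236 IH) (Lpr_et (K56.f85133 IH) (Lpr_ft (K48.f111560 IH) (Lpr_et (K5.f65591 IH) (Lpr_ft (K46.f649356 IH) (Lpn K46.v5790))))))
theorem f787635 : Led Lsl_ef (LP (LK LD1_c6 LD2_c58 LD3_c58)) = K61.v20524 :=
  Lgr Lrot88 (Lpr_et (K61.f787632 IH) (Lpn K61.v20524))
theorem f787866 : Led Lsl_dt K61.v20524 = v20551 :=
  Lgr Lrot136 (Lpe (f787635 IH) (Lpe (K56.f209244 IH) (Lpr_ef (f649361 IH) (Lpe (K46.f649360 IH) (Lpe (K46.f651186 IH) (Lpr_df (K56.f653963 IH) (Lpr_gf (K60.f777827 IH) (Lpe (K59.f658304 IH) (Lpr_dt (K58.f433073 IH) (Lpr_gf (f787862 IH) (Lpn v20551)))))))))))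
theorem f787867 : Led Lsl_gt K58.v9315 = K61.v20524 :=
  Lgr Lrot137 (Lpe (K58.f675358 IH) (Lpq (K59.f772389 IH) (Lpr_dt (f664740 IH) (Lpqs (f772398 IH) (Lpe (K56.f681527 IH) (Lpr_df (K56.f664727 IH) (Lpe (K56.f664728 IH) (Lpr_gf (K60.f777827 IH) (Lpe (K59.f658304 IH) (Lpr_dt (K58.f433073 IH) (Lpr_gf (f787862 IH) (Lpe (f787866 IH) (Lpn K61.v20524)))))))))))))
theorem f787890 : Led Lsl_af (LP (LK LD1_c7 LD2_c31 LD3_c53)) = K61.v20554 :=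
  Lgr Lrot117 (Lpe (K59.f772408 IH) (Lpr_at (K59.f772416 IH) (Lpr_dt (K61.f787889 IH) (Lpn K61.v20554))))
theorem f787903 : Led Lsl_gt K61.v20524 = (LP (LK LD1_c7 LD2_c31 LD3_c53)) :=
  Lgr Lrot46 (Lpe (f787867 IH) (Lpr_ft (f787901 IH) (Lpe (f787890 IH) (Lpn (LP (LK LD1_c7 LD2_c31 LD3_c53))))))
theorem f787640 : Led Lsl_ft (LP (LK LD1_c12 LD2_c28 LD3_c40)) = (LP (LK LD1_c12 LD2_c13 LD3_c59)) :=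
  Lgr Lrot48 (Lpr_ff (K61.f787638 IH) (Lpn (LP (LK LD1_c12 LD2_c13 LD3_c59))))
theorem f787642 : Led Lsl_bf K61.v20524 = (LP (LK LD1_c12 LD2_c13 LD3_c59)) :=
  Lgr Lrot61 (Lpe (K61.f787636 IH) (Lpr_bt (K61.f776385 IH) (Lpr_ft (f787640 IH) (Lpn (LP (LK LD1_c12 LD2_c13 LD3_c59))))))
theorem f113006 : Led Lsl_et (LP (LK LD1_c12 LD2_c33 LD3_c47)) = (LP (LK LD1_c6 LD2_c33 LD3_c13)) :=
  Lre_e IH (LK LD1_c12 LD2_c33 LD3_c47) (LK LD1_c6 LD2_c33 LD3_c13) Lrfl Lrfl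
theorem f709213 : Led Lsl_et (LP (LK LD1_c6 LD2_c19 LD3_c10)) = (LP (LK LD1_c12 LD2_c13 LD3_c59)) :=
  Lre_e IH (LK LD1_c6 LD2_c19 LD3_c10) (LK LD1_c12 LD2_c13 LD3_c59) Lrfl Lrfl
theorem f709214 : Led Lsl_cf (LP (LK LD1_c12 LD2_c33 LD3_c47)) = (LP (LK LD1_c12 LD2_c13 LD3_c59)) :=
  Lgr Lrot39 (Lpr_et (f113006 IH) (Lpr_ct (K52.f709209 IH) (Lpr_et (f709213 IH) (Lpn (LP (LK LD1_c12 LD2_c13 LD3_c59))))))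
theorem f646602 : Led Lsl_df (LP (LK LD1_c3 LD2_c2 LD3_c15)) = v5222 :=
  Lgr Lrot38 (Lpr_dt (f646600 IH) (Lpn v5222))
def v5220 : LQ := Led Lsl_gf (LP (LK LD1_c3 LD2_c2 LD3_c15))
theorem f646595 : Led Lsl_gf (LP (LK LD1_c3 LD2_c2 LD3_c15)) = v5220 :=
  Lrfl
theorem f651487 : Led Lsl_cf (LP (LK LD1_c3 LD2_c22 LD3_c44)) = K49.v6140 :=
  Lgr Lrot11 (Lpr_ct (K49.f651485 IH) (Lpn K49.v6140))
theorem f651494 : Led Lsl_df v5220 = K49.v2096 :=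
  Lgr Lrot155 (Lpe (f646595 IH) (Lpr_ct (K48.f414635 IH) (Lpe (K56.f414636 IH) (Lpr_ct (K51.f61472 IH) (Lpr_dt (K58.f73746 IH) (Lpr_cf (f651487 IH) (Lpe (K49.f651484 IH) (Lpe (K46.f414626 IH) (Lpr_gf (K49.f508833 IH) (Lpn K49.v2096))))))))))
theorem f758859 : Led Lsl_dt K58.v5332 = K58.v17343 :=
  Lgr Lrot77 (Lpe (K58.f647141 IH) (Lpe (K3.f25110 IH) (Lpe (K2.f77816 IH) (Lpe (K7.f77859 IH) (Lpr_ef (K58.f758856 IH) (Lpn K58.v17343))))))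
def v8472 : LQ := Led Lsl_et K59.v2051
theorem f671335 : Led Lsl_et K59.v2051 = v8472 :=
  Lrfl
theorem f772328 : Led Lsl_bf (LP (LK LD1_c6 LD2_c43 LD3_c45)) = v8472 :=
  Lgr Lrot96 (Lpr_et (K51.f632921 IH) (Lpq (K51.f709363 IH) (Lpq (K59.f772327 IH) (Lpe (K59.f671330 IH) (Lpr_et (f671335 IH) (Lpn v8472))))))
def v6294 : LQ := Led Lsl_bt (LP (LK LD1_c3 LD2_c19 LD3_c58))
theorem f652615 : Led Lsl_bt (LP (LK LD1_c3 LD2_c19 LD3_c58)) = v6294 :=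
  Lrfl
theorem f772330 : Led Lsl_dt v6294 = v8472 :=
  Lgr Lrot79 (Lpe (f652615 IH) (Lpe (K51.f104301 IH) (Lpr_bf (f772328 IH) (Lpn v8472))))
theorem f772331 : Led Lsl_df v6294 = v8472 :=
  Lgr Lrot38 (Lpr_dt (f772330 IH) (Lpn v8472))
theorem f671336 : Led Lsl_ef K59.v2051 = v8472 :=
  Lgr Lrot88 (Lpr_et (f671335 IH) (Lpn v8472))
theorem f65493 : Led Lsl_et (LP (LK LD1_c0 LD2_c43 LD3_c50)) = (LP (LK LD1_c1 LD2_c34 LD3_c19)) :=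
  Lre_e IH (LK LD1_c0 LD2_c43 LD3_c50) (LK LD1_c1 LD2_c34 LD3_c19) Lrfl Lrfl
theorem f772332 : Led Lsl_gt v6294 = K58.v17343 :=
  Lgr Lrot112 (Lpr_df (f772331 IH) (Lpe (f671336 IH) (Lpe (K59.f508582 IH) (Lpe (f65493 IH) (Lpr_dt (K49.f23338 IH) (Lpe (K2.f23342 IH) (Lpe (K3.f23343 IH) (Lpr_gf (K3.f79252 IH) (Lpr_ef (K58.f647144 IH) (Lpr_dt (f758859 IH) (Lpn K58.v17343)))))))))))
theorem f827039 : Led Lsl_gf v8472 = v25103 :=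
  Lgr Lrot138 (Lpe (f772331 IH) (Lpr_gt (f772332 IH) (Lpe (f758859 IH) (Lpe (K58.f647144 IH) (Lpe (K3.f79252 IH) (Lpe (K51.f23568 IH) (Lpq (K51.f708112 IH) (Lpe (f651494 IH) (Lpe (f646595 IH) (Lpr_df (f646602 IH) (Lpr_et (f827036 IH) (Lpn v25103))))))))))))
theorem f772329 : Led Lsl_bt (LP (LK LD1_c6 LD2_c43 LD3_c45)) = v8472 :=
  Lgr Lrot127 (Lpr_bf (f772328 IH) (Lpn v8472))
theorem f827041 : Led Lsl_gf (LP (LK LD1_c12 LD2_c33 LD3_c47)) = (LP (LK LD1_c12 LD2_c52 LD3_c20)) :=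
  Lgr Lrot126 (Lpr_cf (f709214 IH) (Lpe (f787642 IH) (Lpr_gt (f787903 IH) (Lpr_ct (f772490 IH) (Lpr_gt (K59.f776311 IH) (Lpe (f776313 IH) (Lpr_bt (f827040 IH) (Lpe (f827039 IH) (Lpe (f772329 IH) (Lpr_ct (K58.f632925 IH) (Lpn (LP (LK LD1_c12 LD2_c52 LD3_c20)))))))))))))
theorem f827042 : Led Lsl_gt (LP (LK LD1_c12 LD2_c52 LD3_c20)) = (LP (LK LD1_c12 LD2_c33 LD3_c47)) :=
  Leop (Lpr_gf (f827041 IH) (Lpn (LP (LK LD1_c12 LD2_c52 LD3_c20))))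
theorem seed_1890 : LEOK LG_g (LK LD1_c12 LD2_c52 LD3_c20) :=
  Leoe_g (LK LD1_c12 LD2_c52 LD3_c20) (f827042 IH)
def v25232 : LQ := Led Lsl_ct K51.v5376
theorem f827629 : Led Lsl_ct K51.v5376 = v25232 :=
  Lrfl
def v5374 : LQ := Led Lsl_gf (LP (LK LD1_c3 LD2_c6 LD3_c59))
theorem f647289 : Led Lsl_gf (LP (LK LD1_c3 LD2_c6 LD3_c59)) = v5374 :=
  Lrfl
theorem f663982 : Led Lsl_gt (LP (LK LD1_c6 LD2_c19 LD3_c7)) = (LP (LK LD1_c6 LD2_c28 LD3_c58)) :=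
  Lgr Lrot46 (Lpr_gf (K51.f663980 IH) (Lpr_ft (K48.f207429 IH) (Lpr_at (K48.f207450 IH) (Lpn (LP (LK LD1_c6 LD2_c28 LD3_c58))))))
theorem f128395 : Led Lsl_cf (LP (LK LD1_c6 LD2_c25 LD3_c40)) = (LP (LK LD1_c6 LD2_c28 LD3_c58)) :=
  Lgr Lrot11 (Lpr_ct (K48.f128392 IH) (Lpn (LP (LK LD1_c6 LD2_c28 LD3_c58))))
def v2229 : LQ := Led Lsl_gf (LP (LK LD1_c1 LD2_c38 LD3_c22))
theorem f509762 : Led Lsl_gf (LP (LK LD1_c1 LD2_c38 LD3_c22)) = v2229 :=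
  Lrfl
theorem f663993 : Led Lsl_df v5374 = v2229 :=
  Lgr Lrot155 (Lpe (f647289 IH) (Lpr_ct (K51.f66984 IH) (Lpr_gt (f663982 IH) (Lpe (f128395 IH) (Lpe (K48.f207465 IH) (Lpqs (K52.f662856 IH) (Lpr_cf (K52.f663095 IH) (Lpe (K52.f141006 IH) (Lpe (K49.f140973 IH) (Lpr_gf (f509762 IH) (Lpn v2229)))))))))))
theorem f653663 : Led Lsl_gf v2229 = K51.v6502 :=
  Lgr Lrot47 (Lpe (f509762 IH) (Lpe (K49.f454815 IH) (Lpr_ff (K51.f653659 IH) (Lpn K51.v6502))))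
theorem f707544 : v2229 = (LP (LK LD1_c1 LD2_c30 LD3_c2)) :=
  Lefun (Lecon (Lfl_gf (f653663 IH)) (K51.f707499 IH).symm) (K51.f91451 IH)
theorem f707575 : v5374 = (LP (LK LD1_c1 LD2_c29 LD3_c52)) :=
  Lefun (Lecon (Lfl_df (f663993 IH)) (f707544 IH)) (Lfl_df (K51.f131449 IH))
theorem f131472 : Led Lsl_ct (LP (LK LD1_c6 LD2_c20 LD3_c5)) = (LP (LK LD1_c3 LD2_c7 LD3_c37)) :=
  Lre_c IH (LK LD1_c6 LD2_c20 LD3_c5) (LK LD1_c3 LD2_c7 LD3_c37) Lrfl Lrfl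
theorem f131473 : Led Lsl_ct (LP (LK LD1_c3 LD2_c7 LD3_c37)) = (LP (LK LD1_c6 LD2_c20 LD3_c5)) :=
  Lre_c IH (LK LD1_c3 LD2_c7 LD3_c37) (LK LD1_c6 LD2_c20 LD3_c5) Lrfl Lrfl
theorem f707550 : K51.v5421 = (LP (LK LD1_c6 LD2_c20 LD3_c5)) :=
  Lefun (Lecon (Lfl_cf (K51.f663076 IH)) (K51.f707499 IH).symm) (f131473 IH)
theorem f152436 : Led Lsl_dt (LP (LK LD1_c3 LD2_c7 LD3_c44)) = (LP (LK LD1_c6 LD2_c20 LD3_c19)) :=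
  Lre_d IH (LK LD1_c3 LD2_c7 LD3_c44) (LK LD1_c6 LD2_c20 LD3_c19) Lrfl Lrfl
theorem f152437 : Led Lsl_gt (LP (LK LD1_c6 LD2_c20 LD3_c19)) = (LP (LK LD1_c12 LD2_c15 LD3_c14)) :=
  Lre_g IH (LK LD1_c6 LD2_c20 LD3_c19) (LK LD1_c12 LD2_c15 LD3_c14) Lrfl Lrfl
theorem f827634 : Led Lsl_dt (LP (LK LD1_c12 LD2_c15 LD3_c14)) = v25232 :=
  Lgr Lrot113 (Lpe (f152437 IH) (Lpe (f152436 IH) (Lpr_gf (K51.f647543 IH) (Lpqs (f707550 IH) (Lpr_ct (f131472 IH) (Lpr_gt (K51.f91451 IH) (Lpe (K51.f131449 IH) (Lpq (f707575 IH) (Lpe (f647289 IH) (Lpr_dt (K51.f647292 IH) (Lpr_ct (f827629 IH) (Lpn v25232))))))))))))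
theorem f647294 : Led Lsl_df (LP (LK LD1_c3 LD2_c6 LD3_c59)) = K51.v5376 :=
  Lgr Lrot38 (Lpr_dt (K51.f647292 IH) (Lpn K51.v5376))
theorem f647295 : Led Lsl_bt (LP (LK LD1_c3 LD2_c6 LD3_c60)) = K51.v5376 :=
  Lgr Lrot95 (Lpe (K17.f66980 IH) (Lpe (K38.f66981 IH) (Lpr_df (f647294 IH) (Lpn K51.v5376))))
theorem f781737 : Led Lsl_cf (LP (LK LD1_c6 LD2_c45 LD3_c55)) = K60.v19707 :=
  Lgr Lrot11 (Lpr_ct (K60.f781736 IH) (Lpn K60.v19707))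
theorem f827630 : Led Lsl_bf K60.v19707 = v25232 :=
  Lgr Lrot90 (Lpe (f781737 IH) (Lpr_bt (K60.f414598 IH) (Lpe (K24.f414595 IH) (Lpr_bt (f647295 IH) (Lpr_ct (f827629 IH) (Lpn v25232))))))
theorem f827635 : Led Lsl_bf (LP (LK LD1_c12 LD2_c15 LD3_c14)) = (LP (LK LD1_c20 LD2_c51 LD3_c26)) :=
  Lgr Lrot93 (Lpr_dt (f827634 IH) (Lpe (f827630 IH) (Lpe (K60.f781739 IH) (Lpn (LP (LK LD1_c20 LD2_c51 LD3_c26))))))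
theorem f827636 : Led Lsl_bt (LP (LK LD1_c20 LD2_c51 LD3_c26)) = (LP (LK LD1_c12 LD2_c15 LD3_c14)) :=
  Leop (Lpr_bf (f827635 IH) (Lpn (LP (LK LD1_c20 LD2_c51 LD3_c26))))
theorem seed_1891 : LEOK LG_b (LK LD1_c20 LD2_c51 LD3_c26) :=
  Leoe_b (LK LD1_c20 LD2_c51 LD3_c26) (f827636 IH)
def v5401 : LQ := Led Lsl_ct (LP (LK LD1_c3 LD2_c7 LD3_c22))
def v25263 : LQ := Led Lsl_ft v5401
theorem f827789 : Led Lsl_ft v5401 = v25263 :=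
  Lrfl
theorem f827792 : Led Lsl_ff v5401 = v25263 :=
  Lgr Lrot3 (Lpr_ft (f827789 IH) (Lpn v25263))
theorem f647381 : Led Lsl_ct (LP (LK LD1_c3 LD2_c7 LD3_c22)) = v5401 :=
  Lrfl
def v1859 : LQ := Led Lsl_ct (LP (LK LD1_c1 LD2_c30 LD3_c9))
theorem f504607 : Led Lsl_ct (LP (LK LD1_c1 LD2_c30 LD3_c9)) = v1859 :=
  Lrfl
theorem f504608 : Led Lsl_cf (LP (LK LD1_c1 LD2_c30 LD3_c9)) = v1859 :=
  Lgr Lrot11 (Lpr_ct (f504607 IH) (Lpn v1859))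
theorem f647382 : Led Lsl_af v1859 = v5401 :=
  Lgr Lrot68 (Lpe (f504608 IH) (Lpr_at (K59.f435676 IH) (Lpr_ct (f647381 IH) (Lpn v5401))))
def v8153 : LQ := Led Lsl_gf v1859
theorem f670191 : Led Lsl_gf v1859 = v8153 :=
  Lrfl
theorem f827808 : Led Lsl_gf v8153 = v25263 :=
  Lgr Lrot47 (Lpe (f670191 IH) (Lpr_af (f647382 IH) (Lpr_ff (f827792 IH) (Lpn v25263))))
def v19409 : LQ := Led Lsl_bt (LP (LK LD1_c6 LD2_c42 LD3_c0))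
theorem f779593 : Led Lsl_bt (LP (LK LD1_c6 LD2_c42 LD3_c0)) = v19409 :=
  Lrfl
theorem f779594 : Led Lsl_bf (LP (LK LD1_c6 LD2_c42 LD3_c0)) = v19409 :=
  Lgr Lrot24 (Lpr_bt (f779593 IH) (Lpn v19409))
theorem f779600 : Led Lsl_cf v8153 = v19409 :=
  Lgr Lrot160 (Lpe (f670191 IH) (Lpe (f504607 IH) (Lpr_bt (K59.f154048 IH) (Lpr_gt (K9.f61837 IH) (Lpr_ct (K32.f67182 IH) (Lpr_gt (K32.f438506 IH) (Lpe (K32.f135702 IH) (Lpr_bt (K58.f134827 IH) (Lpr_gt (K48.f134820 IH) (Lpr_bf (f779594 IH) (Lpn v19409)))))))))))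
theorem f113281 : Led Lsl_ct (LP (LK LD1_c4 LD2_c47 LD3_c46)) = (LP (LK LD1_c9 LD2_c28 LD3_c33)) :=
  Lre_c IH (LK LD1_c4 LD2_c47 LD3_c46) (LK LD1_c9 LD2_c28 LD3_c33) Lrfl Lrfl
theorem f647383 : Led Lsl_cf (LP (LK LD1_c3 LD2_c7 LD3_c22)) = v5401 :=
  Lgr Lrot11 (Lpr_ct (f647381 IH) (Lpn v5401))
theorem f827807 : Led Lsl_ct K59.v5402 = v25263 :=
  Lgr Lrot40 (Lpe (K59.f647387 IH) (Lpr_cf (f647383 IH) (Lpr_ff (f827792 IH) (Lpn v25263))))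
theorem f647390 : Led Lsl_ff (LP (LK LD1_c3 LD2_c7 LD3_c22)) = K59.v5402 :=
  Lgr Lrot3 (Lpr_ft (K59.f647387 IH) (Lpn K59.v5402))
theorem f154049 : Led Lsl_at (LP (LK LD1_c3 LD2_c7 LD3_c22)) = (LP (LK LD1_c1 LD2_c30 LD3_c9)) :=
  Lre_a IH (LK LD1_c3 LD2_c7 LD3_c22) (LK LD1_c1 LD2_c30 LD3_c9) Lrfl Lrfl
theorem f647392 : Led Lsl_at K59.v1860 = K59.v5402 :=
  Lgr Lrot66 (Lpe (K59.f504614 IH) (Lpe (f154049 IH) (Lpr_ff (f647390 IH) (Lpn K59.v5402))))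
theorem f647395 : Led Lsl_gt (LP (LK LD1_c3 LD2_c7 LD3_c59)) = K59.v5402 :=
  Lgr Lrot46 (Lpe (K35.f131474 IH) (Lpr_ft (K59.f504614 IH) (Lpr_at (f647392 IH) (Lpn K59.v5402))))
theorem f827810 : Led Lsl_gt (LP (LK LD1_c9 LD2_c28 LD3_c33)) = (LP (LK LD1_c12 LD2_c15 LD3_c54)) :=
  Lgr Lrot65 (Lpe (f113281 IH) (Lpr_bt (K6.f135737 IH) (Lpe (K48.f24845 IH) (Lpr_bf (f779594 IH) (Lpe (f779600 IH) (Lpr_gf (f827808 IH) (Lpe (f827807 IH) (Lpe (f647395 IH) (Lpe (K59.f444019 IH) (Lpr_ct (K59.f444020 IH) (Lpn (LP (LK LD1_c12 LD2_c15 LD3_c54)))))))))))))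
theorem f827811 : Led Lsl_gt (LP (LK LD1_c9 LD2_c28 LD3_c33)) = (LP (LK LD1_c12 LD2_c15 LD3_c54)) :=
  Leop (Lpe (f827810 IH) (Lpn (LP (LK LD1_c9 LD2_c28 LD3_c33))))
theorem seed_1892 : LEOK LG_g (LK LD1_c9 LD2_c28 LD3_c33) :=
  Leoe_g (LK LD1_c9 LD2_c28 LD3_c33) (f827811 IH)
def v5501 : LQ := Led Lsl_dt (LP (LK LD1_c3 LD2_c8 LD3_c42))
def v25371 : LQ := Led Lsl_gt v5501
theorem f828241 : Led Lsl_gt v5501 = v25371 :=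
  Lrfl
theorem f647962 : Led Lsl_dt (LP (LK LD1_c3 LD2_c8 LD3_c42)) = v5501 :=
  Lrfl
theorem f436269 : Led Lsl_dt (LP (LK LD1_c5 LD2_c50 LD3_c30)) = (LP (LK LD1_c2 LD2_c51 LD3_c25)) :=
  Lre_d IH (LK LD1_c5 LD2_c50 LD3_c30) (LK LD1_c2 LD2_c51 LD3_c25) Lrfl Lrfl
theorem f647965 : Led Lsl_ff (LP (LK LD1_c5 LD2_c50 LD3_c30)) = v5501 :=
  Lgr Lrot19 (Lpr_dt (f436269 IH) (Lpr_ft (K42.f506197 IH) (Lpr_dt (f647962 IH) (Lpn v5501))))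
theorem f828242 : Led Lsl_gf (LP (LK LD1_c11 LD2_c28 LD3_c53)) = v25371 :=
  Lgr Lrot76 (Lpe (K35.f505053 IH) (Lpr_ff (f647965 IH) (Lpr_gt (f828241 IH) (Lpn v25371))))
theorem f505058 : Led Lsl_dt (LP (LK LD1_c5 LD2_c50 LD3_c28)) = (LP (LK LD1_c11 LD2_c28 LD3_c53)) :=
  Lre_d IH (LK LD1_c5 LD2_c50 LD3_c28) (LK LD1_c11 LD2_c28 LD3_c53) Lrfl Lrfl
theorem f505035 : Led Lsl_et (LP (LK LD1_c5 LD2_c50 LD3_c28)) = (LP (LK LD1_c11 LD2_c28 LD3_c54)) :=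
  Lre_e IH (LK LD1_c5 LD2_c50 LD3_c28) (LK LD1_c11 LD2_c28 LD3_c54) Lrfl Lrfl
theorem f82976 : Led Lsl_dt (LP (LK LD1_c3 LD2_c13 LD3_c12)) = (LP (LK LD1_c6 LD2_c30 LD3_c22)) :=
  Lre_d IH (LK LD1_c3 LD2_c13 LD3_c12) (LK LD1_c6 LD2_c30 LD3_c22) Lrfl Lrfl
theorem f140799 : Led Lsl_et (LP (LK LD1_c3 LD2_c13 LD3_c12)) = (LP (LK LD1_c6 LD2_c30 LD3_c23)) :=
  Lre_e IH (LK LD1_c3 LD2_c13 LD3_c12) (LK LD1_c6 LD2_c30 LD3_c23) Lrfl Lrfl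
theorem f83708 : Led Lsl_gt (LP (LK LD1_c6 LD2_c30 LD3_c23)) = (LP (LK LD1_c12 LD2_c30 LD3_c8)) :=
  Lre_g IH (LK LD1_c6 LD2_c30 LD3_c23) (LK LD1_c12 LD2_c30 LD3_c8) Lrfl Lrfl
theorem f623042 : Led Lsl_at (LP (LK LD1_c3 LD2_c21 LD3_c28)) = (LP (LK LD1_c4 LD2_c49 LD3_c52)) :=
  Lgr Lrot66 (Lpr_ff (K57.f623040 IH) (Lpe (K35.f622990 IH) (Lpr_ff (K35.f622978 IH) (Lpn (LP (LK LD1_c4 LD2_c49 LD3_c52))))))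
theorem f416651 : Led Lsl_at (LP (LK LD1_c12 LD2_c56 LD3_c36)) = (LP (LK LD1_c6 LD2_c46 LD3_c38)) :=
  Lre_a IH (LK LD1_c12 LD2_c56 LD3_c36) (LK LD1_c6 LD2_c46 LD3_c38) Lrfl Lrfl
theorem f415053 : Led Lsl_bt (LP (LK LD1_c4 LD2_c49 LD3_c52)) = (LP (LK LD1_c9 LD2_c32 LD3_c20)) :=
  Lre_b IH (LK LD1_c4 LD2_c49 LD3_c52) (LK LD1_c9 LD2_c32 LD3_c20) Lrfl Lrfl
theorem f623072 : Led Lsl_at (LP (LK LD1_c9 LD2_c32 LD3_c20)) = (LP (LK LD1_c17 LD2_c34 LD3_c38)) :=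
  Lre_a IH (LK LD1_c9 LD2_c32 LD3_c20) (LK LD1_c17 LD2_c34 LD3_c38) Lrfl Lrfl
theorem f623073 : Led Lsl_bf (LP (LK LD1_c12 LD2_c56 LD3_c36)) = (LP (LK LD1_c17 LD2_c34 LD3_c38)) :=
  Lgr Lrot81 (Lpr_at (f416651 IH) (Lpr_bt (K42.f416422 IH) (Lpr_at (f623042 IH) (Lpr_bt (f415053 IH) (Lpr_at (f623072 IH) (Lpn (LP (LK LD1_c17 LD2_c34 LD3_c38))))))))
theorem f416644 : Led Lsl_at (LP (LK LD1_c6 LD2_c46 LD3_c38)) = (LP (LK LD1_c12 LD2_c56 LD3_c36)) :=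
  Lre_a IH (LK LD1_c6 LD2_c46 LD3_c38) (LK LD1_c12 LD2_c56 LD3_c36) Lrfl Lrfl
theorem f623050 : Led Lsl_at (LP (LK LD1_c17 LD2_c34 LD3_c35)) = (LP (LK LD1_c9 LD2_c32 LD3_c18)) :=
  Lre_a IH (LK LD1_c17 LD2_c34 LD3_c35) (LK LD1_c9 LD2_c32 LD3_c18) Lrfl Lrfl
theorem f623051 : Led Lsl_ft (LP (LK LD1_c12 LD2_c56 LD3_c36)) = (LP (LK LD1_c17 LD2_c34 LD3_c35)) :=
  Lgr Lrot101 (Lpe (f416644 IH) (Lpr_ff (K57.f623048 IH) (Lpe (f623050 IH) (Lpn (LP (LK LD1_c17 LD2_c34 LD3_c35))))))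
theorem f414205 : Led Lsl_at (LP (LK LD1_c12 LD2_c56 LD3_c30)) = (LP (LK LD1_c6 LD2_c46 LD3_c35)) :=
  Lre_a IH (LK LD1_c12 LD2_c56 LD3_c30) (LK LD1_c6 LD2_c46 LD3_c35) Lrfl Lrfl
theorem f622994 : Led Lsl_at (LP (LK LD1_c9 LD2_c32 LD3_c18)) = (LP (LK LD1_c17 LD2_c34 LD3_c35)) :=
  Lre_a IH (LK LD1_c9 LD2_c32 LD3_c18) (LK LD1_c17 LD2_c34 LD3_c35) Lrfl Lrfl
theorem f622995 : Led Lsl_bf (LP (LK LD1_c12 LD2_c56 LD3_c30)) = (LP (LK LD1_c17 LD2_c34 LD3_c35)) :=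
  Lgr Lrot81 (Lpr_at (f414205 IH) (Lpr_bt (K58.f414135 IH) (Lpr_at (K35.f622990 IH) (Lpr_bt (K57.f416752 IH) (Lpr_at (f622994 IH) (Lpn (LP (LK LD1_c17 LD2_c34 LD3_c35))))))))
theorem f623077 : Led Lsl_ft (LP (LK LD1_c12 LD2_c56 LD3_c30)) = (LP (LK LD1_c17 LD2_c34 LD3_c38)) :=
  Lgr Lrot75 (Lpr_bf (f622995 IH) (Lpe (f623051 IH) (Lpr_bf (f623073 IH) (Lpn (LP (LK LD1_c17 LD2_c34 LD3_c38))))))
theorem f623079 : Led Lsl_at (LP (LK LD1_c17 LD2_c34 LD3_c38)) = (LP (LK LD1_c9 LD2_c32 LD3_c20)) :=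
  Lre_a IH (LK LD1_c17 LD2_c34 LD3_c38) (LK LD1_c9 LD2_c32 LD3_c20) Lrfl Lrfl
theorem f767321 : Led Lsl_gf (LP (LK LD1_c9 LD2_c32 LD3_c20)) = (LP (LK LD1_c6 LD2_c51 LD3_c12)) :=
  Lgr Lrot76 (Lpe (f623079 IH) (Lpe (f623077 IH) (Lpr_gt (K58.f767319 IH) (Lpn (LP (LK LD1_c6 LD2_c51 LD3_c12))))))
theorem f623080 : Led Lsl_ff (LP (LK LD1_c6 LD2_c46 LD3_c35)) = (LP (LK LD1_c9 LD2_c32 LD3_c20)) :=
  Lgr Lrot30 (Lpr_at (K58.f414185 IH) (Lpr_ft (f623077 IH) (Lpr_at (f623079 IH) (Lpn (LP (LK LD1_c9 LD2_c32 LD3_c20))))))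
theorem f413600 : Led Lsl_bt (LP (LK LD1_c3 LD2_c21 LD3_c27)) = (LP (LK LD1_c6 LD2_c46 LD3_c35)) :=
  Lre_b IH (LK LD1_c3 LD2_c21 LD3_c27) (LK LD1_c6 LD2_c46 LD3_c35) Lrfl Lrfl
theorem f414107 : Led Lsl_bt (LP (LK LD1_c5 LD2_c51 LD3_c60)) = (LP (LK LD1_c2 LD2_c52 LD3_c15)) :=
  Lre_b IH (LK LD1_c5 LD2_c51 LD3_c60) (LK LD1_c2 LD2_c52 LD3_c15) Lrfl Lrfl
theorem f414108 : Led Lsl_dt (LP (LK LD1_c6 LD2_c46 LD3_c35)) = (LP (LK LD1_c5 LD2_c51 LD3_c60)) :=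
  Lgr Lrot79 (Lpe (f413600 IH) (Lpr_df (K17.f414095 IH) (Lpe (f414107 IH) (Lpn (LP (LK LD1_c5 LD2_c51 LD3_c60))))))
theorem f414192 : Led Lsl_ft (LP (LK LD1_c5 LD2_c51 LD3_c60)) = (LP (LK LD1_c11 LD2_c31 LD3_c3)) :=
  Lre_f IH (LK LD1_c5 LD2_c51 LD3_c60) (LK LD1_c11 LD2_c31 LD3_c3) Lrfl Lrfl
theorem f623088 : Led Lsl_dt (LP (LK LD1_c11 LD2_c31 LD3_c3)) = (LP (LK LD1_c9 LD2_c32 LD3_c20)) :=
  Lgr Lrot60 (Lpe (f414192 IH) (Lpe (f414108 IH) (Lpr_ff (f623080 IH) (Lpn (LP (LK LD1_c9 LD2_c32 LD3_c20))))))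
theorem f416676 : Led Lsl_bt (LP (LK LD1_c5 LD2_c52 LD3_c0)) = (LP (LK LD1_c11 LD2_c31 LD3_c3)) :=
  Lre_b IH (LK LD1_c5 LD2_c52 LD3_c0) (LK LD1_c11 LD2_c31 LD3_c3) Lrfl Lrfl
theorem f623461 : Led Lsl_et (LP (LK LD1_c11 LD2_c31 LD3_c3)) = (LP (LK LD1_c11 LD2_c28 LD3_c47)) :=
  Lgr Lrot74 (Lpe (f416676 IH) (Lpr_ef (K35.f622966 IH) (Lpe (K52.f615356 IH) (Lpn (LP (LK LD1_c11 LD2_c28 LD3_c47))))))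
theorem f615349 : Led Lsl_gt (LP (LK LD1_c11 LD2_c28 LD3_c47)) = (LP (LK LD1_c20 LD2_c26 LD3_c4)) :=
  Lre_g IH (LK LD1_c11 LD2_c28 LD3_c47) (LK LD1_c20 LD2_c26 LD3_c4) Lrfl Lrfl
theorem f413905 : Led Lsl_at (LP (LK LD1_c3 LD2_c59 LD3_c52)) = (LP (LK LD1_c8 LD2_c0 LD3_c24)) :=
  Lre_a IH (LK LD1_c3 LD2_c59 LD3_c52) (LK LD1_c8 LD2_c0 LD3_c24) Lrfl Lrfl
theorem f413906 : Led Lsl_ef (LP (LK LD1_c6 LD2_c46 LD3_c27)) = (LP (LK LD1_c8 LD2_c0 LD3_c24)) :=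
  Lgr Lrot20 (Lpr_at (K60.f413869 IH) (Lpr_et (K17.f413896 IH) (Lpr_at (f413905 IH) (Lpn (LP (LK LD1_c8 LD2_c0 LD3_c24))))))
theorem f414046 : Led Lsl_gt (LP (LK LD1_c7 LD2_c59 LD3_c42)) = (LP (LK LD1_c15 LD2_c4 LD3_c12)) :=
  Lre_g IH (LK LD1_c7 LD2_c59 LD3_c42) (LK LD1_c15 LD2_c4 LD3_c12) Lrfl Lrfl
theorem f741657 : Led Lsl_df (LP (LK LD1_c7 LD2_c59 LD3_c42)) = (LP (LK LD1_c12 LD2_c30 LD3_c8)) :=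
  Lgr Lrot135 (Lpr_gt (f414046 IH) (Lpe (K32.f40246 IH) (Lpe (f413906 IH) (Lpr_gt (K54.f415156 IH) (Lpe (f101710 IH) (Lpr_dt (K55.f741650 IH) (Lpr_gt (K55.f641801 IH) (Lpe (f82976 IH) (Lpr_et (f140799 IH) (Lpr_gt (f83708 IH) (Lpn (LP (LK LD1_c12 LD2_c30 LD3_c8)))))))))))))
theorem f767324 : Led Lsl_ef (LP (LK LD1_c20 LD2_c26 LD3_c4)) = (LP (LK LD1_c12 LD2_c30 LD3_c8)) :=
  Lgr Lrot17 (Lpe (f615349 IH) (Lpe (f623461 IH) (Lpr_dt (f623088 IH) (Lpr_gf (f767321 IH) (Lpe (K58.f415159 IH) (Lpe (K54.f415156 IH) (Lpr_ef (f413906 IH) (Lpr_dt (K32.f40246 IH) (Lpe (f414046 IH) (Lpr_df (f741657 IH) (Lpn (LP (LK LD1_c12 LD2_c30 LD3_c8)))))))))))))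
theorem f767326 : Led Lsl_et (LP (LK LD1_c20 LD2_c26 LD3_c4)) = (LP (LK LD1_c12 LD2_c30 LD3_c8)) :=
  Lgr Lrot87 (Lpr_ef (f767324 IH) (Lpn (LP (LK LD1_c12 LD2_c30 LD3_c8))))
theorem f828243 : Led Lsl_dt (LP (LK LD1_c20 LD2_c26 LD3_c4)) = v25371 :=
  Lgr Lrot136 (Lpr_et (f767326 IH) (Lpe (f83708 IH) (Lpe (f140799 IH) (Lpr_dt (f82976 IH) (Lpe (K55.f641801 IH) (Lpe (K55.f741650 IH) (Lpe (f747886 IH) (Lpe (f505035 IH) (Lpr_dt (f505058 IH) (Lpr_gf (f828242 IH) (Lpn v25371)))))))))))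
theorem f828244 : Led Lsl_df (LP (LK LD1_c20 LD2_c26 LD3_c4)) = v25371 :=
  Lgr Lrot38 (Lpr_dt (f828243 IH) (Lpn v25371))
theorem f157811 : Led Lsl_dt (LP (LK LD1_c8 LD2_c0 LD3_c36)) = (LP (LK LD1_c3 LD2_c59 LD3_c46)) :=
  Lre_d IH (LK LD1_c8 LD2_c0 LD3_c36) (LK LD1_c3 LD2_c59 LD3_c46) Lrfl Lrfl
theorem f539772 : Led Lsl_ef (LP (LK LD1_c8 LD2_c0 LD3_c36)) = (LP (LK LD1_c4 LD2_c59 LD3_c30)) :=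
  Lgr Lrot73 (Lpr_dt (f157811 IH) (Lpr_et (K60.f40690 IH) (Lpr_dt (K8.f157800 IH) (Lpr_et (K36.f157812 IH) (Lpqs (K36.f539757 IH) (Lpe (K44.f497431 IH) (Lpn (LP (LK LD1_c4 LD2_c59 LD3_c30)))))))))
theorem f757849 : Led Lsl_gf (LP (LK LD1_c9 LD2_c48 LD3_c12)) = (LP (LK LD1_c11 LD2_c24 LD3_c27)) :=
  Lgr Lrot76 (Lpr_af (K57.f496478 IH) (Lpe (K53.f22796 IH) (Lpr_gt (K57.f757847 IH) (Lpn (LP (LK LD1_c11 LD2_c24 LD3_c27))))))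
theorem f828245 : Led Lsl_ef (LP (LK LD1_c11 LD2_c24 LD3_c27)) = v25371 :=
  Lgr Lrot114 (Lpe (f757849 IH) (Lpe (K32.f138848 IH) (Lpe (K8.f138827 IH) (Lpr_gt (K32.f496262 IH) (Lpr_df (K44.f497461 IH) (Lpe (f539772 IH) (Lpe (K60.f615346 IH) (Lpr_dt (K49.f615348 IH) (Lpr_gt (f615349 IH) (Lpr_df (f828244 IH) (Lpn v25371)))))))))))
theorem f828247 : Led Lsl_et (LP (LK LD1_c11 LD2_c24 LD3_c27)) = v25371 :=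
  Lgr Lrot87 (Lpr_ef (f828245 IH) (Lpn v25371))
theorem f741595 : Led Lsl_bt (LP (LK LD1_c5 LD2_c47 LD3_c6)) = (LP (LK LD1_c11 LD2_c24 LD3_c27)) :=
  Lre_b IH (LK LD1_c5 LD2_c47 LD3_c6) (LK LD1_c11 LD2_c24 LD3_c27) Lrfl Lrfl
theorem f74432 : Led Lsl_et (LP (LK LD1_c11 LD2_c24 LD3_c30)) = (LP (LK LD1_c5 LD2_c47 LD3_c6)) :=
  Lre_e IH (LK LD1_c11 LD2_c24 LD3_c30) (LK LD1_c5 LD2_c47 LD3_c6) Lrfl Lrfl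
theorem f828248 : Led Lsl_bf (LP (LK LD1_c11 LD2_c24 LD3_c30)) = v25371 :=
  Lgr Lrot96 (Lpr_et (f74432 IH) (Lpr_bt (f741595 IH) (Lpr_et (f828247 IH) (Lpn v25371))))
theorem f719173 : Led Lsl_dt (LP (LK LD1_c11 LD2_c24 LD3_c30)) = (LP (LK LD1_c11 LD2_c29 LD3_c3)) :=
  Lgr Lrot56 (Lpr_et (f74432 IH) (Lpr_gt (K57.f61437 IH) (Lpe (K2.f74438 IH) (Lpr_dt (K2.f72454 IH) (Lpr_gt (K4.f60930 IH) (Lpr_df (K4.f80023 IH) (Lpr_et (K42.f26392 IH) (Lpqs (K46.f643532 IH) (Lpe (K46.f640673 IH) (Lpr_dt (K35.f505042 IH) (Lpr_gt (K53.f719171 IH) (Lpn (LP (LK LD1_c11 LD2_c29 LD3_c3))))))))))))))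
theorem f828249 : Led Lsl_bt (LP (LK LD1_c11 LD2_c29 LD3_c3)) = (LP (LK LD1_c20 LD2_c26 LD3_c4)) :=
  Lgr Lrot95 (Lpe (f719173 IH) (Lpr_bf (f828248 IH) (Lpe (f828243 IH) (Lpn (LP (LK LD1_c20 LD2_c26 LD3_c4))))))
theorem f828250 : Led Lsl_bt (LP (LK LD1_c11 LD2_c29 LD3_c3)) = (LP (LK LD1_c20 LD2_c26 LD3_c4)) :=
  Leop (Lpe (f828249 IH) (Lpn (LP (LK LD1_c11 LD2_c29 LD3_c3))))
theorem seed_1893 : LEOK LG_b (LK LD1_c11 LD2_c29 LD3_c3) :=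
  Leoe_b (LK LD1_c11 LD2_c29 LD3_c3) (f828250 IH)
def v25372 : LQ := Led Lsl_gf v5501
theorem f828271 : Led Lsl_gf v5501 = v25372 :=
  Lrfl
def v17770 : LQ := Led Lsl_dt (LP (LK LD1_c6 LD2_c22 LD3_c2))
theorem f762099 : Led Lsl_dt (LP (LK LD1_c6 LD2_c22 LD3_c2)) = v17770 :=
  Lrfl
theorem f647964 : Led Lsl_df (LP (LK LD1_c3 LD2_c8 LD3_c42)) = v5501 :=
  Lgr Lrot38 (Lpr_dt (f647962 IH) (Lpn v5501))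
theorem f762100 : Led Lsl_af v5501 = v17770 :=
  Lgr Lrot117 (Lpe (f647964 IH) (Lpr_at (K42.f504681 IH) (Lpr_dt (f762099 IH) (Lpn v17770))))
theorem f762103 : Led Lsl_ff (LP (LK LD1_c11 LD2_c28 LD3_c53)) = v17770 :=
  Lgr Lrot19 (Lpr_dt (K35.f505041 IH) (Lpr_ft (K45.f506191 IH) (Lpr_dt (f762099 IH) (Lpn v17770))))
theorem f762106 : Led Lsl_ft (LP (LK LD1_c11 LD2_c28 LD3_c53)) = v17770 :=
  Lgr Lrot48 (Lpr_ff (f762103 IH) (Lpn v17770))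
theorem f828272 : Led Lsl_gt (LP (LK LD1_c11 LD2_c28 LD3_c53)) = v25372 :=
  Lgr Lrot5 (Lpr_ft (f762106 IH) (Lpe (f762100 IH) (Lpr_gf (f828271 IH) (Lpn v25372))))
def v19770 : LQ := Led Lsl_ft (LP (LK LD1_c6 LD2_c46 LD3_c25))
theorem f782040 : Led Lsl_ft (LP (LK LD1_c6 LD2_c46 LD3_c25)) = v19770 :=
  Lrfl
theorem f785160 : (LP (LK LD1_c3 LD2_c24 LD3_c4)) = v19770 :=
  Lefun (Lecon (Lfl_ff (f654364 IH)) (f785150 IH)) (f782040 IH)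
def v20162 : LQ := Led Lsl_ft (LP (LK LD1_c6 LD2_c51 LD3_c9))
theorem f785125 : Led Lsl_ft (LP (LK LD1_c6 LD2_c51 LD3_c9)) = v20162 :=
  Lrfl
theorem f785254 : Led Lsl_ef (LP (LK LD1_c17 LD2_c16 LD3_c37)) = v20162 :=
  Lgr Lrot21 (Lpr_ft (f785253 IH) (Lpe (f782036 IH) (Lpr_ft (f782040 IH) (Lpq (f785160 IH) (Lpr_et (K60.f654356 IH) (Lpr_ft (f785125 IH) (Lpn v20162)))))))
theorem f69052 : Led Lsl_et (LP (LK LD1_c1 LD2_c38 LD3_c17)) = (LP (LK LD1_c3 LD2_c23 LD3_c61)) :=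
  Lre_e IH (LK LD1_c1 LD2_c38 LD3_c17) (LK LD1_c3 LD2_c23 LD3_c61) Lrfl Lrfl
theorem f73841 : Led Lsl_et (LP (LK LD1_c11 LD2_c30 LD3_c49)) = (LP (LK LD1_c5 LD2_c51 LD3_c46)) :=
  Lre_e IH (LK LD1_c11 LD2_c30 LD3_c49) (LK LD1_c5 LD2_c51 LD3_c46) Lrfl Lrfl
theorem f828273 : Led Lsl_dt (LP (LK LD1_c11 LD2_c30 LD3_c49)) = v25372 :=
  Lgr Lrot56 (Lpr_et (f73841 IH) (Lpr_gt (K54.f73840 IH) (Lpe (K52.f73822 IH) (Lpe (K2.f73819 IH) (Lpr_gt (K4.f60852 IH) (Lpr_df (K60.f79931 IH) (Lpr_et (f69052 IH) (Lpe (K45.f643387 IH) (Lpr_dt (f505058 IH) (Lpr_gt (f828272 IH) (Lpn v25372)))))))))))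
theorem f73861 : Led Lsl_gt (LP (LK LD1_c5 LD2_c51 LD3_c47)) = (LP (LK LD1_c11 LD2_c30 LD3_c50)) :=
  Lre_g IH (LK LD1_c5 LD2_c51 LD3_c47) (LK LD1_c11 LD2_c30 LD3_c50) Lrfl Lrfl
theorem f828274 : Led Lsl_dt v20162 = (LP (LK LD1_c11 LD2_c30 LD3_c50)) :=
  Lgr Lrot56 (Lpe (f785254 IH) (Lpe (f505065 IH) (Lpe (f505035 IH) (Lpr_dt (f505058 IH) (Lpr_gt (f828272 IH) (Lpe (f828273 IH) (Lpr_et (f73841 IH) (Lpr_gt (K54.f73840 IH) (Lpr_dt (K60.f73871 IH) (Lpr_gt (f73861 IH) (Lpn (LP (LK LD1_c11 LD2_c30 LD3_c50)))))))))))))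
theorem f828276 : Led Lsl_ff (LP (LK LD1_c13 LD2_c2 LD3_c14)) = (LP (LK LD1_c11 LD2_c30 LD3_c50)) :=
  Lgr Lrot19 (Lpr_dt (K60.f138007 IH) (Lpr_ft (f785125 IH) (Lpr_dt (f828274 IH) (Lpn (LP (LK LD1_c11 LD2_c30 LD3_c50))))))
theorem f828277 : Led Lsl_ft (LP (LK LD1_c11 LD2_c30 LD3_c50)) = (LP (LK LD1_c13 LD2_c2 LD3_c14)) :=
  Leop (Lpr_ff (f828276 IH) (Lpn (LP (LK LD1_c11 LD2_c30 LD3_c50))))
theorem seed_1894 : LEOK LG_f (LK LD1_c11 LD2_c30 LD3_c50) :=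
  Leoe_f (LK LD1_c11 LD2_c30 LD3_c50) (f828277 IH)
def v5564 : LQ := Led Lsl_et (LP (LK LD1_c3 LD2_c10 LD3_c21))
def v25452 : LQ := Led Lsl_ft v5564
theorem f828727 : Led Lsl_ft v5564 = v25452 :=
  Lrfl
theorem f828731 : Led Lsl_ff v5564 = v25452 :=
  Lgr Lrot3 (Lpr_ft (f828727 IH) (Lpn v25452))
theorem f648273 : Led Lsl_et (LP (LK LD1_c3 LD2_c10 LD3_c21)) = v5564 :=
  Lrfl
theorem f496177 : Led Lsl_af (LP (LK LD1_c3 LD2_c5 LD3_c46)) = K38.v1540 :=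
  Lgr Lrot68 (Lpr_ct (K36.f186037 IH) (Lpr_at (K37.f450132 IH) (Lpr_ct (K38.f496176 IH) (Lpn K38.v1540))))
theorem f540212 : Led Lsl_at (LP (LK LD1_c2 LD2_c51 LD3_c16)) = (LP (LK LD1_c3 LD2_c10 LD3_c21)) :=
  Lgr Lrot51 (Lpr_df (K36.f540209 IH) (Lpr_af (f496177 IH) (Lpe (K38.f496180 IH) (Lpn (LP (LK LD1_c3 LD2_c10 LD3_c21))))))
theorem f540211 : Led Lsl_et (LP (LK LD1_c5 LD2_c50 LD3_c12)) = (LP (LK LD1_c2 LD2_c51 LD3_c16)) :=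
  Lre_e IH (LK LD1_c5 LD2_c50 LD3_c12) (LK LD1_c2 LD2_c51 LD3_c16) Lrfl Lrfl
theorem f648274 : Led Lsl_af (LP (LK LD1_c5 LD2_c50 LD3_c12)) = v5564 :=
  Lgr Lrot50 (Lpr_et (f540211 IH) (Lpr_at (f540212 IH) (Lpr_et (f648273 IH) (Lpn v5564))))
theorem f828735 : Led Lsl_gf K57.v15929 = v25452 :=
  Lgr Lrot47 (Lpe (K57.f744254 IH) (Lpr_af (f648274 IH) (Lpr_ff (f828731 IH) (Lpn v25452))))
def v13043 : LQ := Led Lsl_ct (LP (LK LD1_c4 LD2_c38 LD3_c19))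
theorem f700703 : Led Lsl_ct (LP (LK LD1_c4 LD2_c38 LD3_c19)) = v13043 :=
  Lrfl
theorem f700704 : Led Lsl_cf (LP (LK LD1_c4 LD2_c38 LD3_c19)) = v13043 :=
  Lgr Lrot11 (Lpr_ct (f700703 IH) (Lpn v13043))
theorem f744252 : Led Lsl_ff v13043 = K57.v15928 :=
  Lgr Lrot23 (Lpe (f700704 IH) (Lpr_ft (K56.f700706 IH) (Lpqs (K56.f719584 IH) (Lpr_ct (K57.f744250 IH) (Lpn K57.v15928)))))
theorem f764220 : Led Lsl_af K57.v15929 = v13043 :=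
  Lgr Lrot45 (Lpr_ft (K57.f764219 IH) (Lpe (K57.f764213 IH) (Lpe (f744252 IH) (Lpn v13043))))
theorem f828736 : Led Lsl_gt K57.v15928 = v25452 :=
  Lgr Lrot5 (Lpe (f744252 IH) (Lpe (f764220 IH) (Lpr_gf (f828735 IH) (Lpn v25452))))
def v5025 : LQ := Led Lsl_gf (LP (LK LD1_c2 LD2_c56 LD3_c4))
theorem f641371 : Led Lsl_gf (LP (LK LD1_c2 LD2_c56 LD3_c4)) = v5025 :=
  Lrfl
def v24851 : LQ := Led Lsl_ct v5025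
theorem f825882 : Led Lsl_ct v5025 = v24851 :=
  Lrfl
theorem f825883 : Led Lsl_cf v5025 = v24851 :=
  Lgr Lrot11 (Lpr_ct (f825882 IH) (Lpn v24851))
theorem f648275 : Led Lsl_cf (LP (LK LD1_c4 LD2_c33 LD3_c60)) = v5564 :=
  Lgr Lrot39 (Lpr_et (K50.f203174 IH) (Lpq (K38.f537296 IH) (Lpe (K38.f494278 IH) (Lpr_et (f648273 IH) (Lpn v5564)))))
theorem f828733 : Led Lsl_ct K51.v12887 = v25452 :=
  Lgr Lrot40 (Lpe (K51.f698832 IH) (Lpr_cf (f648275 IH) (Lpr_ff (f828731 IH) (Lpn v25452))))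
theorem f749582 : Led Lsl_bt K51.v12887 = K56.v16460 :=
  Lgr Lrot35 (Lpe (K51.f698832 IH) (Lpe (K50.f58876 IH) (Lpr_ff (K56.f749580 IH) (Lpn K56.v16460))))
theorem f828737 : Led Lsl_gf v24851 = K56.v16460 :=
  Lgr Lrot181 (Lpe (f825883 IH) (Lpe (f641371 IH) (Lpe (K24.f74627 IH) (Lpr_bt (K24.f415603 IH) (Lpr_gt (K36.f116949 IH) (Lpe (K57.f444597 IH) (Lpr_ct (K57.f744250 IH) (Lpr_gt (f828736 IH) (Lpe (f828733 IH) (Lpr_bt (f749582 IH) (Lpn K56.v16460)))))))))))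
theorem f828738 : Led Lsl_gt v24851 = K56.v16335 :=
  Lgr Lrot46 (Lpr_gf (f828737 IH) (Lpe (K56.f749580 IH) (Lpr_at (K56.f748823 IH) (Lpn K56.v16335))))
theorem f500834 : Led Lsl_at (LP (LK LD1_c1 LD2_c24 LD3_c8)) = (LP (LK LD1_c2 LD2_c56 LD3_c4)) :=
  Lre_a IH (LK LD1_c1 LD2_c24 LD3_c8) (LK LD1_c2 LD2_c56 LD3_c4) Lrfl Lrfl
theorem f641372 : Led Lsl_ft (LP (LK LD1_c2 LD2_c56 LD3_c45)) = (LP (LK LD1_c1 LD2_c24 LD3_c8)) :=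
  Lre_f IH (LK LD1_c2 LD2_c56 LD3_c45) (LK LD1_c1 LD2_c24 LD3_c8) Lrfl Lrfl
theorem f641373 : Led Lsl_gt (LP (LK LD1_c2 LD2_c56 LD3_c45)) = v5025 :=
  Lgr Lrot5 (Lpr_ft (f641372 IH) (Lpr_at (f500834 IH) (Lpr_gf (f641371 IH) (Lpn v5025))))
theorem f105082 : Led Lsl_dt (LP (LK LD1_c2 LD2_c56 LD3_c45)) = (LP (LK LD1_c6 LD2_c0 LD3_c61)) :=
  Lre_d IH (LK LD1_c2 LD2_c56 LD3_c45) (LK LD1_c6 LD2_c0 LD3_c61) Lrfl Lrfl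
theorem f105081 : Led Lsl_gt (LP (LK LD1_c6 LD2_c0 LD3_c61)) = (LP (LK LD1_c11 LD2_c43 LD3_c28)) :=
  Lre_g IH (LK LD1_c6 LD2_c0 LD3_c61) (LK LD1_c11 LD2_c43 LD3_c28) Lrfl Lrfl
theorem f105072 : Led Lsl_ct (LP (LK LD1_c11 LD2_c43 LD3_c28)) = (LP (LK LD1_c20 LD2_c44 LD3_c32)) :=
  Lre_c IH (LK LD1_c11 LD2_c43 LD3_c28) (LK LD1_c20 LD2_c44 LD3_c32) Lrfl Lrfl
theorem f150411 : Led Lsl_ct (LP (LK LD1_c20 LD2_c45 LD3_c9)) = (LP (LK LD1_c11 LD2_c44 LD3_c0)) :=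
  Lre_c IH (LK LD1_c20 LD2_c45 LD3_c9) (LK LD1_c11 LD2_c44 LD3_c0) Lrfl Lrfl
theorem f828739 : Led Lsl_gt (LP (LK LD1_c20 LD2_c44 LD3_c32)) = (LP (LK LD1_c20 LD2_c45 LD3_c9)) :=
  Lgr Lrot150 (Lpe (f105072 IH) (Lpe (f105081 IH) (Lpe (f105082 IH) (Lpr_gt (f641373 IH) (Lpr_ct (f825882 IH) (Lpr_gt (f828738 IH) (Lpe (K56.f748821 IH) (Lpe (K53.f150416 IH) (Lpe (f150411 IH) (Lpn (LP (LK LD1_c20 LD2_c45 LD3_c9))))))))))))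
theorem f828740 : Led Lsl_gt (LP (LK LD1_c20 LD2_c44 LD3_c32)) = (LP (LK LD1_c20 LD2_c45 LD3_c9)) :=
  Leop (Lpe (f828739 IH) (Lpn (LP (LK LD1_c20 LD2_c44 LD3_c32))))
theorem seed_1895 : LEOK LG_g (LK LD1_c20 LD2_c44 LD3_c32) :=
  Leoe_g (LK LD1_c20 LD2_c44 LD3_c32) (f828740 IH)
def v25466 : LQ := Led Lsl_bt K46.v5577
theorem f828834 : Led Lsl_bt K46.v5577 = v25466 :=
  Lrfl
theorem f102148 : Led Lsl_bt (LP (LK LD1_c12 LD2_c11 LD3_c7)) = (LP (LK LD1_c6 LD2_c17 LD3_c19)) :=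
  Lre_b IH (LK LD1_c12 LD2_c11 LD3_c7) (LK LD1_c6 LD2_c17 LD3_c19) Lrfl Lrfl
theorem f828836 : Led Lsl_cf (LP (LK LD1_c12 LD2_c11 LD3_c7)) = v25466 :=
  Lgr Lrot97 (Lpr_bt (f102148 IH) (Lpr_ct (K4.f99121 IH) (Lpr_bt (K57.f102141 IH) (Lpr_ct (K46.f648327 IH) (Lpr_bt (f828834 IH) (Lpn v25466))))))
theorem f99125 : Led Lsl_gt (LP (LK LD1_c21 LD2_c16 LD3_c22)) = (LP (LK LD1_c12 LD2_c11 LD3_c7)) :=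
  Lre_g IH (LK LD1_c21 LD2_c16 LD3_c22) (LK LD1_c12 LD2_c11 LD3_c7) Lrfl Lrfl
theorem f828835 : Led Lsl_bf K46.v5577 = v25466 :=
  Lgr Lrot24 (Lpr_bt (f828834 IH) (Lpn v25466))
theorem f134381 : Led Lsl_ft (LP (LK LD1_c2 LD2_c18 LD3_c18)) = (LP (LK LD1_c4 LD2_c41 LD3_c61)) :=
  Lre_f IH (LK LD1_c2 LD2_c18 LD3_c18) (LK LD1_c4 LD2_c41 LD3_c61) Lrfl Lrfl
theorem f154459 : Led Lsl_bf (LP (LK LD1_c6 LD2_c48 LD3_c48)) = (LP (LK LD1_c4 LD2_c41 LD3_c61)) :=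
  Lgr Lrot61 (Lpr_ft (K16.f154445 IH) (Lpr_bt (K57.f131356 IH) (Lpr_ft (f134381 IH) (Lpn (LP (LK LD1_c4 LD2_c41 LD3_c61))))))
theorem f152664 : Led Lsl_gt (LP (LK LD1_c6 LD2_c48 LD3_c48)) = (LP (LK LD1_c12 LD2_c59 LD3_c54)) :=
  Lre_g IH (LK LD1_c6 LD2_c48 LD3_c48) (LK LD1_c12 LD2_c59 LD3_c54) Lrfl Lrfl
theorem f154469 : Led Lsl_bt (LP (LK LD1_c22 LD2_c9 LD3_c56)) = (LP (LK LD1_c12 LD2_c59 LD3_c54)) :=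
  Lre_b IH (LK LD1_c22 LD2_c9 LD3_c56) (LK LD1_c12 LD2_c59 LD3_c54) Lrfl Lrfl
theorem f828840 : Led Lsl_cf (LP (LK LD1_c21 LD2_c16 LD3_c22)) = (LP (LK LD1_c22 LD2_c9 LD3_c56)) :=
  Lgr Lrot160 (Lpr_gt (f99125 IH) (Lpr_cf (f828836 IH) (Lpe (f828835 IH) (Lpe (K46.f648324 IH) (Lpr_ct (K6.f109185 IH) (Lpr_gt (K7.f152628 IH) (Lpe (K60.f104635 IH) (Lpe (f154459 IH) (Lpr_gt (f152664 IH) (Lpe (f154469 IH) (Lpn (LP (LK LD1_c22 LD2_c9 LD3_c56)))))))))))))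
theorem f828841 : Led Lsl_ct (LP (LK LD1_c22 LD2_c9 LD3_c56)) = (LP (LK LD1_c21 LD2_c16 LD3_c22)) :=
  Leop (Lpr_cf (f828840 IH) (Lpn (LP (LK LD1_c22 LD2_c9 LD3_c56))))
theorem seed_1896 : LEOK LG_c (LK LD1_c22 LD2_c9 LD3_c56) :=
  Leoe_c (LK LD1_c22 LD2_c9 LD3_c56) (f828841 IH)
def v5606 : LQ := Led Lsl_et (LP (LK LD1_c3 LD2_c10 LD3_c52))
def v25522 : LQ := Led Lsl_dt v5606
theorem f829083 : Led Lsl_dt v5606 = v25522 :=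
  Lrfl
theorem f648485 : Led Lsl_et (LP (LK LD1_c3 LD2_c10 LD3_c52)) = v5606 :=
  Lrfl
theorem f648486 : Led Lsl_ef (LP (LK LD1_c3 LD2_c10 LD3_c52)) = v5606 :=
  Lgr Lrot88 (Lpr_et (f648485 IH) (Lpn v5606))
def v5614 : LQ := Led Lsl_et (LP (LK LD1_c3 LD2_c10 LD3_c58))
theorem f648531 : Led Lsl_et (LP (LK LD1_c3 LD2_c10 LD3_c58)) = v5614 :=
  Lrfl
theorem f648533 : Led Lsl_ef (LP (LK LD1_c3 LD2_c10 LD3_c58)) = v5614 :=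
  Lgr Lrot88 (Lpr_et (f648531 IH) (Lpn v5614))
def v5632 : LQ := Led Lsl_at (LP (LK LD1_c3 LD2_c11 LD3_c6))
theorem f648602 : Led Lsl_at (LP (LK LD1_c3 LD2_c11 LD3_c6)) = v5632 :=
  Lrfl
theorem f152632 : Led Lsl_et (LP (LK LD1_c1 LD2_c31 LD3_c60)) = (LP (LK LD1_c3 LD2_c11 LD3_c6)) :=
  Lre_e IH (LK LD1_c1 LD2_c31 LD3_c60) (LK LD1_c3 LD2_c11 LD3_c6) Lrfl Lrfl
def v1928 : LQ := Led Lsl_ft (LP (LK LD1_c1 LD2_c31 LD3_c42))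
theorem f506429 : Led Lsl_ft (LP (LK LD1_c1 LD2_c31 LD3_c42)) = v1928 :=
  Lrfl
theorem f506430 : Led Lsl_af (LP (LK LD1_c1 LD2_c31 LD3_c60)) = v1928 :=
  Lgr Lrot45 (Lpr_ft (K50.f82490 IH) (Lpr_at (K50.f82491 IH) (Lpr_ft (f506429 IH) (Lpn v1928))))
theorem f648605 : Led Lsl_ef v1928 = v5632 :=
  Lgr Lrot20 (Lpe (f506430 IH) (Lpr_et (f152632 IH) (Lpr_at (f648602 IH) (Lpn v5632))))
theorem f506432 : Led Lsl_df (LP (LK LD1_c1 LD2_c31 LD3_c43)) = v1928 :=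
  Lgr Lrot78 (Lpr_ft (K5.f82500 IH) (Lpr_dt (K5.f82480 IH) (Lpr_ft (f506429 IH) (Lpn v1928))))
theorem f131387 : Led Lsl_et (LP (LK LD1_c1 LD2_c31 LD3_c43)) = (LP (LK LD1_c2 LD2_c18 LD3_c2)) :=
  Lgr Lrot87 (Lpr_ef (K5.f131383 IH) (Lpn (LP (LK LD1_c2 LD2_c18 LD3_c2))))
theorem f648606 : Led Lsl_dt v5614 = v5632 :=
  Lgr Lrot77 (Lpe (f648531 IH) (Lpe (K5.f131371 IH) (Lpe (f131387 IH) (Lpr_df (f506432 IH) (Lpr_ef (f648605 IH) (Lpn v5632))))))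
theorem f829088 : Led Lsl_gf v5632 = v25522 :=
  Lgr Lrot145 (Lpe (f648606 IH) (Lpe (f648533 IH) (Lpe (K5.f131375 IH) (Lpr_dt (K5.f82464 IH) (Lpr_gt (K3.f82461 IH) (Lpe (K46.f25003 IH) (Lpr_et (K59.f131381 IH) (Lpr_gt (K57.f131382 IH) (Lpr_ef (f648486 IH) (Lpr_dt (f829083 IH) (Lpn v25522)))))))))))
def v13238 : LQ := Led Lsl_et (LP (LK LD1_c4 LD2_c41 LD3_c53))
theorem f701849 : Led Lsl_et (LP (LK LD1_c4 LD2_c41 LD3_c53)) = v13238 :=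
  Lrfl
theorem f131349 : Led Lsl_dt (LP (LK LD1_c4 LD2_c41 LD3_c53)) = (LP (LK LD1_c2 LD2_c18 LD3_c11)) :=
  Lre_d IH (LK LD1_c4 LD2_c41 LD3_c53) (LK LD1_c2 LD2_c18 LD3_c11) Lrfl Lrfl
theorem f61197 : Led Lsl_dt (LP (LK LD1_c2 LD2_c18 LD3_c12)) = (LP (LK LD1_c1 LD2_c6 LD3_c6)) :=
  Lre_d IH (LK LD1_c2 LD2_c18 LD3_c12) (LK LD1_c1 LD2_c6 LD3_c6) Lrfl Lrfl
theorem f131348 : Led Lsl_et (LP (LK LD1_c2 LD2_c18 LD3_c12)) = (LP (LK LD1_c1 LD2_c6 LD3_c9)) :=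
  Lre_e IH (LK LD1_c2 LD2_c18 LD3_c12) (LK LD1_c1 LD2_c6 LD3_c9) Lrfl Lrfl
theorem f83948 : Led Lsl_dt (LP (LK LD1_c1 LD2_c31 LD3_c54)) = (LP (LK LD1_c0 LD2_c42 LD3_c31)) :=
  Lre_d IH (LK LD1_c1 LD2_c31 LD3_c54) (LK LD1_c0 LD2_c42 LD3_c31) Lrfl Lrfl
theorem f648607 : Led Lsl_et v1928 = v5632 :=
  Lgr Lrot87 (Lpr_ef (f648605 IH) (Lpn v5632))
theorem f701851 : Led Lsl_gt v5632 = v13238 :=
  Lgr Lrot131 (Lpe (f648607 IH) (Lpe (f506432 IH) (Lpe (K5.f108840 IH) (Lpe (f83948 IH) (Lpe (K5.f131319 IH) (Lpe (f131348 IH) (Lpr_dt (f61197 IH) (Lpe (K59.f61092 IH) (Lpe (f131349 IH) (Lpr_et (f701849 IH) (Lpn v13238)))))))))))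
def v13236 : LQ := Led Lsl_ft (LP (LK LD1_c4 LD2_c41 LD3_c52))
theorem f701839 : Led Lsl_ft (LP (LK LD1_c4 LD2_c41 LD3_c52)) = v13236 :=
  Lrfl
theorem f701841 : Led Lsl_df K59.v4273 = v13236 :=
  Lgr Lrot78 (Lpe (K59.f632350 IH) (Lpr_dt (K50.f104348 IH) (Lpr_ft (f701839 IH) (Lpn v13236))))
def v4258 : LQ := Led Lsl_dt (LP (LK LD1_c2 LD2_c17 LD3_c61))
theorem f632253 : Led Lsl_dt (LP (LK LD1_c2 LD2_c17 LD3_c61)) = v4258 :=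
  Lrfl
theorem f632256 : Led Lsl_df (LP (LK LD1_c2 LD2_c17 LD3_c61)) = v4258 :=
  Lgr Lrot38 (Lpr_dt (f632253 IH) (Lpn v4258))
theorem f632257 : Led Lsl_ef (LP (LK LD1_c2 LD2_c18 LD3_c1)) = v4258 :=
  Lgr Lrot73 (Lpr_dt (K5.f104672 IH) (Lpr_et (K7.f104708 IH) (Lpr_dt (K7.f104682 IH) (Lpr_et (K59.f152414 IH) (Lpr_dt (f632253 IH) (Lpn v4258))))))
def v5630 : LQ := Led Lsl_gt (LP (LK LD1_c3 LD2_c11 LD3_c6))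
theorem f648600 : Led Lsl_gt (LP (LK LD1_c3 LD2_c11 LD3_c6)) = v5630 :=
  Lrfl
theorem f773064 : Led Lsl_et v13236 = v5630 :=
  Lgr Lrot122 (Lpe (f701841 IH) (Lpqs (K59.f772601 IH) (Lpe (K59.f632251 IH) (Lpr_df (f632256 IH) (Lpe (f632257 IH) (Lpe (K7.f152624 IH) (Lpr_dt (K6.f82439 IH) (Lpe (K58.f131583 IH) (Lpe (K50.f82482 IH) (Lpr_et (f152632 IH) (Lpr_gt (f648600 IH) (Lpn v5630))))))))))))
theorem f701842 : Led Lsl_ff (LP (LK LD1_c4 LD2_c41 LD3_c52)) = v13236 :=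
  Lgr Lrot3 (Lpr_ft (f701839 IH) (Lpn v13236))
theorem f701831 : Led Lsl_ff (LP (LK LD1_c4 LD2_c41 LD3_c53)) = K59.v13233 :=
  Lgr Lrot3 (Lpr_ft (K59.f701830 IH) (Lpn K59.v13233))
theorem f701843 : Led Lsl_at (LP (LK LD1_c4 LD2_c41 LD3_c53)) = v13236 :=
  Lgr Lrot66 (Lpr_ff (f701831 IH) (Lpe (K59.f701826 IH) (Lpr_ff (f701842 IH) (Lpn v13236))))
theorem f701850 : Led Lsl_ef (LP (LK LD1_c4 LD2_c41 LD3_c53)) = v13238 :=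
  Lgr Lrot88 (Lpr_et (f701849 IH) (Lpn v13238))
theorem f773065 : Led Lsl_af v13238 = v5630 :=
  Lgr Lrot50 (Lpe (f701850 IH) (Lpr_at (f701843 IH) (Lpr_et (f773064 IH) (Lpn v5630))))
theorem f829089 : Led Lsl_ff v5630 = v25522 :=
  Lgr Lrot52 (Lpe (f773065 IH) (Lpe (f701851 IH) (Lpr_gf (f829088 IH) (Lpn v25522))))
theorem f773066 : Led Lsl_ef v13236 = v5630 :=
  Lgr Lrot88 (Lpr_et (f773064 IH) (Lpn v5630))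
theorem f701840 : Led Lsl_af (LP (LK LD1_c4 LD2_c41 LD3_c53)) = v13236 :=
  Lgr Lrot45 (Lpr_ft (K59.f701830 IH) (Lpe (K59.f701827 IH) (Lpr_ft (f701839 IH) (Lpn v13236))))
theorem f773067 : Led Lsl_at v13238 = v5630 :=
  Lgr Lrot80 (Lpe (f701849 IH) (Lpr_af (f701840 IH) (Lpr_ef (f773066 IH) (Lpn v5630))))
def v5631 : LQ := Led Lsl_gf (LP (LK LD1_c3 LD2_c11 LD3_c6))
theorem f648601 : Led Lsl_gf (LP (LK LD1_c3 LD2_c11 LD3_c6)) = v5631 :=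
  Lrfl
theorem f773068 : Led Lsl_ff v13238 = v5631 :=
  Lgr Lrot52 (Lpr_at (f773067 IH) (Lpe (f648600 IH) (Lpr_gf (f648601 IH) (Lpn v5631))))
theorem f773069 : Led Lsl_ft v13238 = v5631 :=
  Lgr Lrot48 (Lpr_ff (f773068 IH) (Lpn v5631))
theorem f829091 : Led Lsl_at v5631 = v25522 :=
  Lgr Lrot66 (Lpe (f773069 IH) (Lpr_af (f773065 IH) (Lpr_ff (f829089 IH) (Lpn v25522))))
def v20752 : LQ := Led Lsl_gf (LP (LK LD1_c7 LD2_c4 LD3_c3))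
theorem f789700 : Led Lsl_gf (LP (LK LD1_c7 LD2_c4 LD3_c3)) = v20752 :=
  Lrfl
theorem f777375 : Led Lsl_et (LP (LK LD1_c13 LD2_c23 LD3_c56)) = K59.v19044 :=
  Lgr Lrot87 (Lpr_ef (K59.f777372 IH) (Lpn K59.v19044))
theorem f777367 : Led Lsl_af (LP (LK LD1_c6 LD2_c59 LD3_c6)) = K59.v19044 :=
  Lgr Lrot117 (Lpr_dt (K59.f62230 IH) (Lpr_at (K59.f658226 IH) (Lpq (K59.f772646 IH) (Lpr_dt (K59.f777366 IH) (Lpn K59.v19044)))))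
theorem f777376 : Led Lsl_af (LP (LK LD1_c13 LD2_c23 LD3_c56)) = (LP (LK LD1_c7 LD2_c48 LD3_c52)) :=
  Lgr Lrot50 (Lpr_et (f777375 IH) (Lpe (f777367 IH) (Lpe (K59.f441816 IH) (Lpn (LP (LK LD1_c7 LD2_c48 LD3_c52))))))
theorem f789702 : Led Lsl_ff (LP (LK LD1_c7 LD2_c48 LD3_c52)) = v20752 :=
  Lgr Lrot52 (Lpe (f777376 IH) (Lpe (K59.f109195 IH) (Lpr_gf (f789700 IH) (Lpn v20752))))
theorem f789707 : Led Lsl_ft (LP (LK LD1_c7 LD2_c48 LD3_c52)) = v20752 :=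
  Lgr Lrot48 (Lpr_ff (f789702 IH) (Lpn v20752))
theorem f772657 : Led Lsl_bf (LP (LK LD1_c7 LD2_c48 LD3_c52)) = v13238 :=
  Lgr Lrot96 (Lpr_et (K59.f441818 IH) (Lpq (K59.f772654 IH) (Lpe (K59.f701846 IH) (Lpr_et (f701849 IH) (Lpn v13238)))))
theorem f789709 : Led Lsl_bf v5631 = v20752 :=
  Lgr Lrot61 (Lpe (f773068 IH) (Lpe (f772657 IH) (Lpr_ft (f789707 IH) (Lpn v20752))))
theorem f88931 : Led Lsl_gt (LP (LK LD1_c7 LD2_c48 LD3_c53)) = (LP (LK LD1_c3 LD2_c53 LD3_c39)) :=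
  Lre_g IH (LK LD1_c7 LD2_c48 LD3_c53) (LK LD1_c3 LD2_c53 LD3_c39) Lrfl Lrfl
theorem f777378 : Led Lsl_ff (LP (LK LD1_c13 LD2_c23 LD3_c56)) = (LP (LK LD1_c7 LD2_c48 LD3_c53)) :=
  Lgr Lrot52 (Lpr_at (K59.f777373 IH) (Lpe (K59.f84623 IH) (Lpe (f88931 IH) (Lpn (LP (LK LD1_c7 LD2_c48 LD3_c53))))))
theorem f777380 : Led Lsl_ft (LP (LK LD1_c13 LD2_c23 LD3_c56)) = (LP (LK LD1_c7 LD2_c48 LD3_c53)) :=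
  Lgr Lrot48 (Lpr_ff (f777378 IH) (Lpn (LP (LK LD1_c7 LD2_c48 LD3_c53))))
theorem f789705 : Led Lsl_at (LP (LK LD1_c7 LD2_c48 LD3_c53)) = v20752 :=
  Lgr Lrot66 (Lpe (f777380 IH) (Lpr_af (f777376 IH) (Lpr_ff (f789702 IH) (Lpn v20752))))
def v23172 : LQ := Led Lsl_bt (LP (LK LD1_c7 LD2_c48 LD3_c53))
theorem f815346 : Led Lsl_bt (LP (LK LD1_c7 LD2_c48 LD3_c53)) = v23172 :=
  Lrfl
theorem f815347 : Led Lsl_bf (LP (LK LD1_c7 LD2_c48 LD3_c53)) = v23172 :=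
  Lgr Lrot24 (Lpr_bt (f815346 IH) (Lpn v23172))
def v18055 : LQ := Led Lsl_et (LP (LK LD1_c6 LD2_c26 LD3_c5))
theorem f764821 : Led Lsl_et (LP (LK LD1_c6 LD2_c26 LD3_c5)) = v18055 :=
  Lrfl
theorem f764822 : Led Lsl_bf v5606 = v18055 :=
  Lgr Lrot96 (Lpe (f648486 IH) (Lpr_bt (K59.f648478 IH) (Lpr_et (f764821 IH) (Lpn v18055))))
def v21472 : LQ := Led Lsl_gf (LP (LK LD1_c7 LD2_c20 LD3_c8))
theorem f797415 : Led Lsl_gf (LP (LK LD1_c7 LD2_c20 LD3_c8)) = v21472 :=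
  Lrfl
theorem f134555 : Led Lsl_et (LP (LK LD1_c7 LD2_c20 LD3_c12)) = (LP (LK LD1_c3 LD2_c40 LD3_c1)) :=
  Lre_e IH (LK LD1_c7 LD2_c20 LD3_c12) (LK LD1_c3 LD2_c40 LD3_c1) Lrfl Lrfl
theorem f764823 : Led Lsl_ef (LP (LK LD1_c6 LD2_c26 LD3_c5)) = v18055 :=
  Lgr Lrot88 (Lpr_et (f764821 IH) (Lpn v18055))
theorem f797416 : Led Lsl_dt v18055 = v21472 :=
  Lgr Lrot136 (Lpe (f764823 IH) (Lpr_gf (K59.f764814 IH) (Lpqs (K59.f769826 IH) (Lpe (K59.f661566 IH) (Lpr_dt (K7.f114176 IH) (Lpe (K4.f12436 IH) (Lpe (K7.f12550 IH) (Lpe (K5.f12555 IH) (Lpe (f134555 IH) (Lpr_dt (K11.f134601 IH) (Lpr_gf (f797415 IH) (Lpn v21472))))))))))))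
theorem f797417 : Led Lsl_df v18055 = v21472 :=
  Lgr Lrot38 (Lpr_dt (f797416 IH) (Lpn v21472))
theorem f829085 : Led Lsl_bf v21472 = v25522 :=
  Lgr Lrot93 (Lpe (f797417 IH) (Lpe (f764822 IH) (Lpr_dt (f829083 IH) (Lpn v25522))))
theorem f829093 : Led Lsl_af v23172 = v21472 :=
  Lgr Lrot36 (Lpe (f815347 IH) (Lpr_at (f789705 IH) (Lpe (f789709 IH) (Lpr_at (f829091 IH) (Lpe (f829085 IH) (Lpn v21472))))))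
theorem f829094 : Led Lsl_at v23172 = v21472 :=
  Lgr Lrot100 (Lpr_af (f829093 IH) (Lpn v21472))
def v21725 : LQ := Led Lsl_ft (LP (LK LD1_c7 LD2_c25 LD3_c44))
theorem f798911 : Led Lsl_ft (LP (LK LD1_c7 LD2_c25 LD3_c44)) = v21725 :=
  Lrfl
theorem f798913 : Led Lsl_ff (LP (LK LD1_c7 LD2_c25 LD3_c44)) = v21725 :=
  Lgr Lrot3 (Lpr_ft (f798911 IH) (Lpn v21725))
theorem f108848 : Led Lsl_et (LP (LK LD1_c3 LD2_c39 LD3_c60)) = (LP (LK LD1_c7 LD2_c20 LD3_c8)) :=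
  Lre_e IH (LK LD1_c3 LD2_c39 LD3_c60) (LK LD1_c7 LD2_c20 LD3_c8) Lrfl Lrfl
theorem f125133 : Led Lsl_et (LP (LK LD1_c7 LD2_c25 LD3_c44)) = (LP (LK LD1_c3 LD2_c42 LD3_c32)) :=
  Lre_e IH (LK LD1_c7 LD2_c25 LD3_c44) (LK LD1_c3 LD2_c42 LD3_c32) Lrfl Lrfl
theorem f125134 : Led Lsl_at (LP (LK LD1_c7 LD2_c20 LD3_c8)) = (LP (LK LD1_c7 LD2_c25 LD3_c44)) :=
  Lgr Lrot80 (Lpe (f108848 IH) (Lpr_af (K7.f125127 IH) (Lpe (f125133 IH) (Lpn (LP (LK LD1_c7 LD2_c25 LD3_c44))))))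
theorem f125136 : Led Lsl_af (LP (LK LD1_c7 LD2_c20 LD3_c8)) = (LP (LK LD1_c7 LD2_c25 LD3_c44)) :=
  Lgr Lrot0 (Lpr_at (f125134 IH) (Lpn (LP (LK LD1_c7 LD2_c25 LD3_c44))))
theorem f798916 : Led Lsl_gf v21472 = v21725 :=
  Lgr Lrot47 (Lpe (f797415 IH) (Lpr_af (f125136 IH) (Lpr_ff (f798913 IH) (Lpn v21725))))
def v21473 : LQ := Led Lsl_ft (LP (LK LD1_c7 LD2_c20 LD3_c8))
theorem f797418 : Led Lsl_ft (LP (LK LD1_c7 LD2_c20 LD3_c8)) = v21473 :=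
  Lrfl
theorem f798915 : Led Lsl_at v21473 = v21725 :=
  Lgr Lrot66 (Lpe (f797418 IH) (Lpr_af (f125136 IH) (Lpr_ff (f798913 IH) (Lpn v21725))))
theorem f108849 : Led Lsl_gt (LP (LK LD1_c7 LD2_c20 LD3_c8)) = (LP (LK LD1_c13 LD2_c52 LD3_c32)) :=
  Lre_g IH (LK LD1_c7 LD2_c20 LD3_c8) (LK LD1_c13 LD2_c52 LD3_c32) Lrfl Lrfl
theorem f798917 : Led Lsl_gt (LP (LK LD1_c13 LD2_c52 LD3_c32)) = v21725 :=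
  Lgr Lrot46 (Lpe (f108849 IH) (Lpr_ft (f797418 IH) (Lpr_at (f798915 IH) (Lpn v21725))))
theorem f829096 : Led Lsl_ff v23172 = (LP (LK LD1_c13 LD2_c52 LD3_c32)) :=
  Lgr Lrot52 (Lpr_at (f829094 IH) (Lpr_gf (f798916 IH) (Lpe (f798917 IH) (Lpn (LP (LK LD1_c13 LD2_c52 LD3_c32))))))
theorem f829097 : Led Lsl_bt (LP (LK LD1_c13 LD2_c23 LD3_c56)) = (LP (LK LD1_c13 LD2_c52 LD3_c32)) :=
  Lgr Lrot35 (Lpr_ff (f777378 IH) (Lpr_bf (f815347 IH) (Lpr_ff (f829096 IH) (Lpn (LP (LK LD1_c13 LD2_c52 LD3_c32))))))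
theorem f829098 : Led Lsl_bt (LP (LK LD1_c13 LD2_c23 LD3_c56)) = (LP (LK LD1_c13 LD2_c52 LD3_c32)) :=
  Leop (Lpe (f829097 IH) (Lpn (LP (LK LD1_c13 LD2_c23 LD3_c56))))
theorem seed_1897 : LEOK LG_b (LK LD1_c13 LD2_c23 LD3_c56) :=
  Leoe_b (LK LD1_c13 LD2_c23 LD3_c56) (f829098 IH)
def v5622 : LQ := Led Lsl_gt (LP (LK LD1_c3 LD2_c11 LD3_c2))
def v25557 : LQ := Led Lsl_bt v5622
theorem f829290 : Led Lsl_bt v5622 = v25557 :=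
  Lrfl
theorem f648572 : Led Lsl_gt (LP (LK LD1_c3 LD2_c11 LD3_c2)) = v5622 :=
  Lrfl
theorem f25005 : Led Lsl_ct (LP (LK LD1_c1 LD2_c31 LD3_c58)) = (LP (LK LD1_c3 LD2_c11 LD3_c2)) :=
  Lre_c IH (LK LD1_c1 LD2_c31 LD3_c58) (LK LD1_c3 LD2_c11 LD3_c2) Lrfl Lrfl
def v4450 : LQ := Led Lsl_dt (LP (LK LD1_c2 LD2_c21 LD3_c39))
theorem f633446 : Led Lsl_dt (LP (LK LD1_c2 LD2_c21 LD3_c39)) = v4450 :=
  Lrfl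
theorem f633447 : Led Lsl_bf (LP (LK LD1_c2 LD2_c21 LD3_c41)) = v4450 :=
  Lgr Lrot93 (Lpr_dt (K7.f58175 IH) (Lpr_bt (K5.f24997 IH) (Lpr_dt (f633446 IH) (Lpn v4450))))
theorem f648575 : Led Lsl_ct v4450 = v5622 :=
  Lgr Lrot63 (Lpe (f633447 IH) (Lpr_gt (K7.f152849 IH) (Lpe (K7.f152799 IH) (Lpr_ct (K7.f25896 IH) (Lpe (K7.f152783 IH) (Lpe (K7.f25821 IH) (Lpr_bt (K7.f152768 IH) (Lpr_gt (K7.f25004 IH) (Lpr_ct (f25005 IH) (Lpr_gt (f648572 IH) (Lpn v5622)))))))))))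
theorem f133679 : Led Lsl_ff (LP (LK LD1_c2 LD2_c21 LD3_c39)) = (LP (LK LD1_c2 LD2_c17 LD3_c11)) :=
  Lgr Lrot3 (Lpr_ft (K5.f133675 IH) (Lpn (LP (LK LD1_c2 LD2_c17 LD3_c11))))
theorem f633449 : Led Lsl_ff K50.v4233 = v4450 :=
  Lgr Lrot19 (Lpe (K58.f632096 IH) (Lpe (f133679 IH) (Lpr_dt (f633446 IH) (Lpn v4450))))
theorem f633451 : Led Lsl_bt (LP (LK LD1_c2 LD2_c21 LD3_c41)) = v4450 :=
  Lgr Lrot35 (Lpr_ff (K5.f133640 IH) (Lpr_bf (K58.f632095 IH) (Lpr_ff (f633449 IH) (Lpn v4450))))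
theorem f133637 : Led Lsl_bt (LP (LK LD1_c9 LD2_c28 LD3_c8)) = (LP (LK LD1_c4 LD2_c47 LD3_c34)) :=
  Lre_b IH (LK LD1_c9 LD2_c28 LD3_c8) (LK LD1_c4 LD2_c47 LD3_c34) Lrfl Lrfl
theorem f829292 : Led Lsl_cf (LP (LK LD1_c9 LD2_c28 LD3_c8)) = v25557 :=
  Lgr Lrot97 (Lpr_bt (f133637 IH) (Lpr_ct (K5.f58164 IH) (Lpr_bt (f633451 IH) (Lpr_ct (f648575 IH) (Lpr_bt (f829290 IH) (Lpn v25557))))))
theorem f153128 : Led Lsl_gt (LP (LK LD1_c17 LD2_c27 LD3_c48)) = (LP (LK LD1_c9 LD2_c28 LD3_c8)) :=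
  Lre_g IH (LK LD1_c17 LD2_c27 LD3_c48) (LK LD1_c9 LD2_c28 LD3_c8) Lrfl Lrfl
theorem f829291 : Led Lsl_bf v5622 = v25557 :=
  Lgr Lrot24 (Lpr_bt (f829290 IH) (Lpn v25557))
theorem f448343 : Led Lsl_ft (LP (LK LD1_c3 LD2_c11 LD3_c2)) = (LP (LK LD1_c4 LD2_c41 LD3_c55)) :=
  Lgr Lrot48 (Lpr_ff (K50.f448338 IH) (Lpn (LP (LK LD1_c4 LD2_c41 LD3_c55))))
def v3078 : LQ := Led Lsl_ct K46.v493
theorem f622758 : Led Lsl_ct K46.v493 = v3078 :=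
  Lrfl
theorem f453616 : Led Lsl_ft (LP (LK LD1_c2 LD2_c18 LD3_c17)) = K46.v493 :=
  Lgr Lrot54 (Lpe (K57.f104603 IH) (Lpr_ff (K11.f447945 IH) (Lpr_df (K46.f453614 IH) (Lpn K46.v493))))
theorem f430509 : Led Lsl_ct (LP (LK LD1_c4 LD2_c41 LD3_c56)) = (LP (LK LD1_c2 LD2_c18 LD3_c17)) :=
  Lre_c IH (LK LD1_c4 LD2_c41 LD3_c56) (LK LD1_c2 LD2_c18 LD3_c17) Lrfl Lrfl
theorem f622761 : Led Lsl_ff (LP (LK LD1_c4 LD2_c41 LD3_c56)) = v3078 :=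
  Lgr Lrot23 (Lpr_ct (f430509 IH) (Lpr_ft (f453616 IH) (Lpr_ct (f622758 IH) (Lpn v3078))))
theorem f448165 : Led Lsl_af (LP (LK LD1_c2 LD2_c18 LD3_c17)) = (LP (LK LD1_c1 LD2_c31 LD3_c58)) :=
  Lgr Lrot117 (Lpr_dt (K57.f104606 IH) (Lpr_at (K11.f448161 IH) (Lpr_dt (K50.f430975 IH) (Lpn (LP (LK LD1_c1 LD2_c31 LD3_c58))))))
theorem f152369 : Led Lsl_ct (LP (LK LD1_c2 LD2_c18 LD3_c17)) = (LP (LK LD1_c4 LD2_c41 LD3_c56)) :=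
  Lre_c IH (LK LD1_c2 LD2_c18 LD3_c17) (LK LD1_c4 LD2_c41 LD3_c56) Lrfl Lrfl
theorem f448167 : Led Lsl_at (LP (LK LD1_c4 LD2_c41 LD3_c56)) = (LP (LK LD1_c3 LD2_c11 LD3_c2)) :=
  Lgr Lrot107 (Lpe (f152369 IH) (Lpr_af (f448165 IH) (Lpe (K50.f430985 IH) (Lpn (LP (LK LD1_c3 LD2_c11 LD3_c2))))))
theorem f622762 : Led Lsl_at (LP (LK LD1_c4 LD2_c41 LD3_c55)) = v3078 :=
  Lgr Lrot66 (Lpe (f448343 IH) (Lpe (f448167 IH) (Lpr_ff (f622761 IH) (Lpn v3078))))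
theorem f648573 : Led Lsl_gf v3078 = v5622 :=
  Lgr Lrot76 (Lpe (f622762 IH) (Lpe (f448343 IH) (Lpr_gt (f648572 IH) (Lpn v5622))))
theorem f622760 : Led Lsl_cf K46.v493 = v3078 :=
  Lgr Lrot11 (Lpr_ct (f622758 IH) (Lpn v3078))
theorem f67159 : Led Lsl_ct (LP (LK LD1_c1 LD2_c31 LD3_c59)) = (LP (LK LD1_c0 LD2_c42 LD3_c33)) :=
  Lre_c IH (LK LD1_c1 LD2_c31 LD3_c59) (LK LD1_c0 LD2_c42 LD3_c33) Lrfl Lrfl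
theorem f95924 : Led Lsl_bt (LP (LK LD1_c1 LD2_c31 LD3_c59)) = (LP (LK LD1_c3 LD2_c11 LD3_c4)) :=
  Lre_b IH (LK LD1_c1 LD2_c31 LD3_c59) (LK LD1_c3 LD2_c11 LD3_c4) Lrfl Lrfl
theorem f67336 : Led Lsl_gt (LP (LK LD1_c3 LD2_c11 LD3_c4)) = (LP (LK LD1_c6 LD2_c26 LD3_c22)) :=
  Lre_g IH (LK LD1_c3 LD2_c11 LD3_c4) (LK LD1_c6 LD2_c26 LD3_c22) Lrfl Lrfl
theorem f67344 : Led Lsl_bt (LP (LK LD1_c12 LD2_c24 LD3_c40)) = (LP (LK LD1_c6 LD2_c26 LD3_c22)) :=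
  Lre_b IH (LK LD1_c12 LD2_c24 LD3_c40) (LK LD1_c6 LD2_c26 LD3_c22) Lrfl Lrfl
theorem f829294 : Led Lsl_cf (LP (LK LD1_c17 LD2_c27 LD3_c48)) = (LP (LK LD1_c12 LD2_c24 LD3_c40)) :=
  Lgr Lrot160 (Lpr_gt (f153128 IH) (Lpr_cf (f829292 IH) (Lpe (f829291 IH) (Lpe (f648573 IH) (Lpe (f622760 IH) (Lpe (K46.f453610 IH) (Lpe (f67159 IH) (Lpr_bt (f95924 IH) (Lpr_gt (f67336 IH) (Lpe (f67344 IH) (Lpn (LP (LK LD1_c12 LD2_c24 LD3_c40)))))))))))))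
theorem f829295 : Led Lsl_ct (LP (LK LD1_c12 LD2_c24 LD3_c40)) = (LP (LK LD1_c17 LD2_c27 LD3_c48)) :=
  Leop (Lpr_cf (f829294 IH) (Lpn (LP (LK LD1_c12 LD2_c24 LD3_c40))))
theorem seed_1898 : LEOK LG_c (LK LD1_c12 LD2_c24 LD3_c40) :=
  Leoe_c (LK LD1_c12 LD2_c24 LD3_c40) (f829295 IH)
def v25699 : LQ := Led Lsl_dt K58.v5773
theorem f830042 : Led Lsl_dt K58.v5773 = v25699 :=
  Lrfl
theorem f771979 : K58.v1989 = (LP (LK LD1_c1 LD2_c37 LD3_c51)) :=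
  Lefun (Lecon (Lfl_gt (K58.f632809 IH)) (K59.f771956 IH)) (Lfl_gt (K59.f94686 IH))
theorem f95678 : Led Lsl_ct (LP (LK LD1_c1 LD2_c37 LD3_c51)) = (LP (LK LD1_c3 LD2_c22 LD3_c55)) :=
  Lre_c IH (LK LD1_c1 LD2_c37 LD3_c51) (LK LD1_c3 LD2_c22 LD3_c55) Lrfl Lrfl
theorem f95679 : Led Lsl_dt (LP (LK LD1_c6 LD2_c49 LD3_c21)) = (LP (LK LD1_c3 LD2_c22 LD3_c55)) :=
  Lre_d IH (LK LD1_c6 LD2_c49 LD3_c21) (LK LD1_c3 LD2_c22 LD3_c55) Lrfl Lrfl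
theorem f95680 : Led Lsl_ct (LP (LK LD1_c13 LD2_c0 LD3_c51)) = (LP (LK LD1_c6 LD2_c49 LD3_c21)) :=
  Lre_c IH (LK LD1_c13 LD2_c0 LD3_c51) (LK LD1_c6 LD2_c49 LD3_c21) Lrfl Lrfl
def v8882 : LQ := Led Lsl_ft K58.v2261
theorem f672605 : Led Lsl_ft K58.v2261 = v8882 :=
  Lrfl
theorem f703368 : Led Lsl_at v8882 = K58.v13500 :=
  Lgr Lrot66 (Lpe (f672605 IH) (Lpe (K58.f511316 IH) (Lpr_ff (K58.f703366 IH) (Lpn K58.v13500))))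
def v8879 : LQ := Led Lsl_gt K58.v2261
theorem f672599 : Led Lsl_gt K58.v2261 = v8879 :=
  Lrfl
theorem f703372 : Led Lsl_gt v8879 = K58.v13500 :=
  Lgr Lrot46 (Lpe (f672599 IH) (Lpr_ft (f672605 IH) (Lpr_at (f703368 IH) (Lpn K58.v13500))))
def v7145 : LQ := Led Lsl_et (LP (LK LD1_c3 LD2_c39 LD3_c54))
theorem f661535 : Led Lsl_et (LP (LK LD1_c3 LD2_c39 LD3_c54)) = v7145 :=
  Lrfl
theorem f661536 : Led Lsl_af K58.v5832 = v7145 :=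
  Lgr Lrot50 (Lpe (K58.f649716 IH) (Lpe (K58.f436740 IH) (Lpr_et (f661535 IH) (Lpn v7145))))
def v5860 : LQ := Led Lsl_gt (LP (LK LD1_c3 LD2_c14 LD3_c18))
theorem f649849 : Led Lsl_gt (LP (LK LD1_c3 LD2_c14 LD3_c18)) = v5860 :=
  Lrfl
theorem f649870 : Led Lsl_gt v5860 = (LP (LK LD1_c3 LD2_c14 LD3_c21)) :=
  Lgr Lrot46 (Lpe (f649849 IH) (Lpr_ft (K58.f649866 IH) (Lpe (K60.f649867 IH) (Lpn (LP (LK LD1_c3 LD2_c14 LD3_c21))))))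
theorem f770881 : Led Lsl_ff v7145 = v5860 :=
  Lgr Lrot52 (Lpe (f661536 IH) (Lpq (K58.f770743 IH) (Lpe (K58.f649863 IH) (Lpe (f649870 IH) (Lpn v5860)))))
theorem f661537 : Led Lsl_cf K58.v2506 = v7145 :=
  Lgr Lrot39 (Lpe (K58.f523672 IH) (Lpr_ct (K4.f107290 IH) (Lpr_et (f661535 IH) (Lpn v7145))))
theorem f770882 : Led Lsl_ct K62.v9182 = v5860 :=
  Lgr Lrot40 (Lpe (K62.f673929 IH) (Lpr_cf (f661537 IH) (Lpr_ff (f770881 IH) (Lpn v5860))))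
theorem f523673 : Led Lsl_bt (LP (LK LD1_c3 LD2_c11 LD3_c59)) = K58.v2506 :=
  Lgr Lrot119 (Lpe (K58.f13531 IH) (Lpr_bf (K4.f124195 IH) (Lpr_ef (K58.f523672 IH) (Lpn K58.v2506))))
theorem f648820 : Led Lsl_ff (LP (LK LD1_c3 LD2_c11 LD3_c59)) = K58.v5682 :=
  Lgr Lrot3 (Lpr_ft (K58.f648819 IH) (Lpn K58.v5682))
theorem f673930 : Led Lsl_bf K58.v5682 = K62.v9182 :=
  Lgr Lrot61 (Lpe (f648820 IH) (Lpr_bt (f523673 IH) (Lpr_ft (K62.f673929 IH) (Lpn K62.v9182))))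
theorem f504469 : Led Lsl_at (LP (LK LD1_c3 LD2_c11 LD3_c59)) = K58.v1834 :=
  Lgr Lrot80 (Lpe (K58.f13531 IH) (Lpr_af (K60.f436749 IH) (Lpr_ef (K58.f504468 IH) (Lpn K58.v1834))))
theorem f669984 : Led Lsl_af K58.v5682 = K58.v8101 :=
  Lgr Lrot45 (Lpe (f648820 IH) (Lpr_at (f504469 IH) (Lpr_ft (K58.f669983 IH) (Lpn K58.v8101))))
theorem f669986 : Led Lsl_gt K58.v8099 = K58.v5682 :=
  Lgr Lrot46 (Lpe (K58.f669980 IH) (Lpr_ft (K58.f669983 IH) (Lpe (f669984 IH) (Lpn K58.v5682))))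
theorem f632838 : Led Lsl_ft (LP (LK LD1_c3 LD2_c12 LD3_c57)) = K46.v4348 :=
  Lgr Lrot48 (Lpr_ff (K46.f632835 IH) (Lpn K46.v4348))
def v4347 : LQ := Led Lsl_gf (LP (LK LD1_c2 LD2_c19 LD3_c44))
theorem f632831 : Led Lsl_gf (LP (LK LD1_c2 LD2_c19 LD3_c44)) = v4347 :=
  Lrfl
theorem f632840 : Led Lsl_gt (LP (LK LD1_c3 LD2_c12 LD3_c57)) = v4347 :=
  Lgr Lrot5 (Lpr_ft (f632838 IH) (Lpe (K58.f632833 IH) (Lpr_gf (f632831 IH) (Lpn v4347))))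
theorem f770012 : K58.v5682 = v4347 :=
  Lefun (Lecon (f669986 IH) (K58.f770010 IH).symm) (f632840 IH)
theorem f438454 : Led Lsl_bt (LP (LK LD1_c1 LD2_c7 LD3_c0)) = (LP (LK LD1_c2 LD2_c19 LD3_c41)) :=
  Lre_b IH (LK LD1_c1 LD2_c7 LD3_c0) (LK LD1_c2 LD2_c19 LD3_c41) Lrfl Lrfl
theorem f632807 : Led Lsl_bf (LP (LK LD1_c3 LD2_c12 LD3_c57)) = K58.v4344 :=
  Lgr Lrot81 (Lpr_at (K46.f453637 IH) (Lpr_bt (K59.f452311 IH) (Lpq (K32.f504833 IH) (Lpe (K32.f494823 IH) (Lpr_bt (f438454 IH) (Lpr_at (K58.f632805 IH) (Lpn K58.v4344)))))))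
def v8377 : LQ := Led Lsl_gt K58.v2017
theorem f671059 : Led Lsl_gt K58.v2017 = v8377 :=
  Lrfl
theorem f770702 : K58.v582 = v8377 :=
  Lefun (Lecon (Lfl_gf (K58.f624671 IH)) (K58.f770699 IH)) (f671059 IH)
theorem f770894 : Led Lsl_ct K58.v4344 = v8879 :=
  Lgr Lrot63 (Lpe (f632807 IH) (Lpr_gt (f632840 IH) (Lpq (f770012 IH) (Lpr_bf (f673930 IH) (Lpr_ct (f770882 IH) (Lpr_gt (f649870 IH) (Lpe (K58.f23737 IH) (Lpr_bt (K58.f506911 IH) (Lpr_gt (f671059 IH) (Lpq (f770702 IH) (Lpr_ct (K58.f511317 IH) (Lpr_gt (f672599 IH) (Lpn v8879)))))))))))))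
def v6512 : LQ := Led Lsl_ct (LP (LK LD1_c3 LD2_c22 LD3_c56))
theorem f653720 : Led Lsl_ct (LP (LK LD1_c3 LD2_c22 LD3_c56)) = v6512 :=
  Lrfl
theorem f771986 : v8879 = v6512 :=
  Lefun (Lecon (f770894 IH) (K59.f771956 IH)) (f653720 IH)
theorem f653721 : Led Lsl_cf (LP (LK LD1_c3 LD2_c22 LD3_c56)) = v6512 :=
  Lgr Lrot11 (Lpr_ct (f653720 IH) (Lpn v6512))
theorem f82774 : Led Lsl_ct (LP (LK LD1_c3 LD2_c13 LD3_c10)) = (LP (LK LD1_c6 LD2_c30 LD3_c15)) :=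
  Lre_c IH (LK LD1_c3 LD2_c13 LD3_c10) (LK LD1_c6 LD2_c30 LD3_c15) Lrfl Lrfl
theorem f82776 : Led Lsl_dt (LP (LK LD1_c12 LD2_c29 LD3_c61)) = (LP (LK LD1_c6 LD2_c30 LD3_c15)) :=
  Lre_d IH (LK LD1_c12 LD2_c29 LD3_c61) (LK LD1_c6 LD2_c30 LD3_c15) Lrfl Lrfl
theorem f830045 : Led Lsl_gf (LP (LK LD1_c12 LD2_c29 LD3_c61)) = v25699 :=
  Lgr Lrot143 (Lpr_dt (f82776 IH) (Lpe (f82774 IH) (Lpe (K59.f82749 IH) (Lpe (K50.f82770 IH) (Lpq (K50.f703180 IH) (Lpe (K50.f649280 IH) (Lpqs (K59.f771977 IH) (Lpe (K59.f527770 IH) (Lpr_cf (f653721 IH) (Lpq (f771986 IH) (Lpr_gt (f703372 IH) (Lpq (K58.f770520 IH) (Lpr_dt (f830042 IH) (Lpn v25699))))))))))))))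
theorem f505720 : Led Lsl_ct (LP (LK LD1_c12 LD2_c29 LD3_c61)) = (LP (LK LD1_c21 LD2_c36 LD3_c37)) :=
  Lre_c IH (LK LD1_c12 LD2_c29 LD3_c61) (LK LD1_c21 LD2_c36 LD3_c37) Lrfl Lrfl
theorem f830046 : Led Lsl_gf (LP (LK LD1_c13 LD2_c0 LD3_c51)) = (LP (LK LD1_c21 LD2_c36 LD3_c37)) :=
  Lgr Lrot172 (Lpr_ct (f95680 IH) (Lpr_dt (f95679 IH) (Lpe (f95678 IH) (Lpq (f771979 IH) (Lpe (K58.f506772 IH) (Lpe (K59.f82686 IH) (Lpr_gf (K58.f649296 IH) (Lpr_dt (f830042 IH) (Lpe (f830045 IH) (Lpr_ct (f505720 IH) (Lpn (LP (LK LD1_c21 LD2_c36 LD3_c37)))))))))))))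
theorem f830047 : Led Lsl_gt (LP (LK LD1_c21 LD2_c36 LD3_c37)) = (LP (LK LD1_c13 LD2_c0 LD3_c51)) :=
  Leop (Lpr_gf (f830046 IH) (Lpn (LP (LK LD1_c21 LD2_c36 LD3_c37))))
theorem seed_1899 : LEOK LG_g (LK LD1_c21 LD2_c36 LD3_c37) :=
  Leoe_g (LK LD1_c21 LD2_c36 LD3_c37) (f830047 IH)
def v25797 : LQ := Led Lsl_ct K59.v5879
theorem f830434 : Led Lsl_ct K59.v5879 = v25797 :=
  Lrfl
theorem f830440 : Led Lsl_gf (LP (LK LD1_c9 LD2_c24 LD3_c10)) = v25797 :=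
  Lgr Lrot148 (Lpe (K58.f78673 IH) (Lpr_gt (K58.f78669 IH) (Lpr_dt (K7.f78682 IH) (Lpr_ct (K59.f78683 IH) (Lpe (K49.f103346 IH) (Lpe (K49.f103348 IH) (Lpe (K49.f103352 IH) (Lpqs (K59.f770436 IH) (Lpe (K59.f652294 IH) (Lpr_ct (f830434 IH) (Lpn v25797)))))))))))
theorem f830438 : Led Lsl_ff (LP (LK LD1_c9 LD2_c23 LD3_c41)) = v25797 :=
  Lgr Lrot23 (Lpr_ct (K59.f633216 IH) (Lpr_ft (K49.f668928 IH) (Lpqs (K59.f770426 IH) (Lpr_ct (f830434 IH) (Lpn v25797)))))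
theorem f674043 : Led Lsl_af (LP (LK LD1_c9 LD2_c23 LD3_c41)) = (LP (LK LD1_c4 LD2_c47 LD3_c22)) :=
  Lgr Lrot68 (Lpr_ct (K59.f633216 IH) (Lpq (K49.f674029 IH) (Lpe (K49.f633419 IH) (Lpr_ct (K59.f633410 IH) (Lpn (LP (LK LD1_c4 LD2_c47 LD3_c22)))))))
theorem f674045 : Led Lsl_at (LP (LK LD1_c9 LD2_c23 LD3_c41)) = (LP (LK LD1_c4 LD2_c47 LD3_c22)) :=
  Lgr Lrot100 (Lpr_af (f674043 IH) (Lpn (LP (LK LD1_c4 LD2_c47 LD3_c22))))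
def v13713 : LQ := Led Lsl_gf (LP (LK LD1_c4 LD2_c47 LD3_c22))
theorem f704471 : Led Lsl_gf (LP (LK LD1_c4 LD2_c47 LD3_c22)) = v13713 :=
  Lrfl
theorem f830442 : (LP (LK LD1_c9 LD2_c24 LD3_c10)) = v13713 :=
  (Llr Lrot5 (Lpr_gf (f830440 IH) (Lpe (f830438 IH) (Lpr_at (f674045 IH) (Lpr_gf (f704471 IH) (Lpn v13713)))))).symm
theorem f830443 : Led Lsl_gt (LP (LK LD1_c9 LD2_c24 LD3_c10)) = (LP (LK LD1_c4 LD2_c47 LD3_c22)) :=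
  Leop (Lpr_gf (f704471 IH) (Lpq (f830442 IH) (Lpn (LP (LK LD1_c9 LD2_c24 LD3_c10)))))
theorem seed_1900 : LEOK LG_g (LK LD1_c9 LD2_c24 LD3_c10) :=
  Leoe_g (LK LD1_c9 LD2_c24 LD3_c10) (f830443 IH)
def v25802 : LQ := Led Lsl_dt K58.v5895
theorem f830482 : Led Lsl_dt K58.v5895 = v25802 :=
  Lrfl
theorem f830486 : Led Lsl_ef (LP (LK LD1_c14 LD2_c22 LD3_c22)) = v25802 :=
  Lgr Lrot73 (Lpr_dt (K62.f129918 IH) (Lpr_et (K46.f116716 IH) (Lpr_dt (K5.f129908 IH) (Lpr_et (K58.f649967 IH) (Lpr_dt (f830482 IH) (Lpn v25802))))))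
theorem f803627 : Led Lsl_gt (LP (LK LD1_c13 LD2_c22 LD3_c41)) = (LP (LK LD1_c22 LD2_c24 LD3_c34)) :=
  Lgr Lrot5 (Lpe (K63.f514229 IH) (Lpr_at (K63.f91905 IH) (Lpr_gf (K63.f803625 IH) (Lpn (LP (LK LD1_c22 LD2_c24 LD3_c34))))))
theorem f830485 : Led Lsl_df K58.v5895 = v25802 :=
  Lgr Lrot38 (Lpr_dt (f830482 IH) (Lpn v25802))
theorem f509181 : Led Lsl_dt (LP (LK LD1_c6 LD2_c43 LD3_c38)) = (LP (LK LD1_c3 LD2_c19 LD3_c55)) :=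
  Lre_d IH (LK LD1_c6 LD2_c43 LD3_c38) (LK LD1_c3 LD2_c19 LD3_c55) Lrfl Lrfl
theorem f652552 : Led Lsl_et (LP (LK LD1_c6 LD2_c43 LD3_c38)) = (LP (LK LD1_c12 LD2_c52 LD3_c8)) :=
  Lre_e IH (LK LD1_c6 LD2_c43 LD3_c38) (LK LD1_c12 LD2_c52 LD3_c8) Lrfl Lrfl
theorem f652553 : Led Lsl_gt (LP (LK LD1_c22 LD2_c1 LD3_c46)) = (LP (LK LD1_c12 LD2_c52 LD3_c8)) :=
  Lre_g IH (LK LD1_c22 LD2_c1 LD3_c46) (LK LD1_c12 LD2_c52 LD3_c8) Lrfl Lrfl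
theorem f830490 : Led Lsl_et (LP (LK LD1_c13 LD2_c11 LD3_c42)) = (LP (LK LD1_c22 LD2_c1 LD3_c46)) :=
  Lgr Lrot185 (Lpr_dt (K63.f472963 IH) (Lpe (f803627 IH) (Lpr_df (K49.f472240 IH) (Lpr_gf (K49.f676020 IH) (Lpr_ef (f830486 IH) (Lpe (f830485 IH) (Lpq (K58.f769568 IH) (Lpe (K58.f652549 IH) (Lpe (f509181 IH) (Lpr_et (f652552 IH) (Lpe (f652553 IH) (Lpn (LP (LK LD1_c22 LD2_c1 LD3_c46))))))))))))))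
theorem f830491 : Led Lsl_et (LP (LK LD1_c13 LD2_c11 LD3_c42)) = (LP (LK LD1_c22 LD2_c1 LD3_c46)) :=
  Leop (Lpe (f830490 IH) (Lpn (LP (LK LD1_c13 LD2_c11 LD3_c42))))
theorem seed_1901 : LEOK LG_e (LK LD1_c13 LD2_c11 LD3_c42) :=
  Leoe_e (LK LD1_c13 LD2_c11 LD3_c42) (f830491 IH)
def v6061 : LQ := Led Lsl_dt (LP (LK LD1_c3 LD2_c17 LD3_c1))
def v25909 : LQ := Led Lsl_ct v6061
theorem f831104 : Led Lsl_ct v6061 = v25909 :=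
  Lrfl
def v5187 : LQ := Led Lsl_dt (LP (LK LD1_c3 LD2_c1 LD3_c38))
theorem f646409 : Led Lsl_dt (LP (LK LD1_c3 LD2_c1 LD3_c38)) = v5187 :=
  Lrfl
theorem f129045 : Led Lsl_at (LP (LK LD1_c0 LD2_c42 LD3_c31)) = (LP (LK LD1_c0 LD2_c42 LD3_c24)) :=
  Lgr Lrot80 (Lpr_ef (K5.f108864 IH) (Lpr_af (K5.f129017 IH) (Lpe (K7.f129044 IH) (Lpn (LP (LK LD1_c0 LD2_c42 LD3_c24))))))
theorem f129051 : Led Lsl_ff (LP (LK LD1_c0 LD2_c42 LD3_c31)) = (LP (LK LD1_c1 LD2_c6 LD3_c58)) :=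
  Lgr Lrot72 (Lpr_et (K5.f108860 IH) (Lpr_ft (K5.f129047 IH) (Lpr_et (K8.f125666 IH) (Lpe (K5.f124803 IH) (Lpr_et (K4.f104736 IH) (Lpn (LP (LK LD1_c1 LD2_c6 LD3_c58))))))))
theorem f131581 : Led Lsl_gf (LP (LK LD1_c0 LD2_c42 LD3_c26)) = (LP (LK LD1_c1 LD2_c6 LD3_c58)) :=
  Lgr Lrot47 (Lpr_gt (K5.f131579 IH) (Lpe (f129045 IH) (Lpr_ff (f129051 IH) (Lpn (LP (LK LD1_c1 LD2_c6 LD3_c58))))))
theorem f104666 : Led Lsl_ct (LP (LK LD1_c1 LD2_c6 LD3_c8)) = (LP (LK LD1_c2 LD2_c18 LD3_c16)) :=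
  Lre_c IH (LK LD1_c1 LD2_c6 LD3_c8) (LK LD1_c2 LD2_c18 LD3_c16) Lrfl Lrfl
theorem f430501 : Led Lsl_et (LP (LK LD1_c1 LD2_c6 LD3_c8)) = (LP (LK LD1_c1 LD2_c6 LD3_c8)) :=
  Lgr Lrot158 (Lpe (K6.f104605 IH) (Lpr_ef (K11.f430496 IH) (Lpe (f104666 IH) (Lpn (LP (LK LD1_c1 LD2_c6 LD3_c8))))))
theorem f430507 : Led Lsl_gf (LP (LK LD1_c2 LD2_c18 LD3_c17)) = (LP (LK LD1_c1 LD2_c31 LD3_c42)) :=
  Lgr Lrot134 (Lpe (K57.f104603 IH) (Lpr_et (f430501 IH) (Lpr_gt (K6.f104602 IH) (Lpe (K5.f104316 IH) (Lpr_dt (K3.f60992 IH) (Lpr_gt (K2.f26939 IH) (Lpe (K4.f104731 IH) (Lpr_et (K4.f104736 IH) (Lpe (f131581 IH) (Lpr_dt (K5.f82480 IH) (Lpn (LP (LK LD1_c1 LD2_c31 LD3_c42)))))))))))))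
def v4283 : LQ := Led Lsl_dt (LP (LK LD1_c2 LD2_c18 LD3_c16))
theorem f632386 : Led Lsl_dt (LP (LK LD1_c2 LD2_c18 LD3_c16)) = v4283 :=
  Lrfl
theorem f632388 : Led Lsl_df (LP (LK LD1_c2 LD2_c18 LD3_c16)) = v4283 :=
  Lgr Lrot38 (Lpr_dt (f632386 IH) (Lpn v4283))
theorem f646413 : Led Lsl_gf v4283 = v5187 :=
  Lgr Lrot143 (Lpe (f632388 IH) (Lpe (f104666 IH) (Lpe (K57.f104606 IH) (Lpr_gf (f430507 IH) (Lpe (K5.f82480 IH) (Lpr_gf (f131581 IH) (Lpe (K6.f26125 IH) (Lpr_gt (K4.f124236 IH) (Lpr_dt (f646409 IH) (Lpn v5187))))))))))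
theorem f632389 : Led Lsl_bt (LP (LK LD1_c3 LD2_c22 LD3_c13)) = v4283 :=
  Lgr Lrot95 (Lpr_df (K11.f430492 IH) (Lpr_bf (K6.f145492 IH) (Lpr_df (f632388 IH) (Lpn v4283))))
theorem f646416 : Led Lsl_bt (LP (LK LD1_c6 LD2_c18 LD3_c2)) = v5187 :=
  Lgr Lrot22 (Lpe (K59.f155420 IH) (Lpe (K7.f135346 IH) (Lpe (K7.f25825 IH) (Lpe (K7.f83129 IH) (Lpr_bf (K11.f430540 IH) (Lpr_ct (K5.f106787 IH) (Lpe (K11.f430487 IH) (Lpe (K11.f84527 IH) (Lpr_bt (f632389 IH) (Lpr_gf (f646413 IH) (Lpn v5187)))))))))))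
theorem f650777 : Led Lsl_dt (LP (LK LD1_c3 LD2_c17 LD3_c1)) = v6061 :=
  Lrfl
theorem f77872 : Led Lsl_et (LP (LK LD1_c1 LD2_c35 LD3_c8)) = (LP (LK LD1_c3 LD2_c17 LD3_c1)) :=
  Lre_e IH (LK LD1_c1 LD2_c35 LD3_c8) (LK LD1_c3 LD2_c17 LD3_c1) Lrfl Lrfl
theorem f646412 : Led Lsl_df (LP (LK LD1_c3 LD2_c1 LD3_c38)) = v5187 :=
  Lgr Lrot38 (Lpr_dt (f646409 IH) (Lpn v5187))
theorem f650780 : Led Lsl_ef v5187 = v6061 :=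
  Lgr Lrot73 (Lpe (f646412 IH) (Lpr_et (K2.f77860 IH) (Lpr_dt (K3.f61951 IH) (Lpr_et (f77872 IH) (Lpr_dt (f650777 IH) (Lpn v6061))))))
theorem f650782 : Led Lsl_et v5187 = v6061 :=
  Lgr Lrot87 (Lpr_ef (f650780 IH) (Lpn v6061))
theorem f758858 : Led Lsl_bt v6061 = K58.v17343 :=
  Lgr Lrot119 (Lpe (f650782 IH) (Lpe (f646416 IH) (Lpr_ef (K58.f758856 IH) (Lpn K58.v17343))))
theorem f784485 : Led Lsl_cf (LP (LK LD1_c12 LD2_c52 LD3_c12)) = K60.v20041 :=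
  Lgr Lrot108 (Lpr_ft (K60.f780570 IH) (Lpr_ct (K60.f83883 IH) (Lpr_ft (K60.f784483 IH) (Lpn K60.v20041))))
def v23165 : LQ := Led Lsl_gt (LP (LK LD1_c7 LD2_c48 LD3_c46))
theorem f815297 : Led Lsl_gt (LP (LK LD1_c7 LD2_c48 LD3_c46)) = v23165 :=
  Lrfl
theorem f90495 : Led Lsl_dt (LP (LK LD1_c7 LD2_c48 LD3_c46)) = (LP (LK LD1_c6 LD2_c49 LD3_c59)) :=
  Lgr Lrot77 (Lpe (K3.f88771 IH) (Lpe (K6.f88769 IH) (Lpr_ef (K2.f88765 IH) (Lpr_df (K3.f90362 IH) (Lpe (K59.f90489 IH) (Lpn (LP (LK LD1_c6 LD2_c49 LD3_c59))))))))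
theorem f508693 : Led Lsl_ct (LP (LK LD1_c3 LD2_c17 LD3_c7)) = (LP (LK LD1_c6 LD2_c37 LD3_c33)) :=
  Lre_c IH (LK LD1_c3 LD2_c17 LD3_c7) (LK LD1_c6 LD2_c37 LD3_c33) Lrfl Lrfl
theorem f118255 : Led Lsl_bt (LP (LK LD1_c3 LD2_c17 LD3_c7)) = (LP (LK LD1_c1 LD2_c35 LD3_c17)) :=
  Lre_b IH (LK LD1_c3 LD2_c17 LD3_c7) (LK LD1_c1 LD2_c35 LD3_c17) Lrfl Lrfl
theorem f88694 : Led Lsl_et (LP (LK LD1_c1 LD2_c41 LD3_c3)) = (LP (LK LD1_c3 LD2_c28 LD3_c43)) :=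
  Lre_e IH (LK LD1_c1 LD2_c41 LD3_c3) (LK LD1_c3 LD2_c28 LD3_c43) Lrfl Lrfl
theorem f90491 : Led Lsl_bt (LP (LK LD1_c3 LD2_c28 LD3_c43)) = (LP (LK LD1_c6 LD2_c49 LD3_c59)) :=
  Lgr Lrot119 (Lpe (f88694 IH) (Lpr_bf (K5.f90473 IH) (Lpe (K59.f90489 IH) (Lpn (LP (LK LD1_c6 LD2_c49 LD3_c59))))))
def v13344 : LQ := Led Lsl_gf (LP (LK LD1_c4 LD2_c43 LD3_c19))
theorem f702440 : Led Lsl_gf (LP (LK LD1_c4 LD2_c43 LD3_c19)) = v13344 :=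
  Lrfl
theorem f771093 : v13344 = (LP (LK LD1_c6 LD2_c37 LD3_c33)) :=
  (Llr Lrot129 (Lpe (f702440 IH) (Lpe (K59.f632573 IH) (Lpr_bt (K58.f632611 IH) (Lpr_gt (K58.f702423 IH) (Lpq (K58.f771089 IH) (Lpr_bf (K58.f523677 IH) (Lpr_ct (K58.f661546 IH) (Lpq (K58.f769825 IH) (Lpe (K58.f705011 IH) (Lpe (K58.f416358 IH) (Lpr_bt (K50.f634066 IH) (Lpqs (K58.f769266 IH) (Lpqs (K58.f769418 IH) (Lpr_gt (K58.f650788 IH) (Lpr_ct (f508693 IH) (Lpn (LP (LK LD1_c6 LD2_c37 LD3_c33))))))))))))))))))).symm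
theorem f702442 : Led Lsl_af (LP (LK LD1_c4 LD2_c43 LD3_c19)) = K59.v13345 :=
  Lgr Lrot0 (Lpr_at (K59.f702441 IH) (Lpn K59.v13345))
theorem f702447 : Led Lsl_gt K59.v7805 = v13344 :=
  Lgr Lrot5 (Lpr_ft (K59.f702445 IH) (Lpe (f702442 IH) (Lpr_gf (f702440 IH) (Lpn v13344))))
theorem f771103 : Led Lsl_gt (LP (LK LD1_c6 LD2_c49 LD3_c59)) = K58.v7804 :=
  Lgr Lrot164 (Lpe (f90491 IH) (Lpr_ct (K4.f93670 IH) (Lpqs (K58.f768749 IH) (Lpe (K58.f705082 IH) (Lpe (K58.f415366 IH) (Lpqs (K58.f768902 IH) (Lpq (K58.f678548 IH) (Lpqs (K49.f678523 IH) (Lpe (K49.f508695 IH) (Lpe (f118255 IH) (Lpr_ct (f508693 IH) (Lpq (f771093 IH) (Lpe (f702447 IH) (Lpe (K59.f668509 IH) (Lpr_bt (K58.f668505 IH) (Lpn K58.v7804))))))))))))))))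
theorem f155963 : Led Lsl_dt (LP (LK LD1_c1 LD2_c36 LD3_c23)) = (LP (LK LD1_c3 LD2_c19 LD3_c60)) :=
  Lre_d IH (LK LD1_c1 LD2_c36 LD3_c23) (LK LD1_c3 LD2_c19 LD3_c60) Lrfl Lrfl
theorem f151935 : Led Lsl_ct (LP (LK LD1_c6 LD2_c43 LD3_c50)) = (LP (LK LD1_c3 LD2_c19 LD3_c60)) :=
  Lre_c IH (LK LD1_c6 LD2_c43 LD3_c50) (LK LD1_c3 LD2_c19 LD3_c60) Lrfl Lrfl
theorem f815300 : Led Lsl_cf (LP (LK LD1_c12 LD2_c51 LD3_c27)) = v23165 :=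
  Lgr Lrot169 (Lpr_gt (K60.f780276 IH) (Lpr_ct (f151935 IH) (Lpe (f155963 IH) (Lpe (K1.f57189 IH) (Lpe (K58.f652468 IH) (Lpr_cf (K58.f668507 IH) (Lpe (f771103 IH) (Lpe (f90495 IH) (Lpr_gt (f815297 IH) (Lpn v23165))))))))))
theorem f151937 : Led Lsl_ct (LP (LK LD1_c3 LD2_c19 LD3_c60)) = (LP (LK LD1_c6 LD2_c43 LD3_c50)) :=
  Lre_c IH (LK LD1_c3 LD2_c19 LD3_c60) (LK LD1_c6 LD2_c43 LD3_c50) Lrfl Lrfl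
theorem f135410 : Led Lsl_bt (LP (LK LD1_c3 LD2_c19 LD3_c60)) = (LP (LK LD1_c1 LD2_c36 LD3_c31)) :=
  Lre_b IH (LK LD1_c3 LD2_c19 LD3_c60) (LK LD1_c1 LD2_c36 LD3_c31) Lrfl Lrfl
theorem f153707 : Led Lsl_bt (LP (LK LD1_c1 LD2_c6 LD3_c53)) = (LP (LK LD1_c2 LD2_c19 LD3_c21)) :=
  Lre_b IH (LK LD1_c1 LD2_c6 LD3_c53) (LK LD1_c2 LD2_c19 LD3_c21) Lrfl Lrfl
def v4318 : LQ := Led Lsl_gt (LP (LK LD1_c2 LD2_c19 LD3_c21))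
theorem f632620 : Led Lsl_gt (LP (LK LD1_c2 LD2_c19 LD3_c21)) = v4318 :=
  Lrfl
theorem f815304 : Led Lsl_bf v4318 = v23165 :=
  Lgr Lrot34 (Lpe (f632620 IH) (Lpe (f153707 IH) (Lpr_ct (K7.f26284 IH) (Lpe (K32.f150570 IH) (Lpr_cf (K32.f417063 IH) (Lpr_gf (K32.f151932 IH) (Lpe (f135410 IH) (Lpr_ct (f151937 IH) (Lpe (K60.f780276 IH) (Lpr_cf (f815300 IH) (Lpn v23165)))))))))))
theorem f815305 : Led Lsl_bt v4318 = v23165 :=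
  Lgr Lrot127 (Lpr_bf (f815304 IH) (Lpn v23165))
theorem f126977 : Led Lsl_et (LP (LK LD1_c3 LD2_c12 LD3_c11)) = (LP (LK LD1_c6 LD2_c28 LD3_c29)) :=
  Lre_e IH (LK LD1_c3 LD2_c12 LD3_c11) (LK LD1_c6 LD2_c28 LD3_c29) Lrfl Lrfl
def v13368 : LQ := Led Lsl_bt (LP (LK LD1_c4 LD2_c43 LD3_c28))
theorem f702568 : Led Lsl_bt (LP (LK LD1_c4 LD2_c43 LD3_c28)) = v13368 :=
  Lrfl
theorem f639342 : Led Lsl_ff (LP (LK LD1_c4 LD2_c43 LD3_c28)) = (LP (LK LD1_c3 LD2_c11 LD3_c12)) :=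
  Lgr Lrot23 (Lpr_ct (K32.f435377 IH) (Lpr_ft (K48.f639338 IH) (Lpr_ct (K58.f61693 IH) (Lpn (LP (LK LD1_c3 LD2_c11 LD3_c12))))))
theorem f648692 : Led Lsl_bf (LP (LK LD1_c3 LD2_c11 LD3_c12)) = K57.v5649 :=
  Lgr Lrot24 (Lpr_bt (K57.f648691 IH) (Lpn K57.v5649))
theorem f702572 : Led Lsl_ff K57.v5649 = v13368 :=
  Lgr Lrot25 (Lpe (f648692 IH) (Lpe (f639342 IH) (Lpr_bt (f702568 IH) (Lpn v13368))))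
theorem f702574 : Led Lsl_ft K57.v5649 = v13368 :=
  Lgr Lrot48 (Lpr_ff (f702572 IH) (Lpn v13368))
def v17626 : LQ := Led Lsl_gt (LP (LK LD1_c6 LD2_c20 LD3_c51))
theorem f761153 : Led Lsl_gt (LP (LK LD1_c6 LD2_c20 LD3_c51)) = v17626 :=
  Lrfl
theorem f761215 : Led Lsl_at v13368 = v17626 :=
  Lgr Lrot26 (Lpe (f702574 IH) (Lpqs (K57.f761214 IH) (Lpe (K57.f761154 IH) (Lpr_gt (f761153 IH) (Lpn v17626)))))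
theorem f435502 : Led Lsl_ef (LP (LK LD1_c4 LD2_c43 LD3_c28)) = (LP (LK LD1_c3 LD2_c8 LD3_c21)) :=
  Lgr Lrot88 (Lpr_et (K32.f435498 IH) (Lpn (LP (LK LD1_c3 LD2_c8 LD3_c21))))
theorem f702571 : Led Lsl_ef K51.v5480 = v13368 :=
  Lgr Lrot29 (Lpe (K51.f647869 IH) (Lpe (f435502 IH) (Lpr_bt (f702568 IH) (Lpn v13368))))
theorem f702575 : Led Lsl_et K51.v5480 = v13368 :=
  Lgr Lrot87 (Lpr_ef (f702571 IH) (Lpn v13368))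
theorem f761217 : Led Lsl_ef (LP (LK LD1_c6 LD2_c21 LD3_c0)) = v17626 :=
  Lgr Lrot20 (Lpe (K51.f707701 IH) (Lpr_et (f702575 IH) (Lpr_at (f761215 IH) (Lpn v17626))))
theorem f761220 : Led Lsl_et (LP (LK LD1_c6 LD2_c21 LD3_c0)) = v17626 :=
  Lgr Lrot87 (Lpr_ef (f761217 IH) (Lpn v17626))
theorem f766176 : Led Lsl_dt v17626 = K57.v18300 :=
  Lgr Lrot77 (Lpe (f761220 IH) (Lpr_df (K51.f126972 IH) (Lpe (f126977 IH) (Lpr_df (K57.f648967 IH) (Lpr_ef (K57.f766174 IH) (Lpn K57.v18300))))))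
theorem f126950 : Led Lsl_et (LP (LK LD1_c1 LD2_c30 LD3_c17)) = (LP (LK LD1_c3 LD2_c8 LD3_c10)) :=
  Lre_e IH (LK LD1_c1 LD2_c30 LD3_c17) (LK LD1_c3 LD2_c8 LD3_c10) Lrfl Lrfl
theorem f125406 : Led Lsl_et (LP (LK LD1_c1 LD2_c6 LD3_c49)) = (LP (LK LD1_c2 LD2_c19 LD3_c21)) :=
  Lre_e IH (LK LD1_c1 LD2_c6 LD3_c49) (LK LD1_c2 LD2_c19 LD3_c21) Lrfl Lrfl
theorem f766178 : Led Lsl_dt v4318 = (LP (LK LD1_c6 LD2_c29 LD3_c15)) :=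
  Lgr Lrot171 (Lpe (f632620 IH) (Lpe (f125406 IH) (Lpr_dt (K46.f82459 IH) (Lpe (K4.f25757 IH) (Lpe (K5.f126948 IH) (Lpr_et (f126950 IH) (Lpe (K51.f126960 IH) (Lpr_ef (f761217 IH) (Lpr_dt (f766176 IH) (Lpe (K57.f766169 IH) (Lpn (LP (LK LD1_c6 LD2_c29 LD3_c15)))))))))))))
theorem f766182 : Led Lsl_ff v4318 = K57.v5737 :=
  Lgr Lrot19 (Lpr_dt (f766178 IH) (Lpr_ft (K57.f506718 IH) (Lpr_dt (K57.f649129 IH) (Lpn K57.v5737))))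
theorem f815306 : Led Lsl_ff K60.v18391 = v23165 :=
  Lgr Lrot25 (Lpe (K60.f766741 IH) (Lpe (f766182 IH) (Lpr_bt (f815305 IH) (Lpn v23165))))
theorem f772243 : Led Lsl_df (LP (LK LD1_c12 LD2_c28 LD3_c34)) = (LP (LK LD1_c14 LD2_c44 LD3_c34)) :=
  Lgr Lrot38 (Lpr_dt (K60.f772240 IH) (Lpn (LP (LK LD1_c14 LD2_c44 LD3_c34))))
theorem f649124 : Led Lsl_at (LP (LK LD1_c12 LD2_c28 LD3_c34)) = (LP (LK LD1_c6 LD2_c29 LD3_c9)) :=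
  Lre_a IH (LK LD1_c12 LD2_c28 LD3_c34) (LK LD1_c6 LD2_c29 LD3_c9) Lrfl Lrfl
theorem f772245 : Led Lsl_at K60.v18391 = (LP (LK LD1_c14 LD2_c44 LD3_c34)) :=
  Lgr Lrot51 (Lpe (K60.f766740 IH) (Lpe (f649124 IH) (Lpr_df (f772243 IH) (Lpn (LP (LK LD1_c14 LD2_c44 LD3_c34))))))
theorem f815307 : Led Lsl_gf K60.v20041 = v23165 :=
  Lgr Lrot47 (Lpe (K60.f784491 IH) (Lpe (f772245 IH) (Lpr_ff (f815306 IH) (Lpn v23165))))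
def v23938 : LQ := Led Lsl_ct v4318
theorem f821431 : Led Lsl_ct v4318 = v23938 :=
  Lrfl
theorem f831108 : Led Lsl_gf v23938 = v25909 :=
  Lgr Lrot126 (Lpe (f821431 IH) (Lpr_bt (f815305 IH) (Lpe (f815307 IH) (Lpe (f784485 IH) (Lpr_gt (K60.f780568 IH) (Lpe (K59.f453957 IH) (Lpr_bt (f652615 IH) (Lpr_gt (f772332 IH) (Lpe (f758858 IH) (Lpr_ct (f831104 IH) (Lpn v25909)))))))))))
theorem f821432 : Led Lsl_cf v4318 = v23938 :=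
  Lgr Lrot11 (Lpr_ct (f821431 IH) (Lpn v23938))
theorem f766183 : Led Lsl_ct (LP (LK LD1_c12 LD2_c28 LD3_c44)) = (LP (LK LD1_c6 LD2_c29 LD3_c15)) :=
  Lre_c IH (LK LD1_c12 LD2_c28 LD3_c44) (LK LD1_c6 LD2_c29 LD3_c15) Lrfl Lrfl
def v25908 : LQ := Led Lsl_gf v6061
theorem f831093 : Led Lsl_gf v6061 = v25908 :=
  Lrfl
theorem f77867 : Led Lsl_et (LP (LK LD1_c3 LD2_c17 LD3_c1)) = (LP (LK LD1_c1 LD2_c35 LD3_c8)) :=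
  Lre_e IH (LK LD1_c3 LD2_c17 LD3_c1) (LK LD1_c1 LD2_c35 LD3_c8) Lrfl Lrfl
def v17020 : LQ := Led Lsl_et (LP (LK LD1_c6 LD2_c10 LD3_c28))
theorem f754375 : Led Lsl_et (LP (LK LD1_c6 LD2_c10 LD3_c28)) = v17020 :=
  Lrfl
theorem f754376 : Led Lsl_ef (LP (LK LD1_c6 LD2_c10 LD3_c28)) = v17020 :=
  Lgr Lrot88 (Lpr_et (f754375 IH) (Lpn v17020))
theorem f831095 : Led Lsl_dt v17020 = v25908 :=
  Lgr Lrot136 (Lpe (f754376 IH) (Lpe (K59.f124422 IH) (Lpe (K59.f115531 IH) (Lpe (K4.f115529 IH) (Lpe (K5.f124416 IH) (Lpe (K5.f26106 IH) (Lpr_gf (K4.f124232 IH) (Lpe (f77867 IH) (Lpr_dt (f650777 IH) (Lpr_gf (f831093 IH) (Lpn v25908)))))))))))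
def v19073 : LQ := Led Lsl_at (LP (LK LD1_c6 LD2_c37 LD3_c34))
theorem f777671 : Led Lsl_at (LP (LK LD1_c6 LD2_c37 LD3_c34)) = v19073 :=
  Lrfl
theorem f61978 : Led Lsl_dt (LP (LK LD1_c6 LD2_c37 LD3_c34)) = (LP (LK LD1_c3 LD2_c17 LD3_c5)) :=
  Lre_d IH (LK LD1_c6 LD2_c37 LD3_c34) (LK LD1_c3 LD2_c17 LD3_c5) Lrfl Lrfl
def v13815 : LQ := Led Lsl_bt (LP (LK LD1_c4 LD2_c48 LD3_c22))
theorem f705042 : Led Lsl_bt (LP (LK LD1_c4 LD2_c48 LD3_c22)) = v13815 :=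
  Lrfl
theorem f705044 : Led Lsl_df K50.v4470 = v13815 :=
  Lgr Lrot12 (Lpe (K50.f634067 IH) (Lpr_dt (K49.f84592 IH) (Lpr_bt (f705042 IH) (Lpn v13815))))
theorem f705045 : Led Lsl_dt K50.v4470 = v13815 :=
  Lgr Lrot42 (Lpr_df (f705044 IH) (Lpn v13815))
theorem f769267 : Led Lsl_ff (LP (LK LD1_c6 LD2_c37 LD3_c34)) = v13815 :=
  Lgr Lrot19 (Lpr_dt (f61978 IH) (Lpq (K58.f769258 IH) (Lpe (K50.f702401 IH) (Lpr_dt (f705045 IH) (Lpn v13815)))))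
def v8537 : LQ := Led Lsl_dt K58.v2083
theorem f671545 : Led Lsl_dt K58.v2083 = v8537 :=
  Lrfl
theorem f769276 : Led Lsl_af v13815 = v8537 :=
  Lgr Lrot117 (Lpe (f705044 IH) (Lpqs (K58.f769266 IH) (Lpe (K58.f650812 IH) (Lpr_dt (f671545 IH) (Lpn v8537)))))
theorem f777674 : Led Lsl_ff v8537 = v19073 :=
  Lgr Lrot30 (Lpe (f769276 IH) (Lpe (f769267 IH) (Lpr_at (f777671 IH) (Lpn v19073))))
theorem f777676 : Led Lsl_ft v8537 = v19073 :=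
  Lgr Lrot48 (Lpr_ff (f777674 IH) (Lpn v19073))
theorem f777672 : Led Lsl_af (LP (LK LD1_c6 LD2_c37 LD3_c34)) = v19073 :=
  Lgr Lrot0 (Lpr_at (f777671 IH) (Lpn v19073))
def v19072 : LQ := Led Lsl_gf (LP (LK LD1_c6 LD2_c37 LD3_c34))
theorem f777670 : Led Lsl_gf (LP (LK LD1_c6 LD2_c37 LD3_c34)) = v19072 :=
  Lrfl
theorem f777677 : Led Lsl_gt v8537 = v19072 :=
  Lgr Lrot5 (Lpr_ft (f777676 IH) (Lpe (f777672 IH) (Lpr_gf (f777670 IH) (Lpn v19072))))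
theorem f61963 : Led Lsl_et (LP (LK LD1_c0 LD2_c44 LD3_c14)) = (LP (LK LD1_c1 LD2_c35 LD3_c10)) :=
  Lre_e IH (LK LD1_c0 LD2_c44 LD3_c14) (LK LD1_c1 LD2_c35 LD3_c10) Lrfl Lrfl
theorem f777678 : Led Lsl_dt (LP (LK LD1_c12 LD2_c23 LD3_c55)) = v19072 :=
  Lgr Lrot56 (Lpr_et (K52.f115521 IH) (Lpr_gt (K51.f115520 IH) (Lpe (K48.f115519 IH) (Lpr_dt (K30.f82414 IH) (Lpr_gt (K4.f115514 IH) (Lpr_df (K1.f61937 IH) (Lpr_et (f61963 IH) (Lpr_gt (K58.f508736 IH) (Lpr_dt (f671545 IH) (Lpr_gt (f777677 IH) (Lpn v19072)))))))))))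
theorem f650792 : Led Lsl_dt (LP (LK LD1_c3 LD2_c17 LD3_c5)) = (LP (LK LD1_c6 LD2_c37 LD3_c34)) :=
  Lre_d IH (LK LD1_c3 LD2_c17 LD3_c5) (LK LD1_c6 LD2_c37 LD3_c34) Lrfl Lrfl
def v6067 : LQ := Led Lsl_et (LP (LK LD1_c3 LD2_c17 LD3_c5))
theorem f650809 : Led Lsl_et (LP (LK LD1_c3 LD2_c17 LD3_c5)) = v6067 :=
  Lrfl
theorem f777680 : Led Lsl_gf K59.v6018 = v6067 :=
  Lgr Lrot138 (Lpe (K59.f650567 IH) (Lpqs (K48.f663071 IH) (Lpr_gt (K48.f662576 IH) (Lpr_df (K48.f207465 IH) (Lpe (K48.f208825 IH) (Lpr_gt (K51.f208833 IH) (Lpe (K52.f115521 IH) (Lpr_dt (f777678 IH) (Lpe (f777670 IH) (Lpe (f650792 IH) (Lpr_et (f650809 IH) (Lpn v6067))))))))))))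
theorem f651606 : Led Lsl_df (LP (LK LD1_c3 LD2_c18 LD3_c34)) = K59.v6170 :=
  Lgr Lrot38 (Lpr_dt (K59.f651604 IH) (Lpn K59.v6170))
theorem f777681 : Led Lsl_gt v17020 = (LP (LK LD1_c12 LD2_c23 LD3_c55)) :=
  Lgr Lrot137 (Lpe (f754375 IH) (Lpr_dt (K59.f754373 IH) (Lpq (K59.f772256 IH) (Lpqs (K59.f772355 IH) (Lpe (K59.f650664 IH) (Lpr_df (f651606 IH) (Lpe (K59.f651607 IH) (Lpr_gf (f777680 IH) (Lpe (f650809 IH) (Lpr_dt (f650792 IH) (Lpr_gf (f777670 IH) (Lpe (f777678 IH) (Lpn (LP (LK LD1_c12 LD2_c23 LD3_c55)))))))))))))))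
theorem f831109 : Led Lsl_gf (LP (LK LD1_c12 LD2_c28 LD3_c44)) = (LP (LK LD1_c12 LD2_c14 LD3_c3)) :=
  Lgr Lrot104 (Lpr_ct (f766183 IH) (Lpe (f766178 IH) (Lpr_cf (f821432 IH) (Lpr_gf (f831108 IH) (Lpe (f831104 IH) (Lpr_gf (f831093 IH) (Lpe (f831095 IH) (Lpr_gt (f777681 IH) (Lpr_ct (K52.f708996 IH) (Lpn (LP (LK LD1_c12 LD2_c14 LD3_c3))))))))))))
theorem f831110 : Led Lsl_gt (LP (LK LD1_c12 LD2_c14 LD3_c3)) = (LP (LK LD1_c12 LD2_c28 LD3_c44)) :=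
  Leop (Lpr_gf (f831109 IH) (Lpn (LP (LK LD1_c12 LD2_c14 LD3_c3))))
theorem seed_1902 : LEOK LG_g (LK LD1_c12 LD2_c14 LD3_c3) :=
  Leoe_g (LK LD1_c12 LD2_c14 LD3_c3) (f831110 IH)
def v6069 : LQ := Led Lsl_gt (LP (LK LD1_c3 LD2_c17 LD3_c6))
def v25916 : LQ := Led Lsl_dt v6069
theorem f831150 : Led Lsl_dt v6069 = v25916 :=
  Lrfl
theorem f831098 : Led Lsl_df v17020 = v25908 :=
  Lgr Lrot38 (Lpr_dt (f831095 IH) (Lpn v25908))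
theorem f772257 : K59.v18383 = v17020 :=
  Lefun (Lecon (K59.f766646 IH) ((K59.f770713 IH).trans (K59.f772249 IH).symm)) (f754375 IH)
theorem f663851 : Led Lsl_af (LP (LK LD1_c12 LD2_c27 LD3_c47)) = (LP (LK LD1_c6 LD2_c29 LD3_c5)) :=
  Lgr Lrot50 (Lpr_et (K32.f506653 IH) (Lpqs (K48.f663847 IH) (Lpe (K48.f649037 IH) (Lpr_et (K59.f649041 IH) (Lpn (LP (LK LD1_c6 LD2_c29 LD3_c5)))))))
theorem f663853 : Led Lsl_at (LP (LK LD1_c12 LD2_c27 LD3_c47)) = (LP (LK LD1_c6 LD2_c29 LD3_c5)) :=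
  Lgr Lrot100 (Lpr_af (f663851 IH) (Lpn (LP (LK LD1_c6 LD2_c29 LD3_c5))))
theorem f506663 : Led Lsl_et (LP (LK LD1_c6 LD2_c28 LD3_c13)) = (LP (LK LD1_c12 LD2_c27 LD3_c47)) :=
  Lre_e IH (LK LD1_c6 LD2_c28 LD3_c13) (LK LD1_c12 LD2_c27 LD3_c47) Lrfl Lrfl
theorem f648894 : Led Lsl_ct (LP (LK LD1_c12 LD2_c27 LD3_c47)) = (LP (LK LD1_c6 LD2_c32 LD3_c15)) :=
  Lgr Lrot15 (Lpe (f506663 IH) (Lpr_cf (K46.f648884 IH) (Lpe (K59.f648893 IH) (Lpn (LP (LK LD1_c6 LD2_c32 LD3_c15))))))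
theorem f648897 : Led Lsl_cf (LP (LK LD1_c12 LD2_c27 LD3_c47)) = (LP (LK LD1_c6 LD2_c32 LD3_c15)) :=
  Lgr Lrot11 (Lpr_ct (f648894 IH) (Lpn (LP (LK LD1_c6 LD2_c32 LD3_c15))))
theorem f766641 : Led Lsl_af (LP (LK LD1_c6 LD2_c32 LD3_c15)) = K59.v18383 :=
  Lgr Lrot68 (Lpe (f648897 IH) (Lpr_at (f663853 IH) (Lpr_ct (K59.f766640 IH) (Lpn K59.v18383))))
theorem f831099 : Led Lsl_at K59.v18706 = v25908 :=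
  Lgr Lrot51 (Lpe (K59.f768128 IH) (Lpr_af (f766641 IH) (Lpqs (f772257 IH) (Lpr_df (f831098 IH) (Lpn v25908)))))
theorem f768130 : Led Lsl_df (LP (LK LD1_c6 LD2_c32 LD3_c15)) = K59.v18706 :=
  Lgr Lrot38 (Lpr_dt (K59.f768128 IH) (Lpn K59.v18706))
theorem f648896 : Led Lsl_bt (LP (LK LD1_c6 LD2_c32 LD3_c15)) = (LP (LK LD1_c3 LD2_c14 LD3_c20)) :=
  Lre_b IH (LK LD1_c6 LD2_c32 LD3_c15) (LK LD1_c3 LD2_c14 LD3_c20) Lrfl Lrfl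
theorem f768131 : Led Lsl_bt (LP (LK LD1_c6 LD2_c32 LD3_c22)) = K59.v18706 :=
  Lgr Lrot95 (Lpe (K48.f144146 IH) (Lpe (f648896 IH) (Lpr_df (f768130 IH) (Lpn K59.v18706))))
def v13818 : LQ := Led Lsl_bt (LP (LK LD1_c4 LD2_c48 LD3_c25))
theorem f705052 : Led Lsl_bt (LP (LK LD1_c4 LD2_c48 LD3_c25)) = v13818 :=
  Lrfl
theorem f705053 : Led Lsl_bf (LP (LK LD1_c4 LD2_c48 LD3_c25)) = v13818 :=
  Lgr Lrot24 (Lpr_bt (f705052 IH) (Lpn v13818))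
theorem f768132 : Led Lsl_ff v13818 = K59.v18706 :=
  Lgr Lrot25 (Lpe (f705053 IH) (Lpe (K48.f663593 IH) (Lpr_bt (f768131 IH) (Lpn K59.v18706))))
theorem f768133 : Led Lsl_ft v13818 = K59.v18706 :=
  Lgr Lrot48 (Lpr_ff (f768132 IH) (Lpn K59.v18706))
theorem f650815 : Led Lsl_gt (LP (LK LD1_c3 LD2_c17 LD3_c6)) = v6069 :=
  Lrfl
theorem f773718 : Led Lsl_at v13818 = v6069 :=
  Lgr Lrot26 (Lpr_ff (f768132 IH) (Lpqs (K59.f773717 IH) (Lpe (K59.f650816 IH) (Lpr_gt (f650815 IH) (Lpn v6069)))))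
theorem f773719 : Led Lsl_af v13818 = v6069 :=
  Lgr Lrot0 (Lpr_at (f773718 IH) (Lpn v6069))
theorem f831101 : Led Lsl_ff v6069 = v25908 :=
  Lgr Lrot30 (Lpe (f773719 IH) (Lpr_ft (f768133 IH) (Lpr_at (f831099 IH) (Lpn v25908))))
theorem f831153 : Led Lsl_ff v17020 = v25916 :=
  Lgr Lrot19 (Lpr_dt (f831095 IH) (Lpe (f831101 IH) (Lpr_dt (f831150 IH) (Lpn v25916))))
theorem f831156 : Led Lsl_ft v17020 = v25916 :=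
  Lgr Lrot48 (Lpr_ff (f831153 IH) (Lpn v25916))
theorem f649048 : Led Lsl_ft (LP (LK LD1_c12 LD2_c28 LD3_c32)) = (LP (LK LD1_c6 LD2_c29 LD3_c5)) :=
  Lre_f IH (LK LD1_c12 LD2_c28 LD3_c32) (LK LD1_c6 LD2_c29 LD3_c5) Lrfl Lrfl
theorem f831159 : Led Lsl_cf (LP (LK LD1_c12 LD2_c28 LD3_c32)) = v25916 :=
  Lgr Lrot108 (Lpr_ft (f649048 IH) (Lpr_ct (K59.f766640 IH) (Lpqs (f772257 IH) (Lpr_ft (f831156 IH) (Lpn v25916)))))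
def v6066 : LQ := Led Lsl_ct (LP (LK LD1_c3 LD2_c17 LD3_c5))
theorem f650807 : Led Lsl_ct (LP (LK LD1_c3 LD2_c17 LD3_c5)) = v6066 :=
  Lrfl
theorem f650808 : Led Lsl_cf (LP (LK LD1_c3 LD2_c17 LD3_c5)) = v6066 :=
  Lgr Lrot11 (Lpr_ct (f650807 IH) (Lpn v6066))
theorem f769262 : (LP (LK LD1_c4 LD2_c43 LD3_c15)) = v6066 :=
  Lefun (Lecon (Lfl_cf (K50.f702394 IH)) (K58.f769258 IH)) (f650807 IH)
theorem f150533 : Led Lsl_gt (LP (LK LD1_c4 LD2_c43 LD3_c16)) = (LP (LK LD1_c9 LD2_c20 LD3_c4)) :=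
  Lre_g IH (LK LD1_c4 LD2_c43 LD3_c16) (LK LD1_c9 LD2_c20 LD3_c4) Lrfl Lrfl
theorem f831161 : Led Lsl_df (LP (LK LD1_c12 LD2_c28 LD3_c32)) = (LP (LK LD1_c9 LD2_c20 LD3_c4)) :=
  Lgr Lrot84 (Lpr_cf (f831159 IH) (Lpe (f831150 IH) (Lpe (f650815 IH) (Lpe (K59.f61977 IH) (Lpe (K58.f61964 IH) (Lpr_cf (f650808 IH) (Lpq (f769262 IH) (Lpr_gt (K50.f128385 IH) (Lpr_dt (K32.f150563 IH) (Lpr_gt (f150533 IH) (Lpn (LP (LK LD1_c9 LD2_c20 LD3_c4)))))))))))))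
theorem f831162 : Led Lsl_dt (LP (LK LD1_c9 LD2_c20 LD3_c4)) = (LP (LK LD1_c12 LD2_c28 LD3_c32)) :=
  Leop (Lpr_df (f831161 IH) (Lpn (LP (LK LD1_c9 LD2_c20 LD3_c4))))
theorem seed_1903 : LEOK LG_d (LK LD1_c9 LD2_c20 LD3_c4) :=
  Leoe_d (LK LD1_c9 LD2_c20 LD3_c4) (f831162 IH)
def v6188 : LQ := Led Lsl_bt (LP (LK LD1_c3 LD2_c18 LD3_c46))
def v26022 : LQ := Led Lsl_ct v6188
theorem f831695 : Led Lsl_ct v6188 = v26022 :=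
  Lrfl
def v17084 : LQ := Led Lsl_dt (LP (LK LD1_c6 LD2_c11 LD3_c18))
theorem f755004 : Led Lsl_dt (LP (LK LD1_c6 LD2_c11 LD3_c18)) = v17084 :=
  Lrfl
theorem f755006 : Led Lsl_df (LP (LK LD1_c6 LD2_c11 LD3_c18)) = v17084 :=
  Lgr Lrot38 (Lpr_dt (f755004 IH) (Lpn v17084))
theorem f414673 : Led Lsl_bt (LP (LK LD1_c6 LD2_c11 LD3_c18)) = (LP (LK LD1_c3 LD2_c2 LD3_c17)) :=
  Lre_b IH (LK LD1_c6 LD2_c11 LD3_c18) (LK LD1_c3 LD2_c2 LD3_c17) Lrfl Lrfl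
theorem f755008 : Led Lsl_bt (LP (LK LD1_c6 LD2_c11 LD3_c23)) = v17084 :=
  Lgr Lrot95 (Lpe (K32.f62015 IH) (Lpe (f414673 IH) (Lpr_df (f755006 IH) (Lpn v17084))))
theorem f651724 : Led Lsl_bt (LP (LK LD1_c3 LD2_c18 LD3_c46)) = v6188 :=
  Lrfl
theorem f651725 : Led Lsl_bf (LP (LK LD1_c3 LD2_c18 LD3_c46)) = v6188 :=
  Lgr Lrot24 (Lpr_bt (f651724 IH) (Lpn v6188))
theorem f755009 : Led Lsl_ff v6188 = v17084 :=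
  Lgr Lrot25 (Lpe (f651725 IH) (Lpr_ft (K49.f651989 IH) (Lpq (K49.f663239 IH) (Lpr_bt (f755008 IH) (Lpn v17084)))))
theorem f646695 : Led Lsl_bt (LP (LK LD1_c3 LD2_c2 LD3_c17)) = (LP (LK LD1_c6 LD2_c11 LD3_c18)) :=
  Lre_b IH (LK LD1_c3 LD2_c2 LD3_c17) (LK LD1_c6 LD2_c11 LD3_c18) Lrfl Lrfl
theorem f755005 : Led Lsl_bf (LP (LK LD1_c6 LD2_c11 LD3_c23)) = v17084 :=
  Lgr Lrot93 (Lpr_dt (K49.f62037 IH) (Lpr_bt (f646695 IH) (Lpr_dt (f755004 IH) (Lpn v17084))))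
theorem f62073 : Led Lsl_bt (LP (LK LD1_c1 LD2_c37 LD3_c15)) = (LP (LK LD1_c3 LD2_c18 LD3_c41)) :=
  Lre_b IH (LK LD1_c1 LD2_c37 LD3_c15) (LK LD1_c3 LD2_c18 LD3_c41) Lrfl Lrfl
theorem f77111 : Led Lsl_ct (LP (LK LD1_c3 LD2_c8 LD3_c18)) = (LP (LK LD1_c6 LD2_c21 LD3_c16)) :=
  Lre_c IH (LK LD1_c3 LD2_c8 LD3_c18) (LK LD1_c6 LD2_c21 LD3_c16) Lrfl Lrfl
theorem f77655 : Led Lsl_gt (LP (LK LD1_c12 LD2_c16 LD3_c35)) = (LP (LK LD1_c6 LD2_c21 LD3_c16)) :=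
  Lre_g IH (LK LD1_c12 LD2_c16 LD3_c35) (LK LD1_c6 LD2_c21 LD3_c16) Lrfl Lrfl
theorem f755011 : Led Lsl_cf (LP (LK LD1_c12 LD2_c16 LD3_c35)) = v17084 :=
  Lgr Lrot160 (Lpr_gt (f77655 IH) (Lpe (f77111 IH) (Lpr_bt (K6.f77108 IH) (Lpr_gt (K35.f77738 IH) (Lpe (K48.f140707 IH) (Lpr_gt (K48.f62076 IH) (Lpe (K57.f62075 IH) (Lpr_bt (f62073 IH) (Lpe (K32.f62028 IH) (Lpr_bf (f755005 IH) (Lpn v17084)))))))))))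
theorem f755012 : Led Lsl_ct (LP (LK LD1_c12 LD2_c16 LD3_c35)) = v17084 :=
  Lgr Lrot59 (Lpr_cf (f755011 IH) (Lpn v17084))
theorem f831697 : Led Lsl_ff (LP (LK LD1_c12 LD2_c16 LD3_c35)) = v26022 :=
  Lgr Lrot23 (Lpr_ct (f755012 IH) (Lpe (f755009 IH) (Lpr_ct (f831695 IH) (Lpn v26022))))
theorem f831700 : Led Lsl_ft (LP (LK LD1_c12 LD2_c16 LD3_c35)) = v26022 :=
  Lgr Lrot48 (Lpr_ff (f831697 IH) (Lpn v26022))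
theorem f77653 : Led Lsl_gt (LP (LK LD1_c6 LD2_c21 LD3_c16)) = (LP (LK LD1_c12 LD2_c16 LD3_c34)) :=
  Lre_g IH (LK LD1_c6 LD2_c21 LD3_c16) (LK LD1_c12 LD2_c16 LD3_c34) Lrfl Lrfl
theorem f831701 : Led Lsl_af (LP (LK LD1_c12 LD2_c16 LD3_c34)) = v26022 :=
  Lgr Lrot31 (Lpe (f77653 IH) (Lpe (f77655 IH) (Lpr_ft (f831700 IH) (Lpn v26022))))
def v18767 : LQ := Led Lsl_gt (LP (LK LD1_c6 LD2_c32 LD3_c51))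
theorem f768357 : Led Lsl_gt (LP (LK LD1_c6 LD2_c32 LD3_c51)) = v18767 :=
  Lrfl
theorem f646596 : Led Lsl_et (LP (LK LD1_c6 LD2_c11 LD3_c18)) = (LP (LK LD1_c3 LD2_c2 LD3_c15)) :=
  Lre_e IH (LK LD1_c6 LD2_c11 LD3_c18) (LK LD1_c3 LD2_c2 LD3_c15) Lrfl Lrfl
def v5920 : LQ := Led Lsl_at (LP (LK LD1_c3 LD2_c14 LD3_c58))
theorem f650063 : Led Lsl_at (LP (LK LD1_c3 LD2_c14 LD3_c58)) = v5920 :=
  Lrfl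
theorem f127105 : Led Lsl_at (LP (LK LD1_c1 LD2_c37 LD3_c41)) = (LP (LK LD1_c1 LD2_c26 LD3_c43)) :=
  Lgr Lrot67 (Lpe (K4.f77835 IH) (Lpr_af (K5.f127101 IH) (Lpe (K3.f57582 IH) (Lpr_af (K4.f113084 IH) (Lpe (K4.f61705 IH) (Lpn (LP (LK LD1_c1 LD2_c26 LD3_c43))))))))
theorem f502845 : Led Lsl_af (LP (LK LD1_c1 LD2_c33 LD3_c61)) = K59.v1781 :=
  Lgr Lrot117 (Lpe (K5.f126561 IH) (Lpr_at (f127105 IH) (Lpr_dt (K59.f502844 IH) (Lpn K59.v1781))))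
theorem f650066 : Led Lsl_ef K59.v1781 = v5920 :=
  Lgr Lrot20 (Lpe (f502845 IH) (Lpr_et (K52.f126603 IH) (Lpr_at (f650063 IH) (Lpn v5920))))
theorem f23571 : Led Lsl_et (LP (LK LD1_c1 LD2_c34 LD3_c16)) = (LP (LK LD1_c3 LD2_c15 LD3_c15)) :=
  Lre_e IH (LK LD1_c1 LD2_c34 LD3_c16) (LK LD1_c3 LD2_c15 LD3_c15) Lrfl Lrfl
theorem f650067 : Led Lsl_dt (LP (LK LD1_c3 LD2_c15 LD3_c15)) = v5920 :=
  Lgr Lrot77 (Lpe (f23571 IH) (Lpe (K2.f23344 IH) (Lpr_ef (K59.f126601 IH) (Lpr_df (K59.f502847 IH) (Lpr_ef (f650066 IH) (Lpn v5920))))))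
theorem f708137 : v5220 = v5920 :=
  Lefun (Lecon (Lfl_df (f651494 IH)) (K51.f708112 IH)) (f650067 IH)
theorem f650068 : Led Lsl_et K59.v1781 = v5920 :=
  Lgr Lrot87 (Lpr_ef (f650066 IH) (Lpn v5920))
theorem f95269 : Led Lsl_et (LP (LK LD1_c3 LD2_c14 LD3_c40)) = (LP (LK LD1_c1 LD2_c33 LD3_c52)) :=
  Lre_e IH (LK LD1_c3 LD2_c14 LD3_c40) (LK LD1_c1 LD2_c33 LD3_c52) Lrfl Lrfl
theorem f95270 : Led Lsl_dt (LP (LK LD1_c3 LD2_c14 LD3_c40)) = (LP (LK LD1_c6 LD2_c32 LD3_c51)) :=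
  Lre_d IH (LK LD1_c3 LD2_c14 LD3_c40) (LK LD1_c6 LD2_c32 LD3_c51) Lrfl Lrfl
theorem f755007 : Led Lsl_gf (LP (LK LD1_c6 LD2_c32 LD3_c51)) = v17084 :=
  Lgr Lrot145 (Lpe (f95270 IH) (Lpr_et (f95269 IH) (Lpr_gt (K4.f95263 IH) (Lpr_dt (K3.f25112 IH) (Lpr_gt (K4.f77831 IH) (Lpr_df (K59.f502847 IH) (Lpr_et (f650068 IH) (Lpq (f708137 IH) (Lpe (f646595 IH) (Lpe (f646596 IH) (Lpr_dt (f755004 IH) (Lpn v17084))))))))))))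
theorem f768358 : Led Lsl_at v6188 = v18767 :=
  Lgr Lrot26 (Lpr_ff (f755009 IH) (Lpe (f755007 IH) (Lpr_gt (f768357 IH) (Lpn v18767))))
theorem f768360 : Led Lsl_af v6188 = v18767 :=
  Lgr Lrot0 (Lpr_at (f768358 IH) (Lpn v18767))
theorem f831703 : Led Lsl_ct (LP (LK LD1_c12 LD2_c16 LD3_c34)) = v18767 :=
  Lgr Lrot111 (Lpr_af (f831701 IH) (Lpe (f831695 IH) (Lpr_af (f768360 IH) (Lpn v18767))))
theorem f831705 : Led Lsl_dt (LP (LK LD1_c21 LD2_c21 LD3_c49)) = (LP (LK LD1_c12 LD2_c16 LD3_c34)) :=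
  Lre_d IH (LK LD1_c21 LD2_c21 LD3_c49) (LK LD1_c12 LD2_c16 LD3_c34) Lrfl Lrfl
theorem f414658 : Led Lsl_ct (LP (LK LD1_c6 LD2_c11 LD3_c18)) = (LP (LK LD1_c12 LD2_c2 LD3_c52)) :=
  Lre_c IH (LK LD1_c6 LD2_c11 LD3_c18) (LK LD1_c12 LD2_c2 LD3_c52) Lrfl Lrfl
theorem f76448 : Led Lsl_et (LP (LK LD1_c3 LD2_c12 LD3_c35)) = (LP (LK LD1_c6 LD2_c29 LD3_c17)) :=
  Lre_e IH (LK LD1_c3 LD2_c12 LD3_c35) (LK LD1_c6 LD2_c29 LD3_c17) Lrfl Lrfl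
theorem f77420 : Led Lsl_et (LP (LK LD1_c3 LD2_c8 LD3_c16)) = (LP (LK LD1_c1 LD2_c30 LD3_c21)) :=
  Lre_e IH (LK LD1_c3 LD2_c8 LD3_c16) (LK LD1_c1 LD2_c30 LD3_c21) Lrfl Lrfl
theorem f77416 : Led Lsl_dt (LP (LK LD1_c3 LD2_c8 LD3_c16)) = (LP (LK LD1_c6 LD2_c21 LD3_c10)) :=
  Lre_d IH (LK LD1_c3 LD2_c8 LD3_c16) (LK LD1_c6 LD2_c21 LD3_c10) Lrfl Lrfl
theorem f77564 : Led Lsl_gt (LP (LK LD1_c12 LD2_c16 LD3_c23)) = (LP (LK LD1_c6 LD2_c21 LD3_c10)) :=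
  Lre_g IH (LK LD1_c12 LD2_c16 LD3_c23) (LK LD1_c6 LD2_c21 LD3_c10) Lrfl Lrfl
theorem f414646 : Led Lsl_et (LP (LK LD1_c12 LD2_c2 LD3_c52)) = (LP (LK LD1_c6 LD2_c11 LD3_c17)) :=
  Lre_e IH (LK LD1_c12 LD2_c2 LD3_c52) (LK LD1_c6 LD2_c11 LD3_c17) Lrfl Lrfl
theorem f414653 : Led Lsl_df (LP (LK LD1_c12 LD2_c16 LD3_c23)) = (LP (LK LD1_c12 LD2_c2 LD3_c52)) :=
  Lgr Lrot170 (Lpr_gt (f77564 IH) (Lpe (f77416 IH) (Lpr_et (f77420 IH) (Lpr_gt (K2.f77775 IH) (Lpe (K2.f78131 IH) (Lpr_gt (K2.f76686 IH) (Lpe (K2.f76474 IH) (Lpr_et (f76448 IH) (Lpr_gt (K56.f414640 IH) (Lpe (f414646 IH) (Lpn (LP (LK LD1_c12 LD2_c2 LD3_c52)))))))))))))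
theorem f414656 : Led Lsl_ct (LP (LK LD1_c12 LD2_c16 LD3_c23)) = (LP (LK LD1_c21 LD2_c21 LD3_c30)) :=
  Lre_c IH (LK LD1_c12 LD2_c16 LD3_c23) (LK LD1_c21 LD2_c21 LD3_c30) Lrfl Lrfl
theorem f414657 : Led Lsl_dt (LP (LK LD1_c21 LD2_c21 LD3_c30)) = (LP (LK LD1_c29 LD2_c59 LD3_c17)) :=
  Lre_d IH (LK LD1_c21 LD2_c21 LD3_c30) (LK LD1_c29 LD2_c59 LD3_c17) Lrfl Lrfl
theorem f831706 : Led Lsl_cf (LP (LK LD1_c21 LD2_c21 LD3_c49)) = (LP (LK LD1_c29 LD2_c59 LD3_c17)) :=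
  Lgr Lrot161 (Lpr_dt (f831705 IH) (Lpr_ct (f831703 IH) (Lpe (f768358 IH) (Lpr_ff (f755009 IH) (Lpe (f755006 IH) (Lpr_ct (f414658 IH) (Lpe (f414653 IH) (Lpr_ct (f414656 IH) (Lpr_dt (f414657 IH) (Lpn (LP (LK LD1_c29 LD2_c59 LD3_c17))))))))))))
theorem f831707 : Led Lsl_ct (LP (LK LD1_c29 LD2_c59 LD3_c17)) = (LP (LK LD1_c21 LD2_c21 LD3_c49)) :=
  Leop (Lpr_cf (f831706 IH) (Lpn (LP (LK LD1_c29 LD2_c59 LD3_c17))))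
theorem seed_1904 : LEOK LG_c (LK LD1_c29 LD2_c59 LD3_c17) :=
  Leoe_c (LK LD1_c29 LD2_c59 LD3_c17) (f831707 IH)
def v6240 : LQ := Led Lsl_gf (LP (LK LD1_c3 LD2_c19 LD3_c21))
def v26072 : LQ := Led Lsl_ct v6240
theorem f831898 : Led Lsl_ct v6240 = v26072 :=
  Lrfl
def v19470 : LQ := Led Lsl_at (LP (LK LD1_c6 LD2_c42 LD3_c44))
theorem f779912 : Led Lsl_at (LP (LK LD1_c6 LD2_c42 LD3_c44)) = v19470 :=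
  Lrfl
theorem f779913 : Led Lsl_af (LP (LK LD1_c6 LD2_c42 LD3_c44)) = v19470 :=
  Lgr Lrot0 (Lpr_at (f779912 IH) (Lpn v19470))
theorem f652257 : Led Lsl_gf (LP (LK LD1_c3 LD2_c19 LD3_c21)) = v6240 :=
  Lrfl
theorem f779915 : Led Lsl_ft v6240 = v19470 :=
  Lgr Lrot2 (Lpe (f652257 IH) (Lpr_gt (K60.f24778 IH) (Lpr_af (f779913 IH) (Lpn v19470))))
theorem f779916 : Led Lsl_ff v6240 = v19470 :=
  Lgr Lrot3 (Lpr_ft (f779915 IH) (Lpn v19470))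
def v21475 : LQ := Led Lsl_gt (LP (LK LD1_c7 LD2_c20 LD3_c10))
theorem f797436 : Led Lsl_gt (LP (LK LD1_c7 LD2_c20 LD3_c10)) = v21475 :=
  Lrfl
theorem f115143 : Led Lsl_dt (LP (LK LD1_c7 LD2_c20 LD3_c10)) = (LP (LK LD1_c3 LD2_c42 LD3_c3)) :=
  Lgr Lrot42 (Lpr_df (K58.f115140 IH) (Lpn (LP (LK LD1_c3 LD2_c42 LD3_c3))))
theorem f134825 : Led Lsl_ct (LP (LK LD1_c6 LD2_c42 LD3_c47)) = (LP (LK LD1_c3 LD2_c19 LD3_c22)) :=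
  Lre_c IH (LK LD1_c6 LD2_c42 LD3_c47) (LK LD1_c3 LD2_c19 LD3_c22) Lrfl Lrfl
def v19411 : LQ := Led Lsl_gt (LP (LK LD1_c6 LD2_c42 LD3_c1))
theorem f779611 : Led Lsl_gt (LP (LK LD1_c6 LD2_c42 LD3_c1)) = v19411 :=
  Lrfl
theorem f24766 : Led Lsl_at (LP (LK LD1_c3 LD2_c19 LD3_c21)) = (LP (LK LD1_c6 LD2_c42 LD3_c1)) :=
  Lre_a IH (LK LD1_c3 LD2_c19 LD3_c21) (LK LD1_c6 LD2_c42 LD3_c1) Lrfl Lrfl
theorem f24795 : Led Lsl_ft (LP (LK LD1_c6 LD2_c42 LD3_c47)) = (LP (LK LD1_c3 LD2_c19 LD3_c21)) :=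
  Lre_f IH (LK LD1_c6 LD2_c42 LD3_c47) (LK LD1_c3 LD2_c19 LD3_c21) Lrfl Lrfl
theorem f779619 : Led Lsl_af (LP (LK LD1_c6 LD2_c42 LD3_c47)) = K60.v19413 :=
  Lgr Lrot45 (Lpr_ft (f24795 IH) (Lpr_at (f24766 IH) (Lpr_ft (K60.f779618 IH) (Lpn K60.v19413))))
theorem f779622 : Led Lsl_gt v19411 = (LP (LK LD1_c6 LD2_c42 LD3_c47)) :=
  Lgr Lrot46 (Lpe (f779611 IH) (Lpr_ft (K60.f779618 IH) (Lpe (f779619 IH) (Lpn (LP (LK LD1_c6 LD2_c42 LD3_c47))))))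
theorem f797437 : Led Lsl_cf v19411 = v21475 :=
  Lgr Lrot169 (Lpr_gt (f779622 IH) (Lpr_ct (f134825 IH) (Lpe (K48.f134821 IH) (Lpe (K6.f139829 IH) (Lpe (K50.f139839 IH) (Lpe (K50.f415359 IH) (Lpqs (K59.f769989 IH) (Lpe (K59.f662255 IH) (Lpe (f115143 IH) (Lpr_gt (f797436 IH) (Lpn v21475)))))))))))
theorem f134823 : Led Lsl_ct (LP (LK LD1_c3 LD2_c19 LD3_c22)) = (LP (LK LD1_c6 LD2_c42 LD3_c47)) :=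
  Lre_c IH (LK LD1_c3 LD2_c19 LD3_c22) (LK LD1_c6 LD2_c42 LD3_c47) Lrfl Lrfl
theorem f146013 : Led Lsl_bt (LP (LK LD1_c3 LD2_c19 LD3_c22)) = (LP (LK LD1_c1 LD2_c36 LD3_c14)) :=
  Lre_b IH (LK LD1_c3 LD2_c19 LD3_c22) (LK LD1_c1 LD2_c36 LD3_c14) Lrfl Lrfl
def v4277 : LQ := Led Lsl_gt (LP (LK LD1_c2 LD2_c18 LD3_c12))
theorem f632359 : Led Lsl_gt (LP (LK LD1_c2 LD2_c18 LD3_c12)) = v4277 :=
  Lrfl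
theorem f797439 : Led Lsl_bf v4277 = v21475 :=
  Lgr Lrot34 (Lpe (f632359 IH) (Lpe (K59.f154047 IH) (Lpr_ct (K35.f82832 IH) (Lpe (K50.f153506 IH) (Lpr_cf (K50.f415357 IH) (Lpe (K32.f206548 IH) (Lpe (f146013 IH) (Lpr_ct (f134823 IH) (Lpe (f779622 IH) (Lpr_cf (f797437 IH) (Lpn v21475)))))))))))
theorem f797441 : Led Lsl_bt v4277 = v21475 :=
  Lgr Lrot127 (Lpr_bf (f797439 IH) (Lpn v21475))
def v9747 : LQ := Led Lsl_dt K58.v3059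
theorem f677487 : Led Lsl_dt K58.v3059 = v9747 :=
  Lrfl
theorem f677488 : Led Lsl_df K58.v3059 = v9747 :=
  Lgr Lrot38 (Lpr_dt (f677487 IH) (Lpn v9747))
theorem f506425 : Led Lsl_df K58.v487 = K57.v1927 :=
  Lgr Lrot70 (Lpe (K58.f453587 IH) (Lpr_dt (K5.f82516 IH) (Lpr_et (K5.f82507 IH) (Lpr_dt (K5.f82480 IH) (Lpr_et (K57.f506423 IH) (Lpn K57.v1927))))))
theorem f430510 : Led Lsl_et (LP (LK LD1_c1 LD2_c6 LD3_c9)) = (LP (LK LD1_c2 LD2_c18 LD3_c12)) :=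
  Lre_e IH (LK LD1_c1 LD2_c6 LD3_c9) (LK LD1_c2 LD2_c18 LD3_c12) Lrfl Lrfl
theorem f677489 : Led Lsl_ef v4277 = v9747 :=
  Lgr Lrot17 (Lpe (f632359 IH) (Lpe (f430510 IH) (Lpr_dt (K5.f104592 IH) (Lpe (K6.f104602 IH) (Lpe (K57.f104606 IH) (Lpr_gf (f430507 IH) (Lpr_ef (K57.f506426 IH) (Lpe (f506425 IH) (Lpr_gf (K58.f622711 IH) (Lpr_df (f677488 IH) (Lpn v9747)))))))))))
theorem f677490 : Led Lsl_et v4277 = v9747 :=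
  Lgr Lrot87 (Lpr_ef (f677489 IH) (Lpn v9747))
def v3071 : LQ := Led Lsl_dt K58.v490
def v9795 : LQ := Led Lsl_ft v3071
theorem f677622 : Led Lsl_ft v3071 = v9795 :=
  Lrfl
theorem f677625 : Led Lsl_ff v3071 = v9795 :=
  Lgr Lrot3 (Lpr_ft (f677622 IH) (Lpn v9795))
theorem f622742 : Led Lsl_dt K58.v490 = v3071 :=
  Lrfl
theorem f622743 : Led Lsl_df K58.v490 = v3071 :=
  Lgr Lrot38 (Lpr_dt (f622742 IH) (Lpn v3071))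
theorem f677631 : Led Lsl_dt K58.v3073 = v9795 :=
  Lgr Lrot60 (Lpe (K58.f622746 IH) (Lpr_df (f622743 IH) (Lpr_ff (f677625 IH) (Lpn v9795))))
theorem f769081 : v9795 = v9747 :=
  Lefun (Lecon (f677631 IH) (K58.f769076 IH)) (f677487 IH)
def v9776 : LQ := Led Lsl_dt K58.v3068
theorem f677563 : Led Lsl_dt K58.v3068 = v9776 :=
  Lrfl
theorem f677564 : Led Lsl_af v3071 = v9776 :=
  Lgr Lrot117 (Lpe (f622743 IH) (Lpr_at (K58.f622734 IH) (Lpr_dt (f677563 IH) (Lpn v9776))))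
def v3076 : LQ := Led Lsl_dt K58.v491
theorem f622754 : Led Lsl_dt K58.v491 = v3076 :=
  Lrfl
theorem f622755 : Led Lsl_df K58.v491 = v3076 :=
  Lgr Lrot38 (Lpr_dt (f622754 IH) (Lpn v3076))
theorem f677566 : Led Lsl_ff v3076 = v9776 :=
  Lgr Lrot19 (Lpe (f622755 IH) (Lpr_ft (K58.f622736 IH) (Lpr_dt (f677563 IH) (Lpn v9776))))
theorem f677567 : Led Lsl_ft v3076 = v9776 :=
  Lgr Lrot48 (Lpr_ff (f677566 IH) (Lpn v9776))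
theorem f677623 : Led Lsl_af v3076 = v9795 :=
  Lgr Lrot45 (Lpr_ft (f677567 IH) (Lpe (f677564 IH) (Lpr_ft (f677622 IH) (Lpn v9795))))
def v9811 : LQ := Led Lsl_et v3076
theorem f677668 : Led Lsl_et v3076 = v9811 :=
  Lrfl
theorem f775803 : Led Lsl_af v4277 = v9811 :=
  Lgr Lrot50 (Lpr_et (f677490 IH) (Lpq (f769081 IH) (Lpe (f677623 IH) (Lpr_et (f677668 IH) (Lpn v9811)))))
theorem f769154 : Led Lsl_bt K59.v4278 = K59.v6755 :=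
  Lgr Lrot127 (Lpr_bf (K59.f769153 IH) (Lpn K59.v6755))
theorem f775805 : Led Lsl_ft K59.v4278 = v9811 :=
  Lgr Lrot2 (Lpe (K59.f632360 IH) (Lpr_gt (f632359 IH) (Lpr_af (f775803 IH) (Lpn v9811))))
theorem f775807 : Led Lsl_ff K59.v4278 = v9811 :=
  Lgr Lrot3 (Lpr_ft (f775805 IH) (Lpn v9811))
theorem f777484 : Led Lsl_bf v9811 = K59.v19057 :=
  Lgr Lrot61 (Lpe (f775807 IH) (Lpr_bt (f769154 IH) (Lpr_ft (K59.f777483 IH) (Lpn K59.v19057))))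
theorem f777487 : Led Lsl_at (LP (LK LD1_c6 LD2_c59 LD3_c7)) = K59.v19057 :=
  Lgr Lrot100 (Lpr_af (K59.f777486 IH) (Lpn K59.v19057))
def v19471 : LQ := Led Lsl_ct (LP (LK LD1_c6 LD2_c42 LD3_c44))
theorem f779917 : Led Lsl_ct (LP (LK LD1_c6 LD2_c42 LD3_c44)) = v19471 :=
  Lrfl
theorem f776751 : Led Lsl_ct (LP (LK LD1_c21 LD2_c43 LD3_c1)) = (LP (LK LD1_c12 LD2_c50 LD3_c18)) :=
  Lgr Lrot59 (Lpr_cf (K60.f776745 IH) (Lpn (LP (LK LD1_c12 LD2_c50 LD3_c18))))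
theorem f779918 : Led Lsl_bf (LP (LK LD1_c6 LD2_c59 LD3_c7)) = v19471 :=
  Lgr Lrot90 (Lpe (K59.f776722 IH) (Lpr_bt (K60.f776727 IH) (Lpr_ct (f776751 IH) (Lpr_bt (K60.f444104 IH) (Lpr_ct (f779917 IH) (Lpn v19471))))))
theorem f797442 : Led Lsl_af v19471 = v21475 :=
  Lgr Lrot36 (Lpe (f779918 IH) (Lpr_at (f777487 IH) (Lpe (f777484 IH) (Lpe (f775803 IH) (Lpr_bt (f797441 IH) (Lpn v21475))))))
theorem f779919 : Led Lsl_cf (LP (LK LD1_c6 LD2_c42 LD3_c44)) = v19471 :=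
  Lgr Lrot11 (Lpr_ct (f779917 IH) (Lpn v19471))
theorem f797438 : Led Lsl_ct v19411 = v21475 :=
  Lgr Lrot59 (Lpr_cf (f797437 IH) (Lpn v21475))
theorem f797443 : v19470 = v19411 :=
  (Llr Lrot107 (Lpe (f779912 IH) (Lpr_cf (f779919 IH) (Lpr_af (f797442 IH) (Lpe (f797438 IH) (Lpn v19411)))))).symm
theorem f831901 : Led Lsl_ff v21475 = v26072 :=
  Lgr Lrot23 (Lpe (f797437 IH) (Lpq (f797443 IH) (Lpe (f779916 IH) (Lpr_ct (f831898 IH) (Lpn v26072)))))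
theorem f779922 : Led Lsl_gt K58.v7149 = v19471 :=
  Lgr Lrot9 (Lpe (K58.f661549 IH) (Lpq (K58.f769943 IH) (Lpe (K58.f761740 IH) (Lpr_ct (K58.f453955 IH) (Lpr_gt (K58.f148659 IH) (Lpr_ct (K62.f614855 IH) (Lpr_df (K58.f652035 IH) (Lpr_cf (K60.f779620 IH) (Lpe (K60.f779627 IH) (Lpr_cf (f779919 IH) (Lpn v19471)))))))))))
theorem f831905 : Led Lsl_gf K58.v7149 = v26072 :=
  Lgr Lrot47 (Lpr_gt (f779922 IH) (Lpr_af (f797442 IH) (Lpr_ff (f831901 IH) (Lpn v26072))))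
def v7147 : LQ := Led Lsl_gt (LP (LK LD1_c3 LD2_c39 LD3_c57))
theorem f661547 : Led Lsl_gt (LP (LK LD1_c3 LD2_c39 LD3_c57)) = v7147 :=
  Lrfl
theorem f769978 : (LP (LK LD1_c6 LD2_c42 LD3_c19)) = v7147 :=
  Lefun (Lecon (Lfl_gf (K58.f761740 IH)) (K58.f769943 IH)) (f661547 IH)
theorem f24770 : Led Lsl_dt (LP (LK LD1_c3 LD2_c19 LD3_c21)) = (LP (LK LD1_c6 LD2_c42 LD3_c46)) :=
  Lre_d IH (LK LD1_c3 LD2_c19 LD3_c21) (LK LD1_c6 LD2_c42 LD3_c46) Lrfl Lrfl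
theorem f24796 : Led Lsl_gt (LP (LK LD1_c6 LD2_c42 LD3_c46)) = (LP (LK LD1_c12 LD2_c50 LD3_c26)) :=
  Lre_g IH (LK LD1_c6 LD2_c42 LD3_c46) (LK LD1_c12 LD2_c50 LD3_c26) Lrfl Lrfl
theorem f831907 : Led Lsl_df (LP (LK LD1_c21 LD2_c58 LD3_c1)) = (LP (LK LD1_c12 LD2_c50 LD3_c26)) :=
  Lgr Lrot84 (Lpe (K61.f652177 IH) (Lpe (K61.f652170 IH) (Lpqs (f769978 IH) (Lpe (f661547 IH) (Lpr_df (K58.f661552 IH) (Lpr_gf (f831905 IH) (Lpe (f831898 IH) (Lpe (f652257 IH) (Lpr_dt (f24770 IH) (Lpr_gt (f24796 IH) (Lpn (LP (LK LD1_c12 LD2_c50 LD3_c26)))))))))))))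
theorem f831908 : Led Lsl_dt (LP (LK LD1_c12 LD2_c50 LD3_c26)) = (LP (LK LD1_c21 LD2_c58 LD3_c1)) :=
  Leop (Lpr_df (f831907 IH) (Lpn (LP (LK LD1_c12 LD2_c50 LD3_c26))))
theorem seed_1905 : LEOK LG_d (LK LD1_c12 LD2_c50 LD3_c26) :=
  Leoe_d (LK LD1_c12 LD2_c50 LD3_c26) (f831908 IH)
def v21686 : LQ := Led Lsl_gt (LP (LK LD1_c7 LD2_c24 LD3_c55))
theorem f798702 : Led Lsl_gt (LP (LK LD1_c7 LD2_c24 LD3_c55)) = v21686 :=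
  Lrfl
def v26119 : LQ := Led Lsl_ct v6294
theorem f832141 : Led Lsl_ct v6294 = v26119 :=
  Lrfl
def v18952 : LQ := Led Lsl_bt (LP (LK LD1_c6 LD2_c35 LD3_c34))
theorem f776789 : Led Lsl_bt (LP (LK LD1_c6 LD2_c35 LD3_c34)) = v18952 :=
  Lrfl
theorem f88683 : Led Lsl_bt (LP (LK LD1_c7 LD2_c48 LD3_c46)) = (LP (LK LD1_c3 LD2_c53 LD3_c37)) :=
  Lre_b IH (LK LD1_c7 LD2_c48 LD3_c46) (LK LD1_c3 LD2_c53 LD3_c37) Lrfl Lrfl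
theorem f775747 : Led Lsl_ct (LP (LK LD1_c7 LD2_c48 LD3_c46)) = (LP (LK LD1_c12 LD2_c52 LD3_c13)) :=
  Lgr Lrot59 (Lpr_cf (K59.f775741 IH) (Lpn (LP (LK LD1_c12 LD2_c52 LD3_c13))))
theorem f776793 : Led Lsl_gf v6294 = v18952 :=
  Lgr Lrot124 (Lpe (f652615 IH) (Lpr_ct (K59.f453957 IH) (Lpr_gt (K59.f709445 IH) (Lpe (f775747 IH) (Lpr_bt (f88683 IH) (Lpr_gt (K48.f86349 IH) (Lpe (K59.f769493 IH) (Lpe (K59.f119492 IH) (Lpe (K59.f118080 IH) (Lpr_bt (f776789 IH) (Lpn v18952)))))))))))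
theorem f773531 : Led Lsl_bt (LP (LK LD1_c7 LD2_c48 LD3_c49)) = (LP (LK LD1_c12 LD2_c24 LD3_c15)) :=
  Lgr Lrot127 (Lpr_bf (K59.f773296 IH) (Lpn (LP (LK LD1_c12 LD2_c24 LD3_c15))))
theorem f776791 : Led Lsl_df K58.v6003 = v18952 :=
  Lgr Lrot12 (Lpe (K58.f650482 IH) (Lpr_dt (K4.f118242 IH) (Lpr_bt (f776789 IH) (Lpn v18952))))
def v8659 : LQ := Led Lsl_ct K58.v2138
theorem f671924 : Led Lsl_ct K58.v2138 = v8659 :=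
  Lrfl
theorem f673940 : Led Lsl_ff K58.v2507 = K58.v9185 :=
  Lgr Lrot3 (Lpr_ft (K58.f673937 IH) (Lpn K58.v9185))
theorem f758117 : Led Lsl_bf K58.v9185 = K58.v17280 :=
  Lgr Lrot61 (Lpe (f673940 IH) (Lpe (K58.f523677 IH) (Lpr_ft (K58.f758115 IH) (Lpn K58.v17280))))
theorem f523676 : Led Lsl_af (LP (LK LD1_c3 LD2_c42 LD3_c4)) = K58.v2507 :=
  Lgr Lrot50 (Lpr_et (K11.f114961 IH) (Lpe (K4.f114934 IH) (Lpr_et (K58.f523675 IH) (Lpn K58.v2507))))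
theorem f673942 : Led Lsl_at K58.v7205 = K58.v9185 :=
  Lgr Lrot66 (Lpe (K58.f662267 IH) (Lpr_af (f523676 IH) (Lpr_ff (f673940 IH) (Lpn K58.v9185))))
def v7203 : LQ := Led Lsl_gt (LP (LK LD1_c3 LD2_c42 LD3_c4))
theorem f662265 : Led Lsl_gt (LP (LK LD1_c3 LD2_c42 LD3_c4)) = v7203 :=
  Lrfl
theorem f673945 : Led Lsl_gt v7203 = K58.v9185 :=
  Lgr Lrot46 (Lpe (f662265 IH) (Lpr_ft (K58.f662267 IH) (Lpr_at (f673942 IH) (Lpn K58.v9185))))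
theorem f119479 : Led Lsl_bt (LP (LK LD1_c6 LD2_c37 LD3_c51)) = (LP (LK LD1_c3 LD2_c17 LD3_c14)) :=
  Lre_b IH (LK LD1_c6 LD2_c37 LD3_c51) (LK LD1_c3 LD2_c17 LD3_c14) Lrfl Lrfl
theorem f704987 : Led Lsl_bt (LP (LK LD1_c4 LD2_c48 LD3_c17)) = (LP (LK LD1_c9 LD2_c29 LD3_c19)) :=
  Lre_b IH (LK LD1_c4 LD2_c48 LD3_c17) (LK LD1_c9 LD2_c29 LD3_c19) Lrfl Lrfl
theorem f769062 : Led Lsl_bt K58.v6074 = K58.v13803 :=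
  Lgr Lrot128 (Lpe (K58.f650837 IH) (Lpe (f119479 IH) (Lpr_cf (K58.f769060 IH) (Lpe (f704987 IH) (Lpr_cf (K58.f704991 IH) (Lpn K58.v13803))))))
theorem f774153 : v7203 = K58.v13803 :=
  (Llr Lrot124 (Lpr_gt (f673945 IH) (Lpr_bf (f758117 IH) (Lpe (K59.f758118 IH) (Lpe (K59.f703561 IH) (Lpq (K59.f774148 IH) (Lpe (K59.f633178 IH) (Lpr_bt (K59.f633266 IH) (Lpq (K59.f770937 IH) (Lpr_gt (K46.f62021 IH) (Lpr_ct (K4.f66062 IH) (Lpr_gt (K58.f66081 IH) (Lpr_cf (K58.f650838 IH) (Lpr_bt (f769062 IH) (Lpn K58.v13803))))))))))))))).symm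
def v6487 : LQ := Led Lsl_et (LP (LK LD1_c3 LD2_c22 LD3_c38))
theorem f653607 : Led Lsl_et (LP (LK LD1_c3 LD2_c22 LD3_c38)) = v6487 :=
  Lrfl
theorem f653610 : Led Lsl_ef (LP (LK LD1_c3 LD2_c22 LD3_c38)) = v6487 :=
  Lgr Lrot88 (Lpr_et (f653607 IH) (Lpn v6487))
theorem f653612 : Led Lsl_ct (LP (LK LD1_c3 LD2_c22 LD3_c39)) = v6487 :=
  Lgr Lrot15 (Lpe (K4.f79625 IH) (Lpe (K4.f77770 IH) (Lpr_ef (f653610 IH) (Lpn v6487))))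
theorem f774154 : Led Lsl_gt v8659 = v6487 :=
  Lgr Lrot65 (Lpe (f671924 IH) (Lpe (K58.f509192 IH) (Lpr_gf (K50.f509173 IH) (Lpr_bf (K58.f634045 IH) (Lpr_ct (K58.f704925 IH) (Lpe (K58.f704930 IH) (Lpr_cf (K58.f704991 IH) (Lpq (f774153 IH) (Lpe (f662265 IH) (Lpe (K58.f114941 IH) (Lpr_ct (f653612 IH) (Lpn v6487))))))))))))
theorem f653609 : Led Lsl_cf (LP (LK LD1_c3 LD2_c22 LD3_c39)) = v6487 :=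
  Lgr Lrot39 (Lpr_et (K4.f77782 IH) (Lpr_ct (K4.f77778 IH) (Lpr_et (f653607 IH) (Lpn v6487))))
theorem f832143 : Led Lsl_gf (LP (LK LD1_c12 LD2_c13 LD3_c19)) = v26119 :=
  Lgr Lrot104 (Lpr_ct (K11.f99232 IH) (Lpr_df (K11.f99229 IH) (Lpr_cf (f653609 IH) (Lpe (f774154 IH) (Lpe (f671924 IH) (Lpr_gf (K58.f671921 IH) (Lpq (K58.f769569 IH) (Lpr_df (f776791 IH) (Lpe (f776793 IH) (Lpr_ct (f832141 IH) (Lpn v26119)))))))))))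
theorem f99231 : Led Lsl_ct (LP (LK LD1_c6 LD2_c18 LD3_c44)) = (LP (LK LD1_c12 LD2_c13 LD3_c19)) :=
  Lre_c IH (LK LD1_c6 LD2_c18 LD3_c44) (LK LD1_c12 LD2_c13 LD3_c19) Lrfl Lrfl
theorem f832145 : (LP (LK LD1_c12 LD2_c24 LD3_c15)) = v21686 :=
  (Llr Lrot92 (Lpe (f773531 IH) (Lpe (K59.f769493 IH) (Lpe (K59.f119492 IH) (Lpe (K59.f118080 IH) (Lpr_bt (f776789 IH) (Lpe (f776793 IH) (Lpr_ct (f832141 IH) (Lpe (f832143 IH) (Lpe (f99231 IH) (Lpr_bt (K11.f114944 IH) (Lpr_gt (f798702 IH) (Lpn v21686))))))))))))).symm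
theorem f832146 : Led Lsl_gt (LP (LK LD1_c7 LD2_c24 LD3_c55)) = (LP (LK LD1_c12 LD2_c24 LD3_c15)) :=
  Leop (Lpqs (f832145 IH) (Lpe (f798702 IH) (Lpn (LP (LK LD1_c7 LD2_c24 LD3_c55)))))
theorem seed_1906 : LEOK LG_g (LK LD1_c7 LD2_c24 LD3_c55) :=
  Leoe_g (LK LD1_c7 LD2_c24 LD3_c55) (f832146 IH)
theorem f801632 : Led Lsl_ft K59.v7371 = K62.v22146 :=
  Lgr Lrot48 (Lpr_ff (K62.f801629 IH) (Lpn K62.v22146))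
theorem f649829 : Led Lsl_ft (LP (LK LD1_c12 LD2_c32 LD3_c5)) = (LP (LK LD1_c6 LD2_c32 LD3_c7)) :=
  Lre_f IH (LK LD1_c12 LD2_c32 LD3_c5) (LK LD1_c6 LD2_c32 LD3_c7) Lrfl Lrfl
theorem f801633 : Led Lsl_cf (LP (LK LD1_c12 LD2_c32 LD3_c5)) = K62.v22146 :=
  Lgr Lrot108 (Lpr_ft (f649829 IH) (Lpr_ct (K59.f768039 IH) (Lpqs (K59.f772571 IH) (Lpr_ft (f801632 IH) (Lpn K62.v22146)))))
theorem f114959 : Led Lsl_dt (LP (LK LD1_c3 LD2_c42 LD3_c4)) = (LP (LK LD1_c7 LD2_c24 LD3_c55)) :=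
  Lre_d IH (LK LD1_c3 LD2_c42 LD3_c4) (LK LD1_c7 LD2_c24 LD3_c55) Lrfl Lrfl
def v7204 : LQ := Led Lsl_gf (LP (LK LD1_c3 LD2_c42 LD3_c4))
theorem f662266 : Led Lsl_gf (LP (LK LD1_c3 LD2_c42 LD3_c4)) = v7204 :=
  Lrfl
theorem f673944 : Led Lsl_gf v7204 = K58.v9185 :=
  Lgr Lrot47 (Lpe (f662266 IH) (Lpr_af (f523676 IH) (Lpr_ff (f673940 IH) (Lpn K58.v9185))))
theorem f774151 : v7204 = K58.v9745 :=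
  (Llr Lrot82 (Lpr_gf (f673944 IH) (Lpr_bf (f758117 IH) (Lpe (K59.f758118 IH) (Lpe (K59.f703563 IH) (Lpq (K59.f774147 IH) (Lpq (K59.f770928 IH) (Lpe (K59.f652650 IH) (Lpq (K58.f770924 IH) (Lpr_bt (K58.f668885 IH) (Lpqs (K58.f770922 IH) (Lpe (K29.f23280 IH) (Lpe (K58.f144001 IH) (Lpr_ct (K32.f148384 IH) (Lpe (K58.f146875 IH) (Lpr_cf (K58.f677479 IH) (Lpn K58.v9745))))))))))))))))).symm
theorem f677480 : Led Lsl_ct (LP (LK LD1_c4 LD2_c48 LD3_c18)) = K58.v9745 :=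
  Lgr Lrot59 (Lpr_cf (K58.f677479 IH) (Lpn K58.v9745))
theorem f124145 : Led Lsl_gt (LP (LK LD1_c4 LD2_c48 LD3_c19)) = (LP (LK LD1_c9 LD2_c29 LD3_c22)) :=
  Lre_g IH (LK LD1_c4 LD2_c48 LD3_c19) (LK LD1_c9 LD2_c29 LD3_c22) Lrfl Lrfl
theorem f832147 : Led Lsl_df (LP (LK LD1_c12 LD2_c32 LD3_c5)) = (LP (LK LD1_c9 LD2_c29 LD3_c22)) :=
  Lgr Lrot84 (Lpr_cf (f801633 IH) (Lpe (K62.f801631 IH) (Lpqs (f832145 IH) (Lpe (f798702 IH) (Lpe (f114959 IH) (Lpr_gf (f662266 IH) (Lpqs (f774151 IH) (Lpe (f677480 IH) (Lpr_gt (K58.f146875 IH) (Lpr_dt (K59.f124144 IH) (Lpr_gt (f124145 IH) (Lpn (LP (LK LD1_c9 LD2_c29 LD3_c22))))))))))))))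
theorem f832148 : Led Lsl_dt (LP (LK LD1_c9 LD2_c29 LD3_c22)) = (LP (LK LD1_c12 LD2_c32 LD3_c5)) :=
  Leop (Lpr_df (f832147 IH) (Lpn (LP (LK LD1_c9 LD2_c29 LD3_c22))))
theorem seed_1907 : LEOK LG_d (LK LD1_c9 LD2_c29 LD3_c22) :=
  Leoe_d (LK LD1_c9 LD2_c29 LD3_c22) (f832148 IH)
def v26128 : LQ := Led Lsl_bt K58.v6305
theorem f832214 : Led Lsl_bt K58.v6305 = v26128 :=
  Lrfl
theorem f832215 : Led Lsl_bf K58.v6305 = v26128 :=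
  Lgr Lrot24 (Lpr_bt (f832214 IH) (Lpn v26128))
theorem f79508 : Led Lsl_et (LP (LK LD1_c4 LD2_c46 LD3_c14)) = (LP (LK LD1_c9 LD2_c25 LD3_c1)) :=
  Lre_e IH (LK LD1_c4 LD2_c46 LD3_c14) (LK LD1_c9 LD2_c25 LD3_c1) Lrfl Lrfl
theorem f133623 : Led Lsl_ff (LP (LK LD1_c4 LD2_c47 LD3_c34)) = (LP (LK LD1_c4 LD2_c40 LD3_c16)) :=
  Lgr Lrot19 (Lpr_dt (K11.f79590 IH) (Lpr_ft (K5.f133615 IH) (Lpr_dt (K5.f78261 IH) (Lpn (LP (LK LD1_c4 LD2_c40 LD3_c16))))))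
theorem f431338 : Led Lsl_af (LP (LK LD1_c6 LD2_c17 LD3_c38)) = (LP (LK LD1_c4 LD2_c47 LD3_c34)) :=
  Lgr Lrot109 (Lpe (K5.f25714 IH) (Lpe (K5.f25713 IH) (Lpe (K5.f78273 IH) (Lpe (K7.f78272 IH) (Lpe (K34.f431334 IH) (Lpr_df (K34.f431326 IH) (Lpe (K5.f113487 IH) (Lpe (K5.f79524 IH) (Lpe (f133623 IH) (Lpn (LP (LK LD1_c4 LD2_c47 LD3_c34))))))))))))
theorem f133295 : Led Lsl_et (LP (LK LD1_c6 LD2_c17 LD3_c38)) = (LP (LK LD1_c12 LD2_c11 LD3_c44)) :=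
  Lre_e IH (LK LD1_c6 LD2_c17 LD3_c38) (LK LD1_c12 LD2_c11 LD3_c44) Lrfl Lrfl
theorem f133642 : Led Lsl_et (LP (LK LD1_c9 LD2_c28 LD3_c10)) = (LP (LK LD1_c4 LD2_c47 LD3_c34)) :=
  Lre_e IH (LK LD1_c9 LD2_c28 LD3_c10) (LK LD1_c4 LD2_c47 LD3_c34) Lrfl Lrfl
theorem f431343 : Led Lsl_at (LP (LK LD1_c12 LD2_c11 LD3_c44)) = (LP (LK LD1_c9 LD2_c28 LD3_c10)) :=
  Lgr Lrot80 (Lpe (f133295 IH) (Lpr_af (f431338 IH) (Lpe (f133642 IH) (Lpn (LP (LK LD1_c9 LD2_c28 LD3_c10))))))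
theorem f83969 : Led Lsl_ct (LP (LK LD1_c6 LD2_c17 LD3_c39)) = (LP (LK LD1_c12 LD2_c11 LD3_c44)) :=
  Lre_c IH (LK LD1_c6 LD2_c17 LD3_c39) (LK LD1_c12 LD2_c11 LD3_c44) Lrfl Lrfl
theorem f79582 : Led Lsl_ct (LP (LK LD1_c9 LD2_c28 LD3_c10)) = (LP (LK LD1_c4 LD2_c47 LD3_c35)) :=
  Lre_c IH (LK LD1_c9 LD2_c28 LD3_c10) (LK LD1_c4 LD2_c47 LD3_c35) Lrfl Lrfl
theorem f431349 : Led Lsl_af (LP (LK LD1_c6 LD2_c17 LD3_c39)) = (LP (LK LD1_c4 LD2_c47 LD3_c35)) :=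
  Lgr Lrot68 (Lpr_ct (f83969 IH) (Lpr_at (f431343 IH) (Lpr_ct (f79582 IH) (Lpn (LP (LK LD1_c4 LD2_c47 LD3_c35))))))
theorem f133670 : Led Lsl_et (LP (LK LD1_c4 LD2_c47 LD3_c35)) = (LP (LK LD1_c2 LD2_c21 LD3_c41)) :=
  Lre_e IH (LK LD1_c4 LD2_c47 LD3_c35) (LK LD1_c2 LD2_c21 LD3_c41) Lrfl Lrfl
theorem f133671 : Led Lsl_ff (LP (LK LD1_c4 LD2_c47 LD3_c35)) = (LP (LK LD1_c9 LD2_c25 LD3_c1)) :=
  Lgr Lrot72 (Lpr_et (f133670 IH) (Lpr_ft (K5.f133664 IH) (Lpe (K5.f78000 IH) (Lpr_ft (K59.f79507 IH) (Lpr_et (f79508 IH) (Lpn (LP (LK LD1_c9 LD2_c25 LD3_c1))))))))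
theorem f758638 : Led Lsl_gt (LP (LK LD1_c9 LD2_c25 LD3_c1)) = K59.v17314 :=
  Lgr Lrot5 (Lpe (f133671 IH) (Lpe (f431349 IH) (Lpr_gf (K59.f758637 IH) (Lpn K59.v17314))))
def v13926 : LQ := Led Lsl_bt (LP (LK LD1_c4 LD2_c50 LD3_c4))
theorem f716222 : Led Lsl_bt (LP (LK LD1_c4 LD2_c50 LD3_c4)) = v13926 :=
  Lrfl
theorem f716225 : Led Lsl_ef K59.v6473 = v13926 :=
  Lgr Lrot29 (Lpe (K59.f653553 IH) (Lpe (K32.f146146 IH) (Lpr_bt (f716222 IH) (Lpn v13926))))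
theorem f507123 : Led Lsl_ft (LP (LK LD1_c3 LD2_c19 LD3_c28)) = (LP (LK LD1_c4 LD2_c50 LD3_c4)) :=
  Lgr Lrot54 (Lpr_df (K32.f144068 IH) (Lpr_ff (K35.f507113 IH) (Lpe (K32.f438689 IH) (Lpn (LP (LK LD1_c4 LD2_c50 LD3_c4))))))
theorem f716226 : Led Lsl_ff (LP (LK LD1_c6 LD2_c42 LD3_c51)) = v13926 :=
  Lgr Lrot25 (Lpr_bt (K58.f25445 IH) (Lpr_ft (f507123 IH) (Lpr_bt (f716222 IH) (Lpn v13926))))
theorem f494894 : Led Lsl_dt (LP (LK LD1_c1 LD2_c36 LD3_c6)) = (LP (LK LD1_c3 LD2_c19 LD3_c24)) :=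
  Lre_d IH (LK LD1_c1 LD2_c36 LD3_c6) (LK LD1_c3 LD2_c19 LD3_c24) Lrfl Lrfl
theorem f494895 : Led Lsl_et (LP (LK LD1_c3 LD2_c19 LD3_c24)) = (LP (LK LD1_c6 LD2_c42 LD3_c51)) :=
  Lre_e IH (LK LD1_c3 LD2_c19 LD3_c24) (LK LD1_c6 LD2_c42 LD3_c51) Lrfl Lrfl
theorem f633017 : Led Lsl_dt (LP (LK LD1_c6 LD2_c42 LD3_c51)) = K59.v4378 :=
  Lgr Lrot77 (Lpe (f494895 IH) (Lpe (f494894 IH) (Lpe (K58.f494893 IH) (Lpr_df (K59.f494890 IH) (Lpr_ef (K59.f633016 IH) (Lpn K59.v4378))))))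
theorem f716227 : Led Lsl_dt K59.v13190 = v13926 :=
  Lgr Lrot60 (Lpe (K59.f701603 IH) (Lpe (f633017 IH) (Lpr_ff (f716226 IH) (Lpn v13926))))
theorem f704025 : Led Lsl_ef K59.v13161 = K59.v13640 :=
  Lgr Lrot114 (Lpe (K59.f701467 IH) (Lpe (K58.f632145 IH) (Lpr_dt (K51.f22878 IH) (Lpr_gt (K57.f701448 IH) (Lpe (K57.f701449 IH) (Lpe (K57.f633270 IH) (Lpr_gt (K57.f78014 IH) (Lpr_dt (K5.f78036 IH) (Lpr_gt (K59.f78037 IH) (Lpr_df (K59.f704023 IH) (Lpn K59.v13640)))))))))))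
theorem f704026 : Led Lsl_et K59.v13161 = K59.v13640 :=
  Lgr Lrot87 (Lpr_ef (f704025 IH) (Lpn K59.v13640))
theorem f703887 : Led Lsl_gt (LP (LK LD1_c4 LD2_c47 LD3_c27)) = K57.v13605 :=
  Lgr Lrot46 (Lpr_gf (K58.f703886 IH) (Lpe (K58.f703884 IH) (Lpr_at (K57.f703874 IH) (Lpn K57.v13605))))
def v13724 : LQ := Led Lsl_gf (LP (LK LD1_c4 LD2_c47 LD3_c26))
theorem f704520 : Led Lsl_gf (LP (LK LD1_c4 LD2_c47 LD3_c26)) = v13724 :=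
  Lrfl
theorem f758567 : Led Lsl_dt K59.v13161 = v13724 :=
  Lgr Lrot136 (Lpr_et (f704026 IH) (Lpe (K59.f758479 IH) (Lpe (K57.f647046 IH) (Lpr_dt (K57.f58325 IH) (Lpr_gf (K59.f758478 IH) (Lpe (K57.f758249 IH) (Lpq (K57.f758498 IH) (Lpe (f703887 IH) (Lpe (K58.f633435 IH) (Lpr_dt (K58.f441931 IH) (Lpr_gf (f704520 IH) (Lpn v13724))))))))))))
theorem f770544 : v13926 = v13724 :=
  Lefun (Lecon (f716227 IH) (K59.f770522 IH).symm) (f758567 IH)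
theorem f758568 : Led Lsl_df K59.v13161 = v13724 :=
  Lgr Lrot38 (Lpr_dt (f758567 IH) (Lpn v13724))
theorem f133224 : Led Lsl_dt (LP (LK LD1_c4 LD2_c46 LD3_c14)) = (LP (LK LD1_c2 LD2_c21 LD3_c7)) :=
  Lre_d IH (LK LD1_c4 LD2_c46 LD3_c14) (LK LD1_c2 LD2_c21 LD3_c7) Lrfl Lrfl
theorem f704009 : Led Lsl_df K59.v4420 = K58.v13637 :=
  Lgr Lrot78 (Lpe (K59.f633273 IH) (Lpr_dt (K57.f435797 IH) (Lpr_ft (K58.f704007 IH) (Lpn K58.v13637))))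
theorem f774043 : Led Lsl_gt K58.v6305 = K58.v13637 :=
  Lgr Lrot137 (Lpr_ef (K58.f771012 IH) (Lpqs (K58.f758310 IH) (Lpr_dt (K58.f78027 IH) (Lpr_gf (K59.f701467 IH) (Lpr_df (f758568 IH) (Lpq (f770544 IH) (Lpe (f716225 IH) (Lpqs (K59.f770534 IH) (Lpe (f758638 IH) (Lpe (f79508 IH) (Lpr_dt (f133224 IH) (Lpe (K59.f633173 IH) (Lpq (K59.f771025 IH) (Lpqs (K59.f770927 IH) (Lpr_df (f704009 IH) (Lpn K58.v13637))))))))))))))))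
theorem f453965 : Led Lsl_bf (LP (LK LD1_c0 LD2_c44 LD3_c40)) = K58.v554 :=
  Lgr Lrot24 (Lpr_bt (K58.f453964 IH) (Lpn K58.v554))
theorem f668973 : Led Lsl_bf K58.v3191 = K58.v7917 :=
  Lgr Lrot81 (Lpe (K58.f624569 IH) (Lpe (f453965 IH) (Lpqs (K35.f508001 IH) (Lpe (K32.f495115 IH) (Lpr_bt (K58.f495118 IH) (Lpr_at (K58.f668971 IH) (Lpn K58.v7917)))))))
theorem f768958 : K58.v3191 = K46.v2084 :=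
  Lefun (Lecon (Lfl_ff (K58.f634102 IH)) (K58.f768925 IH)) (K46.f508745 IH)
theorem f775353 : Led Lsl_bf K58.v13637 = K60.v8515 :=
  Lgr Lrot93 (Lpe (f704009 IH) (Lpq (K59.f770927 IH) (Lpqs (K59.f771025 IH) (Lpq (K59.f771025 IH) (Lpe (f668973 IH) (Lpqs (f768958 IH) (Lpqs (K49.f678515 IH) (Lpr_dt (K60.f671495 IH) (Lpn K60.v8515)))))))))
def v20054 : LQ := Led Lsl_ct (LP (LK LD1_c6 LD2_c50 LD3_c10))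
theorem f784572 : Led Lsl_ct (LP (LK LD1_c6 LD2_c50 LD3_c10)) = v20054 :=
  Lrfl
def v18127 : LQ := Led Lsl_at (LP (LK LD1_c6 LD2_c26 LD3_c32))
theorem f765158 : Led Lsl_at (LP (LK LD1_c6 LD2_c26 LD3_c32)) = v18127 :=
  Lrfl
theorem f415464 : Led Lsl_ct (LP (LK LD1_c3 LD2_c11 LD3_c9)) = (LP (LK LD1_c6 LD2_c26 LD3_c32)) :=
  Lre_c IH (LK LD1_c3 LD2_c11 LD3_c9) (LK LD1_c6 LD2_c26 LD3_c32) Lrfl Lrfl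
theorem f765160 : Led Lsl_cf K58.v5642 = v18127 :=
  Lgr Lrot1 (Lpe (K58.f648642 IH) (Lpr_ct (f415464 IH) (Lpr_at (f765158 IH) (Lpn v18127))))
theorem f784576 : Led Lsl_ff v18127 = v20054 :=
  Lgr Lrot23 (Lpe (f765160 IH) (Lpr_ft (K59.f702614 IH) (Lpqs (K58.f768703 IH) (Lpr_ct (f784572 IH) (Lpn v20054)))))
theorem f765159 : Led Lsl_af (LP (LK LD1_c6 LD2_c26 LD3_c32)) = v18127 :=
  Lgr Lrot0 (Lpr_at (f765158 IH) (Lpn v18127))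
theorem f415465 : Led Lsl_gt (LP (LK LD1_c12 LD2_c24 LD3_c59)) = (LP (LK LD1_c6 LD2_c26 LD3_c32)) :=
  Lre_g IH (LK LD1_c12 LD2_c24 LD3_c59) (LK LD1_c6 LD2_c26 LD3_c32) Lrfl Lrfl
theorem f784579 : Led Lsl_gf (LP (LK LD1_c12 LD2_c24 LD3_c59)) = v20054 :=
  Lgr Lrot47 (Lpr_gt (f415465 IH) (Lpr_af (f765159 IH) (Lpr_ff (f784576 IH) (Lpn v20054))))
theorem f832218 : Led Lsl_cf (LP (LK LD1_c12 LD2_c24 LD3_c59)) = v26128 :=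
  Lgr Lrot163 (Lpr_gf (f784579 IH) (Lpe (f784572 IH) (Lpq (K58.f768703 IH) (Lpe (K58.f702609 IH) (Lpr_bf (K57.f765134 IH) (Lpe (K57.f765136 IH) (Lpr_gf (K60.f777779 IH) (Lpe (K60.f777777 IH) (Lpqs (K60.f678521 IH) (Lpe (f775353 IH) (Lpe (f774043 IH) (Lpr_bf (f832215 IH) (Lpn v26128)))))))))))))
theorem f832216 : Led Lsl_ef K62.v21796 = v26128 :=
  Lgr Lrot29 (Lpe (K62.f799333 IH) (Lpq (K58.f758310 IH) (Lpe (K58.f771012 IH) (Lpr_bt (f832214 IH) (Lpn v26128)))))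
theorem f832217 : Led Lsl_et K62.v21796 = v26128 :=
  Lgr Lrot87 (Lpr_ef (f832216 IH) (Lpn v26128))
theorem f799344 : Led Lsl_ct (LP (LK LD1_c12 LD2_c19 LD3_c57)) = K62.v21796 :=
  Lgr Lrot59 (Lpr_cf (K62.f799340 IH) (Lpn K62.v21796))
theorem f832221 : Led Lsl_et (LP (LK LD1_c12 LD2_c24 LD3_c59)) = (LP (LK LD1_c12 LD2_c19 LD3_c57)) :=
  Lgr Lrot158 (Lpr_cf (f832218 IH) (Lpe (f832217 IH) (Lpe (f799344 IH) (Lpn (LP (LK LD1_c12 LD2_c19 LD3_c57))))))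
theorem f832222 : Led Lsl_et (LP (LK LD1_c12 LD2_c24 LD3_c59)) = (LP (LK LD1_c12 LD2_c19 LD3_c57)) :=
  Leop (Lpe (f832221 IH) (Lpn (LP (LK LD1_c12 LD2_c24 LD3_c59))))
theorem seed_1908 : LEOK LG_e (LK LD1_c12 LD2_c24 LD3_c59) :=
  Leoe_e (LK LD1_c12 LD2_c24 LD3_c59) (f832222 IH)
def v6348 : LQ := Led Lsl_ft (LP (LK LD1_c3 LD2_c20 LD3_c41))
def v26152 : LQ := Led Lsl_et v6348
theorem f832317 : Led Lsl_et v6348 = v26152 :=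
  Lrfl
theorem f652932 : Led Lsl_ft (LP (LK LD1_c3 LD2_c20 LD3_c41)) = v6348 :=
  Lrfl
theorem f562900 : Led Lsl_et (LP (LK LD1_c4 LD2_c38 LD3_c27)) = (LP (LK LD1_c3 LD2_c20 LD3_c41)) :=
  Lre_e IH (LK LD1_c4 LD2_c38 LD3_c27) (LK LD1_c3 LD2_c20 LD3_c41) Lrfl Lrfl
theorem f176329 : Led Lsl_et (LP (LK LD1_c16 LD2_c55 LD3_c56)) = (LP (LK LD1_c9 LD2_c4 LD3_c24)) :=
  Lre_e IH (LK LD1_c16 LD2_c55 LD3_c56) (LK LD1_c9 LD2_c4 LD3_c24) Lrfl Lrfl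
theorem f832321 : Led Lsl_ff (LP (LK LD1_c16 LD2_c55 LD3_c56)) = v26152 :=
  Lgr Lrot72 (Lpr_et (f176329 IH) (Lpr_ft (K40.f176349 IH) (Lpr_et (f562900 IH) (Lpr_ft (f652932 IH) (Lpr_et (f832317 IH) (Lpn v26152))))))
theorem f832324 : Led Lsl_ft (LP (LK LD1_c16 LD2_c55 LD3_c56)) = v26152 :=
  Lgr Lrot48 (Lpr_ff (f832321 IH) (Lpn v26152))
theorem f176331 : Led Lsl_gt (LP (LK LD1_c16 LD2_c55 LD3_c56)) = (LP (LK LD1_c26 LD2_c52 LD3_c19)) :=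
  Lre_g IH (LK LD1_c16 LD2_c55 LD3_c56) (LK LD1_c26 LD2_c52 LD3_c19) Lrfl Lrfl
def v19639 : LQ := Led Lsl_gt (LP (LK LD1_c6 LD2_c45 LD3_c8))
theorem f781434 : Led Lsl_gt (LP (LK LD1_c6 LD2_c45 LD3_c8)) = v19639 :=
  Lrfl
theorem f509325 : Led Lsl_gt (LP (LK LD1_c3 LD2_c20 LD3_c41)) = (LP (LK LD1_c6 LD2_c45 LD3_c8)) :=
  Lre_g IH (LK LD1_c3 LD2_c20 LD3_c41) (LK LD1_c6 LD2_c45 LD3_c8) Lrfl Lrfl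
theorem f781435 : Led Lsl_at v6348 = v19639 :=
  Lgr Lrot26 (Lpe (f652932 IH) (Lpr_gt (f509325 IH) (Lpr_gt (f781434 IH) (Lpn v19639))))
theorem f781442 : Led Lsl_af v6348 = v19639 :=
  Lgr Lrot0 (Lpr_at (f781435 IH) (Lpn v19639))
theorem f509337 : Led Lsl_dt (LP (LK LD1_c3 LD2_c20 LD3_c41)) = (LP (LK LD1_c6 LD2_c45 LD3_c11)) :=
  Lre_d IH (LK LD1_c3 LD2_c20 LD3_c41) (LK LD1_c6 LD2_c45 LD3_c11) Lrfl Lrfl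
theorem f652727 : Led Lsl_ct (LP (LK LD1_c6 LD2_c45 LD3_c11)) = (LP (LK LD1_c12 LD2_c54 LD3_c42)) :=
  Lre_c IH (LK LD1_c6 LD2_c45 LD3_c11) (LK LD1_c12 LD2_c54 LD3_c42) Lrfl Lrfl
theorem f652726 : Led Lsl_dt (LP (LK LD1_c12 LD2_c54 LD3_c42)) = (LP (LK LD1_c21 LD2_c51 LD3_c17)) :=
  Lre_d IH (LK LD1_c12 LD2_c54 LD3_c42) (LK LD1_c21 LD2_c51 LD3_c17) Lrfl Lrfl
theorem f652725 : Led Lsl_ct (LP (LK LD1_c21 LD2_c51 LD3_c17)) = (LP (LK LD1_c12 LD2_c44 LD3_c3)) :=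
  Lre_c IH (LK LD1_c21 LD2_c51 LD3_c17) (LK LD1_c12 LD2_c44 LD3_c3) Lrfl Lrfl
theorem f652724 : Led Lsl_dt (LP (LK LD1_c12 LD2_c44 LD3_c3)) = (LP (LK LD1_c6 LD2_c39 LD3_c10)) :=
  Lre_d IH (LK LD1_c12 LD2_c44 LD3_c3) (LK LD1_c6 LD2_c39 LD3_c10) Lrfl Lrfl
theorem f624350 : Led Lsl_ct (LP (LK LD1_c6 LD2_c39 LD3_c10)) = (LP (LK LD1_c3 LD2_c20 LD3_c32)) :=
  Lre_c IH (LK LD1_c6 LD2_c39 LD3_c10) (LK LD1_c3 LD2_c20 LD3_c32) Lrfl Lrfl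
def v6323 : LQ := Led Lsl_dt (LP (LK LD1_c3 LD2_c20 LD3_c32))
theorem f652721 : Led Lsl_dt (LP (LK LD1_c3 LD2_c20 LD3_c32)) = v6323 :=
  Lrfl
theorem f781445 : Led Lsl_ct v6323 = v19639 :=
  Lgr Lrot98 (Lpe (f652721 IH) (Lpe (f624350 IH) (Lpe (f652724 IH) (Lpe (f652725 IH) (Lpe (f652726 IH) (Lpe (f652727 IH) (Lpe (f509337 IH) (Lpr_ft (f652932 IH) (Lpr_at (f781435 IH) (Lpn v19639))))))))))
theorem f509263 : Led Lsl_ft (LP (LK LD1_c1 LD2_c36 LD3_c37)) = (LP (LK LD1_c3 LD2_c20 LD3_c32)) :=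
  Lre_f IH (LK LD1_c1 LD2_c36 LD3_c37) (LK LD1_c3 LD2_c20 LD3_c32) Lrfl Lrfl
def v2153 : LQ := Led Lsl_dt (LP (LK LD1_c1 LD2_c36 LD3_c37))
theorem f509255 : Led Lsl_dt (LP (LK LD1_c1 LD2_c36 LD3_c37)) = v2153 :=
  Lrfl
theorem f509260 : Led Lsl_df (LP (LK LD1_c1 LD2_c36 LD3_c37)) = v2153 :=
  Lgr Lrot38 (Lpr_dt (f509255 IH) (Lpn v2153))
theorem f652730 : Led Lsl_ff v2153 = v6323 :=
  Lgr Lrot19 (Lpe (f509260 IH) (Lpr_ft (f509263 IH) (Lpr_dt (f652721 IH) (Lpn v6323))))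
theorem f509261 : Led Lsl_ef (LP (LK LD1_c4 LD2_c36 LD3_c37)) = v2153 :=
  Lgr Lrot73 (Lpr_dt (K45.f99682 IH) (Lpr_et (K38.f99673 IH) (Lpr_dt (K6.f80219 IH) (Lpr_et (K40.f100254 IH) (Lpr_dt (f509255 IH) (Lpn v2153))))))
theorem f500552 : Led Lsl_et (LP (LK LD1_c2 LD2_c54 LD3_c48)) = (LP (LK LD1_c5 LD2_c57 LD3_c2)) :=
  Lre_e IH (LK LD1_c2 LD2_c54 LD3_c48) (LK LD1_c5 LD2_c57 LD3_c2) Lrfl Lrfl
theorem f652739 : Led Lsl_et (LP (LK LD1_c11 LD2_c39 LD3_c25)) = v6323 :=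
  Lgr Lrot69 (Lpe (K37.f545981 IH) (Lpe (f500552 IH) (Lpr_ff (K40.f546073 IH) (Lpr_ef (f509261 IH) (Lpr_ff (f652730 IH) (Lpn v6323))))))
theorem f546007 : Led Lsl_ct (LP (LK LD1_c20 LD2_c39 LD3_c1)) = (LP (LK LD1_c11 LD2_c39 LD3_c25)) :=
  Lre_c IH (LK LD1_c20 LD2_c39 LD3_c1) (LK LD1_c11 LD2_c39 LD3_c25) Lrfl Lrfl
theorem f781446 : Led Lsl_ef (LP (LK LD1_c20 LD2_c39 LD3_c1)) = v19639 :=
  Lgr Lrot28 (Lpr_ct (f546007 IH) (Lpr_et (f652739 IH) (Lpr_ct (f781445 IH) (Lpn v19639))))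
theorem f781447 : Led Lsl_et (LP (LK LD1_c20 LD2_c39 LD3_c1)) = v19639 :=
  Lgr Lrot87 (Lpr_ef (f781446 IH) (Lpn v19639))
theorem f832318 : Led Lsl_af (LP (LK LD1_c20 LD2_c39 LD3_c1)) = v26152 :=
  Lgr Lrot50 (Lpr_et (f781447 IH) (Lpe (f781442 IH) (Lpr_et (f832317 IH) (Lpn v26152))))
theorem f832329 : Led Lsl_gt (LP (LK LD1_c26 LD2_c52 LD3_c19)) = (LP (LK LD1_c20 LD2_c39 LD3_c1)) :=
  Lgr Lrot46 (Lpe (f176331 IH) (Lpr_ft (f832324 IH) (Lpe (f832318 IH) (Lpn (LP (LK LD1_c20 LD2_c39 LD3_c1))))))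
theorem f832330 : Led Lsl_gt (LP (LK LD1_c26 LD2_c52 LD3_c19)) = (LP (LK LD1_c20 LD2_c39 LD3_c1)) :=
  Leop (Lpe (f832329 IH) (Lpn (LP (LK LD1_c26 LD2_c52 LD3_c19))))
theorem seed_1909 : LEOK LG_g (LK LD1_c26 LD2_c52 LD3_c19) :=
  Leoe_g (LK LD1_c26 LD2_c52 LD3_c19) (f832330 IH)
def v6364 : LQ := Led Lsl_dt (LP (LK LD1_c3 LD2_c20 LD3_c57))
def v26166 : LQ := Led Lsl_ft v6364
theorem f832372 : Led Lsl_ft v6364 = v26166 :=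
  Lrfl
theorem f832375 : Led Lsl_ff v6364 = v26166 :=
  Lgr Lrot3 (Lpr_ft (f832372 IH) (Lpn v26166))
def v19673 : LQ := Led Lsl_dt (LP (LK LD1_c6 LD2_c45 LD3_c43))
theorem f781603 : Led Lsl_dt (LP (LK LD1_c6 LD2_c45 LD3_c43)) = v19673 :=
  Lrfl
theorem f781606 : Led Lsl_df (LP (LK LD1_c6 LD2_c45 LD3_c43)) = v19673 :=
  Lgr Lrot38 (Lpr_dt (f781603 IH) (Lpn v19673))
theorem f509440 : Led Lsl_at (LP (LK LD1_c6 LD2_c45 LD3_c43)) = (LP (LK LD1_c3 LD2_c20 LD3_c57)) :=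
  Lre_a IH (LK LD1_c6 LD2_c45 LD3_c43) (LK LD1_c3 LD2_c20 LD3_c57) Lrfl Lrfl
theorem f652998 : Led Lsl_dt (LP (LK LD1_c3 LD2_c20 LD3_c57)) = v6364 :=
  Lrfl
theorem f781608 : Led Lsl_at v6364 = v19673 :=
  Lgr Lrot51 (Lpe (f652998 IH) (Lpe (f509440 IH) (Lpr_df (f781606 IH) (Lpn v19673))))
theorem f510177 : Led Lsl_et (LP (LK LD1_c6 LD2_c45 LD3_c43)) = (LP (LK LD1_c3 LD2_c20 LD3_c54)) :=
  Lre_e IH (LK LD1_c6 LD2_c45 LD3_c43) (LK LD1_c3 LD2_c20 LD3_c54) Lrfl Lrfl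
def v4485 : LQ := Led Lsl_gf (LP (LK LD1_c2 LD2_c22 LD3_c26))
theorem f634156 : Led Lsl_gf (LP (LK LD1_c2 LD2_c22 LD3_c26)) = v4485 :=
  Lrfl
theorem f634157 : Led Lsl_gt (LP (LK LD1_c3 LD2_c20 LD3_c54)) = v4485 :=
  Lgr Lrot5 (Lpr_ft (K50.f510346 IH) (Lpr_at (K52.f495147 IH) (Lpr_gf (f634156 IH) (Lpn v4485))))
theorem f739144 : (LP (LK LD1_c4 LD2_c35 LD3_c57)) = v4485 :=
  Lefun (Lecon (Lfl_gf (K55.f699980 IH)) (K55.f739128 IH)) (f634157 IH)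
def v12988 : LQ := Led Lsl_dt (LP (LK LD1_c4 LD2_c36 LD3_c18))
theorem f700043 : Led Lsl_dt (LP (LK LD1_c4 LD2_c36 LD3_c18)) = v12988 :=
  Lrfl
theorem f781607 : Led Lsl_gt v12988 = v19673 :=
  Lgr Lrot139 (Lpe (f700043 IH) (Lpe (K42.f83081 IH) (Lpe (K56.f420494 IH) (Lpr_dt (K8.f37766 IH) (Lpe (K7.f37767 IH) (Lpe (K7.f37816 IH) (Lpr_et (K52.f71127 IH) (Lpqs (f739144 IH) (Lpe (f634157 IH) (Lpe (f510177 IH) (Lpr_dt (f781603 IH) (Lpn v19673))))))))))))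
theorem f832378 : Led Lsl_gf v12988 = v26166 :=
  Lgr Lrot47 (Lpr_gt (f781607 IH) (Lpe (f781608 IH) (Lpr_ff (f832375 IH) (Lpn v26166))))
theorem f700038 : Led Lsl_et (LP (LK LD1_c4 LD2_c36 LD3_c18)) = (LP (LK LD1_c9 LD2_c8 LD3_c46)) :=
  Lre_e IH (LK LD1_c4 LD2_c36 LD3_c18) (LK LD1_c9 LD2_c8 LD3_c46) Lrfl Lrfl
theorem f653000 : Led Lsl_df (LP (LK LD1_c3 LD2_c20 LD3_c57)) = v6364 :=
  Lgr Lrot38 (Lpr_dt (f652998 IH) (Lpn v6364))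
theorem f832377 : Led Lsl_dt K52.v6365 = v26166 :=
  Lgr Lrot60 (Lpe (K52.f653004 IH) (Lpr_df (f653000 IH) (Lpr_ff (f832375 IH) (Lpn v26166))))
def v16511 : LQ := Led Lsl_gt (LP (LK LD1_c6 LD2_c1 LD3_c58))
theorem f750124 : Led Lsl_gt (LP (LK LD1_c6 LD2_c1 LD3_c58)) = v16511 :=
  Lrfl
theorem f137376 : Led Lsl_dt (LP (LK LD1_c6 LD2_c15 LD3_c50)) = (LP (LK LD1_c12 LD2_c9 LD3_c23)) :=
  Lre_d IH (LK LD1_c6 LD2_c15 LD3_c50) (LK LD1_c12 LD2_c9 LD3_c23) Lrfl Lrfl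
theorem f750125 : Led Lsl_df K52.v13174 = v16511 :=
  Lgr Lrot135 (Lpr_gt (K52.f714925 IH) (Lpe (f137376 IH) (Lpe (K8.f137324 IH) (Lpe (K56.f138588 IH) (Lpe (K56.f138594 IH) (Lpr_dt (K56.f420587 IH) (Lpr_gt (K56.f749885 IH) (Lpe (K56.f210093 IH) (Lpr_et (K56.f645180 IH) (Lpr_gt (f750124 IH) (Lpn v16511)))))))))))
theorem f700884 : Led Lsl_et (LP (LK LD1_c4 LD2_c38 LD3_c49)) = (LP (LK LD1_c9 LD2_c13 LD3_c28)) :=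
  Lre_e IH (LK LD1_c4 LD2_c38 LD3_c49) (LK LD1_c9 LD2_c13 LD3_c28) Lrfl Lrfl
theorem f750129 : Led Lsl_ef K52.v6365 = v16511 :=
  Lgr Lrot114 (Lpr_gt (K52.f711574 IH) (Lpe (f700884 IH) (Lpr_dt (K55.f61088 IH) (Lpr_gt (K55.f438255 IH) (Lpr_df (K55.f746934 IH) (Lpe (K55.f746931 IH) (Lpr_gt (K52.f137400 IH) (Lpr_dt (K6.f71145 IH) (Lpe (K52.f714926 IH) (Lpr_df (f750125 IH) (Lpn v16511)))))))))))
theorem f750130 : Led Lsl_et K52.v6365 = v16511 :=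
  Lgr Lrot87 (Lpr_ef (f750129 IH) (Lpn v16511))
theorem f832379 : Led Lsl_gt (LP (LK LD1_c9 LD2_c8 LD3_c46)) = (LP (LK LD1_c12 LD2_c9 LD3_c48)) :=
  Lgr Lrot137 (Lpe (f700038 IH) (Lpr_dt (f700043 IH) (Lpr_gf (f832378 IH) (Lpe (f832377 IH) (Lpr_et (f750130 IH) (Lpe (f750124 IH) (Lpe (K56.f645180 IH) (Lpr_dt (K56.f210093 IH) (Lpe (K56.f749885 IH) (Lpe (K56.f420587 IH) (Lpn (LP (LK LD1_c12 LD2_c9 LD3_c48)))))))))))))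
theorem f832380 : Led Lsl_gt (LP (LK LD1_c9 LD2_c8 LD3_c46)) = (LP (LK LD1_c12 LD2_c9 LD3_c48)) :=
  Leop (Lpe (f832379 IH) (Lpn (LP (LK LD1_c9 LD2_c8 LD3_c46))))
theorem seed_1910 : LEOK LG_g (LK LD1_c9 LD2_c8 LD3_c46) :=
  Leoe_g (LK LD1_c9 LD2_c8 LD3_c46) (f832380 IH)
def v16291 : LQ := Led Lsl_gt (LP (LK LD1_c5 LD2_c57 LD3_c2))
theorem f748203 : Led Lsl_gt (LP (LK LD1_c5 LD2_c57 LD3_c2)) = v16291 :=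
  Lrfl
def v26172 : LQ := Led Lsl_ct K50.v6370
theorem f832405 : Led Lsl_ct K50.v6370 = v26172 :=
  Lrfl
def v16154 : LQ := Led Lsl_ct (LP (LK LD1_c5 LD2_c53 LD3_c24))
theorem f746760 : Led Lsl_ct (LP (LK LD1_c5 LD2_c53 LD3_c24)) = v16154 :=
  Lrfl
theorem f746761 : Led Lsl_cf (LP (LK LD1_c5 LD2_c53 LD3_c24)) = v16154 :=
  Lgr Lrot11 (Lpr_ct (f746760 IH) (Lpn v16154))
theorem f832409 : Led Lsl_ef v16154 = v26172 :=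
  Lgr Lrot28 (Lpe (f746761 IH) (Lpr_et (K50.f653071 IH) (Lpr_ct (f832405 IH) (Lpn v26172))))
def v2168 : LQ := Led Lsl_dt (LP (LK LD1_c1 LD2_c36 LD3_c47))
theorem f509444 : Led Lsl_dt (LP (LK LD1_c1 LD2_c36 LD3_c47)) = v2168 :=
  Lrfl
theorem f509445 : Led Lsl_df (LP (LK LD1_c1 LD2_c36 LD3_c47)) = v2168 :=
  Lgr Lrot38 (Lpr_dt (f509444 IH) (Lpn v2168))
def v8716 : LQ := Led Lsl_ct v2168
theorem f672073 : Led Lsl_ct v2168 = v8716 :=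
  Lrfl
theorem f672074 : Led Lsl_cf v2168 = v8716 :=
  Lgr Lrot11 (Lpr_ct (f672073 IH) (Lpn v8716))
def v24044 : LQ := Led Lsl_ct K50.v4489
theorem f822193 : Led Lsl_ct K50.v4489 = v24044 :=
  Lrfl
theorem f822196 : Led Lsl_df v8716 = v24044 :=
  Lgr Lrot106 (Lpe (f672074 IH) (Lpe (f509445 IH) (Lpe (K48.f414605 IH) (Lpr_dt (K11.f13565 IH) (Lpe (K50.f510144 IH) (Lpr_af (K50.f510154 IH) (Lpe (K50.f446010 IH) (Lpr_dt (K50.f634202 IH) (Lpr_ct (f822193 IH) (Lpn v24044))))))))))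
def v24790 : LQ := Led Lsl_ct K50.v4983
theorem f825619 : Led Lsl_ct K50.v4983 = v24790 :=
  Lrfl
theorem f825620 : Led Lsl_cf K50.v4983 = v24790 :=
  Lgr Lrot11 (Lpr_ct (f825619 IH) (Lpn v24790))
theorem f832408 : Led Lsl_df v24790 = v26172 :=
  Lgr Lrot43 (Lpe (f825620 IH) (Lpe (K50.f641176 IH) (Lpr_ct (K48.f510142 IH) (Lpr_dt (K24.f445965 IH) (Lpe (K24.f446006 IH) (Lpr_dt (K50.f634202 IH) (Lpr_ct (f822193 IH) (Lpe (f822196 IH) (Lpe (f672074 IH) (Lpe (f509445 IH) (Lpe (K48.f414605 IH) (Lpr_dt (K11.f13565 IH) (Lpe (K50.f510144 IH) (Lpr_dt (K50.f653062 IH) (Lpr_ct (f832405 IH) (Lpn v26172))))))))))))))))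
theorem f446008 : Led Lsl_bt (LP (LK LD1_c2 LD2_c22 LD3_c31)) = (LP (LK LD1_c4 LD2_c49 LD3_c25)) :=
  Lre_b IH (LK LD1_c2 LD2_c22 LD3_c31) (LK LD1_c4 LD2_c49 LD3_c25) Lrfl Lrfl
theorem f705641 : Led Lsl_bf K50.v4489 = K55.v13877 :=
  Lgr Lrot93 (Lpe (K50.f634204 IH) (Lpr_bt (f446008 IH) (Lpr_dt (K55.f705640 IH) (Lpn K55.v13877))))
theorem f748087 : Led Lsl_bt K50.v4983 = K55.v16287 :=
  Lgr Lrot35 (Lpe (K50.f641179 IH) (Lpr_bf (f705641 IH) (Lpr_ff (K55.f748086 IH) (Lpn K55.v16287))))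
theorem f748179 : Led Lsl_ct (LP (LK LD1_c21 LD2_c36 LD3_c41)) = (LP (LK LD1_c20 LD2_c38 LD3_c20)) :=
  Lgr Lrot59 (Lpr_cf (K55.f748092 IH) (Lpn (LP (LK LD1_c20 LD2_c38 LD3_c20))))
def v5775 : LQ := Led Lsl_ct (LP (LK LD1_c3 LD2_c13 LD3_c13))
theorem f649306 : Led Lsl_ct (LP (LK LD1_c3 LD2_c13 LD3_c13)) = v5775 :=
  Lrfl
theorem f825623 : Led Lsl_gt v5775 = v24790 :=
  Lgr Lrot65 (Lpe (f649306 IH) (Lpr_bt (f506246 IH) (Lpe (K55.f641801 IH) (Lpe (K55.f649294 IH) (Lpr_ct (f748179 IH) (Lpe (K55.f707362 IH) (Lpe (K55.f82901 IH) (Lpr_gf (K55.f748084 IH) (Lpe (f748087 IH) (Lpr_ct (f825619 IH) (Lpn v24790)))))))))))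
def v4192 : LQ := Led Lsl_gf (LP (LK LD1_c2 LD2_c14 LD3_c37))
theorem f631774 : Led Lsl_gf (LP (LK LD1_c2 LD2_c14 LD3_c37)) = v4192 :=
  Lrfl
theorem f631776 : Led Lsl_ff (LP (LK LD1_c2 LD2_c52 LD3_c41)) = v4192 :=
  Lgr Lrot52 (Lpe (K32.f504930 IH) (Lpe (K32.f73208 IH) (Lpr_gf (f631774 IH) (Lpn v4192))))
theorem f631777 : Led Lsl_dt (LP (LK LD1_c2 LD2_c51 LD3_c27)) = v4192 :=
  Lgr Lrot57 (Lpr_gf (K24.f139947 IH) (Lpe (K24.f24661 IH) (Lpe (K32.f24658 IH) (Lpr_dt (K32.f144062 IH) (Lpr_gt (K32.f25232 IH) (Lpr_dt (K24.f144055 IH) (Lpr_cf (K7.f25200 IH) (Lpe (K7.f25221 IH) (Lpr_gf (f631774 IH) (Lpn v4192))))))))))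
theorem f631780 : Led Lsl_df (LP (LK LD1_c2 LD2_c51 LD3_c27)) = v4192 :=
  Lgr Lrot38 (Lpr_dt (f631777 IH) (Lpn v4192))
theorem f669687 : Led Lsl_dt v5775 = K48.v8027 :=
  Lgr Lrot120 (Lpe (f649306 IH) (Lpe (K50.f140731 IH) (Lpe (K32.f82683 IH) (Lpe (K11.f82681 IH) (Lpr_cf (K24.f436241 IH) (Lpr_df (f631780 IH) (Lpe (f631776 IH) (Lpe (K32.f504930 IH) (Lpr_cf (K48.f669683 IH) (Lpn K48.v8027))))))))))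
theorem f669689 : Led Lsl_df v5775 = K48.v8027 :=
  Lgr Lrot38 (Lpr_dt (f669687 IH) (Lpn K48.v8027))
theorem f452852 : Led Lsl_cf (LP (LK LD1_c0 LD2_c38 LD3_c34)) = K40.v442 :=
  Lgr Lrot11 (Lpr_ct (K40.f452851 IH) (Lpn K40.v442))
theorem f500599 : Led Lsl_ef K40.v442 = K48.v1658 :=
  Lgr Lrot28 (Lpe (f452852 IH) (Lpr_et (K41.f23850 IH) (Lpr_ct (K48.f500597 IH) (Lpn K48.v1658))))
theorem f500601 : Led Lsl_et K40.v442 = K48.v1658 :=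
  Lgr Lrot87 (Lpr_ef (f500599 IH) (Lpn K48.v1658))
def v3022 : LQ := Led Lsl_dt K40.v442
theorem f536522 : Led Lsl_dt K40.v442 = v3022 :=
  Lrfl
theorem f500604 : Led Lsl_cf (LP (LK LD1_c1 LD2_c23 LD3_c25)) = K42.v1659 :=
  Lgr Lrot11 (Lpr_ct (K42.f500603 IH) (Lpn K42.v1659))
theorem f500609 : Led Lsl_gt K35.v434 = K42.v1659 :=
  Lgr Lrot150 (Lpe (K35.f452805 IH) (Lpe (K38.f24428 IH) (Lpe (K38.f24521 IH) (Lpe (K12.f211682 IH) (Lpr_ct (K12.f20719 IH) (Lpr_gt (K10.f178991 IH) (Lpr_ct (K10.f24240 IH) (Lpe (K10.f24462 IH) (Lpr_cf (f500604 IH) (Lpn K42.v1659))))))))))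
theorem f536528 : Led Lsl_ct (LP (LK LD1_c2 LD2_c15 LD3_c29)) = v3022 :=
  Lgr Lrot151 (Lpe (K11.f198559 IH) (Lpr_cf (f500604 IH) (Lpe (f500609 IH) (Lpr_dt (K42.f536453 IH) (Lpe (K42.f536458 IH) (Lpe (K42.f536448 IH) (Lpe (K35.f452841 IH) (Lpr_ct (K40.f452851 IH) (Lpr_dt (f536522 IH) (Lpn v3022))))))))))
theorem f536526 : Led Lsl_cf (LP (LK LD1_c2 LD2_c15 LD3_c29)) = v3022 :=
  Lgr Lrot116 (Lpr_dt (K11.f71278 IH) (Lpr_ct (K2.f71465 IH) (Lpr_dt (K1.f27234 IH) (Lpe (K10.f71477 IH) (Lpr_af (K10.f71413 IH) (Lpe (K2.f71451 IH) (Lpr_dt (K2.f23954 IH) (Lpr_ct (K40.f452851 IH) (Lpr_dt (f536522 IH) (Lpn v3022))))))))))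
theorem f82188 : Led Lsl_ft (LP (LK LD1_c0 LD2_c38 LD3_c34)) = (LP (LK LD1_c1 LD2_c23 LD3_c26)) :=
  Lre_f IH (LK LD1_c0 LD2_c38 LD3_c34) (LK LD1_c1 LD2_c23 LD3_c26) Lrfl Lrfl
theorem f500614 : Led Lsl_ff K40.v442 = K40.v1661 :=
  Lgr Lrot23 (Lpe (f452852 IH) (Lpr_ft (f82188 IH) (Lpr_ct (K40.f500612 IH) (Lpn K40.v1661))))
theorem f500619 : Led Lsl_ft K40.v442 = K40.v1661 :=
  Lgr Lrot48 (Lpr_ff (f500614 IH) (Lpn K40.v1661))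
theorem f536529 : Led Lsl_at K40.v1661 = v3022 :=
  Lgr Lrot33 (Lpe (f500619 IH) (Lpr_dt (f536522 IH) (Lpe (f536526 IH) (Lpr_dt (K11.f71278 IH) (Lpr_ct (K2.f71465 IH) (Lpr_dt (K1.f27234 IH) (Lpe (K10.f71477 IH) (Lpr_dt (K10.f71294 IH) (Lpr_ct (f536528 IH) (Lpn v3022))))))))))
theorem f536530 : Led Lsl_gt K40.v3019 = v3022 :=
  Lgr Lrot46 (Lpe (K40.f536506 IH) (Lpr_ft (f500619 IH) (Lpr_at (f536529 IH) (Lpn v3022))))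
def v4196 : LQ := Led Lsl_ct (LP (LK LD1_c2 LD2_c14 LD3_c42))
theorem f631804 : Led Lsl_ct (LP (LK LD1_c2 LD2_c14 LD3_c42)) = v4196 :=
  Lrfl
def v1261 : LQ := Led Lsl_gf (LP (LK LD1_c1 LD2_c4 LD3_c28))
theorem f494370 : Led Lsl_gf (LP (LK LD1_c1 LD2_c4 LD3_c28)) = v1261 :=
  Lrfl
theorem f494373 : Led Lsl_dt (LP (LK LD1_c1 LD2_c28 LD3_c53)) = v1261 :=
  Lgr Lrot57 (Lpr_gf (K12.f227770 IH) (Lpe (K12.f20717 IH) (Lpr_gt (K9.f20724 IH) (Lpe (K9.f164267 IH) (Lpr_gt (K9.f20323 IH) (Lpe (K9.f164259 IH) (Lpe (K12.f20310 IH) (Lpe (K54.f20320 IH) (Lpr_gf (f494370 IH) (Lpn v1261))))))))))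
theorem f494376 : Led Lsl_df (LP (LK LD1_c1 LD2_c28 LD3_c53)) = v1261 :=
  Lgr Lrot38 (Lpr_dt (f494373 IH) (Lpn v1261))
def v3020 : LQ := Led Lsl_gf K40.v442
theorem f536513 : Led Lsl_gf K40.v442 = v3020 :=
  Lrfl
theorem f227457 : Led Lsl_ct (LP (LK LD1_c1 LD2_c4 LD3_c27)) = (LP (LK LD1_c0 LD2_c32 LD3_c49)) :=
  Lgr Lrot59 (Lpr_cf (K12.f227453 IH) (Lpn (LP (LK LD1_c0 LD2_c32 LD3_c49))))
theorem f436276 : Led Lsl_af (LP (LK LD1_c1 LD2_c4 LD3_c28)) = (LP (LK LD1_c0 LD2_c38 LD3_c13)) :=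
  Lgr Lrot50 (Lpr_et (K54.f140763 IH) (Lpr_at (K32.f151889 IH) (Lpr_et (K64.f211759 IH) (Lpn (LP (LK LD1_c0 LD2_c38 LD3_c13))))))
theorem f24580 : Led Lsl_ft (LP (LK LD1_c1 LD2_c22 LD3_c31)) = (LP (LK LD1_c0 LD2_c38 LD3_c13)) :=
  Lre_f IH (LK LD1_c1 LD2_c22 LD3_c31) (LK LD1_c0 LD2_c38 LD3_c13) Lrfl Lrfl
theorem f494371 : Led Lsl_gt (LP (LK LD1_c1 LD2_c22 LD3_c31)) = v1261 :=
  Lgr Lrot5 (Lpr_ft (f24580 IH) (Lpe (f436276 IH) (Lpr_gf (f494370 IH) (Lpn v1261))))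
theorem f536515 : Led Lsl_ct v1261 = v3020 :=
  Lgr Lrot152 (Lpe (f494371 IH) (Lpe (K7.f24577 IH) (Lpe (K9.f151830 IH) (Lpr_ct (f227457 IH) (Lpr_gt (K10.f59524 IH) (Lpr_ct (K2.f82174 IH) (Lpe (K40.f23851 IH) (Lpr_cf (f452852 IH) (Lpr_gf (f536513 IH) (Lpn v3020))))))))))
theorem f536517 : Led Lsl_cf v1261 = v3020 :=
  Lgr Lrot11 (Lpr_ct (f536515 IH) (Lpn v3020))
def v4194 : LQ := Led Lsl_ct (LP (LK LD1_c2 LD2_c14 LD3_c40))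
theorem f631790 : Led Lsl_ct (LP (LK LD1_c2 LD2_c14 LD3_c40)) = v4194 :=
  Lrfl
theorem f449138 : Led Lsl_ft (LP (LK LD1_c1 LD2_c4 LD3_c26)) = (LP (LK LD1_c0 LD2_c38 LD3_c12)) :=
  Lgr Lrot4 (Lpr_cf (K12.f211058 IH) (Lpr_ff (K36.f449136 IH) (Lpe (K37.f211753 IH) (Lpn (LP (LK LD1_c0 LD2_c38 LD3_c12))))))
theorem f449130 : Led Lsl_af (LP (LK LD1_c1 LD2_c4 LD3_c27)) = (LP (LK LD1_c0 LD2_c38 LD3_c12)) :=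
  Lgr Lrot68 (Lpr_ct (f227457 IH) (Lpr_at (K36.f449126 IH) (Lpe (K12.f211755 IH) (Lpn (LP (LK LD1_c0 LD2_c38 LD3_c12))))))
theorem f631794 : Led Lsl_df v3020 = v4194 :=
  Lgr Lrot106 (Lpe (f536517 IH) (Lpe (f494376 IH) (Lpr_ct (K36.f186470 IH) (Lpr_dt (K10.f186475 IH) (Lpe (K12.f227453 IH) (Lpr_af (f449130 IH) (Lpe (f449138 IH) (Lpr_dt (K12.f20395 IH) (Lpr_ct (f631790 IH) (Lpn v4194))))))))))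
theorem f631807 : Led Lsl_df K40.v3019 = v4196 :=
  Lgr Lrot43 (Lpe (K40.f536507 IH) (Lpr_dt (K40.f227459 IH) (Lpr_ct (K40.f211676 IH) (Lpe (K10.f179904 IH) (Lpe (K12.f211058 IH) (Lpr_dt (K12.f20395 IH) (Lpr_ct (f631790 IH) (Lpe (f631794 IH) (Lpe (f536517 IH) (Lpe (f494376 IH) (Lpr_ct (K36.f186470 IH) (Lpr_dt (K10.f186475 IH) (Lpe (K12.f227453 IH) (Lpr_dt (K9.f151832 IH) (Lpr_ct (f631804 IH) (Lpn v4196))))))))))))))))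
def v12942 : LQ := Led Lsl_ct (LP (LK LD1_c4 LD2_c35 LD3_c8))
theorem f699725 : Led Lsl_ct (LP (LK LD1_c4 LD2_c35 LD3_c8)) = v12942 :=
  Lrfl
theorem f631806 : Led Lsl_cf (LP (LK LD1_c2 LD2_c14 LD3_c42)) = v4196 :=
  Lgr Lrot11 (Lpr_ct (f631804 IH) (Lpn v4196))
theorem f699728 : Led Lsl_ef v4196 = v12942 :=
  Lgr Lrot28 (Lpe (f631806 IH) (Lpr_et (K50.f140765 IH) (Lpr_ct (f699725 IH) (Lpn v12942))))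
theorem f699730 : Led Lsl_et v4196 = v12942 :=
  Lgr Lrot87 (Lpr_ef (f699728 IH) (Lpn v12942))
theorem f832431 : Led Lsl_gt v16154 = v12942 :=
  Lgr Lrot131 (Lpr_ef (f832409 IH) (Lpe (f832408 IH) (Lpe (f825623 IH) (Lpr_df (f669689 IH) (Lpe (K48.f669682 IH) (Lpe (f500601 IH) (Lpr_dt (f536522 IH) (Lpe (f536530 IH) (Lpr_df (f631807 IH) (Lpr_et (f699730 IH) (Lpn v12942)))))))))))
def v4207 : LQ := Led Lsl_dt (LP (LK LD1_c2 LD2_c15 LD3_c24))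
theorem f631881 : Led Lsl_dt (LP (LK LD1_c2 LD2_c15 LD3_c24)) = v4207 :=
  Lrfl
theorem f631883 : Led Lsl_df (LP (LK LD1_c2 LD2_c15 LD3_c24)) = v4207 :=
  Lgr Lrot38 (Lpr_dt (f631881 IH) (Lpn v4207))
theorem f653067 : Led Lsl_gf v4207 = K50.v6370 :=
  Lgr Lrot143 (Lpe (f631883 IH) (Lpq (K32.f504713 IH) (Lpe (K32.f494882 IH) (Lpe (K24.f414549 IH) (Lpe (K24.f414548 IH) (Lpe (K24.f22523 IH) (Lpe (K24.f22522 IH) (Lpe (K0.f23786 IH) (Lpe (K50.f510152 IH) (Lpr_dt (K50.f653062 IH) (Lpn K50.v6370)))))))))))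
def v7992 : LQ := Led Lsl_ct K64.v1603
theorem f669530 : Led Lsl_ct K64.v1603 = v7992 :=
  Lrfl
theorem f669533 : Led Lsl_df K41.v4916 = v7992 :=
  Lgr Lrot106 (Lpe (K48.f640902 IH) (Lpe (K32.f438451 IH) (Lpr_ct (K32.f82588 IH) (Lpr_dt (K24.f82574 IH) (Lpe (K32.f445619 IH) (Lpr_af (K41.f500329 IH) (Lpe (K41.f500328 IH) (Lpr_dt (K64.f500321 IH) (Lpr_ct (f669530 IH) (Lpn v7992))))))))))
theorem f832412 : Led Lsl_gf v7992 = v26172 :=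
  Lgr Lrot148 (Lpe (f669533 IH) (Lpe (K41.f640903 IH) (Lpr_dt (K48.f641208 IH) (Lpe (K48.f641203 IH) (Lpe (K2.f71344 IH) (Lpe (K50.f71362 IH) (Lpr_df (f631883 IH) (Lpr_gf (f653067 IH) (Lpr_ct (f832405 IH) (Lpn v26172))))))))))
def v1988 : LQ := Led Lsl_dt (LP (LK LD1_c1 LD2_c32 LD3_c58))
def v8333 : LQ := Led Lsl_ct v1988
theorem f670829 : Led Lsl_ct v1988 = v8333 :=
  Lrfl
theorem f506766 : Led Lsl_dt (LP (LK LD1_c1 LD2_c32 LD3_c58)) = v1988 :=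
  Lrfl
theorem f506769 : Led Lsl_ff K64.v1605 = v1988 :=
  Lgr Lrot19 (Lpe (K64.f500335 IH) (Lpr_ft (K32.f500318 IH) (Lpqs (K32.f504837 IH) (Lpr_dt (f506766 IH) (Lpn v1988)))))
theorem f506770 : Led Lsl_at K64.v1603 = v1988 :=
  Lgr Lrot66 (Lpr_ff (K64.f506243 IH) (Lpe (K64.f506248 IH) (Lpr_ff (f506769 IH) (Lpn v1988))))
theorem f669531 : Led Lsl_cf K64.v1603 = v7992 :=
  Lgr Lrot11 (Lpr_ct (f669530 IH) (Lpn v7992))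
theorem f670830 : Led Lsl_af v7992 = v8333 :=
  Lgr Lrot68 (Lpe (f669531 IH) (Lpr_at (f506770 IH) (Lpr_ct (f670829 IH) (Lpn v8333))))
theorem f506771 : Led Lsl_ft K64.v1605 = v1988 :=
  Lgr Lrot48 (Lpr_ff (f506769 IH) (Lpn v1988))
def v7994 : LQ := Led Lsl_ct K64.v1605
theorem f669540 : Led Lsl_ct K64.v1605 = v7994 :=
  Lrfl
theorem f669542 : Led Lsl_cf K64.v1605 = v7994 :=
  Lgr Lrot11 (Lpr_ct (f669540 IH) (Lpn v7994))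
theorem f670833 : Led Lsl_ff v7994 = v8333 :=
  Lgr Lrot23 (Lpe (f669542 IH) (Lpr_ft (f506771 IH) (Lpr_ct (f670829 IH) (Lpn v8333))))
theorem f670836 : Led Lsl_ft v7994 = v8333 :=
  Lgr Lrot48 (Lpr_ff (f670833 IH) (Lpn v8333))
theorem f832414 : Led Lsl_gt v7994 = v26172 :=
  Lgr Lrot5 (Lpr_ft (f670836 IH) (Lpe (f670830 IH) (Lpr_gf (f832412 IH) (Lpn v26172))))
theorem f669545 : Led Lsl_dt K48.v4914 = v7994 :=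
  Lgr Lrot113 (Lpe (K48.f640895 IH) (Lpr_df (K48.f641205 IH) (Lpe (K57.f641207 IH) (Lpe (K48.f640894 IH) (Lpe (K24.f436293 IH) (Lpr_dt (K24.f25241 IH) (Lpr_gt (K41.f151905 IH) (Lpr_dt (K64.f500334 IH) (Lpr_ct (f669540 IH) (Lpn v7994))))))))))
theorem f631906 : Led Lsl_ef K38.v1268 = K41.v4210 :=
  Lgr Lrot28 (Lpe (K38.f494418 IH) (Lpr_et (K50.f71440 IH) (Lpr_ct (K41.f631903 IH) (Lpn K41.v4210))))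
theorem f631909 : Led Lsl_et K38.v1268 = K41.v4210 :=
  Lgr Lrot87 (Lpr_ef (f631906 IH) (Lpn K41.v4210))
theorem f500378 : Led Lsl_dt K40.v1614 = K40.v1615 :=
  Lgr Lrot42 (Lpr_df (K40.f500377 IH) (Lpn K40.v1615))
def v4922 : LQ := Led Lsl_ct (LP (LK LD1_c2 LD2_c52 LD3_c49))
theorem f640925 : Led Lsl_ct (LP (LK LD1_c2 LD2_c52 LD3_c49)) = v4922 :=
  Lrfl
theorem f211773 : Led Lsl_et (LP (LK LD1_c1 LD2_c22 LD3_c28)) = (LP (LK LD1_c2 LD2_c52 LD3_c49)) :=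
  Lre_e IH (LK LD1_c1 LD2_c22 LD3_c28) (LK LD1_c2 LD2_c52 LD3_c49) Lrfl Lrfl
theorem f640927 : Led Lsl_ef K40.v1614 = v4922 :=
  Lgr Lrot28 (Lpe (K40.f500374 IH) (Lpr_et (f211773 IH) (Lpr_ct (f640925 IH) (Lpn v4922))))
theorem f640929 : Led Lsl_et K40.v1614 = v4922 :=
  Lgr Lrot87 (Lpr_ef (f640927 IH) (Lpn v4922))
def v24700 : LQ := Led Lsl_gf v4922
theorem f825249 : Led Lsl_gf v4922 = v24700 :=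
  Lrfl
theorem f500598 : Led Lsl_cf (LP (LK LD1_c1 LD2_c23 LD3_c23)) = K48.v1658 :=
  Lgr Lrot11 (Lpr_ct (K48.f500597 IH) (Lpn K48.v1658))
theorem f832413 : Led Lsl_dt v24790 = v26172 :=
  Lgr Lrot113 (Lpe (f825623 IH) (Lpr_df (f669689 IH) (Lpe (K48.f669682 IH) (Lpe (f500598 IH) (Lpr_gt (K0.f23785 IH) (Lpr_dt (K0.f23787 IH) (Lpe (K50.f510152 IH) (Lpr_dt (K50.f653062 IH) (Lpr_ct (f832405 IH) (Lpn v26172))))))))))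
theorem f832415 : Led Lsl_ef v24700 = v24790 :=
  Lgr Lrot114 (Lpe (f825249 IH) (Lpe (f640929 IH) (Lpr_dt (f500378 IH) (Lpr_gt (K40.f500618 IH) (Lpe (K42.f500617 IH) (Lpr_et (f631909 IH) (Lpr_gt (K48.f640895 IH) (Lpr_dt (f669545 IH) (Lpr_gt (f832414 IH) (Lpe (f832413 IH) (Lpn v24790)))))))))))
theorem f832417 : Led Lsl_et v24700 = v24790 :=
  Lgr Lrot87 (Lpr_ef (f832415 IH) (Lpn v24790))
theorem f832419 : Led Lsl_cf v24700 = K50.v12949 :=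
  Lgr Lrot39 (Lpr_et (f832417 IH) (Lpe (f825620 IH) (Lpr_et (K50.f699771 IH) (Lpn K50.v12949))))
def v16153 : LQ := Led Lsl_ct (LP (LK LD1_c5 LD2_c53 LD3_c23))
theorem f746758 : Led Lsl_ct (LP (LK LD1_c5 LD2_c53 LD3_c23)) = v16153 :=
  Lrfl
theorem f746759 : Led Lsl_cf (LP (LK LD1_c5 LD2_c53 LD3_c23)) = v16153 :=
  Lgr Lrot11 (Lpr_ct (f746758 IH) (Lpn v16153))
theorem f832421 : Led Lsl_ft v24700 = v16153 :=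
  Lgr Lrot4 (Lpr_cf (f832419 IH) (Lpr_ff (K50.f699793 IH) (Lpr_cf (f746759 IH) (Lpn v16153))))
def v24699 : LQ := Led Lsl_gt v4922
theorem f825248 : Led Lsl_gt v4922 = v24699 :=
  Lrfl
theorem f832423 : Led Lsl_af v24699 = v16153 :=
  Lgr Lrot31 (Lpe (f825248 IH) (Lpr_gf (f825249 IH) (Lpr_ft (f832421 IH) (Lpn v16153))))
theorem f822195 : Led Lsl_cf K50.v4489 = v24044 :=
  Lgr Lrot11 (Lpr_ct (f822193 IH) (Lpn v24044))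
theorem f825621 : Led Lsl_ff v24044 = v24790 :=
  Lgr Lrot23 (Lpe (f822195 IH) (Lpr_ft (K50.f641179 IH) (Lpr_ct (f825619 IH) (Lpn v24790))))
theorem f825624 : Led Lsl_ft v24044 = v24790 :=
  Lgr Lrot48 (Lpr_ff (f825621 IH) (Lpn v24790))
theorem f832411 : Led Lsl_at v24790 = v26172 :=
  Lgr Lrot33 (Lpe (f825624 IH) (Lpe (f822196 IH) (Lpe (f672074 IH) (Lpe (f509445 IH) (Lpe (K48.f414605 IH) (Lpr_dt (K11.f13565 IH) (Lpe (K50.f510144 IH) (Lpr_dt (K50.f653062 IH) (Lpr_ct (f832405 IH) (Lpn v26172))))))))))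
theorem f832418 : Led Lsl_af v24700 = v16154 :=
  Lgr Lrot50 (Lpr_et (f832417 IH) (Lpr_at (f832411 IH) (Lpe (f832409 IH) (Lpn v16154))))
theorem f832426 : Led Lsl_ft v24699 = v16154 :=
  Lgr Lrot101 (Lpr_af (f832423 IH) (Lpe (f832421 IH) (Lpr_af (f832418 IH) (Lpn v16154))))
theorem f832428 : Led Lsl_ff v24699 = v16154 :=
  Lgr Lrot3 (Lpr_ft (f832426 IH) (Lpn v16154))
theorem f832424 : Led Lsl_at v24699 = v16153 :=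
  Lgr Lrot100 (Lpr_af (f832423 IH) (Lpn v16153))
theorem f832433 : Led Lsl_gf v16153 = v12942 :=
  Lgr Lrot76 (Lpe (f832424 IH) (Lpr_ff (f832428 IH) (Lpr_gt (f832431 IH) (Lpn v12942))))
theorem f699791 : Led Lsl_bt (LP (LK LD1_c5 LD2_c53 LD3_c23)) = (LP (LK LD1_c11 LD2_c32 LD3_c51)) :=
  Lre_b IH (LK LD1_c5 LD2_c53 LD3_c23) (LK LD1_c11 LD2_c32 LD3_c51) Lrfl Lrfl
theorem f546135 : Led Lsl_bt (LP (LK LD1_c11 LD2_c39 LD3_c22)) = (LP (LK LD1_c20 LD2_c38 LD3_c57)) :=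
  Lre_b IH (LK LD1_c11 LD2_c39 LD3_c22) (LK LD1_c20 LD2_c38 LD3_c57) Lrfl Lrfl
theorem f546136 : Led Lsl_bt (LP (LK LD1_c26 LD2_c57 LD3_c31)) = (LP (LK LD1_c17 LD2_c2 LD3_c20)) :=
  Lre_b IH (LK LD1_c26 LD2_c57 LD3_c31) (LK LD1_c17 LD2_c2 LD3_c20) Lrfl Lrfl
theorem f546137 : Led Lsl_ft (LP (LK LD1_c20 LD2_c38 LD3_c57)) = (LP (LK LD1_c26 LD2_c57 LD3_c31)) :=
  Lgr Lrot75 (Lpe (f546135 IH) (Lpr_ff (K40.f546122 IH) (Lpe (f546136 IH) (Lpn (LP (LK LD1_c26 LD2_c57 LD3_c31))))))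
theorem f546151 : Led Lsl_dt (LP (LK LD1_c11 LD2_c39 LD3_c21)) = (LP (LK LD1_c20 LD2_c38 LD3_c57)) :=
  Lre_d IH (LK LD1_c11 LD2_c39 LD3_c21) (LK LD1_c20 LD2_c38 LD3_c57) Lrfl Lrfl
theorem f546152 : Led Lsl_dt (LP (LK LD1_c26 LD2_c57 LD3_c31)) = (LP (LK LD1_c17 LD2_c2 LD3_c19)) :=
  Lre_d IH (LK LD1_c26 LD2_c57 LD3_c31) (LK LD1_c17 LD2_c2 LD3_c19) Lrfl Lrfl
theorem f546153 : Led Lsl_ff (LP (LK LD1_c11 LD2_c39 LD3_c21)) = (LP (LK LD1_c17 LD2_c2 LD3_c19)) :=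
  Lgr Lrot19 (Lpr_dt (f546151 IH) (Lpr_ft (f546137 IH) (Lpr_dt (f546152 IH) (Lpn (LP (LK LD1_c17 LD2_c2 LD3_c19))))))
theorem f539922 : Led Lsl_ct (LP (LK LD1_c11 LD2_c40 LD3_c7)) = (LP (LK LD1_c17 LD2_c2 LD3_c19)) :=
  Lre_c IH (LK LD1_c11 LD2_c40 LD3_c7) (LK LD1_c17 LD2_c2 LD3_c19) Lrfl Lrfl
theorem f546164 : Led Lsl_ft (LP (LK LD1_c20 LD2_c12 LD3_c38)) = (LP (LK LD1_c11 LD2_c40 LD3_c7)) :=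
  Lre_f IH (LK LD1_c20 LD2_c12 LD3_c38) (LK LD1_c11 LD2_c40 LD3_c7) Lrfl Lrfl
theorem f546165 : Led Lsl_ct (LP (LK LD1_c11 LD2_c39 LD3_c21)) = (LP (LK LD1_c20 LD2_c12 LD3_c38)) :=
  Lgr Lrot40 (Lpr_ff (f546153 IH) (Lpe (f539922 IH) (Lpe (f546164 IH) (Lpn (LP (LK LD1_c20 LD2_c12 LD3_c38))))))
theorem f546178 : Led Lsl_at (LP (LK LD1_c20 LD2_c38 LD3_c56)) = (LP (LK LD1_c11 LD2_c39 LD3_c21)) :=
  Lre_a IH (LK LD1_c20 LD2_c38 LD3_c56) (LK LD1_c11 LD2_c39 LD3_c21) Lrfl Lrfl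
theorem f546179 : Led Lsl_at (LP (LK LD1_c20 LD2_c12 LD3_c38)) = (LP (LK LD1_c29 LD2_c21 LD3_c49)) :=
  Lre_a IH (LK LD1_c20 LD2_c12 LD3_c38) (LK LD1_c29 LD2_c21 LD3_c49) Lrfl Lrfl
theorem f546180 : Led Lsl_cf (LP (LK LD1_c20 LD2_c38 LD3_c56)) = (LP (LK LD1_c29 LD2_c21 LD3_c49)) :=
  Lgr Lrot1 (Lpr_at (f546178 IH) (Lpr_ct (f546165 IH) (Lpr_at (f546179 IH) (Lpn (LP (LK LD1_c29 LD2_c21 LD3_c49))))))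
theorem f546192 : Led Lsl_ct (LP (LK LD1_c20 LD2_c38 LD3_c56)) = (LP (LK LD1_c29 LD2_c21 LD3_c49)) :=
  Lgr Lrot59 (Lpr_cf (f546180 IH) (Lpn (LP (LK LD1_c29 LD2_c21 LD3_c49))))
theorem f176447 : Led Lsl_bt (LP (LK LD1_c29 LD2_c21 LD3_c49)) = (LP (LK LD1_c20 LD2_c18 LD3_c8)) :=
  Lre_b IH (LK LD1_c29 LD2_c21 LD3_c49) (LK LD1_c20 LD2_c18 LD3_c8) Lrfl Lrfl
theorem f176194 : Led Lsl_ct (LP (LK LD1_c20 LD2_c18 LD3_c8)) = (LP (LK LD1_c11 LD2_c22 LD3_c61)) :=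
  Lre_c IH (LK LD1_c20 LD2_c18 LD3_c8) (LK LD1_c11 LD2_c22 LD3_c61) Lrfl Lrfl
theorem f176263 : Led Lsl_ct (LP (LK LD1_c11 LD2_c51 LD3_c36)) = (LP (LK LD1_c20 LD2_c54 LD3_c1)) :=
  Lre_c IH (LK LD1_c11 LD2_c51 LD3_c36) (LK LD1_c20 LD2_c54 LD3_c1) Lrfl Lrfl
theorem f546197 : Led Lsl_bf (LP (LK LD1_c20 LD2_c38 LD3_c56)) = (LP (LK LD1_c20 LD2_c54 LD3_c1)) :=
  Lgr Lrot90 (Lpr_ct (f546192 IH) (Lpr_bt (f176447 IH) (Lpr_ct (f176194 IH) (Lpe (K10.f176181 IH) (Lpr_ct (f176263 IH) (Lpn (LP (LK LD1_c20 LD2_c54 LD3_c1))))))))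
theorem f546194 : Led Lsl_et (LP (LK LD1_c20 LD2_c38 LD3_c56)) = (LP (LK LD1_c29 LD2_c33 LD3_c19)) :=
  Lre_e IH (LK LD1_c20 LD2_c38 LD3_c56) (LK LD1_c29 LD2_c33 LD3_c19) Lrfl Lrfl
theorem f176264 : Led Lsl_et (LP (LK LD1_c29 LD2_c43 LD3_c17)) = (LP (LK LD1_c20 LD2_c54 LD3_c1)) :=
  Lre_e IH (LK LD1_c29 LD2_c43 LD3_c17) (LK LD1_c20 LD2_c54 LD3_c1) Lrfl Lrfl
theorem f546218 : Led Lsl_bt (LP (LK LD1_c29 LD2_c33 LD3_c19)) = (LP (LK LD1_c29 LD2_c43 LD3_c17)) :=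
  Lgr Lrot119 (Lpe (f546194 IH) (Lpr_bf (f546197 IH) (Lpe (f176264 IH) (Lpn (LP (LK LD1_c29 LD2_c43 LD3_c17))))))
theorem f546223 : Led Lsl_bf (LP (LK LD1_c29 LD2_c33 LD3_c19)) = (LP (LK LD1_c29 LD2_c43 LD3_c17)) :=
  Lgr Lrot24 (Lpr_bt (f546218 IH) (Lpn (LP (LK LD1_c29 LD2_c43 LD3_c17))))
theorem f546225 : Led Lsl_at (LP (LK LD1_c29 LD2_c33 LD3_c19)) = (LP (LK LD1_c20 LD2_c38 LD3_c58)) :=
  Lre_a IH (LK LD1_c29 LD2_c33 LD3_c19) (LK LD1_c20 LD2_c38 LD3_c58) Lrfl Lrfl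
theorem f546226 : Led Lsl_bt (LP (LK LD1_c20 LD2_c38 LD3_c58)) = (LP (LK LD1_c11 LD2_c39 LD3_c23)) :=
  Lre_b IH (LK LD1_c20 LD2_c38 LD3_c58) (LK LD1_c11 LD2_c39 LD3_c23) Lrfl Lrfl
theorem f176337 : Led Lsl_at (LP (LK LD1_c20 LD2_c54 LD3_c8)) = (LP (LK LD1_c29 LD2_c43 LD3_c17)) :=
  Lre_a IH (LK LD1_c20 LD2_c54 LD3_c8) (LK LD1_c29 LD2_c43 LD3_c17) Lrfl Lrfl
theorem f176187 : Led Lsl_ft (LP (LK LD1_c11 LD2_c22 LD3_c61)) = (LP (LK LD1_c6 LD2_c3 LD3_c61)) :=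
  Lre_f IH (LK LD1_c11 LD2_c22 LD3_c61) (LK LD1_c6 LD2_c3 LD3_c61) Lrfl Lrfl
theorem f176188 : Led Lsl_dt (LP (LK LD1_c6 LD2_c3 LD3_c61)) = (LP (LK LD1_c11 LD2_c51 LD3_c36)) :=
  Lre_d IH (LK LD1_c6 LD2_c3 LD3_c61) (LK LD1_c11 LD2_c51 LD3_c36) Lrfl Lrfl
theorem f176189 : Led Lsl_ff (LP (LK LD1_c9 LD2_c14 LD3_c39)) = (LP (LK LD1_c11 LD2_c51 LD3_c36)) :=
  Lgr Lrot19 (Lpr_dt (K10.f176173 IH) (Lpr_ft (f176187 IH) (Lpr_dt (f176188 IH) (Lpn (LP (LK LD1_c11 LD2_c51 LD3_c36))))))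
theorem f176207 : Led Lsl_at (LP (LK LD1_c9 LD2_c14 LD3_c39)) = (LP (LK LD1_c4 LD2_c39 LD3_c28)) :=
  Lre_a IH (LK LD1_c9 LD2_c14 LD3_c39) (LK LD1_c4 LD2_c39 LD3_c28) Lrfl Lrfl
theorem f176221 : Led Lsl_ct (LP (LK LD1_c9 LD2_c12 LD3_c45)) = (LP (LK LD1_c4 LD2_c39 LD3_c28)) :=
  Lre_c IH (LK LD1_c9 LD2_c12 LD3_c45) (LK LD1_c4 LD2_c39 LD3_c28) Lrfl Lrfl
theorem f176222 : Led Lsl_dt (LP (LK LD1_c17 LD2_c7 LD3_c12)) = (LP (LK LD1_c9 LD2_c12 LD3_c45)) :=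
  Lre_d IH (LK LD1_c17 LD2_c7 LD3_c12) (LK LD1_c9 LD2_c12 LD3_c45) Lrfl Lrfl
theorem f176223 : Led Lsl_ct (LP (LK LD1_c27 LD2_c0 LD3_c35)) = (LP (LK LD1_c17 LD2_c7 LD3_c12)) :=
  Lre_c IH (LK LD1_c27 LD2_c0 LD3_c35) (LK LD1_c17 LD2_c7 LD3_c12) Lrfl Lrfl
theorem f176224 : Led Lsl_dt (LP (LK LD1_c11 LD2_c47 LD3_c60)) = (LP (LK LD1_c20 LD2_c50 LD3_c29)) :=
  Lre_d IH (LK LD1_c11 LD2_c47 LD3_c60) (LK LD1_c20 LD2_c50 LD3_c29) Lrfl Lrfl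
theorem f176225 : Led Lsl_ct (LP (LK LD1_c20 LD2_c50 LD3_c29)) = (LP (LK LD1_c29 LD2_c42 LD3_c7)) :=
  Lre_c IH (LK LD1_c20 LD2_c50 LD3_c29) (LK LD1_c29 LD2_c42 LD3_c7) Lrfl Lrfl
theorem f176226 : Led Lsl_df (LP (LK LD1_c27 LD2_c0 LD3_c35)) = (LP (LK LD1_c29 LD2_c42 LD3_c7)) :=
  Lgr Lrot13 (Lpr_ct (f176223 IH) (Lpr_dt (f176222 IH) (Lpr_ct (f176221 IH) (Lpe (f176207 IH) (Lpr_ff (f176189 IH) (Lpr_dt (K10.f176180 IH) (Lpr_ct (K9.f176108 IH) (Lpr_dt (f176224 IH) (Lpr_ct (f176225 IH) (Lpn (LP (LK LD1_c29 LD2_c42 LD3_c7))))))))))))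
theorem f176160 : Led Lsl_at (LP (LK LD1_c27 LD2_c0 LD3_c32)) = (LP (LK LD1_c17 LD2_c7 LD3_c12)) :=
  Lre_a IH (LK LD1_c27 LD2_c0 LD3_c32) (LK LD1_c17 LD2_c7 LD3_c12) Lrfl Lrfl
theorem f176210 : Led Lsl_ct (LP (LK LD1_c20 LD2_c54 LD3_c1)) = (LP (LK LD1_c11 LD2_c51 LD3_c36)) :=
  Lre_c IH (LK LD1_c20 LD2_c54 LD3_c1) (LK LD1_c11 LD2_c51 LD3_c36) Lrfl Lrfl
theorem f176232 : Led Lsl_dt (LP (LK LD1_c29 LD2_c43 LD3_c16)) = (LP (LK LD1_c20 LD2_c54 LD3_c1)) :=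
  Lre_d IH (LK LD1_c29 LD2_c43 LD3_c16) (LK LD1_c20 LD2_c54 LD3_c1) Lrfl Lrfl
theorem f176235 : Led Lsl_ff (LP (LK LD1_c27 LD2_c0 LD3_c32)) = (LP (LK LD1_c29 LD2_c43 LD3_c16)) :=
  Lgr Lrot103 (Lpr_at (f176160 IH) (Lpe (f176223 IH) (Lpr_df (f176226 IH) (Lpe (f176225 IH) (Lpe (f176224 IH) (Lpe (K9.f176108 IH) (Lpe (K10.f176180 IH) (Lpe (f176210 IH) (Lpe (f176232 IH) (Lpn (LP (LK LD1_c29 LD2_c43 LD3_c16))))))))))))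
theorem f176244 : Led Lsl_at (LP (LK LD1_c20 LD2_c54 LD3_c7)) = (LP (LK LD1_c29 LD2_c43 LD3_c16)) :=
  Lre_a IH (LK LD1_c20 LD2_c54 LD3_c7) (LK LD1_c29 LD2_c43 LD3_c16) Lrfl Lrfl
theorem f176245 : Led Lsl_ft (LP (LK LD1_c17 LD2_c7 LD3_c12)) = (LP (LK LD1_c20 LD2_c54 LD3_c7)) :=
  Lgr Lrot101 (Lpe (f176160 IH) (Lpr_ff (f176235 IH) (Lpe (f176244 IH) (Lpn (LP (LK LD1_c20 LD2_c54 LD3_c7))))))
theorem f176267 : Led Lsl_bt (LP (LK LD1_c9 LD2_c12 LD3_c46)) = (LP (LK LD1_c17 LD2_c7 LD3_c12)) :=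
  Lre_b IH (LK LD1_c9 LD2_c12 LD3_c46) (LK LD1_c17 LD2_c7 LD3_c12) Lrfl Lrfl
theorem f176269 : Led Lsl_bf (LP (LK LD1_c16 LD2_c55 LD3_c60)) = (LP (LK LD1_c20 LD2_c54 LD3_c7)) :=
  Lgr Lrot61 (Lpr_ft (K40.f176268 IH) (Lpr_bt (f176267 IH) (Lpr_ft (f176245 IH) (Lpn (LP (LK LD1_c20 LD2_c54 LD3_c7))))))
theorem f176298 : Led Lsl_et (LP (LK LD1_c16 LD2_c55 LD3_c60)) = (LP (LK LD1_c26 LD2_c52 LD3_c27)) :=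
  Lre_e IH (LK LD1_c16 LD2_c55 LD3_c60) (LK LD1_c26 LD2_c52 LD3_c27) Lrfl Lrfl
theorem f176299 : Led Lsl_et (LP (LK LD1_c29 LD2_c43 LD3_c23)) = (LP (LK LD1_c20 LD2_c54 LD3_c7)) :=
  Lre_e IH (LK LD1_c29 LD2_c43 LD3_c23) (LK LD1_c20 LD2_c54 LD3_c7) Lrfl Lrfl
theorem f176300 : Led Lsl_bt (LP (LK LD1_c26 LD2_c52 LD3_c27)) = (LP (LK LD1_c29 LD2_c43 LD3_c23)) :=
  Lgr Lrot119 (Lpe (f176298 IH) (Lpr_bf (f176269 IH) (Lpe (f176299 IH) (Lpn (LP (LK LD1_c29 LD2_c43 LD3_c23))))))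
theorem f176304 : Led Lsl_dt (LP (LK LD1_c32 LD2_c17 LD3_c4)) = (LP (LK LD1_c26 LD2_c52 LD3_c27)) :=
  Lre_d IH (LK LD1_c32 LD2_c17 LD3_c4) (LK LD1_c26 LD2_c52 LD3_c27) Lrfl Lrfl
theorem f176305 : Led Lsl_dt (LP (LK LD1_c29 LD2_c43 LD3_c23)) = (LP (LK LD1_c32 LD2_c47 LD3_c6)) :=
  Lre_d IH (LK LD1_c29 LD2_c43 LD3_c23) (LK LD1_c32 LD2_c47 LD3_c6) Lrfl Lrfl
theorem f176306 : Led Lsl_bf (LP (LK LD1_c32 LD2_c17 LD3_c4)) = (LP (LK LD1_c32 LD2_c47 LD3_c6)) :=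
  Lgr Lrot93 (Lpr_dt (f176304 IH) (Lpr_bt (f176300 IH) (Lpr_dt (f176305 IH) (Lpn (LP (LK LD1_c32 LD2_c47 LD3_c6))))))
theorem f176312 : Led Lsl_et (LP (LK LD1_c32 LD2_c17 LD3_c4)) = (LP (LK LD1_c26 LD2_c52 LD3_c21)) :=
  Lre_e IH (LK LD1_c32 LD2_c17 LD3_c4) (LK LD1_c26 LD2_c52 LD3_c21) Lrfl Lrfl
theorem f176313 : Led Lsl_et (LP (LK LD1_c29 LD2_c43 LD3_c25)) = (LP (LK LD1_c32 LD2_c47 LD3_c6)) :=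
  Lre_e IH (LK LD1_c29 LD2_c43 LD3_c25) (LK LD1_c32 LD2_c47 LD3_c6) Lrfl Lrfl
theorem f176314 : Led Lsl_bt (LP (LK LD1_c26 LD2_c52 LD3_c21)) = (LP (LK LD1_c29 LD2_c43 LD3_c25)) :=
  Lgr Lrot119 (Lpe (f176312 IH) (Lpr_bf (f176306 IH) (Lpe (f176313 IH) (Lpn (LP (LK LD1_c29 LD2_c43 LD3_c25))))))
theorem f176319 : Led Lsl_dt (LP (LK LD1_c16 LD2_c55 LD3_c56)) = (LP (LK LD1_c26 LD2_c52 LD3_c21)) :=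
  Lre_d IH (LK LD1_c16 LD2_c55 LD3_c56) (LK LD1_c26 LD2_c52 LD3_c21) Lrfl Lrfl
theorem f176320 : Led Lsl_dt (LP (LK LD1_c29 LD2_c43 LD3_c25)) = (LP (LK LD1_c20 LD2_c54 LD3_c8)) :=
  Lre_d IH (LK LD1_c29 LD2_c43 LD3_c25) (LK LD1_c20 LD2_c54 LD3_c8) Lrfl Lrfl
theorem f176321 : Led Lsl_bf (LP (LK LD1_c16 LD2_c55 LD3_c56)) = (LP (LK LD1_c20 LD2_c54 LD3_c8)) :=
  Lgr Lrot93 (Lpr_dt (f176319 IH) (Lpr_bt (f176314 IH) (Lpr_dt (f176320 IH) (Lpn (LP (LK LD1_c20 LD2_c54 LD3_c8))))))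
theorem f176324 : Led Lsl_bt (LP (LK LD1_c16 LD2_c55 LD3_c56)) = (LP (LK LD1_c20 LD2_c54 LD3_c8)) :=
  Lgr Lrot127 (Lpr_bf (f176321 IH) (Lpn (LP (LK LD1_c20 LD2_c54 LD3_c8))))
theorem f546227 : Led Lsl_at (LP (LK LD1_c11 LD2_c39 LD3_c23)) = (LP (LK LD1_c16 LD2_c55 LD3_c56)) :=
  Lgr Lrot67 (Lpe (f546226 IH) (Lpe (f546225 IH) (Lpr_bf (f546223 IH) (Lpe (f176337 IH) (Lpe (f176324 IH) (Lpn (LP (LK LD1_c16 LD2_c55 LD3_c56))))))))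
theorem f545974 : Led Lsl_ct (LP (LK LD1_c5 LD2_c57 LD3_c2)) = (LP (LK LD1_c11 LD2_c39 LD3_c23)) :=
  Lre_c IH (LK LD1_c5 LD2_c57 LD3_c2) (LK LD1_c11 LD2_c39 LD3_c23) Lrfl Lrfl
theorem f176326 : Led Lsl_ct (LP (LK LD1_c16 LD2_c55 LD3_c56)) = (LP (LK LD1_c9 LD2_c4 LD3_c22)) :=
  Lre_c IH (LK LD1_c16 LD2_c55 LD3_c56) (LK LD1_c9 LD2_c4 LD3_c22) Lrfl Lrfl
theorem f546229 : Led Lsl_af (LP (LK LD1_c5 LD2_c57 LD3_c2)) = (LP (LK LD1_c9 LD2_c4 LD3_c22)) :=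
  Lgr Lrot68 (Lpr_ct (f545974 IH) (Lpr_at (f546227 IH) (Lpr_ct (f176326 IH) (Lpn (LP (LK LD1_c9 LD2_c4 LD3_c22))))))
theorem f653112 : Led Lsl_at (LP (LK LD1_c11 LD2_c39 LD3_c25)) = K46.v6381 :=
  Lgr Lrot66 (Lpe (K37.f545981 IH) (Lpr_af (f546229 IH) (Lpr_ff (K46.f653111 IH) (Lpn K46.v6381))))
theorem f748204 : Led Lsl_gf K46.v6381 = v16291 :=
  Lgr Lrot76 (Lpe (f653112 IH) (Lpe (K37.f545981 IH) (Lpr_gt (f748203 IH) (Lpn v16291))))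
theorem f832434 : (LP (LK LD1_c11 LD2_c32 LD3_c51)) = v16291 :=
  (Llr Lrot22 (Lpe (f699791 IH) (Lpr_ct (f746758 IH) (Lpr_gf (f832433 IH) (Lpe (f699725 IH) (Lpr_gf (K57.f699717 IH) (Lpr_bf (K57.f756623 IH) (Lpe (K57.f756626 IH) (Lpe (K57.f9318 IH) (Lpe (K53.f9309 IH) (Lpr_bt (K46.f653105 IH) (Lpr_gf (f748204 IH) (Lpn v16291))))))))))))).symm
theorem f832435 : Led Lsl_gt (LP (LK LD1_c5 LD2_c57 LD3_c2)) = (LP (LK LD1_c11 LD2_c32 LD3_c51)) :=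
  Leop (Lpqs (f832434 IH) (Lpe (f748203 IH) (Lpn (LP (LK LD1_c5 LD2_c57 LD3_c2)))))
theorem seed_1911 : LEOK LG_g (LK LD1_c5 LD2_c57 LD3_c2) :=
  Leoe_g (LK LD1_c5 LD2_c57 LD3_c2) (f832435 IH)
def v26220 : LQ := Led Lsl_et K50.v6415
theorem f832650 : Led Lsl_et K50.v6415 = v26220 :=
  Lrfl
theorem f705911 : Led Lsl_df (LP (LK LD1_c4 LD2_c49 LD3_c61)) = K50.v13919 :=
  Lgr Lrot38 (Lpr_dt (K50.f705908 IH) (Lpn K50.v13919))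
theorem f211741 : Led Lsl_et (LP (LK LD1_c1 LD2_c22 LD3_c29)) = (LP (LK LD1_c2 LD2_c52 LD3_c51)) :=
  Lre_e IH (LK LD1_c1 LD2_c22 LD3_c29) (LK LD1_c2 LD2_c52 LD3_c51) Lrfl Lrfl
def v4925 : LQ := Led Lsl_gt (LP (LK LD1_c2 LD2_c52 LD3_c51))
theorem f640938 : Led Lsl_gt (LP (LK LD1_c2 LD2_c52 LD3_c51)) = v4925 :=
  Lrfl
theorem f716175 : Led Lsl_ef v4925 = K50.v13919 :=
  Lgr Lrot17 (Lpe (f640938 IH) (Lpe (f211741 IH) (Lpr_dt (K12.f211739 IH) (Lpe (K12.f211742 IH) (Lpe (K12.f20720 IH) (Lpr_gf (K12.f26635 IH) (Lpr_ef (K54.f631801 IH) (Lpe (K54.f631800 IH) (Lpq (K46.f653292 IH) (Lpe (K50.f509502 IH) (Lpr_df (f705911 IH) (Lpn K50.v13919))))))))))))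
theorem f716176 : Led Lsl_et v4925 = K50.v13919 :=
  Lgr Lrot87 (Lpr_ef (f716175 IH) (Lpn K50.v13919))
def v4197 : LQ := Led Lsl_et (LP (LK LD1_c2 LD2_c14 LD3_c43))
def v23815 : LQ := Led Lsl_gf v4197
theorem f820654 : Led Lsl_gf v4197 = v23815 :=
  Lrfl
def v13923 : LQ := Led Lsl_bt (LP (LK LD1_c4 LD2_c50 LD3_c2))
theorem f716186 : Led Lsl_bt (LP (LK LD1_c4 LD2_c50 LD3_c2)) = v13923 :=
  Lrfl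
def v4513 : LQ := Led Lsl_dt (LP (LK LD1_c2 LD2_c22 LD3_c46))
theorem f634315 : Led Lsl_dt (LP (LK LD1_c2 LD2_c22 LD3_c46)) = v4513 :=
  Lrfl
theorem f23208 : Led Lsl_dt (LP (LK LD1_c2 LD2_c22 LD3_c47)) = (LP (LK LD1_c1 LD2_c8 LD3_c29)) :=
  Lre_d IH (LK LD1_c2 LD2_c22 LD3_c47) (LK LD1_c1 LD2_c8 LD3_c29) Lrfl Lrfl
theorem f634316 : Led Lsl_bf (LP (LK LD1_c2 LD2_c22 LD3_c47)) = v4513 :=
  Lgr Lrot93 (Lpr_dt (f23208 IH) (Lpr_bt (K50.f23213 IH) (Lpr_dt (f634315 IH) (Lpn v4513))))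
theorem f716188 : Led Lsl_ef v4513 = v13923 :=
  Lgr Lrot29 (Lpe (f634316 IH) (Lpr_et (K24.f414262 IH) (Lpr_bt (f716186 IH) (Lpn v13923))))
theorem f716190 : Led Lsl_et v4513 = v13923 :=
  Lgr Lrot87 (Lpr_ef (f716188 IH) (Lpn v13923))
theorem f634317 : Led Lsl_df (LP (LK LD1_c2 LD2_c22 LD3_c46)) = v4513 :=
  Lgr Lrot38 (Lpr_dt (f634315 IH) (Lpn v4513))
theorem f631719 : Led Lsl_dt K50.v1610 = K50.v4184 :=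
  Lgr Lrot77 (Lpe (K50.f500358 IH) (Lpe (K35.f24246 IH) (Lpqs (K50.f537370 IH) (Lpe (K50.f494319 IH) (Lpe (K8.f163340 IH) (Lpr_ef (K50.f631717 IH) (Lpn K50.v4184)))))))
theorem f631812 : Led Lsl_et (LP (LK LD1_c2 LD2_c14 LD3_c43)) = v4197 :=
  Lrfl
theorem f716192 : Led Lsl_gt v4197 = v13923 :=
  Lgr Lrot131 (Lpe (f631812 IH) (Lpr_dt (K40.f227459 IH) (Lpr_gf (K44.f380393 IH) (Lpe (K12.f211691 IH) (Lpe (K36.f380359 IH) (Lpr_ef (K50.f500359 IH) (Lpr_dt (f631719 IH) (Lpq (K50.f705942 IH) (Lpe (K50.f634311 IH) (Lpr_df (f634317 IH) (Lpr_et (f716190 IH) (Lpn v13923))))))))))))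
theorem f634318 : Led Lsl_ff K50.v2183 = v4513 :=
  Lgr Lrot19 (Lpe (K50.f509505 IH) (Lpr_ft (K50.f454221 IH) (Lpr_dt (f634315 IH) (Lpn v4513))))
theorem f634320 : Led Lsl_ft K50.v2183 = v4513 :=
  Lgr Lrot48 (Lpr_ff (f634318 IH) (Lpn v4513))
theorem f705913 : Led Lsl_at v4513 = K50.v13919 :=
  Lgr Lrot66 (Lpe (f634320 IH) (Lpr_af (K50.f653259 IH) (Lpr_ff (K50.f705912 IH) (Lpn K50.v13919))))
theorem f716189 : Led Lsl_at v4925 = v13923 :=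
  Lgr Lrot80 (Lpr_ef (f716175 IH) (Lpe (f705913 IH) (Lpr_ef (f716188 IH) (Lpn v13923))))
theorem f820656 : Led Lsl_ff v4925 = v23815 :=
  Lgr Lrot52 (Lpr_at (f716189 IH) (Lpe (f716192 IH) (Lpr_gf (f820654 IH) (Lpn v23815))))
theorem f820658 : Led Lsl_ft v4925 = v23815 :=
  Lgr Lrot48 (Lpr_ff (f820656 IH) (Lpn v23815))
theorem f705909 : Led Lsl_af v4513 = K50.v13919 :=
  Lgr Lrot117 (Lpe (f634317 IH) (Lpr_at (K50.f454226 IH) (Lpr_dt (K50.f705908 IH) (Lpn K50.v13919))))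
theorem f716191 : Led Lsl_af v4925 = v13923 :=
  Lgr Lrot50 (Lpr_et (f716176 IH) (Lpe (f705909 IH) (Lpr_et (f716190 IH) (Lpn v13923))))
def v4926 : LQ := Led Lsl_gf (LP (LK LD1_c2 LD2_c52 LD3_c51))
theorem f640939 : Led Lsl_gf (LP (LK LD1_c2 LD2_c52 LD3_c51)) = v4926 :=
  Lrfl
theorem f716193 : Led Lsl_ft v4926 = v13923 :=
  Lgr Lrot2 (Lpe (f640939 IH) (Lpr_gt (f640938 IH) (Lpr_af (f716191 IH) (Lpn v13923))))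
theorem f820659 : Led Lsl_af v4926 = v23815 :=
  Lgr Lrot45 (Lpr_ft (f716193 IH) (Lpe (f716191 IH) (Lpr_ft (f820658 IH) (Lpn v23815))))
def v19797 : LQ := Led Lsl_bt (LP (LK LD1_c6 LD2_c46 LD3_c44))
theorem f782181 : Led Lsl_bt (LP (LK LD1_c6 LD2_c46 LD3_c44)) = v19797 :=
  Lrfl
theorem f454097 : Led Lsl_ft (LP (LK LD1_c3 LD2_c21 LD3_c30)) = (LP (LK LD1_c6 LD2_c46 LD3_c44)) :=
  Lre_f IH (LK LD1_c3 LD2_c21 LD3_c30) (LK LD1_c6 LD2_c46 LD3_c44) Lrfl Lrfl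
theorem f653269 : Led Lsl_bf (LP (LK LD1_c3 LD2_c21 LD3_c30)) = K54.v6418 :=
  Lgr Lrot24 (Lpr_bt (K54.f653268 IH) (Lpn K54.v6418))
theorem f782184 : Led Lsl_ff K54.v6418 = v19797 :=
  Lgr Lrot25 (Lpe (f653269 IH) (Lpr_ft (f454097 IH) (Lpr_bt (f782181 IH) (Lpn v19797))))
theorem f716194 : Led Lsl_ff v4926 = v13923 :=
  Lgr Lrot3 (Lpr_ft (f716193 IH) (Lpn v13923))
theorem f782185 : Led Lsl_et v4926 = v19797 :=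
  Lgr Lrot69 (Lpr_ff (f716194 IH) (Lpe (f716190 IH) (Lpe (f634320 IH) (Lpr_ef (K54.f653270 IH) (Lpr_ff (f782184 IH) (Lpn v19797))))))
theorem f782186 : Led Lsl_ft K54.v6418 = v19797 :=
  Lgr Lrot48 (Lpr_ff (f782184 IH) (Lpn v19797))
def v15399 : LQ := Led Lsl_at (LP (LK LD1_c5 LD2_c38 LD3_c30))
theorem f736123 : Led Lsl_at (LP (LK LD1_c5 LD2_c38 LD3_c30)) = v15399 :=
  Lrfl
theorem f319363 : Led Lsl_dt (LP (LK LD1_c2 LD2_c45 LD3_c6)) = (LP (LK LD1_c5 LD2_c38 LD3_c30)) :=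
  Lre_d IH (LK LD1_c2 LD2_c45 LD3_c6) (LK LD1_c5 LD2_c38 LD3_c30) Lrfl Lrfl
def v4733 : LQ := Led Lsl_at (LP (LK LD1_c2 LD2_c45 LD3_c6))
theorem f638754 : Led Lsl_at (LP (LK LD1_c2 LD2_c45 LD3_c6)) = v4733 :=
  Lrfl
theorem f638755 : Led Lsl_af (LP (LK LD1_c2 LD2_c45 LD3_c6)) = v4733 :=
  Lgr Lrot0 (Lpr_at (f638754 IH) (Lpn v4733))
theorem f736125 : Led Lsl_df v4733 = v15399 :=
  Lgr Lrot18 (Lpe (f638755 IH) (Lpr_dt (f319363 IH) (Lpr_at (f736123 IH) (Lpn v15399))))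
theorem f319359 : Led Lsl_gt (LP (LK LD1_c1 LD2_c18 LD3_c50)) = (LP (LK LD1_c2 LD2_c45 LD3_c6)) :=
  Lre_g IH (LK LD1_c1 LD2_c18 LD3_c50) (LK LD1_c2 LD2_c45 LD3_c6) Lrfl Lrfl
theorem f638757 : Led Lsl_ft (LP (LK LD1_c2 LD2_c45 LD3_c7)) = v4733 :=
  Lgr Lrot2 (Lpr_gt (K54.f171838 IH) (Lpr_gt (f319359 IH) (Lpr_af (f638755 IH) (Lpn v4733))))
theorem f638759 : Led Lsl_ff (LP (LK LD1_c2 LD2_c45 LD3_c7)) = v4733 :=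
  Lgr Lrot3 (Lpr_ft (f638757 IH) (Lpn v4733))
theorem f736127 : Led Lsl_ft (LP (LK LD1_c5 LD2_c38 LD3_c32)) = v15399 :=
  Lgr Lrot54 (Lpe (K54.f319373 IH) (Lpr_ff (f638759 IH) (Lpr_df (f736125 IH) (Lpn v15399))))
theorem f736124 : Led Lsl_af (LP (LK LD1_c5 LD2_c38 LD3_c30)) = v15399 :=
  Lgr Lrot0 (Lpr_at (f736123 IH) (Lpn v15399))
def v15398 : LQ := Led Lsl_gf (LP (LK LD1_c5 LD2_c38 LD3_c30))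
theorem f736122 : Led Lsl_gf (LP (LK LD1_c5 LD2_c38 LD3_c30)) = v15398 :=
  Lrfl
theorem f736129 : Led Lsl_gt (LP (LK LD1_c5 LD2_c38 LD3_c32)) = v15398 :=
  Lgr Lrot5 (Lpr_ft (f736127 IH) (Lpe (f736124 IH) (Lpr_gf (f736122 IH) (Lpn v15398))))
theorem f782187 : Led Lsl_af v15398 = v19797 :=
  Lgr Lrot31 (Lpe (f736129 IH) (Lpr_gf (K54.f653293 IH) (Lpr_ft (f782186 IH) (Lpn v19797))))
theorem f820660 : Led Lsl_et v15398 = v23815 :=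
  Lgr Lrot123 (Lpr_af (f782187 IH) (Lpe (f782185 IH) (Lpr_af (f820659 IH) (Lpn v23815))))
theorem f832654 : Led Lsl_ff v15398 = v26220 :=
  Lgr Lrot72 (Lpr_et (f820660 IH) (Lpe (f820656 IH) (Lpr_et (f716176 IH) (Lpe (K50.f705912 IH) (Lpr_et (f832650 IH) (Lpn v26220))))))
theorem f782188 : Led Lsl_at v15398 = v19797 :=
  Lgr Lrot100 (Lpr_af (f782187 IH) (Lpn v19797))
theorem f832659 : Led Lsl_at K54.v6418 = v26220 :=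
  Lgr Lrot66 (Lpr_ff (f782184 IH) (Lpe (f782188 IH) (Lpr_ff (f832654 IH) (Lpn v26220))))
def v24498 : LQ := Led Lsl_gf K64.v4768
theorem f823972 : Led Lsl_gf K64.v4768 = v24498 :=
  Lrfl
def v16118 : LQ := Led Lsl_et (LP (LK LD1_c5 LD2_c52 LD3_c50))
theorem f746618 : Led Lsl_et (LP (LK LD1_c5 LD2_c52 LD3_c50)) = v16118 :=
  Lrfl
def v12820 : LQ := Led Lsl_et (LP (LK LD1_c4 LD2_c32 LD3_c3))
theorem f698381 : Led Lsl_et (LP (LK LD1_c4 LD2_c32 LD3_c3)) = v12820 :=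
  Lrfl
theorem f698383 : Led Lsl_ef (LP (LK LD1_c4 LD2_c32 LD3_c3)) = v12820 :=
  Lgr Lrot88 (Lpr_et (f698381 IH) (Lpn v12820))
theorem f746622 : Led Lsl_ff v12820 = v16118 :=
  Lgr Lrot72 (Lpe (f698383 IH) (Lpe (K55.f505615 IH) (Lpr_et (K54.f505531 IH) (Lpe (K46.f505522 IH) (Lpr_et (f746618 IH) (Lpn v16118))))))
theorem f505626 : Led Lsl_at (LP (LK LD1_c2 LD2_c46 LD3_c36)) = (LP (LK LD1_c4 LD2_c32 LD3_c3)) :=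
  Lgr Lrot100 (Lpr_af (K55.f505624 IH) (Lpn (LP (LK LD1_c4 LD2_c32 LD3_c3))))
theorem f698382 : Led Lsl_af K64.v4768 = v12820 :=
  Lgr Lrot50 (Lpe (K64.f638897 IH) (Lpr_at (f505626 IH) (Lpr_et (f698381 IH) (Lpn v12820))))
theorem f720610 : Led Lsl_ft K64.v4768 = K53.v14168 :=
  Lgr Lrot48 (Lpr_ff (K64.f720608 IH) (Lpn K53.v14168))
theorem f746624 : Led Lsl_at K53.v14168 = v16118 :=
  Lgr Lrot66 (Lpe (f720610 IH) (Lpr_af (f698382 IH) (Lpr_ff (f746622 IH) (Lpn v16118))))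
def v14096 : LQ := Led Lsl_gt (LP (LK LD1_c4 LD2_c57 LD3_c54))
theorem f718971 : Led Lsl_gt (LP (LK LD1_c4 LD2_c57 LD3_c54)) = v14096 :=
  Lrfl
theorem f737592 : Led Lsl_ft (LP (LK LD1_c6 LD2_c46 LD3_c34)) = (LP (LK LD1_c6 LD2_c46 LD3_c52)) :=
  Lgr Lrot2 (Lpr_gt (K64.f416799 IH) (Lpr_gt (K51.f446273 IH) (Lpr_af (K54.f737589 IH) (Lpn (LP (LK LD1_c6 LD2_c46 LD3_c52))))))
theorem f737647 : Led Lsl_ff (LP (LK LD1_c5 LD2_c40 LD3_c16)) = (LP (LK LD1_c9 LD2_c46 LD3_c39)) :=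
  Lgr Lrot19 (Lpe (K64.f643238 IH) (Lpr_ft (f737592 IH) (Lpqs (K54.f737642 IH) (Lpe (K54.f698870 IH) (Lpn (LP (LK LD1_c9 LD2_c46 LD3_c39)))))))
theorem f737653 : K54.v15474 = v14096 :=
  (Llr Lrot26 (Lpe (K54.f737538 IH) (Lpr_ff (f737647 IH) (Lpr_gt (K41.f415705 IH) (Lpr_gt (f718971 IH) (Lpn v14096)))))).symm
theorem f705934 : Led Lsl_df (LP (LK LD1_c6 LD2_c46 LD3_c32)) = (LP (LK LD1_c5 LD2_c40 LD3_c39)) :=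
  Lgr Lrot18 (Lpr_at (K24.f454207 IH) (Lpr_dt (K46.f653262 IH) (Lpr_at (K50.f705930 IH) (Lpn (LP (LK LD1_c5 LD2_c40 LD3_c39))))))
def v15485 : LQ := Led Lsl_et (LP (LK LD1_c5 LD2_c40 LD3_c39))
theorem f737719 : Led Lsl_et (LP (LK LD1_c5 LD2_c40 LD3_c39)) = v15485 :=
  Lrfl
theorem f746623 : Led Lsl_gt v15485 = v16118 :=
  Lgr Lrot131 (Lpe (f737719 IH) (Lpe (f705934 IH) (Lpr_gf (K54.f454223 IH) (Lpr_df (K54.f705965 IH) (Lpq (K54.f737578 IH) (Lpqs (f737653 IH) (Lpe (f718971 IH) (Lpe (K41.f415708 IH) (Lpr_dt (K32.f140575 IH) (Lpr_gf (K52.f445981 IH) (Lpe (K24.f445595 IH) (Lpr_et (f746618 IH) (Lpn v16118)))))))))))))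
theorem f746627 : Led Lsl_gt K64.v4768 = v15485 :=
  Lgr Lrot5 (Lpr_ft (f720610 IH) (Lpr_at (f746624 IH) (Lpe (f746623 IH) (Lpn v15485))))
theorem f737721 : Led Lsl_ef (LP (LK LD1_c5 LD2_c40 LD3_c39)) = v15485 :=
  Lgr Lrot88 (Lpr_et (f737719 IH) (Lpn v15485))
theorem f705932 : Led Lsl_af K46.v6416 = (LP (LK LD1_c5 LD2_c40 LD3_c39)) :=
  Lgr Lrot0 (Lpr_at (K50.f705930 IH) (Lpn (LP (LK LD1_c5 LD2_c40 LD3_c39))))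
theorem f737722 : Led Lsl_at K54.v15374 = v15485 :=
  Lgr Lrot80 (Lpe (K54.f735971 IH) (Lpq (K46.f653287 IH) (Lpr_af (f705932 IH) (Lpr_ef (f737721 IH) (Lpn v15485)))))
theorem f823974 : Led Lsl_ff K54.v15374 = v24498 :=
  Lgr Lrot52 (Lpr_at (f737722 IH) (Lpe (f746627 IH) (Lpr_gf (f823972 IH) (Lpn v24498))))
theorem f823977 : Led Lsl_ft K54.v15374 = v24498 :=
  Lgr Lrot48 (Lpr_ff (f823974 IH) (Lpn v24498))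
theorem f735975 : Led Lsl_gf K53.v14168 = K54.v15374 :=
  Lgr Lrot141 (Lpe (K53.f720605 IH) (Lpr_dt (K24.f140723 IH) (Lpr_gt (K32.f83705 IH) (Lpr_df (K35.f454667 IH) (Lpr_et (K41.f416039 IH) (Lpr_gt (K53.f720612 IH) (Lpe (K64.f643238 IH) (Lpr_gt (K64.f416799 IH) (Lpr_df (K46.f653264 IH) (Lpqs (K46.f653287 IH) (Lpr_et (K54.f735971 IH) (Lpn K54.v15374))))))))))))
theorem f735976 : Led Lsl_dt K54.v6418 = K54.v15374 :=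
  Lgr Lrot136 (Lpe (K54.f653270 IH) (Lpr_gf (K50.f672109 IH) (Lpq (K50.f699746 IH) (Lpe (K50.f640909 IH) (Lpe (K32.f438451 IH) (Lpr_gf (K32.f454593 IH) (Lpr_df (K50.f649299 IH) (Lpe (K50.f649297 IH) (Lpr_ef (K53.f649309 IH) (Lpr_dt (K64.f720609 IH) (Lpr_gf (f735975 IH) (Lpn K54.v15374))))))))))))
theorem f823979 : Led Lsl_df v19797 = v24498 :=
  Lgr Lrot78 (Lpe (f782184 IH) (Lpr_dt (f735976 IH) (Lpr_ft (f823977 IH) (Lpn v24498))))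
theorem f823973 : Led Lsl_gt v16118 = v24498 :=
  Lgr Lrot5 (Lpe (f746622 IH) (Lpe (f698382 IH) (Lpr_gf (f823972 IH) (Lpn v24498))))
theorem f289450 : Led Lsl_gt (LP (LK LD1_c2 LD2_c12 LD3_c32)) = (LP (LK LD1_c4 LD2_c31 LD3_c10)) :=
  Lre_g IH (LK LD1_c2 LD2_c12 LD3_c32) (LK LD1_c4 LD2_c31 LD3_c10) Lrfl Lrfl
theorem f289451 : Led Lsl_et (LP (LK LD1_c9 LD2_c0 LD3_c23)) = (LP (LK LD1_c4 LD2_c31 LD3_c10)) :=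
  Lre_e IH (LK LD1_c9 LD2_c0 LD3_c23) (LK LD1_c4 LD2_c31 LD3_c10) Lrfl Lrfl
theorem f289452 : Led Lsl_df (LP (LK LD1_c5 LD2_c40 LD3_c51)) = (LP (LK LD1_c9 LD2_c0 LD3_c23)) :=
  Lgr Lrot170 (Lpr_gt (K64.f289449 IH) (Lpe (K55.f225535 IH) (Lpr_et (K30.f225534 IH) (Lpr_gt (K12.f172293 IH) (Lpr_dt (K20.f289440 IH) (Lpr_gt (K12.f167843 IH) (Lpe (K12.f174912 IH) (Lpr_et (K20.f211783 IH) (Lpr_gt (f289450 IH) (Lpe (f289451 IH) (Lpn (LP (LK LD1_c9 LD2_c0 LD3_c23)))))))))))))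
theorem f289458 : Led Lsl_dt (LP (LK LD1_c5 LD2_c40 LD3_c51)) = (LP (LK LD1_c9 LD2_c0 LD3_c23)) :=
  Lgr Lrot42 (Lpr_df (f289452 IH) (Lpn (LP (LK LD1_c9 LD2_c0 LD3_c23))))
theorem f698401 : Led Lsl_gf (LP (LK LD1_c4 LD2_c57 LD3_c56)) = (LP (LK LD1_c9 LD2_c0 LD3_c23)) :=
  Lgr Lrot134 (Lpe (K51.f416309 IH) (Lpr_et (K51.f416261 IH) (Lpr_gt (K17.f416244 IH) (Lpe (K24.f416322 IH) (Lpr_dt (K24.f416323 IH) (Lpr_gt (K50.f698399 IH) (Lpe (K50.f379932 IH) (Lpe (K24.f379923 IH) (Lpr_gt (K64.f613573 IH) (Lpr_dt (f289458 IH) (Lpn (LP (LK LD1_c9 LD2_c0 LD3_c23)))))))))))))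
theorem f289460 : Led Lsl_et (LP (LK LD1_c4 LD2_c31 LD3_c10)) = (LP (LK LD1_c9 LD2_c0 LD3_c23)) :=
  Lre_e IH (LK LD1_c4 LD2_c31 LD3_c10) (LK LD1_c9 LD2_c0 LD3_c23) Lrfl Lrfl
theorem f289455 : Led Lsl_dt (LP (LK LD1_c4 LD2_c31 LD3_c10)) = (LP (LK LD1_c9 LD2_c0 LD3_c22)) :=
  Lre_d IH (LK LD1_c4 LD2_c31 LD3_c10) (LK LD1_c9 LD2_c0 LD3_c22) Lrfl Lrfl
theorem f823980 : Led Lsl_gt v19797 = (LP (LK LD1_c9 LD2_c0 LD3_c22)) :=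
  Lgr Lrot139 (Lpr_df (f823979 IH) (Lpe (f823973 IH) (Lpe (f746618 IH) (Lpr_dt (K24.f445595 IH) (Lpe (K46.f445994 IH) (Lpr_df (K32.f416258 IH) (Lpr_et (K51.f416262 IH) (Lpr_gf (f698401 IH) (Lpe (f289460 IH) (Lpr_dt (f289455 IH) (Lpn (LP (LK LD1_c9 LD2_c0 LD3_c22)))))))))))))
theorem f832661 : Led Lsl_gt (LP (LK LD1_c9 LD2_c0 LD3_c22)) = v26220 :=
  Lgr Lrot46 (Lpe (f823980 IH) (Lpe (f782184 IH) (Lpr_at (f832659 IH) (Lpn v26220))))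
theorem f832662 : Led Lsl_dt v15485 = v26220 :=
  Lgr Lrot56 (Lpe (f737721 IH) (Lpr_gt (K50.f289454 IH) (Lpe (K54.f289446 IH) (Lpr_dt (K20.f289440 IH) (Lpr_gt (K12.f167843 IH) (Lpe (K12.f174912 IH) (Lpr_et (K20.f211783 IH) (Lpr_gt (f289450 IH) (Lpr_dt (f289455 IH) (Lpr_gt (f832661 IH) (Lpn v26220)))))))))))
def v4767 : LQ := Led Lsl_dt (LP (LK LD1_c2 LD2_c46 LD3_c36))
theorem f638894 : Led Lsl_dt (LP (LK LD1_c2 LD2_c46 LD3_c36)) = v4767 :=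
  Lrfl
def v15529 : LQ := Led Lsl_gt (LP (LK LD1_c5 LD2_c41 LD3_c11))
theorem f737874 : Led Lsl_gt (LP (LK LD1_c5 LD2_c41 LD3_c11)) = v15529 :=
  Lrfl
def v12819 : LQ := Led Lsl_dt (LP (LK LD1_c4 LD2_c32 LD3_c3))
theorem f698375 : Led Lsl_dt (LP (LK LD1_c4 LD2_c32 LD3_c3)) = v12819 :=
  Lrfl
theorem f698378 : Led Lsl_ff (LP (LK LD1_c5 LD2_c41 LD3_c11)) = v12819 :=
  Lgr Lrot19 (Lpr_dt (K52.f186067 IH) (Lpr_ft (K55.f505619 IH) (Lpr_dt (f698375 IH) (Lpn v12819))))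
theorem f698379 : Led Lsl_ft (LP (LK LD1_c5 LD2_c41 LD3_c11)) = v12819 :=
  Lgr Lrot48 (Lpr_ff (f698378 IH) (Lpn v12819))
theorem f638895 : Led Lsl_df (LP (LK LD1_c2 LD2_c46 LD3_c36)) = v4767 :=
  Lgr Lrot38 (Lpr_dt (f638894 IH) (Lpn v4767))
theorem f698376 : Led Lsl_af v4767 = v12819 :=
  Lgr Lrot117 (Lpe (f638895 IH) (Lpr_at (f505626 IH) (Lpr_dt (f698375 IH) (Lpn v12819))))
theorem f737875 : Led Lsl_gf v4767 = v15529 :=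
  Lgr Lrot76 (Lpr_af (f698376 IH) (Lpe (f698379 IH) (Lpr_gt (f737874 IH) (Lpn v15529))))
theorem f737876 : Led Lsl_et (LP (LK LD1_c5 LD2_c49 LD3_c32)) = v15529 :=
  Lgr Lrot122 (Lpe (K53.f250028 IH) (Lpe (K53.f722187 IH) (Lpr_df (K53.f648687 IH) (Lpe (K53.f648688 IH) (Lpr_gt (K32.f438556 IH) (Lpr_dt (K32.f438568 IH) (Lpe (K32.f438591 IH) (Lpe (K50.f146429 IH) (Lpr_et (K52.f186076 IH) (Lpr_gt (f737874 IH) (Lpn v15529)))))))))))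
theorem f737878 : Led Lsl_ef (LP (LK LD1_c5 LD2_c49 LD3_c32)) = v15529 :=
  Lgr Lrot88 (Lpr_et (f737876 IH) (Lpn v15529))
theorem f53217 : Led Lsl_dt (LP (LK LD1_c5 LD2_c8 LD3_c8)) = (LP (LK LD1_c10 LD2_c6 LD3_c49)) :=
  Lre_d IH (LK LD1_c5 LD2_c8 LD3_c8) (LK LD1_c10 LD2_c6 LD3_c49) Lrfl Lrfl
def v15471 : LQ := Led Lsl_gf (LP (LK LD1_c5 LD2_c40 LD3_c15))
theorem f737527 : Led Lsl_gf (LP (LK LD1_c5 LD2_c40 LD3_c15)) = v15471 :=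
  Lrfl
theorem f165157 : Led Lsl_dt (LP (LK LD1_c10 LD2_c6 LD3_c49)) = (LP (LK LD1_c5 LD2_c8 LD3_c8)) :=
  Lre_d IH (LK LD1_c10 LD2_c6 LD3_c49) (LK LD1_c5 LD2_c8 LD3_c8) Lrfl Lrfl
theorem f737528 : Led Lsl_et (LP (LK LD1_c10 LD2_c6 LD3_c49)) = v15471 :=
  Lgr Lrot121 (Lpr_dt (f165157 IH) (Lpe (K53.f53216 IH) (Lpe (K54.f165070 IH) (Lpr_et (K17.f164997 IH) (Lpr_gf (K20.f177653 IH) (Lpe (K54.f177657 IH) (Lpr_dt (K50.f177658 IH) (Lpe (K54.f177659 IH) (Lpe (K54.f177660 IH) (Lpr_gf (f737527 IH) (Lpn v15471)))))))))))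
theorem f737879 : Led Lsl_dt v15471 = v15529 :=
  Lgr Lrot77 (Lpe (f737528 IH) (Lpe (f53217 IH) (Lpe (K53.f53218 IH) (Lpr_df (K53.f250028 IH) (Lpr_ef (f737878 IH) (Lpn v15529))))))
theorem f737529 : Led Lsl_ef (LP (LK LD1_c10 LD2_c6 LD3_c49)) = v15471 :=
  Lgr Lrot88 (Lpr_et (f737528 IH) (Lpn v15471))
theorem f319349 : Led Lsl_dt (LP (LK LD1_c9 LD2_c0 LD3_c25)) = (LP (LK LD1_c4 LD2_c31 LD3_c11)) :=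
  Lre_d IH (LK LD1_c9 LD2_c0 LD3_c25) (LK LD1_c4 LD2_c31 LD3_c11) Lrfl Lrfl
theorem f832655 : Led Lsl_gf (LP (LK LD1_c9 LD2_c0 LD3_c25)) = v26220 :=
  Lgr Lrot138 (Lpr_dt (f319349 IH) (Lpr_gt (K64.f211784 IH) (Lpr_df (K53.f631626 IH) (Lpe (K53.f631627 IH) (Lpr_gt (K35.f211680 IH) (Lpr_ef (K50.f500359 IH) (Lpr_dt (f631719 IH) (Lpq (K50.f705942 IH) (Lpe (K50.f634312 IH) (Lpr_df (K50.f653260 IH) (Lpr_et (f832650 IH) (Lpn v26220))))))))))))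
theorem f319346 : Led Lsl_dt (LP (LK LD1_c4 LD2_c31 LD3_c11)) = (LP (LK LD1_c9 LD2_c0 LD3_c25)) :=
  Lre_d IH (LK LD1_c4 LD2_c31 LD3_c11) (LK LD1_c9 LD2_c0 LD3_c25) Lrfl Lrfl
theorem f698264 : Led Lsl_et (LP (LK LD1_c4 LD2_c31 LD3_c11)) = (LP (LK LD1_c9 LD2_c0 LD3_c26)) :=
  Lre_e IH (LK LD1_c4 LD2_c31 LD3_c11) (LK LD1_c9 LD2_c0 LD3_c26) Lrfl Lrfl
theorem f832663 : Led Lsl_gf (LP (LK LD1_c10 LD2_c6 LD3_c49)) = (LP (LK LD1_c9 LD2_c0 LD3_c26)) :=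
  Lgr Lrot141 (Lpr_ef (f737529 IH) (Lpr_dt (f737879 IH) (Lpe (f737875 IH) (Lpe (f638894 IH) (Lpr_et (K64.f638896 IH) (Lpr_gt (f746627 IH) (Lpr_dt (f832662 IH) (Lpe (f832655 IH) (Lpe (f319346 IH) (Lpr_et (f698264 IH) (Lpn (LP (LK LD1_c9 LD2_c0 LD3_c26)))))))))))))
theorem f832664 : Led Lsl_gt (LP (LK LD1_c9 LD2_c0 LD3_c26)) = (LP (LK LD1_c10 LD2_c6 LD3_c49)) :=
  Leop (Lpr_gf (f832663 IH) (Lpn (LP (LK LD1_c9 LD2_c0 LD3_c26))))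
theorem seed_1912 : LEOK LG_g (LK LD1_c9 LD2_c0 LD3_c26) :=
  Leoe_g (LK LD1_c9 LD2_c0 LD3_c26) (f832664 IH)
def v6448 : LQ := Led Lsl_gt (LP (LK LD1_c3 LD2_c21 LD3_c53))
def v26234 : LQ := Led Lsl_ct v6448
theorem f832724 : Led Lsl_ct v6448 = v26234 :=
  Lrfl
def v13925 : LQ := Led Lsl_ft (LP (LK LD1_c4 LD2_c50 LD3_c2))
theorem f716203 : Led Lsl_ft (LP (LK LD1_c4 LD2_c50 LD3_c2)) = v13925 :=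
  Lrfl
def v13922 : LQ := Led Lsl_gt (LP (LK LD1_c4 LD2_c50 LD3_c2))
theorem f716185 : Led Lsl_gt (LP (LK LD1_c4 LD2_c50 LD3_c2)) = v13922 :=
  Lrfl
theorem f454276 : Led Lsl_ft (LP (LK LD1_c6 LD2_c47 LD3_c31)) = (LP (LK LD1_c3 LD2_c21 LD3_c53)) :=
  Lre_f IH (LK LD1_c6 LD2_c47 LD3_c31) (LK LD1_c3 LD2_c21 LD3_c53) Lrfl Lrfl
theorem f716204 : Led Lsl_af (LP (LK LD1_c6 LD2_c47 LD3_c31)) = v13925 :=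
  Lgr Lrot45 (Lpr_ft (f454276 IH) (Lpe (K24.f454269 IH) (Lpr_ft (f716203 IH) (Lpn v13925))))
theorem f716208 : Led Lsl_gt v13922 = (LP (LK LD1_c6 LD2_c47 LD3_c31)) :=
  Lgr Lrot46 (Lpe (f716185 IH) (Lpr_ft (f716203 IH) (Lpe (f716204 IH) (Lpn (LP (LK LD1_c6 LD2_c47 LD3_c31))))))
def v13098 : LQ := Led Lsl_et (LP (LK LD1_c4 LD2_c39 LD3_c29))
theorem f701094 : Led Lsl_et (LP (LK LD1_c4 LD2_c39 LD3_c29)) = v13098 :=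
  Lrfl
theorem f701098 : Led Lsl_gf (LP (LK LD1_c4 LD2_c50 LD3_c2)) = v13098 :=
  Lgr Lrot141 (Lpe (K24.f414262 IH) (Lpr_dt (f23208 IH) (Lpe (K17.f414257 IH) (Lpe (K2.f73703 IH) (Lpr_et (K56.f100726 IH) (Lpe (K10.f186046 IH) (Lpr_dt (K11.f9389 IH) (Lpr_gt (K10.f26687 IH) (Lpe (K10.f26698 IH) (Lpr_et (f701094 IH) (Lpn v13098)))))))))))
theorem f701099 : Led Lsl_gt (LP (LK LD1_c6 LD2_c47 LD3_c31)) = v13098 :=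
  Lgr Lrot5 (Lpr_ft (f454276 IH) (Lpe (K24.f454269 IH) (Lpr_gf (f701098 IH) (Lpn v13098))))
theorem f701097 : Led Lsl_ef (LP (LK LD1_c4 LD2_c39 LD3_c29)) = v13098 :=
  Lgr Lrot88 (Lpr_et (f701094 IH) (Lpn v13098))
theorem f450290 : Led Lsl_af (LP (LK LD1_c2 LD2_c58 LD3_c11)) = (LP (LK LD1_c2 LD2_c45 LD3_c11)) :=
  Lgr Lrot50 (Lpe (K35.f211814 IH) (Lpr_at (K38.f450282 IH) (Lpr_et (K12.f211733 IH) (Lpn (LP (LK LD1_c2 LD2_c45 LD3_c11))))))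
theorem f501230 : Led Lsl_at (LP (LK LD1_c4 LD2_c39 LD3_c29)) = K40.v1742 :=
  Lgr Lrot51 (Lpr_df (K10.f26688 IH) (Lpr_af (f450290 IH) (Lpr_df (K56.f501229 IH) (Lpn K40.v1742))))
theorem f537746 : Led Lsl_et (LP (LK LD1_c2 LD2_c52 LD3_c34)) = (LP (LK LD1_c5 LD2_c52 LD3_c37)) :=
  Lre_e IH (LK LD1_c2 LD2_c52 LD3_c34) (LK LD1_c5 LD2_c52 LD3_c37) Lrfl Lrfl
theorem f701100 : Led Lsl_at (LP (LK LD1_c5 LD2_c52 LD3_c37)) = v13098 :=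
  Lgr Lrot80 (Lpe (f537746 IH) (Lpq (K40.f537736 IH) (Lpe (f501230 IH) (Lpr_ef (f701097 IH) (Lpn v13098)))))
theorem f716209 : Led Lsl_ft v13922 = (LP (LK LD1_c5 LD2_c52 LD3_c37)) :=
  Lgr Lrot2 (Lpr_gt (f716208 IH) (Lpr_gt (f701099 IH) (Lpe (f701100 IH) (Lpn (LP (LK LD1_c5 LD2_c52 LD3_c37))))))
theorem f716211 : Led Lsl_ff v13922 = (LP (LK LD1_c5 LD2_c52 LD3_c37)) :=
  Lgr Lrot3 (Lpr_ft (f716209 IH) (Lpn (LP (LK LD1_c5 LD2_c52 LD3_c37))))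
theorem f598746 : Led Lsl_dt (LP (LK LD1_c17 LD2_c58 LD3_c33)) = (LP (LK LD1_c11 LD2_c32 LD3_c17)) :=
  Lgr Lrot42 (Lpr_df (K55.f598744 IH) (Lpn (LP (LK LD1_c11 LD2_c32 LD3_c17))))
theorem f598748 : Led Lsl_at (LP (LK LD1_c11 LD2_c32 LD3_c17)) = (LP (LK LD1_c5 LD2_c53 LD3_c6)) :=
  Lre_a IH (LK LD1_c11 LD2_c32 LD3_c17) (LK LD1_c5 LD2_c53 LD3_c6) Lrfl Lrfl
theorem f598749 : Led Lsl_df (LP (LK LD1_c11 LD2_c31 LD3_c40)) = (LP (LK LD1_c5 LD2_c53 LD3_c6)) :=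
  Lgr Lrot18 (Lpe (K55.f598732 IH) (Lpr_dt (f598746 IH) (Lpr_at (f598748 IH) (Lpn (LP (LK LD1_c5 LD2_c53 LD3_c6))))))
theorem f598742 : Led Lsl_bt (LP (LK LD1_c11 LD2_c31 LD3_c40)) = (LP (LK LD1_c5 LD2_c52 LD3_c37)) :=
  Lre_b IH (LK LD1_c11 LD2_c31 LD3_c40) (LK LD1_c5 LD2_c52 LD3_c37) Lrfl Lrfl
theorem f598751 : Led Lsl_bt (LP (LK LD1_c2 LD2_c52 LD3_c51)) = (LP (LK LD1_c5 LD2_c53 LD3_c6)) :=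
  Lre_b IH (LK LD1_c2 LD2_c52 LD3_c51) (LK LD1_c5 LD2_c53 LD3_c6) Lrfl Lrfl
theorem f598752 : Led Lsl_dt (LP (LK LD1_c5 LD2_c52 LD3_c37)) = (LP (LK LD1_c2 LD2_c52 LD3_c51)) :=
  Lgr Lrot79 (Lpe (f598742 IH) (Lpr_df (f598749 IH) (Lpe (f598751 IH) (Lpn (LP (LK LD1_c2 LD2_c52 LD3_c51))))))
theorem f598760 : Led Lsl_df (LP (LK LD1_c5 LD2_c52 LD3_c37)) = (LP (LK LD1_c2 LD2_c52 LD3_c51)) :=
  Lgr Lrot38 (Lpr_dt (f598752 IH) (Lpn (LP (LK LD1_c2 LD2_c52 LD3_c51))))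
theorem f151858 : Led Lsl_et (LP (LK LD1_c2 LD2_c52 LD3_c51)) = (LP (LK LD1_c1 LD2_c22 LD3_c29)) :=
  Lre_e IH (LK LD1_c2 LD2_c52 LD3_c51) (LK LD1_c1 LD2_c22 LD3_c29) Lrfl Lrfl
theorem f500327 : Led Lsl_et (LP (LK LD1_c6 LD2_c47 LD3_c30)) = (LP (LK LD1_c3 LD2_c21 LD3_c54)) :=
  Lre_e IH (LK LD1_c6 LD2_c47 LD3_c30) (LK LD1_c3 LD2_c21 LD3_c54) Lrfl Lrfl
theorem f454272 : Led Lsl_dt (LP (LK LD1_c6 LD2_c47 LD3_c30)) = (LP (LK LD1_c3 LD2_c21 LD3_c53)) :=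
  Lre_d IH (LK LD1_c6 LD2_c47 LD3_c30) (LK LD1_c3 LD2_c21 LD3_c53) Lrfl Lrfl
theorem f598764 : Led Lsl_gt (LP (LK LD1_c5 LD2_c52 LD3_c37)) = (LP (LK LD1_c3 LD2_c21 LD3_c53)) :=
  Lgr Lrot112 (Lpr_df (f598760 IH) (Lpr_et (f151858 IH) (Lpe (K12.f26579 IH) (Lpe (K64.f211759 IH) (Lpr_dt (K64.f22514 IH) (Lpe (K24.f22528 IH) (Lpr_df (K64.f500335 IH) (Lpe (K64.f500336 IH) (Lpe (f500327 IH) (Lpr_dt (f454272 IH) (Lpn (LP (LK LD1_c3 LD2_c21 LD3_c53)))))))))))))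
theorem f653456 : Led Lsl_gt (LP (LK LD1_c3 LD2_c21 LD3_c53)) = v6448 :=
  Lrfl
theorem f716213 : Led Lsl_at v13922 = v6448 :=
  Lgr Lrot26 (Lpr_ff (f716211 IH) (Lpr_gt (f598764 IH) (Lpr_gt (f653456 IH) (Lpn v6448))))
theorem f537747 : Led Lsl_et (LP (LK LD1_c5 LD2_c52 LD3_c37)) = (LP (LK LD1_c2 LD2_c52 LD3_c34)) :=
  Lre_e IH (LK LD1_c5 LD2_c52 LD3_c37) (LK LD1_c2 LD2_c52 LD3_c34) Lrfl Lrfl
theorem f701095 : Led Lsl_af (LP (LK LD1_c5 LD2_c52 LD3_c37)) = v13098 :=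
  Lgr Lrot50 (Lpr_et (f537747 IH) (Lpq (K40.f537736 IH) (Lpe (K55.f501228 IH) (Lpr_et (f701094 IH) (Lpn v13098)))))
theorem f716215 : Led Lsl_ff v13098 = v6448 :=
  Lgr Lrot30 (Lpe (f701095 IH) (Lpe (f716211 IH) (Lpr_at (f716213 IH) (Lpn v6448))))
theorem f716216 : Led Lsl_ft v13098 = v6448 :=
  Lgr Lrot48 (Lpr_ff (f716215 IH) (Lpn v6448))
def v16619 : LQ := Led Lsl_et (LP (LK LD1_c6 LD2_c3 LD3_c30))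
theorem f750757 : Led Lsl_et (LP (LK LD1_c6 LD2_c3 LD3_c30)) = v16619 :=
  Lrfl
theorem f750759 : Led Lsl_cf v13098 = v16619 :=
  Lgr Lrot39 (Lpe (f701097 IH) (Lpr_ct (K11.f176720 IH) (Lpr_et (f750757 IH) (Lpn v16619))))
theorem f832726 : Led Lsl_ff v16619 = v26234 :=
  Lgr Lrot23 (Lpe (f750759 IH) (Lpr_ft (f716216 IH) (Lpr_ct (f832724 IH) (Lpn v26234))))
theorem f548252 : Led Lsl_bt (LP (LK LD1_c5 LD2_c52 LD3_c39)) = (LP (LK LD1_c11 LD2_c31 LD3_c43)) :=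
  Lre_b IH (LK LD1_c5 LD2_c52 LD3_c39) (LK LD1_c11 LD2_c31 LD3_c43) Lrfl Lrfl
theorem f500771 : Led Lsl_bt (LP (LK LD1_c11 LD2_c43 LD3_c2)) = (LP (LK LD1_c5 LD2_c59 LD3_c16)) :=
  Lre_b IH (LK LD1_c11 LD2_c43 LD3_c2) (LK LD1_c5 LD2_c59 LD3_c16) Lrfl Lrfl
theorem f597407 : Led Lsl_ct (LP (LK LD1_c11 LD2_c31 LD3_c43)) = (LP (LK LD1_c11 LD2_c43 LD3_c2)) :=
  Lgr Lrot83 (Lpe (f548252 IH) (Lpe (K45.f452787 IH) (Lpe (K50.f452732 IH) (Lpr_cf (K50.f596753 IH) (Lpe (f500771 IH) (Lpn (LP (LK LD1_c11 LD2_c43 LD3_c2))))))))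
theorem f596800 : Led Lsl_bt (LP (LK LD1_c5 LD2_c59 LD3_c16)) = (LP (LK LD1_c11 LD2_c43 LD3_c2)) :=
  Lre_b IH (LK LD1_c5 LD2_c59 LD3_c16) (LK LD1_c11 LD2_c43 LD3_c2) Lrfl Lrfl
theorem f428321 : Led Lsl_bt (LP (LK LD1_c20 LD2_c41 LD3_c32)) = (LP (LK LD1_c11 LD2_c41 LD3_c33)) :=
  Lre_b IH (LK LD1_c20 LD2_c41 LD3_c32) (LK LD1_c11 LD2_c41 LD3_c33) Lrfl Lrfl
theorem f596801 : Led Lsl_ft (LP (LK LD1_c11 LD2_c43 LD3_c2)) = (LP (LK LD1_c20 LD2_c41 LD3_c32)) :=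
  Lgr Lrot75 (Lpe (f596800 IH) (Lpr_ff (K50.f596798 IH) (Lpe (f428321 IH) (Lpn (LP (LK LD1_c20 LD2_c41 LD3_c32))))))
theorem f176726 : Led Lsl_bt (LP (LK LD1_c6 LD2_c3 LD3_c30)) = (LP (LK LD1_c11 LD2_c50 LD3_c42)) :=
  Lre_b IH (LK LD1_c6 LD2_c3 LD3_c30) (LK LD1_c11 LD2_c50 LD3_c42) Lrfl Lrfl
theorem f596824 : Led Lsl_ct (LP (LK LD1_c11 LD2_c50 LD3_c42)) = (LP (LK LD1_c20 LD2_c41 LD3_c32)) :=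
  Lgr Lrot83 (Lpe (f176726 IH) (Lpe (K11.f176720 IH) (Lpe (K41.f26703 IH) (Lpr_cf (K50.f596822 IH) (Lpe (f428321 IH) (Lpn (LP (LK LD1_c20 LD2_c41 LD3_c32))))))))
theorem f597294 : Led Lsl_cf (LP (LK LD1_c11 LD2_c50 LD3_c42)) = (LP (LK LD1_c20 LD2_c41 LD3_c32)) :=
  Lgr Lrot11 (Lpr_ct (f596824 IH) (Lpn (LP (LK LD1_c20 LD2_c41 LD3_c32))))
theorem f598658 : Led Lsl_ff (LP (LK LD1_c11 LD2_c31 LD3_c43)) = (LP (LK LD1_c11 LD2_c50 LD3_c42)) :=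
  Lgr Lrot23 (Lpr_ct (f597407 IH) (Lpr_ft (f596801 IH) (Lpe (f597294 IH) (Lpn (LP (LK LD1_c11 LD2_c50 LD3_c42))))))
theorem f598665 : Led Lsl_ft (LP (LK LD1_c11 LD2_c31 LD3_c43)) = (LP (LK LD1_c11 LD2_c50 LD3_c42)) :=
  Lgr Lrot48 (Lpr_ff (f598658 IH) (Lpn (LP (LK LD1_c11 LD2_c50 LD3_c42))))
theorem f175675 : Led Lsl_bt (LP (LK LD1_c11 LD2_c50 LD3_c42)) = (LP (LK LD1_c6 LD2_c3 LD3_c30)) :=
  Lre_b IH (LK LD1_c11 LD2_c50 LD3_c42) (LK LD1_c6 LD2_c3 LD3_c30) Lrfl Lrfl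
theorem f598672 : Led Lsl_ff (LP (LK LD1_c5 LD2_c52 LD3_c39)) = (LP (LK LD1_c6 LD2_c3 LD3_c30)) :=
  Lgr Lrot25 (Lpr_bt (f548252 IH) (Lpr_ft (f598665 IH) (Lpr_bt (f175675 IH) (Lpn (LP (LK LD1_c6 LD2_c3 LD3_c30))))))
theorem f598678 : Led Lsl_at (LP (LK LD1_c5 LD2_c52 LD3_c39)) = (LP (LK LD1_c5 LD2_c49 LD3_c20)) :=
  Lgr Lrot26 (Lpr_ff (f598672 IH) (Lpr_gt (K10.f175389 IH) (Lpr_gt (K10.f177709 IH) (Lpn (LP (LK LD1_c5 LD2_c49 LD3_c20))))))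
theorem f598676 : Led Lsl_ft (LP (LK LD1_c5 LD2_c49 LD3_c20)) = (LP (LK LD1_c5 LD2_c52 LD3_c36)) :=
  Lgr Lrot54 (Lpr_df (K45.f563025 IH) (Lpr_ff (f598672 IH) (Lpe (K40.f563019 IH) (Lpn (LP (LK LD1_c5 LD2_c52 LD3_c36))))))
theorem f598684 : Led Lsl_af (LP (LK LD1_c6 LD2_c3 LD3_c30)) = (LP (LK LD1_c5 LD2_c52 LD3_c36)) :=
  Lgr Lrot45 (Lpe (f598672 IH) (Lpr_at (f598678 IH) (Lpr_ft (f598676 IH) (Lpn (LP (LK LD1_c5 LD2_c52 LD3_c36))))))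
theorem f563022 : Led Lsl_et (LP (LK LD1_c11 LD2_c31 LD3_c42)) = (LP (LK LD1_c5 LD2_c52 LD3_c36)) :=
  Lre_e IH (LK LD1_c11 LD2_c31 LD3_c42) (LK LD1_c5 LD2_c52 LD3_c36) Lrfl Lrfl
theorem f750758 : Led Lsl_af (LP (LK LD1_c11 LD2_c31 LD3_c42)) = v16619 :=
  Lgr Lrot50 (Lpr_et (f563022 IH) (Lpe (f598684 IH) (Lpr_et (f750757 IH) (Lpn v16619))))
def v19702 : LQ := Led Lsl_ft (LP (LK LD1_c6 LD2_c45 LD3_c53))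
theorem f781702 : Led Lsl_ft (LP (LK LD1_c6 LD2_c45 LD3_c53)) = v19702 :=
  Lrfl
theorem f781704 : Led Lsl_ff (LP (LK LD1_c6 LD2_c45 LD3_c53)) = v19702 :=
  Lgr Lrot3 (Lpr_ft (f781702 IH) (Lpn v19702))
theorem f510055 : Led Lsl_at (LP (LK LD1_c6 LD2_c45 LD3_c53)) = (LP (LK LD1_c9 LD2_c31 LD3_c40)) :=
  Lgr Lrot100 (Lpr_af (K50.f510002 IH) (Lpn (LP (LK LD1_c9 LD2_c31 LD3_c40))))
theorem f563031 : Led Lsl_et (LP (LK LD1_c5 LD2_c52 LD3_c36)) = (LP (LK LD1_c11 LD2_c31 LD3_c42)) :=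
  Lre_e IH (LK LD1_c5 LD2_c52 LD3_c36) (LK LD1_c11 LD2_c31 LD3_c42) Lrfl Lrfl
theorem f563032 : Led Lsl_gt (LP (LK LD1_c11 LD2_c31 LD3_c42)) = (LP (LK LD1_c9 LD2_c31 LD3_c40)) :=
  Lgr Lrot131 (Lpe (f563031 IH) (Lpr_dt (K40.f563019 IH) (Lpe (K10.f176724 IH) (Lpe (K10.f175679 IH) (Lpr_gf (K10.f175757 IH) (Lpe (K9.f73937 IH) (Lpr_dt (K2.f73762 IH) (Lpe (K24.f141050 IH) (Lpe (K24.f414133 IH) (Lpr_et (K50.f414148 IH) (Lpn (LP (LK LD1_c9 LD2_c31 LD3_c40)))))))))))))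
theorem f781706 : Led Lsl_gf (LP (LK LD1_c11 LD2_c31 LD3_c42)) = v19702 :=
  Lgr Lrot47 (Lpr_gt (f563032 IH) (Lpe (f510055 IH) (Lpr_ff (f781704 IH) (Lpn v19702))))
theorem f832728 : Led Lsl_gf v19702 = v26234 :=
  Lgr Lrot47 (Lpe (f781706 IH) (Lpr_af (f750758 IH) (Lpr_ff (f832726 IH) (Lpn v26234))))
theorem f781705 : Led Lsl_ct K50.v6368 = v19702 :=
  Lgr Lrot40 (Lpe (K50.f653013 IH) (Lpe (K50.f510058 IH) (Lpr_ff (f781704 IH) (Lpn v19702))))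
def v19691 : LQ := Led Lsl_ft (LP (LK LD1_c6 LD2_c45 LD3_c49))
theorem f781670 : Led Lsl_ft (LP (LK LD1_c6 LD2_c45 LD3_c49)) = v19691 :=
  Lrfl
theorem f781672 : Led Lsl_ff (LP (LK LD1_c6 LD2_c45 LD3_c49)) = v19691 :=
  Lgr Lrot3 (Lpr_ft (f781670 IH) (Lpn v19691))
theorem f510065 : Led Lsl_bt (LP (LK LD1_c6 LD2_c45 LD3_c49)) = (LP (LK LD1_c3 LD2_c20 LD3_c59)) :=
  Lre_b IH (LK LD1_c6 LD2_c45 LD3_c49) (LK LD1_c3 LD2_c20 LD3_c59) Lrfl Lrfl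
theorem f781673 : Led Lsl_bt K50.v6368 = v19691 :=
  Lgr Lrot35 (Lpe (K50.f653013 IH) (Lpe (f510065 IH) (Lpr_ff (f781672 IH) (Lpn v19691))))
theorem f510069 : Led Lsl_at (LP (LK LD1_c6 LD2_c45 LD3_c49)) = (LP (LK LD1_c12 LD2_c55 LD3_c22)) :=
  Lre_a IH (LK LD1_c6 LD2_c45 LD3_c49) (LK LD1_c12 LD2_c55 LD3_c22) Lrfl Lrfl
theorem f781674 : Led Lsl_gf (LP (LK LD1_c17 LD2_c1 LD3_c55)) = v19691 :=
  Lgr Lrot47 (Lpr_gt (K55.f740825 IH) (Lpe (f510069 IH) (Lpr_ff (f781672 IH) (Lpn v19691))))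
theorem f594956 : Led Lsl_bt (LP (LK LD1_c9 LD2_c8 LD3_c60)) = (LP (LK LD1_c17 LD2_c1 LD3_c51)) :=
  Lre_b IH (LK LD1_c9 LD2_c8 LD3_c60) (LK LD1_c17 LD2_c1 LD3_c51) Lrfl Lrfl
theorem f594957 : Led Lsl_dt (LP (LK LD1_c17 LD2_c1 LD3_c55)) = (LP (LK LD1_c9 LD2_c8 LD3_c60)) :=
  Lre_d IH (LK LD1_c17 LD2_c1 LD3_c55) (LK LD1_c9 LD2_c8 LD3_c60) Lrfl Lrfl
theorem f594958 : Led Lsl_bf (LP (LK LD1_c17 LD2_c1 LD3_c55)) = (LP (LK LD1_c11 LD2_c42 LD3_c0)) :=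
  Lgr Lrot93 (Lpr_dt (f594957 IH) (Lpr_bt (f594956 IH) (Lpr_dt (K45.f594949 IH) (Lpn (LP (LK LD1_c11 LD2_c42 LD3_c0))))))
theorem f595158 : Led Lsl_et (LP (LK LD1_c16 LD2_c58 LD3_c55)) = (LP (LK LD1_c9 LD2_c6 LD3_c47)) :=
  Lre_e IH (LK LD1_c16 LD2_c58 LD3_c55) (LK LD1_c9 LD2_c6 LD3_c47) Lrfl Lrfl
theorem f600090 : Led Lsl_ct (LP (LK LD1_c11 LD2_c42 LD3_c0)) = (LP (LK LD1_c16 LD2_c58 LD3_c55)) :=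
  Lgr Lrot15 (Lpe (K45.f594943 IH) (Lpr_cf (K45.f595168 IH) (Lpe (f595158 IH) (Lpn (LP (LK LD1_c16 LD2_c58 LD3_c55))))))
theorem f454275 : Led Lsl_bt (LP (LK LD1_c6 LD2_c47 LD3_c23)) = (LP (LK LD1_c3 LD2_c21 LD3_c53)) :=
  Lre_b IH (LK LD1_c6 LD2_c47 LD3_c23) (LK LD1_c3 LD2_c21 LD3_c53) Lrfl Lrfl
theorem f598766 : Led Lsl_ct (LP (LK LD1_c6 LD2_c47 LD3_c23)) = (LP (LK LD1_c12 LD2_c57 LD3_c50)) :=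
  Lre_c IH (LK LD1_c6 LD2_c47 LD3_c23) (LK LD1_c12 LD2_c57 LD3_c50) Lrfl Lrfl
theorem f832729 : Led Lsl_gt (LP (LK LD1_c16 LD2_c58 LD3_c55)) = (LP (LK LD1_c12 LD2_c57 LD3_c50)) :=
  Lgr Lrot65 (Lpe (f600090 IH) (Lpe (f594958 IH) (Lpr_gf (f781674 IH) (Lpe (f781673 IH) (Lpr_ct (f781705 IH) (Lpr_gf (f832728 IH) (Lpe (f832724 IH) (Lpe (f653456 IH) (Lpe (f454275 IH) (Lpr_ct (f598766 IH) (Lpn (LP (LK LD1_c12 LD2_c57 LD3_c50)))))))))))))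
theorem f832730 : Led Lsl_gt (LP (LK LD1_c16 LD2_c58 LD3_c55)) = (LP (LK LD1_c12 LD2_c57 LD3_c50)) :=
  Leop (Lpe (f832729 IH) (Lpn (LP (LK LD1_c16 LD2_c58 LD3_c55))))
theorem seed_1913 : LEOK LG_g (LK LD1_c16 LD2_c58 LD3_c55) :=
  Leoe_g (LK LD1_c16 LD2_c58 LD3_c55) (f832730 IH)
def v6627 : LQ := Led Lsl_dt (LP (LK LD1_c3 LD2_c24 LD3_c19))
def v26384 : LQ := Led Lsl_gt v6627
theorem f833401 : Led Lsl_gt v6627 = v26384 :=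
  Lrfl
def v5685 : LQ := Led Lsl_gt (LP (LK LD1_c3 LD2_c12 LD3_c2))
def v25639 : LQ := Led Lsl_et v5685
theorem f829673 : Led Lsl_et v5685 = v25639 :=
  Lrfl
theorem f648838 : Led Lsl_gt (LP (LK LD1_c3 LD2_c12 LD3_c2)) = v5685 :=
  Lrfl
theorem f648843 : Led Lsl_bt (LP (LK LD1_c3 LD2_c24 LD3_c21)) = v5685 :=
  Lgr Lrot92 (Lpe (K5.f106377 IH) (Lpe (K5.f83664 IH) (Lpe (K5.f67678 IH) (Lpe (K2.f67425 IH) (Lpr_gt (K5.f67907 IH) (Lpr_ct (K5.f67909 IH) (Lpe (K5.f134029 IH) (Lpe (K5.f126718 IH) (Lpr_bt (K60.f134048 IH) (Lpr_gt (f648838 IH) (Lpn v5685)))))))))))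
theorem f654488 : Led Lsl_dt (LP (LK LD1_c3 LD2_c24 LD3_c19)) = v6627 :=
  Lrfl
theorem f654491 : Led Lsl_ef (LP (LK LD1_c3 LD2_c24 LD3_c21)) = v6627 :=
  Lgr Lrot73 (Lpr_dt (K5.f92263 IH) (Lpr_et (K7.f95187 IH) (Lpr_dt (K2.f83734 IH) (Lpr_et (K5.f83745 IH) (Lpr_dt (f654488 IH) (Lpn v6627))))))
theorem f829675 : Led Lsl_bf v6627 = v25639 :=
  Lgr Lrot96 (Lpe (f654491 IH) (Lpr_bt (f648843 IH) (Lpr_et (f829673 IH) (Lpn v25639))))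
def v4301 : LQ := Led Lsl_bt (LP (LK LD1_c2 LD2_c18 LD3_c37))
theorem f632510 : Led Lsl_bt (LP (LK LD1_c2 LD2_c18 LD3_c37)) = v4301 :=
  Lrfl
theorem f114912 : Led Lsl_ff (LP (LK LD1_c0 LD2_c41 LD3_c15)) = (LP (LK LD1_c1 LD2_c5 LD3_c58)) :=
  Lgr Lrot23 (Lpr_ct (K2.f25109 IH) (Lpr_ft (K4.f77825 IH) (Lpr_ct (K4.f114908 IH) (Lpn (LP (LK LD1_c1 LD2_c5 LD3_c58))))))
theorem f431148 : Led Lsl_et (LP (LK LD1_c1 LD2_c29 LD3_c23)) = (LP (LK LD1_c1 LD2_c30 LD3_c37)) :=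
  Lgr Lrot69 (Lpr_ff (K4.f113903 IH) (Lpe (K3.f77973 IH) (Lpr_ff (f114912 IH) (Lpe (K4.f61240 IH) (Lpr_ff (K11.f431142 IH) (Lpn (LP (LK LD1_c1 LD2_c30 LD3_c37))))))))
theorem f431281 : Led Lsl_et (LP (LK LD1_c3 LD2_c8 LD3_c3)) = (LP (LK LD1_c2 LD2_c21 LD3_c40)) :=
  Lgr Lrot74 (Lpr_bf (K11.f431275 IH) (Lpe (f431148 IH) (Lpr_bf (K3.f86316 IH) (Lpn (LP (LK LD1_c2 LD2_c21 LD3_c40))))))
theorem f431574 : Led Lsl_et (LP (LK LD1_c1 LD2_c8 LD3_c1)) = (LP (LK LD1_c2 LD2_c18 LD3_c37)) :=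
  Lgr Lrot158 (Lpe (K3.f24998 IH) (Lpe (f431281 IH) (Lpr_cf (K11.f431568 IH) (Lpn (LP (LK LD1_c2 LD2_c18 LD3_c37))))))
theorem f632515 : Led Lsl_ef (LP (LK LD1_c2 LD2_c21 LD3_c39)) = v4301 :=
  Lgr Lrot29 (Lpr_bt (K3.f24991 IH) (Lpr_et (f431574 IH) (Lpr_bt (f632510 IH) (Lpn v4301))))
theorem f632514 : Led Lsl_df (LP (LK LD1_c4 LD2_c47 LD3_c36)) = v4301 :=
  Lgr Lrot12 (Lpr_bt (K5.f58137 IH) (Lpr_dt (K11.f431445 IH) (Lpr_bt (f632510 IH) (Lpn v4301))))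
theorem f510453 : Led Lsl_ef (LP (LK LD1_c1 LD2_c38 LD3_c32)) = K50.v2245 :=
  Lgr Lrot88 (Lpr_et (K50.f510449 IH) (Lpn K50.v2245))
theorem f648844 : Led Lsl_dt K50.v2245 = v5685 :=
  Lgr Lrot56 (Lpe (f510453 IH) (Lpr_gt (K3.f67045 IH) (Lpe (K5.f110009 IH) (Lpr_dt (K5.f110010 IH) (Lpr_gt (K5.f131323 IH) (Lpr_df (f632514 IH) (Lpe (f632515 IH) (Lpr_gt (K5.f126618 IH) (Lpr_dt (K11.f79316 IH) (Lpr_gt (f648838 IH) (Lpn v5685)))))))))))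
theorem f156306 : Led Lsl_gf (LP (LK LD1_c3 LD2_c31 LD3_c61)) = (LP (LK LD1_c1 LD2_c43 LD3_c52)) :=
  Lgr Lrot147 (Lpr_ct (K11.f153390 IH) (Lpr_gt (K6.f21127 IH) (Lpe (K5.f21070 IH) (Lpe (K5.f21113 IH) (Lpe (K5.f21114 IH) (Lpr_gf (K5.f134952 IH) (Lpe (K3.f106288 IH) (Lpr_gf (K5.f120889 IH) (Lpr_df (K7.f156299 IH) (Lpn (LP (LK LD1_c1 LD2_c43 LD3_c52))))))))))))
theorem f156316 : Led Lsl_gf (LP (LK LD1_c3 LD2_c1 LD3_c25)) = (LP (LK LD1_c2 LD2_c18 LD3_c16)) :=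
  Lgr Lrot124 (Lpe (K5.f114022 IH) (Lpr_ct (K4.f114010 IH) (Lpr_gt (K11.f155105 IH) (Lpr_cf (K7.f155083 IH) (Lpe (K11.f155089 IH) (Lpr_gt (K7.f143202 IH) (Lpr_ct (K7.f156308 IH) (Lpe (f156306 IH) (Lpr_cf (K7.f153392 IH) (Lpr_bt (K11.f145494 IH) (Lpn (LP (LK LD1_c2 LD2_c18 LD3_c16)))))))))))))
def v5615 : LQ := Led Lsl_gf (LP (LK LD1_c3 LD2_c10 LD3_c59))
theorem f648535 : Led Lsl_gf (LP (LK LD1_c3 LD2_c10 LD3_c59)) = v5615 :=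
  Lrfl
theorem f437857 : Led Lsl_ff (LP (LK LD1_c3 LD2_c10 LD3_c39)) = (LP (LK LD1_c3 LD2_c11 LD3_c0)) :=
  Lgr Lrot3 (Lpr_ft (K6.f143711 IH) (Lpn (LP (LK LD1_c3 LD2_c11 LD3_c0))))
theorem f648536 : Led Lsl_gt (LP (LK LD1_c3 LD2_c11 LD3_c0)) = v5615 :=
  Lgr Lrot5 (Lpe (f437857 IH) (Lpe (K6.f143552 IH) (Lpr_gf (f648535 IH) (Lpn v5615))))
theorem f648848 : Led Lsl_ct v5615 = v5685 :=
  Lgr Lrot151 (Lpe (f648536 IH) (Lpe (K5.f88983 IH) (Lpr_gf (K5.f131375 IH) (Lpe (K11.f131363 IH) (Lpr_gt (K6.f104662 IH) (Lpr_ct (f104666 IH) (Lpe (f156316 IH) (Lpr_ct (K50.f510456 IH) (Lpr_dt (f648844 IH) (Lpn v5685))))))))))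
def v25540 : LQ := Led Lsl_et v5615
theorem f829202 : Led Lsl_et v5615 = v25540 :=
  Lrfl
theorem f829204 : Led Lsl_ef v5615 = v25540 :=
  Lgr Lrot88 (Lpr_et (f829202 IH) (Lpn v25540))
theorem f829676 : Led Lsl_cf v25540 = v25639 :=
  Lgr Lrot39 (Lpe (f829204 IH) (Lpr_ct (f648848 IH) (Lpr_et (f829673 IH) (Lpn v25639))))
theorem f829678 : Led Lsl_ef v5685 = v25639 :=
  Lgr Lrot88 (Lpr_et (f829673 IH) (Lpn v25639))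
theorem f86335 : Led Lsl_dt (LP (LK LD1_c1 LD2_c31 LD3_c56)) = (LP (LK LD1_c3 LD2_c10 LD3_c61)) :=
  Lre_d IH (LK LD1_c1 LD2_c31 LD3_c56) (LK LD1_c3 LD2_c10 LD3_c61) Lrfl Lrfl
def v5184 : LQ := Led Lsl_dt (LP (LK LD1_c3 LD2_c1 LD3_c25))
theorem f646391 : Led Lsl_dt (LP (LK LD1_c3 LD2_c1 LD3_c25)) = v5184 :=
  Lrfl
theorem f79615 : Led Lsl_et (LP (LK LD1_c3 LD2_c1 LD3_c25)) = (LP (LK LD1_c1 LD2_c26 LD3_c41)) :=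
  Lre_e IH (LK LD1_c3 LD2_c1 LD3_c25) (LK LD1_c1 LD2_c26 LD3_c41) Lrfl Lrfl
theorem f646396 : Led Lsl_gt (LP (LK LD1_c3 LD2_c10 LD3_c61)) = v5184 :=
  Lgr Lrot112 (Lpe (f86335 IH) (Lpe (K5.f95781 IH) (Lpe (K5.f124590 IH) (Lpe (K5.f129628 IH) (Lpr_dt (K5.f129622 IH) (Lpe (K5.f115552 IH) (Lpe (K5.f128907 IH) (Lpr_gf (K5.f77978 IH) (Lpe (f79615 IH) (Lpr_dt (f646391 IH) (Lpn v5184)))))))))))
theorem f646393 : Led Lsl_df (LP (LK LD1_c3 LD2_c1 LD3_c25)) = v5184 :=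
  Lgr Lrot38 (Lpr_dt (f646391 IH) (Lpn v5184))
theorem f648841 : Led Lsl_df K50.v2245 = v5685 :=
  Lgr Lrot84 (Lpe (K50.f510456 IH) (Lpr_df (f646393 IH) (Lpe (f646396 IH) (Lpe (f86335 IH) (Lpr_gf (K3.f86333 IH) (Lpe (K3.f24994 IH) (Lpr_gt (K5.f126618 IH) (Lpr_dt (K11.f79316 IH) (Lpr_gt (f648838 IH) (Lpn v5685))))))))))
def v6624 : LQ := Led Lsl_et (LP (LK LD1_c3 LD2_c24 LD3_c18))
theorem f654479 : Led Lsl_et (LP (LK LD1_c3 LD2_c24 LD3_c18)) = v6624 :=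
  Lrfl
theorem f829682 : Led Lsl_dt v6624 = v25639 :=
  Lgr Lrot77 (Lpe (f654479 IH) (Lpe (K3.f82401 IH) (Lpr_ef (f510453 IH) (Lpr_df (f648841 IH) (Lpr_ef (f829678 IH) (Lpn v25639))))))
def v13210 : LQ := Led Lsl_et (LP (LK LD1_c4 LD2_c41 LD3_c44))
theorem f701714 : Led Lsl_et (LP (LK LD1_c4 LD2_c41 LD3_c44)) = v13210 :=
  Lrfl
theorem f654482 : Led Lsl_ef (LP (LK LD1_c3 LD2_c24 LD3_c18)) = v6624 :=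
  Lgr Lrot88 (Lpr_et (f654479 IH) (Lpn v6624))
theorem f701716 : Led Lsl_cf v6624 = v13210 :=
  Lgr Lrot39 (Lpe (f654482 IH) (Lpe (K4.f120787 IH) (Lpr_et (f701714 IH) (Lpn v13210))))
def v6228 : LQ := Led Lsl_gt (LP (LK LD1_c3 LD2_c19 LD3_c16))
theorem f652214 : Led Lsl_gt (LP (LK LD1_c3 LD2_c19 LD3_c16)) = v6228 :=
  Lrfl
theorem f770562 : (LP (LK LD1_c3 LD2_c24 LD3_c19)) = v6228 :=
  Lefun (Lecon (Lfl_gf (K58.f654486 IH)) (K58.f770545 IH).symm) (f652214 IH)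
theorem f654481 : Led Lsl_bf (LP (LK LD1_c3 LD2_c24 LD3_c19)) = v6624 :=
  Lgr Lrot96 (Lpr_et (K5.f83754 IH) (Lpr_bt (K5.f83740 IH) (Lpr_et (f654479 IH) (Lpn v6624))))
theorem f701717 : Led Lsl_ef (LP (LK LD1_c4 LD2_c41 LD3_c44)) = v13210 :=
  Lgr Lrot88 (Lpr_et (f701714 IH) (Lpn v13210))
theorem f701719 : Led Lsl_ct v6624 = v13210 :=
  Lgr Lrot15 (Lpe (f654479 IH) (Lpe (K5.f120791 IH) (Lpr_ef (f701717 IH) (Lpn v13210))))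
theorem f661561 : Led Lsl_bt K58.v5338 = K59.v7150 :=
  Lgr Lrot35 (Lpe (K58.f647161 IH) (Lpr_bf (K5.f115004 IH) (Lpr_ff (K59.f661560 IH) (Lpn K59.v7150))))
theorem f770143 : K59.v7150 = K57.v13263 :=
  Lefun (Lecon (f661561 IH) (K58.f770135 IH)) (K57.f702010 IH)
def v13227 : LQ := Led Lsl_gf (LP (LK LD1_c4 LD2_c41 LD3_c51))
theorem f701787 : Led Lsl_gf (LP (LK LD1_c4 LD2_c41 LD3_c51)) = v13227 :=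
  Lrfl
theorem f770642 : v13210 = v13227 :=
  (Llr Lrot64 (Lpe (f701719 IH) (Lpe (f654481 IH) (Lpqs (f770562 IH) (Lpe (f652214 IH) (Lpe (K58.f509124 IH) (Lpr_ct (K46.f509125 IH) (Lpe (K46.f652154 IH) (Lpr_cf (K57.f702012 IH) (Lpq (f770143 IH) (Lpe (K59.f662261 IH) (Lpq (K59.f769989 IH) (Lpe (K50.f415370 IH) (Lpr_ct (K59.f61095 IH) (Lpr_gf (f701787 IH) (Lpn v13227)))))))))))))))).symm
def v4275 : LQ := Led Lsl_ct (LP (LK LD1_c2 LD2_c18 LD3_c11))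
theorem f632355 : Led Lsl_ct (LP (LK LD1_c2 LD2_c18 LD3_c11)) = v4275 :=
  Lrfl
theorem f701792 : Led Lsl_ft v4275 = K59.v13228 :=
  Lgr Lrot4 (Lpe (f632355 IH) (Lpr_ff (K59.f632345 IH) (Lpr_cf (K59.f701790 IH) (Lpn K59.v13228))))
theorem f701789 : Led Lsl_af (LP (LK LD1_c4 LD2_c41 LD3_c51)) = K59.v13228 :=
  Lgr Lrot0 (Lpr_at (K59.f701788 IH) (Lpn K59.v13228))
theorem f701794 : Led Lsl_gt v4275 = v13227 :=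
  Lgr Lrot5 (Lpr_ft (f701792 IH) (Lpe (f701789 IH) (Lpr_gf (f701787 IH) (Lpn v13227))))
theorem f632265 : Led Lsl_ff (LP (LK LD1_c2 LD2_c17 LD3_c61)) = K59.v4259 :=
  Lgr Lrot3 (Lpr_ft (K59.f632261 IH) (Lpn K59.v4259))
theorem f435538 : Led Lsl_at (LP (LK LD1_c2 LD2_c17 LD3_c61)) = (LP (LK LD1_c1 LD2_c6 LD3_c6)) :=
  Lre_a IH (LK LD1_c2 LD2_c17 LD3_c61) (LK LD1_c1 LD2_c6 LD3_c6) Lrfl Lrfl
theorem f632270 : Led Lsl_gf (LP (LK LD1_c2 LD2_c18 LD3_c11)) = K59.v4259 :=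
  Lgr Lrot47 (Lpr_gt (K59.f61092 IH) (Lpe (f435538 IH) (Lpr_ff (f632265 IH) (Lpn K59.v4259))))
def v23875 : LQ := Led Lsl_ft v4258
theorem f821076 : Led Lsl_ft v4258 = v23875 :=
  Lrfl
theorem f821079 : Led Lsl_df K59.v4259 = v23875 :=
  Lgr Lrot78 (Lpe (f632265 IH) (Lpr_dt (f632253 IH) (Lpr_ft (f821076 IH) (Lpn v23875))))
theorem f821080 : Led Lsl_ff v4258 = v23875 :=
  Lgr Lrot3 (Lpr_ft (f821076 IH) (Lpn v23875))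
theorem f632254 : Led Lsl_af (LP (LK LD1_c2 LD2_c18 LD3_c12)) = v4258 :=
  Lgr Lrot117 (Lpr_dt (f61197 IH) (Lpr_at (K59.f153589 IH) (Lpr_dt (f632253 IH) (Lpn v4258))))
theorem f821084 : Led Lsl_gf K59.v4278 = v23875 :=
  Lgr Lrot47 (Lpe (K59.f632360 IH) (Lpr_af (f632254 IH) (Lpr_ff (f821080 IH) (Lpn v23875))))
def v23903 : LQ := Led Lsl_ct K59.v4278
theorem f821193 : Led Lsl_ct K59.v4278 = v23903 :=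
  Lrfl
theorem f120075 : Led Lsl_dt (LP (LK LD1_c3 LD2_c12 LD3_c2)) = (LP (LK LD1_c1 LD2_c32 LD3_c28)) :=
  Lre_d IH (LK LD1_c3 LD2_c12 LD3_c2) (LK LD1_c1 LD2_c32 LD3_c28) Lrfl Lrfl
theorem f648842 : Led Lsl_cf v5615 = v5685 :=
  Lgr Lrot169 (Lpe (f648535 IH) (Lpr_ct (K6.f108841 IH) (Lpe (K6.f79147 IH) (Lpe (K4.f82503 IH) (Lpr_gf (K4.f108838 IH) (Lpe (K3.f64521 IH) (Lpe (K5.f133681 IH) (Lpe (f120075 IH) (Lpr_gt (f648838 IH) (Lpn v5685))))))))))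
theorem f829681 : Led Lsl_ct v25540 = v25639 :=
  Lgr Lrot15 (Lpe (f829202 IH) (Lpr_cf (f648842 IH) (Lpr_ef (f829678 IH) (Lpn v25639))))
theorem f829683 : Led Lsl_gt v23903 = v25540 :=
  Lgr Lrot187 (Lpe (f821193 IH) (Lpr_gf (f821084 IH) (Lpe (f821079 IH) (Lpe (f632270 IH) (Lpr_ct (f632355 IH) (Lpr_gt (f701794 IH) (Lpq (f770642 IH) (Lpe (f701716 IH) (Lpr_dt (f829682 IH) (Lpe (f829681 IH) (Lpn v25540)))))))))))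
theorem f153588 : Led Lsl_at (LP (LK LD1_c1 LD2_c29 LD3_c54)) = (LP (LK LD1_c0 LD2_c41 LD3_c39)) :=
  Lre_a IH (LK LD1_c1 LD2_c29 LD3_c54) (LK LD1_c0 LD2_c41 LD3_c39) Lrfl Lrfl
theorem f153590 : Led Lsl_bf (LP (LK LD1_c1 LD2_c29 LD3_c54)) = (LP (LK LD1_c2 LD2_c17 LD3_c61)) :=
  Lgr Lrot81 (Lpr_at (f153588 IH) (Lpr_bt (K46.f153587 IH) (Lpr_at (K7.f153576 IH) (Lpr_bt (K50.f61091 IH) (Lpr_at (K59.f153589 IH) (Lpn (LP (LK LD1_c2 LD2_c17 LD3_c61))))))))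
theorem f435533 : Led Lsl_bt (LP (LK LD1_c1 LD2_c29 LD3_c54)) = (LP (LK LD1_c2 LD2_c17 LD3_c61)) :=
  Lgr Lrot127 (Lpr_bf (f153590 IH) (Lpn (LP (LK LD1_c2 LD2_c17 LD3_c61))))
theorem f155499 : Led Lsl_dt (LP (LK LD1_c3 LD2_c7 LD3_c22)) = (LP (LK LD1_c1 LD2_c29 LD3_c54)) :=
  Lre_d IH (LK LD1_c3 LD2_c7 LD3_c22) (LK LD1_c1 LD2_c29 LD3_c54) Lrfl Lrfl
theorem f632255 : Led Lsl_bf (LP (LK LD1_c3 LD2_c7 LD3_c22)) = v4258 :=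
  Lgr Lrot93 (Lpr_dt (f155499 IH) (Lpr_bt (f435533 IH) (Lpr_dt (f632253 IH) (Lpn v4258))))
theorem f821082 : Led Lsl_bt K59.v5402 = v23875 :=
  Lgr Lrot35 (Lpe (K59.f647387 IH) (Lpr_bf (f632255 IH) (Lpr_ff (f821080 IH) (Lpn v23875))))
def v25259 : LQ := Led Lsl_gt v5401
theorem f827778 : Led Lsl_gt v5401 = v25259 :=
  Lrfl
def v1849 : LQ := Led Lsl_ct (LP (LK LD1_c1 LD2_c29 LD3_c57))
theorem f504563 : Led Lsl_ct (LP (LK LD1_c1 LD2_c29 LD3_c57)) = v1849 :=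
  Lrfl
theorem f504565 : Led Lsl_cf (LP (LK LD1_c1 LD2_c29 LD3_c57)) = v1849 :=
  Lgr Lrot11 (Lpr_ct (f504563 IH) (Lpn v1849))
theorem f647384 : Led Lsl_ef v1849 = v5401 :=
  Lgr Lrot28 (Lpe (f504565 IH) (Lpr_et (K59.f152520 IH) (Lpr_ct (f647381 IH) (Lpn v5401))))
theorem f104632 : Led Lsl_at (LP (LK LD1_c0 LD2_c41 LD3_c42)) = (LP (LK LD1_c1 LD2_c29 LD3_c57)) :=
  Lre_a IH (LK LD1_c0 LD2_c41 LD3_c42) (LK LD1_c1 LD2_c29 LD3_c57) Lrfl Lrfl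
theorem f67090 : Led Lsl_ct (LP (LK LD1_c1 LD2_c30 LD3_c18)) = (LP (LK LD1_c0 LD2_c41 LD3_c42)) :=
  Lre_c IH (LK LD1_c1 LD2_c30 LD3_c18) (LK LD1_c0 LD2_c41 LD3_c42) Lrfl Lrfl
theorem f504564 : Led Lsl_af (LP (LK LD1_c1 LD2_c30 LD3_c18)) = v1849 :=
  Lgr Lrot68 (Lpr_ct (f67090 IH) (Lpr_at (f104632 IH) (Lpr_ct (f504563 IH) (Lpn v1849))))
theorem f504609 : Led Lsl_ef (LP (LK LD1_c1 LD2_c30 LD3_c18)) = v1859 :=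
  Lgr Lrot28 (Lpr_ct (f67090 IH) (Lpr_et (K35.f209652 IH) (Lpr_ct (f504607 IH) (Lpn v1859))))
theorem f504613 : Led Lsl_et (LP (LK LD1_c1 LD2_c30 LD3_c18)) = v1859 :=
  Lgr Lrot87 (Lpr_ef (f504609 IH) (Lpn v1859))
theorem f647385 : Led Lsl_at v1859 = v5401 :=
  Lgr Lrot80 (Lpe (f504613 IH) (Lpr_af (f504564 IH) (Lpr_ef (f647384 IH) (Lpn v5401))))
def v8155 : LQ := Led Lsl_ft v1859
theorem f670194 : Led Lsl_ft v1859 = v8155 :=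
  Lrfl
theorem f670196 : Led Lsl_ff v1859 = v8155 :=
  Lgr Lrot3 (Lpr_ft (f670194 IH) (Lpn v8155))
theorem f827790 : Led Lsl_af v8155 = v25263 :=
  Lgr Lrot45 (Lpe (f670196 IH) (Lpr_at (f647385 IH) (Lpr_ft (f827789 IH) (Lpn v25263))))
theorem f827793 : Led Lsl_gt v25259 = v8155 :=
  Lgr Lrot46 (Lpe (f827778 IH) (Lpr_ft (f827789 IH) (Lpe (f827790 IH) (Lpn v8155))))
theorem f670195 : Led Lsl_cf K59.v1860 = v8155 :=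
  Lgr Lrot108 (Lpe (K59.f504617 IH) (Lpr_ct (f504607 IH) (Lpr_ft (f670194 IH) (Lpn v8155))))
def v17991 : LQ := Led Lsl_dt (LP (LK LD1_c6 LD2_c25 LD3_c38))
theorem f764558 : Led Lsl_dt (LP (LK LD1_c6 LD2_c25 LD3_c38)) = v17991 :=
  Lrfl
theorem f764561 : Led Lsl_df (LP (LK LD1_c6 LD2_c25 LD3_c38)) = v17991 :=
  Lgr Lrot38 (Lpr_dt (f764558 IH) (Lpn v17991))
theorem f769270 : Led Lsl_ft (LP (LK LD1_c6 LD2_c37 LD3_c34)) = v13815 :=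
  Lgr Lrot48 (Lpr_ff (f769267 IH) (Lpn v13815))
theorem f705043 : Led Lsl_bf (LP (LK LD1_c4 LD2_c48 LD3_c22)) = v13815 :=
  Lgr Lrot24 (Lpr_bt (f705042 IH) (Lpn v13815))
theorem f84492 : Led Lsl_dt (LP (LK LD1_c4 LD2_c48 LD3_c22)) = (LP (LK LD1_c2 LD2_c22 LD3_c4)) :=
  Lre_d IH (LK LD1_c4 LD2_c48 LD3_c22) (LK LD1_c2 LD2_c22 LD3_c4) Lrfl Lrfl
theorem f675085 : Led Lsl_ff (LP (LK LD1_c4 LD2_c48 LD3_c22)) = (LP (LK LD1_c6 LD2_c42 LD3_c41)) :=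
  Lgr Lrot19 (Lpr_dt (f84492 IH) (Lpr_ft (K49.f634071 IH) (Lpqs (K49.f675078 IH) (Lpe (K49.f432222 IH) (Lpn (LP (LK LD1_c6 LD2_c42 LD3_c41)))))))
theorem f675089 : Led Lsl_ft (LP (LK LD1_c4 LD2_c48 LD3_c22)) = (LP (LK LD1_c6 LD2_c42 LD3_c41)) :=
  Lgr Lrot48 (Lpr_ff (f675085 IH) (Lpn (LP (LK LD1_c6 LD2_c42 LD3_c41))))
theorem f769271 : Led Lsl_bf (LP (LK LD1_c6 LD2_c37 LD3_c34)) = (LP (LK LD1_c6 LD2_c42 LD3_c41)) :=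
  Lgr Lrot61 (Lpr_ft (f769270 IH) (Lpe (f705043 IH) (Lpr_ft (f675089 IH) (Lpn (LP (LK LD1_c6 LD2_c42 LD3_c41))))))
def v6236 : LQ := Led Lsl_bt (LP (LK LD1_c3 LD2_c19 LD3_c19))
theorem f652243 : Led Lsl_bt (LP (LK LD1_c3 LD2_c19 LD3_c19)) = v6236 :=
  Lrfl
theorem f652244 : Led Lsl_bf (LP (LK LD1_c3 LD2_c19 LD3_c19)) = v6236 :=
  Lgr Lrot24 (Lpr_bt (f652243 IH) (Lpn v6236))
theorem f769273 : Led Lsl_et (LP (LK LD1_c6 LD2_c37 LD3_c34)) = v6236 :=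
  Lgr Lrot74 (Lpr_bf (f769271 IH) (Lpe (K49.f432224 IH) (Lpr_bf (f652244 IH) (Lpn v6236))))
def v5189 : LQ := Led Lsl_gt (LP (LK LD1_c3 LD2_c1 LD3_c40))
theorem f646425 : Led Lsl_gt (LP (LK LD1_c3 LD2_c1 LD3_c40)) = v5189 :=
  Lrfl
theorem f431049 : Led Lsl_df (LP (LK LD1_c2 LD2_c18 LD3_c0)) = (LP (LK LD1_c1 LD2_c31 LD3_c58)) :=
  Lgr Lrot12 (Lpe (K11.f430902 IH) (Lpr_dt (K11.f430977 IH) (Lpr_bt (K7.f152800 IH) (Lpn (LP (LK LD1_c1 LD2_c31 LD3_c58))))))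
theorem f646427 : Led Lsl_df (LP (LK LD1_c4 LD2_c41 LD3_c42)) = v5189 :=
  Lgr Lrot84 (Lpe (K11.f104637 IH) (Lpr_df (f431049 IH) (Lpe (K7.f25004 IH) (Lpe (K50.f25007 IH) (Lpe (K3.f82461 IH) (Lpe (K3.f82463 IH) (Lpr_gt (K4.f121374 IH) (Lpr_dt (K1.f61957 IH) (Lpr_gt (f646425 IH) (Lpn v5189))))))))))
def v5567 : LQ := Led Lsl_dt (LP (LK LD1_c3 LD2_c10 LD3_c32))
theorem f648283 : Led Lsl_dt (LP (LK LD1_c3 LD2_c10 LD3_c32)) = v5567 :=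
  Lrfl
theorem f648286 : Led Lsl_df (LP (LK LD1_c3 LD2_c10 LD3_c32)) = v5567 :=
  Lgr Lrot38 (Lpr_dt (f648283 IH) (Lpn v5567))
theorem f764562 : Led Lsl_ef v5567 = v17991 :=
  Lgr Lrot73 (Lpe (f648286 IH) (Lpr_et (K5.f125470 IH) (Lpr_dt (K5.f125511 IH) (Lpr_et (K59.f125504 IH) (Lpr_dt (f764558 IH) (Lpn v17991))))))
theorem f764565 : Led Lsl_et v5567 = v17991 :=
  Lgr Lrot87 (Lpr_ef (f764562 IH) (Lpn v17991))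
theorem f769275 : Led Lsl_gt v17991 = v6236 :=
  Lgr Lrot131 (Lpe (f764565 IH) (Lpe (f648286 IH) (Lpr_gf (K11.f152868 IH) (Lpr_df (f646427 IH) (Lpe (f646425 IH) (Lpr_ef (K1.f61969 IH) (Lpr_dt (K1.f61959 IH) (Lpe (K58.f61964 IH) (Lpe (f61978 IH) (Lpr_et (f769273 IH) (Lpn v6236)))))))))))
theorem f827794 : Led Lsl_cf v25259 = v6236 :=
  Lgr Lrot169 (Lpr_gt (f827793 IH) (Lpe (f670195 IH) (Lpe (K60.f504619 IH) (Lpe (K60.f153598 IH) (Lpe (K57.f153600 IH) (Lpr_cf (K57.f500051 IH) (Lpr_gf (K57.f652114 IH) (Lpq (K59.f771868 IH) (Lpr_df (f764561 IH) (Lpr_gt (f769275 IH) (Lpn v6236)))))))))))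
theorem f779596 : Led Lsl_ff v6236 = v19409 :=
  Lgr Lrot25 (Lpe (f652244 IH) (Lpr_ft (K49.f652246 IH) (Lpq (K49.f675047 IH) (Lpr_bt (f779593 IH) (Lpn v19409)))))
theorem f779601 : Led Lsl_ct v8153 = v19409 :=
  Lgr Lrot59 (Lpr_cf (f779600 IH) (Lpn v19409))
theorem f827797 : Led Lsl_ft v25259 = v8153 :=
  Lgr Lrot4 (Lpr_cf (f827794 IH) (Lpr_ff (f779596 IH) (Lpe (f779601 IH) (Lpn v8153))))
def v25260 : LQ := Led Lsl_gf v5401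
theorem f827779 : Led Lsl_gf v5401 = v25260 :=
  Lrfl
theorem f827780 : Led Lsl_gt v8155 = v25260 :=
  Lgr Lrot5 (Lpe (f670196 IH) (Lpr_at (f647385 IH) (Lpr_gf (f827779 IH) (Lpn v25260))))
theorem f827799 : Led Lsl_af v25260 = v8153 :=
  Lgr Lrot31 (Lpe (f827780 IH) (Lpe (f827793 IH) (Lpr_ft (f827797 IH) (Lpn v8153))))
theorem f827800 : Led Lsl_at v25260 = v8153 :=
  Lgr Lrot100 (Lpr_af (f827799 IH) (Lpn v8153))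
theorem f827798 : Led Lsl_ff v25259 = v8153 :=
  Lgr Lrot3 (Lpr_ft (f827797 IH) (Lpn v8153))
def v8152 : LQ := Led Lsl_gt v1859
theorem f670190 : Led Lsl_gt v1859 = v8152 :=
  Lrfl
theorem f827801 : Led Lsl_at v25259 = v8152 :=
  Lgr Lrot26 (Lpr_ff (f827798 IH) (Lpe (f670191 IH) (Lpr_gt (f670190 IH) (Lpn v8152))))
theorem f827803 : Led Lsl_ff v25260 = v8152 :=
  Lgr Lrot30 (Lpr_at (f827800 IH) (Lpe (f827798 IH) (Lpr_at (f827801 IH) (Lpn v8152))))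
theorem f827809 : Led Lsl_gt v8152 = v25263 :=
  Lgr Lrot5 (Lpe (f827803 IH) (Lpr_at (f827800 IH) (Lpr_gf (f827808 IH) (Lpn v25263))))
def v5991 : LQ := Led Lsl_dt (LP (LK LD1_c3 LD2_c15 LD3_c58))
def v25877 : LQ := Led Lsl_gt v5991
theorem f830944 : Led Lsl_gt v5991 = v25877 :=
  Lrfl
theorem f650412 : Led Lsl_dt (LP (LK LD1_c3 LD2_c15 LD3_c58)) = v5991 :=
  Lrfl
theorem f650414 : Led Lsl_df (LP (LK LD1_c3 LD2_c15 LD3_c58)) = v5991 :=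
  Lgr Lrot38 (Lpr_dt (f650412 IH) (Lpn v5991))
def v5989 : LQ := Led Lsl_gt (LP (LK LD1_c3 LD2_c15 LD3_c58))
theorem f650410 : Led Lsl_gt (LP (LK LD1_c3 LD2_c15 LD3_c58)) = v5989 :=
  Lrfl
theorem f771753 : (LP (LK LD1_c6 LD2_c20 LD3_c29)) = v5989 :=
  Lefun (Lecon (Lfl_gf (K59.f760912 IH)) (K59.f771665 IH)) (f650410 IH)
theorem f632275 : Led Lsl_gt (LP (LK LD1_c3 LD2_c7 LD3_c48)) = (LP (LK LD1_c6 LD2_c19 LD3_c42)) :=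
  Lre_g IH (LK LD1_c3 LD2_c7 LD3_c48) (LK LD1_c6 LD2_c19 LD3_c42) Lrfl Lrfl
theorem f504610 : Led Lsl_ct (LP (LK LD1_c6 LD2_c19 LD3_c42)) = (LP (LK LD1_c3 LD2_c7 LD3_c23)) :=
  Lre_c IH (LK LD1_c6 LD2_c19 LD3_c42) (LK LD1_c3 LD2_c7 LD3_c23) Lrfl Lrfl
theorem f435535 : Led Lsl_ft (LP (LK LD1_c1 LD2_c29 LD3_c54)) = (LP (LK LD1_c3 LD2_c7 LD3_c23)) :=
  Lre_f IH (LK LD1_c1 LD2_c29 LD3_c54) (LK LD1_c3 LD2_c7 LD3_c23) Lrfl Lrfl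
theorem f647393 : Led Lsl_dt (LP (LK LD1_c3 LD2_c7 LD3_c23)) = K59.v5402 :=
  Lgr Lrot60 (Lpe (f435535 IH) (Lpe (f155499 IH) (Lpr_ff (f647390 IH) (Lpn K59.v5402))))
theorem f827791 : Led Lsl_cf K59.v5402 = v25263 :=
  Lgr Lrot108 (Lpe (f647390 IH) (Lpr_ct (f647381 IH) (Lpr_ft (f827789 IH) (Lpn v25263))))
theorem f830946 : Led Lsl_cf v8152 = v25877 :=
  Lgr Lrot169 (Lpr_gt (f827809 IH) (Lpe (f827791 IH) (Lpe (f647393 IH) (Lpe (f504610 IH) (Lpe (f632275 IH) (Lpe (K57.f506239 IH) (Lpqs (f771753 IH) (Lpe (f650410 IH) (Lpr_df (f650414 IH) (Lpr_gt (f830944 IH) (Lpn v25877)))))))))))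
theorem f833403 : Led Lsl_bt v25877 = v26384 :=
  Lgr Lrot92 (Lpe (f830946 IH) (Lpr_gt (f827809 IH) (Lpe (f827807 IH) (Lpr_bt (f821082 IH) (Lpe (f821084 IH) (Lpr_ct (f821193 IH) (Lpr_gt (f829683 IH) (Lpr_cf (f829676 IH) (Lpe (f829675 IH) (Lpr_gt (f833401 IH) (Lpn v26384)))))))))))
def v17792 : LQ := Led Lsl_gf (LP (LK LD1_c6 LD2_c22 LD3_c16))
theorem f762185 : Led Lsl_gf (LP (LK LD1_c6 LD2_c22 LD3_c16)) = v17792 :=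
  Lrfl
theorem f416964 : Led Lsl_bt (LP (LK LD1_c1 LD2_c36 LD3_c11)) = (LP (LK LD1_c3 LD2_c19 LD3_c34)) :=
  Lre_b IH (LK LD1_c1 LD2_c36 LD3_c11) (LK LD1_c3 LD2_c19 LD3_c34) Lrfl Lrfl
def v13569 : LQ := Led Lsl_ft (LP (LK LD1_c4 LD2_c45 LD3_c32))
theorem f703716 : Led Lsl_ft (LP (LK LD1_c4 LD2_c45 LD3_c32)) = v13569 :=
  Lrfl
theorem f703717 : Led Lsl_bf (LP (LK LD1_c4 LD2_c45 LD3_c58)) = v13569 :=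
  Lgr Lrot61 (Lpr_ft (K58.f78234 IH) (Lpr_bt (K57.f78212 IH) (Lpr_ft (f703716 IH) (Lpn v13569))))
theorem f775211 : Led Lsl_cf v17792 = v13569 :=
  Lgr Lrot160 (Lpe (f762185 IH) (Lpe (K59.f416994 IH) (Lpr_bt (K58.f416993 IH) (Lpr_gt (K29.f416969 IH) (Lpr_ct (K11.f153496 IH) (Lpr_gt (K29.f154399 IH) (Lpe (K32.f416967 IH) (Lpr_bt (f416964 IH) (Lpr_gt (K58.f652349 IH) (Lpqs (K58.f771015 IH) (Lpr_bf (f703717 IH) (Lpn v13569))))))))))))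
theorem f833406 : Led Lsl_gf v13569 = v26384 :=
  Lgr Lrot181 (Lpe (f775211 IH) (Lpe (f762185 IH) (Lpe (K59.f416994 IH) (Lpr_bt (K58.f416993 IH) (Lpr_gt (K29.f416969 IH) (Lpe (K59.f154048 IH) (Lpr_ct (f504607 IH) (Lpr_gt (f670190 IH) (Lpr_cf (f830946 IH) (Lpr_bt (f833403 IH) (Lpn v26384)))))))))))
theorem f769658 : Led Lsl_ft K60.v8820 = K60.v10675 :=
  Lgr Lrot48 (Lpr_ff (K60.f769656 IH) (Lpn K60.v10675))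
theorem f685910 : Led Lsl_af K60.v3893 = K60.v11796 :=
  Lgr Lrot68 (Lpe (K60.f627764 IH) (Lpr_at (K59.f627761 IH) (Lpr_ct (K60.f685909 IH) (Lpn K60.v11796))))
theorem f676911 : Led Lsl_ft K60.v3893 = K60.v9622 :=
  Lgr Lrot48 (Lpr_ff (K60.f676910 IH) (Lpn K60.v9622))
theorem f769659 : Led Lsl_af K60.v8820 = K60.v9622 :=
  Lgr Lrot45 (Lpr_ft (f769658 IH) (Lpq (K60.f769618 IH) (Lpe (f685910 IH) (Lpr_ft (f676911 IH) (Lpn K60.v9622)))))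
def v11799 : LQ := Led Lsl_gt K60.v3893
theorem f685923 : Led Lsl_gt K60.v3893 = v11799 :=
  Lrfl
theorem f769661 : Led Lsl_gf K60.v8820 = v11799 :=
  Lgr Lrot76 (Lpr_af (f769659 IH) (Lpe (f676911 IH) (Lpr_gt (f685923 IH) (Lpn v11799))))
def v11800 : LQ := Led Lsl_gf K60.v3893
theorem f685924 : Led Lsl_gf K60.v3893 = v11800 :=
  Lrfl
theorem f769660 : Led Lsl_gt K60.v8820 = v11800 :=
  Lgr Lrot5 (Lpr_ft (f769658 IH) (Lpq (K60.f769618 IH) (Lpe (f685910 IH) (Lpr_gf (f685924 IH) (Lpn v11800)))))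
def v3123 : LQ := Led Lsl_gt K58.v522
theorem f623951 : Led Lsl_gt K58.v522 = v3123 :=
  Lrfl
def v9934 : LQ := Led Lsl_bt v3123
theorem f678116 : Led Lsl_bt v3123 = v9934 :=
  Lrfl
theorem f678117 : Led Lsl_bf v3123 = v9934 :=
  Lgr Lrot24 (Lpr_bt (f678116 IH) (Lpn v9934))
theorem f685925 : Led Lsl_ct v9934 = v11800 :=
  Lgr Lrot64 (Lpe (f678117 IH) (Lpe (f623951 IH) (Lpe (K58.f453764 IH) (Lpr_ct (K35.f180307 IH) (Lpe (K24.f442466 IH) (Lpr_cf (K60.f452343 IH) (Lpe (K29.f452351 IH) (Lpr_bf (K58.f491569 IH) (Lpr_ct (K60.f627763 IH) (Lpr_gf (f685924 IH) (Lpn v11800)))))))))))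
theorem f511351 : Led Lsl_ef (LP (LK LD1_c1 LD2_c39 LD3_c40)) = K60.v2266 :=
  Lgr Lrot88 (Lpr_et (K60.f511349 IH) (Lpn K60.v2266))
theorem f511352 : Led Lsl_ct K60.v590 = K60.v2266 :=
  Lgr Lrot15 (Lpe (K60.f455069 IH) (Lpe (K3.f94780 IH) (Lpr_ef (f511351 IH) (Lpn K60.v2266))))
theorem f770975 : K58.v1287 = v3123 :=
  Lefun (Lecon (Lfl_gf (K60.f668449 IH)) (K60.f770967 IH)) (f623951 IH)
theorem f770980 : v9934 = K60.v590 :=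
  Lefun (Lecon (f678116 IH) (f770975 IH).symm) (Lfl_bf (K60.f494636 IH))
theorem f770993 : v11800 = K60.v2266 :=
  Lefun (Lecon (f685925 IH) (f770980 IH)) (f511352 IH)
def v8104 : LQ := Led Lsl_et K62.v1838
theorem f670011 : Led Lsl_et K62.v1838 = v8104 :=
  Lrfl
theorem f504489 : Led Lsl_at (LP (LK LD1_c1 LD2_c39 LD3_c40)) = K62.v1838 :=
  Lgr Lrot26 (Lpr_ff (K3.f102386 IH) (Lpe (K3.f99091 IH) (Lpr_gt (K62.f504488 IH) (Lpn K62.v1838))))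
theorem f670012 : Led Lsl_af K60.v2266 = v8104 :=
  Lgr Lrot50 (Lpe (f511351 IH) (Lpr_at (f504489 IH) (Lpr_et (f670011 IH) (Lpn v8104))))
theorem f775382 : Led Lsl_ft v11799 = v8104 :=
  Lgr Lrot2 (Lpe (f769661 IH) (Lpr_gt (f769660 IH) (Lpqs (f770993 IH) (Lpr_af (f670012 IH) (Lpn v8104)))))
theorem f670013 : Led Lsl_cf K60.v3225 = v8104 :=
  Lgr Lrot39 (Lpe (K60.f624678 IH) (Lpr_ct (K62.f504492 IH) (Lpr_et (f670011 IH) (Lpn v8104))))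
theorem f775384 : Led Lsl_cf v11799 = K60.v10194 :=
  Lgr Lrot108 (Lpr_ft (f775382 IH) (Lpe (f670013 IH) (Lpr_ft (K60.f679193 IH) (Lpn K60.v10194))))
def v8819 : LQ := Led Lsl_bt K58.v2220
theorem f672399 : Led Lsl_bt K58.v2220 = v8819 :=
  Lrfl
theorem f676900 : Led Lsl_bf K58.v3907 = K59.v9621 :=
  Lgr Lrot81 (Lpe (K58.f627848 IH) (Lpe (K56.f491586 IH) (Lpq (K35.f623409 IH) (Lpe (K35.f535764 IH) (Lpr_bt (K58.f535767 IH) (Lpr_at (K59.f676898 IH) (Lpn K59.v9621)))))))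
theorem f768776 : K58.v3907 = v8819 :=
  Lefun (Lecon (Lfl_bf (f676900 IH)) (K59.f768765 IH)) (f672399 IH)
theorem f676835 : Led Lsl_ff K58.v3907 = K60.v9611 :=
  Lgr Lrot30 (Lpe (K58.f627848 IH) (Lpr_ft (K56.f623433 IH) (Lpr_at (K60.f676832 IH) (Lpn K60.v9611))))
theorem f676837 : Led Lsl_ft K58.v3907 = K60.v9611 :=
  Lgr Lrot48 (Lpr_ff (f676835 IH) (Lpn K60.v9611))
theorem f676833 : Led Lsl_af K56.v2816 = K60.v9611 :=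
  Lgr Lrot0 (Lpr_at (K60.f676832 IH) (Lpn K60.v9611))
def v9610 : LQ := Led Lsl_gf K56.v2816
theorem f676831 : Led Lsl_gf K56.v2816 = v9610 :=
  Lrfl
theorem f676839 : Led Lsl_gt K58.v3907 = v9610 :=
  Lgr Lrot5 (Lpr_ft (f676837 IH) (Lpe (f676833 IH) (Lpr_gf (f676831 IH) (Lpn v9610))))
def v9713 : LQ := Led Lsl_gf K60.v3048
theorem f677290 : Led Lsl_gf K60.v3048 = v9713 :=
  Lrfl
theorem f622644 : Led Lsl_at K58.v1963 = K60.v3048 :=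
  Lgr Lrot80 (Lpe (K58.f506625 IH) (Lpr_af (K60.f453500 IH) (Lpr_ef (K60.f622643 IH) (Lpn K60.v3048))))
theorem f677291 : Led Lsl_gt K58.v8282 = v9713 :=
  Lgr Lrot5 (Lpe (K58.f670647 IH) (Lpr_at (f622644 IH) (Lpr_gf (f677290 IH) (Lpn v9713))))
theorem f770129 : K58.v3907 = v9713 :=
  Lefun (Lecon (Lfl_gf (K58.f676830 IH)) (K58.f770128 IH)) (f677291 IH)
theorem f770131 : K60.v3048 = v9610 :=
  Lefun (Lecon (Lfl_gf (f677290 IH)) (f770129 IH).symm) (f676839 IH)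
theorem f649712 : Led Lsl_ef (LP (LK LD1_c3 LD2_c13 LD3_c53)) = K60.v5831 :=
  Lgr Lrot88 (Lpr_et (K60.f649710 IH) (Lpn K60.v5831))
theorem f649713 : Led Lsl_ct K60.v2538 = K60.v5831 :=
  Lgr Lrot15 (Lpe (K60.f527241 IH) (Lpe (K7.f107227 IH) (Lpr_ef (f649712 IH) (Lpn K60.v5831))))
def v9712 : LQ := Led Lsl_gt K60.v3048
theorem f677289 : Led Lsl_gt K60.v3048 = v9712 :=
  Lrfl
theorem f677301 : Led Lsl_af K58.v8282 = K60.v9715 :=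
  Lgr Lrot45 (Lpe (K58.f670647 IH) (Lpr_at (f622644 IH) (Lpr_ft (K60.f677300 IH) (Lpn K60.v9715))))
theorem f677305 : Led Lsl_gt v9712 = K58.v8282 :=
  Lgr Lrot46 (Lpe (f677289 IH) (Lpr_ft (K60.f677300 IH) (Lpe (f677301 IH) (Lpn K58.v8282))))
theorem f770130 : K56.v2816 = v9712 :=
  Lefun (Lecon (Lfl_gt (K58.f676829 IH)) (K58.f770128 IH)) (Lfl_gt (f677305 IH))
theorem f675012 : Led Lsl_ff K60.v2573 = K60.v9284 :=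
  Lgr Lrot3 (Lpr_ft (K60.f675009 IH) (Lpn K60.v9284))
theorem f675015 : Led Lsl_ct K49.v2575 = K60.v9284 :=
  Lgr Lrot40 (Lpe (K49.f527552 IH) (Lpr_cf (K60.f527549 IH) (Lpr_ff (f675012 IH) (Lpn K60.v9284))))
theorem f770132 : Led Lsl_gf K60.v5831 = K60.v9284 :=
  Lgr Lrot129 (Lpe (f649713 IH) (Lpr_bt (K60.f622645 IH) (Lpr_gt (f677289 IH) (Lpq (f770130 IH) (Lpe (K56.f535752 IH) (Lpr_ct (K56.f535754 IH) (Lpq (K56.f535788 IH) (Lpr_gt (K60.f163611 IH) (Lpr_cf (K24.f206528 IH) (Lpr_bt (K60.f459461 IH) (Lpr_gt (K49.f625406 IH) (Lpq (K49.f675146 IH) (Lpr_ct (f675015 IH) (Lpn K60.v9284))))))))))))))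
theorem f674976 : Led Lsl_cf K49.v2571 = K60.v9272 :=
  Lgr Lrot11 (Lpr_ct (K60.f674974 IH) (Lpn K60.v9272))
theorem f674979 : Led Lsl_at K60.v2573 = K60.v9272 :=
  Lgr Lrot107 (Lpe (K60.f527548 IH) (Lpr_af (K49.f527543 IH) (Lpr_cf (f674976 IH) (Lpn K60.v9272))))
theorem f770133 : Led Lsl_gt K60.v5831 = K60.v9272 :=
  Lgr Lrot46 (Lpr_gf (f770132 IH) (Lpe (f675012 IH) (Lpr_at (f674979 IH) (Lpn K60.v9272))))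
theorem f624676 : Led Lsl_af K60.v590 = K60.v3225 :=
  Lgr Lrot50 (Lpe (K60.f455070 IH) (Lpr_at (K54.f455019 IH) (Lpr_et (K60.f624675 IH) (Lpn K60.v3225))))
theorem f679191 : Led Lsl_at K60.v3234 = K60.v10194 :=
  Lgr Lrot66 (Lpe (K60.f624717 IH) (Lpr_af (f624676 IH) (Lpr_ff (K60.f679190 IH) (Lpn K60.v10194))))
def v3231 : LQ := Led Lsl_gt K60.v590
theorem f624711 : Led Lsl_gt K60.v590 = v3231 :=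
  Lrfl
theorem f679195 : Led Lsl_gt v3231 = K60.v10194 :=
  Lgr Lrot46 (Lpe (f624711 IH) (Lpr_ft (K60.f624717 IH) (Lpr_at (f679191 IH) (Lpn K60.v10194))))
theorem f775390 : K60.v9271 = v3231 :=
  (Llr Lrot130 (Lpe (K60.f674970 IH) (Lpr_ct (K60.f674974 IH) (Lpe (f770133 IH) (Lpe (f649713 IH) (Lpr_bt (K60.f622645 IH) (Lpqs (f770131 IH) (Lpe (f676839 IH) (Lpqs (f768776 IH) (Lpe (f672399 IH) (Lpr_ct (K60.f672401 IH) (Lpr_gf (f769661 IH) (Lpr_cf (f775384 IH) (Lpe (f679195 IH) (Lpn v3231))))))))))))))).symm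
def v10211 : LQ := Led Lsl_et v3231
theorem f679263 : Led Lsl_et v3231 = v10211 :=
  Lrfl
theorem f775407 : Led Lsl_bf K49.v7272 = v10211 :=
  Lgr Lrot96 (Lpe (K49.f664035 IH) (Lpr_bt (K60.f674970 IH) (Lpqs (f775390 IH) (Lpr_et (f679263 IH) (Lpn v10211)))))
def v6238 : LQ := Led Lsl_bt (LP (LK LD1_c3 LD2_c19 LD3_c20))
theorem f652250 : Led Lsl_bt (LP (LK LD1_c3 LD2_c19 LD3_c20)) = v6238 :=
  Lrfl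
theorem f775409 : Led Lsl_dt v6238 = v10211 :=
  Lgr Lrot79 (Lpe (f652250 IH) (Lpr_df (K49.f652254 IH) (Lpq (K49.f675142 IH) (Lpr_bf (f775407 IH) (Lpn v10211)))))
theorem f775410 : Led Lsl_df v6238 = v10211 :=
  Lgr Lrot38 (Lpr_dt (f775409 IH) (Lpn v10211))
theorem f679264 : Led Lsl_ef v3231 = v10211 :=
  Lgr Lrot88 (Lpr_et (f679263 IH) (Lpn v10211))
theorem f775411 : Led Lsl_gt v6238 = v6627 :=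
  Lgr Lrot112 (Lpr_df (f775410 IH) (Lpe (f679264 IH) (Lpe (f624711 IH) (Lpe (K60.f455069 IH) (Lpr_dt (K3.f90887 IH) (Lpe (K3.f13553 IH) (Lpe (K3.f26137 IH) (Lpe (K3.f94924 IH) (Lpe (K5.f83754 IH) (Lpr_dt (f654488 IH) (Lpn v6627)))))))))))
theorem f654492 : Led Lsl_at (LP (LK LD1_c4 LD2_c45 LD3_c32)) = v6627 :=
  Lgr Lrot80 (Lpr_ef (K3.f78216 IH) (Lpr_af (K7.f156221 IH) (Lpr_ef (f654491 IH) (Lpn v6627))))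
theorem f703719 : Led Lsl_ff (LP (LK LD1_c4 LD2_c45 LD3_c32)) = v13569 :=
  Lgr Lrot3 (Lpr_ft (f703716 IH) (Lpn v13569))
theorem f775412 : Led Lsl_gf v6238 = v13569 :=
  Lgr Lrot47 (Lpr_gt (f775411 IH) (Lpe (f654492 IH) (Lpr_ff (f703719 IH) (Lpn v13569))))
def v26068 : LQ := Led Lsl_at v6238
theorem f831878 : Led Lsl_at v6238 = v26068 :=
  Lrfl
theorem f831879 : Led Lsl_af v6238 = v26068 :=
  Lgr Lrot0 (Lpr_at (f831878 IH) (Lpn v26068))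
theorem f833407 : Led Lsl_ff v26068 = v26384 :=
  Lgr Lrot52 (Lpe (f831879 IH) (Lpr_gf (f775412 IH) (Lpr_gf (f833406 IH) (Lpn v26384))))
theorem f833408 : Led Lsl_ft v26068 = v26384 :=
  Lgr Lrot48 (Lpr_ff (f833407 IH) (Lpn v26384))
def v7273 : LQ := Led Lsl_bt (LP (LK LD1_c3 LD2_c43 LD3_c29))
theorem f664037 : Led Lsl_bt (LP (LK LD1_c3 LD2_c43 LD3_c29)) = v7273 :=
  Lrfl
theorem f664038 : Led Lsl_bf (LP (LK LD1_c3 LD2_c43 LD3_c29)) = v7273 :=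
  Lgr Lrot24 (Lpr_bt (f664037 IH) (Lpn v7273))
theorem f779595 : Led Lsl_df v7273 = v19409 :=
  Lgr Lrot12 (Lpe (f664038 IH) (Lpe (K48.f134807 IH) (Lpr_bt (f779593 IH) (Lpn v19409))))
theorem f779598 : Led Lsl_dt v7273 = v19409 :=
  Lgr Lrot42 (Lpr_df (f779595 IH) (Lpn v19409))
theorem f664039 : Led Lsl_ef K60.v2572 = v7273 :=
  Lgr Lrot29 (Lpe (K60.f527547 IH) (Lpr_et (K49.f134814 IH) (Lpr_bt (f664037 IH) (Lpn v7273))))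
def v9275 : LQ := Led Lsl_gf K60.v2572
theorem f674987 : Led Lsl_gf K60.v2572 = v9275 :=
  Lrfl
def v8484 : LQ := Led Lsl_gt K60.v2061
theorem f671371 : Led Lsl_gt K60.v2061 = v8484 :=
  Lrfl
theorem f671381 : Led Lsl_af K60.v3156 = K60.v8487 :=
  Lgr Lrot45 (Lpe (K60.f624072 IH) (Lpr_at (K60.f508642 IH) (Lpr_ft (K60.f671380 IH) (Lpn K60.v8487))))
theorem f671383 : Led Lsl_gt v8484 = K60.v3156 :=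
  Lgr Lrot46 (Lpe (f671371 IH) (Lpr_ft (K60.f671380 IH) (Lpe (f671381 IH) (Lpn K60.v3156))))
theorem f771176 : K60.v2572 = v8484 :=
  Lefun (Lecon (Lfl_gt (K60.f674986 IH)) (K60.f771175 IH)) (Lfl_gt (f671383 IH))
theorem f771177 : K60.v2061 = v9275 :=
  Lefun (Lecon (Lfl_gt (f671371 IH)) (f771176 IH).symm) (f674987 IH)
theorem f118728 : Led Lsl_et (LP (LK LD1_c3 LD2_c15 LD3_c58)) = (LP (LK LD1_c1 LD2_c34 LD3_c44)) :=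
  Lre_e IH (LK LD1_c3 LD2_c15 LD3_c58) (LK LD1_c1 LD2_c34 LD3_c44) Lrfl Lrfl
theorem f779599 : Led Lsl_gf v5991 = v19409 :=
  Lgr Lrot145 (Lpe (f650412 IH) (Lpr_et (f118728 IH) (Lpe (K4.f118730 IH) (Lpr_dt (K3.f26092 IH) (Lpe (K3.f79295 IH) (Lpe (K51.f79286 IH) (Lpr_et (K60.f508639 IH) (Lpqs (f771177 IH) (Lpe (f674987 IH) (Lpr_ef (f664039 IH) (Lpr_dt (f779598 IH) (Lpn v19409))))))))))))
theorem f830945 : Led Lsl_at v6236 = v25877 :=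
  Lgr Lrot26 (Lpr_ff (f779596 IH) (Lpe (f779599 IH) (Lpr_gt (f830944 IH) (Lpn v25877))))
def v13817 : LQ := Led Lsl_bt (LP (LK LD1_c4 LD2_c48 LD3_c24))
theorem f705048 : Led Lsl_bt (LP (LK LD1_c4 LD2_c48 LD3_c24)) = v13817 :=
  Lrfl
theorem f705050 : Led Lsl_df K58.v4473 = v13817 :=
  Lgr Lrot12 (Lpe (K58.f634077 IH) (Lpr_dt (K49.f430532 IH) (Lpr_bt (f705048 IH) (Lpn v13817))))
def v6722 : LQ := Led Lsl_et (LP (LK LD1_c3 LD2_c27 LD3_c51))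
theorem f658047 : Led Lsl_et (LP (LK LD1_c3 LD2_c27 LD3_c51)) = v6722 :=
  Lrfl
theorem f658049 : Led Lsl_df K58.v2332 = v6722 :=
  Lgr Lrot70 (Lpe (K58.f514686 IH) (Lpr_dt (K3.f17661 IH) (Lpe (K4.f90275 IH) (Lpr_dt (K7.f90279 IH) (Lpr_et (f658047 IH) (Lpn v6722))))))
theorem f658050 : Led Lsl_ef (LP (LK LD1_c3 LD2_c27 LD3_c51)) = v6722 :=
  Lgr Lrot88 (Lpr_et (f658047 IH) (Lpn v6722))
theorem f126073 : Led Lsl_af (LP (LK LD1_c3 LD2_c27 LD3_c52)) = (LP (LK LD1_c3 LD2_c31 LD3_c54)) :=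
  Lgr Lrot117 (Lpr_dt (K7.f19174 IH) (Lpr_at (K5.f126069 IH) (Lpr_dt (K7.f83458 IH) (Lpn (LP (LK LD1_c3 LD2_c31 LD3_c54))))))
theorem f430955 : Led Lsl_gf (LP (LK LD1_c6 LD2_c52 LD3_c32)) = (LP (LK LD1_c3 LD2_c27 LD3_c51)) :=
  Lgr Lrot47 (Lpr_gt (K11.f430953 IH) (Lpr_af (f126073 IH) (Lpe (K11.f126081 IH) (Lpn (LP (LK LD1_c3 LD2_c27 LD3_c51))))))
theorem f430938 : Led Lsl_dt (LP (LK LD1_c6 LD2_c52 LD3_c32)) = (LP (LK LD1_c3 LD2_c25 LD3_c7)) :=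
  Lre_d IH (LK LD1_c6 LD2_c52 LD3_c32) (LK LD1_c3 LD2_c25 LD3_c7) Lrfl Lrfl
def v13567 : LQ := Led Lsl_gt (LP (LK LD1_c4 LD2_c45 LD3_c32))
theorem f703714 : Led Lsl_gt (LP (LK LD1_c4 LD2_c45 LD3_c32)) = v13567 :=
  Lrfl
theorem f771067 : Led Lsl_et v13817 = v13567 :=
  Lgr Lrot122 (Lpe (f705050 IH) (Lpqs (K58.f771065 IH) (Lpe (K58.f672939 IH) (Lpr_df (f658049 IH) (Lpe (f658050 IH) (Lpe (f430955 IH) (Lpr_dt (f430938 IH) (Lpr_gt (K11.f430948 IH) (Lpe (K3.f64378 IH) (Lpe (K3.f78216 IH) (Lpr_gt (f703714 IH) (Lpn v13567))))))))))))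
theorem f430533 : Led Lsl_ef (LP (LK LD1_c4 LD2_c48 LD3_c24)) = (LP (LK LD1_c6 LD2_c41 LD3_c61)) :=
  Lgr Lrot88 (Lpr_et (K49.f430527 IH) (Lpn (LP (LK LD1_c6 LD2_c41 LD3_c61))))
theorem f771068 : Led Lsl_bf (LP (LK LD1_c6 LD2_c41 LD3_c61)) = v13567 :=
  Lgr Lrot96 (Lpe (f430533 IH) (Lpr_bt (f705048 IH) (Lpr_et (f771067 IH) (Lpn v13567))))
theorem f833404 : Led Lsl_af v13567 = v26384 :=
  Lgr Lrot36 (Lpe (f771068 IH) (Lpq (K49.f675063 IH) (Lpe (K49.f652238 IH) (Lpr_bt (f652243 IH) (Lpr_at (f830945 IH) (Lpr_bt (f833403 IH) (Lpn v26384)))))))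
def v13568 : LQ := Led Lsl_gf (LP (LK LD1_c4 LD2_c45 LD3_c32))
theorem f703715 : Led Lsl_gf (LP (LK LD1_c4 LD2_c45 LD3_c32)) = v13568 :=
  Lrfl
theorem f833409 : v26068 = v13568 :=
  (Llr Lrot52 (Lpr_ft (f833408 IH) (Lpe (f833404 IH) (Lpe (f703714 IH) (Lpr_gf (f703715 IH) (Lpn v13568)))))).symm
def v26069 : LQ := Led Lsl_ct v6238
theorem f831880 : Led Lsl_ct v6238 = v26069 :=
  Lrfl
theorem f771069 : Led Lsl_ef v13817 = v13567 :=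
  Lgr Lrot88 (Lpr_et (f771067 IH) (Lpn v13567))
theorem f705049 : Led Lsl_bf (LP (LK LD1_c4 LD2_c48 LD3_c24)) = v13817 :=
  Lgr Lrot24 (Lpr_bt (f705048 IH) (Lpn v13817))
theorem f771070 : Led Lsl_bt (LP (LK LD1_c6 LD2_c41 LD3_c61)) = v13567 :=
  Lgr Lrot119 (Lpe (K49.f430527 IH) (Lpr_bf (f705049 IH) (Lpr_ef (f771069 IH) (Lpn v13567))))
theorem f652251 : Led Lsl_bf (LP (LK LD1_c3 LD2_c19 LD3_c20)) = v6238 :=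
  Lgr Lrot24 (Lpr_bt (f652250 IH) (Lpn v6238))
theorem f771071 : Led Lsl_ff v6238 = v13567 :=
  Lgr Lrot25 (Lpe (f652251 IH) (Lpr_ft (K49.f652239 IH) (Lpqs (K49.f675063 IH) (Lpr_bt (f771070 IH) (Lpn v13567)))))
def v20038 : LQ := Led Lsl_gt (LP (LK LD1_c6 LD2_c49 LD3_c57))
theorem f784471 : Led Lsl_gt (LP (LK LD1_c6 LD2_c49 LD3_c57)) = v20038 :=
  Lrfl
theorem f93959 : Led Lsl_ct (LP (LK LD1_c3 LD2_c23 LD3_c17)) = (LP (LK LD1_c6 LD2_c49 LD3_c57)) :=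
  Lre_c IH (LK LD1_c3 LD2_c23 LD3_c17) (LK LD1_c6 LD2_c49 LD3_c57) Lrfl Lrfl
theorem f435702 : Led Lsl_bt (LP (LK LD1_c1 LD2_c30 LD3_c34)) = (LP (LK LD1_c3 LD2_c8 LD3_c51)) :=
  Lre_b IH (LK LD1_c1 LD2_c30 LD3_c34) (LK LD1_c3 LD2_c8 LD3_c51) Lrfl Lrfl
theorem f784472 : Led Lsl_ct v13567 = v20038 :=
  Lgr Lrot63 (Lpe (f771068 IH) (Lpr_gt (K46.f652037 IH) (Lpe (K58.f134827 IH) (Lpr_ct (K32.f135702 IH) (Lpe (K57.f435690 IH) (Lpe (K32.f435680 IH) (Lpr_bt (f435702 IH) (Lpq (K58.f768751 IH) (Lpe (K58.f653865 IH) (Lpr_ct (f93959 IH) (Lpr_gt (f784471 IH) (Lpn v20038))))))))))))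
theorem f784473 : Led Lsl_cf v13567 = v20038 :=
  Lgr Lrot11 (Lpr_ct (f784472 IH) (Lpn v20038))
theorem f831882 : Led Lsl_ff v20038 = v26069 :=
  Lgr Lrot23 (Lpe (f784473 IH) (Lpe (f771071 IH) (Lpr_ct (f831880 IH) (Lpn v26069))))
theorem f831885 : Led Lsl_ft v20038 = v26069 :=
  Lgr Lrot48 (Lpr_ff (f831882 IH) (Lpn v26069))
theorem f78218 : Led Lsl_dt (LP (LK LD1_c4 LD2_c45 LD3_c32)) = (LP (LK LD1_c2 LD2_c20 LD3_c52)) :=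
  Lre_d IH (LK LD1_c4 LD2_c45 LD3_c32) (LK LD1_c2 LD2_c20 LD3_c52) Lrfl Lrfl
def v13561 : LQ := Led Lsl_ct (LP (LK LD1_c4 LD2_c45 LD3_c30))
theorem f703698 : Led Lsl_ct (LP (LK LD1_c4 LD2_c45 LD3_c30)) = v13561 :=
  Lrfl
theorem f770691 : K57.v17730 = v13561 :=
  Lefun (Lecon (K57.f761921 IH) ((K57.f663679 IH).trans (K58.f770687 IH).symm)) (f703698 IH)
theorem f614589 : Led Lsl_ct (LP (LK LD1_c6 LD2_c21 LD3_c49)) = (LP (LK LD1_c3 LD2_c8 LD3_c37)) :=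
  Lre_c IH (LK LD1_c6 LD2_c21 LD3_c49) (LK LD1_c3 LD2_c8 LD3_c37) Lrfl Lrfl
theorem f632414 : Led Lsl_dt (LP (LK LD1_c3 LD2_c8 LD3_c37)) = (LP (LK LD1_c6 LD2_c21 LD3_c50)) :=
  Lre_d IH (LK LD1_c3 LD2_c8 LD3_c37) (LK LD1_c6 LD2_c21 LD3_c50) Lrfl Lrfl
theorem f632417 : Led Lsl_ct (LP (LK LD1_c12 LD2_c17 LD3_c23)) = (LP (LK LD1_c6 LD2_c21 LD3_c50)) :=
  Lre_c IH (LK LD1_c12 LD2_c17 LD3_c23) (LK LD1_c6 LD2_c21 LD3_c50) Lrfl Lrfl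
theorem f784474 : Led Lsl_gf (LP (LK LD1_c12 LD2_c17 LD3_c23)) = v20038 :=
  Lgr Lrot104 (Lpr_ct (f632417 IH) (Lpe (f632414 IH) (Lpe (f614589 IH) (Lpr_gf (K57.f761918 IH) (Lpqs (f770691 IH) (Lpe (f703698 IH) (Lpe (K58.f78219 IH) (Lpe (f78218 IH) (Lpr_gt (f703714 IH) (Lpr_ct (f784472 IH) (Lpn v20038)))))))))))
def v20039 : LQ := Led Lsl_gf (LP (LK LD1_c6 LD2_c49 LD3_c57))
theorem f784475 : Led Lsl_gf (LP (LK LD1_c6 LD2_c49 LD3_c57)) = v20039 :=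
  Lrfl
def v17738 : LQ := Led Lsl_ft (LP (LK LD1_c6 LD2_c21 LD3_c50))
theorem f761967 : Led Lsl_ft (LP (LK LD1_c6 LD2_c21 LD3_c50)) = v17738 :=
  Lrfl
theorem f761970 : Led Lsl_ff (LP (LK LD1_c6 LD2_c21 LD3_c50)) = v17738 :=
  Lgr Lrot3 (Lpr_ft (f761967 IH) (Lpn v17738))
theorem f632423 : Led Lsl_dt (LP (LK LD1_c6 LD2_c21 LD3_c50)) = (LP (LK LD1_c3 LD2_c8 LD3_c37)) :=
  Lre_d IH (LK LD1_c6 LD2_c21 LD3_c50) (LK LD1_c3 LD2_c8 LD3_c37) Lrfl Lrfl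
theorem f761973 : Led Lsl_dt K59.v5496 = v17738 :=
  Lgr Lrot60 (Lpe (K59.f647942 IH) (Lpe (f632423 IH) (Lpr_ff (f761970 IH) (Lpn v17738))))
theorem f771456 : v17738 = (LP (LK LD1_c6 LD2_c27 LD3_c35)) :=
  Lefun (Lecon (f761973 IH) (K59.f771451 IH)) (K59.f90238 IH)
theorem f93984 : Led Lsl_ct (LP (LK LD1_c12 LD2_c26 LD3_c36)) = (LP (LK LD1_c6 LD2_c27 LD3_c35)) :=
  Lre_c IH (LK LD1_c12 LD2_c26 LD3_c36) (LK LD1_c6 LD2_c27 LD3_c35) Lrfl Lrfl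
theorem f632415 : Led Lsl_ct (LP (LK LD1_c6 LD2_c21 LD3_c50)) = (LP (LK LD1_c12 LD2_c17 LD3_c23)) :=
  Lre_c IH (LK LD1_c6 LD2_c21 LD3_c50) (LK LD1_c12 LD2_c17 LD3_c23) Lrfl Lrfl
theorem f775272 : Led Lsl_ff (LP (LK LD1_c12 LD2_c26 LD3_c36)) = (LP (LK LD1_c12 LD2_c17 LD3_c23)) :=
  Lgr Lrot23 (Lpr_ct (f93984 IH) (Lpq (f771456 IH) (Lpe (f761970 IH) (Lpr_ct (f632415 IH) (Lpn (LP (LK LD1_c12 LD2_c17 LD3_c23)))))))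
theorem f784476 : Led Lsl_gt (LP (LK LD1_c12 LD2_c17 LD3_c23)) = v20039 :=
  Lgr Lrot5 (Lpe (f775272 IH) (Lpe (K58.f93955 IH) (Lpr_gf (f784475 IH) (Lpn v20039))))
theorem f831886 : Led Lsl_af v20039 = v26069 :=
  Lgr Lrot31 (Lpe (f784476 IH) (Lpr_gf (f784474 IH) (Lpr_ft (f831885 IH) (Lpn v26069))))
theorem f831888 : Led Lsl_ct v20039 = v26068 :=
  Lgr Lrot111 (Lpr_af (f831886 IH) (Lpe (f831880 IH) (Lpr_af (f831879 IH) (Lpn v26068))))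
theorem f93951 : Led Lsl_dt (LP (LK LD1_c6 LD2_c49 LD3_c57)) = (LP (LK LD1_c13 LD2_c1 LD3_c14)) :=
  Lre_d IH (LK LD1_c6 LD2_c49 LD3_c57) (LK LD1_c13 LD2_c1 LD3_c14) Lrfl Lrfl
theorem f93962 : Led Lsl_gt (LP (LK LD1_c13 LD2_c1 LD3_c14)) = (LP (LK LD1_c22 LD2_c11 LD3_c16)) :=
  Lre_g IH (LK LD1_c13 LD2_c1 LD3_c14) (LK LD1_c22 LD2_c11 LD3_c16) Lrfl Lrfl
theorem f78704 : Led Lsl_dt (LP (LK LD1_c4 LD2_c45 LD3_c30)) = (LP (LK LD1_c9 LD2_c23 LD3_c46)) :=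
  Lre_d IH (LK LD1_c4 LD2_c45 LD3_c30) (LK LD1_c9 LD2_c23 LD3_c46) Lrfl Lrfl
theorem f703701 : Led Lsl_ct (LP (LK LD1_c9 LD2_c23 LD3_c46)) = (LP (LK LD1_c17 LD2_c20 LD3_c40)) :=
  Lre_c IH (LK LD1_c9 LD2_c23 LD3_c46) (LK LD1_c17 LD2_c20 LD3_c40) Lrfl Lrfl
theorem f833410 : Led Lsl_dt (LP (LK LD1_c22 LD2_c11 LD3_c16)) = (LP (LK LD1_c17 LD2_c20 LD3_c40)) :=
  Lgr Lrot113 (Lpe (f93962 IH) (Lpe (f93951 IH) (Lpr_gf (f784475 IH) (Lpr_ct (f831888 IH) (Lpqs (f833409 IH) (Lpe (f703715 IH) (Lpr_dt (f78218 IH) (Lpr_gt (K58.f78219 IH) (Lpr_dt (f78704 IH) (Lpr_ct (f703701 IH) (Lpn (LP (LK LD1_c17 LD2_c20 LD3_c40)))))))))))))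
theorem f833411 : Led Lsl_dt (LP (LK LD1_c22 LD2_c11 LD3_c16)) = (LP (LK LD1_c17 LD2_c20 LD3_c40)) :=
  Leop (Lpe (f833410 IH) (Lpn (LP (LK LD1_c22 LD2_c11 LD3_c16))))
theorem seed_1914 : LEOK LG_d (LK LD1_c22 LD2_c11 LD3_c16) :=
  Leoe_d (LK LD1_c22 LD2_c11 LD3_c16) (f833411 IH)
def v26420 : LQ := Led Lsl_bt K61.v6658
theorem f833585 : Led Lsl_bt K61.v6658 = v26420 :=
  Lrfl
def v21104 : LQ := Led Lsl_ft (LP (LK LD1_c7 LD2_c11 LD3_c33))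
theorem f792208 : Led Lsl_ft (LP (LK LD1_c7 LD2_c11 LD3_c33)) = v21104 :=
  Lrfl
theorem f792209 : Led Lsl_bf K64.v6971 = v21104 :=
  Lgr Lrot61 (Lpe (K64.f659731 IH) (Lpr_bt (K61.f429605 IH) (Lpr_ft (f792208 IH) (Lpn v21104))))
theorem f833587 : Led Lsl_cf v21104 = v26420 :=
  Lgr Lrot97 (Lpe (f792209 IH) (Lpqs (K64.f792110 IH) (Lpe (K64.f673345 IH) (Lpr_bt (K61.f659702 IH) (Lpq (K61.f787453 IH) (Lpe (K61.f673393 IH) (Lpr_bt (f833585 IH) (Lpn v26420))))))))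
theorem f833586 : Led Lsl_bf K61.v6658 = v26420 :=
  Lgr Lrot24 (Lpr_bt (f833585 IH) (Lpn v26420))
theorem f124272 : Led Lsl_bt (LP (LK LD1_c1 LD2_c39 LD3_c7)) = (LP (LK LD1_c3 LD2_c25 LD3_c12)) :=
  Lre_b IH (LK LD1_c1 LD2_c39 LD3_c7) (LK LD1_c3 LD2_c25 LD3_c12) Lrfl Lrfl
theorem f833592 : Led Lsl_gf v21104 = (LP (LK LD1_c22 LD2_c14 LD3_c41)) :=
  Lgr Lrot129 (Lpr_cf (f833587 IH) (Lpe (f833586 IH) (Lpe (K61.f657509 IH) (Lpe (f124272 IH) (Lpr_ct (K5.f12738 IH) (Lpe (K6.f143200 IH) (Lpe (K5.f17717 IH) (Lpr_bt (K29.f17715 IH) (Lpr_gt (K63.f19771 IH) (Lpr_ct (K63.f143203 IH) (Lpn (LP (LK LD1_c22 LD2_c14 LD3_c41)))))))))))))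
theorem f792210 : Led Lsl_ff (LP (LK LD1_c7 LD2_c11 LD3_c33)) = v21104 :=
  Lgr Lrot3 (Lpr_ft (f792208 IH) (Lpn v21104))
theorem f658134 : Led Lsl_bt (LP (LK LD1_c7 LD2_c11 LD3_c33)) = (LP (LK LD1_c3 LD2_c35 LD3_c16)) :=
  Lre_b IH (LK LD1_c7 LD2_c11 LD3_c33) (LK LD1_c3 LD2_c35 LD3_c16) Lrfl Lrfl
theorem f792211 : Led Lsl_bt K64.v6971 = v21104 :=
  Lgr Lrot35 (Lpe (K64.f659728 IH) (Lpe (f658134 IH) (Lpr_ff (f792210 IH) (Lpn v21104))))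
theorem f659730 : Led Lsl_cf K61.v2403 = K64.v6971 :=
  Lgr Lrot108 (Lpe (K61.f519519 IH) (Lpr_ct (K47.f11487 IH) (Lpr_ft (K64.f659728 IH) (Lpn K64.v6971))))
theorem f441755 : Led Lsl_ct (LP (LK LD1_c13 LD2_c27 LD3_c18)) = (LP (LK LD1_c22 LD2_c46 LD3_c57)) :=
  Lre_c IH (LK LD1_c13 LD2_c27 LD3_c18) (LK LD1_c22 LD2_c46 LD3_c57) Lrfl Lrfl
theorem f143212 : Led Lsl_bf (LP (LK LD1_c22 LD2_c14 LD3_c41)) = (LP (LK LD1_c22 LD2_c49 LD3_c3)) :=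
  Lgr Lrot24 (Lpr_bt (K63.f143210 IH) (Lpn (LP (LK LD1_c22 LD2_c49 LD3_c3))))
theorem f833593 : Led Lsl_gt (LP (LK LD1_c22 LD2_c46 LD3_c57)) = (LP (LK LD1_c13 LD2_c46 LD3_c17)) :=
  Lgr Lrot149 (Lpe (f441755 IH) (Lpe (K61.f790349 IH) (Lpe (K61.f10724 IH) (Lpr_ct (K49.f10727 IH) (Lpqs (K61.f787446 IH) (Lpe (K61.f673341 IH) (Lpq (K61.f792106 IH) (Lpr_cf (f659730 IH) (Lpr_bt (f792211 IH) (Lpr_gf (f833592 IH) (Lpr_bf (f143212 IH) (Lpr_ct (K63.f17985 IH) (Lpn (LP (LK LD1_c13 LD2_c46 LD3_c17)))))))))))))))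
theorem f833594 : Led Lsl_gt (LP (LK LD1_c22 LD2_c46 LD3_c57)) = (LP (LK LD1_c13 LD2_c46 LD3_c17)) :=
  Leop (Lpe (f833593 IH) (Lpn (LP (LK LD1_c22 LD2_c46 LD3_c57))))
theorem seed_1915 : LEOK LG_g (LK LD1_c22 LD2_c46 LD3_c57) :=
  Leoe_g (LK LD1_c22 LD2_c46 LD3_c57) (f833594 IH)
theorem f441769 : Led Lsl_bt (LP (LK LD1_c13 LD2_c27 LD3_c18)) = (LP (LK LD1_c22 LD2_c46 LD3_c56)) :=
  Lre_b IH (LK LD1_c13 LD2_c27 LD3_c18) (LK LD1_c22 LD2_c46 LD3_c56) Lrfl Lrfl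
theorem f833588 : Led Lsl_ff K61.v21102 = v26420 :=
  Lgr Lrot25 (Lpe (K61.f792190 IH) (Lpr_ft (K61.f792102 IH) (Lpr_bt (f833585 IH) (Lpn v26420))))
theorem f833590 : Led Lsl_ct v21104 = v26420 :=
  Lgr Lrot40 (Lpe (f792208 IH) (Lpr_cf (K61.f792191 IH) (Lpr_ff (f833588 IH) (Lpn v26420))))
theorem f792129 : Led Lsl_ft (LP (LK LD1_c7 LD2_c11 LD3_c30)) = K61.v7770 :=
  Lgr Lrot48 (Lpr_ff (K61.f792127 IH) (Lpn K61.v7770))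
def v21090 : LQ := Led Lsl_gt (LP (LK LD1_c7 LD2_c11 LD3_c30))
theorem f792079 : Led Lsl_gt (LP (LK LD1_c7 LD2_c11 LD3_c30)) = v21090 :=
  Lrfl
theorem f792158 : Led Lsl_gt v21090 = K61.v6966 :=
  Lgr Lrot46 (Lpe (f792079 IH) (Lpr_ft (f792129 IH) (Lpr_at (K61.f792098 IH) (Lpn K61.v6966))))
def v21774 : LQ := Led Lsl_bt (LP (LK LD1_c7 LD2_c26 LD3_c22))
theorem f799202 : Led Lsl_bt (LP (LK LD1_c7 LD2_c26 LD3_c22)) = v21774 :=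
  Lrfl
theorem f799203 : Led Lsl_bf (LP (LK LD1_c7 LD2_c26 LD3_c22)) = v21774 :=
  Lgr Lrot24 (Lpr_bt (f799202 IH) (Lpn v21774))
theorem f124275 : Led Lsl_gt (LP (LK LD1_c7 LD2_c26 LD3_c22)) = (LP (LK LD1_c3 LD2_c42 LD3_c51)) :=
  Lre_g IH (LK LD1_c7 LD2_c26 LD3_c22) (LK LD1_c3 LD2_c42 LD3_c51) Lrfl Lrfl
theorem f799204 : Led Lsl_cf v21090 = v21774 :=
  Lgr Lrot163 (Lpe (f792079 IH) (Lpe (K61.f792094 IH) (Lpe (K61.f657508 IH) (Lpe (f124272 IH) (Lpr_ct (K5.f12738 IH) (Lpe (K5.f124254 IH) (Lpe (K4.f120875 IH) (Lpr_bt (K6.f124274 IH) (Lpe (f124275 IH) (Lpr_bf (f799203 IH) (Lpn v21774)))))))))))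
theorem f125029 : Led Lsl_ft (LP (LK LD1_c13 LD2_c4 LD3_c46)) = (LP (LK LD1_c7 LD2_c26 LD3_c23)) :=
  Lgr Lrot101 (Lpe (K60.f121472 IH) (Lpr_ff (K5.f125015 IH) (Lpe (K60.f125028 IH) (Lpn (LP (LK LD1_c7 LD2_c26 LD3_c23))))))
theorem f440313 : Led Lsl_gt (LP (LK LD1_c13 LD2_c4 LD3_c46)) = (LP (LK LD1_c7 LD2_c26 LD3_c22)) :=
  Lgr Lrot5 (Lpr_ft (f125029 IH) (Lpr_at (K60.f125028 IH) (Lpe (f124275 IH) (Lpn (LP (LK LD1_c7 LD2_c26 LD3_c22))))))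
theorem f124943 : Led Lsl_at (LP (LK LD1_c3 LD2_c25 LD3_c17)) = (LP (LK LD1_c3 LD2_c25 LD3_c2)) :=
  Lgr Lrot100 (Lpr_af (K5.f124941 IH) (Lpn (LP (LK LD1_c3 LD2_c25 LD3_c2))))
theorem f785763 : Led Lsl_bf (LP (LK LD1_c13 LD2_c4 LD3_c46)) = K60.v20221 :=
  Lgr Lrot81 (Lpr_at (K60.f121480 IH) (Lpr_bt (K5.f121467 IH) (Lpr_at (f124943 IH) (Lpr_bt (K29.f17715 IH) (Lpr_at (K60.f785761 IH) (Lpn K60.v20221))))))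
theorem f429365 : Led Lsl_at (LP (LK LD1_c13 LD2_c28 LD3_c50)) = (LP (LK LD1_c7 LD2_c6 LD3_c50)) :=
  Lre_a IH (LK LD1_c13 LD2_c28 LD3_c50) (LK LD1_c7 LD2_c6 LD3_c50) Lrfl Lrfl
theorem f785764 : Led Lsl_cf (LP (LK LD1_c13 LD2_c28 LD3_c50)) = K60.v20221 :=
  Lgr Lrot1 (Lpr_at (f429365 IH) (Lpe (K29.f105921 IH) (Lpr_at (K60.f785761 IH) (Lpn K60.v20221))))
theorem f429342 : Led Lsl_ct (LP (LK LD1_c13 LD2_c35 LD3_c13)) = (LP (LK LD1_c7 LD2_c10 LD3_c27)) :=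
  Lre_c IH (LK LD1_c13 LD2_c35 LD3_c13) (LK LD1_c7 LD2_c10 LD3_c27) Lrfl Lrfl
theorem f833589 : Led Lsl_gf (LP (LK LD1_c13 LD2_c35 LD3_c13)) = v26420 :=
  Lgr Lrot181 (Lpr_ct (f429342 IH) (Lpe (K60.f429340 IH) (Lpr_cf (f785764 IH) (Lpe (f785763 IH) (Lpr_gt (f440313 IH) (Lpr_bf (f799203 IH) (Lpe (f799204 IH) (Lpr_gt (f792158 IH) (Lpq (K61.f787453 IH) (Lpe (K61.f673394 IH) (Lpr_bt (f833585 IH) (Lpn v26420))))))))))))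
theorem f429344 : Led Lsl_ct (LP (LK LD1_c7 LD2_c10 LD3_c27)) = (LP (LK LD1_c13 LD2_c35 LD3_c13)) :=
  Lre_c IH (LK LD1_c7 LD2_c10 LD3_c27) (LK LD1_c13 LD2_c35 LD3_c13) Lrfl Lrfl
theorem f429593 : Led Lsl_bt (LP (LK LD1_c7 LD2_c10 LD3_c27)) = (LP (LK LD1_c13 LD2_c35 LD3_c12)) :=
  Lre_b IH (LK LD1_c7 LD2_c10 LD3_c27) (LK LD1_c13 LD2_c35 LD3_c12) Lrfl Lrfl
theorem f833597 : Led Lsl_gf (LP (LK LD1_c22 LD2_c46 LD3_c56)) = (LP (LK LD1_c13 LD2_c35 LD3_c12)) :=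
  Lgr Lrot124 (Lpe (f441769 IH) (Lpr_ct (f441755 IH) (Lpr_gt (f833593 IH) (Lpe (K63.f17985 IH) (Lpe (f143212 IH) (Lpe (f833592 IH) (Lpr_ct (f833590 IH) (Lpe (f833589 IH) (Lpe (f429344 IH) (Lpr_bt (f429593 IH) (Lpn (LP (LK LD1_c13 LD2_c35 LD3_c12)))))))))))))
theorem f833598 : Led Lsl_gt (LP (LK LD1_c13 LD2_c35 LD3_c12)) = (LP (LK LD1_c22 LD2_c46 LD3_c56)) :=
  Leop (Lpr_gf (f833597 IH) (Lpn (LP (LK LD1_c13 LD2_c35 LD3_c12))))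
theorem seed_1916 : LEOK LG_g (LK LD1_c13 LD2_c35 LD3_c12) :=
  Leoe_g (LK LD1_c13 LD2_c35 LD3_c12) (f833598 IH)
def v26502 : LQ := Led Lsl_et K63.v6709
theorem f834017 : Led Lsl_et K63.v6709 = v26502 :=
  Lrfl
theorem f834020 : Led Lsl_ef K63.v6709 = v26502 :=
  Lgr Lrot88 (Lpr_et (f834017 IH) (Lpn v26502))
theorem f657940 : Led Lsl_af (LP (LK LD1_c7 LD2_c43 LD3_c7)) = K63.v6711 :=
  Lgr Lrot45 (Lpr_ft (K60.f95433 IH) (Lpr_at (K60.f136859 IH) (Lpr_ft (K63.f657939 IH) (Lpn K63.v6711))))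
theorem f657943 : Led Lsl_gt K63.v6709 = (LP (LK LD1_c7 LD2_c43 LD3_c7)) :=
  Lgr Lrot46 (Lpe (K63.f657936 IH) (Lpr_ft (K63.f657939 IH) (Lpe (f657940 IH) (Lpn (LP (LK LD1_c7 LD2_c43 LD3_c7))))))
def v20415 : LQ := Led Lsl_ft (LP (LK LD1_c6 LD2_c56 LD3_c23))
theorem f786849 : Led Lsl_ft (LP (LK LD1_c6 LD2_c56 LD3_c23)) = v20415 :=
  Lrfl
theorem f786853 : Led Lsl_ff (LP (LK LD1_c6 LD2_c56 LD3_c23)) = v20415 :=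
  Lgr Lrot3 (Lpr_ft (f786849 IH) (Lpn v20415))
theorem f786857 : Led Lsl_dt (LP (LK LD1_c6 LD2_c56 LD3_c24)) = v20415 :=
  Lgr Lrot60 (Lpe (K61.f91727 IH) (Lpe (K3.f93248 IH) (Lpr_ff (f786853 IH) (Lpn v20415))))
def v22776 : LQ := Led Lsl_gf (LP (LK LD1_c7 LD2_c42 LD3_c49))
theorem f810595 : Led Lsl_gf (LP (LK LD1_c7 LD2_c42 LD3_c49)) = v22776 :=
  Lrfl
theorem f97818 : Led Lsl_at (LP (LK LD1_c6 LD2_c56 LD3_c23)) = (LP (LK LD1_c7 LD2_c42 LD3_c49)) :=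
  Lgr Lrot100 (Lpr_af (K3.f97814 IH) (Lpn (LP (LK LD1_c7 LD2_c42 LD3_c49))))
theorem f810596 : Led Lsl_gt v20415 = v22776 :=
  Lgr Lrot5 (Lpe (f786853 IH) (Lpr_at (f97818 IH) (Lpr_gf (f810595 IH) (Lpn v22776))))
theorem f834023 : Led Lsl_df v22776 = v26502 :=
  Lgr Lrot168 (Lpe (f810596 IH) (Lpe (f786857 IH) (Lpr_et (K3.f91725 IH) (Lpe (K63.f89934 IH) (Lpe (K63.f89944 IH) (Lpr_dt (K63.f89945 IH) (Lpe (K60.f136894 IH) (Lpe (K60.f95519 IH) (Lpe (f657943 IH) (Lpr_ef (f834020 IH) (Lpn v26502)))))))))))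
theorem f63181 : Led Lsl_et (LP (LK LD1_c7 LD2_c1 LD3_c41)) = (LP (LK LD1_c13 LD2_c19 LD3_c52)) :=
  Lre_e IH (LK LD1_c7 LD2_c1 LD3_c41) (LK LD1_c13 LD2_c19 LD3_c52) Lrfl Lrfl
theorem f834022 : Led Lsl_bt (LP (LK LD1_c13 LD2_c19 LD3_c52)) = v26502 :=
  Lgr Lrot119 (Lpe (f63181 IH) (Lpr_bf (K63.f760282 IH) (Lpr_ef (f834020 IH) (Lpn v26502))))
theorem f63144 : Led Lsl_et (LP (LK LD1_c13 LD2_c19 LD3_c52)) = (LP (LK LD1_c7 LD2_c1 LD3_c41)) :=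
  Lre_e IH (LK LD1_c13 LD2_c19 LD3_c52) (LK LD1_c7 LD2_c1 LD3_c41) Lrfl Lrfl
theorem f63145 : Led Lsl_et (LP (LK LD1_c1 LD2_c52 LD3_c3)) = (LP (LK LD1_c0 LD2_c52 LD3_c47)) :=
  Lre_e IH (LK LD1_c1 LD2_c52 LD3_c3) (LK LD1_c0 LD2_c52 LD3_c47) Lrfl Lrfl
theorem f63147 : Led Lsl_gt (LP (LK LD1_c7 LD2_c41 LD3_c41)) = (LP (LK LD1_c3 LD2_c50 LD3_c17)) :=
  Lre_g IH (LK LD1_c7 LD2_c41 LD3_c41) (LK LD1_c3 LD2_c50 LD3_c17) Lrfl Lrfl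
theorem f63148 : Led Lsl_dt (LP (LK LD1_c13 LD2_c19 LD3_c52)) = (LP (LK LD1_c7 LD2_c41 LD3_c41)) :=
  Lgr Lrot136 (Lpr_et (f63144 IH) (Lpe (K52.f63143 IH) (Lpe (K4.f63142 IH) (Lpr_dt (K3.f63141 IH) (Lpe (K4.f18887 IH) (Lpr_df (K1.f62676 IH) (Lpe (K1.f62675 IH) (Lpe (f63145 IH) (Lpr_dt (K63.f63146 IH) (Lpe (f63147 IH) (Lpn (LP (LK LD1_c7 LD2_c41 LD3_c41)))))))))))))
theorem f63186 : Led Lsl_df (LP (LK LD1_c13 LD2_c19 LD3_c52)) = (LP (LK LD1_c7 LD2_c41 LD3_c41)) :=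
  Lgr Lrot38 (Lpr_dt (f63148 IH) (Lpn (LP (LK LD1_c7 LD2_c41 LD3_c41))))
theorem f63193 : Led Lsl_bt (LP (LK LD1_c14 LD2_c30 LD3_c13)) = (LP (LK LD1_c7 LD2_c41 LD3_c41)) :=
  Lre_b IH (LK LD1_c14 LD2_c30 LD3_c13) (LK LD1_c7 LD2_c41 LD3_c41) Lrfl Lrfl
theorem f834026 : v22776 = (LP (LK LD1_c14 LD2_c30 LD3_c13)) :=
  (Llr Lrot79 (Lpr_df (f834023 IH) (Lpe (f834022 IH) (Lpr_df (f63186 IH) (Lpe (f63193 IH) (Lpn (LP (LK LD1_c14 LD2_c30 LD3_c13)))))))).symm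
theorem f834027 : Led Lsl_gt (LP (LK LD1_c14 LD2_c30 LD3_c13)) = (LP (LK LD1_c7 LD2_c42 LD3_c49)) :=
  Leop (Lpr_gf (f810595 IH) (Lpqs (f834026 IH) (Lpn (LP (LK LD1_c14 LD2_c30 LD3_c13)))))
theorem seed_1917 : LEOK LG_g (LK LD1_c14 LD2_c30 LD3_c13) :=
  Leoe_g (LK LD1_c14 LD2_c30 LD3_c13) (f834027 IH)
theorem f439901 : Led Lsl_ct (LP (LK LD1_c14 LD2_c30 LD3_c13)) = (LP (LK LD1_c24 LD2_c11 LD3_c14)) :=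
  Lre_c IH (LK LD1_c14 LD2_c30 LD3_c13) (LK LD1_c24 LD2_c11 LD3_c14) Lrfl Lrfl
def v22728 : LQ := Led Lsl_ct (LP (LK LD1_c7 LD2_c41 LD3_c37))
theorem f810008 : Led Lsl_ct (LP (LK LD1_c7 LD2_c41 LD3_c37)) = v22728 :=
  Lrfl
theorem f112989 : Led Lsl_ct (LP (LK LD1_c6 LD2_c33 LD3_c15)) = (LP (LK LD1_c3 LD2_c14 LD3_c56)) :=
  Lre_c IH (LK LD1_c6 LD2_c33 LD3_c15) (LK LD1_c3 LD2_c14 LD3_c56) Lrfl Lrfl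
theorem f12275 : Led Lsl_ct (LP (LK LD1_c3 LD2_c55 LD3_c42)) = (LP (LK LD1_c7 LD2_c53 LD3_c6)) :=
  Lre_c IH (LK LD1_c3 LD2_c55 LD3_c42) (LK LD1_c7 LD2_c53 LD3_c6) Lrfl Lrfl
theorem f810011 : Led Lsl_gf (LP (LK LD1_c7 LD2_c53 LD3_c6)) = v22728 :=
  Lgr Lrot129 (Lpe (f12275 IH) (Lpe (K5.f12261 IH) (Lpe (K52.f712193 IH) (Lpr_bf (K53.f444294 IH) (Lpr_ct (K51.f443955 IH) (Lpqs (K51.f708144 IH) (Lpe (K51.f632958 IH) (Lpe (f112989 IH) (Lpr_bt (K5.f112979 IH) (Lpr_gt (K63.f666476 IH) (Lpq (K63.f712303 IH) (Lpr_ct (f810008 IH) (Lpn v22728)))))))))))))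
theorem f12306 : Led Lsl_ct (LP (LK LD1_c14 LD2_c52 LD3_c36)) = (LP (LK LD1_c7 LD2_c53 LD3_c9)) :=
  Lre_c IH (LK LD1_c14 LD2_c52 LD3_c36) (LK LD1_c7 LD2_c53 LD3_c9) Lrfl Lrfl
theorem f834044 : Led Lsl_gt (LP (LK LD1_c24 LD2_c11 LD3_c14)) = (LP (LK LD1_c14 LD2_c52 LD3_c36)) :=
  Lgr Lrot150 (Lpe (f439901 IH) (Lpq (f834026 IH) (Lpe (f810596 IH) (Lpe (f786857 IH) (Lpr_gt (K63.f666476 IH) (Lpq (K63.f712303 IH) (Lpr_ct (f810008 IH) (Lpe (f810011 IH) (Lpr_ct (K8.f12266 IH) (Lpe (K5.f12260 IH) (Lpe (f12306 IH) (Lpn (LP (LK LD1_c14 LD2_c52 LD3_c36))))))))))))))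
theorem f834045 : Led Lsl_gt (LP (LK LD1_c24 LD2_c11 LD3_c14)) = (LP (LK LD1_c14 LD2_c52 LD3_c36)) :=
  Leop (Lpe (f834044 IH) (Lpn (LP (LK LD1_c24 LD2_c11 LD3_c14))))
theorem seed_1918 : LEOK LG_g (LK LD1_c24 LD2_c11 LD3_c14) :=
  Leoe_g (LK LD1_c24 LD2_c11 LD3_c14) (f834045 IH)
def v26522 : LQ := Led Lsl_bt K63.v6727
theorem f834119 : Led Lsl_bt K63.v6727 = v26522 :=
  Lrfl
theorem f787273 : Led Lsl_ff K63.v6727 = K63.v20481 :=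
  Lgr Lrot3 (Lpr_ft (K63.f787272 IH) (Lpn K63.v20481))
theorem f787281 : Led Lsl_ff (LP (LK LD1_c6 LD2_c58 LD3_c3)) = K63.v20484 :=
  Lgr Lrot3 (Lpr_ft (K63.f787279 IH) (Lpn K63.v20484))
def v8963 : LQ := Led Lsl_gt K61.v2335
theorem f672963 : Led Lsl_gt K61.v2335 = v8963 :=
  Lrfl
theorem f792154 : K63.v20481 = v8963 :=
  (Llr Lrot26 (Lpe (K63.f787268 IH) (Lpr_ff (f787281 IH) (Lpqs (K63.f792135 IH) (Lpe (K61.f672966 IH) (Lpr_gt (f672963 IH) (Lpn v8963))))))).symm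
def v21775 : LQ := Led Lsl_ct (LP (LK LD1_c7 LD2_c26 LD3_c22))
theorem f799206 : Led Lsl_ct (LP (LK LD1_c7 LD2_c26 LD3_c22)) = v21775 :=
  Lrfl
theorem f799207 : Led Lsl_cf (LP (LK LD1_c7 LD2_c26 LD3_c22)) = v21775 :=
  Lgr Lrot11 (Lpr_ct (f799206 IH) (Lpn v21775))
theorem f124293 : Led Lsl_ct (LP (LK LD1_c7 LD2_c25 LD3_c37)) = (LP (LK LD1_c3 LD2_c42 LD3_c51)) :=
  Lre_c IH (LK LD1_c7 LD2_c25 LD3_c37) (LK LD1_c3 LD2_c42 LD3_c51) Lrfl Lrfl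
theorem f124292 : Led Lsl_bt (LP (LK LD1_c7 LD2_c25 LD3_c37)) = (LP (LK LD1_c3 LD2_c42 LD3_c29)) :=
  Lre_b IH (LK LD1_c7 LD2_c25 LD3_c37) (LK LD1_c3 LD2_c42 LD3_c29) Lrfl Lrfl
theorem f799208 : Led Lsl_bf v8963 = v21775 :=
  Lgr Lrot34 (Lpe (f672963 IH) (Lpe (K61.f514696 IH) (Lpr_ct (K7.f11501 IH) (Lpr_gf (K2.f64365 IH) (Lpe (K5.f64370 IH) (Lpe (K5.f124280 IH) (Lpe (f124292 IH) (Lpr_ct (f124293 IH) (Lpe (f124275 IH) (Lpr_cf (f799207 IH) (Lpn v21775)))))))))))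
theorem f834121 : Led Lsl_ff v21775 = v26522 :=
  Lgr Lrot25 (Lpe (f799208 IH) (Lpq (f792154 IH) (Lpe (f787273 IH) (Lpr_bt (f834119 IH) (Lpn v26522)))))
theorem f834123 : Led Lsl_ft v21775 = v26522 :=
  Lgr Lrot48 (Lpr_ff (f834121 IH) (Lpn v26522))
def v21771 : LQ := Led Lsl_at (LP (LK LD1_c7 LD2_c26 LD3_c21))
theorem f799190 : Led Lsl_at (LP (LK LD1_c7 LD2_c26 LD3_c21)) = v21771 :=
  Lrfl
theorem f799191 : Led Lsl_af (LP (LK LD1_c7 LD2_c26 LD3_c21)) = v21771 :=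
  Lgr Lrot0 (Lpr_at (f799190 IH) (Lpn v21771))
theorem f124294 : Led Lsl_gt (LP (LK LD1_c3 LD2_c42 LD3_c51)) = (LP (LK LD1_c7 LD2_c26 LD3_c21)) :=
  Lre_g IH (LK LD1_c3 LD2_c42 LD3_c51) (LK LD1_c7 LD2_c26 LD3_c21) Lrfl Lrfl
theorem f799193 : Led Lsl_ft (LP (LK LD1_c7 LD2_c26 LD3_c22)) = v21771 :=
  Lgr Lrot2 (Lpr_gt (f124275 IH) (Lpr_gt (f124294 IH) (Lpr_af (f799191 IH) (Lpn v21771))))
theorem f799194 : Led Lsl_ff (LP (LK LD1_c7 LD2_c26 LD3_c22)) = v21771 :=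
  Lgr Lrot3 (Lpr_ft (f799193 IH) (Lpn v21771))
theorem f834124 : Led Lsl_cf v21771 = v26522 :=
  Lgr Lrot108 (Lpe (f799194 IH) (Lpr_ct (f799206 IH) (Lpr_ft (f834123 IH) (Lpn v26522))))
theorem f834120 : Led Lsl_bf K63.v6727 = v26522 :=
  Lgr Lrot24 (Lpr_bt (f834119 IH) (Lpn v26522))
theorem f17268 : Led Lsl_bt (LP (LK LD1_c1 LD2_c40 LD3_c34)) = (LP (LK LD1_c3 LD2_c27 LD3_c57)) :=
  Lre_b IH (LK LD1_c1 LD2_c40 LD3_c34) (LK LD1_c3 LD2_c27 LD3_c57) Lrfl Lrfl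
theorem f121465 : Led Lsl_gt (LP (LK LD1_c13 LD2_c4 LD3_c45)) = (LP (LK LD1_c6 LD2_c52 LD3_c47)) :=
  Lre_g IH (LK LD1_c13 LD2_c4 LD3_c45) (LK LD1_c6 LD2_c52 LD3_c47) Lrfl Lrfl
theorem f834126 : v21771 = (LP (LK LD1_c13 LD2_c4 LD3_c45)) :=
  (Llr Lrot64 (Lpr_cf (f834124 IH) (Lpe (f834120 IH) (Lpe (K63.f658070 IH) (Lpe (f17268 IH) (Lpr_ct (K3.f11478 IH) (Lpe (K4.f17264 IH) (Lpe (K5.f19324 IH) (Lpe (K5.f115388 IH) (Lpe (K5.f115299 IH) (Lpe (K5.f121469 IH) (Lpe (f121465 IH) (Lpn (LP (LK LD1_c13 LD2_c4 LD3_c45))))))))))))))).symm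
theorem f834127 : Led Lsl_at (LP (LK LD1_c13 LD2_c4 LD3_c45)) = (LP (LK LD1_c7 LD2_c26 LD3_c21)) :=
  Leop (Lpr_af (f799191 IH) (Lpqs (f834126 IH) (Lpn (LP (LK LD1_c13 LD2_c4 LD3_c45)))))
theorem seed_1919 : LEOK LG_a (LK LD1_c13 LD2_c4 LD3_c45) :=
  Leoe_a (LK LD1_c13 LD2_c4 LD3_c45) (f834127 IH)
theorem f125024 : Led Lsl_bt (LP (LK LD1_c22 LD2_c15 LD3_c21)) = (LP (LK LD1_c13 LD2_c4 LD3_c44)) :=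
  Lre_b IH (LK LD1_c22 LD2_c15 LD3_c21) (LK LD1_c13 LD2_c4 LD3_c44) Lrfl Lrfl
def v21773 : LQ := Led Lsl_ft (LP (LK LD1_c7 LD2_c26 LD3_c21))
theorem f799198 : Led Lsl_ft (LP (LK LD1_c7 LD2_c26 LD3_c21)) = v21773 :=
  Lrfl
theorem f799200 : Led Lsl_ff (LP (LK LD1_c7 LD2_c26 LD3_c21)) = v21773 :=
  Lgr Lrot3 (Lpr_ft (f799198 IH) (Lpn v21773))
theorem f799201 : Led Lsl_at (LP (LK LD1_c7 LD2_c26 LD3_c22)) = v21773 :=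
  Lgr Lrot66 (Lpr_ff (f799194 IH) (Lpe (f799190 IH) (Lpr_ff (f799200 IH) (Lpn v21773))))
theorem f121481 : Led Lsl_gt (LP (LK LD1_c6 LD2_c52 LD3_c47)) = (LP (LK LD1_c13 LD2_c4 LD3_c44)) :=
  Lre_g IH (LK LD1_c6 LD2_c52 LD3_c47) (LK LD1_c13 LD2_c4 LD3_c44) Lrfl Lrfl
theorem f834131 : v21773 = (LP (LK LD1_c13 LD2_c4 LD3_c44)) :=
  (Llr Lrot26 (Lpe (f799201 IH) (Lpr_ff (f799194 IH) (Lpqs (f834126 IH) (Lpr_gt (f121465 IH) (Lpr_gt (f121481 IH) (Lpn (LP (LK LD1_c13 LD2_c4 LD3_c44))))))))).symm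
theorem f799199 : Led Lsl_af (LP (LK LD1_c7 LD2_c26 LD3_c22)) = v21773 :=
  Lgr Lrot45 (Lpr_ft (f799193 IH) (Lpe (f799191 IH) (Lpr_ft (f799198 IH) (Lpn v21773))))
def v7781 : LQ := Led Lsl_ft (LP (LK LD1_c3 LD2_c56 LD3_c51))
theorem f668360 : Led Lsl_ft (LP (LK LD1_c3 LD2_c56 LD3_c51)) = v7781 :=
  Lrfl
theorem f668363 : Led Lsl_ff (LP (LK LD1_c3 LD2_c56 LD3_c51)) = v7781 :=
  Lgr Lrot3 (Lpr_ft (f668360 IH) (Lpn v7781))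
theorem f815382 : Led Lsl_gt v7781 = K63.v23179 :=
  Lgr Lrot5 (Lpe (f668363 IH) (Lpr_at (K61.f668348 IH) (Lpr_gf (K63.f815381 IH) (Lpn K63.v23179))))
theorem f668366 : Led Lsl_ct K63.v2785 = v7781 :=
  Lgr Lrot40 (Lpe (K63.f535591 IH) (Lpe (K63.f109144 IH) (Lpr_ff (f668363 IH) (Lpn v7781))))
def v21091 : LQ := Led Lsl_gf (LP (LK LD1_c7 LD2_c11 LD3_c30))
theorem f792080 : Led Lsl_gf (LP (LK LD1_c7 LD2_c11 LD3_c30)) = v21091 :=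
  Lrfl
theorem f792081 : Led Lsl_gt K61.v6968 = v21091 :=
  Lgr Lrot5 (Lpe (K61.f659709 IH) (Lpr_at (K61.f519505 IH) (Lpr_gf (f792080 IH) (Lpn v21091))))
theorem f815460 : K61.v7776 = v21091 :=
  (Llr Lrot92 (Lpe (K63.f668342 IH) (Lpr_ct (f668366 IH) (Lpr_gt (f815382 IH) (Lpe (K63.f815383 IH) (Lpe (K63.f791659 IH) (Lpr_gt (K61.f791645 IH) (Lpe (K64.f791647 IH) (Lpr_gt (K64.f815457 IH) (Lpq (K64.f792110 IH) (Lpe (K64.f659733 IH) (Lpqs (K61.f792106 IH) (Lpr_bt (K61.f659702 IH) (Lpq (K61.f787453 IH) (Lpq (K61.f792105 IH) (Lpr_gt (f792081 IH) (Lpn v21091))))))))))))))))).symm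
theorem f815461 : K61.v7772 = v21090 :=
  (Llr Lrot26 (Lpe (K61.f668326 IH) (Lpr_ff (K63.f668341 IH) (Lpqs (f815460 IH) (Lpe (f792080 IH) (Lpr_gt (f792079 IH) (Lpn v21090))))))).symm
theorem f815464 : Led Lsl_af v21774 = K63.v7773 :=
  Lgr Lrot68 (Lpe (f799204 IH) (Lpq (f815461 IH) (Lpe (K61.f668327 IH) (Lpr_ct (K63.f668328 IH) (Lpn K63.v7773)))))
theorem f815465 : Led Lsl_at v21774 = K63.v7773 :=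
  Lgr Lrot100 (Lpr_af (f815464 IH) (Lpn K63.v7773))
theorem f668329 : Led Lsl_bt (LP (LK LD1_c7 LD2_c55 LD3_c23)) = (LP (LK LD1_c3 LD2_c56 LD3_c51)) :=
  Lre_b IH (LK LD1_c7 LD2_c55 LD3_c23) (LK LD1_c3 LD2_c56 LD3_c51) Lrfl Lrfl
theorem f819279 : Led Lsl_bt K63.v7773 = K64.v23605 :=
  Lgr Lrot128 (Lpe (K63.f668328 IH) (Lpe (K61.f535584 IH) (Lpe (K63.f109144 IH) (Lpe (f668329 IH) (Lpr_cf (K64.f819278 IH) (Lpn K64.v23605))))))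
theorem f834143 : Led Lsl_af (LP (LK LD1_c22 LD2_c15 LD3_c21)) = K64.v23605 :=
  Lgr Lrot36 (Lpr_bt (f125024 IH) (Lpq (f834131 IH) (Lpe (f799199 IH) (Lpr_bt (f799202 IH) (Lpr_at (f815465 IH) (Lpr_bt (f819279 IH) (Lpn K64.v23605)))))))
theorem f121464 : Led Lsl_bt (LP (LK LD1_c3 LD2_c25 LD3_c17)) = (LP (LK LD1_c6 LD2_c52 LD3_c47)) :=
  Lre_b IH (LK LD1_c3 LD2_c25 LD3_c17) (LK LD1_c6 LD2_c52 LD3_c47) Lrfl Lrfl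
theorem f106291 : Led Lsl_cf (LP (LK LD1_c6 LD2_c59 LD3_c12)) = (LP (LK LD1_c7 LD2_c55 LD3_c19)) :=
  Lgr Lrot97 (Lpr_bt (K63.f85312 IH) (Lpe (K3.f95760 IH) (Lpe (K3.f95825 IH) (Lpr_ct (K3.f106288 IH) (Lpr_bt (K3.f106290 IH) (Lpn (LP (LK LD1_c7 LD2_c55 LD3_c19))))))))
theorem f95769 : Led Lsl_gt (LP (LK LD1_c13 LD2_c15 LD3_c25)) = (LP (LK LD1_c6 LD2_c59 LD3_c12)) :=
  Lre_g IH (LK LD1_c13 LD2_c15 LD3_c25) (LK LD1_c6 LD2_c59 LD3_c12) Lrfl Lrfl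
theorem f134958 : Led Lsl_ct (LP (LK LD1_c22 LD2_c15 LD3_c21)) = (LP (LK LD1_c13 LD2_c15 LD3_c25)) :=
  Lgr Lrot64 (Lpr_bt (f125024 IH) (Lpe (f121481 IH) (Lpe (f121464 IH) (Lpr_ct (K5.f94112 IH) (Lpr_gf (K5.f134856 IH) (Lpe (K5.f21114 IH) (Lpr_gf (K5.f134952 IH) (Lpe (K3.f106295 IH) (Lpe (f106291 IH) (Lpe (f95769 IH) (Lpn (LP (LK LD1_c13 LD2_c15 LD3_c25)))))))))))))
def v23604 : LQ := Led Lsl_at (LP (LK LD1_c7 LD2_c55 LD3_c23))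
theorem f819274 : Led Lsl_at (LP (LK LD1_c7 LD2_c55 LD3_c23)) = v23604 :=
  Lrfl
theorem f819275 : Led Lsl_af (LP (LK LD1_c7 LD2_c55 LD3_c23)) = v23604 :=
  Lgr Lrot0 (Lpr_at (f819274 IH) (Lpn v23604))
theorem f834145 : (LP (LK LD1_c13 LD2_c15 LD3_c25)) = v23604 :=
  (Llr Lrot111 (Lpe (f134958 IH) (Lpr_af (f834143 IH) (Lpe (K64.f819276 IH) (Lpr_af (f819275 IH) (Lpn v23604)))))).symm
theorem f834146 : Led Lsl_at (LP (LK LD1_c13 LD2_c15 LD3_c25)) = (LP (LK LD1_c7 LD2_c55 LD3_c23)) :=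
  Leop (Lpr_af (f819275 IH) (Lpq (f834145 IH) (Lpn (LP (LK LD1_c13 LD2_c15 LD3_c25)))))
theorem seed_1920 : LEOK LG_a (LK LD1_c13 LD2_c15 LD3_c25) :=
  Leoe_a (LK LD1_c13 LD2_c15 LD3_c25) (f834146 IH)
def v26705 : LQ := Led Lsl_bt K62.v6904
theorem f835396 : Led Lsl_bt K62.v6904 = v26705 :=
  Lrfl
theorem f835401 : Led Lsl_ff (LP (LK LD1_c13 LD2_c41 LD3_c2)) = v26705 :=
  Lgr Lrot25 (Lpr_bt (K41.f98553 IH) (Lpr_ft (K62.f659359 IH) (Lpr_bt (f835396 IH) (Lpn v26705))))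
theorem f835407 : Led Lsl_ft (LP (LK LD1_c13 LD2_c41 LD3_c2)) = v26705 :=
  Lgr Lrot48 (Lpr_ff (f835401 IH) (Lpn v26705))
theorem f467511 : Led Lsl_gt (LP (LK LD1_c7 LD2_c15 LD3_c21)) = (LP (LK LD1_c13 LD2_c43 LD3_c57)) :=
  Lre_g IH (LK LD1_c7 LD2_c15 LD3_c21) (LK LD1_c13 LD2_c43 LD3_c57) Lrfl Lrfl
theorem f835408 : Led Lsl_af (LP (LK LD1_c13 LD2_c43 LD3_c57)) = v26705 :=
  Lgr Lrot31 (Lpe (f467511 IH) (Lpe (K47.f659625 IH) (Lpr_ft (f835407 IH) (Lpn v26705))))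
def v21361 : LQ := Led Lsl_ft (LP (LK LD1_c7 LD2_c16 LD3_c37))
theorem f795246 : Led Lsl_ft (LP (LK LD1_c7 LD2_c16 LD3_c37)) = v21361 :=
  Lrfl
theorem f795252 : Led Lsl_ff (LP (LK LD1_c7 LD2_c16 LD3_c37)) = v21361 :=
  Lgr Lrot3 (Lpr_ft (f795246 IH) (Lpn v21361))
theorem f795255 : Led Lsl_ct K62.v6904 = v21361 :=
  Lgr Lrot40 (Lpe (K62.f659359 IH) (Lpr_cf (K41.f471948 IH) (Lpr_ff (f795252 IH) (Lpn v21361))))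
theorem f530525 : K34.v2705 = (LP (LK LD1_c3 LD2_c39 LD3_c14)) :=
  Lefun (Lecon (K34.f530492 IH) (K41.f530520 IH).symm) (Lfl_bf (K34.f472145 IH))
theorem f661152 : Led Lsl_at (LP (LK LD1_c7 LD2_c16 LD3_c37)) = K48.v7110 :=
  Lgr Lrot80 (Lpe (K41.f471203 IH) (Lpr_af (K34.f530488 IH) (Lpqs (f530525 IH) (Lpr_ef (K48.f661151 IH) (Lpn K48.v7110)))))
theorem f795258 : Led Lsl_gf K48.v7186 = v21361 :=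
  Lgr Lrot47 (Lpe (K48.f661866 IH) (Lpe (f661152 IH) (Lpr_ff (f795252 IH) (Lpn v21361))))
def v7612 : LQ := Led Lsl_et (LP (LK LD1_c3 LD2_c53 LD3_c10))
theorem f667259 : Led Lsl_et (LP (LK LD1_c3 LD2_c53 LD3_c10)) = v7612 :=
  Lrfl
theorem f661864 : Led Lsl_ef (LP (LK LD1_c3 LD2_c41 LD3_c45)) = K48.v7186 :=
  Lgr Lrot88 (Lpr_et (K48.f661861 IH) (Lpn K48.v7186))
theorem f667260 : Led Lsl_af K48.v7186 = v7612 :=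
  Lgr Lrot50 (Lpe (f661864 IH) (Lpr_at (K34.f524173 IH) (Lpr_et (f667259 IH) (Lpn v7612))))
theorem f524211 : Led Lsl_ft (LP (LK LD1_c3 LD2_c48 LD3_c17)) = (LP (LK LD1_c3 LD2_c33 LD3_c50)) :=
  Lgr Lrot75 (Lpe (K33.f467922 IH) (Lpr_ff (K34.f524209 IH) (Lpr_bf (K28.f466650 IH) (Lpn (LP (LK LD1_c3 LD2_c33 LD3_c50))))))
theorem f667263 : Led Lsl_ff (LP (LK LD1_c7 LD2_c37 LD3_c38)) = v7612 :=
  Lgr Lrot72 (Lpr_et (K33.f467927 IH) (Lpr_ft (f524211 IH) (Lpr_et (K34.f467371 IH) (Lpe (K48.f526737 IH) (Lpr_et (f667259 IH) (Lpn v7612))))))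
theorem f667267 : Led Lsl_ft (LP (LK LD1_c7 LD2_c37 LD3_c38)) = v7612 :=
  Lgr Lrot48 (Lpr_ff (f667263 IH) (Lpn v7612))
theorem f795259 : Led Lsl_gt (LP (LK LD1_c7 LD2_c37 LD3_c38)) = v21361 :=
  Lgr Lrot5 (Lpr_ft (f667267 IH) (Lpe (f667260 IH) (Lpr_gf (f795258 IH) (Lpn v21361))))
def v7036 : LQ := Led Lsl_ft (LP (LK LD1_c3 LD2_c37 LD3_c27))
theorem f660480 : Led Lsl_ft (LP (LK LD1_c3 LD2_c37 LD3_c27)) = v7036 :=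
  Lrfl
theorem f660483 : Led Lsl_ff (LP (LK LD1_c3 LD2_c37 LD3_c27)) = v7036 :=
  Lgr Lrot3 (Lpr_ft (f660480 IH) (Lpn v7036))
theorem f519850 : Led Lsl_at (LP (LK LD1_c3 LD2_c37 LD3_c27)) = (LP (LK LD1_c6 LD2_c58 LD3_c25)) :=
  Lgr Lrot100 (Lpr_af (K33.f519848 IH) (Lpn (LP (LK LD1_c6 LD2_c58 LD3_c25))))
theorem f660486 : Led Lsl_gf (LP (LK LD1_c7 LD2_c7 LD3_c43)) = v7036 :=
  Lgr Lrot47 (Lpe (K35.f477654 IH) (Lpe (f519850 IH) (Lpr_ff (f660483 IH) (Lpn v7036))))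
theorem f475209 : Led Lsl_at (LP (LK LD1_c3 LD2_c53 LD3_c9)) = (LP (LK LD1_c7 LD2_c7 LD3_c43)) :=
  Lgr Lrot100 (Lpr_af (K29.f475207 IH) (Lpn (LP (LK LD1_c7 LD2_c7 LD3_c43))))
theorem f129812 : Led Lsl_ct (LP (LK LD1_c3 LD2_c48 LD3_c0)) = (LP (LK LD1_c7 LD2_c37 LD3_c6)) :=
  Lre_c IH (LK LD1_c3 LD2_c48 LD3_c0) (LK LD1_c7 LD2_c37 LD3_c6) Lrfl Lrfl
theorem f473599 : Led Lsl_ff (LP (LK LD1_c3 LD2_c53 LD3_c9)) = (LP (LK LD1_c7 LD2_c37 LD3_c6)) :=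
  Lgr Lrot23 (Lpr_ct (K28.f129890 IH) (Lpr_ft (K29.f473593 IH) (Lpr_ct (f129812 IH) (Lpn (LP (LK LD1_c7 LD2_c37 LD3_c6))))))
theorem f660487 : Led Lsl_gt (LP (LK LD1_c7 LD2_c37 LD3_c6)) = v7036 :=
  Lgr Lrot5 (Lpe (f473599 IH) (Lpr_at (f475209 IH) (Lpr_gf (f660486 IH) (Lpn v7036))))
theorem f462015 : Led Lsl_bt (LP (LK LD1_c14 LD2_c21 LD3_c46)) = (LP (LK LD1_c7 LD2_c37 LD3_c6)) :=
  Lre_b IH (LK LD1_c14 LD2_c21 LD3_c46) (LK LD1_c7 LD2_c37 LD3_c6) Lrfl Lrfl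
theorem f519862 : Led Lsl_ff (LP (LK LD1_c3 LD2_c28 LD3_c4)) = (LP (LK LD1_c3 LD2_c28 LD3_c6)) :=
  Lgr Lrot23 (Lpr_ct (K28.f455185 IH) (Lpr_ft (K33.f519858 IH) (Lpr_ct (K29.f455436 IH) (Lpn (LP (LK LD1_c3 LD2_c28 LD3_c6))))))
theorem f519854 : Led Lsl_at (LP (LK LD1_c1 LD2_c45 LD3_c36)) = (LP (LK LD1_c3 LD2_c28 LD3_c6)) :=
  Lgr Lrot107 (Lpe (K29.f467498 IH) (Lpr_af (K33.f519848 IH) (Lpe (K29.f446453 IH) (Lpn (LP (LK LD1_c3 LD2_c28 LD3_c6))))))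
theorem f520960 : Led Lsl_ft K33.v2286 = (LP (LK LD1_c1 LD2_c45 LD3_c36)) :=
  Lgr Lrot101 (Lpr_af (K42.f520959 IH) (Lpr_ff (f519862 IH) (Lpe (f519854 IH) (Lpn (LP (LK LD1_c1 LD2_c45 LD3_c36))))))
theorem f660482 : Led Lsl_cf K33.v2286 = v7036 :=
  Lgr Lrot108 (Lpr_ft (f520960 IH) (Lpr_ct (K29.f467465 IH) (Lpr_ft (f660480 IH) (Lpn v7036))))
theorem f446443 : Led Lsl_ct (LP (LK LD1_c3 LD2_c28 LD3_c3)) = (LP (LK LD1_c1 LD2_c40 LD3_c39)) :=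
  Lre_c IH (LK LD1_c3 LD2_c28 LD3_c3) (LK LD1_c1 LD2_c40 LD3_c39) Lrfl Lrfl
theorem f660488 : Led Lsl_gf (LP (LK LD1_c7 LD2_c6 LD3_c38)) = K35.v2767 :=
  Lgr Lrot124 (Lpe (K33.f481182 IH) (Lpe (K48.f481184 IH) (Lpe (K47.f628282 IH) (Lpe (K62.f462016 IH) (Lpr_bt (f462015 IH) (Lpr_gt (f660487 IH) (Lpe (f660482 IH) (Lpe (K33.f511700 IH) (Lpe (f446443 IH) (Lpr_bt (K41.f535402 IH) (Lpn K35.v2767)))))))))))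
def v21237 : LQ := Led Lsl_ft (LP (LK LD1_c7 LD2_c15 LD3_c21))
theorem f794665 : Led Lsl_ft (LP (LK LD1_c7 LD2_c15 LD3_c21)) = v21237 :=
  Lrfl
theorem f794668 : Led Lsl_ff (LP (LK LD1_c7 LD2_c15 LD3_c21)) = v21237 :=
  Lgr Lrot3 (Lpr_ft (f794665 IH) (Lpn v21237))
theorem f794669 : Led Lsl_bt v7036 = v21237 :=
  Lgr Lrot35 (Lpe (f660480 IH) (Lpe (K33.f467499 IH) (Lpr_ff (f794668 IH) (Lpn v21237))))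
theorem f835403 : Led Lsl_gf v21237 = v26705 :=
  Lgr Lrot124 (Lpe (f794669 IH) (Lpe (f660482 IH) (Lpe (K33.f511700 IH) (Lpe (f446443 IH) (Lpr_bt (K41.f535402 IH) (Lpe (f660488 IH) (Lpr_ct (K33.f467928 IH) (Lpr_gt (f795259 IH) (Lpe (f795255 IH) (Lpr_bt (f835396 IH) (Lpn v26705)))))))))))
theorem f520455 : Led Lsl_ff (LP (LK LD1_c7 LD2_c47 LD3_c46)) = (LP (LK LD1_c7 LD2_c40 LD3_c10)) :=
  Lgr Lrot25 (Lpr_bt (K63.f474081 IH) (Lpr_ft (K33.f520451 IH) (Lpr_bt (K33.f461740 IH) (Lpn (LP (LK LD1_c7 LD2_c40 LD3_c10))))))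
theorem f794670 : Led Lsl_ct (LP (LK LD1_c7 LD2_c47 LD3_c46)) = v21237 :=
  Lgr Lrot40 (Lpr_ff (f520455 IH) (Lpe (K57.f467467 IH) (Lpr_ff (f794668 IH) (Lpn v21237))))
theorem f474020 : Led Lsl_bt (LP (LK LD1_c13 LD2_c37 LD3_c4)) = (LP (LK LD1_c7 LD2_c11 LD3_c14)) :=
  Lre_b IH (LK LD1_c13 LD2_c37 LD3_c4) (LK LD1_c7 LD2_c11 LD3_c14) Lrfl Lrfl
theorem f835404 : Led Lsl_ct (LP (LK LD1_c13 LD2_c37 LD3_c4)) = v26705 :=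
  Lgr Lrot64 (Lpr_bt (f474020 IH) (Lpe (K55.f456761 IH) (Lpr_bf (K47.f473966 IH) (Lpr_ct (K29.f461300 IH) (Lpe (K29.f473960 IH) (Lpe (K29.f129658 IH) (Lpe (K29.f474079 IH) (Lpe (K63.f474081 IH) (Lpr_ct (f794670 IH) (Lpr_gf (f835403 IH) (Lpn v26705)))))))))))
theorem f484265 : Led Lsl_at (LP (LK LD1_c23 LD2_c1 LD3_c44)) = (LP (LK LD1_c13 LD2_c37 LD3_c4)) :=
  Lre_a IH (LK LD1_c23 LD2_c1 LD3_c44) (LK LD1_c13 LD2_c37 LD3_c4) Lrfl Lrfl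
theorem f835410 : Led Lsl_ct (LP (LK LD1_c13 LD2_c43 LD3_c57)) = (LP (LK LD1_c23 LD2_c1 LD3_c44)) :=
  Lgr Lrot111 (Lpr_af (f835408 IH) (Lpe (f835404 IH) (Lpe (f484265 IH) (Lpn (LP (LK LD1_c23 LD2_c1 LD3_c44))))))
theorem f835411 : Led Lsl_ct (LP (LK LD1_c13 LD2_c43 LD3_c57)) = (LP (LK LD1_c23 LD2_c1 LD3_c44)) :=
  Leop (Lpe (f835410 IH) (Lpn (LP (LK LD1_c13 LD2_c43 LD3_c57))))
theorem seed_1921 : LEOK LG_c (LK LD1_c13 LD2_c43 LD3_c57) :=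
  Leoe_c (LK LD1_c13 LD2_c43 LD3_c57) (f835411 IH)
def v26829 : LQ := Led Lsl_ft K63.v6972
theorem f835960 : Led Lsl_ft K63.v6972 = v26829 :=
  Lrfl
theorem f835965 : Led Lsl_ff K63.v6972 = v26829 :=
  Lgr Lrot3 (Lpr_ft (f835960 IH) (Lpn v26829))
theorem f835970 : Led Lsl_gf K61.v10945 = v26829 :=
  Lgr Lrot47 (Lpe (K61.f682631 IH) (Lpr_af (K63.f682633 IH) (Lpq (K63.f792134 IH) (Lpr_ff (f835965 IH) (Lpn v26829)))))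
theorem f792120 : Led Lsl_ff (LP (LK LD1_c7 LD2_c11 LD3_c35)) = K61.v20508 :=
  Lgr Lrot23 (Lpr_ct (K61.f107819 IH) (Lpr_ft (K61.f659747 IH) (Lpq (K61.f792114 IH) (Lpq (K61.f787443 IH) (Lpr_ct (K61.f787442 IH) (Lpn K61.v20508))))))
def v20507 : LQ := Led Lsl_gt (LP (LK LD1_c6 LD2_c58 LD3_c40))
theorem f787430 : Led Lsl_gt (LP (LK LD1_c6 LD2_c58 LD3_c40)) = v20507 :=
  Lrfl
theorem f792122 : Led Lsl_at (LP (LK LD1_c7 LD2_c11 LD3_c35)) = v20507 :=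
  Lgr Lrot26 (Lpr_ff (f792120 IH) (Lpe (K61.f787432 IH) (Lpr_gt (f787430 IH) (Lpn v20507))))
theorem f792124 : Led Lsl_cf K61.v6974 = v20507 :=
  Lgr Lrot1 (Lpe (K61.f659738 IH) (Lpr_ct (K61.f107818 IH) (Lpr_at (f792122 IH) (Lpn v20507))))
theorem f835968 : Led Lsl_ct K63.v20481 = v26829 :=
  Lgr Lrot40 (Lpe (K63.f787272 IH) (Lpe (K63.f672976 IH) (Lpr_ff (f835965 IH) (Lpn v26829))))
theorem f64376 : Led Lsl_bt (LP (LK LD1_c3 LD2_c31 LD3_c52)) = (LP (LK LD1_c7 LD2_c5 LD3_c14)) :=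
  Lre_b IH (LK LD1_c3 LD2_c31 LD3_c52) (LK LD1_c7 LD2_c5 LD3_c14) Lrfl Lrfl
theorem f64377 : Led Lsl_gt (LP (LK LD1_c13 LD2_c26 LD3_c3)) = (LP (LK LD1_c7 LD2_c5 LD3_c14)) :=
  Lre_g IH (LK LD1_c13 LD2_c26 LD3_c3) (LK LD1_c7 LD2_c5 LD3_c14) Lrfl Lrfl
theorem f835972 : Led Lsl_bt v20507 = (LP (LK LD1_c13 LD2_c26 LD3_c3)) :=
  Lgr Lrot22 (Lpe (f792124 IH) (Lpqs (K61.f792126 IH) (Lpr_gf (f835970 IH) (Lpe (f835968 IH) (Lpqs (f792154 IH) (Lpe (f672963 IH) (Lpe (K61.f514696 IH) (Lpr_ct (K7.f11501 IH) (Lpr_gf (K2.f64365 IH) (Lpe (K5.f64370 IH) (Lpr_bt (f64376 IH) (Lpe (f64377 IH) (Lpn (LP (LK LD1_c13 LD2_c26 LD3_c3)))))))))))))))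
theorem f19315 : Led Lsl_bt (LP (LK LD1_c6 LD2_c57 LD3_c61)) = (LP (LK LD1_c3 LD2_c27 LD3_c55)) :=
  Lre_b IH (LK LD1_c6 LD2_c57 LD3_c61) (LK LD1_c3 LD2_c27 LD3_c55) Lrfl Lrfl
theorem f19325 : Led Lsl_bt (LP (LK LD1_c3 LD2_c27 LD3_c54)) = (LP (LK LD1_c6 LD2_c57 LD3_c59)) :=
  Lre_b IH (LK LD1_c3 LD2_c27 LD3_c54) (LK LD1_c6 LD2_c57 LD3_c59) Lrfl Lrfl
theorem f19326 : Led Lsl_gt (LP (LK LD1_c6 LD2_c57 LD3_c59)) = (LP (LK LD1_c13 LD2_c13 LD3_c32)) :=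
  Lre_g IH (LK LD1_c6 LD2_c57 LD3_c59) (LK LD1_c13 LD2_c13 LD3_c32) Lrfl Lrfl
theorem f19327 : Led Lsl_bt (LP (LK LD1_c22 LD2_c27 LD3_c58)) = (LP (LK LD1_c13 LD2_c13 LD3_c32)) :=
  Lre_b IH (LK LD1_c22 LD2_c27 LD3_c58) (LK LD1_c13 LD2_c13 LD3_c32) Lrfl Lrfl
theorem f107907 : Led Lsl_cf (LP (LK LD1_c13 LD2_c27 LD3_c22)) = (LP (LK LD1_c22 LD2_c27 LD3_c58)) :=
  Lgr Lrot160 (Lpr_gt (K62.f107891 IH) (Lpr_cf (K47.f107886 IH) (Lpr_bt (f19315 IH) (Lpe (K4.f19312 IH) (Lpr_ct (K61.f18109 IH) (Lpr_gt (K4.f19319 IH) (Lpe (K5.f19324 IH) (Lpr_bt (f19325 IH) (Lpr_gt (f19326 IH) (Lpe (f19327 IH) (Lpn (LP (LK LD1_c22 LD2_c27 LD3_c58)))))))))))))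
theorem f794104 : Led Lsl_af (LP (LK LD1_c22 LD2_c27 LD3_c58)) = (LP (LK LD1_c13 LD2_c37 LD3_c35)) :=
  Lgr Lrot68 (Lpe (f107907 IH) (Lpq (K62.f794101 IH) (Lpe (K62.f792246 IH) (Lpr_ct (K61.f107810 IH) (Lpn (LP (LK LD1_c13 LD2_c37 LD3_c35)))))))
theorem f794106 : Led Lsl_at (LP (LK LD1_c22 LD2_c27 LD3_c58)) = (LP (LK LD1_c13 LD2_c37 LD3_c35)) :=
  Lgr Lrot100 (Lpr_af (f794104 IH) (Lpn (LP (LK LD1_c13 LD2_c37 LD3_c35))))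
theorem f107909 : Led Lsl_bt (LP (LK LD1_c13 LD2_c13 LD3_c32)) = (LP (LK LD1_c22 LD2_c27 LD3_c58)) :=
  Lre_b IH (LK LD1_c13 LD2_c13 LD3_c32) (LK LD1_c22 LD2_c27 LD3_c58) Lrfl Lrfl
theorem f835973 : Led Lsl_af (LP (LK LD1_c13 LD2_c13 LD3_c32)) = (LP (LK LD1_c13 LD2_c26 LD3_c3)) :=
  Lgr Lrot36 (Lpr_bt (f107909 IH) (Lpr_at (f794106 IH) (Lpr_bt (K63.f107825 IH) (Lpr_at (f792122 IH) (Lpr_bt (f835972 IH) (Lpn (LP (LK LD1_c13 LD2_c26 LD3_c3))))))))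
theorem f835974 : Led Lsl_at (LP (LK LD1_c13 LD2_c26 LD3_c3)) = (LP (LK LD1_c13 LD2_c13 LD3_c32)) :=
  Leop (Lpr_af (f835973 IH) (Lpn (LP (LK LD1_c13 LD2_c26 LD3_c3))))
theorem seed_1922 : LEOK LG_a (LK LD1_c13 LD2_c26 LD3_c3) :=
  Leoe_a (LK LD1_c13 LD2_c26 LD3_c3) (f835974 IH)
def v6986 : LQ := Led Lsl_bt (LP (LK LD1_c3 LD2_c35 LD3_c23))
def v26857 : LQ := Led Lsl_ct v6986
theorem f836129 : Led Lsl_ct v6986 = v26857 :=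
  Lrfl
theorem f659791 : Led Lsl_bt (LP (LK LD1_c3 LD2_c35 LD3_c23)) = v6986 :=
  Lrfl
theorem f135606 : Led Lsl_bt (LP (LK LD1_c4 LD2_c50 LD3_c8)) = (LP (LK LD1_c2 LD2_c22 LD3_c53)) :=
  Lre_b IH (LK LD1_c4 LD2_c50 LD3_c8) (LK LD1_c2 LD2_c22 LD3_c53) Lrfl Lrfl
theorem f659793 : Led Lsl_ef (LP (LK LD1_c4 LD2_c50 LD3_c8)) = v6986 :=
  Lgr Lrot29 (Lpr_bt (f135606 IH) (Lpr_et (K52.f435251 IH) (Lpr_bt (f659791 IH) (Lpn v6986))))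
theorem f659796 : Led Lsl_et (LP (LK LD1_c4 LD2_c50 LD3_c8)) = v6986 :=
  Lgr Lrot87 (Lpr_ef (f659793 IH) (Lpn v6986))
theorem f415927 : Led Lsl_ct (LP (LK LD1_c9 LD2_c32 LD3_c41)) = (LP (LK LD1_c4 LD2_c50 LD3_c8)) :=
  Lre_c IH (LK LD1_c9 LD2_c32 LD3_c41) (LK LD1_c4 LD2_c50 LD3_c8) Lrfl Lrfl
theorem f836131 : Led Lsl_ef (LP (LK LD1_c9 LD2_c32 LD3_c41)) = v26857 :=
  Lgr Lrot28 (Lpr_ct (f415927 IH) (Lpr_et (f659796 IH) (Lpr_ct (f836129 IH) (Lpn v26857))))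
theorem f836135 : Led Lsl_et (LP (LK LD1_c9 LD2_c32 LD3_c41)) = v26857 :=
  Lgr Lrot87 (Lpr_ef (f836131 IH) (Lpn v26857))
theorem f633947 : Led Lsl_dt (LP (LK LD1_c9 LD2_c32 LD3_c41)) = (LP (LK LD1_c17 LD2_c34 LD3_c57)) :=
  Lre_d IH (LK LD1_c9 LD2_c32 LD3_c41) (LK LD1_c17 LD2_c34 LD3_c57) Lrfl Lrfl
theorem f659792 : Led Lsl_bf (LP (LK LD1_c3 LD2_c35 LD3_c23)) = v6986 :=
  Lgr Lrot24 (Lpr_bt (f659791 IH) (Lpn v6986))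
def v1893 : LQ := Led Lsl_ft (LP (LK LD1_c1 LD2_c30 LD3_c59))
theorem f506275 : Led Lsl_ft (LP (LK LD1_c1 LD2_c30 LD3_c59)) = v1893 :=
  Lrfl
theorem f506278 : Led Lsl_ff (LP (LK LD1_c1 LD2_c30 LD3_c59)) = v1893 :=
  Lgr Lrot3 (Lpr_ft (f506275 IH) (Lpn v1893))
theorem f506280 : Led Lsl_et (LP (LK LD1_c4 LD2_c42 LD3_c34)) = v1893 :=
  Lgr Lrot69 (Lpe (K11.f86092 IH) (Lpe (K11.f86083 IH) (Lpr_ff (K11.f433560 IH) (Lpe (K49.f83156 IH) (Lpr_ff (f506278 IH) (Lpn v1893))))))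
theorem f506282 : Led Lsl_gt (LP (LK LD1_c3 LD2_c35 LD3_c23)) = v1893 :=
  Lgr Lrot131 (Lpe (K52.f435251 IH) (Lpr_dt (K32.f25587 IH) (Lpe (K32.f25586 IH) (Lpe (K32.f25542 IH) (Lpe (K32.f24671 IH) (Lpe (K32.f154227 IH) (Lpe (K32.f154228 IH) (Lpe (K32.f433543 IH) (Lpe (K32.f86094 IH) (Lpr_et (f506280 IH) (Lpn v1893)))))))))))
theorem f648183 : Led Lsl_ff (LP (LK LD1_c3 LD2_c9 LD3_c37)) = K49.v5549 :=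
  Lgr Lrot3 (Lpr_ft (K49.f648180 IH) (Lpn K49.v5549))
theorem f648184 : Led Lsl_ct v1893 = K49.v5549 :=
  Lgr Lrot40 (Lpe (f506275 IH) (Lpe (K49.f83166 IH) (Lpr_ff (f648183 IH) (Lpn K49.v5549))))
def v6983 : LQ := Led Lsl_gf (LP (LK LD1_c3 LD2_c35 LD3_c22))
theorem f659772 : Led Lsl_gf (LP (LK LD1_c3 LD2_c35 LD3_c22)) = v6983 :=
  Lrfl
theorem f155884 : Led Lsl_et (LP (LK LD1_c3 LD2_c35 LD3_c22)) = (LP (LK LD1_c1 LD2_c44 LD3_c31)) :=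
  Lre_e IH (LK LD1_c3 LD2_c35 LD3_c22) (LK LD1_c1 LD2_c44 LD3_c31) Lrfl Lrfl
theorem f433509 : Led Lsl_at (LP (LK LD1_c3 LD2_c9 LD3_c37)) = (LP (LK LD1_c3 LD2_c35 LD3_c22)) :=
  Lgr Lrot80 (Lpe (K49.f154644 IH) (Lpr_af (K11.f433500 IH) (Lpe (f155884 IH) (Lpn (LP (LK LD1_c3 LD2_c35 LD3_c22))))))
theorem f659773 : Led Lsl_gt K49.v5549 = v6983 :=
  Lgr Lrot5 (Lpe (f648183 IH) (Lpr_at (f433509 IH) (Lpr_gf (f659772 IH) (Lpn v6983))))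
def v13942 : LQ := Led Lsl_gf (LP (LK LD1_c4 LD2_c50 LD3_c18))
theorem f716350 : Led Lsl_gf (LP (LK LD1_c4 LD2_c50 LD3_c18)) = v13942 :=
  Lrfl
theorem f86024 : Led Lsl_et (LP (LK LD1_c2 LD2_c22 LD3_c56)) = (LP (LK LD1_c1 LD2_c8 LD3_c37)) :=
  Lre_e IH (LK LD1_c2 LD2_c22 LD3_c56) (LK LD1_c1 LD2_c8 LD3_c37) Lrfl Lrfl
theorem f154639 : Led Lsl_et (LP (LK LD1_c1 LD2_c44 LD3_c31)) = (LP (LK LD1_c3 LD2_c35 LD3_c22)) :=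
  Lre_e IH (LK LD1_c1 LD2_c44 LD3_c31) (LK LD1_c3 LD2_c35 LD3_c22) Lrfl Lrfl
def v6982 : LQ := Led Lsl_gt (LP (LK LD1_c3 LD2_c35 LD3_c22))
theorem f659768 : Led Lsl_gt (LP (LK LD1_c3 LD2_c35 LD3_c22)) = v6982 :=
  Lrfl
theorem f7521 : Led Lsl_dt (LP (LK LD1_c4 LD2_c50 LD3_c18)) = (LP (LK LD1_c2 LD2_c22 LD3_c56)) :=
  Lre_d IH (LK LD1_c4 LD2_c50 LD3_c18) (LK LD1_c2 LD2_c22 LD3_c56) Lrfl Lrfl
theorem f68403 : Led Lsl_gt (LP (LK LD1_c6 LD2_c32 LD3_c41)) = (LP (LK LD1_c6 LD2_c3 LD3_c20)) :=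
  Lre_g IH (LK LD1_c6 LD2_c32 LD3_c41) (LK LD1_c6 LD2_c3 LD3_c20) Lrfl Lrfl
theorem f716353 : Led Lsl_dt (LP (LK LD1_c6 LD2_c3 LD3_c20)) = v13942 :=
  Lgr Lrot57 (Lpe (f68403 IH) (Lpe (K29.f68408 IH) (Lpr_gt (K54.f135598 IH) (Lpr_dt (K32.f25587 IH) (Lpr_gt (K32.f135597 IH) (Lpr_dt (K16.f135600 IH) (Lpe (K31.f135601 IH) (Lpe (f7521 IH) (Lpr_gf (f716350 IH) (Lpn v13942))))))))))
theorem f716356 : Led Lsl_ef v6982 = (LP (LK LD1_c6 LD2_c3 LD3_c20)) :=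
  Lgr Lrot17 (Lpe (f659768 IH) (Lpe (f154639 IH) (Lpr_dt (K7.f154637 IH) (Lpe (K7.f154640 IH) (Lpe (K7.f25778 IH) (Lpr_gf (K3.f86017 IH) (Lpe (f86024 IH) (Lpr_dt (K0.f7495 IH) (Lpr_gf (f716350 IH) (Lpe (f716353 IH) (Lpn (LP (LK LD1_c6 LD2_c3 LD3_c20)))))))))))))
theorem f716359 : Led Lsl_et v6982 = (LP (LK LD1_c6 LD2_c3 LD3_c20)) :=
  Lgr Lrot87 (Lpr_ef (f716356 IH) (Lpn (LP (LK LD1_c6 LD2_c3 LD3_c20))))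
def v5114 : LQ := Led Lsl_et (LP (LK LD1_c2 LD2_c57 LD3_c46))
theorem f645995 : Led Lsl_et (LP (LK LD1_c2 LD2_c57 LD3_c46)) = v5114 :=
  Lrfl
theorem f716361 : Led Lsl_cf v6982 = v5114 :=
  Lgr Lrot39 (Lpr_et (f716359 IH) (Lpr_ct (K56.f415855 IH) (Lpr_et (f645995 IH) (Lpn v5114))))
theorem f659781 : Led Lsl_af K49.v5549 = K49.v6985 :=
  Lgr Lrot45 (Lpe (f648183 IH) (Lpr_at (f433509 IH) (Lpr_ft (K49.f659780 IH) (Lpn K49.v6985))))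
theorem f659785 : Led Lsl_gt v6982 = K49.v5549 :=
  Lgr Lrot46 (Lpe (f659768 IH) (Lpr_ft (K49.f659780 IH) (Lpe (f659781 IH) (Lpn K49.v5549))))
theorem f83161 : Led Lsl_ct (LP (LK LD1_c1 LD2_c30 LD3_c59)) = (LP (LK LD1_c3 LD2_c9 LD3_c37)) :=
  Lre_c IH (LK LD1_c1 LD2_c30 LD3_c59) (LK LD1_c3 LD2_c9 LD3_c37) Lrfl Lrfl
theorem f648181 : Led Lsl_cf v1893 = K49.v5549 :=
  Lgr Lrot108 (Lpe (f506278 IH) (Lpr_ct (f83161 IH) (Lpr_ft (K49.f648180 IH) (Lpn K49.v5549))))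
def v2005 : LQ := Led Lsl_ft (LP (LK LD1_c1 LD2_c33 LD3_c18))
theorem f506852 : Led Lsl_ft (LP (LK LD1_c1 LD2_c33 LD3_c18)) = v2005 :=
  Lrfl
theorem f506854 : Led Lsl_ff (LP (LK LD1_c1 LD2_c33 LD3_c18)) = v2005 :=
  Lgr Lrot3 (Lpr_ft (f506852 IH) (Lpn v2005))
theorem f506855 : Led Lsl_dt v1893 = v2005 :=
  Lgr Lrot60 (Lpe (f506275 IH) (Lpr_df (K49.f83158 IH) (Lpr_ff (f506854 IH) (Lpn v2005))))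
theorem f671045 : Led Lsl_cf v2005 = K49.v8372 :=
  Lgr Lrot108 (Lpe (f506854 IH) (Lpr_ct (K49.f506848 IH) (Lpr_ft (K49.f671044 IH) (Lpn K49.v8372))))
def v9867 : LQ := Led Lsl_gt K49.v3099
theorem f677863 : Led Lsl_gt K49.v3099 = v9867 :=
  Lrfl
def v270 : LQ := Led Lsl_ct K35.v82
theorem f451473 : Led Lsl_ct K35.v82 = v270 :=
  Lrfl
theorem f451474 : Led Lsl_cf K35.v82 = v270 :=
  Lgr Lrot11 (Lpr_ct (f451473 IH) (Lpn v270))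
theorem f453704 : Led Lsl_gf v270 = K49.v509 :=
  Lgr Lrot104 (Lpe (f451474 IH) (Lpe (K35.f446813 IH) (Lpe (K2.f23397 IH) (Lpe (K7.f23404 IH) (Lpe (K7.f83143 IH) (Lpe (K7.f152317 IH) (Lpe (K55.f124161 IH) (Lpr_gt (K55.f156410 IH) (Lpr_ct (K49.f453698 IH) (Lpn K49.v509))))))))))
def v350 : LQ := Led Lsl_ct (LP (LK LD1_c0 LD2_c30 LD3_c49))
theorem f452352 : Led Lsl_ct (LP (LK LD1_c0 LD2_c30 LD3_c49)) = v350 :=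
  Lrfl
theorem f452353 : Led Lsl_af v270 = v350 :=
  Lgr Lrot68 (Lpe (f451474 IH) (Lpe (K35.f446814 IH) (Lpr_ct (f452352 IH) (Lpn v350))))
theorem f452354 : Led Lsl_cf (LP (LK LD1_c0 LD2_c30 LD3_c49)) = v350 :=
  Lgr Lrot11 (Lpr_ct (f452352 IH) (Lpn v350))
theorem f452355 : Led Lsl_ff v350 = v350 :=
  Lgr Lrot23 (Lpe (f452354 IH) (Lpr_ft (K35.f83106 IH) (Lpr_ct (f452352 IH) (Lpn v350))))
theorem f453705 : Led Lsl_gt v350 = K49.v509 :=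
  Lgr Lrot5 (Lpe (f452355 IH) (Lpe (f452353 IH) (Lpr_gf (f453704 IH) (Lpn K49.v509))))
theorem f453684 : Led Lsl_gf v350 = K49.v506 :=
  Lgr Lrot104 (Lpe (f452354 IH) (Lpe (K35.f26015 IH) (Lpe (K7.f23403 IH) (Lpr_gf (K7.f82540 IH) (Lpe (K7.f82542 IH) (Lpe (K7.f156421 IH) (Lpe (K7.f24282 IH) (Lpe (K7.f154144 IH) (Lpr_ct (K49.f453681 IH) (Lpn K49.v506))))))))))
theorem f453683 : Led Lsl_ff K49.v506 = K49.v506 :=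
  Lgr Lrot23 (Lpe (K49.f453682 IH) (Lpr_ft (K11.f433213 IH) (Lpr_ct (K49.f453681 IH) (Lpn K49.v506))))
theorem f453706 : Led Lsl_at K49.v506 = K49.v509 :=
  Lgr Lrot26 (Lpr_ff (f453683 IH) (Lpe (f453684 IH) (Lpr_gt (f453705 IH) (Lpn K49.v509))))
theorem f506851 : Led Lsl_et K49.v509 = K49.v2004 :=
  Lgr Lrot87 (Lpr_ef (K49.f506850 IH) (Lpn K49.v2004))
theorem f623865 : Led Lsl_at K49.v2004 = K49.v3099 :=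
  Lgr Lrot80 (Lpe (f506851 IH) (Lpe (f453706 IH) (Lpr_ef (K49.f623864 IH) (Lpn K49.v3099))))
theorem f671046 : Led Lsl_ff K49.v2004 = K49.v8372 :=
  Lgr Lrot3 (Lpr_ft (K49.f671044 IH) (Lpn K49.v8372))
theorem f677873 : Led Lsl_af K49.v8372 = K49.v9870 :=
  Lgr Lrot45 (Lpe (f671046 IH) (Lpr_at (f623865 IH) (Lpr_ft (K49.f677872 IH) (Lpn K49.v9870))))
theorem f677876 : Led Lsl_gt v9867 = K49.v8372 :=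
  Lgr Lrot46 (Lpe (f677863 IH) (Lpr_ft (K49.f677872 IH) (Lpe (f677873 IH) (Lpn K49.v8372))))
theorem f645998 : Led Lsl_gt K49.v1302 = v5114 :=
  Lgr Lrot131 (Lpe (K49.f494711 IH) (Lpr_dt (K7.f61260 IH) (Lpe (K6.f25813 IH) (Lpe (K6.f25786 IH) (Lpr_gf (K3.f82789 IH) (Lpe (K6.f77109 IH) (Lpr_dt (K32.f67062 IH) (Lpe (K31.f415839 IH) (Lpe (K32.f415844 IH) (Lpr_et (f645995 IH) (Lpn v5114)))))))))))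
theorem f716363 : v9867 = K49.v11089 :=
  (Llr Lrot104 (Lpr_gt (f677876 IH) (Lpe (f671045 IH) (Lpe (f506855 IH) (Lpr_cf (f648181 IH) (Lpe (f659785 IH) (Lpr_cf (f716361 IH) (Lpe (f645998 IH) (Lpe (K49.f494718 IH) (Lpr_gt (K49.f626406 IH) (Lpr_ct (K49.f683071 IH) (Lpn K49.v11089)))))))))))).symm
theorem f683077 : Led Lsl_ff K49.v8369 = K49.v11089 :=
  Lgr Lrot3 (Lpr_ft (K49.f683075 IH) (Lpn K49.v11089))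
def v11091 : LQ := Led Lsl_ct K49.v3603
theorem f683085 : Led Lsl_ct K49.v3603 = v11091 :=
  Lrfl
theorem f670003 : Led Lsl_at K49.v3603 = K49.v3606 :=
  Lgr Lrot100 (Lpr_af (K49.f670002 IH) (Lpn K49.v3606))
theorem f670008 : Led Lsl_ff K49.v3603 = K49.v3605 :=
  Lgr Lrot30 (Lpr_at (f670003 IH) (Lpe (K49.f670005 IH) (Lpr_at (K49.f670006 IH) (Lpn K49.v3605))))
theorem f683089 : Led Lsl_ff K49.v8368 = v11091 :=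
  Lgr Lrot23 (Lpe (K49.f679089 IH) (Lpe (f670008 IH) (Lpr_ct (f683085 IH) (Lpn v11091))))
theorem f683074 : Led Lsl_at K49.v8368 = K49.v11089 :=
  Lgr Lrot107 (Lpe (K49.f679088 IH) (Lpe (K49.f670006 IH) (Lpr_cf (K49.f683073 IH) (Lpn K49.v11089))))
theorem f683090 : Led Lsl_at K49.v8369 = v11091 :=
  Lgr Lrot66 (Lpr_ff (f683077 IH) (Lpe (f683074 IH) (Lpr_ff (f683089 IH) (Lpn v11091))))
def v9868 : LQ := Led Lsl_gf K49.v3099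
theorem f677864 : Led Lsl_gf K49.v3099 = v9868 :=
  Lrfl
theorem f677865 : Led Lsl_gt K49.v8372 = v9868 :=
  Lgr Lrot5 (Lpe (f671046 IH) (Lpr_at (f623865 IH) (Lpr_gf (f677864 IH) (Lpn v9868))))
theorem f716364 : v11091 = v9868 :=
  (Llr Lrot26 (Lpe (f683090 IH) (Lpr_ff (f683077 IH) (Lpq (f716363 IH) (Lpr_gt (f677876 IH) (Lpr_gt (f677865 IH) (Lpn v9868))))))).symm
def v1892 : LQ := Led Lsl_ft (LP (LK LD1_c1 LD2_c30 LD3_c41))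
theorem f506272 : Led Lsl_ft (LP (LK LD1_c1 LD2_c30 LD3_c41)) = v1892 :=
  Lrfl
theorem f506273 : Led Lsl_ff (LP (LK LD1_c1 LD2_c30 LD3_c41)) = v1892 :=
  Lgr Lrot3 (Lpr_ft (f506272 IH) (Lpn v1892))
theorem f626416 : Led Lsl_df v1892 = K49.v3607 :=
  Lgr Lrot78 (Lpe (f506273 IH) (Lpr_dt (K49.f490768 IH) (Lpr_ft (K49.f626414 IH) (Lpn K49.v3607))))
def v5526 : LQ := Led Lsl_at (LP (LK LD1_c3 LD2_c9 LD3_c3))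
theorem f648089 : Led Lsl_at (LP (LK LD1_c3 LD2_c9 LD3_c3)) = v5526 :=
  Lrfl
theorem f645676 : Led Lsl_ff (LP (LK LD1_c2 LD2_c57 LD3_c46)) = (LP (LK LD1_c3 LD2_c24 LD3_c15)) :=
  Lgr Lrot19 (Lpr_dt (K32.f415844 IH) (Lpq (K49.f645316 IH) (Lpe (K49.f510446 IH) (Lpr_dt (K24.f26067 IH) (Lpn (LP (LK LD1_c3 LD2_c24 LD3_c15)))))))
theorem f645682 : Led Lsl_at (LP (LK LD1_c2 LD2_c57 LD3_c46)) = K49.v3215 :=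
  Lgr Lrot26 (Lpr_ff (f645676 IH) (Lpe (K24.f82609 IH) (Lpr_gt (K49.f624636 IH) (Lpn K49.v3215))))
theorem f645683 : Led Lsl_af (LP (LK LD1_c2 LD2_c57 LD3_c46)) = K49.v3215 :=
  Lgr Lrot0 (Lpr_at (f645682 IH) (Lpn K49.v3215))
theorem f645996 : Led Lsl_af K49.v1891 = v5114 :=
  Lgr Lrot50 (Lpr_et (K49.f624638 IH) (Lpe (f645683 IH) (Lpr_et (f645995 IH) (Lpn v5114))))
theorem f646001 : Led Lsl_ft (LP (LK LD1_c3 LD2_c9 LD3_c3)) = v5114 :=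
  Lgr Lrot2 (Lpr_gt (K49.f154385 IH) (Lpr_gt (K49.f506269 IH) (Lpr_af (f645996 IH) (Lpn v5114))))
theorem f646002 : Led Lsl_ff (LP (LK LD1_c3 LD2_c9 LD3_c3)) = v5114 :=
  Lgr Lrot3 (Lpr_ft (f646001 IH) (Lpn v5114))
def v4296 : LQ := Led Lsl_ft (LP (LK LD1_c2 LD2_c18 LD3_c33))
theorem f632483 : Led Lsl_ft (LP (LK LD1_c2 LD2_c18 LD3_c33)) = v4296 :=
  Lrfl
theorem f632486 : Led Lsl_ff (LP (LK LD1_c2 LD2_c18 LD3_c33)) = v4296 :=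
  Lgr Lrot3 (Lpr_ft (f632483 IH) (Lpn v4296))
theorem f447290 : Led Lsl_ft (LP (LK LD1_c1 LD2_c6 LD3_c17)) = (LP (LK LD1_c0 LD2_c41 LD3_c51)) :=
  Lgr Lrot54 (Lpe (K7.f82864 IH) (Lpr_ff (K49.f447286 IH) (Lpe (K7.f25820 IH) (Lpn (LP (LK LD1_c0 LD2_c41 LD3_c51))))))
theorem f447292 : Led Lsl_ff (LP (LK LD1_c2 LD2_c18 LD3_c32)) = (LP (LK LD1_c1 LD2_c30 LD3_c40)) :=
  Lgr Lrot23 (Lpr_ct (K7.f82867 IH) (Lpr_ft (f447290 IH) (Lpr_ct (K6.f25815 IH) (Lpn (LP (LK LD1_c1 LD2_c30 LD3_c40))))))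
theorem f447298 : Led Lsl_ft (LP (LK LD1_c2 LD2_c18 LD3_c32)) = (LP (LK LD1_c1 LD2_c30 LD3_c40)) :=
  Lgr Lrot48 (Lpr_ff (f447292 IH) (Lpn (LP (LK LD1_c1 LD2_c30 LD3_c40))))
theorem f447302 : Led Lsl_af (LP (LK LD1_c2 LD2_c18 LD3_c28)) = (LP (LK LD1_c1 LD2_c30 LD3_c40)) :=
  Lgr Lrot31 (Lpr_gf (K6.f135468 IH) (Lpe (K7.f152195 IH) (Lpr_ft (f447298 IH) (Lpn (LP (LK LD1_c1 LD2_c30 LD3_c40))))))
theorem f447300 : Led Lsl_ff (LP (LK LD1_c1 LD2_c30 LD3_c45)) = (LP (LK LD1_c2 LD2_c18 LD3_c28)) :=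
  Lgr Lrot19 (Lpe (K32.f154900 IH) (Lpr_ft (f447298 IH) (Lpe (K6.f135283 IH) (Lpn (LP (LK LD1_c2 LD2_c18 LD3_c28))))))
theorem f447304 : Led Lsl_at (LP (LK LD1_c1 LD2_c30 LD3_c45)) = (LP (LK LD1_c2 LD2_c18 LD3_c32)) :=
  Lgr Lrot66 (Lpr_ff (f447300 IH) (Lpr_af (f447302 IH) (Lpe (f447298 IH) (Lpn (LP (LK LD1_c2 LD2_c18 LD3_c32))))))
theorem f154911 : Led Lsl_et (LP (LK LD1_c3 LD2_c9 LD3_c10)) = (LP (LK LD1_c1 LD2_c30 LD3_c45)) :=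
  Lre_e IH (LK LD1_c3 LD2_c9 LD3_c10) (LK LD1_c1 LD2_c30 LD3_c45) Lrfl Lrfl
theorem f155873 : Led Lsl_et (LP (LK LD1_c2 LD2_c18 LD3_c32)) = (LP (LK LD1_c4 LD2_c42 LD3_c21)) :=
  Lre_e IH (LK LD1_c2 LD2_c18 LD3_c32) (LK LD1_c4 LD2_c42 LD3_c21) Lrfl Lrfl
theorem f447306 : Led Lsl_af (LP (LK LD1_c3 LD2_c9 LD3_c10)) = (LP (LK LD1_c4 LD2_c42 LD3_c21)) :=
  Lgr Lrot50 (Lpr_et (f154911 IH) (Lpr_at (f447304 IH) (Lpr_et (f155873 IH) (Lpn (LP (LK LD1_c4 LD2_c42 LD3_c21))))))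
theorem f435103 : Led Lsl_ct (LP (LK LD1_c3 LD2_c9 LD3_c10)) = (LP (LK LD1_c1 LD2_c30 LD3_c46)) :=
  Lre_c IH (LK LD1_c3 LD2_c9 LD3_c10) (LK LD1_c1 LD2_c30 LD3_c46) Lrfl Lrfl
theorem f152256 : Led Lsl_ct (LP (LK LD1_c2 LD2_c18 LD3_c33)) = (LP (LK LD1_c4 LD2_c42 LD3_c21)) :=
  Lre_c IH (LK LD1_c2 LD2_c18 LD3_c33) (LK LD1_c4 LD2_c42 LD3_c21) Lrfl Lrfl
theorem f447315 : Led Lsl_at (LP (LK LD1_c1 LD2_c30 LD3_c46)) = (LP (LK LD1_c2 LD2_c18 LD3_c33)) :=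
  Lgr Lrot107 (Lpe (f435103 IH) (Lpr_af (f447306 IH) (Lpe (f152256 IH) (Lpn (LP (LK LD1_c2 LD2_c18 LD3_c33))))))
theorem f447318 : Led Lsl_af (LP (LK LD1_c1 LD2_c30 LD3_c46)) = (LP (LK LD1_c2 LD2_c18 LD3_c33)) :=
  Lgr Lrot0 (Lpr_at (f447315 IH) (Lpn (LP (LK LD1_c2 LD2_c18 LD3_c33))))
theorem f632490 : Led Lsl_gf (LP (LK LD1_c3 LD2_c9 LD3_c12)) = v4296 :=
  Lgr Lrot47 (Lpr_gt (K35.f155861 IH) (Lpr_af (f447318 IH) (Lpr_ff (f632486 IH) (Lpn v4296))))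
theorem f632488 : Led Lsl_dt v4296 = v4296 :=
  Lgr Lrot60 (Lpe (f632483 IH) (Lpr_df (K24.f152190 IH) (Lpr_ff (f632486 IH) (Lpn v4296))))
theorem f447284 : Led Lsl_ff (LP (LK LD1_c1 LD2_c6 LD3_c17)) = (LP (LK LD1_c0 LD2_c41 LD3_c51)) :=
  Lgr Lrot19 (Lpr_dt (K24.f82866 IH) (Lpr_ft (K49.f447280 IH) (Lpr_dt (K1.f25807 IH) (Lpn (LP (LK LD1_c0 LD2_c41 LD3_c51))))))
theorem f632485 : Led Lsl_ef v1892 = v4296 :=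
  Lgr Lrot21 (Lpe (f506273 IH) (Lpr_et (K49.f25841 IH) (Lpe (f447284 IH) (Lpr_et (K24.f152189 IH) (Lpr_ft (f632483 IH) (Lpn v4296))))))
theorem f645999 : Led Lsl_gf v1892 = v5114 :=
  Lgr Lrot141 (Lpr_ef (f632485 IH) (Lpr_dt (f632488 IH) (Lpe (f632490 IH) (Lpe (K35.f435098 IH) (Lpr_et (K35.f77739 IH) (Lpr_gt (K35.f83919 IH) (Lpe (K2.f83255 IH) (Lpe (K31.f415841 IH) (Lpe (K32.f415844 IH) (Lpr_et (f645995 IH) (Lpn v5114)))))))))))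
theorem f648092 : Led Lsl_gt v1892 = v5526 :=
  Lgr Lrot46 (Lpr_gf (f645999 IH) (Lpe (f646002 IH) (Lpr_at (f648089 IH) (Lpn v5526))))
theorem f623863 : Led Lsl_cf K49.v507 = K49.v3099 :=
  Lgr Lrot39 (Lpe (K49.f453689 IH) (Lpr_ct (K49.f453681 IH) (Lpr_et (K49.f623861 IH) (Lpn K49.v3099))))
theorem f433629 : Led Lsl_ct (LP (LK LD1_c3 LD2_c35 LD3_c22)) = (LP (LK LD1_c1 LD2_c44 LD3_c32)) :=
  Lre_c IH (LK LD1_c3 LD2_c35 LD3_c22) (LK LD1_c1 LD2_c44 LD3_c32) Lrfl Lrfl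
theorem f716365 : Led Lsl_ct v5526 = v6983 :=
  Lgr Lrot152 (Lpe (f648092 IH) (Lpr_df (f626416 IH) (Lpe (K49.f626422 IH) (Lpr_ct (f683085 IH) (Lpqs (f716364 IH) (Lpe (f677864 IH) (Lpe (f623863 IH) (Lpe (K49.f453691 IH) (Lpe (f433629 IH) (Lpr_gf (f659772 IH) (Lpn v6983)))))))))))
def v4282 : LQ := Led Lsl_et (LP (LK LD1_c2 LD2_c18 LD3_c15))
def v23909 : LQ := Led Lsl_gf v4282
theorem f821230 : Led Lsl_gf v4282 = v23909 :=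
  Lrfl
def v23908 : LQ := Led Lsl_gt v4282
theorem f821223 : Led Lsl_gt v4282 = v23908 :=
  Lrfl
theorem f632380 : Led Lsl_et (LP (LK LD1_c2 LD2_c18 LD3_c15)) = v4282 :=
  Lrfl
def v1942 : LQ := Led Lsl_et (LP (LK LD1_c1 LD2_c31 LD3_c57))
theorem f506505 : Led Lsl_et (LP (LK LD1_c1 LD2_c31 LD3_c57)) = v1942 :=
  Lrfl
theorem f506507 : Led Lsl_ef (LP (LK LD1_c1 LD2_c31 LD3_c57)) = v1942 :=
  Lgr Lrot88 (Lpr_et (f506505 IH) (Lpn v1942))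
theorem f95747 : Led Lsl_et (LP (LK LD1_c0 LD2_c19 LD3_c11)) = (LP (LK LD1_c0 LD2_c42 LD3_c32)) :=
  Lgr Lrot74 (Lpe (K0.f23458 IH) (Lpr_ef (K3.f95745 IH) (Lpe (K3.f86338 IH) (Lpn (LP (LK LD1_c0 LD2_c42 LD3_c32))))))
theorem f506506 : Led Lsl_df K56.v488 = v1942 :=
  Lgr Lrot70 (Lpe (K56.f453592 IH) (Lpr_dt (K2.f79139 IH) (Lpr_et (f95747 IH) (Lpr_dt (K5.f82462 IH) (Lpr_et (f506505 IH) (Lpn v1942))))))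
def v9757 : LQ := Led Lsl_dt K56.v3062
theorem f677515 : Led Lsl_dt K56.v3062 = v9757 :=
  Lrfl
theorem f677516 : Led Lsl_df K56.v3062 = v9757 :=
  Lgr Lrot38 (Lpr_dt (f677515 IH) (Lpn v9757))
theorem f821224 : Led Lsl_et v9757 = v23908 :=
  Lgr Lrot122 (Lpe (f677516 IH) (Lpe (K56.f622721 IH) (Lpr_df (f506506 IH) (Lpe (f506507 IH) (Lpe (K5.f114394 IH) (Lpr_dt (K5.f104592 IH) (Lpr_gt (K5.f25790 IH) (Lpe (K50.f104698 IH) (Lpr_et (f632380 IH) (Lpr_gt (f821223 IH) (Lpn v23908)))))))))))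
theorem f821226 : Led Lsl_ef v9757 = v23908 :=
  Lgr Lrot88 (Lpr_et (f821224 IH) (Lpn v23908))
def v10170 : LQ := Led Lsl_dt K56.v3214
theorem f679061 : Led Lsl_dt K56.v3214 = v10170 :=
  Lrfl
theorem f679063 : Led Lsl_df K56.v3214 = v10170 :=
  Lgr Lrot38 (Lpr_dt (f679061 IH) (Lpn v10170))
theorem f754241 : Led Lsl_af v10170 = v9757 :=
  Lgr Lrot117 (Lpe (f679063 IH) (Lpr_at (K56.f679046 IH) (Lpqs (K56.f754220 IH) (Lpr_dt (f677515 IH) (Lpn v9757)))))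
def v5094 : LQ := Led Lsl_bt (LP (LK LD1_c2 LD2_c57 LD3_c34))
theorem f645910 : Led Lsl_bt (LP (LK LD1_c2 LD2_c57 LD3_c34)) = v5094 :=
  Lrfl
theorem f645912 : Led Lsl_df K56.v1718 = v5094 :=
  Lgr Lrot12 (Lpe (K60.f501026 IH) (Lpr_dt (K24.f140244 IH) (Lpr_bt (f645910 IH) (Lpn v5094))))
theorem f679064 : Led Lsl_ff v5094 = v10170 :=
  Lgr Lrot19 (Lpe (f645912 IH) (Lpe (K56.f645801 IH) (Lpr_dt (f679061 IH) (Lpn v10170))))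
theorem f645911 : Led Lsl_bf (LP (LK LD1_c2 LD2_c57 LD3_c34)) = v5094 :=
  Lgr Lrot24 (Lpr_bt (f645910 IH) (Lpn v5094))
theorem f645684 : Led Lsl_ft (LP (LK LD1_c2 LD2_c57 LD3_c34)) = K49.v3215 :=
  Lgr Lrot2 (Lpr_gt (K24.f140721 IH) (Lpe (K32.f415852 IH) (Lpr_af (f645683 IH) (Lpn K49.v3215))))
theorem f679065 : Led Lsl_bt K49.v3215 = v10170 :=
  Lgr Lrot35 (Lpe (f645684 IH) (Lpr_bf (f645911 IH) (Lpr_ff (f679064 IH) (Lpn v10170))))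
def v8197 : LQ := Led Lsl_bt K49.v1891
theorem f670312 : Led Lsl_bt K49.v1891 = v8197 :=
  Lrfl
theorem f670313 : Led Lsl_bf K49.v1891 = v8197 :=
  Lgr Lrot24 (Lpr_bt (f670312 IH) (Lpn v8197))
theorem f679067 : Led Lsl_ef v8197 = v10170 :=
  Lgr Lrot29 (Lpe (f670313 IH) (Lpr_et (K49.f624638 IH) (Lpr_bt (f679065 IH) (Lpn v10170))))
theorem f821227 : Led Lsl_at v8197 = v23908 :=
  Lgr Lrot80 (Lpr_ef (f679067 IH) (Lpr_af (f754241 IH) (Lpr_ef (f821226 IH) (Lpn v23908))))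
theorem f821232 : Led Lsl_ff v8197 = v23909 :=
  Lgr Lrot52 (Lpr_at (f821227 IH) (Lpe (f821223 IH) (Lpr_gf (f821230 IH) (Lpn v23909))))
theorem f645997 : Led Lsl_ef (LP (LK LD1_c2 LD2_c57 LD3_c46)) = v5114 :=
  Lgr Lrot88 (Lpr_et (f645995 IH) (Lpn v5114))
theorem f646000 : Led Lsl_at K49.v1891 = v5114 :=
  Lgr Lrot80 (Lpr_ef (K49.f624637 IH) (Lpe (f645682 IH) (Lpr_ef (f645997 IH) (Lpn v5114))))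
theorem f648091 : Led Lsl_ff K49.v1891 = v5526 :=
  Lgr Lrot30 (Lpr_at (f646000 IH) (Lpe (f646002 IH) (Lpr_at (f648089 IH) (Lpn v5526))))
theorem f648094 : Led Lsl_ft K49.v1891 = v5526 :=
  Lgr Lrot48 (Lpr_ff (f648091 IH) (Lpn v5526))
theorem f821234 : Led Lsl_bt v5526 = v23909 :=
  Lgr Lrot35 (Lpe (f648094 IH) (Lpr_bf (f670313 IH) (Lpr_ff (f821232 IH) (Lpn v23909))))
def v9305 : LQ := Led Lsl_et K34.v2595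
theorem f675307 : Led Lsl_et K34.v2595 = v9305 :=
  Lrfl
theorem f448117 : Led Lsl_at (LP (LK LD1_c1 LD2_c39 LD3_c5)) = (LP (LK LD1_c3 LD2_c25 LD3_c3)) :=
  Lgr Lrot100 (Lpr_af (K11.f448115 IH) (Lpn (LP (LK LD1_c3 LD2_c25 LD3_c3))))
theorem f527688 : Led Lsl_cf (LP (LK LD1_c6 LD2_c48 LD3_c7)) = K34.v2595 :=
  Lgr Lrot118 (Lpr_dt (K50.f432176 IH) (Lpe (K61.f448538 IH) (Lpr_dt (K61.f433024 IH) (Lpr_ct (K61.f433023 IH) (Lpe (K11.f433021 IH) (Lpr_ct (K5.f21066 IH) (Lpe (f448117 IH) (Lpr_ff (K11.f448141 IH) (Lpr_dt (K34.f527683 IH) (Lpn K34.v2595))))))))))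
theorem f448528 : Led Lsl_ft (LP (LK LD1_c12 LD2_c24 LD3_c34)) = (LP (LK LD1_c12 LD2_c58 LD3_c55)) :=
  Lgr Lrot48 (Lpr_ff (K50.f448524 IH) (Lpn (LP (LK LD1_c12 LD2_c58 LD3_c55))))
theorem f152811 : Led Lsl_ct (LP (LK LD1_c6 LD2_c26 LD3_c20)) = (LP (LK LD1_c12 LD2_c24 LD3_c34)) :=
  Lre_c IH (LK LD1_c6 LD2_c26 LD3_c20) (LK LD1_c12 LD2_c24 LD3_c34) Lrfl Lrfl
theorem f431044 : Led Lsl_bt (LP (LK LD1_c6 LD2_c26 LD3_c20)) = (LP (LK LD1_c3 LD2_c11 LD3_c2)) :=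
  Lre_b IH (LK LD1_c6 LD2_c26 LD3_c20) (LK LD1_c3 LD2_c11 LD3_c2) Lrfl Lrfl
theorem f25793 : Led Lsl_bt (LP (LK LD1_c4 LD2_c41 LD3_c55)) = (LP (LK LD1_c9 LD2_c18 LD3_c20)) :=
  Lre_b IH (LK LD1_c4 LD2_c41 LD3_c55) (LK LD1_c9 LD2_c18 LD3_c20) Lrfl Lrfl
theorem f448345 : Led Lsl_ff (LP (LK LD1_c6 LD2_c26 LD3_c20)) = (LP (LK LD1_c9 LD2_c18 LD3_c20)) :=
  Lgr Lrot25 (Lpr_bt (f431044 IH) (Lpr_ft (f448343 IH) (Lpr_bt (f25793 IH) (Lpn (LP (LK LD1_c9 LD2_c18 LD3_c20))))))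
theorem f448533 : Led Lsl_cf (LP (LK LD1_c9 LD2_c18 LD3_c20)) = (LP (LK LD1_c12 LD2_c58 LD3_c55)) :=
  Lgr Lrot108 (Lpe (f448345 IH) (Lpr_ct (f152811 IH) (Lpr_ft (f448528 IH) (Lpn (LP (LK LD1_c12 LD2_c58 LD3_c55))))))
theorem f131414 : Led Lsl_ct (LP (LK LD1_c4 LD2_c41 LD3_c55)) = (LP (LK LD1_c2 LD2_c18 LD3_c15)) :=
  Lre_c IH (LK LD1_c4 LD2_c41 LD3_c55) (LK LD1_c2 LD2_c18 LD3_c15) Lrfl Lrfl
theorem f527697 : Led Lsl_bt (LP (LK LD1_c2 LD2_c18 LD3_c15)) = K34.v2595 :=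
  Lgr Lrot128 (Lpe (f131414 IH) (Lpe (K50.f448340 IH) (Lpr_cf (f448533 IH) (Lpe (K50.f448509 IH) (Lpr_cf (f527688 IH) (Lpn K34.v2595))))))
theorem f632383 : Led Lsl_ef (LP (LK LD1_c2 LD2_c18 LD3_c15)) = v4282 :=
  Lgr Lrot88 (Lpr_et (f632380 IH) (Lpn v4282))
theorem f675309 : Led Lsl_bf v4282 = v9305 :=
  Lgr Lrot96 (Lpe (f632383 IH) (Lpr_bt (f527697 IH) (Lpr_et (f675307 IH) (Lpn v9305))))
def v19899 : LQ := Led Lsl_et (LP (LK LD1_c6 LD2_c48 LD3_c7))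
theorem f782807 : Led Lsl_et (LP (LK LD1_c6 LD2_c48 LD3_c7)) = v19899 :=
  Lrfl
theorem f782809 : Led Lsl_ef (LP (LK LD1_c6 LD2_c48 LD3_c7)) = v19899 :=
  Lgr Lrot88 (Lpr_et (f782807 IH) (Lpn v19899))
theorem f527690 : Led Lsl_ct (LP (LK LD1_c6 LD2_c48 LD3_c7)) = K34.v2595 :=
  Lgr Lrot7 (Lpe (K61.f432180 IH) (Lpr_gf (K61.f432181 IH) (Lpe (K61.f135051 IH) (Lpr_gf (K6.f142983 IH) (Lpe (K5.f12455 IH) (Lpr_gt (K5.f12552 IH) (Lpr_dt (K5.f115093 IH) (Lpe (K11.f152340 IH) (Lpr_dt (K34.f527683 IH) (Lpn K34.v2595))))))))))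
theorem f782810 : Led Lsl_ct v9305 = v19899 :=
  Lgr Lrot15 (Lpe (f675307 IH) (Lpe (f527690 IH) (Lpr_ef (f782809 IH) (Lpn v19899))))
theorem f836133 : Led Lsl_gt v19899 = v26857 :=
  Lgr Lrot65 (Lpe (f782810 IH) (Lpe (f675309 IH) (Lpr_gf (f821230 IH) (Lpe (f821234 IH) (Lpr_ct (f716365 IH) (Lpe (f659773 IH) (Lpe (f648184 IH) (Lpe (f506282 IH) (Lpr_bf (f659792 IH) (Lpr_ct (f836129 IH) (Lpn v26857)))))))))))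
theorem f105660 : Led Lsl_et (LP (LK LD1_c7 LD2_c20 LD3_c5)) = (LP (LK LD1_c3 LD2_c40 LD3_c2)) :=
  Lre_e IH (LK LD1_c7 LD2_c20 LD3_c5) (LK LD1_c3 LD2_c40 LD3_c2) Lrfl Lrfl
theorem f66475 : Led Lsl_dt (LP (LK LD1_c7 LD2_c20 LD3_c5)) = (LP (LK LD1_c13 LD2_c52 LD3_c26)) :=
  Lre_d IH (LK LD1_c7 LD2_c20 LD3_c5) (LK LD1_c13 LD2_c52 LD3_c26) Lrfl Lrfl
theorem f836136 : Led Lsl_gt (LP (LK LD1_c17 LD2_c34 LD3_c57)) = (LP (LK LD1_c13 LD2_c52 LD3_c26)) :=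
  Lgr Lrot112 (Lpe (f633947 IH) (Lpr_et (f836135 IH) (Lpe (f836133 IH) (Lpe (f782807 IH) (Lpr_dt (K50.f432176 IH) (Lpr_gf (K61.f432181 IH) (Lpe (K61.f135051 IH) (Lpr_gf (K6.f142983 IH) (Lpe (f105660 IH) (Lpr_dt (f66475 IH) (Lpn (LP (LK LD1_c13 LD2_c52 LD3_c26)))))))))))))
theorem f836137 : Led Lsl_gt (LP (LK LD1_c17 LD2_c34 LD3_c57)) = (LP (LK LD1_c13 LD2_c52 LD3_c26)) :=
  Leop (Lpe (f836136 IH) (Lpn (LP (LK LD1_c17 LD2_c34 LD3_c57))))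
theorem seed_1923 : LEOK LG_g (LK LD1_c17 LD2_c34 LD3_c57) :=
  Leoe_g (LK LD1_c17 LD2_c34 LD3_c57) (f836137 IH)
def v26883 : LQ := Led Lsl_bt K47.v7015
theorem f836295 : Led Lsl_bt K47.v7015 = v26883 :=
  Lrfl
theorem f106497 : Led Lsl_gt (LP (LK LD1_c13 LD2_c35 LD3_c2)) = (LP (LK LD1_c7 LD2_c10 LD3_c23)) :=
  Lre_g IH (LK LD1_c13 LD2_c35 LD3_c2) (LK LD1_c7 LD2_c10 LD3_c23) Lrfl Lrfl
theorem f106498 : Led Lsl_bt (LP (LK LD1_c22 LD2_c58 LD3_c31)) = (LP (LK LD1_c13 LD2_c35 LD3_c2)) :=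
  Lre_b IH (LK LD1_c22 LD2_c58 LD3_c31) (LK LD1_c13 LD2_c35 LD3_c2) Lrfl Lrfl
theorem f106499 : Led Lsl_ct (LP (LK LD1_c22 LD2_c58 LD3_c31)) = (LP (LK LD1_c30 LD2_c50 LD3_c9)) :=
  Lre_c IH (LK LD1_c22 LD2_c58 LD3_c31) (LK LD1_c30 LD2_c50 LD3_c9) Lrfl Lrfl
theorem f10984 : Led Lsl_bt (LP (LK LD1_c3 LD2_c37 LD3_c53)) = (LP (LK LD1_c1 LD2_c45 LD3_c47)) :=
  Lre_b IH (LK LD1_c3 LD2_c37 LD3_c53) (LK LD1_c1 LD2_c45 LD3_c47) Lrfl Lrfl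
theorem f792226 : Led Lsl_bt (LP (LK LD1_c7 LD2_c11 LD3_c37)) = (LP (LK LD1_c13 LD2_c37 LD3_c37)) :=
  Lre_b IH (LK LD1_c7 LD2_c11 LD3_c37) (LK LD1_c13 LD2_c37 LD3_c37) Lrfl Lrfl
theorem f836299 : Led Lsl_gf (LP (LK LD1_c13 LD2_c37 LD3_c37)) = v26883 :=
  Lgr Lrot124 (Lpe (f792226 IH) (Lpr_ct (K61.f519523 IH) (Lpe (K61.f792234 IH) (Lpe (K61.f10952 IH) (Lpr_bt (f10984 IH) (Lpe (K29.f429121 IH) (Lpr_ct (K3.f106477 IH) (Lpr_gt (K47.f659068 IH) (Lpr_cf (K47.f660229 IH) (Lpr_bt (f836295 IH) (Lpn v26883)))))))))))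
theorem f107822 : Led Lsl_ct (LP (LK LD1_c13 LD2_c37 LD3_c37)) = (LP (LK LD1_c23 LD2_c2 LD3_c24)) :=
  Lre_c IH (LK LD1_c13 LD2_c37 LD3_c37) (LK LD1_c23 LD2_c2 LD3_c24) Lrfl Lrfl
theorem f836300 : Led Lsl_gf (LP (LK LD1_c30 LD2_c50 LD3_c9)) = (LP (LK LD1_c23 LD2_c2 LD3_c24)) :=
  Lgr Lrot129 (Lpe (f106499 IH) (Lpr_bt (f106498 IH) (Lpr_gt (f106497 IH) (Lpe (K4.f106494 IH) (Lpr_ct (K3.f106477 IH) (Lpr_gt (K47.f659068 IH) (Lpr_cf (K47.f660229 IH) (Lpr_bt (f836295 IH) (Lpe (f836299 IH) (Lpr_ct (f107822 IH) (Lpn (LP (LK LD1_c23 LD2_c2 LD3_c24)))))))))))))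
theorem f836301 : Led Lsl_gt (LP (LK LD1_c23 LD2_c2 LD3_c24)) = (LP (LK LD1_c30 LD2_c50 LD3_c9)) :=
  Leop (Lpr_gf (f836300 IH) (Lpn (LP (LK LD1_c23 LD2_c2 LD3_c24))))
theorem seed_1924 : LEOK LG_g (LK LD1_c23 LD2_c2 LD3_c24) :=
  Leoe_g (LK LD1_c23 LD2_c2 LD3_c24) (f836301 IH)
def v26898 : LQ := Led Lsl_gt K60.v7027
theorem f836444 : Led Lsl_gt K60.v7027 = v26898 :=
  Lrfl
theorem f528439 : Led Lsl_ff (LP (LK LD1_c3 LD2_c37 LD3_c8)) = (LP (LK LD1_c7 LD2_c13 LD3_c2)) :=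
  Lgr Lrot25 (Lpr_bt (K33.f6022 IH) (Lpr_ft (K35.f519756 IH) (Lpqs (K35.f528434 IH) (Lpr_bt (K33.f467014 IH) (Lpn (LP (LK LD1_c7 LD2_c13 LD3_c2)))))))
theorem f797110 : Led Lsl_ft K60.v7027 = K62.v21430 :=
  Lgr Lrot86 (Lpe (K60.f660418 IH) (Lpr_ff (f528439 IH) (Lpr_ef (K33.f477623 IH) (Lpr_ff (K47.f529423 IH) (Lpr_ef (K62.f797107 IH) (Lpn K62.v21430))))))
def v23135 : LQ := Led Lsl_ct (LP (LK LD1_c7 LD2_c48 LD3_c12))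
theorem f815093 : Led Lsl_ct (LP (LK LD1_c7 LD2_c48 LD3_c12)) = v23135 :=
  Lrfl
theorem f628174 : Led Lsl_cf K29.v1136 = K35.v3943 :=
  Lgr Lrot11 (Lpr_ct (K35.f628172 IH) (Lpn K35.v3943))
theorem f611496 : Led Lsl_gf (LP (LK LD1_c6 LD2_c59 LD3_c47)) = (LP (LK LD1_c6 LD2_c54 LD3_c16)) :=
  Lgr Lrot129 (Lpe (K32.f91250 IH) (Lpe (K47.f91248 IH) (Lpr_gt (K48.f611483 IH) (Lpr_bf (K48.f518250 IH) (Lpe (K47.f518138 IH) (Lpr_gt (K47.f518136 IH) (Lpe (K47.f486108 IH) (Lpr_bt (K47.f466945 IH) (Lpr_gt (K47.f474704 IH) (Lpe (K33.f472859 IH) (Lpn (LP (LK LD1_c6 LD2_c54 LD3_c16)))))))))))))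
theorem f628184 : Led Lsl_ct (LP (LK LD1_c6 LD2_c54 LD3_c7)) = (LP (LK LD1_c3 LD2_c39 LD3_c35)) :=
  Lgr Lrot10 (Lpr_bt (K47.f628183 IH) (Lpr_gt (K35.f628179 IH) (Lpe (f628174 IH) (Lpe (K29.f491708 IH) (Lpq (K28.f472849 IH) (Lpe (K28.f455082 IH) (Lpr_bt (K33.f472858 IH) (Lpe (f611496 IH) (Lpe (K62.f91254 IH) (Lpr_ct (K32.f94513 IH) (Lpr_gt (K47.f551683 IH) (Lpn (LP (LK LD1_c3 LD2_c39 LD3_c35))))))))))))))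
theorem f661302 : Led Lsl_cf (LP (LK LD1_c7 LD2_c0 LD3_c55)) = K48.v7118 :=
  Lgr Lrot108 (Lpe (K48.f628339 IH) (Lpr_ct (f628184 IH) (Lpr_ft (K48.f661300 IH) (Lpn K48.v7118))))
theorem f661282 : Led Lsl_at (LP (LK LD1_c7 LD2_c19 LD3_c33)) = (LP (LK LD1_c13 LD2_c51 LD3_c24)) :=
  Lre_a IH (LK LD1_c7 LD2_c19 LD3_c33) (LK LD1_c13 LD2_c51 LD3_c24) Lrfl Lrfl
theorem f743023 : Led Lsl_ef (LP (LK LD1_c20 LD2_c31 LD3_c41)) = (LP (LK LD1_c13 LD2_c51 LD3_c24)) :=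
  Lgr Lrot20 (Lpr_at (K63.f743013 IH) (Lpr_et (K47.f628210 IH) (Lpr_at (f661282 IH) (Lpn (LP (LK LD1_c13 LD2_c51 LD3_c24))))))
theorem f743028 : Led Lsl_et (LP (LK LD1_c20 LD2_c31 LD3_c41)) = (LP (LK LD1_c13 LD2_c51 LD3_c24)) :=
  Lgr Lrot87 (Lpr_ef (f743023 IH) (Lpn (LP (LK LD1_c13 LD2_c51 LD3_c24))))
theorem f138205 : Led Lsl_dt (LP (LK LD1_c11 LD2_c34 LD3_c9)) = (LP (LK LD1_c5 LD2_c54 LD3_c10)) :=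
  Lre_d IH (LK LD1_c11 LD2_c34 LD3_c9) (LK LD1_c5 LD2_c54 LD3_c10) Lrfl Lrfl
theorem f743031 : Led Lsl_gt (LP (LK LD1_c10 LD2_c18 LD3_c1)) = (LP (LK LD1_c13 LD2_c51 LD3_c24)) :=
  Lgr Lrot131 (Lpe (K43.f201601 IH) (Lpr_dt (K32.f164080 IH) (Lpr_gf (K37.f544496 IH) (Lpe (K42.f159171 IH) (Lpe (K42.f571305 IH) (Lpr_ef (K8.f138187 IH) (Lpr_dt (f138205 IH) (Lpe (K55.f138206 IH) (Lpe (K63.f138207 IH) (Lpr_et (f743028 IH) (Lpn (LP (LK LD1_c13 LD2_c51 LD3_c24)))))))))))))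
theorem f815097 : Led Lsl_dt (LP (LK LD1_c13 LD2_c51 LD3_c24)) = v23135 :=
  Lgr Lrot113 (Lpe (f743031 IH) (Lpr_df (K43.f567301 IH) (Lpr_gf (K48.f661306 IH) (Lpe (f661302 IH) (Lpr_gt (K63.f136006 IH) (Lpr_dt (K60.f157584 IH) (Lpr_gt (K63.f440725 IH) (Lpe (K63.f815049 IH) (Lpr_ct (f815093 IH) (Lpn v23135))))))))))
theorem f138312 : Led Lsl_et (LP (LK LD1_c20 LD2_c31 LD3_c42)) = (LP (LK LD1_c11 LD2_c34 LD3_c8)) :=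
  Lre_e IH (LK LD1_c20 LD2_c31 LD3_c42) (LK LD1_c11 LD2_c34 LD3_c8) Lrfl Lrfl
theorem f743040 : Led Lsl_df (LP (LK LD1_c20 LD2_c31 LD3_c42)) = (LP (LK LD1_c22 LD2_c29 LD3_c2)) :=
  Lgr Lrot18 (Lpr_at (K63.f743035 IH) (Lpr_dt (K47.f628235 IH) (Lpr_at (K47.f529436 IH) (Lpn (LP (LK LD1_c22 LD2_c29 LD3_c2))))))
theorem f815099 : Led Lsl_ef (LP (LK LD1_c22 LD2_c29 LD3_c2)) = v23135 :=
  Lgr Lrot73 (Lpe (f743040 IH) (Lpr_et (f138312 IH) (Lpr_dt (K63.f498724 IH) (Lpr_et (f743028 IH) (Lpr_dt (f815097 IH) (Lpn v23135))))))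
theorem f815100 : Led Lsl_at K62.v21430 = v23135 :=
  Lgr Lrot80 (Lpe (K62.f797109 IH) (Lpe (K47.f529433 IH) (Lpr_ef (f815099 IH) (Lpn v23135))))
theorem f836445 : Led Lsl_gf v23135 = v26898 :=
  Lgr Lrot76 (Lpe (f815100 IH) (Lpe (f797110 IH) (Lpr_gt (f836444 IH) (Lpn v26898))))
theorem f815101 : Led Lsl_et (LP (LK LD1_c22 LD2_c29 LD3_c2)) = v23135 :=
  Lgr Lrot87 (Lpr_ef (f815099 IH) (Lpn v23135))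
theorem f543773 : Led Lsl_dt (LP (LK LD1_c12 LD2_c7 LD3_c46)) = (LP (LK LD1_c21 LD2_c14 LD3_c8)) :=
  Lre_d IH (LK LD1_c12 LD2_c7 LD3_c46) (LK LD1_c21 LD2_c14 LD3_c8) Lrfl Lrfl
theorem f610508 : Led Lsl_et (LP (LK LD1_c12 LD2_c7 LD3_c46)) = (LP (LK LD1_c21 LD2_c14 LD3_c9)) :=
  Lre_e IH (LK LD1_c12 LD2_c7 LD3_c46) (LK LD1_c21 LD2_c14 LD3_c9) Lrfl Lrfl
theorem f543785 : Led Lsl_et (LP (LK LD1_c21 LD2_c14 LD3_c6)) = (LP (LK LD1_c29 LD2_c55 LD3_c7)) :=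
  Lre_e IH (LK LD1_c21 LD2_c14 LD3_c6) (LK LD1_c29 LD2_c55 LD3_c7) Lrfl Lrfl
theorem f543786 : Led Lsl_ct (LP (LK LD1_c29 LD2_c55 LD3_c7)) = (LP (LK LD1_c22 LD2_c33 LD3_c13)) :=
  Lgr Lrot15 (Lpe (f543785 IH) (Lpr_cf (K43.f543783 IH) (Lpe (K62.f89656 IH) (Lpn (LP (LK LD1_c22 LD2_c33 LD3_c13))))))
theorem f543791 : Led Lsl_bt (LP (LK LD1_c29 LD2_c55 LD3_c7)) = (LP (LK LD1_c21 LD2_c14 LD3_c9)) :=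
  Lre_b IH (LK LD1_c29 LD2_c55 LD3_c7) (LK LD1_c21 LD2_c14 LD3_c9) Lrfl Lrfl
theorem f610488 : Led Lsl_gt (LP (LK LD1_c21 LD2_c14 LD3_c9)) = (LP (LK LD1_c13 LD2_c46 LD3_c48)) :=
  Lgr Lrot82 (Lpe (f543791 IH) (Lpr_ct (f543786 IH) (Lpr_gf (K62.f610456 IH) (Lpr_cf (K47.f477681 IH) (Lpr_bt (K57.f477551 IH) (Lpr_gf (K29.f477548 IH) (Lpe (K33.f475169 IH) (Lpr_ct (K33.f475173 IH) (Lpe (K47.f523491 IH) (Lpr_cf (K46.f523485 IH) (Lpn (LP (LK LD1_c13 LD2_c46 LD3_c48)))))))))))))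
theorem f836446 : Led Lsl_et (LP (LK LD1_c13 LD2_c30 LD3_c24)) = v26898 :=
  Lgr Lrot185 (Lpr_dt (K46.f97353 IH) (Lpe (K46.f526609 IH) (Lpr_df (K46.f471427 IH) (Lpe (f610488 IH) (Lpe (f610508 IH) (Lpr_dt (f543773 IH) (Lpe (K63.f743055 IH) (Lpr_df (f743040 IH) (Lpr_et (f815101 IH) (Lpr_gf (f836445 IH) (Lpn v26898)))))))))))
theorem f836449 : Led Lsl_ef (LP (LK LD1_c13 LD2_c30 LD3_c24)) = v26898 :=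
  Lgr Lrot88 (Lpr_et (f836446 IH) (Lpn v26898))
theorem f17605 : Led Lsl_dt (LP (LK LD1_c3 LD2_c39 LD3_c35)) = (LP (LK LD1_c7 LD2_c19 LD3_c24)) :=
  Lre_d IH (LK LD1_c3 LD2_c39 LD3_c35) (LK LD1_c7 LD2_c19 LD3_c24) Lrfl Lrfl
theorem f17608 : Led Lsl_gt (LP (LK LD1_c7 LD2_c19 LD3_c24)) = (LP (LK LD1_c13 LD2_c51 LD3_c2)) :=
  Lre_g IH (LK LD1_c7 LD2_c19 LD3_c24) (LK LD1_c13 LD2_c51 LD3_c2) Lrfl Lrfl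
theorem f836455 : Led Lsl_df (LP (LK LD1_c13 LD2_c51 LD3_c2)) = v26898 :=
  Lgr Lrot168 (Lpe (f17608 IH) (Lpe (f17605 IH) (Lpr_et (K47.f17576 IH) (Lpe (K47.f17586 IH) (Lpe (K47.f17593 IH) (Lpe (K47.f566225 IH) (Lpe (K47.f181391 IH) (Lpr_df (K41.f566221 IH) (Lpe (K29.f425490 IH) (Lpr_ef (f836449 IH) (Lpn v26898)))))))))))
theorem f836454 : Led Lsl_bt (LP (LK LD1_c13 LD2_c30 LD3_c53)) = v26898 :=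
  Lgr Lrot119 (Lpe (K62.f465515 IH) (Lpe (K62.f472117 IH) (Lpr_ef (f836449 IH) (Lpn v26898))))
theorem f836456 : Led Lsl_bt (LP (LK LD1_c13 LD2_c51 LD3_c2)) = (LP (LK LD1_c13 LD2_c48 LD3_c14)) :=
  Lgr Lrot95 (Lpr_df (f836455 IH) (Lpe (f836454 IH) (Lpr_df (K63.f609650 IH) (Lpn (LP (LK LD1_c13 LD2_c48 LD3_c14))))))
theorem f836457 : Led Lsl_bt (LP (LK LD1_c13 LD2_c51 LD3_c2)) = (LP (LK LD1_c13 LD2_c48 LD3_c14)) :=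
  Leop (Lpe (f836456 IH) (Lpn (LP (LK LD1_c13 LD2_c51 LD3_c2))))
theorem seed_1925 : LEOK LG_b (LK LD1_c13 LD2_c51 LD3_c2) :=
  Leoe_b (LK LD1_c13 LD2_c51 LD3_c2) (f836457 IH)
def v27009 : LQ := Led Lsl_et K48.v7118
theorem f837093 : Led Lsl_et K48.v7118 = v27009 :=
  Lrfl
theorem f661305 : Led Lsl_ct (LP (LK LD1_c7 LD2_c0 LD3_c55)) = K48.v7118 :=
  Lgr Lrot40 (Lpe (K48.f628198 IH) (Lpr_cf (K47.f628189 IH) (Lpr_ff (K48.f661303 IH) (Lpn K48.v7118))))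
theorem f837095 : Led Lsl_cf (LP (LK LD1_c13 LD2_c18 LD3_c25)) = v27009 :=
  Lgr Lrot39 (Lpr_et (K63.f136007 IH) (Lpr_ct (f661305 IH) (Lpr_et (f837093 IH) (Lpn v27009))))
theorem f522766 : Led Lsl_af (LP (LK LD1_c1 LD2_c46 LD3_c44)) = K35.v2489 :=
  Lgr Lrot45 (Lpr_ft (K35.f522763 IH) (Lpe (K35.f522760 IH) (Lpr_ft (K35.f522765 IH) (Lpn K35.v2489))))
theorem f661392 : Led Lsl_ef K35.v2489 = K49.v7129 :=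
  Lgr Lrot20 (Lpe (f522766 IH) (Lpr_et (K33.f479660 IH) (Lpr_at (K49.f661388 IH) (Lpn K49.v7129))))
theorem f837094 : Led Lsl_bf K49.v7129 = v27009 :=
  Lgr Lrot96 (Lpe (f661392 IH) (Lpr_bt (K48.f661304 IH) (Lpr_et (f837093 IH) (Lpn v27009))))
theorem f511797 : Led Lsl_at (LP (LK LD1_c7 LD2_c19 LD3_c53)) = (LP (LK LD1_c13 LD2_c52 LD3_c1)) :=
  Lre_a IH (LK LD1_c7 LD2_c19 LD3_c53) (LK LD1_c13 LD2_c52 LD3_c1) Lrfl Lrfl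
theorem f610444 : Led Lsl_gf (LP (LK LD1_c13 LD2_c38 LD3_c52)) = (LP (LK LD1_c13 LD2_c44 LD3_c6)) :=
  Lgr Lrot47 (Lpr_gt (K62.f610442 IH) (Lpe (f511797 IH) (Lpe (K47.f521028 IH) (Lpn (LP (LK LD1_c13 LD2_c44 LD3_c6))))))
theorem f802823 : Led Lsl_df (LP (LK LD1_c14 LD2_c34 LD3_c23)) = (LP (LK LD1_c21 LD2_c40 LD3_c25)) :=
  Lgr Lrot38 (Lpr_dt (K62.f802817 IH) (Lpn (LP (LK LD1_c21 LD2_c40 LD3_c25))))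
theorem f564610 : Led Lsl_bf (LP (LK LD1_c24 LD2_c14 LD3_c21)) = (LP (LK LD1_c14 LD2_c34 LD3_c23)) :=
  Lgr Lrot61 (Lpr_ft (K41.f564598 IH) (Lpe (K35.f533582 IH) (Lpr_ft (K62.f533574 IH) (Lpn (LP (LK LD1_c14 LD2_c34 LD3_c23))))))
theorem f802907 : Led Lsl_bt (LP (LK LD1_c22 LD2_c13 LD3_c16)) = (LP (LK LD1_c21 LD2_c40 LD3_c25)) :=
  Lgr Lrot95 (Lpe (K41.f564619 IH) (Lpr_bf (f564610 IH) (Lpr_df (f802823 IH) (Lpn (LP (LK LD1_c21 LD2_c40 LD3_c25))))))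
theorem f802025 : Led Lsl_bt (LP (LK LD1_c12 LD2_c34 LD3_c10)) = (LP (LK LD1_c21 LD2_c40 LD3_c23)) :=
  Lre_b IH (LK LD1_c12 LD2_c34 LD3_c10) (LK LD1_c21 LD2_c40 LD3_c23) Lrfl Lrfl
theorem f802909 : Led Lsl_cf (LP (LK LD1_c23 LD2_c3 LD3_c38)) = (LP (LK LD1_c21 LD2_c40 LD3_c23)) :=
  Lgr Lrot97 (Lpe (K34.f513532 IH) (Lpr_ct (K41.f513489 IH) (Lpr_bt (f802907 IH) (Lpr_ct (K62.f145172 IH) (Lpr_bt (f802025 IH) (Lpn (LP (LK LD1_c21 LD2_c40 LD3_c23))))))))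
theorem f802913 : Led Lsl_ct (LP (LK LD1_c23 LD2_c3 LD3_c38)) = (LP (LK LD1_c21 LD2_c40 LD3_c23)) :=
  Lgr Lrot59 (Lpr_cf (f802909 IH) (Lpn (LP (LK LD1_c21 LD2_c40 LD3_c23))))
theorem f837103 : Led Lsl_gf (LP (LK LD1_c13 LD2_c18 LD3_c25)) = (LP (LK LD1_c21 LD2_c40 LD3_c23)) :=
  Lgr Lrot126 (Lpr_cf (f837095 IH) (Lpe (f837094 IH) (Lpe (K49.f661395 IH) (Lpr_ct (K33.f106225 IH) (Lpr_gt (K32.f441628 IH) (Lpe (K30.f477547 IH) (Lpr_bt (K47.f477592 IH) (Lpe (f610444 IH) (Lpr_bf (K34.f513532 IH) (Lpr_ct (f802913 IH) (Lpn (LP (LK LD1_c21 LD2_c40 LD3_c23)))))))))))))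
theorem f837104 : Led Lsl_gt (LP (LK LD1_c21 LD2_c40 LD3_c23)) = (LP (LK LD1_c13 LD2_c18 LD3_c25)) :=
  Leop (Lpr_gf (f837103 IH) (Lpn (LP (LK LD1_c21 LD2_c40 LD3_c23))))
theorem seed_1926 : LEOK LG_g (LK LD1_c21 LD2_c40 LD3_c23) :=
  Leoe_g (LK LD1_c21 LD2_c40 LD3_c23) (f837104 IH)
def v27013 : LQ := Led Lsl_ft K60.v7119
theorem f837125 : Led Lsl_ft K60.v7119 = v27013 :=
  Lrfl
theorem f837128 : Led Lsl_ff K60.v7119 = v27013 :=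
  Lgr Lrot3 (Lpr_ft (f837125 IH) (Lpn v27013))
theorem f660416 : Led Lsl_at K61.v2768 = K60.v7026 :=
  Lgr Lrot80 (Lpe (K61.f535436 IH) (Lpr_af (K29.f465142 IH) (Lpr_ef (K60.f660415 IH) (Lpn K60.v7026))))
theorem f676585 : Led Lsl_at K60.v7119 = K61.v9543 :=
  Lgr Lrot51 (Lpe (K60.f661310 IH) (Lpe (f660416 IH) (Lpr_df (K61.f676579 IH) (Lpn K61.v9543))))
theorem f837131 : Led Lsl_gf K61.v7121 = v27013 :=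
  Lgr Lrot47 (Lpr_gt (K61.f676582 IH) (Lpe (f676585 IH) (Lpr_ff (f837128 IH) (Lpn v27013))))
def v7123 : LQ := Led Lsl_ft (LP (LK LD1_c3 LD2_c39 LD3_c36))
theorem f661328 : Led Lsl_ft (LP (LK LD1_c3 LD2_c39 LD3_c36)) = v7123 :=
  Lrfl
theorem f661331 : Led Lsl_ff (LP (LK LD1_c3 LD2_c39 LD3_c36)) = v7123 :=
  Lgr Lrot3 (Lpr_ft (f661328 IH) (Lpn v7123))
theorem f837132 : Led Lsl_gt v7123 = v27013 :=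
  Lgr Lrot5 (Lpe (f661331 IH) (Lpr_at (K61.f661315 IH) (Lpr_gf (f837131 IH) (Lpn v27013))))
def v21427 : LQ := Led Lsl_at (LP (LK LD1_c7 LD2_c19 LD3_c31))
theorem f797093 : Led Lsl_at (LP (LK LD1_c7 LD2_c19 LD3_c31)) = v21427 :=
  Lrfl
theorem f661316 : Led Lsl_af (LP (LK LD1_c3 LD2_c39 LD3_c36)) = K61.v7121 :=
  Lgr Lrot0 (Lpr_at (K61.f661315 IH) (Lpn K61.v7121))
theorem f661320 : Led Lsl_ft (LP (LK LD1_c3 LD2_c39 LD3_c39)) = K61.v7121 :=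
  Lgr Lrot54 (Lpe (K47.f479659 IH) (Lpr_ff (K35.f522764 IH) (Lpr_df (K61.f661318 IH) (Lpn K61.v7121))))
theorem f661329 : Led Lsl_af (LP (LK LD1_c3 LD2_c39 LD3_c39)) = v7123 :=
  Lgr Lrot45 (Lpr_ft (f661320 IH) (Lpe (f661316 IH) (Lpr_ft (f661328 IH) (Lpn v7123))))
theorem f797096 : Led Lsl_ef v7123 = v21427 :=
  Lgr Lrot20 (Lpe (f661329 IH) (Lpr_et (K47.f479680 IH) (Lpr_at (f797093 IH) (Lpn v21427))))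
theorem f529238 : Led Lsl_et (LP (LK LD1_c6 LD2_c58 LD3_c16)) = (LP (LK LD1_c13 LD2_c14 LD3_c8)) :=
  Lre_e IH (LK LD1_c6 LD2_c58 LD3_c16) (LK LD1_c13 LD2_c14 LD3_c8) Lrfl Lrfl
theorem f529239 : Led Lsl_af (LP (LK LD1_c13 LD2_c14 LD3_c38)) = (LP (LK LD1_c13 LD2_c14 LD3_c8)) :=
  Lgr Lrot50 (Lpr_et (K47.f455414 IH) (Lpr_at (K47.f529231 IH) (Lpr_et (f529238 IH) (Lpn (LP (LK LD1_c13 LD2_c14 LD3_c8))))))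
theorem f797095 : Led Lsl_df (LP (LK LD1_c13 LD2_c14 LD3_c8)) = v21427 :=
  Lgr Lrot18 (Lpe (f529239 IH) (Lpe (K47.f479690 IH) (Lpr_at (f797093 IH) (Lpn v21427))))
theorem f529249 : Led Lsl_gt (LP (LK LD1_c22 LD2_c28 LD3_c50)) = (LP (LK LD1_c13 LD2_c14 LD3_c8)) :=
  Lre_g IH (LK LD1_c22 LD2_c28 LD3_c50) (LK LD1_c13 LD2_c14 LD3_c8) Lrfl Lrfl
def v26885 : LQ := Led Lsl_gf K47.v7016
theorem f836310 : Led Lsl_gf K47.v7016 = v26885 :=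
  Lrfl
theorem f660245 : Led Lsl_ct K60.v2732 = K47.v7016 :=
  Lgr Lrot15 (Lpe (K60.f531654 IH) (Lpr_cf (K29.f456622 IH) (Lpr_ef (K47.f660243 IH) (Lpn K47.v7016))))
def v3496 : LQ := Led Lsl_gf K49.v890
theorem f625940 : Led Lsl_gf K49.v890 = v3496 :=
  Lrfl
def v3387 : LQ := Led Lsl_gf K49.v797
theorem f625446 : Led Lsl_gf K49.v797 = v3387 :=
  Lrfl
theorem f625449 : Led Lsl_dt K49.v890 = v3387 :=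
  Lgr Lrot136 (Lpe (K49.f490280 IH) (Lpe (K29.f84790 IH) (Lpe (K5.f84768 IH) (Lpe (K2.f12144 IH) (Lpe (K2.f12660 IH) (Lpr_df (K3.f109394 IH) (Lpe (K7.f147739 IH) (Lpe (K33.f147764 IH) (Lpr_dt (K49.f459428 IH) (Lpr_gf (f625446 IH) (Lpn v3387)))))))))))
theorem f625943 : Led Lsl_et K47.v1092 = v3496 :=
  Lgr Lrot121 (Lpr_dt (K49.f625344 IH) (Lpe (K49.f625342 IH) (Lpe (K29.f457154 IH) (Lpr_et (K28.f4897 IH) (Lpe (K7.f147739 IH) (Lpe (K33.f147764 IH) (Lpr_dt (K49.f459428 IH) (Lpr_gf (f625446 IH) (Lpe (f625449 IH) (Lpr_gf (f625940 IH) (Lpn v3496)))))))))))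
theorem f625945 : Led Lsl_ef K47.v1092 = v3496 :=
  Lgr Lrot88 (Lpr_et (f625943 IH) (Lpn v3496))
theorem f625946 : Led Lsl_bt K30.v1093 = v3496 :=
  Lgr Lrot119 (Lpe (K30.f491398 IH) (Lpr_bf (K47.f491395 IH) (Lpr_ef (f625945 IH) (Lpn v3496))))
theorem f491399 : Led Lsl_cf K11.v247 = K30.v1093 :=
  Lgr Lrot39 (Lpe (K11.f451329 IH) (Lpr_ct (K24.f451321 IH) (Lpr_et (K30.f491398 IH) (Lpn K30.v1093))))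
theorem f535441 : Led Lsl_ct K49.v911 = K61.v2768 :=
  Lgr Lrot15 (Lpe (K49.f490403 IH) (Lpe (K28.f451228 IH) (Lpr_ef (K61.f535439 IH) (Lpn K61.v2768))))
theorem f660340 : Led Lsl_gf K61.v2768 = K47.v7016 :=
  Lgr Lrot126 (Lpe (f535441 IH) (Lpe (K49.f490404 IH) (Lpe (K24.f457376 IH) (Lpe (K24.f457195 IH) (Lpr_gt (K11.f451333 IH) (Lpr_cf (f491399 IH) (Lpr_bt (f625946 IH) (Lpe (f625940 IH) (Lpr_bf (K60.f531656 IH) (Lpr_ct (f660245 IH) (Lpn K47.v7016)))))))))))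
theorem f465144 : Led Lsl_at (LP (LK LD1_c1 LD2_c54 LD3_c45)) = (LP (LK LD1_c3 LD2_c36 LD3_c53)) :=
  Lgr Lrot100 (Lpr_af (K29.f465142 IH) (Lpn (LP (LK LD1_c3 LD2_c36 LD3_c53))))
theorem f660413 : Led Lsl_af K61.v2768 = K60.v7026 :=
  Lgr Lrot50 (Lpe (K61.f535439 IH) (Lpr_at (f465144 IH) (Lpr_et (K60.f660412 IH) (Lpn K60.v7026))))
theorem f836312 : Led Lsl_ff K60.v7026 = v26885 :=
  Lgr Lrot52 (Lpe (f660413 IH) (Lpr_gf (f660340 IH) (Lpr_gf (f836310 IH) (Lpn v26885))))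
theorem f837127 : Led Lsl_df v26885 = v27013 :=
  Lgr Lrot78 (Lpe (f836312 IH) (Lpr_dt (K60.f661310 IH) (Lpr_ft (f837125 IH) (Lpn v27013))))
theorem f660268 : Led Lsl_gt (LP (LK LD1_c7 LD2_c19 LD3_c38)) = (LP (LK LD1_c13 LD2_c51 LD3_c38)) :=
  Lre_g IH (LK LD1_c7 LD2_c19 LD3_c38) (LK LD1_c13 LD2_c51 LD3_c38) Lrfl Lrfl
theorem f660339 : Led Lsl_et (LP (LK LD1_c23 LD2_c21 LD3_c3)) = (LP (LK LD1_c13 LD2_c51 LD3_c38)) :=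
  Lre_e IH (LK LD1_c23 LD2_c21 LD3_c3) (LK LD1_c13 LD2_c51 LD3_c38) Lrfl Lrfl
theorem f837133 : Led Lsl_df (LP (LK LD1_c22 LD2_c28 LD3_c50)) = (LP (LK LD1_c23 LD2_c21 LD3_c3)) :=
  Lgr Lrot170 (Lpr_gt (f529249 IH) (Lpr_df (f797095 IH) (Lpe (f797096 IH) (Lpr_gt (f837132 IH) (Lpe (f837127 IH) (Lpe (f836310 IH) (Lpe (K49.f660249 IH) (Lpr_et (K47.f660250 IH) (Lpr_gt (f660268 IH) (Lpe (f660339 IH) (Lpn (LP (LK LD1_c23 LD2_c21 LD3_c3)))))))))))))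
theorem f837134 : Led Lsl_dt (LP (LK LD1_c23 LD2_c21 LD3_c3)) = (LP (LK LD1_c22 LD2_c28 LD3_c50)) :=
  Leop (Lpr_df (f837133 IH) (Lpn (LP (LK LD1_c23 LD2_c21 LD3_c3))))
theorem seed_1927 : LEOK LG_d (LK LD1_c23 LD2_c21 LD3_c3) :=
  Leoe_d (LK LD1_c23 LD2_c21 LD3_c3) (f837134 IH)
def v7212 : LQ := Led Lsl_et (LP (LK LD1_c3 LD2_c42 LD3_c35))
def v27101 : LQ := Led Lsl_dt v7212
theorem f837657 : Led Lsl_dt v7212 = v27101 :=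
  Lrfl
theorem f662328 : Led Lsl_et (LP (LK LD1_c3 LD2_c42 LD3_c35)) = v7212 :=
  Lrfl
theorem f662331 : Led Lsl_ef (LP (LK LD1_c3 LD2_c42 LD3_c35)) = v7212 :=
  Lgr Lrot88 (Lpr_et (f662328 IH) (Lpn v7212))
theorem f662333 : Led Lsl_ct K57.v2546 = v7212 :=
  Lgr Lrot15 (Lpe (K57.f527309 IH) (Lpe (K5.f134608 IH) (Lpr_ef (f662331 IH) (Lpn v7212))))
def v4340 : LQ := Led Lsl_et (LP (LK LD1_c2 LD2_c19 LD3_c39))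
theorem f632784 : Led Lsl_et (LP (LK LD1_c2 LD2_c19 LD3_c39)) = v4340 :=
  Lrfl
theorem f632788 : Led Lsl_ef (LP (LK LD1_c2 LD2_c19 LD3_c39)) = v4340 :=
  Lgr Lrot88 (Lpr_et (f632784 IH) (Lpn v4340))
theorem f632790 : Led Lsl_bt K57.v2546 = v4340 :=
  Lgr Lrot119 (Lpe (K57.f527309 IH) (Lpe (K6.f143661 IH) (Lpr_ef (f632788 IH) (Lpn v4340))))
def v5745 : LQ := Led Lsl_et (LP (LK LD1_c3 LD2_c12 LD3_c42))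
theorem f649165 : Led Lsl_et (LP (LK LD1_c3 LD2_c12 LD3_c42)) = v5745 :=
  Lrfl
theorem f649167 : Led Lsl_ef (LP (LK LD1_c3 LD2_c12 LD3_c42)) = v5745 :=
  Lgr Lrot88 (Lpr_et (f649165 IH) (Lpn v5745))
theorem f83701 : Led Lsl_et (LP (LK LD1_c1 LD2_c32 LD3_c48)) = (LP (LK LD1_c3 LD2_c12 LD3_c43)) :=
  Lre_e IH (LK LD1_c1 LD2_c32 LD3_c48) (LK LD1_c3 LD2_c12 LD3_c43) Lrfl Lrfl
theorem f649168 : Led Lsl_bt (LP (LK LD1_c3 LD2_c12 LD3_c43)) = v5745 :=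
  Lgr Lrot119 (Lpe (f83701 IH) (Lpe (K63.f67023 IH) (Lpr_ef (f649167 IH) (Lpn v5745))))
def v5533 : LQ := Led Lsl_bt (LP (LK LD1_c3 LD2_c9 LD3_c20))
theorem f648117 : Led Lsl_bt (LP (LK LD1_c3 LD2_c9 LD3_c20)) = v5533 :=
  Lrfl
theorem f648118 : Led Lsl_bf (LP (LK LD1_c3 LD2_c9 LD3_c20)) = v5533 :=
  Lgr Lrot24 (Lpr_bt (f648117 IH) (Lpn v5533))
theorem f649169 : Led Lsl_df v5533 = v5745 :=
  Lgr Lrot12 (Lpe (f648118 IH) (Lpe (K32.f83699 IH) (Lpr_bt (f649168 IH) (Lpn v5745))))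
theorem f82562 : Led Lsl_et (LP (LK LD1_c1 LD2_c6 LD3_c58)) = (LP (LK LD1_c0 LD2_c30 LD3_c38)) :=
  Lre_e IH (LK LD1_c1 LD2_c6 LD3_c58) (LK LD1_c0 LD2_c30 LD3_c38) Lrfl Lrfl
theorem f632791 : Led Lsl_dt K56.v1297 = v4340 :=
  Lgr Lrot77 (Lpe (K56.f494688 IH) (Lpe (K4.f104731 IH) (Lpe (f82562 IH) (Lpe (K6.f26131 IH) (Lpr_ef (f632788 IH) (Lpn v4340))))))
theorem f649171 : Led Lsl_gt v5533 = v4340 :=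
  Lgr Lrot112 (Lpr_df (f649169 IH) (Lpe (f649167 IH) (Lpqs (K34.f527823 IH) (Lpe (K34.f506785 IH) (Lpe (K34.f104342 IH) (Lpe (K3.f104340 IH) (Lpe (K5.f131400 IH) (Lpe (K5.f82516 IH) (Lpr_gf (K5.f131587 IH) (Lpr_ef (K56.f494691 IH) (Lpr_dt (f632791 IH) (Lpn v4340))))))))))))
theorem f662334 : Led Lsl_gf (LP (LK LD1_c6 LD2_c47 LD3_c46)) = v7212 :=
  Lgr Lrot126 (Lpe (K57.f454908 IH) (Lpr_bt (K48.f454907 IH) (Lpr_gt (K32.f415758 IH) (Lpr_ct (K51.f58534 IH) (Lpr_gt (K29.f416145 IH) (Lpr_cf (K24.f454897 IH) (Lpr_bt (f648117 IH) (Lpr_gt (f649171 IH) (Lpe (f632790 IH) (Lpr_ct (f662333 IH) (Lpn v7212)))))))))))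
def v6463 : LQ := Led Lsl_gt (LP (LK LD1_c3 LD2_c22 LD3_c4))
theorem f653513 : Led Lsl_gt (LP (LK LD1_c3 LD2_c22 LD3_c4)) = v6463 :=
  Lrfl
theorem f662914 : (LP (LK LD1_c6 LD2_c30 LD3_c61)) = v6463 :=
  Lefun (Lecon (Lfl_gf (K58.f662634 IH)) (K57.f662912 IH).symm) (f653513 IH)
def v21810 : LQ := Led Lsl_ct (LP (LK LD1_c7 LD2_c26 LD3_c54))
theorem f799441 : Led Lsl_ct (LP (LK LD1_c7 LD2_c26 LD3_c54)) = v21810 :=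
  Lrfl
theorem f662330 : Led Lsl_cf K57.v2546 = v7212 :=
  Lgr Lrot39 (Lpe (K58.f527312 IH) (Lpr_ct (K5.f124244 IH) (Lpr_et (f662328 IH) (Lpn v7212))))
theorem f799445 : Led Lsl_gf v7212 = v21810 :=
  Lgr Lrot104 (Lpe (f662330 IH) (Lpe (K58.f527314 IH) (Lpr_cf (K56.f527305 IH) (Lpr_gf (K57.f674761 IH) (Lpq (K57.f754165 IH) (Lpqs (K62.f760567 IH) (Lpe (K62.f674899 IH) (Lpe (K49.f527481 IH) (Lpe (K57.f23637 IH) (Lpr_gt (K48.f107006 IH) (Lpr_ct (f799441 IH) (Lpn v21810))))))))))))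
theorem f799443 : Led Lsl_cf (LP (LK LD1_c7 LD2_c26 LD3_c54)) = v21810 :=
  Lgr Lrot11 (Lpr_ct (f799441 IH) (Lpn v21810))
theorem f446098 : Led Lsl_dt (LP (LK LD1_c1 LD2_c37 LD3_c16)) = (LP (LK LD1_c3 LD2_c21 LD3_c60)) :=
  Lre_d IH (LK LD1_c1 LD2_c37 LD3_c16) (LK LD1_c3 LD2_c21 LD3_c60) Lrfl Lrfl
theorem f144085 : Led Lsl_ct (LP (LK LD1_c3 LD2_c21 LD3_c60)) = (LP (LK LD1_c6 LD2_c47 LD3_c41)) :=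
  Lre_c IH (LK LD1_c3 LD2_c21 LD3_c60) (LK LD1_c6 LD2_c47 LD3_c41) Lrfl Lrfl
theorem f144084 : Led Lsl_dt (LP (LK LD1_c12 LD2_c58 LD3_c16)) = (LP (LK LD1_c6 LD2_c47 LD3_c41)) :=
  Lre_d IH (LK LD1_c12 LD2_c58 LD3_c16) (LK LD1_c6 LD2_c47 LD3_c41) Lrfl Lrfl
theorem f837660 : Led Lsl_gf (LP (LK LD1_c12 LD2_c58 LD3_c16)) = v27101 :=
  Lgr Lrot143 (Lpr_dt (f144084 IH) (Lpe (f144085 IH) (Lpe (f446098 IH) (Lpqs (K57.f760556 IH) (Lpe (K57.f527478 IH) (Lpe (K3.f86777 IH) (Lpe (K48.f86744 IH) (Lpr_cf (f799443 IH) (Lpe (f799445 IH) (Lpr_dt (f837657 IH) (Lpn v27101)))))))))))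
theorem f509670 : Led Lsl_ct (LP (LK LD1_c12 LD2_c58 LD3_c16)) = (LP (LK LD1_c22 LD2_c8 LD3_c11)) :=
  Lre_c IH (LK LD1_c12 LD2_c58 LD3_c16) (LK LD1_c22 LD2_c8 LD3_c11) Lrfl Lrfl
theorem f837661 : Led Lsl_gf (LP (LK LD1_c23 LD2_c37 LD3_c51)) = (LP (LK LD1_c22 LD2_c8 LD3_c11)) :=
  Lgr Lrot172 (Lpe (K3.f107026 IH) (Lpr_dt (K3.f107021 IH) (Lpe (K3.f107011 IH) (Lpqs (f662914 IH) (Lpe (f653513 IH) (Lpe (K58.f504180 IH) (Lpr_gf (f662334 IH) (Lpr_dt (f837657 IH) (Lpe (f837660 IH) (Lpr_ct (f509670 IH) (Lpn (LP (LK LD1_c22 LD2_c8 LD3_c11)))))))))))))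
theorem f837662 : Led Lsl_gt (LP (LK LD1_c22 LD2_c8 LD3_c11)) = (LP (LK LD1_c23 LD2_c37 LD3_c51)) :=
  Leop (Lpr_gf (f837661 IH) (Lpn (LP (LK LD1_c22 LD2_c8 LD3_c11))))
theorem seed_1928 : LEOK LG_g (LK LD1_c22 LD2_c8 LD3_c11) :=
  Leoe_g (LK LD1_c22 LD2_c8 LD3_c11) (f837662 IH)
def v27102 : LQ := Led Lsl_ft v7212
theorem f837667 : Led Lsl_ft v7212 = v27102 :=
  Lrfl
theorem f837670 : Led Lsl_ff v7212 = v27102 :=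
  Lgr Lrot3 (Lpr_ft (f837667 IH) (Lpn v27102))
theorem f662329 : Led Lsl_af (LP (LK LD1_c7 LD2_c20 LD3_c5)) = v7212 :=
  Lgr Lrot50 (Lpr_et (f105660 IH) (Lpr_at (K5.f134609 IH) (Lpr_et (f662328 IH) (Lpn v7212))))
theorem f837673 : Led Lsl_gf (LP (LK LD1_c9 LD2_c32 LD3_c48)) = v27102 :=
  Lgr Lrot47 (Lpr_gt (K58.f760515 IH) (Lpr_af (f662329 IH) (Lpr_ff (f837670 IH) (Lpn v27102))))
theorem f99173 : Led Lsl_gt (LP (LK LD1_c4 LD2_c47 LD3_c30)) = (LP (LK LD1_c9 LD2_c28 LD3_c0)) :=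
  Lre_g IH (LK LD1_c4 LD2_c47 LD3_c30) (LK LD1_c9 LD2_c28 LD3_c0) Lrfl Lrfl
theorem f837672 : Led Lsl_ct K57.v9232 = v27102 :=
  Lgr Lrot40 (Lpe (K57.f674783 IH) (Lpr_cf (f662330 IH) (Lpr_ff (f837670 IH) (Lpn v27102))))
theorem f674788 : Led Lsl_at K57.v7151 = K57.v9232 :=
  Lgr Lrot66 (Lpe (K57.f661562 IH) (Lpr_af (K57.f527310 IH) (Lpr_ff (K57.f674786 IH) (Lpn K57.v9232))))
theorem f674794 : Led Lsl_gt (LP (LK LD1_c7 LD2_c20 LD3_c3)) = K57.v9232 :=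
  Lgr Lrot46 (Lpe (K57.f12468 IH) (Lpr_ft (K57.f661562 IH) (Lpr_at (f674788 IH) (Lpn K57.v9232))))
theorem f767590 : Led Lsl_bt (LP (LK LD1_c12 LD2_c16 LD3_c3)) = (LP (LK LD1_c7 LD2_c20 LD3_c3)) :=
  Lgr Lrot127 (Lpr_bf (K58.f767584 IH) (Lpn (LP (LK LD1_c7 LD2_c20 LD3_c3))))
theorem f837675 : Led Lsl_cf (LP (LK LD1_c9 LD2_c28 LD3_c0)) = (LP (LK LD1_c12 LD2_c16 LD3_c3)) :=
  Lgr Lrot58 (Lpe (f99173 IH) (Lpe (K58.f99172 IH) (Lpr_bt (K58.f416088 IH) (Lpe (K16.f62600 IH) (Lpe (K48.f140815 IH) (Lpr_ct (K58.f140816 IH) (Lpr_gf (f837673 IH) (Lpe (f837672 IH) (Lpe (f674794 IH) (Lpe (f767590 IH) (Lpn (LP (LK LD1_c12 LD2_c16 LD3_c3)))))))))))))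
theorem f837676 : Led Lsl_ct (LP (LK LD1_c12 LD2_c16 LD3_c3)) = (LP (LK LD1_c9 LD2_c28 LD3_c0)) :=
  Leop (Lpr_cf (f837675 IH) (Lpn (LP (LK LD1_c12 LD2_c16 LD3_c3))))
theorem seed_1929 : LEOK LG_c (LK LD1_c12 LD2_c16 LD3_c3) :=
  Leoe_c (LK LD1_c12 LD2_c16 LD3_c3) (f837676 IH)
theorem f837680 : Led Lsl_ct (LP (LK LD1_c9 LD2_c28 LD3_c0)) = (LP (LK LD1_c12 LD2_c16 LD3_c3)) :=
  Lgr Lrot59 (Lpr_cf (f837675 IH) (Lpn (LP (LK LD1_c12 LD2_c16 LD3_c3))))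
theorem f837682 : Led Lsl_dt (LP (LK LD1_c17 LD2_c27 LD3_c29)) = (LP (LK LD1_c9 LD2_c28 LD3_c0)) :=
  Lre_d IH (LK LD1_c17 LD2_c27 LD3_c29) (LK LD1_c9 LD2_c28 LD3_c0) Lrfl Lrfl
def v18418 : LQ := Led Lsl_et (LP (LK LD1_c6 LD2_c29 LD3_c28))
theorem f766885 : Led Lsl_et (LP (LK LD1_c6 LD2_c29 LD3_c28)) = v18418 :=
  Lrfl
theorem f766889 : Led Lsl_ef (LP (LK LD1_c6 LD2_c29 LD3_c28)) = v18418 :=
  Lgr Lrot88 (Lpr_et (f766885 IH) (Lpn v18418))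
theorem f98875 : Led Lsl_ft (LP (LK LD1_c3 LD2_c7 LD3_c31)) = (LP (LK LD1_c2 LD2_c20 LD3_c23)) :=
  Lgr Lrot54 (Lpe (K3.f91476 IH) (Lpr_ff (K3.f98871 IH) (Lpe (K2.f23539 IH) (Lpn (LP (LK LD1_c2 LD2_c20 LD3_c23))))))
theorem f23529 : Led Lsl_ft (LP (LK LD1_c4 LD2_c44 LD3_c35)) = (LP (LK LD1_c9 LD2_c21 LD3_c57)) :=
  Lre_f IH (LK LD1_c4 LD2_c44 LD3_c35) (LK LD1_c9 LD2_c21 LD3_c57) Lrfl Lrfl
theorem f708539 : Led Lsl_ef (LP (LK LD1_c9 LD2_c26 LD3_c59)) = (LP (LK LD1_c9 LD2_c21 LD3_c57)) :=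
  Lgr Lrot21 (Lpr_ft (K51.f708535 IH) (Lpr_et (K5.f91481 IH) (Lpr_ft (f98875 IH) (Lpr_et (K2.f23532 IH) (Lpr_ft (f23529 IH) (Lpn (LP (LK LD1_c9 LD2_c21 LD3_c57))))))))
theorem f136147 : Led Lsl_dt (LP (LK LD1_c9 LD2_c21 LD3_c57)) = (LP (LK LD1_c17 LD2_c18 LD3_c10)) :=
  Lre_d IH (LK LD1_c9 LD2_c21 LD3_c57) (LK LD1_c17 LD2_c18 LD3_c10) Lrfl Lrfl
theorem f766893 : Led Lsl_df (LP (LK LD1_c12 LD2_c16 LD3_c4)) = v18418 :=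
  Lgr Lrot168 (Lpe (K52.f136144 IH) (Lpe (f136147 IH) (Lpe (f708539 IH) (Lpe (K51.f527256 IH) (Lpr_ef (K50.f704233 IH) (Lpe (K57.f704238 IH) (Lpr_gf (K57.f708558 IH) (Lpe (K57.f131457 IH) (Lpr_gf (K57.f703384 IH) (Lpq (K57.f708555 IH) (Lpr_ef (f766889 IH) (Lpn v18418))))))))))))
theorem f766894 : Led Lsl_dt (LP (LK LD1_c12 LD2_c16 LD3_c4)) = v18418 :=
  Lgr Lrot42 (Lpr_df (f766893 IH) (Lpn v18418))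
theorem f101927 : Led Lsl_et (LP (LK LD1_c17 LD2_c10 LD3_c40)) = (LP (LK LD1_c9 LD2_c16 LD3_c3)) :=
  Lre_e IH (LK LD1_c17 LD2_c10 LD3_c40) (LK LD1_c9 LD2_c16 LD3_c3) Lrfl Lrfl
theorem f766888 : Led Lsl_cf (LP (LK LD1_c17 LD2_c10 LD3_c40)) = v18418 :=
  Lgr Lrot39 (Lpr_et (f101927 IH) (Lpr_ct (K57.f139957 IH) (Lpr_et (f766885 IH) (Lpn v18418))))
theorem f101924 : Led Lsl_et (LP (LK LD1_c2 LD2_c21 LD3_c28)) = (LP (LK LD1_c1 LD2_c7 LD3_c57)) :=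
  Lre_e IH (LK LD1_c2 LD2_c21 LD3_c28) (LK LD1_c1 LD2_c7 LD3_c57) Lrfl Lrfl
theorem f101925 : Led Lsl_dt (LP (LK LD1_c2 LD2_c21 LD3_c28)) = (LP (LK LD1_c4 LD2_c47 LD3_c14)) :=
  Lre_d IH (LK LD1_c2 LD2_c21 LD3_c28) (LK LD1_c4 LD2_c47 LD3_c14) Lrfl Lrfl
theorem f99169 : Led Lsl_gt (LP (LK LD1_c9 LD2_c27 LD3_c30)) = (LP (LK LD1_c4 LD2_c47 LD3_c14)) :=
  Lre_g IH (LK LD1_c9 LD2_c27 LD3_c30) (LK LD1_c4 LD2_c47 LD3_c14) Lrfl Lrfl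
theorem f101928 : Led Lsl_df (LP (LK LD1_c9 LD2_c27 LD3_c30)) = (LP (LK LD1_c17 LD2_c10 LD3_c40)) :=
  Lgr Lrot170 (Lpr_gt (f99169 IH) (Lpe (f101925 IH) (Lpr_et (f101924 IH) (Lpr_gt (K3.f72660 IH) (Lpr_dt (K3.f99142 IH) (Lpr_gt (K3.f99153 IH) (Lpe (K1.f13683 IH) (Lpr_et (K57.f58252 IH) (Lpr_gt (K9.f101926 IH) (Lpe (f101927 IH) (Lpn (LP (LK LD1_c17 LD2_c10 LD3_c40)))))))))))))
theorem f101936 : Led Lsl_ct (LP (LK LD1_c9 LD2_c27 LD3_c30)) = (LP (LK LD1_c17 LD2_c26 LD3_c34)) :=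
  Lre_c IH (LK LD1_c9 LD2_c27 LD3_c30) (LK LD1_c17 LD2_c26 LD3_c34) Lrfl Lrfl
theorem f101937 : Led Lsl_dt (LP (LK LD1_c17 LD2_c26 LD3_c34)) = (LP (LK LD1_c27 LD2_c16 LD3_c22)) :=
  Lre_d IH (LK LD1_c17 LD2_c26 LD3_c34) (LK LD1_c27 LD2_c16 LD3_c22) Lrfl Lrfl
theorem f837687 : Led Lsl_cf (LP (LK LD1_c17 LD2_c27 LD3_c29)) = (LP (LK LD1_c27 LD2_c16 LD3_c22)) :=
  Lgr Lrot161 (Lpr_dt (f837682 IH) (Lpr_ct (f837680 IH) (Lpe (K58.f761681 IH) (Lpr_ff (K58.f761675 IH) (Lpr_dt (f766894 IH) (Lpe (f766888 IH) (Lpe (f101928 IH) (Lpr_ct (f101936 IH) (Lpr_dt (f101937 IH) (Lpn (LP (LK LD1_c27 LD2_c16 LD3_c22))))))))))))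
theorem f837688 : Led Lsl_ct (LP (LK LD1_c27 LD2_c16 LD3_c22)) = (LP (LK LD1_c17 LD2_c27 LD3_c29)) :=
  Leop (Lpr_cf (f837687 IH) (Lpn (LP (LK LD1_c27 LD2_c16 LD3_c22))))
theorem seed_1930 : LEOK LG_c (LK LD1_c27 LD2_c16 LD3_c22) :=
  Leoe_c (LK LD1_c27 LD2_c16 LD3_c22) (f837688 IH)
def v7281 : LQ := Led Lsl_gf (LP (LK LD1_c3 LD2_c44 LD3_c9))
def v27199 : LQ := Led Lsl_et v7281
theorem f838210 : Led Lsl_et v7281 = v27199 :=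
  Lrfl
theorem f838211 : Led Lsl_ef v7281 = v27199 :=
  Lgr Lrot88 (Lpr_et (f838210 IH) (Lpn v27199))
theorem f664079 : Led Lsl_gf (LP (LK LD1_c3 LD2_c44 LD3_c9)) = v7281 :=
  Lrfl
theorem f124042 : Led Lsl_et (LP (LK LD1_c3 LD2_c41 LD3_c26)) = (LP (LK LD1_c1 LD2_c47 LD3_c38)) :=
  Lre_e IH (LK LD1_c3 LD2_c41 LD3_c26) (LK LD1_c1 LD2_c47 LD3_c38) Lrfl Lrfl
theorem f124043 : Led Lsl_dt (LP (LK LD1_c7 LD2_c23 LD3_c23)) = (LP (LK LD1_c3 LD2_c41 LD3_c26)) :=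
  Lre_d IH (LK LD1_c7 LD2_c23 LD3_c23) (LK LD1_c3 LD2_c41 LD3_c26) Lrfl Lrfl
theorem f124044 : Led Lsl_ef (LP (LK LD1_c7 LD2_c23 LD3_c23)) = (LP (LK LD1_c3 LD2_c54 LD3_c6)) :=
  Lgr Lrot73 (Lpr_dt (f124043 IH) (Lpr_et (f124042 IH) (Lpr_dt (K4.f124035 IH) (Lpr_et (K5.f95856 IH) (Lpr_dt (K28.f95887 IH) (Lpn (LP (LK LD1_c3 LD2_c54 LD3_c6))))))))
theorem f142281 : Led Lsl_et (LP (LK LD1_c1 LD2_c49 LD3_c7)) = (LP (LK LD1_c3 LD2_c44 LD3_c9)) :=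
  Lre_e IH (LK LD1_c1 LD2_c49 LD3_c7) (LK LD1_c3 LD2_c44 LD3_c9) Lrfl Lrfl
theorem f142282 : Led Lsl_dt (LP (LK LD1_c3 LD2_c44 LD3_c9)) = (LP (LK LD1_c7 LD2_c29 LD3_c11)) :=
  Lre_d IH (LK LD1_c3 LD2_c44 LD3_c9) (LK LD1_c7 LD2_c29 LD3_c11) Lrfl Lrfl
theorem f142283 : Led Lsl_ef (LP (LK LD1_c3 LD2_c55 LD3_c5)) = (LP (LK LD1_c7 LD2_c29 LD3_c11)) :=
  Lgr Lrot73 (Lpr_dt (K34.f11664 IH) (Lpr_et (K28.f11814 IH) (Lpr_dt (K6.f142269 IH) (Lpr_et (f142281 IH) (Lpr_dt (f142282 IH) (Lpn (LP (LK LD1_c7 LD2_c29 LD3_c11))))))))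
theorem f160053 : Led Lsl_at (LP (LK LD1_c7 LD2_c23 LD3_c23)) = (LP (LK LD1_c7 LD2_c29 LD3_c11)) :=
  Lgr Lrot80 (Lpr_ef (f124044 IH) (Lpr_af (K8.f160040 IH) (Lpr_ef (f142283 IH) (Lpn (LP (LK LD1_c7 LD2_c29 LD3_c11))))))
theorem f147616 : Led Lsl_dt (LP (LK LD1_c3 LD2_c41 LD3_c26)) = (LP (LK LD1_c7 LD2_c23 LD3_c23)) :=
  Lre_d IH (LK LD1_c3 LD2_c41 LD3_c26) (LK LD1_c7 LD2_c23 LD3_c23) Lrfl Lrfl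
theorem f159851 : Led Lsl_dt (LP (LK LD1_c7 LD2_c29 LD3_c11)) = (LP (LK LD1_c3 LD2_c44 LD3_c9)) :=
  Lre_d IH (LK LD1_c7 LD2_c29 LD3_c11) (LK LD1_c3 LD2_c44 LD3_c9) Lrfl Lrfl
theorem f160057 : Led Lsl_af (LP (LK LD1_c3 LD2_c41 LD3_c26)) = (LP (LK LD1_c3 LD2_c44 LD3_c9)) :=
  Lgr Lrot117 (Lpr_dt (f147616 IH) (Lpr_at (f160053 IH) (Lpr_dt (f159851 IH) (Lpn (LP (LK LD1_c3 LD2_c44 LD3_c9))))))
theorem f160059 : Led Lsl_at (LP (LK LD1_c3 LD2_c41 LD3_c26)) = (LP (LK LD1_c3 LD2_c44 LD3_c9)) :=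
  Lgr Lrot100 (Lpr_af (f160057 IH) (Lpn (LP (LK LD1_c3 LD2_c44 LD3_c9))))
def v7179 : LQ := Led Lsl_ft (LP (LK LD1_c3 LD2_c41 LD3_c26))
theorem f661788 : Led Lsl_ft (LP (LK LD1_c3 LD2_c41 LD3_c26)) = v7179 :=
  Lrfl
theorem f661790 : Led Lsl_ff (LP (LK LD1_c3 LD2_c41 LD3_c26)) = v7179 :=
  Lgr Lrot3 (Lpr_ft (f661788 IH) (Lpn v7179))
theorem f664080 : Led Lsl_gt v7179 = v7281 :=
  Lgr Lrot5 (Lpe (f661790 IH) (Lpr_at (f160059 IH) (Lpr_gf (f664079 IH) (Lpn v7281))))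
theorem f661791 : Led Lsl_et (LP (LK LD1_c7 LD2_c29 LD3_c8)) = v7179 :=
  Lgr Lrot69 (Lpe (K8.f129318 IH) (Lpe (K62.f121031 IH) (Lpr_ff (K5.f129314 IH) (Lpe (f124042 IH) (Lpr_ff (f661790 IH) (Lpn v7179))))))
theorem f159912 : Led Lsl_dt (LP (LK LD1_c7 LD2_c29 LD3_c8)) = (LP (LK LD1_c14 LD2_c7 LD3_c53)) :=
  Lre_d IH (LK LD1_c7 LD2_c29 LD3_c8) (LK LD1_c14 LD2_c7 LD3_c53) Lrfl Lrfl
theorem f159907 : Led Lsl_ft (LP (LK LD1_c7 LD2_c23 LD3_c28)) = (LP (LK LD1_c13 LD2_c58 LD3_c34)) :=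
  Lre_f IH (LK LD1_c7 LD2_c23 LD3_c28) (LK LD1_c13 LD2_c58 LD3_c34) Lrfl Lrfl
theorem f159566 : Led Lsl_gt (LP (LK LD1_c7 LD2_c23 LD3_c28)) = (LP (LK LD1_c13 LD2_c58 LD3_c31)) :=
  Lre_g IH (LK LD1_c7 LD2_c23 LD3_c28) (LK LD1_c13 LD2_c58 LD3_c31) Lrfl Lrfl
theorem f159908 : Led Lsl_gf (LP (LK LD1_c14 LD2_c7 LD3_c53)) = (LP (LK LD1_c13 LD2_c58 LD3_c31)) :=
  Lgr Lrot76 (Lpr_af (K8.f159900 IH) (Lpe (f159907 IH) (Lpr_gt (f159566 IH) (Lpn (LP (LK LD1_c13 LD2_c58 LD3_c31))))))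
theorem f838212 : Led Lsl_df (LP (LK LD1_c14 LD2_c50 LD3_c22)) = v27199 :=
  Lgr Lrot132 (Lpe (K64.f144588 IH) (Lpe (K64.f122944 IH) (Lpe (K7.f122943 IH) (Lpe (K7.f121034 IH) (Lpr_dt (K6.f34694 IH) (Lpe (K2.f11523 IH) (Lpr_df (K7.f142279 IH) (Lpr_et (f142281 IH) (Lpr_gf (f664079 IH) (Lpr_ef (f838211 IH) (Lpn v27199)))))))))))
theorem f667756 : Led Lsl_et (LP (LK LD1_c3 LD2_c55 LD3_c10)) = (LP (LK LD1_c7 LD2_c52 LD3_c8)) :=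
  Lre_e IH (LK LD1_c3 LD2_c55 LD3_c10) (LK LD1_c7 LD2_c52 LD3_c8) Lrfl Lrfl
theorem f121046 : Led Lsl_gt (LP (LK LD1_c7 LD2_c52 LD3_c8)) = (LP (LK LD1_c14 LD2_c50 LD3_c36)) :=
  Lre_g IH (LK LD1_c7 LD2_c52 LD3_c8) (LK LD1_c14 LD2_c50 LD3_c36) Lrfl Lrfl
theorem f838213 : Led Lsl_df (LP (LK LD1_c13 LD2_c58 LD3_c31)) = (LP (LK LD1_c14 LD2_c50 LD3_c36)) :=
  Lgr Lrot135 (Lpe (f159908 IH) (Lpe (f159912 IH) (Lpr_et (f661791 IH) (Lpr_gt (f664080 IH) (Lpr_ef (f838211 IH) (Lpe (f838212 IH) (Lpr_gt (K64.f817018 IH) (Lpe (K64.f144583 IH) (Lpr_et (f667756 IH) (Lpr_gt (f121046 IH) (Lpn (LP (LK LD1_c14 LD2_c50 LD3_c36)))))))))))))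
theorem f838214 : Led Lsl_dt (LP (LK LD1_c14 LD2_c50 LD3_c36)) = (LP (LK LD1_c13 LD2_c58 LD3_c31)) :=
  Leop (Lpr_df (f838213 IH) (Lpn (LP (LK LD1_c14 LD2_c50 LD3_c36))))
theorem seed_1931 : LEOK LG_d (LK LD1_c14 LD2_c50 LD3_c36) :=
  Leoe_d (LK LD1_c14 LD2_c50 LD3_c36) (f838214 IH)
def v27200 : LQ := Led Lsl_bt K49.v7287
theorem f838228 : Led Lsl_bt K49.v7287 = v27200 :=
  Lrfl
def v21751 : LQ := Led Lsl_et (LP (LK LD1_c7 LD2_c26 LD3_c7))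
theorem f799065 : Led Lsl_et (LP (LK LD1_c7 LD2_c26 LD3_c7)) = v21751 :=
  Lrfl
theorem f799067 : Led Lsl_bf K49.v7216 = v21751 :=
  Lgr Lrot96 (Lpe (K49.f662401 IH) (Lpr_bt (K35.f203916 IH) (Lpr_et (f799065 IH) (Lpn v21751))))
theorem f838231 : Led Lsl_df v21751 = v27200 :=
  Lgr Lrot12 (Lpe (f799067 IH) (Lpr_dt (K49.f664136 IH) (Lpr_bt (f838228 IH) (Lpn v27200))))
theorem f838233 : Led Lsl_dt v21751 = v27200 :=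
  Lgr Lrot42 (Lpr_df (f838231 IH) (Lpn v27200))
theorem f799068 : Led Lsl_ef (LP (LK LD1_c7 LD2_c26 LD3_c7)) = v21751 :=
  Lgr Lrot88 (Lpr_et (f799065 IH) (Lpn v21751))
theorem f4840 : Led Lsl_dt (LP (LK LD1_c7 LD2_c21 LD3_c28)) = (LP (LK LD1_c13 LD2_c54 LD3_c38)) :=
  Lre_d IH (LK LD1_c7 LD2_c21 LD3_c28) (LK LD1_c13 LD2_c54 LD3_c38) Lrfl Lrfl
theorem f838234 : Led Lsl_gt (LP (LK LD1_c13 LD2_c54 LD3_c38)) = v27200 :=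
  Lgr Lrot139 (Lpe (f4840 IH) (Lpe (K48.f4839 IH) (Lpe (K7.f13144 IH) (Lpr_dt (K7.f13170 IH) (Lpr_gf (K7.f148330 IH) (Lpe (K28.f151400 IH) (Lpr_et (K34.f142485 IH) (Lpe (K35.f533670 IH) (Lpr_ef (f799068 IH) (Lpr_dt (f838233 IH) (Lpn v27200)))))))))))
theorem f838235 : Led Lsl_bt (LP (LK LD1_c23 LD2_c24 LD3_c52)) = (LP (LK LD1_c13 LD2_c54 LD3_c38)) :=
  Lre_b IH (LK LD1_c23 LD2_c24 LD3_c52) (LK LD1_c13 LD2_c54 LD3_c38) Lrfl Lrfl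
theorem f661468 : Led Lsl_ct (LP (LK LD1_c23 LD2_c24 LD3_c52)) = (LP (LK LD1_c31 LD2_c2 LD3_c9)) :=
  Lre_c IH (LK LD1_c23 LD2_c24 LD3_c52) (LK LD1_c31 LD2_c2 LD3_c9) Lrfl Lrfl
theorem f517814 : Led Lsl_ct (LP (LK LD1_c14 LD2_c10 LD3_c3)) = (LP (LK LD1_c23 LD2_c45 LD3_c12)) :=
  Lre_c IH (LK LD1_c14 LD2_c10 LD3_c3) (LK LD1_c23 LD2_c45 LD3_c12) Lrfl Lrfl
theorem f838236 : Led Lsl_gf (LP (LK LD1_c31 LD2_c2 LD3_c9)) = (LP (LK LD1_c23 LD2_c45 LD3_c12)) :=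
  Lgr Lrot129 (Lpe (f661468 IH) (Lpr_bt (f838235 IH) (Lpr_gt (f838234 IH) (Lpe (f838228 IH) (Lpr_ct (K62.f800595 IH) (Lpe (K62.f800596 IH) (Lpe (K62.f459528 IH) (Lpr_bt (K62.f664273 IH) (Lpr_gt (K62.f517813 IH) (Lpr_ct (f517814 IH) (Lpn (LP (LK LD1_c23 LD2_c45 LD3_c12)))))))))))))
theorem f838237 : Led Lsl_gt (LP (LK LD1_c23 LD2_c45 LD3_c12)) = (LP (LK LD1_c31 LD2_c2 LD3_c9)) :=
  Leop (Lpr_gf (f838236 IH) (Lpn (LP (LK LD1_c23 LD2_c45 LD3_c12))))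
theorem seed_1932 : LEOK LG_g (LK LD1_c23 LD2_c45 LD3_c12) :=
  Leoe_g (LK LD1_c23 LD2_c45 LD3_c12) (f838237 IH)
def v27202 : LQ := Led Lsl_ft K49.v7287
theorem f838244 : Led Lsl_ft K49.v7287 = v27202 :=
  Lrfl
theorem f838247 : Led Lsl_ff K49.v7287 = v27202 :=
  Lgr Lrot3 (Lpr_ft (f838244 IH) (Lpn v27202))
theorem f662402 : Led Lsl_at K61.v2775 = K49.v7216 :=
  Lgr Lrot80 (Lpe (K61.f535545 IH) (Lpr_af (K29.f470848 IH) (Lpr_ef (K49.f662401 IH) (Lpn K49.v7216))))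
theorem f668257 : Led Lsl_at K49.v7287 = K62.v7758 :=
  Lgr Lrot51 (Lpe (K49.f664136 IH) (Lpe (f662402 IH) (Lpr_df (K62.f668256 IH) (Lpn K62.v7758))))
theorem f838250 : Led Lsl_gf K62.v7289 = v27202 :=
  Lgr Lrot47 (Lpr_gt (K62.f668259 IH) (Lpe (f668257 IH) (Lpr_ff (f838247 IH) (Lpn v27202))))
theorem f838251 : Led Lsl_gt K62.v7290 = v27202 :=
  Lgr Lrot5 (Lpe (K62.f664154 IH) (Lpr_at (K62.f664141 IH) (Lpr_gf (f838250 IH) (Lpn v27202))))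
def v21983 : LQ := Led Lsl_at (LP (LK LD1_c7 LD2_c29 LD3_c43))
theorem f800375 : Led Lsl_at (LP (LK LD1_c7 LD2_c29 LD3_c43)) = v21983 :=
  Lrfl
theorem f489882 : Led Lsl_et (LP (LK LD1_c3 LD2_c44 LD3_c20)) = (LP (LK LD1_c7 LD2_c29 LD3_c43)) :=
  Lre_e IH (LK LD1_c3 LD2_c44 LD3_c20) (LK LD1_c7 LD2_c29 LD3_c43) Lrfl Lrfl
theorem f664151 : Led Lsl_af (LP (LK LD1_c3 LD2_c44 LD3_c20)) = K62.v7290 :=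
  Lgr Lrot45 (Lpr_ft (K62.f664145 IH) (Lpe (K62.f664142 IH) (Lpr_ft (K62.f664150 IH) (Lpn K62.v7290))))
theorem f800378 : Led Lsl_ef K62.v7290 = v21983 :=
  Lgr Lrot20 (Lpe (f664151 IH) (Lpr_et (f489882 IH) (Lpr_at (f800375 IH) (Lpn v21983))))
theorem f469948 : Led Lsl_et (LP (LK LD1_c14 LD2_c56 LD3_c10)) = (LP (LK LD1_c7 LD2_c55 LD3_c1)) :=
  Lre_e IH (LK LD1_c14 LD2_c56 LD3_c10) (LK LD1_c7 LD2_c55 LD3_c1) Lrfl Lrfl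
theorem f480457 : Led Lsl_et (LP (LK LD1_c7 LD2_c54 LD3_c15)) = (LP (LK LD1_c14 LD2_c54 LD3_c40)) :=
  Lre_e IH (LK LD1_c7 LD2_c54 LD3_c15) (LK LD1_c14 LD2_c54 LD3_c40) Lrfl Lrfl
theorem f521189 : Led Lsl_af (LP (LK LD1_c14 LD2_c56 LD3_c10)) = (LP (LK LD1_c14 LD2_c54 LD3_c40)) :=
  Lgr Lrot50 (Lpr_et (f469948 IH) (Lpr_at (K47.f521182 IH) (Lpr_et (f480457 IH) (Lpn (LP (LK LD1_c14 LD2_c54 LD3_c40))))))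
theorem f489814 : Led Lsl_ct (LP (LK LD1_c14 LD2_c56 LD3_c10)) = (LP (LK LD1_c7 LD2_c55 LD3_c2)) :=
  Lre_c IH (LK LD1_c14 LD2_c56 LD3_c10) (LK LD1_c7 LD2_c55 LD3_c2) Lrfl Lrfl
theorem f521194 : Led Lsl_ct (LP (LK LD1_c7 LD2_c54 LD3_c16)) = (LP (LK LD1_c14 LD2_c54 LD3_c40)) :=
  Lre_c IH (LK LD1_c7 LD2_c54 LD3_c16) (LK LD1_c14 LD2_c54 LD3_c40) Lrfl Lrfl
theorem f521195 : Led Lsl_at (LP (LK LD1_c7 LD2_c55 LD3_c2)) = (LP (LK LD1_c7 LD2_c54 LD3_c16)) :=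
  Lgr Lrot107 (Lpe (f489814 IH) (Lpr_af (f521189 IH) (Lpe (f521194 IH) (Lpn (LP (LK LD1_c7 LD2_c54 LD3_c16))))))
theorem f521197 : Led Lsl_af (LP (LK LD1_c7 LD2_c55 LD3_c2)) = (LP (LK LD1_c7 LD2_c54 LD3_c16)) :=
  Lgr Lrot0 (Lpr_at (f521195 IH) (Lpn (LP (LK LD1_c7 LD2_c54 LD3_c16))))
theorem f800377 : Led Lsl_df (LP (LK LD1_c7 LD2_c54 LD3_c16)) = v21983 :=
  Lgr Lrot18 (Lpe (f521197 IH) (Lpe (K47.f489778 IH) (Lpr_at (f800375 IH) (Lpn v21983))))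
theorem f479801 : Led Lsl_gt (LP (LK LD1_c14 LD2_c54 LD3_c42)) = (LP (LK LD1_c7 LD2_c54 LD3_c16)) :=
  Lre_g IH (LK LD1_c14 LD2_c54 LD3_c42) (LK LD1_c7 LD2_c54 LD3_c16) Lrfl Lrfl
def v26900 : LQ := Led Lsl_gf K48.v7028
theorem f836480 : Led Lsl_gf K48.v7028 = v26900 :=
  Lrfl
theorem f836482 : Led Lsl_ff K49.v7216 = v26900 :=
  Lgr Lrot52 (Lpe (K62.f662399 IH) (Lpr_gf (K61.f660440 IH) (Lpr_gf (f836480 IH) (Lpn v26900))))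
theorem f838246 : Led Lsl_df v26900 = v27202 :=
  Lgr Lrot78 (Lpe (f836482 IH) (Lpr_dt (K49.f664136 IH) (Lpr_ft (f838244 IH) (Lpn v27202))))
theorem f660433 : Led Lsl_et (LP (LK LD1_c3 LD2_c44 LD3_c23)) = (LP (LK LD1_c7 LD2_c29 LD3_c49)) :=
  Lre_e IH (LK LD1_c3 LD2_c44 LD3_c23) (LK LD1_c7 LD2_c29 LD3_c49) Lrfl Lrfl
theorem f660437 : Led Lsl_gt (LP (LK LD1_c7 LD2_c29 LD3_c49)) = (LP (LK LD1_c14 LD2_c9 LD3_c27)) :=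
  Lre_g IH (LK LD1_c7 LD2_c29 LD3_c49) (LK LD1_c14 LD2_c9 LD3_c27) Lrfl Lrfl
theorem f660438 : Led Lsl_et (LP (LK LD1_c23 LD2_c44 LD3_c33)) = (LP (LK LD1_c14 LD2_c9 LD3_c27)) :=
  Lre_e IH (LK LD1_c23 LD2_c44 LD3_c33) (LK LD1_c14 LD2_c9 LD3_c27) Lrfl Lrfl
theorem f838252 : Led Lsl_df (LP (LK LD1_c14 LD2_c54 LD3_c42)) = (LP (LK LD1_c23 LD2_c44 LD3_c33)) :=
  Lgr Lrot170 (Lpr_gt (f479801 IH) (Lpr_df (f800377 IH) (Lpe (f800378 IH) (Lpr_gt (f838251 IH) (Lpe (f838246 IH) (Lpe (f836480 IH) (Lpe (K48.f660432 IH) (Lpr_et (f660433 IH) (Lpr_gt (f660437 IH) (Lpe (f660438 IH) (Lpn (LP (LK LD1_c23 LD2_c44 LD3_c33)))))))))))))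
theorem f838253 : Led Lsl_dt (LP (LK LD1_c23 LD2_c44 LD3_c33)) = (LP (LK LD1_c14 LD2_c54 LD3_c42)) :=
  Leop (Lpr_df (f838252 IH) (Lpn (LP (LK LD1_c23 LD2_c44 LD3_c33))))
theorem seed_1933 : LEOK LG_d (LK LD1_c23 LD2_c44 LD3_c33) :=
  Leoe_d (LK LD1_c23 LD2_c44 LD3_c33) (f838253 IH)
def v7345 : LQ := Led Lsl_et (LP (LK LD1_c3 LD2_c45 LD3_c21))
def v27233 : LQ := Led Lsl_ft v7345
theorem f838484 : Led Lsl_ft v7345 = v27233 :=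
  Lrfl
theorem f838488 : Led Lsl_ff v7345 = v27233 :=
  Lgr Lrot3 (Lpr_ft (f838484 IH) (Lpn v27233))
theorem f664669 : Led Lsl_et (LP (LK LD1_c3 LD2_c45 LD3_c21)) = v7345 :=
  Lrfl
theorem f754897 : Led Lsl_at v7345 = K59.v17068 :=
  Lgr Lrot80 (Lpe (f664669 IH) (Lpr_af (K51.f664649 IH) (Lpqs (K56.f709641 IH) (Lpr_ef (K61.f754896 IH) (Lpn K59.v17068)))))
theorem f776760 : Led Lsl_ct K46.v5998 = K59.v18947 :=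
  Lgr Lrot40 (Lpe (K46.f650442 IH) (Lpe (K4.f118403 IH) (Lpr_ff (K59.f776718 IH) (Lpn K59.v18947))))
def v10656 : LQ := Led Lsl_et K58.v3422
theorem f681264 : Led Lsl_et K58.v3422 = v10656 :=
  Lrfl
theorem f769117 : Led Lsl_cf K59.v8503 = v10656 :=
  Lgr Lrot39 (Lpe (K59.f671458 IH) (Lpr_ct (K59.f671453 IH) (Lpqs (K59.f769111 IH) (Lpr_et (f681264 IH) (Lpn v10656)))))
theorem f769118 : Led Lsl_ct K59.v8503 = v10656 :=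
  Lgr Lrot59 (Lpr_cf (f769117 IH) (Lpn v10656))
theorem f777619 : Led Lsl_dt v10656 = K61.v19059 :=
  Lgr Lrot27 (Lpe (f769118 IH) (Lpe (K59.f671463 IH) (Lpe (K59.f663270 IH) (Lpe (K49.f678499 IH) (Lpe (K49.f78967 IH) (Lpr_gt (K49.f650463 IH) (Lpr_ct (f776760 IH) (Lpe (K59.f776761 IH) (Lpr_ct (K61.f777613 IH) (Lpn K61.v19059))))))))))
theorem f681265 : Led Lsl_ef K58.v3422 = v10656 :=
  Lgr Lrot88 (Lpr_et (f681264 IH) (Lpn v10656))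
theorem f777621 : Led Lsl_gf (LP (LK LD1_c6 LD2_c49 LD3_c44)) = K61.v19059 :=
  Lgr Lrot145 (Lpe (K3.f69292 IH) (Lpr_et (K3.f69281 IH) (Lpr_gt (K3.f94119 IH) (Lpr_dt (K3.f79130 IH) (Lpr_gt (K3.f95741 IH) (Lpe (K3.f95985 IH) (Lpr_et (K56.f459555 IH) (Lpr_gt (K58.f625584 IH) (Lpr_ef (f681265 IH) (Lpr_dt (f777619 IH) (Lpn K61.v19059)))))))))))
theorem f646911 : Led Lsl_ff (LP (LK LD1_c3 LD2_c15 LD3_c6)) = K59.v5288 :=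
  Lgr Lrot25 (Lpr_bt (K59.f435617 IH) (Lpr_ft (K58.f508262 IH) (Lpr_bt (K59.f646908 IH) (Lpn K59.v5288))))
theorem f646912 : Led Lsl_dt (LP (LK LD1_c4 LD2_c48 LD3_c8)) = K59.v5288 :=
  Lgr Lrot60 (Lpr_ff (K59.f509156 IH) (Lpe (K59.f509158 IH) (Lpr_ff (f646911 IH) (Lpn K59.v5288))))
theorem f777622 : Led Lsl_gf K59.v17068 = v10656 :=
  Lgr Lrot147 (Lpe (K59.f754895 IH) (Lpr_gt (K59.f646579 IH) (Lpqs (K59.f773842 IH) (Lpe (K59.f755126 IH) (Lpq (K59.f768872 IH) (Lpe (f646912 IH) (Lpe (K59.f135551 IH) (Lpr_gf (K59.f769727 IH) (Lpe (K3.f93332 IH) (Lpr_gf (f777621 IH) (Lpe (f777619 IH) (Lpn v10656))))))))))))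
theorem f838492 : Led Lsl_gf v10656 = v27233 :=
  Lgr Lrot47 (Lpe (f777622 IH) (Lpe (f754897 IH) (Lpr_ff (f838488 IH) (Lpn v27233))))
def v10694 : LQ := Led Lsl_et K58.v3436
theorem f681430 : Led Lsl_et K58.v3436 = v10694 :=
  Lrfl
theorem f769132 : v10694 = v10656 :=
  Lefun (Lecon (f681430 IH) (K58.f769126 IH)) (f681264 IH)
theorem f681432 : Led Lsl_ef K58.v3436 = v10694 :=
  Lgr Lrot88 (Lpr_et (f681430 IH) (Lpn v10694))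
theorem f681433 : Led Lsl_at K59.v3440 = v10694 :=
  Lgr Lrot80 (Lpe (K59.f625662 IH) (Lpr_af (K58.f625653 IH) (Lpr_ef (f681432 IH) (Lpn v10694))))
theorem f838493 : Led Lsl_gt K59.v10715 = v27233 :=
  Lgr Lrot5 (Lpe (K59.f681490 IH) (Lpr_at (f681433 IH) (Lpqs (f769132 IH) (Lpr_gf (f838492 IH) (Lpn v27233)))))
theorem f119119 : Led Lsl_ct (LP (LK LD1_c21 LD2_c42 LD3_c53)) = (LP (LK LD1_c12 LD2_c36 LD3_c42)) :=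
  Lre_c IH (LK LD1_c21 LD2_c42 LD3_c53) (LK LD1_c12 LD2_c36 LD3_c42) Lrfl Lrfl
theorem f776636 : Led Lsl_df (LP (LK LD1_c21 LD2_c42 LD3_c53)) = (LP (LK LD1_c21 LD2_c50 LD3_c10)) :=
  Lgr Lrot43 (Lpr_ct (f119119 IH) (Lpr_dt (K61.f119123 IH) (Lpq (K59.f772663 IH) (Lpe (K59.f658230 IH) (Lpr_dt (K59.f62228 IH) (Lpr_ct (K59.f93305 IH) (Lpr_dt (K61.f772661 IH) (Lpe (K59.f776604 IH) (Lpr_dt (K61.f776609 IH) (Lpr_ct (K59.f527833 IH) (Lpr_dt (K59.f119163 IH) (Lpqs (K59.f772682 IH) (Lpq (K59.f772681 IH) (Lpe (K59.f658216 IH) (Lpr_dt (K59.f62224 IH) (Lpr_ct (K61.f658218 IH) (Lpr_dt (K61.f776600 IH) (Lpr_ct (K61.f776632 IH) (Lpn (LP (LK LD1_c21 LD2_c50 LD3_c10)))))))))))))))))))))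
theorem f650656 : Led Lsl_dt (LP (LK LD1_c12 LD2_c39 LD3_c49)) = (LP (LK LD1_c21 LD2_c46 LD3_c3)) :=
  Lre_d IH (LK LD1_c12 LD2_c39 LD3_c49) (LK LD1_c21 LD2_c46 LD3_c3) Lrfl Lrfl
theorem f776640 : Led Lsl_ft (LP (LK LD1_c21 LD2_c46 LD3_c3)) = (LP (LK LD1_c21 LD2_c50 LD3_c10)) :=
  Lgr Lrot54 (Lpe (f650656 IH) (Lpr_ff (K59.f772736 IH) (Lpr_df (f776636 IH) (Lpn (LP (LK LD1_c21 LD2_c50 LD3_c10))))))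
theorem f119170 : Led Lsl_ct (LP (LK LD1_c6 LD2_c37 LD3_c4)) = (LP (LK LD1_c12 LD2_c39 LD3_c61)) :=
  Lre_c IH (LK LD1_c6 LD2_c37 LD3_c4) (LK LD1_c12 LD2_c39 LD3_c61) Lrfl Lrfl
theorem f772864 : Led Lsl_gt (LP (LK LD1_c12 LD2_c39 LD3_c61)) = (LP (LK LD1_c12 LD2_c37 LD3_c12)) :=
  Lgr Lrot150 (Lpe (f119170 IH) (Lpe (K59.f119168 IH) (Lpe (K59.f118498 IH) (Lpr_gt (K59.f119198 IH) (Lpr_ct (K59.f119204 IH) (Lpqs (K59.f772646 IH) (Lpqs (K59.f772678 IH) (Lpe (K59.f653833 IH) (Lpe (K59.f69287 IH) (Lpe (K3.f69289 IH) (Lpe (K3.f69290 IH) (Lpn (LP (LK LD1_c12 LD2_c37 LD3_c12))))))))))))))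
theorem f119173 : Led Lsl_ct (LP (LK LD1_c12 LD2_c39 LD3_c61)) = (LP (LK LD1_c6 LD2_c37 LD3_c4)) :=
  Lre_c IH (LK LD1_c12 LD2_c39 LD3_c61) (LK LD1_c6 LD2_c37 LD3_c4) Lrfl Lrfl
theorem f130856 : Led Lsl_ct (LP (LK LD1_c6 LD2_c36 LD3_c61)) = (LP (LK LD1_c12 LD2_c39 LD3_c49)) :=
  Lre_c IH (LK LD1_c6 LD2_c36 LD3_c61) (LK LD1_c12 LD2_c39 LD3_c49) Lrfl Lrfl
theorem f650655 : Led Lsl_dt (LP (LK LD1_c21 LD2_c46 LD3_c3)) = (LP (LK LD1_c12 LD2_c39 LD3_c49)) :=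
  Lre_d IH (LK LD1_c21 LD2_c46 LD3_c3) (LK LD1_c12 LD2_c39 LD3_c49) Lrfl Lrfl
theorem f772868 : Led Lsl_gf (LP (LK LD1_c21 LD2_c46 LD3_c3)) = (LP (LK LD1_c21 LD2_c43 LD3_c35)) :=
  Lgr Lrot143 (Lpr_dt (f650655 IH) (Lpe (f130856 IH) (Lpe (K5.f96114 IH) (Lpe (K5.f96110 IH) (Lpe (K4.f118394 IH) (Lpe (K59.f103934 IH) (Lpe (f119173 IH) (Lpr_gt (f772864 IH) (Lpr_dt (K3.f69313 IH) (Lpn (LP (LK LD1_c21 LD2_c43 LD3_c35))))))))))))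
theorem f776623 : Led Lsl_at (LP (LK LD1_c21 LD2_c50 LD3_c9)) = (LP (LK LD1_c21 LD2_c46 LD3_c3)) :=
  Lgr Lrot26 (Lpr_ff (K61.f776615 IH) (Lpr_gt (K60.f769466 IH) (Lpe (f772868 IH) (Lpn (LP (LK LD1_c21 LD2_c46 LD3_c3))))))
theorem f776644 : Led Lsl_af (LP (LK LD1_c21 LD2_c46 LD3_c9)) = (LP (LK LD1_c21 LD2_c50 LD3_c10)) :=
  Lgr Lrot45 (Lpe (K61.f776615 IH) (Lpr_at (f776623 IH) (Lpr_ft (f776640 IH) (Lpn (LP (LK LD1_c21 LD2_c50 LD3_c10))))))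
theorem f772747 : Led Lsl_cf (LP (LK LD1_c12 LD2_c40 LD3_c32)) = (LP (LK LD1_c21 LD2_c46 LD3_c9)) :=
  Lgr Lrot11 (Lpr_ct (K60.f772744 IH) (Lpn (LP (LK LD1_c21 LD2_c46 LD3_c9))))
theorem f776646 : Led Lsl_at (LP (LK LD1_c12 LD2_c40 LD3_c32)) = (LP (LK LD1_c21 LD2_c43 LD3_c3)) :=
  Lgr Lrot107 (Lpr_cf (f772747 IH) (Lpr_af (f776644 IH) (Lpe (K61.f776632 IH) (Lpn (LP (LK LD1_c21 LD2_c43 LD3_c3))))))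
theorem f776648 : Led Lsl_af (LP (LK LD1_c12 LD2_c40 LD3_c32)) = (LP (LK LD1_c21 LD2_c43 LD3_c3)) :=
  Lgr Lrot0 (Lpr_at (f776646 IH) (Lpn (LP (LK LD1_c21 LD2_c43 LD3_c3))))
theorem f78910 : Led Lsl_gt (LP (LK LD1_c12 LD2_c40 LD3_c33)) = (LP (LK LD1_c6 LD2_c37 LD3_c21)) :=
  Lre_g IH (LK LD1_c12 LD2_c40 LD3_c33) (LK LD1_c6 LD2_c37 LD3_c21) Lrfl Lrfl
theorem f776650 : Led Lsl_ft (LP (LK LD1_c12 LD2_c40 LD3_c33)) = (LP (LK LD1_c21 LD2_c43 LD3_c3)) :=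
  Lgr Lrot2 (Lpr_gt (f78910 IH) (Lpr_gt (K59.f78907 IH) (Lpr_af (f776648 IH) (Lpn (LP (LK LD1_c21 LD2_c43 LD3_c3))))))
theorem f776656 : Led Lsl_ff (LP (LK LD1_c12 LD2_c40 LD3_c33)) = (LP (LK LD1_c21 LD2_c43 LD3_c3)) :=
  Lgr Lrot3 (Lpr_ft (f776650 IH) (Lpn (LP (LK LD1_c21 LD2_c43 LD3_c3))))
theorem f776661 : Led Lsl_ct (LP (LK LD1_c12 LD2_c40 LD3_c33)) = (LP (LK LD1_c21 LD2_c46 LD3_c3)) :=
  Lgr Lrot40 (Lpr_ff (f776656 IH) (Lpr_cf (K61.f776634 IH) (Lpe (f776640 IH) (Lpn (LP (LK LD1_c21 LD2_c46 LD3_c3))))))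
theorem f78922 : Led Lsl_dt (LP (LK LD1_c6 LD2_c37 LD3_c21)) = (LP (LK LD1_c3 LD2_c16 LD3_c60)) :=
  Lre_d IH (LK LD1_c6 LD2_c37 LD3_c21) (LK LD1_c3 LD2_c16 LD3_c60) Lrfl Lrfl
theorem f772872 : Led Lsl_gt (LP (LK LD1_c21 LD2_c46 LD3_c3)) = (LP (LK LD1_c21 LD2_c50 LD3_c12)) :=
  Lgr Lrot46 (Lpr_gf (f772868 IH) (Lpr_ft (K3.f93325 IH) (Lpe (K3.f89102 IH) (Lpn (LP (LK LD1_c21 LD2_c50 LD3_c12))))))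
theorem f62243 : Led Lsl_dt (LP (LK LD1_c21 LD2_c50 LD3_c12)) = (LP (LK LD1_c12 LD2_c42 LD3_c54)) :=
  Lre_d IH (LK LD1_c21 LD2_c50 LD3_c12) (LK LD1_c12 LD2_c42 LD3_c54) Lrfl Lrfl
theorem f93918 : Led Lsl_at (LP (LK LD1_c12 LD2_c37 LD3_c12)) = (LP (LK LD1_c6 LD2_c38 LD3_c35)) :=
  Lgr Lrot107 (Lpe (K3.f69312 IH) (Lpr_af (K56.f93913 IH) (Lpe (K3.f62229 IH) (Lpn (LP (LK LD1_c6 LD2_c38 LD3_c35))))))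
theorem f93928 : Led Lsl_af (LP (LK LD1_c12 LD2_c37 LD3_c12)) = (LP (LK LD1_c6 LD2_c38 LD3_c35)) :=
  Lgr Lrot0 (Lpr_at (f93918 IH) (Lpn (LP (LK LD1_c6 LD2_c38 LD3_c35))))
theorem f90837 : Led Lsl_ft (LP (LK LD1_c12 LD2_c42 LD3_c54)) = (LP (LK LD1_c6 LD2_c38 LD3_c35)) :=
  Lre_f IH (LK LD1_c12 LD2_c42 LD3_c54) (LK LD1_c6 LD2_c38 LD3_c35) Lrfl Lrfl
theorem f772866 : Led Lsl_gf (LP (LK LD1_c12 LD2_c39 LD3_c61)) = (LP (LK LD1_c12 LD2_c42 LD3_c54)) :=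
  Lgr Lrot47 (Lpr_gt (f772864 IH) (Lpr_af (f93928 IH) (Lpe (f90837 IH) (Lpn (LP (LK LD1_c12 LD2_c42 LD3_c54))))))
theorem f119172 : Led Lsl_dt (LP (LK LD1_c12 LD2_c39 LD3_c61)) = (LP (LK LD1_c21 LD2_c46 LD3_c17)) :=
  Lre_d IH (LK LD1_c12 LD2_c39 LD3_c61) (LK LD1_c21 LD2_c46 LD3_c17) Lrfl Lrfl
theorem f776664 : Led Lsl_cf (LP (LK LD1_c12 LD2_c40 LD3_c24)) = (LP (LK LD1_c21 LD2_c46 LD3_c17)) :=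
  Lgr Lrot14 (Lpe (K59.f78935 IH) (Lpe (K59.f78934 IH) (Lpe (f78922 IH) (Lpe (f78910 IH) (Lpr_ct (f776661 IH) (Lpr_gt (f772872 IH) (Lpr_dt (f62243 IH) (Lpe (f772866 IH) (Lpr_dt (f119172 IH) (Lpn (LP (LK LD1_c21 LD2_c46 LD3_c17))))))))))))
theorem f776607 : Led Lsl_ct (LP (LK LD1_c21 LD2_c50 LD3_c9)) = (LP (LK LD1_c21 LD2_c43 LD3_c4)) :=
  Lgr Lrot59 (Lpr_cf (K59.f776604 IH) (Lpn (LP (LK LD1_c21 LD2_c43 LD3_c4))))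
theorem f675655 : Led Lsl_gt (LP (LK LD1_c6 LD2_c38 LD3_c35)) = (LP (LK LD1_c12 LD2_c42 LD3_c51)) :=
  Lre_g IH (LK LD1_c6 LD2_c38 LD3_c35) (LK LD1_c12 LD2_c42 LD3_c51) Lrfl Lrfl
theorem f118435 : Led Lsl_ct (LP (LK LD1_c12 LD2_c36 LD3_c51)) = (LP (LK LD1_c21 LD2_c43 LD3_c5)) :=
  Lre_c IH (LK LD1_c12 LD2_c36 LD3_c51) (LK LD1_c21 LD2_c43 LD3_c5) Lrfl Lrfl
theorem f776678 : Led Lsl_ct (LP (LK LD1_c12 LD2_c42 LD3_c51)) = (LP (LK LD1_c12 LD2_c36 LD3_c43)) :=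
  Lgr Lrot152 (Lpe (f675655 IH) (Lpe (K3.f62265 IH) (Lpr_gt (K59.f89108 IH) (Lpr_ct (f776607 IH) (Lpr_gt (K59.f118436 IH) (Lpr_ct (f118435 IH) (Lpr_df (K4.f118407 IH) (Lpe (K4.f118406 IH) (Lpe (K46.f119117 IH) (Lpn (LP (LK LD1_c12 LD2_c36 LD3_c43))))))))))))
theorem f776686 : Led Lsl_ff (LP (LK LD1_c12 LD2_c42 LD3_c51)) = (LP (LK LD1_c12 LD2_c39 LD3_c61)) :=
  Lgr Lrot23 (Lpr_ct (f776678 IH) (Lpr_ft (K59.f776556 IH) (Lpr_ct (f119170 IH) (Lpn (LP (LK LD1_c12 LD2_c39 LD3_c61))))))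
theorem f776611 : Led Lsl_af (LP (LK LD1_c21 LD2_c50 LD3_c9)) = (LP (LK LD1_c21 LD2_c46 LD3_c3)) :=
  Lgr Lrot117 (Lpr_dt (K61.f776609 IH) (Lpr_at (K59.f772714 IH) (Lpr_dt (f650656 IH) (Lpn (LP (LK LD1_c21 LD2_c46 LD3_c3))))))
theorem f776642 : Led Lsl_ff (LP (LK LD1_c21 LD2_c46 LD3_c3)) = (LP (LK LD1_c21 LD2_c50 LD3_c10)) :=
  Lgr Lrot103 (Lpe (f776611 IH) (Lpr_cf (K59.f776604 IH) (Lpe (K61.f772661 IH) (Lpe (K59.f93305 IH) (Lpe (K59.f62228 IH) (Lpr_cf (K59.f658230 IH) (Lpqs (K59.f772663 IH) (Lpe (K61.f119123 IH) (Lpe (f119119 IH) (Lpr_df (f776636 IH) (Lpn (LP (LK LD1_c21 LD2_c50 LD3_c10)))))))))))))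
theorem f776654 : Led Lsl_cf (LP (LK LD1_c12 LD2_c40 LD3_c33)) = (LP (LK LD1_c21 LD2_c46 LD3_c3)) :=
  Lgr Lrot108 (Lpr_ft (f776650 IH) (Lpr_ct (K61.f776632 IH) (Lpe (f776642 IH) (Lpn (LP (LK LD1_c21 LD2_c46 LD3_c3))))))
theorem f776672 : Led Lsl_gf (LP (LK LD1_c12 LD2_c39 LD3_c58)) = (LP (LK LD1_c12 LD2_c37 LD3_c12)) :=
  Lgr Lrot147 (Lpr_ct (K59.f118499 IH) (Lpe (K59.f118478 IH) (Lpr_ct (K4.f118460 IH) (Lpr_df (K4.f118483 IH) (Lpe (K4.f118482 IH) (Lpe (f78910 IH) (Lpr_cf (f776654 IH) (Lpr_gf (f772868 IH) (Lpe (K3.f69313 IH) (Lpn (LP (LK LD1_c12 LD2_c37 LD3_c12))))))))))))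
theorem f776693 : Led Lsl_at (LP (LK LD1_c12 LD2_c42 LD3_c51)) = (LP (LK LD1_c12 LD2_c39 LD3_c58)) :=
  Lgr Lrot26 (Lpr_ff (f776686 IH) (Lpr_gt (f772864 IH) (Lpe (f776672 IH) (Lpn (LP (LK LD1_c12 LD2_c39 LD3_c58))))))
theorem f777393 : Led Lsl_df (LP (LK LD1_c6 LD2_c37 LD3_c3)) = K59.v19046 :=
  Lgr Lrot38 (Lpr_dt (K59.f777391 IH) (Lpn K59.v19046))
theorem f777400 : Led Lsl_ct K59.v10715 = K59.v19046 :=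
  Lgr Lrot59 (Lpr_cf (K59.f777399 IH) (Lpn K59.v19046))
theorem f777461 : Led Lsl_df K59.v10715 = K59.v19057 :=
  Lgr Lrot13 (Lpr_ct (f777400 IH) (Lpe (f777393 IH) (Lpr_ct (K58.f119099 IH) (Lpe (f776693 IH) (Lpr_ff (f776686 IH) (Lpr_dt (f119172 IH) (Lpe (f776664 IH) (Lpr_dt (K60.f432895 IH) (Lpr_ct (K59.f777459 IH) (Lpn K59.v19057))))))))))
theorem f88688 : Led Lsl_et (LP (LK LD1_c3 LD2_c53 LD3_c37)) = (LP (LK LD1_c1 LD2_c53 LD3_c25)) :=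
  Lre_e IH (LK LD1_c3 LD2_c53 LD3_c37) (LK LD1_c1 LD2_c53 LD3_c25) Lrfl Lrfl
theorem f777556 : Led Lsl_gt (LP (LK LD1_c6 LD2_c49 LD3_c44)) = K59.v19057 :=
  Lgr Lrot131 (Lpr_ef (K3.f93339 IH) (Lpr_dt (K3.f87590 IH) (Lpe (K11.f155059 IH) (Lpe (K61.f155072 IH) (Lpr_gf (K11.f432970 IH) (Lpe (f88688 IH) (Lpr_dt (K3.f88677 IH) (Lpq (K58.f768753 IH) (Lpe (K58.f677644 IH) (Lpr_df (K59.f677652 IH) (Lpr_et (K59.f777488 IH) (Lpn K59.v19057))))))))))))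
theorem f135548 : Led Lsl_dt (LP (LK LD1_c9 LD2_c29 LD3_c2)) = (LP (LK LD1_c17 LD2_c29 LD3_c31)) :=
  Lre_d IH (LK LD1_c9 LD2_c29 LD3_c2) (LK LD1_c17 LD2_c29 LD3_c31) Lrfl Lrfl
def v27232 : LQ := Led Lsl_dt v7345
theorem f838474 : Led Lsl_dt v7345 = v27232 :=
  Lrfl
theorem f838476 : Led Lsl_df v7345 = v27232 :=
  Lgr Lrot38 (Lpr_dt (f838474 IH) (Lpn v27232))
theorem f664670 : Led Lsl_ef (LP (LK LD1_c3 LD2_c45 LD3_c21)) = v7345 :=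
  Lgr Lrot88 (Lpr_et (f664669 IH) (Lpn v7345))
theorem f838479 : Led Lsl_gt K61.v20535 = v27232 :=
  Lgr Lrot112 (Lpe (K61.f787751 IH) (Lpq (K59.f772673 IH) (Lpqs (K58.f769448 IH) (Lpe (K61.f653832 IH) (Lpr_gf (K56.f664735 IH) (Lpe (K56.f664730 IH) (Lpe (K56.f653963 IH) (Lpe (K46.f634281 IH) (Lpe (K5.f105615 IH) (Lpe (K46.f93354 IH) (Lpr_ef (f664670 IH) (Lpr_dt (f838474 IH) (Lpn v27232)))))))))))))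
def v10650 : LQ := Led Lsl_dt K60.v3421
theorem f681249 : Led Lsl_dt K60.v3421 = v10650 :=
  Lrfl
theorem f681250 : Led Lsl_df K60.v3421 = v10650 :=
  Lgr Lrot38 (Lpr_dt (f681249 IH) (Lpn v10650))
theorem f787753 : Led Lsl_ef v10650 = K61.v20535 :=
  Lgr Lrot73 (Lpe (f681250 IH) (Lpe (K60.f625583 IH) (Lpr_dt (K56.f625580 IH) (Lpr_et (K58.f653831 IH) (Lpq (K58.f769448 IH) (Lpqs (K59.f772673 IH) (Lpr_dt (K61.f787751 IH) (Lpn K61.v20535))))))))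
theorem f787754 : Led Lsl_et v10650 = K61.v20535 :=
  Lgr Lrot87 (Lpr_ef (f787753 IH) (Lpn K61.v20535))
theorem f779367 : Led Lsl_at K60.v17856 = K60.v19381 :=
  Lgr Lrot51 (Lpe (K60.f773890 IH) (Lpr_af (K61.f778812 IH) (Lpr_df (K60.f779363 IH) (Lpn K60.v19381))))
theorem f754845 : Led Lsl_ff (LP (LK LD1_c6 LD2_c40 LD3_c40)) = (LP (LK LD1_c12 LD2_c2 LD3_c38)) :=
  Lgr Lrot3 (Lpr_ft (K60.f754835 IH) (Lpn (LP (LK LD1_c12 LD2_c2 LD3_c38))))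
theorem f754850 : Led Lsl_dt (LP (LK LD1_c6 LD2_c40 LD3_c40)) = (LP (LK LD1_c12 LD2_c2 LD3_c39)) :=
  Lgr Lrot60 (Lpr_ff (f754845 IH) (Lpe (K46.f443629 IH) (Lpe (K60.f646569 IH) (Lpn (LP (LK LD1_c12 LD2_c2 LD3_c39))))))
theorem f644524 : Led Lsl_gt (LP (LK LD1_c3 LD2_c18 LD3_c21)) = (LP (LK LD1_c6 LD2_c40 LD3_c40)) :=
  Lre_g IH (LK LD1_c3 LD2_c18 LD3_c21) (LK LD1_c6 LD2_c40 LD3_c40) Lrfl Lrfl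
def v5618 : LQ := Led Lsl_et (LP (LK LD1_c3 LD2_c10 LD3_c60))
theorem f648551 : Led Lsl_et (LP (LK LD1_c3 LD2_c10 LD3_c60)) = v5618 :=
  Lrfl
theorem f648555 : Led Lsl_ef (LP (LK LD1_c3 LD2_c10 LD3_c60)) = v5618 :=
  Lgr Lrot88 (Lpr_et (f648551 IH) (Lpn v5618))
theorem f648558 : Led Lsl_dt K56.v1933 = v5618 :=
  Lgr Lrot77 (Lpe (K56.f506454 IH) (Lpr_df (K2.f79132 IH) (Lpr_ef (K3.f95745 IH) (Lpe (K5.f86343 IH) (Lpr_ef (f648555 IH) (Lpn v5618))))))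
theorem f779369 : Led Lsl_gt v5618 = K60.v19381 :=
  Lgr Lrot49 (Lpe (f648558 IH) (Lpr_gf (K60.f670447 IH) (Lpqs (K60.f754178 IH) (Lpe (K57.f651473 IH) (Lpr_gt (K57.f63833 IH) (Lpr_dt (K62.f93531 IH) (Lpr_gt (f644524 IH) (Lpr_dt (f754850 IH) (Lpr_cf (K60.f778816 IH) (Lpr_df (K60.f779363 IH) (Lpn K60.v19381)))))))))))
theorem f779391 : Led Lsl_gf v5618 = K60.v19382 :=
  Lgr Lrot47 (Lpr_gt (f779369 IH) (Lpe (f779367 IH) (Lpqs (K60.f775998 IH) (Lpr_ff (K60.f779384 IH) (Lpn K60.v19382)))))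
theorem f126233 : Led Lsl_at (LP (LK LD1_c3 LD2_c10 LD3_c60)) = (LP (LK LD1_c1 LD2_c49 LD3_c41)) :=
  Lgr Lrot51 (Lpe (K3.f86346 IH) (Lpr_af (K5.f126226 IH) (Lpe (K1.f12433 IH) (Lpn (LP (LK LD1_c1 LD2_c49 LD3_c41))))))
theorem f648556 : Led Lsl_at (LP (LK LD1_c3 LD2_c45 LD3_c7)) = v5618 :=
  Lgr Lrot80 (Lpe (K1.f12451 IH) (Lpe (f126233 IH) (Lpr_ef (f648555 IH) (Lpn v5618))))
def v7330 : LQ := Led Lsl_ft (LP (LK LD1_c3 LD2_c45 LD3_c7))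
theorem f664598 : Led Lsl_ft (LP (LK LD1_c3 LD2_c45 LD3_c7)) = v7330 :=
  Lrfl
theorem f664601 : Led Lsl_ff (LP (LK LD1_c3 LD2_c45 LD3_c7)) = v7330 :=
  Lgr Lrot3 (Lpr_ft (f664598 IH) (Lpn v7330))
theorem f779392 : Led Lsl_gt v7330 = K60.v19382 :=
  Lgr Lrot5 (Lpe (f664601 IH) (Lpr_at (f648556 IH) (Lpr_gf (f779391 IH) (Lpn K60.v19382))))
theorem f664603 : Led Lsl_dt K56.v2612 = v7330 :=
  Lgr Lrot60 (Lpe (K56.f527782 IH) (Lpe (K56.f12481 IH) (Lpr_ff (f664601 IH) (Lpn v7330))))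
theorem f754822 : Led Lsl_cf K57.v7341 = K56.v17066 :=
  Lgr Lrot1 (Lpe (K57.f709657 IH) (Lpr_ct (K60.f443657 IH) (Lpr_at (K56.f754820 IH) (Lpn K56.v17066))))
theorem f779393 : Led Lsl_df K57.v7341 = K60.v19382 :=
  Lgr Lrot84 (Lpr_cf (f754822 IH) (Lpe (K60.f754829 IH) (Lpe (K56.f651359 IH) (Lpe (K56.f651321 IH) (Lpe (K51.f633074 IH) (Lpr_cf (K51.f651460 IH) (Lpq (K62.f761554 IH) (Lpr_gt (K62.f670455 IH) (Lpr_dt (f664603 IH) (Lpr_gt (f779392 IH) (Lpn K60.v19382)))))))))))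
def v20528 : LQ := Led Lsl_ft (LP (LK LD1_c6 LD2_c58 LD3_c59))
theorem f787660 : Led Lsl_ft (LP (LK LD1_c6 LD2_c58 LD3_c59)) = v20528 :=
  Lrfl
theorem f17760 : Led Lsl_et (LP (LK LD1_c3 LD2_c28 LD3_c33)) = (LP (LK LD1_c6 LD2_c58 LD3_c59)) :=
  Lre_e IH (LK LD1_c3 LD2_c28 LD3_c33) (LK LD1_c6 LD2_c58 LD3_c59) Lrfl Lrfl
theorem f12543 : Led Lsl_et (LP (LK LD1_c3 LD2_c45 LD3_c7)) = (LP (LK LD1_c1 LD2_c49 LD3_c41)) :=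
  Lre_e IH (LK LD1_c3 LD2_c45 LD3_c7) (LK LD1_c1 LD2_c49 LD3_c41) Lrfl Lrfl
theorem f787664 : Led Lsl_ef v7330 = v20528 :=
  Lgr Lrot21 (Lpe (f664601 IH) (Lpr_et (f12543 IH) (Lpr_ft (K5.f126247 IH) (Lpr_et (f17760 IH) (Lpr_ft (f787660 IH) (Lpn v20528))))))
theorem f95738 : Led Lsl_dt (LP (LK LD1_c3 LD2_c28 LD3_c32)) = (LP (LK LD1_c6 LD2_c58 LD3_c59)) :=
  Lre_d IH (LK LD1_c3 LD2_c28 LD3_c32) (LK LD1_c6 LD2_c58 LD3_c59) Lrfl Lrfl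
theorem f787663 : Led Lsl_df (LP (LK LD1_c6 LD2_c58 LD3_c60)) = v20528 :=
  Lgr Lrot78 (Lpr_ft (K34.f108712 IH) (Lpr_dt (f95738 IH) (Lpr_ft (f787660 IH) (Lpn v20528))))
def v7349 : LQ := Led Lsl_dt (LP (LK LD1_c3 LD2_c45 LD3_c25))
theorem f664684 : Led Lsl_dt (LP (LK LD1_c3 LD2_c45 LD3_c25)) = v7349 :=
  Lrfl
theorem f664685 : Led Lsl_df (LP (LK LD1_c3 LD2_c45 LD3_c25)) = v7349 :=
  Lgr Lrot38 (Lpr_dt (f664684 IH) (Lpn v7349))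
theorem f838481 : Led Lsl_et v7349 = v27232 :=
  Lgr Lrot122 (Lpe (f664685 IH) (Lpr_gt (K51.f209234 IH) (Lpr_df (f787663 IH) (Lpe (f787664 IH) (Lpr_gt (f779392 IH) (Lpe (f779393 IH) (Lpqs (K60.f778810 IH) (Lpe (K60.f681248 IH) (Lpr_df (f681250 IH) (Lpr_et (f787754 IH) (Lpr_gt (f838479 IH) (Lpn v27232))))))))))))
def v20523 : LQ := Led Lsl_dt (LP (LK LD1_c6 LD2_c58 LD3_c58))
theorem f787620 : Led Lsl_dt (LP (LK LD1_c6 LD2_c58 LD3_c58)) = v20523 :=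
  Lrfl
theorem f787624 : Led Lsl_ff v7349 = v20523 :=
  Lgr Lrot19 (Lpe (f664685 IH) (Lpr_ft (K56.f664686 IH) (Lpqs (K56.f709731 IH) (Lpr_dt (f787620 IH) (Lpn v20523)))))
theorem f787623 : Led Lsl_df (LP (LK LD1_c6 LD2_c58 LD3_c58)) = v20523 :=
  Lgr Lrot38 (Lpr_dt (f787620 IH) (Lpn v20523))
theorem f108710 : Led Lsl_dt (LP (LK LD1_c6 LD2_c58 LD3_c59)) = (LP (LK LD1_c3 LD2_c28 LD3_c32)) :=
  Lre_d IH (LK LD1_c6 LD2_c58 LD3_c59) (LK LD1_c3 LD2_c28 LD3_c32) Lrfl Lrfl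
theorem f17755 : Led Lsl_et (LP (LK LD1_c6 LD2_c58 LD3_c59)) = (LP (LK LD1_c3 LD2_c28 LD3_c33)) :=
  Lre_e IH (LK LD1_c6 LD2_c58 LD3_c59) (LK LD1_c3 LD2_c28 LD3_c33) Lrfl Lrfl
theorem f429703 : Led Lsl_gt (LP (LK LD1_c6 LD2_c59 LD3_c9)) = (LP (LK LD1_c13 LD2_c15 LD3_c19)) :=
  Lre_g IH (LK LD1_c6 LD2_c59 LD3_c9) (LK LD1_c13 LD2_c15 LD3_c19) Lrfl Lrfl
theorem f787628 : Led Lsl_ef (LP (LK LD1_c13 LD2_c15 LD3_c19)) = v20523 :=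
  Lgr Lrot17 (Lpe (f429703 IH) (Lpe (K57.f429702 IH) (Lpr_dt (K11.f89000 IH) (Lpr_gf (K11.f429699 IH) (Lpe (K11.f106093 IH) (Lpe (K11.f429675 IH) (Lpe (f17755 IH) (Lpr_dt (f108710 IH) (Lpe (K56.f108716 IH) (Lpr_df (f787623 IH) (Lpn v20523)))))))))))
theorem f787630 : Led Lsl_et (LP (LK LD1_c13 LD2_c15 LD3_c19)) = v20523 :=
  Lgr Lrot87 (Lpr_ef (f787628 IH) (Lpn v20523))
def v20968 : LQ := Led Lsl_gf (LP (LK LD1_c7 LD2_c9 LD3_c58))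
theorem f791393 : Led Lsl_gf (LP (LK LD1_c7 LD2_c9 LD3_c58)) = v20968 :=
  Lrfl
theorem f762393 : Led Lsl_dt (LP (LK LD1_c6 LD2_c29 LD3_c37)) = K59.v17838 :=
  Lgr Lrot42 (Lpr_df (K59.f762391 IH) (Lpn K59.v17838))
def v7353 : LQ := Led Lsl_dt (LP (LK LD1_c3 LD2_c45 LD3_c26))
theorem f664694 : Led Lsl_dt (LP (LK LD1_c3 LD2_c45 LD3_c26)) = v7353 :=
  Lrfl
theorem f664695 : Led Lsl_df (LP (LK LD1_c3 LD2_c45 LD3_c26)) = v7353 :=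
  Lgr Lrot38 (Lpr_dt (f664694 IH) (Lpn v7353))
theorem f762396 : Led Lsl_bf v7353 = K59.v17838 :=
  Lgr Lrot93 (Lpe (f664695 IH) (Lpr_bt (K56.f664690 IH) (Lpqs (K56.f670926 IH) (Lpr_dt (f762393 IH) (Lpn K59.v17838)))))
def v17837 : LQ := Led Lsl_bt (LP (LK LD1_c6 LD2_c22 LD3_c56))
theorem f762383 : Led Lsl_bt (LP (LK LD1_c6 LD2_c22 LD3_c56)) = v17837 :=
  Lrfl
theorem f762384 : Led Lsl_bf (LP (LK LD1_c6 LD2_c22 LD3_c56)) = v17837 :=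
  Lgr Lrot24 (Lpr_bt (f762383 IH) (Lpn v17837))
theorem f762397 : Led Lsl_et v7353 = v17837 :=
  Lgr Lrot74 (Lpr_bf (f762396 IH) (Lpe (K59.f762387 IH) (Lpr_bf (f762384 IH) (Lpn v17837))))
theorem f114297 : Led Lsl_dt (LP (LK LD1_c3 LD2_c45 LD3_c27)) = (LP (LK LD1_c1 LD2_c49 LD3_c52)) :=
  Lre_d IH (LK LD1_c3 LD2_c45 LD3_c27) (LK LD1_c1 LD2_c49 LD3_c52) Lrfl Lrfl
theorem f109204 : Led Lsl_et (LP (LK LD1_c1 LD2_c31 LD3_c37)) = (LP (LK LD1_c0 LD2_c42 LD3_c21)) :=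
  Lre_e IH (LK LD1_c1 LD2_c31 LD3_c37) (LK LD1_c0 LD2_c42 LD3_c21) Lrfl Lrfl
theorem f109206 : Led Lsl_ef (LP (LK LD1_c3 LD2_c10 LD3_c35)) = (LP (LK LD1_c3 LD2_c45 LD3_c27)) :=
  Lgr Lrot73 (Lpr_dt (K5.f109190 IH) (Lpr_et (f109204 IH) (Lpr_dt (K3.f109196 IH) (Lpr_et (K34.f109205 IH) (Lpr_dt (K56.f85134 IH) (Lpn (LP (LK LD1_c3 LD2_c45 LD3_c27))))))))
theorem f109192 : Led Lsl_gt (LP (LK LD1_c3 LD2_c10 LD3_c35)) = (LP (LK LD1_c3 LD2_c28 LD3_c46)) :=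
  Lgr Lrot9 (Lpe (K7.f109191 IH) (Lpr_gt (K3.f109186 IH) (Lpr_ct (K3.f57557 IH) (Lpr_gt (K3.f64504 IH) (Lpr_ct (K3.f64498 IH) (Lpe (K7.f62055 IH) (Lpe (K7.f90812 IH) (Lpe (K6.f90651 IH) (Lpr_cf (K11.f90657 IH) (Lpn (LP (LK LD1_c3 LD2_c28 LD3_c46))))))))))))
theorem f155073 : Led Lsl_et (LP (LK LD1_c3 LD2_c34 LD3_c24)) = (LP (LK LD1_c7 LD2_c9 LD3_c58)) :=
  Lre_e IH (LK LD1_c3 LD2_c34 LD3_c24) (LK LD1_c7 LD2_c9 LD3_c58) Lrfl Lrfl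
theorem f762399 : Led Lsl_gt (LP (LK LD1_c7 LD2_c9 LD3_c58)) = v17837 :=
  Lgr Lrot131 (Lpe (f155073 IH) (Lpr_dt (K61.f155072 IH) (Lpr_gf (K7.f155057 IH) (Lpe (K11.f85595 IH) (Lpe (f109192 IH) (Lpr_ef (f109206 IH) (Lpr_dt (f114297 IH) (Lpe (K49.f155074 IH) (Lpr_df (f664695 IH) (Lpr_et (f762397 IH) (Lpn v17837)))))))))))
def v18447 : LQ := Led Lsl_bt (LP (LK LD1_c6 LD2_c29 LD3_c45))
theorem f767004 : Led Lsl_bt (LP (LK LD1_c6 LD2_c29 LD3_c45)) = v18447 :=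
  Lrfl
theorem f762392 : Led Lsl_bt v7353 = K59.v17838 :=
  Lgr Lrot95 (Lpe (f664694 IH) (Lpr_bf (K56.f664691 IH) (Lpqs (K56.f670926 IH) (Lpr_df (K59.f762391 IH) (Lpn K59.v17838)))))
theorem f767008 : Led Lsl_ff v7353 = v18447 :=
  Lgr Lrot25 (Lpr_bt (f762392 IH) (Lpe (K59.f762395 IH) (Lpr_bt (f767004 IH) (Lpn v18447))))
theorem f767009 : Led Lsl_dt K56.v7347 = v18447 :=
  Lgr Lrot60 (Lpe (K56.f664679 IH) (Lpr_df (f664695 IH) (Lpr_ff (f767008 IH) (Lpn v18447))))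
theorem f767011 : Led Lsl_af v7349 = v18447 :=
  Lgr Lrot117 (Lpe (f664685 IH) (Lpr_at (K56.f664677 IH) (Lpr_dt (f767009 IH) (Lpn v18447))))
theorem f767012 : Led Lsl_at v7349 = v18447 :=
  Lgr Lrot100 (Lpr_af (f767011 IH) (Lpn v18447))
theorem f787625 : Led Lsl_at v7353 = v20523 :=
  Lgr Lrot66 (Lpr_ff (f767008 IH) (Lpe (f767012 IH) (Lpr_ff (f787624 IH) (Lpn v20523))))
theorem f762398 : Led Lsl_ef v7353 = v17837 :=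
  Lgr Lrot88 (Lpr_et (f762397 IH) (Lpn v17837))
theorem f787629 : Led Lsl_at (LP (LK LD1_c13 LD2_c15 LD3_c19)) = v17837 :=
  Lgr Lrot80 (Lpr_ef (f787628 IH) (Lpe (f787625 IH) (Lpr_ef (f762398 IH) (Lpn v17837))))
theorem f791395 : Led Lsl_ff (LP (LK LD1_c13 LD2_c15 LD3_c19)) = v20968 :=
  Lgr Lrot52 (Lpr_at (f787629 IH) (Lpe (f762399 IH) (Lpr_gf (f791393 IH) (Lpn v20968))))
theorem f791397 : Led Lsl_ft (LP (LK LD1_c13 LD2_c15 LD3_c19)) = v20968 :=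
  Lgr Lrot48 (Lpr_ff (f791395 IH) (Lpn v20968))
theorem f664688 : Led Lsl_ff (LP (LK LD1_c3 LD2_c45 LD3_c25)) = K56.v7350 :=
  Lgr Lrot3 (Lpr_ft (K56.f664686 IH) (Lpn K56.v7350))
theorem f664680 : Led Lsl_ff (LP (LK LD1_c3 LD2_c45 LD3_c26)) = K56.v7347 :=
  Lgr Lrot3 (Lpr_ft (K56.f664679 IH) (Lpn K56.v7347))
theorem f664689 : Led Lsl_at (LP (LK LD1_c3 LD2_c45 LD3_c26)) = K56.v7350 :=
  Lgr Lrot66 (Lpr_ff (f664680 IH) (Lpe (K56.f664677 IH) (Lpr_ff (f664688 IH) (Lpn K56.v7350))))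
theorem f787621 : Led Lsl_af v7353 = v20523 :=
  Lgr Lrot117 (Lpe (f664695 IH) (Lpr_at (f664689 IH) (Lpqs (K56.f709731 IH) (Lpr_dt (f787620 IH) (Lpn v20523)))))
theorem f787631 : Led Lsl_af (LP (LK LD1_c13 LD2_c15 LD3_c19)) = v17837 :=
  Lgr Lrot50 (Lpr_et (f787630 IH) (Lpe (f787621 IH) (Lpr_et (f762397 IH) (Lpn v17837))))
def v20539 : LQ := Led Lsl_gf (LP (LK LD1_c6 LD2_c59 LD3_c9))
theorem f787786 : Led Lsl_gf (LP (LK LD1_c6 LD2_c59 LD3_c9)) = v20539 :=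
  Lrfl
theorem f787787 : Led Lsl_ff v17837 = v20539 :=
  Lgr Lrot52 (Lpe (f787631 IH) (Lpe (f429703 IH) (Lpr_gf (f787786 IH) (Lpn v20539))))
theorem f791398 : Led Lsl_af v20539 = v20968 :=
  Lgr Lrot45 (Lpe (f787787 IH) (Lpe (f787631 IH) (Lpr_ft (f791397 IH) (Lpn v20968))))
theorem f787788 : Led Lsl_et K61.v17754 = v20539 :=
  Lgr Lrot185 (Lpr_dt (K61.f775990 IH) (Lpr_gf (K61.f787768 IH) (Lpe (K61.f787761 IH) (Lpe (K59.f62662 IH) (Lpe (K59.f89098 IH) (Lpr_dt (K3.f85365 IH) (Lpe (K11.f66438 IH) (Lpe (K11.f89000 IH) (Lpr_et (K57.f429702 IH) (Lpr_gf (f787786 IH) (Lpn v20539)))))))))))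
theorem f787790 : Led Lsl_ef K61.v17754 = v20539 :=
  Lgr Lrot88 (Lpr_et (f787788 IH) (Lpn v20539))
theorem f787736 : Led Lsl_gt (LP (LK LD1_c6 LD2_c59 LD3_c6)) = K61.v20534 :=
  Lgr Lrot9 (Lpe (K59.f62228 IH) (Lpr_gt (K59.f62227 IH) (Lpr_ct (K3.f62187 IH) (Lpqs (K56.f754453 IH) (Lpe (K56.f650679 IH) (Lpr_ct (K56.f118508 IH) (Lpe (K46.f114227 IH) (Lpe (K59.f130835 IH) (Lpe (K61.f130846 IH) (Lpr_cf (K61.f787735 IH) (Lpn K61.v20534)))))))))))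
def v20533 : LQ := Led Lsl_gt (LP (LK LD1_c6 LD2_c59 LD3_c5))
theorem f787718 : Led Lsl_gt (LP (LK LD1_c6 LD2_c59 LD3_c5)) = v20533 :=
  Lrfl
theorem f777370 : Led Lsl_ft (LP (LK LD1_c6 LD2_c59 LD3_c5)) = K59.v19044 :=
  Lgr Lrot48 (Lpr_ff (K61.f777369 IH) (Lpn K59.v19044))
theorem f787719 : Led Lsl_gf (LP (LK LD1_c6 LD2_c59 LD3_c6)) = v20533 :=
  Lgr Lrot76 (Lpr_af (f777367 IH) (Lpe (f777370 IH) (Lpr_gt (f787718 IH) (Lpn v20533))))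
theorem f787724 : Led Lsl_dt K59.v17068 = v20533 :=
  Lgr Lrot56 (Lpe (K61.f754896 IH) (Lpq (K57.f649431 IH) (Lpe (K57.f649354 IH) (Lpe (K5.f65591 IH) (Lpe (K3.f96723 IH) (Lpr_gt (K3.f62194 IH) (Lpe (K1.f17782 IH) (Lpr_et (K3.f62185 IH) (Lpr_gt (K58.f62223 IH) (Lpr_dt (K59.f62224 IH) (Lpr_gt (f787718 IH) (Lpn v20533))))))))))))
theorem f775994 : Led Lsl_ff K59.v17068 = K60.v10714 :=
  Lgr Lrot3 (Lpr_ft (K61.f775992 IH) (Lpn K60.v10714))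
theorem f787727 : Led Lsl_ff K61.v17754 = v20533 :=
  Lgr Lrot19 (Lpr_dt (K61.f775990 IH) (Lpe (f775994 IH) (Lpr_dt (f787724 IH) (Lpn v20533))))
theorem f787743 : Led Lsl_at K61.v17754 = K61.v20534 :=
  Lgr Lrot26 (Lpr_ff (f787727 IH) (Lpe (f787719 IH) (Lpr_gt (f787736 IH) (Lpn K61.v20534))))
theorem f791399 : Led Lsl_et K61.v20534 = v20968 :=
  Lgr Lrot123 (Lpe (f787743 IH) (Lpr_ef (f787790 IH) (Lpr_af (f791398 IH) (Lpn v20968))))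
theorem f838482 : Led Lsl_ff K61.v20534 = v27232 :=
  Lgr Lrot72 (Lpr_et (f791399 IH) (Lpe (f791395 IH) (Lpr_et (f787630 IH) (Lpe (f787624 IH) (Lpr_et (f838481 IH) (Lpn v27232))))))
theorem f838483 : Led Lsl_ft K61.v20534 = v27232 :=
  Lgr Lrot48 (Lpr_ff (f838482 IH) (Lpn v27232))
theorem f838486 : Led Lsl_df K61.v20534 = v27233 :=
  Lgr Lrot78 (Lpr_ft (f838483 IH) (Lpe (f838476 IH) (Lpr_ft (f838484 IH) (Lpn v27233))))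
theorem f130847 : Led Lsl_dt (LP (LK LD1_c21 LD2_c46 LD3_c37)) = (LP (LK LD1_c12 LD2_c40 LD3_c13)) :=
  Lre_d IH (LK LD1_c21 LD2_c46 LD3_c37) (LK LD1_c12 LD2_c40 LD3_c13) Lrfl Lrfl
theorem f838494 : Led Lsl_gt (LP (LK LD1_c17 LD2_c29 LD3_c31)) = (LP (LK LD1_c21 LD2_c46 LD3_c37)) :=
  Lgr Lrot49 (Lpe (f135548 IH) (Lpr_gf (K59.f769727 IH) (Lpe (K3.f93332 IH) (Lpr_gt (f777556 IH) (Lpe (f777461 IH) (Lpr_gt (f838493 IH) (Lpe (f838486 IH) (Lpe (K61.f787732 IH) (Lpe (f130847 IH) (Lpn (LP (LK LD1_c21 LD2_c46 LD3_c37))))))))))))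
theorem f838495 : Led Lsl_gt (LP (LK LD1_c17 LD2_c29 LD3_c31)) = (LP (LK LD1_c21 LD2_c46 LD3_c37)) :=
  Leop (Lpe (f838494 IH) (Lpn (LP (LK LD1_c17 LD2_c29 LD3_c31))))
theorem seed_1934 : LEOK LG_g (LK LD1_c17 LD2_c29 LD3_c31) :=
  Leoe_g (LK LD1_c17 LD2_c29 LD3_c31) (f838495 IH)
def v27245 : LQ := Led Lsl_at K59.v7371
theorem f838549 : Led Lsl_at K59.v7371 = v27245 :=
  Lrfl
theorem f664775 : Led Lsl_et K59.v2622 = K59.v7371 :=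
  Lgr Lrot87 (Lpr_ef (K59.f664774 IH) (Lpn K59.v7371))
theorem f838554 : Led Lsl_ef K59.v9364 = v27245 :=
  Lgr Lrot20 (Lpe (K59.f675517 IH) (Lpr_et (f664775 IH) (Lpr_at (f838549 IH) (Lpn v27245))))
theorem f838560 : Led Lsl_et K59.v9364 = v27245 :=
  Lgr Lrot87 (Lpr_ef (f838554 IH) (Lpn v27245))
theorem f527239 : Led Lsl_bt (LP (LK LD1_c2 LD2_c20 LD3_c27)) = K58.v2537 :=
  Lgr Lrot119 (Lpe (K58.f98850 IH) (Lpe (K4.f104116 IH) (Lpr_ef (K60.f527237 IH) (Lpn K58.v2537))))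
def v9213 : LQ := Led Lsl_gt K58.v2537
theorem f674402 : Led Lsl_gt K58.v2537 = v9213 :=
  Lrfl
theorem f770368 : K59.v7827 = v9213 :=
  (Llr Lrot125 (Lpe (K59.f668628 IH) (Lpr_gt (K59.f649580 IH) (Lpe (K8.f22562 IH) (Lpr_bt (K24.f22548 IH) (Lpe (K32.f151920 IH) (Lpr_bf (K58.f494889 IH) (Lpq (K58.f507041 IH) (Lpr_ct (K58.f649927 IH) (Lpqs (K58.f770364 IH) (Lpe (K58.f703386 IH) (Lpe (K58.f102324 IH) (Lpr_bt (f527239 IH) (Lpr_gt (f674402 IH) (Lpn v9213))))))))))))))).symm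
def v27063 : LQ := Led Lsl_gt K60.v7166
theorem f837418 : Led Lsl_gt K60.v7166 = v27063 :=
  Lrfl
def v21534 : LQ := Led Lsl_et (LP (LK LD1_c7 LD2_c21 LD3_c5))
theorem f797711 : Led Lsl_et (LP (LK LD1_c7 LD2_c21 LD3_c5)) = v21534 :=
  Lrfl
theorem f797713 : Led Lsl_bf K60.v7166 = v21534 :=
  Lgr Lrot96 (Lpe (K60.f661636 IH) (Lpr_bt (K50.f527847 IH) (Lpr_et (f797711 IH) (Lpn v21534))))
theorem f797714 : Led Lsl_cf (LP (LK LD1_c9 LD2_c23 LD3_c34)) = v21534 :=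
  Lgr Lrot39 (Lpr_et (K59.f102031 IH) (Lpe (K50.f527848 IH) (Lpr_et (f797711 IH) (Lpn v21534))))
theorem f775555 : Led Lsl_dt (LP (LK LD1_c21 LD2_c38 LD3_c30)) = (LP (LK LD1_c17 LD2_c25 LD3_c54)) :=
  Lgr Lrot42 (Lpr_df (K59.f775553 IH) (Lpn (LP (LK LD1_c17 LD2_c25 LD3_c54))))
theorem f442967 : Led Lsl_ct (LP (LK LD1_c12 LD2_c32 LD3_c33)) = (LP (LK LD1_c21 LD2_c38 LD3_c30)) :=
  Lre_c IH (LK LD1_c12 LD2_c32 LD3_c33) (LK LD1_c21 LD2_c38 LD3_c30) Lrfl Lrfl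
theorem f704310 : Led Lsl_ct (LP (LK LD1_c17 LD2_c25 LD3_c54)) = (LP (LK LD1_c9 LD2_c27 LD3_c10)) :=
  Lre_c IH (LK LD1_c17 LD2_c25 LD3_c54) (LK LD1_c9 LD2_c27 LD3_c10) Lrfl Lrfl
theorem f775499 : Led Lsl_df K59.v18464 = (LP (LK LD1_c9 LD2_c27 LD3_c7)) :=
  Lgr Lrot162 (Lpe (K59.f775491 IH) (Lpr_gf (K59.f775494 IH) (Lpe (K59.f768254 IH) (Lpr_gf (K59.f652287 IH) (Lpq (K59.f770440 IH) (Lpr_dt (K57.f668916 IH) (Lpqs (K59.f770426 IH) (Lpr_gt (K59.f652294 IH) (Lpq (K59.f770436 IH) (Lpr_ct (K59.f103362 IH) (Lpqs (K59.f774000 IH) (Lpe (K59.f704308 IH) (Lpr_ct (K59.f674612 IH) (Lpn (LP (LK LD1_c9 LD2_c27 LD3_c7))))))))))))))))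
theorem f774015 : Led Lsl_ff (LP (LK LD1_c12 LD2_c32 LD3_c41)) = (LP (LK LD1_c9 LD2_c23 LD3_c34)) :=
  Lgr Lrot3 (Lpr_ft (K59.f774010 IH) (Lpn (LP (LK LD1_c9 LD2_c23 LD3_c34))))
theorem f774017 : Led Lsl_at (LP (LK LD1_c12 LD2_c32 LD3_c41)) = (LP (LK LD1_c9 LD2_c27 LD3_c11)) :=
  Lgr Lrot66 (Lpr_ff (f774015 IH) (Lpr_af (K59.f674604 IH) (Lpe (K59.f633310 IH) (Lpn (LP (LK LD1_c9 LD2_c27 LD3_c11))))))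
theorem f775565 : Led Lsl_df (LP (LK LD1_c12 LD2_c32 LD3_c33)) = (LP (LK LD1_c9 LD2_c23 LD3_c34)) :=
  Lgr Lrot157 (Lpr_ct (f442967 IH) (Lpr_dt (f775555 IH) (Lpr_ct (f704310 IH) (Lpr_dt (K59.f674610 IH) (Lpr_ct (K59.f674612 IH) (Lpe (f775499 IH) (Lpe (K59.f775490 IH) (Lpe (f774017 IH) (Lpr_ff (f774015 IH) (Lpn (LP (LK LD1_c9 LD2_c23 LD3_c34))))))))))))
theorem f775574 : Led Lsl_gt (LP (LK LD1_c6 LD2_c42 LD3_c49)) = (LP (LK LD1_c9 LD2_c23 LD3_c34)) :=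
  Lgr Lrot94 (Lpe (K59.f24667 IH) (Lpq (K58.f770431 IH) (Lpqs (K58.f758517 IH) (Lpr_gt (K58.f668881 IH) (Lpqs (K49.f674029 IH) (Lpr_dt (K57.f668916 IH) (Lpe (K49.f668915 IH) (Lpr_dt (K49.f103352 IH) (Lpe (K59.f103351 IH) (Lpe (K59.f103360 IH) (Lpr_gf (K59.f774371 IH) (Lpr_df (f775565 IH) (Lpn (LP (LK LD1_c9 LD2_c23 LD3_c34)))))))))))))))
def v19763 : LQ := Led Lsl_gf (LP (LK LD1_c6 LD2_c46 LD3_c23))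
theorem f781989 : Led Lsl_gf (LP (LK LD1_c6 LD2_c46 LD3_c23)) = v19763 :=
  Lrfl
theorem f837421 : Led Lsl_cf v19763 = v27063 :=
  Lgr Lrot125 (Lpe (f781989 IH) (Lpe (K46.f24664 IH) (Lpr_bt (K48.f24662 IH) (Lpe (K32.f24658 IH) (Lpe (K58.f24666 IH) (Lpr_ct (K59.f24667 IH) (Lpr_gt (f775574 IH) (Lpr_cf (f797714 IH) (Lpe (f797713 IH) (Lpr_gt (f837418 IH) (Lpn v27063)))))))))))
theorem f773044 : Led Lsl_at K50.v13915 = (LP (LK LD1_c6 LD2_c42 LD3_c21)) :=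
  Lgr Lrot100 (Lpr_af (K59.f773043 IH) (Lpn (LP (LK LD1_c6 LD2_c42 LD3_c21))))
theorem f781991 : Led Lsl_ff K50.v13915 = v19763 :=
  Lgr Lrot52 (Lpr_at (f773044 IH) (Lpe (K48.f662721 IH) (Lpr_gf (f781989 IH) (Lpn v19763))))
theorem f781993 : Led Lsl_dt K58.v18692 = v19763 :=
  Lgr Lrot60 (Lpe (K58.f768071 IH) (Lpr_df (K50.f705880 IH) (Lpr_ff (f781991 IH) (Lpn v19763))))
def v18603 : LQ := Led Lsl_gt (LP (LK LD1_c6 LD2_c31 LD3_c14))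
theorem f767661 : Led Lsl_gt (LP (LK LD1_c6 LD2_c31 LD3_c14)) = v18603 :=
  Lrfl
theorem f773062 : K58.v18692 = v18603 :=
  (Llr Lrot26 (Lpe (K58.f768069 IH) (Lpr_ff (K59.f768086 IH) (Lpqs (K59.f773047 IH) (Lpr_gt (K48.f23777 IH) (Lpr_gt (f767661 IH) (Lpn v18603))))))).symm
def v7864 : LQ := Led Lsl_ct K57.v1340
theorem f668793 : Led Lsl_ct K57.v1340 = v7864 :=
  Lrfl
theorem f770466 : K58.v5877 = v7864 :=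
  Lefun (Lecon (K58.f649921 IH) (K58.f770442 IH).symm) (f668793 IH)
theorem f772343 : K60.v9214 = K59.v9317 :=
  (Llr Lrot124 (Lpe (K60.f674403 IH) (Lpe (f527239 IH) (Lpr_ct (K58.f102324 IH) (Lpr_gt (K58.f703385 IH) (Lpq (K58.f770363 IH) (Lpqs (f770466 IH) (Lpe (f668793 IH) (Lpqs (K58.f758521 IH) (Lpq (K59.f771894 IH) (Lpe (K59.f508631 IH) (Lpr_gt (K24.f453814 IH) (Lpr_ct (K58.f150971 IH) (Lpe (K58.f439872 IH) (Lpqs (K59.f769509 IH) (Lpe (K59.f675368 IH) (Lpr_bt (K59.f675366 IH) (Lpn K59.v9317)))))))))))))))))).symm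
theorem f837425 : Led Lsl_dt v9213 = v27063 :=
  Lgr Lrot105 (Lpe (f674402 IH) (Lpe (K60.f527240 IH) (Lpr_gf (K60.f674403 IH) (Lpqs (f772343 IH) (Lpq (K59.f772338 IH) (Lpe (K59.f767651 IH) (Lpr_gt (K59.f23776 IH) (Lpr_dt (K48.f23775 IH) (Lpr_gt (f767661 IH) (Lpq (f773062 IH) (Lpr_dt (f781993 IH) (Lpr_cf (f837421 IH) (Lpn v27063)))))))))))))
def v27064 : LQ := Led Lsl_dt K60.v7166
theorem f837430 : Led Lsl_dt K60.v7166 = v27064 :=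
  Lrfl
theorem f837432 : Led Lsl_df K60.v7166 = v27064 :=
  Lgr Lrot38 (Lpr_dt (f837430 IH) (Lpn v27064))
theorem f837433 : Led Lsl_ef K50.v9222 = v27064 :=
  Lgr Lrot73 (Lpe (K50.f674734 IH) (Lpr_et (K50.f661634 IH) (Lpe (K50.f661632 IH) (Lpr_et (K60.f661635 IH) (Lpr_dt (f837430 IH) (Lpn v27064))))))
def v20552 : LQ := Led Lsl_bt (LP (LK LD1_c6 LD2_c59 LD3_c25))
theorem f787872 : Led Lsl_bt (LP (LK LD1_c6 LD2_c59 LD3_c25)) = v20552 :=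
  Lrfl
theorem f787875 : Led Lsl_ef v19471 = v20552 :=
  Lgr Lrot29 (Lpe (f779918 IH) (Lpr_et (K59.f433074 IH) (Lpr_bt (f787872 IH) (Lpn v20552))))
theorem f779914 : Led Lsl_et (LP (LK LD1_c6 LD2_c42 LD3_c44)) = (LP (LK LD1_c12 LD2_c50 LD3_c20)) :=
  Lre_e IH (LK LD1_c6 LD2_c42 LD3_c44) (LK LD1_c12 LD2_c50 LD3_c20) Lrfl Lrfl
theorem f787876 : Led Lsl_ct (LP (LK LD1_c12 LD2_c50 LD3_c20)) = v20552 :=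
  Lgr Lrot15 (Lpe (f779914 IH) (Lpr_cf (f779919 IH) (Lpr_ef (f787875 IH) (Lpn v20552))))
def v19558 : LQ := Led Lsl_ct (LP (LK LD1_c6 LD2_c43 LD3_c52))
theorem f780677 : Led Lsl_ct (LP (LK LD1_c6 LD2_c43 LD3_c52)) = v19558 :=
  Lrfl
theorem f57657 : Led Lsl_et (LP (LK LD1_c6 LD2_c17 LD3_c51)) = (LP (LK LD1_c3 LD2_c6 LD3_c6)) :=
  Lre_e IH (LK LD1_c6 LD2_c17 LD3_c51) (LK LD1_c3 LD2_c6 LD3_c6) Lrfl Lrfl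
theorem f57616 : Led Lsl_bt (LP (LK LD1_c3 LD2_c6 LD3_c8)) = (LP (LK LD1_c6 LD2_c17 LD3_c51)) :=
  Lre_b IH (LK LD1_c3 LD2_c6 LD3_c8) (LK LD1_c6 LD2_c17 LD3_c51) Lrfl Lrfl
theorem f57617 : Led Lsl_bt (LP (LK LD1_c6 LD2_c43 LD3_c52)) = (LP (LK LD1_c3 LD2_c19 LD3_c61)) :=
  Lre_b IH (LK LD1_c6 LD2_c43 LD3_c52) (LK LD1_c3 LD2_c19 LD3_c61) Lrfl Lrfl
theorem f57618 : Led Lsl_dt (LP (LK LD1_c6 LD2_c17 LD3_c51)) = (LP (LK LD1_c6 LD2_c43 LD3_c52)) :=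
  Lgr Lrot79 (Lpe (f57616 IH) (Lpr_df (K32.f57611 IH) (Lpe (f57617 IH) (Lpn (LP (LK LD1_c6 LD2_c43 LD3_c52))))))
theorem f675111 : Led Lsl_gt (LP (LK LD1_c6 LD2_c43 LD3_c52)) = (LP (LK LD1_c6 LD2_c42 LD3_c41)) :=
  Lgr Lrot112 (Lpe (f57618 IH) (Lpr_et (f57657 IH) (Lpqs (K57.f662995 IH) (Lpe (K57.f527491 IH) (Lpr_ef (K49.f209361 IH) (Lpqs (K48.f662748 IH) (Lpe (K48.f634261 IH) (Lpe (K48.f454768 IH) (Lpe (K48.f454726 IH) (Lpr_gf (K49.f454724 IH) (Lpr_ef (K49.f653249 IH) (Lpqs (K49.f675103 IH) (Lpe (K49.f432222 IH) (Lpn (LP (LK LD1_c6 LD2_c42 LD3_c41))))))))))))))))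
theorem f143995 : Led Lsl_dt (LP (LK LD1_c17 LD2_c29 LD3_c57)) = (LP (LK LD1_c9 LD2_c29 LD3_c15)) :=
  Lre_d IH (LK LD1_c17 LD2_c29 LD3_c57) (LK LD1_c9 LD2_c29 LD3_c15) Lrfl Lrfl
theorem f21078 : Led Lsl_dt (LP (LK LD1_c3 LD2_c1 LD3_c10)) = (LP (LK LD1_c6 LD2_c9 LD3_c27)) :=
  Lre_d IH (LK LD1_c3 LD2_c1 LD3_c10) (LK LD1_c6 LD2_c9 LD3_c27) Lrfl Lrfl
theorem f24781 : Led Lsl_et (LP (LK LD1_c12 LD2_c50 LD3_c20)) = (LP (LK LD1_c6 LD2_c42 LD3_c44)) :=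
  Lre_e IH (LK LD1_c12 LD2_c50 LD3_c20) (LK LD1_c6 LD2_c42 LD3_c44) Lrfl Lrfl
theorem f24782 : Led Lsl_dt (LP (LK LD1_c12 LD2_c50 LD3_c20)) = (LP (LK LD1_c21 LD2_c58 LD3_c34)) :=
  Lre_d IH (LK LD1_c12 LD2_c50 LD3_c20) (LK LD1_c21 LD2_c58 LD3_c34) Lrfl Lrfl
theorem f432199 : Led Lsl_dt (LP (LK LD1_c9 LD2_c29 LD3_c15)) = (LP (LK LD1_c17 LD2_c29 LD3_c57)) :=
  Lre_d IH (LK LD1_c9 LD2_c29 LD3_c15) (LK LD1_c17 LD2_c29 LD3_c57) Lrfl Lrfl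
theorem f432200 : Led Lsl_gt (LP (LK LD1_c21 LD2_c58 LD3_c34)) = (LP (LK LD1_c17 LD2_c29 LD3_c57)) :=
  Lgr Lrot112 (Lpe (f24782 IH) (Lpr_et (f24781 IH) (Lpe (K60.f24778 IH) (Lpr_ef (K5.f24756 IH) (Lpr_dt (f21078 IH) (Lpe (K50.f24780 IH) (Lpe (K50.f431029 IH) (Lpr_gf (K50.f431016 IH) (Lpr_ef (K49.f432193 IH) (Lpr_dt (f432199 IH) (Lpn (LP (LK LD1_c17 LD2_c29 LD3_c57)))))))))))))
theorem f780680 : Led Lsl_gf (LP (LK LD1_c12 LD2_c50 LD3_c20)) = v19558 :=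
  Lgr Lrot148 (Lpr_dt (f24782 IH) (Lpr_gt (f432200 IH) (Lpr_dt (f143995 IH) (Lpr_ct (K6.f143983 IH) (Lpe (K6.f84597 IH) (Lpe (K49.f84605 IH) (Lpe (K49.f432217 IH) (Lpe (f675111 IH) (Lpr_ct (f780677 IH) (Lpn v19558))))))))))
def v13814 : LQ := Led Lsl_at (LP (LK LD1_c4 LD2_c48 LD3_c22))
theorem f705034 : Led Lsl_at (LP (LK LD1_c4 LD2_c48 LD3_c22)) = v13814 :=
  Lrfl
theorem f432226 : Led Lsl_gt (LP (LK LD1_c6 LD2_c42 LD3_c41)) = (LP (LK LD1_c12 LD2_c50 LD3_c15)) :=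
  Lre_g IH (LK LD1_c6 LD2_c42 LD3_c41) (LK LD1_c12 LD2_c50 LD3_c15) Lrfl Lrfl
theorem f705038 : Led Lsl_gt (LP (LK LD1_c12 LD2_c50 LD3_c15)) = v13814 :=
  Lgr Lrot46 (Lpe (f432226 IH) (Lpe (f675085 IH) (Lpr_at (f705034 IH) (Lpn v13814))))
def v13813 : LQ := Led Lsl_gt (LP (LK LD1_c4 LD2_c48 LD3_c22))
theorem f705025 : Led Lsl_gt (LP (LK LD1_c4 LD2_c48 LD3_c22)) = v13813 :=
  Lrfl
theorem f209525 : Led Lsl_et (LP (LK LD1_c6 LD2_c31 LD3_c42)) = (LP (LK LD1_c3 LD2_c14 LD3_c1)) :=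
  Lre_e IH (LK LD1_c6 LD2_c31 LD3_c42) (LK LD1_c3 LD2_c14 LD3_c1) Lrfl Lrfl
theorem f705030 : Led Lsl_dt (LP (LK LD1_c6 LD2_c31 LD3_c42)) = v13813 :=
  Lgr Lrot56 (Lpr_et (f209525 IH) (Lpr_gt (K48.f209513 IH) (Lpe (K46.f134836 IH) (Lpr_dt (K7.f94202 IH) (Lpr_gt (K2.f7370 IH) (Lpr_df (K5.f84582 IH) (Lpr_et (K49.f84483 IH) (Lpr_gt (K49.f84491 IH) (Lpr_dt (K49.f84592 IH) (Lpr_gt (f705025 IH) (Lpn v13813)))))))))))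
theorem f662890 : Led Lsl_ct (LP (LK LD1_c6 LD2_c31 LD3_c42)) = (LP (LK LD1_c12 LD2_c31 LD3_c20)) :=
  Lre_c IH (LK LD1_c6 LD2_c31 LD3_c42) (LK LD1_c12 LD2_c31 LD3_c20) Lrfl Lrfl
theorem f662891 : Led Lsl_af (LP (LK LD1_c6 LD2_c31 LD3_c42)) = (LP (LK LD1_c6 LD2_c17 LD3_c51)) :=
  Lgr Lrot68 (Lpr_ct (f662890 IH) (Lpr_at (K57.f662885 IH) (Lpr_ct (K57.f57652 IH) (Lpn (LP (LK LD1_c6 LD2_c17 LD3_c51))))))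
theorem f57607 : Led Lsl_bt (LP (LK LD1_c3 LD2_c19 LD3_c61)) = (LP (LK LD1_c6 LD2_c43 LD3_c52)) :=
  Lre_b IH (LK LD1_c3 LD2_c19 LD3_c61) (LK LD1_c6 LD2_c43 LD3_c52) Lrfl Lrfl
theorem f57608 : Led Lsl_df (LP (LK LD1_c6 LD2_c17 LD3_c51)) = (LP (LK LD1_c6 LD2_c43 LD3_c52)) :=
  Lgr Lrot12 (Lpr_bt (K57.f57606 IH) (Lpr_dt (K24.f57604 IH) (Lpr_bt (f57607 IH) (Lpn (LP (LK LD1_c6 LD2_c43 LD3_c52))))))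
theorem f705031 : Led Lsl_af (LP (LK LD1_c6 LD2_c43 LD3_c52)) = v13813 :=
  Lgr Lrot117 (Lpe (f57608 IH) (Lpe (f662891 IH) (Lpr_dt (f705030 IH) (Lpn v13813))))
theorem f675211 : Led Lsl_ff (LP (LK LD1_c6 LD2_c43 LD3_c52)) = (LP (LK LD1_c9 LD2_c29 LD3_c27)) :=
  Lgr Lrot19 (Lpe (f57608 IH) (Lpr_ft (K57.f504464 IH) (Lpr_dt (K49.f675203 IH) (Lpn (LP (LK LD1_c9 LD2_c29 LD3_c27))))))
theorem f675217 : Led Lsl_ft (LP (LK LD1_c6 LD2_c43 LD3_c52)) = (LP (LK LD1_c9 LD2_c29 LD3_c27)) :=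
  Lgr Lrot48 (Lpr_ff (f675211 IH) (Lpn (LP (LK LD1_c9 LD2_c29 LD3_c27))))
theorem f675219 : Led Lsl_af (LP (LK LD1_c12 LD2_c50 LD3_c15)) = (LP (LK LD1_c9 LD2_c29 LD3_c27)) :=
  Lgr Lrot31 (Lpe (f432226 IH) (Lpe (f675111 IH) (Lpr_ft (f675217 IH) (Lpn (LP (LK LD1_c9 LD2_c29 LD3_c27))))))
theorem f705032 : Led Lsl_ft (LP (LK LD1_c12 LD2_c50 LD3_c15)) = v13813 :=
  Lgr Lrot101 (Lpr_af (f675219 IH) (Lpe (f675217 IH) (Lpr_af (f705031 IH) (Lpn v13813))))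
theorem f705039 : Led Lsl_gf (LP (LK LD1_c6 LD2_c43 LD3_c52)) = v13814 :=
  Lgr Lrot76 (Lpr_af (f705031 IH) (Lpe (f705032 IH) (Lpr_gt (f705038 IH) (Lpn v13814))))
theorem f705036 : Led Lsl_df K49.v4469 = v13814 :=
  Lgr Lrot18 (Lpe (K49.f634063 IH) (Lpr_dt (K49.f84592 IH) (Lpr_at (f705034 IH) (Lpn v13814))))
def v4467 : LQ := Led Lsl_gt (LP (LK LD1_c2 LD2_c22 LD3_c1))
theorem f634042 : Led Lsl_gt (LP (LK LD1_c2 LD2_c22 LD3_c1)) = v4467 :=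
  Lrfl
theorem f675102 : K49.v4469 = v4467 :=
  (Llr Lrot26 (Lpe (K49.f634062 IH) (Lpr_ff (K49.f634073 IH) (Lpqs (K49.f675078 IH) (Lpr_gt (K49.f84605 IH) (Lpr_gt (f634042 IH) (Lpn v4467))))))).symm
theorem f437844 : Led Lsl_at (LP (LK LD1_c1 LD2_c8 LD3_c12)) = (LP (LK LD1_c2 LD2_c22 LD3_c1)) :=
  Lre_a IH (LK LD1_c1 LD2_c8 LD3_c12) (LK LD1_c2 LD2_c22 LD3_c1) Lrfl Lrfl
theorem f437545 : Led Lsl_ft (LP (LK LD1_c2 LD2_c22 LD3_c7)) = (LP (LK LD1_c1 LD2_c8 LD3_c12)) :=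
  Lre_f IH (LK LD1_c2 LD2_c22 LD3_c7) (LK LD1_c1 LD2_c8 LD3_c12) Lrfl Lrfl
theorem f634044 : Led Lsl_af (LP (LK LD1_c2 LD2_c22 LD3_c7)) = K50.v4468 :=
  Lgr Lrot45 (Lpr_ft (f437545 IH) (Lpr_at (f437844 IH) (Lpr_ft (K50.f634043 IH) (Lpn K50.v4468))))
theorem f634048 : Led Lsl_gt v4467 = (LP (LK LD1_c2 LD2_c22 LD3_c7)) :=
  Lgr Lrot46 (Lpe (f634042 IH) (Lpr_ft (K50.f634043 IH) (Lpe (f634044 IH) (Lpn (LP (LK LD1_c2 LD2_c22 LD3_c7))))))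
theorem f787879 : Led Lsl_dt K58.v6766 = v20552 :=
  Lgr Lrot27 (Lpe (K60.f769186 IH) (Lpqs (K58.f769191 IH) (Lpe (K58.f432229 IH) (Lpe (K58.f416818 IH) (Lpe (f634048 IH) (Lpq (f675102 IH) (Lpr_df (f705036 IH) (Lpe (f705039 IH) (Lpr_ct (f780677 IH) (Lpe (f780680 IH) (Lpr_ct (f787876 IH) (Lpn v20552))))))))))))
theorem f26243 : Led Lsl_ft (LP (LK LD1_c1 LD2_c48 LD3_c3)) = (LP (LK LD1_c3 LD2_c42 LD3_c8)) :=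
  Lre_f IH (LK LD1_c1 LD2_c48 LD3_c3) (LK LD1_c3 LD2_c42 LD3_c8) Lrfl Lrfl
theorem f527249 : Led Lsl_gf (LP (LK LD1_c3 LD2_c40 LD3_c28)) = K49.v2540 :=
  Lgr Lrot76 (Lpe (K48.f209063 IH) (Lpe (f26243 IH) (Lpr_gt (K49.f527248 IH) (Lpn K49.v2540))))
def v17387 : LQ := Led Lsl_et (LP (LK LD1_c6 LD2_c18 LD3_c34))
theorem f759558 : Led Lsl_et (LP (LK LD1_c6 LD2_c18 LD3_c34)) = v17387 :=
  Lrfl
theorem f759560 : Led Lsl_ef (LP (LK LD1_c6 LD2_c18 LD3_c34)) = v17387 :=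
  Lgr Lrot88 (Lpr_et (f759558 IH) (Lpn v17387))
def v18165 : LQ := Led Lsl_bt (LP (LK LD1_c6 LD2_c26 LD3_c51))
theorem f765354 : Led Lsl_bt (LP (LK LD1_c6 LD2_c26 LD3_c51)) = v18165 :=
  Lrfl
theorem f765355 : Led Lsl_bf (LP (LK LD1_c6 LD2_c26 LD3_c51)) = v18165 :=
  Lgr Lrot24 (Lpr_bt (f765354 IH) (Lpn v18165))
theorem f759561 : Led Lsl_bt (LP (LK LD1_c6 LD2_c18 LD3_c37)) = v17387 :=
  Lgr Lrot119 (Lpe (K58.f647185 IH) (Lpe (K51.f76652 IH) (Lpr_ef (f759560 IH) (Lpn v17387))))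
theorem f775715 : Led Lsl_df v18165 = v17387 :=
  Lgr Lrot12 (Lpe (f765355 IH) (Lpqs (K58.f769861 IH) (Lpe (K58.f759569 IH) (Lpr_bt (f759561 IH) (Lpn v17387)))))
theorem f787880 : Led Lsl_gt v18165 = v20552 :=
  Lgr Lrot112 (Lpr_df (f775715 IH) (Lpe (f759560 IH) (Lpq (K51.f709040 IH) (Lpe (K57.f657465 IH) (Lpr_ef (K5.f129083 IH) (Lpr_dt (K48.f209065 IH) (Lpr_gf (f527249 IH) (Lpr_df (K50.f674734 IH) (Lpr_gf (K60.f781931 IH) (Lpe (K60.f781915 IH) (Lpr_dt (f787879 IH) (Lpn v20552))))))))))))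
theorem f838561 : Led Lsl_gf v17387 = v27245 :=
  Lgr Lrot138 (Lpe (f775715 IH) (Lpr_gt (f787880 IH) (Lpe (f787879 IH) (Lpr_et (K60.f781915 IH) (Lpe (K60.f781931 IH) (Lpr_ef (f837433 IH) (Lpe (f837432 IH) (Lpr_gt (f837418 IH) (Lpe (f837425 IH) (Lpq (f770368 IH) (Lpq (K59.f772378 IH) (Lpr_et (f838560 IH) (Lpn v27245)))))))))))))
def v18054 : LQ := Led Lsl_dt (LP (LK LD1_c6 LD2_c26 LD3_c5))
theorem f764817 : Led Lsl_dt (LP (LK LD1_c6 LD2_c26 LD3_c5)) = v18054 :=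
  Lrfl
theorem f764819 : Led Lsl_df (LP (LK LD1_c6 LD2_c26 LD3_c5)) = v18054 :=
  Lgr Lrot38 (Lpr_dt (f764817 IH) (Lpn v18054))
theorem f801634 : Led Lsl_af v18054 = K62.v22146 :=
  Lgr Lrot117 (Lpe (f764819 IH) (Lpr_at (K59.f648479 IH) (Lpr_dt (K62.f801631 IH) (Lpn K62.v22146))))
theorem f801637 : Led Lsl_at v18054 = K62.v22146 :=
  Lgr Lrot100 (Lpr_af (f801634 IH) (Lpn K62.v22146))
theorem f838555 : Led Lsl_ff v18054 = v27245 :=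
  Lgr Lrot30 (Lpr_at (f801637 IH) (Lpe (K62.f801629 IH) (Lpr_at (f838549 IH) (Lpn v27245))))
theorem f838562 : Led Lsl_gt v17387 = K62.v22146 :=
  Lgr Lrot46 (Lpr_gf (f838561 IH) (Lpe (f838555 IH) (Lpr_at (f801637 IH) (Lpn K62.v22146))))
def v18642 : LQ := Led Lsl_et (LP (LK LD1_c6 LD2_c31 LD3_c38))
theorem f767867 : Led Lsl_et (LP (LK LD1_c6 LD2_c31 LD3_c38)) = v18642 :=
  Lrfl
theorem f767868 : Led Lsl_cf v17387 = v18642 :=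
  Lgr Lrot39 (Lpe (f759560 IH) (Lpr_ct (K51.f663528 IH) (Lpr_et (f767867 IH) (Lpn v18642))))
theorem f759559 : Led Lsl_bf (LP (LK LD1_c6 LD2_c18 LD3_c37)) = v17387 :=
  Lgr Lrot96 (Lpr_et (K58.f76640 IH) (Lpr_bt (K51.f647184 IH) (Lpr_et (f759558 IH) (Lpn v17387))))
theorem f767869 : Led Lsl_ef (LP (LK LD1_c6 LD2_c31 LD3_c38)) = v18642 :=
  Lgr Lrot88 (Lpr_et (f767867 IH) (Lpn v18642))
theorem f663530 : Led Lsl_cf (LP (LK LD1_c6 LD2_c18 LD3_c34)) = (LP (LK LD1_c6 LD2_c31 LD3_c38)) :=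
  Lgr Lrot11 (Lpr_ct (K51.f663528 IH) (Lpn (LP (LK LD1_c6 LD2_c31 LD3_c38))))
theorem f767870 : Led Lsl_ct v17387 = v18642 :=
  Lgr Lrot15 (Lpe (f759558 IH) (Lpr_cf (f663530 IH) (Lpr_ef (f767869 IH) (Lpn v18642))))
theorem f505126 : Led Lsl_ct (LP (LK LD1_c3 LD2_c13 LD3_c6)) = (LP (LK LD1_c5 LD2_c48 LD3_c61)) :=
  Lgr Lrot15 (Lpr_ef (K32.f504993 IH) (Lpe (K32.f445607 IH) (Lpr_ef (K32.f505122 IH) (Lpn (LP (LK LD1_c5 LD2_c48 LD3_c61))))))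
theorem f437792 : Led Lsl_ct (LP (LK LD1_c3 LD2_c14 LD3_c20)) = (LP (LK LD1_c6 LD2_c32 LD3_c18)) :=
  Lre_c IH (LK LD1_c3 LD2_c14 LD3_c20) (LK LD1_c6 LD2_c32 LD3_c18) Lrfl Lrfl
def v18710 : LQ := Led Lsl_gt (LP (LK LD1_c6 LD2_c32 LD3_c18))
theorem f768145 : Led Lsl_gt (LP (LK LD1_c6 LD2_c32 LD3_c18)) = v18710 :=
  Lrfl
theorem f775718 : v18642 = v18710 :=
  (Llr Lrot63 (Lpe (f767870 IH) (Lpe (f759559 IH) (Lpr_gt (K58.f759566 IH) (Lpq (K58.f770018 IH) (Lpe (K32.f446038 IH) (Lpr_ct (f505126 IH) (Lpe (K50.f503452 IH) (Lpe (K35.f57157 IH) (Lpr_bt (K57.f57156 IH) (Lpq (K57.f663884 IH) (Lpe (K57.f649895 IH) (Lpr_ct (f437792 IH) (Lpr_gt (f768145 IH) (Lpn v18710))))))))))))))).symm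
theorem f440352 : Led Lsl_ct (LP (LK LD1_c12 LD2_c30 LD3_c22)) = (LP (LK LD1_c21 LD2_c36 LD3_c49)) :=
  Lre_c IH (LK LD1_c12 LD2_c30 LD3_c22) (LK LD1_c21 LD2_c36 LD3_c49) Lrfl Lrfl
theorem f832149 : Led Lsl_ct (LP (LK LD1_c17 LD2_c30 LD3_c7)) = (LP (LK LD1_c9 LD2_c29 LD3_c22)) :=
  Lre_c IH (LK LD1_c17 LD2_c30 LD3_c7) (LK LD1_c9 LD2_c29 LD3_c22) Lrfl Lrfl
theorem f838563 : Led Lsl_gt (LP (LK LD1_c21 LD2_c36 LD3_c49)) = (LP (LK LD1_c17 LD2_c30 LD3_c7)) :=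
  Lgr Lrot150 (Lpe (f440352 IH) (Lpr_gf (K58.f770744 IH) (Lpe (K58.f649852 IH) (Lpr_gt (f768145 IH) (Lpq (f775718 IH) (Lpe (f767868 IH) (Lpr_gt (f838562 IH) (Lpe (f801633 IH) (Lpr_df (f832147 IH) (Lpe (f832149 IH) (Lpn (LP (LK LD1_c17 LD2_c30 LD3_c7)))))))))))))
theorem f838564 : Led Lsl_gt (LP (LK LD1_c21 LD2_c36 LD3_c49)) = (LP (LK LD1_c17 LD2_c30 LD3_c7)) :=
  Leop (Lpe (f838563 IH) (Lpn (LP (LK LD1_c21 LD2_c36 LD3_c49))))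
theorem seed_1935 : LEOK LG_g (LK LD1_c21 LD2_c36 LD3_c49) :=
  Leoe_g (LK LD1_c21 LD2_c36 LD3_c49) (f838564 IH)
def v7372 : LQ := Led Lsl_gf (LP (LK LD1_c3 LD2_c45 LD3_c43))
def v27249 : LQ := Led Lsl_et v7372
theorem f838572 : Led Lsl_et v7372 = v27249 :=
  Lrfl
theorem f838573 : Led Lsl_ef v7372 = v27249 :=
  Lgr Lrot88 (Lpr_et (f838572 IH) (Lpn v27249))
theorem f664776 : Led Lsl_gf (LP (LK LD1_c3 LD2_c45 LD3_c43)) = v7372 :=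
  Lrfl
theorem f109272 : Led Lsl_af (LP (LK LD1_c3 LD2_c45 LD3_c43)) = (LP (LK LD1_c3 LD2_c48 LD3_c41)) :=
  Lgr Lrot0 (Lpr_at (K3.f109270 IH) (Lpn (LP (LK LD1_c3 LD2_c48 LD3_c41))))
theorem f108732 : Led Lsl_ft (LP (LK LD1_c7 LD2_c38 LD3_c25)) = (LP (LK LD1_c3 LD2_c48 LD3_c41)) :=
  Lre_f IH (LK LD1_c7 LD2_c38 LD3_c25) (LK LD1_c3 LD2_c48 LD3_c41) Lrfl Lrfl
theorem f664777 : Led Lsl_gt (LP (LK LD1_c7 LD2_c38 LD3_c25)) = v7372 :=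
  Lgr Lrot5 (Lpr_ft (f108732 IH) (Lpe (f109272 IH) (Lpr_gf (f664776 IH) (Lpn v7372))))
theorem f111647 : Led Lsl_dt (LP (LK LD1_c14 LD2_c13 LD3_c9)) = (LP (LK LD1_c7 LD2_c32 LD3_c22)) :=
  Lre_d IH (LK LD1_c14 LD2_c13 LD3_c9) (LK LD1_c7 LD2_c32 LD3_c22) Lrfl Lrfl
theorem f111583 : Led Lsl_dt (LP (LK LD1_c7 LD2_c38 LD3_c21)) = (LP (LK LD1_c14 LD2_c23 LD3_c42)) :=
  Lre_d IH (LK LD1_c7 LD2_c38 LD3_c21) (LK LD1_c14 LD2_c23 LD3_c42) Lrfl Lrfl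
theorem f111648 : Led Lsl_af (LP (LK LD1_c14 LD2_c13 LD3_c9)) = (LP (LK LD1_c14 LD2_c23 LD3_c42)) :=
  Lgr Lrot117 (Lpr_dt (f111647 IH) (Lpr_at (K4.f111586 IH) (Lpr_dt (f111583 IH) (Lpn (LP (LK LD1_c14 LD2_c23 LD3_c42))))))
theorem f89360 : Led Lsl_gt (LP (LK LD1_c7 LD2_c38 LD3_c20)) = (LP (LK LD1_c14 LD2_c23 LD3_c39)) :=
  Lre_g IH (LK LD1_c7 LD2_c38 LD3_c20) (LK LD1_c14 LD2_c23 LD3_c39) Lrfl Lrfl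
theorem f441279 : Led Lsl_gf (LP (LK LD1_c14 LD2_c13 LD3_c9)) = (LP (LK LD1_c14 LD2_c23 LD3_c39)) :=
  Lgr Lrot76 (Lpr_af (f111648 IH) (Lpe (K4.f89519 IH) (Lpr_gt (f89360 IH) (Lpn (LP (LK LD1_c14 LD2_c23 LD3_c39))))))
def v22316 : LQ := Led Lsl_gt (LP (LK LD1_c7 LD2_c34 LD3_c23))
theorem f805488 : Led Lsl_gt (LP (LK LD1_c7 LD2_c34 LD3_c23)) = v22316 :=
  Lrfl
theorem f838574 : Led Lsl_df v22316 = v27249 :=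
  Lgr Lrot132 (Lpe (f805488 IH) (Lpe (K63.f92377 IH) (Lpe (K61.f88381 IH) (Lpe (K3.f65231 IH) (Lpr_dt (K1.f62804 IH) (Lpe (K2.f92360 IH) (Lpe (K3.f89125 IH) (Lpr_et (K3.f92376 IH) (Lpr_gf (f664776 IH) (Lpr_ef (f838573 IH) (Lpn v27249)))))))))))
def v22318 : LQ := Led Lsl_ft (LP (LK LD1_c7 LD2_c34 LD3_c23))
theorem f805505 : Led Lsl_ft (LP (LK LD1_c7 LD2_c34 LD3_c23)) = v22318 :=
  Lrfl
theorem f805506 : Led Lsl_af (LP (LK LD1_c7 LD2_c34 LD3_c27)) = v22318 :=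
  Lgr Lrot45 (Lpr_ft (K63.f805495 IH) (Lpe (K63.f805492 IH) (Lpr_ft (f805505 IH) (Lpn v22318))))
theorem f805509 : Led Lsl_gt v22316 = (LP (LK LD1_c7 LD2_c34 LD3_c27)) :=
  Lgr Lrot46 (Lpe (f805488 IH) (Lpr_ft (f805505 IH) (Lpe (f805506 IH) (Lpn (LP (LK LD1_c7 LD2_c34 LD3_c27))))))
theorem f664967 : Led Lsl_et (LP (LK LD1_c3 LD2_c46 LD3_c46)) = (LP (LK LD1_c7 LD2_c34 LD3_c28)) :=
  Lre_e IH (LK LD1_c3 LD2_c46 LD3_c46) (LK LD1_c7 LD2_c34 LD3_c28) Lrfl Lrfl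
theorem f93643 : Led Lsl_gt (LP (LK LD1_c7 LD2_c34 LD3_c28)) = (LP (LK LD1_c14 LD2_c16 LD3_c57)) :=
  Lre_g IH (LK LD1_c7 LD2_c34 LD3_c28) (LK LD1_c14 LD2_c16 LD3_c57) Lrfl Lrfl
theorem f838575 : Led Lsl_df (LP (LK LD1_c14 LD2_c23 LD3_c39)) = (LP (LK LD1_c14 LD2_c16 LD3_c57)) :=
  Lgr Lrot135 (Lpe (f441279 IH) (Lpe (K63.f111688 IH) (Lpr_et (K63.f129445 IH) (Lpr_gt (f664777 IH) (Lpr_ef (f838573 IH) (Lpe (f838574 IH) (Lpr_gt (f805509 IH) (Lpe (K63.f207598 IH) (Lpr_et (f664967 IH) (Lpr_gt (f93643 IH) (Lpn (LP (LK LD1_c14 LD2_c16 LD3_c57)))))))))))))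
theorem f838576 : Led Lsl_dt (LP (LK LD1_c14 LD2_c16 LD3_c57)) = (LP (LK LD1_c14 LD2_c23 LD3_c39)) :=
  Leop (Lpr_df (f838575 IH) (Lpn (LP (LK LD1_c14 LD2_c16 LD3_c57))))
theorem seed_1936 : LEOK LG_d (LK LD1_c14 LD2_c16 LD3_c57) :=
  Leoe_d (LK LD1_c14 LD2_c16 LD3_c57) (f838576 IH)
def v27251 : LQ := Led Lsl_bt K62.v7376
theorem f838587 : Led Lsl_bt K62.v7376 = v27251 :=
  Lrfl
theorem f455511 : Led Lsl_bt (LP (LK LD1_c13 LD2_c17 LD3_c36)) = (LP (LK LD1_c7 LD2_c0 LD3_c25)) :=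
  Lre_b IH (LK LD1_c13 LD2_c17 LD3_c36) (LK LD1_c7 LD2_c0 LD3_c25) Lrfl Lrfl
theorem f838591 : Led Lsl_ff (LP (LK LD1_c13 LD2_c17 LD3_c36)) = v27251 :=
  Lgr Lrot25 (Lpr_bt (f455511 IH) (Lpr_ft (K61.f788305 IH) (Lpq (K62.f788352 IH) (Lpr_bt (f838587 IH) (Lpn v27251)))))
theorem f838594 : Led Lsl_ft (LP (LK LD1_c13 LD2_c17 LD3_c36)) = v27251 :=
  Lgr Lrot48 (Lpr_ff (f838591 IH) (Lpn v27251))
theorem f103776 : Led Lsl_bt (LP (LK LD1_c22 LD2_c16 LD3_c14)) = (LP (LK LD1_c13 LD2_c5 LD3_c29)) :=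
  Lre_b IH (LK LD1_c22 LD2_c16 LD3_c14) (LK LD1_c13 LD2_c5 LD3_c29) Lrfl Lrfl
theorem f838588 : Led Lsl_af (LP (LK LD1_c22 LD2_c16 LD3_c14)) = v27251 :=
  Lgr Lrot36 (Lpr_bt (f103776 IH) (Lpq (K61.f788331 IH) (Lpe (K61.f786023 IH) (Lpe (K62.f493800 IH) (Lpr_at (K61.f788303 IH) (Lpq (K62.f788352 IH) (Lpr_bt (f838587 IH) (Lpn v27251))))))))
theorem f838595 : Led Lsl_gt (LP (LK LD1_c13 LD2_c16 LD3_c25)) = (LP (LK LD1_c22 LD2_c16 LD3_c14)) :=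
  Lgr Lrot46 (Lpe (K62.f659993 IH) (Lpr_ft (f838594 IH) (Lpe (f838588 IH) (Lpn (LP (LK LD1_c22 LD2_c16 LD3_c14))))))
theorem f838596 : Led Lsl_gt (LP (LK LD1_c13 LD2_c16 LD3_c25)) = (LP (LK LD1_c22 LD2_c16 LD3_c14)) :=
  Leop (Lpe (f838595 IH) (Lpn (LP (LK LD1_c13 LD2_c16 LD3_c25))))
theorem seed_1937 : LEOK LG_g (LK LD1_c13 LD2_c16 LD3_c25) :=
  Leoe_g (LK LD1_c13 LD2_c16 LD3_c25) (f838596 IH)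
def v27306 : LQ := Led Lsl_gt K48.v7418
theorem f838810 : Led Lsl_gt K48.v7418 = v27306 :=
  Lrfl
theorem f665042 : Led Lsl_et (LP (LK LD1_c3 LD2_c52 LD3_c55)) = K48.v7418 :=
  Lgr Lrot87 (Lpr_ef (K48.f665041 IH) (Lpn K48.v7418))
theorem f838815 : Led Lsl_et K48.v7470 = v27306 :=
  Lgr Lrot122 (Lpe (K48.f665750 IH) (Lpe (K48.f664779 IH) (Lpe (K28.f17847 IH) (Lpr_et (K48.f460549 IH) (Lpe (K24.f460525 IH) (Lpr_dt (K29.f64661 IH) (Lpe (K34.f468539 IH) (Lpr_df (K29.f477179 IH) (Lpr_et (f665042 IH) (Lpr_gt (f838810 IH) (Lpn v27306)))))))))))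
def v9412 : LQ := Led Lsl_et K48.v2656
theorem f675775 : Led Lsl_et K48.v2656 = v9412 :=
  Lrfl
theorem f675778 : Led Lsl_ef K48.v2656 = v9412 :=
  Lgr Lrot88 (Lpr_et (f675775 IH) (Lpn v9412))
theorem f838818 : Led Lsl_ff v9412 = v27306 :=
  Lgr Lrot72 (Lpe (f675778 IH) (Lpq (K48.f530518 IH) (Lpe (K48.f530462 IH) (Lpr_et (K48.f472404 IH) (Lpr_ft (K63.f665752 IH) (Lpr_et (f838815 IH) (Lpn v27306)))))))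
theorem f472331 : Led Lsl_dt (LP (LK LD1_c3 LD2_c53 LD3_c27)) = (LP (LK LD1_c1 LD2_c53 LD3_c18)) :=
  Lre_d IH (LK LD1_c3 LD2_c53 LD3_c27) (LK LD1_c1 LD2_c53 LD3_c18) Lrfl Lrfl
theorem f667352 : Led Lsl_dt K48.v2698 = K48.v7623 :=
  Lgr Lrot60 (Lpe (K48.f530459 IH) (Lpe (f472331 IH) (Lpr_ff (K48.f667350 IH) (Lpn K48.v7623))))
theorem f477399 : Led Lsl_gf (LP (LK LD1_c3 LD2_c46 LD3_c10)) = (LP (LK LD1_c7 LD2_c0 LD3_c10)) :=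
  Lgr Lrot141 (Lpe (K33.f474341 IH) (Lpr_dt (K29.f441420 IH) (Lpe (K29.f474328 IH) (Lpr_df (K48.f474320 IH) (Lpr_et (K29.f473711 IH) (Lpr_gt (K29.f64686 IH) (Lpr_dt (K29.f64687 IH) (Lpr_gt (K29.f477391 IH) (Lpe (K29.f460224 IH) (Lpr_et (K34.f477330 IH) (Lpn (LP (LK LD1_c7 LD2_c0 LD3_c10)))))))))))))
theorem f675779 : Led Lsl_gf K48.v7610 = v9412 :=
  Lgr Lrot141 (Lpe (K48.f667232 IH) (Lpr_dt (K29.f64687 IH) (Lpr_gt (K29.f477391 IH) (Lpe (K29.f460224 IH) (Lpr_et (K34.f477330 IH) (Lpe (f477399 IH) (Lpr_dt (K48.f92938 IH) (Lpr_gt (K48.f667353 IH) (Lpe (f667352 IH) (Lpqs (K48.f530518 IH) (Lpr_et (f675775 IH) (Lpn v9412))))))))))))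
theorem f530008 : Led Lsl_ff (LP (LK LD1_c1 LD2_c50 LD3_c32)) = K48.v2642 :=
  Lgr Lrot3 (Lpr_ft (K48.f530006 IH) (Lpn K48.v2642))
theorem f658433 : Led Lsl_af K48.v2642 = K48.v6783 :=
  Lgr Lrot45 (Lpe (f530008 IH) (Lpr_at (K4.f120532 IH) (Lpr_ft (K48.f658432 IH) (Lpn K48.v6783))))
theorem f658436 : Led Lsl_gt (LP (LK LD1_c7 LD2_c0 LD3_c37)) = K48.v2642 :=
  Lgr Lrot46 (Lpe (K48.f460594 IH) (Lpr_ft (K48.f658432 IH) (Lpe (f658433 IH) (Lpn K48.v2642))))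
theorem f92374 : Led Lsl_dt (LP (LK LD1_c0 LD2_c52 LD3_c9)) = (LP (LK LD1_c1 LD2_c50 LD3_c32)) :=
  Lre_d IH (LK LD1_c0 LD2_c52 LD3_c9) (LK LD1_c1 LD2_c50 LD3_c32) Lrfl Lrfl
theorem f530007 : Led Lsl_df K29.v837 = K48.v2642 :=
  Lgr Lrot78 (Lpe (K29.f459648 IH) (Lpr_dt (f92374 IH) (Lpr_ft (K48.f530006 IH) (Lpn K48.v2642))))
def v1058 : LQ := Led Lsl_ft K63.v205
theorem f491195 : Led Lsl_ft K63.v205 = v1058 :=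
  Lrfl
theorem f491196 : Led Lsl_df K30.v206 = v1058 :=
  Lgr Lrot78 (Lpe (K30.f451078 IH) (Lpr_dt (K63.f451066 IH) (Lpr_ft (f491195 IH) (Lpn v1058))))
theorem f451053 : Led Lsl_af K63.v99 = K63.v202 :=
  Lgr Lrot117 (Lpe (K63.f448752 IH) (Lpr_at (K2.f85029 IH) (Lpr_dt (K63.f451052 IH) (Lpn K63.v202))))
theorem f455518 : Led Lsl_at K63.v205 = K49.v617 :=
  Lgr Lrot80 (Lpe (K63.f451073 IH) (Lpr_af (f451053 IH) (Lpr_ef (K63.f455517 IH) (Lpn K49.v617))))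
theorem f491197 : Led Lsl_ff K63.v205 = v1058 :=
  Lgr Lrot3 (Lpr_ft (f491195 IH) (Lpn v1058))
theorem f493831 : Led Lsl_gt v1058 = K49.v1183 :=
  Lgr Lrot5 (Lpe (f491197 IH) (Lpr_at (f455518 IH) (Lpr_gf (K49.f493830 IH) (Lpn K49.v1183))))
theorem f624821 : Led Lsl_gf v1058 = K63.v3250 :=
  Lgr Lrot47 (Lpr_gt (f493831 IH) (Lpe (K63.f624819 IH) (Lpr_ff (K63.f624818 IH) (Lpn K63.v3250))))
theorem f624810 : Led Lsl_dt K63.v2693 = K63.v3250 :=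
  Lgr Lrot56 (Lpe (K63.f530441 IH) (Lpr_gt (K30.f458086 IH) (Lpr_ef (K24.f129667 IH) (Lpr_dt (K29.f129653 IH) (Lpr_gt (K30.f490175 IH) (Lpr_df (K30.f493542 IH) (Lpe (K30.f493540 IH) (Lpq (K30.f493782 IH) (Lpe (K30.f455512 IH) (Lpr_dt (K49.f455514 IH) (Lpr_gt (K63.f624808 IH) (Lpn K63.v3250))))))))))))
def v3415 : LQ := Led Lsl_dt K41.v817
theorem f625559 : Led Lsl_dt K41.v817 = v3415 :=
  Lrfl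
theorem f530519 : (LP (LK LD1_c0 LD2_c53 LD3_c14)) = K41.v2597 :=
  Lefun (Lecon (Lfl_ff (K41.f490191 IH)) (K41.f530516 IH)) (K41.f527706 IH)
def v872 : LQ := Led Lsl_dt (LP (LK LD1_c0 LD2_c53 LD3_c14))
theorem f490187 : Led Lsl_dt (LP (LK LD1_c0 LD2_c53 LD3_c14)) = v872 :=
  Lrfl
theorem f490188 : Led Lsl_df (LP (LK LD1_c0 LD2_c53 LD3_c14)) = v872 :=
  Lgr Lrot38 (Lpr_dt (f490187 IH) (Lpn v872))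
theorem f625562 : Led Lsl_ff v872 = v3415 :=
  Lgr Lrot19 (Lpe (f490188 IH) (Lpqs (f530519 IH) (Lpe (K41.f527707 IH) (Lpr_dt (f625559 IH) (Lpn v3415)))))
theorem f531284 : Led Lsl_af K48.v2598 = v872 :=
  Lgr Lrot117 (Lpe (K62.f527709 IH) (Lpr_at (K41.f527704 IH) (Lpq (f530519 IH) (Lpr_dt (f490187 IH) (Lpn v872)))))
theorem f531282 : Led Lsl_ff K34.v874 = K48.v2598 :=
  Lgr Lrot19 (Lpe (K34.f490194 IH) (Lpqs (K41.f530517 IH) (Lpe (K41.f527715 IH) (Lpr_dt (K48.f527708 IH) (Lpn K48.v2598)))))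
theorem f625563 : Led Lsl_at K34.v874 = v3415 :=
  Lgr Lrot66 (Lpr_ff (f531282 IH) (Lpr_af (f531284 IH) (Lpr_ff (f625562 IH) (Lpn v3415))))
theorem f625565 : Led Lsl_gt K48.v2536 = v3415 :=
  Lgr Lrot46 (Lpr_gf (K48.f527710 IH) (Lpe (f531282 IH) (Lpr_at (f625563 IH) (Lpn v3415))))
theorem f625569 : Led Lsl_gf K63.v2693 = K49.v3416 :=
  Lgr Lrot141 (Lpe (K63.f530440 IH) (Lpr_dt (K29.f62992 IH) (Lpr_gt (K29.f477394 IH) (Lpe (K29.f18788 IH) (Lpr_et (K29.f477418 IH) (Lpe (K29.f477419 IH) (Lpr_dt (K48.f527228 IH) (Lpr_gt (f625565 IH) (Lpe (f625559 IH) (Lpr_et (K49.f625566 IH) (Lpn K49.v3416)))))))))))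
theorem f675781 : Led Lsl_ct K49.v3416 = v9412 :=
  Lgr Lrot8 (Lpe (f625569 IH) (Lpr_dt (f624810 IH) (Lpe (f624821 IH) (Lpe (f491196 IH) (Lpr_cf (K63.f459646 IH) (Lpr_df (f530007 IH) (Lpe (f658436 IH) (Lpqs (K48.f665056 IH) (Lpr_df (K48.f667239 IH) (Lpr_gf (f675779 IH) (Lpn v9412)))))))))))
def v7408 : LQ := Led Lsl_gt (LP (LK LD1_c3 LD2_c46 LD3_c50))
theorem f664986 : Led Lsl_gt (LP (LK LD1_c3 LD2_c46 LD3_c50)) = v7408 :=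
  Lrfl
theorem f675782 : Led Lsl_dt v7408 = v9412 :=
  Lgr Lrot113 (Lpe (f664986 IH) (Lpe (K34.f92768 IH) (Lpe (K33.f88377 IH) (Lpr_ct (K28.f120545 IH) (Lpr_gt (K34.f451062 IH) (Lpr_dt (K49.f491185 IH) (Lpq (K49.f493756 IH) (Lpr_gt (K49.f625706 IH) (Lpe (K49.f625708 IH) (Lpr_ct (f675781 IH) (Lpn v9412)))))))))))
theorem f675783 : Led Lsl_df v7408 = v9412 :=
  Lgr Lrot38 (Lpr_dt (f675782 IH) (Lpn v9412))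
def v20608 : LQ := Led Lsl_gt (LP (LK LD1_c7 LD2_c0 LD3_c35))
theorem f788476 : Led Lsl_gt (LP (LK LD1_c7 LD2_c0 LD3_c35)) = v20608 :=
  Lrfl
theorem f788478 : Led Lsl_gf K49.v7410 = v20608 :=
  Lgr Lrot76 (Lpe (K49.f664991 IH) (Lpr_ff (K49.f520707 IH) (Lpr_gt (f788476 IH) (Lpn v20608))))
theorem f530460 : Led Lsl_af (LP (LK LD1_c1 LD2_c53 LD3_c21)) = K48.v2698 :=
  Lgr Lrot45 (Lpr_ft (K41.f530457 IH) (Lpe (K48.f530454 IH) (Lpr_ft (K48.f530459 IH) (Lpn K48.v2698))))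
theorem f675785 : Led Lsl_at K61.v2706 = v9412 :=
  Lgr Lrot80 (Lpe (K61.f531287 IH) (Lpr_af (f530460 IH) (Lpqs (K48.f530518 IH) (Lpr_ef (f675778 IH) (Lpn v9412)))))
theorem f676073 : Led Lsl_at v7408 = K61.v9458 :=
  Lgr Lrot51 (Lpr_df (f675783 IH) (Lpe (f675785 IH) (Lpr_df (K63.f676067 IH) (Lpn K61.v9458))))
theorem f788479 : Led Lsl_ff v7408 = v20608 :=
  Lgr Lrot52 (Lpr_at (f676073 IH) (Lpe (K61.f676069 IH) (Lpr_gf (f788478 IH) (Lpn v20608))))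
theorem f788480 : Led Lsl_ft v7408 = v20608 :=
  Lgr Lrot48 (Lpr_ff (f788479 IH) (Lpn v20608))
theorem f838820 : Led Lsl_dt v20608 = v27306 :=
  Lgr Lrot60 (Lpe (f788480 IH) (Lpr_df (f675783 IH) (Lpr_ff (f838818 IH) (Lpn v27306))))
theorem f460616 : Led Lsl_dt (LP (LK LD1_c13 LD2_c17 LD3_c60)) = (LP (LK LD1_c14 LD2_c21 LD3_c59)) :=
  Lgr Lrot42 (Lpr_df (K33.f460610 IH) (Lpn (LP (LK LD1_c14 LD2_c21 LD3_c59))))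
theorem f460623 : Led Lsl_gt (LP (LK LD1_c24 LD2_c0 LD3_c0)) = (LP (LK LD1_c14 LD2_c21 LD3_c59)) :=
  Lre_g IH (LK LD1_c24 LD2_c0 LD3_c0) (LK LD1_c14 LD2_c21 LD3_c59) Lrfl Lrfl
theorem f520220 : Led Lsl_af (LP (LK LD1_c1 LD2_c51 LD3_c48)) = (LP (LK LD1_c3 LD2_c47 LD3_c13)) :=
  Lgr Lrot0 (Lpr_at (K33.f520112 IH) (Lpn (LP (LK LD1_c3 LD2_c47 LD3_c13))))
theorem f520240 : Led Lsl_af (LP (LK LD1_c1 LD2_c51 LD3_c47)) = (LP (LK LD1_c3 LD2_c47 LD3_c12)) :=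
  Lgr Lrot45 (Lpr_ft (K33.f520097 IH) (Lpe (f520220 IH) (Lpr_ft (K33.f520238 IH) (Lpn (LP (LK LD1_c3 LD2_c47 LD3_c12))))))
theorem f665306 : Led Lsl_at K34.v2665 = K48.v7420 :=
  Lgr Lrot80 (Lpe (K34.f530185 IH) (Lpr_af (f520240 IH) (Lpr_ef (K48.f665305 IH) (Lpn K48.v7420))))
theorem f838812 : Led Lsl_gf K48.v7420 = v27306 :=
  Lgr Lrot76 (Lpe (f665306 IH) (Lpr_ff (K48.f665046 IH) (Lpr_gt (f838810 IH) (Lpn v27306))))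
theorem f665195 : Led Lsl_gt (LP (LK LD1_c7 LD2_c34 LD3_c44)) = (LP (LK LD1_c14 LD2_c17 LD3_c31)) :=
  Lre_g IH (LK LD1_c7 LD2_c34 LD3_c44) (LK LD1_c14 LD2_c17 LD3_c31) Lrfl Lrfl
theorem f665240 : Led Lsl_et (LP (LK LD1_c23 LD2_c55 LD3_c9)) = (LP (LK LD1_c14 LD2_c17 LD3_c31)) :=
  Lre_e IH (LK LD1_c23 LD2_c55 LD3_c9) (LK LD1_c14 LD2_c17 LD3_c31) Lrfl Lrfl
theorem f838822 : Led Lsl_df (LP (LK LD1_c24 LD2_c0 LD3_c0)) = (LP (LK LD1_c23 LD2_c55 LD3_c9)) :=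
  Lgr Lrot170 (Lpr_gt (f460623 IH) (Lpe (f460616 IH) (Lpr_et (K33.f460608 IH) (Lpr_gt (f788476 IH) (Lpr_dt (f838820 IH) (Lpe (f838812 IH) (Lpe (K48.f665302 IH) (Lpr_et (K48.f665031 IH) (Lpr_gt (f665195 IH) (Lpe (f665240 IH) (Lpn (LP (LK LD1_c23 LD2_c55 LD3_c9)))))))))))))
theorem f838823 : Led Lsl_dt (LP (LK LD1_c23 LD2_c55 LD3_c9)) = (LP (LK LD1_c24 LD2_c0 LD3_c0)) :=
  Leop (Lpr_df (f838822 IH) (Lpn (LP (LK LD1_c23 LD2_c55 LD3_c9))))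
theorem seed_1938 : LEOK LG_d (LK LD1_c23 LD2_c55 LD3_c9) :=
  Leoe_d (LK LD1_c23 LD2_c55 LD3_c9) (f838823 IH)
def v7421 : LQ := Led Lsl_dt (LP (LK LD1_c3 LD2_c46 LD3_c57))
def v27310 : LQ := Led Lsl_gf v7421
theorem f838842 : Led Lsl_gf v7421 = v27310 :=
  Lrfl
def v21403 : LQ := Led Lsl_dt (LP (LK LD1_c7 LD2_c18 LD3_c34))
theorem f795615 : Led Lsl_dt (LP (LK LD1_c7 LD2_c18 LD3_c34)) = v21403 :=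
  Lrfl
theorem f665311 : Led Lsl_dt (LP (LK LD1_c3 LD2_c46 LD3_c57)) = v7421 :=
  Lrfl
theorem f665313 : Led Lsl_df (LP (LK LD1_c3 LD2_c46 LD3_c57)) = v7421 :=
  Lgr Lrot38 (Lpr_dt (f665311 IH) (Lpn v7421))
theorem f795616 : Led Lsl_af v7421 = v21403 :=
  Lgr Lrot117 (Lpe (f665313 IH) (Lpr_at (K30.f493769 IH) (Lpr_dt (f795615 IH) (Lpn v21403))))
theorem f795619 : Led Lsl_ff (LP (LK LD1_c13 LD2_c6 LD3_c10)) = v21403 :=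
  Lgr Lrot19 (Lpr_dt (K61.f485829 IH) (Lpe (K61.f485825 IH) (Lpr_dt (f795615 IH) (Lpn v21403))))
theorem f795621 : Led Lsl_ft (LP (LK LD1_c13 LD2_c6 LD3_c10)) = v21403 :=
  Lgr Lrot48 (Lpr_ff (f795619 IH) (Lpn v21403))
theorem f838843 : Led Lsl_gt (LP (LK LD1_c13 LD2_c6 LD3_c10)) = v27310 :=
  Lgr Lrot5 (Lpr_ft (f795621 IH) (Lpe (f795616 IH) (Lpr_gf (f838842 IH) (Lpn v27310))))
theorem f485823 : Led Lsl_dt (LP (LK LD1_c6 LD2_c53 LD3_c37)) = (LP (LK LD1_c13 LD2_c6 LD3_c10)) :=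
  Lre_d IH (LK LD1_c6 LD2_c53 LD3_c37) (LK LD1_c13 LD2_c6 LD3_c10) Lrfl Lrfl
def v22027 : LQ := Led Lsl_et (LP (LK LD1_c7 LD2_c30 LD3_c19))
theorem f800734 : Led Lsl_et (LP (LK LD1_c7 LD2_c30 LD3_c19)) = v22027 :=
  Lrfl
theorem f800735 : Led Lsl_ef (LP (LK LD1_c7 LD2_c30 LD3_c19)) = v22027 :=
  Lgr Lrot88 (Lpr_et (f800734 IH) (Lpn v22027))
theorem f838844 : Led Lsl_dt v22027 = v27310 :=
  Lgr Lrot56 (Lpe (f800735 IH) (Lpr_gt (K28.f16746 IH) (Lpe (K8.f14717 IH) (Lpr_dt (K0.f14711 IH) (Lpr_gt (K6.f104284 IH) (Lpe (K8.f130454 IH) (Lpr_et (K61.f130458 IH) (Lpe (K61.f659932 IH) (Lpr_dt (f485823 IH) (Lpr_gt (f838843 IH) (Lpn v27310)))))))))))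
theorem f15282 : Led Lsl_et (LP (LK LD1_c7 LD2_c36 LD3_c9)) = (LP (LK LD1_c6 LD2_c54 LD3_c23)) :=
  Lgr Lrot74 (Lpe (K29.f14816 IH) (Lpr_ef (K0.f15064 IH) (Lpe (K8.f15281 IH) (Lpn (LP (LK LD1_c6 LD2_c54 LD3_c23))))))
theorem f14820 : Led Lsl_dt (LP (LK LD1_c7 LD2_c36 LD3_c9)) = (LP (LK LD1_c14 LD2_c20 LD3_c0)) :=
  Lre_d IH (LK LD1_c7 LD2_c36 LD3_c9) (LK LD1_c14 LD2_c20 LD3_c0) Lrfl Lrfl
theorem f14829 : Led Lsl_gt (LP (LK LD1_c7 LD2_c36 LD3_c31)) = (LP (LK LD1_c14 LD2_c20 LD3_c0)) :=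
  Lre_g IH (LK LD1_c7 LD2_c36 LD3_c31) (LK LD1_c14 LD2_c20 LD3_c0) Lrfl Lrfl
def v22434 : LQ := Led Lsl_dt (LP (LK LD1_c7 LD2_c36 LD3_c31))
theorem f806920 : Led Lsl_dt (LP (LK LD1_c7 LD2_c36 LD3_c31)) = v22434 :=
  Lrfl
theorem f806921 : Led Lsl_df (LP (LK LD1_c7 LD2_c36 LD3_c31)) = v22434 :=
  Lgr Lrot38 (Lpr_dt (f806920 IH) (Lpn v22434))
theorem f477476 : Led Lsl_et (LP (LK LD1_c3 LD2_c46 LD3_c57)) = (LP (LK LD1_c7 LD2_c34 LD3_c46)) :=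
  Lre_e IH (LK LD1_c3 LD2_c46 LD3_c57) (LK LD1_c7 LD2_c34 LD3_c46) Lrfl Lrfl
theorem f473511 : Led Lsl_gt (LP (LK LD1_c7 LD2_c34 LD3_c46)) = (LP (LK LD1_c14 LD2_c17 LD3_c37)) :=
  Lre_g IH (LK LD1_c7 LD2_c34 LD3_c46) (LK LD1_c14 LD2_c17 LD3_c37) Lrfl Lrfl
theorem f838846 : v22434 = (LP (LK LD1_c14 LD2_c17 LD3_c37)) :=
  (Llr Lrot135 (Lpe (f806921 IH) (Lpr_gt (f14829 IH) (Lpe (f14820 IH) (Lpr_et (f15282 IH) (Lpe (K28.f16747 IH) (Lpr_ef (f800735 IH) (Lpr_dt (f838844 IH) (Lpe (f838842 IH) (Lpe (f665311 IH) (Lpr_et (f477476 IH) (Lpr_gt (f473511 IH) (Lpn (LP (LK LD1_c14 LD2_c17 LD3_c37))))))))))))))).symm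
theorem f838847 : Led Lsl_dt (LP (LK LD1_c14 LD2_c17 LD3_c37)) = (LP (LK LD1_c7 LD2_c36 LD3_c31)) :=
  Leop (Lpr_df (f806921 IH) (Lpqs (f838846 IH) (Lpn (LP (LK LD1_c14 LD2_c17 LD3_c37)))))
theorem seed_1939 : LEOK LG_d (LK LD1_c14 LD2_c17 LD3_c37) :=
  Leoe_d (LK LD1_c14 LD2_c17 LD3_c37) (f838847 IH)
def v27394 : LQ := Led Lsl_gf K48.v7496
theorem f839278 : Led Lsl_gf K48.v7496 = v27394 :=
  Lrfl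
theorem f114462 : Led Lsl_et (LP (LK LD1_c3 LD2_c48 LD3_c26)) = (LP (LK LD1_c7 LD2_c37 LD3_c55)) :=
  Lre_e IH (LK LD1_c3 LD2_c48 LD3_c26) (LK LD1_c7 LD2_c37 LD3_c55) Lrfl Lrfl
theorem f666074 : Led Lsl_gf (LP (LK LD1_c13 LD2_c3 LD3_c6)) = (LP (LK LD1_c13 LD2_c18 LD3_c1)) :=
  Lgr Lrot145 (Lpe (K47.f12807 IH) (Lpr_et (K4.f12811 IH) (Lpr_gt (K4.f111343 IH) (Lpr_dt (K4.f111368 IH) (Lpr_gt (K48.f155761 IH) (Lpe (K36.f114459 IH) (Lpr_et (f114462 IH) (Lpr_gt (K33.f487944 IH) (Lpr_ef (K48.f666069 IH) (Lpe (K48.f666068 IH) (Lpn (LP (LK LD1_c13 LD2_c18 LD3_c1)))))))))))))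
theorem f839281 : Led Lsl_et (LP (LK LD1_c22 LD2_c19 LD3_c48)) = v27394 :=
  Lgr Lrot121 (Lpe (K34.f492894 IH) (Lpe (K34.f111400 IH) (Lpe (K34.f111408 IH) (Lpr_et (K4.f103795 IH) (Lpe (K4.f111343 IH) (Lpe (K4.f12811 IH) (Lpr_dt (K47.f12807 IH) (Lpr_gf (f666074 IH) (Lpr_df (K48.f666068 IH) (Lpr_gf (f839278 IH) (Lpn v27394)))))))))))
theorem f839284 : Led Lsl_ef (LP (LK LD1_c22 LD2_c19 LD3_c48)) = v27394 :=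
  Lgr Lrot88 (Lpr_et (f839281 IH) (Lpn v27394))
theorem f786223 : Led Lsl_ff (LP (LK LD1_c6 LD2_c54 LD3_c3)) = K60.v20303 :=
  Lgr Lrot3 (Lpr_ft (K60.f786218 IH) (Lpn K60.v20303))
theorem f102470 : Led Lsl_at (LP (LK LD1_c6 LD2_c54 LD3_c3)) = (LP (LK LD1_c13 LD2_c6 LD3_c41)) :=
  Lre_a IH (LK LD1_c6 LD2_c54 LD3_c3) (LK LD1_c13 LD2_c6 LD3_c41) Lrfl Lrfl
theorem f486107 : Led Lsl_dt (LP (LK LD1_c14 LD2_c14 LD3_c48)) = (LP (LK LD1_c7 LD2_c33 LD3_c14)) :=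
  Lre_d IH (LK LD1_c14 LD2_c14 LD3_c48) (LK LD1_c7 LD2_c33 LD3_c14) Lrfl Lrfl
theorem f518437 : Led Lsl_ff (LP (LK LD1_c14 LD2_c14 LD3_c48)) = (LP (LK LD1_c13 LD2_c6 LD3_c41)) :=
  Lgr Lrot19 (Lpr_dt (f486107 IH) (Lpr_ft (K48.f518329 IH) (Lpr_dt (K48.f102460 IH) (Lpn (LP (LK LD1_c13 LD2_c6 LD3_c41))))))
theorem f786227 : Led Lsl_at (LP (LK LD1_c14 LD2_c14 LD3_c48)) = K60.v20303 :=
  Lgr Lrot66 (Lpr_ff (f518437 IH) (Lpe (f102470 IH) (Lpr_ff (f786223 IH) (Lpn K60.v20303))))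
theorem f786231 : Led Lsl_gt (LP (LK LD1_c13 LD2_c18 LD3_c48)) = K60.v20303 :=
  Lgr Lrot46 (Lpe (K48.f667289 IH) (Lpe (f518437 IH) (Lpr_at (f786227 IH) (Lpn K60.v20303))))
theorem f511588 : Led Lsl_dt (LP (LK LD1_c6 LD2_c54 LD3_c3)) = (LP (LK LD1_c3 LD2_c26 LD3_c5)) :=
  Lre_d IH (LK LD1_c6 LD2_c54 LD3_c3) (LK LD1_c3 LD2_c26 LD3_c5) Lrfl Lrfl
theorem f786229 : Led Lsl_dt K47.v6692 = K60.v20303 :=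
  Lgr Lrot60 (Lpe (K47.f657812 IH) (Lpe (f511588 IH) (Lpr_ff (f786223 IH) (Lpn K60.v20303))))
theorem f657816 : Led Lsl_ef (LP (LK LD1_c7 LD2_c18 LD3_c32)) = K47.v6692 :=
  Lgr Lrot21 (Lpr_ft (K47.f485701 IH) (Lpr_et (K4.f12811 IH) (Lpe (K4.f102861 IH) (Lpr_et (K48.f96318 IH) (Lpr_ft (K47.f657812 IH) (Lpn K47.v6692))))))
theorem f523101 : Led Lsl_dt (LP (LK LD1_c7 LD2_c29 LD3_c33)) = (LP (LK LD1_c3 LD2_c44 LD3_c16)) :=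
  Lre_d IH (LK LD1_c7 LD2_c29 LD3_c33) (LK LD1_c3 LD2_c44 LD3_c16) Lrfl Lrfl
theorem f523102 : Led Lsl_ct (LP (LK LD1_c14 LD2_c8 LD3_c55)) = (LP (LK LD1_c7 LD2_c29 LD3_c33)) :=
  Lre_c IH (LK LD1_c14 LD2_c8 LD3_c55) (LK LD1_c7 LD2_c29 LD3_c33) Lrfl Lrfl
theorem f523149 : Led Lsl_dt (LP (LK LD1_c23 LD2_c43 LD3_c44)) = (LP (LK LD1_c14 LD2_c8 LD3_c55)) :=
  Lre_d IH (LK LD1_c23 LD2_c43 LD3_c44) (LK LD1_c14 LD2_c8 LD3_c55) Lrfl Lrfl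
theorem f523211 : Led Lsl_dt (LP (LK LD1_c13 LD2_c17 LD3_c57)) = (LP (LK LD1_c22 LD2_c27 LD3_c33)) :=
  Lgr Lrot159 (Lpe (K47.f520778 IH) (Lpr_at (K47.f520720 IH) (Lpr_cf (K47.f523186 IH) (Lpe (f523101 IH) (Lpe (f523102 IH) (Lpe (f523149 IH) (Lpe (K47.f523148 IH) (Lpe (K63.f523144 IH) (Lpe (K47.f485822 IH) (Lpn (LP (LK LD1_c22 LD2_c27 LD3_c33))))))))))))
theorem f520737 : Led Lsl_at (LP (LK LD1_c14 LD2_c17 LD3_c3)) = (LP (LK LD1_c7 LD2_c34 LD3_c33)) :=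
  Lre_a IH (LK LD1_c14 LD2_c17 LD3_c3) (LK LD1_c7 LD2_c34 LD3_c33) Lrfl Lrfl
theorem f523133 : Led Lsl_ft (LP (LK LD1_c22 LD2_c27 LD3_c33)) = (LP (LK LD1_c14 LD2_c17 LD3_c3)) :=
  Lgr Lrot101 (Lpr_af (K47.f523112 IH) (Lpe (K47.f520735 IH) (Lpe (f520737 IH) (Lpn (LP (LK LD1_c14 LD2_c17 LD3_c3))))))
theorem f523233 : Led Lsl_gt (LP (LK LD1_c22 LD2_c27 LD3_c33)) = (LP (LK LD1_c14 LD2_c17 LD3_c5)) :=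
  Lgr Lrot5 (Lpr_ft (f523133 IH) (Lpr_at (f520737 IH) (Lpe (K63.f92924 IH) (Lpn (LP (LK LD1_c14 LD2_c17 LD3_c5))))))
theorem f839288 : Led Lsl_df (LP (LK LD1_c14 LD2_c17 LD3_c5)) = v27394 :=
  Lgr Lrot132 (Lpe (f523233 IH) (Lpe (f523211 IH) (Lpr_gf (K62.f523215 IH) (Lpr_ef (f657816 IH) (Lpr_dt (f786229 IH) (Lpe (f786231 IH) (Lpr_df (K48.f667285 IH) (Lpe (K48.f667286 IH) (Lpe (K57.f492557 IH) (Lpr_ef (f839284 IH) (Lpn v27394)))))))))))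
theorem f523257 : Led Lsl_et (LP (LK LD1_c14 LD2_c17 LD3_c5)) = (LP (LK LD1_c23 LD2_c54 LD3_c28)) :=
  Lre_e IH (LK LD1_c14 LD2_c17 LD3_c5) (LK LD1_c23 LD2_c54 LD3_c28) Lrfl Lrfl
theorem f111402 : Led Lsl_et (LP (LK LD1_c31 LD2_c13 LD3_c28)) = (LP (LK LD1_c23 LD2_c47 LD3_c59)) :=
  Lre_e IH (LK LD1_c31 LD2_c13 LD3_c28) (LK LD1_c23 LD2_c47 LD3_c59) Lrfl Lrfl
theorem f839290 : Led Lsl_dt (LP (LK LD1_c23 LD2_c54 LD3_c28)) = (LP (LK LD1_c31 LD2_c13 LD3_c28)) :=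
  Lgr Lrot77 (Lpe (f523257 IH) (Lpr_df (f839288 IH) (Lpe (f839281 IH) (Lpe (K37.f492887 IH) (Lpe (f111402 IH) (Lpn (LP (LK LD1_c31 LD2_c13 LD3_c28))))))))
theorem f839291 : Led Lsl_dt (LP (LK LD1_c23 LD2_c54 LD3_c28)) = (LP (LK LD1_c31 LD2_c13 LD3_c28)) :=
  Leop (Lpe (f839290 IH) (Lpn (LP (LK LD1_c23 LD2_c54 LD3_c28))))
theorem seed_1940 : LEOK LG_d (LK LD1_c23 LD2_c54 LD3_c28) :=
  Leoe_d (LK LD1_c23 LD2_c54 LD3_c28) (f839291 IH)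
theorem f839289 : Led Lsl_dt (LP (LK LD1_c14 LD2_c17 LD3_c5)) = v27394 :=
  Lgr Lrot42 (Lpr_df (f839288 IH) (Lpn v27394))
theorem f520758 : Led Lsl_dt (LP (LK LD1_c23 LD2_c54 LD3_c24)) = (LP (LK LD1_c31 LD2_c16 LD3_c30)) :=
  Lre_d IH (LK LD1_c23 LD2_c54 LD3_c24) (LK LD1_c31 LD2_c16 LD3_c30) Lrfl Lrfl
theorem f523175 : Led Lsl_ff (LP (LK LD1_c23 LD2_c54 LD3_c24)) = (LP (LK LD1_c30 LD2_c31 LD3_c12)) :=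
  Lgr Lrot19 (Lpr_dt (f520758 IH) (Lpr_ft (K47.f523168 IH) (Lpe (K47.f523139 IH) (Lpn (LP (LK LD1_c30 LD2_c31 LD3_c12))))))
theorem f520762 : Led Lsl_at (LP (LK LD1_c23 LD2_c54 LD3_c24)) = (LP (LK LD1_c14 LD2_c17 LD3_c6)) :=
  Lre_a IH (LK LD1_c23 LD2_c54 LD3_c24) (LK LD1_c14 LD2_c17 LD3_c6) Lrfl Lrfl
theorem f523117 : Led Lsl_gt (LP (LK LD1_c23 LD2_c54 LD3_c30)) = (LP (LK LD1_c14 LD2_c17 LD3_c6)) :=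
  Lre_g IH (LK LD1_c23 LD2_c54 LD3_c30) (LK LD1_c14 LD2_c17 LD3_c6) Lrfl Lrfl
theorem f523222 : Led Lsl_gf (LP (LK LD1_c23 LD2_c54 LD3_c30)) = (LP (LK LD1_c30 LD2_c31 LD3_c12)) :=
  Lgr Lrot47 (Lpr_gt (f523117 IH) (Lpe (f520762 IH) (Lpr_ff (f523175 IH) (Lpn (LP (LK LD1_c30 LD2_c31 LD3_c12))))))
theorem f523119 : Led Lsl_dt (LP (LK LD1_c23 LD2_c54 LD3_c30)) = (LP (LK LD1_c31 LD2_c16 LD3_c41)) :=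
  Lre_d IH (LK LD1_c23 LD2_c54 LD3_c30) (LK LD1_c31 LD2_c16 LD3_c41) Lrfl Lrfl
theorem f493791 : Led Lsl_ct (LP (LK LD1_c22 LD2_c33 LD3_c55)) = (LP (LK LD1_c13 LD2_c18 LD3_c1)) :=
  Lre_c IH (LK LD1_c22 LD2_c33 LD3_c55) (LK LD1_c13 LD2_c18 LD3_c1) Lrfl Lrfl
theorem f493792 : Led Lsl_dt (LP (LK LD1_c30 LD2_c34 LD3_c58)) = (LP (LK LD1_c22 LD2_c33 LD3_c55)) :=
  Lre_d IH (LK LD1_c30 LD2_c34 LD3_c58) (LK LD1_c22 LD2_c33 LD3_c55) Lrfl Lrfl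
theorem f839296 : Led Lsl_gt (LP (LK LD1_c31 LD2_c16 LD3_c41)) = (LP (LK LD1_c30 LD2_c34 LD3_c58)) :=
  Lgr Lrot49 (Lpe (f523119 IH) (Lpr_gf (f523222 IH) (Lpe (K47.f485822 IH) (Lpr_gt (f523233 IH) (Lpr_dt (f839289 IH) (Lpe (f839278 IH) (Lpe (K48.f666068 IH) (Lpe (f493791 IH) (Lpe (f493792 IH) (Lpn (LP (LK LD1_c30 LD2_c34 LD3_c58))))))))))))
theorem f839297 : Led Lsl_gt (LP (LK LD1_c31 LD2_c16 LD3_c41)) = (LP (LK LD1_c30 LD2_c34 LD3_c58)) :=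
  Leop (Lpe (f839296 IH) (Lpn (LP (LK LD1_c31 LD2_c16 LD3_c41))))
theorem seed_1941 : LEOK LG_g (LK LD1_c31 LD2_c16 LD3_c41) :=
  Leoe_g (LK LD1_c31 LD2_c16 LD3_c41) (f839297 IH)
def v22377 : LQ := Led Lsl_et (LP (LK LD1_c7 LD2_c35 LD3_c25))
theorem f806510 : Led Lsl_et (LP (LK LD1_c7 LD2_c35 LD3_c25)) = v22377 :=
  Lrfl
theorem f745516 : Led Lsl_at (LP (LK LD1_c14 LD2_c18 LD3_c34)) = (LP (LK LD1_c7 LD2_c35 LD3_c25)) :=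
  Lgr Lrot26 (Lpr_ff (K61.f745508 IH) (Lpr_gt (K37.f15113 IH) (Lpr_gt (K37.f15115 IH) (Lpn (LP (LK LD1_c7 LD2_c35 LD3_c25))))))
theorem f492294 : Led Lsl_et (LP (LK LD1_c13 LD2_c12 LD3_c58)) = (LP (LK LD1_c22 LD2_c26 LD3_c59)) :=
  Lre_e IH (LK LD1_c13 LD2_c12 LD3_c58) (LK LD1_c22 LD2_c26 LD3_c59) Lrfl Lrfl
theorem f839286 : Led Lsl_bt (LP (LK LD1_c22 LD2_c26 LD3_c59)) = v27394 :=
  Lgr Lrot119 (Lpe (f492294 IH) (Lpe (K34.f492546 IH) (Lpr_ef (f839284 IH) (Lpn v27394))))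
theorem f492295 : Led Lsl_cf (LP (LK LD1_c14 LD2_c38 LD3_c60)) = (LP (LK LD1_c22 LD2_c26 LD3_c59)) :=
  Lgr Lrot39 (Lpr_et (K34.f492290 IH) (Lpr_ct (K34.f463991 IH) (Lpr_et (f492294 IH) (Lpn (LP (LK LD1_c22 LD2_c26 LD3_c59))))))
theorem f492293 : Led Lsl_gt (LP (LK LD1_c7 LD2_c46 LD3_c3)) = (LP (LK LD1_c14 LD2_c38 LD3_c60)) :=
  Lre_g IH (LK LD1_c7 LD2_c46 LD3_c3) (LK LD1_c14 LD2_c38 LD3_c60) Lrfl Lrfl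
def v23027 : LQ := Led Lsl_ct (LP (LK LD1_c7 LD2_c46 LD3_c3))
theorem f814438 : Led Lsl_ct (LP (LK LD1_c7 LD2_c46 LD3_c3)) = v23027 :=
  Lrfl
theorem f814439 : Led Lsl_cf (LP (LK LD1_c7 LD2_c46 LD3_c3)) = v23027 :=
  Lgr Lrot11 (Lpr_ct (f814438 IH) (Lpn v23027))
theorem f666070 : Led Lsl_bt K34.v2665 = K48.v7496 :=
  Lgr Lrot119 (Lpe (K34.f530185 IH) (Lpe (K33.f487931 IH) (Lpr_ef (K48.f666069 IH) (Lpn K48.v7496))))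
theorem f666119 : Led Lsl_ef (LP (LK LD1_c3 LD2_c49 LD3_c35)) = K60.v7498 :=
  Lgr Lrot88 (Lpr_et (K60.f666115 IH) (Lpn K60.v7498))
theorem f666122 : Led Lsl_ct K34.v2665 = K60.v7498 :=
  Lgr Lrot15 (Lpe (K34.f530185 IH) (Lpe (K33.f459811 IH) (Lpr_ef (f666119 IH) (Lpn K60.v7498))))
theorem f520687 : Led Lsl_af (LP (LK LD1_c3 LD2_c46 LD3_c53)) = (LP (LK LD1_c7 LD2_c0 LD3_c35)) :=
  Lgr Lrot0 (Lpr_at (K33.f520685 IH) (Lpn (LP (LK LD1_c7 LD2_c0 LD3_c35))))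
theorem f664987 : Led Lsl_gf (LP (LK LD1_c3 LD2_c46 LD3_c53)) = v7408 :=
  Lgr Lrot76 (Lpr_af (f520687 IH) (Lpe (K34.f520716 IH) (Lpr_gt (f664986 IH) (Lpn v7408))))
def v2501 : LQ := Led Lsl_dt (LP (LK LD1_c1 LD2_c46 LD3_c49))
theorem f523633 : Led Lsl_dt (LP (LK LD1_c1 LD2_c46 LD3_c49)) = v2501 :=
  Lrfl
theorem f523635 : Led Lsl_df (LP (LK LD1_c1 LD2_c46 LD3_c49)) = v2501 :=
  Lgr Lrot38 (Lpr_dt (f523633 IH) (Lpn v2501))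
def v9175 : LQ := Led Lsl_gf v2501
theorem f673880 : Led Lsl_gf v2501 = v9175 :=
  Lrfl
theorem f471810 : Led Lsl_gt (LP (LK LD1_c13 LD2_c17 LD3_c16)) = (LP (LK LD1_c7 LD2_c37 LD3_c8)) :=
  Lgr Lrot180 (Lpr_ct (K29.f471797 IH) (Lpr_gt (K29.f460597 IH) (Lpr_dt (K29.f64173 IH) (Lpr_gt (K29.f64169 IH) (Lpr_dt (K29.f468644 IH) (Lpr_ct (K29.f63012 IH) (Lpe (K29.f62778 IH) (Lpe (K28.f464142 IH) (Lpe (K29.f460685 IH) (Lpn (LP (LK LD1_c7 LD2_c37 LD3_c8))))))))))))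
theorem f464816 : Led Lsl_gt (LP (LK LD1_c3 LD2_c30 LD3_c20)) = (LP (LK LD1_c6 LD2_c34 LD3_c4)) :=
  Lgr Lrot94 (Lpe (K29.f443460 IH) (Lpr_gt (K1.f18826 IH) (Lpr_dt (K1.f64970 IH) (Lpr_gt (K1.f64971 IH) (Lpe (K24.f64979 IH) (Lpe (K29.f457906 IH) (Lpe (K29.f458078 IH) (Lpr_gf (K28.f464814 IH) (Lpe (K28.f464812 IH) (Lpn (LP (LK LD1_c6 LD2_c34 LD3_c4))))))))))))
theorem f511741 : Led Lsl_gt (LP (LK LD1_c3 LD2_c39 LD3_c48)) = (LP (LK LD1_c7 LD2_c2 LD3_c31)) :=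
  Lgr Lrot180 (Lpr_ct (K33.f511717 IH) (Lpe (K47.f477943 IH) (Lpr_dt (K29.f464149 IH) (Lpr_gt (f471810 IH) (Lpr_dt (K29.f460685 IH) (Lpr_ct (K29.f464792 IH) (Lpe (K28.f464812 IH) (Lpe (f464816 IH) (Lpe (K29.f464827 IH) (Lpn (LP (LK LD1_c7 LD2_c2 LD3_c31))))))))))))
theorem f464807 : Led Lsl_ef (LP (LK LD1_c6 LD2_c34 LD3_c0)) = (LP (LK LD1_c3 LD2_c51 LD3_c56)) :=
  Lgr Lrot88 (Lpr_et (K28.f464803 IH) (Lpn (LP (LK LD1_c3 LD2_c51 LD3_c56))))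
def v9099 : LQ := Led Lsl_et K33.v2428
theorem f673555 : Led Lsl_et K33.v2428 = v9099 :=
  Lrfl
theorem f673558 : Led Lsl_ef K33.v2428 = v9099 :=
  Lgr Lrot88 (Lpr_et (f673555 IH) (Lpn v9099))
theorem f673881 : Led Lsl_dt v9099 = v9175 :=
  Lgr Lrot136 (Lpe (f673558 IH) (Lpe (K48.f519651 IH) (Lpr_ef (f464807 IH) (Lpe (K28.f464820 IH) (Lpe (f464816 IH) (Lpe (K29.f464827 IH) (Lpe (f511741 IH) (Lpe (K33.f511738 IH) (Lpr_dt (f523633 IH) (Lpr_gf (f673880 IH) (Lpn v9175)))))))))))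
theorem f665303 : Led Lsl_af K34.v2665 = K48.v7420 :=
  Lgr Lrot117 (Lpe (K34.f530187 IH) (Lpe (K48.f665063 IH) (Lpr_dt (K48.f665302 IH) (Lpn K48.v7420))))
theorem f667236 : Led Lsl_at K48.v7418 = K48.v7610 :=
  Lgr Lrot66 (Lpe (K48.f665043 IH) (Lpr_af (f665303 IH) (Lpr_ff (K48.f667235 IH) (Lpn K48.v7610))))
theorem f675780 : Led Lsl_gt K34.v2665 = v9412 :=
  Lgr Lrot5 (Lpr_ft (K48.f665043 IH) (Lpr_at (f667236 IH) (Lpr_gf (f675779 IH) (Lpn v9412))))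
theorem f675784 : Led Lsl_gf v9099 = K60.v7498 :=
  Lgr Lrot144 (Lpr_dt (f673881 IH) (Lpe (f673880 IH) (Lpe (f523635 IH) (Lpr_cf (K33.f511739 IH) (Lpe (K33.f451064 IH) (Lpr_gf (f664987 IH) (Lpr_df (f675783 IH) (Lpe (f675780 IH) (Lpr_cf (K60.f666118 IH) (Lpn K60.v7498))))))))))
theorem f673560 : Led Lsl_ct K61.v2691 = v9099 :=
  Lgr Lrot15 (Lpe (K61.f530432 IH) (Lpr_cf (K34.f519653 IH) (Lpr_ef (f673558 IH) (Lpn v9099))))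
def v7601 : LQ := Led Lsl_et (LP (LK LD1_c3 LD2_c52 LD3_c29))
theorem f667184 : Led Lsl_et (LP (LK LD1_c3 LD2_c52 LD3_c29)) = v7601 :=
  Lrfl
theorem f667186 : Led Lsl_ef (LP (LK LD1_c3 LD2_c52 LD3_c29)) = v7601 :=
  Lgr Lrot88 (Lpr_et (f667184 IH) (Lpn v7601))
theorem f667187 : Led Lsl_bt K61.v2691 = v7601 :=
  Lgr Lrot119 (Lpe (K61.f530432 IH) (Lpe (K62.f14904 IH) (Lpr_ef (f667186 IH) (Lpn v7601))))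
theorem f839298 : Led Lsl_gf v23027 = v7601 :=
  Lgr Lrot181 (Lpe (f814439 IH) (Lpr_gt (f492293 IH) (Lpr_cf (f492295 IH) (Lpr_bt (f839286 IH) (Lpe (f839278 IH) (Lpe (f666070 IH) (Lpr_ct (f666122 IH) (Lpe (f675784 IH) (Lpe (f673560 IH) (Lpr_bt (f667187 IH) (Lpn v7601)))))))))))
theorem f517082 : Led Lsl_dt (LP (LK LD1_c3 LD2_c52 LD3_c29)) = (LP (LK LD1_c7 LD2_c46 LD3_c50)) :=
  Lre_d IH (LK LD1_c3 LD2_c52 LD3_c29) (LK LD1_c7 LD2_c46 LD3_c50) Lrfl Lrfl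
theorem f564473 : Led Lsl_gt (LP (LK LD1_c14 LD2_c40 LD3_c43)) = (LP (LK LD1_c7 LD2_c46 LD3_c50)) :=
  Lre_g IH (LK LD1_c14 LD2_c40 LD3_c43) (LK LD1_c7 LD2_c46 LD3_c50) Lrfl Lrfl
theorem f109923 : Led Lsl_gt (LP (LK LD1_c7 LD2_c1 LD3_c38)) = (LP (LK LD1_c3 LD2_c29 LD3_c61)) :=
  Lre_g IH (LK LD1_c7 LD2_c1 LD3_c38) (LK LD1_c3 LD2_c29 LD3_c61) Lrfl Lrfl
theorem f109924 : Led Lsl_et (LP (LK LD1_c13 LD2_c19 LD3_c46)) = (LP (LK LD1_c7 LD2_c1 LD3_c38)) :=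
  Lre_e IH (LK LD1_c13 LD2_c19 LD3_c46) (LK LD1_c7 LD2_c1 LD3_c38) Lrfl Lrfl
theorem f457756 : Led Lsl_dt (LP (LK LD1_c14 LD2_c10 LD3_c31)) = (LP (LK LD1_c23 LD2_c45 LD3_c53)) :=
  Lre_d IH (LK LD1_c14 LD2_c10 LD3_c31) (LK LD1_c23 LD2_c45 LD3_c53) Lrfl Lrfl
theorem f136465 : Led Lsl_gt (LP (LK LD1_c7 LD2_c41 LD3_c57)) = (LP (LK LD1_c3 LD2_c50 LD3_c26)) :=
  Lre_g IH (LK LD1_c7 LD2_c41 LD3_c57) (LK LD1_c3 LD2_c50 LD3_c26) Lrfl Lrfl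
theorem f564451 : Led Lsl_gt (LP (LK LD1_c14 LD2_c10 LD3_c30)) = (LP (LK LD1_c7 LD2_c41 LD3_c57)) :=
  Lgr Lrot5 (Lpr_ft (K41.f564439 IH) (Lpr_at (K41.f501846 IH) (Lpe (f136465 IH) (Lpn (LP (LK LD1_c7 LD2_c41 LD3_c57))))))
theorem f531810 : Led Lsl_ff (LP (LK LD1_c3 LD2_c52 LD3_c29)) = (LP (LK LD1_c7 LD2_c30 LD3_c22)) :=
  Lgr Lrot25 (Lpr_bt (K62.f14904 IH) (Lpr_ft (K34.f530426 IH) (Lpqs (K34.f531805 IH) (Lpr_bt (K41.f457720 IH) (Lpn (LP (LK LD1_c7 LD2_c30 LD3_c22)))))))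
theorem f564453 : Led Lsl_at (LP (LK LD1_c3 LD2_c52 LD3_c29)) = (LP (LK LD1_c7 LD2_c41 LD3_c57)) :=
  Lgr Lrot26 (Lpr_ff (f531810 IH) (Lpr_gt (K41.f457729 IH) (Lpr_gt (f564451 IH) (Lpn (LP (LK LD1_c7 LD2_c41 LD3_c57))))))
theorem f136470 : Led Lsl_dt (LP (LK LD1_c7 LD2_c41 LD3_c57)) = (LP (LK LD1_c14 LD2_c30 LD3_c43)) :=
  Lre_d IH (LK LD1_c7 LD2_c41 LD3_c57) (LK LD1_c14 LD2_c30 LD3_c43) Lrfl Lrfl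
theorem f564462 : Led Lsl_af (LP (LK LD1_c7 LD2_c46 LD3_c50)) = (LP (LK LD1_c14 LD2_c30 LD3_c43)) :=
  Lgr Lrot117 (Lpr_dt (K48.f517083 IH) (Lpr_at (f564453 IH) (Lpr_dt (f136470 IH) (Lpn (LP (LK LD1_c14 LD2_c30 LD3_c43))))))
theorem f532482 : Led Lsl_bt (LP (LK LD1_c3 LD2_c52 LD3_c30)) = (LP (LK LD1_c7 LD2_c46 LD3_c50)) :=
  Lre_b IH (LK LD1_c3 LD2_c52 LD3_c30) (LK LD1_c7 LD2_c46 LD3_c50) Lrfl Lrfl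
theorem f478306 : Led Lsl_bt (LP (LK LD1_c14 LD2_c10 LD3_c32)) = (LP (LK LD1_c7 LD2_c30 LD3_c23)) :=
  Lre_b IH (LK LD1_c14 LD2_c10 LD3_c32) (LK LD1_c7 LD2_c30 LD3_c23) Lrfl Lrfl
theorem f532483 : Led Lsl_ft (LP (LK LD1_c7 LD2_c46 LD3_c50)) = (LP (LK LD1_c14 LD2_c10 LD3_c32)) :=
  Lgr Lrot75 (Lpe (f532482 IH) (Lpr_ff (K48.f531812 IH) (Lpe (f478306 IH) (Lpn (LP (LK LD1_c14 LD2_c10 LD3_c32))))))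
theorem f564471 : Led Lsl_ft (LP (LK LD1_c23 LD2_c45 LD3_c53)) = (LP (LK LD1_c14 LD2_c30 LD3_c43)) :=
  Lgr Lrot101 (Lpe (K62.f532530 IH) (Lpe (f532483 IH) (Lpr_af (f564462 IH) (Lpn (LP (LK LD1_c14 LD2_c30 LD3_c43))))))
theorem f564474 : Led Lsl_gf (LP (LK LD1_c14 LD2_c40 LD3_c43)) = (LP (LK LD1_c23 LD2_c45 LD3_c53)) :=
  Lgr Lrot47 (Lpr_gt (f564473 IH) (Lpr_af (f564462 IH) (Lpe (f564471 IH) (Lpn (LP (LK LD1_c23 LD2_c45 LD3_c53))))))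
theorem f564722 : Led Lsl_dt (LP (LK LD1_c13 LD2_c19 LD3_c46)) = (LP (LK LD1_c14 LD2_c40 LD3_c43)) :=
  Lgr Lrot56 (Lpr_et (f109924 IH) (Lpr_gt (f109923 IH) (Lpe (K43.f109922 IH) (Lpr_dt (K6.f109916 IH) (Lpe (K3.f109912 IH) (Lpr_df (K3.f109396 IH) (Lpr_et (K6.f109411 IH) (Lpr_gt (K41.f564716 IH) (Lpr_dt (f457756 IH) (Lpe (f564474 IH) (Lpn (LP (LK LD1_c14 LD2_c40 LD3_c43)))))))))))))
theorem f839299 : Led Lsl_ef v23027 = (LP (LK LD1_c22 LD2_c26 LD3_c8)) :=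
  Lgr Lrot17 (Lpr_gf (f839298 IH) (Lpe (f667184 IH) (Lpr_dt (f517082 IH) (Lpe (f564473 IH) (Lpe (f564722 IH) (Lpr_gf (K63.f814420 IH) (Lpe (K63.f458430 IH) (Lpr_dt (K63.f458427 IH) (Lpe (K63.f656790 IH) (Lpr_df (K63.f804680 IH) (Lpn (LP (LK LD1_c22 LD2_c26 LD3_c8)))))))))))))
theorem f804569 : Led Lsl_ft (LP (LK LD1_c14 LD2_c21 LD3_c16)) = (LP (LK LD1_c22 LD2_c26 LD3_c8)) :=
  Lgr Lrot48 (Lpr_ff (K62.f804565 IH) (Lpn (LP (LK LD1_c22 LD2_c26 LD3_c8))))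
def v7535 : LQ := Led Lsl_et (LP (LK LD1_c3 LD2_c50 LD3_c35))
theorem f666437 : Led Lsl_et (LP (LK LD1_c3 LD2_c50 LD3_c35)) = v7535 :=
  Lrfl
theorem f666438 : Led Lsl_ef (LP (LK LD1_c3 LD2_c50 LD3_c35)) = v7535 :=
  Lgr Lrot88 (Lpr_et (f666437 IH) (Lpn v7535))
theorem f839302 : Led Lsl_ft v23027 = v7535 :=
  Lgr Lrot86 (Lpr_ef (f839299 IH) (Lpe (f804569 IH) (Lpr_ef (K62.f804537 IH) (Lpqs (K61.f745711 IH) (Lpe (K48.f666440 IH) (Lpr_ef (f666438 IH) (Lpn v7535)))))))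
def v23030 : LQ := Led Lsl_ft (LP (LK LD1_c7 LD2_c46 LD3_c3))
theorem f814444 : Led Lsl_ft (LP (LK LD1_c7 LD2_c46 LD3_c3)) = v23030 :=
  Lrfl
theorem f814446 : Led Lsl_ff (LP (LK LD1_c7 LD2_c46 LD3_c3)) = v23030 :=
  Lgr Lrot3 (Lpr_ft (f814444 IH) (Lpn v23030))
theorem f806512 : Led Lsl_ef (LP (LK LD1_c7 LD2_c35 LD3_c25)) = v22377 :=
  Lgr Lrot88 (Lpr_et (f806510 IH) (Lpn v22377))
theorem f806513 : Led Lsl_ct v7535 = v22377 :=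
  Lgr Lrot15 (Lpe (f666437 IH) (Lpr_cf (K37.f484874 IH) (Lpr_ef (f806512 IH) (Lpn v22377))))
theorem f839304 : v23030 = v22377 :=
  (Llr Lrot23 (Lpe (f814446 IH) (Lpr_ct (f814438 IH) (Lpr_ft (f839302 IH) (Lpr_ct (f806513 IH) (Lpn v22377)))))).symm
def v23026 : LQ := Led Lsl_at (LP (LK LD1_c7 LD2_c46 LD3_c3))
theorem f814433 : Led Lsl_at (LP (LK LD1_c7 LD2_c46 LD3_c3)) = v23026 :=
  Lrfl
theorem f814434 : Led Lsl_af (LP (LK LD1_c7 LD2_c46 LD3_c3)) = v23026 :=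
  Lgr Lrot0 (Lpr_at (f814433 IH) (Lpn v23026))
theorem f530387 : Led Lsl_gt (LP (LK LD1_c3 LD2_c52 LD3_c7)) = (LP (LK LD1_c7 LD2_c46 LD3_c3)) :=
  Lre_g IH (LK LD1_c3 LD2_c52 LD3_c7) (LK LD1_c7 LD2_c46 LD3_c3) Lrfl Lrfl
theorem f530388 : Led Lsl_gt (LP (LK LD1_c7 LD2_c46 LD3_c4)) = (LP (LK LD1_c3 LD2_c52 LD3_c7)) :=
  Lre_g IH (LK LD1_c7 LD2_c46 LD3_c4) (LK LD1_c3 LD2_c52 LD3_c7) Lrfl Lrfl
theorem f814436 : Led Lsl_ft (LP (LK LD1_c7 LD2_c46 LD3_c4)) = v23026 :=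
  Lgr Lrot2 (Lpr_gt (f530388 IH) (Lpr_gt (f530387 IH) (Lpr_af (f814434 IH) (Lpn v23026))))
theorem f814445 : Led Lsl_af (LP (LK LD1_c7 LD2_c46 LD3_c4)) = v23030 :=
  Lgr Lrot45 (Lpr_ft (f814436 IH) (Lpe (f814434 IH) (Lpr_ft (f814444 IH) (Lpn v23030))))
def v23034 : LQ := Led Lsl_et (LP (LK LD1_c7 LD2_c46 LD3_c4))
theorem f814454 : Led Lsl_et (LP (LK LD1_c7 LD2_c46 LD3_c4)) = v23034 :=
  Lrfl
theorem f839305 : (LP (LK LD1_c14 LD2_c18 LD3_c34)) = v23034 :=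
  (Llr Lrot50 (Lpr_at (f745516 IH) (Lpr_et (f806510 IH) (Lpq (f839304 IH) (Lpe (f814445 IH) (Lpr_et (f814454 IH) (Lpn v23034))))))).symm
theorem f814455 : Led Lsl_ef (LP (LK LD1_c7 LD2_c46 LD3_c4)) = v23034 :=
  Lgr Lrot88 (Lpr_et (f814454 IH) (Lpn v23034))
theorem f839306 : Led Lsl_et (LP (LK LD1_c14 LD2_c18 LD3_c34)) = (LP (LK LD1_c7 LD2_c46 LD3_c4)) :=
  Leop (Lpr_ef (f814455 IH) (Lpq (f839305 IH) (Lpn (LP (LK LD1_c14 LD2_c18 LD3_c34)))))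
theorem seed_1942 : LEOK LG_e (LK LD1_c14 LD2_c18 LD3_c34) :=
  Leoe_e (LK LD1_c14 LD2_c18 LD3_c34) (f839306 IH)
def v27399 : LQ := Led Lsl_et K49.v7499
theorem f839350 : Led Lsl_et K49.v7499 = v27399 :=
  Lrfl
theorem f839353 : Led Lsl_ef K49.v7499 = v27399 :=
  Lgr Lrot88 (Lpr_et (f839350 IH) (Lpn v27399))
theorem f88317 : Led Lsl_gt (LP (LK LD1_c3 LD2_c49 LD3_c32)) = (LP (LK LD1_c7 LD2_c39 LD3_c61)) :=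
  Lre_g IH (LK LD1_c3 LD2_c49 LD3_c32) (LK LD1_c7 LD2_c39 LD3_c61) Lrfl Lrfl
theorem f442248 : Led Lsl_et (LP (LK LD1_c14 LD2_c27 LD3_c6)) = (LP (LK LD1_c7 LD2_c39 LD3_c61)) :=
  Lre_e IH (LK LD1_c14 LD2_c27 LD3_c6) (LK LD1_c7 LD2_c39 LD3_c61) Lrfl Lrfl
theorem f442249 : Led Lsl_dt (LP (LK LD1_c14 LD2_c27 LD3_c6)) = (LP (LK LD1_c24 LD2_c7 LD3_c43)) :=
  Lre_d IH (LK LD1_c14 LD2_c27 LD3_c6) (LK LD1_c24 LD2_c7 LD3_c43) Lrfl Lrfl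
theorem f674360 : Led Lsl_df K49.v7499 = K49.v9210 :=
  Lgr Lrot38 (Lpr_dt (K49.f674358 IH) (Lpn K49.v9210))
theorem f89210 : Led Lsl_dt (LP (LK LD1_c1 LD2_c51 LD3_c50)) = (LP (LK LD1_c3 LD2_c49 LD3_c43)) :=
  Lre_d IH (LK LD1_c1 LD2_c51 LD3_c50) (LK LD1_c3 LD2_c49 LD3_c43) Lrfl Lrfl
theorem f87695 : Led Lsl_et (LP (LK LD1_c1 LD2_c50 LD3_c39)) = (LP (LK LD1_c0 LD2_c52 LD3_c12)) :=
  Lre_e IH (LK LD1_c1 LD2_c50 LD3_c39) (LK LD1_c0 LD2_c52 LD3_c12) Lrfl Lrfl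
theorem f442297 : Led Lsl_ft (LP (LK LD1_c0 LD2_c52 LD3_c41)) = (LP (LK LD1_c1 LD2_c51 LD3_c50)) :=
  Lre_f IH (LK LD1_c0 LD2_c52 LD3_c41) (LK LD1_c1 LD2_c51 LD3_c50) Lrfl Lrfl
theorem f530048 : Led Lsl_et (LP (LK LD1_c1 LD2_c51 LD3_c50)) = K34.v2646 :=
  Lgr Lrot69 (Lpe (f442297 IH) (Lpe (K29.f87812 IH) (Lpe (K3.f87797 IH) (Lpe (f87695 IH) (Lpr_ff (K34.f530045 IH) (Lpn K34.v2646))))))
theorem f129734 : Led Lsl_dt (LP (LK LD1_c7 LD2_c3 LD3_c60)) = (LP (LK LD1_c3 LD2_c30 LD3_c61)) :=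
  Lre_d IH (LK LD1_c7 LD2_c3 LD3_c60) (LK LD1_c3 LD2_c30 LD3_c61) Lrfl Lrfl
theorem f512367 : Led Lsl_ft (LP (LK LD1_c13 LD2_c15 LD3_c2)) = (LP (LK LD1_c7 LD2_c3 LD3_c60)) :=
  Lgr Lrot54 (Lpe (K33.f461815 IH) (Lpr_ff (K62.f512365 IH) (Lpe (f129734 IH) (Lpn (LP (LK LD1_c7 LD2_c3 LD3_c60))))))
theorem f512339 : Led Lsl_af (LP (LK LD1_c13 LD2_c15 LD3_c1)) = (LP (LK LD1_c7 LD2_c3 LD3_c60)) :=
  Lgr Lrot117 (Lpr_dt (K33.f63079 IH) (Lpr_at (K33.f512335 IH) (Lpr_dt (K33.f129701 IH) (Lpn (LP (LK LD1_c7 LD2_c3 LD3_c60))))))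
theorem f512345 : Led Lsl_ft (LP (LK LD1_c13 LD2_c15 LD3_c1)) = (LP (LK LD1_c7 LD2_c4 LD3_c1)) :=
  Lgr Lrot54 (Lpe (K33.f63059 IH) (Lpr_ff (K33.f512341 IH) (Lpe (K33.f461826 IH) (Lpn (LP (LK LD1_c7 LD2_c4 LD3_c1))))))
theorem f512369 : Led Lsl_af (LP (LK LD1_c13 LD2_c15 LD3_c2)) = (LP (LK LD1_c7 LD2_c4 LD3_c1)) :=
  Lgr Lrot45 (Lpr_ft (f512367 IH) (Lpe (f512339 IH) (Lpr_ft (f512345 IH) (Lpn (LP (LK LD1_c7 LD2_c4 LD3_c1))))))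
theorem f512392 : Led Lsl_gf (LP (LK LD1_c13 LD2_c15 LD3_c2)) = (LP (LK LD1_c7 LD2_c38 LD3_c52)) :=
  Lgr Lrot76 (Lpr_af (f512369 IH) (Lpe (f512345 IH) (Lpe (K61.f460127 IH) (Lpn (LP (LK LD1_c7 LD2_c38 LD3_c52))))))
theorem f674377 : Led Lsl_et (LP (LK LD1_c6 LD2_c58 LD3_c49)) = K49.v9210 :=
  Lgr Lrot121 (Lpr_dt (K33.f461815 IH) (Lpr_gf (f512392 IH) (Lpe (K61.f89666 IH) (Lpr_et (K48.f89665 IH) (Lpr_gf (K34.f530049 IH) (Lpe (f530048 IH) (Lpr_dt (f89210 IH) (Lpr_gf (K49.f517992 IH) (Lpr_df (K49.f664835 IH) (Lpr_gf (K49.f674357 IH) (Lpn K49.v9210)))))))))))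
theorem f512374 : Led Lsl_et (LP (LK LD1_c22 LD2_c30 LD3_c2)) = (LP (LK LD1_c13 LD2_c15 LD3_c2)) :=
  Lre_e IH (LK LD1_c22 LD2_c30 LD3_c2) (LK LD1_c13 LD2_c15 LD3_c2) Lrfl Lrfl
theorem f839352 : Led Lsl_df (LP (LK LD1_c22 LD2_c30 LD3_c2)) = v27399 :=
  Lgr Lrot70 (Lpr_et (f512374 IH) (Lpr_dt (K33.f461814 IH) (Lpr_et (f674377 IH) (Lpe (f674360 IH) (Lpr_et (f839350 IH) (Lpn v27399))))))
theorem f839356 : Led Lsl_gt (LP (LK LD1_c24 LD2_c7 LD3_c43)) = (LP (LK LD1_c22 LD2_c30 LD3_c2)) :=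
  Lgr Lrot112 (Lpe (f442249 IH) (Lpr_et (f442248 IH) (Lpe (f88317 IH) (Lpe (K2.f87833 IH) (Lpr_dt (K2.f87834 IH) (Lpe (K29.f87813 IH) (Lpe (K33.f451102 IH) (Lpr_gf (K63.f666124 IH) (Lpr_ef (f839353 IH) (Lpe (f839352 IH) (Lpn (LP (LK LD1_c22 LD2_c30 LD3_c2)))))))))))))
theorem f839357 : Led Lsl_gt (LP (LK LD1_c24 LD2_c7 LD3_c43)) = (LP (LK LD1_c22 LD2_c30 LD3_c2)) :=
  Leop (Lpe (f839356 IH) (Lpn (LP (LK LD1_c24 LD2_c7 LD3_c43))))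
theorem seed_1943 : LEOK LG_g (LK LD1_c24 LD2_c7 LD3_c43) :=
  Leoe_g (LK LD1_c24 LD2_c7 LD3_c43) (f839357 IH)
theorem f461690 : Led Lsl_dt (LP (LK LD1_c7 LD2_c40 LD3_c12)) = (LP (LK LD1_c13 LD2_c22 LD3_c58)) :=
  Lgr Lrot42 (Lpr_df (K48.f461681 IH) (Lpn (LP (LK LD1_c13 LD2_c22 LD3_c58))))
theorem f461701 : Led Lsl_gt (LP (LK LD1_c13 LD2_c22 LD3_c58)) = (LP (LK LD1_c22 LD2_c40 LD3_c37)) :=
  Lre_g IH (LK LD1_c13 LD2_c22 LD3_c58) (LK LD1_c22 LD2_c40 LD3_c37) Lrfl Lrfl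
theorem f461724 : Led Lsl_dt (LP (LK LD1_c30 LD2_c38 LD3_c56)) = (LP (LK LD1_c22 LD2_c40 LD3_c37)) :=
  Lre_d IH (LK LD1_c30 LD2_c38 LD3_c56) (LK LD1_c22 LD2_c40 LD3_c37) Lrfl Lrfl
theorem f808729 : Led Lsl_gt (LP (LK LD1_c24 LD2_c7 LD3_c42)) = (LP (LK LD1_c14 LD2_c27 LD3_c6)) :=
  Lre_g IH (LK LD1_c24 LD2_c7 LD3_c42) (LK LD1_c14 LD2_c27 LD3_c6) Lrfl Lrfl
theorem f839358 : Led Lsl_et (LP (LK LD1_c30 LD2_c38 LD3_c56)) = (LP (LK LD1_c24 LD2_c7 LD3_c42)) :=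
  Lgr Lrot121 (Lpr_dt (f461724 IH) (Lpe (f461701 IH) (Lpe (f461690 IH) (Lpr_et (K48.f461679 IH) (Lpr_gf (K63.f666124 IH) (Lpr_ef (f839353 IH) (Lpe (f839352 IH) (Lpe (f839356 IH) (Lpe (f442249 IH) (Lpe (f808729 IH) (Lpn (LP (LK LD1_c24 LD2_c7 LD3_c42)))))))))))))
theorem f839359 : Led Lsl_et (LP (LK LD1_c30 LD2_c38 LD3_c56)) = (LP (LK LD1_c24 LD2_c7 LD3_c42)) :=
  Leop (Lpe (f839358 IH) (Lpn (LP (LK LD1_c30 LD2_c38 LD3_c56))))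
theorem seed_1944 : LEOK LG_e (LK LD1_c30 LD2_c38 LD3_c56) :=
  Leoe_e (LK LD1_c30 LD2_c38 LD3_c56) (f839359 IH)
def v7570 : LQ := Led Lsl_ct (LP (LK LD1_c3 LD2_c51 LD3_c32))
theorem f666791 : Led Lsl_ct (LP (LK LD1_c3 LD2_c51 LD3_c32)) = v7570 :=
  Lrfl
def v27491 : LQ := Led Lsl_et v7570
theorem f839765 : Led Lsl_et v7570 = v27491 :=
  Lrfl
theorem f839767 : Led Lsl_ef v7570 = v27491 :=
  Lgr Lrot88 (Lpr_et (f839765 IH) (Lpn v27491))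
def v7571 : LQ := Led Lsl_et (LP (LK LD1_c3 LD2_c51 LD3_c32))
def v27493 : LQ := Led Lsl_dt v7571
theorem f839770 : Led Lsl_dt v7571 = v27493 :=
  Lrfl
theorem f666801 : Led Lsl_et (LP (LK LD1_c3 LD2_c51 LD3_c32)) = v7571 :=
  Lrfl
theorem f666803 : Led Lsl_ef (LP (LK LD1_c3 LD2_c51 LD3_c32)) = v7571 :=
  Lgr Lrot88 (Lpr_et (f666801 IH) (Lpn v7571))
theorem f530310 : Led Lsl_gt (LP (LK LD1_c3 LD2_c51 LD3_c32)) = (LP (LK LD1_c1 LD2_c52 LD3_c33)) :=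
  Lre_g IH (LK LD1_c3 LD2_c51 LD3_c32) (LK LD1_c1 LD2_c52 LD3_c33) Lrfl Lrfl
theorem f64854 : Led Lsl_dt (LP (LK LD1_c6 LD2_c38 LD3_c43)) = (LP (LK LD1_c12 LD2_c43 LD3_c5)) :=
  Lre_d IH (LK LD1_c6 LD2_c38 LD3_c43) (LK LD1_c12 LD2_c43 LD3_c5) Lrfl Lrfl
theorem f839772 : Led Lsl_gt (LP (LK LD1_c12 LD2_c43 LD3_c5)) = v27493 :=
  Lgr Lrot139 (Lpe (f64854 IH) (Lpe (K63.f64853 IH) (Lpe (K4.f64614 IH) (Lpr_dt (K1.f64251 IH) (Lpe (K1.f40583 IH) (Lpe (K1.f64605 IH) (Lpr_et (K56.f87357 IH) (Lpe (f530310 IH) (Lpr_ef (f666803 IH) (Lpr_dt (f839770 IH) (Lpn v27493)))))))))))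
theorem f88321 : Led Lsl_dt (LP (LK LD1_c14 LD2_c23 LD3_c56)) = (LP (LK LD1_c14 LD2_c13 LD3_c58)) :=
  Lgr Lrot42 (Lpr_df (K63.f88302 IH) (Lpn (LP (LK LD1_c14 LD2_c13 LD3_c58))))
theorem f839771 : Led Lsl_df v7571 = v27493 :=
  Lgr Lrot38 (Lpr_dt (f839770 IH) (Lpn v27493))
theorem f839766 : Led Lsl_cf v7571 = v27491 :=
  Lgr Lrot39 (Lpe (f666803 IH) (Lpr_ct (f666791 IH) (Lpr_et (f839765 IH) (Lpn v27491))))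
theorem f839773 : (LP (LK LD1_c14 LD2_c13 LD3_c58)) = v27491 :=
  (Llr Lrot105 (Lpe (f88321 IH) (Lpe (K63.f64852 IH) (Lpe (K63.f64851 IH) (Lpe (K52.f64850 IH) (Lpr_cf (K4.f64615 IH) (Lpr_gt (K63.f64853 IH) (Lpr_dt (f64854 IH) (Lpr_gt (f839772 IH) (Lpe (f839771 IH) (Lpr_cf (f839766 IH) (Lpn v27491)))))))))))).symm
theorem f839774 : v7570 = (LP (LK LD1_c7 LD2_c32 LD3_c54)) :=
  Lefun (Lecon (Lfl_ef (f839767 IH)) (f839773 IH).symm) (K63.f88301 IH)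
theorem f839782 : Led Lsl_ct (LP (LK LD1_c3 LD2_c51 LD3_c32)) = (LP (LK LD1_c7 LD2_c32 LD3_c54)) :=
  Leop (Lpq (f839774 IH) (Lpe (f666791 IH) (Lpn (LP (LK LD1_c3 LD2_c51 LD3_c32)))))
theorem seed_1945 : LEOK LG_c (LK LD1_c3 LD2_c51 LD3_c32) :=
  Leoe_c (LK LD1_c3 LD2_c51 LD3_c32) (f839782 IH)
theorem f804838 : Led Lsl_dt (LP (LK LD1_c14 LD2_c23 LD3_c40)) = K63.v22217 :=
  Lgr Lrot42 (Lpr_df (K63.f804837 IH) (Lpn K63.v22217))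
theorem f111692 : Led Lsl_ct (LP (LK LD1_c24 LD2_c2 LD3_c10)) = (LP (LK LD1_c14 LD2_c23 LD3_c40)) :=
  Lre_c IH (LK LD1_c24 LD2_c2 LD3_c10) (LK LD1_c14 LD2_c23 LD3_c40) Lrfl Lrfl
def v22896 : LQ := Led Lsl_ct (LP (LK LD1_c7 LD2_c44 LD3_c32))
theorem f813611 : Led Lsl_ct (LP (LK LD1_c7 LD2_c44 LD3_c32)) = v22896 :=
  Lrfl
theorem f666756 : Led Lsl_et (LP (LK LD1_c3 LD2_c51 LD3_c31)) = (LP (LK LD1_c7 LD2_c44 LD3_c32)) :=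
  Lre_e IH (LK LD1_c3 LD2_c51 LD3_c31) (LK LD1_c7 LD2_c44 LD3_c32) Lrfl Lrfl
def v7568 : LQ := Led Lsl_ct (LP (LK LD1_c3 LD2_c51 LD3_c31))
theorem f666772 : Led Lsl_ct (LP (LK LD1_c3 LD2_c51 LD3_c31)) = v7568 :=
  Lrfl
theorem f666773 : Led Lsl_cf (LP (LK LD1_c3 LD2_c51 LD3_c31)) = v7568 :=
  Lgr Lrot11 (Lpr_ct (f666772 IH) (Lpn v7568))
theorem f813613 : Led Lsl_ef v7568 = v22896 :=
  Lgr Lrot28 (Lpe (f666773 IH) (Lpr_et (f666756 IH) (Lpr_ct (f813611 IH) (Lpn v22896))))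
theorem f813614 : Led Lsl_et v7568 = v22896 :=
  Lgr Lrot87 (Lpr_ef (f813613 IH) (Lpn v22896))
def v27484 : LQ := Led Lsl_gf v7568
theorem f839744 : Led Lsl_gf v7568 = v27484 :=
  Lrfl
def v7566 : LQ := Led Lsl_at (LP (LK LD1_c3 LD2_c51 LD3_c31))
def v27477 : LQ := Led Lsl_ct v7566
theorem f839727 : Led Lsl_ct v7566 = v27477 :=
  Lrfl
theorem f666753 : Led Lsl_at (LP (LK LD1_c3 LD2_c51 LD3_c31)) = v7566 :=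
  Lrfl
theorem f839728 : Led Lsl_af v7568 = v27477 :=
  Lgr Lrot68 (Lpe (f666773 IH) (Lpr_at (f666753 IH) (Lpr_ct (f839727 IH) (Lpn v27477))))
theorem f666754 : Led Lsl_af (LP (LK LD1_c3 LD2_c51 LD3_c31)) = v7566 :=
  Lgr Lrot0 (Lpr_at (f666753 IH) (Lpn v7566))
theorem f666757 : Led Lsl_ft (LP (LK LD1_c3 LD2_c51 LD3_c32)) = v7566 :=
  Lgr Lrot2 (Lpr_gt (f530310 IH) (Lpr_gt (K56.f87358 IH) (Lpr_af (f666754 IH) (Lpn v7566))))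
theorem f666792 : Led Lsl_cf (LP (LK LD1_c3 LD2_c51 LD3_c32)) = v7570 :=
  Lgr Lrot11 (Lpr_ct (f666791 IH) (Lpn v7570))
theorem f839730 : Led Lsl_ff v7570 = v27477 :=
  Lgr Lrot23 (Lpe (f666792 IH) (Lpr_ft (f666757 IH) (Lpr_ct (f839727 IH) (Lpn v27477))))
theorem f839731 : Led Lsl_ft v7570 = v27477 :=
  Lgr Lrot48 (Lpr_ff (f839730 IH) (Lpn v27477))
theorem f839745 : Led Lsl_gt v7570 = v27484 :=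
  Lgr Lrot5 (Lpr_ft (f839731 IH) (Lpe (f839728 IH) (Lpr_gf (f839744 IH) (Lpn v27484))))
theorem f839775 : v27484 = (LP (LK LD1_c3 LD2_c46 LD3_c0)) :=
  Lefun (Lecon (f839745 IH) (f839774 IH)) (K63.f88176 IH)
theorem f839787 : v7568 = (LP (LK LD1_c7 LD2_c32 LD3_c53)) :=
  Lefun (Lecon (Lfl_gf (f839744 IH)) (f839775 IH)) (K63.f88179 IH)
theorem f839793 : v22896 = K63.v22217 :=
  Lefun (Lecon (f813614 IH) (f839787 IH)) (K63.f804835 IH)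
theorem f754766 : Led Lsl_cf (LP (LK LD1_c14 LD2_c36 LD3_c8)) = (LP (LK LD1_c7 LD2_c44 LD3_c52)) :=
  Lgr Lrot166 (Lpr_gt (K56.f754761 IH) (Lpr_dt (K56.f754760 IH) (Lpe (K56.f754758 IH) (Lpr_dt (K2.f63357 IH) (Lpr_ct (K2.f63358 IH) (Lpe (K56.f63124 IH) (Lpe (K56.f65131 IH) (Lpe (K1.f65128 IH) (Lpe (K56.f443242 IH) (Lpn (LP (LK LD1_c7 LD2_c44 LD3_c52))))))))))))
theorem f839794 : Led Lsl_gf (LP (LK LD1_c24 LD2_c2 LD3_c10)) = (LP (LK LD1_c22 LD2_c37 LD3_c25)) :=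
  Lgr Lrot172 (Lpr_ct (f111692 IH) (Lpr_dt (f804838 IH) (Lpq (f839793 IH) (Lpe (f813611 IH) (Lpe (K56.f754761 IH) (Lpr_cf (f754766 IH) (Lpe (K63.f811402 IH) (Lpr_dt (K63.f811392 IH) (Lpe (K63.f63541 IH) (Lpr_ct (K3.f63371 IH) (Lpn (LP (LK LD1_c22 LD2_c37 LD3_c25)))))))))))))
theorem f839795 : Led Lsl_gt (LP (LK LD1_c22 LD2_c37 LD3_c25)) = (LP (LK LD1_c24 LD2_c2 LD3_c10)) :=
  Leop (Lpr_gf (f839794 IH) (Lpn (LP (LK LD1_c22 LD2_c37 LD3_c25))))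
theorem seed_1946 : LEOK LG_g (LK LD1_c22 LD2_c37 LD3_c25) :=
  Leoe_g (LK LD1_c22 LD2_c37 LD3_c25) (f839795 IH)
def v22524 : LQ := Led Lsl_ct (LP (LK LD1_c7 LD2_c38 LD3_c18))
theorem f807487 : Led Lsl_ct (LP (LK LD1_c7 LD2_c38 LD3_c18)) = v22524 :=
  Lrfl
def v22523 : LQ := Led Lsl_at (LP (LK LD1_c7 LD2_c38 LD3_c18))
theorem f807481 : Led Lsl_at (LP (LK LD1_c7 LD2_c38 LD3_c18)) = v22523 :=
  Lrfl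
theorem f807482 : Led Lsl_af (LP (LK LD1_c7 LD2_c38 LD3_c18)) = v22523 :=
  Lgr Lrot0 (Lpr_at (f807481 IH) (Lpn v22523))
theorem f89328 : Led Lsl_gt (LP (LK LD1_c7 LD2_c38 LD3_c19)) = (LP (LK LD1_c3 LD2_c48 LD3_c39)) :=
  Lre_g IH (LK LD1_c7 LD2_c38 LD3_c19) (LK LD1_c3 LD2_c48 LD3_c39) Lrfl Lrfl
theorem f807484 : Led Lsl_ft (LP (LK LD1_c7 LD2_c38 LD3_c19)) = v22523 :=
  Lgr Lrot2 (Lpr_gt (f89328 IH) (Lpr_gt (K52.f89332 IH) (Lpr_af (f807482 IH) (Lpn v22523))))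
theorem f807485 : Led Lsl_ff (LP (LK LD1_c7 LD2_c38 LD3_c19)) = v22523 :=
  Lgr Lrot3 (Lpr_ft (f807484 IH) (Lpn v22523))
def v22527 : LQ := Led Lsl_ct (LP (LK LD1_c7 LD2_c38 LD3_c19))
theorem f807495 : Led Lsl_ct (LP (LK LD1_c7 LD2_c38 LD3_c19)) = v22527 :=
  Lrfl
theorem f839796 : Led Lsl_gt (LP (LK LD1_c24 LD2_c2 LD3_c10)) = (LP (LK LD1_c14 LD2_c29 LD3_c61)) :=
  Lgr Lrot46 (Lpr_gf (f839794 IH) (Lpr_ft (K2.f63350 IH) (Lpr_at (K2.f63333 IH) (Lpn (LP (LK LD1_c14 LD2_c29 LD3_c61))))))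
theorem f111690 : Led Lsl_ct (LP (LK LD1_c14 LD2_c23 LD3_c40)) = (LP (LK LD1_c24 LD2_c2 LD3_c10)) :=
  Lre_c IH (LK LD1_c14 LD2_c23 LD3_c40) (LK LD1_c24 LD2_c2 LD3_c10) Lrfl Lrfl
theorem f111656 : Led Lsl_at (LP (LK LD1_c3 LD2_c45 LD3_c49)) = (LP (LK LD1_c3 LD2_c48 LD3_c39)) :=
  Lgr Lrot100 (Lpr_af (K4.f111650 IH) (Lpn (LP (LK LD1_c3 LD2_c48 LD3_c39))))
theorem f441273 : Led Lsl_gt (LP (LK LD1_c7 LD2_c32 LD3_c22)) = (LP (LK LD1_c7 LD2_c38 LD3_c19)) :=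
  Lgr Lrot5 (Lpr_ft (K4.f109258 IH) (Lpr_at (f111656 IH) (Lpe (f89328 IH) (Lpn (LP (LK LD1_c7 LD2_c38 LD3_c19))))))
theorem f63384 : Led Lsl_gt (LP (LK LD1_c6 LD2_c11 LD3_c2)) = (LP (LK LD1_c3 LD2_c2 LD3_c8)) :=
  Lre_g IH (LK LD1_c6 LD2_c11 LD3_c2) (LK LD1_c3 LD2_c2 LD3_c8) Lrfl Lrfl
theorem f839798 : v22527 = (LP (LK LD1_c6 LD2_c11 LD3_c2)) :=
  (Llr Lrot152 (Lpe (f807495 IH) (Lpe (f441273 IH) (Lpe (f111647 IH) (Lpr_gt (K63.f111685 IH) (Lpr_ct (f111690 IH) (Lpr_gt (f839796 IH) (Lpr_ct (K2.f63313 IH) (Lpe (K2.f63182 IH) (Lpe (K2.f63358 IH) (Lpe (f63384 IH) (Lpn (LP (LK LD1_c6 LD2_c11 LD3_c2)))))))))))))).symm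
def v17049 : LQ := Led Lsl_at (LP (LK LD1_c6 LD2_c11 LD3_c1))
theorem f754735 : Led Lsl_at (LP (LK LD1_c6 LD2_c11 LD3_c1)) = v17049 :=
  Lrfl
theorem f754736 : Led Lsl_af (LP (LK LD1_c6 LD2_c11 LD3_c1)) = v17049 :=
  Lgr Lrot0 (Lpr_at (f754735 IH) (Lpn v17049))
theorem f63382 : Led Lsl_gt (LP (LK LD1_c3 LD2_c2 LD3_c8)) = (LP (LK LD1_c6 LD2_c11 LD3_c1)) :=
  Lre_g IH (LK LD1_c3 LD2_c2 LD3_c8) (LK LD1_c6 LD2_c11 LD3_c1) Lrfl Lrfl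
theorem f754737 : Led Lsl_ft (LP (LK LD1_c6 LD2_c11 LD3_c2)) = v17049 :=
  Lgr Lrot2 (Lpr_gt (f63384 IH) (Lpr_gt (f63382 IH) (Lpr_af (f754736 IH) (Lpn v17049))))
theorem f839802 : Led Lsl_cf v22523 = v17049 :=
  Lgr Lrot108 (Lpe (f807485 IH) (Lpr_ct (f807495 IH) (Lpqs (f839798 IH) (Lpr_ft (f754737 IH) (Lpn v17049)))))
theorem f839804 : v22524 = (LP (LK LD1_c6 LD2_c11 LD3_c1)) :=
  (Llr Lrot111 (Lpe (f807487 IH) (Lpr_af (f807482 IH) (Lpr_cf (f839802 IH) (Lpe (f754735 IH) (Lpn (LP (LK LD1_c6 LD2_c11 LD3_c1)))))))).symm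
theorem f839806 : Led Lsl_ct (LP (LK LD1_c7 LD2_c38 LD3_c18)) = (LP (LK LD1_c6 LD2_c11 LD3_c1)) :=
  Leop (Lpq (f839804 IH) (Lpe (f807487 IH) (Lpn (LP (LK LD1_c7 LD2_c38 LD3_c18)))))
theorem seed_1947 : LEOK LG_c (LK LD1_c7 LD2_c38 LD3_c18) :=
  Leoe_c (LK LD1_c7 LD2_c38 LD3_c18) (f839806 IH)
theorem f63403 : Led Lsl_gt (LP (LK LD1_c6 LD2_c11 LD3_c1)) = (LP (LK LD1_c12 LD2_c1 LD3_c20)) :=
  Lre_g IH (LK LD1_c6 LD2_c11 LD3_c1) (LK LD1_c12 LD2_c1 LD3_c20) Lrfl Lrfl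
theorem f63373 : Led Lsl_ct (LP (LK LD1_c12 LD2_c1 LD3_c20)) = (LP (LK LD1_c7 LD2_c2 LD3_c21)) :=
  Lre_c IH (LK LD1_c12 LD2_c1 LD3_c20) (LK LD1_c7 LD2_c2 LD3_c21) Lrfl Lrfl
theorem f441282 : Led Lsl_ct (LP (LK LD1_c14 LD2_c23 LD3_c39)) = (LP (LK LD1_c24 LD2_c2 LD3_c8)) :=
  Lre_c IH (LK LD1_c14 LD2_c23 LD3_c39) (LK LD1_c24 LD2_c2 LD3_c8) Lrfl Lrfl
theorem f839836 : Led Lsl_gf (LP (LK LD1_c22 LD2_c37 LD3_c25)) = (LP (LK LD1_c24 LD2_c2 LD3_c8)) :=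
  Lgr Lrot104 (Lpr_ct (K63.f63528 IH) (Lpe (K1.f63372 IH) (Lpe (f63373 IH) (Lpe (f63403 IH) (Lpq (f839804 IH) (Lpe (f807487 IH) (Lpe (K52.f89332 IH) (Lpe (K4.f89319 IH) (Lpr_gt (f89360 IH) (Lpr_ct (f441282 IH) (Lpn (LP (LK LD1_c24 LD2_c2 LD3_c8)))))))))))))
def v20209 : LQ := Led Lsl_ft (LP (LK LD1_c6 LD2_c51 LD3_c57))
theorem f785626 : Led Lsl_ft (LP (LK LD1_c6 LD2_c51 LD3_c57)) = v20209 :=
  Lrfl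
theorem f785629 : Led Lsl_ff (LP (LK LD1_c6 LD2_c51 LD3_c57)) = v20209 :=
  Lgr Lrot3 (Lpr_ft (f785626 IH) (Lpn v20209))
theorem f785630 : Led Lsl_bt (LP (LK LD1_c13 LD2_c20 LD3_c58)) = v20209 :=
  Lgr Lrot35 (Lpe (K63.f18330 IH) (Lpr_bf (K2.f18312 IH) (Lpr_ff (f785629 IH) (Lpn v20209))))
theorem f19101 : Led Lsl_at (LP (LK LD1_c6 LD2_c51 LD3_c57)) = (LP (LK LD1_c13 LD2_c2 LD3_c53)) :=
  Lre_a IH (LK LD1_c6 LD2_c51 LD3_c57) (LK LD1_c13 LD2_c2 LD3_c53) Lrfl Lrfl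
theorem f64399 : Led Lsl_et (LP (LK LD1_c6 LD2_c51 LD3_c34)) = (LP (LK LD1_c3 LD2_c24 LD3_c28)) :=
  Lre_e IH (LK LD1_c6 LD2_c51 LD3_c34) (LK LD1_c3 LD2_c24 LD3_c28) Lrfl Lrfl
theorem f64400 : Led Lsl_dt (LP (LK LD1_c6 LD2_c51 LD3_c34)) = (LP (LK LD1_c13 LD2_c2 LD3_c53)) :=
  Lre_d IH (LK LD1_c6 LD2_c51 LD3_c34) (LK LD1_c13 LD2_c2 LD3_c53) Lrfl Lrfl
theorem f11861 : Led Lsl_et (LP (LK LD1_c0 LD2_c52 LD3_c55)) = (LP (LK LD1_c1 LD2_c52 LD3_c23)) :=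
  Lre_e IH (LK LD1_c0 LD2_c52 LD3_c55) (LK LD1_c1 LD2_c52 LD3_c23) Lrfl Lrfl
theorem f11870 : Led Lsl_et (LP (LK LD1_c7 LD2_c43 LD3_c20)) = (LP (LK LD1_c3 LD2_c51 LD3_c1)) :=
  Lre_e IH (LK LD1_c7 LD2_c43 LD3_c20) (LK LD1_c3 LD2_c51 LD3_c1) Lrfl Lrfl
theorem f11871 : Led Lsl_dt (LP (LK LD1_c7 LD2_c43 LD3_c20)) = (LP (LK LD1_c14 LD2_c33 LD3_c28)) :=
  Lre_d IH (LK LD1_c7 LD2_c43 LD3_c20) (LK LD1_c14 LD2_c33 LD3_c28) Lrfl Lrfl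
theorem f97561 : Led Lsl_gf (LP (LK LD1_c13 LD2_c2 LD3_c53)) = (LP (LK LD1_c14 LD2_c33 LD3_c28)) :=
  Lgr Lrot145 (Lpe (f64400 IH) (Lpr_et (f64399 IH) (Lpr_gt (K3.f97549 IH) (Lpr_dt (K3.f11837 IH) (Lpe (K0.f11521 IH) (Lpe (K3.f11516 IH) (Lpr_et (f11861 IH) (Lpr_gt (K63.f11862 IH) (Lpe (f11870 IH) (Lpr_dt (f11871 IH) (Lpn (LP (LK LD1_c14 LD2_c33 LD3_c28)))))))))))))
theorem f785632 : Led Lsl_gf (LP (LK LD1_c14 LD2_c33 LD3_c28)) = v20209 :=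
  Lgr Lrot47 (Lpe (f97561 IH) (Lpe (f19101 IH) (Lpr_ff (f785629 IH) (Lpn v20209))))
theorem f97567 : Led Lsl_bt (LP (LK LD1_c24 LD2_c15 LD3_c39)) = (LP (LK LD1_c14 LD2_c33 LD3_c28)) :=
  Lre_b IH (LK LD1_c24 LD2_c15 LD3_c39) (LK LD1_c14 LD2_c33 LD3_c28) Lrfl Lrfl
theorem f89551 : Led Lsl_bt (LP (LK LD1_c14 LD2_c23 LD3_c32)) = (LP (LK LD1_c7 LD2_c38 LD3_c20)) :=
  Lre_b IH (LK LD1_c14 LD2_c23 LD3_c32) (LK LD1_c7 LD2_c38 LD3_c20) Lrfl Lrfl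
theorem f89602 : Led Lsl_gt (LP (LK LD1_c31 LD2_c20 LD3_c4)) = (LP (LK LD1_c24 LD2_c1 LD3_c61)) :=
  Lre_g IH (LK LD1_c31 LD2_c20 LD3_c4) (LK LD1_c24 LD2_c1 LD3_c61) Lrfl Lrfl
theorem f839840 : Led Lsl_ct (LP (LK LD1_c24 LD2_c15 LD3_c39)) = (LP (LK LD1_c31 LD2_c20 LD3_c4)) :=
  Lgr Lrot64 (Lpr_bt (f97567 IH) (Lpr_gf (f785632 IH) (Lpe (f785630 IH) (Lpr_ct (K3.f63371 IH) (Lpr_gf (f839836 IH) (Lpe (f441282 IH) (Lpe (f89360 IH) (Lpe (f89551 IH) (Lpr_ct (K41.f89552 IH) (Lpe (f89602 IH) (Lpn (LP (LK LD1_c31 LD2_c20 LD3_c4)))))))))))))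
theorem f839841 : Led Lsl_ct (LP (LK LD1_c24 LD2_c15 LD3_c39)) = (LP (LK LD1_c31 LD2_c20 LD3_c4)) :=
  Leop (Lpe (f839840 IH) (Lpn (LP (LK LD1_c24 LD2_c15 LD3_c39))))
theorem seed_1948 : LEOK LG_c (LK LD1_c24 LD2_c15 LD3_c39) :=
  Leoe_c (LK LD1_c24 LD2_c15 LD3_c39) (f839841 IH)
theorem f807496 : Led Lsl_cf (LP (LK LD1_c7 LD2_c38 LD3_c19)) = v22527 :=
  Lgr Lrot11 (Lpr_ct (f807495 IH) (Lpn v22527))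
theorem f443626 : Led Lsl_gt (LP (LK LD1_c6 LD2_c11 LD3_c3)) = (LP (LK LD1_c12 LD2_c2 LD3_c32)) :=
  Lre_g IH (LK LD1_c6 LD2_c11 LD3_c3) (LK LD1_c12 LD2_c2 LD3_c32) Lrfl Lrfl
theorem f646581 : Led Lsl_dt (LP (LK LD1_c12 LD2_c2 LD3_c32)) = (LP (LK LD1_c21 LD2_c7 LD3_c55)) :=
  Lre_d IH (LK LD1_c12 LD2_c2 LD3_c32) (LK LD1_c21 LD2_c7 LD3_c55) Lrfl Lrfl
theorem f89309 : Led Lsl_dt (LP (LK LD1_c3 LD2_c48 LD3_c39)) = (LP (LK LD1_c7 LD2_c38 LD3_c20)) :=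
  Lre_d IH (LK LD1_c3 LD2_c48 LD3_c39) (LK LD1_c7 LD2_c38 LD3_c20) Lrfl Lrfl
theorem f838578 : Led Lsl_dt (LP (LK LD1_c14 LD2_c23 LD3_c39)) = (LP (LK LD1_c14 LD2_c16 LD3_c57)) :=
  Lgr Lrot42 (Lpr_df (f838575 IH) (Lpn (LP (LK LD1_c14 LD2_c16 LD3_c57))))
theorem f839859 : Led Lsl_cf (LP (LK LD1_c21 LD2_c7 LD3_c55)) = (LP (LK LD1_c14 LD2_c16 LD3_c57)) :=
  Lgr Lrot14 (Lpe (f646581 IH) (Lpe (f443626 IH) (Lpe (K56.f63523 IH) (Lpe (f63384 IH) (Lpq (f839798 IH) (Lpe (f807496 IH) (Lpr_gt (f89328 IH) (Lpr_dt (f89309 IH) (Lpr_gt (f89360 IH) (Lpr_dt (f838578 IH) (Lpn (LP (LK LD1_c14 LD2_c16 LD3_c57)))))))))))))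
theorem f839861 : Led Lsl_ct (LP (LK LD1_c21 LD2_c7 LD3_c55)) = (LP (LK LD1_c14 LD2_c16 LD3_c57)) :=
  Lgr Lrot59 (Lpr_cf (f839859 IH) (Lpn (LP (LK LD1_c14 LD2_c16 LD3_c57))))
theorem f441281 : Led Lsl_ct (LP (LK LD1_c24 LD2_c2 LD3_c8)) = (LP (LK LD1_c14 LD2_c23 LD3_c39)) :=
  Lre_c IH (LK LD1_c24 LD2_c2 LD3_c8) (LK LD1_c14 LD2_c23 LD3_c39) Lrfl Lrfl
theorem f63329 : Led Lsl_ft (LP (LK LD1_c14 LD2_c29 LD3_c61)) = (LP (LK LD1_c24 LD2_c11 LD3_c6)) :=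
  Lre_f IH (LK LD1_c14 LD2_c29 LD3_c61) (LK LD1_c24 LD2_c11 LD3_c6) Lrfl Lrfl
theorem f63351 : Led Lsl_af (LP (LK LD1_c22 LD2_c37 LD3_c25)) = (LP (LK LD1_c24 LD2_c11 LD3_c6)) :=
  Lgr Lrot45 (Lpr_ft (K2.f63350 IH) (Lpr_at (K2.f63333 IH) (Lpr_ft (f63329 IH) (Lpn (LP (LK LD1_c24 LD2_c11 LD3_c6))))))
theorem f839838 : Led Lsl_gt (LP (LK LD1_c14 LD2_c29 LD3_c61)) = (LP (LK LD1_c24 LD2_c2 LD3_c8)) :=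
  Lgr Lrot5 (Lpr_ft (f63329 IH) (Lpe (f63351 IH) (Lpr_gf (f839836 IH) (Lpn (LP (LK LD1_c24 LD2_c2 LD3_c8))))))
theorem f441868 : Led Lsl_et (LP (LK LD1_c12 LD2_c45 LD3_c6)) = (LP (LK LD1_c6 LD2_c39 LD3_c37)) :=
  Lre_e IH (LK LD1_c12 LD2_c45 LD3_c6) (LK LD1_c6 LD2_c39 LD3_c37) Lrfl Lrfl
theorem f419260 : Led Lsl_gt (LP (LK LD1_c4 LD2_c45 LD3_c20)) = (LP (LK LD1_c9 LD2_c23 LD3_c24)) :=
  Lre_g IH (LK LD1_c4 LD2_c45 LD3_c20) (LK LD1_c9 LD2_c23 LD3_c24) Lrfl Lrfl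
theorem f654165 : Led Lsl_ct (LP (LK LD1_c17 LD2_c20 LD3_c0)) = (LP (LK LD1_c9 LD2_c23 LD3_c24)) :=
  Lre_c IH (LK LD1_c17 LD2_c20 LD3_c0) (LK LD1_c9 LD2_c23 LD3_c24) Lrfl Lrfl
theorem f674191 : Led Lsl_ct (LP (LK LD1_c9 LD2_c23 LD3_c24)) = (LP (LK LD1_c17 LD2_c20 LD3_c0)) :=
  Lre_c IH (LK LD1_c9 LD2_c23 LD3_c24) (LK LD1_c17 LD2_c20 LD3_c0) Lrfl Lrfl
theorem f443236 : Led Lsl_ct (LP (LK LD1_c7 LD2_c34 LD3_c9)) = (LP (LK LD1_c14 LD2_c16 LD3_c16)) :=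
  Lre_c IH (LK LD1_c7 LD2_c34 LD3_c9) (LK LD1_c14 LD2_c16 LD3_c16) Lrfl Lrfl
theorem f443234 : Led Lsl_bt (LP (LK LD1_c14 LD2_c16 LD3_c15)) = (LP (LK LD1_c7 LD2_c34 LD3_c9)) :=
  Lre_b IH (LK LD1_c14 LD2_c16 LD3_c15) (LK LD1_c7 LD2_c34 LD3_c9) Lrfl Lrfl
theorem f708610 : Led Lsl_ct (LP (LK LD1_c23 LD2_c53 LD3_c6)) = (LP (LK LD1_c14 LD2_c16 LD3_c15)) :=
  Lre_c IH (LK LD1_c23 LD2_c53 LD3_c6) (LK LD1_c14 LD2_c16 LD3_c15) Lrfl Lrfl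
theorem f708611 : Led Lsl_bt (LP (LK LD1_c17 LD2_c20 LD3_c0)) = (LP (LK LD1_c23 LD2_c53 LD3_c6)) :=
  Lgr Lrot128 (Lpe (f674191 IH) (Lpr_bf (K60.f708606 IH) (Lpe (f443236 IH) (Lpe (f443234 IH) (Lpe (f708610 IH) (Lpn (LP (LK LD1_c23 LD2_c53 LD3_c6))))))))
theorem f712775 : Led Lsl_gf (LP (LK LD1_c21 LD2_c44 LD3_c57)) = (LP (LK LD1_c23 LD2_c53 LD3_c6)) :=
  Lgr Lrot181 (Lpe (K54.f712765 IH) (Lpe (K54.f712128 IH) (Lpr_cf (K54.f712767 IH) (Lpr_bt (K54.f624406 IH) (Lpr_gt (K46.f443304 IH) (Lpe (K46.f414295 IH) (Lpr_ct (K46.f414296 IH) (Lpr_gt (f419260 IH) (Lpe (f654165 IH) (Lpr_bt (f708611 IH) (Lpn (LP (LK LD1_c23 LD2_c53 LD3_c6)))))))))))))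
theorem f712750 : Led Lsl_ct (LP (LK LD1_c13 LD2_c19 LD3_c16)) = (LP (LK LD1_c21 LD2_c44 LD3_c57)) :=
  Lgr Lrot111 (Lpr_af (K51.f707444 IH) (Lpe (K51.f652820 IH) (Lpr_af (K54.f712746 IH) (Lpn (LP (LK LD1_c21 LD2_c44 LD3_c57))))))
theorem f96279 : Led Lsl_bt (LP (LK LD1_c13 LD2_c19 LD3_c16)) = (LP (LK LD1_c7 LD2_c1 LD3_c30)) :=
  Lre_b IH (LK LD1_c13 LD2_c19 LD3_c16) (LK LD1_c7 LD2_c1 LD3_c30) Lrfl Lrfl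
def v7564 : LQ := Led Lsl_ct (LP (LK LD1_c3 LD2_c51 LD3_c24))
theorem f666743 : Led Lsl_ct (LP (LK LD1_c3 LD2_c51 LD3_c24)) = v7564 :=
  Lrfl
theorem f443235 : Led Lsl_ct (LP (LK LD1_c14 LD2_c16 LD3_c15)) = (LP (LK LD1_c23 LD2_c53 LD3_c6)) :=
  Lre_c IH (LK LD1_c14 LD2_c16 LD3_c15) (LK LD1_c23 LD2_c53 LD3_c6) Lrfl Lrfl
theorem f136024 : Led Lsl_gt (LP (LK LD1_c6 LD2_c39 LD3_c37)) = (LP (LK LD1_c3 LD2_c17 LD3_c59)) :=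
  Lre_g IH (LK LD1_c6 LD2_c39 LD3_c37) (LK LD1_c3 LD2_c17 LD3_c59) Lrfl Lrfl
theorem f712779 : v7564 = (LP (LK LD1_c6 LD2_c39 LD3_c37)) :=
  (Llr Lrot91 (Lpe (f666743 IH) (Lpe (K63.f439926 IH) (Lpe (f96279 IH) (Lpr_ct (f712750 IH) (Lpr_gf (f712775 IH) (Lpe (f443235 IH) (Lpr_bt (f443234 IH) (Lpe (K60.f136021 IH) (Lpe (K4.f105548 IH) (Lpe (K3.f65232 IH) (Lpe (f136024 IH) (Lpn (LP (LK LD1_c6 LD2_c39 LD3_c37))))))))))))))).symm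
theorem f666744 : Led Lsl_cf (LP (LK LD1_c3 LD2_c51 LD3_c24)) = v7564 :=
  Lgr Lrot11 (Lpr_ct (f666743 IH) (Lpn v7564))
theorem f712783 : Led Lsl_cf (LP (LK LD1_c12 LD2_c45 LD3_c6)) = (LP (LK LD1_c7 LD2_c44 LD3_c17)) :=
  Lgr Lrot39 (Lpr_et (f441868 IH) (Lpq (f712779 IH) (Lpe (f666744 IH) (Lpr_et (K63.f666732 IH) (Lpn (LP (LK LD1_c7 LD2_c44 LD3_c17)))))))
theorem f839864 : Led Lsl_gf (LP (LK LD1_c21 LD2_c7 LD3_c55)) = (LP (LK LD1_c12 LD2_c45 LD3_c6)) :=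
  Lgr Lrot104 (Lpr_ct (f839861 IH) (Lpe (f838578 IH) (Lpe (f441281 IH) (Lpe (f839838 IH) (Lpe (K2.f63340 IH) (Lpe (K56.f65131 IH) (Lpe (K1.f65128 IH) (Lpr_gt (K63.f667040 IH) (Lpq (K63.f812473 IH) (Lpe (f712783 IH) (Lpn (LP (LK LD1_c12 LD2_c45 LD3_c6)))))))))))))
theorem f436674 : Led Lsl_ft (LP (LK LD1_c3 LD2_c51 LD3_c22)) = (LP (LK LD1_c7 LD2_c44 LD3_c13)) :=
  Lre_f IH (LK LD1_c3 LD2_c51 LD3_c22) (LK LD1_c7 LD2_c44 LD3_c13) Lrfl Lrfl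
theorem f640505 : Led Lsl_ct (LP (LK LD1_c7 LD2_c44 LD3_c13)) = K52.v4831 :=
  Lgr Lrot40 (Lpe (f436674 IH) (Lpr_cf (K51.f436669 IH) (Lpr_ff (K52.f640504 IH) (Lpn K52.v4831))))
theorem f414798 : Led Lsl_ct (LP (LK LD1_c4 LD2_c49 LD3_c44)) = (LP (LK LD1_c2 LD2_c22 LD3_c39)) :=
  Lre_c IH (LK LD1_c4 LD2_c49 LD3_c44) (LK LD1_c2 LD2_c22 LD3_c39) Lrfl Lrfl
def v4497 : LQ := Led Lsl_gf (LP (LK LD1_c2 LD2_c22 LD3_c37))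
theorem f634239 : Led Lsl_gf (LP (LK LD1_c2 LD2_c22 LD3_c37)) = v4497 :=
  Lrfl
theorem f708440 : (LP (LK LD1_c4 LD2_c47 LD3_c48)) = v4497 :=
  Lefun (Lecon (Lfl_gt (K51.f704649 IH)) (K51.f708438 IH)) (f634239 IH)
theorem f87866 : Led Lsl_gt (LP (LK LD1_c12 LD2_c2 LD3_c4)) = (LP (LK LD1_c6 LD2_c10 LD3_c48)) :=
  Lre_g IH (LK LD1_c12 LD2_c2 LD3_c4) (LK LD1_c6 LD2_c10 LD3_c48) Lrfl Lrfl
theorem f65744 : Led Lsl_bt (LP (LK LD1_c7 LD2_c44 LD3_c13)) = (LP (LK LD1_c3 LD2_c51 LD3_c26)) :=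
  Lre_b IH (LK LD1_c7 LD2_c44 LD3_c13) (LK LD1_c3 LD2_c51 LD3_c26) Lrfl Lrfl
theorem f714816 : Led Lsl_cf (LP (LK LD1_c12 LD2_c2 LD3_c4)) = (LP (LK LD1_c7 LD2_c1 LD3_c28)) :=
  Lgr Lrot125 (Lpr_gt (f87866 IH) (Lpe (K3.f87851 IH) (Lpe (K4.f120591 IH) (Lpqs (f708440 IH) (Lpe (f634239 IH) (Lpe (K24.f416187 IH) (Lpr_ct (f414798 IH) (Lpr_gt (K52.f416235 IH) (Lpq (K52.f710129 IH) (Lpe (f640505 IH) (Lpr_bt (f65744 IH) (Lpe (K63.f439911 IH) (Lpn (LP (LK LD1_c7 LD2_c1 LD3_c28)))))))))))))))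
theorem f714821 : Led Lsl_et (LP (LK LD1_c12 LD2_c2 LD3_c4)) = (LP (LK LD1_c21 LD2_c7 LD3_c28)) :=
  Lre_e IH (LK LD1_c12 LD2_c2 LD3_c4) (LK LD1_c21 LD2_c7 LD3_c28) Lrfl Lrfl
theorem f63162 : Led Lsl_et (LP (LK LD1_c13 LD2_c19 LD3_c29)) = (LP (LK LD1_c7 LD2_c1 LD3_c28)) :=
  Lre_e IH (LK LD1_c13 LD2_c19 LD3_c29) (LK LD1_c7 LD2_c1 LD3_c28) Lrfl Lrfl
theorem f714822 : Led Lsl_ct (LP (LK LD1_c21 LD2_c7 LD3_c28)) = (LP (LK LD1_c13 LD2_c19 LD3_c29)) :=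
  Lgr Lrot15 (Lpe (f714821 IH) (Lpr_cf (f714816 IH) (Lpe (f63162 IH) (Lpn (LP (LK LD1_c13 LD2_c19 LD3_c29))))))
theorem f714847 : Led Lsl_cf (LP (LK LD1_c21 LD2_c7 LD3_c28)) = (LP (LK LD1_c13 LD2_c19 LD3_c29)) :=
  Lgr Lrot11 (Lpr_ct (f714822 IH) (Lpn (LP (LK LD1_c13 LD2_c19 LD3_c29))))
theorem f813079 : Led Lsl_ff (LP (LK LD1_c14 LD2_c36 LD3_c8)) = (LP (LK LD1_c21 LD2_c7 LD3_c28)) :=
  Lgr Lrot23 (Lpr_ct (K56.f754764 IH) (Lpr_ft (K63.f812832 IH) (Lpq (K63.f812918 IH) (Lpq (K63.f812652 IH) (Lpe (f714847 IH) (Lpn (LP (LK LD1_c21 LD2_c7 LD3_c28))))))))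
theorem f813408 : Led Lsl_ft (LP (LK LD1_c14 LD2_c36 LD3_c8)) = (LP (LK LD1_c21 LD2_c7 LD3_c28)) :=
  Lgr Lrot48 (Lpr_ff (f813079 IH) (Lpn (LP (LK LD1_c21 LD2_c7 LD3_c28))))
theorem f105349 : Led Lsl_et (LP (LK LD1_c21 LD2_c7 LD3_c28)) = (LP (LK LD1_c12 LD2_c2 LD3_c4)) :=
  Lre_e IH (LK LD1_c21 LD2_c7 LD3_c28) (LK LD1_c12 LD2_c2 LD3_c4) Lrfl Lrfl
def v19192 : LQ := Led Lsl_ft (LP (LK LD1_c6 LD2_c39 LD3_c36))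
theorem f778399 : Led Lsl_ft (LP (LK LD1_c6 LD2_c39 LD3_c36)) = v19192 :=
  Lrfl
theorem f778402 : Led Lsl_ff (LP (LK LD1_c6 LD2_c39 LD3_c36)) = v19192 :=
  Lgr Lrot3 (Lpr_ft (f778399 IH) (Lpn v19192))
def v7561 : LQ := Led Lsl_ct (LP (LK LD1_c3 LD2_c51 LD3_c23))
theorem f666735 : Led Lsl_ct (LP (LK LD1_c3 LD2_c51 LD3_c23)) = v7561 :=
  Lrfl
theorem f140074 : Led Lsl_bt (LP (LK LD1_c6 LD2_c46 LD3_c61)) = (LP (LK LD1_c3 LD2_c21 LD3_c42)) :=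
  Lre_b IH (LK LD1_c6 LD2_c46 LD3_c61) (LK LD1_c3 LD2_c21 LD3_c42) Lrfl Lrfl
theorem f658415 : Led Lsl_cf (LP (LK LD1_c12 LD2_c2 LD3_c6)) = K51.v6781 :=
  Lgr Lrot108 (Lpr_ft (K3.f87870 IH) (Lpe (K3.f87854 IH) (Lpr_ft (K51.f658413 IH) (Lpn K51.v6781))))
theorem f105331 : Led Lsl_at (LP (LK LD1_c6 LD2_c39 LD3_c39)) = (LP (LK LD1_c12 LD2_c2 LD3_c6)) :=
  Lgr Lrot100 (Lpr_af (K3.f105326 IH) (Lpn (LP (LK LD1_c12 LD2_c2 LD3_c6))))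
theorem f105330 : Led Lsl_ft (LP (LK LD1_c3 LD2_c17 LD3_c59)) = (LP (LK LD1_c6 LD2_c39 LD3_c39)) :=
  Lre_f IH (LK LD1_c3 LD2_c17 LD3_c59) (LK LD1_c6 LD2_c39 LD3_c39) Lrfl Lrfl
theorem f113028 : Led Lsl_gt (LP (LK LD1_c3 LD2_c17 LD3_c59)) = (LP (LK LD1_c6 LD2_c39 LD3_c36)) :=
  Lre_g IH (LK LD1_c3 LD2_c17 LD3_c59) (LK LD1_c6 LD2_c39 LD3_c36) Lrfl Lrfl
theorem f441873 : Led Lsl_gt (LP (LK LD1_c6 LD2_c39 LD3_c36)) = (LP (LK LD1_c12 LD2_c2 LD3_c6)) :=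
  Lgr Lrot46 (Lpe (f113028 IH) (Lpr_ft (f105330 IH) (Lpr_at (f105331 IH) (Lpn (LP (LK LD1_c12 LD2_c2 LD3_c6))))))
theorem f714785 : v7561 = (LP (LK LD1_c6 LD2_c39 LD3_c36)) :=
  (Llr Lrot91 (Lpe (f666735 IH) (Lpe (K52.f65729 IH) (Lpe (K51.f65758 IH) (Lpe (K51.f136240 IH) (Lpr_gf (K52.f640497 IH) (Lpq (K52.f707381 IH) (Lpe (K32.f141109 IH) (Lpr_bt (K51.f454316 IH) (Lpe (K46.f140062 IH) (Lpe (f140074 IH) (Lpq (K61.f707524 IH) (Lpe (f658415 IH) (Lpe (f441873 IH) (Lpn (LP (LK LD1_c6 LD2_c39 LD3_c36))))))))))))))))).symm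
theorem f666736 : Led Lsl_cf (LP (LK LD1_c3 LD2_c51 LD3_c23)) = v7561 :=
  Lgr Lrot11 (Lpr_ct (f666735 IH) (Lpn v7561))
theorem f778404 : Led Lsl_ct K63.v7562 = v19192 :=
  Lgr Lrot40 (Lpe (K63.f666737 IH) (Lpr_cf (f666736 IH) (Lpqs (f714785 IH) (Lpr_ff (f778402 IH) (Lpn v19192)))))
theorem f812923 : K63.v7562 = (LP (LK LD1_c7 LD2_c1 LD3_c28)) :=
  Lefun (Lecon (Lfl_ef (K63.f812830 IH)) ((K63.f812918 IH).symm.trans (K63.f812652 IH).symm)) (f63162 IH)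
theorem f812928 : v19192 = (LP (LK LD1_c12 LD2_c2 LD3_c4)) :=
  Lefun (Lecon (f778404 IH) (f812923 IH)) (Lfl_cf (f714816 IH))
def v19190 : LQ := Led Lsl_at (LP (LK LD1_c6 LD2_c39 LD3_c36))
theorem f778389 : Led Lsl_at (LP (LK LD1_c6 LD2_c39 LD3_c36)) = v19190 :=
  Lrfl
theorem f778390 : Led Lsl_af (LP (LK LD1_c6 LD2_c39 LD3_c36)) = v19190 :=
  Lgr Lrot0 (Lpr_at (f778389 IH) (Lpn v19190))
theorem f778391 : Led Lsl_cf K63.v7559 = v19190 :=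
  Lgr Lrot1 (Lpe (K63.f666729 IH) (Lpr_ct (f666735 IH) (Lpqs (f714785 IH) (Lpr_at (f778389 IH) (Lpn v19190)))))
theorem f778393 : Led Lsl_ft v7564 = v19190 :=
  Lgr Lrot4 (Lpe (f666743 IH) (Lpr_ff (K63.f666731 IH) (Lpr_cf (f778391 IH) (Lpn v19190))))
theorem f778400 : Led Lsl_af v7564 = v19192 :=
  Lgr Lrot45 (Lpr_ft (f778393 IH) (Lpe (f778390 IH) (Lpr_ft (f778399 IH) (Lpn v19192))))
theorem f712782 : Led Lsl_et (LP (LK LD1_c6 LD2_c39 LD3_c37)) = (LP (LK LD1_c12 LD2_c45 LD3_c6)) :=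
  Lre_e IH (LK LD1_c6 LD2_c39 LD3_c37) (LK LD1_c12 LD2_c45 LD3_c6) Lrfl Lrfl
theorem f813071 : Led Lsl_af (LP (LK LD1_c21 LD2_c7 LD3_c28)) = (LP (LK LD1_c12 LD2_c45 LD3_c6)) :=
  Lgr Lrot50 (Lpr_et (f105349 IH) (Lpq (f812928 IH) (Lpe (f778400 IH) (Lpqs (f712779 IH) (Lpr_et (f712782 IH) (Lpn (LP (LK LD1_c12 LD2_c45 LD3_c6))))))))
theorem f813073 : Led Lsl_at (LP (LK LD1_c21 LD2_c7 LD3_c28)) = (LP (LK LD1_c12 LD2_c45 LD3_c6)) :=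
  Lgr Lrot100 (Lpr_af (f813071 IH) (Lpn (LP (LK LD1_c12 LD2_c45 LD3_c6))))
theorem f813410 : Led Lsl_gt (LP (LK LD1_c7 LD2_c44 LD3_c32)) = (LP (LK LD1_c12 LD2_c45 LD3_c6)) :=
  Lgr Lrot46 (Lpe (K56.f754761 IH) (Lpr_ft (f813408 IH) (Lpr_at (f813073 IH) (Lpn (LP (LK LD1_c12 LD2_c45 LD3_c6))))))
def v22897 : LQ := Led Lsl_ft (LP (LK LD1_c7 LD2_c44 LD3_c32))
theorem f813615 : Led Lsl_ft (LP (LK LD1_c7 LD2_c44 LD3_c32)) = v22897 :=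
  Lrfl
theorem f839866 : Led Lsl_af (LP (LK LD1_c21 LD2_c7 LD3_c55)) = v22897 :=
  Lgr Lrot31 (Lpr_gf (f839864 IH) (Lpe (f813410 IH) (Lpr_ft (f813615 IH) (Lpn v22897))))
def v22894 : LQ := Led Lsl_at (LP (LK LD1_c7 LD2_c44 LD3_c32))
theorem f813603 : Led Lsl_at (LP (LK LD1_c7 LD2_c44 LD3_c32)) = v22894 :=
  Lrfl
theorem f813604 : Led Lsl_af (LP (LK LD1_c7 LD2_c44 LD3_c32)) = v22894 :=
  Lgr Lrot0 (Lpr_at (f813603 IH) (Lpn v22894))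
theorem f839869 : Led Lsl_ft (LP (LK LD1_c21 LD2_c7 LD3_c55)) = v22894 :=
  Lgr Lrot101 (Lpr_af (f839866 IH) (Lpe (f813615 IH) (Lpr_af (f813604 IH) (Lpn v22894))))
theorem f839871 : Led Lsl_gt (LP (LK LD1_c21 LD2_c7 LD3_c55)) = (LP (LK LD1_c14 LD2_c36 LD3_c8)) :=
  Lgr Lrot5 (Lpr_ft (f839869 IH) (Lpe (f813604 IH) (Lpe (K56.f754761 IH) (Lpn (LP (LK LD1_c14 LD2_c36 LD3_c8))))))
theorem f839872 : Led Lsl_gt (LP (LK LD1_c21 LD2_c7 LD3_c55)) = (LP (LK LD1_c14 LD2_c36 LD3_c8)) :=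
  Leop (Lpe (f839871 IH) (Lpn (LP (LK LD1_c21 LD2_c7 LD3_c55))))
theorem seed_1949 : LEOK LG_g (LK LD1_c21 LD2_c7 LD3_c55) :=
  Leoe_g (LK LD1_c21 LD2_c7 LD3_c55) (f839872 IH)
theorem f127783 : Led Lsl_dt (LP (LK LD1_c14 LD2_c13 LD3_c60)) = (LP (LK LD1_c14 LD2_c12 LD3_c43)) :=
  Lre_d IH (LK LD1_c14 LD2_c13 LD3_c60) (LK LD1_c14 LD2_c12 LD3_c43) Lrfl Lrfl
def v22216 : LQ := Led Lsl_ct (LP (LK LD1_c7 LD2_c32 LD3_c53))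
theorem f804833 : Led Lsl_ct (LP (LK LD1_c7 LD2_c32 LD3_c53)) = v22216 :=
  Lrfl
theorem f839789 : (LP (LK LD1_c3 LD2_c51 LD3_c31)) = v22216 :=
  Lefun (Lecon (Lfl_cf (f666773 IH)) (f839787 IH)) (f804833 IH)
theorem f443317 : Led Lsl_gt (LP (LK LD1_c3 LD2_c51 LD3_c31)) = (LP (LK LD1_c6 LD2_c39 LD3_c60)) :=
  Lre_g IH (LK LD1_c3 LD2_c51 LD3_c31) (LK LD1_c6 LD2_c39 LD3_c60) Lrfl Lrfl
theorem f666776 : Led Lsl_gt (LP (LK LD1_c12 LD2_c45 LD3_c52)) = (LP (LK LD1_c7 LD2_c44 LD3_c36)) :=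
  Lre_g IH (LK LD1_c12 LD2_c45 LD3_c52) (LK LD1_c7 LD2_c44 LD3_c36) Lrfl Lrfl
def v22909 : LQ := Led Lsl_dt (LP (LK LD1_c7 LD2_c44 LD3_c36))
theorem f813659 : Led Lsl_dt (LP (LK LD1_c7 LD2_c44 LD3_c36)) = v22909 :=
  Lrfl
theorem f839888 : Led Lsl_cf (LP (LK LD1_c14 LD2_c12 LD3_c43)) = v22909 :=
  Lgr Lrot14 (Lpe (f127783 IH) (Lpe (K63.f127780 IH) (Lpe (K61.f127784 IH) (Lpr_gf (K63.f127805 IH) (Lpr_ct (f804833 IH) (Lpq (f839789 IH) (Lpr_gt (f443317 IH) (Lpr_dt (K63.f666767 IH) (Lpr_gt (f666776 IH) (Lpr_dt (f813659 IH) (Lpn v22909)))))))))))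
theorem f804834 : Led Lsl_cf (LP (LK LD1_c7 LD2_c32 LD3_c53)) = v22216 :=
  Lgr Lrot11 (Lpr_ct (f804833 IH) (Lpn v22216))
theorem f459831 : Led Lsl_ct (LP (LK LD1_c0 LD2_c52 LD3_c60)) = (LP (LK LD1_c1 LD2_c52 LD3_c33)) :=
  Lre_c IH (LK LD1_c0 LD2_c52 LD3_c60) (LK LD1_c1 LD2_c52 LD3_c33) Lrfl Lrfl
theorem f667011 : Led Lsl_ct (LP (LK LD1_c7 LD2_c44 LD3_c49)) = (LP (LK LD1_c14 LD2_c36 LD3_c45)) :=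
  Lre_c IH (LK LD1_c7 LD2_c44 LD3_c49) (LK LD1_c14 LD2_c36 LD3_c45) Lrfl Lrfl
theorem f88310 : Led Lsl_ct (LP (LK LD1_c23 LD2_c49 LD3_c29)) = (LP (LK LD1_c14 LD2_c13 LD3_c55)) :=
  Lre_c IH (LK LD1_c23 LD2_c49 LD3_c29) (LK LD1_c14 LD2_c13 LD3_c55) Lrfl Lrfl
theorem f839877 : Led Lsl_gt (LP (LK LD1_c14 LD2_c36 LD3_c45)) = (LP (LK LD1_c23 LD2_c49 LD3_c29)) :=
  Lgr Lrot187 (Lpe (f667011 IH) (Lpe (K48.f667009 IH) (Lpr_dt (K63.f477870 IH) (Lpr_gt (K48.f103877 IH) (Lpr_ct (f459831 IH) (Lpr_gt (K56.f87358 IH) (Lpqs (f839789 IH) (Lpe (f804834 IH) (Lpr_dt (K63.f88304 IH) (Lpe (f88310 IH) (Lpn (LP (LK LD1_c23 LD2_c49 LD3_c29)))))))))))))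
theorem f810435 : Led Lsl_ff (LP (LK LD1_c7 LD2_c44 LD3_c49)) = (LP (LK LD1_c14 LD2_c20 LD3_c48)) :=
  Lgr Lrot3 (Lpr_ft (K63.f810429 IH) (Lpn (LP (LK LD1_c14 LD2_c20 LD3_c48))))
theorem f806695 : Led Lsl_ct (LP (LK LD1_c23 LD2_c58 LD3_c40)) = (LP (LK LD1_c14 LD2_c20 LD3_c48)) :=
  Lre_c IH (LK LD1_c23 LD2_c58 LD3_c40) (LK LD1_c14 LD2_c20 LD3_c48) Lrfl Lrfl
theorem f810437 : Led Lsl_ft (LP (LK LD1_c14 LD2_c36 LD3_c45)) = (LP (LK LD1_c23 LD2_c58 LD3_c40)) :=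
  Lgr Lrot4 (Lpe (f667011 IH) (Lpr_ff (f810435 IH) (Lpe (f806695 IH) (Lpn (LP (LK LD1_c23 LD2_c58 LD3_c40))))))
theorem f667025 : Led Lsl_ct (LP (LK LD1_c14 LD2_c36 LD3_c44)) = (LP (LK LD1_c7 LD2_c44 LD3_c48)) :=
  Lre_c IH (LK LD1_c14 LD2_c36 LD3_c44) (LK LD1_c7 LD2_c44 LD3_c48) Lrfl Lrfl
theorem f778728 : Led Lsl_ct (LP (LK LD1_c14 LD2_c20 LD3_c48)) = (LP (LK LD1_c23 LD2_c58 LD3_c40)) :=
  Lre_c IH (LK LD1_c14 LD2_c20 LD3_c48) (LK LD1_c23 LD2_c58 LD3_c40) Lrfl Lrfl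
theorem f810419 : Led Lsl_af (LP (LK LD1_c14 LD2_c36 LD3_c44)) = (LP (LK LD1_c23 LD2_c58 LD3_c40)) :=
  Lgr Lrot68 (Lpr_ct (f667025 IH) (Lpr_at (K63.f810415 IH) (Lpr_ct (f778728 IH) (Lpn (LP (LK LD1_c23 LD2_c58 LD3_c40))))))
theorem f839879 : Led Lsl_gf (LP (LK LD1_c14 LD2_c36 LD3_c44)) = (LP (LK LD1_c23 LD2_c49 LD3_c29)) :=
  Lgr Lrot76 (Lpr_af (f810419 IH) (Lpe (f810437 IH) (Lpr_gt (f839877 IH) (Lpn (LP (LK LD1_c23 LD2_c49 LD3_c29))))))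
theorem f788984 : Led Lsl_ct (LP (LK LD1_c23 LD2_c59 LD3_c18)) = (LP (LK LD1_c14 LD2_c36 LD3_c18)) :=
  Lre_c IH (LK LD1_c23 LD2_c59 LD3_c18) (LK LD1_c14 LD2_c36 LD3_c18) Lrfl Lrfl
theorem f205898 : Led Lsl_gt (LP (LK LD1_c14 LD2_c37 LD3_c44)) = (LP (LK LD1_c23 LD2_c59 LD3_c18)) :=
  Lre_g IH (LK LD1_c14 LD2_c37 LD3_c44) (LK LD1_c23 LD2_c59 LD3_c18) Lrfl Lrfl
theorem f839882 : Led Lsl_dt (LP (LK LD1_c14 LD2_c37 LD3_c44)) = (LP (LK LD1_c23 LD2_c49 LD3_c29)) :=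
  Lgr Lrot6 (Lpr_gt (f205898 IH) (Lpr_ct (f788984 IH) (Lpr_gt (K63.f666983 IH) (Lpr_ct (K63.f811608 IH) (Lpe (K63.f530331 IH) (Lpe (K63.f530330 IH) (Lpe (K48.f667022 IH) (Lpe (f667025 IH) (Lpr_gf (f839879 IH) (Lpn (LP (LK LD1_c23 LD2_c49 LD3_c29))))))))))))
theorem f788991 : Led Lsl_gt (LP (LK LD1_c7 LD2_c45 LD3_c15)) = (LP (LK LD1_c14 LD2_c37 LD3_c44)) :=
  Lre_g IH (LK LD1_c7 LD2_c45 LD3_c15) (LK LD1_c14 LD2_c37 LD3_c44) Lrfl Lrfl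
theorem f490119 : Led Lsl_gt (LP (LK LD1_c7 LD2_c45 LD3_c13)) = (LP (LK LD1_c3 LD2_c51 LD3_c45)) :=
  Lre_g IH (LK LD1_c7 LD2_c45 LD3_c13) (LK LD1_c3 LD2_c51 LD3_c45) Lrfl Lrfl
def v22962 : LQ := Led Lsl_ct (LP (LK LD1_c7 LD2_c45 LD3_c13))
theorem f814052 : Led Lsl_ct (LP (LK LD1_c7 LD2_c45 LD3_c13)) = v22962 :=
  Lrfl
theorem f88313 : Led Lsl_ct (LP (LK LD1_c14 LD2_c13 LD3_c55)) = (LP (LK LD1_c23 LD2_c49 LD3_c29)) :=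
  Lre_c IH (LK LD1_c14 LD2_c13 LD3_c55) (LK LD1_c23 LD2_c49 LD3_c29) Lrfl Lrfl
theorem f839884 : v22962 = (LP (LK LD1_c14 LD2_c13 LD3_c60)) :=
  (Llr Lrot8 (Lpe (f814052 IH) (Lpr_gt (f490119 IH) (Lpr_dt (K63.f461325 IH) (Lpr_gt (f788991 IH) (Lpr_dt (f839882 IH) (Lpe (f88313 IH) (Lpe (K63.f88304 IH) (Lpe (K63.f88179 IH) (Lpe (K6.f88175 IH) (Lpe (K63.f88191 IH) (Lpn (LP (LK LD1_c14 LD2_c13 LD3_c60)))))))))))))).symm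
theorem f814053 : Led Lsl_cf (LP (LK LD1_c7 LD2_c45 LD3_c13)) = v22962 :=
  Lgr Lrot11 (Lpr_ct (f814052 IH) (Lpn v22962))
def v22961 : LQ := Led Lsl_ft (LP (LK LD1_c7 LD2_c45 LD3_c12))
theorem f814046 : Led Lsl_ft (LP (LK LD1_c7 LD2_c45 LD3_c12)) = v22961 :=
  Lrfl
def v22959 : LQ := Led Lsl_at (LP (LK LD1_c7 LD2_c45 LD3_c12))
theorem f814030 : Led Lsl_at (LP (LK LD1_c7 LD2_c45 LD3_c12)) = v22959 :=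
  Lrfl
theorem f814031 : Led Lsl_af (LP (LK LD1_c7 LD2_c45 LD3_c12)) = v22959 :=
  Lgr Lrot0 (Lpr_at (f814030 IH) (Lpn v22959))
theorem f814035 : Led Lsl_ft (LP (LK LD1_c7 LD2_c45 LD3_c13)) = v22959 :=
  Lgr Lrot2 (Lpr_gt (f490119 IH) (Lpr_gt (K63.f461271 IH) (Lpr_af (f814031 IH) (Lpn v22959))))
theorem f814047 : Led Lsl_af (LP (LK LD1_c7 LD2_c45 LD3_c13)) = v22961 :=
  Lgr Lrot45 (Lpr_ft (f814035 IH) (Lpe (f814031 IH) (Lpr_ft (f814046 IH) (Lpn v22961))))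
theorem f461276 : Led Lsl_dt (LP (LK LD1_c7 LD2_c45 LD3_c12)) = (LP (LK LD1_c14 LD2_c37 LD3_c34)) :=
  Lre_d IH (LK LD1_c7 LD2_c45 LD3_c12) (LK LD1_c14 LD2_c37 LD3_c34) Lrfl Lrfl
theorem f812260 : Led Lsl_ct (LP (LK LD1_c14 LD2_c36 LD3_c14)) = (LP (LK LD1_c7 LD2_c44 LD3_c36)) :=
  Lre_c IH (LK LD1_c14 LD2_c36 LD3_c14) (LK LD1_c7 LD2_c44 LD3_c36) Lrfl Lrfl
theorem f813652 : Led Lsl_dt (LP (LK LD1_c24 LD2_c19 LD3_c33)) = (LP (LK LD1_c14 LD2_c36 LD3_c14)) :=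
  Lre_d IH (LK LD1_c24 LD2_c19 LD3_c33) (LK LD1_c14 LD2_c36 LD3_c14) Lrfl Lrfl
theorem f839889 : Led Lsl_ct (LP (LK LD1_c14 LD2_c37 LD3_c34)) = (LP (LK LD1_c24 LD2_c19 LD3_c33)) :=
  Lgr Lrot133 (Lpe (f461276 IH) (Lpr_ft (f814046 IH) (Lpe (f814047 IH) (Lpr_cf (f814053 IH) (Lpqs (f839884 IH) (Lpe (K63.f88446 IH) (Lpr_cf (f839888 IH) (Lpe (f813659 IH) (Lpe (f812260 IH) (Lpe (f813652 IH) (Lpn (LP (LK LD1_c24 LD2_c19 LD3_c33)))))))))))))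
theorem f839890 : Led Lsl_ct (LP (LK LD1_c14 LD2_c37 LD3_c34)) = (LP (LK LD1_c24 LD2_c19 LD3_c33)) :=
  Leop (Lpe (f839889 IH) (Lpn (LP (LK LD1_c14 LD2_c37 LD3_c34))))
theorem seed_1950 : LEOK LG_c (LK LD1_c14 LD2_c37 LD3_c34) :=
  Leoe_c (LK LD1_c14 LD2_c37 LD3_c34) (f839890 IH)
theorem f88192 : Led Lsl_gt (LP (LK LD1_c7 LD2_c32 LD3_c55)) = (LP (LK LD1_c14 LD2_c13 LD3_c59)) :=
  Lre_g IH (LK LD1_c7 LD2_c32 LD3_c55) (LK LD1_c14 LD2_c13 LD3_c59) Lrfl Lrfl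
theorem f666769 : Led Lsl_ct (LP (LK LD1_c6 LD2_c39 LD3_c60)) = (LP (LK LD1_c3 LD2_c47 LD3_c50)) :=
  Lre_c IH (LK LD1_c6 LD2_c39 LD3_c60) (LK LD1_c3 LD2_c47 LD3_c50) Lrfl Lrfl
theorem f205896 : Led Lsl_ct (LP (LK LD1_c14 LD2_c21 LD3_c12)) = (LP (LK LD1_c7 LD2_c36 LD3_c46)) :=
  Lre_c IH (LK LD1_c14 LD2_c21 LD3_c12) (LK LD1_c7 LD2_c36 LD3_c46) Lrfl Lrfl
theorem f666783 : Led Lsl_gt (LP (LK LD1_c7 LD2_c45 LD3_c12)) = (LP (LK LD1_c14 LD2_c21 LD3_c12)) :=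
  Lre_g IH (LK LD1_c7 LD2_c45 LD3_c12) (LK LD1_c14 LD2_c21 LD3_c12) Lrfl Lrfl
def v22960 : LQ := Led Lsl_ct (LP (LK LD1_c7 LD2_c45 LD3_c12))
theorem f814039 : Led Lsl_ct (LP (LK LD1_c7 LD2_c45 LD3_c12)) = v22960 :=
  Lrfl
theorem f814040 : Led Lsl_cf (LP (LK LD1_c7 LD2_c45 LD3_c12)) = v22960 :=
  Lgr Lrot11 (Lpr_ct (f814039 IH) (Lpn v22960))
theorem f839961 : (LP (LK LD1_c14 LD2_c13 LD3_c59)) = v22960 :=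
  (Llr Lrot9 (Lpe (f88192 IH) (Lpe (K5.f88161 IH) (Lpr_gt (K63.f88179 IH) (Lpq (f839787 IH) (Lpe (f666773 IH) (Lpr_gt (f443317 IH) (Lpr_ct (f666769 IH) (Lpe (K61.f103886 IH) (Lpe (f205896 IH) (Lpe (f666783 IH) (Lpr_cf (f814040 IH) (Lpn v22960))))))))))))).symm
theorem f788982 : Led Lsl_dt (LP (LK LD1_c14 LD2_c21 LD3_c12)) = (LP (LK LD1_c23 LD2_c59 LD3_c18)) :=
  Lre_d IH (LK LD1_c14 LD2_c21 LD3_c12) (LK LD1_c23 LD2_c59 LD3_c18) Lrfl Lrfl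
def v22963 : LQ := Led Lsl_gf (LP (LK LD1_c7 LD2_c45 LD3_c15))
theorem f814060 : Led Lsl_gf (LP (LK LD1_c7 LD2_c45 LD3_c15)) = v22963 :=
  Lrfl
theorem f814061 : Led Lsl_at (LP (LK LD1_c14 LD2_c21 LD3_c11)) = (LP (LK LD1_c7 LD2_c45 LD3_c15)) :=
  Lre_a IH (LK LD1_c14 LD2_c21 LD3_c11) (LK LD1_c7 LD2_c45 LD3_c15) Lrfl Lrfl
theorem f814062 : Led Lsl_ft (LP (LK LD1_c23 LD2_c59 LD3_c18)) = (LP (LK LD1_c14 LD2_c21 LD3_c11)) :=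
  Lre_f IH (LK LD1_c23 LD2_c59 LD3_c18) (LK LD1_c14 LD2_c21 LD3_c11) Lrfl Lrfl
theorem f814063 : Led Lsl_gt (LP (LK LD1_c23 LD2_c59 LD3_c18)) = v22963 :=
  Lgr Lrot5 (Lpr_ft (f814062 IH) (Lpr_at (f814061 IH) (Lpr_gf (f814060 IH) (Lpn v22963))))
theorem f127793 : Led Lsl_gf (LP (LK LD1_c22 LD2_c33 LD3_c33)) = (LP (LK LD1_c14 LD2_c13 LD3_c59)) :=
  Lgr Lrot76 (Lpr_af (K5.f127778 IH) (Lpe (K5.f88189 IH) (Lpr_gt (f88192 IH) (Lpn (LP (LK LD1_c14 LD2_c13 LD3_c59))))))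
theorem f127817 : Led Lsl_gt (LP (LK LD1_c13 LD2_c17 LD3_c45)) = (LP (LK LD1_c7 LD2_c32 LD3_c54)) :=
  Lgr Lrot5 (Lpr_ft (K5.f126414 IH) (Lpr_at (K5.f127803 IH) (Lpe (K63.f88176 IH) (Lpn (LP (LK LD1_c7 LD2_c32 LD3_c54))))))
theorem f88337 : Led Lsl_dt (LP (LK LD1_c7 LD2_c32 LD3_c54)) = (LP (LK LD1_c14 LD2_c13 LD3_c57)) :=
  Lre_d IH (LK LD1_c7 LD2_c32 LD3_c54) (LK LD1_c14 LD2_c13 LD3_c57) Lrfl Lrfl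
theorem f127820 : Led Lsl_ct (LP (LK LD1_c14 LD2_c13 LD3_c57)) = (LP (LK LD1_c23 LD2_c49 LD3_c32)) :=
  Lre_c IH (LK LD1_c14 LD2_c13 LD3_c57) (LK LD1_c23 LD2_c49 LD3_c32) Lrfl Lrfl
theorem f839964 : Led Lsl_dt v22963 = (LP (LK LD1_c23 LD2_c49 LD3_c32)) :=
  Lgr Lrot113 (Lpe (f814063 IH) (Lpe (f788982 IH) (Lpe (f666783 IH) (Lpr_ct (f814039 IH) (Lpq (f839961 IH) (Lpe (f127793 IH) (Lpr_dt (K5.f127782 IH) (Lpr_gt (f127817 IH) (Lpr_dt (f88337 IH) (Lpr_ct (f127820 IH) (Lpn (LP (LK LD1_c23 LD2_c49 LD3_c32)))))))))))))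
theorem f788990 : Led Lsl_ct (LP (LK LD1_c7 LD2_c45 LD3_c15)) = (LP (LK LD1_c14 LD2_c37 LD3_c45)) :=
  Lre_c IH (LK LD1_c7 LD2_c45 LD3_c15) (LK LD1_c14 LD2_c37 LD3_c45) Lrfl Lrfl
theorem f666978 : Led Lsl_dt (LP (LK LD1_c21 LD2_c53 LD3_c8)) = (LP (LK LD1_c14 LD2_c37 LD3_c45)) :=
  Lre_d IH (LK LD1_c21 LD2_c53 LD3_c8) (LK LD1_c14 LD2_c37 LD3_c45) Lrfl Lrfl
theorem f788988 : Led Lsl_gf (LP (LK LD1_c24 LD2_c19 LD3_c41)) = (LP (LK LD1_c14 LD2_c37 LD3_c45)) :=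
  Lgr Lrot143 (Lpr_dt (K61.f788978 IH) (Lpe (K63.f666855 IH) (Lpe (K63.f103883 IH) (Lpr_gf (K63.f666881 IH) (Lpe (K63.f666874 IH) (Lpe (K63.f666903 IH) (Lpr_cf (K63.f666976 IH) (Lpr_gt (K63.f666841 IH) (Lpr_dt (f666978 IH) (Lpn (LP (LK LD1_c14 LD2_c37 LD3_c45))))))))))))
theorem f667012 : Led Lsl_ct (LP (LK LD1_c14 LD2_c36 LD3_c45)) = (LP (LK LD1_c7 LD2_c44 LD3_c49)) :=
  Lre_c IH (LK LD1_c14 LD2_c36 LD3_c45) (LK LD1_c7 LD2_c44 LD3_c49) Lrfl Lrfl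
theorem f839968 : Led Lsl_gf (LP (LK LD1_c14 LD2_c36 LD3_c45)) = (LP (LK LD1_c23 LD2_c49 LD3_c32)) :=
  Lgr Lrot179 (Lpr_ct (f667012 IH) (Lpr_gt (K48.f667000 IH) (Lpr_ct (K61.f530342 IH) (Lpr_dt (K61.f530343 IH) (Lpe (K63.f788975 IH) (Lpr_gf (f788988 IH) (Lpe (f788990 IH) (Lpr_gf (f814060 IH) (Lpr_dt (f839964 IH) (Lpn (LP (LK LD1_c23 LD2_c49 LD3_c32))))))))))))
theorem f839969 : Led Lsl_gt (LP (LK LD1_c23 LD2_c49 LD3_c32)) = (LP (LK LD1_c14 LD2_c36 LD3_c45)) :=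
  Leop (Lpr_gf (f839968 IH) (Lpn (LP (LK LD1_c23 LD2_c49 LD3_c32))))
theorem seed_1951 : LEOK LG_g (LK LD1_c23 LD2_c49 LD3_c32) :=
  Leoe_g (LK LD1_c23 LD2_c49 LD3_c32) (f839969 IH)
theorem f839966 : Led Lsl_df v22963 = (LP (LK LD1_c23 LD2_c49 LD3_c32)) :=
  Lgr Lrot38 (Lpr_dt (f839964 IH) (Lpn (LP (LK LD1_c23 LD2_c49 LD3_c32))))
theorem f461324 : Led Lsl_et (LP (LK LD1_c3 LD2_c51 LD3_c45)) = (LP (LK LD1_c1 LD2_c52 LD3_c49)) :=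
  Lre_e IH (LK LD1_c3 LD2_c51 LD3_c45) (LK LD1_c1 LD2_c52 LD3_c49) Lrfl Lrfl
theorem f839967 : Led Lsl_et (LP (LK LD1_c23 LD2_c49 LD3_c32)) = (LP (LK LD1_c31 LD2_c14 LD3_c14)) :=
  Lre_e IH (LK LD1_c23 LD2_c49 LD3_c32) (LK LD1_c31 LD2_c14 LD3_c14) Lrfl Lrfl
theorem f839975 : Led Lsl_gt (LP (LK LD1_c23 LD2_c59 LD3_c19)) = (LP (LK LD1_c31 LD2_c14 LD3_c14)) :=
  Lgr Lrot131 (Lpe (K33.f477296 IH) (Lpr_dt (K29.f477294 IH) (Lpe (K48.f468794 IH) (Lpe (K29.f461307 IH) (Lpe (K29.f460587 IH) (Lpe (f461324 IH) (Lpr_dt (K63.f461325 IH) (Lpr_gf (f814060 IH) (Lpr_df (f839966 IH) (Lpr_et (f839967 IH) (Lpn (LP (LK LD1_c31 LD2_c14 LD3_c14)))))))))))))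
theorem f839976 : Led Lsl_gt (LP (LK LD1_c23 LD2_c59 LD3_c19)) = (LP (LK LD1_c31 LD2_c14 LD3_c14)) :=
  Leop (Lpe (f839975 IH) (Lpn (LP (LK LD1_c23 LD2_c59 LD3_c19))))
theorem seed_1952 : LEOK LG_g (LK LD1_c23 LD2_c59 LD3_c19) :=
  Leoe_g (LK LD1_c23 LD2_c59 LD3_c19) (f839976 IH)
def v22219 : LQ := Led Lsl_ct (LP (LK LD1_c7 LD2_c32 LD3_c54))
theorem f804848 : Led Lsl_ct (LP (LK LD1_c7 LD2_c32 LD3_c54)) = v22219 :=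
  Lrfl
theorem f804849 : Led Lsl_cf (LP (LK LD1_c7 LD2_c32 LD3_c54)) = v22219 :=
  Lgr Lrot11 (Lpr_ct (f804848 IH) (Lpn v22219))
theorem f839781 : (LP (LK LD1_c3 LD2_c51 LD3_c32)) = v22219 :=
  Lefun (Lecon (Lfl_cf (f666792 IH)) (f839774 IH)) (f804848 IH)
theorem f666762 : Led Lsl_dt (LP (LK LD1_c7 LD2_c44 LD3_c34)) = (LP (LK LD1_c3 LD2_c51 LD3_c32)) :=
  Lre_d IH (LK LD1_c7 LD2_c44 LD3_c34) (LK LD1_c3 LD2_c51 LD3_c32) Lrfl Lrfl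
theorem f666793 : Led Lsl_ct (LP (LK LD1_c14 LD2_c36 LD3_c10)) = (LP (LK LD1_c7 LD2_c44 LD3_c34)) :=
  Lre_c IH (LK LD1_c14 LD2_c36 LD3_c10) (LK LD1_c7 LD2_c44 LD3_c34) Lrfl Lrfl
theorem f666794 : Led Lsl_dt (LP (LK LD1_c24 LD2_c19 LD3_c28)) = (LP (LK LD1_c14 LD2_c36 LD3_c10)) :=
  Lre_d IH (LK LD1_c24 LD2_c19 LD3_c28) (LK LD1_c14 LD2_c36 LD3_c10) Lrfl Lrfl
theorem f806462 : Led Lsl_dt (LP (LK LD1_c23 LD2_c56 LD3_c15)) = (LP (LK LD1_c14 LD2_c18 LD3_c14)) :=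
  Lre_d IH (LK LD1_c23 LD2_c56 LD3_c15) (LK LD1_c14 LD2_c18 LD3_c14) Lrfl Lrfl
theorem f812202 : Led Lsl_af (LP (LK LD1_c23 LD2_c56 LD3_c15)) = (LP (LK LD1_c14 LD2_c27 LD3_c2)) :=
  Lgr Lrot117 (Lpr_dt (f806462 IH) (Lpq (K63.f811807 IH) (Lpe (K63.f808714 IH) (Lpr_dt (K63.f87943 IH) (Lpn (LP (LK LD1_c14 LD2_c27 LD3_c2)))))))
theorem f662140 : Led Lsl_gt (LP (LK LD1_c7 LD2_c44 LD3_c50)) = (LP (LK LD1_c14 LD2_c36 LD3_c46)) :=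
  Lre_g IH (LK LD1_c7 LD2_c44 LD3_c50) (LK LD1_c14 LD2_c36 LD3_c46) Lrfl Lrfl
theorem f811799 : Led Lsl_ct (LP (LK LD1_c14 LD2_c36 LD3_c46)) = (LP (LK LD1_c23 LD2_c56 LD3_c15)) :=
  Lgr Lrot110 (Lpe (f662140 IH) (Lpe (K61.f530342 IH) (Lpe (K48.f667000 IH) (Lpr_df (K63.f810433 IH) (Lpr_gt (K63.f63781 IH) (Lpr_ct (K61.f63966 IH) (Lpr_gt (K63.f811795 IH) (Lpe (K63.f806460 IH) (Lpe (f806462 IH) (Lpn (LP (LK LD1_c23 LD2_c56 LD3_c15))))))))))))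
theorem f811801 : Led Lsl_cf (LP (LK LD1_c14 LD2_c36 LD3_c46)) = (LP (LK LD1_c23 LD2_c56 LD3_c15)) :=
  Lgr Lrot11 (Lpr_ct (f811799 IH) (Lpn (LP (LK LD1_c23 LD2_c56 LD3_c15))))
theorem f812206 : Led Lsl_at (LP (LK LD1_c14 LD2_c36 LD3_c46)) = (LP (LK LD1_c23 LD2_c58 LD3_c41)) :=
  Lgr Lrot107 (Lpr_cf (f811801 IH) (Lpr_af (f812202 IH) (Lpe (K63.f811752 IH) (Lpn (LP (LK LD1_c23 LD2_c58 LD3_c41))))))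
theorem f812212 : Led Lsl_af (LP (LK LD1_c14 LD2_c36 LD3_c46)) = (LP (LK LD1_c23 LD2_c58 LD3_c41)) :=
  Lgr Lrot0 (Lpr_at (f812206 IH) (Lpn (LP (LK LD1_c23 LD2_c58 LD3_c41))))
theorem f666842 : Led Lsl_gt (LP (LK LD1_c14 LD2_c36 LD3_c47)) = (LP (LK LD1_c7 LD2_c44 LD3_c50)) :=
  Lre_g IH (LK LD1_c14 LD2_c36 LD3_c47) (LK LD1_c7 LD2_c44 LD3_c50) Lrfl Lrfl
theorem f812214 : Led Lsl_ft (LP (LK LD1_c14 LD2_c36 LD3_c47)) = (LP (LK LD1_c23 LD2_c58 LD3_c41)) :=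
  Lgr Lrot2 (Lpr_gt (f666842 IH) (Lpr_gt (f662140 IH) (Lpr_af (f812212 IH) (Lpn (LP (LK LD1_c23 LD2_c58 LD3_c41))))))
theorem f812220 : Led Lsl_ff (LP (LK LD1_c14 LD2_c36 LD3_c47)) = (LP (LK LD1_c23 LD2_c58 LD3_c41)) :=
  Lgr Lrot3 (Lpr_ft (f812214 IH) (Lpn (LP (LK LD1_c23 LD2_c58 LD3_c41))))
theorem f109852 : Led Lsl_et (LP (LK LD1_c14 LD2_c14 LD3_c26)) = (LP (LK LD1_c7 LD2_c33 LD3_c3)) :=
  Lre_e IH (LK LD1_c14 LD2_c14 LD3_c26) (LK LD1_c7 LD2_c33 LD3_c3) Lrfl Lrfl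
theorem f88086 : Led Lsl_et (LP (LK LD1_c7 LD2_c48 LD3_c19)) = (LP (LK LD1_c3 LD2_c53 LD3_c20)) :=
  Lre_e IH (LK LD1_c7 LD2_c48 LD3_c19) (LK LD1_c3 LD2_c53 LD3_c20) Lrfl Lrfl
theorem f88087 : Led Lsl_dt (LP (LK LD1_c7 LD2_c48 LD3_c19)) = (LP (LK LD1_c3 LD2_c53 LD3_c18)) :=
  Lre_d IH (LK LD1_c7 LD2_c48 LD3_c19) (LK LD1_c3 LD2_c53 LD3_c18) Lrfl Lrfl
theorem f88022 : Led Lsl_gt (LP (LK LD1_c7 LD2_c48 LD3_c18)) = (LP (LK LD1_c3 LD2_c53 LD3_c18)) :=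
  Lre_g IH (LK LD1_c7 LD2_c48 LD3_c18) (LK LD1_c3 LD2_c53 LD3_c18) Lrfl Lrfl
theorem f92700 : Led Lsl_et (LP (LK LD1_c1 LD2_c50 LD3_c9)) = (LP (LK LD1_c3 LD2_c46 LD3_c3)) :=
  Lre_e IH (LK LD1_c1 LD2_c50 LD3_c9) (LK LD1_c3 LD2_c46 LD3_c3) Lrfl Lrfl
theorem f474345 : Led Lsl_df (LP (LK LD1_c7 LD2_c48 LD3_c18)) = (LP (LK LD1_c14 LD2_c14 LD3_c26)) :=
  Lgr Lrot170 (Lpr_gt (f88022 IH) (Lpe (f88087 IH) (Lpr_et (f88086 IH) (Lpr_gt (K29.f474337 IH) (Lpr_dt (K29.f440702 IH) (Lpr_gt (K29.f85277 IH) (Lpe (K29.f85261 IH) (Lpr_et (f92700 IH) (Lpr_gt (K63.f109819 IH) (Lpe (f109852 IH) (Lpn (LP (LK LD1_c14 LD2_c14 LD3_c26)))))))))))))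
theorem f474359 : Led Lsl_dt (LP (LK LD1_c7 LD2_c48 LD3_c18)) = (LP (LK LD1_c14 LD2_c14 LD3_c26)) :=
  Lgr Lrot42 (Lpr_df (f474345 IH) (Lpn (LP (LK LD1_c14 LD2_c14 LD3_c26))))
theorem f88023 : Led Lsl_et (LP (LK LD1_c14 LD2_c43 LD3_c45)) = (LP (LK LD1_c7 LD2_c48 LD3_c18)) :=
  Lre_e IH (LK LD1_c14 LD2_c43 LD3_c45) (LK LD1_c7 LD2_c48 LD3_c18) Lrfl Lrfl
theorem f808667 : Led Lsl_df (LP (LK LD1_c14 LD2_c43 LD3_c45)) = (LP (LK LD1_c14 LD2_c27 LD3_c3)) :=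
  Lgr Lrot70 (Lpr_et (f88023 IH) (Lpr_dt (f474359 IH) (Lpr_et (f109852 IH) (Lpr_dt (K63.f109820 IH) (Lpr_et (K63.f808662 IH) (Lpn (LP (LK LD1_c14 LD2_c27 LD3_c3))))))))
theorem f88308 : Led Lsl_dt (LP (LK LD1_c14 LD2_c27 LD3_c2)) = (LP (LK LD1_c7 LD2_c39 LD3_c60)) :=
  Lre_d IH (LK LD1_c14 LD2_c27 LD3_c2) (LK LD1_c7 LD2_c39 LD3_c60) Lrfl Lrfl
theorem f808683 : Led Lsl_ft (LP (LK LD1_c14 LD2_c43 LD3_c45)) = (LP (LK LD1_c14 LD2_c27 LD3_c2)) :=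
  Lgr Lrot54 (Lpr_df (f808667 IH) (Lpe (K63.f666058 IH) (Lpe (f88308 IH) (Lpn (LP (LK LD1_c14 LD2_c27 LD3_c2))))))
theorem f812223 : Led Lsl_ct (LP (LK LD1_c14 LD2_c36 LD3_c47)) = (LP (LK LD1_c14 LD2_c43 LD3_c45)) :=
  Lgr Lrot40 (Lpr_ff (f812220 IH) (Lpr_cf (K63.f811750 IH) (Lpe (f808683 IH) (Lpn (LP (LK LD1_c14 LD2_c43 LD3_c45))))))
theorem f811732 : Led Lsl_at (LP (LK LD1_c14 LD2_c20 LD3_c49)) = (LP (LK LD1_c7 LD2_c44 LD3_c50)) :=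
  Lgr Lrot66 (Lpr_ff (K63.f811730 IH) (Lpe (K63.f811557 IH) (Lpr_ff (K63.f811576 IH) (Lpn (LP (LK LD1_c7 LD2_c44 LD3_c50))))))
theorem f811738 : Led Lsl_gf (LP (LK LD1_c14 LD2_c36 LD3_c47)) = (LP (LK LD1_c7 LD2_c44 LD3_c61)) :=
  Lgr Lrot47 (Lpr_gt (f666842 IH) (Lpe (f811732 IH) (Lpr_ff (K63.f811730 IH) (Lpn (LP (LK LD1_c7 LD2_c44 LD3_c61))))))
def v22605 : LQ := Led Lsl_ft (LP (LK LD1_c7 LD2_c39 LD3_c54))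
theorem f808616 : Led Lsl_ft (LP (LK LD1_c7 LD2_c39 LD3_c54)) = v22605 :=
  Lrfl
theorem f808619 : Led Lsl_ff (LP (LK LD1_c7 LD2_c39 LD3_c54)) = v22605 :=
  Lgr Lrot3 (Lpr_ft (f808616 IH) (Lpn v22605))
theorem f788167 : Led Lsl_et (LP (LK LD1_c7 LD2_c39 LD3_c58)) = (LP (LK LD1_c14 LD2_c26 LD3_c60)) :=
  Lre_e IH (LK LD1_c7 LD2_c39 LD3_c58) (LK LD1_c14 LD2_c26 LD3_c60) Lrfl Lrfl
def v22604 : LQ := Led Lsl_at (LP (LK LD1_c7 LD2_c39 LD3_c54))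
theorem f808610 : Led Lsl_at (LP (LK LD1_c7 LD2_c39 LD3_c54)) = v22604 :=
  Lrfl
theorem f808611 : Led Lsl_af (LP (LK LD1_c7 LD2_c39 LD3_c54)) = v22604 :=
  Lgr Lrot0 (Lpr_at (f808610 IH) (Lpn v22604))
theorem f808612 : Led Lsl_cf K63.v7494 = v22604 :=
  Lgr Lrot1 (Lpe (K63.f666049 IH) (Lpr_ct (K62.f87223 IH) (Lpr_at (f808610 IH) (Lpn v22604))))
theorem f808614 : Led Lsl_ft (LP (LK LD1_c7 LD2_c39 LD3_c58)) = v22604 :=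
  Lgr Lrot4 (Lpe (K58.f442254 IH) (Lpr_ff (K63.f666055 IH) (Lpr_cf (f808612 IH) (Lpn v22604))))
theorem f808617 : Led Lsl_af (LP (LK LD1_c7 LD2_c39 LD3_c58)) = v22605 :=
  Lgr Lrot45 (Lpr_ft (f808614 IH) (Lpe (f808611 IH) (Lpr_ft (f808616 IH) (Lpn v22605))))
theorem f811811 : v22605 = (LP (LK LD1_c6 LD2_c36 LD3_c57)) :=
  (Llr Lrot50 (Lpe (f808617 IH) (Lpr_et (f788167 IH) (Lpr_at (K63.f811797 IH) (Lpr_et (K63.f441309 IH) (Lpn (LP (LK LD1_c6 LD2_c36 LD3_c57)))))))).symm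
theorem f66190 : Led Lsl_dt (LP (LK LD1_c12 LD2_c39 LD3_c42)) = (LP (LK LD1_c6 LD2_c36 LD3_c57)) :=
  Lre_d IH (LK LD1_c12 LD2_c39 LD3_c42) (LK LD1_c6 LD2_c36 LD3_c57) Lrfl Lrfl
theorem f812163 : Led Lsl_ff (LP (LK LD1_c12 LD2_c39 LD3_c42)) = (LP (LK LD1_c14 LD2_c26 LD3_c45)) :=
  Lgr Lrot19 (Lpr_dt (f66190 IH) (Lpq (f811811 IH) (Lpe (f808619 IH) (Lpr_dt (K62.f87229 IH) (Lpn (LP (LK LD1_c14 LD2_c26 LD3_c45)))))))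
theorem f812169 : Led Lsl_ft (LP (LK LD1_c12 LD2_c39 LD3_c42)) = (LP (LK LD1_c14 LD2_c26 LD3_c45)) :=
  Lgr Lrot48 (Lpr_ff (f812163 IH) (Lpn (LP (LK LD1_c14 LD2_c26 LD3_c45))))
theorem f66145 : Led Lsl_dt (LP (LK LD1_c12 LD2_c39 LD3_c40)) = (LP (LK LD1_c6 LD2_c36 LD3_c56)) :=
  Lre_d IH (LK LD1_c12 LD2_c39 LD3_c40) (LK LD1_c6 LD2_c36 LD3_c56) Lrfl Lrfl
theorem f811816 : (LP (LK LD1_c7 LD2_c39 LD3_c54)) = K63.v19033 :=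
  Lefun (Lecon (Lfl_ff (f808619 IH)) (f811811 IH)) (K63.f777333 IH)
theorem f812123 : Led Lsl_af (LP (LK LD1_c12 LD2_c39 LD3_c40)) = (LP (LK LD1_c14 LD2_c26 LD3_c45)) :=
  Lgr Lrot117 (Lpr_dt (f66145 IH) (Lpr_at (K63.f777331 IH) (Lpq (f811816 IH) (Lpr_dt (K62.f87229 IH) (Lpn (LP (LK LD1_c14 LD2_c26 LD3_c45)))))))
def v22611 : LQ := Led Lsl_ft (LP (LK LD1_c7 LD2_c39 LD3_c57))
theorem f808708 : Led Lsl_ft (LP (LK LD1_c7 LD2_c39 LD3_c57)) = v22611 :=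
  Lrfl
theorem f808710 : Led Lsl_ff (LP (LK LD1_c7 LD2_c39 LD3_c57)) = v22611 :=
  Lgr Lrot3 (Lpr_ft (f808708 IH) (Lpn v22611))
theorem f808711 : Led Lsl_bt K63.v7494 = v22611 :=
  Lgr Lrot35 (Lpe (K63.f666053 IH) (Lpe (K62.f87337 IH) (Lpr_ff (f808710 IH) (Lpn v22611))))
theorem f709565 : Led Lsl_bt (LP (LK LD1_c7 LD2_c35 LD3_c10)) = (LP (LK LD1_c14 LD2_c18 LD3_c10)) :=
  Lre_b IH (LK LD1_c7 LD2_c35 LD3_c10) (LK LD1_c14 LD2_c18 LD3_c10) Lrfl Lrfl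
def v22373 : LQ := Led Lsl_ft (LP (LK LD1_c7 LD2_c35 LD3_c10))
theorem f806479 : Led Lsl_ft (LP (LK LD1_c7 LD2_c35 LD3_c10)) = v22373 :=
  Lrfl
theorem f806482 : Led Lsl_ff (LP (LK LD1_c7 LD2_c35 LD3_c10)) = v22373 :=
  Lgr Lrot3 (Lpr_ft (f806479 IH) (Lpn v22373))
theorem f806455 : Led Lsl_ff K63.v19036 = K63.v22372 :=
  Lgr Lrot3 (Lpr_ft (K63.f806454 IH) (Lpn K63.v22372))
theorem f806483 : Led Lsl_at K63.v19036 = v22373 :=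
  Lgr Lrot66 (Lpr_ff (f806455 IH) (Lpe (K63.f806450 IH) (Lpr_ff (f806482 IH) (Lpn v22373))))
theorem f811819 : (LP (LK LD1_c3 LD2_c49 LD3_c31)) = v22373 :=
  Lefun (Lecon (Lfl_af (K63.f666060 IH)) ((K63.f811812 IH).trans (K63.f806456 IH).symm)) (f806483 IH)
theorem f811836 : (LP (LK LD1_c7 LD2_c35 LD3_c10)) = K63.v7494 :=
  Lefun (Lecon (Lfl_ff (f806482 IH)) (f811819 IH).symm) (K63.f666053 IH)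
theorem f811841 : v22611 = (LP (LK LD1_c14 LD2_c18 LD3_c10)) :=
  Lefun (Lecon (f808711 IH) (f811836 IH).symm) (f709565 IH)
theorem f709596 : Led Lsl_ct (LP (LK LD1_c14 LD2_c26 LD3_c55)) = (LP (LK LD1_c7 LD2_c39 LD3_c57)) :=
  Lre_c IH (LK LD1_c14 LD2_c26 LD3_c55) (LK LD1_c7 LD2_c39 LD3_c57) Lrfl Lrfl
theorem f439709 : Led Lsl_bt (LP (LK LD1_c14 LD2_c18 LD3_c10)) = (LP (LK LD1_c7 LD2_c35 LD3_c10)) :=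
  Lre_b IH (LK LD1_c14 LD2_c18 LD3_c10) (LK LD1_c7 LD2_c35 LD3_c10) Lrfl Lrfl
theorem f646876 : Led Lsl_bt (LP (LK LD1_c12 LD2_c4 LD3_c27)) = (LP (LK LD1_c6 LD2_c12 LD3_c33)) :=
  Lre_b IH (LK LD1_c12 LD2_c4 LD3_c27) (LK LD1_c6 LD2_c12 LD3_c33) Lrfl Lrfl
theorem f709128 : Led Lsl_af (LP (LK LD1_c21 LD2_c8 LD3_c6)) = (LP (LK LD1_c22 LD2_c22 LD3_c28)) :=
  Lgr Lrot0 (Lpr_at (K52.f709119 IH) (Lpn (LP (LK LD1_c22 LD2_c22 LD3_c28))))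
theorem f97788 : Led Lsl_ft (LP (LK LD1_c13 LD2_c9 LD3_c60)) = (LP (LK LD1_c22 LD2_c22 LD3_c28)) :=
  Lre_f IH (LK LD1_c13 LD2_c9 LD3_c60) (LK LD1_c22 LD2_c22 LD3_c28) Lrfl Lrfl
theorem f614415 : Led Lsl_gt (LP (LK LD1_c13 LD2_c9 LD3_c60)) = (LP (LK LD1_c22 LD2_c22 LD3_c27)) :=
  Lre_g IH (LK LD1_c13 LD2_c9 LD3_c60) (LK LD1_c22 LD2_c22 LD3_c27) Lrfl Lrfl
theorem f709136 : Led Lsl_gf (LP (LK LD1_c21 LD2_c8 LD3_c6)) = (LP (LK LD1_c22 LD2_c22 LD3_c27)) :=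
  Lgr Lrot76 (Lpr_af (f709128 IH) (Lpe (f97788 IH) (Lpr_gt (f614415 IH) (Lpn (LP (LK LD1_c22 LD2_c22 LD3_c27))))))
theorem f709562 : Led Lsl_ct (LP (LK LD1_c14 LD2_c18 LD3_c10)) = (LP (LK LD1_c22 LD2_c22 LD3_c27)) :=
  Lgr Lrot64 (Lpr_bt (f439709 IH) (Lpe (K57.f92380 IH) (Lpr_bf (K63.f439668 IH) (Lpr_ct (K51.f62902 IH) (Lpe (K51.f62915 IH) (Lpq (K51.f708493 IH) (Lpr_cf (K51.f709558 IH) (Lpr_gf (K51.f650079 IH) (Lpqs (K51.f708095 IH) (Lpe (f646876 IH) (Lpe (K52.f674254 IH) (Lpr_gf (f709136 IH) (Lpn (LP (LK LD1_c22 LD2_c22 LD3_c27)))))))))))))))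
theorem f812091 : Led Lsl_ff (LP (LK LD1_c14 LD2_c26 LD3_c55)) = (LP (LK LD1_c22 LD2_c22 LD3_c27)) :=
  Lgr Lrot23 (Lpr_ct (f709596 IH) (Lpr_ft (f808708 IH) (Lpqs (f811841 IH) (Lpr_ct (f709562 IH) (Lpn (LP (LK LD1_c22 LD2_c22 LD3_c27)))))))
theorem f812097 : Led Lsl_ft (LP (LK LD1_c14 LD2_c26 LD3_c55)) = (LP (LK LD1_c22 LD2_c22 LD3_c27)) :=
  Lgr Lrot48 (Lpr_ff (f812091 IH) (Lpn (LP (LK LD1_c22 LD2_c22 LD3_c27))))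
theorem f709600 : Led Lsl_bt (LP (LK LD1_c24 LD2_c7 LD3_c23)) = (LP (LK LD1_c14 LD2_c26 LD3_c55)) :=
  Lre_b IH (LK LD1_c24 LD2_c7 LD3_c23) (LK LD1_c14 LD2_c26 LD3_c55) Lrfl Lrfl
theorem f66394 : Led Lsl_bt (LP (LK LD1_c12 LD2_c39 LD3_c39)) = (LP (LK LD1_c6 LD2_c36 LD3_c56)) :=
  Lre_b IH (LK LD1_c12 LD2_c39 LD3_c39) (LK LD1_c6 LD2_c36 LD3_c56) Lrfl Lrfl
theorem f441313 : Led Lsl_ct (LP (LK LD1_c21 LD2_c45 LD3_c47)) = (LP (LK LD1_c12 LD2_c39 LD3_c39)) :=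
  Lre_c IH (LK LD1_c21 LD2_c45 LD3_c47) (LK LD1_c12 LD2_c39 LD3_c39) Lrfl Lrfl
theorem f712463 : Led Lsl_bt (LP (LK LD1_c22 LD2_c22 LD3_c27)) = (LP (LK LD1_c21 LD2_c45 LD3_c47)) :=
  Lgr Lrot128 (Lpe (f709562 IH) (Lpe (f709565 IH) (Lpr_cf (K63.f712457 IH) (Lpe (f66394 IH) (Lpe (f441313 IH) (Lpn (LP (LK LD1_c21 LD2_c45 LD3_c47))))))))
theorem f812099 : Led Lsl_ff (LP (LK LD1_c24 LD2_c7 LD3_c23)) = (LP (LK LD1_c21 LD2_c45 LD3_c47)) :=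
  Lgr Lrot25 (Lpr_bt (f709600 IH) (Lpr_ft (f812097 IH) (Lpr_bt (f712463 IH) (Lpn (LP (LK LD1_c21 LD2_c45 LD3_c47))))))
theorem f709603 : Led Lsl_ct (LP (LK LD1_c24 LD2_c7 LD3_c23)) = (LP (LK LD1_c14 LD2_c26 LD3_c58)) :=
  Lre_c IH (LK LD1_c24 LD2_c7 LD3_c23) (LK LD1_c14 LD2_c26 LD3_c58) Lrfl Lrfl
theorem f66395 : Led Lsl_ct (LP (LK LD1_c12 LD2_c39 LD3_c39)) = (LP (LK LD1_c21 LD2_c45 LD3_c47)) :=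
  Lre_c IH (LK LD1_c12 LD2_c39 LD3_c39) (LK LD1_c21 LD2_c45 LD3_c47) Lrfl Lrfl
theorem f812101 : Led Lsl_ft (LP (LK LD1_c14 LD2_c26 LD3_c58)) = (LP (LK LD1_c12 LD2_c39 LD3_c39)) :=
  Lgr Lrot4 (Lpe (f709603 IH) (Lpr_ff (f812099 IH) (Lpe (f66395 IH) (Lpn (LP (LK LD1_c12 LD2_c39 LD3_c39))))))
theorem f812106 : Led Lsl_ff (LP (LK LD1_c14 LD2_c26 LD3_c58)) = (LP (LK LD1_c12 LD2_c39 LD3_c39)) :=
  Lgr Lrot3 (Lpr_ft (f812101 IH) (Lpn (LP (LK LD1_c12 LD2_c39 LD3_c39))))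
theorem f812108 : Led Lsl_dt (LP (LK LD1_c14 LD2_c26 LD3_c58)) = (LP (LK LD1_c24 LD2_c7 LD3_c31)) :=
  Lre_d IH (LK LD1_c14 LD2_c26 LD3_c58) (LK LD1_c24 LD2_c7 LD3_c31) Lrfl Lrfl
theorem f712471 : Led Lsl_dt (LP (LK LD1_c21 LD2_c45 LD3_c48)) = (LP (LK LD1_c12 LD2_c39 LD3_c39)) :=
  Lre_d IH (LK LD1_c21 LD2_c45 LD3_c48) (LK LD1_c12 LD2_c39 LD3_c39) Lrfl Lrfl
theorem f812109 : Led Lsl_ft (LP (LK LD1_c24 LD2_c7 LD3_c31)) = (LP (LK LD1_c21 LD2_c45 LD3_c48)) :=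
  Lgr Lrot54 (Lpe (f812108 IH) (Lpr_ff (f812106 IH) (Lpe (f712471 IH) (Lpn (LP (LK LD1_c21 LD2_c45 LD3_c48))))))
theorem f442265 : Led Lsl_bt (LP (LK LD1_c14 LD2_c26 LD3_c59)) = (LP (LK LD1_c24 LD2_c7 LD3_c31)) :=
  Lre_b IH (LK LD1_c14 LD2_c26 LD3_c59) (LK LD1_c24 LD2_c7 LD3_c31) Lrfl Lrfl
theorem f66140 : Led Lsl_bt (LP (LK LD1_c21 LD2_c45 LD3_c48)) = (LP (LK LD1_c12 LD2_c39 LD3_c40)) :=
  Lre_b IH (LK LD1_c21 LD2_c45 LD3_c48) (LK LD1_c12 LD2_c39 LD3_c40) Lrfl Lrfl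
theorem f812112 : Led Lsl_ff (LP (LK LD1_c14 LD2_c26 LD3_c59)) = (LP (LK LD1_c12 LD2_c39 LD3_c40)) :=
  Lgr Lrot25 (Lpr_bt (f442265 IH) (Lpr_ft (f812109 IH) (Lpr_bt (f66140 IH) (Lpn (LP (LK LD1_c12 LD2_c39 LD3_c40))))))
theorem f812171 : Led Lsl_af (LP (LK LD1_c12 LD2_c39 LD3_c42)) = (LP (LK LD1_c14 LD2_c26 LD3_c59)) :=
  Lgr Lrot45 (Lpr_ft (f812169 IH) (Lpe (f812123 IH) (Lpe (f812112 IH) (Lpn (LP (LK LD1_c14 LD2_c26 LD3_c59))))))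
theorem f66129 : Led Lsl_gt (LP (LK LD1_c12 LD2_c39 LD3_c40)) = (LP (LK LD1_c21 LD2_c45 LD3_c50)) :=
  Lre_g IH (LK LD1_c12 LD2_c39 LD3_c40) (LK LD1_c21 LD2_c45 LD3_c50) Lrfl Lrfl
theorem f812185 : Led Lsl_gf (LP (LK LD1_c12 LD2_c39 LD3_c42)) = (LP (LK LD1_c21 LD2_c45 LD3_c50)) :=
  Lgr Lrot76 (Lpr_af (f812171 IH) (Lpr_ff (f812112 IH) (Lpr_gt (f66129 IH) (Lpn (LP (LK LD1_c21 LD2_c45 LD3_c50))))))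
theorem f66187 : Led Lsl_dt (LP (LK LD1_c6 LD2_c36 LD3_c57)) = (LP (LK LD1_c12 LD2_c39 LD3_c42)) :=
  Lre_d IH (LK LD1_c6 LD2_c36 LD3_c57) (LK LD1_c12 LD2_c39 LD3_c42) Lrfl Lrfl
theorem f666944 : Led Lsl_gt (LP (LK LD1_c12 LD2_c39 LD3_c43)) = (LP (LK LD1_c21 LD2_c45 LD3_c58)) :=
  Lre_g IH (LK LD1_c12 LD2_c39 LD3_c43) (LK LD1_c21 LD2_c45 LD3_c58) Lrfl Lrfl
theorem f66109 : Led Lsl_gt (LP (LK LD1_c12 LD2_c35 LD3_c25)) = (LP (LK LD1_c6 LD2_c34 LD3_c31)) :=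
  Lre_g IH (LK LD1_c12 LD2_c35 LD3_c25) (LK LD1_c6 LD2_c34 LD3_c31) Lrfl Lrfl
theorem f66127 : Led Lsl_et (LP (LK LD1_c21 LD2_c41 LD3_c49)) = (LP (LK LD1_c12 LD2_c35 LD3_c25)) :=
  Lre_e IH (LK LD1_c21 LD2_c41 LD3_c49) (LK LD1_c12 LD2_c35 LD3_c25) Lrfl Lrfl
theorem f66128 : Led Lsl_dt (LP (LK LD1_c6 LD2_c36 LD3_c56)) = (LP (LK LD1_c12 LD2_c39 LD3_c40)) :=
  Lre_d IH (LK LD1_c6 LD2_c36 LD3_c56) (LK LD1_c12 LD2_c39 LD3_c40) Lrfl Lrfl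
theorem f66130 : Led Lsl_dt (LP (LK LD1_c21 LD2_c41 LD3_c49)) = (LP (LK LD1_c21 LD2_c45 LD3_c50)) :=
  Lgr Lrot56 (Lpr_et (f66127 IH) (Lpr_gt (f66109 IH) (Lpe (K63.f66000 IH) (Lpr_dt (K3.f65990 IH) (Lpr_gt (K3.f64480 IH) (Lpe (K3.f64254 IH) (Lpr_et (K3.f66122 IH) (Lpr_gt (K63.f66123 IH) (Lpr_dt (f66128 IH) (Lpr_gt (f66129 IH) (Lpn (LP (LK LD1_c21 LD2_c45 LD3_c50)))))))))))))
theorem f436589 : Led Lsl_gt (LP (LK LD1_c14 LD2_c11 LD3_c37)) = (LP (LK LD1_c12 LD2_c35 LD3_c25)) :=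
  Lgr Lrot5 (Lpr_ft (K24.f93404 IH) (Lpr_at (K63.f436579 IH) (Lpe (f66109 IH) (Lpn (LP (LK LD1_c12 LD2_c35 LD3_c25))))))
theorem f666875 : Led Lsl_ft (LP (LK LD1_c14 LD2_c11 LD3_c19)) = (LP (LK LD1_c14 LD2_c36 LD3_c33)) :=
  Lgr Lrot54 (Lpe (K56.f88450 IH) (Lpr_ff (K63.f666870 IH) (Lpe (K63.f666874 IH) (Lpn (LP (LK LD1_c14 LD2_c36 LD3_c33))))))
theorem f96309 : Led Lsl_gt (LP (LK LD1_c14 LD2_c11 LD3_c19)) = (LP (LK LD1_c23 LD2_c46 LD3_c53)) :=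
  Lre_g IH (LK LD1_c14 LD2_c11 LD3_c19) (LK LD1_c23 LD2_c46 LD3_c53) Lrfl Lrfl
theorem f126404 : Led Lsl_dt (LP (LK LD1_c21 LD2_c41 LD3_c46)) = (LP (LK LD1_c12 LD2_c35 LD3_c23)) :=
  Lre_d IH (LK LD1_c21 LD2_c41 LD3_c46) (LK LD1_c12 LD2_c35 LD3_c23) Lrfl Lrfl
theorem f666866 : Led Lsl_af (LP (LK LD1_c21 LD2_c41 LD3_c46)) = (LP (LK LD1_c14 LD2_c36 LD3_c33)) :=
  Lgr Lrot117 (Lpr_dt (f126404 IH) (Lpr_at (K61.f666859 IH) (Lpr_dt (K63.f666865 IH) (Lpn (LP (LK LD1_c14 LD2_c36 LD3_c33))))))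
theorem f666905 : Led Lsl_gt (LP (LK LD1_c23 LD2_c46 LD3_c53)) = (LP (LK LD1_c21 LD2_c41 LD3_c46)) :=
  Lgr Lrot46 (Lpe (f96309 IH) (Lpr_ft (f666875 IH) (Lpe (f666866 IH) (Lpn (LP (LK LD1_c21 LD2_c41 LD3_c46))))))
theorem f812187 : Led Lsl_dt (LP (LK LD1_c21 LD2_c45 LD3_c58)) = (LP (LK LD1_c23 LD2_c46 LD3_c53)) :=
  Lgr Lrot171 (Lpe (f666944 IH) (Lpe (K63.f666936 IH) (Lpr_dt (f66187 IH) (Lpr_gf (f812185 IH) (Lpe (f66130 IH) (Lpr_et (f66127 IH) (Lpe (f436589 IH) (Lpe (K24.f126401 IH) (Lpr_dt (K61.f126407 IH) (Lpe (f666905 IH) (Lpn (LP (LK LD1_c23 LD2_c46 LD3_c53)))))))))))))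
theorem f96253 : Led Lsl_dt (LP (LK LD1_c6 LD2_c10 LD3_c34)) = (LP (LK LD1_c12 LD2_c1 LD3_c43)) :=
  Lre_d IH (LK LD1_c6 LD2_c10 LD3_c34) (LK LD1_c12 LD2_c1 LD3_c43) Lrfl Lrfl
theorem f807059 : Led Lsl_ct (LP (LK LD1_c13 LD2_c20 LD3_c51)) = (LP (LK LD1_c22 LD2_c37 LD3_c13)) :=
  Lre_c IH (LK LD1_c13 LD2_c20 LD3_c51) (LK LD1_c22 LD2_c37 LD3_c13) Lrfl Lrfl
theorem f65033 : Led Lsl_dt (LP (LK LD1_c7 LD2_c1 LD3_c29)) = (LP (LK LD1_c3 LD2_c29 LD3_c55)) :=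
  Lre_d IH (LK LD1_c7 LD2_c1 LD3_c29) (LK LD1_c3 LD2_c29 LD3_c55) Lrfl Lrfl
theorem f96251 : Led Lsl_cf (LP (LK LD1_c3 LD2_c29 LD3_c55)) = (LP (LK LD1_c6 LD2_c10 LD3_c34)) :=
  Lgr Lrot11 (Lpr_ct (K4.f96244 IH) (Lpn (LP (LK LD1_c6 LD2_c10 LD3_c34))))
theorem f96264 : Led Lsl_dt (LP (LK LD1_c12 LD2_c1 LD3_c43)) = (LP (LK LD1_c6 LD2_c10 LD3_c34)) :=
  Lre_d IH (LK LD1_c12 LD2_c1 LD3_c43) (LK LD1_c6 LD2_c10 LD3_c34) Lrfl Lrfl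
theorem f807063 : Led Lsl_gt (LP (LK LD1_c22 LD2_c37 LD3_c13)) = (LP (LK LD1_c14 LD2_c23 LD3_c55)) :=
  Lgr Lrot94 (Lpe (f807059 IH) (Lpr_gt (K63.f807060 IH) (Lpr_dt (K52.f65020 IH) (Lpr_gt (K52.f65019 IH) (Lpr_dt (f65033 IH) (Lpr_cf (f96251 IH) (Lpe (f96264 IH) (Lpe (K61.f96265 IH) (Lpe (K61.f712390 IH) (Lpn (LP (LK LD1_c14 LD2_c23 LD3_c55))))))))))))
theorem f812191 : Led Lsl_et (LP (LK LD1_c21 LD2_c45 LD3_c58)) = (LP (LK LD1_c22 LD2_c37 LD3_c13)) :=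
  Lgr Lrot121 (Lpr_dt (f812187 IH) (Lpe (f96309 IH) (Lpe (K56.f88450 IH) (Lpr_et (K61.f88453 IH) (Lpr_gf (K3.f96228 IH) (Lpe (K4.f96243 IH) (Lpr_dt (f96253 IH) (Lpe (K61.f96265 IH) (Lpe (K61.f712390 IH) (Lpe (f807063 IH) (Lpn (LP (LK LD1_c22 LD2_c37 LD3_c13)))))))))))))
theorem f807058 : Led Lsl_ct (LP (LK LD1_c22 LD2_c37 LD3_c13)) = (LP (LK LD1_c13 LD2_c20 LD3_c51)) :=
  Lre_c IH (LK LD1_c22 LD2_c37 LD3_c13) (LK LD1_c13 LD2_c20 LD3_c51) Lrfl Lrfl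
theorem f812193 : Led Lsl_cf (LP (LK LD1_c21 LD2_c45 LD3_c58)) = (LP (LK LD1_c14 LD2_c21 LD3_c3)) :=
  Lgr Lrot39 (Lpr_et (f812191 IH) (Lpr_ct (f807058 IH) (Lpr_et (K63.f807050 IH) (Lpn (LP (LK LD1_c14 LD2_c21 LD3_c3))))))
theorem f808672 : Led Lsl_ct (LP (LK LD1_c22 LD2_c37 LD3_c5)) = (LP (LK LD1_c14 LD2_c27 LD3_c3)) :=
  Lgr Lrot8 (Lpr_gt (K63.f63791 IH) (Lpr_dt (K61.f63967 IH) (Lpe (K61.f788899 IH) (Lpr_dt (K63.f88442 IH) (Lpr_cf (K6.f88440 IH) (Lpe (K6.f88175 IH) (Lpe (K63.f88191 IH) (Lpe (K63.f88446 IH) (Lpr_gf (K63.f808670 IH) (Lpn (LP (LK LD1_c14 LD2_c27 LD3_c3))))))))))))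
theorem f812229 : Led Lsl_gt (LP (LK LD1_c21 LD2_c45 LD3_c58)) = (LP (LK LD1_c22 LD2_c37 LD3_c5)) :=
  Lgr Lrot150 (Lpr_cf (f812193 IH) (Lpe (K63.f662130 IH) (Lpe (K63.f662138 IH) (Lpr_gt (K48.f667022 IH) (Lpr_ct (K63.f530330 IH) (Lpe (f811738 IH) (Lpr_ct (f812223 IH) (Lpr_df (f808667 IH) (Lpe (f808672 IH) (Lpn (LP (LK LD1_c22 LD2_c37 LD3_c5))))))))))))
theorem f812195 : Led Lsl_ef (LP (LK LD1_c21 LD2_c45 LD3_c58)) = (LP (LK LD1_c22 LD2_c37 LD3_c13)) :=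
  Lgr Lrot88 (Lpr_et (f812191 IH) (Lpn (LP (LK LD1_c22 LD2_c37 LD3_c13))))
theorem f812197 : Led Lsl_ct (LP (LK LD1_c21 LD2_c45 LD3_c58)) = (LP (LK LD1_c14 LD2_c21 LD3_c3)) :=
  Lgr Lrot15 (Lpr_ef (f812195 IH) (Lpe (f807059 IH) (Lpr_ef (K63.f807047 IH) (Lpn (LP (LK LD1_c14 LD2_c21 LD3_c3))))))
theorem f530327 : Led Lsl_dt (LP (LK LD1_c7 LD2_c44 LD3_c46)) = (LP (LK LD1_c3 LD2_c51 LD3_c36)) :=
  Lre_d IH (LK LD1_c7 LD2_c44 LD3_c46) (LK LD1_c3 LD2_c51 LD3_c36) Lrfl Lrfl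
theorem f812231 : Led Lsl_df (LP (LK LD1_c14 LD2_c36 LD3_c38)) = (LP (LK LD1_c22 LD2_c37 LD3_c5)) :=
  Lgr Lrot153 (Lpr_gt (K63.f810439 IH) (Lpr_dt (f530327 IH) (Lpe (K48.f530323 IH) (Lpe (K63.f530320 IH) (Lpe (K48.f667000 IH) (Lpr_df (K63.f810433 IH) (Lpr_gf (K63.f807052 IH) (Lpe (f812197 IH) (Lpr_gt (f812229 IH) (Lpn (LP (LK LD1_c22 LD2_c37 LD3_c5))))))))))))
theorem f63769 : Led Lsl_ct (LP (LK LD1_c13 LD2_c20 LD3_c42)) = (LP (LK LD1_c7 LD2_c2 LD3_c12)) :=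
  Lre_c IH (LK LD1_c13 LD2_c20 LD3_c42) (LK LD1_c7 LD2_c2 LD3_c12) Lrfl Lrfl
def v19127 : LQ := Led Lsl_et (LP (LK LD1_c6 LD2_c38 LD3_c30))
theorem f777959 : Led Lsl_et (LP (LK LD1_c6 LD2_c38 LD3_c30)) = v19127 :=
  Lrfl
theorem f777961 : Led Lsl_ef (LP (LK LD1_c6 LD2_c38 LD3_c30)) = v19127 :=
  Lgr Lrot88 (Lpr_et (f777959 IH) (Lpn v19127))
theorem f117483 : Led Lsl_at (LP (LK LD1_c16 LD2_c59 LD3_c37)) = (LP (LK LD1_c11 LD2_c38 LD3_c45)) :=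
  Lgr Lrot100 (Lpr_af (K4.f117481 IH) (Lpn (LP (LK LD1_c11 LD2_c38 LD3_c45))))
theorem f119923 : Led Lsl_af (LP (LK LD1_c11 LD2_c38 LD3_c43)) = (LP (LK LD1_c12 LD2_c39 LD3_c23)) :=
  Lgr Lrot50 (Lpr_et (K4.f119921 IH) (Lpr_at (f117483 IH) (Lpe (K4.f117446 IH) (Lpn (LP (LK LD1_c12 LD2_c39 LD3_c23))))))
theorem f710045 : Led Lsl_gt (LP (LK LD1_c6 LD2_c36 LD3_c47)) = (LP (LK LD1_c6 LD2_c12 LD3_c1)) :=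
  Lgr Lrot5 (Lpr_ft (K6.f66284 IH) (Lpe (f119923 IH) (Lpr_gf (K52.f710043 IH) (Lpn (LP (LK LD1_c6 LD2_c12 LD3_c1))))))
theorem f66194 : Led Lsl_bt (LP (LK LD1_c3 LD2_c16 LD3_c48)) = (LP (LK LD1_c6 LD2_c36 LD3_c47)) :=
  Lre_b IH (LK LD1_c3 LD2_c16 LD3_c48) (LK LD1_c6 LD2_c36 LD3_c47) Lrfl Lrfl
def v7541 : LQ := Led Lsl_ct (LP (LK LD1_c3 LD2_c50 LD3_c40))
theorem f666467 : Led Lsl_ct (LP (LK LD1_c3 LD2_c50 LD3_c40)) = v7541 :=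
  Lrfl
theorem f666469 : Led Lsl_cf (LP (LK LD1_c3 LD2_c50 LD3_c40)) = v7541 :=
  Lgr Lrot11 (Lpr_ct (f666467 IH) (Lpn v7541))
theorem f140638 : Led Lsl_bt (LP (LK LD1_c6 LD2_c19 LD3_c7)) = (LP (LK LD1_c6 LD2_c12 LD3_c1)) :=
  Lgr Lrot119 (Lpe (K51.f140616 IH) (Lpe (K38.f140607 IH) (Lpr_ef (K38.f140636 IH) (Lpn (LP (LK LD1_c6 LD2_c12 LD3_c1))))))
theorem f87221 : Led Lsl_gt (LP (LK LD1_c6 LD2_c38 LD3_c30)) = (LP (LK LD1_c3 LD2_c17 LD3_c33)) :=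
  Lre_g IH (LK LD1_c6 LD2_c38 LD3_c30) (LK LD1_c3 LD2_c17 LD3_c33) Lrfl Lrfl
theorem f112078 : Led Lsl_gt (LP (LK LD1_c12 LD2_c27 LD3_c53)) = (LP (LK LD1_c6 LD2_c38 LD3_c30)) :=
  Lgr Lrot5 (Lpr_ft (K4.f112061 IH) (Lpr_at (K4.f112071 IH) (Lpe (f87221 IH) (Lpn (LP (LK LD1_c6 LD2_c38 LD3_c30))))))
theorem f715288 : v7541 = (LP (LK LD1_c6 LD2_c38 LD3_c30)) :=
  (Llr Lrot125 (Lpe (f666469 IH) (Lpr_gt (K48.f66195 IH) (Lpe (K3.f66162 IH) (Lpr_bt (f66194 IH) (Lpr_gt (f710045 IH) (Lpe (f140638 IH) (Lpr_ct (K38.f66982 IH) (Lpr_gt (K51.f647288 IH) (Lpqs (K51.f702911 IH) (Lpq (K51.f707513 IH) (Lpe (K52.f112022 IH) (Lpr_bt (K51.f112070 IH) (Lpr_gt (f112078 IH) (Lpn (LP (LK LD1_c6 LD2_c38 LD3_c30))))))))))))))))).symm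
theorem f777962 : Led Lsl_ct (LP (LK LD1_c7 LD2_c42 LD3_c27)) = v19127 :=
  Lgr Lrot15 (Lpe (K63.f662128 IH) (Lpr_cf (f666469 IH) (Lpqs (f715288 IH) (Lpr_ef (f777961 IH) (Lpn v19127)))))
theorem f666755 : Led Lsl_dt (LP (LK LD1_c3 LD2_c51 LD3_c31)) = (LP (LK LD1_c7 LD2_c44 LD3_c31)) :=
  Lre_d IH (LK LD1_c3 LD2_c51 LD3_c31) (LK LD1_c7 LD2_c44 LD3_c31) Lrfl Lrfl
theorem f715327 : Led Lsl_gt (LP (LK LD1_c7 LD2_c44 LD3_c31)) = (LP (LK LD1_c14 LD2_c36 LD3_c4)) :=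
  Lre_g IH (LK LD1_c7 LD2_c44 LD3_c31) (LK LD1_c14 LD2_c36 LD3_c4) Lrfl Lrfl
theorem f777963 : Led Lsl_df (LP (LK LD1_c14 LD2_c36 LD3_c4)) = v19127 :=
  Lgr Lrot132 (Lpe (f715327 IH) (Lpe (f666755 IH) (Lpe (K56.f87358 IH) (Lpe (K56.f87357 IH) (Lpr_dt (K1.f64605 IH) (Lpe (K1.f62191 IH) (Lpe (K2.f62184 IH) (Lpr_et (K4.f87183 IH) (Lpe (f87221 IH) (Lpr_ef (f777961 IH) (Lpn v19127)))))))))))
theorem f777966 : Led Lsl_dt (LP (LK LD1_c14 LD2_c36 LD3_c4)) = v19127 :=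
  Lgr Lrot42 (Lpr_df (f777963 IH) (Lpn v19127))
theorem f777967 : Led Lsl_ct (LP (LK LD1_c24 LD2_c19 LD3_c21)) = (LP (LK LD1_c14 LD2_c36 LD3_c4)) :=
  Lre_c IH (LK LD1_c24 LD2_c19 LD3_c21) (LK LD1_c14 LD2_c36 LD3_c4) Lrfl Lrfl
theorem f812235 : Led Lsl_gt (LP (LK LD1_c14 LD2_c36 LD3_c39)) = (LP (LK LD1_c24 LD2_c19 LD3_c21)) :=
  Lgr Lrot150 (Lpe (K63.f666839 IH) (Lpe (K63.f810439 IH) (Lpr_df (f812231 IH) (Lpr_gt (K63.f63791 IH) (Lpr_ct (f63769 IH) (Lpr_gt (K63.f789086 IH) (Lpqs (K63.f807065 IH) (Lpr_ct (f777962 IH) (Lpe (f777966 IH) (Lpe (f777967 IH) (Lpn (LP (LK LD1_c24 LD2_c19 LD3_c21)))))))))))))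
theorem f666982 : Led Lsl_dt (LP (LK LD1_c14 LD2_c36 LD3_c18)) = (LP (LK LD1_c7 LD2_c44 LD3_c37)) :=
  Lre_d IH (LK LD1_c14 LD2_c36 LD3_c18) (LK LD1_c7 LD2_c44 LD3_c37) Lrfl Lrfl
theorem f666885 : Led Lsl_ct (LP (LK LD1_c7 LD2_c44 LD3_c37)) = (LP (LK LD1_c3 LD2_c51 LD3_c33)) :=
  Lre_c IH (LK LD1_c7 LD2_c44 LD3_c37) (LK LD1_c3 LD2_c51 LD3_c33) Lrfl Lrfl
theorem f66428 : Led Lsl_dt (LP (LK LD1_c1 LD2_c52 LD3_c33)) = (LP (LK LD1_c3 LD2_c51 LD3_c33)) :=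
  Lre_d IH (LK LD1_c1 LD2_c52 LD3_c33) (LK LD1_c3 LD2_c51 LD3_c33) Lrfl Lrfl
theorem f788992 : Led Lsl_gt (LP (LK LD1_c24 LD2_c19 LD3_c21)) = (LP (LK LD1_c14 LD2_c37 LD3_c2)) :=
  Lre_g IH (LK LD1_c24 LD2_c19 LD3_c21) (LK LD1_c14 LD2_c37 LD3_c2) Lrfl Lrfl
theorem f777964 : Led Lsl_ct (LP (LK LD1_c14 LD2_c36 LD3_c4)) = (LP (LK LD1_c24 LD2_c19 LD3_c21)) :=
  Lre_c IH (LK LD1_c14 LD2_c36 LD3_c4) (LK LD1_c24 LD2_c19 LD3_c21) Lrfl Lrfl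
theorem f788999 : Led Lsl_gf (LP (LK LD1_c7 LD2_c44 LD3_c34)) = (LP (LK LD1_c14 LD2_c36 LD3_c4)) :=
  Lgr Lrot144 (Lpr_dt (f666762 IH) (Lpr_gt (f530310 IH) (Lpr_dt (f66428 IH) (Lpe (f666885 IH) (Lpe (f666982 IH) (Lpe (K61.f776024 IH) (Lpr_df (K63.f788986 IH) (Lpe (f788992 IH) (Lpe (f777964 IH) (Lpn (LP (LK LD1_c14 LD2_c36 LD3_c4))))))))))))
theorem f666759 : Led Lsl_ct (LP (LK LD1_c7 LD2_c44 LD3_c34)) = (LP (LK LD1_c14 LD2_c36 LD3_c10)) :=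
  Lre_c IH (LK LD1_c7 LD2_c44 LD3_c34) (LK LD1_c14 LD2_c36 LD3_c10) Lrfl Lrfl
theorem f812237 : Led Lsl_ct (LP (LK LD1_c14 LD2_c37 LD3_c44)) = (LP (LK LD1_c24 LD2_c19 LD3_c28)) :=
  Lgr Lrot110 (Lpe (f788991 IH) (Lpe (K63.f788995 IH) (Lpe (K63.f788994 IH) (Lpr_df (K63.f811685 IH) (Lpr_gt (f812235 IH) (Lpr_ct (f777967 IH) (Lpe (f788999 IH) (Lpr_ct (f666759 IH) (Lpe (f666794 IH) (Lpn (LP (LK LD1_c24 LD2_c19 LD3_c28))))))))))))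
def v22218 : LQ := Led Lsl_ft (LP (LK LD1_c7 LD2_c32 LD3_c53))
theorem f804844 : Led Lsl_ft (LP (LK LD1_c7 LD2_c32 LD3_c53)) = v22218 :=
  Lrfl
def v22214 : LQ := Led Lsl_at (LP (LK LD1_c7 LD2_c32 LD3_c53))
theorem f804826 : Led Lsl_at (LP (LK LD1_c7 LD2_c32 LD3_c53)) = v22214 :=
  Lrfl
theorem f804827 : Led Lsl_af (LP (LK LD1_c7 LD2_c32 LD3_c53)) = v22214 :=
  Lgr Lrot0 (Lpr_at (f804826 IH) (Lpn v22214))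
theorem f804828 : Led Lsl_ft (LP (LK LD1_c7 LD2_c32 LD3_c54)) = v22214 :=
  Lgr Lrot2 (Lpr_gt (K63.f88176 IH) (Lpr_gt (K63.f88179 IH) (Lpr_af (f804827 IH) (Lpn v22214))))
theorem f804845 : Led Lsl_af (LP (LK LD1_c7 LD2_c32 LD3_c54)) = v22218 :=
  Lgr Lrot45 (Lpr_ft (f804828 IH) (Lpe (f804827 IH) (Lpr_ft (f804844 IH) (Lpn v22218))))
theorem f839875 : Led Lsl_df (LP (LK LD1_c14 LD2_c37 LD3_c44)) = (LP (LK LD1_c23 LD2_c49 LD3_c29)) :=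
  Lgr Lrot106 (Lpr_ct (f812237 IH) (Lpr_dt (f666794 IH) (Lpr_ct (f666793 IH) (Lpr_dt (f666762 IH) (Lpqs (f839781 IH) (Lpe (f804849 IH) (Lpr_af (f804845 IH) (Lpe (f804844 IH) (Lpr_dt (K63.f88304 IH) (Lpr_ct (f88313 IH) (Lpn (LP (LK LD1_c23 LD2_c49 LD3_c29)))))))))))))
theorem f443652 : Led Lsl_dt (LP (LK LD1_c7 LD2_c44 LD3_c31)) = (LP (LK LD1_c3 LD2_c51 LD3_c31)) :=
  Lre_d IH (LK LD1_c7 LD2_c44 LD3_c31) (LK LD1_c3 LD2_c51 LD3_c31) Lrfl Lrfl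
theorem f666774 : Led Lsl_ct (LP (LK LD1_c14 LD2_c36 LD3_c6)) = (LP (LK LD1_c7 LD2_c44 LD3_c31)) :=
  Lre_c IH (LK LD1_c14 LD2_c36 LD3_c6) (LK LD1_c7 LD2_c44 LD3_c31) Lrfl Lrfl
theorem f666775 : Led Lsl_dt (LP (LK LD1_c24 LD2_c19 LD3_c25)) = (LP (LK LD1_c14 LD2_c36 LD3_c6)) :=
  Lre_d IH (LK LD1_c24 LD2_c19 LD3_c25) (LK LD1_c14 LD2_c36 LD3_c6) Lrfl Lrfl
theorem f839971 : Led Lsl_ct v22963 = (LP (LK LD1_c24 LD2_c19 LD3_c25)) :=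
  Lgr Lrot176 (Lpr_df (f839966 IH) (Lpe (f127820 IH) (Lpe (f88337 IH) (Lpr_cf (f804849 IH) (Lpq (f839781 IH) (Lpe (f666762 IH) (Lpe (f666793 IH) (Lpe (f666794 IH) (Lpe (f812237 IH) (Lpr_df (f839875 IH) (Lpe (f88313 IH) (Lpe (K63.f88304 IH) (Lpr_cf (f804834 IH) (Lpq (f839789 IH) (Lpe (f443652 IH) (Lpe (f666774 IH) (Lpe (f666775 IH) (Lpn (LP (LK LD1_c24 LD2_c19 LD3_c25))))))))))))))))))))
theorem f839942 : Led Lsl_cf (LP (LK LD1_c14 LD2_c37 LD3_c34)) = (LP (LK LD1_c24 LD2_c19 LD3_c33)) :=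
  Lgr Lrot11 (Lpr_ct (f839889 IH) (Lpn (LP (LK LD1_c24 LD2_c19 LD3_c33))))
theorem f813664 : Led Lsl_dt (LP (LK LD1_c14 LD2_c36 LD3_c14)) = (LP (LK LD1_c24 LD2_c19 LD3_c33)) :=
  Lre_d IH (LK LD1_c14 LD2_c36 LD3_c14) (LK LD1_c24 LD2_c19 LD3_c33) Lrfl Lrfl
theorem f810451 : Led Lsl_dt (LP (LK LD1_c7 LD2_c45 LD3_c13)) = (LP (LK LD1_c14 LD2_c37 LD3_c37)) :=
  Lre_d IH (LK LD1_c7 LD2_c45 LD3_c13) (LK LD1_c14 LD2_c37 LD3_c37) Lrfl Lrfl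
def v22904 : LQ := Led Lsl_at (LP (LK LD1_c7 LD2_c44 LD3_c35))
theorem f813634 : Led Lsl_at (LP (LK LD1_c7 LD2_c44 LD3_c35)) = v22904 :=
  Lrfl
theorem f813635 : Led Lsl_af (LP (LK LD1_c7 LD2_c44 LD3_c35)) = v22904 :=
  Lgr Lrot0 (Lpr_at (f813634 IH) (Lpn v22904))
theorem f650130 : Led Lsl_gt (LP (LK LD1_c3 LD2_c51 LD3_c33)) = (LP (LK LD1_c7 LD2_c44 LD3_c35)) :=
  Lre_g IH (LK LD1_c3 LD2_c51 LD3_c33) (LK LD1_c7 LD2_c44 LD3_c35) Lrfl Lrfl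
theorem f66429 : Led Lsl_gt (LP (LK LD1_c7 LD2_c44 LD3_c36)) = (LP (LK LD1_c3 LD2_c51 LD3_c33)) :=
  Lre_g IH (LK LD1_c7 LD2_c44 LD3_c36) (LK LD1_c3 LD2_c51 LD3_c33) Lrfl Lrfl
theorem f813638 : Led Lsl_ft (LP (LK LD1_c7 LD2_c44 LD3_c36)) = v22904 :=
  Lgr Lrot2 (Lpr_gt (f66429 IH) (Lpr_gt (f650130 IH) (Lpr_af (f813635 IH) (Lpn v22904))))
theorem f813636 : Led Lsl_ct (LP (LK LD1_c14 LD2_c36 LD3_c12)) = (LP (LK LD1_c7 LD2_c44 LD3_c35)) :=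
  Lre_c IH (LK LD1_c14 LD2_c36 LD3_c12) (LK LD1_c7 LD2_c44 LD3_c35) Lrfl Lrfl
theorem f813639 : Led Lsl_dt (LP (LK LD1_c24 LD2_c19 LD3_c31)) = (LP (LK LD1_c14 LD2_c36 LD3_c12)) :=
  Lre_d IH (LK LD1_c24 LD2_c19 LD3_c31) (LK LD1_c14 LD2_c36 LD3_c12) Lrfl Lrfl
theorem f839891 : Led Lsl_ct (LP (LK LD1_c14 LD2_c37 LD3_c37)) = (LP (LK LD1_c24 LD2_c19 LD3_c31)) :=
  Lgr Lrot53 (Lpe (f810451 IH) (Lpr_cf (f814053 IH) (Lpqs (f839884 IH) (Lpe (K63.f88446 IH) (Lpr_cf (f839888 IH) (Lpe (f813659 IH) (Lpr_ft (f813638 IH) (Lpe (f813635 IH) (Lpe (f813636 IH) (Lpe (f813639 IH) (Lpn (LP (LK LD1_c24 LD2_c19 LD3_c31)))))))))))))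
theorem f839894 : Led Lsl_cf (LP (LK LD1_c14 LD2_c37 LD3_c37)) = (LP (LK LD1_c24 LD2_c19 LD3_c31)) :=
  Lgr Lrot11 (Lpr_ct (f839891 IH) (Lpn (LP (LK LD1_c24 LD2_c19 LD3_c31))))
theorem f812779 : Led Lsl_dt (LP (LK LD1_c14 LD2_c37 LD3_c37)) = (LP (LK LD1_c7 LD2_c45 LD3_c13)) :=
  Lre_d IH (LK LD1_c14 LD2_c37 LD3_c37) (LK LD1_c7 LD2_c45 LD3_c13) Lrfl Lrfl
theorem f788925 : Led Lsl_dt (LP (LK LD1_c14 LD2_c21 LD3_c2)) = (LP (LK LD1_c23 LD2_c58 LD3_c60)) :=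
  Lre_d IH (LK LD1_c14 LD2_c21 LD3_c2) (LK LD1_c23 LD2_c58 LD3_c60) Lrfl Lrfl
theorem f63786 : Led Lsl_ct (LP (LK LD1_c14 LD2_c21 LD3_c6)) = (LP (LK LD1_c7 LD2_c36 LD3_c44)) :=
  Lre_c IH (LK LD1_c14 LD2_c21 LD3_c6) (LK LD1_c7 LD2_c36 LD3_c44) Lrfl Lrfl
theorem f812689 : Led Lsl_ff (LP (LK LD1_c14 LD2_c21 LD3_c6)) = (LP (LK LD1_c7 LD2_c45 LD3_c5)) :=
  Lgr Lrot23 (Lpr_ct (f63786 IH) (Lpqs (K63.f812512 IH) (Lpe (K63.f667102 IH) (Lpr_ct (K61.f103873 IH) (Lpn (LP (LK LD1_c7 LD2_c45 LD3_c5)))))))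
theorem f812706 : Led Lsl_at (LP (LK LD1_c14 LD2_c21 LD3_c6)) = (LP (LK LD1_c7 LD2_c45 LD3_c9)) :=
  Lgr Lrot26 (Lpr_ff (f812689 IH) (Lpr_gt (K61.f666909 IH) (Lpr_gt (K63.f788955 IH) (Lpn (LP (LK LD1_c7 LD2_c45 LD3_c9))))))
theorem f812708 : Led Lsl_af (LP (LK LD1_c14 LD2_c21 LD3_c6)) = (LP (LK LD1_c7 LD2_c45 LD3_c9)) :=
  Lgr Lrot0 (Lpr_at (f812706 IH) (Lpn (LP (LK LD1_c7 LD2_c45 LD3_c9))))
theorem f788921 : Led Lsl_at (LP (LK LD1_c14 LD2_c37 LD3_c17)) = (LP (LK LD1_c23 LD2_c58 LD3_c59)) :=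
  Lgr Lrot107 (Lpe (K63.f666914 IH) (Lpe (K61.f127786 IH) (Lpr_cf (K61.f788919 IH) (Lpn (LP (LK LD1_c23 LD2_c58 LD3_c59))))))
theorem f788939 : Led Lsl_at (LP (LK LD1_c14 LD2_c37 LD3_c18)) = (LP (LK LD1_c14 LD2_c13 LD3_c61)) :=
  Lgr Lrot66 (Lpr_ff (K61.f788937 IH) (Lpe (f788921 IH) (Lpe (K63.f666916 IH) (Lpn (LP (LK LD1_c14 LD2_c13 LD3_c61))))))
theorem f14486 : Led Lsl_gt (LP (LK LD1_c1 LD2_c52 LD3_c37)) = (LP (LK LD1_c3 LD2_c47 LD3_c48)) :=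
  Lre_g IH (LK LD1_c1 LD2_c52 LD3_c37) (LK LD1_c3 LD2_c47 LD3_c48) Lrfl Lrfl
theorem f63771 : Led Lsl_ct (LP (LK LD1_c7 LD2_c36 LD3_c44)) = (LP (LK LD1_c14 LD2_c21 LD3_c6)) :=
  Lre_c IH (LK LD1_c7 LD2_c36 LD3_c44) (LK LD1_c14 LD2_c21 LD3_c6) Lrfl Lrfl
theorem f88168 : Led Lsl_ct (LP (LK LD1_c14 LD2_c13 LD3_c61)) = (LP (LK LD1_c7 LD2_c32 LD3_c55)) :=
  Lre_c IH (LK LD1_c14 LD2_c13 LD3_c61) (LK LD1_c7 LD2_c32 LD3_c55) Lrfl Lrfl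
theorem f712485 : Led Lsl_gt (LP (LK LD1_c14 LD2_c21 LD3_c6)) = (LP (LK LD1_c14 LD2_c13 LD3_c61)) :=
  Lgr Lrot150 (Lpe (f63771 IH) (Lpe (K3.f63762 IH) (Lpe (K3.f63761 IH) (Lpr_gt (f14486 IH) (Lpr_ct (K63.f14489 IH) (Lpr_gt (K63.f712480 IH) (Lpr_ct (K6.f88434 IH) (Lpe (K6.f88175 IH) (Lpe (f88168 IH) (Lpn (LP (LK LD1_c14 LD2_c13 LD3_c61))))))))))))
theorem f788944 : Led Lsl_gf (LP (LK LD1_c14 LD2_c21 LD3_c6)) = (LP (LK LD1_c23 LD2_c58 LD3_c59)) :=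
  Lgr Lrot47 (Lpr_gt (f712485 IH) (Lpe (f788939 IH) (Lpr_ff (K61.f788937 IH) (Lpn (LP (LK LD1_c23 LD2_c58 LD3_c59))))))
theorem f812716 : Led Lsl_ft (LP (LK LD1_c14 LD2_c21 LD3_c2)) = (LP (LK LD1_c7 LD2_c45 LD3_c9)) :=
  Lgr Lrot2 (Lpr_gt (K61.f788918 IH) (Lpe (f788944 IH) (Lpr_af (f812708 IH) (Lpn (LP (LK LD1_c7 LD2_c45 LD3_c9))))))
theorem f812722 : Led Lsl_ff (LP (LK LD1_c14 LD2_c21 LD3_c2)) = (LP (LK LD1_c7 LD2_c45 LD3_c9)) :=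
  Lgr Lrot3 (Lpr_ft (f812716 IH) (Lpn (LP (LK LD1_c7 LD2_c45 LD3_c9))))
theorem f667103 : Led Lsl_dt (LP (LK LD1_c14 LD2_c37 LD3_c27)) = (LP (LK LD1_c7 LD2_c45 LD3_c9)) :=
  Lre_d IH (LK LD1_c14 LD2_c37 LD3_c27) (LK LD1_c7 LD2_c45 LD3_c9) Lrfl Lrfl
theorem f812726 : Led Lsl_ft (LP (LK LD1_c23 LD2_c58 LD3_c60)) = (LP (LK LD1_c14 LD2_c37 LD3_c27)) :=
  Lgr Lrot54 (Lpe (f788925 IH) (Lpr_ff (f812722 IH) (Lpe (f667103 IH) (Lpn (LP (LK LD1_c14 LD2_c37 LD3_c27))))))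
theorem f63787 : Led Lsl_dt (LP (LK LD1_c23 LD2_c59 LD3_c3)) = (LP (LK LD1_c14 LD2_c21 LD3_c6)) :=
  Lre_d IH (LK LD1_c23 LD2_c59 LD3_c3) (LK LD1_c14 LD2_c21 LD3_c6) Lrfl Lrfl
theorem f788960 : Led Lsl_dt (LP (LK LD1_c7 LD2_c45 LD3_c9)) = (LP (LK LD1_c14 LD2_c37 LD3_c27)) :=
  Lre_d IH (LK LD1_c7 LD2_c45 LD3_c9) (LK LD1_c14 LD2_c37 LD3_c27) Lrfl Lrfl
theorem f812710 : Led Lsl_af (LP (LK LD1_c23 LD2_c59 LD3_c3)) = (LP (LK LD1_c14 LD2_c37 LD3_c27)) :=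
  Lgr Lrot117 (Lpr_dt (f63787 IH) (Lpr_at (f812706 IH) (Lpr_dt (f788960 IH) (Lpn (LP (LK LD1_c14 LD2_c37 LD3_c27))))))
theorem f811740 : Led Lsl_dt (LP (LK LD1_c14 LD2_c36 LD3_c47)) = (LP (LK LD1_c24 LD2_c20 LD3_c5)) :=
  Lre_d IH (LK LD1_c14 LD2_c36 LD3_c47) (LK LD1_c24 LD2_c20 LD3_c5) Lrfl Lrfl
theorem f811741 : Led Lsl_gt (LP (LK LD1_c24 LD2_c20 LD3_c5)) = (LP (LK LD1_c23 LD2_c59 LD3_c3)) :=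
  Lgr Lrot49 (Lpe (f811740 IH) (Lpr_gf (f811738 IH) (Lpe (K63.f530330 IH) (Lpr_gt (K48.f667009 IH) (Lpr_dt (K63.f810427 IH) (Lpr_gt (K63.f63781 IH) (Lpr_dt (K3.f63763 IH) (Lpe (f63786 IH) (Lpe (f63787 IH) (Lpn (LP (LK LD1_c23 LD2_c59 LD3_c3))))))))))))
theorem f812731 : Led Lsl_gt (LP (LK LD1_c23 LD2_c58 LD3_c60)) = (LP (LK LD1_c24 LD2_c20 LD3_c5)) :=
  Lgr Lrot5 (Lpr_ft (f812726 IH) (Lpe (f812710 IH) (Lpe (f811741 IH) (Lpn (LP (LK LD1_c24 LD2_c20 LD3_c5))))))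
theorem f813643 : Led Lsl_gt (LP (LK LD1_c31 LD2_c28 LD3_c28)) = (LP (LK LD1_c24 LD2_c19 LD3_c31)) :=
  Lre_g IH (LK LD1_c31 LD2_c28 LD3_c28) (LK LD1_c24 LD2_c19 LD3_c31) Lrfl Lrfl
theorem f839898 : Led Lsl_ct (LP (LK LD1_c24 LD2_c20 LD3_c5)) = (LP (LK LD1_c31 LD2_c28 LD3_c28)) :=
  Lgr Lrot152 (Lpe (f812731 IH) (Lpe (f788925 IH) (Lpr_gt (K61.f788918 IH) (Lpe (K61.f788919 IH) (Lpr_gt (K63.f127780 IH) (Lpq (f839884 IH) (Lpe (f814053 IH) (Lpe (f812779 IH) (Lpr_cf (f839894 IH) (Lpe (f813643 IH) (Lpn (LP (LK LD1_c31 LD2_c28 LD3_c28)))))))))))))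
theorem f88197 : Led Lsl_dt (LP (LK LD1_c14 LD2_c13 LD3_c61)) = (LP (LK LD1_c23 LD2_c49 LD3_c35)) :=
  Lre_d IH (LK LD1_c14 LD2_c13 LD3_c61) (LK LD1_c23 LD2_c49 LD3_c35) Lrfl Lrfl
theorem f666779 : Led Lsl_gt (LP (LK LD1_c14 LD2_c36 LD3_c12)) = (LP (LK LD1_c24 LD2_c19 LD3_c30)) :=
  Lre_g IH (LK LD1_c14 LD2_c36 LD3_c12) (LK LD1_c24 LD2_c19 LD3_c30) Lrfl Lrfl
theorem f839904 : Led Lsl_df (LP (LK LD1_c31 LD2_c14 LD3_c15)) = (LP (LK LD1_c24 LD2_c19 LD3_c30)) :=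
  Lgr Lrot174 (Lpr_ct (K63.f88452 IH) (Lpe (f88197 IH) (Lpe (f712485 IH) (Lpe (f63787 IH) (Lpe (f811741 IH) (Lpr_ct (f839898 IH) (Lpr_gt (f813643 IH) (Lpr_dt (f813639 IH) (Lpr_gt (f666779 IH) (Lpn (LP (LK LD1_c24 LD2_c19 LD3_c30))))))))))))
theorem f666778 : Led Lsl_ct (LP (LK LD1_c7 LD2_c44 LD3_c35)) = (LP (LK LD1_c14 LD2_c36 LD3_c12)) :=
  Lre_c IH (LK LD1_c7 LD2_c44 LD3_c35) (LK LD1_c14 LD2_c36 LD3_c12) Lrfl Lrfl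
theorem f810340 : Led Lsl_gt (LP (LK LD1_c7 LD2_c44 LD3_c35)) = (LP (LK LD1_c12 LD2_c45 LD3_c52)) :=
  Lre_g IH (LK LD1_c7 LD2_c44 LD3_c35) (LK LD1_c12 LD2_c45 LD3_c52) Lrfl Lrfl
theorem f666797 : Led Lsl_dt (LP (LK LD1_c12 LD2_c45 LD3_c52)) = (LP (LK LD1_c6 LD2_c39 LD3_c60)) :=
  Lre_d IH (LK LD1_c12 LD2_c45 LD3_c52) (LK LD1_c6 LD2_c39 LD3_c60) Lrfl Lrfl
theorem f666789 : Led Lsl_gt (LP (LK LD1_c6 LD2_c39 LD3_c60)) = (LP (LK LD1_c3 LD2_c51 LD3_c32)) :=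
  Lre_g IH (LK LD1_c6 LD2_c39 LD3_c60) (LK LD1_c3 LD2_c51 LD3_c32) Lrfl Lrfl
theorem f666758 : Led Lsl_dt (LP (LK LD1_c3 LD2_c51 LD3_c32)) = (LP (LK LD1_c7 LD2_c44 LD3_c34)) :=
  Lre_d IH (LK LD1_c3 LD2_c51 LD3_c32) (LK LD1_c7 LD2_c44 LD3_c34) Lrfl Lrfl
theorem f839914 : Led Lsl_gt (LP (LK LD1_c31 LD2_c14 LD3_c15)) = (LP (LK LD1_c24 LD2_c19 LD3_c28)) :=
  Lgr Lrot49 (Lpr_df (f839904 IH) (Lpe (f666779 IH) (Lpe (f666778 IH) (Lpr_gt (f810340 IH) (Lpr_dt (f666797 IH) (Lpr_gt (f666789 IH) (Lpr_dt (f666758 IH) (Lpe (f666793 IH) (Lpe (f666794 IH) (Lpn (LP (LK LD1_c24 LD2_c19 LD3_c28))))))))))))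
theorem f812240 : Led Lsl_cf (LP (LK LD1_c14 LD2_c37 LD3_c44)) = (LP (LK LD1_c24 LD2_c19 LD3_c28)) :=
  Lgr Lrot11 (Lpr_ct (f812237 IH) (Lpn (LP (LK LD1_c24 LD2_c19 LD3_c28))))
theorem f666807 : Led Lsl_ct (LP (LK LD1_c3 LD2_c51 LD3_c33)) = (LP (LK LD1_c7 LD2_c44 LD3_c37)) :=
  Lre_c IH (LK LD1_c3 LD2_c51 LD3_c33) (LK LD1_c7 LD2_c44 LD3_c37) Lrfl Lrfl
theorem f839916 : Led Lsl_gf (LP (LK LD1_c14 LD2_c36 LD3_c14)) = (LP (LK LD1_c24 LD2_c19 LD3_c30)) :=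
  Lgr Lrot147 (Lpr_ct (f812260 IH) (Lpr_gt (f66429 IH) (Lpr_ct (f666807 IH) (Lpe (f666982 IH) (Lpe (f788984 IH) (Lpe (f205898 IH) (Lpr_cf (f812240 IH) (Lpe (f839914 IH) (Lpr_df (f839904 IH) (Lpn (LP (LK LD1_c24 LD2_c19 LD3_c30))))))))))))
theorem f839908 : Led Lsl_dt (LP (LK LD1_c31 LD2_c14 LD3_c15)) = (LP (LK LD1_c24 LD2_c19 LD3_c30)) :=
  Lgr Lrot42 (Lpr_df (f839904 IH) (Lpn (LP (LK LD1_c24 LD2_c19 LD3_c30))))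
theorem f839979 : Led Lsl_gf (LP (LK LD1_c31 LD2_c14 LD3_c15)) = (LP (LK LD1_c24 LD2_c19 LD3_c25)) :=
  Lgr Lrot148 (Lpr_dt (f839908 IH) (Lpe (f839916 IH) (Lpr_dt (f813664 IH) (Lpe (f839942 IH) (Lpe (f461276 IH) (Lpe (K63.f461271 IH) (Lpe (K63.f667024 IH) (Lpr_gf (f814060 IH) (Lpr_ct (f839971 IH) (Lpn (LP (LK LD1_c24 LD2_c19 LD3_c25))))))))))))
theorem f839980 : Led Lsl_gt (LP (LK LD1_c24 LD2_c19 LD3_c25)) = (LP (LK LD1_c31 LD2_c14 LD3_c15)) :=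
  Leop (Lpr_gf (f839979 IH) (Lpn (LP (LK LD1_c24 LD2_c19 LD3_c25))))
theorem seed_1953 : LEOK LG_g (LK LD1_c24 LD2_c19 LD3_c25) :=
  Leoe_g (LK LD1_c24 LD2_c19 LD3_c25) (f839980 IH)
theorem f666781 : Led Lsl_dt (LP (LK LD1_c14 LD2_c36 LD3_c6)) = (LP (LK LD1_c24 LD2_c19 LD3_c25)) :=
  Lre_d IH (LK LD1_c14 LD2_c36 LD3_c6) (LK LD1_c24 LD2_c19 LD3_c25) Lrfl Lrfl
theorem f666780 : Led Lsl_ct (LP (LK LD1_c7 LD2_c44 LD3_c31)) = (LP (LK LD1_c14 LD2_c36 LD3_c6)) :=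
  Lre_c IH (LK LD1_c7 LD2_c44 LD3_c31) (LK LD1_c14 LD2_c36 LD3_c6) Lrfl Lrfl
theorem f666777 : Led Lsl_gt (LP (LK LD1_c14 LD2_c36 LD3_c5)) = (LP (LK LD1_c7 LD2_c44 LD3_c31)) :=
  Lre_g IH (LK LD1_c14 LD2_c36 LD3_c5) (LK LD1_c7 LD2_c44 LD3_c31) Lrfl Lrfl
theorem f811698 : Led Lsl_ct (LP (LK LD1_c24 LD2_c19 LD3_c22)) = (LP (LK LD1_c14 LD2_c36 LD3_c5)) :=
  Lre_c IH (LK LD1_c24 LD2_c19 LD3_c22) (LK LD1_c14 LD2_c36 LD3_c5) Lrfl Lrfl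
theorem f839981 : Led Lsl_gt (LP (LK LD1_c14 LD2_c37 LD3_c2)) = (LP (LK LD1_c24 LD2_c19 LD3_c22)) :=
  Lgr Lrot9 (Lpe (K61.f788978 IH) (Lpr_gt (K61.f776024 IH) (Lpr_ct (K61.f788971 IH) (Lpr_gt (f814063 IH) (Lpr_ct (f839971 IH) (Lpe (f666781 IH) (Lpe (f666780 IH) (Lpe (f666777 IH) (Lpe (f811698 IH) (Lpn (LP (LK LD1_c24 LD2_c19 LD3_c22))))))))))))
theorem f839982 : Led Lsl_gt (LP (LK LD1_c14 LD2_c37 LD3_c2)) = (LP (LK LD1_c24 LD2_c19 LD3_c22)) :=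
  Leop (Lpe (f839981 IH) (Lpn (LP (LK LD1_c14 LD2_c37 LD3_c2))))
theorem seed_1954 : LEOK LG_g (LK LD1_c14 LD2_c37 LD3_c2) :=
  Leoe_g (LK LD1_c14 LD2_c37 LD3_c2) (f839982 IH)
def v7593 : LQ := Led Lsl_et (LP (LK LD1_c3 LD2_c52 LD3_c6))
def v27514 : LQ := Led Lsl_gf v7593
theorem f840048 : Led Lsl_gf v7593 = v27514 :=
  Lrfl
theorem f667135 : Led Lsl_et (LP (LK LD1_c3 LD2_c52 LD3_c6)) = v7593 :=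
  Lrfl
theorem f492523 : Led Lsl_et (LP (LK LD1_c13 LD2_c12 LD3_c60)) = (LP (LK LD1_c6 LD2_c57 LD3_c34)) :=
  Lre_e IH (LK LD1_c13 LD2_c12 LD3_c60) (LK LD1_c6 LD2_c57 LD3_c34) Lrfl Lrfl
theorem f667139 : Led Lsl_ff (LP (LK LD1_c13 LD2_c12 LD3_c60)) = v7593 :=
  Lgr Lrot72 (Lpr_et (f492523 IH) (Lpe (K34.f492515 IH) (Lpr_et (K34.f457918 IH) (Lpr_ft (K41.f492449 IH) (Lpr_et (f667135 IH) (Lpn v7593))))))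
theorem f492284 : Led Lsl_ft (LP (LK LD1_c7 LD2_c46 LD3_c5)) = (LP (LK LD1_c3 LD2_c52 LD3_c7)) :=
  Lre_f IH (LK LD1_c7 LD2_c46 LD3_c5) (LK LD1_c3 LD2_c52 LD3_c7) Lrfl Lrfl
theorem f667141 : Led Lsl_ct (LP (LK LD1_c3 LD2_c52 LD3_c7)) = v7593 :=
  Lgr Lrot40 (Lpe (f492284 IH) (Lpr_cf (K34.f491994 IH) (Lpr_ff (f667139 IH) (Lpn v7593))))
theorem f478468 : Led Lsl_bt (LP (LK LD1_c3 LD2_c52 LD3_c7)) = (LP (LK LD1_c1 LD2_c52 LD3_c46)) :=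
  Lre_b IH (LK LD1_c3 LD2_c52 LD3_c7) (LK LD1_c1 LD2_c52 LD3_c46) Lrfl Lrfl
theorem f62734 : Led Lsl_bt (LP (LK LD1_c3 LD2_c53 LD3_c1)) = (LP (LK LD1_c7 LD2_c47 LD3_c54)) :=
  Lre_b IH (LK LD1_c3 LD2_c53 LD3_c1) (LK LD1_c7 LD2_c47 LD3_c54) Lrfl Lrfl
def v22518 : LQ := Led Lsl_et (LP (LK LD1_c7 LD2_c38 LD3_c7))
theorem f807455 : Led Lsl_et (LP (LK LD1_c7 LD2_c38 LD3_c7)) = v22518 :=
  Lrfl
theorem f807456 : Led Lsl_bf (LP (LK LD1_c7 LD2_c38 LD3_c10)) = v22518 :=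
  Lgr Lrot96 (Lpr_et (K62.f429004 IH) (Lpr_bt (K37.f487011 IH) (Lpr_et (f807455 IH) (Lpn v22518))))
theorem f840050 : Led Lsl_ct v22518 = v27514 :=
  Lgr Lrot64 (Lpe (f807456 IH) (Lpe (K62.f804429 IH) (Lpe (f62734 IH) (Lpr_ct (K29.f62729 IH) (Lpr_gf (K28.f467679 IH) (Lpe (K32.f451335 IH) (Lpr_gf (K32.f481947 IH) (Lpe (f478468 IH) (Lpr_ct (f667141 IH) (Lpr_gf (f840048 IH) (Lpn v27514)))))))))))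
theorem f840052 : Led Lsl_ef (LP (LK LD1_c13 LD2_c8 LD3_c1)) = v27514 :=
  Lgr Lrot28 (Lpe (K37.f487013 IH) (Lpr_et (f807455 IH) (Lpr_ct (f840050 IH) (Lpn v27514))))
def v22188 : LQ := Led Lsl_gt (LP (LK LD1_c7 LD2_c32 LD3_c36))
theorem f804443 : Led Lsl_gt (LP (LK LD1_c7 LD2_c32 LD3_c36)) = v22188 :=
  Lrfl
def v18821 : LQ := Led Lsl_ft (LP (LK LD1_c6 LD2_c33 LD3_c33))
theorem f775937 : Led Lsl_ft (LP (LK LD1_c6 LD2_c33 LD3_c33)) = v18821 :=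
  Lrfl
def v18820 : LQ := Led Lsl_gt (LP (LK LD1_c6 LD2_c33 LD3_c33))
theorem f775936 : Led Lsl_gt (LP (LK LD1_c6 LD2_c33 LD3_c33)) = v18820 :=
  Lrfl
theorem f120538 : Led Lsl_af (LP (LK LD1_c6 LD2_c33 LD3_c33)) = (LP (LK LD1_c3 LD2_c29 LD3_c24)) :=
  Lgr Lrot0 (Lpr_at (K28.f120536 IH) (Lpn (LP (LK LD1_c3 LD2_c29 LD3_c24))))
theorem f775938 : Led Lsl_af K49.v6780 = v18821 :=
  Lgr Lrot45 (Lpe (K49.f658410 IH) (Lpe (f120538 IH) (Lpr_ft (f775937 IH) (Lpn v18821))))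
theorem f775943 : v18820 = K62.v7376 :=
  (Llr Lrot5 (Lpe (f775936 IH) (Lpr_ft (f775937 IH) (Lpe (f775938 IH) (Lpr_gf (K62.f673921 IH) (Lpn K62.v7376)))))).symm
theorem f804446 : Led Lsl_bt (LP (LK LD1_c7 LD2_c33 LD3_c14)) = v22188 :=
  Lgr Lrot92 (Lpr_ct (K62.f518441 IH) (Lpe (K62.f511586 IH) (Lpe (K62.f661059 IH) (Lpr_bt (K62.f440752 IH) (Lpr_gt (K47.f129914 IH) (Lpe (K47.f120495 IH) (Lpr_gt (f775936 IH) (Lpqs (f775943 IH) (Lpe (K62.f664792 IH) (Lpr_bt (K61.f478578 IH) (Lpr_gt (f804443 IH) (Lpn v22188))))))))))))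
theorem f65950 : Led Lsl_et (LP (LK LD1_c6 LD2_c51 LD3_c41)) = (LP (LK LD1_c13 LD2_c3 LD3_c0)) :=
  Lre_e IH (LK LD1_c6 LD2_c51 LD3_c41) (LK LD1_c13 LD2_c3 LD3_c0) Lrfl Lrfl
theorem f102453 : Led Lsl_bf (LP (LK LD1_c6 LD2_c53 LD3_c60)) = (LP (LK LD1_c13 LD2_c3 LD3_c0)) :=
  Lgr Lrot96 (Lpr_et (K48.f102452 IH) (Lpr_bt (K4.f102444 IH) (Lpr_et (f65950 IH) (Lpn (LP (LK LD1_c13 LD2_c3 LD3_c0))))))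
theorem f804450 : Led Lsl_ff (LP (LK LD1_c13 LD2_c3 LD3_c0)) = v22188 :=
  Lgr Lrot25 (Lpe (f102453 IH) (Lpe (K60.f518439 IH) (Lpr_bt (f804446 IH) (Lpn v22188))))
theorem f65949 : Led Lsl_et (LP (LK LD1_c13 LD2_c3 LD3_c0)) = (LP (LK LD1_c6 LD2_c51 LD3_c41)) :=
  Lre_e IH (LK LD1_c13 LD2_c3 LD3_c0) (LK LD1_c6 LD2_c51 LD3_c41) Lrfl Lrfl
theorem f103754 : Led Lsl_ft (LP (LK LD1_c6 LD2_c53 LD3_c16)) = (LP (LK LD1_c13 LD2_c5 LD3_c32)) :=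
  Lre_f IH (LK LD1_c6 LD2_c53 LD3_c16) (LK LD1_c13 LD2_c5 LD3_c32) Lrfl Lrfl
theorem f804451 : Led Lsl_et (LP (LK LD1_c13 LD2_c5 LD3_c32)) = v22188 :=
  Lgr Lrot69 (Lpe (f103754 IH) (Lpe (K4.f103736 IH) (Lpr_ff (K4.f103748 IH) (Lpe (f65949 IH) (Lpr_ff (f804450 IH) (Lpn v22188))))))
theorem f441028 : Led Lsl_dt (LP (LK LD1_c13 LD2_c5 LD3_c32)) = (LP (LK LD1_c22 LD2_c16 LD3_c20)) :=
  Lre_d IH (LK LD1_c13 LD2_c5 LD3_c32) (LK LD1_c22 LD2_c16 LD3_c20) Lrfl Lrfl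
theorem f535300 : Led Lsl_gt (LP (LK LD1_c22 LD2_c16 LD3_c20)) = (LP (LK LD1_c13 LD2_c5 LD3_c40)) :=
  Lre_g IH (LK LD1_c22 LD2_c16 LD3_c20) (LK LD1_c13 LD2_c5 LD3_c40) Lrfl Lrfl
theorem f840055 : Led Lsl_df (LP (LK LD1_c13 LD2_c5 LD3_c40)) = v27514 :=
  Lgr Lrot168 (Lpe (f535300 IH) (Lpe (f441028 IH) (Lpr_et (f804451 IH) (Lpe (f804443 IH) (Lpe (K60.f478581 IH) (Lpr_dt (K60.f511658 IH) (Lpe (K48.f476831 IH) (Lpe (K48.f15226 IH) (Lpe (K37.f15153 IH) (Lpr_ef (f840052 IH) (Lpn v27514)))))))))))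
theorem f428837 : Led Lsl_et (LP (LK LD1_c6 LD2_c54 LD3_c49)) = (LP (LK LD1_c13 LD2_c8 LD3_c7)) :=
  Lre_e IH (LK LD1_c6 LD2_c54 LD3_c49) (LK LD1_c13 LD2_c8 LD3_c7) Lrfl Lrfl
theorem f840053 : Led Lsl_at (LP (LK LD1_c13 LD2_c8 LD3_c7)) = v27514 :=
  Lgr Lrot80 (Lpe (f428837 IH) (Lpr_af (K63.f786428 IH) (Lpq (K63.f805908 IH) (Lpr_ef (f840052 IH) (Lpn v27514)))))
theorem f103721 : Led Lsl_dt (LP (LK LD1_c6 LD2_c53 LD3_c16)) = (LP (LK LD1_c13 LD2_c5 LD3_c31)) :=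
  Lre_d IH (LK LD1_c6 LD2_c53 LD3_c16) (LK LD1_c13 LD2_c5 LD3_c31) Lrfl Lrfl
theorem f103735 : Led Lsl_gt (LP (LK LD1_c22 LD2_c16 LD3_c18)) = (LP (LK LD1_c13 LD2_c5 LD3_c31)) :=
  Lre_g IH (LK LD1_c22 LD2_c16 LD3_c18) (LK LD1_c13 LD2_c5 LD3_c31) Lrfl Lrfl
theorem f112196 : Led Lsl_et (LP (LK LD1_c13 LD2_c8 LD3_c7)) = (LP (LK LD1_c6 LD2_c54 LD3_c49)) :=
  Lre_e IH (LK LD1_c13 LD2_c8 LD3_c7) (LK LD1_c6 LD2_c54 LD3_c49) Lrfl Lrfl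
theorem f428833 : Led Lsl_df (LP (LK LD1_c22 LD2_c16 LD3_c18)) = (LP (LK LD1_c13 LD2_c8 LD3_c7)) :=
  Lgr Lrot170 (Lpr_gt (f103735 IH) (Lpe (f103721 IH) (Lpr_et (K5.f103747 IH) (Lpr_gt (K4.f103750 IH) (Lpe (K7.f151677 IH) (Lpr_gt (K11.f157936 IH) (Lpr_df (K4.f112181 IH) (Lpr_et (K29.f15260 IH) (Lpr_gt (K63.f15176 IH) (Lpe (f112196 IH) (Lpn (LP (LK LD1_c13 LD2_c8 LD3_c7)))))))))))))
theorem f428835 : Led Lsl_dt (LP (LK LD1_c22 LD2_c16 LD3_c18)) = (LP (LK LD1_c13 LD2_c8 LD3_c7)) :=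
  Lgr Lrot42 (Lpr_df (f428833 IH) (Lpn (LP (LK LD1_c13 LD2_c8 LD3_c7))))
theorem f840056 : Led Lsl_at (LP (LK LD1_c13 LD2_c5 LD3_c40)) = (LP (LK LD1_c22 LD2_c16 LD3_c18)) :=
  Lgr Lrot51 (Lpr_df (f840055 IH) (Lpe (f840053 IH) (Lpe (f428835 IH) (Lpn (LP (LK LD1_c22 LD2_c16 LD3_c18))))))
theorem f840057 : Led Lsl_at (LP (LK LD1_c13 LD2_c5 LD3_c40)) = (LP (LK LD1_c22 LD2_c16 LD3_c18)) :=
  Leop (Lpe (f840056 IH) (Lpn (LP (LK LD1_c13 LD2_c5 LD3_c40))))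
theorem seed_1955 : LEOK LG_a (LK LD1_c13 LD2_c5 LD3_c40) :=
  Leoe_a (LK LD1_c13 LD2_c5 LD3_c40) (f840057 IH)
theorem f840060 : Led Lsl_et (LP (LK LD1_c13 LD2_c5 LD3_c40)) = (LP (LK LD1_c22 LD2_c16 LD3_c32)) :=
  Lre_e IH (LK LD1_c13 LD2_c5 LD3_c40) (LK LD1_c22 LD2_c16 LD3_c32) Lrfl Lrfl
theorem f715146 : Led Lsl_dt (LP (LK LD1_c22 LD2_c16 LD3_c32)) = (LP (LK LD1_c30 LD2_c23 LD3_c59)) :=
  Lre_d IH (LK LD1_c22 LD2_c16 LD3_c32) (LK LD1_c30 LD2_c23 LD3_c59) Lrfl Lrfl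
theorem f840054 : Led Lsl_et (LP (LK LD1_c13 LD2_c8 LD3_c1)) = v27514 :=
  Lgr Lrot87 (Lpr_ef (f840052 IH) (Lpn v27514))
theorem f15155 : Led Lsl_dt (LP (LK LD1_c22 LD2_c19 LD3_c60)) = (LP (LK LD1_c13 LD2_c8 LD3_c1)) :=
  Lre_d IH (LK LD1_c22 LD2_c19 LD3_c60) (LK LD1_c13 LD2_c8 LD3_c1) Lrfl Lrfl
theorem f840061 : Led Lsl_et (LP (LK LD1_c30 LD2_c23 LD3_c59)) = (LP (LK LD1_c22 LD2_c19 LD3_c60)) :=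
  Lgr Lrot71 (Lpe (f715146 IH) (Lpe (f840060 IH) (Lpr_df (f840055 IH) (Lpe (f840054 IH) (Lpe (f15155 IH) (Lpn (LP (LK LD1_c22 LD2_c19 LD3_c60))))))))
theorem f840062 : Led Lsl_et (LP (LK LD1_c30 LD2_c23 LD3_c59)) = (LP (LK LD1_c22 LD2_c19 LD3_c60)) :=
  Leop (Lpe (f840061 IH) (Lpn (LP (LK LD1_c30 LD2_c23 LD3_c59))))
theorem seed_1956 : LEOK LG_e (LK LD1_c30 LD2_c23 LD3_c59) :=
  Leoe_e (LK LD1_c30 LD2_c23 LD3_c59) (f840062 IH)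
theorem f102816 : Led Lsl_gt (LP (LK LD1_c13 LD2_c5 LD3_c42)) = (LP (LK LD1_c22 LD2_c16 LD3_c18)) :=
  Lre_g IH (LK LD1_c13 LD2_c5 LD3_c42) (LK LD1_c22 LD2_c16 LD3_c18) Lrfl Lrfl
theorem f115950 : Led Lsl_gt (LP (LK LD1_c22 LD2_c16 LD3_c17)) = (LP (LK LD1_c13 LD2_c5 LD3_c42)) :=
  Lre_g IH (LK LD1_c22 LD2_c16 LD3_c17) (LK LD1_c13 LD2_c5 LD3_c42) Lrfl Lrfl
theorem f840073 : Led Lsl_ff (LP (LK LD1_c13 LD2_c5 LD3_c40)) = (LP (LK LD1_c22 LD2_c16 LD3_c17)) :=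
  Lgr Lrot52 (Lpr_at (f840056 IH) (Lpe (f102816 IH) (Lpe (f115950 IH) (Lpn (LP (LK LD1_c22 LD2_c16 LD3_c17))))))
theorem f840077 : Led Lsl_ft (LP (LK LD1_c13 LD2_c5 LD3_c40)) = (LP (LK LD1_c22 LD2_c16 LD3_c17)) :=
  Lgr Lrot48 (Lpr_ff (f840073 IH) (Lpn (LP (LK LD1_c22 LD2_c16 LD3_c17))))
theorem f115920 : Led Lsl_gt (LP (LK LD1_c13 LD2_c5 LD3_c40)) = (LP (LK LD1_c6 LD2_c53 LD3_c20)) :=
  Lre_g IH (LK LD1_c13 LD2_c5 LD3_c40) (LK LD1_c6 LD2_c53 LD3_c20) Lrfl Lrfl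
theorem f102755 : Led Lsl_gt (LP (LK LD1_c6 LD2_c53 LD3_c20)) = (LP (LK LD1_c13 LD2_c5 LD3_c39)) :=
  Lre_g IH (LK LD1_c6 LD2_c53 LD3_c20) (LK LD1_c13 LD2_c5 LD3_c39) Lrfl Lrfl
theorem f840082 : Led Lsl_af (LP (LK LD1_c13 LD2_c5 LD3_c39)) = (LP (LK LD1_c22 LD2_c16 LD3_c17)) :=
  Lgr Lrot31 (Lpe (f102755 IH) (Lpe (f115920 IH) (Lpr_ft (f840077 IH) (Lpn (LP (LK LD1_c22 LD2_c16 LD3_c17))))))
theorem f840071 : Led Lsl_af (LP (LK LD1_c13 LD2_c5 LD3_c40)) = (LP (LK LD1_c22 LD2_c16 LD3_c18)) :=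
  Lgr Lrot0 (Lpr_at (f840056 IH) (Lpn (LP (LK LD1_c22 LD2_c16 LD3_c18))))
theorem f840087 : Led Lsl_ft (LP (LK LD1_c13 LD2_c5 LD3_c39)) = (LP (LK LD1_c22 LD2_c16 LD3_c18)) :=
  Lgr Lrot101 (Lpr_af (f840082 IH) (Lpe (f840077 IH) (Lpr_af (f840071 IH) (Lpn (LP (LK LD1_c22 LD2_c16 LD3_c18))))))
theorem f840090 : Led Lsl_ff (LP (LK LD1_c13 LD2_c5 LD3_c39)) = (LP (LK LD1_c22 LD2_c16 LD3_c18)) :=
  Lgr Lrot3 (Lpr_ft (f840087 IH) (Lpn (LP (LK LD1_c22 LD2_c16 LD3_c18))))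
def v27513 : LQ := Led Lsl_gt v7593
theorem f840040 : Led Lsl_gt v7593 = v27513 :=
  Lrfl
def v6698 : LQ := Led Lsl_et (LP (LK LD1_c3 LD2_c26 LD3_c20))
theorem f657866 : Led Lsl_et (LP (LK LD1_c3 LD2_c26 LD3_c20)) = v6698 :=
  Lrfl
theorem f492473 : Led Lsl_ft (LP (LK LD1_c1 LD2_c40 LD3_c23)) = (LP (LK LD1_c3 LD2_c26 LD3_c20)) :=
  Lgr Lrot75 (Lpe (K33.f457776 IH) (Lpr_ff (K33.f492461 IH) (Lpr_bf (K33.f457975 IH) (Lpn (LP (LK LD1_c3 LD2_c26 LD3_c20))))))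
theorem f492324 : Led Lsl_ft (LP (LK LD1_c3 LD2_c27 LD3_c40)) = (LP (LK LD1_c3 LD2_c27 LD3_c38)) :=
  Lgr Lrot4 (Lpe (K28.f446573 IH) (Lpr_ff (K33.f492322 IH) (Lpe (K28.f90872 IH) (Lpn (LP (LK LD1_c3 LD2_c27 LD3_c38))))))
theorem f657870 : Led Lsl_ff (LP (LK LD1_c6 LD2_c57 LD3_c36)) = v6698 :=
  Lgr Lrot72 (Lpr_et (K48.f480721 IH) (Lpr_ft (f492324 IH) (Lpr_et (K28.f91999 IH) (Lpr_ft (f492473 IH) (Lpr_et (f657866 IH) (Lpn v6698))))))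
theorem f657872 : Led Lsl_ft (LP (LK LD1_c6 LD2_c57 LD3_c36)) = v6698 :=
  Lgr Lrot48 (Lpr_ff (f657870 IH) (Lpn v6698))
theorem f667140 : Led Lsl_bt v6698 = v7593 :=
  Lgr Lrot35 (Lpe (f657872 IH) (Lpe (K63.f468947 IH) (Lpr_ff (f667139 IH) (Lpn v7593))))
theorem f657868 : Led Lsl_cf K33.v2272 = v6698 :=
  Lgr Lrot39 (Lpe (K33.f511387 IH) (Lpr_ct (K24.f16725 IH) (Lpr_et (f657866 IH) (Lpn v6698))))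
def v20450 : LQ := Led Lsl_ft (LP (LK LD1_c6 LD2_c56 LD3_c60))
theorem f787050 : Led Lsl_ft (LP (LK LD1_c6 LD2_c56 LD3_c60)) = v20450 :=
  Lrfl
theorem f787051 : Led Lsl_bf K61.v6715 = v20450 :=
  Lgr Lrot61 (Lpe (K61.f657981 IH) (Lpr_bt (K34.f457810 IH) (Lpr_ft (f787050 IH) (Lpn v20450))))
theorem f787052 : Led Lsl_cf (LP (LK LD1_c7 LD2_c47 LD3_c54)) = v20450 :=
  Lgr Lrot108 (Lpr_ft (K48.f473703 IH) (Lpe (K63.f457804 IH) (Lpr_ft (f787050 IH) (Lpn v20450))))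
def v23127 : LQ := Led Lsl_gf (LP (LK LD1_c7 LD2_c47 LD3_c54))
theorem f815000 : Led Lsl_gf (LP (LK LD1_c7 LD2_c47 LD3_c54)) = v23127 :=
  Lrfl
theorem f625791 : Led Lsl_cf K49.v1065 = K60.v3471 :=
  Lgr Lrot39 (Lpe (K49.f491225 IH) (Lpqs (K29.f478680 IH) (Lpe (K33.f480735 IH) (Lpr_et (K60.f625789 IH) (Lpn K60.v3471)))))
theorem f675777 : Led Lsl_cf K49.v3416 = v9412 :=
  Lgr Lrot39 (Lpe (K49.f625568 IH) (Lpr_ct (K48.f530149 IH) (Lpr_et (f675775 IH) (Lpn v9412))))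
def v7552 : LQ := Led Lsl_et (LP (LK LD1_c3 LD2_c51 LD3_c8))
theorem f666700 : Led Lsl_et (LP (LK LD1_c3 LD2_c51 LD3_c8)) = v7552 :=
  Lrfl
theorem f666702 : Led Lsl_ef (LP (LK LD1_c3 LD2_c51 LD3_c8)) = v7552 :=
  Lgr Lrot88 (Lpr_et (f666700 IH) (Lpn v7552))
def v19522 : LQ := Led Lsl_et (LP (LK LD1_c6 LD2_c43 LD3_c26))
theorem f780433 : Led Lsl_et (LP (LK LD1_c6 LD2_c43 LD3_c26)) = v19522 :=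
  Lrfl
theorem f804348 : Led Lsl_cf v7552 = v19522 :=
  Lgr Lrot39 (Lpe (f666702 IH) (Lpr_ct (K62.f666690 IH) (Lpq (K62.f802077 IH) (Lpr_et (f780433 IH) (Lpn v19522)))))
def v2678 : LQ := Led Lsl_et (LP (LK LD1_c1 LD2_c52 LD3_c25))
theorem f530304 : Led Lsl_et (LP (LK LD1_c1 LD2_c52 LD3_c25)) = v2678 :=
  Lrfl
theorem f530305 : Led Lsl_ef (LP (LK LD1_c1 LD2_c52 LD3_c25)) = v2678 :=
  Lgr Lrot88 (Lpr_et (f530304 IH) (Lpn v2678))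
theorem f666701 : Led Lsl_bf v2678 = v7552 :=
  Lgr Lrot96 (Lpe (f530305 IH) (Lpr_bt (K35.f527275 IH) (Lpr_et (f666700 IH) (Lpn v7552))))
theorem f674759 : Led Lsl_ct v2678 = K61.v9225 :=
  Lgr Lrot15 (Lpe (f530304 IH) (Lpr_cf (K41.f527270 IH) (Lpr_ef (K61.f674754 IH) (Lpn K61.v9225))))
theorem f527292 : Led Lsl_bt K41.v817 = K34.v2543 :=
  Lgr Lrot127 (Lpr_bf (K41.f527291 IH) (Lpn K34.v2543))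
theorem f674752 : Led Lsl_bf K49.v3416 = K61.v9225 :=
  Lgr Lrot96 (Lpe (K49.f625568 IH) (Lpr_bt (f527292 IH) (Lpr_et (K61.f674751 IH) (Lpn K61.v9225))))
theorem f804349 : Led Lsl_bt v9412 = v19522 :=
  Lgr Lrot128 (Lpe (f675781 IH) (Lpr_bf (f674752 IH) (Lpe (f674759 IH) (Lpr_bf (f666701 IH) (Lpr_cf (f804348 IH) (Lpn v19522))))))
def v23123 : LQ := Led Lsl_et (LP (LK LD1_c7 LD2_c47 LD3_c50))
theorem f814974 : Led Lsl_et (LP (LK LD1_c7 LD2_c47 LD3_c50)) = v23123 :=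
  Lrfl
theorem f814978 : Led Lsl_gt v19522 = v23123 :=
  Lgr Lrot131 (Lpe (f780433 IH) (Lpr_dt (K62.f64436 IH) (Lpe (K62.f803493 IH) (Lpe (K62.f441887 IH) (Lpr_gf (K62.f803584 IH) (Lpe (K62.f775953 IH) (Lpr_dt (K62.f24186 IH) (Lpe (K62.f804465 IH) (Lpe (K62.f451238 IH) (Lpr_et (f814974 IH) (Lpn v23123)))))))))))
theorem f815003 : Led Lsl_ct v23123 = v23127 :=
  Lgr Lrot91 (Lpe (f814978 IH) (Lpe (f804349 IH) (Lpe (f675777 IH) (Lpr_gf (K49.f625775 IH) (Lpr_cf (f625791 IH) (Lpe (K60.f625790 IH) (Lpr_gf (K61.f657984 IH) (Lpr_bf (f787051 IH) (Lpe (f787052 IH) (Lpr_gf (f815000 IH) (Lpn v23127)))))))))))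
theorem f840042 : Led Lsl_bt v23123 = v27513 :=
  Lgr Lrot92 (Lpr_ct (f815003 IH) (Lpe (f815000 IH) (Lpr_cf (f787052 IH) (Lpe (f787051 IH) (Lpe (K61.f657984 IH) (Lpe (K61.f519430 IH) (Lpr_gt (K35.f511464 IH) (Lpr_cf (f657868 IH) (Lpr_bt (f667140 IH) (Lpr_gt (f840040 IH) (Lpn v27513)))))))))))
def v22367 : LQ := Led Lsl_et (LP (LK LD1_c7 LD2_c35 LD3_c7))
theorem f805850 : Led Lsl_et (LP (LK LD1_c7 LD2_c35 LD3_c7)) = v22367 :=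
  Lrfl
theorem f805853 : Led Lsl_ef (LP (LK LD1_c7 LD2_c35 LD3_c7)) = v22367 :=
  Lgr Lrot88 (Lpr_et (f805850 IH) (Lpn v22367))
theorem f814977 : Led Lsl_ff v22367 = v23123 :=
  Lgr Lrot72 (Lpe (f805853 IH) (Lpr_ft (K63.f805858 IH) (Lpqs (K63.f805942 IH) (Lpr_et (K63.f804597 IH) (Lpe (K64.f806102 IH) (Lpr_et (f814974 IH) (Lpn v23123)))))))
theorem f814980 : Led Lsl_ft v22367 = v23123 :=
  Lgr Lrot48 (Lpr_ff (f814977 IH) (Lpn v23123))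
theorem f805854 : Led Lsl_bt (LP (LK LD1_c13 LD2_c8 LD3_c7)) = v22367 :=
  Lgr Lrot119 (Lpe (f428837 IH) (Lpe (K34.f485465 IH) (Lpr_ef (f805853 IH) (Lpn v22367))))
theorem f840045 : Led Lsl_ff (LP (LK LD1_c13 LD2_c8 LD3_c7)) = v27513 :=
  Lgr Lrot25 (Lpr_bt (f805854 IH) (Lpr_ft (f814980 IH) (Lpr_bt (f840042 IH) (Lpn v27513))))
theorem f840092 : Led Lsl_dt (LP (LK LD1_c13 LD2_c5 LD3_c39)) = v27513 :=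
  Lgr Lrot60 (Lpr_ff (f840090 IH) (Lpr_df (f428833 IH) (Lpr_ff (f840045 IH) (Lpn v27513))))
theorem f840043 : Led Lsl_bf v23123 = v27513 :=
  Lgr Lrot24 (Lpr_bt (f840042 IH) (Lpn v27513))
theorem f814976 : Led Lsl_ef (LP (LK LD1_c7 LD2_c47 LD3_c50)) = v23123 :=
  Lgr Lrot88 (Lpr_et (f814974 IH) (Lpn v23123))
theorem f458034 : Led Lsl_dt (LP (LK LD1_c7 LD2_c47 LD3_c19)) = (LP (LK LD1_c14 LD2_c41 LD3_c43)) :=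
  Lre_d IH (LK LD1_c7 LD2_c47 LD3_c19) (LK LD1_c14 LD2_c41 LD3_c43) Lrfl Lrfl
theorem f658354 : Led Lsl_et (LP (LK LD1_c7 LD2_c3 LD3_c23)) = (LP (LK LD1_c3 LD2_c30 LD3_c41)) :=
  Lre_e IH (LK LD1_c7 LD2_c3 LD3_c23) (LK LD1_c3 LD2_c30 LD3_c41) Lrfl Lrfl
def v18827 : LQ := Led Lsl_dt (LP (LK LD1_c6 LD2_c33 LD3_c36))
theorem f775968 : Led Lsl_dt (LP (LK LD1_c6 LD2_c33 LD3_c36)) = v18827 :=
  Lrfl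
theorem f780051 : Led Lsl_ef K62.v7456 = K62.v19501 :=
  Lgr Lrot21 (Lpe (K62.f665688 IH) (Lpr_et (K62.f64435 IH) (Lpe (K6.f64304 IH) (Lpr_et (K63.f64449 IH) (Lpr_ft (K62.f780048 IH) (Lpn K62.v19501))))))
theorem f802586 : Led Lsl_gt v18827 = (LP (LK LD1_c14 LD2_c41 LD3_c43)) :=
  Lgr Lrot139 (Lpe (f775968 IH) (Lpqs (K62.f801875 IH) (Lpe (K62.f658584 IH) (Lpe (f658354 IH) (Lpr_dt (K62.f789477 IH) (Lpqs (K62.f802559 IH) (Lpq (K62.f802559 IH) (Lpe (K62.f802447 IH) (Lpe (K62.f535142 IH) (Lpq (K62.f802048 IH) (Lpe (f780051 IH) (Lpqs (K62.f801835 IH) (Lpe (K62.f475664 IH) (Lpe (K48.f475661 IH) (Lpr_dt (f458034 IH) (Lpn (LP (LK LD1_c14 LD2_c41 LD3_c43))))))))))))))))))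
def v5928 : LQ := Led Lsl_dt (LP (LK LD1_c3 LD2_c15 LD3_c4))
theorem f650094 : Led Lsl_dt (LP (LK LD1_c3 LD2_c15 LD3_c4)) = v5928 :=
  Lrfl
theorem f650095 : Led Lsl_df (LP (LK LD1_c3 LD2_c15 LD3_c4)) = v5928 :=
  Lgr Lrot38 (Lpr_dt (f650094 IH) (Lpn v5928))
theorem f775970 : Led Lsl_ff v5928 = v18827 :=
  Lgr Lrot19 (Lpe (f650095 IH) (Lpr_ft (K62.f24178 IH) (Lpr_dt (f775968 IH) (Lpn v18827))))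
def v8422 : LQ := Led Lsl_dt K60.v2032
theorem f671180 : Led Lsl_dt K60.v2032 = v8422 :=
  Lrfl
theorem f671182 : Led Lsl_df K60.v2032 = v8422 :=
  Lgr Lrot38 (Lpr_dt (f671180 IH) (Lpn v8422))
theorem f768573 : Led Lsl_ef v8422 = K62.v18790 :=
  Lgr Lrot73 (Lpe (f671182 IH) (Lpe (K60.f507845 IH) (Lpr_dt (K7.f24303 IH) (Lpr_et (K62.f58796 IH) (Lpr_dt (K62.f768570 IH) (Lpn K62.v18790))))))
def v3112 : LQ := Led Lsl_dt K60.v515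
theorem f623913 : Led Lsl_dt K60.v515 = v3112 :=
  Lrfl
theorem f623914 : Led Lsl_df K60.v515 = v3112 :=
  Lgr Lrot38 (Lpr_dt (f623913 IH) (Lpn v3112))
theorem f671181 : Led Lsl_af v3112 = v8422 :=
  Lgr Lrot117 (Lpe (f623914 IH) (Lpr_at (K60.f507846 IH) (Lpr_dt (f671180 IH) (Lpn v8422))))
theorem f650096 : Led Lsl_ef v3112 = v5928 :=
  Lgr Lrot73 (Lpe (f623914 IH) (Lpe (K60.f453734 IH) (Lpr_dt (K44.f24192 IH) (Lpr_et (K7.f24153 IH) (Lpr_dt (f650094 IH) (Lpn v5928))))))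
theorem f650097 : Led Lsl_et v3112 = v5928 :=
  Lgr Lrot87 (Lpr_ef (f650096 IH) (Lpn v5928))
theorem f768574 : Led Lsl_at v5928 = K62.v18790 :=
  Lgr Lrot80 (Lpe (f650097 IH) (Lpr_af (f671181 IH) (Lpr_ef (f768573 IH) (Lpn K62.v18790))))
theorem f802588 : Led Lsl_gf K62.v18790 = (LP (LK LD1_c14 LD2_c41 LD3_c43)) :=
  Lgr Lrot76 (Lpe (f768574 IH) (Lpr_ff (f775970 IH) (Lpr_gt (f802586 IH) (Lpn (LP (LK LD1_c14 LD2_c41 LD3_c43))))))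
theorem f429002 : Led Lsl_gt (LP (LK LD1_c7 LD2_c0 LD3_c26)) = (LP (LK LD1_c13 LD2_c17 LD3_c39)) :=
  Lre_g IH (LK LD1_c7 LD2_c0 LD3_c26) (LK LD1_c13 LD2_c17 LD3_c39) Lrfl Lrfl
theorem f814981 : Led Lsl_df (LP (LK LD1_c13 LD2_c17 LD3_c39)) = v23123 :=
  Lgr Lrot168 (Lpe (f429002 IH) (Lpe (K28.f120535 IH) (Lpr_et (K4.f120358 IH) (Lpe (K51.f156467 IH) (Lpe (K62.f58807 IH) (Lpr_dt (K62.f768570 IH) (Lpr_gf (f802588 IH) (Lpe (f458034 IH) (Lpr_gf (K63.f475756 IH) (Lpr_ef (f814976 IH) (Lpn v23123)))))))))))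
theorem f840093 : Led Lsl_bf (LP (LK LD1_c13 LD2_c5 LD3_c39)) = (LP (LK LD1_c13 LD2_c17 LD3_c39)) :=
  Lgr Lrot93 (Lpr_dt (f840092 IH) (Lpe (f840043 IH) (Lpe (f814981 IH) (Lpn (LP (LK LD1_c13 LD2_c17 LD3_c39))))))
theorem f840094 : Led Lsl_bt (LP (LK LD1_c13 LD2_c17 LD3_c39)) = (LP (LK LD1_c13 LD2_c5 LD3_c39)) :=
  Leop (Lpr_bf (f840093 IH) (Lpn (LP (LK LD1_c13 LD2_c17 LD3_c39))))
theorem seed_1957 : LEOK LG_b (LK LD1_c13 LD2_c17 LD3_c39) :=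
  Leoe_b (LK LD1_c13 LD2_c17 LD3_c39) (f840094 IH)
theorem f130169 : Led Lsl_et (LP (LK LD1_c13 LD2_c5 LD3_c33)) = (LP (LK LD1_c6 LD2_c53 LD3_c20)) :=
  Lre_e IH (LK LD1_c13 LD2_c5 LD3_c33) (LK LD1_c6 LD2_c53 LD3_c20) Lrfl Lrfl
theorem f95233 : Led Lsl_dt (LP (LK LD1_c13 LD2_c5 LD3_c33)) = (LP (LK LD1_c6 LD2_c53 LD3_c17)) :=
  Lre_d IH (LK LD1_c13 LD2_c5 LD3_c33) (LK LD1_c6 LD2_c53 LD3_c17) Lrfl Lrfl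
theorem f454333 : Led Lsl_dt (LP (LK LD1_c12 LD2_c57 LD3_c1)) = (LP (LK LD1_c6 LD2_c47 LD3_c3)) :=
  Lre_d IH (LK LD1_c12 LD2_c57 LD3_c1) (LK LD1_c6 LD2_c47 LD3_c3) Lrfl Lrfl
theorem f454334 : Led Lsl_et (LP (LK LD1_c12 LD2_c57 LD3_c1)) = (LP (LK LD1_c22 LD2_c6 LD3_c42)) :=
  Lre_e IH (LK LD1_c12 LD2_c57 LD3_c1) (LK LD1_c22 LD2_c6 LD3_c42) Lrfl Lrfl
theorem f705780 : Led Lsl_gt (LP (LK LD1_c30 LD2_c18 LD3_c28)) = (LP (LK LD1_c22 LD2_c6 LD3_c42)) :=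
  Lre_g IH (LK LD1_c30 LD2_c18 LD3_c28) (LK LD1_c22 LD2_c6 LD3_c42) Lrfl Lrfl
theorem f492297 : Led Lsl_at (LP (LK LD1_c13 LD2_c12 LD3_c60)) = (LP (LK LD1_c22 LD2_c26 LD3_c59)) :=
  Lre_a IH (LK LD1_c13 LD2_c12 LD3_c60) (LK LD1_c22 LD2_c26 LD3_c59) Lrfl Lrfl
theorem f840041 : Led Lsl_gf (LP (LK LD1_c22 LD2_c26 LD3_c59)) = v27513 :=
  Lgr Lrot76 (Lpe (f492297 IH) (Lpr_ff (f667139 IH) (Lpr_gt (f840040 IH) (Lpn v27513))))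
theorem f840095 : Led Lsl_ef (LP (LK LD1_c30 LD2_c18 LD3_c28)) = (LP (LK LD1_c23 LD2_c54 LD3_c26)) :=
  Lgr Lrot114 (Lpr_gt (f705780 IH) (Lpe (f454334 IH) (Lpr_dt (f454333 IH) (Lpr_gt (K52.f705777 IH) (Lpqs (K52.f714863 IH) (Lpe (f95233 IH) (Lpr_et (f130169 IH) (Lpr_gt (f102755 IH) (Lpr_dt (f840092 IH) (Lpe (f840041 IH) (Lpr_df (K63.f814394 IH) (Lpn (LP (LK LD1_c23 LD2_c54 LD3_c26))))))))))))))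
theorem f840096 : Led Lsl_et (LP (LK LD1_c23 LD2_c54 LD3_c26)) = (LP (LK LD1_c30 LD2_c18 LD3_c28)) :=
  Leop (Lpr_ef (f840095 IH) (Lpn (LP (LK LD1_c23 LD2_c54 LD3_c26))))
theorem seed_1958 : LEOK LG_e (LK LD1_c23 LD2_c54 LD3_c26) :=
  Leoe_e (LK LD1_c23 LD2_c54 LD3_c26) (f840096 IH)
theorem f840103 : Led Lsl_et (LP (LK LD1_c30 LD2_c18 LD3_c28)) = (LP (LK LD1_c23 LD2_c54 LD3_c26)) :=
  Lgr Lrot87 (Lpr_ef (f840095 IH) (Lpn (LP (LK LD1_c23 LD2_c54 LD3_c26))))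
theorem f589966 : Led Lsl_dt (LP (LK LD1_c7 LD2_c2 LD3_c40)) = (LP (LK LD1_c13 LD2_c21 LD3_c33)) :=
  Lre_d IH (LK LD1_c7 LD2_c2 LD3_c40) (LK LD1_c13 LD2_c21 LD3_c33) Lrfl Lrfl
theorem f457730 : Led Lsl_dt (LP (LK LD1_c14 LD2_c10 LD3_c30)) = (LP (LK LD1_c23 LD2_c45 LD3_c52)) :=
  Lre_d IH (LK LD1_c14 LD2_c10 LD3_c30) (LK LD1_c23 LD2_c45 LD3_c52) Lrfl Lrfl
theorem f564529 : Led Lsl_ft (LP (LK LD1_c23 LD2_c45 LD3_c52)) = (LP (LK LD1_c14 LD2_c18 LD3_c32)) :=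
  Lgr Lrot54 (Lpe (f457730 IH) (Lpr_ff (K41.f564449 IH) (Lpe (K8.f109406 IH) (Lpn (LP (LK LD1_c14 LD2_c18 LD3_c32))))))
theorem f616166 : Led Lsl_gt (LP (LK LD1_c23 LD2_c45 LD3_c52)) = (LP (LK LD1_c14 LD2_c30 LD3_c44)) :=
  Lgr Lrot5 (Lpr_ft (f564529 IH) (Lpe (K41.f502654 IH) (Lpe (K48.f136463 IH) (Lpn (LP (LK LD1_c14 LD2_c30 LD3_c44))))))
theorem f443469 : Led Lsl_et (LP (LK LD1_c7 LD2_c36 LD3_c49)) = (LP (LK LD1_c3 LD2_c47 LD3_c51)) :=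
  Lre_e IH (LK LD1_c7 LD2_c36 LD3_c49) (LK LD1_c3 LD2_c47 LD3_c51) Lrfl Lrfl
theorem f443456 : Led Lsl_bt (LP (LK LD1_c7 LD2_c2 LD3_c52)) = (LP (LK LD1_c3 LD2_c30 LD3_c28)) :=
  Lre_b IH (LK LD1_c7 LD2_c2 LD3_c52) (LK LD1_c3 LD2_c30 LD3_c28) Lrfl Lrfl
theorem f443457 : Led Lsl_dt (LP (LK LD1_c7 LD2_c36 LD3_c49)) = (LP (LK LD1_c7 LD2_c2 LD3_c52)) :=
  Lgr Lrot79 (Lpe (K34.f443455 IH) (Lpr_df (K24.f64979 IH) (Lpe (f443456 IH) (Lpn (LP (LK LD1_c7 LD2_c2 LD3_c52))))))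
theorem f656750 : Led Lsl_gf (LP (LK LD1_c7 LD2_c2 LD3_c52)) = (LP (LK LD1_c13 LD2_c21 LD3_c33)) :=
  Lgr Lrot134 (Lpe (f443457 IH) (Lpr_et (f443469 IH) (Lpr_gt (K41.f443470 IH) (Lpe (K41.f564531 IH) (Lpr_dt (f457730 IH) (Lpr_gt (f616166 IH) (Lpr_df (K48.f656744 IH) (Lpr_et (K48.f458422 IH) (Lpe (K46.f655546 IH) (Lpr_dt (f589966 IH) (Lpn (LP (LK LD1_c13 LD2_c21 LD3_c33)))))))))))))
theorem f64975 : Led Lsl_bt (LP (LK LD1_c3 LD2_c30 LD3_c28)) = (LP (LK LD1_c7 LD2_c2 LD3_c52)) :=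
  Lre_b IH (LK LD1_c3 LD2_c30 LD3_c28) (LK LD1_c7 LD2_c2 LD3_c52) Lrfl Lrfl
theorem f64976 : Led Lsl_df (LP (LK LD1_c7 LD2_c36 LD3_c49)) = (LP (LK LD1_c7 LD2_c2 LD3_c52)) :=
  Lgr Lrot12 (Lpr_bt (K62.f64974 IH) (Lpr_dt (K1.f64972 IH) (Lpr_bt (f64975 IH) (Lpn (LP (LK LD1_c7 LD2_c2 LD3_c52))))))
theorem f457923 : Led Lsl_dt (LP (LK LD1_c13 LD2_c12 LD3_c41)) = (LP (LK LD1_c6 LD2_c57 LD3_c25)) :=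
  Lre_d IH (LK LD1_c13 LD2_c12 LD3_c41) (LK LD1_c6 LD2_c57 LD3_c25) Lrfl Lrfl
theorem f457924 : Led Lsl_gt (LP (LK LD1_c22 LD2_c26 LD3_c31)) = (LP (LK LD1_c13 LD2_c12 LD3_c41)) :=
  Lre_g IH (LK LD1_c22 LD2_c26 LD3_c31) (LK LD1_c13 LD2_c12 LD3_c41) Lrfl Lrfl
theorem f656845 : Led Lsl_dt (LP (LK LD1_c13 LD2_c21 LD3_c37)) = (LP (LK LD1_c22 LD2_c26 LD3_c31)) :=
  Lgr Lrot57 (Lpr_gf (K62.f656843 IH) (Lpr_cf (K46.f458403 IH) (Lpe (K46.f655546 IH) (Lpr_dt (f589966 IH) (Lpe (f656750 IH) (Lpe (f64976 IH) (Lpe (K62.f457904 IH) (Lpe (f457923 IH) (Lpe (f457924 IH) (Lpn (LP (LK LD1_c22 LD2_c26 LD3_c31))))))))))))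
theorem f802143 : Led Lsl_at (LP (LK LD1_c22 LD2_c26 LD3_c31)) = (LP (LK LD1_c22 LD2_c14 LD3_c2)) :=
  Lgr Lrot51 (Lpe (f656845 IH) (Lpr_af (K62.f802137 IH) (Lpe (K62.f656595 IH) (Lpn (LP (LK LD1_c22 LD2_c14 LD3_c2))))))
theorem f804288 : Led Lsl_af (LP (LK LD1_c22 LD2_c26 LD3_c31)) = (LP (LK LD1_c22 LD2_c14 LD3_c2)) :=
  Lgr Lrot0 (Lpr_at (f802143 IH) (Lpn (LP (LK LD1_c22 LD2_c14 LD3_c2))))
theorem f802126 : Led Lsl_ft (LP (LK LD1_c13 LD2_c5 LD3_c24)) = (LP (LK LD1_c22 LD2_c14 LD3_c2)) :=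
  Lgr Lrot48 (Lpr_ff (K62.f802120 IH) (Lpn (LP (LK LD1_c22 LD2_c14 LD3_c2))))
theorem f146546 : Led Lsl_gt (LP (LK LD1_c13 LD2_c5 LD3_c24)) = (LP (LK LD1_c22 LD2_c16 LD3_c9)) :=
  Lre_g IH (LK LD1_c13 LD2_c5 LD3_c24) (LK LD1_c22 LD2_c16 LD3_c9) Lrfl Lrfl
theorem f804296 : Led Lsl_gf (LP (LK LD1_c22 LD2_c26 LD3_c31)) = (LP (LK LD1_c22 LD2_c16 LD3_c9)) :=
  Lgr Lrot76 (Lpr_af (f804288 IH) (Lpe (f802126 IH) (Lpr_gt (f146546 IH) (Lpn (LP (LK LD1_c22 LD2_c16 LD3_c9))))))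
theorem f492527 : Led Lsl_at (LP (LK LD1_c22 LD2_c26 LD3_c22)) = (LP (LK LD1_c13 LD2_c12 LD3_c41)) :=
  Lre_a IH (LK LD1_c22 LD2_c26 LD3_c22) (LK LD1_c13 LD2_c12 LD3_c41) Lrfl Lrfl
theorem f804298 : Led Lsl_ff (LP (LK LD1_c22 LD2_c26 LD3_c22)) = (LP (LK LD1_c22 LD2_c16 LD3_c9)) :=
  Lgr Lrot52 (Lpr_at (f492527 IH) (Lpe (f457924 IH) (Lpr_gf (f804296 IH) (Lpn (LP (LK LD1_c22 LD2_c16 LD3_c9))))))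
theorem f457952 : Led Lsl_dt (LP (LK LD1_c22 LD2_c26 LD3_c22)) = (LP (LK LD1_c13 LD2_c12 LD3_c35)) :=
  Lre_d IH (LK LD1_c22 LD2_c26 LD3_c22) (LK LD1_c13 LD2_c12 LD3_c35) Lrfl Lrfl
theorem f804302 : Led Lsl_dt (LP (LK LD1_c13 LD2_c12 LD3_c58)) = (LP (LK LD1_c22 LD2_c16 LD3_c9)) :=
  Lgr Lrot60 (Lpe (K34.f492500 IH) (Lpe (f457952 IH) (Lpr_ff (f804298 IH) (Lpn (LP (LK LD1_c22 LD2_c16 LD3_c9))))))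
theorem f804312 : Led Lsl_et (LP (LK LD1_c22 LD2_c16 LD3_c9)) = (LP (LK LD1_c30 LD2_c23 LD3_c47)) :=
  Lre_e IH (LK LD1_c22 LD2_c16 LD3_c9) (LK LD1_c30 LD2_c23 LD3_c47) Lrfl Lrfl
theorem f840110 : Led Lsl_df (LP (LK LD1_c30 LD2_c18 LD3_c28)) = (LP (LK LD1_c30 LD2_c23 LD3_c47)) :=
  Lgr Lrot70 (Lpr_et (f840103 IH) (Lpe (K63.f814394 IH) (Lpr_et (K63.f492289 IH) (Lpr_dt (f804302 IH) (Lpr_et (f804312 IH) (Lpn (LP (LK LD1_c30 LD2_c23 LD3_c47))))))))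
theorem f714862 : Led Lsl_dt (LP (LK LD1_c30 LD2_c18 LD3_c29)) = (LP (LK LD1_c22 LD2_c6 LD3_c42)) :=
  Lre_d IH (LK LD1_c30 LD2_c18 LD3_c29) (LK LD1_c22 LD2_c6 LD3_c42) Lrfl Lrfl
theorem f714861 : Led Lsl_et (LP (LK LD1_c30 LD2_c18 LD3_c29)) = (LP (LK LD1_c22 LD2_c6 LD3_c43)) :=
  Lre_e IH (LK LD1_c30 LD2_c18 LD3_c29) (LK LD1_c22 LD2_c6 LD3_c43) Lrfl Lrfl
theorem f146547 : Led Lsl_et (LP (LK LD1_c30 LD2_c23 LD3_c47)) = (LP (LK LD1_c22 LD2_c16 LD3_c9)) :=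
  Lre_e IH (LK LD1_c30 LD2_c23 LD3_c47) (LK LD1_c22 LD2_c16 LD3_c9) Lrfl Lrfl
theorem f25268 : Led Lsl_dt (LP (LK LD1_c9 LD2_c6 LD3_c25)) = (LP (LK LD1_c4 LD2_c34 LD3_c53)) :=
  Lre_d IH (LK LD1_c9 LD2_c6 LD3_c25) (LK LD1_c4 LD2_c34 LD3_c53) Lrfl Lrfl
theorem f146545 : Led Lsl_dt (LP (LK LD1_c16 LD2_c58 LD3_c15)) = (LP (LK LD1_c9 LD2_c6 LD3_c24)) :=
  Lre_d IH (LK LD1_c16 LD2_c58 LD3_c15) (LK LD1_c9 LD2_c6 LD3_c24) Lrfl Lrfl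
theorem f840114 : Led Lsl_gt (LP (LK LD1_c22 LD2_c6 LD3_c43)) = (LP (LK LD1_c16 LD2_c58 LD3_c15)) :=
  Lgr Lrot137 (Lpe (f714861 IH) (Lpr_dt (f714862 IH) (Lpe (f705780 IH) (Lpr_df (f840110 IH) (Lpr_et (f146547 IH) (Lpe (f146546 IH) (Lpe (K8.f146533 IH) (Lpr_dt (f25268 IH) (Lpe (K52.f25388 IH) (Lpe (f146545 IH) (Lpn (LP (LK LD1_c16 LD2_c58 LD3_c15)))))))))))))
theorem f426020 : Led Lsl_dt (LP (LK LD1_c11 LD2_c41 LD3_c40)) = (LP (LK LD1_c5 LD2_c58 LD3_c37)) :=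
  Lre_d IH (LK LD1_c11 LD2_c41 LD3_c40) (LK LD1_c5 LD2_c58 LD3_c37) Lrfl Lrfl
theorem f740517 : Led Lsl_gf (LP (LK LD1_c11 LD2_c44 LD3_c41)) = (LP (LK LD1_c17 LD2_c32 LD3_c25)) :=
  Lgr Lrot144 (Lpe (K45.f428140 IH) (Lpr_gt (K45.f426798 IH) (Lpr_dt (f426020 IH) (Lpr_cf (K52.f426106 IH) (Lpe (K36.f151638 IH) (Lpr_gf (K57.f710096 IH) (Lpe (K55.f710089 IH) (Lpr_gf (K57.f740513 IH) (Lpr_cf (K57.f716113 IH) (Lpn (LP (LK LD1_c17 LD2_c32 LD3_c25))))))))))))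
theorem f705284 : Led Lsl_ft (LP (LK LD1_c17 LD2_c32 LD3_c25)) = (LP (LK LD1_c9 LD2_c30 LD3_c54)) :=
  Lre_f IH (LK LD1_c17 LD2_c32 LD3_c25) (LK LD1_c9 LD2_c30 LD3_c54) Lrfl Lrfl
theorem f740523 : Led Lsl_gt (LP (LK LD1_c11 LD2_c44 LD3_c41)) = (LP (LK LD1_c17 LD2_c32 LD3_c15)) :=
  Lgr Lrot46 (Lpr_gf (f740517 IH) (Lpr_ft (f705284 IH) (Lpr_at (K55.f705412 IH) (Lpn (LP (LK LD1_c17 LD2_c32 LD3_c15))))))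
theorem f594954 : Led Lsl_dt (LP (LK LD1_c11 LD2_c41 LD3_c55)) = (LP (LK LD1_c5 LD2_c58 LD3_c43)) :=
  Lre_d IH (LK LD1_c11 LD2_c41 LD3_c55) (LK LD1_c5 LD2_c58 LD3_c43) Lrfl Lrfl
theorem f840117 : Led Lsl_gt (LP (LK LD1_c20 LD2_c41 LD3_c59)) = (LP (LK LD1_c11 LD2_c41 LD3_c55)) :=
  Lgr Lrot49 (Lpe (K55.f709901 IH) (Lpe (f740523 IH) (Lpr_cf (K45.f643269 IH) (Lpe (K60.f713350 IH) (Lpr_dt (K52.f454336 IH) (Lpr_gt (f840114 IH) (Lpr_dt (f146545 IH) (Lpe (K52.f643691 IH) (Lpe (f594954 IH) (Lpn (LP (LK LD1_c11 LD2_c41 LD3_c55))))))))))))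
theorem f136282 : Led Lsl_et (LP (LK LD1_c5 LD2_c50 LD3_c60)) = (LP (LK LD1_c2 LD2_c51 LD3_c43)) :=
  Lre_e IH (LK LD1_c5 LD2_c50 LD3_c60) (LK LD1_c2 LD2_c51 LD3_c43) Lrfl Lrfl
theorem f208390 : Led Lsl_ft (LP (LK LD1_c4 LD2_c36 LD3_c41)) = (LP (LK LD1_c3 LD2_c20 LD3_c15)) :=
  Lgr Lrot142 (Lpr_dt (K8.f99559 IH) (Lpe (K8.f160942 IH) (Lpr_dt (K8.f101693 IH) (Lpr_ct (K8.f160952 IH) (Lpr_dt (K32.f157681 IH) (Lpr_ct (K32.f129258 IH) (Lpr_dt (K32.f208382 IH) (Lpe (K32.f159061 IH) (Lpe (K36.f159042 IH) (Lpn (LP (LK LD1_c3 LD2_c20 LD3_c15))))))))))))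
theorem f208491 : Led Lsl_ft (LP (LK LD1_c2 LD2_c51 LD3_c43)) = (LP (LK LD1_c2 LD2_c55 LD3_c43)) :=
  Lgr Lrot75 (Lpe (K36.f159029 IH) (Lpe (f208390 IH) (Lpr_bf (K43.f208488 IH) (Lpn (LP (LK LD1_c2 LD2_c55 LD3_c43))))))
theorem f744564 : Led Lsl_et (LP (LK LD1_c11 LD2_c41 LD3_c38)) = K55.v15987 :=
  Lgr Lrot69 (Lpe (K55.f208490 IH) (Lpe (K43.f160969 IH) (Lpe (f208491 IH) (Lpe (f136282 IH) (Lpr_ff (K55.f744561 IH) (Lpn K55.v15987))))))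
theorem f74619 : Led Lsl_et (LP (LK LD1_c5 LD2_c44 LD3_c8)) = (LP (LK LD1_c11 LD2_c18 LD3_c25)) :=
  Lre_e IH (LK LD1_c5 LD2_c44 LD3_c8) (LK LD1_c11 LD2_c18 LD3_c25) Lrfl Lrfl
def v15605 : LQ := Led Lsl_ft (LP (LK LD1_c5 LD2_c43 LD3_c15))
theorem f738237 : Led Lsl_ft (LP (LK LD1_c5 LD2_c43 LD3_c15)) = v15605 :=
  Lrfl
theorem f387395 : Led Lsl_et (LP (LK LD1_c2 LD2_c47 LD3_c57)) = (LP (LK LD1_c1 LD2_c20 LD3_c14)) :=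
  Lre_e IH (LK LD1_c2 LD2_c47 LD3_c57) (LK LD1_c1 LD2_c20 LD3_c14) Lrfl Lrfl
theorem f738240 : Led Lsl_ef (LP (LK LD1_c5 LD2_c43 LD3_c53)) = v15605 :=
  Lgr Lrot21 (Lpr_ft (K55.f542564 IH) (Lpr_et (f387395 IH) (Lpr_ft (K28.f381119 IH) (Lpr_et (K54.f382418 IH) (Lpr_ft (f738237 IH) (Lpn v15605))))))
theorem f622082 : Led Lsl_dt (LP (LK LD1_c5 LD2_c43 LD3_c24)) = (LP (LK LD1_c5 LD2_c43 LD3_c15)) :=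
  Lgr Lrot42 (Lpr_df (K54.f622078 IH) (Lpn (LP (LK LD1_c5 LD2_c43 LD3_c15))))
theorem f738239 : Led Lsl_df (LP (LK LD1_c11 LD2_c16 LD3_c53)) = v15605 :=
  Lgr Lrot78 (Lpr_ft (K54.f381780 IH) (Lpr_dt (f622082 IH) (Lpr_ft (f738237 IH) (Lpn v15605))))
theorem f622104 : Led Lsl_dt (LP (LK LD1_c20 LD2_c12 LD3_c44)) = (LP (LK LD1_c11 LD2_c16 LD3_c44)) :=
  Lre_d IH (LK LD1_c20 LD2_c12 LD3_c44) (LK LD1_c11 LD2_c16 LD3_c44) Lrfl Lrfl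
theorem f740265 : Led Lsl_gt (LP (LK LD1_c11 LD2_c18 LD3_c25)) = (LP (LK LD1_c20 LD2_c12 LD3_c44)) :=
  Lgr Lrot137 (Lpe (f74619 IH) (Lpe (K51.f74616 IH) (Lpe (K52.f644911 IH) (Lpe (K41.f641652 IH) (Lpe (K55.f644661 IH) (Lpq (K55.f740259 IH) (Lpe (K55.f738329 IH) (Lpr_ef (f738240 IH) (Lpe (f738239 IH) (Lpe (K54.f738264 IH) (Lpe (f622104 IH) (Lpn (LP (LK LD1_c20 LD2_c12 LD3_c44))))))))))))))
theorem f738382 : Led Lsl_ft (LP (LK LD1_c11 LD2_c18 LD3_c25)) = (LP (LK LD1_c20 LD2_c14 LD3_c56)) :=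
  Lre_f IH (LK LD1_c11 LD2_c18 LD3_c25) (LK LD1_c20 LD2_c14 LD3_c56) Lrfl Lrfl
theorem f638999 : Led Lsl_ft (LP (LK LD1_c5 LD2_c44 LD3_c59)) = (LP (LK LD1_c11 LD2_c20 LD3_c19)) :=
  Lre_f IH (LK LD1_c5 LD2_c44 LD3_c59) (LK LD1_c11 LD2_c20 LD3_c19) Lrfl Lrfl
theorem f740210 : Led Lsl_ef (LP (LK LD1_c20 LD2_c14 LD3_c53)) = (LP (LK LD1_c11 LD2_c20 LD3_c19)) :=
  Lgr Lrot21 (Lpr_ft (K56.f618036 IH) (Lpr_et (K51.f382411 IH) (Lpqs (K55.f740005 IH) (Lpe (K54.f638997 IH) (Lpr_et (K54.f76021 IH) (Lpr_ft (f638999 IH) (Lpn (LP (LK LD1_c11 LD2_c20 LD3_c19)))))))))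
theorem f740217 : Led Lsl_et (LP (LK LD1_c20 LD2_c14 LD3_c53)) = (LP (LK LD1_c11 LD2_c20 LD3_c19)) :=
  Lgr Lrot87 (Lpr_ef (f740210 IH) (Lpn (LP (LK LD1_c11 LD2_c20 LD3_c19))))
theorem f740219 : Led Lsl_dt (LP (LK LD1_c11 LD2_c20 LD3_c19)) = (LP (LK LD1_c20 LD2_c17 LD3_c36)) :=
  Lre_d IH (LK LD1_c11 LD2_c20 LD3_c19) (LK LD1_c20 LD2_c17 LD3_c36) Lrfl Lrfl
theorem f740222 : Led Lsl_ef (LP (LK LD1_c20 LD2_c7 LD3_c10)) = (LP (LK LD1_c20 LD2_c17 LD3_c36)) :=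
  Lgr Lrot73 (Lpe (K55.f549465 IH) (Lpr_et (K54.f150341 IH) (Lpr_dt (K56.f740110 IH) (Lpr_et (f740217 IH) (Lpr_dt (f740219 IH) (Lpn (LP (LK LD1_c20 LD2_c17 LD3_c36))))))))
theorem f495863 : Led Lsl_dt (LP (LK LD1_c11 LD2_c16 LD3_c44)) = (LP (LK LD1_c20 LD2_c12 LD3_c44)) :=
  Lre_d IH (LK LD1_c11 LD2_c16 LD3_c44) (LK LD1_c20 LD2_c12 LD3_c44) Lrfl Lrfl
theorem f740214 : Led Lsl_dt (LP (LK LD1_c20 LD2_c17 LD3_c36)) = (LP (LK LD1_c11 LD2_c20 LD3_c19)) :=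
  Lre_d IH (LK LD1_c20 LD2_c17 LD3_c36) (LK LD1_c11 LD2_c20 LD3_c19) Lrfl Lrfl
theorem f740227 : Led Lsl_gt (LP (LK LD1_c20 LD2_c12 LD3_c44)) = (LP (LK LD1_c11 LD2_c20 LD3_c19)) :=
  Lgr Lrot139 (Lpe (f495863 IH) (Lpe (K54.f495862 IH) (Lpe (K54.f381762 IH) (Lpr_dt (K27.f381455 IH) (Lpr_gf (K30.f495859 IH) (Lpqs (K39.f555957 IH) (Lpe (K50.f549444 IH) (Lpr_et (K51.f549445 IH) (Lpe (K54.f549437 IH) (Lpr_ef (f740222 IH) (Lpr_dt (f740214 IH) (Lpn (LP (LK LD1_c11 LD2_c20 LD3_c19))))))))))))))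
theorem f740267 : Led Lsl_at (LP (LK LD1_c20 LD2_c14 LD3_c56)) = (LP (LK LD1_c11 LD2_c20 LD3_c19)) :=
  Lgr Lrot26 (Lpe (f738382 IH) (Lpr_gt (f740265 IH) (Lpr_gt (f740227 IH) (Lpn (LP (LK LD1_c11 LD2_c20 LD3_c19))))))
theorem f638996 : Led Lsl_ft (LP (LK LD1_c11 LD2_c20 LD3_c19)) = (LP (LK LD1_c5 LD2_c44 LD3_c59)) :=
  Lre_f IH (LK LD1_c11 LD2_c20 LD3_c19) (LK LD1_c5 LD2_c44 LD3_c59) Lrfl Lrfl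
theorem f740275 : Led Lsl_af (LP (LK LD1_c11 LD2_c18 LD3_c25)) = (LP (LK LD1_c5 LD2_c44 LD3_c59)) :=
  Lgr Lrot45 (Lpr_ft (f738382 IH) (Lpr_at (f740267 IH) (Lpr_ft (f638996 IH) (Lpn (LP (LK LD1_c5 LD2_c44 LD3_c59))))))
theorem f740269 : Led Lsl_ct (LP (LK LD1_c11 LD2_c18 LD3_c25)) = (LP (LK LD1_c20 LD2_c14 LD3_c55)) :=
  Lre_c IH (LK LD1_c11 LD2_c18 LD3_c25) (LK LD1_c20 LD2_c14 LD3_c55) Lrfl Lrfl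
theorem f738277 : Led Lsl_ct (LP (LK LD1_c11 LD2_c20 LD3_c15)) = (LP (LK LD1_c5 LD2_c44 LD3_c59)) :=
  Lre_c IH (LK LD1_c11 LD2_c20 LD3_c15) (LK LD1_c5 LD2_c44 LD3_c59) Lrfl Lrfl
theorem f740279 : Led Lsl_at (LP (LK LD1_c20 LD2_c14 LD3_c55)) = (LP (LK LD1_c11 LD2_c20 LD3_c15)) :=
  Lgr Lrot107 (Lpe (f740269 IH) (Lpr_af (f740275 IH) (Lpe (f738277 IH) (Lpn (LP (LK LD1_c11 LD2_c20 LD3_c15))))))
theorem f720332 : Led Lsl_et (LP (LK LD1_c11 LD2_c18 LD3_c24)) = (LP (LK LD1_c20 LD2_c14 LD3_c55)) :=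
  Lre_e IH (LK LD1_c11 LD2_c18 LD3_c24) (LK LD1_c20 LD2_c14 LD3_c55) Lrfl Lrfl
theorem f642074 : Led Lsl_et (LP (LK LD1_c11 LD2_c20 LD3_c15)) = (LP (LK LD1_c5 LD2_c44 LD3_c57)) :=
  Lre_e IH (LK LD1_c11 LD2_c20 LD3_c15) (LK LD1_c5 LD2_c44 LD3_c57) Lrfl Lrfl
theorem f740284 : Led Lsl_af (LP (LK LD1_c11 LD2_c18 LD3_c24)) = (LP (LK LD1_c5 LD2_c44 LD3_c57)) :=
  Lgr Lrot50 (Lpr_et (f720332 IH) (Lpr_at (f740279 IH) (Lpr_et (f642074 IH) (Lpn (LP (LK LD1_c5 LD2_c44 LD3_c57))))))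
theorem f720317 : Led Lsl_ft (LP (LK LD1_c6 LD2_c1 LD3_c23)) = (LP (LK LD1_c11 LD2_c43 LD3_c37)) :=
  Lgr Lrot48 (Lpr_ff (K56.f720309 IH) (Lpn (LP (LK LD1_c11 LD2_c43 LD3_c37))))
theorem f641400 : Led Lsl_dt (LP (LK LD1_c11 LD2_c43 LD3_c37)) = (LP (LK LD1_c20 LD2_c44 LD3_c51)) :=
  Lre_d IH (LK LD1_c11 LD2_c43 LD3_c37) (LK LD1_c20 LD2_c44 LD3_c51) Lrfl Lrfl
theorem f720325 : Led Lsl_ff (LP (LK LD1_c11 LD2_c47 LD3_c24)) = (LP (LK LD1_c20 LD2_c44 LD3_c51)) :=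
  Lgr Lrot19 (Lpr_dt (K41.f564025 IH) (Lpr_ft (f720317 IH) (Lpr_dt (f641400 IH) (Lpn (LP (LK LD1_c20 LD2_c44 LD3_c51))))))
theorem f384018 : Led Lsl_dt (LP (LK LD1_c20 LD2_c44 LD3_c56)) = (LP (LK LD1_c11 LD2_c43 LD3_c43)) :=
  Lre_d IH (LK LD1_c20 LD2_c44 LD3_c56) (LK LD1_c11 LD2_c43 LD3_c43) Lrfl Lrfl
theorem f719967 : Led Lsl_at (LP (LK LD1_c11 LD2_c47 LD3_c24)) = (LP (LK LD1_c20 LD2_c44 LD3_c56)) :=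
  Lgr Lrot51 (Lpe (K41.f500852 IH) (Lpr_af (K56.f719962 IH) (Lpe (f384018 IH) (Lpn (LP (LK LD1_c20 LD2_c44 LD3_c56))))))
theorem f384019 : Led Lsl_dt (LP (LK LD1_c11 LD2_c43 LD3_c43)) = (LP (LK LD1_c20 LD2_c44 LD3_c56)) :=
  Lre_d IH (LK LD1_c11 LD2_c43 LD3_c43) (LK LD1_c20 LD2_c44 LD3_c56) Lrfl Lrfl
theorem f719959 : Led Lsl_ff (LP (LK LD1_c11 LD2_c47 LD3_c3)) = (LP (LK LD1_c20 LD2_c44 LD3_c56)) :=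
  Lgr Lrot19 (Lpr_dt (K53.f641550 IH) (Lpr_ft (K56.f719954 IH) (Lpr_dt (f384019 IH) (Lpn (LP (LK LD1_c20 LD2_c44 LD3_c56))))))
theorem f720333 : Led Lsl_at (LP (LK LD1_c11 LD2_c47 LD3_c3)) = (LP (LK LD1_c20 LD2_c44 LD3_c51)) :=
  Lgr Lrot66 (Lpr_ff (f719959 IH) (Lpe (f719967 IH) (Lpr_ff (f720325 IH) (Lpn (LP (LK LD1_c20 LD2_c44 LD3_c51))))))
theorem f74625 : Led Lsl_ct (LP (LK LD1_c11 LD2_c18 LD3_c24)) = (LP (LK LD1_c5 LD2_c44 LD3_c8)) :=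
  Lre_c IH (LK LD1_c11 LD2_c18 LD3_c24) (LK LD1_c5 LD2_c44 LD3_c8) Lrfl Lrfl
theorem f642164 : Led Lsl_dt (LP (LK LD1_c20 LD2_c44 LD3_c51)) = (LP (LK LD1_c11 LD2_c43 LD3_c37)) :=
  Lre_d IH (LK LD1_c20 LD2_c44 LD3_c51) (LK LD1_c11 LD2_c43 LD3_c37) Lrfl Lrfl
theorem f381990 : Led Lsl_dt (LP (LK LD1_c20 LD2_c14 LD3_c3)) = (LP (LK LD1_c29 LD2_c22 LD3_c12)) :=
  Lre_d IH (LK LD1_c20 LD2_c14 LD3_c3) (LK LD1_c29 LD2_c22 LD3_c12) Lrfl Lrfl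
theorem f707123 : Led Lsl_gf (LP (LK LD1_c20 LD2_c44 LD3_c51)) = (LP (LK LD1_c29 LD2_c22 LD3_c12)) :=
  Lgr Lrot143 (Lpr_dt (f642164 IH) (Lpe (K56.f641399 IH) (Lpe (K53.f76003 IH) (Lpe (K53.f75996 IH) (Lpe (K51.f74621 IH) (Lpe (K52.f74620 IH) (Lpe (f74625 IH) (Lpr_gt (K51.f707121 IH) (Lpr_dt (f381990 IH) (Lpn (LP (LK LD1_c29 LD2_c22 LD3_c12))))))))))))
theorem f720340 : Led Lsl_gt (LP (LK LD1_c20 LD2_c44 LD3_c56)) = (LP (LK LD1_c29 LD2_c22 LD3_c12)) :=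
  Lgr Lrot5 (Lpe (f719959 IH) (Lpr_at (f720333 IH) (Lpr_gf (f707123 IH) (Lpn (LP (LK LD1_c29 LD2_c22 LD3_c12))))))
theorem f384020 : Led Lsl_gt (LP (LK LD1_c29 LD2_c22 LD3_c27)) = (LP (LK LD1_c20 LD2_c44 LD3_c56)) :=
  Lre_g IH (LK LD1_c29 LD2_c22 LD3_c27) (LK LD1_c20 LD2_c44 LD3_c56) Lrfl Lrfl
theorem f555992 : Led Lsl_af (LP (LK LD1_c5 LD2_c44 LD3_c13)) = (LP (LK LD1_c11 LD2_c17 LD3_c54)) :=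
  Lgr Lrot68 (Lpe (K35.f424395 IH) (Lpr_at (K39.f555988 IH) (Lpe (K39.f424032 IH) (Lpn (LP (LK LD1_c11 LD2_c17 LD3_c54))))))
theorem f555986 : Led Lsl_ft (LP (LK LD1_c5 LD2_c44 LD3_c13)) = (LP (LK LD1_c11 LD2_c17 LD3_c55)) :=
  Lgr Lrot4 (Lpe (K35.f424389 IH) (Lpr_ff (K39.f555972 IH) (Lpe (K30.f382427 IH) (Lpn (LP (LK LD1_c11 LD2_c17 LD3_c55))))))
theorem f556033 : Led Lsl_af (LP (LK LD1_c5 LD2_c44 LD3_c14)) = (LP (LK LD1_c11 LD2_c17 LD3_c55)) :=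
  Lgr Lrot45 (Lpr_ft (K39.f556031 IH) (Lpe (f555992 IH) (Lpr_ft (f555986 IH) (Lpn (LP (LK LD1_c11 LD2_c17 LD3_c55))))))
theorem f381539 : Led Lsl_et (LP (LK LD1_c5 LD2_c44 LD3_c14)) = (LP (LK LD1_c11 LD2_c18 LD3_c33)) :=
  Lre_e IH (LK LD1_c5 LD2_c44 LD3_c14) (LK LD1_c11 LD2_c18 LD3_c33) Lrfl Lrfl
theorem f381994 : Led Lsl_et (LP (LK LD1_c20 LD2_c14 LD3_c3)) = (LP (LK LD1_c11 LD2_c17 LD3_c55)) :=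
  Lre_e IH (LK LD1_c20 LD2_c14 LD3_c3) (LK LD1_c11 LD2_c17 LD3_c55) Lrfl Lrfl
theorem f619013 : Led Lsl_at (LP (LK LD1_c11 LD2_c18 LD3_c33)) = (LP (LK LD1_c20 LD2_c14 LD3_c3)) :=
  Lgr Lrot80 (Lpe (f381539 IH) (Lpr_af (f556033 IH) (Lpe (f381994 IH) (Lpn (LP (LK LD1_c20 LD2_c14 LD3_c3))))))
theorem f381527 : Led Lsl_dt (LP (LK LD1_c20 LD2_c15 LD3_c3)) = (LP (LK LD1_c11 LD2_c18 LD3_c33)) :=
  Lre_d IH (LK LD1_c20 LD2_c15 LD3_c3) (LK LD1_c11 LD2_c18 LD3_c33) Lrfl Lrfl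
theorem f619018 : Led Lsl_af (LP (LK LD1_c20 LD2_c15 LD3_c3)) = (LP (LK LD1_c29 LD2_c22 LD3_c12)) :=
  Lgr Lrot117 (Lpr_dt (f381527 IH) (Lpr_at (f619013 IH) (Lpr_dt (f381990 IH) (Lpn (LP (LK LD1_c29 LD2_c22 LD3_c12))))))
theorem f619020 : Led Lsl_at (LP (LK LD1_c20 LD2_c15 LD3_c3)) = (LP (LK LD1_c29 LD2_c22 LD3_c12)) :=
  Lgr Lrot100 (Lpr_af (f619018 IH) (Lpn (LP (LK LD1_c29 LD2_c22 LD3_c12))))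
theorem f720342 : Led Lsl_ft (LP (LK LD1_c29 LD2_c22 LD3_c27)) = (LP (LK LD1_c20 LD2_c15 LD3_c3)) :=
  Lgr Lrot2 (Lpr_gt (f384020 IH) (Lpr_gt (f720340 IH) (Lpe (f619020 IH) (Lpn (LP (LK LD1_c20 LD2_c15 LD3_c3))))))
theorem f720348 : Led Lsl_ff (LP (LK LD1_c29 LD2_c22 LD3_c27)) = (LP (LK LD1_c20 LD2_c15 LD3_c3)) :=
  Lgr Lrot3 (Lpr_ft (f720342 IH) (Lpn (LP (LK LD1_c20 LD2_c15 LD3_c3))))
theorem f720337 : Led Lsl_dt (LP (LK LD1_c29 LD2_c22 LD3_c27)) = (LP (LK LD1_c20 LD2_c14 LD3_c50)) :=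
  Lre_d IH (LK LD1_c29 LD2_c22 LD3_c27) (LK LD1_c20 LD2_c14 LD3_c50) Lrfl Lrfl
theorem f381551 : Led Lsl_dt (LP (LK LD1_c11 LD2_c18 LD3_c33)) = (LP (LK LD1_c20 LD2_c15 LD3_c3)) :=
  Lre_d IH (LK LD1_c11 LD2_c18 LD3_c33) (LK LD1_c20 LD2_c15 LD3_c3) Lrfl Lrfl
theorem f720350 : Led Lsl_ft (LP (LK LD1_c20 LD2_c14 LD3_c50)) = (LP (LK LD1_c11 LD2_c18 LD3_c33)) :=
  Lgr Lrot54 (Lpe (f720337 IH) (Lpr_ff (f720348 IH) (Lpe (f381551 IH) (Lpn (LP (LK LD1_c11 LD2_c18 LD3_c33))))))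
theorem f720352 : Led Lsl_gt (LP (LK LD1_c20 LD2_c14 LD3_c50)) = (LP (LK LD1_c11 LD2_c18 LD3_c24)) :=
  Lgr Lrot5 (Lpr_ft (f720350 IH) (Lpr_at (f619013 IH) (Lpe (K51.f707121 IH) (Lpn (LP (LK LD1_c11 LD2_c18 LD3_c24))))))
theorem f384022 : Led Lsl_gt (LP (LK LD1_c11 LD2_c18 LD3_c20)) = (LP (LK LD1_c20 LD2_c14 LD3_c50)) :=
  Lre_g IH (LK LD1_c11 LD2_c18 LD3_c20) (LK LD1_c20 LD2_c14 LD3_c50) Lrfl Lrfl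
theorem f740292 : Led Lsl_ft (LP (LK LD1_c11 LD2_c18 LD3_c20)) = (LP (LK LD1_c5 LD2_c44 LD3_c57)) :=
  Lgr Lrot2 (Lpr_gt (f384022 IH) (Lpr_gt (f720352 IH) (Lpr_af (f740284 IH) (Lpn (LP (LK LD1_c5 LD2_c44 LD3_c57))))))
theorem f645020 : Led Lsl_dt (LP (LK LD1_c20 LD2_c14 LD3_c51)) = (LP (LK LD1_c11 LD2_c18 LD3_c20)) :=
  Lre_d IH (LK LD1_c20 LD2_c14 LD3_c51) (LK LD1_c11 LD2_c18 LD3_c20) Lrfl Lrfl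
theorem f641624 : Led Lsl_dt (LP (LK LD1_c5 LD2_c44 LD3_c57)) = (LP (LK LD1_c11 LD2_c20 LD3_c14)) :=
  Lre_d IH (LK LD1_c5 LD2_c44 LD3_c57) (LK LD1_c11 LD2_c20 LD3_c14) Lrfl Lrfl
theorem f740294 : Led Lsl_ff (LP (LK LD1_c20 LD2_c14 LD3_c51)) = (LP (LK LD1_c11 LD2_c20 LD3_c14)) :=
  Lgr Lrot19 (Lpr_dt (f645020 IH) (Lpr_ft (f740292 IH) (Lpr_dt (f641624 IH) (Lpn (LP (LK LD1_c11 LD2_c20 LD3_c14))))))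
theorem f740301 : Led Lsl_at (LP (LK LD1_c20 LD2_c14 LD3_c51)) = (LP (LK LD1_c11 LD2_c20 LD3_c0)) :=
  Lgr Lrot33 (Lpr_ff (f740294 IH) (Lpr_dt (K55.f616290 IH) (Lpr_ct (K55.f616291 IH) (Lpr_dt (K41.f75877 IH) (Lpr_ct (K41.f76018 IH) (Lpr_dt (K41.f76025 IH) (Lpr_ct (K41.f641571 IH) (Lpe (K41.f641580 IH) (Lpr_ct (K41.f638995 IH) (Lpn (LP (LK LD1_c11 LD2_c20 LD3_c0))))))))))))
theorem f74615 : Led Lsl_dt (LP (LK LD1_c11 LD2_c18 LD3_c24)) = (LP (LK LD1_c20 LD2_c14 LD3_c54)) :=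
  Lre_d IH (LK LD1_c11 LD2_c18 LD3_c24) (LK LD1_c20 LD2_c14 LD3_c54) Lrfl Lrfl
theorem f740290 : Led Lsl_at (LP (LK LD1_c20 LD2_c14 LD3_c54)) = (LP (LK LD1_c11 LD2_c20 LD3_c14)) :=
  Lgr Lrot51 (Lpe (f74615 IH) (Lpr_af (f740284 IH) (Lpe (K55.f616290 IH) (Lpn (LP (LK LD1_c11 LD2_c20 LD3_c14))))))
theorem f740308 : Led Lsl_ff (LP (LK LD1_c20 LD2_c14 LD3_c54)) = (LP (LK LD1_c11 LD2_c20 LD3_c0)) :=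
  Lgr Lrot30 (Lpr_at (f740290 IH) (Lpe (f740294 IH) (Lpr_at (f740301 IH) (Lpn (LP (LK LD1_c11 LD2_c20 LD3_c0))))))
theorem f74626 : Led Lsl_dt (LP (LK LD1_c20 LD2_c14 LD3_c54)) = (LP (LK LD1_c11 LD2_c18 LD3_c24)) :=
  Lre_d IH (LK LD1_c20 LD2_c14 LD3_c54) (LK LD1_c11 LD2_c18 LD3_c24) Lrfl Lrfl
theorem f641618 : Led Lsl_dt (LP (LK LD1_c5 LD2_c44 LD3_c53)) = (LP (LK LD1_c11 LD2_c20 LD3_c0)) :=
  Lre_d IH (LK LD1_c5 LD2_c44 LD3_c53) (LK LD1_c11 LD2_c20 LD3_c0) Lrfl Lrfl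
theorem f740316 : Led Lsl_ft (LP (LK LD1_c11 LD2_c18 LD3_c24)) = (LP (LK LD1_c5 LD2_c44 LD3_c53)) :=
  Lgr Lrot54 (Lpe (f74626 IH) (Lpr_ff (f740308 IH) (Lpe (f641618 IH) (Lpn (LP (LK LD1_c5 LD2_c44 LD3_c53))))))
theorem f645022 : Led Lsl_dt (LP (LK LD1_c11 LD2_c18 LD3_c20)) = (LP (LK LD1_c20 LD2_c14 LD3_c51)) :=
  Lre_d IH (LK LD1_c11 LD2_c18 LD3_c20) (LK LD1_c20 LD2_c14 LD3_c51) Lrfl Lrfl
theorem f740305 : Led Lsl_af (LP (LK LD1_c11 LD2_c18 LD3_c20)) = (LP (LK LD1_c5 LD2_c44 LD3_c53)) :=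
  Lgr Lrot117 (Lpr_dt (f645022 IH) (Lpr_at (f740301 IH) (Lpr_dt (K41.f638994 IH) (Lpn (LP (LK LD1_c5 LD2_c44 LD3_c53))))))
theorem f740336 : Led Lsl_gt (LP (LK LD1_c20 LD2_c14 LD3_c3)) = (LP (LK LD1_c11 LD2_c18 LD3_c20)) :=
  Lgr Lrot46 (Lpe (K51.f707121 IH) (Lpr_ft (f740316 IH) (Lpe (f740305 IH) (Lpn (LP (LK LD1_c11 LD2_c18 LD3_c20))))))
theorem f640818 : Led Lsl_gt (LP (LK LD1_c12 LD2_c4 LD3_c39)) = (LP (LK LD1_c9 LD2_c0 LD3_c15)) :=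
  Lgr Lrot112 (Lpr_df (K51.f640816 IH) (Lpr_et (K51.f452213 IH) (Lpe (K41.f22788 IH) (Lpe (K50.f452212 IH) (Lpr_dt (K36.f452211 IH) (Lpq (K36.f537116 IH) (Lpr_gf (K35.f448960 IH) (Lpqs (K36.f536912 IH) (Lpe (K54.f58889 IH) (Lpe (K28.f58862 IH) (Lpe (K50.f203174 IH) (Lpr_dt (K50.f555982 IH) (Lpn (LP (LK LD1_c9 LD2_c0 LD3_c15)))))))))))))))
theorem f40927 : Led Lsl_ct (LP (LK LD1_c7 LD2_c59 LD3_c47)) = (LP (LK LD1_c15 LD2_c4 LD3_c34)) :=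
  Lre_c IH (LK LD1_c7 LD2_c59 LD3_c47) (LK LD1_c15 LD2_c4 LD3_c34) Lrfl Lrfl
theorem f416275 : Led Lsl_ct (LP (LK LD1_c9 LD2_c46 LD3_c42)) = (LP (LK LD1_c4 LD2_c57 LD3_c55)) :=
  Lre_c IH (LK LD1_c9 LD2_c46 LD3_c42) (LK LD1_c4 LD2_c57 LD3_c55) Lrfl Lrfl
theorem f503905 : Led Lsl_ft (LP (LK LD1_c15 LD2_c4 LD3_c34)) = (LP (LK LD1_c9 LD2_c46 LD3_c42)) :=
  Lgr Lrot4 (Lpe (f40927 IH) (Lpr_ff (K51.f503813 IH) (Lpe (f416275 IH) (Lpn (LP (LK LD1_c9 LD2_c46 LD3_c42))))))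

end

end K65

end

end Cfsg.Agent.Helper28.S1692
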